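import Mathlib
import Cfsg.Agent.Lib.SelfCentE8Sixteen94

/-!
A pair `(U, a)` with `U` of order 8 in a 2-group without normal elementary abelian subgroups of
larger order: the centraliser of a maximal normal abelian subgroup of exponent 4 is abelian with
cyclic quotient by `U`, and subgroups have at most 16 cosets modulo their squares.
-/

set_option autoImplicit false
set_option linter.unusedSectionVars false
set_option linter.unusedVariables false
set_option linter.style.haveILetI false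

open Subgroup

namespace Cfsg.Agent.SelfCentE8Small94

open SelfCentE8Base94

variable {P : Type*} [Group P]

/-- The data: a maximal normal abelian subgroup `M ≥ U` of exponent 4, not equal to `U`. -/
structure Data (p : Pair P) where
  M : Subgroup P
  normal : M.Normal
  comm : ∀ x ∈ M, ∀ y ∈ M, x * y = y * x
  expFour : ∀ m ∈ M, m ^ 4 = 1
  U_le : p.U ≤ M
  omega : ∀ m ∈ M, m * m = 1 → m ∈ p.U
  alperin : ∀ x ∈ centralizer (M : Set P), x ^ 4 = 1 → x ∈ M
  c : P
  cM : c ∈ M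
  c2 : c * c ≠ 1

variable {p : Pair P} (s : Data p)

/-- The centraliser of `M`. -/
def Data.C : Subgroup P := centralizer (s.M : Set P)

theorem C_normal : s.C.Normal := by
  haveI := s.normal
  exact inferInstanceAs (centralizer (s.M : Set P)).Normal

theorem mem_C {x : P} : x ∈ s.C ↔ ∀ m ∈ s.M, m * x = x * m := mem_centralizer_iff

theorem M_le_C : s.M ≤ s.C := fun m hm => (mem_C s).mpr fun x hx => s.comm x hx m hm

theorem C_le_B : s.C ≤ p.B := fun x hx => (mem_B p).mpr fun u hu => (mem_C s).mp hx u (s.U_le hu)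

theorem U_le_C : p.U ≤ s.C := s.U_le.trans (M_le_C s)

theorem aa_cancel (x : P) : p.a * (p.a * x * p.a) * p.a = x := by
  rw [show p.a * (p.a * x * p.a) * p.a = (p.a * p.a) * x * (p.a * p.a) by group, p.a2, one_mul,
    mul_one]

theorem conj_a_mul (x y : P) : p.a * (x * y) * p.a = (p.a * x * p.a) * (p.a * y * p.a) := by
  rw [show (p.a * x * p.a) * (p.a * y * p.a) = p.a * x * (p.a * p.a) * y * p.a by group, p.a2,
    mul_one]
  group

theorem conj_a_inv (x : P) : p.a * x⁻¹ * p.a = (p.a * x * p.a)⁻¹ := by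
  rw [mul_inv_rev, mul_inv_rev, inv_of_sq p.a2, mul_assoc]

theorem conj_a_mem {N : Subgroup P} (hN : N.Normal) {x : P} (hx : x ∈ N) : p.a * x * p.a ∈ N := by
  have := hN.conj_mem x hx p.a
  rwa [inv_of_sq p.a2] at this

variable [Finite P]

theorem fixed_comm {x : P} (h : p.a * x * p.a = x) : x * p.a = p.a * x :=
  SelfCentE8Sixteen94.fixed_comm p h

theorem fixed_C {x : P} (hx : x ∈ s.C) (h : p.a * x * p.a = x) : x ∈ p.F :=
  self_B p (fixed_comm h) (C_le_B s hx)

theorem F_sq {e : P} (he : e ∈ p.F) : e * e = 1 := p.sq e (F_le_U p he)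

theorem card_U (h8 : Nat.card p.U = 8) : Nat.card p.comHom.range = 2 := by
  have := card_range p
  omega

theorem sq_fixed {m : P} (hm : m ∈ s.M) : m * m ∈ p.F := by
  have hma := conj_a_mem (p := p) s.normal hm
  have hc := s.comm m hm _ hma
  have ht : m * (p.a * m * p.a) ∈ p.F := by
    refine fixed_C s (M_le_C s (mul_mem hm hma)) ?_
    rw [conj_a_mul, aa_cancel, hc]
  have h1 := F_sq ht
  have h4 : m * m * (m * m) = 1 := by rw [← TwoCentral94.pow_four]; exact s.expFour m hm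
  have hU : m * m ∈ p.U := s.omega _ (mul_mem hm hm) h4
  refine (mem_F p).mpr ⟨hU, fixed_comm ?_⟩
  rw [conj_a_mul]
  have h2 : m * m * ((p.a * m * p.a) * (p.a * m * p.a)) = 1 := by
    rw [← h1]
    calc m * m * ((p.a * m * p.a) * (p.a * m * p.a))
        = m * (m * (p.a * m * p.a)) * (p.a * m * p.a) := by group
      _ = m * ((p.a * m * p.a) * m) * (p.a * m * p.a) := by rw [hc]
      _ = _ := by group
  rw [← inv_eq_of_mul_eq_one_right h2]
  exact inv_eq_of_mul_eq_one_right h4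

/-- `[m, a]` for `m ∈ M`. -/
theorem del_M {m : P} (hm : m ∈ s.M) : m⁻¹ * (p.a * m * p.a) ∈ p.F := by
  have hma := conj_a_mem (p := p) s.normal hm
  have hmm : (p.a * m * p.a) * (p.a * m * p.a) = m * m := by
    rw [← conj_a_mul]; exact F_fix p (sq_fixed s hm)
  have hU : m⁻¹ * (p.a * m * p.a) ∈ p.U := by
    refine s.omega _ (mul_mem (inv_mem hm) hma) ?_
    have hc := s.comm _ hma m⁻¹ (inv_mem hm)
    calc m⁻¹ * (p.a * m * p.a) * (m⁻¹ * (p.a * m * p.a))
        = m⁻¹ * ((p.a * m * p.a) * m⁻¹) * (p.a * m * p.a) := by group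
      _ = m⁻¹ * m⁻¹ * ((p.a * m * p.a) * (p.a * m * p.a)) := by rw [hc]; group
      _ = 1 := by rw [hmm]; group
  exact SelfCentE8Sixteen94.fixed_mem_F p hU (SelfCentE8Sixteen94.inverted_comm p m)

theorem del_M_notMem {m : P} (hm : m ∈ s.M) (hm2 : m * m ≠ 1) :
    m⁻¹ * (p.a * m * p.a) ∉ p.comHom.range := by
  rintro ⟨u, hu⟩
  have he : (u : P) * (p.a * u * p.a) = m⁻¹ * (p.a * m * p.a) := hu
  have hfix : p.a * (m * u) * p.a = m * u := by
    rw [conj_a_mul, show p.a * m * p.a = m * (m⁻¹ * (p.a * m * p.a)) by group, ← he]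
    calc m * ((u : P) * (p.a * u * p.a)) * (p.a * u * p.a)
        = m * u * ((p.a * u * p.a) * (p.a * u * p.a)) := by group
      _ = m * u := by rw [p.sq _ (aU_mem p u.2), mul_one]
  have := F_le_U p (fixed_C s (M_le_C s (mul_mem hm (s.U_le u.2))) hfix)
  exact hm2 (p.sq m ((Subgroup.mul_mem_cancel_right _ u.2).mp this))

section eight

variable (h8 : Nat.card p.U = 8)

include h8 in
theorem exists_f : ∃ f, f ≠ 1 ∧ f ∈ p.comHom.range ∧ ∀ x ∈ p.comHom.range, x = 1 ∨ x = f := by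
  have h2 := card_U h8
  obtain ⟨f, hf1⟩ : ∃ f : p.comHom.range, f ≠ 1 := by
    haveI : Nontrivial p.comHom.range := Finite.one_lt_card_iff_nontrivial.mp (by omega)
    exact exists_ne 1
  refine ⟨f, fun h => hf1 (Subtype.ext h), f.2, fun x hx => ?_⟩
  by_contra hcon
  push_neg at hcon
  have := three_in (one_mem _) f.2 hx (fun h => hf1 (Subtype.ext h.symm)) (Ne.symm hcon.1) (Ne.symm hcon.2)
  omega

include h8 in
theorem range_prod {x y : P} (hx : x ∈ p.F) (hy : y ∈ p.F) (hxr : x ∉ p.comHom.range)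
    (hyr : y ∉ p.comHom.range) : x * y ∈ p.comHom.range := by
  obtain ⟨f, hf1, hf, hall⟩ := exists_f h8 (p := p)
  have hfF := range_comHom_le p hf
  have hx1 : x ≠ 1 := fun h => hxr (h ▸ one_mem _)
  have hxf : x ≠ f := fun h => hxr (h ▸ hf)
  have hfx : f * x ≠ 1 := fun h => hxf (by
    rw [← inv_of_sq (F_sq hfF)]; exact eq_inv_of_mul_eq_one_right h)
  rcases four_list (card_F p) hfF hx hy hf1 hx1 hxf hfx with rfl | rfl | rfl | rfl
  · exact absurd (one_mem _) hyr
  · exact absurd hf hyr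
  · rw [F_sq hx]; exact one_mem _
  · have hc := comm_of_sq p.sq (F_le_U p hfF) (F_le_U p hx)
    rw [hc, ← mul_assoc, F_sq hx, one_mul]; exact hf

include h8 in
theorem sq_eq {m : P} (hm : m ∈ s.M) (hm2 : m * m ≠ 1) : m * m = s.c * s.c := by
  by_contra hne
  have hc := s.comm m hm s.c s.cM
  have hsq : m * s.c * (m * s.c) = m * m * (s.c * s.c) := by
    calc m * s.c * (m * s.c) = m * (s.c * m) * s.c := by group
      _ = m * (m * s.c) * s.c := by rw [← hc]
      _ = _ := by group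
  have hne1 : m * s.c * (m * s.c) ≠ 1 := fun h => hne (by
    rw [hsq] at h
    rw [eq_inv_of_mul_eq_one_left h]
    exact inv_eq_of_mul_eq_one_right (by rw [← TwoCentral94.pow_four]; exact s.expFour _ s.cM))
  refine del_M_notMem s (mul_mem hm s.cM) hne1 ?_
  have h1 := range_prod h8 (del_M s hm) (del_M s s.cM) (del_M_notMem s hm hm2)
    (del_M_notMem s s.cM s.c2)
  have e : (m * s.c)⁻¹ * (p.a * (m * s.c) * p.a) =
      m⁻¹ * (p.a * m * p.a) * (s.c⁻¹ * (p.a * s.c * p.a)) := by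
    rw [conj_a_mul, mul_inv_rev]
    have h2 := s.comm _ (inv_mem s.cM) _ (mul_mem (inv_mem hm) (conj_a_mem (p := p) s.normal hm))
    calc s.c⁻¹ * m⁻¹ * ((p.a * m * p.a) * (p.a * s.c * p.a))
        = (s.c⁻¹ * (m⁻¹ * (p.a * m * p.a))) * (p.a * s.c * p.a) := by group
      _ = _ := by rw [h2]; group
  rw [e]; exact h1

include h8 in
theorem z_central (g : P) : g * (s.c * s.c) = s.c * s.c * g := by
  have hm := s.normal.conj_mem s.c s.cM g
  have e : g * (s.c * s.c) * g⁻¹ = g * s.c * g⁻¹ * (g * s.c * g⁻¹) := by group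
  have h1 := sq_eq s h8 hm (by rw [← e]; exact fun h => s.c2 (conj_eq_one_iff.mp h))
  rw [← e] at h1
  exact mul_inv_eq_iff_eq_mul.mp h1

/-- Every element of order dividing 4 is central in `C`. -/
theorem hyp_C : TwoCentral94.Hyp s.C := by
  intro x hx
  have hM : (x : P) ∈ s.M := s.alperin x x.2 (by simpa using congrArg Subtype.val hx)
  exact mem_center_iff.mpr fun y => Subtype.ext ((mem_C s).mp y.2 x hM).symm

theorem omega_C {x : s.C} : x ∈ TwoCentral94.omega (hyp_C s) ↔ (x : P) ∈ p.U := by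
  refine ⟨fun h => ?_, fun h => Subtype.ext (p.sq _ h)⟩
  have h1 : (x : P) * x = 1 := congrArg Subtype.val h
  exact s.omega _ (s.alperin _ x.2 (TwoCentral94.four_of_two h1)) h1

include h8 in
theorem cyclic_quotient : IsCyclic (s.C ⧸ TwoCentral94.omega (hyp_C s)) := by
  have hP : IsPGroup 2 s.C := p.hP.to_subgroup _
  refine TwoCentral94.isCyclic_of_card_omega_aux _ _ rfl (TwoCentral94.hyp_quotient (hyp_C s) hP)
    (hP.to_quotient _) ((TwoCentral94.card_omega_quotient (hyp_C s) _).trans ?_)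
  have hsub : ∀ y ∈ (TwoCentral94.sqHom (hyp_C s)).range, (y : P) = 1 ∨ (y : P) = s.c * s.c := by
    rintro _ ⟨x, rfl⟩
    have hxM : ((x : s.C) : P) ∈ s.M := s.alperin _ (x : s.C).2 (by
      have := congrArg Subtype.val x.2
      simpa using this)
    by_cases h : ((x : s.C) : P) * (x : s.C) = 1
    · exact Or.inl h
    · exact Or.inr (sq_eq s h8 hxM h)
  have h1 : ((fun y : (TwoCentral94.sqHom (hyp_C s)).range => ((y : s.C) : P)) '' Set.univ).ncard ≤ 2 := by
    refine (Set.ncard_le_ncard (t := {1, s.c * s.c}) ?_ (Set.toFinite _)).trans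
      ((Set.ncard_insert_le _ _).trans (by rw [Set.ncard_singleton]))
    rintro _ ⟨y, -, rfl⟩
    exact hsub _ y.2
  rwa [Set.ncard_image_of_injective _ (fun a b e => Subtype.ext (Subtype.ext e)), Set.ncard_univ] at h1

include h8 in
theorem C_comm {x y : P} (hx : x ∈ s.C) (hy : y ∈ s.C) : x * y = y * x :=
  congrArg Subtype.val
    (TwoCentral94.comm_of_quotient_cyclic (hyp_C s) (cyclic_quotient s h8) ⟨x, hx⟩ ⟨y, hy⟩)

/-- Values of `[·, a]` on `C`. -/
def Data.Im : Set P := {e | ∃ x ∈ s.C, e = x⁻¹ * (p.a * x * p.a)}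

include h8 in
theorem Im_mul {x y : P} (hx : x ∈ s.Im) (hy : y ∈ s.Im) : x * y ∈ s.Im := by
  obtain ⟨u, hu, rfl⟩ := hx
  obtain ⟨v, hv, rfl⟩ := hy
  refine ⟨u * v, mul_mem hu hv, ?_⟩
  have hc := C_comm s h8 (inv_mem hv) (mul_mem (inv_mem hu) (conj_a_mem (p := p) (C_normal s) hu))
  rw [conj_a_mul, mul_inv_rev]
  calc u⁻¹ * (p.a * u * p.a) * (v⁻¹ * (p.a * v * p.a))
      = (u⁻¹ * (p.a * u * p.a) * v⁻¹) * (p.a * v * p.a) := by group
    _ = _ := by rw [← hc]; group

include h8 in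
theorem Im_inv {x : P} (hx : x ∈ s.Im) : x⁻¹ ∈ s.Im := by
  obtain ⟨u, hu, rfl⟩ := hx
  refine ⟨u⁻¹, inv_mem hu, ?_⟩
  have hc := C_comm s h8 (inv_mem (conj_a_mem (p := p) (C_normal s) hu)) hu
  rw [mul_inv_rev, inv_inv, conj_a_inv, hc]

include h8 in
theorem F_le_Im {e : P} (he : e ∈ p.F) : e ∈ s.Im := by
  have hr : ∀ x ∈ p.comHom.range, x ∈ s.Im := by
    rintro _ ⟨u, rfl⟩
    refine ⟨u, U_le_C s u.2, ?_⟩
    show (u : P) * (p.a * u * p.a) = _
    rw [inv_of_sq (p.sq u u.2)]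
  by_cases her : e ∈ p.comHom.range
  · exact hr e her
  · have hd : s.c⁻¹ * (p.a * s.c * p.a) ∈ s.Im := ⟨s.c, M_le_C s s.cM, rfl⟩
    have h1 := range_prod h8 he (del_M s s.cM) her (del_M_notMem s s.cM s.c2)
    have h2 := Im_mul s h8 (hr _ h1) (Im_inv s h8 hd)
    rwa [mul_inv_cancel_right] at h2

include h8 in
/-- An inverted element outside `Im` generates `C` modulo `U`. -/
theorem generates {r : P} (hr : r ∈ s.C) (hinv : p.a * r * p.a = r⁻¹) (hrI : r ∉ s.Im)
    {x : P} (hx : x ∈ s.C) : ∃ i : ℕ, ∃ u ∈ p.U, x = r ^ i * u := by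
  obtain ⟨q, hq⟩ := (cyclic_quotient s h8).exists_generator
  obtain ⟨j, hj⟩ := (isOfFinOrder_of_finite q).mem_powers_iff_mem_zpowers.mpr
    (hq (QuotientGroup.mk ⟨r, hr⟩))
  simp only at hj
  obtain ⟨k, hk⟩ := (p.hP.to_subgroup s.C).to_quotient (TwoCentral94.omega (hyp_C s)) q
  have hodd : ¬ 2 ∣ j := by
    rintro ⟨i, rfl⟩
    obtain ⟨t0, ht0⟩ := QuotientGroup.mk_surjective q
    set t := ((t0 ^ i : s.C) : P) with ht
    have htC : t ∈ s.C := (t0 ^ i).2
    have htt : (t * t)⁻¹ * r ∈ p.U := by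
      rw [two_mul, pow_add, ← ht0, ← QuotientGroup.mk_pow, ← QuotientGroup.mk_mul,
        QuotientGroup.eq] at hj
      have := (omega_C s).mp hj
      simpa [ht] using this
    set u := (t * t)⁻¹ * r with hu
    have hta := conj_a_mem (p := p) (C_normal s) htC
    have he : t * (p.a * t * p.a) ∈ p.F := by
      refine fixed_C s (mul_mem htC hta) ?_
      rw [conj_a_mul, aa_cancel, C_comm s h8 hta htC]
    set e := t * (p.a * t * p.a) with he'
    have hat : p.a * t * p.a = t⁻¹ * e := by rw [he']; group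
    have hee := F_sq he
    have hat2 : p.a * (t * t) * p.a = (t * t)⁻¹ := by
      rw [conj_a_mul, hat]
      have hc := C_comm s h8 (inv_mem htC) (U_le_C s (F_le_U p he))
      calc t⁻¹ * e * (t⁻¹ * e) = t⁻¹ * (e * t⁻¹) * e := by group
        _ = t⁻¹ * t⁻¹ * (e * e) := by rw [← hc]; group
        _ = _ := by rw [hee]; group
    have hua : u * p.a = p.a * u := by
      refine fixed_comm ?_
      have hr' : r = t * t * u := by rw [hu]; group
      rw [hr', conj_a_mul, hat2, mul_inv_rev (t * t) u, inv_of_sq (p.sq u htt),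
        C_comm s h8 (U_le_C s htt) (inv_mem (mul_mem htC htC))] at hinv
      exact mul_left_cancel hinv
    refine hrI ?_
    have h1 : t * t * e ∈ s.Im := by
      refine ⟨t⁻¹, inv_mem htC, ?_⟩
      rw [inv_inv, conj_a_inv, hat, mul_inv_rev, inv_inv, inv_of_sq hee]
      rw [C_comm s h8 (U_le_C s (F_le_U p he)) htC, mul_assoc]
    have h2 := Im_mul s h8 h1 (F_le_Im s h8 (mul_mem he ((mem_F p).mpr ⟨htt, hua⟩)))
    rwa [show t * t * e * (e * u) = r by
      rw [mul_assoc, ← mul_assoc e, hee, one_mul, hu]; group] at h2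
  have hcop : (orderOf q).Coprime j := by
    obtain ⟨l, -, hl⟩ := (Nat.dvd_prime_pow Nat.prime_two).mp (orderOf_dvd_of_pow_eq_one hk)
    rw [hl]
    exact Nat.Coprime.pow_left _ ((Nat.prime_two.coprime_iff_not_dvd).mpr hodd)
  have hgen : zpowers (q ^ j) = zpowers q := by
    refine Subgroup.eq_of_le_of_card_ge (zpowers_le.mpr (npow_mem_zpowers q j)) ?_
    rw [Nat.card_zpowers, Nat.card_zpowers, hcop.orderOf_pow]
  have hxq : (QuotientGroup.mk ⟨x, hx⟩ : s.C ⧸ TwoCentral94.omega (hyp_C s)) ∈ zpowers (q ^ j) :=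
    hgen ▸ hq _
  obtain ⟨i, hi⟩ := (isOfFinOrder_of_finite _).mem_powers_iff_mem_zpowers.mpr hxq
  simp only at hi
  refine ⟨i, (r ^ i)⁻¹ * x, ?_, by group⟩
  rw [hj, ← QuotientGroup.mk_pow, QuotientGroup.eq] at hi
  have := (omega_C s).mp hi
  simpa using this

include h8 in
theorem inv_prod {r r' : P} (hr : r ∈ s.C) (hinv : p.a * r * p.a = r⁻¹) (hrI : r ∉ s.Im)
    (hr' : r' ∈ s.C) (hinv' : p.a * r' * p.a = r'⁻¹) (hrI' : r' ∉ s.Im) : r * r' ∈ s.Im := by
  obtain ⟨i, u, hu, rfl⟩ := generates s h8 hr hinv hrI hr'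
  have hpow : ∀ k : ℕ, p.a * r ^ k * p.a = (r ^ k)⁻¹ := by
    intro k
    have h := (conj_pow (i := k) (a := p.a) (b := r)).symm
    rw [inv_of_sq p.a2] at h
    rw [h, hinv, inv_pow]
  have huF : u ∈ p.F := by
    refine (mem_F p).mpr ⟨hu, fixed_comm ?_⟩
    rw [conj_a_mul, hpow, mul_inv_rev, inv_of_sq (p.sq u hu),
      C_comm s h8 (U_le_C s hu) (inv_mem (pow_mem hr i))] at hinv'
    exact mul_left_cancel hinv'
  have heven : ∀ k : ℕ, r ^ (2 * k) ∈ s.Im := fun k => by
    refine ⟨(r ^ k)⁻¹, inv_mem (pow_mem hr k), ?_⟩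
    rw [inv_inv, conj_a_inv, hpow, inv_inv, two_mul, pow_add]
  rcases Nat.even_or_odd i with ⟨k, hk⟩ | ⟨k, hk⟩
  · refine absurd (Im_mul s h8 ?_ (F_le_Im s h8 huF)) hrI'
    rw [hk, ← two_mul]; exact heven k
  · rw [← mul_assoc, ← pow_succ']
    refine Im_mul s h8 ?_ (F_le_Im s h8 huF)
    rw [hk, show 2 * k + 1 + 1 = 2 * (k + 1) by ring]
    exact heven _

include h8 in
/-- The element of order 4 in a generating inverted element. -/
theorem inv_four {r : P} (hr : r ∈ s.C) (hinv : p.a * r * p.a = r⁻¹) (hrI : r ∉ s.Im) :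
    ∃ N : ℕ, r ^ N ∈ s.M ∧ r ^ N * r ^ N = s.c * s.c ∧ (∀ i : ℕ, (r ^ (4 * i)) ^ N = 1) ∧
      (∀ u ∈ p.U, u ^ (4 * N) = 1) ∧ s.c * s.c ∉ p.comHom.range := by
  obtain ⟨k, -, hk⟩ := (Nat.dvd_prime_pow Nat.prime_two).mp
    (orderOf_dvd_of_pow_eq_one (p.hP r).choose_spec)
  have hk2 : 2 ≤ k := by
    by_contra hc
    refine hrI (F_le_Im s h8 ?_)
    have hrr : r * r = 1 := by
      rw [← pow_two]
      exact orderOf_dvd_iff_pow_eq_one.mp (by
        rw [hk]; exact (pow_dvd_pow 2 (by omega : k ≤ 1)).trans (by norm_num))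
    refine fixed_C s hr ?_
    rw [hinv]; exact inv_of_sq hrr
  obtain ⟨l, rfl⟩ : ∃ l, k = l + 2 := ⟨k - 2, by omega⟩
  set N := 2 ^ l
  have hord : r ^ (4 * N) = 1 := by
    rw [show 4 * N = orderOf r by rw [hk, pow_add]; ring]; exact pow_orderOf_eq_one r
  have h4 : (r ^ N) ^ 4 = 1 := by rw [← pow_mul, mul_comm]; exact hord
  have hM := s.alperin _ (pow_mem hr N) h4
  have hne : r ^ N * r ^ N ≠ 1 := fun h => by
    rw [← pow_add] at h
    have := orderOf_dvd_of_pow_eq_one h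
    rw [hk, ← two_mul, ← pow_succ', Nat.pow_dvd_pow_iff_le_right (by norm_num : 1 < 2)] at this
    omega
  have hz := sq_eq s h8 hM hne
  refine ⟨N, hM, hz, fun i => by rw [← pow_mul, show 4 * i * N = 4 * N * i by ring, pow_mul, hord,
    one_pow], fun u hu => by
      rw [show 4 * N = 2 * (2 * N) by ring, pow_mul, pow_two, p.sq u hu, one_pow], fun hr' => ?_⟩
  refine del_M_notMem s hM hne ?_
  have hinvN : p.a * r ^ N * p.a = (r ^ N)⁻¹ := by
    have h := (conj_pow (i := N) (a := p.a) (b := r)).symm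
    rw [inv_of_sq p.a2] at h
    rw [h, hinv, inv_pow]
  rw [hinvN, ← mul_inv_rev, hz, inv_of_sq (by
    rw [← TwoCentral94.pow_four]; exact s.expFour _ s.cM)]
  exact hr'

include h8 in
theorem inverted_B {y : P} (hy : y ∈ p.B) (h : p.a * y * p.a = y⁻¹) : y ∈ s.C := by
  obtain ⟨k, hk⟩ := p.hP y
  induction k generalizing y with
  | zero => rw [pow_zero, pow_one] at hk; rw [hk]; exact one_mem _
  | succ k ih =>
    have h2 : p.a * (y * y) * p.a = (y * y)⁻¹ := by rw [conj_a_mul, h, mul_inv_rev]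
    have hC : y * y ∈ s.C := ih (mul_mem hy hy) h2 (by rw [← pow_two, ← pow_mul, ← pow_succ']; exact hk)
    by_cases hI : y * y ∈ s.Im
    · obtain ⟨t, ht, he⟩ := hI
      have hat : p.a * t * p.a = y * y * t := by
        have e : p.a * t * p.a = t * (y * y) := by rw [he]; group
        rw [e, C_comm s h8 hC ht]
      have hfix : p.a * (y * t) * p.a = y * t := by
        rw [conj_a_mul, h, hat]; group
      have := F_le_U p (self_B p (fixed_comm hfix) (mul_mem hy (C_le_B s ht)))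
      exact (Subgroup.mul_mem_cancel_right _ ht).mp (U_le_C s this)
    · refine (mem_C s).mpr fun m hm => ?_
      obtain ⟨i, u, hu, rfl⟩ := generates s h8 hC h2 hI (M_le_C s hm)
      have h1 : Commute ((y * y) ^ i) y := ((Commute.refl y).mul_left (Commute.refl y)).pow_left i
      have h3 : Commute u y := (mem_B p).mp hy u hu
      exact (h1.mul_left h3).eq

/-! ### The elements fixing `F` -/

/-- The elements commuting with `F`. -/
def Data.T (_s : Data p) : Subgroup P := centralizer (p.F : Set P)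

theorem mem_T {g : P} : g ∈ s.T ↔ ∀ e ∈ p.F, e * g = g * e := mem_centralizer_iff

theorem B_le_T : p.B ≤ s.T := fun g hg => (mem_T s).mpr fun e he => (mem_B p).mp hg e (F_le_U p he)

theorem a_mem_T : p.a ∈ s.T := (mem_T s).mpr fun e he => ((mem_F p).mp he).2

include h8 in
theorem comm_mem_B {g : P} (hg : g ∈ s.T) : g⁻¹ * (p.a * g * p.a) ∈ p.B := by
  have hidx : (p.F.subgroupOf p.U).index = 2 := by
    have h := (p.F.subgroupOf p.U).card_mul_index
    rw [Nat.card_congr (Subgroup.subgroupOfEquivOfLe (F_le_U p)).toEquiv, card_F, h8] at h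
    omega
  have hfix : ∀ e ∈ p.F, g * e * g⁻¹ = e := fun e he => by
    rw [← (mem_T s).mp hg e he, mul_inv_cancel_right]
  rw [mem_B]
  intro x hx
  have key : g * (p.a * x * p.a) * g⁻¹ = p.a * (g * x * g⁻¹) * p.a := by
    by_cases hxF : x ∈ p.F
    · rw [F_fix p hxF, hfix x hxF, F_fix p hxF]
    · have hgx : g * x * g⁻¹ ∉ p.F := fun h => hxF (by
        have h' := hfix _ h
        rw [mul_left_inj, mul_right_inj] at h'
        exact h' ▸ h)
      have hax := comm_mem_F p hx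
      have h1 : g * x * g⁻¹ * x ∈ p.F := by
        have h2 : ((⟨g * x * g⁻¹, conj_U p hx g⟩ : p.U) * ⟨x, hx⟩) ∈ p.F.subgroupOf p.U := by
          rw [Subgroup.mul_mem_iff_of_index_two hidx]
          simp [mem_subgroupOf, hxF, hgx]
        exact mem_subgroupOf.mp h2
      set v := x * (p.a * x * p.a) with hv
      set w := g * x * g⁻¹ * x with hw
      have hax2 : p.a * x * p.a = x * v := by rw [hv, ← mul_assoc, p.sq x hx, one_mul]
      have hgx2 : g * x * g⁻¹ = w * x := by rw [hw, mul_assoc (g * x * g⁻¹) x x, p.sq x hx, mul_one]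
      rw [hax2, show g * (x * v) * g⁻¹ = g * x * g⁻¹ * (g * v * g⁻¹) by group, hfix v hax, hgx2,
        conj_a_mul, hax2, F_fix p h1, mul_assoc]
  have h1 : g⁻¹ * (p.a * g * p.a) * x * (g⁻¹ * (p.a * g * p.a))⁻¹ = x := by
    calc g⁻¹ * (p.a * g * p.a) * x * (g⁻¹ * (p.a * g * p.a))⁻¹
        = g⁻¹ * (p.a * (g * (p.a * x * p.a⁻¹) * g⁻¹) * p.a⁻¹) * g := by group
      _ = x := by
        rw [inv_of_sq p.a2, key, aa_cancel]; group
  exact (mul_inv_eq_iff_eq_mul.mp h1).symm

include h8 in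
theorem comm_mem_C {g : P} (hg : g ∈ s.T) : g⁻¹ * (p.a * g * p.a) ∈ s.C :=
  inverted_B s h8 (comm_mem_B s h8 hg) (SelfCentE8Sixteen94.inverted_comm p g)

/-- `g` is in `C` or in `aC`. -/
def Data.InCA (g : P) : Prop := g ∈ s.C ∨ p.a * g ∈ s.C

include h8 in
theorem inCA_of_Im {g : P} (hg : g ∈ s.T) (hI : g⁻¹ * (p.a * g * p.a) ∈ s.Im) : s.InCA g := by
  obtain ⟨t, ht, he⟩ := hI
  have hga : p.a * g * p.a = g * (t⁻¹ * (p.a * t * p.a)) := by rw [← he]; group
  have hfix : p.a * (g * t⁻¹) * p.a = g * t⁻¹ := by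
    rw [conj_a_mul, hga, conj_a_inv]; group
  have hT : ∀ e ∈ p.F, g * t⁻¹ * e = e * (g * t⁻¹) := fun e he' => by
    rw [((mem_T s).mp (mul_mem hg (inv_mem (B_le_T s (C_le_B s ht)))) e he')]
  rcases self_cases p (fixed_comm hfix) hT with h | h
  · exact Or.inl ((Subgroup.mul_mem_cancel_right _ (inv_mem ht)).mp (U_le_C s (F_le_U p h)))
  · rw [← mul_assoc] at h
    exact Or.inr ((Subgroup.mul_mem_cancel_right _ (inv_mem ht)).mp (U_le_C s (F_le_U p h)))

include h8 in
theorem inCA_div {g h : P} (hg : g ∈ s.T) (hh : h ∈ s.T) (hgb : ¬ s.InCA g) (hhb : ¬ s.InCA h) :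
    s.InCA (g⁻¹ * h) := by
  set w := g⁻¹ * h with hw
  set r := g⁻¹ * (p.a * g * p.a) with hr
  set r' := h⁻¹ * (p.a * h * p.a) with hr'
  have hrC := comm_mem_C s h8 hg
  have hr'C := comm_mem_C s h8 hh
  have hrI : r ∉ s.Im := fun q => hgb (inCA_of_Im s h8 hg q)
  have hr'I : r' ∉ s.Im := fun q => hhb (inCA_of_Im s h8 hh q)
  have hwT : w ∈ s.T := mul_mem (inv_mem hg) hh
  refine inCA_of_Im s h8 hwT ?_
  have e : w⁻¹ * (p.a * w * p.a) = (w⁻¹ * r * w)⁻¹ * r' := by
    rw [hw, conj_a_mul, conj_a_inv, hr, hr']; group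
  rw [e]
  set y := w⁻¹ * (p.a * w * p.a) with hy
  have hyC := comm_mem_C s h8 hwT
  have hrw : w⁻¹ * r * w ∈ s.C := by
    have := (C_normal s).conj_mem r hrC w⁻¹
    rwa [inv_inv] at this
  have hconj : ∀ x ∈ s.C, p.a * (w⁻¹ * x * w) * p.a = w⁻¹ * (p.a * x * p.a) * w := by
    intro x hx
    have haw : p.a * w * p.a = w * y := by rw [hy]; group
    rw [conj_a_mul, conj_a_mul, conj_a_inv, haw, mul_inv_rev]
    have hxa := conj_a_mem (p := p) (C_normal s) hx
    have hxw : w⁻¹ * (p.a * x * p.a) * w ∈ s.C := by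
      have := (C_normal s).conj_mem _ hxa w⁻¹
      rwa [inv_inv] at this
    calc y⁻¹ * w⁻¹ * (p.a * x * p.a) * (w * y) = y⁻¹ * (w⁻¹ * (p.a * x * p.a) * w) * y := by group
      _ = (w⁻¹ * (p.a * x * p.a) * w) * y⁻¹ * y := by rw [C_comm s h8 (inv_mem hyC) hxw]
      _ = _ := by group
  refine inv_prod s h8 (inv_mem hrw) ?_ ?_ hr'C (SelfCentE8Sixteen94.inverted_comm p h) hr'I
  · rw [conj_a_inv, hconj r hrC, SelfCentE8Sixteen94.inverted_comm p g]; simp only [hr]; group
  · intro hI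
    obtain ⟨t, ht, he⟩ := Im_inv s h8 hI
    rw [inv_inv] at he
    refine hrI ⟨w * t * w⁻¹, (C_normal s).conj_mem t ht w, ?_⟩
    have htw := (C_normal s).conj_mem t ht w
    have h1 := hconj _ htw
    rw [show w⁻¹ * (w * t * w⁻¹) * w = t by group] at h1
    rw [h1] at he
    calc r = w * (w⁻¹ * r * w) * w⁻¹ := by group
      _ = _ := by rw [he]; group

include h8 in
theorem inCA_B {x : P} (hx : x ∈ p.B) (h : s.InCA x) : x ∈ s.C := by
  refine h.resolve_right fun q => a_not_B p ?_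
  have := mul_mem (C_le_B s q) (inv_mem hx)
  rwa [mul_inv_cancel_right] at this

include h8 in
theorem B_div {x y : P} (hx : x ∈ p.B) (hy : y ∈ p.B) (hxC : x ∉ s.C) (hyC : y ∉ s.C) :
    x⁻¹ * y ∈ s.C :=
  inCA_B s h8 (mul_mem (inv_mem hx) hy) (inCA_div s h8 (B_le_T s hx) (B_le_T s hy)
    (fun h => hxC (inCA_B s h8 hx h)) (fun h => hyC (inCA_B s h8 hy h)))

include h8 in
theorem f_moves {u : P} (hu : u ∈ p.U) (huF : u ∉ p.F) {f : P}
    (hall : ∀ x ∈ p.comHom.range, x = 1 ∨ x = f) : p.a * u * p.a = u * f := by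
  rcases hall _ ⟨⟨u, hu⟩, rfl⟩ with h | h
  · refine absurd ?_ huF
    refine (mem_F p).mpr ⟨hu, fixed_comm ?_⟩
    have h' : u * (p.a * u * p.a) = 1 := h
    exact (inv_eq_of_mul_eq_one_right h').symm.trans (inv_of_sq (p.sq u hu))
  · have h' : u * (p.a * u * p.a) = f := h
    rw [← h', ← mul_assoc, p.sq u hu, one_mul]

include h8 in
/-- If `B ≠ C` then `P = B ∪ aB`. -/
theorem cover_of_ne (hne : ¬ p.B ≤ s.C) (g : P) : g ∈ p.B ∨ p.a * g ∈ p.B := by
  haveI := Fact.mk Nat.prime_two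
  haveI := B_normal p
  obtain ⟨x, hx, hxC⟩ := SetLike.not_le_iff_exists.mp hne
  have hxb : ¬ s.InCA x := fun h => hxC (inCA_B s h8 hx h)
  have hTcov : ∀ t ∈ s.T, t ∈ p.B ∨ p.a * t ∈ p.B := by
    intro t ht
    by_cases htb : s.InCA t
    · exact htb.imp (fun h => C_le_B s h) (fun h => C_le_B s h)
    · rcases inCA_div s h8 (B_le_T s hx) ht hxb htb with h | h
      · left
        have := mul_mem hx (C_le_B s h)
        rwa [mul_inv_cancel_left] at this
      · right
        have hx' : p.a * x * p.a ∈ p.B := conj_a_mem (p := p) (B_normal p) hx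
        have := mul_mem hx' (C_le_B s h)
        rwa [show p.a * x * p.a * (p.a * (x⁻¹ * t)) = p.a * x * (p.a * p.a) * x⁻¹ * t by group,
          p.a2, mul_one, mul_inv_cancel_right] at this
  obtain ⟨f, hf1, hf, hall⟩ := exists_f h8 (p := p)
  obtain ⟨N, -, -, -, -, hzr⟩ := inv_four s h8 (comm_mem_C s h8 (B_le_T s hx))
    (SelfCentE8Sixteen94.inverted_comm p x) (fun h => hxb (inCA_of_Im s h8 (B_le_T s hx) h))
  have hcomT : ∀ k : P, k⁻¹ * (p.a * k * p.a) ∈ p.B → k ∈ s.T := by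
    intro k hk
    have hkx : ∀ v ∈ p.U, k * (p.a * v * p.a) * k⁻¹ = p.a * (k * v * k⁻¹) * p.a := by
      intro v hv
      set y := k⁻¹ * (p.a * k * p.a) with hy
      have hyv : y * (p.a * v * p.a) * y⁻¹ = p.a * v * p.a := by
        rw [← (mem_B p).mp hk _ (aU_mem p hv), mul_inv_cancel_right]
      have e : p.a * k * p.a = k * y := by rw [hy]; group
      calc k * (p.a * v * p.a) * k⁻¹ = k * (y * (p.a * v * p.a) * y⁻¹) * k⁻¹ := by rw [hyv]
        _ = (k * y) * (p.a * v * p.a) * (k * y)⁻¹ := by group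
        _ = (p.a * k * p.a) * (p.a * v * p.a) * (p.a * k⁻¹ * p.a) := by rw [← e, conj_a_inv]
        _ = _ := by rw [← conj_a_mul, ← conj_a_mul]
    have hkf : k * f * k⁻¹ = f := by
      obtain ⟨u, hu⟩ := hf
      have hu' : (u : P) * (p.a * u * p.a) = f := hu
      have h1 : k * f * k⁻¹ ∈ p.comHom.range := by
        refine ⟨⟨k * u * k⁻¹, conj_U p u.2 k⟩, ?_⟩
        show k * (u : P) * k⁻¹ * (p.a * (k * u * k⁻¹) * p.a) = _
        rw [← hkx u u.2, ← hu']; group
      rcases hall _ h1 with h | h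
      · exact absurd (conj_eq_one_iff.mp h) hf1
      · exact h
    refine (mem_T s).mpr fun e he => ?_
    have hfF := range_comHom_le p hf
    have hzF := sq_fixed s s.cM
    have hzf : s.c * s.c ≠ f := fun q => hzr (q ▸ hf)
    have hne1 : f * (s.c * s.c) ≠ 1 := fun q => hzf (by
      rw [← inv_of_sq (F_sq hfF)]; exact eq_inv_of_mul_eq_one_right q)
    have hkz := z_central s h8 k
    have hkf' : k * f = f * k := mul_inv_eq_iff_eq_mul.mp hkf
    rcases four_list (card_F p) hfF hzF he hf1 s.c2 hzf hne1 with rfl | rfl | rfl | rfl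
    · simp
    · exact hkf'.symm
    · exact hkz.symm
    · rw [mul_assoc, ← hkz, ← mul_assoc, ← hkf', mul_assoc]
  have haX : (p.a : P ⧸ p.B) * (p.a : P ⧸ p.B) = 1 := by
    rw [← QuotientGroup.mk_mul, p.a2, QuotientGroup.mk_one]
  have hcent : ∀ q : P ⧸ p.B, q * (p.a : P ⧸ p.B) = (p.a : P ⧸ p.B) * q → q = 1 ∨ q = (p.a : P ⧸ p.B) := by
    intro q hq
    induction q using QuotientGroup.induction_on with
    | _ k =>
      have hk : k⁻¹ * (p.a * k * p.a) ∈ p.B := by
        rw [← QuotientGroup.eq_one_iff]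
        simp only [QuotientGroup.mk_mul, QuotientGroup.mk_inv]
        rw [← hq, mul_assoc (k : P ⧸ p.B), haX, mul_one, inv_mul_cancel]
      rcases hTcov k (hcomT k hk) with h | h
      · exact Or.inl ((QuotientGroup.eq_one_iff _).mpr h)
      · refine Or.inr ?_
        have h1 : ((p.a * k : P) : P ⧸ p.B) = 1 := (QuotientGroup.eq_one_iff _).mpr h
        rw [QuotientGroup.mk_mul] at h1
        rw [eq_inv_of_mul_eq_one_right h1, inv_eq_of_mul_eq_one_right haX]
  have hne' : (⊤ : Subgroup (P ⧸ p.B)) ≠ ⊥ := fun h => a_not_B p (by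
    have : (p.a : P ⧸ p.B) = 1 := mem_bot.mp (h ▸ mem_top _)
    exact (QuotientGroup.eq_one_iff _).mp this)
  have hZ := PGroupsBasic.inf_center_ne_bot (p := 2) (p.hP.to_quotient _) hne'
  have haZ : (p.a : P ⧸ p.B) ∈ center (P ⧸ p.B) := by
    by_contra hcon
    refine hZ ((Subgroup.eq_bot_iff_forall _).mpr fun q hq => ?_)
    rcases hcent q (mem_center_iff.mp hq.2 _).symm with h | h
    · exact h
    · exact absurd (h ▸ hq.2) hcon
  refine hTcov g (hcomT g ?_)
  rw [← QuotientGroup.eq_one_iff]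
  simp only [QuotientGroup.mk_mul, QuotientGroup.mk_inv]
  rw [← mem_center_iff.mp haZ (g : P ⧸ p.B), mul_assoc (g : P ⧸ p.B), haX, mul_one, inv_mul_cancel]

/-! ### The bound -/

include h8 in
theorem U_idx : (p.F.subgroupOf p.U).index = 2 := by
  have h := (p.F.subgroupOf p.U).card_mul_index
  rw [Nat.card_congr (Subgroup.subgroupOfEquivOfLe (F_le_U p)).toEquiv, card_F, h8] at h
  omega

include h8 in
theorem exists_u0 : ∃ u ∈ p.U, u ∉ p.F := SetLike.not_le_iff_exists.mp fun h => by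
  have := Subgroup.card_le_of_le h
  rw [card_F, h8] at this
  omega

include h8 in
/-- `F` and one further element of `U` determine the action on `U`. -/
theorem fix_U {g u0 : P} (hu0 : u0 ∈ p.U) (hu0F : u0 ∉ p.F) (hF : ∀ e ∈ p.F, g * e * g⁻¹ = e)
    (h0 : g * u0 * g⁻¹ = u0) : g ∈ p.B := by
  refine (mem_B p).mpr fun x hx => ?_
  have key : g * x * g⁻¹ = x := by
    by_cases hxF : x ∈ p.F
    · exact hF x hxF
    · have h2 : ((⟨u0, hu0⟩ : p.U) * ⟨x, hx⟩) ∈ p.F.subgroupOf p.U := by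
        rw [Subgroup.mul_mem_iff_of_index_two (U_idx h8)]
        simp [mem_subgroupOf, hu0F, hxF]
      have h3 : u0 * x ∈ p.F := mem_subgroupOf.mp h2
      have h4 := hF _ h3
      rw [← conj_mul, h0] at h4
      exact mul_left_cancel h4
  exact (mul_inv_eq_iff_eq_mul.mp key).symm

include h8 in
theorem zr_of_ne (hne : ¬ p.B ≤ s.C) : s.c * s.c ∉ p.comHom.range := by
  obtain ⟨x, hx, hxC⟩ := SetLike.not_le_iff_exists.mp hne
  obtain ⟨N, -, -, -, -, hzr⟩ := inv_four s h8 (comm_mem_C s h8 (B_le_T s hx))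
    (SelfCentE8Sixteen94.inverted_comm p x)
    (fun h => hxC (inCA_B s h8 hx (inCA_of_Im s h8 (B_le_T s hx) h)))
  exact hzr

theorem index_le_two_of_div {H : Subgroup P} (D : Subgroup H)
    (h : ∀ x y : H, x ∉ D → y ∉ D → x⁻¹ * y ∈ D) : D.index ≤ 2 := by
  classical
  refine (FourGenerator94.index_le_ncard (fun g : H => decide (g ∈ D)) (Set.univ : Set Bool)
    (fun _ => Set.mem_univ _) fun x y e => ?_).trans (by simp)
  simp only [decide_eq_decide] at e
  by_cases hx : x ∈ D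
  · exact mul_mem (inv_mem hx) (e.mp hx)
  · exact h x y hx (fun hy => hx (e.mpr hy))

include h8 in
/-- Modulo squares, `H ∩ C` has at most 8 cosets; with equality `U ≤ H` and the elements of `K` in
`C` are squares from `H ∩ C`. -/
theorem relIndex_C_le {H : Subgroup P} {K : Subgroup H} (hK : ∀ h : H, h * h ∈ K) :
    K.relIndex (s.C.subgroupOf H) ≤ 8 ∧ (8 ≤ K.relIndex (s.C.subgroupOf H) → p.U ≤ H ∧
      ∀ k : H, k ∈ K → (k : P) ∈ s.C → ∃ y : H, (y : P) ∈ s.C ∧ k = y * y) := by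
  set D := s.C.subgroupOf H
  let ψ : D →* D := MonoidHom.mk' (fun x => x * x) fun x y => by
    have hc : x * y = y * x := Subtype.ext (Subtype.ext (C_comm s h8 x.2 y.2))
    calc x * y * (x * y) = x * (y * x) * y := by group
      _ = x * (x * y) * y := by rw [← hc]
      _ = _ := by group
  have hrange : ψ.range ≤ K.subgroupOf D := by
    rintro _ ⟨x, rfl⟩; exact mem_subgroupOf.mpr (hK (x : H))
  have hidx : ψ.range.index = Nat.card ψ.ker := by
    have h1 := ψ.range.card_mul_index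
    have h2 := ψ.ker.card_mul_index
    rw [Subgroup.index_ker] at h2
    rw [← h2, mul_comm (Nat.card ψ.ker)] at h1
    exact Nat.eq_of_mul_eq_mul_left Nat.card_pos h1
  have hkerU : ∀ x : ψ.ker, (((x : D) : H) : P) ∈ p.U := fun x => by
    have h1 : (((x : D) : H) : P) * ((x : D) : H) = 1 :=
      congrArg (fun z : D => ((z : H) : P)) x.2
    exact s.omega _ (s.alperin _ (x : D).2 (TwoCentral94.four_of_two h1)) h1
  let ι : ψ.ker → p.U := fun x => ⟨_, hkerU x⟩
  have hι : Function.Injective ι := fun x y e =>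
    Subtype.ext (Subtype.ext (Subtype.ext (congrArg (fun z : p.U => (z : P)) e)))
  have hker : Nat.card ψ.ker ≤ 8 := h8 ▸ Nat.card_le_card_of_injective ι hι
  have hle : (K.subgroupOf D).index ≤ ψ.range.index :=
    Nat.le_of_dvd (Nat.pos_of_ne_zero Subgroup.index_ne_zero_of_finite)
      (Subgroup.index_dvd_of_le hrange)
  refine ⟨le_trans hle (hidx.le.trans hker), fun h => ?_⟩
  change 8 ≤ (K.subgroupOf D).index at h
  have heq : ψ.range = K.subgroupOf D := by
    refine Subgroup.eq_of_le_of_card_ge hrange ?_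
    have h1 := ψ.range.card_mul_index
    rw [← (K.subgroupOf D).card_mul_index, le_antisymm (by omega) hle] at h1
    exact (Nat.eq_of_mul_eq_mul_right (Nat.pos_of_ne_zero Subgroup.index_ne_zero_of_finite) h1).ge
  constructor
  · intro x hx
    obtain ⟨y, hy⟩ := (hι.bijective_of_nat_card_le (by omega)).2 ⟨x, hx⟩
    rw [← show (((y : D) : H) : P) = x from congrArg Subtype.val hy]
    exact ((y : D) : H).2
  · intro k hk hkC
    obtain ⟨y, hy⟩ : (⟨k, hkC⟩ : D) ∈ ψ.range := heq ▸ mem_subgroupOf.mpr hk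
    exact ⟨(y : H), y.2, (congrArg Subtype.val hy).symm⟩

include h8 in
/-- An element fixing `F` outside `C ∪ aC` and an element moving `F` cannot lie in a subgroup with
small commutators. -/
theorem mixed_false (hBC : p.B ≤ s.C) {H : Subgroup P}
    (hUz : ∀ h ∈ H, ∀ x ∈ p.U, h * x * h⁻¹ = x ∨ h * x * h⁻¹ = s.c * s.c * x)
    (hMz : ∀ h ∈ H, ∀ m ∈ s.M, h * m * h⁻¹ = m ∨ h * m * h⁻¹ = s.c * s.c * m)
    (hsq : ∀ h ∈ H, h * h ∈ s.C → ∃ y ∈ s.C, h * h = y * y)
    {t h : P} (htH : t ∈ H) (hhH : h ∈ H) (htT : t ∈ s.T) (htb : ¬ s.InCA t) (hhT : h ∉ s.T) :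
    False := by
  set r := t⁻¹ * (p.a * t * p.a) with hr
  have hrC : r ∈ s.C := comm_mem_C s h8 htT
  have hrI : r ∉ s.Im := fun q => htb (inCA_of_Im s h8 htT q)
  have hrinv : p.a * r * p.a = r⁻¹ := SelfCentE8Sixteen94.inverted_comm p t
  obtain ⟨N, hcM, hcz, hpow, -, hzr⟩ := inv_four s h8 hrC hrinv hrI
  set z := s.c * s.c with hz
  have hz1 : z ≠ 1 := s.c2
  have hzF : z ∈ p.F := sq_fixed s s.cM
  have hzU := F_le_U p hzF
  have hzc : ∀ g : P, g * z = z * g := z_central s h8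
  have hzz : z * z = 1 := F_sq hzF
  obtain ⟨f, hf1, hf, hall⟩ := exists_f h8 (p := p)
  have hfF := range_comHom_le p hf
  have hzf : z ≠ f := fun q => hzr (q ▸ hf)
  have hne1 : f * z ≠ 1 := fun q => hzf (by
    rw [← inv_of_sq (F_sq hfF)]; exact eq_inv_of_mul_eq_one_right q)
  have hFlist : ∀ e ∈ p.F, e = 1 ∨ e = f ∨ e = z ∨ e = f * z := fun e he =>
    four_list (card_F p) hfF hzF he hf1 hz1 hzf hne1
  have htF : ∀ e ∈ p.F, t * e * t⁻¹ = e := fun e he => by
    rw [← (mem_T s).mp htT e he, mul_inv_cancel_right]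
  have hhf : h * f * h⁻¹ = z * f := by
    refine (hUz h hhH f (F_le_U p hfF)).resolve_left fun q => hhT ((mem_T s).mpr fun e he => ?_)
    have hf' : h * f = f * h := mul_inv_eq_iff_eq_mul.mp q
    rcases hFlist e he with rfl | rfl | rfl | rfl
    · simp
    · exact hf'.symm
    · exact (hzc h).symm
    · rw [mul_assoc, ← hzc, ← mul_assoc, ← hf', mul_assoc]
  have hhz : h * z * h⁻¹ = z := by rw [hzc, mul_inv_cancel_right]
  obtain ⟨u0, hu0, hu0F⟩ := exists_u0 h8 (p := p)
  have hau : p.a * u0 * p.a = u0 * f := f_moves h8 hu0 hu0F hall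
  have ht0 : t * u0 * t⁻¹ = z * u0 :=
    (hUz t htH u0 hu0).resolve_left fun q => htb (Or.inl (hBC (fix_U h8 hu0 hu0F htF q)))
  set w := h⁻¹ * p.a * h * p.a with hw
  have winv : w⁻¹ = p.a * h⁻¹ * p.a * h := by
    rw [hw, mul_inv_rev, mul_inv_rev, mul_inv_rev, inv_of_sq p.a2, inv_inv]; group
  have wact : ∀ x, w * x * w⁻¹ = h⁻¹ * (p.a * (h * (p.a * x * p.a) * h⁻¹) * p.a) * h := fun x => by
    rw [winv, hw]; group
  have hhF : ∀ e ∈ p.F, h * e * h⁻¹ ∈ p.F := fun e he => by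
    rcases hUz h hhH e (F_le_U p he) with q | q <;> rw [q]
    · exact he
    · exact mul_mem hzF he
  have wF : ∀ e ∈ p.F, w * e * w⁻¹ = e := fun e he => by
    rw [wact, F_fix p he, F_fix p (hhF e he)]; group
  have haz : p.a * z * p.a = z := F_fix p hzF
  have w0 : w * u0 * w⁻¹ = z * u0 := by
    rw [wact, hau]
    rcases hUz h hhH u0 hu0 with q | q
    · rw [← conj_mul, q, hhf, conj_a_mul, hau, conj_a_mul, haz, F_fix p hfF]
      calc h⁻¹ * (u0 * f * (z * f)) * h = h⁻¹ * (u0 * (f * z * f)) * h := by group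
        _ = h⁻¹ * (u0 * z) * h := by
          rw [hzc f, mul_assoc z f f, F_sq hfF, mul_one]
        _ = h⁻¹ * (h * u0 * h⁻¹ * z) * h := by rw [q]
        _ = u0 * (h⁻¹ * (z * h)) := by group
        _ = z * u0 := by rw [← hzc h, inv_mul_cancel_left, hzc]
    · rw [← conj_mul, q, hhf, conj_a_mul, conj_a_mul z u0, conj_a_mul z f, haz, hau, F_fix p hfF]
      calc h⁻¹ * (z * (u0 * f) * (z * f)) * h = h⁻¹ * (z * u0 * (f * z * f)) * h := by group
        _ = h⁻¹ * (z * u0 * z) * h := by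
          rw [hzc f, mul_assoc z f f, F_sq hfF, mul_one]
        _ = h⁻¹ * ((h * u0 * h⁻¹) * z) * h := by rw [q]
        _ = u0 * (h⁻¹ * (z * h)) := by group
        _ = z * u0 := by rw [← hzc h, inv_mul_cancel_left, hzc]
  have hc0 : t⁻¹ * w ∈ s.C := by
    refine hBC (fix_U h8 hu0 hu0F (fun e he => ?_) ?_)
    · calc t⁻¹ * w * e * (t⁻¹ * w)⁻¹ = t⁻¹ * (w * e * w⁻¹) * t := by group
        _ = t⁻¹ * (t * e * t⁻¹) * t := by rw [wF e he, htF e he]
        _ = e := by group
    · calc t⁻¹ * w * u0 * (t⁻¹ * w)⁻¹ = t⁻¹ * (w * u0 * w⁻¹) * t := by group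
        _ = t⁻¹ * (t * u0 * t⁻¹) * t := by rw [w0, ht0]
        _ = u0 := by group
  set c := r ^ N with hc
  have hcinv : p.a * c * p.a = z * c := by
    have h1 := (conj_pow (i := N) (a := p.a) (b := r)).symm
    rw [inv_of_sq p.a2] at h1
    rw [hc, h1, hrinv, inv_pow, ← hc]
    have h2 : c * c * (c * c) = 1 := by rw [hcz, hzz]
    rw [← hcz]
    refine inv_eq_of_mul_eq_one_right ?_
    calc c * (c * c * c) = c * c * (c * c) := by group
      _ = 1 := h2
  have wc : w * c * w⁻¹ = c := by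
    rw [wact, hcinv]
    rcases hMz h hhH c hcM with q | q
    · rw [← conj_mul, q, hhz, conj_a_mul, haz, hcinv, ← mul_assoc z z c, hzz, one_mul]
      calc h⁻¹ * c * h = h⁻¹ * (h * c * h⁻¹) * h := by rw [q]
        _ = c := by group
    · rw [← conj_mul, q, hhz, ← mul_assoc z z c, hzz, one_mul, hcinv, ← q]; group
  have htc : t⁻¹ * c * t = c := by
    have h1 : (t⁻¹ * w) * c * (t⁻¹ * w)⁻¹ = c := by
      rw [← (mem_C s).mp hc0 c hcM, mul_inv_cancel_right]
    calc t⁻¹ * c * t = t⁻¹ * (w * c * w⁻¹) * t := by rw [wc]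
      _ = t⁻¹ * w * c * (t⁻¹ * w)⁻¹ := by group
      _ = c := h1
  have hazu : t * z * t⁻¹ = z := by rw [hzc, mul_inv_cancel_right]
  have ht2 : t * t ∈ s.C := by
    refine hBC (fix_U h8 hu0 hu0F (fun e he => ?_) ?_)
    · calc t * t * e * (t * t)⁻¹ = t * (t * e * t⁻¹) * t⁻¹ := by group
        _ = e := by rw [htF e he, htF e he]
    · calc t * t * u0 * (t * t)⁻¹ = t * (t * u0 * t⁻¹) * t⁻¹ := by group
        _ = t * (z * u0) * t⁻¹ := by rw [ht0]
        _ = (t * z * t⁻¹) * (t * u0 * t⁻¹) := by group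
        _ = u0 := by rw [hazu, ht0, ← mul_assoc, hzz, one_mul]
  obtain ⟨y, hy, hty⟩ := hsq t htH ht2
  have he : y * (p.a * y * p.a) ∈ p.F := by
    have hya := conj_a_mem (p := p) (C_normal s) hy
    refine fixed_C s (mul_mem hy hya) ?_
    rw [conj_a_mul, aa_cancel, C_comm s h8 hya hy]
  set e := y * (p.a * y * p.a) with hedef
  have hay : p.a * y * p.a = y⁻¹ * e := by rw [hedef]; group
  have hay2 : p.a * (t * t) * p.a = (t * t)⁻¹ := by
    rw [hty, conj_a_mul, hay]
    have hcm := C_comm s h8 (inv_mem hy) (U_le_C s (F_le_U p he))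
    calc y⁻¹ * e * (y⁻¹ * e) = y⁻¹ * (e * y⁻¹) * e := by group
      _ = y⁻¹ * y⁻¹ * (e * e) := by rw [← hcm]; group
      _ = _ := by rw [F_sq he]; group
  have hat : p.a * t * p.a = t * r := by rw [hr]; group
  have hprod : (t⁻¹ * r * t) * r = (y * y * (y * y))⁻¹ := by
    have h1 : t * r * (t * r) = (t * t)⁻¹ := by rw [← hat, ← conj_a_mul, hay2]
    calc (t⁻¹ * r * t) * r = (t * t)⁻¹ * (t * r * (t * r)) := by group
      _ = (t * t)⁻¹ * (t * t)⁻¹ := by rw [h1]
      _ = _ := by rw [hty, ← mul_inv_rev]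
  obtain ⟨i, u, hu, hyu⟩ := generates s h8 hrC hrinv hrI hy
  have hy4 : y * y * (y * y) = r ^ (4 * i) := by
    rw [← TwoCentral94.pow_four, hyu,
      (show Commute (r ^ i) u from C_comm s h8 (pow_mem hrC i) (U_le_C s hu)).mul_pow,
      TwoCentral94.four_of_two (p.sq u hu), mul_one, ← pow_mul, mul_comm]
  have htr : t⁻¹ * r * t ∈ s.C := by
    have := (C_normal s).conj_mem r hrC t⁻¹
    rwa [inv_inv] at this
  have hfin : (t⁻¹ * r * t * r) ^ N = ((y * y * (y * y))⁻¹) ^ N := by rw [hprod]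
  rw [(show Commute (t⁻¹ * r * t) r from C_comm s h8 htr hrC).mul_pow, hy4, inv_pow, hpow,
    inv_one, show (t⁻¹ * r * t) ^ N = t⁻¹ * c * t from ?_, htc, ← hc, hcz] at hfin
  · exact hz1 hfin
  · have h1 := conj_pow (i := N) (a := t⁻¹) (b := r)
    rw [inv_inv] at h1
    exact h1

include s h8 in
/-- The bound when `U` has order 8 and is not self-centralising. -/
theorem index_le_sixteen {H : Subgroup P} {K : Subgroup H} (hK : ∀ h : H, h * h ∈ K) :
    K.index ≤ 16 := by
  haveI := Fact.mk Nat.prime_two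
  haveI := p.normal
  haveI := FourGenerator94.K_normal hK
  set D := s.C.subgroupOf H with hD
  obtain ⟨hr8, hrext⟩ := relIndex_C_le s h8 hK
  rw [index_split hK D]
  -- the subgroup `H` centralises `U` when it is contained in `B`
  have hinB : (∀ h ∈ H, h ∈ p.B) → D.index ≤ 2 := fun h => index_le_two_of_div D fun x y hx hy =>
    mem_subgroupOf.mpr (B_div s h8 (h _ x.2) (h _ y.2) (fun q => hx (mem_subgroupOf.mpr q))
      (fun q => hy (mem_subgroupOf.mpr q)))
  have hsup4 : (D ⊔ K).index ≤ 4 := by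
    by_cases hne : p.B ≤ s.C
    · have hB : p.B = s.C := le_antisymm hne (C_le_B s)
      have := eight_sup_le p.hP (U := p.U) h8 p.sq hK
      rw [show centralizer (p.U : Set P) = s.C from hB] at this
      exact this
    · refine (sup_le_index D K).trans ?_
      set BH := p.B.subgroupOf H
      have hDB : D ≤ BH := fun x hx => mem_subgroupOf.mpr (C_le_B s (mem_subgroupOf.mp hx))
      rw [← Subgroup.relIndex_mul_index hDB]
      refine le_trans (Nat.mul_le_mul (?_ : D.relIndex BH ≤ 2) (?_ : BH.index ≤ 2)) (by norm_num)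
      · classical
        refine (FourGenerator94.index_le_ncard (H := D.subgroupOf BH)
          (fun g : BH => decide (((g : H) : P) ∈ s.C)) (Set.univ : Set Bool)
          (fun _ => Set.mem_univ _) fun x y e => ?_).trans (by simp)
        simp only [decide_eq_decide] at e
        refine mem_subgroupOf.mpr (mem_subgroupOf.mpr ?_)
        push_cast
        by_cases hx : ((x : H) : P) ∈ s.C
        · exact mul_mem (inv_mem hx) (e.mp hx)
        · exact B_div s h8 x.2 y.2 hx (fun hy => hx (e.mpr hy))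
      · refine index_le_two_of_div BH fun x y hx hy => mem_subgroupOf.mpr ?_
        rw [mem_subgroupOf] at hx hy
        push_cast
        have hxa := (cover_of_ne s h8 hne (x : P)).resolve_left hx
        have hya := (cover_of_ne s h8 hne (y : P)).resolve_left hy
        have := mul_mem (inv_mem hxa) hya
        rwa [mul_inv_rev, inv_of_sq p.a2, show (x : P)⁻¹ * p.a * (p.a * y) = (x : P)⁻¹ * (p.a * p.a) * y by
          group, p.a2, mul_one] at this
  by_cases hr4 : K.relIndex D ≤ 4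
  · exact le_trans (Nat.mul_le_mul hr4 hsup4) (by norm_num)
  refine le_trans (Nat.mul_le_mul hr8 ((sup_le_index D K).trans (?_ : D.index ≤ 2))) (by norm_num)
  obtain ⟨hUH, hsquares⟩ := hrext (by
    obtain ⟨j, hj⟩ := IsPGroup.index ((p.hP.to_subgroup H).to_subgroup D) (K.subgroupOf D)
    rw [show (K.subgroupOf D).index = K.relIndex D from rfl] at hj
    rw [hj] at hr4 ⊢
    have : 3 ≤ j := by
      by_contra hc
      interval_cases j <;> omega
    exact le_trans (by norm_num) (Nat.pow_le_pow_right two_pos this))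
  set z := s.c * s.c with hz
  have hz1 : z ≠ 1 := s.c2
  have hzF : z ∈ p.F := sq_fixed s s.cM
  have hzU := F_le_U p hzF
  have hzc : ∀ g : P, g * z = z * g := z_central s h8
  have hzz : z * z = 1 := F_sq hzF
  -- elements of `U` which are squares
  have hKU : ∀ k : H, k ∈ K → (k : P) ∈ p.U → (k : P) = 1 ∨
      ((k : P) = z ∧ ∃ y : H, (y : P) ∈ s.M ∧ (y : P) * y = z) := by
    intro k hk hkU
    obtain ⟨y, hy, rfl⟩ := hsquares k hk (U_le_C s hkU)
    push_cast at hkU ⊢
    by_cases h1 : (y : P) * y = 1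
    · exact Or.inl h1
    · have hyM := s.alperin _ hy (by rw [TwoCentral94.pow_four]; exact p.sq _ hkU)
      exact Or.inr ⟨sq_eq s h8 hyM h1, y, hyM, sq_eq s h8 hyM h1⟩
  have hcomU : ∀ h : H, ∀ x : P, ∀ hx : x ∈ p.U,
      ((h : P) * x * (h : P)⁻¹ = x) ∨ ((h : P) * x * (h : P)⁻¹ = z * x ∧
        ∃ y : H, (y : P) ∈ s.M ∧ (y : P) * y = z) := by
    intro h x hx
    have hk := FourGenerator94.comm_mem_K hK h ⟨x, hUH hx⟩
    have hkU : (((h * ⟨x, hUH hx⟩ * h⁻¹ * (⟨x, hUH hx⟩ : H)⁻¹ : H)) : P) ∈ p.U := by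
      push_cast
      exact mul_mem (conj_U p hx _) (inv_mem hx)
    have hres := hKU _ hk hkU
    push_cast at hres
    exact hres.imp (fun q => mul_inv_eq_one.mp q)
      (fun q => ⟨mul_inv_eq_iff_eq_mul.mp q.1, q.2⟩)
  by_cases hex : ∃ y : H, (y : P) ∈ s.M ∧ (y : P) * y = z
  swap
  · exact hinB fun h hh => (mem_B p).mpr fun u hu =>
      (mul_inv_eq_iff_eq_mul.mp ((hcomU ⟨h, hh⟩ u hu).resolve_right fun q => hex q.2)).symm
  obtain ⟨c', hc'M, hc'z⟩ := hex
  have hUz : ∀ h ∈ H, ∀ x ∈ p.U, h * x * h⁻¹ = x ∨ h * x * h⁻¹ = z * x := fun h hh x hx =>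
    (hcomU ⟨h, hh⟩ x hx).imp id fun q => q.1
  have hMc : ∀ h ∈ H, h * (c' : P) * h⁻¹ = c' ∨ h * (c' : P) * h⁻¹ = z * c' := by
    intro h hh
    have hcj := s.normal.conj_mem _ hc'M h
    have hk := FourGenerator94.comm_mem_K hK ⟨h, hh⟩ c'
    have hkU : (((⟨h, hh⟩ * c' * (⟨h, hh⟩ : H)⁻¹ * c'⁻¹ : H)) : P) ∈ p.U := by
      push_cast
      refine s.omega _ (mul_mem hcj (inv_mem hc'M)) ?_
      have hcm := s.comm _ hcj _ (inv_mem hc'M)
      calc h * (c' : P) * h⁻¹ * (c' : P)⁻¹ * (h * (c' : P) * h⁻¹ * (c' : P)⁻¹)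
          = h * (c' : P) * h⁻¹ * ((c' : P)⁻¹ * (h * (c' : P) * h⁻¹)) * (c' : P)⁻¹ := by group
        _ = h * ((c' : P) * c') * h⁻¹ * ((c' : P) * c')⁻¹ := by rw [← hcm]; group
        _ = 1 := by rw [hc'z, hzc, mul_inv_cancel_right, mul_inv_cancel]
    have hres := hKU _ hk hkU
    push_cast at hres
    exact hres.imp (fun q => mul_inv_eq_one.mp q) (fun q => mul_inv_eq_iff_eq_mul.mp q.1)
  have hMz : ∀ h ∈ H, ∀ m ∈ s.M, h * m * h⁻¹ = m ∨ h * m * h⁻¹ = z * m := by
    intro h hh m hm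
    by_cases hm1 : m * m = 1
    · exact hUz h hh m (s.omega m hm hm1)
    have hmz : m * m = z := sq_eq s h8 hm hm1
    have hcm := s.comm _ hm _ (inv_mem hc'M)
    have hu : m * (c' : P)⁻¹ ∈ p.U := by
      refine s.omega _ (mul_mem hm (inv_mem hc'M)) ?_
      calc m * (c' : P)⁻¹ * (m * (c' : P)⁻¹) = m * ((c' : P)⁻¹ * m) * (c' : P)⁻¹ := by group
        _ = m * m * ((c' : P) * c')⁻¹ := by rw [← hcm]; group
        _ = 1 := by rw [hmz, hc'z, mul_inv_cancel]
    set u := m * (c' : P)⁻¹ with hudef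
    have hm' : m = u * c' := by rw [hudef]; group
    rw [hm', ← conj_mul]
    rcases hUz h hh u hu with q | q <;> rcases hMc h hh with q' | q' <;> rw [q, q']
    · exact Or.inl rfl
    · exact Or.inr (by rw [← mul_assoc, hzc u, mul_assoc])
    · exact Or.inr (by rw [mul_assoc])
    · refine Or.inl ?_
      rw [show z * u * (z * c') = z * (u * z) * c' by group, hzc u, ← mul_assoc, hzz, one_mul]
  obtain ⟨f, hf1, hf, hall⟩ := exists_f h8 (p := p)
  have hfF := range_comHom_le p hf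
  obtain ⟨u0, hu0, hu0F⟩ := exists_u0 h8 (p := p)
  have hau : p.a * u0 * p.a = u0 * f := f_moves h8 hu0 hu0F hall
  -- an element of `H ∩ aB` forces `f = z`
  have hfz : ∀ h ∈ H, p.a * h ∈ p.B → f = z := by
    intro h hh hb
    have hah : h * u0 * h⁻¹ = u0 * f := by
      rw [← hau]
      have h1 : (p.a * h) * u0 * (p.a * h)⁻¹ = u0 := by
        rw [← (mem_B p).mp hb u0 hu0, mul_inv_cancel_right]
      calc h * u0 * h⁻¹ = p.a⁻¹ * ((p.a * h) * u0 * (p.a * h)⁻¹) * p.a := by group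
        _ = _ := by rw [h1, inv_of_sq p.a2]
    rcases hUz h hh u0 hu0 with q | q
    · rw [hah] at q
      exact absurd (mul_eq_left.mp q) hf1
    · rw [hah, ← hzc u0] at q
      exact mul_left_cancel q
  by_cases hne : p.B ≤ s.C
  swap
  · refine hinB fun h hh => (cover_of_ne s h8 hne h).resolve_right fun q => zr_of_ne s h8 hne ?_
    rw [show s.c * s.c = f from (hfz h hh q).symm]; exact hf
  -- `H ∩ aC` is empty
  have hnoaC : ∀ h ∈ H, p.a * h ∉ s.C := by
    intro h hh hb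
    have hfz' := hfz h hh (C_le_B s hb)
    have h1 : (p.a * h) * c' * (p.a * h)⁻¹ = c' := by
      rw [← (mem_C s).mp hb c' hc'M, mul_inv_cancel_right]
    have hac : h * (c' : P) * h⁻¹ = p.a * c' * p.a := by
      calc h * (c' : P) * h⁻¹ = p.a⁻¹ * ((p.a * h) * c' * (p.a * h)⁻¹) * p.a := by group
        _ = _ := by rw [h1, inv_of_sq p.a2]
    refine del_M_notMem s hc'M (by rw [hc'z]; exact hz1) ?_
    rcases hMc h hh with q | q
    · rw [← hac, q, inv_mul_cancel]; exact one_mem _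
    · rw [← hac, q, ← hzc, inv_mul_cancel_left, ← hfz']; exact hf
  have hb : ∀ h ∈ H, h ∉ s.C → ¬ s.InCA h := fun h hh hC q => q.elim hC (hnoaC h hh)
  refine index_le_two_of_div D fun x y hx hy => mem_subgroupOf.mpr ?_
  rw [mem_subgroupOf] at hx hy
  push_cast
  have hxy : (x : P)⁻¹ * y ∈ H := mul_mem (inv_mem x.2) y.2
  have hsq' : ∀ h ∈ H, h * h ∈ s.C → ∃ w ∈ s.C, h * h = w * w := fun h hh hC => by
    obtain ⟨w, hw, e⟩ := hsquares _ (hK ⟨h, hh⟩) hC
    exact ⟨w, hw, congrArg Subtype.val e⟩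
  by_cases hxT : (x : P) ∈ s.T
  · have hyT : (y : P) ∈ s.T := by
      by_contra hyT
      exact mixed_false s h8 hne hUz hMz hsq' x.2 y.2 hxT (hb _ x.2 hx) hyT
    exact (inCA_div s h8 hxT hyT (hb _ x.2 hx) (hb _ y.2 hy)).resolve_right (hnoaC _ hxy)
  · have hyT : (y : P) ∉ s.T := fun hyT =>
      mixed_false s h8 hne hUz hMz hsq' y.2 x.2 hyT (hb _ y.2 hy) hxT
    -- both move the same element of `F`
    have hmove : ∀ h ∈ H, h ∉ s.T → ∃ e ∈ p.F, h * e * h⁻¹ = z * e ∧ e ≠ 1 ∧ e ≠ z := by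
      intro h hh hT
      by_contra hcon
      push_neg at hcon
      refine hT ((mem_T s).mpr fun e he => (mul_inv_eq_iff_eq_mul.mp ?_).symm)
      rcases hUz h hh e (F_le_U p he) with q | q
      · exact q
      · by_cases he1 : e = 1
        · rw [he1]; group
        · rw [hcon e he q he1, hzc, mul_inv_cancel_right]
    obtain ⟨e, he, hxe, he1, hez⟩ := hmove _ x.2 hxT
    obtain ⟨e', he', hye, he1', hez'⟩ := hmove _ y.2 hyT
    have hlist : ∀ v ∈ p.F, v = 1 ∨ v = z ∨ v = e ∨ v = z * e := fun v hv =>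
      four_list (card_F p) hzF he hv hz1 he1 hez fun q => hez (by
        rw [← inv_of_sq hzz]; exact eq_inv_of_mul_eq_one_right q)
    have hye2 : (y : P) * e * (y : P)⁻¹ = z * e := by
      rcases hlist e' he' with q | q | q | q
      · exact absurd q he1'
      · exact absurd q hez'
      · rwa [q] at hye
      · rw [q, ← conj_mul, hzc (y : P), mul_inv_cancel_right] at hye
        exact mul_left_cancel hye
    have hT : (x : P)⁻¹ * y ∈ s.T := by
      refine (mem_T s).mpr fun v hv => (mul_inv_eq_iff_eq_mul.mp ?_).symm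
      have hez2 : (x : P)⁻¹ * y * e * ((x : P)⁻¹ * y)⁻¹ = e := by
        calc (x : P)⁻¹ * y * e * ((x : P)⁻¹ * y)⁻¹ = (x : P)⁻¹ * ((y : P) * e * (y : P)⁻¹) * x := by group
          _ = (x : P)⁻¹ * ((x : P) * e * (x : P)⁻¹) * x := by rw [hye2, hxe]
          _ = e := by group
      rcases hlist v hv with rfl | rfl | rfl | rfl
      · group
      · rw [hzc, mul_inv_cancel_right]
      · exact hez2
      · rw [← conj_mul, hez2, hzc, mul_inv_cancel_right]
    by_contra hC
    exact mixed_false s h8 hne hUz hMz hsq' hxy x.2 hT (hb _ hxy hC) hxT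

end eight

end Cfsg.Agent.SelfCentE8Small94
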