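import Mathlib
import Cfsg.Agent.Lib.PGroupsCritical
import Cfsg.Agent.Lib.FourGenerator94
import Cfsg.Agent.Lib.SelfCentE8Small94

/-!
Harada's theorem: a 2-group with a self-centralising elementary abelian subgroup of order 8 has at
most 16 cosets modulo squares in each subgroup.
-/

set_option autoImplicit false
set_option linter.unusedSectionVars false
set_option linter.unusedVariables false
set_option linter.style.haveILetI false

open Subgroup

namespace Cfsg.Agent.SelfCentE8Main94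

open SelfCentE8Base94

variable {P : Type*} [Group P] [Finite P]

theorem card_eight_or (hP : IsPGroup 2 P) {U : Subgroup P} (h1 : 8 ≤ Nat.card U)
    (h2 : Nat.card U ≤ 16) : Nat.card U = 8 ∨ Nat.card U = 16 := by
  haveI := Fact.mk Nat.prime_two
  obtain ⟨i, hi⟩ := IsPGroup.iff_card.mp (hP.to_subgroup U)
  rw [hi] at h1 h2 ⊢
  have hle : i ≤ 4 := (Nat.pow_le_pow_iff_right (by norm_num : 1 < 2)).mp (h2.trans (by norm_num))
  interval_cases i <;> omega

/-- Harada's configuration: `U` maximal normal elementary abelian, `A` self-centralising. -/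
structure Conf (P : Type*) [Group P] where
  A : Subgroup P
  Acomm : ∀ x ∈ A, ∀ y ∈ A, x * y = y * x
  Asq : ∀ x ∈ A, x * x = 1
  A8 : Nat.card A = 8
  selfA : ∀ x : P, (∀ y ∈ A, x * y = y * x) → x ∈ A
  U : Subgroup P
  normal : U.Normal
  sq : ∀ u ∈ U, u * u = 1
  big : 8 ≤ Nat.card U
  hP : IsPGroup 2 P

variable (q : Conf P)

theorem sq_conj {b : P} (hb : b * b = 1) (x : P) : b * (b * x * b) * b = x := by
  rw [show b * (b * x * b) * b = (b * b) * x * (b * b) by group, hb, one_mul, mul_one]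

theorem conj_b_mul {b : P} (hb : b * b = 1) (x y : P) :
    b * (x * y) * b = (b * x * b) * (b * y * b) := by
  rw [show (b * x * b) * (b * y * b) = b * x * (b * b) * y * b by group, hb, mul_one]
  group

theorem conj_b_inv {b : P} (hb : b * b = 1) (x : P) : b * x⁻¹ * b = (b * x * b)⁻¹ := by
  rw [mul_inv_rev, mul_inv_rev, inv_of_sq hb, mul_assoc]

theorem commute_of_fixed {b : P} (hb : b * b = 1) {x : P} (h : b * x * b = x) : x * b = b * x := by
  conv_lhs => rw [← h, mul_assoc, hb, mul_one]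

theorem fixed_of_commute {b : P} (hb : b * b = 1) {x : P} (h : x * b = b * x) : b * x * b = x := by
  rw [← h, mul_assoc, hb, mul_one]

/-- `C_U(a)`. -/
def Conf.V (a : P) : Subgroup P := q.U ⊓ centralizer ({a} : Set P)

theorem mem_V {a u : P} : u ∈ q.V a ↔ u ∈ q.U ∧ u * a = a * u := by
  rw [Conf.V, Subgroup.mem_inf, mem_cent]

theorem inter_center_le : q.U ⊓ center P ≤ q.A ⊓ q.U := fun x hx =>
  ⟨q.selfA x fun y _ => (mem_center_iff.mp hx.2 y).symm, hx.1⟩

theorem one_lt_inter : 1 < Nat.card ↥(q.A ⊓ q.U) := by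
  haveI := Fact.mk Nat.prime_two
  haveI := q.normal
  have hne : q.U ⊓ center P ≠ ⊥ := PGroupsBasic.inf_center_ne_bot (p := 2) q.hP fun h => by
    have := q.big
    rw [h, Subgroup.card_bot] at this
    omega
  have h0 : 0 < Nat.card ↥(q.A ⊓ q.U) := Nat.card_pos
  by_contra hc
  have h1 : q.A ⊓ q.U = ⊥ := Subgroup.card_eq_one.mp (by omega)
  exact hne (eq_bot_iff.mpr (h1 ▸ inter_center_le q))

theorem V_le_square {a : P} (ha : a * a = 1) :
    Nat.card q.U ≤ Nat.card (q.V a) * Nat.card (q.V a) := by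
  have hcj : ∀ u ∈ q.U, a * u * a ∈ q.U := fun u hu => by
    have := q.normal.conj_mem u hu a
    rwa [inv_of_sq ha] at this
  let φ : q.U →* P := MonoidHom.mk' (fun u => (u : P) * (a * u * a)) fun u v => by
    have hc := comm_of_sq q.sq v.2 (hcj u u.2)
    show (u : P) * v * (a * (u * v) * a) = _
    rw [conj_b_mul ha]
    calc (u : P) * v * ((a * u * a) * (a * v * a))
        = (u : P) * ((v : P) * (a * u * a)) * (a * v * a) := by group
      _ = _ := by rw [hc]; group
  have hr : φ.range ≤ q.V a := by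
    rintro _ ⟨u, rfl⟩
    refine (mem_V q).mpr ⟨mul_mem u.2 (hcj u u.2), commute_of_fixed ha ?_⟩
    show a * ((u : P) * (a * u * a)) * a = (u : P) * (a * u * a)
    rw [conj_b_mul ha, sq_conj ha]
    exact comm_of_sq q.sq (hcj u u.2) u.2
  have hk : φ.ker ≤ (q.V a).subgroupOf q.U := by
    intro u hu
    refine mem_subgroupOf.mpr ((mem_V q).mpr ⟨u.2, commute_of_fixed ha ?_⟩)
    have h1 : (u : P) * (a * u * a) = 1 := hu
    exact (inv_eq_of_mul_eq_one_right h1).symm.trans (inv_of_sq (q.sq u u.2))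
  have h1 := φ.ker.card_mul_index
  rw [Subgroup.index_ker] at h1
  rw [← h1]
  refine Nat.mul_le_mul ?_ (Subgroup.card_le_of_le hr)
  refine (Subgroup.card_le_of_le hk).trans (le_of_eq ?_)
  exact Nat.card_congr (Subgroup.subgroupOfEquivOfLe (inf_le_left : q.V a ≤ q.U)).toEquiv

/-- A pair from an element with fixed points of order 4 and self-centralising span. -/
theorem pair_of {a : P} (ha : a * a = 1) (haU : a ∉ q.U) (h4 : Nat.card (q.V a) = 4)
    (hself : ∀ x : P, x * a = a * x → (∀ v ∈ q.V a, x * v = v * x) → x ∈ q.V a ∨ a * x ∈ q.V a) :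
    ∃ p : Pair P, p.U = q.U :=
  ⟨{ U := q.U
     normal := q.normal
     sq := q.sq
     a := a
     a2 := ha
     aU := haU
     big := q.big
     fix4 := h4
     self := fun x h1 h2 => (hself x h1 fun v hv => h2 v ((mem_V q).mp hv).1 ((mem_V q).mp hv).2).imp
       (fun h => (mem_V q).mp h) (fun h => (mem_V q).mp h)
     hP := q.hP }, rfl⟩

section four

theorem pair_four (hF : Nat.card ↥(q.A ⊓ q.U) = 4) : ∃ p : Pair P, p.U = q.U := by
  set F := q.A ⊓ q.U with hFdef
  obtain ⟨a, haA, haF⟩ := SetLike.not_le_iff_exists.mp (fun h : q.A ≤ F => by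
    have := Subgroup.card_le_of_le h
    rw [q.A8, hF] at this
    omega)
  have hidx : (F.subgroupOf q.A).index = 2 := by
    have h := (F.subgroupOf q.A).card_mul_index
    rw [Nat.card_congr (Subgroup.subgroupOfEquivOfLe (inf_le_left : F ≤ q.A)).toEquiv, hF, q.A8] at h
    omega
  have hor : ∀ y ∈ q.A, y ∈ F ∨ a * y ∈ F := fun y hy => by
    by_cases h : y ∈ F
    · exact Or.inl h
    · refine Or.inr ?_
      have h2 : ((⟨a, haA⟩ : q.A) * ⟨y, hy⟩) ∈ F.subgroupOf q.A := by
        rw [Subgroup.mul_mem_iff_of_index_two hidx]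
        simp [mem_subgroupOf, haF, h]
      exact mem_subgroupOf.mp h2
  have hgen : ∀ x : P, x * a = a * x → (∀ e ∈ F, x * e = e * x) → x ∈ q.A := by
    intro x hxa hxF
    refine q.selfA x fun y hy => ?_
    rcases hor y hy with h | h
    · exact hxF y h
    · have hy' : y = a * (a * y) := by rw [← mul_assoc, q.Asq a haA, one_mul]
      rw [hy', ← mul_assoc, hxa, mul_assoc, hxF _ h, ← mul_assoc]
  have hV : q.V a = F := by
    refine le_antisymm (fun u hu => ⟨hgen u ((mem_V q).mp hu).2 fun e he =>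
      comm_of_sq q.sq ((mem_V q).mp hu).1 he.2, ((mem_V q).mp hu).1⟩) fun u hu =>
      (mem_V q).mpr ⟨hu.2, q.Acomm u hu.1 a haA⟩
  refine pair_of q (q.Asq a haA) (fun h => haF ⟨haA, h⟩) (hV.symm ▸ hF) fun x hxa hxV => ?_
  rw [hV] at hxV ⊢
  exact hor x (hgen x hxa hxV)

end four

section two

/-- Two elements of `A` generating it modulo `A ⊓ U = {1, f}`. -/
structure Two (q : Conf P) where
  a : P
  b : P
  f : P
  haA : a ∈ q.A
  hbA : b ∈ q.A
  hfA : f ∈ q.A
  hfU : f ∈ q.U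
  hf1 : f ≠ 1
  hF : ∀ x ∈ q.A, x ∈ q.U → x = 1 ∨ x = f
  haU : a ∉ q.U
  hbU : b ∉ q.U
  habU : a * b ∉ q.U

variable {q}

/-- The roles of `a` and `b` exchanged. -/
def Two.swap (t : Two q) : Two q where
  a := t.b
  b := t.a
  f := t.f
  haA := t.hbA
  hbA := t.haA
  hfA := t.hfA
  hfU := t.hfU
  hf1 := t.hf1
  hF := t.hF
  haU := t.hbU
  hbU := t.haU
  habU := by rw [q.Acomm _ t.hbA _ t.haA]; exact t.habU

variable (t : Two q)

theorem A_gen {x : P} (h1 : x * t.a = t.a * x) (h2 : x * t.b = t.b * x) (h3 : x * t.f = t.f * x) :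
    x ∈ q.A := by
  refine q.selfA x fun y hy => ?_
  have hle : Subgroup.closure ({t.a, t.b, t.f} : Set P) ≤ centralizer ({x} : Set P) := by
    rw [Subgroup.closure_le]
    intro w hw
    refine (mem_cent.mpr ?_ : w ∈ centralizer ({x} : Set P))
    rcases hw with rfl | rfl | rfl
    · exact h1.symm
    · exact h2.symm
    · exact h3.symm
  have hA : Subgroup.closure ({t.a, t.b, t.f} : Set P) = q.A := by
    have hle' : Subgroup.closure ({t.a, t.b, t.f} : Set P) ≤ q.A := by
      rw [Subgroup.closure_le]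
      rintro w (rfl | rfl | rfl)
      exacts [t.haA, t.hbA, t.hfA]
    refine Subgroup.eq_of_le_of_card_ge hle' ?_
    rw [q.A8]
    set W := Subgroup.closure ({t.a, t.b, t.f} : Set P)
    have ha : t.a ∈ W := subset_closure (by simp)
    have hb : t.b ∈ W := subset_closure (by simp)
    have hf : t.f ∈ W := subset_closure (by simp)
    have hd := Subgroup.card_dvd_of_le hle'
    rw [q.A8] at hd
    have h5 : 5 ≤ Nat.card W := by
      have ha1 : t.a ≠ 1 := fun h => t.haU (h ▸ one_mem _)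
      have hb1 : t.b ≠ 1 := fun h => t.hbU (h ▸ one_mem _)
      have hab1 : t.a * t.b ≠ 1 := fun h => t.habU (h ▸ one_mem _)
      have haf : t.a ≠ t.f := fun h => t.haU (h ▸ t.hfU)
      have hbf : t.b ≠ t.f := fun h => t.hbU (h ▸ t.hfU)
      have habne : t.a ≠ t.b := fun h => hab1 (by rw [h]; exact q.Asq _ t.hbA)
      have q1 : t.a * t.b ≠ t.a := fun h => hb1 (mul_eq_left.mp h)
      have q2 : t.a * t.b ≠ t.b := fun h => ha1 (mul_eq_right.mp h)
      have q3 : t.a * t.b ≠ t.f := fun h => t.habU (h ▸ t.hfU)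
      have hf1 := t.hf1
      have hinj : Function.Injective (![⟨1, one_mem _⟩, ⟨t.a, ha⟩, ⟨t.b, hb⟩, ⟨t.f, hf⟩,
          ⟨t.a * t.b, mul_mem ha hb⟩] : Fin 5 → W) := by
        intro i j e
        fin_cases i <;> fin_cases j <;> simp_all [Subtype.ext_iff, eq_comm]
      simpa using Nat.card_le_card_of_injective _ hinj
    have h8 := Nat.le_of_dvd (by norm_num) hd
    by_contra hlt
    interval_cases hh : Nat.card W <;> omega
  exact (mem_cent.mp (hle (hA.symm ▸ hy))).symm

theorem a2 : t.a * t.a = 1 := q.Asq _ t.haA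

theorem b2 : t.b * t.b = 1 := q.Asq _ t.hbA

theorem f_mem_V : t.f ∈ q.V t.a := (mem_V q).mpr ⟨t.hfU, q.Acomm _ t.hfA _ t.haA⟩

theorem b_V {v : P} (hv : v ∈ q.V t.a) : t.b * v * t.b ∈ q.V t.a := by
  refine (mem_V q).mpr ⟨?_, commute_of_fixed (a2 t) ?_⟩
  · have := q.normal.conj_mem v ((mem_V q).mp hv).1 t.b
    rwa [inv_of_sq (b2 t)] at this
  · have hab := q.Acomm _ t.haA _ t.hbA
    calc t.a * (t.b * v * t.b) * t.a = (t.a * t.b) * v * (t.b * t.a) := by group
      _ = (t.b * t.a) * v * (t.a * t.b) := by rw [hab]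
      _ = t.b * (t.a * v * t.a) * t.b := by group
      _ = _ := by rw [fixed_of_commute (a2 t) ((mem_V q).mp hv).2]

/-- Elements of `U` fixed by `a` and `b`. -/
theorem fixed_U {v : P} (hv : v ∈ q.V t.a) (hb : t.b * v * t.b = v) : v = 1 ∨ v = t.f :=
  t.hF v (A_gen t ((mem_V q).mp hv).2 (commute_of_fixed (b2 t) hb)
    (comm_of_sq q.sq ((mem_V q).mp hv).1 t.hfU)) ((mem_V q).mp hv).1

theorem b_moves {v : P} (hv : v ∈ q.V t.a) :
    t.b * v * t.b = v ∨ t.b * v * t.b = v * t.f := by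
  have hvU := ((mem_V q).mp hv).1
  have hbvU := ((mem_V q).mp (b_V t hv)).1
  have hfix : t.b * (v * (t.b * v * t.b)) * t.b = v * (t.b * v * t.b) := by
    rw [conj_b_mul (b2 t), sq_conj (b2 t), comm_of_sq q.sq hbvU hvU]
  rcases fixed_U t (mul_mem hv (b_V t hv)) hfix with h | h
  · exact Or.inl ((inv_eq_of_mul_eq_one_right h).symm.trans (inv_of_sq (q.sq v hvU)))
  · exact Or.inr (by rw [← h, ← mul_assoc, q.sq v hvU, one_mul])

theorem card_V : Nat.card (q.V t.a) = 4 := by
  haveI := Fact.mk Nat.prime_two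
  have h1 := V_le_square q (a2 t)
  have h2 := q.big
  have h4 : Nat.card (q.V t.a) ≤ 4 := by
    let φ : q.V t.a →* P := MonoidHom.mk' (fun v => (v : P) * (t.b * v * t.b)) fun v w => by
      have hc := comm_of_sq q.sq ((mem_V q).mp w.2).1 ((mem_V q).mp (b_V t v.2)).1
      show (v : P) * w * (t.b * (v * w) * t.b) = _
      rw [conj_b_mul (b2 t)]
      calc (v : P) * w * ((t.b * v * t.b) * (t.b * w * t.b))
          = (v : P) * ((w : P) * (t.b * v * t.b)) * (t.b * w * t.b) := by group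
        _ = _ := by rw [hc]; group
    have hr : (φ.range : Set P) ⊆ {1, t.f} := by
      rintro _ ⟨v, rfl⟩
      have hvU := ((mem_V q).mp v.2).1
      show (v : P) * (t.b * v * t.b) ∈ ({1, t.f} : Set P)
      rcases b_moves t v.2 with h | h <;> rw [h]
      · exact Or.inl (q.sq _ hvU)
      · exact Or.inr (by rw [← mul_assoc, q.sq _ hvU, one_mul]; rfl)
    have hk : ∀ v : φ.ker, (((v : q.V t.a) : P)) = 1 ∨ ((v : q.V t.a) : P) = t.f := fun v => by
      have h : ((v : q.V t.a) : P) * (t.b * (v : q.V t.a) * t.b) = 1 := v.2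
      exact fixed_U t (v : q.V t.a).2
        ((inv_eq_of_mul_eq_one_right h).symm.trans (inv_of_sq (q.sq _ ((mem_V q).mp (v : q.V t.a).2).1)))
    have h2' : ({1, t.f} : Set P).ncard ≤ 2 :=
      (Set.ncard_insert_le _ _).trans (by rw [Set.ncard_singleton])
    have hr2 : Nat.card φ.range ≤ 2 := by
      have := Set.ncard_le_ncard hr (Set.toFinite _)
      rw [← Nat.card_coe_set_eq, SetLike.coe_sort_coe] at this
      omega
    have hk2 : Nat.card φ.ker ≤ 2 := by
      have := Set.ncard_le_ncard (s := (fun v : φ.ker => ((v : q.V t.a) : P)) '' Set.univ)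
        (t := {1, t.f}) (by rintro _ ⟨v, -, rfl⟩; exact hk v) (Set.toFinite _)
      rw [Set.ncard_image_of_injective _ (fun x y e => Subtype.ext (Subtype.ext e)),
        Set.ncard_univ] at this
      omega
    rw [← φ.ker.card_mul_index, Subgroup.index_ker]
    exact (Nat.mul_le_mul hk2 hr2).trans (by norm_num)
  obtain ⟨i, hi⟩ := IsPGroup.iff_card.mp (q.hP.to_subgroup (q.V t.a))
  rw [hi] at h1 h4 ⊢
  have : i ≤ 2 := (Nat.pow_le_pow_iff_right (by norm_num : 1 < 2)).mp (h4.trans (by norm_num))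
  interval_cases i <;> omega

theorem exists_moved : ∃ v ∈ q.V t.a, t.b * v * t.b = v * t.f := by
  by_contra hcon
  push_neg at hcon
  have hsub : (q.V t.a : Set P) ⊆ {1, t.f} := fun v hv =>
    fixed_U t hv ((b_moves t hv).resolve_right (hcon v hv))
  have h1 := Set.ncard_le_ncard hsub (Set.toFinite _)
  rw [← Nat.card_coe_set_eq, SetLike.coe_sort_coe, card_V] at h1
  have h2 := Set.ncard_insert_le (1 : P) {t.f}
  rw [Set.ncard_singleton] at h2
  omega

/-- `x ∈ ⟨a⟩ C_U(a)`. -/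
def Two.InZ (x : P) : Prop := x ∈ q.V t.a ∨ t.a * x ∈ q.V t.a

theorem inZ_comm {x : P} (hx : t.InZ x) :
    x * x = 1 ∧ x * t.a = t.a * x ∧ ∀ v ∈ q.V t.a, x * v = v * x := by
  rcases hx with h | h
  · exact ⟨q.sq x ((mem_V q).mp h).1, ((mem_V q).mp h).2,
      fun v hv => comm_of_sq q.sq ((mem_V q).mp h).1 ((mem_V q).mp hv).1⟩
  · have hx' : x = t.a * (t.a * x) := by rw [← mul_assoc, a2, one_mul]
    have hc : (t.a * x) * t.a = t.a * (t.a * x) := ((mem_V q).mp h).2
    have hs := q.sq _ ((mem_V q).mp h).1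
    refine ⟨?_, ?_, fun v hv => ?_⟩
    · rw [hx', show t.a * (t.a * x) * (t.a * (t.a * x)) = t.a * ((t.a * x) * t.a) * (t.a * x) by group,
        hc, ← mul_assoc t.a t.a, a2, one_mul, hs]
    · rw [hx', mul_assoc, hc]
    · have hva := ((mem_V q).mp hv).2
      rw [hx', mul_assoc, comm_of_sq q.sq ((mem_V q).mp h).1 ((mem_V q).mp hv).1, ← mul_assoc,
        ← hva, mul_assoc]

theorem inZ_mul {x v : P} (hv : v ∈ q.V t.a) (h : t.InZ (x * v)) : t.InZ x := by
  rcases h with h | h
  · exact Or.inl ((Subgroup.mul_mem_cancel_right _ hv).mp h)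
  · rw [← mul_assoc] at h
    exact Or.inr ((Subgroup.mul_mem_cancel_right _ hv).mp h)

theorem inZ_fixed {x : P} (hx : t.InZ x) (h : t.b * x * t.b = x⁻¹) :
    x = 1 ∨ x = t.f ∨ x = t.a ∨ x = t.a * t.f := by
  have hfix : t.b * x * t.b = x := h.trans (inv_of_sq (inZ_comm t hx).1)
  rcases hx with h | h
  · exact (fixed_U t h hfix).imp id fun e => Or.inl e
  · have hab := q.Acomm _ t.haA _ t.hbA
    have hba : t.b * t.a * t.b = t.a := by rw [← hab, mul_assoc, b2, mul_one]
    have := fixed_U t h (by rw [conj_b_mul (b2 t), hba, hfix])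
    have hx' : x = t.a * (t.a * x) := by rw [← mul_assoc, a2, one_mul]
    rcases this with e | e
    · exact Or.inr (Or.inr (Or.inl (by rw [hx', e, mul_one])))
    · exact Or.inr (Or.inr (Or.inr (by rw [hx', e])))

/-- An element of `A` commuting with `C_U(a)` is in `⟨a⟩ C_U(a)`. -/
theorem A_inZ {x : P} (hx : x ∈ q.A) (hc : ∀ v ∈ q.V t.a, x * v = v * x) : t.InZ x := by
  obtain ⟨v, hv, hbv⟩ := exists_moved t
  set S := q.A ⊓ centralizer ({v} : Set P) with hS
  have hbS : t.b ∉ S := fun h => t.hf1 (by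
    rw [fixed_of_commute (b2 t) (mem_cent.mp h.2).symm] at hbv
    exact mul_eq_left.mp hbv.symm)
  have hd := Subgroup.card_dvd_of_le (inf_le_left : S ≤ q.A)
  rw [q.A8] at hd
  have h8 : Nat.card S ≠ 8 := fun h => hbS (by
    have e : S = q.A := Subgroup.eq_of_le_of_card_ge (inf_le_left : S ≤ q.A) (by rw [q.A8, h])
    rw [e]
    exact t.hbA)
  have hle : Nat.card S ≤ 4 := by
    have := Nat.le_of_dvd (by norm_num) hd
    interval_cases hh : Nat.card S <;> omega
  have hfS : t.f ∈ S := ⟨t.hfA, mem_cent.mpr (comm_of_sq q.sq t.hfU ((mem_V q).mp hv).1)⟩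
  have haS : t.a ∈ S := ⟨t.haA, mem_cent.mpr ((mem_V q).mp hv).2.symm⟩
  have hxS : x ∈ S := ⟨hx, mem_cent.mpr (hc v hv)⟩
  have ha1 : t.a ≠ 1 := fun h => t.haU (h ▸ one_mem _)
  have haf : t.a ≠ t.f := fun h => t.haU (h ▸ t.hfU)
  have hfa : t.f * t.a ≠ 1 := fun h => haf (by
    rw [← inv_of_sq (q.sq _ t.hfU)]; exact eq_inv_of_mul_eq_one_right h)
  have q1 : t.f * t.a ≠ t.f := fun h => ha1 (mul_eq_left.mp h)
  have q2 : t.f * t.a ≠ t.a := fun h => t.hf1 (mul_eq_right.mp h)
  have h4 : Nat.card S = 4 := by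
    refine le_antisymm hle ?_
    have hinj : Function.Injective (![⟨1, one_mem _⟩, ⟨t.f, hfS⟩, ⟨t.a, haS⟩,
        ⟨t.f * t.a, mul_mem hfS haS⟩] : Fin 4 → S) := by
      have hf1 := t.hf1
      intro i j e
      fin_cases i <;> fin_cases j <;> simp_all [Subtype.ext_iff, eq_comm]
    simpa using Nat.card_le_card_of_injective _ hinj
  rcases four_list h4 hfS haS hxS t.hf1 ha1 haf hfa with rfl | rfl | rfl | rfl
  · exact Or.inl (one_mem _)
  · exact Or.inl (f_mem_V t)
  · exact Or.inr (by rw [a2]; exact one_mem _)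
  · refine Or.inr ?_
    rw [q.Acomm _ t.hfA _ t.haA, ← mul_assoc, a2, one_mul]
    exact f_mem_V t

theorem cases_two {y : P} (hy1 : y * t.a = t.a * y) (hy2 : ∀ v ∈ q.V t.a, y * v = v * y)
    {e : P} (hbe : t.b * y * t.b = y * e) (he : e = 1 ∨ e = t.f ∨ e = t.a ∨ e = t.a * t.f) :
    t.InZ y ∨ y⁻¹ * t.b * y = t.a * t.b ∨ y⁻¹ * t.b * y = t.a * t.b * t.f ∨
      y * t.b * y⁻¹ = t.a * t.b ∨ y * t.b * y⁻¹ = t.a * t.b * t.f := by
  have hA : ∀ x, x * t.a = t.a * x → (∀ v ∈ q.V t.a, x * v = v * x) → t.b * x * t.b = x → t.InZ x :=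
    fun x h1 h2 h3 => A_inZ t
      (A_gen t h1 (commute_of_fixed (b2 t) h3) (h2 _ (f_mem_V t))) h2
  have hmove : ∀ a', a' ∈ q.A → t.b * y * t.b = y * a' → y⁻¹ * t.b * y = a' * t.b := by
    intro a' _ h
    calc y⁻¹ * t.b * y = y⁻¹ * (t.b * y * t.b) * t.b⁻¹ := by group
      _ = a' * t.b := by rw [h, inv_of_sq (b2 t)]; group
  rcases he with rfl | rfl | rfl | rfl
  · exact Or.inl (hA y hy1 hy2 (by rw [hbe, mul_one]))
  · left
    obtain ⟨v, hv, hbv⟩ := exists_moved t
    have hvU := ((mem_V q).mp hv).1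
    refine inZ_mul t hv (hA (y * v) ?_ (fun w hw => ?_) ?_)
    · rw [mul_assoc, ((mem_V q).mp hv).2, ← mul_assoc, hy1, mul_assoc]
    · rw [mul_assoc, comm_of_sq q.sq hvU ((mem_V q).mp hw).1, ← mul_assoc, hy2 w hw, mul_assoc]
    · rw [conj_b_mul (b2 t), hbe, hbv, comm_of_sq q.sq hvU t.hfU,
        show y * t.f * (t.f * v) = y * (t.f * t.f) * v by group, q.sq _ t.hfU, mul_one]
  · exact Or.inr (Or.inl (hmove _ t.haA hbe))
  · refine Or.inr (Or.inr (Or.inl ?_))
    rw [hmove _ (mul_mem t.haA t.hfA) hbe, mul_assoc, q.Acomm _ t.hfA _ t.hbA, ← mul_assoc]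

/-- `a` commutes with `g`, and `g` moves `b` to `ab` modulo `f`. -/
def Two.Moves (g : P) : Prop :=
  g * t.a = t.a * g ∧ g * t.f = t.f * g ∧
    (g⁻¹ * t.b * g = t.a * t.b ∨ g⁻¹ * t.b * g = t.a * t.b * t.f)

theorem self_or_moves :
    (∀ x : P, x * t.a = t.a * x → (∀ v ∈ q.V t.a, x * v = v * x) → t.InZ x) ∨ ∃ g, t.Moves g := by
  by_cases hg : ∃ g, t.Moves g
  · exact Or.inr hg
  refine Or.inl ?_
  have hno : ∀ y : P, y * t.a = t.a * y → (∀ v ∈ q.V t.a, y * v = v * y) → ∀ e,
      t.b * y * t.b = y * e → (e = 1 ∨ e = t.f ∨ e = t.a ∨ e = t.a * t.f) → t.InZ y := by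
    intro y hy1 hy2 e hbe he
    have hyf := hy2 _ (f_mem_V t)
    have hy1' : y⁻¹ * t.a = t.a * y⁻¹ := (Commute.inv_left (hy1 : Commute y t.a)).eq
    have hyf' : y⁻¹ * t.f = t.f * y⁻¹ := (Commute.inv_left (hyf : Commute y t.f)).eq
    rcases cases_two t hy1 hy2 hbe he with h | h | h | h | h
    · exact h
    · exact absurd ⟨y, hy1, hyf, Or.inl h⟩ hg
    · exact absurd ⟨y, hy1, hyf, Or.inr h⟩ hg
    · exact absurd ⟨y⁻¹, hy1', hyf', Or.inl (by rw [inv_inv]; exact h)⟩ hg
    · exact absurd ⟨y⁻¹, hy1', hyf', Or.inr (by rw [inv_inv]; exact h)⟩ hg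
  have hbconj : ∀ x, x * t.a = t.a * x → (∀ v ∈ q.V t.a, x * v = v * x) →
      (t.b * x * t.b) * t.a = t.a * (t.b * x * t.b) ∧
        ∀ v ∈ q.V t.a, (t.b * x * t.b) * v = v * (t.b * x * t.b) := by
    intro x h1 h2
    have hab := q.Acomm _ t.haA _ t.hbA
    constructor
    · calc (t.b * x * t.b) * t.a = t.b * x * (t.b * t.a) := by group
        _ = t.b * x * (t.a * t.b) := by rw [hab]
        _ = t.b * (x * t.a) * t.b := by group
        _ = (t.b * t.a) * x * t.b := by rw [h1]; group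
        _ = (t.a * t.b) * x * t.b := by rw [hab]
        _ = _ := by group
    · intro v hv
      have h3 := h2 _ (b_V t hv)
      have hb := b2 t
      calc (t.b * x * t.b) * v = t.b * (x * (t.b * v * t.b)) * t.b := by
            rw [show t.b * (x * (t.b * v * t.b)) * t.b = t.b * x * t.b * v * (t.b * t.b) by group, hb,
              mul_one]
        _ = t.b * ((t.b * v * t.b) * x) * t.b := by rw [h3]
        _ = _ := by rw [show t.b * ((t.b * v * t.b) * x) * t.b = (t.b * t.b) * v * (t.b * x * t.b) by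
              group, hb, one_mul]
  have hinv : ∀ n, ∀ y : P, y ^ 2 ^ n = 1 → y * t.a = t.a * y →
      (∀ v ∈ q.V t.a, y * v = v * y) → t.b * y * t.b = y⁻¹ → t.InZ y := by
    intro n
    induction n with
    | zero =>
      intro y h _ _ _
      rw [pow_zero, pow_one] at h
      exact Or.inl (h ▸ one_mem _)
    | succ n ih =>
      intro y h hy1 hy2 hbi
      have hb2 : t.b * (y * y) * t.b = (y * y)⁻¹ := by rw [conj_b_mul (b2 t), hbi, mul_inv_rev]
      have hZ : t.InZ (y * y) := ih (y * y) (by rw [← pow_two, ← pow_mul, ← pow_succ']; exact h)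
        (Commute.mul_left (hy1 : Commute y t.a) hy1).eq
        (fun v hv => (Commute.mul_left (hy2 v hv : Commute y v) (hy2 v hv)).eq) hb2
      refine hno y hy1 hy2 (y * y) ?_ (inZ_fixed t hZ hb2)
      rw [hbi]
      exact inv_eq_of_mul_eq_one_right (by
        calc y * (y * (y * y)) = (y * y) * (y * y) := by group
          _ = 1 := (inZ_comm t hZ).1)
  intro x h1 h2
  obtain ⟨hb1, hb2'⟩ := hbconj x h1 h2
  set y := x⁻¹ * (t.b * x * t.b) with hy
  have hyi : t.b * y * t.b = y⁻¹ := by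
    rw [hy, conj_b_mul (b2 t), conj_b_inv (b2 t), sq_conj (b2 t), mul_inv_rev x⁻¹, inv_inv]
  have hy1 : y * t.a = t.a * y := (Commute.mul_left (Commute.inv_left (h1 : Commute x t.a)) hb1).eq
  have hy2 : ∀ v ∈ q.V t.a, y * v = v * y := fun v hv =>
    (Commute.mul_left (Commute.inv_left (h2 v hv : Commute x v)) (hb2' v hv)).eq
  obtain ⟨n, hn⟩ := q.hP y
  refine hno x h1 h2 y (by rw [hy]; group) (inZ_fixed t (hinv n y hn hy1 hy2 hyi) hyi)

include t in
/-- One of `a`, `b` gives a pair. -/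
theorem pair_two : ∃ p : Pair P, p.U = q.U := by
  rcases self_or_moves t with h | ⟨g, hg⟩
  · exact pair_of q (a2 t) t.haU (card_V t) h
  rcases self_or_moves t.swap with h | ⟨k, hk⟩
  · exact pair_of q (a2 t.swap) t.swap.haU (card_V t.swap) h
  exfalso
  obtain ⟨hga, hgf, hgb⟩ := hg
  obtain ⟨hkb, hkf, hka⟩ := hk
  change k * t.b = t.b * k at hkb
  change k * t.f = t.f * k at hkf
  change k⁻¹ * t.a * k = t.b * t.a ∨ k⁻¹ * t.a * k = t.b * t.a * t.f at hka
  have hab := q.Acomm _ t.haA _ t.hbA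
  rw [← hab] at hka
  set F : Set P := {1, t.f}
  let σ : P → P := fun x => (g * k)⁻¹ * x * (g * k)
  have σmul : ∀ x y, σ (x * y) = σ x * σ y := fun x y => by simp only [σ]; group
  have hff := q.sq _ t.hfU
  have σf : σ t.f = t.f := by
    have h : (g * k) * t.f = t.f * (g * k) := (Commute.mul_left (hgf : Commute g t.f) hkf).eq
    simp only [σ]
    rw [mul_assoc, ← h, inv_mul_cancel_left]
  have hfa := q.Acomm _ t.hfA _ t.haA
  have hfb := q.Acomm _ t.hfA _ t.hbA
  have σa : σ t.a = t.a * t.b ∨ σ t.a = t.a * t.b * t.f := by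
    have h : σ t.a = k⁻¹ * t.a * k := by
      calc σ t.a = k⁻¹ * (g⁻¹ * (t.a * g)) * k := by simp only [σ]; group
        _ = _ := by rw [← hga, inv_mul_cancel_left]
    rw [h]; exact hka
  have σb : σ t.b = t.a ∨ σ t.b = t.a * t.f := by
    have h : σ t.b = k⁻¹ * (g⁻¹ * t.b * g) * k := by simp only [σ]; group
    have hb' : k⁻¹ * t.b * k = t.b := by rw [mul_assoc, ← hkb, inv_mul_cancel_left]
    have hf' : k⁻¹ * t.f * k = t.f := by rw [mul_assoc, ← hkf, inv_mul_cancel_left]
    have hc : ∀ x y, k⁻¹ * (x * y) * k = (k⁻¹ * x * k) * (k⁻¹ * y * k) := fun x y => by group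
    rcases hgb with e | e <;> rw [h, e]
    · rw [hc, hb']
      rcases hka with e' | e' <;> rw [e']
      · exact Or.inl (by rw [mul_assoc, b2, mul_one])
      · exact Or.inr (by rw [mul_assoc, hfb, ← mul_assoc, mul_assoc t.a t.b t.b, b2, mul_one])
    · rw [hc, hc, hb', hf']
      rcases hka with e' | e' <;> rw [e']
      · exact Or.inr (by rw [mul_assoc t.a t.b t.b, b2, mul_one])
      · refine Or.inl ?_
        rw [mul_assoc (t.a * t.b) t.f t.b, hfb, ← mul_assoc (t.a * t.b) t.b t.f,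
          mul_assoc t.a t.b t.b, b2, mul_one, mul_assoc, hff, mul_one]
  let cls : P → P → Prop := fun c x => x = c ∨ x = c * t.f
  have hshift : ∀ c d, cls d (σ c) → ∀ x, cls c x → cls d (σ x) := by
    intro c d hd x hx
    rcases hx with rfl | rfl
    · exact hd
    · rw [σmul, σf]
      rcases hd with e | e <;> rw [e]
      · exact Or.inr rfl
      · exact Or.inl (by rw [mul_assoc, hff, mul_one])
  have σab : cls t.b (σ (t.a * t.b)) := by
    rw [σmul]
    rcases σa with e | e <;> rcases σb with e' | e' <;> rw [e, e']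
    · left; rw [hab, mul_assoc, a2, mul_one]
    · right; rw [hab, mul_assoc t.b t.a, ← mul_assoc t.a t.a, a2, one_mul]
    · right; rw [hab, mul_assoc, hfa, ← mul_assoc, mul_assoc t.b t.a t.a, a2, mul_one]
    · left
      rw [hab, mul_assoc, ← mul_assoc t.f t.a, hfa, mul_assoc t.a t.f t.f, hff, mul_one, mul_assoc,
        a2, mul_one]
  have hiter : ∀ n : ℕ, (n % 3 = 0 → cls t.a (σ^[n] t.a)) ∧ (n % 3 = 1 → cls (t.a * t.b) (σ^[n] t.a)) ∧
      (n % 3 = 2 → cls t.b (σ^[n] t.a)) := by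
    intro n
    induction n with
    | zero => exact ⟨fun _ => Or.inl rfl, fun h => absurd h (by norm_num), fun h => absurd h (by norm_num)⟩
    | succ n ih =>
      obtain ⟨i0, i1, i2⟩ := ih
      rw [Function.iterate_succ_apply']
      refine ⟨fun h => hshift _ _ σb _ (i2 (by omega)), fun h => hshift _ _ σa _ (i0 (by omega)),
        fun h => hshift _ _ σab _ (i1 (by omega))⟩
  have hpow : ∀ n : ℕ, σ^[n] t.a = ((g * k) ^ n)⁻¹ * t.a * (g * k) ^ n := by
    intro n
    induction n with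
    | zero => simp
    | succ n ih =>
      rw [Function.iterate_succ_apply', ih, pow_succ]
      simp only [σ]; group
  obtain ⟨n, hn⟩ := q.hP (g * k)
  have hfin := hpow (2 ^ n)
  rw [hn, inv_one, one_mul, mul_one] at hfin
  have h3 : 2 ^ n % 3 = 1 ∨ 2 ^ n % 3 = 2 := by
    have hne : ¬ 3 ∣ 2 ^ n := fun h => by
      have := Nat.Prime.dvd_of_dvd_pow Nat.prime_three h
      omega
    omega
  obtain ⟨-, i1, i2⟩ := hiter (2 ^ n)
  have hb1 : t.b ∉ q.U := t.hbU
  rcases h3 with h | h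
  · rcases hfin ▸ i1 h with e | e
    · exact hb1 (by rw [mul_eq_left.mp e.symm]; exact one_mem _)
    · rw [mul_assoc] at e
      refine hb1 ?_
      rw [eq_inv_of_mul_eq_one_left (mul_eq_left.mp e.symm), inv_of_sq hff]
      exact t.hfU
  · rcases hfin ▸ i2 h with e | e
    · exact t.habU (by rw [e, b2]; exact one_mem _)
    · refine t.habU ?_
      rw [e, mul_assoc, hfb, ← mul_assoc, b2, one_mul]
      exact t.hfU

end two

theorem exists_pair (hA : ¬ q.A ≤ q.U) : ∃ p : Pair P, p.U = q.U := by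
  haveI := Fact.mk Nat.prime_two
  by_cases h4 : Nat.card ↥(q.A ⊓ q.U) = 4
  · exact pair_four q h4
  set F := q.A ⊓ q.U with hF
  have h1 : 1 < Nat.card F := one_lt_inter q
  have hle : F ≤ q.A := inf_le_left
  have h8 : Nat.card F ≠ 8 := fun h => hA (fun x hx => by
    have := Subgroup.eq_of_le_of_card_ge hle (by rw [q.A8, h])
    exact (this.symm ▸ hx : x ∈ F).2)
  have hd := Subgroup.card_dvd_of_le hle
  rw [q.A8] at hd
  have h2 : Nat.card F = 2 := by
    have := Nat.le_of_dvd (by norm_num) hd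
    interval_cases hh : Nat.card F <;> omega
  obtain ⟨f, hfF, hf1⟩ : ∃ f ∈ F, f ≠ 1 := by
    by_contra hc
    push_neg at hc
    rw [(Subgroup.eq_bot_iff_forall _).mpr hc, Subgroup.card_bot] at h1
    omega
  have hFl : ∀ x ∈ q.A, x ∈ q.U → x = 1 ∨ x = f := fun x hx hxU => by
    by_contra hc
    push_neg at hc
    have := three_in (one_mem F) hfF (show x ∈ F from ⟨hx, hxU⟩) (Ne.symm hf1) (Ne.symm hc.1) (Ne.symm hc.2)
    omega
  obtain ⟨a, ha, haF⟩ := SetLike.not_le_iff_exists.mp (fun h : q.A ≤ F => by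
    have := Subgroup.card_le_of_le h
    rw [q.A8, h2] at this; omega)
  obtain ⟨b, hb, hbF, habF⟩ : ∃ b ∈ q.A, b ∉ F ∧ a * b ∉ F := by
    by_contra hc
    push_neg at hc
    have hsub : (q.A : Set P) ⊆ (F : Set P) ∪ (fun z => a * z) '' (F : Set P) := fun x hx => by
      by_cases hxF : x ∈ F
      · exact Or.inl hxF
      · exact Or.inr ⟨a * x, hc x hx hxF, by
          show a * (a * x) = x
          rw [← mul_assoc, q.Asq a ha, one_mul]⟩
    have h1 := Set.ncard_le_ncard hsub (Set.toFinite _)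
    have h3 := Set.ncard_union_le (F : Set P) ((fun z => a * z) '' (F : Set P))
    have h4 := Set.ncard_image_le (f := fun z => a * z) (Set.toFinite (F : Set P))
    rw [← Nat.card_coe_set_eq, SetLike.coe_sort_coe, q.A8] at h1
    rw [← Nat.card_coe_set_eq (F : Set P), SetLike.coe_sort_coe, h2] at h3 h4
    omega
  exact pair_two (⟨a, b, f, ha, hb, hfF.1, hfF.2, hf1, hFl, fun h => haF ⟨ha, h⟩,
    fun h => hbF ⟨hb, h⟩, fun h => habF ⟨mul_mem ha hb, h⟩⟩ : Two q)

theorem exists_data (p : Pair P) (hmax : ∀ W : Subgroup P, W.Normal → (∀ w ∈ W, w * w = 1) →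
    p.U ≤ W → W = p.U) (hns : ¬ centralizer (p.U : Set P) ≤ p.U) :
    Nonempty (SelfCentE8Small94.Data p) := by
  haveI := Fact.mk Nat.prime_two
  obtain ⟨M, ⟨hn, hc, he, hUM⟩, hM⟩ := Set.Finite.exists_maximal
    (Set.toFinite {M : Subgroup P | M.Normal ∧ IsMulCommutative M ∧ (∀ m ∈ M, m ^ 2 ^ 2 = 1) ∧
      p.U ≤ M})
    ⟨p.U, p.normal, ⟨⟨fun a b => Subtype.ext (comm_of_sq p.sq a.2 b.2)⟩⟩, fun m hm => by
      simpa using TwoCentral94.four_of_two (p.sq m hm), le_rfl⟩
  haveI := hn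
  have hcomm : ∀ a ∈ M, ∀ b ∈ M, a * b = b * a := fun a ha b hb =>
    congrArg Subtype.val (hc.is_comm.comm ⟨a, ha⟩ ⟨b, hb⟩)
  have halp : ∀ x ∈ centralizer (M : Set P), x ^ 4 = 1 → x ∈ M := fun x hx hx4 =>
    PGroupsCritical.mem_of_maximal_exponent p.hP 2 (by norm_num) M hc he
      (fun B hB hBc hBe hle => le_antisymm (hM ⟨hB, hBc, hBe, hUM.trans hle⟩ hle) hle) hx
      (by simpa using hx4)
  let W : Subgroup P :=
    { carrier := {m | m ∈ M ∧ m * m = 1}
      one_mem' := ⟨one_mem M, one_mul 1⟩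
      mul_mem' := fun {x y} hx hy => ⟨mul_mem hx.1 hy.1, by
        calc x * y * (x * y) = x * (y * x) * y := by group
          _ = x * (x * y) * y := by rw [hcomm y hy.1 x hx.1]
          _ = (x * x) * (y * y) := by group
          _ = 1 := by rw [hx.2, hy.2, mul_one]⟩
      inv_mem' := fun {x} hx => ⟨inv_mem hx.1, by rw [inv_of_sq hx.2]; exact hx.2⟩ }
  have homega : ∀ m ∈ M, m * m = 1 → m ∈ p.U := by
    have hW : W = p.U := hmax W ⟨fun w hw g => ⟨hn.conj_mem w hw.1 g, by
        rw [show g * w * g⁻¹ * (g * w * g⁻¹) = g * (w * w) * g⁻¹ by group, hw.2, mul_one,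
          mul_inv_cancel]⟩⟩ (fun w hw => hw.2) fun u hu => ⟨hUM hu, p.sq u hu⟩
    intro m hm h
    rw [← hW]
    exact ⟨hm, h⟩
  obtain ⟨c, hc', hc2⟩ : ∃ c ∈ M, c * c ≠ 1 := by
    by_contra hcon
    push_neg at hcon
    refine hns fun x hx => ?_
    have hxM : ∀ y ∈ centralizer (p.U : Set P), y ∈ centralizer (M : Set P) := fun y hy =>
      mem_centralizer_iff.mpr fun m hm => mem_centralizer_iff.mp hy m (homega m hm (hcon m hm))
    obtain ⟨n, hn'⟩ := p.hP x
    induction n generalizing x with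
    | zero => rw [pow_zero, pow_one] at hn'; rw [hn']; exact one_mem _
    | succ n ih =>
      have h2 : x * x ∈ p.U := ih (x * x) (mul_mem hx hx) (by rw [← pow_two, ← pow_mul, ← pow_succ']; exact hn')
      have hxM' := halp x (hxM x hx) (by rw [TwoCentral94.pow_four]; exact p.sq _ h2)
      exact homega x hxM' (hcon x hxM')
  exact ⟨{ M := M, normal := hn, comm := hcomm, expFour := fun m hm => by simpa using he m hm,
           U_le := hUM, omega := homega, alperin := halp, c := c, cM := hc', c2 := hc2 }⟩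

/-- Harada's theorem. -/
theorem frattiniLE_four (hP : IsPGroup 2 P) (A : Subgroup P)
    (hc : ∀ x ∈ A, ∀ y ∈ A, x * y = y * x) (hsq : ∀ x ∈ A, x * x = 1) (h8 : Nat.card A = 8)
    (hself : centralizer (A : Set P) = A) (H : Subgroup P) :
    SectionalFourGroup.FrattiniLE 4 H := by
  haveI := Fact.mk Nat.prime_two
  set T : Set (Subgroup P) := {U | U.Normal ∧ (∀ u ∈ U, u * u = 1) ∧ 8 ≤ Nat.card U}
  by_cases hne : T.Nonempty
  swap
  · refine FourGenerator94.frattiniLE_four hP (fun B hBn _ hB2 => ?_) H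
    by_contra hB
    refine hne ⟨B, hBn, fun b hb => by rw [← sq]; exact hB2 b hb, ?_⟩
    obtain ⟨i, hi⟩ := IsPGroup.iff_card.mp (hP.to_subgroup B)
    rw [hi] at hB ⊢
    have : 3 ≤ i := by
      by_contra hlt
      interval_cases i <;> omega
    exact le_trans (by norm_num) (Nat.pow_le_pow_right two_pos this)
  obtain ⟨U, ⟨hUn, hUsq, hU8⟩, hUmax⟩ := Set.Finite.exists_maximal (Set.toFinite T) hne
  intro K hKH hK
  show (K.subgroupOf H).index ≤ 2 ^ 4
  have hK' : ∀ u : H, u * u ∈ K.subgroupOf H := fun u => mem_subgroupOf.mpr (hK u u.2)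
  haveI := hUn
  let q : Conf P := ⟨A, hc, hsq, h8, fun x hx => by
    rw [← hself]; exact mem_centralizer_iff.mpr fun y hy => (hx y hy).symm, U, hUn, hUsq, hU8, hP⟩
  by_cases hAU : A ≤ U
  · have hUA : U ≤ A := fun u hu => q.selfA u fun y hy => comm_of_sq hUsq hu (hAU hy)
    have hEq : U = A := le_antisymm hUA hAU
    exact index_le_of_self_eight hP (hEq ▸ h8 : Nat.card U = 8) hUsq (by rw [hEq, hself]) hK'
  obtain ⟨p, hp⟩ := exists_pair q hAU
  have hp' : p.U = U := hp
  have h16 : Nat.card p.U ≤ 16 := by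
    have h1 := card_range p
    have h2 := Subgroup.card_le_of_le (range_comHom_le p)
    rw [card_F] at h2
    omega
  rcases card_eight_or hP p.big h16 with h | h
  · haveI := p.normal
    by_cases hns : centralizer (p.U : Set P) ≤ p.U
    · exact index_le_of_self_eight hP h p.sq hns hK'
    · obtain ⟨s⟩ := exists_data p (fun W hWn hW2 hle => by
        rw [hp'] at hle ⊢
        exact le_antisymm (hUmax ⟨hWn, hW2, hU8.trans (Subgroup.card_le_of_le hle)⟩ hle) hle) hns
      exact SelfCentE8Small94.index_le_sixteen s h hK'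
  · exact SelfCentE8Sixteen94.index_le_sixteen p h hK'

end Cfsg.Agent.SelfCentE8Main94
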