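import Mathlib
import Cfsg.Agent.Lib.SelfCentE8Main94

/-!
A finite 2-group `S` with a subgroup `Q = Q₈ ∗ Q₈` satisfying `C_S(Q) ≤ Q` has a self-centralising
elementary abelian subgroup of order 8: of the three such subgroups of `Q` in one orbit, two cannot
have larger centralisers, as that would give an element permuting the three cyclically.
-/

set_option autoImplicit false
set_option linter.unusedSectionVars false
set_option linter.unusedVariables false
set_option linter.style.haveILetI false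

open Subgroup

namespace Cfsg.Agent.SelfCentE8Extra94

variable {S : Type*} [Group S]

/-- Generators of `Q₈ ∗ Q₈`. -/
structure Gens (S : Type*) [Group S] where
  i : S
  j : S
  k : S
  l : S
  z : S
  z2 : z * z = 1
  z1 : z ≠ 1
  ii : i * i = z
  jj : j * j = z
  kk : k * k = z
  ll : l * l = z
  ji : j * i = z * (i * j)
  lk : l * k = z * (k * l)
  ki : Commute k i
  li : Commute l i
  kj : Commute k j
  lj : Commute l j

variable (g : Gens S)

/-- `x` and `y` anticommute. -/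
def Gens.Anti (x y : S) : Prop := y * x = g.z * (x * y)

/-- The subgroup `Q`. -/
def Gens.Q : Subgroup S := closure {g.i, g.j, g.k, g.l}

theorem zi : Commute g.z g.i := by rw [← g.ii]; exact (Commute.refl _).mul_left (Commute.refl _)
theorem zj : Commute g.z g.j := by rw [← g.jj]; exact (Commute.refl _).mul_left (Commute.refl _)
theorem zk : Commute g.z g.k := by rw [← g.kk]; exact (Commute.refl _).mul_left (Commute.refl _)
theorem zl : Commute g.z g.l := by rw [← g.ll]; exact (Commute.refl _).mul_left (Commute.refl _)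

theorem z_comm {x : S} (hx : x ∈ g.Q) : Commute g.z x := by
  have hle : g.Q ≤ centralizer ({g.z} : Set S) := by
    rw [Gens.Q, Subgroup.closure_le]
    rintro w (rfl | rfl | rfl | rfl) <;> refine SelfCentE8Base94.mem_cent.mpr ?_
    exacts [(zi g).symm.eq, (zj g).symm.eq, (zk g).symm.eq, (zl g).symm.eq]
  exact (SelfCentE8Base94.mem_cent.mp (hle hx)).symm

variable {g}

theorem anti_symm {x y : S} (h : g.Anti x y) : g.Anti y x := by
  show x * y = g.z * (y * x)
  rw [h, ← mul_assoc, g.z2, one_mul]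

theorem anti_comm {x y w : S} (hy : Commute g.z y) (h1 : Commute x y) (h2 : g.Anti x w) :
    g.Anti x (y * w) := by
  show y * w * x = g.z * (x * (y * w))
  rw [mul_assoc, h2, ← mul_assoc, ← hy.eq, mul_assoc g.z, ← mul_assoc y, ← h1.eq, mul_assoc x]

theorem comm_anti {x y w : S} (h1 : g.Anti x y) (h2 : Commute x w) : g.Anti x (y * w) := by
  show y * w * x = g.z * (x * (y * w))
  rw [mul_assoc, ← h2.eq, ← mul_assoc y, h1, mul_assoc g.z, mul_assoc x]

theorem anti_anti {x y w : S} (hy : Commute g.z y) (h1 : g.Anti x y) (h2 : g.Anti x w) :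
    Commute x (y * w) := by
  show x * (y * w) = y * w * x
  rw [mul_assoc y, h2, ← mul_assoc y, ← hy.eq, mul_assoc g.z, ← mul_assoc y x, h1,
    mul_assoc g.z (x * y), ← mul_assoc g.z g.z, g.z2, one_mul, mul_assoc]

theorem not_both {x y : S} (h1 : g.Anti x y) (h2 : Commute x y) : False := by
  have h : g.z * (x * y) = 1 * (x * y) := by rw [one_mul, ← h1, h2.eq]
  exact g.z1 (mul_right_cancel h)

theorem sq_anti {x y : S} (hx : Commute g.z x) (h : g.Anti x y) :
    x * y * (x * y) = g.z * (x * x * (y * y)) := by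
  rw [mul_assoc, ← mul_assoc y, h, ← mul_assoc x, ← mul_assoc x g.z, ← hx.eq]
  group

theorem sq_comm {x y : S} (h : Commute x y) : x * y * (x * y) = x * x * (y * y) := by
  rw [mul_assoc, ← mul_assoc y, ← h.eq]
  group

variable (g)

theorem mem_i : g.i ∈ g.Q := subset_closure (by simp)
theorem mem_j : g.j ∈ g.Q := subset_closure (by simp)
theorem mem_k : g.k ∈ g.Q := subset_closure (by simp)
theorem mem_l : g.l ∈ g.Q := subset_closure (by simp)
theorem mem_z : g.z ∈ g.Q := g.ii ▸ mul_mem (mem_i g) (mem_i g)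

theorem a_ij : g.Anti g.i g.j := g.ji
theorem a_kl : g.Anti g.k g.l := g.lk

/-- The elements commuting or anticommuting with `x`. -/
def Gens.rel (x : S) : Subgroup S where
  carrier := {y | Commute g.z y ∧ (Commute x y ∨ g.Anti x y)}
  one_mem' := ⟨Commute.one_right _, Or.inl (Commute.one_right _)⟩
  mul_mem' := fun {y w} hy hw => ⟨hy.1.mul_right hw.1, by
    rcases hy.2 with h | h <;> rcases hw.2 with h' | h'
    · exact Or.inl (h.mul_right h')
    · exact Or.inr (anti_comm hy.1 h h')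
    · exact Or.inr (comm_anti h h')
    · exact Or.inl (anti_anti hy.1 h h')⟩
  inv_mem' := fun {y} hy => ⟨hy.1.inv_right, hy.2.imp (fun h => h.inv_right) fun h => by
    show y⁻¹ * x = g.z * (x * y⁻¹)
    have h' := anti_symm h
    calc y⁻¹ * x = y⁻¹ * (x * y) * y⁻¹ := by group
      _ = y⁻¹ * (g.z * (y * x)) * y⁻¹ := by rw [h']
      _ = y⁻¹ * (g.z * y) * x * y⁻¹ := by group
      _ = _ := by rw [hy.1.eq]; group⟩

theorem mem_rel {x y : S} : y ∈ g.rel x ↔ Commute g.z y ∧ (Commute x y ∨ g.Anti x y) := Iff.rfl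

theorem Q_rel {x y : S} (hx : x ∈ g.Q) (hy : y ∈ g.Q) : Commute x y ∨ g.Anti x y := by
  have hgen : ∀ s ∈ ({g.i, g.j, g.k, g.l} : Set S), ∀ y ∈ g.Q, Commute s y ∨ g.Anti s y := by
    intro s hs y hy
    have hle : g.Q ≤ g.rel s := by
      rw [Gens.Q, Subgroup.closure_le]
      intro w hw
      refine ⟨z_comm g (subset_closure hw), ?_⟩
      rcases hs with rfl | rfl | rfl | rfl <;> rcases hw with rfl | rfl | rfl | rfl
      exacts [Or.inl (Commute.refl _), Or.inr (a_ij g), Or.inl g.ki.symm, Or.inl g.li.symm,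
        Or.inr (anti_symm (a_ij g)), Or.inl (Commute.refl _), Or.inl g.kj.symm, Or.inl g.lj.symm,
        Or.inl g.ki, Or.inl g.kj, Or.inl (Commute.refl _), Or.inr (a_kl g),
        Or.inl g.li, Or.inl g.lj, Or.inr (anti_symm (a_kl g)), Or.inl (Commute.refl _)]
    exact (hle hy).2
  have hle : g.Q ≤ g.rel y := by
    rw [Gens.Q, Subgroup.closure_le]
    intro w hw
    exact ⟨z_comm g (subset_closure hw), (hgen w hw y hy).imp Commute.symm anti_symm⟩
  exact (hle hx).2.imp Commute.symm anti_symm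

/-! ### The elementary abelian subgroup `⟨z, ik, jl⟩` -/

theorem c_ik_jl : Commute (g.i * g.k) (g.j * g.l) :=
  (anti_anti (z_comm g (mem_i g))
    (anti_symm (comm_anti (a_ij g) g.li.symm))
    (anti_symm (anti_comm (zj g) g.kj (a_kl g)))).symm

theorem sq_ik : g.i * g.k * (g.i * g.k) = 1 := by rw [sq_comm g.ki.symm, g.ii, g.kk, g.z2]
theorem sq_jl : g.j * g.l * (g.j * g.l) = 1 := by rw [sq_comm g.lj.symm, g.jj, g.ll, g.z2]

theorem mem_ik : g.i * g.k ∈ g.Q := mul_mem (mem_i g) (mem_k g)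
theorem mem_jl : g.j * g.l ∈ g.Q := mul_mem (mem_j g) (mem_l g)

theorem zmod_two : ∀ x : ZMod 2, x = 0 ∨ x = 1 := by decide

theorem pow_val_add {x : S} (hx : x * x = 1) (u v : ZMod 2) :
    x ^ (u + v).val = x ^ u.val * x ^ v.val := by
  rcases zmod_two u with rfl | rfl <;> rcases zmod_two v with rfl | rfl
  · simp
  · simp
  · simp
  · rw [show (1 : ZMod 2) + 1 = 0 by decide]; simp [ZMod.val_one, hx]

/-- The parametrisation of `⟨z, ik, jl⟩`. -/
def Gens.par : Multiplicative (ZMod 2 × ZMod 2 × ZMod 2) →* S :=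
  MonoidHom.mk' (fun v => g.z ^ v.toAdd.1.val * ((g.i * g.k) ^ v.toAdd.2.1.val *
    (g.j * g.l) ^ v.toAdd.2.2.val)) fun v w => by
    simp only [toAdd_mul, Prod.fst_add, Prod.snd_add]
    rw [pow_val_add g.z2, pow_val_add (sq_ik g), pow_val_add (sq_jl g)]
    have h1 : Commute (g.z ^ w.toAdd.1.val)
        ((g.i * g.k) ^ v.toAdd.2.1.val * (g.j * g.l) ^ v.toAdd.2.2.val) :=
      ((z_comm g (mem_ik g)).pow_pow _ _).mul_right ((z_comm g (mem_jl g)).pow_pow _ _)
    have h2 : Commute ((g.i * g.k) ^ w.toAdd.2.1.val) ((g.j * g.l) ^ v.toAdd.2.2.val) :=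
      (c_ik_jl g).pow_pow _ _
    calc g.z ^ v.toAdd.1.val * g.z ^ w.toAdd.1.val *
          ((g.i * g.k) ^ v.toAdd.2.1.val * (g.i * g.k) ^ w.toAdd.2.1.val *
            ((g.j * g.l) ^ v.toAdd.2.2.val * (g.j * g.l) ^ w.toAdd.2.2.val))
        = g.z ^ v.toAdd.1.val * g.z ^ w.toAdd.1.val * ((g.i * g.k) ^ v.toAdd.2.1.val *
            ((g.i * g.k) ^ w.toAdd.2.1.val * (g.j * g.l) ^ v.toAdd.2.2.val) *
            (g.j * g.l) ^ w.toAdd.2.2.val) := by group
      _ = g.z ^ v.toAdd.1.val * (g.z ^ w.toAdd.1.val * ((g.i * g.k) ^ v.toAdd.2.1.val *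
            (g.j * g.l) ^ v.toAdd.2.2.val)) *
            ((g.i * g.k) ^ w.toAdd.2.1.val * (g.j * g.l) ^ w.toAdd.2.2.val) := by
          rw [h2.eq]; group
      _ = _ := by rw [h1.eq]; group

/-- The subgroup `⟨z, ik, jl⟩`. -/
def Gens.A : Subgroup S := g.par.range

/-- The element `ikjl`. -/
def Gens.a : S := g.i * g.k * (g.j * g.l)

/-- The element `il`. -/
def Gens.b : S := g.i * g.l

theorem A_cases {x : S} (hx : x ∈ g.A) : x = 1 ∨ x = g.i * g.k ∨ x = g.j * g.l ∨ x = g.a ∨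
    x = g.z ∨ x = g.z * (g.i * g.k) ∨ x = g.z * (g.j * g.l) ∨ x = g.z * g.a := by
  obtain ⟨v, rfl⟩ := hx
  obtain ⟨⟨u, w, t⟩, rfl⟩ : ∃ u, Multiplicative.ofAdd u = v := ⟨v.toAdd, rfl⟩
  rcases zmod_two u with rfl | rfl <;> rcases zmod_two w with rfl | rfl <;>
    rcases zmod_two t with rfl | rfl <;> simp [Gens.par, Gens.a, ZMod.val_one]

theorem A_le_Q : g.A ≤ g.Q := by
  rintro _ ⟨v, rfl⟩
  exact mul_mem (pow_mem (mem_z g) _) (mul_mem (pow_mem (mem_ik g) _) (pow_mem (mem_jl g) _))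

theorem z_mem_A : g.z ∈ g.A :=
  ⟨Multiplicative.ofAdd (1, 0, 0), by simp [Gens.par, ZMod.val_one]⟩

theorem ik_mem_A : g.i * g.k ∈ g.A :=
  ⟨Multiplicative.ofAdd (0, 1, 0), by simp [Gens.par, ZMod.val_one]⟩

theorem jl_mem_A : g.j * g.l ∈ g.A :=
  ⟨Multiplicative.ofAdd (0, 0, 1), by simp [Gens.par, ZMod.val_one]⟩

theorem a_mem_A : g.a ∈ g.A := mul_mem (ik_mem_A g) (jl_mem_A g)

theorem A_comm {x y : S} (hx : x ∈ g.A) (hy : y ∈ g.A) : x * y = y * x := by
  obtain ⟨v, rfl⟩ := hx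
  obtain ⟨w, rfl⟩ := hy
  rw [← map_mul, ← map_mul, mul_comm]

theorem A_sq {x : S} (hx : x ∈ g.A) : x * x = 1 := by
  obtain ⟨v, rfl⟩ := hx
  rw [← map_mul, show v * v = 1 from ?_, map_one]
  have h : ∀ u : ZMod 2 × ZMod 2 × ZMod 2, u + u = 0 := by decide
  exact Multiplicative.toAdd.injective (by rw [toAdd_mul, toAdd_one]; exact h _)

theorem anti_b_ik : g.Anti g.b (g.i * g.k) :=
  anti_comm (zi g) ((Commute.refl g.i).mul_left g.li) (anti_symm (anti_comm (zi g) g.ki (a_kl g)))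

theorem anti_b_jl : g.Anti g.b (g.j * g.l) :=
  comm_anti (anti_symm (comm_anti (anti_symm (a_ij g)) g.lj.symm))
    (g.li.symm.mul_left (Commute.refl g.l))

theorem comm_b_a : Commute g.b g.a :=
  anti_anti (z_comm g (mem_ik g)) (anti_b_ik g) (anti_b_jl g)

theorem card_A [Finite S] : Nat.card g.A = 8 := by
  have hinj : Function.Injective g.par := by
    rw [injective_iff_map_eq_one]
    intro v hv
    obtain ⟨⟨u, w, t⟩, rfl⟩ : ∃ u, Multiplicative.ofAdd u = v := ⟨v.toAdd, rfl⟩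
    have hzb : Commute g.b g.z := (z_comm g (mul_mem (mem_i g) (mem_l g))).symm
    have ha : g.Anti g.i g.a :=
      anti_comm (z_comm g (mem_ik g)) ((Commute.refl g.i).mul_right g.ki.symm)
        (comm_anti (a_ij g) g.li.symm)
    have hzi : Commute g.i g.z := (zi g).symm
    rcases zmod_two u with rfl | rfl <;> rcases zmod_two w with rfl | rfl <;>
      rcases zmod_two t with rfl | rfl <;> simp [Gens.par, ZMod.val_one] at hv
    · rfl
    · exact (not_both (anti_b_jl g) (hv ▸ Commute.one_right _)).elim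
    · exact (not_both (anti_b_ik g) (hv ▸ Commute.one_right _)).elim
    · exact (not_both ha (by
        show Commute g.i (g.i * g.k * (g.j * g.l))
        rw [hv]; exact Commute.one_right _)).elim
    · exact absurd hv g.z1
    · exact (not_both (anti_b_jl g) (by
        rw [eq_inv_of_mul_eq_one_right hv]; exact hzb.inv_right)).elim
    · exact (not_both (anti_b_ik g) (by
        rw [eq_inv_of_mul_eq_one_right hv]; exact hzb.inv_right)).elim
    · exact (not_both ha (by
        show Commute g.i (g.i * g.k * (g.j * g.l))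
        rw [eq_inv_of_mul_eq_one_right hv]; exact hzi.inv_right)).elim
  rw [Gens.A, Nat.card_congr (MonoidHom.ofInjective hinj).symm.toEquiv]
  simp [Nat.card_prod]

theorem conj_A {x w : S} (hx : x ∈ g.Q) (hw : w ∈ g.A) : x * w * x⁻¹ ∈ g.A := by
  rcases Q_rel g hx (A_le_Q g hw) with h | h
  · rw [h.eq, mul_inv_cancel_right]; exact hw
  · rw [anti_symm h, mul_assoc, mul_inv_cancel_right]
    exact mul_mem (z_mem_A g) hw

theorem Q1_cases [Finite S] {x : S} (hx : x ∈ closure ({g.i, g.j} : Set S)) :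
    ∃ p ∈ ({1, g.i, g.j, g.i * g.j} : Set S), p⁻¹ * x ∈ closure ({g.z} : Set S) := by
  have hz : g.z ∈ closure ({g.z} : Set S) := subset_closure rfl
  have key : ∀ s ∈ ({g.i, g.j} : Set S), ∀ p ∈ ({1, g.i, g.j, g.i * g.j} : Set S),
      ∃ p' ∈ ({1, g.i, g.j, g.i * g.j} : Set S), p'⁻¹ * (s * p) ∈ closure ({g.z} : Set S) := by
    intro s hs p hp
    rcases hs with rfl | rfl <;> rcases hp with rfl | rfl | rfl | rfl
    · exact ⟨g.i, by simp, by simp⟩
    · exact ⟨1, by simp, by rw [g.ii, inv_one, one_mul]; exact hz⟩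
    · exact ⟨g.i * g.j, by simp, by simp⟩
    · refine ⟨g.j, by simp, ?_⟩
      rw [← mul_assoc g.i, g.ii, (zj g).eq, inv_mul_cancel_left]; exact hz
    · exact ⟨g.j, by simp, by simp⟩
    · refine ⟨g.i * g.j, by simp, ?_⟩
      rw [g.ji, ← mul_assoc, ((zi g).mul_right (zj g)).inv_right.eq.symm, mul_assoc, inv_mul_cancel,
        mul_one]
      exact hz
    · exact ⟨1, by simp, by rw [g.jj, inv_one, one_mul]; exact hz⟩
    · refine ⟨g.i, by simp, ?_⟩
      rw [← mul_assoc g.j, g.ji, mul_assoc g.z, mul_assoc g.i, g.jj, ← (zi g).eq, ← mul_assoc g.z,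
        g.z2, one_mul, inv_mul_cancel]
      exact one_mem _
  refine Subgroup.closure_induction_left (p := fun x _ => ∃ p ∈ ({1, g.i, g.j, g.i * g.j} : Set S),
    p⁻¹ * x ∈ closure ({g.z} : Set S)) ⟨1, by simp, by simp⟩ (fun s hs x _ ⟨p, hp, h⟩ => ?_)
    (fun s hs x _ ⟨p, hp, h⟩ => ?_) hx
  · obtain ⟨p', hp', h'⟩ := key s hs p hp
    refine ⟨p', hp', ?_⟩
    rw [show p'⁻¹ * (s * x) = p'⁻¹ * (s * p) * (p⁻¹ * x) by group]
    exact mul_mem h' h
  · obtain ⟨p', hp', h'⟩ := key s hs p hp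
    refine ⟨p', hp', ?_⟩
    have hs2 : s⁻¹ = g.z * s := by
      refine inv_eq_of_mul_eq_one_right ?_
      rcases hs with rfl | rfl
      · rw [(zi g).eq, ← mul_assoc, g.ii, g.z2]
      · rw [(zj g).eq, ← mul_assoc, g.jj, g.z2]
    have hsQ : s ∈ g.Q := by rcases hs with rfl | rfl <;> [exact mem_i g; exact mem_j g]
    have hp'Q : p' ∈ g.Q := by
      rcases hp' with rfl | rfl | rfl | rfl
      exacts [one_mem _, mem_i g, mem_j g, mul_mem (mem_i g) (mem_j g)]
    rw [hs2, show p'⁻¹ * (g.z * s * x) = (p'⁻¹ * g.z) * (s * p) * (p⁻¹ * x) by group,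
      ← (z_comm g hp'Q).inv_right.eq, mul_assoc g.z]
    exact mul_mem (mul_mem hz h') h

theorem cent_A_Q [Finite S] {x : S} (hx : x ∈ g.Q) (h1 : Commute x (g.i * g.k))
    (h2 : Commute x (g.j * g.l)) : x ∈ g.A := by
  set Q1 := closure ({g.i, g.j} : Set S)
  have hQ1 : Q1 ≤ g.Q := closure_mono (by intro w hw; rcases hw with rfl | rfl <;> simp)
  have hN : Q1 ≤ normalizer (g.A : Set S) := fun q hq => by
    rw [Subgroup.mem_normalizer_iff]
    intro w
    refine ⟨fun hw => conj_A g (hQ1 hq) hw, fun hw => ?_⟩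
    have := conj_A g (inv_mem (hQ1 hq)) hw
    simpa [mul_assoc] using this
  have hle : g.Q ≤ Q1 ⊔ g.A := by
    rw [Gens.Q, Subgroup.closure_le]
    have hi : g.i ∈ Q1 ⊔ g.A := mem_sup_left (subset_closure (by simp))
    have hj : g.j ∈ Q1 ⊔ g.A := mem_sup_left (subset_closure (by simp))
    rintro w (rfl | rfl | rfl | rfl)
    · exact hi
    · exact hj
    · have h := mul_mem (inv_mem hi) (mem_sup_right (S := Q1) (ik_mem_A g))
      rwa [inv_mul_cancel_left] at h
    · have h := mul_mem (inv_mem hj) (mem_sup_right (S := Q1) (jl_mem_A g))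
      rwa [inv_mul_cancel_left] at h
  have hxs : x ∈ (↑(Q1 ⊔ g.A) : Set S) := hle hx
  rw [Subgroup.coe_mul_of_left_le_normalizer_right Q1 g.A hN] at hxs
  obtain ⟨q, hq, w, hw, rfl⟩ := hxs
  obtain ⟨p, hp, hc⟩ := Q1_cases g hq
  have hz : closure ({g.z} : Set S) ≤ g.A := by
    rw [Subgroup.closure_le]; rintro _ rfl; exact z_mem_A g
  have hw' : p⁻¹ * (q * w) ∈ g.A := by rw [← mul_assoc]; exact mul_mem (hz hc) hw
  have hpA : ∀ y ∈ g.A, Commute (q * w) y → Commute p y := fun y hy h => by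
    rw [show p = q * w * (p⁻¹ * (q * w))⁻¹ by group]
    exact h.mul_left (show Commute _ y from A_comm g (inv_mem hw') hy)
  have c1 : Commute p (g.i * g.k) := hpA _ (ik_mem_A g) h1
  have c2 : Commute p (g.j * g.l) := hpA _ (jl_mem_A g) h2
  rcases hp with rfl | rfl | rfl | rfl
  · rwa [inv_one, one_mul] at hw'
  · exact (not_both (comm_anti (a_ij g) g.li.symm) c2).elim
  · exact (not_both (comm_anti (anti_symm (a_ij g)) g.kj.symm) c1).elim
  · exact (not_both (anti_symm (anti_comm (zi g) ((Commute.refl g.i).mul_left g.ki)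
      (anti_symm (comm_anti (anti_symm (a_ij g)) g.kj.symm)))) c1).elim

/-! ### An element centralising `A` outside `Q` -/

theorem fix_step {y : S} (hy : y ∉ g.Q)
    (hsign : ∀ x ∈ g.Q, y * x * y⁻¹ = x ∨ y * x * y⁻¹ = g.z * x)
    {s t : S} (hs : s ∈ g.Q) (ht : t ∈ g.Q) (hst : g.Anti s t) :
    ∃ y', y' ∉ g.Q ∧ (∀ x ∈ g.Q, y' * x * y'⁻¹ = x ∨ y' * x * y'⁻¹ = g.z * x) ∧
      y' * s * y'⁻¹ = s ∧ ∀ x ∈ g.Q, Commute t x → y * x * y⁻¹ = x → y' * x * y'⁻¹ = x := by
  rcases hsign s hs with h | h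
  · exact ⟨y, hy, hsign, h, fun x _ _ h => h⟩
  have hz : Commute t g.z := (z_comm g ht).symm
  have hcz : ∀ x, t * (g.z * x) * t⁻¹ = g.z * (t * x * t⁻¹) := fun x => by
    rw [← mul_assoc t, hz.eq]; group
  refine ⟨t * y, fun h' => hy ((Subgroup.mul_mem_cancel_left _ ht).mp h'), fun x hx => ?_, ?_,
    fun x hx htx hyx => ?_⟩
  · have e : t * y * x * (t * y)⁻¹ = t * (y * x * y⁻¹) * t⁻¹ := by group
    rw [e]
    rcases Q_rel g hx ht with c | c
    · have ct : t * x * t⁻¹ = x := by rw [← c.eq, mul_inv_cancel_right]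
      rcases hsign x hx with q | q <;> rw [q]
      · exact Or.inl ct
      · exact Or.inr (by rw [hcz, ct])
    · have ct : t * x * t⁻¹ = g.z * x := by rw [c, mul_assoc, mul_inv_cancel_right]
      rcases hsign x hx with q | q <;> rw [q]
      · exact Or.inr ct
      · exact Or.inl (by rw [hcz, ct, ← mul_assoc, g.z2, one_mul])
  · rw [show t * y * s * (t * y)⁻¹ = t * (y * s * y⁻¹) * t⁻¹ by group, h, hcz, hst, mul_assoc,
      mul_inv_cancel_right, ← mul_assoc, g.z2, one_mul]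
  · rw [show t * y * x * (t * y)⁻¹ = t * (y * x * y⁻¹) * t⁻¹ by group, hyx, htx.eq,
      mul_inv_cancel_right]

theorem mover_sign [Finite S] (hC : centralizer (g.Q : Set S) ≤ g.Q) {y : S} (hyQ : y ∉ g.Q)
    (hfix : ∀ w ∈ g.A, y * w * y⁻¹ = w) (hcom : ∀ x ∈ g.Q, x⁻¹ * (y * x * y⁻¹) ∈ g.A)
    (hb : y * g.b * y⁻¹ = g.b ∨ y * g.b * y⁻¹ = g.z * g.b) : False := by
  have hbQ : g.b ∈ g.Q := mul_mem (mem_i g) (mem_l g)
  have hyz : y * g.z * y⁻¹ = g.z := hfix _ (z_mem_A g)
  set c := g.j * (g.k * g.l) with hc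
  have hcQ : c ∈ g.Q := mul_mem (mem_j g) (mul_mem (mem_k g) (mem_l g))
  have hcc : c * c = 1 := by
    rw [hc, sq_comm (g.kj.symm.mul_right g.lj.symm), sq_anti (zk g) (a_kl g), g.jj, g.kk, g.ll]
    simp [← mul_assoc, g.z2]
  have hbc : Commute g.b c :=
    anti_anti (zj g) (anti_symm (comm_anti (anti_symm (a_ij g)) g.lj.symm))
      (comm_anti (anti_symm (anti_comm (zi g) g.ki (a_kl g)))
        (g.li.symm.mul_left (Commute.refl g.l)))
  have hac : g.Anti c g.a :=
    anti_comm (z_comm g (mem_ik g))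
      (anti_anti (zj g) (anti_symm (comm_anti (anti_symm (a_ij g)) g.kj.symm))
        (anti_comm (zk g) (g.ki.symm.mul_left (Commute.refl g.k))
          (anti_symm (anti_comm (zi g) g.li (anti_symm (a_kl g)))))).symm
      (anti_symm (anti_comm (zj g) ((Commute.refl g.j).mul_left g.lj)
        (comm_anti (anti_symm (anti_comm (zj g) g.kj (a_kl g)))
          (g.lj.symm.mul_left (Commute.refl g.l)))))
  obtain ⟨β, hβA, hβ⟩ : ∃ β ∈ g.A, y * c * y⁻¹ = c * β := ⟨_, hcom _ hcQ, by group⟩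
  have hzb : Commute g.z g.b := z_comm g hbQ
  have hzc : Commute g.z c := z_comm g hcQ
  have hβb : Commute g.b β := by
    have h1 : Commute (y * g.b * y⁻¹) (y * c * y⁻¹) := hbc.conj y
    rw [hβ] at h1
    have h2 : Commute g.b (c * β) := by
      rcases hb with q | q <;> rw [q] at h1
      · exact h1
      · have := (((z_comm g (mul_mem hcQ (A_le_Q g hβA))).inv_left).mul_left h1)
        rwa [inv_mul_cancel_left] at this
    have := hbc.inv_right.mul_right h2
    rwa [inv_mul_cancel_left] at this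
  have hβc : Commute c β := by
    have h1 : y * c * y⁻¹ * (y * c * y⁻¹) = 1 := by
      rw [show y * c * y⁻¹ * (y * c * y⁻¹) = y * (c * c) * y⁻¹ by group, hcc, mul_one, mul_inv_cancel]
    rw [hβ] at h1
    rcases Q_rel g hcQ (A_le_Q g hβA) with q | q
    · exact q
    · rw [sq_anti hzc q, hcc, A_sq g hβA, mul_one, mul_one] at h1
      exact absurd h1 g.z1
  have hzw : ∀ {x w : S}, Commute g.z x → g.Anti x w → g.Anti x (g.z * w) := fun hx h =>
    anti_comm (Commute.refl _) hx.symm h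
  have hcs : y * c * y⁻¹ = c ∨ y * c * y⁻¹ = g.z * c := by
    rcases A_cases g hβA with rfl | rfl | rfl | rfl | rfl | rfl | rfl | rfl
    · exact Or.inl (hβ.trans (mul_one _))
    · exact (not_both (anti_b_ik g) hβb).elim
    · exact (not_both (anti_b_jl g) hβb).elim
    · exact (not_both hac hβc).elim
    · exact Or.inr (hβ.trans hzc.eq.symm)
    · exact (not_both (hzw hzb (anti_b_ik g)) hβb).elim
    · exact (not_both (hzw hzb (anti_b_jl g)) hβb).elim
    · exact (not_both (hzw hzc hac) hβc).elim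
  let G' : Subgroup S :=
    { carrier := {x | x ∈ g.Q ∧ (y * x * y⁻¹ = x ∨ y * x * y⁻¹ = g.z * x)}
      one_mem' := ⟨one_mem _, Or.inl (by group)⟩
      mul_mem' := fun {u v} hu hv => ⟨mul_mem hu.1 hv.1, by
        have e : y * (u * v) * y⁻¹ = (y * u * y⁻¹) * (y * v * y⁻¹) := by group
        rw [e]
        rcases hu.2 with p | p <;> rcases hv.2 with q | q <;> rw [p, q]
        · exact Or.inl rfl
        · exact Or.inr (by rw [← mul_assoc, ← (z_comm g hu.1).eq, mul_assoc])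
        · exact Or.inr (mul_assoc _ _ _)
        · exact Or.inl (by
            rw [mul_assoc g.z, ← mul_assoc u, ← (z_comm g hu.1).eq, mul_assoc g.z u v, ← mul_assoc,
              g.z2, one_mul])⟩
      inv_mem' := fun {u} hu => ⟨inv_mem hu.1, by
        have e : y * u⁻¹ * y⁻¹ = (y * u * y⁻¹)⁻¹ := by group
        rw [e]
        exact hu.2.imp (fun q => by rw [q]) fun q => by
          rw [q, mul_inv_rev, SelfCentE8Base94.inv_of_sq g.z2, (z_comm g hu.1).inv_right.eq]⟩ }
  have gz : g.z ∈ G' := ⟨mem_z g, Or.inl hyz⟩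
  have gik : g.i * g.k ∈ G' := ⟨mem_ik g, Or.inl (hfix _ (ik_mem_A g))⟩
  have gjl : g.j * g.l ∈ G' := ⟨mem_jl g, Or.inl (hfix _ (jl_mem_A g))⟩
  have gk : g.k ∈ G' := by
    have h : (g.j * g.l)⁻¹ * c * g.z ∈ G' := mul_mem (mul_mem (inv_mem gjl) ⟨hcQ, hcs⟩) gz
    convert h using 1
    rw [hc, show (g.j * g.l)⁻¹ * (g.j * (g.k * g.l)) * g.z = g.l⁻¹ * (g.k * g.l) * g.z by group,
      show g.k * g.l = g.z * (g.l * g.k) by rw [g.lk, ← mul_assoc, g.z2, one_mul],
      ← mul_assoc, ← (zl g).inv_right.eq, mul_assoc g.z, inv_mul_cancel_left, mul_assoc, ← (zk g).eq,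
      ← mul_assoc, g.z2, one_mul]
  have gi : g.i ∈ G' := by simpa using mul_mem gik (inv_mem gk)
  have gl : g.l ∈ G' := by simpa [Gens.b] using mul_mem (inv_mem gi) (show g.b ∈ G' from ⟨hbQ, hb⟩)
  have gj : g.j ∈ G' := by simpa using mul_mem gjl (inv_mem gl)
  have hsign : ∀ x ∈ g.Q, y * x * y⁻¹ = x ∨ y * x * y⁻¹ = g.z * x := by
    intro x hx
    have hle : g.Q ≤ G' := by
      rw [Gens.Q, Subgroup.closure_le]
      rintro w (rfl | rfl | rfl | rfl)
      exacts [gi, gj, gk, gl]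
    exact (hle hx).2
  obtain ⟨y1, n1, s1, f1, -⟩ := fix_step g hyQ hsign (mem_i g) (mem_j g) (a_ij g)
  obtain ⟨y2, n2, s2, f2, p2⟩ := fix_step g n1 s1 (mem_j g) (mem_i g) (anti_symm (a_ij g))
  obtain ⟨y3, n3, s3, f3, p3⟩ := fix_step g n2 s2 (mem_k g) (mem_l g) (a_kl g)
  obtain ⟨y4, n4, s4, f4, p4⟩ := fix_step g n3 s3 (mem_l g) (mem_k g) (anti_symm (a_kl g))
  have i2 := p2 _ (mem_i g) (Commute.refl _) f1
  have hi := p4 _ (mem_i g) g.ki (p3 _ (mem_i g) g.li i2)
  have hj := p4 _ (mem_j g) g.kj (p3 _ (mem_j g) g.lj f2)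
  have hk := p4 _ (mem_k g) (Commute.refl _) f3
  refine n4 (hC (mem_centralizer_iff.mpr fun x hx => ?_))
  have hle : g.Q ≤ centralizer ({y4} : Set S) := by
    rw [Gens.Q, Subgroup.closure_le]
    intro w hw
    refine (SelfCentE8Base94.mem_cent.mpr ?_ : w ∈ centralizer ({y4} : Set S))
    have hw' : y4 * w * y4⁻¹ = w := by
      rcases hw with rfl | rfl | rfl | rfl
      exacts [hi, hj, hk, f4]
    exact (mul_inv_eq_iff_eq_mul.mp hw').symm
  exact SelfCentE8Base94.mem_cent.mp (hle hx)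

theorem exists_mover [Finite S] (hS : IsPGroup 2 S) (hC : centralizer (g.Q : Set S) ≤ g.Q)
    (hbad : ¬ centralizer (g.A : Set S) ≤ g.A) :
    ∃ y : S, y * g.a * y⁻¹ = g.a ∧ y * g.z * y⁻¹ = g.z ∧
      (y * g.b * y⁻¹ = g.b * g.a ∨ y * g.b * y⁻¹ = g.b * g.a * g.z) := by
  haveI := Fact.mk Nat.prime_two
  set Y := centralizer (g.A : Set S)
  have hQA : ∀ x ∈ g.Q, x ∈ Y → x ∈ g.A := fun x hx hxY =>
    cent_A_Q g hx (mem_centralizer_iff.mp hxY _ (ik_mem_A g)).symm
      (mem_centralizer_iff.mp hxY _ (jl_mem_A g)).symm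
  have hN : g.Q ≤ normalizer (Y : Set S) := fun q hq => by
    have key : ∀ q ∈ g.Q, ∀ w ∈ Y, q * w * q⁻¹ ∈ Y := fun q hq w hw => by
      refine mem_centralizer_iff.mpr fun e he => ?_
      have he' : q⁻¹ * e * q ∈ g.A := by
        have := conj_A g (inv_mem hq) he
        rwa [inv_inv] at this
      have := mem_centralizer_iff.mp hw _ he'
      calc e * (q * w * q⁻¹) = q * (q⁻¹ * e * q * w) * q⁻¹ := by group
        _ = q * (w * (q⁻¹ * e * q)) * q⁻¹ := by rw [this]
        _ = _ := by group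
    rw [Subgroup.mem_normalizer_iff]
    intro w
    refine ⟨fun hw => key q hq w hw, fun hw => ?_⟩
    have := key q⁻¹ (inv_mem hq) _ hw
    simpa [mul_assoc] using this
  set W := Y ⊔ g.Q
  have hne : g.Q.subgroupOf W < ⊤ := by
    refine lt_top_iff_ne_top.mpr fun h => hbad fun x hx => hQA x ?_ hx
    exact mem_subgroupOf.mp (h ▸ mem_top (⟨x, mem_sup_left hx⟩ : W))
  haveI : Group.IsNilpotent W := (hS.to_subgroup W).isNilpotent
  obtain ⟨w, hwN, hwQ⟩ := SetLike.exists_of_lt (normalizerCondition_of_isNilpotent _ hne)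
  have hws : (w : S) ∈ (↑(Y ⊔ g.Q) : Set S) := w.2
  rw [Subgroup.coe_mul_of_right_le_normalizer_left Y g.Q hN] at hws
  obtain ⟨y, hyY, q, hq, hyq⟩ := hws
  have hyQ : y ∉ g.Q := fun h => hwQ (mem_subgroupOf.mpr (hyq ▸ mul_mem h hq))
  have hyn : ∀ x ∈ g.Q, y * x * y⁻¹ ∈ g.Q := by
    intro x hx
    have hx' : q⁻¹ * x * q ∈ g.Q := mul_mem (mul_mem (inv_mem hq) hx) hq
    have := mem_subgroupOf.mp ((Subgroup.mem_normalizer_iff.mp hwN
      ⟨_, mem_sup_right hx'⟩).mp (mem_subgroupOf.mpr hx'))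
    push_cast at this
    rw [← hyq] at this
    rwa [show y * q * (q⁻¹ * x * q) * (y * q)⁻¹ = y * x * y⁻¹ by group] at this
  have hcomA : ∀ x ∈ g.Q, x⁻¹ * (y * x * y⁻¹) ∈ g.A := by
    intro x hx
    have h1 : y * x * y⁻¹ * x⁻¹ ∈ g.A := by
      refine hQA _ (mul_mem (hyn x hx) (inv_mem hx)) ?_
      rw [show y * x * y⁻¹ * x⁻¹ = y * (x * y⁻¹ * x⁻¹) by group]
      exact mul_mem hyY ((Subgroup.mem_normalizer_iff.mp (hN hx) _).mp (inv_mem hyY))
    have := conj_A g (inv_mem hx) h1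
    rwa [inv_inv, show x⁻¹ * (y * x * y⁻¹ * x⁻¹) * x = x⁻¹ * (y * x * y⁻¹) by group] at this
  have hfix : ∀ w ∈ g.A, y * w * y⁻¹ = w := fun w hw => by
    rw [← mem_centralizer_iff.mp hyY w hw, mul_inv_cancel_right]
  have hbQ : g.b ∈ g.Q := mul_mem (mem_i g) (mem_l g)
  have hb2 : g.b * g.b = 1 := by rw [Gens.b, sq_comm g.li.symm, g.ii, g.ll, g.z2]
  obtain ⟨α, hαA, hα⟩ : ∃ α ∈ g.A, y * g.b * y⁻¹ = g.b * α :=
    ⟨_, hcomA _ hbQ, by group⟩
  have hz' := (z_comm g hbQ).symm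
  have hnotanti : ¬ g.Anti g.b α := fun h => g.z1 (by
    have h1 : y * g.b * y⁻¹ * (y * g.b * y⁻¹) = 1 := by
      rw [show y * g.b * y⁻¹ * (y * g.b * y⁻¹) = y * (g.b * g.b) * y⁻¹ by group, hb2, mul_one,
        mul_inv_cancel]
    rw [hα, sq_anti (z_comm g hbQ) h, hb2, A_sq g hαA, mul_one, mul_one] at h1
    exact h1)
  have hbz : ∀ {w : S}, g.Anti g.b w → g.Anti g.b (g.z * w) := fun h =>
    anti_comm (Commute.refl _) hz' h
  refine ⟨y, hfix _ (a_mem_A g), hfix _ (z_mem_A g), ?_⟩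
  rcases A_cases g hαA with rfl | rfl | rfl | rfl | rfl | rfl | rfl | rfl
  rotate_left
  · exact absurd (anti_b_ik g) hnotanti
  · exact absurd (anti_b_jl g) hnotanti
  · exact Or.inl hα
  rotate_left
  · exact absurd (hbz (anti_b_ik g)) hnotanti
  · exact absurd (hbz (anti_b_jl g)) hnotanti
  · refine Or.inr ?_
    rw [hα, mul_assoc g.b g.a, (z_comm g (A_le_Q g (a_mem_A g))).eq]
  all_goals
    exfalso
    have hbs : y * g.b * y⁻¹ = g.b ∨ y * g.b * y⁻¹ = g.z * g.b := by
      first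
        | exact Or.inl (hα.trans (mul_one _))
        | exact Or.inr (hα.trans (z_comm g hbQ).eq.symm)
    exact mover_sign g hC hyQ hfix hcomA hbs

/-! ### The three subgroups -/

/-- The next triple of generators. -/
def Gens.next : Gens S where
  i := g.j
  j := g.i * g.j
  k := g.k * g.l
  l := g.k
  z := g.z
  z2 := g.z2
  z1 := g.z1
  ii := g.jj
  jj := by rw [sq_anti (zi g) (a_ij g), g.ii, g.jj, g.z2, mul_one]
  kk := by rw [sq_anti (zk g) (a_kl g), g.kk, g.ll, g.z2, mul_one]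
  ll := g.kk
  ji := comm_anti (g := g) (anti_symm (a_ij g)) (Commute.refl _)
  lk := anti_comm (g := g) (x := g.k) (zk g) (Commute.refl _) (a_kl g) |> anti_symm
  ki := g.kj.mul_left g.lj
  li := g.kj
  kj := (g.ki.mul_left g.li).mul_right (g.kj.mul_left g.lj)
  lj := g.ki.mul_right g.kj

theorem next_Q : g.next.Q = g.Q := by
  refine le_antisymm ?_ ?_ <;> rw [Gens.Q, Subgroup.closure_le]
  · rintro w (rfl | rfl | rfl | rfl)
    exacts [mem_j g, mul_mem (mem_i g) (mem_j g), mul_mem (mem_k g) (mem_l g), mem_k g]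
  · have hi : g.i * g.j ∈ g.next.Q := mem_j g.next
    have hj : g.j ∈ g.next.Q := mem_i g.next
    have hl : g.k * g.l ∈ g.next.Q := mem_k g.next
    have hk : g.k ∈ g.next.Q := mem_l g.next
    rintro w (rfl | rfl | rfl | rfl)
    · simpa using mul_mem hi (inv_mem hj)
    · exact hj
    · exact hk
    · simpa using mul_mem (inv_mem hk) hl

theorem next_a : g.next.a = g.b := by
  show g.j * (g.k * g.l) * (g.i * g.j * g.k) = g.i * g.l
  have h1 : Commute (g.k * g.l) (g.i * g.j) := (g.ki.mul_left g.li).mul_right (g.kj.mul_left g.lj)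
  calc g.j * (g.k * g.l) * (g.i * g.j * g.k) = g.j * ((g.k * g.l) * (g.i * g.j)) * g.k := by group
    _ = (g.j * g.i) * g.j * (g.k * g.l * g.k) := by rw [h1.eq]; group
    _ = (g.z * g.i * (g.j * g.j)) * (g.k * (g.l * g.k)) := by rw [g.ji]; group
    _ = (g.i * (g.z * g.z)) * (g.k * (g.z * (g.k * g.l))) := by
      rw [g.jj, g.lk, (zi g).eq]; group
    _ = g.i * ((g.k * g.z) * g.k * g.l) := by rw [g.z2, mul_one]; group
    _ = g.i * (g.z * (g.k * g.k) * g.l) := by rw [← (zk g).eq]; group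
    _ = _ := by rw [g.kk, g.z2, one_mul]

theorem next_b : g.b * g.a = g.z * g.next.b := by
  show g.i * g.l * (g.i * g.k * (g.j * g.l)) = g.z * (g.j * g.k)
  calc g.i * g.l * (g.i * g.k * (g.j * g.l))
      = g.i * (g.l * g.i) * (g.k * g.j) * g.l := by group
    _ = (g.i * g.i) * g.l * (g.j * g.k) * g.l := by rw [g.li.eq, g.kj.eq]; group
    _ = g.z * (g.l * g.j) * g.k * g.l := by rw [g.ii]; group
    _ = g.z * g.j * (g.l * g.k) * g.l := by rw [g.lj.eq]; group
    _ = g.z * (g.j * g.z) * g.k * (g.l * g.l) := by rw [g.lk]; group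
    _ = g.z * g.z * g.j * (g.k * g.z) := by rw [g.ll, ← (zj g).eq]; group
    _ = g.j * (g.z * g.k) := by rw [g.z2, one_mul, (zk g).eq]
    _ = _ := by rw [← mul_assoc, ← (zj g).eq, mul_assoc]

theorem exists_self_centralizing [Finite S] (hS : IsPGroup 2 S)
    (hC : centralizer (g.Q : Set S) ≤ g.Q) :
    ∃ A : Subgroup S, (∀ x ∈ A, ∀ y ∈ A, x * y = y * x) ∧ (∀ x ∈ A, x * x = 1) ∧ Nat.card A = 8 ∧
      centralizer (A : Set S) = A := by
  have key : ∀ h : Gens S, centralizer (h.A : Set S) ≤ h.A →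
      ∃ A : Subgroup S, (∀ x ∈ A, ∀ y ∈ A, x * y = y * x) ∧ (∀ x ∈ A, x * x = 1) ∧ Nat.card A = 8 ∧
        centralizer (A : Set S) = A := fun h hle =>
    ⟨h.A, fun x hx y hy => A_comm h hx hy, fun x hx => A_sq h hx, card_A h,
      le_antisymm hle fun x hx => mem_centralizer_iff.mpr fun y hy => A_comm h hy hx⟩
  by_cases h1 : centralizer (g.A : Set S) ≤ g.A
  · exact key g h1
  by_cases h2 : centralizer (g.next.A : Set S) ≤ g.next.A
  · exact key g.next h2
  exfalso
  obtain ⟨y1, ya, yz, yb⟩ := exists_mover g hS hC h1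
  obtain ⟨y2, wa, wz, wb⟩ := exists_mover g.next hS (by rw [next_Q g]; exact hC) h2
  change y2 * g.z * y2⁻¹ = g.z at wz
  rw [next_a g] at wa wb
  change y2 * g.next.b * y2⁻¹ = g.next.b * g.b ∨ y2 * g.next.b * y2⁻¹ = g.next.b * g.b * g.z at wb
  set a := g.a
  set b := g.b
  set d := b * a with hd
  have hbQ : b ∈ g.Q := mul_mem (mem_i g) (mem_l g)
  have haQ : a ∈ g.Q := A_le_Q g (a_mem_A g)
  have hb2 : b * b = 1 := by
    show g.i * g.l * (g.i * g.l) = 1
    rw [sq_comm g.li.symm, g.ii, g.ll, g.z2]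
  have hba : Commute b a := comm_b_a g
  have hza : Commute g.z a := z_comm g haQ
  have hzb : Commute g.z b := z_comm g hbQ
  have hdb : g.next.b = g.z * d := by rw [hd, next_b g, ← mul_assoc, g.z2, one_mul]
  let cls : S → S → Prop := fun c x => x = c ∨ x = g.z * c
  have cls_z : ∀ {c x}, cls c x → cls c (g.z * x) := fun h => h.elim
    (fun e => Or.inr (by rw [e])) fun e => Or.inl (by rw [e, ← mul_assoc, g.z2, one_mul])
  -- the action of `y2`
  have w_d : cls a (y2 * d * y2⁻¹) := by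
    have hdd : d = g.z * g.next.b := by rw [hdb, ← mul_assoc, g.z2, one_mul]
    rw [hdd, show y2 * (g.z * g.next.b) * y2⁻¹ = (y2 * g.z * y2⁻¹) * (y2 * g.next.b * y2⁻¹) by group,
      wz]
    refine cls_z ?_
    have e : g.next.b * b = g.z * a := by
      rw [hdb, hd, mul_assoc g.z, mul_assoc b, ← hba.eq, ← mul_assoc b, hb2, one_mul]
    rcases wb with q | q <;> rw [q, e]
    · exact Or.inr rfl
    · exact Or.inl (by rw [mul_assoc, ← hza.eq, ← mul_assoc, g.z2, one_mul])
  have w_a : cls d (y2 * a * y2⁻¹) := by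
    have e : a = b * d := by rw [hd, ← mul_assoc, hb2, one_mul]
    rw [e, show y2 * (b * d) * y2⁻¹ = (y2 * b * y2⁻¹) * (y2 * d * y2⁻¹) by group, wa]
    rcases w_d with q | q <;> rw [q]
    · exact Or.inl rfl
    · exact Or.inr (by rw [← mul_assoc, ← hzb.eq, mul_assoc])
  -- the action of `y1`
  have y_b : cls d (y1 * b * y1⁻¹) := yb.imp id fun q => by
    rw [q, (hzb.mul_right hza).eq]
  have y_d : cls b (y1 * d * y1⁻¹) := by
    rw [hd, show y1 * (b * a) * y1⁻¹ = (y1 * b * y1⁻¹) * (y1 * a * y1⁻¹) by group, ya]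
    rcases y_b with q | q <;> rw [q, hd]
    · exact Or.inl (by rw [mul_assoc, A_sq g (a_mem_A g), mul_one])
    · exact Or.inr (by rw [mul_assoc, mul_assoc b, A_sq g (a_mem_A g), mul_one])
  set w := y1 * y2 with hw
  have wcls : ∀ c e f, cls e (y2 * c * y2⁻¹) → cls f (y1 * e * y1⁻¹) →
      ∀ x, cls c x → cls f (w * x * w⁻¹) := by
    intro c e f h1 h2 x hx
    have hzw : w * g.z * w⁻¹ = g.z := by
      rw [hw, show y1 * y2 * g.z * (y1 * y2)⁻¹ = y1 * (y2 * g.z * y2⁻¹) * y1⁻¹ by group, wz, yz]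
    have hbase : cls f (w * c * w⁻¹) := by
      rw [hw, show y1 * y2 * c * (y1 * y2)⁻¹ = y1 * (y2 * c * y2⁻¹) * y1⁻¹ by group]
      rcases h1 with q | q <;> rw [q]
      · exact h2
      · rw [show y1 * (g.z * e) * y1⁻¹ = (y1 * g.z * y1⁻¹) * (y1 * e * y1⁻¹) by group, yz]
        exact cls_z h2
    rcases hx with rfl | rfl
    · exact hbase
    · rw [show w * (g.z * c) * w⁻¹ = (w * g.z * w⁻¹) * (w * c * w⁻¹) by group, hzw]
      exact cls_z hbase
  have hwb : ∀ x, cls b x → cls d (w * x * w⁻¹) := wcls b b d (Or.inl wa) y_b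
  have hwa : ∀ x, cls a x → cls b (w * x * w⁻¹) := wcls a d b w_a y_d
  have hwd : ∀ x, cls d x → cls a (w * x * w⁻¹) := wcls d a a w_d (Or.inl ya)
  have hiter : ∀ n : ℕ, (n % 3 = 0 → cls a (w ^ n * a * (w ^ n)⁻¹)) ∧
      (n % 3 = 1 → cls b (w ^ n * a * (w ^ n)⁻¹)) ∧ (n % 3 = 2 → cls d (w ^ n * a * (w ^ n)⁻¹)) := by
    intro n
    induction n with
    | zero => exact ⟨fun _ => Or.inl (by simp), fun h => by simp at h, fun h => by simp at h⟩
    | succ n ih =>
      obtain ⟨i0, i1, i2⟩ := ih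
      rw [show w ^ (n + 1) * a * (w ^ (n + 1))⁻¹ = w * (w ^ n * a * (w ^ n)⁻¹) * w⁻¹ by
        rw [pow_succ']; group]
      exact ⟨fun h => hwd _ (i2 (by omega)), fun h => hwa _ (i0 (by omega)),
        fun h => hwb _ (i1 (by omega))⟩
  obtain ⟨n, hn⟩ := hS w
  have h3 : 2 ^ n % 3 = 1 ∨ 2 ^ n % 3 = 2 := by
    have hne : ¬ 3 ∣ 2 ^ n := fun h => by
      have := Nat.Prime.dvd_of_dvd_pow Nat.prime_three h
      omega
    omega
  obtain ⟨-, i1, i2⟩ := hiter (2 ^ n)
  rw [hn, one_mul, inv_one, mul_one] at i1 i2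
  -- `b` anticommutes with `ik` while `a` commutes with it
  have hbik := anti_b_ik g
  have haik : Commute a (g.i * g.k) := A_comm g (a_mem_A g) (ik_mem_A g)
  have hzik : Commute g.z (g.i * g.k) := z_comm g (mem_ik g)
  rcases h3 with h | h
  · rcases i1 h with e | e
    · exact not_both hbik (show Commute b _ by rw [← e]; exact haik)
    · refine not_both hbik ?_
      have := hzik.mul_left (e ▸ haik : Commute (g.z * b) (g.i * g.k))
      rwa [← mul_assoc, g.z2, one_mul] at this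
  · have hb' : ∀ t, Commute t (g.i * g.k) → a = t * (b * a) → False := fun t ht e => by
      refine not_both hbik ?_
      have e' : b = t⁻¹ := by
        refine eq_inv_of_mul_eq_one_right ?_
        have h := e
        rw [← mul_assoc] at h
        exact (mul_eq_right.mp h.symm)
      show Commute b _
      rw [e']; exact ht.inv_left
    rcases i2 h with e | e
    · exact hb' 1 (Commute.one_left _) (by rw [one_mul]; exact e)
    · exact hb' g.z hzik e

end Cfsg.Agent.SelfCentE8Extra94
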