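import Mathlib
import Cfsg.Agent.Lib.SelfCentPSL54
import Cfsg.Agent.Lib.BSWRecognition84
import Cfsg.Agent.Lib.MaxClassTwo
import Cfsg.Agent.Lib.BaerSuzuki
import Cfsg.Agent.Lib.BrauerSuzukiApps
import Cfsg.Agent.Lib.TransferThompson
import Cfsg.Agent.S0205
import Cfsg.Agent.S3370

/-!
Simple groups in which every non-cyclic subgroup contains its centraliser.
-/

set_option autoImplicit false
set_option linter.style.haveILetI false

namespace Cfsg.Agent.SelfCent54

variable {G : Type*} [Group G]

theorem sq_one {a : G} (ha : orderOf a = 2) : a * a = 1 := by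
  rw [← pow_two, ← ha]; exact pow_orderOf_eq_one a

theorem ne_one {a : G} (ha : orderOf a = 2) : a ≠ 1 := by
  rintro rfl; rw [orderOf_one] at ha; omega

/-- The four elements generated by two commuting involutions. -/
def four (a b : G) (ha : a * a = 1) (hb : b * b = 1) (hab : a * b = b * a) : Subgroup G where
  carrier := {x | x = 1 ∨ x = a ∨ x = b ∨ x = a * b}
  one_mem' := Or.inl rfl
  mul_mem' := by
    have e1 : a * (a * b) = b := by rw [← mul_assoc, ha, one_mul]
    have e2 : b * (a * b) = a := by rw [hab, ← mul_assoc, hb, one_mul]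
    have e3 : (a * b) * a = b := by rw [hab, mul_assoc, ha, mul_one]
    have e4 : (a * b) * b = a := by rw [mul_assoc, hb, mul_one]
    have e5 : (a * b) * (a * b) = 1 := by rw [← mul_assoc, e3, hb]
    rintro x y (rfl | rfl | rfl | rfl) (rfl | rfl | rfl | rfl) <;>
      simp [ha, hb, e1, e2, e3, e4, e5, ← hab]
  inv_mem' := by
    have ia : a⁻¹ = a := inv_eq_of_mul_eq_one_right ha
    have ib : b⁻¹ = b := inv_eq_of_mul_eq_one_right hb
    rintro x (rfl | rfl | rfl | rfl)
    · exact Or.inl inv_one
    · exact Or.inr (Or.inl ia)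
    · exact Or.inr (Or.inr (Or.inl ib))
    · refine Or.inr (Or.inr (Or.inr ?_))
      rw [mul_inv_rev, ia, ib, hab]

/-- A cyclic subgroup has at most one involution. -/
theorem inv_unique [Finite G] {A : Subgroup G} [IsCyclic A] {a b : G}
    (ha : a ∈ A) (hb : b ∈ A) (ha2 : a * a = 1) (hb2 : b * b = 1) (hb1 : b ≠ 1) :
    a = 1 ∨ a = b := by
  classical
  haveI := Fintype.ofFinite A
  by_contra hc
  push Not at hc
  have hsub : ({1, ⟨a, ha⟩, ⟨b, hb⟩} : Finset A) ⊆
      Finset.univ.filter fun x : A => x ^ 2 = 1 := by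
    intro x hx
    simp only [Finset.mem_insert, Finset.mem_singleton] at hx
    simp only [Finset.mem_filter, Finset.mem_univ, true_and]
    rcases hx with rfl | rfl | rfl
    · exact one_pow 2
    · exact Subtype.ext (by rw [Subgroup.coe_pow, pow_two]; exact ha2)
    · exact Subtype.ext (by rw [Subgroup.coe_pow, pow_two]; exact hb2)
  have h1 := (Finset.card_le_card hsub).trans (IsCyclic.card_pow_eq_one_le (α := A) two_pos)
  have h2 : ({1, ⟨a, ha⟩, ⟨b, hb⟩} : Finset A).card = 3 := Finset.card_eq_three.2
    ⟨_, _, _, fun e => hc.1 (congrArg Subtype.val e).symm, fun e => hb1 (congrArg Subtype.val e).symm,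
      fun e => hc.2 (congrArg Subtype.val e), rfl⟩
  omega

/-- Two commuting involutions generate a self-centralising four group. -/
theorem two_elem [Finite G] (hP : SelfCent G) {a b x : G} (ha : orderOf a = 2) (hb : orderOf b = 2)
    (hne : a ≠ b) (hab : a * b = b * a) (hxa : x * a = a * x) (hxb : x * b = b * x) :
    x = 1 ∨ x = a ∨ x = b ∨ x = a * b := by
  refine hP (four a b (sq_one ha) (sq_one hb) hab) (fun hc => ?_) ?_
  · haveI := hc
    rcases inv_unique (A := four a b (sq_one ha) (sq_one hb) hab) (Or.inr (Or.inl rfl))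
      (Or.inr (Or.inr (Or.inl rfl))) (sq_one ha) (sq_one hb) (ne_one hb) with h | h
    · exact ne_one ha h
    · exact hne h
  · rw [Subgroup.mem_centralizer_iff]
    rintro y (rfl | rfl | rfl | rfl)
    · rw [one_mul, mul_one]
    · exact hxa.symm
    · exact hxb.symm
    · exact (Commute.mul_left (show Commute a x from hxa.symm) (show Commute b x from hxb.symm)).eq

/-- An involution inverts no element of odd order centralised by a commuting involution. -/
theorem odd_not_inverted [Finite G] (hP : SelfCent G) {z s h : G} (hz : orderOf z = 2)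
    (hs : orderOf s = 2) (hzs : z * s = s * z) (hzh : z * h = h * z) (hodd : Odd (orderOf h))
    (hinv : s * h * s⁻¹ = h⁻¹) : h = 1 := by
  have hone : s * h = h * s → h = 1 := by
    intro e
    have h1 : h = h⁻¹ := by rw [← hinv, e, mul_inv_cancel_right]
    have h2 : h ^ 2 = 1 := by rw [pow_two]; nth_rw 1 [h1]; exact inv_mul_cancel h
    exact orderOf_eq_one_iff.1 (Nat.eq_one_of_dvd_coprimes
      (Nat.coprime_two_left.2 hodd) (orderOf_dvd_of_pow_eq_one h2) dvd_rfl)
  have hss := sq_one hs
  have hs' : s⁻¹ = s := inv_eq_of_mul_eq_one_right hss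
  have hconj : ∀ y ∈ Subgroup.zpowers h, s * y * s = y⁻¹ := by
    rintro _ ⟨i, rfl⟩
    have := conj_zpow (a := s) (b := h) (i := i)
    rw [hinv, inv_zpow] at this
    rwa [hs', eq_comm] at this
  let H : Subgroup G :=
    { carrier := {x | x ∈ Subgroup.zpowers h ∨ x * s ∈ Subgroup.zpowers h}
      one_mem' := Or.inl (one_mem _)
      mul_mem' := by
        rintro x y (hx | hx) (hy | hy)
        · exact Or.inl (mul_mem hx hy)
        · exact Or.inr (by rw [mul_assoc]; exact mul_mem hx hy)
        · refine Or.inr ?_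
          rw [show x * y * s = (x * s) * (s * y * s) by
            calc x * y * s = x * (s * s) * y * s := by rw [hss, mul_one]
              _ = (x * s) * (s * y * s) := by group, hconj y hy]
          exact mul_mem hx (inv_mem hy)
        · refine Or.inl ?_
          rw [show x * y = (x * s) * (s * (y * s) * s) by
            calc x * y = x * (s * s) * y * (s * s) := by rw [hss, mul_one, mul_one]
              _ = (x * s) * (s * (y * s) * s) := by group, hconj _ hy]
          exact mul_mem hx (inv_mem hy)
      inv_mem' := by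
        rintro x (hx | hx)
        · exact Or.inl (inv_mem hx)
        · refine Or.inr ?_
          have h1 := hconj _ (inv_mem hx)
          rw [inv_inv] at h1
          rw [← h1] at hx
          have : x⁻¹ * s = s * (x * s)⁻¹ * s := by
            rw [mul_inv_rev, hs', ← mul_assoc, hss, one_mul]
          rw [this, hconj _ (inv_mem (h1 ▸ hx)), inv_inv]
          exact h1 ▸ hx }
  have hsH : s ∈ H := Or.inr (by rw [hss]; exact one_mem _)
  have hhH : h ∈ H := Or.inl (Subgroup.mem_zpowers h)
  by_cases hc : IsCyclic H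
  · exact hone (congrArg Subtype.val (hc.isMulCommutative.is_comm.comm (⟨s, hsH⟩ : H) ⟨h, hhH⟩))
  have hzy : ∀ y ∈ Subgroup.zpowers h, y * z = z * y := by
    rintro _ ⟨i, rfl⟩
    exact ((show Commute z h from hzh).zpow_right i).eq.symm
  have hzC : z ∈ Subgroup.centralizer (H : Set G) := by
    rw [Subgroup.mem_centralizer_iff]
    rintro y (hy | hy)
    · exact hzy y hy
    · have e1 := hzy _ hy
      have e2 : Commute (y * s * s) z :=
        (show Commute (y * s) z from e1).mul_left (show Commute s z from hzs.symm)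
      rwa [mul_assoc, hss, mul_one] at e2
  rcases hP H hc hzC with h1 | h1
  · exfalso
    obtain ⟨i, hi⟩ := h1
    have h2 : orderOf z ∣ orderOf h := by
      have : z ^ orderOf h = 1 := by
        rw [← hi, ← zpow_natCast, ← zpow_mul, mul_comm, zpow_mul, zpow_natCast, pow_orderOf_eq_one,
          one_zpow]
      exact orderOf_dvd_of_pow_eq_one this
    rw [hz] at h2
    exact Nat.not_even_iff_odd.2 hodd (even_iff_two_dvd.2 h2)
  · refine hone ?_
    obtain ⟨i, hi⟩ := h1
    have hh : Commute (z * s) h := hi ▸ (Commute.refl h).zpow_left i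
    have := ((show Commute z h from hzh).inv_left.mul_left hh).eq
    rwa [inv_mul_cancel_left] at this

/-- A normal `p`-subgroup lies in every Sylow subgroup. -/
theorem normal_le_sylow [Finite G] {p : ℕ} [Fact p.Prime] (N : Subgroup G) [N.Normal]
    (hN : IsPGroup p N) (Q : Sylow p G) : N ≤ (Q : Subgroup G) := by
  obtain ⟨R, hR⟩ := hN.exists_le_sylow
  obtain ⟨c, rfl⟩ := MulAction.exists_smul_eq G R Q
  intro x hx
  rw [Sylow.coe_subgroup_smul, Subgroup.mem_pointwise_smul_iff_inv_smul_mem, ← map_inv,
    MulAut.smul_def, MulAut.conj_apply]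
  exact hR (Subgroup.Normal.conj_mem inferInstance x hx _)

/-- The odd prime powers one away from a power of two. -/
theorem shape_of_two_pow {p n m : ℕ} (hp : p.Prime) (hp2 : p ≠ 2) (hn : 1 ≤ n)
    (h : p ^ n - 1 = 2 ^ m ∨ p ^ n + 1 = 2 ^ m) :
    p ^ n = 9 ∨ ((p ^ n).Prime ∧ ∃ k : ℕ, p ^ n = 2 ^ k + 1 ∨ p ^ n = 2 ^ k - 1) := by
  have hp3 : 3 ≤ p := by have := hp.two_le; omega
  have hpn : 3 ≤ p ^ n := hp3.trans (Nat.le_self_pow (by omega) p)
  rcases hn.lt_or_eq with hn2 | rfl
  · rcases h with h | h
    · left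
      obtain ⟨rfl, rfl⟩ := Cfsg.Agent.S3370.pow_pred_two_pow hp hp2 hn2 h
      norm_num
    · exfalso
      obtain ⟨u, hu⟩ := hp.odd_of_ne_two hp2
      rcases Nat.even_or_odd n with ⟨b, rfl⟩ | ⟨b, rfl⟩
      · obtain ⟨v, hv⟩ : Odd (p ^ b) := (hp.odd_of_ne_two hp2).pow
        have h4 : p ^ (b + b) = 4 * (v * v + v) + 1 := by rw [pow_add, hv]; ring
        rcases m with _ | _ | m
        · omega
        · omega
        · rw [h4, pow_succ, pow_succ] at h
          omega
      · have key : ∀ c : ℕ, ∃ i : ℤ, (p : ℤ) ^ (2 * c + 1) + 1 = ((p : ℤ) + 1) * (2 * i + 1) := by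
          intro c
          induction c with
          | zero => exact ⟨0, by ring⟩
          | succ c ih =>
            obtain ⟨i, hi⟩ := ih
            refine ⟨(p : ℤ) ^ 2 * i + 2 * (u : ℤ) * u + u, ?_⟩
            have hu' : (p : ℤ) = 2 * u + 1 := by exact_mod_cast hu
            have e : (p : ℤ) ^ (2 * (c + 1) + 1) + 1 =
                (p : ℤ) ^ 2 * ((p : ℤ) ^ (2 * c + 1) + 1) - ((p : ℤ) ^ 2 - 1) := by ring
            rw [e, hi, hu']
            ring
        obtain ⟨i, hi⟩ := key b
        have h' : ((p : ℤ) ^ (2 * b + 1) + 1) = (2 : ℤ) ^ m := by exact_mod_cast h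
        rw [h'] at hi
        have hdvd : (2 * i + 1).natAbs ∣ 2 ^ m := by
          have : (2 * i + 1) ∣ (2 : ℤ) ^ m := ⟨(p : ℤ) + 1, by rw [hi]; ring⟩
          simpa [Int.natAbs_pow] using Int.natAbs_dvd_natAbs.2 this
        obtain ⟨j, -, hj⟩ := (Nat.dvd_prime_pow Nat.prime_two).1 hdvd
        rcases j with _ | j
        · rw [pow_zero] at hj
          have hpos : (0 : ℤ) < 2 * i + 1 := by
            by_contra hneg
            push Not at hneg
            have h1 : ((p : ℤ) + 1) * (2 * i + 1) ≤ 0 :=
              mul_nonpos_of_nonneg_of_nonpos (by positivity) hneg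
            have h2 : (0 : ℤ) < (2 : ℤ) ^ m := by positivity
            omega
          have hone : 2 * i + 1 = 1 := by omega
          rw [hone, mul_one, ← h'] at hi
          have h3 : p ^ (2 * b + 1) = p := by
            have : (p : ℤ) ^ (2 * b + 1) = p := by linarith
            exact_mod_cast this
          have := Nat.pow_right_injective hp.two_le (h3.trans (pow_one p).symm)
          omega
        · have : Even (2 * i + 1) := by
            rw [← Int.natAbs_even, hj, pow_succ']
            exact even_two_mul _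
          exact absurd this (by simp [parity_simps])
  · rw [pow_one] at *
    refine Or.inr ⟨hp, ?_⟩
    rcases h with h | h
    · exact ⟨m, Or.inl (by omega)⟩
    · exact ⟨m, Or.inr (by omega)⟩

/-- The forward direction. -/
theorem exists_psl2 [Finite G] [IsSimpleGroup G] (hna : ¬ IsMulCommutative G) (hP : SelfCent G) :
    ∃ (F : Type) (_ : Field F) (_ : Fintype F),
      (Fintype.card F = 4 ∨ Fintype.card F = 9 ∨
        ((Fintype.card F).Prime ∧ ∃ k : ℕ, Fintype.card F = 2 ^ k + 1 ∨ Fintype.card F = 2 ^ k - 1)) ∧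
      Nonempty (G ≃* Matrix.ProjectiveSpecialLinearGroup (Fin 2) F) := by
  classical
  haveI : Fact (Nat.Prime 2) := ⟨Nat.prime_two⟩
  haveI := Fintype.ofFinite G
  have hnsol : ¬ Group.IsSolvable G := fun hs => hna
    ⟨⟨fun a b => (IsSimpleGroup.comm_iff_isSolvable (G := G)).2 hs a b⟩⟩
  have heven : 2 ∣ Nat.card G := by
    by_contra h
    exact hnsol (Cfsg.Agent.S0205.result
      (Nat.not_even_iff_odd.1 fun he => h (even_iff_two_dvd.1 he)))
  obtain ⟨S⟩ : Nonempty (Sylow 2 G) := inferInstance
  haveI : Nontrivial (S : Subgroup G) :=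
    (Subgroup.nontrivial_iff_ne_bot _).2 (S.ne_bot_of_dvd_card heven)
  haveI : Nontrivial (Subgroup.center (S : Subgroup G)) := S.isPGroup'.center_nontrivial
  obtain ⟨zc, hzc⟩ : ∃ zc : Subgroup.center (S : Subgroup G), orderOf zc = 2 := by
    obtain ⟨m, hm, hcard⟩ := (IsPGroup.nontrivial_iff_card
      (S.isPGroup'.to_subgroup (Subgroup.center (S : Subgroup G)))).1 inferInstance
    exact exists_prime_orderOf_dvd_card' 2 (hcard ▸ dvd_pow_self 2 (by omega))
  set z : G := ((zc : (S : Subgroup G)) : G) with hzdef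
  have hzS : z ∈ (S : Subgroup G) := (zc : (S : Subgroup G)).2
  have hz : orderOf z = 2 := by rw [hzdef, Subgroup.orderOf_coe, Subgroup.orderOf_coe, hzc]
  have hzz := sq_one hz
  have hz1 := ne_one hz
  have hzcomm : ∀ g ∈ (S : Subgroup G), g * z = z * g := fun g hg =>
    congrArg Subtype.val (Subgroup.mem_center_iff.1 zc.2 ⟨g, hg⟩)
  set C := Subgroup.centralizer ({z} : Set G) with hC
  have hSC : (S : Subgroup G) ≤ C := fun g hg => Subgroup.mem_centralizer_singleton_iff.2 (hzcomm g hg)
  -- a second involution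
  obtain ⟨s, hsS, hs, hsz⟩ : ∃ s ∈ (S : Subgroup G), orderOf s = 2 ∧ s ≠ z := by
    by_contra hno
    push Not at hno
    have hsol : ZStarBasic.Solitary z := by
      refine ⟨hz, fun t ht htz => ?_⟩
      have htC : t ∈ C := Subgroup.mem_centralizer_singleton_iff.2 htz.eq
      have hp : IsPGroup 2 (Subgroup.zpowers (⟨t, htC⟩ : C)) :=
        IsPGroup.of_card (n := 1) (by rw [Nat.card_zpowers, Subgroup.orderOf_mk, ht, pow_one])
      obtain ⟨R, hR⟩ := hp.exists_le_sylow
      obtain ⟨c, rfl⟩ := MulAction.exists_smul_eq C (S.subtype hSC) R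
      have hmem := hR (Subgroup.mem_zpowers _)
      rw [Sylow.coe_subgroup_smul, Subgroup.mem_pointwise_smul_iff_inv_smul_mem, ← map_inv,
        MulAut.smul_def, MulAut.conj_apply] at hmem
      have h1 : (c : G)⁻¹ * t * (c : G)⁻¹⁻¹ ∈ (S : Subgroup G) := hmem
      have h2 := hno _ h1 ((ZStarBasic.orderOf_conj_eq _ _).trans ht)
      have hcz : (c : G) * z = z * c := Subgroup.mem_centralizer_singleton_iff.1 c.2
      calc t = (c : G) * ((c : G)⁻¹ * t * (c : G)⁻¹⁻¹) * (c : G)⁻¹ := by group
        _ = (c : G) * z * (c : G)⁻¹ := by rw [h2]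
        _ = z := by rw [hcz, mul_inv_cancel_right]
    have hO : Cfsg.pPrimeCore 2 G = ⊥ := by
      refine BrauerSuzukiApps.pPrimeCore_eq_bot fun N hN hodd => ?_
      refine hN.eq_bot_or_eq_top.resolve_right fun e => hnsol (Cfsg.Agent.S0205.result ?_)
      rwa [e, Subgroup.card_top] at hodd
    have hzZ := BrauerSuzukiCore.mem_center_of_solitary hsol hO
    rcases (inferInstance : (Subgroup.center G).Normal).eq_bot_or_eq_top with h | h
    · rw [h, Subgroup.mem_bot] at hzZ
      exact hz1 hzZ
    · exact hna ⟨⟨fun a b => (Subgroup.mem_center_iff.1 (h ▸ Subgroup.mem_top a : a ∈ Subgroup.center G) b).symm⟩⟩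
  have hss := sq_one hs
  have hs' : s⁻¹ = s := inv_eq_of_mul_eq_one_right hss
  have hsz' : s * z = z * s := hzcomm s hsS
  have hfour : ∀ x : G, x * z = z * x → x * s = s * x → x = 1 ∨ x = z ∨ x = s ∨ x = z * s :=
    fun x h1 h2 => two_elem hP hz hs hsz.symm hsz'.symm h1 h2
  -- a cyclic subgroup of index two
  obtain ⟨K, hKcyc, hKS, hK2, hzK⟩ : ∃ K : Subgroup G, IsCyclic K ∧ K ≤ (S : Subgroup G) ∧
      K.relIndex (S : Subgroup G) = 2 ∧ z ∈ K := by
    obtain ⟨n, hn⟩ := IsPGroup.iff_card.1 S.isPGroup'
    set A := (four z s hzz hss hsz'.symm).subgroupOf (S : Subgroup G) with hA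
    have hfS : four z s hzz hss hsz'.symm ≤ (S : Subgroup G) := by
      rintro x (rfl | rfl | rfl | rfl)
      exacts [one_mem _, hzS, hsS, mul_mem hzS hsS]
    have hA4 : Nat.card A = 2 ^ 2 := by
      rw [Nat.card_congr (Subgroup.subgroupOfEquivOfLe hfS).toEquiv]
      change Nat.card ({x | x = 1 ∨ x = z ∨ x = s ∨ x = z * s} : Set G) = _
      rw [Nat.card_coe_set_eq,
        show {x | x = 1 ∨ x = z ∨ x = s ∨ x = z * s} = ({1, z, s, z * s} : Set G) by ext x; simp,
        Set.ncard_eq_toFinset_card', Set.toFinset_insert, Set.toFinset_insert, Set.toFinset_insert,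
        Set.toFinset_singleton, Finset.card_insert_of_notMem, Finset.card_insert_of_notMem,
        Finset.card_insert_of_notMem, Finset.card_singleton]
      · norm_num
      · simp [hz1]
      · simp [hsz.symm, ne_one hs]
      · simp [hz1.symm, (ne_one hs).symm]
        intro e
        exact hsz (by rw [← mul_one z, e, ← mul_assoc, hzz, one_mul])
    have h4dvd := Subgroup.card_subgroup_dvd_card A
    rw [hA4, hn, Nat.pow_dvd_pow_iff_le_right (by norm_num)] at h4dvd
    rcases h4dvd.lt_or_eq with hn3 | hn2
    · have hcent : Subgroup.centralizer (A : Set (S : Subgroup G)) = A := by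
        ext x
        constructor
        · intro hx
          have e1 := congrArg Subtype.val (Subgroup.mem_centralizer_iff.1 hx ⟨z, hzS⟩ (Or.inr (Or.inl rfl)))
          have e2 := congrArg Subtype.val
            (Subgroup.mem_centralizer_iff.1 hx ⟨s, hsS⟩ (Or.inr (Or.inr (Or.inl rfl))))
          exact hfour x e1.symm e2.symm
        · intro hx
          rw [Subgroup.mem_centralizer_iff]
          intro y hy
          refine Subtype.ext ?_
          show (y : G) * x = x * y
          obtain e | e | e | e : (y : G) = 1 ∨ (y : G) = z ∨ (y : G) = s ∨ (y : G) = z * s := hy <;>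
            obtain e' | e' | e' | e' : (x : G) = 1 ∨ (x : G) = z ∨ (x : G) = s ∨ (x : G) = z * s := hx <;>
            rw [e, e'] <;>
            first
              | simp
              | exact hsz'.symm
              | exact hsz'
              | exact ((Commute.refl z).mul_right (show Commute z s from hsz'.symm)).eq
              | exact ((Commute.refl z).mul_right (show Commute z s from hsz'.symm)).eq.symm
              | exact ((show Commute s z from hsz').mul_right (Commute.refl s)).eq
              | exact ((show Commute s z from hsz').mul_right (Commute.refl s)).eq.symm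
      have hclass := MaxClassTwo.class_of_self_centralizing (p := 2) n (S : Subgroup G) hn A hA4 hcent
      obtain ⟨C₀, hC₀, hC₀i⟩ := MaxClassTwo.exists_cyclic_index_two n (S : Subgroup G) hn (by omega) hclass
      haveI := hC₀
      refine ⟨C₀.map (S : Subgroup G).subtype,
        ((C₀.equivMapOfInjective _ (S : Subgroup G).subtype_injective).isCyclic).1 hC₀,
        Subgroup.map_subtype_le _, ?_, ?_⟩
      · rw [Subgroup.relIndex, Subgroup.subgroupOf, Subgroup.comap_map_eq_self_of_injective
          (S : Subgroup G).subtype_injective, hC₀i]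
      · by_contra hzK
        set z' : (S : Subgroup G) := ⟨z, hzS⟩
        set s' : (S : Subgroup G) := ⟨s, hsS⟩
        have hz' : z' ∉ C₀ := fun h => hzK ⟨z', h, rfl⟩
        have hK : ∀ k ∈ C₀, Commute k s' := by
          intro k hk
          by_cases hsC : s' ∈ C₀
          · exact congrArg Subtype.val (hC₀.isMulCommutative.is_comm.comm (⟨k, hk⟩ : C₀) ⟨s', hsC⟩)
          · have h1 : z' * s' ∈ C₀ := (Subgroup.mul_mem_iff_of_index_two hC₀i).2 (iff_of_false hz' hsC)
            have h2 : Commute k (z' * s') :=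
              congrArg Subtype.val (hC₀.isMulCommutative.is_comm.comm (⟨k, hk⟩ : C₀) ⟨_, h1⟩)
            have h3 : Commute k z' := Subtype.ext (hzcomm k k.2)
            have := h3.inv_right.mul_right h2
            rwa [inv_mul_cancel_left] at this
        have hall : ∀ x : (S : Subgroup G), x ∈ A := by
          intro x
          refine hfour x (hzcomm x x.2) ?_
          by_cases hx : x ∈ C₀
          · exact congrArg Subtype.val (hK x hx).eq
          · have h1 : x * z' ∈ C₀ := (Subgroup.mul_mem_iff_of_index_two hC₀i).2 (iff_of_false hx hz')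
            have h2 := (hK _ h1).mul_left (show Commute z' s' from Subtype.ext hsz'.symm)
            rw [mul_assoc, show z' * z' = 1 from Subtype.ext hzz, mul_one] at h2
            exact congrArg Subtype.val h2.eq
        rw [(Subgroup.eq_top_iff' A).2 hall, Subgroup.card_top, hn] at hA4
        have := Nat.pow_right_injective le_rfl hA4
        omega
    · refine ⟨Subgroup.zpowers z, inferInstance, Subgroup.zpowers_le.2 hzS, ?_, Subgroup.mem_zpowers z⟩
      have h1 := ((Subgroup.zpowers z).subgroupOf (S : Subgroup G)).card_mul_index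
      rw [Nat.card_congr (Subgroup.subgroupOfEquivOfLe (Subgroup.zpowers_le.2 hzS)).toEquiv,
        Nat.card_zpowers, hz, hn, ← hn2] at h1
      rw [Subgroup.relIndex]
      omega
  haveI := hKcyc
  have huniq : ∀ a ∈ K, a * a = 1 → a = 1 ∨ a = z := fun a ha h => inv_unique ha hzK h hzz hz1
  have hsK : s ∉ K := fun h => hsz ((huniq s h hss).resolve_left (ne_one hs))
  have hzsK : z * s ∉ K := fun h => hsK (by
    have := K.mul_mem hzK h; rwa [← mul_assoc, hzz, one_mul] at this)
  have hKab : ∀ a ∈ K, ∀ b ∈ K, a * b = b * a := fun a ha b hb =>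
    congrArg Subtype.val (hKcyc.isMulCommutative.is_comm.comm (⟨a, ha⟩ : K) ⟨b, hb⟩)
  have hmul : ∀ g ∈ (S : Subgroup G), ∀ h ∈ (S : Subgroup G), (g * h ∈ K ↔ (g ∈ K ↔ h ∈ K)) :=
    fun g hg h hh => Subgroup.mul_mem_iff_of_index_two (H := K.subgroupOf (S : Subgroup G))
      (a := ⟨g, hg⟩) (b := ⟨h, hh⟩) hK2
  have hcardS : Nat.card (S : Subgroup G) = 2 * Nat.card K := by
    have h1 := (K.subgroupOf (S : Subgroup G)).card_mul_index
    rw [Nat.card_congr (Subgroup.subgroupOfEquivOfLe hKS).toEquiv, show (K.subgroupOf (S : Subgroup G)).index = 2 from hK2] at h1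
    rw [← h1, mul_comm]
  -- the centraliser is the Sylow subgroup
  have hCS : C = (S : Subgroup G) := by
    have hsC : s ∈ C := hSC hsS
    obtain ⟨N, hN, hN2, hsN⟩ : ∃ N : Subgroup C, N.Normal ∧ IsPGroup 2 N ∧ (⟨s, hsC⟩ : C) ∈ N := by
      by_contra hno
      push Not at hno
      obtain ⟨h, h1, hodd, hinv⟩ := BaerSuzuki.exists_inverted_odd (⟨s, hsC⟩ : C)
        (by rw [Subgroup.orderOf_mk, hs]) hno
      refine h1 (Subtype.ext (odd_not_inverted hP hz hs hsz'.symm
        (Subgroup.mem_centralizer_singleton_iff.1 h.2).symm ?_ (congrArg Subtype.val hinv)))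
      rwa [Subgroup.orderOf_coe]
    haveI := hN
    have hin : ∀ c ∈ C, c * s * c⁻¹ ∈ (S : Subgroup G) ∧ c * s * c⁻¹ ∉ K := by
      intro c hc
      refine ⟨normal_le_sylow N hN2 (S.subtype hSC) (hN.conj_mem _ hsN ⟨c, hc⟩), fun hK => ?_⟩
      have h2 : (c * s * c⁻¹) * (c * s * c⁻¹) = 1 := by
        rw [show (c * s * c⁻¹) * (c * s * c⁻¹) = c * (s * s) * c⁻¹ by group, hss, mul_one, mul_inv_cancel]
      rcases huniq _ hK h2 with h | h
      · exact ne_one hs (conj_eq_one_iff.1 h)
      · refine hsz ?_
        have hcz : c * z = z * c := Subgroup.mem_centralizer_singleton_iff.1 hc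
        calc s = c⁻¹ * (c * s * c⁻¹) * c := by group
          _ = c⁻¹ * (z * c) := by rw [h]; group
          _ = z := by rw [← hcz]; group
    have hle : Nat.card C ≤ 4 * Nat.card K := by
      have h1 := Finset.card_le_mul_card_image (f := fun c : G => c * s * c⁻¹)
        (Finset.univ.filter (· ∈ C)) 4 fun a ha => by
          obtain ⟨c₀, hc₀, rfl⟩ := Finset.mem_image.1 ha
          rw [Finset.mem_filter] at hc₀
          refine (Finset.card_le_card_of_injOn (fun c => c₀⁻¹ * c) (fun c hc => ?_)
            fun a _ b _ e => mul_left_cancel e).trans (?_ : ({1, z, s, z * s} : Finset G).card ≤ 4)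
          · simp only [Finset.coe_filter, Finset.mem_filter, Finset.mem_univ, true_and,
              Set.mem_ofPred_eq] at hc
            have e1 : c * z = z * c := Subgroup.mem_centralizer_singleton_iff.1 hc.1
            have e2 : c₀ * z = z * c₀ := Subgroup.mem_centralizer_singleton_iff.1 hc₀.2
            have e3 : (c₀⁻¹ * c) * z = z * (c₀⁻¹ * c) :=
              ((show Commute c₀ z from e2).inv_left.mul_left (show Commute c z from e1)).eq
            have e4 : (c₀⁻¹ * c) * s = s * (c₀⁻¹ * c) := by
              calc (c₀⁻¹ * c) * s = c₀⁻¹ * (c * s * c⁻¹) * c := by group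
                _ = c₀⁻¹ * (c₀ * s * c₀⁻¹) * c := by rw [hc.2]
                _ = s * (c₀⁻¹ * c) := by group
            simpa using hfour _ e3 e4
          · exact Finset.card_le_four
      have h2 : ((Finset.univ.filter (· ∈ C)).image fun c : G => c * s * c⁻¹).card ≤ Nat.card K := by
        calc _ ≤ ((Finset.univ.filter (· ∈ (S : Subgroup G))) \ (Finset.univ.filter (· ∈ K))).card := by
              refine Finset.card_le_card fun x hx => ?_
              obtain ⟨c, hc, rfl⟩ := Finset.mem_image.1 hx
              rw [Finset.mem_filter] at hc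
              simpa using hin c hc.2
          _ = Nat.card K := by
              rw [Finset.card_sdiff_of_subset (fun x hx => by
                simp only [Finset.mem_filter, Finset.mem_univ, true_and] at hx ⊢
                exact hKS hx), ← Fintype.card_subtype, ← Fintype.card_subtype,
                ← Nat.card_eq_fintype_card, ← Nat.card_eq_fintype_card]
              have := hcardS
              omega
      rw [← Fintype.card_subtype, ← Nat.card_eq_fintype_card] at h1
      exact h1.trans (Nat.mul_le_mul_left 4 h2)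
    refine le_antisymm (Subgroup.relIndex_eq_one.1 ?_) hSC
    have h3 := ((S : Subgroup G).subgroupOf C).card_mul_index
    rw [Nat.card_congr (Subgroup.subgroupOfEquivOfLe hSC).toEquiv] at h3
    have h4 : ((S : Subgroup G).subgroupOf C).index ≤ 2 := by
      refine Nat.le_of_mul_le_mul_left ?_ (Nat.card_pos (α := (S : Subgroup G)))
      rw [h3, hcardS]
      omega
    have h5 : ¬ 2 ∣ ((S : Subgroup G).subgroupOf C).index := (S.subtype hSC).not_dvd_index
    have h6 : ((S : Subgroup G).subgroupOf C).index ≠ 0 := Subgroup.index_ne_zero_of_finite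
    rw [Subgroup.relIndex]
    omega
  -- `s` acts on `K` by inversion up to `z`
  have hsK' : ∀ a ∈ K, s * a * s ∈ K := by
    intro a ha
    have h1 : s * a ∉ K := fun h => hsK ((iff_of_true h ha |> fun i => (hmul _ hsS _ (hKS ha)).1 h).2 ha)
    exact (hmul _ (mul_mem hsS (hKS ha)) _ hsS).2 (iff_of_false h1 hsK)
  set b : G → G := fun a => s * a * s * a with hb
  have hbv : ∀ a ∈ K, b a = 1 ∨ b a = z := by
    intro a ha
    have hbK : b a ∈ K := K.mul_mem (hsK' a ha) ha
    have hc1 : b a * s = s * b a := by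
      simp only [hb]
      calc s * a * s * a * s = (s * a * s) * a * s := by group
        _ = a * (s * a * s) * s := by rw [hKab _ (hsK' a ha) _ ha]
        _ = a * s * a * (s * s) := by group
        _ = (s * s) * (a * s * a) := by rw [hss, one_mul, mul_one]
        _ = s * (s * a * s * a) := by group
    rcases hfour _ (hzcomm _ (hKS hbK)) hc1 with h | h | h | h
    · exact Or.inl h
    · exact Or.inr h
    · exact absurd (h ▸ hbK) hsK
    · exact absurd (h ▸ hbK) hzsK
  have hb1 : ∀ a ∈ K, b a = 1 := by
    by_contra hne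
    push Not at hne
    obtain ⟨a, ha, hba⟩ := hne
    have hbaz : b a = z := (hbv a ha).resolve_left hba
    have hbmul : ∀ g ∈ K, ∀ h ∈ K, b (g * h) = b g * b h := by
      intro g hg h hh
      calc s * (g * h) * s * (g * h) = (s * g * s) * ((s * h * s) * g) * h := by
            rw [show s * (g * h) * s = (s * g * s) * (s * h * s) by
              calc s * (g * h) * s = s * g * (s * s) * h * s := by rw [hss, mul_one]; group
                _ = (s * g * s) * (s * h * s) := by group]
            group
        _ = (s * g * s) * (g * (s * h * s)) * h := by rw [hKab _ (hsK' h hh) _ hg]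
        _ = s * g * s * g * (s * h * s * h) := by group
    have hbconj : ∀ g ∈ K, b (s * g * s) = b g := by
      intro g hg
      calc s * (s * g * s) * s * (s * g * s) = (s * s) * g * (s * s) * (s * g * s) := by group
        _ = g * (s * g * s) := by rw [hss, one_mul, mul_one]
        _ = s * g * s * g := (hKab _ (hsK' g hg) _ hg).symm
    let kk : G → G := fun g => if g ∈ K then g else s * g
    have hkk : ∀ g ∈ (S : Subgroup G), kk g ∈ K := by
      intro g hg
      simp only [kk]
      split_ifs with h
      · exact h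
      · exact (hmul _ hsS _ hg).2 (iff_of_false hsK h)
    let f : ↥(S : Subgroup G) → ℤˣ := fun g => if b (kk g) = 1 then 1 else -1
    have hkmul : ∀ g ∈ (S : Subgroup G), ∀ h ∈ (S : Subgroup G), b (kk (g * h)) = b (kk g) * b (kk h) := by
      intro g hg h hh
      have hgh := hmul g hg h hh
      have hkg := hkk g hg
      have hkh := hkk h hh
      by_cases h1 : g ∈ K <;> by_cases h2 : h ∈ K
      · have h3 : g * h ∈ K := K.mul_mem h1 h2
        simp only [kk, if_pos h1, if_pos h2, if_pos h3]
        exact hbmul g h1 h h2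
      · have h3 : g * h ∉ K := fun e => h2 ((hgh.1 e).1 h1)
        simp only [kk, if_pos h1, if_neg h2, if_neg h3] at hkh ⊢
        rw [show s * (g * h) = (s * g * s) * (s * h) by
          calc s * (g * h) = s * g * (s * s) * h := by rw [hss, mul_one]; group
            _ = (s * g * s) * (s * h) := by group, hbmul _ (hsK' g h1) _ hkh, hbconj g h1]
      · have h3 : g * h ∉ K := fun e => h1 ((hgh.1 e).2 h2)
        simp only [kk, if_neg h1, if_pos h2, if_neg h3] at hkg ⊢
        rw [← mul_assoc, hbmul _ hkg _ h2]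
      · have h3 : g * h ∈ K := hgh.2 (iff_of_false h1 h2)
        simp only [kk, if_neg h1, if_neg h2, if_pos h3] at hkg hkh ⊢
        rw [show g * h = (s * (s * g) * s) * (s * h) by
          calc g * h = (s * s) * g * (s * s) * h := by rw [hss, one_mul, mul_one]
            _ = (s * (s * g) * s) * (s * h) := by group, hbmul _ (hsK' _ hkg) _ hkh, hbconj _ hkg]
    let φ : (S : Subgroup G) →* ℤˣ := MonoidHom.mk' f fun g h => by
      simp only [f, Subgroup.coe_mul, hkmul g g.2 h h.2]
      rcases hbv _ (hkk g g.2) with e1 | e1 <;> rcases hbv _ (hkk h h.2) with e2 | e2 <;>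
        simp [e1, e2, hzz, hz1]
    have hφinv : ∀ (y : G) (hy : y ∈ (S : Subgroup G)), y * y = 1 → φ ⟨y, hy⟩ = 1 := by
      intro y hy hyy
      refine if_pos ?_
      simp only [kk]
      split_ifs with h
      · rcases huniq y h hyy with rfl | rfl
        · simp [hb, hss]
        · simp only [hb]
          rw [mul_assoc s z s, ← hsz', ← mul_assoc, hss, one_mul, hzz]
      · simp only [hb]
        rw [show s * (s * y) * s * (s * y) = (s * s) * y * (s * s) * y by group, hss, one_mul, mul_one, hyy]
    set x := s * a with hx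
    have hxS : x ∈ (S : Subgroup G) := mul_mem hsS (hKS ha)
    have hxK : x ∉ K := fun h => hsK (((hmul _ hsS _ (hKS ha)).1 h).2 ha)
    have hxx : x * x = z := by rw [← hbaz, hx]; simp only [hb]; group
    have hne : φ ⟨x, hxS⟩ ≠ 1 := by
      have e : φ ⟨x, hxS⟩ = -1 := by
        refine if_neg ?_
        simp only [kk, if_neg hxK]
        rw [hx, ← mul_assoc, hss, one_mul, hbaz]
        exact hz1
      rw [e]; decide
    have hV : MonoidHom.transfer φ x ≠ 1 := by
      refine TransferThompson.transfer_ne_one S (IsPGroup.of_card (n := 1) (by simp)) φ hxS hne ?_ ?_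
      · rintro g k ⟨j, rfl⟩ h
        refine hφinv _ h ?_
        rw [pow_mul, pow_two, hxx]
        have e : z ^ j * z ^ j = 1 := by rw [← (Commute.refl z).mul_pow, hzz, one_pow]
        calc g⁻¹ * z ^ j * g * (g⁻¹ * z ^ j * g) = g⁻¹ * (z ^ j * z ^ j) * g := by group
          _ = 1 := by rw [e, mul_one, inv_mul_cancel]
      · intro g h
        have hy : (g⁻¹ * x * g) * (g⁻¹ * x * g) = g⁻¹ * z * g := by rw [← hxx]; group
        have hz4 : orderOf (g⁻¹ * z * g) = 2 := by
          have := ZStarBasic.orderOf_conj_eq g⁻¹ z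
          rw [inv_inv] at this
          rw [this, hz]
        have hyz : g⁻¹ * z * g = z := by
          rw [← hy]
          by_cases hyK : g⁻¹ * x * g ∈ K
          · refine (huniq _ (K.mul_mem hyK hyK) ?_).resolve_left ?_
            · rw [hy]; exact sq_one hz4
            · rw [hy]; exact ne_one hz4
          · have hk : s * (g⁻¹ * x * g) ∈ K := (hmul _ hsS _ h).2 (iff_of_false hsK hyK)
            refine Or.resolve_left ?_ (hy ▸ ne_one hz4)
            have e : b (s * (g⁻¹ * x * g)) = (g⁻¹ * x * g) * (g⁻¹ * x * g) := by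
              simp only [hb]
              rw [show s * (s * (g⁻¹ * x * g)) * s * (s * (g⁻¹ * x * g)) =
                (s * s) * (g⁻¹ * x * g) * (s * s) * (g⁻¹ * x * g) by group, hss, one_mul, mul_one]
            exact e ▸ hbv _ hk
        have hgS : g ∈ (S : Subgroup G) := by
          rw [← hCS, Subgroup.mem_centralizer_singleton_iff]
          calc g * z = g * (g⁻¹ * z * g) := by rw [hyz]
            _ = z * g := by group
        rw [show (⟨g⁻¹ * x * g, h⟩ : (S : Subgroup G)) = ⟨g, hgS⟩⁻¹ * ⟨x, hxS⟩ * ⟨g, hgS⟩ from rfl,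
          map_mul, map_mul, map_inv, inv_mul_cancel_comm]
    rcases (MonoidHom.normal_ker (MonoidHom.transfer φ)).eq_bot_or_eq_top with h | h
    · refine hna ⟨⟨fun p q => (MonoidHom.ker_eq_bot_iff _).1 h ?_⟩⟩
      rw [map_mul, map_mul, mul_comm]
    · exact hV (MonoidHom.mem_ker.1 (h ▸ Subgroup.mem_top x))
  have hinv : ∀ a ∈ K, s * a * s⁻¹ = a⁻¹ := fun a ha => by
    rw [hs']; exact eq_inv_of_mul_eq_one_left (hb1 a ha)
  have hcent : ∀ c : G, Commute c z → c ∈ K ∨ s * c ∈ K := by
    intro c hc
    have hcS : c ∈ (S : Subgroup G) := hCS ▸ Subgroup.mem_centralizer_singleton_iff.2 hc.eq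
    exact or_iff_not_imp_left.2 fun h => (hmul _ hsS _ hcS).2 (iff_of_false hsK h)
  have hti : ∀ g : G, ∀ x ∈ K, g * x * g⁻¹ ∈ K → x ≠ 1 → Commute g z := by
    intro g x hx hgx hx1
    obtain ⟨j, hj⟩ := (IsPGroup.iff_orderOf.1 S.isPGroup') ⟨x, hKS hx⟩
    rw [Subgroup.orderOf_mk] at hj
    rcases j with _ | j
    · exact absurd (orderOf_eq_one_iff.1 (by rw [hj, pow_zero])) hx1
    have h1 : x ^ 2 ^ j * x ^ 2 ^ j = 1 := by
      rw [← pow_add, ← two_mul, ← pow_succ', ← hj, pow_orderOf_eq_one]
    have h2 : x ^ 2 ^ j ≠ 1 := fun e => by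
      have := Nat.le_of_dvd (by positivity) (orderOf_dvd_of_pow_eq_one e)
      rw [hj, pow_succ] at this
      have := Nat.one_le_two_pow (n := j)
      omega
    have hxz : x ^ 2 ^ j = z := (huniq _ (K.pow_mem hx _) h1).resolve_left h2
    have h3 : g * z * g⁻¹ ∈ K := by rw [← hxz, ← conj_pow]; exact K.pow_mem hgx _
    have h4 : g * z * g⁻¹ = z := (huniq _ h3 (by rw [conj_mul, hzz]; group)).resolve_left
      fun e => hz1 (conj_eq_one_iff.1 e)
    exact mul_inv_eq_iff_eq_mul.1 h4
  have hall : ∀ x : G, orderOf x = 2 → IsConj x z := by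
    intro x hx
    obtain ⟨R, hR⟩ := (IsPGroup.of_card (n := 1) (by rw [Nat.card_zpowers, hx, pow_one]) :
      IsPGroup 2 (Subgroup.zpowers x)).exists_le_sylow
    obtain ⟨w, hw⟩ := MulAction.exists_smul_eq G R S
    have hwS : w * x * w⁻¹ ∈ (S : Subgroup G) := by
      rw [← hw]; exact ⟨x, hR (Subgroup.mem_zpowers x), rfl⟩
    have hw2 : orderOf (w * x * w⁻¹) = 2 := (ZStarBasic.orderOf_conj_eq _ _).trans hx
    by_cases hex : ∃ g, g * (w * x * w⁻¹) * g⁻¹ ∈ K
    · obtain ⟨g, hg⟩ := hex
      have h2 : orderOf (g * (w * x * w⁻¹) * g⁻¹) = 2 := (ZStarBasic.orderOf_conj_eq _ _).trans hw2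
      have := (huniq _ hg (sq_one h2)).resolve_left (ne_one h2)
      exact isConj_iff.2 ⟨g * w, by rw [← this]; group⟩
    · exfalso
      push Not at hex
      obtain ⟨M, hM, hMi, -⟩ := TransferThompson.thompson_transfer S K hKS hK2 hw2 hwS hex
      rcases hM.eq_bot_or_eq_top with rfl | rfl
      · rw [Subgroup.index_bot] at hMi
        haveI : IsCyclic G := isCyclic_of_prime_card (p := 2) hMi
        exact hna this.isMulCommutative
      · rw [Subgroup.index_top] at hMi
        omega
  have hyp : BSW84.Hyp z K s :=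
    ⟨hz, hs, hKab, hzK, (show Commute s z from hsz'), hsK, hinv, hcent, huniq, hti,
      fun x y hx hy => (hall x hx).trans (hall y hy).symm⟩
  obtain ⟨F, iF, iT, hodd, ⟨e⟩⟩ := BSW84.Concl.exists_psl2 hyp.concl
  refine ⟨F, iF, iT, Or.inr ?_, ⟨e⟩⟩
  rw [← Nat.card_eq_fintype_card] at hodd ⊢
  have h2 : (2 : F) ≠ 0 := PSL2Proj52.two_ne_of_odd hodd
  set t := e.symm (PSL2Proj52.π (PSL2Elements.w : Matrix.SpecialLinearGroup (Fin 2) F)) with ht
  have htr : PSL2Elements.tr (PSL2Elements.w : Matrix.SpecialLinearGroup (Fin 2) F) = 0 :=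
    PSL2Elements.tr_w
  have hw1 : PSL2Proj52.π (PSL2Elements.w : Matrix.SpecialLinearGroup (Fin 2) F) ≠ 1 := by
    rw [Ne, PSL2Proj52.π_eq_one, not_or]
    constructor <;> intro h <;>
      have := congrArg (fun B : Matrix.SpecialLinearGroup (Fin 2) F => B.1 1 0) h <;>
      simp [PSL2Elements.w, PSL2Elements.mk2] at this
  have ht2 : orderOf t = 2 := by
    rw [ht, MulEquiv.orderOf_eq]
    refine orderOf_eq_prime ?_ hw1
    rw [← map_pow, (PSL2Elements.sq_eq_neg_one_iff _ h2).2 htr, PSL2Proj52.π_neg, map_one]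
  obtain ⟨g, hg⟩ := isConj_iff.1 (hall t ht2).symm
  have hcardt : Nat.card (Subgroup.centralizer ({t} : Set G)) = Nat.card C := by
    rw [← hg, PSL2Elements.centralizer_conj]
    exact (Nat.card_congr ((Subgroup.centralizer ({z} : Set G)).equivMapOfInjective
      (MulAut.conj g).toMonoidHom (MulAut.conj g).injective).toEquiv).symm
  have hcardw : Nat.card (Subgroup.centralizer
      ({PSL2Proj52.π (PSL2Elements.w : Matrix.SpecialLinearGroup (Fin 2) F)} :
        Set (Matrix.ProjectiveSpecialLinearGroup (Fin 2) F))) =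
      Nat.card (Subgroup.centralizer ({t} : Set G)) := by
    refine (Nat.card_congr (e.toEquiv.subtypeEquiv fun x => ?_)).symm
    rw [Subgroup.mem_centralizer_singleton_iff, Subgroup.mem_centralizer_singleton_iff, ht]
    change _ ↔ e x * _ = _ * e x
    constructor
    · intro h; simpa using congrArg e h
    · intro h; exact e.injective (by simpa using h)
  rw [hcardt, hCS, card_centralizer_tr_zero h2 htr] at hcardw
  obtain ⟨m, hm⟩ := IsPGroup.iff_card.1 S.isPGroup'
  rw [hm] at hcardw
  obtain ⟨p, n, hp, hn, hq⟩ := (isPrimePow_nat_iff _).1 (FiniteField.isPrimePow_card F)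
  rw [← Nat.card_eq_fintype_card] at hq
  have hp2 : p ≠ 2 := by
    rintro rfl
    rw [← hq, Nat.odd_pow_iff (by omega)] at hodd
    exact absurd hodd (by decide)
  have h4 : PSL2Elements.tr (PSL2Elements.w : Matrix.SpecialLinearGroup (Fin 2) F) ^ 2 ≠ 4 :=
    PSL2Elements.tr_w_ne h2
  have hq1 : 1 < Nat.card F := PSLCard.one_lt_card F
  rw [← hq]
  refine shape_of_two_pow (m := m) hp hp2 hn ?_
  rcases (PSL2Elements.centralizer_semisimple h4).2 with ⟨-, h⟩ | ⟨-, h⟩ <;> rw [hcardw, ← hq] at h
  · exact Or.inl h.symm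
  · exact Or.inr h.symm

end Cfsg.Agent.SelfCent54
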