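import Mathlib
import Cfsg.Prelude.Def_Solvable
import Cfsg.Agent.Lib.HallCore

/-!
# Groups with a self-centralizing element of prime order
-/

namespace Cfsg.Agent.SelfCentPrime79

open scoped Classical commutatorElement Pointwise

variable {G : Type*} [Group G] [Finite G] {p : ℕ} {x : G}

/-- `x` has prime order `p` and generates its own centralizer. -/
structure SelfCent (p : ℕ) (x : G) : Prop where
  prime : p.Prime
  order : orderOf x = p
  cent : Subgroup.centralizer ({x} : Set G) = Subgroup.zpowers x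

namespace SelfCent

variable (h : SelfCent p x)
include h

theorem card_zpowers : Nat.card (Subgroup.zpowers x) = p := by
  rw [Nat.card_zpowers, h.order]

theorem ne_one : x ≠ 1 := by
  intro h1; have := h.order; rw [h1, orderOf_one] at this; exact h.prime.one_lt.ne this

theorem exists_sylow : ∃ P : Sylow p G, (P : Subgroup G) = Subgroup.zpowers x := by
  haveI := Fact.mk h.prime
  obtain ⟨Q, hQ⟩ := (IsPGroup.of_card (p := p) (n := 1) (by rw [h.card_zpowers, pow_one]) :
    IsPGroup p (Subgroup.zpowers x)).exists_le_sylow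
  refine ⟨Q, le_antisymm ?_ hQ⟩
  haveI : Nontrivial (Q : Subgroup G) :=
    ⟨⟨⟨x, hQ (Subgroup.mem_zpowers x)⟩, 1, fun e => h.ne_one (congrArg Subtype.val e)⟩⟩
  haveI := Q.isPGroup'.center_nontrivial
  obtain ⟨z, hz⟩ := exists_ne (1 : Subgroup.center (Q : Subgroup G))
  have hzc : ∀ q ∈ (Q : Subgroup G), q * ((z : (Q : Subgroup G)) : G) = (z : (Q : Subgroup G)) * q :=
    fun q hq => congrArg Subtype.val (Subgroup.mem_center_iff.1 z.2 ⟨q, hq⟩)
  set w : G := ((z : (Q : Subgroup G)) : G) with hw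
  have hwx : w ∈ Subgroup.zpowers x := by
    rw [← h.cent, Subgroup.mem_centralizer_singleton_iff]
    exact (hzc x (hQ (Subgroup.mem_zpowers x))).symm
  have hwne : w ≠ 1 := fun e => hz (Subtype.ext (Subtype.ext e))
  have hxw : x ∈ Subgroup.zpowers w := by
    have hc : Nat.card (Subgroup.zpowers x) = p := h.card_zpowers
    have : Subgroup.zpowers w = Subgroup.zpowers x := by
      refine Subgroup.eq_of_le_of_card_ge (Subgroup.zpowers_le.2 hwx) ?_
      have hd : orderOf w ∣ p := by
        rw [← hc]; rw [← Nat.card_zpowers]; exact Subgroup.card_dvd_of_le (Subgroup.zpowers_le.2 hwx)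
      rcases (Nat.dvd_prime h.prime).1 hd with e | e
      · exact absurd (orderOf_eq_one_iff.1 e) hwne
      · rw [hc, Nat.card_zpowers, e]
    rw [this]; exact Subgroup.mem_zpowers x
  intro q hq
  rw [← h.cent, Subgroup.mem_centralizer_singleton_iff]
  obtain ⟨k, rfl⟩ := hxw
  exact ((show Commute q w from hzc q hq).zpow_right k).eq

theorem not_sq_dvd : ¬ p ^ 2 ∣ Nat.card G := by
  haveI := Fact.mk h.prime
  obtain ⟨P, hP⟩ := h.exists_sylow
  intro hd
  have h2 : p * p ∣ p * (P : Subgroup G).index := by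
    rw [← sq]
    conv_rhs => arg 1; rw [← h.card_zpowers, ← hP]
    rw [Subgroup.card_mul_index]; exact hd
  exact P.not_dvd_index ((Nat.mul_dvd_mul_iff_left h.prime.pos).1 h2)

theorem eq_conj_zpowers {H : Subgroup G} (hH : Nat.card H = p) :
    ∃ g : G, H = (Subgroup.zpowers x).map (MulAut.conj g).toMonoidHom := by
  haveI := Fact.mk h.prime
  obtain ⟨P, hP⟩ := h.exists_sylow
  obtain ⟨Q, hQ⟩ := (IsPGroup.of_card (p := p) (n := 1) (by rw [hH, pow_one]) :
    IsPGroup p H).exists_le_sylow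
  obtain ⟨g, rfl⟩ := MulAction.exists_smul_eq G P Q
  have hQ' : ((g • P : Sylow p G) : Subgroup G)
      = (Subgroup.zpowers x).map (MulAut.conj g).toMonoidHom := by
    rw [← hP]; exact Sylow.coe_subgroup_smul
  refine ⟨g, Subgroup.eq_of_le_of_card_ge (hQ' ▸ hQ) ?_⟩
  rw [hH, Subgroup.card_map_of_injective (MulAut.conj g).injective, h.card_zpowers]

theorem conj (g : G) : SelfCent p (g * x * g⁻¹) := by
  refine ⟨h.prime, ?_, ?_⟩
  · rw [← h.order]; exact (MulAut.conj g).orderOf_eq x
  · ext y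
    rw [Subgroup.mem_centralizer_singleton_iff]
    have e1 : y * (g * x * g⁻¹) = g * x * g⁻¹ * y ↔ g⁻¹ * y * g ∈ Subgroup.zpowers x := by
      rw [← h.cent, Subgroup.mem_centralizer_singleton_iff]
      constructor
      · intro e
        calc g⁻¹ * y * g * x = g⁻¹ * (y * (g * x * g⁻¹)) * g := by group
        _ = g⁻¹ * (g * x * g⁻¹ * y) * g := by rw [e]
        _ = _ := by group
      · intro e
        calc y * (g * x * g⁻¹) = g * (g⁻¹ * y * g * x) * g⁻¹ := by group
        _ = g * (x * (g⁻¹ * y * g)) * g⁻¹ := by rw [e]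
        _ = _ := by group
    rw [e1]
    constructor
    · rintro ⟨k, hk⟩
      exact ⟨k, by simp only at hk ⊢; rw [conj_zpow, hk]; group⟩
    · rintro ⟨k, rfl⟩
      exact ⟨k, by simp only [conj_zpow]; group⟩

theorem selfCent_of_orderOf {y : G} (hy : orderOf y = p) : SelfCent p y := by
  obtain ⟨g, hg⟩ := h.eq_conj_zpowers (H := Subgroup.zpowers y) (by rw [Nat.card_zpowers, hy])
  refine ⟨h.prime, hy, ?_⟩
  have hc := (h.conj g).cent
  rw [MonoidHom.map_zpowers] at hg
  change Subgroup.zpowers y = Subgroup.zpowers (g * x * g⁻¹) at hg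
  refine le_antisymm (fun z hz => ?_) ?_
  · rw [hg, ← hc, Subgroup.mem_centralizer_singleton_iff]
    obtain ⟨k, hk⟩ := (hg ▸ Subgroup.mem_zpowers (g * x * g⁻¹) :
      g * x * g⁻¹ ∈ Subgroup.zpowers y)
    rw [← hk]
    exact ((show Commute z y from Subgroup.mem_centralizer_singleton_iff.1 hz).zpow_right k).eq
  · rw [Subgroup.zpowers_le, Subgroup.mem_centralizer_singleton_iff]

theorem card_subgroups :
    Nat.card {H : Subgroup G // Nat.card H = p}
      = (Subgroup.normalizer ((Subgroup.zpowers x : Subgroup G) : Set G)).index := by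
  haveI := Fact.mk h.prime
  obtain ⟨P, hP⟩ := h.exists_sylow
  rw [← hP]
  refine Eq.trans ?_ (Sylow.card_eq_index_normalizer P)
  refine (Nat.card_congr (Equiv.ofBijective (fun Q : Sylow p G =>
    (⟨(Q : Subgroup G), ?_⟩ : {H : Subgroup G // Nat.card H = p})) ⟨?_, ?_⟩)).symm
  · obtain ⟨g, rfl⟩ := MulAction.exists_smul_eq G P Q
    rw [Sylow.coe_subgroup_smul, hP]
    exact (Subgroup.card_map_of_injective (MulAut.conj g).injective).trans h.card_zpowers
  · intro Q R e; exact Sylow.ext (congrArg Subtype.val e)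
  · rintro ⟨H, hH⟩
    obtain ⟨g, rfl⟩ := h.eq_conj_zpowers hH
    exact ⟨g • P, Subtype.ext ((Sylow.coe_subgroup_smul (g := g) (P := P)).trans
      (congrArg (fun K : Subgroup G => MulAut.conj g • K) hP))⟩

theorem card_orderOf :
    Nat.card {g : G // orderOf g = p}
      = Nat.card {H : Subgroup G // Nat.card H = p} * (p - 1) := by
  haveI := Fintype.ofFinite G
  haveI : Fintype {H : Subgroup G // Nat.card H = p} := Fintype.ofFinite _
  let f : {g : G // orderOf g = p} → {H : Subgroup G // Nat.card H = p} :=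
    fun g => ⟨Subgroup.zpowers (g : G), by rw [Nat.card_zpowers, g.2]⟩
  rw [← Nat.card_congr (Equiv.sigmaFiberEquiv f), Nat.card_sigma,
    Finset.sum_congr rfl (fun H _ => (?_ : Nat.card {g // f g = H} = p - 1)),
    Finset.sum_const, Finset.card_univ, Nat.card_eq_fintype_card
      (α := {H : Subgroup G // Nat.card H = p}), smul_eq_mul]
  obtain ⟨H, hH⟩ := H
  let e : {g // f g = ⟨H, hH⟩} ≃ {g : H // g ≠ 1} :=
    { toFun := fun g => ⟨⟨(g.1 : G), by
          have h0 : Subgroup.zpowers (g.1 : G) = H := congrArg Subtype.val g.2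
          exact h0.le (Subgroup.mem_zpowers _)⟩, fun e => by
          have h1 : orderOf (g.1 : G) = p := g.1.2
          rw [show (g.1 : G) = 1 from congrArg Subtype.val e, orderOf_one] at h1
          exact h.prime.one_lt.ne h1⟩
      invFun := fun g => ⟨⟨(g.1 : G), by
          rw [Subgroup.orderOf_coe]
          rcases (Nat.dvd_prime h.prime).1 (hH ▸ orderOf_dvd_natCard g.1) with e | e
          · exact absurd (orderOf_eq_one_iff.1 e) g.2
          · exact e⟩, by
          refine Subtype.ext (Subgroup.eq_of_le_of_card_ge (Subgroup.zpowers_le.2 g.1.2) ?_)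
          refine le_of_le_of_eq hH.le ?_
          refine Eq.trans ?_ (Nat.card_zpowers (g.1 : G)).symm
          rw [Subgroup.orderOf_coe]
          rcases (Nat.dvd_prime h.prime).1 (hH ▸ orderOf_dvd_natCard g.1) with e | e
          · exact absurd (orderOf_eq_one_iff.1 e) g.2
          · exact e.symm⟩
      left_inv := fun g => rfl
      right_inv := fun g => rfl }
  haveI := Fintype.ofFinite H
  rw [Nat.card_congr e, Nat.card_eq_fintype_card, Fintype.card_subtype_compl,
    Fintype.card_subtype_eq, ← Nat.card_eq_fintype_card, hH]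

theorem card_classes {t : ℕ}
    (ht : Nat.card {C : ConjClasses G // ∃ g ∈ C.carrier, orderOf g = p} = t) :
    Nat.card (Subgroup.normalizer ((Subgroup.zpowers x : Subgroup G) : Set G)) * t
      = p * (p - 1) := by
  haveI := Fintype.ofFinite G
  set T := {C : ConjClasses G // ∃ g ∈ C.carrier, orderOf g = p}
  haveI : Fintype T := Fintype.ofFinite _
  let f : {g : G // orderOf g = p} → T :=
    fun g => ⟨ConjClasses.mk (g : G), g, ConjClasses.mem_carrier_mk, g.2⟩
  have key : Nat.card {g : G // orderOf g = p} * p = t * Nat.card G := by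
    rw [← Nat.card_congr (Equiv.sigmaFiberEquiv f), Nat.card_sigma, Finset.sum_mul,
      Finset.sum_congr rfl (fun C _ => (?_ : Nat.card {g // f g = C} * p = Nat.card G)),
      Finset.sum_const, Finset.card_univ, ← ht, Nat.card_eq_fintype_card (α := T), smul_eq_mul]
    obtain ⟨C, y, hy, hyo⟩ := C
    have hC : ConjClasses.mk y = C := ConjClasses.mem_carrier_iff_mk_eq.1 hy
    subst hC
    let e : {g // f g = ⟨ConjClasses.mk y, y, hy, hyo⟩} ≃ MulAction.orbit (ConjAct G) y :=
      { toFun := fun g => ⟨(g.1 : G), ConjAct.mem_orbit_conjAct.2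
          (ConjClasses.mk_eq_mk_iff_isConj.1 (congrArg Subtype.val g.2))⟩
        invFun := fun g => ⟨⟨(g : G), by
            obtain ⟨c, hc⟩ := isConj_iff.1 (ConjAct.mem_orbit_conjAct.1 g.2).symm
            rw [← hc]; rw [← hyo]; exact (MulAut.conj c).orderOf_eq y⟩,
          Subtype.ext (ConjClasses.mk_eq_mk_iff_isConj.2 (ConjAct.mem_orbit_conjAct.1 g.2))⟩
        left_inv := fun g => rfl
        right_inv := fun g => rfl }
    rw [Nat.card_congr e]
    have h2 := MulAction.index_stabilizer (ConjAct G) y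
    rw [← Nat.card_coe_set_eq] at h2
    rw [← h2]
    have h3 : Nat.card (MulAction.stabilizer (ConjAct G) y) = p := by
      have : Nat.card (MulAction.stabilizer (ConjAct G) y)
          = Nat.card (Subgroup.centralizer ({y} : Set G)) := by
        refine Nat.card_congr (Equiv.subtypeEquiv ConjAct.ofConjAct.toEquiv fun z => ?_)
        simp [Subgroup.mem_centralizer_singleton_iff, MulAction.mem_stabilizer_iff,
          ConjAct.smul_def, mul_inv_eq_iff_eq_mul]
      rw [this, (h.selfCent_of_orderOf hyo).cent, (h.selfCent_of_orderOf hyo).card_zpowers]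
    conv_lhs => arg 2; rw [← h3]
    rw [Subgroup.index_mul_card]
    exact Nat.card_congr ConjAct.ofConjAct.toEquiv
  rw [h.card_orderOf, h.card_subgroups,
    ← (Subgroup.normalizer ((Subgroup.zpowers x : Subgroup G) : Set G)).index_mul_card] at key
  refine Nat.eq_of_mul_eq_mul_left (Nat.pos_of_ne_zero
    (Subgroup.normalizer ((Subgroup.zpowers x : Subgroup G) : Set G)).index_ne_zero_of_finite) ?_
  linarith [key, mul_comm p (p - 1)]

theorem t_le {t : ℕ}
    (ht : Nat.card {C : ConjClasses G // ∃ g ∈ C.carrier, orderOf g = p} = t) : t ≤ p - 1 := by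
  have h1 := h.card_classes ht
  have h2 : p ≤ Nat.card (Subgroup.normalizer ((Subgroup.zpowers x : Subgroup G) : Set G)) := by
    rw [← h.card_zpowers]
    exact Nat.card_le_card_of_injective _ (Subgroup.inclusion_injective Subgroup.le_normalizer)
  nlinarith [h.prime.two_le]

theorem normalizer_eq_iff {t : ℕ}
    (ht : Nat.card {C : ConjClasses G // ∃ g ∈ C.carrier, orderOf g = p} = t) :
    Subgroup.normalizer ((Subgroup.zpowers x : Subgroup G) : Set G) = Subgroup.zpowers x
      ↔ t = p - 1 := by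
  have h1 := h.card_classes ht
  constructor
  · intro e; rw [e, h.card_zpowers] at h1
    exact Nat.eq_of_mul_eq_mul_left h.prime.pos h1
  · intro e; subst e
    refine (Subgroup.eq_of_le_of_card_ge Subgroup.le_normalizer ?_).symm
    rw [h.card_zpowers]
    exact (Nat.eq_of_mul_eq_mul_right (by have := h.prime.two_le; omega) h1).le

theorem commutator_mem_of_normalizer {a b : G}
    (ha : a ∈ Subgroup.normalizer ((Subgroup.zpowers x : Subgroup G) : Set G))
    (hb : b ∈ Subgroup.normalizer ((Subgroup.zpowers x : Subgroup G) : Set G)) :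
    a * b * a⁻¹ * b⁻¹ ∈ Subgroup.zpowers x := by
  suffices key : ∀ a b : G,
      a ∈ Subgroup.normalizer ((Subgroup.zpowers x : Subgroup G) : Set G) →
      b ∈ Subgroup.normalizer ((Subgroup.zpowers x : Subgroup G) : Set G) →
      (a * b)⁻¹ * (b * a) ∈ Subgroup.zpowers x by
    have := key b⁻¹ a⁻¹ (inv_mem hb) (inv_mem ha)
    rwa [show (b⁻¹ * a⁻¹)⁻¹ * (a⁻¹ * b⁻¹) = a * b * a⁻¹ * b⁻¹ by group] at this
  clear ha hb a b
  intro a b ha hb
  obtain ⟨i, hi⟩ := (Subgroup.mem_normalizer_iff.1 ha x).1 (Subgroup.mem_zpowers x)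
  obtain ⟨j, hj⟩ := (Subgroup.mem_normalizer_iff.1 hb x).1 (Subgroup.mem_zpowers x)
  simp only at hi hj
  rw [← h.cent, Subgroup.mem_centralizer_singleton_iff]
  have hab : a * b * x * (a * b)⁻¹ = x ^ (j * i) := by
    calc a * b * x * (a * b)⁻¹ = a * (b * x * b⁻¹) * a⁻¹ := by group
    _ = (a * x * a⁻¹) ^ j := by rw [← hj, conj_zpow]
    _ = _ := by rw [← hi, ← zpow_mul, mul_comm j i]
  have hba : b * a * x * (b * a)⁻¹ = x ^ (j * i) := by
    calc b * a * x * (b * a)⁻¹ = b * (a * x * a⁻¹) * b⁻¹ := by group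
    _ = (b * x * b⁻¹) ^ i := by rw [← hi, conj_zpow]
    _ = _ := by rw [← hj, ← zpow_mul]
  calc (a * b)⁻¹ * (b * a) * x = (a * b)⁻¹ * (b * a * x * (b * a)⁻¹) * (b * a) := by group
  _ = (a * b)⁻¹ * (a * b * x * (a * b)⁻¹) * (b * a) := by rw [hba, hab]
  _ = _ := by group

theorem fpf {S : Subgroup G} [S.Normal] (hS : ¬ p ∣ Nat.card S) {k : G} (hk : k ∈ S)
    (hc : k * x = x * k) : k = 1 := by
  have hkx : k ∈ Subgroup.zpowers x := h.cent ▸ Subgroup.mem_centralizer_singleton_iff.2 hc
  have d1 : orderOf k ∣ p := by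
    rw [← h.card_zpowers, ← Nat.card_zpowers]
    exact Subgroup.card_dvd_of_le (Subgroup.zpowers_le.2 hkx)
  have d2 : orderOf k ∣ Nat.card S := by
    rw [← Nat.card_zpowers]; exact Subgroup.card_dvd_of_le (Subgroup.zpowers_le.2 hk)
  rcases (Nat.dvd_prime h.prime).1 d1 with e | e
  · exact orderOf_eq_one_iff.1 e
  · exact absurd (e ▸ d2) hS

theorem exists_comm_eq {S : Subgroup G} [hn : S.Normal] (hS : ¬ p ∣ Nat.card S) {s : G} (hs : s ∈ S) :
    ∃ k ∈ S, k * x * k⁻¹ * x⁻¹ = s := by
  let f : S → S := fun k => ⟨(k : G) * x * (k : G)⁻¹ * x⁻¹, by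
    have := mul_mem k.2 (hn.conj_mem _ (inv_mem k.2) x)
    rwa [show (k : G) * (x * (k : G)⁻¹ * x⁻¹) = k * x * (k : G)⁻¹ * x⁻¹ by group] at this⟩
  have hinj : Function.Injective f := by
    intro k l e
    have e1 : (k : G) * x * (k : G)⁻¹ * x⁻¹ = (l : G) * x * (l : G)⁻¹ * x⁻¹ := congrArg Subtype.val e
    have e2 : ((l : G)⁻¹ * k) * x = x * ((l : G)⁻¹ * k) := by
      calc ((l : G)⁻¹ * k) * x = (l : G)⁻¹ * ((k : G) * x * (k : G)⁻¹ * x⁻¹) * x * k := by group
      _ = (l : G)⁻¹ * ((l : G) * x * (l : G)⁻¹ * x⁻¹) * x * k := by rw [e1]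
      _ = _ := by group
    exact Subtype.ext (inv_mul_eq_one.1 (h.fpf hS (mul_mem (inv_mem l.2) k.2) e2)).symm
  obtain ⟨k, hk⟩ := (Finite.injective_iff_surjective.1 hinj) ⟨s, hs⟩
  exact ⟨k, k.2, congrArg Subtype.val hk⟩

theorem le_commutator {S : Subgroup G} [S.Normal] (hS : ¬ p ∣ Nat.card S) :
    S ≤ commutator G := by
  intro s hs
  obtain ⟨k, -, rfl⟩ := h.exists_comm_eq hS hs
  rw [← commutatorElement_def, commutator_def]
  exact Subgroup.commutator_mem_commutator (Subgroup.mem_top _) (Subgroup.mem_top _)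

theorem card_mod {S : Subgroup G} [hn : S.Normal] (hS : ¬ p ∣ Nat.card S) :
    Nat.card S % p = 1 := by
  haveI := Fact.mk h.prime
  let Q : Subgroup (ConjAct G) := (Subgroup.zpowers x).map ConjAct.toConjAct.toMonoidHom
  have hQ : IsPGroup p Q := (IsPGroup.of_card (p := p) (n := 1)
    (by rw [h.card_zpowers, pow_one]) : IsPGroup p (Subgroup.zpowers x)).map _
  letI : MulAction Q S :=
    { smul := fun q s => ⟨(q : ConjAct G) • (s : G), by
        rw [ConjAct.smul_def]; exact hn.conj_mem _ s.2 _⟩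
      one_smul := fun s => Subtype.ext (one_smul _ _)
      mul_smul := fun a b s => Subtype.ext (mul_smul (a : ConjAct G) b (s : G)) }
  have hfix : MulAction.fixedPoints Q S = {1} := by
    ext s
    simp only [Set.mem_singleton_iff, MulAction.mem_fixedPoints]
    constructor
    · intro hs
      have e : (ConjAct.toConjAct x) • (s : G) = s := congrArg Subtype.val
        (hs ⟨ConjAct.toConjAct x, ⟨x, Subgroup.mem_zpowers x, rfl⟩⟩)
      rw [ConjAct.smul_def] at e
      simp only [ConjAct.ofConjAct_toConjAct, mul_inv_eq_iff_eq_mul] at e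
      exact Subtype.ext (h.fpf hS s.2 e.symm)
    · rintro rfl q
      exact Subtype.ext (smul_one _)
  have h1 := hQ.card_modEq_card_fixedPoints S
  rw [hfix] at h1
  simpa [Nat.ModEq, Nat.mod_eq_of_lt h.prime.one_lt] using h1

theorem zpowers_le_of_dvd {S : Subgroup G} [hn : S.Normal] (hS : p ∣ Nat.card S) :
    Subgroup.zpowers x ≤ S := by
  haveI := Fact.mk h.prime
  obtain ⟨y, hy⟩ := exists_prime_orderOf_dvd_card' p hS
  obtain ⟨g, hg⟩ := h.eq_conj_zpowers (H := Subgroup.zpowers (y : G))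
    (by rw [Nat.card_zpowers, Subgroup.orderOf_coe, hy])
  rw [MonoidHom.map_zpowers] at hg
  have : g * x * g⁻¹ ∈ S := (Subgroup.zpowers_le.2 y.2) (hg ▸ Subgroup.mem_zpowers _)
  have := hn.conj_mem _ this g⁻¹
  rw [Subgroup.zpowers_le]
  simpa [mul_assoc] using this

theorem sup_normalizer_eq_top {S : Subgroup G} [hn : S.Normal] (hS : p ∣ Nat.card S) :
    S ⊔ Subgroup.normalizer ((Subgroup.zpowers x : Subgroup G) : Set G) = ⊤ := by
  haveI := Fact.mk h.prime
  obtain ⟨P, hP⟩ := h.exists_sylow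
  have hle : (P : Subgroup G) ≤ S := hP ▸ h.zpowers_le_of_dvd hS
  rw [sup_comm, ← hP]
  exact Sylow.normalizer_sup_eq_top' P hle

theorem commutator_le_sup {S : Subgroup G} [hn : S.Normal]
    (hS : S ⊔ Subgroup.normalizer ((Subgroup.zpowers x : Subgroup G) : Set G) = ⊤) :
    commutator G ≤ S ⊔ Subgroup.zpowers x := by
  rw [commutator_def, Subgroup.commutator_le]
  intro a _ b _
  have ha : a ∈ S ⊔ Subgroup.normalizer ((Subgroup.zpowers x : Subgroup G) : Set G) :=
    hS ▸ Subgroup.mem_top _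
  have hb : b ∈ S ⊔ Subgroup.normalizer ((Subgroup.zpowers x : Subgroup G) : Set G) :=
    hS ▸ Subgroup.mem_top _
  rw [Subgroup.mem_sup_of_normal_left] at ha hb
  obtain ⟨s, hs, m, hm, rfl⟩ := ha
  obtain ⟨r, hr, n, hn', rfl⟩ := hb
  let π := QuotientGroup.mk' S
  have key : ⁅s * m, r * n⁆ * (⁅m, n⁆)⁻¹ ∈ S := by
    rw [← QuotientGroup.ker_mk' S, MonoidHom.mem_ker]
    have e1 : QuotientGroup.mk' S s = 1 := (QuotientGroup.eq_one_iff s).2 hs
    have e2 : QuotientGroup.mk' S r = 1 := (QuotientGroup.eq_one_iff r).2 hr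
    rw [map_mul, map_inv, map_commutatorElement, map_commutatorElement, map_mul, map_mul, e1, e2,
      one_mul, one_mul, mul_inv_cancel]
  have h2 := h.commutator_mem_of_normalizer hm hn'
  rw [← commutatorElement_def] at h2
  have := mul_mem (Subgroup.mem_sup_left (T := Subgroup.zpowers x) key)
    (Subgroup.mem_sup_right (S := S) h2)
  rwa [inv_mul_cancel_right] at this

theorem commutator_le_of_dvd {S : Subgroup G} [S.Normal] (hS : p ∣ Nat.card S) :
    commutator G ≤ S :=
  (h.commutator_le_sup (h.sup_normalizer_eq_top hS)).trans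
    (sup_le le_rfl (h.zpowers_le_of_dvd hS))

theorem inf_normalizer_eq_bot {S : Subgroup G} [hn : S.Normal] (hS : ¬ p ∣ Nat.card S) :
    S ⊓ Subgroup.normalizer ((Subgroup.zpowers x : Subgroup G) : Set G) = ⊥ := by
  rw [eq_bot_iff]
  rintro s ⟨hs, hs'⟩
  rw [Subgroup.mem_bot]
  have h1 : s * x * s⁻¹ * x⁻¹ ∈ Subgroup.zpowers x :=
    mul_mem ((Subgroup.mem_normalizer_iff.1 hs' x).1 (Subgroup.mem_zpowers x))
      (inv_mem (Subgroup.mem_zpowers x))
  have h2 : s * x * s⁻¹ * x⁻¹ ∈ S := by
    have := mul_mem hs (hn.conj_mem _ (inv_mem hs) x)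
    rwa [show s * (x * s⁻¹ * x⁻¹) = s * x * s⁻¹ * x⁻¹ by group] at this
  have hxS : ¬ Subgroup.zpowers x ≤ S := fun hle =>
    hS (h.card_zpowers ▸ Subgroup.card_dvd_of_le hle)
  have h3 : s * x * s⁻¹ * x⁻¹ = 1 := by
    by_contra hne
    apply hxS
    have hd : Subgroup.zpowers (s * x * s⁻¹ * x⁻¹) = Subgroup.zpowers x := by
      refine Subgroup.eq_of_le_of_card_ge (Subgroup.zpowers_le.2 h1) ?_
      rcases (Nat.dvd_prime h.prime).1 (h.card_zpowers ▸ Subgroup.card_dvd_of_le
        (Subgroup.zpowers_le.2 h1)) with e | e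
      · rw [Nat.card_zpowers, orderOf_eq_one_iff] at e; exact absurd e hne
      · rw [h.card_zpowers, e]
    rw [← hd, Subgroup.zpowers_le]; exact h2
  exact h.fpf hS hs (mul_inv_eq_iff_eq_mul.1 (mul_inv_eq_one.1 h3))

theorem card_sup_normalizer {S : Subgroup G} [hn : S.Normal] (hS : ¬ p ∣ Nat.card S) :
    Nat.card (S ⊔ Subgroup.normalizer ((Subgroup.zpowers x : Subgroup G) : Set G) : Subgroup G)
      = Nat.card S *
        Nat.card (Subgroup.normalizer ((Subgroup.zpowers x : Subgroup G) : Set G)) := by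
  rw [← Nat.card_prod]
  refine (Nat.card_congr (Equiv.ofBijective
    (fun a : S × (Subgroup.normalizer ((Subgroup.zpowers x : Subgroup G) : Set G)) =>
      (⟨(a.1 : G) * a.2, mul_mem (Subgroup.mem_sup_left a.1.2) (Subgroup.mem_sup_right a.2.2)⟩ :
        (S ⊔ Subgroup.normalizer ((Subgroup.zpowers x : Subgroup G) : Set G) : Subgroup G)))
      ⟨?_, ?_⟩)).symm
  · intro a b e
    have := Subgroup.mul_injective_of_disjoint
      (disjoint_iff.2 (h.inf_normalizer_eq_bot hS)) (congrArg Subtype.val e)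
    exact this
  · rintro ⟨y, hy⟩
    obtain ⟨s, hs, m, hm, rfl⟩ := Subgroup.mem_sup_of_normal_left.1 hy
    exact ⟨⟨⟨s, hs⟩, ⟨m, hm⟩⟩, rfl⟩

theorem card_dvd_index {S : Subgroup G} [hn : S.Normal] (hS : ¬ p ∣ Nat.card S) :
    Nat.card S ∣ (Subgroup.normalizer ((Subgroup.zpowers x : Subgroup G) : Set G)).index := by
  set N := Subgroup.normalizer ((Subgroup.zpowers x : Subgroup G) : Set G)
  have h1 := Subgroup.card_subgroup_dvd_card (S ⊔ N)
  rw [h.card_sup_normalizer hS, ← N.card_mul_index, mul_comm] at h1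
  exact (Nat.mul_dvd_mul_iff_left Nat.card_pos).1 h1

theorem quotient {S : Subgroup G} [hn : S.Normal] (hS : ¬ p ∣ Nat.card S) :
    SelfCent p (QuotientGroup.mk x : G ⧸ S) := by
  have hxS : x ∉ S := fun hx =>
    hS (h.card_zpowers ▸ Subgroup.card_dvd_of_le (Subgroup.zpowers_le.2 hx))
  refine ⟨h.prime, ?_, le_antisymm ?_ ?_⟩
  · refine (((Nat.dvd_prime h.prime).1 ?_).resolve_left ?_)
    · have := orderOf_map_dvd (QuotientGroup.mk' S) x
      rwa [h.order] at this
    · intro e
      exact hxS ((QuotientGroup.eq_one_iff x).1 (orderOf_eq_one_iff.1 e))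
  · intro y hy
    induction y using QuotientGroup.induction_on with
    | H g =>
      rw [Subgroup.mem_centralizer_singleton_iff] at hy
      have hs : g * x * g⁻¹ * x⁻¹ ∈ S := by
        rw [← QuotientGroup.eq_one_iff]
        simp only [QuotientGroup.mk_mul, QuotientGroup.mk_inv, hy]
        group
      obtain ⟨k, hk, e⟩ := h.exists_comm_eq hS hs
      have e2 : (k⁻¹ * g) * x = x * (k⁻¹ * g) := by
        calc (k⁻¹ * g) * x = k⁻¹ * (g * x * g⁻¹ * x⁻¹) * x * g := by group
        _ = k⁻¹ * (k * x * k⁻¹ * x⁻¹) * x * g := by rw [e]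
        _ = _ := by group
      obtain ⟨i, hi⟩ := (h.cent ▸ Subgroup.mem_centralizer_singleton_iff.2 e2 :
        k⁻¹ * g ∈ Subgroup.zpowers x)
      refine ⟨i, ?_⟩
      simp only at hi ⊢
      rw [← QuotientGroup.mk_zpow, hi, QuotientGroup.mk_mul, QuotientGroup.mk_inv,
        (QuotientGroup.eq_one_iff k).2 hk, inv_one, one_mul]
  · rw [Subgroup.zpowers_le, Subgroup.mem_centralizer_singleton_iff]

theorem normalizer_le_imp {S : Subgroup G} [S.Normal]
    (hN : Subgroup.normalizer ((Subgroup.zpowers x : Subgroup G) : Set G) = Subgroup.zpowers x) :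
    (commutator G).index = p ∧ ¬ p ∣ Nat.card (commutator G) := by
  haveI := Fact.mk h.prime
  obtain ⟨P, hP⟩ := h.exists_sylow
  have hcen : Subgroup.normalizer ((P : Subgroup G) : Set G) ≤
      Subgroup.centralizer ((P : Subgroup G) : Set G) := by
    rw [hP, hN]
    exact Subgroup.le_centralizer _
  set K := (MonoidHom.transferSylow P hcen).ker
  have hcompl := MonoidHom.ker_transferSylow_isComplement' P hcen
  have hK : ¬ p ∣ Nat.card K := MonoidHom.not_dvd_card_ker_transferSylow P hcen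
  have hKi : K.index = p := by
    rw [hcompl.symm.index_eq_card, hP, h.card_zpowers]
  have e : commutator G = K := by
    refine le_antisymm ?_ (h.le_commutator hK)
    haveI : IsMulCommutative (P : Subgroup G) := by
      rw [hP]; infer_instance
    rw [commutator_def, Subgroup.commutator_le]
    intro a _ b _
    rw [MonoidHom.mem_ker, map_commutatorElement, commutatorElement_eq_one_iff_mul_comm]
    exact mul_comm' _ _
  exact ⟨by rw [e]; exact hKi, by rw [e]; exact hK⟩

theorem dvd_commutator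
    (hN : Subgroup.normalizer ((Subgroup.zpowers x : Subgroup G) : Set G) ≠ Subgroup.zpowers x) :
    p ∣ Nat.card (commutator G) := by
  obtain ⟨a, ha, hax⟩ : ∃ a ∈ Subgroup.normalizer ((Subgroup.zpowers x : Subgroup G) : Set G),
      a ∉ Subgroup.zpowers x :=
    SetLike.exists_of_lt (lt_of_le_of_ne Subgroup.le_normalizer (Ne.symm hN))
  have h1 : a * x * a⁻¹ * x⁻¹ ∈ Subgroup.zpowers x :=
    mul_mem ((Subgroup.mem_normalizer_iff.1 ha x).1 (Subgroup.mem_zpowers x))
      (inv_mem (Subgroup.mem_zpowers x))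
  have h2 : a * x * a⁻¹ * x⁻¹ ∈ commutator G := by
    rw [← commutatorElement_def, commutator_def]
    exact Subgroup.commutator_mem_commutator (Subgroup.mem_top _) (Subgroup.mem_top _)
  have hne : a * x * a⁻¹ * x⁻¹ ≠ 1 := fun e => hax
    (h.cent ▸ Subgroup.mem_centralizer_singleton_iff.2
      (mul_inv_eq_iff_eq_mul.1 (mul_inv_eq_one.1 e)))
  have ho : orderOf (a * x * a⁻¹ * x⁻¹) = p := by
    refine ((Nat.dvd_prime h.prime).1 ?_).resolve_left fun e => hne (orderOf_eq_one_iff.1 e)
    rw [← h.card_zpowers, ← Nat.card_zpowers]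
    exact Subgroup.card_dvd_of_le (Subgroup.zpowers_le.2 h1)
  rw [← ho, ← Nat.card_zpowers]
  exact Subgroup.card_dvd_of_le (Subgroup.zpowers_le.2 h2)

end SelfCent

end Cfsg.Agent.SelfCentPrime79
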