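import Mathlib
import Cfsg.Agent.Lib.GaloisDescentGL
import Cfsg.Agent.Lib.AutPSLBasic
import Cfsg.Agent.Lib.SesquiReflect

/-!
Semilinear maps centralising the products of two reflections (or the transvections) of a form are scalars;
similitudes of a three-dimensional symmetric form that never send an anisotropic vector to an orthogonal one
are scalars.
-/

set_option autoImplicit false

namespace Cfsg.Agent.SesquiRigid

open Matrix
open Cfsg.Agent.SesquiReflect
open scoped MatrixGroups

variable {n : ℕ} {F : Type*} [Field F] {σ : F ≃+* F} {P : Matrix (Fin n) (Fin n) F}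

/-- The semilinear map with matrix `g` and twist `τ`. -/
def psi (g : GL (Fin n) F) (τ : F ≃+* F) (v : Fin n → F) : Fin n → F := (g : Matrix (Fin n) (Fin n) F) *ᵥ (τ ∘ v)

variable {g : GL (Fin n) F} {τ : F ≃+* F}

lemma psi_add (u v : Fin n → F) : psi g τ (u + v) = psi g τ u + psi g τ v := by
  have : τ ∘ (u + v) = τ ∘ u + τ ∘ v := funext fun i => map_add τ (u i) (v i)
  rw [psi, this, mulVec_add]; rfl

lemma psi_smul (x : F) (v : Fin n → F) : psi g τ (x • v) = τ x • psi g τ v := by
  have : τ ∘ (x • v) = τ x • (τ ∘ v) := funext fun i => map_mul τ x (v i)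
  rw [psi, this, mulVec_smul]; rfl

lemma gl_mulVec_eq_zero {g : GL (Fin n) F} {v : Fin n → F} (h : (g : Matrix (Fin n) (Fin n) F) *ᵥ v = 0) : v = 0 := by
  have := congrArg (fun w => ((g⁻¹ : GL (Fin n) F) : Matrix (Fin n) (Fin n) F) *ᵥ w) h
  simpa [mulVec_mulVec] using this

lemma psi_ne_zero {v : Fin n → F} (hv : v ≠ 0) : psi g τ v ≠ 0 := fun e =>
  hv (funext fun i => τ.injective (by simpa using congrFun (gl_mulVec_eq_zero e) i))

lemma mem_center_of_smul {g : GL (Fin n) F} {l : F} (hl : l ≠ 0)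
    (h : ∀ v, (g : Matrix (Fin n) (Fin n) F) *ᵥ v = l • v) : g ∈ Subgroup.center (GL (Fin n) F) := by
  have hg : g = Matrix.GeneralLinearGroup.scalar (Fin n) (Units.mk0 l hl) := gl_ext fun v => by
    rw [h, Matrix.GeneralLinearGroup.coe_scalar, scalar_apply]
    funext i
    simp [mulVec_diagonal]
  rw [hg, Subgroup.mem_center_iff]
  intro g'
  apply Units.ext
  show (g' : Matrix (Fin n) (Fin n) F) * _ = _ * (g' : Matrix (Fin n) (Fin n) F)
  rw [Matrix.GeneralLinearGroup.coe_scalar]
  exact (Matrix.scalar_commute (n := Fin n) _ (Commute.all _) _).symm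

lemma eq_one_of_all_lines (hn : 2 ≤ n) (hfix : ∀ v, ∃ l : F, psi g τ v = l • v) :
    g ∈ Subgroup.center (GL (Fin n) F) ∧ τ = 1 := by
  haveI : Nontrivial (Fin n) := Fin.nontrivial_iff_two_le.2 hn
  choose l hl using hfix
  let e : Fin n → Fin n → F := fun i => Pi.single i 1
  have key : ∀ i j, i ≠ j → ∀ x : F, l (e i) = l (e i + x • e j) ∧ τ x * l (e j) = l (e i + x • e j) * x := by
    intro i j hij x
    have h := hl (e i + x • e j)
    rw [psi_add, psi_smul, hl, hl] at h
    constructor
    · have := congrFun h i; simpa [e, hij] using this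
    · have := congrFun h j; simpa [e, hij, hij.symm] using this
  obtain ⟨i0, j0, h0⟩ := exists_pair_ne (Fin n)
  set c := l (e i0) with hc
  have hall : ∀ j, l (e j) = c := fun j => by
    rcases eq_or_ne i0 j with rfl | hj
    · rfl
    · obtain ⟨h1, h2⟩ := key i0 j hj 1
      rw [map_one, one_mul, mul_one, ← h1] at h2
      exact h2
  have hc0 : c ≠ 0 := fun h => psi_ne_zero (g := g) (τ := τ) (v := e i0) (by simp [e]) (by rw [hl, ← hc, h, zero_smul])
  have hτ : τ = 1 := RingEquiv.ext fun x => by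
    obtain ⟨h1, h2⟩ := key i0 j0 h0 x
    rw [← h1, hall, ← hc, mul_comm c] at h2
    exact mul_right_cancel₀ hc0 h2
  refine ⟨mem_center_of_smul hc0 fun v => ?_, hτ⟩
  have hg : ∀ j, (g : Matrix (Fin n) (Fin n) F) *ᵥ e j = c • e j := fun j => by
    have := hl (e j); rw [psi, hτ, hall] at this; exact this
  have hM : (g : Matrix (Fin n) (Fin n) F) = c • 1 := Matrix.ext_of_mulVec_single fun j => by
    rw [smul_mulVec, one_mulVec]; exact hg j
  rw [hM, smul_mulVec, one_mulVec]

/-- A semilinear map fixing all lines of anisotropic vectors. -/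
theorem eq_one_of_fix (H : Herm σ P) (h2 : (2 : F) ≠ 0) (hn : 3 ≤ n)
    (hfix : ∀ a, B σ P a a ≠ 0 → ∃ l : F, psi g τ a = l • a) :
    g ∈ Subgroup.center (GL (Fin n) F) ∧ τ = 1 := by
  obtain ⟨a, -, ha⟩ := exists_aniso H h2 ![] (fun i => i.elim0) (fun i => i.elim0) (by omega : (0 : ℕ) < n)
  obtain ⟨la, hla⟩ := hfix a ha
  have hla0 : la ≠ 0 := fun h => psi_ne_zero (g := g) (τ := τ) (v := a)
    (fun e => ha (by rw [e, B_zero_right])) (by rw [hla, h, zero_smul])
  have key : ∀ b, B σ P a b = 0 → B σ P b b ≠ 0 → ∀ x : F, ∀ lb, psi g τ b = lb • b → τ x * lb = la * x := by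
    intro b hab hb x lb hlb
    have hba := H.symm_zero hab
    by_cases hz : B σ P (a + x • b) (a + x • b) = 0
    · obtain ⟨d, had, hbd, hdd⟩ := exists_third H h2 hn hab ha hb
      obtain ⟨ld, hld⟩ := hfix d hdd
      have hs : B σ P (a + x • b + d) (a + x • b + d) ≠ 0 := by
        have : B σ P (a + x • b + d) (a + x • b + d) = B σ P (a + x • b) (a + x • b) + B σ P d d := by
          simp [B_add_left, B_add_right, B_smul_left, B_smul_right, had, hbd, H.symm_zero had, H.symm_zero hbd]
        rw [this, hz, zero_add]; exact hdd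
      obtain ⟨l, hl⟩ := hfix _ hs
      rw [psi_add, psi_add, psi_smul, hla, hlb, hld] at hl
      have e1 := congrArg (B σ P a) hl
      have e2 := congrArg (B σ P b) hl
      simp [B_add_right, B_smul_right, hab, had, hba, hbd] at e1 e2
      have hl' : la = l := by simpa [ha] using e1
      rw [← hl'] at e2
      exact mul_right_cancel₀ hb (by linear_combination e2)
    · obtain ⟨l, hl⟩ := hfix _ hz
      rw [psi_add, psi_smul, hla, hlb] at hl
      have e1 := congrArg (B σ P a) hl
      have e2 := congrArg (B σ P b) hl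
      simp [B_add_right, B_smul_right, hab, hba] at e1 e2
      have hl' : la = l := by simpa [ha] using e1
      rw [← hl'] at e2
      exact mul_right_cancel₀ hb (by linear_combination e2)
  obtain ⟨b, hab, hb⟩ := exists_second H h2 hn ha
  obtain ⟨lb, hlb⟩ := hfix b hb
  have hlbla : lb = la := by have := key b hab hb 1 lb hlb; simpa using this
  have hτ : τ = 1 := RingEquiv.ext fun x => by
    have := key b hab hb x lb hlb
    rw [hlbla, mul_comm la] at this
    exact mul_right_cancel₀ hla0 this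
  subst hτ
  refine ⟨mem_center_of_smul hla0 fun v => ?_, rfl⟩
  set u := v - (B σ P a v / B σ P a a) • a with hu
  have hau : B σ P a u = 0 := by rw [hu, B_sub_right, B_smul_right, div_mul_cancel₀ _ ha, sub_self]
  have hp1 : ∀ w, psi g (1 : F ≃+* F) w = (g : Matrix (Fin n) (Fin n) F) *ᵥ w := fun w => rfl
  suffices hgu : (g : Matrix (Fin n) (Fin n) F) *ᵥ u = la • u by
    rw [hp1] at hla
    have hv : v = u + (B σ P a v / B σ P a a) • a := by rw [hu]; abel
    rw [hv, mulVec_add, mulVec_smul, hla, hgu, smul_add, smul_comm]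
  rcases eq_or_ne u 0 with h0 | h0
  · rw [h0, mulVec_zero, smul_zero]
  by_cases huu : B σ P u u = 0
  · have hua := H.symm_zero hau
    have hs1 : B σ P (u + a) (u + a) ≠ 0 := by simpa [B_add_left, B_add_right, hau, hua, huu] using ha
    have hs2 : B σ P (u + (2 : F) • a) (u + (2 : F) • a) ≠ 0 := by
      simpa [B_add_left, B_add_right, B_smul_left, B_smul_right, hau, hua, huu, map_ofNat, h2] using ha
    obtain ⟨l1, hl1⟩ := hfix _ hs1
    obtain ⟨l2, hl2⟩ := hfix _ hs2
    rw [psi_add, hla, hp1] at hl1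
    rw [psi_add, psi_smul, hla, hp1, map_ofNat] at hl2
    have e1 := congrArg (B σ P a) hl1
    have e2 := congrArg (B σ P a) hl2
    simp [B_add_right, B_smul_right, hau] at e1 e2
    obtain ⟨z, hz, huz, -⟩ := exists_unit_pair H h2 ![a] (by
      intro i j hij; exact absurd (Subsingleton.elim i j) hij) (by intro i; fin_cases i; exact ha) h0
      (by intro i; fin_cases i; exact hau) huu (map_one σ)
    have hza : B σ P z a = 0 := H.symm_zero (hz 0)
    have hzu : B σ P z u = 1 := by rw [← H.symm, huz, map_one]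
    have f1 := congrArg (B σ P z) hl1
    have f2 := congrArg (B σ P z) hl2
    simp [B_add_right, B_smul_right, hza, hzu] at f1 f2
    have hl12 : l1 = l2 := f1.symm.trans f2
    have : l1 = la := mul_right_cancel₀ ha (by rw [← hl12] at e2; linear_combination e1 - e2)
    rw [this, smul_add] at hl1
    exact add_right_cancel hl1
  · obtain ⟨lu, hlu⟩ := hfix u huu
    have := key u hau huu 1 lu hlu
    rw [RingAut.one_apply, one_mul, mul_one] at this
    rw [this] at hlu
    exact hlu

/-- A semilinear map centralising all products of two reflections up to scalars. -/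
theorem eq_one_of_centralises (H : Herm σ P) (h2 : (2 : F) ≠ 0) (hn : 3 ≤ n)
    (hc : ∀ (a b : Fin n → F) (ha : B σ P a a ≠ 0) (hb : B σ P b b ≠ 0), ∃ c : F, ∀ v,
      psi g τ ((refl σ P a ha : Matrix (Fin n) (Fin n) F) *ᵥ ((refl σ P b hb : Matrix (Fin n) (Fin n) F) *ᵥ v)) =
        c • ((refl σ P a ha : Matrix (Fin n) (Fin n) F) *ᵥ ((refl σ P b hb : Matrix (Fin n) (Fin n) F) *ᵥ psi g τ v))) :
    g ∈ Subgroup.center (GL (Fin n) F) ∧ τ = 1 := by
  have nonorth : 4 ≤ n → ∀ (a z : Fin n → F) (ha : B σ P a a ≠ 0) (hz : B σ P z z ≠ 0), B σ P z a ≠ 0 → ∀ v,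
      psi g τ ((refl σ P a ha : Matrix (Fin n) (Fin n) F) *ᵥ ((refl σ P z hz : Matrix (Fin n) (Fin n) F) *ᵥ v)) =
        (refl σ P a ha : Matrix (Fin n) (Fin n) F) *ᵥ ((refl σ P z hz : Matrix (Fin n) (Fin n) F) *ᵥ psi g τ v) := by
    intro hn4 a z ha hz hza w
    obtain ⟨c, hcS⟩ := hc a z ha hz
    suffices c = 1 by rw [hcS, this, one_smul]
    have hfixS : ∀ v, B σ P a v = 0 → B σ P z v = 0 → psi g τ v =
        c • ((refl σ P a ha : Matrix (Fin n) (Fin n) F) *ᵥ ((refl σ P z hz : Matrix (Fin n) (Fin n) F) *ᵥ psi g τ v)) := by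
      intro v h1 h3
      rw [← hcS v, refl_orth hz h3, refl_orth ha h1]
    obtain ⟨v, hv, hv'⟩ := exists_orth (σ := σ) (P := P) ![a, z] (by omega)
    have hva : B σ P a v = 0 := hv' 0
    have hvz : B σ P z v = 0 := hv' 1
    by_contra hc1
    have hc0 : c ≠ 0 := fun e => psi_ne_zero hv (by rw [hfixS v hva hvz, e, zero_smul])
    have hspan : ∀ x, x = c • ((refl σ P a ha : Matrix (Fin n) (Fin n) F) *ᵥ
        ((refl σ P z hz : Matrix (Fin n) (Fin n) F) *ᵥ x)) → ∃ p q : F, x = p • a + q • z := by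
      intro x hx
      rw [refl_mulVec, refl_mulVec] at hx
      set k := 2 * B σ P z x / B σ P z z
      set m' := 2 * B σ P a (x - k • z) / B σ P a a
      refine ⟨-(c * m') / (1 - c), -(c * k) / (1 - c), ?_⟩
      have h1c : (1 : F) - c ≠ 0 := sub_ne_zero.2 (Ne.symm hc1)
      apply smul_right_injective _ h1c
      show (1 - c) • x = (1 - c) • ((-(c * m') / (1 - c)) • a + (-(c * k) / (1 - c)) • z)
      rw [smul_add, smul_smul, smul_smul, mul_div_cancel₀ _ h1c, mul_div_cancel₀ _ h1c]
      conv_lhs => rw [sub_smul, one_smul]; lhs; rw [hx]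
      module
    -- a second fixed vector
    obtain ⟨i, hi⟩ := Function.ne_iff.1 hv
    obtain ⟨v', hv1, hv2⟩ := exists_ker ![(σ ∘ a) ᵥ* P, (σ ∘ z) ᵥ* P, Pi.single i 1] (by omega)
    have hva' : B σ P a v' = 0 := by rw [B_row]; exact hv2 0
    have hvz' : B σ P z v' = 0 := by rw [B_row]; exact hv2 1
    have hvi' : v' i = 0 := by simpa using hv2 2
    have hindep : ∀ t : F, psi g τ v' ≠ t • psi g τ v := by
      intro t e
      obtain ⟨s, rfl⟩ := τ.surjective t
      rw [← psi_smul] at e
      have e' : v' = s • v := funext fun j => τ.injective (congrFun (sub_eq_zero.1 (gl_mulVec_eq_zero (g := g) (by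
        rw [mulVec_sub]; exact sub_eq_zero.2 e))) j)
      have := congrFun e' i
      rw [hvi', Pi.smul_apply, smul_eq_mul, eq_comm, mul_eq_zero] at this
      rcases this with hs | hs
      · rw [hs, zero_smul] at e'; exact hv1 e'
      · exact hi hs
    obtain ⟨p, q, hpq⟩ := hspan _ (hfixS v hva hvz)
    obtain ⟨p', q', hpq'⟩ := hspan _ (hfixS v' hva' hvz')
    by_cases hΔ : p * q' - p' * q = 0
    · by_cases hp : p = 0
      · by_cases hq : q = 0
        · exact psi_ne_zero hv (by rw [hpq, hp, hq, zero_smul, zero_smul, add_zero])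
        refine hindep (q' / q) ?_
        rw [hpq, hpq', smul_add, smul_smul, smul_smul, div_mul_cancel₀ _ hq]
        have : p' = q' / q * p := by
          rw [hp, zero_mul, zero_sub, neg_eq_zero, mul_eq_zero] at hΔ
          rw [hp, mul_zero]; exact hΔ.resolve_right hq
        rw [← this]
      · refine hindep (p' / p) ?_
        rw [hpq, hpq', smul_add, smul_smul, smul_smul, div_mul_cancel₀ _ hp]
        have : q' = p' / p * q := by field_simp; linear_combination hΔ
        rw [← this]
    · -- `a` is an eigenvector of the product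
      have ha' : a = (p * q' - p' * q)⁻¹ • (q' • psi g τ v - q • psi g τ v') := by
        rw [hpq, hpq', show q' • (p • a + q • z) - q • (p' • a + q' • z) = (p * q' - p' * q) • a by module,
          smul_smul, inv_mul_cancel₀ hΔ, one_smul]
      have hSa : a = c • ((refl σ P a ha : Matrix (Fin n) (Fin n) F) *ᵥ
          ((refl σ P z hz : Matrix (Fin n) (Fin n) F) *ᵥ a)) := by
        conv_lhs => rw [ha', hfixS v hva hvz, hfixS v' hva' hvz']
        conv_rhs => arg 2; arg 2; arg 2; rw [ha']
        simp only [mulVec_smul, mulVec_sub]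
        module
      rw [refl_mulVec hz a, mulVec_sub, mulVec_smul, refl_self, refl_mulVec] at hSa
      set k := 2 * B σ P z a / B σ P z z with hk
      have hk0 : k ≠ 0 := div_ne_zero (mul_ne_zero h2 hza) hz
      set m' := 2 * B σ P a z / B σ P a a
      have hza' : z = ((c * k)⁻¹ * (-1 - c + c * k * m')) • a := by
        rw [← smul_smul, eq_inv_smul_iff₀ (mul_ne_zero hc0 hk0)]
        linear_combination (norm := module) hSa
      refine hindep (1 : F) ?_ |>.elim
      -- everything lies on one line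
      exfalso
      rw [hza', smul_smul, ← add_smul] at hpq hpq'
      have hr0 : p + q * ((c * k)⁻¹ * (-1 - c + c * k * m')) ≠ 0 := fun e =>
        psi_ne_zero hv (by rw [hpq, e, zero_smul])
      exact hindep _ (by rw [hpq', hpq, smul_smul, div_mul_cancel₀ _ hr0] : psi g τ v' =
        ((p' + q' * ((c * k)⁻¹ * (-1 - c + c * k * m'))) / (p + q * ((c * k)⁻¹ * (-1 - c + c * k * m')))) • psi g τ v)
  have orth : ∀ (a b : Fin n → F) (ha : B σ P a a ≠ 0) (hb : B σ P b b ≠ 0), B σ P a b = 0 → ∀ v,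
      psi g τ ((refl σ P a ha : Matrix (Fin n) (Fin n) F) *ᵥ ((refl σ P b hb : Matrix (Fin n) (Fin n) F) *ᵥ v)) =
        (refl σ P a ha : Matrix (Fin n) (Fin n) F) *ᵥ ((refl σ P b hb : Matrix (Fin n) (Fin n) F) *ᵥ psi g τ v) := by
    intro a b ha hb hab v
    by_cases hn4 : 4 ≤ n
    · obtain ⟨z, hzz, hza, hzb⟩ : ∃ z, B σ P z z ≠ 0 ∧ B σ P z a ≠ 0 ∧ B σ P b z ≠ 0 := by
        have hba := H.symm_zero hab
        by_cases hsum : B σ P a a + B σ P b b = 0
        · obtain ⟨d, had, hbd, hdd⟩ := exists_third H h2 hn hab ha hb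
          refine ⟨a + b + d, ?_, ?_, ?_⟩
          · simp [B_add_left, B_add_right, hab, hba, had, hbd, H.symm_zero had, H.symm_zero hbd, hsum, hdd]
          · simpa [B_add_left, hba, H.symm_zero had] using ha
          · simpa [B_add_right, hba, hbd] using hb
        · refine ⟨a + b, ?_, ?_, ?_⟩
          · simpa [B_add_left, B_add_right, hab, hba] using hsum
          · simpa [B_add_left, hba] using ha
          · simpa [B_add_right, hba] using hb
      have e1 := nonorth hn4 a z ha hzz hza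
      have e2 := nonorth hn4 z b hzz hb hzb
      conv_lhs => rw [show (refl σ P b hb : Matrix (Fin n) (Fin n) F) *ᵥ v = (refl σ P z hzz : Matrix (Fin n) (Fin n) F) *ᵥ
        ((refl σ P z hzz : Matrix (Fin n) (Fin n) F) *ᵥ ((refl σ P b hb : Matrix (Fin n) (Fin n) F) *ᵥ v)) from
          (refl_invol hzz _).symm]
      rw [e1, e2, refl_invol hzz]
    · have hn3 : n = 3 := by omega
      obtain ⟨c, hcS⟩ := hc a b ha hb
      suffices c = 1 by rw [hcS, this, one_smul]
      set S : Matrix (Fin n) (Fin n) F := (refl σ P a ha : Matrix (Fin n) (Fin n) F) * (refl σ P b hb : Matrix (Fin n) (Fin n) F)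
      have hm : (g : Matrix (Fin n) (Fin n) F) * S.map τ = c • (S * g) := Matrix.ext_of_mulVec_single fun i => by
        have := hcS (Pi.single i 1)
        rw [mulVec_mulVec, mulVec_mulVec, psi, psi] at this
        have hs : τ ∘ (Pi.single i (1 : F) : Fin n → F) = Pi.single i 1 := by
          funext j; rcases eq_or_ne j i with rfl | hj <;> simp [*]
        have h3 : τ ∘ (S *ᵥ Pi.single i 1) = S.map τ *ᵥ Pi.single i 1 := by
          rw [mulVec_single_one, mulVec_single_one]; rfl
        rw [hs, h3, mulVec_mulVec, mulVec_mulVec] at this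
        rw [smul_mulVec]
        exact this
      have hd := congrArg Matrix.det hm
      have hdS : S.det = 1 := by
        rw [det_mul, show (refl σ P a ha : Matrix (Fin n) (Fin n) F).det = -1 from det_rmat ha,
          show (refl σ P b hb : Matrix (Fin n) (Fin n) F).det = -1 from det_rmat hb]
        ring
      rw [det_smul, det_mul, det_mul, show (S.map τ).det = τ S.det from (RingEquiv.map_det τ S).symm, hdS, map_one, mul_one,
        one_mul, Fintype.card_fin, eq_comm, mul_left_eq_self₀] at hd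
      have hc3 : c ^ 3 = 1 := hn3 ▸ hd.resolve_right ((Matrix.isUnit_iff_isUnit_det _).1 g.isUnit).ne_zero
      have hSS : ∀ w, S *ᵥ (S *ᵥ w) = w := fun w => by
        have hcomm : (refl σ P a ha : Matrix (Fin n) (Fin n) F) * refl σ P b hb =
            (refl σ P b hb : Matrix (Fin n) (Fin n) F) * refl σ P a ha := congrArg Units.val (refl_comm H ha hb hab)
        show S *ᵥ (S *ᵥ w) = w
        conv_lhs => arg 2; rw [show S = _ from hcomm]
        rw [← mulVec_mulVec, ← mulVec_mulVec, refl_invol hb, refl_invol ha]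
      have hc2 : c ^ 2 = 1 := by
        have hcS' : ∀ w, psi g τ (S *ᵥ w) = c • (S *ᵥ psi g τ w) := fun w => by
          simp only [S, ← mulVec_mulVec]; exact hcS w
        have e := hcS' (S *ᵥ a)
        rw [hSS, hcS', mulVec_smul, hSS, smul_smul, ← pow_two] at e
        have hψ : psi g τ a ≠ 0 := psi_ne_zero fun e' => ha (by rw [e', B_zero_right])
        exact smul_left_injective F hψ (by simpa using e.symm)
      calc c = c ^ 3 := by rw [pow_succ, hc2, one_mul]
        _ = 1 := hc3
  refine eq_one_of_fix H h2 hn fun a ha => ?_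
  obtain ⟨b, hab, hb⟩ := exists_second H h2 hn ha
  obtain ⟨d, had, hbd, hdd⟩ := exists_third H h2 hn hab ha hb
  have span2 : ∀ (b : Fin n → F) (hb : B σ P b b ≠ 0), B σ P a b = 0 → ∃ p q : F, psi g τ a = p • a + q • b := by
    intro b hb hab
    have e := orth a b ha hb hab a
    rw [refl_orth hb (H.symm_zero hab), refl_self, refl_mulVec ha, refl_mulVec hb] at e
    have hneg : psi g τ (-a) = -psi g τ a := by rw [← neg_one_smul F a, psi_smul, map_neg, map_one, neg_one_smul]
    rw [hneg] at e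
    set k := 2 * B σ P b (psi g τ a) / B σ P b b
    set m' := 2 * B σ P a (psi g τ a - k • b) / B σ P a a
    refine ⟨m' / 2, k / 2, smul_right_injective _ h2 ?_⟩
    show (2 : F) • psi g τ a = (2 : F) • ((m' / 2) • a + (k / 2) • b)
    rw [smul_add, smul_smul, smul_smul, mul_div_cancel₀ _ h2, mul_div_cancel₀ _ h2]
    linear_combination (norm := module) -e
  obtain ⟨p, q, hpq⟩ := span2 b hb hab
  obtain ⟨p', q', hpq'⟩ := span2 d hdd had
  refine ⟨p, ?_⟩
  have e := congrArg (B σ P b) (hpq.symm.trans hpq')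
  simp [B_add_right, B_smul_right, H.symm_zero hab, hbd, hb] at e
  rw [hpq, e, zero_smul, add_zero]

/-- Similitudes of a symmetric form in dimension three. -/
theorem three_fix [Fintype F] {P : Matrix (Fin n) (Fin n) F} (hn : n = 3) (H : Herm (1 : F ≃+* F) P) (h2 : (2 : F) ≠ 0)
    {g : GL (Fin n) F} {μ : F} (hg : Sim 1 P g μ)
    (hne : ∀ a, B 1 P a a ≠ 0 → B 1 P a ((g : Matrix (Fin n) (Fin n) F) *ᵥ a) ≠ 0) :
    ∀ a, B 1 P a a ≠ 0 → ∃ l : F, (g : Matrix (Fin n) (Fin n) F) *ᵥ a = l • a := by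
  classical
  set G : Matrix (Fin n) (Fin n) F := (g : Matrix (Fin n) (Fin n) F) with hG
  have hsymm : ∀ u v, B 1 P u v = B 1 P v u := fun u v => (H.symm v u).symm
  have hl : ∀ (c : F) (u v : Fin n → F), B 1 P (c • u) v = c * B 1 P u v := fun c u v => B_smul_left c u v
  -- an isotropic vector orthogonal to its image
  obtain ⟨e, he0, hee, hege⟩ : ∃ e, e ≠ 0 ∧ B 1 P e e = 0 ∧ B 1 P e (G *ᵥ e) = 0 := by
    suffices ∃ e, e ≠ 0 ∧ B 1 P e (G *ᵥ e) = 0 by
      obtain ⟨e, he, he'⟩ := this
      exact ⟨e, he, by_contra fun h => hne e h he', he'⟩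
    set Φ : (Fin n → F) → (Fin n → F) → F := fun u v => B 1 P u (G *ᵥ v) + B 1 P v (G *ᵥ u) with hΦ
    suffices ∃ e, e ≠ 0 ∧ Φ e e = 0 by
      obtain ⟨e, he, he'⟩ := this
      refine ⟨e, he, ?_⟩
      rw [hΦ] at he'
      exact (mul_eq_zero.1 (show 2 * B 1 P e (G *ᵥ e) = 0 by rw [two_mul]; exact he')).resolve_left h2
    have hrow : ∀ u v, (Pᵀ *ᵥ u) ᵥ* G ⬝ᵥ v + (P *ᵥ (G *ᵥ u)) ⬝ᵥ v = Φ u v := by
      intro u v
      show _ = B 1 P u (G *ᵥ v) + B 1 P v (G *ᵥ u)
      rw [← dotProduct_mulVec, mulVec_transpose, dotProduct_comm (P *ᵥ _)]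
      simp only [B, dotProduct_mulVec]
      rfl
    have hadd : ∀ u v w, Φ u (v + w) = Φ u v + Φ u w := fun u v w => by
      simp only [hΦ, mulVec_add, B_add_right, B_add_left]; ring
    have hsmul : ∀ (c : F) u v, Φ u (c • v) = c * Φ u v := fun c u v => by
      simp only [hΦ, mulVec_smul, B_smul_right, hl]; ring
    have hcomm : ∀ u v, Φ u v = Φ v u := fun u v => add_comm _ _
    let z : Fin n → F := Pi.single ⟨0, by omega⟩ 1
    have hz0 : z ≠ 0 := by simp [z]
    by_cases h1 : Φ z z = 0
    · exact ⟨z, hz0, h1⟩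
    obtain ⟨v, hv0, hv⟩ := exists_ker ![(Pᵀ *ᵥ z) ᵥ* G + P *ᵥ (G *ᵥ z)] (by omega : 1 < n)
    have hzv : Φ z v = 0 := by rw [← hrow, ← add_dotProduct]; exact hv 0
    by_cases h3 : Φ v v = 0
    · exact ⟨v, hv0, h3⟩
    obtain ⟨w, hw0, hw⟩ := exists_ker ![(Pᵀ *ᵥ z) ᵥ* G + P *ᵥ (G *ᵥ z), (Pᵀ *ᵥ v) ᵥ* G + P *ᵥ (G *ᵥ v)] (by omega : 2 < n)
    have hzw : Φ z w = 0 := by rw [← hrow, ← add_dotProduct]; exact hw 0
    have hvw : Φ v w = 0 := by rw [← hrow, ← add_dotProduct]; exact hw 1
    by_cases h4 : Φ w w = 0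
    · exact ⟨w, hw0, h4⟩
    obtain ⟨α, β, hab⟩ := binary_rep (σ := (1 : F ≃+* F)) h2 (fun a => rfl) h1 rfl h3 (d := -Φ w w) rfl
    refine ⟨α • z + (β • v + w), fun e0 => ?_, ?_⟩
    · have e1 := congrArg (Φ z) e0
      have e2 := congrArg (Φ v) e0
      have hz' : Φ z 0 = 0 := by simpa using hsmul 0 z z
      have hv' : Φ v 0 = 0 := by simpa using hsmul 0 v z
      simp [hadd, hsmul, hzv, hzw, hvw, hcomm v z, hz', hv', h1, h3] at e1 e2
      rw [e1, e2, zero_smul, zero_smul, zero_add, zero_add] at e0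
      exact hw0 e0
    · have hl' : ∀ (c : F) u v, Φ (c • u) v = c * Φ u v := fun c u v => by rw [hcomm, hsmul, hcomm]
      have ha' : ∀ u v w, Φ (u + v) w = Φ u w + Φ v w := fun u v w => by rw [hcomm, hadd, hcomm, hcomm w]
      simp only [hadd, hsmul, ha', hl', hzv, hzw, hvw, hcomm v z, hcomm w z, hcomm w v]
      simp only [RingAut.one_apply] at hab
      linear_combination hab
  -- a frame
  obtain ⟨f, -, hef, hff⟩ := exists_unit_pair H h2 ![] (fun i => i.elim0) (fun i => i.elim0) he0 (fun i => i.elim0) hee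
    (map_zero (1 : F ≃+* F))
  obtain ⟨d, hd0, hd⟩ := exists_orth (σ := (1 : F ≃+* F)) (P := P) ![e, f] (by omega)
  have hed : B 1 P e d = 0 := hd 0
  have hfd : B 1 P f d = 0 := hd 1
  have hfe : B 1 P f e = 1 := by rw [hsymm, hef]
  have hde : B 1 P d e = 0 := by rw [hsymm, hed]
  have hdf : B 1 P d f = 0 := by rw [hsymm, hfd]
  let L : (Fin 3 → F) →ₗ[F] (Fin n → F) :=
    { toFun := fun c => c 0 • e + c 1 • f + c 2 • d
      map_add' := fun c c' => by simp [add_smul]; module
      map_smul' := fun t c => by simp [smul_smul] }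
  have hLinj : Function.Injective L := by
    rw [← LinearMap.ker_eq_bot, LinearMap.ker_eq_bot']
    intro c hc'
    have e1 := congrArg (B 1 P e) (show c 0 • e + c 1 • f + c 2 • d = 0 from hc')
    have e2 := congrArg (B 1 P f) (show c 0 • e + c 1 • f + c 2 • d = 0 from hc')
    simp [B_add_right, B_smul_right, B_zero_right, hee, hef, hed, hfe, hff, hfd] at e1 e2
    have e3 : c 2 = 0 := by
      have := show c 0 • e + c 1 • f + c 2 • d = 0 from hc'
      rw [e1, e2, zero_smul, zero_smul, zero_add, zero_add, smul_eq_zero] at this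
      exact this.resolve_right hd0
    funext i; fin_cases i <;> assumption
  have hsurj : Function.Surjective L :=
    (LinearMap.injective_iff_surjective_of_finrank_eq_finrank (by simp [hn])).1 hLinj
  have hspan : ∀ v, ∃ α β γ : F, v = α • e + β • f + γ • d := fun v => by
    obtain ⟨c, rfl⟩ := hsurj v; exact ⟨c 0, c 1, c 2, rfl⟩
  have hdd : B 1 P d d ≠ 0 := fun h => hd0 (H.nondeg_right fun v => by
    obtain ⟨α, β, γ, rfl⟩ := hspan v
    simp [B_add_left, hl, hed, hfd, h])
  have hform : ∀ α β γ α' β' γ', B 1 P (α • e + β • f + γ • d) (α' • e + β' • f + γ' • d) =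
      α * β' + β * α' + γ * γ' * B 1 P d d := by
    intro α β γ α' β' γ'
    simp only [B_add_left, B_add_right, hl, B_smul_right, hee, hef, hed, hfe, hff, hfd, hde, hdf]
    ring
  set D := B 1 P d d with hD
  obtain ⟨lam, b1, c1, hge⟩ := hspan (G *ᵥ e)
  obtain ⟨rho, b3, kap, hgd⟩ := hspan (G *ᵥ d)
  obtain ⟨tau, nu, sig, hgf⟩ := hspan (G *ᵥ f)
  have hsim : ∀ u v, B 1 P (G *ᵥ u) (G *ᵥ v) = μ * B 1 P u v := hg.2
  have hb1 : b1 = 0 := by
    have := hform 1 0 0 lam b1 c1
    rw [one_smul, zero_smul, zero_smul, add_zero, add_zero, ← hge, hege] at this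
    linear_combination -this
  have hc1 : c1 = 0 := by
    have := hform lam b1 c1 lam b1 c1
    rw [← hge, hsim, hee, mul_zero, hb1] at this
    have h0 : c1 * c1 * D = 0 := by linear_combination -this
    simpa [hdd] using h0
  subst hb1 hc1
  have E : ∀ u v : Fin n → F, ∀ α β γ α' β' γ' : F, G *ᵥ u = α • e + β • f + γ • d →
      G *ᵥ v = α' • e + β' • f + γ' • d → μ * B 1 P u v = α * β' + β * α' + γ * γ' * D := by
    intro u v α β γ α' β' γ' hu hv
    rw [← hsim, hu, hv, hform]
  have hlamnu : lam * nu = μ := by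
    have := E e f _ _ _ _ _ _ hge hgf; rw [hef] at this; linear_combination -this
  have hlam0 : lam ≠ 0 := fun h => hg.1 (by rw [← hlamnu, h, zero_mul])
  have hnu0 : nu ≠ 0 := fun h => hg.1 (by rw [← hlamnu, h, mul_zero])
  have hb3 : b3 = 0 := by
    have := E e d _ _ _ _ _ _ hge hgd
    rw [hed] at this
    exact (mul_eq_zero.1 (show lam * b3 = 0 by linear_combination -this)).resolve_left hlam0
  subst hb3
  have hkap : kap * kap = μ := mul_right_cancel₀ hdd (by
    have := E d d _ _ _ _ _ _ hgd hgd; linear_combination -this)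
  have hrho : nu * rho + sig * kap * D = 0 := by
    have := E f d _ _ _ _ _ _ hgf hgd; rw [hfd] at this; linear_combination -this
  have htau : 2 * nu * tau + sig * sig * D = 0 := by
    have := E f f _ _ _ _ _ _ hgf hgf; rw [hff] at this; linear_combination -this
  have hΦ : ∀ α β γ, B 1 P (α • e + β • f + γ • d) (G *ᵥ (α • e + β • f + γ • d)) =
      α * β * (lam + nu) + β * β * tau + γ * γ * (D * kap) + β * γ * (rho + D * sig) := by
    intro α β γ
    have : G *ᵥ (α • e + β • f + γ • d) =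
        (α * lam + β * tau + γ * rho) • e + (β * nu) • f + (β * sig + γ * kap) • d := by
      simp only [mulVec_add, mulVec_smul, hge, hgf, hgd]; module
    rw [this, hform]; ring
  have hno : ∀ α β γ, α * β * (lam + nu) + β * β * tau + γ * γ * (D * kap) + β * γ * (rho + D * sig) = 0 →
      2 * α * β + γ * γ * D = 0 := by
    intro α β γ h
    have h' : B 1 P (α • e + β • f + γ • d) (α • e + β • f + γ • d) = 0 :=
      by_contra fun hq => hne _ hq (by rw [hΦ]; exact h)
    rw [hform] at h'
    linear_combination h'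
  by_cases hsum : lam + nu = 0
  · exfalso
    have hnu : nu = -lam := by linear_combination hsum
    set γ := -(sig * (nu - kap)) / (2 * nu * kap) with hγ
    have hkap0 : kap ≠ 0 := fun h => hg.1 (by rw [← hkap, h, zero_mul])
    have hroot : ∀ α, α * 1 * (lam + nu) + 1 * 1 * tau + γ * γ * (D * kap) + 1 * γ * (rho + D * sig) = 0 := by
      intro α
      have hγ' : γ * (2 * nu * kap) = -(sig * (nu - kap)) := by
        rw [hγ, div_mul_cancel₀ _ (mul_ne_zero (mul_ne_zero h2 hnu0) hkap0)]
      have hk2 : kap * kap + nu * nu = 0 := by rw [hkap, ← hlamnu, hnu]; ring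
      have : 4 * nu * nu * kap *
          (α * 1 * (lam + nu) + 1 * 1 * tau + γ * γ * (D * kap) + 1 * γ * (rho + D * sig)) = 0 := by
        linear_combination (4 * nu * nu * kap * α) * hsum + (2 * nu * kap) * htau + (4 * nu * kap * γ) * hrho +
          (D * (γ * (2 * nu * kap)) + D * sig * (nu - kap)) * hγ' + (-(D * sig * sig)) * hk2
      have h4 : (4 : F) ≠ 0 := by
        have : (4 : F) = 2 * 2 := by norm_num
        rw [this]; exact mul_ne_zero h2 h2
      exact (mul_eq_zero.1 this).resolve_left (mul_ne_zero (mul_ne_zero (mul_ne_zero h4 hnu0) hnu0) hkap0)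
    have h5 := hno 0 1 γ (hroot 0)
    have h6 := hno 1 1 γ (hroot 1)
    exact h2 (by linear_combination h6 - h5)
  · have hpoly : ∀ γ, γ * γ * D * (lam + nu - 2 * kap) - 2 * γ * (rho + D * sig) - 2 * tau = 0 := by
      intro γ
      set α := -(tau + γ * γ * (D * kap) + γ * (rho + D * sig)) / (lam + nu) with hα
      have hα' : α * (lam + nu) = -(tau + γ * γ * (D * kap) + γ * (rho + D * sig)) := by
        rw [hα, div_mul_cancel₀ _ hsum]
      have := hno α 1 γ (by linear_combination hα')
      linear_combination (lam + nu) * this - 2 * hα'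
    have htau0 : tau = 0 := by
      have := hpoly 0
      exact (mul_eq_zero.1 (show 2 * tau = 0 by linear_combination -this)).resolve_left h2
    have hsig : sig = 0 := by
      have : sig * sig * D = 0 := by rw [htau0] at htau; linear_combination htau
      simpa [hdd] using this
    have hrho0 : rho = 0 := (mul_eq_zero.1 (show nu * rho = 0 by rw [hsig] at hrho; linear_combination hrho)).resolve_left hnu0
    have hk : lam + nu = 2 * kap := by
      have := hpoly 1
      rw [htau0, hsig, hrho0] at this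
      have : D * (lam + nu - 2 * kap) = 0 := by linear_combination this
      linear_combination (mul_eq_zero.1 this).resolve_left hdd
    have hln : lam = nu := by
      have : (lam - nu) * (lam - nu) = 0 := by
        linear_combination (lam + nu + 2 * kap) * hk - 4 * hlamnu + 4 * hkap
      exact sub_eq_zero.1 (mul_self_eq_zero.1 this)
    have hkl : kap = lam := mul_left_cancel₀ h2 (by linear_combination -hk + hln.symm)
    intro a _
    obtain ⟨α, β, γ, rfl⟩ := hspan a
    refine ⟨lam, ?_⟩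
    simp only [mulVec_add, mulVec_smul, hge, hgf, hgd, htau0, hsig, hrho0, hkl, ← hln]
    module

section Alt

/-- The transvection of an alternating form. -/
noncomputable def talt (P : Matrix (Fin n) (Fin n) F) (v : Fin n → F) : Matrix.SpecialLinearGroup (Fin n) F :=
  AutPSLBasic.tsl v (v ᵥ* P)

lemma alt_self (h2 : (2 : F) ≠ 0) (hP : Pᵀ = -P) (v : Fin n → F) : (v ᵥ* P) ⬝ᵥ v = 0 := by
  rw [← dotProduct_mulVec]
  have h : v ⬝ᵥ (P *ᵥ v) = -(v ⬝ᵥ (P *ᵥ v)) := by
    conv_lhs => rw [dotProduct_mulVec, ← mulVec_transpose, hP, neg_mulVec, neg_dotProduct, dotProduct_comm]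
  exact (mul_eq_zero.1 (show 2 * (v ⬝ᵥ (P *ᵥ v)) = 0 by linear_combination h)).resolve_left h2

lemma talt_mulVec (h2 : (2 : F) ≠ 0) (hP : Pᵀ = -P) (v u : Fin n → F) :
    (talt P v : Matrix (Fin n) (Fin n) F) *ᵥ u = u + ((v ᵥ* P) ⬝ᵥ u) • v := by
  rw [talt, AutPSLBasic.coe_tsl (alt_self h2 hP v), AutPSLBasic.tm_mulVec]

/-- A semilinear map centralising all transvections up to scalars. -/
theorem eq_one_of_centralises_alt (h2 : (2 : F) ≠ 0) (hn : 2 ≤ n) (hP : Pᵀ = -P) (hdet : P.det ≠ 0)
    (hc : ∀ v, ∃ c : F, ∀ u, psi g τ ((talt P v : Matrix (Fin n) (Fin n) F) *ᵥ u) =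
      c • ((talt P v : Matrix (Fin n) (Fin n) F) *ᵥ psi g τ u)) :
    g ∈ Subgroup.center (GL (Fin n) F) ∧ τ = 1 := by
  refine eq_one_of_all_lines hn fun v => ?_
  rcases eq_or_ne v 0 with rfl | hv
  · exact ⟨0, by
      have h := psi_smul (g := g) (τ := τ) (0 : F) (0 : Fin n → F)
      rw [zero_smul, map_zero, zero_smul] at h
      rw [h, zero_smul]⟩
  obtain ⟨c, hcv⟩ := hc v
  have hψ : psi g τ v ≠ 0 := psi_ne_zero hv
  have e := hcv v
  rw [talt_mulVec h2 hP, talt_mulVec h2 hP, alt_self h2 hP, zero_smul, add_zero] at e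
  set k := (v ᵥ* P) ⬝ᵥ psi g τ v with hk
  have hc1 : c = 1 := by
    by_contra hne
    have hc0 : c ≠ 0 := fun h => hψ (by rw [e, h, zero_smul])
    have hψv : psi g τ v = (c * k / (1 - c)) • v := by
      apply smul_right_injective _ (sub_ne_zero.2 (Ne.symm hne))
      show (1 - c) • psi g τ v = (1 - c) • ((c * k / (1 - c)) • v)
      rw [smul_smul, mul_div_cancel₀ _ (sub_ne_zero.2 (Ne.symm hne))]
      linear_combination (norm := module) e
    have hk0 : k = 0 := by rw [hk, hψv, dotProduct_smul, alt_self h2 hP, smul_zero]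
    rw [hk0, mul_zero, zero_div, zero_smul] at hψv
    exact hψ hψv
  obtain ⟨u, hu⟩ : ∃ u, (v ᵥ* P) ⬝ᵥ u ≠ 0 := by
    by_contra h
    push Not at h
    exact hv (Matrix.eq_zero_of_vecMul_eq_zero hdet (funext fun i => by simpa using h (Pi.single i 1)))
  have e' := hcv u
  rw [talt_mulVec h2 hP, talt_mulVec h2 hP, hc1, one_smul, psi_add, psi_smul, add_right_inj] at e'
  refine ⟨(τ ((v ᵥ* P) ⬝ᵥ u))⁻¹ * ((v ᵥ* P) ⬝ᵥ psi g τ u), ?_⟩
  rw [← smul_smul, eq_inv_smul_iff₀ (by simpa using hu)]
  exact e'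

end Alt

end Cfsg.Agent.SesquiRigid
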