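import Cfsg.Agent.Lib.ShortPresGlue

/-!
Five relations in three letters `a, B, x` that define the symmetric or the alternating group on
`p + 2` points: `a` shifts the `p` points, `B` multiplies by a primitive root, `x` is a three-cycle
through the two further points.
-/

set_option autoImplicit false

namespace Cfsg.Agent.ShortPresAffine

open Equiv Equiv.Perm ShortPresCarmichael

/-- `r` is an even representative of a generator of the units modulo `p` -/
structure Root (p r : ℕ) : Prop where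
  even : Even r
  ne_zero : (r : ZMod p) ≠ 0
  ne_one : (r : ZMod p) ≠ 1
  gen : ∀ j : ZMod p, j ≠ 0 → ∃ k : ℕ, (r : ZMod p) ^ k = j

theorem exists_root (p : ℕ) [Fact p.Prime] (hp : 3 ≤ p) : ∃ r, Root p r := by
  haveI : Fact (2 < p) := ⟨hp⟩
  obtain ⟨g, hg⟩ := IsCyclic.exists_generator (α := (ZMod p)ˣ)
  have hodd : Odd p := (Fact.out : p.Prime).odd_of_ne_two (by omega)
  obtain ⟨r, hr, he⟩ : ∃ r : ℕ, (r : ZMod p) = g ∧ Even r := by
    rcases Nat.even_or_odd (g : ZMod p).val with h | h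
    · exact ⟨_, ZMod.natCast_zmod_val _, h⟩
    · exact ⟨(g : ZMod p).val + p, by simp, h.add_odd hodd⟩
  refine ⟨r, he, hr ▸ g.ne_zero, fun h => ?_, fun j hj => ?_⟩
  · have h1 : g = 1 := Units.ext (hr.symm.trans h)
    have h2 := hg (-1)
    rw [h1, Subgroup.zpowers_one_eq_bot, Subgroup.mem_bot] at h2
    exact ZMod.neg_one_ne_one (by simpa using congrArg Units.val h2)
  · obtain ⟨k, hk⟩ := mem_powers_iff_mem_zpowers.mpr (hg (Units.mk0 j hj))
    exact ⟨k, by simpa [hr] using congrArg Units.val hk⟩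

theorem sign_mul {p r : ℕ} [Fact p.Prime] (R : Root p r) (hp : 3 ≤ p) :
    sign (Equiv.mulLeft₀ (r : ZMod p) R.ne_zero) = -1 := by
  set m := Equiv.mulLeft₀ (r : ZMod p) R.ne_zero with hm
  have happ : ∀ (k : ℕ) (j : ZMod p), (m ^ k) j = (r : ZMod p) ^ k * j := fun k => by
    induction k with
    | zero => simp
    | succ k ih => intro j; rw [pow_succ', Perm.mul_apply, ih, hm]; simp [pow_succ']; ring
  have hne : ∀ j : ZMod p, m j ≠ j ↔ j ≠ 0 := fun j => by
    rw [show m j = (r : ZMod p) * j from rfl, not_iff_not, mul_left_eq_self₀]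
    simp [R.ne_one]
  have hc : m.IsCycle := by
    refine ⟨1, (hne 1).mpr one_ne_zero, fun j hj => ?_⟩
    obtain ⟨k, hk⟩ := R.gen j ((hne j).mp hj)
    exact ⟨k, by rw [zpow_natCast, happ, hk, mul_one]⟩
  have hs : m.support = Finset.univ.erase 0 := by
    ext j; simp [mem_support, hne]
  rw [hc.sign, hs, Finset.card_erase_of_mem (Finset.mem_univ _), Finset.card_univ, ZMod.card]
  have : Even (p - 1) := (Fact.out : p.Prime).even_sub_one (by omega)
  rw [this.neg_one_pow]

variable {H : Type*} [Group H]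

theorem conj_mem {ι : Type*} (g : H) (s : ι → H)
    (h : ∀ i, g * s i * g⁻¹ ∈ Subgroup.closure (Set.range s)) {n : H}
    (hn : n ∈ Subgroup.closure (Set.range s)) : g * n * g⁻¹ ∈ Subgroup.closure (Set.range s) := by
  have : Subgroup.closure (Set.range s) ≤ (Subgroup.closure (Set.range s)).comap (MulAut.conj g).toMonoidHom := by
    rw [Subgroup.closure_le]; rintro _ ⟨i, rfl⟩; simpa using h i
  simpa using this hn

theorem sq_swap {u v : H} (h : u * v * (u * v) = 1) : v * u * (v * u) = 1 := by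
  calc v * u * (v * u) = u⁻¹ * (u * v * (u * v)) * u := by group
    _ = 1 := by rw [h]; group

theorem pow_eight {u w z : H} (hu : u * u * u = z) (hw : w * w = 1)
    (hv : u⁻¹ * w * (u⁻¹ * w) * (u⁻¹ * w) = z) (hzw : Commute z w) : z ^ 8 = 1 := by
  have hzu : Commute z u := by
    rw [← hu]; exact ((Commute.refl u).mul_left (Commute.refl u)).mul_left (Commute.refl u)
  let wa := u⁻¹ * w * u
  let wb := u⁻¹ * wa * u
  have e : wa * wb * w = z * z := by
    calc wa * wb * w = u⁻¹ * w * (u⁻¹ * w) * u⁻¹ * (u * u * u) * w := by simp only [wa, wb]; group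
      _ = u⁻¹ * w * (u⁻¹ * w) * u⁻¹ * (z * w) := by rw [hu, mul_assoc]
      _ = u⁻¹ * w * (u⁻¹ * w) * (u⁻¹ * w) * z := by rw [hzw.eq]; group
      _ = z * z := by rw [hv]
  have ha : wa * wa = 1 := by
    calc wa * wa = u⁻¹ * (w * w) * u := by simp only [wa]; group
      _ = 1 := by rw [hw]; group
  have hb : wb * wb = 1 := by
    calc wb * wb = u⁻¹ * (wa * wa) * u := by simp only [wb]; group
      _ = 1 := by rw [ha]; group
  generalize hc : z * z = c at e
  have hcw : Commute c w := hc ▸ hzw.mul_left hzw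
  have hcu : Commute c u := hc ▸ hzu.mul_left hzu
  have hca : Commute c wa := ((hcu.inv_right).mul_right hcw).mul_right hcu
  have h1 : wa * wb = c * w := by rw [← e, mul_assoc (wa * wb), hw, mul_one]
  have h2 : wb * wa = c⁻¹ * w := by
    calc wb * wa = (wa * wb)⁻¹ := by rw [mul_inv_rev, inv_eq_of_mul_eq_one_left ha, inv_eq_of_mul_eq_one_left hb]
      _ = c⁻¹ * w := by rw [h1, mul_inv_rev, inv_eq_of_mul_eq_one_left hw, (hcw.inv_left).eq]
  have h3 : wa * wb = c * c * (wb * wa) := by rw [h1, h2]; group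
  have h4 : wb = c * c * c * c * wb := by
    calc wb = wa * (wa * wb) := by rw [← mul_assoc, ha, one_mul]
      _ = wa * (c * c) * (wb * wa) := by rw [h3, ← mul_assoc]
      _ = c * c * wa * (wb * wa) := by rw [(hca.mul_left hca).eq]
      _ = c * c * (wa * wb) * wa := by group
      _ = c * c * c * c * wb * (wa * wa) := by rw [h3]; group
      _ = _ := by rw [ha, mul_one]
  have h5 : c * c * c * c = 1 := right_eq_mul.mp h4
  rw [← h5, ← hc]; simp only [pow_succ, pow_zero, one_mul, mul_assoc]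

/-- the five relations, save the last -/
structure Rel (p r : ℕ) (a B x : H) : Prop where
  conjA : B * a * B⁻¹ = a ^ r
  conjX : B * x * B⁻¹ = x ∨ B * x * B⁻¹ = x⁻¹
  cube : x * x * x = a ^ p
  sq : x * (a * x * a⁻¹) * (x * (a * x * a⁻¹)) = 1

/-- the conjugates of `x` -/
def xs (p : ℕ) (a x : H) (j : ZMod p) : H := a ^ j.val * x * (a ^ j.val)⁻¹

variable {p r : ℕ} [Fact p.Prime] {a B x : H}

theorem Rel.comm_x (h : Rel p r a B x) : Commute (a ^ p) x := by
  rw [← h.cube]; exact ((Commute.refl x).mul_left (Commute.refl x)).mul_left (Commute.refl x)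

theorem Rel.xs_natCast (h : Rel p r a B x) (k : ℕ) : a ^ k * x * (a ^ k)⁻¹ = xs p a x k := by
  rw [xs, ZMod.val_natCast]
  conv_lhs => rw [← Nat.mod_add_div k p, pow_add, pow_mul]
  calc a ^ (k % p) * (a ^ p) ^ (k / p) * x * (a ^ (k % p) * (a ^ p) ^ (k / p))⁻¹
      = a ^ (k % p) * ((a ^ p) ^ (k / p) * x) * ((a ^ p) ^ (k / p))⁻¹ * (a ^ (k % p))⁻¹ := by group
    _ = _ := by rw [(h.comm_x.pow_left _).eq]; group

theorem Rel.conj_a (h : Rel p r a B x) (j : ZMod p) : a * xs p a x j * a⁻¹ = xs p a x (j + 1) := by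
  rw [show j + 1 = ((j.val + 1 : ℕ) : ZMod p) by simp, ← h.xs_natCast, xs, pow_succ']
  group

theorem Rel.conj_B (h : Rel p r a B x) (j : ZMod p) :
    B * xs p a x j * B⁻¹ = xs p a x (r * j) ∨ B * xs p a x j * B⁻¹ = (xs p a x (r * j))⁻¹ := by
  have e : B * xs p a x j * B⁻¹ = a ^ (r * j.val) * (B * x * B⁻¹) * (a ^ (r * j.val))⁻¹ := by
    rw [pow_mul, ← h.conjA, conj_pow, xs]; group
  have e' : xs p a x (r * j) = a ^ (r * j.val) * x * (a ^ (r * j.val))⁻¹ := by
    rw [h.xs_natCast]; simp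
  rcases h.conjX with hx | hx
  · left; rw [e, hx, e']
  · right; rw [e, hx, e']; group

theorem Rel.pair (h : Rel p r a B x) (R : Root p r) {i j : ZMod p} (hij : i ≠ j) :
    xs p a x i * xs p a x j * (xs p a x i * xs p a x j) = 1 := by
  set X := xs p a x
  let Q : ZMod p → ZMod p → Prop := fun i j => X i * X j * (X i * X j) = 1
  have hshift : ∀ (k : ℕ) (i j : ZMod p), Q i j → Q (i + k) (j + k) := fun k => by
    induction k with
    | zero => simp
    | succ k ih =>
      intro i j hQ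
      have := ih i j hQ
      show X (i + ((k + 1 : ℕ) : ZMod p)) * X (j + ((k + 1 : ℕ) : ZMod p)) * _ = 1
      rw [Nat.cast_succ, ← add_assoc, ← add_assoc,
        show ∀ j, X (j + 1) = a * X j * a⁻¹ from fun j => (h.conj_a j).symm,
        show ∀ j, X (j + 1) = a * X j * a⁻¹ from fun j => (h.conj_a j).symm]
      calc _ = a * (X (i + k) * X (j + k) * (X (i + k) * X (j + k))) * a⁻¹ := by group
        _ = 1 := by rw [this]; group
  have hmul : ∀ i j, Q i j → Q (r * i) (r * j) := fun i j hQ => by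
    have hi : B * X i * B⁻¹ * (B * X j * B⁻¹) * (B * X i * B⁻¹ * (B * X j * B⁻¹)) = 1 := by
      calc _ = B * (X i * X j * (X i * X j)) * B⁻¹ := by group
        _ = 1 := by rw [hQ]; group
    rcases h.conjX with hx | hx
    · have hB : ∀ j : ZMod p, B * X j * B⁻¹ = X (r * j) := fun j => by
        show B * xs p a x j * B⁻¹ = _
        rw [show X (r * j) = xs p a x ((r * j.val : ℕ) : ZMod p) by simp [X], ← h.xs_natCast]
        rw [pow_mul, ← h.conjA, conj_pow, xs]
        calc _ = B * a ^ j.val * B⁻¹ * (B * x * B⁻¹) * (B * a ^ j.val * B⁻¹)⁻¹ := by group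
          _ = _ := by rw [hx]
      rw [hB, hB] at hi; exact hi
    · have hB : ∀ j : ZMod p, B * X j * B⁻¹ = (X (r * j))⁻¹ := fun j => by
        show B * xs p a x j * B⁻¹ = _
        rw [show X (r * j) = xs p a x ((r * j.val : ℕ) : ZMod p) by simp [X], ← h.xs_natCast]
        rw [pow_mul, ← h.conjA, conj_pow, xs]
        calc _ = B * a ^ j.val * B⁻¹ * (B * x * B⁻¹) * (B * a ^ j.val * B⁻¹)⁻¹ := by group
          _ = _ := by rw [hx]; group
      rw [hB, hB] at hi
      refine sq_swap (inv_injective ?_)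
      rw [inv_one, ← hi]; group
  have h01 : Q 0 1 := by
    haveI : Fact (1 < p) := ⟨(Fact.out : p.Prime).one_lt⟩
    show X 0 * X 1 * _ = 1
    simp only [X, xs, ZMod.val_zero, pow_zero, ZMod.val_one, pow_one, one_mul, inv_one, mul_one]
    exact h.sq
  have h0 : ∀ k : ℕ, Q 0 ((r : ZMod p) ^ k) := fun k => by
    induction k with
    | zero => simpa using h01
    | succ k ih => simpa [pow_succ'] using hmul _ _ ih
  obtain ⟨k, hk⟩ := R.gen (j - i) (sub_ne_zero.mpr (Ne.symm hij))
  have := hshift i.val 0 _ (h0 k)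
  rwa [hk, ZMod.natCast_zmod_val, zero_add, sub_add_cancel] at this

theorem Rel.apow (h : Rel p r a B x) (R : Root p r) : a ^ p = 1 := by
  have h8 : (a ^ p) ^ 8 = 1 := by
    refine pow_eight h.cube h.sq ?_ (h.comm_x.mul_right (((Commute.refl a).pow_left p).mul_right h.comm_x |>.mul_right ((Commute.refl a).pow_left p).inv_right))
    calc x⁻¹ * (x * (a * x * a⁻¹)) * (x⁻¹ * (x * (a * x * a⁻¹))) * (x⁻¹ * (x * (a * x * a⁻¹)))
        = a * (x * x * x) * a⁻¹ := by group
      _ = a ^ p := by rw [h.cube, ((Commute.refl a).pow_right p).eq]; group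
  have hr : (a ^ p) ^ r = B * (a ^ p) * B⁻¹ := by
    rw [← pow_mul, mul_comm, pow_mul, ← h.conjA, conj_pow]
  have hr0 : r ≠ 0 := fun e => R.ne_zero (by simp [e])
  obtain ⟨d, hd, hdd⟩ : ∃ d, (a ^ p) ^ d = 1 ∧ Odd d := by
    rcases h.conjX with hx | hx
    · refine ⟨r - 1, ?_, Nat.Even.sub_odd (by omega) R.even odd_one⟩
      have e : (a ^ p) ^ r = a ^ p := by
        rw [hr]
        conv_lhs => rw [← h.cube]
        calc B * (x * x * x) * B⁻¹ = B * x * B⁻¹ * (B * x * B⁻¹) * (B * x * B⁻¹) := by group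
          _ = a ^ p := by rw [hx, h.cube]
      refine mul_right_cancel (b := a ^ p) ?_
      rw [← pow_succ, Nat.sub_add_cancel (by omega), e, one_mul]
    · refine ⟨r + 1, ?_, R.even.add_one⟩
      have e : (a ^ p) ^ r = (a ^ p)⁻¹ := by
        rw [hr]
        conv_lhs => rw [← h.cube]
        calc B * (x * x * x) * B⁻¹ = B * x * B⁻¹ * (B * x * B⁻¹) * (B * x * B⁻¹) := by group
          _ = (x * x * x)⁻¹ := by rw [hx]; group
          _ = (a ^ p)⁻¹ := by rw [h.cube]
      rw [pow_succ, e, inv_mul_cancel]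
  have hg := pow_gcd_eq_one.mpr ⟨h8, hd⟩
  rwa [show Nat.gcd 8 d = 1 from Nat.Coprime.pow_left 3 (Nat.coprime_two_left.mpr hdd), pow_one] at hg

/-- the group generated by the conjugates of `x` -/
abbrev NN (p : ℕ) (a x : H) : Subgroup H := Subgroup.closure (Set.range (xs p a x))

theorem xs_mem (j : ZMod p) : xs p a x j ∈ NN p a x := Subgroup.subset_closure ⟨j, rfl⟩

theorem Rel.x_mem (_h : Rel p r a B x) : x ∈ NN p a x := by
  simpa [xs] using xs_mem (p := p) (a := a) (x := x) 0

theorem Rel.conj_a_inv (h : Rel p r a B x) {n : H} (hn : n ∈ NN p a x) : a⁻¹ * n * a ∈ NN p a x := by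
  have := conj_mem (s := xs p a x) a⁻¹ (fun j => ?_) hn
  · simpa using this
  · have e := h.conj_a (j - 1)
    rw [sub_add_cancel] at e
    convert xs_mem (p := p) (a := a) (x := x) (j - 1) using 1
    rw [← e]; group

theorem Rel.conj_B_mem (h : Rel p r a B x) {n : H} (hn : n ∈ NN p a x) : B * n * B⁻¹ ∈ NN p a x :=
  conj_mem B _ (fun j => (h.conj_B j).elim (fun e => e ▸ xs_mem _)
    (fun e => e ▸ Subgroup.inv_mem _ (xs_mem _))) hn

theorem Rel.conj_B_inv (h : Rel p r a B x) (R : Root p r) {n : H} (hn : n ∈ NN p a x) :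
    B⁻¹ * n * B ∈ NN p a x := by
  have := conj_mem (s := xs p a x) B⁻¹ (fun j => ?_) hn
  · simpa using this
  · obtain ⟨i, rfl⟩ : ∃ i, j = (r : ZMod p) * i := ⟨(r : ZMod p)⁻¹ * j, by rw [mul_inv_cancel_left₀ R.ne_zero]⟩
    rcases h.conj_B i with e | e
    · convert xs_mem (p := p) (a := a) (x := x) i using 1
      rw [← e]; group
    · convert Subgroup.inv_mem _ (xs_mem (p := p) (a := a) (x := x) i) using 1
      rw [show xs p a x (r * i) = (B * xs p a x i * B⁻¹)⁻¹ by rw [e, inv_inv]]; group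

theorem Rel.a_mem (h : Rel p r a B x) (R : Root p r) (hm : a⁻¹ * a ^ r ∈ NN p a x) : a ∈ NN p a x := by
  have hr0 : r ≠ 0 := fun e => R.ne_zero (by simp [e])
  have h1 : a ^ (r - 1) ∈ NN p a x := by
    convert hm using 1
    conv_rhs => rw [show r = (r - 1) + 1 by omega, pow_succ']
    group
  set k := ((r : ZMod p) - 1)⁻¹.val
  have hk : (((r - 1) * k : ℕ) : ZMod p) = 1 := by
    rw [Nat.cast_mul, Nat.cast_sub (by omega), Nat.cast_one, ZMod.natCast_zmod_val,
      mul_inv_cancel₀ (sub_ne_zero.mpr R.ne_one)]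
  have hk' : (r - 1) * k % p = 1 := by
    haveI : Fact (1 < p) := ⟨(Fact.out : p.Prime).one_lt⟩
    have := congrArg ZMod.val hk
    rwa [ZMod.val_natCast, ZMod.val_one] at this
  have := Subgroup.pow_mem _ h1 k
  rwa [← pow_mul, pow_eq_pow_mod _ (h.apow R), hk', pow_one] at this

variable {α : Type*} [DecidableEq α] {π : H →* Perm α} {f : ZMod p → α} {a0 b0 : α}

/-- the points: `f` on the affine line and two more -/
structure Pts (f : ZMod p → α) (a0 b0 : α) : Prop where
  ne : a0 ≠ b0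
  inj : Function.Injective f
  fa : ∀ j, f j ≠ a0
  fb : ∀ j, f j ≠ b0

/-- `A` shifts the affine line and fixes the two further points -/
structure Shift (f : ZMod p → α) (a0 b0 : α) (A : Perm α) : Prop where
  app : ∀ j, A (f j) = f (j + 1)
  fixa : A a0 = a0
  fixb : A b0 = b0

theorem Shift.conj {A : Perm α} (hA : Shift f a0 b0 A) :
    ∀ k : ℕ, A ^ k * cyc a0 b0 (f 0) * (A ^ k)⁻¹ = cyc a0 b0 (f k) := fun k => by
  rw [conj_cyc, Perm.pow_apply_eq_self_of_apply_eq_self hA.fixa, Perm.pow_apply_eq_self_of_apply_eq_self hA.fixb]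
  congr 1
  induction k with
  | zero => simp
  | succ k ih => rw [pow_succ', Perm.mul_apply, ih, hA.app, Nat.cast_succ]

theorem Rel.map_xs (_h : Rel p r a B x) (hA : Shift f a0 b0 (π a)) (hX : π x = cyc a0 b0 (f 0)) (j : ZMod p) :
    π (xs p a x j) = cyc a0 b0 (f j) := by
  rw [xs, map_mul, map_mul, map_inv, map_pow, hX, hA.conj, ZMod.natCast_zmod_val]

theorem Rel.inj_N (h : Rel p r a B x) (R : Root p r) (hP : Pts f a0 b0) (hA : Shift f a0 b0 (π a))
    (hX : π x = cyc a0 b0 (f 0)) {g : H} (hg : g ∈ NN p a x) (h1 : π g = 1) : g = 1 := by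
  classical
  have hy : ∀ j, Function.extend f (xs p a x) 1 (f j) = xs p a x j := fun j => hP.inj.extend_apply _ _ _
  refine eq_one_of_map hP.ne (Function.extend f (xs p a x) 1) π (Finset.univ.image f) ?_ ?_ ?_ ?_ ?_ g ?_ h1
  · simpa using hP.fa
  · simpa using hP.fb
  · simp only [Finset.mem_image, Finset.mem_univ, true_and, forall_exists_index, forall_apply_eq_imp_iff, hy]
    exact h.map_xs hA hX
  · simp only [Finset.mem_image, Finset.mem_univ, true_and, forall_exists_index, forall_apply_eq_imp_iff, hy]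
    intro j
    calc xs p a x j * xs p a x j * xs p a x j = a ^ j.val * (x * x * x) * (a ^ j.val)⁻¹ := by simp only [xs]; group
      _ = 1 := by rw [h.cube, h.apow R]; group
  · simp only [Finset.mem_image, Finset.mem_univ, true_and, forall_exists_index, forall_apply_eq_imp_iff, hy]
    exact fun i j hij => h.pair R (fun e => hij (congrArg f e))
  · convert hg using 2
    rw [Finset.coe_image, Finset.coe_univ, Set.image_univ, ← Set.range_comp]
    congr 1
    funext j; exact hy j

theorem Rel.inj_alt (h : Rel p r a B x) (R : Root p r) (hP : Pts f a0 b0) (hA : Shift f a0 b0 (π a))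
    (hX : π x = cyc a0 b0 (f 0)) (hW : B * a ∈ NN p a x) {g : H}
    (hg : g ∈ Subgroup.closure ({a, B, x} : Set H)) (h1 : π g = 1) : g = 1 := by
  have ha : a ∈ NN p a x := h.a_mem R (by
    rw [← h.conjA]
    convert Subgroup.mul_mem _ (h.conj_a_inv hW) (Subgroup.inv_mem _ hW) using 1
    group)
  refine h.inj_N R hP hA hX ((Subgroup.closure_le _).mpr ?_ hg) h1
  rintro _ (rfl | rfl | rfl)
  · exact ha
  · simpa using Subgroup.mul_mem _ hW (Subgroup.inv_mem _ ha)
  · exact h.x_mem

theorem Rel.inj_sym [Fintype α] (h : Rel p r a B x) (R : Root p r) (hP : Pts f a0 b0)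
    (hA : Shift f a0 b0 (π a)) (hX : π x = cyc a0 b0 (f 0)) (hW : B * B * a ∈ NN p a x)
    (hs : sign (π B) = -1) {g : H}
    (hg : g ∈ Subgroup.closure ({a, B, x} : Set H)) (h1 : π g = 1) : g = 1 := by
  set N := NN p a x
  have ha : a ∈ N := h.a_mem R (by
    have := Subgroup.mul_mem _ (h.conj_B_mem (Subgroup.inv_mem _ hW)) hW
    convert Subgroup.inv_mem _ this using 1
    rw [← h.conjA]; group)
  have hB2 : B * B ∈ N := by simpa using Subgroup.mul_mem _ hW (Subgroup.inv_mem _ ha)
  have key : g ∈ N ∨ B⁻¹ * g ∈ N := by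
    clear h1
    induction hg using Subgroup.closure_induction_left with
    | one => exact Or.inl N.one_mem
    | mul_left y hy v _ ih =>
      rcases hy with rfl | rfl | rfl
      · refine ih.imp (N.mul_mem ha) fun hv => ?_
        convert N.mul_mem (h.conj_B_inv R ha) hv using 1; group
      · rcases ih with hv | hv
        · exact Or.inr (by simpa using hv)
        · refine Or.inl ?_
          convert N.mul_mem hB2 hv using 1; group
      · refine ih.imp (N.mul_mem h.x_mem) fun hv => ?_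
        convert N.mul_mem (h.conj_B_inv R h.x_mem) hv using 1; group
    | inv_mul_cancel y hy v _ ih =>
      rcases hy with rfl | rfl | rfl
      · refine ih.imp (N.mul_mem (N.inv_mem ha)) fun hv => ?_
        convert N.mul_mem (h.conj_B_inv R (N.inv_mem ha)) hv using 1; group
      · rcases ih with hv | hv
        · refine Or.inr ?_
          convert N.mul_mem (N.inv_mem hB2) hv using 1; group
        · exact Or.inl hv
      · refine ih.imp (N.mul_mem (N.inv_mem h.x_mem)) fun hv => ?_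
        convert N.mul_mem (h.conj_B_inv R (N.inv_mem h.x_mem)) hv using 1; group
  refine key.elim (fun k => h.inj_N R hP hA hX k h1) fun k => absurd h1 fun h1 => ?_
  have hev : N ≤ (sign.comp π).ker := by
    rw [Subgroup.closure_le]
    rintro _ ⟨j, rfl⟩
    simpa [MonoidHom.mem_ker, h.map_xs hA hX] using sign_cyc hP.ne (hP.fb j)
  have := hev k
  rw [MonoidHom.mem_ker, MonoidHom.comp_apply, map_mul, map_inv, h1, mul_one, map_inv, hs] at this
  exact absurd this (by decide)

section Model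

variable [Fintype α]

/-- the permutations fixing all other points -/
def inside (f : ZMod p → α) (a0 b0 : α) : Subgroup (Perm α) where
  carrier := {g | ∀ k, k ≠ a0 → k ≠ b0 → (∀ j, k ≠ f j) → g k = k}
  one_mem' := fun _ _ _ _ => rfl
  mul_mem' := fun {g h} hg hh k h1 h2 h3 => by rw [Perm.mul_apply, hh k h1 h2 h3, hg k h1 h2 h3]
  inv_mem' := fun {g} hg k h1 h2 h3 => by rw [Perm.inv_def, Equiv.symm_apply_eq, hg k h1 h2 h3]

theorem mem_inside {g : Perm α} :
    g ∈ inside f a0 b0 ↔ ∀ k, k ≠ a0 → k ≠ b0 → (∀ j, k ≠ f j) → g k = k := Iff.rfl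

/-- the three permutations -/
structure Model (r : ℕ) (f : ZMod p → α) (a0 b0 : α) (A B C : Perm α) : Prop where
  shift : Shift f a0 b0 A
  memA : A ∈ inside f a0 b0
  memB : B ∈ inside f a0 b0
  memC : C ∈ inside f a0 b0
  signA : sign A = 1
  signB : sign B = -1
  signC : sign C = 1
  apow : A ^ p = 1
  conjBA : B * A * B⁻¹ = A ^ r
  conjBX : B * cyc a0 b0 (f 0) * B⁻¹ = cyc a0 b0 (f 0)
  conjCA : C * A * C⁻¹ = A ^ r
  conjCX : C * cyc a0 b0 (f 0) * C⁻¹ = (cyc a0 b0 (f 0))⁻¹

theorem exists_model (R : Root p r) (hp : 3 ≤ p) (hP : Pts f a0 b0) :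
    ∃ A B C : Perm α, Model r f a0 b0 A B C := by
  classical
  let e : ZMod p ↪ α := ⟨f, hP.inj⟩
  let φ := viaEmbeddingHom e
  have happ : ∀ (g : Perm (ZMod p)) j, φ g (f j) = f (g j) := fun g j => viaEmbedding_apply g e j
  have hfix : ∀ (g : Perm (ZMod p)) k, (∀ j, k ≠ f j) → φ g k = k := fun g k hk =>
    viaEmbedding_apply_of_notMem g e k (by rintro ⟨j, rfl⟩; exact hk j rfl)
  have hin : ∀ g, φ g ∈ inside f a0 b0 := fun g k _ _ hk => hfix g k hk
  have hsign : ∀ g, sign (φ g) = sign g := fun g => by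
    simp only [φ, viaEmbeddingHom_apply, viaEmbedding]
    convert sign_extendDomain g _
  have ha : ∀ g, φ g a0 = a0 := fun g => hfix g _ fun j => (hP.fa j).symm
  have hb : ∀ g, φ g b0 = b0 := fun g => hfix g _ fun j => (hP.fb j).symm
  let s : Perm (ZMod p) := Equiv.addRight 1
  let m : Perm (ZMod p) := Equiv.mulLeft₀ (r : ZMod p) R.ne_zero
  have hs : ∀ (k : ℕ) (j : ZMod p), (s ^ k) j = j + k := fun k => by
    induction k with
    | zero => simp
    | succ k ih => intro j; rw [pow_succ', Perm.mul_apply, ih]; simp [s, add_assoc]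
  have hsp : s ^ p = 1 := Equiv.ext fun j => by simp [hs]
  have hms : m * s * m⁻¹ = s ^ r := by
    rw [mul_inv_eq_iff_eq_mul]
    ext j : 1
    rw [Perm.mul_apply, Perm.mul_apply, hs]
    simp [m, s, mul_add]
  have hm0 : m 0 = 0 := by simp [m]
  have hap : φ s ^ p = 1 := by rw [← map_pow, hsp, map_one]
  have hsA : sign (φ s) = 1 := by
    have hodd : Odd p := (Fact.out : p.Prime).odd_of_ne_two (by omega)
    have := congrArg sign hap
    rw [map_pow, map_one] at this
    rcases Int.units_eq_one_or (sign (φ s)) with h | h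
    · exact h
    · rw [h, hodd.neg_one_pow] at this; exact absurd this (by decide)
  have hw : Commute (swap a0 b0) (φ s) := by
    rw [Commute, SemiconjBy, Equiv.mul_swap_eq_swap_mul, ha, hb]
  have hsw : (swap a0 b0 : Perm α) ∈ inside f a0 b0 := fun k h1 h2 _ => swap_apply_of_ne_of_ne h1 h2
  refine ⟨φ s, φ m, φ m * swap a0 b0, ⟨⟨fun j => by rw [happ]; rfl, ha _, hb _⟩, hin _, hin _,
    Subgroup.mul_mem _ (hin _) hsw, hsA, ?_, ?_, hap, ?_, ?_, ?_, ?_⟩⟩
  · rw [hsign]; exact sign_mul R hp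
  · rw [map_mul, hsign, sign_mul R hp, sign_swap hP.ne]; rfl
  · rw [← map_inv, ← map_mul, ← map_mul, hms, map_pow]
  · rw [conj_cyc, ha, hb, happ, hm0]
  · calc φ m * swap a0 b0 * φ s * (φ m * swap a0 b0)⁻¹
        = φ m * (swap a0 b0 * φ s) * (swap a0 b0)⁻¹ * (φ m)⁻¹ := by group
      _ = φ m * φ s * (φ m)⁻¹ := by rw [hw.eq]; group
      _ = φ s ^ r := by rw [← map_inv, ← map_mul, ← map_mul, hms, map_pow]
  · rw [conj_cyc, Perm.mul_apply, Perm.mul_apply, Perm.mul_apply, swap_apply_left, swap_apply_right,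
      swap_apply_of_ne_of_ne (hP.fa 0) (hP.fb 0), ha, hb, happ, hm0]
    exact cyc_swap hP.ne (hP.fa 0) (hP.fb 0)

theorem even_word (hP : Pts f a0 b0) {g : Perm α} (hg : sign g = 1) (hi : g ∈ inside f a0 b0) :
    ∃ W : FreeGroup (ZMod p), FreeGroup.lift (fun j => cyc a0 b0 (f j)) W = g := by
  classical
  have : g ∈ Subgroup.closure (Set.range fun j => cyc a0 b0 (f j)) := by
    have := mem_closure_cyc hP.ne (Finset.univ.image f) (by simpa using hP.fa) (by simpa using hP.fb) g hg
      (fun k hk => by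
        simp only [Finset.mem_insert, Finset.mem_image, Finset.mem_univ, true_and, not_or, not_exists] at hk
        exact hi k hk.1 hk.2.1 fun j e => hk.2.2 j e.symm)
    convert this using 2
    rw [Finset.coe_image, Finset.coe_univ, Set.image_univ, ← Set.range_comp]; rfl
  rwa [← FreeGroup.range_lift_eq_closure] at this

/-- the word for the conjugate with index `j` -/
def wxs (j : ZMod p) : FreeGroup (Fin 2) := xs p (FreeGroup.of 0) (FreeGroup.of 1) j

theorem lift_wxs {K : Type*} [Group K] (u v : K) (j : ZMod p) :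
    FreeGroup.lift ![u, v] (wxs j) = xs p u v j := by
  simp [wxs, xs]

theorem even_word₂ (hP : Pts f a0 b0) {A g : Perm α} (hA : Shift f a0 b0 A) (hg : sign g = 1)
    (hi : g ∈ inside f a0 b0) : ∃ V : FreeGroup (Fin 2), FreeGroup.lift ![A, cyc a0 b0 (f 0)] V = g := by
  obtain ⟨W, hW⟩ := even_word hP hg hi
  refine ⟨FreeGroup.lift (fun j => wxs j) W, ?_⟩
  rw [ShortPres.map_word (FreeGroup.lift ![A, cyc a0 b0 (f 0)]) (y := fun j => cyc a0 b0 (f j)) (fun j => ?_), hW]
  rw [lift_wxs, xs, hA.conj, ZMod.natCast_zmod_val]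

theorem perm_word₃ (hP : Pts f a0 b0) {A B g : Perm α} (hA : Shift f a0 b0 A) (hB : B ∈ inside f a0 b0)
    (hs : sign B = -1) (hi : g ∈ inside f a0 b0) :
    ∃ w : FreeGroup (Fin 3), FreeGroup.lift ![A, B, cyc a0 b0 (f 0)] w = g := by
  let j : FreeGroup (Fin 2) →* FreeGroup (Fin 3) := FreeGroup.lift ![FreeGroup.of 0, FreeGroup.of 2]
  have ej : ∀ V, FreeGroup.lift ![A, B, cyc a0 b0 (f 0)] (j V) = FreeGroup.lift ![A, cyc a0 b0 (f 0)] V :=
    fun V => ShortPres.map_word (FreeGroup.lift ![A, B, cyc a0 b0 (f 0)]) (fun i => by fin_cases i <;> simp) V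
  rcases Int.units_eq_one_or (sign g) with h | h
  · obtain ⟨V, hV⟩ := even_word₂ hP hA h hi
    exact ⟨j V, (ej V).trans hV⟩
  · obtain ⟨V, hV⟩ := even_word₂ (g := B⁻¹ * g) hP hA (by rw [map_mul, map_inv, hs, h]; rfl)
      (Subgroup.mul_mem _ (Subgroup.inv_mem _ hB) hi)
    exact ⟨FreeGroup.of 1 * j V, by rw [map_mul, ej, hV]; simp⟩

end Model

end Cfsg.Agent.ShortPresAffine
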