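import Cfsg.Agent.Lib.ShortPresGlue
import Cfsg.Agent.S2286

/-!
Alternating groups of degree `p + 3` from the action of `PSL(2, p)` on the projective line, and
bounded presentations of all alternating groups.
-/

set_option autoImplicit false

namespace Cfsg.Agent.ShortPresBlock

open Equiv Equiv.Perm ShortPres ShortPresCarmichael ShortPresGlue
open Multiplicative (ofAdd)

/-- few letters suffice for a few points -/
theorem short_small {α : Type} [Fintype α] [DecidableEq α] {a b : α} (hab : a ≠ b) (s : Finset α) (ha : a ∉ s)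
    (hb : b ∉ s) : Short (altOn (pts a b s)) (s.card * s.card) := by
  classical
  let x : {i // i ∈ s} → altOn (pts a b s) := fun i => el _ (cyc a b i.1)
  let rel : {i // i ∈ s} × {i // i ∈ s} → FreeGroup {i // i ∈ s} := fun ij =>
    if ij.1 = ij.2 then FreeGroup.of ij.1 * FreeGroup.of ij.1 * FreeGroup.of ij.1
    else FreeGroup.of ij.1 * FreeGroup.of ij.2 * (FreeGroup.of ij.1 * FreeGroup.of ij.2)
  have hx : ∀ i, (x i : Perm α) = cyc a b i.1 := fun i => el_coe (cyc_mem hab hb i.2)
  have hne : ∀ i : {i // i ∈ s}, i.1 ≠ a ∧ i.1 ≠ b := fun i => ⟨fun e => ha (e ▸ i.2), fun e => hb (e ▸ i.2)⟩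
  refine ⟨_, x, (Finset.univ : Finset ({i // i ∈ s} × {i // i ∈ s})).toList.map rel, ?_, Pres.of_inj ?_ ?_ ?_⟩
  · simp
  · intro r hr
    obtain ⟨⟨i, j⟩, -, rfl⟩ := List.mem_map.mp hr
    refine Subtype.ext ?_
    by_cases h : i = j
    · subst h; simp [rel, hx, cyc_cube hab (hne i).1 (hne i).2]
    · simp [rel, h, hx, cyc_pair hab (hne i).1 (hne i).2 (hne j).1 (hne j).2 (fun e => h (Subtype.ext e))]
  · refine (Subgroup.eq_top_iff' _).mpr fun g => ?_
    have hg := mem_closure_cyc hab s ha hb g.1 g.2.1 g.2.2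
    have e : Subgroup.closure (cyc a b '' (s : Set α)) =
        (Subgroup.closure (Set.range x)).map (altOn (pts a b s)).subtype := by
      rw [MonoidHom.map_closure]; congr 1; ext σ
      constructor
      · rintro ⟨i, hi, rfl⟩; exact ⟨x ⟨i, hi⟩, ⟨_, rfl⟩, hx _⟩
      · rintro ⟨_, ⟨i, rfl⟩, rfl⟩; exact ⟨i.1, i.2, (hx i).symm⟩
    rw [e] at hg
    obtain ⟨g', hg', he⟩ := hg
    rwa [Subtype.ext he] at hg'
  · intro H _ y π hπ hgen hy
    let y' : α → H := fun i => if h : i ∈ s then y ⟨i, h⟩ else 1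
    have hy' : ∀ i : {i // i ∈ s}, y' i.1 = y i := fun i => dif_pos i.2
    have htop : Subgroup.closure (y' '' (s : Set α)) = ⊤ := by
      rw [eq_top_iff, ← hgen]
      refine Subgroup.closure_mono ?_
      rintro _ ⟨i, rfl⟩; exact ⟨i.1, i.2, hy' i⟩
    refine (injective_iff_map_eq_one π).mpr fun g hg => eq_one_of_map hab y' ((altOn _).subtype.comp π) s ha hb
      (fun i hi => ?_) (fun i hi => ?_) (fun i hi j hj hij => ?_) g (htop ▸ Subgroup.mem_top g) (by simp [hg])
    · rw [hy' ⟨i, hi⟩, MonoidHom.comp_apply, hπ, Subgroup.coe_subtype, hx]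
    · have := hy (rel (⟨i, hi⟩, ⟨i, hi⟩)) (List.mem_map.mpr ⟨_, by simp, rfl⟩)
      simpa [rel, hy' ⟨i, hi⟩] using this
    · have := hy (rel (⟨i, hi⟩, ⟨j, hj⟩)) (List.mem_map.mpr ⟨_, by simp, rfl⟩)
      simpa [rel, hij, hy' ⟨i, hi⟩, hy' ⟨j, hj⟩] using this

/-- even permutations on a subset -/
noncomputable def altEquiv {α : Type} [Fintype α] [DecidableEq α] (S : Finset α) :
    alternatingGroup {x // x ∈ S} ≃* altOn S :=
  MulEquiv.ofBijective
    (((Perm.ofSubtype : Perm {x // x ∈ S} →* Perm α).comp (alternatingGroup _).subtype).codRestrict (altOn S)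
      fun g => ⟨by simp [sign_ofSubtype, mem_alternatingGroup.mp g.2], fun x hx => Perm.ofSubtype_apply_of_not_mem _ hx⟩)
    ⟨fun g h e => Subtype.ext (Perm.ofSubtype_injective (Subtype.ext_iff.mp e)), fun g => by
      have hmem : ∀ x, g.1 x ∈ S ↔ x ∈ S := fun x => by
        constructor <;> intro h
        · by_contra hx; rw [g.2.2 x hx] at h; exact hx h
        · by_contra hx
          have := g.2.2 _ hx
          exact hx (by rw [g.1.injective this]; exact h)
      have he : Perm.ofSubtype (g.1.subtypePerm hmem) = g.1 :=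
        Perm.ofSubtype_subtypePerm _ fun x hx => by
          by_contra h; exact hx (g.2.2 x h)
      refine ⟨⟨g.1.subtypePerm hmem, mem_alternatingGroup.mpr ?_⟩, Subtype.ext he⟩
      rw [← sign_ofSubtype, he]; exact g.2.1⟩

section Block

variable (p : ℕ) [Fact p.Prime]

/-- the points: a pair and a projective line -/
abbrev Pt := Bool ⊕ Option (ZMod p)

/-- extend a permutation of the line -/
def ext' (e : Perm (Option (ZMod p))) : Perm (Pt p) := Equiv.sumCongr (Equiv.refl Bool) e

/-- `r ↦ -1/r` -/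
def wfun : Option (ZMod p) → Option (ZMod p)
  | none => some 0
  | some r => if r = 0 then none else some (-r⁻¹)

theorem wfun_wfun : Function.Involutive (wfun p) := by
  rintro (_ | r)
  · simp [wfun]
  · by_cases h : r = 0 <;> simp [wfun, h]

/-- translation -/
def PA (r : ZMod p) : Perm (Pt p) := ext' p (optionCongr (Equiv.addRight r))
/-- scaling -/
def PH (c : (ZMod p)ˣ) : Perm (Pt p) := ext' p (optionCongr (Units.mulLeft c))
/-- the inversion -/
def PW : Perm (Pt p) := ext' p (wfun_wfun p).toPerm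

theorem ext'_inl (e : Perm (Option (ZMod p))) (x : Bool) : ext' p e (Sum.inl x) = Sum.inl x := rfl

theorem PA_some (r s : ZMod p) : PA p r (Sum.inr (some s)) = Sum.inr (some (s + r)) := rfl
theorem PA_none (r : ZMod p) : PA p r (Sum.inr none) = Sum.inr none := rfl
theorem PH_some (c : (ZMod p)ˣ) (s : ZMod p) : PH p c (Sum.inr (some s)) = Sum.inr (some ((c : ZMod p) * s)) := rfl
theorem PH_none (c : (ZMod p)ˣ) : PH p c (Sum.inr none) = Sum.inr none := rfl
theorem PW_none : PW p (Sum.inr none) = Sum.inr (some 0) := rfl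
theorem PW_zero : PW p (Sum.inr (some 0)) = Sum.inr none := by
  show Sum.inr (wfun p (some 0)) = _; simp [wfun]
theorem PW_some {s : ZMod p} (hs : s ≠ 0) : PW p (Sum.inr (some s)) = Sum.inr (some (-s⁻¹)) := by
  show Sum.inr (wfun p (some s)) = _; simp [wfun, hs]

/-- permutations agreeing on the line and fixing the pair are equal -/
theorem pt_ext {f g : Perm (Pt p)} (hb : ∀ x, f (Sum.inl x) = g (Sum.inl x))
    (hn : f (Sum.inr none) = g (Sum.inr none)) (hs : ∀ s, f (Sum.inr (some s)) = g (Sum.inr (some s))) : f = g :=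
  Equiv.ext fun x => by rcases x with x | _ | s <;> simp only [hb, hn, hs]

theorem PA_mul (r s : ZMod p) : PA p r * PA p s = PA p (r + s) := by
  refine pt_ext p (fun x => rfl) rfl fun t => ?_
  simp [Perm.mul_apply, PA_some, add_assoc, add_comm r s]

theorem PH_mul (c d : (ZMod p)ˣ) : PH p c * PH p d = PH p (c * d) := by
  refine pt_ext p (fun x => rfl) rfl fun t => ?_
  simp [Perm.mul_apply, PH_some, mul_assoc]

theorem PH_conj (c : (ZMod p)ˣ) (r : ZMod p) : PH p c * PA p r * (PH p c)⁻¹ = PA p ((c : ZMod p) * r) := by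
  rw [mul_inv_eq_iff_eq_mul]
  refine pt_ext p (fun x => rfl) rfl fun t => ?_
  simp [Perm.mul_apply, PA_some, PH_some, mul_add]

theorem PW_sq : PW p * PW p = 1 := by
  refine pt_ext p (fun x => rfl) ?_ fun t => ?_
  · simp [Perm.mul_apply, PW_none, PW_zero]
  · by_cases ht : t = 0
    · subst ht; simp [Perm.mul_apply, PW_none, PW_zero]
    · simp [Perm.mul_apply, PW_some, ht]

theorem PH_PW (c : (ZMod p)ˣ) : PH p c * PW p * PH p c = PW p := by
  refine pt_ext p (fun x => rfl) ?_ fun t => ?_
  · simp [Perm.mul_apply, PW_none, PH_none, PH_some]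
  · by_cases ht : t = 0
    · subst ht; simp [Perm.mul_apply, PH_some, PH_none, PW_zero]
    · have : (c : ZMod p) * t ≠ 0 := mul_ne_zero c.ne_zero ht
      simp only [Perm.mul_apply]
      rw [PH_some, PW_some p this, PH_some, PW_some p ht]
      congr 2
      field_simp

theorem PW_cube : PW p * PA p 1 * (PW p * PA p 1) * (PW p * PA p 1) = 1 := by
  refine pt_ext p (fun x => rfl) ?_ fun t => ?_
  · simp only [Perm.mul_apply, Perm.one_apply]
    rw [PA_none, PW_none, PA_some, zero_add, PW_some p one_ne_zero, PA_some, inv_one, neg_add_cancel, PW_zero]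
  · simp only [Perm.mul_apply, Perm.one_apply, PA_some]
    by_cases h1 : t + 1 = 0
    · have : t = -1 := eq_neg_of_add_eq_zero_left h1
      subst this
      simp [PW_zero, PA_none, PW_none, PA_some, PW_some]
    · rw [PW_some p h1, PA_some]
      by_cases h0 : t = 0
      · subst h0; simp [PW_zero, PA_none, PW_none]
      · have e : -(t + 1)⁻¹ + 1 = t / (t + 1) := by field_simp; ring
        have h2 : t / (t + 1) ≠ 0 := div_ne_zero h0 h1
        rw [e, PW_some p h2, PA_some]
        have e' : -(t / (t + 1))⁻¹ + 1 = -t⁻¹ := by field_simp; ring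
        rw [e', PW_some p (by simpa using h0)]
        simp

theorem PW_braid (c : (ZMod p)ˣ) :
    PW p * PA p c * PW p = PA p (-1 / (c : ZMod p)) * PH p (c * c)⁻¹ * PW p * PA p (-1 / (c : ZMod p)) := by
  have hc : (c : ZMod p) ≠ 0 := c.ne_zero
  refine pt_ext p (fun x => rfl) ?_ fun t => ?_
  · simp only [Perm.mul_apply]
    rw [PW_none, PA_some, zero_add, PW_some p hc, PA_none, PW_none, PH_some, mul_zero, PA_some, zero_add,
      neg_div, one_div]
  · simp only [Perm.mul_apply, PA_some]
    by_cases ht : t = 0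
    · subst ht
      have h1 : (0 : ZMod p) + -1 / c ≠ 0 := by simp [hc]
      rw [PW_zero, PA_none, PW_none, PW_some p h1, PH_some, PA_some]
      simp only [Sum.inr.injEq, Option.some.injEq, Units.val_inv_eq_inv_val, Units.val_mul]
      field_simp
      ring
    · rw [PW_some p ht, PA_some]
      by_cases hct : t + -1 / (c : ZMod p) = 0
      · have e : -t⁻¹ + (c : ZMod p) = 0 := by
          rw [neg_div, ← sub_eq_add_neg, sub_eq_zero] at hct
          rw [hct, one_div, inv_inv]; ring
        rw [e, hct, PW_zero, PH_none, PA_none]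
      · have e : -t⁻¹ + (c : ZMod p) ≠ 0 := by
          intro h
          refine hct ?_
          rw [add_comm, ← sub_eq_add_neg, sub_eq_zero] at h
          rw [h]; field_simp; ring
        rw [PW_some p e, PW_some p hct, PH_some, PA_some]
        simp only [Sum.inr.injEq, Option.some.injEq, Units.val_inv_eq_inv_val, Units.val_mul]
        obtain ⟨q, hq⟩ : ∃ q, q = t * (c : ZMod p) - 1 := ⟨_, rfl⟩
        have q1 : -t⁻¹ + (c : ZMod p) = q / t := by rw [hq]; field_simp; ring
        have q2 : t + -1 / (c : ZMod p) = q / c := by rw [hq]; field_simp; ring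
        have q0 : q ≠ 0 := fun h => e (by rw [q1, h, zero_div])
        rw [q1, q2, inv_div, inv_div]
        field_simp
        linear_combination hq

theorem sign_PA (h2 : p ≠ 2) (r : ZMod p) : sign (PA p r) = 1 := by
  have : ∀ n : ℕ, PA p r ^ n = PA p (n * r) := fun n => by
    induction n with
    | zero => refine pt_ext p (fun x => rfl) rfl fun t => by simp [PA_some]
    | succ n ih => rw [pow_succ, ih, PA_mul, Nat.cast_succ, add_mul, one_mul]
  have h : sign (PA p r) ^ p = 1 := by
    rw [← map_pow, this, ZMod.natCast_self, zero_mul]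
    rw [show PA p 0 = 1 from pt_ext p (fun x => rfl) rfl fun t => by simp [PA_some], map_one]
  rcases Int.units_eq_one_or (sign (PA p r)) with e | e
  · exact e
  · rw [e, ((Fact.out : p.Prime).odd_of_ne_two h2).neg_one_pow] at h
    exact absurd h (by decide)

theorem sign_PW (h2 : p ≠ 2) : sign (PW p) = 1 := by
  have := congrArg sign (PW_cube p)
  rw [map_mul, map_mul, map_mul, sign_PA p h2, mul_one, map_one] at this
  rcases Int.units_eq_one_or (sign (PW p)) with e | e
  · exact e
  · rw [e] at this; exact absurd this (by decide)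

/-- the alternating group on these points has thirteen relators -/
theorem short_block (h5 : 5 ≤ p) : Short (altOn (Finset.univ : Finset (Pt p))) 13 := by
  classical
  have h2 : p ≠ 2 := by omega
  haveI : NeZero p := ⟨by omega⟩
  obtain ⟨ζ, hζ⟩ := IsCyclic.exists_generator (α := (ZMod p)ˣ)
  set μ : (ZMod p)ˣ := ζ * ζ
  let U : Finset (Pt p) := Finset.univ
  let eA : Pt p := Sum.inl false
  let eB : Pt p := Sum.inl true
  have hab : eA ≠ eB := by simp [eA, eB]
  let s : Finset (Pt p) := (Finset.univ : Finset (Option (ZMod p))).map ⟨Sum.inr, Sum.inr_injective⟩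
  have hsA : eA ∉ s := by simp [s, eA]
  have hsB : eB ∉ s := by simp [s, eB]
  have mk : ∀ g : Perm (Pt p), sign g = 1 → g ∈ altOn U := fun g h => ⟨h, fun x hx => absurd (Finset.mem_univ x) hx⟩
  have hne : ∀ i : Option (ZMod p), (Sum.inr i : Pt p) ≠ eA ∧ (Sum.inr i : Pt p) ≠ eB := fun i => by
    simp [eA, eB]
  have mA : ∀ r, PA p r ∈ altOn U := fun r => mk _ (sign_PA p h2 r)
  have mH : PH p μ ∈ altOn U := mk _ (by
    rw [← PH_mul, map_mul]; rcases Int.units_eq_one_or (sign (PH p ζ)) with e | e <;> rw [e] <;> rfl)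
  have mW : PW p ∈ altOn U := mk _ (sign_PW p h2)
  have mC : ∀ i : Option (ZMod p), cyc eA eB (Sum.inr i) ∈ altOn U := fun i =>
    mk _ (sign_cyc hab (hne i).2)
  let cz : Option (ZMod p) → altOn U := fun i => el U (cyc eA eB (Sum.inr i))
  let X : Fin 4 → altOn U := ![el U (PA p 1), el U (PH p μ), el U (PW p), cz none]
  let gA : FreeGroup (Fin 4) := FreeGroup.of 0
  let gH : FreeGroup (Fin 4) := FreeGroup.of 1
  let gW : FreeGroup (Fin 4) := FreeGroup.of 2
  let gZ : FreeGroup (Fin 4) := FreeGroup.of 3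
  let pA : ZMod p → FreeGroup (Fin 4) := fun r => gA ^ r.val
  let wx : Option (ZMod p) → FreeGroup (Fin 4) := fun i =>
    i.elim gZ fun r => pA r * (gW * gZ * gW) * (pA r)⁻¹
  have hcz : Subgroup.closure (Set.range cz) = ⊤ := by
    refine (Subgroup.eq_top_iff' _).mpr fun g => ?_
    have hg := mem_closure_cyc hab s hsA hsB g.1 g.2.1 fun x hx => by
      rcases x with (_ | _) | i <;> simp [eA, eB, s] at hx
    have e : Subgroup.closure (cyc eA eB '' (s : Set (Pt p))) =
        (Subgroup.closure (Set.range cz)).map (altOn U).subtype := by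
      rw [MonoidHom.map_closure]; congr 1; ext σ
      constructor
      · rintro ⟨i, hi, rfl⟩
        obtain ⟨j, -, rfl⟩ := Finset.mem_map.mp hi
        exact ⟨cz j, ⟨_, rfl⟩, el_coe (mC j)⟩
      · rintro ⟨_, ⟨i, rfl⟩, rfl⟩; exact ⟨Sum.inr i, by simp [s], (el_coe (mC i)).symm⟩
    rw [e] at hg
    obtain ⟨g', hg', he⟩ := hg
    rwa [Subtype.ext he] at hg'
  choose wd hwd using exists_word hcz
  let L : List (FreeGroup (Fin 4)) :=
    [gA ^ p, gH * gA * gH⁻¹ * (pA (μ : ZMod p))⁻¹, gH * gW * gH * gW⁻¹, gW * gW, (gW * gA) ^ 3,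
      gW * pA (ζ : ZMod p) * gW * (pA (-1 / (ζ : ZMod p)) * gH⁻¹ * gW * pA (-1 / (ζ : ZMod p)))⁻¹,
      gA * gZ * (gZ * gA)⁻¹, gH * gZ * (gZ * gH)⁻¹, gZ * gZ * gZ,
      gZ * (gW * gZ * gW) * (gZ * (gW * gZ * gW)),
      gA * (FreeGroup.lift wx (wd (X 0)))⁻¹, gH * (FreeGroup.lift wx (wd (X 1)))⁻¹,
      gW * (FreeGroup.lift wx (wd (X 2)))⁻¹]
  have lA : FreeGroup.lift X gA = el U (PA p 1) := by simp [gA, X]
  have lH : FreeGroup.lift X gH = el U (PH p μ) := by simp [gH, X]
  have lW : FreeGroup.lift X gW = el U (PW p) := by simp [gW, X]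
  have lZ : FreeGroup.lift X gZ = cz none := by simp [gZ, X]
  have lpA : ∀ r, FreeGroup.lift X (pA r) = el U (PA p r) := fun r => by
    refine Subtype.ext ?_
    rw [map_pow, lA, Subgroup.coe_pow, el_coe (mA 1), el_coe (mA r)]
    have : ∀ n : ℕ, PA p 1 ^ n = PA p n := fun n => by
      induction n with
      | zero => exact pt_ext p (fun x => rfl) rfl fun t => by simp [PA_some]
      | succ n ih => rw [pow_succ, ih, PA_mul, Nat.cast_succ]
    rw [this, ZMod.natCast_zmod_val]
  have fixA : ∀ r, PA p r eA = eA ∧ PA p r eB = eB := fun r => ⟨rfl, rfl⟩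
  have wxz : ∀ i, FreeGroup.lift X (wx i) = cz i := by
    rintro (_ | r)
    · exact lZ
    · refine Subtype.ext ?_
      simp only [wx, Option.elim, map_mul, map_inv, lpA, lW, lZ, cz, Subgroup.coe_mul, Subgroup.coe_inv,
        el_coe (mA r), el_coe mW, el_coe (mC none), el_coe (mC (some r))]
      have e1 : PW p * cyc eA eB (Sum.inr none) * PW p = cyc eA eB (Sum.inr (some 0)) := by
        have : (PW p)⁻¹ = PW p := inv_eq_of_mul_eq_one_left (PW_sq p)
        conv_lhs => arg 2; rw [← this]
        rw [conj_cyc]; rfl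
      rw [e1, conj_cyc]
      rw [(fixA r).1, (fixA r).2, PA_some, zero_add]
  have hwx : ∀ w, FreeGroup.lift X (FreeGroup.lift wx w) = FreeGroup.lift cz w := fun w =>
    map_word (FreeGroup.lift X) wxz w
  refine ⟨Fin 4, X, L, by simp [L], Pres.of_inj ?_ ?_ ?_⟩
  · simp only [L, List.forall_mem_cons, List.not_mem_nil, false_imp_iff, implies_true, and_true, map_mul,
      map_inv, map_pow, lA, lH, lW, lZ, lpA, hwx, hwd, mul_inv_eq_one]
    have v : ∀ {x y : altOn U}, (x : Perm (Pt p)) = y → x = y := fun h => Subtype.ext h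
    refine ⟨?_, ?_, ?_, ?_, ?_, ?_, ?_, ?_, ?_, ?_, rfl, rfl, rfl⟩
    · refine v ?_
      rw [Subgroup.coe_pow, el_coe (mA 1), Subgroup.coe_one]
      have : ∀ n : ℕ, PA p 1 ^ n = PA p n := fun n => by
        induction n with
        | zero => exact pt_ext p (fun x => rfl) rfl fun t => by simp [PA_some]
        | succ n ih => rw [pow_succ, ih, PA_mul, Nat.cast_succ]
      rw [this, ZMod.natCast_self]
      exact pt_ext p (fun x => rfl) rfl fun t => by simp [PA_some]
    · exact v (by simp only [Subgroup.coe_mul, Subgroup.coe_inv, el_coe (mA _), el_coe mH, PH_conj, mul_one])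
    · exact v (by simp only [Subgroup.coe_mul, el_coe mH, el_coe mW, PH_PW])
    · exact v (by simp only [Subgroup.coe_mul, Subgroup.coe_one, el_coe mW, PW_sq])
    · refine v ?_
      simp only [Subgroup.coe_pow, Subgroup.coe_mul, Subgroup.coe_one, el_coe (mA _), el_coe mW, pow_succ,
        pow_zero, one_mul]
      exact PW_cube p
    · refine v ?_
      simp only [Subgroup.coe_mul, Subgroup.coe_inv, el_coe (mA _), el_coe mH, el_coe mW, PW_braid]
      rw [show (PH p μ)⁻¹ = PH p (ζ * ζ)⁻¹ from inv_eq_of_mul_eq_one_right (by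
        rw [PH_mul, mul_inv_cancel]; exact pt_ext p (fun x => rfl) rfl fun t => by simp [PH_some])]
    · refine v ?_
      simp only [Subgroup.coe_mul, el_coe (mA _), cz, el_coe (mC none)]
      rw [← mul_inv_eq_iff_eq_mul, conj_cyc]; rfl
    · refine v ?_
      simp only [Subgroup.coe_mul, el_coe mH, cz, el_coe (mC none)]
      rw [← mul_inv_eq_iff_eq_mul, conj_cyc]; rfl
    · exact v (by simp only [Subgroup.coe_mul, Subgroup.coe_one, cz, el_coe (mC none), cyc_cube hab (hne none).1 (hne none).2])
    · refine v ?_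
      simp only [Subgroup.coe_mul, Subgroup.coe_one, el_coe mW, cz, el_coe (mC none)]
      have : (PW p)⁻¹ = PW p := inv_eq_of_mul_eq_one_left (PW_sq p)
      have e1 : PW p * cyc eA eB (Sum.inr none) * PW p = cyc eA eB (Sum.inr (some 0)) := by
        conv_lhs => arg 2; rw [← this]
        rw [conj_cyc]; rfl
      rw [e1]
      exact cyc_pair hab (hne none).1 (hne none).2 (hne _).1 (hne _).2 (by simp)
  · rw [eq_top_iff, ← hcz, Subgroup.closure_le]
    rintro _ ⟨i, rfl⟩
    rw [← wxz, SetLike.mem_coe, ← FreeGroup.range_lift_eq_closure]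
    exact ⟨_, rfl⟩
  · intro H _ y π hπ hgen hy
    simp only [L, List.forall_mem_cons, List.not_mem_nil, false_imp_iff, implies_true, and_true, map_mul,
      map_inv, map_pow, mul_inv_eq_one] at hy
    set a := y 0
    set h := y 1
    set w := y 2
    set z := y 3
    have ya : FreeGroup.lift y gA = a := by simp [gA, a]
    have yh : FreeGroup.lift y gH = h := by simp [gH, h]
    have yw : FreeGroup.lift y gW = w := by simp [gW, w]
    have yz : FreeGroup.lift y gZ = z := by simp [gZ, z]
    obtain ⟨hap, hha, hhw, hww, hwa, hbr, haz, hhz, hz3, hzx, wa', wh', ww'⟩ := hy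
    simp only [pA, map_pow, ya, yh, yw, yz] at hap hha hhw hww hwa hbr haz hhz hz3 hzx
    rw [ya] at wa'
    rw [yh] at wh'
    rw [yw] at ww'
    let φ : Multiplicative (ZMod p) →* H :=
      { toFun := fun r => a ^ (Multiplicative.toAdd r).val
        map_one' := by simp
        map_mul' := fun r t => by
          rw [toAdd_mul, ZMod.val_add, ← pow_eq_pow_mod _ hap, pow_add] }
    have φ_def : ∀ r : ZMod p, φ (ofAdd r) = a ^ r.val := fun r => rfl
    have φ1 : φ (ofAdd 1) = a := by
      rw [φ_def, ZMod.val_one_eq_one_mod, Nat.mod_eq_of_lt (by omega : 1 < p), pow_one]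
    have hφ : ∀ r : ZMod p, h * φ (ofAdd r) * h⁻¹ = φ (ofAdd ((ζ : ZMod p) ^ 2 * r)) := fun r => by
      rw [φ_def, φ_def, show h * a ^ r.val * h⁻¹ = (h * a * h⁻¹) ^ r.val from (conj_pow).symm, hha,
        ← pow_mul, show (ζ : ZMod p) ^ 2 = (μ : ZMod p) by simp [μ, pow_two], ZMod.val_mul,
        ← pow_eq_pow_mod _ hap]
    have hw0 : w * w = h ^ (0 : ℤ) := by rw [zpow_zero]; exact hww
    have hbraid := S2286.cover hζ hφ hhw 1 odd_one ⟨_, SL2PresWeyl.braid_one hw0 (by rw [φ1]; exact hwa)⟩
      ⟨-1, by rw [pow_one, φ_def, φ_def, zpow_neg_one]; exact hbr⟩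
    let x0 := w * z * w
    let x : Option (ZMod p) → H := fun i => i.elim z fun r => φ (ofAdd r) * x0 * (φ (ofAdd r))⁻¹
    have hx : ∀ i, FreeGroup.lift y (wx i) = x i := by
      rintro (_ | r)
      · exact yz
      · simp only [wx, pA, Option.elim, map_mul, map_inv, map_pow, ya, yw, yz]; rfl
    have wwl : ∀ q : H, w * (w * q) = q := fun q => by rw [← mul_assoc, hww, one_mul]
    have winv : w⁻¹ = w := inv_eq_of_mul_eq_one_left hww
    have cz' : ∀ r, Commute (φ (ofAdd r)) z := fun r => by
      rw [φ_def]; exact (show Commute a z from haz).pow_left _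
    have cx0 : Commute h x0 := by
      have q : h * w = w * h⁻¹ := eq_mul_inv_of_mul_eq hhw
      have q2 : h⁻¹ * w = w * h := by
        rw [inv_mul_eq_iff_eq_mul, ← mul_assoc]; exact hhw.symm
      show h * (w * z * w) = w * z * w * h
      calc h * (w * z * w) = (h * w) * z * w := by group
        _ = w * (h⁻¹ * z) * w := by rw [q]; group
        _ = w * (z * h⁻¹) * w := by rw [((show Commute h z from hhz).inv_left).eq]
        _ = w * z * (h⁻¹ * w) := by group
        _ = _ := by rw [q2]; group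
    have wx_some : ∀ r : ZMod p, r ≠ 0 → w * x (some r) * w = x (some (-1 / r)) := fun r hr => by
      obtain ⟨j, hj⟩ := hbraid r hr
      show w * (φ (ofAdd r) * (w * z * w) * (φ (ofAdd r))⁻¹) * w = _
      set m := φ (ofAdd (-1 / r))
      have hj' : w * (φ (ofAdd r))⁻¹ * w = m⁻¹ * w * h ^ (-j) * m⁻¹ := by
        have := congrArg (fun q => q⁻¹) hj
        simp only [mul_inv_rev, winv] at this
        rw [zpow_neg]
        calc w * (φ (ofAdd r))⁻¹ * w = w * ((φ (ofAdd r))⁻¹ * w) := mul_assoc _ _ _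
          _ = _ := by rw [this]; group
      have cm : Commute z m⁻¹ := (cz' _).symm.inv_right
      calc w * (φ (ofAdd r) * (w * z * w) * (φ (ofAdd r))⁻¹) * w
          = (w * φ (ofAdd r) * w) * z * (w * (φ (ofAdd r))⁻¹ * w) := by group
        _ = m * h ^ j * w * m * z * (m⁻¹ * w * h ^ (-j) * m⁻¹) := by rw [hj, hj']
        _ = m * h ^ j * w * (m * z * m⁻¹) * w * h ^ (-j) * m⁻¹ := by group
        _ = m * h ^ j * x0 * h ^ (-j) * m⁻¹ := by
            rw [(cz' _).eq, mul_inv_cancel_right]; simp only [x0]; group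
        _ = m * x0 * m⁻¹ := by
            rw [mul_assoc m, (cx0.zpow_left j).eq, zpow_neg, ← mul_assoc m x0, mul_inv_cancel_right]
    have tr : ∀ (t : ZMod p) (i : Option (ZMod p)),
        φ (ofAdd t) * x i * (φ (ofAdd t))⁻¹ = x (i.map (· + t)) := by
      rintro t (_ | r)
      · show φ (ofAdd t) * z * _ = z; rw [(cz' t).eq, mul_inv_cancel_right]
      · show _ = φ (ofAdd (r + t)) * x0 * (φ (ofAdd (r + t)))⁻¹
        rw [add_comm r t, ofAdd_add, map_mul]; simp only [x, Option.elim]; group
    have csq : ∀ g p' q : H, p' * q * (p' * q) = 1 →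
        (g * p' * g⁻¹) * (g * q * g⁻¹) * ((g * p' * g⁻¹) * (g * q * g⁻¹)) = 1 := by
      intro g p' q e
      calc _ = g * (p' * q * (p' * q)) * g⁻¹ := by group
        _ = 1 := by rw [e]; group
    have x0e : x (some 0) = x0 := by simp [x]
    have pz : ∀ r, z * x (some r) * (z * x (some r)) = 1 := fun r => by
      have := csq (φ (ofAdd r)) z x0 hzx
      rwa [(cz' r).eq, mul_inv_cancel_right] at this
    have p0 : ∀ r, r ≠ 0 → x (some 0) * x (some r) * (x (some 0) * x (some r)) = 1 := fun r hr => by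
      have hs : (-1 : ZMod p) / r ≠ 0 := div_ne_zero (neg_ne_zero.mpr one_ne_zero) hr
      have := csq w z (x (some (-1 / r))) (pz _)
      rw [winv, wx_some _ hs, show (-1 : ZMod p) / (-1 / r) = r by field_simp] at this
      rw [x0e]; exact this
    have pair : ∀ i j, i ≠ j → x i * x j * (x i * x j) = 1 := by
      have pzs : ∀ r, x (some r) * z * (x (some r) * z) = 1 := fun r => by
        calc _ = z⁻¹ * (z * x (some r) * (z * x (some r))) * z := by group
          _ = 1 := by rw [pz]; group
      rintro (_ | r) (_ | t) hne'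
      · exact absurd rfl hne'
      · exact pz t
      · exact pzs r
      · have := csq (φ (ofAdd r)) _ _ (p0 (t - r) (sub_ne_zero.mpr fun e => hne' (e ▸ rfl)))
        rw [tr, tr] at this
        simpa using this
    have cube : ∀ i, x i * x i * x i = 1 := by
      have x03 : x0 * x0 * x0 = 1 := by
        simp only [x0, mul_assoc, wwl]
        rw [← mul_assoc z z, ← mul_assoc (z * z) z, hz3, one_mul, hww]
      rintro (_ | r)
      · exact hz3
      · show φ (ofAdd r) * x0 * _ * (φ (ofAdd r) * x0 * _) * (φ (ofAdd r) * x0 * _) = 1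
        rw [show ∀ g q : H, g * q * g⁻¹ * (g * q * g⁻¹) * (g * q * g⁻¹) = g * (q * q * q) * g⁻¹ from
          fun g q => by group, x03]
        group
    have hgen' : Subgroup.closure (Set.range x) = ⊤ := by
      rw [eq_top_iff, ← hgen, Subgroup.closure_le]
      have hin : ∀ g, FreeGroup.lift y (FreeGroup.lift wx g) ∈ Subgroup.closure (Set.range x) := fun g => by
        rw [map_word (FreeGroup.lift y) hx, ← FreeGroup.range_lift_eq_closure]; exact ⟨g, rfl⟩
      rintro _ ⟨i, rfl⟩
      fin_cases i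
      · show a ∈ _; rw [wa']; exact hin _
      · show h ∈ _; rw [wh']; exact hin _
      · show w ∈ _; rw [ww']; exact hin _
      · exact Subgroup.subset_closure ⟨none, rfl⟩
    have hπx : ∀ i, π (x i) = cz i := fun i => by
      rw [← hx, map_word π hπ, wxz]
    let y' : Pt p → H := Sum.elim (fun _ => 1) x
    refine (injective_iff_map_eq_one π).mpr fun g hg => eq_one_of_map hab y' ((altOn U).subtype.comp π) s hsA hsB
      (fun i hi => ?_) (fun i hi => ?_) (fun i hi j hj hij => ?_) g ?_ (by simp [hg])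
    · obtain ⟨k, -, rfl⟩ := Finset.mem_map.mp hi
      show ((altOn U).subtype (π (x k))) = _
      rw [hπx]; exact el_coe (mC k)
    · obtain ⟨k, -, rfl⟩ := Finset.mem_map.mp hi
      exact cube k
    · obtain ⟨k, -, rfl⟩ := Finset.mem_map.mp hi
      obtain ⟨l, -, rfl⟩ := Finset.mem_map.mp hj
      exact pair k l fun e => hij (e ▸ rfl)
    · have : Set.range x ⊆ y' '' (s : Set (Pt p)) := by
        rintro _ ⟨k, rfl⟩; exact ⟨Sum.inr k, by simp [s], rfl⟩
      exact Subgroup.closure_mono this (hgen' ▸ Subgroup.mem_top g)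

end Block

/-- every alternating group has a presentation with thirty-two relators -/
theorem short_alternating (n : ℕ) (hn : 4 ≤ n) : Short (alternatingGroup (Fin n)) 32 := by
  classical
  let a : Fin n := ⟨0, by omega⟩
  let b : Fin n := ⟨1, by omega⟩
  have hab : a ≠ b := by simp [a, b, Fin.ext_iff]
  let s : Finset (Fin n) := (Finset.univ.erase a).erase b
  have hs : s.card = n - 2 := by
    rw [Finset.card_erase_of_mem (by simp [hab.symm]), Finset.card_erase_of_mem (by simp), Finset.card_univ,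
      Fintype.card_fin]
    omega
  have hsa : a ∉ s := by simp [s]
  have hsb : b ∉ s := by simp [s]
  have hpts : pts a b s = Finset.univ := by
    ext x; simp only [pts, s, Finset.mem_insert, Finset.mem_erase, Finset.mem_univ, and_true, iff_true]
    tauto
  have eU : ∀ (m : ℕ), Short (altOn (pts a b s)) m → Short (alternatingGroup (Fin n)) m := fun m h => by
    refine h.congr (MulEquiv.subgroupCongr ?_)
    ext g; rw [hpts]; simp [mem_altOn]
  rcases Nat.lt_or_ge n 8 with h8 | h8
  · refine (eU _ (short_small hab s hsa hsb)).mono ?_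
    rw [hs]; interval_cases n <;> norm_num
  obtain ⟨p, hp, hp5, hlo, hhi⟩ : ∃ p, p.Prime ∧ 5 ≤ p ∧ p + 3 ≤ n ∧ n ≤ 2 * p + 4 := by
    rcases Nat.lt_or_ge n 10 with h10 | h10
    · exact ⟨5, by norm_num, le_rfl, by omega, by omega⟩
    obtain ⟨p, hp, h1, h2⟩ := Nat.exists_prime_lt_and_le_two_mul ((n - 4) / 2) (by omega)
    refine ⟨p, hp, ?_, by omega, by omega⟩
    rcases Nat.lt_or_ge p 5 with h | h
    · have : p = 4 := by omega
      subst this; norm_num at hp
    · exact h
  haveI : Fact p.Prime := ⟨hp⟩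
  haveI : NeZero p := ⟨hp.pos.ne'⟩
  have blockN : ∀ t : Finset (Fin n), t.card = p + 1 → a ∉ t → b ∉ t → Short (altOn (pts a b t)) 13 := by
    intro t ht hta htb
    have hc : Fintype.card (Pt p) = Fintype.card {x // x ∈ pts a b t} := by
      rw [Fintype.card_coe, Finset.card_insert_of_notMem (by simp [hab, hta]),
        Finset.card_insert_of_notMem htb, ht]
      simp [Pt, Fintype.card_option]; omega
    let e : altOn (Finset.univ : Finset (Pt p)) ≃* alternatingGroup (Pt p) := MulEquiv.subgroupCongr (by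
      ext g; simp [mem_altOn])
    exact (short_block p hp5).congr (e.trans ((Equiv.altCongrHom (Fintype.equivOfCardEq hc)).trans (altEquiv _)))
  obtain ⟨sA, hA1, hA2⟩ := Finset.exists_subset_card_eq (s := s) (n := p + 1) (by omega)
  obtain ⟨sB, hB1, hB2, hB3⟩ := Finset.exists_subsuperset_card_eq (s := s \ sA) (t := s) (n := p + 1)
    Finset.sdiff_subset (by rw [Finset.card_sdiff_of_subset hA1]; omega) (by omega)
  have hun : sA ∪ sB = s := by
    apply le_antisymm (Finset.union_subset hA1 hB2)
    intro x hx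
    by_cases h : x ∈ sA
    · exact Finset.mem_union_left _ h
    · exact Finset.mem_union_right _ (hB1 (Finset.mem_sdiff.mpr ⟨hx, h⟩))
  have := short_union hab sA sB (fun h => hsa (hA1 h)) (fun h => hsb (hA1 h)) (fun h => hsa (hB2 h))
    (fun h => hsb (hB2 h)) (blockN sA hA2 (fun h => hsa (hA1 h)) (fun h => hsb (hA1 h)))
    (blockN sB hB3 (fun h => hsa (hB2 h)) (fun h => hsb (hB2 h)))
  rw [hun] at this
  exact eU _ (this.mono (by norm_num))

end Cfsg.Agent.ShortPresBlock
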