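import Cfsg.Agent.Lib.ShortPresTools
import Cfsg.Agent.Lib.ShortPresCarmichael

/-!
Presentations of alternating groups on subsets: small degrees directly, and the glueing of two
overlapping alternating groups by six further relators.
-/

set_option autoImplicit false

namespace Cfsg.Agent.ShortPresGlue

open Equiv Equiv.Perm ShortPres ShortPresCarmichael

variable {α : Type} [Fintype α] [DecidableEq α]

/-- even permutations fixing the complement of `S` -/
def altOn (S : Finset α) : Subgroup (Perm α) where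
  carrier := {g | sign g = 1 ∧ ∀ x ∉ S, g x = x}
  one_mem' := ⟨map_one _, fun _ _ => rfl⟩
  mul_mem' := fun {g h} hg hh => ⟨by rw [map_mul, hg.1, hh.1, mul_one],
    fun x hx => by rw [Perm.mul_apply, hh.2 x hx, hg.2 x hx]⟩
  inv_mem' := fun {g} hg => ⟨by rw [map_inv, hg.1, inv_one],
    fun x hx => by rw [Perm.inv_def, Equiv.symm_apply_eq, hg.2 x hx]⟩

theorem mem_altOn {S : Finset α} {g : Perm α} : g ∈ altOn S ↔ sign g = 1 ∧ ∀ x ∉ S, g x = x := Iff.rfl

theorem altOn_mono {S T : Finset α} (h : S ⊆ T) : altOn S ≤ altOn T :=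
  fun _ hg => ⟨hg.1, fun x hx => hg.2 x fun hxS => hx (h hxS)⟩

/-- the element with value `g`, or `1` -/
def el (S : Finset α) (g : Perm α) : altOn S :=
  if h : sign g = 1 ∧ ∀ x ∉ S, g x = x then ⟨g, h⟩ else 1

theorem el_coe {S : Finset α} {g : Perm α} (h : g ∈ altOn S) : (el S g : Perm α) = g := by
  rw [el, dif_pos (mem_altOn.mp h)]

theorem el_val {S : Finset α} (g : altOn S) : el S g.1 = g := Subtype.ext (el_coe g.2)

theorem el_one (S : Finset α) : el S 1 = 1 := el_val (1 : altOn S)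

theorem el_mul {S : Finset α} {g h : Perm α} (hg : g ∈ altOn S) (hh : h ∈ altOn S) :
    el S (g * h) = el S g * el S h :=
  Subtype.ext (by rw [el_coe (Subgroup.mul_mem _ hg hh), Subgroup.coe_mul, el_coe hg, el_coe hh])

theorem el_inv {S : Finset α} {g : Perm α} (hg : g ∈ altOn S) : el S g⁻¹ = (el S g)⁻¹ :=
  Subtype.ext (by rw [el_coe (Subgroup.inv_mem _ hg), Subgroup.coe_inv, el_coe hg])

theorem el_conj {S : Finset α} {g h : Perm α} (hg : g ∈ altOn S) (hh : h ∈ altOn S) :
    el S (g * h * g⁻¹) = el S g * el S h * (el S g)⁻¹ := by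
  rw [el_mul (Subgroup.mul_mem _ hg hh) (Subgroup.inv_mem _ hg), el_mul hg hh, el_inv hg]

variable {a b : α}

/-- the set of points moved by `s` together with the base pair -/
abbrev pts (a b : α) (s : Finset α) : Finset α := insert a (insert b s)

theorem cyc_mem (hab : a ≠ b) {s : Finset α} (hb : b ∉ s) {i : α} (hi : i ∈ s) :
    cyc a b i ∈ altOn (pts a b s) := by
  refine ⟨sign_cyc hab fun e => hb (e ▸ hi), fun x hx => ?_⟩
  simp only [Finset.mem_insert, not_or] at hx
  exact cyc_other hx.1 hx.2.1 fun e => hx.2.2 (e ▸ hi)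

theorem cyc_pair (hab : a ≠ b) {i j : α} (hia : i ≠ a) (hib : i ≠ b) (hja : j ≠ a) (hjb : j ≠ b) (hij : i ≠ j) :
    cyc a b i * cyc a b j * (cyc a b i * cyc a b j) = 1 := by
  refine Equiv.ext fun x => ?_
  simp only [Perm.mul_apply, Perm.one_apply]
  by_cases ha : x = a
  · subst ha; rw [cyc_a hab hja, cyc_b hia hib, cyc_other hia hib hij, cyc_i]
  by_cases hb : x = b
  · subst hb
    rw [cyc_b hja hjb, cyc_other hja hjb hij.symm, cyc_i, cyc_a hab hia]
  by_cases hi : x = i
  · subst hi; rw [cyc_other hia hib hij, cyc_i, cyc_a hab hja, cyc_b hia hib]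
  by_cases hj : x = j
  · subst hj; rw [cyc_i, cyc_a hab hia, cyc_b hja hjb, cyc_other hja hjb hij.symm]
  rw [cyc_other ha hb hj, cyc_other ha hb hi, cyc_other ha hb hj, cyc_other ha hb hi]

theorem cyc_cube (hab : a ≠ b) {i : α} (hia : i ≠ a) (hib : i ≠ b) :
    cyc a b i * cyc a b i * cyc a b i = 1 := by
  refine Equiv.ext fun x => ?_
  simp only [Perm.mul_apply, Perm.one_apply]
  by_cases ha : x = a
  · subst ha; rw [cyc_a hab hia, cyc_b hia hib, cyc_i]
  by_cases hb : x = b
  · subst hb; rw [cyc_b hia hib, cyc_i, cyc_a hab hia]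
  by_cases hi : x = i
  · subst hi; rw [cyc_i, cyc_a hab hia, cyc_b hia hib]
  simp only [cyc_other ha hb hi]

/-- a transporter: transitive on `s`, fixing or swapping the base pair -/
theorem exists_transport (hab : a ≠ b) (s : Finset α) (ha : a ∉ s) (hb : b ∉ s) :
    ∃ g ∈ altOn (pts a b s), (g a = a ∧ g b = b ∨ g a = b ∧ g b = a) ∧
      ∀ i ∈ s, ∀ j ∈ s, ∃ n : ℕ, (g ^ n) i = j := by
  obtain ⟨f, hf, hsupp⟩ := Finset.exists_cycleOn s
  have fix : ∀ x, x ∉ s → f x = x := fun x hx => notMem_support.mp fun h => hx (hsupp h)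
  have tr : ∀ i ∈ s, ∀ j ∈ s, ∃ n : ℕ, (f ^ n) i = j := fun i hi j hj =>
    (hf.exists_pow_eq hi hj).imp fun n hn => hn.2
  rcases Int.units_eq_one_or (sign f) with h | h
  · exact ⟨f, ⟨h, fun x hx => fix x fun hxs => hx (by simp [hxs])⟩, Or.inl ⟨fix a ha, fix b hb⟩, tr⟩
  · refine ⟨f * swap a b, ⟨by rw [map_mul, h, sign_swap hab]; rfl, fun x hx => ?_⟩,
      Or.inr ⟨by simp [fix b hb], by simp [fix a ha]⟩, fun i hi j hj => ?_⟩
    · simp only [Finset.mem_insert, not_or] at hx
      rw [Perm.mul_apply, swap_apply_of_ne_of_ne hx.1 hx.2.1, fix x hx.2.2]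
    · obtain ⟨n, hn⟩ := tr i hi j hj
      refine ⟨n, ?_⟩
      rw [← hn]
      have : ∀ m : ℕ, ((f * swap a b) ^ m) i = (f ^ m) i ∧ (f ^ m) i ∈ s := by
        intro m
        induction m with
        | zero => exact ⟨rfl, hi⟩
        | succ m ih =>
          have hm := ih.2
          have hm' : (f ^ (m + 1)) i ∈ s := by
            rw [pow_succ', Perm.mul_apply]
            exact Finset.mem_coe.mp (hf.1.mapsTo (Finset.mem_coe.mpr hm))
          refine ⟨?_, hm'⟩
          rw [pow_succ', Perm.mul_apply, ih.1, Perm.mul_apply,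
            swap_apply_of_ne_of_ne (fun e : (f ^ m) i = a => ha (e ▸ hm)) (fun e : (f ^ m) i = b => hb (e ▸ hm)),
            pow_succ', Perm.mul_apply]
      exact (this n).1

theorem conj_cyc_cases (hab : a ≠ b) {g : Perm α} (hg : g a = a ∧ g b = b ∨ g a = b ∧ g b = a) {i : α}
    (hia : i ≠ a) (hib : i ≠ b) :
    g * cyc a b i * g⁻¹ = cyc a b (g i) ∨ g * cyc a b i * g⁻¹ = (cyc a b (g i))⁻¹ := by
  rw [conj_cyc]
  rcases hg with ⟨h1, h2⟩ | ⟨h1, h2⟩ <;> rw [h1, h2]
  · exact Or.inl rfl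
  · refine Or.inr (cyc_swap hab ?_ ?_)
    · intro e; exact hib (g.injective (e.trans h2.symm))
    · intro e; exact hia (g.injective (e.trans h1.symm))

/-- properties invariant under conjugation by a transporter spread from one cycle to all -/
theorem orbit_induction (hab : a ≠ b) {s : Finset α} (ha : a ∉ s) (hb : b ∉ s) {g : Perm α}
    (hg : g a = a ∧ g b = b ∨ g a = b ∧ g b = a) (htr : ∀ i ∈ s, ∀ j ∈ s, ∃ n : ℕ, (g ^ n) i = j)
    (Q : Perm α → Prop) {o : α} (ho : o ∈ s) (h0 : Q (cyc a b o)) (hinv : ∀ σ, Q σ → Q σ⁻¹)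
    (hconj : ∀ σ, Q σ → Q (g * σ * g⁻¹)) (i : α) (hi : i ∈ s) : Q (cyc a b i) := by
  obtain ⟨n, rfl⟩ := htr o ho i hi
  clear hi
  have hne : ∀ m : ℕ, (g ^ m) o ≠ a ∧ (g ^ m) o ≠ b := by
    intro m
    induction m with
    | zero => exact ⟨fun e => ha (e ▸ ho), fun e => hb (e ▸ ho)⟩
    | succ m ih =>
      rw [pow_succ', Perm.mul_apply]
      rcases hg with ⟨h1, h2⟩ | ⟨h1, h2⟩
      · exact ⟨fun e => ih.1 (g.injective (e.trans h1.symm)), fun e => ih.2 (g.injective (e.trans h2.symm))⟩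
      · exact ⟨fun e => ih.2 (g.injective (e.trans h2.symm)), fun e => ih.1 (g.injective (e.trans h1.symm))⟩
  induction n with
  | zero => simpa using h0
  | succ m ih =>
    have h := hconj _ ih
    rw [pow_succ', Perm.mul_apply]
    rcases conj_cyc_cases hab hg (hne m).1 (hne m).2 with e | e <;> rw [e] at h
    · exact h
    · simpa using hinv _ h

/-- an optional relator at a chosen point -/
noncomputable def opt {W : Type*} (s : Finset α) (f : α → W) : List W :=
  if h : s.Nonempty then [f h.choose] else []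

theorem opt_length {W : Type*} (s : Finset α) (f : α → W) : (opt s f).length ≤ 1 := by
  unfold opt; split <;> simp

theorem opt_sat {W : Type*} {s : Finset α} {f : α → W} {P : W → Prop} (h : ∀ i ∈ s, P (f i)) :
    ∀ r ∈ opt s f, P r := by
  unfold opt; split
  · rename_i hs; simpa using h _ hs.choose_spec
  · simp

theorem opt_use {W : Type*} {s : Finset α} {f : α → W} {P : W → Prop} (h : ∀ r ∈ opt s f, P r)
    (hs : s.Nonempty) : ∃ i ∈ s, P (f i) := by
  refine ⟨hs.choose, hs.choose_spec, h _ ?_⟩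
  rw [opt, dif_pos hs]; simp

/-- the glueing data -/
theorem union_data (hab : a ≠ b) (sA sB : Finset α) (haA : a ∉ sA) (hbA : b ∉ sA) (haB : a ∉ sB) (hbB : b ∉ sB)
    :
    ∀ (iA : altOn (pts a b sA) →* altOn (pts a b (sA ∪ sB))) (iB : altOn (pts a b sB) →* altOn (pts a b (sA ∪ sB))),
    (∀ g, (iA g : Perm α) = g) → (∀ g, (iB g : Perm α) = g) →
    ∃ E : List (FreeGroup (altOn (pts a b sA) ⊕ altOn (pts a b sB))), E.length ≤ 6 ∧ iA.range ⊔ iB.range = ⊤ ∧
      (∀ r ∈ E, FreeGroup.lift (Sum.elim iA iB) r = 1) ∧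
      ∀ (H : Type) [Group H] (fA : altOn (pts a b sA) →* H) (fB : altOn (pts a b sB) →* H)
        (π : H →* altOn (pts a b (sA ∪ sB))), (∀ x, π (fA x) = iA x) → (∀ x, π (fB x) = iB x) →
        fA.range ⊔ fB.range = ⊤ → (∀ r ∈ E, FreeGroup.lift (Sum.elim fA fB) r = 1) → Function.Injective π := by
  classical
  obtain ⟨gO, hgO, hgOab, htO⟩ := exists_transport hab (sA ∩ sB) (fun h => haA (Finset.mem_inter.mp h).1)
    (fun h => hbA (Finset.mem_inter.mp h).1)
  obtain ⟨gA, hgA, hgAab, htA⟩ := exists_transport hab (sA \ sB) (fun h => haA (Finset.mem_sdiff.mp h).1)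
    (fun h => hbA (Finset.mem_sdiff.mp h).1)
  obtain ⟨gB, hgB, hgBab, htB⟩ := exists_transport hab (sB \ sA) (fun h => haB (Finset.mem_sdiff.mp h).1)
    (fun h => hbB (Finset.mem_sdiff.mp h).1)
  set SA := pts a b sA
  set SB := pts a b sB
  set S := pts a b (sA ∪ sB)
  intro iA iB hiA hiB
  have sA_le : SA ⊆ S := Finset.insert_subset_insert _ (Finset.insert_subset_insert _ Finset.subset_union_left)
  have sB_le : SB ⊆ S := Finset.insert_subset_insert _ (Finset.insert_subset_insert _ Finset.subset_union_right)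
  have memA : ∀ {t : Finset α} {g : Perm α}, t ⊆ sA → g ∈ altOn (pts a b t) → g ∈ altOn SA := fun ht hg =>
    altOn_mono (Finset.insert_subset_insert _ (Finset.insert_subset_insert _ ht)) hg
  have memB : ∀ {t : Finset α} {g : Perm α}, t ⊆ sB → g ∈ altOn (pts a b t) → g ∈ altOn SB := fun ht hg =>
    altOn_mono (Finset.insert_subset_insert _ (Finset.insert_subset_insert _ ht)) hg
  have gOA : gO ∈ altOn SA := memA Finset.inter_subset_left hgO
  have gOB : gO ∈ altOn SB := memB Finset.inter_subset_right hgO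
  have gAA : gA ∈ altOn SA := memA Finset.sdiff_subset hgA
  have gBB : gB ∈ altOn SB := memB Finset.sdiff_subset hgB
  have cA : ∀ {i : α}, i ∈ sA → cyc a b i ∈ altOn SA := fun hi => cyc_mem hab hbA hi
  have cB : ∀ {i : α}, i ∈ sB → cyc a b i ∈ altOn SB := fun hi => cyc_mem hab hbB hi
  -- a transporter of one difference set normalises the other
  have cross : ∀ {s : Finset α} {g : Perm α}, a ∉ s → b ∉ s → (g a = a ∧ g b = b ∨ g a = b ∧ g b = a) →
      (∀ x ∈ s, g x = x) → ∀ i ∈ s, g * cyc a b i * g⁻¹ = cyc a b i ∨ g * cyc a b i * g⁻¹ = (cyc a b i)⁻¹ := by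
    intro s g ha hb hg hfix i hi
    simpa [hfix i hi] using conj_cyc_cases hab hg (i := i) (fun e => ha (e ▸ hi)) (fun e => hb (e ▸ hi))
  have fixA : ∀ x ∈ sB \ sA, gA x = x := fun x hx => hgA.2 x (by
    obtain ⟨h1, h2⟩ := Finset.mem_sdiff.mp hx
    simp [show x ≠ a from fun e => haB (e ▸ h1), show x ≠ b from fun e => hbB (e ▸ h1), h2])
  have fixB : ∀ x ∈ sA \ sB, gB x = x := fun x hx => hgB.2 x (by
    obtain ⟨h1, h2⟩ := Finset.mem_sdiff.mp hx
    simp [show x ≠ a from fun e => haA (e ▸ h1), show x ≠ b from fun e => hbA (e ▸ h1), h2])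
  have gAB : gA * gB = gB * gA := by
    refine Equiv.ext fun x => ?_
    simp only [Perm.mul_apply]
    by_cases hx : x = a ∨ x = b
    · rcases hgAab with ⟨p1, p2⟩ | ⟨p1, p2⟩ <;> rcases hgBab with ⟨q1, q2⟩ | ⟨q1, q2⟩ <;>
        rcases hx with rfl | rfl <;> simp [p1, p2, q1, q2]
    have key : ∀ y : α, y ≠ a → y ≠ b → gA y = y ∨ gB y = y := fun y hy1 hy2 => by
      by_cases h : y ∈ sA \ sB
      · exact Or.inr (fixB y h)
      · exact Or.inl (hgA.2 y (by simp [hy1, hy2]; simpa using h))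
    push Not at hx
    have pab : ∀ (g : Perm α), (g a = a ∧ g b = b ∨ g a = b ∧ g b = a) → g x ≠ a ∧ g x ≠ b := by
      rintro g (⟨h1, h2⟩ | ⟨h1, h2⟩)
      · exact ⟨fun e => hx.1 (g.injective (e.trans h1.symm)), fun e => hx.2 (g.injective (e.trans h2.symm))⟩
      · exact ⟨fun e => hx.2 (g.injective (e.trans h2.symm)), fun e => hx.1 (g.injective (e.trans h1.symm))⟩
    rcases key x hx.1 hx.2 with h | h
    · rw [h]
      rcases key (gB x) (pab gB hgBab).1 (pab gB hgBab).2 with h' | h'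
      · exact h'
      · have : gB x = x := gB.injective h'
        rw [this, h]
    · rw [h]
      rcases key (gA x) (pab gA hgAab).1 (pab gA hgAab).2 with h' | h'
      · have : gA x = x := gA.injective h'
        rw [this, h]
      · exact h'.symm
  let wA : Perm α → FreeGroup (altOn SA ⊕ altOn SB) := fun g => FreeGroup.of (Sum.inl (el SA g))
  let wB : Perm α → FreeGroup (altOn SA ⊕ altOn SB) := fun g => FreeGroup.of (Sum.inr (el SB g))
  let E : List (FreeGroup (altOn SA ⊕ altOn SB)) :=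
    [wA gO * (wB gO)⁻¹, wA gA * wB gB * (wB gB * wA gA)⁻¹] ++
    opt (sA ∩ sB) (fun o => wA (cyc a b o) * (wB (cyc a b o))⁻¹) ++
    opt (sB \ sA) (fun j => wA gA * wB (cyc a b j) * (wA gA)⁻¹ * (wB (gA * cyc a b j * gA⁻¹))⁻¹) ++
    opt (sA \ sB) (fun i => wB gB * wA (cyc a b i) * (wB gB)⁻¹ * (wA (gB * cyc a b i * gB⁻¹))⁻¹) ++
    (opt (sA \ sB) (fun i => opt (sB \ sA) fun j => (wA (cyc a b i) * wB (cyc a b j)) ^ 2)).flatten
  have hE : E.length ≤ 6 := by
    simp only [E, List.length_append, List.length_cons, List.length_nil]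
    have h4 : (opt (sA \ sB) (fun i => opt (sB \ sA) fun j => (wA (cyc a b i) * wB (cyc a b j)) ^ 2)).flatten.length ≤ 1 := by
      unfold opt; split_ifs <;> simp
    have := opt_length (sA ∩ sB) (fun o => wA (cyc a b o) * (wB (cyc a b o))⁻¹)
    have := opt_length (sB \ sA) (fun j => wA gA * wB (cyc a b j) * (wA gA)⁻¹ * (wB (gA * cyc a b j * gA⁻¹))⁻¹)
    have := opt_length (sA \ sB) (fun i => wB gB * wA (cyc a b i) * (wB gB)⁻¹ * (wA (gB * cyc a b i * gB⁻¹))⁻¹)
    omega
  -- the cycles generate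
  have gens : ∀ {H : Type} [Group H] (s : Finset α) (ha : a ∉ s) (hb : b ∉ s) (f : altOn (pts a b s) →* H)
      (K : Subgroup H), (∀ i ∈ s, f (el _ (cyc a b i)) ∈ K) → ∀ g, f g ∈ K := by
    intro H _ s ha hb f K hK g
    have : ∀ σ ∈ Subgroup.closure (cyc a b '' (s : Set α)), σ ∈ altOn (pts a b s) ∧ f (el _ σ) ∈ K := by
      intro σ hσ
      induction hσ using Subgroup.closure_induction with
      | mem x hx =>
        obtain ⟨i, hi, rfl⟩ := hx
        exact ⟨cyc_mem hab hb hi, hK i hi⟩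
      | one => exact ⟨one_mem _, by rw [el_one, map_one]; exact K.one_mem⟩
      | mul x y _ _ hx hy =>
        exact ⟨mul_mem hx.1 hy.1, by rw [el_mul hx.1 hy.1, map_mul]; exact K.mul_mem hx.2 hy.2⟩
      | inv x _ hx => exact ⟨inv_mem hx.1, by rw [el_inv hx.1, map_inv]; exact K.inv_mem hx.2⟩
    simpa [el_val] using (this g.1 (mem_closure_cyc hab s ha hb g.1 g.2.1 g.2.2)).2
  refine ⟨E, hE, ?_, ?_, ?_⟩
  · refine eq_top_iff.mpr fun g _ => ?_
    have hmem : ∀ i ∈ sA ∪ sB, el S (cyc a b i) ∈ iA.range ⊔ iB.range := by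
      intro i hi
      rcases Finset.mem_union.mp hi with h | h
      · exact Subgroup.mem_sup_left ⟨el SA (cyc a b i), Subtype.ext (by
          rw [hiA, el_coe (cA h), el_coe (altOn_mono sA_le (cA h))])⟩
      · exact Subgroup.mem_sup_right ⟨el SB (cyc a b i), Subtype.ext (by
          rw [hiB, el_coe (cB h), el_coe (altOn_mono sB_le (cB h))])⟩
    exact gens (sA ∪ sB) (by simp [haA, haB]) (by simp [hbA, hbB]) (MonoidHom.id (altOn S))
      (iA.range ⊔ iB.range) hmem g
  · have eA : ∀ {g : Perm α}, g ∈ altOn SA → ((iA (el SA g)) : Perm α) = g := fun hg => by rw [hiA, el_coe hg]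
    have eB : ∀ {g : Perm α}, g ∈ altOn SB → ((iB (el SB g)) : Perm α) = g := fun hg => by rw [hiB, el_coe hg]
    simp only [E, List.forall_mem_append, List.forall_mem_cons, List.not_mem_nil, false_imp_iff,
      implies_true, and_true]
    have val : ∀ {x y : altOn S}, (x : Perm α) = y → x = y := fun h => Subtype.ext h
    refine ⟨⟨⟨⟨⟨?_, ?_⟩, opt_sat fun o ho => ?_⟩, opt_sat fun j hj => ?_⟩, opt_sat fun i hi => ?_⟩, ?_⟩
    · simp only [wA, wB, map_mul, map_inv, FreeGroup.lift_apply_of, Sum.elim_inl, Sum.elim_inr]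
      rw [mul_inv_eq_one]; exact val (by rw [eA gOA, eB gOB])
    · simp only [wA, wB, map_mul, map_inv, FreeGroup.lift_apply_of, Sum.elim_inl, Sum.elim_inr]
      rw [mul_inv_eq_one]; exact val (by simp only [Subgroup.coe_mul, eA gAA, eB gBB, gAB])
    · obtain ⟨h1, h2⟩ := Finset.mem_inter.mp ho
      simp only [wA, wB, map_mul, map_inv, FreeGroup.lift_apply_of, Sum.elim_inl, Sum.elim_inr]
      rw [mul_inv_eq_one]; exact val (by rw [eA (cA h1), eB (cB h2)])
    · obtain ⟨h1, h2⟩ := Finset.mem_sdiff.mp hj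
      have hm : gA * cyc a b j * gA⁻¹ ∈ altOn SB := by
        rcases cross (fun h => haB (Finset.mem_sdiff.mp h).1) (fun h => hbB (Finset.mem_sdiff.mp h).1)
          hgAab fixA j hj with e | e <;> rw [e]
        exacts [cB h1, inv_mem (cB h1)]
      simp only [wA, wB, map_mul, map_inv, FreeGroup.lift_apply_of, Sum.elim_inl, Sum.elim_inr]
      rw [mul_inv_eq_one]; exact val (by simp only [Subgroup.coe_mul, Subgroup.coe_inv, eA gAA, eB (cB h1), eB hm])
    · obtain ⟨h1, h2⟩ := Finset.mem_sdiff.mp hi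
      have hm : gB * cyc a b i * gB⁻¹ ∈ altOn SA := by
        rcases cross (fun h => haA (Finset.mem_sdiff.mp h).1) (fun h => hbA (Finset.mem_sdiff.mp h).1)
          hgBab fixB i hi with e | e <;> rw [e]
        exacts [cA h1, inv_mem (cA h1)]
      simp only [wA, wB, map_mul, map_inv, FreeGroup.lift_apply_of, Sum.elim_inl, Sum.elim_inr]
      rw [mul_inv_eq_one]; exact val (by simp only [Subgroup.coe_mul, Subgroup.coe_inv, eB gBB, eA (cA h1), eA hm])
    · simp only [List.mem_flatten]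
      rintro r ⟨l, hl, hr⟩
      revert r
      refine opt_sat (P := fun l => ∀ r ∈ l, FreeGroup.lift (Sum.elim iA iB) r = 1)
        (fun i hi => opt_sat fun j hj => ?_) l hl
      obtain ⟨h1, h2⟩ := Finset.mem_sdiff.mp hi
      obtain ⟨h3, h4⟩ := Finset.mem_sdiff.mp hj
      simp only [wA, wB, pow_two, map_mul, FreeGroup.lift_apply_of, Sum.elim_inl, Sum.elim_inr]
      refine val ?_
      simp only [Subgroup.coe_mul, Subgroup.coe_one, eA (cA h1), eB (cB h3)]
      exact cyc_pair hab (fun e => haA (e ▸ h1)) (fun e => hbA (e ▸ h1)) (fun e => haB (e ▸ h3))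
        (fun e => hbB (e ▸ h3)) (fun e => h4 (e ▸ h1))
  · intro H _ fA fB π hπA hπB hgen hrel
    simp only [E, List.forall_mem_append, List.forall_mem_cons, List.not_mem_nil, false_imp_iff,
      implies_true, and_true] at hrel
    obtain ⟨⟨⟨⟨⟨hO1, hcomm⟩, hO2⟩, hAB⟩, hBA⟩, hP⟩ := hrel
    simp only [wA, wB, map_mul, map_inv, FreeGroup.lift_apply_of, Sum.elim_inl, Sum.elim_inr,
      mul_inv_eq_one] at hO1 hcomm
    set u : α → H := fun i => fA (el SA (cyc a b i))
    set v : α → H := fun i => fB (el SB (cyc a b i))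
    have agree : ∀ i ∈ sA ∩ sB, u i = v i := by
      intro i hi
      obtain ⟨o, ho, ho'⟩ := opt_use hO2 ⟨i, hi⟩
      simp only [wA, wB, map_mul, map_inv, FreeGroup.lift_apply_of, Sum.elim_inl, Sum.elim_inr,
        mul_inv_eq_one] at ho'
      refine (orbit_induction hab (fun h => haA (Finset.mem_inter.mp h).1) (fun h => hbA (Finset.mem_inter.mp h).1)
        hgOab htO (fun σ => σ ∈ altOn SA ∧ σ ∈ altOn SB ∧ fA (el SA σ) = fB (el SB σ)) ho
        ⟨cA (Finset.mem_inter.mp ho).1, cB (Finset.mem_inter.mp ho).2, ho'⟩ (fun σ hσ => ?_) (fun σ hσ => ?_)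
        i hi).2.2
      · exact ⟨inv_mem hσ.1, inv_mem hσ.2.1, by rw [el_inv hσ.1, el_inv hσ.2.1, map_inv, map_inv, hσ.2.2]⟩
      · exact ⟨mul_mem (mul_mem gOA hσ.1) (inv_mem gOA), mul_mem (mul_mem gOB hσ.2.1) (inv_mem gOB), by
          rw [el_conj gOA hσ.1, el_conj gOB hσ.2.1]; simp only [map_mul, map_inv, hO1, hσ.2.2]⟩
    have conjA : ∀ j ∈ sB \ sA, gA * cyc a b j * gA⁻¹ ∈ altOn SB ∧
        fA (el SA gA) * v j * (fA (el SA gA))⁻¹ = fB (el SB (gA * cyc a b j * gA⁻¹)) := by
      intro j hj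
      obtain ⟨o, ho, ho'⟩ := opt_use hAB ⟨j, hj⟩
      simp only [wA, wB, map_mul, map_inv, FreeGroup.lift_apply_of, Sum.elim_inl, Sum.elim_inr,
        mul_inv_eq_one] at ho'
      have ha' : a ∉ sB \ sA := fun h => haB (Finset.mem_sdiff.mp h).1
      have hb' : b ∉ sB \ sA := fun h => hbB (Finset.mem_sdiff.mp h).1
      have h0 : gA * cyc a b o * gA⁻¹ ∈ altOn SB := by
        rcases cross ha' hb' hgAab fixA o ho with e | e <;> rw [e]
        exacts [cB (Finset.mem_sdiff.mp ho).1, inv_mem (cB (Finset.mem_sdiff.mp ho).1)]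
      refine (orbit_induction hab ha' hb' hgBab htB (fun σ => σ ∈ altOn SB ∧ gA * σ * gA⁻¹ ∈ altOn SB ∧
        fA (el SA gA) * fB (el SB σ) * (fA (el SA gA))⁻¹ = fB (el SB (gA * σ * gA⁻¹))) ho
        ⟨cB (Finset.mem_sdiff.mp ho).1, h0, ho'⟩ (fun σ hσ => ?_) (fun σ hσ => ?_) j hj).2
      · have e : gA * σ⁻¹ * gA⁻¹ = (gA * σ * gA⁻¹)⁻¹ := by group
        refine ⟨inv_mem hσ.1, e ▸ inv_mem hσ.2.1, ?_⟩
        rw [e, el_inv hσ.1, el_inv hσ.2.1, map_inv, map_inv, ← hσ.2.2]; group
      · have e : gA * (gB * σ * gB⁻¹) * gA⁻¹ = gB * (gA * σ * gA⁻¹) * gB⁻¹ := by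
          calc gA * (gB * σ * gB⁻¹) * gA⁻¹ = (gA * gB) * σ * (gA * gB)⁻¹ := by group
            _ = _ := by rw [gAB]; group
        refine ⟨mul_mem (mul_mem gBB hσ.1) (inv_mem gBB), e ▸ mul_mem (mul_mem gBB hσ.2.1) (inv_mem gBB), ?_⟩
        rw [e, el_conj gBB hσ.1, el_conj gBB hσ.2.1]
        simp only [map_mul, map_inv, ← hσ.2.2]
        set x := fA (el SA gA)
        set y := fB (el SB gB)
        calc x * (y * fB (el SB σ) * y⁻¹) * x⁻¹ = (x * y) * fB (el SB σ) * (x * y)⁻¹ := by group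
          _ = _ := by rw [hcomm]; group
    have conjB : ∀ i ∈ sA \ sB, gB * cyc a b i * gB⁻¹ ∈ altOn SA ∧
        fB (el SB gB) * u i * (fB (el SB gB))⁻¹ = fA (el SA (gB * cyc a b i * gB⁻¹)) := by
      intro i hi
      obtain ⟨o, ho, ho'⟩ := opt_use hBA ⟨i, hi⟩
      simp only [wA, wB, map_mul, map_inv, FreeGroup.lift_apply_of, Sum.elim_inl, Sum.elim_inr,
        mul_inv_eq_one] at ho'
      have ha' : a ∉ sA \ sB := fun h => haA (Finset.mem_sdiff.mp h).1
      have hb' : b ∉ sA \ sB := fun h => hbA (Finset.mem_sdiff.mp h).1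
      have h0 : gB * cyc a b o * gB⁻¹ ∈ altOn SA := by
        rcases cross ha' hb' hgBab fixB o ho with e | e <;> rw [e]
        exacts [cA (Finset.mem_sdiff.mp ho).1, inv_mem (cA (Finset.mem_sdiff.mp ho).1)]
      refine (orbit_induction hab ha' hb' hgAab htA (fun σ => σ ∈ altOn SA ∧ gB * σ * gB⁻¹ ∈ altOn SA ∧
        fB (el SB gB) * fA (el SA σ) * (fB (el SB gB))⁻¹ = fA (el SA (gB * σ * gB⁻¹))) ho
        ⟨cA (Finset.mem_sdiff.mp ho).1, h0, ho'⟩ (fun σ hσ => ?_) (fun σ hσ => ?_) i hi).2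
      · have e : gB * σ⁻¹ * gB⁻¹ = (gB * σ * gB⁻¹)⁻¹ := by group
        refine ⟨inv_mem hσ.1, e ▸ inv_mem hσ.2.1, ?_⟩
        rw [e, el_inv hσ.1, el_inv hσ.2.1, map_inv, map_inv, ← hσ.2.2]; group
      · have e : gB * (gA * σ * gA⁻¹) * gB⁻¹ = gA * (gB * σ * gB⁻¹) * gA⁻¹ := by
          calc gB * (gA * σ * gA⁻¹) * gB⁻¹ = (gB * gA) * σ * (gB * gA)⁻¹ := by group
            _ = _ := by rw [← gAB]; group
        refine ⟨mul_mem (mul_mem gAA hσ.1) (inv_mem gAA), e ▸ mul_mem (mul_mem gAA hσ.2.1) (inv_mem gAA), ?_⟩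
        rw [e, el_conj gAA hσ.1, el_conj gAA hσ.2.1]
        simp only [map_mul, map_inv, ← hσ.2.2]
        set y := fB (el SB gB)
        set x := fA (el SA gA)
        calc y * (x * fA (el SA σ) * x⁻¹) * y⁻¹ = (y * x) * fA (el SA σ) * (y * x)⁻¹ := by group
          _ = _ := by rw [← hcomm]; group
    have sym : ∀ {p q : H}, p⁻¹ * q⁻¹ * (p⁻¹ * q⁻¹) = 1 → p * q * (p * q) = 1 := by
      intro p q h
      have h' : q * p * (q * p) = 1 := by
        have := congrArg (fun x => x⁻¹) h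
        simpa [mul_assoc] using this
      calc p * q * (p * q) = p * (q * p * (q * p)) * p⁻¹ := by group
        _ = 1 := by rw [h']; group
    have pairs : ∀ i ∈ sA \ sB, ∀ j ∈ sB \ sA, u i * v j * (u i * v j) = 1 := by
      intro i hi j hj
      obtain ⟨i0, hi0, hr⟩ := opt_use (P := fun l : List _ => ∀ r ∈ l, FreeGroup.lift (Sum.elim fA fB) r = 1)
        (fun l hl r hr => hP r (List.mem_flatten.mpr ⟨l, hl, hr⟩)) ⟨i, hi⟩
      obtain ⟨j0, hj0, hr'⟩ := opt_use hr ⟨j, hj⟩
      simp only [wA, wB, pow_two, map_mul, FreeGroup.lift_apply_of, Sum.elim_inl, Sum.elim_inr] at hr'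
      have stepA : ∀ x ∈ sA \ sB, ∀ y ∈ sB \ sA, gA x ∈ sA \ sB → u x * v y * (u x * v y) = 1 →
          u (gA x) * v y * (u (gA x) * v y) = 1 := by
        intro x hx y hy hgx h
        obtain ⟨-, hc⟩ := conjA y hy
        have hx' := Finset.mem_sdiff.mp hx
        have hu : fA (el SA gA) * u x * (fA (el SA gA))⁻¹ = fA (el SA (gA * cyc a b x * gA⁻¹)) := by
          rw [el_conj gAA (cA hx'.1)]; simp [u, map_mul]
        have h2 := congrArg (fun z => fA (el SA gA) * z * (fA (el SA gA))⁻¹) h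
        simp only [mul_one, mul_inv_cancel] at h2
        rw [show ∀ z p q : H, z * (p * q * (p * q)) * z⁻¹ = (z * p * z⁻¹) * (z * q * z⁻¹) *
          ((z * p * z⁻¹) * (z * q * z⁻¹)) from fun z p q => by group, hu, hc] at h2
        rw [conj_cyc, conj_cyc] at h2
        have hy' := Finset.mem_sdiff.mp hy
        have hgx' := Finset.mem_sdiff.mp hgx
        rcases hgAab with ⟨p1, p2⟩ | ⟨p1, p2⟩ <;> rw [p1, p2, fixA y hy] at h2
        · exact h2
        · rw [cyc_swap hab (fun e => haA (e ▸ hgx'.1)) (fun e => hbA (e ▸ hgx'.1)),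
            cyc_swap hab (fun e => haB (e ▸ hy'.1)) (fun e => hbB (e ▸ hy'.1)), el_inv (cA hgx'.1),
            el_inv (cB hy'.1), map_inv, map_inv] at h2
          exact sym h2
      have stepB : ∀ x ∈ sA \ sB, ∀ y ∈ sB \ sA, gB y ∈ sB \ sA → u x * v y * (u x * v y) = 1 →
          u x * v (gB y) * (u x * v (gB y)) = 1 := by
        intro x hx y hy hgy h
        obtain ⟨-, hc⟩ := conjB x hx
        have hy' := Finset.mem_sdiff.mp hy
        have hv : fB (el SB gB) * v y * (fB (el SB gB))⁻¹ = fB (el SB (gB * cyc a b y * gB⁻¹)) := by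
          rw [el_conj gBB (cB hy'.1)]; simp [v, map_mul]
        have h2 := congrArg (fun z => fB (el SB gB) * z * (fB (el SB gB))⁻¹) h
        simp only [mul_one, mul_inv_cancel] at h2
        rw [show ∀ z p q : H, z * (p * q * (p * q)) * z⁻¹ = (z * p * z⁻¹) * (z * q * z⁻¹) *
          ((z * p * z⁻¹) * (z * q * z⁻¹)) from fun z p q => by group, hv, hc] at h2
        rw [conj_cyc, conj_cyc] at h2
        have hx' := Finset.mem_sdiff.mp hx
        have hgy' := Finset.mem_sdiff.mp hgy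
        rcases hgBab with ⟨p1, p2⟩ | ⟨p1, p2⟩ <;> rw [p1, p2, fixB x hx] at h2
        · exact h2
        · rw [cyc_swap hab (fun e => haA (e ▸ hx'.1)) (fun e => hbA (e ▸ hx'.1)),
            cyc_swap hab (fun e => haB (e ▸ hgy'.1)) (fun e => hbB (e ▸ hgy'.1)), el_inv (cA hx'.1),
            el_inv (cB hgy'.1), map_inv, map_inv] at h2
          exact sym h2
      have inv_set : ∀ {s : Finset α} {g : Perm α}, g ∈ altOn (pts a b s) →
          (g a = a ∧ g b = b ∨ g a = b ∧ g b = a) → a ∉ s → b ∉ s → ∀ x ∈ s, g x ∈ s := by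
        intro s g hg hgab ha hb x hx
        have hxa : x ≠ a := fun e => ha (e ▸ hx)
        have hxb : x ≠ b := fun e => hb (e ▸ hx)
        by_contra hn
        have hab' : g x ≠ a ∧ g x ≠ b := by
          rcases hgab with ⟨p1, p2⟩ | ⟨p1, p2⟩
          · exact ⟨fun e => hxa (g.injective (e.trans p1.symm)), fun e => hxb (g.injective (e.trans p2.symm))⟩
          · exact ⟨fun e => hxb (g.injective (e.trans p2.symm)), fun e => hxa (g.injective (e.trans p1.symm))⟩
        have := hg.2 (g x) (by simp [hn, hab'.1, hab'.2])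
        exact hn ((g.injective this).symm ▸ hx)
      have sa : a ∉ sA \ sB := fun h => haA (Finset.mem_sdiff.mp h).1
      have sb : b ∉ sA \ sB := fun h => hbA (Finset.mem_sdiff.mp h).1
      have ta : a ∉ sB \ sA := fun h => haB (Finset.mem_sdiff.mp h).1
      have tb : b ∉ sB \ sA := fun h => hbB (Finset.mem_sdiff.mp h).1
      have hA' : ∀ n : ℕ, (gA ^ n) i0 ∈ sA \ sB ∧
          u ((gA ^ n) i0) * v j0 * (u ((gA ^ n) i0) * v j0) = 1 := by
        intro n
        induction n with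
        | zero => exact ⟨hi0, hr'⟩
        | succ n ih =>
          rw [pow_succ', Perm.mul_apply]
          have hm := inv_set hgA hgAab sa sb _ ih.1
          exact ⟨hm, stepA _ ih.1 j0 hj0 hm ih.2⟩
      obtain ⟨n, rfl⟩ := htA i0 hi0 i hi
      obtain ⟨m, rfl⟩ := htB j0 hj0 j hj
      have hB' : ∀ m : ℕ, (gB ^ m) j0 ∈ sB \ sA ∧
          u ((gA ^ n) i0) * v ((gB ^ m) j0) * (u ((gA ^ n) i0) * v ((gB ^ m) j0)) = 1 := by
        intro m
        induction m with
        | zero => exact ⟨hj0, (hA' n).2⟩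
        | succ m ih =>
          rw [pow_succ', Perm.mul_apply]
          have hm := inv_set hgB hgBab ta tb _ ih.1
          exact ⟨hm, stepB _ (hA' n).1 _ ih.1 hm ih.2⟩
      exact (hB' m).2
    let y : α → H := fun i => if i ∈ sA then u i else v i
    have yA : ∀ i ∈ sA, y i = u i := fun i hi => if_pos hi
    have yB : ∀ i ∈ sB, y i = v i := fun i hi => by
      by_cases h : i ∈ sA
      · rw [yA i h, agree i (Finset.mem_inter.mpr ⟨h, hi⟩)]
      · exact if_neg h
    have haS : a ∉ sA ∪ sB := by simp [haA, haB]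
    have hbS : b ∉ sA ∪ sB := by simp [hbA, hbB]
    have htop : Subgroup.closure (y '' ((sA ∪ sB : Finset α) : Set α)) = ⊤ := by
      rw [eq_top_iff, ← hgen, sup_le_iff]
      constructor <;> rintro _ ⟨g, rfl⟩
      · exact gens sA haA hbA fA (Subgroup.closure (y '' ((sA ∪ sB : Finset α) : Set α)))
          (fun i hi => Subgroup.subset_closure (show _ ∈ y '' ((sA ∪ sB : Finset α) : Set α) from ⟨i, by simp [hi], yA i hi⟩)) g
      · exact gens sB haB hbB fB (Subgroup.closure (y '' ((sA ∪ sB : Finset α) : Set α)))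
          (fun i hi => Subgroup.subset_closure (show _ ∈ y '' ((sA ∪ sB : Finset α) : Set α) from ⟨i, by simp [hi], yB i hi⟩)) g
    let π' : H →* Perm α := (altOn S).subtype.comp π
    have piA : ∀ i ∈ sA, π' (u i) = cyc a b i := fun i hi => by
      simp [π', u, hπA, hiA, el_coe (cA hi)]
    have piB : ∀ i ∈ sB, π' (v i) = cyc a b i := fun i hi => by
      simp [π', v, hπB, hiB, el_coe (cB hi)]
    have inA : ∀ i ∈ sA, ∀ j ∈ sA, i ≠ j → u i * u j * (u i * u j) = 1 := fun i hi j hj hij => by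
      simp only [u, ← map_mul, ← el_mul (cA hi) (cA hj),
        ← el_mul (mul_mem (cA hi) (cA hj)) (mul_mem (cA hi) (cA hj))]
      rw [cyc_pair hab (fun e => haA (e ▸ hi)) (fun e => hbA (e ▸ hi)) (fun e => haA (e ▸ hj))
        (fun e => hbA (e ▸ hj)) hij, el_one, map_one]
    have inB : ∀ i ∈ sB, ∀ j ∈ sB, i ≠ j → v i * v j * (v i * v j) = 1 := fun i hi j hj hij => by
      simp only [v, ← map_mul, ← el_mul (cB hi) (cB hj),
        ← el_mul (mul_mem (cB hi) (cB hj)) (mul_mem (cB hi) (cB hj))]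
      rw [cyc_pair hab (fun e => haB (e ▸ hi)) (fun e => hbB (e ▸ hi)) (fun e => haB (e ▸ hj))
        (fun e => hbB (e ▸ hj)) hij, el_one, map_one]
    refine (injective_iff_map_eq_one π).mpr fun g hg => ?_
    refine eq_one_of_map hab y π' (sA ∪ sB) haS hbS (fun i hi => ?_) (fun i hi => ?_) (fun i hi j hj hij => ?_)
      g (htop ▸ Subgroup.mem_top g) (by simp [π', hg])
    · rcases Finset.mem_union.mp hi with h | h
      · rw [yA i h, piA i h]
      · rw [yB i h, piB i h]
    · rcases Finset.mem_union.mp hi with h | h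
      · rw [yA i h]
        simp only [u, ← map_mul, ← el_mul (cA h) (cA h), ← el_mul (mul_mem (cA h) (cA h)) (cA h)]
        rw [cyc_cube hab (fun e => haA (e ▸ h)) (fun e => hbA (e ▸ h)), el_one, map_one]
      · rw [yB i h]
        simp only [v, ← map_mul, ← el_mul (cB h) (cB h), ← el_mul (mul_mem (cB h) (cB h)) (cB h)]
        rw [cyc_cube hab (fun e => haB (e ▸ h)) (fun e => hbB (e ▸ h)), el_one, map_one]
    · by_cases hiA : i ∈ sA <;> by_cases hjA : j ∈ sA
      · rw [yA i hiA, yA j hjA]; exact inA i hiA j hjA hij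
      · have hjB : j ∈ sB := (Finset.mem_union.mp hj).resolve_left hjA
        by_cases hiB : i ∈ sB
        · rw [yB i hiB, yB j hjB]; exact inB i hiB j hjB hij
        · rw [yA i hiA, yB j hjB]
          exact pairs i (Finset.mem_sdiff.mpr ⟨hiA, hiB⟩) j (Finset.mem_sdiff.mpr ⟨hjB, hjA⟩)
      · have hiB : i ∈ sB := (Finset.mem_union.mp hi).resolve_left hiA
        by_cases hjB : j ∈ sB
        · rw [yB i hiB, yB j hjB]; exact inB i hiB j hjB hij
        · rw [yB i hiB, yA j hjA]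
          have h := pairs j (Finset.mem_sdiff.mpr ⟨hjA, hjB⟩) i (Finset.mem_sdiff.mpr ⟨hiB, hiA⟩)
          calc v i * u j * (v i * u j) = (u j)⁻¹ * (u j * v i * (u j * v i)) * u j := by group
            _ = 1 := by rw [h]; group
      · rw [yB i ((Finset.mem_union.mp hi).resolve_left hiA), yB j ((Finset.mem_union.mp hj).resolve_left hjA)]
        exact inB i ((Finset.mem_union.mp hi).resolve_left hiA) j ((Finset.mem_union.mp hj).resolve_left hjA) hij

/-- the glueing lemma -/
theorem short_union (hab : a ≠ b) (sA sB : Finset α) (haA : a ∉ sA) (hbA : b ∉ sA) (haB : a ∉ sB) (hbB : b ∉ sB)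
    {NA NB : ℕ} (hA : Short (altOn (pts a b sA)) NA) (hB : Short (altOn (pts a b sB)) NB) :
    Short (altOn (pts a b (sA ∪ sB))) (NA + NB + 6) := by
  have hleA : pts a b sA ⊆ pts a b (sA ∪ sB) :=
    Finset.insert_subset_insert _ (Finset.insert_subset_insert _ Finset.subset_union_left)
  have hleB : pts a b sB ⊆ pts a b (sA ∪ sB) :=
    Finset.insert_subset_insert _ (Finset.insert_subset_insert _ Finset.subset_union_right)
  obtain ⟨E, hE, hgen, hsat, hinj⟩ := union_data hab sA sB haA hbA haB hbB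
    (Subgroup.inclusion (altOn_mono hleA)) (Subgroup.inclusion (altOn_mono hleB)) (fun _ => rfl) (fun _ => rfl)
  exact Short.mono (Short.amalgam hA hB _ _ hgen E hsat hinj) (by omega)

end Cfsg.Agent.ShortPresGlue
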