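import Cfsg.Agent.Lib.ShortPresTracked
import Cfsg.Agent.Lib.ShortPresGlue
import Cfsg.Agent.Lib.ShortPresBlock

/-!
Alternating groups of degree at least six on three letters with fourteen relators, and of degree four or
five on two letters with seven relators.
-/

set_option autoImplicit false

universe u v w

namespace Cfsg.Agent.ShortPresAlt

open Equiv Equiv.Perm ShortPres ShortPresTracked ShortPresCarmichael ShortPresGlue ShortPresBlock
open Multiplicative (ofAdd)

/-- amalgamation of a group with its conjugate on one further letter -/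
theorem presBy_conj {G : Type u} [Group G] {A : Type v} [Group A] {B : Type w} [Group B] {k NA : ℕ}
    (hA : PresBy A k NA) (iA : A →* G) (iB : B →* G) (e : A ≃* B) (t : G)
    (ht : ∀ x, iB (e x) = t * iA x * t⁻¹) (gen : iA.range ⊔ iB.range = ⊤)
    (E : List (FreeGroup (A ⊕ B))) (sat : ∀ r ∈ E, FreeGroup.lift (Sum.elim iA iB) r = 1)
    (inj : ∀ (H : Type) [Group H] (fA : A →* H) (fB : B →* H) (π : H →* G),
      (∀ a, π (fA a) = iA a) → (∀ b, π (fB b) = iB b) → fA.range ⊔ fB.range = ⊤ →
      (∀ r ∈ E, FreeGroup.lift (Sum.elim fA fB) r = 1) → Function.Injective π) :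
    PresBy G (k + 1) (NA + E.length + 1) := by
  obtain ⟨x, R, hR, hP⟩ := hA
  choose wA hwA using exists_word hP.gen
  let X : Fin (k + 1) → G := Fin.snoc (fun i => iA (x i)) t
  let j : FreeGroup (Fin k) →* FreeGroup (Fin (k + 1)) := FreeGroup.lift fun i => FreeGroup.of (Fin.castSucc i)
  let T : FreeGroup (Fin (k + 1)) := FreeGroup.of (Fin.last k)
  let Φ : FreeGroup (A ⊕ B) →* FreeGroup (Fin (k + 1)) :=
    FreeGroup.lift (Sum.elim (fun a => j (wA a)) (fun b => T * j (wA (e.symm b)) * T⁻¹))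
  have hsur : Subgroup.closure (Set.range (Sum.elim iA iB)) = ⊤ := by
    rw [Set.Sum.elim_range, Subgroup.closure_union, ← MonoidHom.coe_range, ← MonoidHom.coe_range,
      Subgroup.closure_eq, Subgroup.closure_eq, gen]
  obtain ⟨wt, hwt⟩ : ∃ w, FreeGroup.lift (Sum.elim iA iB) w = t := by
    rw [← MonoidHom.mem_range, FreeGroup.range_lift_eq_closure, hsur]
    exact Subgroup.mem_top t
  have ej : ∀ w, FreeGroup.lift X (j w) = iA (FreeGroup.lift x w) := fun w => by
    rw [map_word (FreeGroup.lift X) (y := fun i => iA (x i)) (fun i => by simp [X]) w,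
      ← map_word iA (fun _ => rfl) w]
  have eT : FreeGroup.lift X T = t := by simp [T, X]
  have eΦ : ∀ w, FreeGroup.lift X (Φ w) = FreeGroup.lift (Sum.elim iA iB) w := fun w => by
    refine map_word (FreeGroup.lift X) (fun s => ?_) w
    rcases s with a | b
    · simp [ej, hwA]
    · simp only [Sum.elim_inr, FreeGroup.lift_apply_of, map_mul, map_inv, ej, hwA, eT, Φ]
      rw [← ht, MulEquiv.apply_symm_apply]
  refine ⟨X, R.map j ++ E.map Φ ++ [T⁻¹ * Φ wt], by simp; omega, Pres.of_inj ?_ ?_ ?_⟩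
  · intro r hr
    simp only [List.mem_append, List.mem_map, List.mem_singleton] at hr
    rcases hr with (⟨w, hw, rfl⟩ | ⟨w, hw, rfl⟩) | rfl
    · rw [ej, hP.sat w hw, map_one]
    · rw [eΦ, sat w hw]
    · rw [map_mul, map_inv, eT, eΦ, hwt, inv_mul_cancel]
  · rw [eq_top_iff, ← hsur, Subgroup.closure_le]
    rintro _ ⟨s, rfl⟩
    rw [SetLike.mem_coe, ← FreeGroup.range_lift_eq_closure]
    exact ⟨Φ (FreeGroup.of s), by rw [eΦ, FreeGroup.lift_apply_of]⟩
  · intro H _ y π hπ hgen hy
    have ey : ∀ w, FreeGroup.lift y (j w) = FreeGroup.lift (fun i => y (Fin.castSucc i)) w := fun w =>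
      map_word (FreeGroup.lift y) (fun i => by simp) w
    obtain ⟨fA, hfA⟩ := hP.univ (fun i => y (Fin.castSucc i)) fun r hr => by
      rw [← ey]; exact hy _ (by simp only [List.mem_append, List.mem_map]; exact Or.inl (Or.inl ⟨r, hr, rfl⟩))
    set yt := y (Fin.last k)
    let fB : B →* H := (MulAut.conj yt).toMonoidHom.comp (fA.comp e.symm.toMonoidHom)
    have hfa : ∀ a, FreeGroup.lift y (j (wA a)) = fA a := fun a => by
      rw [ey, ← map_word fA hfA, hwA]
    have eyΦ : ∀ w, FreeGroup.lift y (Φ w) = FreeGroup.lift (Sum.elim fA fB) w := fun w => by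
      refine map_word (FreeGroup.lift y) (fun s => ?_) w
      rcases s with a | b
      · simp [hfa]
      · simp [hfa, fB, T, yt]
    have hπA : ∀ a, π (fA a) = iA a := fun a => by
      rw [← hwA a, map_word fA hfA, map_word π (y := fun i => iA (x i)) (fun i => by rw [hπ]; simp [X]),
        ← map_word iA (fun _ => rfl)]
    refine inj H fA fB π hπA (fun b => ?_) ?_ fun r hr => ?_
    · have := ht (e.symm b)
      simp only [MulEquiv.apply_symm_apply] at this
      simp [fB, hπA, yt, hπ, X, this]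
    · rw [eq_top_iff, ← hgen, Subgroup.closure_le]
      rintro _ ⟨i, rfl⟩
      induction i using Fin.lastCases with
      | last =>
        have h0 := hy (T⁻¹ * Φ wt) (by simp)
        rw [map_mul, map_inv, inv_mul_eq_one, eyΦ] at h0
        have h1 : FreeGroup.lift (Sum.elim fA fB) wt ∈ fA.range ⊔ fB.range := by
          have : (FreeGroup.lift (Sum.elim fA fB)).range ≤ fA.range ⊔ fB.range := by
            rw [FreeGroup.range_lift_eq_closure, Subgroup.closure_le]
            rintro _ ⟨a | b, rfl⟩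
            · exact Subgroup.mem_sup_left ⟨a, rfl⟩
            · exact Subgroup.mem_sup_right ⟨b, rfl⟩
          exact this ⟨wt, rfl⟩
        rw [← h0] at h1
        simpa [T] using h1
      | cast i => exact Subgroup.mem_sup_left ⟨x i, hfA i⟩
    · rw [← eyΦ]
      exact hy _ (by simp only [List.mem_append, List.mem_map]; exact Or.inl (Or.inr ⟨r, hr, rfl⟩))

variable {α : Type} [Fintype α] [DecidableEq α]

/-- the alternating group on a pair and a prime number of further points -/
theorem half_block {a b : α} (hab : a ≠ b) (s : Finset α) (ha : a ∉ s) (hb : b ∉ s) (p : ℕ) [Fact p.Prime]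
    (h2 : p ≠ 2) (hs : s.card = p) : PresBy (altOn (pts a b s)) 2 7 := by
  classical
  haveI : NeZero p := ⟨(Fact.out : p.Prime).pos.ne'⟩
  have hp1 : 1 < p := (Fact.out : p.Prime).one_lt
  have hodd : Odd p := (Fact.out : p.Prime).odd_of_ne_two h2
  obtain ⟨ζ, hζ⟩ := IsCyclic.exists_generator (α := (ZMod p)ˣ)
  set μ : (ZMod p)ˣ := ζ * ζ with hμ
  let e : ZMod p ≃ {x // x ∈ s} := Fintype.equivOfCardEq (by rw [ZMod.card, Fintype.card_coe, hs])
  let v : ZMod p → α := fun r => (e r).1
  have vs : ∀ r, v r ∈ s := fun r => (e r).2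
  have va : ∀ r, v r ≠ a := fun r h => ha (h ▸ vs r)
  have vb : ∀ r, v r ≠ b := fun r h => hb (h ▸ vs r)
  have vinj : Function.Injective v := fun r t h => e.injective (Subtype.ext h)
  let S := pts a b s
  let f : Perm (ZMod p) →* Perm α :=
    (Perm.ofSubtype : Perm {x // x ∈ s} →* Perm α).comp e.permCongrHom.toMonoidHom
  have f_v : ∀ σ r, f σ (v r) = v (σ r) := fun σ r => by
    show Perm.ofSubtype (e.permCongr σ) (e r).1 = _
    rw [Perm.ofSubtype_apply_coe]; simp [v, Equiv.permCongr_apply]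
  have f_fix : ∀ σ x, x ∉ s → f σ x = x := fun σ x hx => Perm.ofSubtype_apply_of_not_mem _ hx
  have f_sign : ∀ σ, sign (f σ) = sign σ := fun σ => by
    show sign (Perm.ofSubtype (e.permCongr σ)) = _
    rw [sign_ofSubtype, sign_permCongr]
  have f_mem : ∀ σ, sign σ = 1 → f σ ∈ altOn S := fun σ h => ⟨by rw [f_sign, h], fun x hx => f_fix σ x (by
    simp only [S, Finset.mem_insert, not_or] at hx; exact hx.2.2)⟩
  let g0 : Perm (ZMod p) := Equiv.addRight 1
  have g0pow : ∀ n : ℕ, ∀ r, (g0 ^ n) r = r + n := by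
    intro n
    induction n with
    | zero => simp
    | succ n ih => intro r; rw [pow_succ', Perm.mul_apply, ih]; simp [g0, add_assoc]
  have g0p : g0 ^ p = 1 := Equiv.ext fun r => by rw [g0pow]; simp
  have g0s : sign g0 = 1 := by
    have := congrArg sign g0p
    rw [map_pow, map_one] at this
    rcases Int.units_eq_one_or (sign g0) with h | h
    · exact h
    · rw [h, hodd.neg_one_pow] at this; exact absurd this (by decide)
  let h0 : Perm (ZMod p) := Units.mulLeft μ
  have h0s : sign h0 = 1 := by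
    have : h0 = Units.mulLeft ζ * Units.mulLeft ζ := Equiv.ext fun r => by simp [h0, μ, mul_assoc]
    rw [this, map_mul, ← sq, Int.units_sq]
  set G := f g0 with hG
  set Hm := f h0 with hHm
  have mG : G ∈ altOn S := f_mem _ g0s
  have mH : Hm ∈ altOn S := f_mem _ h0s
  have mC : ∀ r, cyc a b (v r) ∈ altOn S := fun r => cyc_mem hab hb (vs r)
  have Gfix : ∀ σ, f σ a = a ∧ f σ b = b := fun σ => ⟨f_fix σ a ha, f_fix σ b hb⟩
  let cz : ZMod p → altOn S := fun r => el S (cyc a b (v r))
  have hcz : Subgroup.closure (Set.range cz) = ⊤ := by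
    refine (Subgroup.eq_top_iff' _).mpr fun g => ?_
    have hg := mem_closure_cyc hab s ha hb g.1 g.2.1 g.2.2
    have e' : Subgroup.closure (cyc a b '' (s : Set α)) =
        (Subgroup.closure (Set.range cz)).map (altOn S).subtype := by
      rw [MonoidHom.map_closure]; congr 1; ext σ
      constructor
      · rintro ⟨i, hi, rfl⟩
        refine ⟨cz (e.symm ⟨i, hi⟩), ⟨_, rfl⟩, ?_⟩
        show ((el S (cyc a b (v (e.symm ⟨i, hi⟩)))) : Perm α) = _
        rw [el_coe (mC _)]; simp [v]
      · rintro ⟨_, ⟨r, rfl⟩, rfl⟩; exact ⟨v r, vs r, (el_coe (mC r)).symm⟩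
    rw [e'] at hg
    obtain ⟨g', hg', he⟩ := hg
    rwa [Subtype.ext he] at hg'
  choose wd hwd using exists_word hcz
  let X : Fin 2 → altOn S := ![el S G, cz 0]
  let gA : FreeGroup (Fin 2) := FreeGroup.of 0
  let gZ : FreeGroup (Fin 2) := FreeGroup.of 1
  let pA : ZMod p → FreeGroup (Fin 2) := fun r => gA ^ r.val
  let wx : ZMod p → FreeGroup (Fin 2) := fun r => pA r * gZ * (pA r)⁻¹
  let WH : FreeGroup (Fin 2) := FreeGroup.lift wx (wd (el S Hm))
  let WG : FreeGroup (Fin 2) := FreeGroup.lift wx (wd (el S G))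
  let L : List (FreeGroup (Fin 2)) :=
    [gA ^ p, WH * gA * WH⁻¹ * (pA (μ : ZMod p))⁻¹, WH * gZ * (gZ * WH)⁻¹, gZ * gZ * gZ,
      gZ * wx 1 * (gZ * wx 1), gZ * wx (ζ : ZMod p) * (gZ * wx (ζ : ZMod p)), gA * WG⁻¹]
  have lA : FreeGroup.lift X gA = el S G := by simp [gA, X]
  have lZ : FreeGroup.lift X gZ = cz 0 := by simp [gZ, X]
  have cGpow : ∀ n : ℕ, ((el S G ^ n : altOn S) : Perm α) = f (g0 ^ n) := fun n => by
    rw [Subgroup.coe_pow, el_coe mG, map_pow]
  have lwx : ∀ r, FreeGroup.lift X (wx r) = cz r := fun r => by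
    refine Subtype.ext ?_
    simp only [wx, pA, map_mul, map_inv, map_pow, lA, lZ]
    simp only [Subgroup.coe_mul, Subgroup.coe_inv, cGpow, cz, el_coe (mC r), el_coe (mC 0)]
    rw [conj_cyc, (Gfix _).1, (Gfix _).2, f_v, g0pow]
    simp
  have lw : ∀ g, FreeGroup.lift X (FreeGroup.lift wx (wd g)) = g := fun g => by
    rw [map_word (FreeGroup.lift X) lwx, hwd]
  refine ⟨X, L, by simp [L], Pres.of_inj ?_ ?_ ?_⟩
  · simp only [L, List.forall_mem_cons, List.not_mem_nil, false_imp_iff, implies_true, and_true, map_mul,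
      map_inv, map_pow, lA, lZ, lwx, WH, WG, lw, pA, mul_inv_eq_one]
    have vv : ∀ {x y : altOn S}, (x : Perm α) = y → x = y := fun h => Subtype.ext h
    refine ⟨vv ?_, vv ?_, vv ?_, vv ?_, vv ?_, vv ?_⟩
    · rw [cGpow, g0p, map_one, Subgroup.coe_one]
    · simp only [Subgroup.coe_mul, Subgroup.coe_inv, el_coe mH, el_coe mG, cGpow]
      rw [hHm, hG, ← map_inv, ← map_mul, ← map_mul]
      congr 1
      refine Equiv.ext fun r => ?_
      rw [g0pow, ZMod.natCast_zmod_val]
      obtain ⟨q, rfl⟩ := h0.surjective r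
      rw [Perm.mul_apply, Perm.mul_apply, Perm.inv_def, Equiv.symm_apply_apply]
      show (μ : ZMod p) * (q + 1) = (μ : ZMod p) * q + μ
      ring
    · simp only [Subgroup.coe_mul, el_coe mH, cz, el_coe (mC 0)]
      rw [← mul_inv_eq_iff_eq_mul, hHm, conj_cyc, (Gfix _).1, (Gfix _).2, f_v]
      simp [h0]
    · simp only [Subgroup.coe_mul, Subgroup.coe_one, cz, el_coe (mC _), cyc_cube hab (va 0) (vb 0)]
    · simp only [Subgroup.coe_mul, Subgroup.coe_one, cz, el_coe (mC _)]
      exact cyc_pair hab (va _) (vb _) (va _) (vb _) (fun h => zero_ne_one (vinj h))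
    · simp only [Subgroup.coe_mul, Subgroup.coe_one, cz, el_coe (mC _)]
      exact cyc_pair hab (va _) (vb _) (va _) (vb _) (fun h => ζ.ne_zero (vinj h).symm)
  · rw [eq_top_iff, ← hcz, Subgroup.closure_le]
    rintro _ ⟨r, rfl⟩
    rw [← lwx, SetLike.mem_coe, ← FreeGroup.range_lift_eq_closure]
    exact ⟨_, rfl⟩
  · intro H _ y π hπ hgen hy
    set g := FreeGroup.lift y gA with hg
    set z := FreeGroup.lift y gZ with hz
    set h := FreeGroup.lift y WH with hh
    simp only [L, List.forall_mem_cons, List.not_mem_nil, false_imp_iff, implies_true, and_true, map_mul,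
      map_inv, map_pow, pA, wx, ← hg, ← hz, ← hh, mul_inv_eq_one] at hy
    obtain ⟨hgp, hhg, hhz, hz3, hp1', hpζ, hwg⟩ := hy
    let φ : Multiplicative (ZMod p) →* H :=
      { toFun := fun r => g ^ (Multiplicative.toAdd r).val
        map_one' := by simp
        map_mul' := fun r t => by rw [toAdd_mul, ZMod.val_add, ← pow_eq_pow_mod _ hgp, pow_add] }
    have φ_def : ∀ r : ZMod p, φ (ofAdd r) = g ^ r.val := fun r => rfl
    have hφ : ∀ r : ZMod p, h * φ (ofAdd r) * h⁻¹ = φ (ofAdd ((μ : ZMod p) * r)) := fun r => by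
      rw [φ_def, φ_def, show h * g ^ r.val * h⁻¹ = (h * g * h⁻¹) ^ r.val from (conj_pow).symm, hhg,
        ← pow_mul, ZMod.val_mul, ← pow_eq_pow_mod _ hgp]
    let x : ZMod p → H := fun r => φ (ofAdd r) * z * (φ (ofAdd r))⁻¹
    have x0 : x 0 = z := by simp [x]
    have hx : ∀ r, FreeGroup.lift y (wx r) = x r := fun r => by
      simp only [wx, pA, map_mul, map_inv, map_pow, ← hg, ← hz]; rfl
    have tr : ∀ t r, φ (ofAdd t) * x r * (φ (ofAdd t))⁻¹ = x (t + r) := fun t r => by
      simp only [x, ofAdd_add, map_mul]; group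
    have mu : ∀ r, h * x r * h⁻¹ = x ((μ : ZMod p) * r) := fun r => by
      simp only [x, ← hφ]
      have : h * z * h⁻¹ = z := mul_inv_eq_iff_eq_mul.mpr hhz
      calc h * (φ (ofAdd r) * z * (φ (ofAdd r))⁻¹) * h⁻¹
          = (h * φ (ofAdd r) * h⁻¹) * (h * z * h⁻¹) * (h * φ (ofAdd r) * h⁻¹)⁻¹ := by group
        _ = _ := by rw [this]
    have csq : ∀ k p' q : H, p' * q * (p' * q) = 1 →
        (k * p' * k⁻¹) * (k * q * k⁻¹) * ((k * p' * k⁻¹) * (k * q * k⁻¹)) = 1 := by
      intro k p' q e
      calc _ = k * (p' * q * (p' * q)) * k⁻¹ := by group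
        _ = 1 := by rw [e]; group
    have orbit : ∀ (r : ZMod p), x 0 * x r * (x 0 * x r) = 1 → ∀ i : ℕ,
        x 0 * x ((μ : ZMod p) ^ i * r) * (x 0 * x ((μ : ZMod p) ^ i * r)) = 1 := by
      intro r h0 i
      induction i with
      | zero => simpa using h0
      | succ i ih =>
        have := csq h _ _ ih
        rw [mu, mu, mul_zero] at this
        rw [pow_succ', mul_assoc (μ : ZMod p)]
        exact this
    have p0 : ∀ r, r ≠ 0 → x 0 * x r * (x 0 * x r) = 1 := fun r hr => by
      have h1 : x 0 * x 1 * (x 0 * x 1) = 1 := by rw [x0]; exact hp1'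
      have h2 : x 0 * x (ζ : ZMod p) * (x 0 * x (ζ : ZMod p)) = 1 := by rw [x0]; exact hpζ
      obtain ⟨k, hk⟩ := Submonoid.mem_powers_iff _ _ |>.mp
        (mem_powers_iff_mem_zpowers.mpr (hζ (Units.mk0 r hr)))
      have hk' : (ζ : ZMod p) ^ k = r := by rw [← Units.val_pow_eq_pow_val, hk, Units.val_mk0]
      have hμ' : (μ : ZMod p) = (ζ : ZMod p) ^ 2 := by rw [hμ, Units.val_mul, sq]
      rcases Nat.even_or_odd' k with ⟨i, rfl | rfl⟩
      · have := orbit 1 h1 i
        rwa [mul_one, hμ', ← pow_mul, hk'] at this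
      · have := orbit _ h2 i
        rwa [hμ', ← pow_mul, ← pow_succ, hk'] at this
    have pair : ∀ r t, r ≠ t → x r * x t * (x r * x t) = 1 := fun r t hne => by
      have := csq (φ (ofAdd r)) _ _ (p0 (t - r) (sub_ne_zero.mpr (Ne.symm hne)))
      rwa [tr, tr, add_zero, add_sub_cancel] at this
    have cube : ∀ r, x r * x r * x r = 1 := fun r => by
      calc x r * x r * x r = φ (ofAdd r) * (z * z * z) * (φ (ofAdd r))⁻¹ := by simp only [x]; group
        _ = 1 := by rw [hz3]; group
    have hgen' : Subgroup.closure (Set.range x) = ⊤ := by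
      rw [eq_top_iff, ← hgen, Subgroup.closure_le]
      rintro _ ⟨i, rfl⟩
      fin_cases i
      · have : g ∈ Subgroup.closure (Set.range x) := by
          rw [hwg]; simp only [WG]; rw [map_word (FreeGroup.lift y) hx, ← FreeGroup.range_lift_eq_closure]; exact ⟨_, rfl⟩
        simpa [g, gA] using this
      · exact Subgroup.subset_closure ⟨0, by rw [x0]; simp [z, gZ]⟩
    have hπx : ∀ r, π (x r) = cz r := fun r => by rw [← hx, map_word π hπ, lwx]
    let y' : α → H := fun i => if hi : i ∈ s then x (e.symm ⟨i, hi⟩) else 1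
    have y_eq : ∀ r, y' (v r) = x r := fun r => by simp [y', v, vs r]
    have y_ex : ∀ i ∈ s, ∃ r, v r = i := fun i hi => ⟨e.symm ⟨i, hi⟩, by simp [v]⟩
    refine (injective_iff_map_eq_one π).mpr fun q hq => eq_one_of_map hab y' ((altOn S).subtype.comp π) s ha hb
      (fun i hi => ?_) (fun i hi => ?_) (fun i hi j hj hij => ?_) q ?_ (by simp [hq])
    · obtain ⟨r, rfl⟩ := y_ex i hi
      rw [y_eq]
      show ((π (x r) : altOn S) : Perm α) = _
      rw [hπx]; exact el_coe (mC r)
    · obtain ⟨r, rfl⟩ := y_ex i hi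
      rw [y_eq]; exact cube r
    · obtain ⟨r, rfl⟩ := y_ex i hi
      obtain ⟨t, rfl⟩ := y_ex j hj
      rw [y_eq, y_eq]; exact pair r t fun h => hij (h ▸ rfl)
    · have : Set.range x ⊆ y' '' (s : Set α) := by
        rintro _ ⟨r, rfl⟩; exact ⟨v r, vs r, y_eq r⟩
      exact Subgroup.closure_mono this (hgen' ▸ Subgroup.mem_top q)

/-- three letters and fourteen relators -/
theorem alt_three (n : ℕ) (hn : 6 ≤ n) : PresBy (altOn (Finset.univ : Finset (Fin n))) 3 14 := by
  classical
  let a : Fin n := ⟨0, by omega⟩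
  let b : Fin n := ⟨1, by omega⟩
  have hab : a ≠ b := by simp [a, b, Fin.ext_iff]
  let s : Finset (Fin n) := (Finset.univ.erase a).erase b
  have hs : s.card = n - 2 := by
    rw [Finset.card_erase_of_mem (by simp [hab.symm]), Finset.card_erase_of_mem (by simp), Finset.card_univ,
      Fintype.card_fin]
    omega
  have hsa : a ∉ s := by simp [s]
  have hsb : b ∉ s := by simp [s]
  have hpts : pts a b s = Finset.univ := by
    ext x; simp only [pts, s, Finset.mem_insert, Finset.mem_erase, Finset.mem_univ, and_true, iff_true]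
    tauto
  obtain ⟨p, hp, h1, h2⟩ := Nat.exists_prime_lt_and_le_two_mul ((n - 2) / 2) (by omega)
  haveI : Fact p.Prime := ⟨hp⟩
  obtain ⟨sA, hA1, hA2⟩ := Finset.exists_subset_card_eq (s := s) (n := p) (by omega)
  obtain ⟨sB, hB1, hB2, hB3⟩ := Finset.exists_subsuperset_card_eq (s := s \ sA) (t := s) (n := p)
    Finset.sdiff_subset (by rw [Finset.card_sdiff_of_subset hA1]; omega) (by omega)
  have hun : sA ∪ sB = s := by
    apply le_antisymm (Finset.union_subset hA1 hB2)
    intro x hx
    by_cases h : x ∈ sA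
    · exact Finset.mem_union_left _ h
    · exact Finset.mem_union_right _ (hB1 (Finset.mem_sdiff.mpr ⟨hx, h⟩))
  have haA : a ∉ sA := fun h => hsa (hA1 h)
  have hbA : b ∉ sA := fun h => hsb (hA1 h)
  have haB : a ∉ sB := fun h => hsa (hB2 h)
  have hbB : b ∉ sB := fun h => hsb (hB2 h)
  -- a conjugating element
  obtain ⟨t, ht, ta, tb, tAB⟩ : ∃ t : Perm (Fin n), sign t = 1 ∧ t a = a ∧ t b = b ∧ ∀ x, t x ∈ sB ↔ x ∈ sA := by
    let e : {x // x ∈ sA} ≃ {x // x ∈ sB} := Fintype.equivOfCardEq (by simp [hA2, hB3])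
    set σ0 := e.extendSubtype
    have s0 : ∀ x, σ0 x ∈ sB ↔ x ∈ sA := fun x =>
      ⟨fun h => by_contra fun hx => Equiv.extendSubtype_not_mem e x hx h, fun h => Equiv.extendSubtype_mem e x h⟩
    have keep : ∀ {u w z : Fin n}, u ∉ sB → w ∉ sB → (swap u w z ∈ sB ↔ z ∈ sB) := by
      intro u w z hu hw
      by_cases h1 : z = u
      · subst h1; simp [hu, hw]
      by_cases h2 : z = w
      · subst h2; simp [hu, hw]
      rw [swap_apply_of_ne_of_ne h1 h2]
    set σ1 := swap (σ0 a) a * σ0
    have a1 : σ1 a = a := by simp [σ1]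
    have s1 : ∀ x, σ1 x ∈ sB ↔ x ∈ sA := fun x => by
      rw [Perm.mul_apply, keep (fun h => haA ((s0 a).mp h)) haB, s0]
    set σ2 := swap (σ1 b) b * σ1
    have b2 : σ2 b = b := by simp [σ2]
    have a2 : σ2 a = a := by
      rw [Perm.mul_apply, a1, swap_apply_of_ne_of_ne (fun h => hab (σ1.injective (a1.trans h))) hab]
    have s2 : ∀ x, σ2 x ∈ sB ↔ x ∈ sA := fun x => by
      rw [Perm.mul_apply, keep (fun h => hbA ((s1 b).mp h)) hbB, s1]
    rcases Int.units_eq_one_or (sign σ2) with h | h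
    · exact ⟨σ2, h, a2, b2, s2⟩
    · have hc : 1 < sA.card := by rw [hA2]; exact hp.one_lt
      obtain ⟨u, hu, w, hw, huw⟩ := Finset.one_lt_card.mp hc
      refine ⟨σ2 * swap u w, by rw [map_mul, h, sign_swap huw]; rfl, ?_, ?_, fun x => ?_⟩
      · rw [Perm.mul_apply, swap_apply_of_ne_of_ne (fun e => haA (by rw [e]; exact hu))
          (fun e => haA (by rw [e]; exact hw)), a2]
      · rw [Perm.mul_apply, swap_apply_of_ne_of_ne (fun e => hbA (by rw [e]; exact hu))
          (fun e => hbA (by rw [e]; exact hw)), b2]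
      · rw [Perm.mul_apply, s2]
        by_cases h1 : x = u
        · subst h1; simp [hu, hw]
        by_cases h2 : x = w
        · subst h2; simp [hu, hw]
        rw [swap_apply_of_ne_of_ne h1 h2]
  have tpts : ∀ x, t x ∈ pts a b sB ↔ x ∈ pts a b sA := fun x => by
    simp only [pts, Finset.mem_insert, tAB]
    rw [show t x = a ↔ x = a from ⟨fun h => t.injective (h.trans ta.symm), fun h => h ▸ ta⟩,
      show t x = b ↔ x = b from ⟨fun h => t.injective (h.trans tb.symm), fun h => h ▸ tb⟩]
  let e : altOn (pts a b sA) ≃* altOn (pts a b sB) :=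
    { toFun := fun g => ⟨t * g.1 * t⁻¹, by
        refine ⟨by simp [g.2.1, ht], fun x hx => ?_⟩
        rw [Perm.mul_apply, Perm.mul_apply, g.2.2 (t⁻¹ x) (fun h => hx (by simpa using (tpts (t⁻¹ x)).mpr h))]
        simp⟩
      invFun := fun g => ⟨t⁻¹ * g.1 * t, by
        refine ⟨by simp [g.2.1, ht], fun x hx => ?_⟩
        rw [Perm.mul_apply, Perm.mul_apply, g.2.2 (t x) (fun h => hx ((tpts x).mp h))]
        simp⟩
      left_inv := fun g => Subtype.ext (by simp [mul_assoc])
      right_inv := fun g => Subtype.ext (by simp [mul_assoc])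
      map_mul' := fun g h => Subtype.ext (by simp [mul_assoc]) }
  have hleA : pts a b sA ⊆ pts a b (sA ∪ sB) :=
    Finset.insert_subset_insert _ (Finset.insert_subset_insert _ Finset.subset_union_left)
  have hleB : pts a b sB ⊆ pts a b (sA ∪ sB) :=
    Finset.insert_subset_insert _ (Finset.insert_subset_insert _ Finset.subset_union_right)
  obtain ⟨E, hE, hgen, hsat, hinj⟩ := union_data hab sA sB haA hbA haB hbB
    (Subgroup.inclusion (altOn_mono hleA)) (Subgroup.inclusion (altOn_mono hleB)) (fun _ => rfl) (fun _ => rfl)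
  let T : altOn (pts a b (sA ∪ sB)) := ⟨t, ht, fun x hx => absurd (by rw [hun, hpts]; simp) hx⟩
  have h3 : PresBy (altOn (pts a b (sA ∪ sB))) (2 + 1) (7 + E.length + 1) :=
    presBy_conj (half_block hab sA haA hbA p (by omega) hA2) _ _ e T (fun x => Subtype.ext rfl) hgen E hsat hinj
  exact (h3.congr (MulEquiv.subgroupCongr (by rw [hun, hpts]))).mono (by omega)

/-- two letters and seven relators in degrees four and five -/
theorem alt_two (n : ℕ) (hn : n = 4 ∨ n = 5) : PresBy (altOn (Finset.univ : Finset (Fin n))) 2 7 := by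
  classical
  rcases hn with rfl | rfl
  · have e : pts (0 : Fin 4) 1 {2, 3} = Finset.univ := by decide
    have h := short_small (α := Fin 4) (a := 0) (b := 1) (by decide) {2, 3} (by decide) (by decide)
    have hg : Subgroup.closure ({el (pts (0 : Fin 4) 1 {2, 3}) (cyc 0 1 2), el (pts (0 : Fin 4) 1 {2, 3}) (cyc 0 1 3)} :
        Set (altOn (pts (0 : Fin 4) 1 {2, 3}))) = ⊤ := by
      refine Subgroup.map_injective (altOn _).subtype_injective ?_
      rw [MonoidHom.map_closure, ← MonoidHom.range_eq_map, Subgroup.range_subtype]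
      refine le_antisymm ((Subgroup.closure_le _).mpr ?_) fun g hg => ?_
      · rintro _ ⟨x, -, rfl⟩; exact x.2
      · refine Subgroup.closure_mono ?_
          (mem_closure_cyc (by decide) {2, 3} (by decide) (by decide) g hg.1 hg.2)
        rintro _ ⟨i, hi, rfl⟩
        simp only [Finset.coe_insert, Finset.coe_singleton, Set.mem_insert_iff, Set.mem_singleton_iff] at hi
        rcases hi with rfl | rfl
        · exact ⟨_, Or.inl rfl, el_coe (cyc_mem (by decide) (by decide) (by decide))⟩
        · exact ⟨_, Or.inr rfl, el_coe (cyc_mem (by decide) (by decide) (by decide))⟩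
    obtain ⟨rels, hr, ⟨f⟩⟩ := h.two_generators _ _ hg
    exact ((PresBy.of_presented rels hr f).congr (MulEquiv.subgroupCongr (by rw [e]))).mono (by decide)
  · have e : pts (0 : Fin 5) 1 {2, 3, 4} = Finset.univ := by decide
    haveI : Fact (Nat.Prime 3) := ⟨by norm_num⟩
    exact (half_block (α := Fin 5) (a := 0) (b := 1) (by decide) {2, 3, 4} (by decide) (by decide) 3 (by norm_num)
      (by decide)).congr (MulEquiv.subgroupCongr (by rw [e]))

end Cfsg.Agent.ShortPresAlt
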