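import Cfsg.Agent.Lib.ShortPresSym23

/-!
Seven relators for the alternating group: the affine relations on the first `p + 2` points, one
relation moving that window along a long even permutation `σ` that keeps the pair `{0, 1}`, and a
relation between the powers of `x * σ` and of `σ`.
-/

set_option autoImplicit false

namespace Cfsg.Agent.ShortPresAlt

open Equiv Equiv.Perm ShortPresCarmichael ShortPresAffine ShortPres ShortPresSym Fin.NatCast

variable {N : ℕ}

/-- the point `2 + (i mod (N - 1))` -/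
def P (hN : 2 ≤ N) (i : ℕ) : Fin (N + 1) := ⟨2 + i % (N - 1), by
  have := Nat.mod_lt i (show N - 1 > 0 by omega); omega⟩

/-- an even permutation shifting the points from `2` on and keeping the pair -/
structure Sig (hN : 2 ≤ N) (σ : Perm (Fin (N + 1))) : Prop where
  shift : ∀ i, σ (P hN i) = P hN (i + 1)
  pair : (σ 0 = 0 ∧ σ 1 = 1) ∨ (σ 0 = 1 ∧ σ 1 = 0)
  even : sign σ = 1
  card : σ ^ (N - 1) = 1
  long : (cyc 0 1 (P hN 0) * σ) ^ (if Even N then N + 1 else N) = 1

theorem val_one (hN : 2 ≤ N) : ((1 : Fin (N + 1)) : ℕ) = 1 := by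
  rw [Fin.val_one', Nat.mod_eq_of_lt (by omega)]

theorem zero_ne_one' (hN : 2 ≤ N) : (0 : Fin (N + 1)) ≠ 1 := fun e => by
  have := congrArg Fin.val e
  rw [Fin.val_zero, val_one hN] at this; omega

theorem P_ne0 (hN : 2 ≤ N) (i : ℕ) : P hN i ≠ 0 := fun e => by simpa [P] using congrArg Fin.val e

theorem P_ne1 (hN : 2 ≤ N) (i : ℕ) : P hN i ≠ 1 := fun e => by
  have := congrArg Fin.val e
  rw [val_one hN] at this
  simp only [P] at this; omega

theorem exists_P (hN : 2 ≤ N) (k : Fin (N + 1)) : k = 0 ∨ k = 1 ∨ k = P hN (k - 2 : ℕ) := by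
  by_cases h : 2 ≤ (k : ℕ)
  · refine Or.inr (Or.inr (Fin.ext ?_))
    simp only [P]
    rw [Nat.mod_eq_of_lt (by omega)]; omega
  · rcases Nat.eq_zero_or_pos (k : ℕ) with h0 | h0
    · exact Or.inl (Fin.ext h0)
    · exact Or.inr (Or.inl (Fin.ext (by rw [val_one hN]; omega)))

theorem cyc_inv_other {i k : Fin (N + 1)} (hk0 : k ≠ 0) (hk1 : k ≠ 1) (hki : k ≠ i) :
    (cyc (0 : Fin (N + 1)) 1 i)⁻¹ k = k := by
  rw [Perm.inv_def, Equiv.symm_apply_eq, cyc_other hk0 hk1 hki]

theorem exists_sig (hN : 3 ≤ N) : ∃ σ, Sig (by omega : 2 ≤ N) σ := by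
  have h2 : 2 ≤ N := by omega
  set X := cyc (0 : Fin (N + 1)) 1 (P h2 0) with hX
  have x0 : X⁻¹ 1 = 0 := by
    rw [Perm.inv_def, Equiv.symm_apply_eq, hX, cyc_a (zero_ne_one' h2) (P_ne0 h2 0)]
  have x1 : X⁻¹ (P h2 0) = 1 := by
    rw [Perm.inv_def, Equiv.symm_apply_eq, hX, cyc_b (P_ne0 h2 0) (P_ne1 h2 0)]
  have x2 : X⁻¹ 0 = P h2 0 := by rw [Perm.inv_def, Equiv.symm_apply_eq, hX, cyc_i]
  set ρ := finRotate (N + 1) with hρ
  set τ : Perm (Fin (N + 1)) := swap 0 1
  have r0 : ρ 0 = 1 := by rw [hρ, finRotate_succ_apply, zero_add]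
  have r1 : ρ 1 = P h2 0 := Fin.ext (by
    rw [hρ, finRotate_succ_apply, Fin.val_add, val_one h2]
    simp [P, Nat.mod_eq_of_lt (show 2 < N + 1 by omega)])
  have rP : ∀ i, X⁻¹ (ρ (P h2 i)) = P h2 (i + 1) := fun i => by
    have hlt := Nat.mod_lt i (show N - 1 > 0 by omega)
    have hm := Nat.add_mod i 1 (N - 1)
    rw [Nat.mod_eq_of_lt (show 1 < N - 1 by omega)] at hm
    by_cases h : i % (N - 1) + 1 < N - 1
    · have e : ρ (P h2 i) = P h2 (i + 1) := Fin.ext (by
        rw [hρ, finRotate_succ_apply, Fin.val_add, val_one h2]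
        simp only [P]
        rw [hm, Nat.mod_eq_of_lt h, Nat.mod_eq_of_lt (by omega)]; omega)
      rw [e, hX, cyc_inv_other (P_ne0 h2 _) (P_ne1 h2 _) (fun e => ?_)]
      have := congrArg Fin.val e
      simp only [P] at this
      rw [hm, Nat.mod_eq_of_lt h, Nat.zero_mod] at this; omega
    · have e : ρ (P h2 i) = 0 := Fin.ext (by
        rw [hρ, finRotate_succ_apply, Fin.val_add, val_one h2]
        simp only [P]
        rw [show 2 + i % (N - 1) + 1 = N + 1 by omega, Nat.mod_self]; rfl)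
      rw [e, x2]
      refine Fin.ext ?_
      simp only [P]
      rw [hm, show i % (N - 1) + 1 = N - 1 by omega, Nat.mod_self, Nat.zero_mod]
  have hsX : sign X = 1 := sign_cyc (zero_ne_one' h2) (P_ne1 h2 0)
  have hsρ : sign ρ = (-1) ^ N := by rw [hρ, sign_finRotate, Nat.add_sub_cancel]
  have mk : ∀ (σ : Perm (Fin (N + 1))), (∀ i, σ (P h2 i) = P h2 (i + 1)) →
      ((σ 0 = 0 ∧ σ 1 = 1) ∨ (σ 0 = 1 ∧ σ 1 = 0 ∧ Even (N - 1))) → σ ^ (N - 1) = 1 := by
    intro σ hs hp
    have hk : ∀ k i, (σ ^ k) (P h2 i) = P h2 (i + k) := fun k => by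
      induction k with
      | zero => simp
      | succ k ih => intro i; rw [pow_succ', Perm.mul_apply, ih, hs, add_assoc]
    refine Equiv.ext fun k => ?_
    rcases exists_P h2 k with rfl | rfl | h
    · rcases hp with ⟨a, -⟩ | ⟨a, b, hev⟩
      · exact Perm.pow_apply_eq_self_of_apply_eq_self a _
      · obtain ⟨m, hm⟩ := hev
        rw [hm, ← two_mul, pow_mul]
        exact Perm.pow_apply_eq_self_of_apply_eq_self (by rw [pow_two, Perm.mul_apply, a, b]) _
    · rcases hp with ⟨-, b⟩ | ⟨a, b, hev⟩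
      · exact Perm.pow_apply_eq_self_of_apply_eq_self b _
      · obtain ⟨m, hm⟩ := hev
        rw [hm, ← two_mul, pow_mul]
        exact Perm.pow_apply_eq_self_of_apply_eq_self (by rw [pow_two, Perm.mul_apply, b, a]) _
    · rw [h, hk, Perm.one_apply]
      exact Fin.ext (by simp [P])
  rcases Nat.even_or_odd N with hev | hodd
  · refine ⟨X⁻¹ * ρ, rP, Or.inl ⟨?_, ?_⟩, ?_, ?_, ?_⟩
    · rw [Perm.mul_apply, r0, x0]
    · rw [Perm.mul_apply, r1, x1]
    · rw [map_mul, map_inv, hsX, hsρ, hev.neg_one_pow]; rfl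
    · exact mk _ rP (Or.inl ⟨by rw [Perm.mul_apply, r0, x0], by rw [Perm.mul_apply, r1, x1]⟩)
    · rw [if_pos hev, mul_inv_cancel_left, hρ, rot_card]
  · have sP : ∀ i, (X⁻¹ * ρ * τ) (P h2 i) = P h2 (i + 1) := fun i => by
      rw [Perm.mul_apply, swap_apply_of_ne_of_ne (P_ne0 h2 i) (P_ne1 h2 i), Perm.mul_apply, rP]
    have s0 : (X⁻¹ * ρ * τ) 0 = 1 := by
      rw [Perm.mul_apply, swap_apply_left, Perm.mul_apply, r1, x1]
    have s1 : (X⁻¹ * ρ * τ) 1 = 0 := by
      rw [Perm.mul_apply, swap_apply_right, Perm.mul_apply, r0, x0]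
    have hev : Even (N - 1) := by obtain ⟨m, rfl⟩ := hodd; exact ⟨m, by omega⟩
    refine ⟨X⁻¹ * ρ * τ, sP, Or.inr ⟨s0, s1⟩, ?_, mk _ sP (Or.inr ⟨s0, s1, hev⟩), ?_⟩
    · rw [map_mul, map_mul, map_inv, hsX, hsρ, hodd.neg_one_pow, sign_swap (zero_ne_one' h2)]; rfl
    · rw [if_neg (Nat.not_even_iff_odd.mpr hodd)]
      have e : X * (X⁻¹ * ρ * τ) = τ * (τ * ρ) * τ⁻¹ := by
        rw [← mul_assoc, ← mul_assoc, mul_inv_cancel, one_mul, swap_inv, ← mul_assoc, swap_mul_self, one_mul]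
      rw [e, conj_pow, swap_rot_pow]; group

theorem Sig.pow_pair {hN : 2 ≤ N} {σ : Perm (Fin (N + 1))} (S : Sig hN σ) (i : ℕ) :
    ((σ ^ i) 0 = 0 ∧ (σ ^ i) 1 = 1) ∨ ((σ ^ i) 0 = 1 ∧ (σ ^ i) 1 = 0) := by
  induction i with
  | zero => exact Or.inl ⟨rfl, rfl⟩
  | succ i ih =>
    simp only [pow_succ', Perm.mul_apply]
    rcases ih with ⟨a, b⟩ | ⟨a, b⟩ <;> rcases S.pair with ⟨c, d⟩ | ⟨c, d⟩ <;> simp [a, b, c, d]

theorem Sig.pow_shift {hN : 2 ≤ N} {σ : Perm (Fin (N + 1))} (S : Sig hN σ) (k i : ℕ) :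
    (σ ^ k) (P hN i) = P hN (i + k) := by
  induction k with
  | zero => rfl
  | succ k ih => rw [pow_succ', Perm.mul_apply, ih, S.shift, add_assoc]

theorem Sig.conj {hN : 2 ≤ N} {σ : Perm (Fin (N + 1))} (S : Sig hN σ) (i : ℕ) :
    σ ^ i * cyc 0 1 (P hN 0) * (σ ^ i)⁻¹ = cyc 0 1 (P hN i) ∨
      σ ^ i * cyc 0 1 (P hN 0) * (σ ^ i)⁻¹ = (cyc 0 1 (P hN i))⁻¹ := by
  rw [conj_cyc, S.pow_shift, zero_add]
  rcases S.pow_pair i with ⟨a, b⟩ | ⟨a, b⟩ <;> rw [a, b]
  · exact Or.inl rfl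
  · exact Or.inr (cyc_swap (zero_ne_one' hN) (P_ne0 hN i) (P_ne1 hN i))

theorem Sig.generates {hN : 2 ≤ N} {σ : Perm (Fin (N + 1))} (S : Sig hN σ) {g : Perm (Fin (N + 1))}
    (hg : sign g = 1) : g ∈ Subgroup.closure ({σ, cyc 0 1 (P hN 0)} : Set (Perm (Fin (N + 1)))) := by
  set K := Subgroup.closure ({σ, cyc 0 1 (P hN 0)} : Set (Perm (Fin (N + 1))))
  have hs : σ ∈ K := Subgroup.subset_closure (Or.inl rfl)
  have hx : cyc 0 1 (P hN 0) ∈ K := Subgroup.subset_closure (Or.inr rfl)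
  have hc : ∀ i, cyc 0 1 (P hN i) ∈ K := fun i => by
    have := K.mul_mem (K.mul_mem (K.pow_mem hs i) hx) (K.inv_mem (K.pow_mem hs i))
    rcases S.conj i with e | e <;> rw [e] at this
    · exact this
    · exact K.inv_mem_iff.mp this
  refine (Subgroup.closure_le _).mpr ?_ (mem_closure_cyc (zero_ne_one' hN)
    (Finset.univ.filter fun k : Fin (N + 1) => 2 ≤ (k : ℕ)) (by simp)
    (by simp only [Finset.mem_filter, Finset.mem_univ, true_and, val_one hN]; omega) g hg ?_)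
  · rintro _ ⟨k, hk, rfl⟩
    have h2 : 2 ≤ (k : ℕ) := by simpa using hk
    rcases exists_P hN k with rfl | rfl | e
    · simp at h2
    · rw [val_one hN] at h2; omega
    · rw [e]; exact hc _
  · intro k hk
    simp only [Finset.mem_insert, Finset.mem_filter, Finset.mem_univ, true_and, not_or] at hk
    rcases exists_P hN k with rfl | rfl | e
    · exact absurd rfl hk.1
    · exact absurd rfl hk.2.1
    · exact absurd (by rw [e]; simp [P]) hk.2.2

variable {H : Type} [Group H]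

/-- the conjugates of `x` along `s` -/
def ys (s x : H) (i : ℕ) : H := s ^ i * x * (s ^ i)⁻¹

section Window

variable {p : ℕ} [Fact p.Prime]

theorem pt_eq_P (hN : p + 1 ≤ N) (hN2 : 2 ≤ N) (j : ZMod p) : pt hN j = P hN2 j.val := by
  have := ZMod.val_lt j
  exact Fin.ext (by simp only [pt, P]; rw [Nat.mod_eq_of_lt (by omega)])

theorem P_val (hN2 : 2 ≤ N) {i : ℕ} (hi : i + 2 ≤ N) : (P hN2 i : ℕ) = 2 + i := by
  simp only [P]; rw [Nat.mod_eq_of_lt (by omega)]

/-- injectivity from the seven relations -/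
theorem inj_seven {r : ℕ} (R : Root p r) (hp : 3 ≤ p) (hN : p + 1 ≤ N) (hN' : N ≤ 2 * p) (hN2 : 2 ≤ N)
    {s x a b v : H} (π : H →* Perm (Fin (N + 1))) {σ A B C : Perm (Fin (N + 1))}
    (M0 : Model r (pt hN) 0 1 A B C) (S : Sig hN2 σ) (hs : π s = σ) (hx : π x = cyc 0 1 (P hN2 0))
    (ha : π a = A) (h : Rel p r a b x) (hW : b * a ∈ NN p a x)
    (hv : v ∈ Subgroup.closure ({a, x} : Set H)) (hb : b = v * (s * x * s⁻¹))
    {u u' : H} (hu : u ∈ Subgroup.closure ({a, x} : Set H)) (hu' : u' ∈ Subgroup.closure ({a, x} : Set H))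
    (hG0 : π u 0 = 1) (hG1 : π u 1 = 0)
    (hG : ∀ i : ℕ, i + 2 < p → π u (P hN2 i) = P hN2 (i + 1))
    (h6 : s * u * s⁻¹ = u' * s ^ (N - 1)) (h7 : (x * s) ^ (if Even N then N + 1 else N) = s ^ (N - 1)) :
    ∀ g ∈ Subgroup.closure ({s, x, a} : Set H), π g = 1 → g = 1 := by
  have P0 := pts (p := p) hN
  have h01 := zero_ne_one' hN2
  set M := Subgroup.closure ({a, b, x} : Set H)
  have hAX : Subgroup.closure ({a, x} : Set H) ≤ M :=
    Subgroup.closure_mono (by rintro _ (rfl | rfl) <;> simp)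
  have hX : π x = cyc 0 1 (pt hN 0) := by rw [hx, pt_eq_P hN hN2, ZMod.val_zero]
  have injM : ∀ g ∈ M, π g = 1 → g = 1 := fun g hg h1 =>
    h.inj_alt R P0 (ha ▸ M0.shift) hX hW hg h1
  have eqM : ∀ g ∈ M, ∀ g' ∈ M, π g = π g' → g = g' := fun g hg g' hg' e =>
    mul_inv_eq_one.mp (injM _ (M.mul_mem hg (M.inv_mem hg')) (by rw [map_mul, map_inv, e, mul_inv_cancel]))
  set y := ys s x with hy
  set Z := s ^ (N - 1) with hZ
  have hZs : Commute Z s := (Commute.refl s).pow_left _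
  have hZx : Commute Z x := by
    have h1 : Commute Z (x * s) := h7 ▸ (Commute.refl _).pow_left _
    simpa using h1.mul_right hZs.inv_right
  have hZy : ∀ i, Commute Z (y i) := fun i =>
    ((hZs.pow_right i).mul_right hZx).mul_right (hZs.pow_right i).inv_right
  have per : ∀ i, y (i + (N - 1)) = y i := fun i => by
    show s ^ (i + (N - 1)) * x * (s ^ (i + (N - 1)))⁻¹ = s ^ i * x * (s ^ i)⁻¹
    rw [pow_add, mul_assoc (s ^ i) _ x, hZx.eq, mul_inv_rev]
    simp only [← mul_assoc, ← hZ, mul_inv_cancel_right]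
  have yimg : ∀ i, π (y i) = cyc 0 1 (P hN2 i) ∨ π (y i) = (cyc 0 1 (P hN2 i))⁻¹ := fun i => by
    have := S.conj i
    simpa only [hy, ys, map_mul, map_inv, map_pow, hs, hx] using this
  have ysucc : ∀ i, y (i + 1) = s * y i * s⁻¹ := fun i => by simp only [hy, ys, pow_succ']; group
  have hM : ∀ i, i + 1 ≤ p → y i ∈ M := by
    intro i
    induction i using Nat.strong_induction_on with
    | _ i ih =>
      intro hi
      match i, ih, hi with
      | 0, _, _ =>
        simpa [hy, ys] using Subgroup.subset_closure (show x ∈ ({a, b, x} : Set H) by simp)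
      | 1, _, _ =>
        convert M.mul_mem (M.inv_mem (hAX hv)) (Subgroup.subset_closure (show b ∈ ({a, b, x} : Set H) by simp))
          using 1
        rw [hb, ysucc]; simp [hy, ys]
      | i + 2, ih, hi =>
        have m1 := ih (i + 1) (by omega) (by omega)
        have m0 := ih i (by omega) (by omega)
        have key : ∃ w, (w = y i ∨ w = (y i)⁻¹) ∧ y (i + 1) = u * w * u⁻¹ := by
          have cu : π u * cyc 0 1 (P hN2 i) * (π u)⁻¹ = (cyc 0 1 (P hN2 (i + 1)))⁻¹ := by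
            rw [conj_cyc, hG0, hG1, hG i (by omega)]
            exact cyc_swap h01 (P_ne0 _ _) (P_ne1 _ _)
          have cu' : π u * (cyc 0 1 (P hN2 i))⁻¹ * (π u)⁻¹ = cyc 0 1 (P hN2 (i + 1)) := by
            rw [← inv_inj, mul_inv_rev, mul_inv_rev, inv_inv, inv_inv, ← mul_assoc, cu]
          have pick : ∀ w ∈ M, π u * π w * (π u)⁻¹ = π (y (i + 1)) → y (i + 1) = u * w * u⁻¹ := fun w hw e =>
            eqM _ m1 _ (M.mul_mem (M.mul_mem (hAX hu) hw) (M.inv_mem (hAX hu)))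
              (by rw [map_mul, map_mul, map_inv, e])
          rcases yimg i with e | e <;> rcases yimg (i + 1) with e' | e'
          · exact ⟨_, Or.inr rfl, pick _ (M.inv_mem m0) (by rw [map_inv, e, e', cu'])⟩
          · exact ⟨_, Or.inl rfl, pick _ m0 (by rw [e, e', cu])⟩
          · exact ⟨_, Or.inl rfl, pick _ m0 (by rw [e, e', cu'])⟩
          · exact ⟨_, Or.inr rfl, pick _ (M.inv_mem m0) (by rw [map_inv, e, e', inv_inv, cu])⟩
        obtain ⟨w, hw, e⟩ := key
        have hsw : s * w * s⁻¹ ∈ M ∧ Commute Z (s * w * s⁻¹) := by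
          rcases hw with rfl | rfl
          · rw [← ysucc]; exact ⟨m1, hZy _⟩
          · rw [show s * (y i)⁻¹ * s⁻¹ = (y (i + 1))⁻¹ by rw [ysucc]; group]
            exact ⟨M.inv_mem m1, (hZy _).inv_right⟩
        have e' : y (i + 2) = u' * (s * w * s⁻¹) * u'⁻¹ := by
          calc y (i + 2) = s * (u * w * u⁻¹) * s⁻¹ := by rw [ysucc, e]
            _ = (s * u * s⁻¹) * (s * w * s⁻¹) * (s * u * s⁻¹)⁻¹ := by group
            _ = u' * (Z * (s * w * s⁻¹)) * Z⁻¹ * u'⁻¹ := by rw [h6]; group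
            _ = _ := by rw [hsw.2.eq]; group
        rw [e']
        exact M.mul_mem (M.mul_mem (hAX hu') hsw.1) (M.inv_mem (hAX hu'))
  -- conjugates of the window
  let Mc : ℕ → Subgroup H := fun l => M.map (MulAut.conj (s ^ l)).toMonoidHom
  have injC : ∀ l, ∀ g ∈ Mc l, π g = 1 → g = 1 := by
    rintro l _ ⟨g, hg, rfl⟩ h1
    simp only [MulEquiv.toMonoidHom_eq_coe, MonoidHom.coe_coe, MulAut.conj_apply] at h1 ⊢
    rw [map_mul, map_mul, map_inv, conj_eq_one_iff] at h1
    rw [injM g hg h1]; group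
  have memC : ∀ l d, d + 1 ≤ p → y (l + d) ∈ Mc l := fun l d hd =>
    ⟨y d, hM d hd, by simp only [hy, ys, pow_add, MulEquiv.toMonoidHom_eq_coe, MonoidHom.coe_coe, MulAut.conj_apply]; group⟩
  classical
  let z : ℕ → H := fun i => if π (y i) = cyc 0 1 (P hN2 i) then y i else (y i)⁻¹
  have zimg : ∀ i, π (z i) = cyc 0 1 (P hN2 i) := fun i => by
    simp only [z]
    split_ifs with e
    · exact e
    · rw [map_inv, (yimg i).resolve_left e, inv_inv]
  have zmem : ∀ (Q : Subgroup H) i, y i ∈ Q ↔ z i ∈ Q := fun Q i => by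
    simp only [z]; split_ifs <;> simp
  have zc : ∀ l d, d + 1 ≤ p → z (l + d) ∈ Mc l := fun l d hd => (zmem _ _).mp (memC l d hd)
  have zC : ∀ i, z i ∈ Mc i := fun i => zc i 0 (by omega)
  have cube : ∀ i, z i * z i * z i = 1 := fun i =>
    injC i _ ((Mc i).mul_mem ((Mc i).mul_mem (zC i) (zC i)) (zC i)) (by
      rw [map_mul, map_mul, zimg, ShortPresGlue.cyc_cube h01 (P_ne0 _ _) (P_ne1 _ _)])
  have pair : ∀ i j, i < N - 1 → j < N - 1 → i ≠ j → z i * z j * (z i * z j) = 1 := by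
    intro i j hi hj hij
    have hne : P hN2 i ≠ P hN2 j := fun e => hij (by
      have := congrArg Fin.val e
      rwa [P_val hN2 (by omega), P_val hN2 (by omega), Nat.add_left_cancel_iff] at this)
    obtain ⟨l, li, lj⟩ : ∃ l, z i ∈ Mc l ∧ z j ∈ Mc l := by
      have sym : ∀ i j, i < j → j < N - 1 → ∃ l, z i ∈ Mc l ∧ z j ∈ Mc l := fun i j hij hj => by
        by_cases hd : j - i + 1 ≤ p
        · refine ⟨i, zC i, ?_⟩
          have := zc i (j - i) hd
          rwa [Nat.add_sub_cancel' hij.le] at this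
        · refine ⟨j, ?_, zC j⟩
          have := memC j (N - 1 - (j - i)) (by omega)
          rw [show j + (N - 1 - (j - i)) = i + (N - 1) by omega, per] at this
          exact (zmem _ _).mp this
      rcases lt_or_gt_of_ne hij with h | h
      · exact sym i j h hj
      · exact (sym j i h hi).imp fun _ => And.symm
    refine injC l _ ((Mc l).mul_mem ((Mc l).mul_mem li lj) ((Mc l).mul_mem li lj)) ?_
    rw [map_mul, map_mul, zimg, zimg]
    exact ShortPresGlue.cyc_pair h01 (P_ne0 _ _) (P_ne1 _ _) (P_ne0 _ _) (P_ne1 _ _) hne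
  set K := Subgroup.closure (Set.range y) with hK
  have yK : ∀ i, y i ∈ K := fun i => Subgroup.subset_closure ⟨i, rfl⟩
  have hxK : x ∈ K := by simpa [hy, ys] using yK 0
  have sK : ∀ g ∈ K, s * g * s⁻¹ ∈ K := fun g hg => conj_mem s y (fun i => by rw [← ysucc]; exact yK _) hg
  have haK : a ∈ K := by
    obtain ⟨W, hWA⟩ := even_word P0 M0.signA M0.memA
    have hr : A ∈ Subgroup.closure (Set.range fun j => cyc (0 : Fin (N + 1)) 1 (pt hN j)) := by
      rw [← hWA, ← FreeGroup.range_lift_eq_closure]; exact ⟨W, rfl⟩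
    obtain ⟨g, hg, hgA⟩ : A ∈ (M ⊓ K).map π := by
      refine (Subgroup.closure_le _).mpr ?_ hr
      rintro _ ⟨j, rfl⟩
      have hj := ZMod.val_lt j
      exact ⟨z j.val, ⟨(zmem _ _).mp (hM _ (by omega)), (zmem _ _).mp (yK _)⟩, by simp only [zimg, pt_eq_P hN hN2]⟩
    rw [eqM a (Subgroup.subset_closure (Or.inl rfl)) g hg.1 (ha.trans hgA.symm)]
    exact hg.2
  have hAXK : Subgroup.closure ({a, x} : Set H) ≤ K := by
    rw [Subgroup.closure_le]; rintro _ (rfl | rfl)
    exacts [haK, hxK]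
  have hZK : Z ∈ K := by
    convert K.mul_mem (K.inv_mem (hAXK hu')) (sK _ (hAXK hu)) using 1
    rw [h6, inv_mul_cancel_left]
  have prod : ∀ k, (x * s) ^ k * (s ^ k)⁻¹ ∈ K := fun k => by
    induction k with
    | zero => simp
    | succ k ih =>
      convert K.mul_mem ih (yK k) using 1
      simp only [hy, ys, pow_succ]; group
  have hsK : s ∈ K := by
    by_cases hev : Even N
    · rw [if_pos hev] at h7
      have h1 := K.inv_mem (prod (N + 1))
      rw [h7, mul_inv_rev, inv_inv] at h1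
      have h2 : s ^ 2 ∈ K := by
        convert h1 using 1
        rw [hZ, show N + 1 = 2 + (N - 1) by omega, pow_add, mul_inv_cancel_right]
      obtain ⟨m, hm⟩ : Odd (N - 1) := by obtain ⟨k, rfl⟩ := hev; exact ⟨k - 1, by omega⟩
      convert K.mul_mem hZK (K.inv_mem (K.pow_mem h2 m)) using 1
      rw [hZ, hm, pow_add, pow_mul, pow_one, ((Commute.refl s).pow_left 2).pow_left m |>.eq, mul_inv_cancel_right]
    · rw [if_neg hev] at h7
      have h1 := K.inv_mem (prod N)
      rw [h7, mul_inv_rev, inv_inv] at h1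
      convert h1 using 1
      rw [hZ]
      conv_rhs => rw [show s ^ N = s * s ^ (N - 1) by rw [← pow_succ', Nat.sub_add_cancel (by omega)]]
      rw [mul_inv_cancel_right]
  intro g hg h1
  have hgK : g ∈ K := (Subgroup.closure_le _).mpr (by
    rintro _ (rfl | rfl | rfl)
    exacts [hsK, hxK, haK]) hg
  let Y : Fin (N + 1) → H := fun k => z ((k : ℕ) - 2)
  set T := Finset.univ.filter fun k : Fin (N + 1) => 2 ≤ (k : ℕ)
  have hT : ∀ k ∈ T, P hN2 ((k : ℕ) - 2) = k := fun k hk => by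
    have h2 : 2 ≤ (k : ℕ) := by simpa [T] using hk
    exact Fin.ext (by rw [P_val hN2 (by omega)]; omega)
  refine eq_one_of_map h01 Y π T (by simp [T])
    (by simp only [T, Finset.mem_filter, Finset.mem_univ, true_and, val_one hN2]; omega) ?_ ?_ ?_ g ?_ h1
  · exact fun k hk => by rw [zimg, hT k hk]
  · exact fun k _ => cube _
  · intro i hi j hj hij
    refine pair _ _ ?_ ?_ fun e => hij (by rw [← hT i hi, ← hT j hj, e])
    · have : 2 ≤ (i : ℕ) := by simpa [T] using hi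
      omega
    · have : 2 ≤ (j : ℕ) := by simpa [T] using hj
      omega
  · refine (Subgroup.closure_le _).mpr ?_ hgK
    rintro _ ⟨i, rfl⟩
    have hlt := Nat.mod_lt i (show N - 1 > 0 by omega)
    have hper : ∀ k m, y (m + (N - 1) * k) = y m := fun k => by
      induction k with
      | zero => simp
      | succ k ih => intro m; rw [Nat.mul_succ, ← add_assoc, per, ih]
    rw [← Nat.mod_add_div i (N - 1), hper, SetLike.mem_coe, zmem]
    refine Subgroup.subset_closure ⟨⟨i % (N - 1) + 2, by omega⟩, by simp [T], ?_⟩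
    simp [Y]

/-- the alternating group on three letters with seven relators -/
theorem alt_pres₃ (hp : 3 ≤ p) (hN : p + 1 ≤ N) (hN' : N ≤ 2 * p) :
    ∃ (s x a : alternatingGroup (Fin (N + 1))) (L : List (FreeGroup (Fin 3))),
      L.length ≤ 7 ∧ Subgroup.closure ({s, x} : Set (alternatingGroup (Fin (N + 1)))) = ⊤ ∧ Pres ![s, x, a] L := by
  have hN2 : 2 ≤ N := by omega
  obtain ⟨r, R⟩ := exists_root p hp
  have P0 := pts (p := p) hN
  have h01 := zero_ne_one' hN2
  obtain ⟨A, B, C, M0⟩ := exists_model R hp P0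
  obtain ⟨σ, S⟩ := exists_sig (N := N) (by omega)
  set X := cyc (0 : Fin (N + 1)) 1 (pt hN 0) with hX
  have eX : cyc (0 : Fin (N + 1)) 1 (P hN2 0) = X := by rw [hX, pt_eq_P hN hN2, ZMod.val_zero]
  have hsX : sign X = 1 := sign_cyc P0.ne (P0.fb 0)
  have hσX : σ * X * σ⁻¹ ∈ inside (pt hN) (0 : Fin (N + 1)) 1 := mem_inside_of hN fun k hk => by
    have k0 : k ≠ 0 := fun e => by subst e; simp at hk
    have k1 : k ≠ 1 := fun e => by subst e; rw [val_one hN2] at hk; omega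
    have k3 : k ≠ P hN2 1 := fun e => by subst e; rw [P_val hN2 (by omega)] at hk; omega
    have := S.conj 1
    rw [pow_one, eX] at this
    rcases this with e | e <;> rw [e]
    · exact cyc_other k0 k1 k3
    · exact cyc_inv_other k0 k1 k3
  obtain ⟨V, hV⟩ := even_word₂ (g := C * (σ * X * σ⁻¹)⁻¹) P0 M0.shift
    (by simp [M0.signC, S.even, hsX]) (Subgroup.mul_mem _ M0.memC (Subgroup.inv_mem _ hσX))
  obtain ⟨W, hW⟩ := even_word (g := C * A) P0 (by rw [map_mul, M0.signC, M0.signA]; rfl)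
    (Subgroup.mul_mem _ M0.memC M0.memA)
  set τ : Perm (Fin (N + 1)) := swap 0 1
  let ρ : Perm (Fin (N + 1)) := viaEmbedding (finRotate (p + 1)) (Fin.castLEEmb (by omega : p + 1 ≤ N + 1))
  have hρapp : ∀ k : ℕ, k < p → ρ (k : Fin (N + 1)) = ((k + 1 : ℕ) : Fin (N + 1)) := fun k hk => by
    rw [show (k : Fin (N + 1)) = Fin.castLEEmb (by omega : p + 1 ≤ N + 1) ⟨k, by omega⟩ from
      Fin.ext (by simp [val_cast (show k ≤ N by omega)]), viaEmbedding_apply, finRotate_succ_apply]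
    refine Fin.ext ?_
    rw [val_cast (show k + 1 ≤ N by omega)]
    simp [Fin.val_add, Nat.mod_eq_of_lt (show k + 1 < p + 1 by omega)]
  have hρfix : ∀ k : Fin (N + 1), p + 1 ≤ (k : ℕ) → ρ k = k := fun k hk =>
    viaEmbedding_apply_of_notMem _ _ _ (by rintro ⟨i, rfl⟩; simp at hk; omega)
  have hρs : sign ρ = -1 := by
    have : sign ρ = sign (finRotate (p + 1)) := by
      simp only [ρ, viaEmbedding]
      convert sign_extendDomain (finRotate (p + 1)) _
    rw [this, sign_finRotate, Nat.add_sub_cancel,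
      ((Fact.out : p.Prime).odd_of_ne_two (by omega)).neg_one_pow]
  let G := X⁻¹ * ρ * τ
  have hGs : sign G = 1 := by simp [G, τ, hsX, hρs, sign_swap h01]
  have ePc : ∀ i : ℕ, i + 2 ≤ N → P hN2 i = ((i + 2 : ℕ) : Fin (N + 1)) := fun i hi =>
    Fin.ext (by rw [P_val hN2 hi, val_cast (by omega)]; omega)
  have ρ0 : ρ 0 = 1 := by simpa using hρapp 0 (by omega)
  have ρ1 : ρ 1 = P hN2 0 := by rw [ePc 0 (by omega)]; simpa using hρapp 1 (by omega)
  have G0 : G 0 = 1 := by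
    simp only [G, τ, Perm.mul_apply, swap_apply_left]
    rw [ρ1, Perm.inv_def, Equiv.symm_apply_eq, ← eX, cyc_b (P_ne0 _ _) (P_ne1 _ _)]
  have G1 : G 1 = 0 := by
    simp only [G, τ, Perm.mul_apply, swap_apply_right]
    rw [ρ0, Perm.inv_def, Equiv.symm_apply_eq, ← eX, cyc_a h01 (P_ne0 _ _)]
  have Gi : ∀ i : ℕ, i + 2 < p → G (P hN2 i) = P hN2 (i + 1) := fun i hi => by
    simp only [G, τ, Perm.mul_apply]
    rw [swap_apply_of_ne_of_ne (P_ne0 _ _) (P_ne1 _ _), ePc i (by omega), hρapp _ hi, ← ePc (i + 1) (by omega),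
      ← eX, cyc_inv_other (P_ne0 _ _) (P_ne1 _ _)]
    intro e
    have := congrArg Fin.val e
    rw [P_val hN2 (by omega), P_val hN2 (by omega)] at this; omega
  have Gfix : ∀ k : Fin (N + 1), p + 1 ≤ (k : ℕ) → G k = k := fun k hk => by
    have k0 : k ≠ 0 := fun e => by subst e; simp at hk
    have k1 : k ≠ 1 := fun e => by subst e; rw [val_one hN2] at hk; omega
    have k2 : k ≠ P hN2 0 := fun e => by subst e; rw [P_val hN2 (by omega)] at hk; omega
    simp only [G, τ, Perm.mul_apply]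
    rw [swap_apply_of_ne_of_ne k0 k1, hρfix k hk, ← eX, cyc_inv_other k0 k1 k2]
  obtain ⟨w, hw⟩ := even_word₂ (g := G) P0 M0.shift hGs (mem_inside_of hN fun k hk => Gfix k (by omega))
  obtain ⟨w', hw'⟩ := even_word₂ (g := σ * G * σ⁻¹) P0 M0.shift (by simp [hGs])
    (mem_inside_of hN fun k hk => by
      have e : σ (P hN2 ((k : ℕ) - 3)) = k := by
        rw [S.shift]; exact Fin.ext (by rw [P_val hN2 (by omega)]; omega)
      rw [← e, Perm.mul_apply, Perm.mul_apply, Perm.inv_def, Equiv.symm_apply_apply, Gfix]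
      rw [P_val hN2 (by omega)]; omega)
  let s' : FreeGroup (Fin 3) := FreeGroup.of 0
  let x' : FreeGroup (Fin 3) := FreeGroup.of 1
  let a' : FreeGroup (Fin 3) := FreeGroup.of 2
  let b' : FreeGroup (Fin 3) := FreeGroup.lift ![a', x'] V * (s' * x' * s'⁻¹)
  let L : List (FreeGroup (Fin 3)) :=
    [b' * a' * b'⁻¹ * (a' ^ r)⁻¹, b' * x' * b'⁻¹ * x', x' * x' * x' * (a' ^ p)⁻¹,
      x' * (a' * x' * a'⁻¹) * (x' * (a' * x' * a'⁻¹)),
      b' * a' * (FreeGroup.lift (xs p a' x') W)⁻¹,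
      s' * FreeGroup.lift ![a', x'] w * s'⁻¹ * (FreeGroup.lift ![a', x'] w' * s' ^ (N - 1))⁻¹,
      (x' * s') ^ (if Even N then N + 1 else N) * (s' ^ (N - 1))⁻¹]
  have ev : ∀ (K : Type) [Group K] (y : Fin 3 → K) (b : K),
      b = FreeGroup.lift ![y 2, y 1] V * (y 0 * y 1 * (y 0)⁻¹) →
      ((∀ l ∈ L, FreeGroup.lift y l = 1) ↔
        b * y 2 * b⁻¹ = y 2 ^ r ∧ b * y 1 * b⁻¹ = (y 1)⁻¹ ∧ y 1 * y 1 * y 1 = y 2 ^ p ∧
        y 1 * (y 2 * y 1 * (y 2)⁻¹) * (y 1 * (y 2 * y 1 * (y 2)⁻¹)) = 1 ∧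
        b * y 2 = FreeGroup.lift (xs p (y 2) (y 1)) W ∧
        y 0 * FreeGroup.lift ![y 2, y 1] w * (y 0)⁻¹ = FreeGroup.lift ![y 2, y 1] w' * y 0 ^ (N - 1) ∧
        (y 1 * y 0) ^ (if Even N then N + 1 else N) = y 0 ^ (N - 1)) := by
    intro K _ y b hb
    have e2 : ∀ v, FreeGroup.lift y (FreeGroup.lift ![a', x'] v) = FreeGroup.lift ![y 2, y 1] v :=
      map_word (FreeGroup.lift y) (fun i => by fin_cases i <;> simp [a', x'])
    have eb : FreeGroup.lift y b' = b := by simp [b', s', x', hb, e2]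
    have eW : FreeGroup.lift y (FreeGroup.lift (xs p a' x') W) = FreeGroup.lift (xs p (y 2) (y 1)) W :=
      map_word (FreeGroup.lift y) (fun j => by simp [xs, a', x']) W
    simp only [L, List.forall_mem_cons, List.not_mem_nil, IsEmpty.forall_iff, implies_true, and_true,
      map_mul, map_inv, map_pow, eb, eW, e2]
    simp only [a', s', x', FreeGroup.lift_apply_of, mul_eq_one_iff_eq_inv, inv_inv]
  let sg' : alternatingGroup (Fin (N + 1)) := ⟨σ, mem_alternatingGroup.mpr S.even⟩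
  let xg : alternatingGroup (Fin (N + 1)) := ⟨X, mem_alternatingGroup.mpr hsX⟩
  let ag : alternatingGroup (Fin (N + 1)) := ⟨A, mem_alternatingGroup.mpr M0.signA⟩
  let ι := (alternatingGroup (Fin (N + 1))).subtype
  have hιv : ∀ i, ι (![sg', xg, ag] i) = ![σ, X, A] i := fun i => by fin_cases i <;> rfl
  have hgen : Subgroup.closure ({sg', xg} : Set (alternatingGroup (Fin (N + 1)))) = ⊤ := by
    refine eq_top_iff.mpr fun g _ => ?_
    have hg := S.generates (mem_alternatingGroup.mp g.2)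
    rw [eX] at hg
    have : (Subgroup.closure ({sg', xg} : Set (alternatingGroup (Fin (N + 1))))).map ι =
        Subgroup.closure {σ, X} := by rw [MonoidHom.map_closure, Set.image_pair]; rfl
    rw [← this] at hg
    obtain ⟨g', hg', e⟩ := hg
    rwa [← Subgroup.subtype_injective _ e]
  refine ⟨sg', xg, ag, L, by simp [L], hgen, Pres.of_inj ?_ ?_ ?_⟩
  · intro l hl
    refine Subgroup.subtype_injective _ ?_
    rw [map_one, map_word _ hιv]
    have eB : FreeGroup.lift ![A, X] V * (σ * X * σ⁻¹) = C := by rw [hV, inv_mul_cancel_right]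
    have := (ev (Perm (Fin (N + 1))) ![σ, X, A] C eB.symm).mpr
    refine this ⟨M0.conjCA, M0.conjCX, ?_, ?_, ?_, ?_, ?_⟩ l hl
    · exact (ShortPresGlue.cyc_cube P0.ne (P0.fa 0) (P0.fb 0)).trans M0.apow.symm
    · show X * (A * X * A⁻¹) * (X * (A * X * A⁻¹)) = 1
      have := M0.shift.conj 1
      rw [pow_one, Nat.cast_one] at this
      rw [this]
      haveI : Fact (1 < p) := ⟨by omega⟩
      exact ShortPresGlue.cyc_pair P0.ne (P0.fa _) (P0.fb _) (P0.fa _) (P0.fb _) (fun e => zero_ne_one (P0.inj e))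
    · show C * A = FreeGroup.lift (xs p A X) W
      rw [← hW]
      congr 2
      funext j
      rw [xs, M0.shift.conj, ZMod.natCast_zmod_val]
    · show σ * FreeGroup.lift ![A, X] w * σ⁻¹ = FreeGroup.lift ![A, X] w' * σ ^ (N - 1)
      rw [hw, hw', S.card, mul_one]
    · show (X * σ) ^ (if Even N then N + 1 else N) = σ ^ (N - 1)
      rw [← eX, S.long, S.card]
  · refine eq_top_iff.mpr (hgen.ge.trans (Subgroup.closure_mono ?_))
    rintro _ (rfl | rfl)
    exacts [⟨0, rfl⟩, ⟨1, rfl⟩]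
  · intro H _ y π hπ hy' hy
    obtain ⟨h1, h2, h3, h4, h5, h6, h7⟩ := (ev H y _ rfl).mp hy
    set b := FreeGroup.lift ![y 2, y 1] V * (y 0 * y 1 * (y 0)⁻¹) with hb
    let π' : H →* Perm (Fin (N + 1)) := ι.comp π
    have hπ' : ∀ i, π' (y i) = ![σ, X, A] i := fun i => by
      show ι (π (y i)) = _
      rw [hπ i, hιv]
    have hmem : ∀ v, FreeGroup.lift ![y 2, y 1] v ∈ Subgroup.closure ({y 2, y 1} : Set H) := fun v => by
      have hle : (FreeGroup.lift ![y 2, y 1]).range ≤ Subgroup.closure ({y 2, y 1} : Set H) := by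
        rw [FreeGroup.range_lift_eq_closure]
        exact Subgroup.closure_mono (by rintro _ ⟨i, rfl⟩; fin_cases i <;> simp)
      exact hle ⟨v, rfl⟩
    have hW' : b * y 2 ∈ NN p (y 2) (y 1) := by
      rw [h5, NN, ← FreeGroup.range_lift_eq_closure]; exact ⟨W, rfl⟩
    have pw : π' (FreeGroup.lift ![y 2, y 1] w) = G := by
      rw [← hw]
      exact map_word π' (fun i => by fin_cases i; exacts [hπ' 2, hπ' 1]) w
    have key := inj_seven R hp hN hN' hN2 π' M0 S (hπ' 0) (by rw [eX]; exact hπ' 1) (hπ' 2)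
      ⟨h1, Or.inr h2, h3, h4⟩ hW' (hmem V) hb (hmem w) (hmem w')
      (by rw [pw]; exact G0) (by rw [pw]; exact G1) (fun i hi => by rw [pw]; exact Gi i hi) h6 h7
    refine (injective_iff_map_eq_one π).mpr fun g hg => key g ?_ (by simp [π', hg])
    have hle : (⊤ : Subgroup H) ≤ Subgroup.closure {y 0, y 1, y 2} := by
      rw [← hy']
      exact Subgroup.closure_mono (by rintro _ ⟨i, rfl⟩; fin_cases i <;> simp)
    exact hle (Subgroup.mem_top g)

end Window

end Cfsg.Agent.ShortPresAlt
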