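import Cfsg.Agent.Lib.ShortPresSpPres
import Cfsg.Agent.S2278
import Cfsg.Agent.S2279

/-!
Two generators of the stabiliser of a basis vector and of a complementary hyperplane in `SL(m + 2, F)`.
-/

set_option autoImplicit false

namespace Cfsg.Agent.ShortPresSpBlk

open Matrix ShortPresSpCore
open scoped MatrixGroups

variable {F : Type*} [Field F]

/-- two generators of `SL(n, F)` -/
theorem sl_pair [Fintype F] (n : ℕ) : ∃ a b : SL(n, F), Subgroup.closure ({a, b} : Set SL(n, F)) = ⊤ := by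
  match n with
  | 0 => exact ⟨1, 1, Subsingleton.elim _ _⟩
  | 1 =>
    have : Subsingleton SL(1, F) := ⟨fun g h => Subtype.ext (by
      have hg := g.2
      have hh := h.2
      rw [Matrix.det_fin_one] at hg hh
      ext i j
      rw [Subsingleton.elim i 0, Subsingleton.elim j 0, hg, hh])⟩
    exact ⟨1, 1, Subsingleton.elim _ _⟩
  | 2 => exact ShortPresSpPres.exists_two
  | 3 =>
    obtain ⟨u, g, -, -, h⟩ := S2278.result (F := F)
    exact ⟨_, _, h⟩
  | k + 4 =>
    obtain ⟨u, v, -, -, h⟩ := (S2279.result (F := F) (k + 4) (by omega)).1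
    exact ⟨u, v, h⟩

variable {n : ℕ}

/-- the matrix with a unit first block -/
def bmat (g : Matrix (Fin n) (Fin n) F) : Matrix (Fin (n + 1)) (Fin (n + 1)) F :=
  fun i j => Fin.cases (Fin.cases (1 : F) (fun _ => 0) j) (fun i' => Fin.cases (0 : F) (fun j' => g i' j') j) i

theorem bmat_det (g : Matrix (Fin n) (Fin n) F) : (bmat g).det = g.det := by
  rw [Matrix.det_succ_row_zero, Fin.sum_univ_succ]
  simp [bmat, Matrix.submatrix]
  rfl

theorem bmat_mul (g h : Matrix (Fin n) (Fin n) F) : bmat g * bmat h = bmat (g * h) := by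
  ext i j
  rw [Matrix.mul_apply, Fin.sum_univ_succ]
  refine Fin.cases ?_ (fun i' => ?_) i <;> refine Fin.cases ?_ (fun j' => ?_) j <;> simp [bmat, Matrix.mul_apply]

theorem bmat_one : bmat (1 : Matrix (Fin n) (Fin n) F) = 1 := by
  ext i j
  refine Fin.cases ?_ (fun i' => ?_) i <;> refine Fin.cases ?_ (fun j' => ?_) j <;>
    simp [bmat, Matrix.one_apply, Fin.succ_ne_zero, (Fin.succ_ne_zero _).symm]

/-- the embedding as a complementary block -/
def bemb : SL(n, F) →* SL(n + 1, F) where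
  toFun g := ⟨bmat g.1, by rw [bmat_det]; exact g.2⟩
  map_one' := Subtype.ext bmat_one
  map_mul' g h := Subtype.ext (bmat_mul g.1 h.1).symm

theorem bemb_blk (g : SL(n, F)) : Blk 0 (bemb g) := by
  refine ⟨?_, fun l hl => ?_⟩
  · funext i
    rw [Matrix.mulVec_single_one]
    show bmat g.1 i 0 = _
    refine Fin.cases ?_ (fun i' => ?_) i <;> simp [bmat]
  · obtain ⟨l', rfl⟩ := Fin.exists_succ_eq.mpr hl
    show bmat g.1 0 l'.succ = _
    simp [bmat]

theorem blk_range {g : SL(n + 1, F)} (hg : Blk 0 g) : g ∈ (bemb (n := n) (F := F)).range := by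
  let h : Matrix (Fin n) (Fin n) F := fun i j => g.1 i.succ j.succ
  have hc : ∀ l : Fin n, g.1 l.succ 0 = 0 := fun l => by
    rw [apply_eq, hg.1]; exact Pi.single_eq_of_ne (Fin.succ_ne_zero l) _
  have hr : ∀ l : Fin n, g.1 0 l.succ = 0 := fun l => hg.2 _ (Fin.succ_ne_zero l)
  have h00 : g.1 0 0 = 1 := by rw [apply_eq, hg.1, Pi.single_eq_same]
  have e : bmat h = g.1 := by
    ext i j
    refine Fin.cases ?_ (fun i' => ?_) i <;> refine Fin.cases ?_ (fun j' => ?_) j <;> simp [bmat, h, hc, hr, h00]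
  refine ⟨⟨h, ?_⟩, Subtype.ext e⟩
  rw [← bmat_det, e]; exact g.2

/-- two generators of the block -/
theorem exists_blk [Fintype F] (m : ℕ) : ∃ S : List SL(m + 2, F), S.length = 2 ∧ (∀ g ∈ S, Blk 0 g) ∧
    ∀ g : SL(m + 2, F), Blk 0 g → g ∈ Subgroup.closure {g | g ∈ S} := by
  obtain ⟨a, b, hab⟩ := sl_pair (F := F) (m + 1)
  refine ⟨[bemb a, bemb b], rfl, ?_, fun g hg => ?_⟩
  · simp [bemb_blk]
  · obtain ⟨x, rfl⟩ := blk_range hg
    have : ({g | g ∈ [bemb a, bemb b]} : Set SL(m + 2, F)) = bemb '' {a, b} := by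
      ext y; simp [eq_comm]
    rw [this, ← MonoidHom.map_closure, hab]
    exact Subgroup.mem_map_of_mem _ (Subgroup.mem_top x)

end Cfsg.Agent.ShortPresSpBlk
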