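import Cfsg.Agent.Lib.ShortPresCn

/-!
A group generated by images of `SL(n)` and of a long-root `SL(2)`, subject to the rank-two identities,
maps injectively to the symplectic group.
-/

set_option autoImplicit false

namespace Cfsg.Agent.ShortPresSpCore

open Matrix PSL2Elements ShortPresSL ShortPresCn StemSLnTv
open scoped MatrixGroups commutatorElement

section SLn
variable {n : ℕ} {F : Type*} [Field F]

/-- monomial rank-one element of `SL(n)` -/
def om (a b : Fin n) (t : F) : SL(n, F) := tv a b t * tv b a (-t⁻¹) * tv a b t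

/-- torus element of `SL(n)` -/
def hh (a b : Fin n) (t : F) : SL(n, F) := om a b t * (om a b 1)⁻¹

theorem coe_mulVec (g g' : SL(n, F)) (v : Fin n → F) : (g * g').1 *ᵥ v = g.1 *ᵥ (g'.1 *ᵥ v) := by
  rw [Matrix.mulVec_mulVec]; rfl

theorem tv_single {i j : Fin n} (hij : i ≠ j) (r : F) (l : Fin n) (x : F) :
    (tv i j r).1 *ᵥ Pi.single l x = Pi.single l x + if l = j then Pi.single i (r * x) else 0 := by
  rw [tv_mulVec hij]
  by_cases h : l = j
  · subst h; rw [if_pos rfl, Pi.single_eq_same]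
  · rw [if_neg h, Pi.single_eq_of_ne (Ne.symm h), mul_zero, Pi.single_zero]

theorem om_single {a b : Fin n} (hab : a ≠ b) {t : F} (ht : t ≠ 0) (l : Fin n) (x : F) :
    (om a b t).1 *ᵥ Pi.single l x =
      if l = b then Pi.single a (t * x) else if l = a then Pi.single b (-t⁻¹ * x) else Pi.single l x := by
  simp only [om, coe_mulVec, tv_mulVec hab, tv_mulVec hab.symm]
  funext z
  simp only [Pi.add_apply, Pi.single_apply]
  split_ifs <;> subst_vars <;>
    simp_all [Pi.add_apply, Pi.single_apply] <;> field_simp <;> ring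

theorem ext_single {g g' : SL(n, F)} (h : ∀ l x, g.1 *ᵥ Pi.single l x = g'.1 *ᵥ Pi.single l x) : g = g' := by
  refine ext_mulVec fun w => ?_
  have e : w = ∑ l, Pi.single l (w l) := (Finset.univ_sum_single w).symm
  rw [e, Matrix.mulVec_sum, Matrix.mulVec_sum]
  exact Finset.sum_congr rfl fun l _ => h l _

theorem om_inv {a b : Fin n} (hab : a ≠ b) {t : F} (ht : t ≠ 0) : (om a b t)⁻¹ = om a b (-t) := by
  refine inv_eq_of_mul_eq_one_right (ext_single fun l x => ?_)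
  rw [coe_mulVec, om_single hab (neg_ne_zero.mpr ht), show (1 : SL(n, F)).1 = 1 from rfl, Matrix.one_mulVec]
  split_ifs with h1 h2
  · subst h1
    rw [om_single hab ht, if_neg hab, if_pos rfl]
    congr 1; field_simp
  · subst h2
    rw [om_single hab ht, if_pos rfl]
    congr 1; field_simp
  · rw [om_single hab ht, if_neg h1, if_neg h2]

/-- column `i` and row `j` are supported at `(j, i)` -/
def Maps (g : SL(n, F)) (i j : Fin n) (a : F) : Prop :=
  g.1 *ᵥ Pi.single i 1 = Pi.single j a ∧ ∀ l, l ≠ i → g.1 j l = 0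

theorem Maps.one (i : Fin n) : Maps (1 : SL(n, F)) i i 1 :=
  ⟨by rw [show (1 : SL(n, F)).1 = 1 from rfl, Matrix.one_mulVec], fun l hl => Matrix.one_apply_ne hl.symm⟩

theorem Maps.apply {g : SL(n, F)} {i j : Fin n} {a : F} (h : Maps g i j a) (x : F) :
    g.1 *ᵥ Pi.single i x = Pi.single j (a * x) := by
  have : (Pi.single i x : Fin n → F) = x • Pi.single i 1 := by rw [← Pi.single_smul, smul_eq_mul, mul_one]
  rw [this, Matrix.mulVec_smul, h.1, ← Pi.single_smul, smul_eq_mul, mul_comm]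

theorem Maps.mul {g g' : SL(n, F)} {i j k : Fin n} {a b : F} (h : Maps g i j a) (h' : Maps g' j k b) :
    Maps (g' * g) i k (b * a) := by
  refine ⟨by rw [coe_mulVec, h.1, h'.apply], fun l hl => ?_⟩
  rw [Matrix.SpecialLinearGroup.coe_mul, Matrix.mul_apply]
  refine Finset.sum_eq_zero fun z _ => ?_
  by_cases hz : z = j
  · subst hz; rw [h.2 l hl, mul_zero]
  · rw [h'.2 z hz, zero_mul]

theorem Maps.ne_zero {g : SL(n, F)} {i j : Fin n} {a : F} (h : Maps g i j a) : a ≠ 0 := by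
  intro ha
  have e : (g⁻¹).1 *ᵥ (g.1 *ᵥ Pi.single i 1) = Pi.single i 1 := by
    rw [← coe_mulVec, inv_mul_cancel]; exact Matrix.one_mulVec _
  rw [h.1, ha, Pi.single_zero, Matrix.mulVec_zero] at e
  simpa using congrFun e i

theorem apply_eq (g : SL(n, F)) (x y : Fin n) : g.1 x y = (g.1 *ᵥ Pi.single y 1) x := by
  rw [Matrix.mulVec_single_one]; rfl

theorem om_maps {a b : Fin n} (hab : a ≠ b) {t : F} (ht : t ≠ 0) :
    Maps (om a b t) b a t ∧ Maps (om a b t) a b (-t⁻¹) ∧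
      ∀ i, i ≠ a → i ≠ b → Maps (om a b t) i i 1 := by
  refine ⟨⟨?_, fun l hl => ?_⟩, ⟨?_, fun l hl => ?_⟩, fun i ha hb => ⟨?_, fun l hl => ?_⟩⟩
  · rw [om_single hab ht, if_pos rfl, mul_one]
  · rw [apply_eq, om_single hab ht, if_neg hl]
    split_ifs with h
    · exact Pi.single_eq_of_ne hab _
    · exact Pi.single_eq_of_ne (Ne.symm h) _
  · rw [om_single hab ht, if_neg hab, if_pos rfl, mul_one]
  · rw [apply_eq, om_single hab ht]
    split_ifs with h
    · exact Pi.single_eq_of_ne hab.symm _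
    · exact Pi.single_eq_of_ne (Ne.symm h) _
  · rw [om_single hab ht, if_neg hb, if_neg ha]
  · rw [apply_eq, om_single hab ht]
    split_ifs with h h'
    · exact Pi.single_eq_of_ne ha _
    · exact Pi.single_eq_of_ne hb _
    · exact Pi.single_eq_of_ne hl.symm _

theorem hh_single {a b : Fin n} (hab : a ≠ b) {t : F} (ht : t ≠ 0) (l : Fin n) (x : F) :
    (hh a b t).1 *ᵥ Pi.single l x =
      if l = a then Pi.single a (t * x) else if l = b then Pi.single b (t⁻¹ * x) else Pi.single l x := by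
  rw [hh, coe_mulVec, om_inv hab one_ne_zero, om_single hab (neg_ne_zero.mpr one_ne_zero)]
  split_ifs with h1 h2 h3
  · exact absurd (h2.symm.trans h1) hab
  · subst h1
    rw [om_single hab ht, if_neg hab, if_pos rfl]
    congr 1; simp
  · subst h3
    rw [om_single hab ht, if_pos rfl]
    congr 1; simp
  · rw [om_single hab ht, if_neg h1, if_neg h3]

theorem hh_maps {a b : Fin n} (hab : a ≠ b) {t : F} (ht : t ≠ 0) : Maps (hh a b t) a a t := by
  refine ⟨by rw [hh_single hab ht, if_pos rfl, mul_one], fun l hl => ?_⟩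
  rw [apply_eq, hh_single hab ht, if_neg hl]
  split_ifs
  · exact Pi.single_eq_of_ne hab _
  · exact Pi.single_eq_of_ne hl.symm _

theorem hh_ratio {a b : Fin n} (hab : a ≠ b) {s s0 : F} (hs : s ≠ 0) (h0 : s0 ≠ 0) :
    om a b s * (om a b s0)⁻¹ = hh a b (s / s0) := by
  refine ext_single fun l x => ?_
  rw [hh_single hab (div_ne_zero hs h0), coe_mulVec, om_inv hab h0, om_single hab (neg_ne_zero.mpr h0)]
  split_ifs with h1 h2 h3
  · exact absurd (h2.symm.trans h1) hab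
  · subst h1
    rw [om_single hab hs, if_neg hab, if_pos rfl]
    congr 1; field_simp
  · subst h3
    rw [om_single hab hs, if_pos rfl]
    congr 1; field_simp
  · rw [om_single hab hs, if_neg h1, if_neg h3]

/-- an embedded `SL(2)` -/
theorem exists_blk {i j : Fin n} (hij : i ≠ j) :
    ∃ θ : SL(2, F) →* SL(n, F), (∀ r, θ (u r) = tv i j r) ∧ ∀ r, θ (lo r) = tv j i r := by
  let M : SL(2, F) → Matrix (Fin n) (Fin n) F := fun x =>
    1 + single i i (x.1 0 0 - 1) + single i j (x.1 0 1) + single j i (x.1 1 0) + single j j (x.1 1 1 - 1)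
  have hM : ∀ x y, M (x * y) = M x * M y := fun x y => by
    simp only [M, Matrix.add_mul, Matrix.mul_add, Matrix.one_mul, Matrix.mul_one, Matrix.single_mul_single_same,
      Matrix.single_mul_single_of_ne _ _ _ _ hij, Matrix.single_mul_single_of_ne _ _ _ _ hij.symm, mul_apply2]
    ext a b
    simp only [Matrix.add_apply, Matrix.single_apply]
    split_ifs <;> simp <;> ring
  let f : SL(2, F) →* Matrix (Fin n) (Fin n) F :=
    { toFun := M, map_one' := by simp [M], map_mul' := hM }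
  have e : ∀ r, f (u r) = (tv i j r).1 ∧ f (lo r) = (tv j i r).1 := fun r => by
    constructor <;> simp [f, M, u, lo, tv, hij, hij.symm, Matrix.SpecialLinearGroup.transvection,
      Matrix.transvection]
  let δ : SL(2, F) →* Fˣ := (Matrix.detMonoidHom.comp f).toHomUnits
  have hd : ∀ x, δ x = 1 := hom_eq_roots (f := δ) (g := 1)
    (fun r => Units.ext (by
      show (f (u r)).det = 1
      rw [(e r).1]; exact (tv i j r).2))
    (fun r => Units.ext (by
      show (f (lo r)).det = 1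
      rw [(e r).2]; exact (tv j i r).2))
  refine ⟨{ toFun := fun x => ⟨f x, congrArg Units.val (hd x)⟩, map_one' := Subtype.ext (map_one f),
            map_mul' := fun x y => Subtype.ext (map_mul f x y) }, fun r => Subtype.ext (e r).1, fun r => Subtype.ext (e r).2⟩

/-- fixes the first basis vector as a direct summand -/
def Blk (z : Fin n) (g : SL(n, F)) : Prop := Maps g z z 1

theorem conj_tv {g : SL(n, F)} {i j i' j' : Fin n} {a b : F} (hij : i ≠ j) (hij' : i' ≠ j') (hi : Maps g i i' a)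
    (hj : Maps g j j' b) (r : F) : g * tv i j r * g⁻¹ = tv i' j' (a * b⁻¹ * r) := by
  rw [mul_inv_eq_iff_eq_mul]
  refine ext_single fun l x => ?_
  rw [coe_mulVec, coe_mulVec, tv_single hij]
  have e : ∀ w : Fin n → F, (tv i' j' (a * b⁻¹ * r)).1 *ᵥ w = w + Pi.single i' (a * b⁻¹ * r * w j') :=
    fun w => tv_mulVec hij' _ w
  rw [e, Matrix.mulVec_add]
  congr 1
  by_cases h : l = j
  · subst h
    rw [if_pos rfl, hi.apply, hj.apply, Pi.single_eq_same]
    congr 1
    have := hj.ne_zero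
    field_simp
  · rw [if_neg h, Matrix.mulVec_zero]
    have : (g.1 *ᵥ Pi.single l x) j' = 0 := by
      rw [Matrix.mulVec_single]
      simp [hj.2 l h]
    rw [this, mul_zero, Pi.single_zero]

end SLn

/-- the data -/
structure Gens (H : Type*) [Group H] (m : ℕ) (F : Type*) [Field F] where
  σ : SL(m + 2, F) →* H
  L : SL(2, F) →* H
  π : H →* Matrix.symplecticGroup (Fin (m + 2)) F
  π_σ : ∀ i j : Fin (m + 2), i ≠ j → ∀ r, (π (σ (tv i j r))).1 = rmat (Sum.inl i) (Sum.inl j) r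
  π_u : ∀ r, (π (L (u r))).1 = rmat (Sum.inl 0) (Sum.inr 0) r
  π_lo : ∀ r, (π (L (lo r))).1 = rmat (Sum.inr 0) (Sum.inl 0) r
  gen : σ.range ⊔ L.range = ⊤
  blk_comm : ∀ g, Blk 0 g → ∀ x, Commute (σ g) (L x)
  tor_u : ∀ t : F, t ≠ 0 → ∀ r, σ (hh 0 1 t) * L (u r) * (σ (hh 0 1 t))⁻¹ = L (u (t * t * r))
  tor_lo : ∀ t : F, t ≠ 0 → ∀ r, σ (hh 0 1 t) * L (lo r) * (σ (hh 0 1 t))⁻¹ = L (lo ((t * t)⁻¹ * r))
  long_tor : ∀ (t : Fˣ) r, L (d t) * σ (tv 0 1 r) * (L (d t))⁻¹ = σ (tv 0 1 (t * r))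
  long_comm : ∀ x y, Commute (L x) (σ (om 1 0 1) * L y * (σ (om 1 0 1))⁻¹)
  split : ∀ t : Fˣ, σ (hh 0 1 (t : F)) = L (d t) * (σ (om 1 0 1) * L (d t⁻¹) * (σ (om 1 0 1))⁻¹)
  flip : ∀ r, L SL2PresData.W * (σ (om 1 0 1) * L SL2PresData.W * (σ (om 1 0 1))⁻¹) * σ (tv 0 1 r) *
    (L SL2PresData.W * (σ (om 1 0 1) * L SL2PresData.W * (σ (om 1 0 1))⁻¹))⁻¹ = σ (tv 1 0 (-r))
  rel_a : ∀ r s, Commute (σ (tv 0 1 r)) (L (u s))
  rel_b : ∀ r s, ⁅σ (tv 0 1 r), σ (om 1 0 1) * L (u s) * (σ (om 1 0 1))⁻¹⁆ ∈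
    Subgroup.closure {g | ∃ v : F, g = L (u v) ∨
      g = σ (om 1 0 1) * L SL2PresData.W * (σ (om 1 0 1))⁻¹ * σ (tv 0 1 v) *
        (σ (om 1 0 1) * L SL2PresData.W * (σ (om 1 0 1))⁻¹)⁻¹}
  rel_c : ∀ r s, ⁅σ (tv 0 1 r), σ (om 1 0 1) * L SL2PresData.W * (σ (om 1 0 1))⁻¹ * σ (tv 0 1 s) *
        (σ (om 1 0 1) * L SL2PresData.W * (σ (om 1 0 1))⁻¹)⁻¹⁆ ∈
    Subgroup.closure {g | ∃ v : F, g = L (u v)}

variable {H : Type*} [Group H] {m : ℕ} {F : Type*} [Field F] (D : Gens H m F)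

/-- the representative taking the first index to `i` -/
def rep (F : Type*) [Field F] (i : Fin (m + 2)) : SL(m + 2, F) := if i = 0 then 1 else om i 0 1

theorem rep_maps (i : Fin (m + 2)) : Maps (rep F i) 0 i 1 ∧ Maps (rep F i)⁻¹ i 0 1 := by
  unfold rep
  split_ifs with h
  · subst h; rw [inv_one]; exact ⟨Maps.one 0, Maps.one 0⟩
  · rw [om_inv h one_ne_zero]
    refine ⟨(om_maps h one_ne_zero).1, ?_⟩
    have := (om_maps h (neg_ne_zero.mpr (one_ne_zero (α := F)))).2.1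
    rwa [inv_neg, inv_one, neg_neg] at this

/-- long root subgroups -/
def Gens.Li (i : Fin (m + 2)) : SL(2, F) →* H := (MulAut.conj (D.σ (rep F i))).toMonoidHom.comp D.L

theorem Li_apply (i : Fin (m + 2)) (x : SL(2, F)) :
    D.Li i x = D.σ (rep F i) * D.L x * (D.σ (rep F i))⁻¹ := rfl

theorem Li_zero (x : SL(2, F)) : D.Li 0 x = D.L x := by simp [Li_apply, rep]

theorem Li_one (x : SL(2, F)) : D.Li 1 x = D.σ (om 1 0 1) * D.L x * (D.σ (om 1 0 1))⁻¹ := by
  rw [Li_apply, rep, if_neg (by simp)]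

/-- the scaling automorphism -/
theorem fix_zero {g : SL(m + 2, F)} {a : F} (h : Maps g 0 0 a) (r : F) :
    D.σ g * D.L (u r) * (D.σ g)⁻¹ = D.L (u (a * a * r)) ∧
      D.σ g * D.L (lo r) * (D.σ g)⁻¹ = D.L (lo ((a * a)⁻¹ * r)) := by
  have ha := h.ne_zero
  have h01 : (0 : Fin (m + 2)) ≠ 1 := by simp
  have hb : Blk 0 (hh 0 1 a⁻¹ * g) := by
    have := h.mul (hh_maps h01 (inv_ne_zero ha))
    rwa [inv_mul_cancel₀ ha] at this
  have hinv : hh 0 1 a * hh 0 1 a⁻¹ = (1 : SL(m + 2, F)) := ext_single fun l x => by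
    rw [coe_mulVec, hh_single h01 (inv_ne_zero ha), show (1 : SL(m + 2, F)).1 = 1 from rfl, Matrix.one_mulVec]
    split_ifs with h1 h2
    · subst h1; rw [hh_single h01 ha, if_pos rfl]; congr 1; field_simp
    · subst h2; rw [hh_single h01 ha, if_neg h01.symm, if_pos rfl]; congr 1; field_simp
    · rw [hh_single h01 ha, if_neg h1, if_neg h2]
  have e : g = hh 0 1 a * (hh 0 1 a⁻¹ * g) := by rw [← mul_assoc, hinv, one_mul]
  have key : ∀ x, D.σ g * D.L x * (D.σ g)⁻¹ = D.σ (hh 0 1 a) * D.L x * (D.σ (hh 0 1 a))⁻¹ := by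
    intro x
    have c := (D.blk_comm _ hb x).eq
    rw [e, map_mul]
    generalize D.σ (hh 0 1 a⁻¹ * g) = z at c
    calc D.σ (hh 0 1 a) * z * D.L x * (D.σ (hh 0 1 a) * z)⁻¹
        = D.σ (hh 0 1 a) * (z * D.L x) * z⁻¹ * (D.σ (hh 0 1 a))⁻¹ := by group
      _ = _ := by rw [c]; group
  exact ⟨by rw [key, D.tor_u a ha], by rw [key, D.tor_lo a ha]⟩

theorem move_L {g : SL(m + 2, F)} {i j : Fin (m + 2)} {a : F} (h : Maps g i j a) (r : F) :
    D.σ g * D.Li i (u r) * (D.σ g)⁻¹ = D.Li j (u (a * a * r)) ∧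
      D.σ g * D.Li i (lo r) * (D.σ g)⁻¹ = D.Li j (lo ((a * a)⁻¹ * r)) := by
  have hm : Maps ((rep F j)⁻¹ * g * rep F i) 0 0 a := by
    have := ((rep_maps (F := F) i).1.mul (h.mul (rep_maps (F := F) j).2))
    simpa using this
  obtain ⟨e1, e2⟩ := fix_zero D hm r
  constructor
  · rw [Li_apply, Li_apply, ← e1]; simp only [map_mul, map_inv]; group
  · rw [Li_apply, Li_apply, ← e2]; simp only [map_mul, map_inv]; group

/-- monomial elements with unit entries move whole long subgroups -/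
theorem move_Li {g : SL(m + 2, F)} {i j : Fin (m + 2)} {a : F} (h : Maps g i j a) (ha : a * a = 1) (x : SL(2, F)) :
    D.σ g * D.Li i x * (D.σ g)⁻¹ = D.Li j x :=
  hom_eq_roots (f := (MulAut.conj (D.σ g)).toMonoidHom.comp (D.Li i)) (g := D.Li j)
    (fun r => by simp only [MonoidHom.comp_apply, MulEquiv.coe_toMonoidHom, MulAut.conj_apply, (move_L D h r).1,
      ha, one_mul])
    (fun r => by simp only [MonoidHom.comp_apply, MulEquiv.coe_toMonoidHom, MulAut.conj_apply, (move_L D h r).2,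
      ha, inv_one, one_mul]) x

/-- monomial with unit entries -/
def Mon (g : SL(m + 2, F)) (τ : Equiv.Perm (Fin (m + 2))) : Prop := ∀ i, ∃ a : F, a * a = 1 ∧ Maps g i (τ i) a

theorem mon_swap {a b : Fin (m + 2)} (hab : a ≠ b) : Mon (om a b (1 : F)) (Equiv.swap a b) := by
  intro i
  obtain ⟨h1, h2, h3⟩ := om_maps hab (one_ne_zero (α := F))
  by_cases ha : i = a
  · subst ha; rw [Equiv.swap_apply_left]; exact ⟨_, by simp, h2⟩
  · by_cases hb : i = b
    · subst hb; rw [Equiv.swap_apply_right]; exact ⟨_, by simp, h1⟩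
    · rw [Equiv.swap_apply_of_ne_of_ne ha hb]; exact ⟨1, by simp, h3 i ha hb⟩

theorem exists_mon (τ : Equiv.Perm (Fin (m + 2))) : ∃ g : SL(m + 2, F), Mon g τ := by
  induction τ using Equiv.Perm.swap_induction_on with
  | one => exact ⟨1, fun i => ⟨1, one_mul _, Maps.one i⟩⟩
  | swap_mul f x y hxy ih =>
    obtain ⟨g, hg⟩ := ih
    refine ⟨om x y 1 * g, fun i => ?_⟩
    obtain ⟨a, ha, h⟩ := hg i
    obtain ⟨b, hb, h'⟩ := mon_swap (F := F) hxy (f i)
    exact ⟨b * a, by linear_combination (b * b) * ha + hb, h.mul h'⟩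

/-- a monomial taking `0, 1` to `i, j` -/
theorem exists_pair {i j : Fin (m + 2)} (hij : i ≠ j) :
    ∃ (g : SL(m + 2, F)) (a b : F), a * a = 1 ∧ b * b = 1 ∧ Maps g 0 i a ∧ Maps g 1 j b := by
  obtain ⟨g, hg⟩ := exists_mon (F := F) (Equiv.swap (Equiv.swap 0 i 1) j * Equiv.swap 0 i)
  have h0 : (Equiv.swap (Equiv.swap 0 i 1) j * Equiv.swap (0 : Fin (m + 2)) i) 0 = i := by
    rw [Equiv.Perm.mul_apply, Equiv.swap_apply_left]
    refine Equiv.swap_apply_of_ne_of_ne (fun e => ?_) hij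
    have e' := e.trans (rfl : Equiv.swap (0 : Fin (m + 2)) i 1 = _)
    have := (Equiv.swap (0 : Fin (m + 2)) i).injective ((Equiv.swap_apply_left 0 i).trans e')
    simp at this
  have h1 : (Equiv.swap (Equiv.swap 0 i 1) j * Equiv.swap (0 : Fin (m + 2)) i) 1 = j := by
    rw [Equiv.Perm.mul_apply, Equiv.swap_apply_left]
  obtain ⟨a, ha, hA⟩ := hg 0
  obtain ⟨b, hb, hB⟩ := hg 1
  rw [h0] at hA; rw [h1] at hB
  exact ⟨g, a, b, ha, hb, hA, hB⟩

/-- the long Weyl element -/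
def Gens.W (i : Fin (m + 2)) : H := D.Li i SL2PresData.W

theorem Li_comm {i j : Fin (m + 2)} (hij : i ≠ j) (x y : SL(2, F)) : Commute (D.Li i x) (D.Li j y) := by
  obtain ⟨g, a, b, ha, hb, hA, hB⟩ := exists_pair (F := F) hij
  rw [← move_Li D hA ha, ← move_Li D hB hb, Li_zero, Li_one]
  exact (D.long_comm x y).map (MulAut.conj (D.σ g)).toMonoidHom

theorem Li_tv {i a b : Fin (m + 2)} (hab : a ≠ b) (ha : a ≠ i) (hb : b ≠ i) (x : SL(2, F)) (r : F) :
    Commute (D.σ (tv a b r)) (D.Li i x) := by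
  have hr := rep_maps (F := F) i
  have hm : Maps (tv a b r) i i 1 := by
    refine ⟨by rw [tv_single hab, if_neg hb.symm, add_zero], fun l hl => ?_⟩
    rw [apply_eq, tv_single hab]
    split_ifs
    · rw [Pi.add_apply, Pi.single_eq_of_ne hl.symm, Pi.single_eq_of_ne ha.symm, add_zero]
    · rw [add_zero, Pi.single_eq_of_ne hl.symm]
  exact mul_inv_eq_iff_eq_mul.mp (move_Li D hm (one_mul 1) x)

/-- long torus -/
def Gens.hl (i : Fin (m + 2)) (t : Fˣ) : H := D.Li i (d t)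

theorem hl_tv {i j : Fin (m + 2)} (hij : i ≠ j) (t : Fˣ) (r : F) :
    D.hl i t * D.σ (tv i j r) * (D.hl i t)⁻¹ = D.σ (tv i j (t * r)) := by
  obtain ⟨g, a, b, ha, hb, hA, hB⟩ := exists_pair (F := F) hij
  have e : ∀ r, D.σ (tv i j r) = D.σ g * D.σ (tv 0 1 (a * b⁻¹ * r)) * (D.σ g)⁻¹ := by
    intro r
    rw [← map_inv, ← map_mul, ← map_mul, conj_tv (by simp) hij hA hB]
    congr 2
    rw [inv_eq_of_mul_eq_one_right hb]
    linear_combination (-r) * ha - a * a * r * hb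
  rw [Gens.hl, ← move_Li D hA ha, Li_zero, e r, e (t * r)]
  rw [show a * b⁻¹ * (↑t * r) = ↑t * (a * b⁻¹ * r) by ring, ← D.long_tor t]
  group

theorem flipL {i j : Fin (m + 2)} (hij : i ≠ j) (r : F) :
    D.W i * D.W j * D.σ (tv i j r) * (D.W i * D.W j)⁻¹ = D.σ (tv j i (-r)) := by
  obtain ⟨g, a, b, ha, hb, hA, hB⟩ := exists_pair (F := F) hij
  have h1 : D.σ g * D.σ (tv 0 1 (a * b⁻¹ * r)) * (D.σ g)⁻¹ = D.σ (tv i j r) := by
    rw [← map_inv, ← map_mul, ← map_mul, conj_tv (by simp) hij hA hB]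
    congr 2
    rw [inv_eq_of_mul_eq_one_right hb]
    linear_combination r * ha + a * a * r * hb
  have h2 : D.σ g * D.σ (tv 1 0 (-(a * b⁻¹ * r))) * (D.σ g)⁻¹ = D.σ (tv j i (-r)) := by
    rw [← map_inv, ← map_mul, ← map_mul, conj_tv (by simp) hij.symm hB hA]
    congr 2
    have := hA.ne_zero; have := hB.ne_zero
    field_simp
  rw [Gens.W, Gens.W, ← move_Li D hA ha, ← move_Li D hB hb, Li_zero, Li_one, ← h1, ← h2, ← D.flip]
  group

theorem W_mul_W (i : Fin (m + 2)) : D.W i * D.W i = D.hl i (-1) := by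
  rw [Gens.W, Gens.hl, ← map_mul]; congr 1
  apply ext2 <;> simp [SL2PresData.W, d, mul_apply2]

theorem W_inv (i : Fin (m + 2)) : (D.W i)⁻¹ = D.hl i (-1) * D.W i := by
  rw [inv_eq_iff_mul_eq_one, Gens.W, Gens.hl, ← map_mul, ← map_mul, ← map_one (D.Li i)]; congr 1
  apply ext2 <;> simp [SL2PresData.W, d, mul_apply2]

theorem W_hl (i : Fin (m + 2)) (t : Fˣ) : D.W i * D.hl i t * (D.W i)⁻¹ = D.hl i t⁻¹ := by
  rw [mul_inv_eq_iff_eq_mul, Gens.W, Gens.hl, Gens.hl, ← map_mul, ← map_mul]; congr 1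
  apply ext2 <;> simp [SL2PresData.W, d, mul_apply2]

theorem hl_tv' {i j : Fin (m + 2)} (hij : i ≠ j) (t : Fˣ) (r : F) :
    D.hl i t * D.σ (tv j i r) * (D.hl i t)⁻¹ = D.σ (tv j i ((t : F)⁻¹ * r)) := by
  have e : ∀ r, D.σ (tv j i r) = D.W i * D.W j * D.σ (tv i j (-r)) * (D.W i * D.W j)⁻¹ := fun r => by
    rw [flipL D hij, neg_neg]
  have c1 : D.hl i t * D.W i = D.W i * D.hl i t⁻¹ := by
    have := W_hl D i t⁻¹
    rw [inv_inv] at this
    rw [← this]; group
  have c2 : D.hl i t⁻¹ * D.W j = D.W j * D.hl i t⁻¹ := (Li_comm D hij _ _).eq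
  rw [e r, e ((t : F)⁻¹ * r), show -((t : F)⁻¹ * r) = ((t⁻¹ : Fˣ) : F) * -r by push_cast; ring,
    ← hl_tv D hij t⁻¹]
  rw [show D.hl i t * (D.W i * D.W j * D.σ (tv i j (-r)) * (D.W i * D.W j)⁻¹) * (D.hl i t)⁻¹ =
    (D.hl i t * D.W i * D.W j) * D.σ (tv i j (-r)) * (D.hl i t * D.W i * D.W j)⁻¹ by group, c1, mul_assoc (D.W i), c2, ← mul_assoc]
  group

/-- root elements -/
def Gens.X : Idx (m + 2) → Idx (m + 2) → F → H
  | Sum.inl i, Sum.inl j, r => D.σ (tv i j r)
  | Sum.inr i, Sum.inr j, r => D.σ (tv j i (-r))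
  | Sum.inl i, Sum.inr j, r => if i = j then D.Li i (u r) else D.W j * D.σ (tv i j (-r)) * (D.W j)⁻¹
  | Sum.inr i, Sum.inl j, r => if i = j then D.Li i (lo r) else D.W i * D.σ (tv i j (-r)) * (D.W i)⁻¹

theorem V_symm {i j : Fin (m + 2)} (hij : i ≠ j) (r : F) :
    D.W j * D.σ (tv i j r) * (D.W j)⁻¹ = D.W i * D.σ (tv j i r) * (D.W i)⁻¹ := by
  have e : D.σ (tv j i r) = (D.hl i (-1)) * D.σ (tv j i (-r)) * (D.hl i (-1))⁻¹ := by
    rw [hl_tv' D hij]; congr 2; simp
  have c : D.W i * D.hl i (-1) = (D.W i)⁻¹ := by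
    rw [W_inv, Gens.W, Gens.hl, ← map_mul, ← map_mul]; congr 1
    apply ext2 <;> simp [SL2PresData.W, d, mul_apply2]
  rw [e, ← flipL D hij r]
  rw [show D.W i * (D.hl i (-1) * (D.W i * D.W j * D.σ (tv i j r) * (D.W i * D.W j)⁻¹) * (D.hl i (-1))⁻¹) * (D.W i)⁻¹
      = D.W i * D.hl i (-1) * D.W i * (D.W j * D.σ (tv i j r) * (D.W j)⁻¹) *
        (D.W i * D.hl i (-1) * D.W i)⁻¹ by group, c]
  group

theorem U_symm {i j : Fin (m + 2)} (hij : i ≠ j) (r : F) :
    D.W i * D.σ (tv i j r) * (D.W i)⁻¹ = D.W j * D.σ (tv j i r) * (D.W j)⁻¹ := by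
  have e : D.σ (tv j i r) = (D.hl j (-1)) * D.σ (tv j i (-r)) * (D.hl j (-1))⁻¹ := by
    rw [hl_tv D hij.symm]; congr 2; simp
  have c : D.W j * D.hl j (-1) = (D.W j)⁻¹ := by
    rw [W_inv, Gens.W, Gens.hl, ← map_mul, ← map_mul]; congr 1
    apply ext2 <;> simp [SL2PresData.W, d, mul_apply2]
  rw [e, ← flipL D hij r]
  have cc : D.W i * D.W j = D.W j * D.W i := (Li_comm D hij _ _).eq
  rw [show D.W j * (D.hl j (-1) * (D.W i * D.W j * D.σ (tv i j r) * (D.W i * D.W j)⁻¹) * (D.hl j (-1))⁻¹) * (D.W j)⁻¹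
      = D.W j * D.hl j (-1) * (D.W i * D.W j) * D.σ (tv i j r) *
        (D.W j * D.hl j (-1) * (D.W i * D.W j))⁻¹ by group, c, cc]
  group

theorem X_alias {p q : Idx (m + 2)} (hpq : p ≠ q) (r : F) :
    D.X (bar q) (bar p) r = D.X p q (sg p q * r) := by
  rcases p with i | i <;> rcases q with j | j <;>
    simp only [bar, Sum.swap_inl, Sum.swap_inr, Gens.X, sg, csgn, Sum.elim_inl, Sum.elim_inr, mul_one, one_mul,
      neg_mul, mul_neg, neg_neg]
  · by_cases h : i = j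
    · subst h; simp
    · rw [if_neg (Ne.symm h), if_neg h, V_symm D h]
  · by_cases h : i = j
    · subst h; simp
    · rw [if_neg (Ne.symm h), if_neg h, U_symm D h]

theorem X_ll {i : Fin (m + 2)} (r : F) :
    D.X (Sum.inl i) (Sum.inr i) r = D.Li i (u r) ∧ D.X (Sum.inr i) (Sum.inl i) r = D.Li i (lo r) := by
  simp [Gens.X]

theorem X_V {i j : Fin (m + 2)} (hij : i ≠ j) (r : F) :
    D.X (Sum.inl i) (Sum.inr j) r = D.W j * D.σ (tv i j (-r)) * (D.W j)⁻¹ ∧
      D.X (Sum.inr i) (Sum.inl j) r = D.W i * D.σ (tv i j (-r)) * (D.W i)⁻¹ := by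
  simp [Gens.X, hij]

/-- a symplectic monomial action on roots -/
def Gens.Act (g : H) (τ : Equiv.Perm (Idx (m + 2))) : Prop :=
  (∀ x, τ (bar x) = bar (τ x)) ∧ (∀ x, ∃ μ : F, (D.π g).1 *ᵥ Pi.single x 1 = Pi.single (τ x) μ) ∧
    ∀ p q, p ≠ q → ∃ c : F, ∀ r, g * D.X p q r * g⁻¹ = D.X (τ p) (τ q) (c * r)

theorem act_mul {g g' : H} {τ τ' : Equiv.Perm (Idx (m + 2))} (h : D.Act g τ) (h' : D.Act g' τ') :
    D.Act (g * g') (τ * τ') := by
  refine ⟨fun x => by simp [h.1, h'.1], fun x => ?_, fun p q hpq => ?_⟩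
  · obtain ⟨μ', e'⟩ := h'.2.1 x
    obtain ⟨μ, e⟩ := h.2.1 (τ' x)
    refine ⟨μ * μ', ?_⟩
    rw [map_mul, Submonoid.coe_mul, ← Matrix.mulVec_mulVec, e']
    have : (Pi.single (τ' x) μ' : Idx (m + 2) → F) = μ' • Pi.single (τ' x) 1 := by
      rw [← Pi.single_smul, smul_eq_mul, mul_one]
    rw [this, Matrix.mulVec_smul, e, ← Pi.single_smul, smul_eq_mul, mul_comm]
    rfl
  · obtain ⟨c', e'⟩ := h'.2.2 p q hpq
    obtain ⟨c, e⟩ := h.2.2 (τ' p) (τ' q) (τ'.injective.ne hpq)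
    refine ⟨c * c', fun r => ?_⟩
    rw [show g * g' * D.X p q r * (g * g')⁻¹ = g * (g' * D.X p q r * g'⁻¹) * g⁻¹ by group, e', e, mul_assoc]
    rfl

theorem act_one : D.Act 1 1 :=
  ⟨fun _ => rfl, fun x => ⟨1, by rw [map_one]; exact Matrix.one_mulVec _⟩, fun p q _ => ⟨1, fun r => by simp⟩⟩

/-- monomial image -/
def Gens.Img (g : H) (τ : Equiv.Perm (Idx (m + 2))) (μ : Idx (m + 2) → F) : Prop :=
  ∀ x y, (D.π g).1 *ᵥ Pi.single x y = Pi.single (τ x) (μ x * y)

theorem conj_rmat {n : ℕ} {M : Matrix (Idx n) (Idx n) F} {τ : Equiv.Perm (Idx n)} {μ : Idx n → F}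
    (hM : ∀ x y, M *ᵥ Pi.single x y = Pi.single (τ x) (μ x * y)) (hb : ∀ x, τ (bar x) = bar (τ x))
    (hμ : ∀ x, μ x * μ (bar x) * csgn (τ x) = csgn x) {p q : Idx n} (r c : F)
    (hc : μ q * c = μ p * r) : M * rmat p q r = rmat (τ p) (τ q) c * M := by
  apply Matrix.ext
  intro x y
  have e : ∀ A : Matrix (Idx n) (Idx n) F, A x y = (A *ᵥ Pi.single y 1) x := fun A => by
    rw [Matrix.mulVec_single_one]; rfl
  show (M * rmat p q r) x y = (rmat (τ p) (τ q) c * M) x y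
  rw [e (M * rmat p q r), e (rmat (τ p) (τ q) c * M), ← Matrix.mulVec_mulVec, ← Matrix.mulVec_mulVec, hM, rmat_single, rmat_single]
  refine congrFun ?_ x
  simp only [Matrix.mulVec_add, mul_one, ← hb, EmbeddingLike.apply_eq_iff_eq, ne_eq]
  congr 1
  · congr 1
    · rw [hM, mul_one]
    · split_ifs with h
      · subst h; rw [hM]; congr 1; rw [← hc]; ring
      · rw [Matrix.mulVec_zero]
  · split_ifs with h
    · obtain ⟨-, h⟩ := h
      subst h
      rw [hM]; congr 1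
      have h1 := hμ q
      have h2 := hμ p
      have h3 : (csgn (τ p) : F) * csgn (τ p) = 1 := csgn_sq _
      have h4 : (csgn (τ q) : F) * csgn (τ q) = 1 := csgn_sq _
      rw [sg, sg, ← h1, ← h2]
      have h5 : μ q * μ (bar q) * (μ q * μ (bar q)) = 1 := by
        have h6 : (csgn q : F) * csgn q = 1 := csgn_sq _
        rw [← h1] at h6
        linear_combination h6 - (μ q * μ (bar q) * (μ q * μ (bar q))) * h4
      linear_combination (μ (bar q) * μ (bar q) * μ (bar p) * μ q * csgn (τ p) * csgn (τ q)) * hc -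
        (μ (bar p) * csgn (τ p) * csgn (τ q) * c) * h5
    · rw [Matrix.mulVec_zero]

theorem π_conj {g : H} {τ : Equiv.Perm (Idx (m + 2))} {μ : Idx (m + 2) → F} (hM : D.Img g τ μ)
    (hb : ∀ x, τ (bar x) = bar (τ x)) (hμ : ∀ x, μ x * μ (bar x) * csgn (τ x) = csgn x) {x : H}
    {p q : Idx (m + 2)} (r c : F) (hx : (D.π x).1 = rmat p q r) (hc : μ q * c = μ p * r) :
    (D.π (g * x * g⁻¹)).1 = rmat (τ p) (τ q) c := by
  have e := conj_rmat hM hb hμ r c hc
  rw [map_mul, map_mul, Submonoid.coe_mul, Submonoid.coe_mul, hx, e, Matrix.mul_assoc, ← Submonoid.coe_mul, ← map_mul,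
    mul_inv_cancel, map_one]
  exact Matrix.mul_one _

theorem rmat_alias {n : ℕ} {p q : Idx n} (r : F) : rmat (bar q) (bar p) r = rmat p q (sg p q * r) := by
  simp only [rmat, bar_bar, sg_bar, ← mul_assoc, sg_sq, one_mul]
  by_cases h : q = bar p
  · subst h; rw [if_pos rfl, if_pos rfl, bar_bar, sg_long, one_mul]
  · rw [if_neg h, if_neg (fun e => h e.symm), add_right_comm]

theorem img_sigma {a b : Fin (m + 2)} (hab : a ≠ b) {t : F} (ht : t ≠ 0) :
    D.Img (D.σ (om a b t)) (Equiv.sumCongr (Equiv.swap a b) (Equiv.swap a b))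
      (Sum.elim (fun i => if i = a then -t⁻¹ else if i = b then t else 1)
        (fun i => if i = a then -t else if i = b then t⁻¹ else 1)) := by
  intro x y
  funext z
  simp only [om, map_mul, Submonoid.coe_mul, D.π_σ a b hab, D.π_σ b a hab.symm, ← Matrix.mulVec_mulVec,
    rmat_mulVec, Pi.single_apply]
  rcases x with i | i <;> rcases z with k | k <;>
    simp [bar, sg, csgn, Equiv.swap_apply_def, hab, hab.symm] <;>
    split_ifs <;> subst_vars <;> simp_all <;> field_simp <;> ring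

theorem sigma_bar (τ : Equiv.Perm (Fin (m + 2))) (x : Idx (m + 2)) :
    Equiv.sumCongr τ τ (bar x) = bar (Equiv.sumCongr τ τ x) := by rcases x with i | i <;> rfl

theorem π_long (i : Fin (m + 2)) (r : F) : (D.π (D.Li i (u r))).1 = rmat (Sum.inl i) (Sum.inr i) r ∧
    (D.π (D.Li i (lo r))).1 = rmat (Sum.inr i) (Sum.inl i) r := by
  by_cases h : i = 0
  · subst h; rw [Li_zero, Li_zero]; exact ⟨D.π_u r, D.π_lo r⟩
  have hM := img_sigma D h (one_ne_zero (α := F))
  have hμ : ∀ x : Idx (m + 2), _ * _ * csgn (Equiv.sumCongr (Equiv.swap i 0) (Equiv.swap i 0) x) = (csgn x : F) := fun x => by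
    show Sum.elim (fun j => if j = i then -(1 : F)⁻¹ else if j = 0 then 1 else 1)
        (fun j => if j = i then -(1 : F) else if j = 0 then 1⁻¹ else 1) x *
      Sum.elim (fun j => if j = i then -(1 : F)⁻¹ else if j = 0 then 1 else 1)
        (fun j => if j = i then -(1 : F) else if j = 0 then 1⁻¹ else 1) (bar x) * _ = _
    rcases x with j | j <;> by_cases hj : j = i <;> simp [bar, csgn, hj]
  have e1 := π_conj D hM (sigma_bar _) hμ r r (D.π_u r) (by simp [Ne.symm h])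
  have e2 := π_conj D hM (sigma_bar _) hμ r r (D.π_lo r) (by simp [Ne.symm h])
  simp only [Equiv.sumCongr_apply, Sum.map_inl, Sum.map_inr, Equiv.swap_apply_right] at e1 e2
  rw [Li_apply, Li_apply, rep, if_neg h]
  exact ⟨e1, e2⟩

/-- the scalars of a long Weyl element -/
def wsgn (k : Fin (m + 2)) (x : Idx (m + 2)) : F := if x = Sum.inl k then -1 else 1

theorem img_W (k : Fin (m + 2)) : D.Img (D.W k) (Equiv.swap (Sum.inl k) (Sum.inr k)) (wsgn k) := by
  intro x y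
  funext z
  simp only [Gens.W, W_eq, map_mul, Submonoid.coe_mul, (π_long D k _).1, (π_long D k _).2, ← Matrix.mulVec_mulVec,
    rmat_mulVec, Pi.single_apply]
  rcases x with i | i <;> rcases z with l | l <;>
    simp [bar, wsgn, Equiv.swap_apply_def] <;>
    split_ifs <;> subst_vars <;> simp_all

theorem swap_bar (k : Fin (m + 2)) (x : Idx (m + 2)) :
    Equiv.swap (Sum.inl k) (Sum.inr k) (bar x) = bar (Equiv.swap (Sum.inl k) (Sum.inr k) x) := by
  rcases x with i | i <;> by_cases h : i = k <;> simp [bar, h, Equiv.swap_apply_of_ne_of_ne]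

theorem wsgn_form (k : Fin (m + 2)) (x : Idx (m + 2)) :
    (wsgn k x : F) * wsgn k (bar x) * csgn (Equiv.swap (Sum.inl k) (Sum.inr k) x) = csgn x := by
  rcases x with i | i <;> by_cases h : i = k <;> simp [bar, wsgn, csgn, h, Equiv.swap_apply_of_ne_of_ne]

theorem π_X (p q : Idx (m + 2)) (hpq : p ≠ q) (r : F) : (D.π (D.X p q r)).1 = rmat p q r := by
  rcases p with i | i <;> rcases q with j | j
  · exact D.π_σ i j (fun e => hpq (congrArg _ e)) r
  · by_cases h : i = j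
    · subst h; rw [(X_ll D r).1]; exact (π_long D i r).1
    · rw [(X_V D h r).1]
      have := π_conj D (img_W D j) (swap_bar j) (wsgn_form j) (p := Sum.inl i) (q := Sum.inl j) (-r) r
        (D.π_σ i j h _) (by simp [wsgn, h])
      simpa [Equiv.swap_apply_of_ne_of_ne, h] using this
  · by_cases h : i = j
    · subst h; rw [(X_ll D r).2]; exact (π_long D i r).2
    · rw [(X_V D h r).2]
      have := π_conj D (img_W D i) (swap_bar i) (wsgn_form i) (p := Sum.inl i) (q := Sum.inl j) (-r) r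
        (D.π_σ i j h _) (by simp [wsgn, Ne.symm h])
      simpa [Equiv.swap_apply_of_ne_of_ne, Ne.symm h] using this
  · have h : j ≠ i := fun e => hpq (congrArg _ e.symm)
    show (D.π (D.σ (tv j i (-r)))).1 = _
    rw [D.π_σ j i h]
    have := rmat_alias (p := (Sum.inr i : Idx (m + 2))) (q := Sum.inr j) (-r)
    simp only [bar, Sum.swap_inr, sg, csgn, Sum.elim_inr] at this
    rw [this]; simp

theorem act_of {g : H} {τ : Equiv.Perm (Idx (m + 2))} (hb : ∀ x, τ (bar x) = bar (τ x))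
    {μ : Idx (m + 2) → F} (hM : D.Img g τ μ)
    (hl : ∀ i, (∃ c : F, ∀ r, g * D.Li i (u r) * g⁻¹ = D.X (τ (Sum.inl i)) (τ (Sum.inr i)) (c * r)) ∧
      ∃ c : F, ∀ r, g * D.Li i (lo r) * g⁻¹ = D.X (τ (Sum.inr i)) (τ (Sum.inl i)) (c * r))
    (ht : ∀ i j, i ≠ j → ∃ c : F, ∀ r, g * D.σ (tv i j r) * g⁻¹ = D.X (τ (Sum.inl i)) (τ (Sum.inl j)) (c * r))
    (hV : ∀ i j, i ≠ j → ∃ c : F, ∀ r, g * (D.W j * D.σ (tv i j (-r)) * (D.W j)⁻¹) * g⁻¹ =
      D.X (τ (Sum.inl i)) (τ (Sum.inr j)) (c * r))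
    (hU : ∀ i j, i ≠ j → ∃ c : F, ∀ r, g * (D.W i * D.σ (tv i j (-r)) * (D.W i)⁻¹) * g⁻¹ =
      D.X (τ (Sum.inr i)) (τ (Sum.inl j)) (c * r)) : D.Act g τ := by
  refine ⟨hb, fun x => ⟨μ x, by rw [hM, mul_one]⟩, fun p q hpq => ?_⟩
  rcases p with i | i <;> rcases q with j | j
  · exact ht i j fun e => hpq (congrArg _ e)
  · by_cases h : i = j
    · subst h; obtain ⟨c, hc⟩ := (hl i).1; exact ⟨c, fun r => by rw [(X_ll D r).1, hc]⟩
    · obtain ⟨c, hc⟩ := hV i j h; exact ⟨c, fun r => by rw [(X_V D h r).1, hc]⟩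
  · by_cases h : i = j
    · subst h; obtain ⟨c, hc⟩ := (hl i).2; exact ⟨c, fun r => by rw [(X_ll D r).2, hc]⟩
    · obtain ⟨c, hc⟩ := hU i j h; exact ⟨c, fun r => by rw [(X_V D h r).2, hc]⟩
  · have h : j ≠ i := fun e => hpq (congrArg _ e.symm)
    obtain ⟨c, hc⟩ := ht j i h
    have hne : τ (Sum.inr i) ≠ τ (Sum.inr j) := τ.injective.ne hpq
    refine ⟨sg (τ (Sum.inr i)) (τ (Sum.inr j)) * (c * -1), fun r => ?_⟩
    show g * D.σ (tv j i (-r)) * g⁻¹ = _
    rw [hc, show (Sum.inl j : Idx (m + 2)) = bar (Sum.inr j) from rfl,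
      show (Sum.inl i : Idx (m + 2)) = bar (Sum.inr i) from rfl, hb, hb, X_alias D hne]
    congr 1; ring

theorem conj_hom (g : H) (x y z : H) : g * (x * y * z) * g⁻¹ = (g * x * g⁻¹) * (g * y * g⁻¹) * (g * z * g⁻¹) := by
  group

theorem act_sigma {a b : Fin (m + 2)} (hab : a ≠ b) :
    D.Act (D.σ (om a b 1)) (Equiv.sumCongr (Equiv.swap a b) (Equiv.swap a b)) := by
  have hm := mon_swap (F := F) hab
  set g := D.σ (om a b (1 : F))
  set w := Equiv.swap a b
  have hW : ∀ k, g * D.W k * g⁻¹ = D.W (w k) := fun k => by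
    obtain ⟨c, hc, h⟩ := hm k
    exact move_Li D h hc _
  have ht : ∀ i j, i ≠ j → ∃ c : F, ∀ r, g * D.σ (tv i j r) * g⁻¹ = D.σ (tv (w i) (w j) (c * r)) := fun i j h => by
    obtain ⟨c, -, hi⟩ := hm i
    obtain ⟨e, -, hj⟩ := hm j
    exact ⟨c * e⁻¹, fun r => by rw [← map_inv, ← map_mul, ← map_mul, conj_tv h (w.injective.ne h) hi hj]⟩
  refine act_of D (sigma_bar _) (img_sigma D hab one_ne_zero) (fun i => ?_) ht (fun i j h => ?_) (fun i j h => ?_)
  · obtain ⟨c, hc, hi⟩ := hm i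
    refine ⟨⟨1, fun r => ?_⟩, ⟨1, fun r => ?_⟩⟩
    · simp only [Equiv.sumCongr_apply, Sum.map_inl, Sum.map_inr, (X_ll D _).1, one_mul]
      exact move_Li D hi hc _
    · simp only [Equiv.sumCongr_apply, Sum.map_inl, Sum.map_inr, (X_ll D _).2, one_mul]
      exact move_Li D hi hc _
  all_goals
    obtain ⟨c, hc⟩ := ht i j h
    refine ⟨c, fun r => ?_⟩
    simp only [Equiv.sumCongr_apply, Sum.map_inl, Sum.map_inr]
  · rw [(X_V D (w.injective.ne h) _).1, conj_hom, hW, hc, show g * (D.W j)⁻¹ * g⁻¹ = (g * D.W j * g⁻¹)⁻¹ by group,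
      hW, mul_neg]
  · rw [(X_V D (w.injective.ne h) _).2, conj_hom, hW, hc, show g * (D.W i)⁻¹ * g⁻¹ = (g * D.W i * g⁻¹)⁻¹ by group,
      hW, mul_neg]

theorem fix_comm {g x : H} (h : Commute g x) : g * x * g⁻¹ = x := by rw [h.eq]; group

theorem W_comm_tv {k i j : Fin (m + 2)} (hij : i ≠ j) (hi : k ≠ i) (hj : k ≠ j) (r : F) :
    Commute (D.W k) (D.σ (tv i j r)) := (Li_tv D hij hi.symm hj.symm _ r).symm

theorem act_W (k : Fin (m + 2)) : D.Act (D.W k) (Equiv.swap (Sum.inl k) (Sum.inr k)) := by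
  set τ := Equiv.swap (Sum.inl k : Idx (m + 2)) (Sum.inr k)
  have tk : τ (Sum.inl k) = Sum.inr k ∧ τ (Sum.inr k) = Sum.inl k :=
    ⟨Equiv.swap_apply_left _ _, Equiv.swap_apply_right _ _⟩
  have to' : ∀ {i}, i ≠ k → τ (Sum.inl i) = Sum.inl i ∧ τ (Sum.inr i) = Sum.inr i := fun h =>
    ⟨Equiv.swap_apply_of_ne_of_ne (by simpa using h) (by simp),
      Equiv.swap_apply_of_ne_of_ne (by simp) (by simpa using h)⟩
  have sq : ∀ x, D.W k * (D.W k * x * (D.W k)⁻¹) * (D.W k)⁻¹ = D.hl k (-1) * x * (D.hl k (-1))⁻¹ := fun x => by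
    rw [← W_mul_W]; group
  refine act_of D (swap_bar k) (img_W D k) (fun i => ?_) (fun i j h => ?_) (fun i j h => ?_) (fun i j h => ?_)
  · by_cases hi : i = k
    · subst hi
      refine ⟨⟨-1, fun r => ?_⟩, ⟨-1, fun r => ?_⟩⟩
      · rw [tk.1, tk.2, (X_ll D _).2, Gens.W, ← map_inv, ← map_mul, ← map_mul]; congr 1
        rw [mul_inv_eq_iff_eq_mul]
        apply ext2 <;> simp [SL2PresData.W, u, lo, mul_apply2]
      · rw [tk.1, tk.2, (X_ll D _).1, Gens.W, ← map_inv, ← map_mul, ← map_mul]; congr 1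
        rw [mul_inv_eq_iff_eq_mul]
        apply ext2 <;> simp [SL2PresData.W, u, lo, mul_apply2]
    · refine ⟨⟨1, fun r => ?_⟩, ⟨1, fun r => ?_⟩⟩ <;>
        rw [(to' hi).1, (to' hi).2, one_mul, Gens.W, fix_comm (Li_comm D (Ne.symm hi) _ _)]
      exacts [(X_ll D r).1.symm, (X_ll D r).2.symm]
  · by_cases hi : i = k
    · subst hi
      exact ⟨-1, fun r => by rw [tk.1, (to' h.symm).1, (X_V D h _).2, neg_one_mul, neg_neg]⟩
    by_cases hj : j = k
    · subst hj
      exact ⟨-1, fun r => by rw [tk.1, (to' hi).1, (X_V D h _).1, neg_one_mul, neg_neg]⟩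
    exact ⟨1, fun r => by
      rw [(to' hi).1, (to' hj).1, fix_comm (W_comm_tv D h (Ne.symm hi) (Ne.symm hj) r), one_mul]; rfl⟩
  · by_cases hi : i = k
    · subst hi
      refine ⟨-1, fun r => ?_⟩
      rw [V_symm D h, sq, hl_tv' D h.symm.symm, tk.1, (to' h.symm).2]
      show _ = D.σ (tv j i _)
      congr 2; push_cast; field_simp
    by_cases hj : j = k
    · subst hj
      refine ⟨1, fun r => ?_⟩
      rw [sq, hl_tv' D h.symm, tk.2, (to' hi).1]
      show _ = D.σ (tv i j _)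
      congr 2; push_cast; field_simp
    refine ⟨1, fun r => ?_⟩
    rw [(to' hi).1, (to' hj).2, (X_V D h _).1, one_mul]
    exact fix_comm (((Li_comm D (Ne.symm hj) _ _).mul_right (W_comm_tv D h (Ne.symm hi) (Ne.symm hj) _)).mul_right
      (Li_comm D (Ne.symm hj) _ _).inv_right)
  · by_cases hi : i = k
    · subst hi
      refine ⟨1, fun r => ?_⟩
      rw [sq, hl_tv D h, tk.2, (to' h.symm).1]
      show _ = D.σ (tv i j _)
      congr 2; push_cast; ring
    by_cases hj : j = k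
    · subst hj
      refine ⟨-1, fun r => ?_⟩
      rw [U_symm D h, sq, hl_tv D h.symm, tk.1, (to' hi).2]
      show _ = D.σ (tv j i _)
      congr 2; push_cast; ring
    refine ⟨1, fun r => ?_⟩
    rw [(to' hi).2, (to' hj).1, (X_V D h _).2, one_mul]
    exact fix_comm (((Li_comm D (Ne.symm hi) _ _).mul_right (W_comm_tv D h (Ne.symm hi) (Ne.symm hj) _)).mul_right
      (Li_comm D (Ne.symm hi) _ _).inv_right)

theorem hl_W {k j : Fin (m + 2)} (t : Fˣ) :
    D.hl k t * D.W j = D.W j * D.hl k (if j = k then t⁻¹ else t) := by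
  split_ifs with h
  · subst h
    have := W_hl D j t⁻¹
    rw [inv_inv] at this
    rw [← this]; group
  · exact (Li_comm D (Ne.symm h) _ _).eq

theorem img_hl (k : Fin (m + 2)) (t : Fˣ) :
    D.Img (D.hl k t) 1 (fun x => if x = Sum.inl k then (t : F) else if x = Sum.inr k then (t : F)⁻¹ else 1) := by
  have e : (d t : SL(2, F)) = (u (t : F) * lo (-(t : F)⁻¹) * u (t : F)) * (u 1 * lo (-1) * u 1)⁻¹ := by
    rw [eq_mul_inv_iff_mul_eq]
    apply ext2 <;> simp [d, u, lo, mul_apply2]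
  have hinv : ((u 1 * lo (-1) * u 1 : SL(2, F)))⁻¹ = u (-1) * lo 1 * u (-1) := by
    rw [inv_eq_iff_mul_eq_one]
    apply ext2 <;> simp [u, lo, mul_apply2]
  intro x y
  funext z
  rw [Gens.hl, e, hinv]
  simp only [map_mul, Submonoid.coe_mul, (π_long D k _).1, (π_long D k _).2, ← Matrix.mulVec_mulVec,
    rmat_mulVec, Pi.single_apply, Equiv.Perm.one_apply]
  rcases x with i | i <;> rcases z with l | l <;>
    simp [bar] <;> split_ifs <;> subst_vars <;> simp_all

theorem act_hl (k : Fin (m + 2)) (t : Fˣ) : D.Act (D.hl k t) 1 := by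
  refine act_of D (fun _ => rfl) (img_hl D k t) (fun i => ?_) (fun i j h => ?_) (fun i j h => ?_) (fun i j h => ?_)
  · by_cases hi : i = k
    · subst hi
      refine ⟨⟨(t : F) * t, fun r => ?_⟩, ⟨((t : F) * t)⁻¹, fun r => ?_⟩⟩
      · show _ = D.X (Sum.inl i) (Sum.inr i) _
        rw [(X_ll D _).1, Gens.hl, ← map_inv, ← map_mul, ← map_mul]; congr 1
        rw [mul_inv_eq_iff_eq_mul]
        apply ext2 <;> simp [d, u, mul_apply2]; field_simp
      · show _ = D.X (Sum.inr i) (Sum.inl i) _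
        rw [(X_ll D _).2, Gens.hl, ← map_inv, ← map_mul, ← map_mul]; congr 1
        rw [mul_inv_eq_iff_eq_mul]
        apply ext2 <;> simp [d, lo, mul_apply2]; field_simp
    · refine ⟨⟨1, fun r => ?_⟩, ⟨1, fun r => ?_⟩⟩ <;>
        rw [one_mul, Gens.hl, fix_comm (Li_comm D (Ne.symm hi) _ _)]
      exacts [(X_ll D r).1.symm, (X_ll D r).2.symm]
  · show ∃ c : F, ∀ r, _ = D.σ (tv i j (c * r))
    by_cases hi : i = k
    · subst hi; exact ⟨t, hl_tv D h t⟩
    by_cases hj : j = k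
    · subst hj; exact ⟨(t : F)⁻¹, hl_tv' D h.symm t⟩
    exact ⟨1, fun r => by rw [one_mul]; exact fix_comm (Li_tv D h hi hj _ r).symm⟩
  all_goals
    have key : ∀ l : Fin (m + 2), ∀ r, D.hl k t * (D.W l * D.σ (tv i j (-r)) * (D.W l)⁻¹) * (D.hl k t)⁻¹ =
        D.W l * (D.hl k (if l = k then t⁻¹ else t) * D.σ (tv i j (-r)) * (D.hl k (if l = k then t⁻¹ else t))⁻¹) *
          (D.W l)⁻¹ := fun l r => by
      rw [show D.hl k t * (D.W l * D.σ (tv i j (-r)) * (D.W l)⁻¹) * (D.hl k t)⁻¹ =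
        D.hl k t * D.W l * D.σ (tv i j (-r)) * (D.hl k t * D.W l)⁻¹ by group, hl_W]
      group
    have tor : ∀ t' : Fˣ, ∃ c : F, ∀ r, D.hl k t' * D.σ (tv i j r) * (D.hl k t')⁻¹ = D.σ (tv i j (c * r)) := by
      intro t'
      by_cases hi : i = k
      · subst hi; exact ⟨t', hl_tv D h t'⟩
      by_cases hj : j = k
      · subst hj; exact ⟨(t' : F)⁻¹, hl_tv' D h.symm t'⟩
      exact ⟨1, fun r => by rw [one_mul]; exact fix_comm (Li_tv D h hi hj _ r).symm⟩
  · obtain ⟨c, hc⟩ := tor (if j = k then t⁻¹ else t)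
    exact ⟨c, fun r => by rw [key, hc]; show _ = D.X (Sum.inl i) (Sum.inr j) _; rw [(X_V D h _).1, mul_neg]⟩
  · obtain ⟨c, hc⟩ := tor (if i = k then t⁻¹ else t)
    exact ⟨c, fun r => by rw [key, hc]; show _ = D.X (Sum.inr i) (Sum.inl j) _; rw [(X_V D h _).2, mul_neg]⟩

theorem act_congr {g : H} {τ τ' : Equiv.Perm (Idx (m + 2))} (h : D.Act g τ) (e : ∀ x, τ x = τ' x) : D.Act g τ' :=
  Equiv.ext e ▸ h

theorem act_W_inv (k : Fin (m + 2)) : D.Act (D.W k)⁻¹ (Equiv.swap (Sum.inl k) (Sum.inr k)) := by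
  rw [W_inv]
  have := act_mul D (act_hl D k (-1)) (act_W D k)
  rwa [one_mul] at this

theorem rank_one (p q : Idx (m + 2)) (hpq : p ≠ q) :
    ∃ θ : SL(2, F) →* H, (∀ r, θ (u r) = D.X p q r) ∧ ∀ r, θ (lo r) = D.X q p r := by
  have base : ∀ i j : Fin (m + 2), i ≠ j → ∃ θ : SL(2, F) →* H,
      (∀ r, θ (u r) = D.σ (tv i j r)) ∧ ∀ r, θ (lo r) = D.σ (tv j i r) := fun i j h => by
    obtain ⟨θ, h1, h2⟩ := exists_blk (F := F) h
    exact ⟨D.σ.comp θ, fun r => congrArg D.σ (h1 r), fun r => congrArg D.σ (h2 r)⟩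
  have twist : ∀ i j : Fin (m + 2), i ≠ j → ∀ g : H, ∃ θ : SL(2, F) →* H,
      (∀ r, θ (u r) = g * D.σ (tv i j (-r)) * g⁻¹) ∧ ∀ r, θ (lo r) = g * D.σ (tv j i (-r)) * g⁻¹ := by
    intro i j h g
    obtain ⟨θ, h1, h2⟩ := base i j h
    let ν : SL(2, F) →* SL(2, F) :=
      { toFun := fun x => mk2 (x.1 0 0) (-x.1 0 1) (-x.1 1 0) (x.1 1 1) (by
          have := det_eq x; linear_combination this)
        map_one' := by apply ext2 <;> simp
        map_mul' := fun x x' => by apply ext2 <;> simp [mul_apply2] <;> ring }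
    have nu : ∀ r, ν (u r) = u (-r) := fun r => by apply ext2 <;> simp [ν, u]
    have nl : ∀ r, ν (lo r) = lo (-r) := fun r => by apply ext2 <;> simp [ν, lo]
    exact ⟨(MulAut.conj g).toMonoidHom.comp (θ.comp ν), fun r => by simp [nu, h1], fun r => by simp [nl, h2]⟩
  rcases p with i | i <;> rcases q with j | j
  · exact base i j fun e => hpq (congrArg _ e)
  · by_cases h : i = j
    · subst h; exact ⟨D.Li i, fun r => (X_ll D r).1.symm, fun r => (X_ll D r).2.symm⟩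
    · obtain ⟨θ, h1, h2⟩ := twist i j h (D.W j)
      exact ⟨θ, fun r => by rw [h1, (X_V D h r).1], fun r => by rw [h2, (X_V D (Ne.symm h) r).2]⟩
  · by_cases h : i = j
    · subst h
      refine ⟨(D.Li i).comp swapAut, fun r => ?_, fun r => ?_⟩
      · rw [MonoidHom.comp_apply, swapAut_u, (X_ll D r).2]
      · rw [MonoidHom.comp_apply, swapAut_lo, (X_ll D r).1]
    · obtain ⟨θ, h1, h2⟩ := twist i j h (D.W i)
      exact ⟨θ, fun r => by rw [h1, (X_V D h r).2], fun r => by rw [h2, (X_V D (Ne.symm h) r).1]⟩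
  · obtain ⟨θ, h1, h2⟩ := twist j i (fun e => hpq (congrArg _ e.symm)) 1
    refine ⟨θ, fun r => ?_, fun r => ?_⟩
    · rw [h1, one_mul, inv_one, mul_one]; rfl
    · rw [h2, one_mul, inv_one, mul_one]; rfl

/-- a Weyl element -/
def Gens.wt (p q : Idx (m + 2)) (t : F) : H := D.X p q t * D.X q p (-t⁻¹) * D.X p q t

theorem wt_flip {p q : Idx (m + 2)} (hpq : p ≠ q) {t : F} (ht : t ≠ 0) : D.wt q p t = D.wt p q (-t⁻¹) := by
  obtain ⟨θ, h1, h2⟩ := rank_one D p q hpq
  simp only [Gens.wt, ← h1, ← h2, ← map_mul]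
  congr 1
  apply ext2 <;> simp [u, lo, mul_apply2, ht] <;> field_simp <;> ring

theorem wt_conj (g : H) (i j i' j' : Idx (m + 2)) (s : F)
    (h : ∀ r, D.X i' j' r = g * D.X i j (s * r) * g⁻¹) (h' : ∀ r, D.X j' i' r = g * D.X j i (s * r) * g⁻¹)
    (hs : s * s = 1) (t : F) : D.wt i' j' t = g * D.wt i j (s * t) * g⁻¹ := by
  have e : s⁻¹ = s := inv_eq_of_mul_eq_one_right hs
  simp only [Gens.wt, h, h', mul_inv, e, mul_neg]
  group

theorem hh_split {i j : Fin (m + 2)} (hij : i ≠ j) (t : Fˣ) :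
    D.σ (hh i j (t : F)) = D.hl i t * D.hl j t⁻¹ := by
  obtain ⟨g, a, b, ha, hb, hA, hB⟩ := exists_pair (F := F) hij
  have e : ∀ r : F, r * r = 1 → True := fun _ _ => trivial
  have ab : a * b⁻¹ * (a * b⁻¹) = 1 := by
    rw [inv_eq_of_mul_eq_one_right hb]; linear_combination (b * b) * ha + hb
  have c : ∀ r, g * tv 0 1 r * g⁻¹ = tv i j (a * b⁻¹ * r) := fun r => conj_tv (by simp) hij hA hB r
  have c' : ∀ r, g * tv 1 0 r * g⁻¹ = tv j i (a * b⁻¹ * r) := fun r => by
    rw [conj_tv (by simp) hij.symm hB hA]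
    congr 1; rw [inv_eq_of_mul_eq_one_right ha, inv_eq_of_mul_eq_one_right hb]; ring
  have hw : ∀ r : F, om i j r = g * om 0 1 (a * b⁻¹ * r) * g⁻¹ := fun r => by
    simp only [om]
    rw [show ∀ x y z : SL(m + 2, F), g * (x * y * z) * g⁻¹ = (g * x * g⁻¹) * (g * y * g⁻¹) * (g * z * g⁻¹) from
      fun x y z => by group, c, c', mul_inv, inv_eq_of_mul_eq_one_right ab, ← mul_assoc, ab, one_mul, mul_neg,
      ← mul_assoc, ab, one_mul]
  have key : (hh i j (t : F) : SL(m + 2, F)) = g * hh 0 1 (t : F) * g⁻¹ := by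
    have n1 : a * b⁻¹ ≠ 0 := left_ne_zero_of_mul_eq_one ab
    have hh' : hh i j (t : F) = g * (om 0 1 (a * b⁻¹ * t) * (om 0 1 (a * b⁻¹ * 1))⁻¹) * g⁻¹ := by
      rw [hh, hw, hw]; group
    rw [hh', hh_ratio (by simp) (mul_ne_zero n1 t.ne_zero) (mul_ne_zero n1 one_ne_zero),
      mul_div_mul_left _ _ n1, div_one]
  rw [key, map_mul, map_mul, map_inv, D.split, Gens.hl, Gens.hl, ← move_Li D hA ha, ← move_Li D hB hb, Li_zero,
    Li_one]
  group

theorem act_om {i j : Fin (m + 2)} (hij : i ≠ j) {t : F} (ht : t ≠ 0) :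
    D.Act (D.σ (om i j t)) (Equiv.sumCongr (Equiv.swap i j) (Equiv.swap i j)) := by
  have e : om i j t = hh i j t * om i j (1 : F) := by rw [hh, inv_mul_cancel_right]
  obtain ⟨t, rfl⟩ : ∃ t' : Fˣ, (t' : F) = t := ⟨Units.mk0 t ht, rfl⟩
  rw [e, map_mul, hh_split D hij]
  have := act_mul D (act_mul D (act_hl D i t) (act_hl D j t⁻¹)) (act_sigma D hij)
  rwa [one_mul, one_mul] at this

theorem wt_ll (i : Fin (m + 2)) {t : F} (ht : t ≠ 0) :
    D.wt (Sum.inl i) (Sum.inr i) t = D.hl i (Units.mk0 t ht) * D.W i := by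
  simp only [Gens.wt, (X_ll D _).1, (X_ll D _).2, Gens.hl, Gens.W, ← map_mul]
  congr 1
  apply ext2 <;> simp [d, u, lo, SL2PresData.W, mul_apply2, ht]

theorem act_wt (p q : Idx (m + 2)) (hpq : p ≠ q) {t : F} (ht : t ≠ 0) : D.Act (D.wt p q t) (rflP p q) := by
  have twist : ∀ (g : H) (k i j : Fin (m + 2)), i ≠ j → D.Act g (Equiv.swap (Sum.inl k) (Sum.inr k)) →
      D.Act g⁻¹ (Equiv.swap (Sum.inl k) (Sum.inr k)) → ∀ s : F, s ≠ 0 →
      D.Act (g * D.σ (om i j s) * g⁻¹) (Equiv.swap (Sum.inl k) (Sum.inr k) *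
        Equiv.sumCongr (Equiv.swap i j) (Equiv.swap i j) * Equiv.swap (Sum.inl k) (Sum.inr k)) :=
    fun g k i j h a1 a2 s hs => act_mul D (act_mul D a1 (act_om D h hs)) a2
  have om_eq : ∀ i j : Fin (m + 2), ∀ s : F, D.σ (om i j s) = D.wt (Sum.inl i) (Sum.inl j) s := fun i j s => by
    simp only [om, map_mul]; rfl
  rcases p with i | i <;> rcases q with j | j
  · have h : i ≠ j := fun e => hpq (congrArg _ e)
    rw [← om_eq]
    refine act_congr D (act_om D h ht) fun x => ?_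
    rcases x with k | k <;> simp [rflP, bar, Equiv.swap_apply_def] <;> split_ifs <;> simp_all [Equiv.swap_apply_of_ne_of_ne]
  · by_cases h : i = j
    · subst h
      rw [wt_ll D i ht]
      refine act_congr D (act_mul D (act_hl D i _) (act_W D i)) fun x => ?_
      simp [rflP, bar]
    · rw [wt_conj D (D.W j) (Sum.inl i) (Sum.inl j) _ _ (-1) (fun r => by rw [(X_V D h r).1, neg_one_mul]; rfl)
        (fun r => by rw [(X_V D (Ne.symm h) r).2, neg_one_mul]; rfl) (by ring), ← om_eq]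
      refine act_congr D (twist _ j i j h (act_W D j) (act_W_inv D j) _ (by simpa using ht)) fun x => ?_
      rcases x with k | k <;> simp [rflP, bar, Ne.symm h, Equiv.swap_apply_def] <;>
        split_ifs <;> simp_all [Equiv.swap_apply_of_ne_of_ne]
  · by_cases h : i = j
    · subst h
      rw [wt_flip D Sum.inl_ne_inr ht, wt_ll D i (by simpa using ht)]
      refine act_congr D (act_mul D (act_hl D i _) (act_W D i)) fun x => ?_
      simp [rflP, bar, Equiv.swap_comm]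
    · rw [wt_conj D (D.W i) (Sum.inl i) (Sum.inl j) _ _ (-1) (fun r => by rw [(X_V D h r).2, neg_one_mul]; rfl)
        (fun r => by rw [(X_V D (Ne.symm h) r).1, neg_one_mul]; rfl) (by ring), ← om_eq]
      refine act_congr D (twist _ i i j h (act_W D i) (act_W_inv D i) _ (by simpa using ht)) fun x => ?_
      rcases x with k | k <;> simp [rflP, bar, Ne.symm h, Equiv.swap_apply_def] <;>
        split_ifs <;> simp_all [Equiv.swap_apply_of_ne_of_ne]
  · have h : j ≠ i := fun e => hpq (congrArg _ e.symm)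
    rw [wt_conj D 1 (Sum.inl j) (Sum.inl i) (Sum.inr i) (Sum.inr j) (-1)
      (fun r => by rw [one_mul, inv_one, mul_one, neg_one_mul]; rfl)
      (fun r => by rw [one_mul, inv_one, mul_one, neg_one_mul]; rfl) (by ring), one_mul, inv_one, mul_one, ← om_eq]
    refine act_congr D (act_om D h (by simpa using ht)) fun x => ?_
    rcases x with k | k <;> simp [rflP, bar, Equiv.swap_apply_def] <;> split_ifs <;> simp_all [Equiv.swap_apply_of_ne_of_ne]

/-- scalars of an action are given by the image -/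
theorem scal {g : H} {τ : Equiv.Perm (Idx (m + 2))} (h : D.Act g τ) {a b : Idx (m + 2)} (hab : a ≠ b) :
    ∃ c : F, c ≠ 0 ∧ (∀ r, g * D.X a b r * g⁻¹ = D.X (τ a) (τ b) (c * r)) ∧
      ∀ r, g * D.X b a r * g⁻¹ = D.X (τ b) (τ a) (c⁻¹ * r) := by
  obtain ⟨μa, ea⟩ := h.2.1 a
  obtain ⟨μb, eb⟩ := h.2.1 b
  have nz : ∀ {x : Idx (m + 2)} {μ : F}, (D.π g).1 *ᵥ Pi.single x 1 = Pi.single (τ x) μ → μ ≠ 0 := by
    intro x μ e hμ
    have h1 : (D.π g⁻¹).1 *ᵥ ((D.π g).1 *ᵥ Pi.single x 1) = Pi.single x 1 := by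
      rw [Matrix.mulVec_mulVec, ← Submonoid.coe_mul, ← map_mul, inv_mul_cancel, map_one]
      exact Matrix.one_mulVec _
    rw [e, hμ, Pi.single_zero, Matrix.mulVec_zero] at h1
    simpa using congrFun h1 x
  have key : ∀ {a b : Idx (m + 2)}, a ≠ b → ∀ {μa μb : F}, (D.π g).1 *ᵥ Pi.single a 1 = Pi.single (τ a) μa →
      (D.π g).1 *ᵥ Pi.single b 1 = Pi.single (τ b) μb →
      ∀ r, g * D.X a b r * g⁻¹ = D.X (τ a) (τ b) (μa / μb * r) := by
    intro a b hab μa μb ea eb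
    obtain ⟨c, hc⟩ := h.2.2 a b hab
    have e : (D.π (g * D.X a b 1 * g⁻¹ * g)).1 = (D.π (D.X (τ a) (τ b) (c * 1) * g)).1 := by rw [hc 1]
    rw [inv_mul_cancel_right, map_mul, map_mul, Submonoid.coe_mul, Submonoid.coe_mul, π_X D a b hab,
      π_X D _ _ (τ.injective.ne hab), mul_one] at e
    have e2 := congrFun (congrArg (fun A : Matrix (Idx (m + 2)) (Idx (m + 2)) F => A *ᵥ Pi.single b 1) e) (τ a)
    simp only [← Matrix.mulVec_mulVec, eb, rmat_single, if_pos, Matrix.mulVec_add, mul_one] at e2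
    have hbb : ∀ y : Idx (m + 2), ¬(y ≠ bar a ∧ y = bar a) := fun y hy => hy.1 hy.2
    have hbb' : ∀ y : Idx (m + 2), ¬(y ≠ bar (τ a) ∧ y = bar (τ a)) := fun y hy => hy.1 hy.2
    simp only [if_neg (hbb b), if_neg (hbb' (τ b)), Matrix.mulVec_zero, add_zero, ea, eb,
      Pi.add_apply, Pi.single_eq_same, Pi.single_eq_of_ne (τ.injective.ne hab), zero_add] at e2
    intro r
    simp only [Pi.zero_apply, add_zero] at e2
    rw [hc, e2, mul_div_assoc, div_self (nz eb), mul_one]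
  have za := nz ea
  have zb := nz eb
  exact ⟨μa / μb, div_ne_zero za zb, key hab ea eb, by rw [inv_div]; exact key (Ne.symm hab) eb ea⟩

theorem X_addD {p q : Idx (m + 2)} (hpq : p ≠ q) (r s : F) : D.X p q (r + s) = D.X p q r * D.X p q s := by
  obtain ⟨θ, a, -⟩ := rank_one D p q hpq
  rw [← a, ← a, ← a, ← map_mul, u_mul]

theorem bar_idx (x : Idx (m + 2)) : idx (bar x) = idx x := by rcases x with i | i <;> rfl

theorem idx_cases {x y : Idx (m + 2)} (h : idx x = idx y) : x = y ∨ x = bar y := by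
  rcases x with i | i <;> rcases y with j | j <;> simp_all [idx, bar]

/-- move one index and fix the others -/
theorem exists_move (x y : Idx (m + 2)) :
    ∃ g τ, D.Act g τ ∧ τ x = y ∧ ∀ z, idx z ≠ idx x → idx z ≠ idx y → τ z = z := by
  have flip : ∀ x y : Idx (m + 2), idx x = idx y →
      ∃ g τ, D.Act g τ ∧ τ x = y ∧ ∀ z, idx z ≠ idx x → τ z = z := by
    intro x y h
    rcases idx_cases h with rfl | rfl
    · exact ⟨1, 1, act_one D, rfl, fun _ _ => rfl⟩
    · refine ⟨_, _, act_W D (idx y), ?_, fun z hz => ?_⟩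
      · rcases y with i | i <;> simp [bar, idx]
      · rw [bar_idx] at hz
        rcases z with i | i <;> refine Equiv.swap_apply_of_ne_of_ne ?_ ?_ <;> simp <;> exact fun e => hz e
  by_cases h : idx x = idx y
  · obtain ⟨g, τ, a, b, c⟩ := flip x y h
    exact ⟨g, τ, a, b, fun z hz _ => c z hz⟩
  · let s := Equiv.sumCongr (Equiv.swap (idx x) (idx y)) (Equiv.swap (idx x) (idx y))
    have hs : idx (s x) = idx y := by rcases x with i | i <;> simp [s, idx]
    obtain ⟨g, τ, a, b, c⟩ := flip (s x) y hs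
    refine ⟨g * D.σ (om (idx x) (idx y) 1), τ * s, act_mul D a (act_sigma D h), b, fun z hz hz' => ?_⟩
    have e : s z = z := by
      rcases z with i | i <;> simp only [s, Equiv.sumCongr_apply, Sum.map_inl, Sum.map_inr] <;>
        exact congrArg _ (Equiv.swap_apply_of_ne_of_ne hz hz')
    rw [Equiv.Perm.mul_apply, e]
    exact c z (by rw [hs]; exact hz')

theorem exists_move2 {p0 q0 p q : Idx (m + 2)} (h0 : idx p0 ≠ idx q0) (h : idx p ≠ idx q) :
    ∃ g τ, D.Act g τ ∧ τ p0 = p ∧ τ q0 = q ∧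
      ∀ z, idx z ≠ idx p0 → idx z ≠ idx p → idx (τ z) ≠ idx p ∧ True := by
  obtain ⟨g, τ, a, hp, -⟩ := exists_move D p0 p
  have hq : idx (τ q0) ≠ idx p := by
    intro e
    rcases idx_cases e with e | e
    · exact h0 (congrArg idx (τ.injective (e.trans hp.symm))).symm
    · rw [← hp, ← a.1] at e
      exact h0 ((congrArg idx (τ.injective e)).trans (bar_idx _)).symm
  obtain ⟨g', τ', a', hq', f'⟩ := exists_move D (τ q0) q
  have fp : τ' p = p := f' p hq.symm h
  refine ⟨g' * g, τ' * τ, act_mul D a' a, by rw [Equiv.Perm.mul_apply, hp, fp], hq', fun z hz _ => ⟨?_, trivial⟩⟩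
  intro e
  rcases idx_cases e with e | e
  · rw [← fp, Equiv.Perm.mul_apply] at e
    exact hz (congrArg idx (τ.injective ((τ'.injective e).trans hp.symm)))
  · rw [← fp, ← a'.1, Equiv.Perm.mul_apply] at e
    have e' := τ'.injective e
    rw [← hp, ← a.1] at e'
    exact hz ((congrArg idx (τ.injective e')).trans (bar_idx _))

theorem exists_move3 {p0 q0 b0 p q b : Idx (m + 2)} (h0 : idx p0 ≠ idx q0) (h1 : idx p0 ≠ idx b0)
    (h2 : idx q0 ≠ idx b0) (h : idx p ≠ idx q) (h' : idx p ≠ idx b) (h'' : idx q ≠ idx b) :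
    ∃ g τ, D.Act g τ ∧ τ p0 = p ∧ τ q0 = q ∧ τ b0 = b := by
  obtain ⟨g, τ, a, hp, hq, -⟩ := exists_move2 D h0 h
  have key : ∀ {z w : Idx (m + 2)}, τ z = w → idx z ≠ idx b0 → idx (τ b0) ≠ idx w := by
    intro z w hzw hne e
    rcases idx_cases e with e | e
    · exact hne (congrArg idx (τ.injective (e.trans hzw.symm))).symm
    · rw [← hzw, ← a.1] at e
      exact hne ((congrArg idx (τ.injective e)).trans (bar_idx _)).symm
  obtain ⟨g', τ', a', hb', f'⟩ := exists_move D (τ b0) b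
  exact ⟨g' * g, τ' * τ, act_mul D a' a, by rw [Equiv.Perm.mul_apply, hp, f' p (key hp h1).symm h'],
    by rw [Equiv.Perm.mul_apply, hq, f' q (key hq h2).symm h''], hb'⟩

theorem exists_move4 {p0 q0 a0 b0 p q a b : Idx (m + 2)} (h0 : idx p0 ≠ idx q0) (h1 : idx p0 ≠ idx a0)
    (h2 : idx q0 ≠ idx a0) (k0 : idx p0 ≠ idx b0) (k1 : idx q0 ≠ idx b0) (k2 : idx a0 ≠ idx b0)
    (h : idx p ≠ idx q) (h' : idx p ≠ idx a) (h'' : idx q ≠ idx a) (k : idx p ≠ idx b) (k' : idx q ≠ idx b)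
    (k'' : idx a ≠ idx b) :
    ∃ g τ, D.Act g τ ∧ τ p0 = p ∧ τ q0 = q ∧ τ a0 = a ∧ τ b0 = b := by
  obtain ⟨g, τ, ac, hp, hq, ha⟩ := exists_move3 D h0 h1 h2 h h' h''
  have key : ∀ {z w : Idx (m + 2)}, τ z = w → idx z ≠ idx b0 → idx (τ b0) ≠ idx w := by
    intro z w hzw hne e
    rcases idx_cases e with e | e
    · exact hne (congrArg idx (τ.injective (e.trans hzw.symm))).symm
    · rw [← hzw, ← ac.1] at e
      exact hne ((congrArg idx (τ.injective e)).trans (bar_idx _)).symm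
  obtain ⟨g', τ', a', hb', f'⟩ := exists_move D (τ b0) b
  exact ⟨g' * g, τ' * τ, act_mul D a' ac, by rw [Equiv.Perm.mul_apply, hp, f' p (key hp k0).symm k],
    by rw [Equiv.Perm.mul_apply, hq, f' q (key hq k1).symm k'],
    by rw [Equiv.Perm.mul_apply, ha, f' a (key ha k2).symm k''], hb'⟩

/-- root elements with names in `S` -/
def Gens.RS (S : Set (Idx (m + 2) × Idx (m + 2))) : Subgroup H :=
  Subgroup.closure {g | ∃ x y t, (x, y) ∈ S ∧ x ≠ y ∧ g = D.X x y t}

theorem transport {g : H} {τ : Equiv.Perm (Idx (m + 2))} (hg : D.Act g τ) {p q a b : Idx (m + 2)} (hpq : p ≠ q)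
    (hab : a ≠ b) {S S' : Set (Idx (m + 2) × Idx (m + 2))} (hS : ∀ x y, (x, y) ∈ S → (τ x, τ y) ∈ S')
    (h : ∀ r s, ⁅D.X p q r, D.X a b s⁆ ∈ D.RS S) (r s : F) :
    ⁅D.X (τ p) (τ q) r, D.X (τ a) (τ b) s⁆ ∈ D.RS S' := by
  obtain ⟨c, hc, e, -⟩ := scal D hg hpq
  obtain ⟨c', hc', e', -⟩ := scal D hg hab
  have e1 : D.X (τ p) (τ q) r = MulAut.conj g (D.X p q (c⁻¹ * r)) := by
    rw [MulAut.conj_apply, e, ← mul_assoc, mul_inv_cancel₀ hc, one_mul]
  have e2 : D.X (τ a) (τ b) s = MulAut.conj g (D.X a b (c'⁻¹ * s)) := by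
    rw [MulAut.conj_apply, e', ← mul_assoc, mul_inv_cancel₀ hc', one_mul]
  rw [e1, e2, ← map_commutatorElement]
  have : D.RS S ≤ (D.RS S').comap (MulAut.conj g).toMonoidHom := by
    rw [Gens.RS, Subgroup.closure_le]
    rintro _ ⟨x, y, t, hxy, hne, rfl⟩
    obtain ⟨d, -, ed, -⟩ := scal D hg hne
    exact Subgroup.subset_closure ⟨τ x, τ y, d * t, hS x y hxy, τ.injective.ne hne, ed t⟩
  exact this (h _ _)

theorem comm_symm {S : Set (Idx (m + 2) × Idx (m + 2))} {x y : H} (h : ⁅x, y⁆ ∈ D.RS S) : ⁅y, x⁆ ∈ D.RS S := by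
  rw [← commutatorElement_inv]; exact Subgroup.inv_mem _ h

theorem of_alias {S : Set (Idx (m + 2) × Idx (m + 2))} {a b : Idx (m + 2)} (hab : a ≠ b) {x : H}
    (h : ∀ s, ⁅x, D.X (bar b) (bar a) s⁆ ∈ D.RS S) (s : F) : ⁅x, D.X a b s⁆ ∈ D.RS S := by
  have := h (sg a b * s)
  rwa [X_alias D hab, ← mul_assoc, sg_sq, one_mul] at this

theorem of_alias' {S : Set (Idx (m + 2) × Idx (m + 2))} {a b : Idx (m + 2)} (hab : a ≠ b) {x : H}
    (h : ∀ s, ⁅D.X (bar b) (bar a) s, x⁆ ∈ D.RS S) (s : F) : ⁅D.X a b s, x⁆ ∈ D.RS S :=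
  comm_symm D (of_alias D hab (fun t => comm_symm D (h t)) s)

theorem of_commute {S : Set (Idx (m + 2) × Idx (m + 2))} {x y : H} (h : Commute x y) : ⁅x, y⁆ ∈ D.RS S := by
  rw [commutatorElement_eq_one_iff_commute.mpr h]; exact Subgroup.one_mem _

/-- the targets -/
def tgt (p q b : Idx (m + 2)) : Set (Idx (m + 2) × Idx (m + 2)) :=
  {e | e = (p, b) ∨ (b = bar q ∧ e = (p, bar p)) ∨ (q = bar p ∧ e = (bar b, b))}

theorem chain {p q b : Idx (m + 2)} (hpq : p ≠ q) (hqb : q ≠ b) (hpb : p ≠ b) (r s : F) :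
    ⁅D.X p q r, D.X q b s⁆ ∈ D.RS (tgt p q b) := by
  have hC : ∀ {p q : Idx (m + 2)}, p ≠ q → q ≠ bar p → ∀ r s : F,
      ⁅D.X p q r, D.X q (bar q) s⁆ ∈ D.RS {e | e = (p, bar q) ∨ e = (p, bar p)} := by
    intro p q hpq hl r s
    have hi : idx p ≠ idx q := fun e => by
      rcases idx_cases e with e | e
      exacts [hpq e, hl (by rw [e, bar_bar])]
    obtain ⟨g, τ, a, ep, eq, -⟩ := exists_move2 D (p0 := Sum.inl 0) (q0 := Sum.inl 1) (by simp [idx]) hi
    have := transport D a (p := Sum.inl 0) (q := Sum.inl 1) (a := Sum.inl 1) (b := Sum.inr 1) (by simp) (by simp)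
      (S := {e | e = (Sum.inl 0, Sum.inr 1) ∨ e = (Sum.inl 0, Sum.inr 0)})
      (S' := {e | e = (p, bar q) ∨ e = (p, bar p)}) ?_ ?_ r s
    · rwa [ep, eq, show (Sum.inr 1 : Idx (m + 2)) = bar (Sum.inl 1) from rfl, a.1, eq] at this
    · rintro x y (e | e) <;> cases e
      · exact Or.inl (by rw [ep, show (Sum.inr 1 : Idx (m + 2)) = bar (Sum.inl 1) from rfl, a.1, eq])
      · exact Or.inr (by rw [ep, show (Sum.inr 0 : Idx (m + 2)) = bar (Sum.inl 0) from rfl, a.1, ep])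
    · intro r s
      show ⁅D.σ (tv 0 1 r), _⁆ ∈ _
      rw [(X_ll D s).1, Li_one]
      refine (Subgroup.closure_le _).mpr ?_ (D.rel_b r s)
      rintro _ ⟨v, rfl | rfl⟩
      · exact Subgroup.subset_closure ⟨_, _, v, Or.inr rfl, by simp, by rw [(X_ll D v).1, Li_zero]⟩
      · exact Subgroup.subset_closure ⟨_, _, -v, Or.inl rfl, by simp,
          by rw [(X_V D (by simp) _).1, Gens.W, Li_one, neg_neg]⟩
  by_cases hl : q = bar p
  · subst hl
    have hpb' : bar b ≠ p := fun e => hqb (by rw [← e, bar_bar])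
    refine of_alias D hqb (fun s => ?_) s
    rw [bar_bar]
    refine comm_symm D ?_
    refine Subgroup.closure_mono ?_ (hC hpb' (fun e => hpb (by rw [e, bar_bar])) s r)
    rintro _ ⟨x, y, t, (e | e), hne, rfl⟩ <;> cases e
    · exact ⟨p, b, sg p b * t, Or.inl rfl, hpb, X_alias D hpb t⟩
    · exact ⟨bar b, b, t, Or.inr (Or.inr ⟨rfl, rfl⟩), bar_ne b, by rw [bar_bar]⟩
  by_cases hlb : b = bar q
  · subst hlb
    refine Subgroup.closure_mono ?_ (hC hpq hl r s)
    rintro _ ⟨x, y, t, (e | e), hne, rfl⟩ <;> cases e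
    · exact ⟨_, _, t, Or.inl rfl, hne, rfl⟩
    · exact ⟨_, _, t, Or.inr (Or.inl ⟨rfl, rfl⟩), hne, rfl⟩
  have hi : idx p ≠ idx q := fun e => by
    rcases idx_cases e with e | e
    exacts [hpq e, hl (by rw [e, bar_bar])]
  by_cases hB : b = bar p
  · subst hB
    obtain ⟨g, τ, a, ep, eq, -⟩ := exists_move2 D (p0 := Sum.inl 0) (q0 := Sum.inl 1) (by simp [idx]) hi
    have := transport D a (p := Sum.inl 0) (q := Sum.inl 1) (a := Sum.inl 1) (b := Sum.inr 0) (by simp) (by simp)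
      (S := {e | e = (Sum.inl 0, Sum.inr 0)}) (S' := tgt p q (bar p)) ?_ ?_ r s
    · rwa [ep, eq, show (Sum.inr 0 : Idx (m + 2)) = bar (Sum.inl 0) from rfl, a.1, ep] at this
    · rintro x y e; cases e
      exact Or.inl (by rw [ep, show (Sum.inr 0 : Idx (m + 2)) = bar (Sum.inl 0) from rfl, a.1, ep])
    · intro r s
      show ⁅D.σ (tv 0 1 r), _⁆ ∈ _
      rw [(X_V D (by simp) s).1, V_symm D (by simp), Gens.W, Li_one]
      refine (Subgroup.closure_le _).mpr ?_ (D.rel_c r _)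
      rintro _ ⟨v, rfl⟩
      exact Subgroup.subset_closure ⟨_, _, v, rfl, by simp, by rw [(X_ll D v).1, Li_zero]⟩
  have hib : idx p ≠ idx b := fun e => by
    rcases idx_cases e with e | e
    exacts [hpb e, hB (by rw [e, bar_bar])]
  have hiq : idx q ≠ idx b := fun e => by
    rcases idx_cases e with e | e
    exacts [hqb e, hlb (by rw [e, bar_bar])]
  have h3 : 2 < m + 2 := by
    have h1 := (idx p).isLt; have h2 := (idx q).isLt; have h3 := (idx b).isLt
    have := Fin.val_ne_iff.mpr hi; have := Fin.val_ne_iff.mpr hib; have := Fin.val_ne_iff.mpr hiq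
    omega
  obtain ⟨g, τ, a, ep, eq, eb⟩ := exists_move3 D (p0 := Sum.inl 0) (q0 := Sum.inl 1) (b0 := Sum.inl ⟨2, h3⟩)
    (by simp [idx]) (by simp [idx, Fin.ext_iff]) (by simp [idx, Fin.ext_iff]) hi hib hiq
  have := transport D a (p := Sum.inl 0) (q := Sum.inl 1) (a := Sum.inl 1) (b := Sum.inl ⟨2, h3⟩) (by simp)
    (by simp [Fin.ext_iff]) (S := {e | e = (Sum.inl 0, Sum.inl ⟨2, h3⟩)}) (S' := tgt p q b) ?_ ?_ r s
  · rwa [ep, eq, eb] at this
  · rintro x y e; cases e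
    exact Or.inl (by rw [ep, eb])
  · intro r s
    show ⁅D.σ (tv 0 1 r), D.σ (tv 1 ⟨2, h3⟩ s)⁆ ∈ _
    rw [← map_commutatorElement, tv_bracket (by simp) (by simp [Fin.ext_iff]) (by simp [Fin.ext_iff])]
    exact Subgroup.subset_closure ⟨_, _, r * s, rfl, by simp [Fin.ext_iff], rfl⟩

theorem share {p q b : Idx (m + 2)} (hpq : p ≠ q) (hpb : p ≠ b) (hqb : q ≠ b) (hbq : b ≠ bar q) (r s : F) :
    Commute (D.X p q r) (D.X p b s) := by
  have hL : ∀ {p b : Idx (m + 2)}, idx p ≠ idx b → ∀ r s : F, Commute (D.X p (bar p) r) (D.X p b s) := by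
    intro p b h r s
    obtain ⟨g, τ, a, ep, eb, -⟩ := exists_move2 D (p0 := Sum.inl 0) (q0 := Sum.inl 1) (by simp [idx]) h
    have h0 := transport D a (p := Sum.inl 0) (q := Sum.inr 0) (a := Sum.inl 0) (b := Sum.inl 1) (by simp) (by simp)
      (S := ∅) (S' := ∅) (fun _ _ h => h) ?_ r s
    · rw [ep, eb, show (Sum.inr 0 : Idx (m + 2)) = bar (Sum.inl 0) from rfl, a.1, ep] at h0
      exact commutatorElement_eq_one_iff_commute.mp (by simpa [Gens.RS] using h0)
    · intro r s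
      refine of_commute D ?_
      rw [(X_ll D r).1, Li_zero]
      exact (D.rel_a s r).symm
  by_cases hl : q = bar p
  · subst hl
    exact hL (fun e => by
      rcases idx_cases e with e | e
      exacts [hpb e, hqb (by rw [e, bar_bar])]) r s
  by_cases hlb : b = bar p
  · subst hlb
    exact (hL (fun e => by
      rcases idx_cases e with e | e
      exacts [hpq e, hl (by rw [e, bar_bar])]) s r).symm
  have hi : idx p ≠ idx q := fun e => by
    rcases idx_cases e with e | e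
    exacts [hpq e, hl (by rw [e, bar_bar])]
  have hib : idx p ≠ idx b := fun e => by
    rcases idx_cases e with e | e
    exacts [hpb e, hlb (by rw [e, bar_bar])]
  have hiq : idx q ≠ idx b := fun e => by
    rcases idx_cases e with e | e
    exacts [hqb e, hbq (by rw [e, bar_bar])]
  have h3 : 2 < m + 2 := by
    have h1 := (idx p).isLt; have h2 := (idx q).isLt; have h3 := (idx b).isLt
    have := Fin.val_ne_iff.mpr hi; have := Fin.val_ne_iff.mpr hib; have := Fin.val_ne_iff.mpr hiq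
    omega
  obtain ⟨g, τ, a, ep, eq, eb⟩ := exists_move3 D (p0 := Sum.inl 0) (q0 := Sum.inl 1) (b0 := Sum.inl ⟨2, h3⟩)
    (by simp [idx]) (by simp [idx, Fin.ext_iff]) (by simp [idx, Fin.ext_iff]) hi hib hiq
  have h0 := transport D a (p := Sum.inl 0) (q := Sum.inl 1) (a := Sum.inl 0) (b := Sum.inl ⟨2, h3⟩) (by simp)
    (by simp [Fin.ext_iff]) (S := ∅) (S' := ∅) (fun _ _ h => h) ?_ r s
  · rw [ep, eq, eb] at h0
    exact commutatorElement_eq_one_iff_commute.mp (by simpa [Gens.RS] using h0)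
  · intro r s
    refine of_commute D ?_
    show Commute (D.σ (tv 0 1 r)) (D.σ (tv 0 ⟨2, h3⟩ s))
    exact (tv_commute (by simp) (by simp [Fin.ext_iff]) (by simp) (by simp [Fin.ext_iff]) r s).map D.σ

theorem disjoint {p q a b : Idx (m + 2)} (hpq : p ≠ q) (hab : a ≠ b) (h1 : idx p ≠ idx a) (h2 : idx p ≠ idx b)
    (h3 : idx q ≠ idx a) (h4 : idx q ≠ idx b) (r s : F) : Commute (D.X p q r) (D.X a b s) := by
  have fin : ∀ {p q a b : Idx (m + 2)} {p0 q0 a0 b0 : Idx (m + 2)} (g : H) (τ : Equiv.Perm (Idx (m + 2))),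
      D.Act g τ → τ p0 = p → τ q0 = q → τ a0 = a → τ b0 = b → p0 ≠ q0 → a0 ≠ b0 →
      (∀ r s, Commute (D.X p0 q0 r) (D.X a0 b0 s)) → ∀ r s, Commute (D.X p q r) (D.X a b s) := by
    intro p q a b p0 q0 a0 b0 g τ hg e1 e2 e3 e4 n1 n2 h r s
    have h0 := transport D hg n1 n2 (S := ∅) (S' := ∅) (fun _ _ h => h) (fun r s => of_commute D (h r s)) r s
    rw [e1, e2, e3, e4] at h0
    exact commutatorElement_eq_one_iff_commute.mp (by simpa [Gens.RS] using h0)
  have long : ∀ {p a b : Idx (m + 2)}, a ≠ b → idx p ≠ idx a → idx p ≠ idx b →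
      ∀ r s, Commute (D.X p (bar p) r) (D.X a b s) := by
    intro p a b hab ha hb
    by_cases hl : b = bar a
    · subst hl
      obtain ⟨g, τ, hg, ep, ea, -⟩ := exists_move2 D (p0 := Sum.inl 0) (q0 := Sum.inl 1) (by simp [idx]) ha
      refine fin (q0 := Sum.inr 0) (b0 := Sum.inr 1) g τ hg ep ?_ ea ?_ (by simp) (by simp) fun r s => ?_
      · rw [show (Sum.inr 0 : Idx (m + 2)) = bar (Sum.inl 0) from rfl, hg.1, ep]
      · rw [show (Sum.inr 1 : Idx (m + 2)) = bar (Sum.inl 1) from rfl, hg.1, ea]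
      · rw [(X_ll D r).1, (X_ll D s).1]
        exact Li_comm D (by simp) _ _
    have hi : idx a ≠ idx b := fun e => by
      rcases idx_cases e with e | e
      exacts [hab e, hl (by rw [e, bar_bar])]
    have h3 : 2 < m + 2 := by
      have h1 := (idx p).isLt; have h2 := (idx a).isLt; have h3 := (idx b).isLt
      have := Fin.val_ne_iff.mpr hi; have := Fin.val_ne_iff.mpr ha; have := Fin.val_ne_iff.mpr hb
      omega
    obtain ⟨g, τ, hg, ep, ea, eb⟩ := exists_move3 D (p0 := Sum.inl 0) (q0 := Sum.inl 1) (b0 := Sum.inl ⟨2, h3⟩)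
      (by simp [idx]) (by simp [idx, Fin.ext_iff]) (by simp [idx, Fin.ext_iff]) ha hb hi
    refine fin (q0 := Sum.inr 0) g τ hg ep ?_ ea eb (by simp) (by simp [Fin.ext_iff]) fun r s => ?_
    · rw [show (Sum.inr 0 : Idx (m + 2)) = bar (Sum.inl 0) from rfl, hg.1, ep]
    · rw [(X_ll D r).1]
      exact (Li_tv D (by simp [Fin.ext_iff]) (by simp) (by simp [Fin.ext_iff]) _ s).symm
  by_cases hl : q = bar p
  · subst hl; exact long hab h1 h2 r s
  by_cases hlb : b = bar a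
  · subst hlb; exact (long hpq h1.symm h3.symm s r).symm
  have hi : idx p ≠ idx q := fun e => by
    rcases idx_cases e with e | e
    exacts [hpq e, hl (by rw [e, bar_bar])]
  have hia : idx a ≠ idx b := fun e => by
    rcases idx_cases e with e | e
    exacts [hab e, hlb (by rw [e, bar_bar])]
  have h5 : 3 < m + 2 := by
    have e1 := (idx p).isLt; have e2 := (idx q).isLt; have e3 := (idx a).isLt; have e4 := (idx b).isLt
    have := Fin.val_ne_iff.mpr hi; have := Fin.val_ne_iff.mpr hia; have := Fin.val_ne_iff.mpr h1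
    have := Fin.val_ne_iff.mpr h2; have := Fin.val_ne_iff.mpr h3; have := Fin.val_ne_iff.mpr h4
    omega
  obtain ⟨g, τ, hg, ep, eq, ea, eb⟩ := exists_move4 D (p0 := Sum.inl 0) (q0 := Sum.inl 1)
    (a0 := Sum.inl ⟨2, by omega⟩) (b0 := Sum.inl ⟨3, h5⟩)
    (by simp [idx]) (by simp [idx, Fin.ext_iff]) (by simp [idx, Fin.ext_iff]) (by simp [idx, Fin.ext_iff])
    (by simp [idx, Fin.ext_iff]) (by simp [idx, Fin.ext_iff]) hi h1 h3 h2 h4 hia
  exact fin g τ hg ep eq ea eb (by simp) (by simp [Fin.ext_iff])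
    (fun r s => (tv_commute (by simp) (by simp [Fin.ext_iff]) (by simp [Fin.ext_iff]) (by simp [Fin.ext_iff]) r s).map D.σ)
    r s

theorem comm_pos {p q a b : Idx (m + 2)} {k : ℕ} (h : pos p < pos q) (h' : pos a < pos b)
    (hk : pos p + k ≤ pos q ∨ pos a + k ≤ pos b) (r s : F) :
    ⁅D.X p q r, D.X a b s⁆ ∈ D.RS {e | pos e.1 + (k + 1) ≤ pos e.2} := by
  have core : ∀ {p q b : Idx (m + 2)}, pos p < pos q → pos q < pos b → (pos p + k ≤ pos q ∨ pos q + k ≤ pos b) →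
      ∀ r s, ⁅D.X p q r, D.X q b s⁆ ∈ D.RS {e | pos e.1 + (k + 1) ≤ pos e.2} := by
    intro p q b h h' hk r s
    refine Subgroup.closure_mono ?_ (chain D (fun e => by subst e; omega) (fun e => by subst e; omega)
      (fun e => by subst e; omega) r s)
    rintro _ ⟨x, y, t, he, hne, rfl⟩
    refine ⟨x, y, t, ?_, hne, rfl⟩
    show pos x + (k + 1) ≤ pos y
    have := pos_lt p; have := pos_lt q; have := pos_lt b
    rcases he with e | ⟨rfl, e⟩ | ⟨rfl, e⟩ <;> cases e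
    · omega
    · rw [pos_bar] at *; omega
    · rw [pos_bar] at *; omega
  have hpq : p ≠ q := fun e => by subst e; omega
  have hab : a ≠ b := fun e => by subst e; omega
  have hpb : ∀ x, pos x < 2 * (m + 2) := pos_lt
  have flip : ∀ {x y : Idx (m + 2)}, pos x < pos y → pos (bar y) < pos (bar x) := by
    intro x y h; have := pos_lt x; have := pos_lt y; rw [pos_bar, pos_bar]; omega
  have width : ∀ {x y : Idx (m + 2)}, pos x + k ≤ pos y → pos (bar y) + k ≤ pos (bar x) := by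
    intro x y h; have := pos_lt x; have := pos_lt y; rw [pos_bar, pos_bar]; omega
  -- the four chains
  by_cases c1 : a = q
  · subst c1; exact core h h' hk r s
  by_cases c2 : bar b = q
  · subst c2
    exact of_alias D hab (fun s => core h (flip h') (hk.imp id width) r s) s
  by_cases c3 : b = p
  · subst c3; exact comm_symm D (core h' h hk.symm s r)
  by_cases c4 : bar a = p
  · subst c4
    exact of_alias D hab (fun s => comm_symm D (core (flip h') h (hk.symm.imp width id) s r)) s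
  refine of_commute D ?_
  have alias_comm : ∀ {x : H} {a b : Idx (m + 2)}, a ≠ b → (∀ s, Commute x (D.X (bar b) (bar a) s)) →
      ∀ s, Commute x (D.X a b s) := fun {x a b} hab h s => by
    have := h (sg a b * s)
    rwa [X_alias D hab, ← mul_assoc, sg_sq, one_mul] at this
  have sh : ∀ {p q b : Idx (m + 2)}, p ≠ q → p ≠ b → b ≠ bar q → ∀ r s : F, Commute (D.X p q r) (D.X p b s) := by
    intro p q b h h' h'' r s
    by_cases e : q = b
    · subst e; rw [Commute, SemiconjBy, ← X_addD D h, ← X_addD D h, add_comm]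
    · exact share D h h' e h'' r s
  by_cases s1 : a = p
  · subst s1; exact sh hpq hab (fun e => c2 (by rw [e, bar_bar])) r s
  by_cases s2 : bar b = p
  · subst s2
    exact alias_comm hab (fun s => sh hpq (fun e => hab (bar_inj.mp e).symm) (fun e => c1 (bar_inj.mp e)) r s) s
  by_cases s3 : b = q
  · subst s3
    have e : D.X p b r = D.X (bar b) (bar p) (sg p b * r) := by
      rw [X_alias D hpq, ← mul_assoc, sg_sq, one_mul]
    rw [e]
    exact alias_comm hab (fun s => sh (fun e => hpq (bar_inj.mp e).symm) (fun e => hab (bar_inj.mp e).symm)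
      (fun e => c4 (by rw [e, bar_bar])) _ s) s
  by_cases s4 : bar a = q
  · subst s4
    have e : D.X p (bar a) r = D.X (bar (bar a)) (bar p) (sg p (bar a) * r) := by
      rw [X_alias D hpq, ← mul_assoc, sg_sq, one_mul]
    rw [e, bar_bar]
    exact sh (fun e => c4 (by rw [e, bar_bar])) hab (fun e => c3 (by rw [e, bar_bar])) _ s
  refine disjoint D hpq hab ?_ ?_ ?_ ?_ r s <;> intro e <;> rcases idx_cases e with e | e
  exacts [s1 e.symm, c4 e.symm, c3 e.symm, s2 e.symm, c1 e.symm, s4 e.symm, s3 e.symm, c2 e.symm]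

theorem h_long (i : Fin (m + 2)) {s : F} (hs : s ≠ 0) :
    D.wt (Sum.inl i) (Sum.inr i) s * (D.wt (Sum.inl i) (Sum.inr i) 1)⁻¹ = D.hl i (Units.mk0 s hs) := by
  rw [wt_ll D i hs, wt_ll D i one_ne_zero, show (Units.mk0 (1 : F) one_ne_zero : Fˣ) = 1 from Units.ext rfl,
    Gens.hl, Gens.hl, d_one, map_one, one_mul, mul_inv_cancel_right]

/-- the long torus -/
def Gens.T0 : Subgroup H := Subgroup.closure {g | ∃ (i : Fin (m + 2)) (t : Fˣ), g = D.hl i t}

theorem hl_mem (i : Fin (m + 2)) (t : Fˣ) : D.hl i t ∈ D.T0 := Subgroup.subset_closure ⟨i, t, rfl⟩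

theorem W_T0 (k : Fin (m + 2)) : ∀ g ∈ D.T0, D.W k * g * (D.W k)⁻¹ ∈ D.T0 := by
  intro g hg
  induction hg using Subgroup.closure_induction with
  | mem x hx =>
    obtain ⟨i, t, rfl⟩ := hx
    by_cases h : i = k
    · subst h; rw [W_hl]; exact hl_mem D _ _
    · rw [show D.W k * D.hl i t * (D.W k)⁻¹ = D.hl i t from fix_comm (Li_comm D (Ne.symm h) _ _)]
      exact hl_mem D _ _
  | one => simp
  | mul x y _ _ hx hy =>
    rw [show D.W k * (x * y) * (D.W k)⁻¹ = (D.W k * x * (D.W k)⁻¹) * (D.W k * y * (D.W k)⁻¹) by group]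
    exact Subgroup.mul_mem _ hx hy
  | inv x _ hx =>
    rw [show D.W k * x⁻¹ * (D.W k)⁻¹ = (D.W k * x * (D.W k)⁻¹)⁻¹ by group]
    exact Subgroup.inv_mem _ hx

theorem h_mem_T0 (p q : Idx (m + 2)) (hpq : p ≠ q) {t : F} (ht : t ≠ 0) :
    D.wt p q t * (D.wt p q 1)⁻¹ ∈ D.T0 := by
  have hs : ∀ i j : Fin (m + 2), i ≠ j → ∀ a b : F, a ≠ 0 → b ≠ 0 →
      D.σ (om i j a) * (D.σ (om i j b))⁻¹ ∈ D.T0 := by
    intro i j h a b ha hb
    rw [← map_inv, ← map_mul, hh_ratio h ha hb]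
    have := hh_split D h (Units.mk0 (a / b) (div_ne_zero ha hb))
    rw [Units.val_mk0] at this
    rw [this]; exact Subgroup.mul_mem _ (hl_mem D _ _) (hl_mem D _ _)
  have om_eq : ∀ i j : Fin (m + 2), ∀ s : F, D.σ (om i j s) = D.wt (Sum.inl i) (Sum.inl j) s := fun i j s => by
    simp only [om, map_mul]; rfl
  rcases p with i | i <;> rcases q with j | j
  · rw [← om_eq, ← om_eq]; exact hs i j (fun e => hpq (congrArg _ e)) t 1 ht one_ne_zero
  · by_cases h : i = j
    · subst h; rw [h_long D i ht]; exact hl_mem D _ _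
    · have e : ∀ s, D.wt (Sum.inl i) (Sum.inr j) s = D.W j * D.σ (om i j (-1 * s)) * (D.W j)⁻¹ := fun s => by
        rw [wt_conj D (D.W j) (Sum.inl i) (Sum.inl j) _ _ (-1) (fun r => by rw [(X_V D h r).1, neg_one_mul]; rfl)
          (fun r => by rw [(X_V D (Ne.symm h) r).2, neg_one_mul]; rfl) (by ring), om_eq]
      rw [e, e]
      have := W_T0 D j _ (hs i j h (-1 * t) (-1 * 1) (by simpa using ht) (by simp))
      convert this using 1; group
  · by_cases h : i = j
    · subst h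
      rw [wt_flip D Sum.inl_ne_inr ht, wt_flip D Sum.inl_ne_inr one_ne_zero]
      have h1 := h_long D i (neg_ne_zero.mpr (inv_ne_zero ht))
      have h2 := h_long D i (s := -(1 : F)⁻¹) (by simp)
      rw [show D.wt (Sum.inl i) (Sum.inr i) (-t⁻¹) * (D.wt (Sum.inl i) (Sum.inr i) (-(1 : F)⁻¹))⁻¹ =
        (D.wt (Sum.inl i) (Sum.inr i) (-t⁻¹) * (D.wt (Sum.inl i) (Sum.inr i) 1)⁻¹) *
        (D.wt (Sum.inl i) (Sum.inr i) (-(1 : F)⁻¹) * (D.wt (Sum.inl i) (Sum.inr i) 1)⁻¹)⁻¹ by group, h1, h2]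
      exact Subgroup.mul_mem _ (hl_mem D _ _) (Subgroup.inv_mem _ (hl_mem D _ _))
    · have e : ∀ s, D.wt (Sum.inr i) (Sum.inl j) s = D.W i * D.σ (om i j (-1 * s)) * (D.W i)⁻¹ := fun s => by
        rw [wt_conj D (D.W i) (Sum.inl i) (Sum.inl j) _ _ (-1) (fun r => by rw [(X_V D h r).2, neg_one_mul]; rfl)
          (fun r => by rw [(X_V D (Ne.symm h) r).1, neg_one_mul]; rfl) (by ring), om_eq]
      rw [e, e]
      have := W_T0 D i _ (hs i j h (-1 * t) (-1 * 1) (by simpa using ht) (by simp))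
      convert this using 1; group
  · have h : j ≠ i := fun e => hpq (congrArg _ e.symm)
    have e : ∀ s, D.wt (Sum.inr i) (Sum.inr j) s = D.σ (om j i (-1 * s)) := fun s => by
      rw [wt_conj D 1 (Sum.inl j) (Sum.inl i) (Sum.inr i) (Sum.inr j) (-1)
        (fun r => by rw [one_mul, inv_one, mul_one, neg_one_mul]; rfl)
        (fun r => by rw [one_mul, inv_one, mul_one, neg_one_mul]; rfl) (by ring), one_mul, inv_one, mul_one, ← om_eq]
    rw [e, e]
    exact hs j i h _ _ (by simpa using ht) (by simp)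

/-- the root datum -/
noncomputable def Gens.data : ShortPresCn.Data H (m + 2) F where
  X := D.X
  rank_one := rank_one D
  alias_eq p q h r := X_alias D h r
  act_w p q a b hpq hab t ht := scal D (act_wt D p q hpq ht) hab
  comm p q a b k h h' hk r s := by
    refine Subgroup.closure_mono ?_ (comm_pos D h h' hk r s)
    rintro _ ⟨x, y, t, e, -, rfl⟩
    exact ⟨x, y, e, t, rfl⟩
  h_split p q hpq t ht := by
    rw [show D.X p q t * D.X q p (-t⁻¹) * D.X p q t * (D.X p q 1 * D.X q p (-1) * D.X p q 1)⁻¹ =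
      D.wt p q t * (D.wt p q 1)⁻¹ by simp [Gens.wt]]
    refine (Subgroup.closure_le _).mpr ?_ (h_mem_T0 D p q hpq ht)
    rintro _ ⟨i, s, rfl⟩
    refine Subgroup.subset_closure ⟨i, s, s.ne_zero, ?_⟩
    have := h_long D i s.ne_zero
    rw [show Units.mk0 (s : F) s.ne_zero = s from Units.ext rfl] at this
    simpa [Gens.wt] using this.symm
  h_comm i j s t hs ht := by
    suffices Commute (D.wt (Sum.inl i) (Sum.inr i) s * (D.wt (Sum.inl i) (Sum.inr i) 1)⁻¹)
        (D.wt (Sum.inl j) (Sum.inr j) t * (D.wt (Sum.inl j) (Sum.inr j) 1)⁻¹) by simpa [Gens.wt] using this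
    rw [h_long D i hs, h_long D j ht]
    by_cases h : i = j
    · subst h
      show Commute (D.Li i _) (D.Li i _)
      refine Commute.map ?_ _
      rw [Commute, SemiconjBy, d_mul, d_mul, mul_comm]
    · exact Li_comm D h _ _
  π := D.π
  π_X := π_X D

/-- injectivity -/
theorem injective : Function.Injective D.π := by
  refine ShortPresCn.injective D.data ?_
  rw [eq_top_iff, ← D.gen, sup_le_iff]
  set K := Subgroup.closure {g | ∃ p q : Idx (m + 2), p ≠ q ∧ ∃ r, g = D.data.X p q r}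
  constructor
  · suffices K.comap D.σ = ⊤ by
      rintro _ ⟨x, rfl⟩
      exact (this ▸ Subgroup.mem_top x : x ∈ K.comap D.σ)
    have : Nontrivial (Fin (m + 2)) := inferInstance
    refine PSLSimple.eq_top_of_transvection_mem _ fun i j hij r => ?_
    have et : Matrix.SpecialLinearGroup.transvection hij r = tv i j r := by rw [tv, dif_pos hij]
    rw [et]
    exact Subgroup.subset_closure ⟨Sum.inl i, Sum.inl j, by simpa using hij, r, rfl⟩
  · suffices K.comap D.L = ⊤ by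
      rintro _ ⟨x, rfl⟩
      exact (this ▸ Subgroup.mem_top x : x ∈ K.comap D.L)
    refine sl2_top' _ (fun r => ?_) fun r => ?_
    · exact Subgroup.subset_closure ⟨Sum.inl 0, Sum.inr 0, by simp, r, by
        simp [Gens.data, X_ll, Li_zero]⟩
    · exact Subgroup.subset_closure ⟨Sum.inr 0, Sum.inl 0, by simp, r, by
        simp [Gens.data, X_ll, Li_zero]⟩

end Cfsg.Agent.ShortPresSpCore
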