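import Cfsg.Agent.Lib.ShortPresSL
import Cfsg.Agent.Lib.Dickson

/-!
An element that generates `SL(2, F)` together with its inverse transpose.
-/

set_option autoImplicit false

namespace Cfsg.Agent.ShortPresTransGen

open ShortPresSL PSL2Elements SL2PresData
open scoped MatrixGroups
open Matrix.ProjGenLinGroup (mk)
open Matrix.SpecialLinearGroup (toPGL toGL)

variable {F : Type*} [Field F]

/-- inverse transposition -/
def itAut : SL(2, F) →* SL(2, F) where
  toFun g := mk2 (g.1 1 1) (-g.1 1 0) (-g.1 0 1) (g.1 0 0) (by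
    have := det_eq g; linear_combination this)
  map_one' := by apply ext2 <;> simp
  map_mul' g g' := by apply ext2 <;> simp [mul_apply2] <;> ring

theorem itAut_u (r : F) : itAut (u r) = lo (-r) := by
  apply ext2 <;> simp [itAut, u, lo]

/-- a conjugate of the torus generator -/
def elt (ζ : Fˣ) : SL(2, F) := mk2 ζ (1 - (ζ : F) ^ 2) 0 (ζ⁻¹ : Fˣ) (by simp)

theorem elt_conj (ζ : Fˣ) : elt ζ = u (ζ : F) * d ζ * (u (ζ : F))⁻¹ := by
  rw [eq_mul_inv_iff_mul_eq]
  have := ζ.ne_zero
  apply ext2 <;> simp [elt, u, d, mul_apply2] <;> field_simp <;> ring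

theorem toPGL_eq_one {A : SL(2, F)} (h : toPGL A = 1) :
    A.1 0 1 = 0 ∧ A.1 1 0 = 0 ∧ A.1 0 0 = A.1 1 1 := by
  rw [← MonoidHom.mem_ker, Matrix.SpecialLinearGroup.toPGL_ker, Matrix.SpecialLinearGroup.mem_center_iff] at h
  obtain ⟨r, -, hr⟩ := h
  rw [← hr]
  simp

/-- the orders in the projective group -/
theorem order_elt (ζ : Fˣ) : orderOf (toPGL (elt ζ)) = orderOf (ζ ^ 2) := by
  rw [orderOf_eq_orderOf_iff]
  intro k
  rw [← map_pow, elt_conj, conj_pow, map_mul, map_mul, map_inv, conj_eq_one_iff,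
    show d ζ ^ k = d (ζ ^ k) from (map_pow dHom ζ k).symm, ← pow_mul, mul_comm 2 k, pow_mul]
  constructor
  · intro h
    have h1 : ((ζ ^ k : Fˣ) : F) = ((ζ ^ k)⁻¹ : Fˣ) := by simpa [d] using (toPGL_eq_one h).2.2
    rw [Units.val_inj] at h1
    rw [sq]
    exact eq_inv_iff_mul_eq_one.mp h1
  · intro h
    rw [← MonoidHom.mem_ker, Matrix.SpecialLinearGroup.toPGL_ker, Matrix.SpecialLinearGroup.mem_center_iff]
    refine ⟨((ζ ^ k : Fˣ) : F), ?_, ?_⟩
    · rw [Fintype.card_fin, ← Units.val_pow_eq_pow_val, h, Units.val_one]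
    · have h1 : (ζ ^ k)⁻¹ = ζ ^ k := inv_eq_of_mul_eq_one_left (by rw [← sq, h])
      ext i j
      fin_cases i <;> fin_cases j <;> simp [d, h1] <;>
        rw [← inv_pow, ← Units.val_inv_eq_inv_val, ← Units.val_pow_eq_pow_val, inv_pow, h1, Units.val_pow_eq_pow_val]

theorem four_ne {ζ : Fˣ} (h : 3 ≤ orderOf (ζ ^ 2)) : (ζ : F) ^ 4 ≠ 1 := fun h4 => by
  have : (ζ ^ 2) ^ 2 = 1 := Units.ext (by rw [← pow_mul]; simpa using h4)
  have := orderOf_le_of_pow_eq_one two_pos this
  omega

theorem y_ne {ζ : Fˣ} (h : 3 ≤ orderOf (ζ ^ 2)) : 1 - (ζ : F) ^ 2 ≠ 0 := fun e => four_ne h (by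
  rw [show (4 : ℕ) = 2 * 2 from rfl, pow_mul, ← sub_eq_zero.mp e, one_pow])

theorem not_commute {ζ : Fˣ} (h : 3 ≤ orderOf (ζ ^ 2)) :
    toPGL (elt ζ) * toPGL (itAut (elt ζ)) ≠ toPGL (itAut (elt ζ)) * toPGL (elt ζ) := by
  intro e
  have e' : toPGL ((itAut (elt ζ) * elt ζ)⁻¹ * (elt ζ * itAut (elt ζ))) = 1 := by
    rw [map_mul, map_inv, map_mul, map_mul, e, inv_mul_cancel]
  obtain ⟨e1, e2, e3⟩ := toPGL_eq_one e'
  set z := (itAut (elt ζ) * elt ζ)⁻¹ * (elt ζ * itAut (elt ζ)) with hz
  have hm : itAut (elt ζ) * elt ζ * z = elt ζ * itAut (elt ζ) := by rw [hz, mul_inv_cancel_left]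
  have h01 := congrArg (fun A : SL(2, F) => A.1 0 1) hm
  have h10 := congrArg (fun A : SL(2, F) => A.1 1 0) hm
  simp [mul_apply2, elt, itAut, e1, e2, e3] at h01 h10
  have hy := y_ne h
  have hζ := ζ.ne_zero
  apply four_ne h
  field_simp at h01 h10
  rw [h01] at h10
  apply mul_left_cancel₀ hy
  first | linear_combination -h10 | linear_combination h10

theorem sq_ne {ζ : Fˣ} (h : 3 ≤ orderOf (ζ ^ 2)) :
    toPGL (elt ζ) * toPGL (elt ζ) ≠ 1 ∧ toPGL (itAut (elt ζ)) * toPGL (itAut (elt ζ)) ≠ 1 := by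
  have hζ := ζ.ne_zero
  constructor <;> rw [← map_mul] <;> intro e <;> have := (toPGL_eq_one e).2.2 <;>
    simp [mul_apply2, elt, itAut] at this <;> field_simp at this <;> exact four_ne h (by first | linear_combination this | linear_combination -this)

theorem not_fixed {ζ : Fˣ} (h : 3 ≤ orderOf (ζ ^ 2)) (x : OnePoint F) (h1 : toPGL (elt ζ) • x = x)
    (h2 : toPGL (itAut (elt ζ)) • x = x) : False := by
  classical
  rw [Matrix.SpecialLinearGroup.toPGL, MonoidHom.comp_apply, Matrix.ProjGenLinGroup.mk_smul] at h1 h2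
  have hζ := ζ.ne_zero
  have hy := y_ne h
  cases x with
  | infty =>
    rw [OnePoint.smul_infty_eq_self_iff] at h2
    simp [elt, itAut] at h2
    exact hy (by first | exact h2 | linear_combination -h2)
  | coe z =>
    rw [OnePoint.smul_some_eq_ite] at h1 h2
    simp [elt, hζ] at h1
    split_ifs at h2 with h0
    · exact OnePoint.infty_ne_coe z h2
    simp [elt, itAut] at h2 h0
    field_simp at h1
    have hz : z = ζ := by
      apply mul_left_cancel₀ hy
      linear_combination -h1
    subst hz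
    rw [div_eq_iff h0] at h2
    field_simp at h2
    exact four_ne h (by linear_combination -h2)

/-- traces modulo scalars -/
theorem tr_sq_mem (R : Subfield F) (c : Matrix.ProjGenLinGroup (Fin 2) F) (A : SL(2, F))
    (h : c * toPGL A * c⁻¹ ∈ (Matrix.ProjGenLinGroup.map (n := Fin 2) R.subtype).range) :
    tr A ^ 2 ∈ R := by
  induction c using Matrix.ProjGenLinGroup.induction_on with
  | mk C =>
  obtain ⟨M, hM⟩ := h
  induction M using Matrix.ProjGenLinGroup.induction_on with
  | mk M =>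
  rw [Matrix.ProjGenLinGroup.map_mk, show toPGL A = mk (toGL A) from rfl, ← map_inv, ← map_mul, ← map_mul,
    eq_comm, Matrix.ProjGenLinGroup.mk_eq_mk_iff] at hM
  obtain ⟨v, hv⟩ := hM
  have hd := congrArg (fun g : GL (Fin 2) F => g.1.det) hv
  have ht := congrArg (fun g : GL (Fin 2) F => g.1.trace) hv
  have hC : (C : Matrix (Fin 2) (Fin 2) F).det * ((C⁻¹ : GL (Fin 2) F) : Matrix (Fin 2) (Fin 2) F).det = 1 := by
    rw [← Matrix.det_mul, ← Units.val_mul, mul_inv_cancel, Units.val_one, Matrix.det_one]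
  have hs : ((C * toGL A * C⁻¹ * Matrix.GeneralLinearGroup.scalar (Fin 2) v : GL (Fin 2) F) : Matrix (Fin 2) (Fin 2) F) =
      (v : F) • ((C : Matrix (Fin 2) (Fin 2) F) * A.1 * ((C⁻¹ : GL (Fin 2) F) : Matrix (Fin 2) (Fin 2) F)) := by
    simp [← Matrix.smul_eq_mul_diagonal]
  simp only [hs] at hd ht
  rw [Matrix.det_smul, Matrix.det_mul, Matrix.det_mul, A.2, mul_one, hC, mul_one, Fintype.card_fin] at hd
  rw [Matrix.trace_smul, Matrix.trace_mul_cycle, ← Units.val_mul, inv_mul_cancel, Units.val_one, one_mul,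
    ← tr_eq, smul_eq_mul] at ht
  have mt : (Matrix.GeneralLinearGroup.map R.subtype M).1.trace ∈ R := by
    rw [Matrix.trace_fin_two]; exact R.add_mem (M.1 0 0).2 (M.1 1 1).2
  have md : (Matrix.GeneralLinearGroup.map R.subtype M).1.det ∈ R := by
    rw [Matrix.det_fin_two]; exact R.sub_mem (R.mul_mem (M.1 0 0).2 (M.1 1 1).2) (R.mul_mem (M.1 0 1).2 (M.1 1 0).2)
  rw [← hd] at md
  rw [← ht] at mt
  have : tr A ^ 2 = ((v : F) * tr A) ^ 2 / (v : F) ^ 2 := by
    rw [mul_pow, mul_div_cancel_left₀]; exact pow_ne_zero _ v.ne_zero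
  rw [this]
  exact R.div_mem (pow_mem mt 2) md

variable [Fintype F]

theorem four_orders : ∀ g : alternatingGroup (Fin 4), g ^ 2 = 1 ∨ g ^ 3 = 1 := by decide

theorem perm_four_orders : ∀ g : Equiv.Perm (Fin 4), g ^ 4 = 1 ∨ g ^ 3 = 1 := by decide +kernel

theorem five_orders : ∀ g : alternatingGroup (Fin 5), g ^ 2 = 1 ∨ g ^ 3 = 1 ∨ g ^ 5 = 1 := by decide +kernel

/-- the prime case -/
theorem prime_case {p : ℕ} [Fact p.Prime] [CharP F p] (hcard : Fintype.card F = p) :
    Subgroup.closure ({u 1, itAut (u 1)} : Set SL(2, F)) = ⊤ := by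
  set K := Subgroup.closure ({u 1, itAut (u 1)} : Set SL(2, F))
  have hu : u 1 ∈ K := Subgroup.subset_closure (Or.inl rfl)
  have hl : itAut (u 1) ∈ K := Subgroup.subset_closure (Or.inr rfl)
  have hn : ∀ x : F, ∃ k : ℕ, (k : F) = x := fun x => by
    obtain ⟨z, rfl⟩ := ((Fintype.bijective_iff_injective_and_card (ZMod.castHom (dvd_refl p) F)).mpr
      ⟨ZMod.castHom_injective F, by rw [ZMod.card, hcard]⟩).2 x
    exact ⟨z.val, by simp⟩
  have hk : ∀ k : ℕ, u (k : F) = u 1 ^ k := fun k => by
    induction k with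
    | zero => rw [Nat.cast_zero, u_zero, pow_zero]
    | succ k ih => rw [Nat.cast_succ, ← u_mul, ih, pow_succ]
  refine sl2_top' K (fun r => ?_) fun r => ?_ <;> obtain ⟨k, rfl⟩ := hn r
  · rw [hk]; exact K.pow_mem hu k
  · have : lo (k : F) = (itAut (u (k : F)))⁻¹ := by
      rw [← map_inv, show (u (k : F))⁻¹ = u (-(k : F)) from inv_eq_of_mul_eq_one_right (by rw [u_mul, add_neg_cancel, u_zero]),
        itAut_u, neg_neg]
    rw [this, hk, map_pow]; exact K.inv_mem (K.pow_mem hl k)

theorem big_case {p : ℕ} [Fact p.Prime] [CharP F p] {e : ℕ} (he : 2 ≤ e) (hcard : Fintype.card F = p ^ e)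
    {ζ : Fˣ} (hζ : ∀ y, y ∈ Subgroup.zpowers ζ) :
    Subgroup.closure ({elt ζ, itAut (elt ζ)} : Set SL(2, F)) = ⊤ := by
  classical
  have hp : p.Prime := Fact.out
  have hp2 := hp.two_le
  have hq4 : 4 ≤ Fintype.card F := by
    rw [hcard]
    calc 4 = 2 ^ 2 := rfl
      _ ≤ p ^ 2 := Nat.pow_le_pow_left hp2 _
      _ ≤ p ^ e := Nat.pow_le_pow_right hp.pos he
  have ho : orderOf ζ = Fintype.card F - 1 := orderOf_gen hζ
  set n := orderOf (ζ ^ 2) with hn
  have hn2 : n = (Fintype.card F - 1) / Nat.gcd (Fintype.card F - 1) 2 := by rw [hn, orderOf_pow, ho]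
  have hnodd : p = 2 → n = Fintype.card F - 1 := fun h => by
    have : Even (Fintype.card F) := by rw [hcard, h]; exact Nat.even_pow.mpr ⟨even_two, by omega⟩
    obtain ⟨k, hk⟩ := this
    have : Nat.Coprime (Fintype.card F - 1) 2 := Nat.coprime_two_right.mpr ⟨k - 1, by omega⟩
    rw [hn2, this.gcd_eq_one, Nat.div_one]
  have hq9 : p ≠ 2 → Fintype.card F = 9 ∧ p = 3 ∨ 25 ≤ Fintype.card F := fun h => by
    rw [hcard]
    by_cases h3 : p = 3
    · subst h3
      rcases Nat.lt_or_ge e 3 with h' | h'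
      · left; rw [show e = 2 by omega]; simp
      · right; exact le_trans (by norm_num) (Nat.pow_le_pow_right (by norm_num) h')
    · right
      have : 5 ≤ p := by
        by_contra h5
        interval_cases p <;> simp_all (config := { decide := true })
      exact le_trans (Nat.pow_le_pow_left this 2) (Nat.pow_le_pow_right hp.pos he)
  have h2n : Fintype.card F - 1 ≤ 2 * n := by
    have hd : Nat.gcd (Fintype.card F - 1) 2 ∣ 2 := Nat.gcd_dvd_right _ _
    have hd' : Nat.gcd (Fintype.card F - 1) 2 ∣ Fintype.card F - 1 := Nat.gcd_dvd_left _ _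
    rcases (Nat.dvd_prime Nat.prime_two).mp hd with h | h <;> rw [h] at hd' hn2 <;> omega
  have hn3 : 3 ≤ n := by
    by_cases h : p = 2
    · have := hnodd h; omega
    · rcases hq9 h with ⟨h', -⟩ | h' <;> omega
  set K := Subgroup.closure ({elt ζ, itAut (elt ζ)} : Set SL(2, F))
  set J := K.map (toPGL (n := Fin 2) (R := F)) with hJ
  have haJ : toPGL (elt ζ) ∈ J := ⟨_, Subgroup.subset_closure (Or.inl rfl), rfl⟩
  have hbJ : toPGL (itAut (elt ζ)) ∈ J := ⟨_, Subgroup.subset_closure (Or.inr rfl), rfl⟩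
  have hnc := not_commute hn3
  have ncm : (⟨_, haJ⟩ : J) * ⟨_, hbJ⟩ ≠ ⟨_, hbJ⟩ * ⟨_, haJ⟩ := fun e => hnc (congrArg Subtype.val e)
  have hord : orderOf (⟨_, haJ⟩ : J) = n := by rw [← Subgroup.orderOf_coe]; exact order_elt ζ
  -- an exponent of an image
  have hexp : ∀ {X : Type} [Group X] (_ : J ≃* X) (k : X → Prop),
      (∀ x, k x) → ∃ x : X, orderOf x = n ∧ k x := fun {X} _ f k hk =>
    ⟨f ⟨_, haJ⟩, by rw [MulEquiv.orderOf_eq, hord], hk _⟩
  have hJr : J ≤ (toPGL (n := Fin 2) (R := F)).range := by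
    rw [hJ]; exact Subgroup.map_le_range _ _
  have hfull : J = (toPGL (n := Fin 2) (R := F)).range := by
    rcases Dickson.dickson_pgl_strong p J with ⟨hc, -⟩ | ⟨x, hx, -⟩ | ⟨C, -, -, -, -, ⟨f⟩⟩ | ⟨hnd, ⟨f⟩⟩ |
      ⟨hnd, ⟨f⟩⟩ | ⟨hnd, ⟨f⟩⟩ | ⟨R, hR3, ⟨c, hc⟩, hiso⟩
    · exact absurd (IsCyclic.commutative.is_comm.comm _ _) ncm
    · exact (not_fixed hn3 x (hx haJ) (hx hbJ)).elim
    · refine absurd (f.injective ?_) ncm
      have hr : ∀ y : J, y * y ≠ 1 → ∃ i, f y = DihedralGroup.r i := fun y hy => by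
        rcases hfy : f y with i | i
        · exact ⟨i, rfl⟩
        · exact absurd (f.injective (by rw [map_mul, hfy, DihedralGroup.sr_mul_self, map_one])) hy
      obtain ⟨i, hi⟩ := hr ⟨_, haJ⟩ fun e => (sq_ne hn3).1 (congrArg Subtype.val e)
      obtain ⟨j, hj⟩ := hr ⟨_, hbJ⟩ fun e => (sq_ne hn3).2 (congrArg Subtype.val e)
      rw [map_mul, map_mul, hi, hj, DihedralGroup.r_mul_r, DihedralGroup.r_mul_r, add_comm]
    · exfalso
      rw [Nat.card_congr f.toEquiv, Nat.card_eq_fintype_card,
        show Fintype.card (alternatingGroup (Fin 4)) = 12 from rfl] at hnd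
      obtain ⟨x, hx, h⟩ := hexp f _ four_orders
      have : n ≤ 3 := by
        rcases h with h | h <;> have := orderOf_le_of_pow_eq_one (by norm_num) h <;> omega
      by_cases h2 : p = 2
      · exact hnd (h2 ▸ by norm_num)
      · rcases hq9 h2 with ⟨h', -⟩ | h' <;> omega
    · exfalso
      rw [Nat.card_congr f.toEquiv, Nat.card_eq_fintype_card,
        show Fintype.card (Equiv.Perm (Fin 4)) = 24 from rfl] at hnd
      obtain ⟨x, hx, h⟩ := hexp f _ perm_four_orders
      have : n ≤ 4 := by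
        rcases h with h | h <;> have := orderOf_le_of_pow_eq_one (by norm_num) h <;> omega
      by_cases h2 : p = 2
      · exact hnd (h2 ▸ by norm_num)
      · rcases hq9 h2 with ⟨-, h'⟩ | h'
        · exact hnd (h' ▸ by norm_num)
        · omega
    · exfalso
      rw [Nat.card_congr f.toEquiv, Nat.card_eq_fintype_card,
        show Fintype.card (alternatingGroup (Fin 5)) = 60 from rfl] at hnd
      obtain ⟨x, hx, h⟩ := hexp f _ five_orders
      by_cases h2 : p = 2
      · subst h2
        exact hnd.elim (fun h' => h' (by norm_num)) (by norm_num)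
      · have : n = 2 ∨ n = 3 ∨ n = 5 := by
          rcases h with h | h | h <;> have := orderOf_dvd_of_pow_eq_one h <;> rw [hx] at this
          · exact Or.inl ((Nat.prime_dvd_prime_iff_eq (by
              rcases (Nat.dvd_prime Nat.prime_two).mp this with h | h <;> [omega; exact h ▸ Nat.prime_two])
              Nat.prime_two).mp this)
          · rcases (Nat.dvd_prime Nat.prime_three).mp this with h | h <;> omega
          · rcases (Nat.dvd_prime Nat.prime_five).mp this with h | h <;> omega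
        rcases hq9 h2 with ⟨h', -⟩ | h'
        · have : n = 4 := by rw [hn2, h']; rfl
          omega
        · omega
    · -- the subfield case
      set r := Nat.card R with hr
      have hmem : ∀ A ∈ K, tr A ^ 2 ∈ R := fun A hA =>
        tr_sq_mem R c A (hc ⟨toPGL A, ⟨A, hA, rfl⟩, rfl⟩)
      by_cases hm : r = Nat.card F
      · refine Subgroup.eq_of_le_of_card_ge hJr ?_
        have hcr : Nat.card (toPGL (n := Fin 2) (R := F)).range =
            Nat.card (Matrix.ProjectiveSpecialLinearGroup (Fin 2) F) :=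
          Nat.card_congr ((QuotientGroup.quotientKerEquivRange _).symm.trans
            (QuotientGroup.quotientMulEquivOfEq Matrix.SpecialLinearGroup.toPGL_ker)).toEquiv
        rw [hcr, PSLCard.card_PSL2]
        rcases hiso with ⟨⟨f⟩⟩ | ⟨-, ⟨f⟩⟩
        · rw [Nat.card_congr f.toEquiv, PSLCard.card_PGL2, ← hr, hm]; exact Nat.div_le_self _ _
        · rw [Nat.card_congr f.toEquiv, PSLCard.card_PSL2, ← hr, hm]
      · exfalso
        haveI : Fintype R := Fintype.ofFinite R
        haveI : CharP R p := (RingHom.charP_iff R.subtype R.subtype.injective p).mpr inferInstance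
        obtain ⟨j, -, hj⟩ := FiniteField.card R p
        have hfr : r ^ Module.finrank R F = Nat.card F :=
          (Module.natCard_eq_pow_finrank (K := R) (V := F)).symm
        have hsq : r ^ 2 ≤ Nat.card F := by
          rw [← hfr]
          refine Nat.pow_le_pow_right (by omega) ?_
          by_contra hlt
          have : Module.finrank R F = 1 := by have := Module.finrank_pos (R := R) (M := F); omega
          rw [this, pow_one] at hfr
          exact hm hfr
        rw [Nat.card_eq_fintype_card (α := F)] at hsq hfr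
        -- the ratio of the eigenvalues
        have hζ0 := ζ.ne_zero
        set w : F := (ζ : F) ^ 2 with hw
        have hw0 : w ≠ 0 := pow_ne_zero _ hζ0
        have hs : w + w⁻¹ ∈ R := by
          have := R.sub_mem (hmem _ (Subgroup.subset_closure (Or.inl rfl))) (R.add_mem R.one_mem R.one_mem)
          convert this using 1
          simp only [tr, elt, mk2_coe, w]
          simp
          field_simp
          ring
        have hrp : r = p ^ (j : ℕ) := by rw [hr, Nat.card_eq_fintype_card, hj]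
        have hfix : ∀ z ∈ R, z ^ r = z := fun z hz => by
          have := congrArg Subtype.val (FiniteField.pow_card (⟨z, hz⟩ : R))
          rwa [SubmonoidClass.coe_pow, ← Nat.card_eq_fintype_card] at this
        have hsr := hfix _ hs
        rw [hrp, add_pow_char_pow, ← hrp, inv_pow] at hsr
        have hz : (w ^ r - w) * (w ^ (r + 1) - 1) = 0 := by
          have hwr : w ^ r ≠ 0 := pow_ne_zero _ hw0
          field_simp at hsr
          rw [pow_succ]
          linear_combination hsr
        have hwn : ∀ k, w ^ k = 1 → n ∣ k := fun k hk =>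
          orderOf_dvd_of_pow_eq_one (Units.ext (by simpa [w] using hk))
        have hnr : n ≤ r + 1 := by
          rcases mul_eq_zero.mp hz with e | e
          · have : w ^ (r - 1) = 1 := by
              apply mul_right_cancel₀ hw0
              rw [← pow_succ, one_mul, Nat.sub_add_cancel (by omega)]
              exact sub_eq_zero.mp e
            have := Nat.le_of_dvd (by omega) (hwn _ this)
            omega
          · exact Nat.le_of_dvd (by omega) (hwn _ (sub_eq_zero.mp e))
        have hr3 : r = 3 := by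
          have : r ^ 2 ≤ 2 * r + 3 := by omega
          nlinarith
        have hq : Fintype.card F = 9 := by
          have hple : p ≤ 3 := by
            have : p ∣ r := by rw [hrp]; exact dvd_pow_self p j.pos.ne'
            exact hr3 ▸ Nat.le_of_dvd (by omega) this
          rcases hq9 (fun h2 => by
            have : 2 ∣ r := by rw [hrp, h2]; exact dvd_pow_self 2 j.pos.ne'
            omega) with ⟨h, -⟩ | h <;> omega
        have hp3 : p = 3 := by
          have : p ∣ r := by rw [hrp]; exact dvd_pow_self p j.pos.ne'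
          exact (Nat.prime_dvd_prime_iff_eq hp Nat.prime_three).mp (hr3 ▸ this)
        subst hp3
        have h3 : (3 : F) = 0 := by exact_mod_cast CharP.cast_eq_zero F 3
        have hn4 : n = 4 := by rw [hn2, hq]; rfl
        have hw2 : w * w = -1 := by
          have h4 : (w * w) * (w * w) = 1 := by
            have := congrArg Units.val (pow_orderOf_eq_one (ζ ^ 2))
            rw [← hn, hn4] at this
            simp only [Units.val_pow_eq_pow_val, Units.val_one, ← hw] at this
            linear_combination this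
          rcases mul_self_eq_one_iff.mp h4 with e | e
          · have := hwn 2 (by rw [sq, e])
            have := Nat.le_of_dvd two_pos this
            omega
          · exact e
        have hwR : w ∈ R := by
          have hab : elt ζ * itAut (elt ζ) ∈ K :=
            K.mul_mem (Subgroup.subset_closure (Or.inl rfl)) (Subgroup.subset_closure (Or.inr rfl))
          convert R.neg_mem (hmem _ hab) using 1
          simp [tr, elt, itAut, mul_apply2]
          field_simp
          rw [← hw]
          first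
            | linear_combination (1 - 4 * w + w ^ 2) * hw2 + 3 * w * h3
            | linear_combination (-(1 - 4 * w + w ^ 2)) * hw2 - 3 * w * h3
        have e3 := hfix _ hwR
        rw [hr3] at e3
        have := hwn 2 (mul_left_cancel₀ hw0 (by rw [mul_one]; linear_combination e3))
        have := Nat.le_of_dvd two_pos this
        omega
  -- commutators lie in the subgroup
  have hcomm : ∀ g h : SL(2, F), g * h * g⁻¹ * h⁻¹ ∈ K := by
    have dec : ∀ g : SL(2, F), ∃ k ∈ K, ∃ z ∈ Subgroup.center SL(2, F), g = k * z := fun g => by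
      obtain ⟨k, hk, he⟩ : toPGL g ∈ J := hfull ▸ ⟨g, rfl⟩
      refine ⟨k, hk, k⁻¹ * g, ?_, by rw [mul_inv_cancel_left]⟩
      rw [← Matrix.SpecialLinearGroup.toPGL_ker, MonoidHom.mem_ker, map_mul, map_inv, he, inv_mul_cancel]
    intro g h
    obtain ⟨k, hk, z, hz, rfl⟩ := dec g
    obtain ⟨k', hk', z', hz', rfl⟩ := dec h
    have e1 := Subgroup.mem_center_iff.mp hz
    have e2 := Subgroup.mem_center_iff.mp hz'
    have : k * z * (k' * z') * (k * z)⁻¹ * (k' * z')⁻¹ = k * k' * k⁻¹ * k'⁻¹ := by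
      calc k * z * (k' * z') * (k * z)⁻¹ * (k' * z')⁻¹
          = k * (z * k') * (z' * z⁻¹) * k⁻¹ * z'⁻¹ * k'⁻¹ := by group
        _ = k * (k' * z) * (z⁻¹ * z') * k⁻¹ * z'⁻¹ * k'⁻¹ := by rw [← e1 k', e2 z⁻¹]
        _ = k * k' * (z' * k⁻¹) * z'⁻¹ * k'⁻¹ := by group
        _ = k * k' * (k⁻¹ * z') * z'⁻¹ * k'⁻¹ := by rw [← e2 k⁻¹]
        _ = _ := by group
    rw [this]
    exact K.mul_mem (K.mul_mem (K.mul_mem hk hk') (K.inv_mem hk)) (K.inv_mem hk')
  have hy : (ζ : F) ^ 2 - 1 ≠ 0 := sub_ne_zero.mpr (fun e => y_ne hn3 (by rw [e, sub_self]))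
  have hus : ∀ s, u s = d ζ * u (s / ((ζ : F) ^ 2 - 1)) * (d ζ)⁻¹ * (u (s / ((ζ : F) ^ 2 - 1)))⁻¹ := fun s => by
    rw [d_conj_u, eq_mul_inv_iff_mul_eq, u_mul]
    congr 1
    field_simp
    ring
  refine sl2_top' K (fun s => hus s ▸ hcomm _ _) fun s => ?_
  rw [← neg_neg s, ← itAut_u, hus (-s)]
  simp only [map_mul, map_inv]
  exact hcomm _ _

/-- a single element generating with its swap -/
theorem exists_gen : ∃ a : SL(2, F), Subgroup.closure ({a, itAut a} : Set SL(2, F)) = ⊤ := by
  obtain ⟨p, hp⟩ := CharP.exists F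
  haveI : Fact p.Prime := ⟨CharP.char_is_prime F p⟩
  obtain ⟨e, -, he⟩ := FiniteField.card F p
  rcases Nat.lt_or_ge (e : ℕ) 2 with h | h
  · exact ⟨u 1, prime_case (by rw [he, show (e : ℕ) = 1 by have := e.pos; omega, pow_one])⟩
  · obtain ⟨ζ, hζ⟩ := IsCyclic.exists_generator (α := Fˣ)
    exact ⟨elt ζ, big_case h he hζ⟩

end Cfsg.Agent.ShortPresTransGen
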