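import Cfsg.Agent.Lib.ShortPresSL
import Cfsg.Agent.Lib.ShortPresSpCore
import Cfsg.Agent.Lib.ShortPresSpBlk
import Cfsg.Agent.Lib.ShortPresTransGen
import Cfsg.Agent.Lib.PSLSimple

/-!
Embeddings of `SL(a, F)` on a set of coordinates, monomial elements, and few generators of
`SL(r, F) × SL(2, F)` inside `SL(r + 2, F)`.
-/

set_option autoImplicit false
set_option backward.isDefEq.respectTransparency false

namespace Cfsg.Agent.ShortPresBlockEmb

open Matrix PSL2Elements ShortPresSL StemSLnTv ShortPresSpCore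
open scoped MatrixGroups

variable {F : Type*} [Field F]

section Gen
variable {n : ℕ}

theorem sl_le [Nontrivial (Fin n)] (K : Subgroup SL(n, F)) (h : ∀ i j, i ≠ j → ∀ r, tv i j r ∈ K) : K = ⊤ :=
  PSLSimple.eq_top_of_transvection_mem K fun i j hij c => by
    have := h i j hij c
    rwa [tv, dif_pos hij] at this

theorem sl_ext [Nontrivial (Fin n)] {G : Type*} [Group G] {f g : SL(n, F) →* G}
    (h : ∀ i j, i ≠ j → ∀ r, f (tv i j r) = g (tv i j r)) : f = g :=
  MonoidHom.ext fun x => (sl_le (f.eqLocus g) h ▸ Subgroup.mem_top x : x ∈ f.eqLocus g)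

theorem u_tv (r : F) : u r = tv (0 : Fin 2) 1 r := by
  apply ext2 <;> rw [tv_entry (by decide : (0 : Fin 2) ≠ 1)] <;> simp [u]

theorem lo_tv (r : F) : lo r = tv (1 : Fin 2) 0 r := by
  apply ext2 <;> rw [tv_entry (by decide : (1 : Fin 2) ≠ 0)] <;> simp [lo]

end Gen

section Emb
variable {a n : ℕ}

/-- the coordinates in the image first -/
noncomputable def coordEquiv (f : Fin a ↪ Fin n) : Fin a ⊕ {x : Fin n // x ∉ Set.range f} ≃ Fin n := by
  classical
  exact ((Equiv.ofInjective f f.injective).sumCongr (Equiv.refl _)).trans (Equiv.sumCompl (· ∈ Set.range f))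

theorem coordEquiv_inl (f : Fin a ↪ Fin n) (i : Fin a) : coordEquiv f (Sum.inl i) = f i := by
  simp [coordEquiv]

theorem coordEquiv_inr (f : Fin a ↪ Fin n) (x : {x : Fin n // x ∉ Set.range f}) :
    coordEquiv f (Sum.inr x) = x.1 := by
  simp [coordEquiv]

open Classical in
/-- `SL(a)` on the coordinates in the image -/
noncomputable def embI (f : Fin a ↪ Fin n) : SL(a, F) →* SL(n, F) where
  toFun g := ⟨Matrix.reindex (coordEquiv f) (coordEquiv f)
      (Matrix.fromBlocks g.1 0 0 (1 : Matrix {x : Fin n // x ∉ Set.range f} {x : Fin n // x ∉ Set.range f} F)), by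
    rw [Matrix.det_reindex_self, Matrix.det_fromBlocks_zero₂₁, g.2, Matrix.det_one, mul_one]⟩
  map_one' := Subtype.ext (by simp [StemSLnMat.val_one, Matrix.fromBlocks_one])
  map_mul' g g' := Subtype.ext (by
    simp only [Matrix.SpecialLinearGroup.coe_mul, Matrix.reindex_apply, Matrix.submatrix_mul_equiv,
      Matrix.fromBlocks_multiply, Matrix.mul_zero, Matrix.zero_mul, add_zero, zero_add, Matrix.one_mul])

theorem embI_tv (f : Fin a ↪ Fin n) {i j : Fin a} (hij : i ≠ j) (r : F) :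
    embI f (tv i j r) = tv (f i) (f j) r := by
  classical
  refine Subtype.ext (Matrix.ext fun x y => ?_)
  obtain ⟨s, rfl⟩ := (coordEquiv f).surjective x
  obtain ⟨t, rfl⟩ := (coordEquiv f).surjective y
  rw [tv_entry (f.injective.ne hij), ← coordEquiv_inl f i, ← coordEquiv_inl f j]
  simp only [(coordEquiv f).injective.eq_iff]
  rcases s with s | s <;> rcases t with t | t <;>
    simp [embI, tv_entry hij, Matrix.one_apply]

theorem embI_mem {K : Subgroup SL(n, F)} [Nontrivial (Fin a)] (f : Fin a ↪ Fin n)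
    (h : ∀ i j, i ≠ j → ∀ r, tv (f i) (f j) r ∈ K) (x : SL(a, F)) : embI f x ∈ K :=
  (sl_le (K.comap (embI f)) (fun i j hij r => by rw [Subgroup.mem_comap, embI_tv f hij]; exact h i j hij r) ▸
    Subgroup.mem_top x : x ∈ K.comap (embI f))

theorem embI_commute {b : ℕ} [Nontrivial (Fin a)] [Nontrivial (Fin b)] (f : Fin a ↪ Fin n) (g : Fin b ↪ Fin n)
    (hd : ∀ i j, f i ≠ g j) (x : SL(a, F)) (y : SL(b, F)) : Commute (embI f x) (embI g y) := by
  have : embI f x ∈ Subgroup.centralizer {embI g y} := by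
    refine embI_mem f (fun i j hij r => ?_) x
    rw [Subgroup.mem_centralizer_singleton_iff]
    have : embI g y ∈ Subgroup.centralizer {tv (f i) (f j) r} :=
      embI_mem g (fun k l hkl s => by
        rw [Subgroup.mem_centralizer_singleton_iff]
        exact (tv_commute (g.injective.ne hkl) (f.injective.ne hij) (hd i l).symm (hd j k).symm s r).eq) y
    rw [Subgroup.mem_centralizer_singleton_iff] at this
    exact this.symm
  rwa [Subgroup.mem_centralizer_singleton_iff] at this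

/-- two points as an embedding -/
def pair {i j : Fin n} (h : i ≠ j) : Fin 2 ↪ Fin n :=
  ⟨![i, j], fun x y e => by fin_cases x <;> fin_cases y <;> simp_all⟩

/-- `SL(2)` on two coordinates -/
noncomputable def J {i j : Fin n} (h : i ≠ j) : SL(2, F) →* SL(n, F) := embI (pair h)

theorem J_u {i j : Fin n} (h : i ≠ j) (r : F) : J h (u r) = tv i j r := by
  rw [u_tv, J, embI_tv _ (by decide)]; rfl

theorem J_lo {i j : Fin n} (h : i ≠ j) (r : F) : J h (lo r) = tv j i r := by
  rw [lo_tv, J, embI_tv _ (by decide)]; rfl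

theorem J_W {i j : Fin n} (h : i ≠ j) : J h SL2PresData.W = (om i j 1 : SL(n, F)) := by
  rw [W_eq, map_mul, map_mul, J_u, J_lo, om, inv_one]

theorem J_commute {i j k l : Fin n} (h : i ≠ j) (h' : k ≠ l) (h1 : i ≠ k) (h2 : i ≠ l) (h3 : j ≠ k) (h4 : j ≠ l)
    (x y : SL(2, F)) : Commute (J h x) (J h' y) :=
  embI_commute _ _ (fun s t => by fin_cases s <;> fin_cases t <;> simpa [pair]) x y

end Emb

section Mono
variable {n : ℕ}

/-- monomial with the permutation `σ` and the coefficients `c` -/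
def IsMono (g : SL(n, F)) (σ : Equiv.Perm (Fin n)) (c : Fin n → F) : Prop :=
  ∀ l x, g.1 *ᵥ Pi.single l x = Pi.single (σ l) (c l * x)

theorem isMono_one : IsMono (1 : SL(n, F)) 1 (fun _ => 1) := fun l x => by
  rw [show (1 : SL(n, F)).1 = 1 from rfl, Matrix.one_mulVec, one_mul]; rfl

theorem IsMono.mul {g h : SL(n, F)} {σ τ : Equiv.Perm (Fin n)} {c d : Fin n → F} (hg : IsMono g σ c)
    (hh : IsMono h τ d) : IsMono (g * h) (σ * τ) (fun l => c (τ l) * d l) := fun l x => by
  rw [coe_mulVec, hh, hg, Equiv.Perm.mul_apply, mul_assoc]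

theorem IsMono.coeff_ne {g : SL(n, F)} {σ : Equiv.Perm (Fin n)} {c : Fin n → F} (hg : IsMono g σ c) (l : Fin n) :
    c l ≠ 0 := fun h => by
  have e : (g⁻¹ * g).1 *ᵥ Pi.single l (1 : F) = Pi.single l 1 := by
    rw [inv_mul_cancel, show (1 : SL(n, F)).1 = 1 from rfl, Matrix.one_mulVec]
  rw [coe_mulVec, hg, h, zero_mul, Pi.single_zero, Matrix.mulVec_zero] at e
  simpa using congrFun e l

theorem IsMono.inv {g : SL(n, F)} {σ : Equiv.Perm (Fin n)} {c : Fin n → F} (hg : IsMono g σ c) :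
    IsMono g⁻¹ σ⁻¹ (fun l => (c (σ⁻¹ l))⁻¹) := fun l x => by
  have e := hg (σ⁻¹ l) ((c (σ⁻¹ l))⁻¹ * x)
  rw [← mul_assoc, mul_inv_cancel₀ (hg.coeff_ne _), one_mul, Equiv.Perm.inv_def, Equiv.apply_symm_apply] at e
  rw [← e, ← coe_mulVec, inv_mul_cancel, show (1 : SL(n, F)).1 = 1 from rfl, Matrix.one_mulVec,
    Equiv.Perm.inv_def]

theorem IsMono.conj_tv {g : SL(n, F)} {σ : Equiv.Perm (Fin n)} {c : Fin n → F} (hg : IsMono g σ c) {i j : Fin n}
    (hij : i ≠ j) (r : F) : g * tv i j r * g⁻¹ = tv (σ i) (σ j) (c i / c j * r) := by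
  rw [mul_inv_eq_iff_eq_mul]
  refine ext_single fun l x => ?_
  rw [coe_mulVec, coe_mulVec, hg, tv_single hij, tv_single (σ.injective.ne hij), Matrix.mulVec_add, hg]
  congr 1
  simp only [σ.injective.eq_iff]
  split_ifs with hl
  · rw [hg]; subst hl; congr 1; have := hg.coeff_ne l; field_simp
  · rw [Matrix.mulVec_zero]

theorem isMono_om {i j : Fin n} (hij : i ≠ j) {t : F} (ht : t ≠ 0) :
    IsMono (om i j t) (Equiv.swap i j) (fun l => if l = j then t else if l = i then -t⁻¹ else 1) := fun l x => by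
  rw [om_single hij ht]
  by_cases h1 : l = j
  · subst h1; simp
  by_cases h2 : l = i
  · subst h2; simp [h1]
  · simp [h1, h2, Equiv.swap_apply_of_ne_of_ne h2 h1]

/-- monomial lifts of permutations supported on a set -/
theorem exists_mono (K : Subgroup SL(n, F)) (S : Fin n → Prop) [DecidablePred S]
    (hK : ∀ i j, i ≠ j → S i → S j → om i j 1 ∈ K) (τ : Equiv.Perm {x // S x}) :
    ∃ g ∈ K, ∃ c, IsMono g (Equiv.Perm.ofSubtype τ) c := by
  induction τ using Equiv.Perm.swap_induction_on with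
  | one => exact ⟨1, K.one_mem, _, by rw [map_one]; exact isMono_one⟩
  | swap_mul f x y hxy ih =>
    obtain ⟨g, hg, c, hc⟩ := ih
    have hne : x.1 ≠ y.1 := fun e => hxy (Subtype.ext e)
    have h := (isMono_om hne one_ne_zero).mul hc
    rw [← Equiv.Perm.ofSubtype_swap_eq, ← map_mul] at h
    exact ⟨_, K.mul_mem (hK _ _ hne x.2 y.2) hg, _, h⟩

theorem exists_mono_all (σ : Equiv.Perm (Fin n)) : ∃ g : SL(n, F), ∃ c, IsMono g σ c := by
  induction σ using Equiv.Perm.swap_induction_on with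
  | one => exact ⟨1, _, isMono_one⟩
  | swap_mul f x y hxy ih =>
    obtain ⟨g, c, hc⟩ := ih
    exact ⟨_, _, (isMono_om hxy one_ne_zero).mul hc⟩

end Mono

section Block
variable (r : ℕ)

/-- the first coordinate of the last pair -/
def iP : Fin (r + 2) := Fin.natAdd r 0

/-- the second coordinate of the last pair -/
def iQ : Fin (r + 2) := Fin.natAdd r 1

theorem iPQ : iP r ≠ iQ r := by simp [iP, iQ, Fin.ext_iff]

theorem val_iP : (iP r).val = r := rfl

theorem val_iQ : (iQ r).val = r + 1 := rfl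

variable [Fact (2 ≤ r)]

instance nontrivial_fin : Nontrivial (Fin r) :=
  Fin.nontrivial_iff_two_le.mpr Fact.out

theorem low_commute (x : SL(r, F)) (y : SL(2, F)) : Commute (embI (Fin.castAddEmb 2) x) (J (iPQ r) y) :=
  embI_commute _ _ (fun i j => by
    have := i.isLt
    fin_cases j <;> simp [pair, iP, iQ, Fin.ext_iff] <;> omega) x y

/-- the block diagonal map -/
noncomputable def blkC : SL(r, F) × SL(2, F) →* SL(r + 2, F) :=
  MonoidHom.noncommCoprod (embI (Fin.castAddEmb 2)) (J (iPQ r)) (low_commute r)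

theorem blkC_low (x : SL(r, F)) : blkC r (x, 1) = embI (Fin.castAddEmb 2) x := by
  simp [blkC]

theorem blkC_pair (y : SL(2, F)) : blkC r (1, y) = J (iPQ r) y := by
  simp [blkC]

theorem tv_mem_range {i j : Fin (r + 2)} (hij : i ≠ j) (hi : i.val < r) (hj : j.val < r) (t : F) :
    tv i j t ∈ (blkC (F := F) r).range :=
  ⟨(tv ⟨i.val, hi⟩ ⟨j.val, hj⟩ t, 1), by
    rw [blkC_low, embI_tv _ (by simp [Fin.ext_iff]; exact fun e => hij (Fin.ext e))]
    rfl⟩

end Block

section Product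
variable [Fintype F]

/-- a product with few generators -/
theorem pair_gen {r : ℕ} (hr : 3 ≤ r) {x1 x2 : SL(r, F)} (hx : Subgroup.closure ({x1, x2} : Set SL(r, F)) = ⊤)
    {y1 y2 : SL(2, F)} (hy : Subgroup.closure ({y1, y2} : Set SL(2, F)) = ⊤) :
    Subgroup.closure ({(x1, y1), (x2, y2)} : Set (SL(r, F) × SL(2, F))) = ⊤ := by
  classical
  haveI : Nontrivial (Fin r) := Fin.nontrivial_iff_two_le.mpr (by omega)
  set H := Subgroup.closure ({(x1, y1), (x2, y2)} : Set (SL(r, F) × SL(2, F)))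
  have surj : ∀ x, ∃ y, (x, y) ∈ H := by
    have : H.map (MonoidHom.fst _ _) = ⊤ := by
      rw [MonoidHom.map_closure, Set.image_pair]; exact hx
    intro x
    obtain ⟨⟨a, b⟩, hab, e⟩ := (this ▸ Subgroup.mem_top x : x ∈ H.map (MonoidHom.fst _ _))
    exact ⟨b, by rw [← e]; exact hab⟩
  have surj2 : ∀ y, ∃ x, (x, y) ∈ H := by
    have : H.map (MonoidHom.snd _ _) = ⊤ := by
      rw [MonoidHom.map_closure, Set.image_pair]; exact hy
    intro y
    obtain ⟨⟨a, b⟩, hab, e⟩ := (this ▸ Subgroup.mem_top y : y ∈ H.map (MonoidHom.snd _ _))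
    exact ⟨a, by rw [← e]; exact hab⟩
  choose f hf using surj
  let N : Subgroup SL(r, F) := H.comap (MonoidHom.inl _ _)
  have hN : N.Normal := ⟨fun z hz g => by
    show ((g * z * g⁻¹, 1) : SL(r, F) × SL(2, F)) ∈ H
    have := H.mul_mem (H.mul_mem (hf g) hz) (H.inv_mem (hf g))
    simpa using this⟩
  have hsimple : IsSimpleGroup (Matrix.ProjectiveSpecialLinearGroup (Fin r) F) :=
    PSLSimple.isSimpleGroup_PSL (PSLSimple.commutator_SL_eq_top (by rw [Fintype.card_fin]; omega))
  let q := QuotientGroup.mk' (Subgroup.center SL(r, F))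
  have hNtop : N = ⊤ := by
    rcases (hN.map q (QuotientGroup.mk'_surjective _)).eq_bot_or_eq_top with h | h
    · exfalso
      rw [Subgroup.map_eq_bot_iff, QuotientGroup.ker_mk'] at h
      let i0 : Fin r := ⟨0, by omega⟩
      let i1 : Fin r := ⟨1, by omega⟩
      let i2 : Fin r := ⟨2, by omega⟩
      have n01 : i0 ≠ i1 := by simp [i0, i1]
      have n02 : i0 ≠ i2 := by simp [i0, i2]
      have n12 : i1 ≠ i2 := by simp [i1, i2]
      let U : F × F × F → SL(r, F) := fun z => tv i0 i1 z.1 * tv i0 i2 z.2.1 * tv i1 i2 z.2.2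
      have hU : ∀ z (w : Fin r → F), (U z).1 *ᵥ w =
          w + Pi.single i1 (z.2.2 * w i2) + Pi.single i0 (z.2.1 * w i2)
            + Pi.single i0 (z.1 * (w i1 + z.2.2 * w i2)) := fun z w => by
        simp only [U, coe_mulVec, tv_mulVec n01, tv_mulVec n02, tv_mulVec n12]
        simp [n01, n01.symm, n02, n02.symm, n12, n12.symm]
      have inj : Function.Injective fun z => f (U z) := by
        intro z z' e
        have hm : (U z)⁻¹ * U z' ∈ N := by
          show (((U z)⁻¹ * U z', 1) : SL(r, F) × SL(2, F)) ∈ H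
          have := H.mul_mem (H.inv_mem (hf (U z))) (hf (U z'))
          simp only [Prod.inv_mk, Prod.mk_mul_mk] at this
          simp only at e
          rwa [← e, inv_mul_cancel] at this
        obtain ⟨s, -, hs⟩ := Matrix.SpecialLinearGroup.mem_center_iff.mp (h hm)
        have key : ∀ w : Fin r → F, (U z').1 *ᵥ w = s • ((U z).1 *ᵥ w) := fun w => by
          have : (U z').1 = (U z).1 * ((U z)⁻¹ * U z').1 := by
            rw [← Matrix.SpecialLinearGroup.coe_mul, mul_inv_cancel_left]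
          rw [this, ← hs, Matrix.scalar_apply, ← Matrix.mulVec_mulVec]
          rw [show (Matrix.diagonal fun _ : Fin r => s) *ᵥ w = s • w by
            funext l; rw [Matrix.mulVec_diagonal]; rfl, Matrix.mulVec_smul]
        have a0 := congrFun (key (Pi.single i0 1)) i0
        have a1 := congrFun (key (Pi.single i1 1)) i0
        have a2 := congrFun (key (Pi.single i2 1)) i0
        have a3 := congrFun (key (Pi.single i2 1)) i1
        simp [hU, n01, n01.symm, n02, n02.symm, n12, n12.symm] at a0 a1 a2 a3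
        subst a0
        simp at a1 a2 a3
        ext <;> simp_all
      have hc := Nat.card_le_card_of_injective _ inj
      rw [PSLCard.card_SL2, Nat.card_prod, Nat.card_prod] at hc
      have h2 : Nat.card F ^ 2 - 1 < Nat.card F * Nat.card F := by
        rw [sq]; exact Nat.sub_lt (Nat.mul_pos Nat.card_pos Nat.card_pos) one_pos
      exact absurd hc (not_le.mpr (Nat.mul_lt_mul_of_pos_left h2 Nat.card_pos))
    · rw [eq_top_iff, ← PSLSimple.commutator_SL_eq_top (F := F) (ι := Fin r) (by rw [Fintype.card_fin]; omega),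
        commutator_eq_closure, Subgroup.closure_le]
      rintro _ ⟨x, y, rfl⟩
      obtain ⟨n1, h1, e1⟩ := (h ▸ Subgroup.mem_top (q x) : q x ∈ N.map q)
      obtain ⟨n2, h2, e2⟩ := (h ▸ Subgroup.mem_top (q y) : q y ∈ N.map q)
      obtain ⟨c1, hc1, rfl⟩ : ∃ c ∈ Subgroup.center SL(r, F), x = n1 * c :=
        ⟨n1⁻¹ * x, (QuotientGroup.eq).mp e1, by rw [mul_inv_cancel_left]⟩
      obtain ⟨c2, hc2, rfl⟩ : ∃ c ∈ Subgroup.center SL(r, F), y = n2 * c :=
        ⟨n2⁻¹ * y, (QuotientGroup.eq).mp e2, by rw [mul_inv_cancel_left]⟩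
      have k1 := Subgroup.mem_center_iff.mp hc1
      have k2 := Subgroup.mem_center_iff.mp hc2
      rw [commutatorElement_def, show n1 * c1 * (n2 * c2) * (n1 * c1)⁻¹ * (n2 * c2)⁻¹ = n1 * n2 * n1⁻¹ * n2⁻¹ by
        calc n1 * c1 * (n2 * c2) * (n1 * c1)⁻¹ * (n2 * c2)⁻¹
            = n1 * (c1 * n2) * (c2 * c1⁻¹) * n1⁻¹ * c2⁻¹ * n2⁻¹ := by group
          _ = n1 * (n2 * c1) * (c1⁻¹ * c2) * n1⁻¹ * c2⁻¹ * n2⁻¹ := by rw [k1 n2, k2 c1⁻¹]
          _ = n1 * n2 * (c2 * n1⁻¹) * c2⁻¹ * n2⁻¹ := by group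
          _ = n1 * n2 * (n1⁻¹ * c2) * c2⁻¹ * n2⁻¹ := by rw [k2 n1⁻¹]
          _ = _ := by group]
      exact N.mul_mem (N.mul_mem (N.mul_mem h1 h2) (N.inv_mem h1)) (N.inv_mem h2)
  rw [eq_top_iff]
  rintro ⟨x, y⟩ -
  obtain ⟨x', hx'⟩ := surj2 y
  have : ((x * x'⁻¹, 1) : SL(r, F) × SL(2, F)) ∈ H := (hNtop ▸ Subgroup.mem_top _ : x * x'⁻¹ ∈ N)
  have := H.mul_mem this hx'
  simpa using this

/-- two generators, three for `r = 2`, of `SL(r) × SL(2)` -/
theorem exists_gens {r : ℕ} (hr : 2 ≤ r) (a b : SL(2, F)) (hab : Subgroup.closure ({a, b} : Set SL(2, F)) = ⊤)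
    (w : SL(2, F)) (hw : w * a * w⁻¹ = b) :
    ∃ Y : List (SL(r, F) × SL(2, F)), Y.length ≤ (if r = 2 then 3 else 2) ∧
      Subgroup.closure {y | y ∈ Y} = ⊤ := by
  classical
  by_cases h : r = 2
  · subst h
    refine ⟨[(a, 1), (1, a), (w, w)], by simp, ?_⟩
    set H := Subgroup.closure {y | y ∈ [(a, 1), (1, a), (w, w)]}
    have m : ∀ y ∈ [(a, 1), (1, a), (w, w)], y ∈ H := fun y hy => Subgroup.subset_closure hy
    have h1 : ((a, 1) : SL(2, F) × SL(2, F)) ∈ H := m _ (by simp)
    have h2 : ((1, a) : SL(2, F) × SL(2, F)) ∈ H := m _ (by simp)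
    have h3 : ((w, w) : SL(2, F) × SL(2, F)) ∈ H := m _ (by simp)
    have h1' : ((b, 1) : SL(2, F) × SL(2, F)) ∈ H := by
      have := H.mul_mem (H.mul_mem h3 h1) (H.inv_mem h3)
      simpa [hw] using this
    have h2' : ((1, b) : SL(2, F) × SL(2, F)) ∈ H := by
      have := H.mul_mem (H.mul_mem h3 h2) (H.inv_mem h3)
      simpa [hw] using this
    have k1 : ∀ x, ((x, 1) : SL(2, F) × SL(2, F)) ∈ H := fun x => by
      have : Subgroup.closure ({a, b} : Set SL(2, F)) ≤ H.comap (MonoidHom.inl _ _) := by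
        rw [Subgroup.closure_le]; rintro y (rfl | rfl)
        exacts [h1, h1']
      exact this (hab ▸ Subgroup.mem_top x)
    have k2 : ∀ x, ((1, x) : SL(2, F) × SL(2, F)) ∈ H := fun x => by
      have : Subgroup.closure ({a, b} : Set SL(2, F)) ≤ H.comap (MonoidHom.inr _ _) := by
        rw [Subgroup.closure_le]; rintro y (rfl | rfl)
        exacts [h2, h2']
      exact this (hab ▸ Subgroup.mem_top x)
    rw [eq_top_iff]
    rintro ⟨x, y⟩ -
    simpa using H.mul_mem (k1 x) (k2 y)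
  · obtain ⟨x1, x2, hx⟩ := ShortPresSpBlk.sl_pair (F := F) r
    refine ⟨[(x1, a), (x2, b)], by simp [h], ?_⟩
    rw [← pair_gen (by omega) hx hab]
    congr 1
    ext; simp

end Product

end Cfsg.Agent.ShortPresBlockEmb
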