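import Cfsg.Agent.Lib.SL3PresModel
import Cfsg.Agent.Lib.StemSLnTv

/-!
A group generated by root elements, with a copy of `SL(3, F)` on every triple of indices and
commuting disjoint roots, maps injectively to `SL(n, F)`: induction on the index set with two charts.
-/

set_option autoImplicit false
set_option backward.isDefEq.respectTransparency false

namespace Cfsg.Agent.ShortPresChart

open SL3PresModel StemSLnTv
open scoped MatrixGroups

section Identities
variable {F : Type*} [Field F]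

/-- the Weyl element in the first two coordinates -/
def W3 : SL(3, F) := x01 1 * x10 (-1) * x01 1

/-- the torus element in the first two coordinates -/
def H3 (t : F) : SL(3, F) := x01 t * x10 (-t⁻¹) * x01 t * (x01 (-1) * x10 1 * x01 (-1))

theorem W3_coe : (W3 : SL(3, F)).1 = !![0, 1, 0; -1, 0, 0; 0, 0, 1] := by
  simp [W3, x01, x10, Matrix.SpecialLinearGroup.coe_mul, Matrix.mul_fin_three]

theorem H3_coe {t : F} (ht : t ≠ 0) : (H3 t).1 = !![t, 0, 0; 0, t⁻¹, 0; 0, 0, 1] := by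
  simp [H3, x01, x10, Matrix.SpecialLinearGroup.coe_mul, Matrix.mul_fin_three, ht]

theorem add3 (r s : F) : x01 (r + s) = x01 r * x01 s := by
  apply ext3 <;> simp [x01, mul_apply3, add_comm]

theorem W_12 (r : F) : W3 * x12 r = x02 r * (W3 : SL(3, F)) := by
  apply ext3 <;> simp [W3_coe, x12, x02, mul_apply3]
theorem W_02 (r : F) : W3 * x02 r = x12 (-r) * (W3 : SL(3, F)) := by
  apply ext3 <;> simp [W3_coe, x12, x02, mul_apply3]
theorem W_21 (r : F) : W3 * x21 r = x20 r * (W3 : SL(3, F)) := by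
  apply ext3 <;> simp [W3_coe, x21, x20, mul_apply3]
theorem W_20 (r : F) : W3 * x20 r = x21 (-r) * (W3 : SL(3, F)) := by
  apply ext3 <;> simp [W3_coe, x21, x20, mul_apply3]
theorem W_01 (r : F) : W3 * x01 r = x10 (-r) * (W3 : SL(3, F)) := by
  apply ext3 <;> simp [W3_coe, x01, x10, mul_apply3]
theorem W_10 (r : F) : W3 * x10 r = x01 (-r) * (W3 : SL(3, F)) := by
  apply ext3 <;> simp [W3_coe, x01, x10, mul_apply3]

theorem H_12 {t : F} (ht : t ≠ 0) (r : F) : H3 t * x12 r = x12 (t⁻¹ * r) * H3 t := by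
  apply ext3 <;> simp [H3_coe ht, x12, mul_apply3]
theorem H_02 {t : F} (ht : t ≠ 0) (r : F) : H3 t * x02 r = x02 (t * r) * H3 t := by
  apply ext3 <;> simp [H3_coe ht, x02, mul_apply3]
theorem H_21 {t : F} (ht : t ≠ 0) (r : F) : H3 t * x21 r = x21 (t * r) * H3 t := by
  apply ext3 <;> simp [H3_coe ht, x21, mul_apply3] <;> field_simp
theorem H_20 {t : F} (ht : t ≠ 0) (r : F) : H3 t * x20 r = x20 (t⁻¹ * r) * H3 t := by
  apply ext3 <;> simp [H3_coe ht, x20, mul_apply3] <;> field_simp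
theorem H_01 {t : F} (ht : t ≠ 0) (r : F) : H3 t * x01 r = x01 (t * t * r) * H3 t := by
  apply ext3 <;> simp [H3_coe ht, x01, mul_apply3] <;> field_simp
theorem H_10 {t : F} (ht : t ≠ 0) (r : F) : H3 t * x10 r = x10 (t⁻¹ * t⁻¹ * r) * H3 t := by
  apply ext3 <;> simp [H3_coe ht, x10, mul_apply3] <;> field_simp

theorem H_mul {s t : F} (hs : s ≠ 0) (ht : t ≠ 0) : H3 (s * t) = H3 s * H3 t := by
  apply ext3 <;> simp [H3_coe hs, H3_coe ht, H3_coe (mul_ne_zero hs ht), mul_apply3, mul_comm]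

theorem H_split {t : F} (ht : t ≠ 0) :
    (x02 t * x20 (-t⁻¹) * x02 t * (x02 (-1) * x20 1 * x02 (-1)) : SL(3, F)) =
      H3 t * (x12 t * x21 (-t⁻¹) * x12 t * (x12 (-1) * x21 1 * x12 (-1))) := by
  apply Subtype.ext
  simp [H3_coe ht, x02, x20, x12, x21, Matrix.SpecialLinearGroup.coe_mul, Matrix.mul_fin_three, ht]

theorem rank_one {r a : F} (hd : 1 + r * a ≠ 0) :
    x10 r * x01 a = x01 (a / (1 + r * a)) * H3 (1 + r * a)⁻¹ * x10 (r / (1 + r * a)) := by
  have h := inv_ne_zero hd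
  have hd' : 1 + a * r ≠ 0 := by rwa [mul_comm]
  apply ext3 <;> simp [H3_coe h, x01, x10, mul_apply3] <;> field_simp <;> ring

theorem rank_one_zero {a : F} (ha : a ≠ 0) : x10 (-a⁻¹) * x01 a = W3 * H3 a⁻¹ * x10 a⁻¹ := by
  apply ext3 <;> simp [W3_coe, H3_coe (inv_ne_zero ha), x01, x10, mul_apply3, ha]

theorem rank_one_W {b : F} (hb : b ≠ 0) : W3 * x01 b = x01 (-b⁻¹) * H3 (-b⁻¹) * x10 b⁻¹ := by
  apply ext3 <;> simp [W3_coe, H3_coe (neg_ne_zero.mpr (inv_ne_zero hb)), x01, x10, mul_apply3, hb]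

end Identities

/-- the data: root elements, triples, disjoint commutation, and the map to `SL(n, F)` -/
structure Data (G : Type) [Group G] (n : ℕ) (F : Type*) [Field F] where
  X : Fin n → Fin n → F → G
  three : 3 ≤ n
  comm : ∀ i j k l, i ≠ j → k ≠ l → i ≠ k → i ≠ l → j ≠ k → j ≠ l → ∀ r s, Commute (X i j r) (X k l s)
  triple : ∀ i j l, i ≠ j → j ≠ l → i ≠ l → ∃ θ : SL(3, F) →* G,
    (∀ r, θ (x01 r) = X i j r) ∧ (∀ r, θ (x10 r) = X j i r) ∧ (∀ r, θ (x12 r) = X j l r) ∧
      (∀ r, θ (x21 r) = X l j r) ∧ (∀ r, θ (x02 r) = X i l r) ∧ ∀ r, θ (x20 r) = X l i r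
  π : G →* SL(n, F)
  π_X : ∀ i j, i ≠ j → ∀ r, π (X i j r) = tv i j r

variable {G : Type} [Group G] {n : ℕ} {F : Type*} [Field F] (D : Data G n F)

/-- Weyl element -/
def Data.w (i j : Fin n) : G := D.X i j 1 * D.X j i (-1) * D.X i j 1

/-- torus element -/
def Data.h (i j : Fin n) (t : F) : G :=
  D.X i j t * D.X j i (-t⁻¹) * D.X i j t * (D.X i j (-1) * D.X j i 1 * D.X i j (-1))

theorem third (h3 : 3 ≤ n) (i j : Fin n) : ∃ l, l ≠ i ∧ l ≠ j := by
  by_contra h
  push Not at h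
  have : (Finset.univ : Finset (Fin n)) ⊆ {i, j} := fun l _ => by
    simp only [Finset.mem_insert, Finset.mem_singleton]
    exact (em (l = i)).imp id (h l)
  have := (Finset.card_le_card this).trans Finset.card_le_two
  rw [Finset.card_univ, Fintype.card_fin] at this
  omega

variable {i j l : Fin n}

theorem X_add (hij : i ≠ j) (r s : F) : D.X i j (r + s) = D.X i j r * D.X i j s := by
  obtain ⟨l, hli, hlj⟩ := third D.three i j
  obtain ⟨θ, a, -⟩ := D.triple i j l hij hlj.symm hli.symm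
  rw [← a, ← a, ← a, ← map_mul, add3]

theorem X_zero (hij : i ≠ j) : D.X i j 0 = 1 := by
  have := X_add D hij 0 0
  simpa using this

theorem X_inv (hij : i ≠ j) (r : F) : (D.X i j r)⁻¹ = D.X i j (-r) :=
  inv_eq_of_mul_eq_one_right (by rw [← X_add D hij, add_neg_cancel, X_zero D hij])

theorem bracket (hij : i ≠ j) (hjl : j ≠ l) (hil : i ≠ l) (r s : F) :
    D.X i j r * D.X j l s = D.X i l (r * s) * D.X j l s * D.X i j r := by
  obtain ⟨θ, a, -, b, -, c, -⟩ := D.triple i j l hij hjl hil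
  rw [← a, ← b, ← c, ← map_mul, ← map_mul, ← map_mul, comm_01_12]

theorem row (hij : i ≠ j) (hjl : j ≠ l) (hil : i ≠ l) (r s : F) : Commute (D.X i j r) (D.X i l s) := by
  obtain ⟨θ, a, -, -, -, c, -⟩ := D.triple i j l hij hjl hil
  show _ = _
  rw [← a, ← c, ← map_mul, ← map_mul, comm_01_02]

theorem col (hij : i ≠ j) (hjl : j ≠ l) (hil : i ≠ l) (r s : F) : Commute (D.X i l r) (D.X j l s) := by
  obtain ⟨θ, -, -, b, -, c, -⟩ := D.triple i j l hij hjl hil
  show _ = _
  rw [← b, ← c, ← map_mul, ← map_mul, comm_02_12]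

/-- the action of `w i j` and `h i j t` on the roots of a triple -/
theorem conj_triple (hij : i ≠ j) (hjl : j ≠ l) (hil : i ≠ l) :
    (∀ r, D.w i j * D.X j l r * (D.w i j)⁻¹ = D.X i l r) ∧
    (∀ r, D.w i j * D.X i l r * (D.w i j)⁻¹ = D.X j l (-r)) ∧
    (∀ r, D.w i j * D.X l j r * (D.w i j)⁻¹ = D.X l i r) ∧
    (∀ r, D.w i j * D.X l i r * (D.w i j)⁻¹ = D.X l j (-r)) ∧
    (∀ r, D.w i j * D.X i j r * (D.w i j)⁻¹ = D.X j i (-r)) ∧
    (∀ r, D.w i j * D.X j i r * (D.w i j)⁻¹ = D.X i j (-r)) ∧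
    ∀ t, t ≠ 0 → (∀ r, D.h i j t * D.X j l r * (D.h i j t)⁻¹ = D.X j l (t⁻¹ * r)) ∧
      (∀ r, D.h i j t * D.X i l r * (D.h i j t)⁻¹ = D.X i l (t * r)) ∧
      (∀ r, D.h i j t * D.X l j r * (D.h i j t)⁻¹ = D.X l j (t * r)) ∧
      (∀ r, D.h i j t * D.X l i r * (D.h i j t)⁻¹ = D.X l i (t⁻¹ * r)) ∧
      (∀ r, D.h i j t * D.X i j r * (D.h i j t)⁻¹ = D.X i j (t * t * r)) ∧
      ∀ r, D.h i j t * D.X j i r * (D.h i j t)⁻¹ = D.X j i (t⁻¹ * t⁻¹ * r) := by
  obtain ⟨θ, a, a', b, b', c, c'⟩ := D.triple i j l hij hjl hil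
  have ew : D.w i j = θ W3 := by simp only [Data.w, W3, map_mul, a, a']
  have eh : ∀ t, D.h i j t = θ (H3 t) := fun t => by simp only [Data.h, H3, map_mul, a, a']
  refine ⟨?_, ?_, ?_, ?_, ?_, ?_, fun t ht => ⟨?_, ?_, ?_, ?_, ?_, ?_⟩⟩ <;>
    intro r <;> rw [mul_inv_eq_iff_eq_mul] <;>
    simp only [ew, eh, ← a, ← a', ← b, ← b', ← c, ← c', ← map_mul]
  exacts [congrArg θ (W_12 r), congrArg θ (W_02 r), congrArg θ (W_21 r), congrArg θ (W_20 r),
    congrArg θ (W_01 r), congrArg θ (W_10 r), congrArg θ (H_12 ht r), congrArg θ (H_02 ht r),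
    congrArg θ (H_21 ht r), congrArg θ (H_20 ht r), congrArg θ (H_01 ht r), congrArg θ (H_10 ht r)]

theorem pair_ids (hij : i ≠ j) :
    (∀ s t, s ≠ 0 → t ≠ 0 → D.h i j (s * t) = D.h i j s * D.h i j t) ∧
    (∀ r a, 1 + r * a ≠ 0 → D.X j i r * D.X i j a =
      D.X i j (a / (1 + r * a)) * D.h i j (1 + r * a)⁻¹ * D.X j i (r / (1 + r * a))) ∧
    (∀ a, a ≠ 0 → D.X j i (-a⁻¹) * D.X i j a = D.w i j * D.h i j a⁻¹ * D.X j i a⁻¹) ∧
    ∀ b, b ≠ 0 → D.w i j * D.X i j b = D.X i j (-b⁻¹) * D.h i j (-b⁻¹) * D.X j i b⁻¹ := by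
  obtain ⟨l, hli, hlj⟩ := third D.three i j
  obtain ⟨θ, a, a', -⟩ := D.triple i j l hij hlj.symm hli.symm
  have ew : D.w i j = θ W3 := by simp only [Data.w, W3, map_mul, a, a']
  have eh : ∀ t, D.h i j t = θ (H3 t) := fun t => by simp only [Data.h, H3, map_mul, a, a']
  refine ⟨fun s t hs ht => ?_, fun r x h => ?_, fun x h => ?_, fun x h => ?_⟩ <;>
    simp only [ew, eh, ← a, ← a', ← map_mul]
  exacts [congrArg θ (H_mul hs ht), congrArg θ (rank_one h), congrArg θ (rank_one_zero h),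
    congrArg θ (rank_one_W h)]

theorem h_one (hij : i ≠ j) : D.h i j 1 = 1 := by
  have := (pair_ids D hij).1 1 1 one_ne_zero one_ne_zero
  simpa using this

theorem h_split (hij : i ≠ j) (hjl : j ≠ l) (hil : i ≠ l) {t : F} (ht : t ≠ 0) :
    D.h i l t = D.h i j t * D.h j l t := by
  obtain ⟨θ, a, a', b, b', c, c'⟩ := D.triple i j l hij hjl hil
  have := congrArg θ (H_split ht)
  simp only [H3, map_mul, a, a', b, b', c, c'] at this
  exact this

theorem w_split (hij : i ≠ j) (hjl : j ≠ l) (hil : i ≠ l) :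
    D.w i l = D.w i j * D.w j l * (D.w i j)⁻¹ := by
  obtain ⟨q1, -, q3, -⟩ := conj_triple D hij hjl hil
  calc D.w i l = (D.w i j * D.X j l 1 * (D.w i j)⁻¹) * (D.w i j * D.X l j (-1) * (D.w i j)⁻¹) *
        (D.w i j * D.X j l 1 * (D.w i j)⁻¹) := by rw [q1, q3]; rfl
    _ = _ := by simp only [Data.w]; group

/-- conjugation maps a closure into a subgroup if it maps the generators -/
theorem conj_closure (x : G) (gens : Set G) (K : Subgroup G) (h : ∀ g ∈ gens, x * g * x⁻¹ ∈ K) :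
    ∀ c ∈ Subgroup.closure gens, x * c * x⁻¹ ∈ K := by
  intro c hc
  have : Subgroup.closure gens ≤ K.comap (MulAut.conj x).toMonoidHom := by
    rw [Subgroup.closure_le]; exact fun g hg => by simpa using h g hg
  simpa using this hc

/-- subgroup generated by the roots of a set of pairs -/
def Data.roots (Q : Set (Fin n × Fin n)) : Subgroup G :=
  Subgroup.closure {g | ∃ q ∈ Q, q.1 ≠ q.2 ∧ ∃ r, g = D.X q.1 q.2 r}

theorem mem_roots {Q : Set (Fin n × Fin n)} {a b : Fin n} (hq : (a, b) ∈ Q) (hab : a ≠ b) (r : F) :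
    D.X a b r ∈ D.roots Q := Subgroup.subset_closure ⟨(a, b), hq, hab, r, rfl⟩

theorem roots_mono {Q Q' : Set (Fin n × Fin n)} (h : Q ⊆ Q') : D.roots Q ≤ D.roots Q' :=
  Subgroup.closure_mono fun _ ⟨q, hq, hr⟩ => ⟨q, h hq, hr⟩

/-- conjugation between root subgroups, on generators -/
theorem conj_roots (x : G) {Q : Set (Fin n × Fin n)} (K : Subgroup G)
    (h : ∀ a b, (a, b) ∈ Q → a ≠ b → ∀ r, x * D.X a b r * x⁻¹ ∈ K) : ∀ c ∈ D.roots Q, x * c * x⁻¹ ∈ K := by
  refine conj_closure x _ K ?_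
  rintro _ ⟨⟨a, b⟩, hq, hab, r, rfl⟩
  exact h a b hq hab r

/-- entries of the image of a product of non-composable roots -/
theorem roots_matrix {Q : Set (Fin n × Fin n)} (hQ : ∀ q ∈ Q, ∀ q' ∈ Q, q.2 ≠ q'.1) :
    ∀ c ∈ D.roots Q, ∃ M : Matrix (Fin n) (Fin n) F, (D.π c).1 = 1 + M ∧
      ∀ x y, M x y ≠ 0 → (x, y) ∈ Q := by
  intro c hc
  induction hc using Subgroup.closure_induction_left with
  | one => exact ⟨0, by simp [StemSLnMat.val_one], fun x y h => absurd rfl h⟩
  | mul_left g hg c _ ih =>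
    obtain ⟨⟨a, b⟩, hq, hab, r, rfl⟩ := hg
    obtain ⟨M, hM, hMQ⟩ := ih
    refine ⟨M + Matrix.single a b r, ?_, fun x y h => ?_⟩
    · rw [map_mul, Matrix.SpecialLinearGroup.coe_mul, D.π_X a b hab, hM, tv, dif_pos hab,
        Matrix.SpecialLinearGroup.transvection_coe]
      have : Matrix.single a b r * M = 0 := by
        ext x y
        by_cases hx : x = a
        · subst hx
          rw [Matrix.single_mul_apply_same, Matrix.zero_apply]
          by_contra h
          exact hQ _ hq _ (hMQ b y (right_ne_zero_of_mul h)) rfl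
        · rw [Matrix.single_mul_apply_of_ne _ _ _ _ _ hx, Matrix.zero_apply]
      rw [add_mul, one_mul, mul_add, mul_one, this]; abel
    · by_contra hn
      apply h
      have h1 : M x y = 0 := not_not.mp fun e => hn (hMQ x y e)
      have h2 : Matrix.single a b r x y = 0 :=
        Matrix.single_apply_of_ne _ _ _ _ _ fun e => hn (by rw [← e.1, ← e.2]; exact hq)
      rw [Matrix.add_apply, h1, h2, add_zero]
  | inv_mul_cancel g hg c _ ih =>
    obtain ⟨⟨a, b⟩, hq, hab, r, rfl⟩ := hg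
    obtain ⟨M, hM, hMQ⟩ := ih
    refine ⟨M + Matrix.single a b (-r), ?_, fun x y h => ?_⟩
    · rw [X_inv D hab, map_mul, Matrix.SpecialLinearGroup.coe_mul, D.π_X a b hab, hM, tv, dif_pos hab,
        Matrix.SpecialLinearGroup.transvection_coe]
      have : Matrix.single a b (-r) * M = 0 := by
        ext x y
        by_cases hx : x = a
        · subst hx
          rw [Matrix.single_mul_apply_same, Matrix.zero_apply]
          by_contra h
          exact hQ _ hq _ (hMQ b y (right_ne_zero_of_mul h)) rfl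
        · rw [Matrix.single_mul_apply_of_ne _ _ _ _ _ hx, Matrix.zero_apply]
      rw [add_mul, one_mul, mul_add, mul_one, this]; abel
    · by_contra hn
      apply h
      have h1 : M x y = 0 := not_not.mp fun e => hn (hMQ x y e)
      have h2 : Matrix.single a b (-r) x y = 0 :=
        Matrix.single_apply_of_ne _ _ _ _ _ fun e => hn (by rw [← e.1, ← e.2]; exact hq)
      rw [Matrix.add_apply, h1, h2, add_zero]

/-- an element commuting with the generating roots centralises the root subgroup -/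
theorem commute_roots {Q : Set (Fin n × Fin n)} {x : G}
    (h : ∀ a b, (a, b) ∈ Q → a ≠ b → ∀ r, Commute x (D.X a b r)) : ∀ c ∈ D.roots Q, Commute x c := by
  intro c hc
  induction hc using Subgroup.closure_induction with
  | mem y hy => obtain ⟨⟨a, b⟩, hq, hab, r, rfl⟩ := hy; exact h a b hq hab r
  | one => exact Commute.one_right _
  | mul y z _ _ hy hz => exact hy.mul_right hz
  | inv y _ hy => exact hy.inv_right

/-- commuting roots split off one root -/
theorem roots_split {Q : Set (Fin n × Fin n)} {a b : Fin n} (hab : a ≠ b)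
    (hcomm : ∀ p q, (p, q) ∈ Q → p ≠ q → (p, q) ≠ (a, b) → ∀ r s, Commute (D.X a b r) (D.X p q s)) :
    ∀ c ∈ D.roots Q, ∃ c' ∈ D.roots (Q \ {(a, b)}), ∃ r, c = c' * D.X a b r := by
  intro c hc
  induction hc using Subgroup.closure_induction_left with
  | one => exact ⟨1, Subgroup.one_mem _, 0, by rw [X_zero D hab, one_mul]⟩
  | mul_left g hg c _ ih =>
    obtain ⟨⟨p, q⟩, hq, hpq, s, rfl⟩ := hg
    obtain ⟨c', hc', r, rfl⟩ := ih
    by_cases e : (p, q) = (a, b)
    · obtain ⟨rfl, rfl⟩ := Prod.ext_iff.mp e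
      have : Commute (D.X p q s) c' := commute_roots D
        (fun u v hu huv t => hcomm u v hu.1 huv (by simpa using hu.2) s t) c' hc'
      exact ⟨c', hc', s + r, by rw [← mul_assoc, this.eq, mul_assoc, ← X_add D hab]⟩
    · exact ⟨D.X p q s * c', Subgroup.mul_mem _ (mem_roots D (Q := Q \ {(a, b)}) ⟨hq, by simpa using e⟩ hpq s) hc', r,
        (mul_assoc _ _ _).symm⟩
  | inv_mul_cancel g hg c _ ih =>
    obtain ⟨⟨p, q⟩, hq, hpq, s, rfl⟩ := hg
    obtain ⟨c', hc', r, rfl⟩ := ih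
    simp only [X_inv D hpq]
    by_cases e : (p, q) = (a, b)
    · obtain ⟨rfl, rfl⟩ := Prod.ext_iff.mp e
      have : Commute (D.X p q (-s)) c' := commute_roots D
        (fun u v hu huv t => hcomm u v hu.1 huv (by simpa using hu.2) (-s) t) c' hc'
      exact ⟨c', hc', -s + r, by rw [← mul_assoc, this.eq, mul_assoc, ← X_add D hab]⟩
    · exact ⟨D.X p q (-s) * c', Subgroup.mul_mem _ (mem_roots D (Q := Q \ {(a, b)}) ⟨hq, by simpa using e⟩ hpq _) hc', r,
        (mul_assoc _ _ _).symm⟩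

/-- a product of commuting non-composable roots with trivial image is trivial -/
theorem roots_inj {Q : Finset (Fin n × Fin n)} (hd : ∀ q ∈ Q, q.1 ≠ q.2)
    (hQ : ∀ q ∈ Q, ∀ q' ∈ Q, q.2 ≠ q'.1)
    (hcomm : ∀ a b p q, (a, b) ∈ Q → (p, q) ∈ Q → (p, q) ≠ (a, b) → ∀ r s, Commute (D.X a b r) (D.X p q s)) :
    ∀ c ∈ D.roots ↑Q, D.π c = 1 → c = 1 := by
  induction Q using Finset.induction_on with
  | empty =>
    intro c hc _
    have : D.roots (↑(∅ : Finset (Fin n × Fin n)) : Set _) = ⊥ := by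
      rw [eq_bot_iff, Data.roots, Subgroup.closure_le]
      rintro g ⟨q, hq, -⟩
      simp at hq
    rwa [this, Subgroup.mem_bot] at hc
  | @insert q Q hq ih =>
    intro c hc h1
    obtain ⟨a, b⟩ := q
    have hab : a ≠ b := hd (a, b) (Finset.mem_insert_self _ _)
    obtain ⟨c', hc', r, rfl⟩ := roots_split D hab
      (fun p q' hm _ hne r s => hcomm a b p q' (Finset.mem_insert_self _ _) (Finset.mem_coe.mp hm) hne r s) c hc
    have hc'' : c' ∈ D.roots ↑Q := roots_mono D (by
      intro x hx; simp only [Finset.coe_insert, Set.mem_diff, Set.mem_insert_iff, Set.mem_singleton_iff] at hx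
      tauto) hc'
    have hr : r = 0 := by
      obtain ⟨M, hM, hMQ⟩ := roots_matrix D
        (fun q hq' q' hq'' => hQ q (Finset.mem_insert_of_mem hq') q' (Finset.mem_insert_of_mem hq'')) c' hc''
      have he := congrArg Subtype.val h1
      rw [map_mul, Matrix.SpecialLinearGroup.coe_mul, D.π_X a b hab, hM, tv, dif_pos hab,
        Matrix.SpecialLinearGroup.transvection_coe, StemSLnMat.val_one] at he
      have hab0 := congrFun (congrFun he a) b
      have m1 : M a b = 0 := not_not.mp fun e => hq (hMQ a b e)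
      have m2 : (M * Matrix.single a b r) a b = 0 := by
        rw [Matrix.mul_single_apply_same]
        by_contra h
        exact hQ _ (Finset.mem_insert_of_mem (hMQ a a (left_ne_zero_of_mul h))) (a, b)
          (Finset.mem_insert_self _ _) rfl
      simpa [add_mul, mul_add, Matrix.add_apply, Matrix.one_apply_ne hab, m1, m2] using hab0
    subst hr
    rw [X_zero D hab, mul_one] at h1 ⊢
    exact ih (fun q hq' => hd q (Finset.mem_insert_of_mem hq'))
      (fun q hq' q' hq'' => hQ q (Finset.mem_insert_of_mem hq') q' (Finset.mem_insert_of_mem hq''))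
      (fun a b p q hab' hpq => hcomm a b p q (Finset.mem_insert_of_mem hab') (Finset.mem_insert_of_mem hpq))
      c' hc'' h1

/-- pairs inside a set -/
def inside (S : Finset (Fin n)) : Set (Fin n × Fin n) := {q | q.1 ∈ S ∧ q.2 ∈ S}

theorem inside_fix (S : Finset (Fin n)) : ∀ m ∈ D.roots (inside S), ∀ x y, (x ∉ S ∨ y ∉ S) →
    (D.π m).1 x y = (1 : Matrix (Fin n) (Fin n) F) x y := by
  intro m hm
  have step : ∀ a b r, (a, b) ∈ inside S → a ≠ b → ∀ A : Matrix (Fin n) (Fin n) F,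
      (∀ x y, (x ∉ S ∨ y ∉ S) → A x y = (1 : Matrix (Fin n) (Fin n) F) x y) →
      ∀ x y, (x ∉ S ∨ y ∉ S) → ((tv a b r : SL(n, F)).1 * A) x y = (1 : Matrix (Fin n) (Fin n) F) x y := by
    intro a b r hq hab A hA x y hxy
    rw [tv, dif_pos hab, Matrix.SpecialLinearGroup.transvection_coe, add_mul, one_mul, Matrix.add_apply]
    by_cases hx : x = a
    · subst hx
      have hy : y ∉ S := hxy.resolve_left (not_not.mpr hq.1)
      rw [Matrix.single_mul_apply_same, hA b y (Or.inr hy), Matrix.one_apply_ne (fun e => hy (by rw [← e]; exact hq.2)),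
        mul_zero, add_zero, hA x y hxy]
    · rw [Matrix.single_mul_apply_of_ne _ _ _ _ _ hx, add_zero, hA x y hxy]
  induction hm using Subgroup.closure_induction_left with
  | one => intro x y _; simp [StemSLnMat.val_one]
  | mul_left g hg c _ ih =>
    obtain ⟨⟨a, b⟩, hq, hab, r, rfl⟩ := hg
    rw [map_mul, Matrix.SpecialLinearGroup.coe_mul, D.π_X a b hab]
    exact step a b r hq hab _ ih
  | inv_mul_cancel g hg c _ ih =>
    obtain ⟨⟨a, b⟩, hq, hab, r, rfl⟩ := hg
    rw [X_inv D hab, map_mul, Matrix.SpecialLinearGroup.coe_mul, D.π_X a b hab]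
    exact step a b (-r) hq hab _ ih

theorem h_col (hij : i ≠ j) {t : F} (ht : t ≠ 0) :
    ∀ x, (D.π (D.h i j t)).1 x j = if x = j then t⁻¹ else 0 := by
  intro x
  have e : ∀ (A : SL(n, F)), A.1 x j = (A.1.mulVec (Pi.single j 1)) x := fun A => by
    rw [Matrix.mulVec_single_one]; rfl
  rw [e]
  simp only [Data.h, map_mul, D.π_X i j hij, D.π_X j i hij.symm, PSLSimple.mulVec_mul, tv_mulVec hij,
    tv_mulVec hij.symm]
  by_cases hxi : x = i
  · subst hxi; simp [hij, hij.symm, ht]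
  · by_cases hxj : x = j
    · subst hxj; simp [hij, hij.symm, ht]
    · simp [hxi, hxj]

theorem w_col (hij : i ≠ j) (x : Fin n) : (D.π (D.w i j)).1 x j = if x = i then 1 else 0 := by
  have e : ∀ (A : SL(n, F)), A.1 x j = (A.1.mulVec (Pi.single j 1)) x := fun A => by
    rw [Matrix.mulVec_single_one]; rfl
  rw [e]
  simp only [Data.w, map_mul, D.π_X i j hij, D.π_X j i hij.symm, PSLSimple.mulVec_mul, tv_mulVec hij,
    tv_mulVec hij.symm]
  by_cases hxi : x = i
  · subst hxi; simp [hij, hij.symm]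
  · by_cases hxj : x = j
    · subst hxj; simp [hij, hij.symm]
    · simp [hxi, hxj]

section Step
variable (S : Finset (Fin n)) (z k : Fin n) (hz : z ∉ S) (hk : k ∈ S)

/-- column -/
abbrev Data.C : Subgroup G := D.roots {q | q.1 ∈ S ∧ q.2 = z}
/-- row -/
abbrev Data.R : Subgroup G := D.roots {q | q.1 = z ∧ q.2 ∈ S}
/-- parabolic -/
def Data.P : Subgroup G :=
  Subgroup.closure ((D.R S z : Set G) ∪ D.roots (inside S) ∪ {g | ∃ t, t ≠ 0 ∧ g = D.h k z t})

/-- the two charts -/
def Data.Y (g : G) : Prop :=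
  (∃ c ∈ D.C S z, ∃ p ∈ D.P S z k, g = c * p) ∨
    ∃ m ∈ D.roots (inside S), ∃ p ∈ D.P S z k, g = m * D.w k z * p

variable {S z k}

theorem mem_C {a : Fin n} (ha : a ∈ S) (haz : a ≠ z) (r : F) : D.X a z r ∈ D.C S z :=
  mem_roots D (Q := {q : Fin n × Fin n | q.1 ∈ S ∧ q.2 = z}) ⟨ha, rfl⟩ haz r

theorem mem_R {a : Fin n} (ha : a ∈ S) (hza : z ≠ a) (r : F) : D.X z a r ∈ D.R S z :=
  mem_roots D (Q := {q : Fin n × Fin n | q.1 = z ∧ q.2 ∈ S}) ⟨rfl, ha⟩ hza r

theorem mem_I {a b : Fin n} (ha : a ∈ S) (hb : b ∈ S) (hab : a ≠ b) (r : F) : D.X a b r ∈ D.roots (inside S) :=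
  mem_roots D (Q := inside S) ⟨ha, hb⟩ hab r

theorem R_le_P : D.R S z ≤ D.P S z k := fun _ h => Subgroup.subset_closure (Or.inl (Or.inl h))
theorem inside_le_P : D.roots (inside S) ≤ D.P S z k := fun _ h => Subgroup.subset_closure (Or.inl (Or.inr h))

include hz

theorem ne_z {a : Fin n} (ha : a ∈ S) : a ≠ z := fun e => hz (e ▸ ha)

theorem inside_norm (m : G) (hm : m ∈ D.roots (inside S)) :
    (∀ c ∈ D.C S z, m * c * m⁻¹ ∈ D.C S z ∧ m⁻¹ * c * m ∈ D.C S z) ∧
    ∀ c ∈ D.R S z, m * c * m⁻¹ ∈ D.R S z ∧ m⁻¹ * c * m ∈ D.R S z := by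
  have hgC : ∀ a b r, a ∈ S → b ∈ S → a ≠ b → ∀ c ∈ D.C S z, D.X a b r * c * (D.X a b r)⁻¹ ∈ D.C S z := by
    intro a b r ha hb hab
    refine conj_roots D _ _ ?_
    rintro p q ⟨hp, rfl : q = z⟩ hpq s
    have hm' := mem_C D hp hpq s
    by_cases hbp : b = p
    · subst hbp
      rw [bracket D hab hpq (ne_z hz ha), mul_inv_cancel_right]
      exact Subgroup.mul_mem _ (mem_C D ha (ne_z hz ha) _) hm'
    · have : Commute (D.X a b r) (D.X p q s) := by
        by_cases hap : a = p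
        · subst hap; exact row D hab (ne_z hz hb) hpq r s
        · exact D.comm a b p q hab hpq hap (ne_z hz ha) hbp (ne_z hz hb) r s
      rw [this.eq, mul_inv_cancel_right]; exact hm'
  have hgR : ∀ a b r, a ∈ S → b ∈ S → a ≠ b → ∀ c ∈ D.R S z, D.X a b r * c * (D.X a b r)⁻¹ ∈ D.R S z := by
    intro a b r ha hb hab
    refine conj_roots D _ _ ?_
    rintro p q ⟨rfl : p = z, hq⟩ hpq s
    have hm' := mem_R D hq hpq s
    by_cases haq : a = q
    · subst haq
      have hpb : p ≠ b := (ne_z hz hb).symm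
      have hb' := bracket D hpq hab hpb (-s) r
      have e : D.X a b r * D.X p a s * (D.X a b r)⁻¹ = D.X p a s * D.X p b (-s * r) := by
        rw [mul_inv_eq_iff_eq_mul]
        calc D.X a b r * D.X p a s
            = (D.X p a s * (D.X p a (-s) * D.X a b r)) * D.X p a s := by
              rw [← mul_assoc, ← X_add D hpq, add_neg_cancel, X_zero D hpq, one_mul]
          _ = D.X p a s * D.X p b (-s * r) * D.X a b r * (D.X p a (-s) * D.X p a s) := by
              rw [hb']; group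
          _ = _ := by rw [← X_add D hpq, neg_add_cancel, X_zero D hpq, mul_one]
      rw [e]
      exact Subgroup.mul_mem _ hm' (mem_R D hb hpb _)
    · have : Commute (D.X a b r) (D.X p q s) := by
        by_cases hbq : b = q
        · subst hbq; exact col D (ne_z hz ha) hpq hab r s
        · exact D.comm a b p q hab hpq (ne_z hz ha) haq (ne_z hz hb) hbq r s
      rw [this.eq, mul_inv_cancel_right]; exact hm'
  induction hm using Subgroup.closure_induction with
  | mem g hg =>
    obtain ⟨⟨a, b⟩, ⟨ha, hb⟩, hab, r, rfl⟩ := hg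
    refine ⟨fun c hc => ⟨hgC a b r ha hb hab c hc, ?_⟩, fun c hc => ⟨hgR a b r ha hb hab c hc, ?_⟩⟩
    · have := hgC a b (-r) ha hb hab c hc
      rwa [← X_inv D hab, inv_inv] at this
    · have := hgR a b (-r) ha hb hab c hc
      rwa [← X_inv D hab, inv_inv] at this
  | one => simp
  | mul x y _ _ hx hy =>
    constructor
    · intro c hc
      constructor
      · have := (hx.1 _ (hy.1 c hc).1).1
        simpa [mul_assoc] using this
      · have := (hy.1 _ (hx.1 c hc).2).2
        simpa [mul_assoc] using this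
    · intro c hc
      constructor
      · have := (hx.2 _ (hy.2 c hc).1).1
        simpa [mul_assoc] using this
      · have := (hy.2 _ (hx.2 c hc).2).2
        simpa [mul_assoc] using this
  | inv x _ hx => exact ⟨fun c hc => by simpa using (hx.1 c hc).symm, fun c hc => by simpa using (hx.2 c hc).symm⟩

include hk

theorem h_norm {t : F} (ht : t ≠ 0) :
    (∀ c ∈ D.R S z, D.h k z t * c * (D.h k z t)⁻¹ ∈ D.R S z) ∧
    ∀ m ∈ D.roots (inside S), D.h k z t * m * (D.h k z t)⁻¹ ∈ D.roots (inside S) := by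
  have hkz := ne_z hz hk
  refine ⟨conj_roots D _ _ ?_, conj_roots D _ _ ?_⟩
  · rintro p q ⟨rfl : p = z, hq⟩ hpq r
    have mem : ∀ r', D.X p q r' ∈ D.R S p := fun r' => mem_R D hq hpq r'
    by_cases hqk : q = k
    · subst hqk
      obtain ⟨l, hl1, hl2⟩ := third D.three q p
      rw [((conj_triple D hkz hl2.symm hl1.symm).2.2.2.2.2.2 t ht).2.2.2.2.2 r]
      exact mem _
    · rw [((conj_triple D hkz hpq (Ne.symm hqk)).2.2.2.2.2.2 t ht).1 r]
      exact mem _
  · rintro p q ⟨hp : p ∈ S, hq : q ∈ S⟩ hpq r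
    have mem : ∀ r', D.X p q r' ∈ D.roots (inside S) := fun r' => mem_I D hp hq hpq r'
    by_cases hpk : p = k
    · subst hpk
      rw [((conj_triple D hkz (ne_z hz hq).symm hpq).2.2.2.2.2.2 t ht).2.1 r]
      exact mem _
    · by_cases hqk : q = k
      · subst hqk
        rw [((conj_triple D hkz (ne_z hz hp).symm (Ne.symm hpq)).2.2.2.2.2.2 t ht).2.2.2.1 r]
        exact mem _
      · have c1 : ∀ s, Commute (D.X k z s) (D.X p q r) := fun s =>
          D.comm k z p q hkz hpq (Ne.symm hpk) (Ne.symm hqk) (ne_z hz hp).symm (ne_z hz hq).symm s r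
        have c2 : ∀ s, Commute (D.X z k s) (D.X p q r) := fun s =>
          D.comm z k p q hkz.symm hpq (ne_z hz hp).symm (ne_z hz hq).symm (Ne.symm hpk) (Ne.symm hqk) s r
        have : Commute (D.h k z t) (D.X p q r) := by
          simp only [Data.h]
          exact (((c1 _).mul_left (c2 _)).mul_left (c1 _)).mul_left (((c1 _).mul_left (c2 _)).mul_left (c1 _))
        rw [this.eq, mul_inv_cancel_right]; exact mem _

theorem h_mem_P {a : Fin n} (ha : a ∈ S) {t : F} (ht : t ≠ 0) : D.h a z t ∈ D.P S z k := by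
  have hk' : ∀ s, s ≠ 0 → D.h k z s ∈ D.P S z k := fun s hs => Subgroup.subset_closure (Or.inr ⟨s, hs, rfl⟩)
  by_cases hak : a = k
  · subst hak; exact hk' t ht
  rw [h_split D hak (ne_z hz hk) (ne_z hz ha) ht]
  have m1 : ∀ r, D.X a k r ∈ D.P S z k := fun r => inside_le_P D (mem_I D ha hk hak r)
  have m2 : ∀ r, D.X k a r ∈ D.P S z k := fun r => inside_le_P D (mem_I D hk ha (Ne.symm hak) r)
  refine Subgroup.mul_mem _ ?_ (hk' t ht)
  simp only [Data.h]
  repeat' apply Subgroup.mul_mem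
  all_goals first | exact m1 _ | exact m2 _

theorem P_form : ∀ p ∈ D.P S z k, ∃ r ∈ D.R S z, ∃ m ∈ D.roots (inside S), ∃ t : F, t ≠ 0 ∧
    p = r * m * D.h k z t := by
  have hkz := ne_z hz hk
  intro p hp
  have st1 : ∀ x ∈ D.R S z, ∀ p, (∃ r ∈ D.R S z, ∃ m ∈ D.roots (inside S), ∃ t : F, t ≠ 0 ∧ p = r * m * D.h k z t) →
      ∃ r ∈ D.R S z, ∃ m ∈ D.roots (inside S), ∃ t : F, t ≠ 0 ∧ x * p = r * m * D.h k z t := by
    rintro x hx _ ⟨r, hr, m, hm, t, ht, rfl⟩
    exact ⟨x * r, Subgroup.mul_mem _ hx hr, m, hm, t, ht, by group⟩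
  have st2 : ∀ x ∈ D.roots (inside S), ∀ p, (∃ r ∈ D.R S z, ∃ m ∈ D.roots (inside S), ∃ t : F, t ≠ 0 ∧ p = r * m * D.h k z t) →
      ∃ r ∈ D.R S z, ∃ m ∈ D.roots (inside S), ∃ t : F, t ≠ 0 ∧ x * p = r * m * D.h k z t := by
    rintro x hx _ ⟨r, hr, m, hm, t, ht, rfl⟩
    exact ⟨x * r * x⁻¹, ((inside_norm D hz x hx).2 r hr).1, x * m, Subgroup.mul_mem _ hx hm, t, ht, by group⟩
  have st3 : ∀ s, s ≠ 0 → ∀ p, (∃ r ∈ D.R S z, ∃ m ∈ D.roots (inside S), ∃ t : F, t ≠ 0 ∧ p = r * m * D.h k z t) →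
      ∃ r ∈ D.R S z, ∃ m ∈ D.roots (inside S), ∃ t : F, t ≠ 0 ∧ D.h k z s * p = r * m * D.h k z t := by
    rintro s hs _ ⟨r, hr, m, hm, t, ht, rfl⟩
    obtain ⟨n1, n2⟩ := h_norm D hz hk hs
    exact ⟨_, n1 r hr, _, n2 m hm, s * t, mul_ne_zero hs ht, by rw [(pair_ids D hkz).1 s t hs ht]; group⟩
  induction hp using Subgroup.closure_induction_left with
  | one => exact ⟨1, Subgroup.one_mem _, 1, Subgroup.one_mem _, 1, one_ne_zero, by rw [h_one D hkz]; group⟩
  | mul_left x hx y _ ih =>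
    rcases hx with (hx | hx) | ⟨t, ht, rfl⟩
    exacts [st1 x hx y ih, st2 x hx y ih, st3 t ht y ih]
  | inv_mul_cancel x hx y _ ih =>
    rcases hx with (hx | hx) | ⟨t, ht, rfl⟩
    · exact st1 _ (Subgroup.inv_mem _ hx) y ih
    · exact st2 _ (Subgroup.inv_mem _ hx) y ih
    · have : (D.h k z t)⁻¹ = D.h k z t⁻¹ := inv_eq_of_mul_eq_one_right (by
        rw [← (pair_ids D hkz).1 t _ ht (inv_ne_zero ht), mul_inv_cancel₀ ht, h_one D hkz])
      rw [this]; exact st3 _ (inv_ne_zero ht) y ih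

theorem Y_step_C {x g : G} (hx : x ∈ D.C S z) (hg : D.Y S z k g) : D.Y S z k (x * g) := by
  have hkz := ne_z hz hk
  rcases hg with ⟨c, hc, p, hp, rfl⟩ | ⟨m, hm, p, hp, rfl⟩
  · exact Or.inl ⟨x * c, Subgroup.mul_mem _ hx hc, p, hp, by group⟩
  refine Or.inr ⟨m, hm, (D.w k z)⁻¹ * (m⁻¹ * x * m) * D.w k z * p, Subgroup.mul_mem _ ?_ hp, by group⟩
  have hc := ((inside_norm D hz m hm).1 x hx).2
  have key : ∀ c ∈ D.C S z, (D.w k z)⁻¹ * c * (D.w k z)⁻¹⁻¹ ∈ D.P S z k := by
    refine conj_roots D _ _ ?_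
    rintro a q ⟨ha : a ∈ S, rfl : q = z⟩ haq r
    rw [inv_inv]
    by_cases hak : a = k
    · subst hak
      obtain ⟨l, hl1, hl2⟩ := third D.three a q
      have e := (conj_triple D hkz hl2.symm hl1.symm).2.2.2.2.2.1 (-r)
      rw [neg_neg] at e
      rw [show (D.w a q)⁻¹ * D.X a q r * D.w a q = D.X q a (-r) by rw [← e]; group]
      exact R_le_P D (mem_R D ha haq.symm _)
    · have e := (conj_triple D hkz (Ne.symm haq) (Ne.symm hak)).2.2.2.1 (-r)
      rw [neg_neg] at e
      rw [show (D.w k q)⁻¹ * D.X a q r * D.w k q = D.X a k (-r) by rw [← e]; group]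
      exact inside_le_P D (mem_I D ha hk hak _)
  have := key _ hc
  rwa [inv_inv] at this

theorem Y_step_inside {x g : G} (hx : x ∈ D.roots (inside S)) (hg : D.Y S z k g) : D.Y S z k (x * g) := by
  rcases hg with ⟨c, hc, p, hp, rfl⟩ | ⟨m, hm, p, hp, rfl⟩
  · exact Or.inl ⟨x * c * x⁻¹, ((inside_norm D hz x hx).1 c hc).1, x * p,
      Subgroup.mul_mem _ (inside_le_P D hx) hp, by group⟩
  · exact Or.inr ⟨x * m, Subgroup.mul_mem _ hx hm, p, hp, by group⟩

theorem Y_w {a : Fin n} (ha : a ∈ S) {p : G} (hp : p ∈ D.P S z k) : D.Y S z k (D.w a z * p) := by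
  by_cases hak : a = k
  · subst hak; exact Or.inr ⟨1, Subgroup.one_mem _, p, hp, by group⟩
  have hs : D.w a k ∈ D.roots (inside S) := by
    have m1 := mem_I D ha hk hak
    have m2 := mem_I D hk ha (Ne.symm hak)
    exact Subgroup.mul_mem _ (Subgroup.mul_mem _ (m1 _) (m2 _)) (m1 _)
  exact Or.inr ⟨D.w a k, hs, (D.w a k)⁻¹ * p,
    Subgroup.mul_mem _ (Subgroup.inv_mem _ (inside_le_P D hs)) hp, by
      rw [w_split D hak (ne_z hz hk) (ne_z hz ha)]; group⟩

theorem Y_step_R {a : Fin n} (ha : a ∈ S) (r : F) {g : G} (hg : D.Y S z k g) :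
    D.Y S z k (D.X z a r * g) := by
  have haz := ne_z hz ha
  rcases hg with ⟨c, hc, p, hp, rfl⟩ | ⟨m, hm, p, hp, rfl⟩
  · obtain ⟨c', hc', b, rfl⟩ := roots_split D haz (Q := {q | q.1 ∈ S ∧ q.2 = z}) (by
      rintro u q ⟨hu : u ∈ S, rfl : q = z⟩ huq hne r s
      exact col D (fun e => hne (by rw [e])) huq haz r s) c hc
    have hC : c' ∈ D.C S z := roots_mono D Set.diff_subset hc'
    have key : ∃ h ∈ D.roots {q | q.1 ∈ S.erase a ∧ q.2 = a}, D.X z a r * c' * (D.X z a r)⁻¹ = c' * h := by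
      clear hC
      have cm : ∀ h ∈ D.roots {q | q.1 ∈ S.erase a ∧ q.2 = a}, ∀ u q, (u, q) ∈ ({q | q.1 ∈ S ∧ q.2 = z} : Set _) \ {(a, z)} →
          u ≠ q → ∀ s, Commute h (D.X u q s) := by
        intro h hh
        induction hh using Subgroup.closure_induction with
        | mem y hy =>
          obtain ⟨⟨v, w⟩, ⟨hv : v ∈ S.erase a, rfl : w = a⟩, hvw, t, rfl⟩ := hy
          rintro u q ⟨⟨hu : u ∈ S, rfl : q = z⟩, hne⟩ huq s
          have hua : u ≠ w := fun e => hne (by rw [e]; rfl)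
          by_cases hvu : v = u
          · subst hvu; exact row D hvw haz huq t s
          · exact D.comm v w u q hvw huq hvu (ne_z hz (Finset.mem_of_mem_erase hv)) hua.symm haz t s
        | one => intro u q _ _ s; exact Commute.one_left _
        | mul x y _ _ hx hy => intro u q h1 h2 s; exact (hx u q h1 h2 s).mul_left (hy u q h1 h2 s)
        | inv x _ hx => intro u q h1 h2 s; exact (hx u q h1 h2 s).inv_left
      have gen : ∀ u q s, (u, q) ∈ ({q | q.1 ∈ S ∧ q.2 = z} : Set _) \ {(a, z)} → u ≠ q →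
          ∃ h ∈ D.roots {q | q.1 ∈ S.erase a ∧ q.2 = a},
            D.X z a r * D.X u q s * (D.X z a r)⁻¹ = D.X u q s * h := by
        rintro u q s ⟨⟨hu : u ∈ S, rfl : q = z⟩, hne⟩ huq
        have hua : u ≠ a := fun e => hne (by rw [e]; rfl)
        refine ⟨D.X u a (-s * r), mem_roots D (Q := {q : Fin n × Fin n | q.1 ∈ S.erase a ∧ q.2 = a}) ⟨Finset.mem_erase.mpr ⟨hua, hu⟩, rfl⟩ hua _, ?_⟩
        have hb := bracket D huq haz.symm hua (-s) r
        have cc : Commute (D.X u a (-s * r)) (D.X q a r) := col D huq haz.symm hua _ _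
        rw [mul_inv_eq_iff_eq_mul]
        calc D.X q a r * D.X u q s
            = (D.X u q s * (D.X u q (-s) * D.X q a r)) * D.X u q s := by
              rw [← mul_assoc, ← X_add D huq, add_neg_cancel, X_zero D huq, one_mul]
          _ = D.X u q s * D.X u a (-s * r) * D.X q a r * (D.X u q (-s) * D.X u q s) := by
              rw [hb]; group
          _ = _ := by rw [← X_add D huq, neg_add_cancel, X_zero D huq, mul_one]
      clear hc
      induction hc' using Subgroup.closure_induction_left with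
      | one => exact ⟨1, Subgroup.one_mem _, by group⟩
      | mul_left x hx y hy ih =>
        obtain ⟨⟨u, q⟩, hq, huq, s, rfl⟩ := hx
        obtain ⟨h1, hh1, e1⟩ := gen u q s hq huq
        obtain ⟨h2, hh2, e2⟩ := ih
        have cy : Commute h1 y := commute_roots D (fun u' q' h' n' s' => cm h1 hh1 u' q' h' n' s') y hy
        refine ⟨h1 * h2, Subgroup.mul_mem _ hh1 hh2, ?_⟩
        calc D.X z a r * (D.X u q s * y) * (D.X z a r)⁻¹
            = (D.X z a r * D.X u q s * (D.X z a r)⁻¹) * (D.X z a r * y * (D.X z a r)⁻¹) := by group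
          _ = D.X u q s * (h1 * y) * h2 := by rw [e1, e2]; group
          _ = _ := by rw [cy.eq]; group
      | inv_mul_cancel x hx y hy ih =>
        obtain ⟨⟨u, q⟩, hq, huq, s, rfl⟩ := hx
        simp only [X_inv D huq]
        obtain ⟨h1, hh1, e1⟩ := gen u q (-s) hq huq
        obtain ⟨h2, hh2, e2⟩ := ih
        have cy : Commute h1 y := commute_roots D (fun u' q' h' n' s' => cm h1 hh1 u' q' h' n' s') y hy
        refine ⟨h1 * h2, Subgroup.mul_mem _ hh1 hh2, ?_⟩
        calc D.X z a r * (D.X u q (-s) * y) * (D.X z a r)⁻¹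
            = (D.X z a r * D.X u q (-s) * (D.X z a r)⁻¹) * (D.X z a r * y * (D.X z a r)⁻¹) := by group
          _ = D.X u q (-s) * (h1 * y) * h2 := by rw [e1, e2]; group
          _ = _ := by rw [cy.eq]; group
    obtain ⟨h, hh, e⟩ := key
    have hh' : h ∈ D.roots (inside S) := roots_mono D (by
      rintro ⟨u, q⟩ ⟨hu, rfl : q = a⟩; exact ⟨Finset.mem_of_mem_erase hu, ha⟩) hh
    rw [show D.X z a r * (c' * D.X a z b * p) = c' * (h * (D.X z a r * D.X a z b * p)) by
      rw [← mul_assoc c', ← e]; group]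
    refine Y_step_C D hz hk hC (Y_step_inside D hz hk hh' ?_)
    obtain ⟨-, q1, q2, -⟩ := pair_ids D haz
    by_cases hd : 1 + r * b = 0
    · have hb : b ≠ 0 := fun e => by simp [e] at hd
      have hr : r = -b⁻¹ := by field_simp; linear_combination hd
      subst hr
      rw [q2 b hb, mul_assoc (D.w a z), mul_assoc (D.w a z)]
      exact Y_w D hz hk ha (Subgroup.mul_mem _ (Subgroup.mul_mem _ (h_mem_P D hz hk ha (inv_ne_zero hb))
        (R_le_P D (mem_R D ha haz.symm _))) hp)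
    · rw [q1 r b hd, mul_assoc (D.X a z _), mul_assoc (D.X a z _)]
      exact Or.inl ⟨_, mem_C D ha haz _, _, Subgroup.mul_mem _ (Subgroup.mul_mem _
        (h_mem_P D hz hk ha (inv_ne_zero hd)) (R_le_P D (mem_R D ha haz.symm _))) hp, rfl⟩
  · have hr' := ((inside_norm D hz m hm).2 (D.X z a r) (mem_R D ha haz.symm r)).2
    rw [show D.X z a r * (m * D.w k z * p) = m * ((m⁻¹ * D.X z a r * m) * D.w k z * p) by group]
    refine Y_step_inside D hz hk hm ?_
    generalize m⁻¹ * D.X z a r * m = x at hr' ⊢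
    clear hm m
    have hkz := ne_z hz hk
    obtain ⟨x', hx', b, rfl⟩ := roots_split D hkz.symm (Q := {q | q.1 = z ∧ q.2 ∈ S}) (by
      rintro u q ⟨rfl : u = z, hq : q ∈ S⟩ huq hne r s
      exact row D hkz.symm (fun e => hne (by rw [e])) huq r s) x hr'
    have key : ∀ y ∈ D.roots (({q | q.1 = z ∧ q.2 ∈ S} : Set _) \ {(z, k)}),
        (D.w k z)⁻¹ * y * (D.w k z)⁻¹⁻¹ ∈ D.roots (inside S) := by
      refine conj_roots D _ _ ?_
      rintro u q ⟨⟨rfl : u = z, hq : q ∈ S⟩, hne⟩ huq s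
      have hqk : q ≠ k := fun e => hne (by rw [e]; rfl)
      rw [inv_inv]
      have e := (conj_triple D hkz huq hqk.symm).2.1 (-s)
      rw [neg_neg] at e
      rw [show (D.w k u)⁻¹ * D.X u q s * D.w k u = D.X k q (-s) by rw [← e]; group]
      exact mem_I D hk hq hqk.symm _
    have hy := key x' hx'
    rw [inv_inv] at hy
    have hswap : Commute x' (D.X z k b) := by
      refine (commute_roots D ?_ x' hx').symm
      rintro u q ⟨⟨hu : u = z, hq : q ∈ S⟩, hne⟩ huq s
      subst hu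
      exact row D hkz.symm (fun e => hne (by rw [e]; rfl)) huq b s
    have hp2 : (D.w k z)⁻¹ * x' * D.w k z * p ∈ D.P S z k := Subgroup.mul_mem _ (inside_le_P D hy) hp
    obtain ⟨l, hl1, hl2⟩ := third D.three k z
    have e := (conj_triple D hkz hl2.symm hl1.symm).2.2.2.2.1 (-b)
    rw [neg_neg] at e
    rw [hswap.eq, show D.X z k b * x' * D.w k z * p =
      D.w k z * D.X k z (-b) * ((D.w k z)⁻¹ * x' * D.w k z * p) by rw [← e]; group]
    by_cases hb : b = 0
    · subst hb
      rw [neg_zero, X_zero D hkz, mul_one]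
      exact Y_w D hz hk hk hp2
    · have hb' : -b ≠ 0 := neg_ne_zero.mpr hb
      rw [(pair_ids D hkz).2.2.2 (-b) hb', mul_assoc (D.X k z _), mul_assoc (D.X k z _)]
      exact Or.inl ⟨_, mem_C D hk hkz _, _, Subgroup.mul_mem _ (Subgroup.mul_mem _
        (h_mem_P D hz hk hk (neg_ne_zero.mpr (inv_ne_zero hb'))) (R_le_P D (mem_R D hk hkz.symm _))) hp2, rfl⟩

theorem step (ih : ∀ g ∈ D.roots (inside S), D.π g = 1 → g = 1) :
    ∀ g ∈ D.roots (inside (insert z S)), D.π g = 1 → g = 1 := by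
  have hkz := ne_z hz hk
  intro g hg h1
  have gen : ∀ a b r, (a, b) ∈ inside (insert z S) → a ≠ b → ∀ y, D.Y S z k y → D.Y S z k (D.X a b r * y) := by
    rintro a b r ⟨ha : a ∈ insert z S, hb : b ∈ insert z S⟩ hab y hy
    rcases Finset.mem_insert.mp ha with ha' | ha'
    · subst ha'
      exact Y_step_R D hz hk ((Finset.mem_insert.mp hb).resolve_left (Ne.symm hab)) r hy
    · rcases Finset.mem_insert.mp hb with hb' | hb'
      · subst hb'; exact Y_step_C D hz hk (mem_C D ha' hab r) hy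
      · exact Y_step_inside D hz hk (mem_I D ha' hb' hab r) hy
  have hY : D.Y S z k g := by
    clear h1
    induction hg using Subgroup.closure_induction_left with
    | one => exact Or.inl ⟨1, Subgroup.one_mem _, 1, Subgroup.one_mem _, by group⟩
    | mul_left x hx y _ ih' =>
      obtain ⟨⟨a, b⟩, hq, hab, r, rfl⟩ := hx
      exact gen a b r hq hab y ih'
    | inv_mul_cancel x hx y _ ih' =>
      obtain ⟨⟨a, b⟩, hq, hab, r, rfl⟩ := hx
      rw [X_inv D hab]
      exact gen a b (-r) hq hab y ih'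
  have Rmat := roots_matrix D (Q := {q : Fin n × Fin n | q.1 = z ∧ q.2 ∈ S}) (by
    rintro ⟨u, q⟩ ⟨-, hq : q ∈ S⟩ ⟨u', q'⟩ ⟨hu' : u' = z, -⟩; subst hu'; exact ne_z hz hq)
  have colP : ∀ r ∈ D.R S z, ∀ m ∈ D.roots (inside S), ∀ t : F, t ≠ 0 → ∀ x,
      (D.π (r * m * D.h k z t)).1 x z = if x = z then t⁻¹ else 0 := by
    intro r hr m hm t ht x
    obtain ⟨M, hM, hMQ⟩ := Rmat r hr
    have hm' : ∀ y, (D.π m).1 y z = (1 : Matrix (Fin n) (Fin n) F) y z := fun y =>
      inside_fix D S m hm y z (Or.inr hz)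
    have hr' : ∀ y, (D.π r).1 y z = (1 : Matrix (Fin n) (Fin n) F) y z := fun y => by
      rw [hM, Matrix.add_apply, show M y z = 0 from not_not.mp fun e => hz (hMQ y z e).2, add_zero]
    have hrm : (D.π (r * m)).1 x z = (1 : Matrix (Fin n) (Fin n) F) x z := by
      rw [map_mul, Matrix.SpecialLinearGroup.coe_mul, Matrix.mul_apply]
      rw [Finset.sum_eq_single z (fun y _ hy => by rw [hm', Matrix.one_apply_ne hy, mul_zero])
        (fun h => absurd (Finset.mem_univ z) h), hm', hr', Matrix.one_apply_eq, mul_one]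
    rw [map_mul, Matrix.SpecialLinearGroup.coe_mul, Matrix.mul_apply,
      Finset.sum_eq_single z (fun y _ hy => by rw [h_col D hkz ht, if_neg hy, mul_zero])
        (fun h => absurd (Finset.mem_univ z) h), h_col D hkz ht, if_pos rfl, hrm, Matrix.one_apply]
    split_ifs <;> simp
  rcases hY with ⟨c, hc, p, hp, rfl⟩ | ⟨m, hm, p, hp, rfl⟩
  · obtain ⟨r, hr, m, hm, t, ht, rfl⟩ := P_form D hz hk p hp
    obtain ⟨M, hM, hMQ⟩ := roots_matrix D (Q := {q : Fin n × Fin n | q.1 ∈ S ∧ q.2 = z}) (by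
      rintro ⟨u, q⟩ ⟨-, hq : q = z⟩ ⟨u', q'⟩ ⟨hu' : u' ∈ S, -⟩; subst hq; exact (ne_z hz hu').symm) c hc
    have hcol : ∀ x, (1 + M) x z * t⁻¹ = (1 : Matrix (Fin n) (Fin n) F) x z := fun x => by
      have := congrArg (fun A : SL(n, F) => A.1 x z) h1
      simp only [map_mul D.π c, Matrix.SpecialLinearGroup.coe_mul, hM, StemSLnMat.val_one, Matrix.mul_apply] at this
      rw [Finset.sum_eq_single z (fun y _ hy => by rw [colP r hr m hm t ht, if_neg hy, mul_zero])
        (fun h => absurd (Finset.mem_univ z) h), colP r hr m hm t ht, if_pos rfl] at this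
      exact this
    have ht1 : t = 1 := by
      have := hcol z
      rw [Matrix.add_apply, show M z z = 0 from not_not.mp fun e => hz (hMQ z z e).1, add_zero,
        Matrix.one_apply_eq, one_mul, inv_eq_one] at this
      exact this
    subst ht1
    have hc1 : c = 1 := by
      refine roots_inj D (Q := S ×ˢ {z}) ?_ ?_ ?_ c (roots_mono D ?_ hc) ?_
      · rintro ⟨u, q⟩ h
        simp only [Finset.mem_product, Finset.mem_singleton] at h
        exact h.2 ▸ ne_z hz h.1
      · rintro ⟨u, q⟩ h ⟨u', q'⟩ h'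
        simp only [Finset.mem_product, Finset.mem_singleton] at h h' ⊢
        exact h.2 ▸ (ne_z hz h'.1).symm
      · intro a b u q h h' hne r s
        simp only [Finset.mem_product, Finset.mem_singleton] at h h'
        obtain ⟨ha, rfl⟩ := h
        obtain ⟨hu, rfl⟩ := h'
        exact col D (fun e => hne (by rw [e])) (ne_z hz hu) (ne_z hz ha) r s
      · rintro ⟨u, q⟩ ⟨hu, hq : q = z⟩; simp [hu, hq]
      · refine Subtype.ext ?_
        rw [hM, StemSLnMat.val_one]
        ext x y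
        by_cases hy : y = z
        · subst hy; simpa using hcol x
        · rw [Matrix.add_apply, show M x y = 0 from not_not.mp fun e => hy (hMQ x y e).2, add_zero]
    subst hc1
    rw [h_one D hkz, mul_one, one_mul] at h1 ⊢
    have hr1 : r = 1 := by
      obtain ⟨N, hN, hNQ⟩ := Rmat r hr
      refine roots_inj D (Q := {z} ×ˢ S) ?_ ?_ ?_ r (roots_mono D ?_ hr) ?_
      · rintro ⟨u, q⟩ h
        simp only [Finset.mem_product, Finset.mem_singleton] at h
        exact h.1 ▸ (ne_z hz h.2).symm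
      · rintro ⟨u, q⟩ h ⟨u', q'⟩ h'
        simp only [Finset.mem_product, Finset.mem_singleton] at h h' ⊢
        exact h'.1 ▸ ne_z hz h.2
      · intro a b u q h h' hne r s
        simp only [Finset.mem_product, Finset.mem_singleton] at h h'
        obtain ⟨rfl, hb⟩ := h
        obtain ⟨rfl, hq⟩ := h'
        exact row D (ne_z hz hb).symm (fun e => hne (by rw [e])) (ne_z hz hq).symm r s
      · rintro ⟨u, q⟩ ⟨hu : u = z, hq⟩; simp [hu]; exact hq
      · have er : D.π r = D.π m⁻¹ := by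
          rw [map_mul] at h1
          rw [map_inv]; exact eq_inv_of_mul_eq_one_left h1
        refine Subtype.ext ?_
        rw [StemSLnMat.val_one]
        ext x y
        by_cases hN0 : N x y = 0
        · rw [hN, Matrix.add_apply, hN0, add_zero]
        · rw [er]
          exact inside_fix D S m⁻¹ (Subgroup.inv_mem _ hm) x y (Or.inl (by have e : x = z := (hNQ x y hN0).1; rw [e]; exact hz))
    subst hr1
    rw [one_mul] at h1 ⊢
    exact ih m hm h1
  · exfalso
    obtain ⟨r, hr, m', hm', t, ht, rfl⟩ := P_form D hz hk p hp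
    have := congrArg (fun A : SL(n, F) => A.1 z z) h1
    simp only [map_mul D.π (m * D.w k z), Matrix.SpecialLinearGroup.coe_mul, StemSLnMat.val_one,
      Matrix.one_apply_eq, Matrix.mul_apply] at this
    rw [Finset.sum_eq_single z (fun y _ hy => by rw [colP r hr m' hm' t ht, if_neg hy, mul_zero])
      (fun h => absurd (Finset.mem_univ z) h)] at this
    have h0 : (D.π (m * D.w k z)).1 z z = 0 := by
      rw [map_mul, Matrix.SpecialLinearGroup.coe_mul, Matrix.mul_apply,
        Finset.sum_eq_single k (fun y _ hy => by rw [w_col D hkz, if_neg hy, mul_zero])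
          (fun h => absurd (Finset.mem_univ k) h), inside_fix D S m hm z k (Or.inl hz),
        Matrix.one_apply_ne hkz.symm, zero_mul]
    rw [h0, zero_mul] at this
    exact one_ne_zero this.symm

end Step

/-- injectivity -/
theorem injective (hgen : D.roots Set.univ = ⊤) : Function.Injective D.π := by
  have main : ∀ S : Finset (Fin n), ∀ g ∈ D.roots (inside S), D.π g = 1 → g = 1 := by
    intro S
    induction S using Finset.induction_on with
    | empty =>
      intro g hg _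
      have : D.roots (inside (∅ : Finset (Fin n))) = ⊥ := by
        rw [eq_bot_iff, Data.roots, Subgroup.closure_le]
        rintro x ⟨q, ⟨hq, -⟩, -⟩
        simp at hq
      rwa [this, Subgroup.mem_bot] at hg
    | @insert z S hz ih =>
      rcases S.eq_empty_or_nonempty with rfl | ⟨k, hk⟩
      · intro g hg _
        have : D.roots (inside ({z} : Finset (Fin n))) = ⊥ := by
          rw [eq_bot_iff, Data.roots, Subgroup.closure_le]
          rintro x ⟨q, ⟨h1, h2⟩, hne, -⟩
          simp only [Finset.mem_singleton] at h1 h2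
          exact absurd (h1.trans h2.symm) hne
        rw [show insert z (∅ : Finset (Fin n)) = {z} from rfl, this, Subgroup.mem_bot] at hg
        exact hg
      · exact step D hz hk ih
  refine (injective_iff_map_eq_one D.π).mpr fun g hg => main Finset.univ g ?_ hg
  refine roots_mono D (Q := Set.univ) (fun q _ => show q.1 ∈ Finset.univ ∧ q.2 ∈ Finset.univ from ⟨Finset.mem_univ _, Finset.mem_univ _⟩) (hgen ▸ Subgroup.mem_top g)

end Cfsg.Agent.ShortPresChart
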