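import Cfsg.Agent.Lib.ShortPresSL
import Cfsg.Agent.Lib.SymplecticBasic

/-!
Bruhat-type injectivity for root data of type `C`: a group generated by root elements with rank-one
homomorphisms, positive commutator containments, and Weyl and torus actions maps injectively to the
symplectic group.
-/

set_option autoImplicit false

namespace Cfsg.Agent.ShortPresCn

open Matrix PSL2Elements ShortPresSL
open scoped MatrixGroups commutatorElement

/-- the index set -/
abbrev Idx (n : ℕ) := Fin n ⊕ Fin n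

section Model
variable {n : ℕ}

/-- the partner of an index -/
def bar (x : Idx n) : Idx n := x.swap

theorem bar_bar (x : Idx n) : bar (bar x) = x := Sum.swap_swap x

theorem bar_ne (x : Idx n) : bar x ≠ x := by
  rcases x with i | i <;> simp [bar]

theorem bar_inj {x y : Idx n} : bar x = bar y ↔ x = y :=
  ⟨fun h => by have := congrArg bar h; rwa [bar_bar, bar_bar] at this, congrArg bar⟩

theorem bar_eq {x y : Idx n} : bar x = y ↔ x = bar y :=
  ⟨fun h => by rw [← h, bar_bar], fun h => by rw [h, bar_bar]⟩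

/-- the position in the ordered basis -/
def pos : Idx n → ℕ
  | Sum.inl i => i
  | Sum.inr i => 2 * n - 1 - i

theorem pos_lt (x : Idx n) : pos x < 2 * n := by
  rcases x with i | i <;> simp only [pos] <;> omega

theorem pos_bar (x : Idx n) : pos (bar x) = 2 * n - 1 - pos x := by
  rcases x with i | i <;> simp only [pos, bar, Sum.swap_inl, Sum.swap_inr] <;> omega

theorem pos_inj {x y : Idx n} (h : pos x = pos y) : x = y := by
  rcases x with i | i <;> rcases y with j | j <;> simp only [pos] at h <;>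
    first
      | (exfalso; omega)
      | (congr 1; apply Fin.ext; omega)

/-- the underlying pair number -/
def idx : Idx n → Fin n := Sum.elim id id

variable {F : Type*} [Field F]

/-- the sign of an index -/
def csgn : Idx n → F := Sum.elim (fun _ => 1) (fun _ => -1)

theorem csgn_bar (x : Idx n) : (csgn (bar x) : F) = -csgn x := by
  rcases x with i | i <;> simp [csgn, bar]

theorem csgn_sq (x : Idx n) : (csgn x : F) * csgn x = 1 := by
  rcases x with i | i <;> simp [csgn]

/-- the sign between the two names of a root -/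
def sg (p q : Idx n) : F := -(csgn p * csgn q)

theorem sg_long (p : Idx n) : (sg p (bar p) : F) = 1 := by
  rw [sg, csgn_bar, mul_neg, neg_neg, csgn_sq]

theorem sg_bar (p q : Idx n) : (sg (bar q) (bar p) : F) = sg p q := by
  rw [sg, sg, csgn_bar, csgn_bar, neg_mul_neg, mul_comm]

theorem sg_sq (p q : Idx n) : (sg p q : F) * sg p q = 1 := by
  rw [sg, neg_mul_neg, mul_mul_mul_comm, csgn_sq, csgn_sq, one_mul]

/-- the reflection of a root -/
def rflP (p q : Idx n) : Equiv.Perm (Idx n) :=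
  if q = bar p then Equiv.swap p q else Equiv.swap p q * Equiv.swap (bar q) (bar p)

theorem rflP_left {p q : Idx n} (hpq : p ≠ q) : rflP p q p = q := by
  unfold rflP
  split_ifs with hl
  · exact Equiv.swap_apply_left _ _
  · rw [Equiv.Perm.mul_apply, Equiv.swap_apply_of_ne_of_ne (fun e => hl (by rw [e, bar_bar])) (bar_ne p).symm,
      Equiv.swap_apply_left]

theorem rflP_right {p q : Idx n} (hpq : p ≠ q) : rflP p q q = p := by
  unfold rflP
  split_ifs with hl
  · exact Equiv.swap_apply_right _ _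
  · rw [Equiv.Perm.mul_apply, Equiv.swap_apply_of_ne_of_ne (bar_ne q).symm hl, Equiv.swap_apply_right]

theorem rflP_barq {p q : Idx n} (hpq : p ≠ q) : rflP p q (bar q) = bar p := by
  unfold rflP
  split_ifs with hl
  · subst hl; rw [bar_bar]; exact Equiv.swap_apply_left _ _
  · rw [Equiv.Perm.mul_apply, Equiv.swap_apply_left,
      Equiv.swap_apply_of_ne_of_ne (bar_ne p) (fun e => hl e.symm)]

theorem rflP_barp {p q : Idx n} (hpq : p ≠ q) : rflP p q (bar p) = bar q := by
  unfold rflP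
  split_ifs with hl
  · subst hl; rw [bar_bar]; exact Equiv.swap_apply_right _ _
  · rw [Equiv.Perm.mul_apply, Equiv.swap_apply_right,
      Equiv.swap_apply_of_ne_of_ne (fun e => hl (by rw [← e, bar_bar])) (bar_ne q)]

theorem rflP_other {p q x : Idx n} (h1 : x ≠ p) (h2 : x ≠ q) (h3 : x ≠ bar q) (h4 : x ≠ bar p) :
    rflP p q x = x := by
  unfold rflP
  split_ifs with hl
  · exact Equiv.swap_apply_of_ne_of_ne h1 h2
  · rw [Equiv.Perm.mul_apply, Equiv.swap_apply_of_ne_of_ne h3 h4, Equiv.swap_apply_of_ne_of_ne h1 h2]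

theorem rflP_cases {p q : Idx n} (x : Idx n) :
    x = p ∨ x = q ∨ x = bar q ∨ x = bar p ∨ (x ≠ p ∧ x ≠ q ∧ x ≠ bar q ∧ x ≠ bar p) := by tauto

theorem rflP_rflP {p q : Idx n} (hpq : p ≠ q) (x : Idx n) : rflP p q (rflP p q x) = x := by
  rcases rflP_cases (p := p) (q := q) x with h | h | h | h | ⟨h1, h2, h3, h4⟩
  · rw [h, rflP_left hpq, rflP_right hpq]
  · rw [h, rflP_right hpq, rflP_left hpq]
  · rw [h, rflP_barq hpq, rflP_barp hpq]
  · rw [h, rflP_barp hpq, rflP_barq hpq]
  · rw [rflP_other h1 h2 h3 h4, rflP_other h1 h2 h3 h4]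

theorem rflP_bar {p q : Idx n} (hpq : p ≠ q) (x : Idx n) : rflP p q (bar x) = bar (rflP p q x) := by
  rcases rflP_cases (p := p) (q := q) x with h | h | h | h | ⟨h1, h2, h3, h4⟩
  · rw [h, rflP_left hpq, rflP_barp hpq]
  · rw [h, rflP_right hpq, rflP_barq hpq]
  · rw [h, rflP_barq hpq, bar_bar, bar_bar, rflP_right hpq]
  · rw [h, rflP_barp hpq, bar_bar, bar_bar, rflP_left hpq]
  · rw [rflP_other h1 h2 h3 h4, rflP_other]
    · exact fun e => h4 (bar_eq.mp e)
    · exact fun e => h3 (bar_eq.mp e)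
    · exact fun e => h2 (bar_inj.mp e)
    · exact fun e => h1 (bar_inj.mp e)

/-- matrix of a root element -/
def rmat (p q : Idx n) (r : F) : Matrix (Idx n) (Idx n) F :=
  1 + single p q r + if q = bar p then 0 else single (bar q) (bar p) (sg p q * r)

theorem rmat_mulVec (p q : Idx n) (r : F) (v : Idx n → F) (x : Idx n) :
    (rmat p q r *ᵥ v) x = v x + (if x = p then r * v q else 0) +
      (if q = bar p then 0 else if x = bar q then sg p q * r * v (bar p) else 0) := by
  unfold rmat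
  split_ifs <;> simp_all [Matrix.add_mulVec, Matrix.single_mulVec]

theorem rmat_single (p q : Idx n) (r : F) (y : Idx n) (t : F) :
    rmat p q r *ᵥ Pi.single y t = Pi.single y t + (if y = q then Pi.single p (r * t) else 0) +
      (if q ≠ bar p ∧ y = bar p then Pi.single (bar q) (sg p q * r * t) else 0) := by
  ext x
  simp only [rmat_mulVec, Pi.add_apply]
  congr 1
  · congr 1
    by_cases hy : y = q
    · subst hy; by_cases hx : x = p
      · subst hx; simp
      · simp [hx]
    · simp [hy, Ne.symm hy]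
  · by_cases hl : q = bar p
    · simp [hl]
    · by_cases hy : y = bar p
      · subst hy; by_cases hx : x = bar q
        · subst hx; simp [hl]
        · simp [hx, hl]
      · simp [hy, Ne.symm hy, hl]

end Model

/-- the axioms -/
structure Data (G : Type*) [Group G] (n : ℕ) (F : Type*) [Field F] where
  X : Idx n → Idx n → F → G
  rank_one : ∀ p q, p ≠ q → ∃ θ : SL(2, F) →* G, (∀ r, θ (u r) = X p q r) ∧ ∀ r, θ (lo r) = X q p r
  alias_eq : ∀ p q, p ≠ q → ∀ r, X (bar q) (bar p) r = X p q (sg p q * r)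
  act_w : ∀ p q a b, p ≠ q → a ≠ b → ∀ t : F, t ≠ 0 → ∃ c : F, c ≠ 0 ∧
    (∀ r, X p q t * X q p (-t⁻¹) * X p q t * X a b r * (X p q t * X q p (-t⁻¹) * X p q t)⁻¹ =
      X (rflP p q a) (rflP p q b) (c * r)) ∧
    ∀ r, X p q t * X q p (-t⁻¹) * X p q t * X b a r * (X p q t * X q p (-t⁻¹) * X p q t)⁻¹ =
      X (rflP p q b) (rflP p q a) (c⁻¹ * r)
  comm : ∀ p q a b k, pos p < pos q → pos a < pos b → (pos p + k ≤ pos q ∨ pos a + k ≤ pos b) → ∀ r s,
    ⁅X p q r, X a b s⁆ ∈
      Subgroup.closure {g | ∃ x y, pos x + (k + 1) ≤ pos y ∧ ∃ t, g = X x y t}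
  h_split : ∀ p q, p ≠ q → ∀ t : F, t ≠ 0 →
    X p q t * X q p (-t⁻¹) * X p q t * (X p q 1 * X q p (-1) * X p q 1)⁻¹ ∈
      Subgroup.closure {g | ∃ (i : Fin n) (s : F), s ≠ 0 ∧
        g = X (Sum.inl i) (Sum.inr i) s * X (Sum.inr i) (Sum.inl i) (-s⁻¹) * X (Sum.inl i) (Sum.inr i) s *
          (X (Sum.inl i) (Sum.inr i) 1 * X (Sum.inr i) (Sum.inl i) (-1) * X (Sum.inl i) (Sum.inr i) 1)⁻¹}
  h_comm : ∀ i j : Fin n, ∀ s t : F, s ≠ 0 → t ≠ 0 → Commute
    (X (Sum.inl i) (Sum.inr i) s * X (Sum.inr i) (Sum.inl i) (-s⁻¹) * X (Sum.inl i) (Sum.inr i) s *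
      (X (Sum.inl i) (Sum.inr i) 1 * X (Sum.inr i) (Sum.inl i) (-1) * X (Sum.inl i) (Sum.inr i) 1)⁻¹)
    (X (Sum.inl j) (Sum.inr j) t * X (Sum.inr j) (Sum.inl j) (-t⁻¹) * X (Sum.inl j) (Sum.inr j) t *
      (X (Sum.inl j) (Sum.inr j) 1 * X (Sum.inr j) (Sum.inl j) (-1) * X (Sum.inl j) (Sum.inr j) 1)⁻¹)
  π : G →* Matrix.symplecticGroup (Fin n) F
  π_X : ∀ p q, p ≠ q → ∀ r, (π (X p q r)).1 = rmat p q r

variable {G : Type*} [Group G] {n : ℕ} {F : Type*} [Field F] (D : Data G n F)

/-- Weyl elements -/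
def Data.wt (p q : Idx n) (t : F) : G := D.X p q t * D.X q p (-t⁻¹) * D.X p q t

/-- torus elements -/
def Data.h (p q : Idx n) (t : F) : G := D.wt p q t * (D.wt p q 1)⁻¹

/-- the torus -/
def Data.T : Subgroup G := Subgroup.closure {g | ∃ p q : Idx n, p ≠ q ∧ ∃ t : F, t ≠ 0 ∧ g = D.h p q t}

/-- roots of height at least `k` -/
def Data.L (k : ℕ) : Subgroup G :=
  Subgroup.closure {g | ∃ x y, pos x + k ≤ pos y ∧ ∃ t, g = D.X x y t}

/-- monomial action -/
def Data.Act (g : G) (σ : Equiv.Perm (Idx n)) : Prop :=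
  (∀ x, σ (bar x) = bar (σ x)) ∧
  (∀ a b, a ≠ b → ∃ c : F, c ≠ 0 ∧ (∀ r, g * D.X a b r * g⁻¹ = D.X (σ a) (σ b) (c * r)) ∧
    ∀ r, g * D.X b a r * g⁻¹ = D.X (σ b) (σ a) (c⁻¹ * r)) ∧
  ∀ x y, x ≠ σ y → (D.π g).1 x y = 0

variable {p q a b : Idx n}

theorem wt_theta (hpq : p ≠ q) : ∃ θ : SL(2, F) →* G, (∀ r, θ (u r) = D.X p q r) ∧ (∀ r, θ (lo r) = D.X q p r) ∧
    ∀ t, D.wt p q t = θ (u t * lo (-t⁻¹) * u t) := by
  obtain ⟨θ, a, b⟩ := D.rank_one p q hpq
  exact ⟨θ, a, b, fun t => by simp only [Data.wt, map_mul, a, b]⟩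

theorem X_add (hpq : p ≠ q) (r s : F) : D.X p q (r + s) = D.X p q r * D.X p q s := by
  obtain ⟨θ, a, -⟩ := D.rank_one p q hpq
  rw [← a, ← a, ← a, ← map_mul, u_mul]

theorem X_zero (hpq : p ≠ q) : D.X p q 0 = 1 := by
  have := X_add D hpq 0 0
  simpa using this

theorem X_inv (hpq : p ≠ q) (r : F) : (D.X p q r)⁻¹ = D.X p q (-r) :=
  inv_eq_of_mul_eq_one_right (by rw [← X_add D hpq, add_neg_cancel, X_zero D hpq])

theorem wt_swap (hpq : p ≠ q) : D.wt q p 1 = (D.wt p q 1)⁻¹ := by
  obtain ⟨θ, a, b, hw⟩ := wt_theta D hpq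
  rw [show D.wt q p 1 = θ (lo 1 * u (-1⁻¹) * lo 1) by simp only [Data.wt, map_mul, a, b], hw, ← map_inv]
  congr 1
  rw [eq_inv_iff_mul_eq_one]
  apply ext2 <;> simp [u, lo, mul_apply2]

theorem wt_alias (hpq : p ≠ q) : D.wt (bar q) (bar p) 1 = D.wt p q (sg p q) := by
  have hne : bar q ≠ bar p := fun e => hpq (bar_inj.mp e).symm
  have hs : (sg q p : F) = sg p q := by simp [sg, mul_comm]
  have hi : (sg p q : F)⁻¹ = sg p q := inv_eq_of_mul_eq_one_right (sg_sq p q)
  simp only [Data.wt]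
  rw [D.alias_eq p q hpq, D.alias_eq q p hpq.symm, hs, hi, inv_one, mul_one, mul_neg_one]

theorem h_mem (hpq : p ≠ q) {t : F} (ht : t ≠ 0) : D.h p q t ∈ D.T :=
  Subgroup.subset_closure ⟨p, q, hpq, t, ht, rfl⟩

theorem wt_eq (t : F) : D.wt p q t = D.h p q t * D.wt p q 1 := by
  rw [Data.h, inv_mul_cancel_right]

theorem act_one : D.Act 1 1 := by
  refine ⟨fun _ => rfl, fun a b _ => ⟨1, one_ne_zero, fun r => by simp, fun r => by simp⟩, fun x y h => ?_⟩
  rw [map_one]
  exact Matrix.one_apply_ne h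

theorem act_mul {g g' : G} {σ σ' : Equiv.Perm (Idx n)} (h : D.Act g σ) (h' : D.Act g' σ') :
    D.Act (g * g') (σ * σ') := by
  refine ⟨fun x => by simp [h.1, h'.1], fun a b hab => ?_, fun x y hxy => ?_⟩
  · obtain ⟨c', hc', e1, e2⟩ := h'.2.1 a b hab
    obtain ⟨c, hc, f1, f2⟩ := h.2.1 (σ' a) (σ' b) (σ'.injective.ne hab)
    refine ⟨c * c', mul_ne_zero hc hc', fun r => ?_, fun r => ?_⟩
    · rw [show g * g' * D.X a b r * (g * g')⁻¹ = g * (g' * D.X a b r * g'⁻¹) * g⁻¹ by group, e1, f1, mul_assoc]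
      rfl
    · rw [show g * g' * D.X b a r * (g * g')⁻¹ = g * (g' * D.X b a r * g'⁻¹) * g⁻¹ by group, e2, f2, mul_inv,
        mul_assoc]
      rfl
  · rw [map_mul, Submonoid.coe_mul, Matrix.mul_apply]
    refine Finset.sum_eq_zero fun z _ => ?_
    by_cases hz : z = σ' y
    · subst hz; rw [h.2.2 x _ hxy, zero_mul]
    · rw [h'.2.2 z y hz, mul_zero]

theorem act_inv {g : G} {σ : Equiv.Perm (Idx n)} (h : D.Act g σ) : D.Act g⁻¹ σ⁻¹ := by
  have hb : ∀ x, σ⁻¹ (bar x) = bar (σ⁻¹ x) := fun x => by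
    rw [Equiv.Perm.inv_def, Equiv.symm_apply_eq, h.1, Equiv.apply_symm_apply]
  refine ⟨hb, fun a b hab => ?_, fun x y hxy => ?_⟩
  · obtain ⟨c, hc, e1, e2⟩ := h.2.1 (σ⁻¹ a) (σ⁻¹ b) (σ⁻¹.injective.ne hab)
    simp only [Equiv.Perm.inv_def, Equiv.apply_symm_apply] at e1 e2
    refine ⟨c⁻¹, inv_ne_zero hc, fun r => ?_, fun r => ?_⟩
    · have := e1 (c⁻¹ * r)
      rw [← mul_assoc, mul_inv_cancel₀ hc, one_mul] at this
      rw [← this]; simp only [Equiv.Perm.inv_def]; group
    · have := e2 (c * r)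
      rw [← mul_assoc, inv_mul_cancel₀ hc, one_mul] at this
      rw [inv_inv, ← this]; simp only [Equiv.Perm.inv_def]; group
  · have e : ∀ u v, (D.π g⁻¹).1 u (σ v) * (D.π g).1 (σ v) v = (1 : Matrix (Idx n) (Idx n) F) u v := by
      intro u v
      have := congrArg (fun A : Matrix.symplecticGroup (Fin n) F => A.1 u v)
        (show D.π g⁻¹ * D.π g = 1 by rw [← map_mul, inv_mul_cancel, map_one])
      simp only [Submonoid.coe_mul, Submonoid.coe_one, Matrix.mul_apply] at this
      rw [Finset.sum_eq_single (σ v) (fun z _ hz => by rw [h.2.2 z v hz, mul_zero])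
        (fun h => absurd (Finset.mem_univ _) h)] at this
      exact this
    have := e x (σ⁻¹ y)
    rw [Matrix.one_apply_ne hxy, show σ (σ⁻¹ y) = y from σ.apply_symm_apply y] at this
    refine (mul_eq_zero.mp this).resolve_right fun h0 => ?_
    have h1 := e (σ⁻¹ y) (σ⁻¹ y)
    rw [show σ (σ⁻¹ y) = y from σ.apply_symm_apply y, h0, mul_zero, Matrix.one_apply_eq] at h1
    exact zero_ne_one h1

theorem single_cancel₁ {ι : Type*} [DecidableEq ι] (a b : ι) {u v w : F} (h : u + w = 0) :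
    Pi.single a u + (Pi.single b v + Pi.single a w) = (Pi.single b v : ι → F) := by
  rw [add_left_comm, ← Pi.single_add, h, Pi.single_zero, add_zero]

theorem single_cancel₂ {ι : Type*} [DecidableEq ι] (a b : ι) {u v w x : F} (h : u + w = 0) (hx : x = -v) :
    Pi.single a u + (Pi.single b v + (Pi.single b v + (Pi.single a w + Pi.single b x))) = (Pi.single b v : ι → F) := by
  rw [hx, Pi.single_neg, show w = -u from eq_neg_of_add_eq_zero_right h, Pi.single_neg]
  abel

theorem act_wt (hpq : p ≠ q) {t : F} (ht : t ≠ 0) : D.Act (D.wt p q t) (rflP p q) := by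
  refine ⟨rflP_bar hpq, fun a b hab => D.act_w p q a b hpq hab t ht, fun x y hxy => ?_⟩
  have hcol : ∃ c : F, (D.π (D.wt p q t)).1 *ᵥ Pi.single y 1 = Pi.single (rflP p q y) c := by
    simp only [Data.wt, map_mul, Submonoid.coe_mul, D.π_X p q hpq, D.π_X q p hpq.symm, ← Matrix.mulVec_mulVec]
    have hbp := bar_ne p
    have hbq := bar_ne q
    have hbne : bar q ≠ bar p := fun e => hpq (bar_inj.mp e).symm
    by_cases hl : q = bar p
    · subst hl
      have mid : ∀ z, z = p ∨ z = bar p ∨ (z ≠ p ∧ z ≠ bar p) := fun z => by tauto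
      rcases mid y with h | h | ⟨h1, h2⟩
      rotate_left 2
      · refine ⟨1, ?_⟩
        simp [-Matrix.mulVec_mulVec, -Matrix.mulVec_single_one, -Matrix.mulVec_single, rflP_other h1 h2 (by rwa [bar_bar]) h2, rmat_single, h1, h2, bar_bar]
      all_goals subst h
      · refine ⟨-t⁻¹, ?_⟩
        simp [-Matrix.mulVec_mulVec, -Matrix.mulVec_single_one, -Matrix.mulVec_single, rflP_left hpq, rmat_single, Matrix.mulVec_add, Matrix.mulVec_zero, bar_bar, hpq, hpq.symm, ht, ← Pi.single_add]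
        first | exact single_cancel₁ _ _ (by simp) | exact single_cancel₂ _ _ (by simp) rfl
      · refine ⟨t, ?_⟩
        simp [-Matrix.mulVec_mulVec, -Matrix.mulVec_single_one, -Matrix.mulVec_single, rflP_right hpq, rmat_single, Matrix.mulVec_add, Matrix.mulVec_zero, bar_bar, hpq, hpq.symm, ht, ← Pi.single_add, add_assoc]
        first | exact single_cancel₁ _ _ (by simp) | exact single_cancel₂ _ _ (by simp) rfl
    · have hl' : p ≠ bar q := fun e => hl (by rw [e, bar_bar])
      have h2' : (sg q p : F) = sg p q := by simp [sg, mul_comm]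
      have h3' := sg_sq (F := F) p q
      rcases rflP_cases (p := p) (q := q) y with h | h | h | h | ⟨h1, h2, h3, h4⟩
      rotate_left 4
      · refine ⟨1, ?_⟩
        simp [-Matrix.mulVec_mulVec, -Matrix.mulVec_single_one, -Matrix.mulVec_single, rflP_other h1 h2 h3 h4, rmat_single, h1, h2, h3, h4]
      all_goals subst h
      · refine ⟨-t⁻¹, ?_⟩
        simp [-Matrix.mulVec_mulVec, -Matrix.mulVec_single_one, -Matrix.mulVec_single, rflP_left hpq, rmat_single, Matrix.mulVec_add, Matrix.mulVec_zero, hpq, hpq.symm, hl, Ne.symm hl, hl', hl'.symm, hbp,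
          hbp.symm, hbq, hbq.symm, ht, ← Pi.single_add, add_assoc]
        first | exact single_cancel₁ _ _ (by simp) | exact single_cancel₂ _ _ (by simp) rfl
      · refine ⟨t, ?_⟩
        simp [-Matrix.mulVec_mulVec, -Matrix.mulVec_single_one, -Matrix.mulVec_single, rflP_right hpq, rmat_single, Matrix.mulVec_add, Matrix.mulVec_zero, hpq, hpq.symm, hl, Ne.symm hl, hl', hl'.symm, hbp,
          hbp.symm, hbq, hbq.symm, ht, ← Pi.single_add, add_assoc]
        first | exact single_cancel₁ _ _ (by simp) | exact single_cancel₂ _ _ (by simp) rfl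
      · refine ⟨-(sg p q * t⁻¹), ?_⟩
        simp [-Matrix.mulVec_mulVec, -Matrix.mulVec_single_one, -Matrix.mulVec_single, rflP_barq hpq, rmat_single, Matrix.mulVec_add, Matrix.mulVec_zero, hpq, hpq.symm, hl, Ne.symm hl, hl', hl'.symm, hbp,
          hbp.symm, hbq, hbq.symm, hbne, hbne.symm, bar_inj, ht, h2', h3', ← Pi.single_add, add_assoc]
        refine single_cancel₁ _ _ ?_
        rw [show sg p q * t * (sg p q * t⁻¹) = 1 by rw [mul_mul_mul_comm, h3', mul_inv_cancel₀ ht, one_mul],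
          add_neg_cancel]
      · refine ⟨sg p q * t, ?_⟩
        simp [-Matrix.mulVec_mulVec, -Matrix.mulVec_single_one, -Matrix.mulVec_single, rflP_barp hpq, rmat_single, Matrix.mulVec_add, Matrix.mulVec_zero, hpq, hpq.symm, hl, Ne.symm hl, hl', hl'.symm, hbp,
          hbp.symm, hbq, hbq.symm, hbne, hbne.symm, bar_inj, ht, h2', h3', ← Pi.single_add, add_assoc]
        have hh : sg p q * t * (sg p q * t⁻¹) = 1 := by rw [mul_mul_mul_comm, h3', mul_inv_cancel₀ ht, one_mul]
        refine single_cancel₂ _ _ (by linear_combination -hh) ?_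
        linear_combination -(sg p q * t) * hh
  obtain ⟨c, hc⟩ := hcol
  have e : (D.π (D.wt p q t)).1 x y = ((D.π (D.wt p q t)).1 *ᵥ Pi.single y 1) x := by
    rw [Matrix.mulVec_single_one]; rfl
  rw [e, hc, Pi.single_eq_of_ne hxy]

theorem act_h (hpq : p ≠ q) {t : F} (ht : t ≠ 0) : D.Act (D.h p q t) 1 := by
  have := act_mul D (act_wt D hpq ht) (act_inv D (act_wt D hpq one_ne_zero))
  rwa [mul_inv_cancel] at this

theorem act_T {g : G} (hg : g ∈ D.T) : D.Act g 1 := by
  induction hg using Subgroup.closure_induction with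
  | mem x hx => obtain ⟨p, q, hpq, t, ht, rfl⟩ := hx; exact act_h D hpq ht
  | one => exact act_one D
  | mul x y _ _ hx hy => simpa using act_mul D hx hy
  | inv x _ hx => simpa using act_inv D hx

/-- conjugates of Weyl elements -/
theorem conj_wt {g : G} {σ : Equiv.Perm (Idx n)} (h : D.Act g σ) (hab : a ≠ b) {t : F} (ht : t ≠ 0) :
    ∃ c : F, c ≠ 0 ∧ g * D.wt a b t * g⁻¹ = D.wt (σ a) (σ b) (c * t) ∧
      g * D.wt a b 1 * g⁻¹ = D.wt (σ a) (σ b) c := by
  obtain ⟨c, hc, e1, e2⟩ := h.2.1 a b hab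
  have key : ∀ s, g * D.wt a b s * g⁻¹ = D.wt (σ a) (σ b) (c * s) := fun s => by
    simp only [Data.wt]
    rw [show ∀ x y : G, g * (x * y * x) * g⁻¹ = (g * x * g⁻¹) * (g * y * g⁻¹) * (g * x * g⁻¹) from
      fun x y => by group, e1, e2, mul_inv, mul_neg]
  exact ⟨c, hc, key t, by rw [key, mul_one]⟩

theorem T_normal {g : G} {σ : Equiv.Perm (Idx n)} (h : D.Act g σ) : ∀ t ∈ D.T, g * t * g⁻¹ ∈ D.T := by
  intro t ht
  induction ht using Subgroup.closure_induction with
  | mem x hx =>
    obtain ⟨a, b, hab, t, ht, rfl⟩ := hx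
    obtain ⟨c, hc, e1, e2⟩ := conj_wt D h hab ht
    have : g * D.h a b t * g⁻¹ = D.h (σ a) (σ b) (c * t) * (D.h (σ a) (σ b) c)⁻¹ := by
      simp only [Data.h]
      rw [show g * (D.wt a b t * (D.wt a b 1)⁻¹) * g⁻¹ = (g * D.wt a b t * g⁻¹) * (g * D.wt a b 1 * g⁻¹)⁻¹ by group,
        e1, e2]
      group
    rw [this]
    exact Subgroup.mul_mem _ (h_mem D (σ.injective.ne hab) (mul_ne_zero hc ht))
      (Subgroup.inv_mem _ (h_mem D (σ.injective.ne hab) hc))
  | one => simp
  | mul x y _ _ hx hy =>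
    rw [show g * (x * y) * g⁻¹ = (g * x * g⁻¹) * (g * y * g⁻¹) by group]; exact Subgroup.mul_mem _ hx hy
  | inv x _ hx =>
    rw [show g * x⁻¹ * g⁻¹ = (g * x * g⁻¹)⁻¹ by group]; exact Subgroup.inv_mem _ hx

/-- Weyl elements and torus of the indices from `j` on -/
def Data.N (j : ℕ) : Subgroup G :=
  Subgroup.closure ((D.T : Set G) ∪ {g | ∃ p q : Idx n, p ≠ q ∧ j ≤ (idx p : ℕ) ∧ j ≤ (idx q : ℕ) ∧ g = D.wt p q 1})

theorem T_le_N (j : ℕ) : D.T ≤ D.N j := fun _ h => Subgroup.subset_closure (Or.inl h)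

theorem wt_mem_N {j : ℕ} (hpq : p ≠ q) (hp : j ≤ (idx p : ℕ)) (hq : j ≤ (idx q : ℕ)) {t : F} (ht : t ≠ 0) :
    D.wt p q t ∈ D.N j := by
  rw [wt_eq]
  exact Subgroup.mul_mem _ (T_le_N D j (h_mem D hpq ht)) (Subgroup.subset_closure (Or.inr ⟨p, q, hpq, hp, hq, rfl⟩))

theorem act_N {j : ℕ} {g : G} (hg : g ∈ D.N j) :
    ∃ σ, D.Act g σ ∧ ∀ x, (idx x : ℕ) < j → σ x = x := by
  induction hg using Subgroup.closure_induction with
  | mem x hx =>
    rcases hx with hx | ⟨p, q, hpq, hp, hq, rfl⟩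
    · exact ⟨1, act_T D hx, fun _ _ => rfl⟩
    · refine ⟨_, act_wt D hpq one_ne_zero, fun x hx => ?_⟩
      have e : ∀ y : Idx n, (idx (bar y) : ℕ) = idx y := fun y => by rcases y with i | i <;> rfl
      exact rflP_other (fun e' => absurd hp (by rw [← e']; omega)) (fun e' => absurd hq (by rw [← e']; omega))
        (fun e' => absurd hq (by rw [← e q, ← e']; omega)) (fun e' => absurd hp (by rw [← e p, ← e']; omega))
  | one => exact ⟨1, act_one D, fun _ _ => rfl⟩
  | mul x y _ _ hx hy =>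
    obtain ⟨σ, hσ, f⟩ := hx
    obtain ⟨τ, hτ, f'⟩ := hy
    exact ⟨_, act_mul D hσ hτ, fun z hz => by rw [Equiv.Perm.mul_apply, f' z hz, f z hz]⟩
  | inv x _ hx =>
    obtain ⟨σ, hσ, f⟩ := hx
    exact ⟨_, act_inv D hσ, fun z hz => by rw [Equiv.Perm.inv_def, Equiv.symm_apply_eq, f z hz]⟩

/-- an element of the monomial subgroup with diagonal image is in the torus -/
theorem N_diag : ∀ d j : ℕ, d + j = n → ∀ g ∈ D.N j, (∀ y, (D.π g).1 y y ≠ 0) → g ∈ D.T := by
  intro d
  induction d with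
  | zero =>
    intro j hj g hg hd
    clear hd
    induction hg using Subgroup.closure_induction with
    | mem x hx =>
      rcases hx with hx | ⟨p, q, -, hp, -, -⟩
      · exact hx
      · have := (idx p).isLt; omega
    | one => exact Subgroup.one_mem _
    | mul x y _ _ hx hy => exact Subgroup.mul_mem _ hx hy
    | inv x _ hx => exact Subgroup.inv_mem _ hx
  | succ d ih =>
    intro j hj g hg hdiag
    let e : Idx n := Sum.inl ⟨j, by omega⟩
    have hie : (idx e : ℕ) = j := rfl
    have ib : ∀ y : Idx n, (idx (bar y) : ℕ) = idx y := fun y => by rcases y with i | i <;> rfl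
    have two : ∀ y : Idx n, (idx y : ℕ) = j → y = e ∨ y = bar e := fun y hy => by
      rcases y with i | i
      · exact Or.inl (congrArg Sum.inl (Fin.ext hy))
      · exact Or.inr (congrArg Sum.inr (Fin.ext hy))
    -- coset representatives by the image of `e`
    let P : G → Prop := fun g => ∃ m ∈ D.N (j + 1), g = m ∨
      ∃ x, x ≠ e ∧ j ≤ (idx x : ℕ) ∧ g = D.wt e x 1 * m
    have key : ∀ x y : Idx n, x ≠ e → y ≠ e → j ≤ (idx x : ℕ) → j ≤ (idx y : ℕ) →
        P (D.wt e y 1 * D.wt e x 1) := by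
      intro x y hx hy hjx hjy
      by_cases hxy : x = y
      · subst hxy
        refine ⟨_, T_le_N D _ ?_, Or.inl rfl⟩
        obtain ⟨θ, ha, hb, hw⟩ := wt_theta D (Ne.symm hx)
        have : D.wt e x 1 * D.wt e x 1 = D.h e x (-1) := by
          simp only [Data.h, hw, ← map_inv, ← map_mul]
          congr 1
          rw [eq_mul_inv_iff_mul_eq]
          apply ext2 <;> simp [u, lo, mul_apply2]
        rw [this]; exact h_mem D (Ne.symm hx) (neg_ne_zero.mpr one_ne_zero)
      -- move the left factor across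
      have move : ∀ {a b : Idx n}, a ≠ b → j + 1 ≤ (idx a : ℕ) → j + 1 ≤ (idx b : ℕ) →
          ∀ t : F, t ≠ 0 → D.wt a b t ∈ D.N (j + 1) := fun hab ha hb t ht => wt_mem_N D hab ha hb ht
      have hW := act_wt D (Ne.symm hx) (one_ne_zero (α := F))
      obtain ⟨c, hc, -, ec⟩ := conj_wt D (act_inv D hW) (Ne.symm hy) (one_ne_zero (α := F))
      have inv_rfl : ∀ z, (rflP e x)⁻¹ z = rflP e x z := fun z => by
        rw [Equiv.Perm.inv_def, Equiv.symm_apply_eq, rflP_rflP (Ne.symm hx)]
      rw [inv_rfl, inv_rfl, rflP_left (Ne.symm hx), inv_inv] at ec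
      have hxj : x ≠ bar e → j + 1 ≤ (idx x : ℕ) := fun h => by
        rcases Nat.lt_or_ge j (idx x : ℕ) with h' | h'
        · exact h'
        · rcases two x (le_antisymm h' hjx) with e' | e'
          exacts [absurd e' hx, absurd e' h]
      have hyj : y ≠ bar e → j + 1 ≤ (idx y : ℕ) := fun h => by
        rcases Nat.lt_or_ge j (idx y : ℕ) with h' | h'
        · exact h'
        · rcases two y (le_antisymm h' hjy) with e' | e'
          exacts [absurd e' hy, absurd e' h]
      by_cases hxe : x = bar e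
      · -- long on the right
        have hyj' := hyj (fun h => hxy (hxe.trans h.symm))
        have hybe : y ≠ bar e := fun h => hxy (hxe.trans h.symm)
        have hW' := act_wt D (Ne.symm hy) (one_ne_zero (α := F))
        obtain ⟨c1, hc1, -, e1⟩ := conj_wt D hW' (Ne.symm hx) (one_ne_zero (α := F))
        rw [rflP_left (Ne.symm hy), hxe, rflP_bar (Ne.symm hy), rflP_left (Ne.symm hy)] at e1
        set s := D.wt y (bar y) c1
        have hs : s ∈ D.N (j + 1) := move (bar_ne y).symm hyj' (by rw [ib]; exact hyj') _ hc1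
        have hs' := act_wt D (bar_ne y).symm hc1
        obtain ⟨c2, hc2, -, e2⟩ := conj_wt D hs' (Ne.symm hy) (one_ne_zero (α := F))
        have fe : rflP y (bar y) e = e := by
          refine rflP_other (Ne.symm hy) ?_ ?_ ?_
          · exact fun h => hybe (bar_eq.mp h.symm)
          · rw [bar_bar]; exact Ne.symm hy
          · exact fun h => hybe (bar_eq.mp h.symm)
        rw [fe, rflP_left (bar_ne y).symm] at e2
        refine ⟨(D.wt e (bar y) 1)⁻¹ * D.wt e y 1 * D.wt e x 1, ?_, Or.inr ⟨bar y, ?_, by rw [ib]; omega, by group⟩⟩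
        · have : D.wt e y 1 * D.wt e x 1 = D.wt e (bar y) c2 * s := by
            rw [← e2, hxe]
            calc D.wt e y 1 * D.wt e (bar e) 1
                = (D.wt e y 1 * D.wt e (bar e) 1 * (D.wt e y 1)⁻¹) * D.wt e y 1 := by group
              _ = _ := by rw [e1]; simp only [s]; group
          rw [mul_assoc _ (D.wt e y 1), this, wt_eq D (p := e) (q := bar y) c2]
          have hne : e ≠ bar y := fun h => hybe (bar_eq.mp h.symm)
          have ht := T_normal D (act_inv D (act_wt D hne (one_ne_zero (α := F)))) _ (h_mem D hne hc2)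
          rw [inv_inv] at ht
          rw [show (D.wt e (bar y) 1)⁻¹ * (D.h e (bar y) c2 * D.wt e (bar y) 1 * s) =
            ((D.wt e (bar y) 1)⁻¹ * D.h e (bar y) c2 * D.wt e (bar y) 1) * s by group]
          exact Subgroup.mul_mem _ (T_le_N D _ ht) hs
        · exact fun h => hybe (bar_eq.mp h)
      have hxj' := hxj hxe
      by_cases hyx : y = bar x
      · -- opposite short roots
        subst hyx
        have hbx : bar x ≠ bar e := fun h => hx (bar_inj.mp h)
        set s := D.wt x (bar x) 1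
        have hs : s ∈ D.N (j + 1) := move (bar_ne x).symm hxj' (by rw [ib]; exact hxj') _ one_ne_zero
        have hs' := act_wt D (bar_ne x).symm (one_ne_zero (α := F))
        have fe : rflP x (bar x) e = e := by
          refine rflP_other (Ne.symm hx) ?_ ?_ ?_
          · exact fun h => hxe (bar_eq.mp h.symm)
          · rw [bar_bar]; exact Ne.symm hx
          · exact fun h => hxe (bar_eq.mp h.symm)
        obtain ⟨c1, hc1, -, e1⟩ := conj_wt D hs' (Ne.symm hy) (one_ne_zero (α := F))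
        rw [fe, rflP_right (bar_ne x).symm] at e1
        have hW' := act_wt D (Ne.symm hy) (one_ne_zero (α := F))
        obtain ⟨c2, hc2, -, e2⟩ := conj_wt D hW' (bar_ne x).symm (one_ne_zero (α := F))
        have f1 : rflP e (bar x) x = bar e := by
          have := rflP_barq (Ne.symm hy)
          rwa [bar_bar] at this
        have f2 : rflP e (bar x) (bar x) = e := rflP_right (Ne.symm hy)
        rw [f1, f2] at e2
        obtain ⟨θ, hta, htb, hw⟩ := wt_theta D (Ne.symm hy)
        have hsq : D.wt e (bar x) 1 * D.wt e (bar x) 1 = D.h e (bar x) (-1) := by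
          simp only [Data.h, hw, ← map_inv, ← map_mul]
          congr 1
          rw [eq_mul_inv_iff_mul_eq]
          apply ext2 <;> simp [u, lo, mul_apply2]
        have hexc : D.wt e x 1 = (D.h e x c1)⁻¹ * (s * D.wt e (bar x) 1 * s⁻¹) := by
          rw [e1, wt_eq D (p := e) (q := x) c1]; group
        have swapbe : D.wt (bar e) e 1 = (D.wt e (bar e) 1)⁻¹ := wt_swap D (bar_ne e).symm
        obtain ⟨ct, hct, hct'⟩ : ∃ t ∈ D.T, D.wt e (bar x) 1 * D.wt e x 1 =
            (D.wt e (bar e) 1)⁻¹ * t * s⁻¹ := by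
          have h0 : D.wt e (bar x) 1 * D.wt e x 1 =
              (D.wt e (bar x) 1 * (D.h e x c1)⁻¹ * (D.wt e (bar x) 1)⁻¹) *
              (D.wt e (bar x) 1 * s * (D.wt e (bar x) 1)⁻¹) * (D.wt e (bar x) 1 * D.wt e (bar x) 1) * s⁻¹ := by
            rw [hexc]; group
          rw [e2, wt_eq D (p := bar e) (q := e) c2, swapbe, hsq] at h0
          have hL := act_wt D (bar_ne e).symm (one_ne_zero (α := F))
          refine ⟨D.wt e (bar e) 1 * ((D.wt e (bar x) 1 * (D.h e x c1)⁻¹ * (D.wt e (bar x) 1)⁻¹) *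
            D.h (bar e) e c2) * (D.wt e (bar e) 1)⁻¹ * D.h e (bar x) (-1), ?_, ?_⟩
          · refine Subgroup.mul_mem _ (T_normal D hL _ (Subgroup.mul_mem _ ?_ (h_mem D (bar_ne e) hc2)))
              (h_mem D (Ne.symm hy) (neg_ne_zero.mpr one_ne_zero))
            exact T_normal D hW' _ (Subgroup.inv_mem _ (h_mem D (Ne.symm hx) hc1))
          · rw [h0]; group
        refine ⟨(D.wt e (bar e) 1)⁻¹ * (D.wt e (bar x) 1 * D.wt e x 1), ?_, Or.inr ⟨bar e, bar_ne e, by rw [ib, hie], by group⟩⟩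
        rw [hct', show (D.wt e (bar e) 1)⁻¹ * ((D.wt e (bar e) 1)⁻¹ * ct * s⁻¹) =
          ((D.wt e (bar e) 1 * D.wt e (bar e) 1)⁻¹ * ct) * s⁻¹ by group]
        refine Subgroup.mul_mem _ (T_le_N D _ (Subgroup.mul_mem _ (Subgroup.inv_mem _ ?_) hct)) (Subgroup.inv_mem _ hs)
        obtain ⟨θ', -, -, hw'⟩ := wt_theta D (bar_ne e).symm
        have : D.wt e (bar e) 1 * D.wt e (bar e) 1 = D.h e (bar e) (-1) := by
          simp only [Data.h, hw', ← map_inv, ← map_mul]
          congr 1
          rw [eq_mul_inv_iff_mul_eq]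
          apply ext2 <;> simp [u, lo, mul_apply2]
        rw [this]; exact h_mem D (bar_ne e).symm (neg_ne_zero.mpr one_ne_zero)
      · -- generic
        refine ⟨D.wt x (rflP e x y) c, ?_, Or.inr ⟨x, hx, hjx, ?_⟩⟩
        · refine move (fun h => hy ?_) hxj' ?_ c hc
          · apply (rflP e x).injective; rw [rflP_left (Ne.symm hx), ← h]
          · by_cases hye : y = bar e
            · rw [hye, rflP_barp (Ne.symm hx), ib]; exact hxj'
            · rw [rflP_other hy (Ne.symm hxy) hyx hye]; exact hyj hye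
        · rw [← ec]; group
    have step : ∀ x, x ≠ e → j ≤ (idx x : ℕ) → ∀ g, P g → P (D.wt e x 1 * g) := by
      rintro x hx hjx g ⟨m, hm, rfl | ⟨y, hy, hjy, rfl⟩⟩
      · exact ⟨g, hm, Or.inr ⟨x, hx, hjx, rfl⟩⟩
      · obtain ⟨m', hm', h'⟩ := key y x hy hx hjy hjx
        refine ⟨m' * m, Subgroup.mul_mem _ hm' hm, ?_⟩
        rcases h' with h' | ⟨z, hz, hjz, h'⟩
        · exact Or.inl (by rw [← mul_assoc, h'])
        · exact Or.inr ⟨z, hz, hjz, by rw [← mul_assoc, h', mul_assoc]⟩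
    have stepT : ∀ t ∈ D.T, ∀ g, P g → P (t * g) := by
      rintro t ht g ⟨m, hm, rfl | ⟨y, hy, hjy, rfl⟩⟩
      · exact ⟨t * g, Subgroup.mul_mem _ (T_le_N D _ ht) hm, Or.inl rfl⟩
      · have := T_normal D (act_inv D (act_wt D (Ne.symm hy) (one_ne_zero (α := F)))) t ht
        exact ⟨(D.wt e y 1)⁻¹ * t * (D.wt e y 1)⁻¹⁻¹ * m, Subgroup.mul_mem _ (T_le_N D _ this) hm,
          Or.inr ⟨y, hy, hjy, by group⟩⟩
    have stepS : ∀ a b : Idx n, a ≠ b → j + 1 ≤ (idx a : ℕ) → j + 1 ≤ (idx b : ℕ) → ∀ g, P g →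
        P (D.wt a b 1 * g) := by
      rintro a b hab ha hb g ⟨m, hm, rfl | ⟨y, hy, hjy, rfl⟩⟩
      · exact ⟨D.wt a b 1 * g, Subgroup.mul_mem _ (wt_mem_N D hab ha hb one_ne_zero) hm, Or.inl rfl⟩
      · have hS := act_wt D hab (one_ne_zero (α := F))
        obtain ⟨c, hc, -, e1⟩ := conj_wt D hS (Ne.symm hy) (one_ne_zero (α := F))
        have fe : rflP a b e = e :=
          rflP_other (fun h => absurd ha (by rw [← h]; omega)) (fun h => absurd hb (by rw [← h]; omega))
            (fun h => absurd hb (by rw [← ib b, ← h]; omega)) (fun h => absurd ha (by rw [← ib a, ← h]; omega))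
        rw [fe] at e1
        have hne : e ≠ rflP a b y := fun h => hy ((rflP a b).injective (by rw [fe]; exact h.symm))
        have ht := T_normal D (act_inv D (act_wt D hne (one_ne_zero (α := F)))) _ (h_mem D hne hc)
        rw [inv_inv] at ht
        refine ⟨(D.wt e (rflP a b y) 1)⁻¹ * D.h e (rflP a b y) c * D.wt e (rflP a b y) 1 * D.wt a b 1 * m,
          Subgroup.mul_mem _ (Subgroup.mul_mem _ (T_le_N D _ ht) (wt_mem_N D hab ha hb one_ne_zero)) hm,
          Or.inr ⟨rflP a b y, hne.symm, ?_, ?_⟩⟩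
        · rcases rflP_cases (p := a) (q := b) y with h | h | h | h | ⟨q1, q2, q3, q4⟩
          · rw [h, rflP_left hab]; omega
          · rw [h, rflP_right hab]; omega
          · rw [h, rflP_barq hab, ib]; omega
          · rw [h, rflP_barp hab, ib]; omega
          · rw [rflP_other q1 q2 q3 q4]; exact hjy
        · rw [wt_eq D (p := e) (q := rflP a b y) c] at e1
          calc D.wt a b 1 * (D.wt e y 1 * m) = (D.wt a b 1 * D.wt e y 1 * (D.wt a b 1)⁻¹) * (D.wt a b 1 * m) := by group
            _ = _ := by rw [e1]; group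
    have gen : ∀ a b : Idx n, a ≠ b → j ≤ (idx a : ℕ) → j ≤ (idx b : ℕ) → ∀ g, P g →
        P (D.wt a b 1 * g) ∧ P ((D.wt a b 1)⁻¹ * g) := by
      intro a b hab ha hb g hg
      have fwd : ∀ a b : Idx n, a ≠ b → j ≤ (idx a : ℕ) → j ≤ (idx b : ℕ) → ∀ g, P g → P (D.wt a b 1 * g) := by
        intro a b hab ha hb g hg
        have aux : ∀ {x}, x ≠ e → j ≤ (idx x : ℕ) → ∀ g, P g → P ((D.wt e x 1)⁻¹ * g) := by
          intro x hx hjx g hg
          have hne := Ne.symm hx
          obtain ⟨θ, -, -, hw⟩ := wt_theta D hne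
          have : (D.wt e x 1)⁻¹ = D.h e x (-1) * D.wt e x 1 := by
            rw [Data.h, inv_mul_cancel_right, hw, hw, ← map_inv]
            congr 1
            rw [inv_eq_iff_mul_eq_one]
            apply ext2 <;> simp [u, lo, mul_apply2]
          rw [this, mul_assoc]
          exact stepT _ (h_mem D hne (neg_ne_zero.mpr one_ne_zero)) _ (step x hx hjx g hg)
        by_cases h1 : a = e
        · subst h1; exact step b (Ne.symm hab) hb g hg
        by_cases h2 : b = e
        · subst h2; rw [wt_swap D (Ne.symm h1)]; exact aux h1 ha g hg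
        by_cases h3 : b = bar e
        · have hne : bar b ≠ bar a := fun h => hab (bar_inj.mp h).symm
          have hw := wt_alias D hne
          rw [bar_bar, bar_bar] at hw
          rw [hw, wt_eq D (p := bar b) (q := bar a) (sg (bar b) (bar a)), mul_assoc]
          refine stepT _ (h_mem D hne ?_) _ ?_
          · intro h0; have := sg_sq (F := F) (bar b) (bar a); rw [h0, mul_zero] at this; exact zero_ne_one this
          · subst h3; rw [bar_bar]; exact step (bar a) (fun h => hab (bar_eq.mp h)) (by rw [ib]; exact ha) g hg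
        by_cases h4 : a = bar e
        · have hne : bar b ≠ bar a := fun h => hab (bar_inj.mp h).symm
          have hw := wt_alias D hne
          rw [bar_bar, bar_bar] at hw
          rw [hw, wt_eq D (p := bar b) (q := bar a) (sg (bar b) (bar a)), mul_assoc]
          refine stepT _ (h_mem D hne ?_) _ ?_
          · intro h0; have := sg_sq (F := F) (bar b) (bar a); rw [h0, mul_zero] at this; exact zero_ne_one this
          · subst h4
            have hx : bar b ≠ e := fun h => hab (bar_eq.mp h).symm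
            rw [bar_bar, wt_swap D (Ne.symm hx)]; exact aux hx (by rw [ib]; exact hb) g hg
        have up : ∀ y, y ≠ e → y ≠ bar e → j ≤ (idx y : ℕ) → j + 1 ≤ (idx y : ℕ) := fun y h h' hy => by
          rcases Nat.lt_or_ge j (idx y : ℕ) with hlt | hge
          · exact hlt
          · rcases two y (le_antisymm hge hy) with e' | e'
            exacts [absurd e' h, absurd e' h']
        exact stepS a b hab (up a h1 h4 ha) (up b h2 h3 hb) g hg
      exact ⟨fwd a b hab ha hb g hg, by rw [← wt_swap D hab]; exact fwd b a hab.symm hb ha g hg⟩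
    have hP : P g := by
      clear hdiag
      induction hg using Subgroup.closure_induction_left with
      | one => exact ⟨1, Subgroup.one_mem _, Or.inl rfl⟩
      | mul_left x hx y _ ih' =>
        rcases hx with hx | ⟨a, b, hab, ha, hb, rfl⟩
        exacts [stepT x hx y ih', (gen a b hab ha hb y ih').1]
      | inv_mul_cancel x hx y _ ih' =>
        rcases hx with hx | ⟨a, b, hab, ha, hb, rfl⟩
        exacts [stepT _ (Subgroup.inv_mem _ hx) y ih', (gen a b hab ha hb y ih').2]
    obtain ⟨m, hm, rfl | ⟨x, hx, -, rfl⟩⟩ := hP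
    · exact ih (j + 1) (by omega) g hm hdiag
    · exfalso
      obtain ⟨σ, hσ, hfix⟩ := act_N D hm
      have := (act_mul D (act_wt D (Ne.symm hx) (one_ne_zero (α := F))) hσ).2.2 e e (by
        rw [Equiv.Perm.mul_apply, hfix e (by omega), rflP_left (Ne.symm hx)]; exact Ne.symm hx)
      exact hdiag e this

theorem L_anti {k l : ℕ} (h : k ≤ l) : D.L l ≤ D.L k :=
  Subgroup.closure_mono fun _ ⟨x, y, hxy, t, ht⟩ => ⟨x, y, le_trans (Nat.add_le_add_left h _) hxy, t, ht⟩

theorem mem_L {k : ℕ} (h : pos a + k ≤ pos b) (r : F) : D.X a b r ∈ D.L k :=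
  Subgroup.subset_closure ⟨a, b, h, r, rfl⟩

theorem L_norm {l : ℕ} (hpq : pos p < pos q) (r : F) (hl : 1 ≤ l) :
    ∀ g ∈ D.L l, D.X p q r * g * (D.X p q r)⁻¹ ∈ D.L l := by
  intro g hg
  induction hg using Subgroup.closure_induction with
  | mem x hx =>
    obtain ⟨a, b, hab, s, rfl⟩ := hx
    have h := D.comm p q a b l hpq (by omega) (Or.inr hab) r s
    have e : D.X p q r * D.X a b s * (D.X p q r)⁻¹ = ⁅D.X p q r, D.X a b s⁆ * D.X a b s := by
      rw [commutatorElement_def]; group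
    rw [e]
    exact Subgroup.mul_mem _ (L_anti D (Nat.le_succ l) h) (mem_L D hab s)
  | one => simp
  | mul x y _ _ hx hy =>
    rw [show D.X p q r * (x * y) * (D.X p q r)⁻¹ = (D.X p q r * x * (D.X p q r)⁻¹) *
      (D.X p q r * y * (D.X p q r)⁻¹) by group]
    exact Subgroup.mul_mem _ hx hy
  | inv x _ hx =>
    rw [show D.X p q r * x⁻¹ * (D.X p q r)⁻¹ = (D.X p q r * x * (D.X p q r)⁻¹)⁻¹ by group]
    exact Subgroup.inv_mem _ hx

theorem L_norm' {k l : ℕ} (hk : 1 ≤ k) (hl : 1 ≤ l) :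
    ∀ x ∈ D.L k, ∀ y ∈ D.L l, x * y * x⁻¹ ∈ D.L l := by
  intro x hx
  induction hx using Subgroup.closure_induction_left with
  | one => simp
  | mul_left g hg z _ ih =>
    intro y hy
    obtain ⟨a, b, hab, s, rfl⟩ := hg
    have := L_norm D (p := a) (q := b) (by omega) s hl _ (ih y hy)
    convert this using 1; group
  | inv_mul_cancel g hg z _ ih =>
    intro y hy
    obtain ⟨a, b, hab, s, rfl⟩ := hg
    have hne : a ≠ b := by rintro rfl; omega
    rw [X_inv D hne]
    have := L_norm D (p := a) (q := b) (by omega) (-s) hl _ (ih y hy)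
    convert this using 1; group

theorem L_conj {k : ℕ} (hk : 1 ≤ k) (hpq : pos p < pos q) (r : F) :
    ∀ g ∈ D.L k, D.X p q r * g * (D.X p q r)⁻¹ * g⁻¹ ∈ D.L (k + 1) := by
  intro g hg
  induction hg using Subgroup.closure_induction with
  | mem x hx =>
    obtain ⟨a, b, hab, s, rfl⟩ := hx
    have h := D.comm p q a b k hpq (by omega) (Or.inr hab) r s
    rwa [commutatorElement_def] at h
  | one => simp
  | mul x y hx' _ hx hy =>
    rw [show D.X p q r * (x * y) * (D.X p q r)⁻¹ * (x * y)⁻¹ =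
      (D.X p q r * x * (D.X p q r)⁻¹ * x⁻¹) * (x * (D.X p q r * y * (D.X p q r)⁻¹ * y⁻¹) * x⁻¹) by group]
    exact Subgroup.mul_mem _ hx (L_norm' D hk (by omega) x hx' _ hy)
  | inv x hx' hx =>
    rw [show D.X p q r * x⁻¹ * (D.X p q r)⁻¹ * x⁻¹⁻¹ =
      x⁻¹ * (D.X p q r * x * (D.X p q r)⁻¹ * x⁻¹)⁻¹ * x⁻¹⁻¹ by group]
    exact L_norm' D hk (by omega) _ (Subgroup.inv_mem _ hx') _ (Subgroup.inv_mem _ hx)

/-- roots of height `k` from a set, with all higher roots -/
def Data.K (k : ℕ) (Q : Finset (Idx n × Idx n)) : Subgroup G :=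
  Subgroup.closure ({g | ∃ z ∈ Q, pos z.1 + k = pos z.2 ∧ ∃ t, g = D.X z.1 z.2 t} ∪ (D.L (k + 1) : Set G))

theorem L_matrix {k : ℕ} (hk : 1 ≤ k) : ∀ g ∈ D.L k, ∀ x y, pos y < pos x + k →
    (D.π g).1 x y = (1 : Matrix (Idx n) (Idx n) F) x y := by
  have step : ∀ a b, pos a + k ≤ pos b → ∀ r : F, ∀ A : Matrix (Idx n) (Idx n) F,
      (∀ x y, pos y < pos x + k → A x y = (1 : Matrix (Idx n) (Idx n) F) x y) →
      ∀ x y, pos y < pos x + k → ((rmat a b r : Matrix (Idx n) (Idx n) F) * A) x y = (1 : Matrix (Idx n) (Idx n) F) x y := by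
    intro a b hab r A hA x y hxy
    have one : ∀ a b : Idx n, pos a + k ≤ pos b → ∀ c : F, (Matrix.single a b c * A) x y = 0 := by
      intro a b hab c
      by_cases hx : x = a
      · subst hx
        rw [Matrix.single_mul_apply_same, hA b y (by omega),
          Matrix.one_apply_ne (fun e => by rw [e] at hab; omega), mul_zero]
      · rw [Matrix.single_mul_apply_of_ne _ _ _ _ _ hx]
    rw [rmat, add_mul, add_mul, one_mul, Matrix.add_apply, Matrix.add_apply, one a b hab, hA x y hxy]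
    split_ifs
    · simp
    · rw [one (bar b) (bar a) (by rw [pos_bar, pos_bar]; have := pos_lt b; omega), add_zero, add_zero]
  intro g hg
  induction hg using Subgroup.closure_induction_left with
  | one => intro x y _; rw [map_one]; rfl
  | mul_left g hg c _ ih =>
    obtain ⟨a, b, hab, r, rfl⟩ := hg
    intro x y hxy
    rw [map_mul, Submonoid.coe_mul, D.π_X a b (by rintro rfl; omega)]
    exact step a b hab r _ ih x y hxy
  | inv_mul_cancel g hg c _ ih =>
    obtain ⟨a, b, hab, r, rfl⟩ := hg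
    have hne : a ≠ b := by rintro rfl; omega
    intro x y hxy
    rw [X_inv D hne, map_mul, Submonoid.coe_mul, D.π_X a b hne]
    exact step a b hab (-r) _ ih x y hxy

theorem L_top : D.L (2 * n) = ⊥ := by
  rw [eq_bot_iff, Data.L, Subgroup.closure_le]
  rintro g ⟨x, y, h, -⟩
  have := pos_lt y
  omega

theorem L_inj : ∀ d k, 1 ≤ k → d + k = 2 * n → ∀ g ∈ D.L k, D.π g = 1 → g = 1 := by
  intro d
  induction d with
  | zero =>
    intro k _ hk g hg _
    rw [show k = 2 * n by omega, L_top, Subgroup.mem_bot] at hg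
    exact hg
  | succ d ih =>
    intro k hk hdk
    suffices h : ∀ Q : Finset (Idx n × Idx n), ∀ g ∈ D.K k Q, D.π g = 1 → g = 1 by
      intro g hg
      refine h Finset.univ g ?_
      induction hg using Subgroup.closure_induction with
      | mem x hx =>
        obtain ⟨a, b, hab, t, rfl⟩ := hx
        rcases Nat.eq_or_lt_of_le hab with h' | h'
        · exact Subgroup.subset_closure (Or.inl ⟨(a, b), Finset.mem_univ _, h', t, rfl⟩)
        · exact Subgroup.subset_closure (Or.inr (mem_L D (by omega) t))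
      | one => exact Subgroup.one_mem _
      | mul x y _ _ hx hy => exact Subgroup.mul_mem _ hx hy
      | inv x _ hx => exact Subgroup.inv_mem _ hx
    intro Q
    induction Q using Finset.induction_on with
    | empty =>
      intro g hg h1
      refine ih (k + 1) (by omega) (by omega) g ?_ h1
      have : D.K k ∅ ≤ D.L (k + 1) := by
        rw [Data.K, Subgroup.closure_le]
        rintro x (⟨z, hz, -⟩ | hx)
        · simp at hz
        · exact hx
      exact this hg
    | @insert z Q hz ihQ =>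
      obtain ⟨a, b⟩ := z
      by_cases hdeg : pos a + k = pos b
      swap
      · intro g hg
        refine ihQ g (Subgroup.closure_mono ?_ hg)
        rintro x (⟨z, hz', hzk, ht⟩ | hx)
        · refine Or.inl ⟨z, (Finset.mem_insert.mp hz').resolve_left ?_, hzk, ht⟩
          rintro rfl; exact hdeg hzk
        · exact Or.inr hx
      have hab : a ≠ b := by rintro rfl; omega
      by_cases halias : (bar b, bar a) ∈ Q
      · intro g hg
        refine ihQ g ((Subgroup.closure_le _).mpr ?_ hg)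
        rintro x (⟨z, hz', hzk, t, rfl⟩ | hx)
        · rcases Finset.mem_insert.mp hz' with rfl | hz'
          · refine Subgroup.subset_closure (Or.inl ⟨(bar b, bar a), halias, ?_, sg a b * t, ?_⟩)
            · show pos (bar b) + k = pos (bar a)
              rw [pos_bar, pos_bar]; have := pos_lt b; omega
            · rw [D.alias_eq a b hab, ← mul_assoc, sg_sq, one_mul]
          · exact Subgroup.subset_closure (Or.inl ⟨z, hz', hzk, t, rfl⟩)
        · exact Subgroup.subset_closure (Or.inr hx)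
      intro g hg
      have hK : D.K k Q ≤ D.L k := by
        rw [Data.K, Subgroup.closure_le]
        rintro x (⟨z, -, hzk, t, rfl⟩ | hx)
        · exact mem_L D hzk.le t
        · exact L_anti D (Nat.le_succ k) hx
      have nrm : ∀ r, ∀ v ∈ D.K k Q, D.X a b r * v * (D.X a b r)⁻¹ ∈ D.K k Q := fun r v hv => by
        have h := L_conj D hk (p := a) (q := b) (by omega) r v (hK hv)
        have := Subgroup.mul_mem _ (Subgroup.subset_closure (Or.inr h) : _ ∈ D.K k Q) hv
        rwa [inv_mul_cancel_right] at this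
      obtain ⟨r, v, hv, rfl⟩ : ∃ r, ∃ v ∈ D.K k Q, g = D.X a b r * v := by
        induction hg using Subgroup.closure_induction_left with
        | one => exact ⟨0, 1, Subgroup.one_mem _, by rw [X_zero D hab, one_mul]⟩
        | mul_left x hx y _ ih' =>
          obtain ⟨r, v, hv, rfl⟩ := ih'
          have other : x ∈ D.K k Q → ∃ r', ∃ v' ∈ D.K k Q, x * (D.X a b r * v) = D.X a b r' * v' := fun hx' =>
            ⟨r, D.X a b (-r) * x * (D.X a b (-r))⁻¹ * v, Subgroup.mul_mem _ (nrm _ x hx') hv, by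
              rw [← X_inv D hab]; group⟩
          rcases hx with ⟨z, hz', hzk, t, rfl⟩ | hx
          · rcases Finset.mem_insert.mp hz' with rfl | hz'
            · exact ⟨t + r, v, hv, by rw [X_add D hab, mul_assoc]⟩
            · exact other (Subgroup.subset_closure (Or.inl ⟨z, hz', hzk, t, rfl⟩))
          · exact other (Subgroup.subset_closure (Or.inr hx))
        | inv_mul_cancel x hx y _ ih' =>
          obtain ⟨r, v, hv, rfl⟩ := ih'
          have other : x ∈ D.K k Q → ∃ r', ∃ v' ∈ D.K k Q, x⁻¹ * (D.X a b r * v) = D.X a b r' * v' := fun hx' =>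
            ⟨r, D.X a b (-r) * x⁻¹ * (D.X a b (-r))⁻¹ * v,
              Subgroup.mul_mem _ (nrm _ _ (Subgroup.inv_mem _ hx')) hv, by rw [← X_inv D hab]; group⟩
          rcases hx with ⟨z, hz', hzk, t, rfl⟩ | hx
          · rcases Finset.mem_insert.mp hz' with rfl | hz'
            · exact ⟨-t + r, v, hv, by rw [X_inv D hab, X_add D hab, mul_assoc]⟩
            · exact other (Subgroup.subset_closure (Or.inl ⟨z, hz', hzk, t, rfl⟩))
          · exact other (Subgroup.subset_closure (Or.inr hx))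
      intro h1
      have hv0 : ∀ v ∈ D.K k Q, (D.π v).1 a b = 0 := by
        intro v hv
        induction hv using Subgroup.closure_induction_left with
        | one => rw [map_one]; exact Matrix.one_apply_ne hab
        | mul_left x hx y hy ih' =>
          have hyL := hK hy
          have xy : x ∈ D.L k ∧ (D.π x).1 a b = 0 := by
            rcases hx with ⟨z, hz', hzk, t, rfl⟩ | hx
            · obtain ⟨c, d⟩ := z
              have hcd : c ≠ d := by rintro rfl; simp at hzk; omega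
              refine ⟨mem_L D hzk.le t, ?_⟩
              rw [D.π_X c d hcd, rmat]
              have n1 : ¬(c = a ∧ d = b) := fun e => hz (by rw [← e.1, ← e.2]; exact hz')
              have n2 : ¬(bar d = a ∧ bar c = b) := fun e => halias (by
                rw [← e.1, ← e.2, bar_bar, bar_bar]; exact hz')
              split_ifs <;> simp [Matrix.one_apply_ne hab, Matrix.single_apply_of_ne _ _ _ _ _ n1,
                Matrix.single_apply_of_ne _ _ _ _ _ n2]
            · exact ⟨L_anti D (Nat.le_succ k) hx, by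
                rw [L_matrix D (by omega) x hx a b (by omega), Matrix.one_apply_ne hab]⟩
          rw [map_mul, Submonoid.coe_mul, Matrix.mul_apply]
          refine Finset.sum_eq_zero fun z _ => ?_
          by_cases hza : z = a
          · subst hza; rw [ih', mul_zero]
          by_cases hzb : z = b
          · subst hzb; rw [xy.2, zero_mul]
          by_cases hlt : pos z < pos a + k
          · rw [L_matrix D hk x xy.1 a z hlt, Matrix.one_apply_ne (Ne.symm hza), zero_mul]
          · rw [L_matrix D hk y hyL z b (by omega), Matrix.one_apply_ne hzb, mul_zero]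
        | inv_mul_cancel x hx y hy ih' =>
          have hyL := hK hy
          have xy : x⁻¹ ∈ D.L k ∧ (D.π x⁻¹).1 a b = 0 := by
            rcases hx with ⟨z, hz', hzk, t, rfl⟩ | hx
            · obtain ⟨c, d⟩ := z
              have hcd : c ≠ d := by rintro rfl; simp at hzk; omega
              refine ⟨Subgroup.inv_mem _ (mem_L D hzk.le t), ?_⟩
              show (D.π (D.X c d t)⁻¹).1 a b = 0
              rw [X_inv D hcd, D.π_X c d hcd, rmat]
              have n1 : ¬(c = a ∧ d = b) := fun e => hz (by rw [← e.1, ← e.2]; exact hz')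
              have n2 : ¬(bar d = a ∧ bar c = b) := fun e => halias (by
                rw [← e.1, ← e.2, bar_bar, bar_bar]; exact hz')
              split_ifs <;> simp [Matrix.one_apply_ne hab, Matrix.single_apply_of_ne _ _ _ _ _ n1,
                Matrix.single_apply_of_ne _ _ _ _ _ n2]
            · exact ⟨Subgroup.inv_mem _ (L_anti D (Nat.le_succ k) hx), by
                rw [L_matrix D (by omega) x⁻¹ (Subgroup.inv_mem _ hx) a b (by omega), Matrix.one_apply_ne hab]⟩
          rw [map_mul, Submonoid.coe_mul, Matrix.mul_apply]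
          refine Finset.sum_eq_zero fun z _ => ?_
          by_cases hza : z = a
          · subst hza; rw [ih', mul_zero]
          by_cases hzb : z = b
          · subst hzb; rw [xy.2, zero_mul]
          by_cases hlt : pos z < pos a + k
          · rw [L_matrix D hk _ xy.1 a z hlt, Matrix.one_apply_ne (Ne.symm hza), zero_mul]
          · rw [L_matrix D hk y hyL z b (by omega), Matrix.one_apply_ne hzb, mul_zero]
      have hr : r = 0 := by
        have he : D.π v = D.π (D.X a b (-r)) := by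
          rw [map_mul] at h1
          rw [eq_inv_of_mul_eq_one_right h1, ← map_inv, X_inv D hab]
        have h0 := hv0 v hv
        rw [he, D.π_X a b hab, rmat] at h0
        by_cases hl : b = bar a
        · rw [if_pos hl] at h0
          simpa [Matrix.one_apply_ne hab] using h0
        · have n2 : ¬(bar b = a ∧ bar a = b) := fun e => hl e.2.symm
          rw [if_neg hl] at h0
          simpa [Matrix.one_apply_ne hab, Matrix.single_apply_of_ne _ _ _ _ _ n2] using h0
      subst hr
      rw [X_zero D hab, one_mul] at h1 ⊢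
      exact ihQ v hv h1

/-- upper unitriangular image -/
theorem L_one_diag {g : G} (hg : g ∈ D.L 1) (y : Idx n) : (D.π g).1 y y = 1 := by
  rw [L_matrix D le_rfl g hg y y (by omega), Matrix.one_apply_eq]

theorem L_inj_one {g : G} (hg : g ∈ D.L 1) (h : D.π g = 1) : g = 1 := by
  rcases Nat.eq_zero_or_pos n with h0 | hpos
  · subst h0
    have : D.L 1 = ⊥ := by
      rw [eq_bot_iff, Data.L, Subgroup.closure_le]
      rintro x ⟨a, b, hab, -⟩
      have := pos_lt b; omega
    rwa [this, Subgroup.mem_bot] at hg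
  · exact L_inj D (2 * n - 1) 1 le_rfl (by omega) g hg h

/-- the torus of the long root at an index -/
def Data.T₀ (S : Finset (Fin n)) : Subgroup G :=
  Subgroup.closure {g | ∃ i ∈ S, ∃ s : F, s ≠ 0 ∧ g = D.h (Sum.inl i) (Sum.inr i) s}

theorem T_le_T0 : D.T ≤ D.T₀ Finset.univ := by
  rw [Data.T, Subgroup.closure_le]
  rintro g ⟨p, q, hpq, t, ht, rfl⟩
  have := D.h_split p q hpq t ht
  simp only [Data.h, Data.wt, inv_one] at this ⊢
  refine Subgroup.closure_mono ?_ this
  rintro x ⟨i, s, hs, rfl⟩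
  exact ⟨i, Finset.mem_univ _, s, hs, by simp [Data.h, Data.wt]⟩

theorem h_diag (i : Fin n) {s : F} (hs : s ≠ 0) :
    (∀ y : Fin n, (D.π (D.h (Sum.inl i) (Sum.inr i) s)).1 (Sum.inl y) (Sum.inl y) = if y = i then s else 1) := by
  intro y
  have hne : (Sum.inl i : Idx n) ≠ Sum.inr i := Sum.inl_ne_inr
  have hb : (Sum.inr i : Idx n) = bar (Sum.inl i) := rfl
  have hne' : bar (Sum.inl i : Idx n) ≠ Sum.inl i := bar_ne _
  have e : ∀ A : Matrix (Idx n) (Idx n) F, A (Sum.inl y) (Sum.inl y) = (A *ᵥ Pi.single (Sum.inl y) 1) (Sum.inl y) :=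
    fun A => by rw [Matrix.mulVec_single_one]; rfl
  obtain ⟨θ, a, b, hw⟩ := wt_theta D hne
  have hinv : (D.wt (Sum.inl i) (Sum.inr i) 1)⁻¹ = D.wt (Sum.inl i) (Sum.inr i) (-1) := by
    rw [hw, hw, ← map_inv]; congr 1
    rw [inv_eq_iff_mul_eq_one]
    apply ext2 <;> simp [u, lo, mul_apply2]
  show (D.π (D.h (Sum.inl i) (Sum.inr i) s)).1 (Sum.inl y) (Sum.inl y) = _
  rw [e (D.π (D.h (Sum.inl i) (Sum.inr i) s)).1, Data.h, hinv]
  simp only [Data.wt, map_mul, Submonoid.coe_mul, D.π_X _ _ hne, D.π_X _ _ hne.symm, ← Matrix.mulVec_mulVec]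
  rw [hb]
  by_cases h : y = i
  · subst h
    rw [if_pos rfl]
    simp [-Matrix.mulVec_mulVec, -Matrix.mulVec_single_one, -Matrix.mulVec_single, rmat_single, Matrix.mulVec_add,
      Matrix.mulVec_zero, bar_bar, hne', hne'.symm, hs, Pi.single_apply]
  · have h1 : (Sum.inl y : Idx n) ≠ Sum.inl i := fun e => h (Sum.inl_injective e)
    have h2 : (Sum.inl y : Idx n) ≠ bar (Sum.inl i) := by simp [bar]
    simp [-Matrix.mulVec_mulVec, -Matrix.mulVec_single_one, -Matrix.mulVec_single, rmat_single, Matrix.mulVec_add,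
      Matrix.mulVec_zero, bar_bar, hne', hne'.symm, h1, h1.symm, h2, h2.symm, h]

theorem diag_mul {g g' : G} (hg : D.Act g 1) (y : Idx n) :
    (D.π (g * g')).1 y y = (D.π g).1 y y * (D.π g').1 y y := by
  rw [map_mul, Submonoid.coe_mul, Matrix.mul_apply]
  exact Finset.sum_eq_single y (fun z _ hz => by rw [hg.2.2 y z (by simpa using Ne.symm hz), zero_mul])
    (fun h => absurd (Finset.mem_univ _) h)

theorem T0_le_T (S : Finset (Fin n)) : D.T₀ S ≤ D.T := by
  rw [Data.T₀, Subgroup.closure_le]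
  rintro g ⟨i, -, s, hs, rfl⟩
  exact h_mem D Sum.inl_ne_inr hs

theorem h_mul (hpq : p ≠ q) {s t : F} (hs : s ≠ 0) (ht : t ≠ 0) : D.h p q (s * t) = D.h p q s * D.h p q t := by
  obtain ⟨θ, -, -, hw⟩ := wt_theta D hpq
  simp only [Data.h, hw, ← map_inv, ← map_mul]
  congr 1
  have e : ∀ r : F, ∀ hr : r ≠ 0, u r * lo (-r⁻¹) * u r * (u 1 * lo (-1⁻¹) * u 1)⁻¹ =
      mk2 r 0 0 r⁻¹ (by rw [mul_inv_cancel₀ hr]; ring) := fun r hr => by
    rw [mul_inv_eq_iff_eq_mul]
    apply ext2 <;> simp [u, lo, mul_apply2, hr]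
  rw [e _ (mul_ne_zero hs ht), e s hs, e t ht]
  apply ext2 <;> simp [mul_apply2, mul_comm]

theorem T_inj {g : G} (hg : g ∈ D.T) (h : D.π g = 1) : g = 1 := by
  suffices ∀ S : Finset (Fin n), ∀ g ∈ D.T₀ S, (∀ y : Idx n, (D.π g).1 y y = 1) → g = 1 from
    this _ g (T_le_T0 D hg) fun y => by rw [h]; exact Matrix.one_apply_eq y
  intro S
  induction S using Finset.induction_on with
  | empty =>
    intro g hg _
    have : D.T₀ ∅ = ⊥ := by
      rw [eq_bot_iff, Data.T₀, Subgroup.closure_le]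
      rintro x ⟨i, hi, -⟩; simp at hi
    rwa [this, Subgroup.mem_bot] at hg
  | @insert i S hi ih =>
    intro g hg hd
    have hne : (Sum.inl i : Idx n) ≠ Sum.inr i := Sum.inl_ne_inr
    have hcm : ∀ s, s ≠ 0 → ∀ g ∈ D.T₀ Finset.univ, Commute (D.h (Sum.inl i) (Sum.inr i) s) g := by
      intro s hs g hg
      induction hg using Subgroup.closure_induction with
      | mem x hx =>
        obtain ⟨j, -, t, ht, rfl⟩ := hx
        have := D.h_comm i j s t hs ht
        simpa [Data.h, Data.wt] using this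
      | one => exact Commute.one_right _
      | mul x y _ _ hx hy => exact hx.mul_right hy
      | inv x _ hx => exact hx.inv_right
    obtain ⟨g', hg', s, hs, rfl⟩ : ∃ g' ∈ D.T₀ S, ∃ s, s ≠ 0 ∧ g = g' * D.h (Sum.inl i) (Sum.inr i) s := by
      clear hd
      induction hg using Subgroup.closure_induction with
      | mem x hx =>
        obtain ⟨j, hj, t, ht, rfl⟩ := hx
        rcases Finset.mem_insert.mp hj with rfl | hj
        · exact ⟨1, Subgroup.one_mem _, t, ht, (one_mul _).symm⟩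
        · exact ⟨_, Subgroup.subset_closure ⟨j, hj, t, ht, rfl⟩, 1, one_ne_zero, by simp [Data.h]⟩
      | one => exact ⟨1, Subgroup.one_mem _, 1, one_ne_zero, by simp [Data.h]⟩
      | mul x y _ _ hx hy =>
        obtain ⟨a, ha, s, hs, rfl⟩ := hx
        obtain ⟨b, hb, t, ht, rfl⟩ := hy
        refine ⟨a * b, Subgroup.mul_mem _ ha hb, s * t, mul_ne_zero hs ht, ?_⟩
        have hc := hcm s hs b (Subgroup.closure_mono (by
          rintro x ⟨j, -, r⟩; exact ⟨j, Finset.mem_univ _, r⟩) hb)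
        rw [h_mul D hne hs ht]
        calc a * D.h (Sum.inl i) (Sum.inr i) s * (b * D.h (Sum.inl i) (Sum.inr i) t)
            = a * (D.h (Sum.inl i) (Sum.inr i) s * b) * D.h (Sum.inl i) (Sum.inr i) t := by group
          _ = _ := by rw [hc.eq]; group
      | inv x _ hx =>
        obtain ⟨a, ha, s, hs, rfl⟩ := hx
        refine ⟨a⁻¹, Subgroup.inv_mem _ ha, s⁻¹, inv_ne_zero hs, ?_⟩
        have hi' : (D.h (Sum.inl i) (Sum.inr i) s)⁻¹ = D.h (Sum.inl i) (Sum.inr i) s⁻¹ :=
          inv_eq_of_mul_eq_one_right (by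
            rw [← h_mul D hne hs (inv_ne_zero hs), mul_inv_cancel₀ hs]; simp [Data.h])
        rw [_root_.mul_inv_rev, hi', (hcm _ (inv_ne_zero hs) a⁻¹ (Subgroup.inv_mem _ (Subgroup.closure_mono (by
          rintro x ⟨j, -, r⟩; exact ⟨j, Finset.mem_univ _, r⟩) ha))).eq]
    have hone : ∀ a ∈ D.T₀ S, (D.π a).1 (Sum.inl i) (Sum.inl i) = 1 := by
      intro a ha
      induction ha using Subgroup.closure_induction_left with
      | one => rw [map_one]; exact Matrix.one_apply_eq _
      | mul_left x hx y _ ih =>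
        obtain ⟨j, hj, t, ht, rfl⟩ := hx
        have hji : i ≠ j := fun e => hi (e ▸ hj)
        rw [diag_mul D (act_h D Sum.inl_ne_inr ht), h_diag D j ht, if_neg hji, ih, one_mul]
      | inv_mul_cancel x hx y _ ih =>
        obtain ⟨j, hj, t, ht, rfl⟩ := hx
        have hji : i ≠ j := fun e => hi (e ▸ hj)
        have hi' : (D.h (Sum.inl j) (Sum.inr j) t)⁻¹ = D.h (Sum.inl j) (Sum.inr j) t⁻¹ :=
          inv_eq_of_mul_eq_one_right (by
            rw [← h_mul D Sum.inl_ne_inr ht (inv_ne_zero ht), mul_inv_cancel₀ ht]; simp [Data.h])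
        rw [hi', diag_mul D (act_h D Sum.inl_ne_inr (inv_ne_zero ht)), h_diag D j (inv_ne_zero ht), if_neg hji, ih,
          one_mul]
    have hg'T := T0_le_T D S hg'
    have hs1 := hd (Sum.inl i)
    rw [diag_mul D (act_T D hg'T), hone g' hg', h_diag D i hs, if_pos rfl, one_mul] at hs1
    subst hs1
    have e1 : D.h (Sum.inl i) (Sum.inr i) (1 : F) = 1 := by simp [Data.h]
    rw [e1, mul_one] at hd ⊢
    exact ih g' hg' hd

theorem wt_simple_conj (hpq : pos p + 1 = pos q) :
    ∀ g ∈ Subgroup.closure {g | ∃ a b, pos a < pos b ∧ (a, b) ≠ (p, q) ∧ (a, b) ≠ (bar q, bar p) ∧ ∃ t, g = D.X a b t},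
      D.wt p q 1 * g * (D.wt p q 1)⁻¹ ∈ D.L 1 := by
  have hne : p ≠ q := by rintro rfl; omega
  intro g hg
  induction hg using Subgroup.closure_induction with
  | mem x hx =>
    obtain ⟨a, b, hab, n1, n2, t, rfl⟩ := hx
    obtain ⟨c, -, e1, -⟩ := (act_wt D hne (one_ne_zero (α := F))).2.1 a b (by rintro rfl; omega)
    rw [e1]
    refine mem_L D ?_ _
    have hb1 := pos_lt b
    have hq := pos_lt q
    have ha1 := pos_lt a
    have f : ∀ x, (x = p ∧ pos (rflP p q x) = pos q) ∨ (x = q ∧ pos (rflP p q x) = pos p) ∨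
        (x = bar q ∧ pos (rflP p q x) = 2 * n - 1 - pos p) ∨ (x = bar p ∧ pos (rflP p q x) = 2 * n - 1 - pos q) ∨
        (pos x ≠ pos p ∧ pos x ≠ pos q ∧ pos x ≠ 2 * n - 1 - pos q ∧ pos x ≠ 2 * n - 1 - pos p ∧
          pos (rflP p q x) = pos x) := fun x => by
      rcases rflP_cases (p := p) (q := q) x with h | h | h | h | ⟨h1, h2, h3, h4⟩
      · exact Or.inl ⟨h, by rw [h, rflP_left hne]⟩
      · exact Or.inr (Or.inl ⟨h, by rw [h, rflP_right hne]⟩)
      · exact Or.inr (Or.inr (Or.inl ⟨h, by rw [h, rflP_barq hne, pos_bar]⟩))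
      · exact Or.inr (Or.inr (Or.inr (Or.inl ⟨h, by rw [h, rflP_barp hne, pos_bar]⟩)))
      · refine Or.inr (Or.inr (Or.inr (Or.inr ⟨?_, ?_, ?_, ?_, by rw [rflP_other h1 h2 h3 h4]⟩)))
        · exact fun e => h1 (pos_inj e)
        · exact fun e => h2 (pos_inj e)
        · exact fun e => h3 (pos_inj (by rw [pos_bar, e]))
        · exact fun e => h4 (pos_inj (by rw [pos_bar, e]))
    have k1 : ¬(pos a = pos p ∧ pos b = pos q) := fun e => n1 (by rw [pos_inj e.1, pos_inj e.2])
    have k2 : ¬(pos a = 2 * n - 1 - pos q ∧ pos b = 2 * n - 1 - pos p) := fun e =>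
      n2 (by rw [pos_inj (x := a) (y := bar q) (by rw [pos_bar, e.1]), pos_inj (x := b) (y := bar p) (by rw [pos_bar, e.2])])
    rcases f a with ⟨ea, fa⟩ | ⟨ea, fa⟩ | ⟨ea, fa⟩ | ⟨ea, fa⟩ | ⟨ea1, ea2, ea3, ea4, fa⟩ <;>
      rcases f b with ⟨eb, fb⟩ | ⟨eb, fb⟩ | ⟨eb, fb⟩ | ⟨eb, fb⟩ | ⟨eb1, eb2, eb3, eb4, fb⟩ <;>
      (try have ha' := congrArg pos ea) <;> (try have hb' := congrArg pos eb) <;>
      (try simp only [pos_bar] at ha') <;> (try simp only [pos_bar] at hb') <;> omega
  | one => simp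
  | mul x y _ _ hx hy =>
    rw [show D.wt p q 1 * (x * y) * (D.wt p q 1)⁻¹ = (D.wt p q 1 * x * (D.wt p q 1)⁻¹) *
      (D.wt p q 1 * y * (D.wt p q 1)⁻¹) by group]
    exact Subgroup.mul_mem _ hx hy
  | inv x _ hx =>
    rw [show D.wt p q 1 * x⁻¹ * (D.wt p q 1)⁻¹ = (D.wt p q 1 * x * (D.wt p q 1)⁻¹)⁻¹ by group]
    exact Subgroup.inv_mem _ hx

theorem L_split (hpq : pos p + 1 = pos q) : ∀ g ∈ D.L 1, ∃ v ∈
    Subgroup.closure {g | ∃ a b, pos a < pos b ∧ (a, b) ≠ (p, q) ∧ (a, b) ≠ (bar q, bar p) ∧ ∃ t, g = D.X a b t},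
    ∃ r, g = v * D.X p q r := by
  have hne : p ≠ q := by rintro rfl; omega
  set V := Subgroup.closure {g | ∃ a b, pos a < pos b ∧ (a, b) ≠ (p, q) ∧ (a, b) ≠ (bar q, bar p) ∧ ∃ t, g = D.X a b t}
  have hL2 : D.L 2 ≤ V := by
    rw [Data.L, Subgroup.closure_le]
    rintro x ⟨a, b, hab, t, rfl⟩
    refine Subgroup.subset_closure ⟨a, b, by omega, ?_, ?_, t, rfl⟩ <;> rintro h <;>
      simp only [Prod.mk.injEq] at h
    · rw [h.1, h.2] at hab; omega
    · rw [h.1, h.2, pos_bar, pos_bar] at hab; omega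
  have hVL : V ≤ D.L 1 := by
    rw [Subgroup.closure_le]; rintro x ⟨a, b, hab, -, -, t, rfl⟩; exact mem_L D (by omega) t
  have nrm : ∀ r, ∀ v ∈ V, D.X p q r * v * (D.X p q r)⁻¹ ∈ V := fun r v hv => by
    have := Subgroup.mul_mem _ (hL2 (L_conj D le_rfl (p := p) (q := q) (by omega) r v (hVL hv))) hv
    rwa [inv_mul_cancel_right] at this
  intro g hg
  have gen : ∀ a b t, pos a + 1 ≤ pos b → ∀ y, (∃ v ∈ V, ∃ r, y = v * D.X p q r) →
      ∃ v ∈ V, ∃ r, D.X a b t * y = v * D.X p q r := by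
    rintro a b t hab _ ⟨v, hv, r, rfl⟩
    have main : ∀ s, ∃ v' ∈ V, ∃ r', D.X p q s * (v * D.X p q r) = v' * D.X p q r' := fun s =>
      ⟨_, nrm s v hv, s + r, by rw [X_add D hne]; group⟩
    by_cases h1 : (a, b) = (p, q)
    · obtain ⟨rfl, rfl⟩ := Prod.ext_iff.mp h1; exact main t
    by_cases h2 : (a, b) = (bar q, bar p)
    · obtain ⟨rfl, rfl⟩ := Prod.ext_iff.mp h2
      rw [D.alias_eq p q hne]; exact main _
    exact ⟨_, Subgroup.mul_mem _ (Subgroup.subset_closure ⟨a, b, by omega, h1, h2, t, rfl⟩) hv, r,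
      (mul_assoc _ _ _).symm⟩
  induction hg using Subgroup.closure_induction_left with
  | one => exact ⟨1, Subgroup.one_mem _, 0, by rw [X_zero D hne, one_mul]⟩
  | mul_left x hx y _ ih => obtain ⟨a, b, hab, t, rfl⟩ := hx; exact gen a b t hab y ih
  | inv_mul_cancel x hx y _ ih =>
    obtain ⟨a, b, hab, t, rfl⟩ := hx
    rw [X_inv D (by rintro rfl; omega)]; exact gen a b (-t) hab y ih

theorem T_norm_L {t : G} (ht : t ∈ D.T) : ∀ u ∈ D.L 1, t * u * t⁻¹ ∈ D.L 1 := by
  intro u hu
  induction hu using Subgroup.closure_induction with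
  | mem x hx =>
    obtain ⟨a, b, hab, r, rfl⟩ := hx
    obtain ⟨c, -, e1, -⟩ := (act_T D ht).2.1 a b (by rintro rfl; omega)
    rw [e1]; exact mem_L D hab _
  | one => simp
  | mul x y _ _ hx hy =>
    rw [show t * (x * y) * t⁻¹ = (t * x * t⁻¹) * (t * y * t⁻¹) by group]; exact Subgroup.mul_mem _ hx hy
  | inv x _ hx =>
    rw [show t * x⁻¹ * t⁻¹ = (t * x * t⁻¹)⁻¹ by group]; exact Subgroup.inv_mem _ hx

/-- the cells -/
def Data.Y (g : G) : Prop := ∃ u ∈ D.L 1, ∃ m ∈ D.N 0, ∃ u' ∈ D.L 1, g = u * m * u'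

theorem Y_L {x g : G} (hx : x ∈ D.L 1) (hg : D.Y g) : D.Y (x * g) := by
  obtain ⟨u, hu, m, hm, u', hu', rfl⟩ := hg
  exact ⟨x * u, Subgroup.mul_mem _ hx hu, m, hm, u', hu', by group⟩

theorem Y_T {x g : G} (hx : x ∈ D.T) (hg : D.Y g) : D.Y (x * g) := by
  obtain ⟨u, hu, m, hm, u', hu', rfl⟩ := hg
  exact ⟨x * u * x⁻¹, T_norm_L D hx u hu, x * m, Subgroup.mul_mem _ (T_le_N D 0 hx) hm, u', hu', by group⟩

theorem Y_wt (hpq : pos p + 1 = pos q) {g : G} (hg : D.Y g) : D.Y (D.wt p q 1 * g) := by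
  have hne : p ≠ q := by rintro rfl; omega
  have hz : ∀ z : Idx n, (0 : ℕ) ≤ (idx z : ℕ) := fun z => Nat.zero_le _
  obtain ⟨u, hu, m, hm, u', hu', rfl⟩ := hg
  obtain ⟨v, hv, r, rfl⟩ := L_split D hpq u hu
  obtain ⟨σ, hσ, -⟩ := act_N D hm
  have hvv := wt_simple_conj D hpq v hv
  rw [show D.wt p q 1 * (v * D.X p q r * m * u') =
    (D.wt p q 1 * v * (D.wt p q 1)⁻¹) * (D.wt p q 1 * D.X p q r * m * u') by group]
  refine Y_L D hvv ?_
  have hwN : D.wt p q 1 ∈ D.N 0 := wt_mem_N D hne (hz p) (hz q) one_ne_zero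
  obtain ⟨c, hc, e1, e2⟩ := (act_inv D hσ).2.1 p q hne
  rw [inv_inv] at e1 e2
  by_cases hr : r = 0
  · subst hr
    exact ⟨1, Subgroup.one_mem _, D.wt p q 1 * m, Subgroup.mul_mem _ hwN hm, u', hu', by
      rw [X_zero D hne]; group⟩
  rcases Nat.lt_or_ge (pos (σ⁻¹ p)) (pos (σ⁻¹ q)) with hlt | hge
  · refine ⟨1, Subgroup.one_mem _, D.wt p q 1 * m, Subgroup.mul_mem _ hwN hm,
      D.X (σ⁻¹ p) (σ⁻¹ q) (c * r) * u', Subgroup.mul_mem _ (mem_L D (by omega) _) hu', ?_⟩
    rw [← e1]; group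
  · have hlt : pos (σ⁻¹ q) < pos (σ⁻¹ p) := lt_of_le_of_ne hge fun e => hne.symm (σ⁻¹.injective (pos_inj e))
    obtain ⟨θ, a, b, hw⟩ := wt_theta D hne
    have key : D.wt p q 1 * D.X p q r = D.X p q (-r⁻¹) * D.h p q (-r⁻¹) * D.X q p r⁻¹ := by
      simp only [Data.h, hw, ← a, ← b, ← map_inv, ← map_mul]
      congr 1
      have e : ∀ s : F, ∀ hs : s ≠ 0, u s * lo (-s⁻¹) * u s * (u 1 * lo (-1⁻¹) * u 1)⁻¹ =
          mk2 s 0 0 s⁻¹ (by rw [mul_inv_cancel₀ hs]; ring) := fun s hs => by
        rw [mul_inv_eq_iff_eq_mul]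
        apply ext2 <;> simp [u, lo, mul_apply2, hs]
      rw [e _ (neg_ne_zero.mpr (inv_ne_zero hr))]
      apply ext2 <;> simp [u, lo, mul_apply2, hr]
    rw [key]
    refine ⟨D.X p q (-r⁻¹), mem_L D (by omega) _, D.h p q (-r⁻¹) * m,
      Subgroup.mul_mem _ (T_le_N D 0 (h_mem D hne (neg_ne_zero.mpr (inv_ne_zero hr)))) hm,
      D.X (σ⁻¹ q) (σ⁻¹ p) (c⁻¹ * r⁻¹) * u', Subgroup.mul_mem _ (mem_L D (by omega) _) hu', ?_⟩
    rw [← e2]; group

/-- injectivity -/
theorem injective (hgen : Subgroup.closure {g | ∃ p q : Idx n, p ≠ q ∧ ∃ r, g = D.X p q r} = ⊤) :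
    Function.Injective D.π := by
  have hz : ∀ z : Idx n, (0 : ℕ) ≤ (idx z : ℕ) := fun z => Nat.zero_le _
  set K := Subgroup.closure ((D.L 1 : Set G) ∪ D.T ∪ {g | ∃ p q, pos p + 1 = pos q ∧ g = D.wt p q 1})
  have kL : ∀ {x}, x ∈ D.L 1 → x ∈ K := fun h => Subgroup.subset_closure (Or.inl (Or.inl h))
  have hneg : ∀ d : ℕ, ∀ a b : Idx n, pos b < pos a → pos a - pos b ≤ d → ∀ r, D.X a b r ∈ K := by
    intro d
    induction d with
    | zero => intro a b h h'; omega
    | succ d ih =>
      intro a b hab hd r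
      -- the simple root just above the lower end
      obtain ⟨c, hc⟩ : ∃ c : Idx n, pos c = pos b + 1 := by
        have ha := pos_lt a
        by_cases h : pos b + 1 < n
        · exact ⟨Sum.inl ⟨pos b + 1, h⟩, rfl⟩
        · exact ⟨Sum.inr ⟨2 * n - 1 - (pos b + 1), by omega⟩, by show 2 * n - 1 - (2 * n - 1 - (pos b + 1)) = pos b + 1; omega⟩
      have hbc : b ≠ c := by rintro rfl; omega
      -- the exceptional case: use the simple root just below the upper end
      by_cases hac : a = bar c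
      · have hpa : pos a = 2 * n - 1 - pos c := by rw [hac, pos_bar]
        have hca : a ≠ c := by rw [hac]; exact bar_ne c
        have hpa' : pos a ≠ pos c := fun e => hca (pos_inj e)
        obtain ⟨c', hc'⟩ : ∃ c' : Idx n, pos c' + 1 = pos a := by
          have ha := pos_lt a
          by_cases h : pos a - 1 < n
          · exact ⟨Sum.inl ⟨pos a - 1, h⟩, by show pos a - 1 + 1 = pos a; omega⟩
          · exact ⟨Sum.inr ⟨2 * n - 1 - (pos a - 1), by omega⟩, by
              show 2 * n - 1 - (2 * n - 1 - (pos a - 1)) + 1 = pos a; omega⟩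
        have hca' : c' ≠ a := by rintro rfl; omega
        have hw : D.wt c' a 1 ∈ K := Subgroup.subset_closure (Or.inr ⟨c', a, hc', rfl⟩)
        have hab' : a ≠ b := by rintro rfl; omega
        have q1 : b ≠ c' := by rintro rfl; omega
        have q3 : b ≠ bar a := fun e => by rw [e, pos_bar] at hc; have := pos_lt c; omega
        have q4 : b ≠ bar c' := fun e => by
          have := congrArg pos e; rw [pos_bar] at this; omega
        obtain ⟨k, hk, e1, -⟩ := (act_wt D hca' (one_ne_zero (α := F))).2.1 a b hab'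
        rw [rflP_right hca', rflP_other q1 hab'.symm q3 q4] at e1
        have mem : D.X c' b (k * r) ∈ K := ih c' b (by omega) (by omega) _
        rw [show D.X a b r = (D.wt c' a 1)⁻¹ * D.X c' b (k * r) * D.wt c' a 1 by rw [← e1]; group]
        exact Subgroup.mul_mem _ (Subgroup.mul_mem _ (Subgroup.inv_mem _ hw) mem) hw
      have hw : D.wt b c 1 ∈ K := Subgroup.subset_closure (Or.inr ⟨b, c, hc.symm, rfl⟩)
      obtain ⟨k, hk, e1, -⟩ := (act_wt D hbc (one_ne_zero (α := F))).2.1 a b (by rintro rfl; omega)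
      rw [rflP_left hbc] at e1
      have hne' : rflP b c a ≠ c := fun e => by
        have := (rflP b c).injective (e.trans (rflP_left hbc).symm); subst this; omega
      have mem : D.X (rflP b c a) c (k * r) ∈ K := by
        rcases Nat.lt_or_ge (pos (rflP b c a)) (pos c) with h | h
        · exact kL (mem_L D (by omega) _)
        refine ih _ c (lt_of_le_of_ne h fun e => hne' (pos_inj e.symm)) ?_ _
        rcases rflP_cases (p := b) (q := c) a with e | e | e | e | ⟨q1, q2, q3, q4⟩
        · rw [e] at hab; omega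
        · rw [e, rflP_right hbc] at h; omega
        · exact absurd e hac
        · rw [e, rflP_barp hbc, pos_bar]; rw [e, pos_bar] at hd hab; omega
        · rw [rflP_other q1 q2 q3 q4]; omega
      rw [show D.X a b r = (D.wt b c 1)⁻¹ * D.X (rflP b c a) c (k * r) * D.wt b c 1 by rw [← e1]; group]
      exact Subgroup.mul_mem _ (Subgroup.mul_mem _ (Subgroup.inv_mem _ hw) mem) hw
  have hK : K = ⊤ := by
    rw [eq_top_iff, ← hgen, Subgroup.closure_le]
    rintro x ⟨p, q, hpq, r, rfl⟩
    rcases Nat.lt_or_ge (pos p) (pos q) with h | h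
    · exact kL (mem_L D (by omega) r)
    · exact hneg _ p q (lt_of_le_of_ne h fun e => hpq (pos_inj e.symm)) le_rfl r
  refine (injective_iff_map_eq_one D.π).mpr fun g hg => ?_
  have hY : D.Y g := by
    have hgK : g ∈ K := hK ▸ Subgroup.mem_top g
    clear hg
    induction hgK using Subgroup.closure_induction_left with
    | one => exact ⟨1, Subgroup.one_mem _, 1, Subgroup.one_mem _, 1, Subgroup.one_mem _, by group⟩
    | mul_left x hx y _ ih =>
      rcases hx with (hx | hx) | ⟨p, q, hpq, rfl⟩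
      exacts [Y_L D hx ih, Y_T D hx ih, Y_wt D hpq ih]
    | inv_mul_cancel x hx y _ ih =>
      rcases hx with (hx | hx) | ⟨p, q, hpq, rfl⟩
      · exact Y_L D (Subgroup.inv_mem _ hx) ih
      · exact Y_T D (Subgroup.inv_mem _ hx) ih
      · have hne : p ≠ q := by rintro rfl; omega
        obtain ⟨θ, -, -, hw⟩ := wt_theta D hne
        have : (D.wt p q 1)⁻¹ = D.h p q (-1) * D.wt p q 1 := by
          rw [Data.h, inv_mul_cancel_right, hw, hw, ← map_inv]
          congr 1
          rw [inv_eq_iff_mul_eq_one]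
          apply ext2 <;> simp [u, lo, mul_apply2]
        rw [this, mul_assoc]
        exact Y_T D (h_mem D hne (neg_ne_zero.mpr one_ne_zero)) (Y_wt D hpq ih)
  obtain ⟨u, hu, m, hm, u', hu', rfl⟩ := hY
  have hmv : D.π m = D.π (u⁻¹ * u'⁻¹) := by
    rw [← map_one D.π] at hg
    have := congrArg (fun z => D.π u⁻¹ * z * D.π u'⁻¹) hg
    simp only [← map_mul] at this
    rw [mul_one, show u⁻¹ * (u * m * u') * u'⁻¹ = m by group] at this
    exact this
  have hvL : u⁻¹ * u'⁻¹ ∈ D.L 1 := Subgroup.mul_mem _ (Subgroup.inv_mem _ hu) (Subgroup.inv_mem _ hu')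
  have hmT : m ∈ D.T := N_diag D n 0 (by omega) m hm fun y => by
    rw [hmv, L_one_diag D hvL]; exact one_ne_zero
  have hone : D.π m = 1 := by
    apply Subtype.ext
    show (D.π m).1 = (1 : Matrix (Idx n) (Idx n) F)
    ext x y
    by_cases hxy : x = y
    · subst hxy; rw [hmv, L_one_diag D hvL, Matrix.one_apply_eq]
    · rw [(act_T D hmT).2.2 x y (by simpa using hxy), Matrix.one_apply_ne hxy]
  have hm1 := T_inj D hmT hone
  subst hm1
  rw [mul_one] at hg ⊢
  exact L_inj_one D (Subgroup.mul_mem _ hu hu') hg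

end Cfsg.Agent.ShortPresCn
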