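import Cfsg.Agent.Lib.DBruhat47

/-!
A group generated by involutions attached to the roots of type `D`, permuted by one another as the
reflections are, is no larger than the group of signed permutations they give.
-/

set_option autoImplicit false
set_option linter.unusedSectionVars false

namespace Cfsg.Agent.ShortPresDWeyl

open DChain47 DBruhat47

variable {m : ℕ}

theorem sp_comm (p q : Ind m) : sp q p = sp p q := by
  rw [sp, sp, Equiv.swap_comm q p, Equiv.swap_comm q.swap p.swap]

theorem sp_anti {p q : Ind m} (h : sup p ≠ sup q) : sp q.swap p.swap = sp p q := by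
  refine Equiv.ext fun c => rk_inj ?_
  rw [rk_sp (show sup q.swap ≠ sup p.swap by simpa [sup_swap] using h.symm), rk_sp h, rk_swap, rk_swap]
  have := rk_le c
  have := rk_le p
  have := rk_le q
  have := rk_sum h
  split_ifs <;> omega

theorem sp_sq {p q : Ind m} (h : sup p ≠ sup q) : sp p q * sp p q = 1 := by
  refine Equiv.ext fun c => rk_inj ?_
  rw [Equiv.Perm.mul_apply, rk_sp h, rk_sp h]
  have := rk_le c
  have := rk_le p
  have := rk_le q
  have := rk_sum h
  show _ = rk c
  split_ifs <;> omega

theorem sp_conj {p q : Ind m} (h : sup p ≠ sup q) (c e : Ind m) :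
    sp p q * sp c e * sp p q = sp (sp p q c) (sp p q e) := by
  have hi : (sp p q)⁻¹ = sp p q := inv_eq_of_mul_eq_one_right (sp_sq h)
  have key : ∀ a b, sp p q * Equiv.swap a b * sp p q = Equiv.swap (sp p q a) (sp p q b) := fun a b => by
    conv_lhs => arg 2; rw [← hi]
    rw [Equiv.mul_swap_eq_swap_mul, mul_inv_cancel_right]
  calc sp p q * sp c e * sp p q
      = (sp p q * Equiv.swap c e * sp p q) * (sp p q * Equiv.swap c.swap e.swap * sp p q) := by
        simp only [mul_assoc]
        rw [← mul_assoc (sp p q) (sp p q), sp_sq h, one_mul]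
        conv_lhs => arg 2; arg 1; unfold sp
        simp only [mul_assoc]
    _ = _ := by rw [key, key, sp_swap h, sp_swap h]; rfl

/-- involutions attached to the roots, permuted as reflections -/
structure Refl {Z : Type*} [Group Z] (z : Ind m → Ind m → Z) : Prop where
  symm : ∀ p q, sup p ≠ sup q → z q p = z p q
  anti : ∀ p q, sup p ≠ sup q → z q.swap p.swap = z p q
  sq : ∀ p q, sup p ≠ sup q → z p q * z p q = 1
  conj : ∀ p q c e, sup p ≠ sup q → sup c ≠ sup e → z p q * z c e * z p q = z (sp p q c) (sp p q e)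

theorem refl_sp : Refl (Z := Equiv.Perm (Ind m)) sp :=
  ⟨fun p q _ => sp_comm p q, fun _ _ h => sp_anti h, fun _ _ h => sp_sq h, fun _ _ c e h _ => sp_conj h c e⟩

section abstract

variable {Z : Type*} [Group Z] (z : Ind m → Ind m → Z) (act : Z →* Equiv.Perm (Ind m))

/-- the roots with supports below `k` -/
def K (k : ℕ) : Subgroup Z :=
  Subgroup.closure {g | ∃ p q, sup p ≠ sup q ∧ (sup p).val < k ∧ (sup q).val < k ∧ g = z p q}

theorem z_mem_K {p q : Ind m} (h : sup p ≠ sup q) {k : ℕ} (hp : (sup p).val < k) (hq : (sup q).val < k) :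
    z p q ∈ K z k :=
  Subgroup.subset_closure ⟨p, q, h, hp, hq, rfl⟩

variable {z act} (R : Refl z) (hact : ∀ p q, sup p ≠ sup q → act (z p q) = sp p q)

include R hact

theorem action {k : ℕ} {g : Z} (hg : g ∈ K z k) :
    (∀ d : Ind m, act g d.swap = (act g d).swap) ∧ (∀ d : Ind m, k ≤ (sup d).val → act g d = d) ∧
      ∀ c e, sup c ≠ sup e → g * z c e * g⁻¹ = z (act g c) (act g e) := by
  have step : ∀ p q, sup p ≠ sup q → (sup p).val < k → (sup q).val < k → ∀ y : Z,
      ((∀ d : Ind m, act y d.swap = (act y d).swap) ∧ (∀ d : Ind m, k ≤ (sup d).val → act y d = d) ∧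
        ∀ c e, sup c ≠ sup e → y * z c e * y⁻¹ = z (act y c) (act y e)) →
      ((∀ d : Ind m, act (z p q * y) d.swap = (act (z p q * y) d).swap) ∧
        (∀ d : Ind m, k ≤ (sup d).val → act (z p q * y) d = d) ∧
        ∀ c e, sup c ≠ sup e → z p q * y * z c e * (z p q * y)⁻¹ = z (act (z p q * y) c) (act (z p q * y) e)) := by
    rintro p q h hp hq y ⟨y1, y2, y3⟩
    refine ⟨fun d => ?_, fun d hd => ?_, fun c e hce => ?_⟩
    · rw [map_mul, hact p q h, Equiv.Perm.mul_apply, y1, sp_swap h, Equiv.Perm.mul_apply]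
    · rw [map_mul, hact p q h, Equiv.Perm.mul_apply, y2 d hd]
      exact sp_other (fun e => by rw [e] at hd; omega) (fun e => by rw [e] at hd; omega)
    · rw [map_mul, hact p q h, Equiv.Perm.mul_apply, Equiv.Perm.mul_apply,
        ← R.conj p q _ _ h (sup_ne y1 hce), ← y3 c e hce, _root_.mul_inv_rev,
        inv_eq_of_mul_eq_one_right (R.sq p q h)]
      group
  induction hg using Subgroup.closure_induction_left with
  | one => exact ⟨fun d => by simp, fun d _ => by simp, fun c e _ => by simp⟩
  | mul_left x hx y _ ih =>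
    obtain ⟨p, q, h, hp, hq, rfl⟩ := hx
    exact step p q h hp hq y ih
  | inv_mul_cancel x hx y _ ih =>
    obtain ⟨p, q, h, hp, hq, rfl⟩ := hx
    rw [inv_eq_of_mul_eq_one_right (R.sq p q h)]
    exact step p q h hp hq y ih

theorem preserve {k : ℕ} {g : Z} (hg : g ∈ K z k) {d : Ind m} (hd : (sup d).val < k) : (sup (act g d)).val < k := by
  by_contra hc
  push Not at hc
  have h2 := (action R hact (inv_mem hg)).2.1 (act g d) hc
  rw [map_inv, Equiv.Perm.inv_def, Equiv.symm_apply_apply] at h2
  rw [← h2] at hc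
  omega

variable {k : Fin (m + 1)}

/-- the sign change at `0` and `k` -/
def flip (z : Ind m → Ind m → Z) (k : Fin (m + 1)) : Z :=
  z (.inl 0) (.inl k) * z (.inr 0) (.inl k)

theorem flip_props (hk : k ≠ 0) : flip z k ∈ K z (k.val + 1) ∧ flip z k * flip z k = 1 ∧
    act (flip z k) (.inl k) = .inr k ∧ z (.inr 0) (.inl k) * z (.inl 0) (.inl k) = flip z k := by
  have h1 : sup (.inl 0 : Ind m) ≠ sup (.inl k : Ind m) := hk.symm
  have h2 : sup (.inr 0 : Ind m) ≠ sup (.inl k : Ind m) := hk.symm
  have hc : z (.inl 0) (.inl k) * z (.inr 0) (.inl k) * z (.inl 0) (.inl k) = z (.inr 0) (.inl k) := by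
    rw [R.conj _ _ _ _ h1 h2, sp_right h1, show (.inr 0 : Ind m) = (Sum.inl 0 : Ind m).swap from rfl, sp_swap h1,
      sp_left h1]
    exact R.anti _ _ h2
  have hcomm : z (.inr 0) (.inl k) * z (.inl 0) (.inl k) = flip z k := by
    rw [flip]
    nth_rw 1 [← hc]
    rw [mul_assoc, R.sq _ _ h1, mul_one]
  have h0 : (0 : Fin (m + 1)).val < k.val + 1 := by simp
  refine ⟨mul_mem (z_mem_K z h1 h0 (Nat.lt_succ_self k.val)) (z_mem_K z h2 h0 (Nat.lt_succ_self k.val)), ?_, ?_,
    hcomm⟩
  · nth_rw 2 [← hcomm]
    rw [flip, mul_assoc, ← mul_assoc (z (.inr 0) (.inl k)), R.sq _ _ h2, one_mul, R.sq _ _ h1]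
  · rw [flip, map_mul, hact _ _ h1, hact _ _ h2, Equiv.Perm.mul_apply, sp_right h2,
      show (.inr 0 : Ind m) = (Sum.inl 0 : Ind m).swap from rfl, sp_swap h1, sp_left h1]
    rfl

theorem flip_key (hk : k ≠ 0) {d : Ind m} (hd : (sup d).val < k.val) :
    flip z k * (z (.inl k) d.swap * z (.inl k) d) ∈ K z k.val := by
  obtain ⟨fm, fsq, fk, fc⟩ := flip_props R hact hk
  have hk0 : 0 < k.val := Nat.pos_of_ne_zero fun e => hk (Fin.ext e)
  have h1 : sup (.inl 0 : Ind m) ≠ sup (.inl k : Ind m) := hk.symm
  have h2 : sup (.inr 0 : Ind m) ≠ sup (.inl k : Ind m) := hk.symm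
  by_cases h0 : sup d = 0
  · rcases d with a | a <;> simp only [sup, Sum.elim_inl, Sum.elim_inr, id] at h0 <;> subst h0
    · rw [Sum.swap_inl, R.symm _ _ h2, R.symm _ _ h1, fc, fsq]
      exact one_mem _
    · rw [Sum.swap_inr, R.symm _ _ h1, R.symm _ _ h2, show z (.inl 0) (.inl k) * z (.inr 0) (.inl k) = flip z k from rfl,
        fsq]
      exact one_mem _
  · have hne : sup (.inl 0 : Ind m) ≠ sup d := fun e => h0 e.symm
    have hkd : sup (.inl k : Ind m) ≠ sup (.inl 0 : Ind m) := hk
    have hfix : sp (.inl 0) d (.inl k) = .inl k :=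
      sp_other hk (fun e => by have := congrArg Fin.val e; change k.val = (sup d).val at this; omega)
    have e1 : z (.inl 0) d * z (.inl k) (.inl 0) * z (.inl 0) d = z (.inl k) d := by
      rw [R.conj _ _ _ _ hne hkd, hfix, sp_left hne]
    have e2 : z (.inl 0) d * z (.inl k) (.inr 0) * z (.inl 0) d = z (.inl k) d.swap := by
      rw [R.conj _ _ _ _ hne (show sup (.inl k : Ind m) ≠ sup (.inr 0 : Ind m) from hk), hfix, show (.inr 0 : Ind m) = (Sum.inl 0 : Ind m).swap from rfl, sp_swap hne,
        sp_left hne]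
    have e3 : z (.inl k) d.swap * z (.inl k) d = z (.inl 0) d * flip z k * z (.inl 0) d := by
      rw [← e1, ← e2, R.symm _ _ h1, R.symm _ _ h2, ← fc]
      calc _ = z (.inl 0) d * z (.inr 0) (.inl k) * (z (.inl 0) d * z (.inl 0) d) * z (.inl 0) (.inl k) *
            z (.inl 0) d := by group
        _ = _ := by rw [R.sq _ _ hne]; group
    have pres : ∀ x : Ind m, (sup x).val < k.val → (sup (act (flip z k) x)).val < k.val := by
      intro x hx
      have h' := preserve R hact fm (show (sup x).val < k.val + 1 by omega)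
      by_contra hc
      have e : sup (act (flip z k) x) = k := Fin.ext (by omega)
      have hinv : ∀ y, act (flip z k) (act (flip z k) y) = y := fun y => by
        rw [← Equiv.Perm.mul_apply, ← map_mul, fsq, map_one]; rfl
      rcases hy : act (flip z k) x with a | a <;> rw [hy] at e <;>
        simp only [sup, Sum.elim_inl, Sum.elim_inr, id] at e <;> subst e <;> have := hinv x <;> rw [hy] at this
      · rw [fk] at this; subst this; simp [sup] at hx
      · rw [show (Sum.inr a : Ind m) = (Sum.inl a : Ind m).swap from rfl, (action R hact fm).1, fk] at this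
        subst this; simp [sup] at hx
    have e4 : flip z k * z (.inl 0) d * flip z k =
        z (act (flip z k) (.inl 0)) (act (flip z k) d) := by
      rw [← (action R hact fm).2.2 _ _ hne]
      congr 1
      exact (inv_eq_of_mul_eq_one_right fsq).symm
    rw [e3, ← mul_assoc, ← mul_assoc, e4]
    exact mul_mem (z_mem_K z (sup_ne (action R hact fm).1 hne) (pres _ hk0) (pres _ hd))
      (z_mem_K z hne hk0 hd)

/-- representatives of the cosets of the smaller group -/
def rep (z : Ind m → Ind m → Z) (k : Fin (m + 1)) (d : Ind m) : Z :=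
  if d = .inl k then 1 else if d = .inr k then flip z k else z (.inl k) d

theorem rep_props (hk : k ≠ 0) {d : Ind m} (hd : (sup d).val < k.val + 1) :
    rep z k d ∈ K z (k.val + 1) ∧ act (rep z k d) (.inl k) = d := by
  unfold rep
  by_cases h1 : d = .inl k
  · subst h1; simp
  by_cases h2 : d = .inr k
  · subst h2
    obtain ⟨fm, -, fk, -⟩ := flip_props R hact hk
    simp [fm, fk]
  rw [if_neg h1, if_neg h2]
  have hne : sup (.inl k : Ind m) ≠ sup d := by
    intro e
    rcases d with a | a <;> simp only [sup, Sum.elim_inl, Sum.elim_inr, id] at e <;> subst e <;> simp_all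
  refine ⟨z_mem_K z hne (Nat.lt_succ_self k.val) hd, ?_⟩
  rw [hact _ _ hne, sp_left hne]

theorem rep_step (hk : k ≠ 0) {p q : Ind m} (h : sup p ≠ sup q) (hp : (sup p).val < k.val + 1)
    (hq : (sup q).val < k.val + 1) {d : Ind m} (hd : (sup d).val < k.val + 1) :
    ∃ d', (sup d').val < k.val + 1 ∧ ∃ g ∈ K z k.val, z p q * rep z k d = rep z k d' * g := by
  obtain ⟨hm, hk'⟩ := rep_props R hact hk hd
  by_cases hfix : sp p q d = d
  · refine ⟨d, hd, (rep z k d)⁻¹ * z p q * rep z k d, ?_, by group⟩
    have h3 := (action R hact (inv_mem hm)).2.2 p q h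
    rw [inv_inv] at h3
    rw [h3]
    have low : ∀ x, (sup x).val < k.val + 1 → sup x ≠ sup d →
        (sup (act (rep z k d)⁻¹ x)).val < k.val := by
      intro x hx hxd
      have h4 := preserve R hact (inv_mem hm) hx
      by_contra hc
      have e : sup (act (rep z k d)⁻¹ x) = k := Fin.ext (by omega)
      have e' : act (rep z k d) (act (rep z k d)⁻¹ x) = x := by
        rw [map_inv, Equiv.Perm.inv_def, Equiv.apply_symm_apply]
      rcases hy : act (rep z k d)⁻¹ x with a | a <;> rw [hy] at e e' <;>
        simp only [sup, Sum.elim_inl, Sum.elim_inr, id] at e <;> subst e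
      · exact hxd (by rw [← e', hk'])
      · rw [show (Sum.inr a : Ind m) = (Sum.inl a : Ind m).swap from rfl, (action R hact hm).1, hk'] at e'
        exact hxd (by rw [← e', sup_swap])
    have hpd : sup p ≠ sup d := by
      intro e
      rcases p with a | a <;> rcases d with b | b <;> simp only [sup, Sum.elim_inl, Sum.elim_inr, id] at e <;>
        subst e
      · rw [sp_left h] at hfix; exact h (by rw [hfix])
      · rw [show (Sum.inr a : Ind m) = (Sum.inl a : Ind m).swap from rfl, sp_swap h, sp_left h] at hfix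
        exact h (by rw [Function.LeftInverse.injective (fun x : Ind m => Sum.swap_swap x) hfix])
      · rw [show (Sum.inl a : Ind m) = (Sum.inr a : Ind m).swap from rfl, sp_swap h, sp_left h] at hfix
        exact h (by rw [Function.LeftInverse.injective (fun x : Ind m => Sum.swap_swap x) hfix])
      · rw [sp_left h] at hfix; exact h (by rw [hfix])
    have hqd : sup q ≠ sup d := by
      intro e
      rcases q with a | a <;> rcases d with b | b <;> simp only [sup, Sum.elim_inl, Sum.elim_inr, id] at e <;>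
        subst e
      · rw [sp_right h] at hfix; exact h (by rw [hfix])
      · rw [show (Sum.inr a : Ind m) = (Sum.inl a : Ind m).swap from rfl, sp_swap h, sp_right h] at hfix
        exact h (by rw [Function.LeftInverse.injective (fun x : Ind m => Sum.swap_swap x) hfix])
      · rw [show (Sum.inl a : Ind m) = (Sum.inr a : Ind m).swap from rfl, sp_swap h, sp_right h] at hfix
        exact h (by rw [Function.LeftInverse.injective (fun x : Ind m => Sum.swap_swap x) hfix])
      · rw [sp_right h] at hfix; exact h (by rw [hfix])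
    exact z_mem_K z (sup_ne (action R hact (inv_mem hm)).1 h) (low p hp hpd) (low q hq hqd)
  -- the reflection moves `d`
  set y := sp p q d with hy
  have hyd : sup d ≠ sup y ∧ z p q = z d y ∧ (sup y).val < k.val + 1 := by
    have h' : sup q.swap ≠ sup p.swap := by simpa [sup_swap] using h.symm
    by_cases a1 : d = p
    · rw [hy, a1, sp_left h]; exact ⟨h, rfl, hq⟩
    by_cases a2 : d = q
    · rw [hy, a2, sp_right h]; exact ⟨h.symm, (R.symm _ _ h).symm, hp⟩
    by_cases a3 : d = p.swap
    · rw [hy, a3, sp_swap h, sp_left h]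
      refine ⟨by simpa [sup_swap] using h, ?_, by rwa [sup_swap]⟩
      rw [R.symm _ _ h', R.anti _ _ h]
    by_cases a4 : d = q.swap
    · rw [hy, a4, sp_swap h, sp_right h]
      exact ⟨h', (R.anti _ _ h).symm, by rwa [sup_swap]⟩
    exfalso
    exact hfix (by rw [hy, sp, Equiv.Perm.mul_apply, Equiv.swap_apply_of_ne_of_ne a3 a4,
      Equiv.swap_apply_of_ne_of_ne a1 a2])
  obtain ⟨hdy, hz, hyk⟩ := hyd
  refine ⟨y, hyk, (rep z k y)⁻¹ * (z p q * rep z k d), ?_, by group⟩
  rw [hz]
  obtain ⟨-, fsq, -, -⟩ := flip_props R hact hk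
  have finv : (flip z k)⁻¹ = flip z k := inv_eq_of_mul_eq_one_right fsq
  have top : ∀ x : Ind m, sup x = k → x = .inl k ∨ x = .inr k := by
    rintro (a | a) e <;> simp only [sup, Sum.elim_inl, Sum.elim_inr, id] at e <;> subst e <;> simp
  by_cases hdk : sup d = k
  · have hyk' : sup y ≠ k := fun e => hdy (hdk.trans e.symm)
    have hyl : (sup y).val < k.val := by
      have := Fin.val_injective.ne hyk'; omega
    have ny : y ≠ .inl k ∧ y ≠ .inr k := ⟨fun e => hyk' (by rw [e]; rfl), fun e => hyk' (by rw [e]; rfl)⟩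
    rcases top d hdk with rfl | rfl
    · rw [rep, rep, if_neg ny.1, if_neg ny.2, if_pos rfl, mul_one, inv_mul_cancel]
      exact one_mem _
    · have hky : sup (.inl k : Ind m) ≠ sup y := fun e => hyk' e.symm
      have hky' : sup (.inl k : Ind m) ≠ sup y.swap := by rwa [sup_swap]
      have hh := inv_mem (flip_key R hact hk hyl)
      rw [_root_.mul_inv_rev, _root_.mul_inv_rev, inv_eq_of_mul_eq_one_right (R.sq _ _ hky'), finv] at hh
      have hk2 : z (.inr k) y = z (.inl k) y.swap := by
        rw [← R.anti (.inr k) y hdy, ← R.symm (.inl k) y.swap hky']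
        rfl
      rw [rep, rep, if_neg ny.1, if_neg ny.2, if_neg (by simp), if_pos rfl, hk2, ← mul_assoc]
      exact hh
  · have nd : d ≠ .inl k ∧ d ≠ .inr k := ⟨fun e => hdk (by rw [e]; rfl), fun e => hdk (by rw [e]; rfl)⟩
    have hkd : sup (.inl k : Ind m) ≠ sup d := fun e => hdk e.symm
    have hdl : (sup d).val < k.val := by
      have := Fin.val_injective.ne hdk; omega
    have hrep : rep z k d = z (.inl k) d := by rw [rep, if_neg nd.1, if_neg nd.2]
    by_cases hy' : sup y = k
    · rcases top y hy' with e | e <;> rw [e] at hdy ⊢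
      · rw [hrep, rep, if_pos rfl, inv_one, one_mul, ← R.symm _ _ hdy, R.sq _ _ hkd]
        exact one_mem _
      · rw [hrep, rep, if_neg (by simp), if_pos rfl, finv, ← R.anti _ _ hdy]
        exact flip_key R hact hk hdl
    · have hyl : (sup y).val < k.val := by
        have := Fin.val_injective.ne hy'; omega
      have ny : y ≠ .inl k ∧ y ≠ .inr k := ⟨fun e => hy' (by rw [e]; rfl), fun e => hy' (by rw [e]; rfl)⟩
      have hky : sup (.inl k : Ind m) ≠ sup y := fun e => hy' e.symm
      rw [hrep, rep, if_neg ny.1, if_neg ny.2, inv_eq_of_mul_eq_one_right (R.sq _ _ hky)]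
      have e : z d y * z (.inl k) d * z d y = z (.inl k) y := by
        rw [R.conj _ _ _ _ hdy hkd, sp_other hkd hky, sp_left hdy]
      rw [← e]
      have e' : z d y * z (.inl k) d * z d y * (z d y * z (.inl k) d) = z d y := by
        calc _ = z d y * z (.inl k) d * (z d y * z d y) * z (.inl k) d := by group
          _ = z d y * (z (.inl k) d * z (.inl k) d) := by rw [R.sq _ _ hdy]; group
          _ = _ := by rw [R.sq _ _ hkd, mul_one]
      rw [e']
      exact z_mem_K z hdy hdl hyl

/-- the group is faithful on signed indices -/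
theorem eq_one : ∀ k : ℕ, k ≤ m + 1 → ∀ g ∈ K z k, act g = 1 → g = 1 := by
  intro k
  induction k with
  | zero =>
    intro _ g hg _
    have h : K z 0 ≤ ⊥ := by
      rw [K, Subgroup.closure_le]
      rintro _ ⟨p, q, -, hp, -⟩
      omega
    exact Subgroup.mem_bot.1 (h hg)
  | succ k ih =>
    intro hk g hg hg1
    rcases Nat.eq_zero_or_pos k with rfl | hpos
    · have h : K z 1 ≤ ⊥ := by
        rw [K, Subgroup.closure_le]
        rintro _ ⟨p, q, hpq, hp, hq, -⟩
        exact absurd (Fin.ext (by omega)) hpq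
      exact Subgroup.mem_bot.1 (h hg)
    let k' : Fin (m + 1) := ⟨k, by omega⟩
    have hk0 : k' ≠ 0 := fun e => by simp [k', Fin.ext_iff] at e; omega
    have split : ∃ d : Ind m, (sup d).val < k + 1 ∧ ∃ b ∈ K z k, g = rep z k' d * b := by
      clear hg1
      induction hg using Subgroup.closure_induction_left with
      | one => exact ⟨.inl k', Nat.lt_succ_self k, 1, one_mem _, by rw [rep, if_pos rfl, mul_one]⟩
      | mul_left x hx y _ ih' =>
        obtain ⟨p, q, h, hp, hq, rfl⟩ := hx
        obtain ⟨d, hd, b, hb, rfl⟩ := ih'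
        obtain ⟨d', hd', b', hb', e⟩ := rep_step (k := k') R hact hk0 h hp hq hd
        exact ⟨d', hd', b' * b, mul_mem hb' hb, by rw [← mul_assoc, e, mul_assoc]⟩
      | inv_mul_cancel x hx y _ ih' =>
        obtain ⟨p, q, h, hp, hq, rfl⟩ := hx
        obtain ⟨d, hd, b, hb, rfl⟩ := ih'
        obtain ⟨d', hd', b', hb', e⟩ := rep_step (k := k') R hact hk0 h hp hq hd
        rw [inv_eq_of_mul_eq_one_right (R.sq p q h)]
        exact ⟨d', hd', b' * b, mul_mem hb' hb, by rw [← mul_assoc, e, mul_assoc]⟩
    obtain ⟨d, hd, b, hb, rfl⟩ := split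
    have hb1 := (action R hact hb).2.1 (.inl k') (le_refl k)
    have hd1 : d = .inl k' := by
      rw [← (rep_props (k := k') R hact hk0 hd).2]
      conv_lhs => arg 2; rw [← hb1]
      rw [← Equiv.Perm.mul_apply, ← map_mul, hg1]
      rfl
    subst hd1
    rw [rep, if_pos rfl, one_mul] at hg1 ⊢
    exact ih (by omega) b hb hg1

end abstract

/-- **faithfulness**: reflections determine the elements -/
theorem faithful {Q : Type*} [Group Q] {s : Ind m → Ind m → Q} (R : Refl s) {g : Q}
    (hg : (g, (1 : Equiv.Perm (Ind m))) ∈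
      Subgroup.closure {y : Q × Equiv.Perm (Ind m) | ∃ p q, sup p ≠ sup q ∧ y = (s p q, sp p q)}) : g = 1 := by
  have R' : Refl (fun p q : Ind m => (s p q, sp p q)) :=
    ⟨fun p q h => Prod.ext (R.symm p q h) (sp_comm p q), fun p q h => Prod.ext (R.anti p q h) (sp_anti h),
      fun p q h => Prod.ext (R.sq p q h) (sp_sq h),
      fun p q c e h h' => Prod.ext (R.conj p q c e h h') (sp_conj h c e)⟩
  have := eq_one (act := MonoidHom.snd Q (Equiv.Perm (Ind m))) R' (fun _ _ _ => rfl) (m + 1) le_rfl _
    (Subgroup.closure_mono (by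
      rintro _ ⟨p, q, h, rfl⟩
      exact ⟨p, q, h, (sup p).isLt, (sup q).isLt, rfl⟩) hg) rfl
  exact congrArg Prod.fst this

end Cfsg.Agent.ShortPresDWeyl
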