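import Cfsg.Agent.Lib.ShortPresOmegaModel
import Cfsg.Agent.Lib.ShortPresDWeyl

/-!
A group generated by `SL(n)` and one further element with four families of relations is the group generated
by the root elements of the hyperbolic orthogonal group of rank `n`.
-/

set_option autoImplicit false
set_option backward.isDefEq.respectTransparency false
set_option linter.unusedSectionVars false

namespace Cfsg.Agent.ShortPresOmegaInj

open PSL2Elements hiding w
open Matrix QuadraticMap ShortPresSL StemSLnTv ShortPresSpCore ShortPresBlockEmb ShortPresOmegaModel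
open DChain47 DOrth47 DBruhat47 OrthUnitaryQuad OrthUnitaryRefl OrthUnitarySimple OrthUnitaryStd
open scoped MatrixGroups

variable {F : Type*} [Field F]

theorem up_u (t : F) : (SL3Edge47.up t : SL(2, F)) = u t := by apply ext2 <;> simp [SL3Edge47.up, u]

theorem lo_lo (t : F) : (SL3Edge47.lo t : SL(2, F)) = lo t := by apply ext2 <;> simp [SL3Edge47.lo, lo]

theorem wj_W : (SLChain47.wj : SL(2, F)) = SL2PresData.W := by
  apply ext2 <;> simp [SLChain47.wj, SL2PresData.W]

/-- a Weyl element of `SL(2)` -/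
def wt (s : F) : SL(2, F) := u s * lo (-s⁻¹) * u s

theorem wt_div {s v : F} (hs : s ≠ 0) (hv : v ≠ 0) :
    wt s * (wt v)⁻¹ = d (Units.mk0 (s / v) (div_ne_zero hs hv)) := by
  rw [mul_inv_eq_iff_eq_mul]
  apply ext2 <;> simp [wt, u, lo, d, mul_apply2] <;> field_simp <;> ring

theorem wt_flip {s : F} (hs : s ≠ 0) : lo s * u (-s⁻¹) * lo s = wt (-s⁻¹) := by
  apply ext2 <;> simp [wt, u, lo, mul_apply2] <;> field_simp <;> first | ring1 | simp

/-- conjugation by `diag(1, 1, -1)` -/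
def negLast : SL(3, F) →* SL(3, F) where
  toFun g := ⟨!![g.1 0 0, g.1 0 1, -g.1 0 2; g.1 1 0, g.1 1 1, -g.1 1 2; -g.1 2 0, -g.1 2 1, g.1 2 2], by
    have := g.2
    rw [Matrix.det_fin_three] at this
    rw [Matrix.det_fin_three]
    simp
    linear_combination this⟩
  map_one' := Subtype.ext (Matrix.ext fun i l => by fin_cases i <;> fin_cases l <;> simp)
  map_mul' g g' := Subtype.ext (Matrix.ext fun i l => by
    fin_cases i <;> fin_cases l <;> simp [Matrix.mul_apply, Fin.sum_univ_three] <;> ring)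

theorem negLast_b12 (x : SL(2, F)) : negLast (SL3Edge47.b12 x) = SL3Edge47.b12 x :=
  Subtype.ext (Matrix.ext fun i l => by fin_cases i <;> fin_cases l <;> simp [negLast, SL3Edge47.coe_b12])

theorem negLast_b23 (x : SL(2, F)) : negLast (SL3Edge47.b23 x) = SL3Edge47.b23 (SL3Edge47.delta x) :=
  Subtype.ext (Matrix.ext fun i l => by
    fin_cases i <;> fin_cases l <;> simp [negLast, SL3Edge47.coe_b23, SL3Edge47.coe_delta])

section Chart
variable {m : ℕ} {H : Type*} [Group H] (π : H →* orth (qD F m))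

theorem wc_other {p q d : Ind m} (a : sup d ≠ sup p) (b : sup d ≠ sup q) (t : F) : wc p q t d = 1 := by
  rw [wc, if_neg (fun e => b (by rw [e])), if_neg (fun e => a (by rw [e])),
    if_neg (fun e => a (by rw [e, sup_swap])), if_neg (fun e => b (by rw [e, sup_swap]))]

theorem wc_vals {p q : Ind m} (h : sup p ≠ sup q) (t : F) :
    wc p q t q = t ∧ wc p q t p = -t⁻¹ ∧ wc p q t p.swap = -t ∧ wc p q t q.swap = t⁻¹ := by
  have n1 : p ≠ q := fun e => h (by rw [e])
  have n2 : p.swap ≠ q := fun e => h (by rw [← e, sup_swap])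
  have n3 : p.swap ≠ p := by rcases p with a | a <;> simp
  have n4 : q.swap ≠ q := by rcases q with a | a <;> simp
  have n5 : q.swap ≠ p := fun e => h (by rw [← e, sup_swap])
  have n6 : q.swap ≠ p.swap := fun e => h (by simpa [sup_swap] using (congrArg sup e).symm)
  simp [wc, n1, n2, n3, n4, n5, n6]

theorem pi_W {p q : Ind m} (ψ : ℕ → SL(2, F) →* H) (k : ℕ) (hu : ∀ s, π (ψ k (SL3Edge47.up s)) = rt F p q s)
    (hl : ∀ s, π (ψ k (SL3Edge47.lo s)) = rt F q p s) : π (SLChain47.W ψ k) = wr p q 1 := by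
  rw [SLChain47.W, SLChain47.wj_eq, map_mul, map_mul, map_mul, map_mul, hu, hl, wr, inv_one]

variable (ψ : ℕ → SL(2, F) →* H) (e : Fin (m + 1) → Ind m) (he : ∀ a, sup (e a) = a)
  (hu : ∀ k (hk : k < m) s, π (ψ k (SL3Edge47.up s)) = rt F (e ⟨k, by omega⟩) (e ⟨k + 1, by omega⟩) s)
  (hl : ∀ k (hk : k < m) s, π (ψ k (SL3Edge47.lo s)) = rt F (e ⟨k + 1, by omega⟩) (e ⟨k, by omega⟩) s)

include he hu hl

theorem pi_xu : ∀ d a (h : a + d + 1 ≤ m) t,
    π (SLChain47.xu ψ a d t) = rt F (e ⟨a, by omega⟩) (e ⟨a + d + 1, by omega⟩) t := by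
  intro d
  induction d with
  | zero => intro a h t; exact hu a (by omega) t
  | succ d ih =>
    intro a h t
    rw [SLChain47.xu, SLChain47.cj, map_mul, map_mul, map_inv, ih a (by omega),
      pi_W π ψ _ (hu _ (by omega)) (hl _ (by omega))]
    have hn : sup (e ⟨a + d + 1, by omega⟩) ≠ sup (e ⟨a + d + 1 + 1, by omega⟩) := by
      rw [he, he]; simp [Fin.ext_iff]
    have h1 : sup (e ⟨a, by omega⟩) ≠ sup (e ⟨a + d + 1, by omega⟩) := by rw [he, he]; simp [Fin.ext_iff]; omega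
    have h2 : sup (e ⟨a, by omega⟩) ≠ sup (e ⟨a + d + 1 + 1, by omega⟩) := by rw [he, he]; simp [Fin.ext_iff]; omega
    rw [(oMono_wr hn one_ne_zero).conj_rt h1 (by rw [sp_other h1 h2, sp_left hn]; exact h2), sp_other h1 h2,
      sp_left hn, wc_other h1 h2, (wc_vals hn 1).2.2.1]
    congr 1
    ring

omit hl in
theorem pi_lo_swap : ∀ k (hk : k < m) s,
    π (SLChain47.tr ψ k (SL3Edge47.lo s)) = rt F (e ⟨k + 1, by omega⟩).swap (e ⟨k, by omega⟩).swap s := by
  intro k hk s
  rw [SLChain47.tr, MonoidHom.comp_apply, SLChain47.it_lo, hu k hk, rt_anti (by rw [he, he]; simp [Fin.ext_iff])]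

omit hu in
theorem pi_up_swap : ∀ k (hk : k < m) s,
    π (SLChain47.tr ψ k (SL3Edge47.up s)) = rt F (e ⟨k, by omega⟩).swap (e ⟨k + 1, by omega⟩).swap s := by
  intro k hk s
  rw [SLChain47.tr, MonoidHom.comp_apply, SLChain47.it_up, hl k hk, rt_anti (by rw [he, he]; simp [Fin.ext_iff])]

theorem pi_x {a b : Fin (m + 1)} (hab : a ≠ b) (t : F) : π (SLChain47.x ψ a.val b.val t) = rt F (e a) (e b) t := by
  have hv := Fin.val_injective.ne hab
  have := a.isLt
  have := b.isLt
  by_cases h : a.val < b.val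
  · rw [SLChain47.x, if_pos h, pi_xu π ψ e he hu hl _ _ (by omega)]
    congr 2 <;> exact Fin.ext (by simp; omega)
  · rw [SLChain47.x, if_neg h, pi_xu π (SLChain47.tr ψ) (fun c => (e c).swap) (fun c => by rw [sup_swap, he])
      (pi_up_swap π ψ e he hl) (pi_lo_swap π ψ e he hu) _ _ (by omega)]
    have e1 : (⟨b.val, by omega⟩ : Fin (m + 1)) = b := rfl
    have e2 : (⟨b.val + (a.val - b.val - 1) + 1, by omega⟩ : Fin (m + 1)) = a := Fin.ext (by simp; omega)
    rw [e1, e2, rt_anti (by rw [he, he]; exact hab), neg_neg]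

variable (φ : ℕ → SL(2, F) →* H)
  (fu : ∀ k (hk : k < m) s, π (φ k (SL3Edge47.up s)) = rt F (e ⟨k, by omega⟩)
    (if k + 1 = m then (e ⟨k + 1, by omega⟩).swap else e ⟨k + 1, by omega⟩) s)
  (fl : ∀ k (hk : k < m) s, π (φ k (SL3Edge47.lo s)) = rt F
    (if k + 1 = m then (e ⟨k + 1, by omega⟩).swap else e ⟨k + 1, by omega⟩) (e ⟨k, by omega⟩) s)

include fu fl

theorem pi_pu {i : Fin (m + 1)} : ∀ r (h : i.val + r < m) t,
    π (pu m ψ φ i.val r t) = rt F (e i) (e ⟨m - r, by omega⟩).swap t := by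
  intro r
  induction r with
  | zero =>
    intro h t
    let e' : Fin (m + 1) → Ind m := fun c => if c.val = m then (e c).swap else e c
    have he' : ∀ c, sup (e' c) = c := fun c => by simp only [e']; split_ifs <;> simp [sup_swap, he]
    have := pi_x π φ e' he' (fun k hk s => ?_) (fun k hk s => ?_) (a := i) (b := Fin.last m)
      (by simp [Fin.ext_iff]; omega) t
    · rw [Fin.val_last] at this
      rw [pu, this]
      simp [e', show ¬ i.val = m by omega]
      rfl
    · rw [fu k hk]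
      simp [e', show ¬ k = m by omega]
    · rw [fl k hk]
      simp [e', show ¬ k = m by omega]
  | succ r ih =>
    intro h t
    rw [pu, SLChain47.cj, map_mul, map_mul, map_inv, ih (by omega),
      pi_W π ψ (m - (r + 1)) (hu _ (by omega)) (hl _ (by omega))]
    have hn : sup (e ⟨m - (r + 1), by omega⟩) ≠ sup (e ⟨m - (r + 1) + 1, by omega⟩) := by
      rw [he, he]; simp [Fin.ext_iff]
    have h1 : sup (e i) ≠ sup (e ⟨m - (r + 1), by omega⟩) := by rw [he, he]; simp [Fin.ext_iff]; omega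
    have h2 : sup (e i) ≠ sup (e ⟨m - (r + 1) + 1, by omega⟩) := by rw [he, he]; simp [Fin.ext_iff]; omega
    have eq : (⟨m - r, by omega⟩ : Fin (m + 1)) = ⟨m - (r + 1) + 1, by omega⟩ := Fin.ext (by simp; omega)
    rw [eq, (oMono_wr hn one_ne_zero).conj_rt (by rwa [sup_swap]) (by
        rw [sp_other h1 h2, sp_swap hn, sp_right hn, sup_swap]; exact h1),
      sp_other h1 h2, sp_swap hn, sp_right hn, wc_other h1 h2, Sum.swap_swap, (wc_vals hn 1).1, mul_one, mul_one]

theorem pi_P {i j : Fin (m + 1)} (hij : i ≠ j) (t : F) : π (P m ψ φ i.val j.val t) = rt F (e i) (e j).swap t := by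
  have hv := Fin.val_injective.ne hij
  have := i.isLt
  have := j.isLt
  by_cases h : i.val < j.val
  · rw [P, if_pos h, pi_pu π ψ e he hu hl φ fu fl _ (by omega)]
    congr 3
    exact Fin.ext (by simp; omega)
  · rw [P, if_neg h, pi_pu π ψ e he hu hl φ fu fl _ (by omega)]
    rw [show (⟨m - (m - i.val), by omega⟩ : Fin (m + 1)) = i from Fin.ext (by simp; omega)]
    conv_rhs => rw [show e i = ((e i).swap).swap from (Sum.swap_swap _).symm,
      rt_anti (show sup (e j) ≠ sup (e i).swap by rw [sup_swap, he, he]; exact hij.symm)]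

omit he hu hl fu fl in
theorem pi_xD (hu : ∀ k (hk : k < m) s, π (ψ k (SL3Edge47.up s)) =
      rt F (.inl ⟨k, by omega⟩ : Ind m) (.inl ⟨k + 1, by omega⟩) s)
    (hl : ∀ k (hk : k < m) s, π (ψ k (SL3Edge47.lo s)) =
      rt F (.inl ⟨k + 1, by omega⟩ : Ind m) (.inl ⟨k, by omega⟩) s)
    (fu : ∀ k (hk : k < m) s, π (φ k (SL3Edge47.up s)) = rt F (.inl ⟨k, by omega⟩ : Ind m)
      (if k + 1 = m then .inr ⟨k + 1, by omega⟩ else .inl ⟨k + 1, by omega⟩) s)
    (fl : ∀ k (hk : k < m) s, π (φ k (SL3Edge47.lo s)) = rt F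
      (if k + 1 = m then .inr ⟨k + 1, by omega⟩ else .inl ⟨k + 1, by omega⟩) (.inl ⟨k, by omega⟩ : Ind m) s)
    (p q : Ind m) (h : sup p ≠ sup q) (t : F) : π (xD m ψ φ p q t) = rt F p q t := by
  have tu : ∀ k (hk : k < m) s, π (SLChain47.tr φ k (SL3Edge47.up s)) = rt F (.inr ⟨k, by omega⟩ : Ind m)
      (if k + 1 = m then (Sum.inr ⟨k + 1, by omega⟩ : Ind m).swap else .inr ⟨k + 1, by omega⟩) s := fun k hk s => by
    rw [SLChain47.tr, MonoidHom.comp_apply, SLChain47.it_up, fl k hk,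
      ← rt_anti (by split_ifs <;> simp [sup, Fin.ext_iff])]
    split_ifs <;> rfl
  have tl : ∀ k (hk : k < m) s, π (SLChain47.tr φ k (SL3Edge47.lo s)) = rt F
      (if k + 1 = m then (Sum.inr ⟨k + 1, by omega⟩ : Ind m).swap else .inr ⟨k + 1, by omega⟩)
      (.inr ⟨k, by omega⟩ : Ind m) s := fun k hk s => by
    rw [SLChain47.tr, MonoidHom.comp_apply, SLChain47.it_lo, fu k hk,
      ← rt_anti (by split_ifs <;> simp [sup, Fin.ext_iff])]
    split_ifs <;> rfl
  rcases p with a | a <;> rcases q with b | b <;> simp only [sup, Sum.elim_inl, Sum.elim_inr, id] at h <;>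
    simp only [xD]
  · exact pi_x π ψ Sum.inl (fun _ => rfl) hu hl h t
  · exact pi_P π ψ Sum.inl (fun _ => rfl) hu hl φ fu fl h t
  · rw [pi_P π (SLChain47.tr ψ) Sum.inr (fun _ => rfl) (pi_up_swap π ψ Sum.inl (fun _ => rfl) hl)
      (pi_lo_swap π ψ Sum.inl (fun _ => rfl) hu) (SLChain47.tr φ) tu tl h.symm,
      Sum.swap_inr, ← rt_anti (show sup (Sum.inr b : Ind m) ≠ sup (Sum.inl a : Ind m) from h.symm)]
    rfl
  · rw [pi_x π ψ Sum.inl (fun _ => rfl) hu hl h.symm,
      ← rt_anti (show sup (Sum.inl b : Ind m) ≠ sup (Sum.inl a : Ind m) from h.symm)]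
    rfl

end Chart

theorem x_map {G G' : Type*} [Group G] [Group G'] (f : G →* G') (ψ : ℕ → SL(2, F) →* G) (a b : ℕ) (t : F) :
    SLChain47.x (fun k => f.comp (ψ k)) a b t = f (SLChain47.x ψ a b t) := by
  have key : ∀ (ψ : ℕ → SL(2, F) →* G) d a t,
      SLChain47.xu (fun k => f.comp (ψ k)) a d t = f (SLChain47.xu ψ a d t) := by
    intro ψ d
    induction d with
    | zero => intro a t; rfl
    | succ d ih => intro a t; simp only [SLChain47.xu, ih, SLChain47.cj_map]; rfl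
  unfold SLChain47.x
  split_ifs
  · exact key ψ _ _ _
  · exact key (SLChain47.tr ψ) _ _ _

theorem OMono.unique {m : ℕ} {g : orth (qD F m)} {σ τ : Equiv.Perm (Ind m)} {c e : Ind m → F} (h : OMono g σ c)
    (h' : OMono g τ e) (d : Ind m) : σ d = τ d ∧ c d = e d := by
  have := (h.2 d).symm.trans (h'.2 d)
  have hc : c d ≠ 0 := left_ne_zero_of_mul_eq_one (h.coeff d)
  have h1 := congrFun this (σ d)
  by_cases e1 : σ d = τ d
  · rw [← e1] at h1
    simp [bv] at h1
    exact ⟨e1, h1⟩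
  · simp [bv, e1] at h1
    exact absurd h1 hc

theorem lev_inj {m : ℕ} {g h : SL(m + 1, F)} (e : lev g = lev h) : g = h := by
  refine ext_mulVec fun w => funext fun a => ?_
  have := congrFun (congrArg (fun x : orth (qD F m) => x.1 (Sum.elim w 0)) e) (Sum.inl a)
  simpa [lev_apply] using this

section Setup
variable (r : ℕ) [Fact (2 ≤ r)] {H : Type*} [Group H] (σ : SL(r + 2, F) →* H) (t' : H)

/-- adjacent blocks -/
noncomputable def J0 (k : ℕ) : SL(2, F) →* SL(r + 2, F) :=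
  if h : k + 1 < r + 2 then J (show (⟨k, by omega⟩ : Fin (r + 2)) ≠ ⟨k + 1, h⟩ by simp) else 1

/-- the first chain -/
noncomputable def psi (k : ℕ) : SL(2, F) →* H := σ.comp (J0 r k)

/-- the element giving the sign change -/
noncomputable def gel : H := σ zel * (t' * σ (om (iP r) (iQ r) 1)) * (σ zel)⁻¹

/-- the new block -/
noncomputable def Mh : SL(2, F) →* H :=
  (MulAut.conj (gel r σ t')).toMonoidHom.comp ((σ.comp (J (iPQ r))).comp SL3Edge47.delta)

/-- the second chain -/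
noncomputable def phi (k : ℕ) : SL(2, F) →* H := if k < r then psi r σ k else Mh r σ t'

theorem J0_eq {k : ℕ} (h : k + 1 < r + 2) :
    (J0 r k : SL(2, F) →* SL(r + 2, F)) = J (show (⟨k, by omega⟩ : Fin (r + 2)) ≠ ⟨k + 1, h⟩ by simp) :=
  dif_pos h

theorem J0_last : (J0 r r : SL(2, F) →* SL(r + 2, F)) = J (iPQ r) := by
  exact J0_eq r (Nat.lt_succ_self (r + 1))

theorem Mh_apply (x : SL(2, F)) :
    Mh r σ t' x = gel r σ t' * σ (J (iPQ r) (SL3Edge47.delta x)) * (gel r σ t')⁻¹ := rfl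

end Setup

section Main
variable {r : ℕ} [Fact (2 ≤ r)] {H : Type*} [Group H] {σ : SL(r + 2, F) →* H} {t' : H}
  {π : H →* orth (qD F (r + 1))}

/-- the relations -/
structure Rels (σ : SL(r + 2, F) →* H) (t' : H) (π : H →* orth (qD F (r + 1))) (a : SL(2, F)) : Prop where
  map_σ : ∀ x, π (σ x) = lev x
  map_t : π t' = t0
  gen : σ.range ⊔ Subgroup.zpowers t' = ⊤
  ha : Subgroup.closure ({a, ShortPresTransGen.itAut a} : Set SL(2, F)) = ⊤
  c1 : ∀ y, Commute t' (σ (blkC r y))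
  sq : t' * t' = σ (om (iP r) (iQ r) 1 * om (iP r) (iQ r) 1)
  conj : t' = gel r σ t' * (σ (om (iP r) (iQ r) 1))⁻¹ * (gel r σ t')⁻¹
  c2 : ∀ y, Commute (Mh r σ t' a) (σ (blkC r y))

variable {a : SL(2, F)} (h : Rels σ t' π a)

theorem delta_W : SL3Edge47.delta (SL2PresData.W : SL(2, F)) = (SL2PresData.W)⁻¹ := by
  refine eq_inv_of_mul_eq_one_left ?_
  apply ext2 <;> simp [SL3Edge47.coe_delta, SL2PresData.W, mul_apply2]

theorem W_four : (SL2PresData.W * SL2PresData.W * (SL2PresData.W * SL2PresData.W) : SL(2, F)) = 1 := by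
  rw [SL2PresData.W_sq]; simp

theorem itAut_conj (x : SL(2, F)) :
    ShortPresTransGen.itAut x = SL2PresData.W * x * (SL2PresData.W)⁻¹ := by
  rw [eq_mul_inv_iff_mul_eq]
  apply ext2 <;> simp [ShortPresTransGen.itAut, SL2PresData.W, mul_apply2]

include h

theorem Mh_W : Mh r σ t' SL2PresData.W = t' := by
  rw [Mh_apply, delta_W, map_inv, map_inv, J_W]
  exact h.conj.symm

theorem Mh_c (x : SL(2, F)) (y : SL(r, F) × SL(2, F)) : Commute (Mh r σ t' x) (σ (blkC r y)) := by
  have hle : Subgroup.closure ({a, ShortPresTransGen.itAut a} : Set SL(2, F)) ≤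
      (Subgroup.centralizer {σ (blkC r y)}).comap (Mh r σ t') := by
    rw [Subgroup.closure_le]
    rintro _ (rfl | rfl) <;>
      simp only [SetLike.mem_coe, Subgroup.mem_comap, Subgroup.mem_centralizer_singleton_iff]
    · exact (h.c2 y).eq
    · rw [itAut_conj, map_mul, map_mul, map_inv, Mh_W h]
      exact (((h.c1 y).mul_left (h.c2 y)).mul_left (h.c1 y).inv_left).eq
  exact Subgroup.mem_centralizer_singleton_iff.1 (hle (h.ha ▸ Subgroup.mem_top x))

theorem gel_sq : gel r σ t' * gel r σ t' = 1 := by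
  have hc : Commute t' (σ (om (iP r) (iQ r) 1)) := by
    rw [← J_W (iPQ r), ← blkC_pair]; exact h.c1 _
  have h4 : σ (om (iP r) (iQ r) 1 * om (iP r) (iQ r) 1) * σ (om (iP r) (iQ r) 1 * om (iP r) (iQ r) 1) = 1 := by
    rw [← map_mul, ← J_W (iPQ r), ← map_mul, ← map_mul, W_four, map_one, map_one]
  have : t' * σ (om (iP r) (iQ r) 1) * (t' * σ (om (iP r) (iQ r) 1)) = 1 := by
    rw [mul_assoc, ← mul_assoc (σ (om (iP r) (iQ r) 1)), ← hc.eq, mul_assoc, ← mul_assoc, h.sq,
      ← map_mul σ (om (iP r) (iQ r) 1), h4]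
  calc _ = σ zel * (t' * σ (om (iP r) (iQ r) 1) * (t' * σ (om (iP r) (iQ r) 1))) * (σ zel)⁻¹ := by
        rw [gel]; group
    _ = 1 := by rw [this, mul_one, mul_inv_cancel]

theorem gel_fix {i j : Fin (r + 2)} (hij : i ≠ j) (hi : 1 ≤ i.val ∧ i.val ≤ r) (hj : 1 ≤ j.val ∧ j.val ≤ r)
    (s : F) : Commute (gel r σ t') (σ (tv i j s)) := by
  have hr : 2 ≤ r := Fact.out
  have hz := isMono_om (F := F) (i0P (r := r)) one_ne_zero
  let i' := Equiv.swap (i0 r) (iP r) i
  let j' := Equiv.swap (i0 r) (iP r) j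
  have low : ∀ k : Fin (r + 2), 1 ≤ k.val → k.val ≤ r → (Equiv.swap (i0 r) (iP r) k).val < r := by
    intro k h1 h2
    have := val_iP r
    rw [Equiv.swap_apply_def]
    split_ifs with e1 e2
    · subst e1; simp [i0] at h1
    · simp [i0]; omega
    · have := Fin.val_injective.ne e2; omega
  have hij' : i' ≠ j' := (Equiv.swap _ _).injective.ne hij
  set c : F := (fun l => if l = iP r then (1 : F) else if l = i0 r then -1⁻¹ else 1) i' /
    (fun l => if l = iP r then (1 : F) else if l = i0 r then -1⁻¹ else 1) j' with hcdef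
  have hc : c ≠ 0 := by
    simp only [hcdef]
    refine div_ne_zero ?_ ?_ <;> split_ifs <;> simp
  have e : zel * tv i' j' (s / c) * (zel : SL(r + 2, F))⁻¹ = tv i j s := by
    rw [zel, hz.conj_tv hij']
    have back : ∀ k, Equiv.swap (i0 r) (iP r) (Equiv.swap (i0 r) (iP r) k) = k := Equiv.swap_apply_self _ _
    rw [back, back, ← hcdef, mul_div_cancel₀ s hc]
  have cm : Commute (t' * σ (om (iP r) (iQ r) 1)) (σ (tv i' j' (s / c))) := by
    obtain ⟨y, hy⟩ := tv_mem_range (F := F) r hij' (low i hi.1 hi.2) (low j hj.1 hj.2) (s / c)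
    refine Commute.mul_left (hy ▸ h.c1 y) ?_
    rw [← J_W (iPQ r)]
    refine Commute.map ?_ σ
    have hl : tv i' j' (s / c) = embI (Fin.castAddEmb 2) (tv ⟨i'.val, low i hi.1 hi.2⟩ ⟨j'.val, low j hj.1 hj.2⟩ (s / c)) := by
      rw [embI_tv _ (by simp [Fin.ext_iff]; exact fun e => hij' (Fin.ext e))]
      rfl
    rw [hl]
    exact (low_commute r _ _).symm
  rw [← e, map_mul, map_mul, map_inv, gel]
  have := cm.eq
  show _ * _ = _ * _
  calc σ zel * (t' * σ (om (iP r) (iQ r) 1)) * (σ zel)⁻¹ * (σ zel * σ (tv i' j' (s / c)) * (σ zel)⁻¹)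
      = σ zel * (t' * σ (om (iP r) (iQ r) 1) * σ (tv i' j' (s / c))) * (σ zel)⁻¹ := by group
    _ = _ := by rw [this]; group

theorem chain : DChain (r + 1) (psi r σ) (phi r σ t') := by
  have hr : 2 ≤ r := Fact.out
  have far : ∀ i j, i + 2 ≤ j → j < r + 1 → ∀ x y : SL(2, F),
      Commute (J0 r i x) (J0 r j y) := by
    intro i j hij hj x y
    rw [J0_eq r (show i + 1 < r + 2 by omega), J0_eq r (show j + 1 < r + 2 by omega)]
    exact J_commute _ _ (by simp; omega) (by simp; omega) (by simp; omega) (by simp; omega) x y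
  have low : ∀ i, i + 2 ≤ r → ∀ x : SL(2, F), ∃ y, blkC r y = J0 r i x := by
    intro i hi x
    have : x ∈ ((blkC (F := F) r).range).comap (J0 r i) := by
      rw [sl_le (((blkC (F := F) r).range).comap (J0 r i)) fun k l hkl s => ?_]
      · trivial
      rw [Subgroup.mem_comap, J0_eq r (show i + 1 < r + 2 by omega), ShortPresBlockEmb.J, embI_tv _ hkl]
      refine tv_mem_range r ((pair _).injective.ne hkl) ?_ ?_ s
      · fin_cases k <;> simp [pair] <;> omega
      · fin_cases l <;> simp [pair] <;> omega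
    exact this
  let tri (k : ℕ) (hk : k + 2 < r + 2) : Fin 3 ↪ Fin (r + 2) :=
    ⟨fun i => ⟨k + i.val, by omega⟩, fun i j e => Fin.ext (by simpa [Fin.ext_iff] using e)⟩
  have tri12 : ∀ k (hk : k + 2 < r + 2) (x : SL(2, F)),
      embI (tri k hk) (SL3Edge47.b12 x) = J0 r k x ∧ embI (tri k hk) (SL3Edge47.b23 x) = J0 r (k + 1) x := by
    intro k hk x
    have b1 : ∀ s : F, SL3Edge47.b12 (u s) = tv (0 : Fin 3) 1 s ∧ SL3Edge47.b12 (lo s) = tv (1 : Fin 3) 0 s ∧
        SL3Edge47.b23 (u s) = tv (1 : Fin 3) 2 s ∧ SL3Edge47.b23 (lo s) = tv (2 : Fin 3) 1 s := by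
      intro s
      refine ⟨?_, ?_, ?_, ?_⟩ <;> refine Subtype.ext (Matrix.ext fun i j => ?_) <;>
        rw [ShortPresSL.tv_entry (by decide)] <;> fin_cases i <;> fin_cases j <;>
        simp [SL3Edge47.coe_b12, SL3Edge47.coe_b23, u, lo]
    constructor
    · refine hom_eq_roots (f := (embI (tri k hk)).comp SL3Edge47.b12) (fun s => ?_) (fun s => ?_) x <;>
        rw [MonoidHom.comp_apply, J0_eq r (show k + 1 < r + 2 by omega)]
      · rw [(b1 s).1, embI_tv _ (by decide), J_u]; rfl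
      · rw [(b1 s).2.1, embI_tv _ (by decide), J_lo]; rfl
    · refine hom_eq_roots (f := (embI (tri k hk)).comp SL3Edge47.b23) (fun s => ?_) (fun s => ?_) x <;>
        rw [MonoidHom.comp_apply, J0_eq r (show k + 1 + 1 < r + 2 by omega)]
      · rw [(b1 s).2.2.1, embI_tv _ (by decide), J_u]; rfl
      · rw [(b1 s).2.2.2, embI_tv _ (by decide), J_lo]; rfl
  have left : SLChain47.Chain (r + 1) (psi r σ) :=
    ⟨fun i j hij hj x y => ((far i j hij hj x y).map σ).eq,
      fun k hk => ⟨σ.comp (embI (tri k (by omega))), MonoidHom.ext fun x => congrArg σ (tri12 k (by omega) x).1,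
        MonoidHom.ext fun x => congrArg σ (tri12 k (by omega) x).2⟩⟩
  have agree : ∀ k, k + 1 < r + 1 → phi r σ t' k = psi r σ k := fun k hk => by rw [phi, if_pos (by omega)]
  have phir : phi r σ t' r = Mh r σ t' := by rw [phi, if_neg (lt_irrefl r)]
  refine ⟨left, ⟨fun i j hij hj x y => ?_, fun k hk => ?_⟩, agree, fun k hk x y => ?_⟩
  · by_cases hjr : j < r
    · rw [agree i (by omega), agree j (by omega)]; exact left.far i j hij hj x y
    · rw [agree i (by omega), show j = r by omega, phir, psi, MonoidHom.comp_apply]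
      obtain ⟨z, hz⟩ := low i (by omega) x
      rw [← hz]
      exact (Mh_c h y z).symm.eq
  · by_cases hkr : k + 1 < r
    · rw [agree k (by omega), agree (k + 1) (by omega)]; exact left.tri k hk
    · have hk1 : k + 1 = r := by omega
      rw [agree k (by omega), hk1, phir]
      refine ⟨((MulAut.conj (gel r σ t')).toMonoidHom.comp (σ.comp (embI (tri k (by omega))))).comp negLast,
        MonoidHom.ext fun x => ?_, MonoidHom.ext fun x => ?_⟩
      · simp only [MonoidHom.comp_apply, MulEquiv.coe_toMonoidHom, MulAut.conj_apply, negLast_b12, (tri12 k (by omega) x).1]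
        rw [mul_inv_eq_iff_eq_mul]
        have : x ∈ (Subgroup.centralizer {gel r σ t'}).comap (σ.comp (J0 r k)) := by
          rw [sl_le ((Subgroup.centralizer {gel r σ t'}).comap (σ.comp (J0 r k))) fun i l hil s => ?_]
          · trivial
          rw [Subgroup.mem_comap, Subgroup.mem_centralizer_singleton_iff, MonoidHom.comp_apply,
            J0_eq r (show k + 1 < r + 2 by omega), ShortPresBlockEmb.J, embI_tv _ hil]
          refine (gel_fix h ((pair _).injective.ne hil) ?_ ?_ s).symm.eq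
          · fin_cases i <;> simp [pair] <;> omega
          · fin_cases l <;> simp [pair] <;> omega
        rw [Subgroup.mem_comap, Subgroup.mem_centralizer_singleton_iff] at this
        exact this.symm
      · simp only [MonoidHom.comp_apply, MulEquiv.coe_toMonoidHom, MulAut.conj_apply, negLast_b23,
          (tri12 k (by omega) _).2, hk1, J0_last, Mh_apply]
  · obtain rfl : k = r := by omega
    rw [phir, psi, MonoidHom.comp_apply, J0_last, ← blkC_pair]
    exact (Mh_c h y _).symm.eq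

theorem pi_gel : π (gel r σ t') = g0 := by
  rw [gel, map_mul, map_mul, map_mul, map_inv, h.map_σ, h.map_σ, h.map_t, g0]

theorem pi_M (s : F) : π (Mh r σ t' (u s)) = rt F (iP' r) (Sum.inr (iQ r)) s ∧
    π (Mh r σ t' (lo s)) = rt F (Sum.inr (iQ r)) (iP' r) s := by
  constructor
  · rw [Mh_apply, ← up_u, SL3Edge47.delta_up, up_u, J_u, map_mul, map_mul, map_inv, pi_gel h, h.map_σ,
      (g0_tv _).1, neg_neg]
  · rw [Mh_apply, ← lo_lo, SL3Edge47.delta_lo, lo_lo, J_lo, map_mul, map_mul, map_inv, pi_gel h, h.map_σ,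
      (g0_tv _).2, neg_neg]

/-- the relations of type `D` in the abstract group -/
theorem exists_R : ∃ R : PreD (r + 1) F H,
    (∀ p q, sup p ≠ sup q → ∀ s, π (R.x p q s) = rt F p q s) ∧
    (∀ i j, i ≠ j → ∀ s, R.x (.inl i) (.inl j) s = σ (tv i j s)) ∧
    (∀ s, R.x (iP' r) (.inr (iQ r)) s = Mh r σ t' (u s) ∧ R.x (.inr (iQ r)) (iP' r) s = Mh r σ t' (lo s)) := by
  have hr : 2 ≤ r := Fact.out
  obtain ⟨R, hR⟩ := DChain47.exists_preD (chain h) (show 3 ≤ r + 1 by omega)
  have hu : ∀ k (hk : k < r + 1) s, π (psi r σ k (SL3Edge47.up s)) =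
      rt F (.inl ⟨k, by omega⟩ : Ind (r + 1)) (.inl ⟨k + 1, by omega⟩) s := fun k hk s => by
    rw [psi, MonoidHom.comp_apply, h.map_σ, J0_eq r (show k + 1 < r + 2 by omega), up_u, J_u,
      lev_tv (by simp [Fin.ext_iff])]
  have hl : ∀ k (hk : k < r + 1) s, π (psi r σ k (SL3Edge47.lo s)) =
      rt F (.inl ⟨k + 1, by omega⟩ : Ind (r + 1)) (.inl ⟨k, by omega⟩) s := fun k hk s => by
    rw [psi, MonoidHom.comp_apply, h.map_σ, J0_eq r (show k + 1 < r + 2 by omega), lo_lo, J_lo,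
      lev_tv (by simp [Fin.ext_iff])]
  have hπ : ∀ p q, sup p ≠ sup q → ∀ s, π (R.x p q s) = rt F p q s := by
    intro p q hpq s
    rw [hR]
    refine pi_xD π (psi r σ) (phi r σ t') hu hl (fun k hk s => ?_) (fun k hk s => ?_) p q hpq s <;>
      split_ifs with hkr
    · obtain rfl : k = r := by omega
      rw [phi, if_neg (lt_irrefl k), up_u]; exact (pi_M h s).1
    · rw [phi, if_pos (by omega)]; exact hu k hk s
    · obtain rfl : k = r := by omega
      rw [phi, if_neg (lt_irrefl k), lo_lo]; exact (pi_M h s).2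
    · rw [phi, if_pos (by omega)]; exact hl k hk s
  refine ⟨R, hπ, fun i j hij s => ?_, fun s => ?_⟩
  · have e : R.x (.inl i) (.inl j) s = σ (SLChain47.x (J0 r) i.val j.val s) := by
      rw [hR, ← x_map]; rfl
    rw [e]
    congr 1
    apply lev_inj (m := r + 1)
    rw [← h.map_σ, ← e, hπ _ _ (show sup (Sum.inl i : Ind (r + 1)) ≠ sup (Sum.inl j : Ind (r + 1)) from hij),
      lev_tv hij]
  · rw [hR]
    constructor
    · show P (r + 1) (psi r σ) (phi r σ t') r (r + 1) s = _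
      rw [P_top (Nat.lt_succ_self r), SLChain47.x_succ, phi, if_neg (lt_irrefl r), up_u]
    · show P (r + 1) (SLChain47.tr (psi r σ)) (SLChain47.tr (phi r σ t')) r (r + 1) (-s) = _
      rw [P_top (Nat.lt_succ_self r), SLChain47.x_succ, SLChain47.tr, MonoidHom.comp_apply, SLChain47.it_up, neg_neg,
        phi, if_neg (lt_irrefl r), lo_lo]

/-- root elements of type `D` over the abstract group, with central kernel -/
structure Roots (σ : SL(r + 2, F) →* H) (t' : H) (π : H →* orth (qD F (r + 1))) (R : PreD (r + 1) F H) : Prop where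
  hπ : ∀ p q, sup p ≠ sup q → ∀ s, π (R.x p q s) = rt F p q s
  hσ : ∀ i j, i ≠ j → ∀ s, R.x (.inl i) (.inl j) s = σ (tv i j s)
  hM : ∀ s, R.x (iP' r) (.inr (iQ r)) s = Mh r σ t' (u s) ∧ R.x (.inr (iQ r)) (iP' r) s = Mh r σ t' (lo s)
  hgen : Subgroup.closure {g | ∃ c e v, sup c ≠ sup e ∧ g = R.x c e v} = ⊤
  hker : π.ker ≤ Subgroup.center H

theorem exists_roots : ∃ R, Roots σ t' π R := by
  have hr : 2 ≤ r := Fact.out
  obtain ⟨R, hπ, hσ, hM⟩ := exists_R h
  have hgen : Subgroup.closure {g | ∃ c e v, sup c ≠ sup e ∧ g = R.x c e v} = ⊤ := by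
    set K := Subgroup.closure {g | ∃ c e v, sup c ≠ sup e ∧ g = R.x c e v}
    haveI : Nontrivial (Fin (r + 2)) := Fin.nontrivial_iff_two_le.mpr (by omega)
    have hx : ∀ (c e : Ind (r + 1)) v, sup c ≠ sup e → R.x c e v ∈ K := fun c e v hce =>
      Subgroup.subset_closure ⟨c, e, v, hce, rfl⟩
    have hs : ∀ x, σ x ∈ K := fun x => by
      have : x ∈ K.comap σ := by
        rw [sl_le (K.comap σ) fun i j hij s => ?_]
        · trivial
        rw [Subgroup.mem_comap, ← hσ i j hij]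
        exact hx _ _ _ hij
      exact this
    have ht : t' ∈ K := by
      have : SL2PresData.W ∈ K.comap (Mh r σ t') := by
        rw [sl2_top' (K.comap (Mh r σ t')) (fun s => ?_) (fun s => ?_)]
        · trivial
        · rw [Subgroup.mem_comap, ← (hM s).1]; exact hx _ _ _ supPQ'
        · rw [Subgroup.mem_comap, ← (hM s).2]; exact hx _ _ _ supPQ'.symm
      rwa [Subgroup.mem_comap, Mh_W h] at this
    rw [eq_top_iff, ← h.gen, sup_le_iff, Subgroup.zpowers_le]
    exact ⟨by rintro _ ⟨x, rfl⟩; exact hs x, ht⟩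
  exact ⟨R, hπ, hσ, hM, hgen, ker_le_center R π hπ (show 2 ≤ r + 1 by omega) hgen⟩

omit h

theorem exists_third {m : ℕ} (hm : 2 ≤ m) (p q : Ind m) : ∃ c : Ind m, sup p ≠ sup c ∧ sup c ≠ sup q := by
  obtain ⟨c, hc⟩ : ∃ c : Fin (m + 1), c ∉ ({sup p, sup q} : Finset (Fin (m + 1))) := by
    by_contra hno
    push Not at hno
    have := Finset.eq_univ_iff_forall.2 hno
    have h2 : ({sup p, sup q} : Finset (Fin (m + 1))).card ≤ 2 := Finset.card_le_two
    rw [this, Finset.card_univ, Fintype.card_fin] at h2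
    omega
  simp only [Finset.mem_insert, Finset.mem_singleton, not_or] at hc
  exact ⟨.inl c, Ne.symm hc.1, hc.2⟩

variable {R : PreD (r + 1) F H} (K : Roots σ t' π R)

theorem scale {τ : Equiv.Perm (Ind (r + 1))} {c : Ind (r + 1) → F} {g : orth (qD F (r + 1))} (hg : OMono g τ c)
    (p q : Ind (r + 1)) : c p * c q.swap ≠ 0 :=
  mul_ne_zero (left_ne_zero_of_mul_eq_one (hg.coeff p)) (right_ne_zero_of_mul_eq_one (hg.coeff q))

theorem wanti {p q : Ind (r + 1)} (hpq : sup p ≠ sup q) (s : F) : w R q.swap p.swap s = w R p q (-s) := by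
  rw [w, w, R.anti p q hpq, R.anti q p hpq.symm, inv_neg]

include K

theorem equiv {x : H} {τ : Equiv.Perm (Ind (r + 1))} {c : Ind (r + 1) → F} (hx : OMono (π x) τ c) {p q : Ind (r + 1)}
    (hpq : sup p ≠ sup q) (s : F) : SLChain47.cj x (R.x p q s) = R.x (τ p) (τ q) (s * c p * c q.swap) := by
  have hr : 2 ≤ r := Fact.out
  obtain ⟨w', h1, h2⟩ := exists_third (show 2 ≤ r + 1 by omega) p q
  have step : ∀ p q, sup p ≠ sup q → ∀ s, ∃ z ∈ Subgroup.center H,
      SLChain47.cj x (R.x p q s) = R.x (τ p) (τ q) (s * c p * c q.swap) * z := by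
    intro p q hpq s
    refine ⟨(R.x (τ p) (τ q) (s * c p * c q.swap))⁻¹ * SLChain47.cj x (R.x p q s), K.hker ?_, by group⟩
    rw [MonoidHom.mem_ker, map_mul, map_inv, SLChain47.cj, map_mul, map_mul, map_inv, K.hπ p q hpq,
      K.hπ _ _ (sup_ne hx.1 hpq), hx.conj_rt hpq (sup_ne hx.1 hpq), inv_mul_cancel]
  obtain ⟨z1, hz1, e1⟩ := step p w' h1 s
  obtain ⟨z2, hz2, e2⟩ := step w' q h2 1
  have k1 := Subgroup.mem_center_iff.1 hz1
  have k2 := Subgroup.mem_center_iff.1 hz2
  have := R.chain p w' q h1 h2 hpq s 1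
  rw [mul_one] at this
  rw [← this, SLChain47.cj_hom, SLChain47.cj_hom, SLChain47.cj_hom, DChain47.cj_inv, DChain47.cj_inv, e1, e2]
  set X := R.x (τ p) (τ w') (s * c p * c w'.swap)
  set Y := R.x (τ w') (τ q) (1 * c w' * c q.swap)
  have e3 : X * z1 * (Y * z2) * (X * z1)⁻¹ * (Y * z2)⁻¹ = X * Y * X⁻¹ * Y⁻¹ := by
    calc _ = X * (z1 * Y) * (z2 * z1⁻¹) * X⁻¹ * z2⁻¹ * Y⁻¹ := by group
      _ = X * (Y * z1) * (z1⁻¹ * z2) * X⁻¹ * z2⁻¹ * Y⁻¹ := by rw [k1 Y, k2 z1⁻¹]
      _ = X * Y * (z2 * X⁻¹) * z2⁻¹ * Y⁻¹ := by group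
      _ = X * Y * (X⁻¹ * z2) * z2⁻¹ * Y⁻¹ := by rw [k2 X⁻¹]
      _ = _ := by group
  rw [e3, R.chain _ _ _ (sup_ne hx.1 h1) (sup_ne hx.1 h2) (sup_ne hx.1 hpq)]
  congr 1
  linear_combination (s * c p * c q.swap) * hx.coeff w'

theorem equivW {x : H} {τ : Equiv.Perm (Ind (r + 1))} {c : Ind (r + 1) → F} (hx : OMono (π x) τ c) {p q : Ind (r + 1)}
    (hpq : sup p ≠ sup q) {s : F} (hs : s ≠ 0) :
    SLChain47.cj x (w R p q s) = w R (τ p) (τ q) (s * c p * c q.swap) := by
  rw [w, w, SLChain47.cj_hom, SLChain47.cj_hom, equiv K hx hpq, equiv K hx hpq.symm]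
  congr 3
  have a1 := hx.coeff q
  have a2 := hx.coeff p
  have : c q.swap ≠ 0 := right_ne_zero_of_mul_eq_one a1
  have : c p ≠ 0 := left_ne_zero_of_mul_eq_one a2
  field_simp
  linear_combination -(c q * c q.swap) * a2 - a1

theorem conjTor {x : H} {τ : Equiv.Perm (Ind (r + 1))} {c : Ind (r + 1) → F} (hx : OMono (π x) τ c)
    {p q : Ind (r + 1)} (hpq : sup p ≠ sup q) {s v : F} (hs : s ≠ 0) (hv : v ≠ 0) :
    SLChain47.cj x (w R p q s * (w R p q v)⁻¹) =
      w R (τ p) (τ q) (s * (c p * c q.swap)) * (w R (τ p) (τ q) (v * (c p * c q.swap)))⁻¹ := by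
  rw [SLChain47.cj_hom, DChain47.cj_inv, equivW K hx hpq hs, equivW K hx hpq hv, mul_assoc s, mul_assoc v]

theorem pw {p q : Ind (r + 1)} (hpq : sup p ≠ sup q) {s : F} (hs : s ≠ 0) :
    OMono (π (w R p q s)) (sp p q) (wc p q s) := by
  rw [w, map_mul, map_mul, K.hπ p q hpq, K.hπ q p hpq.symm]
  exact oMono_wr hpq hs

theorem w_σ {i j : Fin (r + 2)} (hij : i ≠ j) (s : F) : w R (.inl i) (.inl j) s = σ (om i j s) := by
  rw [w, K.hσ i j hij, K.hσ j i hij.symm, om, map_mul, map_mul]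

theorem w_M (s : F) : w R (iP' r) (.inr (iQ r)) s = Mh r σ t' (wt s) ∧
    w R (.inr (iQ r)) (iP' r) s = Mh r σ t' (lo s * u (-s⁻¹) * lo s) := by
  rw [w, w, (K.hM _).1, (K.hM _).2, (K.hM _).1, (K.hM _).2, wt, map_mul, map_mul, map_mul, map_mul]
  exact ⟨rfl, rfl⟩

omit K in
theorem mv {a b : Fin (r + 2)} (hab : a ≠ b) : ∃ τ : Equiv.Perm (Fin (r + 2)), τ (iP r) = a ∧ τ (iQ r) = b := by
  obtain ⟨τ, hτ⟩ := DChain47.exists_perm ![iP r, iQ r] ![a, b]
    (by intro i j e; fin_cases i <;> fin_cases j <;> simp_all [iPQ r, (iPQ r).symm])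
    (by intro i j e; fin_cases i <;> fin_cases j <;> simp_all [hab.symm])
  exact ⟨τ, hτ 0, hτ 1⟩

include h in
theorem σ_mono {g : SL(r + 2, F)} {τ : Equiv.Perm (Fin (r + 2))} {c : Fin (r + 2) → F} (hg : IsMono g τ c) :
    OMono (π (σ g)) (Equiv.sumCongr τ τ) (Sum.elim c fun a => (c a)⁻¹) := by
  rw [h.map_σ]; exact oMono_lev hg

omit K in
theorem om_flip {i j : Fin (r + 2)} (hij : i ≠ j) {s : F} (hs : s ≠ 0) : om j i s = om i j (-s⁻¹) := by
  refine ext_single fun l x => ?_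
  rw [om_single hij.symm hs, om_single hij (neg_ne_zero.2 (inv_ne_zero hs))]
  by_cases hi : l = i
  · subst hi; simp [hij, inv_neg]
  by_cases hj : l = j
  · subst hj; simp [hi, inv_neg]
  simp [hi, hj]

include h in
theorem good_mixed {i j : Fin (r + 2)} (hij : i ≠ j) {s : F} (hs : s ≠ 0) :
    w R (.inr j) (.inl i) s = w R (.inl i) (.inr j) (-s⁻¹) := by
  obtain ⟨τ, h1, h2⟩ := mv hij
  obtain ⟨g, c, hg⟩ := exists_mono_all (F := F) τ
  have hg' := σ_mono h K hg
  generalize Sum.elim c (fun a => (c a)⁻¹) = C at hg'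
  have hk := scale hg' (Sum.inr (iQ r)) (iP' r)
  set k := C (Sum.inr (iQ r)) * C (iP' r).swap with hkdef
  have e1 := equivW K hg' (p := .inr (iQ r)) (q := iP' r) supPQ'.symm (div_ne_zero hs hk)
  have e2 := equivW K hg' (p := iP' r) (q := .inr (iQ r)) supPQ'
    (neg_ne_zero.2 (inv_ne_zero (div_ne_zero hs hk)))
  have eb : w R (.inr (iQ r)) (iP' r) (s / k) = w R (iP' r) (.inr (iQ r)) (-(s / k)⁻¹) := by
    rw [(w_M K _).2, (w_M K _).1, wt_flip (div_ne_zero hs hk)]
  rw [eb, e2] at e1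
  simp only [Equiv.sumCongr_apply, Sum.map_inl, Sum.map_inr, h1, h2] at e1
  rw [mul_assoc (s / k), ← hkdef, div_mul_cancel₀ s hk] at e1
  rw [← e1]
  congr 1
  have a1 := hg'.coeff (Sum.inr (iQ r))
  have a2 := hg'.coeff (iP' r)
  have : k * (C (iP' r) * C (Sum.inr (iQ r) : Ind (r + 1)).swap) = 1 := by
    rw [hkdef]; linear_combination (C (iP' r) * C (iP' r).swap) * a1 + a2
  field_simp
  linear_combination -this

include h in
/-- the two forms of a Weyl element -/
theorem good {p q : Ind (r + 1)} (hpq : sup p ≠ sup q) {s : F} (hs : s ≠ 0) : w R q p s = w R p q (-s⁻¹) := by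
  rcases p with i | i <;> rcases q with j | j <;> simp only [sup, Sum.elim_inl, Sum.elim_inr, id] at hpq
  · rw [w_σ K (Ne.symm hpq), w_σ K hpq, om_flip hpq hs]
  · exact good_mixed h K hpq hs
  · have := good_mixed h K (Ne.symm hpq) (neg_ne_zero.2 (inv_ne_zero hs))
    rw [inv_neg, inv_inv, neg_neg] at this
    exact this.symm
  · have e1 := wanti (R := R)
      (show sup (Sum.inl i : Ind (r + 1)) ≠ sup (Sum.inl j : Ind (r + 1)) from hpq) s
    have e2 := wanti (R := R)
      (show sup (Sum.inl j : Ind (r + 1)) ≠ sup (Sum.inl i : Ind (r + 1)) from Ne.symm hpq) (-s⁻¹)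
    simp only [Sum.swap_inl] at e1 e2
    rw [e1, e2, neg_neg, w_σ K hpq, w_σ K (Ne.symm hpq), om_flip hpq (inv_ne_zero hs), inv_inv]

omit K

/-- diagonal elements -/
def D1 (r : ℕ) (F : Type*) [Field F] : Subgroup SL(r + 2, F) where
  carrier := {g | ∃ c, IsMono g 1 c}
  one_mem' := ⟨_, isMono_one⟩
  mul_mem' := by rintro g g' ⟨c, hc⟩ ⟨e, he⟩; exact ⟨_, by simpa using hc.mul he⟩
  inv_mem' := by rintro g ⟨c, hc⟩; exact ⟨_, by simpa using hc.inv⟩

variable (σ t') in
/-- the torus of the new block -/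
noncomputable def Mt : Fˣ →* H := (Mh r σ t').comp dHom

variable (σ t') in
/-- products of the two tori -/
noncomputable def tori : Set H := {g | ∃ x ∈ D1 r F, ∃ a, g = σ x * Mt σ t' a}

/-- the coefficients of a torus element -/
noncomputable def cM (r : ℕ) (a : Fˣ) (d : Ind (r + 1)) : F :=
  wc (iP' r) (Sum.inr (iQ r)) (a : F) ((sp (iP' r) (Sum.inr (iQ r)))⁻¹ d) *
    wc (iP' r) (Sum.inr (iQ r)) 1 ((sp (iP' r) (Sum.inr (iQ r)))⁻¹ d).swap

include K

theorem MtW {s v : F} (hs : s ≠ 0) (hv : v ≠ 0) :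
    w R (iP' r) (.inr (iQ r)) s * (w R (iP' r) (.inr (iQ r)) v)⁻¹ =
      Mt σ t' (Units.mk0 (s / v) (div_ne_zero hs hv)) := by
  rw [(w_M K s).1, (w_M K v).1, ← map_inv, ← map_mul, wt_div hs hv]; rfl

theorem MtW1 (a : Fˣ) :
    Mt σ t' a = w R (iP' r) (.inr (iQ r)) (a : F) * (w R (iP' r) (.inr (iQ r)) 1)⁻¹ := by
  rw [MtW K a.ne_zero one_ne_zero]
  congr 1
  exact Units.ext (div_one _).symm

theorem pMt (a : Fˣ) : OMono (π (Mt σ t' a)) 1 (cM r a) := by
  rw [MtW1 K, map_mul, map_inv]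
  have := (pw K supPQ' a.ne_zero).mul (pw K supPQ' (one_ne_zero (α := F))).inv
  rw [mul_inv_cancel] at this
  exact this

include h in
theorem comm {g : SL(r + 2, F)} (hg : g ∈ D1 r F) (a : Fˣ) : Commute (σ g) (Mt σ t' a) := by
  obtain ⟨c, hc⟩ := hg
  have hx := σ_mono h K hc
  generalize Sum.elim c (fun a => (c a)⁻¹) = C at hx
  have hne := scale hx (iP' r) (Sum.inr (iQ r))
  have key := conjTor K hx (p := iP' r) (q := .inr (iQ r)) supPQ' a.ne_zero one_ne_zero
  simp only [Equiv.sumCongr_apply, Sum.map_inl, Sum.map_inr, Equiv.Perm.one_apply] at key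
  rw [← MtW1 K, MtW K (mul_ne_zero a.ne_zero hne) (mul_ne_zero one_ne_zero hne)] at key
  have e : ∀ y, Units.mk0 ((a : F) * (C (iP' r) * C (Sum.swap (Sum.inr (iQ r)))) /
      (1 * (C (iP' r) * C (Sum.swap (Sum.inr (iQ r)))))) y = a := fun y => Units.ext (by
    rw [Units.val_mk0, one_mul]; exact mul_div_cancel_right₀ _ hne)
  rw [e] at key
  rw [SLChain47.cj, mul_inv_eq_iff_eq_mul] at key
  exact key

include h in
/-- the product of the tori as a subgroup -/
theorem exists_torus : ∃ T1 : Subgroup H, (T1 : Set H) = tori σ t' := by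
  refine ⟨{ carrier := tori σ t', one_mem' := ⟨1, one_mem _, 1, by rw [map_one, map_one, one_mul]⟩,
            mul_mem' := ?_, inv_mem' := ?_ }, rfl⟩
  · rintro _ _ ⟨x, hx, a, rfl⟩ ⟨y, hy, b, rfl⟩
    refine ⟨x * y, mul_mem hx hy, a * b, ?_⟩
    rw [map_mul, map_mul, mul_assoc, ← mul_assoc (Mt σ t' a), ← (comm h K hy a).eq]
    group
  · rintro _ ⟨x, hx, a, rfl⟩
    refine ⟨x⁻¹, inv_mem hx, a⁻¹, ?_⟩
    rw [_root_.mul_inv_rev, map_inv, map_inv, ((comm h K hx a).inv_inv).eq]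

variable {T1 : Subgroup H} (hT : (T1 : Set H) = tori σ t')

include hT

theorem memD {g : SL(r + 2, F)} (hg : g ∈ D1 r F) : σ g ∈ T1 := by
  rw [← SetLike.mem_coe, hT]; exact ⟨g, hg, 1, by rw [map_one, mul_one]⟩

theorem memM (a : Fˣ) : Mt σ t' a ∈ T1 := by
  rw [← SetLike.mem_coe, hT]; exact ⟨1, one_mem _, a, by rw [map_one, one_mul]⟩

omit hT K in
theorem omD {i j : Fin (r + 2)} (hij : i ≠ j) {s v : F} (hs : s ≠ 0) (hv : v ≠ 0) :
    om i j s * (om i j v)⁻¹ ∈ D1 r F :=
  ⟨_, by simpa using (isMono_om hij hs).mul (isMono_om hij hv).inv⟩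

/-- monomial lifts normalising the tori -/
theorem lift (τ : Equiv.Perm (Fin (r + 2))) :
    ∃ g c, IsMono g τ c ∧ ∀ y ∈ T1, SLChain47.cj (σ g) y ∈ T1 := by
  induction τ using Equiv.Perm.swap_induction_on with
  | one => exact ⟨1, _, isMono_one, fun y hy => by rwa [map_one, SLChain47.cj_one]⟩
  | swap_mul f i j hij ih =>
    obtain ⟨g, c, hc, hg⟩ := ih
    refine ⟨_, _, (isMono_om hij one_ne_zero).mul hc, fun y hy => ?_⟩
    rw [map_mul, SLChain47.cj_mul]
    have h' := hg y hy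
    rw [← SetLike.mem_coe, hT] at h'
    obtain ⟨g', ⟨e', he'⟩, a, e⟩ := h'
    rw [e, SLChain47.cj_hom]
    refine mul_mem ?_ ?_
    · rw [← SLChain47.cj_map]
      refine memD K hT ?_
      have := ((isMono_om (F := F) hij one_ne_zero).mul he').mul (isMono_om (F := F) hij one_ne_zero).inv
      rw [mul_one, mul_inv_cancel] at this
      exact ⟨_, this⟩
    · have hm := pMt K a⁻¹
      have hne := scale hm (Sum.inl i) (Sum.inl j)
      have key := equivW K hm (p := Sum.inl i) (q := Sum.inl j) hij (one_ne_zero (α := F))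
      rw [Equiv.Perm.one_apply, Equiv.Perm.one_apply, one_mul, SLChain47.cj, map_inv, inv_inv, w_σ K hij,
        w_σ K hij] at key
      have : SLChain47.cj (σ (om i j 1)) (Mt σ t' a) = Mt σ t' a *
          ((Mt σ t' a)⁻¹ * σ (om i j 1) * Mt σ t' a * (σ (om i j 1))⁻¹) := by rw [SLChain47.cj]; group
      rw [this, key]
      refine mul_mem (memM K hT a) ?_
      rw [← map_inv, ← map_mul]
      exact memD K hT (omD hij hne one_ne_zero)

include h in
/-- all tori are inside -/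
theorem tor {p q : Ind (r + 1)} (hpq : sup p ≠ sup q) {s v : F} (hs : s ≠ 0) (hv : v ≠ 0) :
    w R p q s * (w R p q v)⁻¹ ∈ T1 := by
  have mixed : ∀ i j : Fin (r + 2), i ≠ j → ∀ s v, s ≠ 0 → v ≠ 0 →
      w R (.inl i) (.inr j) s * (w R (.inl i) (.inr j) v)⁻¹ ∈ T1 := by
    intro i j hij s v hs hv
    obtain ⟨τ, h1, h2⟩ := mv hij
    obtain ⟨g, c, hg, hgT⟩ := lift K hT τ
    have hg' := σ_mono h K hg
    generalize Sum.elim c (fun a => (c a)⁻¹) = C at hg'
    have hk := scale hg' (iP' r) (Sum.inr (iQ r))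
    have e1 := conjTor K hg' (p := iP' r) (q := .inr (iQ r)) supPQ' (div_ne_zero hs hk) (div_ne_zero hv hk)
    simp only [Equiv.sumCongr_apply, Sum.map_inl, Sum.map_inr, h1, h2] at e1
    rw [div_mul_cancel₀ s hk, div_mul_cancel₀ v hk] at e1
    rw [← e1, MtW K (div_ne_zero hs hk) (div_ne_zero hv hk)]
    exact hgT _ (memM K hT _)
  rcases p with i | i <;> rcases q with j | j <;> simp only [sup, Sum.elim_inl, Sum.elim_inr, id] at hpq
  · rw [w_σ K hpq, w_σ K hpq, ← map_inv, ← map_mul]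
    exact memD K hT (omD hpq hs hv)
  · exact mixed i j hpq s v hs hv
  · rw [good h K (p := .inl j) (q := .inr i) (Ne.symm hpq) hs, good h K (p := .inl j) (q := .inr i) (Ne.symm hpq) hv]
    exact mixed j i (Ne.symm hpq) _ _ (neg_ne_zero.2 (inv_ne_zero hs)) (neg_ne_zero.2 (inv_ne_zero hv))
  · have e := fun s => wanti (R := R)
      (show sup (Sum.inl j : Ind (r + 1)) ≠ sup (Sum.inl i : Ind (r + 1)) from Ne.symm hpq) s
    simp only [Sum.swap_inl] at e
    rw [e, e, w_σ K (Ne.symm hpq), w_σ K (Ne.symm hpq), ← map_inv, ← map_mul]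
    exact memD K hT (omD (Ne.symm hpq) (neg_ne_zero.2 hs) (neg_ne_zero.2 hv))

include h in
/-- the tori meet the kernel trivially -/
theorem tor_one {y : H} (hy : y ∈ T1) (hy1 : π y = 1) : y = 1 := by
  rw [← SetLike.mem_coe, hT] at hy
  obtain ⟨g, ⟨c, hc⟩, a, rfl⟩ := hy
  have hm := (σ_mono h K hc).mul (pMt K a)
  rw [← map_mul, hy1] at hm
  have hco : ∀ k : Fin (r + 2), c k * (if k = iP r then (a : F) else if k = iQ r then (a : F) else 1) = 1 := by
    intro k
    have h0 := (OMono.unique hm oMono_one (Sum.inl k)).2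
    simp only [cM, Equiv.Perm.one_apply, Sum.elim_inl] at h0
    refine Eq.trans ?_ h0
    congr 1
    have eP : (sp (iP' r) (Sum.inr (iQ r)))⁻¹ = sp (iP' r) (Sum.inr (iQ r)) :=
      inv_eq_of_mul_eq_one_right (ShortPresDWeyl.sp_sq supPQ')
    obtain ⟨v1, v2, v3, v4⟩ := wc_vals (F := F) (supPQ' (r := r)) (a : F)
    obtain ⟨u1, u2, u3, u4⟩ := wc_vals (F := F) (supPQ' (r := r)) 1
    rw [eP]
    by_cases k1 : k = iP r
    · subst k1
      rw [if_pos rfl, sp_left supPQ', v1, u4, inv_one, mul_one]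
    by_cases k2 : k = iQ r
    · subst k2
      rw [if_neg k1, if_pos rfl, show (Sum.inl (iQ r) : Ind (r + 1)) = (Sum.inr (iQ r) : Ind (r + 1)).swap from rfl,
        sp_swap supPQ', sp_right supPQ', Sum.swap_swap, v3, u2, inv_one, neg_mul_neg, mul_one]
    · have s1 : sup (Sum.inl k : Ind (r + 1)) ≠ sup (iP' r) := k1
      have s2 : sup (Sum.inl k : Ind (r + 1)) ≠ sup (Sum.inr (iQ r) : Ind (r + 1)) := k2
      rw [if_neg k1, if_neg k2, sp_other s1 s2, wc_other s1 s2, wc_other (by rw [sup_swap]; exact s1)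
        (by rw [sup_swap]; exact s2), mul_one]
  have hdet : g.1 = Matrix.diagonal c := by
    refine Matrix.ext fun i j => ?_
    have := congrFun (hc j 1) i
    simp only [Matrix.mulVec_single_one, Matrix.col_apply, Equiv.Perm.one_apply, mul_one] at this
    rw [this, Matrix.diagonal_apply, Pi.single_apply]
    by_cases e : i = j
    · rw [if_pos e, if_pos e, e]
    · rw [if_neg e, if_neg e]
  have hprod : ∏ k, c k = 1 := by
    rw [← Matrix.det_diagonal, ← hdet, g.2]
  have ha2 : (a : F) * a = 1 := by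
    have e : ∏ k, c k * (if k = iP r then (a : F) else if k = iQ r then (a : F) else 1) = 1 :=
      Finset.prod_eq_one fun k _ => hco k
    rw [Finset.prod_mul_distrib, hprod, one_mul,
      ← Finset.prod_subset (Finset.subset_univ ({iP r, iQ r} : Finset (Fin (r + 2)))) (fun k _ hk => by
        simp only [Finset.mem_insert, Finset.mem_singleton, not_or] at hk
        rw [if_neg hk.1, if_neg hk.2]), Finset.prod_pair (iPQ r), if_pos rfl, if_neg (iPQ r).symm, if_pos rfl] at e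
    exact e
  obtain ⟨g', hg'⟩ : ∃ g', Mt σ t' a = σ g' := by
    rcases mul_self_eq_one_iff.1 ha2 with e | e
    · exact ⟨1, by rw [show a = 1 from Units.ext e, map_one, map_one]⟩
    · refine ⟨om (iP r) (iQ r) 1 * om (iP r) (iQ r) 1, ?_⟩
      rw [← h.sq, show t' * t' = Mh r σ t' (SL2PresData.W * SL2PresData.W) by rw [map_mul, Mh_W h]]
      show Mh r σ t' (d a) = _
      congr 1
      apply ext2 <;> simp [d, SL2PresData.W, mul_apply2, e]
  rw [hg', ← map_mul, h.map_σ, ← map_one (lev (F := F) (m := r + 1))] at hy1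
  rw [hg', ← map_mul, lev_inj hy1, map_one]

omit hT
omit K

/-- the monomial group -/
def NA (R : PreD (r + 1) F H) : Subgroup H :=
  Subgroup.closure {g | ∃ p q s, sup p ≠ sup q ∧ s ≠ 0 ∧ g = w R p q s}

/-- its torus -/
def TT (R : PreD (r + 1) F H) : Subgroup H :=
  Subgroup.closure {g | ∃ p q s v, sup p ≠ sup q ∧ s ≠ 0 ∧ v ≠ 0 ∧ g = w R p q s * (w R p q v)⁻¹}

theorem wN {p q : Ind (r + 1)} {s : F} (a : sup p ≠ sup q) (b : s ≠ 0) : w R p q s ∈ NA R :=
  Subgroup.subset_closure ⟨p, q, s, a, b, rfl⟩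

include K

theorem monoN {n : H} (hn : n ∈ NA R) : ∃ τ c, OMono (π n) τ c := by
  induction hn using Subgroup.closure_induction with
  | mem x hx => obtain ⟨p, q, s, a, b, rfl⟩ := hx; exact ⟨_, _, pw K a b⟩
  | one => exact ⟨1, fun _ => 1, by rw [map_one]; exact oMono_one⟩
  | mul x y _ _ hx hy =>
    obtain ⟨τ, c, hc⟩ := hx
    obtain ⟨τ', c', hc'⟩ := hy
    exact ⟨_, _, by rw [map_mul]; exact hc.mul hc'⟩
  | inv x _ hx => obtain ⟨τ, c, hc⟩ := hx; exact ⟨_, _, by rw [map_inv]; exact hc.inv⟩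

theorem normT {n : H} (hn : n ∈ NA R) {y : H} (hy : y ∈ TT R) : SLChain47.cj n y ∈ TT R := by
  obtain ⟨τ, c, hc⟩ := monoN K hn
  refine conj_closure ?_ hy
  rintro _ ⟨p, q, s, v, hpq, hs, hv, rfl⟩
  exact Subgroup.subset_closure ⟨_, _, _, _, sup_ne hc.1 hpq, mul_ne_zero hs (scale hc p q),
    mul_ne_zero hv (scale hc p q), conjTor K hc hpq hs hv⟩

include h in
/-- a monomial element of the kernel is in the torus -/
theorem ker_TT {n : H} (hn : n ∈ NA R) (hn1 : π n = 1) : n ∈ TT R := by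
  haveI : ((TT R).subgroupOf (NA R)).Normal := ⟨fun y hy n => by
    rw [Subgroup.mem_subgroupOf] at hy ⊢
    simpa [SLChain47.cj] using normT K n.2 hy⟩
  let cls : NA R →* NA R ⧸ (TT R).subgroupOf (NA R) := QuotientGroup.mk' _
  have cls_eq : ∀ x y : NA R, x.1 * y.1⁻¹ ∈ TT R → cls x = cls y := by
    intro x y hxy
    rw [← mul_inv_eq_one, ← map_inv, ← map_mul]
    exact (QuotientGroup.eq_one_iff _).2 (by simpa [Subgroup.mem_subgroupOf] using hxy)
  let sR : Ind (r + 1) → Ind (r + 1) → NA R ⧸ (TT R).subgroupOf (NA R) := fun p q =>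
    if hpq : sup p ≠ sup q then cls ⟨w R p q 1, wN hpq one_ne_zero⟩ else 1
  have same : ∀ p q (hpq : sup p ≠ sup q) s (hs : s ≠ 0), cls ⟨w R p q s, wN hpq hs⟩ = sR p q := by
    intro p q hpq s hs
    simp only [sR, dif_pos hpq]
    exact cls_eq _ _ (Subgroup.subset_closure ⟨p, q, s, 1, hpq, hs, one_ne_zero, rfl⟩)
  have hone : (-(1 : F)) ≠ 0 := neg_ne_zero.2 one_ne_zero
  have sq' : ∀ p q (hpq : sup p ≠ sup q), sR p q * sR p q = 1 := by
    intro p q hpq
    nth_rw 2 [← same p q hpq (-1) hone]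
    simp only [sR, dif_pos hpq]
    rw [← map_mul]
    have : (⟨w R p q 1, wN hpq one_ne_zero⟩ * ⟨w R p q (-1), wN hpq hone⟩ : NA R) = 1 :=
      Subtype.ext (by show w R p q 1 * w R p q (-1) = 1; rw [← w_inv R hpq, mul_inv_cancel])
    rw [this, map_one]
  have Rf : ShortPresDWeyl.Refl sR := by
    refine ⟨fun p q hpq => ?_, fun p q hpq => ?_, sq', fun p q c e hpq hce => ?_⟩
    · rw [← same p q hpq (-1) hone]
      simp only [sR, dif_pos hpq.symm]
      congr 1
      exact Subtype.ext (show w R q p 1 = w R p q (-1) by rw [good h K hpq one_ne_zero, inv_one])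
    · rw [← same p q hpq (-1) hone]
      simp only [sR, dif_pos (show sup q.swap ≠ sup p.swap by simpa [sup_swap] using hpq.symm)]
      congr 1
      exact Subtype.ext (wanti hpq 1)
    · have e1 := equivW K (pw K hpq one_ne_zero) hce (one_ne_zero (α := F))
      have hne : (1 : F) * wc p q 1 c * wc p q 1 e.swap ≠ 0 := by
        rw [one_mul]; exact scale (pw K hpq one_ne_zero) c e
      rw [← same _ _ (sup_ne (sp_swap hpq) hce) _ hne]
      conv_lhs => arg 2; rw [← inv_eq_of_mul_eq_one_right (sq' p q hpq)]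
      simp only [sR, dif_pos hpq, dif_pos hce]
      rw [← map_inv, ← map_mul, ← map_mul]
      exact congrArg cls (Subtype.ext e1)
  have pairs : ∀ n (hn : n ∈ NA R), ∃ τ c, OMono (π n) τ c ∧ (cls ⟨n, hn⟩, τ) ∈
      Subgroup.closure {y : (NA R ⧸ (TT R).subgroupOf (NA R)) × Equiv.Perm (Ind (r + 1)) |
        ∃ p q, sup p ≠ sup q ∧ y = (sR p q, sp p q)} := by
    intro n hn
    induction hn using Subgroup.closure_induction with
    | mem x hx =>
      obtain ⟨p, q, s, hpq, hs, rfl⟩ := hx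
      exact ⟨_, _, pw K hpq hs, Subgroup.subset_closure ⟨p, q, hpq, by rw [← same p q hpq s hs]⟩⟩
    | one => exact ⟨1, fun _ => 1, by rw [map_one]; exact oMono_one, one_mem _⟩
    | mul x y hxm hym hx hy =>
      obtain ⟨τ, c, hc, hm⟩ := hx
      obtain ⟨τ', c', hc', hm'⟩ := hy
      exact ⟨_, _, by rw [map_mul]; exact hc.mul hc', by
        rw [show (⟨x * y, mul_mem hxm hym⟩ : NA R) = ⟨x, hxm⟩ * ⟨y, hym⟩ from rfl, map_mul]; exact mul_mem hm hm'⟩
    | inv x hxm hx =>
      obtain ⟨τ, c, hc, hm⟩ := hx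
      exact ⟨_, _, by rw [map_inv]; exact hc.inv, by
        rw [show (⟨x⁻¹, inv_mem hxm⟩ : NA R) = (⟨x, hxm⟩ : NA R)⁻¹ from rfl, map_inv]; exact inv_mem hm⟩
  obtain ⟨τ, c, hc, hm⟩ := pairs n hn
  have hτ : τ = 1 := Equiv.ext fun d => by
    rw [hn1] at hc
    exact (OMono.unique hc oMono_one d).1
  rw [hτ] at hm
  exact (QuotientGroup.eq_one_iff (⟨n, hn⟩ : NA R)).1 (ShortPresDWeyl.faithful Rf hm)

omit K

include h in
/-- **the presentation is faithful** -/
theorem main : Function.Injective π ∧ ∀ p q s, rt F p q s ∈ π.range := by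
  obtain ⟨R, K⟩ := exists_roots h
  refine ⟨?_, fun p q s => ?_⟩
  swap
  · by_cases hpq : sup p ≠ sup q
    · exact ⟨_, K.hπ p q hpq s⟩
    · rw [rt, dif_neg hpq]; exact one_mem _
  have hr : 2 ≤ r := Fact.out
  obtain ⟨T1, hT⟩ := exists_torus h K
  refine (injective_iff_map_eq_one π).2 fun g hg => ?_
  obtain ⟨x, hx, n, hn, y, hy, rfl⟩ := bruhat R (show 2 ≤ r + 1 by omega) K.hgen g
  rw [map_mul, map_mul] at hg
  have hnA : n ∈ NA R := by
    refine (Subgroup.closure_le _).2 ?_ hn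
    rintro _ ⟨p, q, s, hs, hs0, rfl⟩
    exact wN hs.1 hs0
  obtain ⟨τ, -, hact⟩ := mono_N R π K.hπ (show 2 ≤ r + 1 by omega) hn
  have hnw : π n = π (x⁻¹ * y⁻¹) := by
    rw [map_mul, map_inv, map_inv]
    calc π n = (π x)⁻¹ * (π x * π n * π y) * (π y)⁻¹ := by group
      _ = _ := by rw [hg, mul_one]
  have hn1 : π n = 1 := ext_bv fun d => by
    obtain ⟨b, hb⟩ := hact d
    obtain ⟨h1, -⟩ := unitri R π K.hπ (mul_mem (inv_mem hx) (inv_mem hy)) d
    rw [show act π (x⁻¹ * y⁻¹) (bv d) = act π n (bv d) by rw [act, act, hnw], hb] at h1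
    by_cases hτd : τ d = d
    · rw [hτd] at h1 hb
      have : b = 1 := by simpa [bv] using h1
      rwa [this, one_smul] at hb
    · simp [bv, Ne.symm hτd] at h1
  have hn2 : n = 1 := tor_one h K hT ((Subgroup.closure_le _).2 (by
    rintro _ ⟨p, q, s, v, hpq, hs, hv, rfl⟩
    exact tor h K hT hpq hs hv) (ker_TT h K hnA hn1)) hn1
  rw [hn1, mul_one, ← map_mul] at hg
  rw [hn2, mul_one]
  exact U_injective R π K.hπ (r + 1 + 1) 0 (by omega) _ (mul_mem hx hy) hg

end Main

end Cfsg.Agent.ShortPresOmegaInj
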