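import Cfsg.Agent.Lib.ShortPresBlockEmb
import Cfsg.Agent.Lib.DBruhat47

/-!
The Levi map of `SL(n)` into the orthogonal group of a hyperbolic form of rank `n`, one further monomial element,
and the identities between them.
-/

set_option autoImplicit false
set_option backward.isDefEq.respectTransparency false
set_option linter.unusedSectionVars false

namespace Cfsg.Agent.ShortPresOmegaModel

open Matrix QuadraticMap PSL2Elements ShortPresSL StemSLnTv ShortPresSpCore ShortPresBlockEmb
open DChain47 DOrth47 DBruhat47 OrthUnitaryQuad OrthUnitaryRefl OrthUnitarySimple OrthUnitaryStd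
open scoped MatrixGroups

variable {F : Type*} [Field F]

section OMono
variable {m : ℕ}

/-- monomial on the standard basis -/
def OMono (g : orth (qD F m)) (τ : Equiv.Perm (Ind m)) (c : Ind m → F) : Prop :=
  (∀ d, τ d.swap = (τ d).swap) ∧ ∀ d, g.1 (bv d) = c d • bv (τ d)

theorem oMono_one : OMono (1 : orth (qD F m)) 1 (fun _ => 1) :=
  ⟨fun _ => rfl, fun d => by rw [one_smul]; rfl⟩

theorem OMono.mul {g h : orth (qD F m)} {σ τ : Equiv.Perm (Ind m)} {c e : Ind m → F} (hg : OMono g σ c)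
    (hh : OMono h τ e) : OMono (g * h) (σ * τ) (fun d => c (τ d) * e d) :=
  ⟨fun d => by simp [hg.1, hh.1], fun d => by
    rw [orth_mul_apply, hh.2, map_smul, hg.2, smul_smul, mul_comm, Equiv.Perm.mul_apply]⟩

theorem OMono.coeff {g : orth (qD F m)} {τ : Equiv.Perm (Ind m)} {c : Ind m → F} (hg : OMono g τ c) (d : Ind m) :
    c d * c d.swap = 1 := by
  have h := polar_orth g (bv d) (bv d.swap)
  rw [hg.2, hg.2, polar_smul_left, polar_smul_right, polar_bv, polar_bv, hg.1] at h
  simpa [bv] using h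

theorem OMono.inv {g : orth (qD F m)} {τ : Equiv.Perm (Ind m)} {c : Ind m → F} (hg : OMono g τ c) :
    OMono g⁻¹ τ⁻¹ (fun d => c (τ⁻¹ d).swap) := by
  refine ⟨fun d => ?_, fun d => ?_⟩
  · apply τ.injective
    rw [hg.1, Equiv.Perm.inv_def, Equiv.apply_symm_apply, Equiv.apply_symm_apply]
  · have e := hg.2 (τ⁻¹ d)
    rw [Equiv.Perm.inv_def, Equiv.apply_symm_apply, ← Equiv.Perm.inv_def] at e
    have h1 : (g⁻¹ * g).1 (bv (τ⁻¹ d)) = bv (τ⁻¹ d) := by rw [inv_mul_cancel]; rfl
    rw [orth_mul_apply, e, map_smul] at h1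
    have hc := hg.coeff (τ⁻¹ d)
    rw [← h1, smul_smul, mul_comm (c (τ⁻¹ d).swap), hc, one_smul]

theorem OMono.conj_rt {g : orth (qD F m)} {τ : Equiv.Perm (Ind m)} {c : Ind m → F} (hg : OMono g τ c)
    {p q : Ind m} (h : sup p ≠ sup q) (h' : sup (τ p) ≠ sup (τ q)) (t : F) :
    g * rt F p q t * g⁻¹ = rt F (τ p) (τ q) (t * c p * c q.swap) := by
  rw [mul_inv_eq_iff_eq_mul]
  refine orth_ext fun y => ?_
  rw [orth_mul_apply, orth_mul_apply, rt_apply h, rt_apply h', map_sub, map_add, map_smul, map_smul, hg.2, hg.2,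
    hg.1]
  have hy : ∀ d, (g.1 y) ((τ d).swap) * c d = y d.swap := fun d => by
    have h1 := polar_orth g (bv d) y
    rw [hg.2, polar_smul_left, polar_bv, polar_bv] at h1
    rw [← h1]; simp [mul_comm]
  have e1 := hy q.swap
  rw [hg.1, Sum.swap_swap, Sum.swap_swap] at e1
  have e2 := hy p
  rw [← e1, ← e2]
  module

theorem OMono.eq {g h : orth (qD F m)} {σ τ : Equiv.Perm (Ind m)} {c e : Ind m → F} (hg : OMono g σ c)
    (hh : OMono h τ e) (h1 : ∀ d, σ d = τ d) (h2 : ∀ d, c d = e d) : g = h := by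
  have : h⁻¹ * g = 1 := ext_bv fun d => by
    have h3 : (h⁻¹ * h).1 (bv d) = bv d := by rw [inv_mul_cancel]; rfl
    rw [orth_mul_apply, hg.2, h1, h2, ← hh.2, ← orth_mul_apply]
    exact h3
  exact (inv_mul_eq_one.mp this).symm

/-- a Weyl element -/
noncomputable def wr (p q : Ind m) (t : F) : orth (qD F m) := rt F p q t * rt F q p (-t⁻¹) * rt F p q t

/-- its coefficients -/
def wc (p q : Ind m) (t : F) (d : Ind m) : F :=
  if d = q then t else if d = p then -t⁻¹ else if d = p.swap then -t else if d = q.swap then t⁻¹ else 1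

theorem oMono_wr {p q : Ind m} (h : sup p ≠ sup q) {t : F} (ht : t ≠ 0) : OMono (wr p q t) (sp p q) (wc p q t) := by
  refine ⟨sp_swap h, fun d => ?_⟩
  have n1 : p ≠ p.swap := by rcases p with a | a <;> simp
  have n2 : q ≠ q.swap := by rcases q with a | a <;> simp
  have n3 : p ≠ q := fun e => h (by rw [e])
  have n4 : p ≠ q.swap := fun e => h (by rw [e, sup_swap])
  have n5 : q ≠ p.swap := fun e => h (by rw [e, sup_swap])
  have n6 : p.swap ≠ q.swap := fun e => h (by simpa [sup_swap] using congrArg sup e)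
  rw [wr, orth_mul_apply, orth_mul_apply]
  simp only [rt_apply h, rt_apply h.symm, wc, sp, Equiv.Perm.mul_apply]
  by_cases h1 : d = q
  · subst h1
    simp [bv, n1, n2, n3, n4, n5, n6, n1.symm, n2.symm, n3.symm, n4.symm, n5.symm, n6.symm, ht,
      Equiv.swap_apply_of_ne_of_ne]
  by_cases h2 : d = p
  · subst h2
    simp [bv, n1, n2, n3, n4, n5, n6, n1.symm, n2.symm, n3.symm, n4.symm, n5.symm, n6.symm, ht,
      Equiv.swap_apply_of_ne_of_ne]
  by_cases h3 : d = p.swap
  · subst h3
    simp [bv, n1, n2, n3, n4, n5, n6, n1.symm, n2.symm, n3.symm, n4.symm, n5.symm, n6.symm, ht,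
      Equiv.swap_apply_of_ne_of_ne]
  by_cases h4 : d = q.swap
  · subst h4
    simp [bv, n1, n2, n3, n4, n5, n6, n1.symm, n2.symm, n3.symm, n4.symm, n5.symm, n6.symm, ht,
      Equiv.swap_apply_of_ne_of_ne]
  simp [bv, h1, h2, h3, h4, Ne.symm h1, Ne.symm h2, Ne.symm h3, Ne.symm h4, Equiv.swap_apply_of_ne_of_ne]

end OMono

section Levi
variable {m : ℕ}

theorem dot_inv (g : SL(m + 1, F)) (v w : Fin (m + 1) → F) :
    (g.1 *ᵥ v) ⬝ᵥ ((g⁻¹).1ᵀ *ᵥ w) = v ⬝ᵥ w := by
  rw [Matrix.dotProduct_mulVec, Matrix.vecMul_transpose, Matrix.mulVec_mulVec, ← Matrix.SpecialLinearGroup.coe_mul,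
    inv_mul_cancel, show (1 : SL(m + 1, F)).1 = 1 from rfl, Matrix.one_mulVec]

/-- the Levi action -/
noncomputable def levFun (g : SL(m + 1, F)) : (Ind m → F) →ₗ[F] (Ind m → F) where
  toFun y := Sum.elim (g.1 *ᵥ (y ∘ Sum.inl)) ((g⁻¹).1ᵀ *ᵥ (y ∘ Sum.inr))
  map_add' y z := by
    funext d; rcases d with a | a <;> simp [Pi.add_comp, Matrix.mulVec_add]
  map_smul' s y := by
    funext d; rcases d with a | a <;> simp [Pi.smul_comp, Matrix.mulVec_smul]

theorem levFun_mul (g h : SL(m + 1, F)) : levFun (g * h) = (levFun g).comp (levFun h) := by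
  refine LinearMap.ext fun y => ?_
  funext d
  rcases d with a | a
  · simp [levFun, Matrix.SpecialLinearGroup.coe_mul, Matrix.mulVec_mulVec]
  · show (((g * h)⁻¹).1ᵀ *ᵥ (y ∘ Sum.inr)) a = ((g⁻¹).1ᵀ *ᵥ ((h⁻¹).1ᵀ *ᵥ (y ∘ Sum.inr))) a
    rw [_root_.mul_inv_rev, Matrix.SpecialLinearGroup.coe_mul, Matrix.transpose_mul, Matrix.mulVec_mulVec]

theorem levFun_one : levFun (1 : SL(m + 1, F)) = LinearMap.id := by
  refine LinearMap.ext fun y => ?_
  funext d
  rcases d with a | a <;>
    simp [levFun, show (1 : SL(m + 1, F)).1 = 1 from rfl]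

theorem levFun_form (g : SL(m + 1, F)) (y : Ind m → F) : qD F m (levFun g y) = qD F m y := by
  simp only [qfPlus_apply, quadFormPlus]
  exact dot_inv g _ _

/-- the Levi map -/
noncomputable def lev : SL(m + 1, F) →* orth (qD F m) where
  toFun g := ⟨LinearEquiv.ofLinearMap (levFun g) (levFun g⁻¹)
    (by rw [← levFun_mul, mul_inv_cancel, levFun_one]) (by rw [← levFun_mul, inv_mul_cancel, levFun_one]),
    levFun_form g⟩
  map_one' := orth_ext fun y => by
    show levFun (1 : SL(m + 1, F)) y = y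
    rw [levFun_one]; rfl
  map_mul' g h := orth_ext fun y => by
    show levFun (g * h) y = levFun g (levFun h y)
    rw [levFun_mul]; rfl

theorem lev_apply (g : SL(m + 1, F)) (y : Ind m → F) :
    (lev g).1 y = Sum.elim (g.1 *ᵥ (y ∘ Sum.inl)) ((g⁻¹).1ᵀ *ᵥ (y ∘ Sum.inr)) := rfl

theorem tv_inv {n : ℕ} {i j : Fin n} (hij : i ≠ j) (t : F) : (tv i j t)⁻¹ = tv i j (-t) :=
  inv_eq_of_mul_eq_one_right (by rw [← tv_add hij, add_neg_cancel, tv_zero])

theorem lev_tv {i j : Fin (m + 1)} (hij : i ≠ j) (t : F) : lev (tv i j t) = rt F (Sum.inl i : Ind m) (Sum.inl j) t := by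
  have h : sup (Sum.inl i : Ind m) ≠ sup (Sum.inl j : Ind m) := hij
  refine orth_ext fun y => ?_
  funext d
  rw [lev_apply, rt_coord h]
  rcases d with a | a
  · simp [tv_mulVec hij, Pi.single_apply]
  · rw [tv_inv hij]
    simp [Matrix.mulVec, dotProduct, tv_entry hij, Finset.sum_add_distrib, add_mul, ite_mul, Finset.sum_ite_eq,
      Finset.sum_ite_eq']
    by_cases ha : a = j
    · subst ha; simp [Finset.sum_ite_eq, sub_eq_add_neg]
    · simp [ha, Ne.symm ha]

theorem lev_om {i j : Fin (m + 1)} (hij : i ≠ j) (t : F) :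
    lev (om i j t) = wr (Sum.inl i : Ind m) (Sum.inl j) t := by
  rw [om, map_mul, map_mul, lev_tv hij, lev_tv hij.symm]; rfl

theorem oMono_lev {g : SL(m + 1, F)} {σ : Equiv.Perm (Fin (m + 1))} {c : Fin (m + 1) → F} (hg : IsMono g σ c) :
    OMono (lev g) (Equiv.sumCongr σ σ) (Sum.elim c (fun a => (c a)⁻¹)) := by
  refine ⟨fun d => by rcases d with a | a <;> rfl, fun d => ?_⟩
  have hi := hg.inv
  rw [lev_apply]
  rcases d with a | a
  · have e1 : (bv (Sum.inl a) : Ind m → F) ∘ Sum.inl = Pi.single a 1 := by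
      funext b; simp [bv, Pi.single_apply]
    have e2 : (bv (Sum.inl a) : Ind m → F) ∘ Sum.inr = 0 := by funext b; simp [bv]
    rw [e1, e2, hg, Matrix.mulVec_zero]
    funext b; rcases b with b | b <;> simp [bv, Pi.single_apply]
  · have e1 : (bv (Sum.inr a) : Ind m → F) ∘ Sum.inl = 0 := by funext b; simp [bv]
    have e2 : (bv (Sum.inr a) : Ind m → F) ∘ Sum.inr = Pi.single a 1 := by
      funext b; simp [bv, Pi.single_apply]
    rw [e1, e2, Matrix.mulVec_zero]
    funext b
    rcases b with b | b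
    · simp [bv]
    · have key := congrFun (hi b 1) a
      simp only [Matrix.mulVec_single_one, Matrix.col_apply, mul_one] at key
      simp only [Sum.elim_inr, Matrix.mulVec_single_one, Matrix.col_apply, Matrix.transpose_apply]
      rw [key]
      by_cases hb : b = σ a
      · subst hb; simp [bv]
      · have : a ≠ σ⁻¹ b := fun e => hb (by rw [e, Equiv.Perm.inv_def, Equiv.apply_symm_apply])
        rw [Pi.single_eq_of_ne this]; simp [bv, hb]

end Levi

section Elements
variable {r : ℕ} [Fact (2 ≤ r)]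

/-- the last pair, as signed indices -/
abbrev iP' (r : ℕ) : Ind (r + 1) := Sum.inl (iP r)

/-- the last pair, as signed indices -/
abbrev iQ' (r : ℕ) : Ind (r + 1) := Sum.inl (iQ r)

/-- the first index -/
def i0 (r : ℕ) : Fin (r + 2) := ⟨0, by omega⟩

theorem i0P : i0 r ≠ iP r := by
  have := (Fact.out : 2 ≤ r)
  simp [i0, Fin.ext_iff, val_iP]; omega

theorem i0Q : i0 r ≠ iQ r := by simp [i0, Fin.ext_iff, val_iQ]

theorem supPQ' : sup (iP' r) ≠ sup (Sum.inr (iQ r) : Ind (r + 1)) := iPQ r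

/-- the new element -/
noncomputable def t0 : orth (qD F (r + 1)) := wr (iP' r) (Sum.inr (iQ r)) 1

/-- moves the first coordinate to the last pair -/
def zel : SL(r + 2, F) := om (i0 r) (iP r) 1

/-- the product giving a sign change -/
noncomputable def g0 : orth (qD F (r + 1)) :=
  lev (zel (r := r)) * (t0 * lev (om (iP r) (iQ r) 1)) * (lev (zel (r := r)))⁻¹

theorem lev_zel : lev (zel : SL(r + 2, F)) = wr (Sum.inl (i0 r) : Ind (r + 1)) (iP' r) 1 := lev_om i0P 1

theorem sup_zel : sup (Sum.inl (i0 r) : Ind (r + 1)) ≠ sup (iP' r) := i0P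

/-- the permutation of the sign change -/
def gperm (r : ℕ) : Equiv.Perm (Ind (r + 1)) :=
  Equiv.swap (Sum.inl (i0 r)) (Sum.inr (i0 r)) * Equiv.swap (iQ' r) (Sum.inr (iQ r))

/-- its coefficients -/
def gcoef (r : ℕ) (d : Ind (r + 1)) : F := if sup d = iQ r then -1 else if sup d = i0 r then -1 else 1

theorem oMono_g0 : OMono (g0 : orth (qD F (r + 1))) (gperm r) (gcoef r) := by
  have h1 := oMono_wr (F := F) (sup_zel (r := r)) one_ne_zero
  have h2 := oMono_wr (F := F) (supPQ' (r := r)) one_ne_zero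
  have h3 := oMono_wr (F := F) (show sup (iP' r) ≠ sup (iQ' r) from iPQ r) one_ne_zero
  have h := (h1.mul (h2.mul h3)).mul h1.inv
  have e : (g0 : orth (qD F (r + 1))) = wr (Sum.inl (i0 r) : Ind (r + 1)) (iP' r) 1 *
      (wr (iP' r) (Sum.inr (iQ r)) 1 * wr (iP' r) (iQ' r) 1) *
      (wr (Sum.inl (i0 r) : Ind (r + 1)) (iP' r) 1)⁻¹ := by
    rw [g0, lev_zel, lev_om (iPQ r)]; rfl
  have n1 := iPQ r
  have n2 := i0P (r := r)
  have n3 := i0Q (r := r)
  have key : ∀ d, ((sp (Sum.inl (i0 r) : Ind (r + 1)) (iP' r) * (sp (iP' r) (Sum.inr (iQ r)) * sp (iP' r) (iQ' r))) *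
      (sp (Sum.inl (i0 r) : Ind (r + 1)) (iP' r))⁻¹) d = gperm r d := by
    intro d
    simp only [sp, gperm, Sum.swap_inl, Sum.swap_inr, _root_.mul_inv_rev, Equiv.swap_inv, Equiv.Perm.mul_apply]
    rcases d with a | a <;>
      (by_cases a1 : a = i0 r <;> by_cases a2 : a = iP r <;> by_cases a3 : a = iQ r <;>
        simp_all [Equiv.swap_apply_def, n1.symm, n2.symm, n3.symm])
  refine ⟨fun d => ?_, fun d => ?_⟩
  · rw [← key, ← key]; exact h.1 d
  · rw [e, h.2, key]
    congr 1
    simp only [wc, gcoef, sp, Sum.swap_inl, Sum.swap_inr, _root_.mul_inv_rev, Equiv.swap_inv, Equiv.Perm.mul_apply]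
    rcases d with a | a <;>
      (by_cases a1 : a = i0 r <;> by_cases a2 : a = iP r <;> by_cases a3 : a = iQ r <;>
        simp_all [Equiv.swap_apply_def, sup, n1.symm, n2.symm, n3.symm])

/-- the square -/
theorem t0_sq : (t0 : orth (qD F (r + 1))) * t0 = lev (om (iP r) (iQ r) 1 * om (iP r) (iQ r) 1) := by
  rw [map_mul, lev_om (iPQ r), t0]
  have h2 := oMono_wr (F := F) (supPQ' (r := r)) one_ne_zero
  have h3 := oMono_wr (F := F) (show sup (iP' r) ≠ sup (iQ' r) from iPQ r) one_ne_zero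
  have n1 := iPQ r
  refine (h2.mul h2).eq (h3.mul h3) (fun d => ?_) fun d => ?_ <;>
    simp only [wc, sp, Sum.swap_inl, Sum.swap_inr, Equiv.Perm.mul_apply] <;>
    rcases d with a | a <;>
      (by_cases a2 : a = iP r <;> by_cases a3 : a = iQ r <;> simp_all [Equiv.swap_apply_def, n1.symm])

/-- the new element is conjugate to a Weyl element -/
theorem t0_eq : (t0 : orth (qD F (r + 1))) = g0 * (lev (om (iP r) (iQ r) 1))⁻¹ * g0⁻¹ := by
  rw [lev_om (iPQ r), t0]
  have h2 := oMono_wr (F := F) (supPQ' (r := r)) one_ne_zero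
  have h3 := oMono_wr (F := F) (show sup (iP' r) ≠ sup (iQ' r) from iPQ r) one_ne_zero
  have n1 := iPQ r
  have n2 := i0P (r := r)
  have n3 := i0Q (r := r)
  refine h2.eq ((oMono_g0.mul h3.inv).mul oMono_g0.inv) (fun d => ?_) fun d => ?_ <;>
    simp only [wc, sp, gperm, gcoef, Sum.swap_inl, Sum.swap_inr, _root_.mul_inv_rev, Equiv.swap_inv,
      Equiv.Perm.mul_apply] <;>
    rcases d with a | a <;>
      (by_cases a1 : a = i0 r <;> by_cases a2 : a = iP r <;> by_cases a3 : a = iQ r <;>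
        simp_all [Equiv.swap_apply_def, sup, n1.symm, n2.symm, n3.symm])

theorem g0_tv (t : F) :
    g0 * lev (tv (iP r) (iQ r) t) * g0⁻¹ = rt F (iP' r) (Sum.inr (iQ r)) (-t) ∧
      g0 * lev (tv (iQ r) (iP r) t) * g0⁻¹ = rt F (Sum.inr (iQ r)) (iP' r) (-t) := by
  have n1 := iPQ r
  have n2 := i0P (r := r)
  have n3 := i0Q (r := r)
  have eP : gperm r (iP' r) = iP' r := by
    simp [gperm, Equiv.swap_apply_def, n2.symm, n1]
  have eQ : gperm r (iQ' r) = Sum.inr (iQ r) := by
    simp [gperm, Equiv.swap_apply_def, n3.symm, n3]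
  rw [lev_tv (iPQ r), lev_tv (iPQ r).symm]
  constructor
  · rw [oMono_g0.conj_rt (show sup (iP' r) ≠ sup (iQ' r) from iPQ r) (by rw [eP, eQ]; exact supPQ'), eP, eQ]
    congr 1
    simp [gcoef, sup, n1, n2.symm]
  · rw [oMono_g0.conj_rt (show sup (iQ' r) ≠ sup (iP' r) from (iPQ r).symm) (by rw [eP, eQ]; exact supPQ'.symm), eP, eQ]
    congr 1
    simp [gcoef, sup, n1, n2.symm]

theorem t0_commute (y : SL(r, F) × SL(2, F)) : Commute (t0 : orth (qD F (r + 1))) (lev (blkC r y)) := by
  have h2 := oMono_wr (F := F) (supPQ' (r := r)) one_ne_zero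
  have n1 := iPQ r
  have low : ∀ x : SL(r, F), Commute (t0 : orth (qD F (r + 1))) (lev (embI (Fin.castAddEmb 2) x)) := by
    intro x
    have hm : x ∈ (Subgroup.centralizer {(t0 : orth (qD F (r + 1)))}).comap (lev.comp (embI (Fin.castAddEmb 2))) := by
      rw [sl_le ((Subgroup.centralizer {(t0 : orth (qD F (r + 1)))}).comap (lev.comp (embI (Fin.castAddEmb 2))))
        fun i j hij s => ?_]
      · trivial
      rw [Subgroup.mem_comap, Subgroup.mem_centralizer_singleton_iff, MonoidHom.comp_apply, embI_tv _ hij,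
        lev_tv ((Fin.castAddEmb 2).injective.ne hij)]
      have fix : ∀ k : Fin r, sp (iP' r) (Sum.inr (iQ r)) (Sum.inl (Fin.castAddEmb 2 k)) =
          Sum.inl (Fin.castAddEmb 2 k) := fun k => by
        have := k.isLt
        have := val_iP r; have := val_iQ r
        have : (Fin.castAddEmb 2 k : Fin (r + 2)).val = k.val := rfl
        have hP : Fin.castAddEmb 2 k ≠ iP r := Fin.ne_of_val_ne (by omega)
        have hQ : Fin.castAddEmb 2 k ≠ iQ r := Fin.ne_of_val_ne (by omega)
        simp only [Fin.castAddEmb_apply] at hP hQ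
        simp [sp, Equiv.swap_apply_def, hP, hQ]
      have hne : sup (Sum.inl (Fin.castAddEmb 2 i) : Ind (r + 1)) ≠ sup (Sum.inl (Fin.castAddEmb 2 j) : Ind (r + 1)) :=
        (Fin.castAddEmb 2).injective.ne hij
      have := h2.conj_rt hne (by rw [fix, fix]; exact hne) s
      rw [fix, fix] at this
      have c1 : ∀ (k : Fin r), wc (iP' r) (Sum.inr (iQ r)) (1 : F) (Sum.inl (Fin.castAddEmb 2 k)) = 1 ∧
          wc (iP' r) (Sum.inr (iQ r)) (1 : F) (Sum.inr (Fin.castAddEmb 2 k)) = 1 := fun k => by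
        have := k.isLt
        have := val_iP r; have := val_iQ r
        have : (Fin.castAddEmb 2 k : Fin (r + 2)).val = k.val := rfl
        constructor <;> simp [wc, Fin.ext_iff] <;> omega
      rw [(c1 i).1, Sum.swap_inl, (c1 j).2, mul_one, mul_one, mul_inv_eq_iff_eq_mul] at this
      exact this.symm
    rw [Subgroup.mem_comap, Subgroup.mem_centralizer_singleton_iff] at hm
    exact hm.symm
  have high : ∀ x : SL(2, F), Commute (t0 : orth (qD F (r + 1))) (lev (J (iPQ r) x)) := by
    intro x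
    have k : (MulAut.conj (t0 : orth (qD F (r + 1)))).toMonoidHom.comp (lev.comp (J (iPQ r))) =
        lev.comp (J (F := F) (iPQ r)) := by
      refine MonoidHom.ext (ShortPresSL.hom_eq_roots (fun s => ?_) fun s => ?_) <;>
        simp only [MonoidHom.comp_apply, MulEquiv.coe_toMonoidHom, MulAut.conj_apply, J_u, J_lo, t0]
      · rw [lev_tv (iPQ r), h2.conj_rt (show sup (iP' r) ≠ sup (iQ' r) from iPQ r)
          (by simp [sp, Equiv.swap_apply_def, n1, n1.symm, sup])]
        have e1 : sp (iP' r) (Sum.inr (iQ r)) (iP' r) = Sum.inr (iQ r) := by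
          simp [sp, Equiv.swap_apply_def]; exact fun e => absurd e n1
        have e2 : sp (iP' r) (Sum.inr (iQ r)) (iQ' r) = Sum.inr (iP r) := by
          simp [sp, Equiv.swap_apply_def, n1, n1.symm]
        rw [e1, e2, show (Sum.inr (iQ r) : Ind (r + 1)) = (iQ' r).swap from rfl,
          show (Sum.inr (iP r) : Ind (r + 1)) = (iP' r).swap from rfl,
          rt_anti (show sup (iP' r) ≠ sup (iQ' r) from iPQ r)]
        congr 1
        simp [wc, n1, n1.symm]
      · rw [lev_tv (iPQ r).symm, h2.conj_rt (show sup (iQ' r) ≠ sup (iP' r) from (iPQ r).symm)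
          (by simp [sp, Equiv.swap_apply_def, n1, n1.symm, sup])]
        have e1 : sp (iP' r) (Sum.inr (iQ r)) (iP' r) = Sum.inr (iQ r) := by
          simp [sp, Equiv.swap_apply_def]; exact fun e => absurd e n1
        have e2 : sp (iP' r) (Sum.inr (iQ r)) (iQ' r) = Sum.inr (iP r) := by
          simp [sp, Equiv.swap_apply_def, n1, n1.symm]
        rw [e1, e2, show (Sum.inr (iQ r) : Ind (r + 1)) = (iQ' r).swap from rfl,
          show (Sum.inr (iP r) : Ind (r + 1)) = (iP' r).swap from rfl,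
          rt_anti (show sup (iQ' r) ≠ sup (iP' r) from (iPQ r).symm)]
        congr 1
        simp [wc, n1, n1.symm]
    have := DFunLike.congr_fun k x
    simp only [MonoidHom.comp_apply, MulEquiv.coe_toMonoidHom, MulAut.conj_apply, mul_inv_eq_iff_eq_mul] at this
    exact this
  obtain ⟨x, z⟩ := y
  rw [show (x, z) = (x, (1 : SL(2, F))) * ((1 : SL(r, F)), z) by simp, map_mul, map_mul, blkC_low, blkC_pair]
  exact (low x).mul_right (high z)

end Elements

section Omega
variable {m : ℕ}

theorem polar_nondeg : (polarBilin (qD F m)).Nondegenerate :=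
  nondegenerate_iff_left _ fun v hv => by
    funext c
    have := hv (bv c.swap)
    rw [polar_comm, polar_bv, Sum.swap_swap] at this
    simpa using this

/-- root elements generate the singular transformations, in every characteristic -/
theorem sGroup_le' {M : Subgroup (orth (qD F m))}
    (hM : ∀ (p q : Ind m) (t : F), sup p ≠ sup q → rt F p q t ∈ M) : sGroup (qD F m) ≤ M := by
  have hef : polar (qD F m) (bv (.inl 0)) (bv (.inr 0)) = 1 := by rw [polar_bv]; simp [bv]
  have key : ∀ p : Ind m, sup p = 0 → ∀ y, polar (qD F m) (bv (.inl 0)) y = 0 →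
      polar (qD F m) (bv (.inr 0)) y = 0 → TwoGenSiegel.Rt M (bv p) y := by
    intro p hp y h1 h2
    have hy : y = ∑ c, y c • bv c := by
      funext d
      simp [bv, Finset.sum_apply, Pi.single_apply]
    rw [hy]
    refine TwoGenSiegel.rt_sum (qD_bv p) _ _ fun c _ => ?_
    by_cases hc : sup c = 0
    · have : y c = 0 := by
        rcases c with a | a <;> simp only [sup, Sum.elim_inl, Sum.elim_inr, id] at hc <;> subst hc
        · rw [polar_bv] at h2; simpa using h2
        · rw [polar_bv] at h1; simpa using h1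
      rw [this, zero_smul]
      exact TwoGenSiegel.rt_zero (qD_bv p)
    · have hne : sup p ≠ sup c.swap := by rw [hp, sup_swap]; exact Ne.symm hc
      refine ⟨qD_bv p, by rw [polar_smul_right, bv_perp (by rwa [sup_swap] at hne), smul_zero], ?_⟩
      have := hM p c.swap (-(y c)) hne
      rw [rt, dif_pos hne] at this
      simpa using this
  exact TwoGenSiegel.sGroup_le_of_pair polar_nondeg (qD_bv _) (qD_bv _) hef (key (.inl 0) rfl) (key (.inr 0) rfl)

theorem rt_mem (p q : Ind m) (t : F) : rt F p q t ∈ sGroup (qD F m) := by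
  by_cases h : sup p ≠ sup q
  · rw [rt, dif_pos h]
    exact siegel_mem_sGroup _ _ (by rw [QuadraticMap.map_smul, qD_bv, smul_zero])
  · rw [rt, dif_neg h]; exact one_mem _

theorem lev_mem (g : SL(m + 1, F)) (hm : 1 ≤ m) : lev g ∈ sGroup (qD F m) := by
  haveI : Nontrivial (Fin (m + 1)) := Fin.nontrivial_iff_two_le.mpr (by omega)
  exact (sl_le ((sGroup (qD F m)).comap lev) (fun i j hij t => by
    rw [Subgroup.mem_comap, lev_tv hij]; exact rt_mem _ _ _) ▸ Subgroup.mem_top g :
      g ∈ (sGroup (qD F m)).comap lev)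

/-- the derived orthogonal group as the group of singular transformations -/
noncomputable def omegaIso [Fintype F] (hm : 2 ≤ m) :
    Omega F (quadFormPlus (m + 1) F) ≃* sGroup (qD F m) :=
  (OrthUnitaryStd.omegaEquiv (qD F m) _ (LinearEquiv.refl F _) (fun x => (qfPlus_apply F (m + 1) x).symm)).trans
    (MulEquiv.subgroupCongr (commutator_eq_sGroup polar_nondeg (by
      rw [Module.finrank_pi, Fintype.card_sum, Fintype.card_fin]; omega)))

/-- the centre is cyclic -/
theorem center_cyclic [Fintype F] (hm : 2 ≤ m) : IsCyclic (Subgroup.center (Omega F (quadFormPlus (m + 1) F))) := by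
  let e := OrthUnitaryStd.omegaEquiv (qD F m) _ (LinearEquiv.refl F _) (fun x => (qfPlus_apply F (m + 1) x).symm)
  have h := OrthUnitaryCentre.card_center_commutator (F := F) (Q := qD F m) polar_nondeg (qD_bv (Sum.inl 0))
    (fun h => by simpa [bv] using congrFun h (Sum.inl 0))
    (by rw [Module.finrank_pi, Fintype.card_sum, Fintype.card_fin]; omega)
  rw [← Nat.card_congr (Subgroup.centerCongr e).toEquiv] at h
  split_ifs at h with h2
  · haveI : Fact (Nat.Prime 2) := ⟨Nat.prime_two⟩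
    exact isCyclic_of_prime_card h
  · haveI := (Nat.card_eq_one_iff_unique.mp h).1
    exact isCyclic_of_subsingleton

end Omega

end Cfsg.Agent.ShortPresOmegaModel
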