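import Cfsg.Agent.Lib.ShortPresTools

/-!
Presentations with a controlled number of letters.
-/

set_option autoImplicit false

universe u v w

namespace Cfsg.Agent.ShortPresTracked

open ShortPres

/-- `G` has a presentation with exactly `k` letters and at most `N` relators -/
def PresBy (G : Type u) [Group G] (k N : ℕ) : Prop :=
  ∃ (x : Fin k → G) (R : List (FreeGroup (Fin k))), R.length ≤ N ∧ Pres x R

variable {G : Type u} [Group G]

theorem PresBy.short {k N : ℕ} (h : PresBy G k N) : Short G N := by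
  obtain ⟨x, R, hR, hP⟩ := h
  exact ⟨Fin k, x, R, hR, hP⟩

theorem PresBy.mono {k N M : ℕ} (h : PresBy G k N) (hNM : N ≤ M) : PresBy G k M := by
  obtain ⟨x, R, hR, hP⟩ := h
  exact ⟨x, R, hR.trans hNM, hP⟩

theorem PresBy.of_presented {k N : ℕ} (rels : Finset (FreeGroup (Fin k))) (hN : rels.card ≤ N)
    (e : PresentedGroup (↑rels : Set (FreeGroup (Fin k))) ≃* G) : PresBy G k N := by
  refine ⟨fun i => e (PresentedGroup.of i), rels.toList, (Finset.length_toList rels).trans_le hN,
    ⟨fun r hr => ?_, ?_, fun {H} _ y hy => ?_⟩⟩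
  · rw [← map_word e.toMonoidHom (x := PresentedGroup.of) (y := fun i => e (PresentedGroup.of i)) (fun _ => rfl),
      show FreeGroup.lift (fun i => (PresentedGroup.of i : PresentedGroup (↑rels : Set (FreeGroup (Fin k))))) =
        PresentedGroup.mk _ from FreeGroup.ext_hom _ _ fun i => by simp [PresentedGroup.of],
      PresentedGroup.one_of_mem (by simpa using hr), map_one]
  · rw [show Set.range (fun i => e (PresentedGroup.of i)) = e.toMonoidHom '' Set.range PresentedGroup.of by ext; simp,
      ← MonoidHom.map_closure, PresentedGroup.closure_range_of, Subgroup.map_top_of_surjective _ e.surjective]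
  · refine ⟨(PresentedGroup.toGroup (f := y) fun r hr => hy r (by simpa using hr)).comp e.symm.toMonoidHom,
      fun i => ?_⟩
    simp

/-- back to presented groups -/
theorem PresBy.presented {k N : ℕ} (h : PresBy G k N) :
    ∃ rels : Finset (FreeGroup (Fin k)), rels.card ≤ N ∧
      Nonempty (PresentedGroup (↑rels : Set (FreeGroup (Fin k))) ≃* G) := by
  classical
  obtain ⟨x, R, hR, hP⟩ := h
  refine ⟨R.toFinset, (List.toFinset_card_le R).trans hR, ?_⟩
  set S : Set (FreeGroup (Fin k)) := ↑R.toFinset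
  let π : PresentedGroup S →* G := PresentedGroup.toGroup (f := x) fun r hr => hP.sat r (by simpa [S] using hr)
  have e : FreeGroup.lift (fun i => (PresentedGroup.of i : PresentedGroup S)) = PresentedGroup.mk S :=
    FreeGroup.ext_hom _ _ fun i => by simp [PresentedGroup.of]
  obtain ⟨f, hf⟩ := hP.univ (H := PresentedGroup S) PresentedGroup.of fun r hr => by
    rw [e]; exact PresentedGroup.one_of_mem (by simpa [S] using hr)
  refine ⟨MonoidHom.toMulEquiv π f (PresentedGroup.ext fun i => ?_) ?_⟩
  · simp only [MonoidHom.comp_apply, π, PresentedGroup.toGroup.of, hf, MonoidHom.id_apply]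
  · refine MonoidHom.eq_of_eqOn_dense hP.gen ?_
    rintro _ ⟨i, rfl⟩
    simp only [MonoidHom.comp_apply, hf, π, PresentedGroup.toGroup.of, MonoidHom.id_apply]

theorem PresBy.congr {H : Type v} [Group H] {k N : ℕ} (h : PresBy G k N) (e : G ≃* H) : PresBy H k N := by
  obtain ⟨rels, hr, ⟨f⟩⟩ := h.presented
  exact PresBy.of_presented rels hr (f.trans e)

/-- a further trivial letter -/
theorem PresBy.pad {k N : ℕ} (h : PresBy G k N) : PresBy G (k + 1) (N + 1) := by
  obtain ⟨x, R, hR, hP⟩ := h
  let X : Fin (k + 1) → G := Fin.snoc x 1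
  let j : FreeGroup (Fin k) →* FreeGroup (Fin (k + 1)) := FreeGroup.lift fun i => FreeGroup.of (Fin.castSucc i)
  have ej : ∀ w, FreeGroup.lift X (j w) = FreeGroup.lift x w := fun w =>
    map_word (FreeGroup.lift X) (fun i => by simp [X]) w
  refine ⟨X, R.map j ++ [FreeGroup.of (Fin.last k)], by simp; omega, ⟨fun r hr => ?_, ?_, fun {H} _ y hy => ?_⟩⟩
  · rcases List.mem_append.mp hr with hr | hr
    · obtain ⟨w, hw, rfl⟩ := List.mem_map.mp hr
      rw [ej]; exact hP.sat w hw
    · rw [List.mem_singleton.mp hr]; simp [X]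
  · rw [eq_top_iff, ← hP.gen]
    refine Subgroup.closure_mono ?_
    rintro _ ⟨i, rfl⟩
    exact ⟨Fin.castSucc i, by simp [X]⟩
  · obtain ⟨f, hf⟩ := hP.univ (fun i => y (Fin.castSucc i)) fun r hr => by
      rw [← hy (j r) (List.mem_append_left _ (List.mem_map_of_mem hr))]
      exact (map_word (FreeGroup.lift y) (fun i => by simp) r).symm
    refine ⟨f, fun i => ?_⟩
    induction i using Fin.lastCases with
    | last =>
      have := hy (FreeGroup.of (Fin.last k)) (by simp)
      simp only [FreeGroup.lift_apply_of] at this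
      simp [X, this]
    | cast i => simp [X, hf]

/-- one further relator -/
theorem PresBy.quotient {Q : Type v} [Group Q] {k N : ℕ} (h : PresBy G k N) (q : G →* Q)
    (hq : Function.Surjective q) (z : G) (hz : q z = 1) (hker : q.ker ≤ Subgroup.normalClosure {z}) :
    PresBy Q k (N + 1) := by
  obtain ⟨x, R, hR, hP⟩ := h
  obtain ⟨wz, hwz⟩ := exists_word hP.gen z
  refine ⟨fun i => q (x i), R ++ [wz], by simp; omega, Pres.of_inj ?_ ?_ ?_⟩
  · intro r hr
    rw [← map_word q (x := x) (y := fun i => q (x i)) (fun _ => rfl)]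
    rcases List.mem_append.mp hr with hr | hr
    · rw [hP.sat r hr, map_one]
    · rw [List.mem_singleton.mp hr, hwz, hz]
  · rw [show Set.range (fun i => q (x i)) = q '' Set.range x by ext; simp, ← MonoidHom.map_closure,
      hP.gen, Subgroup.map_top_of_surjective _ hq]
  · intro H _ y π hπ hgen hy
    obtain ⟨f, hf⟩ := hP.univ y fun r hr => hy r (List.mem_append_left _ hr)
    have hc : ∀ g, π (f g) = q g := fun g => by
      obtain ⟨w, rfl⟩ := exists_word hP.gen g
      rw [map_word f hf, map_word π hπ, map_word q (fun _ => rfl)]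
    have hfz : f z = 1 := by
      rw [← hwz, map_word f hf]; exact hy _ (by simp)
    have hle : q.ker ≤ f.ker := hker.trans (Subgroup.normalClosure_le_normal (by simpa using hfz))
    refine (injective_iff_map_eq_one π).mpr fun a ha => ?_
    obtain ⟨w, rfl⟩ := exists_word hgen a
    rw [← map_word f hf] at ha ⊢
    rw [hc] at ha
    exact hle ha

/-- amalgamation -/
theorem PresBy.amalgam {A : Type v} {B : Type w} [Group A] [Group B] {kA kB NA NB : ℕ}
    (hA : PresBy A kA NA) (hB : PresBy B kB NB) (iA : A →* G) (iB : B →* G) (gen : iA.range ⊔ iB.range = ⊤)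
    (E : List (FreeGroup (A ⊕ B))) (sat : ∀ r ∈ E, FreeGroup.lift (Sum.elim iA iB) r = 1)
    (inj : ∀ (H : Type) [Group H] (fA : A →* H) (fB : B →* H) (π : H →* G),
      (∀ a, π (fA a) = iA a) → (∀ b, π (fB b) = iB b) → fA.range ⊔ fB.range = ⊤ →
      (∀ r ∈ E, FreeGroup.lift (Sum.elim fA fB) r = 1) → Function.Injective π) :
    PresBy G (kA + kB) (NA + NB + E.length) := by
  obtain ⟨x, R, hR, hP⟩ := hA
  obtain ⟨x', R', hR', hP'⟩ := hB
  choose wA hwA using exists_word hP.gen
  choose wB hwB using exists_word hP'.gen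
  let iL : Fin kA → Fin (kA + kB) := Fin.castAdd kB
  let iR : Fin kB → Fin (kA + kB) := Fin.natAdd kA
  let jA : FreeGroup (Fin kA) →* FreeGroup (Fin (kA + kB)) := FreeGroup.lift fun i => FreeGroup.of (iL i)
  let jB : FreeGroup (Fin kB) →* FreeGroup (Fin (kA + kB)) := FreeGroup.lift fun i => FreeGroup.of (iR i)
  let X : Fin (kA + kB) → G := Fin.append (fun i => iA (x i)) (fun j => iB (x' j))
  have XL : ∀ i, X (iL i) = iA (x i) := fun i => Fin.append_left _ _ i
  have XR : ∀ j, X (iR j) = iB (x' j) := fun j => Fin.append_right _ _ j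
  let Φ : FreeGroup (A ⊕ B) →* FreeGroup (Fin (kA + kB)) :=
    FreeGroup.lift (Sum.elim (fun a => jA (wA a)) (fun b => jB (wB b)))
  refine ⟨X, (R.map jA ++ R'.map jB) ++ E.map Φ, by simp; omega, Pres.of_inj ?_ ?_ ?_⟩
  · have eA : ∀ w, FreeGroup.lift X (jA w) = iA (FreeGroup.lift x w) := fun w => by
      rw [map_word (FreeGroup.lift X) (y := fun i => iA (x i)) (fun i => by simp [XL]) w,
        ← map_word iA (fun _ => rfl) w]
    have eB : ∀ w, FreeGroup.lift X (jB w) = iB (FreeGroup.lift x' w) := fun w => by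
      rw [map_word (FreeGroup.lift X) (y := fun i => iB (x' i)) (fun i => by simp [XR]) w,
        ← map_word iB (fun _ => rfl) w]
    intro r hr
    simp only [List.mem_append, List.mem_map] at hr
    rcases hr with (⟨w, hw, rfl⟩ | ⟨w, hw, rfl⟩) | ⟨w, hw, rfl⟩
    · rw [eA, hP.sat w hw, map_one]
    · rw [eB, hP'.sat w hw, map_one]
    · rw [map_word (FreeGroup.lift X) (y := Sum.elim iA iB) (fun s => ?_) w]
      · exact sat w hw
      · rcases s with a | b <;> simp [eA, eB, hwA, hwB]
  · rw [eq_top_iff, ← gen, sup_le_iff, MonoidHom.range_eq_map, MonoidHom.range_eq_map, ← hP.gen, ← hP'.gen,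
      MonoidHom.map_closure, MonoidHom.map_closure]
    constructor <;> refine Subgroup.closure_mono ?_ <;> rintro _ ⟨_, ⟨i, rfl⟩, rfl⟩
    · exact ⟨iL i, XL i⟩
    · exact ⟨iR i, XR i⟩
  · intro H _ y π hπ hgen hy
    have eA : ∀ w, FreeGroup.lift y (jA w) = FreeGroup.lift (fun i => y (iL i)) w := fun w =>
      map_word (FreeGroup.lift y) (fun i => by simp) w
    have eB : ∀ w, FreeGroup.lift y (jB w) = FreeGroup.lift (fun i => y (iR i)) w := fun w =>
      map_word (FreeGroup.lift y) (fun i => by simp) w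
    obtain ⟨fA, hfA⟩ := hP.univ (fun i => y (iL i)) fun r hr => by
      rw [← eA]; exact hy _ (by simp only [List.mem_append, List.mem_map]; exact Or.inl (Or.inl ⟨r, hr, rfl⟩))
    obtain ⟨fB, hfB⟩ := hP'.univ (fun i => y (iR i)) fun r hr => by
      rw [← eB]; exact hy _ (by simp only [List.mem_append, List.mem_map]; exact Or.inl (Or.inr ⟨r, hr, rfl⟩))
    refine inj H fA fB π (fun a => ?_) (fun b => ?_) ?_ fun r hr => ?_
    · rw [← hwA a, map_word fA hfA, map_word π (y := fun i => iA (x i)) (fun i => (hπ _).trans (XL i)),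
        ← map_word iA (fun _ => rfl)]
    · rw [← hwB b, map_word fB hfB, map_word π (y := fun j => iB (x' j)) (fun j => (hπ _).trans (XR j)),
        ← map_word iB (fun _ => rfl)]
    · rw [eq_top_iff, ← hgen, Subgroup.closure_le]
      rintro _ ⟨i, rfl⟩
      induction i using Fin.addCases with
      | left i => exact Subgroup.mem_sup_left ⟨x i, hfA i⟩
      | right i => exact Subgroup.mem_sup_right ⟨x' i, hfB i⟩
    · rw [← hy (Φ r) (by simp only [List.mem_append, List.mem_map]; exact Or.inr ⟨r, hr, rfl⟩)]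
      refine (map_word (FreeGroup.lift y) (fun s => ?_) r).symm
      rcases s with a | b
      · rw [← hwA a]; simp [eA, ← map_word fA hfA, hwA]
      · rw [← hwB b]; simp [eB, ← map_word fB hfB, hwB]

end Cfsg.Agent.ShortPresTracked
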