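import Cfsg.Agent.Lib.ShortPresOmegaInj
import Cfsg.Agent.Lib.ShortPresTracked

/-!
A presentation of the hyperbolic orthogonal group from one of `SL(n)`: one further letter and a few relators.
-/

set_option autoImplicit false
set_option backward.isDefEq.respectTransparency false
set_option linter.unusedSectionVars false

namespace Cfsg.Agent.ShortPresOmegaPres

open PSL2Elements hiding w
open Matrix QuadraticMap ShortPresSL StemSLnTv ShortPresSpCore ShortPresBlockEmb ShortPresOmegaModel
  ShortPresOmegaInj ShortPres ShortPresTracked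
open DChain47 DOrth47 DBruhat47 OrthUnitaryQuad OrthUnitaryRefl OrthUnitarySimple OrthUnitaryStd
open Multiplicative (ofAdd)
open scoped MatrixGroups

variable {F : Type*} [Field F]

/-- the infinite cyclic group is free -/
theorem int_pres : PresBy (Multiplicative ℤ) 1 0 := by
  refine ⟨fun _ => ofAdd 1, [], le_rfl, ?_⟩
  constructor
  · simp
  · rw [eq_top_iff]
    intro x _
    have : x = (ofAdd (1 : ℤ)) ^ x.toAdd := by
      rw [← ofAdd_zsmul]; simp
    rw [this]
    exact Subgroup.zpow_mem _ (Subgroup.subset_closure (Set.mem_range_self 0)) _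
  · intro H _ y _
    refine ⟨zpowersHom H (y 0), fun i => ?_⟩
    fin_cases i
    simp [zpowersHom]

section Model
variable {r : ℕ} [Fact (2 ≤ r)]

/-- the new block commutes with the block diagonal group in the orthogonal group -/
theorem model_commute (a : SL(2, F)) (y : SL(r, F) × SL(2, F)) :
    Commute (Mh r (lev (F := F)) (t0 : orth (qD F (r + 1))) a) (lev (blkC r y)) := by
  obtain ⟨R, hR⟩ := DOrth47.exists_preD F (r + 1)
  have hx : ∀ p q s, R.x p q s = (rt F p q s : orth (qD F (r + 1))) := fun p q s => by rw [hR]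
  have nl : ∀ i : Fin r, (Fin.castAddEmb 2 i : Fin (r + 2)) ≠ iP r ∧ (Fin.castAddEmb 2 i : Fin (r + 2)) ≠ iQ r := by
    intro i
    have := i.isLt
    have := val_iP r
    have := val_iQ r
    have : (Fin.castAddEmb 2 i : Fin (r + 2)).val = i.val := rfl
    exact ⟨Fin.ne_of_val_ne (by omega), Fin.ne_of_val_ne (by omega)⟩
  have key : ∀ s, Commute (rt F (iP' r) (Sum.inr (iQ r)) s : orth (qD F (r + 1))) (lev (blkC r y)) ∧
      Commute (rt F (Sum.inr (iQ r)) (iP' r) s : orth (qD F (r + 1))) (lev (blkC r y)) := by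
    intro s
    have low : ∀ (g : orth (qD F (r + 1))), (∀ i j : Fin r, i ≠ j → ∀ v,
        Commute g (rt F (Sum.inl (Fin.castAddEmb 2 i) : Ind (r + 1)) (Sum.inl (Fin.castAddEmb 2 j)) v)) →
        (∀ v, Commute g (rt F (iP' r) (iQ' r) v) ∧ Commute g (rt F (iQ' r) (iP' r) v)) →
        Commute g (lev (blkC r y)) := by
      intro g hl hh
      obtain ⟨x, z⟩ := y
      rw [show (x, z) = (x, (1 : SL(2, F))) * ((1 : SL(r, F)), z) by simp, map_mul, map_mul, blkC_low, blkC_pair]
      refine Commute.mul_right ?_ ?_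
      · have : x ∈ (Subgroup.centralizer {g}).comap (lev.comp (embI (Fin.castAddEmb 2))) := by
          rw [sl_le ((Subgroup.centralizer {g}).comap (lev.comp (embI (Fin.castAddEmb 2)))) fun i j hij v => ?_]
          · trivial
          rw [Subgroup.mem_comap, Subgroup.mem_centralizer_singleton_iff, MonoidHom.comp_apply, embI_tv _ hij,
            lev_tv ((Fin.castAddEmb 2).injective.ne hij)]
          exact (hl i j hij v).symm.eq
        rw [Subgroup.mem_comap, Subgroup.mem_centralizer_singleton_iff] at this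
        exact this.symm
      · have : z ∈ (Subgroup.centralizer {g}).comap (lev.comp (ShortPresBlockEmb.J (iPQ r))) := by
          rw [sl2_top' ((Subgroup.centralizer {g}).comap (lev.comp (ShortPresBlockEmb.J (iPQ r)))) (fun v => ?_)
            fun v => ?_]
          · trivial
          · rw [Subgroup.mem_comap, Subgroup.mem_centralizer_singleton_iff, MonoidHom.comp_apply, J_u,
              lev_tv (iPQ r)]
            exact (hh v).1.symm.eq
          · rw [Subgroup.mem_comap, Subgroup.mem_centralizer_singleton_iff, MonoidHom.comp_apply, J_lo,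
              lev_tv (iPQ r).symm]
            exact (hh v).2.symm.eq
        rw [Subgroup.mem_comap, Subgroup.mem_centralizer_singleton_iff] at this
        exact this.symm
    have hP : sup (iP' r) ≠ sup (Sum.inr (iQ r) : Ind (r + 1)) := iPQ r
    have hPQ : sup (iP' r) ≠ sup (iQ' r) := iPQ r
    have sw : ∀ v, rt F (iQ' r) (iP' r) v =
        rt F (Sum.inr (iP r) : Ind (r + 1)) (Sum.inr (iQ r)) (-v) := fun v => by
      rw [show (Sum.inr (iP r) : Ind (r + 1)) = (iP' r).swap from rfl,
        show (Sum.inr (iQ r) : Ind (r + 1)) = (iQ' r).swap from rfl, rt_anti hPQ.symm, neg_neg]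
    have sw' : ∀ v, rt F (iP' r) (iQ' r) v =
        rt F (Sum.inr (iQ r) : Ind (r + 1)) (Sum.inr (iP r)) (-v) := fun v => by
      rw [show (Sum.inr (iP r) : Ind (r + 1)) = (iP' r).swap from rfl,
        show (Sum.inr (iQ r) : Ind (r + 1)) = (iQ' r).swap from rfl, rt_anti hPQ, neg_neg]
    have ap : ∀ (i j : Fin r), i ≠ j → ∀ v (p q : Ind (r + 1)), sup p ≠ sup q → (sup p = iP r ∨ sup p = iQ r) →
        (sup q = iP r ∨ sup q = iQ r) →
        Commute (rt F p q s) (rt F (Sum.inl (Fin.castAddEmb 2 i) : Ind (r + 1)) (Sum.inl (Fin.castAddEmb 2 j)) v) := by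
      intro i j hij v p q hpq hp hq
      have := R.apart p q (Sum.inl (Fin.castAddEmb 2 i)) (Sum.inl (Fin.castAddEmb 2 j)) hpq
        ((Fin.castAddEmb 2).injective.ne hij)
        (by rcases hp with e | e <;> rw [e] <;> [exact (nl i).1.symm; exact (nl i).2.symm])
        (by rcases hp with e | e <;> rw [e] <;> [exact (nl j).1.symm; exact (nl j).2.symm])
        (by rcases hq with e | e <;> rw [e] <;> [exact (nl i).1.symm; exact (nl i).2.symm])
        (by rcases hq with e | e <;> rw [e] <;> [exact (nl j).1.symm; exact (nl j).2.symm]) s v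
      rwa [hx, hx] at this
    refine ⟨low _ (fun i j hij v => ap i j hij v _ _ hP (Or.inl rfl) (Or.inr rfl)) fun v => ⟨?_, ?_⟩,
      low _ (fun i j hij v => ap i j hij v _ _ hP.symm (Or.inr rfl) (Or.inl rfl)) fun v => ⟨?_, ?_⟩⟩
    · have := R.tail (iP' r) (Sum.inr (iQ r)) (iQ' r) hP hPQ (by simp) s v
      rwa [hx, hx] at this
    · rw [sw]
      have := head R (p := iP' r) (q := Sum.inr (iP r)) (r := Sum.inr (iQ r)) hP hP (by simp) s (-v)
      rwa [hx, hx] at this
    · rw [sw']
      have := R.tail (Sum.inr (iQ r)) (iP' r) (Sum.inr (iP r)) hP.symm hP.symm (by simp) s (-v)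
      rwa [hx, hx] at this
    · have := head R (p := Sum.inr (iQ r)) (q := iQ' r) (r := iP' r) hP.symm hPQ.symm (by simp) s v
      rwa [hx, hx] at this
  have hg : gel r (lev (F := F)) (t0 : orth (qD F (r + 1))) = g0 := rfl
  have : a ∈ (Subgroup.centralizer {lev (blkC r y)}).comap (Mh r (lev (F := F)) (t0 : orth (qD F (r + 1)))) := by
    rw [sl2_top' ((Subgroup.centralizer {lev (blkC r y)}).comap (Mh r (lev (F := F)) (t0 : orth (qD F (r + 1)))))
      (fun s => ?_) fun s => ?_]
    · trivial
    · rw [Subgroup.mem_comap, Subgroup.mem_centralizer_singleton_iff, Mh_apply, hg, ← up_u, SL3Edge47.delta_up,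
        up_u, J_u, (g0_tv _).1, neg_neg]
      exact (key s).1.eq
    · rw [Subgroup.mem_comap, Subgroup.mem_centralizer_singleton_iff, Mh_apply, hg, ← lo_lo, SL3Edge47.delta_lo,
        lo_lo, J_lo, (g0_tv _).2, neg_neg]
      exact (key s).2.eq
  exact Subgroup.mem_centralizer_singleton_iff.1 this

/-- the root elements are in the group generated by the Levi subgroup and the new element -/
theorem root_le (a : SL(2, F)) (ha : Subgroup.closure ({a, ShortPresTransGen.itAut a} : Set SL(2, F)) = ⊤)
    (K : Subgroup (orth (qD F (r + 1)))) (hl : ∀ x, lev x ∈ K) (ht : (t0 : orth (qD F (r + 1))) ∈ K) :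
    sGroup (qD F (r + 1)) ≤ K := by
  let K0 : Subgroup (orth (qD F (r + 1))) := (lev (F := F)).range ⊔ Subgroup.zpowers t0
  have hK0 : K0 ≤ K := sup_le (by rintro _ ⟨x, rfl⟩; exact hl x) ((Subgroup.zpowers_le).2 ht)
  refine le_trans (sGroup_le' fun p q t _ => ?_) hK0
  let σ0 : SL(r + 2, F) →* K0 := (lev (F := F)).codRestrict K0 fun x => Subgroup.mem_sup_left ⟨x, rfl⟩
  let u0 : K0 := ⟨t0, Subgroup.mem_sup_right (Subgroup.mem_zpowers _)⟩
  have hM : ∀ x, K0.subtype (Mh r σ0 u0 x) = Mh r (lev (F := F)) t0 x := fun x => rfl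
  have h : Rels σ0 u0 K0.subtype a :=
    { map_σ := fun _ => rfl
      map_t := rfl
      gen := by
        refine Subgroup.map_injective K0.subtype_injective ?_
        rw [Subgroup.map_sup, ← MonoidHom.range_comp, MonoidHom.map_zpowers, ← MonoidHom.range_eq_map,
          Subgroup.range_subtype]
        rfl
      ha := ha
      c1 := fun y => K0.subtype_injective (t0_commute y)
      sq := K0.subtype_injective t0_sq
      conj := K0.subtype_injective t0_eq
      c2 := fun y => K0.subtype_injective (model_commute a y) }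
  obtain ⟨⟨g, hg⟩, e⟩ := (ShortPresOmegaInj.main h).2 p q t
  rw [← e]; exact hg

end Model

/-- the letter for an element of `SL` -/
def wA {r : ℕ} (x : SL(r + 2, F)) : FreeGroup (SL(r + 2, F) ⊕ Multiplicative ℤ) := FreeGroup.of (Sum.inl x)

/-- the new letter -/
def wT {r : ℕ} : FreeGroup (SL(r + 2, F) ⊕ Multiplicative ℤ) := FreeGroup.of (Sum.inr (ofAdd 1))

/-- the word of the sign change -/
def wG (r : ℕ) : FreeGroup (SL(r + 2, F) ⊕ Multiplicative ℤ) :=
  wA zel * (wT * wA (om (iP r) (iQ r) 1)) * (wA zel)⁻¹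

/-- the word of an element of the new block -/
noncomputable def wM (r : ℕ) (a : SL(2, F)) : FreeGroup (SL(r + 2, F) ⊕ Multiplicative ℤ) :=
  wG r * wA (ShortPresBlockEmb.J (iPQ r) (SL3Edge47.delta a)) * (wG r)⁻¹

theorem evM {r : ℕ} [Fact (2 ≤ r)] {G : Type*} [Group G] (fA : SL(r + 2, F) →* G) (fB : Multiplicative ℤ →* G)
    (a : SL(2, F)) : FreeGroup.lift (Sum.elim fA fB) (wM r a) = Mh r fA (fB (ofAdd 1)) a ∧
      FreeGroup.lift (Sum.elim fA fB) (wG r) = gel r fA (fB (ofAdd 1)) := by
  constructor <;>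
    simp only [wM, wG, wA, wT, map_mul, map_inv, FreeGroup.lift_apply_of, Sum.elim_inl, Sum.elim_inr,
      Mh_apply, gel]

/-- one further letter -/
theorem omega_pres [Fintype F] {r : ℕ} (hr : 2 ≤ r) {k N : ℕ} (hA : PresBy SL(r + 2, F) k N) :
    PresBy (Cfsg.Omega F (Cfsg.quadFormPlus (r + 2) F)) (k + 1) (N + 2 * (if r = 2 then 3 else 2) + 2) := by
  classical
  haveI : Fact (2 ≤ r) := ⟨hr⟩
  obtain ⟨a, ha⟩ := ShortPresTransGen.exists_gen (F := F)
  obtain ⟨Y, hY, hYtop⟩ := exists_gens (F := F) hr a _ ha SL2PresData.W (itAut_conj a).symm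
  let S : Subgroup (orth (qD F (r + 1))) := sGroup (qD F (r + 1))
  let iA : SL(r + 2, F) →* S := (lev (F := F)).codRestrict S fun x => lev_mem x (by omega)
  have ht0 : (t0 : orth (qD F (r + 1))) ∈ S :=
    mul_mem (mul_mem (rt_mem _ _ _) (rt_mem _ _ _)) (rt_mem _ _ _)
  let iB : Multiplicative ℤ →* S := zpowersHom S ⟨t0, ht0⟩
  have hiB : iB (ofAdd 1) = ⟨t0, ht0⟩ := by simp [iB, zpowersHom]
  -- the relators as words
  let wJ : SL(r + 2, F) := om (iP r) (iQ r) 1
  let E : List (FreeGroup (SL(r + 2, F) ⊕ Multiplicative ℤ)) :=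
    Y.map (fun y => wT * wA (blkC r y) * (wA (blkC r y) * wT)⁻¹) ++
    Y.map (fun y => wM r a * wA (blkC r y) * (wA (blkC r y) * wM r a)⁻¹) ++
    [wT * wT * (wA (wJ * wJ))⁻¹, wT * (wG r * (wA wJ)⁻¹ * (wG r)⁻¹)⁻¹]
  have inS : Function.Injective S.subtype := S.subtype_injective
  have hMS : ∀ x, S.subtype (Mh r iA (⟨t0, ht0⟩ : S) x) = Mh r (lev (F := F)) t0 x := fun x => rfl
  have hGS : S.subtype (gel r iA (⟨t0, ht0⟩ : S)) = g0 := rfl
  have sat : ∀ r' ∈ E, FreeGroup.lift (Sum.elim iA iB) r' = 1 := by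
    simp only [E, List.forall_mem_append, List.forall_mem_map, List.forall_mem_cons, List.not_mem_nil, false_imp_iff,
      implies_true, and_true]
    refine ⟨⟨fun y _ => ?_, fun y _ => ?_⟩, ?_, ?_⟩
    · simp only [wT, wA, map_mul, map_inv, FreeGroup.lift_apply_of, Sum.elim_inl, Sum.elim_inr, hiB, mul_inv_eq_one]
      exact inS (t0_commute y).eq
    · simp only [map_mul, map_inv, (evM iA iB a).1, mul_inv_eq_one]
      simp only [wA, FreeGroup.lift_apply_of, Sum.elim_inl, hiB]
      exact inS (model_commute a y).eq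
    · simp only [wT, wA, wJ, map_mul, map_inv, FreeGroup.lift_apply_of, Sum.elim_inl, Sum.elim_inr, hiB, mul_inv_eq_one]
      exact inS (t0_sq.trans (map_mul lev _ _))
    · simp only [map_mul, map_inv, (evM iA iB a).2, mul_inv_eq_one]
      simp only [wT, wA, wJ, FreeGroup.lift_apply_of, Sum.elim_inl, Sum.elim_inr, hiB]
      exact inS t0_eq
  have gen : iA.range ⊔ iB.range = ⊤ := by
    refine Subgroup.map_injective inS ?_
    rw [Subgroup.map_sup, ← MonoidHom.range_comp, ← MonoidHom.range_comp, ← MonoidHom.range_eq_map,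
      Subgroup.range_subtype]
    refine le_antisymm (sup_le ?_ ?_) (root_le a ha _ (fun x => Subgroup.mem_sup_left ⟨x, rfl⟩)
      (Subgroup.mem_sup_right ⟨ofAdd 1, by simp [hiB]⟩))
    · rintro _ ⟨x, rfl⟩; exact (iA x).2
    · rintro _ ⟨x, rfl⟩; exact (iB x).2
  have hinj : ∀ (H : Type) [Group H] (fA : SL(r + 2, F) →* H) (fB : Multiplicative ℤ →* H) (π : H →* S),
      (∀ x, π (fA x) = iA x) → (∀ x, π (fB x) = iB x) → fA.range ⊔ fB.range = ⊤ →
      (∀ r' ∈ E, FreeGroup.lift (Sum.elim fA fB) r' = 1) → Function.Injective π := by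
    intro H _ fA fB π hπA hπB hgen hrel
    simp only [E, List.forall_mem_append, List.forall_mem_map, List.forall_mem_cons, List.not_mem_nil, false_imp_iff,
      implies_true, and_true] at hrel
    obtain ⟨⟨r1, r4⟩, r2, r3⟩ := hrel
    simp only [wT, wA, wJ, map_mul, map_inv, FreeGroup.lift_apply_of, Sum.elim_inl, Sum.elim_inr, mul_inv_eq_one]
      at r1 r2
    simp only [map_mul, map_inv, (evM fA fB a).1, (evM fA fB a).2, mul_inv_eq_one] at r3 r4
    simp only [wT, wA, wJ, FreeGroup.lift_apply_of, Sum.elim_inl, Sum.elim_inr] at r3 r4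
    have allY : ∀ (g : H), (∀ y ∈ Y, Commute g (fA (blkC r y))) → ∀ y, Commute g (fA (blkC r y)) := by
      intro g hg y
      have hle : Subgroup.closure {y | y ∈ Y} ≤ (Subgroup.centralizer {g}).comap (fA.comp (blkC r)) := by
        rw [Subgroup.closure_le]
        intro z hz
        exact Subgroup.mem_centralizer_singleton_iff.2 (hg z hz).symm.eq
      exact (Subgroup.mem_centralizer_singleton_iff.1 (hle (hYtop ▸ Subgroup.mem_top y))).symm
    have h : Rels fA (fB (ofAdd 1)) (S.subtype.comp π) a :=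
      { map_σ := fun x => by rw [MonoidHom.comp_apply, hπA]; rfl
        map_t := by rw [MonoidHom.comp_apply, hπB, hiB]; rfl
        gen := by
          rw [eq_top_iff, ← hgen]
          refine sup_le le_sup_left ?_
          rintro _ ⟨x, rfl⟩
          refine Subgroup.mem_sup_right ⟨x.toAdd, ?_⟩
          show fB (ofAdd 1) ^ x.toAdd = fB x
          rw [← map_zpow, ← ofAdd_zsmul]
          simp
        ha := ha
        c1 := allY _ r1
        sq := r2.trans (map_mul fA _ _).symm
        conj := r3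
        c2 := allY _ r4 }
    exact Function.Injective.of_comp (f := S.subtype) (ShortPresOmegaInj.main h).1
  refine ((PresBy.amalgam hA int_pres iA iB gen E sat hinj).congr (omegaIso (by omega)).symm).mono ?_
  simp only [E, List.length_append, List.length_map, List.length_cons, List.length_nil]
  omega

/-- the projective group -/
theorem pomega_pres [Fintype F] {r : ℕ} (hr : 2 ≤ r) {k N : ℕ}
    (h : PresBy (Cfsg.Omega F (Cfsg.quadFormPlus (r + 2) F)) k N) :
    PresBy (Cfsg.POmega F (Cfsg.quadFormPlus (r + 2) F)) k (N + 1) := by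
  obtain ⟨⟨z, hz⟩, hgen⟩ := (center_cyclic (F := F) (show 2 ≤ r + 1 by omega)).exists_generator
  refine h.quotient (QuotientGroup.mk' _) (QuotientGroup.mk'_surjective _) z
    ((QuotientGroup.eq_one_iff _).mpr hz) fun g hg => ?_
  obtain ⟨i, hi⟩ := hgen ⟨g, (QuotientGroup.ker_mk' _).le hg⟩
  have : g = z ^ i := by have := congrArg Subtype.val hi; simpa using this.symm
  rw [this]
  exact Subgroup.zpow_mem _ (Subgroup.subset_normalClosure (Set.mem_singleton _)) i

end Cfsg.Agent.ShortPresOmegaPres
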