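import Mathlib

/-!
A prime between two thirds of `m` and `m`.
-/

set_option autoImplicit false

namespace Cfsg.Agent.ShortPresPrimes

open Nat Finset

theorem ratio (j : ℕ) : 5 ^ j * (3 * j).choose j ≤ (6 * j).choose (2 * j) := by
  induction j with
  | zero => simp
  | succ j ih =>
    have hf := Nat.choose_mul_factorial_mul_factorial (show 2 * j ≤ 6 * j by omega)
    have hf' := Nat.choose_mul_factorial_mul_factorial (show 2 * (j + 1) ≤ 6 * (j + 1) by omega)
    have hg := Nat.choose_mul_factorial_mul_factorial (show j ≤ 3 * j by omega)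
    have hg' := Nat.choose_mul_factorial_mul_factorial (show j + 1 ≤ 3 * (j + 1) by omega)
    rw [show 6 * j - 2 * j = 4 * j by omega] at hf
    rw [show 6 * (j + 1) - 2 * (j + 1) = 4 * j + 4 by omega, show 2 * (j + 1) = 2 * j + 2 by ring,
      show 6 * (j + 1) = 6 * j + 6 by ring] at hf'
    rw [show 3 * j - j = 2 * j by omega] at hg
    rw [show 3 * (j + 1) - (j + 1) = 2 * j + 2 by omega, show 3 * (j + 1) = 3 * j + 3 by ring] at hg'
    simp only [Nat.factorial_succ] at hf' hg'
    rw [show 2 * (j + 1) = 2 * j + 2 by ring, show 6 * (j + 1) = 6 * j + 6 by ring,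
      show 3 * (j + 1) = 3 * j + 3 by ring]
    set f := (6 * j).choose (2 * j)
    set g := (3 * j).choose j
    set f' := (6 * j + 6).choose (2 * j + 2)
    set g' := (3 * j + 3).choose (j + 1)
    set Df := (2 * j + 2) * (2 * j + 1) * ((4 * j + 4) * (4 * j + 3) * (4 * j + 2) * (4 * j + 1))
    set N := (6 * j + 6) * (6 * j + 5) * (6 * j + 4) * (6 * j + 3) * (6 * j + 2) * (6 * j + 1)
    set Dg := (j + 1) * ((2 * j + 2) * (2 * j + 1))
    set R := (3 * j + 3) * (3 * j + 2) * (3 * j + 1)
    have e1 : f' * Df = f * N := by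
      refine Nat.eq_of_mul_eq_mul_right (Nat.mul_pos (Nat.factorial_pos (2 * j)) (Nat.factorial_pos (4 * j))) ?_
      calc f' * Df * ((2 * j)! * (4 * j)!) = N * (6 * j)! := by linear_combination hf'
        _ = f * N * ((2 * j)! * (4 * j)!) := by rw [← hf]; ring
    have e2 : g' * Dg = g * R := by
      refine Nat.eq_of_mul_eq_mul_right (Nat.mul_pos (Nat.factorial_pos j) (Nat.factorial_pos (2 * j))) ?_
      calc g' * Dg * (j ! * (2 * j)!) = R * (3 * j)! := by linear_combination hg'
        _ = g * R * (j ! * (2 * j)!) := by rw [← hg]; ring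
    have hpoly : 5 * R * Df ≤ N * Dg := by
      have : N * Dg = 5 * R * Df + (2688 * j + 33600 * j ^ 2 + 178752 * j ^ 3 + 529536 * j ^ 4 + 956928 * j ^ 5 +
          1081920 * j ^ 6 + 748608 * j ^ 7 + 290304 * j ^ 8 + 48384 * j ^ 9) := by
        simp only [N, Dg, R, Df]; ring
      omega
    have hgpos : 0 < g := Nat.choose_pos (by omega)
    have hD : 0 < Df * Dg := by positivity
    refine Nat.le_of_mul_le_mul_right ?_ (Nat.mul_pos hgpos hD)
    calc 5 ^ (j + 1) * g' * (g * (Df * Dg)) = (5 ^ j * g) * (5 * Df * (g' * Dg)) := by ring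
      _ ≤ f * (5 * Df * (g' * Dg)) := Nat.mul_le_mul_right _ ih
      _ = f * g * (5 * R * Df) := by rw [e2]; ring
      _ ≤ f * g * (N * Dg) := Nat.mul_le_mul_left _ hpoly
      _ = (f * N) * (g * Dg) := by ring
      _ = f' * (g * (Df * Dg)) := by rw [← e1]; ring

theorem factorization_one {p n k : ℕ} (hp : p.Prime) (hk : k ≤ n) (h : n < p ^ 2) :
    (n.choose k).factorization p = if p ≤ k % p + (n - k) % p then 1 else 0 := by
  rw [Nat.factorization_choose hp hk (b := 2) (by
    rcases Nat.eq_zero_or_pos n with rfl | hn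
    · simp
    · exact Nat.log_lt_of_lt_pow hn.ne' h)]
  rw [show Finset.Ico 1 2 = {1} from rfl, Finset.filter_singleton]
  simp only [pow_one]
  split <;> simp_all

theorem mod_eq (x p q : ℕ) (h1 : q * p ≤ x) (h2 : x < q * p + p) : x % p = x - q * p := by
  conv_lhs => rw [show x = (x - q * p) + q * p by omega]
  rw [Nat.add_mul_mod_self_right, Nat.mod_eq_of_lt (by omega)]

theorem large_prime_exp {p j : ℕ} (hp : p.Prime) (hj : j < p) (h6 : 6 * j < p ^ 2)
    (hout : p ≤ 4 * j ∨ 6 * j < p) :
    ((6 * j).choose (2 * j)).factorization p ≤ ((3 * j).choose j).factorization p := by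
  rw [factorization_one hp (by omega) h6, factorization_one hp (by omega) (by omega),
    show 6 * j - 2 * j = 4 * j by omega, show 3 * j - j = 2 * j by omega, Nat.mod_eq_of_lt hj]
  by_cases a : 2 * j < p
  · rw [Nat.mod_eq_of_lt a]
    by_cases b : 4 * j < p
    · rw [Nat.mod_eq_of_lt b]; split_ifs <;> omega
    · rw [mod_eq (4 * j) p 1 (by omega) (by omega)]; split_ifs <;> omega
  · rw [mod_eq (2 * j) p 1 (by omega) (by omega)]
    by_cases b : 3 * p ≤ 4 * j
    · rw [mod_eq (4 * j) p 3 (by omega) (by omega)]; split_ifs <;> omega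
    · rw [mod_eq (4 * j) p 2 (by omega) (by omega)]; split_ifs <;> omega

theorem sq_le_two_pow (t : ℕ) (ht : 20 ≤ t) : (32 * t + 32) ^ 2 ≤ 2 ^ t := by
  induction t, ht using Nat.le_induction with
  | base => norm_num
  | succ t ht ih =>
    have h2 : (32 * (t + 1) + 32) ^ 2 ≤ 2 * (32 * t + 32) ^ 2 := by nlinarith
    calc _ ≤ 2 * (32 * t + 32) ^ 2 := h2
      _ ≤ 2 * 2 ^ t := by omega
      _ = 2 ^ (t + 1) := by rw [pow_succ]; ring

theorem main_ineq (j : ℕ) (hj : 70000 ≤ j) : (6 * j) ^ (Nat.sqrt (6 * j) + 5) * 4 ^ j < 5 ^ j := by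
  set s := Nat.sqrt (6 * j) with hs
  have h1 : s * s ≤ 6 * j := Nat.sqrt_le (6 * j)
  have h2 : 6 * j < (s + 1) * (s + 1) := Nat.lt_succ_sqrt (6 * j)
  have hs640 : 640 ≤ s := by rw [hs, Nat.le_sqrt]; omega
  set t := s / 32
  have hst : s + 1 ≤ 32 * t + 32 := by omega
  have hb : 6 * j ≤ 2 ^ t := by
    have := Nat.mul_le_mul hst hst
    have := sq_le_two_pow t (by omega)
    nlinarith
  have hexp : t * (s + 5) < j / 4 := by
    have h4 : 32 * t ≤ s := by omega
    have h5 : 32 * (t * (s + 5)) ≤ s * s + 5 * s := by nlinarith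
    have h6 : 640 * s ≤ s * s := Nat.mul_le_mul_right s hs640
    omega
  have h54 : 2 ^ (j / 4) * 4 ^ j ≤ 5 ^ j := by
    have e : ∀ x : ℕ, x ^ j = (x ^ 4) ^ (j / 4) * x ^ (j % 4) := fun x => by
      rw [← pow_mul, ← pow_add, Nat.div_add_mod]
    rw [e 4, e 5, ← mul_assoc, ← mul_pow]
    exact Nat.mul_le_mul (Nat.pow_le_pow_left (by norm_num) _) (Nat.pow_le_pow_left (by norm_num) _)
  calc (6 * j) ^ (s + 5) * 4 ^ j ≤ (2 ^ t) ^ (s + 5) * 4 ^ j := by gcongr
    _ = 2 ^ (t * (s + 5)) * 4 ^ j := by rw [← pow_mul]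
    _ < 2 ^ (j / 4) * 4 ^ j :=
      Nat.mul_lt_mul_of_pos_right (Nat.pow_lt_pow_right (by norm_num) hexp) (by positivity)
    _ ≤ 5 ^ j := h54

theorem exists_prime_large (j : ℕ) (hj : 70000 ≤ j) : ∃ p, p.Prime ∧ 4 * j + 4 < p ∧ p ≤ 6 * j := by
  by_contra hne
  push Not at hne
  let f : ℕ → ℕ := fun p => p ^ ((6 * j).choose (2 * j)).factorization p
  set s := Nat.sqrt (6 * j) with hs
  have hfle : ∀ p, f p ≤ 6 * j := fun p => Nat.pow_factorization_choose_le (by omega)
  have hlow := ratio j
  rw [← Nat.prod_pow_factorization_choose (6 * j) (2 * j) (by omega)] at hlow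
  have hsplit : ∀ p ∈ Finset.range (6 * j + 1), f p ≤
      (if p ≤ s ∨ (4 * j < p ∧ p ≤ 4 * j + 4) then 6 * j else 1) *
        ((if p.Prime ∧ p ≤ j then p else 1) *
          p ^ ((3 * j).choose j).factorization p) := by
    intro p hp
    by_cases hpp : p.Prime
    swap
    · simp only [f, Nat.factorization_eq_zero_of_not_prime _ hpp, pow_zero, hpp, false_and, if_false, mul_one]
      split_ifs <;> omega
    have h1 : 1 ≤ p ^ ((3 * j).choose j).factorization p := Nat.one_le_pow _ _ hpp.pos
    by_cases ha : p ≤ s ∨ (4 * j < p ∧ p ≤ 4 * j + 4)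
    · rw [if_pos ha]
      refine le_trans (hfle p) (Nat.le_mul_of_pos_right _ ?_)
      have := hpp.pos
      split_ifs <;> positivity
    rw [if_neg ha, one_mul]
    push Not at ha
    have hps : 6 * j < p ^ 2 := Nat.sqrt_lt'.mp ha.1
    by_cases hb : p ≤ j
    · rw [if_pos ⟨hpp, hb⟩]
      refine le_trans ?_ (Nat.le_mul_of_pos_right _ h1)
      exact (Nat.pow_le_pow_right hpp.pos (Nat.factorization_choose_le_one hps)).trans (pow_one p).le
    rw [if_neg (fun h => hb h.2), one_mul]
    refine Nat.pow_le_pow_right hpp.pos (large_prime_exp hpp (by omega) hps ?_)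
    by_cases h4 : p ≤ 4 * j
    · exact Or.inl h4
    · exact Or.inr (hne p hpp (ha.2 (by omega)))
  have h := hlow.trans (Finset.prod_le_prod' hsplit)
  rw [Finset.prod_mul_distrib, Finset.prod_mul_distrib] at h
  have hA : (∏ p ∈ Finset.range (6 * j + 1), if p ≤ s ∨ (4 * j < p ∧ p ≤ 4 * j + 4) then 6 * j else 1)
      ≤ (6 * j) ^ (s + 5) := by
    rw [← Finset.prod_filter, Finset.prod_const]
    refine Nat.pow_le_pow_right (by omega) ?_
    refine (Finset.card_le_card (t := Finset.range (s + 1) ∪ Finset.Ioc (4 * j) (4 * j + 4)) fun x hx => ?_).trans ?_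
    · simp only [Finset.mem_filter, Finset.mem_union, Finset.mem_range, Finset.mem_Ioc] at hx ⊢
      omega
    · refine (Finset.card_union_le _ _).trans ?_
      simp
  have hB : (∏ p ∈ Finset.range (6 * j + 1), if p.Prime ∧ p ≤ j then p else 1) ≤ 4 ^ j := by
    rw [← Finset.prod_filter]
    refine le_trans (le_of_eq ?_) (primorial_le_four_pow j)
    refine Finset.prod_congr ?_ fun _ _ => rfl
    ext x
    simp only [Finset.mem_filter, Finset.mem_range]
    constructor
    · rintro ⟨-, h1, h2⟩; exact ⟨by omega, h1⟩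
    · rintro ⟨h1, h2⟩; exact ⟨by omega, h2, by omega⟩
  have hC : (∏ p ∈ Finset.range (6 * j + 1), p ^ ((3 * j).choose j).factorization p) = (3 * j).choose j := by
    refine Eq.trans ?_ (Nat.prod_pow_factorization_choose (3 * j) j (by omega))
    refine (Finset.prod_subset (fun x hx => ?_) fun x _ hx => ?_).symm
    · simp only [Finset.mem_range] at hx ⊢; omega
    · simp only [Finset.mem_range] at hx
      rw [Nat.factorization_choose_eq_zero_of_lt (by omega), pow_zero]
  rw [hC] at h
  have hpos : 0 < (3 * j).choose j := Nat.choose_pos (by omega)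
  have h' := h.trans (Nat.mul_le_mul hA (Nat.mul_le_mul hB le_rfl))
  rw [← mul_assoc] at h'
  exact absurd (Nat.le_of_mul_le_mul_right h' hpos) (not_le.mpr (main_ineq j hj))

/-- an odd prime `p ≤ m` with `2 m ≤ 3 p` -/
theorem exists_prime (m : ℕ) (hm : 3 ≤ m) : ∃ p, p.Prime ∧ p ≠ 2 ∧ p ≤ m ∧ 2 * m ≤ 3 * p := by
  by_cases hbig : 420000 ≤ m
  · obtain ⟨p, hp, h1, h2⟩ := exists_prime_large (m / 6) (by omega)
    exact ⟨p, hp, by omega, by omega, by omega⟩
  by_cases h5 : m < 5
  · exact ⟨3, by norm_num, by norm_num, by omega, by omega⟩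
  by_cases h7 : m < 7
  · exact ⟨5, by norm_num, by norm_num, by omega, by omega⟩
  by_cases h11 : m < 11
  · exact ⟨7, by norm_num, by norm_num, by omega, by omega⟩
  by_cases h17 : m < 17
  · exact ⟨11, by norm_num, by norm_num, by omega, by omega⟩
  by_cases h23 : m < 23
  · exact ⟨17, by norm_num, by norm_num, by omega, by omega⟩
  by_cases h31 : m < 31
  · exact ⟨23, by norm_num, by norm_num, by omega, by omega⟩
  by_cases h47 : m < 47
  · exact ⟨31, by norm_num, by norm_num, by omega, by omega⟩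
  by_cases h71 : m < 71
  · exact ⟨47, by norm_num, by norm_num, by omega, by omega⟩
  by_cases h107 : m < 107
  · exact ⟨71, by norm_num, by norm_num, by omega, by omega⟩
  by_cases h157 : m < 157
  · exact ⟨107, by norm_num, by norm_num, by omega, by omega⟩
  by_cases h233 : m < 233
  · exact ⟨157, by norm_num, by norm_num, by omega, by omega⟩
  by_cases h349 : m < 349
  · exact ⟨233, by norm_num, by norm_num, by omega, by omega⟩
  by_cases h523 : m < 523
  · exact ⟨349, by norm_num, by norm_num, by omega, by omega⟩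
  by_cases h773 : m < 773
  · exact ⟨523, by norm_num, by norm_num, by omega, by omega⟩
  by_cases h1153 : m < 1153
  · exact ⟨773, by norm_num, by norm_num, by omega, by omega⟩
  by_cases h1723 : m < 1723
  · exact ⟨1153, by norm_num, by norm_num, by omega, by omega⟩
  by_cases h2579 : m < 2579
  · exact ⟨1723, by norm_num, by norm_num, by omega, by omega⟩
  by_cases h3863 : m < 3863
  · exact ⟨2579, by norm_num, by norm_num, by omega, by omega⟩
  by_cases h5791 : m < 5791
  · exact ⟨3863, by norm_num, by norm_num, by omega, by omega⟩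
  by_cases h8681 : m < 8681
  · exact ⟨5791, by norm_num, by norm_num, by omega, by omega⟩
  by_cases h13009 : m < 13009
  · exact ⟨8681, by norm_num, by norm_num, by omega, by omega⟩
  by_cases h19507 : m < 19507
  · exact ⟨13009, by norm_num, by norm_num, by omega, by omega⟩
  by_cases h29251 : m < 29251
  · exact ⟨19507, by norm_num, by norm_num, by omega, by omega⟩
  by_cases h43867 : m < 43867
  · exact ⟨29251, by norm_num, by norm_num, by omega, by omega⟩
  by_cases h65789 : m < 65789
  · exact ⟨43867, by norm_num, by norm_num, by omega, by omega⟩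
  by_cases h98669 : m < 98669
  · exact ⟨65789, by norm_num, by norm_num, by omega, by omega⟩
  by_cases h147997 : m < 147997
  · exact ⟨98669, by norm_num, by norm_num, by omega, by omega⟩
  by_cases h221989 : m < 221989
  · exact ⟨147997, by norm_num, by norm_num, by omega, by omega⟩
  by_cases h332951 : m < 332951
  · exact ⟨221989, by norm_num, by norm_num, by omega, by omega⟩
  exact ⟨332951, by norm_num, by norm_num, by omega, by omega⟩

end Cfsg.Agent.ShortPresPrimes
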