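import Cfsg.Agent.Lib.ShortPresSevenFinal
import Cfsg.Agent.Lib.ShortPresSL

/-!
The fourteen relators of `SL(3, F)` with the images of the four letters, the fourth one a permutation matrix.
-/

set_option autoImplicit false

namespace Cfsg.Agent.ShortPresSL3Tracked

open ShortPres (Pres)
open S2287 PSL2Elements SL2PresAbel SL2PresData SL3PresModel SL3PresDatum SL3PresChart
open Multiplicative (ofAdd)
open scoped MatrixGroups

theorem pres4L {Q : Type*} [Group Q] (L : List FG4) (n : ℕ) (hn : L.length ≤ n) (hC : gC ^ 3 ∈ L) (U E T C : Q)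
    (hsat : Sat L U E T C) (hsurj : ∀ K : Subgroup Q, U ∈ K → E ∈ K → T ∈ K → C ∈ K → K = ⊤)
    (hinj : ∀ (G : Type) [Group G] (u e t c : G) (π : G →* Q), π u = U → π e = E → π t = T → π c = C →
      Subgroup.closure ({u, e, t, c} : Set G) = ⊤ → Sat L u e t c → Function.Injective π) :
    ∃ L : List FG4, L.length ≤ n ∧ gC ^ 3 ∈ L ∧ Pres ![U, E, T, C] L := by
  refine ⟨L, hn, hC, Pres.of_inj hsat ?_ fun H _ y π hπ hgen hy => ?_⟩
  · exact hsurj _ (Subgroup.subset_closure ⟨0, rfl⟩) (Subgroup.subset_closure ⟨1, rfl⟩)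
      (Subgroup.subset_closure ⟨2, rfl⟩) (Subgroup.subset_closure ⟨3, rfl⟩)
  · have ey : ![y 0, y 1, y 2, y 3] = y := by funext i; fin_cases i <;> rfl
    refine hinj H (y 0) (y 1) (y 2) (y 3) π (hπ 0) (hπ 1) (hπ 2) (hπ 3) ?_ ?_
    · rw [eq_top_iff, ← hgen]
      refine Subgroup.closure_mono ?_
      rintro _ ⟨i, rfl⟩
      fin_cases i <;> simp
    · intro r hr
      rw [ey]; exact hy r hr

section
variable {F : Type*} [Field F] [Fintype F] {p : ℕ} [Fact p.Prime] [Algebra (ZMod p) F] {ζ : Fˣ}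

theorem odd_case (hζ : ∀ y, y ∈ Subgroup.zpowers ζ) (hodd : Odd (Fintype.card F)) (h2 : (2 : F) ≠ 0)
    (pb : PowerBasis (ZMod p) F) (hgen : pb.gen = (ζ : F)) :
    ∃ L : List FG4, L.length ≤ 14 ∧ gC ^ 3 ∈ L ∧ Pres ![(x01 1 : SL(3, F)), E ζ, blk W, Cm] L := by
  obtain ⟨k, hk'⟩ := hodd
  have hk : Fintype.card F - 1 = 2 * k := by omega
  have hk0 : 0 < k := by have := Fintype.one_lt_card (α := F); omega
  have k0 : (ζ : F) ^ k = -1 := by
    rw [← Units.val_pow_eq_pow_val]; exact S2286.gen_pow_half hζ h2 hk hk0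
  have h4 : Fintype.card F ≠ 4 := by omega
  have hz1 : (ζ : F) - 1 ≠ 0 := by
    intro h
    have := orderOf_gen hζ
    rw [show ζ = 1 from Units.ext (sub_eq_zero.mp h), orderOf_one] at this
    omega
  obtain ⟨b, hb⟩ := exists_pow hζ hz1
  obtain ⟨r1, r2, r3⟩ := rels_sat pb hgen
  refine pres4L (uRels pb b ++ commonRels pb ζ k ++ [rel1 pb 1, rel2 pb, rel3 pb 1]) 14
    (by simp [uRels, commonRels]) (by simp [commonRels]) (x01 1) (E ζ) (blk W) Cm ?_ (surj hζ pb hgen) ?_
  · intro r hr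
    rcases List.mem_append.mp hr with hr | hr
    rcases List.mem_append.mp hr with hr | hr
    · have hc := mconj pb hgen
      have hu : (x01 1 : SL(3, F)) = (blk.comp uHom) (ofAdd 1) := (blk_u 1).symm
      rcases List.mem_cons.mp hr with rfl | hr
      · rw [map_pow, lift_gU, hu]; exact SL2PresURels.pow_p_eq_one _ _
      rcases List.mem_cons.mp hr with rfl | hr
      · rw [map_mul, map_inv, map_mul, map_cj, map_cj, lift_gU, lift_gE, mul_inv_eq_one, hu,
          SL2PresURels.cj_hom hc, SL2PresURels.cj_hom hc, ← map_mul, ← ofAdd_add, pow_one, mul_one, mul_one,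
          hgen, hb, add_sub_cancel]
      rcases List.mem_cons.mp hr with rfl | hr
      · rw [map_mul, map_inv, map_mul, map_mul, map_cj, lift_gU, lift_gE, mul_inv_eq_one, hu,
          SL2PresURels.cj_hom hc]
        exact ((Commute.all _ _).map (blk.comp uHom)).eq
      rcases List.mem_cons.mp hr with rfl | hr
      · rw [map_mul, map_inv, map_cj, map_word, lift_gU, lift_gE, mul_inv_eq_one, hu,
          SL2PresURels.cj_hom hc, SL2PresURels.word_eq pb hc, mul_one]
      · simp at hr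
    · exact common_sat hζ pb hgen k0 r hr
    · rcases List.mem_cons.mp hr with rfl | hr
      · exact r1 1
      rcases List.mem_cons.mp hr with rfl | hr
      · exact r2
      rcases List.mem_cons.mp hr with rfl | hr
      · exact r3 1
      · simp at hr
  · intro G _ u0 e t c π hu he ht hc hgenG hs
    have s1 : Sat (uRels pb b) u0 e t c := fun r hr => hs r (by simp [hr])
    simp only [Sat, uRels, List.forall_mem_cons, List.not_mem_nil, false_imp_iff, implies_true, and_true,
      map_mul, map_inv, map_pow, map_cj, map_word, lift_gU, lift_gE, mul_inv_eq_one] at s1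
    obtain ⟨a1, a2, a3, a4⟩ := s1
    obtain ⟨φ, hφ1, hφ⟩ := u_complete pb b a1 a2 a3 a4
    exact inj_of hζ pb hgen k0 (Or.inl hk.symm) π hu he ht hc hgenG φ hφ1 hφ (fun r hr => hs r (by simp [hr]))
      (hs _ (by simp)) (Or.inl h4) (hs _ (by simp)) (Or.inl h4) (Or.inr ⟨h4, hs _ (by simp)⟩)

end

section
variable {F : Type*} [Field F] [Fintype F] [Algebra (ZMod 2) F] {ζ : Fˣ}

theorem two_case (hζ : ∀ y, y ∈ Subgroup.zpowers ζ)
    (pb : PowerBasis (ZMod 2) F) (hgen : pb.gen = (ζ : F)) (hcard : Fintype.card F = 2 ^ pb.dim) :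
    ∃ L : List FG4, L.length ≤ 14 ∧ gC ^ 3 ∈ L ∧ Pres ![(x01 1 : SL(3, F)), E ζ, blk W, Cm] L := by
  haveI : CharP F 2 := charP_of_injective_algebraMap (algebraMap (ZMod 2) F).injective 2
  have k0 : (ζ : F) ^ 0 = -1 := by rw [pow_zero, CharTwo.neg_eq]
  have hq := Fintype.one_lt_card (α := F)
  obtain ⟨l, hl⟩ := (Nat.even_pow.mpr ⟨even_two, pb.dim_pos.ne'⟩ : Even (2 ^ pb.dim))
  have hk : 2 * 0 = Fintype.card F - 1 ∨ (0 = 0 ∧ ∃ l : ℕ, 2 * l + 1 = Fintype.card F - 1) :=
    Or.inr ⟨rfl, l - 1, by omega⟩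
  obtain ⟨r1, -, r3⟩ := rels_sat pb hgen
  have hc := mconj pb hgen
  have hu : (x01 1 : SL(3, F)) = (blk.comp uHom) (ofAdd 1) := (blk_u 1).symm
  have hsq : (x01 1 * x01 1 : SL(3, F)) = 1 := by
    rw [hu, ← pow_two]; exact SL2PresURels.pow_p_eq_one (p := 2) _ _
  -- the second unipotent relator
  obtain ⟨R2, hR2, hder⟩ : ∃ R2 : FG4,
      FreeGroup.lift ![(x01 1 : SL(3, F)), E ζ, blk W, Cm] R2 = 1 ∧
      ∀ (G : Type) [Group G] (u0 e t c : G), u0 * u0 = 1 →
        FreeGroup.lift ![u0, e, t, c] R2 = 1 → cj e u0 pb.dim = word pb e u0 (pb.gen ^ pb.dim) →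
        ∃ φ : Multiplicative F →* G, φ (ofAdd 1) = u0 ∧
          ∀ r, e * φ (ofAdd r) * e⁻¹ = φ (ofAdd (pb.gen * r)) := by
    by_cases hq2 : Fintype.card F = 2
    · have hz1 : ζ = 1 := by
        have := pow_card_sub_one hζ
        rwa [hq2, pow_one] at this
      refine ⟨gE, by rw [lift_gE, hz1]; exact map_one EHom, fun G _ u0 e t c h1 h2 h4 => ?_⟩
      rw [lift_gE] at h2
      subst h2
      obtain ⟨φ, hφ1, hφ, -⟩ := exists_hom (p := 2) pb (show u0 ^ 2 = 1 by rw [pow_two, h1])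
        (fun n => by simp [cj]) h4
      exact ⟨φ, hφ1, hφ⟩
    · have hz1 : (ζ : F) - 1 ≠ 0 := by
        intro h
        have := orderOf_gen hζ
        rw [show ζ = 1 from Units.ext (sub_eq_zero.mp h), orderOf_one] at this
        omega
      obtain ⟨b, hb⟩ := exists_pow hζ hz1
      refine ⟨cj gE gU 1 * (gU * cj gE gU b)⁻¹, ?_, fun G _ u0 e t c h1 h2 h4 => ?_⟩
      · rw [map_mul, map_inv, map_mul, map_cj, map_cj, lift_gU, lift_gE, mul_inv_eq_one, hu,
          SL2PresURels.cj_hom hc, SL2PresURels.cj_hom hc, ← map_mul, ← ofAdd_add, pow_one, mul_one, mul_one,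
          hgen, hb, add_sub_cancel]
      · simp only [map_mul, map_inv, map_cj, lift_gU, lift_gE, mul_inv_eq_one] at h2
        have hs : ∀ i, cj e u0 i * cj e u0 i = 1 := fun i => by
          rw [cj, ← MulAut.conj_apply, ← map_mul, h1, map_one]
        have hcom : Commute u0 (cj e u0 b) := by
          have := hs 1
          rw [h2] at this
          have h3 := inv_eq_of_mul_eq_one_right this
          rw [mul_inv_rev, inv_eq_of_mul_eq_one_right h1, inv_eq_of_mul_eq_one_right (hs b)] at h3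
          exact h3.symm
        exact u_complete (p := 2) pb b (by rw [pow_two, h1]) h2 hcom h4
  refine pres4L ([gU * gU, R2, cj gE gU pb.dim * (word pb gE gU (pb.gen ^ pb.dim))⁻¹] ++ commonRels pb ζ 0 ++
      [rel1 pb 1, rel1 pb (ζ : F), rel3 pb 1, rel3 pb (ζ : F)]) 14
    (by simp [commonRels]) (by simp [commonRels]) (x01 1) (E ζ) (blk W) Cm ?_ (surj hζ pb hgen) ?_
  · intro r hr
    rcases List.mem_append.mp hr with hr | hr
    rcases List.mem_append.mp hr with hr | hr
    · rcases List.mem_cons.mp hr with rfl | hr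
      · rw [map_mul, lift_gU, hsq]
      rcases List.mem_cons.mp hr with rfl | hr
      · exact hR2
      rcases List.mem_cons.mp hr with rfl | hr
      · rw [map_mul, map_inv, map_cj, map_word, lift_gU, lift_gE, mul_inv_eq_one, hu,
          SL2PresURels.cj_hom hc, SL2PresURels.word_eq pb hc, mul_one]
      · simp at hr
    · exact common_sat hζ pb hgen k0 r hr
    · rcases List.mem_cons.mp hr with rfl | hr
      · exact r1 1
      rcases List.mem_cons.mp hr with rfl | hr
      · exact r1 _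
      rcases List.mem_cons.mp hr with rfl | hr
      · exact r3 1
      rcases List.mem_cons.mp hr with rfl | hr
      · exact r3 _
      · simp at hr
  · intro G _ u0 e t c π hu he ht hc hgenG hs
    have a1 : u0 * u0 = 1 := by simpa [lift_gU] using hs (gU * gU) (by simp)
    have a2 : FreeGroup.lift ![u0, e, t, c] R2 = 1 := hs R2 (by simp)
    have a4 : cj e u0 pb.dim = word pb e u0 (pb.gen ^ pb.dim) := by
      simpa [map_cj, map_word, lift_gU, lift_gE, mul_inv_eq_one] using
        hs (cj gE gU pb.dim * (word pb gE gU (pb.gen ^ pb.dim))⁻¹) (by simp)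
    obtain ⟨φ, hφ1, hφ⟩ := hder G u0 e t c a1 a2 a4
    exact inj_of hζ pb hgen k0 hk π hu he ht hc hgenG φ hφ1 hφ (fun r hr => hs r (by simp [hr]))
      (hs _ (by simp)) (Or.inr (hs _ (by simp))) (hs _ (by simp)) (Or.inr (hs _ (by simp))) (Or.inl inferInstance)

end

open Equiv Equiv.Perm ShortPresSL

variable {F : Type*} [Field F]

/-- conjugation by `diag (1, -1, 1)` -/
def flipMid : SL(3, F) ≃* SL(3, F) where
  toFun g := mk3 !![g.1 0 0, -g.1 0 1, g.1 0 2; -g.1 1 0, g.1 1 1, -g.1 1 2; g.1 2 0, -g.1 2 1, g.1 2 2] (by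
    have := g.2
    rw [Matrix.det_fin_three] at this ⊢
    simp
    linear_combination this)
  invFun g := mk3 !![g.1 0 0, -g.1 0 1, g.1 0 2; -g.1 1 0, g.1 1 1, -g.1 1 2; g.1 2 0, -g.1 2 1, g.1 2 2] (by
    have := g.2
    rw [Matrix.det_fin_three] at this ⊢
    simp
    linear_combination this)
  left_inv g := by apply ext3 <;> simp
  right_inv g := by apply ext3 <;> simp
  map_mul' g g' := by apply ext3 <;> simp [mul_apply3] <;> ring

theorem flipMid_Cm : flipMid (Cm : SL(3, F)) = Pc := by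
  apply ext3 <;> simp [flipMid, Cm, Pc]

/-- fourteen relators on four letters, the last letter the permutation matrix, one relator its cube -/
theorem three_tracked (F : Type*) [Field F] [Fintype F] :
    ∃ (x : Fin 4 → SL(3, F)) (L : List FG4), x 3 = Pc ∧ L.length ≤ 14 ∧ gC ^ 3 ∈ L ∧ Pres x L := by
  obtain ⟨p, hp⟩ := CharP.exists F
  haveI : Fact p.Prime := ⟨CharP.char_is_prime F p⟩
  letI : Algebra (ZMod p) F := ZMod.algebra F p
  obtain ⟨ζ, hζ⟩ := IsCyclic.exists_generator (α := Fˣ)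
  have hadj : Algebra.adjoin (ZMod p) {(ζ : F)} = ⊤ := by
    rw [eq_top_iff, ← adjoin_sq (p := p) hζ]
    exact Algebra.adjoin_le (Set.singleton_subset_iff.mpr
      (pow_mem (Algebra.self_mem_adjoin_singleton (ZMod p) (ζ : F)) 2))
  obtain ⟨pb, hgen, hcard⟩ := SL2PresURels.exists_pb hadj
  obtain ⟨L, hL, hC, hP⟩ : ∃ L : List FG4, L.length ≤ 14 ∧ gC ^ 3 ∈ L ∧
      Pres ![(x01 1 : SL(3, F)), E ζ, blk W, Cm] L := by
    by_cases hp2 : p = 2
    · subst hp2
      exact two_case hζ pb hgen hcard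
    · have hodd : Odd (Fintype.card F) := by
        rw [hcard]; exact ((Fact.out : p.Prime).odd_of_ne_two hp2).pow
      have h2 : (2 : F) ≠ 0 := fun h => hp2 (((Nat.prime_dvd_prime_iff_eq (Fact.out : p.Prime) Nat.prime_two).mp
        ((CharP.cast_eq_zero_iff F p 2).mp (by exact_mod_cast h))))
      exact odd_case hζ hodd h2 pb hgen
  exact ⟨_, L, flipMid_Cm, hL, hC, ShortPresSeven.pres_congr hP flipMid⟩

end Cfsg.Agent.ShortPresSL3Tracked
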