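import Cfsg.Agent.Lib.ShortPresSLSharp
import Cfsg.Agent.Lib.ShortPresSwapGen
import Cfsg.Agent.Lib.ShortPresSL3Tracked

/-!
Five relators that glue an alternating group and `SL(3, F)` to `SL(n, F)`: one identifies the permutation
matrix, four more give the swap, the stabiliser and the commutation.
-/

set_option autoImplicit false
set_option backward.isDefEq.respectTransparency false

universe u v w

namespace Cfsg.Agent.ShortPresSLFive

open Equiv Equiv.Perm ShortPres ShortPresCarmichael ShortPresGlue ShortPresBlock ShortPresChart SL3PresModel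
  StemSLnTv PSL2Elements SL2PresData ShortPresSL ShortPresTracked
open Multiplicative (ofAdd)
open scoped MatrixGroups

/-- amalgamation where one letter of the second factor is identified with an element of the same exponent -/
theorem amalgam_drop {G : Type u} [Group G] {A : Type v} {B : Type w} [Group A] [Group B] {kA kB NA : ℕ}
    (hA : PresBy A kA NA) (x' : Fin kB → B) (R' : List (FreeGroup (Fin kB))) (i₀ : Fin kB) (e : ℕ)
    (hmem : FreeGroup.of i₀ ^ e ∈ R') (hP' : Pres x' R') (iA : A →* G) (iB : B →* G)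
    (gen : iA.range ⊔ iB.range = ⊤) (c : A) (hc : c ^ e = 1) (hci : iA c = iB (x' i₀))
    (E : List (FreeGroup (A ⊕ B))) (sat : ∀ r ∈ E, FreeGroup.lift (Sum.elim iA iB) r = 1)
    (inj : ∀ (H : Type) [Group H] (fA : A →* H) (fB : B →* H) (π : H →* G),
      (∀ a, π (fA a) = iA a) → (∀ b, π (fB b) = iB b) → fA.range ⊔ fB.range = ⊤ → fB (x' i₀) = fA c →
      (∀ r ∈ E, FreeGroup.lift (Sum.elim fA fB) r = 1) → Function.Injective π) :
    PresBy G (kA + kB) (NA + (R'.length - 1) + 1 + E.length) := by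
  classical
  obtain ⟨x, R, hR, hP⟩ := hA
  choose wA hwA using exists_word hP.gen
  choose wB hwB using exists_word hP'.gen
  let iL : Fin kA → Fin (kA + kB) := Fin.castAdd kB
  let iR : Fin kB → Fin (kA + kB) := Fin.natAdd kA
  let jA : FreeGroup (Fin kA) →* FreeGroup (Fin (kA + kB)) := FreeGroup.lift fun i => FreeGroup.of (iL i)
  let jB : FreeGroup (Fin kB) →* FreeGroup (Fin (kA + kB)) := FreeGroup.lift fun i => FreeGroup.of (iR i)
  let X : Fin (kA + kB) → G := Fin.append (fun i => iA (x i)) (fun j => iB (x' j))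
  have XL : ∀ i, X (iL i) = iA (x i) := fun i => Fin.append_left _ _ i
  have XR : ∀ j, X (iR j) = iB (x' j) := fun j => Fin.append_right _ _ j
  let Φ : FreeGroup (A ⊕ B) →* FreeGroup (Fin (kA + kB)) :=
    FreeGroup.lift (Sum.elim (fun a => jA (wA a)) (fun b => jB (wB b)))
  let R'' := R'.erase (FreeGroup.of i₀ ^ e)
  let q : FreeGroup (Fin (kA + kB)) := (jA (wA c))⁻¹ * FreeGroup.of (iR i₀)
  refine ⟨X, (R.map jA ++ R''.map jB) ++ [q] ++ E.map Φ, ?_, Pres.of_inj ?_ ?_ ?_⟩
  · simp [R'', List.length_erase_of_mem hmem]; omega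
  · have eA : ∀ w, FreeGroup.lift X (jA w) = iA (FreeGroup.lift x w) := fun w => by
      rw [map_word (FreeGroup.lift X) (y := fun i => iA (x i)) (fun i => by simp [jA, XL]) w,
        ← map_word iA (fun _ => rfl) w]
    have eB : ∀ w, FreeGroup.lift X (jB w) = iB (FreeGroup.lift x' w) := fun w => by
      rw [map_word (FreeGroup.lift X) (y := fun i => iB (x' i)) (fun i => by simp [jB, XR]) w,
        ← map_word iB (fun _ => rfl) w]
    intro r hr
    simp only [List.mem_append, List.mem_map, List.mem_singleton] at hr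
    rcases hr with ((⟨w, hw, rfl⟩ | ⟨w, hw, rfl⟩) | rfl) | ⟨w, hw, rfl⟩
    · rw [eA, hP.sat w hw, map_one]
    · rw [eB, hP'.sat w (List.mem_of_mem_erase hw), map_one]
    · rw [map_mul, map_inv, eA, hwA, hci, FreeGroup.lift_apply_of, XR, inv_mul_cancel]
    · rw [map_word (FreeGroup.lift X) (y := Sum.elim iA iB) (fun s => ?_) w]
      · exact sat w hw
      · rcases s with a | b <;> simp [Φ, eA, eB, hwA, hwB]
  · rw [eq_top_iff, ← gen, sup_le_iff, MonoidHom.range_eq_map, MonoidHom.range_eq_map, ← hP.gen, ← hP'.gen,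
      MonoidHom.map_closure, MonoidHom.map_closure]
    constructor <;> refine Subgroup.closure_mono ?_ <;> rintro _ ⟨_, ⟨i, rfl⟩, rfl⟩
    · exact ⟨iL i, XL i⟩
    · exact ⟨iR i, XR i⟩
  · intro H _ y π hπ hgen hy
    have eA : ∀ w, FreeGroup.lift y (jA w) = FreeGroup.lift (fun i => y (iL i)) w := fun w =>
      map_word (FreeGroup.lift y) (fun i => by simp [jA]) w
    have eB : ∀ w, FreeGroup.lift y (jB w) = FreeGroup.lift (fun i => y (iR i)) w := fun w =>
      map_word (FreeGroup.lift y) (fun i => by simp [jB]) w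
    obtain ⟨fA, hfA⟩ := hP.univ (fun i => y (iL i)) fun r hr => by
      rw [← eA]; exact hy _ (by
        simp only [List.mem_append, List.mem_map, List.mem_singleton]
        exact Or.inl (Or.inl (Or.inl ⟨r, hr, rfl⟩)))
    have hq : y (iR i₀) = fA c := by
      have := hy q (by simp)
      rwa [map_mul, map_inv, eA, FreeGroup.lift_apply_of, inv_mul_eq_one, ← map_word fA hfA, hwA, eq_comm] at this
    obtain ⟨fB, hfB⟩ := hP'.univ (fun i => y (iR i)) fun r hr => by
      by_cases hr0 : r = FreeGroup.of i₀ ^ e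
      · rw [hr0, map_pow, FreeGroup.lift_apply_of, hq, ← map_pow, hc, map_one]
      · rw [← eB]; exact hy _ (by
          simp only [List.mem_append, List.mem_map, List.mem_singleton]
          exact Or.inl (Or.inl (Or.inr ⟨r, (List.mem_erase_of_ne hr0).mpr hr, rfl⟩)))
    refine inj H fA fB π (fun a => ?_) (fun b => ?_) ?_ (by rw [hfB, hq]) fun r hr => ?_
    · rw [← hwA a, map_word fA hfA, map_word π (y := fun i => iA (x i)) (fun i => (hπ _).trans (XL i)),
        ← map_word iA (fun _ => rfl)]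
    · rw [← hwB b, map_word fB hfB, map_word π (y := fun j => iB (x' j)) (fun j => (hπ _).trans (XR j)),
        ← map_word iB (fun _ => rfl)]
    · rw [eq_top_iff, ← hgen, Subgroup.closure_le]
      rintro _ ⟨i, rfl⟩
      induction i using Fin.addCases with
      | left i => exact Subgroup.mem_sup_left ⟨x i, hfA i⟩
      | right i => exact Subgroup.mem_sup_right ⟨x' i, hfB i⟩
    · rw [← hy (Φ r) (by
        simp only [List.mem_append, List.mem_map, List.mem_singleton]; exact Or.inr ⟨r, hr, rfl⟩)]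
      refine (map_word (FreeGroup.lift y) (fun s => ?_) r).symm
      rcases s with a | b
      · rw [← hwA a]; simp [Φ, eA, ← map_word fA hfA, hwA]
      · rw [← hwB b]; simp [Φ, eB, ← map_word fB hfB, hwB]

variable {F : Type*} [Field F] [Fintype F]

/-- the glue: the permutation matrix and four relators -/
theorem sl_five (m : ℕ) (hm : 1 ≤ m) : ∃ (ρ : altOn (Finset.univ : Finset (Fin (3 + m))) →* SL(3 + m, F))
    (ι : SL(3, F) →* SL(3 + m, F)) (cA : altOn (Finset.univ : Finset (Fin (3 + m))))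
    (E : List (FreeGroup (altOn (Finset.univ : Finset (Fin (3 + m))) ⊕ SL(3, F)))),
    E.length ≤ (if m = 1 then 3 else 4) ∧ cA ^ 3 = 1 ∧ ρ cA = ι Pc ∧ ρ.range ⊔ ι.range = ⊤ ∧
    (∀ r ∈ E, FreeGroup.lift (Sum.elim ρ ι) r = 1) ∧
    ∀ (H : Type) [Group H] (fA : altOn (Finset.univ : Finset (Fin (3 + m))) →* H) (fB : SL(3, F) →* H)
      (π : H →* SL(3 + m, F)), (∀ x, π (fA x) = ρ x) → (∀ x, π (fB x) = ι x) → fA.range ⊔ fB.range = ⊤ →
      fB Pc = fA cA → (∀ r ∈ E, FreeGroup.lift (Sum.elim fA fB) r = 1) → Function.Injective π := by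
  classical
  obtain ⟨a2, ha2⟩ := ShortPresSwapGen.exists_gen (F := F)
  let b2 : SL(2, F) := swapAut a2
  have hab2 : Subgroup.closure ({a2, b2} : Set SL(2, F)) = ⊤ := ha2
  have swap2 : ∀ x : SL(2, F), swapAut (swapAut x) = x := fun x => by
    apply ext2 <;> simp [swapAut]
  set N := 3 + m with hN
  let U : Finset (Fin N) := Finset.univ
  let i0 : Fin N := ix m 0
  let i1 : Fin N := ix m 1
  let i2 : Fin N := ix m 2
  let i3 : Fin N := finSumFinEquiv (Sum.inr ⟨0, hm⟩)
  have n01 : i0 ≠ i1 := ix_ne m (by decide)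
  have n02 : i0 ≠ i2 := ix_ne m (by decide)
  have n12 : i1 ≠ i2 := ix_ne m (by decide)
  have n03 : i0 ≠ i3 := finSumFinEquiv.injective.ne Sum.inl_ne_inr
  have n13 : i1 ≠ i3 := finSumFinEquiv.injective.ne Sum.inl_ne_inr
  have n23 : i2 ≠ i3 := finSumFinEquiv.injective.ne Sum.inl_ne_inr
  have mk : ∀ g : Perm (Fin N), sign g = 1 → g ∈ altOn U := fun g h => ⟨h, fun x hx => absurd (Finset.mem_univ x) hx⟩
  have sw : ∀ {a b c e : Fin N}, a ≠ b → c ≠ e → sign (swap a b * swap c e) = 1 := fun h h' => by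
    rw [map_mul, sign_swap h, sign_swap h']; rfl
  let ρ : altOn U →* SL(N, F) := permHom N
  let ι : SL(3, F) →* SL(N, F) := emb m
  let j2 : SL(2, F) →* SL(N, F) := ι.comp blk
  have ju : ∀ r, j2 (u r) = tv i0 i1 r := fun r => by
    show ι (blk (u r)) = _; rw [blk_u]; exact emb_x01 m r
  have jl : ∀ r, j2 (lo r) = tv i1 i0 r := fun r => by
    show ι (blk (lo r)) = _; rw [blk_lo]; exact emb_x10 m r
  have ρconj : ∀ (g : Perm (Fin N)), sign g = 1 → ∀ {a b : Fin N}, a ≠ b → ∀ r : F,
      ρ (el U g) * tv a b r * (ρ (el U g))⁻¹ = tv (g a) (g b) r := by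
    intro g hg a b hab r
    have : ρ (el U g) = permEl g hg := by
      show permHom N (el U g) = _
      simp only [permHom, MonoidHom.coe_mk, OneHom.coe_mk]
      congr 1; exact el_coe (mk g hg)
    rw [this]; exact permEl_conj hab g hg r
  -- the permutations used
  let s' : Finset (Fin N) := (((Finset.univ.erase i0).erase i1).erase i2).erase i3
  have hs2 : i2 ∉ s' := by simp [s']
  have hs3 : i3 ∉ s' := by simp [s']
  have hs' : ∀ x, x ∈ pts i2 i3 s' ↔ x ≠ i0 ∧ x ≠ i1 := fun x => by
    simp only [pts, s', Finset.mem_insert, Finset.mem_erase, Finset.mem_univ, and_true]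
    constructor
    · rintro (rfl | rfl | ⟨-, -, h1, h0⟩)
      exacts [⟨n02.symm, n12.symm⟩, ⟨n03.symm, n13.symm⟩, ⟨h0, h1⟩]
    · rintro ⟨h0, h1⟩; tauto
  have fix01 : ∀ σ ∈ altOn (pts i2 i3 s'), σ i0 = i0 ∧ σ i1 = i1 := fun σ hσ =>
    ⟨hσ.2 _ fun h => ((hs' _).mp h).1 rfl, hσ.2 _ fun h => ((hs' _).mp h).2 rfl⟩
  let c : Perm (Fin N) := cyc i0 i1 i2
  have hc : sign c = 1 := sign_cyc n01 n12.symm
  let s : Perm (Fin N) := swap i0 i1 * swap i2 i3
  have hs : sign s = 1 := sw n01 n23
  have s0 : s i0 = i1 := by simp [s, swap_apply_of_ne_of_ne n02 n03]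
  have s1 : s i1 = i0 := by simp [s, swap_apply_of_ne_of_ne n12 n13]
  let τ : Perm (Fin N) := swap i0 i2 * swap i1 i3
  have hτ : sign τ = 1 := sw n02 n13
  have τ0 : τ i0 = i2 := by simp [τ, swap_apply_of_ne_of_ne n01 n03]
  have τ1 : τ i1 = i3 := by simp [τ, swap_apply_of_ne_of_ne n13.symm.symm n12.symm.symm, swap_apply_of_ne_of_ne n03.symm n23.symm]
  -- generators of the stabiliser and commutators
  obtain ⟨σs, L, hlen, hσs, hgenS, hL⟩ : ∃ (σs : List (Perm (Fin N))) (L : List SL(2, F)),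
      σs.length + L.length ≤ (if m = 1 then 2 else 3) ∧ (∀ σ ∈ σs, σ ∈ altOn (pts i2 i3 s')) ∧
      (∀ i ∈ s', cyc i2 i3 i ∈ Subgroup.closure {σ | σ ∈ σs}) ∧
      (L = [a2] ∧ (∃ o ∈ s', ∃ o' ∈ s', o ≠ o') ∨ L = [a2, b2]) := by
    have hcard : s'.card = m - 1 := by
      simp [s', Finset.card_erase_of_mem, n01.symm, n02.symm, n03.symm, n12.symm, n13.symm, n23.symm, hN]
    rcases Nat.lt_or_ge s'.card 2 with h | h
    · rcases s'.eq_empty_or_nonempty with e | ⟨o, ho⟩
      · exact ⟨[], [a2, b2], by split_ifs <;> simp, by simp, by simp [e], Or.inr rfl⟩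
      · have : m ≠ 1 := fun e => by
          subst e
          have := Finset.card_pos.mpr ⟨o, ho⟩
          omega
        refine ⟨[cyc i2 i3 o], [a2, b2], by simp [this], ?_, fun i hi => ?_, Or.inr rfl⟩
        · simpa using cyc_mem n23 hs3 ho
        · rw [Finset.card_le_one.mp (Nat.le_of_lt_succ h) i hi o ho]
          exact Subgroup.subset_closure (by simp)
    · obtain ⟨o, ho, o', ho', hne⟩ := Finset.one_lt_card.mp h
      obtain ⟨u, hu, hfix, -, -, hcl⟩ := ShortPresSeven.two_gen n23 s' hs2 hs3 ho 1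
      refine ⟨[u, cyc i2 i3 o], [a2], by rw [if_neg (by omega)]; simp, ?_, fun i hi => ?_, Or.inl ⟨rfl, o, ho, o', ho', hne⟩⟩
      · simp only [List.forall_mem_cons, List.not_mem_nil, false_imp_iff, implies_true, and_true]
        exact ⟨⟨hu, hfix⟩, cyc_mem n23 hs3 ho⟩
      · refine Subgroup.closure_mono ?_ (hcl i hi)
        rintro y (rfl | rfl) <;> simp
  let gens : List SL(2, F) := [a2, b2]
  let wA : Perm (Fin N) → FreeGroup (altOn U ⊕ SL(3, F)) := fun g => FreeGroup.of (Sum.inl (el U g))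
  let wB : SL(2, F) → FreeGroup (altOn U ⊕ SL(3, F)) := fun x => FreeGroup.of (Sum.inr (blk x))
  let wC : SL(2, F) → SL(2, F) → FreeGroup (altOn U ⊕ SL(3, F)) := fun x y =>
    wB x * (wA τ * wB y * (wA τ)⁻¹) * (wA τ * wB y * (wA τ)⁻¹ * wB x)⁻¹
  let E : List (FreeGroup (altOn U ⊕ SL(3, F))) :=
    [wA s * wB a2 * (wA s)⁻¹ * (wB b2)⁻¹] ++
    σs.map (fun σ => wA σ * wB a2 * (wA σ)⁻¹ * (wB a2)⁻¹) ++
    L.map (wC a2)
  have hE : E.length ≤ (if m = 1 then 3 else 4) := by
    simp only [E, List.length_append, List.length_map, List.length_cons, List.length_nil]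
    split_ifs at hlen ⊢ <;> omega
  refine ⟨ρ, ι, el U c, E, hE, ?_, ?_, ?_, ?_, ?_⟩
  · refine Subtype.ext ?_
    rw [SubmonoidClass.coe_pow, el_coe (mk c hc), Subgroup.coe_one, pow_three, ← mul_assoc]
    exact cyc_cube n01 n02.symm n12.symm
  · show permHom N (el U c) = emb m Pc
    simp only [permHom, MonoidHom.coe_mk, OneHom.coe_mk]
    rw [emb_Pc m hc]; congr 1; exact el_coe (mk c hc)
  · -- generation
    have : Nontrivial (Fin N) := ⟨⟨i0, i1, n01⟩⟩
    refine PSLSimple.eq_top_of_transvection_mem _ fun i j hij r => ?_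
    have hsup : ∀ σ : Perm (Fin N), sign σ = 1 → ρ (el U σ) ∈ ρ.range ⊔ ι.range := fun σ _ =>
      Subgroup.mem_sup_left ⟨_, rfl⟩
    obtain ⟨l, hl1, hl2⟩ := third (by omega : 3 ≤ N) i j
    obtain ⟨σ, e0, e1, e2⟩ := exists_perm3 n01 n02 n12 hij hl1.symm hl2.symm
    have et : Matrix.SpecialLinearGroup.transvection hij r = tv i j r := by rw [tv, dif_pos hij]
    rw [et]
    rcases Int.units_eq_one_or (sign σ) with hσ | hσ
    · rw [← e0, ← e1, ← ρconj σ hσ n01, ← ju]
      exact Subgroup.mul_mem _ (Subgroup.mul_mem _ (hsup σ hσ) (Subgroup.mem_sup_right ⟨_, rfl⟩))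
        (Subgroup.inv_mem _ (hsup σ hσ))
    · have hσ' : sign (σ * swap i0 i1) = 1 := by rw [map_mul, hσ, sign_swap n01]; rfl
      have f0 : (σ * swap i0 i1) i1 = i := by simp [e0]
      have f1 : (σ * swap i0 i1) i0 = j := by simp [e1]
      rw [← f0, ← f1, ← ρconj _ hσ' n01.symm, ← jl]
      exact Subgroup.mul_mem _ (Subgroup.mul_mem _ (hsup _ hσ') (Subgroup.mem_sup_right ⟨_, rfl⟩))
        (Subgroup.inv_mem _ (hsup _ hσ'))
  · -- the relators hold
    have jfix : ∀ σ : Perm (Fin N), sign σ = 1 → σ i0 = i0 → σ i1 = i1 → ∀ x,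
        ρ (el U σ) * j2 x * (ρ (el U σ))⁻¹ = j2 x := fun σ hσ h0 h1 =>
      hom_eq_roots (f := (MulAut.conj (ρ (el U σ))).toMonoidHom.comp j2) (g := j2)
        (fun r => by simp only [MonoidHom.comp_apply, MulEquiv.coe_toMonoidHom, MulAut.conj_apply, ju,
          ρconj σ hσ n01, h0, h1])
        (fun r => by simp only [MonoidHom.comp_apply, MulEquiv.coe_toMonoidHom, MulAut.conj_apply, jl,
          ρconj σ hσ n01.symm, h0, h1])
    have jswap : ∀ x, ρ (el U s) * j2 x * (ρ (el U s))⁻¹ = j2 (swapAut x) :=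
      hom_eq_roots (f := (MulAut.conj (ρ (el U s))).toMonoidHom.comp j2) (g := j2.comp swapAut)
        (fun r => by simp only [MonoidHom.comp_apply, MulEquiv.coe_toMonoidHom, MulAut.conj_apply, ju,
          swapAut_u, jl, ρconj s hs n01, s0, s1])
        (fun r => by simp only [MonoidHom.comp_apply, MulEquiv.coe_toMonoidHom, MulAut.conj_apply, jl,
          swapAut_lo, ju, ρconj s hs n01.symm, s0, s1])
    have jcomm : ∀ x y, Commute (j2 x) (ρ (el U τ) * j2 y * (ρ (el U τ))⁻¹) := by
      intro x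
      let K : SL(N, F) → Subgroup SL(2, F) := fun z =>
        (Subgroup.centralizer {z}).comap ((MulAut.conj (ρ (el U τ))).toMonoidHom.comp j2)
      have key : ∀ a b : Fin N, a ≠ b → a ≠ i2 → a ≠ i3 → b ≠ i2 → b ≠ i3 → ∀ r, K (tv a b r) = ⊤ := by
        intro a b hab ha2 ha3 hb2 hb3 r
        refine sl2_top' _ (fun t => ?_) fun t => ?_
        · rw [Subgroup.mem_comap, Subgroup.mem_centralizer_singleton_iff]
          simp only [MonoidHom.comp_apply, MulEquiv.coe_toMonoidHom, MulAut.conj_apply, ju, ρconj τ hτ n01, τ0, τ1]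
          exact (tv_commute n23 hab (Ne.symm ha3) (Ne.symm hb2) t r).eq
        · rw [Subgroup.mem_comap, Subgroup.mem_centralizer_singleton_iff]
          simp only [MonoidHom.comp_apply, MulEquiv.coe_toMonoidHom, MulAut.conj_apply, jl, ρconj τ hτ n01.symm, τ0, τ1]
          exact (tv_commute n23.symm hab (Ne.symm ha2) (Ne.symm hb3) t r).eq
      intro y
      let K' : Subgroup SL(2, F) := (Subgroup.centralizer {ρ (el U τ) * j2 y * (ρ (el U τ))⁻¹}).comap j2
      have hK' : K' = ⊤ := by
        refine sl2_top' _ (fun t => ?_) fun t => ?_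
        · rw [Subgroup.mem_comap, Subgroup.mem_centralizer_singleton_iff, ju]
          have := (key i0 i1 n01 n02 n03 n12 n13 t ▸ Subgroup.mem_top y : y ∈ K (tv i0 i1 t))
          rw [Subgroup.mem_comap, Subgroup.mem_centralizer_singleton_iff] at this
          exact this.symm
        · rw [Subgroup.mem_comap, Subgroup.mem_centralizer_singleton_iff, jl]
          have := (key i1 i0 n01.symm n12 n13 n02 n03 t ▸ Subgroup.mem_top y : y ∈ K (tv i1 i0 t))
          rw [Subgroup.mem_comap, Subgroup.mem_centralizer_singleton_iff] at this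
          exact this.symm
      have := (hK' ▸ Subgroup.mem_top x : x ∈ K')
      rw [Subgroup.mem_comap, Subgroup.mem_centralizer_singleton_iff] at this
      exact this
    simp only [E, List.forall_mem_append, List.forall_mem_cons, List.not_mem_nil, false_imp_iff,
      implies_true, and_true, List.forall_mem_map]
    refine ⟨⟨?_, fun σ hσ => ?_⟩, fun x _ => ?_⟩
    · simp only [wA, wB, map_mul, map_inv, FreeGroup.lift_apply_of, Sum.elim_inl, Sum.elim_inr, mul_inv_eq_one]
      exact jswap a2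
    · have hm' := hσs σ hσ
      simp only [wA, wB, map_mul, map_inv, FreeGroup.lift_apply_of, Sum.elim_inl, Sum.elim_inr, mul_inv_eq_one]
      exact jfix _ hm'.1 (fix01 _ hm').1 (fix01 _ hm').2 a2
    · simp only [wC, wA, wB, map_mul, map_inv, FreeGroup.lift_apply_of, Sum.elim_inl, Sum.elim_inr, mul_inv_eq_one]
      exact (jcomm _ _).eq
  · -- injectivity
    intro H _ fA fB π hπA hπB hgen rc hrel
    simp only [E, List.forall_mem_append, List.forall_mem_cons, List.not_mem_nil, false_imp_iff,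
      implies_true, and_true, List.forall_mem_map] at hrel
    obtain ⟨⟨rg, ro⟩, rt⟩ := hrel
    let f2 : SL(2, F) →* H := fB.comp blk
    let A : Perm (Fin N) → H := fun σ => fA (el U σ)
    simp only [wC, wA, wB, map_mul, map_inv, FreeGroup.lift_apply_of, Sum.elim_inl, Sum.elim_inr,
      mul_inv_eq_one] at rg ro rt
    have A_mul : ∀ σ σ', sign σ = 1 → sign σ' = 1 → A (σ * σ') = A σ * A σ' := fun σ σ' h h' => by
      simp only [A, el_mul (mk σ h) (mk σ' h'), map_mul]
    have A_inv : ∀ σ, sign σ = 1 → A σ⁻¹ = (A σ)⁻¹ := fun σ h => by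
      simp only [A, el_inv (mk σ h), map_inv]
    have eq2 : ∀ {f f' : SL(2, F) →* H}, f a2 = f' a2 → f b2 = f' b2 → ∀ x, f x = f' x := fun {f f'} h h' x => by
      have : f = f' := MonoidHom.eq_of_eqOn_dense hab2 (by
        rintro y (rfl | rfl)
        exacts [h, h'])
      rw [this]
    have s2 : s * s = 1 := by
      simp only [s]
      rw [show swap i0 i1 * swap i2 i3 * (swap i0 i1 * swap i2 i3) = swap i0 i1 * (swap i2 i3 * swap i0 i1) * swap i2 i3
        by group, show swap i2 i3 * swap i0 i1 = swap i0 i1 * swap i2 i3 from ((disjoint_swap_swap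
          (by simp [List.nodup_cons, n01, n02, n03, n12, n13, n23] : [i0, i1, i2, i3].Nodup)).commute).eq.symm]
      simp [← mul_assoc]
    have As2 : A s * A s = 1 := by rw [← A_mul _ _ hs hs, s2]; simp [A, el_one]
    have cs : A s * f2 a2 * (A s)⁻¹ = f2 b2 := rg
    have cs' : A s * f2 b2 * (A s)⁻¹ = f2 a2 := by
      rw [← cs, show A s * (A s * f2 a2 * (A s)⁻¹) * (A s)⁻¹ = (A s * A s) * f2 a2 * (A s * A s)⁻¹ by group, As2]
      simp
    have hsx : ∀ x, A s * f2 x * (A s)⁻¹ = f2 (swapAut x) :=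
      eq2 (f := (MulAut.conj (A s)).toMonoidHom.comp f2) (f' := f2.comp swapAut)
        (by simpa [b2] using cs) (by simpa [b2, swap2] using cs')
    -- the stabiliser of the pair centralises the block
    have stabA : ∀ σ ∈ altOn (pts i2 i3 s'), Commute (A σ) (f2 a2) := by
      intro σ hσ
      have hle : altOn (pts i2 i3 s') ≤ Subgroup.closure {σ | σ ∈ σs} := by
        intro y hy
        refine (Subgroup.closure_le _).mpr ?_ (mem_closure_cyc n23 s' hs2 hs3 y hy.1 hy.2)
        rintro _ ⟨i, hi, rfl⟩; exact hgenS i hi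
      have : σ ∈ altOn (pts i2 i3 s') ∧ Commute (A σ) (f2 a2) := by
        have hc' := hle hσ
        clear hσ
        induction hc' using Subgroup.closure_induction with
        | mem y hy => exact ⟨hσs y hy, mul_inv_eq_iff_eq_mul.mp (ro y hy)⟩
        | one => exact ⟨one_mem _, by simp [A, el_one]⟩
        | mul y z _ _ hy hz =>
          exact ⟨mul_mem hy.1 hz.1, by rw [A_mul _ _ hy.1.1 hz.1.1]; exact hy.2.mul_left hz.2⟩
        | inv y _ hy => exact ⟨inv_mem hy.1, by rw [A_inv y hy.1.1]; exact hy.2.inv_left⟩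
      exact this.2
    have stab : ∀ σ, sign σ = 1 → σ i0 = i0 → σ i1 = i1 → ∀ x, Commute (A σ) (f2 x) := by
      intro σ hσ h0 h1
      have fx : ∀ {σ : Perm (Fin N)}, sign σ = 1 → σ i0 = i0 → σ i1 = i1 → σ ∈ altOn (pts i2 i3 s') :=
        fun {σ} h e0 e1 => ⟨h, fun x hx => by
          have : ¬(x ≠ i0 ∧ x ≠ i1) := fun h => hx ((hs' x).mpr h)
          by_cases q0 : x = i0
          · rw [q0, e0]
          · rw [not_not.mp fun q1 => this ⟨q0, q1⟩, e1]⟩
      have ca := stabA σ (fx hσ h0 h1)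
      have cb : Commute (A σ) (f2 b2) := by
        have hτσ : sign (s * σ * s) = 1 := by simp [hs, hσ]
        have := (stabA (s * σ * s) (fx hτσ (by simp [s0, s1, h1]) (by simp [s0, s1, h0]))).map (MulAut.conj (A s)).toMonoidHom
        simp only [MulEquiv.coe_toMonoidHom, MulAut.conj_apply, cs] at this
        rwa [A_mul _ _ (by simp [hs, hσ]) hs, A_mul _ _ hs hσ,
          show A s * (A s * A σ * A s) * (A s)⁻¹ = (A s * A s) * A σ by group, As2, one_mul] at this
      intro x
      exact mul_inv_eq_iff_eq_mul.mp (eq2 (f := (MulAut.conj (A σ)).toMonoidHom.comp f2) (f' := f2)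
        (mul_inv_eq_iff_eq_mul.mpr ca) (mul_inv_eq_iff_eq_mul.mpr cb) x)
    have htx : ∀ x y, Commute (f2 x) (A τ * f2 y * (A τ)⁻¹) := by
      have τ2 : A τ * A τ = 1 := by
        rw [← A_mul _ _ hτ hτ]
        have : τ * τ = 1 := by
          refine Equiv.ext fun z => ?_
          simp only [τ, Perm.mul_apply, Perm.one_apply]
          by_cases h0 : z = i0
          · subst h0; simp [swap_apply_of_ne_of_ne n01 n03, swap_apply_of_ne_of_ne n12.symm n23]
          by_cases h2 : z = i2
          · subst h2; simp [swap_apply_of_ne_of_ne n12.symm n23, swap_apply_of_ne_of_ne n01 n03]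
          by_cases h1 : z = i1
          · subst h1; simp [swap_apply_of_ne_of_ne n03.symm n23.symm, swap_apply_of_ne_of_ne n01.symm n12]
          by_cases h3 : z = i3
          · subst h3; simp [swap_apply_of_ne_of_ne n03.symm n23.symm, swap_apply_of_ne_of_ne n01.symm n12]
          simp [swap_apply_of_ne_of_ne h1 h3, swap_apply_of_ne_of_ne h0 h2]
        rw [this]; simp [A, el_one]
      have τ2' : τ i2 = i0 ∧ τ i3 = i1 := by
        simp [τ, swap_apply_of_ne_of_ne n12.symm n23, swap_apply_of_ne_of_ne n01.symm n12]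
      have c02 : swap i0 i1 * swap i2 i3 = swap i2 i3 * swap i0 i1 := ((disjoint_swap_swap
          (by simp [List.nodup_cons, n01, n02, n03, n12, n13, n23] : [i0, i1, i2, i3].Nodup)).commute).eq
      have sτ : A s * A τ = A τ * A s := by
        rw [← A_mul _ _ hs hτ, ← A_mul _ _ hτ hs]
        congr 1
        simp only [s]
        rw [← mul_assoc τ, Equiv.mul_swap_eq_swap_mul τ i0 i1, τ0, τ1, mul_assoc _ τ,
          Equiv.mul_swap_eq_swap_mul τ i2 i3, τ2'.1, τ2'.2, ← mul_assoc (swap i2 i3), ← c02]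
      have taa : Commute (f2 a2) (A τ * f2 a2 * (A τ)⁻¹) := rt a2 (by rcases hL with ⟨h, -⟩ | h <;> simp [h])
      have tbb : Commute (f2 b2) (A τ * f2 b2 * (A τ)⁻¹) := by
        have := taa.map (MulAut.conj (A s)).toMonoidHom
        simp only [MulEquiv.coe_toMonoidHom, MulAut.conj_apply, cs] at this
        rwa [show A s * (A τ * f2 a2 * (A τ)⁻¹) * (A s)⁻¹ = (A s * A τ) * f2 a2 * (A s * A τ)⁻¹ by group, sτ,
          show A τ * A s * f2 a2 * (A τ * A s)⁻¹ = A τ * (A s * f2 a2 * (A s)⁻¹) * (A τ)⁻¹ by group, cs] at this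
      have tab : Commute (f2 a2) (A τ * f2 b2 * (A τ)⁻¹) := by
        rcases hL with ⟨-, o, ho, o', ho', hne⟩ | h
        · have q : ∀ {o}, o ∈ s' → o ≠ i0 ∧ o ≠ i1 ∧ o ≠ i2 ∧ o ≠ i3 := fun ho => by
            simp [s'] at ho; tauto
          obtain ⟨o0, o1, o2, o3⟩ := q ho
          obtain ⟨q0, q1, q2, q3⟩ := q ho'
          let σ : Perm (Fin N) := swap i2 i3 * swap o o'
          have hσ : sign σ = 1 := sw n23 hne
          have cσ := stab σ hσ (by simp [σ, swap_apply_of_ne_of_ne o0.symm q0.symm, swap_apply_of_ne_of_ne n02 n03])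
            (by simp [σ, swap_apply_of_ne_of_ne o1.symm q1.symm, swap_apply_of_ne_of_ne n12 n13]) a2
          have e : σ * τ = τ * (s * σ) := by
            simp only [σ, s]
            rw [show swap i0 i1 * swap i2 i3 * (swap i2 i3 * swap o o') =
              swap i0 i1 * (swap i2 i3 * swap i2 i3) * swap o o' by group, swap_mul_self, mul_one,
              ← mul_assoc τ, Equiv.mul_swap_eq_swap_mul τ i0 i1, τ0, τ1, mul_assoc _ τ,
              Equiv.mul_swap_eq_swap_mul τ o o',
              show τ o = o by simp [τ, swap_apply_of_ne_of_ne o1 o3, swap_apply_of_ne_of_ne o0 o2],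
              show τ o' = o' by simp [τ, swap_apply_of_ne_of_ne q1 q3, swap_apply_of_ne_of_ne q0 q2], mul_assoc]
          have eA : A σ * A τ = A τ * (A s * A σ) := by
            rw [← A_mul _ _ hσ hτ, ← A_mul _ _ hs hσ, ← A_mul _ _ hτ (by simp [hs, hσ]), e]
          have := taa.map (MulAut.conj (A σ)).toMonoidHom
          simp only [MulEquiv.coe_toMonoidHom, MulAut.conj_apply] at this
          rwa [show A σ * f2 a2 * (A σ)⁻¹ = f2 a2 from mul_inv_eq_iff_eq_mul.mpr cσ,
            show A σ * (A τ * f2 a2 * (A τ)⁻¹) * (A σ)⁻¹ = (A σ * A τ) * f2 a2 * (A σ * A τ)⁻¹ by group, eA,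
            show A τ * (A s * A σ) * f2 a2 * (A τ * (A s * A σ))⁻¹ =
              A τ * (A s * (A σ * f2 a2 * (A σ)⁻¹) * (A s)⁻¹) * (A τ)⁻¹ by group,
            show A σ * f2 a2 * (A σ)⁻¹ = f2 a2 from mul_inv_eq_iff_eq_mul.mpr cσ, cs] at this
        · exact rt b2 (by simp [h])
      have tba : Commute (f2 b2) (A τ * f2 a2 * (A τ)⁻¹) := by
        have := ((show Commute (f2 a2) (A τ * f2 b2 * (A τ)⁻¹) from tab).map (MulAut.conj (A τ)).toMonoidHom).symm
        simp only [MulEquiv.coe_toMonoidHom, MulAut.conj_apply] at this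
        rwa [show A τ * (A τ * f2 b2 * (A τ)⁻¹) * (A τ)⁻¹ = (A τ * A τ) * f2 b2 * (A τ * A τ)⁻¹ by group, τ2,
          one_mul, inv_one, mul_one] at this
      have base : ∀ x ∈ gens, ∀ y ∈ gens, Commute (f2 x) (A τ * f2 y * (A τ)⁻¹) := by
        intro x hx y hy
        simp only [gens, List.mem_cons, List.not_mem_nil, or_false] at hx hy
        rcases hx with rfl | rfl <;> rcases hy with rfl | rfl
        exacts [taa, tab, tba, tbb]
      intro x y
      exact ShortPresSpRels.gen_commute hab2 ((MulAut.conj (A τ)).toMonoidHom.comp f2) (f2 x)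
        (fun y hy => (ShortPresSpRels.gen_commute hab2 f2 _ (fun x hx => (base x hx y hy).symm) x).symm) y
    -- the root elements
    have ex : ∀ i j : Fin N, i ≠ j → ∃ σ : Perm (Fin N), sign σ = 1 ∧ σ i0 = i ∧ σ i1 = j := by
      intro i j hij
      obtain ⟨l, hl1, hl2⟩ := third (by omega : 3 ≤ N) i j
      obtain ⟨σ, e0, e1, -⟩ := exists_perm3 n01 n02 n12 hij hl1.symm hl2.symm
      rcases Int.units_eq_one_or (sign σ) with hσ | hσ
      · exact ⟨σ, hσ, e0, e1⟩
      · exact ⟨σ * swap i2 i3, by rw [map_mul, hσ, sign_swap n23]; rfl,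
          by simp [swap_apply_of_ne_of_ne n02 n03, e0], by simp [swap_apply_of_ne_of_ne n12 n13, e1]⟩
    choose σf hσf using ex
    let X : Fin N → Fin N → F → H := fun i j r =>
      if h : i ≠ j then A (σf i j h) * f2 (u r) * (A (σf i j h))⁻¹ else 1
    have X_eq : ∀ σ, sign σ = 1 → ∀ r, A σ * f2 (u r) * (A σ)⁻¹ = X (σ i0) (σ i1) r := by
      intro σ hσ r
      have hne : σ i0 ≠ σ i1 := σ.injective.ne n01
      simp only [X, dif_pos hne]
      obtain ⟨h1, h2, h3⟩ := hσf _ _ hne
      set σ' := σf _ _ hne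
      have cz := stab (σ'⁻¹ * σ) (by simp [h1, hσ])
        (by rw [Perm.mul_apply, Perm.inv_def, Equiv.symm_apply_eq, h2])
        (by rw [Perm.mul_apply, Perm.inv_def, Equiv.symm_apply_eq, h3]) (u r)
      rw [A_mul _ _ (by simp [h1]) hσ, A_inv _ h1] at cz
      calc A σ * f2 (u r) * (A σ)⁻¹ = A σ' * (((A σ')⁻¹ * A σ) * f2 (u r)) * (A σ)⁻¹ := by group
        _ = _ := by rw [cz.eq]; group
    have X_conj : ∀ σ, sign σ = 1 → ∀ a b, a ≠ b → ∀ r, A σ * X a b r * (A σ)⁻¹ = X (σ a) (σ b) r := by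
      intro σ hσ a b hab r
      obtain ⟨h1, h2, h3⟩ := hσf a b hab
      have := X_eq (σ * σf a b hab) (by simp [hσ, h1]) r
      rw [Perm.mul_apply, Perm.mul_apply, h2, h3, A_mul _ _ hσ h1] at this
      rw [← this]
      simp only [X, dif_pos hab]; group
    have b01 : ∀ r, fB (x01 r) = X i0 i1 r := fun r => by
      have := X_eq 1 (map_one _) r
      simp only [A, el_one, map_one, one_mul, inv_one, mul_one, Perm.one_apply] at this
      rw [← this, ← blk_u]; rfl
    have b10 : ∀ r, fB (x10 r) = X i1 i0 r := fun r => by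
      rw [← blk_lo, ← swapAut_u, show fB (blk (swapAut (u r))) = f2 (swapAut (u r)) from rfl, ← hsx,
        show f2 (u r) = X i0 i1 r by rw [← b01, ← blk_u]; rfl, X_conj s hs _ _ n01, s0, s1]
    have cPc : ∀ {z : SL(3, F)} {a b : Fin N} {r : F}, a ≠ b → fB z = X a b r →
        fB (Pc * z * Pc⁻¹) = X (c a) (c b) r := fun hab hz => by
      rw [map_mul, map_mul, map_inv, hz, rc]; exact X_conj c hc _ _ hab _
    have c0 : c i0 = i1 := cyc_a n01 n02.symm
    have c1 : c i1 = i2 := cyc_b n02.symm n12.symm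
    have c2 : c i2 = i0 := cyc_i
    have b12 : ∀ r, fB (x12 r) = X i1 i2 r := fun r => by rw [← Pc_x01, cPc n01 (b01 r), c0, c1]
    have b20 : ∀ r, fB (x20 r) = X i2 i0 r := fun r => by rw [← Pc_x12, cPc n12 (b12 r), c1, c2]
    have b21 : ∀ r, fB (x21 r) = X i2 i1 r := fun r => by rw [← Pc_x10, cPc n01.symm (b10 r), c0, c1]
    have b02 : ∀ r, fB (x02 r) = X i0 i2 r := fun r => by rw [← Pc_x21, cPc n12.symm (b21 r), c1, c2]
    let D : Data H N F :=
      { X := X
        three := by omega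
        π := π
        π_X := fun i j hij r => by
          obtain ⟨h1, h2, h3⟩ := hσf i j hij
          simp only [X, dif_pos hij, map_mul, map_inv, A, f2, MonoidHom.comp_apply, hπA, hπB]
          show _ * j2 (u r) * _ = _
          rw [ju, ρconj _ h1 n01, h2, h3]
        comm := fun i j k l hij hkl hik hil hjk hjl r t => by
          obtain ⟨σ, e0, e1, e2⟩ := exists_perm3 n01 n02 n12 hij hik hjk
          obtain ⟨σ', q0, q1, q2, q3⟩ : ∃ σ' : Perm (Fin N), σ' i0 = i ∧ σ' i1 = j ∧ σ' i2 = k ∧ σ' i3 = l := by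
            refine ⟨swap (σ i3) l * σ, ?_, ?_, ?_, by simp⟩ <;> rw [Perm.mul_apply]
            · rw [e0, swap_apply_of_ne_of_ne (fun e => n03 (σ.injective (e0.trans e))) hil]
            · rw [e1, swap_apply_of_ne_of_ne (fun e => n13 (σ.injective (e1.trans e))) hjl]
            · rw [e2, swap_apply_of_ne_of_ne (fun e => n23 (σ.injective (e2.trans e))) hkl]
          have hX23 : X i2 i3 t = A τ * f2 (u t) * (A τ)⁻¹ := by rw [X_eq τ hτ, τ0, τ1]
          have key : ∀ σ'' : Perm (Fin N), sign σ'' = 1 → ∀ x, σ'' i2 = k → σ'' i3 = l →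
              A σ'' * f2 x * (A σ'')⁻¹ = X i j r → Commute (X i j r) (X k l t) := by
            intro σ'' h x hk hl hx
            rw [← hx, ← hk, ← hl, ← X_conj σ'' h _ _ n23, hX23]
            exact (htx x (u t)).map (MulAut.conj (A σ'')).toMonoidHom
          rcases Int.units_eq_one_or (sign σ') with h | h
          · exact key σ' h (u r) q2 q3 (by rw [X_eq σ' h, q0, q1])
          · have h' : sign (σ' * swap i0 i1) = 1 := by rw [map_mul, h, sign_swap n01]; rfl
            refine key _ h' (lo r) (by simp [swap_apply_of_ne_of_ne n02.symm n12.symm, q2])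
              (by simp [swap_apply_of_ne_of_ne n03.symm n13.symm, q3]) ?_
            rw [show f2 (lo r) = X i1 i0 r by rw [← b10, ← blk_lo]; rfl, X_conj _ h' _ _ n01.symm]
            simp [q0, q1]
        triple := fun i j l hij hjl hil => by
          obtain ⟨σ, e0, e1, e2⟩ := exists_perm3 n01 n02 n12 hij hil hjl
          rcases Int.units_eq_one_or (sign σ) with h | h
          · refine ⟨(MulAut.conj (A σ)).toMonoidHom.comp fB, ?_, ?_, ?_, ?_, ?_, ?_⟩ <;> intro r <;>
              simp only [MonoidHom.comp_apply, MulEquiv.coe_toMonoidHom, MulAut.conj_apply]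
            · rw [b01, X_conj σ h _ _ n01, e0, e1]
            · rw [b10, X_conj σ h _ _ n01.symm, e0, e1]
            · rw [b12, X_conj σ h _ _ n12, e1, e2]
            · rw [b21, X_conj σ h _ _ n12.symm, e1, e2]
            · rw [b02, X_conj σ h _ _ n02, e0, e2]
            · rw [b20, X_conj σ h _ _ n02.symm, e0, e2]
          · have h' : sign (σ * swap i0 i1) = 1 := by rw [map_mul, h, sign_swap n01]; rfl
            have f0 : (σ * swap i0 i1) i0 = j := by simp [e1]
            have f1 : (σ * swap i0 i1) i1 = i := by simp [e0]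
            have f2' : (σ * swap i0 i1) i2 = l := by simp [swap_apply_of_ne_of_ne n02.symm n12.symm, e2]
            refine ⟨((MulAut.conj (A (σ * swap i0 i1))).toMonoidHom.comp fB).comp swap3, ?_, ?_, ?_, ?_, ?_, ?_⟩ <;>
              intro r <;> simp only [MonoidHom.comp_apply, MulEquiv.coe_toMonoidHom, MulAut.conj_apply, swap3_x01,
                swap3_x10, swap3_x12, swap3_x21, swap3_x02, swap3_x20]
            · rw [b10, X_conj _ h' _ _ n01.symm, f0, f1]
            · rw [b01, X_conj _ h' _ _ n01, f0, f1]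
            · rw [b02, X_conj _ h' _ _ n02, f0, f2']
            · rw [b20, X_conj _ h' _ _ n02.symm, f0, f2']
            · rw [b12, X_conj _ h' _ _ n12, f1, f2']
            · rw [b21, X_conj _ h' _ _ n12.symm, f1, f2'] }
    refine ShortPresChart.injective D ?_
    set M := D.roots Set.univ
    have hM : ∀ a b, a ≠ b → ∀ r, X a b r ∈ M := fun a b hab r =>
      mem_roots D (Q := Set.univ) (Set.mem_univ _) hab r
    have hB : ∀ z, fB z ∈ M := by
      let K : Subgroup SL(3, F) := M.comap fB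
      have k01 : ∀ r, x01 r ∈ K := fun r => by show fB _ ∈ M; rw [b01]; exact hM _ _ n01 r
      have k10 : ∀ r, x10 r ∈ K := fun r => by show fB _ ∈ M; rw [b10]; exact hM _ _ n01.symm r
      have k12 : ∀ r, x12 r ∈ K := fun r => by show fB _ ∈ M; rw [b12]; exact hM _ _ n12 r
      have k21 : ∀ r, x21 r ∈ K := fun r => by show fB _ ∈ M; rw [b21]; exact hM _ _ n12.symm r
      have kW : blk W ∈ K := by
        rw [W_eq, map_mul, map_mul, blk_u, blk_lo]; exact K.mul_mem (K.mul_mem (k01 _) (k10 _)) (k01 _)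
      have kC : (Cm : SL(3, F)) ∈ K := by
        rw [show (Cm : SL(3, F)) = (x10 (-1) * x01 1 * x10 (-1)) * (x21 (-1) * x12 1 * x21 (-1)) by
          apply Subtype.ext
          simp [Cm, x10, x01, x21, x12, Matrix.SpecialLinearGroup.coe_mul, Matrix.mul_fin_three]]
        exact K.mul_mem (K.mul_mem (K.mul_mem (k10 _) (k01 _)) (k10 _)) (K.mul_mem (K.mul_mem (k21 _) (k12 _)) (k21 _))
      exact fun z => (SL3PresModel.eq_top_of_mem K k01 kC kW ▸ Subgroup.mem_top z : z ∈ K)
    have hnorm : ∀ σ, sign σ = 1 → ∀ y ∈ M, A σ * y * (A σ)⁻¹ ∈ M := fun σ hσ =>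
      conj_roots D _ M fun a b _ hab r => by
        show A σ * X a b r * _ ∈ M
        rw [X_conj σ hσ a b hab]; exact hM _ _ (σ.injective.ne hab) r
    have hAc : A c ∈ M := by
      show fA (el U c) ∈ M
      rw [← rc]; exact hB _
    let sC : Finset (Fin N) := (Finset.univ.erase i0).erase i1
    have hcyc : ∀ i ∈ sC, sign (cyc i0 i1 i) = 1 ∧ A (cyc i0 i1 i) ∈ M := by
      intro i hi
      simp only [sC, Finset.mem_erase, Finset.mem_univ, and_true] at hi
      refine ⟨sign_cyc n01 hi.1, ?_⟩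
      by_cases h2 : i = i2
      · subst h2; exact hAc
      · let σ := swap i2 i * swap i0 i1
        have hσ : sign σ = 1 := sw (Ne.symm h2) n01
        have e : σ * c * σ⁻¹ = (cyc i0 i1 i)⁻¹ := by
          rw [conj_cyc, show σ i0 = i1 by simp [σ, swap_apply_of_ne_of_ne n12 hi.1.symm],
            show σ i1 = i0 by simp [σ, swap_apply_of_ne_of_ne n02 hi.2.symm],
            show σ i2 = i by simp [σ, swap_apply_of_ne_of_ne n02.symm n12.symm], cyc_swap n01 hi.2 hi.1]
        have : cyc i0 i1 i = (σ * c * σ⁻¹)⁻¹ := by rw [e, inv_inv]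
        rw [this, A_inv _ (by simp [hσ, hc]), A_mul _ _ (by simp [hσ, hc]) (by simp [hσ]), A_mul _ _ hσ hc,
          A_inv σ hσ]
        exact M.inv_mem (hnorm σ hσ _ hAc)
    rw [eq_top_iff, ← hgen, sup_le_iff]
    constructor
    · rintro _ ⟨σ, rfl⟩
      have hcl := mem_closure_cyc n01 sC (by simp [sC]) (by simp [sC]) σ.1 σ.2.1 fun x hx => by
        simp [pts, sC] at hx; tauto
      have : ∀ y ∈ Subgroup.closure (cyc i0 i1 '' (sC : Set (Fin N))), sign y = 1 ∧ A y ∈ M := by
        intro y hy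
        induction hy using Subgroup.closure_induction with
        | mem z hz => obtain ⟨i, hi, rfl⟩ := hz; exact hcyc i hi
        | one => exact ⟨map_one _, by simp [A, el_one]⟩
        | mul y z _ _ hy hz => exact ⟨by simp [hy.1, hz.1], by rw [A_mul _ _ hy.1 hz.1]; exact M.mul_mem hy.2 hz.2⟩
        | inv y _ hy => exact ⟨by simp [hy.1], by rw [A_inv y hy.1]; exact M.inv_mem hy.2⟩
      have := (this σ.1 hcl).2
      simpa [A, el_val] using this
    · rintro _ ⟨z, rfl⟩; exact hB z

end Cfsg.Agent.ShortPresSLFive
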