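import Cfsg.Agent.Lib.ShortPresSpPres

/-!
Eight amalgamating relators for `SL(n, F)` over an alternating group and `SL(3, F)`.
-/

set_option autoImplicit false
set_option backward.isDefEq.respectTransparency false

namespace Cfsg.Agent.ShortPresSLSharp

open Equiv Equiv.Perm ShortPres ShortPresCarmichael ShortPresGlue ShortPresBlock ShortPresChart SL3PresModel
  StemSLnTv PSL2Elements SL2PresData ShortPresSL
open Multiplicative (ofAdd)
open scoped MatrixGroups

variable {F : Type*} [Field F] [Fintype F]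

/-- the amalgamation data -/
theorem sl_data (m : ℕ) (hm : 1 ≤ m) : ∃ (ρ : altOn (Finset.univ : Finset (Fin (3 + m))) →* SL(3 + m, F))
    (ι : SL(3, F) →* SL(3 + m, F)) (E : List (FreeGroup (altOn (Finset.univ : Finset (Fin (3 + m))) ⊕ SL(3, F)))),
    E.length ≤ 8 ∧ ρ.range ⊔ ι.range = ⊤ ∧ (∀ r ∈ E, FreeGroup.lift (Sum.elim ρ ι) r = 1) ∧
    ∀ (H : Type) [Group H] (fA : altOn (Finset.univ : Finset (Fin (3 + m))) →* H) (fB : SL(3, F) →* H)
      (π : H →* SL(3 + m, F)), (∀ x, π (fA x) = ρ x) → (∀ x, π (fB x) = ι x) → fA.range ⊔ fB.range = ⊤ →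
      (∀ r ∈ E, FreeGroup.lift (Sum.elim fA fB) r = 1) → Function.Injective π := by
  classical
  obtain ⟨a2, b2, hab2⟩ := ShortPresSpPres.exists_two (F := F)
  set N := 3 + m with hN
  let U : Finset (Fin N) := Finset.univ
  let i0 : Fin N := ix m 0
  let i1 : Fin N := ix m 1
  let i2 : Fin N := ix m 2
  let i3 : Fin N := finSumFinEquiv (Sum.inr ⟨0, hm⟩)
  have n01 : i0 ≠ i1 := ix_ne m (by decide)
  have n02 : i0 ≠ i2 := ix_ne m (by decide)
  have n12 : i1 ≠ i2 := ix_ne m (by decide)
  have n03 : i0 ≠ i3 := finSumFinEquiv.injective.ne Sum.inl_ne_inr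
  have n13 : i1 ≠ i3 := finSumFinEquiv.injective.ne Sum.inl_ne_inr
  have n23 : i2 ≠ i3 := finSumFinEquiv.injective.ne Sum.inl_ne_inr
  have mk : ∀ g : Perm (Fin N), sign g = 1 → g ∈ altOn U := fun g h => ⟨h, fun x hx => absurd (Finset.mem_univ x) hx⟩
  have sw : ∀ {a b c e : Fin N}, a ≠ b → c ≠ e → sign (swap a b * swap c e) = 1 := fun h h' => by
    rw [map_mul, sign_swap h, sign_swap h']; rfl
  let ρ : altOn U →* SL(N, F) := permHom N
  let ι : SL(3, F) →* SL(N, F) := emb m
  let j2 : SL(2, F) →* SL(N, F) := ι.comp blk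
  have ju : ∀ r, j2 (u r) = tv i0 i1 r := fun r => by
    show ι (blk (u r)) = _; rw [blk_u]; exact emb_x01 m r
  have jl : ∀ r, j2 (lo r) = tv i1 i0 r := fun r => by
    show ι (blk (lo r)) = _; rw [blk_lo]; exact emb_x10 m r
  have ρconj : ∀ (g : Perm (Fin N)), sign g = 1 → ∀ {a b : Fin N}, a ≠ b → ∀ r : F,
      ρ (el U g) * tv a b r * (ρ (el U g))⁻¹ = tv (g a) (g b) r := by
    intro g hg a b hab r
    have : ρ (el U g) = permEl g hg := by
      show permHom N (el U g) = _
      simp only [permHom, MonoidHom.coe_mk, OneHom.coe_mk]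
      congr 1; exact el_coe (mk g hg)
    rw [this]; exact permEl_conj hab g hg r
  -- the permutations used
  let s' : Finset (Fin N) := (((Finset.univ.erase i0).erase i1).erase i2).erase i3
  have hs2 : i2 ∉ s' := by simp [s']
  have hs3 : i3 ∉ s' := by simp [s']
  have hs' : ∀ x, x ∈ pts i2 i3 s' ↔ x ≠ i0 ∧ x ≠ i1 := fun x => by
    simp only [pts, s', Finset.mem_insert, Finset.mem_erase, Finset.mem_univ, and_true]
    constructor
    · rintro (rfl | rfl | ⟨-, -, h1, h0⟩)
      exacts [⟨n02.symm, n12.symm⟩, ⟨n03.symm, n13.symm⟩, ⟨h0, h1⟩]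
    · rintro ⟨h0, h1⟩; tauto
  obtain ⟨g, hg, hgab, htr⟩ := exists_transport n23 s' hs2 hs3
  have fix01 : ∀ σ ∈ altOn (pts i2 i3 s'), σ i0 = i0 ∧ σ i1 = i1 := fun σ hσ =>
    ⟨hσ.2 _ fun h => ((hs' _).mp h).1 rfl, hσ.2 _ fun h => ((hs' _).mp h).2 rfl⟩
  let c : Perm (Fin N) := cyc i0 i1 i2
  have hc : sign c = 1 := sign_cyc n01 n12.symm
  let s : Perm (Fin N) := swap i0 i1 * swap i2 i3
  have hs : sign s = 1 := sw n01 n23
  have s0 : s i0 = i1 := by simp [s, swap_apply_of_ne_of_ne n02 n03]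
  have s1 : s i1 = i0 := by simp [s, swap_apply_of_ne_of_ne n12 n13]
  let τ : Perm (Fin N) := swap i0 i2 * swap i1 i3
  have hτ : sign τ = 1 := sw n02 n13
  have τ0 : τ i0 = i2 := by simp [τ, swap_apply_of_ne_of_ne n01 n03]
  have τ1 : τ i1 = i3 := by simp [τ, swap_apply_of_ne_of_ne n13.symm.symm n12.symm.symm, swap_apply_of_ne_of_ne n03.symm n23.symm]
  let gens : List SL(2, F) := [a2, b2]
  let wA : Perm (Fin N) → FreeGroup (altOn U ⊕ SL(3, F)) := fun g => FreeGroup.of (Sum.inl (el U g))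
  let wB : SL(2, F) → FreeGroup (altOn U ⊕ SL(3, F)) := fun x => FreeGroup.of (Sum.inr (blk x))
  have fix01 : ∀ σ ∈ altOn (pts i2 i3 s'), σ i0 = i0 ∧ σ i1 = i1 := fix01
  let g' : Perm (Fin N) := g * s
  have hg' : sign g' = 1 := by rw [map_mul, hg.1, hs]; rfl
  have hgab' : g' i2 = i2 ∧ g' i3 = i3 ∨ g' i2 = i3 ∧ g' i3 = i2 := by
    have e2 : s i2 = i3 := by simp [s, swap_apply_of_ne_of_ne n03.symm n13.symm]
    have e3 : s i3 = i2 := by simp [s, swap_apply_of_ne_of_ne n02.symm n12.symm]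
    rcases hgab with ⟨h1, h2⟩ | ⟨h1, h2⟩
    · exact Or.inr ⟨by rw [Perm.mul_apply, e2, h2], by rw [Perm.mul_apply, e3, h1]⟩
    · exact Or.inl ⟨by rw [Perm.mul_apply, e2, h2], by rw [Perm.mul_apply, e3, h1]⟩
  have htr' : ∀ i ∈ s', ∀ j ∈ s', ∃ n : ℕ, (g' ^ n) i = j := by
    intro i hi j hj
    obtain ⟨n, hn⟩ := htr i hi j hj
    refine ⟨n, ?_⟩
    rw [← hn]
    have : ∀ k : ℕ, (g' ^ k) i = (g ^ k) i ∧ (g ^ k) i ∈ s' := by
      intro k
      induction k with
      | zero => exact ⟨rfl, hi⟩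
      | succ k ih =>
        have hm := ih.2
        simp only [s', Finset.mem_erase, Finset.mem_univ, and_true] at hm
        obtain ⟨q3, q2, q1, q0⟩ := hm
        have fx : s ((g ^ k) i) = (g ^ k) i := by
          simp [s, swap_apply_of_ne_of_ne q2 q3, swap_apply_of_ne_of_ne q0 q1]
        refine ⟨by rw [pow_succ', Perm.mul_apply, ih.1, Perm.mul_apply, fx, pow_succ', Perm.mul_apply], ?_⟩
        rw [pow_succ', Perm.mul_apply]
        have hne : ∀ {x y : Fin N}, g x = y → (g ^ k) i ≠ x → g ((g ^ k) i) ≠ y := fun h h' e =>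
          h' (g.injective (e.trans h.symm))
        obtain ⟨f0, f1⟩ := fix01 g hg
        simp only [s', Finset.mem_erase, Finset.mem_univ, and_true]
        rcases hgab with ⟨h2, h3⟩ | ⟨h2, h3⟩
        · exact ⟨hne h3 q3, hne h2 q2, hne f1 q1, hne f0 q0⟩
        · exact ⟨hne h2 q2, hne h3 q3, hne f1 q1, hne f0 q0⟩
    exact (this n).1
  let wC : SL(2, F) → SL(2, F) → FreeGroup (altOn U ⊕ SL(3, F)) := fun x y =>
    wB x * (wA τ * wB y * (wA τ)⁻¹) * (wA τ * wB y * (wA τ)⁻¹ * wB x)⁻¹
  let E : List (FreeGroup (altOn U ⊕ SL(3, F))) :=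
    [FreeGroup.of (Sum.inr Pc) * (wA c)⁻¹] ++
    (opt s' (fun o => gens.map fun x => wA (cyc i2 i3 o) * wB x * (wA (cyc i2 i3 o))⁻¹ * (wB x)⁻¹)).flatten ++
    gens.map (fun x => wA g' * wB x * (wA g')⁻¹ * (wB (swapAut x))⁻¹) ++
    [wC a2 a2, wC a2 b2, wC b2 b2]
  have hE : E.length ≤ 8 := by
    have h1 : (opt s' (fun o => gens.map fun x => wA (cyc i2 i3 o) * wB x * (wA (cyc i2 i3 o))⁻¹ * (wB x)⁻¹)).flatten.length ≤ 2 := by
      unfold opt; split <;> simp [gens]
    simp only [E, gens, List.length_append, List.length_map, List.length_cons, List.length_nil, List.map_cons,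
      List.map_nil, List.flatten_cons, List.flatten_nil] at h1 ⊢
    omega
  refine ⟨ρ, ι, E, hE, ?_, ?_, ?_⟩
  · -- generation
    have : Nontrivial (Fin N) := ⟨⟨i0, i1, n01⟩⟩
    refine PSLSimple.eq_top_of_transvection_mem _ fun i j hij r => ?_
    have hsup : ∀ σ : Perm (Fin N), sign σ = 1 → ρ (el U σ) ∈ ρ.range ⊔ ι.range := fun σ _ =>
      Subgroup.mem_sup_left ⟨_, rfl⟩
    obtain ⟨l, hl1, hl2⟩ := third (by omega : 3 ≤ N) i j
    obtain ⟨σ, e0, e1, e2⟩ := exists_perm3 n01 n02 n12 hij hl1.symm hl2.symm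
    have et : Matrix.SpecialLinearGroup.transvection hij r = tv i j r := by rw [tv, dif_pos hij]
    rw [et]
    rcases Int.units_eq_one_or (sign σ) with hσ | hσ
    · rw [← e0, ← e1, ← ρconj σ hσ n01, ← ju]
      exact Subgroup.mul_mem _ (Subgroup.mul_mem _ (hsup σ hσ) (Subgroup.mem_sup_right ⟨_, rfl⟩))
        (Subgroup.inv_mem _ (hsup σ hσ))
    · have hσ' : sign (σ * swap i0 i1) = 1 := by rw [map_mul, hσ, sign_swap n01]; rfl
      have f0 : (σ * swap i0 i1) i1 = i := by simp [e0]
      have f1 : (σ * swap i0 i1) i0 = j := by simp [e1]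
      rw [← f0, ← f1, ← ρconj _ hσ' n01.symm, ← jl]
      exact Subgroup.mul_mem _ (Subgroup.mul_mem _ (hsup _ hσ') (Subgroup.mem_sup_right ⟨_, rfl⟩))
        (Subgroup.inv_mem _ (hsup _ hσ'))
  · -- the relators hold
    have jfix : ∀ σ : Perm (Fin N), sign σ = 1 → σ i0 = i0 → σ i1 = i1 → ∀ x,
        ρ (el U σ) * j2 x * (ρ (el U σ))⁻¹ = j2 x := fun σ hσ h0 h1 =>
      hom_eq_roots (f := (MulAut.conj (ρ (el U σ))).toMonoidHom.comp j2) (g := j2)
        (fun r => by simp only [MonoidHom.comp_apply, MulEquiv.coe_toMonoidHom, MulAut.conj_apply, ju,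
          ρconj σ hσ n01, h0, h1])
        (fun r => by simp only [MonoidHom.comp_apply, MulEquiv.coe_toMonoidHom, MulAut.conj_apply, jl,
          ρconj σ hσ n01.symm, h0, h1])
    have jswap : ∀ x, ρ (el U s) * j2 x * (ρ (el U s))⁻¹ = j2 (swapAut x) :=
      hom_eq_roots (f := (MulAut.conj (ρ (el U s))).toMonoidHom.comp j2) (g := j2.comp swapAut)
        (fun r => by simp only [MonoidHom.comp_apply, MulEquiv.coe_toMonoidHom, MulAut.conj_apply, ju,
          swapAut_u, jl, ρconj s hs n01, s0, s1])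
        (fun r => by simp only [MonoidHom.comp_apply, MulEquiv.coe_toMonoidHom, MulAut.conj_apply, jl,
          swapAut_lo, ju, ρconj s hs n01.symm, s0, s1])
    have jcomm : ∀ x y, Commute (j2 x) (ρ (el U τ) * j2 y * (ρ (el U τ))⁻¹) := by
      intro x
      let K : SL(N, F) → Subgroup SL(2, F) := fun z =>
        (Subgroup.centralizer {z}).comap ((MulAut.conj (ρ (el U τ))).toMonoidHom.comp j2)
      have key : ∀ a b : Fin N, a ≠ b → a ≠ i2 → a ≠ i3 → b ≠ i2 → b ≠ i3 → ∀ r, K (tv a b r) = ⊤ := by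
        intro a b hab ha2 ha3 hb2 hb3 r
        refine sl2_top' _ (fun t => ?_) fun t => ?_
        · rw [Subgroup.mem_comap, Subgroup.mem_centralizer_singleton_iff]
          simp only [MonoidHom.comp_apply, MulEquiv.coe_toMonoidHom, MulAut.conj_apply, ju, ρconj τ hτ n01, τ0, τ1]
          exact (tv_commute n23 hab (Ne.symm ha3) (Ne.symm hb2) t r).eq
        · rw [Subgroup.mem_comap, Subgroup.mem_centralizer_singleton_iff]
          simp only [MonoidHom.comp_apply, MulEquiv.coe_toMonoidHom, MulAut.conj_apply, jl, ρconj τ hτ n01.symm, τ0, τ1]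
          exact (tv_commute n23.symm hab (Ne.symm ha2) (Ne.symm hb3) t r).eq
      intro y
      let K' : Subgroup SL(2, F) := (Subgroup.centralizer {ρ (el U τ) * j2 y * (ρ (el U τ))⁻¹}).comap j2
      have hK' : K' = ⊤ := by
        refine sl2_top' _ (fun t => ?_) fun t => ?_
        · rw [Subgroup.mem_comap, Subgroup.mem_centralizer_singleton_iff, ju]
          have := (key i0 i1 n01 n02 n03 n12 n13 t ▸ Subgroup.mem_top y : y ∈ K (tv i0 i1 t))
          rw [Subgroup.mem_comap, Subgroup.mem_centralizer_singleton_iff] at this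
          exact this.symm
        · rw [Subgroup.mem_comap, Subgroup.mem_centralizer_singleton_iff, jl]
          have := (key i1 i0 n01.symm n12 n13 n02 n03 t ▸ Subgroup.mem_top y : y ∈ K (tv i1 i0 t))
          rw [Subgroup.mem_comap, Subgroup.mem_centralizer_singleton_iff] at this
          exact this.symm
      have := (hK' ▸ Subgroup.mem_top x : x ∈ K')
      rw [Subgroup.mem_comap, Subgroup.mem_centralizer_singleton_iff] at this
      exact this
    have jswap' : ∀ x, ρ (el U g') * j2 x * (ρ (el U g'))⁻¹ = j2 (swapAut x) := fun x => by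
      have e : el U g' = el U g * el U s := el_mul (mk g hg.1) (mk s hs)
      rw [e, map_mul]
      calc ρ (el U g) * ρ (el U s) * j2 x * (ρ (el U g) * ρ (el U s))⁻¹
          = ρ (el U g) * (ρ (el U s) * j2 x * (ρ (el U s))⁻¹) * (ρ (el U g))⁻¹ := by group
        _ = _ := by rw [jswap, jfix g hg.1 (fix01 g hg).1 (fix01 g hg).2]
    simp only [E, List.forall_mem_append, List.forall_mem_cons, List.not_mem_nil, false_imp_iff,
      implies_true, and_true, List.forall_mem_map]
    refine ⟨⟨⟨?_, ?_⟩, fun x _ => ?_⟩, ?_⟩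
    · simp only [wA, map_mul, map_inv, FreeGroup.lift_apply_of, Sum.elim_inl, Sum.elim_inr, mul_inv_eq_one]
      show emb m Pc = permHom N (el U c)
      simp only [permHom, MonoidHom.coe_mk, OneHom.coe_mk]
      rw [emb_Pc m hc]; congr 1; exact (el_coe (mk c hc)).symm
    · intro r hr0
      obtain ⟨l, hl, hr⟩ := List.mem_flatten.mp hr0
      clear hr0
      revert r
      refine opt_sat (P := fun l => ∀ r ∈ l, FreeGroup.lift (Sum.elim ρ ι) r = 1) (fun o ho => ?_) l hl
      simp only [List.forall_mem_map]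
      intro x _
      have hm' := cyc_mem n23 hs3 ho
      simp only [wA, wB, map_mul, map_inv, FreeGroup.lift_apply_of, Sum.elim_inl, Sum.elim_inr, mul_inv_eq_one]
      exact jfix _ hm'.1 (fix01 _ hm').1 (fix01 _ hm').2 x
    · simp only [wA, wB, map_mul, map_inv, FreeGroup.lift_apply_of, Sum.elim_inl, Sum.elim_inr, mul_inv_eq_one]
      exact jswap' x
    · refine ⟨?_, ?_, ?_⟩ <;>
        simp only [wC, wA, wB, map_mul, map_inv, FreeGroup.lift_apply_of, Sum.elim_inl, Sum.elim_inr, mul_inv_eq_one] <;>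
        exact (jcomm _ _).eq
  · -- injectivity
    intro H _ fA fB π hπA hπB hgen hrel
    simp only [E, List.forall_mem_append, List.forall_mem_cons, List.not_mem_nil, false_imp_iff,
      implies_true, and_true, List.forall_mem_map] at hrel
    obtain ⟨⟨⟨rc, ro⟩, rg⟩, rt⟩ := hrel
    let f2 : SL(2, F) →* H := fB.comp blk
    let A : Perm (Fin N) → H := fun σ => fA (el U σ)
    simp only [wA, map_mul, map_inv, FreeGroup.lift_apply_of, Sum.elim_inl, Sum.elim_inr, mul_inv_eq_one] at rc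
    have A_mul : ∀ σ σ', sign σ = 1 → sign σ' = 1 → A (σ * σ') = A σ * A σ' := fun σ σ' h h' => by
      simp only [A, el_mul (mk σ h) (mk σ' h'), map_mul]
    have A_inv : ∀ σ, sign σ = 1 → A σ⁻¹ = (A σ)⁻¹ := fun σ h => by
      simp only [A, el_inv (mk σ h), map_inv]
    have eq2 : ∀ {f f' : SL(2, F) →* H}, (∀ x ∈ gens, f x = f' x) → ∀ x, f x = f' x := fun {f f'} h x => by
      have : f = f' := MonoidHom.eq_of_eqOn_dense hab2 (by
        rintro y (rfl | rfl) <;> exact h _ (by simp [gens]))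
      rw [this]
    have cg : ∀ x, A g' * f2 x * (A g')⁻¹ = f2 (swapAut x) :=
      eq2 (f := (MulAut.conj (A g')).toMonoidHom.comp f2) (f' := f2.comp swapAut) fun x hx => by
        have := rg x hx
        simpa [wA, wB, A, f2, mul_inv_eq_one] using this
    have swap2 : ∀ x : SL(2, F), swapAut (swapAut x) = x := fun x => by
      apply ext2 <;> simp [swapAut]
    have co : ∀ o ∈ s', (∀ r ∈ gens.map fun x => wA (cyc i2 i3 o) * wB x * (wA (cyc i2 i3 o))⁻¹ * (wB x)⁻¹,
        FreeGroup.lift (Sum.elim fA fB) r = 1) → ∀ x, Commute (A (cyc i2 i3 o)) (f2 x) := fun o _ h x => by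
      simp only [List.forall_mem_map] at h
      refine mul_inv_eq_iff_eq_mul.mp (eq2 (f := (MulAut.conj (A (cyc i2 i3 o))).toMonoidHom.comp f2) (f' := f2)
        (fun y hy => ?_) x)
      simpa [wA, wB, A, f2, mul_inv_eq_one] using h y hy
    -- the stabiliser of the pair centralises the block
    have stab : ∀ σ, sign σ = 1 → σ i0 = i0 → σ i1 = i1 → ∀ x, Commute (A σ) (f2 x) := by
      intro σ hσ h0 h1
      have hcl := mem_closure_cyc n23 s' hs2 hs3 σ hσ fun x hx => by
        have : ¬(x ≠ i0 ∧ x ≠ i1) := fun h => hx ((hs' x).mpr h)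
        by_cases e0 : x = i0
        · rw [e0, h0]
        · rw [not_not.mp fun e1 => this ⟨e0, e1⟩, h1]
      have hgx : ∀ i ∈ s', sign (cyc i2 i3 i) = 1 ∧ ∀ x, Commute (A (cyc i2 i3 i)) (f2 x) := by
        intro i hi
        obtain ⟨o, ho, ho'⟩ := opt_use (P := fun l : List _ => ∀ r ∈ l, FreeGroup.lift (Sum.elim fA fB) r = 1)
          (fun l hl r hr => ro r (List.mem_flatten.mpr ⟨l, hl, hr⟩)) ⟨i, hi⟩
        refine orbit_induction n23 hs2 hs3 hgab' htr' (fun σ => sign σ = 1 ∧ ∀ x, Commute (A σ) (f2 x)) ho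
          ⟨sign_cyc n23 (fun e => hs3 (e ▸ ho)), co o ho ho'⟩ (fun σ hσ => ?_) (fun σ hσ => ?_) i hi
        · exact ⟨by simp [hσ.1], fun x => by rw [A_inv σ hσ.1]; exact (hσ.2 x).inv_left⟩
        · refine ⟨by simp [hσ.1], fun x => ?_⟩
          rw [A_mul _ _ (by simp [hσ.1, hg']) (by simp [hg']), A_mul _ _ hg' hσ.1, A_inv g' hg']
          have := (hσ.2 (swapAut x)).map (MulAut.conj (A g')).toMonoidHom
          simp only [MulEquiv.coe_toMonoidHom, MulAut.conj_apply] at this
          rwa [cg, swap2] at this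
      have : sign σ = 1 ∧ ∀ x, Commute (A σ) (f2 x) := by
        clear hσ h0 h1
        induction hcl using Subgroup.closure_induction with
        | mem y hy => obtain ⟨i, hi, rfl⟩ := hy; exact hgx i hi
        | one => exact ⟨map_one _, fun x => by simp [A, el_one]⟩
        | mul y z _ _ hy hz =>
          exact ⟨by simp [hy.1, hz.1], fun x => by rw [A_mul _ _ hy.1 hz.1]; exact (hy.2 x).mul_left (hz.2 x)⟩
        | inv y _ hy => exact ⟨by simp [hy.1], fun x => by rw [A_inv y hy.1]; exact (hy.2 x).inv_left⟩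
      exact this.2
    have hsx : ∀ x, A s * f2 x * (A s)⁻¹ = f2 (swapAut x) := fun x => by
      have cgg := stab g hg.1 (fix01 g hg).1 (fix01 g hg).2 (swapAut x)
      have e : A s = (A g)⁻¹ * A g' := by
        rw [eq_inv_mul_iff_mul_eq, ← A_mul _ _ hg.1 hs]
      rw [e]
      calc (A g)⁻¹ * A g' * f2 x * ((A g)⁻¹ * A g')⁻¹
          = (A g)⁻¹ * (A g' * f2 x * (A g')⁻¹) * A g := by group
        _ = _ := by rw [cg, cgg.inv_left.eq]; group
    have htx : ∀ x y, Commute (f2 x) (A τ * f2 y * (A τ)⁻¹) := by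
      have τ2 : A τ * A τ = 1 := by
        rw [← A_mul _ _ hτ hτ]
        have : τ * τ = 1 := by
          refine Equiv.ext fun z => ?_
          simp only [τ, Perm.mul_apply, Perm.one_apply]
          by_cases h0 : z = i0
          · subst h0; simp [swap_apply_of_ne_of_ne n01 n03, swap_apply_of_ne_of_ne n12.symm n23]
          by_cases h2 : z = i2
          · subst h2; simp [swap_apply_of_ne_of_ne n12.symm n23, swap_apply_of_ne_of_ne n01 n03]
          by_cases h1 : z = i1
          · subst h1; simp [swap_apply_of_ne_of_ne n03.symm n23.symm, swap_apply_of_ne_of_ne n01.symm n12]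
          by_cases h3 : z = i3
          · subst h3; simp [swap_apply_of_ne_of_ne n03.symm n23.symm, swap_apply_of_ne_of_ne n01.symm n12]
          simp [swap_apply_of_ne_of_ne h1 h3, swap_apply_of_ne_of_ne h0 h2]
        rw [this]; simp [A, el_one]
      obtain ⟨taa, tab, tbb⟩ := rt
      simp only [wC, wA, wB, map_mul, map_inv, FreeGroup.lift_apply_of, Sum.elim_inl, Sum.elim_inr, mul_inv_eq_one] at taa tab tbb
      have tba : Commute (f2 b2) (A τ * f2 a2 * (A τ)⁻¹) := by
        have := ((show Commute (f2 a2) (A τ * f2 b2 * (A τ)⁻¹) from tab).map (MulAut.conj (A τ)).toMonoidHom).symm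
        simp only [MulEquiv.coe_toMonoidHom, MulAut.conj_apply] at this
        rwa [show A τ * (A τ * f2 b2 * (A τ)⁻¹) * (A τ)⁻¹ = (A τ * A τ) * f2 b2 * (A τ * A τ)⁻¹ by group, τ2,
          one_mul, inv_one, mul_one] at this
      have base : ∀ x ∈ gens, ∀ y ∈ gens, Commute (f2 x) (A τ * f2 y * (A τ)⁻¹) := by
        intro x hx y hy
        simp only [gens, List.mem_cons, List.not_mem_nil, or_false] at hx hy
        rcases hx with rfl | rfl <;> rcases hy with rfl | rfl
        exacts [taa, tab, tba, tbb]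
      intro x y
      exact ShortPresSpRels.gen_commute hab2 ((MulAut.conj (A τ)).toMonoidHom.comp f2) (f2 x)
        (fun y hy => (ShortPresSpRels.gen_commute hab2 f2 _ (fun x hx => (base x hx y hy).symm) x).symm) y
    -- the root elements
    have ex : ∀ i j : Fin N, i ≠ j → ∃ σ : Perm (Fin N), sign σ = 1 ∧ σ i0 = i ∧ σ i1 = j := by
      intro i j hij
      obtain ⟨l, hl1, hl2⟩ := third (by omega : 3 ≤ N) i j
      obtain ⟨σ, e0, e1, -⟩ := exists_perm3 n01 n02 n12 hij hl1.symm hl2.symm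
      rcases Int.units_eq_one_or (sign σ) with hσ | hσ
      · exact ⟨σ, hσ, e0, e1⟩
      · exact ⟨σ * swap i2 i3, by rw [map_mul, hσ, sign_swap n23]; rfl,
          by simp [swap_apply_of_ne_of_ne n02 n03, e0], by simp [swap_apply_of_ne_of_ne n12 n13, e1]⟩
    choose σf hσf using ex
    let X : Fin N → Fin N → F → H := fun i j r =>
      if h : i ≠ j then A (σf i j h) * f2 (u r) * (A (σf i j h))⁻¹ else 1
    have X_eq : ∀ σ, sign σ = 1 → ∀ r, A σ * f2 (u r) * (A σ)⁻¹ = X (σ i0) (σ i1) r := by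
      intro σ hσ r
      have hne : σ i0 ≠ σ i1 := σ.injective.ne n01
      simp only [X, dif_pos hne]
      obtain ⟨h1, h2, h3⟩ := hσf _ _ hne
      set σ' := σf _ _ hne
      have cz := stab (σ'⁻¹ * σ) (by simp [h1, hσ])
        (by rw [Perm.mul_apply, Perm.inv_def, Equiv.symm_apply_eq, h2])
        (by rw [Perm.mul_apply, Perm.inv_def, Equiv.symm_apply_eq, h3]) (u r)
      rw [A_mul _ _ (by simp [h1]) hσ, A_inv _ h1] at cz
      calc A σ * f2 (u r) * (A σ)⁻¹ = A σ' * (((A σ')⁻¹ * A σ) * f2 (u r)) * (A σ)⁻¹ := by group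
        _ = _ := by rw [cz.eq]; group
    have X_conj : ∀ σ, sign σ = 1 → ∀ a b, a ≠ b → ∀ r, A σ * X a b r * (A σ)⁻¹ = X (σ a) (σ b) r := by
      intro σ hσ a b hab r
      obtain ⟨h1, h2, h3⟩ := hσf a b hab
      have := X_eq (σ * σf a b hab) (by simp [hσ, h1]) r
      rw [Perm.mul_apply, Perm.mul_apply, h2, h3, A_mul _ _ hσ h1] at this
      rw [← this]
      simp only [X, dif_pos hab]; group
    have b01 : ∀ r, fB (x01 r) = X i0 i1 r := fun r => by
      have := X_eq 1 (map_one _) r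
      simp only [A, el_one, map_one, one_mul, inv_one, mul_one, Perm.one_apply] at this
      rw [← this, ← blk_u]; rfl
    have b10 : ∀ r, fB (x10 r) = X i1 i0 r := fun r => by
      rw [← blk_lo, ← swapAut_u, show fB (blk (swapAut (u r))) = f2 (swapAut (u r)) from rfl, ← hsx,
        show f2 (u r) = X i0 i1 r by rw [← b01, ← blk_u]; rfl, X_conj s hs _ _ n01, s0, s1]
    have cPc : ∀ {z : SL(3, F)} {a b : Fin N} {r : F}, a ≠ b → fB z = X a b r →
        fB (Pc * z * Pc⁻¹) = X (c a) (c b) r := fun hab hz => by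
      rw [map_mul, map_mul, map_inv, hz, rc]; exact X_conj c hc _ _ hab _
    have c0 : c i0 = i1 := cyc_a n01 n02.symm
    have c1 : c i1 = i2 := cyc_b n02.symm n12.symm
    have c2 : c i2 = i0 := cyc_i
    have b12 : ∀ r, fB (x12 r) = X i1 i2 r := fun r => by rw [← Pc_x01, cPc n01 (b01 r), c0, c1]
    have b20 : ∀ r, fB (x20 r) = X i2 i0 r := fun r => by rw [← Pc_x12, cPc n12 (b12 r), c1, c2]
    have b21 : ∀ r, fB (x21 r) = X i2 i1 r := fun r => by rw [← Pc_x10, cPc n01.symm (b10 r), c0, c1]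
    have b02 : ∀ r, fB (x02 r) = X i0 i2 r := fun r => by rw [← Pc_x21, cPc n12.symm (b21 r), c1, c2]
    let D : Data H N F :=
      { X := X
        three := by omega
        π := π
        π_X := fun i j hij r => by
          obtain ⟨h1, h2, h3⟩ := hσf i j hij
          simp only [X, dif_pos hij, map_mul, map_inv, A, f2, MonoidHom.comp_apply, hπA, hπB]
          show _ * j2 (u r) * _ = _
          rw [ju, ρconj _ h1 n01, h2, h3]
        comm := fun i j k l hij hkl hik hil hjk hjl r t => by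
          obtain ⟨σ, e0, e1, e2⟩ := exists_perm3 n01 n02 n12 hij hik hjk
          obtain ⟨σ', q0, q1, q2, q3⟩ : ∃ σ' : Perm (Fin N), σ' i0 = i ∧ σ' i1 = j ∧ σ' i2 = k ∧ σ' i3 = l := by
            refine ⟨swap (σ i3) l * σ, ?_, ?_, ?_, by simp⟩ <;> rw [Perm.mul_apply]
            · rw [e0, swap_apply_of_ne_of_ne (fun e => n03 (σ.injective (e0.trans e))) hil]
            · rw [e1, swap_apply_of_ne_of_ne (fun e => n13 (σ.injective (e1.trans e))) hjl]
            · rw [e2, swap_apply_of_ne_of_ne (fun e => n23 (σ.injective (e2.trans e))) hkl]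
          have hX23 : X i2 i3 t = A τ * f2 (u t) * (A τ)⁻¹ := by rw [X_eq τ hτ, τ0, τ1]
          have key : ∀ σ'' : Perm (Fin N), sign σ'' = 1 → ∀ x, σ'' i2 = k → σ'' i3 = l →
              A σ'' * f2 x * (A σ'')⁻¹ = X i j r → Commute (X i j r) (X k l t) := by
            intro σ'' h x hk hl hx
            rw [← hx, ← hk, ← hl, ← X_conj σ'' h _ _ n23, hX23]
            exact (htx x (u t)).map (MulAut.conj (A σ'')).toMonoidHom
          rcases Int.units_eq_one_or (sign σ') with h | h
          · exact key σ' h (u r) q2 q3 (by rw [X_eq σ' h, q0, q1])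
          · have h' : sign (σ' * swap i0 i1) = 1 := by rw [map_mul, h, sign_swap n01]; rfl
            refine key _ h' (lo r) (by simp [swap_apply_of_ne_of_ne n02.symm n12.symm, q2])
              (by simp [swap_apply_of_ne_of_ne n03.symm n13.symm, q3]) ?_
            rw [show f2 (lo r) = X i1 i0 r by rw [← b10, ← blk_lo]; rfl, X_conj _ h' _ _ n01.symm]
            simp [q0, q1]
        triple := fun i j l hij hjl hil => by
          obtain ⟨σ, e0, e1, e2⟩ := exists_perm3 n01 n02 n12 hij hil hjl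
          rcases Int.units_eq_one_or (sign σ) with h | h
          · refine ⟨(MulAut.conj (A σ)).toMonoidHom.comp fB, ?_, ?_, ?_, ?_, ?_, ?_⟩ <;> intro r <;>
              simp only [MonoidHom.comp_apply, MulEquiv.coe_toMonoidHom, MulAut.conj_apply]
            · rw [b01, X_conj σ h _ _ n01, e0, e1]
            · rw [b10, X_conj σ h _ _ n01.symm, e0, e1]
            · rw [b12, X_conj σ h _ _ n12, e1, e2]
            · rw [b21, X_conj σ h _ _ n12.symm, e1, e2]
            · rw [b02, X_conj σ h _ _ n02, e0, e2]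
            · rw [b20, X_conj σ h _ _ n02.symm, e0, e2]
          · have h' : sign (σ * swap i0 i1) = 1 := by rw [map_mul, h, sign_swap n01]; rfl
            have f0 : (σ * swap i0 i1) i0 = j := by simp [e1]
            have f1 : (σ * swap i0 i1) i1 = i := by simp [e0]
            have f2' : (σ * swap i0 i1) i2 = l := by simp [swap_apply_of_ne_of_ne n02.symm n12.symm, e2]
            refine ⟨((MulAut.conj (A (σ * swap i0 i1))).toMonoidHom.comp fB).comp swap3, ?_, ?_, ?_, ?_, ?_, ?_⟩ <;>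
              intro r <;> simp only [MonoidHom.comp_apply, MulEquiv.coe_toMonoidHom, MulAut.conj_apply, swap3_x01,
                swap3_x10, swap3_x12, swap3_x21, swap3_x02, swap3_x20]
            · rw [b10, X_conj _ h' _ _ n01.symm, f0, f1]
            · rw [b01, X_conj _ h' _ _ n01, f0, f1]
            · rw [b02, X_conj _ h' _ _ n02, f0, f2']
            · rw [b20, X_conj _ h' _ _ n02.symm, f0, f2']
            · rw [b12, X_conj _ h' _ _ n12, f1, f2']
            · rw [b21, X_conj _ h' _ _ n12.symm, f1, f2'] }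
    refine ShortPresChart.injective D ?_
    set M := D.roots Set.univ
    have hM : ∀ a b, a ≠ b → ∀ r, X a b r ∈ M := fun a b hab r =>
      mem_roots D (Q := Set.univ) (Set.mem_univ _) hab r
    have hB : ∀ z, fB z ∈ M := by
      let K : Subgroup SL(3, F) := M.comap fB
      have k01 : ∀ r, x01 r ∈ K := fun r => by show fB _ ∈ M; rw [b01]; exact hM _ _ n01 r
      have k10 : ∀ r, x10 r ∈ K := fun r => by show fB _ ∈ M; rw [b10]; exact hM _ _ n01.symm r
      have k12 : ∀ r, x12 r ∈ K := fun r => by show fB _ ∈ M; rw [b12]; exact hM _ _ n12 r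
      have k21 : ∀ r, x21 r ∈ K := fun r => by show fB _ ∈ M; rw [b21]; exact hM _ _ n12.symm r
      have kW : blk W ∈ K := by
        rw [W_eq, map_mul, map_mul, blk_u, blk_lo]; exact K.mul_mem (K.mul_mem (k01 _) (k10 _)) (k01 _)
      have kC : (Cm : SL(3, F)) ∈ K := by
        rw [show (Cm : SL(3, F)) = (x10 (-1) * x01 1 * x10 (-1)) * (x21 (-1) * x12 1 * x21 (-1)) by
          apply Subtype.ext
          simp [Cm, x10, x01, x21, x12, Matrix.SpecialLinearGroup.coe_mul, Matrix.mul_fin_three]]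
        exact K.mul_mem (K.mul_mem (K.mul_mem (k10 _) (k01 _)) (k10 _)) (K.mul_mem (K.mul_mem (k21 _) (k12 _)) (k21 _))
      exact fun z => (SL3PresModel.eq_top_of_mem K k01 kC kW ▸ Subgroup.mem_top z : z ∈ K)
    have hnorm : ∀ σ, sign σ = 1 → ∀ y ∈ M, A σ * y * (A σ)⁻¹ ∈ M := fun σ hσ =>
      conj_roots D _ M fun a b _ hab r => by
        show A σ * X a b r * _ ∈ M
        rw [X_conj σ hσ a b hab]; exact hM _ _ (σ.injective.ne hab) r
    have hAc : A c ∈ M := by
      show fA (el U c) ∈ M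
      rw [← rc]; exact hB _
    let sC : Finset (Fin N) := (Finset.univ.erase i0).erase i1
    have hcyc : ∀ i ∈ sC, sign (cyc i0 i1 i) = 1 ∧ A (cyc i0 i1 i) ∈ M := by
      intro i hi
      simp only [sC, Finset.mem_erase, Finset.mem_univ, and_true] at hi
      refine ⟨sign_cyc n01 hi.1, ?_⟩
      by_cases h2 : i = i2
      · subst h2; exact hAc
      · let σ := swap i2 i * swap i0 i1
        have hσ : sign σ = 1 := sw (Ne.symm h2) n01
        have e : σ * c * σ⁻¹ = (cyc i0 i1 i)⁻¹ := by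
          rw [conj_cyc, show σ i0 = i1 by simp [σ, swap_apply_of_ne_of_ne n12 hi.1.symm],
            show σ i1 = i0 by simp [σ, swap_apply_of_ne_of_ne n02 hi.2.symm],
            show σ i2 = i by simp [σ, swap_apply_of_ne_of_ne n02.symm n12.symm], cyc_swap n01 hi.2 hi.1]
        have : cyc i0 i1 i = (σ * c * σ⁻¹)⁻¹ := by rw [e, inv_inv]
        rw [this, A_inv _ (by simp [hσ, hc]), A_mul _ _ (by simp [hσ, hc]) (by simp [hσ]), A_mul _ _ hσ hc,
          A_inv σ hσ]
        exact M.inv_mem (hnorm σ hσ _ hAc)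
    rw [eq_top_iff, ← hgen, sup_le_iff]
    constructor
    · rintro _ ⟨σ, rfl⟩
      have hcl := mem_closure_cyc n01 sC (by simp [sC]) (by simp [sC]) σ.1 σ.2.1 fun x hx => by
        simp [pts, sC] at hx; tauto
      have : ∀ y ∈ Subgroup.closure (cyc i0 i1 '' (sC : Set (Fin N))), sign y = 1 ∧ A y ∈ M := by
        intro y hy
        induction hy using Subgroup.closure_induction with
        | mem z hz => obtain ⟨i, hi, rfl⟩ := hz; exact hcyc i hi
        | one => exact ⟨map_one _, by simp [A, el_one]⟩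
        | mul y z _ _ hy hz => exact ⟨by simp [hy.1, hz.1], by rw [A_mul _ _ hy.1 hz.1]; exact M.mul_mem hy.2 hz.2⟩
        | inv y _ hy => exact ⟨by simp [hy.1], by rw [A_inv y hy.1]; exact M.inv_mem hy.2⟩
      have := (this σ.1 hcl).2
      simpa [A, el_val] using this
    · rintro _ ⟨z, rfl⟩; exact hB z

/-- fifty-four relators for `SL(n, F)` -/
theorem short_sl (n : ℕ) (hn : 4 ≤ n) : Short SL(n, F) 54 := by
  obtain ⟨m, rfl⟩ : ∃ m, n = 3 + m := ⟨n - 3, by omega⟩
  obtain ⟨ρ, ι, E, hE, hgen, hsat, hinj⟩ := sl_data (F := F) m (by omega)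
  have hA : Short (altOn (Finset.univ : Finset (Fin (3 + m)))) 32 :=
    (short_alternating (3 + m) (by omega)).congr (MulEquiv.subgroupCongr (by ext g; simp [mem_altOn]))
  exact Short.mono (Short.amalgam hA (short_three F) ρ ι hgen E hsat hinj) (by omega)

end Cfsg.Agent.ShortPresSLSharp
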