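import Cfsg.Agent.Lib.ShortPresAlt
import Cfsg.Agent.Lib.ShortPresPrimes

/-!
Alternating and symmetric groups on three letters with seven relators.
-/

set_option autoImplicit false

universe u v w

namespace Cfsg.Agent.ShortPresSeven

open Equiv Equiv.Perm ShortPres ShortPresTracked ShortPresCarmichael ShortPresGlue
open Multiplicative (ofAdd)

variable {α : Type} [Fintype α] [DecidableEq α]

/-- the block on two letters with four relators, the second letter a prescribed cycle -/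
theorem block_four {a b : α} (hab : a ≠ b) (s : Finset α) (ha : a ∉ s) (hb : b ∉ s) (p : ℕ) [Fact p.Prime]
    (h2 : p ≠ 2) (hs : s.card = p) (o : α) (ho : o ∈ s) :
    ∃ (x : Fin 2 → altOn (pts a b s)) (R : List (FreeGroup (Fin 2))), R.length ≤ 4 ∧ Pres x R ∧
      (x 1 : Perm α) = cyc a b o := by
  classical
  haveI : NeZero p := ⟨(Fact.out : p.Prime).pos.ne'⟩
  have hp3 : 3 ≤ p := by have := (Fact.out : p.Prime).two_le; omega
  have hodd : Odd p := (Fact.out : p.Prime).odd_of_ne_two h2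
  obtain ⟨ζ, hζ⟩ := IsCyclic.exists_generator (α := (ZMod p)ˣ)
  have hz1 : (ζ : ZMod p) ≠ 1 := by
    intro h1
    have hc : Fintype.card (ZMod p)ˣ ≤ 1 := Fintype.card_le_one_iff.mpr fun x y => by
      obtain ⟨i, rfl⟩ := hζ x
      obtain ⟨j, rfl⟩ := hζ y
      simp [show ζ = 1 from Units.ext h1]
    rw [ZMod.card_units] at hc; omega
  let e0 : ZMod p ≃ {x // x ∈ s} := Fintype.equivOfCardEq (by rw [ZMod.card, Fintype.card_coe, hs])
  let e : ZMod p ≃ {x // x ∈ s} := e0.trans (swap (e0 0) ⟨o, ho⟩)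
  let v : ZMod p → α := fun r => (e r).1
  have v0 : v 0 = o := by simp [v, e]
  have vs : ∀ r, v r ∈ s := fun r => (e r).2
  have va : ∀ r, v r ≠ a := fun r h => ha (h ▸ vs r)
  have vb : ∀ r, v r ≠ b := fun r h => hb (h ▸ vs r)
  have vinj : Function.Injective v := fun r t h => e.injective (Subtype.ext h)
  let S := pts a b s
  let f : Perm (ZMod p) →* Perm α :=
    (Perm.ofSubtype : Perm {x // x ∈ s} →* Perm α).comp e.permCongrHom.toMonoidHom
  have f_v : ∀ σ r, f σ (v r) = v (σ r) := fun σ r => by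
    show Perm.ofSubtype (e.permCongr σ) (e r).1 = _
    rw [Perm.ofSubtype_apply_coe]; simp [v, Equiv.permCongr_apply]
  have f_fix : ∀ σ x, x ∉ s → f σ x = x := fun σ x hx => Perm.ofSubtype_apply_of_not_mem _ hx
  have f_sign : ∀ σ, sign (f σ) = sign σ := fun σ => by
    show sign (Perm.ofSubtype (e.permCongr σ)) = _
    rw [sign_ofSubtype, sign_permCongr]
  have S_fix : ∀ x, x ∉ S → x ∉ s ∧ x ≠ a ∧ x ≠ b := fun x hx => by
    simp only [S, Finset.mem_insert, not_or] at hx; exact ⟨hx.2.2, hx.1, hx.2.1⟩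
  let g0 : Perm (ZMod p) := Equiv.addRight 1
  have g0pow : ∀ n : ℕ, ∀ r, (g0 ^ n) r = r + n := by
    intro n
    induction n with
    | zero => simp
    | succ n ih => intro r; rw [pow_succ', Perm.mul_apply, ih]; simp [g0, add_assoc]
  have g0p : g0 ^ p = 1 := Equiv.ext fun r => by rw [g0pow]; simp
  have g0s : sign g0 = 1 := by
    have := congrArg sign g0p
    rw [map_pow, map_one] at this
    rcases Int.units_eq_one_or (sign g0) with h | h
    · exact h
    · rw [h, hodd.neg_one_pow] at this; exact absurd this (by decide)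
  let h0 : Perm (ZMod p) := Units.mulLeft ζ
  have h0pow : ∀ (n : ℕ) r, (h0 ^ n) r = (ζ : ZMod p) ^ n * r := by
    intro n
    induction n with
    | zero => simp
    | succ n ih => intro r; rw [pow_succ', Perm.mul_apply, ih]; simp [h0, pow_succ', mul_assoc]
  have hpow : ∀ r : ZMod p, r ≠ 0 → ∃ k : ℕ, (ζ : ZMod p) ^ k = r := fun r hr => by
    obtain ⟨k, hk⟩ := Submonoid.mem_powers_iff _ _ |>.mp
      (mem_powers_iff_mem_zpowers.mpr (hζ (Units.mk0 r hr)))
    exact ⟨k, by rw [← Units.val_pow_eq_pow_val, hk, Units.val_mk0]⟩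
  have h0s : sign h0 = -1 := by
    have hcyc : h0.IsCycle := by
      refine ⟨1, by simp [h0, hz1], fun y hy => ?_⟩
      have hy0 : y ≠ 0 := fun e => hy (by simp [h0, e])
      obtain ⟨k, hk⟩ := hpow y hy0
      exact ⟨(k : ℤ), by rw [zpow_natCast, h0pow, mul_one, hk]⟩
    have hsupp : h0.support = Finset.univ.erase 0 := by
      ext r
      simp only [mem_support, Finset.mem_erase, Finset.mem_univ, and_true, ne_eq]
      constructor
      · intro h e; exact h (by simp [h0, e])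
      · intro h e
        exact hz1 (mul_right_cancel₀ h (show (ζ : ZMod p) * r = 1 * r by simpa [h0] using e))
    rw [hcyc.sign, hsupp, Finset.card_erase_of_mem (Finset.mem_univ _), Finset.card_univ, ZMod.card,
      (Nat.Odd.sub_odd hodd odd_one).neg_one_pow]
  set G := f g0 with hG
  set Hm := f h0 * swap a b with hHm
  have mG : G ∈ altOn S := ⟨by rw [f_sign, g0s], fun x hx => f_fix _ x (S_fix x hx).1⟩
  have mH : Hm ∈ altOn S := ⟨by rw [map_mul, f_sign, h0s, sign_swap hab]; rfl, fun x hx => by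
    rw [Perm.mul_apply, swap_apply_of_ne_of_ne (S_fix x hx).2.1 (S_fix x hx).2.2, f_fix _ x (S_fix x hx).1]⟩
  have mC : ∀ r, cyc a b (v r) ∈ altOn S := fun r => cyc_mem hab hb (vs r)
  have Gfix : ∀ σ, f σ a = a ∧ f σ b = b := fun σ => ⟨f_fix σ a ha, f_fix σ b hb⟩
  have Hconj : ∀ r, Hm * cyc a b (v r) * Hm⁻¹ = (cyc a b (v ((ζ : ZMod p) * r)))⁻¹ := fun r => by
    rw [conj_cyc, show Hm a = b by simp [Hm, (Gfix h0).2], show Hm b = a by simp [Hm, (Gfix h0).1],
      show Hm (v r) = v ((ζ : ZMod p) * r) by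
        simp [Hm, swap_apply_of_ne_of_ne (va r) (vb r), f_v, h0],
      cyc_swap hab (va _) (vb _)]
  let cz : ZMod p → altOn S := fun r => el S (cyc a b (v r))
  have hcz : Subgroup.closure (Set.range cz) = ⊤ := by
    refine (Subgroup.eq_top_iff' _).mpr fun g => ?_
    have hg := mem_closure_cyc hab s ha hb g.1 g.2.1 g.2.2
    have e' : Subgroup.closure (cyc a b '' (s : Set α)) =
        (Subgroup.closure (Set.range cz)).map (altOn S).subtype := by
      rw [MonoidHom.map_closure]; congr 1; ext σ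
      constructor
      · rintro ⟨i, hi, rfl⟩
        refine ⟨cz (e.symm ⟨i, hi⟩), ⟨_, rfl⟩, ?_⟩
        show ((el S (cyc a b (v (e.symm ⟨i, hi⟩)))) : Perm α) = _
        rw [el_coe (mC _)]; simp [v]
      · rintro ⟨_, ⟨r, rfl⟩, rfl⟩; exact ⟨v r, vs r, (el_coe (mC r)).symm⟩
    rw [e'] at hg
    obtain ⟨g', hg', he⟩ := hg
    rwa [Subtype.ext he] at hg'
  choose wd hwd using exists_word hcz
  set σs : ZMod p := (1 - (ζ : ZMod p))⁻¹ with hσs
  have hσ0 : σs ≠ 0 := inv_ne_zero (sub_ne_zero.mpr (Ne.symm hz1))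
  have hσζ : σs * (ζ : ZMod p) = σs - 1 := by
    rw [hσs]; field_simp [sub_ne_zero.mpr (Ne.symm hz1)]; ring
  set sv : ℕ := σs.val with hsv
  have hsv1 : 1 ≤ sv := Nat.one_le_iff_ne_zero.mpr fun h => hσ0 ((ZMod.val_eq_zero σs).mp h)
  have hsvc : (sv : ZMod p) = σs := ZMod.natCast_zmod_val σs
  let X : Fin 2 → altOn S := ![el S G, cz 0]
  let gA : FreeGroup (Fin 2) := FreeGroup.of 0
  let gZ : FreeGroup (Fin 2) := FreeGroup.of 1
  let pA : ZMod p → FreeGroup (Fin 2) := fun r => gA ^ r.val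
  let wx : ZMod p → FreeGroup (Fin 2) := fun r => pA r * gZ * (pA r)⁻¹
  let WH : FreeGroup (Fin 2) := FreeGroup.lift wx (wd (el S Hm))
  let L : List (FreeGroup (Fin 2)) :=
    [gA ^ p * (gZ * gZ * gZ)⁻¹, WH * gA ^ sv * WH⁻¹ * (gA ^ (sv - 1))⁻¹, WH * gZ * WH⁻¹ * gZ,
      gZ * wx 1 * (gZ * wx 1)]
  have lA : FreeGroup.lift X gA = el S G := by simp [gA, X]
  have lZ : FreeGroup.lift X gZ = cz 0 := by simp [gZ, X]
  have cGpow : ∀ n : ℕ, ((el S G ^ n : altOn S) : Perm α) = f (g0 ^ n) := fun n => by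
    rw [Subgroup.coe_pow, el_coe mG, map_pow]
  have lwx : ∀ r, FreeGroup.lift X (wx r) = cz r := fun r => by
    refine Subtype.ext ?_
    simp only [wx, pA, map_mul, map_inv, map_pow, lA, lZ]
    simp only [Subgroup.coe_mul, Subgroup.coe_inv, cGpow, cz, el_coe (mC r), el_coe (mC 0)]
    rw [conj_cyc, (Gfix _).1, (Gfix _).2, f_v, g0pow]
    simp
  have lw : ∀ g, FreeGroup.lift X (FreeGroup.lift wx (wd g)) = g := fun g => by
    rw [map_word (FreeGroup.lift X) lwx, hwd]
  refine ⟨X, L, by simp [L], Pres.of_inj ?_ ?_ ?_, ?_⟩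
  · simp only [L, List.forall_mem_cons, List.not_mem_nil, false_imp_iff, implies_true, and_true, map_mul,
      map_inv, map_pow, lA, lZ, lwx, WH, lw]
    have vv : ∀ {x y : altOn S}, (x : Perm α) = y → x = y := fun h => Subtype.ext h
    refine ⟨vv ?_, vv ?_, vv ?_, vv ?_⟩
    · simp only [Subgroup.coe_mul, Subgroup.coe_inv, Subgroup.coe_one, cGpow, cz, el_coe (mC _),
        cyc_cube hab (va 0) (vb 0), g0p, map_one]
      simp
    · simp only [Subgroup.coe_mul, Subgroup.coe_inv, Subgroup.coe_one, el_coe mH, cGpow]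
      rw [mul_inv_eq_one, mul_inv_eq_iff_eq_mul]
      refine Equiv.ext fun x => ?_
      by_cases hx : x ∈ s
      · obtain ⟨r, rfl⟩ : ∃ r, v r = x := ⟨e.symm ⟨x, hx⟩, by simp [v]⟩
        simp only [Perm.mul_apply, hHm, swap_apply_of_ne_of_ne (va _) (vb _), f_v, g0pow, h0]
        congr 1
        simp only [Units.mulLeft_apply]
        rw [hsvc, Nat.cast_sub hsv1, hsvc, Nat.cast_one]
        linear_combination hσζ
      · have hfx : ∀ y, y ∉ s → ∀ σ, f σ y = y := fun y hy σ => f_fix σ y hy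
        have hswap : swap a b x ∉ s := by
          by_cases h1 : x = a
          · subst h1; simpa using hb
          by_cases h2 : x = b
          · subst h2; simpa using ha
          rwa [swap_apply_of_ne_of_ne h1 h2]
        simp only [Perm.mul_apply, hHm, hfx x hx, hfx _ hswap]
    · simp only [Subgroup.coe_mul, Subgroup.coe_inv, Subgroup.coe_one, el_coe mH, cz, el_coe (mC 0), Hconj,
        mul_zero, inv_mul_cancel]
    · simp only [Subgroup.coe_mul, Subgroup.coe_one, cz, el_coe (mC _)]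
      exact cyc_pair hab (va _) (vb _) (va _) (vb _) (fun h => zero_ne_one (vinj h))
  · rw [eq_top_iff, ← hcz, Subgroup.closure_le]
    rintro _ ⟨r, rfl⟩
    rw [← lwx, SetLike.mem_coe, ← FreeGroup.range_lift_eq_closure]
    exact ⟨_, rfl⟩
  · intro H _ y π hπ hgen hy
    set g := FreeGroup.lift y gA with hg
    set z := FreeGroup.lift y gZ with hz
    set h := FreeGroup.lift y WH with hh
    simp only [L, List.forall_mem_cons, List.not_mem_nil, false_imp_iff, implies_true, and_true, map_mul,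
      map_inv, map_pow, pA, wx, ← hg, ← hz, ← hh] at hy
    obtain ⟨hge, hhg, hhz, hp1'⟩ := hy
    rw [mul_inv_eq_one] at hge hhg
    have hyg : y 0 = g := by simp [g, gA]
    have hyz : y 1 = z := by simp [z, gZ]
    have ecomm : ∀ q : H, Commute (g ^ p) q := by
      intro q
      have hle : (⊤ : Subgroup H) ≤ Subgroup.centralizer {g ^ p} := by
        rw [← hgen, Subgroup.closure_le]
        rintro _ ⟨i, rfl⟩
        rw [SetLike.mem_coe, Subgroup.mem_centralizer_singleton_iff]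
        fin_cases i
        · show y 0 * g ^ p = g ^ p * y 0
          rw [hyg]; exact ((Commute.refl g).pow_right p).eq
        · show y 1 * g ^ p = g ^ p * y 1
          rw [hyz, hge]; group
      exact (Subgroup.mem_centralizer_singleton_iff.mp (hle (Subgroup.mem_top q))).symm
    have hgp : g ^ p = 1 := by
      have e1 := congrArg (fun q => q ^ p) hhg
      simp only [conj_pow, ← pow_mul] at e1
      rw [mul_comm sv, mul_comm (sv - 1), pow_mul, pow_mul, ((ecomm h).pow_left sv).symm.eq,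
        mul_inv_cancel_right] at e1
      have e2 : (g ^ p) ^ sv = (g ^ p) ^ (sv - 1) * g ^ p := by
        rw [← pow_succ]; congr 1; omega
      rw [e1] at e2
      exact (mul_left_cancel (a := (g ^ p) ^ (sv - 1)) ((mul_one _).trans e2)).symm
    have hz3 : z * z * z = 1 := by rw [← hge, hgp]
    have hzh : h * z * h⁻¹ = z⁻¹ := eq_inv_of_mul_eq_one_left hhz
    let φ : Multiplicative (ZMod p) →* H :=
      { toFun := fun r => g ^ (Multiplicative.toAdd r).val
        map_one' := by simp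
        map_mul' := fun r t => by rw [toAdd_mul, ZMod.val_add, ← pow_eq_pow_mod _ hgp, pow_add] }
    have φ_def : ∀ r : ZMod p, φ (ofAdd r) = g ^ r.val := fun r => rfl
    have φ_nat : ∀ n : ℕ, φ (ofAdd (n : ZMod p)) = g ^ n := fun n => by
      rw [φ_def, ZMod.val_natCast, ← pow_eq_pow_mod _ hgp]
    have hφs : ∀ n : ℕ, h * φ (ofAdd (σs * n)) * h⁻¹ = φ (ofAdd ((σs - 1) * n)) := fun n => by
      rw [← hsvc, ← Nat.cast_mul, φ_nat, show ((sv : ZMod p) - 1) * n = ((sv - 1) * n : ℕ) by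
        rw [Nat.cast_mul, Nat.cast_sub hsv1, Nat.cast_one], φ_nat, pow_mul, pow_mul, ← conj_pow, hhg]
    have hφ : ∀ r : ZMod p, h * φ (ofAdd r) * h⁻¹ = φ (ofAdd ((ζ : ZMod p) * r)) := fun r => by
      have := hφs (r * σs⁻¹).val
      rw [ZMod.natCast_zmod_val] at this
      rw [← hσζ, show σs * (r * σs⁻¹) = r by field_simp,
        show σs * (ζ : ZMod p) * (r * σs⁻¹) = (ζ : ZMod p) * r by field_simp] at this
      exact this
    let x : ZMod p → H := fun r => φ (ofAdd r) * z * (φ (ofAdd r))⁻¹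
    have x0 : x 0 = z := by simp [x]
    have hx : ∀ r, FreeGroup.lift y (wx r) = x r := fun r => by
      simp only [wx, pA, map_mul, map_inv, map_pow, ← hg, ← hz]; rfl
    have tr : ∀ t r, φ (ofAdd t) * x r * (φ (ofAdd t))⁻¹ = x (t + r) := fun t r => by
      simp only [x, ofAdd_add, map_mul]; group
    have mu : ∀ r, h * x r * h⁻¹ = (x ((ζ : ZMod p) * r))⁻¹ := fun r => by
      simp only [x, ← hφ]
      calc h * (φ (ofAdd r) * z * (φ (ofAdd r))⁻¹) * h⁻¹
          = (h * φ (ofAdd r) * h⁻¹) * (h * z * h⁻¹) * (h * φ (ofAdd r) * h⁻¹)⁻¹ := by group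
        _ = _ := by rw [hzh]; group
    have csq : ∀ k p' q : H, p' * q * (p' * q) = 1 →
        (k * p' * k⁻¹) * (k * q * k⁻¹) * ((k * p' * k⁻¹) * (k * q * k⁻¹)) = 1 := by
      intro k p' q e
      calc _ = k * (p' * q * (p' * q)) * k⁻¹ := by group
        _ = 1 := by rw [e]; group
    have sym : ∀ {p' q : H}, p'⁻¹ * q⁻¹ * (p'⁻¹ * q⁻¹) = 1 → p' * q * (p' * q) = 1 := by
      intro p' q h'
      have e : q * p' * (q * p') = 1 := by
        have := congrArg (fun x => x⁻¹) h'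
        simpa [mul_assoc] using this
      calc p' * q * (p' * q) = p' * (q * p' * (q * p')) * p'⁻¹ := by group
        _ = 1 := by rw [e]; group
    have p0 : ∀ r, r ≠ 0 → x 0 * x r * (x 0 * x r) = 1 := fun r hr => by
      obtain ⟨k, rfl⟩ := hpow r hr
      clear hr
      induction k with
      | zero => rw [pow_zero, x0]; exact hp1'
      | succ k ih =>
        have := csq h _ _ ih
        rw [mu, mu, mul_zero] at this
        rw [pow_succ']; exact sym this
    have pair : ∀ r t, r ≠ t → x r * x t * (x r * x t) = 1 := fun r t hne => by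
      have := csq (φ (ofAdd r)) _ _ (p0 (t - r) (sub_ne_zero.mpr (Ne.symm hne)))
      rwa [tr, tr, add_zero, add_sub_cancel] at this
    have cube : ∀ r, x r * x r * x r = 1 := fun r => by
      calc x r * x r * x r = φ (ofAdd r) * (z * z * z) * (φ (ofAdd r))⁻¹ := by simp only [x]; group
        _ = 1 := by rw [hz3]; group
    set M := Subgroup.closure (Set.range x) with hM
    have hnorm : ∀ t, ∀ q ∈ M, φ (ofAdd t) * q * (φ (ofAdd t))⁻¹ ∈ M := by
      intro t q hq
      induction hq using Subgroup.closure_induction with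
      | mem q hq => obtain ⟨r, rfl⟩ := hq; rw [tr]; exact Subgroup.subset_closure ⟨_, rfl⟩
      | one => simp
      | mul q q' _ _ h1 h2 =>
        rw [show φ (ofAdd t) * (q * q') * (φ (ofAdd t))⁻¹ =
          (φ (ofAdd t) * q * (φ (ofAdd t))⁻¹) * (φ (ofAdd t) * q' * (φ (ofAdd t))⁻¹) by group]
        exact M.mul_mem h1 h2
      | inv q _ h1 =>
        rw [show φ (ofAdd t) * q⁻¹ * (φ (ofAdd t))⁻¹ = (φ (ofAdd t) * q * (φ (ofAdd t))⁻¹)⁻¹ by group]
        exact M.inv_mem h1
    have hhM : h ∈ M := by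
      rw [hh]; simp only [WH]
      rw [map_word (FreeGroup.lift y) hx, hM, ← FreeGroup.range_lift_eq_closure]; exact ⟨_, rfl⟩
    have hgM : g ∈ M := by
      have hd : (ζ : ZMod p) - 1 ≠ 0 := sub_ne_zero.mpr hz1
      have h1 : φ (ofAdd ((ζ : ZMod p) - 1)) ∈ M := by
        have := M.mul_mem hhM (hnorm 1 _ (M.inv_mem hhM))
        rw [show h * (φ (ofAdd 1) * h⁻¹ * (φ (ofAdd 1))⁻¹) = (h * φ (ofAdd 1) * h⁻¹) * (φ (ofAdd 1))⁻¹ by group,
          hφ, mul_one, ← map_inv, ← ofAdd_neg, ← map_mul, ← ofAdd_add, ← sub_eq_add_neg] at this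
        exact this
      have h2 := M.pow_mem h1 ((ζ : ZMod p) - 1)⁻¹.val
      rw [← map_pow, ← ofAdd_nsmul, nsmul_eq_mul, ZMod.natCast_zmod_val, inv_mul_cancel₀ hd] at h2
      have := φ_nat 1
      rw [Nat.cast_one, pow_one] at this
      rwa [this] at h2
    have hgen' : M = ⊤ := by
      rw [eq_top_iff, ← hgen, Subgroup.closure_le]
      rintro _ ⟨i, rfl⟩
      fin_cases i
      · show y 0 ∈ M; rw [hyg]; exact hgM
      · show y 1 ∈ M; rw [hyz, ← x0]; exact Subgroup.subset_closure ⟨0, rfl⟩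
    have hπx : ∀ r, π (x r) = cz r := fun r => by rw [← hx, map_word π hπ, lwx]
    let y' : α → H := fun i => if hi : i ∈ s then x (e.symm ⟨i, hi⟩) else 1
    have y_eq : ∀ r, y' (v r) = x r := fun r => by simp [y', v, vs r]
    have y_ex : ∀ i ∈ s, ∃ r, v r = i := fun i hi => ⟨e.symm ⟨i, hi⟩, by simp [v]⟩
    refine (injective_iff_map_eq_one π).mpr fun q hq => eq_one_of_map hab y' ((altOn S).subtype.comp π) s ha hb
      (fun i hi => ?_) (fun i hi => ?_) (fun i hi j hj hij => ?_) q ?_ (by simp [hq])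
    · obtain ⟨r, rfl⟩ := y_ex i hi
      rw [y_eq]
      show ((π (x r) : altOn S) : Perm α) = _
      rw [hπx]; exact el_coe (mC r)
    · obtain ⟨r, rfl⟩ := y_ex i hi
      rw [y_eq]; exact cube r
    · obtain ⟨r, rfl⟩ := y_ex i hi
      obtain ⟨t, rfl⟩ := y_ex j hj
      rw [y_eq, y_eq]; exact pair r t fun h => hij (h ▸ rfl)
    · have hsub : Set.range x ⊆ y' '' (s : Set α) := by
        rintro _ ⟨r, rfl⟩; exact ⟨v r, vs r, y_eq r⟩
      exact Subgroup.closure_mono hsub (show q ∈ M by rw [hgen']; exact Subgroup.mem_top q)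
  · show ((cz 0 : altOn S) : Perm α) = _
    rw [el_coe (mC 0), v0]

/-- a long element which together with one cycle generates -/
theorem two_gen {a b : α} (hab : a ≠ b) (s : Finset α) (ha : a ∉ s) (hb : b ∉ s) {c : α} (hc : c ∈ s) (δ : ℤˣ) :
    ∃ u : Perm α, sign u = δ ∧ (∀ x, x ∉ pts a b s → u x = x) ∧ u b = c ∧ (u a = a ∨ u a = b) ∧
      ∀ i ∈ s, cyc a b i ∈ Subgroup.closure ({u, cyc a b c} : Set (Perm α)) := by
  classical
  obtain ⟨f, hf, hsupp⟩ := Finset.exists_cycleOn s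
  have fix : ∀ x, x ∉ s → f x = x := fun x hx => notMem_support.mp fun h => hx (hsupp h)
  set cl := f⁻¹ c with hcl
  have hfcl : f cl = c := by simp [cl]
  have hcls : cl ∈ s := by
    by_contra h
    have := fix cl h
    rw [hfcl] at this
    exact h (this ▸ hc)
  have cla : cl ≠ a := fun e => ha (e ▸ hcls)
  have clb : cl ≠ b := fun e => hb (e ▸ hcls)
  set g := f * swap b cl
  have gb : g b = c := by simp [g, hfcl]
  have gcl : g cl = b := by simp [g, fix b hb]
  have ga : g a = a := by simp [g, swap_apply_of_ne_of_ne hab cla.symm, fix a ha]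
  have gfix : ∀ x, x ∉ pts a b s → g x = x := fun x hx => by
    simp only [Finset.mem_insert, not_or] at hx
    simp [g, swap_apply_of_ne_of_ne hx.2.1 (fun e => hx.2.2 (e ▸ hcls)), fix x hx.2.2]
  obtain ⟨u, hu, hufix, hub, hua, hus⟩ : ∃ u : Perm α, sign u = δ ∧ (∀ x, x ∉ pts a b s → u x = x) ∧ u b = c ∧
      (u a = a ∨ u a = b) ∧ ∀ x ∈ s, x ≠ cl → u x = f x := by
    by_cases h : sign g = δ
    · exact ⟨g, h, gfix, gb, Or.inl ga, fun x hx hne => by
        simp [g, swap_apply_of_ne_of_ne (fun e : x = b => hb (e ▸ hx)) hne]⟩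
    · refine ⟨g * swap a cl, ?_, fun x hx => ?_, ?_, Or.inr (by simp [gcl]), fun x hx hne => ?_⟩
      · rw [map_mul, sign_swap cla.symm]
        rcases Int.units_eq_one_or (sign g) with e | e <;> rcases Int.units_eq_one_or δ with e' | e' <;>
          simp_all
      · have hx' := hx
        simp only [Finset.mem_insert, not_or] at hx'
        rw [Perm.mul_apply, swap_apply_of_ne_of_ne hx'.1 (fun e => hx'.2.2 (e ▸ hcls)), gfix x hx]
      · rw [Perm.mul_apply, swap_apply_of_ne_of_ne hab.symm clb.symm, gb]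
      · rw [Perm.mul_apply, swap_apply_of_ne_of_ne (fun e : x = a => ha (e ▸ hx)) hne]
        simp [g, swap_apply_of_ne_of_ne (fun e : x = b => hb (e ▸ hx)) hne]
  refine ⟨u, hu, hufix, hub, hua, ?_⟩
  set K := Subgroup.closure ({u, cyc a b c} : Set (Perm α))
  have hz : cyc a b c ∈ K := Subgroup.subset_closure (Or.inr rfl)
  have hu' : u ∈ K := Subgroup.subset_closure (Or.inl rfl)
  have hca : c ≠ a := fun e => ha (e ▸ hc)
  have hcb : c ≠ b := fun e => hb (e ▸ hc)
  have key : ∀ n : ℕ, (f ^ n) c ∈ s ∧ cyc a b ((f ^ n) c) ∈ K := by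
    intro n
    induction n with
    | zero => exact ⟨by simpa using hc, by simpa using hz⟩
    | succ n ih =>
      have hm : f ((f ^ n) c) ∈ s := Finset.mem_coe.mp (hf.1.mapsTo (Finset.mem_coe.mpr ih.1))
      rw [pow_succ', Perm.mul_apply]
      refine ⟨hm, ?_⟩
      set x := (f ^ n) c
      by_cases hx : x = cl
      · rw [hx, hfcl]; exact hz
      have hux := hus x ih.1 hx
      set y := f x
      have h1 : cyc (u a) c y ∈ K := by
        have := K.mul_mem (K.mul_mem hu' ih.2) (K.inv_mem hu')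
        rwa [conj_cyc, hub, hux] at this
      have hya : y ≠ a := fun e => ha (e ▸ hm)
      have hyb : y ≠ b := fun e => hb (e ▸ hm)
      have hyc : y ≠ c := by
        intro e
        apply hx
        rw [hcl, ← e]; simp [y]
      have z_a : cyc a b c a = b := cyc_a hab hca
      have z_b : cyc a b c b = c := cyc_b hca hcb
      have z_c : cyc a b c c = a := cyc_i
      have z_y : cyc a b c y = y := cyc_other hya hyb hyc
      have zi_a : (cyc a b c)⁻¹ a = c := by rw [Perm.inv_def, Equiv.symm_apply_eq, z_c]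
      have zi_b : (cyc a b c)⁻¹ b = a := by rw [Perm.inv_def, Equiv.symm_apply_eq, z_a]
      have zi_c : (cyc a b c)⁻¹ c = b := by rw [Perm.inv_def, Equiv.symm_apply_eq, z_b]
      have zi_y : (cyc a b c)⁻¹ y = y := by rw [Perm.inv_def, Equiv.symm_apply_eq, z_y]
      rcases hua with e | e <;> rw [e] at h1
      · have h2 := K.mul_mem (K.mul_mem hz h1) (K.inv_mem hz)
        rw [conj_cyc, z_a, z_c, z_y, cyc_swap hab hya hyb] at h2
        simpa using K.inv_mem h2
      · have h2 := K.mul_mem (K.mul_mem (K.inv_mem hz) h1) (K.inv_mem (K.inv_mem hz))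
        rwa [conj_cyc, zi_b, zi_c, zi_y] at h2
  intro i hi
  obtain ⟨n, -, rfl⟩ := hf.exists_pow_eq hc hi
  exact (key n).2

/-- the points of the glueing -/
structure Data (α : Type) [Fintype α] [DecidableEq α] where
  a : α
  b : α
  sA : Finset α
  k : ℕ
  ι : Fin 3 × Fin k ↪ α
  c : α
  hab : a ≠ b
  haA : a ∉ sA
  hbA : b ∉ sA
  h0 : ∀ i, ι (0, i) ∉ sA
  h1 : ∀ i, ι (1, i) ∈ sA
  h2 : ∀ i, ι (2, i) ∈ sA
  hiota : ∀ z, ι z ≠ a ∧ ι z ≠ b ∧ ι z ≠ c
  hc : c ∈ sA
  cov : ∀ x, x = a ∨ x = b ∨ x ∈ sA ∨ ∃ i, ι (0, i) = x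

namespace Data

variable (P : Data α)

/-- the permutations of the three rows -/
noncomputable def Φ : Perm (Fin 3) →* Perm α :=
  (Perm.viaEmbeddingHom P.ι).comp
    { toFun := fun π => Equiv.prodCongr π (Equiv.refl (Fin P.k))
      map_one' := Equiv.ext fun _ => rfl
      map_mul' := fun _ _ => Equiv.ext fun _ => rfl }

theorem Φ_iota (π : Perm (Fin 3)) (r : Fin 3) (i : Fin P.k) : P.Φ π (P.ι (r, i)) = P.ι (π r, i) := by
  simp only [Φ, MonoidHom.comp_apply, Perm.viaEmbeddingHom_apply, Perm.viaEmbedding_apply]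
  rfl

theorem Φ_fix (π : Perm (Fin 3)) (x : α) (hx : ∀ r i, P.ι (r, i) ≠ x) : P.Φ π x = x := by
  simp only [Φ, MonoidHom.comp_apply, Perm.viaEmbeddingHom_apply]
  exact Perm.viaEmbedding_apply_of_notMem _ _ _ fun ⟨⟨r, i⟩, h⟩ => hx r i h

theorem Φ_abc (π : Perm (Fin 3)) : P.Φ π P.a = P.a ∧ P.Φ π P.b = P.b ∧ P.Φ π P.c = P.c :=
  ⟨P.Φ_fix π _ fun r i => (P.hiota _).1, P.Φ_fix π _ fun r i => (P.hiota _).2.1,
    P.Φ_fix π _ fun r i => (P.hiota _).2.2⟩

/-- the two involutions -/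
noncomputable def τ : Perm α := P.Φ (swap 0 1)
/-- the two involutions -/
noncomputable def ρ : Perm α := P.Φ (swap 1 2)

/-- optional exchange of the pair -/
def w (e : Bool) : Perm α := if e then swap P.a P.b else 1

theorem w_sq (e : Bool) : P.w e * P.w e = 1 := by cases e <;> simp [w]

theorem w_comm (π : Perm (Fin 3)) (e : Bool) : Commute (P.Φ π) (P.w e) := by
  cases e
  · simp [w]
  · show P.Φ π * swap P.a P.b = swap P.a P.b * P.Φ π
    rw [Equiv.mul_swap_eq_swap_mul, (P.Φ_abc π).1, (P.Φ_abc π).2.1]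

theorem invol (π : Perm (Fin 3)) (hπ : π * π = 1) (e : Bool) : P.Φ π * P.w e * (P.Φ π * P.w e) = 1 := by
  rw [(P.w_comm π e).symm.mul_mul_mul_comm, ← map_mul, hπ, map_one, w_sq, one_mul]

theorem w_apply (e : Bool) (x : α) (hx : x ≠ P.a) (hx' : x ≠ P.b) : P.w e x = x := by
  cases e <;> simp [w, swap_apply_of_ne_of_ne hx hx']

/-- the exponent by which a cycle is changed -/
def ex (e : Bool) : ℤ := if e then -1 else 1

theorem ex_sq (e : Bool) : ex e * ex e = 1 := by cases e <;> rfl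

theorem conj_cyc' (π : Perm (Fin 3)) (e : Bool) (x : α) (hx : x ≠ P.a) (hx' : x ≠ P.b) :
    P.Φ π * P.w e * cyc P.a P.b x * (P.Φ π * P.w e)⁻¹ = cyc P.a P.b (P.Φ π x) ^ ex e := by
  rw [conj_cyc, Perm.mul_apply, Perm.mul_apply, Perm.mul_apply, P.w_apply e x hx hx']
  have n1 : P.Φ π x ≠ P.a := fun h => hx ((P.Φ π).injective (h.trans (P.Φ_abc π).1.symm))
  have n2 : P.Φ π x ≠ P.b := fun h => hx' ((P.Φ π).injective (h.trans (P.Φ_abc π).2.1.symm))
  cases e
  · simp [w, ex, (P.Φ_abc π).1, (P.Φ_abc π).2.1]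
  · simp [w, ex, (P.Φ_abc π).1, (P.Φ_abc π).2.1, cyc_swap P.hab n1 n2]

theorem sign_rows : sign P.ρ = sign P.τ := by
  have e : swap (1 : Fin 3) 2 = (swap 0 1 * swap 1 2) * swap 0 1 * (swap 0 1 * swap 1 2)⁻¹ := by decide
  rw [ρ, τ, e]
  simp [map_mul, mul_comm, mul_left_comm]

theorem hiota_c : P.c ≠ P.a ∧ P.c ≠ P.b :=
  ⟨fun e => P.haA (by rw [← e]; exact P.hc), fun e => P.hbA (by rw [← e]; exact P.hc)⟩

end Data

/-- the kernel of the glued group is trivial on the span of the cycles -/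
theorem span_eq (P : Data α) {H : Type} [Group H] (fK : altOn (pts P.a P.b P.sA) →* H) (T : H) (Pr : H →* Perm α)
    (eT eS : Bool) (hπK : ∀ g, Pr (fK g) = g) (hπT : Pr T = P.τ * P.w eT) (hT2 : T * T = 1)
    (hagree : ∀ x ∈ P.sA, (∀ i, P.ι (1, i) ≠ x) →
      T * fK (el _ (cyc P.a P.b x)) * T = fK (el _ (cyc P.a P.b x)) ^ Data.ex eT)
    (hsig : P.ρ * P.w eS ∈ altOn (pts P.a P.b P.sA))
    (hkey : ∀ i, fK (el _ (P.ρ * P.w eS)) * (T * fK (el _ (cyc P.a P.b (P.ι (1, i)))) * T) *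
      (fK (el _ (P.ρ * P.w eS)))⁻¹ = (T * fK (el _ (cyc P.a P.b (P.ι (1, i)))) * T) ^ Data.ex eS)
    (hgen : fK.range ⊔ Subgroup.closure {T} = ⊤) :
    ∃ M : Subgroup H, fK.range ≤ M ∧ (∀ q ∈ M, T * q * T ∈ M) ∧ (∀ q ∈ M, Pr q = 1 → q = 1) ∧
      (∀ q : H, q ∈ M ∨ q * T ∈ M) ∧ (∀ q ∈ M, sign (Pr q) = 1) := by
  classical
  set S := fK (el (pts P.a P.b P.sA) (P.ρ * P.w eS)) with hS
  let u : α → H := fun x => fK (el (pts P.a P.b P.sA) (cyc P.a P.b x))
  let y : α → H := fun x => if x ∈ P.sA then u x else (T * u (P.τ x) * T) ^ Data.ex eT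
  have cA : ∀ {x}, x ∈ P.sA → cyc P.a P.b x ∈ altOn (pts P.a P.b P.sA) := fun hx => cyc_mem P.hab P.hbA hx
  have yA : ∀ {x}, x ∈ P.sA → y x = u x := fun hx => if_pos hx
  have neA : ∀ {x}, x ∈ P.sA → x ≠ P.a ∧ x ≠ P.b := fun hx => ⟨fun e => P.haA (e ▸ hx), fun e => P.hbA (e ▸ hx)⟩
  have tauI : ∀ r i, P.τ (P.ι (r, i)) = P.ι (swap 0 1 r, i) := fun r i => P.Φ_iota _ r i
  have rhoI : ∀ r i, P.ρ (P.ι (r, i)) = P.ι (swap 1 2 r, i) := fun r i => P.Φ_iota _ r i
  have y0 : ∀ i, y (P.ι (0, i)) = (T * u (P.ι (1, i)) * T) ^ Data.ex eT := fun i => by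
    simp only [y, if_neg (P.h0 i), tauI, swap_apply_left]
  have cT : ∀ (q : H) (z : ℤ), T * q ^ z * T = (T * q * T) ^ z := fun q z => by
    have eT' : T⁻¹ = T := inv_eq_of_mul_eq_one_right hT2
    have h := (conj_zpow (i := z) (a := T) (b := q))
    rw [eT'] at h; exact h.symm
  have TT : ∀ q : H, T * (T * q * T) * T = q := fun q => by
    rw [show T * (T * q * T) * T = (T * T) * q * (T * T) by group, hT2, one_mul, mul_one]
  have piu : ∀ {x}, x ∈ P.sA → Pr (u x) = cyc P.a P.b x := fun hx => by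
    rw [hπK, el_coe (cA hx)]
  have tinv : (P.τ * P.w eT)⁻¹ = P.τ * P.w eT := inv_eq_of_mul_eq_one_right (P.invol _ (swap_mul_self _ _) _)
  have piy : ∀ x, x ∈ P.sA ∨ (∃ i, P.ι (0, i) = x) → Pr (y x) = cyc P.a P.b x := by
    rintro x (hx | ⟨i, rfl⟩)
    · rw [yA hx, piu hx]
    · rw [y0, map_zpow, map_mul, map_mul, hπT, piu (P.h1 i)]
      conv_lhs => arg 1; arg 2; rw [← tinv]
      rw [show P.τ = P.Φ (swap 0 1) from rfl, P.conj_cyc' _ _ _ (neA (P.h1 i)).1 (neA (P.h1 i)).2,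
        ← zpow_mul, Data.ex_sq, zpow_one, P.Φ_iota]
      simp
  -- moving by the two involutions
  have Ty : ∀ x, x ∈ P.sA ∨ (∃ i, P.ι (0, i) = x) →
      ∃ x', (x' ∈ P.sA ∨ ∃ i, P.ι (0, i) = x') ∧ T * y x * T = y x' ^ Data.ex eT := by
    rintro x (hx | ⟨i, rfl⟩)
    · by_cases hd : ∃ i, P.ι (1, i) = x
      · obtain ⟨i, rfl⟩ := hd
        refine ⟨P.ι (0, i), Or.inr ⟨i, rfl⟩, ?_⟩
        rw [yA hx, y0, ← zpow_mul, Data.ex_sq, zpow_one]
      · exact ⟨x, Or.inl hx, by rw [yA hx]; exact hagree x hx fun i e => hd ⟨i, e⟩⟩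
    · refine ⟨P.ι (1, i), Or.inl (P.h1 i), ?_⟩
      rw [y0, cT, TT, yA (P.h1 i)]
  have Sy0 : ∀ i, S * y (P.ι (0, i)) * S⁻¹ = y (P.ι (0, i)) ^ Data.ex eS := fun i => by
    rw [y0, ← conj_zpow, hkey i, ← zpow_mul, ← zpow_mul, mul_comm]
  have Su : ∀ i, S * y (P.ι (1, i)) * S⁻¹ = y (P.ι (2, i)) ^ Data.ex eS := fun i => by
    rw [yA (P.h1 i), yA (P.h2 i), hS]
    show fK _ * fK _ * (fK _)⁻¹ = fK _ ^ _
    rw [← map_inv, ← map_mul, ← map_mul, ← map_zpow]
    congr 1
    refine Subtype.ext ?_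
    rw [Subgroup.coe_mul, Subgroup.coe_mul, Subgroup.coe_inv, Subgroup.coe_zpow, el_coe hsig, el_coe (cA (P.h1 i)),
      el_coe (cA (P.h2 i)), show P.ρ = P.Φ (swap 1 2) from rfl, P.conj_cyc' _ _ _ (neA (P.h1 i)).1 (neA (P.h1 i)).2,
      P.Φ_iota]
    simp
  have pairA : ∀ {x z}, x ∈ P.sA → z ∈ P.sA → x ≠ z → u x * u z * (u x * u z) = 1 := fun {x z} hx hz hne => by
    simp only [u, ← map_mul, ← el_mul (cA hx) (cA hz), ← el_mul (mul_mem (cA hx) (cA hz)) (mul_mem (cA hx) (cA hz))]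
    rw [cyc_pair P.hab (neA hx).1 (neA hx).2 (neA hz).1 (neA hz).2 hne, el_one, map_one]
  have cubeA : ∀ {x}, x ∈ P.sA → u x * u x * u x = 1 := fun {x} hx => by
    simp only [u, ← map_mul, ← el_mul (cA hx) (cA hx), ← el_mul (mul_mem (cA hx) (cA hx)) (cA hx)]
    rw [cyc_cube P.hab (neA hx).1 (neA hx).2, el_one, map_one]
  have sym : ∀ {p q : H}, p * q * (p * q) = 1 → q * p * (q * p) = 1 := fun {p q} h => by
    calc q * p * (q * p) = p⁻¹ * (p * q * (p * q)) * p := by group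
      _ = 1 := by rw [h]; group
  have csq : ∀ (k p q : H) (z : ℤ), z = 1 ∨ z = -1 → p * q * (p * q) = 1 →
      (k * p * k⁻¹) ^ z * (k * q * k⁻¹) ^ z * ((k * p * k⁻¹) ^ z * (k * q * k⁻¹) ^ z) = 1 := by
    intro k p q z hz e
    rcases hz with rfl | rfl
    · simp only [zpow_one]
      calc _ = k * (p * q * (p * q)) * k⁻¹ := by group
        _ = 1 := by rw [e]; group
    · simp only [zpow_neg_one]
      calc _ = k * (q * p * (q * p))⁻¹ * k⁻¹ := by group
        _ = 1 := by rw [sym e]; group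
  have exc : ∀ e : Bool, Data.ex e = 1 ∨ Data.ex e = -1 := fun e => by cases e <;> simp [Data.ex]
  have Tinv : T⁻¹ = T := inv_eq_of_mul_eq_one_right hT2
  -- the pairs meeting the new points
  have pairO : ∀ x z, (x ∈ P.sA ∧ ∀ i, P.ι (1, i) ≠ x) ∨ (∃ i, P.ι (0, i) = x) → (∃ i, P.ι (0, i) = z) → x ≠ z →
      y x * y z * (y x * y z) = 1 := by
    rintro x z hx ⟨j, rfl⟩ hne
    obtain ⟨x', hx', e, hne'⟩ : ∃ x', x' ∈ P.sA ∧ y x = (T * u x' * T) ^ Data.ex eT ∧ x' ≠ P.ι (1, j) := by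
      rcases hx with ⟨hx, hx1⟩ | ⟨i, rfl⟩
      · exact ⟨x, hx, by rw [hagree x hx hx1, ← zpow_mul, Data.ex_sq, zpow_one, yA hx], fun e => hx1 j e.symm⟩
      · refine ⟨P.ι (1, i), P.h1 i, y0 i, fun e => hne ?_⟩
        have := P.ι.injective e
        simp only [Prod.mk.injEq, true_and] at this
        rw [this]
    have := csq T _ _ (Data.ex eT) (exc eT) (pairA hx' (P.h1 j) hne')
    rw [Tinv] at this
    rw [e, y0]; exact this
  have pairD : ∀ i j, y (P.ι (1, i)) * y (P.ι (0, j)) * (y (P.ι (1, i)) * y (P.ι (0, j))) = 1 := fun i j => by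
    have h0 := pairO (P.ι (2, i)) (P.ι (0, j)) (Or.inl ⟨P.h2 i, fun l e => by simpa using P.ι.injective e⟩)
      ⟨j, rfl⟩ (fun e => by simpa using P.ι.injective e)
    have c1 : y (P.ι (2, i)) = (S * y (P.ι (1, i)) * S⁻¹) ^ Data.ex eS := by
      rw [Su, ← zpow_mul, Data.ex_sq, zpow_one]
    have c2 : y (P.ι (0, j)) = (S * y (P.ι (0, j)) * S⁻¹) ^ Data.ex eS := by
      rw [Sy0, ← zpow_mul, Data.ex_sq, zpow_one]
    rw [c1, c2] at h0
    rcases exc eS with e | e <;> rw [e] at h0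
    · simp only [zpow_one] at h0
      set p := y (P.ι (1, i))
      set q := y (P.ι (0, j))
      calc p * q * (p * q) = S⁻¹ * (S * p * S⁻¹ * (S * q * S⁻¹) * (S * p * S⁻¹ * (S * q * S⁻¹))) * S := by group
        _ = 1 := by rw [h0]; group
    · simp only [zpow_neg_one] at h0
      set p := y (P.ι (1, i))
      set q := y (P.ι (0, j))
      refine sym ?_
      calc q * p * (q * p)
          = (S⁻¹ * ((S * p * S⁻¹)⁻¹ * (S * q * S⁻¹)⁻¹ * ((S * p * S⁻¹)⁻¹ * (S * q * S⁻¹)⁻¹)) * S)⁻¹ := by group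
        _ = 1 := by rw [h0]; group
  have pairAll : ∀ x z, (x ∈ P.sA ∨ ∃ i, P.ι (0, i) = x) → (∃ i, P.ι (0, i) = z) → x ≠ z →
      y x * y z * (y x * y z) = 1 := by
    intro x z hx hz hne
    by_cases hd : ∃ i, P.ι (1, i) = x
    · obtain ⟨i, rfl⟩ := hd
      obtain ⟨j, rfl⟩ := hz
      exact pairD i j
    · refine pairO x z ?_ hz hne
      rcases hx with hx | hx
      · exact Or.inl ⟨hx, fun i e => hd ⟨i, e⟩⟩
      · exact Or.inr hx
  let s : Finset α := (Finset.univ.erase P.a).erase P.b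
  have hsa : P.a ∉ s := by simp [s]
  have hsb : P.b ∉ s := by simp [s]
  have hs : ∀ x ∈ s, x ∈ P.sA ∨ ∃ i, P.ι (0, i) = x := fun x hx => by
    simp only [s, Finset.mem_erase, Finset.mem_univ, and_true] at hx
    rcases P.cov x with h | h | h | h
    exacts [absurd h hx.2, absurd h hx.1, Or.inl h, Or.inr h]
  have hin : ∀ x, (x ∈ P.sA ∨ ∃ i, P.ι (0, i) = x) → x ∈ s := by
    rintro x (hx | ⟨i, rfl⟩) <;> simp only [s, Finset.mem_erase, Finset.mem_univ, and_true]
    exacts [⟨(neA hx).2, (neA hx).1⟩, ⟨(P.hiota _).2.1, (P.hiota _).1⟩]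
  set M := Subgroup.closure (y '' (s : Set α)) with hM
  have hK : fK.range ≤ M := by
    rintro _ ⟨g, rfl⟩
    have h := mem_closure_cyc P.hab P.sA P.haA P.hbA g.1 g.2.1 g.2.2
    have : ∀ σ ∈ Subgroup.closure (cyc P.a P.b '' (P.sA : Set α)), σ ∈ altOn (pts P.a P.b P.sA) ∧ fK (el _ σ) ∈ M := by
      intro σ hσ
      induction hσ using Subgroup.closure_induction with
      | mem x hx =>
        obtain ⟨i, hi, rfl⟩ := hx
        refine ⟨cA hi, Subgroup.subset_closure ?_⟩
        exact ⟨i, hin i (Or.inl hi), yA hi⟩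
      | one => exact ⟨one_mem _, by rw [el_one, map_one]; exact M.one_mem⟩
      | mul x z _ _ hx hz => exact ⟨mul_mem hx.1 hz.1, by rw [el_mul hx.1 hz.1, map_mul]; exact M.mul_mem hx.2 hz.2⟩
      | inv x _ hx => exact ⟨inv_mem hx.1, by rw [el_inv hx.1, map_inv]; exact M.inv_mem hx.2⟩
    simpa [el_val] using (this g.1 h).2
  have hTM : ∀ q ∈ M, T * q * T ∈ M := by
    intro q hq
    induction hq using Subgroup.closure_induction with
    | mem q hq =>
      obtain ⟨x, hx, rfl⟩ := hq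
      obtain ⟨x', hx', e⟩ := Ty x (hs x hx)
      rw [e]; exact M.zpow_mem (Subgroup.subset_closure ⟨x', hin x' hx', rfl⟩) _
    | one => rw [mul_one, hT2]; exact M.one_mem
    | mul q q' _ _ h1 h2 =>
      rw [show T * (q * q') * T = (T * q * T⁻¹) * (T * q' * T) by group, Tinv]; exact M.mul_mem h1 h2
    | inv q _ h1 =>
      rw [show T * q⁻¹ * T = (T⁻¹ * q * T⁻¹)⁻¹ by group, Tinv]; exact M.inv_mem h1
  refine ⟨M, hK, hTM, fun q hq h1 => ?_, ?_, fun q hq => ?_⟩
  rotate_right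
  · induction hq using Subgroup.closure_induction with
    | mem q hq =>
      obtain ⟨i, hi, rfl⟩ := hq
      rw [piy i (hs i hi)]
      refine sign_cyc P.hab fun e => ?_
      simp [s] at hi; tauto
    | one => simp
    | mul q q' _ _ h1 h2 => rw [map_mul, map_mul, h1, h2, one_mul]
    | inv q _ h1 => rw [map_inv, map_inv, h1, inv_one]
  · refine eq_one_of_map P.hab y Pr s hsa hsb (fun i hi => piy i (hs i hi)) (fun i hi => ?_)
      (fun i hi j hj hij => ?_) q hq h1
    · rcases hs i hi with h | ⟨l, rfl⟩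
      · rw [yA h]; exact cubeA h
      · rw [y0]
        set p := T * u (P.ι (1, l)) * T
        have hp : p * p * p = 1 := by
          show T * u _ * T * (T * u _ * T) * (T * u _ * T) = 1
          rw [show ∀ w : H, T * w * T * (T * w * T) * (T * w * T) = T * w * (T * T) * w * (T * T) * w * T from
            fun w => by group, hT2, mul_one, mul_one,
            show ∀ w : H, T * w * w * w * T = T * (w * w * w) * T from fun w => by group, cubeA (P.h1 l), mul_one, hT2]
        rcases exc eT with e | e <;> rw [e]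
        · rw [zpow_one]; exact hp
        · rw [zpow_neg_one, show p⁻¹ * p⁻¹ * p⁻¹ = (p * p * p)⁻¹ by group, hp, inv_one]
    · rcases hs i hi with hiA | hiD <;> rcases hs j hj with hjA | hjD
      · rw [yA hiA, yA hjA]; exact pairA hiA hjA hij
      · exact pairAll i j (Or.inl hiA) hjD hij
      · exact sym (pairAll j i (Or.inl hjA) hiD (Ne.symm hij))
      · exact pairAll i j (Or.inr hiD) hjD hij
  · intro q
    have : q ∈ Subgroup.closure ((fK.range : Set H) ∪ {T}) := by
      rw [Subgroup.closure_union, Subgroup.closure_eq, hgen]; exact Subgroup.mem_top q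
    induction this using Subgroup.closure_induction with
    | mem q hq =>
      rcases hq with hq | rfl
      · exact Or.inl (hK hq)
      · exact Or.inr (by rw [hT2]; exact M.one_mem)
    | one => exact Or.inl M.one_mem
    | mul q q' _ _ h1 h2 =>
      rcases h1 with h1 | h1 <;> rcases h2 with h2 | h2
      · exact Or.inl (M.mul_mem h1 h2)
      · exact Or.inr (by rw [mul_assoc]; exact M.mul_mem h1 h2)
      · refine Or.inr ?_
        rw [show q * q' * T = (q * T) * (T⁻¹ * q' * T) by group, Tinv]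
        exact M.mul_mem h1 (hTM _ h2)
      · refine Or.inl ?_
        rw [show q * q' = (q * T) * (T⁻¹ * (q' * T) * T⁻¹) by group, Tinv]
        exact M.mul_mem h1 (hTM _ h2)
    | inv q _ h1 =>
      rcases h1 with h1 | h1
      · exact Or.inl (M.inv_mem h1)
      · refine Or.inr ?_
        rw [show q⁻¹ * T = T * (q * T)⁻¹ * T by group]
        exact hTM _ (M.inv_mem h1)

end Cfsg.Agent.ShortPresSeven
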