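import Cfsg.Agent.Lib.ShortPresSevenMain
import Cfsg.Agent.Lib.CoxeterTypeA

/-!
Three letters and seven relators for the alternating and symmetric groups of degree at least five,
and the small degrees.
-/

set_option autoImplicit false

universe u v

namespace Cfsg.Agent.ShortPresSeven

open Equiv Equiv.Perm ShortPres ShortPresTracked ShortPresCarmichael ShortPresGlue

/-- transport of a presentation -/
theorem pres_congr {G : Type u} [Group G] {H : Type v} [Group H] {ι : Type} {x : ι → G} {R : List (FreeGroup ι)}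
    (hP : Pres x R) (e : G ≃* H) : Pres (fun i => e (x i)) R := by
  refine ⟨fun r hr => ?_, ?_, fun {K} _ y hy => ?_⟩
  · rw [← map_word e.toMonoidHom (x := x) (y := fun i => e (x i)) (fun _ => rfl), hP.sat r hr, map_one]
  · rw [show Set.range (fun i => e (x i)) = e.toMonoidHom '' Set.range x by ext; simp,
      ← MonoidHom.map_closure, hP.gen, Subgroup.map_top_of_surjective _ e.surjective]
  · obtain ⟨f, hf⟩ := hP.univ y hy
    exact ⟨f.comp e.symm.toMonoidHom, fun i => by simp [hf]⟩

/-- the presented group, with the images of the letters -/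
theorem pres_presented {G : Type u} [Group G] {k : ℕ} {x : Fin k → G} {R : List (FreeGroup (Fin k))}
    (hP : Pres x R) {N : ℕ} (hN : R.length ≤ N) :
    ∃ rels : Finset (FreeGroup (Fin k)), rels.card ≤ N ∧
      ∃ e : PresentedGroup (↑rels : Set (FreeGroup (Fin k))) ≃* G, ∀ i, e (PresentedGroup.of i) = x i := by
  classical
  refine ⟨R.toFinset, (List.toFinset_card_le R).trans hN, ?_⟩
  set S : Set (FreeGroup (Fin k)) := ↑R.toFinset
  let π : PresentedGroup S →* G := PresentedGroup.toGroup (f := x) fun r hr => hP.sat r (by simpa [S] using hr)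
  have e : FreeGroup.lift (fun i => (PresentedGroup.of i : PresentedGroup S)) = PresentedGroup.mk S :=
    FreeGroup.ext_hom _ _ fun i => by simp [PresentedGroup.of]
  obtain ⟨f, hf⟩ := hP.univ (H := PresentedGroup S) PresentedGroup.of fun r hr => by
    rw [e]; exact PresentedGroup.one_of_mem (by simpa [S] using hr)
  refine ⟨MonoidHom.toMulEquiv π f (PresentedGroup.ext fun i => ?_) ?_, fun i => ?_⟩
  · simp only [MonoidHom.comp_apply, π, PresentedGroup.toGroup.of, hf, MonoidHom.id_apply]
  · refine MonoidHom.eq_of_eqOn_dense hP.gen ?_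
    rintro _ ⟨i, rfl⟩
    simp only [MonoidHom.comp_apply, hf, π, PresentedGroup.toGroup.of, MonoidHom.id_apply]
  · show π (PresentedGroup.of i) = x i
    exact PresentedGroup.toGroup.of _

/-- change to two letters, two further relators -/
theorem pres_pair {G : Type u} [Group G] {κ : Type} {x : κ → G} {R : List (FreeGroup κ)} (hP : Pres x R) (a b : G)
    (hab : Subgroup.closure ({a, b} : Set G) = ⊤) :
    ∃ R' : List (FreeGroup (Fin 2)), R'.length ≤ R.length + 2 ∧ Pres ![a, b] R' := by
  have hab' : Subgroup.closure (Set.range ![a, b]) = ⊤ := by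
    rw [Matrix.range_cons, Matrix.range_cons, Matrix.range_empty, Set.union_empty, Set.singleton_union]
    exact hab
  choose w hw using fun i => exists_word hab' (x i)
  choose W hW using exists_word hP.gen
  let Φ : FreeGroup κ →* FreeGroup (Fin 2) := FreeGroup.lift w
  have hrw : ∀ r, FreeGroup.lift ![a, b] (Φ r) = FreeGroup.lift x r := fun r =>
    map_word (FreeGroup.lift ![a, b]) hw r
  refine ⟨R.map Φ ++ [(FreeGroup.of 0)⁻¹ * Φ (W a), (FreeGroup.of 1)⁻¹ * Φ (W b)], by simp,
    fun r hr => ?_, hab', fun {H} _ y hy => ?_⟩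
  · simp only [List.mem_append, List.mem_map, List.mem_cons, List.not_mem_nil, or_false] at hr
    rcases hr with ⟨r, hr, rfl⟩ | rfl | rfl
    · rw [hrw]; exact hP.sat r hr
    · simp [hrw, hW]
    · simp [hrw, hW]
  · have ey : ∀ r, FreeGroup.lift y (Φ r) = FreeGroup.lift (fun i => FreeGroup.lift y (w i)) r := fun r =>
      map_word (FreeGroup.lift y) (fun _ => rfl) r
    obtain ⟨f, hf⟩ := hP.univ (fun i => FreeGroup.lift y (w i)) fun r hr => by
      rw [← ey]; exact hy _ (List.mem_append_left _ (List.mem_map_of_mem hr))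
    have fw : ∀ g, f g = FreeGroup.lift y (Φ (W g)) := fun g => by rw [ey, ← map_word f hf, hW]
    have h0 := hy ((FreeGroup.of 0)⁻¹ * Φ (W a)) (by simp)
    have h1 := hy ((FreeGroup.of 1)⁻¹ * Φ (W b)) (by simp)
    rw [map_mul, map_inv, inv_mul_eq_one, FreeGroup.lift_apply_of, ← fw] at h0 h1
    refine ⟨f, fun i => ?_⟩
    fin_cases i
    · exact h0.symm
    · exact h1.symm

/-- change to two letters, one of them old, with one further relator -/
theorem pres_keep {G : Type u} [Group G] {κ : Type} {x : κ → G} {R : List (FreeGroup κ)} (hP : Pres x R) (i₀ : κ)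
    (b : G) (hab : Subgroup.closure ({x i₀, b} : Set G) = ⊤) :
    ∃ R' : List (FreeGroup (Fin 2)), R'.length ≤ R.length + 1 ∧ Pres ![x i₀, b] R' := by
  classical
  have hab' : Subgroup.closure (Set.range ![x i₀, b]) = ⊤ := by
    rw [Matrix.range_cons, Matrix.range_cons, Matrix.range_empty, Set.union_empty, Set.singleton_union]
    exact hab
  choose w₁ hw₁ using fun i => exists_word hab' (x i)
  let w : κ → FreeGroup (Fin 2) := fun i => if i = i₀ then FreeGroup.of 0 else w₁ i
  have hw : ∀ i, FreeGroup.lift ![x i₀, b] (w i) = x i := fun i => by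
    by_cases h : i = i₀
    · subst h; simp [w]
    · simp [w, h, hw₁]
  choose W hW using exists_word hP.gen
  let Φ : FreeGroup κ →* FreeGroup (Fin 2) := FreeGroup.lift w
  have hrw : ∀ r, FreeGroup.lift ![x i₀, b] (Φ r) = FreeGroup.lift x r := fun r =>
    map_word (FreeGroup.lift ![x i₀, b]) hw r
  refine ⟨R.map Φ ++ [(FreeGroup.of 1)⁻¹ * Φ (W b)], by simp, fun r hr => ?_, hab', fun {H} _ y hy => ?_⟩
  · simp only [List.mem_append, List.mem_map, List.mem_cons, List.not_mem_nil, or_false] at hr
    rcases hr with ⟨r, hr, rfl⟩ | rfl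
    · rw [hrw]; exact hP.sat r hr
    · simp [hrw, hW]
  · have ey : ∀ r, FreeGroup.lift y (Φ r) = FreeGroup.lift (fun i => FreeGroup.lift y (w i)) r := fun r =>
      map_word (FreeGroup.lift y) (fun _ => rfl) r
    obtain ⟨f, hf⟩ := hP.univ (fun i => FreeGroup.lift y (w i)) fun r hr => by
      rw [← ey]; exact hy _ (List.mem_append_left _ (List.mem_map_of_mem hr))
    have fw : ∀ g, f g = FreeGroup.lift y (Φ (W g)) := fun g => by rw [ey, ← map_word f hf, hW]
    have h1 := hy ((FreeGroup.of 1)⁻¹ * Φ (W b)) (by simp)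
    rw [map_mul, map_inv, inv_mul_eq_one, FreeGroup.lift_apply_of, ← fw] at h1
    refine ⟨f, fun i => ?_⟩
    fin_cases i
    · show f (x i₀) = y 0
      rw [hf]; simp [w]
    · exact h1.symm

/-- the even permutations on all points -/
def univEquiv (n : ℕ) : altOn (Finset.univ : Finset (Fin n)) ≃* alternatingGroup (Fin n) :=
  MulEquiv.subgroupCongr (by ext g; simp [mem_altOn])

/-- the points -/
theorem exists_data (n : ℕ) (hn : 5 ≤ n) : ∃ (P : Data (Fin n)) (p : ℕ), p.Prime ∧ p ≠ 2 ∧ P.sA.card = p := by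
  classical
  obtain ⟨p, hp, h2, h1, h3⟩ := ShortPresPrimes.exists_prime (n - 2) (by omega)
  have hodd : p % 2 = 1 := Nat.odd_iff.mp (hp.odd_of_ne_two h2)
  set k := n - 2 - p with hk
  have hk2 : 2 * k + 1 ≤ p := by omega
  let q : Fin p ↪ Fin n := ⟨fun i => ⟨2 + i, by omega⟩, fun i j h => by
    simp only [Fin.mk.injEq] at h; exact Fin.ext (by omega)⟩
  let off : Fin 3 → ℕ := ![p, 0, k]
  have hoff : ∀ r, off r + k ≤ n - 2 := by intro r; fin_cases r <;> simp [off] <;> omega
  let ι : Fin 3 × Fin k ↪ Fin n := ⟨fun z => ⟨2 + off z.1 + z.2, by have := hoff z.1; omega⟩, by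
    rintro ⟨r, i⟩ ⟨r', i'⟩ h
    simp only [Fin.mk.injEq] at h
    have hi := i.2
    have hi' := i'.2
    fin_cases r <;> fin_cases r' <;>
      first | (simp [off] at h; exact Prod.ext rfl (Fin.ext (by omega))) | (exfalso; simp [off] at h; omega)⟩
  have memq : ∀ x : Fin n, x ∈ Finset.univ.map q ↔ 2 ≤ x.val ∧ x.val < 2 + p := fun x => by
    simp only [Finset.mem_map, Finset.mem_univ, true_and]
    constructor
    · rintro ⟨i, rfl⟩; exact ⟨by show 2 ≤ 2 + i.val; omega, by show 2 + i.val < 2 + p; omega⟩
    · rintro ⟨ha, hb⟩; exact ⟨⟨x.val - 2, by omega⟩, Fin.ext (by show 2 + (x.val - 2) = x.val; omega)⟩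
  have vι : ∀ r i, (ι (r, i)).val = 2 + off r + i.val := fun r i => rfl
  refine ⟨{ a := ⟨0, by omega⟩, b := ⟨1, by omega⟩, sA := Finset.univ.map q, k := k, ι := ι,
            c := ⟨2 + 2 * k, by omega⟩,
            hab := fun h => by simp at h,
            haA := by rw [memq]; simp,
            hbA := by rw [memq]; simp,
            h0 := fun i => by rw [memq, vι]; simp [off],
            h1 := fun i => by have := i.2; rw [memq, vι]; simp [off]; omega,
            h2 := fun i => by have := i.2; rw [memq, vι]; simp [off]; omega,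
            hiota := fun ⟨r, i⟩ => by
              have := i.2
              refine ⟨fun h => ?_, fun h => ?_, fun h => ?_⟩ <;> have h' := congrArg Fin.val h <;>
                simp only [vι] at h' <;> fin_cases r <;> simp [off] at h' <;> omega,
            hc := by rw [memq]; simp; omega,
            cov := fun x => ?_ }, p, hp, h2, by simp⟩
  by_cases ha : x.val = 0
  · exact Or.inl (Fin.ext ha)
  by_cases hb : x.val = 1
  · exact Or.inr (Or.inl (Fin.ext hb))
  by_cases hc : x.val < 2 + p
  · exact Or.inr (Or.inr (Or.inl ((memq x).mpr ⟨by omega, hc⟩)))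
  · refine Or.inr (Or.inr (Or.inr ⟨⟨x.val - 2 - p, by omega⟩, Fin.ext ?_⟩))
    rw [vι]; simp [off]; omega

/-- generation by a cycle and a long element -/
theorem exists_partner {n : ℕ} (a b c : Fin n) (hab : a ≠ b) (hca : c ≠ a) (hcb : c ≠ b) (δ : ℤˣ) :
    ∃ u : Perm (Fin n), sign u = δ ∧ ∀ g : Perm (Fin n), sign g = 1 →
      g ∈ Subgroup.closure ({u, cyc a b c} : Set (Perm (Fin n))) := by
  classical
  let s : Finset (Fin n) := (Finset.univ.erase a).erase b
  obtain ⟨u, hu, -, -, -, hcl⟩ := two_gen hab s (by simp [s]) (by simp [s]) (c := c) (by simp [s, hca, hcb]) δ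
  refine ⟨u, hu, fun g hg => ?_⟩
  refine (Subgroup.closure_le _).mpr ?_ (mem_closure_cyc hab s (by simp [s]) (by simp [s]) g hg fun x hx => by
    simp [s] at hx; tauto)
  rintro _ ⟨i, hi, rfl⟩
  exact hcl i hi

/-- three letters, seven relators, and a partner for the second letter: alternating groups -/
theorem alt_seven (n : ℕ) (hn : 5 ≤ n) :
    ∃ (x : Fin 3 → alternatingGroup (Fin n)) (R : List (FreeGroup (Fin 3))), R.length ≤ 7 ∧ Pres x R ∧
      ∃ u, Subgroup.closure ({x 1, u} : Set (alternatingGroup (Fin n))) = ⊤ := by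
  classical
  obtain ⟨P, p, hp, h2, hcard⟩ := exists_data n hn
  haveI : Fact p.Prime := ⟨hp⟩
  obtain ⟨X, L, hL, hXL, hX1⟩ := alt_pres P p h2 hcard
  refine ⟨fun i => univEquiv n (X i), L, hL, pres_congr hXL _, ?_⟩
  obtain ⟨u, hu, hcl⟩ := exists_partner P.a P.b P.c P.hab P.hiota_c.1 P.hiota_c.2 1
  refine ⟨⟨u, mem_alternatingGroup.mpr hu⟩, ?_⟩
  apply Subgroup.map_injective (alternatingGroup (Fin n)).subtype_injective
  rw [MonoidHom.map_closure, ← MonoidHom.range_eq_map, Subgroup.range_subtype, Set.image_pair]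
  have e : ((univEquiv n (X 1)) : Perm (Fin n)) = cyc P.a P.b P.c := hX1
  refine le_antisymm ((Subgroup.closure_le _).mpr ?_) fun g hg => ?_
  · rintro y (rfl | rfl)
    · exact (univEquiv n (X 1)).2
    · exact mem_alternatingGroup.mpr hu
  · rw [Set.pair_comm]
    simp only [Subgroup.coe_subtype, e]
    exact hcl g (mem_alternatingGroup.mp hg)

/-- three letters, seven relators, and a partner for the second letter: symmetric groups -/
theorem sym_seven (n : ℕ) (hn : 5 ≤ n) :
    ∃ (x : Fin 3 → Perm (Fin n)) (R : List (FreeGroup (Fin 3))), R.length ≤ 7 ∧ Pres x R ∧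
      ∃ u, Subgroup.closure ({x 1, u} : Set (Perm (Fin n))) = ⊤ := by
  classical
  obtain ⟨P, p, hp, h2, hcard⟩ := exists_data n hn
  haveI : Fact p.Prime := ⟨hp⟩
  obtain ⟨X, L, hL, hXL, hX1⟩ := sym_pres P p h2 hcard
  refine ⟨X, L, hL, hXL, ?_⟩
  obtain ⟨u, hu, hcl⟩ := exists_partner P.a P.b P.c P.hab P.hiota_c.1 P.hiota_c.2 (-1)
  refine ⟨u, ?_⟩
  rw [hX1, Set.pair_comm, eq_top_iff]
  intro g _
  rcases Int.units_eq_one_or (sign g) with h | h
  · exact hcl g h
  · have := Subgroup.mul_mem _ (hcl (g * u) (by rw [map_mul, h, hu]; rfl))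
      (Subgroup.inv_mem _ (Subgroup.subset_closure (show u ∈ ({u, cyc P.a P.b P.c} : Set (Perm (Fin n))) from Or.inl rfl)))
    rwa [mul_inv_cancel_right] at this

/-- small alternating groups -/
theorem short_alt_small (n : ℕ) (hn : n ≤ 4) : Short (alternatingGroup (Fin n)) 4 := by
  classical
  rcases Nat.lt_or_ge n 3 with h | h
  · have : Subsingleton (alternatingGroup (Fin n)) := by
      refine ⟨fun x y => Subtype.ext ?_⟩
      have key : ∀ g : Perm (Fin n), sign g = 1 → g = 1 := by
        interval_cases n <;> decide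
      rw [key _ (mem_alternatingGroup.mp x.2), key _ (mem_alternatingGroup.mp y.2)]
    refine ⟨Fin 0, Fin.elim0, [], by simp, Pres.of_inj (by simp) (Subsingleton.elim _ _) fun H _ y π _ hgen _ => ?_⟩
    have : Subsingleton H := by
      refine ⟨fun u v => ?_⟩
      have hb : (⊤ : Subgroup H) = ⊥ := by rw [← hgen, Subgroup.closure_eq_bot_iff]; rintro _ ⟨i, -⟩; exact i.elim0
      have hu : u ∈ (⊥ : Subgroup H) := hb ▸ Subgroup.mem_top u
      have hv : v ∈ (⊥ : Subgroup H) := hb ▸ Subgroup.mem_top v
      rw [Subgroup.mem_bot.mp hu, Subgroup.mem_bot.mp hv]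
    exact Function.injective_of_subsingleton _
  · let a : Fin n := ⟨0, by omega⟩
    let b : Fin n := ⟨1, by omega⟩
    let s : Finset (Fin n) := (Finset.univ.erase a).erase b
    have hab : a ≠ b := by simp [a, b, Fin.ext_iff]
    have hs : s.card ≤ 2 := by
      rw [Finset.card_erase_of_mem (by simp [hab.symm]), Finset.card_erase_of_mem (by simp), Finset.card_univ,
        Fintype.card_fin]
      omega
    have h1 := ShortPresBlock.short_small hab s (by simp [s]) (by simp [s])
    refine (h1.congr ((MulEquiv.subgroupCongr ?_).trans (univEquiv n))).mono (by nlinarith)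
    congr 1
    ext x; simp only [pts, s, Finset.mem_insert, Finset.mem_erase, Finset.mem_univ, and_true, iff_true]
    tauto

/-- small symmetric groups -/
theorem short_sym_small (m : ℕ) (hm : m ≤ 3) : Short (Perm (Fin (m + 1))) 6 := by
  classical
  obtain ⟨cs, -⟩ := CoxeterTypeA.exists_coxeterSystem m
  let M := CoxeterMatrix.A m
  let R : List (FreeGroup (Fin m)) :=
    ((Finset.univ : Finset (Fin m × Fin m)).filter fun z => z.1 ≤ z.2).toList.map fun z =>
      (FreeGroup.of z.1 * FreeGroup.of z.2) ^ M z.1 z.2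
  have hR : R.length ≤ 6 := by
    simp only [R, List.length_map, Finset.length_toList]
    interval_cases m <;> decide
  refine ⟨Fin m, cs.simple, R, hR, Pres.of_inj ?_ cs.subgroup_closure_range_simple ?_⟩
  · intro r hr
    obtain ⟨z, -, rfl⟩ := List.mem_map.mp hr
    simp [M]
  · intro H _ y π hπ hgen hy
    have h1 : ∀ i j, i ≤ j → (y i * y j) ^ M i j = 1 := fun i j hij => by
      have := hy _ (List.mem_map.mpr ⟨(i, j), by simp [hij], rfl⟩)
      simpa using this
    have hlift : M.IsLiftable y := fun i j => by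
      rcases le_total i j with h | h
      · exact h1 i j h
      · have e := h1 j i h
        rw [M.symmetric]
        calc (y i * y j) ^ M j i = (y j)⁻¹ * (y j * y i) ^ M j i * y j := by
              rw [show (y j)⁻¹ * (y j * y i) ^ M j i * y j = ((y j)⁻¹ * (y j * y i) * (y j)⁻¹⁻¹) ^ M j i by
                rw [conj_pow]; group]
              congr 1; group
          _ = 1 := by rw [e]; group
    let f := cs.lift ⟨y, hlift⟩
    have hfy : ∀ i, f (cs.simple i) = y i := fun i => cs.lift_apply_simple hlift i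
    have hid : f.comp π = MonoidHom.id H := MonoidHom.eq_of_eqOn_dense hgen (by
      rintro _ ⟨i, rfl⟩; simp [hπ, hfy])
    exact fun u v huv => by
      have := congrArg f huv
      rw [← MonoidHom.comp_apply, ← MonoidHom.comp_apply, hid] at this
      exact this

end Cfsg.Agent.ShortPresSeven
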