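import Cfsg.Agent.Lib.ShortPresSeven

/-!
The presentations with three letters and seven relators.
-/

set_option autoImplicit false

universe u v

namespace Cfsg.Agent.ShortPresSeven

open Equiv Equiv.Perm ShortPres ShortPresTracked ShortPresCarmichael ShortPresGlue

/-- one further letter -/
theorem glue_pres {G : Type u} [Group G] {A : Type v} [Group A] {k : ℕ} {x : Fin k → A}
    {R : List (FreeGroup (Fin k))} (hP : Pres x R) (iA : A →* G) (t : G)
    (gen : iA.range ⊔ Subgroup.closure {t} = ⊤) (E : List (FreeGroup (A ⊕ Unit)))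
    (sat : ∀ r ∈ E, FreeGroup.lift (Sum.elim iA fun _ => t) r = 1)
    (inj : ∀ (H : Type) [Group H] (fA : A →* H) (T : H) (π : H →* G),
      (∀ a, π (fA a) = iA a) → π T = t → fA.range ⊔ Subgroup.closure {T} = ⊤ →
      (∀ r ∈ E, FreeGroup.lift (Sum.elim fA fun _ => T) r = 1) → Function.Injective π) :
    ∃ (X : Fin (k + 1) → G) (L : List (FreeGroup (Fin (k + 1)))), L.length ≤ R.length + E.length ∧ Pres X L ∧
      ∀ i, X (Fin.castSucc i) = iA (x i) := by
  choose wA hwA using exists_word hP.gen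
  let X : Fin (k + 1) → G := Fin.snoc (fun i => iA (x i)) t
  let j : FreeGroup (Fin k) →* FreeGroup (Fin (k + 1)) := FreeGroup.lift fun i => FreeGroup.of (Fin.castSucc i)
  let Φ : FreeGroup (A ⊕ Unit) →* FreeGroup (Fin (k + 1)) :=
    FreeGroup.lift (Sum.elim (fun a => j (wA a)) (fun _ => FreeGroup.of (Fin.last k)))
  have ej : ∀ w, FreeGroup.lift X (j w) = iA (FreeGroup.lift x w) := fun w => by
    rw [map_word (FreeGroup.lift X) (y := fun i => iA (x i)) (fun i => by simp [X]) w,
      ← map_word iA (fun _ => rfl) w]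
  refine ⟨X, R.map j ++ E.map Φ, by simp, Pres.of_inj ?_ ?_ ?_, fun i => by simp [X]⟩
  · intro r hr
    simp only [List.mem_append, List.mem_map] at hr
    rcases hr with ⟨w, hw, rfl⟩ | ⟨w, hw, rfl⟩
    · rw [ej, hP.sat w hw, map_one]
    · rw [map_word (FreeGroup.lift X) (y := Sum.elim iA fun _ => t) (fun s => ?_) w]
      · exact sat w hw
      · rcases s with a | b
        · simp [ej, hwA]
        · simp [X]
  · rw [eq_top_iff, ← gen, sup_le_iff, MonoidHom.range_eq_map, ← hP.gen, MonoidHom.map_closure]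
    constructor <;> refine Subgroup.closure_mono ?_
    · rintro _ ⟨_, ⟨i, rfl⟩, rfl⟩; exact ⟨Fin.castSucc i, by simp [X]⟩
    · rintro _ rfl; exact ⟨Fin.last k, by simp [X]⟩
  · intro H _ y π hπ hgen hy
    have ey : ∀ w, FreeGroup.lift y (j w) = FreeGroup.lift (fun i => y (Fin.castSucc i)) w := fun w =>
      map_word (FreeGroup.lift y) (fun i => by simp) w
    obtain ⟨fA, hfA⟩ := hP.univ (fun i => y (Fin.castSucc i)) fun r hr => by
      rw [← ey]; exact hy _ (by simp only [List.mem_append, List.mem_map]; exact Or.inl ⟨r, hr, rfl⟩)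
    refine inj H fA (y (Fin.last k)) π (fun a => ?_) (by rw [hπ]; simp [X]) ?_ fun r hr => ?_
    · rw [← hwA a, map_word fA hfA, map_word π (y := fun i => iA (x i)) (fun i => by rw [hπ]; simp [X]),
        ← map_word iA (fun _ => rfl)]
    · rw [eq_top_iff, ← hgen, Subgroup.closure_le]
      rintro _ ⟨i, rfl⟩
      induction i using Fin.lastCases with
      | last => exact Subgroup.mem_sup_right (Subgroup.subset_closure rfl)
      | cast i => exact Subgroup.mem_sup_left ⟨x i, hfA i⟩
    · rw [← map_word (FreeGroup.lift y) (x := Sum.elim (fun a => j (wA a)) (fun _ => FreeGroup.of (Fin.last k)))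
        (y := Sum.elim fA fun _ => y (Fin.last k)) (fun s => ?_) r]
      · exact hy _ (by simp only [List.mem_append, List.mem_map]; exact Or.inr ⟨r, hr, rfl⟩)
      · rcases s with a | b
        · simp [ey, ← map_word fA hfA, hwA]
        · simp

variable {α : Type} [Fintype α] [DecidableEq α] (P : Data α)

namespace Data

/-- the block -/
abbrev SA : Finset α := pts P.a P.b P.sA

/-- the overlap -/
def O : Finset α := P.sA.filter fun x => ∀ i, P.ι (1, i) ≠ x

theorem c_O : P.c ∈ P.O := Finset.mem_filter.mpr ⟨P.hc, fun i => (P.hiota _).2.2⟩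

theorem w_mem (e : Bool) (s : Finset α) (x : α) (hx : x ∉ pts P.a P.b s) : P.w e x = x := by
  simp only [Finset.mem_insert, not_or] at hx
  exact P.w_apply e x hx.1 hx.2.1

theorem w_sign (e : Bool) : sign (P.w e) = if e then -1 else 1 := by
  cases e <;> simp [w, sign_swap P.hab]

theorem conj_mem {s : Finset α} {g : Perm α} (hg : g ∈ altOn (pts P.a P.b s)) (e : Bool) :
    P.w e * g * P.w e ∈ altOn (pts P.a P.b s) := by
  refine ⟨?_, fun x hx => ?_⟩
  · rw [map_mul, map_mul, hg.1, mul_one, ← map_mul, w_sq, map_one]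
  · rw [Perm.mul_apply, Perm.mul_apply, P.w_mem e s x hx, hg.2 x hx, P.w_mem e s x hx]

theorem w_cyc (e : Bool) (x : α) (hx : x ∈ P.sA) :
    P.w e * cyc P.a P.b x * P.w e = cyc P.a P.b x ^ ex e := by
  have h := P.conj_cyc' 1 e x (fun h => P.haA (h ▸ hx)) (fun h => P.hbA (h ▸ hx))
  rw [map_one, one_mul, inv_eq_of_mul_eq_one_right (P.w_sq e)] at h
  exact h

/-- membership of the two involutions -/
theorem rho_mem (e : Bool) (h : sign (P.ρ * P.w e) = 1) : P.ρ * P.w e ∈ altOn P.SA := by
  refine ⟨h, fun x hx => ?_⟩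
  rw [Perm.mul_apply, P.w_mem e P.sA x hx]
  by_cases hr : ∃ r i, P.ι (r, i) = x
  · obtain ⟨r, i, rfl⟩ := hr
    rw [ρ, P.Φ_iota]
    simp only [SA, Finset.mem_insert, not_or] at hx
    fin_cases r
    · simp [swap_apply_of_ne_of_ne]
    · exact absurd (P.h1 i) hx.2.2
    · exact absurd (P.h2 i) hx.2.2
  · exact P.Φ_fix _ x fun r i e => hr ⟨r, i, e⟩

theorem gen_model (eT : Bool) (K : Subgroup (Perm α)) (hK : altOn P.SA ≤ K) (ht : P.τ * P.w eT ∈ K) :
    ∀ g : Perm α, sign g = 1 → g ∈ K := by
  intro g hg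
  let s : Finset α := (Finset.univ.erase P.a).erase P.b
  refine (Subgroup.closure_le K).mpr ?_ (mem_closure_cyc P.hab s (by simp [s]) (by simp [s]) g hg fun x hx => by
    simp [s] at hx; tauto)
  rintro _ ⟨x, hx, rfl⟩
  simp only [s, Finset.coe_erase, Set.mem_sdiff, Set.mem_singleton_iff, Finset.coe_univ, Set.mem_univ, true_and] at hx
  rcases P.cov x with h | h | h | ⟨i, rfl⟩
  · exact absurd h hx.1
  · exact absurd h hx.2
  · exact hK (cyc_mem P.hab P.hbA h)
  · have h1 := K.mul_mem (K.mul_mem ht (hK (cyc_mem P.hab P.hbA (P.h1 i)))) (K.inv_mem ht)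
    rw [show P.τ = P.Φ (swap 0 1) from rfl,
      P.conj_cyc' _ _ _ (fun h => P.haA (h ▸ P.h1 i)) (fun h => P.hbA (h ▸ P.h1 i)), P.Φ_iota] at h1
    have h2 := K.zpow_mem h1 (ex eT)
    rw [← zpow_mul, ex_sq, zpow_one] at h2
    simpa using h2

end Data

/-- letters of a glueing word -/
abbrev LK (g : Perm α) : FreeGroup (altOn P.SA ⊕ Unit) := FreeGroup.of (Sum.inl (el P.SA g))

/-- the further letter -/
abbrev LT : FreeGroup (altOn P.SA ⊕ Unit) := FreeGroup.of (Sum.inr ())

/-- two relators fixing the overlap -/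
theorem agree_data (eT : Bool) : ∃ E : List (FreeGroup (altOn P.SA ⊕ Unit)), E.length ≤ 2 ∧
    (∀ {G : Type} [Group G] (iA : altOn P.SA →* G) (t : G) (j : G →* Perm α), Function.Injective j →
      (∀ g, j (iA g) = g) → j t = P.τ * P.w eT → ∀ r ∈ E, FreeGroup.lift (Sum.elim iA fun _ => t) r = 1) ∧
    ∀ {H : Type} [Group H] (fA : altOn P.SA →* H) (T : H),
      (∀ r ∈ E, FreeGroup.lift (Sum.elim fA fun _ => T) r = 1) → T * T = 1 ∧
      ∀ x ∈ P.sA, (∀ i, P.ι (1, i) ≠ x) →
        T * fA (el _ (cyc P.a P.b x)) * T = fA (el _ (cyc P.a P.b x)) ^ Data.ex eT := by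
  classical
  have hOs : P.O ⊆ P.sA := Finset.filter_subset _ _
  have haO : P.a ∉ P.O := fun h => P.haA (hOs h)
  have hbO : P.b ∉ P.O := fun h => P.hbA (hOs h)
  have hle : altOn (pts P.a P.b P.O) ≤ altOn P.SA :=
    altOn_mono (Finset.insert_subset_insert _ (Finset.insert_subset_insert _ hOs))
  obtain ⟨u, hu1, hu2, hub, hua, hucl⟩ := two_gen P.hab P.O haO hbO P.c_O 1
  have hu : u ∈ altOn (pts P.a P.b P.O) := ⟨hu1, hu2⟩
  have hc : cyc P.a P.b P.c ∈ altOn (pts P.a P.b P.O) := cyc_mem P.hab hbO P.c_O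
  have mem1 : ∀ x ∈ pts P.a P.b P.O, P.τ x = x := by
    intro x hx
    simp only [Finset.mem_insert] at hx
    rcases hx with rfl | rfl | hx
    · exact (P.Φ_abc _).1
    · exact (P.Φ_abc _).2.1
    · refine Classical.byContradiction fun hne => ?_
      by_cases hr : ∃ r i, P.ι (r, i) = x
      · obtain ⟨r, i, rfl⟩ := hr
        fin_cases r
        · exact P.h0 i (hOs hx)
        · exact (Finset.mem_filter.mp hx).2 i rfl
        · exact hne (by rw [Data.τ, P.Φ_iota]; simp [swap_apply_of_ne_of_ne])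
      · exact hne (P.Φ_fix _ x fun r i e => hr ⟨r, i, e⟩)
  have tmodel : ∀ g ∈ altOn (pts P.a P.b P.O), P.τ * P.w eT * g * (P.τ * P.w eT) = P.w eT * g * P.w eT := by
    intro g hg
    have h' := P.conj_mem hg eT
    have hcomm : P.τ * (P.w eT * g * P.w eT) = (P.w eT * g * P.w eT) * P.τ := by
      refine Equiv.ext fun x => ?_
      set q := P.w eT * g * P.w eT
      simp only [Perm.mul_apply]
      by_cases hx : x ∈ pts P.a P.b P.O
      · have hq : q x ∈ pts P.a P.b P.O := by
          by_contra hn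
          exact hn (by rw [q.injective (h'.2 _ hn)]; exact hx)
        rw [mem1 x hx, mem1 _ hq]
      · rw [h'.2 x hx, h'.2 (P.τ x) fun hn => hx ?_]
        rwa [← P.τ.injective (mem1 _ hn)]
    have e1 : P.w eT * P.τ = P.τ * P.w eT := (P.w_comm _ eT).eq.symm
    have e2 : P.τ * P.τ = 1 := by
      show P.Φ (swap 0 1) * P.Φ (swap 0 1) = 1
      rw [← map_mul, swap_mul_self, map_one]
    calc P.τ * P.w eT * g * (P.τ * P.w eT)
        = P.τ * (P.w eT * g * P.w eT) * P.τ := by
          conv_lhs => arg 2; rw [← e1]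
          group
      _ = _ := by rw [hcomm, mul_assoc, e2, mul_one]
  have cls : ∀ {H : Type} [Group H] (f f' : altOn P.SA →* H),
      f (el _ u) = f' (el _ u) → f (el _ (cyc P.a P.b P.c)) = f' (el _ (cyc P.a P.b P.c)) →
      ∀ x ∈ P.O, f (el _ (cyc P.a P.b x)) = f' (el _ (cyc P.a P.b x)) := by
    intro H _ f f' h1 h2 x hx
    have : ∀ σ ∈ Subgroup.closure ({u, cyc P.a P.b P.c} : Set (Perm α)),
        σ ∈ altOn P.SA ∧ f (el _ σ) = f' (el _ σ) := by
      intro σ hσ
      induction hσ using Subgroup.closure_induction with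
      | mem y hy =>
        rcases hy with rfl | rfl
        exacts [⟨hle hu, h1⟩, ⟨hle hc, h2⟩]
      | one => exact ⟨one_mem _, by simp [el_one]⟩
      | mul y z _ _ hy hz => exact ⟨mul_mem hy.1 hz.1, by rw [el_mul hy.1 hz.1, map_mul, map_mul, hy.2, hz.2]⟩
      | inv y _ hy => exact ⟨inv_mem hy.1, by rw [el_inv hy.1, map_inv, map_inv, hy.2]⟩
    exact (this _ (hucl x hx)).2
  have mem_O : ∀ x ∈ P.sA, (∀ i, P.ι (1, i) ≠ x) → x ∈ P.O := fun x hx h => Finset.mem_filter.mpr ⟨hx, h⟩
  cases eT
  · -- the pair is fixed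
    refine ⟨[LT P * LK P u * (LT P)⁻¹ * (LK P u)⁻¹,
      LT P * LT P * (LT P * LK P (cyc P.a P.b P.c) * (LT P)⁻¹ * (LK P (cyc P.a P.b P.c))⁻¹)⁻¹], le_rfl, ?_, ?_⟩
    · intro G _ iA t j hj hjA hjt r hr
      apply hj
      rw [map_one]
      simp only [List.mem_cons, List.not_mem_nil, or_false] at hr
      have hinv : (P.τ * P.w false)⁻¹ = P.τ * P.w false :=
        inv_eq_of_mul_eq_one_right (P.invol _ (swap_mul_self _ _) _)
      have hsq : P.τ * P.w false * (P.τ * P.w false) = 1 := P.invol _ (swap_mul_self _ _) _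
      rcases hr with rfl | rfl <;>
        simp only [LK, LT, map_mul, map_inv, FreeGroup.lift_apply_of, Sum.elim_inl, Sum.elim_inr, hjA, hjt,
          el_coe (hle hu), el_coe (hle hc), hinv, tmodel u hu, tmodel _ hc, hsq]
      · simp [Data.w]
      · simp [Data.w]
    · intro H _ fA T hrel
      simp only [List.forall_mem_cons, List.not_mem_nil, false_imp_iff, implies_true, and_true, LK, LT, map_mul,
        map_inv, FreeGroup.lift_apply_of, Sum.elim_inl, Sum.elim_inr, mul_inv_eq_one] at hrel
      obtain ⟨hTu, hTT⟩ := hrel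
      set z := fA (el _ (cyc P.a P.b P.c))
      set e := T * T with he
      have hz3 : z * z * z = 1 := by
        simp only [z, ← map_mul, ← el_mul (hle hc) (hle hc),
          ← el_mul (hle (mul_mem hc hc)) (hle hc)]
        rw [cyc_cube P.hab (fun e => haO (by rw [← e]; exact P.c_O)) (fun e => hbO (by rw [← e]; exact P.c_O)), el_one, map_one]
      have eT' : Commute e T := (Commute.refl T).mul_left (Commute.refl T)
      have hTz : T * z * T⁻¹ = e * z := by rw [hTT]; group
      have hzT : z * T * z⁻¹ = e⁻¹ * T := by rw [hTT]; group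
      have hze : z * e * z⁻¹ = e⁻¹ := by
        calc z * e * z⁻¹ = (z * T * z⁻¹) * (z * T * z⁻¹) := by rw [he]; group
          _ = e⁻¹ * (T * e⁻¹) * T := by rw [hzT]; group
          _ = e⁻¹ * (e⁻¹ * T) * T := by rw [eT'.inv_left.symm.eq]
          _ = e⁻¹ * e⁻¹ * e := by rw [he]; group
          _ = e⁻¹ := by group
      have he1 : e = 1 := by
        have h3 : (e * z) * (e * z) * (e * z) = 1 := by
          rw [← hTz]
          calc _ = T * (z * z * z) * T⁻¹ := by group
            _ = 1 := by rw [hz3]; group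
        have h2 : e * z * (e * z) = z * z := by
          calc e * z * (e * z) = e * (z * e * z⁻¹) * (z * z) := by group
            _ = z * z := by rw [hze]; group
        rw [h2] at h3
        calc e = (z * z)⁻¹ * (z * z * (e * z)) * z⁻¹ := by group
          _ = (z * z * z)⁻¹ := by rw [h3]; group
          _ = 1 := by rw [hz3, inv_one]
      have hTi : T⁻¹ = T := inv_eq_of_mul_eq_one_right he1
      refine ⟨he1, fun x hx hx1 => ?_⟩
      have hall := cls ((MulAut.conj T).toMonoidHom.comp fA) fA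
        (by simp only [MonoidHom.comp_apply, MulEquiv.coe_toMonoidHom, MulAut.conj_apply]; exact hTu)
        (by simp only [MonoidHom.comp_apply, MulEquiv.coe_toMonoidHom, MulAut.conj_apply]
            show T * z * T⁻¹ = z
            rw [hTz, he1, one_mul]) x (mem_O x hx hx1)
      simp only [MonoidHom.comp_apply, MulEquiv.coe_toMonoidHom, MulAut.conj_apply, hTi] at hall
      rw [hall]; simp [Data.ex]
  · -- the pair is exchanged
    set u' := P.w true * u * P.w true
    have hu' : u' ∈ altOn (pts P.a P.b P.O) := P.conj_mem hu true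
    refine ⟨[LT P * LT P, LT P * LK P u * LT P * (LK P u')⁻¹], le_rfl, ?_, ?_⟩
    · intro G _ iA t j hj hjA hjt r hr
      apply hj
      rw [map_one]
      simp only [List.mem_cons, List.not_mem_nil, or_false] at hr
      rcases hr with rfl | rfl <;>
        simp only [LK, LT, map_mul, map_inv, FreeGroup.lift_apply_of, Sum.elim_inl, Sum.elim_inr, hjA, hjt,
          el_coe (hle hu), el_coe (hle hu')]
      · exact P.invol _ (swap_mul_self _ _) _
      · rw [tmodel u hu]; exact mul_inv_cancel _
    · intro H _ fA T hrel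
      simp only [List.forall_mem_cons, List.not_mem_nil, false_imp_iff, implies_true, and_true, LK, LT, map_mul,
        map_inv, FreeGroup.lift_apply_of, Sum.elim_inl, Sum.elim_inr, mul_inv_eq_one] at hrel
      obtain ⟨hTT, hTu⟩ := hrel
      have hTi : T⁻¹ = T := inv_eq_of_mul_eq_one_right hTT
      let cw : altOn P.SA →* altOn P.SA :=
        { toFun := fun g => ⟨P.w true * g.1 * P.w true, P.conj_mem g.2 true⟩
          map_one' := Subtype.ext (by simp [P.w_sq])
          map_mul' := fun g h => Subtype.ext (by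
            calc P.w true * (g.1 * h.1) * P.w true = P.w true * g.1 * (P.w true * P.w true) * h.1 * P.w true := by
                  rw [P.w_sq]; group
              _ = _ := by simp only [Subgroup.coe_mul]; group) }
      have cw_el : ∀ g ∈ altOn P.SA, cw (el _ g) = el _ (P.w true * g * P.w true) := fun g hg =>
        Subtype.ext (by
          show P.w true * (el P.SA g : Perm α) * P.w true = _
          rw [el_coe hg, el_coe (P.conj_mem hg true)])
      let f : altOn P.SA →* H := (MulAut.conj T).toMonoidHom.comp fA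
      let f' : altOn P.SA →* H := fA.comp cw
      have h1 : f (el _ u) = f' (el _ u) := by
        simp only [f, f', MonoidHom.comp_apply, MulEquiv.coe_toMonoidHom, MulAut.conj_apply, hTi,
          cw_el u (hle hu)]
        exact hTu
      have h1' : f (el _ u') = f' (el _ u') := by
        simp only [f, f', MonoidHom.comp_apply, MulEquiv.coe_toMonoidHom, MulAut.conj_apply, hTi,
          cw_el u' (hle hu')]
        rw [show P.w true * u' * P.w true = u from by
          show P.w true * (P.w true * u * P.w true) * P.w true = u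
          calc _ = (P.w true * P.w true) * u * (P.w true * P.w true) := by group
            _ = u := by rw [P.w_sq]; group]
        rw [← hTu]
        calc T * (T * fA (el _ u) * T) * T = (T * T) * fA (el _ u) * (T * T) := by group
          _ = _ := by rw [hTT]; group
      have hd : u * u'⁻¹ = cyc P.a P.b P.c ∨ u * u'⁻¹ = (cyc P.a P.b P.c)⁻¹ := by
        have e : u * u'⁻¹ = swap (u P.a) (u P.b) * swap P.a P.b := by
          have hm := Equiv.mul_swap_eq_swap_mul u P.a P.b
          simp only [u', Data.w, if_true, mul_inv_rev, swap_inv, ← mul_assoc, hm]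
          group
        rw [e, hub]
        rcases hua with h | h <;> rw [h]
        · left
          rw [cyc, Equiv.mul_swap_eq_swap_mul (swap P.a P.b) P.b P.c, swap_apply_right,
            swap_apply_of_ne_of_ne (P.hiota_c.1) (P.hiota_c.2)]
        · right
          rw [cyc, mul_inv_rev, swap_inv, swap_inv]
      have hz : f (el _ (cyc P.a P.b P.c)) = f' (el _ (cyc P.a P.b P.c)) := by
        have hm : ∀ g : Perm α, u * u'⁻¹ = g → f (el _ g) = f' (el _ g) := by
          rintro g rfl
          rw [el_mul (hle hu) (inv_mem (hle hu')), el_inv (hle hu'), map_mul, map_mul, map_inv, map_inv, h1, h1']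
        rcases hd with h | h
        · exact hm _ h
        · have := hm _ h
          rw [el_inv (hle hc), map_inv, map_inv] at this
          exact inv_injective this
      refine ⟨hTT, fun x hx hx1 => ?_⟩
      have hall := cls f f' h1 hz x (mem_O x hx hx1)
      simp only [f, f', MonoidHom.comp_apply, MulEquiv.coe_toMonoidHom, MulAut.conj_apply, hTi,
        cw_el _ (cyc_mem P.hab P.hbA hx)] at hall
      rw [hall, P.w_cyc true x hx]
      simp [Data.ex, el_inv (cyc_mem P.hab P.hbA hx)]

/-- even case: seven relators -/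
theorem alt_pres (p : ℕ) [Fact p.Prime] (h2 : p ≠ 2) (hp : P.sA.card = p) :
    ∃ (X : Fin 3 → altOn (Finset.univ : Finset α)) (L : List (FreeGroup (Fin 3))), L.length ≤ 7 ∧ Pres X L ∧
      (X 1 : Perm α) = cyc P.a P.b P.c := by
  classical
  obtain ⟨x, R, hR, hPres, hx1⟩ := block_four P.hab P.sA P.haA P.hbA p h2 hp P.c P.hc
  let e : Bool := decide (sign P.ρ = -1)
  have hsg : sign (P.ρ * P.w e) = 1 := by
    rw [map_mul, P.w_sign]
    rcases Int.units_eq_one_or (sign P.ρ) with h | h <;> simp [e, h]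
  have hsig := P.rho_mem e hsg
  have ht : P.τ * P.w e ∈ altOn (Finset.univ : Finset α) := by
    refine ⟨?_, fun x hx => absurd (Finset.mem_univ x) hx⟩
    rw [map_mul, ← P.sign_rows, ← map_mul, hsg]
  let iA : altOn P.SA →* altOn (Finset.univ : Finset α) := Subgroup.inclusion (altOn_mono (Finset.subset_univ _))
  let t : altOn (Finset.univ : Finset α) := ⟨_, ht⟩
  obtain ⟨E, hE, hsat, hder⟩ := agree_data P e
  have hgen : iA.range ⊔ Subgroup.closure {t} = ⊤ := by
    apply Subgroup.map_injective (altOn (Finset.univ : Finset α)).subtype_injective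
    rw [← MonoidHom.range_eq_map, Subgroup.range_subtype]
    refine le_antisymm ?_ fun g hg => P.gen_model e _ (fun q hq => ?_) ?_ g hg.1
    · rintro _ ⟨q, -, rfl⟩; exact q.2
    · exact ⟨iA ⟨q, hq⟩, Subgroup.mem_sup_left ⟨_, rfl⟩, rfl⟩
    · exact ⟨t, Subgroup.mem_sup_right (Subgroup.subset_closure rfl), rfl⟩
  let third : FreeGroup (altOn P.SA ⊕ Unit) := (LK P (P.ρ * P.w e) * LT P) ^ 3
  refine (glue_pres hPres iA t hgen (E ++ [third]) (fun r hr => ?_)
    (fun H _ fA T π hπA hπT hg hrel => ?_)).elim fun X ⟨L, hL, hXL, hX⟩ => ⟨X, L, hL.trans (by simp; omega), hXL, by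
      rw [show (1 : Fin 3) = Fin.castSucc (1 : Fin 2) from rfl, hX]
      exact hx1⟩
  · rcases List.mem_append.mp hr with h | h
    · exact hsat iA t (altOn _).subtype Subtype.val_injective (fun _ => rfl) rfl r h
    · rw [List.mem_singleton.mp h]
      refine Subtype.ext ?_
      simp only [third, map_pow, map_mul, FreeGroup.lift_apply_of, Sum.elim_inl, Sum.elim_inr, Subgroup.coe_pow,
        Subgroup.coe_mul, Subgroup.coe_one, iA, t, Subgroup.coe_inclusion, el_coe hsig]
      rw [show P.ρ * P.w e * (P.τ * P.w e) = P.Φ (swap 1 2 * swap 0 1) by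
        rw [(show Commute (P.w e) P.τ from (P.w_comm _ e).symm).mul_mul_mul_comm, P.w_sq, mul_one, map_mul]; rfl,
        ← map_pow, show (swap (1 : Fin 3) 2 * swap 0 1) ^ 3 = 1 by decide, map_one]
  · simp only [List.forall_mem_append, List.forall_mem_cons, List.not_mem_nil, false_imp_iff, implies_true,
      and_true] at hrel
    obtain ⟨hE', h3⟩ := hrel
    obtain ⟨hTT, hagree⟩ := hder fA T hE'
    have hTi : T⁻¹ = T := inv_eq_of_mul_eq_one_right hTT
    set S := fA (el _ (P.ρ * P.w e)) with hS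
    have hSS : S * S = 1 := by
      rw [hS, ← map_mul, ← el_mul hsig hsig, show P.ρ * P.w e * (P.ρ * P.w e) = 1 from P.invol _ (swap_mul_self _ _) _, el_one, map_one]
    have hSi : S⁻¹ = S := inv_eq_of_mul_eq_one_right hSS
    simp only [third, LK, LT, map_pow, map_mul, FreeGroup.lift_apply_of, Sum.elim_inl, Sum.elim_inr, ← hS] at h3
    have hbr : S * T * S = T * S * T := by
      have h3' : S * T * (S * T) * (S * T) = 1 := by rw [← h3]; simp [pow_succ]
      calc S * T * S = (S * T * (S * T) * (S * T)) * (T⁻¹ * S⁻¹ * T⁻¹) := by group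
        _ = T * S * T := by rw [h3', one_mul, hTi, hSi]
    let Pr : H →* Perm α := (altOn (Finset.univ : Finset α)).subtype.comp π
    refine (span_eq P fA T Pr e e (fun g => by simp [Pr, hπA, iA])
      (by simp [Pr, hπT, t]) hTT hagree hsig (fun i => ?_) hg).elim fun M ⟨hKM, hTM, hker, hcov, _⟩ => ?_
    rotate_left
    · have hSM : S ∈ M := hKM ⟨_, rfl⟩
      have hT : T ∈ M := by
        have : S * (T * S * T) * S = T := by
          rw [← hbr]
          calc S * (S * T * S) * S = (S * S) * T * (S * S) := by group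
            _ = T := by rw [hSS]; group
        rw [← this]
        exact M.mul_mem (M.mul_mem hSM (hTM _ hSM)) hSM
      refine (injective_iff_map_eq_one π).mpr fun q hq => hker q ?_ (by simp [Pr, hq])
      rcases hcov q with h | h
      · exact h
      · have := M.mul_mem h (M.inv_mem hT)
        rwa [mul_inv_cancel_right] at this
    · -- the key identity
      set u1 := fA (el _ (cyc P.a P.b (P.ι (1, i))))
      set u2 := fA (el _ (cyc P.a P.b (P.ι (2, i))))
      have hSu : S * u2 * S = u1 ^ Data.ex e := by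
        conv_lhs => arg 2; rw [← hSi]
        rw [hS, ← map_inv, ← map_mul, ← map_mul, ← map_zpow]
        congr 1
        refine Subtype.ext ?_
        rw [Subgroup.coe_mul, Subgroup.coe_mul, Subgroup.coe_inv, Subgroup.coe_zpow, el_coe hsig,
          el_coe (cyc_mem P.hab P.hbA (P.h2 i)), el_coe (cyc_mem P.hab P.hbA (P.h1 i)),
          show P.ρ = P.Φ (swap 1 2) from rfl,
          P.conj_cyc' _ _ _ (fun h => P.haA (h ▸ P.h2 i)) (fun h => P.hbA (h ▸ P.h2 i)), P.Φ_iota]
        simp
      have hTu : T * u2 * T = u2 ^ Data.ex e :=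
        hagree _ (P.h2 i) fun l h => by simpa using P.ι.injective h
      rw [hSi]
      have hx : Data.ex e = 1 ∨ Data.ex e = -1 := by cases e <;> simp [Data.ex]
      have e2 : (T * S * T) * u2 * (T * S * T) = T * S * u2 ^ Data.ex e * S * T := by rw [← hTu]; group
      rcases hx with he | he <;> rw [he] at hSu hTu e2 ⊢ <;> simp only [zpow_one, zpow_neg_one] at hSu hTu e2 ⊢
      · calc S * (T * u1 * T) * S = (S * T * S) * u2 * (S * T * S) := by rw [← hSu]; group
          _ = T * (S * u2 * S) * T := by rw [hbr, e2]; group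
          _ = _ := by rw [hSu]
      · have hu : u1 = S * u2⁻¹ * S := by
          rw [← inv_inv u1, ← hSu]
          simp only [mul_inv_rev, hSi, mul_assoc]
        calc S * (T * u1 * T) * S = ((S * T * S)⁻¹ * u2 * (S * T * S)⁻¹)⁻¹ := by rw [hu]; group
          _ = ((T * S * T) * u2 * (T * S * T))⁻¹ := by
              have hb' : (T * S * T)⁻¹ = T * S * T := by rw [mul_inv_rev, mul_inv_rev, hTi, hSi, mul_assoc]
              rw [hbr, hb']
          _ = (T * (S * u2⁻¹ * S) * T)⁻¹ := by rw [e2]; group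
          _ = _ := by rw [← hu]

/-- odd case: seven relators -/
theorem sym_pres (p : ℕ) [Fact p.Prime] (h2 : p ≠ 2) (hp : P.sA.card = p) :
    ∃ (X : Fin 3 → Perm α) (L : List (FreeGroup (Fin 3))), L.length ≤ 7 ∧ Pres X L ∧
      X 1 = cyc P.a P.b P.c := by
  classical
  obtain ⟨x, R, hR, hPres, hx1⟩ := block_four P.hab P.sA P.haA P.hbA p h2 hp P.c P.hc
  let eS : Bool := decide (sign P.ρ = -1)
  let eT : Bool := !eS
  have hsg : sign (P.ρ * P.w eS) = 1 := by
    rw [map_mul, P.w_sign]
    rcases Int.units_eq_one_or (sign P.ρ) with h | h <;> simp [eS, h]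
  have hsig := P.rho_mem eS hsg
  have htodd : sign (P.τ * P.w eT) = -1 := by
    rw [map_mul, ← P.sign_rows, P.w_sign]
    rcases Int.units_eq_one_or (sign P.ρ) with h | h <;> simp [eT, eS, h]
  let iA : altOn P.SA →* Perm α := (altOn P.SA).subtype
  obtain ⟨E, hE, hsat, hder⟩ := agree_data P eT
  let s' : Finset α := insert P.c (Finset.univ.image fun i => P.ι (1, i))
  have hs'A : s' ⊆ P.sA := by
    intro x hx
    simp only [s', Finset.mem_insert, Finset.mem_image, Finset.mem_univ, true_and] at hx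
    rcases hx with rfl | ⟨i, rfl⟩
    exacts [P.hc, P.h1 i]
  obtain ⟨g, hg, hgab, htr⟩ := exists_transport P.hab s' (fun h => P.haA (hs'A h)) (fun h => P.hbA (hs'A h))
  have hgA : g ∈ altOn P.SA := altOn_mono (Finset.insert_subset_insert _ (Finset.insert_subset_insert _ hs'A)) hg
  have hgw : ∀ e, P.w e * g * P.w e = g := fun e => by
    cases e
    · simp [Data.w]
    · show swap P.a P.b * g * swap P.a P.b = g
      have : swap (g P.a) (g P.b) = swap P.a P.b := by
        rcases hgab with ⟨h1, h2⟩ | ⟨h1, h2⟩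
        · rw [h1, h2]
        · rw [h1, h2, swap_comm]
      rw [mul_assoc, Equiv.mul_swap_eq_swap_mul, this, ← mul_assoc, swap_mul_self, one_mul]
  -- the commutation is propagated
  have prop : ∀ {H : Type} [Group H] (fA : altOn P.SA →* H) (T : H), T * T = 1 →
      (T * fA (el _ (cyc P.a P.b P.c)) * T = fA (el _ (cyc P.a P.b P.c)) ^ Data.ex eT) →
      (fA (el _ (P.ρ * P.w eS)) * (T * fA (el _ g) * T) * (fA (el _ (P.ρ * P.w eS)))⁻¹ = T * fA (el _ g) * T) →
      ∀ d ∈ s', fA (el _ (P.ρ * P.w eS)) * (T * fA (el _ (cyc P.a P.b d)) * T) * (fA (el _ (P.ρ * P.w eS)))⁻¹ =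
        (T * fA (el _ (cyc P.a P.b d)) * T) ^ Data.ex eS := by
    intro H _ fA T hTT hTc hgr d hd
    have hTi : T⁻¹ = T := inv_eq_of_mul_eq_one_right hTT
    set S := fA (el _ (P.ρ * P.w eS)) with hS
    let f : altOn P.SA →* H := ((MulAut.conj S).toMonoidHom.comp ((MulAut.conj T).toMonoidHom.comp fA))
    let cw : altOn P.SA →* altOn P.SA :=
      { toFun := fun g => ⟨P.w eS * g.1 * P.w eS, P.conj_mem g.2 eS⟩
        map_one' := Subtype.ext (by simp [P.w_sq])
        map_mul' := fun g h => Subtype.ext (by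
          calc P.w eS * (g.1 * h.1) * P.w eS = P.w eS * g.1 * (P.w eS * P.w eS) * h.1 * P.w eS := by
                rw [P.w_sq]; group
            _ = _ := by simp only [Subgroup.coe_mul]; group) }
    have cw_el : ∀ g ∈ altOn P.SA, cw (el _ g) = el _ (P.w eS * g * P.w eS) := fun g hg =>
      Subtype.ext (by
        show P.w eS * (el P.SA g : Perm α) * P.w eS = _
        rw [el_coe hg, el_coe (P.conj_mem hg eS)])
    let f' : altOn P.SA →* H := ((MulAut.conj T).toMonoidHom.comp fA).comp cw
    have cyc_cw : ∀ x ∈ P.sA, cw (el _ (cyc P.a P.b x)) = (el P.SA (cyc P.a P.b x)) ^ Data.ex eS := fun x hx => by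
      rw [cw_el _ (cyc_mem P.hab P.hbA hx)]
      refine Subtype.ext ?_
      rw [el_coe (P.conj_mem (cyc_mem P.hab P.hbA hx) _), Subgroup.coe_zpow, el_coe (cyc_mem P.hab P.hbA hx),
        P.w_cyc eS x hx]
    have base : f (el _ (cyc P.a P.b P.c)) = f' (el _ (cyc P.a P.b P.c)) := by
      simp only [f, f', MonoidHom.comp_apply, MulEquiv.coe_toMonoidHom, MulAut.conj_apply, cyc_cw _ P.hc,
        map_zpow, hTi, hTc]
      have hk : S * fA (el _ (cyc P.a P.b P.c)) * S⁻¹ = fA (el _ (cyc P.a P.b P.c)) ^ Data.ex eS := by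
        rw [hS, ← map_inv, ← map_mul, ← map_mul, ← map_zpow]
        congr 1
        refine Subtype.ext ?_
        rw [Subgroup.coe_mul, Subgroup.coe_mul, Subgroup.coe_inv, Subgroup.coe_zpow, el_coe hsig,
          el_coe (cyc_mem P.hab P.hbA P.hc), show P.ρ = P.Φ (swap 1 2) from rfl,
          P.conj_cyc' _ _ _ (fun h => P.haA (h ▸ P.hc)) (fun h => P.hbA (h ▸ P.hc)), (P.Φ_abc _).2.2]
      rw [hk, ← zpow_mul, ← zpow_mul, mul_comm]
    have hgf : f (el _ g) = f' (el _ g) := by
      simp only [f, f', MonoidHom.comp_apply, MulEquiv.coe_toMonoidHom, MulAut.conj_apply, cw_el g hgA, hgw,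
        hTi]
      exact hgr
    have hca : P.a ∉ s' := fun h => P.haA (hs'A h)
    have hcb : P.b ∉ s' := fun h => P.hbA (hs'A h)
    have hcs : P.c ∈ s' := Finset.mem_insert_self _ _
    have := (orbit_induction P.hab hca hcb hgab htr (fun σ => σ ∈ altOn P.SA ∧ f (el _ σ) = f' (el _ σ)) hcs
      ⟨cyc_mem P.hab P.hbA P.hc, base⟩
      (fun σ hσ => ⟨inv_mem hσ.1, by rw [el_inv hσ.1, map_inv, map_inv, hσ.2]⟩)
      (fun σ hσ => ⟨mul_mem (mul_mem hgA hσ.1) (inv_mem hgA), by
        rw [el_conj hgA hσ.1, map_mul, map_mul, map_mul, map_mul, map_inv, map_inv, hgf, hσ.2]⟩) d hd).2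
    simp only [f, f', MonoidHom.comp_apply, MulEquiv.coe_toMonoidHom, MulAut.conj_apply, cyc_cw d (hs'A hd),
      map_zpow, hTi] at this
    exact this
  have hgenK : iA.range ⊔ Subgroup.closure {P.τ * P.w eT} = ⊤ := by
    refine (Subgroup.eq_top_iff' _).mpr fun q => ?_
    set K := iA.range ⊔ Subgroup.closure {P.τ * P.w eT}
    have ht : P.τ * P.w eT ∈ K := Subgroup.mem_sup_right (Subgroup.subset_closure rfl)
    have h1 := P.gen_model eT K (fun q hq => Subgroup.mem_sup_left ⟨⟨q, hq⟩, rfl⟩) ht
    rcases Int.units_eq_one_or (sign q) with h | h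
    · exact h1 q h
    · have := K.mul_mem (h1 (q * (P.τ * P.w eT)) (by rw [map_mul, h, htodd]; rfl)) (K.inv_mem ht)
      rwa [mul_inv_cancel_right] at this
  let third : FreeGroup (altOn P.SA ⊕ Unit) :=
    LK P (P.ρ * P.w eS) * (LT P * LK P g * LT P) * (LK P (P.ρ * P.w eS))⁻¹ * (LT P * LK P g * LT P)⁻¹
  refine (glue_pres hPres iA (P.τ * P.w eT) hgenK (E ++ [third]) (fun r hr => ?_)
    (fun H _ fA T π hπA hπT hg' hrel => ?_)).elim fun X ⟨L, hL, hXL, hX⟩ => ⟨X, L, hL.trans (by simp; omega), hXL, by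
      rw [show (1 : Fin 3) = Fin.castSucc (1 : Fin 2) from rfl, hX]
      exact hx1⟩
  · rcases List.mem_append.mp hr with h | h
    · exact hsat iA _ (MonoidHom.id _) Function.injective_id (fun _ => rfl) rfl r h
    · rw [List.mem_singleton.mp h]
      simp only [third, LK, LT, map_mul, map_inv, FreeGroup.lift_apply_of, Sum.elim_inl, Sum.elim_inr, iA,
        Subgroup.coe_subtype, el_coe hsig, el_coe hgA]
      rw [mul_inv_eq_one]
      have hinv : (P.τ * P.w eT)⁻¹ = P.τ * P.w eT :=
        inv_eq_of_mul_eq_one_right (P.invol _ (swap_mul_self _ _) _)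
      let f1 : Perm α →* Perm α :=
        (MulAut.conj (P.ρ * P.w eS)).toMonoidHom.comp (MulAut.conj (P.τ * P.w eT)).toMonoidHom
      let f2 : Perm α →* Perm α :=
        (MulAut.conj (P.τ * P.w eT)).toMonoidHom.comp (MulAut.conj (P.w eS)).toMonoidHom
      have hcl : g ∈ Subgroup.closure (cyc P.a P.b '' (s' : Set α)) :=
        mem_closure_cyc P.hab s' (fun h => P.haA (hs'A h)) (fun h => P.hbA (hs'A h)) g hg.1 hg.2
      have heq : Set.EqOn f1 f2 (cyc P.a P.b '' (s' : Set α)) := by
        rintro _ ⟨d, hd, rfl⟩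
        have hdA := hs'A (Finset.mem_coe.mp hd)
        have ha : d ≠ P.a := fun h => P.haA (h ▸ hdA)
        have hb : d ≠ P.b := fun h => P.hbA (h ▸ hdA)
        simp only [f1, f2, MonoidHom.comp_apply, MulEquiv.coe_toMonoidHom, MulAut.conj_apply]
        have hw : (P.w eS)⁻¹ = P.w eS := inv_eq_of_mul_eq_one_right (P.w_sq _)
        rw [hw, P.w_cyc eS d hdA, show P.τ = P.Φ (swap 0 1) from rfl, P.conj_cyc' _ eT d ha hb]
        simp only [← conj_zpow]
        rw [P.conj_cyc' _ eT d ha hb, show P.ρ = P.Φ (swap 1 2) from rfl]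
        simp only [Finset.coe_insert, Finset.coe_image, Set.mem_insert_iff, Set.mem_image, s'] at hd
        obtain ⟨z, hz, hz'⟩ : ∃ z, P.Φ (swap 0 1) d = z ∧ (P.Φ (swap 1 2) z = z ∧ z ≠ P.a ∧ z ≠ P.b) := by
          rcases hd with rfl | ⟨i, -, rfl⟩
          · exact ⟨_, (P.Φ_abc _).2.2, (P.Φ_abc _).2.2, ha, hb⟩
          · refine ⟨P.ι (0, i), by rw [P.Φ_iota]; simp, ?_, (P.hiota _).1, (P.hiota _).2.1⟩
            rw [P.Φ_iota]; simp [swap_apply_of_ne_of_ne]
        rw [hz, P.conj_cyc' _ eS z hz'.2.1 hz'.2.2, hz'.1, ← zpow_mul, ← zpow_mul, mul_comm]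
      have := MonoidHom.eqOn_closure heq hcl
      simp only [f1, f2, MonoidHom.comp_apply, MulEquiv.coe_toMonoidHom, MulAut.conj_apply] at this
      rw [inv_eq_of_mul_eq_one_right (P.w_sq eS), hgw, hinv] at this
      exact this
  · simp only [List.forall_mem_append, List.forall_mem_cons, List.not_mem_nil, false_imp_iff, implies_true,
      and_true] at hrel
    obtain ⟨hE', h3⟩ := hrel
    obtain ⟨hTT, hagree⟩ := hder fA T hE'
    simp only [third, LK, LT, map_mul, map_inv, FreeGroup.lift_apply_of, Sum.elim_inl, Sum.elim_inr,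
      mul_inv_eq_one] at h3
    obtain ⟨M, hKM, hTM, hker, hcov, hpar⟩ := span_eq P fA T π eT eS (fun q => by simp [hπA, iA]) hπT hTT hagree
      hsig (fun i => prop fA T hTT (hagree _ P.hc fun l => (P.hiota _).2.2) h3 _
        (Finset.mem_insert_of_mem (Finset.mem_image_of_mem _ (Finset.mem_univ i)))) hg'
    refine (injective_iff_map_eq_one π).mpr fun q hq => hker q ?_ hq
    rcases hcov q with h | h
    · exact h
    · have := hpar _ h
      rw [map_mul, hq, one_mul, hπT, htodd] at this
      exact absurd this (by decide)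

end Cfsg.Agent.ShortPresSeven
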