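import Cfsg.Agent.Lib.ShortPresSpCore

/-!
The two maps of `SL(n)` and `SL(2)` into the symplectic group and the rank-two identities between them.
-/

set_option autoImplicit false

namespace Cfsg.Agent.ShortPresSpModel

open Matrix PSL2Elements ShortPresSL ShortPresCn StemSLnTv ShortPresSpCore
open scoped MatrixGroups commutatorElement

variable {m : ℕ} {F : Type*} [Field F]

theorem levi_mem (g : SL(m + 2, F)) :
    fromBlocks g.1 0 0 (g⁻¹).1ᵀ ∈ Matrix.symplecticGroup (Fin (m + 2)) F := by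
  have h1 : g.1 * (g⁻¹).1 = 1 := by
    rw [← Matrix.SpecialLinearGroup.coe_mul, mul_inv_cancel]; rfl
  have h2 : (g⁻¹).1ᵀ * g.1ᵀ = 1 := by rw [← Matrix.transpose_mul, h1, Matrix.transpose_one]
  rw [SymplecticGroup.mem_iff, Matrix.J, fromBlocks_multiply, fromBlocks_transpose, fromBlocks_multiply]
  simp [-Matrix.SpecialLinearGroup.coe_inv, h1, h2]

/-- the Levi map -/
def sig : SL(m + 2, F) →* Matrix.symplecticGroup (Fin (m + 2)) F where
  toFun g := ⟨fromBlocks g.1 0 0 (g⁻¹).1ᵀ, levi_mem g⟩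
  map_one' := Subtype.ext (by simp [Matrix.fromBlocks_one])
  map_mul' g g' := Subtype.ext (by
    show fromBlocks (g * g').1 0 0 ((g * g')⁻¹).1ᵀ = fromBlocks g.1 0 0 (g⁻¹).1ᵀ * fromBlocks g'.1 0 0 (g'⁻¹).1ᵀ
    rw [fromBlocks_multiply, _root_.mul_inv_rev, Matrix.SpecialLinearGroup.coe_mul,
      Matrix.SpecialLinearGroup.coe_mul, Matrix.transpose_mul]
    simp)

/-- diagonal helper -/
def dg (a e : F) : Matrix (Fin (m + 2)) (Fin (m + 2)) F := diagonal fun i => if i = 0 then a else e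

theorem dg_mul (a e a' e' : F) : (dg a e * dg a' e' : Matrix (Fin (m + 2)) (Fin (m + 2)) F) = dg (a * a') (e * e') := by
  rw [dg, dg, dg, diagonal_mul_diagonal]; congr 1; funext i; split_ifs <;> rfl

theorem dg_add (a e a' e' : F) : (dg a e + dg a' e' : Matrix (Fin (m + 2)) (Fin (m + 2)) F) = dg (a + a') (e + e') := by
  rw [dg, dg, dg, diagonal_add]; congr 1; funext i; split_ifs <;> rfl

theorem dg_one : (dg 1 1 : Matrix (Fin (m + 2)) (Fin (m + 2)) F) = 1 := by simp [dg]

theorem dg_zero : (dg 0 0 : Matrix (Fin (m + 2)) (Fin (m + 2)) F) = 0 := by simp [dg]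

theorem dg_transpose (a e : F) : (dg a e : Matrix (Fin (m + 2)) (Fin (m + 2)) F)ᵀ = dg a e := diagonal_transpose _

theorem dg_neg (a e : F) : (-dg a e : Matrix (Fin (m + 2)) (Fin (m + 2)) F) = dg (-a) (-e) := by
  rw [dg, dg, diagonal_neg]; congr 1; funext i; split_ifs <;> rfl

/-- the matrix of the long map -/
def lmat (x : SL(2, F)) : Matrix (Idx (m + 2)) (Idx (m + 2)) F :=
  fromBlocks (dg (x.1 0 0) 1) (dg (x.1 0 1) 0) (dg (x.1 1 0) 0) (dg (x.1 1 1) 1)

theorem lmat_mem (x : SL(2, F)) : lmat (m := m) x ∈ Matrix.symplecticGroup (Fin (m + 2)) F := by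
  rw [SymplecticGroup.mem_iff, Matrix.J, lmat, fromBlocks_multiply, fromBlocks_transpose, fromBlocks_multiply]
  simp only [Matrix.mul_zero, Matrix.mul_one, Matrix.mul_neg, Matrix.neg_mul, zero_add, add_zero, dg_transpose,
    dg_mul, dg_neg, dg_add]
  rw [← dg_zero (m := m) (F := F), ← dg_one (m := m) (F := F), dg_neg]
  have := det_eq x
  congr 1 <;> congr 1 <;> first | linear_combination this | linear_combination -this | ring

/-- the long map -/
def lg : SL(2, F) →* Matrix.symplecticGroup (Fin (m + 2)) F where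
  toFun x := ⟨lmat x, lmat_mem x⟩
  map_one' := Subtype.ext (by simp [lmat, dg_one, dg_zero, Matrix.fromBlocks_one])
  map_mul' x y := Subtype.ext (by
    show lmat (x * y) = lmat x * lmat y
    simp [lmat, fromBlocks_multiply, dg_mul, dg_add, mul_apply2])

theorem sig_tv {i j : Fin (m + 2)} (hij : i ≠ j) (r : F) :
    (sig (tv i j r) : Matrix.symplecticGroup (Fin (m + 2)) F).1 = rmat (Sum.inl i) (Sum.inl j) r := by
  have hinv : (tv i j r : SL(m + 2, F))⁻¹ = tv i j (-r) :=
    inv_eq_of_mul_eq_one_right (by rw [← tv_add hij, add_neg_cancel, tv_zero])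
  show fromBlocks (tv i j r).1 0 0 ((tv i j r)⁻¹).1ᵀ = _
  rw [hinv]
  ext a b
  rcases a with a | a <;> rcases b with b | b <;>
    simp [tv, hij, Matrix.SpecialLinearGroup.transvection, Matrix.transvection, rmat, bar, sg, csgn,
      Matrix.single_apply, Matrix.one_apply, and_comm] <;> split_ifs <;> simp_all

theorem lg_u (r : F) : (lg (u r) : Matrix.symplecticGroup (Fin (m + 2)) F).1 = rmat (Sum.inl 0) (Sum.inr 0) r := by
  show lmat (u r) = _
  ext a b
  rcases a with a | a <;> rcases b with b | b <;>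
    simp [lmat, dg, u, rmat, bar, Matrix.single_apply, Matrix.one_apply, Matrix.diagonal_apply] <;>
    split_ifs <;> subst_vars <;> first | rfl | simp | simp_all | (rename_i h; exact absurd (h.1.symm.trans h.2) (by assumption))

theorem lg_lo (r : F) : (lg (lo r) : Matrix.symplecticGroup (Fin (m + 2)) F).1 = rmat (Sum.inr 0) (Sum.inl 0) r := by
  show lmat (lo r) = _
  ext a b
  rcases a with a | a <;> rcases b with b | b <;>
    simp [lmat, dg, lo, rmat, bar, Matrix.single_apply, Matrix.one_apply, Matrix.diagonal_apply] <;>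
    split_ifs <;> subst_vars <;> first | rfl | simp | simp_all | (rename_i h; exact absurd (h.1.symm.trans h.2) (by assumption))

theorem blk_commute {g : SL(m + 2, F)} (hg : Blk 0 g) (x : SL(2, F)) :
    Commute (sig g) (lg x : Matrix.symplecticGroup (Fin (m + 2)) F) := by
  have key : ∀ A : Matrix (Fin (m + 2)) (Fin (m + 2)) F, (∀ l, A l 0 = if l = 0 then 1 else 0) →
      (∀ l, A 0 l = if l = 0 then 1 else 0) → ∀ a e : F, A * dg a e = dg a e * A := by
    intro A hc hr a e
    ext i j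
    simp only [dg, Matrix.mul_diagonal, Matrix.diagonal_mul]
    by_cases hi : i = 0 <;> by_cases hj : j = 0 <;> subst_vars <;> simp [-Matrix.SpecialLinearGroup.coe_inv, *] <;> ring
  have hc : ∀ l, g.1 l 0 = if l = 0 then 1 else 0 := fun l => by
    rw [apply_eq, hg.1, Pi.single_apply]
  have hr : ∀ l, g.1 0 l = if l = 0 then 1 else 0 := fun l => by
    split_ifs with h
    · subst h; simpa using hc 0
    · exact hg.2 l h
  have hinv : Blk 0 g⁻¹ := by
    constructor
    · have e : (g⁻¹).1 *ᵥ (g.1 *ᵥ Pi.single 0 1) = Pi.single 0 1 := by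
        rw [← coe_mulVec, inv_mul_cancel]; exact Matrix.one_mulVec _
      rwa [hg.1] at e
    · intro l hl
      have e := congrArg (fun A : SL(m + 2, F) => A.1 0 l) (mul_inv_cancel g)
      simp only [Matrix.SpecialLinearGroup.coe_mul, Matrix.mul_apply, hr, ite_mul, one_mul, zero_mul,
        Finset.sum_ite_eq', Finset.mem_univ, if_true] at e
      rw [e]; exact Matrix.one_apply_ne hl.symm
  have hc' : ∀ l, (g⁻¹).1ᵀ 0 l = if l = 0 then 1 else 0 := fun l => by
    rw [Matrix.transpose_apply, apply_eq, hinv.1, Pi.single_apply]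
  have hr' : ∀ l, (g⁻¹).1ᵀ l 0 = if l = 0 then 1 else 0 := fun l => by
    split_ifs with h
    · subst h; simpa using hc' 0
    · exact hinv.2 l h
  refine Subtype.ext ?_
  show fromBlocks g.1 0 0 (g⁻¹).1ᵀ * lmat x = lmat x * fromBlocks g.1 0 0 (g⁻¹).1ᵀ
  have k1 := key g.1 hc hr
  have k2 := key _ hr' hc'
  have h00 : (g⁻¹).1 0 0 = 1 := by simpa [-Matrix.SpecialLinearGroup.coe_inv] using hc' 0
  have e : ∀ b : F, g.1 * dg b 0 = dg b 0 ∧ (g⁻¹).1ᵀ * dg b 0 = dg b 0 ∧
      dg b 0 * g.1 = dg b 0 ∧ dg b 0 * (g⁻¹).1ᵀ = dg b 0 := by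
    intro b
    refine ⟨?_, ?_, ?_, ?_⟩ <;> ext i j <;>
      simp only [dg, Matrix.mul_diagonal, Matrix.diagonal_mul, Matrix.diagonal_apply] <;>
      by_cases hi : i = 0 <;> by_cases hj : j = 0 <;> subst_vars <;>
      simp [-Matrix.SpecialLinearGroup.coe_inv, -Matrix.transpose_apply, *, eq_comm]
  simp [-Matrix.SpecialLinearGroup.coe_inv, lmat, fromBlocks_multiply, k1, k2, e]

/-- monomial image in the model -/
def Img (g : Matrix.symplecticGroup (Fin (m + 2)) F) (τ : Equiv.Perm (Idx (m + 2))) (μ : Idx (m + 2) → F) : Prop :=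
  ∀ x y, g.1 *ᵥ Pi.single x y = Pi.single (τ x) (μ x * y)

theorem conj_model {g : Matrix.symplecticGroup (Fin (m + 2)) F} {τ : Equiv.Perm (Idx (m + 2))}
    {μ : Idx (m + 2) → F} (hM : Img g τ μ) (hb : ∀ x, τ (bar x) = bar (τ x))
    (hμ : ∀ x, μ x * μ (bar x) * csgn (τ x) = csgn x) {x : Matrix.symplecticGroup (Fin (m + 2)) F}
    {p q : Idx (m + 2)} (r c : F) (hx : x.1 = rmat p q r) (hc : μ q * c = μ p * r) :
    (g * x * g⁻¹).1 = rmat (τ p) (τ q) c := by
  have e := conj_rmat hM hb hμ r c hc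
  rw [Submonoid.coe_mul, Submonoid.coe_mul, hx, e, Matrix.mul_assoc, ← Submonoid.coe_mul, mul_inv_cancel]
  exact Matrix.mul_one _

/-- scalars of the swap of the first two indices -/
def ms (x : Idx (m + 2)) : F := if x = Sum.inl 1 ∨ x = Sum.inr 1 then -1 else 1

theorem img_swap {a b : Fin (m + 2)} (hab : a ≠ b) : Img (sig (om a b (1 : F)) : Matrix.symplecticGroup (Fin (m + 2)) F)
    (Equiv.sumCongr (Equiv.swap a b) (Equiv.swap a b))
    (fun x => if x = Sum.inl a ∨ x = Sum.inr a then -1 else 1) := by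
  intro x y
  funext z
  simp only [om, map_mul, Submonoid.coe_mul, sig_tv hab, sig_tv hab.symm, ← Matrix.mulVec_mulVec,
    rmat_mulVec, Pi.single_apply]
  rcases x with i | i <;> rcases z with k | k <;>
    simp [bar, sg, csgn, Equiv.swap_apply_def, hab, hab.symm] <;>
    split_ifs <;> subst_vars <;> simp_all

theorem img_om : Img (sig (om 1 0 (1 : F)) : Matrix.symplecticGroup (Fin (m + 2)) F)
    (Equiv.sumCongr (Equiv.swap 1 0) (Equiv.swap 1 0)) ms :=
  img_swap (by simp)

theorem ms_form (x : Idx (m + 2)) :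
    (ms x : F) * ms (bar x) * csgn (Equiv.sumCongr (Equiv.swap 1 0) (Equiv.swap 1 0) x) = csgn x := by
  rcases x with i | i <;> by_cases h : i = 1 <;> simp [bar, ms, csgn, h]

theorem l1_u (r : F) : (sig (om 1 0 (1 : F)) * lg (u r) * (sig (om 1 0 (1 : F)))⁻¹ :
    Matrix.symplecticGroup (Fin (m + 2)) F).1 = rmat (Sum.inl 1) (Sum.inr 1) r := by
  have := conj_model (m := m) img_om (sigma_bar _) ms_form r r (lg_u r) (by simp [ms])
  simpa using this

theorem l1_lo (r : F) : (sig (om 1 0 (1 : F)) * lg (lo r) * (sig (om 1 0 (1 : F)))⁻¹ :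
    Matrix.symplecticGroup (Fin (m + 2)) F).1 = rmat (Sum.inr 1) (Sum.inl 1) r := by
  have := conj_model (m := m) img_om (sigma_bar _) ms_form r r (lg_lo r) (by simp [ms])
  simpa using this

/-- second long map -/
def lg1 : SL(2, F) →* Matrix.symplecticGroup (Fin (m + 2)) F :=
  (MulAut.conj (sig (om 1 0 1))).toMonoidHom.comp lg

theorem lg1_u (r : F) : (lg1 (u r) : Matrix.symplecticGroup (Fin (m + 2)) F).1 = rmat (Sum.inl 1) (Sum.inr 1) r :=
  l1_u r

theorem lg1_lo (r : F) : (lg1 (lo r) : Matrix.symplecticGroup (Fin (m + 2)) F).1 = rmat (Sum.inr 1) (Sum.inl 1) r :=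
  l1_lo r

theorem img_lgW (i : Fin (m + 2)) (f : SL(2, F) →* Matrix.symplecticGroup (Fin (m + 2)) F)
    (hu : ∀ r, (f (u r)).1 = rmat (Sum.inl i) (Sum.inr i) r) (hl : ∀ r, (f (lo r)).1 = rmat (Sum.inr i) (Sum.inl i) r) :
    Img (f SL2PresData.W) (Equiv.swap (Sum.inl i) (Sum.inr i)) (wsgn i) := by
  intro x y
  funext z
  simp only [W_eq, map_mul, Submonoid.coe_mul, hu, hl, ← Matrix.mulVec_mulVec, rmat_mulVec, Pi.single_apply]
  rcases x with j | j <;> rcases z with l | l <;>
    simp [bar, wsgn, Equiv.swap_apply_def] <;>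
    split_ifs <;> subst_vars <;> simp_all

/-- scalars of a long torus element -/
def tsgn (i : Fin (m + 2)) (t : F) (x : Idx (m + 2)) : F :=
  if x = Sum.inl i then t else if x = Sum.inr i then t⁻¹ else 1

theorem img_lgd (i : Fin (m + 2)) (t : Fˣ) (f : SL(2, F) →* Matrix.symplecticGroup (Fin (m + 2)) F)
    (hu : ∀ r, (f (u r)).1 = rmat (Sum.inl i) (Sum.inr i) r) (hl : ∀ r, (f (lo r)).1 = rmat (Sum.inr i) (Sum.inl i) r) :
    Img (f (d t)) 1 (tsgn i (t : F)) := by
  have e : (d t : SL(2, F)) = (u (t : F) * lo (-(t : F)⁻¹) * u (t : F)) * (u (-1) * lo 1 * u (-1)) := by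
    apply ext2 <;> simp [d, u, lo, mul_apply2]
  intro x y
  funext z
  rw [e]
  simp only [map_mul, Submonoid.coe_mul, hu, hl, ← Matrix.mulVec_mulVec, rmat_mulVec, Pi.single_apply,
    Equiv.Perm.one_apply]
  rcases x with j | j <;> rcases z with l | l <;>
    simp [bar, tsgn] <;> split_ifs <;> subst_vars <;> simp_all

theorem long_commute (x y : SL(2, F)) : Commute (lg x : Matrix.symplecticGroup (Fin (m + 2)) F) (lg1 y) := by
  have h01 : (0 : Fin (m + 2)) ≠ 1 := by simp
  have h : ∀ (p q p' q' : Idx (m + 2)) (r s : F), q = bar p → q' = bar p' → idx p = 0 → idx p' = 1 →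
      rmat p q r * rmat p' q' s = rmat p' q' s * rmat p q r := by
    intro p q p' q' r s h1 h2 h3 h4
    subst h1 h2
    have n : ∀ a b : Idx (m + 2), idx a = 0 → idx b = 1 → a ≠ b := fun a b ha hb e => h01 (by rw [← ha, e, hb])
    have b0 : idx (bar p) = 0 := by rcases p with i | i <;> exact h3
    have b1 : idx (bar p') = 1 := by rcases p' with i | i <;> exact h4
    simp [rmat, Matrix.add_mul, Matrix.mul_add, Matrix.single_mul_single_of_ne _ _ _ _ (n _ _ b0 h4),
      Matrix.single_mul_single_of_ne _ _ _ _ (n _ _ h3 b1).symm, add_assoc, add_comm, add_left_comm]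
  have key : ∀ y, (∀ s, Commute (lg (u s) : Matrix.symplecticGroup (Fin (m + 2)) F) (lg1 y)) ∧
      ∀ s, Commute (lg (lo s) : Matrix.symplecticGroup (Fin (m + 2)) F) (lg1 y) := by
    intro y
    constructor <;> intro s
    · refine Subgroup.mem_centralizer_singleton_iff.mp ?_ |>.symm
      have : ((Subgroup.centralizer {(lg (u s) : Matrix.symplecticGroup (Fin (m + 2)) F)}).comap lg1) = ⊤ :=
        sl2_top' _ (fun r => Subgroup.mem_centralizer_singleton_iff.mpr (Subtype.ext (by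
          rw [Submonoid.coe_mul, Submonoid.coe_mul, lg_u, lg1_u]; exact (h _ _ _ _ _ _ rfl rfl rfl rfl).symm)))
          fun r => Subgroup.mem_centralizer_singleton_iff.mpr (Subtype.ext (by
          rw [Submonoid.coe_mul, Submonoid.coe_mul, lg_u, lg1_lo]; exact (h _ _ _ _ _ _ rfl rfl rfl rfl).symm))
      exact (this ▸ Subgroup.mem_top y : y ∈ _)
    · refine Subgroup.mem_centralizer_singleton_iff.mp ?_ |>.symm
      have : ((Subgroup.centralizer {(lg (lo s) : Matrix.symplecticGroup (Fin (m + 2)) F)}).comap lg1) = ⊤ :=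
        sl2_top' _ (fun r => Subgroup.mem_centralizer_singleton_iff.mpr (Subtype.ext (by
          rw [Submonoid.coe_mul, Submonoid.coe_mul, lg_lo, lg1_u]; exact (h _ _ _ _ _ _ rfl rfl rfl rfl).symm)))
          fun r => Subgroup.mem_centralizer_singleton_iff.mpr (Subtype.ext (by
          rw [Submonoid.coe_mul, Submonoid.coe_mul, lg_lo, lg1_lo]; exact (h _ _ _ _ _ _ rfl rfl rfl rfl).symm))
      exact (this ▸ Subgroup.mem_top y : y ∈ _)
  refine (Subgroup.mem_centralizer_singleton_iff.mp ?_)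
  have : ((Subgroup.centralizer {(lg1 y : Matrix.symplecticGroup (Fin (m + 2)) F)}).comap lg) = ⊤ :=
    sl2_top' _ (fun r => Subgroup.mem_centralizer_singleton_iff.mpr ((key y).1 r))
      fun r => Subgroup.mem_centralizer_singleton_iff.mpr ((key y).2 r)
  exact (this ▸ Subgroup.mem_top x : x ∈ _)

theorem img_hh {i j : Fin (m + 2)} (hij : i ≠ j) {t : F} (ht : t ≠ 0) :
    Img (sig (hh i j t) : Matrix.symplecticGroup (Fin (m + 2)) F) 1
      (Sum.elim (fun l => if l = i then t else if l = j then t⁻¹ else 1)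
        (fun l => if l = i then t⁻¹ else if l = j then t else 1)) := by
  intro x y
  funext z
  rw [hh, om_inv hij one_ne_zero]
  simp only [om, map_mul, Submonoid.coe_mul, sig_tv hij, sig_tv hij.symm, ← Matrix.mulVec_mulVec,
    rmat_mulVec, Pi.single_apply, Equiv.Perm.one_apply]
  rcases x with k | k <;> rcases z with l | l <;>
    simp [bar, sg, csgn, hij, hij.symm] <;> split_ifs <;> subst_vars <;> simp_all <;> field_simp <;> ring

theorem split_model (t : Fˣ) :
    (sig (hh 0 1 (t : F)) : Matrix.symplecticGroup (Fin (m + 2)) F) = lg (d t) * lg1 (d t⁻¹) := by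
  have h01 : (0 : Fin (m + 2)) ≠ 1 := by simp
  refine SymplecticBasic.ext_smul_single fun b => ?_
  show (sig (hh 0 1 (t : F)) : Matrix.symplecticGroup (Fin (m + 2)) F).1 *ᵥ Pi.single b 1 =
    (lg (d t) * lg1 (d t⁻¹) : Matrix.symplecticGroup (Fin (m + 2)) F).1 *ᵥ Pi.single b 1
  rw [img_hh h01 t.ne_zero, Submonoid.coe_mul, ← Matrix.mulVec_mulVec, img_lgd (m := m) 1 t⁻¹ lg1 lg1_u lg1_lo b 1,
    Equiv.Perm.one_apply, img_lgd (m := m) 0 t lg lg_u lg_lo b _, Equiv.Perm.one_apply]
  congr 1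
  rcases b with k | k <;> by_cases h : k = 0 <;> by_cases h' : k = 1 <;>
    simp [tsgn, h, h', h01, h01.symm]
  all_goals exact absurd (h.symm.trans h') h01

theorem tor_model (t : Fˣ) (r : F) :
    (lg (d t) * sig (tv 0 1 r) * (lg (d t))⁻¹ : Matrix.symplecticGroup (Fin (m + 2)) F) =
      sig (tv 0 1 ((t : F) * r)) := by
  have h01 : (0 : Fin (m + 2)) ≠ 1 := by simp
  refine Subtype.ext ?_
  rw [sig_tv h01, conj_model (τ := 1) (img_lgd (m := m) 0 t lg lg_u lg_lo) (fun _ => rfl) ?_ r ((t : F) * r)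
    (sig_tv h01 r) (by simp [tsgn])]
  · rfl
  · intro x; rcases x with i | i <;> by_cases h : i = 0 <;> simp [bar, tsgn, csgn, h]

theorem flip_model (r : F) :
    (lg SL2PresData.W * lg1 SL2PresData.W * sig (tv 0 1 r) * (lg SL2PresData.W * lg1 SL2PresData.W)⁻¹ :
      Matrix.symplecticGroup (Fin (m + 2)) F) = sig (tv 1 0 (-r)) := by
  have h01 : (0 : Fin (m + 2)) ≠ 1 := by simp
  set A : Matrix.symplecticGroup (Fin (m + 2)) F := lg SL2PresData.W
  set B : Matrix.symplecticGroup (Fin (m + 2)) F := lg1 SL2PresData.W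
  set X : Matrix.symplecticGroup (Fin (m + 2)) F := sig (tv 0 1 r)
  have h1 := conj_model (x := X) (img_lgW (m := m) 1 lg1 lg1_u lg1_lo) (swap_bar 1) (wsgn_form 1) r (-r)
    (sig_tv h01 r) (by simp [wsgn, h01])
  have h2 := conj_model (x := B * X * B⁻¹) (img_lgW (m := m) 0 lg lg_u lg_lo) (swap_bar 0) (wsgn_form 0) (-r) r
    h1 (by simp [wsgn, Equiv.swap_apply_of_ne_of_ne, h01, h01.symm])
  refine Subtype.ext ?_
  rw [sig_tv h01.symm, show A * B * X * (A * B)⁻¹ = A * (B * X * B⁻¹) * A⁻¹ by group]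
  refine h2.trans ?_
  simp only [Equiv.swap_apply_of_ne_of_ne, ne_eq, Sum.inl.injEq, h01, h01.symm, not_false_iff, reduceCtorEq,
    Equiv.swap_apply_left, Equiv.swap_apply_right]
  simp [Equiv.swap_apply_of_ne_of_ne, h01, h01.symm]
  have := rmat_alias (p := (Sum.inr 0 : Idx (m + 2))) (q := Sum.inr 1) r
  simp only [bar, Sum.swap_inr, sg, csgn, Sum.elim_inr] at this
  rw [show rmat (Sum.inl 1) (Sum.inl 0) (-r) = rmat (bar (Sum.inr 1 : Idx (m + 2))) (bar (Sum.inr 0)) (-r) from rfl,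
    rmat_alias]
  simp [sg, csgn]

theorem rel_a_model (r s : F) : Commute (sig (tv 0 1 r)) (lg (u s) : Matrix.symplecticGroup (Fin (m + 2)) F) := by
  have h01 : (0 : Fin (m + 2)) ≠ 1 := by simp
  refine Subtype.ext ?_
  rw [Submonoid.coe_mul, Submonoid.coe_mul, sig_tv h01, lg_u]
  simp [rmat, bar, Matrix.add_mul, Matrix.mul_add, Matrix.single_mul_single_of_ne, h01, h01.symm, add_assoc,
    add_comm, add_left_comm]

theorem rel_b_model (r s : F) :
    ⁅(sig (tv 0 1 r) : Matrix.symplecticGroup (Fin (m + 2)) F), (lg1 (u s) : Matrix.symplecticGroup (Fin (m + 2)) F)⁆ =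
      lg1 SL2PresData.W * sig (tv 0 1 (-(r * s))) * (lg1 SL2PresData.W)⁻¹ * lg (u (r * r * s)) := by
  have h01 : (0 : Fin (m + 2)) ≠ 1 := by simp
  have hV := conj_model (x := sig (tv 0 1 (-(r * s)))) (img_lgW (m := m) 1 lg1 lg1_u lg1_lo) (swap_bar 1)
    (wsgn_form 1) (-(r * s)) (r * s) (sig_tv h01 _) (by simp [wsgn, h01])
  rw [commutatorElement_def, mul_inv_eq_iff_eq_mul, mul_inv_eq_iff_eq_mul]
  refine Subtype.ext ?_
  simp only [Submonoid.coe_mul] at hV ⊢
  rw [sig_tv h01, lg1_u, lg_u, hV]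
  simp [rmat, bar, sg, csgn, Equiv.swap_apply_of_ne_of_ne, h01, h01.symm, Matrix.add_mul, Matrix.mul_add,
    Matrix.single_mul_single_same, Matrix.single_mul_single_of_ne]
  ext a b
  simp [Matrix.single_apply]
  split_ifs <;> simp_all <;> ring

end Cfsg.Agent.ShortPresSpModel
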