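import Cfsg.Agent.Lib.ShortPresSpCore

/-!
All rank-two identities of type `C` follow from a handful of single identities.
-/

set_option autoImplicit false

namespace Cfsg.Agent.ShortPresSpRels

open Matrix PSL2Elements ShortPresSL ShortPresCn StemSLnTv ShortPresSpCore
open scoped MatrixGroups commutatorElement

/-- finitely many identities -/
structure Rel (H : Type*) [Group H] (m : ℕ) (F : Type*) [Field F] (ζ : Fˣ) (a2 b2 : SL(2, F))
    (S : List SL(m + 2, F)) where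
  σ : SL(m + 2, F) →* H
  L : SL(2, F) →* H
  π : H →* Matrix.symplecticGroup (Fin (m + 2)) F
  π_σ : ∀ i j : Fin (m + 2), i ≠ j → ∀ r, (π (σ (tv i j r))).1 = rmat (Sum.inl i) (Sum.inl j) r
  π_u : ∀ r, (π (L (u r))).1 = rmat (Sum.inl 0) (Sum.inr 0) r
  π_lo : ∀ r, (π (L (lo r))).1 = rmat (Sum.inr 0) (Sum.inl 0) r
  gen : σ.range ⊔ L.range = ⊤
  blk_rel : ∀ g ∈ S, ∀ x ∈ [a2, b2], Commute (σ g) (L x)
  long_rel : ∀ x ∈ [a2, b2], ∀ y ∈ [a2, b2], Commute (L x) (σ (om 1 0 1) * L y * (σ (om 1 0 1))⁻¹)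
  split_rel : σ (hh 0 1 (ζ : F)) = L (d ζ) * (σ (om 1 0 1) * L (d ζ⁻¹) * (σ (om 1 0 1))⁻¹)
  tor_rel : L (d ζ) * σ (tv 0 1 1) * (L (d ζ))⁻¹ = σ (tv 0 1 (ζ : F))
  flip_rel : L SL2PresData.W * (σ (om 1 0 1) * L SL2PresData.W * (σ (om 1 0 1))⁻¹) * σ (tv 0 1 1) *
    (L SL2PresData.W * (σ (om 1 0 1) * L SL2PresData.W * (σ (om 1 0 1))⁻¹))⁻¹ = σ (tv 1 0 (-1))
  a_rel : Commute (σ (tv 0 1 1)) (L (u 1))
  b_rel : ⁅σ (tv 0 1 1), σ (om 1 0 1) * L (u 1) * (σ (om 1 0 1))⁻¹⁆ =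
    σ (om 1 0 1) * L SL2PresData.W * (σ (om 1 0 1))⁻¹ * σ (tv 0 1 (-1)) *
      (σ (om 1 0 1) * L SL2PresData.W * (σ (om 1 0 1))⁻¹)⁻¹ * L (u 1)

section Field
variable {F : Type*} [Field F] [Fintype F]

/-- squares span additively -/
theorem square_span {P : F → Prop} (h0 : P 0) (ha : ∀ a b, P a → P b → P (a + b)) (hn : ∀ a, P a → P (-a))
    (hs : ∀ a, a ≠ 0 → P (a * a)) (x : F) : P x := by
  have hs' : ∀ a, P (a * a) := fun a => by
    by_cases h : a = 0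
    · subst h; rw [mul_zero]; exact h0
    · exact hs a h
  by_cases h2 : (2 : F) = 0
  · obtain ⟨a, rfl⟩ := FiniteField.isSquare_of_char_two
      (CharP.ringChar_of_prime_eq_zero Nat.prime_two (by exact_mod_cast h2) : ringChar F = 2) x
    exact hs' a
  · have e : x = ((x + 1) / 2) * ((x + 1) / 2) + -(((x - 1) / 2) * ((x - 1) / 2)) := by
      field_simp; ring
    rw [e]
    exact ha _ _ (hs' _) (hn _ (hs' _))

theorem units_pow {ζ : Fˣ} (hζ : ∀ y, y ∈ Subgroup.zpowers ζ) (t : Fˣ) : ∃ k : ℕ, ζ ^ k = t := by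
  have := (isOfFinOrder_of_finite ζ).mem_powers_iff_mem_zpowers.mpr (hζ t)
  exact Submonoid.mem_powers_iff _ _ |>.mp this

end Field

variable {H : Type*} [Group H] {m : ℕ} {F : Type*} [Field F] {ζ : Fˣ} {a2 b2 : SL(2, F)}
  {S : List SL(m + 2, F)} (D : Rel H m F ζ a2 b2 S)

/-- the second long map -/
def Rel.L1 : SL(2, F) →* H := (MulAut.conj (D.σ (om 1 0 1))).toMonoidHom.comp D.L

theorem L1_apply (x : SL(2, F)) : D.L1 x = D.σ (om 1 0 1) * D.L x * (D.σ (om 1 0 1))⁻¹ := rfl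

/-- the third short root -/
def Rel.V (v : F) : H := D.L1 SL2PresData.W * D.σ (tv 0 1 v) * (D.L1 SL2PresData.W)⁻¹

theorem h01 : (0 : Fin (m + 2)) ≠ 1 := by simp

theorem hh_mul {s t : F} (hs : s ≠ 0) (ht : t ≠ 0) :
    hh (0 : Fin (m + 2)) 1 (s * t) = hh 0 1 s * hh 0 1 t := by
  refine ext_single fun l x => ?_
  rw [hh_single h01 (mul_ne_zero hs ht), coe_mulVec, hh_single h01 ht]
  split_ifs with h1 h2
  · subst h1; rw [hh_single h01 hs, if_pos rfl, mul_assoc]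
  · subst h2; rw [hh_single h01 hs, if_neg h01.symm, if_pos rfl, ← mul_assoc, mul_inv]
  · rw [hh_single h01 hs, if_neg h1, if_neg h2]

theorem hh_one : hh (0 : Fin (m + 2)) 1 (1 : F) = 1 := mul_inv_cancel _

theorem hh_tv (t : Fˣ) (r : F) :
    hh (0 : Fin (m + 2)) 1 (t : F) * tv 0 1 r * (hh 0 1 (t : F))⁻¹ = tv 0 1 ((t : F) * t * r) := by
  have ht := t.ne_zero
  have hb : Maps (hh (0 : Fin (m + 2)) 1 (t : F)) 1 1 (t : F)⁻¹ := by
    refine ⟨by rw [hh_single h01 ht, if_neg h01.symm, if_pos rfl, mul_one], fun l hl => ?_⟩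
    rw [apply_eq, hh_single h01 ht, if_neg hl]
    split_ifs
    · exact Pi.single_eq_of_ne h01.symm _
    · exact Pi.single_eq_of_ne hl.symm _
  rw [conj_tv h01 h01 (hh_maps h01 ht) hb, inv_inv]

variable [Fintype F]

theorem gen_commute {G : Type*} [Group G] (hgen2 : Subgroup.closure ({a2, b2} : Set SL(2, F)) = ⊤)
    (f : SL(2, F) →* G) (z : G) (h : ∀ x ∈ [a2, b2], Commute z (f x)) (x : SL(2, F)) : Commute z (f x) := by
  have : (Subgroup.centralizer {z}).comap f = ⊤ := by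
    rw [eq_top_iff, ← hgen2, Subgroup.closure_le]
    rintro y (rfl | rfl) <;> exact Subgroup.mem_centralizer_singleton_iff.mpr (h _ (by simp)).symm
  exact (Subgroup.mem_centralizer_singleton_iff.mp (this ▸ Subgroup.mem_top x : x ∈ (Subgroup.centralizer {z}).comap f)).symm

theorem hW (t : Fˣ) : SL2PresData.W * d t * (SL2PresData.W)⁻¹ = (d t⁻¹ : SL(2, F)) := by
  rw [mul_inv_eq_iff_eq_mul]
  apply ext2 <;> simp [SL2PresData.W, d, mul_apply2]

theorem V_add (a b : F) : D.V (a + b) = D.V a * D.V b := by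
  simp only [Rel.V, tv_add h01, map_mul]; group

variable (hζ : ∀ y, y ∈ Subgroup.zpowers ζ) (hgen2 : Subgroup.closure ({a2, b2} : Set SL(2, F)) = ⊤)
include hgen2

theorem long_comm (x y : SL(2, F)) : Commute (D.L x) (D.L1 y) := by
  refine gen_commute (a2 := a2) (b2 := b2) hgen2 D.L1 (D.L x) (fun y hy => ?_) y
  exact (gen_commute (a2 := a2) (b2 := b2) hgen2 D.L _ (fun x hx => (D.long_rel x hx y hy).symm) x).symm

include hζ

theorem split (t : Fˣ) : D.σ (hh 0 1 (t : F)) = D.L (d t) * D.L1 (d t⁻¹) := by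
  obtain ⟨k, rfl⟩ := units_pow hζ t
  induction k with
  | zero => rw [pow_zero, inv_one, d_one, map_one, map_one, Units.val_one, hh_one, map_one, one_mul]
  | succ k ih =>
    rw [pow_succ, Units.val_mul, hh_mul (Units.ne_zero _) ζ.ne_zero, map_mul, ih, D.split_rel, ← L1_apply,
      mul_inv, ← d_mul, ← d_mul, map_mul, map_mul]
    exact (long_comm D hgen2 (d ζ) (d (ζ ^ k)⁻¹)).symm.mul_mul_mul_comm _ _

theorem tor_L (t : Fˣ) (x : SL(2, F)) :
    D.σ (hh 0 1 (t : F)) * D.L x * (D.σ (hh 0 1 (t : F)))⁻¹ = D.L (d t * x * (d t)⁻¹) := by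
  rw [split D hζ hgen2, map_mul, map_mul, map_inv]
  have c := (long_comm D hgen2 x (d t⁻¹)).eq
  calc D.L (d t) * D.L1 (d t⁻¹) * D.L x * (D.L (d t) * D.L1 (d t⁻¹))⁻¹
      = D.L (d t) * (D.L1 (d t⁻¹) * D.L x) * (D.L1 (d t⁻¹))⁻¹ * (D.L (d t))⁻¹ := by group
    _ = _ := by rw [← c]; group

theorem hh_L_comm (t t' : Fˣ) : Commute (D.L (d t)) (D.σ (hh 0 1 (t' : F))) := by
  rw [split D hζ hgen2]
  refine Commute.mul_right (Commute.map ?_ _) (long_comm D hgen2 _ _)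
  rw [Commute, SemiconjBy, d_mul, d_mul, mul_comm]

theorem long_tor (t : Fˣ) (r : F) :
    D.L (d t) * D.σ (tv 0 1 r) * (D.L (d t))⁻¹ = D.σ (tv 0 1 ((t : F) * r)) := by
  have base : ∀ r, D.L (d ζ) * D.σ (tv 0 1 r) * (D.L (d ζ))⁻¹ = D.σ (tv 0 1 ((ζ : F) * r)) := by
    intro r
    refine square_span (P := fun r => D.L (d ζ) * D.σ (tv 0 1 r) * (D.L (d ζ))⁻¹ = D.σ (tv 0 1 ((ζ : F) * r)))
      ?_ ?_ ?_ ?_ r
    · simp [tv_zero]
    · intro a b ha hb
      rw [tv_add h01, map_mul, mul_add, tv_add h01, map_mul, ← ha, ← hb]; group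
    · intro a ha
      have e : ∀ a : F, D.σ (tv 0 1 (-a)) = (D.σ (tv 0 1 a))⁻¹ := fun a => by
        rw [← map_inv]; congr 1
        rw [eq_comm, inv_eq_iff_mul_eq_one, ← tv_add h01, add_neg_cancel, tv_zero]
      rw [e, mul_neg, e, ← ha]; group
    · intro a ha
      obtain ⟨t, rfl⟩ : ∃ t : Fˣ, (t : F) = a := ⟨Units.mk0 a ha, rfl⟩
      have c := (hh_L_comm D hζ hgen2 ζ t).eq
      have e1 : D.σ (tv 0 1 ((t : F) * t)) = D.σ (hh 0 1 (t : F)) * D.σ (tv 0 1 1) * (D.σ (hh 0 1 (t : F)))⁻¹ := by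
        rw [← map_inv, ← map_mul, ← map_mul, hh_tv, mul_one]
      have e2 : D.σ (tv 0 1 ((ζ : F) * ((t : F) * t))) =
          D.σ (hh 0 1 (t : F)) * D.σ (tv 0 1 (ζ : F)) * (D.σ (hh 0 1 (t : F)))⁻¹ := by
        rw [← map_inv, ← map_mul, ← map_mul, hh_tv, mul_comm ((t : F) * t)]
      rw [e1, e2, ← D.tor_rel]
      calc D.L (d ζ) * (D.σ (hh 0 1 (t : F)) * D.σ (tv 0 1 1) * (D.σ (hh 0 1 (t : F)))⁻¹) * (D.L (d ζ))⁻¹
          = (D.L (d ζ) * D.σ (hh 0 1 (t : F))) * D.σ (tv 0 1 1) * (D.L (d ζ) * D.σ (hh 0 1 (t : F)))⁻¹ := by group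
        _ = _ := by rw [c]; group
  obtain ⟨k, rfl⟩ := units_pow hζ t
  induction k generalizing r with
  | zero => simp [d_one]
  | succ k ih =>
    rw [pow_succ, ← d_mul, map_mul]
    calc D.L (d (ζ ^ k)) * D.L (d ζ) * D.σ (tv 0 1 r) * (D.L (d (ζ ^ k)) * D.L (d ζ))⁻¹
        = D.L (d (ζ ^ k)) * (D.L (d ζ) * D.σ (tv 0 1 r) * (D.L (d ζ))⁻¹) * (D.L (d (ζ ^ k)))⁻¹ := by group
      _ = _ := by rw [base, ih, Units.val_mul, mul_assoc]

theorem second_tor (t : Fˣ) (r : F) :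
    D.L1 (d t) * D.σ (tv 0 1 r) * (D.L1 (d t))⁻¹ = D.σ (tv 0 1 ((t : F)⁻¹ * r)) := by
  have e : D.L1 (d t) = D.L (d t) * D.σ (hh 0 1 ((t⁻¹ : Fˣ) : F)) := by
    rw [split D hζ hgen2, inv_inv, ← mul_assoc, ← map_mul, d_mul, mul_inv_cancel, d_one, map_one, one_mul]
  rw [e]
  calc D.L (d t) * D.σ (hh 0 1 ((t⁻¹ : Fˣ) : F)) * D.σ (tv 0 1 r) * (D.L (d t) * D.σ (hh 0 1 ((t⁻¹ : Fˣ) : F)))⁻¹
      = D.L (d t) * (D.σ (hh 0 1 ((t⁻¹ : Fˣ) : F)) * D.σ (tv 0 1 r) * (D.σ (hh 0 1 ((t⁻¹ : Fˣ) : F)))⁻¹) *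
          (D.L (d t))⁻¹ := by group
    _ = _ := by
      rw [← map_inv, ← map_mul, ← map_mul, hh_tv, long_tor D hζ hgen2]
      congr 2
      push_cast
      have := t.ne_zero
      field_simp

/-- conjugation by the torus -/
theorem K_act (t1 t2 : Fˣ) : ∀ r s : F,
    MulAut.conj (D.L (d t1) * D.L1 (d t2)) (D.σ (tv 0 1 r)) = D.σ (tv 0 1 ((t1 : F) * ((t2 : F)⁻¹ * r))) ∧
    MulAut.conj (D.L (d t1) * D.L1 (d t2)) (D.L (u s)) = D.L (u ((t1 : F) ^ 2 * s)) ∧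
    MulAut.conj (D.L (d t1) * D.L1 (d t2)) (D.L1 (u s)) = D.L1 (u ((t2 : F) ^ 2 * s)) := by
  intro r s
  refine ⟨?_, ?_, ?_⟩
  · rw [map_mul, MulAut.mul_apply, MulAut.conj_apply, MulAut.conj_apply, second_tor D hζ hgen2,
      long_tor D hζ hgen2]
  · rw [map_mul, MulAut.mul_apply, MulAut.conj_apply, MulAut.conj_apply, (long_comm D hgen2 (u s) (d t2)).eq.symm,
      mul_inv_cancel_right, ← map_inv, ← map_mul, ← map_mul, d_conj_u]
  · rw [map_mul, MulAut.mul_apply, MulAut.conj_apply, MulAut.conj_apply, ← map_inv D.L1, ← map_mul D.L1,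
      ← map_mul D.L1, d_conj_u, (long_comm D hgen2 (d t1) _).eq, mul_inv_cancel_right]

theorem rel_a (r s : F) : Commute (D.σ (tv 0 1 r)) (D.L (u s)) := by
  by_cases hr : r = 0
  · subst hr; rw [tv_zero, map_one]; exact Commute.one_left _
  refine square_span (P := fun s => Commute (D.σ (tv 0 1 r)) (D.L (u s))) ?_ ?_ ?_ ?_ s
  · rw [u_zero, map_one]; exact Commute.one_right _
  · intro a b ha hb; rw [← u_mul, map_mul]; exact ha.mul_right hb
  · intro a ha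
    have : u (-a) = (u a)⁻¹ := eq_inv_of_mul_eq_one_left (by rw [u_mul, neg_add_cancel, u_zero])
    rw [this, map_inv]; exact ha.inv_right
  · intro a ha
    obtain ⟨e1, e2, -⟩ := K_act D hζ hgen2 (Units.mk0 a ha) (Units.mk0 (a / r) (div_ne_zero ha hr)) 1 1
    have := D.a_rel.map (MulAut.conj (D.L (d (Units.mk0 a ha)) * D.L1 (d (Units.mk0 (a / r) (div_ne_zero ha hr))))).toMonoidHom
    rw [MulEquiv.coe_toMonoidHom, e1, e2] at this
    simp only [Units.val_mk0, mul_one, inv_div] at this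
    rwa [mul_div_cancel₀ _ ha, pow_two] at this

theorem flip (r : F) : D.L SL2PresData.W * D.L1 SL2PresData.W * D.σ (tv 0 1 r) *
    (D.L SL2PresData.W * D.L1 SL2PresData.W)⁻¹ = D.σ (tv 1 0 (-r)) := by
  set P := D.L SL2PresData.W * D.L1 SL2PresData.W
  refine square_span (P := fun r => P * D.σ (tv 0 1 r) * P⁻¹ = D.σ (tv 1 0 (-r))) ?_ ?_ ?_ ?_ r
  · simp [tv_zero]
  · intro a b ha hb
    rw [tv_add h01, map_mul, neg_add, tv_add h01.symm, map_mul, ← ha, ← hb]; group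
  · intro a ha
    have e : ∀ (i j : Fin (m + 2)) (_ : i ≠ j) (a : F), D.σ (tv i j (-a)) = (D.σ (tv i j a))⁻¹ := fun i j h a => by
      rw [← map_inv]; congr 1
      rw [eq_comm, inv_eq_iff_mul_eq_one, ← tv_add h, add_neg_cancel, tv_zero]
    rw [e 0 1 h01, e 1 0 h01.symm (-a), ← ha]; group
  · intro a ha
    obtain ⟨t, rfl⟩ : ∃ t : Fˣ, (t : F) = a := ⟨Units.mk0 a ha, rfl⟩
    have hP : P * D.σ (hh 0 1 (t : F)) * P⁻¹ = D.σ (hh 0 1 ((t⁻¹ : Fˣ) : F)) := by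
      rw [split D hζ hgen2, split D hζ hgen2]
      have c := (long_comm D hgen2 (d t) SL2PresData.W).eq
      calc P * (D.L (d t) * D.L1 (d t⁻¹)) * P⁻¹
          = D.L SL2PresData.W * (D.L1 SL2PresData.W * D.L (d t)) * D.L1 (d t⁻¹) * (D.L1 SL2PresData.W)⁻¹ *
              (D.L SL2PresData.W)⁻¹ := by simp only [P]; group
        _ = D.L SL2PresData.W * D.L (d t) * (D.L1 (SL2PresData.W * d t⁻¹ * (SL2PresData.W)⁻¹)) *
              (D.L SL2PresData.W)⁻¹ := by rw [← c, map_mul, map_mul, map_inv]; group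
        _ = _ := by
          rw [hW, inv_inv, ← hW t, map_mul, map_mul, map_inv]
          have c' := ((long_comm D hgen2 SL2PresData.W (d t)).inv_left).eq
          simp only [mul_assoc]; rw [← c']
    have e1 : D.σ (tv 0 1 ((t : F) * t)) = D.σ (hh 0 1 (t : F)) * D.σ (tv 0 1 1) * (D.σ (hh 0 1 (t : F)))⁻¹ := by
      rw [← map_inv, ← map_mul, ← map_mul, hh_tv, mul_one]
    have e2 : D.σ (tv 1 0 (-((t : F) * t))) =
        D.σ (hh 0 1 ((t⁻¹ : Fˣ) : F)) * D.σ (tv 1 0 (-1)) * (D.σ (hh 0 1 ((t⁻¹ : Fˣ) : F)))⁻¹ := by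
      rw [← map_inv, ← map_mul, ← map_mul]
      have ht := (t⁻¹).ne_zero
      have hb : Maps (hh (0 : Fin (m + 2)) 1 ((t⁻¹ : Fˣ) : F)) 1 1 ((t⁻¹ : Fˣ) : F)⁻¹ := by
        refine ⟨by rw [hh_single h01 ht, if_neg h01.symm, if_pos rfl, mul_one], fun l hl => ?_⟩
        rw [apply_eq, hh_single h01 ht, if_neg hl]
        split_ifs
        · exact Pi.single_eq_of_ne h01.symm _
        · exact Pi.single_eq_of_ne hl.symm _
      rw [conj_tv h01.symm h01.symm hb (hh_maps h01 ht)]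
      congr 2; push_cast; simp
    have h1 : P * D.σ (tv 0 1 1) * P⁻¹ = D.σ (tv 1 0 (-1)) := D.flip_rel
    rw [e1, e2, ← h1, ← hP]
    group

theorem V_L (a s : F) : Commute (D.V a) (D.L (u s)) :=
  ((long_comm D hgen2 _ _).symm.mul_left (rel_a D hζ hgen2 a s)).mul_left (long_comm D hgen2 _ _).symm.inv_left

theorem V_L1 (a s : F) : Commute (D.V a) (D.L1 (u s)) := by
  have e : D.V a = (D.L SL2PresData.W)⁻¹ * D.σ (tv 1 0 (-a)) * D.L SL2PresData.W := by
    rw [← flip D hζ hgen2 a, Rel.V]; group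
  rw [e]
  refine ((long_comm D hgen2 _ _).inv_left.mul_left ?_).mul_left (long_comm D hgen2 _ _)
  have h10 := om_maps (F := F) (h01 (m := m)).symm one_ne_zero
  have e2 : D.σ (tv 1 0 (-a)) = MulAut.conj (D.σ (om 1 0 1)) (D.σ (tv 0 1 a)) := by
    rw [MulAut.conj_apply, ← map_inv, ← map_mul, ← map_mul, conj_tv h01 h01.symm h10.1 h10.2.1]
    congr 2; simp
  rw [e2]
  exact (rel_a D hζ hgen2 a s).map (MulAut.conj (D.σ (om 1 0 1))).toMonoidHom

theorem rel_b (r s : F) :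
    ⁅D.σ (tv 0 1 r), D.L1 (u s)⁆ = D.V (-(r * s)) * D.L (u (r * r * s)) := by
  by_cases hr : r = 0
  · subst hr; simp [tv_zero, Rel.V, u_zero]
  refine square_span (P := fun s => ⁅D.σ (tv 0 1 r), D.L1 (u s)⁆ = D.V (-(r * s)) * D.L (u (r * r * s))) ?_ ?_ ?_ ?_ s
  · simp [tv_zero, Rel.V, u_zero]
  · intro a b ha hb
    have c1 := ((V_L1 D hζ hgen2 (-(r * b)) a).mul_left (long_comm D hgen2 (u (r * r * b)) (u a))).eq
    have c2 := (V_L D hζ hgen2 (-(r * b)) (r * r * a)).eq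
    calc ⁅D.σ (tv 0 1 r), D.L1 (u (a + b))⁆
        = ⁅D.σ (tv 0 1 r), D.L1 (u a)⁆ * (D.L1 (u a) * ⁅D.σ (tv 0 1 r), D.L1 (u b)⁆) * (D.L1 (u a))⁻¹ := by
          rw [← u_mul, map_mul]; simp only [commutatorElement_def]; group
      _ = D.V (-(r * a)) * (D.L (u (r * r * a)) * D.V (-(r * b))) * D.L (u (r * r * b)) := by
          rw [ha, hb, ← c1]; group
      _ = _ := by
          rw [← c2, show -(r * (a + b)) = -(r * a) + -(r * b) by ring, V_add, show r * r * (a + b) = r * r * a + r * r * b by ring,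
            ← u_mul, map_mul]
          group
  · intro a ha
    have hu : D.L1 (u (-a)) = (D.L1 (u a))⁻¹ := by
      rw [← map_inv]; congr 1; exact eq_inv_of_mul_eq_one_left (by rw [u_mul, neg_add_cancel, u_zero])
    have hl : D.L (u (r * r * -a)) = (D.L (u (r * r * a)))⁻¹ := by
      rw [← map_inv]; congr 1; exact eq_inv_of_mul_eq_one_left (by rw [u_mul, mul_neg, neg_add_cancel, u_zero])
    have hv : D.V (-(r * -a)) = (D.V (-(r * a)))⁻¹ := eq_inv_of_mul_eq_one_left (by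
      rw [← V_add, show -(r * -a) + -(r * a) = 0 by ring]; simp [Rel.V, tv_zero])
    have c1 := ((V_L1 D hζ hgen2 (-(r * a)) a).mul_left (long_comm D hgen2 (u (r * r * a)) (u a))).inv_left.eq
    have c2 := ((V_L D hζ hgen2 (-(r * a)) (r * r * a)).inv_left.inv_right).eq
    rw [hu, hl, hv, c2, ← _root_.mul_inv_rev]
    calc ⁅D.σ (tv 0 1 r), (D.L1 (u a))⁻¹⁆
        = (D.L1 (u a))⁻¹ * (⁅D.σ (tv 0 1 r), D.L1 (u a)⁆⁻¹ * D.L1 (u a)) := by
          simp only [commutatorElement_def]; group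
      _ = _ := by rw [ha, c1]; group
  · intro a ha
    obtain ⟨e1, e2, e3⟩ := K_act D hζ hgen2 (Units.mk0 (r * a) (mul_ne_zero hr ha)) (Units.mk0 a ha) 1 1
    obtain ⟨e1', -, -⟩ := K_act D hζ hgen2 (Units.mk0 (r * a) (mul_ne_zero hr ha)) (Units.mk0 a ha)⁻¹ (-1) 1
    set t1 := Units.mk0 (r * a) (mul_ne_zero hr ha)
    set t2 := Units.mk0 a ha
    have hV : MulAut.conj (D.L (d t1) * D.L1 (d t2)) (D.V (-1)) = D.V (-(r * (a * a))) := by
      have c : D.L1 (d t2) * D.L1 SL2PresData.W = D.L1 SL2PresData.W * D.L1 (d t2⁻¹) := by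
        rw [← map_mul, ← map_mul]; congr 1
        apply ext2 <;> simp [SL2PresData.W, d, mul_apply2]
      have c' := (long_comm D hgen2 (d t1) SL2PresData.W).eq
      have k : D.L (d t1) * D.L1 (d t2) * D.L1 SL2PresData.W = D.L1 SL2PresData.W * (D.L (d t1) * D.L1 (d t2⁻¹)) := by
        rw [mul_assoc, c, ← mul_assoc, c', mul_assoc]
      rw [MulAut.conj_apply] at e1'
      calc MulAut.conj (D.L (d t1) * D.L1 (d t2)) (D.V (-1))
          = (D.L (d t1) * D.L1 (d t2) * D.L1 SL2PresData.W) * D.σ (tv 0 1 (-1)) *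
              (D.L (d t1) * D.L1 (d t2) * D.L1 SL2PresData.W)⁻¹ := by
            rw [MulAut.conj_apply, Rel.V]; group
        _ = D.L1 SL2PresData.W * ((D.L (d t1) * D.L1 (d t2⁻¹)) * D.σ (tv 0 1 (-1)) *
              (D.L (d t1) * D.L1 (d t2⁻¹))⁻¹) * (D.L1 SL2PresData.W)⁻¹ := by rw [k]; group
        _ = _ := by
          rw [e1', Rel.V]; congr 3; simp [t1, t2]; ring
    have := congrArg (MulAut.conj (D.L (d t1) * D.L1 (d t2))) D.b_rel
    rw [← L1_apply, ← L1_apply, map_commutatorElement, e1, e3, map_mul, e2] at this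
    rw [show D.L1 SL2PresData.W * D.σ (tv 0 1 (-1)) * (D.L1 SL2PresData.W)⁻¹ = D.V (-1) from rfl, hV] at this
    have i1 : (t1 : F) * ((t2 : F)⁻¹ * 1) = r := by simp [t1, t2, ha]
    have i2 : (t2 : F) ^ 2 * 1 = a * a := by simp [t2, pow_two]
    have i3 : (t1 : F) ^ 2 * 1 = r * r * (a * a) := by simp [t1]; ring
    rwa [i1, i2, i3] at this

theorem rel_c (r x : F) : ⁅D.σ (tv 0 1 r), D.V x⁆ = D.L (u (-(2 * r * x))) := by
  have b1 := rel_b D hζ hgen2 r 1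
  have b2 := rel_b D hζ hgen2 (-x) 1
  have b3 := rel_b D hζ hgen2 (r + -x) 1
  rw [tv_add h01, map_mul] at b3
  simp only [mul_one, neg_neg] at b1 b2 b3
  set A := D.σ (tv 0 1 r)
  set B := D.L1 (u (1 : F))
  have key : A * ⁅D.σ (tv 0 1 (-x)), B⁆ * A⁻¹ = ⁅A * D.σ (tv 0 1 (-x)), B⁆ * ⁅A, B⁆⁻¹ := by
    simp only [commutatorElement_def]; group
  rw [b1, b2, b3] at key
  have hA : ∀ s, A * D.L (u s) = D.L (u s) * A := fun s => (rel_a D hζ hgen2 r s).eq
  have hv : ∀ v s, D.V v * D.L (u s) = D.L (u s) * D.V v := fun v s => (V_L D hζ hgen2 v s).eq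
  have uinv : ∀ s : F, (D.L (u s))⁻¹ = D.L (u (-s)) := fun s => by
    rw [← map_inv]; congr 1; exact inv_eq_of_mul_eq_one_right (by rw [u_mul, add_neg_cancel, u_zero])
  have vinv : ∀ v : F, (D.V v)⁻¹ = D.V (-v) := fun v => inv_eq_of_mul_eq_one_right (by
    rw [← V_add, add_neg_cancel]; simp [Rel.V, tv_zero])
  have e : A * D.V x * A⁻¹ = D.V x * D.L (u (-(2 * r * x))) := by
    have h1 : A * (D.V x * D.L (u (-x * -x))) * A⁻¹ = A * D.V x * A⁻¹ * D.L (u (-x * -x)) := by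
      calc A * (D.V x * D.L (u (-x * -x))) * A⁻¹ = A * D.V x * (D.L (u (-x * -x)) * A⁻¹) := by group
        _ = _ := by rw [((rel_a D hζ hgen2 r (-x * -x)).symm.inv_right).eq]; simp only [A]; group
    rw [h1, _root_.mul_inv_rev, vinv, uinv, neg_neg] at key
    rw [eq_mul_inv_of_mul_eq key, uinv]
    rw [show D.V (-(r + -x)) * D.L (u ((r + -x) * (r + -x))) * (D.L (u (-(r * r))) * D.V r) =
      D.V (-(r + -x)) * (D.L (u ((r + -x) * (r + -x))) * D.L (u (-(r * r)))) * D.V r by group, ← map_mul, u_mul,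
      mul_assoc (D.V (-(r + -x))), ← hv, ← mul_assoc, ← V_add, mul_assoc, ← map_mul, u_mul]
    congr 3 <;> ring
  rw [commutatorElement_def, e, hv, mul_inv_cancel_right]

theorem blk_comm (hblk : ∀ g, Blk 0 g → g ∈ Subgroup.closure {g | g ∈ S}) (g : SL(m + 2, F)) (hg : Blk 0 g)
    (x : SL(2, F)) : Commute (D.σ g) (D.L x) := by
  have h : ∀ g ∈ Subgroup.closure {g | g ∈ S}, Commute (D.σ g) (D.L x) := by
    intro g hg
    induction hg using Subgroup.closure_induction with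
    | mem y hy => exact gen_commute (a2 := a2) (b2 := b2) hgen2 D.L _ (fun z hz => D.blk_rel y hy z hz) x
    | one => rw [map_one]; exact Commute.one_left _
    | mul a b _ _ ha hb => rw [map_mul]; exact ha.mul_left hb
    | inv a _ ha => rw [map_inv]; exact ha.inv_left
  exact h g (hblk g hg)

/-- the derived datum -/
noncomputable def Rel.gens (hblk : ∀ g, Blk 0 g → g ∈ Subgroup.closure {g | g ∈ S}) : Gens H m F where
  σ := D.σ
  L := D.L
  π := D.π
  π_σ := D.π_σ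
  π_u := D.π_u
  π_lo := D.π_lo
  gen := D.gen
  blk_comm := blk_comm D hζ hgen2 hblk
  tor_u t ht r := by
    have := tor_L D hζ hgen2 (Units.mk0 t ht) (u r)
    rw [d_conj_u, Units.val_mk0, pow_two] at this
    exact this
  tor_lo t ht r := by
    have := tor_L D hζ hgen2 (Units.mk0 t ht) (lo r)
    rw [Units.val_mk0] at this
    rw [this]; congr 1
    rw [mul_inv_eq_iff_eq_mul]
    apply ext2 <;> simp [d, lo, mul_apply2]; field_simp
  long_tor := long_tor D hζ hgen2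
  long_comm := long_comm D hgen2
  split := split D hζ hgen2
  flip := flip D hζ hgen2
  rel_a := rel_a D hζ hgen2
  rel_b r s := by
    have e := rel_b D hζ hgen2 r s
    rw [L1_apply, Rel.V, L1_apply] at e
    rw [e]
    exact Subgroup.mul_mem _ (Subgroup.subset_closure ⟨_, Or.inr rfl⟩) (Subgroup.subset_closure ⟨_, Or.inl rfl⟩)
  rel_c r s := by
    have := rel_c D hζ hgen2 r s
    simp only [Rel.V, L1_apply] at this
    rw [this]
    exact Subgroup.subset_closure ⟨_, rfl⟩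

/-- injectivity from finitely many identities -/
theorem injective (hblk : ∀ g, Blk 0 g → g ∈ Subgroup.closure {g | g ∈ S}) : Function.Injective D.π :=
  ShortPresSpCore.injective (D.gens hζ hgen2 hblk)

end Cfsg.Agent.ShortPresSpRels
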