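import Mathlib

/-!
Groups with a presentation by a bounded number of relators, on any number of letters, and the
operations on them: transport, one more relation, amalgamation of two presentations, change to two
letters.
-/

set_option autoImplicit false

namespace Cfsg.Agent.ShortPres

universe u v

/-- `x` generates `G` with defining relators `R` -/
structure Pres {G : Type u} [Group G] {ι : Type} (x : ι → G) (R : List (FreeGroup ι)) : Prop where
  sat : ∀ r ∈ R, FreeGroup.lift x r = 1
  gen : Subgroup.closure (Set.range x) = ⊤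
  univ : ∀ {H : Type} [Group H] (y : ι → H), (∀ r ∈ R, FreeGroup.lift y r = 1) →
    ∃ f : G →* H, ∀ i, f (x i) = y i

/-- `G` has a presentation with at most `N` relators -/
def Short (G : Type u) [Group G] (N : ℕ) : Prop :=
  ∃ (ι : Type) (x : ι → G) (R : List (FreeGroup ι)), R.length ≤ N ∧ Pres x R

variable {G : Type u} [Group G] {ι : Type}

/-- every element is a word in generators -/
theorem exists_word {x : ι → G} (hx : Subgroup.closure (Set.range x) = ⊤) :
    ∀ g : G, ∃ w : FreeGroup ι, FreeGroup.lift x w = g := fun g => by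
  have : g ∈ (FreeGroup.lift x).range := by
    rw [FreeGroup.range_lift_eq_closure, hx]; exact Subgroup.mem_top g
  exact this

/-- a homomorphism reads words -/
theorem map_word {κ : Type*} {H : Type v} [Group H] {x : κ → G} (f : G →* H) {y : κ → H} (hf : ∀ i, f (x i) = y i)
    (w : FreeGroup κ) : f (FreeGroup.lift x w) = FreeGroup.lift y w :=
  DFunLike.congr_fun (FreeGroup.ext_hom (f.comp (FreeGroup.lift x)) (FreeGroup.lift y) fun i => by simp [hf]) w

/-- relators that force injectivity present the group -/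
theorem Pres.of_inj {x : ι → G} {R : List (FreeGroup ι)} (sat : ∀ r ∈ R, FreeGroup.lift x r = 1)
    (gen : Subgroup.closure (Set.range x) = ⊤)
    (inj : ∀ (H : Type) [Group H] (y : ι → H) (π : H →* G), (∀ i, π (y i) = x i) →
      Subgroup.closure (Set.range y) = ⊤ → (∀ r ∈ R, FreeGroup.lift y r = 1) → Function.Injective π) :
    Pres x R := by
  refine ⟨sat, gen, ?_⟩
  intro H _ y hy
  let S : Set (FreeGroup ι) := {r | r ∈ R}
  let π : PresentedGroup S →* G := PresentedGroup.toGroup (rels := S) (f := x) sat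
  have hπ : ∀ i, π (PresentedGroup.of i) = x i := fun i => PresentedGroup.toGroup.of _
  have e : FreeGroup.lift (fun i => (PresentedGroup.of i : PresentedGroup S)) = PresentedGroup.mk S :=
    FreeGroup.ext_hom _ _ fun i => by simp [PresentedGroup.of]
  have hi : Function.Injective π := inj _ _ π hπ (PresentedGroup.closure_range_of S) fun r hr => by
    rw [e]; exact PresentedGroup.one_of_mem hr
  have hs : Function.Surjective π := fun g => by
    obtain ⟨w, rfl⟩ := exists_word gen g
    exact ⟨FreeGroup.lift (fun i => (PresentedGroup.of i : PresentedGroup S)) w, map_word π hπ w⟩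
  let E := MulEquiv.ofBijective π ⟨hi, hs⟩
  refine ⟨(PresentedGroup.toGroup (rels := S) (f := y) hy).comp E.symm.toMonoidHom, fun i => ?_⟩
  have : E.symm (x i) = PresentedGroup.of i := by
    rw [MulEquiv.symm_apply_eq]; exact (hπ i).symm
  simp [this]

theorem Short.mono {N M : ℕ} (h : Short G N) (hNM : N ≤ M) : Short G M := by
  obtain ⟨κ, x, R, hR, hP⟩ := h
  exact ⟨κ, x, R, hR.trans hNM, hP⟩

/-- transport along an isomorphism -/
theorem Short.congr {H : Type v} [Group H] {N : ℕ} (h : Short G N) (e : G ≃* H) : Short H N := by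
  obtain ⟨κ, x, R, hR, hP⟩ := h
  refine ⟨κ, fun i => e (x i), R, hR, ⟨fun r hr => ?_, ?_, ?_⟩⟩
  · rw [← map_word e.toMonoidHom (x := x) (y := fun i => e (x i)) (fun _ => rfl), hP.sat r hr, map_one]
  · rw [show Set.range (fun i => e (x i)) = e.toMonoidHom '' Set.range x by ext; simp,
      ← MonoidHom.map_closure, hP.gen, Subgroup.map_top_of_surjective _ e.surjective]
  · intro K _ y hy
    obtain ⟨f, hf⟩ := hP.univ y hy
    exact ⟨f.comp e.symm.toMonoidHom, fun i => by simp [hf]⟩

/-- a finite presentation in the sense of `PresentedGroup` -/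
theorem Short.of_presented {N : ℕ} (rels : Finset (FreeGroup ι)) (hN : rels.card ≤ N)
    (e : PresentedGroup (↑rels : Set (FreeGroup ι)) ≃* G) : Short G N := by
  refine Short.congr ⟨ι, PresentedGroup.of, rels.toList, (Finset.length_toList rels).trans_le hN,
    ⟨fun r hr => ?_, PresentedGroup.closure_range_of _, fun {H} _ y hy => ?_⟩⟩ e
  · rw [show FreeGroup.lift (fun i => (PresentedGroup.of i : PresentedGroup (↑rels : Set (FreeGroup ι)))) =
      PresentedGroup.mk _ from FreeGroup.ext_hom _ _ fun i => by simp [PresentedGroup.of]]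
    exact PresentedGroup.one_of_mem (by simpa using hr)
  · exact ⟨PresentedGroup.toGroup (f := y) fun r hr => hy r (by simpa using hr),
      fun i => PresentedGroup.toGroup.of _⟩

/-- one further relation -/
theorem Short.quotient {Q : Type v} [Group Q] {N : ℕ} (h : Short G N) (q : G →* Q)
    (hq : Function.Surjective q) (z : G) (hz : q z = 1) (hker : q.ker ≤ Subgroup.normalClosure {z}) :
    Short Q (N + 1) := by
  obtain ⟨κ, x, R, hR, hP⟩ := h
  obtain ⟨wz, hwz⟩ := exists_word hP.gen z
  refine ⟨κ, fun i => q (x i), R ++ [wz], by simp; omega, Pres.of_inj ?_ ?_ ?_⟩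
  · intro r hr
    rw [← map_word q (x := x) (y := fun i => q (x i)) (fun _ => rfl)]
    rcases List.mem_append.mp hr with hr | hr
    · rw [hP.sat r hr, map_one]
    · rw [List.mem_singleton.mp hr, hwz, hz]
  · rw [show Set.range (fun i => q (x i)) = q '' Set.range x by ext; simp, ← MonoidHom.map_closure,
      hP.gen, Subgroup.map_top_of_surjective _ hq]
  · intro H _ y π hπ hgen hy
    obtain ⟨f, hf⟩ := hP.univ y fun r hr => hy r (List.mem_append_left _ hr)
    have hc : ∀ g, π (f g) = q g := fun g => by
      obtain ⟨w, rfl⟩ := exists_word hP.gen g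
      rw [map_word f hf, map_word π hπ, map_word q (fun _ => rfl)]
    have hfz : f z = 1 := by
      rw [← hwz, map_word f hf]; exact hy _ (by simp)
    have hle : q.ker ≤ f.ker := hker.trans (Subgroup.normalClosure_le_normal (by simpa using hfz))
    refine (injective_iff_map_eq_one π).mpr fun a ha => ?_
    obtain ⟨w, rfl⟩ := exists_word hgen a
    rw [← map_word f hf] at ha ⊢
    rw [hc] at ha
    exact hle ha

/-- two presentations amalgamated along further relations -/
theorem Short.amalgam {A : Type*} {B : Type*} [Group A] [Group B] {NA NB : ℕ}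
    (hA : Short A NA) (hB : Short B NB) (iA : A →* G) (iB : B →* G) (gen : iA.range ⊔ iB.range = ⊤)
    (E : List (FreeGroup (A ⊕ B))) (sat : ∀ r ∈ E, FreeGroup.lift (Sum.elim iA iB) r = 1)
    (inj : ∀ (H : Type) [Group H] (fA : A →* H) (fB : B →* H) (π : H →* G),
      (∀ a, π (fA a) = iA a) → (∀ b, π (fB b) = iB b) → fA.range ⊔ fB.range = ⊤ →
      (∀ r ∈ E, FreeGroup.lift (Sum.elim fA fB) r = 1) → Function.Injective π) :
    Short G (NA + NB + E.length) := by
  obtain ⟨κ, x, R, hR, hP⟩ := hA
  obtain ⟨μ, x', R', hR', hP'⟩ := hB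
  choose wA hwA using exists_word hP.gen
  choose wB hwB using exists_word hP'.gen
  let jA : FreeGroup κ →* FreeGroup (κ ⊕ μ) := FreeGroup.lift fun i => FreeGroup.of (Sum.inl i)
  let jB : FreeGroup μ →* FreeGroup (κ ⊕ μ) := FreeGroup.lift fun i => FreeGroup.of (Sum.inr i)
  let X : κ ⊕ μ → G := Sum.elim (fun i => iA (x i)) (fun j => iB (x' j))
  let Φ : FreeGroup (A ⊕ B) →* FreeGroup (κ ⊕ μ) :=
    FreeGroup.lift (Sum.elim (fun a => jA (wA a)) (fun b => jB (wB b)))
  refine ⟨κ ⊕ μ, X, (R.map jA ++ R'.map jB) ++ E.map Φ, by simp; omega, Pres.of_inj ?_ ?_ ?_⟩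
  · have eA : ∀ w, FreeGroup.lift X (jA w) = iA (FreeGroup.lift x w) := fun w => by
      rw [map_word (FreeGroup.lift X) (y := fun i => iA (x i)) (fun i => by simp [X]) w,
        ← map_word iA (fun _ => rfl) w]
    have eB : ∀ w, FreeGroup.lift X (jB w) = iB (FreeGroup.lift x' w) := fun w => by
      rw [map_word (FreeGroup.lift X) (y := fun i => iB (x' i)) (fun i => by simp [X]) w,
        ← map_word iB (fun _ => rfl) w]
    intro r hr
    simp only [List.mem_append, List.mem_map] at hr
    rcases hr with (⟨w, hw, rfl⟩ | ⟨w, hw, rfl⟩) | ⟨w, hw, rfl⟩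
    · rw [eA, hP.sat w hw, map_one]
    · rw [eB, hP'.sat w hw, map_one]
    · rw [map_word (FreeGroup.lift X) (y := Sum.elim iA iB) (fun s => ?_) w]
      · exact sat w hw
      · rcases s with a | b <;> simp [eA, eB, hwA, hwB]
  · rw [eq_top_iff, ← gen, sup_le_iff, MonoidHom.range_eq_map, MonoidHom.range_eq_map, ← hP.gen, ← hP'.gen,
      MonoidHom.map_closure, MonoidHom.map_closure]
    constructor <;> refine Subgroup.closure_mono ?_ <;> rintro _ ⟨_, ⟨i, rfl⟩, rfl⟩
    · exact ⟨Sum.inl i, rfl⟩
    · exact ⟨Sum.inr i, rfl⟩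
  · intro H _ y π hπ hgen hy
    have eA : ∀ w, FreeGroup.lift y (jA w) = FreeGroup.lift (fun i => y (Sum.inl i)) w := fun w =>
      map_word (FreeGroup.lift y) (fun i => by simp) w
    have eB : ∀ w, FreeGroup.lift y (jB w) = FreeGroup.lift (fun i => y (Sum.inr i)) w := fun w =>
      map_word (FreeGroup.lift y) (fun i => by simp) w
    obtain ⟨fA, hfA⟩ := hP.univ (fun i => y (Sum.inl i)) fun r hr => by
      rw [← eA]; exact hy _ (by simp only [List.mem_append, List.mem_map]; exact Or.inl (Or.inl ⟨r, hr, rfl⟩))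
    obtain ⟨fB, hfB⟩ := hP'.univ (fun i => y (Sum.inr i)) fun r hr => by
      rw [← eB]; exact hy _ (by simp only [List.mem_append, List.mem_map]; exact Or.inl (Or.inr ⟨r, hr, rfl⟩))
    refine inj H fA fB π (fun a => ?_) (fun b => ?_) ?_ fun r hr => ?_
    · rw [← hwA a, map_word fA hfA, map_word π (y := fun i => iA (x i)) (fun i => hπ (Sum.inl i)),
        ← map_word iA (fun _ => rfl)]
    · rw [← hwB b, map_word fB hfB, map_word π (y := fun j => iB (x' j)) (fun j => hπ (Sum.inr j)),
        ← map_word iB (fun _ => rfl)]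
    · rw [eq_top_iff, ← hgen, Subgroup.closure_le]
      rintro _ ⟨i | j, rfl⟩
      · exact Subgroup.mem_sup_left ⟨x i, hfA i⟩
      · exact Subgroup.mem_sup_right ⟨x' j, hfB j⟩
    · rw [← hy (Φ r) (by simp only [List.mem_append, List.mem_map]; exact Or.inr ⟨r, hr, rfl⟩)]
      refine (map_word (FreeGroup.lift y) (fun s => ?_) r).symm
      rcases s with a | b
      · rw [← hwA a]; simp [eA, ← map_word fA hfA, hwA]
      · rw [← hwB b]; simp [eB, ← map_word fB hfB, hwB]

/-- change to two letters -/
theorem Short.two_generators {N : ℕ} (h : Short G N) (a b : G) (hab : Subgroup.closure ({a, b} : Set G) = ⊤) :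
    ∃ rels : Finset (FreeGroup (Fin 2)), rels.card ≤ N + 2 ∧
      Nonempty (PresentedGroup (↑rels : Set (FreeGroup (Fin 2))) ≃* G) := by
  classical
  obtain ⟨κ, x, R, hR, hP⟩ := h
  have hab' : Subgroup.closure (Set.range ![a, b]) = ⊤ := by
    rw [Matrix.range_cons, Matrix.range_cons, Matrix.range_empty, Set.union_empty, Set.singleton_union]
    exact hab
  choose w hw using fun i => exists_word hab' (x i)
  choose W hW using exists_word hP.gen
  let L : List (FreeGroup (Fin 2)) := R.map (FreeGroup.lift w) ++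
    [(FreeGroup.of 0)⁻¹ * FreeGroup.lift w (W a), (FreeGroup.of 1)⁻¹ * FreeGroup.lift w (W b)]
  have hrw : ∀ r, FreeGroup.lift ![a, b] (FreeGroup.lift w r) = FreeGroup.lift x r := fun r =>
    map_word (FreeGroup.lift ![a, b]) hw r
  have sat : ∀ r ∈ L, FreeGroup.lift ![a, b] r = 1 := by
    intro r hr
    simp only [L, List.mem_append, List.mem_map, List.mem_cons, List.not_mem_nil, or_false] at hr
    rcases hr with ⟨r, hr, rfl⟩ | rfl | rfl
    · rw [hrw]; exact hP.sat r hr
    · simp [hrw, hW]
    · simp [hrw, hW]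
  refine ⟨L.toFinset, (List.toFinset_card_le L).trans (by simp [L]; omega), ?_⟩
  set S : Set (FreeGroup (Fin 2)) := ↑L.toFinset
  let π : PresentedGroup S →* G := PresentedGroup.toGroup (f := ![a, b]) fun r hr => sat r (by simpa [S] using hr)
  have e : FreeGroup.lift (fun i => (PresentedGroup.of i : PresentedGroup S)) = PresentedGroup.mk S :=
    FreeGroup.ext_hom _ _ fun i => by simp [PresentedGroup.of]
  have hS : ∀ r ∈ L, FreeGroup.lift (fun i => (PresentedGroup.of i : PresentedGroup S)) r = 1 := fun r hr => by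
    rw [e]; exact PresentedGroup.one_of_mem (by simpa [S] using hr)
  obtain ⟨f, hf⟩ := hP.univ (H := PresentedGroup S) (fun i => PresentedGroup.mk S (w i)) fun r hr => by
    rw [← map_word (PresentedGroup.mk S) (x := w) (fun _ => rfl), ← e]
    exact hS _ (List.mem_append_left _ (List.mem_map.mpr ⟨r, hr, rfl⟩))
  have fw : ∀ g, f g = PresentedGroup.mk S (FreeGroup.lift w (W g)) := fun g => by
    rw [map_word (PresentedGroup.mk S) (x := w) (fun _ => rfl), ← map_word f hf, hW]
  have fa : ∀ i : Fin 2, f (![a, b] i) = PresentedGroup.of i := by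
    intro i
    have h0 := hS ((FreeGroup.of 0)⁻¹ * FreeGroup.lift w (W a)) (by simp [L])
    have h1 := hS ((FreeGroup.of 1)⁻¹ * FreeGroup.lift w (W b)) (by simp [L])
    rw [e, map_mul, map_inv, inv_mul_eq_one, ← fw] at h0 h1
    fin_cases i
    · exact h0.symm
    · exact h1.symm
  refine ⟨MonoidHom.toMulEquiv π f (PresentedGroup.ext fun i => ?_) ?_⟩
  · simp only [MonoidHom.comp_apply, π, PresentedGroup.toGroup.of, fa, MonoidHom.id_apply]
  · refine MonoidHom.eq_of_eqOn_dense hab' ?_
    rintro _ ⟨i, rfl⟩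
    simp only [MonoidHom.comp_apply, fa, π, PresentedGroup.toGroup.of, MonoidHom.id_apply]

end Cfsg.Agent.ShortPres
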