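import Cfsg.Agent.Lib.ShortPresSpModel
import Cfsg.Agent.Lib.ShortPresSpRels
import Cfsg.Agent.Lib.ShortPresTools
import Cfsg.Agent.S2290

/-!
A presentation of the symplectic group amalgamating a special linear group and a long-root `SL(2)`.
-/

set_option autoImplicit false

namespace Cfsg.Agent.ShortPresSpPres

open Matrix PSL2Elements ShortPresSL ShortPresCn StemSLnTv ShortPresSpCore ShortPresSpModel ShortPresSpRels
  ShortPres
open scoped MatrixGroups commutatorElement

variable {m : ℕ} {F : Type*} [Field F]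

/-- letters for the Levi part -/
def wA (g : SL(m + 2, F)) : FreeGroup (SL(m + 2, F) ⊕ SL(2, F)) := FreeGroup.of (Sum.inl g)

/-- letters for the long part -/
def wB (x : SL(2, F)) : FreeGroup (SL(m + 2, F) ⊕ SL(2, F)) := FreeGroup.of (Sum.inr x)

/-- letters for the second long part -/
def wL (x : SL(2, F)) : FreeGroup (SL(m + 2, F) ⊕ SL(2, F)) := wA (om 1 0 1) * wB x * (wA (om 1 0 1))⁻¹

/-- commutator relator -/
def cr {α : Type*} [Group α] (x y : α) : α := x * y * x⁻¹ * y⁻¹

/-- the added relators -/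
def E (ζ : Fˣ) (a b : SL(2, F)) (S : List SL(m + 2, F)) : List (FreeGroup (SL(m + 2, F) ⊕ SL(2, F))) :=
  (S.map fun g => [cr (wA g) (wB a), cr (wA g) (wB b)]).flatten ++
  [cr (wB a) (wL a), cr (wB a) (wL b), cr (wB b) (wL a), cr (wB b) (wL b),
   wA (hh 0 1 (ζ : F)) * (wB (d ζ) * wL (d ζ⁻¹))⁻¹,
   wB (d ζ) * wA (tv 0 1 1) * (wB (d ζ))⁻¹ * (wA (tv 0 1 (ζ : F)))⁻¹,
   wB SL2PresData.W * wL SL2PresData.W * wA (tv 0 1 1) * (wB SL2PresData.W * wL SL2PresData.W)⁻¹ *
     (wA (tv 1 0 (-1)))⁻¹,
   cr (wA (tv 0 1 1)) (wB (u 1)),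
   cr (wA (tv 0 1 1)) (wL (u 1)) *
     (wL SL2PresData.W * wA (tv 0 1 (-1)) * (wL SL2PresData.W)⁻¹ * wB (u 1))⁻¹]

theorem E_length (ζ : Fˣ) (a b : SL(2, F)) (S : List SL(m + 2, F)) : (E ζ a b S).length = 2 * S.length + 9 := by
  have : ∀ T : List SL(m + 2, F), (T.map fun g => [cr (wA g) (wB a), cr (wA g) (wB b)]).flatten.length = 2 * T.length := by
    intro T
    induction T with
    | nil => rfl
    | cons x l ih => simp only [List.map_cons, List.flatten_cons, List.length_append, List.length_cons, List.length_nil, ih]; omega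
  simp [E, this]

theorem cr_one {α : Type*} [Group α] {x y : α} : cr x y = 1 ↔ Commute x y := by
  rw [cr, ← commutatorElement_def, commutatorElement_eq_one_iff_commute]

/-- the identities from the relators -/
def relOf {ζ : Fˣ} {a b : SL(2, F)} {S : List SL(m + 2, F)} {H : Type*} [Group H]
    (fA : SL(m + 2, F) →* H) (fB : SL(2, F) →* H) (π : H →* Matrix.symplecticGroup (Fin (m + 2)) F)
    (hA : ∀ x, π (fA x) = sig x) (hB : ∀ x, π (fB x) = lg x) (hgen : fA.range ⊔ fB.range = ⊤)
    (h : ∀ r ∈ E ζ a b S, FreeGroup.lift (Sum.elim fA fB) r = 1) : Rel H m F ζ a b S :=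
  have h' := h
  { σ := fA
    L := fB
    π := π
    π_σ := fun i j hij r => by rw [hA, sig_tv hij]
    π_u := fun r => by rw [hB, lg_u]
    π_lo := fun r => by rw [hB, lg_lo]
    gen := hgen
    blk_rel := fun g hg x hx => by
      have e1 := h' (cr (wA g) (wB x)) (by
        refine List.mem_append_left _ (List.mem_flatten.mpr ⟨_, List.mem_map_of_mem hg, ?_⟩)
        simp only [List.mem_cons, List.not_mem_nil, or_false] at hx ⊢
        rcases hx with rfl | rfl <;> simp)
      simpa [cr, wA, wB, ← commutatorElement_def, commutatorElement_eq_one_iff_commute] using e1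
    long_rel := fun x hx y hy => by
      have e1 := h' (cr (wB x) (wL y)) (by
        refine List.mem_append_right _ ?_
        simp only [List.mem_cons, List.not_mem_nil, or_false] at hx hy ⊢
        rcases hx with rfl | rfl <;> rcases hy with rfl | rfl <;> simp)
      rw [← cr_one]
      simpa [cr, wA, wB, wL] using e1
    split_rel := by
      have e1 := h' _ (List.mem_append_right _ (List.mem_cons_of_mem _ <| List.mem_cons_of_mem _ <| List.mem_cons_of_mem _ <| List.mem_cons_of_mem _ <| List.mem_cons_self ..))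
      simp only [wA, wB, wL, map_mul, map_inv, FreeGroup.lift_apply_of, Sum.elim_inl, Sum.elim_inr, mul_inv_eq_one] at e1
      exact e1
    tor_rel := by
      have e1 := h' _ (List.mem_append_right _ (List.mem_cons_of_mem _ <| List.mem_cons_of_mem _ <| List.mem_cons_of_mem _ <| List.mem_cons_of_mem _ <| List.mem_cons_of_mem _ <| List.mem_cons_self ..))
      simp only [wA, wB, map_mul, map_inv, FreeGroup.lift_apply_of, Sum.elim_inl, Sum.elim_inr, mul_inv_eq_one] at e1
      exact e1
    flip_rel := by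
      have e1 := h' _ (List.mem_append_right _ (List.mem_cons_of_mem _ <| List.mem_cons_of_mem _ <| List.mem_cons_of_mem _ <| List.mem_cons_of_mem _ <| List.mem_cons_of_mem _ <| List.mem_cons_of_mem _ <| List.mem_cons_self ..))
      simp only [wA, wB, wL, map_mul, map_inv, FreeGroup.lift_apply_of, Sum.elim_inl, Sum.elim_inr, mul_inv_eq_one] at e1
      exact e1
    a_rel := by
      have e1 := h' (cr (wA (tv 0 1 1)) (wB (u 1))) (by simp [E])
      rw [← cr_one]
      simpa [cr, wA, wB] using e1
    b_rel := by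
      have e1 := h' (cr (wA (tv 0 1 1)) (wL (u 1)) *
        (wL SL2PresData.W * wA (tv 0 1 (-1)) * (wL SL2PresData.W)⁻¹ * wB (u 1))⁻¹) (by simp [E])
      simp only [cr, wA, wB, wL, map_mul, map_inv, FreeGroup.lift_apply_of, Sum.elim_inl, Sum.elim_inr, mul_inv_eq_one] at e1
      exact e1 }

theorem sat_model {ζ : Fˣ} {a b : SL(2, F)} {S : List SL(m + 2, F)} (hS : ∀ g ∈ S, Blk 0 g) :
    ∀ r ∈ E ζ a b S, FreeGroup.lift (Sum.elim (sig (m := m) (F := F)) lg) r = 1 := by
  intro r hr
  rcases List.mem_append.mp hr with hr | hr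
  · obtain ⟨l, hl, hr⟩ := List.mem_flatten.mp hr
    obtain ⟨g, hg, rfl⟩ := List.mem_map.mp hl
    simp only [List.mem_cons, List.not_mem_nil, or_false] at hr
    rcases hr with rfl | rfl <;>
      simp only [cr, wA, wB, map_mul, map_inv, FreeGroup.lift_apply_of, Sum.elim_inl, Sum.elim_inr] <;>
      exact cr_one.mpr (blk_commute (hS g hg) _)
  have hL : ∀ x, FreeGroup.lift (Sum.elim (sig (m := m) (F := F)) lg) (wL x) = lg1 x := fun x => by
    simp [wA, wB, wL, lg1]
  simp only [List.mem_cons, List.not_mem_nil, or_false] at hr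
  rcases hr with rfl | rfl | rfl | rfl | rfl | rfl | rfl | rfl | rfl <;>
    simp only [cr, map_mul, map_inv, hL] <;>
    simp only [wA, wB, FreeGroup.lift_apply_of, Sum.elim_inl, Sum.elim_inr]
  · exact cr_one.mpr (long_commute _ _)
  · exact cr_one.mpr (long_commute _ _)
  · exact cr_one.mpr (long_commute _ _)
  · exact cr_one.mpr (long_commute _ _)
  · exact mul_inv_eq_one.mpr (split_model ζ)
  · rw [mul_inv_eq_one, tor_model ζ 1, mul_one]
  · rw [mul_inv_eq_one, flip_model]
  · exact cr_one.mpr (rel_a_model 1 1)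
  · rw [mul_inv_eq_one, ← commutatorElement_def, rel_b_model, mul_one, one_mul]

/-- two generators of `SL(2, F)` -/
theorem exists_two [Fintype F] : ∃ a b : SL(2, F), Subgroup.closure ({a, b} : Set SL(2, F)) = ⊤ := by
  by_cases h4 : 4 ≤ Fintype.card F
  · obtain ⟨ζ, hζ⟩ := IsCyclic.exists_generator (α := Fˣ)
    exact ⟨_, _, S2290.sl2_two ζ hζ h4⟩
  · refine ⟨u 1, lo 1, ?_⟩
    set K := Subgroup.closure ({u 1, lo 1} : Set SL(2, F))
    have hu : u 1 ∈ K := Subgroup.subset_closure (Or.inl rfl)
    have hl : lo 1 ∈ K := Subgroup.subset_closure (Or.inr rfl)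
    have hn : ∀ x : F, ∃ k : ℕ, (k : F) = x := by
      obtain ⟨p, hp⟩ := CharP.exists F
      haveI : Fact p.Prime := ⟨CharP.char_is_prime F p⟩
      have hpf : p = Fintype.card F := by
        obtain ⟨k, -, hk⟩ := FiniteField.card F p
        rcases Nat.lt_or_ge (k : ℕ) 2 with h | h
        · rw [hk, show (k : ℕ) = 1 by have := k.pos; omega, pow_one]
        · have h2 : p ^ 2 ≤ p ^ (k : ℕ) := Nat.pow_le_pow_right (Fact.out : p.Prime).pos h
          have := (Fact.out : p.Prime).two_le
          nlinarith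
      intro x
      obtain ⟨z, rfl⟩ := ((Fintype.bijective_iff_injective_and_card (ZMod.castHom (dvd_refl p) F)).mpr
        ⟨ZMod.castHom_injective F, by rw [ZMod.card, hpf]⟩).2 x
      exact ⟨z.val, by simp⟩
    refine sl2_top' K (fun r => ?_) fun r => ?_
    · obtain ⟨k, rfl⟩ := hn r
      induction k with
      | zero => rw [Nat.cast_zero, u_zero]; exact K.one_mem
      | succ k ih => rw [Nat.cast_succ, ← u_mul]; exact K.mul_mem ih hu
    · obtain ⟨k, rfl⟩ := hn r
      induction k with
      | zero =>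
        have : lo (0 : F) = 1 := by apply ext2 <;> simp [lo]
        rw [Nat.cast_zero, this]; exact K.one_mem
      | succ k ih =>
        have : lo ((k : F) + 1) = lo (k : F) * lo 1 := by apply ext2 <;> simp [lo, mul_apply2]
        rw [Nat.cast_succ, this]; exact K.mul_mem ih hl

theorem gen_model [Fintype F] {ζ : Fˣ} (hζ : ∀ y, y ∈ Subgroup.zpowers ζ) {a b : SL(2, F)}
    (hab : Subgroup.closure ({a, b} : Set SL(2, F)) = ⊤) {S : List SL(m + 2, F)} (hS : ∀ g ∈ S, Blk 0 g)
    (hblk : ∀ g : SL(m + 2, F), Blk 0 g → g ∈ Subgroup.closure {g | g ∈ S}) :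
    (sig (m := m) (F := F)).range ⊔ (lg (m := m) (F := F)).range = ⊤ := by
  set K := (sig (m := m) (F := F)).range ⊔ (lg (m := m) (F := F)).range with hK
  let fA : SL(m + 2, F) →* K := sig.codRestrict K fun x => Subgroup.mem_sup_left ⟨x, rfl⟩
  let fB : SL(2, F) →* K := lg.codRestrict K fun x => Subgroup.mem_sup_right ⟨x, rfl⟩
  have hgen : fA.range ⊔ fB.range = ⊤ := by
    apply Subgroup.map_injective K.subtype_injective
    rw [Subgroup.map_sup, MonoidHom.map_range, MonoidHom.map_range, ← MonoidHom.range_eq_map, Subgroup.range_subtype]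
    rfl
  let R : Rel K m F ζ a b S := relOf fA fB K.subtype (fun _ => rfl) (fun _ => rfl) hgen (fun r hr =>
    K.subtype_injective (by
      rw [map_word K.subtype (y := Sum.elim sig lg) (fun s => by rcases s with x | x <;> rfl) r, map_one]
      exact sat_model hS r hr))
  let D := R.gens hζ hab hblk
  have hX : ∀ p q : Idx (m + 2), p ≠ q → ∀ r, ∃ g ∈ K, g.1 = rmat p q r := fun p q h r =>
    ⟨(D.π (D.X p q r)), (D.X p q r).2, π_X D p q h r⟩
  -- the orbit of the first basis vector
  let P : (Idx (m + 2) → F) → Prop := fun v => ∃ g ∈ K, g.1 *ᵥ Pi.single (Sum.inl 0) 1 = v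
  have step : ∀ (p q : Idx (m + 2)), p ≠ q → ∀ r v, P v → P (rmat p q r *ᵥ v) := by
    rintro p q h r v ⟨g, hg, rfl⟩
    obtain ⟨k, hk, e⟩ := hX p q h r
    exact ⟨k * g, K.mul_mem hk hg, by rw [Submonoid.coe_mul, e, ← Matrix.mulVec_mulVec]⟩
  have back : ∀ (p q : Idx (m + 2)), p ≠ q → ∀ r v, P (rmat p q r *ᵥ v) → P v := by
    rintro p q h r v ⟨g, hg, e⟩
    obtain ⟨k, hk, ek⟩ := hX p q h r
    refine ⟨k⁻¹ * g, K.mul_mem (K.inv_mem hk) hg, ?_⟩
    rw [Submonoid.coe_mul, ← Matrix.mulVec_mulVec, e, ← ek, Matrix.mulVec_mulVec, ← Submonoid.coe_mul, inv_mul_cancel]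
    exact Matrix.one_mulVec _
  have top : ∀ (y : Fin (m + 2) → F) (t : Finset (Fin (m + 2))),
      P (Sum.elim (fun i => if i = 0 then 1 else 0) (fun i => if i ∈ t then y i else 0)) := by
    intro y t
    induction t using Finset.induction_on with
    | empty => exact ⟨1, K.one_mem, by
        rw [show (1 : Matrix.symplecticGroup (Fin (m + 2)) F).1 = 1 from rfl, Matrix.one_mulVec]
        funext z; rcases z with i | i <;> simp [Pi.single_apply]⟩
    | @insert j t hj ih =>
      have := step (Sum.inr j) (Sum.inl 0) (by simp) (y j) _ ih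
      convert this using 1
      funext z
      rw [rmat_mulVec]
      rcases z with i | i
      · by_cases h : j = 0 <;> simp [bar, h, eq_comm]
      · by_cases h : j = 0 <;> by_cases hi : i = j <;> subst_vars <;> simp_all [bar]
  have tops : ∀ (x : Fin (m + 2) → F), x 0 = 1 → ∀ (t : Finset (Fin (m + 2))), 0 ∉ t → ∀ y : Fin (m + 2) → F,
      P (Sum.elim (fun i => if i = 0 then 1 else if i ∈ t then x i else 0) y) := by
    intro x hx t
    induction t using Finset.induction_on with
    | empty => intro _ y; simpa using top y Finset.univ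
    | @insert j t hj ih =>
      intro h0 y
      have hj0 : j ≠ 0 := fun e => h0 (e ▸ Finset.mem_insert_self j t)
      have h0t : (0 : Fin (m + 2)) ∉ t := fun e => h0 (Finset.mem_insert_of_mem e)
      have := step (Sum.inl j) (Sum.inl 0) (by simpa using hj0) (x j) _ (ih h0t fun i => if i = 0 then y i + x j * y j else y i)
      convert this using 1
      funext z
      rw [rmat_mulVec]
      rcases z with i | i <;> by_cases hi : i = j <;> by_cases hi0 : i = 0 <;> subst_vars <;>
        simp_all [bar, sg, csgn, eq_comm] <;>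
        first | ring1 | linear_combination (x i) * hx | linear_combination -(x j * y j * (x 0 + 1)) * hx
  have one : ∀ v : Idx (m + 2) → F, v (Sum.inl 0) = 1 → P v := fun v hv => by
    have := tops (fun i => v (Sum.inl i)) hv (Finset.univ.erase 0) (by simp) fun i => v (Sum.inr i)
    convert this using 1
    funext z
    rcases z with i | i
    · by_cases h : i = 0 <;> simp [h, hv]
    · rfl
  have other : ∀ (v : Idx (m + 2) → F) (k : Fin (m + 2)), k ≠ 0 → v (Sum.inl k) ≠ 0 → P v := fun v k hk h => by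
    refine back (Sum.inl 0) (Sum.inl k) (by simpa using hk.symm) ((1 - v (Sum.inl 0)) / v (Sum.inl k)) v (one _ ?_)
    rw [rmat_mulVec]
    simp [bar, h, hk, hk.symm]
  have inl : ∀ (v : Idx (m + 2) → F) (k : Fin (m + 2)), v (Sum.inl k) ≠ 0 → P v := fun v k h => by
    by_cases hk : k = 0
    · subst hk
      by_cases h1 : v (Sum.inl 1) = 0
      · refine back (Sum.inl 1) (Sum.inl 0) (by simp) 1 v (other _ 1 (by simp) ?_)
        rw [rmat_mulVec]
        simp [bar, h1, h]
      · exact other v 1 (by simp) h1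
    · exact other v k hk h
  have all : ∀ v : Idx (m + 2) → F, v ≠ 0 → P v := fun v hv => by
    obtain ⟨z, hz⟩ : ∃ z, v z ≠ 0 := Function.ne_iff.mp hv
    rcases z with k | k
    · exact inl v k hz
    · by_cases h : v (Sum.inl k) = 0
      · refine back (Sum.inl k) (Sum.inr k) (by simp) 1 v (inl _ k ?_)
        rw [rmat_mulVec]
        simp [bar, h, hz]
      · exact inl v k h
  refine SymplecticBasic.eq_top_of_transv fun v c => ?_
  by_cases hv : v = 0
  · subst hv; rw [SymplecticBasic.transv_vec_zero]; exact K.one_mem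
  obtain ⟨g, hg, rfl⟩ := all v hv
  rw [← SymplecticBasic.smul_def, ← SymplecticBasic.transv_conj]
  refine K.mul_mem (K.mul_mem hg ?_) (K.inv_mem hg)
  suffices h : ∀ c' : F, SymplecticBasic.transv (Pi.single (Sum.inl 0) (1 : F)) c' ∈ K from h c
  intro c'
  have e : (SymplecticBasic.transv (Pi.single (Sum.inl (0 : Fin (m + 2))) (1 : F)) c') = lg (u c') := by
    refine SymplecticBasic.ext_smul_single fun i => ?_
    rw [SymplecticBasic.transv_smul, SymplecticBasic.smul_def, lg_u, SymplecticBasic.form_single_inl_right]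
    funext z
    rw [rmat_mulVec]
    by_cases h : z = Sum.inl 0 <;> simp [bar, h, Pi.single_eq_of_ne]
  rw [e]; exact Subgroup.mem_sup_right ⟨_, rfl⟩

/-- the amalgam injects -/
theorem inj_amalgam [Fintype F] {ζ : Fˣ} (hζ : ∀ y, y ∈ Subgroup.zpowers ζ) {a b : SL(2, F)}
    (hab : Subgroup.closure ({a, b} : Set SL(2, F)) = ⊤) {S : List SL(m + 2, F)}
    (hblk : ∀ g : SL(m + 2, F), Blk 0 g → g ∈ Subgroup.closure {g | g ∈ S})
    (H : Type) [Group H] (fA : SL(m + 2, F) →* H) (fB : SL(2, F) →* H)
    (π : H →* Matrix.symplecticGroup (Fin (m + 2)) F) (hA : ∀ x, π (fA x) = sig x) (hB : ∀ x, π (fB x) = lg x)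
    (hgen : fA.range ⊔ fB.range = ⊤) (h : ∀ r ∈ E ζ a b S, FreeGroup.lift (Sum.elim fA fB) r = 1) :
    Function.Injective π :=
  ShortPresSpRels.injective (relOf fA fB π hA hB hgen h) hζ hab hblk

end Cfsg.Agent.ShortPresSpPres
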