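import Cfsg.Agent.Lib.ShortPresAffine23
import Cfsg.Agent.Lib.ShortPresPairs23
import Cfsg.Agent.Lib.CoxeterTypeA

/-!
Seven relators for the symmetric group: the affine relations on the first `p + 2` points, one
relation moving that window along the long cycle, and `c ^ n = (t * c) ^ (n - 1)`.
-/

set_option autoImplicit false

namespace Cfsg.Agent.ShortPresSym

open Equiv Equiv.Perm ShortPresCarmichael ShortPresAffine ShortPres Fin.NatCast

variable {N : ℕ}

theorem rot_pow (i : ℕ) (k : Fin (N + 1)) : (finRotate (N + 1) ^ i) k = k + (i : Fin (N + 1)) := by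
  induction i with
  | zero => simp
  | succ i ih => rw [pow_succ', Perm.mul_apply, ih, finRotate_succ_apply, Nat.cast_succ, add_assoc]

theorem rot_conj (i : ℕ) : finRotate (N + 1) ^ i * swap (0 : Fin (N + 1)) 1 * (finRotate (N + 1) ^ i)⁻¹ =
    swap (i : Fin (N + 1)) ((i + 1 : ℕ) : Fin (N + 1)) := by
  rw [← Equiv.swap_apply_apply, rot_pow, rot_pow, zero_add, Nat.cast_succ, add_comm (1 : Fin (N + 1))]

theorem swap_adj (i : Fin N) :
    swap ((i : ℕ) : Fin (N + 1)) (((i : ℕ) + 1 : ℕ) : Fin (N + 1)) = swap i.castSucc i.succ := by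
  congr 1 <;> ext <;> rw [Fin.val_natCast, Nat.mod_eq_of_lt (by omega)] <;> simp

theorem rot_card : finRotate (N + 1) ^ (N + 1) = 1 := Equiv.ext fun k => by simp [rot_pow]

theorem swap_rot_pow : (swap (0 : Fin (N + 1)) 1 * finRotate (N + 1)) ^ N = 1 := by
  rcases Nat.eq_zero_or_pos N with rfl | hN
  · simp
  obtain ⟨M, rfl⟩ : ∃ M, N = M + 1 := ⟨N - 1, by omega⟩
  have e : swap (0 : Fin (M + 2)) 1 * finRotate (M + 2) = viaEmbeddingHom (Fin.succEmb (M + 1)) (finRotate (M + 1)) := by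
    refine Equiv.ext fun k => ?_
    rw [Perm.mul_apply, viaEmbeddingHom_apply]
    induction k using Fin.cases with
    | zero =>
      rw [viaEmbedding_apply_of_notMem _ _ _ (by simp), finRotate_succ_apply, zero_add, swap_apply_right]
    | succ j =>
      rw [show (j.succ : Fin (M + 2)) = Fin.succEmb (M + 1) j from rfl, viaEmbedding_apply]
      simp only [Fin.coe_succEmb]
      rcases Fin.eq_castSucc_or_eq_last j with ⟨i, rfl⟩ | rfl
      · rw [finRotate_succ_apply, finRotate_succ_apply, Fin.coeSucc_eq_succ, ← Fin.castSucc_succ,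
          Fin.coeSucc_eq_succ, swap_apply_of_ne_of_ne (Fin.succ_ne_zero _) (by simp [Fin.ext_iff])]
      · rw [finRotate_last, Fin.succ_last, finRotate_last, swap_apply_left]; rfl
  rw [e, ← map_pow, rot_card, map_one]

theorem closure_rot_swap : Subgroup.closure ({finRotate (N + 1), swap 0 1} : Set (Perm (Fin (N + 1)))) = ⊤ := by
  set K := Subgroup.closure ({finRotate (N + 1), swap 0 1} : Set (Perm (Fin (N + 1))))
  have hc : finRotate (N + 1) ∈ K := Subgroup.subset_closure (Set.mem_insert _ _)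
  have ht : swap (0 : Fin (N + 1)) 1 ∈ K := Subgroup.subset_closure (Set.mem_insert_of_mem _ rfl)
  refine eq_top_iff.mpr fun g _ => ?_
  have hg : g ∈ Submonoid.closure (Set.range fun i : Fin N => swap i.castSucc i.succ) := by
    rw [Equiv.Perm.mclosure_swap_castSucc_succ]; trivial
  refine (Submonoid.closure_le (S := K.toSubmonoid)).mpr ?_ hg
  rintro _ ⟨i, rfl⟩
  show swap i.castSucc i.succ ∈ K
  have := K.mul_mem (K.mul_mem (K.pow_mem hc i.val) ht) (K.inv_mem (K.pow_mem hc i.val))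
  rwa [rot_conj, swap_adj] at this

variable {H : Type} [Group H]

/-- the conjugates of the transposition along the long cycle -/
def sg (c t : H) (i : ℕ) : H := c ^ i * t * (c ^ i)⁻¹

/-- the orders of products of two of them -/
def Mo (d : ℕ) : ℕ := if d = 0 then 1 else if d = 1 then 3 else 2

theorem map_sg {c t : H} {π : H →* Perm (Fin (N + 1))} (hc : π c = finRotate (N + 1)) (ht : π t = swap 0 1)
    (i : ℕ) : π (sg c t i) = swap (i : Fin (N + 1)) ((i + 1 : ℕ) : Fin (N + 1)) := by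
  rw [sg, map_mul, map_mul, map_inv, map_pow, hc, ht, rot_conj]

theorem chain (hN : 1 ≤ N) {c t : H} (π : H →* Perm (Fin (N + 1))) (hc : π c = finRotate (N + 1))
    (ht : π t = swap 0 1) (h7 : c ^ (N + 1) = (t * c) ^ N)
    (hd : ∀ d ≤ (N + 1) / 2, (t * sg c t d) ^ Mo d = 1) :
    ∀ g ∈ Subgroup.closure ({c, t} : Set H), π g = 1 → g = 1 := by
  set s := sg c t with hs
  have s0 : s 0 = t := by simp [hs, sg]
  have hZ : Commute (c ^ (N + 1)) t := by
    have h1 : Commute (c ^ (N + 1)) (t * c) := h7 ▸ (Commute.refl _).pow_left N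
    simpa using h1.mul_right ((Commute.refl c).pow_left (N + 1)).inv_right
  have per : ∀ i, s (i + (N + 1)) = s i := fun i => by
    show c ^ (i + (N + 1)) * t * (c ^ (i + (N + 1)))⁻¹ = c ^ i * t * (c ^ i)⁻¹
    rw [pow_add, mul_assoc (c ^ i) _ t, hZ.eq]; group
  have hshift : ∀ i d k, (s i * s (i + d)) ^ k = c ^ i * (t * s d) ^ k * (c ^ i)⁻¹ := fun i d k => by
    rw [← conj_pow]
    congr 1
    simp only [hs, sg, pow_add]; group
  have h2 : t * t = 1 := by simpa [Mo, s0] using hd 0 (Nat.zero_le _)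
  have inv2 : ∀ i, (s i)⁻¹ = s i := fun i => inv_eq_of_mul_eq_one_left (by
    show c ^ i * t * (c ^ i)⁻¹ * (c ^ i * t * (c ^ i)⁻¹) = 1
    calc _ = c ^ i * (t * t) * (c ^ i)⁻¹ := by group
      _ = 1 := by rw [h2]; group)
  have symm : ∀ i j k, (s i * s j) ^ k = 1 → (s j * s i) ^ k = 1 := fun i j k h => by
    rw [show s j * s i = (s i * s j)⁻¹ by rw [mul_inv_rev, inv2, inv2], inv_pow, h, inv_one]
  have near : ∀ i d, d ≤ (N + 1) / 2 → (s i * s (i + d)) ^ Mo d = 1 := fun i d hdd => by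
    rw [hshift, hd d hdd]; group
  have le : ∀ i j, i ≤ j → j < N → (s i * s j) ^ Mo (j - i) = 1 := fun i j hij hj => by
    by_cases hdd : j - i ≤ (N + 1) / 2
    · simpa [Nat.add_sub_cancel' hij] using near i (j - i) hdd
    · have e : N + 1 - (j - i) ≤ (N + 1) / 2 := by omega
      have := near j _ e
      rw [show j + (N + 1 - (j - i)) = i + (N + 1) by omega, per] at this
      rw [show Mo (j - i) = 2 by simp only [Mo]; split_ifs <;> omega]
      rw [show Mo (N + 1 - (j - i)) = 2 by simp only [Mo]; split_ifs <;> omega] at this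
      exact symm _ _ _ this
  have lift : CoxeterMatrix.IsLiftable (CoxeterMatrix.A N) (fun i : Fin N => s i.val) := by
    intro i j
    have key : ∀ i j : Fin N, (i : ℕ) ≤ j → (if i = j then 1 else if (j : ℕ) + 1 = i ∨ (i : ℕ) + 1 = j then 3 else 2) =
        Mo ((j : ℕ) - i) := fun i j hij => by
      simp only [Mo, Fin.ext_iff]
      split_ifs <;> omega
    simp only [CoxeterMatrix.A, Matrix.of_apply]
    show (s i * s j) ^ (if i = j then 1 else if (j : ℕ) + 1 = i ∨ (i : ℕ) + 1 = j then 3 else 2) = 1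
    rcases le_total (i : ℕ) j with h | h
    · rw [key i j h]; exact le _ _ h j.2
    · rw [show (if i = j then 1 else if (j : ℕ) + 1 = i ∨ (i : ℕ) + 1 = j then 3 else 2) = Mo ((i : ℕ) - j) by
        rw [← key j i h]; simp only [Fin.ext_iff]; split_ifs <;> omega]
      exact symm _ _ _ (le _ _ h i.2)
  let L : CoxeterTypeA.W N →* H := (CoxeterTypeA.sys N).lift ⟨_, lift⟩
  have hL : ∀ i : Fin N, L ((CoxeterTypeA.sys N).simple i) = s i.val := fun i =>
    (CoxeterTypeA.sys N).lift_apply_simple lift i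
  have hcomp : π.comp L = CoxeterTypeA.toPerm N := (CoxeterTypeA.sys N).ext_simple fun i => by
    rw [MonoidHom.comp_apply, hL, CoxeterTypeA.toPerm_simple, hs, map_sg hc ht, swap_adj]
  have mem : ∀ i, i < N → s i ∈ L.range := fun i hi => ⟨_, hL ⟨i, hi⟩⟩
  have prod : ∀ k, k ≤ N → (t * c) ^ k * (c ^ k)⁻¹ ∈ L.range := fun k hk => by
    induction k with
    | zero => simp
    | succ k ih =>
      convert L.range.mul_mem (ih (by omega)) (mem k (by omega)) using 1
      simp only [hs, sg, pow_succ]; group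
  have hgen : Subgroup.closure ({c, t} : Set H) ≤ L.range := by
    rw [Subgroup.closure_le]
    rintro _ (rfl | rfl)
    · have := prod N le_rfl
      rwa [← h7, pow_succ', mul_inv_cancel_right] at this
    · exact s0 ▸ mem 0 (by omega)
  intro g hg h1
  obtain ⟨w, rfl⟩ := hgen hg
  have : w = 1 := (CoxeterTypeA.toPerm_bijective N).1 (by rw [map_one, ← hcomp]; exact h1)
  rw [this, map_one]

section Window

variable {p : ℕ} [Fact p.Prime]

/-- the points `2, …, p + 1` -/
def pt (hN : p + 1 ≤ N) (j : ZMod p) : Fin (N + 1) := ⟨2 + j.val, by have := ZMod.val_lt j; omega⟩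

theorem pts (hN : p + 1 ≤ N) : Pts (pt hN) (0 : Fin (N + 1)) 1 := by
  have : 2 ≤ p := (Fact.out : p.Prime).two_le
  have h1 : ((1 : Fin (N + 1)) : ℕ) = 1 := by rw [Fin.val_one']; exact Nat.mod_eq_of_lt (by omega)
  refine ⟨fun e => by
    have := congrArg Fin.val e
    rw [Fin.val_zero, h1] at this; omega, fun i j e => ?_, fun j e => ?_, fun j e => ?_⟩
  · exact ZMod.val_injective p (by simpa [pt] using congrArg Fin.val e)
  · simpa [pt] using congrArg Fin.val e
  · have := congrArg Fin.val e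
    simp only [pt, h1] at this; omega

theorem mem_inside_of (hN : p + 1 ≤ N) {g : Perm (Fin (N + 1))} (hg : ∀ k : Fin (N + 1), p + 2 ≤ (k : ℕ) → g k = k) :
    g ∈ inside (pt hN) (0 : Fin (N + 1)) 1 := by
  intro k h0 h1 hj
  refine hg k (Nat.le_of_not_lt fun hk => ?_)
  have e0 : (k : ℕ) ≠ 0 := fun e => h0 (Fin.ext e)
  have e1 : (k : ℕ) ≠ 1 := fun e => h1 (Fin.ext (by rw [Fin.val_one', Nat.mod_eq_of_lt (by omega)]; exact e))
  refine hj ((k - 2 : ℕ) : ZMod p) (Fin.ext ?_)
  show (k : ℕ) = 2 + _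
  rw [ZMod.val_natCast, Nat.mod_eq_of_lt (by omega)]
  omega

theorem of_mem_inside (hN : p + 1 ≤ N) {g : Perm (Fin (N + 1))} (hg : g ∈ inside (pt hN) (0 : Fin (N + 1)) 1)
    (k : Fin (N + 1)) (hk : p + 2 ≤ (k : ℕ)) : g k = k := by
  refine hg k (fun e => by subst e; simp at hk) (fun e => ?_) (fun j e => ?_)
  · subst e; rw [Fin.val_one', Nat.mod_eq_of_lt (by omega)] at hk; omega
  · subst e; have := ZMod.val_lt j; simp only [pt] at hk; omega

theorem pt_zero (hN : p + 1 ≤ N) : pt hN 0 = ((2 : ℕ) : Fin (N + 1)) := by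
  have : 2 ≤ p := (Fact.out : p.Prime).two_le
  exact Fin.ext (by rw [Fin.val_natCast, Nat.mod_eq_of_lt (by omega)]; simp [pt])

theorem val_cast {i : ℕ} (hi : i ≤ N) : ((i : Fin (N + 1)) : ℕ) = i := by
  rw [Fin.val_natCast, Nat.mod_eq_of_lt (by omega)]

/-- injectivity from the seven relations -/
theorem inj_seven {r : ℕ} (R : Root p r) (hp : 3 ≤ p) (hN : p + 1 ≤ N) (hN' : N ≤ 2 * p)
    {c t a b x : H} (π : H →* Perm (Fin (N + 1))) {A B C : Perm (Fin (N + 1))}
    (M0 : Model r (pt hN) 0 1 A B C) (hc : π c = finRotate (N + 1)) (ht : π t = swap 0 1)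
    (ha : π a = A) (hb : π b = B) (hx : x = t * (c * t * c⁻¹)) (h : Rel p r a b x)
    (hW : b * b * a ∈ NN p a x) (htM : t ∈ Subgroup.closure ({a, b, x} : Set H))
    {u u' : H} (hu : u ∈ Subgroup.closure ({a, b, x} : Set H)) (hu' : u' ∈ Subgroup.closure ({a, b, x} : Set H))
    (hG : ∀ k : ℕ, k < p → π u (k : Fin (N + 1)) = ((k + 1 : ℕ) : Fin (N + 1)))
    (h6 : c * u * c⁻¹ = u') (h7 : c ^ (N + 1) = (t * c) ^ N) :
    ∀ g ∈ Subgroup.closure ({c, t, a} : Set H), π g = 1 → g = 1 := by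
  have P0 := pts (p := p) hN
  set M := Subgroup.closure ({a, b, x} : Set H)
  have hX : π x = cyc 0 1 (pt hN 0) := by
    rw [hx, map_mul, map_mul, map_mul, map_inv, hc, ht, pt_zero, cyc]
    congr 1
    simpa using rot_conj (N := N) 1
  have hxx : π x = cyc 0 1 (pt hN 0) := hX
  have injM : ∀ g ∈ M, π g = 1 → g = 1 := fun g hg h1 =>
    h.inj_sym R P0 (ha ▸ M0.shift) hxx hW (hb ▸ M0.signB) hg h1
  have eqM : ∀ g ∈ M, ∀ g' ∈ M, π g = π g' → g = g' := fun g hg g' hg' e =>
    mul_inv_eq_one.mp (injM _ (M.mul_mem hg (M.inv_mem hg')) (by rw [map_mul, map_inv, e, mul_inv_cancel]))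
  have hM0 : sg c t 0 ∈ M := by simpa [sg] using htM
  have hM1 : sg c t 1 ∈ M := by
    have hxM : x ∈ M := Subgroup.subset_closure (Or.inr (Or.inr rfl))
    convert M.mul_mem (M.inv_mem htM) hxM using 1
    rw [hx, sg, pow_one]; group
  have hM : ∀ i, i ≤ p → sg c t i ∈ M := by
    intro i
    induction i using Nat.strong_induction_on with
    | _ i ih =>
      intro hi
      match i, ih, hi with
      | 0, _, _ => exact hM0
      | 1, _, _ => exact hM1
      | i + 2, ih, hi =>
        have e : sg c t (i + 1) = u * sg c t i * u⁻¹ := by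
          refine eqM _ (ih (i + 1) (by omega) (by omega)) _
            (M.mul_mem (M.mul_mem hu (ih i (by omega) (by omega))) (M.inv_mem hu)) ?_
          rw [map_mul, map_mul, map_inv, map_sg hc ht, map_sg hc ht, ← Equiv.swap_apply_apply,
            hG i (by omega), hG (i + 1) (by omega)]
        have e' : sg c t (i + 2) = u' * sg c t (i + 1) * u'⁻¹ := by
          calc sg c t (i + 2) = c * sg c t (i + 1) * c⁻¹ := by simp only [sg, pow_succ']; group
            _ = c * (u * sg c t i * u⁻¹) * c⁻¹ := by rw [e]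
            _ = (c * u * c⁻¹) * (c * sg c t i * c⁻¹) * (c * u * c⁻¹)⁻¹ := by group
            _ = u' * sg c t (i + 1) * u'⁻¹ := by rw [h6]; simp only [sg, pow_succ']; group
        rw [e']
        exact M.mul_mem (M.mul_mem hu' (ih (i + 1) (by omega) (by omega))) (M.inv_mem hu')
  have hd : ∀ d ≤ (N + 1) / 2, (t * sg c t d) ^ Mo d = 1 := fun d hd => by
    refine injM _ (M.pow_mem (M.mul_mem htM (hM d (by omega))) _) ?_
    rw [map_pow, map_mul, ht, map_sg hc ht]
    have hl := CoxeterTypeA.swap_liftable N ⟨0, by omega⟩ ⟨d, by omega⟩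
    simp only [CoxeterMatrix.A, Matrix.of_apply] at hl
    rw [← swap_adj, ← swap_adj] at hl
    simp only [Nat.cast_zero, zero_add, Nat.cast_one] at hl
    convert hl using 2
    rcases d with _ | _ | d <;> simp [Mo, Fin.ext_iff]
  have injK := chain (by omega) π hc ht h7 hd
  set K := Subgroup.closure ({c, t} : Set H)
  have hcK : c ∈ K := Subgroup.subset_closure (Or.inl rfl)
  have htK : t ∈ K := Subgroup.subset_closure (Or.inr rfl)
  set P := M ⊓ K
  have sgP : ∀ i, i ≤ p → sg c t i ∈ P := fun i hi =>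
    ⟨hM i hi, K.mul_mem (K.mul_mem (K.pow_mem hcK _) htK) (K.inv_mem (K.pow_mem hcK _))⟩
  have hsw : ∀ i, 2 ≤ i → i ≤ p + 1 → swap (1 : Fin (N + 1)) (i : Fin (N + 1)) ∈ P.map π := fun i h2 => by
    induction i, h2 using Nat.le_induction with
    | base => exact fun _ => ⟨_, sgP 1 (by omega), by rw [map_sg hc ht, Nat.cast_one]⟩
    | succ i h2 ih =>
      intro hi
      have hs : swap (i : Fin (N + 1)) ((i + 1 : ℕ) : Fin (N + 1)) ∈ P.map π :=
        ⟨_, sgP i (by omega), map_sg hc ht i⟩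
      have := (P.map π).mul_mem ((P.map π).mul_mem hs (ih (by omega))) ((P.map π).inv_mem hs)
      rwa [← Equiv.swap_apply_apply, swap_apply_left, swap_apply_of_ne_of_ne] at this
      · intro e
        have := congrArg Fin.val e
        rw [val_cast (show i ≤ N by omega), Fin.val_one', Nat.mod_eq_of_lt (by omega)] at this; omega
      · intro e
        have := congrArg Fin.val e
        rw [val_cast (show i + 1 ≤ N by omega), Fin.val_one', Nat.mod_eq_of_lt (by omega)] at this; omega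
  have hAP : A ∈ P.map π := by
    obtain ⟨W, hWA⟩ := even_word P0 M0.signA M0.memA
    have hr : A ∈ Subgroup.closure (Set.range fun j => cyc (0 : Fin (N + 1)) 1 (pt hN j)) := by
      rw [← hWA, ← FreeGroup.range_lift_eq_closure]; exact ⟨W, rfl⟩
    refine (Subgroup.closure_le _).mpr ?_ hr
    rintro _ ⟨j, rfl⟩
    refine (P.map π).mul_mem ⟨_, sgP 0 (Nat.zero_le _), by rw [map_sg hc ht]; simp⟩ ?_
    have := hsw (2 + j.val) (by omega) (by have := ZMod.val_lt j; omega)
    rwa [show ((2 + j.val : ℕ) : Fin (N + 1)) = pt hN j from Fin.ext (by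
      rw [val_cast (by have := ZMod.val_lt j; omega)]; rfl)] at this
  have haK : a ∈ K := by
    obtain ⟨q, hq, hqA⟩ := hAP
    rw [eqM a (Subgroup.subset_closure (Or.inl rfl)) q hq.1 (ha.trans hqA.symm)]
    exact hq.2
  intro g hg
  refine injK g ((Subgroup.closure_le _).mpr ?_ hg)
  rintro _ (rfl | rfl | rfl)
  exacts [hcK, htK, haK]

/-- the symmetric group on three letters with seven relators -/
theorem sym_pres₃ (hp : 3 ≤ p) (hN : p + 1 ≤ N) (hN' : N ≤ 2 * p) :
    ∃ (A : Perm (Fin (N + 1))) (L : List (FreeGroup (Fin 3))),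
      L.length ≤ 7 ∧ Pres ![finRotate (N + 1), swap 0 1, A] L := by
  obtain ⟨r, R⟩ := exists_root p hp
  have P0 := pts (p := p) hN
  obtain ⟨A, B, C, M0⟩ := exists_model R hp P0
  set ρ := finRotate (N + 1) with hρ
  set τ : Perm (Fin (N + 1)) := swap 0 1 with hτ
  set X := cyc (0 : Fin (N + 1)) 1 (pt hN 0) with hX
  have eX : τ * (ρ * τ * ρ⁻¹) = X := by
    rw [hX, pt_zero, cyc, hτ, hρ]
    congr 1
    simpa using rot_conj (N := N) 1
  have hτi : τ ∈ inside (pt hN) 0 1 := fun k h1 h2 _ => swap_apply_of_ne_of_ne h1 h2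
  obtain ⟨V, hV⟩ := even_word₂ (g := τ * B) P0 M0.shift
    (by rw [map_mul, M0.signB, hτ, sign_swap P0.ne]; rfl) (Subgroup.mul_mem _ hτi M0.memB)
  obtain ⟨W, hW⟩ := even_word (g := B * B * A) P0
    (by rw [map_mul, map_mul, M0.signB, M0.signA]; rfl)
    (Subgroup.mul_mem _ (Subgroup.mul_mem _ M0.memB M0.memB) M0.memA)
  let G : Perm (Fin (N + 1)) := viaEmbedding (finRotate (p + 1)) (Fin.castLEEmb (by omega : p + 1 ≤ N + 1))
  have hGapp : ∀ k : ℕ, k < p → G (k : Fin (N + 1)) = ((k + 1 : ℕ) : Fin (N + 1)) := fun k hk => by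
    rw [show (k : Fin (N + 1)) = Fin.castLEEmb (by omega : p + 1 ≤ N + 1) ⟨k, by omega⟩ from
      Fin.ext (by simp [val_cast (show k ≤ N by omega)]), viaEmbedding_apply, finRotate_succ_apply]
    refine Fin.ext ?_
    rw [val_cast (show k + 1 ≤ N by omega)]
    simp [Fin.val_add, Nat.mod_eq_of_lt (show k + 1 < p + 1 by omega)]
  have hGfix : ∀ k : Fin (N + 1), p + 1 ≤ (k : ℕ) → G k = k := fun k hk =>
    viaEmbedding_apply_of_notMem _ _ _ (by rintro ⟨i, rfl⟩; simp at hk; omega)
  obtain ⟨w, hw⟩ := perm_word₃ P0 M0.shift M0.memB M0.signB (mem_inside_of hN fun k hk => hGfix k (by omega))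
  obtain ⟨w', hw'⟩ := perm_word₃ (g := ρ * G * ρ⁻¹) P0 M0.shift M0.memB M0.signB (mem_inside_of hN fun k hk => by
    have e : ρ (k - 1) = k := by rw [hρ, finRotate_succ_apply, sub_add_cancel]
    rw [← e, Perm.mul_apply, Perm.mul_apply, Perm.inv_def, Equiv.symm_apply_apply, hGfix]
    have hk0 : k ≠ 0 := fun e => by subst e; simp at hk
    rw [Fin.coe_sub_one, if_neg hk0]; omega)
  let c' : FreeGroup (Fin 3) := FreeGroup.of 0
  let t' : FreeGroup (Fin 3) := FreeGroup.of 1
  let a' : FreeGroup (Fin 3) := FreeGroup.of 2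
  let x' : FreeGroup (Fin 3) := t' * (c' * t' * c'⁻¹)
  let b' : FreeGroup (Fin 3) := t' * FreeGroup.lift ![a', x'] V
  let L : List (FreeGroup (Fin 3)) :=
    [b' * a' * b'⁻¹ * (a' ^ r)⁻¹, b' * x' * b'⁻¹ * x'⁻¹, x' * x' * x' * (a' ^ p)⁻¹,
      x' * (a' * x' * a'⁻¹) * (x' * (a' * x' * a'⁻¹)),
      b' * b' * a' * (FreeGroup.lift (xs p a' x') W)⁻¹,
      c' * FreeGroup.lift ![a', b', x'] w * c'⁻¹ * (FreeGroup.lift ![a', b', x'] w')⁻¹,
      c' ^ (N + 1) * ((t' * c') ^ N)⁻¹]
  have ev : ∀ (K : Type) [Group K] (y : Fin 3 → K) (b x : K), x = y 1 * (y 0 * y 1 * (y 0)⁻¹) →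
      b = y 1 * FreeGroup.lift ![y 2, x] V →
      ((∀ l ∈ L, FreeGroup.lift y l = 1) ↔
        b * y 2 * b⁻¹ = y 2 ^ r ∧ b * x * b⁻¹ = x ∧ x * x * x = y 2 ^ p ∧
        x * (y 2 * x * (y 2)⁻¹) * (x * (y 2 * x * (y 2)⁻¹)) = 1 ∧
        b * b * y 2 = FreeGroup.lift (xs p (y 2) x) W ∧
        y 0 * FreeGroup.lift ![y 2, b, x] w * (y 0)⁻¹ = FreeGroup.lift ![y 2, b, x] w' ∧
        y 0 ^ (N + 1) = (y 1 * y 0) ^ N) := by
    intro K _ y b x hx hb
    have ex : FreeGroup.lift y x' = x := by simp [x', c', t', hx]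
    have eV : FreeGroup.lift y (FreeGroup.lift ![a', x'] V) = FreeGroup.lift ![y 2, x] V :=
      map_word (FreeGroup.lift y) (fun i => by fin_cases i <;> simp [a', ex]) V
    have eb : FreeGroup.lift y b' = b := by simp [b', t', hb, eV]
    have eW : FreeGroup.lift y (FreeGroup.lift (xs p a' x') W) = FreeGroup.lift (xs p (y 2) x) W :=
      map_word (FreeGroup.lift y) (fun j => by simp [xs, a', ex]) W
    have ew : ∀ v, FreeGroup.lift y (FreeGroup.lift ![a', b', x'] v) = FreeGroup.lift ![y 2, b, x] v :=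
      map_word (FreeGroup.lift y) (fun i => by fin_cases i <;> simp [a', ex, eb])
    simp only [L, List.forall_mem_cons, List.not_mem_nil, IsEmpty.forall_iff, implies_true, and_true,
      map_mul, map_inv, map_pow, ex, eb, eW, ew]
    simp only [a', c', t', FreeGroup.lift_apply_of, mul_inv_eq_one]
  have eB : τ * FreeGroup.lift ![A, X] V = B := by rw [hV, hτ, ← mul_assoc, swap_mul_self, one_mul]
  refine ⟨A, L, by simp [L], Pres.of_inj ?_ ?_ ?_⟩
  · have := (ev (Perm (Fin (N + 1))) ![ρ, τ, A] B X eX.symm eB.symm).mpr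
    refine this ⟨M0.conjBA, M0.conjBX, ?_, ?_, ?_, ?_, ?_⟩
    · exact (ShortPresGlue.cyc_cube P0.ne (P0.fa 0) (P0.fb 0)).trans M0.apow.symm
    · show X * (A * X * A⁻¹) * (X * (A * X * A⁻¹)) = 1
      have := M0.shift.conj 1
      rw [pow_one, Nat.cast_one] at this
      rw [this]
      haveI : Fact (1 < p) := ⟨by omega⟩
      exact ShortPresGlue.cyc_pair P0.ne (P0.fa _) (P0.fb _) (P0.fa _) (P0.fb _) (fun e => zero_ne_one (P0.inj e))
    · show B * B * A = FreeGroup.lift (xs p A X) W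
      rw [← hW]
      congr 2
      funext j
      rw [xs, M0.shift.conj, ZMod.natCast_zmod_val]
    · show ρ * FreeGroup.lift ![A, B, X] w * ρ⁻¹ = FreeGroup.lift ![A, B, X] w'
      rw [hw, hw']
    · show ρ ^ (N + 1) = (τ * ρ) ^ N
      rw [hρ, hτ, rot_card, swap_rot_pow]
  · refine eq_top_iff.mpr (closure_rot_swap.ge.trans (Subgroup.closure_mono ?_))
    rintro _ (rfl | rfl)
    exacts [⟨0, rfl⟩, ⟨1, rfl⟩]
  · intro H _ y π hπ hgen hy
    obtain ⟨h1, h2, h3, h4, h5, h6, h7⟩ := (ev H y _ _ rfl rfl).mp hy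
    set x := y 1 * (y 0 * y 1 * (y 0)⁻¹) with hx
    set b := y 1 * FreeGroup.lift ![y 2, x] V with hb
    have pc : π (y 0) = ρ := hπ 0
    have pt : π (y 1) = τ := hπ 1
    have pa : π (y 2) = A := hπ 2
    have px : π x = X := by rw [hx, map_mul, map_mul, map_mul, map_inv, pc, pt, eX]
    have pV : π (FreeGroup.lift ![y 2, x] V) = FreeGroup.lift ![A, X] V :=
      map_word π (fun i => by fin_cases i <;> simp [pa, px]) V
    have pb : π b = B := by rw [hb, map_mul, pt, pV, eB]
    set M := Subgroup.closure ({y 2, b, x} : Set H)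
    have hV' : FreeGroup.lift ![y 2, x] V ∈ M := by
      have hle : (FreeGroup.lift ![y 2, x]).range ≤ M := by
        rw [FreeGroup.range_lift_eq_closure]
        exact Subgroup.closure_mono (by rintro _ ⟨i, rfl⟩; fin_cases i <;> simp)
      exact hle ⟨V, rfl⟩
    have hw3 : ∀ v, FreeGroup.lift ![y 2, b, x] v ∈ M := fun v => by
      have hle : (FreeGroup.lift ![y 2, b, x]).range ≤ M := by
        rw [FreeGroup.range_lift_eq_closure]
        exact Subgroup.closure_mono (by rintro _ ⟨i, rfl⟩; fin_cases i <;> simp)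
      exact hle ⟨v, rfl⟩
    have htM : y 1 ∈ M := by
      have := M.mul_mem (Subgroup.subset_closure (show b ∈ ({y 2, b, x} : Set H) by simp)) (M.inv_mem hV')
      rwa [hb, mul_inv_cancel_right] at this
    have hW' : b * b * y 2 ∈ NN p (y 2) x := by
      rw [h5, NN, ← FreeGroup.range_lift_eq_closure]; exact ⟨W, rfl⟩
    have pw : π (FreeGroup.lift ![y 2, b, x] w) = G := by
      rw [← hw]; exact map_word π (fun i => by fin_cases i <;> simp [pa, pb, px, hX]) w
    have key := inj_seven R hp hN hN' π M0 pc pt pa pb hx ⟨h1, Or.inl h2, h3, h4⟩ hW' htM (hw3 w) (hw3 w')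
      (fun k hk => by rw [pw]; exact hGapp k hk) h6 h7
    refine (injective_iff_map_eq_one π).mpr fun g => key g ?_
    have hle : (⊤ : Subgroup H) ≤ Subgroup.closure {y 0, y 1, y 2} := by
      rw [← hgen]
      exact Subgroup.closure_mono (by rintro _ ⟨i, rfl⟩; fin_cases i <;> simp)
    exact hle (Subgroup.mem_top g)

end Window

end Cfsg.Agent.ShortPresSym
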