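import Cfsg.Agent.Lib.ShortPresAlt23

/-!
Symmetric and alternating groups: seven relators in general, and the small degrees.
-/

set_option autoImplicit false

namespace Cfsg.Agent.ShortPresSymAlt

open Equiv Equiv.Perm ShortPresCarmichael ShortPresAffine ShortPres ShortPresSym Fin.NatCast

theorem exists_window (N : ℕ) (hN : 4 ≤ N) : ∃ p, p.Prime ∧ 3 ≤ p ∧ p + 1 ≤ N ∧ N ≤ 2 * p := by
  by_cases h : N ≤ 6
  · exact ⟨3, Nat.prime_three, le_rfl, by omega, by omega⟩
  obtain ⟨p, hp, h1, h2⟩ := Nat.exists_prime_lt_and_le_two_mul ((N - 1) / 2) (by omega)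
  exact ⟨p, hp, by omega, by omega, by omega⟩

theorem sym_seven (N : ℕ) (hN : 4 ≤ N) : ∃ (c t a : Perm (Fin (N + 1))) (L : List (FreeGroup (Fin 3))),
    L.length ≤ 7 ∧ Subgroup.closure ({c, t} : Set (Perm (Fin (N + 1)))) = ⊤ ∧ Pres ![c, t, a] L := by
  obtain ⟨p, hp, h3, h1, h2⟩ := exists_window N hN
  haveI : Fact p.Prime := ⟨hp⟩
  obtain ⟨a, L, hL, hP⟩ := ShortPresSym.sym_pres₃ h3 h1 h2
  exact ⟨_, _, a, L, hL, closure_rot_swap, hP⟩

theorem alt_seven (N : ℕ) (hN : 4 ≤ N) :
    ∃ (s x a : alternatingGroup (Fin (N + 1))) (L : List (FreeGroup (Fin 3))),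
    L.length ≤ 7 ∧ Subgroup.closure ({s, x} : Set (alternatingGroup (Fin (N + 1)))) = ⊤ ∧ Pres ![s, x, a] L := by
  obtain ⟨p, hp, h3, h1, h2⟩ := exists_window N hN
  haveI : Fact p.Prime := ⟨hp⟩
  exact ShortPresAlt.alt_pres₃ h3 h1 h2

/-- two letters with at most `k` relators -/
def Two (G : Type) [Group G] (k : ℕ) : Prop :=
  ∃ (x : Fin 2 → G) (L : List (FreeGroup (Fin 2))), L.length ≤ k ∧ Pres x L

theorem two_subsingleton (G : Type) [Group G] [Subsingleton G] : Two G 8 :=
  ⟨fun _ => 1, [FreeGroup.of 0, FreeGroup.of 1], by simp,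
    Pres.of_inj (fun r _ => Subsingleton.elim _ _) (Subsingleton.elim _ _) fun H _ y π _ hgen hy => by
      have h : ∀ i, y i = 1 := fun i => by
        fin_cases i
        · simpa using hy (FreeGroup.of 0) (by simp)
        · simpa using hy (FreeGroup.of 1) (by simp)
      intro g g' _
      have hbot : Subgroup.closure (Set.range y) ≤ (⊥ : Subgroup H) := by
        rw [Subgroup.closure_le]; rintro _ ⟨i, rfl⟩; exact h i
      rw [hgen] at hbot
      rw [show g = 1 from hbot (Subgroup.mem_top g), show g' = 1 from hbot (Subgroup.mem_top g')]⟩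

theorem sym_small (N : ℕ) (h1 : 1 ≤ N) (h3 : N ≤ 3) : Two (Perm (Fin (N + 1))) 8 := by
  let c' : FreeGroup (Fin 2) := FreeGroup.of 0
  let t' : FreeGroup (Fin 2) := FreeGroup.of 1
  let L : List (FreeGroup (Fin 2)) := (c' ^ (N + 1) * ((t' * c') ^ N)⁻¹) ::
    (List.range ((N + 1) / 2 + 1)).map fun d => (t' * sg c' t' d) ^ Mo d
  have ev : ∀ (K : Type) [Group K] (y : Fin 2 → K), (∀ l ∈ L, FreeGroup.lift y l = 1) ↔
      y 0 ^ (N + 1) = (y 1 * y 0) ^ N ∧ ∀ d ≤ (N + 1) / 2, (y 1 * sg (y 0) (y 1) d) ^ Mo d = 1 := by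
    intro K _ y
    simp [L, c', t', sg, List.mem_map, List.mem_range, mul_inv_eq_one, Nat.lt_succ_iff]
  refine ⟨![finRotate (N + 1), swap 0 1], L, by simp [L]; omega, Pres.of_inj ?_ ?_ ?_⟩
  · refine (ev _ _).mpr ⟨by simp [rot_card, swap_rot_pow], fun d hd => ?_⟩
    simp only [sg, Matrix.cons_val_zero, Matrix.cons_val_one, Matrix.cons_val_fin_one, rot_conj]
    interval_cases N <;> interval_cases d <;> decide
  · rw [← closure_rot_swap, Matrix.range_cons, Matrix.range_cons, Matrix.range_empty, Set.union_empty,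
      Set.singleton_union]
  · intro H _ y π hπ hgen hy
    obtain ⟨h7, hd⟩ := (ev H y).mp hy
    refine (injective_iff_map_eq_one π).mpr fun g => chain h1 π (hπ 0) (hπ 1) h7 hd g ?_
    have hle : (⊤ : Subgroup H) ≤ Subgroup.closure {y 0, y 1} := by
      rw [← hgen]
      exact Subgroup.closure_mono (by rintro _ ⟨i, rfl⟩; fin_cases i <;> simp)
    exact hle (Subgroup.mem_top g)

theorem alt_gen {α : Type} [Fintype α] [DecidableEq α] {a b : α} (hab : a ≠ b) (s : Finset α) (hs : ∀ x, x = a ∨ x = b ∨ x ∈ s)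
    (ha : a ∉ s) (hb : b ∉ s) (x : Fin 2 → alternatingGroup α)
    (hx : ∀ i ∈ s, cyc a b i ∈ Set.range fun j => (x j : Perm α)) :
    Subgroup.closure (Set.range x) = ⊤ := by
  refine eq_top_iff.mpr fun g _ => ?_
  have hg := mem_closure_cyc hab s ha hb g (mem_alternatingGroup.mp g.2) fun k hk => by
    simp only [Finset.mem_insert, not_or] at hk
    exact absurd (hs k) (by simp [hk.1, hk.2.1, hk.2.2])
  have hle : Subgroup.closure (cyc a b '' (s : Set α)) ≤
      (Subgroup.closure (Set.range x)).map (alternatingGroup α).subtype := by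
    rw [Subgroup.closure_le]
    rintro _ ⟨i, hi, rfl⟩
    obtain ⟨j, hj⟩ := hx i hi
    exact ⟨x j, Subgroup.subset_closure ⟨j, rfl⟩, hj⟩
  obtain ⟨g', hg', e⟩ := hle hg
  rwa [← Subgroup.subtype_injective _ e]

theorem alt_three : Two (alternatingGroup (Fin 3)) 8 := by
  refine ⟨![⟨cyc 0 1 2, by rw [mem_alternatingGroup]; decide⟩, 1],
    [FreeGroup.of 0 * FreeGroup.of 0 * FreeGroup.of 0, FreeGroup.of 1], by simp, Pres.of_inj ?_ ?_ ?_⟩
  · simp only [List.forall_mem_cons, List.not_mem_nil, IsEmpty.forall_iff, implies_true, and_true,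
      map_mul, FreeGroup.lift_apply_of]
    exact ⟨Subtype.ext (by decide), rfl⟩
  · refine alt_gen (a := (0 : Fin 3)) (b := 1) (by decide) {2} (by decide) (by decide) (by decide) _ ?_
    intro i hi
    rw [Finset.mem_singleton.mp hi]
    exact ⟨0, rfl⟩
  · intro H _ y π hπ hgen hy
    simp only [List.forall_mem_cons, List.not_mem_nil, IsEmpty.forall_iff, implies_true, and_true,
      map_mul, FreeGroup.lift_apply_of] at hy
    refine (injective_iff_map_eq_one π).mpr fun g hg => ?_
    refine eq_one_of_map (show (0 : Fin 3) ≠ 1 by decide) (fun _ => y 0)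
      ((alternatingGroup (Fin 3)).subtype.comp π) {2} (by decide) (by decide) ?_ (fun _ _ => hy.1)
      (fun i hi j hj h => absurd ((Finset.mem_singleton.mp hi).trans (Finset.mem_singleton.mp hj).symm) h) g ?_ (by simp [hg])
    · intro i hi
      rw [Finset.mem_singleton.mp hi]
      simp [hπ 0]
    · have hle : Subgroup.closure (Set.range y) ≤ Subgroup.closure ((fun _ : Fin 3 => y 0) '' (({2} : Finset (Fin 3)) : Set (Fin 3))) := by
        rw [Subgroup.closure_le]
        rintro _ ⟨i, rfl⟩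
        fin_cases i
        · exact Subgroup.subset_closure ⟨2, by simp, rfl⟩
        · show y 1 ∈ _
          rw [hy.2]; exact Subgroup.one_mem _
      exact hle (by rw [hgen]; trivial)

theorem alt_four : Two (alternatingGroup (Fin 4)) 8 := by
  refine ⟨![⟨cyc 0 1 2, by rw [mem_alternatingGroup]; decide⟩, ⟨cyc 0 1 3, by rw [mem_alternatingGroup]; decide⟩],
    [FreeGroup.of 0 * FreeGroup.of 0 * FreeGroup.of 0, FreeGroup.of 1 * FreeGroup.of 1 * FreeGroup.of 1,
      FreeGroup.of 0 * FreeGroup.of 1 * (FreeGroup.of 0 * FreeGroup.of 1)], by simp, Pres.of_inj ?_ ?_ ?_⟩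
  · simp only [List.forall_mem_cons, List.not_mem_nil, IsEmpty.forall_iff, implies_true, and_true,
      map_mul, FreeGroup.lift_apply_of]
    exact ⟨Subtype.ext (by decide), Subtype.ext (by decide), Subtype.ext (by decide)⟩
  · refine alt_gen (a := (0 : Fin 4)) (b := 1) (by decide) {2, 3} (by decide) (by decide) (by decide) _ ?_
    intro i hi
    simp only [Finset.mem_insert, Finset.mem_singleton] at hi
    rcases hi with rfl | rfl
    exacts [⟨0, rfl⟩, ⟨1, rfl⟩]
  · intro H _ y π hπ hgen hy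
    simp only [List.forall_mem_cons, List.not_mem_nil, IsEmpty.forall_iff, implies_true, and_true,
      map_mul, FreeGroup.lift_apply_of] at hy
    obtain ⟨h0, h1, h2⟩ := hy
    refine (injective_iff_map_eq_one π).mpr fun g hg => ?_
    let Y : Fin 4 → H := fun k => if k = 3 then y 1 else y 0
    have Y2 : Y 2 = y 0 := if_neg (by decide)
    have Y3 : Y 3 = y 1 := if_pos rfl
    refine eq_one_of_map (show (0 : Fin 4) ≠ 1 by decide) Y
      ((alternatingGroup (Fin 4)).subtype.comp π) {2, 3} (by decide) (by decide) ?_ ?_ ?_ g ?_ (by simp [hg])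
    · intro i hi
      simp only [Finset.mem_insert, Finset.mem_singleton] at hi
      rcases hi with rfl | rfl
      · simp [Y2, hπ 0]
      · simp [Y3, hπ 1]
    · intro i hi
      simp only [Finset.mem_insert, Finset.mem_singleton] at hi
      rcases hi with rfl | rfl
      · rw [Y2]; exact h0
      · rw [Y3]; exact h1
    · intro i hi j hj hij
      simp only [Finset.mem_insert, Finset.mem_singleton] at hi hj
      rcases hi with rfl | rfl <;> rcases hj with rfl | rfl
      · exact absurd rfl hij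
      · rw [Y2, Y3]; exact h2
      · rw [Y2, Y3]; exact sq_swap h2
      · exact absurd rfl hij
    · have hle : Subgroup.closure (Set.range y) ≤ Subgroup.closure (Y '' (({2, 3} : Finset (Fin 4)) : Set (Fin 4))) := by
        rw [Subgroup.closure_le]
        rintro _ ⟨i, rfl⟩
        fin_cases i
        · exact Subgroup.subset_closure ⟨2, by simp, Y2⟩
        · exact Subgroup.subset_closure ⟨3, by simp, Y3⟩
      exact hle (by rw [hgen]; trivial)

theorem two_sym : ∀ n : ℕ, Two (Perm (Fin n)) 8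
  | 0 => two_subsingleton _
  | 1 => two_subsingleton _
  | N + 2 => by
    by_cases h : N + 1 ≤ 3
    · exact sym_small (N + 1) (by omega) h
    obtain ⟨c, t, a, L, hL, hg, hP⟩ := sym_seven (N + 1) (by omega)
    obtain ⟨R, hR, hP'⟩ := hP.elim hg
    exact ⟨_, R, by omega, hP'⟩

theorem two_alt : ∀ n : ℕ, Two (alternatingGroup (Fin n)) 8
  | 0 => two_subsingleton _
  | 1 => two_subsingleton _
  | 2 => by
    haveI : Subsingleton (alternatingGroup (Fin 2)) :=
      ⟨fun g g' => Subtype.ext (by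
        have key : ∀ f : Perm (Fin 2), sign f = 1 → f = 1 := by decide
        rw [key _ (mem_alternatingGroup.mp g.2), key _ (mem_alternatingGroup.mp g'.2)])⟩
    exact two_subsingleton _
  | 3 => alt_three
  | 4 => alt_four
  | N + 5 => by
    obtain ⟨s, x, a, L, hL, hg, hP⟩ := alt_seven (N + 4) (by omega)
    obtain ⟨R, hR, hP'⟩ := hP.elim hg
    exact ⟨_, R, by omega, hP'⟩

end Cfsg.Agent.ShortPresSymAlt
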