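import Mathlib
import Cfsg.Prelude.Def_SubgroupEmbedding
import Cfsg.Prelude.Def_Transfer
import Cfsg.Agent.Lib.BaerSuzuki

/-!
# Sidki pairs of order at most four
-/

set_option autoImplicit false

namespace Cfsg.Agent.SidkiFour

open Subgroup

variable {G : Type*} [Group G]

theorem eq_one_of_odd_of_self_inv {k : G} (hk : Odd (orderOf k)) (h : k⁻¹ = k) : k = 1 := by
  have h1 : k ^ 2 = 1 := by rw [pow_two]; nth_rw 1 [← h]; exact inv_mul_cancel k
  exact orderOf_eq_one_iff.mp (Nat.eq_one_of_dvd_coprimes hk.coprime_two_left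
    (orderOf_dvd_of_pow_eq_one h1) dvd_rfl)

/-- No odd element is inverted by `a` and centralized by `b` while another is inverted by `b` and
centralized by `a`, if every odd element inverted in `{1, a, b, a * b}` is centralized by one of
`a`, `b`, `a * b`. -/
theorem no_cross {a b h k : G} (hh : Odd (orderOf h))
    (hk : Odd (orderOf k)) (hk1 : k ≠ 1) (hh1 : h ≠ 1) (hab : a * b = b * a)
    (hah : a * h * a⁻¹ = h⁻¹) (hbh : b * h * b⁻¹ = h)
    (hbk : b * k * b⁻¹ = k⁻¹) (hak : a * k * a⁻¹ = k)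
    (hS : ∀ (v x : G), (v = b ∨ v = a * b) → Odd (orderOf x) → v * x * v⁻¹ = x⁻¹ →
      a * x * a⁻¹ = x ∨ b * x * b⁻¹ = x ∨ (a * b) * x * (a * b)⁻¹ = x) : False := by
  have ha : MulAut.conj a h = h⁻¹ := hah
  have hb : MulAut.conj b h = h := hbh
  have hb' : MulAut.conj b k = k⁻¹ := hbk
  have ha' : MulAut.conj a k = k := hak
  set x := MulAut.conj h k with hx
  have hxo : Odd (orderOf x) := by rw [hx, MulEquiv.orderOf_eq]; exact hk
  have hbx : MulAut.conj b x = x⁻¹ := by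
    simp only [hx, MulAut.conj_apply] at *
    calc b * (h * k * h⁻¹) * b⁻¹ = (b * h * b⁻¹) * (b * k * b⁻¹) * (b * h * b⁻¹)⁻¹ := by group
      _ = (h * k * h⁻¹)⁻¹ := by rw [hb, hb']; group
  have hax : MulAut.conj a x = h⁻¹ * k * h := by
    simp only [hx, MulAut.conj_apply] at *
    calc a * (h * k * h⁻¹) * a⁻¹ = (a * h * a⁻¹) * (a * k * a⁻¹) * (a * h * a⁻¹)⁻¹ := by group
      _ = h⁻¹ * k * h := by rw [ha, ha']; group
  rcases hS b x (Or.inl rfl) hxo hbx with h1 | h1 | h1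
  · -- `a` centralizes `x`, so `h` centralizes `k`
    have e : h⁻¹ * k * h = h * k * h⁻¹ := by
      rw [← hax]
      exact h1
    have h2 : Commute (h ^ 2) k := by
      have : h ^ 2 * k = h * (h * k * h⁻¹) * h := by rw [pow_two]; group
      rw [Commute, SemiconjBy, this, ← e, pow_two]
      group
    obtain ⟨m, hm⟩ := exists_pow_eq_self_of_coprime
      (show Nat.Coprime 2 (orderOf h) from hh.coprime_two_left)
    have hhk : Commute h k := hm ▸ h2.pow_left m
    have hodd : Odd (orderOf (h * k)) :=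
      Odd.of_dvd_nat (hh.mul hk) (hhk.orderOf_mul_dvd_mul_orderOf)
    have hinv : (a * b) * (h * k) * (a * b)⁻¹ = (h * k)⁻¹ := by
      calc (a * b) * (h * k) * (a * b)⁻¹ = a * ((b * h * b⁻¹) * (b * k * b⁻¹)) * a⁻¹ := by group
        _ = (a * h * a⁻¹) * (a * k * a⁻¹)⁻¹ := by rw [hbh, hbk]; group
        _ = (h * k)⁻¹ := by rw [hah, hak, mul_inv_rev, hhk.inv_inv.eq]
    rcases hS (a * b) (h * k) (Or.inr rfl) hodd hinv with h3 | h3 | h3
    · apply hh1
      apply eq_one_of_odd_of_self_inv hh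
      have h4 : (a * h * a⁻¹) * (a * k * a⁻¹) = h * k := by rw [← h3]; group
      rw [hah, hak] at h4
      exact mul_right_cancel h4
    · apply hk1
      apply eq_one_of_odd_of_self_inv hk
      have h4 : (b * h * b⁻¹) * (b * k * b⁻¹) = h * k := by rw [← h3]; group
      rw [hbh, hbk] at h4
      exact mul_left_cancel h4
    · have h4 := eq_one_of_odd_of_self_inv hodd (hinv.symm.trans h3)
      apply hk1
      apply eq_one_of_odd_of_self_inv hk
      have hkh : k = h⁻¹ := eq_inv_of_mul_eq_one_right h4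
      calc k⁻¹ = b * k * b⁻¹ := hbk.symm
        _ = (b * h * b⁻¹)⁻¹ := by rw [hkh]; group
        _ = k := by rw [hbh, hkh]
  · -- `b` cannot centralize `x`
    apply hk1
    have h2 : x = 1 := eq_one_of_odd_of_self_inv hxo (hbx.symm.trans h1)
    rw [hx] at h2
    exact (MulAut.conj h).map_eq_one_iff.mp h2
  · -- `a * b` centralizes `x`: `h ^ 2` inverts `k`
    have e : (h⁻¹ * k * h)⁻¹ = h * k * h⁻¹ := by
      calc (h⁻¹ * k * h)⁻¹ = (MulAut.conj a x)⁻¹ := by rw [hax]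
        _ = MulAut.conj a x⁻¹ := by rw [map_inv]
        _ = MulAut.conj a (MulAut.conj b x) := by rw [hbx]
        _ = (a * b) * x * (a * b)⁻¹ := by simp [MulAut.conj_apply, mul_assoc]
        _ = x := h1
        _ = h * k * h⁻¹ := rfl
    set u := h ^ 2 with hu
    have h2 : u * k * u⁻¹ = k⁻¹ := by
      have : u * k * u⁻¹ = h * (h * k * h⁻¹) * h⁻¹ := by rw [hu, pow_two]; group
      rw [this, ← e]
      group
    have hiter : ∀ n : ℕ, Odd n → u ^ n * k * (u ^ n)⁻¹ = k⁻¹ := by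
      intro n hn
      obtain ⟨m, rfl⟩ := hn
      induction m with
      | zero => simpa using h2
      | succ m ih =>
        calc u ^ (2 * (m + 1) + 1) * k * (u ^ (2 * (m + 1) + 1))⁻¹
            = u * (u * (u ^ (2 * m + 1) * k * (u ^ (2 * m + 1))⁻¹) * u⁻¹) * u⁻¹ := by
              rw [show 2 * (m + 1) + 1 = 2 * m + 1 + 1 + 1 by ring, pow_succ', pow_succ' u (2 * m + 1)]
              group
          _ = u * (u * k * u⁻¹)⁻¹ * u⁻¹ := by rw [ih]; group
          _ = k⁻¹ := by rw [h2, inv_inv, h2]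
    have h3 := hiter (orderOf u) (by rw [hu]; exact Odd.of_dvd_nat hh (orderOf_pow_dvd 2))
    rw [pow_orderOf_eq_one, one_mul, inv_one, mul_one] at h3
    exact hk1 (eq_one_of_odd_of_self_inv hk h3.symm)

/-- **Sidki pairs of order at most four meet `O₂`.** -/
theorem meets_pCore [Finite G] (V : Subgroup G) (hV : Cfsg.IsElementaryAbelian 2 V) (hV1 : V ≠ ⊥)
    (hS : Cfsg.IsSidkiPair V) (h4 : Nat.card V ≤ 4) : V ⊓ Cfsg.pCore 2 G ≠ ⊥ := by
  intro hbot
  haveI : Fact (Nat.Prime 2) := ⟨Nat.prime_two⟩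
  have hcomm : ∀ a ∈ V, ∀ b ∈ V, a * b = b * a := fun a ha b hb => by
    have := hV.1
    exact congrArg Subtype.val (mul_comm' (⟨a, ha⟩ : ↥V) ⟨b, hb⟩)
  have hinv : ∀ v ∈ V, v ≠ 1 → ∃ h : G, h ≠ 1 ∧ Odd (orderOf h) ∧ v * h * v⁻¹ = h⁻¹ := by
    intro v hv hv1
    refine BaerSuzuki.exists_inverted_odd v (orderOf_eq_prime (hV.2 v hv) hv1) fun N hN hNp hvN => ?_
    apply hv1
    rw [← mem_bot, ← hbot]
    exact mem_inf.mpr ⟨hv, le_sSup (show N ∈ {N : Subgroup G | N.Normal ∧ IsPGroup 2 N} from ⟨hN, hNp⟩) hvN⟩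
  -- the centralizing element of an inverted element differs from the inverting one
  have hcen : ∀ (v x : G), v ∈ V → Odd (orderOf x) → v * x * v⁻¹ = x⁻¹ →
      ∃ w ∈ V, w ≠ 1 ∧ w * x * w⁻¹ = x := by
    intro v x hv hx hvx
    obtain ⟨w, hw, hw1, hwx⟩ := hS x v hv hx hvx
    exact ⟨w, hw, hw1, mul_inv_eq_iff_eq_mul.mpr hwx⟩
  have hne : ∀ {v w x : G}, Odd (orderOf x) → x ≠ 1 → v * x * v⁻¹ = x⁻¹ → w * x * w⁻¹ = x →
      v ≠ w := fun hx hx1 h1 h2 e => hx1 (eq_one_of_odd_of_self_inv hx (h1.symm.trans (e ▸ h2)))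
  obtain ⟨a, ha, ha1⟩ := V.bot_or_exists_ne_one.resolve_left hV1
  obtain ⟨h, hh1, hho, hah⟩ := hinv a ha ha1
  obtain ⟨b, hb, hb1, hbh⟩ := hcen a h ha hho hah
  have hab : a ≠ b := hne hho hh1 hah hbh
  obtain ⟨k, hk1, hko, hbk⟩ := hinv b hb hb1
  obtain ⟨w, hw, hw1, hwk⟩ := hcen b k hb hko hbk
  have hbw : b ≠ w := hne hko hk1 hbk hwk
  -- `V = {1, a, b, a * b}`
  have hsq : ∀ v ∈ V, v * v = 1 := fun v hv => by rw [← pow_two]; exact hV.2 v hv
  have hinvv : ∀ v ∈ V, v⁻¹ = v := fun v hv => inv_eq_of_mul_eq_one_right (hsq v hv)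
  have hab1 : a * b ≠ 1 := fun e => hab (by rw [← hinvv b hb]; exact eq_inv_of_mul_eq_one_left e)
  have hfour : ∀ a' b' : G, a' ∈ V → b' ∈ V → a' ≠ 1 → b' ≠ 1 → a' ≠ b' →
      ∀ v ∈ V, v = 1 ∨ v = a' ∨ v = b' ∨ v = a' * b' := by
    intro a' b' ha' hb' ha1' hb1' hab' v hv
    classical
    by_contra hnot
    push Not at hnot
    obtain ⟨h1, h2, h3, h4'⟩ := hnot
    have e1 : a' * b' ≠ 1 := fun e => hab' (by
      rw [← hinvv b' hb']; exact eq_inv_of_mul_eq_one_left e)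
    have e2 : a' ≠ a' * b' := fun e => hb1' (left_eq_mul.mp e)
    have e3 : b' ≠ a' * b' := fun e => ha1' (right_eq_mul.mp e)
    set s : Finset G := {v, 1, a', b', a' * b'} with hs
    have hsc : s.card = 5 := by
      rw [hs, Finset.card_insert_of_notMem (by simp [h1, h2, h3, h4']),
        Finset.card_insert_of_notMem (by simp [ha1'.symm, hb1'.symm, e1.symm]),
        Finset.card_insert_of_notMem (by simp [hab', e2]),
        Finset.card_insert_of_notMem (by simp [e3]), Finset.card_singleton]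
    have hsub : (s : Set G) ⊆ (V : Set G) := by
      intro x hx
      simp only [hs, Finset.coe_insert, Finset.coe_singleton, Set.mem_insert_iff,
        Set.mem_singleton_iff] at hx
      rcases hx with rfl | rfl | rfl | rfl | rfl
      exacts [hv, one_mem _, ha', hb', mul_mem ha' hb']
    have h5 := Set.ncard_le_ncard hsub
    rw [Set.ncard_coe_finset, hsc, ← Nat.card_coe_set_eq] at h5
    exact absurd (h5.trans h4) (by norm_num)
  have hS' : ∀ (a' b' : G), a' ∈ V → b' ∈ V → a' ≠ 1 → b' ≠ 1 → a' ≠ b' →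
      ∀ (v x : G), (v = b' ∨ v = a' * b') → Odd (orderOf x) → v * x * v⁻¹ = x⁻¹ →
        a' * x * a'⁻¹ = x ∨ b' * x * b'⁻¹ = x ∨ (a' * b') * x * (a' * b')⁻¹ = x := by
    intro a' b' ha' hb' ha1' hb1' hab' v x hv hx hvx
    obtain ⟨u, hu, hu1, hux⟩ := hcen v x (by rcases hv with rfl | rfl <;> aesop) hx hvx
    rcases hfour a' b' ha' hb' ha1' hb1' hab' u hu with rfl | rfl | rfl | rfl
    · exact absurd rfl hu1
    · exact Or.inl hux
    · exact Or.inr (Or.inl hux)
    · exact Or.inr (Or.inr hux)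
  rcases hfour a b ha hb ha1 hb1 hab w hw with rfl | rfl | rfl | rfl
  · exact hw1 rfl
  · exact no_cross hho hko hk1 hh1 (hcomm w ha b hb) hah hbh hbk hwk (hS' w b ha hb ha1 hb1 hab)
  · exact hbw rfl
  · -- replace `a` by `a * b`
    have hch : (a * b) * h * (a * b)⁻¹ = h⁻¹ := by
      calc (a * b) * h * (a * b)⁻¹ = a * (b * h * b⁻¹) * a⁻¹ := by group
        _ = h⁻¹ := by rw [hbh, hah]
    exact no_cross hho hko hk1 hh1 (hcomm _ (mul_mem ha hb) b hb) hch hbh hbk hwk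
      (hS' _ b (mul_mem ha hb) hb hab1 hb1 (by simpa using ha1))

end Cfsg.Agent.SidkiFour
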