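import Mathlib
import Cfsg.Prelude.Def_RootSubgroups
import Cfsg.Prelude.Def_Classical
import Cfsg.Agent.Lib.RankOne
import Cfsg.Agent.Lib.RootSub
import Cfsg.Agent.Lib.QuadPairRootSet
import Cfsg.Agent.Lib.SymplecticRootGroups

/-!
The transvection groups of singular lines of the hyperbolic quadratic form as abstract root subgroups.
-/

set_option autoImplicit false

open Matrix

namespace Cfsg.Agent.SiegelRootGroups10

open Cfsg

variable {F : Type*} [Field F] {n : ℕ}

/-- The vector giving the polar functional. -/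
def flip (y : Fin n ⊕ Fin n → F) : Fin n ⊕ Fin n → F := fun a => y a.swap

/-- The polar form. -/
def bil (x y : Fin n ⊕ Fin n → F) : F := x ⬝ᵥ flip y

theorem bil_add_left (x x' y : Fin n ⊕ Fin n → F) : bil (x + x') y = bil x y + bil x' y :=
  add_dotProduct _ _ _

theorem bil_smul_left (c : F) (x y : Fin n ⊕ Fin n → F) : bil (c • x) y = c * bil x y :=
  smul_dotProduct _ _ _

theorem bil_comm (x y : Fin n ⊕ Fin n → F) : bil x y = bil y x := by
  simp only [bil, dotProduct, flip, Fintype.sum_sum_type, Sum.swap_inl, Sum.swap_inr]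
  rw [add_comm]
  congr 1 <;> exact Finset.sum_congr rfl fun i _ => mul_comm _ _

theorem bil_add_right (x y y' : Fin n ⊕ Fin n → F) : bil x (y + y') = bil x y + bil x y' := by
  rw [bil_comm, bil_add_left, bil_comm y, bil_comm y']

theorem bil_smul_right (c : F) (x y : Fin n ⊕ Fin n → F) : bil x (c • y) = c * bil x y := by
  rw [bil_comm, bil_smul_left, bil_comm]

theorem bil_neg_left (x y : Fin n ⊕ Fin n → F) : bil (-x) y = -bil x y := by
  rw [← neg_one_smul F x, bil_smul_left]; ring

theorem bil_sub_left (x x' y : Fin n ⊕ Fin n → F) : bil (x - x') y = bil x y - bil x' y := by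
  rw [sub_eq_add_neg, bil_add_left, bil_neg_left]; ring

theorem bil_sub_right (x y y' : Fin n ⊕ Fin n → F) : bil x (y - y') = bil x y - bil x y' := by
  rw [bil_comm, bil_sub_left, bil_comm y, bil_comm y']

theorem bil_single (x : Fin n ⊕ Fin n → F) (i : Fin n ⊕ Fin n) :
    bil x (Pi.single i 1) = x i.swap := by
  rw [bil, show flip (Pi.single i (1 : F)) = Pi.single i.swap 1 from ?_, dotProduct_single, mul_one]
  funext a
  rcases a with a | a <;> rcases i with i | i <;> simp [flip, Pi.single_apply]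

theorem Q_add (x y : Fin n ⊕ Fin n → F) :
    quadFormPlus n F (x + y) = quadFormPlus n F x + quadFormPlus n F y + bil x y := by
  simp only [quadFormPlus, bil, dotProduct, flip, Fintype.sum_sum_type, Sum.swap_inl, Sum.swap_inr,
    Pi.add_apply, ← Finset.sum_add_distrib]
  exact Finset.sum_congr rfl fun i _ => by ring

theorem Q_smul (c : F) (x : Fin n ⊕ Fin n → F) :
    quadFormPlus n F (c • x) = c ^ 2 * quadFormPlus n F x := by
  simp only [quadFormPlus, Pi.smul_apply, smul_eq_mul, Finset.mul_sum]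
  exact Finset.sum_congr rfl fun i _ => by ring

theorem Q_single (i : Fin n ⊕ Fin n) (a : F) : quadFormPlus n F (Pi.single i a) = 0 := by
  refine Finset.sum_eq_zero fun j _ => ?_
  rcases i with i | i <;> simp [Pi.single_apply]

theorem bil_self {x : Fin n ⊕ Fin n → F} (h : quadFormPlus n F x = 0) : bil x x = 0 := by
  have h2 : quadFormPlus n F ((2 : F) • x) = quadFormPlus n F (x + x) := by rw [two_smul]
  rw [Q_smul, Q_add, h] at h2
  linear_combination -h2

theorem eq_of_bil {u v : Fin n ⊕ Fin n → F} (h : ∀ z, bil u z = bil v z) : u = v := by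
  funext i
  have := h (Pi.single i.swap 1)
  rwa [bil_single, bil_single, Sum.swap_swap] at this

/-- A pair of vectors spanning a totally singular subspace. -/
structure Sing (p r : Fin n ⊕ Fin n → F) : Prop where
  qp : quadFormPlus n F p = 0
  qr : quadFormPlus n F r = 0
  pr : bil p r = 0

theorem Sing.symm {p r : Fin n ⊕ Fin n → F} (h : Sing p r) : Sing r p :=
  ⟨h.qr, h.qp, bil_comm p r ▸ h.pr⟩

theorem Sing.comb {p r : Fin n ⊕ Fin n → F} (h : Sing p r) (α β γ δ : F) :
    Sing (α • p + β • r) (γ • p + δ • r) := by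
  have h1 := bil_self h.qp
  have h2 := bil_self h.qr
  have h3 := bil_comm p r ▸ h.pr
  refine ⟨?_, ?_, ?_⟩ <;>
    simp [Q_add, Q_smul, bil_add_left, bil_add_right, bil_smul_left, bil_smul_right, h.qp, h.qr,
      h.pr, h1, h2, h3]

/-- The matrix of the nilpotent map. -/
def eMat (p r : Fin n ⊕ Fin n → F) : Matrix (Fin n ⊕ Fin n) (Fin n ⊕ Fin n) F :=
  vecMulVec p (flip r) - vecMulVec r (flip p)

theorem eMat_mulVec (p r x : Fin n ⊕ Fin n → F) :
    eMat p r *ᵥ x = bil x r • p - bil x p • r := by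
  rw [eMat, sub_mulVec, vecMulVec_mulVec, vecMulVec_mulVec, op_smul_eq_smul, op_smul_eq_smul,
    dotProduct_comm (flip r), dotProduct_comm (flip p)]
  rfl

theorem eMat_sq {p r : Fin n ⊕ Fin n → F} (h : Sing p r) : eMat p r * eMat p r = 0 := by
  refine Matrix.ext_iff_mulVec.2 fun x => ?_
  rw [← mulVec_mulVec, zero_mulVec, eMat_mulVec, eMat_mulVec]
  simp [bil_sub_left, bil_smul_left, bil_self h.qp, bil_self h.qr, h.pr, bil_comm r p]

/-- The Siegel element as a unit. -/
def uni {p r : Fin n ⊕ Fin n → F} (h : Sing p r) (c : F) : GL (Fin n ⊕ Fin n) F :=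
  ⟨1 + c • eMat p r, 1 + (-c) • eMat p r,
    by simp [Matrix.mul_add, Matrix.add_mul, eMat_sq h],
    by simp [Matrix.mul_add, Matrix.add_mul, eMat_sq h]⟩

theorem uni_mulVec {p r : Fin n ⊕ Fin n → F} (h : Sing p r) (c : F) (x : Fin n ⊕ Fin n → F) :
    (uni h c : Matrix (Fin n ⊕ Fin n) (Fin n ⊕ Fin n) F) *ᵥ x =
      x + c • (bil x r • p - bil x p • r) := by
  show (1 + c • eMat p r) *ᵥ x = _
  rw [add_mulVec, one_mulVec, smul_mulVec, eMat_mulVec]

theorem mem_iso_iff {g : GL (Fin n ⊕ Fin n) F} : g ∈ isometryGroup F (quadFormPlus n F) ↔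
    ∀ u, quadFormPlus n F ((g : Matrix (Fin n ⊕ Fin n) (Fin n ⊕ Fin n) F) *ᵥ u) = quadFormPlus n F u := by
  constructor
  · intro hg u
    exact hg u u
  · intro hg u _
    exact hg u

theorem uni_mem {p r : Fin n ⊕ Fin n → F} (h : Sing p r) (c : F) :
    uni h c ∈ isometryGroup F (quadFormPlus n F) := by
  refine mem_iso_iff.2 fun x => ?_
  rw [uni_mulVec, show bil x r • p - bil x p • r = bil x r • p + (-bil x p) • r from by module,
    Q_add, Q_smul]
  simp only [Q_add, Q_smul, bil_add_right, bil_smul_left, bil_smul_right, h.qp, h.qr, h.pr]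
  ring

/-- The Siegel element. -/
def eps {p r : Fin n ⊕ Fin n → F} (h : Sing p r) (c : F) :
    ↥(isometryGroup F (quadFormPlus n F)) := ⟨uni h c, uni_mem h c⟩

/-- The action. -/
def act (g : ↥(isometryGroup F (quadFormPlus n F))) (x : Fin n ⊕ Fin n → F) : Fin n ⊕ Fin n → F :=
  (g.1 : Matrix (Fin n ⊕ Fin n) (Fin n ⊕ Fin n) F) *ᵥ x

theorem act_eps {p r : Fin n ⊕ Fin n → F} (h : Sing p r) (c : F) (x : Fin n ⊕ Fin n → F) :
    act (eps h c) x = x + c • (bil x r • p - bil x p • r) := uni_mulVec h c x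

theorem act_mul (g k : ↥(isometryGroup F (quadFormPlus n F))) (x : Fin n ⊕ Fin n → F) :
    act (g * k) x = act g (act k x) := by
  simp [act]

theorem act_one (x : Fin n ⊕ Fin n → F) :
    act (1 : ↥(isometryGroup F (quadFormPlus n F))) x = x := by simp [act]

theorem iso_ext {g k : ↥(isometryGroup F (quadFormPlus n F))} (h : ∀ x, act g x = act k x) :
    g = k := Subtype.ext (Units.ext (Matrix.ext_iff_mulVec.2 h))

theorem act_add (g : ↥(isometryGroup F (quadFormPlus n F))) (x y : Fin n ⊕ Fin n → F) :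
    act g (x + y) = act g x + act g y := mulVec_add _ _ _

theorem act_smul (g : ↥(isometryGroup F (quadFormPlus n F))) (c : F) (x : Fin n ⊕ Fin n → F) :
    act g (c • x) = c • act g x := mulVec_smul _ _ _

theorem act_sub (g : ↥(isometryGroup F (quadFormPlus n F))) (x y : Fin n ⊕ Fin n → F) :
    act g (x - y) = act g x - act g y := mulVec_sub _ _ _

theorem Q_act (g : ↥(isometryGroup F (quadFormPlus n F))) (x : Fin n ⊕ Fin n → F) :
    quadFormPlus n F (act g x) = quadFormPlus n F x := mem_iso_iff.1 g.2 x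

theorem bil_act (g : ↥(isometryGroup F (quadFormPlus n F))) (x y : Fin n ⊕ Fin n → F) :
    bil (act g x) (act g y) = bil x y := by
  have h := Q_act g (x + y)
  rw [act_add, Q_add, Q_add, Q_act, Q_act] at h
  exact add_left_cancel h

theorem eps_add {p r : Fin n ⊕ Fin n → F} (h : Sing p r) (c d : F) :
    eps h c * eps h d = eps h (c + d) := by
  refine iso_ext fun x => ?_
  simp only [act_mul, act_eps, bil_add_left, bil_smul_left, bil_sub_left, bil_self h.qp,
    bil_self h.qr, h.pr, bil_comm r p]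
  module

theorem eps_zero {p r : Fin n ⊕ Fin n → F} (h : Sing p r) : eps h 0 = 1 :=
  iso_ext fun x => by rw [act_eps, act_one, zero_smul, add_zero]

theorem eps_neg {p r : Fin n ⊕ Fin n → F} (h : Sing p r) (c : F) : eps h (-c) = (eps h c)⁻¹ := by
  rw [eq_inv_iff_mul_eq_one, eps_add, neg_add_cancel, eps_zero]

/-- The group of a singular line. -/
def tG {p r : Fin n ⊕ Fin n → F} (h : Sing p r) : Subgroup ↥(isometryGroup F (quadFormPlus n F)) where
  carrier := Set.range (eps h)
  one_mem' := ⟨0, eps_zero h⟩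
  mul_mem' := by rintro _ _ ⟨c, rfl⟩ ⟨d, rfl⟩; exact ⟨c + d, (eps_add h c d).symm⟩
  inv_mem' := by rintro _ ⟨c, rfl⟩; exact ⟨-c, eps_neg h c⟩

theorem tG_congr {p r p' r' : Fin n ⊕ Fin n → F} (h : Sing p r) (h' : Sing p' r') {α β γ δ : F}
    (hD : α * δ - β * γ ≠ 0) (e1 : p' = α • p + β • r) (e2 : r' = γ • p + δ • r) :
    tG h' = tG h := by
  have key : ∀ c, eps h' c = eps h (c * (α * δ - β * γ)) := by
    intro c
    refine iso_ext fun x => ?_
    simp only [act_eps, e1, e2, bil_add_right, bil_smul_right]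
    module
  ext g
  constructor
  · rintro ⟨c, rfl⟩; exact ⟨_, (key c).symm⟩
  · rintro ⟨c, rfl⟩; exact ⟨c / (α * δ - β * γ), by rw [key, div_mul_cancel₀ _ hD]⟩

theorem tG_swap {p r : Fin n ⊕ Fin n → F} (h : Sing p r) : tG h.symm = tG h :=
  tG_congr h h.symm (α := 0) (β := 1) (γ := 1) (δ := 0) (by simp) (by simp) (by simp)

theorem conj_sing (g : ↥(isometryGroup F (quadFormPlus n F))) {p r : Fin n ⊕ Fin n → F}
    (h : Sing p r) : Sing (act g p) (act g r) :=
  ⟨(Q_act g p).trans h.qp, (Q_act g r).trans h.qr, (bil_act g p r).trans h.pr⟩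

theorem conjBy_tG (g : ↥(isometryGroup F (quadFormPlus n F))) {p r : Fin n ⊕ Fin n → F}
    (h : Sing p r) : conjBy (tG h) g = tG (conj_sing g h) := by
  have key : ∀ c, g * eps h c * g⁻¹ = eps (conj_sing g h) c := by
    intro c
    refine iso_ext fun x => ?_
    have hx : act g (act g⁻¹ x) = x := by rw [← act_mul, mul_inv_cancel, act_one]
    rw [act_mul, act_mul, act_eps, act_eps, act_add, act_smul, act_sub, act_smul, act_smul, hx]
    rw [← bil_act g (act g⁻¹ x) r, ← bil_act g (act g⁻¹ x) p, hx]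
  ext y
  constructor
  · rintro ⟨_, ⟨c, rfl⟩, rfl⟩; exact ⟨c, (key c).symm⟩
  · rintro ⟨c, rfl⟩; exact ⟨_, ⟨c, rfl⟩, key c⟩

theorem tG_comm {p r : Fin n ⊕ Fin n → F} (h : Sing p r) : IsMulCommutative (tG h) := by
  refine ⟨⟨fun ⟨a, ha⟩ ⟨b, hb⟩ => Subtype.ext ?_⟩⟩
  obtain ⟨c, rfl⟩ := ha
  obtain ⟨d, rfl⟩ := hb
  show eps h c * eps h d = eps h d * eps h c
  rw [eps_add, eps_add, add_comm]

theorem nilp {p r : Fin n ⊕ Fin n → F} (h : Sing p r) : Group.IsNilpotent (tG h) := by
  have := tG_comm h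
  letI : CommGroup (tG h) :=
    { (inferInstance : Group (tG h)) with mul_comm := this.is_comm.comm }
  exact CommGroup.isNilpotent

/-- A nonvanishing minor at two coordinates that are not partners. -/
theorem exists_minor {p r : Fin n ⊕ Fin n → F} (h : Sing p r) (hli : LinearIndependent F ![p, r]) :
    ∃ i j : Fin n ⊕ Fin n, j ≠ i ∧ j ≠ i.swap ∧ p i * r j - p j * r i ≠ 0 := by
  have hp : p ≠ 0 := by simpa using hli.ne_zero 0
  obtain ⟨i, hi⟩ := Function.ne_iff.1 hp
  simp only [Pi.zero_apply] at hi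
  have hne : r - (r i / p i) • p ≠ 0 := by
    intro e
    have := LinearIndependent.pair_iff.1 hli (-(r i / p i)) 1 (by rw [← e]; module)
    exact one_ne_zero this.2
  obtain ⟨j, hj⟩ := Function.ne_iff.1 hne
  simp only [Pi.sub_apply, Pi.smul_apply, smul_eq_mul, Pi.zero_apply] at hj
  have hD : p i * r j - p j * r i ≠ 0 := by
    intro e; apply hj; field_simp; linear_combination e
  have hji : j ≠ i := fun e => hD (by subst e; ring)
  by_cases hjs : j = i.swap
  swap
  · exact ⟨i, j, hji, hjs, hD⟩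
  by_contra hcon
  push_neg at hcon
  have hz : ∀ k, k ≠ i → k ≠ j → p k = 0 ∧ r k = 0 := by
    intro k k1 k2
    have e1 := hcon i k k1 (by rw [← hjs]; exact k2)
    have e2 := hcon j k k2 (by rw [hjs, Sum.swap_swap]; exact k1)
    constructor <;> apply mul_right_cancel₀ hD <;> rw [zero_mul]
    · linear_combination p j * e1 - p i * e2
    · linear_combination r j * e1 - r i * e2
  have expand : ∀ v : Fin n ⊕ Fin n → F, (∀ k, k ≠ i → k ≠ j → v k = 0) →
      v = v i • Pi.single i (1 : F) + v j • Pi.single j (1 : F) := by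
    intro v hv
    funext k
    by_cases k1 : k = i
    · subst k1; simp [hji.symm]
    by_cases k2 : k = j
    · subst k2; simp [hji]
    simp [k1, k2, hv k k1 k2]
  have ep := expand p fun k a b => (hz k a b).1
  have er := expand r fun k a b => (hz k a b).2
  have hij : (Pi.single i (1 : F) : Fin n ⊕ Fin n → F) j.swap = 1 := by simp [hjs]
  have b1 : bil (Pi.single i (1 : F)) (Pi.single j 1) = 1 := by rw [bil_single, hij]
  have b2 : bil (Pi.single j (1 : F)) (Pi.single i 1) = 1 := by rw [bil_comm, b1]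
  have bii : bil (Pi.single i (1 : F)) (Pi.single i 1) = 0 := bil_self (Q_single i 1)
  have bjj : bil (Pi.single j (1 : F)) (Pi.single j 1) = 0 := bil_self (Q_single j 1)
  have qp : p i * p j = 0 := by
    have := h.qp
    rw [ep] at this
    simp [Q_add, Q_smul, Q_single, bil_smul_left, bil_smul_right, b1] at this
    rcases this with e | e <;> simp [e]
  have qr : r i * r j = 0 := by
    have := h.qr
    rw [er] at this
    simp [Q_add, Q_smul, Q_single, bil_smul_left, bil_smul_right, b1] at this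
    rcases this with e | e <;> simp [e]
  have pr : p i * r j + p j * r i = 0 := by
    have := h.pr
    rw [ep, er] at this
    simp [bil_add_left, bil_add_right, bil_smul_left, bil_smul_right, b1, b2, bii, bjj] at this
    linear_combination this
  have pj : p j = 0 := (mul_eq_zero.1 qp).resolve_left hi
  rw [pj, zero_mul, add_zero] at pr
  exact hD (by rw [pj, zero_mul, sub_zero, pr])

theorem sing_single {i j : Fin n ⊕ Fin n} (hs : j ≠ i.swap) :
    Sing (Pi.single i (1 : F)) (Pi.single j 1) :=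
  ⟨Q_single i 1, Q_single j 1, by
    rw [bil_single, Pi.single_eq_of_ne]
    exact fun e => hs (by rw [← e, Sum.swap_swap])⟩

theorem exists_duals {p r : Fin n ⊕ Fin n → F} (h : Sing p r) (hli : LinearIndependent F ![p, r]) :
    ∃ p' r' : Fin n ⊕ Fin n → F, Sing p' r' ∧ bil p' p = 1 ∧ bil p' r = 0 ∧ bil r' p = 0 ∧
      bil r' r = 1 := by
  obtain ⟨i, j, hji, hjs, hD⟩ := exists_minor h hli
  set D := p i * r j - p j * r i with hDdef
  have hs : j.swap ≠ i.swap.swap := by
    rw [Sum.swap_swap]; exact fun e => hjs (by rw [← e, Sum.swap_swap])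
  refine ⟨_, _, (sing_single (F := F) hs).comb (r j / D) (-r i / D) (-p j / D) (p i / D), ?_⟩
  refine ⟨?_, ?_, ?_, ?_⟩ <;>
    simp only [bil_add_left, bil_smul_left, bil_comm (Pi.single _ _) _, bil_single, Sum.swap_swap] <;>
    field_simp <;> rw [hDdef] <;> ring

theorem eps_eq_one {p r : Fin n ⊕ Fin n → F} (h : Sing p r) (hli : LinearIndependent F ![p, r])
    {c : F} (e : eps h c = 1) : c = 0 := by
  obtain ⟨p', -, -, h1, h2, -, -⟩ := exists_duals h hli
  have := congrArg (fun g => act g p') e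
  simp only [act_eps, act_one, h1, h2, add_eq_left, zero_smul, one_smul, zero_sub, smul_neg,
    neg_eq_zero, smul_eq_zero] at this
  exact this.resolve_right (by simpa using hli.ne_zero 1)

theorem tG_ne_bot {p r : Fin n ⊕ Fin n → F} (h : Sing p r) (hli : LinearIndependent F ![p, r]) :
    tG h ≠ ⊥ := fun e => one_ne_zero (eps_eq_one h hli (Subgroup.mem_bot.1 (e ▸ ⟨1, rfl⟩ :
      eps h 1 ∈ (⊥ : Subgroup _))))

theorem closure_eq {p r : Fin n ⊕ Fin n → F} (h : Sing p r) (hli : LinearIndependent F ![p, r]) :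
    Subgroup.closure {σ : ↥(isometryGroup F (quadFormPlus n F)) | ∀ v : Fin n ⊕ Fin n → F,
      quadFormPlus n F (v + p) - quadFormPlus n F v - quadFormPlus n F p = 0 →
      quadFormPlus n F (v + r) - quadFormPlus n F v - quadFormPlus n F r = 0 →
        ((σ : Matrix.GeneralLinearGroup (Fin n ⊕ Fin n) F) :
          Matrix (Fin n ⊕ Fin n) (Fin n ⊕ Fin n) F) *ᵥ v = v} = tG h := by
  have hB : ∀ v w : Fin n ⊕ Fin n → F,
      quadFormPlus n F (v + w) - quadFormPlus n F v - quadFormPlus n F w = bil v w := by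
    intro v w; rw [Q_add]; ring
  refine le_antisymm ((Subgroup.closure_le _).2 fun σ hσ => ?_) ?_
  swap
  · rintro _ ⟨c, rfl⟩
    refine Subgroup.subset_closure fun v h1 h2 => ?_
    rw [hB] at h1 h2
    show act (eps h c) v = v
    rw [act_eps, h1, h2]; simp
  have hfix : ∀ v, bil v p = 0 → bil v r = 0 → act σ v = v := fun v h1 h2 =>
    hσ v (by rw [hB, h1]) (by rw [hB, h2])
  obtain ⟨p', r', h', a1, a2, b1, b2⟩ := exists_duals h hli
  have hdec : ∀ x, bil (x - bil x p • p' - bil x r • r') p = 0 ∧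
      bil (x - bil x p • p' - bil x r • r') r = 0 := by
    intro x
    constructor <;> simp [bil_sub_left, bil_smul_left, a1, a2, b1, b2]
  have himg : ∀ w, act σ w - w = bil (act σ w - w) p' • p + bil (act σ w - w) r' • r := by
    intro w
    set u := act σ w - w with hu
    refine eq_of_bil fun z => ?_
    have h0 : bil u (z - bil z p • p' - bil z r • r') = 0 := by
      obtain ⟨y1, y2⟩ := hdec z
      rw [hu, bil_sub_left]
      conv_lhs => arg 1; rw [← hfix _ y1 y2]
      rw [bil_act, sub_self]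
    simp only [bil_sub_right, bil_smul_right] at h0
    simp only [bil_add_left, bil_smul_left, bil_comm p z, bil_comm r z]
    linear_combination h0
  set u := act σ p' - p' with hu
  set v := act σ r' - r' with hv
  have hQu : quadFormPlus n F u = 0 := by
    rw [hu, himg p']
    exact (h.comb _ _ (0 : F) 0).qp
  have hQv : quadFormPlus n F v = 0 := by
    rw [hv, himg r']
    exact (h.comb _ _ (0 : F) 0).qp
  have eu : act σ p' = p' + u := by rw [hu]; abel
  have ev : act σ r' = r' + v := by rw [hv]; abel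
  have hu1 : bil u p' = 0 := by
    have := Q_act σ p'
    rw [eu, Q_add, hQu, bil_comm p' u] at this
    linear_combination this
  have hv1 : bil v r' = 0 := by
    have := Q_act σ r'
    rw [ev, Q_add, hQv, bil_comm r' v] at this
    linear_combination this
  set b := bil u r' with hb
  set c := bil v p' with hc
  have fu : u = b • r := by
    have := himg p'
    rw [← hu] at this
    rw [this, hu1, zero_smul, zero_add]
  have fv : v = c • p := by
    have := himg r'
    rw [← hv] at this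
    rw [this, hv1, zero_smul, add_zero]
  have hbc : b + c = 0 := by
    have := bil_act σ p' r'
    rw [eu, ev, fu, fv] at this
    simp only [bil_add_left, bil_add_right, bil_smul_left, bil_smul_right, a1, bil_comm r r', b2,
      bil_comm r p, h.pr] at this
    linear_combination this
  refine ⟨-b, iso_ext fun x => ?_⟩
  obtain ⟨y1, y2⟩ := hdec x
  have hx := hfix _ y1 y2
  rw [act_sub, act_sub, act_smul, act_smul, eu, ev, fu, fv, eq_neg_of_add_eq_zero_right hbc] at hx
  rw [act_eps]
  refine sub_eq_zero.1 ?_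
  have := sub_eq_zero.2 hx
  rw [← neg_eq_zero, ← this]
  module

theorem comm_formula {a p b s : Fin n ⊕ Fin n → F} (h : Sing a p) (h' : Sing b s) (h'' : Sing a b)
    (has : bil a s = 0) (hpb : bil p b = 0) (c d : F) :
    eps h c * eps h' d * (eps h c)⁻¹ * (eps h' d)⁻¹ = eps h'' (-(c * d * bil p s)) := by
  rw [mul_inv_eq_iff_eq_mul, mul_inv_eq_iff_eq_mul, mul_assoc]
  refine iso_ext fun x => ?_
  simp only [act_mul, act_eps, bil_add_left, bil_smul_left, bil_sub_left, bil_self h.qp,
    bil_self h.qr, bil_self h'.qp, bil_self h'.qr, h.pr, h'.pr, h''.pr, has, hpb, bil_comm p a,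
    bil_comm s b, bil_comm b a, bil_comm s a, bil_comm b p, bil_comm s p]
  module

theorem commute_of {p r s t : Fin n ⊕ Fin n → F} (h : Sing p r) (h' : Sing s t) (m1 : bil p s = 0)
    (m2 : bil p t = 0) (m3 : bil r s = 0) (m4 : bil r t = 0) : ⁅tG h, tG h'⁆ = ⊥ := by
  refine RankOne.commutator_eq_bot_of_comm ?_
  rintro _ ⟨c, rfl⟩ _ ⟨d, rfl⟩
  refine iso_ext fun x => ?_
  simp only [act_mul, act_eps, bil_add_left, bil_smul_left, bil_sub_left, m1, m2, m3, m4,
    bil_comm s p, bil_comm t p, bil_comm s r, bil_comm t r]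
  module

/-- All groups of singular lines. -/
def tSet (F : Type*) [Field F] (n : ℕ) : Set (Subgroup ↥(isometryGroup F (quadFormPlus n F))) :=
  {A | ∃ (p r : Fin n ⊕ Fin n → F) (h : Sing p r), LinearIndependent F ![p, r] ∧ A = tG h}

theorem half_case {a p b s : Fin n ⊕ Fin n → F} (h : Sing a p) (h' : Sing b s) (hab : bil a b = 0)
    (has : bil a s = 0) (hpb : bil p b = 0) (hps : bil p s = 1) (ha : a ≠ 0) :
    ⁅tG h, tG h'⁆ = ⊥ ∨ RootCommutatorCase (tSet F n) (tG h) (tG h') := by
  have hS : Sing a b := ⟨h.qp, h'.qp, hab⟩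
  have hf : ∀ c d, eps h c * eps h' d * (eps h c)⁻¹ * (eps h' d)⁻¹ = eps hS (-(c * d)) := by
    intro c d; rw [comm_formula h h' hS has hpb, hps, mul_one]
  by_cases hdep : ∃ κ : F, κ • a = b
  · left
    obtain ⟨κ, rfl⟩ := hdep
    refine RankOne.commutator_eq_bot_of_comm ?_
    rintro _ ⟨c, rfl⟩ _ ⟨d, rfl⟩
    have he : eps hS (-(c * d)) = 1 := iso_ext fun x => by
      simp only [act_eps, act_one, bil_smul_right]
      module
    have := hf c d
    rwa [he, mul_inv_eq_one, mul_inv_eq_iff_eq_mul] at this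
  right
  push_neg at hdep
  have hli : LinearIndependent F ![a, b] := (LinearIndependent.pair_iff' ha).2 hdep
  have hC : ⁅tG h, tG h'⁆ = tG hS := by
    refine le_antisymm (Subgroup.commutator_le.2 ?_) ?_
    · rintro _ ⟨c, rfl⟩ _ ⟨d, rfl⟩
      rw [commutatorElement_def, hf]; exact ⟨_, rfl⟩
    · rintro _ ⟨e, rfl⟩
      have := Subgroup.commutator_mem_commutator (H₁ := tG h) (H₂ := tG h') ⟨1, rfl⟩ ⟨-e, rfl⟩
      rwa [commutatorElement_def, hf, one_mul, neg_neg] at this
  refine ⟨hC ▸ ⟨a, b, hS, hli, rfl⟩, ?_, ?_, ?_⟩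
  · rw [hC]
    intro z hz x hx
    have : tG h ⊔ tG h' ≤ Subgroup.centralizer {z} := by
      have ba : bil b a = 0 := bil_comm a b ▸ hab
      refine sup_le ?_ ?_ <;> intro y hy <;> rw [Subgroup.mem_centralizer_singleton_iff]
      · exact RankOne.comm_of_commutator_eq_bot
          (commute_of h hS (bil_self h.qp) hab (bil_comm a p ▸ h.pr) hpb) hy hz
      · exact RankOne.comm_of_commutator_eq_bot
          (commute_of h' hS ba (bil_self h'.qp) (bil_comm a s ▸ has) (bil_comm b s ▸ h'.pr)) hy hz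
    exact (Subgroup.mem_centralizer_singleton_iff.1 (this hx)).symm
  · rintro _ ⟨c, rfl⟩ hc1
    have hc : c ≠ 0 := fun e => hc1 (by rw [e, eps_zero])
    rw [hC]
    refine le_antisymm ((Subgroup.closure_le _).2 ?_) ?_
    · rintro _ ⟨_, ⟨d, rfl⟩, rfl⟩
      show _ * _ * _ * _ ∈ tG hS
      rw [hf]; exact ⟨_, rfl⟩
    · rintro _ ⟨e, rfl⟩
      refine Subgroup.subset_closure ⟨_, ⟨-e / c, rfl⟩, ?_⟩
      show _ * _ * _ * _ = _
      rw [hf]; congr 1; field_simp
  · rintro _ ⟨d, rfl⟩ hd1
    have hd : d ≠ 0 := fun e => hd1 (by rw [e, eps_zero])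
    rw [hC]
    refine le_antisymm ((Subgroup.closure_le _).2 ?_) ?_
    · rintro _ ⟨_, ⟨c, rfl⟩, rfl⟩
      show _ * _ * _ * _ ∈ tG hS
      rw [hf]; exact ⟨_, rfl⟩
    · rintro _ ⟨e, rfl⟩
      refine Subgroup.subset_closure ⟨_, ⟨-e / d, rfl⟩, ?_⟩
      show _ * _ * _ * _ = _
      rw [hf]; congr 1; field_simp

/-- Two lines in general position with dual bases. -/
structure Frame (p r s t : Fin n ⊕ Fin n → F) : Prop where
  h1 : Sing p r
  h2 : Sing t s
  ps : bil p s = 1
  rt : bil r t = 1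
  pt : bil p t = 0
  rs : bil r s = 0

theorem Frame.symm {p r s t : Fin n ⊕ Fin n → F} (f : Frame p r s t) : Frame t s r p :=
  ⟨f.h2, f.h1, bil_comm r t ▸ f.rt, bil_comm p s ▸ f.ps, bil_comm p t ▸ f.pt,
    bil_comm r s ▸ f.rs⟩

theorem Frame.cond {p r s t : Fin n ⊕ Fin n → F} (f : Frame p r s t) :
    RankOneCondition (tG f.h1) (tG f.h2) := by
  rintro _ ⟨c, rfl⟩ hc1
  have hc : c ≠ 0 := fun e => hc1 (by rw [e, eps_zero])
  have hs : s ≠ 0 := fun e => one_ne_zero (α := F) (by
    rw [← f.ps, e, ← zero_smul F (0 : Fin n ⊕ Fin n → F), bil_smul_right, zero_mul])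
  refine ⟨eps f.h2 c⁻¹, ⟨_, rfl⟩, ?_, ?_⟩
  · intro e
    have := congrArg (fun g => act g r) e
    simp only [act_eps, act_one, f.rt, f.rs, zero_smul, one_smul, zero_sub, smul_neg, add_eq_left,
      neg_eq_zero, smul_eq_zero, inv_eq_zero] at this
    exact this.elim hc hs
  rw [conjBy_tG, conjBy_tG]
  refine tG_congr _ _ (α := -c⁻¹) (β := 0) (γ := 0) (δ := c⁻¹) (by simp [hc]) ?_ ?_
  · simp only [← eps_neg, act_eps, f.ps, f.pt, bil_comm t r, f.rt, bil_comm t p]
    match_scalars <;> field_simp <;> simp [bil_comm s r, f.rs]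
  · simp only [← eps_neg, act_eps, f.rs, f.rt, bil_comm s r, bil_comm s p, f.ps]
    match_scalars <;> field_simp <;> simp [bil_comm t p, f.pt]

theorem Frame.rankOne {p r s t : Fin n ⊕ Fin n → F} (f : Frame p r s t) :
    IsRankOnePair (tG f.h1) (tG f.h2) where
  ne := fun e => by
    obtain ⟨d, hd⟩ := (e ▸ ⟨1, rfl⟩ : eps f.h1 (1 : F) ∈ tG f.h2)
    have := congrArg (fun g => bil (act g t) s) hd
    simp [act_eps, bil_add_left, bil_smul_left, bil_sub_left, bil_self f.h2.qp, f.h2.pr,
      bil_comm t r, f.rt, bil_comm t p, f.pt, f.ps, f.rs] at this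
  nilpotent_left := nilp _
  nilpotent_right := nilp _
  cond_left := f.cond
  cond_right := f.symm.cond

/-- The matrix of the plane action. -/
def pMat (p r s t : Fin n ⊕ Fin n → F) (M : Matrix (Fin 2) (Fin 2) F) :
    Matrix (Fin n ⊕ Fin n) (Fin n ⊕ Fin n) F :=
  1 + vecMulVec ((M 0 0 - 1) • p + M 1 0 • t) (flip s) +
    vecMulVec (M 0 1 • p + (M 1 1 - 1) • t) (flip r) -
    vecMulVec (-((M 0 0 - 1) • r) + M 1 0 • s) (flip t) +
    vecMulVec (-(M 0 1 • r) + (M 1 1 - 1) • s) (flip p)

theorem pMat_mulVec (p r s t : Fin n ⊕ Fin n → F) (M : Matrix (Fin 2) (Fin 2) F)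
    (x : Fin n ⊕ Fin n → F) : pMat p r s t M *ᵥ x =
      x + bil x s • ((M 0 0 - 1) • p + M 1 0 • t) + bil x r • (M 0 1 • p + (M 1 1 - 1) • t) -
        bil x t • (-((M 0 0 - 1) • r) + M 1 0 • s) +
        bil x p • (-(M 0 1 • r) + (M 1 1 - 1) • s) := by
  simp only [pMat, add_mulVec, sub_mulVec, one_mulVec, vecMulVec_mulVec, op_smul_eq_smul,
    dotProduct_comm (flip _) x]
  rfl

theorem pMat_mul {p r s t : Fin n ⊕ Fin n → F} (f : Frame p r s t)
    (M N : Matrix (Fin 2) (Fin 2) F) :
    pMat p r s t (M * N) = pMat p r s t M * pMat p r s t N := by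
  refine Matrix.ext_iff_mulVec.2 fun x => ?_
  rw [← mulVec_mulVec]
  simp only [pMat_mulVec, bil_add_left, bil_sub_left, bil_neg_left, bil_smul_left, Matrix.mul_apply,
    Fin.sum_univ_two, f.ps, f.rt, f.pt, f.rs, bil_self f.h1.qp, bil_self f.h1.qr, bil_self f.h2.qp,
    bil_self f.h2.qr, f.h1.pr, f.h2.pr, bil_comm r p, bil_comm s t, bil_comm t p, bil_comm s p,
    bil_comm t r, bil_comm s r]
  module

theorem pMat_one {p r s t : Fin n ⊕ Fin n → F} : pMat p r s t (1 : Matrix (Fin 2) (Fin 2) F) = 1 :=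
  Matrix.ext_iff_mulVec.2 fun x => by simp [pMat_mulVec]

/-- The plane action as a homomorphism to GL. -/
def planeGL {p r s t : Fin n ⊕ Fin n → F} (f : Frame p r s t) :
    Matrix.SpecialLinearGroup (Fin 2) F →* GL (Fin n ⊕ Fin n) F :=
  MonoidHom.toHomUnits
    { toFun := fun M => pMat p r s t (M : Matrix (Fin 2) (Fin 2) F)
      map_one' := pMat_one
      map_mul' := fun M N => pMat_mul f (M : Matrix (Fin 2) (Fin 2) F) N }

theorem planeGL_coe {p r s t : Fin n ⊕ Fin n → F} (f : Frame p r s t)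
    (M : Matrix.SpecialLinearGroup (Fin 2) F) :
    (planeGL f M : Matrix (Fin n ⊕ Fin n) (Fin n ⊕ Fin n) F) =
      pMat p r s t (M : Matrix (Fin 2) (Fin 2) F) := rfl

theorem planeGL_upper {p r s t : Fin n ⊕ Fin n → F} (f : Frame p r s t)
    (M : Matrix.SpecialLinearGroup (Fin 2) F) (e1 : M.1 1 0 = 0) (e2 : M.1 0 0 = 1)
    (e3 : M.1 1 1 = 1) : planeGL f M = (eps f.h1 (M.1 0 1)).1 := by
  refine Units.ext (Matrix.ext_iff_mulVec.2 fun x => ?_)
  rw [planeGL_coe, pMat_mulVec, e1, e2, e3]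
  show _ = act _ x
  rw [act_eps]
  module

theorem planeGL_lower {p r s t : Fin n ⊕ Fin n → F} (f : Frame p r s t)
    (M : Matrix.SpecialLinearGroup (Fin 2) F) (e1 : M.1 0 1 = 0) (e2 : M.1 0 0 = 1)
    (e3 : M.1 1 1 = 1) : planeGL f M = (eps f.h2 (M.1 1 0)).1 := by
  refine Units.ext (Matrix.ext_iff_mulVec.2 fun x => ?_)
  rw [planeGL_coe, pMat_mulVec, e1, e2, e3]
  show _ = act _ x
  rw [act_eps]
  module

theorem planeGL_mem {p r s t : Fin n ⊕ Fin n → F} (f : Frame p r s t)
    (M : Matrix.SpecialLinearGroup (Fin 2) F) :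
    planeGL f M ∈ isometryGroup F (quadFormPlus n F) := by
  suffices h : upperUnipotentSL2 F ⊔ lowerUnipotentSL2 F ≤
      (isometryGroup F (quadFormPlus n F)).comap (planeGL f) from
    h (SymplecticRootGroups.sl2_generated (F := F) ▸ Subgroup.mem_top M)
  refine sup_le ((Subgroup.closure_le _).2 ?_) ((Subgroup.closure_le _).2 ?_) <;>
    rintro g ⟨e1, e2, e3⟩ <;> rw [SetLike.mem_coe, Subgroup.mem_comap]
  · rw [planeGL_upper f g e1 e2 e3]; exact SetLike.coe_mem _
  · rw [planeGL_lower f g e1 e2 e3]; exact SetLike.coe_mem _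

theorem Frame.psl2 {p r s t : Fin n ⊕ Fin n → F} (f : Frame p r s t) :
    IsPSL2PairOver F (tG f.h1) (tG f.h2) := by
  let φ := (planeGL f).codRestrict (isometryGroup F (quadFormPlus n F)) (planeGL_mem f)
  have hA : (upperUnipotentSL2 F).map φ = tG f.h1 := by
    refine le_antisymm ?_ ?_
    · rw [upperUnipotentSL2, MonoidHom.map_closure, Subgroup.closure_le]
      rintro _ ⟨M, ⟨e1, e2, e3⟩, rfl⟩
      exact ⟨M.1 0 1, Subtype.ext (planeGL_upper f M e1 e2 e3).symm⟩
    · rintro _ ⟨c, rfl⟩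
      refine ⟨SymplecticRootGroups.slUpper c, Subgroup.subset_closure ⟨by
        simp [SymplecticRootGroups.slUpper], by simp [SymplecticRootGroups.slUpper],
        by simp [SymplecticRootGroups.slUpper]⟩, Subtype.ext ?_⟩
      refine (planeGL_upper f _ ?_ ?_ ?_).trans ?_ <;> simp [SymplecticRootGroups.slUpper]
  have hB : (lowerUnipotentSL2 F).map φ = tG f.h2 := by
    refine le_antisymm ?_ ?_
    · rw [lowerUnipotentSL2, MonoidHom.map_closure, Subgroup.closure_le]
      rintro _ ⟨M, ⟨e1, e2, e3⟩, rfl⟩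
      exact ⟨M.1 1 0, Subtype.ext (planeGL_lower f M e1 e2 e3).symm⟩
    · rintro _ ⟨c, rfl⟩
      refine ⟨SymplecticRootGroups.slLower c, Subgroup.subset_closure ⟨by
        simp [SymplecticRootGroups.slLower], by simp [SymplecticRootGroups.slLower],
        by simp [SymplecticRootGroups.slLower]⟩, Subtype.ext ?_⟩
      refine (planeGL_lower f _ ?_ ?_ ?_).trans ?_ <;> simp [SymplecticRootGroups.slLower]
  refine ⟨φ, ?_, ?_, hA, hB⟩
  · rw [MonoidHom.range_eq_map, ← SymplecticRootGroups.sl2_generated, Subgroup.map_sup, hA, hB]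
  · intro M hM
    have e : planeGL f M = 1 := congrArg Subtype.val (MonoidHom.mem_ker.1 hM)
    have e' : pMat p r s t (M : Matrix (Fin 2) (Fin 2) F) = 1 := congrArg Units.val e
    have k : ∀ x y, bil (pMat p r s t (M : Matrix (Fin 2) (Fin 2) F) *ᵥ x) y = bil x y := by
      intro x y; rw [e', one_mulVec]
    have k1 := k p s
    have k2 := k p r
    have k3 := k t s
    have k4 := k t r
    simp [pMat_mulVec, bil_add_left, bil_sub_left, bil_neg_left, bil_smul_left, f.ps, f.rt, f.pt,
      f.rs, bil_self f.h1.qp, bil_self f.h1.qr, bil_self f.h2.qp, bil_self f.h2.qr, f.h1.pr,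
      f.h2.pr, bil_comm r p, bil_comm s t, bil_comm t p, bil_comm s p, bil_comm t r, bil_comm s r]
      at k1 k2 k3 k4
    have hM1 : M = 1 := by
      refine Subtype.ext (Matrix.ext fun i j => ?_)
      fin_cases i <;> fin_cases j <;>
        simp_all [sub_eq_zero, Matrix.SpecialLinearGroup.coe_one]
    rw [hM1]
    exact one_mem _

theorem opposite {p r s t : Fin n ⊕ Fin n → F} (h : Sing p r) (h' : Sing s t)
    (hD : bil p s * bil r t - bil p t * bil r s ≠ 0) :
    IsRankOnePair (tG h) (tG h') ∧ IsPSL2PairOver F (tG h) (tG h') := by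
  set D := bil p s * bil r t - bil p t * bil r s with hDdef
  have hs := h'.comb (-bil p t / D) (bil p s / D) (bil r t / D) (-bil r s / D)
  set t' := (-bil p t / D) • s + (bil p s / D) • t with ht'
  set s' := (bil r t / D) • s + (-bil r s / D) • t with hs'
  have f : Frame p r s' t' := by
    refine ⟨h, hs, ?_, ?_, ?_, ?_⟩ <;>
      simp only [hs', ht', bil_add_right, bil_smul_right] <;>
      field_simp <;> rw [hDdef] <;> ring
  have e : tG f.h2 = tG h' := by
    refine tG_congr h' f.h2 (fun e => hD ?_) ht' hs'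
    field_simp at e
    rw [hDdef] at e ⊢
    linear_combination -e
  exact ⟨e ▸ f.rankOne, e ▸ f.psl2⟩

theorem rank1_case {p r s t : Fin n ⊕ Fin n → F} (h : Sing p r) (h' : Sing s t)
    (hli : LinearIndependent F ![p, r]) (hm : bil p s ≠ 0)
    (hD : bil p s * bil r t - bil p t * bil r s = 0) :
    ⁅tG h, tG h'⁆ = ⊥ ∨ RootCommutatorCase (tSet F n) (tG h) (tG h') := by
  set m := bil p s with hmdef
  have ha := h.comb (-bil r s / m) 1 1 0
  have hb := h'.comb (-bil p t / m) 1 m⁻¹ 0
  set a := (-bil r s / m) • p + (1 : F) • r with hadef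
  set b := (-bil p t / m) • s + (1 : F) • t with hbdef
  have e1 : tG ha = tG h := tG_congr h ha (by simp) hadef rfl
  have e2 : tG hb = tG h' := tG_congr h' hb (by simp [hm]) hbdef rfl
  rw [← e1, ← e2]
  refine half_case ha hb ?_ ?_ ?_ ?_ ?_
  · simp only [hadef, hbdef, bil_add_left, bil_add_right, bil_smul_left, bil_smul_right, ← hmdef]
    field_simp
    linear_combination hD
  · simp only [hadef, bil_add_left, bil_add_right, bil_smul_left, bil_smul_right, ← hmdef]
    field_simp
    ring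
  · simp only [hbdef, bil_add_left, bil_add_right, bil_smul_left, bil_smul_right, ← hmdef]
    field_simp
    ring
  · simp only [bil_add_left, bil_add_right, bil_smul_left, bil_smul_right, ← hmdef]
    field_simp
    ring
  · intro e
    exact one_ne_zero (LinearIndependent.pair_iff.1 hli _ 1 e).2

theorem pair_cases {A B : Subgroup ↥(isometryGroup F (quadFormPlus n F))} (hA : A ∈ tSet F n)
    (hB : B ∈ tSet F n) :
    ⁅A, B⁆ = ⊥ ∨ (IsRankOnePair A B ∧ IsPSL2PairOver F A B) ∨
      RootCommutatorCase (tSet F n) A B := by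
  obtain ⟨p, r, h, hli, rfl⟩ := hA
  obtain ⟨s, t, h', hli', rfl⟩ := hB
  by_cases hD : bil p s * bil r t - bil p t * bil r s = 0
  swap
  · exact Or.inr (Or.inl (opposite h h' hD))
  have hli2 : LinearIndependent F ![r, p] := LinearIndependent.pair_symm_iff.1 hli
  have key : ⁅tG h, tG h'⁆ = ⊥ ∨ RootCommutatorCase (tSet F n) (tG h) (tG h') := by
    by_cases h1 : bil p s ≠ 0
    · exact rank1_case h h' hli h1 hD
    by_cases h2 : bil p t ≠ 0
    · rw [← tG_swap h']
      exact rank1_case h h'.symm hli h2 (by linear_combination -hD)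
    by_cases h3 : bil r s ≠ 0
    · rw [← tG_swap h]
      exact rank1_case h.symm h' hli2 h3 (by linear_combination -hD)
    by_cases h4 : bil r t ≠ 0
    · rw [← tG_swap h, ← tG_swap h']
      exact rank1_case h.symm h'.symm hli2 h4 (by linear_combination hD)
    push_neg at h1 h2 h3 h4
    exact Or.inl (commute_of h h' h1 h2 h3 h4)
  exact key.elim Or.inl fun k => Or.inr (Or.inr k)

theorem conj_mem {A : Subgroup ↥(isometryGroup F (quadFormPlus n F))} (hA : A ∈ tSet F n)
    (g : ↥(isometryGroup F (quadFormPlus n F))) : conjBy A g ∈ tSet F n := by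
  obtain ⟨p, r, h, hli, rfl⟩ := hA
  refine ⟨_, _, conj_sing g h, ?_, conjBy_tG g h⟩
  rw [LinearIndependent.pair_iff] at hli ⊢
  intro x y e
  rw [← act_smul, ← act_smul, ← act_add] at e
  refine hli x y ?_
  have := congrArg (act g⁻¹) e
  rw [← act_mul, inv_mul_cancel, act_one] at this
  rw [this]
  exact mulVec_zero _

theorem subgroupOf_sup_range {G : Type*} [Group G] {H A B : Subgroup G} (hA : A ≤ H) (hB : B ≤ H) :
    A.subgroupOf H ⊔ B.subgroupOf H = (A ⊔ B).subgroupOf H :=
  (Subgroup.subgroupOf_sup hA hB).symm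

theorem psl2_subgroupOf {k : Type*} [Field k] {G : Type*} [Group G] {H A B : Subgroup G}
    (hA : A ≤ H) (hB : B ≤ H) (h : IsPSL2PairOver k A B) :
    IsPSL2PairOver k (A.subgroupOf H) (B.subgroupOf H) := by
  obtain ⟨φ, h1, h2, h3, h4⟩ := h
  have hmem : ∀ x, φ x ∈ H := fun x => sup_le hA hB (h1 ▸ ⟨x, rfl⟩)
  refine ⟨φ.codRestrict H hmem, ?_, ?_, ?_, ?_⟩
  · apply Subgroup.map_injective H.subtype_injective
    rw [subgroupOf_sup_range hA hB, MonoidHom.map_range,
      Subgroup.map_subgroupOf_eq_of_le (sup_le hA hB), ← h1]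
    rfl
  · exact fun x hx => h2 (congrArg Subtype.val (MonoidHom.mem_ker.1 hx))
  · apply Subgroup.map_injective H.subtype_injective
    rw [Subgroup.map_map, Subgroup.map_subgroupOf_eq_of_le hA]
    exact h3
  · apply Subgroup.map_injective H.subtype_injective
    rw [Subgroup.map_map, Subgroup.map_subgroupOf_eq_of_le hB]
    exact h4

theorem kRoot : IsKRootSubgroupSet F
    ((fun A : Subgroup ↥(isometryGroup F (quadFormPlus n F)) =>
      A.subgroupOf (⨆ B ∈ tSet F n, B)) '' tSet F n) := by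
  have hset : IsRootSubgroupSet ((fun A : Subgroup ↥(isometryGroup F (quadFormPlus n F)) =>
      A.subgroupOf (⨆ B ∈ tSet F n, B)) '' tSet F n) := by
    refine QuadPairRootSet.isRootSubgroupSet_subgroupOf ?_ ?_ (fun A hA g _ => conj_mem hA g) ?_
    · rintro _ ⟨p, r, h, -, rfl⟩; exact tG_comm h
    · rintro _ ⟨p, r, h, hli, rfl⟩; exact tG_ne_bot h hli
    · intro A hA B hB
      rcases pair_cases hA hB with h | h | h
      exacts [Or.inl h, Or.inr (Or.inl h.1), Or.inr (Or.inr h)]
  refine ⟨hset, ?_⟩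
  rintro _ ⟨A, hA, rfl⟩ _ ⟨B, hB, rfl⟩ hp
  have hle : ∀ A ∈ tSet F n, A ≤ ⨆ B ∈ tSet F n, B := fun A hA => le_iSup₂_of_le A hA le_rfl
  rcases pair_cases hA hB with h | h | h
  · refine absurd ?_ (RankOne.commutator_ne_bot hp)
    simp only
    rw [QuadPairRootSet.commutator_subgroupOf (hle A hA) (hle B hB), h, Subgroup.bot_subgroupOf]
  · exact psl2_subgroupOf (hle A hA) (hle B hB) h.2
  · exact absurd hp (RootSub.rc_not_rankOne hset (Set.mem_image_of_mem _ hB)
      (QuadPairRootSet.rootCommutatorCase_subgroupOf (hle A hA) (hle B hB) h))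

/-- Paths in the graph of rank one pairs. -/
def Conn (A B : Subgroup ↥(isometryGroup F (quadFormPlus n F))) : Prop :=
  Relation.ReflTransGen (FAdj (tSet F n)) A B

theorem conn_symm {A B : Subgroup ↥(isometryGroup F (quadFormPlus n F))} (h : Conn A B) :
    Conn B A := by
  have hs : Symmetric (FAdj (tSet F n)) := fun _ _ hxy => ⟨hxy.2.1, hxy.1, RankOnePair_symm hxy.2.2⟩
  induction h with
  | refl => exact Relation.ReflTransGen.refl
  | tail _ h2 ih => exact Relation.ReflTransGen.head (hs h2) ih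

theorem conn_of_opposite {p r s t : Fin n ⊕ Fin n → F} (h : Sing p r) (h' : Sing s t)
    (hli : LinearIndependent F ![p, r]) (hli' : LinearIndependent F ![s, t])
    (hD : bil p s * bil r t - bil p t * bil r s ≠ 0) : Conn (tG h) (tG h') :=
  Relation.ReflTransGen.single ⟨⟨p, r, h, hli, rfl⟩, ⟨s, t, h', hli', rfl⟩, (opposite h h' hD).1⟩

theorem li_single {i j : Fin n ⊕ Fin n} (hij : j ≠ i) :
    LinearIndependent F ![(Pi.single i 1 : Fin n ⊕ Fin n → F), Pi.single j 1] := by
  rw [LinearIndependent.pair_iff]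
  intro x y e
  exact ⟨by simpa [hij.symm] using congrFun e i, by simpa [hij] using congrFun e j⟩

theorem step {i j l : Fin n ⊕ Fin n} (hj : j ≠ i) (hjs : j ≠ i.swap) (hl : l ≠ i)
    (hls : l ≠ i.swap) (hlj : l ≠ j.swap) :
    Conn (tG (sing_single (F := F) hjs)) (tG (sing_single (F := F) hls)) := by
  by_cases e : l = j
  · subst e; exact Relation.ReflTransGen.refl
  have sw : ∀ {a b : Fin n ⊕ Fin n}, a.swap = b.swap → a = b := fun h => by
    simpa using congrArg Sum.swap h
  set w : Fin n ⊕ Fin n → F := Pi.single j.swap 1 + Pi.single l.swap 1 with hw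
  have hn : Sing (Pi.single i.swap (1 : F)) w := by
    refine ⟨Q_single _ _, ?_, ?_⟩
    · rw [hw, Q_add, Q_single, Q_single, bil_single, Sum.swap_swap, Pi.single_eq_of_ne hlj]
      simp
    · rw [hw, bil_add_right, bil_single, bil_single, Sum.swap_swap, Sum.swap_swap,
        Pi.single_eq_of_ne hjs, Pi.single_eq_of_ne hls, add_zero]
  have hnli : LinearIndependent F ![Pi.single i.swap (1 : F), w] := by
    rw [LinearIndependent.pair_iff]
    intro x y e'
    have n1 : j.swap ≠ i.swap := fun h => hj (sw h)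
    have n2 : j.swap ≠ l.swap := fun h => e (sw h).symm
    have n3 : l.swap ≠ i.swap := fun h => hl (sw h)
    exact ⟨by simpa [hw, n1.symm, n3.symm] using congrFun e' i.swap,
      by simpa [hw, n1, n2] using congrFun e' j.swap⟩
  have opp : ∀ m, m ≠ i → (hms : m ≠ i.swap) → w m.swap = 1 →
      Conn (tG (sing_single (F := F) hms)) (tG hn) := by
    intro m hm hms hwm
    refine conn_of_opposite _ hn (li_single hm) hnli ?_
    have wi : w i.swap = 0 := by
      simp [hw, show i.swap ≠ j.swap from fun h => hj (sw h).symm,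
        show i.swap ≠ l.swap from fun h => hl (sw h).symm]
    rw [bil_single, Sum.swap_swap, Pi.single_eq_same,
      bil_comm (Pi.single i (1 : F)) w, bil_single, wi, bil_comm (Pi.single m (1 : F)) w,
      bil_single, hwm]
    simp
  have e1 : w j.swap = 1 := by simp [hw, show j.swap ≠ l.swap from fun h => e (sw h).symm]
  have e2 : w l.swap = 1 := by simp [hw, show l.swap ≠ j.swap from fun h => e (sw h)]
  exact (opp j hj hjs e1).trans (conn_symm (opp l hl hls e2))

theorem exists_other (hn : 3 ≤ n) (a b : Fin n ⊕ Fin n) :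
    ∃ h, h ≠ a ∧ h ≠ a.swap ∧ h ≠ b ∧ h ≠ b.swap := by
  obtain ⟨h, -, hh⟩ := Finset.exists_mem_notMem_of_card_lt_card
    (s := ({a, a.swap, b, b.swap} : Finset (Fin n ⊕ Fin n))) (t := Finset.univ) (by
      have := Finset.card_le_four (a := a) (b := a.swap) (c := b) (d := b.swap)
      simp; omega)
  simp only [Finset.mem_insert, Finset.mem_singleton, not_or] at hh
  exact ⟨h, hh.1, hh.2.1, hh.2.2.1, hh.2.2.2⟩

theorem step' (hn : 3 ≤ n) {i j l : Fin n ⊕ Fin n} (hj : j ≠ i) (hjs : j ≠ i.swap) (hl : l ≠ i)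
    (hls : l ≠ i.swap) :
    Conn (tG (sing_single (F := F) hjs)) (tG (sing_single (F := F) hls)) := by
  by_cases e : l = j.swap
  swap
  · exact step hj hjs hl hls e
  obtain ⟨h, h1, h2, h3, h4⟩ := exists_other hn i j
  exact (step hj hjs h1 h2 h4).trans (step h1 h2 hl hls (by
    subst e
    exact fun e' => h3 (by simpa using (congrArg Sum.swap e').symm)))

theorem single_swap {i j : Fin n ⊕ Fin n} (hjs : j ≠ i.swap) (his : i ≠ j.swap) :
    tG (sing_single (F := F) hjs) = tG (sing_single (F := F) his) :=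
  tG_swap (sing_single (F := F) his)

theorem conn_single (hn : 3 ≤ n) {i j k l : Fin n ⊕ Fin n} (hj : j ≠ i) (hjs : j ≠ i.swap)
    (hl : l ≠ k) (hls : l ≠ k.swap) :
    Conn (tG (sing_single (F := F) hjs)) (tG (sing_single (F := F) hls)) := by
  have sw : ∀ {a b : Fin n ⊕ Fin n}, a ≠ b.swap → b ≠ a.swap := fun h e => h (by simp [e])
  -- move the first point to `h`, then to `k`
  have mv : ∀ {i j k l : Fin n ⊕ Fin n}, j ≠ i → (a : j ≠ i.swap) → l ≠ k → (b : l ≠ k.swap) →
      k ≠ i → k ≠ i.swap →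
      Conn (tG (sing_single (F := F) a)) (tG (sing_single (F := F) b)) := by
    intro i j k l hj a hl b k1 k2
    refine (step' hn hj a k1 k2).trans ?_
    rw [single_swap k2 (sw k2)]
    exact step' hn k1.symm (sw k2) hl b
  by_cases hk : k ≠ i ∧ k ≠ i.swap
  · exact mv hj hjs hl hls hk.1 hk.2
  obtain ⟨h, h1, h2, h3, h4⟩ := exists_other hn i k
  exact (mv hj hjs h1.symm (sw h2) h1 h2).trans
    (mv h1.symm (sw h2) hl hls h3.symm (sw h4))

theorem connected (hn : 3 ≤ n) : IsConnectedFamily (FAdj (tSet F n)) (tSet F n) := by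
  have key : ∀ A ∈ tSet F n, ∃ (i j : Fin n ⊕ Fin n) (_ : j ≠ i) (hs : j ≠ i.swap),
      Conn A (tG (sing_single (F := F) hs)) := by
    rintro _ ⟨p, r, h, hli, rfl⟩
    obtain ⟨i, j, hji, hjs, hD⟩ := exists_minor h hli
    have h1 : j.swap ≠ i.swap := fun e => hji (by simpa using congrArg Sum.swap e)
    have h2 : j.swap ≠ i.swap.swap := by
      rw [Sum.swap_swap]; exact fun e => hjs (by simp [← e])
    refine ⟨i.swap, j.swap, h1, h2, conn_of_opposite h _ hli (li_single h1) ?_⟩
    simp only [bil_single, Sum.swap_swap]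
    exact hD
  intro A hA B hB
  obtain ⟨i, j, hj, hjs, e1⟩ := key A hA
  obtain ⟨k, l, hl, hls, e2⟩ := key B hB
  exact (e1.trans (conn_single hn hj hjs hl hls)).trans (conn_symm e2)

theorem tSet_eq :
    {A : Subgroup ↥(isometryGroup F (quadFormPlus n F)) | ∃ p r : Fin n ⊕ Fin n → F,
      LinearIndependent F ![p, r] ∧ quadFormPlus n F p = 0 ∧ quadFormPlus n F r = 0 ∧
      quadFormPlus n F (p + r) = 0 ∧
      A = Subgroup.closure {σ : ↥(isometryGroup F (quadFormPlus n F)) | ∀ v : Fin n ⊕ Fin n → F,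
        quadFormPlus n F (v + p) - quadFormPlus n F v - quadFormPlus n F p = 0 →
        quadFormPlus n F (v + r) - quadFormPlus n F v - quadFormPlus n F r = 0 →
          ((σ : Matrix.GeneralLinearGroup (Fin n ⊕ Fin n) F) :
            Matrix (Fin n ⊕ Fin n) (Fin n ⊕ Fin n) F) *ᵥ v = v}} = tSet F n := by
  ext A
  constructor
  · rintro ⟨p, r, hli, h1, h2, h3, rfl⟩
    have h : Sing p r := ⟨h1, h2, by rw [Q_add, h1, h2] at h3; linear_combination h3⟩
    exact ⟨p, r, h, hli, closure_eq h hli⟩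
  · rintro ⟨p, r, h, hli, rfl⟩
    exact ⟨p, r, hli, h.qp, h.qr, by rw [Q_add, h.qp, h.qr, h.pr]; ring, (closure_eq h hli).symm⟩

end Cfsg.Agent.SiegelRootGroups10
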