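import Cfsg.Agent.Lib.Simple168Classes

/-!
Sylow 2-subgroups of a simple group of order 168.
-/

namespace Cfsg.Agent.Simple168Four

open SimpleOrder SmallGroupBasic Simple168 Simple168Classes

set_option linter.unusedSectionVars false

variable {G : Type*} [Group G] [Finite G] [IsSimpleGroup G] (h : Nat.card G = 168)
include h

theorem orderOf_central (T : Sylow 2 G) {z : G} (hzT : z ∈ (T : Subgroup G)) (hz1 : z ≠ 1)
    (hc : ∀ t ∈ (T : Subgroup G), t * z = z * t) : orderOf z = 2 := by
  have h8 : orderOf z ∣ 8 := by
    have := orderOf_dvd_natCard (⟨z, hzT⟩ : ↥(T : Subgroup G))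
    rwa [card_sylow_two_subgroup h T, ← Subgroup.orderOf_coe] at this
  rcases orderOf_cases h z with e | e | e | e | e
  · exact absurd (orderOf_eq_one_iff.1 e) hz1
  · exact e
  · rw [e] at h8; norm_num at h8
  · exfalso
    have hcls : Nat.card {g : G // IsConj z g} = 42 := by
      rw [← (two_four h).2.1]
      exact Nat.card_congr (Equiv.subtypeEquivRight fun g =>
        ⟨fun hg => by rw [IsConj.orderOf_eq' hg, e], fun hg => (two_four h).2.2.2 z g e hg⟩)
    rw [card_isConj_eq_index] at hcls
    have hle : (T : Subgroup G) ≤ Subgroup.centralizer ({z} : Set G) :=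
      fun t ht => Subgroup.mem_centralizer_singleton_iff.2 (hc t ht)
    have hd := Subgroup.index_dvd_of_le hle
    have hm := (T : Subgroup G).card_mul_index
    rw [card_sylow_two_subgroup h T, h] at hm
    have hi : (T : Subgroup G).index = 21 := by omega
    rw [hcls, hi] at hd
    norm_num at hd
  · rw [e] at h8; norm_num at h8

theorem mem_zpowers_of_orderOf_four (T : Sylow 2 G) {x y : G} (hx : orderOf x = 4)
    (hC : Subgroup.centralizer ({x ^ 2} : Set G) = (T : Subgroup G)) (hy : orderOf y = 4)
    (hys : y ^ 2 = x ^ 2) : y ∈ Subgroup.zpowers x := by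
  classical
  have : Fact (Nat.Prime 2) := ⟨by norm_num⟩
  by_contra hyx
  choose a b haT hbT ha hba hb hCa using fun U : Sylow 2 G => exists_dihedral_gens h U
  let a' : Sylow 2 G → G := fun U => if U = T then x else a U
  have ha' : ∀ U, orderOf (a' U) = 4 := fun U => by
    simp only [a']; split
    · exact hx
    · exact ha U
  have hCa' : ∀ U : Sylow 2 G,
      Subgroup.centralizer ({a' U ^ 2} : Set G) = (U : Subgroup G) := fun U => by
    by_cases hU : U = T
    · subst hU
      simp only [a', if_true]
      exact hC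
    · simp only [a', if_neg hU]
      exact hCa U
  let f : (Sylow 2 G × Bool) ⊕ Unit → {g : G // orderOf g = 4} :=
    Sum.elim (fun q => ⟨if q.2 then a' q.1 else (a' q.1)⁻¹, by split <;> simp [ha']⟩)
      (fun _ => ⟨y, hy⟩)
  have hsq : ∀ q, (f (Sum.inl q) : G) ^ 2 = a' q.1 ^ 2 := by
    intro q
    by_cases hq : q.2
    · simp [f, hq]
    · simp only [f, Sum.elim_inl, hq, Bool.false_eq_true, if_false, inv_pow]
      rw [inv_eq_iff_mul_eq_one, ← pow_add]
      exact (orderOf_dvd_iff_pow_eq_one (n := 4)).1 (dvd_of_eq (ha' q.1))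
  have hy_ne : ∀ q, (f (Sum.inl q) : G) ≠ y := by
    rintro ⟨U, b⟩ he
    have hU : U = T := Sylow.ext (by rw [← hCa' U, ← hC, ← hsq (U, b), he, hys])
    subst hU
    apply hyx
    rw [← he]
    cases b <;> simp [f, a', Subgroup.mem_zpowers]
  have hf : Function.Injective f := by
    rintro (⟨U, b⟩ | u) (⟨U', b'⟩ | u') he
    · have hUU : U = U' := Sylow.ext (by rw [← hCa' U, ← hCa' U', ← hsq (U, b), ← hsq (U', b'), he])
      subst hUU
      have hne : a' U ≠ (a' U)⁻¹ := fun e => by
        have h2 : orderOf (a' U) ∣ 2 :=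
          orderOf_dvd_of_pow_eq_one (by rw [sq]; nth_rw 2 [e]; exact mul_inv_cancel _)
        rw [ha' U] at h2; norm_num at h2
      have he' := congrArg Subtype.val he
      cases b <;> cases b' <;>
        simp only [f, Sum.elim_inl, if_true, if_false, Bool.false_eq_true] at he'
      · rfl
      · exact absurd he'.symm hne
      · exact absurd he' hne
      · rfl
    · exact absurd (congrArg Subtype.val he) (hy_ne _)
    · exact absurd (congrArg Subtype.val he).symm (hy_ne _)
    · rfl
  have := Nat.card_le_card_of_injective f hf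
  rw [Nat.card_sum, Nat.card_prod, card_sylow_two h, (two_four h).2.1,
    Nat.card_eq_fintype_card (α := Bool), Fintype.card_bool, Nat.card_unique] at this
  omega

end Cfsg.Agent.Simple168Four
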