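import Cfsg.Agent.Lib.Simple168Four
import Cfsg.Agent.Lib.SmallGroupS4
import Mathlib.GroupTheory.SpecificGroups.KleinFour

/-! Klein four-subgroups and maximal subgroups of the simple group of order 168. -/

namespace Cfsg.Agent.Simple168Klein

open SimpleOrder SmallGroupBasic

/-- Klein four-subgroups of the dihedral group of order 8, as finite sets. -/
abbrev KleinSet (s : Finset (DihedralGroup 4)) : Prop :=
  s.card = 4 ∧ (1 : DihedralGroup 4) ∈ s ∧ (∀ a ∈ s, ∀ b ∈ s, a * b ∈ s) ∧ ∀ a ∈ s, a * a = 1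

theorem card_kleinSet : Fintype.card {s : Finset (DihedralGroup 4) // KleinSet s} = 2 := by
  decide +kernel

theorem isKleinFour_of_equiv {A B : Type*} [Group A] [Group B] (e : A ≃* B)
    (hA : IsKleinFour A) : IsKleinFour B where
  card_four := (Nat.card_congr e.toEquiv).symm.trans hA.card_four
  exponent_two := (Monoid.exponent_eq_of_mulEquiv e).symm.trans hA.exponent_two

/-- The subgroup of a `KleinSet`. -/
def kleinSubgroup (s : {s : Finset (DihedralGroup 4) // KleinSet s}) :
    Subgroup (DihedralGroup 4) where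
  carrier := ↑s.1
  mul_mem' {a b} ha hb := s.2.2.2.1 a ha b hb
  one_mem' := s.2.2.1
  inv_mem' {a} ha := by
    rwa [inv_eq_of_mul_eq_one_right (s.2.2.2.2 a ha)]

theorem isKleinFour_kleinSubgroup (s : {s : Finset (DihedralGroup 4) // KleinSet s}) :
    IsKleinFour ↥(kleinSubgroup s) := by
  refine ⟨(Nat.card_eq_finsetCard s.1).trans s.2.1, ?_⟩
  refine ((Nat.dvd_prime Nat.prime_two).1 (Monoid.exponent_dvd_of_forall_pow_eq_one
    fun a => ?_)).resolve_left fun h1 => ?_
  · rw [sq]; exact Subtype.ext (s.2.2.2.2 a.1 a.2)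
  · obtain ⟨a, ha, hne⟩ := Finset.exists_mem_ne (s := s.1) (by rw [s.2.1]; norm_num) 1
    have h2 := Monoid.pow_exponent_eq_one (⟨a, ha⟩ : ↥(kleinSubgroup s))
    rw [h1, pow_one] at h2
    exact hne (congrArg Subtype.val h2)

theorem card_klein_dihedral :
    Nat.card {V : Subgroup (DihedralGroup 4) // IsKleinFour ↥V} = 2 := by
  classical
  have e : {V : Subgroup (DihedralGroup 4) // IsKleinFour ↥V} ≃
    {s : Finset (DihedralGroup 4) // KleinSet s} :=
    { toFun := fun V => ⟨(V.1 : Set (DihedralGroup 4)).toFinset, by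
        have := V.2
        refine ⟨?_, by simp [one_mem], fun a ha b hb => ?_, fun a ha => ?_⟩
        · rw [Set.toFinset_card, ← Nat.card_eq_fintype_card]
          exact V.2.card_four
        · simp only [Set.mem_toFinset, SetLike.mem_coe] at ha hb ⊢
          exact mul_mem ha hb
        · simp only [Set.mem_toFinset, SetLike.mem_coe] at ha
          exact congrArg Subtype.val (IsKleinFour.mul_self (⟨a, ha⟩ : ↥V.1))⟩
      invFun := fun s => ⟨kleinSubgroup s, isKleinFour_kleinSubgroup s⟩
      left_inv := fun V => by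
        apply Subtype.ext
        ext a
        simp [kleinSubgroup]
      right_inv := fun s => by
        apply Subtype.ext
        ext a
        exact Set.mem_toFinset.trans Iff.rfl }
  rw [Nat.card_congr e, Nat.card_eq_fintype_card, card_kleinSet]

variable {G : Type*} [Group G] [Finite G]

theorem card_klein_le {T : Subgroup G} {x y : G} (hT : Nat.card ↥T = 8) (hxT : x ∈ T) (hyT : y ∈ T)
    (hx : orderOf x = 4) (hy : y * y = 1) (hyx : y * x * y⁻¹ = x⁻¹)
    (hny : y ∉ Subgroup.zpowers x) :
    Nat.card {U : Subgroup G // U ≤ T ∧ IsKleinFour ↥U} = 2 := by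
  have hyi : y⁻¹ = y := inv_eq_of_mul_eq_one_right hy
  obtain ⟨e⟩ := nonempty_dihedral_equiv (H := ↥T) (n := 4) (by rw [hT])
    (x := ⟨x, hxT⟩) (y := ⟨y, hyT⟩) (by rw [Subgroup.orderOf_mk, hx]) (Subtype.ext hy)
    (Subtype.ext (by
      show y * x * y = x⁻¹
      rw [hyi] at hyx
      exact hyx))
    (by
      rintro ⟨j, hj⟩
      exact hny ⟨j, by simpa using congrArg Subtype.val hj⟩)
  rw [← card_klein_dihedral]
  have hmap : ∀ V : Subgroup ↥T, IsKleinFour ↥V → IsKleinFour ↥(V.map e.toMonoidHom) := fun V hV =>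
    isKleinFour_of_equiv (e.subgroupMap V) hV
  refine Nat.card_congr
    { toFun := fun U => ⟨(U.1.subgroupOf T).map e.toMonoidHom,
        hmap _ (isKleinFour_of_equiv (Subgroup.subgroupOfEquivOfLe U.2.1).symm U.2.2)⟩
      invFun := fun V => ⟨(V.1.comap e.toMonoidHom).map T.subtype, Subgroup.map_subtype_le _, ?_⟩
      left_inv := fun U => ?_
      right_inv := fun V => ?_ }
  · have h1 : IsKleinFour ↥(V.1.comap e.toMonoidHom) := by
      have h2 := isKleinFour_of_equiv (e.symm.subgroupMap V.1) V.2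
      have h3 : V.1.comap e.toMonoidHom = V.1.map e.symm.toMonoidHom :=
        (Subgroup.map_equiv_eq_comap_symm e.symm V.1).symm
      rw [h3]
      exact h2
    exact isKleinFour_of_equiv
      ((V.1.comap e.toMonoidHom).equivMapOfInjective _ T.subtype_injective) h1
  · apply Subtype.ext
    show (((U.1.subgroupOf T).map e.toMonoidHom).comap e.toMonoidHom).map T.subtype = U.1
    rw [Subgroup.comap_map_eq_self_of_injective e.injective,
      Subgroup.map_subgroupOf_eq_of_le U.2.1]
  · apply Subtype.ext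
    show (((V.1.comap e.toMonoidHom).map T.subtype).subgroupOf T).map e.toMonoidHom = V.1
    rw [Subgroup.subgroupOf, Subgroup.comap_map_eq_self_of_injective T.subtype_injective,
      Subgroup.map_comap_eq_self_of_surjective e.surjective]

variable [IsSimpleGroup G] (h : Nat.card G = 168)
include h

theorem card_centralizer_involution {t : G} (ht : orderOf t = 2) :
    Nat.card ↥(Subgroup.centralizer ({t} : Set G)) = 8 := by
  obtain ⟨h21, -, hconj, -⟩ := Simple168Classes.two_four h
  have hset : Nat.card {g : G // IsConj t g} = 21 := by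
    rw [← h21]
    refine Nat.card_congr (Equiv.subtypeEquivRight fun g => ⟨fun hc => ?_, fun hg => hconj t g ht hg⟩)
    rw [SmallGroupBasic.IsConj.orderOf_eq' hc, ht]
  rw [card_isConj_eq_index] at hset
  have := (Subgroup.centralizer ({t} : Set G)).card_mul_index
  rw [hset, h] at this
  omega

theorem card_klein (T : Sylow 2 G) :
    Nat.card {U : Subgroup G // U ≤ (T : Subgroup G) ∧ IsKleinFour ↥U} = 2 := by
  obtain ⟨x, y, hxT, hyT, hx, hny, hyx, hC⟩ := Simple168.exists_dihedral_gens h T
  refine card_klein_le (Simple168.card_sylow_two_subgroup h T) hxT hyT hx ?_ hyx hny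
  rcases Simple168.orderOf_cases h y with e | e | e | e | e
  · exact absurd (orderOf_eq_one_iff.1 e ▸ one_mem _) hny
  · rw [← sq, ← e]; exact pow_orderOf_eq_one y
  all_goals exfalso
  · have := Subgroup.orderOf_dvd_natCard _ hyT
    rw [e, Simple168.card_sylow_two_subgroup h T] at this
    norm_num at this
  · have hy2 : y ^ 2 ∈ Subgroup.centralizer ({x ^ 2} : Set G) := by rw [hC]; exact pow_mem hyT 2
    have hx2 : orderOf (x ^ 2) = 2 := by rw [orderOf_pow, hx]; rfl
    have hy2' : orderOf (y ^ 2) = 2 := by rw [orderOf_pow, e]; rfl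
    have heq : y ^ 2 = x ^ 2 := by
      have hyy : y ^ 2 * x * (y ^ 2)⁻¹ = x := by
        calc y ^ 2 * x * (y ^ 2)⁻¹ = y * (y * x * y⁻¹) * y⁻¹ := by rw [sq]; group
          _ = x := by rw [hyx, ← conj_inv, hyx, inv_inv]
      by_contra hne
      have hxmem : x ∈ Subgroup.centralizer ({y ^ 2} : Set G) := by
        rw [Subgroup.mem_centralizer_singleton_iff]
        exact (mul_inv_eq_iff_eq_mul.1 hyy).symm
      have hymem : y ∈ Subgroup.centralizer ({y ^ 2} : Set G) := by
        rw [Subgroup.mem_centralizer_singleton_iff]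
        exact (Commute.self_pow y 2).eq
      have hy2X : y ^ 2 ∈ Subgroup.zpowers x := by
        have hXT : Subgroup.zpowers x ≤ (T : Subgroup G) := Subgroup.zpowers_le.2 hxT
        have hidx : ((Subgroup.zpowers x).subgroupOf (T : Subgroup G)).index = 2 := by
          have hm := ((Subgroup.zpowers x).subgroupOf (T : Subgroup G)).card_mul_index
          rw [Nat.card_congr (Subgroup.subgroupOfEquivOfLe hXT).toEquiv, Nat.card_zpowers, hx,
            Simple168.card_sylow_two_subgroup h T] at hm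
          omega
        have := Subgroup.sq_mem_of_index_two hidx (⟨y, hyT⟩ : ↥(T : Subgroup G))
        simpa [Subgroup.mem_subgroupOf] using this
      obtain ⟨j, hj⟩ := Subgroup.mem_zpowers_iff.1 hy2X
      have h0 : 0 ≤ j % (4 : ℕ) := Int.emod_nonneg _ (by norm_num)
      have h4 : j % (4 : ℕ) < 4 := Int.emod_lt_of_pos _ (by norm_num)
      rw [← zpow_mod_orderOf, hx] at hj
      generalize j % (4 : ℕ) = k at h0 h4 hj
      interval_cases k
      · rw [zpow_zero] at hj; rw [← hj, orderOf_one] at hy2'; omega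
      · rw [zpow_one] at hj; rw [← hj, hx] at hy2'; omega
      · exact hne (by rw [← hj]; norm_cast)
      · rw [← hj] at hy2'
        have : x ^ (3 : ℤ) = x⁻¹ := by
          rw [eq_inv_iff_mul_eq_one, ← zpow_add_one]
          norm_cast
          exact (show x ^ 4 = 1 by rw [← hx]; exact pow_orderOf_eq_one x)
        rw [this, orderOf_inv, hx] at hy2'
        omega
    exact hny (Simple168Four.mem_zpowers_of_orderOf_four h T hx hC e heq)
  · have := Subgroup.orderOf_dvd_natCard _ hyT
    rw [e, Simple168.card_sylow_two_subgroup h T] at this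
    norm_num at this

omit h [IsSimpleGroup G] in
/-- A two-element subgroup of `T` of order 4 is normal in `T`. -/
theorem le_normalizer_of_card {T U : Subgroup G} (hT : Nat.card ↥T = 8) (hU : Nat.card ↥U = 4)
    (hle : U ≤ T) : T ≤ Subgroup.normalizer (U : Set G) := by
  have hi : (U.subgroupOf T).index = 2 := by
    have := (U.subgroupOf T).card_mul_index
    rw [Nat.card_congr (Subgroup.subgroupOfEquivOfLe hle).toEquiv, hU, hT] at this
    omega
  exact (Subgroup.normal_subgroupOf_iff_le_normalizer hle).1 (Subgroup.normal_of_index_eq_two hi)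

theorem not_conj (T : Sylow 2 G) {U W : Subgroup G} (hUT : U ≤ (T : Subgroup G))
    (hWT : W ≤ (T : Subgroup G)) (hU : IsKleinFour ↥U) (hW : IsKleinFour ↥W) (hne : U ≠ W)
    (g : G) : U.map (MulAut.conj g).toMonoidHom ≠ W := by
  intro hg
  have : Fact (Nat.Prime 2) := ⟨Nat.prime_two⟩
  have hT := Simple168.card_sylow_two_subgroup h T
  have hTU := le_normalizer_of_card hT hU.card_four hUT
  have hTW := le_normalizer_of_card hT hW.card_four hWT
  set N := Subgroup.normalizer (W : Set G) with hN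
  have hconjT : ((g • T : Sylow 2 G) : Subgroup G) ≤ N := by
    rw [Sylow.coe_subgroup_smul, hN, ← hg, ← Subgroup.map_equiv_normalizer_eq]
    exact Subgroup.map_mono hTU
  obtain ⟨n, hn⟩ := MulAction.exists_smul_eq (↥N) (Sylow.subtype (g • T) hconjT) (Sylow.subtype T hTW)
  have hn' : ((n : G) * g) • T = T := by
    rw [mul_smul]
    refine Sylow.subtype_injective (N := N) (hP := ?_) (hQ := hTW) ?_
    · rw [Sylow.coe_subgroup_smul]
      refine (Subgroup.map_mono hconjT).trans ?_
      rintro _ ⟨a, ha, rfl⟩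
      exact mul_mem (mul_mem n.2 ha) (inv_mem n.2)
    · rw [← hn, Sylow.smul_subtype]
      rfl
  have hng : (n : G) * g ∈ (T : Subgroup G) := by
    rw [← Simple168.normalizer_sylow_two h T]
    exact Sylow.smul_eq_iff_mem_normalizer.1 hn'
  refine hne ?_
  ext z
  have h1 := Subgroup.mem_normalizer_iff.1 (hTU hng) z
  have h2 := Subgroup.mem_normalizer_iff.1 n.2 (g * z * g⁻¹)
  have h3 : z ∈ U ↔ g * z * g⁻¹ ∈ W := by
    rw [← hg]
    exact ⟨fun hz => ⟨z, hz, rfl⟩, fun ⟨a, ha, hae⟩ =>
      (MulAut.conj g).injective (show MulAut.conj g a = MulAut.conj g z from hae) ▸ ha⟩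
  constructor
  · intro hz
    have hz1 : (n : G) * g * z * ((n : G) * g)⁻¹ ∈ W := by
      rw [show (n : G) * g * z * ((n : G) * g)⁻¹ = (n : G) * (g * z * g⁻¹) * (n : G)⁻¹ by group]
      exact h2.1 (h3.1 hz)
    have hz2 : (n : G) * g * z * ((n : G) * g)⁻¹ ∈ U := h1.1 hz
    have := (Subgroup.mem_normalizer_iff.1 (hTW hng) z).2 hz1
    exact this
  · intro hz
    have h4 := (Subgroup.mem_normalizer_iff.1 (hTW hng) z).1 hz
    rw [show (n : G) * g * z * ((n : G) * g)⁻¹ = (n : G) * (g * z * g⁻¹) * (n : G)⁻¹ by group] at h4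
    exact h3.2 (h2.2 h4)

/-- A central involution of a Sylow 2-subgroup inside a Klein subgroup is unique. -/
theorem exists_noncentral (T : Sylow 2 G) {U : Subgroup G} (hU : IsKleinFour ↥U)
    (hUT : U ≤ (T : Subgroup G)) :
    ∃ u ∈ U, orderOf u = 2 ∧ Subgroup.centralizer ({u} : Set G) ≠ (T : Subgroup G) := by
  classical
  obtain ⟨x, y, hxT, hyT, hx, hny, hyx, hC⟩ := Simple168.exists_dihedral_gens h T
  by_contra hcon
  push Not at hcon
  have hord : ∀ u ∈ U, u ≠ 1 → orderOf u = 2 := fun u hu h1 =>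
    orderOf_eq_prime (by rw [sq]; exact congrArg Subtype.val (IsKleinFour.mul_self (⟨u, hu⟩ : ↥U))) h1
  have hXT : Subgroup.zpowers x ≤ (T : Subgroup G) := Subgroup.zpowers_le.2 hxT
  have hidx : ((Subgroup.zpowers x).subgroupOf (T : Subgroup G)).index = 2 := by
    have hm := ((Subgroup.zpowers x).subgroupOf (T : Subgroup G)).card_mul_index
    rw [Nat.card_congr (Subgroup.subgroupOfEquivOfLe hXT).toEquiv, Nat.card_zpowers, hx,
      Simple168.card_sylow_two_subgroup h T] at hm
    omega
  have hkey : ∀ u ∈ U, u ≠ 1 → u = x ^ 2 := by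
    intro u hu h1
    have hCu := hcon u hu (hord u hu h1)
    have hux : u * x = x * u := by
      have : x ∈ Subgroup.centralizer ({u} : Set G) := by rw [hCu]; exact hxT
      rw [Subgroup.mem_centralizer_singleton_iff] at this
      exact this.symm
    have huX : u ∈ Subgroup.zpowers x := by
      by_contra hn
      have hm : y * u ∈ Subgroup.zpowers x := by
        have := (Subgroup.mul_mem_iff_of_index_two hidx
          (a := (⟨y, hyT⟩ : ↥(T : Subgroup G))) (b := ⟨u, hUT hu⟩)).2
          (by simp [Subgroup.mem_subgroupOf, hny, hn])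
        simpa [Subgroup.mem_subgroupOf] using this
      obtain ⟨j, hj⟩ := hm
      have hj' : x ^ j = y * u := hj
      have e1 : x⁻¹ = x := by
        calc x⁻¹ = y * x * y⁻¹ := hyx.symm
          _ = (y * u) * x * (y * u)⁻¹ := by
            rw [show (y * u) * x * (y * u)⁻¹ = y * (u * x) * u⁻¹ * y⁻¹ by group, hux]; group
          _ = x := by rw [← hj']; group
      have : orderOf x ∣ 2 := orderOf_dvd_of_pow_eq_one (by
        rw [sq]; nth_rewrite 1 [← e1]; exact inv_mul_cancel x)
      rw [hx] at this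
      norm_num at this
    obtain ⟨j, hj⟩ := Subgroup.mem_zpowers_iff.1 huX
    have h0 : 0 ≤ j % (4 : ℕ) := Int.emod_nonneg _ (by norm_num)
    have h4 : j % (4 : ℕ) < 4 := Int.emod_lt_of_pos _ (by norm_num)
    rw [← zpow_mod_orderOf, hx] at hj
    have ho := hord u hu h1
    generalize j % (4 : ℕ) = k at h0 h4 hj
    interval_cases k
    · rw [zpow_zero] at hj; exact absurd hj.symm h1
    · rw [zpow_one] at hj; rw [← hj, hx] at ho; omega
    · rw [← hj]; norm_cast
    · rw [← hj] at ho
      have : x ^ (3 : ℤ) = x⁻¹ := by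
        rw [eq_inv_iff_mul_eq_one, ← zpow_add_one]
        norm_cast
        exact (show x ^ 4 = 1 by rw [← hx]; exact pow_orderOf_eq_one x)
      rw [this, orderOf_inv, hx] at ho
      omega
  have : Nat.card ↥U ≤ 2 := by
    let f : ↥U → Bool := fun u => decide (u = 1)
    have hf : Function.Injective f := by
      intro a b e
      simp only [f, decide_eq_decide] at e
      by_cases ha : a = 1
      · rw [ha, e.1 ha]
      · have hb : b ≠ 1 := fun hb => ha (e.2 hb)
        exact Subtype.ext ((hkey a a.2 fun e => ha (Subtype.ext e)).trans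
          (hkey b b.2 fun e => hb (Subtype.ext e)).symm)
    have := Nat.card_le_card_of_injective f hf
    rwa [Nat.card_eq_fintype_card (α := Bool), Fintype.card_bool] at this
  rw [hU.card_four] at this
  omega

theorem exists_two_sylow {U : Subgroup G} (hU : IsKleinFour ↥U) :
    ∃ T T' : Sylow 2 G, T ≠ T' ∧ U ≤ (T : Subgroup G) ∧ U ≤ (T' : Subgroup G) := by
  have : Fact (Nat.Prime 2) := ⟨Nat.prime_two⟩
  obtain ⟨T, hT⟩ := (IsPGroup.of_card (p := 2) (n := 2) (by rw [hU.card_four]; norm_num) :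
    IsPGroup 2 ↥U).exists_le_sylow
  obtain ⟨u, huU, hu, hne⟩ := exists_noncentral h T hU hT
  have hC := card_centralizer_involution h hu
  obtain ⟨T', hT'⟩ := (IsPGroup.of_card (p := 2) (n := 3) (by rw [hC]; norm_num) :
    IsPGroup 2 ↥(Subgroup.centralizer ({u} : Set G))).exists_le_sylow
  have heq : Subgroup.centralizer ({u} : Set G) = (T' : Subgroup G) :=
    Subgroup.eq_of_le_of_card_ge hT' (by rw [Simple168.card_sylow_two_subgroup h, hC])
  refine ⟨T, T', fun e => hne (by rw [heq, e]), hT, fun v hv => ?_⟩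
  rw [← heq, Subgroup.mem_centralizer_singleton_iff]
  exact congrArg Subtype.val
    (hU.isMulCommutative.is_comm.comm (⟨v, hv⟩ : ↥U) ⟨u, huU⟩)

theorem card_normalizer_klein {U : Subgroup G} (hU : IsKleinFour ↥U) :
    Nat.card ↥(Subgroup.normalizer (U : Set G)) = 24 := by
  classical
  obtain ⟨T, T', hne, hUT, hUT'⟩ := exists_two_sylow h hU
  set N := Subgroup.normalizer (U : Set G) with hN
  have hT := Simple168.card_sylow_two_subgroup h T
  have hT' := Simple168.card_sylow_two_subgroup h T'
  have hTN := le_normalizer_of_card hT hU.card_four hUT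
  have hTN' := le_normalizer_of_card hT' hU.card_four hUT'
  obtain ⟨c, hc⟩ := hT ▸ Subgroup.card_dvd_of_le hTN
  have hdiv : 8 * c ∣ 168 := hc ▸ h ▸ Subgroup.card_subgroup_dvd_card N
  have hc21 : c ∣ 21 := Nat.dvd_of_mul_dvd_mul_left (by norm_num : 0 < 8) hdiv
  have hc1 : c ≠ 1 := by
    rintro rfl
    exact hne (Sylow.ext ((Subgroup.eq_of_le_of_card_ge hTN (by rw [hc, hT])).trans
      (Subgroup.eq_of_le_of_card_ge hTN' (by rw [hc, hT'])).symm))
  have hc7 : ¬ 7 ∣ c := by
    intro h7
    obtain ⟨g, hgN, hg⟩ := SmallGroupS4.exists_orderOf_of_dvd (H := N) 7 (by norm_num)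
      (hc ▸ dvd_mul_of_dvd_right h7 8)
    have hnt : Nontrivial ↥U := Finite.one_lt_card_iff_nontrivial.1 (by rw [hU.card_four]; norm_num)
    obtain ⟨u, hu⟩ := exists_ne (1 : ↥U)
    have hu2 : orderOf (u : G) = 2 :=
      orderOf_eq_prime (by rw [sq]; exact congrArg Subtype.val (IsKleinFour.mul_self u))
        fun e => hu (Subtype.ext e)
    let f : Fin 7 → ↥U := fun i => ⟨g ^ (i : ℕ) * u * (g ^ (i : ℕ))⁻¹,
      (Subgroup.mem_normalizer_iff.1 (pow_mem hgN _) _).1 u.2⟩
    obtain ⟨i, j, hij, he⟩ : ∃ i j, i ≠ j ∧ f i = f j := by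
      by_contra hcon
      push Not at hcon
      have := Nat.card_le_card_of_injective f fun i j e => by_contra fun hne => hcon i j hne e
      rw [hU.card_four, Nat.card_fin] at this
      omega
    have he' : g ^ (i : ℕ) * u * (g ^ (i : ℕ))⁻¹ = g ^ (j : ℕ) * u * (g ^ (j : ℕ))⁻¹ :=
      congrArg Subtype.val he
    have hmem : (g ^ (j : ℕ))⁻¹ * g ^ (i : ℕ) ∈ Subgroup.centralizer ({(u : G)} : Set G) := by
      rw [Subgroup.mem_centralizer_singleton_iff, ← mul_inv_eq_iff_eq_mul]
      calc (g ^ (j : ℕ))⁻¹ * g ^ (i : ℕ) * u * ((g ^ (j : ℕ))⁻¹ * g ^ (i : ℕ))⁻¹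
          = (g ^ (j : ℕ))⁻¹ * (g ^ (i : ℕ) * u * (g ^ (i : ℕ))⁻¹) * g ^ (j : ℕ) := by group
        _ = u := by rw [he']; group
    have h8 := Subgroup.orderOf_dvd_natCard _ hmem
    rw [card_centralizer_involution h hu2] at h8
    have h7' : orderOf ((g ^ (j : ℕ))⁻¹ * g ^ (i : ℕ)) ∣ 7 := by
      have hm : (g ^ (j : ℕ))⁻¹ * g ^ (i : ℕ) ∈ Subgroup.zpowers g :=
        mul_mem (inv_mem (pow_mem (Subgroup.mem_zpowers g) _)) (pow_mem (Subgroup.mem_zpowers g) _)
      exact (orderOf_dvd_of_mem_zpowers hm).trans (dvd_of_eq hg)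
    have h1 := orderOf_eq_one_iff.1 (Nat.eq_one_of_dvd_coprimes (by norm_num : Nat.Coprime 7 8) h7' h8)
    rw [inv_mul_eq_one] at h1
    exact hij (Fin.ext (pow_injOn_Iio_orderOf (Set.mem_Iio.2 (by rw [hg]; exact j.2))
      (Set.mem_Iio.2 (by rw [hg]; exact i.2)) h1).symm)
  rw [hc]
  have := Nat.le_of_dvd (by norm_num) hc21
  interval_cases c <;> omega

theorem nonempty_normalizer_equiv {U : Subgroup G} (hU : IsKleinFour ↥U) :
    Nonempty (↥(Subgroup.normalizer (U : Set G)) ≃* Equiv.Perm (Fin 4)) :=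
  SmallGroupS4.nonempty_equiv_perm_four (card_normalizer_klein h hU) fun g e =>
    Simple168.orderOf_ne_six h (g : G) (by rw [Subgroup.orderOf_coe, e])

end Cfsg.Agent.Simple168Klein
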