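import Cfsg.Agent.Lib.SimpleRangeLowMain81
import Cfsg.Agent.Lib.SimpleRangeSpecial30
import Cfsg.Agent.Lib.M11Order91Base

/-!
The orders of the simple groups whose order is a multiple of `11` dividing `95040`.
-/

set_option autoImplicit false
set_option linter.style.haveILetI false
set_option linter.unusedSectionVars false

open scoped ComplexConjugate

namespace Cfsg.Agent.SimpleEleven81

open Cfsg Cfsg.Agent.BlockPrime86 Cfsg.Agent.BlockPrincipal81 Cfsg.Agent.BlockCount91
  Cfsg.Agent.SimpleOrder Cfsg.Agent.SimpleOrderCheck Cfsg.Agent.SimpleRange30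

attribute [local instance] Classical.propDecidable

universe u

instance fact11 : Fact (Nat.Prime 11) := ⟨by norm_num⟩
instance fact3 : Fact (Nat.Prime 3) := ⟨Nat.prime_three⟩
instance fact5 : Fact (Nat.Prime 5) := ⟨by norm_num⟩

section Action

variable {G : Type u} [Group G] [Finite G]

/-- An element of order `3` centralising a Sylow subgroup of order `11` fixes every coset of a
subgroup of small index whose fixed cosets are few. -/
theorem smul_eq {P : Sylow 11 G} (hP : Nat.card ↥(P : Subgroup G) = 11) {M : Subgroup G}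
    (hPM : (P : Subgroup G) ≤ M) (hk : M.index < 33)
    (hF : (M.subgroupOf (Subgroup.normalizer ((P : Subgroup G) : Set G))).index ≤ 2) {u : G}
    (hu : orderOf u = 3) (huP : u ∈ Subgroup.centralizer ((P : Subgroup G) : Set G)) (a : G ⧸ M) :
    u • a = a := by
  set N := Subgroup.normalizer ((P : Subgroup G) : Set G) with hN
  have hu3 : u ^ 3 = 1 := hu ▸ pow_orderOf_eq_one u
  have hcomm : ∀ y ∈ (P : Subgroup G), Commute y u := fun y hy => Subgroup.mem_centralizer_iff.1 huP y hy
  by_contra hne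
  have hpow : ∀ i : Fin 3, u ^ (i : ℕ) • a = a → i = 0 := by
    intro i hi
    fin_cases i
    · rfl
    · exact absurd (by simpa using hi) hne
    · exfalso
      apply hne
      have h2 : u • (u ^ 2 • a) = a := by rw [← mul_smul, ← pow_succ', hu3, one_smul]
      rwa [show u ^ 2 • a = a from hi] at h2
  have hdist : ∀ i j : Fin 3, u ^ (i : ℕ) • a = u ^ (j : ℕ) • a → i = j := by
    intro i j h
    have e : u ^ ((i - j : Fin 3) : ℕ) • a = a := by
      have hm : ∀ n : ℕ, u ^ n = u ^ (n % 3) := fun n => by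
        conv_lhs => rw [← Nat.mod_add_div n 3, pow_add, pow_mul, hu3, one_pow, mul_one]
      have h3 := congrArg (fun x => u ^ (3 - (j : ℕ)) • x) h
      simp only [← mul_smul, ← pow_add] at h3
      rw [show 3 - (j : ℕ) + (j : ℕ) = 3 by omega, hu3, one_smul, hm] at h3
      rwa [Fin.val_sub]
    have := hpow _ e
    exact sub_eq_zero.1 this
  by_cases hfix : ∀ y ∈ (P : Subgroup G), y • a = a
  · have hrep : ∀ b : G ⧸ M, (∀ y ∈ (P : Subgroup G), y • b = b) → ∃ n : N, ((n : G) : G ⧸ M) = b := by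
      intro b hb
      obtain ⟨c, rfl⟩ := QuotientGroup.mk_surjective b
      have hQM : ((c⁻¹ • P : Sylow 11 G) : Subgroup G) ≤ M := by
        intro y hy
        rw [Sylow.coe_subgroup_smul, Subgroup.mem_pointwise_smul_iff_inv_smul_mem] at hy
        simp only [← map_inv, inv_inv, MulAut.smul_def, MulAut.conj_apply] at hy
        have := hb _ hy
        rw [MulAction.Quotient.smul_mk, QuotientGroup.eq] at this
        have h2 := inv_mem this
        simpa [mul_assoc] using h2
      obtain ⟨m, hm⟩ := MulAction.exists_smul_eq ↥M ((c⁻¹ • P).subtype hQM) (P.subtype hPM)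
      rw [Sylow.smul_subtype] at hm
      have hmP : ((m : G) * c⁻¹) • P = P := by rw [mul_smul]; exact Sylow.subtype_injective hm
      refine ⟨⟨((m : G) * c⁻¹)⁻¹, inv_mem (Sylow.smul_eq_iff_mem_normalizer.1 hmP)⟩, ?_⟩
      rw [QuotientGroup.eq]
      simp [mul_assoc]
    have hfixi : ∀ i : Fin 3, ∀ y ∈ (P : Subgroup G), y • (u ^ (i : ℕ) • a) = u ^ (i : ℕ) • a := by
      intro i y hy
      rw [← mul_smul, ((hcomm y hy).pow_right _).eq, mul_smul, hfix y hy]
    choose n hn using fun i : Fin 3 => hrep _ (hfixi i)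
    have hinj : Function.Injective fun i : Fin 3 => ((n i : N) : N ⧸ M.subgroupOf N) := by
      intro i j h
      apply hdist
      rw [← hn i, ← hn j, QuotientGroup.eq]
      have := QuotientGroup.eq.1 h
      rwa [Subgroup.mem_subgroupOf] at this
    have := Nat.card_le_card_of_injective _ hinj
    rw [Nat.card_fin, ← Subgroup.index] at this
    omega
  · have hstab : ∀ y ∈ (P : Subgroup G), y • a = a → y = 1 := by
      intro y hy hya
      by_contra hy1
      refine hfix fun z hz => ?_
      have hgen : (P : Subgroup G) = Subgroup.zpowers y :=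
        (Subgroup.eq_of_le_of_card_ge (Subgroup.zpowers_le.2 hy) (by
          rw [hP, Nat.card_zpowers, orderOf_eq_prime (PGroupsBasic.pow_eq_one_of_card hP hy) hy1])).symm
      rw [hgen] at hz
      exact (Subgroup.zpowers_le.2 (show y ∈ MulAction.stabilizer G a from hya)) hz
    have hinj : Function.Injective fun q : ↥(P : Subgroup G) × Fin 3 => (q.1 : G) • (u ^ (q.2 : ℕ) • a) := by
      rintro ⟨y, i⟩ ⟨z, j⟩ h
      have hyz : ((z : G)⁻¹ * y) • (u ^ (i : ℕ) • a) = u ^ (j : ℕ) • a := by
        have h' := congrArg (fun x => (z : G)⁻¹ • x) h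
        simpa [mul_smul] using h'
      set w := (z : G)⁻¹ * y with hw
      have hwP : w ∈ (P : Subgroup G) := mul_mem (inv_mem z.2) y.2
      set g := (u ^ (j : ℕ))⁻¹ * (w * u ^ (i : ℕ)) with hg
      have hga : g ∈ MulAction.stabilizer G a := by
        show g • a = a
        rw [hg, mul_smul, mul_smul, hyz, inv_smul_smul]
      have hg3 : g ^ 3 = w ^ 3 := by
        have hc : Commute w ((u ^ (j : ℕ))⁻¹ * u ^ (i : ℕ)) :=
          (((hcomm w hwP).pow_right _).inv_right).mul_right ((hcomm w hwP).pow_right _)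
        have e : g = w * ((u ^ (j : ℕ))⁻¹ * u ^ (i : ℕ)) := by
          rw [hg, ← mul_assoc, ← ((hcomm w hwP).pow_right (j : ℕ)).inv_right.eq, mul_assoc]
        have e2 : ((u ^ (j : ℕ))⁻¹ * u ^ (i : ℕ)) ^ 3 = 1 := by
          rw [((Commute.refl u).pow_pow (j : ℕ) (i : ℕ)).inv_left.mul_pow, inv_pow, ← pow_mul, ← pow_mul,
            mul_comm (j : ℕ), mul_comm (i : ℕ), pow_mul, pow_mul, hu3, one_pow, one_pow, inv_one, one_mul]
        rw [e, hc.mul_pow, e2, mul_one]
      have h4 : w ^ 3 • a = a := hg3 ▸ (pow_mem hga 3 : g ^ 3 ∈ MulAction.stabilizer G a)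
      have h5 : w ^ 3 = 1 := hstab _ (pow_mem hwP 3) h4
      have h6 : w = 1 := by
        have h7 := pow_gcd_eq_one.mpr ⟨h5, PGroupsBasic.pow_eq_one_of_card hP hwP⟩
        rwa [show Nat.gcd 3 11 = 1 from rfl, pow_one] at h7
      have hy : y = z := Subtype.ext (inv_mul_eq_one.1 (hw ▸ h6)).symm
      rw [h6, one_smul] at hyz
      rw [hy, hdist i j hyz]
    have := Nat.card_le_card_of_injective _ hinj
    rw [Nat.card_prod, hP, Nat.card_fin, ← Subgroup.index] at this
    omega

variable [IsSimpleGroup G]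

/-- The configuration `|N(P)| = 330`, `3 ∣ |C(P)|` at the order `47520`. -/
theorem false_of_normalizer (hG : ¬ IsMulCommutative G) (hn : Nat.card G = 47520) {P : Sylow 11 G}
    (hP : Nat.card ↥(P : Subgroup G) = 11)
    (hN : Nat.card ↥(Subgroup.normalizer ((P : Subgroup G) : Set G)) = 330)
    (hC : Nat.card ↥(Subgroup.centralizer ((P : Subgroup G) : Set G)) = 33 ∨
      Nat.card ↥(Subgroup.centralizer ((P : Subgroup G) : Set G)) = 66) : False := by
  set N := Subgroup.normalizer ((P : Subgroup G) : Set G) with hNdef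
  set C := Subgroup.centralizer ((P : Subgroup G) : Set G) with hCdef
  have hCN : C ≤ N := Subgroup.centralizer_le_normalizer _
  -- an element of order five normalising a subgroup of order three of the centraliser
  obtain ⟨⟨w, hwN⟩, hw⟩ := exists_prime_orderOf_dvd_card' (G := ↥N) 5 (by rw [hN]; norm_num)
  rw [Subgroup.orderOf_mk] at hw
  have hwC : ∀ g : G, g ∈ C → w * g * w⁻¹ ∈ C := by
    intro g hg
    refine Subgroup.mem_centralizer_iff.2 fun z hz => ?_
    have hz' : w⁻¹ * z * w ∈ (P : Subgroup G) := by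
      have := (Subgroup.mem_normalizer_iff.1 (inv_mem hwN) z).1 hz
      simpa using this
    have h1 := Subgroup.mem_centralizer_iff.1 hg _ hz'
    calc z * (w * g * w⁻¹) = w * ((w⁻¹ * z * w) * g) * w⁻¹ := by group
      _ = w * (g * (w⁻¹ * z * w)) * w⁻¹ := by rw [h1]
      _ = w * g * w⁻¹ * z := by group
  obtain ⟨u, hu, huC, huw⟩ : ∃ u, orderOf u = 3 ∧ u ∈ C ∧ Commute w u := by
    set A : Set (Subgroup G) := {S | S ≤ C ∧ Nat.card S = 3} with hA
    have hA22 : Nat.card A ∣ 22 := by
      have hS : ∀ S : Sylow 3 ↥C, Nat.card ↥(S : Subgroup ↥C) = 3 := fun S =>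
        sylow_card_of_once (by rcases hC with e | e <;> rw [e]) (by rcases hC with e | e <;> rw [e] <;> norm_num) S
      have hconv : Nat.card A = Nat.card (Sylow 3 ↥C) := by
        refine Nat.card_congr (Equiv.ofBijective (fun S : Sylow 3 ↥C =>
          (⟨(S : Subgroup ↥C).map C.subtype, Subgroup.map_subtype_le _,
            (Subgroup.card_map_of_injective Subtype.coe_injective).trans (hS S)⟩ : A)) ⟨fun S S' h => ?_, ?_⟩).symm
        · exact Sylow.ext (Subgroup.map_injective Subtype.coe_injective (congrArg Subtype.val h))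
        · rintro ⟨K, hKC, hK⟩
          have hK' : Nat.card ↥(K.subgroupOf C) = 3 := by
            rw [Nat.card_congr (Subgroup.subgroupOfEquivOfLe hKC).toEquiv, hK]
          obtain ⟨S, hS'⟩ := (IsPGroup.of_card (p := 3) (n := 1) (by rw [hK', pow_one])).exists_le_sylow
          refine ⟨S, Subtype.ext ?_⟩
          show (S : Subgroup ↥C).map C.subtype = K
          rw [← Subgroup.eq_of_le_of_card_ge hS' (by rw [hS S, hK']), Subgroup.map_subgroupOf_eq_of_le hKC]
      rw [hconv]
      obtain ⟨S⟩ : Nonempty (Sylow 3 ↥C) := inferInstance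
      refine S.card_dvd_index.trans ?_
      have := (S : Subgroup ↥C).card_mul_index
      rw [hS S] at this
      rcases hC with e | e <;> rw [e] at this
      · exact ⟨2, by omega⟩
      · exact ⟨1, by omega⟩
    let f : A → A := fun S => ⟨(S : Subgroup G).map (MulAut.conj w).toMonoidHom,
      by rintro _ ⟨g, hg, rfl⟩; exact hwC g (S.2.1 hg),
      (Subgroup.card_map_of_injective (MulAut.conj w).injective).trans S.2.2⟩
    have hf5 : ∀ S : A, f (f (f (f (f S)))) = S := by
      intro S
      apply Subtype.ext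
      simp only [f, Subgroup.map_map]
      have e : w ^ 5 = 1 := hw ▸ pow_orderOf_eq_one w
      convert Subgroup.map_id (S : Subgroup G) using 2
      ext g
      simp only [MonoidHom.comp_apply, MulEquiv.coe_toMonoidHom, MulAut.conj_apply, MonoidHom.id_apply]
      calc _ = w * (w * (w * (w * (w * g * w⁻¹) * w⁻¹) * w⁻¹) * w⁻¹) * w⁻¹ := rfl
        _ = w ^ 5 * g * (w ^ 5)⁻¹ := by
            rw [pow_succ, pow_succ, pow_succ, pow_succ, pow_one]; simp [mul_assoc]
        _ = g := by rw [e]; group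
    let σ : Equiv.Perm A := ⟨f, fun S => f (f (f (f S))), hf5, hf5⟩
    obtain ⟨S, hS⟩ : ∃ S : A, f S = S := by
      haveI := Fintype.ofFinite A
      have hσ : σ ^ 5 = 1 := Equiv.ext fun S => hf5 S
      have hnd : ¬ 5 ∣ Fintype.card A := fun h => by
        rw [← Nat.card_eq_fintype_card] at h
        exact absurd (h.trans hA22) (by norm_num)
      exact Equiv.Perm.exists_fixed_point_of_prime hnd (n := 1) (by rwa [pow_one])
    obtain ⟨⟨u, huS⟩, hu⟩ := exists_prime_orderOf_dvd_card' (G := ↥(S : Subgroup G)) 3 (dvd_of_eq S.2.2.symm)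
    rw [Subgroup.orderOf_mk] at hu
    refine ⟨u, hu, S.2.1 huS, ?_⟩
    have hmem : w * u * w⁻¹ ∈ (S : Subgroup G) := by
      rw [← hS]
      exact ⟨u, huS, rfl⟩
    have hSu : (S : Subgroup G) = Subgroup.zpowers u :=
      (Subgroup.eq_of_le_of_card_ge (Subgroup.zpowers_le.2 huS) (by rw [Nat.card_zpowers, hu, S.2.2])).symm
    rw [hSu, mem_zpowers_iff_mem_range_orderOf, hu] at hmem
    simp only [Finset.mem_image, Finset.mem_range] at hmem
    obtain ⟨i, hi, hi'⟩ := hmem
    have hw5 : w ^ 5 = 1 := hw ▸ pow_orderOf_eq_one w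
    have hu3 : u ^ 3 = 1 := hu ▸ pow_orderOf_eq_one u
    interval_cases i
    · exfalso
      have : u = 1 := by
        rw [pow_zero] at hi'
        calc u = w⁻¹ * (w * u * w⁻¹) * w := by group
          _ = 1 := by rw [← hi']; group
      rw [this, orderOf_one] at hu
      omega
    · rw [pow_one] at hi'
      exact mul_inv_eq_iff_eq_mul.1 hi'.symm
    · exfalso
      have h1 : ∀ g : G, w * g ^ 2 * w⁻¹ = (w * g * w⁻¹) ^ 2 := fun g => by rw [conj_pow]
      have h2 : w ^ 2 * u * (w ^ 2)⁻¹ = u := by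
        calc w ^ 2 * u * (w ^ 2)⁻¹ = w * (w * u * w⁻¹) * w⁻¹ := by simp [pow_two, mul_assoc]
          _ = w * u ^ 2 * w⁻¹ := by rw [hi']
          _ = (u ^ 2) ^ 2 := by rw [h1, hi']
          _ = u ^ 3 * u := by group
          _ = u := by rw [hu3, one_mul]
      have h4 : w ^ 4 * u * (w ^ 4)⁻¹ = u := by
        calc w ^ 4 * u * (w ^ 4)⁻¹ = w ^ 2 * (w ^ 2 * u * (w ^ 2)⁻¹) * (w ^ 2)⁻¹ := by
              rw [show (4 : ℕ) = 2 + 2 from rfl, pow_add]; group
          _ = u := by rw [h2, h2]
      have h3 : u ^ 2 = u := by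
        calc u ^ 2 = w * u * w⁻¹ := hi'
          _ = w * (w ^ 4 * u * (w ^ 4)⁻¹) * w⁻¹ := by rw [h4]
          _ = w ^ 5 * u * (w ^ 5)⁻¹ := by rw [pow_succ' w 4]; simp [mul_assoc]
          _ = u := by rw [hw5]; group
      rw [pow_two, mul_eq_left] at h3
      rw [h3, orderOf_one] at hu
      omega
  have hu1 : u ≠ 1 := fun e => by rw [e, orderOf_one] at hu; omega
  set M := Subgroup.centralizer ({u} : Set G) with hM
  haveI := Fintype.ofFinite G
  have hMtop : M ≠ ⊤ := SmallOrders91.centralizer_ne_top (G := G) hG hu1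
  have hPM : (P : Subgroup G) ≤ M := fun y hy =>
    Subgroup.mem_centralizer_singleton_iff.2 (Subgroup.mem_centralizer_iff.1 huC y hy)
  have huM : u ∈ M := Subgroup.mem_centralizer_singleton_iff.2 rfl
  have hwM : w ∈ M := Subgroup.mem_centralizer_singleton_iff.2 huw.eq
  obtain ⟨⟨y, hy⟩, hyo⟩ := exists_prime_orderOf_dvd_card' (G := ↥(P : Subgroup G)) 11 (by rw [hP])
  rw [Subgroup.orderOf_mk] at hyo
  have h165 : ∀ H : Subgroup G, y ∈ H → u ∈ H → w ∈ H → 165 ∣ Nat.card H := by
    intro H h1 h2 h3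
    have a1 := Subgroup.orderOf_dvd_natCard _ h1
    have a2 := Subgroup.orderOf_dvd_natCard _ h2
    have a3 := Subgroup.orderOf_dvd_natCard _ h3
    rw [hyo] at a1; rw [hu] at a2; rw [hw] at a3
    exact (show Nat.Coprime (11 * 3) 5 by norm_num).mul_dvd_of_dvd_of_dvd
      ((show Nat.Coprime 11 3 by norm_num).mul_dvd_of_dvd_of_dvd a1 a2) a3
  have hyN : y ∈ N := Subgroup.le_normalizer hy
  have hNM : 165 ∣ Nat.card ↥(M ⊓ N) := h165 _ ⟨hPM hy, hyN⟩ ⟨huM, hCN huC⟩ ⟨hwM, hwN⟩
  have hF : (M.subgroupOf N).index ≤ 2 := by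
    have h := (M.subgroupOf N).card_mul_index
    rw [hN] at h
    have e : Nat.card ↥(M.subgroupOf N) = Nat.card ↥(M ⊓ N) := by
      rw [← Subgroup.inf_subgroupOf_right, Nat.card_congr (Subgroup.subgroupOfEquivOfLe inf_le_right).toEquiv]
    rw [e] at h
    obtain ⟨j, hj⟩ := hNM
    rw [hj, mul_assoc] at h
    have : j * (M.subgroupOf N).index = 2 := by omega
    exact Nat.le_of_dvd two_pos ⟨j, by rw [mul_comm]; omega⟩
  -- nine divides the order of `M`
  have h9 : 9 ∣ Nat.card M := by
    obtain ⟨S, hS⟩ := (IsPGroup.of_card (G := ↥(Subgroup.zpowers u)) (p := 3) (n := 1)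
      (by rw [Nat.card_zpowers, hu, pow_one])).exists_le_sylow
    have huS : u ∈ (S : Subgroup G) := hS (Subgroup.mem_zpowers u)
    have hS27 : Nat.card ↥(S : Subgroup G) = 3 ^ 3 := by
      rw [sylow_card_of_eq (k := 3) (m := 1760) (by rw [hn]; norm_num) (by norm_num) S]
    have : Nontrivial ↥(S : Subgroup G) := ⟨⟨⟨u, huS⟩, 1, fun e => hu1 (congrArg Subtype.val e)⟩⟩
    have hZ : Nontrivial (Subgroup.center ↥(S : Subgroup G)) := S.2.center_nontrivial
    obtain ⟨⟨⟨z, hzS⟩, hzc⟩, hz1⟩ := exists_ne (1 : Subgroup.center ↥(S : Subgroup G))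
    have hzu : Commute z u := congrArg Subtype.val ((Subgroup.mem_center_iff.1 hzc) ⟨u, huS⟩).symm
    by_cases hzmem : z ∈ Subgroup.zpowers u
    · have hgen : Subgroup.zpowers z = Subgroup.zpowers u :=
        Subgroup.eq_of_le_of_card_ge (Subgroup.zpowers_le.2 hzmem) (by
          rw [Nat.card_zpowers, Nat.card_zpowers, hu]
          have h3 := Subgroup.orderOf_dvd_natCard _ hzmem
          rw [Nat.card_zpowers, hu] at h3
          rcases (Nat.dvd_prime Nat.prime_three).1 h3 with e | e
          · exact absurd (Subtype.ext (Subtype.ext (orderOf_eq_one_iff.1 e))) hz1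
          · omega)
      have hle : (S : Subgroup G) ≤ M := fun s hs => by
        obtain ⟨i, hi⟩ := Subgroup.mem_zpowers_iff.1 (show u ∈ Subgroup.zpowers z from hgen ▸ Subgroup.mem_zpowers u)
        have : Commute s z := congrArg Subtype.val (Subgroup.mem_center_iff.1 hzc ⟨s, hs⟩)
        exact Subgroup.mem_centralizer_singleton_iff.2 (hi ▸ this.zpow_right i).eq
      exact (show 9 ∣ 3 ^ 3 by norm_num).trans (hS27 ▸ Subgroup.card_dvd_of_le hle)
    · set H := (S : Subgroup G) ⊓ M with hH
      have hlt : Subgroup.zpowers u < H := lt_of_le_of_ne (Subgroup.zpowers_le.2 ⟨huS, huM⟩) fun e =>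
        hzmem (e ▸ ⟨hzS, Subgroup.mem_centralizer_singleton_iff.2 hzu.eq⟩)
      have h1 := Subgroup.card_dvd_of_le (inf_le_left : H ≤ (S : Subgroup G))
      have h2 : 3 < Nat.card H := by
        by_contra hc
        exact hlt.ne (Subgroup.eq_of_le_of_card_ge hlt.le (by rw [Nat.card_zpowers, hu]; omega))
      rw [hS27] at h1
      obtain ⟨k, hk3, hk⟩ := (Nat.dvd_prime_pow Nat.prime_three).1 h1
      have h3 : 9 ∣ Nat.card H := by
        rw [hk] at h2 ⊢
        interval_cases k <;> revert h2 <;> norm_num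
      exact h3.trans (Subgroup.card_dvd_of_le inf_le_right)
  -- the Sylow subgroups of `M`
  set P' : Sylow 11 ↥M := P.subtype hPM with hP'
  have hMd : Nat.card M ∣ 47520 := hn ▸ M.card_subgroup_dvd_card
  have hnor : ∀ g : G, ∀ hg : g ∈ M, g ∈ N ↔ (⟨g, hg⟩ : M) ∈ Subgroup.normalizer ((P' : Subgroup M) : Set M) := by
    intro g hg
    rw [hP', Sylow.coe_subtype, Subgroup.mem_normalizer_iff, Subgroup.mem_normalizer_iff]
    constructor
    · intro h z; simpa [Subgroup.mem_subgroupOf] using h z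
    · intro h z
      constructor
      · intro hz; simpa [Subgroup.mem_subgroupOf] using (h ⟨z, hPM hz⟩).1 (by simpa [Subgroup.mem_subgroupOf] using hz)
      · intro hz
        have hzM : z ∈ M := by
          have := mul_mem (mul_mem (inv_mem hg) (hPM hz)) hg
          simpa [mul_assoc] using this
        simpa [Subgroup.mem_subgroupOf] using (h ⟨z, hzM⟩).2 (by simpa [Subgroup.mem_subgroupOf] using hz)
  have hcardM := (Subgroup.normalizer ((P' : Subgroup M) : Set M)).card_mul_index
  rw [show (Subgroup.normalizer ((P' : Subgroup M) : Set M)).index = Nat.card (Sylow 11 ↥M) from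
    P'.card_eq_index_normalizer.symm] at hcardM
  have hN165 : 165 ∣ Nat.card ↥(Subgroup.normalizer ((P' : Subgroup M) : Set M)) := by
    rw [← Subgroup.card_map_of_injective (K := Subgroup.normalizer ((P' : Subgroup M) : Set M))
      (f := M.subtype) Subtype.coe_injective]
    exact h165 _ ⟨⟨y, hPM hy⟩, (hnor y _).1 hyN, rfl⟩ ⟨⟨u, huM⟩, (hnor u _).1 (hCN huC), rfl⟩
      ⟨⟨w, hwM⟩, (hnor w _).1 hwN, rfl⟩
  have hmod : Nat.card (Sylow 11 ↥M) % 11 = 1 := by
    have := card_sylow_modEq_one 11 ↥M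
    rwa [Nat.ModEq, Nat.one_mod] at this
  have h1 : Nat.card (Sylow 11 ↥M) ≠ 1 := by
    intro e
    rw [e, mul_one] at hcardM
    have hle : M ≤ N := fun g hg => (hnor g hg).2 (by
      rw [Subgroup.eq_top_of_card_eq _ hcardM]; exact Subgroup.mem_top _)
    have := h9.trans (Subgroup.card_dvd_of_le hle)
    rw [hN] at this
    norm_num at this
  have hk : M.index < 33 := by
    have h12 : 12 ≤ Nat.card (Sylow 11 ↥M) := by omega
    have h165' := Nat.le_of_dvd Nat.card_pos hN165
    have hM' : 1980 ≤ Nat.card M := by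
      rw [← hcardM]
      exact (show 1980 = 165 * 12 by norm_num) ▸ Nat.mul_le_mul h165' h12
    have := M.card_mul_index
    rw [hn] at this
    by_contra hc
    have := Nat.mul_le_mul hM' (not_lt.1 hc)
    omega
  refine hu1 (M11Order91.eq_one_of_all_fixed hMtop (g := u) ?_)
  have : MulAction.fixedBy (G ⧸ M) u = Set.univ :=
    Set.eq_univ_of_forall fun a => smul_eq hP hPM hk hF hu huC a
  rw [this, Nat.card_univ, Subgroup.index]

end Action

section Orders

variable {G : Type u} [Group G] [Fintype G] [IsSimpleGroup G]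

theorem ne_11880 : Nat.card G ≠ 11880 := by
  intro hn
  have hG := not_comm_of_not_prime (G := G) (by rw [hn]; norm_num)
  obtain ⟨M, hM⟩ := ZStarCount.exists_isPModular 11 (by norm_num)
  obtain ⟨P⟩ : Nonempty (Sylow 11 G) := inferInstance
  obtain ⟨hP, e, hgood, hrel, hC⟩ := block_data hG hn (p := 11) (by norm_num) (by norm_num) (by norm_num)
    (fun _ e => decide (e = 2)) (by decide +kernel) P
  obtain rfl : e = 2 := by simpa using hgood
  obtain ⟨χ, Y, a, ε, D, hχ1, hY1, hχY, hYc, -, hYd, ha, hε, hsgn, hdmod, hDmod, heq, hreg, hy⟩ :=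
    SmallOrders91.two_block hM hP (by norm_num) hrel
  obtain ⟨θ, hθ⟩ : Y.Nonempty := Finset.card_pos.1 (by rw [hYc]; norm_num)
  have h1 := deg_sq_lt hχ1
  have h2 : deg θ ^ 2 ≤ Nat.card G := by simpa using sum_subset_le ({θ} : Finset (IrrCharacter G))
  rw [(hYd θ hθ).2, hn] at h2
  rw [hn] at h1
  have key : ∀ d ∈ List.range 109, ∀ D ∈ List.range 109, 11880 % d = 0 → 11880 % D = 0 → 2 ≤ d →
      (d % 11 = 1 → D = d + 1 → False) ∧ (d % 11 = 10 → D + 1 = d → d = 10) := by decide +kernel
  have hd : deg χ < 109 := by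
    by_contra h
    have := Nat.mul_le_mul (not_lt.1 h) (not_lt.1 h)
    omega
  have hD : D < 109 := by
    by_contra h
    have := Nat.mul_le_mul (not_lt.1 h) (not_lt.1 h)
    rw [pow_two] at h2
    omega
  obtain ⟨k1, k2⟩ := key _ (List.mem_range.2 hd) _ (List.mem_range.2 hD)
    (Nat.mod_eq_zero_of_dvd (hn ▸ deg_dvd χ)) (Nat.mod_eq_zero_of_dvd ((hYd θ hθ).2 ▸ hn ▸ deg_dvd θ))
    (two_le_deg hG hχ1)
  obtain ⟨hd10, hD9, ha', hε'⟩ : deg χ = 10 ∧ D = 9 ∧ a = -1 ∧ ε = -1 := by
    unfold BlockCount91.sgn at hsgn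
    rcases hdmod with hm | hm
    · rw [if_pos hm] at hsgn
      subst hsgn
      exfalso
      exact k1 hm (by rcases hε with rfl | rfl <;> omega)
    · rw [if_neg (by omega)] at hsgn
      subst hsgn
      have h10 : deg χ = 10 := k2 hm (by rcases hε with rfl | rfl <;> omega)
      rcases hε with rfl | rfl <;> omega
  subst ha' hε'
  obtain ⟨yy, hyP, hy1, t, ht, hinv⟩ := SmallOrders91.exists_inverting hP (by norm_num) hC (by
    rw [← Nat.card_congr (Subgroup.topEquiv (G := G)).toEquiv] at hn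
    have h := Subgroup.relIndex_dvd_card (Subgroup.centralizer ((P : Subgroup G) : Set G))
      (Subgroup.normalizer ((P : Subgroup G) : Set G))
    rwa [hrel] at h)
  obtain ⟨hχy, hout, hYy⟩ := hy hC yy hyP hy1
  have hy' : orderOf yy = 11 := orderOf_eq_prime (PGroupsBasic.pow_eq_one_of_card hP hyP) hy1
  obtain ⟨hor, hne⟩ := count_eq hP (by norm_num) hC hy' ht
  have h6 := ClassAlgebraVal.sum_irr_triple t t yy
  set c := Nat.card ↥(Subgroup.centralizer ({t} : Set G)) with hc
  rw [hor.resolve_left (hne hinv), (centralizer_conj hP hyP hy1).trans hC, hn] at h6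
  obtain ⟨z, hz, -⟩ := Simple720.exists_invol_value (Simple720.commutator_eq_top hG)
    (ClassAlgebraVal.irr_isCharacter χ) (apply_one χ) ht
  have hnot : ¬ 11 ∣ orderOf t := by rw [ht]; norm_num
  have hθt : ∀ η ∈ Y, (η : G → ℂ) t = (z : ℂ) - 1 := by
    intro η hη
    have := hreg η hη t hnot
    rw [hz] at this
    push_cast at this
    linear_combination -this
  have h1χ : oneChar G ∉ insert χ Y := by simp [hY1, Ne.symm hχ1]
  rw [← Finset.sum_subset (Finset.subset_univ (insert (oneChar G) (insert χ Y))) (fun η _ hη => by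
      simp only [Finset.mem_insert, not_or] at hη
      rw [hout η hη.1 hη.2.1 hη.2.2]; simp),
    Finset.sum_insert h1χ, Finset.sum_insert hχY,
    Finset.sum_congr rfl (s₁ := Y) (g := fun η => ((z : ℂ) - 1) * ((z : ℂ) - 1) / 9 *
      conj ((η : G → ℂ) yy)) fun η hη => by
        rw [hθt η hη, apply_one, (hYd η hη).2, hD9]; push_cast; ring,
    ← Finset.mul_sum, hYy, hχy, hz, apply_one χ, hd10] at h6
  simp only [show (oneChar G : G → ℂ) = fun _ => 1 from rfl, map_one, map_intCast] at h6
  push_cast at h6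
  field_simp at h6
  have h7 : ((12 * (z - 10) ^ 2 : ℤ) : ℂ) = (((c : ℤ) ^ 2 : ℤ) : ℂ) := by
    push_cast
    linear_combination (12 / 11880 : ℂ) * h6
  have h8 : (12 * (z - 10) ^ 2 : ℤ) = (c : ℤ) ^ 2 := by exact_mod_cast h7
  have h9 : 12 * (z - 10).natAbs ^ 2 = c ^ 2 := by
    have : ((12 * (z - 10).natAbs ^ 2 : ℕ) : ℤ) = ((c ^ 2 : ℕ) : ℤ) := by push_cast; rw [sq_abs, h8]
    exact_mod_cast this
  have hc0 : c ≠ 0 := hc ▸ Nat.card_pos.ne'
  have hw0 : (z - 10).natAbs ≠ 0 := fun e => by rw [e] at h9; exact hc0 (by simpa using h9.symm)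
  have h10 := congrArg (fun x => x.factorization 3) h9
  simp only [Nat.factorization_mul (show (12 : ℕ) ≠ 0 by norm_num) (pow_ne_zero 2 hw0), Nat.factorization_pow,
    Finsupp.add_apply, Finsupp.smul_apply, smul_eq_mul] at h10
  have h12 : (12 : ℕ).factorization 3 = 1 := by
    rw [show (12 : ℕ) = 3 ^ 1 * 4 by norm_num, Nat.factorization_mul (by norm_num) (by norm_num),
      Finsupp.add_apply, Nat.Prime.factorization_pow Nat.prime_three, Finsupp.single_eq_same,
      Nat.factorization_eq_zero_of_not_dvd (by norm_num : ¬ 3 ∣ 4)]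
  omega

/-- An involution inverting a Sylow subgroup of order `11` commutes with an element of order five
modulo it when five divides the order of the normalizer. -/
theorem five_dvd_centralizer {P : Sylow 11 G} (hP : Nat.card ↥(P : Subgroup G) = 11)
    (hC : Nat.card ↥(Subgroup.centralizer ((P : Subgroup G) : Set G)) = 11)
    (h5 : 5 ∣ Nat.card ↥(Subgroup.normalizer ((P : Subgroup G) : Set G))) {y t : G}
    (hy : y ∈ (P : Subgroup G)) (hy1 : y ≠ 1) (ht : orderOf t = 2) (hinv : t * y * t⁻¹ = y⁻¹) :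
    5 ∣ Nat.card ↥(Subgroup.centralizer ({t} : Set G)) := by
  obtain ⟨⟨w, hwN⟩, hw⟩ := exists_prime_orderOf_dvd_card' 5 h5
  rw [Subgroup.orderOf_mk] at hw
  have hyo : orderOf y = 11 := orderOf_eq_prime (PGroupsBasic.pow_eq_one_of_card hP hy) hy1
  have hgen : (P : Subgroup G) = Subgroup.zpowers y :=
    (Subgroup.eq_of_le_of_card_ge (Subgroup.zpowers_le.2 hy) (by rw [hP, Nat.card_zpowers, hyo])).symm
  have hcy : Subgroup.centralizer ({y} : Set G) = Subgroup.zpowers y := centralizer_of_order hP hC hyo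
  have ht' : t⁻¹ = t := inv_eq_of_mul_eq_one_left (by rw [← pow_two, ← ht, pow_orderOf_eq_one])
  have hinvP : ∀ z ∈ (P : Subgroup G), t * z * t⁻¹ = z⁻¹ := by
    intro z hz
    rw [hgen] at hz
    obtain ⟨i, rfl⟩ := Subgroup.mem_zpowers_iff.1 hz
    rw [← conj_zpow, hinv, inv_zpow]
  have hconj : ∀ z ∈ (P : Subgroup G), w * z * w⁻¹ ∈ (P : Subgroup G) := fun z hz =>
    (Subgroup.mem_normalizer_iff.1 hwN z).1 hz
  set q := t * w * t⁻¹ * w⁻¹ with hq
  have hqP : q ∈ (P : Subgroup G) := by
    rw [hgen, ← hcy, Subgroup.mem_centralizer_singleton_iff]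
    refine mul_inv_eq_iff_eq_mul.1 ?_
    have hz : w⁻¹ * y * w ∈ (P : Subgroup G) := by
      simpa using (Subgroup.mem_normalizer_iff.1 (inv_mem hwN) y).1 hy
    calc q * y * q⁻¹ = t * (w * (t⁻¹ * (w⁻¹ * y * w) * t) * w⁻¹) * t⁻¹ := by rw [hq]; group
      _ = t * (w * (t * (w⁻¹ * y * w) * t⁻¹) * w⁻¹) * t⁻¹ := by rw [ht']
      _ = t * (w * (w⁻¹ * y * w)⁻¹ * w⁻¹) * t⁻¹ := by rw [hinvP _ hz]
      _ = (t * y * t⁻¹)⁻¹ := by group
      _ = y := by rw [hinv, inv_inv]
  set v := q ^ 6 with hv
  have hvP : v ∈ (P : Subgroup G) := pow_mem hqP 6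
  have hvv : v * v = q := by
    rw [hv, ← pow_add, show 6 + 6 = 11 + 1 from rfl, pow_succ,
      PGroupsBasic.pow_eq_one_of_card hP hqP, one_mul]
  have hcomm : Commute (v * w) t := by
    refine (mul_inv_eq_iff_eq_mul.1 ?_).symm
    calc t * (v * w) * t⁻¹ = (t * v * t⁻¹) * (t * w * t⁻¹ * w⁻¹) * w := by group
      _ = v⁻¹ * (v * v) * w := by rw [hinvP v hvP, ← hq, hvv]
      _ = v * w := by group
  have hpows : ∀ k : ℕ, ∀ z ∈ (P : Subgroup G),
      (v * w) ^ k * z * ((v * w) ^ k)⁻¹ = w ^ k * z * (w ^ k)⁻¹ := by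
    intro k
    induction k with
    | zero => intro z _; simp
    | succ k ih =>
      intro z hz
      have h1 : v * w * z * (v * w)⁻¹ = w * z * w⁻¹ := by
        have hc : Commute v (w * z * w⁻¹) := by
          obtain ⟨i, hi⟩ := Subgroup.mem_zpowers_iff.1 (hgen ▸ hvP)
          obtain ⟨j, hj⟩ := Subgroup.mem_zpowers_iff.1 (hgen ▸ hconj z hz)
          rw [← hi, ← hj]
          exact ((Commute.refl y).zpow_zpow i j)
        calc v * w * z * (v * w)⁻¹ = v * (w * z * w⁻¹) * v⁻¹ := by group
          _ = w * z * w⁻¹ := by rw [hc.eq, mul_inv_cancel_right]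
      rw [pow_succ, pow_succ]
      calc _ = (v * w) ^ k * (v * w * z * (v * w)⁻¹) * ((v * w) ^ k)⁻¹ := by group
        _ = w ^ k * (w * z * w⁻¹) * (w ^ k)⁻¹ := by rw [h1, ih _ (hconj z hz)]
        _ = _ := by group
  refine dvd_trans ?_ (Subgroup.orderOf_dvd_natCard _ (Subgroup.mem_centralizer_singleton_iff.2 hcomm.eq))
  set k := orderOf (v * w) with hk
  have h1 := hpows k y hy
  rw [hk, pow_orderOf_eq_one, one_mul, inv_one, mul_one, ← hk] at h1
  have h2 : w ^ k ∈ Subgroup.centralizer ({y} : Set G) := by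
    rw [Subgroup.mem_centralizer_singleton_iff]
    exact mul_inv_eq_iff_eq_mul.1 h1.symm
  rw [hcy, ← hgen] at h2
  have h3 : w ^ k = 1 := by
    have a1 : (w ^ k) ^ 5 = 1 := by rw [← pow_mul, mul_comm, pow_mul, ← hw, pow_orderOf_eq_one, one_pow]
    have a2 := pow_gcd_eq_one.mpr ⟨a1, PGroupsBasic.pow_eq_one_of_card hP h2⟩
    rwa [show Nat.gcd 5 11 = 1 from rfl, pow_one] at a2
  exact hw ▸ orderOf_dvd_of_pow_eq_one h3

set_option maxHeartbeats 4000000 in
/-- No simple group has order `15840`: the counting equation at an inverting involution fails. -/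
theorem ne_15840 : Nat.card G ≠ 15840 := by
  intro hn
  have hG := not_comm_of_not_prime (G := G) (by rw [hn]; norm_num)
  obtain ⟨M, hM⟩ := ZStarCount.exists_isPModular 11 (by norm_num)
  obtain ⟨P⟩ : Nonempty (Sylow 11 G) := inferInstance
  obtain ⟨hP, e, hgood, hrel, hC⟩ := block_data hG hn (p := 11) (by norm_num) (by norm_num) (by norm_num)
    (fun _ e => decide (e = 10)) (by decide +kernel) P
  obtain rfl : e = 10 := by simpa using hgood
  obtain ⟨y, hy, hy1, t, ht, hinv⟩ := SmallOrders91.exists_inverting hP (by norm_num) hC (by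
    have h := Subgroup.relIndex_dvd_card (Subgroup.centralizer ((P : Subgroup G) : Set G))
      (Subgroup.normalizer ((P : Subgroup G) : Set G))
    rw [hrel] at h
    omega)
  obtain ⟨h8, hp11, hlt, hdvd⟩ := SmallOrders91.centralizer_data hG (by norm_num) hP hC (by rw [hn]; norm_num) ht
  rw [hn] at hlt hdvd
  have h5 : 5 ∣ Nat.card ↥(Subgroup.centralizer ({t} : Set G)) := five_dvd_centralizer hP hC (by
    have h := Subgroup.relIndex_dvd_card (Subgroup.centralizer ((P : Subgroup G) : Set G))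
      (Subgroup.normalizer ((P : Subgroup G) : Set G))
    rw [hrel] at h
    omega) hy hy1 ht hinv
  obtain ⟨j, hj⟩ : 40 ∣ Nat.card ↥(Subgroup.centralizer ({t} : Set G)) :=
    (show Nat.Coprime 8 5 by norm_num).mul_dvd_of_dvd_of_dvd h8 h5
  have kills : ∀ j ∈ List.range 397, 15840 % (40 * j) = 0 → 40 * j % 11 ≠ 0 → 40 * j < 15840 →
      killB 15840 11 1440 (40 * j) = true := by decide +kernel
  exact false_of_killB hG hM hP hn (by norm_num) hrel hC hy hy1 ht hinv hj (kills j
    (List.mem_range.2 (by omega)) (Nat.mod_eq_zero_of_dvd (hj ▸ hdvd))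
    (fun h => hp11 (hj ▸ Nat.dvd_of_mod_eq_zero h)) (hj ▸ hlt))

/-- Orders at which every possibility has a nontrivial centraliser of the Sylow subgroup, contradicted
by a small degree in the principal block. -/
theorem ne_of_small {n : ℕ} (hn1 : ¬ n.Prime) (h0 : n % 11 = 0) (h1 : n / 11 % 11 ≠ 0)
    (hall : ((cand n 11 (n / 11)).all fun d => !iOK n [] d ||
      (eList n 11 d).all fun e => decide (1 < e) && decide (e < 11) && decide (e * (n / d / e) = n / d) &&
        ((decide (n / d / e ≠ 11) && smallB n 11 e) ||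
          (decide (n / d / e = 11) && (fun _ _ => false : ℕ → ℕ → Bool) d e))) = true) :
    Nat.card G ≠ n := by
  intro hn
  have hG := not_comm_of_not_prime (G := G) (hn ▸ hn1)
  obtain ⟨P⟩ : Nonempty (Sylow 11 G) := inferInstance
  obtain ⟨-, e, hgood, -, -⟩ := block_data hG hn (p := 11) (by norm_num) h0 h1 (fun _ _ => false) hall P
  exact Bool.false_ne_true hgood

theorem ne_47520 : Nat.card G ≠ 47520 := by
  intro hn
  have hG := not_comm_of_not_prime (G := G) (by rw [hn]; norm_num)
  obtain ⟨M, hM⟩ := ZStarCount.exists_isPModular 11 (by norm_num)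
  obtain ⟨P⟩ : Nonempty (Sylow 11 G) := inferInstance
  have hP : Nat.card ↥(P : Subgroup G) = 11 := sylow_card_of_once (by rw [hn]) (by rw [hn]; norm_num) P
  have hd := mem_cand hG (p := 11) (v := 1) (m := 4320) Nat.one_pos (by rw [hn]; norm_num) (by norm_num)
  obtain ⟨e, he, hC, hN⟩ := exists_eList hG P hP
  have hi := iOK_index hG [11, 5] _ (normalizer_ne_top hG (by rw [hn]; norm_num) P)
  rw [show (Subgroup.normalizer ((P : Subgroup G) : Set G)).index = Nat.card (Sylow 11 G) from
    P.card_eq_index_normalizer.symm] at hi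
  rw [hn] at hd he hC hN hi
  have key : ∀ d ∈ cand 47520 11 4320, iOK 47520 [11, 5] d = true → ∀ e ∈ eList 47520 11 d,
      e * (47520 / d / e) = 47520 / d ∧ ((e = 2 ∧ 47520 / d / e ≠ 11) ∨
        (47520 / d = 330 ∧ (47520 / d / e = 33 ∨ 47520 / d / e = 66))) := by decide +kernel
  obtain ⟨hmul, hcases⟩ := key _ hd hi e he
  rcases hcases with ⟨rfl, h11⟩ | ⟨h330, hc⟩
  · exact h11 (hC.trans (centralizer_eq_of_smallB hG hM hP hn (by norm_num) 2
      (SmallOrders91.relIndex_eq (P := P) (e := 2) (by rw [← hC, ← hN, hmul])) (by norm_num) (by norm_num)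
      (by decide +kernel)))
  · exact false_of_normalizer hG hn hP (hN.symm.trans h330)
      (hc.imp hC.symm.trans hC.symm.trans)

end Orders

/-- The orders of the nonabelian simple groups of order dividing `95040` and divisible by `11`. -/
theorem order_mem {T : Type u} [Group T] [Finite T] [IsSimpleGroup T] (h11 : 11 ∣ Nat.card T)
    (hd : Nat.card T ∣ 95040) (hlt : Nat.card T ≠ 11) : Nat.card T ∈ [660, 7920, 95040] := by
  haveI := Fintype.ofFinite T
  have hnp : ¬ (Nat.card T).Prime := fun h =>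
    hlt ((Nat.prime_dvd_prime_iff_eq (by norm_num : Nat.Prime 11) h).1 h11).symm
  have hG := not_comm_of_not_prime (G := T) hnp
  rcases lt_or_ge (Nat.card T) 6000 with h | h
  · have := SimpleRangeLow81.card_lt_6000 hG h
    simp only [List.mem_cons, List.not_mem_nil, or_false] at this ⊢
    rcases this with e | e | e | e | e | e | e | e | e | e | e <;> omega
  · obtain ⟨k, hk⟩ := hd
    have hk16 : k ≤ 15 := by
      by_contra hc
      have := Nat.mul_le_mul h (not_le.1 hc : 16 ≤ k)
      omega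
    have hk0 : 0 < k := Nat.pos_of_ne_zero fun e => by rw [e, mul_zero] at hk; omega
    have e10560 : Nat.card T ≠ 10560 := SimpleSearch.card_ne_of_kill2 hG [11] (by decide +kernel)
    have e6336 : Nat.card T ≠ 6336 := ne_of_small (by norm_num) (by norm_num) (by norm_num) (by decide +kernel)
    have e9504 : Nat.card T ≠ 9504 := ne_of_small (by norm_num) (by norm_num) (by norm_num) (by decide +kernel)
    have e19008 : Nat.card T ≠ 19008 := ne_of_small (by norm_num) (by norm_num) (by norm_num) (by decide +kernel)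
    have e23760 : Nat.card T ≠ 23760 := ne_of_small (by norm_num) (by norm_num) (by norm_num) (by decide +kernel)
    have e31680 : Nat.card T ≠ 31680 := ne_of_small (by norm_num) (by norm_num) (by norm_num) (by decide +kernel)
    have e11880 := ne_11880 (G := T)
    have e15840 := ne_15840 (G := T)
    have e47520 := ne_47520 (G := T)
    simp only [List.mem_cons, List.not_mem_nil, or_false]
    interval_cases k <;> omega

end Cfsg.Agent.SimpleEleven81
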