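import Cfsg.Agent.Lib.SimpleOrder
import Cfsg.Agent.Lib.SmallGroupBasic

/-!
Simple groups of order `p (p ^ 2 - 1) / 2` with `p + 1` Sylow `p`-subgroups, for a concrete prime
`p`: they are all isomorphic to one explicit permutation group on the projective line.
-/

namespace Cfsg.Agent.SimplePSLOrder

open SimpleOrder SmallGroupBasic

variable {p : ℕ} [hp : Fact p.Prime]

/-- The affine map `t ↦ s * t + b` fixing `none`. -/
def aff (s b : ZMod p) : Option (ZMod p) → Option (ZMod p) := Option.map fun t => s * t + b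

/-- The inversion `t ↦ -1/t`. -/
def w0 : Option (ZMod p) → Option (ZMod p)
  | none => some 0
  | some t => if t = 0 then none else some (-(t ^ (p - 2)))

/-- Candidate for an element interchanging `none` and `some 0`. -/
def cw (g : ZMod p) (m k : ℕ) (c c' : ZMod p) : Option (ZMod p) → Option (ZMod p)
  | none => some 0
  | some t => if t = 0 then none else
      match (List.range m).find? (fun i => decide ((g * g) ^ i = t)) with
      | some i => some (c * (g * g) ^ (k * i))
      | none =>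
        match (List.range m).find? (fun i => decide (g * (g * g) ^ i = t)) with
        | some i => some (c' * (g * g) ^ (k * i))
        | none => none

/-- Necessary conditions on an element interchanging `none` and `some 0`. -/
def candOK (g : ZMod p) (m : ℕ) (w : Option (ZMod p) → Option (ZMod p)) : Prop :=
  (∃ i < m, ∀ x, w (w x) = aff ((g * g) ^ i) 0 x) ∧
    ∀ a : ZMod p, a ≠ 0 → ∃ pre : ZMod p, w (aff 1 a (w (some pre))) = none ∧
      ∃ i < m, ∀ x, w (aff 1 a (w (aff 1 pre x))) =
        aff 1 ((w (some a)).getD 0) (w (aff ((g * g) ^ i) 0 x))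

instance candOKDec (g : ZMod p) (m : ℕ) (w : Option (ZMod p) → Option (ZMod p)) :
    Decidable (candOK g m w) := by unfold candOK; infer_instance

/-- The model: generated by the allowed affine maps and the inversion. -/
def model (p m : ℕ) [Fact p.Prime] : Subgroup (Equiv.Perm (Option (ZMod p))) :=
  Subgroup.closure {σ | (∃ s b : ZMod p, s ^ m = 1 ∧ ⇑σ = aff s b) ∨ ⇑σ = w0}

/-- The finite facts needed about `p`, all decidable. -/
structure Data (p m : ℕ) [Fact p.Prime] (g : ZMod p) (exc : Bool) : Prop where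
  hm : 2 * m = p - 1
  hg : g ≠ 0
  hroots : Fintype.card {s : ZMod p // s ^ m = 1} = m
  hpow : ∀ s : ZMod p, s ^ m = 1 → ∃ i < m, s = (g * g) ^ i
  hgg : (g * g) ^ m = 1
  hcover : ∀ t : ZMod p, t ≠ 0 → ∃ i < m, (g * g) ^ i = t ∨ g * (g * g) ^ i = t
  hne : g * g ≠ 1
  hclass : ∀ k < m, ∀ c' : ZMod p, ∀ c ∈ [(1 : ZMod p), g], candOK g m (cw g m k c c') →
    (∃ i < m, ∀ x, cw g m k c c' x = aff ((g * g) ^ i) 0 (w0 x)) ∨ (exc = true ∧ k = 1)

variable {G : Type*} [Group G] [Finite G]

/-- Coordinates on the Sylow `p`-subgroups. -/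
structure Coord (p m : ℕ) [Fact p.Prime] (G : Type*) [Group G] where
  φ : G →* Equiv.Perm (Option (ZMod p))
  inj : Function.Injective φ
  affine : ∀ g : G, φ g none = none → ∃ s b : ZMod p, s ^ m = 1 ∧ ⇑(φ g) = aff s b
  affine_mem : ∀ s b : ZMod p, s ^ m = 1 → ∃ g : G, ⇑(φ g) = aff s b
  flip : ∃ g : G, φ g none = some 0 ∧ φ g (some 0) = none

theorem aff_aff (s b s' b' : ZMod p) (x : Option (ZMod p)) :
    aff s b (aff s' b' x) = aff (s * s') (s * b' + b) x := by
  rcases x with _ | t
  · rfl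
  · simp [aff]; ring

theorem aff_one_zero (x : Option (ZMod p)) : aff 1 0 x = x := by
  rcases x with _ | t <;> simp [aff]

theorem exists_coord [IsSimpleGroup G] (hG : ¬ IsMulCommutative G) {m : ℕ}
    (hm : 2 * m = p - 1) (hroots : Fintype.card {s : ZMod p // s ^ m = 1} = m)
    (hcard : Nat.card G = p * m * (p + 1)) (hsyl : Nat.card (Sylow p G) = p + 1) :
    Nonempty (Coord p m G) := by
  classical
  have hp2 : 2 ≤ p := hp.out.two_le
  have hm0 : 0 < m := by
    rcases Nat.eq_zero_or_pos m with rfl | h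
    · rw [mul_zero, zero_mul] at hcard
      exact absurd hcard (Nat.card_pos).ne'
    · exact h
  have hnd : ¬ p ∣ m * (p + 1) := by
    intro h
    rcases hp.out.dvd_mul.1 h with h' | h'
    · exact absurd (Nat.le_of_dvd hm0 h') (by omega)
    · exact hp.out.not_dvd_one ((Nat.dvd_add_right dvd_rfl).1 h')
  have hn : Nat.card G = p ^ 1 * (m * (p + 1)) := by rw [pow_one, hcard, mul_assoc]
  have hPc : ∀ Q : Sylow p G, Nat.card ↥(Q : Subgroup G) = p := fun Q => by
    have := sylow_card_of_eq hn hnd Q; rwa [pow_one] at this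
  have hNc : ∀ Q : Sylow p G,
      Nat.card ↥(Subgroup.normalizer ((Q : Subgroup G) : Set G)) = p * m := fun Q => by
    have hmul := (Subgroup.normalizer ((Q : Subgroup G) : Set G)).card_mul_index
    have hidx : (Subgroup.normalizer ((Q : Subgroup G) : Set G)).index = p + 1 :=
      Q.card_eq_index_normalizer.symm.trans hsyl
    rw [hidx, hcard] at hmul
    exact Nat.eq_of_mul_eq_mul_right (by omega) hmul
  have hd : p ∣ Nat.card G := ⟨m * (p + 1), by rw [hcard, mul_assoc]⟩
  obtain ⟨P⟩ : Nonempty (Sylow p G) := inferInstance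
  obtain ⟨Q₀, hQ₀⟩ : ∃ Q : Sylow p G, Q ≠ P := by
    have : Nontrivial (Sylow p G) := Finite.one_lt_card_iff_nontrivial.1 (by omega)
    exact exists_ne P
  obtain ⟨⟨x, hxP⟩, hx1⟩ : ∃ x : ↥(P : Subgroup G), x ≠ 1 := by
    have : Nontrivial ↥(P : Subgroup G) := Finite.one_lt_card_iff_nontrivial.1 (by rw [hPc]; omega)
    exact exists_ne 1
  have hx1' : x ≠ 1 := fun e => hx1 (Subtype.ext e)
  have hxord : orderOf x = p := orderOf_of_mem (hPc P) hxP hx1'
  have hxz : Subgroup.zpowers x = (P : Subgroup G) := eq_zpowers_of_mem (hPc P) hxP hx1'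
  have hfix : ∀ y ∈ (P : Subgroup G), y • P = P := fun y hy =>
    Sylow.smul_eq_iff_mem_normalizer.2 (Subgroup.le_normalizer hy)
  have hfree : ∀ y ∈ (P : Subgroup G), ∀ Q : Sylow p G, Q ≠ P → y • Q = Q → y = 1 := by
    intro y hy Q hQ hyQ
    by_contra hy1
    have h1 : y ∈ (P : Subgroup G) ⊓ Subgroup.normalizer ((Q : Subgroup G) : Set G) :=
      ⟨hy, Sylow.smul_eq_iff_mem_normalizer.1 hyQ⟩
    have h2 : y ∈ (Q : Subgroup G) := ((P.2.inf_normalizer_sylow Q).le h1).2
    exact hQ (Sylow.ext ((eq_zpowers_of_mem (hPc Q) h2 hy1).symm.trans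
      (eq_zpowers_of_mem (hPc P) hy hy1)))
  have hxadd : ∀ a b : ZMod p, x ^ (a + b).val = x ^ a.val * x ^ b.val := fun a b => by
    rw [← pow_add, pow_eq_pow_iff_modEq, hxord, ZMod.val_add]
    exact Nat.mod_modEq _ _
  let f : Option (ZMod p) → Sylow p G := fun o => o.elim P fun t => x ^ t.val • Q₀
  have hne : ∀ y ∈ (P : Subgroup G), y • Q₀ ≠ P := fun y hy e => hQ₀ (by
    rw [← hfix y⁻¹ (inv_mem hy)]
    exact eq_inv_smul_iff.2 e)
  have hfi : Function.Injective f := by
    rintro (_ | a) (_ | b) e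
    · rfl
    · exact absurd e.symm (hne _ (pow_mem hxP _))
    · exact absurd e (hne _ (pow_mem hxP _))
    · have h1 := hfree ((x ^ b.val)⁻¹ * x ^ a.val) (mul_mem (inv_mem (pow_mem hxP _)) (pow_mem hxP _))
        Q₀ hQ₀ (by rw [mul_smul]; exact inv_smul_eq_iff.2 e)
      rw [inv_mul_eq_one, pow_eq_pow_iff_modEq, hxord] at h1
      have : b.val = a.val := Nat.ModEq.eq_of_lt_of_lt h1 (ZMod.val_lt b) (ZMod.val_lt a)
      rw [ZMod.val_injective p this]
  have hfb : Function.Bijective f := (Nat.bijective_iff_injective_and_card f).2 ⟨hfi, by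
    rw [hsyl, Nat.card_eq_fintype_card, Fintype.card_option, ZMod.card]⟩
  let e : Option (ZMod p) ≃ Sylow p G := Equiv.ofBijective f hfb
  let φ : G →* Equiv.Perm (Option (ZMod p)) :=
    e.symm.permCongrHom.toMonoidHom.comp (MulAction.toPermHom G (Sylow p G))
  have hφ : ∀ g o, φ g o = e.symm (g • e o) := fun g o => rfl
  have hinj : Function.Injective φ := by
    show Function.Injective (⇑e.symm.permCongrHom ∘ ⇑(MulAction.toPermHom G (Sylow p G)))
    refine Function.Injective.comp e.symm.permCongrHom.injective ?_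
    rw [← MonoidHom.ker_eq_bot_iff]
    refine (eq_bot_or_top (MonoidHom.normal_ker _)).resolve_right fun ht => ?_
    refine normalizer_ne_top hG hd P (top_le_iff.1 fun g _ => ?_)
    have hg : g ∈ (MulAction.toPermHom G (Sylow p G)).ker := ht ▸ Subgroup.mem_top g
    exact Sylow.smul_eq_iff_mem_normalizer.1 (Equiv.ext_iff.1 (MonoidHom.mem_ker.1 hg) P)
  -- the point stabilizer consists of affine maps
  have haff : ∀ g : G, φ g none = none → ∃ s b : ZMod p, s ^ m = 1 ∧ ⇑(φ g) = aff s b := by
    intro g hg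
    rw [hφ, Equiv.symm_apply_eq] at hg
    have hgN : g ∈ Subgroup.normalizer ((P : Subgroup G) : Set G) :=
      Sylow.smul_eq_iff_mem_normalizer.1 hg
    have hmem : g * x * g⁻¹ ∈ Subgroup.zpowers x := by
      rw [hxz]; exact (Subgroup.mem_normalizer_iff.1 hgN x).1 hxP
    obtain ⟨k, hk⟩ := (isOfFinOrder_of_finite x).mem_powers_iff_mem_zpowers.2 hmem
    have hk' : g * x * g⁻¹ = x ^ (k : ZMod p).val := by
      rw [ZMod.val_natCast, ← hxord, pow_mod_orderOf]; exact hk.symm
    have hpowg : ∀ t : ZMod p, g * x ^ t.val * g⁻¹ = x ^ ((k : ZMod p) * t).val := fun t => by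
      rw [← conj_pow, hk', ← pow_mul, pow_eq_pow_iff_modEq, hxord, ZMod.val_mul]
      exact (Nat.mod_modEq _ _).symm
    refine ⟨k, (e.symm (g • Q₀)).getD 0, ?_, ?_⟩
    · -- the multiplier is an `m`-th root of unity
      obtain ⟨d, hd1, hd2, hd3, ⟨c, hc⟩⟩ := exists_card_normalizer_eq hG P (hPc P)
      rw [hNc, hc] at hd3
      have hcd : d * c = m := Nat.eq_of_mul_eq_mul_left hp.out.pos (by rw [← hd3]; ring)
      set C := Subgroup.centralizer ((P : Subgroup G) : Set G)
      set N := Subgroup.normalizer ((P : Subgroup G) : Set G)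
      have hCN : C ≤ N := Subgroup.centralizer_le_normalizer _
      have hnor : (C.subgroupOf N).Normal := by
        rw [← Subgroup.normalizerMonoidHom_ker]; infer_instance
      have hidx : (C.subgroupOf N).index = d := by
        have hh := (C.subgroupOf N).card_mul_index
        rw [Nat.card_congr (Subgroup.subgroupOfEquivOfLe hCN).toEquiv, hc, hNc] at hh
        have hc0 : 0 < p * c := by rw [← hc]; exact Nat.card_pos
        exact Nat.eq_of_mul_eq_mul_left hc0 (by rw [hh, ← hcd]; ring)
      have hgd : g ^ d ∈ C := by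
        have := (C.subgroupOf N).pow_index_mem (⟨g, hgN⟩ : ↥N)
        rwa [hidx] at this
      have hgm : g ^ m ∈ C := by rw [← hcd, pow_mul]; exact pow_mem hgd c
      have hit : ∀ j : ℕ, g ^ j * x * (g ^ j)⁻¹ = x ^ ((k : ZMod p) ^ j).val := by
        intro j
        induction j with
        | zero => simp [ZMod.val_one]
        | succ j ih =>
          rw [pow_succ' g, pow_succ' (k : ZMod p), ← hpowg, ← ih]
          group
      have h1 := hit m
      rw [show g ^ m * x * (g ^ m)⁻¹ = x by
        rw [← Subgroup.mem_centralizer_iff.1 hgm x hxP, mul_inv_cancel_right]] at h1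
      have h2 : x ^ (1 : ZMod p).val = x ^ ((k : ZMod p) ^ m).val := by
        rw [ZMod.val_one, pow_one]; exact h1
      rw [pow_eq_pow_iff_modEq, hxord] at h2
      exact (ZMod.val_injective p (Nat.ModEq.eq_of_lt_of_lt h2 (ZMod.val_lt _) (ZMod.val_lt _))).symm
    · funext o
      rcases o with _ | t
      · rw [hφ, Equiv.symm_apply_eq]; exact hg
      · obtain ⟨b, hb⟩ : ∃ b, e.symm (g • Q₀) = some b := by
          rcases ho : e.symm (g • Q₀) with _ | b
          · exfalso
            rw [Equiv.symm_apply_eq] at ho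
            exact hQ₀ ((smul_left_cancel g (ho.trans hg.symm)))
          · exact ⟨b, rfl⟩
        rw [hφ, Equiv.symm_apply_eq, hb]
        rw [Equiv.symm_apply_eq] at hb
        show g • x ^ t.val • Q₀ = x ^ ((k : ZMod p) * t + b).val • Q₀
        rw [hxadd, mul_smul (x ^ ((k : ZMod p) * t).val)]
        calc g • x ^ t.val • Q₀ = (g * x ^ t.val * g⁻¹) • g • Q₀ := by
              rw [smul_smul, smul_smul, inv_mul_cancel_right]
          _ = x ^ ((k : ZMod p) * t).val • x ^ b.val • Q₀ := by rw [hpowg, hb]; rfl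
  -- every allowed affine map occurs
  have hmem : ∀ s b : ZMod p, s ^ m = 1 → ∃ g : G, ⇑(φ g) = aff s b := by
    have hN : ∀ g : ↥(Subgroup.normalizer ((P : Subgroup G) : Set G)), φ g none = none := fun g => by
      rw [hφ, Equiv.symm_apply_eq]; exact Sylow.smul_eq_iff_mem_normalizer.2 g.2
    choose S B hS hSB using fun g : ↥(Subgroup.normalizer ((P : Subgroup G) : Set G)) =>
      haff g (hN g)
    let F : ↥(Subgroup.normalizer ((P : Subgroup G) : Set G)) →
        {s : ZMod p // s ^ m = 1} × ZMod p := fun g => (⟨S g, hS g⟩, B g)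
    have hFi : Function.Injective F := by
      intro a b hab
      simp only [F, Prod.mk.injEq, Subtype.mk.injEq] at hab
      exact Subtype.ext (hinj (Equiv.coe_fn_injective (by
        show ⇑(φ a) = ⇑(φ b)
        rw [hSB a, hSB b, hab.1, hab.2])))
    have hFb : Function.Bijective F := (Nat.bijective_iff_injective_and_card F).2 ⟨hFi, by
      rw [hNc, Nat.card_prod, Nat.card_eq_fintype_card, Nat.card_eq_fintype_card, hroots, ZMod.card,
        mul_comm]⟩
    intro s b hs
    obtain ⟨g, hg⟩ := hFb.2 (⟨s, hs⟩, b)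
    simp only [F, Prod.mk.injEq, Subtype.mk.injEq] at hg
    exact ⟨g, by rw [hSB g, hg.1, hg.2]⟩
  refine ⟨⟨φ, hinj, haff, hmem, ?_⟩⟩
  obtain ⟨h, hh⟩ := MulAction.exists_smul_eq G P Q₀
  have hR : h⁻¹ • P ≠ P := fun e => hQ₀ (by
    rw [← hh]; exact (eq_inv_smul_iff.1 e.symm).symm ▸ rfl)
  obtain ⟨t, ht⟩ : ∃ t, e (some t) = h⁻¹ • P := by
    rcases ho : e.symm (h⁻¹ • P) with _ | t
    · rw [Equiv.symm_apply_eq] at ho
      exact absurd ho hR
    · exact ⟨t, ((Equiv.symm_apply_eq _).1 ho).symm⟩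
  have he0 : e (some 0) = Q₀ := by
    show x ^ (0 : ZMod p).val • Q₀ = Q₀
    rw [ZMod.val_zero, pow_zero, one_smul]
  refine ⟨h * x ^ t.val, ?_, ?_⟩
  · rw [hφ, Equiv.symm_apply_eq, he0, mul_smul]
    show h • x ^ t.val • P = Q₀
    rw [hfix _ (pow_mem hxP _), hh]
  · rw [hφ, Equiv.symm_apply_eq, he0, mul_smul]
    show h • e (some t) = P
    rw [ht, smul_inv_smul]

/-- All such groups are isomorphic to the model. -/
theorem exists_equiv_model {m : ℕ} {g : ZMod p} {exc : Bool}
    (D : Data p m g exc) (C : Coord p m G)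
    (hexc : exc = true → ∀ (a d : G), C.φ a none = some 0 → C.φ d none = none →
      C.φ d (some 0) = some 0 → d ≠ 1 → ¬ Commute a d) :
    Nonempty (G ≃* model p m) := by
  classical
  obtain ⟨φ, hinj, haff, hmem, w, hw1, hw2⟩ := C
  have hr : ∀ i : ℕ, ((g * g) ^ i) ^ m = 1 := fun i => by
    rw [← pow_mul, mul_comm i m, pow_mul, D.hgg, one_pow]
  have hdiag : ∀ (a : G), φ a none = none → φ a (some 0) = some 0 →
      ∃ i < m, ⇑(φ a) = aff ((g * g) ^ i) 0 := by
    intro a ha ha0
    obtain ⟨s, b, hs, he⟩ := haff a ha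
    obtain ⟨i, hi, rfl⟩ := D.hpow s hs
    rw [he] at ha0
    simp [aff] at ha0
    exact ⟨i, hi, ha0 ▸ he⟩
  -- normalise the value at `1`
  obtain ⟨v, c, hv1, hv2, hv3, hc⟩ : ∃ (v : G) (c : ZMod p), φ v none = some 0 ∧
      φ v (some 0) = none ∧ φ v (some 1) = some c ∧ c ∈ [(1 : ZMod p), g] := by
    obtain ⟨c0, hc0, hwc⟩ : ∃ c : ZMod p, c ≠ 0 ∧ φ w (some 1) = some c := by
      rcases h : φ w (some 1) with _ | c
      · exact absurd ((φ w).injective (h.trans hw2.symm)) (by simp)
      · refine ⟨c, ?_, rfl⟩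
        rintro rfl
        exact absurd ((φ w).injective (h.trans hw1.symm)) (by simp)
    obtain ⟨i, hi, hci⟩ := D.hcover c0 hc0
    obtain ⟨d, hd⟩ := hmem ((g * g) ^ (m - i)) 0 (hr _)
    have hdd : (g * g) ^ (m - i) * (g * g) ^ i = 1 := by
      rw [← pow_add, Nat.sub_add_cancel hi.le, D.hgg]
    refine ⟨d * w, (g * g) ^ (m - i) * c0, ?_, ?_, ?_, ?_⟩
    · rw [map_mul, Equiv.Perm.mul_apply, hw1, hd]; simp [aff]
    · rw [map_mul, Equiv.Perm.mul_apply, hw2, hd]; simp [aff]
    · rw [map_mul, Equiv.Perm.mul_apply, hwc, hd]; simp [aff]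
    · rcases hci with rfl | rfl
      · simp [hdd]
      · rw [mul_left_comm, hdd, mul_one]; simp
  set σ := φ v with hσ
  have hinv1 : σ⁻¹ none = some 0 := by rw [Equiv.Perm.inv_def, Equiv.symm_apply_eq, hv2]
  have hinv2 : σ⁻¹ (some 0) = none := by rw [Equiv.Perm.inv_def, Equiv.symm_apply_eq, hv1]
  obtain ⟨μ, hμ⟩ := hmem (g * g) 0 D.hgg
  obtain ⟨k, hk, hk'⟩ : ∃ k < m, ∀ o, σ (aff (g * g) 0 o) = aff ((g * g) ^ k) 0 (σ o) := by
    have h1 : φ (v * μ * v⁻¹) none = none := by
      rw [map_mul, map_mul, map_inv, ← hσ]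
      show σ (φ μ (σ⁻¹ none)) = none
      rw [hinv1, hμ]; simp [aff, hv2]
    have h2 : φ (v * μ * v⁻¹) (some 0) = some 0 := by
      rw [map_mul, map_mul, map_inv, ← hσ]
      show σ (φ μ (σ⁻¹ (some 0))) = some 0
      rw [hinv2, hμ]; simp [aff, hv1]
    obtain ⟨k, hk, he⟩ := hdiag _ h1 h2
    refine ⟨k, hk, fun o => ?_⟩
    rw [← he, map_mul, map_mul, map_inv, ← hσ, ← hμ]
    simp
  have hiter : ∀ (i : ℕ) (t : ZMod p),
      σ (some ((g * g) ^ i * t)) = aff (((g * g) ^ k) ^ i) 0 (σ (some t)) := by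
    intro i t
    induction i with
    | zero => rw [pow_zero, one_mul, pow_zero, aff_one_zero]
    | succ i ih =>
      have := hk' (some ((g * g) ^ i * t))
      rw [show aff (g * g) 0 (some ((g * g) ^ i * t)) = some ((g * g) ^ (i + 1) * t) by
        simp [aff]; ring] at this
      rw [this, ih, aff_aff, mul_zero, add_zero, ← pow_succ']
  obtain ⟨c', hv4⟩ : ∃ c', σ (some g) = some c' := by
    rcases h : σ (some g) with _ | t
    · have := σ.injective (h.trans hv2.symm)
      simp at this
      exact absurd this D.hg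
    · exact ⟨t, rfl⟩
  have hcw : ∀ x, σ x = cw g m k c c' x := by
    rintro (_ | t)
    · exact hv1
    · by_cases ht : t = 0
      · subst ht; simp [cw, hv2]
      · simp only [cw, if_neg ht]
        split
        · next i hi =>
          have := List.find?_some hi
          rw [decide_eq_true_eq] at this
          rw [← this, ← mul_one ((g * g) ^ i), hiter, hv3]
          simp [aff, pow_mul, mul_comm]
        · next hnone =>
          split
          · next i hi =>
            have := List.find?_some hi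
            rw [decide_eq_true_eq] at this
            rw [← this, mul_comm g, hiter, hv4]
            simp [aff, pow_mul, mul_comm]
          · next hnone' =>
            exfalso
            rw [List.find?_eq_none] at hnone hnone'
            obtain ⟨i, hi, hi'⟩ := D.hcover t ht
            rcases hi' with h | h
            · exact hnone i (List.mem_range.2 hi) (by simp [h])
            · exact hnone' i (List.mem_range.2 hi) (by simp [h])
  have hOK : candOK g m (cw g m k c c') := by
    refine ⟨?_, fun a ha => ?_⟩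
    · obtain ⟨i, hi, he⟩ := hdiag (v * v)
        (by rw [map_mul, Equiv.Perm.mul_apply, ← hσ, hv1, hv2])
        (by rw [map_mul, Equiv.Perm.mul_apply, ← hσ, hv2, hv1])
      refine ⟨i, hi, fun x => ?_⟩
      rw [← hcw, ← hcw, ← he, map_mul, Equiv.Perm.mul_apply]
    · obtain ⟨pre, hpre⟩ : ∃ pre, σ (some pre) = some (-a) := by
        rcases h : σ⁻¹ (some (-a)) with _ | t
        · rw [Equiv.Perm.inv_def, Equiv.symm_apply_eq, hv1] at h
          simp at h
          exact absurd h ha
        · exact ⟨t, (Equiv.symm_apply_eq σ).1 h |>.symm⟩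
      obtain ⟨b, hb⟩ : ∃ b, σ (some a) = some b := by
        rcases h : σ (some a) with _ | t
        · have := σ.injective (h.trans hv2.symm)
          simp at this
          exact absurd this ha
        · exact ⟨t, rfl⟩
      have hz : σ (aff 1 a (σ (some pre))) = none := by rw [hpre]; simp [aff, hv2]
      refine ⟨pre, by rw [← hcw, ← hcw]; exact hz, ?_⟩
      obtain ⟨ta, hta⟩ := hmem 1 a (one_pow _)
      obtain ⟨tp, htp⟩ := hmem 1 pre (one_pow _)
      obtain ⟨tb, htb⟩ := hmem 1 b (one_pow _)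
      have htb' : (φ tb)⁻¹ (some b) = some 0 := by
        rw [Equiv.Perm.inv_def, Equiv.symm_apply_eq, htb]; simp [aff]
      have htb0 : (φ tb)⁻¹ none = none := by
        rw [Equiv.Perm.inv_def, Equiv.symm_apply_eq, htb]; simp [aff]
      obtain ⟨i, hi, he⟩ := hdiag (v⁻¹ * tb⁻¹ * (v * ta * v * tp))
        (by
          simp only [map_mul, map_inv, Equiv.Perm.mul_apply, ← hσ, hta, htp]
          rw [show aff 1 pre none = none from rfl, hv1,
            show aff 1 a (some 0) = some a by simp [aff], hb, htb', hinv2])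
        (by
          simp only [map_mul, map_inv, Equiv.Perm.mul_apply, ← hσ, hta, htp]
          rw [show aff 1 pre (some 0) = some pre by simp [aff], hz, htb0, hinv1])
      refine ⟨i, hi, fun x => ?_⟩
      rw [← hcw, ← hcw, ← hcw, ← hcw, hb, ← he, Option.getD_some, ← htb, ← hta, ← htp]
      simp only [map_mul, map_inv, Equiv.Perm.mul_apply, ← hσ]
      rw [show σ (σ⁻¹ ((φ tb)⁻¹ (σ (φ ta (σ (φ tp x)))))) = (φ tb)⁻¹ (σ (φ ta (σ (φ tp x)))) by
        simp, show φ tb ((φ tb)⁻¹ (σ (φ ta (σ (φ tp x))))) = σ (φ ta (σ (φ tp x))) by simp]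
  rcases D.hclass k hk c' c hc hOK with ⟨i, hi, hw⟩ | ⟨he, hk1⟩
  · -- `w0` lies in the image
    obtain ⟨d, hd⟩ := hmem ((g * g) ^ (m - i)) 0 (hr _)
    have hd0 : ⇑(φ (d * v)) = w0 := funext fun x => by
      rw [map_mul, Equiv.Perm.mul_apply, hd, ← hσ, hcw, hw, aff_aff, ← pow_add,
        Nat.sub_add_cancel hi.le, D.hgg, mul_zero, add_zero, aff_one_zero]
    refine ⟨(MonoidHom.ofInjective hinj).trans (MulEquiv.subgroupCongr (le_antisymm ?_ ?_))⟩
    · rintro _ ⟨a, rfl⟩
      have haffmem : ∀ y : G, φ y none = none → φ y ∈ model p m := fun y hy => by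
        obtain ⟨s, b, hs, he⟩ := haff y hy
        exact Subgroup.subset_closure (Or.inl ⟨s, b, hs, he⟩)
      rcases ho : φ a none with _ | b
      · exact haffmem a ho
      · obtain ⟨tb, htb⟩ := hmem 1 b (one_pow _)
        have hfix : φ ((d * v)⁻¹ * tb⁻¹ * a) none = none := by
          rw [map_mul, map_mul, map_inv, map_inv, Equiv.Perm.mul_apply, Equiv.Perm.mul_apply, ho,
            show (φ tb)⁻¹ (some b) = some 0 by
              rw [Equiv.Perm.inv_def, Equiv.symm_apply_eq, htb]; simp [aff],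
            Equiv.Perm.inv_def, Equiv.symm_apply_eq, hd0]
          simp [w0]
        have h1 := haffmem _ hfix
        rw [map_mul, map_mul, map_inv, map_inv] at h1
        have e : φ a = φ tb * φ (d * v) * ((φ (d * v))⁻¹ * (φ tb)⁻¹ * φ a) := by group
        rw [e]
        refine mul_mem (mul_mem (haffmem tb (by rw [htb]; rfl)) ?_) h1
        exact Subgroup.subset_closure (Or.inr hd0)
    · rw [model, Subgroup.closure_le]
      rintro τ (⟨s, b, hs, hτ⟩ | hτ)
      · obtain ⟨a, ha⟩ := hmem s b hs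
        exact ⟨a, Equiv.coe_fn_injective (ha.trans hτ.symm)⟩
      · exact ⟨d * v, Equiv.coe_fn_injective (hd0.trans hτ.symm)⟩
  · exfalso
    subst hk1
    refine hexc he v μ hv1 (by rw [hμ]; rfl) (by rw [hμ]; simp [aff]) ?_ ?_
    · rintro rfl
      rw [map_one] at hμ
      have := congrFun hμ (some 1)
      simp [aff] at this
      exact D.hne this.symm
    · refine hinj (Equiv.ext fun x => ?_)
      rw [map_mul, map_mul, Equiv.Perm.mul_apply, Equiv.Perm.mul_apply, ← hσ, hμ, hk', pow_one]

end Cfsg.Agent.SimplePSLOrder
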