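import Cfsg.Agent.Lib.SimpleRange30

/-!
A certificate checker for the orders between `1093` and `3640`.
-/

set_option autoImplicit false

namespace Cfsg.Agent.SimpleRangeLow81

open Cfsg Cfsg.Agent.SimpleRange30

/-- The orders not excluded by a certificate. -/
def lowExceptions : List ℕ :=
  [1224, 1344, 1512, 1620, 1800, 2160, 2268, 2400, 2448, 2520, 2688, 2700, 2976, 3120, 3168, 3420, 3600]

/-- The check. -/
def checkLow (n : ℕ) (c : Cert) : Bool :=
  match c with
  | .given => lowExceptions.contains n
  | c => check n c

/-- The check along a list of certificates. -/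
def checkLowFrom : ℕ → List Cert → Bool
  | _, [] => true
  | n, c :: L => checkLow n c && checkLowFrom (n + 1) L

variable {G : Type*} [Group G] [Finite G] [IsSimpleGroup G]

theorem mem_of_checkLow (hG : ¬ IsMulCommutative G) {n : ℕ} (hn : Nat.card G = n) (hlt : n < 3641) (c : Cert)
    (h : checkLow n c = true) : n ∈ lowExceptions := by
  have hex : n ∉ exceptions := by
    simp only [exceptions, List.mem_cons, List.not_mem_nil, or_false]
    omega
  cases c with
  | given => simpa [checkLow] using h
  | _ => exact absurd (not_of_check hG hn _ (by simpa [checkLow] using h)) hex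

theorem mem_lowExceptions (hG : ¬ IsMulCommutative G) :
    ∀ (L : List Cert) (k : ℕ), checkLowFrom k L = true → k + L.length ≤ 3641 →
      k ≤ Nat.card G → Nat.card G < k + L.length → Nat.card G ∈ lowExceptions
  | [], k, _, _, h1, h2 => by simp at h2; omega
  | c :: L, k, h, h3, h1, h2 => by
    rw [checkLowFrom, Bool.and_eq_true] at h
    simp only [List.length_cons] at h2 h3
    rcases Nat.eq_or_lt_of_le h1 with he | hlt
    · exact mem_of_checkLow hG rfl (by omega) c (he ▸ h.1)
    · exact mem_lowExceptions hG L (k + 1) h.2 (by omega) hlt (by omega)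

end Cfsg.Agent.SimpleRangeLow81
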