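import Cfsg.Agent.Lib.SimpleRangeLow81

/-!
Certificates for the orders 1093..1956.
-/

set_option autoImplicit false

namespace Cfsg.Agent.SimpleRangeLow81

open Cfsg Cfsg.Agent.SimpleRange30

/-- Certificates from 1093. -/
def certsLow1093 : List Cert := [
  .prime,
  .two 2 1 547 1,
  .least 3,
  .two 2 3 137 1,
  .prime,
  .least 2,
  .two 7 1 157 1,
  .kill1 [] 11 1,
  .two 3 1 367 1,
  .least 2,
  .prime,
  .kill1 [3, 23] 23 1,
  .least 5,
  .least 2,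
  .two 3 3 41 1,
  .two 2 2 277 1,
  .prime,
  .least 2,
  .two 11 1 101 1,
  .two 2 3 139 1,
  .least 3,
  .two 2 1 557 1,
  .two 5 1 223 1,
  .kill1 [] 31 1,
  .prime,
  .least 2,
  .two 3 1 373 1,
  .kill1 [] 2 5,
  .two 19 1 59 1,
  .least 2,
  .prime,
  .two 2 2 281 1,
  .two 3 2 5 3,
  .two 2 1 563 1,
  .two 7 2 23 1,
  .kill1 [] 47 1,
  .prime,
  .least 2,
  .least 3,
  .two 2 2 283 1,
  .two 11 1 103 1,
  .least 2,
  .two 5 1 227 1,
  .two 2 4 71 1,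
  .two 3 1 379 1,
  .two 2 1 569 1,
  .two 17 1 67 1,
  .kill1 [] 5 1,
  .two 7 1 163 1,
  .two 2 1 571 1,
  .two 3 2 127 1,
  .kill1 [] 13 1,
  .two 5 1 229 1,
  .least 2,
  .two 31 1 37 1,
  .kill1 [] 41 1,
  .two 3 1 383 1,
  .least 2,
  .prime,
  .two 2 7 3 2,
  .prime,
  .two 2 1 577 1,
  .least 3,
  .two 2 2 17 2,
  .two 13 1 89 1,
  .least 2,
  .two 19 1 61 1,
  .kill1 [] 29 1,
  .two 3 3 43 1,
  .least 2,
  .prime,
  .kill1 [] 97 1,
  .two 5 1 233 1,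
  .least 2,
  .two 3 1 389 1,
  .two 2 4 73 1,
  .two 7 1 167 1,
  .least 2,
  .prime,
  .two 2 2 293 1,
  .least 3,
  .two 2 1 587 1,
  .two 5 2 47 1,
  .kill1 [] 7 2,
  .two 11 1 107 1,
  .least 2,
  .two 3 2 131 1,
  .kill1 [] 59 1,
  .prime,
  .least 2,
  .two 7 1 13 2,
  .two 2 5 37 1,
  .least 3,
  .two 2 1 593 1,
  .prime,
  .kill1 [] 11 1,
  .two 29 1 41 1,
  .least 2,
  .two 3 1 397 1,
  .two 2 3 149 1,
  .prime,
  .least 2,
  .two 5 1 239 1,
  .kill1 [] 23 1,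
  .kill1 [] 19 1,
  .two 2 1 599 1,
  .two 11 1 109 1,
  .kill1 [] 5 2]

theorem certsLow1093_length : certsLow1093.length = 108 := rfl

theorem certsLow1093_check : checkLowFrom 1093 certsLow1093 = true := by
  decide +kernel

/-- Certificates from 1201. -/
def certsLow1201 : List Cert := [
  .prime,
  .two 2 1 601 1,
  .two 3 1 401 1,
  .kill1 [] 43 1,
  .two 5 1 241 1,
  .least 2,
  .two 17 1 71 1,
  .two 2 3 151 1,
  .least 3,
  .least 2,
  .two 7 1 173 1,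
  .kill1 [] 101 1,
  .prime,
  .two 2 1 607 1,
  .two 3 5 5 1,
  .two 2 6 19 1,
  .prime,
  .least 2,
  .two 23 1 53 1,
  .kill1 [] 61 1,
  .least 3,
  .least 2,
  .prime,
  .given,
  .two 5 2 7 2,
  .two 2 1 613 1,
  .two 3 1 409 1,
  .two 2 2 307 1,
  .prime,
  .least 2,
  .prime,
  .small [7, 11] 7,
  .two 3 2 137 1,
  .two 2 1 617 1,
  .least 5,
  .kill1 [] 103 1,
  .prime,
  .two 2 1 619 1,
  .least 3,
  .kill1 [] 31 1,
  .two 17 1 73 1,
  .least 2,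
  .two 11 1 113 1,
  .two 2 2 311 1,
  .least 3,
  .least 2,
  .two 29 1 43 1,
  .kill1 [] 13 1,
  .prime,
  .two 2 1 5 4,
  .two 3 2 139 1,
  .two 2 2 313 1,
  .two 7 1 179 1,
  .least 2,
  .two 5 1 251 1,
  .two 2 3 157 1,
  .two 3 1 419 1,
  .least 2,
  .prime,
  .small [5, 7] 7,
  .two 13 1 97 1,
  .two 2 1 631 1,
  .two 3 1 421 1,
  .two 2 4 79 1,
  .least 5,
  .least 2,
  .two 7 1 181 1,
  .two 2 2 317 1,
  .two 3 3 47 1,
  .least 2,
  .two 31 1 41 1,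
  .kill1 [] 53 1,
  .two 19 1 67 1,
  .least 2,
  .least 3,
  .kill1 [] 29 1,
  .prime,
  .least 2,
  .prime,
  .two 2 8 5 1,
  .least 3,
  .two 2 1 641 1,
  .prime,
  .kill1 [] 107 1,
  .two 5 1 257 1,
  .two 2 1 643 1,
  .kill1 [] 13 1,
  .kill1 [] 23 1,
  .prime,
  .least 2,
  .prime,
  .kill1 [] 19 1,
  .two 3 1 431 1,
  .two 2 1 647 1,
  .least 5,
  .two 2 4 3 4,
  .prime,
  .least 2,
  .two 3 1 433 1,
  .kill1 [] 13 1,
  .prime,
  .least 2,
  .prime,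
  .two 2 3 163 1,
  .kill1 [] 29 1,
  .two 2 1 653 1,
  .prime,
  .kill1 [] 109 1]

theorem certsLow1201_length : certsLow1201.length = 108 := rfl

theorem certsLow1201_check : checkLowFrom 1201 certsLow1201 = true := by
  decide +kernel

/-- Certificates from 1309. -/
def certsLow1309 : List Cert := [
  .least 7,
  .least 2,
  .least 3,
  .two 2 5 41 1,
  .two 13 1 101 1,
  .least 2,
  .two 5 1 263 1,
  .kill1 [] 47 1,
  .two 3 1 439 1,
  .two 2 1 659 1,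
  .prime,
  .kill1 [3, 5, 11] 11 1,
  .prime,
  .two 2 1 661 1,
  .two 3 3 7 2,
  .two 2 2 331 1,
  .two 5 2 53 1,
  .least 2,
  .prime,
  .two 2 4 83 1,
  .two 3 1 443 1,
  .least 2,
  .kill1 [] 11 3,
  .kill1 [] 37 1,
  .two 31 1 43 1,
  .least 2,
  .least 3,
  .two 2 3 167 1,
  .two 7 1 191 1,
  .least 2,
  .two 13 1 103 1,
  .kill1 [] 67 1,
  .two 3 2 149 1,
  .least 2,
  .two 17 1 79 1,
  .given,
  .two 5 1 269 1,
  .two 2 1 673 1,
  .two 3 1 449 1,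
  .two 2 2 337 1,
  .two 19 1 71 1,
  .least 2,
  .two 7 1 193 1,
  .two 2 3 13 2,
  .least 3,
  .two 2 1 677 1,
  .two 5 1 271 1,
  .kill1 [] 113 1,
  .two 23 1 59 1,
  .least 2,
  .two 3 2 151 1,
  .kill1 [] 17 1,
  .prime,
  .least 2,
  .two 29 1 47 1,
  .kill1 [] 31 1,
  .least 3,
  .two 2 1 683 1,
  .prime,
  .kill1 [] 19 1,
  .kill1 [] 37 2,
  .least 2,
  .two 3 1 457 1,
  .two 2 2 7 3,
  .prime,
  .least 2,
  .two 5 3 11 1,
  .two 2 5 43 1,
  .two 3 4 17 1,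
  .least 2,
  .two 7 1 197 1,
  .kill1 [] 23 1,
  .prime,
  .two 2 1 691 1,
  .two 3 1 461 1,
  .two 2 3 173 1,
  .two 5 1 277 1,
  .least 2,
  .two 19 1 73 1,
  .two 2 2 347 1,
  .two 3 1 463 1,
  .least 2,
  .two 13 1 107 1,
  .kill1 [] 29 1,
  .two 7 1 199 1,
  .least 2,
  .kill1 [] 31 1,
  .two 2 2 349 1,
  .two 11 1 127 1,
  .least 2,
  .prime,
  .kill1 [] 5 2,
  .two 3 1 467 1,
  .two 2 1 701 1,
  .two 23 1 61 1,
  .kill1 [13] 3 3,
  .two 5 1 281 1,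
  .least 2,
  .least 3,
  .two 2 7 11 1,
  .prime,
  .least 2,
  .two 17 1 83 1,
  .two 2 2 353 1,
  .two 3 2 157 1,
  .least 2,
  .two 5 1 283 1,
  .kill1 [] 59 1]

theorem certsLow1309_length : certsLow1309.length = 108 := rfl

theorem certsLow1309_check : checkLowFrom 1309 certsLow1309 = true := by
  decide +kernel

/-- Certificates from 1417. -/
def certsLow1417 : List Cert := [
  .two 13 1 109 1,
  .two 2 1 709 1,
  .least 3,
  .kill1 [] 71 1,
  .two 7 2 29 1,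
  .least 2,
  .prime,
  .two 2 4 89 1,
  .least 3,
  .least 2,
  .prime,
  .kill1 [] 17 1,
  .prime,
  .least 2,
  .two 3 3 53 1,
  .two 2 3 179 1,
  .prime,
  .least 2,
  .least 5,
  .two 2 2 359 1,
  .two 3 1 479 1,
  .two 2 1 719 1,
  .prime,
  .small [5] 5,
  .two 11 1 131 1,
  .least 2,
  .least 3,
  .two 2 2 19 2,
  .two 5 1 17 2,
  .least 2,
  .prime,
  .two 2 3 181 1,
  .kill1 [] 23 1,
  .least 2,
  .prime,
  .kill1 [] 11 2,
  .prime,
  .two 2 1 727 1,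
  .least 3,
  .kill1 [] 7 1,
  .two 31 1 47 1,
  .two 2 1 3 6,
  .prime,
  .kill1 [] 73 1,
  .two 3 1 487 1,
  .least 2,
  .least 7,
  .kill1 [] 61 1,
  .two 5 1 293 1,
  .two 2 1 733 1,
  .two 3 2 163 1,
  .two 2 2 367 1,
  .two 13 1 113 1,
  .least 2,
  .prime,
  .two 2 6 23 1,
  .two 3 1 491 1,
  .least 2,
  .two 5 2 59 1,
  .kill1 [] 41 1,
  .two 7 1 211 1,
  .two 2 1 739 1,
  .least 3,
  .kill1 [] 37 1,
  .prime,
  .least 2,
  .prime,
  .kill1 [] 53 1,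
  .kill1 [] 11 1,
  .two 2 1 743 1,
  .prime,
  .kill1 [] 31 1,
  .prime,
  .least 2,
  .least 3,
  .two 2 2 373 1,
  .prime,
  .least 2,
  .least 5,
  .kill1 [] 17 1,
  .two 3 1 499 1,
  .least 2,
  .prime,
  .kill1 [] 5 3,
  .two 19 1 79 1,
  .two 2 1 751 1,
  .two 3 2 167 1,
  .two 2 5 47 1,
  .least 5,
  .least 2,
  .two 11 1 137 1,
  .kill1 [] 29 1,
  .two 3 1 503 1,
  .least 2,
  .prime,
  .given,
  .two 17 1 89 1,
  .two 2 1 757 1,
  .least 3,
  .two 2 2 379 1,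
  .two 37 1 41 1,
  .least 2,
  .two 7 2 31 1,
  .kill1 [5, 19] 19 1,
  .two 3 2 13 2,
  .two 2 1 761 1,
  .prime,
  .kill1 [] 127 1]

theorem certsLow1417_length : certsLow1417.length = 108 := rfl

theorem certsLow1417_check : checkLowFrom 1417 certsLow1417 = true := by
  decide +kernel

/-- Certificates from 1525. -/
def certsLow1525 : List Cert := [
  .two 5 2 61 1,
  .least 2,
  .two 3 1 509 1,
  .two 2 3 191 1,
  .two 11 1 139 1,
  .least 2,
  .prime,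
  .two 2 2 383 1,
  .least 3,
  .least 2,
  .two 5 1 307 1,
  .two 2 9 3 1,
  .two 29 1 53 1,
  .two 2 1 769 1,
  .two 3 4 19 1,
  .kill1 [] 11 1,
  .two 23 1 67 1,
  .least 2,
  .prime,
  .two 2 3 193 1,
  .least 3,
  .two 2 1 773 1,
  .least 7,
  .kill1 [] 43 1,
  .prime,
  .least 2,
  .least 3,
  .two 2 4 97 1,
  .prime,
  .least 2,
  .two 5 1 311 1,
  .two 2 2 389 1,
  .two 3 2 173 1,
  .least 2,
  .prime,
  .killTwo [13, 5, 3],
  .two 7 1 223 1,
  .least 2,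
  .two 3 1 521 1,
  .kill1 [] 23 1,
  .two 5 1 313 1,
  .least 2,
  .prime,
  .two 2 5 7 2,
  .two 3 1 523 1,
  .least 2,
  .prime,
  .kill1 [] 131 1,
  .two 11 2 13 1,
  .two 2 1 787 1,
  .kill1 [] 5 2,
  .two 2 3 197 1,
  .two 19 1 83 1,
  .least 2,
  .prime,
  .kill1 [] 79 1,
  .least 3,
  .least 2,
  .prime,
  .kill1 [11] 11 1,
  .two 5 1 317 1,
  .least 2,
  .two 3 1 23 2,
  .two 2 2 397 1,
  .two 7 1 227 1,
  .least 2,
  .two 37 1 43 1,
  .two 2 3 199 1,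
  .two 3 3 59 1,
  .two 2 1 797 1,
  .least 5,
  .kill1 [] 19 1,
  .prime,
  .least 2,
  .least 3,
  .two 2 6 5 2,
  .prime,
  .least 2,
  .two 7 1 229 1,
  .two 2 2 401 1,
  .least 3,
  .least 2,
  .prime,
  .kill1 [] 67 1,
  .prime,
  .least 2,
  .two 3 2 179 1,
  .kill1 [] 31 1,
  .prime,
  .least 2,
  .least 5,
  .two 2 4 101 1,
  .least 3,
  .two 2 1 809 1,
  .prime,
  .given,
  .prime,
  .two 2 1 811 1,
  .two 3 1 541 1,
  .kill1 [] 29 1,
  .two 5 3 13 1,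
  .least 2,
  .prime,
  .kill1 [] 37 1,
  .two 3 2 181 1,
  .least 2,
  .two 7 1 233 1,
  .kill1 [] 17 1]

theorem certsLow1525_length : certsLow1525.length = 108 := rfl

theorem certsLow1525_check : checkLowFrom 1525 certsLow1525 = true := by
  decide +kernel

/-- Certificates from 1633. -/
def certsLow1633 : List Cert := [
  .two 23 1 71 1,
  .least 2,
  .least 3,
  .two 2 2 409 1,
  .prime,
  .least 2,
  .two 11 1 149 1,
  .kill1 [] 41 1,
  .two 3 1 547 1,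
  .two 2 1 821 1,
  .two 31 1 53 1,
  .kill1 [] 137 1,
  .least 5,
  .two 2 1 823 1,
  .two 3 3 61 1,
  .two 2 4 103 1,
  .two 17 1 97 1,
  .least 2,
  .two 13 1 127 1,
  .kill1 [] 59 1,
  .least 3,
  .two 2 1 827 1,
  .two 5 1 331 1,
  .kill1 [] 23 1,
  .prime,
  .two 2 1 829 1,
  .least 3,
  .kill1 [] 83 1,
  .two 11 1 151 1,
  .least 2,
  .prime,
  .two 2 7 13 1,
  .kill1 [] 37 1,
  .least 2,
  .prime,
  .kill1 [] 139 1,
  .prime,
  .least 2,
  .two 3 1 557 1,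
  .kill1 [] 19 1,
  .two 7 1 239 1,
  .least 2,
  .two 5 2 67 1,
  .two 2 2 419 1,
  .least 3,
  .two 2 1 839 1,
  .two 23 1 73 1,
  .killTwo [7, 5, 3],
  .kill1 [] 41 2,
  .two 2 1 29 2,
  .kill1 [] 17 1,
  .two 2 2 421 1,
  .two 5 1 337 1,
  .least 2,
  .two 7 1 241 1,
  .two 2 3 211 1,
  .two 3 1 563 1,
  .least 2,
  .two 19 1 89 1,
  .kill1 [] 47 1,
  .prime,
  .least 2,
  .least 3,
  .two 2 5 53 1,
  .prime,
  .least 2,
  .prime,
  .kill1 [] 17 1,
  .two 3 5 7 1,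
  .least 2,
  .two 13 1 131 1,
  .kill1 [] 71 1,
  .least 5,
  .two 2 1 853 1,
  .two 3 1 569 1,
  .kill1 [] 61 1,
  .prime,
  .least 2,
  .two 29 1 59 1,
  .two 2 4 107 1,
  .two 3 1 571 1,
  .two 2 1 857 1,
  .two 5 1 7 3,
  .killTwo [13, 11, 3],
  .two 17 1 101 1,
  .two 2 1 859 1,
  .two 3 2 191 1,
  .kill1 [] 43 1,
  .prime,
  .least 2,
  .prime,
  .two 2 2 431 1,
  .least 3,
  .two 2 1 863 1,
  .two 11 1 157 1,
  .two 2 6 3 3,
  .least 7,
  .least 2,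
  .two 3 1 577 1,
  .two 2 2 433 1,
  .prime,
  .least 2,
  .two 5 1 347 1,
  .kill1 [] 31 1,
  .two 3 2 193 1,
  .least 2,
  .two 37 1 47 1,
  .kill1 [] 5 1]

theorem certsLow1633_length : certsLow1633.length = 108 := rfl

theorem certsLow1633_check : checkLowFrom 1633 certsLow1633 = true := by
  decide +kernel

/-- Certificates from 1741. -/
def certsLow1741 : List Cert := [
  .prime,
  .least 2,
  .least 3,
  .two 2 4 109 1,
  .two 5 1 349 1,
  .least 2,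
  .prime,
  .kill1 [] 23 1,
  .least 3,
  .least 2,
  .two 17 1 103 1,
  .kill1 [] 73 1,
  .prime,
  .two 2 1 877 1,
  .kill1 [] 13 1,
  .two 2 2 439 1,
  .two 7 1 251 1,
  .least 2,
  .prime,
  .kill1 [] 11 1,
  .two 3 1 587 1,
  .two 2 1 881 1,
  .two 41 1 43 1,
  .kill1 [] 7 2,
  .two 5 1 353 1,
  .two 2 1 883 1,
  .least 3,
  .kill1 [] 13 1,
  .two 29 1 61 1,
  .least 2,
  .least 7,
  .two 2 2 443 1,
  .two 3 2 197 1,
  .two 2 1 887 1,
  .two 5 2 71 1,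
  .kill1 [] 37 1,
  .prime,
  .least 2,
  .two 3 1 593 1,
  .kill1 [] 89 1,
  .two 13 1 137 1,
  .least 2,
  .prime,
  .two 2 3 223 1,
  .least 3,
  .least 2,
  .prime,
  .kill1 [] 149 1,
  .prime,
  .least 2,
  .two 3 2 199 1,
  .two 2 8 7 1,
  .two 11 1 163 1,
  .least 2,
  .two 5 1 359 1,
  .two 2 2 449 1,
  .two 3 1 599 1,
  .least 2,
  .two 7 1 257 1,
  .given,
  .prime,
  .least 2,
  .two 3 1 601 1,
  .kill1 [] 41 1,
  .two 5 1 19 2,
  .least 2,
  .two 13 1 139 1,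
  .two 2 4 113 1,
  .two 3 3 67 1,
  .least 2,
  .prime,
  .kill1 [] 151 1,
  .two 7 2 37 1,
  .two 2 1 907 1,
  .least 3,
  .two 2 3 227 1,
  .two 23 1 79 1,
  .least 2,
  .two 17 1 107 1,
  .kill1 [] 7 1,
  .two 3 1 607 1,
  .two 2 1 911 1,
  .prime,
  .kill1 [] 19 1,
  .two 5 2 73 1,
  .least 2,
  .kill1 [] 29 1,
  .two 2 2 457 1,
  .two 31 1 59 1,
  .least 2,
  .prime,
  .two 2 3 229 1,
  .least 3,
  .least 2,
  .two 5 1 367 1,
  .kill1 [17] 17 1,
  .two 11 1 167 1,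
  .two 2 1 919 1,
  .two 3 1 613 1,
  .kill1 [] 23 1,
  .two 7 1 263 1,
  .least 2,
  .two 19 1 97 1,
  .two 2 2 461 1,
  .kill1 [] 41 1,
  .least 2,
  .prime,
  .kill1 [3, 7, 11] 11 1]

theorem certsLow1741_length : certsLow1741.length = 108 := rfl

theorem certsLow1741_check : checkLowFrom 1741 certsLow1741 = true := by
  decide +kernel

/-- Certificates from 1849. -/
def certsLow1849 : List Cert := [
  .kill1 [] 43 2,
  .least 2,
  .two 3 1 617 1,
  .two 2 2 463 1,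
  .two 17 1 109 1,
  .least 2,
  .least 5,
  .two 2 6 29 1,
  .two 3 1 619 1,
  .two 2 1 929 1,
  .two 11 1 13 2,
  .kill1 [] 31 1,
  .prime,
  .least 2,
  .two 3 4 23 1,
  .two 2 3 233 1,
  .two 5 1 373 1,
  .least 2,
  .prime,
  .two 2 2 467 1,
  .least 3,
  .least 2,
  .prime,
  .kill1 [] 13 1,
  .prime,
  .two 2 1 937 1,
  .two 3 1 5 4,
  .kill1 [] 67 1,
  .prime,
  .least 2,
  .prime,
  .kill1 [] 47 1,
  .kill1 [] 19 1,
  .two 2 1 941 1,
  .two 7 1 269 1,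
  .kill1 [] 157 1,
  .least 5,
  .least 2,
  .least 3,
  .two 2 5 59 1,
  .prime,
  .least 2,
  .two 31 1 61 1,
  .kill1 [] 43 1,
  .two 3 1 631 1,
  .two 2 1 947 1,
  .two 5 1 379 1,
  .kill1 [] 79 1,
  .two 7 1 271 1,
  .least 2,
  .two 3 2 211 1,
  .kill1 [] 19 1,
  .prime,
  .least 2,
  .two 11 1 173 1,
  .kill1 [] 17 1,
  .least 3,
  .two 2 1 953 1,
  .prime,
  .kill1 [] 53 1,
  .two 23 1 83 1,
  .least 2,
  .least 3,
  .two 2 3 239 1,
  .prime,
  .least 2,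
  .two 5 1 383 1,
  .two 2 2 479 1,
  .two 3 3 71 1,
  .least 2,
  .two 19 1 101 1,
  .kill1 [] 2 7,
  .two 17 1 113 1,
  .two 2 1 31 2,
  .two 3 1 641 1,
  .kill1 [] 37 1,
  .kill1 [] 11 1,
  .least 2,
  .two 41 1 47 1,
  .two 2 3 241 1,
  .two 3 1 643 1,
  .least 2,
  .prime,
  .kill1 [] 23 1,
  .prime,
  .two 2 1 967 1,
  .kill1 [] 43 1,
  .two 2 4 11 2,
  .two 13 1 149 1,
  .least 2,
  .two 7 1 277 1,
  .kill1 [] 97 1,
  .two 3 1 647 1,
  .two 2 1 971 1,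
  .two 29 1 67 1,
  .two 2 3 3 5,
  .two 5 1 389 1,
  .least 2,
  .least 3,
  .two 2 2 487 1,
  .prime,
  .least 2,
  .prime,
  .two 2 5 61 1,
  .kill1 [] 31 1,
  .two 2 1 977 1,
  .least 5,
  .kill1 [] 163 1]

theorem certsLow1849_length : certsLow1849.length = 108 := rfl

theorem certsLow1849_check : checkLowFrom 1849 certsLow1849 = true := by
  decide +kernel

theorem mem_low0 {G : Type*} [Group G] [Finite G] [IsSimpleGroup G] (hG : ¬ IsMulCommutative G) (h1 : 1093 ≤ Nat.card G) (h2 : Nat.card G < 1957) : Nat.card G ∈ lowExceptions := by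
  rcases lt_or_ge (Nat.card G) 1201 with h | h
  · exact mem_lowExceptions hG _ 1093 certsLow1093_check (by rw [certsLow1093_length] <;> omega) (by omega) (by rw [certsLow1093_length]; omega)
  rcases lt_or_ge (Nat.card G) 1309 with h | h
  · exact mem_lowExceptions hG _ 1201 certsLow1201_check (by rw [certsLow1201_length] <;> omega) (by omega) (by rw [certsLow1201_length]; omega)
  rcases lt_or_ge (Nat.card G) 1417 with h | h
  · exact mem_lowExceptions hG _ 1309 certsLow1309_check (by rw [certsLow1309_length] <;> omega) (by omega) (by rw [certsLow1309_length]; omega)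
  rcases lt_or_ge (Nat.card G) 1525 with h | h
  · exact mem_lowExceptions hG _ 1417 certsLow1417_check (by rw [certsLow1417_length] <;> omega) (by omega) (by rw [certsLow1417_length]; omega)
  rcases lt_or_ge (Nat.card G) 1633 with h | h
  · exact mem_lowExceptions hG _ 1525 certsLow1525_check (by rw [certsLow1525_length] <;> omega) (by omega) (by rw [certsLow1525_length]; omega)
  rcases lt_or_ge (Nat.card G) 1741 with h | h
  · exact mem_lowExceptions hG _ 1633 certsLow1633_check (by rw [certsLow1633_length] <;> omega) (by omega) (by rw [certsLow1633_length]; omega)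
  rcases lt_or_ge (Nat.card G) 1849 with h | h
  · exact mem_lowExceptions hG _ 1741 certsLow1741_check (by rw [certsLow1741_length] <;> omega) (by omega) (by rw [certsLow1741_length]; omega)
  exact mem_lowExceptions hG _ 1849 certsLow1849_check (by rw [certsLow1849_length] <;> omega) (by omega) (by rw [certsLow1849_length]; omega)

end Cfsg.Agent.SimpleRangeLow81
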