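import Cfsg.Agent.Lib.SimpleOrder
import Cfsg.Agent.Lib.SmallGroupBasic

/-!
Counting: when the nontrivial 2-elements are at most as many as the odd part of the order and
centralisers of involutions are 2-groups, Sylow 2-subgroups are elementary abelian and TI.
-/

namespace Cfsg.Agent.SimpleTITwo

open SimpleOrder SmallGroupBasic

variable {G : Type*} [Group G] [Finite G]

/-- Elements of order divisible by `p`, counted from below. -/
theorem le_card_dvd_orderOf {p : ℕ} [hp : Fact p.Prime]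
    (hS : ∀ P : Sylow p G, Nat.card ↥(P : Subgroup G) = p) {k : ℕ}
    (hC : ∀ P : Sylow p G, Nat.card ↥(Subgroup.centralizer ((P : Subgroup G) : Set G)) = p * k)
    (hk : ¬ p ∣ k) :
    Nat.card (Sylow p G) * ((p - 1) * k) ≤ Nat.card {g : G // p ∣ orderOf g} := by
  classical
  have key : ∀ P : Sylow p G, ∃ K : Subgroup G, Nat.card ↥K = k ∧
      K ≤ Subgroup.centralizer ((P : Subgroup G) : Set G) := by
    intro P
    set C := Subgroup.centralizer ((P : Subgroup G) : Set G) with hCdef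
    have hcom : IsMulCommutative ↥(P : Subgroup G) :=
      ⟨⟨fun a b => by have := isCyclic_of_prime_card (α := ↥(P : Subgroup G)) (hS P)
                      exact (IsCyclic.commGroup (α := ↥(P : Subgroup G))).mul_comm a b⟩⟩
    have hPC : (P : Subgroup G) ≤ C := Subgroup.le_centralizer _
    have hnor : ((P : Subgroup G).subgroupOf C).Normal := by
      refine ⟨fun a ha c => ?_⟩
      rw [Subgroup.mem_subgroupOf] at ha ⊢
      rw [Subgroup.coe_mul, Subgroup.coe_mul, Subgroup.coe_inv,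
        ← Subgroup.mem_centralizer_iff.1 c.2 _ ha, mul_inv_cancel_right]
      exact ha
    have hcard : Nat.card ↥((P : Subgroup G).subgroupOf C) = p := by
      rw [Nat.card_congr (Subgroup.subgroupOfEquivOfLe hPC).toEquiv, hS]
    have hidx : ((P : Subgroup G).subgroupOf C).index = k := by
      have := ((P : Subgroup G).subgroupOf C).card_mul_index
      rw [hcard, hC] at this
      exact Nat.eq_of_mul_eq_mul_left hp.out.pos this
    obtain ⟨K, hK⟩ := Subgroup.exists_right_complement'_of_coprime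
      (N := (P : Subgroup G).subgroupOf C)
      (by rw [hcard, hidx]; exact hp.out.coprime_iff_not_dvd.2 hk)
    refine ⟨K.map C.subtype, ?_, Subgroup.map_subtype_le K⟩
    rw [← Nat.card_congr (K.equivMapOfInjective _ C.subtype_injective).toEquiv]
    have := hK.card_mul
    rw [hcard, hC] at this
    exact Nat.eq_of_mul_eq_mul_left hp.out.pos this
  choose K hK hKC using key
  let S := Σ P : Sylow p G, {y : ↥(P : Subgroup G) // y ≠ 1} × ↥(K P)
  have hcomm : ∀ s : S, Commute (s.2.1.1 : G) (s.2.2 : G) := fun s =>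
    Subgroup.mem_centralizer_iff.1 (hKC s.1 s.2.2.2) _ s.2.1.1.2
  have hy : ∀ s : S, orderOf (s.2.1.1 : G) = p := fun s =>
    orderOf_of_mem (hS s.1) s.2.1.1.2 fun e => s.2.1.2 (Subtype.ext e)
  have hz : ∀ s : S, (s.2.2 : G) ^ k = 1 := fun s => by
    rw [← hK s.1]
    exact Subtype.ext_iff.1 (pow_card_eq_one' (x := s.2.2))
  have hpow : ∀ s : S, ((s.2.1.1 : G) * s.2.2) ^ k = (s.2.1.1 : G) ^ k := fun s => by
    rw [(hcomm s).mul_pow, hz, mul_one]
  have hyk : ∀ s : S, (s.2.1.1 : G) ^ k ≠ 1 := fun s e => hk (hy s ▸ orderOf_dvd_of_pow_eq_one e)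
  let f : S → {g : G // p ∣ orderOf g} := fun s => ⟨(s.2.1.1 : G) * s.2.2, by
    have h1 : orderOf ((s.2.1.1 : G) ^ k) = p := by
      rw [Nat.Coprime.orderOf_pow (by rw [hy]; exact hp.out.coprime_iff_not_dvd.2 hk), hy]
    have h2 := orderOf_pow_dvd (x := (s.2.1.1 : G) * s.2.2) k
    rw [hpow, h1] at h2
    exact h2⟩
  have hf : Function.Injective f := by
    rintro ⟨P, y, z⟩ ⟨P', y', z'⟩ e
    have e1 : (y.1 : G) * z = (y'.1 : G) * z' := congrArg Subtype.val e
    have e2 : (y.1 : G) ^ k = (y'.1 : G) ^ k := by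
      rw [← hpow ⟨P, y, z⟩, ← hpow ⟨P', y', z'⟩]; exact congrArg (· ^ k) e1
    have hPP : P = P' := Sylow.ext
      ((eq_zpowers_of_mem (hS P) (pow_mem y.1.2 k) (hyk ⟨P, y, z⟩)).symm.trans
        (by rw [e2]; exact eq_zpowers_of_mem (hS P') (pow_mem y'.1.2 k) (hyk ⟨P', y', z'⟩)))
    subst hPP
    have e3 : (y.1 : G) = y'.1 := by
      have hco : (orderOf (y.1 : G)).Coprime k := by
        rw [hy ⟨P, y, z⟩]; exact hp.out.coprime_iff_not_dvd.2 hk
      have hco' : (Nat.card ↥(P : Subgroup G)).Coprime k := by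
        rw [hS]; exact hp.out.coprime_iff_not_dvd.2 hk
      exact congrArg Subtype.val ((powCoprime hco').injective (a₁ := y.1) (a₂ := y'.1)
        (Subtype.ext (by simpa using e2)))
    rw [e3] at e1
    have e4 : (z : G) = z' := mul_left_cancel e1
    exact Sigma.ext rfl (heq_of_eq (Prod.ext (Subtype.ext (Subtype.ext e3)) (Subtype.ext e4)))
  refine le_trans (le_of_eq ?_) (Nat.card_le_card_of_injective f hf)
  have := Fintype.ofFinite (Sylow p G)
  rw [Nat.card_sigma, Finset.sum_congr rfl fun P _ => ?_, Finset.sum_const, Finset.card_univ,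
    smul_eq_mul, Nat.card_eq_fintype_card]
  rw [Nat.card_prod, hK]
  congr 1
  have := Fintype.ofFinite ↥(P : Subgroup G)
  rw [Nat.card_eq_fintype_card, Fintype.card_subtype_compl, Fintype.card_subtype_eq,
    ← Nat.card_eq_fintype_card, hS]

/-- Three disjoint predicates not holding at `1`. -/
theorem card_three_le (A B C : G → Prop) (hA : ¬ A 1) (hB : ¬ B 1) (hC : ¬ C 1)
    (hAB : ∀ g, A g → ¬ B g) (hAC : ∀ g, A g → ¬ C g) (hBC : ∀ g, B g → ¬ C g) :
    Nat.card {g // A g} + Nat.card {g // B g} + Nat.card {g // C g} + 1 ≤ Nat.card G := by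
  classical
  let f : {g // A g} ⊕ {g // B g} ⊕ {g // C g} ⊕ Unit → G :=
    Sum.elim Subtype.val (Sum.elim Subtype.val (Sum.elim Subtype.val fun _ => 1))
  have hf : Function.Injective f := by
    rintro (⟨a, ha⟩ | ⟨a, ha⟩ | ⟨a, ha⟩ | _) (⟨b, hb⟩ | ⟨b, hb⟩ | ⟨b, hb⟩ | _) e <;>
      simp only [f, Sum.elim_inl, Sum.elim_inr] at e <;> (try subst e) <;>
      first
      | rfl
      | exact absurd ha hA | exact absurd ha hB | exact absurd ha hC
      | exact absurd hb hA | exact absurd hb hB | exact absurd hb hC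
      | exact absurd hb (hAB _ ha) | exact absurd hb (hAC _ ha) | exact absurd hb (hBC _ ha)
      | exact absurd ha (hAB _ hb) | exact absurd ha (hAC _ hb) | exact absurd ha (hBC _ hb)
  have := Nat.card_le_card_of_injective f hf
  simp only [Nat.card_sum, Nat.card_unique] at this
  omega

variable {n m : ℕ}

theorem ti (hn : Nat.card G = 2 ^ n * m) (hm : ¬ 2 ∣ m) (hn0 : 0 < n)
    (hB : Nat.card {g : G // g ≠ 1 ∧ orderOf g ∣ 2 ^ n} ≤ m)
    (hinv : ∀ t : G, orderOf t = 2 → ∀ p : ℕ, p.Prime →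
      p ∣ Nat.card ↥(Subgroup.centralizer ({t} : Set G)) → p = 2) (T : Sylow 2 G) :
    (∀ s ∈ (T : Subgroup G), s ≠ 1 → Subgroup.centralizer ({s} : Set G) = (T : Subgroup G)) ∧
      (∀ a ∈ (T : Subgroup G), a * a = 1) ∧ Nat.card (Sylow 2 G) * (2 ^ n - 1) = m := by
  classical
  have hT : ∀ S : Sylow 2 G, Nat.card ↥(S : Subgroup G) = 2 ^ n := fun S => sylow_card_of_eq hn hm S
  have hnt : Nontrivial ↥(T : Subgroup G) := Finite.one_lt_card_iff_nontrivial.1 (by
    rw [hT]; exact Nat.one_lt_two_pow hn0.ne')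
  have hz := T.2.center_nontrivial
  obtain ⟨z, hz2⟩ : ∃ z : ↥(Subgroup.center ↥(T : Subgroup G)), orderOf z = 2 := by
    refine exists_prime_orderOf_dvd_card' 2 ?_
    obtain ⟨j, hj⟩ := IsPGroup.iff_card.1 (T.2.to_subgroup (Subgroup.center ↥(T : Subgroup G)))
    have : 1 < Nat.card ↥(Subgroup.center ↥(T : Subgroup G)) := Finite.one_lt_card
    rw [hj] at this ⊢
    exact dvd_pow_self 2 fun e => by simp [e] at this
  set t : G := ((z : ↥(T : Subgroup G)) : G) with ht
  have ht2 : orderOf t = 2 := by rw [ht, Subgroup.orderOf_coe, Subgroup.orderOf_coe, hz2]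
  have hTC : (T : Subgroup G) ≤ Subgroup.centralizer {t} := fun s hs => by
    rw [Subgroup.mem_centralizer_singleton_iff]
    exact congrArg Subtype.val (Subgroup.mem_center_iff.1 z.2 ⟨s, hs⟩)
  have hCt : Subgroup.centralizer ({t} : Set G) = (T : Subgroup G) := by
    refine T.3 ?_ hTC
    intro g
    obtain ⟨j, hj⟩ : ∃ j, orderOf g = 2 ^ j := ⟨_,
      Nat.eq_prime_pow_of_unique_prime_dvd (orderOf_pos g).ne' fun {p} hp hd =>
        hinv t ht2 p hp (hd.trans (orderOf_dvd_natCard g))⟩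
    exact ⟨j, by rw [← hj]; exact pow_orderOf_eq_one g⟩
  have hclass : Nat.card {g : G // IsConj t g} = m := by
    have h1 := (Subgroup.centralizer ({t} : Set G)).card_mul_index
    rw [← card_isConj_eq_index, hn, hCt, hT] at h1
    exact Nat.eq_of_mul_eq_mul_left (pow_pos (by norm_num) n) h1
  let ι : {g : G // IsConj t g} → {g : G // g ≠ 1 ∧ orderOf g ∣ 2 ^ n} := fun g => ⟨g, by
    have h1 := IsConj.orderOf_eq' g.2
    rw [ht2] at h1
    exact ⟨fun e => by rw [e, orderOf_one] at h1; omega, by rw [h1]; exact dvd_pow_self 2 hn0.ne'⟩⟩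
  have hι : Function.Injective ι := fun a b e => Subtype.ext (Subtype.mk.inj e)
  have hBm : Nat.card {g : G // g ≠ 1 ∧ orderOf g ∣ 2 ^ n} = m :=
    le_antisymm hB (hclass ▸ Nat.card_le_card_of_injective ι hι)
  have hιb : Function.Bijective ι :=
    (Nat.bijective_iff_injective_and_card ι).2 ⟨hι, hclass.trans hBm.symm⟩
  have hall : ∀ g : G, g ≠ 1 → orderOf g ∣ 2 ^ n → IsConj t g := fun g h1 h2 => by
    obtain ⟨⟨g', hg'⟩, e⟩ := hιb.2 ⟨g, h1, h2⟩
    have : g' = g := congrArg Subtype.val e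
    exact this ▸ hg'
  have hord : ∀ (S : Sylow 2 G) (s : G), s ∈ (S : Subgroup G) → orderOf s ∣ 2 ^ n :=
    fun S s hs => hT S ▸ Subgroup.orderOf_dvd_natCard _ hs
  have hsq : ∀ (S : Sylow 2 G) (s : G), s ∈ (S : Subgroup G) → s * s = 1 := by
    intro S s hs
    rcases eq_or_ne s 1 with rfl | hs1
    · exact one_mul 1
    · have h1 := IsConj.orderOf_eq' (hall s hs1 (hord S s hs))
      rw [ht2] at h1
      rw [← sq, ← h1]; exact pow_orderOf_eq_one s
  have hCs : ∀ (S : Sylow 2 G) (s : G), s ∈ (S : Subgroup G) → s ≠ 1 →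
      Subgroup.centralizer ({s} : Set G) = (S : Subgroup G) := by
    intro S s hs hs1
    have hle : (S : Subgroup G) ≤ Subgroup.centralizer {s} := fun a ha => by
      rw [Subgroup.mem_centralizer_singleton_iff]
      have e : ∀ {b}, b ∈ (S : Subgroup G) → b⁻¹ = b := fun hb =>
        inv_eq_of_mul_eq_one_right (hsq S _ hb)
      have h3 := e (mul_mem ha hs)
      rw [mul_inv_rev, e ha, e hs] at h3
      exact h3.symm
    refine (Subgroup.eq_of_le_of_card_ge hle (le_of_eq ?_)).symm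
    have h1 := hall s hs1 (hord S s hs)
    have hcl : Nat.card {g : G // IsConj s g} = m :=
      (Nat.card_congr (Equiv.subtypeEquivRight fun g =>
        ⟨fun e => h1.trans e, fun e => h1.symm.trans e⟩)).trans hclass
    have h2 := (Subgroup.centralizer ({s} : Set G)).card_mul_index
    rw [← card_isConj_eq_index, hcl, hn] at h2
    rw [hT]
    exact Nat.eq_of_mul_eq_mul_right (Nat.pos_of_ne_zero fun e => hm (by rw [e]; exact dvd_zero 2)) h2
  refine ⟨hCs T, hsq T, ?_⟩
  rw [← hBm]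
  let S := Σ R : Sylow 2 G, {s : ↥(R : Subgroup G) // s ≠ 1}
  let f : S → {g : G // g ≠ 1 ∧ orderOf g ∣ 2 ^ n} := fun s =>
    ⟨s.2.1, fun e => s.2.2 (Subtype.ext e), hord s.1 _ s.2.1.2⟩
  have hf : Function.Bijective f := by
    constructor
    · rintro ⟨R, s, hs⟩ ⟨R', s', hs'⟩ e
      have e' : (s : G) = s' := congrArg Subtype.val e
      have hRR : R = R' := Sylow.ext
        ((hCs R s s.2 fun e0 => hs (Subtype.ext e0)).symm.trans
          (by rw [e']; exact hCs R' s' s'.2 fun e0 => hs' (Subtype.ext e0)))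
      subst hRR
      exact Sigma.ext rfl (heq_of_eq (Subtype.ext (Subtype.ext e')))
    · rintro ⟨g, hg1, hg2⟩
      obtain ⟨j, -, hj⟩ := (Nat.dvd_prime_pow Nat.prime_two).1 hg2
      obtain ⟨R, hR⟩ := (IsPGroup.of_card (p := 2) (n := j) (by rw [Nat.card_zpowers, hj]) :
        IsPGroup 2 ↥(Subgroup.zpowers g)).exists_le_sylow
      exact ⟨⟨R, ⟨g, hR (Subgroup.mem_zpowers g)⟩, fun e => hg1 (congrArg Subtype.val e)⟩, rfl⟩
  rw [← Nat.card_eq_of_bijective f hf]
  have := Fintype.ofFinite (Sylow 2 G)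
  rw [Nat.card_sigma, Finset.sum_congr rfl fun R _ => ?_, Finset.sum_const, Finset.card_univ,
    smul_eq_mul, Nat.card_eq_fintype_card]
  have := Fintype.ofFinite ↥(R : Subgroup G)
  rw [Nat.card_eq_fintype_card, Fintype.card_subtype_compl, Fintype.card_subtype_eq,
    ← Nat.card_eq_fintype_card, hT]

/-- The two-point stabilizer. -/
theorem exists_stab (T : Sylow 2 G) {q : ℕ} (hT : Nat.card ↥(T : Subgroup G) = q)
    (hC : ∀ s ∈ (T : Subgroup G), s ≠ 1 → Subgroup.centralizer ({s} : Set G) = (T : Subgroup G))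
    (hinf : ∀ S : Sylow 2 G, S ≠ T → (T : Subgroup G) ⊓ S = ⊥)
    (hcard : Nat.card (Sylow 2 G) = q + 1)
    (hN : Nat.card ↥(Subgroup.normalizer ((T : Subgroup G) : Set G)) = q * (q - 1)) :
    ∃ (Q₀ : Sylow 2 G) (D : Subgroup G), Q₀ ≠ T ∧ Nat.card ↥D = q - 1 ∧
      D ≤ Subgroup.normalizer ((T : Subgroup G) : Set G) ∧ (∀ δ ∈ D, δ • Q₀ = Q₀) ∧
      ∀ δ ∈ D, δ ≠ 1 → ∀ s ∈ (T : Subgroup G), s ≠ 1 → δ * s * δ⁻¹ ≠ s := by
  classical
  have hq : 0 < q := hT ▸ Nat.card_pos
  obtain ⟨Q₀, hQ₀⟩ : ∃ Q : Sylow 2 G, Q ≠ T := by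
    have : Nontrivial (Sylow 2 G) := Finite.one_lt_card_iff_nontrivial.1 (by omega)
    exact exists_ne T
  have hfree : ∀ y ∈ (T : Subgroup G), y • Q₀ = Q₀ → y = 1 := by
    intro y hy hyQ
    have h2 : y ∈ (T : Subgroup G) ⊓ (Q₀ : Subgroup G) := ⟨hy, ((T.2.inf_normalizer_sylow Q₀).le
      ⟨hy, Sylow.smul_eq_iff_mem_normalizer.1 hyQ⟩).2⟩
    rw [hinf Q₀ hQ₀] at h2
    exact Subgroup.mem_bot.1 h2
  set D := MulAction.stabilizer G T ⊓ MulAction.stabilizer G Q₀ with hD
  have hDN : D ≤ Subgroup.normalizer ((T : Subgroup G) : Set G) := fun δ hδ =>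
    Sylow.smul_eq_iff_mem_normalizer.1 hδ.1
  have hfix : ∀ y ∈ (T : Subgroup G), y • T = T := fun y hy =>
    Sylow.smul_eq_iff_mem_normalizer.2 (Subgroup.le_normalizer hy)
  let pt : Option ↥(T : Subgroup G) → Sylow 2 G := fun o => o.elim T fun y => (y : G) • Q₀
  have hpt : Function.Bijective pt := by
    refine (Nat.bijective_iff_injective_and_card pt).2 ⟨?_, by rw [hcard, Finite.card_option, hT]⟩
    rintro (_ | a) (_ | b) e
    · rfl
    · exact absurd ((smul_left_cancel (b : G)) ((hfix b b.2).trans e)).symm hQ₀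
    · exact absurd ((smul_left_cancel (a : G)) ((hfix a a.2).trans e.symm)).symm hQ₀
    · have h1 := hfree ((b : G)⁻¹ * a) (mul_mem (inv_mem b.2) a.2)
        (by rw [mul_smul]; exact inv_smul_eq_iff.2 e)
      rw [inv_mul_eq_one] at h1
      rw [Subtype.ext h1]
  have hbij : Function.Bijective (fun z : ↥(T : Subgroup G) × ↥D =>
      (⟨(z.1 : G) * z.2, mul_mem (Subgroup.le_normalizer z.1.2) (hDN z.2.2)⟩ :
        ↥(Subgroup.normalizer ((T : Subgroup G) : Set G)))) := by
    constructor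
    · rintro ⟨a, δ⟩ ⟨b, ε⟩ e
      simp only [Subtype.mk.injEq] at e
      have h1 : (b : G)⁻¹ * a ∈ D := by
        rw [show (b : G)⁻¹ * a = ε * (δ : G)⁻¹ by rw [eq_mul_inv_iff_mul_eq, mul_assoc, e]; group]
        exact mul_mem ε.2 (inv_mem δ.2)
      have h2 := hfree _ (mul_mem (inv_mem b.2) a.2) h1.2
      rw [inv_mul_eq_one] at h2
      rw [h2] at e
      exact Prod.ext (Subtype.ext h2.symm) (Subtype.ext (mul_left_cancel e))
    · rintro ⟨g, hg⟩
      have hgP : g • T = T := Sylow.smul_eq_iff_mem_normalizer.2 hg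
      obtain ⟨_ | b, hb⟩ := hpt.2 (g • Q₀)
      · exact absurd (smul_left_cancel g (hb.symm.trans hgP.symm)) hQ₀
      · refine ⟨⟨b, ⟨(b : G)⁻¹ * g, ?_, ?_⟩⟩, by simp⟩
        · show ((b : G)⁻¹ * g) • T = T
          rw [mul_smul, hgP, hfix _ (inv_mem b.2)]
        · show ((b : G)⁻¹ * g) • Q₀ = Q₀
          rw [mul_smul, inv_smul_eq_iff]; exact hb.symm
  refine ⟨Q₀, D, hQ₀, ?_, hDN, fun δ hδ => hδ.2, ?_⟩
  · have := Nat.card_eq_of_bijective _ hbij
    rw [Nat.card_prod, hT, hN] at this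
    exact Nat.eq_of_mul_eq_mul_left hq this
  · intro δ hδ hδ1 s hs hs1 e
    have hmem : δ ∈ Subgroup.centralizer ({s} : Set G) := by
      rw [Subgroup.mem_centralizer_singleton_iff, ← mul_inv_eq_iff_eq_mul]; exact e
    rw [hC s hs hs1] at hmem
    exact hδ1 (hfree δ hmem hδ.2)

theorem mul_comm_of_sq (T : Subgroup G) (h : ∀ a ∈ T, a * a = 1) {a b : G} (ha : a ∈ T)
    (hb : b ∈ T) : a * b = b * a := by
  have e : ∀ {c}, c ∈ T → c⁻¹ = c := fun hc => inv_eq_of_mul_eq_one_right (h _ hc)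
  have h3 := e (mul_mem ha hb)
  rw [mul_inv_rev, e ha, e hb] at h3
  exact h3.symm

theorem inf_eq_bot (hall : ∀ T : Sylow 2 G, ∀ s ∈ (T : Subgroup G), s ≠ 1 →
      Subgroup.centralizer ({s} : Set G) = (T : Subgroup G)) (T S : Sylow 2 G) (hST : S ≠ T) :
    (T : Subgroup G) ⊓ S = ⊥ := by
  rw [Subgroup.eq_bot_iff_forall]
  intro s hs
  by_contra h1
  exact hST (Sylow.ext ((hall S s hs.2 h1).symm.trans (hall T s hs.1 h1)))

end Cfsg.Agent.SimpleTITwo
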