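import Cfsg.Agent.Lib.SimpleOrder
import Cfsg.Agent.Lib.SmallGroupBasic

/-!
Zassenhaus-type simple groups on `q + 1` Sylow subgroups with an abelian regular normal subgroup
`V` in the point stabilizer and a cyclic two-point stabilizer acting through `J`: they are all
isomorphic to one explicit permutation group on `Option V`, provided a finite check succeeds.
-/

namespace Cfsg.Agent.SimpleZassenhaus

open SimpleOrder SmallGroupBasic

variable {V : Type} [AddCommGroup V] [Fintype V] [DecidableEq V]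

/-- The map `t ↦ J^[i] t + b` fixing `none`. -/
def aff (J : V → V) (i : ℕ) (b : V) : Option V → Option V := Option.map fun t => J^[i] t + b

/-- Candidate for an element interchanging `none` and `some 0`. -/
def cw (J : V → V) (m : ℕ) (r₁ r₂ : V) (k : ℕ) (c₁ c₂ : V) : Option V → Option V
  | none => some 0
  | some t => if t = 0 then none else
      match (List.range m).find? (fun i => decide (J^[i] r₁ = t)) with
      | some i => some (J^[k * i] c₁)
      | none =>
        match (List.range m).find? (fun i => decide (J^[i] r₂ = t)) with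
        | some i => some (J^[k * i] c₂)
        | none => none

/-- Necessary conditions on an element interchanging `none` and `some 0`. -/
def candOK (J : V → V) (m : ℕ) (w : Option V → Option V) : Prop :=
  (∃ i < m, ∀ x, w (w x) = aff J i 0 x) ∧
    ∀ a : V, a ≠ 0 → ∃ pre : V, w (aff J 0 a (w (some pre))) = none ∧
      ∃ i < m, ∀ x, w (aff J 0 a (w (aff J 0 pre x))) =
        aff J 0 ((w (some a)).getD 0) (w (aff J i 0 x))

instance candOKDec (J : V → V) (m : ℕ) (w : Option V → Option V) :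
    Decidable (candOK J m w) := by unfold candOK; infer_instance

/-- The model: generated by the allowed affine maps and one further permutation. -/
def model (J : V → V) (w₀ : Option V → Option V) : Subgroup (Equiv.Perm (Option V)) :=
  Subgroup.closure {σ | (∃ (i : ℕ) (b : V), ⇑σ = aff J i b) ∨ ⇑σ = w₀}

/-- The finite facts needed, all decidable. -/
structure Data (J : V → V) (m : ℕ) (r₁ r₂ : V) (w₀ : Option V → Option V) : Prop where
  hm : 0 < m
  hadd : ∀ a b, J (a + b) = J a + J b
  hJm : ∀ t, J^[m] t = t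
  hr₁ : r₁ ≠ 0
  hr₂ : r₂ ≠ 0
  hfree : ∀ i < m, J^[i] r₁ = r₁ → i = 0
  hcover : ∀ t : V, t ≠ 0 → ∃ i < m, J^[i] r₁ = t ∨ J^[i] r₂ = t
  hw₀ : w₀ none = some 0
  hclass : ∀ k < m, ∀ c₁ ∈ [r₁, r₂], ∀ c₂ : V, (r₂ = r₁ → c₂ = c₁) →
    candOK J m (cw J m r₁ r₂ k c₁ c₂) → ∃ i < m, ∀ x, cw J m r₁ r₂ k c₁ c₂ x = aff J i 0 (w₀ x)

/-- Coordinates on the conjugates. -/
structure Coord (J : V → V) (m : ℕ) (G : Type*) [Group G] where
  φ : G →* Equiv.Perm (Option V)
  inj : Function.Injective φ
  affine : ∀ g : G, φ g none = none → ∃ i < m, ∃ b : V, ⇑(φ g) = aff J i b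
  affine_mem : ∀ (i : ℕ) (b : V), ∃ g : G, ⇑(φ g) = aff J i b
  flip : ∃ g : G, φ g none = some 0 ∧ φ g (some 0) = none

theorem iterate_add {J : V → V} (hadd : ∀ a b, J (a + b) = J a + J b) (i : ℕ) (a b : V) :
    J^[i] (a + b) = J^[i] a + J^[i] b := by
  induction i generalizing a b with
  | zero => rfl
  | succ i ih => simp only [Function.iterate_succ_apply, hadd, ih]

theorem iterate_zero' {J : V → V} (hadd : ∀ a b, J (a + b) = J a + J b) (i : ℕ) :
    J^[i] (0 : V) = 0 := by
  have := iterate_add hadd i 0 0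
  simpa using this

theorem aff_aff {J : V → V} (hadd : ∀ a b, J (a + b) = J a + J b) (i j : ℕ) (b b' : V)
    (x : Option V) : aff J i b (aff J j b' x) = aff J (i + j) (J^[i] b' + b) x := by
  rcases x with _ | t
  · rfl
  · simp only [aff, Option.map_some, iterate_add hadd, Function.iterate_add_apply, add_assoc]

theorem aff_zero_zero (J : V → V) (x : Option V) : aff J 0 0 x = x := by
  rcases x with _ | t <;> simp [aff]

theorem aff_period {J : V → V} {m : ℕ} (hJm : ∀ t, J^[m] t = t) (b : V) (x : Option V) :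
    aff J m b x = aff J 0 b x := by
  rcases x with _ | t <;> simp [aff, hJm]

variable {G : Type*} [Group G] [Finite G] {p : ℕ} [hp : Fact p.Prime]

/-- Coordinates from a Sylow subgroup `P ≅ V` whose normalizer is `P ⋊ ⟨d⟩`. -/
theorem exists_coord [IsSimpleGroup G] (hG : ¬ IsMulCommutative G) {J : V → V} {m : ℕ}
    (hm : 0 < m) (hJm : ∀ t, J^[m] t = t) {r : V} (hfree : ∀ i < m, J^[i] r = r → i = 0)
    (hd : p ∣ Nat.card G) (hsyl : Nat.card (Sylow p G) = Fintype.card V + 1) (P Q₀ : Sylow p G)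
    (hQ₀ : Q₀ ≠ P) (hinf : ∀ Q : Sylow p G, Q ≠ P → (P : Subgroup G) ⊓ Q = ⊥)
    (hN : Nat.card ↥(Subgroup.normalizer ((P : Subgroup G) : Set G)) = Fintype.card V * m)
    (x : V → G) (hx : ∀ a b, x (a + b) = x a * x b) (hxi : Function.Injective x)
    (hxP : ∀ a, x a ∈ (P : Subgroup G)) (d : G)
    (hdN : d ∈ Subgroup.normalizer ((P : Subgroup G) : Set G)) (hdQ : d • Q₀ = Q₀)
    (hdx : ∀ t, d * x t * d⁻¹ = x (J t)) :
    Nonempty (Coord J m G) := by
  classical
  have hx0 : x 0 = 1 := by
    have := hx 0 0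
    rwa [add_zero, left_eq_mul] at this
  have hfix : ∀ y ∈ (P : Subgroup G), y • P = P := fun y hy =>
    Sylow.smul_eq_iff_mem_normalizer.2 (Subgroup.le_normalizer hy)
  have hfree' : ∀ y ∈ (P : Subgroup G), ∀ Q : Sylow p G, Q ≠ P → y • Q = Q → y = 1 := by
    intro y hy Q hQ hyQ
    have h1 : y ∈ (P : Subgroup G) ⊓ Subgroup.normalizer ((Q : Subgroup G) : Set G) :=
      ⟨hy, Sylow.smul_eq_iff_mem_normalizer.1 hyQ⟩
    have h2 : y ∈ (P : Subgroup G) ⊓ (Q : Subgroup G) := ⟨hy, ((P.2.inf_normalizer_sylow Q).le h1).2⟩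
    rw [hinf Q hQ] at h2
    exact Subgroup.mem_bot.1 h2
  let f : Option V → Sylow p G := fun o => o.elim P fun t => x t • Q₀
  have hne : ∀ y ∈ (P : Subgroup G), y • Q₀ ≠ P := fun y hy e => hQ₀ (by
    rw [← hfix y⁻¹ (inv_mem hy)]
    exact eq_inv_smul_iff.2 e)
  have hfi : Function.Injective f := by
    rintro (_ | a) (_ | b) e
    · rfl
    · exact absurd e.symm (hne _ (hxP _))
    · exact absurd e (hne _ (hxP _))
    · have h1 := hfree' ((x b)⁻¹ * x a) (mul_mem (inv_mem (hxP _)) (hxP _))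
        Q₀ hQ₀ (by rw [mul_smul]; exact inv_smul_eq_iff.2 e)
      rw [inv_mul_eq_one] at h1
      rw [hxi h1]
  have hfb : Function.Bijective f := (Nat.bijective_iff_injective_and_card f).2 ⟨hfi, by
    rw [hsyl, Nat.card_eq_fintype_card, Fintype.card_option]⟩
  let e : Option V ≃ Sylow p G := Equiv.ofBijective f hfb
  let φ : G →* Equiv.Perm (Option V) :=
    e.symm.permCongrHom.toMonoidHom.comp (MulAction.toPermHom G (Sylow p G))
  have hφ : ∀ g o, φ g o = e.symm (g • e o) := fun g o => rfl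
  have hinj : Function.Injective φ := by
    show Function.Injective (⇑e.symm.permCongrHom ∘ ⇑(MulAction.toPermHom G (Sylow p G)))
    refine Function.Injective.comp e.symm.permCongrHom.injective ?_
    rw [← MonoidHom.ker_eq_bot_iff]
    refine (eq_bot_or_top (MonoidHom.normal_ker _)).resolve_right fun ht => ?_
    refine normalizer_ne_top hG hd P (top_le_iff.1 fun g _ => ?_)
    have hg : g ∈ (MulAction.toPermHom G (Sylow p G)).ker := ht ▸ Subgroup.mem_top g
    exact Sylow.smul_eq_iff_mem_normalizer.1 (Equiv.ext_iff.1 (MonoidHom.mem_ker.1 hg) P)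
  have hdpow : ∀ (i : ℕ) (t : V), d ^ i * x t * (d ^ i)⁻¹ = x (J^[i] t) := by
    intro i t
    induction i with
    | zero => simp
    | succ i ih => rw [pow_succ', Function.iterate_succ_apply', ← hdx, ← ih]; group
  have hdQi : ∀ i : ℕ, d ^ i • Q₀ = Q₀ := fun i => by
    induction i with
    | zero => simp
    | succ i ih => rw [pow_succ, mul_smul, hdQ, ih]
  have hdPi : ∀ i : ℕ, d ^ i • P = P := fun i =>
    Sylow.smul_eq_iff_mem_normalizer.2 (pow_mem hdN i)
  have himg : ∀ (i : ℕ) (b : V), ⇑(φ (x b * d ^ i)) = aff J i b := by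
    intro i b
    funext o
    rw [hφ, Equiv.symm_apply_eq]
    rcases o with _ | t
    · show (x b * d ^ i) • P = P
      rw [mul_smul, hdPi, hfix _ (hxP b)]
    · show (x b * d ^ i) • x t • Q₀ = x (J^[i] t + b) • Q₀
      rw [add_comm, hx, mul_smul, mul_smul, ← hdpow]
      congr 1
      conv_rhs => rw [mul_smul, ← hdQi i, inv_smul_smul, mul_smul]
  -- every element of the normalizer has the form `x b * d ^ i`
  let F : V × Fin m → ↥(Subgroup.normalizer ((P : Subgroup G) : Set G)) := fun z =>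
    ⟨x z.1 * d ^ (z.2 : ℕ), mul_mem (Subgroup.le_normalizer (hxP _)) (pow_mem hdN _)⟩
  have hFi : Function.Injective F := by
    rintro ⟨a, i⟩ ⟨b, j⟩ hab
    simp only [F, Subtype.mk.injEq] at hab
    have h1 : aff J i a = aff J j b := by rw [← himg, ← himg, hab]
    have ha : a = b := by
      have := congrFun h1 (some 0)
      simp only [aff, Option.map_some, Option.some.injEq] at this
      have h0 : ∀ k : ℕ, J^[k] (0 : V) = 0 := fun k => hxi (by rw [← hdpow, hx0]; group)
      simpa [h0] using this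
    subst ha
    have h2 : J^[(i : ℕ)] r = J^[(j : ℕ)] r := by
      have := congrFun h1 (some r)
      simpa [aff] using this
    have key : ∀ i j : ℕ, i ≤ j → j < m → J^[i] r = J^[j] r → i = j := by
      intro i j hij hj h
      have h3 : J^[m - j] (J^[i] r) = r := by
        rw [h, ← Function.iterate_add_apply, Nat.sub_add_cancel hj.le, hJm]
      rw [← Function.iterate_add_apply] at h3
      rcases Nat.lt_or_ge (m - j + i) m with hlt | hge
      · have := hfree _ hlt h3; omega
      · omega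
    rcases le_total (i : ℕ) j with hij | hij
    · exact Prod.ext rfl (Fin.ext (key _ _ hij j.2 h2))
    · exact Prod.ext rfl (Fin.ext (key _ _ hij i.2 h2.symm).symm)
  have hFb : Function.Bijective F := (Nat.bijective_iff_injective_and_card F).2 ⟨hFi, by
    rw [hN, Nat.card_prod, Nat.card_eq_fintype_card, Nat.card_fin]⟩
  refine ⟨⟨φ, hinj, ?_, fun i b => ⟨_, himg i b⟩, ?_⟩⟩
  · intro g hg
    rw [hφ, Equiv.symm_apply_eq] at hg
    obtain ⟨⟨b, i⟩, hz⟩ := hFb.2 ⟨g, Sylow.smul_eq_iff_mem_normalizer.1 hg⟩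
    simp only [F, Subtype.mk.injEq] at hz
    exact ⟨i, i.2, b, by rw [← hz, himg]⟩
  obtain ⟨h, hh⟩ := MulAction.exists_smul_eq G P Q₀
  have hR : h⁻¹ • P ≠ P := fun e => hQ₀ (by
    rw [← hh]; exact (eq_inv_smul_iff.1 e.symm).symm ▸ rfl)
  obtain ⟨t, ht⟩ : ∃ t, e (some t) = h⁻¹ • P := by
    rcases ho : e.symm (h⁻¹ • P) with _ | t
    · rw [Equiv.symm_apply_eq] at ho
      exact absurd ho hR
    · exact ⟨t, ((Equiv.symm_apply_eq _).1 ho).symm⟩
  have he0 : e (some 0) = Q₀ := by
    show x 0 • Q₀ = Q₀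
    rw [hx0, one_smul]
  refine ⟨h * x t, ?_, ?_⟩
  · rw [hφ, Equiv.symm_apply_eq, he0, mul_smul]
    show h • x t • P = Q₀
    rw [hfix _ (hxP _), hh]
  · rw [hφ, Equiv.symm_apply_eq, he0, mul_smul]
    show h • e (some t) = P
    rw [ht, smul_inv_smul]

omit [Finite G] in
/-- All such groups are isomorphic to the model. -/
theorem exists_equiv_model {J : V → V} {m : ℕ} {r₁ r₂ : V} {w₀ : Option V → Option V}
    (D : Data J m r₁ r₂ w₀) (C : Coord J m G) : Nonempty (G ≃* model J w₀) := by
  classical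
  obtain ⟨φ, hinj, haff, hmem, w, hw1, hw2⟩ := C
  have hz := iterate_zero' D.hadd
  have hdiag : ∀ (a : G), φ a none = none → φ a (some 0) = some 0 →
      ∃ i < m, ⇑(φ a) = aff J i 0 := by
    intro a ha ha0
    obtain ⟨i, hi, b, he⟩ := haff a ha
    rw [he] at ha0
    simp [aff, hz] at ha0
    exact ⟨i, hi, ha0 ▸ he⟩
  -- normalise the value at `r₁`
  obtain ⟨v, c, hv1, hv2, hv3, hc⟩ : ∃ (v : G) (c : V), φ v none = some 0 ∧
      φ v (some 0) = none ∧ φ v (some r₁) = some c ∧ c ∈ [r₁, r₂] := by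
    obtain ⟨c0, hc0, hwc⟩ : ∃ c : V, c ≠ 0 ∧ φ w (some r₁) = some c := by
      rcases h : φ w (some r₁) with _ | c
      · exact absurd ((φ w).injective (h.trans hw2.symm)) (by simp [D.hr₁])
      · refine ⟨c, ?_, rfl⟩
        rintro rfl
        exact absurd ((φ w).injective (h.trans hw1.symm)) (by simp)
    obtain ⟨i, hi, hci⟩ := D.hcover c0 hc0
    obtain ⟨d, hd⟩ := hmem (m - i) 0
    have hdd : ∀ t, J^[m - i] (J^[i] t) = t := fun t => by
      rw [← Function.iterate_add_apply, Nat.sub_add_cancel hi.le, D.hJm]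
    refine ⟨d * w, J^[m - i] c0, ?_, ?_, ?_, ?_⟩
    · rw [map_mul, Equiv.Perm.mul_apply, hw1, hd]; simp [aff, hz]
    · rw [map_mul, Equiv.Perm.mul_apply, hw2, hd]; simp [aff]
    · rw [map_mul, Equiv.Perm.mul_apply, hwc, hd]; simp [aff]
    · rcases hci with rfl | rfl <;> simp [hdd]
  set σ := φ v with hσ
  have hinv1 : σ⁻¹ none = some 0 := by rw [Equiv.Perm.inv_def, Equiv.symm_apply_eq, hv2]
  have hinv2 : σ⁻¹ (some 0) = none := by rw [Equiv.Perm.inv_def, Equiv.symm_apply_eq, hv1]
  obtain ⟨μ, hμ⟩ := hmem 1 0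
  obtain ⟨k, hk, hk'⟩ : ∃ k < m, ∀ o, σ (aff J 1 0 o) = aff J k 0 (σ o) := by
    have h1 : φ (v * μ * v⁻¹) none = none := by
      rw [map_mul, map_mul, map_inv, ← hσ]
      show σ (φ μ (σ⁻¹ none)) = none
      rw [hinv1, hμ]; simp [aff, show J 0 = 0 from hz 1, hv2]
    have h2 : φ (v * μ * v⁻¹) (some 0) = some 0 := by
      rw [map_mul, map_mul, map_inv, ← hσ]
      show σ (φ μ (σ⁻¹ (some 0))) = some 0
      rw [hinv2, hμ]; simp [aff, show J 0 = 0 from hz 1, hv1]
    obtain ⟨k, hk, he⟩ := hdiag _ h1 h2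
    refine ⟨k, hk, fun o => ?_⟩
    rw [← he, map_mul, map_mul, map_inv, ← hσ, ← hμ]
    simp
  have hiter : ∀ (i : ℕ) (t : V), σ (some (J^[i] t)) = aff J (k * i) 0 (σ (some t)) := by
    intro i t
    induction i with
    | zero => rw [mul_zero, aff_zero_zero]; rfl
    | succ i ih =>
      have := hk' (some (J^[i] t))
      rw [show aff J 1 0 (some (J^[i] t)) = some (J^[i + 1] t) by
        simp [aff, Function.iterate_succ_apply']] at this
      rw [this, ih, aff_aff D.hadd, hz, add_zero, mul_add, mul_one, add_comm k]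
  obtain ⟨c', hv4⟩ : ∃ c', σ (some r₂) = some c' := by
    rcases h : σ (some r₂) with _ | t
    · have := σ.injective (h.trans hv2.symm)
      simp at this
      exact absurd this D.hr₂
    · exact ⟨t, rfl⟩
  have hc' : r₂ = r₁ → c' = c := fun e => by
    rw [e, hv3] at hv4
    exact (Option.some.inj hv4).symm
  have hcw : ∀ x, σ x = cw J m r₁ r₂ k c c' x := by
    rintro (_ | t)
    · exact hv1
    · by_cases ht : t = 0
      · subst ht; simp [cw, hv2]
      · simp only [cw, if_neg ht]
        split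
        · next i hi =>
          have := List.find?_some hi
          rw [decide_eq_true_eq] at this
          rw [← this, hiter, hv3]
          simp [aff]
        · next hnone =>
          split
          · next i hi =>
            have := List.find?_some hi
            rw [decide_eq_true_eq] at this
            rw [← this, hiter, hv4]
            simp [aff]
          · next hnone' =>
            exfalso
            rw [List.find?_eq_none] at hnone hnone'
            obtain ⟨i, hi, hi'⟩ := D.hcover t ht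
            rcases hi' with h | h
            · exact hnone i (List.mem_range.2 hi) (by simp [h])
            · exact hnone' i (List.mem_range.2 hi) (by simp [h])
  have hOK : candOK J m (cw J m r₁ r₂ k c c') := by
    refine ⟨?_, fun a ha => ?_⟩
    · obtain ⟨i, hi, he⟩ := hdiag (v * v)
        (by rw [map_mul, Equiv.Perm.mul_apply, ← hσ, hv1, hv2])
        (by rw [map_mul, Equiv.Perm.mul_apply, ← hσ, hv2, hv1])
      refine ⟨i, hi, fun x => ?_⟩
      rw [← hcw, ← hcw, ← he, map_mul, Equiv.Perm.mul_apply]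
    · obtain ⟨pre, hpre⟩ : ∃ pre, σ (some pre) = some (-a) := by
        rcases h : σ⁻¹ (some (-a)) with _ | t
        · rw [Equiv.Perm.inv_def, Equiv.symm_apply_eq, hv1] at h
          simp at h
          exact absurd h ha
        · exact ⟨t, (Equiv.symm_apply_eq σ).1 h |>.symm⟩
      obtain ⟨b, hb⟩ : ∃ b, σ (some a) = some b := by
        rcases h : σ (some a) with _ | t
        · have := σ.injective (h.trans hv2.symm)
          simp at this
          exact absurd this ha
        · exact ⟨t, rfl⟩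
      have hz' : σ (aff J 0 a (σ (some pre))) = none := by rw [hpre]; simp [aff, hv2]
      refine ⟨pre, by rw [← hcw, ← hcw]; exact hz', ?_⟩
      obtain ⟨ta, hta⟩ := hmem 0 a
      obtain ⟨tp, htp⟩ := hmem 0 pre
      obtain ⟨tb, htb⟩ := hmem 0 b
      have htb' : (φ tb)⁻¹ (some b) = some 0 := by
        rw [Equiv.Perm.inv_def, Equiv.symm_apply_eq, htb]; simp [aff]
      have htb0 : (φ tb)⁻¹ none = none := by
        rw [Equiv.Perm.inv_def, Equiv.symm_apply_eq, htb]; simp [aff]
      obtain ⟨i, hi, he⟩ := hdiag (v⁻¹ * tb⁻¹ * (v * ta * v * tp))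
        (by
          simp only [map_mul, map_inv, Equiv.Perm.mul_apply, ← hσ, hta, htp]
          rw [show aff J 0 pre none = none from rfl, hv1,
            show aff J 0 a (some 0) = some a by simp [aff], hb, htb', hinv2])
        (by
          simp only [map_mul, map_inv, Equiv.Perm.mul_apply, ← hσ, hta, htp]
          rw [show aff J 0 pre (some 0) = some pre by simp [aff], hz', htb0, hinv1])
      refine ⟨i, hi, fun x => ?_⟩
      rw [← hcw, ← hcw, ← hcw, ← hcw, hb, ← he, Option.getD_some, ← htb, ← hta, ← htp]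
      simp only [map_mul, map_inv, Equiv.Perm.mul_apply, ← hσ]
      rw [show σ (σ⁻¹ ((φ tb)⁻¹ (σ (φ ta (σ (φ tp x)))))) = (φ tb)⁻¹ (σ (φ ta (σ (φ tp x)))) by
        simp, show φ tb ((φ tb)⁻¹ (σ (φ ta (σ (φ tp x))))) = σ (φ ta (σ (φ tp x))) by simp]
  obtain ⟨i, hi, hw⟩ := D.hclass k hk c hc c' hc' hOK
  -- `w₀` lies in the image
  obtain ⟨d, hd⟩ := hmem (m - i) 0
  have hd0 : ⇑(φ (d * v)) = w₀ := funext fun x => by
    rw [map_mul, Equiv.Perm.mul_apply, hd, ← hσ, hcw, hw, aff_aff D.hadd,
      Nat.sub_add_cancel hi.le, hz, add_zero, aff_period D.hJm, aff_zero_zero]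
  refine ⟨(MonoidHom.ofInjective hinj).trans (MulEquiv.subgroupCongr (le_antisymm ?_ ?_))⟩
  · rintro _ ⟨a, rfl⟩
    have haffmem : ∀ y : G, φ y none = none → φ y ∈ model J w₀ := fun y hy => by
      obtain ⟨i, -, b, he⟩ := haff y hy
      exact Subgroup.subset_closure (Or.inl ⟨i, b, he⟩)
    rcases ho : φ a none with _ | b
    · exact haffmem a ho
    · obtain ⟨tb, htb⟩ := hmem 0 b
      have hfix : φ ((d * v)⁻¹ * tb⁻¹ * a) none = none := by
        rw [map_mul, map_mul, map_inv, map_inv, Equiv.Perm.mul_apply, Equiv.Perm.mul_apply, ho,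
          show (φ tb)⁻¹ (some b) = some 0 by
            rw [Equiv.Perm.inv_def, Equiv.symm_apply_eq, htb]; simp [aff],
          Equiv.Perm.inv_def, Equiv.symm_apply_eq, hd0, D.hw₀]
      have h1 := haffmem _ hfix
      rw [map_mul, map_mul, map_inv, map_inv] at h1
      have e : φ a = φ tb * φ (d * v) * ((φ (d * v))⁻¹ * (φ tb)⁻¹ * φ a) := by group
      rw [e]
      refine mul_mem (mul_mem (haffmem tb (by rw [htb]; rfl)) ?_) h1
      exact Subgroup.subset_closure (Or.inr hd0)
  · rw [model, Subgroup.closure_le]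
    rintro τ (⟨i, b, hτ⟩ | hτ)
    · obtain ⟨a, ha⟩ := hmem i b
      exact ⟨a, Equiv.coe_fn_injective (ha.trans hτ.symm)⟩
    · exact ⟨d * v, Equiv.coe_fn_injective (hd0.trans hτ.symm)⟩

end Cfsg.Agent.SimpleZassenhaus
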