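import Cfsg.Agent.Lib.SimpleZassenhaus
import Mathlib.Data.ZMod.Basic

/-! The finite checks for the simple groups of orders 360, 504 and 4080. -/

namespace Cfsg.Agent.SimpleZassenhausData

open SimpleZassenhaus

set_option synthInstance.maxSize 4000
set_option synthInstance.maxHeartbeats 400000

/-- Coordinates for `360`. -/
abbrev V360 := ZMod 3 × ZMod 3

/-- Multiplication by the chosen generator. -/
def J360 : V360 → V360 := fun t => (-t.2, t.1)

/-- The element interchanging the two base points. -/
def w360 : Option V360 → Option V360 := cw J360 4 (1, 0) (1, 1) 3 (1, 0) (2, 1)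

theorem data360 : Data J360 4 (1, 0) (1, 1) w360 where
  hm := by norm_num
  hadd := by decide +kernel
  hJm := by decide +kernel
  hr₁ := by decide +kernel
  hr₂ := by decide +kernel
  hfree := by decide +kernel
  hcover := by decide +kernel
  hw₀ := rfl
  hclass := by decide +kernel

/-- Coordinates for `504`. -/
abbrev V504 := ZMod 2 × ZMod 2 × ZMod 2

/-- Multiplication by the chosen generator. -/
def J504 : V504 → V504 := fun t => (t.2.2, t.1 + t.2.2, t.2.1)

/-- The element interchanging the two base points. -/
def w504 : Option V504 → Option V504 := cw J504 7 (1, 0, 0) (1, 0, 0) 6 (1, 0, 0) (1, 0, 0)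

theorem data504 : Data J504 7 (1, 0, 0) (1, 0, 0) w504 where
  hm := by norm_num
  hadd := by decide +kernel
  hJm := by decide +kernel
  hr₁ := by decide +kernel
  hr₂ := by decide +kernel
  hfree := by decide +kernel
  hcover := by decide +kernel
  hw₀ := rfl
  hclass := by decide +kernel

/-- Coordinates for `4080`. -/
abbrev V4080 := ZMod 2 × ZMod 2 × ZMod 2 × ZMod 2

/-- Multiplication by the chosen generator. -/
def J4080 : V4080 → V4080 := fun t => (t.2.2.2, t.1 + t.2.2.2, t.2.1, t.2.2.1)

/-- The element interchanging the two base points. -/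
def w4080 : Option V4080 → Option V4080 := cw J4080 15 (1, 0, 0, 0) (1, 0, 0, 0) 14 (1, 0, 0, 0) (1, 0, 0, 0)

theorem data4080 : Data J4080 15 (1, 0, 0, 0) (1, 0, 0, 0) w4080 where
  hm := by norm_num
  hadd := by decide +kernel
  hJm := by decide +kernel
  hr₁ := by decide +kernel
  hr₂ := by decide +kernel
  hfree := by decide +kernel
  hcover := by decide +kernel
  hw₀ := rfl
  hclass := by decide +kernel

end Cfsg.Agent.SimpleZassenhausData
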