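import Cfsg.Agent.Lib.SingerThree22Axes

/-!
The centres with two axes are all points, or the characteristic is two and they form one orbit.
-/

set_option autoImplicit false
set_option linter.unusedSectionVars false
set_option linter.style.haveILetI false
set_option synthInstance.maxHeartbeats 400000

namespace Cfsg.Agent.SingerThree22

open Matrix Module
open Cfsg.Agent.TransvectionMax (tv tv_act tv_add tv_zero_right tv_inv)
open Cfsg.Agent.LinSubfieldMax97 (tv_conj tv_conj_tv tv_add_left tv_smul_left)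

variable {F : Type*} [Field F] [Fintype F]
variable {K : Subalgebra F (Matrix (Fin 3) (Fin 3) F)} [hK : Fact (Cfsg.Geo.IsFieldSubalgebra 3 K)]
variable {M : Subgroup (GL (Fin 3) F)} {u : Fin 3 → F}

theorem span2_smul {s : F} (hs : s ≠ 0) (h : Span2 M u) : Span2 M (s • u) := by
  intro w hw
  obtain ⟨φ, hφ, hφw⟩ := h w fun t e => hw (t * s⁻¹) (by rw [e, smul_smul, mul_assoc, inv_mul_cancel₀ hs, mul_one])
  refine ⟨s⁻¹ • φ, (axes_smul hs).2 ?_, ?_⟩
  · rwa [smul_smul, mul_inv_cancel₀ hs, one_smul]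
  · rw [smul_dotProduct, smul_eq_mul]
    exact mul_ne_zero (inv_ne_zero hs) hφw

theorem span2_conj {g : GL (Fin 3) F} (hg : g ∈ M) (h : Span2 M u) :
    Span2 M ((g : Matrix (Fin 3) (Fin 3) F) *ᵥ u) := by
  intro w hw
  obtain ⟨φ, hφ, hφw⟩ := h (((g⁻¹ : GL (Fin 3) F) : Matrix (Fin 3) (Fin 3) F) *ᵥ w) fun t e => hw t (by
    have := congrArg (fun z => (g : Matrix (Fin 3) (Fin 3) F) *ᵥ z) e
    simpa [TransvectionMax.act_inv_act, mulVec_smul] using this)
  refine ⟨_, conj_axes hg hφ, ?_⟩
  rwa [← dotProduct_mulVec]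

theorem span2_act (hM : Over K M) (h : Span2 M u) {k : Kg K} (hk : (k : Pl K) ∈ R K) (hu : u ≠ 0) :
    Span2 M (act k u) := by
  obtain ⟨g, hgM, hg⟩ := exists_mem_of_R hM hk
  obtain ⟨s, hs⟩ := (mk_eq_iff hu).1 hg
  rw [hs]
  refine span2_smul (fun e => act_ne k hu ?_) (span2_conj hgM h)
  rw [hs, e, zero_smul]

/-- The alternative. -/
theorem centres (h4 : Fintype.card F ≠ 4) (hM : Over K M) (hu : u ≠ 0) (hsp : Span2 M u) :
    (∀ w, w ≠ 0 → Span2 M w) ∨
      (ringChar F = 2 ∧ dd F = 3 ∧ 16 ≤ Fintype.card F ∧ ∀ k : Kg K, Span2 M (act k u) → (k : Pl K) ∈ R K) := by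
  classical
  set p := ringChar F with hpdef
  obtain ⟨f, hp, hf⟩ := FiniteField.card F p
  haveI : Fact p.Prime := ⟨hp⟩
  haveI : CharP F p := ringChar.charP F
  set Rt : Subgroup (Kg K) := (R K).comap (QuotientGroup.mk' (U K)) with hRt
  let B : Set (Kg K ⧸ Rt) := QuotientGroup.mk '' {k | Span2 M (act k u)}
  have hB : {k : Kg K | Span2 M (act k u)} = QuotientGroup.mk ⁻¹' B := by
    ext k
    refine ⟨fun h => ⟨k, h, rfl⟩, ?_⟩
    rintro ⟨k', hk', e⟩
    rw [QuotientGroup.eq] at e
    have := span2_act hM hk' (k := k'⁻¹ * k) e (act_ne k' hu)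
    rw [← act_mul, mul_comm, ← mul_assoc, mul_inv_cancel, one_mul] at this
    exact this
  have hRtcard : Nat.card Rt = Nat.card (U K) * Nat.card (R K) := by
    have h := Nat.card_congr (QuotientGroup.preimageMkEquivSubgroupProdSet (U K) (R K : Set (Pl K)))
    rw [Nat.card_prod] at h
    exact h
  have hQ : Nat.card (Kg K ⧸ Rt) = dd F := by
    have h := Subgroup.card_eq_card_quotient_mul_card_subgroup Rt
    rw [hRtcard, card_Kg, card_U, ← card_R (K := K)] at h
    have hpos : 0 < Nat.card (R K) := Nat.card_pos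
    have := Fintype.one_lt_card (α := F)
    refine (Nat.eq_of_mul_eq_mul_right (m := (Fintype.card F - 1) * Nat.card (R K))
      (Nat.mul_pos (by omega) hpos) ?_).symm
    calc _ = _ := by ring
      _ = _ := h
  let O := {w : Fin 3 → F // w ≠ 0 ∧ Span2 M w}
  have hO : Nat.card O = (Fintype.card F - 1) * Nat.card (R K) * Nat.card B := by
    have e : {k : Kg K | Span2 M (act k u)} ≃ O :=
      Equiv.ofBijective (fun k => ⟨act k.1 u, act_ne k.1 hu, k.2⟩)
        ⟨fun a b e => Subtype.ext (act_injective hu (congrArg Subtype.val e)), fun w => by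
          obtain ⟨k, hk⟩ := exists_act (K := K) hu w.2.1
          exact ⟨⟨k, by show Span2 M (act k u); rw [hk]; exact w.2.2⟩, Subtype.ext hk⟩⟩
    rw [← Nat.card_congr e, hB, Nat.card_congr (QuotientGroup.preimageMkEquivSubgroupProdSet Rt B),
      Nat.card_prod, hRtcard, card_U]
  -- the transvections with centre `u`
  let P : Subgroup (GL (Fin 3) F) :=
    { carrier := {g | ∃ φ ∈ axes M u, g = tv u φ}
      mul_mem' := fun {a b} ⟨φ, hφ, ea⟩ ⟨ψ, hψ, eb⟩ =>
        ⟨φ + ψ, (axes M u).add_mem hφ hψ, by rw [ea, eb, tv_add hφ.1 hψ.1]⟩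
      one_mem' := ⟨0, (axes M u).zero_mem, (tv_zero_right u).symm⟩
      inv_mem' := fun {a} ⟨φ, hφ, ea⟩ => ⟨-φ, (axes M u).neg_mem hφ, by rw [ea, tv_inv hφ.1]⟩ }
  have hPp : IsPGroup p P := fun g => by
    obtain ⟨φ, hφ, e⟩ := g.2
    refine ⟨1, Subtype.ext ?_⟩
    rw [pow_one, Subgroup.coe_pow, e, Subgroup.coe_one]
    have hn : ∀ n : ℕ, tv u φ ^ n = tv u ((n : F) • φ) := by
      intro n
      induction n with
      | zero => rw [pow_zero, Nat.cast_zero, zero_smul, tv_zero_right]
      | succ n ih =>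
        rw [pow_succ, ih, tv_add (by rw [smul_dotProduct, hφ.1, smul_zero]) hφ.1, Nat.cast_succ, add_smul,
          one_smul]
    rw [hn, CharP.cast_eq_zero, zero_smul, tv_zero_right]
  letI : MulAction P O :=
    { smul := fun g w => ⟨((g : GL (Fin 3) F) : Matrix (Fin 3) (Fin 3) F) *ᵥ w.1,
        TransvectionMax.act_ne_zero _ w.2.1, by
          obtain ⟨φ, hφ, e⟩ := g.2
          exact span2_conj (e ▸ hφ.2) w.2.2⟩
      one_smul := fun w => Subtype.ext (TransvectionMax.one_act _)
      mul_smul := fun a b w => Subtype.ext (TransvectionMax.mul_act _ _ _) }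
  have hfix : Nat.card (MulAction.fixedPoints P O) = Fintype.card F - 1 := by
    have e : {s : F // s ≠ 0} ≃ MulAction.fixedPoints P O :=
      Equiv.ofBijective (fun s => ⟨⟨s.1 • u, smul_ne_zero s.2 hu, span2_smul s.2 hsp⟩, fun g => by
        obtain ⟨φ, hφ, e⟩ := g.2
        refine Subtype.ext ?_
        show ((g : GL (Fin 3) F) : Matrix (Fin 3) (Fin 3) F) *ᵥ (s.1 • u) = _
        rw [e, tv_act hφ.1, dotProduct_smul, hφ.1, smul_zero, zero_smul, add_zero]⟩)
        ⟨fun a b e => Subtype.ext (smul_left_injective F hu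
          (congrArg (fun x : MulAction.fixedPoints P O => x.1.1) e)), fun w => by
          by_cases hc : ∃ s : F, w.1.1 = s • u
          · obtain ⟨s, hs⟩ := hc
            refine ⟨⟨s, fun e => w.1.2.1 (by rw [hs, e, zero_smul])⟩, Subtype.ext (Subtype.ext hs.symm)⟩
          · push Not at hc
            exfalso
            obtain ⟨φ, hφ, hφw⟩ := hsp _ hc
            have := congrArg Subtype.val (w.2 ⟨tv u φ, φ, hφ, rfl⟩)
            change (tv u φ : Matrix (Fin 3) (Fin 3) F) *ᵥ w.1.1 = w.1.1 at this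
            rw [tv_act hφ.1, add_eq_left, smul_eq_zero] at this
            exact this.elim hφw hu⟩
    rw [← Nat.card_congr e, Nat.card_eq_fintype_card, Fintype.card_subtype_compl, Fintype.card_subtype_eq]
  have hmod := hPp.card_modEq_card_fixedPoints O
  rw [hO, hfix, ← ZMod.natCast_eq_natCast_iff] at hmod
  push_cast [Nat.cast_sub Fintype.card_pos] at hmod
  have hq0 : (Fintype.card F : ZMod p) = 0 := by
    rw [hf, Nat.cast_pow, ZMod.natCast_self, zero_pow f.ne_zero]
  rw [hq0, zero_sub, neg_mul, neg_mul, neg_inj, one_mul] at hmod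
  have hB0 : 1 ≤ Nat.card B := Nat.one_le_iff_ne_zero.2 fun e => by
    haveI : Nonempty B := ⟨⟨_, (1 : Kg K), by show Span2 M (act 1 u); rwa [act_one], rfl⟩⟩
    exact (Nat.card_pos (α := B)).ne' e
  have hBle : Nat.card B ≤ dd F := hQ ▸ Nat.card_le_card_of_injective _ Subtype.val_injective
  rcases eq_or_lt_of_le hBle with hBeq | hBlt
  · left
    intro w hw
    obtain ⟨k, rfl⟩ := exists_act (K := K) hu hw
    have huniv : B = Set.univ :=
      (Set.toFinite _).eq_of_subset_of_card_le (Set.subset_univ _)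
        (by rw [Nat.card_univ, hQ]; exact hBeq.ge)
    have : k ∈ QuotientGroup.mk ⁻¹' B := huniv ▸ Set.mem_univ _
    rw [← hB] at this
    exact this
  · right
    have h3 : dd F = 3 := (dd_cases (F := F)).resolve_left fun e => by omega
    have ha3 : (3 : ZMod p) * (Nat.card (R K) : ZMod p) = 1 := by
      have := congrArg (Nat.cast (R := ZMod p)) (three_a (K := K) h3)
      push_cast at this
      rw [this, hq0]; ring
    have hi : (Nat.card B : ZMod p) = 3 := by
      calc (Nat.card B : ZMod p) = 1 * Nat.card B := (one_mul _).symm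
        _ = 3 * (Nat.card (R K) * Nat.card B) := by rw [← ha3]; ring
        _ = 3 := by rw [hmod, mul_one]
    have hdvd : (p : ℤ) ∣ (3 - Nat.card B : ℤ) := by
      rw [← ZMod.intCast_zmod_eq_zero_iff_dvd]
      push_cast
      rw [hi, sub_self]
    have hp2 : p = 2 ∧ Nat.card B = 1 := by
      rw [h3] at hBlt
      rcases (show Nat.card B = 1 ∨ Nat.card B = 2 by omega) with h | h
      · rw [h] at hdvd
        refine ⟨(Nat.prime_dvd_prime_iff_eq hp Nat.prime_two).1 ?_, h⟩
        norm_num at hdvd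
        exact_mod_cast hdvd
      · rw [h] at hdvd
        norm_num at hdvd
        exact absurd (Nat.dvd_one.1 (by exact_mod_cast hdvd)) hp.one_lt.ne'
    refine ⟨hp2.1, h3, ?_, ?_⟩
    · have hd : 3 ∣ Fintype.card F - 1 := h3 ▸ Nat.gcd_dvd_left _ _
      rw [hf, hp2.1] at hd h4 ⊢
      by_contra hlt
      have : (f : ℕ) < 4 := by
        by_contra hc
        exact hlt (le_trans (by norm_num) (Nat.pow_le_pow_right (by norm_num) (show 4 ≤ (f : ℕ) by omega)))
      have := f.pos
      interval_cases hf4 : (f : ℕ) <;> omega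
    · intro k hk
      have h1 : (QuotientGroup.mk k : Kg K ⧸ Rt) ∈ B := ⟨k, hk, rfl⟩
      have h2 : (QuotientGroup.mk 1 : Kg K ⧸ Rt) ∈ B := ⟨1, by show Span2 M (act 1 u); rwa [act_one], rfl⟩
      have hss := Nat.card_eq_one_iff_unique.1 hp2.2
      have := congrArg Subtype.val (@Subsingleton.elim _ hss.1 (⟨_, h1⟩ : B) ⟨_, h2⟩)
      simp only [QuotientGroup.eq, mul_one, inv_mem_iff] at this
      exact this

end Cfsg.Agent.SingerThree22
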