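import Cfsg.Agent.Lib.SingerThree22Root
import Cfsg.Agent.Lib.SingerThree22Centres

/-!
In characteristic two the centres with two axes are not a single orbit of the norm-one part.
-/

set_option autoImplicit false
set_option linter.unusedSectionVars false
set_option linter.style.haveILetI false
set_option synthInstance.maxHeartbeats 400000

namespace Cfsg.Agent.SingerThree22

open Matrix Module
open Cfsg.Agent.TransvectionMax (tv tv_act tv_add tv_zero_right tv_inv)

variable {F : Type*} [Field F] [Fintype F]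
variable {K : Subalgebra F (Matrix (Fin 3) (Fin 3) F)} [hK : Fact (Cfsg.Geo.IsFieldSubalgebra 3 K)]
variable {M : Subgroup (GL (Fin 3) F)} {u : Fin 3 → F}

/-- The values at `w` of the axes at `u`. -/
def vals (M : Subgroup (GL (Fin 3) F)) (u w : Fin 3 → F) : AddSubgroup F :=
  ((LinearMap.applyₗ w).comp (dotProductEquiv F (Fin 3)).toLinearMap).toAddMonoidHom.comp
    (axes M u).subtype |>.range

theorem mem_vals {w : Fin 3 → F} {b : F} : b ∈ vals M u w ↔ ∃ φ ∈ axes M u, φ ⬝ᵥ w = b := by
  constructor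
  · rintro ⟨⟨φ, hφ⟩, e⟩
    exact ⟨φ, hφ, e⟩
  · rintro ⟨φ, hφ, e⟩
    exact ⟨⟨φ, hφ⟩, e⟩

theorem card_split (hu : u ≠ 0) {w ψ : Fin 3 → F} (hwu : ∀ s : F, w ≠ s • u) (hψ : ψ ≠ 0)
    (h1 : ψ ⬝ᵥ u = 0) (h2 : ψ ⬝ᵥ w = 0) :
    Nat.card (axes M u) = Nat.card (scal M u ψ) * Nat.card (vals M u w) := by
  set f := ((LinearMap.applyₗ w).comp (dotProductEquiv F (Fin 3)).toLinearMap).toAddMonoidHom.comp
    (axes M u).subtype with hf
  have e : scal M u ψ ≃ f.ker :=
    Equiv.ofBijective (fun s => ⟨⟨s.1 • ψ, mem_scal.1 s.2⟩, by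
        show (s.1 • ψ) ⬝ᵥ w = 0
        rw [smul_dotProduct, h2, smul_zero]⟩)
      ⟨fun a b e => Subtype.ext (smul_left_injective F hψ (congrArg (fun x : f.ker => x.1.1) e)), fun x => by
        obtain ⟨s, hs⟩ := prop_of_kills hu hwu hψ h1 h2 x.1.2.1 x.2
        exact ⟨⟨s, mem_scal.2 (hs ▸ x.1.2)⟩, Subtype.ext (Subtype.ext hs.symm)⟩⟩
  rw [AddSubgroup.card_eq_card_quotient_mul_card_addSubgroup f.ker, ← Nat.card_congr e, mul_comm,
    Nat.card_congr (QuotientAddGroup.quotientKerEquivRange f).toEquiv]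
  rfl

theorem two_pow_of_dvd {n : ℕ} {q f : ℕ} (hq : q = 2 ^ f) (h : n ∣ q) : n = 1 ∨ n = 2 ∨ 4 ∣ n := by
  obtain ⟨k, -, rfl⟩ := (Nat.dvd_prime_pow Nat.prime_two).1 (hq ▸ h)
  match k with
  | 0 => exact Or.inl rfl
  | 1 => exact Or.inr (Or.inl rfl)
  | k + 2 => exact Or.inr (Or.inr (dvd_mul_of_dvd_right (dvd_refl 4) (2 ^ k) |> (by simpa [pow_add] using ·)))

/-- The number of centres on a line other than `u` is divisible by the number of values. -/
theorem vals_dvd (hM : Over K M) (hu : u ≠ 0) (hsp : Span2 M u)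
    (hR : ∀ k : Kg K, Span2 M (act k u) → (k : Pl K) ∈ R K) {w ψ : Fin 3 → F}
    (hwu : ∀ s : F, w ≠ s • u) (hψ : ψ ≠ 0) (h1 : ψ ⬝ᵥ u = 0) (h2 : ψ ⬝ᵥ w = 0) :
    Nat.card (vals M u w) ∣ cnt K u ψ - 1 := by
  classical
  let Y : Set F := {β | Span2 M (w + β • u)}
  have hinv : Y = QuotientAddGroup.mk ⁻¹' (QuotientAddGroup.mk '' Y : Set (F ⧸ vals M u w)) := by
    ext β
    refine ⟨fun h => ⟨β, h, rfl⟩, ?_⟩
    rintro ⟨β', hβ', e⟩
    rw [QuotientAddGroup.eq, mem_vals] at e
    obtain ⟨φ, hφ, hφw⟩ := e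
    have := span2_conj hφ.2 hβ'
    rw [tv_act hφ.1, dotProduct_add, dotProduct_smul, hφ.1, smul_zero, add_zero, hφw, add_assoc,
      ← add_smul, add_neg_cancel_left] at this
    exact this
  have h0 : ∀ β : F, w + β • u ≠ 0 := fun β e => hwu (-β) (by rw [neg_smul]; exact eq_neg_of_add_eq_zero_left e)
  have hone : (1 : Pl K) ∈ A K u ψ := by
    rw [← QuotientGroup.mk_one, mem_A hu, act_one]; exact h1
  have e : {x : {x : R K // (x : Pl K) ∈ A K u ψ} // x ≠ ⟨1, hone⟩} ≃ Y := by
    refine (Equiv.ofBijective (fun β : Y => ?_) ?_).symm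
    · refine ⟨⟨⟨((exists_act (K := K) hu (h0 β.1)).choose : Pl K), hR _ ?_⟩, (mem_A hu).2 ?_⟩, fun e => ?_⟩
      · rw [(exists_act (K := K) hu (h0 β.1)).choose_spec]; exact β.2
      · rw [(exists_act (K := K) hu (h0 β.1)).choose_spec, dotProduct_add, dotProduct_smul, h2, h1,
          smul_zero, add_zero]
      · have h3 := congrArg (fun x : {x : R K // (x : Pl K) ∈ A K u ψ} => (x.1 : Pl K)) e
        simp only [OneMemClass.coe_one] at h3
        obtain ⟨s, hs⟩ := (mk_eq_iff hu (g := (1 : Kg K))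
          (h := (exists_act (K := K) hu (h0 β.1)).choose)).1 (by rw [QuotientGroup.mk_one]; exact h3.symm)
        rw [(exists_act (K := K) hu (h0 β.1)).choose_spec, act_one] at hs
        exact hwu (s - β.1) (by rw [sub_smul, ← hs, add_sub_cancel_right])
    · constructor
      · intro a b e
        have h3 := congrArg (fun x => ((x.1 : {x : R K // (x : Pl K) ∈ A K u ψ}).1 : Pl K)) e
        obtain ⟨s, hs⟩ := (mk_eq_iff hu).1 h3
        rw [(exists_act (K := K) hu (h0 b.1)).choose_spec, (exists_act (K := K) hu (h0 a.1)).choose_spec] at hs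
        have hs1 : s = 1 := by
          by_contra hne
          have h4 : (1 - s) • w = (s * a.1 - b.1) • u := by
            rw [sub_smul, sub_smul, one_smul, ← smul_smul, sub_eq_sub_iff_add_eq_add, hs, smul_add]
            abel
          exact hwu ((1 - s)⁻¹ * (s * a.1 - b.1)) (by
            rw [← smul_smul, ← h4, smul_smul, inv_mul_cancel₀ (sub_ne_zero.2 (Ne.symm hne)), one_smul])
        rw [hs1, one_smul, add_right_inj] at hs
        exact Subtype.ext (smul_left_injective F hu hs).symm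
      · rintro ⟨x, hx⟩
        obtain ⟨g, hg, hgx⟩ := exists_mem_of_R hM x.1.2
        have hgu : ∀ s : F, act g u ≠ s • u := fun s e => hx (Subtype.ext (Subtype.ext (by
          rw [← hgx]
          show (g : Pl K) = 1
          rw [← QuotientGroup.mk_one, eq_comm, mk_eq_iff hu, act_one]
          exact ⟨s, e⟩)))
        have hψg : ψ ⬝ᵥ act g u = 0 := (mem_A hu).1 (hgx ▸ x.2)
        -- the point is on the line through `u` and `w`
        have hli : LinearIndependent F ![w, u] :=
          linearIndependent_fin2.2 ⟨by simpa using hu, fun s hs => hwu s (by simpa using hs.symm)⟩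
        have hW : Submodule.span F (Set.range ![w, u]) = LinearMap.ker (row ψ) := by
          refine Submodule.eq_of_le_of_finrank_eq (Submodule.span_le.2 ?_) ?_
          · rintro _ ⟨i, rfl⟩
            fin_cases i <;> simp [h1, h2]
          · rw [finrank_span_eq_card hli, finrank_ker_row hψ, Fintype.card_fin]
        have hmem : act g u ∈ Submodule.span F (Set.range ![w, u]) := by rw [hW]; exact hψg
        rw [Submodule.mem_span_range_iff_exists_fun] at hmem
        obtain ⟨c, hc⟩ := hmem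
        rw [Fin.sum_univ_two] at hc
        simp only [Matrix.cons_val_zero, Matrix.cons_val_one] at hc
        have hc0 : c 0 ≠ 0 := fun e => hgu (c 1) (by rw [← hc, e, zero_smul, zero_add])
        have hpt : w + ((c 0)⁻¹ * c 1) • u = (c 0)⁻¹ • act g u := by
          rw [← hc, smul_add, smul_smul, smul_smul, inv_mul_cancel₀ hc0, one_smul]
        have hY : ((c 0)⁻¹ * c 1) ∈ Y := by
          show Span2 M _
          rw [hpt]
          exact span2_smul (inv_ne_zero hc0) (span2_conj hg hsp)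
        refine ⟨⟨_, hY⟩, Subtype.ext (Subtype.ext (Subtype.ext ?_))⟩
        show ((exists_act (K := K) hu (h0 _)).choose : Pl K) = x.1
        rw [← hgx, eq_comm, mk_eq_iff hu]
        exact ⟨(c 0)⁻¹, by rw [(exists_act (K := K) hu (h0 _)).choose_spec, hpt]⟩
  have h3 := Nat.card_congr (QuotientAddGroup.preimageMkEquivAddSubgroupProdSet (vals M u w)
    (QuotientAddGroup.mk '' Y))
  rw [← hinv, Nat.card_prod] at h3
  haveI := Fintype.ofFinite {x : R K // (x : Pl K) ∈ A K u ψ}
  have hcard : Nat.card {x : {x : R K // (x : Pl K) ∈ A K u ψ} // x ≠ ⟨1, hone⟩} = cnt K u ψ - 1 := by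
    rw [cnt, Nat.card_eq_fintype_card, Nat.card_eq_fintype_card, Fintype.card_subtype_compl,
      Fintype.card_subtype_eq]
  exact Dvd.intro _ (h3.symm.trans (by rw [← Nat.card_congr e, hcard]))

/-- The single orbit is impossible. -/
theorem false_of_one_orbit (h4 : Fintype.card F ≠ 4) (hM : Over K M) (hu : u ≠ 0) (hsp : Span2 M u)
    (hp : ringChar F = 2) (h3 : dd F = 3) (h16 : 16 ≤ Fintype.card F)
    (hR : ∀ k : Kg K, Span2 M (act k u) → (k : Pl K) ∈ R K) : False := by
  classical
  obtain ⟨f, -, hf⟩ := FiniteField.card F (ringChar F)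
  rw [hp] at hf
  set q := Fintype.card F with hq
  set a := Nat.card (R K) with hadef
  have ha := three_a (K := K) h3
  rw [← hadef, ← hq] at ha
  have h4q : 4 ∣ q := by
    rw [hf]
    refine pow_dvd_pow 2 (show 2 ≤ (f : ℕ) from ?_)
    by_contra hc
    have : (f : ℕ) = 1 := by have := f.pos; omega
    rw [hf, this] at h16
    norm_num at h16
  have hvals2 : ∀ w : Fin 3 → F, Nat.card (vals M u w) ∣ q := fun w => by
    rw [hq, ← Nat.card_eq_fintype_card]; exact AddSubgroup.card_addSubgroup_dvd_card _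
  have hvals1 : ∀ w : Fin 3 → F, (∀ s : F, w ≠ s • u) → 1 < Nat.card (vals M u w) := fun w hw => by
    obtain ⟨φ, hφ, hφw⟩ := hsp w hw
    rw [Finite.one_lt_card_iff_nontrivial]
    refine ⟨⟨0, ⟨φ ⬝ᵥ w, mem_vals.2 ⟨φ, hφ, rfl⟩⟩, fun e => hφw ?_⟩⟩
    exact (congrArg Subtype.val e).symm
  have hkey : ∀ ψ : Fin 3 → F, ψ ≠ 0 → ψ ⬝ᵥ u = 0 → ∃ w : Fin 3 → F, (∀ s : F, w ≠ s • u) ∧ ψ ⬝ᵥ w = 0 := by
    intro ψ hψ h1
    by_contra hall
    push Not at hall
    have hle : LinearMap.ker (row ψ) ≤ Submodule.span F {u} := fun w hw => by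
      rw [Submodule.mem_span_singleton]
      by_contra hne
      push Not at hne
      exact hall w (fun s e => hne s e.symm) hw
    have := Submodule.finrank_mono hle
    rw [finrank_ker_row hψ, finrank_span_singleton hu] at this
    omega
  -- some line meets the orbit in a number of points which is not one modulo four
  have hone : ∀ {ψ : Fin 3 → F}, ψ ⬝ᵥ u = 0 → ((1 : R K) : Pl K) ∈ A K u ψ := fun {ψ} h1 => by
    rw [OneMemClass.coe_one, ← QuotientGroup.mk_one, mem_A hu, act_one]; exact h1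
  obtain ⟨ψ0, hψ0, hψ0u, hn0⟩ : ∃ ψ : Fin 3 → F, ψ ≠ 0 ∧ ψ ⬝ᵥ u = 0 ∧ ¬ 4 ∣ cnt K u ψ - 1 := by
    by_contra hall
    push Not at hall
    haveI := Fintype.ofFinite (R K)
    have hpt : ∀ x : R K, ∃ g : Kg K, (g : Pl K) = (x : Pl K) := fun x => QuotientGroup.mk_surjective _
    choose pt hpt using hpt
    let key : R K → Submodule F (Fin 3 → F) := fun x => Submodule.span F {u, act (pt x) u}
    have hdvd : 4 ∣ ((Finset.univ : Finset (R K)).erase 1).card := by
      rw [Finset.card_eq_sum_card_fiberwise (f := key) (t := ((Finset.univ : Finset (R K)).erase 1).image key)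
        (fun x hx => Finset.mem_coe.2 (Finset.mem_image_of_mem key hx))]
      refine Finset.dvd_sum fun L hL => ?_
      obtain ⟨x0, hx0, rfl⟩ := Finset.mem_image.1 hL
      obtain ⟨ψ, hψ, e1, e2⟩ := exists_common_zero u (act (pt x0) u)
      rw [dotProduct_comm] at e1 e2
      have hx1 : x0 ≠ 1 := (Finset.mem_erase.1 hx0).1
      have hxu : ∀ s : F, act (pt x0) u ≠ s • u := fun s e => hx1 (Subtype.ext (by
        rw [← hpt x0, OneMemClass.coe_one, ← QuotientGroup.mk_one, eq_comm, mk_eq_iff hu, act_one]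
        exact ⟨s, e⟩))
      suffices hcs : (((Finset.univ : Finset (R K)).erase 1).filter fun x => key x = key x0).card =
          cnt K u ψ - 1 by
        rw [hcs]; exact hall ψ hψ e1
      have e : {x : R K // x ∈ (((Finset.univ : Finset (R K)).erase 1).filter fun x => key x = key x0)} ≃
          {x : {x : R K // (x : Pl K) ∈ A K u ψ} // x ≠ ⟨1, hone e1⟩} :=
        { toFun := fun x => ⟨⟨x.1, by
            have hx := (Finset.mem_filter.1 x.2).2
            have hle : Submodule.span F {u, act (pt x0) u} ≤ LinearMap.ker (row ψ) :=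
              Submodule.span_le.2 (by rintro _ (rfl | rfl) <;> simp [e1, e2])
            have hmem : act (pt x.1) u ∈ key x.1 := Submodule.subset_span (by simp)
            rw [hx] at hmem
            rw [← hpt x.1]
            exact (mem_A hu).2 (hle hmem)⟩, fun e =>
            (Finset.mem_erase.1 (Finset.mem_filter.1 x.2).1).1 (Subtype.ext_iff.1 e)⟩
          invFun := fun x => ⟨x.1.1, by
            rw [Finset.mem_filter]
            refine ⟨Finset.mem_erase.2 ⟨fun e => x.2 (Subtype.ext e), Finset.mem_univ _⟩, ?_⟩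
            have hxψ : ψ ⬝ᵥ act (pt x.1.1) u = 0 := (mem_A hu).1 (by rw [hpt]; exact x.1.2)
            have hne : ∀ s : F, act (pt x.1.1) u ≠ s • u := fun s e => x.2 (Subtype.ext (Subtype.ext (by
              rw [← hpt x.1.1, OneMemClass.coe_one, ← QuotientGroup.mk_one, eq_comm, mk_eq_iff hu, act_one]
              exact ⟨s, e⟩)))
            have hgen : ∀ z : Fin 3 → F, (∀ s : F, z ≠ s • u) → ψ ⬝ᵥ z = 0 →
                Submodule.span F {u, z} = LinearMap.ker (row ψ) := by
              intro z hz hzψ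
              have hli : LinearIndependent F ![z, u] :=
                linearIndependent_fin2.2 ⟨by simpa using hu, fun s hs => hz s (by simpa using hs.symm)⟩
              rw [show ({u, z} : Set (Fin 3 → F)) = Set.range ![z, u] by
                simp [Matrix.range_cons, Matrix.range_empty, Set.pair_comm]]
              refine Submodule.eq_of_le_of_finrank_eq (Submodule.span_le.2 ?_) ?_
              · rintro _ ⟨i, rfl⟩
                fin_cases i <;> simp [hzψ, e1]
              · rw [finrank_span_eq_card hli, finrank_ker_row hψ, Fintype.card_fin]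
            exact (hgen _ hne hxψ).trans (hgen _ hxu e2).symm⟩
          left_inv := fun x => rfl
          right_inv := fun x => rfl }
      haveI := Fintype.ofFinite {x : R K // (x : Pl K) ∈ A K u ψ}
      rw [← Fintype.card_coe, ← Nat.card_eq_fintype_card, Nat.card_congr e, Nat.card_eq_fintype_card,
        Fintype.card_subtype_compl, Fintype.card_subtype_eq, ← Nat.card_eq_fintype_card, ← cnt]
    rw [Finset.card_erase_of_mem (Finset.mem_univ _), Finset.card_univ, ← Nat.card_eq_fintype_card,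
      ← hadef] at hdvd
    obtain ⟨j, hj⟩ := h4q
    have h1a : 1 ≤ a := hadef ▸ Nat.card_pos
    rw [hj, show (4 * j) ^ 2 = 4 * (4 * j * j) by ring] at ha
    omega
  obtain ⟨w0, hw0, hψw0⟩ := hkey ψ0 hψ0 hψ0u
  have hB2 : Nat.card (vals M u w0) = 2 := by
    rcases two_pow_of_dvd hf (hvals2 w0) with h | h | h
    · have := hvals1 w0 hw0; omega
    · exact h
    · exact absurd (h.trans (vals_dvd hM hu hsp hR hw0 hψ0 hψ0u hψw0)) hn0
  have hT : Nat.card (axes M u) = Nat.card (scal M u ψ0) * 2 := by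
    rw [card_split hu hw0 hψ0 hψ0u hψw0, hB2]
  have hc0 : 2 ≤ cnt K u ψ0 := by
    by_contra hc
    have := (cnt_le_one (K := K) h4 hu hψ0 (by omega)).1
    omega
  -- the axis group at `ψ0` has order at most two
  have hA0le : Nat.card (scal M u ψ0) ≤ 2 := by
    by_contra hgt
    haveI : Nontrivial {x : R K // (x : Pl K) ∈ A K u ψ0} := by
      rw [← Finite.one_lt_card_iff_nontrivial]; unfold cnt at hc0; omega
    obtain ⟨x, hx⟩ := exists_ne (⟨1, hone hψ0u⟩ : {x : R K // (x : Pl K) ∈ A K u ψ0})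
    obtain ⟨g, hgM, hgx⟩ := exists_mem_of_R hM x.1.2
    have hgψ : ψ0 ⬝ᵥ act g u = 0 := (mem_A hu).1 (hgx ▸ x.2)
    have hgu : ∀ s : F, act g u ≠ s • u := fun s e => hx (Subtype.ext (Subtype.ext (by
      rw [← hgx, OneMemClass.coe_one, ← QuotientGroup.mk_one, eq_comm, mk_eq_iff hu, act_one]
      exact ⟨s, e⟩)))
    set χ := ψ0 ᵥ* ((g : GL (Fin 3) F) : Matrix (Fin 3) (Fin 3) F) with hχ
    have hχ0 : χ ≠ 0 := fun e => hψ0
      (Matrix.vecMul_injective_of_isUnit (Units.isUnit _) (e.trans (Matrix.zero_vecMul _).symm))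
    have hχu : χ ⬝ᵥ u = 0 := by rw [hχ, ← dotProduct_mulVec]; exact hgψ
    have hcard : 2 < Nat.card (scal M u χ) := by
      refine lt_of_lt_of_le (lt_of_lt_of_le (lt_of_not_ge hgt)
        (card_scal_le hu hgu (span2_conj hgM hsp) hgψ)) ?_
      refine Nat.card_le_card_of_injective (fun s => ⟨s.1, ?_⟩)
        fun s t e => Subtype.ext (congrArg (fun z : scal M u χ => (z : F)) e)
      rw [mem_scal, hχ, ← smul_vecMul]
      exact pull_axes hgM (mem_scal.1 s.2)
    have hinj : Nat.card (scal M u χ) ≤ Nat.card (vals M u w0) := by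
      refine Nat.card_le_card_of_injective (fun s => ⟨(s.1 • χ) ⬝ᵥ w0, mem_vals.2 ⟨_, s.2, rfl⟩⟩) fun s t e => ?_
      have h := Subtype.ext_iff.1 e
      simp only [smul_dotProduct, smul_eq_mul] at h
      rcases mul_eq_mul_right_iff.1 h with h' | h'
      · exact Subtype.ext h'
      · exfalso
        obtain ⟨c, hc⟩ := prop_of_kills hu hw0 hψ0 hψ0u hψw0 hχu h'
        have hU := mem_U_of_fix hψ0 (hχ ▸ hc)
        obtain ⟨z, hz⟩ := hU
        exact hgu z (by show _ *ᵥ u = _; rw [hz, smul_mulVec, one_mulVec])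
    omega
  have hA0 : Nat.card (scal M u ψ0) = 2 := by
    refine le_antisymm hA0le ?_
    by_contra hlt
    have hc2 : Nat.card (axes M u) ≤ 2 := by
      have := Nat.card_pos (α := scal M u ψ0)
      omega
    -- two elements only: a common zero off `u`
    obtain ⟨φ, hφ, hφw⟩ := hsp w0 hw0
    have hφ0 : φ ≠ 0 := fun e => hφw (by rw [e, zero_dotProduct])
    obtain ⟨w, hw, hφz⟩ := hkey φ hφ0 hφ.1
    obtain ⟨φ', hφ', hφ'w⟩ := hsp w hw
    have h3 : 3 ≤ Nat.card (axes M u) := by
      haveI := Fintype.ofFinite (axes M u)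
      rw [Nat.card_eq_fintype_card]
      have hφ'0 : φ' ≠ 0 := fun e => hφ'w (by rw [e, zero_dotProduct])
      refine le_trans (le_of_eq (Finset.card_eq_three.2
        ⟨(0 : axes M u), ⟨φ, hφ⟩, ⟨φ', hφ'⟩, fun e => hφ0 (congrArg Subtype.val e).symm,
          fun e => hφ'0 (congrArg Subtype.val e).symm, fun e => hφ'w ?_, rfl⟩).symm) (Finset.card_le_univ _)
      rw [← show φ = φ' from congrArg Subtype.val e]
      exact hφz
    omega
  rw [hA0] at hT
  -- three centres on the axis
  have hc3 : cnt K u ψ0 = 3 := by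
    have hle : cnt K u ψ0 ≤ 3 := by
      have hne : ∀ x : {x : R K // (x : Pl K) ∈ A K u ψ0}, ∃ g : Kg K, (g : Pl K) = (x.1 : Pl K) ∧
          ∃ s : F, s ≠ 0 ∧ s • (ψ0 ᵥ* ((g : GL (Fin 3) F) : Matrix (Fin 3) (Fin 3) F)) ∈ axes M u := by
        intro x
        obtain ⟨g, hgM, hgx⟩ := exists_mem_of_R hM x.1.2
        have hgψ : ψ0 ⬝ᵥ act g u = 0 := (mem_A hu).1 (hgx ▸ x.2)
        refine ⟨g, hgx, ?_⟩
        have hcard : 2 ≤ Nat.card (scal M (act g u) ψ0) := by
          by_cases hgu : ∃ s : F, act g u = s • u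
          · obtain ⟨s, hs⟩ := hgu
            rw [hs, card_scal_smul (fun e => act_ne g hu (by rw [hs, e, zero_smul])), hA0]
          · push Not at hgu
            exact le_trans hA0.ge (card_scal_le hu hgu (span2_conj hgM hsp) hgψ)
        haveI : Nontrivial (scal M (act g u) ψ0) := by
          rw [← Finite.one_lt_card_iff_nontrivial]; omega
        obtain ⟨s, hs⟩ := exists_ne (0 : scal M (act g u) ψ0)
        refine ⟨s.1, fun e => hs (Subtype.ext e), ?_⟩
        rw [← smul_vecMul]
        exact pull_axes hgM (mem_scal.1 s.2)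
      choose g hg s hs hmem using hne
      let f : {x : R K // (x : Pl K) ∈ A K u ψ0} → {φ : axes M u // φ ≠ 0} := fun x => ⟨⟨_, hmem x⟩, fun e => by
        have h := congrArg Subtype.val e
        rcases smul_eq_zero.1 h with h' | h'
        · exact hs x h'
        · exact hψ0 (Matrix.vecMul_injective_of_isUnit (Units.isUnit _) (h'.trans (Matrix.zero_vecMul _).symm))⟩
      have hinj : Function.Injective f := fun x y e => by
        have h := congrArg (fun z : {φ : axes M u // φ ≠ 0} => z.1.1) e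
        simp only [f] at h
        have h2 : ψ0 ᵥ* ((g x : GL (Fin 3) F) : Matrix (Fin 3) (Fin 3) F) =
            ((s x)⁻¹ * s y) • (ψ0 ᵥ* ((g y : GL (Fin 3) F) : Matrix (Fin 3) (Fin 3) F)) := by
          rw [← smul_smul, ← h, smul_smul, inv_mul_cancel₀ (hs x), one_smul]
        have h3 := mk_eq_of_axis hψ0 (mul_ne_zero (inv_ne_zero (hs x)) (hs y)) h2
        rw [hg, hg] at h3
        exact Subtype.ext (Subtype.ext h3)
      haveI := Fintype.ofFinite (axes M u)
      refine (Nat.card_le_card_of_injective f hinj).trans ?_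
      rw [Nat.card_eq_fintype_card, Fintype.card_subtype_compl, Fintype.card_subtype_eq,
        ← Nat.card_eq_fintype_card, hT]
    have h2 := hB2 ▸ vals_dvd hM hu hsp hR hw0 hψ0 hψ0u hψw0
    omega
  obtain ⟨x, y, e1, e2⟩ := profile' (K := K) h3 hu hψ0
  have hq16 : q = 16 := by
    have := (arith_bound (three_a (K := K) h3) e1 e2).2.2.2 hc3
    omega
  -- a line through `u` which is not an axis
  obtain ⟨ψ, hψu, hψ⟩ : ∃ ψ : Fin 3 → F, ψ ⬝ᵥ u = 0 ∧ ∀ (s : F) (φ : axes M u), ψ ≠ s • φ.1 := by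
    by_contra hall
    push Not at hall
    have hker : Nat.card (LinearMap.ker (row u)) = q ^ 2 := by
      rw [Module.natCard_eq_pow_finrank (K := F) (V := LinearMap.ker (row u)), finrank_ker_row hu,
        Nat.card_eq_fintype_card, hq]
    choose s φ hsφ using fun x : LinearMap.ker (row u) =>
      hall x.1 (by rw [dotProduct_comm]; exact x.2)
    have := Nat.card_le_card_of_injective (fun x => (s x, φ x)) fun x y e => Subtype.ext (by
      have e1 : s x = s y := congrArg Prod.fst e
      have e2 : φ x = φ y := congrArg Prod.snd e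
      rw [hsφ x, hsφ y, e1, e2])
    rw [hker, Nat.card_prod, Nat.card_eq_fintype_card, hT, ← hq, hq16] at this
    norm_num at this
  have hψ0' : ψ ≠ 0 := fun e => hψ 0 0 (by rw [e, zero_smul])
  obtain ⟨w, hw, hψw⟩ := hkey ψ hψ0' hψu
  have hA : Nat.card (scal M u ψ) = 1 := by
    rw [Nat.card_eq_one_iff_unique]
    refine ⟨⟨fun a b => ?_⟩, ⟨0⟩⟩
    have hz : ∀ c : scal M u ψ, (c : F) = 0 := fun c => by
      by_contra hc
      refine hψ (c : F)⁻¹ ⟨_, mem_scal.1 c.2⟩ ?_
      rw [smul_smul, inv_mul_cancel₀ hc, one_smul]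
    exact Subtype.ext ((hz a).trans (hz b).symm)
  have hB4 := card_split (M := M) hu hw hψ0' hψu hψw
  rw [hA, one_mul, hT] at hB4
  have hdvd := hB4.symm ▸ vals_dvd hM hu hsp hR hw hψ0' hψu hψw
  obtain ⟨x', y', e1', e2'⟩ := profile' (K := K) h3 hu hψ0'
  rw [← hadef, ← hq, hq16] at e2'
  rw [← hq, hq16] at e1'
  rw [hq16] at ha
  have := arith_sixteen e1' (by omega)
  omega

end Cfsg.Agent.SingerThree22
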