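import Cfsg.Agent.Lib.SingerThree22Count

/-!
A solvable group containing the norm-one part of a cubic field of matrices normalises the field.
-/

set_option autoImplicit false
set_option linter.unusedSectionVars false
set_option linter.style.haveILetI false
set_option synthInstance.maxHeartbeats 400000
set_option maxHeartbeats 1600000

namespace Cfsg.Agent.SingerThree22

open Matrix Module
open scoped commutatorElement

variable {F : Type*} [Field F] [Fintype F]
variable {K : Subalgebra F (Matrix (Fin 3) (Fin 3) F)} [hK : Fact (Cfsg.Geo.IsFieldSubalgebra 3 K)]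

theorem exists_gen :
    ∃ c : Kg K, (c : GL (Fin 3) F) ∈ Cfsg.Geo.specialLinear (Fin 3) F ∧ orderOf c = vv F := by
  haveI := isCyclic_Kg (K := K)
  obtain ⟨g, hg⟩ := IsCyclic.exists_ofOrder_eq_natCard (α := Kg K)
  refine ⟨g ^ (Fintype.card F - 1), ?_, ?_⟩
  · rw [Cfsg.Geo.specialLinear, MonoidHom.mem_ker, SubgroupClass.coe_pow, map_pow]
    exact Units.ext (by
      rw [Units.val_pow_eq_pow_val, Units.val_one, FiniteField.pow_card_sub_one_eq_one _ (Units.ne_zero _)])
  · have := Fintype.one_lt_card (α := F)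
    rw [orderOf_pow' g (by omega), hg, card_Kg, Nat.gcd_eq_right (Dvd.intro _ rfl), Nat.mul_div_cancel_left _ (by omega)]

theorem scal_det {g : GL (Fin 3) F} (hg : g ∈ Cfsg.Geo.specialLinear (Fin 3) F) {s : F}
    (hs : (g : Matrix (Fin 3) (Fin 3) F) = s • 1) : s ^ 3 = 1 := by
  have h : (g : Matrix (Fin 3) (Fin 3) F).det = 1 := by
    simpa [Cfsg.Geo.specialLinear, MonoidHom.mem_ker, Units.ext_iff] using hg
  rw [hs, det_smul, det_one, mul_one, Fintype.card_fin] at h
  exact h

/-- A power of the generator is scalar only for multiples of a third of its order. -/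
theorem dvd_of_scal {c : Kg K} (hc : (c : GL (Fin 3) F) ∈ Cfsg.Geo.specialLinear (Fin 3) F)
    (ho : orderOf c = vv F) {k : ℕ} {s : F}
    (h : ((((c : GL (Fin 3) F) ^ k) : GL (Fin 3) F) : Matrix (Fin 3) (Fin 3) F) = s • 1) : vv F ∣ 3 * k := by
  rw [← ho, orderOf_dvd_iff_pow_eq_one]
  refine Subtype.ext (Units.ext ?_)
  rw [Subgroup.coe_pow, mul_comm, pow_mul, Units.val_pow_eq_pow_val, h, _root_.smul_pow,
    scal_det ((Cfsg.Geo.specialLinear (Fin 3) F).pow_mem hc k) h, one_pow, one_smul]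
  rfl

theorem seven_le_vv : 7 ≤ vv F := by
  have h := Fintype.one_lt_card (α := F)
  have : 2 ^ 2 ≤ Fintype.card F ^ 2 := Nat.pow_le_pow_left h 2
  rw [vv_eq]
  omega

theorem not_scal_pow {c : Kg K} (hc : (c : GL (Fin 3) F) ∈ Cfsg.Geo.specialLinear (Fin 3) F)
    (ho : orderOf c = vv F) {k : ℕ} (hk : 1 ≤ k) (hk3 : k ≤ 3) (s : F) :
    ((((c : GL (Fin 3) F) ^ k) : GL (Fin 3) F) : Matrix (Fin 3) (Fin 3) F) ≠ s • 1 := by
  intro h
  have hd := dvd_of_scal hc ho h
  have h7 := seven_le_vv (F := F)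
  have := Nat.le_of_dvd (by omega) hd
  have hodd : Odd (vv F) := by
    rw [vv_eq, show Fintype.card F ^ 2 + Fintype.card F + 1 =
      Fintype.card F * (Fintype.card F + 1) + 1 by ring]
    exact (Nat.even_mul_succ_self _).add_one
  obtain ⟨j, hj⟩ := hodd
  interval_cases k
  · omega
  · omega
  · have : vv F = 9 := by
      obtain ⟨t, ht⟩ := hd
      rcases t with _ | _ | t
      · omega
      · omega
      · nlinarith
    have hq : Fintype.card F ≤ 3 := by
      by_contra hlt
      have : 4 ^ 2 ≤ Fintype.card F ^ 2 := Nat.pow_le_pow_left (by omega) 2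
      rw [vv_eq] at *
      omega
    have := Fintype.one_lt_card (α := F)
    rw [vv_eq] at *
    interval_cases h : Fintype.card F <;> omega

/-- A matrix commuting with a non-scalar element of the field lies in the field. -/
theorem mem_of_commute {k x : Matrix (Fin 3) (Fin 3) F} (hk : k ∈ K) (hns : ∀ s : F, k ≠ s • 1)
    (h : x * k = k * x) : x ∈ K := by
  obtain ⟨v, hv⟩ := exists_ne_zero (F := F)
  obtain ⟨a, ha⟩ := (SingerPrime.act_bij (by norm_num) hK.out hv).2 (x *ᵥ v)
  simp only at ha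
  set y := x - (a : Matrix (Fin 3) (Fin 3) F) with hy
  have hyk : y * k = k * y := by rw [hy, sub_mul, mul_sub, h, hK.out.comm _ a.2 _ hk]
  have htop := eq_top_of_invariant hk hns (W := LinearMap.ker (mulVecLin y)) (fun w hw => by
    rw [LinearMap.mem_ker, mulVecLin_apply] at hw ⊢
    rw [mulVec_mulVec, hyk, ← mulVec_mulVec, hw, mulVec_zero])
    ((Submodule.ne_bot_iff _).2 ⟨v, by rw [LinearMap.mem_ker, mulVecLin_apply, hy, sub_mulVec, ha, sub_self], hv⟩)
  have : x = (a : Matrix (Fin 3) (Fin 3) F) := sub_eq_zero.1 (Matrix.ext_of_mulVec_single fun j => by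
    rw [zero_mulVec]
    exact (LinearMap.mem_ker.1 (htop ▸ Submodule.mem_top : Pi.single j 1 ∈ LinearMap.ker (mulVecLin y))))
  exact this ▸ a.2

/-- Conjugation on matrices. -/
def cj (g : GL (Fin 3) F) (x : Matrix (Fin 3) (Fin 3) F) : Matrix (Fin 3) (Fin 3) F :=
  ((g : GL (Fin 3) F) : Matrix (Fin 3) (Fin 3) F) * x * ((g⁻¹ : GL (Fin 3) F) : Matrix (Fin 3) (Fin 3) F)

theorem cj_mul (g : GL (Fin 3) F) (x y : Matrix (Fin 3) (Fin 3) F) : cj g (x * y) = cj g x * cj g y := by
  simp [cj, mul_assoc]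

theorem cj_cj (g h : GL (Fin 3) F) (x : Matrix (Fin 3) (Fin 3) F) : cj g (cj h x) = cj (g * h) x := by
  simp only [cj, _root_.mul_inv_rev, Units.val_mul, mul_assoc]

theorem cj_commute {g : GL (Fin 3) F} {x : Matrix (Fin 3) (Fin 3) F} (h : cj g x = x) :
    x * ((g : GL (Fin 3) F) : Matrix (Fin 3) (Fin 3) F) = ((g : GL (Fin 3) F) : Matrix (Fin 3) (Fin 3) F) * x := by
  conv_lhs => rw [← h, cj, mul_assoc _ _ ((g : GL (Fin 3) F) : Matrix (Fin 3) (Fin 3) F), Units.inv_mul, mul_one]

theorem exists_idem_pow {R : Type*} [Monoid R] [Finite R] (x : R) :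
    ∃ m : ℕ, 1 ≤ m ∧ IsIdempotentElem (x ^ m) := by
  obtain ⟨i, j, hne, e⟩ := Finite.exists_ne_map_eq_of_infinite fun n : ℕ => x ^ n
  wlog hlt : i < j generalizing i j
  · exact this j i hne.symm e.symm (by omega)
  obtain ⟨d, rfl⟩ := Nat.exists_eq_add_of_le hlt.le
  have hper : ∀ k n, i ≤ n → x ^ (n + k * d) = x ^ n := by
    intro k
    induction k with
    | zero => intro n _; rw [zero_mul, add_zero]
    | succ k ih =>
      intro n hn
      obtain ⟨r, rfl⟩ := Nat.exists_eq_add_of_le hn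
      rw [show i + r + (k + 1) * d = (i + r + k * d) + d by ring,
        show i + r + k * d + d = (i + d) + (r + k * d) by ring, pow_add, ← show x ^ i = x ^ (i + d) from e,
        ← pow_add, ← add_assoc, ih _ hn]
  refine ⟨(i + 1) * d, Nat.mul_pos (by omega) (by omega), ?_⟩
  show x ^ _ * x ^ _ = _
  rw [← pow_add]
  exact hper _ _ (le_trans (by omega) (Nat.le_mul_of_pos_right _ (by omega : 0 < d)))

variable {M : Subgroup (GL (Fin 3) F)}

/-- A normal abelian subgroup with a non-scalar element forces normalisation of the field. -/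
theorem normalises_of_abelian {c : Kg K} (hc : (c : GL (Fin 3) F) ∈ Cfsg.Geo.specialLinear (Fin 3) F)
    (ho : orderOf c = vv F) (hcM : (c : GL (Fin 3) F) ∈ M) {A : Subgroup (GL (Fin 3) F)}
    (hab : ∀ x ∈ A, ∀ y ∈ A, x * y = y * x) (hn : ∀ g ∈ M, ∀ a ∈ A, g * a * g⁻¹ ∈ A)
    (hns : ∃ a ∈ A, ¬ IsScal a) : M ≤ Cfsg.Geo.subalgebraNormalizer K := by
  classical
  set S : Set (Matrix (Fin 3) (Fin 3) F) := (fun g : GL (Fin 3) F => ((g : GL (Fin 3) F) : Matrix (Fin 3) (Fin 3) F)) '' (A : Set (GL (Fin 3) F)) with hS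
  set E := Algebra.adjoin F S with hE
  have hEcomm : ∀ x ∈ E, ∀ y ∈ E, x * y = y * x := by
    intro x hx y hy
    refine Algebra.commute_of_mem_adjoin_of_forall_mem_commute (R := F) hy ?_
    rintro _ ⟨b, hb, rfl⟩
    refine (Algebra.commute_of_mem_adjoin_of_forall_mem_commute (R := F) hx ?_).symm
    rintro _ ⟨a, ha, rfl⟩
    show ((b : GL (Fin 3) F) : Matrix (Fin 3) (Fin 3) F) * ((a : GL (Fin 3) F) : Matrix (Fin 3) (Fin 3) F) = ((a : GL (Fin 3) F) : Matrix (Fin 3) (Fin 3) F) * ((b : GL (Fin 3) F) : Matrix (Fin 3) (Fin 3) F)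
    rw [← Units.val_mul, ← Units.val_mul, hab b hb a ha]
  have hEcj : ∀ g ∈ M, ∀ x ∈ E, cj g x ∈ E := by
    intro g hg x hx
    induction hx using Algebra.adjoin_induction with
    | mem x hx =>
      obtain ⟨a, ha, rfl⟩ := hx
      exact Algebra.subset_adjoin ⟨g * a * g⁻¹, hn g hg a ha, by simp [cj]⟩
    | algebraMap r =>
      rw [cj, Algebra.algebraMap_eq_smul_one, mul_smul_comm, mul_one, smul_mul_assoc, Units.mul_inv]
      exact E.smul_mem E.one_mem r
    | add x y _ _ hx hy => rw [cj, mul_add, add_mul]; exact E.add_mem hx hy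
    | mul x y _ _ hx hy => rw [cj_mul]; exact E.mul_mem hx hy
  have hcns : ∀ s : F, (((c : GL (Fin 3) F) : GL (Fin 3) F) : Matrix (Fin 3) (Fin 3) F) ≠ s • 1 := fun s h =>
    not_scal_pow hc ho le_rfl (by norm_num) s (by rw [pow_one]; exact h)
  have hpowns : ∀ k, 1 ≤ k → k ≤ 3 → ∀ s : F, ((((c : GL (Fin 3) F) ^ k) : GL (Fin 3) F) : Matrix (Fin 3) (Fin 3) F) ≠ s • 1 :=
    fun k h1 h2 s => not_scal_pow hc ho h1 h2 s
  have hcK : ∀ k : ℕ, ((((c : GL (Fin 3) F) ^ k) : GL (Fin 3) F) : Matrix (Fin 3) (Fin 3) F) ∈ K := fun k => by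
    rw [Units.val_pow_eq_pow_val]; exact K.pow_mem c.2 k
  -- no non-zero nilpotent
  have hred : ∀ x ∈ E, (∃ m, x ^ m = 0) → x = 0 := by
    intro x0 hx0 hnil0
    let J : Finset (Matrix (Fin 3) (Fin 3) F) := Finset.univ.filter fun x => x ∈ E ∧ ∃ m, x ^ m = 0
    have key : ∀ T : Finset (Matrix (Fin 3) (Fin 3) F), T ⊆ J →
        ∃ v : Fin 3 → F, v ≠ 0 ∧ ∀ x ∈ T, x *ᵥ v = 0 := by
      intro T
      induction T using Finset.induction with
      | empty => exact fun _ => ⟨_, (exists_ne_zero (F := F)).choose_spec, fun x hx => absurd hx (Finset.notMem_empty x)⟩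
      | insert y T _ ih =>
        intro hT
        rw [Finset.insert_subset_iff] at hT
        obtain ⟨v, hv, hTv⟩ := ih hT.2
        obtain ⟨hyE, m, hm⟩ := (Finset.mem_filter.1 hT.1).2
        have hex : ∃ j, y ^ j *ᵥ v = 0 := ⟨m, by rw [hm, zero_mulVec]⟩
        have hj0 : Nat.find hex ≠ 0 := fun h => by
          have := Nat.find_spec hex
          rw [h, pow_zero, one_mulVec] at this
          exact hv this
        refine ⟨y ^ (Nat.find hex - 1) *ᵥ v, Nat.find_min hex (by omega), fun x hx => ?_⟩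
        rcases Finset.mem_insert.1 hx with rfl | hxT
        · rw [mulVec_mulVec, ← pow_succ', Nat.sub_add_cancel (Nat.one_le_iff_ne_zero.2 hj0)]
          exact Nat.find_spec hex
        · rw [mulVec_mulVec, hEcomm x (Finset.mem_filter.1 (hT.2 hxT)).2.1 _ (E.pow_mem hyE _),
            ← mulVec_mulVec, hTv x hxT, mulVec_zero]
    obtain ⟨v, hv, hJv⟩ := key J subset_rfl
    let W : Submodule F (Fin 3 → F) :=
      { carrier := {w | ∀ x ∈ J, x *ᵥ w = 0}
        add_mem' := fun {a b} ha hb x hx => by rw [mulVec_add, ha x hx, hb x hx, add_zero]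
        zero_mem' := fun x _ => mulVec_zero x
        smul_mem' := fun s a ha x hx => by rw [mulVec_smul, ha x hx, smul_zero] }
    have htop := eq_top_of_invariant c.2 hcns (W := W) (fun w hw x hx => by
      obtain ⟨hxE, m, hm⟩ := (Finset.mem_filter.1 hx).2
      have hx' : cj (c : GL (Fin 3) F)⁻¹ x ∈ J := by
        refine Finset.mem_filter.2 ⟨Finset.mem_univ _, hEcj _ (M.inv_mem hcM) x hxE, m, ?_⟩
        have hp : ∀ k : ℕ, cj (c : GL (Fin 3) F)⁻¹ x ^ k = cj (c : GL (Fin 3) F)⁻¹ (x ^ k) := by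
          intro k
          induction k with
          | zero => simp [cj]
          | succ k ih => rw [pow_succ, pow_succ, ih, cj_mul]
        rw [hp, hm, cj, mul_zero, zero_mul]
      have h2 := congrArg (fun z => (((c : GL (Fin 3) F) : GL (Fin 3) F) : Matrix (Fin 3) (Fin 3) F) *ᵥ z) (hw _ hx')
      simp only [cj, inv_inv, mulVec_mulVec, mul_assoc, mulVec_zero, Units.mul_inv_cancel_left] at h2
      rw [mulVec_mulVec]
      exact h2) ((Submodule.ne_bot_iff _).2 ⟨v, hJv, hv⟩)
    refine Matrix.ext_of_mulVec_single fun j => ?_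
    rw [zero_mulVec]
    exact (htop ▸ Submodule.mem_top : Pi.single j 1 ∈ W) x0 (Finset.mem_filter.2 ⟨Finset.mem_univ _, hx0, hnil0⟩)
  -- no rank one idempotent
  have hidem : ∀ e ∈ E, e * e = e → finrank F (LinearMap.range (mulVecLin e)) ≠ 1 := by
    intro e he hee hr
    obtain ⟨⟨v, hvr⟩, hv0, hv⟩ := finrank_eq_one_iff'.1 hr
    have hv0' : v ≠ 0 := fun h => hv0 (Subtype.ext h)
    have hspan : ∀ w, ∃ t : F, e *ᵥ w = t • v := fun w => by
      obtain ⟨t, ht⟩ := hv ⟨e *ᵥ w, ⟨w, rfl⟩⟩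
      exact ⟨t, (congrArg Subtype.val ht).symm⟩
    have hev : e *ᵥ v = v := by
      obtain ⟨w, hw⟩ := hvr
      rw [mulVecLin_apply] at hw
      rw [← hw, mulVec_mulVec, hee]
    let ei : Fin 4 → Matrix (Fin 3) (Fin 3) F := fun i => cj ((c : GL (Fin 3) F) ^ (i : ℕ)) e
    let vi : Fin 4 → (Fin 3 → F) := fun i => ((((c : GL (Fin 3) F) ^ (i : ℕ)) : GL (Fin 3) F) : Matrix (Fin 3) (Fin 3) F) *ᵥ v
    have hfix : ∀ i, ei i *ᵥ vi i = vi i := fun i => by
      simp only [ei, vi, cj, mulVec_mulVec, mul_assoc, Units.inv_mul, mul_one]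
      rw [← mulVec_mulVec, hev]
    have him : ∀ i w, ∃ t : F, ei i *ᵥ w = t • vi i := fun i w => by
      obtain ⟨t, ht⟩ := hspan (((((c : GL (Fin 3) F) ^ (i : ℕ))⁻¹ : GL (Fin 3) F) : Matrix (Fin 3) (Fin 3) F) *ᵥ w)
      refine ⟨t, ?_⟩
      simp only [ei, vi, cj, ← mulVec_mulVec, ht, mulVec_smul]
    have hdist : ∀ i j, i ≠ j → ∀ t : F, vi j ≠ t • vi i := by
      intro i j hij t h
      wlog hlt : (i : ℕ) < j generalizing i j t
      · have ht : t ≠ 0 := fun e0 => TransvectionMax.act_ne_zero _ hv0' (h.trans (by rw [e0, zero_smul]))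
        exact this j i hij.symm t⁻¹ (by rw [h, smul_smul, inv_mul_cancel₀ ht, one_smul])
          (lt_of_le_of_ne (not_lt.1 hlt) fun e => hij (Fin.ext e.symm))
      obtain ⟨d, hd⟩ := Nat.exists_eq_add_of_le hlt.le
      have h' : ((((c : GL (Fin 3) F) ^ d) : GL (Fin 3) F) : Matrix (Fin 3) (Fin 3) F) *ᵥ v = t • v := by
        refine TransvectionMax.act_injective ((c : GL (Fin 3) F) ^ (i : ℕ)) ?_
        show _ *ᵥ _ = _ *ᵥ _
        rw [mulVec_smul, mulVec_mulVec, ← Units.val_mul, ← pow_add, ← hd]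
        exact h
      have htop := eq_top_of_invariant (hcK d) (hpowns d (by omega) (by omega)) (W := Submodule.span F {v})
        (fun w hw => by
          obtain ⟨s, rfl⟩ := Submodule.mem_span_singleton.1 hw
          rw [mulVec_smul, h', smul_smul]
          exact Submodule.smul_mem _ _ (Submodule.mem_span_singleton_self v))
        (by simp [hv0'])
      have h1 := finrank_span_singleton (K := F) hv0'
      rw [htop, finrank_top, Module.finrank_fin_fun] at h1
      omega
    have hkill : ∀ i j, i ≠ j → ei i *ᵥ vi j = 0 := by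
      intro i j hij
      obtain ⟨t, ht⟩ := him i (vi j)
      obtain ⟨t', ht'⟩ := him j (ei i *ᵥ vi j)
      have hcomm : ei j *ᵥ (ei i *ᵥ vi j) = ei i *ᵥ vi j := by
        rw [mulVec_mulVec, hEcomm _ (hEcj _ (M.pow_mem hcM _) e he) _ (hEcj _ (M.pow_mem hcM _) e he),
          ← mulVec_mulVec, hfix]
      by_contra hne
      have ht0 : t ≠ 0 := fun e0 => hne (by rw [ht, e0, zero_smul])
      have h1 : t • vi i = t' • vi j := by rw [← ht, ← hcomm, ht']
      exact hdist j i hij.symm (t⁻¹ * t') (by rw [← smul_smul, ← h1, smul_smul, inv_mul_cancel₀ ht0, one_smul])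
    have hli : LinearIndependent F vi := Fintype.linearIndependent_iff.2 fun g hg i => by
      have := congrArg (fun z => ei i *ᵥ z) hg
      simp only [mulVec_sum, mulVec_zero, mulVec_smul] at this
      rw [Finset.sum_eq_single i (fun j _ hj => by rw [hkill i j (Ne.symm hj), smul_zero])
        (fun h => absurd (Finset.mem_univ i) h), hfix, smul_eq_zero] at this
      exact this.resolve_right (TransvectionMax.act_ne_zero _ hv0')
    have := hli.fintype_card_le_finrank
    rw [Fintype.card_fin, Module.finrank_fin_fun] at this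
    omega
  -- every non-zero element is invertible
  have hinv : ∀ x ∈ E, x ≠ 0 → ∃ y ∈ E, x * y = 1 := by
    intro x hx hx0
    obtain ⟨m, hm, hidm⟩ := exists_idem_pow x
    set e := x ^ m with he
    have heE : e ∈ E := E.pow_mem hx m
    have hee : e * e = e := hidm.eq
    have he0 : e ≠ 0 := fun h => hx0 (hred x hx ⟨m, h⟩)
    have hker : LinearMap.ker (mulVecLin e) = LinearMap.range (mulVecLin (1 - e)) := by
      ext w
      simp only [LinearMap.mem_ker, LinearMap.mem_range, mulVecLin_apply]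
      constructor
      · intro hw
        exact ⟨w, by rw [sub_mulVec, one_mulVec, hw, sub_zero]⟩
      · rintro ⟨z, rfl⟩
        rw [mulVec_mulVec, mul_sub, mul_one, hee, sub_self, zero_mulVec]
    have hsum := LinearMap.finrank_range_add_finrank_ker (mulVecLin e)
    rw [hker, Module.finrank_fin_fun] at hsum
    have hr1 := hidem e heE hee
    have hr2 := hidem (1 - e) (E.sub_mem E.one_mem heE) (by rw [sub_mul, one_mul, mul_sub, mul_one, hee, sub_self, sub_zero])
    have hr0 : finrank F (LinearMap.range (mulVecLin e)) ≠ 0 := fun h => he0 (by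
      rw [Submodule.finrank_eq_zero, LinearMap.range_eq_bot] at h
      exact Matrix.ext_of_mulVec_single fun j => by
        rw [zero_mulVec, ← mulVecLin_apply, h, LinearMap.zero_apply])
    have h0 : finrank F (LinearMap.range (mulVecLin (1 - e))) = 0 := by omega
    rw [Submodule.finrank_eq_zero, LinearMap.range_eq_bot] at h0
    have he1 : (1 : Matrix (Fin 3) (Fin 3) F) - e = 0 := Matrix.ext_of_mulVec_single fun j => by
      rw [zero_mulVec, ← mulVecLin_apply, h0, LinearMap.zero_apply]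
    refine ⟨x ^ (m - 1), E.pow_mem hx _, ?_⟩
    rw [← pow_succ', Nat.sub_add_cancel hm, ← he, sub_eq_zero.1 he1]
  obtain ⟨a0, ha0, ha0ns⟩ := hns
  have ha0E : ((a0 : GL (Fin 3) F) : Matrix (Fin 3) (Fin 3) F) ∈ E := Algebra.subset_adjoin ⟨a0, ha0, rfl⟩
  obtain ⟨v, hv⟩ := exists_ne_zero (F := F)
  -- the dimension
  have hEinj : ∀ w : Fin 3 → F, w ≠ 0 → ∀ x ∈ E, x *ᵥ w = 0 → x = 0 := by
    intro w hw x hx h
    by_contra hne
    obtain ⟨y, hy, hxy⟩ := hinv x hx hne
    refine hw ?_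
    rw [← one_mulVec w, ← hxy, hEcomm x hx y hy, ← mulVec_mulVec, h, mulVec_zero]
  let ev : (Fin 3 → F) → (E →ₗ[F] (Fin 3 → F)) := fun w =>
    { toFun := fun x => (x : Matrix (Fin 3) (Fin 3) F) *ᵥ w
      map_add' := fun a b => by simp [add_mulVec]
      map_smul' := fun c a => by simp [smul_mulVec] }
  have hevinj : ∀ w, w ≠ 0 → Function.Injective (ev w) := fun w hw =>
    (injective_iff_map_eq_zero (ev w)).2 fun x hx => Subtype.ext (hEinj w hw x x.2 hx)
  have hdim3 : finrank F E ≤ 3 := by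
    have := LinearMap.finrank_le_finrank_of_injective (hevinj v hv)
    rwa [Module.finrank_fin_fun] at this
  have hdim : finrank F E = 3 := by
    by_contra hne
    have h2 : 2 ≤ finrank F E := by
      by_contra hlt
      have h1 : finrank F E ≤ 1 := by omega
      obtain ⟨s, hs⟩ := (finrank_le_one_iff (K := F) (V := E)).1 h1
      obtain ⟨t1, ht1⟩ := hs ⟨1, E.one_mem⟩
      obtain ⟨t2, ht2⟩ := hs ⟨_, ha0E⟩
      have ht1' := congrArg Subtype.val ht1
      have ht2' := congrArg Subtype.val ht2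
      simp only [SetLike.val_smul] at ht1' ht2'
      have ht10 : t1 ≠ 0 := fun e => by rw [e, zero_smul] at ht1'; exact zero_ne_one ht1'
      exact ha0ns ⟨t2 * t1⁻¹, by rw [← ht1', smul_smul, mul_assoc, inv_mul_cancel₀ ht10, mul_one, ht2']⟩
    have hrk : ∀ w, w ≠ 0 → finrank F (LinearMap.range (ev w)) = 2 := fun w hw => by
      rw [LinearMap.finrank_range_of_inj (hevinj w hw)]; omega
    obtain ⟨w, hw⟩ : ∃ w, w ∉ LinearMap.range (ev v) := by
      by_contra hall
      push Not at hall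
      have := hrk v hv
      rw [Submodule.eq_top_iff'.2 hall, finrank_top, Module.finrank_fin_fun] at this
      omega
    have hw0 : w ≠ 0 := fun e => hw (e ▸ Submodule.zero_mem _)
    have hdisj : LinearMap.range (ev v) ⊓ LinearMap.range (ev w) = ⊥ := by
      rw [eq_bot_iff]
      rintro z ⟨⟨x, hx⟩, ⟨y, hy⟩⟩
      rw [Submodule.mem_bot]
      by_contra hz
      have hy0 : (y : Matrix (Fin 3) (Fin 3) F) ≠ 0 := fun e => hz (by
        rw [← hy]; show (y : Matrix (Fin 3) (Fin 3) F) *ᵥ w = 0; rw [e, zero_mulVec])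
      obtain ⟨y', hy', hyy'⟩ := hinv _ y.2 hy0
      refine hw ⟨⟨y' * x, E.mul_mem hy' x.2⟩, ?_⟩
      show (y' * (x : Matrix (Fin 3) (Fin 3) F)) *ᵥ v = w
      have hxy : (x : Matrix (Fin 3) (Fin 3) F) *ᵥ v = (y : Matrix (Fin 3) (Fin 3) F) *ᵥ w := hx.trans hy.symm
      rw [← mulVec_mulVec, hxy, mulVec_mulVec, ← hEcomm _ y.2 _ hy', hyy', one_mulVec]
    have h4 := Submodule.finrank_sup_add_finrank_inf_eq (LinearMap.range (ev v)) (LinearMap.range (ev w))
    rw [hdisj, finrank_bot, hrk v hv, hrk w hw0] at h4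
    have := Submodule.finrank_le (LinearMap.range (ev v) ⊔ LinearMap.range (ev w))
    rw [Module.finrank_fin_fun] at this
    omega
  -- the field is `K`
  have hEK : E ≤ K := by
    intro x hx
    letI : CommRing E :=
      { (inferInstance : Ring E) with mul_comm := fun a b => Subtype.ext (hEcomm _ a.2 _ b.2) }
    have hEf : IsField E := ⟨⟨0, 1, fun h => zero_ne_one (congrArg Subtype.val h)⟩, mul_comm, fun {a} ha => by
      obtain ⟨b, hb, hab'⟩ := hinv _ a.2 fun h => ha (Subtype.ext h)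
      exact ⟨⟨b, hb⟩, Subtype.ext hab'⟩⟩
    letI : Field E := hEf.toField
    have hP0 : (Matrix.charpoly x) ≠ 0 := (Matrix.charpoly_monic x).ne_zero
    have hroot : ∀ k : ℕ, (⟨cj ((c : GL (Fin 3) F) ^ k) x, hEcj _ (M.pow_mem hcM k) x hx⟩ : E) ∈
        ((Matrix.charpoly x).map (algebraMap F E)).roots.toFinset := by
      intro k
      rw [Multiset.mem_toFinset, Polynomial.mem_roots (Polynomial.map_ne_zero hP0), Polynomial.IsRoot,
        Polynomial.eval_map, ← Polynomial.aeval_def]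
      refine Subtype.ext ?_
      rw [Polynomial.aeval_subalgebra_coe]
      have h := Matrix.aeval_self_charpoly (cj ((c : GL (Fin 3) F) ^ k) x)
      rw [show Matrix.charpoly (cj ((c : GL (Fin 3) F) ^ k) x) = Matrix.charpoly x by
        rw [cj, Matrix.coe_units_inv, Matrix.charpoly_units_conj]] at h
      simpa using h
    have hcard : (((Matrix.charpoly x).map (algebraMap F E)).roots.toFinset).card < (Finset.range 4).card := by
      have h1 := (Multiset.toFinset_card_le ((Matrix.charpoly x).map (algebraMap F E)).roots).trans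
        (Polynomial.card_roots' _)
      have h2 := Matrix.charpoly_natDegree_eq_dim x
      rw [Polynomial.natDegree_map, h2, Fintype.card_fin] at h1
      rw [Finset.card_range]
      omega
    obtain ⟨i, hi, j, hj, hij, e⟩ := Finset.exists_ne_map_eq_of_card_lt_of_maps_to hcard (fun k _ => hroot k)
    wlog hlt : i < j generalizing i j
    · exact this j hj i hi hij.symm e.symm (by omega)
    obtain ⟨d, rfl⟩ := Nat.exists_eq_add_of_le hlt.le
    have e' := congrArg (fun z : E => cj ((c : GL (Fin 3) F) ^ i)⁻¹ (z : Matrix (Fin 3) (Fin 3) F)) e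
    simp only [cj_cj, inv_mul_cancel, pow_add, inv_mul_cancel_left] at e'
    have e'' : cj ((c : GL (Fin 3) F) ^ d) x = x := e'.symm.trans (by simp [cj])
    exact mem_of_commute (hcK d) (hpowns d (by omega) (by simp only [Finset.mem_range] at hj; omega))
      (cj_commute e'')
  have heq : E = K := Subalgebra.eq_of_le_of_finrank_eq hEK (by rw [hdim, hK.out.finrank_eq])
  intro g hg k
  rw [← heq]
  refine ⟨fun hk => hEcj g hg k hk, fun hk => ?_⟩
  have h := hEcj g⁻¹ (M.inv_mem hg) _ hk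
  rwa [← cj, cj_cj, inv_mul_cancel, show cj (1 : GL (Fin 3) F) k = k by simp [cj]] at h

/-- A solvable overgroup normalises the field. -/
theorem normalises_of_solvable (hq : Fintype.card F ≠ 4) (hMSL : M ≤ Cfsg.Geo.specialLinear (Fin 3) F)
    (hM : ∀ g : Kg K, (g : GL (Fin 3) F) ∈ Cfsg.Geo.specialLinear (Fin 3) F → (g : GL (Fin 3) F) ∈ M)
    (hsol : Group.IsSolvable M) : M ≤ Cfsg.Geo.subalgebraNormalizer K := by
  classical
  obtain ⟨c, hc, ho⟩ := exists_gen (K := K)
  have hcM := hM c hc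
  -- the last derived subgroup which is not scalar
  obtain ⟨n, hn⟩ := hsol.solvable
  have hex : ∃ i, ∀ a ∈ derivedSeries M i, IsScal (a : GL (Fin 3) F) :=
    ⟨n, fun a ha => by
      rw [hn, Subgroup.mem_bot] at ha
      exact ⟨1, by rw [ha]; simp⟩⟩
  have hi0 : Nat.find hex ≠ 0 := fun h => by
    have := Nat.find_spec hex
    rw [h, derivedSeries_zero] at this
    obtain ⟨s, hs⟩ := this ⟨_, hcM⟩ (Subgroup.mem_top _)
    exact not_scal_pow hc ho le_rfl (by norm_num) s (by rw [pow_one]; exact hs)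
  obtain ⟨i, hi⟩ := Nat.exists_eq_succ_of_ne_zero hi0
  have hlast := Nat.find_spec hex
  rw [hi] at hlast
  have hnot := Nat.find_min hex (show i < Nat.find hex by omega)
  push Not at hnot
  set A : Subgroup (GL (Fin 3) F) := (derivedSeries M i).map M.subtype with hA
  have hAM : A ≤ M := by rw [hA]; exact Subgroup.map_subtype_le _
  have hAn : ∀ g ∈ M, ∀ a ∈ A, g * a * g⁻¹ ∈ A := by
    rintro g hg _ ⟨a, ha, rfl⟩
    exact ⟨⟨g, hg⟩ * a * ⟨g, hg⟩⁻¹, (derivedSeries_normal M i).conj_mem a ha _, rfl⟩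
  have hcomm : ∀ a ∈ A, ∀ b ∈ A, ∃ w : F, (((a * b * a⁻¹) : GL (Fin 3) F) : Matrix (Fin 3) (Fin 3) F) = w • ((b : GL (Fin 3) F) : Matrix (Fin 3) (Fin 3) F) ∧ w ^ 3 = 1 := by
    rintro _ ⟨a, ha, rfl⟩ _ ⟨b, hb, rfl⟩
    have hmem : ⁅a, b⁆ ∈ derivedSeries M i.succ := by
      rw [derivedSeries_succ]; exact Subgroup.commutator_mem_commutator ha hb
    obtain ⟨w, hw⟩ := hlast _ hmem
    refine ⟨w, ?_, scal_det (hMSL (⁅a, b⁆).2) hw⟩
    have : (a : GL (Fin 3) F) * b * (a : GL (Fin 3) F)⁻¹ = ((⁅a, b⁆ : M) : GL (Fin 3) F) * b := by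
      simp [commutatorElement_def]
    show ((((a : GL (Fin 3) F) * b * (a : GL (Fin 3) F)⁻¹) : GL (Fin 3) F) : Matrix (Fin 3) (Fin 3) F) = _
    rw [this, Units.val_mul, hw, smul_mul_assoc, one_mul]
    rfl
  -- the centre
  let B : Subgroup (GL (Fin 3) F) := A ⊓ Subgroup.centralizer (A : Set (GL (Fin 3) F))
  by_cases hB : ∃ a ∈ B, ¬ IsScal a
  · refine normalises_of_abelian hc ho hcM (A := B) (fun x hx y hy => (Subgroup.mem_centralizer_iff.1 hy.2 x hx.1)) ?_ hB
    intro g hg a ha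
    refine ⟨hAn g hg a ha.1, Subgroup.mem_centralizer_iff.2 fun z hz => ?_⟩
    have hz' : g⁻¹ * z * g ∈ A := by simpa using hAn g⁻¹ (M.inv_mem hg) z hz
    have := Subgroup.mem_centralizer_iff.1 ha.2 _ hz'
    calc z * (g * a * g⁻¹) = g * ((g⁻¹ * z * g) * a) * g⁻¹ := by group
      _ = g * (a * (g⁻¹ * z * g)) * g⁻¹ := by rw [this]
      _ = g * a * g⁻¹ * z := by group
  exfalso
  push Not at hB
  -- a non-scalar element has trace zero and a cube root of unity appears
  have htr : ∀ a ∈ A, ¬ IsScal a → ((a : GL (Fin 3) F) : Matrix (Fin 3) (Fin 3) F).trace = 0 ∧ ∃ w : F, w ^ 3 = 1 ∧ w ≠ 1 := by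
    intro a ha hns
    have : a ∉ Subgroup.centralizer (A : Set (GL (Fin 3) F)) := fun h => hns (hB a ⟨ha, h⟩)
    rw [Subgroup.mem_centralizer_iff] at this
    push Not at this
    obtain ⟨b, hb, hne⟩ := this
    obtain ⟨w, hw, hw3⟩ := hcomm b hb a ha
    have hw1 : w ≠ 1 := fun e => hne (by
      rw [e, one_smul] at hw
      have h := congrArg (fun z => z * b) (Units.ext hw)
      simpa [mul_assoc] using h)
    refine ⟨?_, w, hw3, hw1⟩
    have h := congrArg Matrix.trace hw
    simp only [Units.val_mul, Matrix.trace_smul, smul_eq_mul, Matrix.trace_units_conj] at h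
    by_contra h0
    exact hw1 (mul_right_cancel₀ h0 (by rw [one_mul]; exact h.symm))
  obtain ⟨a, haD, hans⟩ := hnot
  have haA : (a : GL (Fin 3) F) ∈ A := ⟨a, haD, rfl⟩
  obtain ⟨-, w, hw3, hw1⟩ := htr _ haA hans
  have hq3 : 3 ∣ Fintype.card F - 1 := by
    have hw0 : w ≠ 0 := fun e => by rw [e] at hw3; norm_num at hw3
    have ho3 : orderOf w = 3 := by
      rcases (Nat.dvd_prime Nat.prime_three).1 (orderOf_dvd_of_pow_eq_one hw3) with h | h
      · exact absurd (orderOf_eq_one_iff.1 h) hw1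
      · exact h
    exact ho3 ▸ orderOf_dvd_of_pow_eq_one (FiniteField.pow_card_sub_one_eq_one w hw0)
  have h30 : (3 : F) ≠ 0 := by
    intro e
    obtain ⟨n, hp, hn'⟩ := FiniteField.card F (ringChar F)
    haveI : Fact (ringChar F).Prime := ⟨hp⟩
    have : ringChar F = 3 := (Nat.prime_dvd_prime_iff_eq hp Nat.prime_three).1
      (ringChar.dvd (by exact_mod_cast e))
    rw [hn', this] at hq3
    obtain ⟨k, hk⟩ := hq3
    have h3n : 3 ∣ 3 ^ (n : ℕ) := dvd_pow_self 3 n.ne_zero
    have hpos : 0 < 3 ^ (n : ℕ) := by positivity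
    omega
  -- every element of `A` lies in the field
  have hall : ∀ a ∈ A, ((a : GL (Fin 3) F) : Matrix (Fin 3) (Fin 3) F) ∈ K := by
    clear hans haA a haD
    intro a haA
    by_cases hsa : IsScal a
    · obtain ⟨t, ht⟩ := hsa
      rw [ht]; exact K.smul_mem K.one_mem t
    -- ten conjugates
    let x : Fin 10 → GL (Fin 3) F := fun k => (c : GL (Fin 3) F) ^ (k : ℕ) * a *
      ((c : GL (Fin 3) F) ^ (k : ℕ))⁻¹
    have hxA : ∀ k, x k ∈ A := fun k => hAn _ (M.pow_mem hcM _) _ haA
    obtain ⟨i', j', hne, hsc⟩ : ∃ i' j', i' ≠ j' ∧ IsScal ((x i') * (x j')⁻¹) := by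
      by_contra hall
      push Not at hall
      have hli : LinearIndependent F (fun k => (((x k) : GL (Fin 3) F) : Matrix (Fin 3) (Fin 3) F)) := Fintype.linearIndependent_iff.2 fun g hg k => by
        have h := congrArg (fun z : Matrix (Fin 3) (Fin 3) F => (z * (((x k)⁻¹ : GL (Fin 3) F) : Matrix (Fin 3) (Fin 3) F)).trace) hg
        simp only [Finset.sum_mul, smul_mul_assoc, Matrix.trace_sum, Matrix.trace_smul, zero_mul,
          Matrix.trace_zero, ← Units.val_mul] at h
        rw [Finset.sum_eq_single k (fun l _ hl => by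
            rw [(htr _ (A.mul_mem (hxA l) (A.inv_mem (hxA k))) (hall l k hl)).1, smul_zero])
          (fun h => absurd (Finset.mem_univ k) h), mul_inv_cancel, Units.val_one, Matrix.trace_one,
          Fintype.card_fin, smul_eq_mul] at h
        exact (mul_eq_zero.1 h).resolve_right (by exact_mod_cast h30)
      have := hli.fintype_card_le_finrank
      rw [Fintype.card_fin, Module.finrank_matrix, Fintype.card_fin, finrank_self] at this
      omega
    wlog hlt : (j' : ℕ) < i' generalizing i' j'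
    · refine this j' i' hne.symm ?_ (lt_of_le_of_ne (not_lt.1 hlt) fun e => hne (Fin.ext e))
      obtain ⟨s, hs⟩ := hsc
      have hs0 : s ≠ 0 := fun e => ((x i') * (x j')⁻¹).ne_zero (by rw [hs, e, zero_smul])
      refine ⟨s⁻¹, ?_⟩
      rw [show x j' * (x i')⁻¹ = ((x i') * (x j')⁻¹)⁻¹ by group]
      calc _ = ((((x i') * (x j')⁻¹)⁻¹ : GL (Fin 3) F) : Matrix (Fin 3) (Fin 3) F) * (((((x i') * (x j')⁻¹) : GL (Fin 3) F) : Matrix (Fin 3) (Fin 3) F) * (s⁻¹ • 1)) := by
            rw [hs, smul_mul_smul_comm, mul_inv_cancel₀ hs0, one_mul, one_smul, mul_one]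
        _ = _ := by rw [← mul_assoc, Units.inv_mul, one_mul]
    obtain ⟨d, hd⟩ := Nat.exists_eq_add_of_le hlt.le
    have hd1 : 1 ≤ d := by omega
    have hd9 : d ≤ 9 := by omega
    -- the power of the generator normalises `a` modulo scalars
    obtain ⟨s, hs⟩ := hsc
    have hconj : cj ((c : GL (Fin 3) F) ^ d) ((a : GL (Fin 3) F) : Matrix (Fin 3) (Fin 3) F) = s • ((a : GL (Fin 3) F) : Matrix (Fin 3) (Fin 3) F) := by
      have h1 : (((x i') : GL (Fin 3) F) : Matrix (Fin 3) (Fin 3) F) = s • (((x j') : GL (Fin 3) F) : Matrix (Fin 3) (Fin 3) F) := by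
        conv_lhs => rw [show x i' = (x i' * (x j')⁻¹) * x j' by group, Units.val_mul, hs, smul_mul_assoc, one_mul]
      have h2 := congrArg (cj ((c : GL (Fin 3) F) ^ (j' : ℕ))⁻¹) h1
      have hx : ∀ k, (((x k) : GL (Fin 3) F) : Matrix (Fin 3) (Fin 3) F) = cj ((c : GL (Fin 3) F) ^ (k : ℕ)) ((a : GL (Fin 3) F) : Matrix (Fin 3) (Fin 3) F) := fun k => by
        simp only [x, cj, Units.val_mul]
      have hsm : ∀ (g : GL (Fin 3) F) (z : Matrix (Fin 3) (Fin 3) F), cj g (s • z) = s • cj g z := fun g z => by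
        simp only [cj, mul_smul_comm, smul_mul_assoc]
      rw [hsm, hx, hx, cj_cj, cj_cj, hd, pow_add, inv_mul_cancel_left, inv_mul_cancel] at h2
      rw [h2]
      simp [cj]
    have hs3 : s ^ 3 = 1 := by
      refine scal_det (g := x i' * (x j')⁻¹) ?_ hs
      exact hMSL (hAM (A.mul_mem (hxA i') (A.inv_mem (hxA j'))))
    have hsm : ∀ (g : GL (Fin 3) F) (z : Matrix (Fin 3) (Fin 3) F), cj g (s • z) = s • cj g z := fun g z => by
        simp only [cj, mul_smul_comm, smul_mul_assoc]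
    have hfix : cj ((c : GL (Fin 3) F) ^ (3 * d)) ((a : GL (Fin 3) F) : Matrix (Fin 3) (Fin 3) F) = ((a : GL (Fin 3) F) : Matrix (Fin 3) (Fin 3) F) := by
      rw [show 3 * d = d + (d + d) by ring, pow_add, pow_add, ← cj_cj, ← cj_cj, hconj, hsm, hconj, hsm, hsm,
        hconj, smul_smul, smul_smul, show s * s * s = 1 by rw [← hs3]; ring, one_smul]
    -- the power is not scalar
    have hns3 : ∀ t : F, ((((c : GL (Fin 3) F) ^ (3 * d)) : GL (Fin 3) F) : Matrix (Fin 3) (Fin 3) F) ≠ t • 1 := by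
      intro t ht
      have hdv := dvd_of_scal hc ho ht
      have hle := Nat.le_of_dvd (by omega) hdv
      have h1 := Fintype.one_lt_card (α := F)
      have hq8 : Fintype.card F ≤ 8 := by
        by_contra hlt
        have : 9 ^ 2 ≤ Fintype.card F ^ 2 := Nat.pow_le_pow_left (by omega) 2
        rw [vv_eq] at hle
        omega
      have h7 : Fintype.card F = 7 := by omega
      rw [vv_eq, h7] at hdv
      norm_num at hdv
      obtain ⟨e, he⟩ := hdv
      omega
    -- hence the non-scalar elements of `A` lie in the field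
    have hKa : ((a : GL (Fin 3) F) : Matrix (Fin 3) (Fin 3) F) ∈ K := by
      refine mem_of_commute (k := ((c : GL (Fin 3) F) ^ (3 * d))) ?_ hns3 (cj_commute hfix)
      rw [Units.val_pow_eq_pow_val]; exact K.pow_mem c.2 _
    exact hKa
  refine hans (hB _ ⟨haA, Subgroup.mem_centralizer_iff.2 fun z hz => Units.ext ?_⟩)
  rw [Units.val_mul, Units.val_mul]
  exact hK.out.comm _ (hall z hz) _ (hall _ haA)

end Cfsg.Agent.SingerThree22
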