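import Cfsg.Agent.Lib.SingerThree22Root
import Cfsg.Agent.Lib.SingerThree22Centres
import Cfsg.Agent.Lib.SingerThree22Except
import Cfsg.Agent.Lib.SingerThree22Solv
import Cfsg.Agent.Lib.LinThreeRoot38
import Cfsg.Agent.S0205

/-!
The normaliser of a cubic field of matrices is maximal in `SL_3(q)`, `q ≠ 4`.
-/

set_option autoImplicit false
set_option linter.unusedSectionVars false
set_option linter.style.haveILetI false
set_option synthInstance.maxHeartbeats 400000

namespace Cfsg.Agent.SingerThree22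

open Matrix Module
open Cfsg.Agent.TransvectionMax (tv tv_act tv_add tv_zero_right tv_inv)

variable {F : Type*} [Field F] [Fintype F]
variable {K : Subalgebra F (Matrix (Fin 3) (Fin 3) F)} [hK : Fact (Cfsg.Geo.IsFieldSubalgebra 3 K)]
variable {M : Subgroup (GL (Fin 3) F)}

theorem irred (hM : Over K M) : LinThreeRoot38.Irred M := by
  intro W hW
  obtain ⟨c, hc, ho⟩ := exists_gen (K := K)
  rcases eq_or_ne W ⊥ with h | h
  · exact Or.inl h
  refine Or.inr (eq_top_of_invariant c.2 (fun s e => ?_) (fun w hw => hW _ (hM c hc) w hw) h)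
  exact not_scal_pow hc ho le_rfl (by norm_num) s (by rw [pow_one]; exact e)

/-- One transvection gives the special linear group. -/
theorem le_of_transvection (h4 : Fintype.card F ≠ 4) (hM : Over K M) {u φ : Fin 3 → F} (hu : u ≠ 0)
    (hφ0 : φ ≠ 0) (hφ : φ ∈ axes M u) : Cfsg.Geo.specialLinear (Fin 3) F ≤ M := by
  obtain ⟨w, hw, hsp⟩ := exists_span2 h4 hM hu hφ hφ0
  rcases centres h4 hM hw hsp with hall | ⟨hp, h3, h16, hR⟩
  · exact LinThreeRoot38.specialLinear_le_of_root (irred hM) hu hφ0 hφ.1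
      fun c => (exists_full hall hu hφ hφ0 c).2
  · exact (false_of_one_orbit h4 hM hw hsp hp h3 h16 hR).elim

/-! ### Involutions -/

theorem exists_rank_one {f : (Fin 3 → F) →ₗ[F] (Fin 3 → F)} (h : finrank F (LinearMap.range f) ≤ 1)
    (h0 : f ≠ 0) : ∃ u φ : Fin 3 → F, u ≠ 0 ∧ φ ≠ 0 ∧ ∀ x, f x = (φ ⬝ᵥ x) • u := by
  obtain ⟨z, hz⟩ : ∃ z, f z ≠ 0 := not_forall.1 fun hall => h0 (LinearMap.ext hall)
  have hspan : ∀ x, ∃ t : F, t • f z = f x := fun x => by
    have hle : Submodule.span F {f z} ≤ LinearMap.range f :=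
      (Submodule.span_singleton_le_iff_mem _ _).2 ⟨z, rfl⟩
    have heq := Submodule.eq_of_le_of_finrank_le hle (by rw [finrank_span_singleton hz]; exact h)
    exact Submodule.mem_span_singleton.1 (heq ▸ LinearMap.mem_range_self f x)
  choose t ht using hspan
  refine ⟨f z, fun j => t (Pi.single j 1), hz, fun e => ?_, fun x => ?_⟩
  · refine h0 ((Pi.basisFun F (Fin 3)).ext fun j => ?_)
    rw [LinearMap.zero_apply, Pi.basisFun_apply, ← ht (Pi.single j 1),
      show t (Pi.single j 1) = 0 from congrFun e j, zero_smul]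
  · conv_lhs => rw [pi_eq_sum_univ' x]
    simp only [map_sum, map_smul, dotProduct, Finset.sum_smul]
    refine Finset.sum_congr rfl fun j _ => ?_
    rw [← ht (Pi.single j 1), smul_smul, mul_comm]

/-- An involution of determinant one in characteristic two is a transvection. -/
theorem transvection_of_invol (h2 : (2 : F) = 0) {t : GL (Fin 3) F} (ht : t * t = 1) (ht1 : t ≠ 1) :
    ∃ u φ : Fin 3 → F, u ≠ 0 ∧ φ ≠ 0 ∧ φ ⬝ᵥ u = 0 ∧ t = tv u φ := by
  set N := mulVecLin ((t : Matrix (Fin 3) (Fin 3) F) - 1) with hN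
  have hNN : ∀ x, N (N x) = 0 := fun x => by
    have ht' : (t : Matrix (Fin 3) (Fin 3) F) * t = 1 := by rw [← Units.val_mul, ht, Units.val_one]
    simp only [hN, mulVecLin_apply, mulVec_mulVec]
    rw [show ((t : Matrix (Fin 3) (Fin 3) F) - 1) * ((t : Matrix (Fin 3) (Fin 3) F) - 1) =
        (2 : F) • (1 - (t : Matrix (Fin 3) (Fin 3) F)) by
      rw [sub_mul, mul_sub, ht', one_mul, mul_one, two_smul]; abel, h2, zero_smul, zero_mulVec]
  have hN0 : N ≠ 0 := fun e => ht1 (TransvectionMax.gl_ext fun x => by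
    have := LinearMap.congr_fun e x
    rw [hN, mulVecLin_apply, sub_mulVec, one_mulVec, LinearMap.zero_apply, sub_eq_zero] at this
    rw [this, TransvectionMax.one_act])
  have hr : finrank F (LinearMap.range N) ≤ 1 := by
    have hle : LinearMap.range N ≤ LinearMap.ker N := by rintro _ ⟨x, rfl⟩; exact hNN x
    have h1 := Submodule.finrank_mono hle
    have h3 := LinearMap.finrank_range_add_finrank_ker N
    rw [Module.finrank_fin_fun] at h3
    omega
  obtain ⟨u, φ, hu, hφ, hf⟩ := exists_rank_one hr hN0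
  obtain ⟨z, hz⟩ := exists_dot_ne hφ
  have hφu : φ ⬝ᵥ u = 0 := by
    have := hNN z
    rw [hf, hf, dotProduct_smul, smul_eq_mul, smul_eq_zero, mul_eq_zero] at this
    exact (this.resolve_right hu).resolve_left hz
  refine ⟨u, φ, hu, hφ, hφu, TransvectionMax.tv_eq_of_act hφu fun x => ?_⟩
  rw [← hf, hN, mulVecLin_apply, sub_mulVec, one_mulVec]
  abel

/-- The involution homology with centre `u` and axis `φ = 0`. -/
def Hom2 (M : Subgroup (GL (Fin 3) F)) (u φ : Fin 3 → F) : Prop :=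
  φ ⬝ᵥ u = 1 ∧ ∃ t ∈ M, ∀ x, (t : Matrix (Fin 3) (Fin 3) F) *ᵥ x = -x + (2 * (φ ⬝ᵥ x)) • u

/-- An involution of determinant one in odd characteristic is a homology. -/
theorem hom2_of_invol (h2 : (2 : F) ≠ 0) {t : GL (Fin 3) F} (htM : t ∈ M)
    (hdet : t ∈ Cfsg.Geo.specialLinear (Fin 3) F) (ht : t * t = 1) (ht1 : t ≠ 1) :
    ∃ u φ, Hom2 M u φ := by
  have ht' : (t : Matrix (Fin 3) (Fin 3) F) * t = 1 := by rw [← Units.val_mul, ht, Units.val_one]
  have hd : (t : Matrix (Fin 3) (Fin 3) F).det = 1 := by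
    simpa [Cfsg.Geo.specialLinear, MonoidHom.mem_ker, Units.ext_iff] using hdet
  set P := mulVecLin ((2 : F)⁻¹ • ((1 : Matrix (Fin 3) (Fin 3) F) + (t : Matrix (Fin 3) (Fin 3) F))) with hP
  have hPx : ∀ x, P x = (2 : F)⁻¹ • (x + (t : Matrix (Fin 3) (Fin 3) F) *ᵥ x) := fun x => by
    rw [hP, mulVecLin_apply, smul_mulVec, add_mulVec, one_mulVec]
  have hPP : ∀ x, P (P x) = P x := fun x => by
    rw [hPx, hPx, mulVec_smul, mulVec_add, mulVec_mulVec, ht', one_mulVec, ← smul_add, smul_smul]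
    rw [show x + (t : Matrix (Fin 3) (Fin 3) F) *ᵥ x + ((t : Matrix (Fin 3) (Fin 3) F) *ᵥ x + x) =
      (2 : F) • (x + (t : Matrix (Fin 3) (Fin 3) F) *ᵥ x) by rw [two_smul]; abel, smul_smul, mul_assoc,
      inv_mul_cancel₀ h2, mul_one]
  have htx : ∀ x, (t : Matrix (Fin 3) (Fin 3) F) *ᵥ x = -x + (2 : F) • P x := fun x => by
    rw [hPx, smul_smul, mul_inv_cancel₀ h2, one_smul]
    abel
  set Q : (Fin 3 → F) →ₗ[F] (Fin 3 → F) := LinearMap.id - P with hQ
  have hker : LinearMap.ker P = LinearMap.range Q := by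
    ext w
    simp only [LinearMap.mem_ker, LinearMap.mem_range, hQ, LinearMap.sub_apply, LinearMap.id_apply]
    exact ⟨fun hw => ⟨w, by rw [hw, sub_zero]⟩, fun ⟨z, hz⟩ => by rw [← hz, map_sub, hPP, sub_self]⟩
  have hsum := LinearMap.finrank_range_add_finrank_ker P
  rw [hker, Module.finrank_fin_fun] at hsum
  have hP0 : P ≠ 0 := fun e => by
    have hneg : (t : Matrix (Fin 3) (Fin 3) F) = -1 := Matrix.ext_iff_mulVec.2 fun x => by
      rw [htx, e, LinearMap.zero_apply, smul_zero, add_zero, neg_mulVec, one_mulVec]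
    rw [hneg, det_neg, det_one, Fintype.card_fin] at hd
    exact h2 (by linear_combination -hd)
  by_cases hr : finrank F (LinearMap.range P) ≤ 1
  · obtain ⟨u, φ, hu, hφ, hf⟩ := exists_rank_one hr hP0
    obtain ⟨z, hz⟩ := exists_dot_ne hφ
    refine ⟨u, φ, ?_, t, htM, fun x => by rw [htx, hf, smul_smul]⟩
    have := hPP z
    rw [hf, hf, dotProduct_smul, smul_eq_mul] at this
    exact mul_left_cancel₀ hz ((smul_left_injective F hu this).trans (mul_one _).symm)
  exfalso
  by_cases hQ0 : Q = 0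
  · refine ht1 (TransvectionMax.gl_ext fun x => ?_)
    have := LinearMap.congr_fun hQ0 x
    rw [hQ, LinearMap.sub_apply, LinearMap.id_apply, LinearMap.zero_apply, sub_eq_zero] at this
    rw [htx, ← this, two_smul, TransvectionMax.one_act]
    abel
  obtain ⟨u, φ, hu, hφ, hf⟩ := exists_rank_one (f := Q) (by omega) hQ0
  obtain ⟨z, hz⟩ := exists_dot_ne hφ
  have hφu : φ ⬝ᵥ u = 1 := by
    have hQQ : Q (Q z) = Q z := by
      simp only [hQ, LinearMap.sub_apply, LinearMap.id_apply, map_sub, hPP, sub_self, sub_zero]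
    rw [hf, hf, dotProduct_smul, smul_eq_mul] at hQQ
    exact mul_left_cancel₀ hz ((smul_left_injective F hu hQQ).trans (mul_one _).symm)
  have hmat : (t : Matrix (Fin 3) (Fin 3) F) = 1 + vecMulVec ((-2 : F) • u) φ := by
    refine Matrix.ext_iff_mulVec.2 fun x => ?_
    rw [add_mulVec, one_mulVec, vecMulVec_mulVec, op_smul_eq_smul, htx,
      show P x = x - Q x by rw [hQ, LinearMap.sub_apply, LinearMap.id_apply, sub_sub_cancel], hf,
      smul_sub, two_smul, smul_smul, smul_smul]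
    rw [show (φ ⬝ᵥ x) * (-2 : F) = -(2 * (φ ⬝ᵥ x)) by ring, neg_smul]
    abel
  rw [hmat, vecMulVec_eq Unit, det_one_add_replicateCol_mul_replicateRow, dotProduct_smul, hφu, smul_eq_mul] at hd
  exact h2 (by linear_combination -hd)

theorem Hom2.ne_zero {u φ : Fin 3 → F} (h : Hom2 M u φ) : u ≠ 0 ∧ φ ≠ 0 :=
  ⟨fun e => zero_ne_one (α := F) (by rw [← h.1, e, dotProduct_zero]),
    fun e => zero_ne_one (α := F) (by rw [← h.1, e, zero_dotProduct])⟩

theorem Hom2.conj {u φ : Fin 3 → F} (h : Hom2 M u φ) {g : GL (Fin 3) F} (hg : g ∈ M) :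
    Hom2 M ((g : Matrix (Fin 3) (Fin 3) F) *ᵥ u) (φ ᵥ* ((g⁻¹ : GL (Fin 3) F) : Matrix (Fin 3) (Fin 3) F)) := by
  obtain ⟨t, ht, hact⟩ := h.2
  refine ⟨by rw [← dotProduct_mulVec, TransvectionMax.inv_act_act, h.1], g * t * g⁻¹,
    M.mul_mem (M.mul_mem hg ht) (M.inv_mem hg), fun x => ?_⟩
  rw [TransvectionMax.mul_act, TransvectionMax.mul_act, hact, mulVec_add, mulVec_neg,
    TransvectionMax.act_inv_act, mulVec_smul, dotProduct_mulVec]

theorem Hom2.unique (h2 : (2 : F) ≠ 0) (hnt : ∀ u φ : Fin 3 → F, u ≠ 0 → φ ∈ axes M u → φ = 0)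
    {u φ ψ : Fin 3 → F} (h : Hom2 M u φ) (h' : Hom2 M u ψ) : ψ = φ := by
  obtain ⟨t, ht, hta⟩ := h.2
  obtain ⟨s, hs, hsa⟩ := h'.2
  have h0 : ((2 : F) • (ψ - φ)) ⬝ᵥ u = 0 := by
    rw [smul_dotProduct, sub_dotProduct, h.1, h'.1, sub_self, smul_zero]
  have he : t * s = tv u ((2 : F) • (ψ - φ)) := by
    refine TransvectionMax.tv_eq_of_act ?_ fun x => ?_
    · rw [smul_dotProduct, sub_dotProduct, h.1, h'.1, sub_self, smul_zero]
    rw [TransvectionMax.mul_act, hsa, hta, dotProduct_add, dotProduct_neg, dotProduct_smul, h.1,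
      smul_dotProduct, sub_dotProduct, neg_add_rev, neg_neg]
    simp only [smul_eq_mul, mul_one, ← neg_smul]
    rw [add_comm (-(2 * ψ ⬝ᵥ x) • u) x, add_assoc, ← add_smul]
    congr 2
    ring
  have hm : (2 : F) • (ψ - φ) ∈ axes M u :=
    ⟨by rw [smul_dotProduct, sub_dotProduct, h.1, h'.1, sub_self, smul_zero], he ▸ M.mul_mem ht hs⟩
  have := hnt u _ h.ne_zero.1 hm
  rw [smul_eq_zero, sub_eq_zero] at this
  exact this.resolve_left h2

/-- An involution homology forces a transvection. -/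
theorem exists_axis_of_hom2 (hodd : Odd (Fintype.card F)) (h2 : (2 : F) ≠ 0) (hM : Over K M) {u φ : Fin 3 → F}
    (h : Hom2 M u φ) : ∃ v ψ : Fin 3 → F, v ≠ 0 ∧ ψ ≠ 0 ∧ ψ ∈ axes M v := by
  classical
  by_contra hno
  push Not at hno
  have hnt : ∀ v ψ : Fin 3 → F, v ≠ 0 → ψ ∈ axes M v → ψ = 0 := fun v ψ hv hψ =>
    by_contra fun h0 => hno v ψ hv h0 hψ
  obtain ⟨hu, hφ0⟩ := h.ne_zero
  obtain ⟨t, htM, ht⟩ := h.2
  set S : Set (Pl K) := {x | x ∈ R K ∧ x ∈ A K u φ} with hS
  -- inverse of a point of the orbit on the axis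
  have hinv : ∀ x ∈ S, x⁻¹ ∈ S := by
    rintro x ⟨hxR, hxA⟩
    obtain ⟨g, hgM, rfl⟩ := exists_mem_of_R hM hxR
    have hw : φ ⬝ᵥ act g u = 0 := (mem_A hu).1 hxA
    set ψ := φ ᵥ* (((g : GL (Fin 3) F)⁻¹ : GL (Fin 3) F) : Matrix (Fin 3) (Fin 3) F) with hψ
    have hψh : Hom2 M (act g u) ψ := h.conj hgM
    have hwneg : (t : Matrix (Fin 3) (Fin 3) F) *ᵥ act g u = -act g u := by
      rw [ht, hw, mul_zero, zero_smul, add_zero]
    have hneg := hψh.conj htM
    rw [hwneg] at hneg
    -- the same element seen from the positive vector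
    have hpos : Hom2 M (act g u) (-(ψ ᵥ* ((t⁻¹ : GL (Fin 3) F) : Matrix (Fin 3) (Fin 3) F))) := by
      obtain ⟨h1, s, hs, hsa⟩ := hneg
      refine ⟨by rw [neg_dotProduct, ← dotProduct_neg, h1], s, hs, fun x => ?_⟩
      rw [hsa, neg_dotProduct, mul_neg, neg_smul, smul_neg]
    have huniq := Hom2.unique h2 hnt hψh hpos
    have htinv : ∀ x, ((t⁻¹ : GL (Fin 3) F) : Matrix (Fin 3) (Fin 3) F) *ᵥ x = -x + (2 * (φ ⬝ᵥ x)) • u := by
      intro x
      refine TransvectionMax.act_injective t ?_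
      show (t : Matrix (Fin 3) (Fin 3) F) *ᵥ _ = (t : Matrix (Fin 3) (Fin 3) F) *ᵥ _
      rw [TransvectionMax.act_inv_act, mulVec_add, mulVec_neg, mulVec_smul, ht, ht u, h.1, mul_one,
        neg_add, neg_neg, show -u + (2 : F) • u = u by rw [two_smul]; abel, add_assoc, neg_add_cancel, add_zero]
    have hψu : ψ ⬝ᵥ u = 0 := by
      obtain ⟨z, hz⟩ := exists_dot_ne hφ0
      have h3 := congrArg (fun v => v ⬝ᵥ z) huniq
      simp only [neg_dotProduct, ← dotProduct_mulVec, htinv, dotProduct_add, dotProduct_neg,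
        dotProduct_smul, neg_add, neg_neg, smul_eq_mul] at h3
      rw [add_eq_left, neg_eq_zero, mul_eq_zero, mul_eq_zero] at h3
      exact h3.resolve_left fun h4 => h4.elim h2 hz
    refine ⟨(R K).inv_mem hxR, ?_⟩
    rw [← QuotientGroup.mk_inv, mem_A hu]
    rw [hψ, ← dotProduct_mulVec] at hψu
    exact hψu
  have h1S : (1 : Pl K) ∉ S := fun h1 => by
    have := h1.2
    rw [← QuotientGroup.mk_one, mem_A hu, act_one, h.1] at this
    exact one_ne_zero this
  have hpair : ∀ a ∈ S, ∀ b ∈ S, a ≠ b → b = a⁻¹ := by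
    intro a ha b hb hab
    obtain ⟨c, -, huniq⟩ := A_unique (K := K) (z := a * b⁻¹) hu hφ0 (fun e => hab (mul_inv_eq_one.1 e))
    have h1 := huniq b ⟨hb.2, by rw [inv_mul_cancel_right]; exact ha.2⟩
    have h2' := huniq a⁻¹ ⟨(hinv a ha).2, by rw [mul_comm a, mul_assoc, mul_inv_cancel, mul_one]; exact (hinv b hb).2⟩
    exact h1.trans h2'.symm
  have hsq : ∀ a ∈ S, a⁻¹ ≠ a := by
    intro a ha e
    refine h1S ?_
    have ha2 : a ^ 2 = 1 := by rw [sq]; nth_rewrite 1 [← e]; exact inv_mul_cancel a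
    have hcop : Nat.Coprime (Nat.card (Pl K)) 2 := by
      rw [card_Pl, Nat.coprime_two_right, vv_eq, show Fintype.card F ^ 2 + Fintype.card F + 1 =
        Fintype.card F * (Fintype.card F + 1) + 1 by ring]
      exact (Nat.even_mul_succ_self _).add_one
    have : a = 1 := (powCoprime hcop).injective (by simp [ha2])
    rwa [this] at ha
  have hcard : cnt K u φ = Nat.card S := Nat.card_congr
    { toFun := fun x => ⟨x.1.1, x.1.2, x.2⟩
      invFun := fun x => ⟨⟨x.1, x.2.1⟩, x.2.2⟩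
      left_inv := fun x => rfl
      right_inv := fun x => rfl }
  obtain ⟨hn0, hn2⟩ := cnt_ne_zero_two (K := K) hu hφ0 hodd
  rcases S.eq_empty_or_nonempty with hemp | ⟨a, ha⟩
  · refine hn0 ?_
    rw [hcard, hemp]
    simp
  · refine hn2 ?_
    have hS2 : S = {a, a⁻¹} := by
      ext b
      refine ⟨fun hb => ?_, ?_⟩
      · by_cases hab : a = b
        · exact Or.inl hab.symm
        · exact Or.inr (hpair a ha b hb hab)
      · rintro (rfl | rfl)
        · exact ha
        · exact hinv a ha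
    rw [hcard, hS2, Nat.card_coe_set_eq, Set.ncard_pair (Ne.symm (hsq a ha))]

/-- The overgroups of the norm-one part. -/
theorem overgroup_cases (h4 : Fintype.card F ≠ 4) (hMSL : M ≤ Cfsg.Geo.specialLinear (Fin 3) F)
    (hM : Over K M) :
    M ≤ Cfsg.Geo.subalgebraNormalizer K ∨ M = Cfsg.Geo.specialLinear (Fin 3) F := by
  rcases Nat.even_or_odd (Nat.card M) with heven | hodd
  · right
    haveI : Fact (Nat.Prime 2) := ⟨Nat.prime_two⟩
    obtain ⟨t, ht⟩ := exists_prime_orderOf_dvd_card' (G := M) 2 (even_iff_two_dvd.1 heven)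
    have htt : (t : GL (Fin 3) F) * t = 1 := by
      have := pow_orderOf_eq_one t
      rw [ht, sq] at this
      exact congrArg Subtype.val this
    have ht1 : (t : GL (Fin 3) F) ≠ 1 := fun e => by
      rw [orderOf_eq_one_iff.2 (Subtype.ext e)] at ht
      norm_num at ht
    refine le_antisymm hMSL ?_
    by_cases h2 : (2 : F) = 0
    · obtain ⟨u, φ, hu, hφ, h0, e⟩ := transvection_of_invol h2 htt ht1
      exact le_of_transvection h4 hM hu hφ ⟨h0, e ▸ t.2⟩
    · obtain ⟨u, φ, hhom⟩ := hom2_of_invol h2 t.2 (hMSL t.2) htt ht1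
      have hodd : Odd (Fintype.card F) := by
        rw [Nat.odd_iff]
        refine FiniteField.odd_card_of_char_ne_two fun hc => h2 ?_
        haveI : CharP F (ringChar F) := ringChar.charP F
        have := CharP.cast_eq_zero F (ringChar F)
        rw [hc] at this
        exact_mod_cast this
      obtain ⟨v, ψ, hv, hψ, hax⟩ := exists_axis_of_hom2 hodd h2 hM hhom
      exact le_of_transvection h4 hM hv hψ hax
  · exact Or.inl (normalises_of_solvable h4 hMSL hM (S0205.result hodd))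

/-- The normaliser of a cubic field of matrices is maximal in `SL_3(q)` for `q ≠ 4`. -/
theorem singer_three_maximal {F : Type*} [Field F] [Fintype F] (hq : Fintype.card F ≠ 4)
    (K : Subalgebra F (Matrix (Fin 3) (Fin 3) F)) (hK : Cfsg.Geo.IsFieldSubalgebra 3 K) :
    Cfsg.Geo.IsMaximalIn (Cfsg.Geo.specialLinear (Fin 3) F)
      (Cfsg.Geo.subalgebraNormalizer K ⊓ Cfsg.Geo.specialLinear (Fin 3) F) := by
  haveI : Fact (Cfsg.Geo.IsFieldSubalgebra 3 K) := ⟨hK⟩
  have hKg : ∀ g : Kg K, (g : GL (Fin 3) F) ∈ Cfsg.Geo.subalgebraNormalizer K := by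
    intro g k
    constructor
    · intro hk
      exact K.mul_mem (K.mul_mem g.2 hk) (g⁻¹).2
    · intro hk
      have h := K.mul_mem (K.mul_mem (g⁻¹).2 hk) g.2
      simpa [Subgroup.coe_inv, mul_assoc, ← Units.val_mul] using h
  refine ⟨lt_of_le_of_ne inf_le_right fun he => ?_, fun M hNM hMSL => ?_⟩
  · -- a transvection does not normalise the field
    let v : Fin 3 → F := Pi.single 0 1
    let a : Fin 3 → F := Pi.single 1 1
    have hav : a ⬝ᵥ v = 0 := by simp [a, v]
    have hmem : tv v a ∈ Cfsg.Geo.subalgebraNormalizer K ⊓ Cfsg.Geo.specialLinear (Fin 3) F :=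
      he.symm ▸ TransvectionMax.tv_mem_sl v a
    have hne : tv v a ≠ 1 := fun e => by
      have := tv_act hav (Pi.single 1 1)
      rw [e, TransvectionMax.one_act] at this
      have h0 := congrFun this 0
      simp [a, v] at h0
    have hv : v ≠ 0 := fun h => one_ne_zero (α := F) (by simpa [v] using congrFun h 0)
    obtain ⟨s, hs⟩ := SingerPrime.fixed_le (n := 3) Nat.prime_three hK hmem.1 hne hv (w := Pi.single 2 1)
      (by rw [tv_act hav, hav, zero_smul, add_zero])
      (by rw [tv_act hav]; simp [a])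
    have h2 := congrFun hs 2
    simp [v] at h2
  · have hover : Over K M := fun g hg => hNM ⟨hKg g, hg⟩
    rcases overgroup_cases hq hMSL hover with h | h
    · exact Or.inl (le_antisymm (le_inf h hMSL) hNM)
    · exact Or.inr h

end Cfsg.Agent.SingerThree22
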