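import Cfsg.Agent.Lib.SingerThree22Count
import Cfsg.Agent.Lib.LinSubfieldMax97

/-!
The transvections of an overgroup of the norm-one part of a Singer group: existence of a centre with two axes.
-/

set_option autoImplicit false
set_option linter.unusedSectionVars false
set_option linter.style.haveILetI false
set_option synthInstance.maxHeartbeats 400000

namespace Cfsg.Agent.SingerThree22

open Matrix Module
open Cfsg.Agent.TransvectionMax (tv tv_act tv_add tv_zero_right tv_inv)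
open Cfsg.Agent.LinSubfieldMax97 (tv_conj tv_conj_tv tv_add_left tv_smul_left)

variable {F : Type*} [Field F] [Fintype F]
variable {K : Subalgebra F (Matrix (Fin 3) (Fin 3) F)} [hK : Fact (Cfsg.Geo.IsFieldSubalgebra 3 K)]
variable {M : Subgroup (GL (Fin 3) F)}

/-- The subgroup contains the elements of determinant one of the field. -/
def Over (K : Subalgebra F (Matrix (Fin 3) (Fin 3) F)) [Fact (Cfsg.Geo.IsFieldSubalgebra 3 K)]
    (M : Subgroup (GL (Fin 3) F)) : Prop :=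
  ∀ g : Kg K, (g : GL (Fin 3) F) ∈ Cfsg.Geo.specialLinear (Fin 3) F → (g : GL (Fin 3) F) ∈ M

/-- The axes of the transvections with centre `u`. -/
def axes (M : Subgroup (GL (Fin 3) F)) (u : Fin 3 → F) : AddSubgroup (Fin 3 → F) where
  carrier := {φ | φ ⬝ᵥ u = 0 ∧ tv u φ ∈ M}
  add_mem' {a b} ha hb := ⟨by rw [add_dotProduct, ha.1, hb.1, add_zero], by
    rw [← tv_add ha.1 hb.1]; exact M.mul_mem ha.2 hb.2⟩
  zero_mem' := ⟨zero_dotProduct _, by rw [tv_zero_right]; exact M.one_mem⟩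
  neg_mem' {a} ha := ⟨by rw [neg_dotProduct, ha.1, neg_zero], by rw [← tv_inv ha.1]; exact M.inv_mem ha.2⟩

theorem mem_axes {u φ : Fin 3 → F} : φ ∈ axes M u ↔ φ ⬝ᵥ u = 0 ∧ tv u φ ∈ M := Iff.rfl

/-- Two axes at least, in general position. -/
def Span2 (M : Subgroup (GL (Fin 3) F)) (u : Fin 3 → F) : Prop :=
  ∀ w : Fin 3 → F, (∀ s : F, w ≠ s • u) → ∃ φ ∈ axes M u, φ ⬝ᵥ w ≠ 0

theorem axes_smul {u φ : Fin 3 → F} {s : F} (hs : s ≠ 0) :
    φ ∈ axes M (s • u) ↔ s • φ ∈ axes M u := by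
  constructor
  · rintro ⟨h1, h2⟩
    have h0 : φ ⬝ᵥ u = 0 := by
      rw [dotProduct_smul, smul_eq_mul, mul_eq_zero] at h1
      exact h1.resolve_left hs
    exact ⟨by rw [smul_dotProduct, h0, smul_zero], by rwa [← tv_smul_left h0]⟩
  · rintro ⟨h1, h2⟩
    have h0 : φ ⬝ᵥ u = 0 := by
      rw [smul_dotProduct, smul_eq_mul, mul_eq_zero] at h1
      exact h1.resolve_left hs
    exact ⟨by rw [dotProduct_smul, h0, smul_zero], by rwa [tv_smul_left h0]⟩

theorem conj_axes {g : GL (Fin 3) F} (hg : g ∈ M) {u φ : Fin 3 → F} (h : φ ∈ axes M u) :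
    φ ᵥ* ((g⁻¹ : GL (Fin 3) F) : Matrix (Fin 3) (Fin 3) F) ∈
      axes M ((g : Matrix (Fin 3) (Fin 3) F) *ᵥ u) := by
  refine ⟨?_, ?_⟩
  · rw [← dotProduct_mulVec, TransvectionMax.inv_act_act]
    exact h.1
  · rw [← tv_conj g h.1]
    exact M.mul_mem (M.mul_mem hg h.2) (M.inv_mem hg)

theorem pull_axes {g : GL (Fin 3) F} (hg : g ∈ M) {u φ : Fin 3 → F}
    (h : φ ∈ axes M ((g : Matrix (Fin 3) (Fin 3) F) *ᵥ u)) :
    φ ᵥ* (g : Matrix (Fin 3) (Fin 3) F) ∈ axes M u := by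
  have := conj_axes (M.inv_mem hg) h
  rwa [inv_inv, TransvectionMax.inv_act_act] at this

/-- Commutator of two transvections. -/
theorem step {v w φ ψ : Fin 3 → F} (hφ : φ ∈ axes M v) (hψ : ψ ∈ axes M w) (h0 : φ ⬝ᵥ w = 0) :
    (ψ ⬝ᵥ v) • φ ∈ axes M w := by
  have hm := M.mul_mem (M.mul_mem hφ.2 hψ.2) (M.inv_mem hφ.2)
  rw [tv_conj_tv hφ.1 hψ.1, h0, zero_smul, add_zero] at hm
  have h : ψ - (ψ ⬝ᵥ v) • φ ∈ axes M w :=
    ⟨by rw [sub_dotProduct, smul_dotProduct, hψ.1, h0, smul_zero, sub_zero], hm⟩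
  have := (axes M w).sub_mem hψ h
  rwa [sub_sub_cancel] at this

/-- Functionals killing the same two independent vectors are proportional. -/
theorem prop_of_kills {u w φ ψ : Fin 3 → F} (hu : u ≠ 0) (hw : ∀ s : F, w ≠ s • u) (hφ : φ ≠ 0)
    (h1 : φ ⬝ᵥ u = 0) (h2 : φ ⬝ᵥ w = 0) (h3 : ψ ⬝ᵥ u = 0) (h4 : ψ ⬝ᵥ w = 0) : ∃ s : F, ψ = s • φ := by
  have hli : LinearIndependent F ![w, u] :=
    linearIndependent_fin2.2 ⟨by simpa using hu, fun s hs => hw s (by simpa using hs.symm)⟩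
  have hW : Submodule.span F (Set.range ![w, u]) = LinearMap.ker (row φ) := by
    refine Submodule.eq_of_le_of_finrank_eq (Submodule.span_le.2 ?_) ?_
    · rintro _ ⟨i, rfl⟩
      fin_cases i <;> simp [h1, h2]
    · rw [finrank_span_eq_card hli, finrank_ker_row hφ, Fintype.card_fin]
  have hle : LinearMap.ker (row φ) ≤ LinearMap.ker (row ψ) := by
    rw [← hW, Submodule.span_le]
    rintro _ ⟨i, rfl⟩
    fin_cases i <;> simp [h3, h4]
  obtain ⟨z, hz⟩ := exists_dot_ne hφ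
  refine ⟨(ψ ⬝ᵥ z) / (φ ⬝ᵥ z), funext fun i => ?_⟩
  have hx : Pi.single i 1 - ((φ ⬝ᵥ Pi.single i 1) / (φ ⬝ᵥ z)) • z ∈ LinearMap.ker (row φ) := by
    rw [LinearMap.mem_ker, row_apply, dotProduct_sub, dotProduct_smul, smul_eq_mul,
      div_mul_cancel₀ _ hz, sub_self]
  have h := hle hx
  rw [LinearMap.mem_ker, row_apply, dotProduct_sub, dotProduct_smul, smul_eq_mul, dotProduct_single,
    dotProduct_single, mul_one, mul_one, sub_eq_zero] at h
  rw [Pi.smul_apply, smul_eq_mul, h]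
  ring

/-- An element of the field fixing a functional up to a scalar is a scalar. -/
theorem mem_U_of_fix {φ : Fin 3 → F} (hφ : φ ≠ 0) {g : Kg K} {s : F}
    (h : φ ᵥ* ((g : GL (Fin 3) F) : Matrix (Fin 3) (Fin 3) F) = s • φ) : g ∈ U K := by
  by_contra hg
  have hns : ∀ t : F, ((g : GL (Fin 3) F) : Matrix (Fin 3) (Fin 3) F) ≠ t • 1 := fun t ht => hg ⟨t, ht⟩
  have hk := finrank_ker_row hφ
  have htop := eq_top_of_invariant g.2 hns (W := LinearMap.ker (row φ)) (fun w hw => by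
    rw [LinearMap.mem_ker, row_apply] at hw ⊢
    rw [dotProduct_mulVec, h, smul_dotProduct, hw, smul_zero]) (fun e => by
      rw [e, finrank_bot] at hk; omega)
  rw [htop, finrank_top, Module.finrank_fin_fun] at hk
  omega

theorem exists_mem_of_R (hM : Over K M) {x : Pl K} (hx : x ∈ R K) :
    ∃ g : Kg K, (g : GL (Fin 3) F) ∈ M ∧ (g : Pl K) = x := by
  obtain ⟨g, hg, hgx⟩ := exists_rep hx
  exact ⟨g, hM g hg, hgx⟩

theorem mk_eq_of_axis {φ : Fin 3 → F} (hφ : φ ≠ 0) {g h : Kg K} {s : F} (hs : s ≠ 0)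
    (e : φ ᵥ* ((g : GL (Fin 3) F) : Matrix (Fin 3) (Fin 3) F) =
      s • (φ ᵥ* ((h : GL (Fin 3) F) : Matrix (Fin 3) (Fin 3) F))) : (g : Pl K) = h := by
  rw [QuotientGroup.eq]
  refine mem_U_of_fix hφ (s := s⁻¹) ?_
  have h2 := congrArg (fun w => s⁻¹ • w ᵥ* (((g : GL (Fin 3) F)⁻¹ : GL (Fin 3) F) : Matrix (Fin 3) (Fin 3) F)) e
  simp only [smul_vecMul, smul_smul, inv_mul_cancel₀ hs, one_smul, vecMul_vecMul, Units.mul_inv,
    vecMul_one] at h2
  rw [mul_comm g⁻¹ h, Subgroup.coe_mul, Subgroup.coe_inv, Units.val_mul, ← h2]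

variable {u φ : Fin 3 → F}

/-- Without a centre with two axes, all centres on an axis share it. -/
theorem same_axis (h1 : ∀ w, w ≠ 0 → ¬ Span2 M w) (hu : u ≠ 0) (hφ : φ ∈ axes M u) (hφ0 : φ ≠ 0)
    {w ψ : Fin 3 → F} (hw : w ≠ 0) (hwφ : φ ⬝ᵥ w = 0) (hψ : ψ ∈ axes M w) :
    ∃ s : F, ψ = s • φ := by
  have hone : ∀ {v : Fin 3 → F} {α β : Fin 3 → F}, v ≠ 0 → α ∈ axes M v → α ≠ 0 → β ∈ axes M v →
      ∃ s : F, β = s • α := by
    intro v α β hv hα hα0 hβ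
    have hns := h1 v hv
    rw [Span2] at hns
    push Not at hns
    obtain ⟨z, hz, hzT⟩ := hns
    exact prop_of_kills hv hz hα0 hα.1 (hzT α hα) hβ.1 (hzT β hβ)
  by_cases hc : ∃ t : F, w = t • u
  · obtain ⟨t, rfl⟩ := hc
    have ht : t ≠ 0 := fun e => hw (by rw [e, zero_smul])
    obtain ⟨s, hs⟩ := hone hu hφ hφ0 ((axes_smul ht).1 hψ)
    exact ⟨t⁻¹ * s, by rw [← smul_smul, ← hs, smul_smul, inv_mul_cancel₀ ht, one_smul]⟩
  push Not at hc
  rcases eq_or_ne ψ 0 with rfl | hψ0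
  · exact ⟨0, (zero_smul _ _).symm⟩
  obtain ⟨s, hs⟩ := hone hw hψ hψ0 (step hφ hψ hwφ)
  by_cases hψu : ψ ⬝ᵥ u = 0
  · exact prop_of_kills hu hc hφ0 hφ.1 hwφ hψu hψ.1
  · exfalso
    refine hψu ?_
    have h2 := congrArg (fun z => z ⬝ᵥ u) hs
    simp only [smul_dotProduct, hφ.1, smul_eq_mul, mul_zero] at h2
    rcases mul_eq_zero.1 h2.symm with h3 | h3
    · exfalso
      rw [h3, zero_smul] at hs
      exact hφ0 ((smul_eq_zero.1 hs).resolve_left hψu)
    · exact h3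

theorem cnt_le_one_of_centre (hM : Over K M) (h1 : ∀ w, w ≠ 0 → ¬ Span2 M w) (hu : u ≠ 0)
    (hφ : φ ∈ axes M u) (hφ0 : φ ≠ 0) {x : Fin 3 → F} (hx : x ≠ 0) {χ : Fin 3 → F}
    (hχ : χ ∈ axes M x) (hχ0 : χ ≠ 0) : cnt K x φ ≤ 1 := by
  rw [cnt, Finite.card_le_one_iff_subsingleton]
  refine ⟨fun a b => ?_⟩
  have key : ∀ c : {c : R K // (c : Pl K) ∈ A K x φ}, ∃ g : Kg K, (g : Pl K) = (c.1 : Pl K) ∧ ∃ s : F, s ≠ 0 ∧
      χ = s • (φ ᵥ* ((g : GL (Fin 3) F) : Matrix (Fin 3) (Fin 3) F)) := by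
    intro c
    obtain ⟨g, hgM, hgc⟩ := exists_mem_of_R hM c.1.2
    have hgφ : φ ⬝ᵥ act g x = 0 := (mem_A hx).1 (hgc ▸ c.2)
    obtain ⟨s, hs⟩ := same_axis h1 hu hφ hφ0 (act_ne g hx) hgφ (conj_axes hgM hχ)
    have h2 := congrArg (fun w => w ᵥ* ((g : GL (Fin 3) F) : Matrix (Fin 3) (Fin 3) F)) hs
    simp only [vecMul_vecMul, Units.inv_mul, vecMul_one, smul_vecMul] at h2
    refine ⟨g, hgc, s, fun e => hχ0 (by rw [h2, e, zero_smul]), h2⟩
  obtain ⟨g, hg, s, hs, ea⟩ := key a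
  obtain ⟨g', hg', s', hs', eb⟩ := key b
  have e : φ ᵥ* ((g : GL (Fin 3) F) : Matrix (Fin 3) (Fin 3) F) =
      (s⁻¹ * s') • (φ ᵥ* ((g' : GL (Fin 3) F) : Matrix (Fin 3) (Fin 3) F)) := by
    rw [← smul_smul, ← eb, ea, smul_smul, inv_mul_cancel₀ hs, one_smul]
  have := mk_eq_of_axis hφ0 (mul_ne_zero (inv_ne_zero hs) hs') e
  rw [hg, hg'] at this
  exact Subtype.ext (Subtype.ext this)

/-- A centre with two axes exists. -/
theorem exists_span2 (h4 : Fintype.card F ≠ 4) (hM : Over K M) (hu : u ≠ 0) (hφ : φ ∈ axes M u)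
    (hφ0 : φ ≠ 0) : ∃ w, w ≠ 0 ∧ Span2 M w := by
  classical
  by_contra hno
  push Not at hno
  obtain ⟨h7, h3, hn1⟩ := cnt_le_one (K := K) h4 hu hφ0 (cnt_le_one_of_centre hM hno hu hφ hφ0 hu hφ hφ0)
  have ha := three_a (K := K) h3
  rw [h7] at ha
  obtain ⟨x, hx⟩ : ∃ x : R K, (x : Pl K) ∉ A K u φ := by
    by_contra hall
    push Not at hall
    have : Nat.card (R K) ≤ 1 := hn1 ▸ Nat.card_le_card_of_injective (β := {x : R K // (x : Pl K) ∈ A K u φ}) (fun x => ⟨x, hall x⟩)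
      (fun a b e => congrArg Subtype.val e)
    omega
  obtain ⟨g, hgM, hgx⟩ := exists_mem_of_R hM x.2
  set w := act g u with hwdef
  have hwφ : φ ⬝ᵥ w ≠ 0 := fun e => hx (hgx ▸ (mem_A hu).2 e)
  have hw0 : w ≠ 0 := act_ne g hu
  have hwu : ∀ s : F, w ≠ s • u := fun s e => hwφ (by rw [e, dotProduct_smul, hφ.1, smul_zero])
  obtain ⟨ψ, hψ0, hψu', hψw'⟩ := exists_common_zero u w
  have hψu : ψ ⬝ᵥ u = 0 := by rw [dotProduct_comm]; exact hψu'
  have hψw : ψ ⬝ᵥ w = 0 := by rw [dotProduct_comm]; exact hψw'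
  -- the scalars of the root group
  let T : AddSubgroup F :=
    { carrier := {t | t • φ ∈ axes M u}
      add_mem' := fun {a b} ha hb => by
        show (a + b) • φ ∈ axes M u
        rw [add_smul]; exact (axes M u).add_mem ha hb
      zero_mem' := by
        show (0 : F) • φ ∈ axes M u
        rw [zero_smul]; exact (axes M u).zero_mem
      neg_mem' := fun {a} ha => by
        show (-a) • φ ∈ axes M u
        rw [neg_smul]; exact (axes M u).neg_mem ha }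
  have hT : T = ⊤ := by
    haveI : Fact (Nat.card F).Prime := ⟨by rw [Nat.card_eq_fintype_card, h7]; norm_num⟩
    refine (T.eq_bot_or_eq_top_of_prime_card).resolve_left fun e => ?_
    have h1 : (1 : F) ∈ T := by show (1 : F) • φ ∈ axes M u; rwa [one_smul]
    rw [e, AddSubgroup.mem_bot] at h1
    exact one_ne_zero h1
  have hcentre : ∀ t : F, ∃ χ ∈ axes M (w + t • u), χ ≠ 0 := by
    intro t
    have htT : (t / (φ ⬝ᵥ w)) • φ ∈ axes M u := (hT ▸ AddSubgroup.mem_top _ : t / (φ ⬝ᵥ w) ∈ T)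
    have hwc : φ ᵥ* (((g : GL (Fin 3) F)⁻¹ : GL (Fin 3) F) : Matrix (Fin 3) (Fin 3) F) ∈ axes M w :=
      conj_axes hgM hφ
    have h2 := conj_axes htT.2 hwc
    rw [tv_act htT.1, smul_dotProduct, smul_eq_mul, div_mul_cancel₀ _ hwφ] at h2
    refine ⟨_, h2, fun e => hφ0 ?_⟩
    simp only [vecMul_vecMul, ← Units.val_mul, ← _root_.mul_inv_rev] at e
    exact Matrix.vecMul_injective_of_isUnit (Units.isUnit _) (e.trans (Matrix.zero_vecMul _).symm)
  obtain ⟨t, ht⟩ : ∃ t : F, ∀ k : Kg K, act k u = w + t • u → (k : Pl K) ∉ R K := by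
    by_contra hall
    push Not at hall
    choose k hk hkR using hall
    have hin : ∀ t, (k t : Pl K) ∈ A K u ψ := fun t => (mem_A hu).2 (by
      rw [hk, dotProduct_add, dotProduct_smul, hψw, hψu, smul_zero, add_zero])
    obtain ⟨x', y', e1, e2⟩ := profile' (K := K) h3 hu hψ0
    rw [h7] at e1 e2
    have h4' := (arith_seven e1 (by omega)).1
    have : 7 ≤ cnt K u ψ := by
      rw [← h7, ← Nat.card_eq_fintype_card]
      refine Nat.card_le_card_of_injective (fun t => ⟨⟨_, hkR t⟩, hin t⟩) fun a b e => ?_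
      obtain ⟨s, hs⟩ := (mk_eq_iff hu).1 (Subtype.ext_iff.1 (Subtype.ext_iff.1 e))
      rw [hk, hk] at hs
      have h5 := congrArg (fun z => φ ⬝ᵥ z) hs
      simp only [dotProduct_add, dotProduct_smul, hφ.1, smul_eq_mul, mul_zero, add_zero] at h5
      have hs1 : s = 1 := by
        rcases mul_eq_mul_right_iff.1 (show s * (φ ⬝ᵥ w) = 1 * (φ ⬝ᵥ w) by rw [one_mul]; exact h5.symm) with h | h
        · exact h
        · exact absurd h hwφ
      rw [hs1, one_smul, add_right_inj] at hs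
      exact (smul_left_injective F hu hs).symm
    omega
  obtain ⟨χ, hχ, hχ0⟩ := hcentre t
  have hz0 : w + t • u ≠ 0 := fun e => hwu (-t) (by rw [neg_smul]; exact eq_neg_of_add_eq_zero_left e)
  obtain ⟨k, hk⟩ := exists_act (K := K) hu hz0
  have hle := cnt_le_one_of_centre hM hno hu hφ hφ0 hz0 hχ hχ0
  rw [← hk] at hle
  obtain ⟨y, e1, e2⟩ := profile h3 hu hφ0 k (ht k hk)
  rw [h7] at e1 e2
  have := (arith_seven e1 (by omega)).2 hn1
  omega

end Cfsg.Agent.SingerThree22
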