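import Mathlib
import Cfsg.Agent.Lib.SingerPrime
import Cfsg.Agent.Lib.TransvectionMax

/-!
The projective Singer group of a cubic field of matrices and the distribution of the points of a line of the
plane over the orbits of its norm-one part.
-/

set_option autoImplicit false
set_option linter.unusedSectionVars false
set_option linter.style.haveILetI false
set_option synthInstance.maxHeartbeats 400000

namespace Cfsg.Agent.SingerThree22

open Matrix Module

variable {F : Type*} [Field F] [Fintype F]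
variable (K : Subalgebra F (Matrix (Fin 3) (Fin 3) F)) [hK : Fact (Cfsg.Geo.IsFieldSubalgebra 3 K)]

/-- The invertible elements of the field of matrices. -/
def Kg : Subgroup (GL (Fin 3) F) where
  carrier := {g | (g : Matrix (Fin 3) (Fin 3) F) ∈ K}
  mul_mem' {a b} ha hb := by
    show ((a * b : GL (Fin 3) F) : Matrix (Fin 3) (Fin 3) F) ∈ K
    rw [Units.val_mul]
    exact K.mul_mem ha hb
  one_mem' := by
    show ((1 : GL (Fin 3) F) : Matrix (Fin 3) (Fin 3) F) ∈ K
    rw [Units.val_one]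
    exact K.one_mem
  inv_mem' {a} ha := by
    obtain ⟨y, hy, hay⟩ := hK.out.inv _ ha a.ne_zero
    have h : ((a⁻¹ : GL (Fin 3) F) : Matrix (Fin 3) (Fin 3) F) = y := by
      calc _ = ((a⁻¹ : GL (Fin 3) F) : Matrix (Fin 3) (Fin 3) F) * ((a : Matrix (Fin 3) (Fin 3) F) * y) := by
              rw [hay, mul_one]
        _ = y := by rw [← mul_assoc, Units.inv_mul, one_mul]
    show ((a⁻¹ : GL (Fin 3) F) : Matrix (Fin 3) (Fin 3) F) ∈ K
    rw [h]
    exact hy

instance : CommGroup (Kg K) :=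
  { (inferInstance : Group (Kg K)) with
    mul_comm := fun a b => Subtype.ext (Units.ext (by
      simp only [Subgroup.coe_mul, Units.val_mul]
      exact hK.out.comm _ a.2 _ b.2)) }

variable {K}

/-- The action of an element of the field on a vector. -/
abbrev act (g : Kg K) (w : Fin 3 → F) : Fin 3 → F :=
  ((g : GL (Fin 3) F) : Matrix (Fin 3) (Fin 3) F) *ᵥ w

theorem act_mul (g h : Kg K) (w : Fin 3 → F) : act (g * h) w = act g (act h w) := by
  simp [act, mulVec_mulVec]

theorem act_one (w : Fin 3 → F) : act (1 : Kg K) w = w := by simp [act]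

theorem act_ne (g : Kg K) {w : Fin 3 → F} (hw : w ≠ 0) : act g w ≠ 0 :=
  TransvectionMax.act_ne_zero (g : GL (Fin 3) F) hw

theorem act_smul (g : Kg K) (s : F) (w : Fin 3 → F) : act g (s • w) = s • act g w := mulVec_smul _ _ _

theorem exists_act {u w : Fin 3 → F} (hu : u ≠ 0) (hw : w ≠ 0) : ∃ g : Kg K, act g u = w := by
  obtain ⟨a, ha⟩ := (SingerPrime.act_bij (by norm_num) hK.out hu).2 w
  simp only at ha
  have ha0 : a ≠ 0 := by
    rintro rfl
    simp at ha
    exact hw ha.symm
  obtain ⟨b, hb, hab⟩ := hK.out.inv _ a.2 fun e => ha0 (Subtype.ext e)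
  have hba : b * (a : Matrix (Fin 3) (Fin 3) F) = 1 := by rw [hK.out.comm _ hb _ a.2, hab]
  exact ⟨⟨⟨a, b, hab, hba⟩, a.2⟩, ha⟩

theorem act_injective {u : Fin 3 → F} (hu : u ≠ 0) : Function.Injective (fun g : Kg K => act g u) := by
  intro g h e
  have := (SingerPrime.act_bij (by norm_num) hK.out hu).1 (a₁ := ⟨_, g.2⟩) (a₂ := ⟨_, h.2⟩) e
  exact Subtype.ext (Units.ext (Subtype.ext_iff.1 this))

theorem exists_ne_zero : ∃ u : Fin 3 → F, u ≠ 0 :=
  ⟨Pi.single 0 1, fun h => one_ne_zero (α := F) (by simpa using congrFun h 0)⟩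

/-- The number of points of the plane. -/
def vv (F : Type*) [Fintype F] : ℕ := Fintype.card F ^ 2 + Fintype.card F + 1

theorem card_Kg : Nat.card (Kg K) = (Fintype.card F - 1) * vv F := by
  classical
  obtain ⟨u, hu⟩ := exists_ne_zero (F := F)
  have e : Kg K ≃ {w : Fin 3 → F // w ≠ 0} :=
    Equiv.ofBijective (fun g => ⟨act g u, act_ne g hu⟩)
      ⟨fun g h e => act_injective hu (Subtype.ext_iff.1 e), fun w => by
        obtain ⟨g, hg⟩ := exists_act (K := K) hu w.2
        exact ⟨g, Subtype.ext hg⟩⟩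
  rw [Nat.card_congr e, Nat.card_eq_fintype_card, Fintype.card_subtype_compl, Fintype.card_subtype_eq,
    Fintype.card_pi, Finset.prod_const, Finset.card_univ, Fintype.card_fin, vv]
  have := Fintype.one_lt_card (α := F)
  obtain ⟨m, hm⟩ : ∃ m, Fintype.card F = m + 1 := ⟨Fintype.card F - 1, by omega⟩
  rw [hm]
  simp only [Nat.add_sub_cancel]
  have h : (m + 1) ^ 3 = m * ((m + 1) ^ 2 + (m + 1) + 1) + 1 := by ring
  omega

theorem isCyclic_Kg : IsCyclic (Kg K) := by
  letI : CommRing K :=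
    { (inferInstance : Ring K) with mul_comm := fun x y => Subtype.ext (hK.out.comm _ x.2 _ y.2) }
  letI : Field K := (SingerPrime.isField (by norm_num) hK.out).toField
  let f : Kg K →* K :=
    { toFun := fun g => ⟨_, g.2⟩
      map_one' := Subtype.ext (by simp)
      map_mul' := fun a b => Subtype.ext (by simp) }
  exact isCyclic_of_injective_ringHom_aux f fun a b e => Subtype.ext (Units.ext (Subtype.ext_iff.1 e))
where
  isCyclic_of_injective_ringHom_aux {R : Type _} [CommRing R] [IsDomain R] (f : Kg K →* R)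
      (hf : Function.Injective f) : IsCyclic (Kg K) :=
    isCyclic_of_injective_ringHom f hf

/-- Being a scalar. -/
def IsScal (g : GL (Fin 3) F) : Prop := ∃ s : F, (g : Matrix (Fin 3) (Fin 3) F) = s • 1

variable (K)

/-- The scalars in the field. -/
def U : Subgroup (Kg K) where
  carrier := {g | IsScal (g : GL (Fin 3) F)}
  mul_mem' {a b} := fun ⟨s, hs⟩ ⟨t, ht⟩ => ⟨s * t, by simp [hs, ht, smul_smul, mul_comm]⟩
  one_mem' := ⟨1, by simp⟩
  inv_mem' {a} := fun ⟨s, hs⟩ => by
    have hs0 : s ≠ 0 := by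
      rintro rfl
      exact (a : GL (Fin 3) F).ne_zero (by simpa using hs)
    refine ⟨s⁻¹, ?_⟩
    rw [Subgroup.coe_inv]
    calc _ = (((a : GL (Fin 3) F)⁻¹ : GL (Fin 3) F) : Matrix (Fin 3) (Fin 3) F) *
            (((a : GL (Fin 3) F) : Matrix (Fin 3) (Fin 3) F) * (s⁻¹ • 1)) := by
          rw [hs, smul_mul_smul_comm, mul_inv_cancel₀ hs0, one_mul, one_smul, mul_one]
      _ = _ := by rw [← mul_assoc, Units.inv_mul, one_mul]

/-- The points of the plane. -/
abbrev Pl := Kg K ⧸ U K

variable {K}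

theorem card_U : Nat.card (U K) = Fintype.card F - 1 := by
  classical
  have hsc : ∀ s : Fˣ, (Units.map (algebraMap F (Matrix (Fin 3) (Fin 3) F)).toMonoidHom s : GL (Fin 3) F) ∈ Kg K :=
    fun s => K.algebraMap_mem _
  have e : Fˣ ≃ U K := Equiv.ofBijective
    (fun s => ⟨⟨_, hsc s⟩, (s : F), by simp [Algebra.algebraMap_eq_smul_one]⟩)
    ⟨fun s t e => by
      have h := congrArg (fun g : U K => (((g : Kg K) : GL (Fin 3) F) : Matrix (Fin 3) (Fin 3) F) 0 0) e
      simpa [Algebra.algebraMap_eq_smul_one, Units.ext_iff] using h,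
    fun g => by
      obtain ⟨s, hs⟩ := g.2
      have hs0 : s ≠ 0 := by
        rintro rfl
        exact ((g : Kg K) : GL (Fin 3) F).ne_zero (by simpa using hs)
      exact ⟨Units.mk0 s hs0, Subtype.ext (Subtype.ext (Units.ext (by
        simp [Algebra.algebraMap_eq_smul_one, hs])))⟩⟩
  rw [← Nat.card_congr e, Nat.card_units, Nat.card_eq_fintype_card]

theorem card_Pl : Nat.card (Pl K) = vv F := by
  have h := Subgroup.card_eq_card_quotient_mul_card_subgroup (U K)
  rw [card_Kg, card_U, mul_comm] at h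
  exact (Nat.eq_of_mul_eq_mul_right (by have := Fintype.one_lt_card (α := F); omega) h).symm

theorem isCyclic_Pl : IsCyclic (Pl K) := by
  haveI := isCyclic_Kg (K := K)
  exact isCyclic_of_surjective (QuotientGroup.mk' (U K)) (QuotientGroup.mk'_surjective _)

theorem mk_eq_iff {g h : Kg K} {u : Fin 3 → F} (hu : u ≠ 0) :
    (g : Pl K) = h ↔ ∃ s : F, act h u = s • act g u := by
  rw [QuotientGroup.eq]
  constructor
  · rintro ⟨s, hs⟩
    refine ⟨s, ?_⟩
    have h1 : act (g⁻¹ * h) u = s • u := by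
      show _ *ᵥ u = _
      rw [hs, smul_mulVec, one_mulVec]
    conv_lhs => rw [← mul_inv_cancel_left g h, act_mul, h1, act_smul]
  · rintro ⟨s, hs⟩
    refine ⟨s, ?_⟩
    have h1 : act (g⁻¹ * h) u = s • u := by
      rw [act_mul, hs, act_smul, ← act_mul, inv_mul_cancel, act_one]
    have h2 := (SingerPrime.act_bij (by norm_num) hK.out hu).1
      (a₁ := ⟨_, (g⁻¹ * h).2⟩) (a₂ := ⟨_, K.smul_mem K.one_mem s⟩) (by
        show act (g⁻¹ * h) u = (s • (1 : Matrix (Fin 3) (Fin 3) F)) *ᵥ u
        rw [smul_mulVec, one_mulVec]; exact h1)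
    exact Subtype.ext_iff.1 h2

variable (K)

/-- The points of the line `φ = 0`, in the coordinates given by `u`. -/
def A (u φ : Fin 3 → F) : Set (Pl K) := (fun g : Kg K => (g : Pl K)) '' {g | φ ⬝ᵥ act g u = 0}

/-- The index of the orbit group. -/
def dd (F : Type*) [Fintype F] : ℕ := Nat.gcd (Fintype.card F - 1) (vv F)

/-- The orbit group of the norm-one part. -/
def R : Subgroup (Pl K) := (powMonoidHom (dd F) : Pl K →* Pl K).range

/-- The number of points of the orbit of `u` on the line `φ = 0`. -/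
noncomputable def cnt (u φ : Fin 3 → F) : ℕ := Nat.card {x : R K // (x : Pl K) ∈ A K u φ}

variable {K}

theorem mem_A {u φ : Fin 3 → F} (hu : u ≠ 0) {g : Kg K} :
    (g : Pl K) ∈ A K u φ ↔ φ ⬝ᵥ act g u = 0 := by
  refine ⟨?_, fun h => ⟨g, h, rfl⟩⟩
  rintro ⟨g', hg', e⟩
  obtain ⟨s, hs⟩ := (mk_eq_iff hu).1 e
  rw [hs, dotProduct_smul, show φ ⬝ᵥ act g' u = 0 from hg', smul_zero]

theorem dd_eq : dd F = Nat.gcd (Fintype.card F - 1) 3 := by
  have := Fintype.one_lt_card (α := F)
  obtain ⟨m, hm⟩ : ∃ m, Fintype.card F = m + 1 := ⟨Fintype.card F - 1, by omega⟩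
  rw [dd, vv, hm, Nat.add_sub_cancel, show (m + 1) ^ 2 + (m + 1) + 1 = 3 + m * (m + 3) by ring,
    Nat.gcd_add_mul_left_right]

theorem dd_cases : dd F = 1 ∨ dd F = 3 := by
  rw [dd_eq]
  exact Nat.prime_three.eq_one_or_self_of_dvd _ (Nat.gcd_dvd_right _ _)

theorem card_R : Nat.card (R K) * dd F = vv F := by
  haveI := isCyclic_Pl (K := K)
  rw [R, IsCyclic.card_powMonoidHom_range, card_Pl]
  have h : Nat.gcd (vv F) (dd F) = dd F := Nat.gcd_eq_right (Nat.gcd_dvd_right _ _)
  rw [h, dd, Nat.div_mul_cancel (Nat.gcd_dvd_right _ _)]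

/-- Every element of the orbit group comes from an element of determinant one. -/
theorem exists_rep {x : Pl K} (hx : x ∈ R K) :
    ∃ g : Kg K, (g : GL (Fin 3) F) ∈ Cfsg.Geo.specialLinear (Fin 3) F ∧ (g : Pl K) = x := by
  obtain ⟨y, rfl⟩ := hx
  obtain ⟨y₁, hy₁⟩ := QuotientGroup.mk_surjective (y ^ Nat.gcdA (Fintype.card F - 1) (vv F))
  refine ⟨y₁ ^ (Fintype.card F - 1), ?_, ?_⟩
  · rw [Cfsg.Geo.specialLinear, MonoidHom.mem_ker, SubgroupClass.coe_pow, map_pow]
    exact Units.ext (by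
      rw [Units.val_pow_eq_pow_val, Units.val_one, FiniteField.pow_card_sub_one_eq_one _ (Units.ne_zero _)])
  · have hv : y ^ (vv F : ℤ) = 1 := by
      rw [zpow_natCast, ← card_Pl (K := K)]
      exact pow_card_eq_one'
    rw [powMonoidHom_apply, ← zpow_natCast y, dd, Nat.gcd_eq_gcd_ab, _root_.zpow_add, _root_.zpow_mul' y, _root_.zpow_mul y,
      hv, _root_.one_zpow, mul_one, zpow_natCast]
    show ((y₁ : Pl K)) ^ (Fintype.card F - 1) = _
    rw [hy₁]

end Cfsg.Agent.SingerThree22
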