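import Cfsg.Agent.Lib.SingerThree22Basic

/-!
Distribution of the points of a line over the three orbits of the norm-one part of a Singer group.
-/

set_option autoImplicit false
set_option linter.unusedSectionVars false
set_option linter.style.haveILetI false
set_option synthInstance.maxHeartbeats 400000

namespace Cfsg.Agent.SingerThree22

open Matrix Module

variable {F : Type*} [Field F] [Fintype F]
variable {K : Subalgebra F (Matrix (Fin 3) (Fin 3) F)} [hK : Fact (Cfsg.Geo.IsFieldSubalgebra 3 K)]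

/-- A non-scalar element of the field leaves no proper non-zero subspace invariant. -/
theorem eq_top_of_invariant {k : Matrix (Fin 3) (Fin 3) F} (hk : k ∈ K) (hns : ∀ s : F, k ≠ s • 1)
    {W : Submodule F (Fin 3 → F)} (hW : ∀ w ∈ W, k *ᵥ w ∈ W) (hW0 : W ≠ ⊥) : W = ⊤ := by
  classical
  letI : CommRing K :=
    { (inferInstance : Ring K) with mul_comm := fun x y => Subtype.ext (hK.out.comm _ x.2 _ y.2) }
  letI : Field K := (SingerPrime.isField (by norm_num) hK.out).toField
  let S : Subalgebra F K :=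
    { carrier := {a | ∀ w ∈ W, (a : Matrix (Fin 3) (Fin 3) F) *ᵥ w ∈ W}
      mul_mem' := fun {a b} ha hb w hw => by
        rw [Subalgebra.coe_mul, ← mulVec_mulVec]; exact ha _ (hb _ hw)
      one_mem' := fun w hw => by simpa using hw
      add_mem' := fun {a b} ha hb w hw => by
        rw [Subalgebra.coe_add, add_mulVec]; exact W.add_mem (ha _ hw) (hb _ hw)
      zero_mem' := fun w hw => by simp
      algebraMap_mem' := fun s w hw => by
        show algebraMap F (Matrix (Fin 3) (Fin 3) F) s *ᵥ w ∈ W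
        rw [Algebra.algebraMap_eq_smul_one, smul_mulVec, one_mulVec]
        exact W.smul_mem s hw }
  let E : IntermediateField F K := S.toIntermediateField fun a ha =>
    S.inv_mem_of_algebraic (x := ⟨a, ha⟩) (Algebra.IsAlgebraic.isAlgebraic _)
  haveI : IsSimpleOrder (IntermediateField F K) :=
    IntermediateField.isSimpleOrder_of_finrank_prime F K (by rw [hK.out.finrank_eq]; norm_num)
  have hkE : (⟨k, hk⟩ : K) ∈ E := hW
  rcases IsSimpleOrder.eq_bot_or_eq_top E with h | h
  · rw [h, IntermediateField.mem_bot] at hkE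
    obtain ⟨s, hs⟩ := hkE
    exact absurd (by
      have := congrArg Subtype.val hs
      simpa [Algebra.algebraMap_eq_smul_one] using this.symm) (hns s)
  · obtain ⟨w, hw, hw0⟩ := (Submodule.ne_bot_iff W).1 hW0
    refine eq_top_iff.2 fun x _ => ?_
    obtain ⟨a, rfl⟩ := (SingerPrime.act_bij (by norm_num) hK.out hw0).2 x
    exact (h ▸ IntermediateField.mem_top : a ∈ E) w hw

/-- The functional of a row vector. -/
def row (φ : Fin 3 → F) : (Fin 3 → F) →ₗ[F] F where
  toFun w := φ ⬝ᵥ w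
  map_add' a b := dotProduct_add _ _ _
  map_smul' s a := by simp [dotProduct_smul]

@[simp] theorem row_apply (φ w : Fin 3 → F) : row φ w = φ ⬝ᵥ w := rfl

theorem exists_dot_ne {φ : Fin 3 → F} (hφ : φ ≠ 0) : ∃ w, φ ⬝ᵥ w ≠ 0 := by
  by_contra h
  push Not at h
  exact hφ (funext fun i => by simpa using h (Pi.single i 1))

theorem finrank_ker_row {φ : Fin 3 → F} (hφ : φ ≠ 0) : finrank F (LinearMap.ker (row φ)) = 2 := by
  obtain ⟨w, hw⟩ := exists_dot_ne hφ
  have hs : LinearMap.range (row φ) = ⊤ := LinearMap.range_eq_top.2 fun t =>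
    ⟨(t / (φ ⬝ᵥ w)) • w, by simp [dotProduct_smul, hw]⟩
  have h := LinearMap.finrank_range_add_finrank_ker (row φ)
  rw [hs, finrank_top, finrank_self, Module.finrank_fin_fun] at h
  omega

theorem exists_common_zero (φ ψ : Fin 3 → F) : ∃ w : Fin 3 → F, w ≠ 0 ∧ φ ⬝ᵥ w = 0 ∧ ψ ⬝ᵥ w = 0 := by
  have h : LinearMap.ker ((row φ).prod (row ψ)) ≠ ⊥ := fun e => by
    have := LinearMap.finrank_le_finrank_of_injective (LinearMap.ker_eq_bot.1 e)
    rw [Module.finrank_fin_fun, Module.finrank_prod, finrank_self] at this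
    omega
  obtain ⟨w, hw, hw0⟩ := (Submodule.ne_bot_iff _).1 h
  rw [LinearMap.mem_ker, LinearMap.prod_apply] at hw
  have hw' : (φ ⬝ᵥ w, ψ ⬝ᵥ w) = (0, 0) := hw
  exact ⟨w, hw0, congrArg Prod.fst hw', congrArg Prod.snd hw'⟩

theorem A_unique {u φ : Fin 3 → F} (hu : u ≠ 0) (hφ : φ ≠ 0) {z : Pl K} (hz : z ≠ 1) :
    ∃! b, b ∈ A K u φ ∧ z * b ∈ A K u φ := by
  obtain ⟨g, rfl⟩ := QuotientGroup.mk_surjective z
  have hg : ∀ s : F, ((g : GL (Fin 3) F) : Matrix (Fin 3) (Fin 3) F) ≠ s • 1 := fun s hs =>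
    hz ((QuotientGroup.eq_one_iff g).2 ⟨s, hs⟩)
  set ψ := φ ᵥ* ((g : GL (Fin 3) F) : Matrix (Fin 3) (Fin 3) F) with hψ
  have hψw : ∀ w, ψ ⬝ᵥ w = φ ⬝ᵥ act g w := fun w => (dotProduct_mulVec _ _ _).symm
  obtain ⟨w, hw0, h1, h2⟩ := exists_common_zero φ ψ
  obtain ⟨b, hb⟩ := exists_act (K := K) hu hw0
  refine ⟨b, ⟨(mem_A hu).2 (hb ▸ h1), ?_⟩, ?_⟩
  · rw [← QuotientGroup.mk_mul, mem_A hu, act_mul, hb, ← hψw]
    exact h2
  rintro x ⟨hx, hgx⟩
  obtain ⟨c, rfl⟩ := QuotientGroup.mk_surjective x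
  rw [← QuotientGroup.mk_mul, mem_A hu, act_mul, ← hψw] at hgx
  rw [mem_A hu] at hx
  symm
  rw [mk_eq_iff hu, hb]
  by_contra hne
  push Not at hne
  have hli : LinearIndependent F ![w, act c u] :=
    linearIndependent_fin2.2 ⟨by simpa using act_ne c hu, fun s hs => by
      have hs0 : s ≠ 0 := by
        rintro rfl
        simp at hs
        exact hw0 hs.symm
      exact hne s⁻¹ (by
        simp only [Matrix.cons_val_one, Matrix.cons_val_zero] at hs
        rw [← hs, smul_smul, inv_mul_cancel₀ hs0, one_smul])⟩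
  have hW : Submodule.span F (Set.range ![w, act c u]) = LinearMap.ker (row φ) := by
    refine Submodule.eq_of_le_of_finrank_eq (Submodule.span_le.2 ?_) ?_
    · rintro _ ⟨i, rfl⟩
      fin_cases i <;> simp [h1, hx]
    · rw [finrank_span_eq_card hli, finrank_ker_row hφ, Fintype.card_fin]
  have htop := eq_top_of_invariant g.2 hg (W := LinearMap.ker (row φ)) (by
    rw [← hW]
    intro y hy
    have hmap : Submodule.span F (Set.range ![w, act c u]) ≤
        (LinearMap.ker (row φ)).comap (mulVecLin ((g : GL (Fin 3) F) : Matrix (Fin 3) (Fin 3) F)) :=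
      Submodule.span_le.2 (by
        rintro _ ⟨i, rfl⟩
        fin_cases i
        · simpa [hψw] using h2
        · simpa [hψw] using hgx)
    rw [hW]
    exact hmap hy) (fun e => by
      have := finrank_ker_row hφ
      rw [e, finrank_bot] at this
      omega)
  have := finrank_ker_row hφ
  rw [htop, finrank_top, Module.finrank_fin_fun] at this
  omega

theorem card_A {u φ : Fin 3 → F} (hu : u ≠ 0) (hφ : φ ≠ 0) :
    Nat.card (A K u φ) = Fintype.card F + 1 := by
  classical
  have e1 : {g : Kg K | φ ⬝ᵥ act g u = 0} = QuotientGroup.mk ⁻¹' A K u φ := by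
    ext g
    exact (mem_A hu).symm
  have e2 : {g : Kg K | φ ⬝ᵥ act g u = 0} ≃ {x : LinearMap.ker (row φ) // x ≠ 0} :=
    Equiv.ofBijective (fun g => ⟨⟨act g.1 u, g.2⟩, fun e => act_ne g.1 hu (congrArg Subtype.val e)⟩)
      ⟨fun g h e => Subtype.ext (act_injective hu (congrArg (fun x => (x.1 : Fin 3 → F)) e)), fun x => by
        obtain ⟨g, hg⟩ := exists_act (K := K) hu (w := (x.1 : Fin 3 → F)) fun e => x.2 (Subtype.ext e)
        have : φ ⬝ᵥ act g u = 0 := hg ▸ x.1.2
        exact ⟨⟨g, this⟩, Subtype.ext (Subtype.ext hg)⟩⟩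
  have h := Nat.card_congr (QuotientGroup.preimageMkEquivSubgroupProdSet (U K) (A K u φ))
  rw [← e1, Nat.card_congr e2, Nat.card_prod, card_U] at h
  rw [Nat.card_eq_fintype_card, Fintype.card_subtype_compl, Fintype.card_subtype_eq,
    ← Nat.card_eq_fintype_card (α := LinearMap.ker (row φ)),
    Module.natCard_eq_pow_finrank (K := F) (V := LinearMap.ker (row φ)), finrank_ker_row hφ,
    Nat.card_eq_fintype_card] at h
  have := Fintype.one_lt_card (α := F)
  obtain ⟨m, hm⟩ : ∃ m, Fintype.card F = m + 1 := ⟨Fintype.card F - 1, by omega⟩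
  rw [hm] at h ⊢
  simp only [Nat.add_sub_cancel] at h
  have h3 : (m + 1) ^ 2 - 1 = m * (m + 2) := by
    rw [show (m + 1) ^ 2 = m * (m + 2) + 1 by ring, Nat.add_sub_cancel]
  rw [h3] at h
  exact (Nat.eq_of_mul_eq_mul_left (by omega) h).symm

theorem mem_A_smul {u φ : Fin 3 → F} (hu : u ≠ 0) (k : Kg K) (x : Pl K) :
    x ∈ A K (act k u) φ ↔ x * k ∈ A K u φ := by
  obtain ⟨g, rfl⟩ := QuotientGroup.mk_surjective x
  rw [← QuotientGroup.mk_mul, mem_A (act_ne k hu), mem_A hu, act_mul]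

theorem cnt_of_one (h : dd F = 1) {u φ : Fin 3 → F} (hu : u ≠ 0) (hφ : φ ≠ 0) :
    cnt K u φ = Fintype.card F + 1 := by
  have hR : R K = ⊤ := eq_top_iff.2 fun x _ => ⟨x, by simp [h]⟩
  rw [← card_A (K := K) hu hφ, cnt]
  exact Nat.card_congr
    { toFun := fun x => ⟨x.1.1, x.2⟩
      invFun := fun x => ⟨⟨x.1, hR ▸ Subgroup.mem_top _⟩, x.2⟩
      left_inv := fun x => rfl
      right_inv := fun x => rfl }

/-- The three orbit counts of a line. -/
theorem profile (h3 : dd F = 3) {u φ : Fin 3 → F} (hu : u ≠ 0) (hφ : φ ≠ 0) (k : Kg K)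
    (hk : (k : Pl K) ∉ R K) :
    ∃ y, cnt K u φ + cnt K (act k u) φ + y = Fintype.card F + 1 ∧
      cnt K u φ ^ 2 + cnt K (act k u) φ ^ 2 + y ^ 2 = Nat.card (R K) + Fintype.card F := by
  classical
  haveI : Fintype (Pl K) := Fintype.ofFinite _
  haveI : Fintype (Pl K ⧸ R K) := Fintype.ofFinite _
  have hcardQ : Fintype.card (Pl K ⧸ R K) = 3 := by
    have h := Subgroup.card_eq_card_quotient_mul_card_subgroup (R K)
    rw [card_Pl, ← card_R (K := K), h3, mul_comm] at h
    rw [← Nat.card_eq_fintype_card]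
    exact (Nat.eq_of_mul_eq_mul_right Nat.card_pos h).symm
  set S := Finset.univ.filter (· ∈ A K u φ) with hS
  have hScard : S.card = Fintype.card F + 1 := by
    rw [← card_A (K := K) hu hφ, hS, ← Set.toFinset_card (A K u φ) |>.trans Nat.card_eq_fintype_card.symm]
    congr 1
    ext x
    simp
  let cl : Pl K → Pl K ⧸ R K := fun x => x
  let m : Pl K ⧸ R K → ℕ := fun c => (S.filter (fun x => cl x = c)).card
  have hm : ∀ j : Kg K, cnt K (act j u) φ = m (cl j) := by
    intro j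
    rw [cnt]
    have e : {x : R K // (x : Pl K) ∈ A K (act j u) φ} ≃ {x // x ∈ S.filter (fun x => cl x = cl j)} :=
      { toFun := fun x => ⟨x.1.1 * j, by
          rw [Finset.mem_filter, hS, Finset.mem_filter]
          refine ⟨⟨Finset.mem_univ _, (mem_A_smul hu j _).1 x.2⟩, ?_⟩
          rw [QuotientGroup.eq]
          simp only [_root_.mul_inv_rev, mul_assoc, inv_mul_cancel_comm_assoc]
          exact inv_mem x.1.2⟩
        invFun := fun x => ⟨⟨x.1 * (j : Pl K)⁻¹, by
            have h := (Finset.mem_filter.1 x.2).2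
            rw [eq_comm, QuotientGroup.eq] at h
            rwa [mul_comm]⟩, (mem_A_smul hu j _).2 (by
            rw [inv_mul_cancel_right]
            exact (Finset.mem_filter.1 (Finset.mem_filter.1 x.2).1).2)⟩
        left_inv := fun x => by simp
        right_inv := fun x => by simp }
    rw [Nat.card_congr e, Nat.card_eq_fintype_card, Fintype.card_coe]
  have hsum : ∑ c, m c = Fintype.card F + 1 := by
    rw [← hScard, Finset.card_eq_sum_card_fiberwise (f := cl) (t := Finset.univ) (by simp)]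
  have hsq : ∑ c, m c ^ 2 = Nat.card (R K) + Fintype.card F := by
    let P := (S ×ˢ S).filter (fun p => cl p.1 = cl p.2)
    have h1 : P.card = ∑ c, m c ^ 2 := by
      rw [Finset.card_eq_sum_card_fiberwise (f := fun p => cl p.1) (t := Finset.univ) (by simp)]
      refine Finset.sum_congr rfl fun c _ => ?_
      rw [sq, ← Finset.card_product]
      congr 1
      ext p
      simp only [P, Finset.mem_filter, Finset.mem_product]
      constructor
      · rintro ⟨⟨⟨h1, h2⟩, h3⟩, h4⟩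
        exact ⟨⟨h1, h4⟩, h2, h3 ▸ h4⟩
      · rintro ⟨⟨h1, h2⟩, h3, h4⟩
        exact ⟨⟨⟨h1, h3⟩, h2.trans h4.symm⟩, h2⟩
    let T := Finset.univ.filter (· ∈ R K)
    have h2 : P.card = ∑ z ∈ T, (S.filter (fun b => z * b ∈ S)).card := by
      rw [Finset.card_eq_sum_card_fiberwise (f := fun p => p.1 * p.2⁻¹) (t := T) (by
        intro p hp
        simp only [P, Finset.coe_filter, Set.mem_ofPred_eq, T, Finset.mem_univ, true_and] at hp ⊢
        have h := hp.2
        rw [eq_comm, QuotientGroup.eq] at h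
        rwa [mul_comm])]
      refine Finset.sum_congr rfl fun z hz => ?_
      simp only [T, Finset.mem_filter] at hz
      refine Finset.card_nbij' (fun p => p.2) (fun b => (z * b, b)) ?_ ?_ ?_ ?_
      · intro p hp
        simp only [P, Finset.coe_filter, Finset.mem_product, Set.mem_ofPred_eq, Finset.mem_filter] at hp ⊢
        refine ⟨hp.1.1.2, ?_⟩
        rw [← hp.2, inv_mul_cancel_right]
        exact hp.1.1.1
      · intro b hb
        simp only [P, Finset.coe_filter, Finset.mem_product, Set.mem_ofPred_eq, Finset.mem_filter] at hb ⊢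
        refine ⟨⟨⟨hb.2, hb.1⟩, ?_⟩, mul_inv_cancel_right _ _⟩
        rw [eq_comm, QuotientGroup.eq, mul_comm, mul_inv_cancel_right]
        exact hz.2
      · intro p hp
        simp only [Finset.coe_filter, Set.mem_ofPred_eq] at hp
        show (z * p.2, p.2) = p
        rw [← hp.2, inv_mul_cancel_right]
      · intro b hb
        rfl
    rw [← h1, h2, ← Finset.add_sum_erase _ _ (a := (1 : Pl K)) (by simp [T, (R K).one_mem])]
    have hone : (S.filter (fun b => (1 : Pl K) * b ∈ S)).card = Fintype.card F + 1 := by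
      rw [← hScard]
      congr 1
      ext b
      simp
    have hrest : ∀ z ∈ T.erase 1, (S.filter (fun b => z * b ∈ S)).card = 1 := by
      intro z hz
      obtain ⟨b, hb, huniq⟩ := A_unique (K := K) hu hφ (Finset.ne_of_mem_erase hz)
      rw [Finset.card_eq_one]
      refine ⟨b, ?_⟩
      ext x
      simp only [Finset.mem_filter, hS, Finset.mem_univ, true_and, Finset.mem_singleton]
      exact ⟨huniq x, fun e => e ▸ hb⟩
    rw [hone, Finset.sum_congr rfl hrest, Finset.sum_const, smul_eq_mul, mul_one,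
      Finset.card_erase_of_mem (by simp [T, (R K).one_mem])]
    have hT : T.card = Nat.card (R K) := by
      rw [Nat.card_eq_fintype_card, Fintype.card_subtype]
    have := Nat.card_pos (α := R K)
    omega
  have hne : cl k ≠ cl (1 : Kg K) := fun e => hk (by
    rw [eq_comm, QuotientGroup.eq] at e
    simpa using e)
  obtain ⟨c, hc⟩ : ∃ c, c ∉ ({cl (1 : Kg K), cl k} : Finset (Pl K ⧸ R K)) :=
    not_forall.1 fun h => by
      have := Finset.card_le_card (s := (Finset.univ : Finset (Pl K ⧸ R K))) (fun x _ => h x)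
      rw [Finset.card_pair hne.symm, Finset.card_univ, hcardQ] at this
      omega
  have hu3 : (Finset.univ : Finset (Pl K ⧸ R K)) = {cl (1 : Kg K), cl k, c} := by
    refine (Finset.eq_univ_of_card _ ?_).symm
    simp only [Finset.mem_insert, Finset.mem_singleton, not_or] at hc
    rw [hcardQ, Finset.card_eq_three]
    exact ⟨_, _, _, hne.symm, Ne.symm hc.1, Ne.symm hc.2, rfl⟩
  simp only [Finset.mem_insert, Finset.mem_singleton, not_or] at hc
  have h0 : cnt K u φ = m (cl (1 : Kg K)) := by rw [← hm 1, act_one]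
  refine ⟨m c, ?_, ?_⟩
  · rw [h0, hm k, ← hsum, hu3, Finset.sum_insert (by
        simp only [Finset.mem_insert, Finset.mem_singleton, not_or]
        exact ⟨hne.symm, Ne.symm hc.1⟩),
      Finset.sum_pair (Ne.symm hc.2)]
    ring
  · rw [h0, hm k, ← hsq, hu3, Finset.sum_insert (by
        simp only [Finset.mem_insert, Finset.mem_singleton, not_or]
        exact ⟨hne.symm, Ne.symm hc.1⟩),
      Finset.sum_pair (Ne.symm hc.2)]
    ring

theorem exists_notMem_R (h3 : dd F = 3) : ∃ k : Kg K, (k : Pl K) ∉ R K := by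
  by_contra h
  push Not at h
  have hR : R K = ⊤ := eq_top_iff.2 fun x _ => by
    obtain ⟨g, rfl⟩ := QuotientGroup.mk_surjective x
    exact h g
  have h' := card_R (K := K)
  rw [hR, Subgroup.card_top, card_Pl, h3, vv] at h'
  omega

theorem profile' (h3 : dd F = 3) {u φ : Fin 3 → F} (hu : u ≠ 0) (hφ : φ ≠ 0) :
    ∃ x y, cnt K u φ + x + y = Fintype.card F + 1 ∧
      cnt K u φ ^ 2 + x ^ 2 + y ^ 2 = Nat.card (R K) + Fintype.card F := by
  obtain ⟨k, hk⟩ := exists_notMem_R (K := K) h3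
  exact ⟨_, profile h3 hu hφ k hk⟩

/-! ### Arithmetic -/

theorem arith_bound {q n x y a : ℕ} (ha : 3 * a = q ^ 2 + q + 1) (h1 : n + x + y = q + 1)
    (h2 : n ^ 2 + x ^ 2 + y ^ 2 = a + q) : (n = 0 → q ≤ 1) ∧ (n = 1 → q ≤ 7) ∧ (n = 2 → q ≤ 11) ∧
      (n = 3 → q ≤ 16) := by
  have h : ((x : ℤ) + y) ^ 2 ≤ 2 * (x ^ 2 + y ^ 2) := by nlinarith [sq_nonneg ((x : ℤ) - y)]
  have ha' : (3 * a : ℤ) = q ^ 2 + q + 1 := by exact_mod_cast ha
  have h1' : ((x : ℤ) + y) = q + 1 - n := by push_cast [← h1]; linarith [show ((n : ℤ) + x + y) = q + 1 by exact_mod_cast h1]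
  have h2' : (n : ℤ) ^ 2 + x ^ 2 + y ^ 2 = a + q := by exact_mod_cast h2
  rw [h1'] at h
  have key : 3 * ((q : ℤ) + 1 - n) ^ 2 ≤ 2 * (q ^ 2 + 4 * q + 1 - 3 * n ^ 2) := by nlinarith
  refine ⟨?_, ?_, ?_, ?_⟩ <;> rintro rfl <;> push_cast at key
  · have : (q : ℤ) ≤ 1 := by nlinarith
    omega
  · have : (q : ℤ) ≤ 7 := by nlinarith
    omega
  · have : (q : ℤ) ≤ 11 := by nlinarith
    omega
  · have : (q : ℤ) ≤ 16 := by nlinarith
    omega

theorem arith_seven {n x y : ℕ} (h1 : n + x + y = 8) (h2 : n ^ 2 + x ^ 2 + y ^ 2 = 26) :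
    (n = 1 ∨ n = 3 ∨ n = 4) ∧ (n = 1 → 3 ≤ x ∧ x ≤ 4) := by
  have key : ∀ i j : Fin 9, i.val + j.val ≤ 8 →
      i.val ^ 2 + j.val ^ 2 + (8 - i.val - j.val) ^ 2 = 26 →
      (i.val = 1 ∨ i.val = 3 ∨ i.val = 4) ∧ (i.val = 1 → 3 ≤ j.val ∧ j.val ≤ 4) := by decide
  exact key ⟨n, by omega⟩ ⟨x, by omega⟩ (show n + x ≤ 8 by omega)
    (show n ^ 2 + x ^ 2 + (8 - n - x) ^ 2 = 26 by rw [show 8 - n - x = y by omega]; exact h2)

theorem arith_sixteen {n x y : ℕ} (h1 : n + x + y = 17) (h2 : n ^ 2 + x ^ 2 + y ^ 2 = 107) :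
    n = 3 ∨ n = 7 := by
  have key : ∀ i j : Fin 18, i.val + j.val ≤ 17 →
      i.val ^ 2 + j.val ^ 2 + (17 - i.val - j.val) ^ 2 = 107 → i.val = 3 ∨ i.val = 7 := by decide
  exact key ⟨n, by omega⟩ ⟨x, by omega⟩ (show n + x ≤ 17 by omega)
    (show n ^ 2 + x ^ 2 + (17 - n - x) ^ 2 = 107 by rw [show 17 - n - x = y by omega]; exact h2)

theorem vv_eq : vv F = Fintype.card F ^ 2 + Fintype.card F + 1 := rfl

theorem three_a (h3 : dd F = 3) :
    3 * Nat.card (R K) = Fintype.card F ^ 2 + Fintype.card F + 1 := by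
  have := card_R (K := K)
  rw [h3, vv_eq] at this
  omega

/-- The orbit of a point does not meet a line in zero or two points. -/
theorem cnt_ne_zero_two {u φ : Fin 3 → F} (hu : u ≠ 0) (hφ : φ ≠ 0) (hodd : Odd (Fintype.card F)) :
    cnt K u φ ≠ 0 ∧ cnt K u φ ≠ 2 := by
  have h1 := Fintype.one_lt_card (α := F)
  rcases dd_cases (F := F) with hd | hd
  · rw [cnt_of_one hd hu hφ]; omega
  obtain ⟨x, y, e1, e2⟩ := profile' (K := K) hd hu hφ
  obtain ⟨b0, -, b2, -⟩ := arith_bound (three_a (K := K) hd) e1 e2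
  refine ⟨fun h => by have := b0 h; omega, fun h => ?_⟩
  have hq := b2 h
  have hdvd : 3 ∣ Fintype.card F - 1 := hd ▸ Nat.gcd_dvd_left _ _
  have h7 : Fintype.card F = 7 := by
    obtain ⟨j, hj⟩ := hodd
    omega
  have ha := three_a (K := K) hd
  rw [h7] at ha e1 e2
  have := (arith_seven e1 (by omega)).1
  omega

theorem cnt_le_one (h4 : Fintype.card F ≠ 4) {u φ : Fin 3 → F} (hu : u ≠ 0) (hφ : φ ≠ 0)
    (h : cnt K u φ ≤ 1) : Fintype.card F = 7 ∧ dd F = 3 ∧ cnt K u φ = 1 := by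
  have h1 := Fintype.one_lt_card (α := F)
  rcases dd_cases (F := F) with hd | hd
  · rw [cnt_of_one hd hu hφ] at h; omega
  obtain ⟨x, y, e1, e2⟩ := profile' (K := K) hd hu hφ
  obtain ⟨b0, b1, -, -⟩ := arith_bound (three_a (K := K) hd) e1 e2
  have hdvd : 3 ∣ Fintype.card F - 1 := hd ▸ Nat.gcd_dvd_left _ _
  rcases Nat.le_one_iff_eq_zero_or_eq_one.1 h with hn | hn
  · have := b0 hn; omega
  · have := b1 hn
    exact ⟨by omega, hd, hn⟩

end Cfsg.Agent.SingerThree22
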