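import Cfsg.Agent.Lib.SingerThree22Axes
import Cfsg.Agent.Lib.LinThreeRoot38

/-!
If every point is a centre with two axes then a root group is full.
-/

set_option autoImplicit false
set_option linter.unusedSectionVars false
set_option linter.style.haveILetI false
set_option synthInstance.maxHeartbeats 400000

namespace Cfsg.Agent.SingerThree22

open Matrix Module
open Cfsg.Agent.TransvectionMax (tv tv_act tv_add tv_zero_right tv_inv)
open Cfsg.Agent.LinSubfieldMax97 (tv_conj tv_conj_tv tv_add_left tv_smul_left)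

variable {F : Type*} [Field F] [Fintype F]
variable {K : Subalgebra F (Matrix (Fin 3) (Fin 3) F)} [hK : Fact (Cfsg.Geo.IsFieldSubalgebra 3 K)]
variable {M : Subgroup (GL (Fin 3) F)}

/-- The scalars `s` for which `s • ψ` is an axis at `w`. -/
def scal (M : Subgroup (GL (Fin 3) F)) (w ψ : Fin 3 → F) : AddSubgroup F :=
  (axes M w).comap (LinearMap.toSpanSingleton F (Fin 3 → F) ψ).toAddMonoidHom

theorem mem_scal {w ψ : Fin 3 → F} {s : F} : s ∈ scal M w ψ ↔ s • ψ ∈ axes M w := Iff.rfl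

theorem card_scal_le {u w ψ : Fin 3 → F} (hu : u ≠ 0) (hwu : ∀ s : F, w ≠ s • u) (hw : Span2 M w)
    (h2 : ψ ⬝ᵥ w = 0) : Nat.card (scal M u ψ) ≤ Nat.card (scal M w ψ) := by
  obtain ⟨χ, hχ, hχu⟩ := hw u fun s e => by
    rcases eq_or_ne s 0 with rfl | hs
    · rw [zero_smul] at e; exact hu e
    · exact hwu s⁻¹ (by rw [e, smul_smul, inv_mul_cancel₀ hs, one_smul])
  refine Nat.card_le_card_of_injective
    (fun s => ⟨(χ ⬝ᵥ u) * s.1, ?_⟩) fun a b e => Subtype.ext (mul_left_cancel₀ hχu (Subtype.ext_iff.1 e))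
  rw [mem_scal, ← smul_smul]
  exact step (mem_scal.1 s.2) hχ (by rw [smul_dotProduct, h2, smul_zero])

theorem card_scal_smul {u ψ : Fin 3 → F} {t : F} (ht : t ≠ 0) :
    Nat.card (scal M (t • u) ψ) = Nat.card (scal M u ψ) :=
  Nat.card_congr
    { toFun := fun s => ⟨t * s.1, by
        rw [mem_scal, ← smul_smul]; exact (axes_smul ht).1 s.2⟩
      invFun := fun s => ⟨t⁻¹ * s.1, by
        rw [mem_scal, axes_smul ht, smul_smul, ← mul_assoc, mul_inv_cancel₀ ht, one_mul]
        exact s.2⟩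
      left_inv := fun s => Subtype.ext (by simp [← mul_assoc, inv_mul_cancel₀ ht])
      right_inv := fun s => Subtype.ext (by simp [← mul_assoc, mul_inv_cancel₀ ht]) }

theorem arith_partition {p f i m : ℕ} (hp : p.Prime) (hi : 1 ≤ i) (hif : i ≤ f)
    (h : p ^ m + p ^ f = (p ^ f + 1) * p ^ i) : i = f := by
  by_contra hne
  have hif' : i < f := lt_of_le_of_ne hif hne
  have him : i ≤ m := by
    by_contra hc
    have h1 : p ^ m < p ^ i := Nat.pow_lt_pow_right hp.one_lt (by omega)
    have h2 : p ^ f * p ^ 1 ≤ p ^ f * p ^ i :=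
      Nat.mul_le_mul_left _ (Nat.pow_le_pow_right hp.pos hi)
    rw [pow_one] at h2
    rw [add_mul, one_mul] at h
    have := Nat.mul_le_mul_left (p ^ f) hp.two_le
    omega
  obtain ⟨m, rfl⟩ := Nat.exists_eq_add_of_le him
  obtain ⟨f, rfl⟩ := Nat.exists_eq_add_of_le hif
  have h' : p ^ m + p ^ f = p ^ (i + f) + 1 := by
    apply Nat.eq_of_mul_eq_mul_left (pow_pos hp.pos i)
    rw [mul_add, ← pow_add, ← pow_add, h, mul_comm]
  have hd1 : p ∣ p ^ (i + f) := dvd_pow_self p (by omega)
  rcases Nat.eq_zero_or_pos m with rfl | hm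
  · rw [pow_zero] at h'
    have := Nat.pow_right_injective hp.two_le (show p ^ f = p ^ (i + f) by omega)
    omega
  · have hd2 : p ∣ p ^ m + p ^ f := dvd_add (dvd_pow_self p (by omega)) (dvd_pow_self p (by omega))
    rw [h'] at hd2
    exact hp.one_lt.ne' (Nat.dvd_one.1 ((Nat.dvd_add_right hd1).1 hd2))

/-- Every point a centre with two axes: some root group is full. -/
theorem exists_full {u φ : Fin 3 → F} (hall : ∀ w, w ≠ 0 → Span2 M w) (hu : u ≠ 0) (hφ : φ ∈ axes M u)
    (hφ0 : φ ≠ 0) : ∀ c : F, c • φ ∈ axes M u := by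
  classical
  obtain ⟨f, hp, hf⟩ := FiniteField.card F (ringChar F)
  set p := ringChar F with hpdef
  set W := LinearMap.ker (row φ) with hW
  have hWcard : Nat.card W = Fintype.card F ^ 2 := by
    rw [Module.natCard_eq_pow_finrank (K := F) (V := W), hW, finrank_ker_row hφ0, Nat.card_eq_fintype_card]
  set s := Nat.card (scal M u φ) with hs
  have heq : ∀ w : {w : W // w ≠ 0}, Nat.card (scal M (w.1 : Fin 3 → F) φ) = s := by
    intro w
    have hw0 : (w.1 : Fin 3 → F) ≠ 0 := fun e => w.2 (Subtype.ext e)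
    have hwφ : φ ⬝ᵥ (w.1 : Fin 3 → F) = 0 := w.1.2
    by_cases hc : ∃ t : F, (w.1 : Fin 3 → F) = t • u
    · obtain ⟨t, ht⟩ := hc
      rw [ht, card_scal_smul]
      intro e
      rw [e, zero_smul] at ht
      exact hw0 ht
    · push Not at hc
      refine le_antisymm (card_scal_le hw0 (fun t e => ?_) (hall u hu) hφ.1)
        (card_scal_le hu hc (hall _ hw0) hwφ)
      rcases eq_or_ne t 0 with rfl | ht
      · rw [zero_smul] at e; exact hu e
      · exact hc t⁻¹ (by rw [e, smul_smul, inv_mul_cancel₀ ht, one_smul])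
  let Z : AddSubgroup (Fin 3 → F) :=
    { carrier := {z | φ ⬝ᵥ z = 0 ∧ tv z φ ∈ M}
      add_mem' := fun {a b} ha hb => ⟨by rw [dotProduct_add, ha.1, hb.1, add_zero], by
        rw [tv_add_left ha.1 hb.1]; exact M.mul_mem ha.2 hb.2⟩
      zero_mem' := ⟨dotProduct_zero _, by
        rw [← zero_smul F (0 : Fin 3 → F), tv_smul_left (dotProduct_zero _), zero_smul, tv_zero_right]
        exact M.one_mem⟩
      neg_mem' := fun {a} ha => ⟨by rw [dotProduct_neg, ha.1, neg_zero], by
        rw [← neg_one_smul F a, tv_smul_left ha.1, neg_one_smul, ← tv_inv ha.1]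
        exact M.inv_mem ha.2⟩ }
  -- count the pairs of a non-zero vector of the axis and a non-zero scalar
  let X := Σ w : {w : W // w ≠ 0}, {c : F // c ∈ scal M (w.1 : Fin 3 → F) φ ∧ c ≠ 0}
  have hX1 : Nat.card X = (Fintype.card F ^ 2 - 1) * (s - 1) := by
    rw [Nat.card_sigma]
    have : ∀ w : {w : W // w ≠ 0},
        Nat.card {c : F // c ∈ scal M (w.1 : Fin 3 → F) φ ∧ c ≠ 0} = s - 1 := by
      intro w
      have e : {c : F // c ∈ scal M (w.1 : Fin 3 → F) φ ∧ c ≠ 0} ≃ {c : scal M (w.1 : Fin 3 → F) φ // c ≠ 0} :=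
        { toFun := fun c => ⟨⟨c.1, c.2.1⟩, fun e => c.2.2 (congrArg Subtype.val e)⟩
          invFun := fun c => ⟨c.1.1, c.1.2, fun e => c.2 (Subtype.ext e)⟩
          left_inv := fun c => rfl
          right_inv := fun c => rfl }
      rw [Nat.card_congr e, ← heq w, Nat.card_eq_fintype_card, Nat.card_eq_fintype_card,
        Fintype.card_subtype_compl, Fintype.card_subtype_eq]
    rw [Finset.sum_congr rfl (fun w _ => this w), Finset.sum_const, Finset.card_univ, smul_eq_mul,
      Fintype.card_subtype_compl, Fintype.card_subtype_eq, ← Nat.card_eq_fintype_card, hWcard]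
  have hX2 : Nat.card X = (Nat.card Z - 1) * (Fintype.card F - 1) := by
    have e : X ≃ {z : Z // z ≠ 0} × {c : F // c ≠ 0} :=
      { toFun := fun x => (⟨⟨x.2.1 • (x.1.1 : Fin 3 → F), by
            have hwφ : φ ⬝ᵥ (x.1.1 : Fin 3 → F) = 0 := x.1.1.2
            refine ⟨by rw [dotProduct_smul, hwφ, smul_zero], ?_⟩
            rw [tv_smul_left hwφ]
            exact (mem_scal.1 x.2.2.1).2⟩, fun e => by
            rcases smul_eq_zero.1 (congrArg Subtype.val e) with h | h
            · exact x.2.2.2 h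
            · exact x.1.2 (Subtype.ext h)⟩,
          ⟨x.2.1, x.2.2.2⟩)
        invFun := fun y => ⟨⟨⟨y.2.1⁻¹ • (y.1.1 : Fin 3 → F), by
            rw [hW, LinearMap.mem_ker, row_apply, dotProduct_smul, y.1.1.2.1, smul_zero]⟩, fun e => by
              rcases smul_eq_zero.1 (congrArg Subtype.val e) with h | h
              · exact inv_ne_zero y.2.2 h
              · exact y.1.2 (Subtype.ext h)⟩,
          ⟨y.2.1, by
            rw [mem_scal, axes_smul (inv_ne_zero y.2.2), smul_smul, inv_mul_cancel₀ y.2.2, one_smul]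
            exact ⟨y.1.1.2.1, y.1.1.2.2⟩, y.2.2⟩⟩
        left_inv := fun x => by
          refine Sigma.subtype_ext (Subtype.ext (Subtype.ext ?_)) rfl
          show x.2.1⁻¹ • x.2.1 • (x.1.1 : Fin 3 → F) = _
          rw [smul_smul, inv_mul_cancel₀ x.2.2.2, one_smul]
        right_inv := fun y => by
          refine Prod.ext (Subtype.ext (Subtype.ext ?_)) rfl
          show y.2.1 • y.2.1⁻¹ • (y.1.1 : Fin 3 → F) = _
          rw [smul_smul, mul_inv_cancel₀ y.2.2, one_smul] }
    rw [Nat.card_congr e, Nat.card_prod, Nat.card_eq_fintype_card, Nat.card_eq_fintype_card,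
      Nat.card_eq_fintype_card, Fintype.card_subtype_compl, Fintype.card_subtype_eq,
      Fintype.card_subtype_compl, Fintype.card_subtype_eq]
  obtain ⟨i, hif, hi⟩ : ∃ i ≤ (f : ℕ), s = p ^ i := by
    refine (Nat.dvd_prime_pow hp).1 ?_
    rw [← hf, ← Nat.card_eq_fintype_card]
    exact AddSubgroup.card_addSubgroup_dvd_card _
  obtain ⟨m, -, hm⟩ : ∃ m ≤ (f : ℕ) * 3, Nat.card Z = p ^ m := by
    refine (Nat.dvd_prime_pow hp).1 ?_
    rw [pow_mul, ← hf]
    refine (AddSubgroup.card_addSubgroup_dvd_card Z).trans ?_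
    rw [Nat.card_eq_fintype_card, Fintype.card_pi, Finset.prod_const, Finset.card_univ, Fintype.card_fin]
  have hs1 : 1 < s := by
    rw [hs, Finite.one_lt_card_iff_nontrivial]
    refine ⟨⟨0, ⟨1, by rw [mem_scal, one_smul]; exact hφ⟩, fun e => ?_⟩⟩
    exact zero_ne_one (congrArg Subtype.val e)
  have hi1 : 1 ≤ i := by
    by_contra hc
    rw [show i = 0 by omega, pow_zero] at hi
    omega
  have key : p ^ m + p ^ (f : ℕ) = (p ^ (f : ℕ) + 1) * p ^ i := by
    rw [← hf, ← hm, ← hi]
    have h := hX1.symm.trans hX2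
    obtain ⟨a, ha⟩ : ∃ a, Fintype.card F = a + 2 := ⟨Fintype.card F - 2, by
      have := Fintype.one_lt_card (α := F); omega⟩
    obtain ⟨b, hb⟩ : ∃ b, s = b + 1 := ⟨s - 1, by omega⟩
    have hz : 0 < Nat.card Z := Nat.card_pos
    obtain ⟨c, hc⟩ : ∃ c, Nat.card Z = c + 1 := ⟨Nat.card Z - 1, by omega⟩
    rw [ha, hb, hc, show (a + 2) ^ 2 - 1 = (a + 1) * (a + 3) by
      rw [show (a + 2) ^ 2 = (a + 1) * (a + 3) + 1 by ring, Nat.add_sub_cancel],
      show a + 2 - 1 = a + 1 by omega, Nat.add_sub_cancel, Nat.add_sub_cancel, mul_assoc, mul_comm c] at h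
    have := Nat.eq_of_mul_eq_mul_left (by omega) h
    rw [ha, hb, hc, ← this]
    ring
  have hfull : scal M u φ = ⊤ := by
    refine AddSubgroup.eq_top_of_card_eq _ ?_
    rw [← hs, hi, arith_partition hp hi1 hif key, Nat.card_eq_fintype_card, hf]
  intro c
  exact mem_scal.1 (hfull ▸ AddSubgroup.mem_top c)

end Cfsg.Agent.SingerThree22
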