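import Cfsg.Agent.Lib.SmallAb92Act
import Cfsg.Agent.Lib.RankTwoTwoGroup20
import Cfsg.Agent.Lib.NoE8Moving20

/-!
The abelian case in which the automorphism moves the central involutions: the group is homocyclic,
or it is a homocyclic group extended by an involution inverting the squares.
-/

open Subgroup
open scoped commutatorElement

set_option autoImplicit false
set_option linter.unusedSectionVars false

namespace Cfsg.Agent.SmallAb92Abel

open Cfsg.Agent.SmallAb92Act
open Cfsg.Agent.NoE8Central20 (char_inv)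

variable {T : Type*} [Group T] [Finite T] (S : Setting T)

/-- The data of a split extension of an abelian group by an involution. -/
def Split : Prop :=
  S.X.index = 2 ∧ ∃ W : Subgroup T, Nat.card W = 4 ∧ W ≤ S.X ∧ (∀ w ∈ W, w ^ 2 = 1) ∧
    (∀ t : T, ∀ w ∈ W, t * w = w * t) ∧ (∀ x ∈ S.X, x ^ 2 = 1 → x ∈ W) ∧
    ∃ c : T, orderOf c = 2 ∧ c ∉ S.X ∧ ∀ w ∈ W, ∃ a ∈ S.X, a * c * a⁻¹ = c * w

theorem abelian_cases (hmv : ∀ e ∈ center T, e ^ 2 = 1 → S.φ e = e → e = 1)
    (h3 : ∃ k : ℕ, S.φ ^ 3 ^ k = 1) (hab : ∀ a b : S.X, a * b = b * a) :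
    (∃ n : ℕ, 1 ≤ n ∧ Nonempty (T ≃* Multiplicative (ZMod (2 ^ n) × ZMod (2 ^ n)))) ∨ Split S := by
  classical
  haveI : Fact (Nat.Prime 2) := ⟨Nat.prime_two⟩
  have hX2 : IsPGroup 2 S.X := S.hT.to_subgroup _
  let pw : ℕ → (S.X →* S.X) := fun k => MonoidHom.mk' (fun x => x ^ 2 ^ k)
    fun x y => (show Commute x y from hab x y).mul_pow _
  let P : ℕ → Subgroup S.X := fun k => (pw k).range
  have hPmem : ∀ k (x : S.X), x ^ 2 ^ k ∈ P k := fun k x => ⟨x, rfl⟩
  have hPexists : ∀ k (y : S.X), y ∈ P k → ∃ x : S.X, x ^ 2 ^ k = y := fun k y hy => hy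
  haveI hPchar : ∀ k, (P k).Characteristic := fun k => characteristic_iff_map_le.2 fun φ => by
    rintro _ ⟨_, ⟨x, rfl⟩, rfl⟩
    exact ⟨φ x, (map_pow φ x _).symm⟩
  -- fixed point freeness
  have hfix : ∀ x : S.X, S.φX x = x → x = 1 := by
    intro x hx
    have h := SmallAb92Crit.mem_of_fixed S.hyp (N := (⊥ : Subgroup S.X)) (z := x) (by
      rw [_root_.commutator_def, Subgroup.commutator_le]
      intro a _ b _
      rw [mem_bot, commutatorElement_eq_one_iff_mul_comm]
      exact hab a b) fun ψ hψ => by rw [mem_bot, zpow_fix hx hψ, inv_mul_cancel]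
    exact mem_bot.1 h
  -- the involutions
  set W₀ := (pw 1).ker with hW₀
  have hmemW₀ : ∀ x : S.X, x ∈ W₀ ↔ x ^ 2 = 1 := fun x => by
    show x ^ 2 ^ 1 = 1 ↔ _
    rw [pow_one]
  haveI hW₀c : W₀.Characteristic := characteristic_iff_map_le.2 fun φ => by
    rintro _ ⟨x, hx, rfl⟩
    rw [SetLike.mem_coe, hmemW₀] at hx
    rw [hmemW₀]
    show (φ x) ^ 2 = 1
    rw [← map_pow, hx, map_one]
  set W := W₀.map S.X.subtype with hW
  haveI hWn : W.Normal := by rw [hW]; infer_instance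
  have hmemW : ∀ x ∈ S.X, x ^ 2 = 1 → x ∈ W := fun x hx h2 =>
    ⟨⟨x, hx⟩, (hmemW₀ _).2 (Subtype.ext h2), rfl⟩
  have hW2 : ∀ w ∈ W, w ^ 2 = 1 := by
    rintro _ ⟨x, hx, rfl⟩
    rw [← map_pow, (hmemW₀ x).1 hx, map_one]
  have hWX : W ≤ S.X := map_subtype_le _
  have hXc : ∀ a ∈ S.X, ∀ b ∈ S.X, a * b = b * a := fun a ha b hb =>
    congrArg Subtype.val (hab ⟨a, ha⟩ ⟨b, hb⟩)
  obtain ⟨e, heX, hec, heo⟩ := exists_involution_center S.hT (N := S.X) S.X_ne_bot
  have he2 : e ^ 2 = 1 := orderOf_dvd_iff_pow_eq_one.1 (dvd_of_eq heo)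
  have he1 : e ≠ 1 := fun h => by rw [h, orderOf_one] at heo; omega
  have hfeX : S.φ e ∈ S.X := S.map_mem_X (mem_zpowers _) heX
  have hfe2 : (S.φ e) ^ 2 = 1 := by rw [← map_pow, he2, map_one]
  have hfec : S.φ e ∈ center T := char_inv (inferInstance : (center T).Characteristic) S.φ hec
  have hfe1 : S.φ e ≠ 1 := fun h => he1 (S.φ.injective (h.trans (map_one _).symm))
  have hne : S.φ e ≠ e := fun h => he1 (hmv e hec he2 h)
  have hprod : e * S.φ e ≠ 1 := fun h => hne (by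
    rw [eq_inv_of_mul_eq_one_right h, inv_eq_of_mul_eq_one_right (by rw [← pow_two]; exact he2)])
  have h4set : ({1, e, S.φ e, e * S.φ e} : Set T).ncard = 4 := by
    have a1 : S.φ e ≠ e * S.φ e := fun h => he1 (right_eq_mul.1 h)
    have a2 : e ≠ e * S.φ e := fun h => hfe1 (left_eq_mul.1 h)
    rw [Set.ncard_insert_of_notMem (by simp [Ne.symm he1, Ne.symm hfe1, Ne.symm hprod]),
      Set.ncard_insert_of_notMem (by simp [Ne.symm hne, a2]), Set.ncard_pair a1]
  have hsub : ({1, e, S.φ e, e * S.φ e} : Set T) ⊆ (W : Set T) := by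
    intro x hx
    simp only [Set.mem_insert_iff, Set.mem_singleton_iff] at hx
    rcases hx with q | q | q | q <;> rw [q]
    exacts [one_mem _, hmemW e heX he2, hmemW _ hfeX hfe2,
      mul_mem (hmemW e heX he2) (hmemW _ hfeX hfe2)]
  have hWle : Nat.card W ≤ 4 :=
    S.small W hWn (fun a ha b hb => hXc a (hWX ha) b (hWX hb)) hW2
  have hW4 : Nat.card W = 4 := by
    have h := Set.ncard_le_ncard hsub
    rw [h4set, ← Nat.card_coe_set_eq, show Nat.card ↥(W : Set T) = Nat.card W from rfl] at h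
    omega
  have hWc : ∀ w ∈ W, w ∈ center T := by
    intro w hw
    have heq := Set.eq_of_subset_of_ncard_le hsub (by
      rw [h4set, ← Nat.card_coe_set_eq, show Nat.card ↥(W : Set T) = Nat.card W from rfl, hW4])
    have hw' : w ∈ ({1, e, S.φ e, e * S.φ e} : Set T) := heq ▸ hw
    simp only [Set.mem_insert_iff, Set.mem_singleton_iff] at hw'
    rcases hw' with rfl | rfl | rfl | rfl
    exacts [one_mem _, hec, hfec, mul_mem hec hfec]
  -- the quotient by the squares
  have hP1idx : (P 1).index = 4 := by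
    have h1 := (P 1).card_mul_index
    have h2 := (pw 1).ker.card_mul_index
    rw [index_ker, ← hW₀] at h2
    have h3' : Nat.card W₀ = 4 := by rw [← hW4, hW, card_map_of_injective S.X.subtype_injective]
    rw [h3'] at h2
    have hpos : 0 < Nat.card (P 1) := Nat.card_pos
    change 4 * Nat.card (P 1) = Nat.card S.X at h2
    rw [← h2, mul_comm 4] at h1
    exact Nat.eq_of_mul_eq_mul_left hpos h1
  haveI : (P 1).Normal := inferInstance
  let qmap : MulAut S.X →* MulAut (S.X ⧸ P 1) :=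
    { toFun := fun α => QuotientGroup.congr (P 1) (P 1) α ((characteristic_iff_map_eq.1 (hPchar 1)) α)
      map_one' := by
        ext v
        obtain ⟨x, rfl⟩ := QuotientGroup.mk_surjective v
        rfl
      map_mul' := fun α β => by
        ext v
        obtain ⟨x, rfl⟩ := QuotientGroup.mk_surjective v
        rfl }
  have hqfix : ∀ v : S.X ⧸ P 1, qmap S.φX v = v → v = 1 := by
    intro v hv
    obtain ⟨x, rfl⟩ := QuotientGroup.mk_surjective v
    rw [QuotientGroup.eq_one_iff]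
    refine SmallAb92Crit.mem_of_fixed S.hyp ?_ fun ψ hψ => QuotientGroup.eq.1 ?_
    · rw [_root_.commutator_def, Subgroup.commutator_le]
      intro a _ b _
      rw [commutatorElement_eq_one_iff_mul_comm.2 (hab a b)]
      exact one_mem _
    · have h2 : qmap ψ ∈ zpowers (qmap S.φX) := by
        obtain ⟨i, rfl⟩ := hψ
        exact ⟨i, (map_zpow _ _ _).symm⟩
      exact (zpow_fix hv h2).symm
  have hqcomm : ∀ v w : S.X ⧸ P 1, v * w = w * v := fun v w => by
    obtain ⟨x, rfl⟩ := QuotientGroup.mk_surjective v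
    obtain ⟨y, rfl⟩ := QuotientGroup.mk_surjective w
    rw [← QuotientGroup.mk_mul, ← QuotientGroup.mk_mul, hab x y]
  have hqsq : ∀ v : S.X ⧸ P 1, v * v = 1 := fun v => by
    obtain ⟨x, rfl⟩ := QuotientGroup.mk_surjective v
    rw [← QuotientGroup.mk_mul, QuotientGroup.eq_one_iff, ← pow_two]
    simpa using hPmem 1 x
  have hqall : ∀ v : S.X ⧸ P 1, v ≠ 1 →
      ∀ u, u = 1 ∨ u = v ∨ u = qmap S.φX v ∨ u = v * qmap S.φX v := by
    intro v hv u
    have h1 : qmap S.φX v ≠ 1 := fun h => hv ((qmap S.φX).injective (h.trans (map_one _).symm))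
    have h2 : qmap S.φX v ≠ v := fun h => hv (hqfix v h)
    have h3' : v * qmap S.φX v ≠ 1 := fun h => h2 (by
      rw [eq_inv_of_mul_eq_one_right h, inv_eq_of_mul_eq_one_right (hqsq v)])
    have a1 : qmap S.φX v ≠ v * qmap S.φX v := fun h => hv (right_eq_mul.1 h)
    have a2 : v ≠ v * qmap S.φX v := fun h => h1 (left_eq_mul.1 h)
    have hset : ({1, v, qmap S.φX v, v * qmap S.φX v} : Set (S.X ⧸ P 1)).ncard = 4 := by
      rw [Set.ncard_insert_of_notMem (by simp [Ne.symm hv, Ne.symm h1, Ne.symm h3']),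
        Set.ncard_insert_of_notMem (by simp [Ne.symm h2, a2]), Set.ncard_pair a1]
    have heq := Set.eq_of_subset_of_ncard_le
      (Set.subset_univ ({1, v, qmap S.φX v, v * qmap S.φX v} : Set (S.X ⧸ P 1)))
      (by rw [hset, Set.ncard_univ, ← Subgroup.index, hP1idx])
    have hu : u ∈ ({1, v, qmap S.φX v, v * qmap S.φX v} : Set (S.X ⧸ P 1)) :=
      heq.symm ▸ Set.mem_univ u
    simpa using hu
  -- generation
  have hgen : ∀ y : S.X, y ∉ P 1 → closure ({y, S.φX y} : Set S.X) = ⊤ := by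
    intro y hy
    refine frattini_nongenerating ?_
    rw [eq_top_iff]
    intro x _
    have hPF : P 1 ≤ frattini S.X := by
      rintro _ ⟨a, rfl⟩
      show a ^ 2 ^ 1 ∈ _
      rw [pow_one]
      exact PGroupsBasic.pow_mem_frattini hX2 a
    have hy1 : (QuotientGroup.mk y : S.X ⧸ P 1) ≠ 1 := fun h => hy ((QuotientGroup.eq_one_iff y).1 h)
    have hmem : ∀ g ∈ closure ({y, S.φX y} : Set S.X),
        (QuotientGroup.mk x : S.X ⧸ P 1) = QuotientGroup.mk g →
          x ∈ closure ({y, S.φX y} : Set S.X) ⊔ frattini S.X := fun g hg h => by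
      have e : x = g * (g⁻¹ * x) := (mul_inv_cancel_left g x).symm
      rw [e]
      exact mul_mem (mem_sup_left hg) (mem_sup_right (hPF (QuotientGroup.eq.1 h.symm)))
    have hyc : y ∈ closure ({y, S.φX y} : Set S.X) := subset_closure (Set.mem_insert _ _)
    have hfc : S.φX y ∈ closure ({y, S.φX y} : Set S.X) :=
      subset_closure (Set.mem_insert_of_mem _ rfl)
    rcases hqall _ hy1 (QuotientGroup.mk x) with h | h | h | h
    · exact hmem 1 (one_mem _) h
    · exact hmem y hyc h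
    · exact hmem _ hfc h
    · exact hmem _ (mul_mem hyc hfc) h
  -- exponents
  have hPanti : ∀ k, P (k + 1) ≤ P k := fun k => by
    rintro _ ⟨x, rfl⟩
    exact ⟨x ^ 2, by show (x ^ 2) ^ 2 ^ k = x ^ 2 ^ (k + 1); rw [← pow_mul, ← pow_succ']⟩
  have hP2 : ∀ k, P (k + 2) ≤ P 2 := fun k => by
    rintro _ ⟨x, rfl⟩
    exact ⟨x ^ 2 ^ k, by show (x ^ 2 ^ k) ^ 2 ^ 2 = x ^ 2 ^ (k + 2); rw [← pow_mul, ← pow_add]⟩
  obtain ⟨N₀, hN₀⟩ : ∃ N : ℕ, ∀ x : S.X, x ^ 2 ^ N = 1 := by
    obtain ⟨k, hk⟩ := IsPGroup.iff_card.mp hX2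
    exact ⟨k, fun x => by rw [← hk]; exact pow_card_eq_one'⟩
  have hclass : ∀ H : Subgroup S.X, (∀ h ∈ H, S.φX h ∈ H) → H ≠ ⊥ → ∃ k, H = P k := by
    intro H hH hne
    have hex : ∃ k, ¬ H ≤ P k := ⟨N₀, fun h => hne (eq_bot_iff.2 fun u hu => by
      obtain ⟨x, rfl⟩ := hPexists _ u (h hu)
      exact mem_bot.2 (hN₀ x))⟩
    have hspec : ¬ H ≤ P (Nat.find hex) := Nat.find_spec hex
    obtain ⟨k, hk⟩ : ∃ k, Nat.find hex = k + 1 := by
      refine ⟨Nat.find hex - 1, ?_⟩
      have : Nat.find hex ≠ 0 := fun h => hspec (by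
        rw [h]; exact fun u _ => ⟨u, by show u ^ 2 ^ 0 = u; simp⟩)
      omega
    have hle : H ≤ P k := Classical.not_not.1 (Nat.find_min hex (m := k) (by omega))
    rw [hk] at hspec
    obtain ⟨u, hu, hu'⟩ := SetLike.not_le_iff_exists.1 hspec
    obtain ⟨y, rfl⟩ := hPexists _ u (hle hu)
    have hy : y ∉ P 1 := fun h => hu' (by
      obtain ⟨x, rfl⟩ := hPexists _ y h
      exact ⟨x, by show x ^ 2 ^ (k + 1) = (x ^ 2 ^ 1) ^ 2 ^ k; rw [← pow_mul, ← pow_add, add_comm]⟩)
    refine ⟨k, le_antisymm hle ?_⟩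
    have hcl : closure ({y, S.φX y} : Set S.X) ≤ H.comap (pw k) := by
      rw [closure_le]
      rintro x (rfl | rfl)
      · exact hu
      · show (S.φX y) ^ 2 ^ k ∈ H
        rw [← map_pow]; exact hH _ hu
    rw [hgen y hy] at hcl
    rintro _ ⟨x, rfl⟩
    exact hcl (mem_top x)
  -- the fixed points act faithfully
  have hXC : S.X ⊓ S.C = ⊥ := by
    rw [eq_bot_iff]
    rintro x ⟨hx, hxc⟩
    exact mem_bot.2 (congrArg Subtype.val (hfix ⟨x, hx⟩ (Subtype.ext hxc)))
  have hfaith : ∀ c ∈ S.C, (∀ x ∈ S.X, x * c = c * x) → c = 1 := by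
    intro c hc hcx
    by_contra hc1
    set K₀ := S.C ⊓ centralizer (S.X : Set T) with hK₀
    haveI : K₀.Normal := by
      refine ⟨fun g hg t => ?_⟩
      obtain ⟨x, hx, d, hd, rfl⟩ := S.exists_decomp t
      have h1 : d * g * d⁻¹ ∈ K₀ := mem_inf.2 ⟨mul_mem (mul_mem hd hg.1) (inv_mem hd),
        (inferInstance : (centralizer (S.X : Set T)).Normal).conj_mem g hg.2 d⟩
      rwa [show x * d * g * (x * d)⁻¹ = x * (d * g * d⁻¹) * x⁻¹ by group,
        mem_centralizer_iff.1 h1.2 x hx, mul_inv_cancel_right]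
    obtain ⟨z, hz, hzc, hzo⟩ := exists_involution_center S.hT (N := K₀) fun h => hc1 (by
      have : c ∈ K₀ := ⟨hc, mem_centralizer_iff.2 hcx⟩
      rwa [h, mem_bot] at this)
    have := hmv z hzc (orderOf_dvd_iff_pow_eq_one.1 (dvd_of_eq hzo)) hz.1
    rw [this, orderOf_one] at hzo
    omega
  -- displacements
  let dsp : T → (S.X →* S.X) := fun c =>
    MonoidHom.mk' (fun x => x⁻¹ * MulAut.conjNormal c x) fun x y => by
      rw [map_mul, mul_inv_rev, hab y⁻¹ x⁻¹,
        show x⁻¹ * y⁻¹ * (MulAut.conjNormal c x * MulAut.conjNormal c y) =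
          x⁻¹ * (y⁻¹ * MulAut.conjNormal c x) * MulAut.conjNormal c y by group,
        hab y⁻¹ (MulAut.conjNormal c x)]
      group
  have hconj : ∀ c x, MulAut.conjNormal c x = x * dsp c x := fun c x =>
    (mul_inv_cancel_left x _).symm
  have hdφ : ∀ c ∈ S.C, ∀ x, S.φX (dsp c x) = dsp c (S.φX x) := fun c hc x => by
    show S.φX (x⁻¹ * MulAut.conjNormal c x) = (S.φX x)⁻¹ * MulAut.conjNormal c (S.φX x)
    rw [map_mul, map_inv, S.φX_conj hc]
  have hdP1 : ∀ c ∈ S.C, ∀ x, dsp c x ∈ P 1 := by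
    intro c hc x
    let ρ' : S.C →* MulAut (S.X ⧸ P 1) :=
      qmap.comp ((MulAut.conjNormal : T →* MulAut S.X).comp S.C.subtype)
    obtain ⟨q₀, hq₀, hq₀fix⟩ := fixed_of_odd (S.hT.to_subgroup S.C) ρ' (fun v => v ≠ 1)
      (fun t v hv h => hv ((ρ' t).injective (h.trans (map_one _).symm))) (by
        have h : Nat.card {v : S.X ⧸ P 1 // v ≠ 1} + 1 = 4 := by
          haveI : Fintype (S.X ⧸ P 1) := Fintype.ofFinite _
          have h4 : Fintype.card (S.X ⧸ P 1) = 4 := by
            rw [← Nat.card_eq_fintype_card]; exact hP1idx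
          rw [Nat.card_eq_fintype_card, Fintype.card_subtype_compl, Fintype.card_subtype_eq, h4]
        have : Nat.card {v : S.X ⧸ P 1 // v ≠ 1} = 3 := by omega
        rw [this]; decide)
    have hφfix : ∀ t : S.C, ρ' t (qmap S.φX q₀) = qmap S.φX q₀ := by
      intro t
      obtain ⟨y, rfl⟩ := QuotientGroup.mk_surjective q₀
      have h := congrArg (qmap S.φX) (hq₀fix t)
      show QuotientGroup.mk (MulAut.conjNormal (t : T) (S.φX y)) = _
      rw [← S.φX_conj t.2]
      exact h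
    refine QuotientGroup.eq.1 ?_
    refine (?_ : ρ' ⟨c, hc⟩ (QuotientGroup.mk x) = QuotientGroup.mk x).symm
    rcases hqall q₀ hq₀ (QuotientGroup.mk x) with h | h | h | h <;> rw [h]
    · exact map_one _
    · exact hq₀fix _
    · exact hφfix _
    · rw [map_mul, hq₀fix, hφfix]
  have htop : P 0 = ⊤ := eq_top_iff.2 fun u _ => ⟨u, by show u ^ 2 ^ 0 = u; simp⟩
  obtain ⟨y₀, hy₀⟩ : ∃ y : S.X, y ∉ P 1 := by
    by_contra hno
    push Not at hno
    rw [show P 1 = ⊤ from eq_top_iff.2 fun x _ => hno x, index_top] at hP1idx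
    omega
  -- the fixed points commute
  have hCab : ∀ c ∈ S.C, ∀ d ∈ S.C, c * d = d * c := by
    intro c hc d hd
    let y := y₀
    let z := S.φX y₀
    have hyz : Commute y z := hab _ _
    have key : ∀ g ∈ S.C, ∃ a b : ℤ, y ^ a * z ^ b = MulAut.conjNormal g y := fun g _ => by
      have hm : MulAut.conjNormal g y ∈ closure ({y, z} : Set S.X) := by
        rw [hgen y₀ hy₀]; exact mem_top _
      letI : CommGroup S.X := { (inferInstance : Group S.X) with mul_comm := hab }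
      exact mem_closure_pair.1 hm
    obtain ⟨a, b, hab₁⟩ := key c hc
    obtain ⟨a', b', hab₂⟩ := key d hd
    have hval : ∀ g ∈ S.C, ∀ i j i' j' : ℤ, y ^ i' * z ^ j' = MulAut.conjNormal g y →
        MulAut.conjNormal g (y ^ i * z ^ j) =
          (y ^ (i' * i) * z ^ (j' * i)) * (z ^ (i' * j) * (S.φX z) ^ (j' * j)) := by
      intro g hg i j i' j' h
      have hzg : MulAut.conjNormal g z = z ^ i' * (S.φX z) ^ j' := by
        rw [← S.φX_conj hg, ← h, map_mul, map_zpow, map_zpow]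
      rw [map_mul, map_zpow, map_zpow, ← h, hzg, (hyz.zpow_zpow i' j').mul_zpow,
        (show Commute (z ^ i') (S.φX z ^ j') from hab _ _).mul_zpow, ← zpow_mul, ← zpow_mul,
        ← zpow_mul, ← zpow_mul]
    have heq : MulAut.conjNormal c (MulAut.conjNormal d y) =
        MulAut.conjNormal d (MulAut.conjNormal c y) := by
      conv_lhs => rw [← hab₂, hval c hc a' b' a b hab₁]
      conv_rhs => rw [← hab₁, hval d hd a b a' b' hab₂]
      rw [mul_comm a a', mul_comm b b', mul_comm b a', mul_comm a b']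
      rw [mul_assoc (y ^ (a' * a)), mul_assoc (y ^ (a' * a)), ← mul_assoc (z ^ (a' * b)),
        ← mul_assoc (z ^ (b' * a)), ← zpow_add, ← zpow_add, add_comm (a' * b)]
    set γ : MulAut S.X := MulAut.conjNormal (c * d)
    set γ' : MulAut S.X := MulAut.conjNormal (d * c)
    have hγ : ∀ x, γ x = γ' x := by
      have hle : closure ({y₀, S.φX y₀} : Set S.X) ≤ γ.toMonoidHom.eqLocus γ'.toMonoidHom := by
        rw [closure_le]
        have h1 : γ y₀ = γ' y₀ := by
          simp only [γ, γ', map_mul, MulAut.mul_apply]; exact heq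
        rintro x (rfl | rfl)
        · exact h1
        · show γ (S.φX y₀) = γ' (S.φX y₀)
          simp only [γ, γ'] at h1 ⊢
          rw [← S.φX_conj (mul_mem hc hd), ← S.φX_conj (mul_mem hd hc), h1]
      rw [hgen y₀ hy₀] at hle
      exact fun x => hle (mem_top x)
    have h := hfaith ((d * c)⁻¹ * (c * d)) (mul_mem (inv_mem (mul_mem hd hc)) (mul_mem hc hd))
      fun x hx => by
        have e1 : c * d * x * (c * d)⁻¹ = d * c * x * (d * c)⁻¹ :=
          congrArg Subtype.val (hγ ⟨x, hx⟩)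
        calc x * ((d * c)⁻¹ * (c * d))
            = (d * c)⁻¹ * (d * c * x * (d * c)⁻¹) * (c * d) := by group
          _ = (d * c)⁻¹ * (c * d * x * (c * d)⁻¹) * (c * d) := by rw [e1]
          _ = (d * c)⁻¹ * (c * d) * x := by group
    exact (inv_mul_eq_one.1 h).symm
  -- involutions invert the squares
  have hnotW : ∀ c ∈ S.C, c ≠ 1 → c ^ 2 = 1 → ¬ ∀ x, dsp c x ∈ W₀ := by
    intro c hc hc1 hc2 hcon
    have hcX : c ∉ W := fun h => hc1 (by
      have : c ∈ S.X ⊓ S.C := ⟨hWX h, hc⟩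
      rwa [hXC, mem_bot] at this)
    obtain ⟨hn, hcm, h2, hcard⟩ := grow hWn (fun a ha b hb => hXc a (hWX ha) b (hWX hb)) hW2 hc2
      (fun a ha => (mem_center_iff.1 (hWc a ha) c).symm) (fun t => by
        obtain ⟨x, hx, d, hd, rfl⟩ := S.exists_decomp t
        refine ⟨_, hcon (⟨x, hx⟩ : S.X)⁻¹, ?_⟩
        show (x⁻¹)⁻¹ * (c * x⁻¹ * c⁻¹) = ⁅x * d, c⁆
        rw [commutatorElement_def, show x * d * c * (x * d)⁻¹ * c⁻¹ =
          x * (d * c * d⁻¹) * x⁻¹ * c⁻¹ by group, hCab d hd c hc, mul_inv_cancel_right]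
        group) hcX
    have := S.small _ hn hcm h2
    rw [hcard, hW4] at this
    omega
  have hnotP2 : ∀ c ∈ S.C, c ≠ 1 → c ^ 2 = 1 → ¬ ∀ x, dsp c x ∈ P 2 := by
    intro c hc hc1 hc2 hcon
    refine hnotW c hc hc1 hc2 fun x => ?_
    have hinv : ∀ x : S.X, MulAut.conjNormal c (dsp c x) = (dsp c x)⁻¹ := fun x => by
      show MulAut.conjNormal c (x⁻¹ * MulAut.conjNormal c x) = (x⁻¹ * MulAut.conjNormal c x)⁻¹
      rw [map_mul, map_inv, ← MulAut.mul_apply, ← map_mul, ← pow_two, hc2, map_one,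
        MulAut.one_apply, mul_inv_rev, inv_inv]
    have hit : ∀ k : ℕ, ∀ x : S.X, ∃ z : S.X, ∃ w ∈ W₀, dsp c x = z ^ 2 ^ k * w := by
      intro k
      induction k with
      | zero => intro x; exact ⟨dsp c x, 1, one_mem _, by simp⟩
      | succ k ih =>
        intro x
        obtain ⟨y, hy⟩ := hPexists _ _ (hcon x)
        obtain ⟨z, w₁, hw₁, hz⟩ := ih y
        have h1 : dsp c (dsp c x) = (dsp c y) ^ 4 := by rw [← hy, map_pow]; rfl
        have h2 : dsp c (dsp c x) = ((dsp c x) ^ 2)⁻¹ := by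
          show (dsp c x)⁻¹ * MulAut.conjNormal c (dsp c x) = _
          rw [hinv, ← inv_pow, pow_two]
        have h4 : (dsp c x * (dsp c y) ^ 2) ^ 2 = 1 := by
          rw [(show Commute (dsp c x) ((dsp c y) ^ 2) from hab _ _).mul_pow, ← pow_mul]
          show (dsp c x) ^ 2 * (dsp c y) ^ 4 = 1
          rw [← h1, h2, mul_inv_cancel]
        refine ⟨z⁻¹, _, (hmemW₀ _).2 h4, ?_⟩
        have h5 : (dsp c y) ^ 2 = z ^ 2 ^ (k + 1) := by
          rw [hz, (show Commute (z ^ 2 ^ k) w₁ from hab _ _).mul_pow, (hmemW₀ w₁).1 hw₁, mul_one,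
            ← pow_mul, ← pow_succ]
        rw [h5, inv_pow, hab (dsp c x), inv_mul_cancel_left]
    obtain ⟨z, w, hw, hz⟩ := hit N₀ x
    rw [hz, hN₀, one_mul]
    exact hw
  have hrange : ∀ c ∈ S.C, c ≠ 1 → c ^ 2 = 1 → (dsp c).range = P 1 := by
    intro c hc hc1 hc2
    have hne : (dsp c).range ≠ ⊥ := fun h => hnotP2 c hc hc1 hc2 fun x => by
      have : dsp c x ∈ (dsp c).range := ⟨x, rfl⟩
      rw [h, mem_bot] at this
      rw [this]; exact one_mem _
    obtain ⟨k, hk⟩ := hclass (dsp c).range (by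
      rintro _ ⟨x, rfl⟩
      exact ⟨S.φX x, (hdφ c hc x).symm⟩) hne
    rcases k with _ | _ | k
    · exfalso
      have hle : (⊤ : Subgroup S.X) ≤ P 1 := htop ▸ hk ▸ (by rintro _ ⟨x, rfl⟩; exact hdP1 c hc x)
      exact hy₀ (hle (mem_top _))
    · exact hk
    · exfalso
      exact hnotP2 c hc hc1 hc2 fun x => hP2 k (hk ▸ ⟨x, rfl⟩)
  have hinvert : ∀ c ∈ S.C, c ≠ 1 → c ^ 2 = 1 → ∀ y ∈ P 1, MulAut.conjNormal c y = y⁻¹ := by
    intro c hc hc1 hc2 y hy
    rw [← hrange c hc hc1 hc2] at hy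
    obtain ⟨x, rfl⟩ := hy
    show MulAut.conjNormal c (x⁻¹ * MulAut.conjNormal c x) = (x⁻¹ * MulAut.conjNormal c x)⁻¹
    rw [map_mul, map_inv, ← MulAut.mul_apply, ← map_mul, ← pow_two, hc2, map_one, MulAut.one_apply,
      mul_inv_rev, inv_inv]
  have huniq : ∀ c ∈ S.C, ∀ d ∈ S.C, c ≠ 1 → c ^ 2 = 1 → d ≠ 1 → d ^ 2 = 1 → c = d := by
    intro c hc d hd hc1 hc2 hd1 hd2
    by_contra hne
    have he1 : c * d ≠ 1 := fun h => hne (by
      rw [eq_inv_of_mul_eq_one_left h, inv_eq_of_mul_eq_one_right (by rw [← pow_two]; exact hd2)])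
    have he2 : (c * d) ^ 2 = 1 := by
      rw [(show Commute c d from hCab c hc d hd).mul_pow, hc2, hd2, one_mul]
    refine hnotW _ (mul_mem hc hd) he1 he2 fun x => (hmemW₀ _).2 ?_
    rw [← map_pow]
    show (x ^ 2)⁻¹ * MulAut.conjNormal (c * d) (x ^ 2) = 1
    have hP : x ^ 2 ∈ P 1 := by simpa using hPmem 1 x
    rw [map_mul, MulAut.mul_apply, hinvert d hd hd1 hd2 _ hP, map_inv, hinvert c hc hc1 hc2 _ hP,
      inv_inv, inv_mul_cancel]
  have hnosquare : ∀ d ∈ S.C, ∀ c : T, d ^ 2 = c → c ≠ 1 → c ^ 2 = 1 → False := by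
    intro d hd c hdc hc1 hc2
    refine hnotP2 c (hdc ▸ pow_mem hd 2) hc1 hc2 fun x => ?_
    obtain ⟨y, hy⟩ := hPexists _ _ (hdP1 d hd x)
    have h : dsp c x = dsp d (dsp d x) * (dsp d x) ^ 2 := by
      show x⁻¹ * MulAut.conjNormal c x = _
      rw [← hdc, map_pow, pow_two, MulAut.mul_apply, hconj d x, map_mul, hconj d x, hconj d (dsp d x),
        hab (dsp d (dsp d x)), pow_two]
      group
    rw [h]
    refine mul_mem ?_ ?_
    · obtain ⟨v, hv⟩ := hPexists _ _ (hdP1 d hd y)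
      refine ⟨v, ?_⟩
      show v ^ 2 ^ 2 = _
      rw [← hy, map_pow, ← hv, ← pow_mul]
      norm_num
    · refine ⟨y, ?_⟩
      show y ^ 2 ^ 2 = _
      rw [← hy, ← pow_mul]
      norm_num
  have hC2 : ∀ d ∈ S.C, d ^ 2 = 1 := by
    intro d hd
    by_contra hd2
    obtain ⟨m, hm⟩ := IsPGroup.iff_orderOf.mp S.hT d
    have hdm : d ^ 2 ^ m = 1 := by rw [← hm]; exact pow_orderOf_eq_one d
    rcases m with _ | _ | m
    · exact hd2 (by rw [pow_zero, pow_one] at hdm; rw [hdm, one_pow])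
    · exact hd2 (by simpa using hdm)
    · refine hnosquare _ (pow_mem hd (2 ^ m)) (d ^ 2 ^ (m + 1))
        (by rw [← pow_mul, ← pow_succ]) (fun h => ?_) (by rw [← pow_mul, ← pow_succ]; exact hdm)
      have hdvd := orderOf_dvd_of_pow_eq_one h
      rw [hm, Nat.pow_dvd_pow_iff_le_right (by norm_num)] at hdvd
      omega
  have hcard := S.card_eq
  rw [hXC, Subgroup.card_bot, mul_one] at hcard
  by_cases hC : S.C = ⊥
  · left
    rw [hC, Subgroup.card_bot, mul_one] at hcard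
    have htopX : S.X = ⊤ := Subgroup.eq_top_of_card_eq _ hcard.symm
    have hTc : ∀ a b : T, a * b = b * a := fun a b =>
      hXc a (htopX ▸ mem_top a) b (htopX ▸ mem_top b)
    have hcen : ∀ x : T, x ∈ center T := fun x => mem_center_iff.2 fun y => hTc y x
    let h : RankTwoTwoGroup20.Data T :=
      { ψ := S.φ
        hT := S.hT
        central := fun x _ => hcen x
        card4 := by
          rw [← hW4]
          exact Nat.card_congr (Equiv.subtypeEquivRight fun x =>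
            ⟨fun hx => hmemW x (htopX ▸ mem_top x) hx, fun hx => hW2 x hx⟩)
        fix := fun x hx hfx => hmv x (hcen x) hx hfx
        three := h3 }
    rcases RankTwoTwoGroup20.structure_thm h with hh | ⟨u, v, t, s, r⟩
    · exact hh
    · exfalso
      have hf := NoE8Moving20.rel_facts r h.central
      have h2 : ∀ x : T, x ^ 2 = 1 := fun x => hf.1 x (hcen x)
      have hle := Subgroup.card_le_of_le (show (⊤ : Subgroup T) ≤ W from fun x _ =>
        hmemW x (htopX ▸ mem_top x) (h2 x))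
      rw [Subgroup.card_top, hW4, r.card] at hle
      omega
  · right
    obtain ⟨c, hc, hc1⟩ : ∃ c ∈ S.C, c ≠ 1 := by
      by_contra hno
      push Not at hno
      exact hC ((Subgroup.eq_bot_iff_forall _).2 hno)
    have hc2 := hC2 c hc
    have hCcard : Nat.card S.C = 2 := by
      have hle : (S.C : Set T) ⊆ {1, c} := fun d hd => by
        by_cases hd1 : d = 1
        · simp [hd1]
        · simp [huniq d hd c hc hd1 (hC2 d hd) hc1 hc2]
      have h := Set.ncard_le_ncard hle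
      rw [Set.ncard_pair (Ne.symm hc1), ← Nat.card_coe_set_eq,
        show Nat.card ↥(S.C : Set T) = Nat.card S.C from rfl] at h
      have h1 : 1 < Nat.card S.C := (Subgroup.one_lt_card_iff_ne_bot _).2 hC
      omega
    have hidx : S.X.index = 2 := by
      have h := S.X.card_mul_index
      rw [hcard, hCcard] at h
      exact Nat.eq_of_mul_eq_mul_left Nat.card_pos h
    refine ⟨hidx, W, hW4, hWX, hW2, fun t w hw => mem_center_iff.1 (hWc w hw) t, hmemW, c,
      orderOf_eq_prime hc2 hc1, fun h => hc1 ?_, fun w hw => ?_⟩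
    · have : c ∈ S.X ⊓ S.C := ⟨h, hc⟩
      rwa [hXC, mem_bot] at this
    · obtain ⟨w₀, hw₀, rfl⟩ := hw
      have hW0ne : W₀ ≠ ⊥ := fun h => by
        rw [hW, h, Subgroup.map_bot, Subgroup.card_bot] at hW4
        omega
      obtain ⟨k, hk⟩ := hclass W₀ (fun h hh => char_inv hW₀c S.φX hh) hW0ne
      have hle : W₀ ≤ P 1 := by
        rcases k with _ | k
        · exfalso
          refine hnotW c hc hc1 hc2 fun x => ?_
          rw [hk, htop]; exact mem_top _
        · rw [hk]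
          exact fun u hu => by
            obtain ⟨x, rfl⟩ := hPexists _ u hu
            exact ⟨x ^ 2 ^ k, by show (x ^ 2 ^ k) ^ 2 ^ 1 = _; rw [← pow_mul, ← pow_add]⟩
      have hw1 := hle hw₀
      rw [← hrange c hc hc1 hc2] at hw1
      obtain ⟨a, rfl⟩ := hw1
      refine ⟨a, a.2, ?_⟩
      show (a : T) * c * (a : T)⁻¹ = c * ((a : T)⁻¹ * (c * a * c⁻¹))
      have hci : c⁻¹ = c := inv_eq_of_mul_eq_one_right (by rw [← pow_two]; exact hc2)
      have h1 : (a : T)⁻¹ * (c * a * c⁻¹) = (c * a * c⁻¹) * (a : T)⁻¹ :=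
        hXc _ (inv_mem a.2) _ (S.normal_X.conj_mem _ a.2 c)
      rw [h1, hci]
      calc (a : T) * c * (a : T)⁻¹ = (c * c) * ((a : T) * c * (a : T)⁻¹) := by
            rw [← pow_two, hc2, one_mul]
        _ = c * (c * a * c * (a : T)⁻¹) := by group

end Cfsg.Agent.SmallAb92Abel
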