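import Cfsg.Agent.Lib.SmallAb92Crit
import Cfsg.Agent.Lib.CoprimeActionAut

/-!
A 2-group without normal elementary abelian subgroups of order 8, an automorphism of odd order, the
subgroup of its commutators and its fixed points; the action on a quotient by the centre.
-/

open Subgroup
open scoped commutatorElement

set_option autoImplicit false
set_option linter.unusedSectionVars false

namespace Cfsg.Agent.SmallAb92Act

open Cfsg.Agent.NoE8Central20 (Fixed q cB q_mk cB_mk out_eq)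

/-! ### Generalities -/

section general

variable {T : Type*} [Group T] [Finite T]

theorem exists_involution_center (hT : IsPGroup 2 T) {N : Subgroup T} [N.Normal] (hN : N ≠ ⊥) :
    ∃ z ∈ N, z ∈ center T ∧ orderOf z = 2 := by
  haveI : Fact (Nat.Prime 2) := ⟨Nat.prime_two⟩
  obtain ⟨z, hz, hzo⟩ := PGroupsBasic.exists_orderOf_eq_of_ne_bot (p := 2)
    (hT.to_subgroup (N ⊓ center T)) (PGroupsBasic.inf_center_ne_bot hT hN)
  exact ⟨z, hz.1, hz.2, hzo⟩

/-- Adjoining an involution that is central modulo `A`. -/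
theorem grow {A : Subgroup T} (hA : A.Normal) (hAc : ∀ a ∈ A, ∀ b ∈ A, a * b = b * a)
    (hA2 : ∀ a ∈ A, a ^ 2 = 1) {x : T} (hx2 : x ^ 2 = 1) (hxc : ∀ a ∈ A, a * x = x * a)
    (hxt : ∀ t : T, ⁅t, x⁆ ∈ A) (hxA : x ∉ A) :
    (A ⊔ zpowers x).Normal ∧ (∀ a ∈ A ⊔ zpowers x, ∀ b ∈ A ⊔ zpowers x, a * b = b * a) ∧
      (∀ a ∈ A ⊔ zpowers x, a ^ 2 = 1) ∧ Nat.card ↥(A ⊔ zpowers x) = Nat.card A * 2 := by
  haveI : Fact (Nat.Prime 2) := ⟨Nat.prime_two⟩
  haveI := hA
  have hel : Cfsg.IsElementaryAbelian 2 (A ⊔ zpowers x) := by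
    refine PGroupsBasic.isElementaryAbelian_sup ⟨PGroupsBasic.isMulCommutative_of_forall hAc, hA2⟩
      (PGroupsBasic.isElementaryAbelian_zpowers hx2) ?_
    rintro a ha _ ⟨i, rfl⟩
    exact ((show Commute a x from hxc a ha).zpow_right i).eq.symm
  refine ⟨PGroupsCritical.normal_sup_zpowers hxt,
    fun a ha b hb => PGroupsBasic.comm_of_isMulCommutative hel.1 ha hb, hel.2, ?_⟩
  exact PGroupsBasic.card_sup_zpowers (orderOf_eq_prime hx2 fun e => hxA (e ▸ one_mem A)) hxA

/-- A 2-group fixes a point of an invariant set of odd order. -/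
theorem fixed_of_odd (hT : IsPGroup 2 T) {V : Type*} [Group V] [Finite V] (ρ : T →* MulAut V)
    (P : V → Prop) (hP : ∀ t v, P v → P (ρ t v)) (hodd : Odd (Nat.card {v // P v})) :
    ∃ v, P v ∧ ∀ t, ρ t v = v := by
  haveI : Fact (Nat.Prime 2) := ⟨Nat.prime_two⟩
  letI : SMul T {v // P v} := ⟨fun t v => ⟨ρ t v, hP t v v.2⟩⟩
  letI : MulAction T {v // P v} :=
    { one_smul := fun v => Subtype.ext (show ρ 1 (v : V) = v by rw [map_one]; rfl)
      mul_smul := fun s t v => Subtype.ext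
        (show ρ (s * t) (v : V) = ρ s (ρ t (v : V)) by rw [map_mul]; rfl) }
  obtain ⟨v, hv⟩ := hT.nonempty_fixed_point_of_prime_not_dvd_card {v // P v}
    (fun h => Nat.not_even_iff_odd.2 hodd (even_iff_two_dvd.2 h))
  exact ⟨v, v.2, fun t => congrArg Subtype.val (hv t)⟩

/-- A 2-group fixing only the identity in an invariant set leaves it of odd order. -/
theorem odd_of_no_fixed (hT : IsPGroup 2 T) {V : Type*} [Group V] [Finite V] (ρ : T →* MulAut V)
    (P : V → Prop) (hP : ∀ t v, P v → P (ρ t v)) (h1 : P 1)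
    (hno : ∀ v, P v → (∀ t, ρ t v = v) → v = 1) : Odd (Nat.card {v // P v}) := by
  haveI : Fact (Nat.Prime 2) := ⟨Nat.prime_two⟩
  letI : SMul T {v // P v} := ⟨fun t v => ⟨ρ t v, hP t v v.2⟩⟩
  letI : MulAction T {v // P v} :=
    { one_smul := fun v => Subtype.ext (show ρ 1 (v : V) = v by rw [map_one]; rfl)
      mul_smul := fun s t v => Subtype.ext
        (show ρ (s * t) (v : V) = ρ s (ρ t (v : V)) by rw [map_mul]; rfl) }
  rw [← Nat.not_even_iff_odd, even_iff_two_dvd]
  intro h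
  obtain ⟨v, hv, hne⟩ := hT.exists_fixed_point_of_prime_dvd_card_of_fixed_point {v // P v} h
    (a := ⟨1, h1⟩) (fun t => Subtype.ext (map_one (ρ t)))
  exact hne (Subtype.ext (hno v v.2 fun t => congrArg Subtype.val (hv t)).symm)

/-- The number of ones of a function to `ZMod 2` is congruent to its sum. -/
theorem card_cast {V : Type*} [Fintype V] (f : V → ZMod 2) :
    ((Nat.card {v // f v = 1} : ℕ) : ZMod 2) = ∑ v, f v := by
  classical
  rw [Nat.card_eq_fintype_card, Fintype.card_subtype, ← Finset.sum_boole]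
  refine Finset.sum_congr rfl fun v _ => ?_
  have h01 : ∀ z : ZMod 2, (if z = 1 then (1 : ZMod 2) else 0) = z := by decide
  exact h01 _

theorem odd_iff_cast {n : ℕ} : Odd n ↔ (n : ZMod 2) = 1 := ZMod.natCast_eq_one_iff_odd.symm

/-- A fixed point free automorphism leaves no subgroup of order two invariant. -/
theorem card_ne_two {V : Type*} [Group V] [Finite V] (α : MulAut V)
    (hα : ∀ v, α v = v → v = 1) (H : Subgroup V) (hH : ∀ v ∈ H, α v ∈ H) : Nat.card H ≠ 2 := by
  intro h2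
  obtain ⟨u, v, -, huv⟩ := Nat.card_eq_two_iff.mp h2
  have mem : ∀ t : H, t = u ∨ t = v := fun t => by
    have : t ∈ ({u, v} : Set _) := huv ▸ Set.mem_univ t
    simpa using this
  obtain ⟨w, hw⟩ : ∃ w : H, w ≠ 1 := by
    haveI : Nontrivial H := Finite.one_lt_card_iff_nontrivial.1 (by omega)
    exact exists_ne 1
  have hαw : (⟨α w, hH w w.2⟩ : H) ≠ 1 := fun e =>
    hw (Subtype.ext (α.injective ((congrArg Subtype.val e).trans (map_one α).symm)))
  have : (⟨α w, hH w w.2⟩ : H) = w := by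
    rcases mem 1 with q | q <;> rcases mem w with q' | q' <;>
      rcases mem ⟨α w, hH w w.2⟩ with q'' | q'' <;> grind
  exact hw (Subtype.ext (hα w (congrArg Subtype.val this)))

theorem zpow_fix {V : Type*} [Group V] {α : MulAut V} {v : V} (h : α v = v) {β : MulAut V}
    (hβ : β ∈ zpowers α) : β v = v :=
  (zpowers_le.2 (show α ∈ MulAction.stabilizer (MulAut V) v from h) hβ :
    β ∈ MulAction.stabilizer (MulAut V) v)

end general

/-! ### The action on the quotient by the centre -/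

section quot

variable {T : Type*} [Group T] [Finite T] {X : Subgroup T}

/-- The automorphism of the quotient by the centre. -/
noncomputable def vmap (X : Subgroup T) : MulAut X →* MulAut (↥X ⧸ center ↥X) where
  toFun α := QuotientGroup.congr (center X) (center X) α
    ((characteristic_iff_map_eq.1 inferInstance) α)
  map_one' := by
    ext v
    obtain ⟨x, rfl⟩ := QuotientGroup.mk_surjective v
    rfl
  map_mul' α β := by
    ext v
    obtain ⟨x, rfl⟩ := QuotientGroup.mk_surjective v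
    rfl

theorem vmap_mk (α : MulAut X) (x : X) :
    vmap X α (QuotientGroup.mk x) = QuotientGroup.mk (α x) := rfl

/-- The action of the whole group. -/
noncomputable def rho (X : Subgroup T) [X.Normal] : T →* MulAut (↥X ⧸ center ↥X) :=
  (vmap X).comp MulAut.conjNormal

variable {B : Subgroup (MulAut X)} {E : Subgroup X} (F : Fixed B E)
include F

theorem q_vmap (α : MulAut X) (v : ↥X ⧸ center ↥X) : q (vmap X α v) = α (q v) := by
  obtain ⟨x, rfl⟩ := QuotientGroup.mk_surjective v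
  rw [vmap_mk, q_mk F, q_mk F, map_pow]

theorem cB_vmap (α : MulAut X) (v w : ↥X ⧸ center ↥X) :
    cB (vmap X α v) (vmap X α w) = α (cB v w) := by
  obtain ⟨x, rfl⟩ := QuotientGroup.mk_surjective v
  obtain ⟨y, rfl⟩ := QuotientGroup.mk_surjective w
  rw [vmap_mk, vmap_mk, cB_mk F, cB_mk F, map_commutatorElement]

theorem center_two {e : X} (he : e ∈ center X) : e ^ 2 = 1 := F.two e (F.center_eq ▸ he)

omit F in
theorem mem_zx {x : X} : (x : T) ∈ (center X).map X.subtype ↔ x ∈ center X :=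
  mem_map_iff_mem X.subtype_injective

omit F in
theorem zx_comm : ∀ a ∈ (center X).map X.subtype, ∀ x ∈ X, a * x = x * a := by
  rintro _ ⟨a, ha, rfl⟩ x hx
  exact (congrArg Subtype.val (mem_center_iff.1 ha ⟨x, hx⟩)).symm

theorem zx_two : ∀ a ∈ (center X).map X.subtype, a ^ 2 = 1 := by
  rintro _ ⟨a, ha, rfl⟩
  rw [← map_pow, center_two F ha, map_one]

omit F in
theorem fixed_lift [X.Normal] {v : ↥X ⧸ center ↥X} (hv : ∀ t, rho X t v = v) (t : T) :
    ⁅t, ((v.out : X) : T)⁆ ∈ (center X).map X.subtype := by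
  have h := hv t
  conv_rhs at h => rw [← QuotientGroup.out_eq' v]
  nth_rewrite 1 [← QuotientGroup.out_eq' v] at h
  change vmap X (MulAut.conjNormal t) _ = _ at h
  rw [vmap_mk, eq_comm, QuotientGroup.eq] at h
  refine ⟨v.out⁻¹ * MulAut.conjNormal t v.out, h, ?_⟩
  have e := mem_center_iff.1 h v.out
  rw [mul_inv_cancel_left] at e
  have e2 : MulAut.conjNormal t v.out * (v.out)⁻¹ = v.out⁻¹ * MulAut.conjNormal t v.out :=
    mul_inv_eq_iff_eq_mul.2 e
  rw [← e2]
  simp [commutatorElement_def]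

theorem out_sq {v : ↥X ⧸ center ↥X} : ((v.out : X) : T) ^ 2 = ((q v : X) : T) := rfl

omit F in
theorem out_mem_zx {v : ↥X ⧸ center ↥X} (h : ((v.out : X) : T) ∈ (center X).map X.subtype) :
    v = 1 := by
  rw [← QuotientGroup.out_eq' v, QuotientGroup.eq_one_iff]
  exact mem_zx.1 h

end quot

/-! ### The setting -/

/-- A 2-group without normal elementary abelian subgroups of order 8, with a nontrivial odd
automorphism. -/
structure Setting (T : Type*) [Group T] where
  hT : IsPGroup 2 T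
  small : ∀ N : Subgroup T, N.Normal → (∀ a ∈ N, ∀ b ∈ N, a * b = b * a) → (∀ a ∈ N, a ^ 2 = 1) →
    Nat.card N ≤ 4
  φ : MulAut T
  odd : Odd (orderOf φ)
  ne : φ ≠ 1

namespace Setting

variable {T : Type*} [Group T] (S : Setting T)

/-- The fixed points. -/
def C : Subgroup T where
  carrier := {c | S.φ c = c}
  one_mem' := map_one _
  mul_mem' {a b} (ha : S.φ a = a) (hb : S.φ b = b) := show S.φ (a * b) = a * b by
    rw [map_mul, ha, hb]
  inv_mem' {a} (ha : S.φ a = a) := show S.φ a⁻¹ = a⁻¹ by rw [map_inv, ha]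

theorem mem_C {c : T} : c ∈ S.C ↔ S.φ c = c := Iff.rfl

/-- The commutators with the automorphism. -/
def X : Subgroup T := closure {g : T | ∃ ψ ∈ zpowers S.φ, ∃ x : T, g = x⁻¹ * ψ x}

theorem gen_mem {ψ : MulAut T} (hψ : ψ ∈ zpowers S.φ) (x : T) : x⁻¹ * ψ x ∈ S.X :=
  subset_closure ⟨ψ, hψ, x, rfl⟩

instance normal_X : S.X.Normal := by
  refine ⟨fun a ha g => ?_⟩
  induction ha using closure_induction with
  | mem y hy =>
    obtain ⟨ψ, hψ, x, rfl⟩ := hy
    have := mul_mem (S.gen_mem hψ (x * g⁻¹)) (inv_mem (S.gen_mem hψ g⁻¹))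
    convert this using 1
    rw [map_mul, map_inv]
    group
  | one => rw [mul_one, mul_inv_cancel]; exact one_mem _
  | mul a b _ _ ha hb =>
    rw [show g * (a * b) * g⁻¹ = (g * a * g⁻¹) * (g * b * g⁻¹) by group]
    exact mul_mem ha hb
  | inv a _ ha =>
    rw [show g * a⁻¹ * g⁻¹ = (g * a * g⁻¹)⁻¹ by group]
    exact inv_mem ha

theorem map_mem_X {ψ : MulAut T} (hψ : ψ ∈ zpowers S.φ) {a : T} (ha : a ∈ S.X) : ψ a ∈ S.X := by
  induction ha using closure_induction with
  | mem y hy =>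
    obtain ⟨χ, hχ, x, rfl⟩ := hy
    obtain ⟨i, rfl⟩ := hψ
    obtain ⟨j, rfl⟩ := hχ
    have e : (S.φ ^ i) ((S.φ ^ j) x) = (S.φ ^ j) ((S.φ ^ i) x) := by
      rw [← MulAut.mul_apply, ← MulAut.mul_apply, ← zpow_add, ← zpow_add, add_comm]
    rw [map_mul, map_inv, e]
    exact S.gen_mem ⟨j, rfl⟩ _
  | one => rw [map_one]; exact one_mem _
  | mul a b _ _ ha hb => rw [map_mul]; exact mul_mem ha hb
  | inv a _ ha => rw [map_inv]; exact inv_mem ha

/-- The restriction of the automorphism. -/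
def φX : MulAut S.X where
  toFun x := ⟨S.φ x, S.map_mem_X (mem_zpowers _) x.2⟩
  invFun x := ⟨S.φ⁻¹ x, S.map_mem_X (inv_mem (mem_zpowers _)) x.2⟩
  left_inv x := Subtype.ext (MulAut.inv_apply_self T S.φ x)
  right_inv x := Subtype.ext (MulAut.apply_inv_self T S.φ x)
  map_mul' x y := Subtype.ext (map_mul S.φ (x : T) (y : T))

theorem φX_coe (x : S.X) : ((S.φX x : S.X) : T) = S.φ x := rfl

theorem φX_pow (n : ℕ) (x : S.X) : (((S.φX ^ n) x : S.X) : T) = (S.φ ^ n) x := by
  induction n with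
  | zero => rfl
  | succ n ih => rw [pow_succ', pow_succ', MulAut.mul_apply, MulAut.mul_apply, S.φX_coe, ih]

variable [Finite T]

theorem exists_pow {ψ : MulAut T} (hψ : ψ ∈ zpowers S.φ) : ∃ n : ℕ, S.φ ^ n = ψ :=
  (isOfFinOrder_of_finite S.φ).mem_powers_iff_mem_zpowers.2 hψ

theorem exists_decomp (t : T) : ∃ x ∈ S.X, ∃ c ∈ S.C, t = x * c := by
  haveI : Fact (Nat.Prime 2) := ⟨Nat.prime_two⟩
  obtain ⟨k, hk⟩ := IsPGroup.iff_card.mp S.hT
  obtain ⟨c, hc, hkc⟩ := CoprimeActionAut.exists_fixed_mem_coset (zpowers S.φ).subtype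
    (by rw [Nat.card_zpowers, hk]; exact Nat.Coprime.pow_right _ (Nat.coprime_two_right.2 S.odd))
    (Or.inl (CoprimeAction.isSolvable_zpowers S.φ))
    S.X (fun a s hs => S.map_mem_X a.2 hs) t (fun a => S.gen_mem a.2 t)
  refine ⟨c * (t⁻¹ * c)⁻¹ * c⁻¹, S.normal_X.conj_mem _ (inv_mem hkc) c, c,
    hc ⟨S.φ, mem_zpowers _⟩, ?_⟩
  group

theorem card_eq : Nat.card T * Nat.card ↥(S.X ⊓ S.C) = Nat.card S.X * Nat.card S.C := by
  let f : S.C →* T ⧸ S.X := (QuotientGroup.mk' S.X).comp S.C.subtype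
  have hf : Function.Surjective f := by
    intro v
    obtain ⟨t, rfl⟩ := QuotientGroup.mk_surjective v
    obtain ⟨x, hx, c, hc, rfl⟩ := S.exists_decomp t
    refine ⟨⟨c, hc⟩, ?_⟩
    show (QuotientGroup.mk c : T ⧸ S.X) = QuotientGroup.mk (x * c)
    rw [QuotientGroup.mk_mul, (QuotientGroup.eq_one_iff x).2 hx, one_mul]
  have hker : f.ker = (S.X ⊓ S.C).subgroupOf S.C := by
    ext c
    simp [f, MonoidHom.mem_ker, mem_subgroupOf]
  have h1 := Subgroup.card_eq_card_quotient_mul_card_subgroup f.ker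
  rw [Nat.card_congr (QuotientGroup.quotientKerEquivOfSurjective f hf).toEquiv, hker,
    Nat.card_congr (subgroupOfEquivOfLe (inf_le_right : S.X ⊓ S.C ≤ S.C)).toEquiv] at h1
  rw [Subgroup.card_eq_card_quotient_mul_card_subgroup S.X, h1]
  ring

theorem odd_card : Odd (Nat.card (zpowers S.φX)) := by
  rw [Nat.card_zpowers]
  refine Odd.of_dvd_nat S.odd (orderOf_dvd_of_pow_eq_one ?_)
  ext x
  rw [S.φX_pow, pow_orderOf_eq_one]
  rfl

theorem hyp : SmallAb92Crit.Hyp (zpowers S.φX) := by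
  refine ⟨S.hT.to_subgroup _, fun N hN hc h2 => ?_, S.odd_card, ?_⟩
  · haveI := hN
    rw [← card_map_of_injective S.X.subtype_injective]
    refine S.small (N.map S.X.subtype) inferInstance ?_ ?_
    · rintro _ ⟨a, ha, rfl⟩ _ ⟨b, hb, rfl⟩
      rw [← map_mul, ← map_mul, hc a ha b hb]
    · rintro _ ⟨a, ha, rfl⟩
      rw [← map_pow, h2 a ha, map_one]
  · rw [eq_top_iff]
    intro x _
    suffices h : S.X ≤ (closure {g : S.X | ∃ φ ∈ zpowers S.φX, ∃ x : S.X, g = x⁻¹ * φ x}).map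
        S.X.subtype by
      exact (mem_map_iff_mem S.X.subtype_injective).1 (h x.2)
    refine (closure_le _).2 ?_
    rintro _ ⟨ψ, hψ, t, rfl⟩
    obtain ⟨y, hy, c, hc, rfl⟩ := S.exists_decomp t
    obtain ⟨n, rfl⟩ := S.exists_pow hψ
    have hcn : (S.φ ^ n) c = c := zpow_fix ((S.mem_C).1 hc) (npow_mem_zpowers _ n)
    have hy' : c⁻¹ * y * c ∈ S.X := by simpa using S.normal_X.conj_mem y hy c⁻¹
    refine ⟨(⟨_, hy'⟩ : S.X)⁻¹ * (S.φX ^ n) ⟨_, hy'⟩,
      subset_closure ⟨_, npow_mem_zpowers _ n, _, rfl⟩, ?_⟩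
    rw [map_mul, map_inv, coe_subtype, S.φX_pow]
    simp only [map_mul, map_inv, hcn]
    group

theorem X_ne_bot : S.X ≠ ⊥ := fun e => S.ne (MulEquiv.ext fun x => by
  have h := S.gen_mem (mem_zpowers S.φ) x
  rw [e, mem_bot, inv_mul_eq_one] at h
  exact h.symm)

theorem φX_conj {c : T} (hc : c ∈ S.C) (x : S.X) :
    S.φX (MulAut.conjNormal c x) = MulAut.conjNormal c (S.φX x) := by
  apply Subtype.ext
  show S.φ (c * x * c⁻¹) = c * S.φ x * c⁻¹
  rw [map_mul, map_mul, map_inv, (S.mem_C).1 hc]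

theorem φX_zpowers_conj {c : T} (hc : c ∈ S.C) {ψ : MulAut S.X} (hψ : ψ ∈ zpowers S.φX) (x : S.X) :
    ψ (MulAut.conjNormal c x) = MulAut.conjNormal c (ψ x) := by
  have hcomm : Commute S.φX (MulAut.conjNormal c) := MulEquiv.ext fun y => S.φX_conj hc y
  obtain ⟨i, rfl⟩ := hψ
  exact DFunLike.congr_fun (hcomm.zpow_left i).eq x

variable {B : Subgroup (MulAut S.X)} {E : Subgroup S.X}

/-- The automorphism is fixed point free on the quotient by the centre. -/
theorem fixfree (F : Fixed B E) {v : ↥S.X ⧸ center ↥S.X} (hv : vmap S.X S.φX v = v) : v = 1 := by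
  obtain ⟨x, rfl⟩ := QuotientGroup.mk_surjective v
  rw [QuotientGroup.eq_one_iff]
  refine SmallAb92Crit.mem_of_fixed S.hyp (F.center_eq.symm ▸ F.comm_eq.le) fun ψ hψ =>
    QuotientGroup.eq.1 ?_
  have h2 : vmap S.X ψ ∈ zpowers (vmap S.X S.φX) := by
    obtain ⟨i, rfl⟩ := hψ
    exact ⟨i, (map_zpow _ _ _).symm⟩
  exact ((vmap_mk ψ x).symm.trans (zpow_fix hv h2)).symm

theorem vmap_rho {c : T} (hc : c ∈ S.C) (v : ↥S.X ⧸ center ↥S.X) :
    vmap S.X S.φX (rho S.X c v) = rho S.X c (vmap S.X S.φX v) := by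
  obtain ⟨x, rfl⟩ := QuotientGroup.mk_surjective v
  show QuotientGroup.mk (S.φX (MulAut.conjNormal c x)) = QuotientGroup.mk _
  rw [S.φX_conj hc]
  rfl

theorem rho_X (F : Fixed B E) {x : T} (hx : x ∈ S.X) : rho S.X x = 1 := by
  refine MulEquiv.ext fun v => ?_
  obtain ⟨y, rfl⟩ := QuotientGroup.mk_surjective v
  show QuotientGroup.mk (MulAut.conjNormal x y) = QuotientGroup.mk y
  rw [show MulAut.conjNormal x y = (⟨x, hx⟩ : S.X) * y * (⟨x, hx⟩ : S.X)⁻¹ from Subtype.ext rfl,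
    QuotientGroup.mk_mul, QuotientGroup.mk_mul, NoE8Central20.comm_V F, ← mul_assoc,
    ← QuotientGroup.mk_mul, inv_mul_cancel, QuotientGroup.mk_one, one_mul]

/-- A fixed element acting trivially on the quotient and the fixed centre centralises `X`. -/
theorem centralises_of_trivial (hfix : ∀ e ∈ center S.X, S.φX e = e) {c : T}
    (hc : c ∈ S.C) (hρ : rho S.X c = 1) :
    ∀ x : S.X, MulAut.conjNormal c x = x := by
  intro x
  let H : Subgroup S.X := (MulAut.conjNormal c : MulAut S.X).toMonoidHom.eqLocus (MonoidHom.id _)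
  suffices h : closure {g : S.X | ∃ φ ∈ zpowers S.φX, ∃ x : S.X, g = x⁻¹ * φ x} ≤ H by
    rw [S.hyp.gen] at h
    exact h (mem_top x)
  rw [closure_le]
  rintro _ ⟨ψ, hψ, y, rfl⟩
  have hd : y⁻¹ * MulAut.conjNormal c y ∈ center S.X := by
    refine QuotientGroup.eq.1 ?_
    have := DFunLike.congr_fun hρ (QuotientGroup.mk y)
    exact this.symm
  show MulAut.conjNormal c (y⁻¹ * ψ y) = y⁻¹ * ψ y
  set d := y⁻¹ * MulAut.conjNormal c y with hd'
  have e : MulAut.conjNormal c y = y * d := by rw [hd', mul_inv_cancel_left]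
  have hψd : ψ d = d := zpow_fix (hfix d hd) hψ
  rw [map_mul, map_inv, ← S.φX_zpowers_conj hc hψ, e, map_mul, hψd, mul_inv_rev]
  rw [mem_center_iff.1 (inv_mem hd) y⁻¹ |>.symm, mul_assoc, mem_center_iff.1 hd (ψ y),
    inv_mul_cancel_left]

end Setting

end Cfsg.Agent.SmallAb92Act
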