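import Cfsg.Agent.Lib.SmallAb92Four

/-!
The order of a 2-group whose commutator part has centre of order four.
-/

open Subgroup
open scoped commutatorElement

set_option autoImplicit false
set_option linter.unusedSectionVars false

namespace Cfsg.Agent.SmallAb92Bound

open Cfsg.Agent.SmallAb92Act Cfsg.Agent.SmallAb92Four
open Cfsg.Agent.NoE8Central20 (Fixed q cB q_mem cB_mem q_one sq_one comm_V q_mul cB_mul_left
  cB_mul_right cB_self cB_symm E_ne_bot cB_bot)

variable {T : Type*} [Group T] [Finite T] (S : Setting T)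

/-- Fixed points of the automorphism are small when it fixes the centre. -/
theorem fixed_card {E : Subgroup S.X} (F : Fixed (zpowers S.φX) E) (hE : Nat.card E = 4) :
    Nat.card T = 64 ∨ Nat.card T = 128 := by
  classical
  haveI : Fact (Nat.Prime 2) := ⟨Nat.prime_two⟩
  have hfix : ∀ e ∈ center S.X, S.φX e = e := fun e he =>
    F.fix _ (mem_zpowers _) e (F.center_eq ▸ he)
  -- the quotient has order sixteen
  have h16 : Nat.card (↥S.X ⧸ center ↥S.X) = 16 := by
    obtain ⟨k, hk⟩ := IsPGroup.iff_card.mp ((S.hT.to_subgroup S.X).to_quotient (center S.X))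
    have h8 := SmallAb92Crit.card_quot_ne S.hyp F
    have hle := card_le S F hE
    have h4 : ¬ Nat.card (↥S.X ⧸ center ↥S.X) ≤ 4 := fun h => by
      have := (SmallAb92Crit.four_small S.hyp F h).1; omega
    have hk4 : k ≤ 4 := by
      by_contra hk4
      have : 2 ^ 5 ≤ 2 ^ k := Nat.pow_le_pow_right (by norm_num) (by omega)
      omega
    interval_cases k <;> omega
  set Z := (center S.X).map S.X.subtype with hZ
  have hZc : Nat.card Z = 4 := card_zx S F hE
  haveI hZn : Z.Normal := by rw [hZ]; infer_instance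
  have hXC : S.X ⊓ S.C = Z := by
    refine le_antisymm ?_ ?_
    · rintro x ⟨hx, hxc⟩
      refine mem_zx.2 (fixed_mem_center S F (x := ⟨x, hx⟩) (Subtype.ext ?_))
      exact hxc
    · rintro _ ⟨e, he, rfl⟩
      exact ⟨e.2, congrArg Subtype.val (hfix e he)⟩
  have hZC : Z ≤ S.C := hXC ▸ inf_le_right
  set C₁ := S.C ⊓ centralizer (Z : Set T) with hC₁
  have hC₁E : ∀ c ∈ C₁, ∀ e ∈ center S.X, MulAut.conjNormal c e = e := fun c hc e he => by
    apply Subtype.ext
    show c * (e : T) * c⁻¹ = e
    rw [← mem_centralizer_iff.1 hc.2 _ (mem_zx.2 he), mul_inv_cancel_right]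
  have hker : ∀ c ∈ C₁, rho S.X c = 1 → c ∈ Z := fun c hc hρ => by
    refine centralizer_le S F hE h16 fun x hx => ?_
    have h := congrArg Subtype.val (S.centralises_of_trivial hfix hc.1 hρ ⟨x, hx⟩)
    exact mul_inv_eq_iff_eq_mul.1 h
  have hC₁Z : C₁ = Z := by
    refine le_antisymm ?_ (le_inf hZC fun z hz => mem_centralizer_iff.2 fun w hw =>
      (zx_comm w hw z (map_subtype_le _ hz)))
    by_contra hnot
    haveI : (Z.subgroupOf S.C).Normal := hZn.subgroupOf _
    haveI : (C₁.subgroupOf S.C).Normal := by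
      rw [show C₁.subgroupOf S.C = (centralizer (Z : Set T)).subgroupOf S.C by
        ext u; simp [hC₁, mem_subgroupOf]]
      exact (inferInstance : (centralizer (Z : Set T)).Normal).subgroupOf _
    have hle : Z.subgroupOf S.C ≤ C₁.subgroupOf S.C := fun u hu =>
      ⟨u.2, mem_centralizer_iff.2 fun w hw => zx_comm w hw _ (map_subtype_le _ hu)⟩
    have hlt : Z.subgroupOf S.C < C₁.subgroupOf S.C := lt_of_le_of_ne hle fun e => hnot fun u hu => by
      have h : (⟨u, hu.1⟩ : S.C) ∈ C₁.subgroupOf S.C := hu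
      rw [← e] at h
      exact h
    obtain ⟨M, hM, hZM, hMD, hMc⟩ := PGroupsBasic.exists_normal_succ (S.hT.to_subgroup S.C) hlt
    haveI := hM
    obtain ⟨u, huM, huZ⟩ := PGroupsCritical.exists_succ_not_le hZM hMc
    have hu1 : (u : T) ∈ C₁ := hMD huM
    have hu2 : u ^ 2 ∈ Z.subgroupOf S.C := by
      have hidx : ((Z.subgroupOf S.C).subgroupOf M).index = 2 := by
        have := ((Z.subgroupOf S.C).subgroupOf M).card_mul_index
        rw [Nat.card_congr (subgroupOfEquivOfLe hZM).toEquiv, hMc] at this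
        exact Nat.eq_of_mul_eq_mul_left Nat.card_pos this
      have := sq_mem_of_index_two hidx (⟨u, huM⟩ : M)
      simpa [mem_subgroupOf] using this
    have hρ2 : rho S.X ((u : T) ^ 2) = 1 := S.rho_X F (map_subtype_le _ hu2)
    have hne : rho S.X (u : T) ≠ 1 := fun h => huZ (hker _ hu1 h)
    obtain ⟨L, hL4, -, -, hLα, hlin, hinj⟩ := involution_data S F hE h16 u.2 (hC₁E _ hu1)
      (fun v => by
        rw [← MulAut.mul_apply, ← map_mul, ← pow_two, hρ2]; rfl) hne
      (commute_rho S F fun d hd => by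
        refine S.rho_X F (map_subtype_le (center S.X) ?_)
        exact PGroupsCritical.commutator_mem_of_succ (S.hT.to_subgroup S.C) hZM hMc huM ⟨d, hd⟩)
    obtain ⟨⟨l, hl⟩, hl1⟩ : ∃ l : L, l ≠ 1 := by
      haveI : Nontrivial L := Finite.one_lt_card_iff_nontrivial.1 (by omega)
      exact exists_ne 1
    refine hl1 (Subtype.ext (S.fixfree F ?_))
    have hq : q (vmap S.X S.φX l) = q l := by
      rw [q_vmap F, hfix _ (F.center_eq ▸ q_mem F l)]
    have h1 := hinj _ (mul_mem hl (hLα l hl)) (by
      rw [hlin l hl _ (hLα l hl), hq, ← pow_two, F.two _ (q_mem F l)])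
    exact (eq_inv_of_mul_eq_one_right h1).trans (inv_eq_of_mul_eq_one_right (sq_one F l))
  -- the action on the centre
  obtain ⟨e₀, he₀Z, he₀c, he₀o⟩ := exists_involution_center S.hT (N := Z) (fun h => by
    rw [h, Subgroup.card_bot] at hZc; omega)
  obtain ⟨e, heZ, hene⟩ : ∃ e ∈ Z, e ∉ ({1, e₀} : Set T) := by
    by_contra hno
    push Not at hno
    have h := Set.ncard_le_ncard (s := (Z : Set T)) (t := {1, e₀}) hno
    have h2 : ({1, e₀} : Set T).ncard ≤ 2 :=
      (Set.ncard_insert_le _ _).trans (by rw [Set.ncard_singleton])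
    rw [← Nat.card_coe_set_eq, show Nat.card ↥(Z : Set T) = Nat.card Z from rfl, hZc] at h
    omega
  simp only [Set.mem_insert_iff, Set.mem_singleton_iff, not_or] at hene
  have he₀1 : e₀ ≠ 1 := fun h => by rw [h, orderOf_one] at he₀o; omega
  have hz2 : ∀ a ∈ Z, a * a = 1 := fun a ha => by rw [← pow_two]; exact zx_two F a ha
  have hcases : ∀ u ∈ Z, u = 1 ∨ u = e₀ ∨ u = e ∨ u = e₀ * e := by
    intro u hu
    have a1 : e ≠ e₀ * e := fun h => he₀1 (right_eq_mul.1 h)
    have a2 : e₀ ≠ e₀ * e := fun h => hene.1 (left_eq_mul.1 h)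
    have a3 : e₀ * e ≠ 1 := fun h => hene.2 ((eq_inv_of_mul_eq_one_right h).trans
      (inv_eq_of_mul_eq_one_right (hz2 e₀ he₀Z)))
    have h4 : ({1, e₀, e, e₀ * e} : Set T).ncard = 4 := by
      rw [Set.ncard_insert_of_notMem (by simp [Ne.symm he₀1, Ne.symm hene.1, Ne.symm a3]),
        Set.ncard_insert_of_notMem (by simp [Ne.symm hene.2, a2]), Set.ncard_pair a1]
    have hsub : ({1, e₀, e, e₀ * e} : Set T) ⊆ (Z : Set T) := by
      intro x hx
      simp only [Set.mem_insert_iff, Set.mem_singleton_iff] at hx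
      rcases hx with rfl | rfl | rfl | rfl
      exacts [one_mem _, he₀Z, heZ, mul_mem he₀Z heZ]
    have h := Set.eq_of_subset_of_ncard_le hsub
      (by rw [h4, ← Nat.card_coe_set_eq, show Nat.card ↥(Z : Set T) = Nat.card Z from rfl, hZc])
    have hu' : u ∈ ({1, e₀, e, e₀ * e} : Set T) := h ▸ hu
    simpa using hu'
  have hmem : ∀ d ∈ S.C, (d ∈ C₁ ↔ d * e * d⁻¹ = e) := fun d hd => by
    refine ⟨fun h => by rw [← mem_centralizer_iff.1 h.2 e heZ, mul_inv_cancel_right], fun h => ?_⟩
    refine ⟨hd, mem_centralizer_iff.2 fun u hu => ?_⟩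
    have h0 : d * e₀ = e₀ * d := mem_center_iff.1 he₀c d
    have h1 : d * e = e * d := mul_inv_eq_iff_eq_mul.1 h
    rcases hcases u hu with rfl | rfl | rfl | rfl
    exacts [by simp, h0.symm, h1.symm, ((show Commute d e₀ from h0).mul_right h1).eq.symm]
  have hmove : ∀ d ∈ S.C, d ∉ C₁ → d * e * d⁻¹ = e₀ * e := fun d hd hd1 => by
    have hde : d * e₀ * d⁻¹ = e₀ := by rw [mem_center_iff.1 he₀c d, mul_inv_cancel_right]
    rcases hcases _ (hZn.conj_mem e heZ d) with h | h | h | h
    · exact absurd (conj_eq_one_iff.1 h) hene.1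
    · exact absurd (mul_left_cancel (mul_right_cancel (h.trans hde.symm))) hene.2
    · exact absurd ((hmem d hd).2 h) hd1
    · exact h
  have hC₁C : C₁ ≤ S.C := inf_le_left
  have hidx : (C₁.subgroupOf S.C).index ≤ 2 := by
    by_cases htop : C₁.subgroupOf S.C = ⊤
    · rw [htop, index_top]; omega
    obtain ⟨⟨c, hc⟩, hc1⟩ := SetLike.exists_not_mem_of_ne_top _ htop rfl
    refine le_of_eq (index_eq_two_iff.2 ⟨⟨c, hc⟩, fun b => ?_⟩)
    simp only [mem_subgroupOf, coe_mul]
    by_cases hb : (b : T) ∈ C₁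
    · exact Or.inr ⟨hb, fun h => hc1 ((mul_mem_cancel_left hb).1 h)⟩
    · refine Or.inl ⟨(hmem _ (mul_mem b.2 hc)).2 ?_, hb⟩
      calc (b : T) * c * e * ((b : T) * c)⁻¹ = (b : T) * (c * e * c⁻¹) * (b : T)⁻¹ := by group
        _ = ((b : T) * e₀ * (b : T)⁻¹) * ((b : T) * e * (b : T)⁻¹) := by rw [hmove c hc hc1]; group
        _ = e := by
          rw [hmove _ b.2 hb, mem_center_iff.1 he₀c (b : T), mul_inv_cancel_right, ← mul_assoc,
            hz2 e₀ he₀Z, one_mul]
  have hcount := (C₁.subgroupOf S.C).card_mul_index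
  rw [Nat.card_congr (subgroupOfEquivOfLe hC₁C).toEquiv, hC₁Z, hZc] at hcount
  rw [hC₁Z] at hidx
  have hpos : (Z.subgroupOf S.C).index ≠ 0 := index_ne_zero_of_finite
  have hX : Nat.card S.X = 64 := by
    rw [Subgroup.card_eq_card_quotient_mul_card_subgroup (center S.X), h16, card_center S F hE]
  have h := S.card_eq
  rw [hXC, hZc, hX, ← hcount] at h
  have : (Z.subgroupOf S.C).index = 1 ∨ (Z.subgroupOf S.C).index = 2 := by omega
  rcases this with q | q <;> rw [q] at h <;> omega

set_option maxHeartbeats 1600000 in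
/-- Fixed points of the automorphism are small when it moves the central centre. -/
theorem moved_card {B : Subgroup (MulAut S.X)} {E : Subgroup S.X} (F : Fixed B E)
    (hE : Nat.card E = 4) (hfpf : ∀ e ∈ center S.X, S.φX e = e → e = 1)
    (hEc : ∀ t : T, ∀ e ∈ center S.X, MulAut.conjNormal t e = e)
    (h3 : ∃ k : ℕ, S.φ ^ 3 ^ k = 1) : Nat.card T = 64 ∨ Nat.card T = 128 := by
  classical
  haveI : Fact (Nat.Prime 2) := ⟨Nat.prime_two⟩
  haveI : Fact (Nat.Prime 3) := ⟨Nat.prime_three⟩
  set α := vmap S.X S.φX with hαdef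
  have hα : ∀ v, α v = v → v = 1 := fun v hv => S.fixfree F hv
  have hcomm := comm_V F
  have h2 := sq_one F
  -- the quotient has order sixteen
  have h16 : Nat.card (↥S.X ⧸ center ↥S.X) = 16 := by
    obtain ⟨k, hk⟩ := IsPGroup.iff_card.mp ((S.hT.to_subgroup S.X).to_quotient (center S.X))
    have hle := card_le S F hE
    have hmod : Nat.card (↥S.X ⧸ center ↥S.X) % 3 = 1 := by
      obtain ⟨j, hj⟩ := h3
      have hα3 : α ^ 3 ^ j = 1 := by
        rw [hαdef, ← map_pow, show S.φX ^ 3 ^ j = 1 from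
          MulEquiv.ext fun x => Subtype.ext (by rw [S.φX_pow, hj]; rfl), map_one]
      have hp : IsPGroup 3 (zpowers α) := by
        rintro ⟨_, i, rfl⟩
        refine ⟨j, Subtype.ext ?_⟩
        show (α ^ i) ^ 3 ^ j = 1
        rw [← zpow_natCast, ← zpow_mul, mul_comm, zpow_mul, zpow_natCast, hα3, one_zpow]
      have h1 := hp.card_modEq_card_fixedPoints (↥S.X ⧸ center ↥S.X)
      have hfp : MulAction.fixedPoints (zpowers α) (↥S.X ⧸ center ↥S.X) = {1} := by
        ext v
        simp only [Set.mem_singleton_iff, MulAction.mem_fixedPoints]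
        refine ⟨fun h => hα v (h ⟨α, mem_zpowers α⟩), fun h g => ?_⟩
        subst h
        exact map_one (g : MulAut (↥S.X ⧸ center ↥S.X))
      rw [hfp, Nat.card_coe_set_eq, Set.ncard_singleton] at h1
      exact h1
    have h4 : Nat.card (↥S.X ⧸ center ↥S.X) ≠ 4 := fun h4 => by
      obtain ⟨v, hv⟩ : ∃ v : ↥S.X ⧸ center ↥S.X, v ≠ 1 := by
        haveI : Nontrivial (↥S.X ⧸ center ↥S.X) := Finite.one_lt_card_iff_nontrivial.1 (by omega)
        exact exists_ne 1
      obtain ⟨hcyc, hall⟩ := four_cycle α hα (H := ⊤) (by rw [Subgroup.card_top, h4])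
        (fun _ _ => mem_top _) (fun a _ b _ => hcomm a b) (fun a _ => h2 a) (mem_top v) hv
      have he : cB v (α v) = 1 := by
        refine hfpf _ (F.center_eq.symm ▸ cB_mem F _ _) ?_
        rw [← cB_vmap F, ← hαdef, hcyc, cB_mul_right F, cB_self F, mul_one, cB_symm F]
      refine E_ne_bot F (cB_bot F fun a b => ?_)
      rcases hall a (mem_top a) with qa | qa | qa | qa <;> rw [qa] <;>
        rcases hall b (mem_top b) with qb | qb | qb | qb <;> rw [qb] <;>
        simp [cB_mul_left F, cB_mul_right F, cB_self F, cB_one S F, cB_one_left S F, he,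
          cB_symm F v (α v)]
    have h1 : Nat.card (↥S.X ⧸ center ↥S.X) ≠ 1 := fun h1 => by
      haveI : Subsingleton (↥S.X ⧸ center ↥S.X) := (Nat.card_eq_one_iff_unique.1 h1).1
      exact E_ne_bot F (cB_bot F fun a b => by rw [Subsingleton.elim a b]; exact cB_self F b)
    have hk4 : k ≤ 4 := by
      by_contra hk4
      have : 2 ^ 5 ≤ 2 ^ k := Nat.pow_le_pow_right (by norm_num) (by omega)
      omega
    rw [hk] at hmod h4 h1 hle ⊢
    interval_cases k <;> simp_all
  set Z := (center S.X).map S.X.subtype with hZ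
  haveI hZn : Z.Normal := by rw [hZ]; infer_instance
  have hXC : S.X ⊓ S.C = ⊥ := by
    rw [eq_bot_iff]
    rintro x ⟨hx, hxc⟩
    have h := fixed_mem_center S F (x := ⟨x, hx⟩) (Subtype.ext hxc)
    exact mem_bot.2 (congrArg Subtype.val (hfpf _ h (Subtype.ext hxc)))
  have hZC : ∀ c ∈ S.C, c ∈ Z → c = 1 := fun c hc hcZ => by
    have : c ∈ S.X ⊓ S.C := ⟨map_subtype_le _ hcZ, hc⟩
    rwa [hXC, mem_bot] at this
  -- the fixed points act faithfully
  have hfaith : ∀ d ∈ S.C, rho S.X d = 1 → d = 1 := by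
    by_contra hno
    push Not at hno
    obtain ⟨d, hd, hρ, hd1⟩ := hno
    set N := (rho S.X).ker.subgroupOf S.C
    haveI : N.Normal := (MonoidHom.normal_ker _).subgroupOf _
    obtain ⟨⟨c, hc⟩, hcN, hcc, hco⟩ := exists_involution_center (S.hT.to_subgroup S.C) (N := N)
      (fun h => hd1 (by
        have h1 : (⟨d, hd⟩ : S.C) ∈ N := hρ
        rw [h, mem_bot] at h1
        exact congrArg Subtype.val h1))
    rw [Subgroup.orderOf_mk] at hco
    have hc1 : c ≠ 1 := fun h => by rw [h, orderOf_one] at hco; omega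
    refine hc1 (hZC c hc (not_grow S F hE (by rw [← hco, pow_orderOf_eq_one]) (fun a ha => ?_)
      fun t => ?_))
    · obtain ⟨e, he, rfl⟩ := ha
      exact (mul_inv_eq_iff_eq_mul.1 (congrArg Subtype.val (hEc c e he))).symm
    · obtain ⟨x, hx, u, hu, rfl⟩ := S.exists_decomp t
      have hcu : u * c = c * u := congrArg Subtype.val (mem_center_iff.1 hcc ⟨u, hu⟩)
      rw [show ⁅x * u, c⁆ = x * (u * c * u⁻¹) * x⁻¹ * c⁻¹ by rw [commutatorElement_def]; group,
        hcu, mul_inv_cancel_right]
      have h1 := DFunLike.congr_fun (show rho S.X c = 1 from hcN) (QuotientGroup.mk ⟨x, hx⟩)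
      have h2 : (⟨x, hx⟩ : S.X)⁻¹ * MulAut.conjNormal c ⟨x, hx⟩ ∈ center S.X :=
        QuotientGroup.eq.1 h1.symm
      have h3 := hZn.conj_mem _ (inv_mem (mem_zx.2 h2)) x
      simp only [coe_mul, coe_inv, MulAut.conjNormal_apply] at h3
      convert h3 using 1
      group
  -- at most one fixed involution
  have hC2 : Nat.card S.C ≤ 2 := by
    by_contra hlt
    obtain ⟨⟨c, hc⟩, -, hcc, hco⟩ := exists_involution_center (S.hT.to_subgroup S.C) (N := ⊤)
      (fun h => by
        have := congrArg (fun H : Subgroup S.C => Nat.card H) h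
        simp only [Subgroup.card_top, Subgroup.card_bot] at this
        omega)
    rw [Subgroup.orderOf_mk] at hco
    have hc1 : c ≠ 1 := fun h => by rw [h, orderOf_one] at hco; omega
    have hcq : c * c = 1 := by rw [← pow_two, ← hco, pow_orderOf_eq_one]
    obtain ⟨d, hd, hdne⟩ : ∃ d ∈ S.C, d ∉ ({1, c} : Set T) := by
      by_contra hno
      push Not at hno
      have h := Set.ncard_le_ncard (s := (S.C : Set T)) (t := {1, c}) hno
      have h2 : ({1, c} : Set T).ncard ≤ 2 :=
        (Set.ncard_insert_le _ _).trans (by rw [Set.ncard_singleton])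
      rw [← Nat.card_coe_set_eq, show Nat.card ↥(S.C : Set T) = Nat.card S.C from rfl] at h
      omega
    simp only [Set.mem_insert_iff, Set.mem_singleton_iff, not_or] at hdne
    obtain ⟨L, hL4, hLiff, hLδ, hLα, hlin, hinj⟩ := involution_data S F hE h16 hc (hEc c)
      (fun v => by rw [← MulAut.mul_apply, ← map_mul, hcq, map_one]; rfl)
      (fun h => hc1 (hfaith c hc h))
      (commute_rho S F fun u hu => by
        have hcu : u * c = c * u := congrArg Subtype.val (mem_center_iff.1 hcc ⟨u, hu⟩)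
        rw [commutatorElement_eq_one_iff_mul_comm.2 hcu, map_one])
    set γ := rho S.X c with hγ
    set γ' := rho S.X d with hγ'
    -- all of the group fixes `L`
    have hLfix : ∀ t : T, ∀ l ∈ L, rho S.X t l = l := by
      intro t l hl
      obtain ⟨x, hx, u, hu, rfl⟩ := S.exists_decomp t
      rw [map_mul, S.rho_X F hx, one_mul]
      have hul : rho S.X u l ∈ L := by
        rw [hLiff] at hl ⊢
        have hcu : u * c = c * u := congrArg Subtype.val (mem_center_iff.1 hcc ⟨u, hu⟩)
        rw [hγ, ← MulAut.mul_apply, ← map_mul, ← hcu, map_mul, MulAut.mul_apply, ← hγ, hl]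
      have hq : q (rho S.X u l) = q l :=
        (q_vmap F (MulAut.conjNormal u) l).trans (hEc u _ (F.center_eq.symm ▸ q_mem F l))
      have h1 := hinj _ (mul_mem hul hl) (by
        rw [hlin _ hul _ hl, hq, ← pow_two, F.two _ (q_mem F l)])
      exact (eq_inv_of_mul_eq_one_left h1).trans (inv_eq_of_mul_eq_one_right (h2 l))
    have hαγ' : ∀ v, α (γ' v) = γ' (α v) := fun v => S.vmap_rho hd v
    have hαγ : ∀ v, α (γ v) = γ (α v) := fun v => S.vmap_rho hc v
    have hγγ' : ∀ v, γ (γ' v) = γ' (γ v) := fun v => by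
      have hcu : d * c = c * d := congrArg Subtype.val (mem_center_iff.1 hcc ⟨d, hd⟩)
      rw [hγ, hγ', ← MulAut.mul_apply, ← MulAut.mul_apply, ← map_mul, ← map_mul, hcu]
    -- the displacement of the second element lies in `L`
    have hδ' : ∀ v, v * γ' v ∈ L := by
      intro v
      rw [hLiff, map_mul, hγγ']
      have h1 : γ' (v * γ v) = v * γ v := hLfix d _ (hLδ v)
      rw [map_mul] at h1
      calc γ v * γ' (γ v) = γ v * ((γ' v)⁻¹ * (v * γ v)) := by rw [← h1, inv_mul_cancel_left]
        _ = (γ v * γ v) * ((γ' v)⁻¹ * v) := by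
          rw [show (γ' v)⁻¹ * (v * γ v) = γ v * ((γ' v)⁻¹ * v) by
            rw [← mul_assoc, hcomm]]
          group
        _ = v * γ' v := by
          rw [h2, one_mul, inv_eq_of_mul_eq_one_right (h2 _), hcomm]
    have hqid : ∀ (g : T) (v : ↥S.X ⧸ center ↥S.X),
        q (v * rho S.X g v) * cB v (v * rho S.X g v) = 1 := by
      intro g v
      have h := (q_vmap F (MulAut.conjNormal g) v).trans (hEc g _ (F.center_eq.symm ▸ q_mem F v))
      change q (rho S.X g v) = q v at h
      rw [show rho S.X g v = v * (v * rho S.X g v) by rw [← mul_assoc, h2, one_mul], q_mul F,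
        mul_assoc] at h
      exact mul_eq_left.1 h
    have hne' : γ' ≠ 1 := fun h => hdne.1 (hfaith d hd h)
    -- displacements are nonzero and distinct off `L`
    have hsep : ∀ (g : T), g ∈ S.C → g ≠ 1 → (∀ v, v * rho S.X g v ∈ L) →
        ∀ v, v ∉ L → v * rho S.X g v ≠ 1 := by
      intro g hg hg1 hgL v hv hv1
      set η := rho S.X g
      let δ : (↥S.X ⧸ center ↥S.X) →* (↥S.X ⧸ center ↥S.X) :=
        MonoidHom.mk' (fun w => w * η w) fun a b => by
          rw [map_mul, show a * b * (η a * η b) = a * (b * η a) * η b by group, hcomm b (η a)]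
          group
      have hLk : L ≤ δ.ker := fun l hl => by
        show l * η l = 1
        rw [hLfix g l hl, h2]
      have hlt : L < δ.ker := lt_of_le_of_ne hLk fun e => hv (e.symm ▸ hv1)
      have hrα : ∀ l ∈ δ.range, α l ∈ δ.range := by
        rintro _ ⟨w, rfl⟩
        refine ⟨α w, ?_⟩
        show α w * η (α w) = α (w * η w)
        rw [map_mul, S.vmap_rho hg]
      have hcard : Nat.card δ.ker * Nat.card δ.range = 16 := by
        rw [← index_ker, Subgroup.card_mul_index, h16]
      have h4 : 4 < Nat.card δ.ker := by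
        rw [← hL4]
        refine lt_of_le_of_ne (Subgroup.card_le_of_le hLk) fun e => hlt.ne ?_
        exact Subgroup.eq_of_le_of_card_ge hLk e.ge
      have h1 : Nat.card δ.range ≠ 1 := fun e => hg1 (hfaith g hg (MulEquiv.ext fun w => by
        have hm : δ w ∈ δ.range := ⟨w, rfl⟩
        rw [Subgroup.card_eq_one] at e
        rw [e, mem_bot] at hm
        exact (eq_inv_of_mul_eq_one_right hm).trans (inv_eq_of_mul_eq_one_right (h2 w))))
      have h22 := card_ne_two α hα δ.range hrα
      have hpos : 0 < Nat.card δ.range := Nat.card_pos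
      generalize Nat.card δ.range = r at *
      generalize Nat.card δ.ker = s at *
      have : r ≤ 3 := by nlinarith
      interval_cases r <;> omega
    have hkey : ∀ v, v ∉ L → ∀ l ∈ L, cB v l = q l := by
      intro v hv l hl
      have ha := hLδ v
      have hb := hδ' v
      set a := v * γ v
      set b := v * γ' v
      have ha1 : a ≠ 1 := hsep c hc hc1 hLδ v hv
      have hb1 : b ≠ 1 := hsep d hd hdne.1 hδ' v hv
      have hab : a ≠ b := by
        intro h
        have h' : γ v = γ' v := mul_left_cancel h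
        refine hsep (c * d) (mul_mem hc hd) (fun h1 => hdne.2 ?_) ?_ v hv ?_
        · rw [eq_inv_of_mul_eq_one_right h1, inv_eq_of_mul_eq_one_right hcq]
        · intro w
          rw [map_mul, MulAut.mul_apply, ← hγ, ← hγ']
          have e : w * γ (γ' w) = (w * γ' w) * (γ' w * γ (γ' w)) := by
            rw [show (w * γ' w) * (γ' w * γ (γ' w)) = w * (γ' w * γ' w) * γ (γ' w) by group, h2,
              mul_one]
          rw [e]
          exact mul_mem (hδ' w) (hLδ _)
        · rw [map_mul, MulAut.mul_apply, ← hγ, ← hγ', ← h', hγ, ← MulAut.mul_apply, ← map_mul,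
            hcq, map_one]
          exact h2 v
      have hva : cB v a = q a := by
        have h := hqid c v
        rw [eq_inv_of_mul_eq_one_right h]
        exact inv_eq_of_mul_eq_one_right (by
          rw [← pow_two]; exact F.two _ (q_mem F _))
      have hvb : cB v b = q b := by
        have h := hqid d v
        rw [eq_inv_of_mul_eq_one_right h]
        exact inv_eq_of_mul_eq_one_right (by
          rw [← pow_two]; exact F.two _ (q_mem F _))
      have hset : ({1, a, b, a * b} : Set (↥S.X ⧸ center ↥S.X)).ncard = 4 := by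
        have a1 : b ≠ a * b := fun h => ha1 (right_eq_mul.1 h)
        have a2 : a ≠ a * b := fun h => hb1 (left_eq_mul.1 h)
        have a3 : a * b ≠ 1 := fun h => hab ((eq_inv_of_mul_eq_one_right h).trans
          (inv_eq_of_mul_eq_one_right (h2 a))).symm
        rw [Set.ncard_insert_of_notMem (by simp [Ne.symm ha1, Ne.symm hb1, Ne.symm a3]),
          Set.ncard_insert_of_notMem (by simp [hab, a2]), Set.ncard_pair a1]
      have hsub : ({1, a, b, a * b} : Set (↥S.X ⧸ center ↥S.X)) ⊆ (L : Set _) := by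
        intro x hx
        simp only [Set.mem_insert_iff, Set.mem_singleton_iff] at hx
        rcases hx with rfl | rfl | rfl | rfl
        exacts [one_mem _, ha, hb, mul_mem ha hb]
      have heq := Set.eq_of_subset_of_ncard_le hsub (by
        rw [hset, ← Nat.card_coe_set_eq, show Nat.card ↥(L : Set (↥S.X ⧸ center ↥S.X)) = Nat.card L from rfl, hL4])
      have hl' : l ∈ ({1, a, b, a * b} : Set (↥S.X ⧸ center ↥S.X)) := heq ▸ hl
      simp only [Set.mem_insert_iff, Set.mem_singleton_iff] at hl'
      rcases hl' with rfl | rfl | rfl | rfl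
      · rw [cB_one S F, q_one F]
      · exact hva
      · exact hvb
      · rw [cB_mul_right F, hlin a ha b hb, hva, hvb]
    obtain ⟨v, hv⟩ : ∃ v, v ∉ L := by
      by_contra hno
      push Not at hno
      have : L = ⊤ := eq_top_iff.2 fun x _ => hno x
      rw [this, Subgroup.card_top, h16] at hL4
      omega
    obtain ⟨w, hw, hvw⟩ : ∃ w, w ∉ L ∧ v * w ∉ L := by
      by_contra hno
      push Not at hno
      have hsub : (Set.univ : Set (↥S.X ⧸ center ↥S.X)) ⊆ (L : Set _) ∪ (v * ·) '' (L : Set _) := by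
        intro w _
        by_cases h : w ∈ L
        · exact Or.inl h
        · exact Or.inr ⟨v * w, hno w h, by
            show v * (v * w) = w
            rw [← mul_assoc, h2, one_mul]⟩
      have h := Set.ncard_le_ncard hsub
      have h' := (Set.ncard_union_le (L : Set (↥S.X ⧸ center ↥S.X))
        ((v * ·) '' (L : Set (↥S.X ⧸ center ↥S.X))))
      have h'' := Set.ncard_image_le (f := (v * ·)) (s := (L : Set (↥S.X ⧸ center ↥S.X)))
      have hL' : (L : Set (↥S.X ⧸ center ↥S.X)).ncard = 4 := by
        rw [← Nat.card_coe_set_eq]; exact hL4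
      rw [Set.ncard_univ, h16] at h
      omega
    obtain ⟨⟨l, hl⟩, hl1⟩ : ∃ l : L, l ≠ 1 := by
      haveI : Nontrivial L := Finite.one_lt_card_iff_nontrivial.1 (by omega)
      exact exists_ne 1
    have h := hkey _ hvw l hl
    rw [cB_mul_left F, hkey v hv l hl, hkey w hw l hl, mul_eq_left] at h
    exact hl1 (Subtype.ext (hinj l hl h))
  have hX : Nat.card S.X = 64 := by
    rw [Subgroup.card_eq_card_quotient_mul_card_subgroup (center S.X), h16, card_center S F hE]
  have h := S.card_eq
  rw [hXC, Subgroup.card_bot, hX] at h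
  have hpos : 0 < Nat.card S.C := Nat.card_pos
  omega

end Cfsg.Agent.SmallAb92Bound
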