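import Cfsg.Agent.Lib.NoE8Central20

/-!
2-groups without characteristic elementary abelian subgroups of order 8 under odd automorphisms with
`[X, A] = X`: the critical subgroup and the fixed case.
-/

open Subgroup
open scoped commutatorElement

set_option autoImplicit false
set_option linter.unusedSectionVars false

namespace Cfsg.Agent.SmallAb92Crit

open Cfsg.Agent.NoE8Central20 (Crit Fixed char_inv centralizer_inv centralizer_comm q cB out_eq q_mk cB_mk q_mem cB_mem cB_mul_left cB_mul_right cB_self cB_symm q_mul q_one sq_one comm_V cB_bot E_ne_bot com_mem)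

/-! ### Common facts -/

variable {X : Type*} [Group X] [Finite X]

/-- The hypotheses. -/
structure Hyp (A : Subgroup (MulAut X)) : Prop where
  hX : IsPGroup 2 X
  small : ∀ N : Subgroup X, N.Characteristic → (∀ a ∈ N, ∀ b ∈ N, a * b = b * a) → (∀ a ∈ N, a ^ 2 = 1) →
    Nat.card N ≤ 4
  odd : Odd (Nat.card A)
  gen : closure {g : X | ∃ φ ∈ A, ∃ x : X, g = x⁻¹ * φ x} = ⊤

variable {A : Subgroup (MulAut X)} (h : Hyp A)
include h

theorem pow_card {φ : MulAut X} (hφ : φ ∈ A) : φ ^ Nat.card A = 1 := by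
  have e := pow_card_eq_one' (G := A) (x := ⟨φ, hφ⟩)
  rw [← SubgroupClass.coe_pow (⟨φ, hφ⟩ : A), e]
  rfl

/-- An odd automorphism moving `e` by a fixed involution fixes it. -/
theorem eq_one_of_shift {φ : MulAut X} (hφ : φ ∈ A) {e w : X} (he : φ e = e * w) (hw : φ w = w)
    (hw2 : w ^ 2 = 1) : w = 1 := by
  have hit : ∀ k : ℕ, (φ ^ k) e = e * w ^ k := by
    intro k
    induction k with
    | zero => simp
    | succ k ih =>
      rw [pow_succ', MulAut.mul_apply, ih, map_mul, map_pow, he, hw, mul_assoc, ← pow_succ']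
  have h1 := hit (Nat.card A)
  rw [pow_card h hφ, MulAut.one_apply, left_eq_mul] at h1
  obtain ⟨k, hk⟩ := h.odd
  rw [hk, pow_succ, pow_mul, hw2, one_pow, one_mul] at h1
  exact h1

/-- A normal subgroup fixed pointwise is central. -/
theorem fixed_central {N : Subgroup X} [N.Normal] (hfix : ∀ φ ∈ A, ∀ n ∈ N, φ n = n) :
    N ≤ center X := by
  intro n hn
  suffices hh : closure {g : X | ∃ φ ∈ A, ∃ x : X, g = x⁻¹ * φ x} ≤ centralizer (N : Set X) by
    rw [h.gen] at hh
    exact mem_center_iff.2 fun g => (mem_centralizer_iff.1 (hh (mem_top g)) n hn).symm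
  rw [closure_le]
  rintro _ ⟨φ, hφ, x, rfl⟩
  rw [SetLike.mem_coe, mem_centralizer_iff]
  intro m hm
  have hmem : x * m * x⁻¹ ∈ N := ‹N.Normal›.conj_mem m hm x
  have e := hfix φ hφ _ hmem
  rw [map_mul, map_mul, map_inv, hfix φ hφ m hm, mul_inv_eq_iff_eq_mul] at e
  calc m * (x⁻¹ * φ x) = x⁻¹ * (x * m * x⁻¹ * φ x) := by group
    _ = x⁻¹ * (φ x * m) := by rw [e]
    _ = x⁻¹ * φ x * m := by group

/-- An element fixed modulo `N` lies in `N`, if `X/N` is abelian. -/
theorem mem_of_fixed {N : Subgroup X} [N.Normal] (hN : commutator X ≤ N) {z : X}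
    (hz : ∀ φ ∈ A, z⁻¹ * φ z ∈ N) : z ∈ N := by
  classical
  letI : CommGroup (X ⧸ N) :=
    { (inferInstance : Group (X ⧸ N)) with
      mul_comm := fun a b => by
        obtain ⟨x, rfl⟩ := QuotientGroup.mk_surjective a
        obtain ⟨y, rfl⟩ := QuotientGroup.mk_surjective b
        rw [← QuotientGroup.mk_mul, ← QuotientGroup.mk_mul, QuotientGroup.eq]
        refine hN ?_
        have e : (x * y)⁻¹ * (y * x) = ⁅y⁻¹, x⁻¹⁆ := by simp [commutatorElement_def, mul_assoc]
        rw [e]
        exact commutator_mem_commutator (mem_top _) (mem_top _) }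
  haveI : Fintype A := Fintype.ofFinite _
  let T : X →* X ⧸ N := MonoidHom.mk' (fun x => ∏ φ : A, QuotientGroup.mk ((φ : MulAut X) x))
    fun x y => by simp only [map_mul, QuotientGroup.mk_mul, Finset.prod_mul_distrib]
  have hT : ∀ g, T g = 1 := by
    intro g
    have hle : closure {g : X | ∃ φ ∈ A, ∃ x : X, g = x⁻¹ * φ x} ≤ T.ker := by
      rw [closure_le]
      rintro _ ⟨ψ, hψ, x, rfl⟩
      show T (x⁻¹ * ψ x) = 1
      rw [map_mul, map_inv, inv_mul_eq_one]
      exact (Equiv.prod_comp (Equiv.mulRight (⟨ψ, hψ⟩ : A))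
        fun φ => (QuotientGroup.mk ((φ : MulAut X) x) : X ⧸ N)).symm
    rw [h.gen] at hle
    exact hle (mem_top g)
  have h1 := hT z
  have h2 : T z = (QuotientGroup.mk z : X ⧸ N) ^ Nat.card A := by
    show ∏ φ : A, _ = _
    rw [Finset.prod_congr rfl (fun (φ : A) _ => (QuotientGroup.eq.2 (hz φ φ.2)).symm), Finset.prod_const,
      Nat.card_eq_fintype_card]
    rfl
  obtain ⟨k, hk⟩ := h.hX z
  have hq : orderOf (QuotientGroup.mk z : X ⧸ N) = 1 := by
    refine Nat.eq_one_of_dvd_coprimes (Nat.Coprime.pow_left k (Nat.coprime_two_left.2 h.odd))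
      (orderOf_dvd_of_pow_eq_one ?_) (orderOf_dvd_of_pow_eq_one (h2 ▸ h1))
    rw [← QuotientGroup.mk_pow, hk]; rfl
  rw [orderOf_eq_one_iff, QuotientGroup.eq_one_iff] at hq
  exact hq

/-- Odd automorphisms fixing the involutions of an invariant abelian subgroup fix it. -/
theorem fix_of_fix_involutions {N : Subgroup X} (hc : ∀ a ∈ N, ∀ b ∈ N, a * b = b * a)
    {φ : MulAut X} (hφ : φ ∈ A) (hinv : ∀ a ∈ N, φ a ∈ N)
    (hfix : ∀ a ∈ N, a ^ 2 = 1 → φ a = a) : ∀ a ∈ N, φ a = a := by
  have key : ∀ j : ℕ, ∀ a ∈ N, a ^ 2 ^ j = 1 → φ a = a := by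
    intro j
    induction j with
    | zero => intro a _ ha; rw [pow_zero, pow_one] at ha; rw [ha, map_one]
    | succ j ih =>
      intro a haN ha
      have hsq := ih (a ^ 2) (pow_mem haN 2) (by rw [← pow_mul, ← pow_succ']; exact ha)
      set w := a⁻¹ * φ a with hw
      have hwN : w ∈ N := mul_mem (inv_mem haN) (hinv a haN)
      have hw2 : w ^ 2 = 1 := by
        rw [hw, (show Commute a⁻¹ (φ a) from hc _ (inv_mem haN) _ (hinv a haN)).mul_pow, inv_pow,
          ← map_pow, hsq, inv_mul_cancel]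
      have e : φ a = a * w := by rw [hw, mul_inv_cancel_left]
      rw [e, eq_one_of_shift h hφ e (hfix w hwN hw2) hw2, mul_one]
  intro a ha
  obtain ⟨j, hj⟩ := h.hX a
  exact key j a ha hj

/-- An invariant normal elementary abelian subgroup is central. -/
theorem elementary_central {E : Subgroup X} [E.Characteristic] (hc : ∀ a ∈ E, ∀ b ∈ E, a * b = b * a)
    (h2 : ∀ a ∈ E, a ^ 2 = 1) (hinv : ∀ φ ∈ A, ∀ a ∈ E, φ a ∈ E) : E ≤ center X := by
  haveI : Fact (Nat.Prime 2) := ⟨Nat.prime_two⟩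
  by_contra hnot
  have h4 := h.small E inferInstance hc h2
  set Z := E ⊓ center X with hZ
  have hEne : E ≠ ⊥ := fun e => hnot (by rw [e]; exact bot_le)
  have hZne : Z ≠ ⊥ := PGroupsBasic.inf_center_ne_bot h.hX hEne
  have hlt : Z < E := lt_of_le_of_ne inf_le_left fun e => hnot (e.ge.trans inf_le_right)
  obtain ⟨k, hk⟩ := IsPGroup.iff_card.mp (h.hX.to_subgroup Z)
  have hk1 : 2 ≤ Nat.card Z := (Subgroup.one_lt_card_iff_ne_bot Z).2 hZne
  have hdvd : Nat.card Z ∣ Nat.card E := Subgroup.card_dvd_of_le hlt.le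
  have hne : Nat.card Z ≠ Nat.card E := fun e =>
    hlt.ne (Subgroup.eq_of_le_of_card_ge hlt.le e.ge)
  have hle := Nat.le_of_dvd Nat.card_pos hdvd
  obtain ⟨m, hm⟩ := hdvd
  have hZ2 : Nat.card Z = 2 ∧ m = 2 := by
    rcases k with _ | _ | k
    · rw [pow_zero] at hk; omega
    · rw [pow_one] at hk; rw [hk] at hm hle hne ⊢; exact ⟨rfl, by omega⟩
    · rw [hk] at hle hne
      have : 4 ≤ 2 ^ (k + 1 + 1) := by
        rw [pow_succ, pow_succ]
        have := Nat.one_le_two_pow (n := k)
        omega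
      omega
  obtain ⟨hZ2, rfl⟩ := hZ2
  have hidx : (Z.subgroupOf E).index = 2 := by
    have := (Z.subgroupOf E).card_mul_index
    rw [Nat.card_congr (subgroupOfEquivOfLe hlt.le).toEquiv, hm] at this
    exact Nat.eq_of_mul_eq_mul_left Nat.card_pos this
  refine hnot (fixed_central h fun φ hφ a ha => ?_)
  have hzfix : ∀ w ∈ Z, φ w = w := by
    intro w hw
    have hwm : φ w ∈ Z := ⟨hinv φ hφ w hw.1,
      (Subgroup.characteristic_iff_map_le.1 (inferInstance : (center X).Characteristic) φ)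
        ⟨w, hw.2, rfl⟩⟩
    obtain ⟨u, v, -, huv⟩ := Nat.card_eq_two_iff.mp hZ2
    have mem : ∀ t : Z, t = u ∨ t = v := fun t => by
      have : t ∈ ({u, v} : Set _) := huv ▸ Set.mem_univ t
      simpa using this
    by_cases hw1 : w = 1
    · rw [hw1, map_one]
    have h1 : (⟨w, hw⟩ : Z) ≠ 1 := fun e => hw1 (congrArg Subtype.val e)
    have h3 : (⟨φ w, hwm⟩ : Z) ≠ 1 := fun e =>
      hw1 (φ.injective ((congrArg Subtype.val e).trans (map_one φ).symm))
    have : (⟨φ w, hwm⟩ : Z) = ⟨w, hw⟩ := by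
      rcases mem 1 with q | q <;> rcases mem ⟨w, hw⟩ with q' | q' <;>
        rcases mem ⟨φ w, hwm⟩ with q'' | q'' <;> grind
    exact congrArg Subtype.val this
  by_cases haZ : a ∈ Z
  · exact hzfix a haZ
  have hφa : φ a ∉ Z := fun e => haZ (by
    have e2 := hzfix _ e
    rwa [φ.injective e2] at e)
  have hw : a⁻¹ * φ a ∈ Z := by
    have := (mul_mem_iff_of_index_two hidx (a := (⟨a⁻¹, inv_mem ha⟩ : E))
      (b := ⟨φ a, hinv φ hφ a ha⟩)).2
      (iff_of_false (fun e => haZ (inv_mem_iff.1 (mem_subgroupOf.1 e)))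
        (fun e => hφa (mem_subgroupOf.1 e)))
    exact mem_subgroupOf.1 this
  have e : φ a = a * (a⁻¹ * φ a) := (mul_inv_cancel_left _ _).symm
  rw [e, eq_one_of_shift h hφ e (hzfix _ hw) (h2 _ hw.1), mul_one]



omit h

theorem exists_crit (h : Hyp A) (hna : ¬ IsMulCommutative X) : Nonempty (Crit A) := by
  haveI : Fact (Nat.Prime 2) := ⟨Nat.prime_two⟩
  obtain ⟨H, hHc, hΦ, hcom, hcle⟩ := PGroupsCritical.exists_critical (p := 2) h.hX
  haveI := hHc
  have hcomm : ∀ a ∈ centralizer (H : Set X), ∀ b ∈ centralizer (H : Set X), a * b = b * a :=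
    fun a ha b hb => (mem_centralizer_iff.1 ha b (hcle hb)).symm
  let E : Subgroup X :=
    { carrier := {a | a ∈ centralizer (H : Set X) ∧ a ^ 2 = 1}
      one_mem' := ⟨one_mem _, one_pow 2⟩
      mul_mem' := fun {a b} ha hb => ⟨mul_mem ha.1 hb.1, by
        rw [(show Commute a b from hcomm a ha.1 b hb.1).mul_pow, ha.2, hb.2, one_mul]⟩
      inv_mem' := fun {a} ha => ⟨inv_mem ha.1, by rw [inv_pow, ha.2, inv_one]⟩ }
  have hCn : (centralizer (H : Set X)).Normal := inferInstance
  haveI : E.Characteristic := characteristic_iff_map_le.2 fun φ => by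
    rintro _ ⟨a, ha, rfl⟩
    exact ⟨centralizer_inv hHc φ ha.1, by
      show (φ a) ^ 2 = 1
      rw [← map_pow, ha.2, map_one]⟩
  have hinv : ∀ φ ∈ A, ∀ a ∈ E, φ a ∈ E := fun φ _ a ha =>
    ⟨centralizer_inv hHc φ ha.1, by rw [← map_pow, ha.2, map_one]⟩
  have hEc : ∀ a ∈ E, ∀ b ∈ E, a * b = b * a := fun a ha b hb => hcomm a ha.1 b hb.1
  refine ⟨⟨H, E, hHc, hcle, fun a ha => hΦ ⟨⟨a, ha⟩ ^ 2,
    PGroupsBasic.pow_mem_frattini (h.hX.to_subgroup H) _, rfl⟩, fun x a ha => ?_, fun a => Iff.rfl,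
    elementary_central h hEc (fun a ha => ha.2) hinv, hinv, ?_⟩⟩
  · have := hcom (commutator_mem_commutator ha (mem_top x))
    rw [← commutatorElement_inv]
    exact inv_mem this.2
  · have h4 := h.small E inferInstance hEc fun a ha => ha.2
    obtain ⟨k, hk⟩ := IsPGroup.iff_card.mp (h.hX.to_subgroup E)
    rcases k with _ | _ | _ | k
    · exfalso
      rw [pow_zero, Subgroup.card_eq_one] at hk
      have hCb : centralizer (H : Set X) = ⊥ := by
        by_contra hne
        obtain ⟨a, haC, hao⟩ := PGroupsBasic.exists_orderOf_eq_of_ne_bot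
          (h.hX.to_subgroup (centralizer (H : Set X))) hne
        have : a ∈ E := ⟨haC, by rw [← hao]; exact pow_orderOf_eq_one a⟩
        rw [hk, mem_bot] at this
        rw [this, orderOf_one] at hao
        omega
      by_cases hH : H = ⊥
      · refine hna ⟨⟨fun x y => ?_⟩⟩
        have : x ∈ centralizer (H : Set X) := by rw [hH]; simp [mem_centralizer_iff]
        rw [hCb, mem_bot] at this
        simp [this]
      · refine PGroupsBasic.inf_center_ne_bot h.hX hH (eq_bot_iff.2 fun a ha => ?_)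
        rw [← hCb]
        exact center_le_centralizer _ ha.2
    · left; rw [hk]; rfl
    · right; rw [hk]; rfl
    · have := Nat.le_trans (Nat.pow_le_pow_right (by norm_num : 1 ≤ 2) (show 3 ≤ k + 1 + 1 + 1 by omega)) (hk ▸ h4)
      norm_num at this

theorem fixed_case (h : Hyp A) (K : Crit A) (hfix : ∀ φ ∈ A, ∀ a ∈ K.E, φ a = a) :
    Fixed A K.E := by
  haveI : Fact (Nat.Prime 2) := ⟨Nat.prime_two⟩
  haveI := K.charH
  set Z := centralizer (K.H : Set X) with hZ
  have hfixZ : ∀ φ ∈ A, ∀ a ∈ Z, φ a = a := fun φ hφ =>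
    fix_of_fix_involutions h (centralizer_comm K) hφ (fun a ha => centralizer_inv K.charH φ ha)
      fun a ha ha2 => hfix φ hφ a ((K.mem_E a).2 ⟨ha, ha2⟩)
  have hZn : Z.Normal := inferInstance
  have hZc : Z ≤ center X := fixed_central h hfixZ
  have hcZ : center X ≤ Z := center_le_centralizer _
  have hcen : ∀ {a : X}, a ∈ Z → ∀ g, Commute g a := fun ha g => mem_center_iff.1 (hZc ha) g
  have hmul : ∀ (x y : X) {a : X}, a ∈ K.H → ⁅x * y, a⁆ = ⁅x, a⁆ * ⁅y, a⁆ := fun x y a ha => by
    have hyc := hcen (K.com y a ha)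
    calc ⁅x * y, a⁆ = x * ⁅y, a⁆ * x⁻¹ * ⁅x, a⁆ := by simp only [commutatorElement_def]; group
      _ = ⁅x, a⁆ * ⁅y, a⁆ := by rw [(hyc x).eq, mul_inv_cancel_right, (hyc ⁅x, a⁆).eq]
  have hsqZ : ∀ x, x ^ 2 ∈ Z := by
    intro x
    rw [hZ, mem_centralizer_iff]
    intro a ha
    have hw := K.com x a ha
    have h1 : ⁅x, a ^ 2⁆ = 1 := commutatorElement_eq_one_iff_mul_comm.2
      (hcen (K.sq a ha) x).eq
    rw [PGroupsBasic.commutatorElement_pow_right (hZc hw)] at h1
    have h2 : ⁅x ^ 2, a⁆ = 1 := by rw [pow_two, hmul x x ha, ← pow_two, h1]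
    exact (commutatorElement_eq_one_iff_mul_comm.1 h2).symm
  have hcomE : ∀ x y : X, ⁅x, y⁆ ∈ K.E := by
    intro x y
    have hxy : ⁅x, y⁆ ∈ Z := by
      rw [hZ, mem_centralizer_iff]
      intro a ha
      let f : X →* Z := MonoidHom.mk' (fun x => ⟨⁅x, a⁆, K.com x a ha⟩)
        fun x y => Subtype.ext (hmul x y ha)
      have : f ⁅x, y⁆ = 1 := by
        rw [map_commutatorElement, commutatorElement_eq_one_iff_mul_comm]
        exact Subtype.ext (hcen (f y).2 _).eq
      exact (commutatorElement_eq_one_iff_mul_comm.1 (congrArg Subtype.val this)).symm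
    refine (K.mem_E _).2 ⟨hxy, ?_⟩
    rw [← PGroupsBasic.commutatorElement_pow_left (hZc hxy),
      commutatorElement_eq_one_iff_mul_comm]
    exact ((hcen (hsqZ x)) y).eq.symm
  have hle : commutator X ≤ K.E := by
    rw [commutator_def, Subgroup.commutator_le]
    exact fun x _ y _ => hcomE x y
  have hZle : Z ≤ commutator X := fun z hz => mem_of_fixed h le_rfl fun φ hφ => by
    rw [hfixZ φ hφ z hz, inv_mul_cancel]; exact one_mem _
  have hEZ : K.E ≤ Z := fun a ha => ((K.mem_E a).1 ha).1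
  have hcenter : center X = K.E :=
    le_antisymm ((hcZ.trans hZle).trans hle) K.central
  haveI : K.E.Normal := PGroupsBasic.normal_of_le_center K.central
  refine ⟨hcenter, le_antisymm hle (hEZ.trans hZle), le_antisymm ?_ ?_,
    fun x => (hZle.trans hle) (hsqZ x), fun a ha => ((K.mem_E a).1 ha).2, hfix, K.card⟩
  · exact PGroupsBasic.frattini_le_of_elementary_quotient (p := 2) hle
      fun x => (hZle.trans hle) (hsqZ x)
  · exact ((hEZ.trans hZle)).trans (PGroupsBasic.commutator_le_frattini h.hX)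

section quad

variable {E : Subgroup X} (F : Fixed A E)
include F h

theorem orbit_const (hV : Nat.card (X ⧸ center X) ≤ 8) :
    ∀ v w : X ⧸ center X, v ≠ 1 → w ≠ 1 → q v = q w := by
  classical
  have hcinv : ∀ (φ : MulAut X) {a : X}, a ∈ center X → φ a ∈ center X := fun φ a ha =>
    char_inv (inferInstance : (center X).Characteristic) φ ha
  letI : SMul A (X ⧸ center X) := ⟨fun φ v => QuotientGroup.mk ((φ : MulAut X) v.out)⟩
  have smk : ∀ (φ : A) (x : X),
      φ • (QuotientGroup.mk x : X ⧸ center X) = QuotientGroup.mk ((φ : MulAut X) x) := by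
    intro φ x
    obtain ⟨e, he, e'⟩ := out_eq F x
    show QuotientGroup.mk ((φ : MulAut X) _) = _
    rw [e', map_mul, QuotientGroup.mk_mul,
      show (QuotientGroup.mk ((φ : MulAut X) e) : X ⧸ center X) = 1 from
        (QuotientGroup.eq_one_iff _).2 (hcinv _ he), mul_one]
  letI : MulAction A (X ⧸ center X) :=
    { one_smul := fun v => by
        obtain ⟨x, rfl⟩ := QuotientGroup.mk_surjective v
        rw [smk]; rfl
      mul_smul := fun φ ψ v => by
        obtain ⟨x, rfl⟩ := QuotientGroup.mk_surjective v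
        rw [smk, smk, smk]; rfl }
  have hq : ∀ (φ : A) (v : X ⧸ center X), q (φ • v) = q v := by
    intro φ v
    obtain ⟨x, rfl⟩ := QuotientGroup.mk_surjective v
    rw [smk, q_mk F, q_mk F, ← map_pow, F.fix _ φ.2 _ (F.sq x)]
  have hfixone : ∀ v : X ⧸ center X, (∀ φ : A, φ • v = v) → v = 1 := by
    intro v hv
    obtain ⟨x, rfl⟩ := QuotientGroup.mk_surjective v
    rw [QuotientGroup.eq_one_iff]
    refine mem_of_fixed h (F.center_eq.symm ▸ F.comm_eq.le) fun φ hφ => QuotientGroup.eq.1 ?_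
    have := hv ⟨φ, hφ⟩
    rw [smk] at this
    exact this.symm
  have hone : ∀ φ : A, φ • (1 : X ⧸ center X) = 1 := fun φ => by
    rw [← QuotientGroup.mk_one, smk, map_one]
  have horb : ∀ v : X ⧸ center X, v ≠ 1 →
      Odd (MulAction.orbit A v).ncard ∧ 3 ≤ (MulAction.orbit A v).ncard ∧
        (1 : X ⧸ center X) ∉ MulAction.orbit A v := by
    intro v hv
    have hodd : Odd (MulAction.orbit A v).ncard := by
      rw [← MulAction.index_stabilizer]
      exact Odd.of_dvd_nat h.odd (Subgroup.index_dvd_card _)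
    have h1 : (MulAction.orbit A v).ncard ≠ 1 := fun e => hv (hfixone v fun φ => by
      obtain ⟨a, ha⟩ := Set.ncard_eq_one.1 e
      have e1 : φ • v ∈ MulAction.orbit A v := MulAction.mem_orbit v φ
      have e2 : v ∈ MulAction.orbit A v := MulAction.mem_orbit_self v
      rw [ha, Set.mem_singleton_iff] at e1 e2
      rw [e1, e2])
    refine ⟨hodd, by obtain ⟨k, hk⟩ := hodd; omega, ?_⟩
    rintro ⟨φ, hφ⟩
    have := congrArg (fun w => φ⁻¹ • w) hφ
    simp only [inv_smul_smul, hone] at this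
    exact hv this
  intro v w hv hw
  by_cases hvw : w ∈ MulAction.orbit A v
  · obtain ⟨φ, rfl⟩ := hvw
    exact (hq φ v).symm
  exfalso
  obtain ⟨o1, t1, n1⟩ := horb v hv
  obtain ⟨o2, t2, n2⟩ := horb w hw
  have hd : Disjoint (MulAction.orbit A v) (MulAction.orbit A w) := by
    rw [Set.disjoint_left]
    intro u hu hu'
    refine hvw ?_
    rw [← MulAction.orbit_eq_iff.2 hu, MulAction.orbit_eq_iff.2 hu']
    exact MulAction.mem_orbit_self w
  by_cases hall : ∀ u : X ⧸ center X, u ≠ 1 → u ∈ MulAction.orbit A v ∪ MulAction.orbit A w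
  · have e : MulAction.orbit A v ∪ MulAction.orbit A w = (Set.univ \ {1}) := by
      ext u
      simp only [Set.mem_diff, Set.mem_univ, Set.mem_singleton_iff, true_and]
      refine ⟨?_, hall u⟩
      rintro (hu | hu) rfl
      · exact n1 hu
      · exact n2 hu
    have hc := congrArg Set.ncard e
    rw [Set.ncard_union_eq hd, Set.ncard_diff (Set.subset_univ _), Set.ncard_univ,
      Set.ncard_singleton] at hc
    obtain ⟨k, hk⟩ := IsPGroup.iff_card.mp (h.hX.to_quotient (center X))
    obtain ⟨a, ha⟩ := o1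
    obtain ⟨b, hb⟩ := o2
    rcases Nat.eq_zero_or_pos k with rfl | hk0
    · simp only [pow_zero] at hk; omega
    · obtain ⟨c, hc'⟩ : ∃ c, 2 ^ k = 2 * c :=
        ⟨2 ^ (k - 1), by rw [← pow_succ', Nat.sub_add_cancel hk0]⟩
      omega
  · push Not at hall
    obtain ⟨u, hu, hu'⟩ := hall
    obtain ⟨o3, t3, n3⟩ := horb u hu
    simp only [Set.mem_union, not_or] at hu'
    have hd3 : Disjoint (MulAction.orbit A v ∪ MulAction.orbit A w) (MulAction.orbit A u) := by
      rw [Set.disjoint_left]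
      rintro z (hz | hz) hz'
      · refine hu'.1 ?_
        rw [← MulAction.orbit_eq_iff.2 hz, MulAction.orbit_eq_iff.2 hz']
        exact MulAction.mem_orbit_self u
      · refine hu'.2 ?_
        rw [← MulAction.orbit_eq_iff.2 hz, MulAction.orbit_eq_iff.2 hz']
        exact MulAction.mem_orbit_self u
    have hc := Set.ncard_le_ncard (Set.subset_univ
      (MulAction.orbit A v ∪ MulAction.orbit A w ∪ MulAction.orbit A u))
    rw [Set.ncard_union_eq hd3, Set.ncard_union_eq hd, Set.ncard_univ] at hc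
    omega

theorem card_quot_ne : Nat.card (X ⧸ center X) ≠ 8 := by
  intro h8
  have hc := orbit_const h F h8.le
  refine E_ne_bot F (cB_bot F fun v w => ?_)
  have h2 := sq_one F
  by_cases hv : v = 1
  · subst hv; rw [cB, ← QuotientGroup.mk_one (center X)]
    have := cB_mk F 1 w.out
    rw [QuotientGroup.out_eq'] at this
    simpa [cB] using this
  by_cases hw : w = 1
  · subst hw; rw [cB_symm F]
    have := cB_mul_left F 1 1 v
    rw [one_mul, left_eq_mul] at this
    exact this
  by_cases hvw : v = w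
  · subst hvw; exact cB_self F v
  obtain ⟨u, hu⟩ : ∃ u : X ⧸ center X, u ∉ ({1, v, w, v * w} : Set (X ⧸ center X)) := by
    by_contra hno
    push Not at hno
    have hle := Set.ncard_le_ncard (s := (Set.univ : Set (X ⧸ center X)))
      (t := {1, v, w, v * w}) (fun u _ => hno u)
    rw [Set.ncard_univ, h8] at hle
    have h4 : ({1, v, w, v * w} : Set (X ⧸ center X)).ncard ≤ 4 := by
      refine (Set.ncard_insert_le _ _).trans ?_
      refine Nat.add_le_add_right ((Set.ncard_insert_le _ _).trans ?_) 1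
      refine Nat.add_le_add_right ((Set.ncard_insert_le _ _).trans ?_) 1
      rw [Set.ncard_singleton]
    omega
  simp only [Set.mem_insert_iff, Set.mem_singleton_iff, not_or] at hu
  obtain ⟨hu1, huv, huw, huvw⟩ := hu
  have key : ∀ a b : X ⧸ center X, a ≠ 1 → b ≠ 1 → a ≠ b → cB a b = q v := by
    intro a b ha hb hab
    have hab1 : a * b ≠ 1 := fun e => hab ((eq_inv_of_mul_eq_one_left e).trans
      (inv_eq_of_mul_eq_one_right (h2 b)))
    have e := q_mul F a b
    rw [hc (a * b) v hab1 hv, hc a v ha hv, hc b v hb hv] at e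
    have h22 := F.two _ (q_mem F v)
    rw [pow_two] at h22
    rw [h22, one_mul] at e
    exact e.symm
  have hvw1 : v * w ≠ 1 := fun e => hvw ((eq_inv_of_mul_eq_one_left e).trans
      (inv_eq_of_mul_eq_one_right (h2 w)))
  have e := cB_mul_right F u v w
  rw [key u (v * w) hu1 hvw1 huvw, key u v hu1 hv huv, key u w hu1 hw huw, left_eq_mul] at e
  rw [key v w hv hw hvw, e]

theorem four_small (hV : Nat.card (X ⧸ center X) ≤ 4) : Nat.card E = 2 ∧ Nat.card (X ⧸ center X) = 4 := by
  classical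
  haveI : Fact (Nat.Prime 2) := ⟨Nat.prime_two⟩
  have h2 := sq_one F
  obtain ⟨v, hv⟩ : ∃ v : X ⧸ center X, v ≠ 1 := by
    by_contra hno
    push Not at hno
    exact E_ne_bot F (cB_bot F fun a b => by rw [hno a, ← hno b]; exact cB_self F _)
  obtain ⟨w, hw⟩ : ∃ w : X ⧸ center X, w ≠ 1 ∧ w ≠ v := by
    by_contra hno
    push Not at hno
    have h1 : ∀ b : X ⧸ center X, cB (1 : X ⧸ center X) b = 1 := fun b => by
      have := cB_mul_left F 1 1 b
      rwa [one_mul, left_eq_mul] at this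
    refine E_ne_bot F (cB_bot F fun a b => ?_)
    by_cases ha : a = 1
    · rw [ha]; exact h1 b
    by_cases hb : b = 1
    · rw [hb, cB_symm F]; exact h1 a
    rw [hno a ha, hno b hb]; exact cB_self F v
  have hvw1 : v * w ≠ 1 := fun e => hw.2 ((eq_inv_of_mul_eq_one_right e).trans
    (inv_eq_of_mul_eq_one_right (h2 v)))
  have hset : ({1, v, w, v * w} : Set (X ⧸ center X)).ncard = 4 := by
    have a1 : v ≠ v * w := fun e => hw.1 (left_eq_mul.1 e)
    have a2 : w ≠ v * w := fun e => hv (right_eq_mul.1 e)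
    rw [Set.ncard_insert_of_notMem (by simp [Ne.symm hv, Ne.symm hw.1, Ne.symm hvw1]),
      Set.ncard_insert_of_notMem (by simp [Ne.symm hw.2, a1]), Set.ncard_pair a2]
  have hcard4 : Nat.card (X ⧸ center X) = 4 := by
    have := Set.ncard_le_ncard (Set.subset_univ ({1, v, w, v * w} : Set (X ⧸ center X)))
    rw [Set.ncard_univ, hset] at this
    omega
  refine ⟨?_, hcard4⟩
  have hall : ∀ u : X ⧸ center X, u = 1 ∨ u = v ∨ u = w ∨ u = v * w := by
    intro u
    have e := Set.eq_of_subset_of_ncard_le (Set.subset_univ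
      ({1, v, w, v * w} : Set (X ⧸ center X))) (by rw [Set.ncard_univ, hset, hcard4])
    have := (e.symm ▸ Set.mem_univ u : u ∈ ({1, v, w, v * w} : Set (X ⧸ center X)))
    simpa using this
  have h1 : ∀ b : X ⧸ center X, cB (1 : X ⧸ center X) b = 1 := fun b => by
    have := cB_mul_left F 1 1 b
    rwa [one_mul, left_eq_mul] at this
  have hval : ∀ a b : X ⧸ center X, cB a b ∈ zpowers (cB v w) := by
    intro a b
    have m : cB v w ∈ zpowers (cB v w) := mem_zpowers _
    have m' : cB w v ∈ zpowers (cB v w) := by rw [cB_symm F v w]; exact m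
    rcases hall a with rfl | rfl | rfl | rfl <;> rcases hall b with rfl | rfl | rfl | rfl <;>
      simp [cB_mul_left F, cB_mul_right F, cB_self F, h1, cB_symm F (1 : X ⧸ center X), m, m',
        mul_mem, one_mem]
  have hle : E ≤ zpowers (cB v w) := by
    haveI := PGroupsBasic.normal_of_le_center (H := zpowers (cB v w))
      (zpowers_le.2 (F.center_eq.symm ▸ cB_mem F v w))
    rw [← F.comm_eq, commutator_def, Subgroup.commutator_le]
    intro x _ y _
    have := hval (QuotientGroup.mk y) (QuotientGroup.mk x)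
    rwa [cB_mk F] at this
  have h3 := Subgroup.card_le_of_le hle
  rw [Nat.card_zpowers] at h3
  have h4 : orderOf (cB v w) ≤ 2 :=
    Nat.le_of_dvd (by norm_num) (orderOf_dvd_of_pow_eq_one (F.two _ (cB_mem F v w)))
  rcases F.card with hc | hc <;> omega

end quad

end Cfsg.Agent.SmallAb92Crit
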