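import Cfsg.Agent.Lib.SmallAb92Act
import Cfsg.Agent.Lib.PGroupsCyclic

/-!
Squares that are involutions are central in a large 2-group without normal `E₈` in which no normal
four group through the central involution `z` is centralised by a square root of `z`.
-/

open Subgroup
open scoped commutatorElement

set_option autoImplicit false
set_option linter.unusedSectionVars false

namespace Cfsg.Agent.SmallAb92Root

variable {D : Type*} [Group D] [Finite D]

theorem two_cases {z : D} (hz2 : z ^ 2 = 1) {u : D} (hu : u ∈ zpowers z) : u = 1 ∨ u = z := by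
  obtain ⟨i, rfl⟩ := hu
  rcases Int.even_or_odd' i with ⟨j, rfl | rfl⟩
  · left; show z ^ (2 * j) = 1; rw [zpow_mul, zpow_ofNat, hz2, one_zpow]
  · right; show z ^ (2 * j + 1) = z
    rw [zpow_add, zpow_mul, zpow_ofNat, hz2, one_zpow, one_mul, zpow_one]

/-- An abelian subgroup with a central involution `z` that is not a square, or with a single
involution, is generated by `z` and one element. -/
theorem gen_mod (hD : IsPGroup 2 D) {z : D} (hzc : z ∈ center D) (hz2 : z ^ 2 = 1) {B : Subgroup D}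
    (hBc : ∀ a ∈ B, ∀ b ∈ B, a * b = b * a) (hzB : z ∈ B)
    (hcase : (∀ x ∈ B, x ^ 2 = 1 → x ∈ zpowers z) ∨
      ((∀ x ∈ B, x ^ 2 ≠ z) ∧ ∃ v ∈ B, v ^ 2 = 1 ∧
        ∀ x ∈ B, x ^ 2 = 1 → x ∈ zpowers z ∨ v⁻¹ * x ∈ zpowers z)) :
    ∃ b ∈ B, ∀ x ∈ B, ∃ e ∈ zpowers z, ∃ j : ℕ, x = e * b ^ j := by
  haveI : Fact (Nat.Prime 2) := ⟨Nat.prime_two⟩
  rcases hcase with h1 | ⟨hnsq, v, hv, hv2, hv'⟩
  · have hcyc : IsCyclic B := by
      refine PGroupsCyclic.isCyclic_of_comm (p := 2) (hD.to_subgroup B)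
        (fun a b => Subtype.ext (hBc a a.2 b b.2)) (z := (⟨z, hzB⟩ : B)) (fun g hg => ?_)
        (Nat.le_of_dvd two_pos (orderOf_dvd_of_pow_eq_one (Subtype.ext hz2)))
      obtain ⟨i, hi⟩ := h1 g g.2 (congrArg Subtype.val hg)
      exact ⟨i, Subtype.ext hi⟩
    obtain ⟨⟨b, hb⟩, hgen⟩ := hcyc.exists_generator
    refine ⟨b, hb, fun x hx => ⟨1, one_mem _, ?_⟩⟩
    obtain ⟨j, hj⟩ := ((isOfFinOrder_of_finite (⟨b, hb⟩ : B)).mem_powers_iff_mem_zpowers).2
      (hgen ⟨x, hx⟩)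
    exact ⟨j, by rw [one_mul]; exact (congrArg Subtype.val hj).symm⟩
  · haveI : (zpowers z).Normal := PGroupsBasic.normal_of_le_center (zpowers_le.2 hzc)
    set Z := (zpowers z).subgroupOf B with hZ
    haveI : Z.Normal := (inferInstance : (zpowers z).Normal).subgroupOf _
    have hc : ∀ a b : B ⧸ Z, a * b = b * a := by
      intro u w
      obtain ⟨a, rfl⟩ := QuotientGroup.mk_surjective u
      obtain ⟨c, rfl⟩ := QuotientGroup.mk_surjective w
      rw [← QuotientGroup.mk_mul, ← QuotientGroup.mk_mul,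
        Subtype.ext (hBc a a.2 c c.2) (a1 := a * c) (a2 := c * a)]
    have hcyc : IsCyclic (B ⧸ Z) := by
      refine PGroupsCyclic.isCyclic_of_comm (p := 2) ((hD.to_subgroup B).to_quotient _) hc
        (z := (QuotientGroup.mk (⟨v, hv⟩ : B) : B ⧸ Z)) (fun g hg => ?_)
        (Nat.le_of_dvd two_pos (orderOf_dvd_of_pow_eq_one (by
          rw [← QuotientGroup.mk_pow, show (⟨v, hv⟩ : B) ^ 2 = 1 from Subtype.ext hv2]; rfl)))
      obtain ⟨x, rfl⟩ := QuotientGroup.mk_surjective g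
      rw [← QuotientGroup.mk_pow, QuotientGroup.eq_one_iff, hZ, mem_subgroupOf,
        SubmonoidClass.coe_pow] at hg
      have hx2 : (x : D) ^ 2 = 1 := (two_cases hz2 hg).resolve_right (hnsq x x.2)
      rcases hv' x x.2 hx2 with h | h
      · have e : (QuotientGroup.mk x : B ⧸ Z) = 1 := (QuotientGroup.eq_one_iff x).2 h
        rw [e]; exact one_mem _
      · have e : (QuotientGroup.mk (⟨v, hv⟩ : B) : B ⧸ Z) = QuotientGroup.mk x :=
          QuotientGroup.eq.2 h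
        rw [← e]; exact mem_zpowers _
    obtain ⟨q, hgen⟩ := hcyc.exists_generator
    obtain ⟨⟨b, hb⟩, rfl⟩ := QuotientGroup.mk_surjective q
    refine ⟨b, hb, fun x hx => ?_⟩
    obtain ⟨j, hj⟩ := ((isOfFinOrder_of_finite
      (QuotientGroup.mk (⟨b, hb⟩ : B) : B ⧸ Z)).mem_powers_iff_mem_zpowers).2
      (hgen (QuotientGroup.mk ⟨x, hx⟩))
    dsimp only at hj
    rw [← QuotientGroup.mk_pow, QuotientGroup.eq, hZ, mem_subgroupOf] at hj
    refine ⟨_, hj, j, ?_⟩
    simp only [coe_mul, coe_inv, SubmonoidClass.coe_pow]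
    rw [hBc _ (mul_mem (inv_mem (pow_mem hb j)) hx) _ (pow_mem hb j), mul_inv_cancel_left]

/-- Squares that are involutions are central. -/
theorem squares_central (hD : IsPGroup 2 D) {z : D} (hzc : z ∈ center D) (hz1 : z ≠ 1)
    (hz2 : z ^ 2 = 1)
    (hsmall : ∀ N : Subgroup D, N.Normal → (∀ a ∈ N, ∀ b ∈ N, a * b = b * a) →
      (∀ a ∈ N, a ^ 2 = 1) → Nat.card N ≤ 4)
    (hbad : ∀ F : Subgroup D, F.Normal → (∀ a ∈ F, ∀ b ∈ F, a * b = b * a) →
      (∀ a ∈ F, a ^ 2 = 1) → Nat.card F = 4 → z ∈ F → ∀ g : D, g ^ 2 = z →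
        (∀ a ∈ F, a * g = g * a) → (∀ d : D, ⁅d, g⁆ ∈ F) → g ∉ F → False)
    (hbig : 64 ≤ Nat.card D) : ∀ d : D, orderOf (d ^ 2) = 2 → d ^ 2 ∈ center D := by
  classical
  haveI : Fact (Nat.Prime 2) := ⟨Nat.prime_two⟩
  haveI hZn : (zpowers z).Normal := PGroupsBasic.normal_of_le_center (zpowers_le.2 hzc)
  have hzz : ∀ e ∈ zpowers z, ∀ g : D, g * e = e * g := fun e he g =>
    mem_center_iff.1 (zpowers_le.2 hzc he) g
  have hze : ∀ e ∈ zpowers z, e ^ 2 = 1 := fun e he => by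
    rcases two_cases hz2 he with rfl | rfl
    exacts [one_pow 2, hz2]
  have hzcard : Nat.card (zpowers z) = 2 := by
    rw [Nat.card_zpowers, orderOf_eq_prime hz2 hz1]
  -- a maximal normal abelian subgroup
  obtain ⟨B, hBn, hBc, hzB, hBmax, hB4⟩ : ∃ B : Subgroup D, B.Normal ∧
      (∀ a ∈ B, ∀ b ∈ B, a * b = b * a) ∧ z ∈ B ∧
      (∀ g : D, (∀ b ∈ B, b * g = g * b) → g ∈ B) ∧
      ((∀ F : Subgroup D, F.Normal → (∀ a ∈ F, ∀ b ∈ F, a * b = b * a) →
          (∀ a ∈ F, a ^ 2 = 1) → z ∈ F → Nat.card F ≤ 2) ∨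
        ∃ F : Subgroup D, F ≤ B ∧ (∀ a ∈ F, a ^ 2 = 1) ∧ 2 < Nat.card F) := by
    obtain ⟨N, hNn, hNc, hzN, hNalt⟩ : ∃ N : Subgroup D, N.Normal ∧
        (∀ a ∈ N, ∀ b ∈ N, a * b = b * a) ∧ z ∈ N ∧
        ((∀ F : Subgroup D, F.Normal → (∀ a ∈ F, ∀ b ∈ F, a * b = b * a) →
            (∀ a ∈ F, a ^ 2 = 1) → z ∈ F → Nat.card F ≤ 2) ∨
          ((∀ a ∈ N, a ^ 2 = 1) ∧ 2 < Nat.card N)) := by
      by_cases hF : ∀ F : Subgroup D, F.Normal → (∀ a ∈ F, ∀ b ∈ F, a * b = b * a) →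
          (∀ a ∈ F, a ^ 2 = 1) → z ∈ F → Nat.card F ≤ 2
      · exact ⟨zpowers z, hZn, fun a ha b _ => (hzz a ha b).symm, mem_zpowers z, Or.inl hF⟩
      · push Not at hF
        obtain ⟨F, hFn, hFc, hF2, hzF, hFcard⟩ := hF
        exact ⟨F, hFn, hFc, hzF, Or.inr ⟨hF2, hFcard⟩⟩
    obtain ⟨B, hB⟩ := Set.Finite.exists_maximal
      (Set.toFinite {B : Subgroup D | B.Normal ∧ IsMulCommutative B ∧ N ≤ B})
      ⟨N, hNn, PGroupsBasic.isMulCommutative_of_forall hNc, le_rfl⟩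
    haveI := hB.prop.1
    have hcen := PGroupsCritical.centralizer_eq_of_maximal hD B hB.prop.2.1
      (fun C hC hCa hBC => le_antisymm (hB.2 ⟨hC, hCa, hB.prop.2.2.trans hBC⟩ hBC) hBC)
    exact ⟨B, hB.prop.1,
      fun a ha b hb => PGroupsBasic.comm_of_isMulCommutative hB.prop.2.1 ha hb,
      hB.prop.2.2 hzN, fun g hg => hcen ▸ mem_centralizer_iff.2 hg,
      hNalt.imp_right fun h => ⟨N, hB.prop.2.2, h⟩⟩
  -- the involutions of `B`
  let Ω : Subgroup D :=
    { carrier := {b | b ∈ B ∧ b ^ 2 = 1}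
      one_mem' := ⟨one_mem _, one_pow 2⟩
      mul_mem' := fun {a b} ha hb => ⟨mul_mem ha.1 hb.1, by
        rw [(show Commute a b from hBc a ha.1 b hb.1).mul_pow, ha.2, hb.2, one_mul]⟩
      inv_mem' := fun {a} ha => ⟨inv_mem ha.1, by rw [inv_pow, ha.2, inv_one]⟩ }
  haveI hΩn : Ω.Normal := ⟨fun a ha g => ⟨hBn.conj_mem a ha.1 g, by
    rw [conj_pow, ha.2, mul_one, mul_inv_cancel]⟩⟩
  have hΩc : ∀ a ∈ Ω, ∀ b ∈ Ω, a * b = b * a := fun a ha b hb => hBc a ha.1 b hb.1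
  have hΩ2 : ∀ a ∈ Ω, a ^ 2 = 1 := fun a ha => ha.2
  have hzΩ : z ∈ Ω := ⟨hzB, hz2⟩
  have hzle : zpowers z ≤ Ω := zpowers_le.2 hzΩ
  have hΩ4 := hsmall Ω hΩn hΩc hΩ2
  have hΩcases : (Nat.card Ω = 2 ∧ ∀ F : Subgroup D, F.Normal →
      (∀ a ∈ F, ∀ b ∈ F, a * b = b * a) → (∀ a ∈ F, a ^ 2 = 1) → z ∈ F → Nat.card F ≤ 2) ∨
      Nat.card Ω = 4 := by
    obtain ⟨k, hk⟩ := IsPGroup.iff_card.mp (hD.to_subgroup Ω)
    have h2 := Subgroup.card_le_of_le hzle
    rw [hzcard, hk] at h2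
    have hk2 : k ≤ 2 := by
      by_contra hk3
      have : 2 ^ 3 ≤ 2 ^ k := Nat.pow_le_pow_right (by norm_num) (by omega)
      omega
    rcases hB4 with h | ⟨F, hFB, hF2, hFc⟩
    · interval_cases k
      · omega
      · exact Or.inl ⟨hk, h⟩
      · exact Or.inr hk
    · have := Subgroup.card_le_of_le (show F ≤ Ω from fun a ha => ⟨hFB ha, hF2 a ha⟩)
      interval_cases k
      · omega
      · omega
      · exact Or.inr hk
  have hnsq : Nat.card Ω = 4 → ∀ b ∈ B, b ^ 2 ≠ z := by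
    intro h4 b hb hbz
    refine hbad Ω hΩn hΩc hΩ2 h4 hzΩ b hbz (fun a ha => hBc a ha.1 b hb) (fun d => ?_)
      (fun h => hz1 (hbz.symm.trans h.2))
    have hdb := hBn.conj_mem b hb d
    refine ⟨by rw [commutatorElement_def]; exact mul_mem hdb (inv_mem hb), ?_⟩
    have hc : d * z * d⁻¹ = z := by rw [mem_center_iff.1 hzc d, mul_inv_cancel_right]
    rw [commutatorElement_def, (show Commute (d * b * d⁻¹) b⁻¹ from
      hBc _ hdb _ (inv_mem hb)).mul_pow, conj_pow, inv_pow, hbz, hc, mul_inv_cancel]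
  obtain ⟨b, hb, hgen⟩ := gen_mod hD hzc hz2 hBc hzB (by
    rcases hΩcases with ⟨h2, -⟩ | h4
    · refine Or.inl fun x hx hx2 => ?_
      have e := Subgroup.eq_of_le_of_card_ge hzle (by rw [h2, hzcard])
      exact e ▸ (⟨hx, hx2⟩ : x ∈ Ω)
    · obtain ⟨v, hvΩ, hvz⟩ : ∃ v ∈ Ω, v ∉ zpowers z := by
        by_contra hno
        push Not at hno
        have := Subgroup.card_le_of_le (show Ω ≤ zpowers z from hno)
        omega
      refine Or.inr ⟨hnsq h4, v, hvΩ.1, hvΩ.2, fun x hx hx2 => ?_⟩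
      have hidx : ((zpowers z).subgroupOf Ω).index = 2 := by
        have := ((zpowers z).subgroupOf Ω).card_mul_index
        rw [Nat.card_congr (subgroupOfEquivOfLe hzle).toEquiv, hzcard, h4] at this
        omega
      by_cases hxz : x ∈ zpowers z
      · exact Or.inl hxz
      · right
        have := (mul_mem_iff_of_index_two hidx (a := (⟨v⁻¹, inv_mem hvΩ⟩ : Ω))
          (b := (⟨x, hx, hx2⟩ : Ω))).2 (iff_of_false
            (fun h => hvz (inv_mem_iff.1 (mem_subgroupOf.1 h)))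
            (fun h => hxz (mem_subgroupOf.1 h)))
        exact mem_subgroupOf.1 this)
  obtain ⟨n, hn⟩ := IsPGroup.iff_orderOf.mp hD b
  have hbn : b ^ 2 ^ n = 1 := by rw [← hn]; exact pow_orderOf_eq_one b
  have hepow : ∀ e ∈ zpowers z, ∀ j : ℕ, (e * b ^ j) ^ 2 = b ^ (2 * j) := by
    intro e he j
    rw [(show Commute e (b ^ j) from (hzz e he _).symm).mul_pow, hze e he, one_mul, ← pow_mul,
      mul_comm]
  have hcomm : ∀ g : D, Commute b g → g ∈ B := fun g hg => hBmax g fun x hx => by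
    obtain ⟨e, he, j, rfl⟩ := hgen x hx
    exact ((show Commute e g from (hzz e he g).symm).mul_left (hg.pow_left j)).eq
  have hfix : ∀ e ∈ zpowers z, ∀ g : D, g * e * g⁻¹ = e := fun e he g => by
    rw [hzz e he g, mul_inv_cancel_right]
  -- the order of `b` is at least eight
  have hn3 : 3 ≤ n := by
    by_contra hlt
    by_cases hb1 : b = 1
    · have hall : ∀ g : D, g ∈ B := fun g => hcomm g (hb1 ▸ Commute.one_left g)
      have hle : (⊤ : Subgroup D) ≤ zpowers z := fun g _ => by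
        obtain ⟨e, he, j, rfl⟩ := hgen g (hall g)
        rw [hb1, one_pow, mul_one]; exact he
      have := Subgroup.card_le_of_le hle
      rw [Subgroup.card_top, hzcard] at this
      omega
    have hBcard : Nat.card B ≤ 2 * 2 ^ n := by
      have hsurj : Function.Surjective (fun p : zpowers z × Fin (2 ^ n) =>
          (⟨p.1 * b ^ (p.2 : ℕ), mul_mem (zpowers_le.2 hzB p.1.2) (pow_mem hb _)⟩ : B)) := by
        rintro ⟨x, hx⟩
        obtain ⟨e, he, j, rfl⟩ := hgen x hx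
        refine ⟨(⟨e, he⟩, ⟨j % 2 ^ n, Nat.mod_lt _ (by positivity)⟩), Subtype.ext ?_⟩
        show e * b ^ (j % 2 ^ n) = e * b ^ j
        rw [← hn, pow_mod_orderOf]
      have := Nat.card_le_card_of_surjective _ hsurj
      rwa [Nat.card_prod, hzcard, Nat.card_fin] at this
    have hidx : B.index ≤ Nat.card {x : B // x ≠ 1} := by
      refine Nat.card_le_card_of_injective
        (fun v : D ⧸ B => (⟨⟨v.out * b * v.out⁻¹, hBn.conj_mem b hb _⟩, fun h =>
          hb1 (conj_eq_one_iff.1 (congrArg Subtype.val h))⟩ : {x : B // x ≠ 1})) fun v w e => ?_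
      have e' : v.out * b * v.out⁻¹ = w.out * b * w.out⁻¹ :=
        congrArg (fun x : {x : B // x ≠ 1} => (x.1 : D)) e
      rw [← QuotientGroup.out_eq' v, ← QuotientGroup.out_eq' w, QuotientGroup.eq]
      refine hcomm _ ?_
      show b * (v.out⁻¹ * w.out) = v.out⁻¹ * w.out * b
      calc b * (v.out⁻¹ * w.out) = v.out⁻¹ * (v.out * b * v.out⁻¹) * w.out := by group
        _ = v.out⁻¹ * (w.out * b * w.out⁻¹) * w.out := by rw [e']
        _ = v.out⁻¹ * w.out * b := by group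
    have hne : Nat.card {x : B // x ≠ 1} < Nat.card B :=
      Finite.card_subtype_lt (x := 1) (not_not.2 rfl)
    have hprod := B.card_mul_index
    have hpow : 2 ^ n ≤ 4 := le_trans (Nat.pow_le_pow_right (by norm_num) (show n ≤ 2 by omega))
      (by norm_num)
    have : Nat.card B * B.index ≤ 8 * 7 := Nat.mul_le_mul (by omega) (by omega)
    omega
  have h2n : 2 * 2 ^ (n - 1) = 2 ^ n := by rw [← pow_succ']; congr 1; omega
  set u := b ^ 2 ^ (n - 1) with hu
  have huo : u ^ 2 = 1 := by rw [hu, ← pow_mul, mul_comm, h2n, hbn]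
  have hu1 : u ≠ 1 := fun h => by
    have hd := orderOf_dvd_of_pow_eq_one h
    rw [hn, Nat.pow_dvd_pow_iff_le_right (by norm_num)] at hd
    omega
  have hupow : ∀ l : ℕ, u ^ (2 * l) = 1 ∧ u ^ (2 * l + 1) = u := fun l =>
    ⟨by rw [pow_mul, huo, one_pow], by rw [pow_succ, pow_mul, huo, one_pow, one_mul]⟩
  -- a square root of one among powers of `b`
  have hhalf : ∀ a : ℕ, b ^ (2 * a) = 1 → b ^ a = 1 ∨ b ^ a = u := by
    intro a ha
    have hd := orderOf_dvd_of_pow_eq_one ha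
    rw [hn, ← h2n] at hd
    obtain ⟨r, rfl⟩ := Nat.dvd_of_mul_dvd_mul_left two_pos hd
    rw [pow_mul, ← hu]
    rcases Nat.even_or_odd' r with ⟨l, rfl | rfl⟩
    exacts [Or.inl (hupow l).1, Or.inr (hupow l).2]
  -- conjugates of `b`
  have hconj : ∀ d : D, ∃ e ∈ zpowers z, ∃ j : ℕ, j % 2 = 1 ∧ d * b * d⁻¹ = e * b ^ j := by
    intro d
    obtain ⟨e, he, j, hj⟩ := hgen _ (hBn.conj_mem b hb d)
    refine ⟨e, he, j, ?_, hj⟩
    by_contra hje
    obtain ⟨i, rfl⟩ : ∃ i, j = 2 * i := ⟨j / 2, by omega⟩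
    have h1 : (d * b * d⁻¹) ^ 2 ^ (n - 1) = 1 := by
      rw [hj, show 2 ^ (n - 1) = 2 * 2 ^ (n - 2) by rw [← pow_succ']; congr 1; omega, pow_mul,
        hepow e he, ← pow_mul, show 2 * (2 * i) * 2 ^ (n - 2) = (2 * (2 * 2 ^ (n - 2))) * i by ring,
        show 2 * 2 ^ (n - 2) = 2 ^ (n - 1) by rw [← pow_succ']; congr 1; omega, h2n, pow_mul, hbn,
        one_pow]
    rw [conj_pow, conj_eq_one_iff] at h1
    exact hu1 h1
  have huc : ∀ d : D, d * u = u * d := by
    intro d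
    obtain ⟨e, he, j, hj2, hj⟩ := hconj d
    refine mul_inv_eq_iff_eq_mul.1 ?_
    have h2' : 2 ^ (n - 1) = 2 * 2 ^ (n - 2) := by rw [← pow_succ']; congr 1; omega
    calc d * u * d⁻¹ = (e * b ^ j) ^ 2 ^ (n - 1) := by rw [hu, ← conj_pow, hj]
      _ = b ^ (2 * j * 2 ^ (n - 2)) := by rw [h2', pow_mul, hepow e he, ← pow_mul]
      _ = u ^ j := by
        rw [hu, ← pow_mul, show 2 * j * 2 ^ (n - 2) = 2 * 2 ^ (n - 2) * j by ring, ← h2']
      _ = u := by rw [show j = 2 * (j / 2) + 1 by omega]; exact (hupow _).2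
  have hΩz : ∀ x ∈ Ω, ∀ d : D, d * x = x * d := by
    intro x hx d
    obtain ⟨e, he, j, rfl⟩ := hgen x hx.1
    have h2j := hx.2
    rw [hepow e he] at h2j
    rcases hhalf j h2j with h | h <;> rw [h]
    · rw [mul_one]; exact hzz e he d
    · exact ((show Commute d e from hzz e he d).mul_right (huc d)).eq
  -- squares lie in `B`
  have hsqB : ∀ d : D, d ^ 2 ∈ B := by
    intro d
    by_contra hd
    let P : D → Prop := fun g => ∃ M : ℕ, M % 8 = 1 ∧ g * b * g⁻¹ = b ^ M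
    have hP2 : ∀ g, P g → P (g ^ 2) := by
      rintro g ⟨M, hM, hg⟩
      refine ⟨M * M, by rw [Nat.mul_mod, hM], ?_⟩
      calc g ^ 2 * b * (g ^ 2)⁻¹ = g * (g * b * g⁻¹) * g⁻¹ := by simp [pow_two, mul_assoc]
        _ = (g * b * g⁻¹) ^ M := by rw [conj_pow, ← hg]
        _ = b ^ (M * M) := by rw [hg, ← pow_mul]
    have hPd : P (d ^ 2) := by
      obtain ⟨e, he, j, hj2, hj⟩ := hconj d
      refine ⟨j * j, ?_, ?_⟩
      · rw [Nat.mul_mod]
        have : j % 8 = 1 ∨ j % 8 = 3 ∨ j % 8 = 5 ∨ j % 8 = 7 := by omega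
        rcases this with q | q | q | q <;> rw [q]
      · calc d ^ 2 * b * (d ^ 2)⁻¹ = d * (d * b * d⁻¹) * d⁻¹ := by simp [pow_two, mul_assoc]
          _ = (d * e * d⁻¹) * (d * b * d⁻¹) ^ j := by rw [conj_pow, conj_mul, ← hj]
          _ = e * (e * b ^ j) ^ j := by rw [hfix e he, hj]
          _ = (e * e ^ j) * b ^ (j * j) := by
            rw [(show Commute e (b ^ j) from (hzz e he _).symm).mul_pow, mul_assoc, ← pow_mul]
          _ = b ^ (j * j) := by
            rw [← pow_succ', show j + 1 = 2 * ((j + 1) / 2) by omega, pow_mul, hze e he, one_pow,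
              one_mul]
    have hlast : ∀ (k : ℕ) (g : D), P g → g ∉ B → g ^ 2 ^ k ∈ B →
        ∃ g', P g' ∧ g' ∉ B ∧ g' ^ 2 ∈ B := by
      intro k
      induction k with
      | zero => intro g _ h1 h2; exact absurd (by simpa using h2) h1
      | succ k ih =>
        intro g hP h1 h2
        by_cases h : g ^ 2 ∈ B
        · exact ⟨g, hP, h1, h⟩
        · exact ih (g ^ 2) (hP2 g hP) h (by rw [← pow_mul, ← pow_succ']; exact h2)
    obtain ⟨k, hk⟩ := hD (d ^ 2)
    obtain ⟨g₀, ⟨M, hM8, hgb⟩, hgB, hg2B⟩ := hlast k _ hPd hd (hk ▸ one_mem B)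
    -- `g₀` multiplies `b` by `u`
    have hgu : g₀ * b * g₀⁻¹ = b * u := by
      obtain ⟨q, hq⟩ : ∃ q, M = 8 * q + 1 := ⟨M / 8, by omega⟩
      have hM2 : b ^ (M * M) = b := by
        calc b ^ (M * M) = (g₀ * b * g₀⁻¹) ^ M := by rw [hgb, pow_mul]
          _ = g₀ * (g₀ * b * g₀⁻¹) * g₀⁻¹ := by rw [conj_pow, hgb]
          _ = g₀ ^ 2 * b * (g₀ ^ 2)⁻¹ := by simp [pow_two, mul_assoc]
          _ = b := by rw [hBc _ hg2B b hb, mul_inv_cancel_right]
      rw [hq, show (8 * q + 1) * (8 * q + 1) = 2 * (8 * q) * (4 * q + 1) + 1 by ring, pow_succ,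
        mul_eq_right, pow_mul] at hM2
      have hcop : Nat.Coprime (2 ^ n) (4 * q + 1) :=
        Nat.Coprime.pow_left n (Nat.coprime_two_left.2 ⟨2 * q, by ring⟩)
      have h1 : b ^ (2 * (8 * q)) = 1 := by
        rw [← orderOf_dvd_iff_pow_eq_one, hn]
        have := orderOf_dvd_of_pow_eq_one (show b ^ (2 * (8 * q) * (4 * q + 1)) = 1 by
          rw [pow_mul]; exact hM2)
        rw [hn] at this
        exact hcop.dvd_of_dvd_mul_right this
      rcases hhalf _ h1 with h | h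
      · exfalso
        refine hgB (hcomm g₀ ?_)
        rw [hq, pow_succ, h, one_mul] at hgb
        exact (mul_inv_eq_iff_eq_mul.1 hgb).symm
      · rw [hgb, hq, pow_succ, h, (show b * u = u * b from huc b)]
    have hgx : ∀ e ∈ zpowers z, ∀ l : ℕ, g₀ * (e * b ^ l) * g₀⁻¹ = e * b ^ l * u ^ l := by
      intro e he l
      rw [← conj_mul, hfix e he, ← conj_pow, hgu, (show Commute b u from huc b).mul_pow, mul_assoc]
    obtain ⟨e₁, he₁, l₁, hl₁⟩ := hgen _ hg2B
    obtain ⟨l₂, rfl⟩ : ∃ l₂, l₁ = 2 * l₂ := by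
      have h := hgx e₁ he₁ l₁
      rw [← hl₁, show g₀ * g₀ ^ 2 * g₀⁻¹ = g₀ ^ 2 by simp [pow_two, mul_assoc], left_eq_mul] at h
      rcases Nat.even_or_odd' l₁ with ⟨l, rfl | rfl⟩
      · exact ⟨l, rfl⟩
      · rw [(hupow l).2] at h; exact absurd h hu1
    -- an element outside `B` with square in `zpowers z`, acting as `g₀`
    set w := b ^ 2 ^ (n - 2) with hw
    have hwB : w ∈ B := pow_mem hb _
    have hw2 : w ^ 2 = u := by
      rw [hw, hu, ← pow_mul, ← pow_succ]; congr 2; omega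
    have huw : u ^ 2 ^ (n - 2) = 1 := by
      rw [show n - 2 = (n - 3) + 1 by omega, pow_succ']; exact (hupow _).1
    have hgw : g₀ * w * g₀⁻¹ = w := by
      have h := hgx 1 (one_mem _) (2 ^ (n - 2))
      rwa [one_mul, huw, mul_one] at h
    set c := (b ^ l₂)⁻¹ with hc
    have hcB : c ∈ B := inv_mem (pow_mem hb _)
    have hgc : g₀ * c * g₀⁻¹ = c * u ^ l₂ := by
      have h := hgx 1 (one_mem _) l₂
      rw [one_mul] at h
      rw [hc, ← conj_inv, h, mul_inv_rev,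
        inv_eq_of_mul_eq_one_right (show u ^ l₂ * u ^ l₂ = 1 by
          rw [← pow_add, ← two_mul]; exact (hupow _).1)]
      exact ((show Commute (b ^ l₂)⁻¹ u from huc _).pow_right l₂).eq.symm
    have hgc2 : (g₀ * c) ^ 2 = e₁ * u ^ l₂ := by
      have hul : Commute (u ^ l₂) (g₀ ^ 2 * c) :=
        ((show Commute (g₀ ^ 2 * c) u from huc _).pow_right l₂).symm
      calc (g₀ * c) ^ 2 = (g₀ * c * g₀⁻¹) * (g₀ ^ 2 * c) := by simp [pow_two, mul_assoc]
        _ = c * u ^ l₂ * (g₀ ^ 2 * c) := by rw [hgc]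
        _ = (c * g₀ ^ 2 * c) * u ^ l₂ := by rw [mul_assoc, hul.eq]; group
        _ = (g₀ ^ 2 * (c * c)) * u ^ l₂ := by rw [hBc c hcB _ hg2B]; group
        _ = e₁ * u ^ l₂ := by
          rw [hl₁, hc, two_mul, pow_add]
          group
    obtain ⟨y, hyB, hy2, hyx, hyw⟩ : ∃ y, y ∉ B ∧ y ^ 2 ∈ zpowers z ∧
        (∀ x ∈ B, y * x * y⁻¹ = g₀ * x * g₀⁻¹) ∧ y * w = w * y := by
      have hact : ∀ s ∈ B, ∀ x ∈ B, (g₀ * s) * x * (g₀ * s)⁻¹ = g₀ * x * g₀⁻¹ := fun s hs x hx => by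
        calc (g₀ * s) * x * (g₀ * s)⁻¹ = g₀ * (s * x * s⁻¹) * g₀⁻¹ := by group
          _ = _ := by rw [hBc s hs x hx, mul_inv_cancel_right]
      have hnB : ∀ s ∈ B, g₀ * s ∉ B := fun s hs h => hgB ((mul_mem_cancel_right hs).1 h)
      have hcw : ∀ s ∈ B, g₀ * s * w = w * (g₀ * s) := fun s hs => by
        refine mul_inv_eq_iff_eq_mul.1 ?_
        rw [hact s hs w hwB, hgw]
      rcases Nat.even_or_odd' l₂ with ⟨l, hl | hl⟩
      · refine ⟨g₀ * c, hnB c hcB, ?_, hact c hcB, hcw c hcB⟩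
        rw [hgc2, hl, (hupow l).1, mul_one]; exact he₁
      · refine ⟨g₀ * (c * w), hnB _ (mul_mem hcB hwB), ?_, hact _ (mul_mem hcB hwB),
          hcw _ (mul_mem hcB hwB)⟩
        rw [← mul_assoc, (show Commute (g₀ * c) w from hcw c hcB).mul_pow, hgc2, hw2, hl,
          (hupow l).2, mul_assoc, ← pow_two, huo, mul_one]
        exact he₁
    have hyb : y * b * y⁻¹ = b * u := (hyx b hb).trans hgu
    have hyt : ∀ t : D, ⁅t, y⁆ ∈ Ω := by
      intro t
      set s := ⁅t, y⁆ with hs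
      have hty : t * y * t⁻¹ = s * y := by rw [hs, commutatorElement_def]; group
      obtain ⟨e₂, he₂, j₂, hj₂, hcj⟩ := hconj t⁻¹
      rw [inv_inv] at hcj
      have hsame : (t * y * t⁻¹) * b * (t * y * t⁻¹)⁻¹ = b * u := by
        have hxB : t⁻¹ * b * t ∈ B := by simpa using hBn.conj_mem b hb t⁻¹
        calc (t * y * t⁻¹) * b * (t * y * t⁻¹)⁻¹ = t * (y * (t⁻¹ * b * t) * y⁻¹) * t⁻¹ := by group
          _ = t * (t⁻¹ * b * t * u ^ j₂) * t⁻¹ := by rw [hyx _ hxB, hcj, hgx e₂ he₂ j₂]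
          _ = b * (t * u ^ j₂ * t⁻¹) := by group
          _ = b * u := by
            rw [show u ^ j₂ = u by
              rw [show j₂ = 2 * (j₂ / 2) + 1 by omega]; exact (hupow _).2, huc t,
              mul_inv_cancel_right]
      have hsB : s ∈ B := by
        refine hcomm s ?_
        rw [hty] at hsame
        have e : s * (y * b * y⁻¹) * s⁻¹ = b * u := by rw [← hsame]; group
        rw [hyb, ← conj_mul, huc s, mul_inv_cancel_right, mul_left_inj] at e
        exact (mul_inv_eq_iff_eq_mul.1 e).symm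
      obtain ⟨e, he, l, hl⟩ := hgen s hsB
      have hy2c : t * y ^ 2 * t⁻¹ = y ^ 2 := hfix _ hy2 t
      have hs1 : s * (y * s * y⁻¹) = 1 := by
        rw [← conj_pow, hty, show (s * y) ^ 2 = s * (y * s * y⁻¹) * y ^ 2 by
          simp [pow_two, mul_assoc]] at hy2c
        exact mul_eq_right.1 hy2c
      rw [hyx s hsB, hl, hgx e he l, ← mul_assoc, ← pow_two, hepow e he] at hs1
      rcases Nat.even_or_odd' l with ⟨l', rfl | rfl⟩
      · rw [(hupow l').1, mul_one] at hs1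
        exact ⟨hsB, by rw [hl, hepow e he, hs1]⟩
      · exfalso
        rw [(hupow l').2] at hs1
        have h4 : b ^ (2 * (2 * (2 * l' + 1))) = 1 := by
          rw [pow_mul', eq_inv_of_mul_eq_one_left hs1, inv_pow, huo, inv_one]
        have hd := orderOf_dvd_of_pow_eq_one h4
        rw [hn] at hd
        have h8 : 8 ∣ 2 * (2 * (2 * l' + 1)) := (pow_dvd_pow 2 hn3).trans hd
        omega
    have hyΩ : ∀ x ∈ Ω, x * y = y * x := fun x hx => (hΩz x hx y).symm
    rcases hΩcases with ⟨h2, hnofour⟩ | h4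
    · have hle : ∀ x ∈ Ω, x ∈ zpowers z := fun x hx =>
        (Subgroup.eq_of_le_of_card_ge hzle (by rw [h2, hzcard])) ▸ hx
      have huz : u = z := (two_cases hz2 (hle u ⟨pow_mem hb _, huo⟩)).resolve_left hu1
      obtain ⟨y', hy'B, hy'2, hy't⟩ : ∃ y', y' ∉ B ∧ y' ^ 2 = 1 ∧ ∀ t, ⁅t, y'⁆ ∈ Ω := by
        rcases two_cases hz2 hy2 with q | q
        · exact ⟨y, hyB, q, hyt⟩
        refine ⟨y * w, fun h => hyB ((mul_mem_cancel_right hwB).1 h), ?_, fun t => ?_⟩
        · rw [(show Commute y w from hyw).mul_pow, q, hw2, huz, ← pow_two, hz2]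
        · rw [show ⁅t, y * w⁆ = ⁅t, y⁆ * (y * ⁅t, w⁆ * y⁻¹) by
            simp only [commutatorElement_def]; group]
          refine mul_mem (hyt t) (hΩn.conj_mem _ ?_ y)
          have hd := hBn.conj_mem w hwB t
          refine ⟨by rw [commutatorElement_def]; exact mul_mem hd (inv_mem hwB), ?_⟩
          rw [commutatorElement_def, (show Commute (t * w * t⁻¹) w⁻¹ from
            hBc _ hd _ (inv_mem hwB)).mul_pow, conj_pow, inv_pow, hw2, huc t, mul_inv_cancel_right,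
            mul_inv_cancel]
      obtain ⟨hn', hc', h2', hcard'⟩ := SmallAb92Act.grow hΩn hΩc hΩ2 hy'2
        (fun x hx => (hΩz x hx y').symm) hy't (fun h => hy'B h.1)
      have := hnofour _ hn' hc' h2' (mem_sup_left hzΩ)
      omega
    · rcases two_cases hz2 hy2 with q | q
      · obtain ⟨hn', hc', h2', hcard'⟩ :=
          SmallAb92Act.grow hΩn hΩc hΩ2 q hyΩ hyt (fun h => hyB h.1)
        have := hsmall _ hn' hc' h2'
        omega
      · exact hbad Ω hΩn hΩc hΩ2 h4 hzΩ y q hyΩ hyt (fun h => hyB h.1)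
  intro d hd
  exact mem_center_iff.2 fun g => hΩz _ ⟨hsqB d, orderOf_dvd_iff_pow_eq_one.1 (dvd_of_eq hd)⟩ g

end Cfsg.Agent.SmallAb92Root
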