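import Cfsg.Agent.Lib.SmallAb92Four
import Cfsg.Agent.Lib.SmallAb92Root

/-!
The case of a centre of order two: the commutator part is extraspecial, and either the order of the
group is known or the centre supplies an involution that is a square next to every noncentral
involution.
-/

open Subgroup
open scoped commutatorElement

set_option autoImplicit false
set_option linter.unusedSectionVars false

namespace Cfsg.Agent.SmallAb92Extra

open Cfsg.Agent.SmallAb92Act
open Cfsg.Agent.NoE8Base20 (Deg deg_mul sum_eq_zero)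
open Cfsg.Agent.NoE8Central20 (Fixed q cB q_mk cB_mk q_mem cB_mem q_one q_mul sq_one comm_V
  cB_mul_left cB_mul_right cB_self cB_symm ind ind_eq_one deg_ind_q deg_ind_cB E_ne_bot cB_bot
  eq_one_of_cB zmod_two_triple)

variable {T : Type*} [Group T] [Finite T] (S : Setting T)

/-- The centre of `X` has order two. -/
structure Ctx (E : Subgroup S.X) where
  F : Fixed (zpowers S.φX) E
  hE : Nat.card E = 2
  z : S.X
  z_mem : z ∈ center S.X
  z_ne : z ≠ 1
  z_all : ∀ e ∈ center S.X, e = 1 ∨ e = z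

theorem exists_ctx {E : Subgroup S.X} (F : Fixed (zpowers S.φX) E) (hE : Nat.card E = 2) :
    Nonempty (Ctx S E) := by
  obtain ⟨u, v, -, huv⟩ := Nat.card_eq_two_iff.mp hE
  obtain ⟨z, hz⟩ : ∃ z : E, z ≠ 1 := by
    haveI : Nontrivial E := Finite.one_lt_card_iff_nontrivial.1 (by omega)
    exact exists_ne 1
  refine ⟨⟨F, hE, z, F.center_eq.symm ▸ z.2, fun e => hz (Subtype.ext e), fun e he => ?_⟩⟩
  have mem : ∀ t : E, t = u ∨ t = v := fun t => by
    have : t ∈ ({u, v} : Set _) := huv ▸ Set.mem_univ t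
    simpa using this
  by_cases he1 : e = 1
  · exact Or.inl he1
  refine Or.inr ?_
  rw [F.center_eq] at he
  have h1 : (⟨e, he⟩ : E) ≠ 1 := fun q => he1 (congrArg Subtype.val q)
  have : (⟨e, he⟩ : E) = z := by
    rcases mem 1 with q | q <;> rcases mem ⟨e, he⟩ with q' | q' <;>
      rcases mem z with q'' | q'' <;> grind
  exact congrArg Subtype.val this

variable {S} {E : Subgroup S.X} (K : Ctx S E)

namespace Ctx

/-- The vectors fixed by the whole group. -/
def Vf (_K : Ctx S E) : Subgroup (↥S.X ⧸ center ↥S.X) where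
  carrier := {v | ∀ t, rho S.X t v = v}
  one_mem' := fun t => map_one _
  mul_mem' {a b} ha hb t := by rw [map_mul, ha t, hb t]
  inv_mem' {a} ha t := by rw [map_inv, ha t]

include K

theorem z_sq : K.z ^ 2 = 1 := center_two K.F K.z_mem

theorem z_conj (t : T) : MulAut.conjNormal t K.z = K.z := by
  have h : MulAut.conjNormal t K.z ∈ center S.X :=
    NoE8Central20.char_inv (inferInstance : (center S.X).Characteristic) _ K.z_mem
  exact (K.z_all _ h).resolve_left fun e =>
    K.z_ne ((MulAut.conjNormal t : MulAut S.X).injective (e.trans (map_one _).symm))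

theorem fix_center : ∀ e ∈ center S.X, S.φX e = e := fun e he =>
  K.F.fix _ (mem_zpowers _) e (K.F.center_eq ▸ he)

theorem conj_center (t : T) : ∀ e ∈ center S.X, MulAut.conjNormal t e = e := fun e he => by
  rcases K.z_all e he with rfl | rfl
  exacts [map_one _, K.z_conj t]

theorem z_central : (K.z : T) ∈ center T := mem_center_iff.2 fun t =>
  mul_inv_eq_iff_eq_mul.1 (congrArg Subtype.val (K.z_conj t))

theorem z_order : orderOf (K.z : T) = 2 := by
  haveI : Fact (Nat.Prime 2) := ⟨Nat.prime_two⟩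
  refine orderOf_eq_prime ?_ fun e => K.z_ne (Subtype.ext e)
  rw [← SubmonoidClass.coe_pow, K.z_sq]; rfl

theorem q_cases (v : ↥S.X ⧸ center ↥S.X) : q v = 1 ∨ q v = K.z :=
  K.z_all _ (K.F.center_eq.symm ▸ q_mem K.F v)

theorem cB_cases (v w : ↥S.X ⧸ center ↥S.X) : cB v w = 1 ∨ cB v w = K.z :=
  K.z_all _ (K.F.center_eq.symm ▸ cB_mem K.F v w)

theorem q_rho (t : T) (v : ↥S.X ⧸ center ↥S.X) : q (rho S.X t v) = q v :=
  (q_vmap K.F (MulAut.conjNormal t) v).trans (K.conj_center t _ (K.F.center_eq.symm ▸ q_mem K.F v))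

theorem cB_rho (t : T) (v w : ↥S.X ⧸ center ↥S.X) :
    cB (rho S.X t v) (rho S.X t w) = cB v w :=
  (cB_vmap K.F (MulAut.conjNormal t) v w).trans
    (K.conj_center t _ (K.F.center_eq.symm ▸ cB_mem K.F v w))

theorem q_alpha (v : ↥S.X ⧸ center ↥S.X) : q (vmap S.X S.φX v) = q v :=
  (q_vmap K.F S.φX v).trans (K.fix_center _ (K.F.center_eq.symm ▸ q_mem K.F v))

theorem zz : K.z * K.z = 1 := by rw [← pow_two]; exact K.z_sq

theorem split : ∀ a ∈ E, ∀ b ∈ E, (a * b ∈ (⊥ : Subgroup S.X) ↔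
    (a ∈ (⊥ : Subgroup S.X) ↔ b ∈ (⊥ : Subgroup S.X))) := by
  intro a ha b hb
  rw [← K.F.center_eq] at ha hb
  rcases K.z_all a ha with rfl | rfl <;> rcases K.z_all b hb with rfl | rfl <;>
    simp [K.z_ne, K.zz]

theorem ind_one {e : S.X} : ind (⊥ : Subgroup S.X) e = 1 ↔ e = 1 := by
  rw [ind_eq_one, mem_bot]

theorem card_zx : Nat.card ↥((center S.X).map S.X.subtype) = 2 := by
  rw [card_map_of_injective S.X.subtype_injective, K.F.center_eq, K.hE]

theorem exists_fixed_singular (h4 : 4 < Nat.card (↥S.X ⧸ center ↥S.X)) :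
    ∃ v, v ≠ 1 ∧ q v = 1 ∧ ∀ t, rho S.X t v = v := by
  classical
  haveI : Fintype (↥S.X ⧸ center ↥S.X) := Fintype.ofFinite _
  by_contra hno
  have hodd : Odd (Nat.card {v : ↥S.X ⧸ center ↥S.X // q v = 1}) :=
    odd_of_no_fixed S.hT (rho S.X) _ (fun t v hv => (K.q_rho t v).trans hv) (q_one K.F)
      fun v hv hfix => by_contra fun h => hno ⟨v, h, hv, hfix⟩
  rw [Nat.card_congr (Equiv.subtypeEquivRight fun v => (K.ind_one (e := q v)).symm), odd_iff_cast,
    card_cast] at hodd
  have h0 := sum_eq_zero (comm_V K.F) (sq_one K.F) 2 _ ⊤ (deg_ind_q K.F K.split)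
    (by rw [Subgroup.card_top]; exact h4)
  simp only [Subgroup.mem_top, Finset.filter_true] at h0
  exact one_ne_zero (hodd.symm.trans h0)

/-- Two orthogonal singular vectors fixed modulo each other give a normal `E₈`. -/
theorem no_pair {v w : ↥S.X ⧸ center ↥S.X} (hv : q v = 1) (hw : q w = 1) (hvw : cB v w = 1)
    (hv1 : v ≠ 1) (hw1 : w ≠ 1) (hne : w ≠ v) (hvfix : ∀ t, rho S.X t v = v)
    (hwfix : ∀ t, rho S.X t w = w ∨ rho S.X t w = v * w) : False := by
  set Z := (center S.X).map S.X.subtype with hZ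
  haveI hZn : Z.Normal := by rw [hZ]; infer_instance
  set x := ((v.out : S.X) : T) with hx
  set y := ((w.out : S.X) : T) with hy
  have hxX : x ∈ S.X := SetLike.coe_mem _
  have hyX : y ∈ S.X := SetLike.coe_mem _
  have hx2 : x ^ 2 = 1 := by rw [hx, out_sq K.F, hv]; rfl
  have hy2 : y ^ 2 = 1 := by rw [hy, out_sq K.F, hw]; rfl
  have hxZ : x ∉ Z := fun h => hv1 (out_mem_zx h)
  obtain ⟨hAn, hAc, hA2, hAcard⟩ := grow (A := Z) hZn
    (fun a ha b hb => zx_comm a ha b (map_subtype_le _ hb)) (zx_two K.F) hx2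
    (fun a ha => zx_comm a ha x hxX) (fixed_lift hvfix) hxZ
  set A := Z ⊔ zpowers x
  have hxy : Commute x y := by
    have h : (⁅w.out, v.out⁆ : S.X) = 1 := hvw
    exact congrArg Subtype.val (commutatorElement_eq_one_iff_mul_comm.1 h).symm
  have hyA : y ∉ A := fun h => by
    obtain ⟨e, he, _, ⟨i, rfl⟩, hei⟩ := mem_sup_of_normal_left.1 h
    obtain ⟨e', he', rfl⟩ := he
    have he : w.out = e' * v.out ^ i := Subtype.ext (by
      rw [coe_mul, SubgroupClass.coe_zpow]; exact hei.symm)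
    have e1 : w = v ^ i := by
      rw [← QuotientGroup.out_eq' w, he, QuotientGroup.mk_mul, (QuotientGroup.eq_one_iff e').2 he',
        one_mul, QuotientGroup.mk_zpow, QuotientGroup.out_eq']
    rcases Int.even_or_odd' i with ⟨j, rfl | rfl⟩
    · rw [zpow_mul, zpow_ofNat, pow_two, sq_one K.F, one_zpow] at e1
      exact hw1 e1
    · rw [zpow_add, zpow_mul, zpow_ofNat, pow_two, sq_one K.F, one_zpow, one_mul, zpow_one] at e1
      exact hne e1
  have hcomm : ∀ t : T, ⁅t, y⁆ ∈ A := by
    intro t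
    have key : ∀ r : S.X, rho S.X t w = QuotientGroup.mk (r * w.out) →
        ∃ e ∈ center S.X, ⁅t, y⁆ = (r : T) * (e : T) := by
      intro r hr
      have h : QuotientGroup.mk (MulAut.conjNormal t w.out) =
          (QuotientGroup.mk (r * w.out) : ↥S.X ⧸ center ↥S.X) := by
        rw [← hr]
        nth_rewrite 2 [← QuotientGroup.out_eq' w]
        rfl
      rw [eq_comm, QuotientGroup.eq] at h
      refine ⟨_, h, ?_⟩
      have hc := zx_comm _ (mem_zx.2 h) y hyX
      simp only [coe_mul, coe_inv, MulAut.conjNormal_apply, ← hy] at hc ⊢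
      rw [commutatorElement_def]
      calc t * y * t⁻¹ * y⁻¹
          = ((r : T) * (y * (((r : T) * y)⁻¹ * (t * y * t⁻¹)))) * y⁻¹ := by group
        _ = ((r : T) * ((((r : T) * y)⁻¹ * (t * y * t⁻¹)) * y)) * y⁻¹ := by rw [hc]
        _ = (r : T) * (((r : T) * y)⁻¹ * (t * y * t⁻¹)) := by group
    rcases hwfix t with h | h
    · obtain ⟨e, he, hte⟩ := key 1 (by rw [one_mul, QuotientGroup.out_eq']; exact h)
      rw [hte, coe_one, one_mul]
      exact mem_sup_left (mem_zx.2 he)
    · obtain ⟨e, he, hte⟩ := key v.out (by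
        rw [QuotientGroup.mk_mul, QuotientGroup.out_eq', QuotientGroup.out_eq']; exact h)
      rw [hte]
      exact mul_mem (mem_sup_right (mem_zpowers x)) (mem_sup_left (mem_zx.2 he))
  have hyc : ∀ a ∈ A, a * y = y * a := fun a ha => by
    obtain ⟨e, he, _, ⟨i, rfl⟩, rfl⟩ := mem_sup_of_normal_left.1 ha
    exact ((show Commute e y from zx_comm e he y hyX).mul_left (hxy.zpow_left i)).eq
  obtain ⟨hBn, hBc, hB2, hBcard⟩ := grow hAn hAc hA2 hy2 hyc hcomm hyA
  have := S.small _ hBn hBc hB2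
  rw [hBcard, hAcard, K.card_zx] at this
  omega

/-- There is no quotient of order at least thirty-two. -/
theorem card_le : Nat.card (↥S.X ⧸ center ↥S.X) ≤ 16 := by
  classical
  haveI : Fintype (↥S.X ⧸ center ↥S.X) := Fintype.ofFinite _
  haveI : Fact (Nat.Prime 2) := ⟨Nat.prime_two⟩
  by_contra hlt
  obtain ⟨v, hv1, hvq, hvfix⟩ := K.exists_fixed_singular (by omega)
  obtain ⟨u, hu⟩ : ∃ u, cB v u = K.z := by
    by_contra hno
    push Not at hno
    exact hv1 (eq_one_of_cB K.F fun u => (K.cB_cases v u).resolve_right (hno u))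
  have hvv : v * v = 1 := sq_one K.F v
  let π : (↥S.X ⧸ center ↥S.X) → (↥S.X ⧸ center ↥S.X) := fun w => if cB u w = 1 then w else w * v
  have huv : cB u v = K.z := by rw [cB_symm K.F, hu]
  have hπv : ∀ w, π (w * v) = π w := by
    intro w
    simp only [π, cB_mul_right K.F, huv]
    rcases K.cB_cases u w with h | h <;> simp [h, K.z_ne, K.zz, mul_assoc, hvv]
  have hπcases : ∀ w, π w = w ∨ π w = w * v := fun w => by
    simp only [π]; split_ifs <;> simp
  let P : (↥S.X ⧸ center ↥S.X) → Prop := fun w => q w = 1 ∧ cB v w = 1 ∧ cB u w = 1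
  have hP : ∀ t w, P w → P (π (rho S.X t w)) := by
    rintro t w ⟨h1, h2, -⟩
    have a1 : q (rho S.X t w) = 1 := (K.q_rho t w).trans h1
    have a2 : cB v (rho S.X t w) = 1 := by
      have := K.cB_rho t v w
      rwa [hvfix, h2] at this
    simp only [P, π]
    split_ifs with h
    · exact ⟨a1, a2, h⟩
    · refine ⟨?_, ?_, ?_⟩
      · rw [q_mul K.F, a1, hvq, cB_symm K.F, a2, one_mul, one_mul]
      · rw [cB_mul_right K.F, a2, cB_self K.F, one_mul]
      · rw [cB_mul_right K.F, huv, (K.cB_cases u _).resolve_left h, K.zz]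
  letI : SMul T {w // P w} := ⟨fun t w => ⟨π (rho S.X t w), hP t w w.2⟩⟩
  letI : MulAction T {w // P w} :=
    { one_smul := fun w => Subtype.ext (show π (rho S.X 1 (w : ↥S.X ⧸ center ↥S.X)) = w by
        rw [map_one]; simp only [π, MulAut.one_apply]; rw [if_pos w.2.2.2])
      mul_smul := fun s t w => Subtype.ext (show π (rho S.X (s * t) (w : ↥S.X ⧸ center ↥S.X)) =
          π (rho S.X s (π (rho S.X t (w : ↥S.X ⧸ center ↥S.X)))) by
        rw [map_mul, MulAut.mul_apply]
        rcases hπcases (rho S.X t (w : ↥S.X ⧸ center ↥S.X)) with e | e <;> rw [e]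
        rw [map_mul, hvfix, hπv]) }
  have h10 : cB v (1 : ↥S.X ⧸ center ↥S.X) = 1 := SmallAb92Four.cB_one S K.F v
  have h20 : cB u (1 : ↥S.X ⧸ center ↥S.X) = 1 := SmallAb92Four.cB_one S K.F u
  have hdvd : 2 ∣ Nat.card {w // P w} := by
    have hiff : ∀ w : ↥S.X ⧸ center ↥S.X, P w ↔
        ind (⊥ : Subgroup S.X) (q w) * ind (⊥ : Subgroup S.X) (cB w v) *
          ind (⊥ : Subgroup S.X) (cB w u) = 1 := by
      intro w
      simp only [P]
      rw [cB_symm K.F w v, cB_symm K.F w u]
      constructor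
      · rintro ⟨a, b, c⟩
        rw [K.ind_one.2 a, K.ind_one.2 b, K.ind_one.2 c, one_mul, one_mul]
      · intro h
        obtain ⟨a, b, c⟩ := zmod_two_triple _ _ _ h
        exact ⟨K.ind_one.1 a, K.ind_one.1 b, K.ind_one.1 c⟩
    rw [Nat.card_congr (Equiv.subtypeEquivRight hiff)]
    have h0 := sum_eq_zero (comm_V K.F) (sq_one K.F) 4 _ ⊤
      (deg_mul (comm_V K.F) 4 3 1 _ _ rfl
        (deg_mul (comm_V K.F) 3 2 1 _ _ rfl (deg_ind_q K.F K.split) (deg_ind_cB K.F K.split v))
        (deg_ind_cB K.F K.split u)) (by rw [Subgroup.card_top]; omega)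
    simp only [Subgroup.mem_top, Finset.filter_true] at h0
    rw [← ZMod.natCast_eq_zero_iff, card_cast]
    exact h0
  obtain ⟨w, hw, hne⟩ := S.hT.exists_fixed_point_of_prime_dvd_card_of_fixed_point {w // P w} hdvd
    (a := ⟨1, q_one K.F, h10, h20⟩) (fun t => Subtype.ext (show π (rho S.X t 1) = 1 by
      simp only [π, map_one]; rw [if_pos h20]))
  have hw1 : (w : ↥S.X ⧸ center ↥S.X) ≠ 1 := fun e => hne (Subtype.ext e.symm)
  have hwv : (w : ↥S.X ⧸ center ↥S.X) ≠ v := fun e => K.z_ne (by rw [← huv, ← e]; exact w.2.2.2)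
  refine K.no_pair hvq w.2.1 w.2.2.1 hv1 hw1 hwv hvfix fun t => ?_
  have ht : π (rho S.X t w) = w := congrArg Subtype.val (hw t)
  rcases hπcases (rho S.X t w) with e | e
  · exact Or.inl (e.symm.trans ht)
  · right
    conv_rhs => rw [ht.symm.trans e]
    rw [comm_V K.F v, mul_assoc, hvv, mul_one]

theorem Vf_alpha {v : ↥S.X ⧸ center ↥S.X} (hv : v ∈ K.Vf) : vmap S.X S.φX v ∈ K.Vf := by
  intro t
  obtain ⟨x, hx, c, hc, rfl⟩ := S.exists_decomp t
  rw [map_mul, S.rho_X K.F hx, one_mul, ← S.vmap_rho hc, hv c]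

theorem centralises (hfix : ∀ t v, rho S.X t v = v) {c : T} (hc : c ∈ S.C) {x : T} (hx : x ∈ S.X) :
    c * x = x * c := by
  have h := congrArg Subtype.val
    (S.centralises_of_trivial K.fix_center hc (MulEquiv.ext fun v => hfix c v) ⟨x, hx⟩)
  exact mul_inv_eq_iff_eq_mul.1 h

theorem inf_eq : S.X ⊓ S.C = (center S.X).map S.X.subtype := by
  refine le_antisymm ?_ ?_
  · rintro x ⟨hx, hxc⟩
    exact mem_zx.2 (SmallAb92Four.fixed_mem_center S K.F (x := ⟨x, hx⟩) (Subtype.ext hxc))
  · rintro _ ⟨e, he, rfl⟩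
    exact ⟨e.2, congrArg Subtype.val (K.fix_center e he)⟩

theorem z_mem_C : (K.z : T) ∈ S.C := congrArg Subtype.val (K.fix_center _ K.z_mem)

/-- The conclusion of this case. -/
def _root_.Cfsg.Agent.SmallAb92Extra.Concl (z : T) : Prop :=
  z ∈ center T ∧ orderOf z = 2 ∧ (∀ d : T, orderOf (d ^ 2) = 2 → d ^ 2 ∈ center T) ∧
    ∀ t : T, orderOf t = 2 → t ∉ center T → ∃ i : T, i * t = t * i ∧ i ^ 2 = z

theorem case_sixteen (h16 : Nat.card (↥S.X ⧸ center ↥S.X) = 16) : Concl (K.z : T) := by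
  classical
  haveI : Fact (Nat.Prime 2) := ⟨Nat.prime_two⟩
  set α := vmap S.X S.φX
  have hα : ∀ v, α v = v → v = 1 := fun v hv => S.fixfree K.F hv
  have h2 := sq_one K.F
  have hcm := comm_V K.F
  obtain ⟨v, hv1, hvq, hvfix⟩ := K.exists_fixed_singular (by omega)
  -- everything is fixed
  have htop : K.Vf = ⊤ := by
    obtain ⟨k, hk⟩ := IsPGroup.iff_card.mp
      (((S.hT.to_subgroup S.X).to_quotient (center S.X)).to_subgroup K.Vf)
    have hdvd : Nat.card K.Vf ≤ 16 := h16 ▸ Subgroup.card_le_card_group K.Vf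
    have hne1 : Nat.card K.Vf ≠ 1 := fun h => by
      rw [Subgroup.card_eq_one] at h
      exact hv1 (mem_bot.1 (h ▸ (hvfix : v ∈ K.Vf)))
    have hne2 := card_ne_two α hα K.Vf fun w hw => K.Vf_alpha hw
    have hne4 : Nat.card K.Vf ≠ 4 := fun h4 => by
      obtain ⟨hcyc, -⟩ := SmallAb92Four.four_cycle α hα h4 (fun w hw => K.Vf_alpha hw)
        (fun a _ b _ => hcm a b) (fun a _ => h2 a) (hvfix : v ∈ K.Vf) hv1
      have hq1 : q (α v) = 1 := (K.q_alpha v).trans hvq
      have hq2 : q (v * α v) = 1 := by rw [← hcyc]; exact (K.q_alpha _).trans hq1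
      rw [q_mul K.F, hvq, hq1, one_mul, one_mul] at hq2
      exact K.no_pair hvq hq1 hq2 hv1
        (fun e => hv1 (α.injective (e.trans (map_one α).symm))) (fun e => hv1 (hα v e))
        hvfix fun t => Or.inl (K.Vf_alpha hvfix t)
    have h16' : Nat.card K.Vf = 16 ∨ Nat.card K.Vf = 8 := by
      have hk4 : k ≤ 4 := by
        by_contra hk4
        have : 2 ^ 5 ≤ 2 ^ k := Nat.pow_le_pow_right (by norm_num) (by omega)
        omega
      interval_cases k <;> omega
    rcases h16' with h | h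
    · exact Subgroup.eq_top_of_card_eq _ (h.trans h16.symm)
    · have hidx : K.Vf.index = 2 := by
        have := K.Vf.card_mul_index
        rw [h, h16] at this
        omega
      rw [eq_top_iff]
      intro w _
      let δ : (↥S.X ⧸ center ↥S.X) →* (↥S.X ⧸ center ↥S.X) :=
        MonoidHom.mk' (fun a => a * α a) fun a b => by
          rw [map_mul, show a * b * (α a * α b) = a * (b * α a) * α b by group, hcm b (α a)]
          group
      have hinj : Function.Injective δ := (injective_iff_map_eq_one δ).2 fun a ha => by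
        refine hα a ?_
        change a * α a = 1 at ha
        rw [eq_inv_of_mul_eq_one_right ha, inv_eq_of_mul_eq_one_right (h2 a)]
      obtain ⟨a, rfl⟩ := Finite.surjective_of_injective hinj w
      show a * α a ∈ K.Vf
      rw [mul_mem_iff_of_index_two hidx]
      refine ⟨fun ha => K.Vf_alpha ha, fun ha => ?_⟩
      have hrestr : Function.Surjective (fun b : K.Vf => (⟨α b, K.Vf_alpha b.2⟩ : K.Vf)) :=
        Finite.surjective_of_injective fun b c e =>
          Subtype.ext (α.injective (congrArg Subtype.val e))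
      obtain ⟨b, hb⟩ := hrestr ⟨α a, ha⟩
      exact α.injective (congrArg Subtype.val hb) ▸ b.2
  have hfix : ∀ t w, rho S.X t w = w := fun t w => (htop ▸ mem_top w : w ∈ K.Vf) t
  set Z := (center S.X).map S.X.subtype with hZ
  haveI hZn : Z.Normal := by rw [hZ]; infer_instance
  -- an anisotropic vector orthogonal to a singular one
  have hperp : ∀ w, w ≠ 1 → q w = 1 → ∃ a, cB w a = 1 ∧ q a = K.z := by
    intro w hw1 hwq
    obtain ⟨u, hu⟩ : ∃ u, cB w u = K.z := by
      by_contra hno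
      push Not at hno
      exact hw1 (eq_one_of_cB K.F fun u => (K.cB_cases w u).resolve_right (hno u))
    obtain ⟨a, ha⟩ : ∃ a, a ∉ ({1, w, u, w * u} : Set (↥S.X ⧸ center ↥S.X)) := by
      by_contra hno
      push Not at hno
      have h := Set.ncard_le_ncard (s := (Set.univ : Set (↥S.X ⧸ center ↥S.X)))
        (t := {1, w, u, w * u}) fun a _ => hno a
      have h4 : ({1, w, u, w * u} : Set (↥S.X ⧸ center ↥S.X)).ncard ≤ 4 := by
        refine (Set.ncard_insert_le _ _).trans ?_
        refine Nat.add_le_add_right ((Set.ncard_insert_le _ _).trans ?_) 1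
        refine Nat.add_le_add_right ((Set.ncard_insert_le _ _).trans ?_) 1
        rw [Set.ncard_singleton]
      rw [Set.ncard_univ, h16] at h
      omega
    simp only [Set.mem_insert_iff, Set.mem_singleton_iff, not_or] at ha
    obtain ⟨ha1, haw, hau, hawu⟩ := ha
    have key : ∀ b, cB w b = 1 → b ≠ 1 → b ≠ w → q b = K.z := fun b hb hb1 hbw =>
      (K.q_cases b).resolve_left fun hq =>
        K.no_pair hwq hq hb hw1 hb1 hbw (hfix · w) fun t => Or.inl (hfix t b)
    rcases K.cB_cases w a with h | h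
    · exact ⟨a, h, key a h ha1 haw⟩
    · refine ⟨u * a, ?_, key _ ?_ ?_ ?_⟩
      · rw [cB_mul_right K.F, hu, h, K.zz]
      · rw [cB_mul_right K.F, hu, h, K.zz]
      · exact fun e => hau ((eq_inv_of_mul_eq_one_right e).trans
          (inv_eq_of_mul_eq_one_right (h2 u)))
      · intro e
        refine hawu ?_
        rw [← e, mul_assoc, hcm a u, ← mul_assoc, h2, one_mul]
  -- the whole group is `X`
  have hTX : ∀ t : T, t ∈ S.X := by
    intro t
    obtain ⟨x, hx, c, hc, rfl⟩ := S.exists_decomp t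
    refine mul_mem hx ?_
    by_contra hcX
    set D := centralizer (S.X : Set T) with hD
    have hcD : c ∈ D := mem_centralizer_iff.2 fun y hy => (K.centralises hfix hc hy).symm
    have hZD : Z ≤ D := fun z hz => mem_centralizer_iff.2 fun y hy => (zx_comm z hz y hy).symm
    have hXD : ∀ u ∈ S.X, u ∈ D → u ∈ Z := fun u hu huD =>
      ⟨⟨u, hu⟩, mem_center_iff.2 fun y => Subtype.ext (mem_centralizer_iff.1 huD y y.2), rfl⟩
    have hlt : Z < D := lt_of_le_of_ne hZD fun e => hcX (map_subtype_le _ (e ▸ hcD))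
    obtain ⟨M, hM, hZM, hMD, hMc⟩ := PGroupsBasic.exists_normal_succ S.hT hlt
    haveI := hM
    obtain ⟨u, huM, huZ⟩ := PGroupsCritical.exists_succ_not_le hZM hMc
    have hut : ∀ s : T, ⁅s, u⁆ ∈ Z :=
      fun s => PGroupsCritical.commutator_mem_of_succ S.hT hZM hMc huM s
    have hu2 : u ^ 2 ∈ Z := by
      have hidx : (Z.subgroupOf M).index = 2 := by
        have := (Z.subgroupOf M).card_mul_index
        rw [Nat.card_congr (subgroupOfEquivOfLe hZM).toEquiv, hMc] at this
        exact Nat.eq_of_mul_eq_mul_left Nat.card_pos this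
      have := sq_mem_of_index_two hidx (⟨u, huM⟩ : M)
      simpa [mem_subgroupOf] using this
    have hux : ∀ y ∈ S.X, y * u = u * y := fun y hy => mem_centralizer_iff.1 (hMD huM) y hy
    have huX : u ∉ S.X := fun h => huZ (hXD u h (hMD huM))
    obtain ⟨a, hva, haq⟩ := hperp v hv1 hvq
    set x₀ := ((v.out : S.X) : T) with hx₀
    have hx₀X : x₀ ∈ S.X := SetLike.coe_mem _
    obtain ⟨hAn, hAc, hA2, hAcard⟩ := grow (A := Z) hZn
      (fun a ha b hb => zx_comm a ha b (map_subtype_le _ hb)) (zx_two K.F)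
      (show x₀ ^ 2 = 1 by rw [hx₀, out_sq K.F, hvq]; rfl)
      (fun a ha => zx_comm a ha x₀ hx₀X) (fixed_lift (hfix · v))
      (fun h => hv1 (out_mem_zx h))
    have hAX : Z ⊔ zpowers x₀ ≤ S.X := sup_le (map_subtype_le _) (zpowers_le.2 hx₀X)
    obtain ⟨r, hrX, hr2, hrc, hrt⟩ : ∃ r ∈ S.X, (r * u) ^ 2 = 1 ∧
        (∀ b ∈ Z ⊔ zpowers x₀, b * r = r * b) ∧ ∀ s : T, ⁅s, r⁆ ∈ Z := by
      obtain ⟨e, he, heu⟩ := hu2
      change (e : T) = u ^ 2 at heu
      rcases K.z_all e he with rfl | rfl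
      · exact ⟨1, one_mem _, by rw [one_mul, ← heu]; rfl, fun b _ => by rw [one_mul, mul_one],
          fun s => by rw [commutatorElement_one_right]; exact one_mem _⟩
      · refine ⟨((a.out : S.X) : T), SetLike.coe_mem _, ?_, fun b hb => ?_, fixed_lift (hfix · a)⟩
        · rw [(show Commute ((a.out : S.X) : T) u from hux _ (SetLike.coe_mem _)).mul_pow,
            out_sq K.F, haq, ← heu, ← coe_mul, K.zz, coe_one]
        · have hxa : Commute x₀ ((a.out : S.X) : T) := by
            have h : (⁅a.out, v.out⁆ : S.X) = 1 := hva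
            exact congrArg Subtype.val (commutatorElement_eq_one_iff_mul_comm.1 h).symm
          obtain ⟨e', he', _, ⟨i, rfl⟩, rfl⟩ := mem_sup_of_normal_left.1 hb
          exact ((show Commute e' _ from zx_comm e' he' _ (SetLike.coe_mem a.out)).mul_left
            (hxa.zpow_left i)).eq
    obtain ⟨hBn, hBc, hB2, hBcard⟩ := grow hAn hAc hA2 hr2
      (fun b hb => ((show Commute b r from hrc b hb).mul_right (hux b (hAX hb))).eq)
      (fun s => by
        rw [show ⁅s, r * u⁆ = ⁅s, r⁆ * (r * ⁅s, u⁆ * r⁻¹) by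
          simp only [commutatorElement_def]; group]
        exact mem_sup_left (mul_mem (hrt s) (hZn.conj_mem _ (hut s) r)))
      (fun h => huX ((mul_mem_cancel_left hrX).1 (hAX h)))
    have := S.small _ hBn hBc hB2
    rw [hBcard, hAcard, K.card_zx] at this
    omega
  refine ⟨K.z_central, K.z_order, fun d _ => ?_, fun t ht htc => ?_⟩
  · rcases K.z_all _ (K.F.center_eq.symm ▸ K.F.sq ⟨d, hTX d⟩) with h | h
    · have h' : d ^ 2 = 1 := congrArg Subtype.val h
      rw [h']; exact one_mem _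
    · have h' : d ^ 2 = (K.z : T) := congrArg Subtype.val h
      rw [h']; exact K.z_central
  · set w := (QuotientGroup.mk (⟨t, hTX t⟩ : S.X) : ↥S.X ⧸ center ↥S.X)
    have hw1 : w ≠ 1 := fun e => htc (mem_center_iff.2 fun s => congrArg Subtype.val
      (mem_center_iff.1 ((QuotientGroup.eq_one_iff _).1 e) ⟨s, hTX s⟩))
    have ht2 : (⟨t, hTX t⟩ : S.X) ^ 2 = 1 := Subtype.ext (by
      show t ^ 2 = 1
      exact orderOf_dvd_iff_pow_eq_one.1 (dvd_of_eq ht))
    obtain ⟨a, hwa, haq⟩ := hperp w hw1 ((q_mk K.F _).trans ht2)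
    refine ⟨((a.out : S.X) : T), ?_, by rw [out_sq K.F, haq]⟩
    have h : cB w a = 1 := hwa
    rw [← QuotientGroup.out_eq' a, cB_mk K.F] at h
    exact congrArg Subtype.val (commutatorElement_eq_one_iff_mul_comm.1 h)

theorem case_four (h4 : Nat.card (↥S.X ⧸ center ↥S.X) = 4) :
    Nat.card T = 64 ∨ Nat.card T = 128 ∨ Concl (K.z : T) := by
  classical
  haveI : Fact (Nat.Prime 2) := ⟨Nat.prime_two⟩
  have h2 := sq_one K.F
  have hconst := SmallAb92Crit.orbit_const S.hyp K.F (by omega)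
  have hqz : ∀ v, v ≠ 1 → q v = K.z := by
    intro v hv
    refine (K.q_cases v).resolve_left fun hq => E_ne_bot K.F (cB_bot K.F fun a b => ?_)
    have hall : ∀ w : ↥S.X ⧸ center ↥S.X, q w = 1 := fun w => by
      by_cases hw : w = 1
      · rw [hw, q_one K.F]
      · rw [hconst w v hw hv, hq]
    have h := q_mul K.F a b
    rw [hall, hall, hall, one_mul, one_mul] at h
    exact h.symm
  have htop : K.Vf = ⊤ := by
    have hne1 : Nat.card K.Vf ≠ 1 := fun h => by
      rw [Subgroup.card_eq_one] at h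
      have hodd := odd_of_no_fixed S.hT (rho S.X) (fun _ => True) (fun _ _ _ => trivial) trivial
        fun w _ hw => mem_bot.1 (h ▸ (hw : w ∈ K.Vf))
      rw [Nat.card_congr (Equiv.subtypeUnivEquiv fun _ => trivial), h4] at hodd
      exact absurd hodd (by decide)
    have hne2 := card_ne_two _ (fun v hv => S.fixfree K.F hv) K.Vf fun w hw => K.Vf_alpha hw
    have hd : Nat.card K.Vf ∣ 4 := h4 ▸ Subgroup.card_subgroup_dvd_card K.Vf
    refine Subgroup.eq_top_of_card_eq _ ?_
    have hle := Nat.le_of_dvd (by norm_num) hd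
    have hpos : 0 < Nat.card K.Vf := Nat.card_pos
    rw [h4]
    generalize Nat.card K.Vf = r at *
    interval_cases r <;> omega
  have hfix : ∀ t w, rho S.X t w = w := fun t w => (htop ▸ mem_top w : w ∈ K.Vf) t
  have hcx : ∀ c ∈ S.C, ∀ x ∈ S.X, c * x = x * c := fun c hc x hx => K.centralises hfix hc hx
  have hX : Nat.card S.X = 8 := by
    rw [Subgroup.card_eq_card_quotient_mul_card_subgroup (center S.X), h4, K.F.center_eq, K.hE]
  have hcard := S.card_eq
  rw [K.inf_eq, K.card_zx, hX] at hcard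
  by_cases h16 : Nat.card S.C = 16
  · left; omega
  by_cases h32 : Nat.card S.C = 32
  · right; left; omega
  right; right
  obtain ⟨v, hv⟩ : ∃ v : ↥S.X ⧸ center ↥S.X, v ≠ 1 := by
    haveI : Nontrivial (↥S.X ⧸ center ↥S.X) := Finite.one_lt_card_iff_nontrivial.1 (by omega)
    exact exists_ne 1
  set i := ((v.out : S.X) : T) with hi
  have hiX : i ∈ S.X := SetLike.coe_mem _
  have hi2 : i ^ 2 = K.z := by rw [hi, out_sq K.F, hqz v hv]
  have hiC : i ∉ S.C := fun h => hv (out_mem_zx (K.inf_eq ▸ (⟨hiX, h⟩ : i ∈ S.X ⊓ S.C)))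
  let z' : S.C := ⟨K.z, K.z_mem_C⟩
  have hz'c : z' ∈ center S.C := mem_center_iff.2 fun c =>
    Subtype.ext (mem_center_iff.1 K.z_central c)
  have hnormal : ∀ N : Subgroup S.C, N.Normal → (N.map S.C.subtype).Normal := by
    intro N hN
    refine ⟨?_⟩
    rintro _ ⟨a, ha, rfl⟩ t
    obtain ⟨x, hx, c, hc, rfl⟩ := S.exists_decomp t
    refine ⟨⟨c, hc⟩ * a * ⟨c, hc⟩⁻¹, hN.conj_mem a ha _, ?_⟩
    show c * (a : T) * c⁻¹ = x * c * (a : T) * (x * c)⁻¹
    rw [show x * c * (a : T) * (x * c)⁻¹ = x * (c * (a : T) * c⁻¹) * x⁻¹ by group,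
      ← hcx _ (mul_mem (mul_mem hc a.2) (inv_mem hc)) x hx, mul_inv_cancel_right]
  have hcen : ∀ d ∈ S.C, orderOf (d ^ 2) = 2 → ∀ g ∈ S.C, g * d ^ 2 = d ^ 2 * g := by
    rcases (show Nat.card S.C ≤ 8 ∨ 64 ≤ Nat.card S.C by
      obtain ⟨k, hk⟩ := IsPGroup.iff_card.mp (S.hT.to_subgroup S.C)
      rw [hk] at h16 h32 ⊢
      rcases (show k ≤ 3 ∨ k = 4 ∨ k = 5 ∨ 6 ≤ k by omega) with h | rfl | rfl | h
      · left; exact (Nat.pow_le_pow_right (by norm_num) h).trans (by norm_num)
      · omega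
      · omega
      · right; exact le_trans (by norm_num) (Nat.pow_le_pow_right (by norm_num) h)) with h8 | h64
    · intro d hd hd2 g hg
      set δ : S.C := ⟨d, hd⟩
      have hd4 : orderOf δ = 4 := by
        have h : orderOf (δ ^ 2) = 2 := by rw [← Subgroup.orderOf_coe]; exact hd2
        rw [orderOf_eq_prime_pow (p := 2) (n := 1) (x := δ)]
        · rfl
        · rw [pow_one]
          intro e
          rw [e, orderOf_one] at h
          omega
        · rw [show 2 ^ (1 + 1) = 2 * 2 from rfl, pow_mul]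
          exact orderOf_dvd_iff_pow_eq_one.1 (dvd_of_eq h)
      by_cases hgen : (⟨g, hg⟩ : S.C) ∈ zpowers δ
      · obtain ⟨k, hk⟩ := hgen
        have : g = d ^ k := (congrArg Subtype.val hk).symm
        rw [this]
        exact ((Commute.refl d).zpow_left k).pow_right 2
      have hidx : (zpowers δ).index = 2 := by
        have h := (zpowers δ).card_mul_index
        rw [Nat.card_zpowers, hd4] at h
        have h1 : (zpowers δ).index ≠ 1 := fun e => hgen (index_eq_one.1 e ▸ mem_top _)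
        have h0 : (zpowers δ).index ≠ 0 := index_ne_zero_of_finite
        omega
      haveI := normal_of_index_eq_two hidx
      obtain ⟨k, hk⟩ := (inferInstance : (zpowers δ).Normal).conj_mem δ (mem_zpowers δ) ⟨g, hg⟩
      have hk' : g * d * g⁻¹ = d ^ k := (congrArg Subtype.val hk).symm
      have hd2' : (d ^ 2) ^ (2 : ℤ) = 1 := by
        rw [zpow_ofNat]; exact orderOf_dvd_iff_pow_eq_one.1 (dvd_of_eq hd2)
      have hconj : g * d ^ 2 * g⁻¹ = (d ^ 2) ^ k := by
        rw [← conj_pow, hk', ← zpow_natCast, ← zpow_natCast, ← zpow_mul, ← zpow_mul, mul_comm]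
      refine mul_inv_eq_iff_eq_mul.1 (hconj.trans ?_)
      rcases Int.even_or_odd' k with ⟨j, rfl | rfl⟩
      · exfalso
        rw [zpow_mul, hd2', one_zpow, conj_eq_one_iff] at hconj
        rw [hconj, orderOf_one] at hd2
        omega
      · rw [zpow_add, zpow_mul, hd2', one_zpow, one_mul, zpow_one]
    · have h := SmallAb92Root.squares_central (S.hT.to_subgroup S.C) hz'c
        (fun e => K.z_ne (Subtype.ext (congrArg (fun w : S.C => (w : T)) e)))
        (Subtype.ext (show (K.z : T) ^ 2 = 1 by rw [← SubmonoidClass.coe_pow, K.z_sq]; rfl))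
        (fun N hN hNc hN2 => by
          rw [← card_map_of_injective S.C.subtype_injective]
          refine S.small _ (hnormal N hN) ?_ ?_
          · rintro _ ⟨a, ha, rfl⟩ _ ⟨b, hb, rfl⟩
            rw [← map_mul, ← map_mul, hNc a ha b hb]
          · rintro _ ⟨a, ha, rfl⟩
            rw [← map_pow, hN2 a ha, map_one])
        (fun N hN hNc hN2 hN4 hzN g hg hgc hgt _ => by
          set A := N.map S.C.subtype
          have hAC : A ≤ S.C := map_subtype_le _
          have hZA : (center S.X).map S.X.subtype ≤ A := by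
            rintro _ ⟨e, he, rfl⟩
            rcases K.z_all e he with rfl | rfl
            · exact one_mem A
            · exact ⟨z', hzN, rfl⟩
          have hgi : Commute i (g : T) := (hcx _ g.2 i hiX).symm
          have hy2 : (i * (g : T)) ^ 2 = 1 := by
            rw [hgi.mul_pow, hi2, show (g : T) ^ 2 = K.z from congrArg Subtype.val hg, ← coe_mul,
              K.zz, coe_one]
          have hyA : i * (g : T) ∉ A := fun h => hiC ((mul_mem_cancel_right g.2).1 (hAC h))
          obtain ⟨hn, hc, h2', hcard'⟩ := grow (hnormal N hN) (A := A)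
            (by rintro _ ⟨a, ha, rfl⟩ _ ⟨b, hb, rfl⟩; rw [← map_mul, ← map_mul, hNc a ha b hb])
            (by rintro _ ⟨a, ha, rfl⟩; rw [← map_pow, hN2 a ha, map_one]) hy2
            (by
              rintro _ ⟨a, ha, rfl⟩
              exact ((show Commute (a : T) i from hcx _ a.2 i hiX).mul_right
                (show Commute (a : T) (g : T) from congrArg Subtype.val (hgc a ha))).eq)
            (fun t => by
              rw [show ⁅t, i * (g : T)⁆ = ⁅t, i⁆ * (i * ⁅t, (g : T)⁆ * i⁻¹) by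
                simp only [commutatorElement_def]; group]
              refine mul_mem (hZA (fixed_lift (hfix · v) t)) ((hnormal N hN).conj_mem _ ?_ i)
              obtain ⟨x, hx, c, hc, rfl⟩ := S.exists_decomp t
              refine ⟨⁅(⟨c, hc⟩ : S.C), g⁆, hgt _, ?_⟩
              show ⁅c, (g : T)⁆ = ⁅x * c, (g : T)⁆
              rw [show ⁅x * c, (g : T)⁆ = x * ⁅c, (g : T)⁆ * x⁻¹ * ⁅x, (g : T)⁆ by
                simp only [commutatorElement_def]; group,
                commutatorElement_eq_one_iff_mul_comm.2 (hcx _ g.2 x hx).symm, mul_one,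
                ← hcx ⁅c, (g : T)⁆ (⁅(⟨c, hc⟩ : S.C), g⁆ : S.C).2 x hx,
                mul_inv_cancel_right])
            hyA
          have := S.small _ hn hc h2'
          rw [hcard', card_map_of_injective S.C.subtype_injective, hN4] at this
          omega) h64
      intro d hd hd2 g hg
      exact congrArg Subtype.val (mem_center_iff.1 (h ⟨d, hd⟩ (by
        rw [← Subgroup.orderOf_coe]; exact hd2)) ⟨g, hg⟩)
  refine ⟨K.z_central, K.z_order, fun t ht => ?_, fun t ht _ => ?_⟩
  · obtain ⟨x, hx, c, hc, rfl⟩ := S.exists_decomp t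
    have hxc : Commute x c := (hcx c hc x hx).symm
    have hx2 : x ^ 2 ∈ center T := by
      rcases K.z_all _ (K.F.center_eq.symm ▸ K.F.sq ⟨x, hx⟩) with h | h
      · rw [show x ^ 2 = 1 from congrArg Subtype.val h]; exact one_mem _
      · rw [show x ^ 2 = K.z from congrArg Subtype.val h]; exact K.z_central
    have hx4 : (x ^ 2) ^ 2 = 1 := by
      have := K.F.two _ (K.F.sq ⟨x, hx⟩)
      exact congrArg Subtype.val this
    rw [hxc.mul_pow] at ht ⊢
    refine mul_mem hx2 ?_
    by_cases hc1 : c ^ 2 = 1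
    · rw [hc1]; exact one_mem _
    have hc4 : (c ^ 2) ^ 2 = 1 := by
      have h : (x ^ 2 * c ^ 2) ^ 2 = 1 := orderOf_dvd_iff_pow_eq_one.1 (dvd_of_eq ht)
      rwa [(hxc.pow_pow 2 2).mul_pow, hx4, one_mul] at h
    have hcc := hcen c hc (orderOf_eq_prime hc4 hc1)
    refine mem_center_iff.2 fun s => ?_
    obtain ⟨x', hx', c', hc', rfl⟩ := S.exists_decomp s
    rw [mul_assoc, hcc c' hc', ← mul_assoc, ← hcx _ (pow_mem hc 2) x' hx', mul_assoc]
  · obtain ⟨x, hx, c, hc, rfl⟩ := S.exists_decomp t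
    by_cases hxc : (⟨x, hx⟩ : S.X) ∈ center S.X
    · refine ⟨i, ?_, hi2⟩
      have h1 : x ∈ S.C := (K.inf_eq.ge (mem_zx.2 (hxc : (⟨x, hx⟩ : S.X) ∈ center S.X))).2
      exact (hcx _ (mul_mem h1 hc) i hiX).symm
    · refine ⟨x, ?_, ?_⟩
      · rw [mul_assoc, hcx c hc x hx]
      · have := hqz (QuotientGroup.mk (⟨x, hx⟩ : S.X)) fun e => hxc ((QuotientGroup.eq_one_iff _).1 e)
        rw [q_mk K.F] at this
        exact congrArg Subtype.val this

theorem main : Nat.card T = 64 ∨ Nat.card T = 128 ∨ ∃ z : T, Concl z := by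
  have h8 := SmallAb92Crit.card_quot_ne S.hyp K.F
  have h16 := K.card_le
  by_cases h4 : Nat.card (↥S.X ⧸ center ↥S.X) ≤ 4
  · rcases K.case_four (SmallAb92Crit.four_small S.hyp K.F h4).2 with h | h | h
    exacts [Or.inl h, Or.inr (Or.inl h), Or.inr (Or.inr ⟨_, h⟩)]
  · haveI : Fact (Nat.Prime 2) := ⟨Nat.prime_two⟩
    obtain ⟨k, hk⟩ := IsPGroup.iff_card.mp ((S.hT.to_subgroup S.X).to_quotient (center S.X))
    refine Or.inr (Or.inr ⟨_, K.case_sixteen ?_⟩)
    rcases (show k ≤ 2 ∨ k = 3 ∨ k = 4 ∨ 5 ≤ k by omega) with h | rfl | rfl | h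
    · have : 2 ^ k ≤ 2 ^ 2 := Nat.pow_le_pow_right (by norm_num) h
      omega
    · omega
    · exact hk
    · have : 2 ^ 5 ≤ 2 ^ k := Nat.pow_le_pow_right (by norm_num) h
      omega

end Ctx

end Cfsg.Agent.SmallAb92Extra
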