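import Cfsg.Agent.Lib.SmallAb92Act

/-!
The case of a centre of order four: the quadratic map on the quotient has order sixteen, and the
fixed points are small.
-/

open Subgroup
open scoped commutatorElement

set_option autoImplicit false
set_option linter.unusedSectionVars false

namespace Cfsg.Agent.SmallAb92Four

open Cfsg.Agent.SmallAb92Act
open Cfsg.Agent.NoE8Base20 (Deg deg_add deg_const deg_mul sum_eq_zero)
open Cfsg.Agent.NoE8Central20 (Fixed q cB q_mk cB_mk q_mem cB_mem q_one q_mul sq_one comm_V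
  cB_mul_left cB_mul_right cB_self cB_symm ind ind_eq_one deg_ind_q E_ne_bot cB_bot zmod_two_pair)

/-- A fixed point free automorphism of an elementary abelian group of order four cycles it. -/
theorem four_cycle {V : Type*} [Group V] [Finite V] (α : MulAut V)
    (hα : ∀ v, α v = v → v = 1) {H : Subgroup V} (hH4 : Nat.card H = 4)
    (hH : ∀ v ∈ H, α v ∈ H) (hc : ∀ a ∈ H, ∀ b ∈ H, a * b = b * a) (h2 : ∀ a ∈ H, a * a = 1)
    {v : V} (hv : v ∈ H) (hv1 : v ≠ 1) :
    α (α v) = v * α v ∧ ∀ u ∈ H, u = 1 ∨ u = v ∨ u = α v ∨ u = v * α v := by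
  have hw := hH v hv
  have hw1 : α v ≠ 1 := fun e => hv1 (α.injective (e.trans (map_one α).symm))
  have hne : v ≠ α v := fun e => hv1 (hα v e.symm)
  have hp : v * α v ≠ 1 := fun e => hne (((eq_inv_of_mul_eq_one_right e).trans
    (inv_eq_of_mul_eq_one_right (h2 v hv))).symm)
  have a1 : α v ≠ v * α v := fun e => hv1 (right_eq_mul.1 e)
  have a2 : v ≠ v * α v := fun e => hw1 (left_eq_mul.1 e)
  have h4 : ({1, v, α v, v * α v} : Set V).ncard = 4 := by
    rw [Set.ncard_insert_of_notMem (by simp [Ne.symm hv1, Ne.symm hw1, Ne.symm hp]),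
      Set.ncard_insert_of_notMem (by simp [hne, a2]), Set.ncard_pair a1]
  have hsub : ({1, v, α v, v * α v} : Set V) ⊆ (H : Set V) := by
    intro x hx
    simp only [Set.mem_insert_iff, Set.mem_singleton_iff] at hx
    rcases hx with rfl | rfl | rfl | rfl
    exacts [one_mem _, hv, hw, mul_mem hv hw]
  have heq := Set.eq_of_subset_of_ncard_le hsub
    (by rw [h4, ← Nat.card_coe_set_eq, show Nat.card ↥(H : Set V) = Nat.card H from rfl, hH4])
  have hall : ∀ u ∈ H, u = 1 ∨ u = v ∨ u = α v ∨ u = v * α v := fun u hu => by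
    have hu' : u ∈ ({1, v, α v, v * α v} : Set V) := heq ▸ hu
    simpa using hu'
  refine ⟨?_, hall⟩
  rcases hall _ (hH _ hw) with e | e | e | e
  · exact absurd (α.injective (e.trans (map_one α).symm)) hw1
  · exfalso
    refine hp (hα _ ?_)
    rw [map_mul, e, hc _ hw _ hv]
  · exact absurd (α.injective e).symm hne
  · exact e

variable {T : Type*} [Group T] [Finite T] (S : Setting T) {B : Subgroup (MulAut S.X)}
  {E : Subgroup S.X} (F : Fixed B E)

include F

theorem cB_one (v : ↥S.X ⧸ center ↥S.X) : cB v (1 : ↥S.X ⧸ center ↥S.X) = 1 := by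
  have := cB_mul_right F v 1 1
  rwa [one_mul, left_eq_mul] at this

theorem cB_one_left (v : ↥S.X ⧸ center ↥S.X) : cB (1 : ↥S.X ⧸ center ↥S.X) v = 1 := by
  rw [cB_symm F, cB_one S F]

variable (hE : Nat.card E = 4)
include hE

theorem card_center : Nat.card (center S.X) = 4 := by rw [F.center_eq, hE]

theorem card_zx : Nat.card ↥((center S.X).map S.X.subtype) = 4 := by
  rw [card_map_of_injective S.X.subtype_injective, card_center S F hE]

theorem not_grow {x : T} (hx2 : x ^ 2 = 1)
    (hxc : ∀ a ∈ (center S.X).map S.X.subtype, a * x = x * a)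
    (hxt : ∀ t : T, ⁅t, x⁆ ∈ (center S.X).map S.X.subtype) : x ∈ (center S.X).map S.X.subtype := by
  by_contra hx
  obtain ⟨hn, hc, h2, hcard⟩ := grow (A := (center S.X).map S.X.subtype) inferInstance
    (fun a ha b hb => zx_comm a ha b (map_subtype_le _ hb)) (zx_two F) hx2 hxc hxt hx
  have := S.small _ hn hc h2
  rw [hcard, card_zx S F hE] at this
  omega

/-- No nonzero fixed vector is singular. -/
theorem no_singular {v : ↥S.X ⧸ center ↥S.X} (hq : q v = 1) (hfix : ∀ t, rho S.X t v = v) :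
    v = 1 :=
  out_mem_zx (not_grow S F hE (by rw [out_sq F, hq]; rfl)
    (fun a ha => zx_comm a ha _ (SetLike.coe_mem _)) (fixed_lift hfix))

theorem q_rho_one (t : T) {v : ↥S.X ⧸ center ↥S.X} (hv : q v = 1) : q (rho S.X t v) = 1 := by
  show q (vmap S.X (MulAut.conjNormal t) v) = 1
  rw [q_vmap F, hv, map_one]

theorem zeros_odd : Odd (Nat.card {v : ↥S.X ⧸ center ↥S.X // q v = 1}) :=
  odd_of_no_fixed S.hT (rho S.X) _ (fun t v => q_rho_one S F hE t) (q_one F)
    fun v hv hfix => no_singular S F hE hv hfix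

theorem exists_other {e : S.X} (he : e ∈ E) : ∃ e' ∈ E, e' ≠ 1 ∧ e' ≠ e := by
  by_contra hno
  push Not at hno
  have hsub : (E : Set S.X) ⊆ {1, e} := fun u hu => by
    by_cases h : u = 1
    · simp [h]
    · simp [hno u hu h]
  have h := Set.ncard_le_ncard hsub
  have h2 : ({1, e} : Set S.X).ncard ≤ 2 :=
    (Set.ncard_insert_le _ _).trans (by rw [Set.ncard_singleton])
  rw [← Nat.card_coe_set_eq, show Nat.card ↥(E : Set S.X) = Nat.card E from rfl, hE] at h
  omega

theorem zp_cases {e : S.X} (he : e ∈ E) {u : S.X} (hu : u ∈ zpowers e) : u = 1 ∨ u = e := by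
  obtain ⟨i, rfl⟩ := hu
  rcases Int.even_or_odd' i with ⟨j, rfl | rfl⟩
  · left; show e ^ (2 * j) = 1; rw [zpow_mul, zpow_ofNat, F.two e he, one_zpow]
  · right; show e ^ (2 * j + 1) = e
    rw [zpow_add, zpow_mul, zpow_ofNat, F.two e he, one_zpow, one_mul, zpow_one]

theorem split {e : S.X} (he : e ∈ E) (he1 : e ≠ 1) : ∀ a ∈ E, ∀ b ∈ E,
    (a * b ∈ zpowers e ↔ (a ∈ zpowers e ↔ b ∈ zpowers e)) := by
  intro a ha b hb
  haveI : Fact (Nat.Prime 2) := ⟨Nat.prime_two⟩
  have hidx : ((zpowers e).subgroupOf E).index = 2 := by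
    have := ((zpowers e).subgroupOf E).card_mul_index
    rw [Nat.card_congr (subgroupOfEquivOfLe (zpowers_le.2 he)).toEquiv, Nat.card_zpowers,
      orderOf_eq_prime (F.two e he) he1, hE] at this
    omega
  have := mul_mem_iff_of_index_two hidx (a := (⟨a, ha⟩ : E)) (b := ⟨b, hb⟩)
  simpa [mem_subgroupOf] using this

theorem card_le : Nat.card (↥S.X ⧸ center ↥S.X) ≤ 16 := by
  by_contra hlt
  classical
  haveI : Fintype (↥S.X ⧸ center ↥S.X) := Fintype.ofFinite _
  obtain ⟨e1, he1, h11, -⟩ := exists_other S F hE (one_mem E)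
  obtain ⟨e2, he2, h21, h22⟩ := exists_other S F hE he1
  have hf := deg_mul (comm_V F) 4 2 2 _ _ rfl (deg_ind_q F (split S F hE he1 h11))
    (deg_ind_q F (split S F hE he2 h21))
  have hiff : ∀ v : ↥S.X ⧸ center ↥S.X,
      (q v = 1 ↔ ind (zpowers e1) (q v) * ind (zpowers e2) (q v) = 1) := by
    intro v
    constructor
    · intro h
      rw [h, NoE8Central20.ind_of_mem (one_mem _), NoE8Central20.ind_of_mem (one_mem _), mul_one]
    · intro h
      obtain ⟨a, b⟩ := zmod_two_pair _ _ h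
      rcases zp_cases S F hE he1 (ind_eq_one.1 a) with p | p
      · exact p
      rcases zp_cases S F hE he2 (ind_eq_one.1 b) with p' | p'
      · exact p'
      · exact absurd (p'.symm.trans p) h22
  have hodd := zeros_odd S F hE
  rw [Nat.card_congr (Equiv.subtypeEquivRight hiff), odd_iff_cast, card_cast] at hodd
  have h0 := sum_eq_zero (comm_V F) (sq_one F) 4 _ ⊤ hf (by rw [Subgroup.card_top]; omega)
  simp only [Subgroup.mem_top, Finset.filter_true] at h0
  exact one_ne_zero (hodd.symm.trans h0)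

variable (h16 : Nat.card (↥S.X ⧸ center ↥S.X) = 16)
include h16

theorem fibre_odd {e : S.X} (he : e ∈ E) :
    Odd (Nat.card {v : ↥S.X ⧸ center ↥S.X // q v = e}) := by
  by_cases he1 : e = 1
  · subst he1; exact zeros_odd S F hE
  classical
  haveI : Fintype (↥S.X ⧸ center ↥S.X) := Fintype.ofFinite _
  obtain ⟨e2, he2, h21, h22⟩ := exists_other S F hE he
  have hone : ∀ v : ↥S.X ⧸ center ↥S.X,
      (q v = 1 ↔ ind (zpowers e) (q v) * ind (zpowers e2) (q v) = 1) := by
    intro v
    constructor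
    · intro h
      rw [h, NoE8Central20.ind_of_mem (one_mem _), NoE8Central20.ind_of_mem (one_mem _), mul_one]
    · intro h
      obtain ⟨a, b⟩ := zmod_two_pair _ _ h
      rcases zp_cases S F hE he (ind_eq_one.1 a) with p | p
      · exact p
      rcases zp_cases S F hE he2 (ind_eq_one.1 b) with p' | p'
      · exact p'
      · exact absurd (p'.symm.trans p) h22
  have hiff : ∀ v : ↥S.X ⧸ center ↥S.X, (q v = e ↔
      ind (zpowers e) (q v) + ind (zpowers e) (q v) * ind (zpowers e2) (q v) = 1) := by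
    intro v
    have h2 : ∀ a b : ZMod 2, a + a * b = 1 ↔ a = 1 ∧ b ≠ 1 := by decide
    rw [h2, ind_eq_one, ne_eq, ind_eq_one]
    constructor
    · intro h
      rw [h]
      refine ⟨mem_zpowers e, fun h' => ?_⟩
      rcases zp_cases S F hE he2 h' with p | p
      · exact he1 p
      · exact h22 p.symm
    · rintro ⟨a, b⟩
      rcases zp_cases S F hE he a with p | p
      · exact absurd (p ▸ one_mem _) b
      · exact p
  rw [Nat.card_congr (Equiv.subtypeEquivRight hiff), odd_iff_cast, card_cast,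
    Finset.sum_add_distrib]
  have h0 := sum_eq_zero (comm_V F) (sq_one F) 2 _ ⊤ (deg_ind_q F (split S F hE he he1))
    (by rw [Subgroup.card_top, h16]; norm_num)
  simp only [Subgroup.mem_top, Finset.filter_true] at h0
  have hodd := zeros_odd S F hE
  rw [Nat.card_congr (Equiv.subtypeEquivRight hone), odd_iff_cast, card_cast] at hodd
  rw [h0, hodd, zero_add]

theorem centralizer_le {k : T} (hk : ∀ x ∈ S.X, k * x = x * k) :
    k ∈ (center S.X).map S.X.subtype := by
  haveI : Fact (Nat.Prime 2) := ⟨Nat.prime_two⟩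
  set Z := (center S.X).map S.X.subtype with hZ
  haveI hZn : Z.Normal := by rw [hZ]; infer_instance
  set D := centralizer (S.X : Set T) with hD
  haveI : D.Normal := by rw [hD]; infer_instance
  have hZD : Z ≤ D := fun z hz => mem_centralizer_iff.2 fun x hx => (zx_comm z hz x hx).symm
  have hXD : ∀ u ∈ S.X, u ∈ D → u ∈ Z := fun u hu huD => by
    refine ⟨⟨u, hu⟩, mem_center_iff.2 fun x => Subtype.ext ?_, rfl⟩
    exact (mem_centralizer_iff.1 huD x x.2)
  by_contra hkZ
  have hlt : Z < D := lt_of_le_of_ne hZD fun e => hkZ (e ▸ mem_centralizer_iff.2 fun x hx =>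
    (hk x hx).symm)
  obtain ⟨M, hM, hZM, hMD, hMc⟩ := PGroupsBasic.exists_normal_succ S.hT hlt
  haveI := hM
  obtain ⟨u, huM, huZ⟩ := PGroupsCritical.exists_succ_not_le hZM hMc
  have hut : ∀ t : T, ⁅t, u⁆ ∈ Z :=
    fun t => PGroupsCritical.commutator_mem_of_succ S.hT hZM hMc huM t
  have hu2 : u ^ 2 ∈ Z := by
    have hidx : (Z.subgroupOf M).index = 2 := by
      have := (Z.subgroupOf M).card_mul_index
      rw [Nat.card_congr (subgroupOfEquivOfLe hZM).toEquiv, hMc] at this
      exact Nat.eq_of_mul_eq_mul_left Nat.card_pos this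
    have := sq_mem_of_index_two hidx (⟨u, huM⟩ : M)
    simpa [mem_subgroupOf] using this
  have huD := hMD huM
  have hux : ∀ x ∈ S.X, x * u = u * x := fun x hx => mem_centralizer_iff.1 huD x hx
  have huc : ∀ a ∈ Z, a * u = u * a := fun a ha => hux a (map_subtype_le _ ha)
  obtain ⟨e, he, heu⟩ := hu2
  change (e : T) = u ^ 2 at heu
  have hefix : ∀ t : T, MulAut.conjNormal t e = e := by
    intro t
    apply Subtype.ext
    show t * (e : T) * t⁻¹ = e
    rw [heu, ← conj_pow, show t * u * t⁻¹ = ⁅t, u⁆ * u by rw [commutatorElement_def]; group,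
      (show Commute ⁅t, u⁆ u from huc _ (hut t)).mul_pow, zx_two F _ (hut t), one_mul]
  obtain ⟨v, hv, hvfix⟩ := fixed_of_odd S.hT (rho S.X) (fun v => q v = e)
    (fun t v hv => by
      show q (vmap S.X (MulAut.conjNormal t) v) = e
      rw [q_vmap F, hv, hefix t])
    (fibre_odd S F hE h16 (F.center_eq ▸ he))
  set x := ((v.out : S.X) : T) with hx
  have hxX : x ∈ S.X := SetLike.coe_mem _
  have hxu : (x * u) ^ 2 = 1 := by
    rw [(show Commute x u from hux x hxX).mul_pow, hx, out_sq F, hv, ← heu, ← coe_mul, ← pow_two,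
      center_two F he, coe_one]
  have hmem := not_grow S F hE hxu
    (fun a ha => ((show Commute a x from zx_comm a ha x hxX).mul_right (huc a ha)).eq)
    (fun t => by
      rw [show ⁅t, x * u⁆ = ⁅t, x⁆ * (x * ⁅t, u⁆ * x⁻¹) by
        simp only [commutatorElement_def]; group]
      exact mul_mem (fixed_lift hvfix t) (hZn.conj_mem _ (hut t) x))
  refine huZ (hXD u ?_ huD)
  have := mul_mem (inv_mem hxX) (map_subtype_le _ hmem)
  rwa [inv_mul_cancel_left] at this

/-- A nontrivial involutory operator commuting with the action and fixing the values. -/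
theorem involution_data {c : T} (hc : c ∈ S.C)
    (hcE : ∀ e ∈ center S.X, MulAut.conjNormal c e = e)
    (hinv : ∀ v, rho S.X c (rho S.X c v) = v) (hne : rho S.X c ≠ 1)
    (hcomm : ∀ t v, rho S.X c (rho S.X t v) = rho S.X t (rho S.X c v)) :
    ∃ L : Subgroup (↥S.X ⧸ center ↥S.X), Nat.card L = 4 ∧
      (∀ v, v ∈ L ↔ rho S.X c v = v) ∧
      (∀ v, v * rho S.X c v ∈ L) ∧
      (∀ l ∈ L, vmap S.X S.φX l ∈ L) ∧
      (∀ l ∈ L, ∀ l' ∈ L, q (l * l') = q l * q l') ∧
      (∀ l ∈ L, q l = 1 → l = 1) := by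
  set γ := rho S.X c with hγ
  set α := vmap S.X S.φX
  have hα : ∀ v, α v = v → v = 1 := fun v hv => S.fixfree F hv
  have h2 := sq_one F
  have hcm := comm_V F
  let δ : (↥S.X ⧸ center ↥S.X) →* (↥S.X ⧸ center ↥S.X) :=
    MonoidHom.mk' (fun v => v * γ v) fun v w => by
      rw [map_mul, show v * w * (γ v * γ w) = v * (w * γ v) * γ w by group, hcm w (γ v)]
      group
  have hker : ∀ v, v ∈ δ.ker ↔ γ v = v := fun v => by
    show v * γ v = 1 ↔ _
    constructor
    · intro e
      rw [eq_inv_of_mul_eq_one_right e, inv_eq_of_mul_eq_one_right (h2 v)]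
    · intro e; rw [e, h2]
  have hrk : δ.range ≤ δ.ker := by
    rintro _ ⟨v, rfl⟩
    rw [hker]
    show γ (v * γ v) = v * γ v
    rw [map_mul, hinv, hcm]
  have hαγ : ∀ v, α (γ v) = γ (α v) := fun v => S.vmap_rho hc v
  have hkα : ∀ l ∈ δ.ker, α l ∈ δ.ker := fun l hl => by
    rw [hker] at hl ⊢
    rw [← hαγ, hl]
  have hrα : ∀ l ∈ δ.range, α l ∈ δ.range := by
    rintro _ ⟨v, rfl⟩
    refine ⟨α v, ?_⟩
    show α v * γ (α v) = α (v * γ v)
    rw [map_mul, hαγ]
  have hcard : Nat.card δ.ker * Nat.card δ.range = 16 := by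
    rw [← index_ker, Subgroup.card_mul_index, h16]
  have hle : Nat.card δ.range ≤ Nat.card δ.ker := Subgroup.card_le_of_le hrk
  have hne1 : Nat.card δ.range ≠ 1 := fun e => hne (MulEquiv.ext fun v => by
    have hm : δ v ∈ δ.range := ⟨v, rfl⟩
    rw [Subgroup.card_eq_one] at e
    rw [e, mem_bot] at hm
    exact (hker v).1 hm)
  have hne2 := card_ne_two α hα δ.range hrα
  have hr4 : Nat.card δ.range = 4 := by
    have h4 : Nat.card δ.range ≤ 4 := by nlinarith
    have : Nat.card δ.range ∣ 16 := ⟨_, by rw [mul_comm]; exact hcard.symm⟩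
    have h0 : 0 < Nat.card δ.range := Nat.card_pos
    generalize Nat.card δ.range = r at *
    interval_cases r <;> omega
  have hk4 : Nat.card δ.ker = 4 := by
    rw [hr4] at hcard; omega
  have heq : δ.range = δ.ker := Subgroup.eq_of_le_of_card_ge hrk (by rw [hr4, hk4])
  have hqid : ∀ v, q (δ v) * cB v (δ v) = 1 := by
    intro v
    have e : γ v = v * δ v := by
      show γ v = v * (v * γ v)
      rw [← mul_assoc, h2, one_mul]
    have h := q_vmap F (MulAut.conjNormal c) v
    change q (γ v) = _ at h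
    rw [hcE _ (F.center_eq.symm ▸ q_mem F v), e, q_mul F, mul_assoc] at h
    exact mul_eq_left.1 h
  have hort : ∀ w ∈ δ.ker, ∀ l ∈ δ.range, cB w l = 1 := by
    rintro w hw _ ⟨v, rfl⟩
    have h := hqid (v * w)
    rw [map_mul, MonoidHom.mem_ker.1 hw, mul_one, cB_mul_left F, ← mul_assoc, hqid, one_mul] at h
    exact h
  have hlin : ∀ l ∈ δ.ker, ∀ l' ∈ δ.ker, q (l * l') = q l * q l' := fun l hl l' hl' => by
    rw [q_mul F, hort l hl l' (heq ▸ hl'), mul_one]
  refine ⟨δ.ker, hk4, hker, fun v => heq ▸ ⟨v, rfl⟩, hkα, hlin, fun l hl hql => ?_⟩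
  by_contra hl1
  let K : Subgroup (↥S.X ⧸ center ↥S.X) :=
    { carrier := {u | u ∈ δ.ker ∧ q u = 1}
      one_mem' := ⟨one_mem _, q_one F⟩
      mul_mem' := fun {a b} ha hb => ⟨mul_mem ha.1 hb.1, by
        rw [hlin a ha.1 b hb.1, ha.2, hb.2, one_mul]⟩
      inv_mem' := fun {a} ha => by rw [inv_eq_of_mul_eq_one_right (h2 a)]; exact ha }
  have hodd : Odd (Nat.card {u // u ∈ δ.ker ∧ q u = 1}) :=
    odd_of_no_fixed S.hT (rho S.X) _ (fun t u hu => ⟨by
      rw [hker] at hu ⊢
      rw [hcomm, hu.1], q_rho_one S F hE t hu.2⟩) ⟨one_mem _, q_one F⟩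
      fun u hu hfix => no_singular S F hE hu.2 hfix
  have hdvd := orderOf_dvd_natCard (⟨l, hl, hql⟩ : K)
  rw [← Subgroup.orderOf_coe] at hdvd
  change orderOf l ∣ _ at hdvd
  rw [orderOf_eq_prime (p := 2) (by rw [pow_two, h2]) hl1] at hdvd
  exact Nat.not_even_iff_odd.2 hodd (even_iff_two_dvd.2 hdvd)

omit hE h16 in
theorem commute_rho {c : T} (h : ∀ d ∈ S.C, rho S.X ⁅d, c⁆ = 1) :
    ∀ t v, rho S.X c (rho S.X t v) = rho S.X t (rho S.X c v) := by
  intro t v
  obtain ⟨x, hx, d, hd, rfl⟩ := S.exists_decomp t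
  have e : rho S.X (x * d) * rho S.X c = rho S.X c * rho S.X (x * d) := by
    rw [map_mul, S.rho_X F hx, one_mul, ← map_mul, ← map_mul,
      show d * c = ⁅d, c⁆ * (c * d) by rw [commutatorElement_def]; group, map_mul, h d hd, one_mul]
  exact (DFunLike.congr_fun e v).symm

omit hE h16 in
/-- Fixed automorphisms act on the quotient fixed point freely, so elements of `X` fixed are
central. -/
theorem fixed_mem_center {x : S.X} (hx : S.φX x = x) : x ∈ center S.X := by
  have h1 := S.fixfree F (v := QuotientGroup.mk x) (by rw [vmap_mk, hx])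
  exact (QuotientGroup.eq_one_iff x).1 h1

end Cfsg.Agent.SmallAb92Four
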