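import Cfsg.Agent.Lib.ZStarTheorem
import Cfsg.Agent.Lib.TransferThompson
import Cfsg.Agent.Lib.FusionSysGroup
import Cfsg.Agent.Lib.PGroupsBasic

/-!
Fusion facts for Sylow 2-subgroups with small normal abelian subgroups: odd elements of the
normalizer, an isolation criterion for a central involution, and the exclusion of the split
extension of an abelian group by an involution.
-/

open Subgroup
open scoped commutatorElement

set_option autoImplicit false
set_option linter.unusedSectionVars false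

namespace Cfsg.Agent.SmallAb92Fusion

open Cfsg Cfsg.FusionSystem Cfsg.Agent.FusionSysBasic

variable {G : Type*} [Group G] [Finite G] (T : Sylow 2 G)

/-- A 2-element normalising a Sylow 2-subgroup lies in it. -/
theorem mem_of_two_pow {x : G} (hx : x ∈ normalizer ((T : Subgroup G) : Set G)) {a : ℕ}
    (ha : x ^ 2 ^ a = 1) : x ∈ (T : Subgroup G) := by
  have hp : IsPGroup 2 (zpowers x) := by
    rintro ⟨y, hy⟩
    obtain ⟨k, rfl⟩ := mem_zpowers_iff.1 hy
    refine ⟨a, Subtype.ext ?_⟩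
    show (x ^ k) ^ 2 ^ a = 1
    rw [← zpow_natCast, zpow_comm, zpow_natCast, ha, one_zpow]
  have hsup : IsPGroup 2 ((T : Subgroup G) ⊔ zpowers x : Subgroup G) :=
    IsPGroup.to_sup_of_normal_left' T.2 hp (zpowers_le.2 hx)
  exact T.3 hsup le_sup_left ▸ mem_sup_right (mem_zpowers x)

/-- The normalizer is generated by the Sylow subgroup and elements of odd order. -/
theorem normalizer_le (K : Subgroup G) (hT : (T : Subgroup G) ≤ K)
    (hodd : ∀ g ∈ normalizer ((T : Subgroup G) : Set G), Odd (orderOf g) → g ∈ K) :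
    normalizer ((T : Subgroup G) : Set G) ≤ K := by
  intro g hg
  obtain ⟨a, m, hm, hgm⟩ := Nat.exists_eq_pow_mul_and_not_dvd (orderOf_pos g).ne' 2 (by norm_num)
  have hmodd : Odd m := Nat.not_even_iff_odd.1 fun e => hm (even_iff_two_dvd.1 e)
  have h1 : g ^ m ∈ K := hT (mem_of_two_pow T (pow_mem hg m) (a := a)
    (by rw [← pow_mul, mul_comm, ← hgm, pow_orderOf_eq_one]))
  have h2 : g ^ 2 ^ a ∈ K := by
    refine hodd _ (pow_mem hg _) (Odd.of_dvd_nat hmodd (orderOf_dvd_of_pow_eq_one ?_))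
    rw [← pow_mul, ← hgm, pow_orderOf_eq_one]
  have hcop : Nat.Coprime m (2 ^ a) :=
    Nat.Coprime.pow_right a (Nat.coprime_two_right.2 hmodd)
  have hb : (1 : ℤ) = (m : ℤ) * Nat.gcdA m (2 ^ a) + ((2 ^ a : ℕ) : ℤ) * Nat.gcdB m (2 ^ a) := by
    rw [← Nat.gcd_eq_gcd_ab, hcop.gcd_eq_one]; rfl
  rw [show g = g ^ (1 : ℤ) from (zpow_one g).symm, hb, zpow_add, zpow_mul, zpow_mul,
    zpow_natCast, zpow_natCast]
  exact mul_mem (zpow_mem h1 _) (zpow_mem h2 _)

theorem exists_odd_moving
    (hN : ¬ normalizer ((T : Subgroup G) : Set G) ≤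
      (T : Subgroup G) ⊔ centralizer ((T : Subgroup G) : Set G)) :
    ∃ g ∈ normalizer ((T : Subgroup G) : Set G), Odd (orderOf g) ∧
      ∃ x ∈ (T : Subgroup G), g * x * g⁻¹ ≠ x := by
  by_contra hno
  push Not at hno
  refine hN (normalizer_le T _ le_sup_left fun g hg ho => mem_sup_right ?_)
  rw [mem_centralizer_iff]
  intro x hx
  exact (mul_inv_eq_iff_eq_mul.1 (hno g hg ho x hx)).symm

/-- If odd elements of the normalizer fix `e`, a conjugate of `e` central in `T` equals it. -/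
theorem eq_of_conj {e f : G} (he : ∀ s ∈ (T : Subgroup G), s * e = e * s)
    (hf : ∀ s ∈ (T : Subgroup G), s * f = f * s)
    (hfix : ∀ n ∈ normalizer ((T : Subgroup G) : Set G), Odd (orderOf n) → n * e * n⁻¹ = e)
    {g : G} (hg : g * e * g⁻¹ = f) : f = e := by
  have hcen : ∀ {u : G}, (∀ s ∈ (T : Subgroup G), s * u = u * s) →
      u ∈ centralizer ((T : Subgroup G) : Set G) := fun hu => mem_centralizer_iff.2 hu
  obtain ⟨n, hn, hne⟩ := Sylow.conj_eq_normalizer_conj_of_mem_centralizer T e g⁻¹ (hcen he)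
    (by rw [inv_inv, hg]; exact hcen hf)
  rw [inv_inv, hg] at hne
  have hle := normalizer_le T (centralizer {e})
    (fun s hs => mem_centralizer_singleton_iff.2 (he s hs))
    (fun m hm ho => mem_centralizer_singleton_iff.2 (mul_inv_eq_iff_eq_mul.1 (hfix m hm ho)))
  have := mem_centralizer_singleton_iff.1 (hle (inv_mem hn))
  rw [hne, this, mul_assoc, inv_mul_cancel, mul_one]

theorem no_isolated [IsSimpleGroup G] (hna : ¬ IsMulCommutative G) (z : G) :
    ¬ IsIsolatedInvolution z := by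
  intro hz
  obtain ⟨N, hN, hNodd, hNz⟩ := ZStarTheorem.exists_odd_normal hz
  rcases hN.eq_bot_or_eq_top with rfl | rfl
  · have hzc : z ∈ center G := mem_center_iff.2 fun g => by
      have := hNz g
      rw [mem_bot, mul_inv_eq_one, mul_inv_eq_iff_eq_mul] at this
      exact this.symm
    rcases (inferInstance : (center G).Normal).eq_bot_or_eq_top with h | h
    · rw [h, mem_bot] at hzc
      have h2 := hz.1
      rw [hzc, orderOf_one] at h2
      omega
    · exact hna ⟨⟨fun a b => mem_center_iff.1 (h ▸ mem_top b) a⟩⟩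
  · rw [card_top] at hNodd
    have h2 : orderOf z ∣ Nat.card G := orderOf_dvd_natCard z
    rw [hz.1] at h2
    exact Nat.not_even_iff_odd.2 hNodd (even_iff_two_dvd.2 h2)

/-- A central involution cannot be a square in the centralisers of all noncentral involutions, if
squares that are involutions are central and central involutions are not conjugate. -/
theorem false_of_squares [IsSimpleGroup G] (hna : ¬ IsMulCommutative G) {z : G}
    (hzT : z ∈ (T : Subgroup G)) (hz : orderOf z = 2)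
    (hzc : ∀ s ∈ (T : Subgroup G), s * z = z * s)
    (hfix : ∀ n ∈ normalizer ((T : Subgroup G) : Set G), Odd (orderOf n) →
      ∀ e ∈ (T : Subgroup G), orderOf e = 2 → (∀ s ∈ (T : Subgroup G), s * e = e * s) →
        n * e * n⁻¹ = e)
    (hsq : ∀ d ∈ (T : Subgroup G), orderOf (d ^ 2) = 2 →
      ∀ s ∈ (T : Subgroup G), s * d ^ 2 = d ^ 2 * s)
    (hroot : ∀ t ∈ (T : Subgroup G), orderOf t = 2 →
      (∃ s ∈ (T : Subgroup G), s * t ≠ t * s) → ∃ i ∈ (T : Subgroup G), i * t = t * i ∧ i ^ 2 = z) :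
    False := by
  haveI : Fact (Nat.Prime 2) := ⟨Nat.prime_two⟩
  refine no_isolated hna z (ZStarBasic.isolated_of_sylow T z hz hzT fun g hg => ?_)
  have hnc := fun (f : G) (hf : ∀ s ∈ (T : Subgroup G), s * f = f * s) (k : G)
      (hk : k * z * k⁻¹ = f) =>
    eq_of_conj T hzc hf (fun n hn ho => hfix n hn ho z hzT hz hzc) hk
  set t := g * z * g⁻¹ with ht
  have hto : orderOf t = 2 := by rw [ht, ZStarBasic.orderOf_conj_eq]; exact hz
  by_cases htc : ∀ s ∈ (T : Subgroup G), s * t = t * s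
  · exact hnc t htc g rfl
  exfalso
  push Not at htc
  obtain ⟨i, hi, hit, hiz⟩ := hroot t hg hto htc
  set C := centralizer ({z} : Set G) with hC
  have hTC : (T : Subgroup G) ≤ C := fun s hs => mem_centralizer_singleton_iff.2 (hzc s hs)
  set D : Subgroup G :=
    ((T : Subgroup G) ⊓ centralizer ({t} : Set G)).map (MulAut.conj g⁻¹).toMonoidHom with hD
  have hDC : D ≤ C := by
    rintro _ ⟨s, hs, rfl⟩
    refine mem_centralizer_singleton_iff.2 ?_
    have e := mem_centralizer_singleton_iff.1 hs.2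
    simp only [MulEquiv.coe_toMonoidHom, MulAut.conj_apply, inv_inv]
    calc g⁻¹ * s * g * z = g⁻¹ * (s * t) * g := by rw [ht]; group
      _ = g⁻¹ * (t * s) * g := by rw [e]
      _ = z * (g⁻¹ * s * g) := by rw [ht]; group
  have hDp : IsPGroup 2 (D.subgroupOf C) :=
    ((T.2.to_le inf_le_left).map _).comap_subtype
  obtain ⟨c, hc⟩ := FusionSysGroup.exists_cj_le (T.subtype hTC) hDp
  have hcT : ∀ s ∈ (T : Subgroup G) ⊓ centralizer ({t} : Set G),
      ((c : G) * g⁻¹) * s * ((c : G) * g⁻¹)⁻¹ ∈ (T : Subgroup G) := by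
    intro s hs
    have hm : g⁻¹ * s * g ∈ D := ⟨s, hs, by simp⟩
    have h := hc ⟨g⁻¹ * s * g, hDC hm⟩ hm
    rw [Sylow.coe_subtype, mem_subgroupOf] at h
    have e : ((c : G) * g⁻¹) * s * ((c : G) * g⁻¹)⁻¹ = (c : G) * (g⁻¹ * s * g) * (c : G)⁻¹ := by
      group
    rw [e]
    simpa [cj_apply] using h
  set k := (c : G) * g⁻¹
  have hkt : k * t * k⁻¹ = z := by
    have := mem_centralizer_singleton_iff.1 c.2
    calc k * t * k⁻¹ = (c : G) * z * (c : G)⁻¹ := by simp only [k, ht]; group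
      _ = z := by rw [this, mul_inv_cancel_right]
  have hki := hcT i ⟨hi, mem_centralizer_singleton_iff.2 hit⟩
  have e2 : (k * i * k⁻¹) ^ 2 = k * z * k⁻¹ := by rw [conj_pow, hiz]
  have hcen := hsq _ hki (by rw [e2, ZStarBasic.orderOf_conj_eq]; exact hz)
  rw [e2] at hcen
  have := hnc _ hcen k rfl
  have hzt : z = t := by
    calc z = k⁻¹ * (k * z * k⁻¹) * k := by group
      _ = k⁻¹ * z * k := by rw [this]
      _ = k⁻¹ * (k * t * k⁻¹) * k := by rw [hkt]
      _ = t := by group
  obtain ⟨s, hs, hne⟩ := htc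
  exact hne (hzt ▸ hzc s hs)

/-- No split extension of an abelian group by an involution, with centre containing the four group
of involutions, occurs. -/
theorem false_of_split [IsSimpleGroup G] (hna : ¬ IsMulCommutative G) (X W : Subgroup G)
    (hXT : X ≤ (T : Subgroup G)) (hXab : ∀ a ∈ X, ∀ b ∈ X, a * b = b * a)
    (hidx : X.relIndex (T : Subgroup G) = 2) (hW4 : Nat.card W = 4) (hWX : W ≤ X)
    (hW2 : ∀ w ∈ W, w ^ 2 = 1) (hWc : ∀ s ∈ (T : Subgroup G), ∀ w ∈ W, s * w = w * s)
    (hinv : ∀ x ∈ X, x ^ 2 = 1 → x ∈ W) {c : G} (hcT : c ∈ (T : Subgroup G))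
    (hc : orderOf c = 2) (hcX : c ∉ X)
    (hshift : ∀ w ∈ W, ∃ a ∈ X, a * c * a⁻¹ = c * w) : False := by
  classical
  haveI : Fact (Nat.Prime 2) := ⟨Nat.prime_two⟩
  have hc2 : c * c = 1 := by rw [← pow_two, ← hc, pow_orderOf_eq_one]
  have hWT : W ≤ (T : Subgroup G) := hWX.trans hXT
  have hww : ∀ w ∈ W, w * w = 1 := fun w hw => by rw [← pow_two]; exact hW2 w hw
  have hwinv : ∀ w ∈ W, w⁻¹ = w := fun w hw => inv_eq_of_mul_eq_one_right (hww w hw)
  have hmulX : ∀ {a b : G}, a ∈ (T : Subgroup G) → b ∈ (T : Subgroup G) →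
      (a * b ∈ X ↔ (a ∈ X ↔ b ∈ X)) := fun {a b} ha hb => by
    have := mul_mem_iff_of_index_two (H := X.subgroupOf (T : Subgroup G)) hidx
      (a := ⟨a, ha⟩) (b := ⟨b, hb⟩)
    simpa [mem_subgroupOf] using this
  -- elementary abelian subgroups of order 8 of `T` contain `W`
  have F1 : ∀ A : Subgroup G, A ≤ (T : Subgroup G) → (∀ a ∈ A, a ^ 2 = 1) → Nat.card A = 8 →
      W ≤ A := by
    intro A hAT hA2 hA8
    have hle : A ⊓ X ≤ W := fun x hx => hinv x hx.2 (hA2 x hx.1)
    by_cases hAX : A ≤ X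
    · have := Subgroup.card_le_of_le (show A ≤ W from fun x hx => hle ⟨hx, hAX hx⟩)
      omega
    obtain ⟨x, hx, hxX⟩ := SetLike.not_le_iff_exists.1 hAX
    have hidx2 : ((A ⊓ X).subgroupOf A).index = 2 := by
      rw [index_eq_two_iff]
      refine ⟨⟨x, hx⟩, fun b => ?_⟩
      simp only [mem_subgroupOf, mem_inf, coe_mul]
      have h1 := hmulX (hAT b.2) (hAT hx)
      by_cases hb : (b : G) ∈ X
      · exact Or.inr ⟨⟨b.2, hb⟩, fun e => hxX ((h1.1 e.2).1 hb)⟩
      · exact Or.inl ⟨⟨mul_mem b.2 hx, h1.2 (iff_of_false hb hxX)⟩, fun e => hb e.2⟩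
    have := ((A ⊓ X).subgroupOf A).card_mul_index
    rw [Nat.card_congr (subgroupOfEquivOfLe (inf_le_left : A ⊓ X ≤ A)).toEquiv, hidx2, hA8] at this
    have heq : A ⊓ X = W := Subgroup.eq_of_le_of_card_ge hle (by omega)
    exact heq ▸ inf_le_left
  have hcW : c ∉ W := fun e => hcX (hWX e)
  -- transfer
  obtain ⟨g₀, hg₀⟩ : ∃ g : G, g * c * g⁻¹ ∈ X := by
    by_contra hno
    push Not at hno
    obtain ⟨M, hM, hMi, -⟩ := TransferThompson.thompson_transfer T X hXT hidx hc hcT hno
    rcases hM.eq_bot_or_eq_top with rfl | rfl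
    · rw [index_bot] at hMi
      haveI : IsCyclic G := isCyclic_of_prime_card (p := 2) hMi
      exact hna IsCyclic.isMulCommutative
    · simp at hMi
  have hw₁ : g₀ * c * g₀⁻¹ ∈ W := hinv _ hg₀ (by rw [conj_pow, pow_two, hc2]; group)
  -- the elementary abelian group of order eight
  have hcw : ∀ w ∈ W, c * w = w * c := fun w hw => hWc c hcT w hw
  let E : Subgroup G :=
    { carrier := {u | u ∈ W ∨ u * c ∈ W}
      one_mem' := Or.inl (one_mem W)
      mul_mem' := by
        rintro a b (ha | ha) (hb | hb)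
        · exact Or.inl (mul_mem ha hb)
        · exact Or.inr (by rw [mul_assoc]; exact mul_mem ha hb)
        · refine Or.inr ?_
          rw [mul_assoc, ← hcw b hb, ← mul_assoc]
          exact mul_mem ha hb
        · refine Or.inl ?_
          have := mul_mem ha hb
          rwa [show a * c * (b * c) = a * (c * (b * c)) by group, hcw _ hb, mul_assoc b,
            hc2, mul_one] at this
      inv_mem' := by
        rintro a (ha | ha)
        · exact Or.inl (inv_mem ha)
        · refine Or.inr ?_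
          have e1 : a * c * (a * c) = 1 := hww _ ha
          have e2 : c * (a * c) = a * c * c := hcw _ ha
          rw [mul_assoc a c c, hc2, mul_one] at e2
          have e3 : a * a = 1 := by rw [← e1, mul_assoc a c, e2]
          rw [inv_eq_of_mul_eq_one_right e3]
          exact ha }
  have hmemE : ∀ u, u ∈ E ↔ (u ∈ W ∨ u * c ∈ W) := fun u => Iff.rfl
  have hWE : W ≤ E := fun u hu => Or.inl hu
  have hcE : c ∈ E := Or.inr (by rw [hc2]; exact one_mem W)
  have hET : E ≤ (T : Subgroup G) := by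
    rintro u (hu | hu)
    · exact hWT hu
    · simpa using mul_mem (hWT hu) (inv_mem hcT)
  have hEc : ∀ u ∈ E, u * c = c * u := by
    rintro u (hu | hu)
    · exact (hcw u hu).symm
    · calc u * c = c * (c * (u * c)) := by rw [← mul_assoc c c, hc2, one_mul]
        _ = c * (u * c * c) := by rw [hcw _ hu]
        _ = c * u := by rw [mul_assoc u, hc2, mul_one]
  have hE2 : ∀ u ∈ E, u ^ 2 = 1 := by
    rintro u (hu | hu)
    · exact hW2 u hu
    · have e := hww _ hu
      rw [show u * c * (u * c) = u * (c * u) * c by group, ← hEc u (Or.inr hu),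
        show u * (u * c) * c = u * u * (c * c) by group, hc2, mul_one] at e
      rw [pow_two]; exact e
  have hE8 : Nat.card E = 8 := by
    have hidx2 : (W.subgroupOf E).index = 2 := by
      rw [index_eq_two_iff]
      refine ⟨⟨c, hcE⟩, fun b => ?_⟩
      simp only [mem_subgroupOf, coe_mul]
      by_cases hb : (b : G) ∈ W
      · exact Or.inr ⟨hb, fun e => hcW ((mul_mem_cancel_left hb).1 e)⟩
      · exact Or.inl ⟨b.2.resolve_left hb, hb⟩
    have := (W.subgroupOf E).card_mul_index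
    rw [Nat.card_congr (subgroupOfEquivOfLe hWE).toEquiv, hW4, hidx2] at this
    omega
  have hEp : IsPGroup 2 E := T.2.to_le hET
  -- a Sylow subgroup over `E` in which `c` is central
  set C := centralizer ({c} : Set G) with hC
  set S₀ : Subgroup G := (T : Subgroup G).map (MulAut.conj g₀⁻¹).toMonoidHom with hS₀
  have hS₀C : S₀ ≤ C := by
    rintro _ ⟨s, hs, rfl⟩
    refine mem_centralizer_singleton_iff.2 ?_
    have e := hWc s hs _ hw₁
    simp only [MulEquiv.coe_toMonoidHom, MulAut.conj_apply, inv_inv]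
    calc g₀⁻¹ * s * g₀ * c = g₀⁻¹ * (s * (g₀ * c * g₀⁻¹)) * g₀ := by group
      _ = g₀⁻¹ * (g₀ * c * g₀⁻¹ * s) * g₀ := by rw [e]
      _ = c * (g₀⁻¹ * s * g₀) := by group
  have hEC : E ≤ C := fun u hu => mem_centralizer_singleton_iff.2 (hEc u hu)
  let S : Sylow 2 G := g₀⁻¹ • T
  have hSS₀ : (S : Subgroup G) = S₀ := rfl
  obtain ⟨h, hh⟩ := FusionSysGroup.exists_cj_le (S.subtype (hSS₀ ▸ hS₀C))
    (show IsPGroup 2 (E.subgroupOf C) from hEp.comap_subtype)
  set k := g₀ * (h : G) with hk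
  have hkE : ∀ u ∈ E, k * u * k⁻¹ ∈ (T : Subgroup G) := by
    intro u hu
    have h1 := hh ⟨u, hEC hu⟩ hu
    rw [Sylow.coe_subtype, mem_subgroupOf, hSS₀] at h1
    obtain ⟨s, hs, hse⟩ := h1
    have e : s = k * u * k⁻¹ := by
      simp only [MulEquiv.coe_toMonoidHom, MulAut.conj_apply, inv_inv, cj_apply, coe_mul,
        coe_inv] at hse
      rw [hk]
      calc s = g₀ * (g₀⁻¹ * s * g₀) * g₀⁻¹ := by group
        _ = _ := by rw [hse]; group
    exact e ▸ hs
  have hkc : k * c * k⁻¹ ∈ W := by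
    have := mem_centralizer_singleton_iff.1 h.2
    convert hw₁ using 1
    rw [hk]
    calc g₀ * (h : G) * c * (g₀ * (h : G))⁻¹ = g₀ * ((h : G) * c) * (h : G)⁻¹ * g₀⁻¹ := by group
      _ = _ := by rw [this]; group
  -- transported copies of `W` lie in `E`
  have F2 : ∀ m : G, (∀ u ∈ E, m * u * m⁻¹ ∈ (T : Subgroup G)) → ∀ w ∈ W, m⁻¹ * w * m ∈ E := by
    intro m hm w hw
    have hle := F1 (E.map (MulAut.conj m).toMonoidHom)
      (by rintro _ ⟨u, hu, rfl⟩; exact hm u hu)
      (by rintro _ ⟨u, hu, rfl⟩; rw [← map_pow, hE2 u hu, map_one])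
      (by rw [card_map_of_injective (MulAut.conj m).injective, hE8])
    obtain ⟨u, hu, hue⟩ := hle hw
    simp only [MulEquiv.coe_toMonoidHom, MulAut.conj_apply] at hue
    rw [← hue, show m⁻¹ * (m * u * m⁻¹) * m = u by group]
    exact hu
  set W' : Subgroup G := W.comap (MulAut.conj k).toMonoidHom with hW'
  have hmemW' : ∀ u, u ∈ W' ↔ k * u * k⁻¹ ∈ W := fun u => Iff.rfl
  have hW'E : W' ≤ E := fun u hu => by
    have := F2 k hkE _ ((hmemW' u).1 hu)
    convert this using 1
    group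
  have hW'4 : Nat.card W' = 4 := by
    rw [← hW4]
    exact Nat.card_congr ((MulAut.conj k).toEquiv.subtypeEquiv fun u => Iff.rfl)
  have hcW' : c ∈ W' := hkc
  -- the common involution
  obtain ⟨l, hlW, hlW', hl1⟩ : ∃ l, l ∈ W ∧ l ∈ W' ∧ l ≠ 1 := by
    obtain ⟨u, hu, hu'⟩ : ∃ u ∈ W', u ∉ ({1, c} : Set G) := by
      by_contra hno
      push Not at hno
      have := Set.ncard_le_ncard (s := (W' : Set G)) (t := {1, c}) hno
      rw [← Nat.card_coe_set_eq, show Nat.card ↥(W' : Set G) = Nat.card W' from rfl, hW'4,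
        Set.ncard_pair (show (1 : G) ≠ c from fun e => hcW (e ▸ one_mem W))] at this
      omega
    simp only [Set.mem_insert_iff, Set.mem_singleton_iff, not_or] at hu'
    rcases hW'E hu with h' | h'
    · exact ⟨u, h', hu, hu'.1⟩
    · refine ⟨u * c, h', mul_mem hu hcW', fun e => hu'.2 ?_⟩
      rw [eq_inv_of_mul_eq_one_left e, inv_eq_of_mul_eq_one_right hc2]
  have hl2 : l * l = 1 := hww l hlW
  have hinter : ∀ v ∈ W, v ∈ W' → v = 1 ∨ v = l := by
    intro v hv hv'
    by_contra hcon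
    push Not at hcon
    have h5 : ({1, l, v, l * v, c} : Set G).ncard = 5 := by
      have a1 : v ≠ l * v := fun e => hl1 (right_eq_mul.1 e)
      have a2 : l ≠ l * v := fun e => hcon.1 (left_eq_mul.1 e)
      have a3 : l * v ≠ 1 := fun e => hcon.2 (by
        rw [eq_inv_of_mul_eq_one_right e, hwinv l hlW])
      have b : ∀ x ∈ W, x ≠ c := fun x hx e => hcW (e ▸ hx)
      rw [Set.ncard_insert_of_notMem (by
          simp [Ne.symm hl1, Ne.symm hcon.1, Ne.symm a3, b 1 (one_mem W)]),
        Set.ncard_insert_of_notMem (by simp [Ne.symm hcon.2, a2, b l hlW]),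
        Set.ncard_insert_of_notMem (by simp [a1, b v hv]),
        Set.ncard_pair (b _ (mul_mem hlW hv))]
    have hsub : ({1, l, v, l * v, c} : Set G) ⊆ (W' : Set G) := by
      intro x hx
      simp only [Set.mem_insert_iff, Set.mem_singleton_iff] at hx
      rcases hx with rfl | rfl | rfl | rfl | rfl
      exacts [one_mem _, hlW', hv', mul_mem hlW' hv', hcW']
    have := Set.ncard_le_ncard hsub
    rw [h5, ← Nat.card_coe_set_eq, show Nat.card ↥(W' : Set G) = Nat.card W' from rfl, hW'4] at this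
    omega
  obtain ⟨w, hwW, hw'⟩ : ∃ w ∈ W, w ∉ W' := by
    by_contra hno
    push Not at hno
    have hsub : (W : Set G) ⊆ {1, l} := fun v hv => by simpa using hinter v hv (hno v hv)
    have := Set.ncard_le_ncard hsub
    rw [← Nat.card_coe_set_eq, show Nat.card ↥(W : Set G) = Nat.card W from rfl, hW4,
      Set.ncard_pair (Ne.symm hl1)] at this
    omega
  have hWcases : ∀ v ∈ W, v = 1 ∨ v = l ∨ v = w ∨ v = l * w := by
    intro v hv
    have hw1 : w ≠ 1 := fun e => hw' (e ▸ one_mem _)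
    have hwl : w ≠ l := fun e => hw' (e ▸ hlW')
    have a1 : w ≠ l * w := fun e => hl1 (right_eq_mul.1 e)
    have a2 : l ≠ l * w := fun e => hw1 (left_eq_mul.1 e)
    have a3 : l * w ≠ 1 := fun e => hwl (by rw [eq_inv_of_mul_eq_one_right e, hwinv l hlW])
    have h4 : ({1, l, w, l * w} : Set G).ncard = 4 := by
      rw [Set.ncard_insert_of_notMem (by simp [Ne.symm hl1, Ne.symm hw1, Ne.symm a3]),
        Set.ncard_insert_of_notMem (by simp [Ne.symm hwl, a2]), Set.ncard_pair a1]
    have hsub : ({1, l, w, l * w} : Set G) ⊆ (W : Set G) := by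
      intro x hx
      simp only [Set.mem_insert_iff, Set.mem_singleton_iff] at hx
      rcases hx with rfl | rfl | rfl | rfl
      exacts [one_mem _, hlW, hwW, mul_mem hlW hwW]
    have := Set.eq_of_subset_of_ncard_le hsub
      (by rw [h4, ← Nat.card_coe_set_eq, show Nat.card ↥(W : Set G) = Nat.card W from rfl, hW4])
    have hv' : v ∈ ({1, l, w, l * w} : Set G) := this ▸ hv
    simpa using hv'
  -- the two transvections
  obtain ⟨a, haX, hac⟩ := hshift l hlW
  have haW : ∀ v ∈ W, a * v * a⁻¹ = v := fun v hv => by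
    rw [hWc a (hXT haX) v hv, mul_inv_cancel_right]
  have hkw : k * w * k⁻¹ ∈ (T : Subgroup G) := hkE w (hWE hwW)
  have hkwX : k * w * k⁻¹ ∉ X := fun e => hw' ((hmemW' w).2 (hinv _ e (by rw [conj_pow, hW2 w hwW]; group)))
  have hxX : c * (k * w * k⁻¹) ∈ X := (hmulX hcT hkw).2 (iff_of_false hcX hkwX)
  obtain ⟨a', ha'X, ha'c⟩ := hshift _ hkc
  set g := k⁻¹ * a' * k with hg
  have hgW' : ∀ v ∈ W', g * v * g⁻¹ = v := fun v hv => by
    have e := hWc a' (hXT ha'X) _ ((hmemW' v).1 hv)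
    calc g * v * g⁻¹ = k⁻¹ * (a' * (k * v * k⁻¹)) * a'⁻¹ * k := by rw [hg]; group
      _ = k⁻¹ * (k * v * k⁻¹ * a') * a'⁻¹ * k := by rw [e]
      _ = v := by group
  have hgw : g * w * g⁻¹ = w * c := by
    have e1 : a' * (c * (k * w * k⁻¹)) * a'⁻¹ = c * (k * w * k⁻¹) := by
      rw [hXab a' ha'X _ hxX, mul_inv_cancel_right]
    have e2 : (k * c * k⁻¹) * (c * (k * w * k⁻¹)) = (c * (k * w * k⁻¹)) * (k * c * k⁻¹) :=
      hXab _ (hWX hkc) _ hxX
    have e3 : a' * (k * w * k⁻¹) * a'⁻¹ = (k * w * k⁻¹) * (k * c * k⁻¹) := by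
      calc a' * (k * w * k⁻¹) * a'⁻¹
          = a' * c * (a'⁻¹ * a') * (c * (k * w * k⁻¹)) * a'⁻¹ := by
            rw [inv_mul_cancel, mul_one,
              show a' * c * (c * (k * w * k⁻¹)) = a' * (c * c) * (k * w * k⁻¹) by group, hc2, mul_one]
        _ = (a' * c * a'⁻¹) * (a' * (c * (k * w * k⁻¹)) * a'⁻¹) := by group
        _ = c * (k * c * k⁻¹) * (c * (k * w * k⁻¹)) := by rw [ha'c, e1]
        _ = c * (c * (k * w * k⁻¹) * (k * c * k⁻¹)) := by rw [mul_assoc c, e2]
        _ = c * c * ((k * w * k⁻¹) * (k * c * k⁻¹)) := by group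
        _ = _ := by rw [hc2, one_mul]
    calc g * w * g⁻¹ = k⁻¹ * (a' * (k * w * k⁻¹) * a'⁻¹) * k := by rw [hg]; group
      _ = k⁻¹ * ((k * w * k⁻¹) * (k * c * k⁻¹)) * k := by rw [e3]
      _ = w * c := by group
  -- elements of `E`
  have hEcases : ∀ u ∈ E, ∃ v ∈ W, u = v ∨ u = v * c := by
    rintro u (hu | hu)
    · exact ⟨u, hu, Or.inl rfl⟩
    · exact ⟨u * c, hu, Or.inr (by rw [mul_assoc, hc2, mul_one])⟩
  have conj_mul : ∀ h x y : G, h * (x * y) * h⁻¹ = (h * x * h⁻¹) * (h * y * h⁻¹) := fun h x y => by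
    group
  have haE : ∀ u ∈ E, a * u * a⁻¹ = u ∨ a * u * a⁻¹ = u * l := by
    intro u hu
    obtain ⟨v, hv, rfl | rfl⟩ := hEcases u hu
    · exact Or.inl (haW _ hv)
    · exact Or.inr (by rw [conj_mul, haW _ hv, hac, mul_assoc])
  have hgE : ∀ u ∈ E, g * u * g⁻¹ = u ∨ g * u * g⁻¹ = u * c := by
    intro u hu
    have hgc : g * c * g⁻¹ = c := hgW' c hcW'
    have hgl : g * l * g⁻¹ = l := hgW' l hlW'
    have hv0 : ∀ v ∈ W, g * v * g⁻¹ = v ∨ g * v * g⁻¹ = v * c := by
      intro v hv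
      rcases hWcases v hv with rfl | rfl | rfl | rfl
      · exact Or.inl (by group)
      · exact Or.inl hgl
      · exact Or.inr hgw
      · exact Or.inr (by rw [conj_mul, hgl, hgw, mul_assoc])
    obtain ⟨v, hv, rfl | rfl⟩ := hEcases u hu
    · exact hv0 _ hv
    · rcases hv0 v hv with e | e
      · exact Or.inl (by rw [conj_mul, e, hgc])
      · exact Or.inr (by rw [conj_mul, e, hgc])
  -- the flag stabiliser
  have hEcomm : ∀ x ∈ E, ∀ y ∈ E, x * y = y * x := fun x hx y hy => by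
    have h1 := hE2 _ (mul_mem hx hy)
    rw [pow_two] at h1
    have hx2 := hE2 x hx
    have hy2 := hE2 y hy
    rw [pow_two] at hx2 hy2
    rw [← inv_eq_of_mul_eq_one_right h1, mul_inv_rev, inv_eq_of_mul_eq_one_right hx2,
      inv_eq_of_mul_eq_one_right hy2]
  let L : Subgroup G := zpowers l
  have hL : ∀ x ∈ L, x = 1 ∨ x = l := by
    rintro x ⟨i, rfl⟩
    rcases Int.even_or_odd' i with ⟨j, rfl | rfl⟩
    · left; show l ^ (2 * j) = 1; rw [zpow_mul, zpow_ofNat, pow_two, hl2, one_zpow]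
    · right; show l ^ (2 * j + 1) = l
      rw [zpow_add, zpow_mul, zpow_ofNat, pow_two, hl2, one_zpow, one_mul, zpow_one]
  have hLW' : L ≤ W' := zpowers_le.2 hlW'
  let H : Subgroup G :=
    { carrier := {h | h * l * h⁻¹ = l ∧ (∀ u ∈ E, h * u * h⁻¹ * u⁻¹ ∈ W') ∧
        (∀ u ∈ E, h⁻¹ * u * h ∈ E) ∧ ∀ u ∈ W', h * u * h⁻¹ * u⁻¹ ∈ L}
      one_mem' := ⟨by group, fun u _ => by simp, fun u hu => by simpa, fun u _ => by simp⟩
      mul_mem' := by
        rintro x y ⟨x1, x2, x3, x4⟩ ⟨y1, y2, y3, y4⟩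
        have e : ∀ u, x * y * u * (x * y)⁻¹ * u⁻¹ =
            (x * (y * u * y⁻¹ * u⁻¹) * x⁻¹) * (x * u * x⁻¹ * u⁻¹) := fun u => by group
        refine ⟨?_, fun u hu => ?_, fun u hu => ?_, fun u hu => ?_⟩
        · calc x * y * l * (x * y)⁻¹ = x * (y * l * y⁻¹) * x⁻¹ := by group
            _ = l := by rw [y1, x1]
        · rw [e]
          refine mul_mem ?_ (x2 u hu)
          have := mul_mem (hLW' (x4 _ (y2 u hu))) (y2 u hu)
          simpa [mul_assoc] using this
        · have := y3 _ (x3 u hu)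
          rwa [show y⁻¹ * (x⁻¹ * u * x) * y = (x * y)⁻¹ * u * (x * y) by group] at this
        · rw [e]
          refine mul_mem ?_ (x4 u hu)
          rcases hL _ (y4 u hu) with q | q <;> rw [q]
          · simp
          · rw [x1]; exact mem_zpowers l
      inv_mem' := by
        rintro x ⟨x1, x2, x3, x4⟩
        have e : ∀ u, x⁻¹ * u * x⁻¹⁻¹ * u⁻¹ = x⁻¹ * (x * u * x⁻¹ * u⁻¹)⁻¹ * x := fun u => by group
        have hl' : x⁻¹ * l * x = l := by
          calc x⁻¹ * l * x = x⁻¹ * (x * l * x⁻¹) * x := by rw [x1]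
            _ = l := by group
        have hE' : ∀ u ∈ E, x * u * x⁻¹ ∈ E := fun u hu => by
          have := mul_mem (hW'E (x2 u hu)) hu
          simpa [mul_assoc] using this
        have hW'' : ∀ y ∈ W', x⁻¹ * y * x ∈ W' := fun y hy => by
          have h1 := x3 y (hW'E hy)
          have h2 := x2 _ h1
          rw [show x * (x⁻¹ * y * x) * x⁻¹ = y by group] at h2
          have := inv_mem (mul_mem (inv_mem hy) h2)
          simpa [mul_assoc] using this
        refine ⟨?_, fun u hu => ?_, fun u hu => ?_, fun u hu => ?_⟩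
        · rw [inv_inv]; exact hl'
        · rw [e]; exact hW'' _ (inv_mem (x2 u hu))
        · rw [inv_inv]; exact hE' u hu
        · rw [e]
          rcases hL _ (inv_mem (x4 u hu)) with q | q <;> rw [q]
          · simp
          · rw [hl']; exact mem_zpowers l }
  have hdiff : ∀ {h u y : G}, u ∈ E → y ∈ E → h * u * h⁻¹ = u * y → h * u * h⁻¹ * u⁻¹ = y :=
    fun {h u y} hu hy e => by rw [e, hEcomm u hu y hy, mul_inv_cancel_right]
  have haH : a ∈ H := by
    refine ⟨haW l hlW, fun u hu => ?_, fun u hu => ?_, fun u hu => ?_⟩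
    · rcases haE u hu with q | q
      · rw [q, mul_inv_cancel]; exact one_mem _
      · rw [hdiff hu (hWE hlW) q]; exact hlW'
    · rcases haE u hu with q | q
      · have : a⁻¹ * u * a = u := by
          calc a⁻¹ * u * a = a⁻¹ * (a * u * a⁻¹) * a := by rw [q]
            _ = u := by group
        rwa [this]
      · have hul := mul_mem hu (hWE hlW)
        have : a⁻¹ * u * a = u * l := by
          calc a⁻¹ * u * a = a⁻¹ * ((a * u * a⁻¹) * l) * a := by rw [q, mul_assoc u, hl2, mul_one]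
            _ = a⁻¹ * ((a * u * a⁻¹) * (a * l * a⁻¹)) * a := by rw [haW l hlW]
            _ = u * l := by group
        rwa [this]
    · rcases haE u (hW'E hu) with q | q
      · rw [q, mul_inv_cancel]; exact one_mem _
      · rw [hdiff (hW'E hu) (hWE hlW) q]; exact mem_zpowers l
  have hgH : g ∈ H := by
    refine ⟨hgW' l hlW', fun u hu => ?_, fun u hu => ?_, fun u hu => ?_⟩
    · rcases hgE u hu with q | q
      · rw [q, mul_inv_cancel]; exact one_mem _
      · rw [hdiff hu hcE q]; exact hcW'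
    · rcases hgE u hu with q | q
      · have : g⁻¹ * u * g = u := by
          calc g⁻¹ * u * g = g⁻¹ * (g * u * g⁻¹) * g := by rw [q]
            _ = u := by group
        rwa [this]
      · have huc := mul_mem hu hcE
        have : g⁻¹ * u * g = u * c := by
          calc g⁻¹ * u * g = g⁻¹ * ((g * u * g⁻¹) * c) * g := by rw [q, mul_assoc u, hc2, mul_one]
            _ = g⁻¹ * ((g * u * g⁻¹) * (g * c * g⁻¹)) * g := by rw [hgW' c hcW']
            _ = u * c := by group
        rwa [this]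
    · rw [hgW' u hu, mul_inv_cancel]; exact one_mem _
  have hHN : H ≤ normalizer (E : Set G) := fun x hx => by
    rw [mem_normalizer_iff]
    intro u
    refine ⟨fun hu => ?_, fun hu => ?_⟩
    · have := mul_mem (hW'E (hx.2.1 u hu)) hu
      simpa [mul_assoc] using this
    · have := hx.2.2.1 _ hu
      simpa [mul_assoc] using this
  have hH4 : ∀ x ∈ H, ∀ u ∈ E, x * x * (x * x) * u * (x * x * (x * x))⁻¹ = u := by
    rintro x ⟨x1, x2, -, x4⟩ u hu
    set y := x * u * x⁻¹ * u⁻¹ with hy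
    have hyW := x2 u hu
    set e := x * y * x⁻¹ * y⁻¹ with he
    have heL := x4 y hyW
    have hxe : x * e * x⁻¹ = e := by
      rcases hL e heL with q | q <;> rw [q]
      · group
      · exact x1
    have hE' : y ∈ E := hW'E hyW
    have heE : e ∈ E := hW'E (hLW' heL)
    have hy2 : y * y = 1 := by rw [← pow_two]; exact hE2 y hE'
    have he2 : e * e = 1 := by rw [← pow_two]; exact hE2 e heE
    have s1 : x * u * x⁻¹ = y * u := by rw [hy]; group
    have s2 : x * y * x⁻¹ = e * y := by rw [he]; group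
    have s3 : x * x * u * (x * x)⁻¹ = e * u := by
      calc x * x * u * (x * x)⁻¹ = x * (x * u * x⁻¹) * x⁻¹ := by group
        _ = (x * y * x⁻¹) * (x * u * x⁻¹) :=
          (congrArg (fun z => x * z * x⁻¹) s1).trans (conj_mul x y u)
        _ = e * (y * y) * u := by rw [s1, s2]; group
        _ = e * u := by rw [hy2, mul_one]
    calc x * x * (x * x) * u * (x * x * (x * x))⁻¹ = x * x * (x * x * u * (x * x)⁻¹) * (x * x)⁻¹ := by group
      _ = (x * (x * e * x⁻¹) * x⁻¹) * (x * x * u * (x * x)⁻¹) :=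
        (congrArg (fun z => x * x * z * (x * x)⁻¹) s3).trans (by group)
      _ = e * (e * u) := by rw [hxe, hxe, s3]
      _ = u := by rw [← mul_assoc, he2, one_mul]
  -- a Sylow subgroup of the stabiliser covers its action
  let ρ : H →* MulAut E := (normalizerMonoidHom E).comp (inclusion hHN)
  have hρ : ∀ (x : H) (u : E), ((ρ x u : E) : G) = (x : G) * u * (x : G)⁻¹ := fun x u => rfl
  have hR : IsPGroup 2 ρ.range := by
    rintro ⟨_, x, rfl⟩
    refine ⟨2, Subtype.ext ?_⟩
    show ρ x ^ 2 ^ 2 = 1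
    rw [← map_pow]
    ext u
    rw [hρ, MulAut.one_apply, SubgroupClass.coe_pow,
      show (x : G) ^ 2 ^ 2 = (x : G) * x * ((x : G) * x) by simp [pow_succ, mul_assoc]]
    exact hH4 x x.2 u u.2
  obtain ⟨P⟩ : Nonempty (Sylow 2 H) := inferInstance
  have htop := P.mapSurjective ρ.rangeRestrict_surjective
  have hcover : ∀ x : H, ∃ s ∈ (P : Subgroup H), ρ s = ρ x := by
    intro x
    have h1 : ((P.mapSurjective ρ.rangeRestrict_surjective : Sylow 2 ρ.range) :
        Subgroup ρ.range) = ⊤ :=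
      ((P.mapSurjective ρ.rangeRestrict_surjective).3
        (show IsPGroup 2 (⊤ : Subgroup ρ.range) from hR.to_subgroup _) le_top).symm
    have h2 : ρ.rangeRestrict x ∈ (P : Subgroup H).map ρ.rangeRestrict := by
      have h3 := mem_top (ρ.rangeRestrict x)
      rw [← h1] at h3
      exact h3
    obtain ⟨s, hs, hse⟩ := h2
    exact ⟨s, hs, congrArg Subtype.val hse⟩
  set S₁ := (P : Subgroup H).map H.subtype with hS₁
  have hS₁N : S₁ ≤ normalizer (E : Set G) := (map_subtype_le _).trans hHN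
  have hSE : IsPGroup 2 (S₁ ⊔ E : Subgroup G) :=
    IsPGroup.to_sup_of_normal_right' (P.2.map _) hEp hS₁N
  obtain ⟨m, hm⟩ := FusionSysGroup.exists_cj_le T hSE
  have hmE : ∀ u ∈ E, m * u * m⁻¹ ∈ (T : Subgroup G) := fun u hu => by
    simpa [cj_apply] using hm u (mem_sup_right hu)
  have hfix : ∀ x ∈ H, ∀ v ∈ W, x * (m⁻¹ * v * m) * x⁻¹ = m⁻¹ * v * m := by
    intro x hx v hv
    obtain ⟨s, hs, hse⟩ := hcover ⟨x, hx⟩
    have huE := F2 m hmE v hv
    have h1 : ((s : G)) * (m⁻¹ * v * m) * (s : G)⁻¹ = x * (m⁻¹ * v * m) * x⁻¹ := by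
      rw [← hρ s ⟨_, huE⟩, ← hρ ⟨x, hx⟩ ⟨_, huE⟩, hse]
    have h2 : m * (s : G) * m⁻¹ ∈ (T : Subgroup G) := by
      simpa [cj_apply] using hm (s : G) (mem_sup_left ⟨s, hs, rfl⟩)
    have h3 := hWc _ h2 v hv
    rw [← h1]
    calc (s : G) * (m⁻¹ * v * m) * (s : G)⁻¹
        = m⁻¹ * (m * (s : G) * m⁻¹ * v) * m * (s : G)⁻¹ := by group
      _ = m⁻¹ * (v * (m * (s : G) * m⁻¹)) * m * (s : G)⁻¹ := by rw [h3]
      _ = m⁻¹ * v * m := by group
  have hsub : (W : Set G) ⊆ {1, m * l * m⁻¹} := by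
    intro v hv
    have huE := F2 m hmE v hv
    have h1 := hfix a haH v hv
    have h2 := hfix g hgH v hv
    have huW : m⁻¹ * v * m ∈ W := by
      obtain ⟨v', hv', q | q⟩ := hEcases _ huE
      · exact q ▸ hv'
      · exfalso
        rw [q, conj_mul, haW v' hv', hac, mul_right_inj, mul_eq_left] at h1
        exact hl1 h1
    rcases hWcases _ huW with q | q | q | q
    · left
      calc v = m * (m⁻¹ * v * m) * m⁻¹ := by group
        _ = 1 := by rw [q]; group
    · right
      show v = _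
      rw [← q]; group
    · rw [q, hgw, mul_eq_left] at h2
      exact absurd (h2 ▸ one_mem W) hcW
    · rw [q, conj_mul, hgw, hgW' l hlW', mul_right_inj, mul_eq_left] at h2
      exact absurd (h2 ▸ one_mem W) hcW
  have := Set.ncard_le_ncard hsub
  have h2le : ({1, m * l * m⁻¹} : Set G).ncard ≤ 2 :=
    (Set.ncard_insert_le _ _).trans (by rw [Set.ncard_singleton])
  rw [← Nat.card_coe_set_eq, show Nat.card ↥(W : Set G) = Nat.card W from rfl, hW4] at this
  omega

end Cfsg.Agent.SmallAb92Fusion
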