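import Cfsg.Agent.Lib.SmallAb92Bound
import Cfsg.Agent.Lib.NoE8Moving20

/-!
The nonabelian case in which the automorphism moves the central involutions: the commutator part
has central four group as centre and elementary quotient.
-/

open Subgroup
open scoped commutatorElement

set_option autoImplicit false
set_option linter.unusedSectionVars false

namespace Cfsg.Agent.SmallAb92Moved

open Cfsg.Agent.SmallAb92Act
open Cfsg.Agent.NoE8Central20 (Crit Fixed char_inv centralizer_inv)

theorem crit_char {X : Type*} [Group X] [Finite X] {A : Subgroup (MulAut X)} (K : Crit A) :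
    K.E.Characteristic := by
  refine characteristic_iff_map_le.2 fun φ => ?_
  rintro _ ⟨a, ha, rfl⟩
  rw [SetLike.mem_coe, K.mem_E] at ha
  rw [K.mem_E]
  refine ⟨centralizer_inv K.charH φ ha.1, ?_⟩
  show (φ a) ^ 2 = 1
  rw [← map_pow, ha.2, map_one]

variable {T : Type*} [Group T] [Finite T] (S : Setting T)

theorem card_moved (hmv : ∀ e ∈ center T, e ^ 2 = 1 → S.φ e = e → e = 1)
    (h3 : ∃ k : ℕ, S.φ ^ 3 ^ k = 1) (hna : ¬ IsMulCommutative S.X) :
    Nat.card T = 64 ∨ Nat.card T = 128 := by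
  classical
  haveI : Fact (Nat.Prime 2) := ⟨Nat.prime_two⟩
  obtain ⟨K⟩ := SmallAb92Crit.exists_crit S.hyp hna
  haveI := crit_char K
  set ET := K.E.map S.X.subtype with hET
  haveI hETn : ET.Normal := by rw [hET]; infer_instance
  have hE2 : ∀ a ∈ K.E, a ^ 2 = 1 := fun a ha => ((K.mem_E a).1 ha).2
  -- a central involution inside
  obtain ⟨e₀, he₀, he₀c, he₀o⟩ := exists_involution_center S.hT (N := ET) (fun h => by
    have h1 := card_map_of_injective (K := K.E) S.X.subtype_injective
    rw [← hET, h, Subgroup.card_bot] at h1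
    rcases K.card with q | q <;> omega)
  obtain ⟨a, ha, rfl⟩ := he₀
  change orderOf (a : T) = 2 at he₀o
  change (a : T) ∈ center T at he₀c
  have ha1 : a ≠ 1 := fun h => by rw [h, coe_one, orderOf_one] at he₀o; omega
  set b := S.φX a with hb
  have hbE : b ∈ K.E := K.inv _ (mem_zpowers _) a ha
  have hbc : (b : T) ∈ center T :=
    char_inv (inferInstance : (center T).Characteristic) S.φ he₀c
  have hmvX : ∀ e : S.X, (e : T) ∈ center T → e ^ 2 = 1 → S.φX e = e → e = 1 := fun e hec he2 hfe =>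
    Subtype.ext (hmv _ hec (by rw [← SubmonoidClass.coe_pow, he2]; rfl) (congrArg Subtype.val hfe))
  have hb1 : b ≠ 1 := fun h => ha1 (S.φX.injective (h.trans (map_one _).symm))
  have hba : b ≠ a := fun h => ha1 (hmvX a he₀c (hE2 a ha) h)
  have hainv : a⁻¹ = a := inv_eq_of_mul_eq_one_right (by rw [← pow_two]; exact hE2 a ha)
  have hab : a * b ≠ 1 := fun h => hba (by rw [eq_inv_of_mul_eq_one_right h, hainv])
  have h4set : ({1, a, b, a * b} : Set S.X).ncard = 4 := by
    have a1 : b ≠ a * b := fun h => ha1 (right_eq_mul.1 h)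
    have a2 : a ≠ a * b := fun h => hb1 (left_eq_mul.1 h)
    rw [Set.ncard_insert_of_notMem (by simp [Ne.symm ha1, Ne.symm hb1, Ne.symm hab]),
      Set.ncard_insert_of_notMem (by simp [Ne.symm hba, a2]), Set.ncard_pair a1]
  have hsub : ({1, a, b, a * b} : Set S.X) ⊆ (K.E : Set S.X) := by
    intro x hx
    simp only [Set.mem_insert_iff, Set.mem_singleton_iff] at hx
    rcases hx with rfl | rfl | rfl | rfl
    exacts [one_mem _, ha, hbE, mul_mem ha hbE]
  have hE4 : Nat.card K.E = 4 := by
    have h := Set.ncard_le_ncard hsub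
    rw [h4set, ← Nat.card_coe_set_eq, show Nat.card ↥(K.E : Set S.X) = Nat.card K.E from rfl] at h
    rcases K.card with q | q <;> omega
  have hall : ∀ e ∈ K.E, (e : T) ∈ center T := by
    intro e he
    have heq := Set.eq_of_subset_of_ncard_le hsub (by
      rw [h4set, ← Nat.card_coe_set_eq, show Nat.card ↥(K.E : Set S.X) = Nat.card K.E from rfl, hE4])
    have he' : e ∈ ({1, a, b, a * b} : Set S.X) := heq ▸ he
    simp only [Set.mem_insert_iff, Set.mem_singleton_iff] at he'
    rcases he' with rfl | rfl | rfl | rfl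
    exacts [one_mem _, he₀c, hbc, mul_mem he₀c hbc]
  have hfpf : ∀ e ∈ K.E, S.φX e = e → e = 1 := fun e he h => hmvX e (hall e he) (hE2 e he) h
  -- the elements of the four group as translates
  have hcyc : ∀ e ∈ K.E, e ≠ 1 → ∀ f ∈ K.E,
      f = 1 ∨ f = e ∨ f = S.φX e ∨ f = e * S.φX e := by
    intro e he he1 f hf
    have hfe := K.inv _ (mem_zpowers _) e he
    have h1 : S.φX e ≠ 1 := fun h => he1 (S.φX.injective (h.trans (map_one _).symm))
    have h2 : S.φX e ≠ e := fun h => he1 (hfpf e he h)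
    have heinv : e⁻¹ = e := inv_eq_of_mul_eq_one_right (by rw [← pow_two]; exact hE2 e he)
    have h3' : e * S.φX e ≠ 1 := fun h => h2 (by rw [eq_inv_of_mul_eq_one_right h, heinv])
    have hset : ({1, e, S.φX e, e * S.φX e} : Set S.X).ncard = 4 := by
      have a1 : S.φX e ≠ e * S.φX e := fun h => he1 (right_eq_mul.1 h)
      have a2 : e ≠ e * S.φX e := fun h => h1 (left_eq_mul.1 h)
      rw [Set.ncard_insert_of_notMem (by simp [Ne.symm he1, Ne.symm h1, Ne.symm h3']),
        Set.ncard_insert_of_notMem (by simp [Ne.symm h2, a2]), Set.ncard_pair a1]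
    have hsub' : ({1, e, S.φX e, e * S.φX e} : Set S.X) ⊆ (K.E : Set S.X) := by
      intro x hx
      simp only [Set.mem_insert_iff, Set.mem_singleton_iff] at hx
      rcases hx with rfl | rfl | rfl | rfl
      exacts [one_mem _, he, hfe, mul_mem he hfe]
    have heq := Set.eq_of_subset_of_ncard_le hsub' (by
      rw [hset, ← Nat.card_coe_set_eq, show Nat.card ↥(K.E : Set S.X) = Nat.card K.E from rfl, hE4])
    have hf' : f ∈ ({1, e, S.φX e, e * S.φX e} : Set S.X) := heq ▸ hf
    simpa using hf'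
  -- squares and commutators lie in the four group
  obtain ⟨hzE, hsq, hcom⟩ : center S.X ≤ K.E ∧ (∀ x : S.X, x ^ 2 ∈ K.E) ∧
      ∀ x y : S.X, ⁅x, y⁆ ∈ K.E := by
    by_cases hsm : ∀ N : Subgroup S.X, N.Normal → (∀ a ∈ N, ∀ b ∈ N, a * b = b * a) →
        (∀ a ∈ N, a ^ 2 = 1) → Nat.card N ≤ 4
    · have h : NoE8Base20.Hyp (zpowers S.φX) := ⟨S.hT.to_subgroup _, hna, hsm, S.odd_card, S.hyp.gen⟩
      obtain ⟨F⟩ := NoE8Moving20.exists_frame h K (mem_zpowers S.φX) ha hba
      obtain ⟨⟨-, hfc, hcc⟩, -, -, -⟩ := NoE8Moving20.moving_case F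
      have hFE : F.K.E = K.E := (Subgroup.eq_of_le_of_card_ge (fun e he =>
        NoE8Moving20.invol F (hE2 e he)) (by rw [F.card, hE4])).symm
      have hcz : ∀ x y : S.X, ⁅x, y⁆ ∈ center S.X := fun x y =>
        hcc ▸ commutator_mem_commutator (mem_top x) (mem_top y)
      have hsqz : ∀ x : S.X, x ^ 2 ∈ center S.X := fun x =>
        hfc ▸ PGroupsBasic.pow_mem_frattini (S.hT.to_subgroup _) x
      have hc2 : ∀ x y : S.X, ⁅x, y⁆ ^ 2 = 1 := fun x y => by
        rw [← PGroupsBasic.commutatorElement_pow_left (hcz x y),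
          commutatorElement_eq_one_iff_mul_comm]
        exact (mem_center_iff.1 (hsqz x) y).symm
      have hle : center S.X ≤ K.E := by
        let Z2 : Subgroup S.X :=
          { carrier := {u | u ∈ center S.X ∧ u ^ 2 = 1}
            one_mem' := ⟨one_mem _, one_pow 2⟩
            mul_mem' := fun {u w} hu hw => ⟨mul_mem hu.1 hw.1, by
              rw [(show Commute u w from mem_center_iff.1 hw.1 u).mul_pow, hu.2, hw.2, one_mul]⟩
            inv_mem' := fun {u} hu => ⟨inv_mem hu.1, by rw [inv_pow, hu.2, inv_one]⟩ }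
        have h2 : commutator S.X ≤ Z2 := by
          rw [_root_.commutator_def, Subgroup.commutator_le]
          exact fun x _ y _ => ⟨hcz x y, hc2 x y⟩
        intro u hu
        rw [← hcc] at hu
        exact hFE ▸ NoE8Moving20.invol F (h2 hu).2
      exact ⟨hle, fun x => hle (hsqz x), fun x y => hle (hcz x y)⟩
    · push Not at hsm
      obtain ⟨N, hN, hNc, hN2, hN4⟩ := hsm
      haveI := hN
      have hETc : ∀ e ∈ ET, ∀ t : T, t * e = e * t := by
        rintro _ ⟨e, he, rfl⟩ t
        exact mem_center_iff.1 (hall e he) t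
      have hET2 : ∀ e ∈ ET, e ^ 2 = 1 := by
        rintro _ ⟨e, he, rfl⟩
        rw [← map_pow, hE2 e he, map_one]
      have hETcard : Nat.card ET = 4 := by
        rw [hET, card_map_of_injective S.X.subtype_injective, hE4]
      have hETX : ET ≤ S.X := map_subtype_le _
      have hETconj : ∀ e ∈ ET, ∀ t : T, t * e * t⁻¹ = e := fun e he t => by
        rw [hETc e he t, mul_inv_cancel_right]
      have hETφ : ∀ ψ ∈ zpowers S.φ, ∀ e ∈ ET, ψ e ∈ ET := by
        rintro ψ hψ _ ⟨e, he, rfl⟩
        obtain ⟨n, rfl⟩ := S.exists_pow hψ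
        exact ⟨_, K.inv _ (npow_mem_zpowers _ n) e he, S.φX_pow n e⟩
      have hgrow : ∀ g : T, g ^ 2 = 1 → (∀ t : T, ⁅t, g⁆ ∈ ET) → g ∈ ET := by
        intro g hg hgt
        by_contra hgE
        obtain ⟨hn, hc, h2, hcard⟩ := grow hETn (fun x hx y _ => (hETc x hx y).symm) hET2 hg
          (fun x hx => (hETc x hx g).symm) hgt hgE
        have := S.small _ hn hc h2
        rw [hcard, hETcard] at this
        omega
      -- an involution outside, central modulo the four group
      obtain ⟨t₀, ht₀X, ht₀2, ht₀c, ht₀E⟩ : ∃ t₀ ∈ S.X, t₀ ^ 2 = 1 ∧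
          (∀ x ∈ S.X, ⁅x, t₀⁆ ∈ ET) ∧ t₀ ∉ ET := by
        haveI : K.E.Normal := inferInstance
        have hel : Cfsg.IsElementaryAbelian 2 (K.E ⊔ N : Subgroup S.X) :=
          PGroupsBasic.isElementaryAbelian_sup
            ⟨PGroupsBasic.isMulCommutative_of_forall fun x _ y hy =>
              mem_center_iff.1 (K.central hy) x, hE2⟩
            ⟨PGroupsBasic.isMulCommutative_of_forall hNc, hN2⟩
            (fun e he => mem_centralizer_iff.2 fun y _ => mem_center_iff.1 (K.central he) y)
        have hlt : K.E < K.E ⊔ N := lt_of_le_of_ne le_sup_left fun h => by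
          have := Subgroup.card_le_of_le (show N ≤ K.E from h ▸ le_sup_right)
          omega
        obtain ⟨M, hM, hEM, hMN, hMc⟩ :=
          PGroupsBasic.exists_normal_succ (S.hT.to_subgroup S.X) hlt
        haveI := hM
        obtain ⟨t, htM, htE⟩ := PGroupsCritical.exists_succ_not_le hEM hMc
        refine ⟨t, t.2, ?_, fun x hx => ?_, fun h => htE ((mem_map_iff_mem S.X.subtype_injective).1 h)⟩
        · rw [← SubmonoidClass.coe_pow, hel.2 t (hMN htM)]; rfl
        · exact ⟨_, PGroupsCritical.commutator_mem_of_succ (S.hT.to_subgroup S.X) hEM hMc htM ⟨x, hx⟩,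
            map_commutatorElement S.X.subtype _ _⟩
      let W : Subgroup T :=
        { carrier := {g | g ∈ S.X ∧ (∀ x ∈ S.X, ⁅x, g⁆ ∈ ET) ∧ g ^ 2 ∈ ET}
          one_mem' := ⟨one_mem _, fun x _ => by rw [commutatorElement_one_right]; exact one_mem _,
            by rw [one_pow]; exact one_mem _⟩
          mul_mem' := by
            rintro g h ⟨g1, g2, g3⟩ ⟨h1, h2, h3⟩
            refine ⟨mul_mem g1 h1, fun x hx => ?_, ?_⟩
            · rw [show ⁅x, g * h⁆ = ⁅x, g⁆ * (g * ⁅x, h⁆ * g⁻¹) by
                simp only [commutatorElement_def]; group, hETconj _ (h2 x hx)]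
              exact mul_mem (g2 x hx) (h2 x hx)
            · rw [show (g * h) ^ 2 = g ^ 2 * ⁅g⁻¹, h⁆ * h ^ 2 by
                simp only [commutatorElement_def, pow_two]; group]
              exact mul_mem (mul_mem g3 (h2 _ (inv_mem g1))) h3
          inv_mem' := by
            rintro g ⟨g1, g2, g3⟩
            refine ⟨inv_mem g1, fun x hx => ?_, by rw [inv_pow]; exact inv_mem g3⟩
            rw [show ⁅x, g⁻¹⁆ = g⁻¹ * ⁅x, g⁆⁻¹ * g⁻¹⁻¹ by
              simp only [commutatorElement_def]; group, hETconj _ (inv_mem (g2 x hx))]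
            exact inv_mem (g2 x hx) }
      have hmemW : ∀ g, g ∈ W ↔ g ∈ S.X ∧ (∀ x ∈ S.X, ⁅x, g⁆ ∈ ET) ∧ g ^ 2 ∈ ET := fun g => Iff.rfl
      haveI hWn : W.Normal := ⟨fun g hg t => ⟨S.normal_X.conj_mem g hg.1 t, fun x hx => by
        have hx' : t⁻¹ * x * t ∈ S.X := by simpa using S.normal_X.conj_mem x hx t⁻¹
        rw [show ⁅x, t * g * t⁻¹⁆ = t * ⁅t⁻¹ * x * t, g⁆ * t⁻¹ by
          simp only [commutatorElement_def]; group]
        exact hETn.conj_mem _ (hg.2.1 _ hx') t,
        by rw [conj_pow]; exact hETn.conj_mem _ hg.2.2 t⟩⟩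
      have hWφ : ∀ ψ ∈ zpowers S.φ, ∀ g ∈ W, ψ g ∈ W := by
        intro ψ hψ g hg
        refine ⟨S.map_mem_X hψ hg.1, fun x hx => ?_, by rw [← map_pow]; exact hETφ ψ hψ _ hg.2.2⟩
        have h := hETφ ψ hψ _ (hg.2.1 _ (S.map_mem_X (inv_mem hψ) hx))
        rwa [map_commutatorElement, MulAut.apply_inv_self] at h
      have hETW : ET ≤ W := fun e he => ⟨hETX he, fun x _ => by
        rw [commutatorElement_eq_one_iff_mul_comm.2 (hETc e he x)]; exact one_mem _,
        by rw [hET2 e he]; exact one_mem _⟩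
      have ht₀W : t₀ ∈ W := ⟨ht₀X, ht₀c, by rw [ht₀2]; exact one_mem _⟩
      let R : Subgroup T :=
        { carrier := {g | g ∈ W ∧ (∀ w ∈ W, w * g = g * w) ∧ ∀ t : T, ⁅t, g⁆ ∈ ET}
          one_mem' := ⟨one_mem _, fun w _ => by simp,
            fun t => by rw [commutatorElement_one_right]; exact one_mem _⟩
          mul_mem' := by
            rintro g h ⟨g1, g2, g3⟩ ⟨h1, h2, h3⟩
            refine ⟨mul_mem g1 h1,
              fun w hw => ((show Commute w g from g2 w hw).mul_right (h2 w hw)).eq, fun t => ?_⟩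
            rw [show ⁅t, g * h⁆ = ⁅t, g⁆ * (g * ⁅t, h⁆ * g⁻¹) by
              simp only [commutatorElement_def]; group, hETconj _ (h3 t)]
            exact mul_mem (g3 t) (h3 t)
          inv_mem' := by
            rintro g ⟨g1, g2, g3⟩
            refine ⟨inv_mem g1, fun w hw => (show Commute w g from g2 w hw).inv_right.eq, fun t => ?_⟩
            rw [show ⁅t, g⁻¹⁆ = g⁻¹ * ⁅t, g⁆⁻¹ * g⁻¹⁻¹ by
              simp only [commutatorElement_def]; group, hETconj _ (inv_mem (g3 t))]
            exact inv_mem (g3 t) }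
      haveI hRn : R.Normal := ⟨fun g hg s => ⟨hWn.conj_mem g hg.1 s, fun w hw => by
        have hw' : s⁻¹ * w * s ∈ W := by simpa using hWn.conj_mem w hw s⁻¹
        calc w * (s * g * s⁻¹) = s * (s⁻¹ * w * s * g) * s⁻¹ := by group
          _ = s * (g * (s⁻¹ * w * s)) * s⁻¹ := by rw [hg.2.1 _ hw']
          _ = s * g * s⁻¹ * w := by group,
        fun t => by
          rw [show ⁅t, s * g * s⁻¹⁆ = s * ⁅s⁻¹ * t * s, g⁆ * s⁻¹ by
            simp only [commutatorElement_def]; group]
          exact hETn.conj_mem _ (hg.2.2 _) s⟩⟩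
      -- the centraliser of `W`
      have hcW : ∀ k ∈ S.X, (∀ w ∈ W, w * k = k * w) → k ∈ ET := by
        intro k hkX hkW
        by_contra hkE
        set D := S.X ⊓ centralizer (W : Set T) with hD
        haveI : D.Normal := by rw [hD]; infer_instance
        have hED : ET ≤ D := fun e he =>
          ⟨hETX he, mem_centralizer_iff.2 fun w _ => hETc e he w⟩
        have hlt : ET < D := lt_of_le_of_ne hED fun h =>
          hkE (h ▸ ⟨hkX, mem_centralizer_iff.2 hkW⟩)
        obtain ⟨M, hM, hEM, hMD, hMc⟩ := PGroupsBasic.exists_normal_succ S.hT hlt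
        haveI := hM
        obtain ⟨u, huM, huE⟩ := PGroupsCritical.exists_succ_not_le hEM hMc
        have hut : ∀ t : T, ⁅t, u⁆ ∈ ET :=
          fun t => PGroupsCritical.commutator_mem_of_succ S.hT hEM hMc huM t
        have hu2 : u ^ 2 ∈ ET := by
          have hidx : (ET.subgroupOf M).index = 2 := by
            have := (ET.subgroupOf M).card_mul_index
            rw [Nat.card_congr (subgroupOfEquivOfLe hEM).toEquiv, hMc] at this
            exact Nat.eq_of_mul_eq_mul_left Nat.card_pos this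
          have := sq_mem_of_index_two hidx (⟨u, huM⟩ : M)
          simpa [mem_subgroupOf] using this
        have huR : u ∈ R := ⟨⟨(hMD huM).1, fun x _ => hut x, hu2⟩,
          fun w hw => mem_centralizer_iff.1 (hMD huM).2 w hw, hut⟩
        have hφuR : S.φ u ∈ R := by
          refine ⟨hWφ _ (mem_zpowers _) u huR.1, fun w hw => ?_, fun t => ?_⟩
          · have h := congrArg S.φ (huR.2.1 _ (hWφ _ (inv_mem (mem_zpowers _)) w hw))
            rwa [map_mul, map_mul, MulAut.apply_inv_self] at h
          · have h := hETφ _ (mem_zpowers _) _ (hut (S.φ⁻¹ t))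
            rwa [map_commutatorElement, MulAut.apply_inv_self] at h
        obtain ⟨e, he, heu⟩ := hu2
        change (e : T) = u ^ 2 at heu
        have he1 : e ≠ 1 := fun h => huE (hgrow u (by rw [← heu, h]; rfl) hut)
        have hroot : ∀ f ∈ ET, ∃ r ∈ R, r ^ 2 = f := by
          rintro _ ⟨f, hf, rfl⟩
          rcases hcyc e he he1 f hf with rfl | rfl | rfl | rfl
          · exact ⟨1, one_mem _, by rw [one_pow]; rfl⟩
          · exact ⟨u, huR, heu.symm⟩
          · refine ⟨S.φ u, hφuR, ?_⟩
            show S.φ u ^ 2 = S.φ (e : T)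
            rw [heu, map_pow]
          · refine ⟨u * S.φ u, mul_mem huR hφuR, ?_⟩
            rw [(show Commute u (S.φ u) from hφuR.2.1 u huR.1).mul_pow]
            show u ^ 2 * S.φ u ^ 2 = (e : T) * S.φ (e : T)
            rw [heu, map_pow]
        have ht₀R : t₀ ∉ R := fun h => ht₀E (hgrow t₀ ht₀2 h.2.2)
        have hRW : R < W := lt_of_le_of_ne (fun g hg => hg.1) fun h => ht₀R (h ▸ ht₀W)
        obtain ⟨M', hM', hRM', hM'W, hM'c⟩ := PGroupsBasic.exists_normal_succ S.hT hRW
        haveI := hM'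
        obtain ⟨w, hwM, hwR⟩ := PGroupsCritical.exists_succ_not_le hRM' hM'c
        have hwW := hM'W hwM
        have hwt : ∀ t : T, ⁅t, w⁆ ∈ R :=
          fun t => PGroupsCritical.commutator_mem_of_succ S.hT hRM' hM'c hwM t
        obtain ⟨r, hr, hr2⟩ := hroot _ hwW.2.2
        set v := w * r with hv
        have hv2 : v ^ 2 = 1 := by
          rw [hv, (show Commute w r from hr.2.1 w hwW).mul_pow, hr2, ← pow_two, hET2 _ hwW.2.2]
        have hvW : v ∈ W := mul_mem hwW hr.1
        have hvt : ∀ t : T, ⁅t, v⁆ ∈ ET := by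
          intro t
          set g := ⁅t, v⁆ with hg
          have hgR : g ∈ R := by
            rw [hg, hv, show ⁅t, w * r⁆ = ⁅t, w⁆ * (w * ⁅t, r⁆ * w⁻¹) by
              simp only [commutatorElement_def]; group, hETconj _ (hr.2.2 t)]
            exact mul_mem (hwt t) (⟨hETW (hr.2.2 t), fun y _ => hETc _ (hr.2.2 t) y, fun s => by
              rw [commutatorElement_eq_one_iff_mul_comm.2 (hETc _ (hr.2.2 t) s)]; exact one_mem _⟩)
          have hgv : t * v * t⁻¹ = g * v := by rw [hg, commutatorElement_def]; group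
          have h2 : (g * v) ^ 2 = 1 := by rw [← hgv, conj_pow, hv2, mul_one, mul_inv_cancel]
          rw [(show Commute g v from (hgR.2.1 v hvW).symm).mul_pow, hv2, mul_one] at h2
          exact hgrow g h2 hgR.2.2
        have hvR : v ∈ R := by
          have he' := hgrow v hv2 hvt
          exact ⟨hvW, fun y _ => hETc v he' y, hvt⟩
        refine hwR ?_
        have := mul_mem hvR (inv_mem hr)
        rwa [hv, mul_inv_cancel_right] at this
      have hmap : ∀ u : S.X, (u : T) ∈ ET → u ∈ K.E := fun u hu =>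
        (mem_map_iff_mem S.X.subtype_injective).1 hu
      have hlam : ∀ w ∈ W, ∀ x y : S.X,
          ⁅((x * y : S.X) : T), w⁆ = ⁅(y : T), w⁆ * ⁅(x : T), w⁆ := fun w hw x y => by
        rw [coe_mul, show ⁅(x : T) * y, w⁆ = (x : T) * ⁅(y : T), w⁆ * (x : T)⁻¹ * ⁅(x : T), w⁆ by
          simp only [commutatorElement_def]; group, hETconj _ (hw.2.1 _ y.2)]
      refine ⟨fun x hx => hmap x (hcW x x.2 fun w hw => congrArg Subtype.val
          (mem_center_iff.1 hx ⟨w, hw.1⟩)), fun x => hmap _ (hcW _ (x ^ 2).2 fun w hw => ?_),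
        fun x y => hmap _ (hcW _ (⁅x, y⁆ : S.X).2 fun w hw => ?_)⟩
      · refine (commutatorElement_eq_one_iff_mul_comm.1 ?_).symm
        rw [pow_two, hlam w hw, ← pow_two, hET2 _ (hw.2.1 _ x.2)]
      · refine (commutatorElement_eq_one_iff_mul_comm.1 ?_).symm
        let f : S.X →* center T := MonoidHom.mk'
          (fun u => ⟨⁅(u : T), w⁆, mem_center_iff.2 fun t => hETc _ (hw.2.1 _ u.2) t⟩)
          (fun u v => Subtype.ext (by
            show ⁅((u * v : S.X) : T), w⁆ = ⁅(u : T), w⁆ * ⁅(v : T), w⁆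
            rw [hlam w hw u v, hETc _ (hw.2.1 _ u.2) ⁅(v : T), w⁆]))
        have h : f ⁅x, y⁆ = 1 := by
          rw [map_commutatorElement, commutatorElement_eq_one_iff_mul_comm]
          exact Subtype.ext (mem_center_iff.1 (f y).2 _)
        exact congrArg Subtype.val h
  haveI : K.E.Normal := inferInstance
  have hcle : commutator S.X ≤ K.E := by
    rw [_root_.commutator_def, Subgroup.commutator_le]
    exact fun x _ y _ => hcom x y
  have hccE : commutator S.X = K.E := by
    refine le_antisymm hcle fun f hf => ?_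
    obtain ⟨c, hc, hc1⟩ : ∃ c ∈ commutator S.X, c ≠ 1 := by
      by_contra hno
      push Not at hno
      exact hna ⟨⟨fun x y => commutatorElement_eq_one_iff_mul_comm.1
        (hno _ (commutator_mem_commutator (mem_top x) (mem_top y)))⟩⟩
    have hψc : S.φX c ∈ commutator S.X :=
      char_inv (inferInstance : (commutator S.X).Characteristic) _ hc
    rcases hcyc c (hcle hc) hc1 f hf with rfl | rfl | rfl | rfl
    exacts [one_mem _, hc, hψc, mul_mem hc hψc]
  have F : Fixed (⊥ : Subgroup (MulAut S.X)) K.E := by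
    refine ⟨le_antisymm hzE K.central, hccE, le_antisymm ?_ ?_, hsq, hE2, fun φ hφ e _ => ?_, K.card⟩
    · exact PGroupsBasic.frattini_le_of_elementary_quotient (p := 2) hcle hsq
    · exact hccE.ge.trans (PGroupsBasic.commutator_le_frattini (S.hT.to_subgroup _))
    · rw [mem_bot] at hφ; subst hφ; rfl
  refine SmallAb92Bound.moved_card S F hE4 (fun e he h => hfpf e (hzE he) h) (fun t e he => ?_) h3
  apply Subtype.ext
  show t * (e : T) * t⁻¹ = e
  rw [mem_center_iff.1 (hall e (hzE he)) t, mul_inv_cancel_right]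

end Cfsg.Agent.SmallAb92Moved
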