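import Cfsg.Agent.Lib.SmallAb92Fusion
import Cfsg.Agent.Lib.SmallAb92Extra
import Cfsg.Agent.Lib.SmallAb92Moved
import Cfsg.Agent.Lib.SmallAb92Abel
import Cfsg.Agent.S0949

/-!
Simple groups whose Sylow 2-subgroup has small normal abelian subgroups and an odd automorphism in
the normalizer: the order of the Sylow 2-subgroup.
-/

open Subgroup
open scoped commutatorElement

set_option autoImplicit false
set_option linter.unusedSectionVars false

namespace Cfsg.Agent.SmallAb92Main

open Cfsg Cfsg.Agent.SmallAb92Act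

theorem card_two_generated {T : Type*} [Group T] [Finite T] {N : Subgroup T} {a b : T}
    (hgen : closure {a, b} = N) (hc : ∀ x ∈ N, ∀ y ∈ N, x * y = y * x)
    (h2 : ∀ x ∈ N, x ^ 2 = 1) : Nat.card N ≤ 4 := by
  classical
  have ha : a ∈ N := hgen ▸ subset_closure (Set.mem_insert _ _)
  have hb : b ∈ N := hgen ▸ subset_closure (Set.mem_insert_of_mem _ rfl)
  have haa : a * a = 1 := by rw [← pow_two]; exact h2 a ha
  have hbb : b * b = 1 := by rw [← pow_two]; exact h2 b hb
  have hab : b * a = a * b := hc b hb a ha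
  let s : Set T := {1, a, b, a * b}
  have hmul : ∀ x ∈ s, ∀ y ∈ s, x * y ∈ s := by
    have e1 : a * (a * b) = b := by rw [← mul_assoc, haa, one_mul]
    have e2 : b * (a * b) = a := by rw [← mul_assoc, hab, mul_assoc, hbb, mul_one]
    have e3 : a * b * a = b := by rw [mul_assoc, hab, e1]
    have e4 : a * b * b = a := by rw [mul_assoc, hbb, mul_one]
    have e5 : a * b * (a * b) = 1 := by rw [mul_assoc, e2, haa]
    intro x hx y hy
    simp only [s, Set.mem_insert_iff, Set.mem_singleton_iff] at hx hy ⊢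
    rcases hx with rfl | rfl | rfl | rfl <;> rcases hy with rfl | rfl | rfl | rfl <;>
      simp [haa, hbb, hab, e1, e2, e3, e4, e5]
  let H : Subgroup T :=
    { carrier := s
      one_mem' := Set.mem_insert _ _
      mul_mem' := fun {x y} hx hy => hmul x hx y hy
      inv_mem' := fun {x} hx => by
        have hxN : x ∈ N := by
          simp only [s, Set.mem_insert_iff, Set.mem_singleton_iff] at hx
          rcases hx with rfl | rfl | rfl | rfl
          exacts [one_mem _, ha, hb, mul_mem ha hb]
        rw [inv_eq_of_mul_eq_one_right (show x * x = 1 by rw [← pow_two]; exact h2 x hxN)]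
        exact hx }
  have hle : N ≤ H := by
    rw [← hgen, closure_le]
    rintro x (rfl | rfl)
    · exact Set.mem_insert_of_mem _ (Set.mem_insert _ _)
    · exact Set.mem_insert_of_mem _ (Set.mem_insert_of_mem _ (Set.mem_insert _ _))
  have h := Set.ncard_le_ncard (show (N : Set T) ⊆ s from hle)
  have h4 : s.ncard ≤ 4 := by
    refine (Set.ncard_insert_le _ _).trans ?_
    refine Nat.add_le_add_right ((Set.ncard_insert_le _ _).trans ?_) 1
    refine Nat.add_le_add_right ((Set.ncard_insert_le _ _).trans ?_) 1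
    rw [Set.ncard_singleton]
  rw [← Nat.card_coe_set_eq, show Nat.card ↥(N : Set T) = Nat.card N from rfl] at h
  omega

section aut

variable {T : Type*} [Group T] [Finite T]

/-- A power of an odd automorphism moving a central involution permutes the central involutions
without fixed points and has order a power of three. -/
theorem exists_three (hT : IsPGroup 2 T)
    (hsmall : ∀ N : Subgroup T, N.Normal → (∀ a ∈ N, ∀ b ∈ N, a * b = b * a) →
      (∀ a ∈ N, a ^ 2 = 1) → Nat.card N ≤ 4)
    {φ : MulAut T} (hodd : Odd (orderOf φ)) {e : T} (hec : e ∈ center T) (he2 : e ^ 2 = 1)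
    (hmov : φ e ≠ e) :
    ∃ ψ : MulAut T, Odd (orderOf ψ) ∧ ψ ≠ 1 ∧ (∃ k : ℕ, ψ ^ 3 ^ k = 1) ∧
      ∀ f ∈ center T, f ^ 2 = 1 → ψ f = f → f = 1 := by
  classical
  let W : Subgroup T :=
    { carrier := {u | u ∈ center T ∧ u ^ 2 = 1}
      one_mem' := ⟨one_mem _, one_pow 2⟩
      mul_mem' := fun {u w} hu hw => ⟨mul_mem hu.1 hw.1, by
        rw [(show Commute u w from mem_center_iff.1 hw.1 u).mul_pow, hu.2, hw.2, one_mul]⟩
      inv_mem' := fun {u} hu => ⟨inv_mem hu.1, by rw [inv_pow, hu.2, inv_one]⟩ }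
  have hWn : W.Normal := PGroupsBasic.normal_of_le_center fun u hu => hu.1
  have hW := hsmall W hWn (fun a _ b hb => mem_center_iff.1 hb.1 a) (fun a ha => ha.2)
  have hfc : ∀ (α : MulAut T), α e ∈ W := fun α =>
    ⟨NoE8Central20.char_inv (inferInstance : (center T).Characteristic) α hec,
      by rw [← map_pow, he2, map_one]⟩
  have he1 : e ≠ 1 := fun h => hmov (by rw [h, map_one])
  have heW : e ∈ W := ⟨hec, he2⟩
  set f := φ e with hf
  have hf1 : f ≠ 1 := fun h => he1 (φ.injective (h.trans (map_one φ).symm))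
  have heinv : e⁻¹ = e := inv_eq_of_mul_eq_one_right (by rw [← pow_two]; exact he2)
  have hef : e * f ≠ 1 := fun h => hmov (by rw [eq_inv_of_mul_eq_one_right h, heinv])
  have a1 : f ≠ e * f := fun h => he1 (right_eq_mul.1 h)
  have a2 : e ≠ e * f := fun h => hf1 (left_eq_mul.1 h)
  have h4 : ({1, e, f, e * f} : Set T).ncard = 4 := by
    rw [Set.ncard_insert_of_notMem (by simp [Ne.symm he1, Ne.symm hf1, Ne.symm hef]),
      Set.ncard_insert_of_notMem (by simp [Ne.symm hmov, a2]), Set.ncard_pair a1]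
  have hsub : ({1, e, f, e * f} : Set T) ⊆ (W : Set T) := by
    intro x hx
    simp only [Set.mem_insert_iff, Set.mem_singleton_iff] at hx
    rcases hx with q | q | q | q <;> rw [q]
    exacts [one_mem _, heW, hfc φ, mul_mem heW (hfc φ)]
  have hall : ∀ u ∈ W, u = 1 ∨ u = e ∨ u = f ∨ u = e * f := by
    intro u hu
    have h := Set.eq_of_subset_of_ncard_le hsub
      (by rw [h4, ← Nat.card_coe_set_eq]; exact hW)
    have hu' : u ∈ ({1, e, f, e * f} : Set T) := h ▸ hu
    simpa using hu'
  have hff : φ f = e * f := by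
    rcases hall (φ f) (hfc (φ * φ)) with q | q | q | q
    · exact absurd (φ.injective (q.trans (map_one φ).symm)) hf1
    · exfalso
      have h2 : (φ ^ 2) e = e := by rw [pow_two, MulAut.mul_apply]; exact q
      obtain ⟨k, hk⟩ := hodd
      have h := DFunLike.congr_fun (pow_orderOf_eq_one φ) e
      rw [hk, pow_succ', MulAut.mul_apply, pow_mul,
        zpow_fix h2 (npow_mem_zpowers _ k), MulAut.one_apply] at h
      exact hmov h
    · exact absurd (φ.injective q) hmov
    · exact q
  have h3 : (φ ^ 3) e = e := by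
    rw [show φ ^ 3 = φ * (φ * φ) by simp [pow_succ, mul_assoc], MulAut.mul_apply, MulAut.mul_apply,
      ← hf, hff, map_mul, ← hf, hff, mem_center_iff.1 hec f |>.symm, ← mul_assoc, ← pow_two,
      show f ^ 2 = 1 by rw [hf, ← map_pow, he2, map_one], one_mul]
  obtain ⟨k, m, hm, hkm⟩ :=
    Nat.exists_eq_pow_mul_and_not_dvd (orderOf_pos φ).ne' 3 (by norm_num)
  have hψe : (φ ^ m) e ≠ e := by
    have hdec : φ ^ m = (φ ^ (m % 3)) * (φ ^ 3) ^ (m / 3) := by
      rw [← pow_mul, ← pow_add, Nat.mod_add_div]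
    rw [hdec, MulAut.mul_apply, zpow_fix h3 (npow_mem_zpowers _ _)]
    rcases (show m % 3 = 1 ∨ m % 3 = 2 by omega) with q | q <;> rw [q]
    · rw [pow_one]; exact hmov
    · rw [pow_two, MulAut.mul_apply, ← hf, hff]
      exact Ne.symm a2
  refine ⟨φ ^ m, Odd.of_dvd_nat hodd (orderOf_pow_dvd m), fun h => hψe (by rw [h]; rfl),
    ⟨k, by rw [← pow_mul, mul_comm, ← hkm, pow_orderOf_eq_one]⟩, fun u huc hu2 hu => ?_⟩
  rcases hall u ⟨huc, hu2⟩ with q | q | q | q
  · exact q
  · exact absurd (q ▸ hu) hψe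
  · exfalso
    rw [q, hf, ← MulAut.mul_apply, ← pow_succ, pow_succ', MulAut.mul_apply] at hu
    exact hψe (φ.injective hu)
  · exfalso
    rw [q, ← hff, hf, ← MulAut.mul_apply, ← MulAut.mul_apply, ← pow_succ, ← pow_succ, pow_succ',
      MulAut.mul_apply] at hu
    have hu' := φ.injective hu
    rw [pow_succ', MulAut.mul_apply] at hu'
    exact hψe (φ.injective hu')

end aut

theorem main {G : Type*} [Group G] [Finite G]
    [IsSimpleGroup G] (hna : ¬ IsMulCommutative G) (T : Sylow 2 G)
    (hd2 : ∀ A : Subgroup ↥T, A.Normal → IsMulCommutative ↥A →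
      ∃ a b : ↥T, Subgroup.closure {a, b} = A)
    (hN : ¬ Subgroup.normalizer ((T : Subgroup G) : Set G) ≤
      (T : Subgroup G) ⊔ Subgroup.centralizer ((T : Subgroup G) : Set G)) :
    Nat.card ↥T = 4 ∨ Nat.card ↥T = 64 ∨ Nat.card ↥T = 128 := by
  classical
  haveI : Fact (Nat.Prime 2) := ⟨Nat.prime_two⟩
  show Nat.card (T : Subgroup G) = 4 ∨ Nat.card (T : Subgroup G) = 64 ∨
    Nat.card (T : Subgroup G) = 128
  have hsmall : ∀ N : Subgroup T, N.Normal → (∀ a ∈ N, ∀ b ∈ N, a * b = b * a) →
      (∀ a ∈ N, a ^ 2 = 1) → Nat.card N ≤ 4 := by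
    intro N hN hc h2
    obtain ⟨a, b, hab⟩ := hd2 N hN (PGroupsBasic.isMulCommutative_of_forall hc)
    exact card_two_generated hab hc h2
  let conjT : normalizer ((T : Subgroup G) : Set G) →* MulAut T :=
    normalizerMonoidHom (T : Subgroup G)
  have hconj : ∀ (g : normalizer ((T : Subgroup G) : Set G)) (x : T),
      ((conjT g x : T) : G) = (g : G) * x * (g : G)⁻¹ := fun g x => rfl
  have hoddT : ∀ g : normalizer ((T : Subgroup G) : Set G),
      Odd (orderOf (g : G)) → Odd (orderOf (conjT g)) := fun g hg =>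
    Odd.of_dvd_nat hg ((orderOf_map_dvd conjT g).trans (dvd_of_eq (Subgroup.orderOf_coe g).symm))
  by_cases hMv : ∃ g : normalizer ((T : Subgroup G) : Set G), Odd (orderOf (g : G)) ∧
      ∃ e : T, e ∈ center T ∧ e ^ 2 = 1 ∧ conjT g e ≠ e
  · obtain ⟨g, hg, e, hec, he2, hmov⟩ := hMv
    obtain ⟨ψ, hψo, hψ1, hψ3, hψfix⟩ := exists_three T.2 hsmall (hoddT g hg) hec he2 hmov
    let S : Setting T := ⟨T.2, hsmall, ψ, hψo, hψ1⟩
    by_cases hab : ∀ a b : S.X, a * b = b * a
    · rcases SmallAb92Abel.abelian_cases S hψfix hψ3 hab with ⟨n, hn, ⟨e'⟩⟩ | hsplit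
      · have hcard : Nat.card (T : Subgroup G) = 2 ^ n * 2 ^ n := by
          rw [Nat.card_congr e'.toEquiv, Nat.card_congr Multiplicative.toAdd, Nat.card_prod,
            Nat.card_zmod]
        rcases (show n = 1 ∨ 2 ≤ n by omega) with rfl | hn2
        · exact Or.inl (by rw [hcard]; norm_num)
        exfalso
        have h4 : 4 ≤ 2 ^ n := le_trans (by norm_num) (Nat.pow_le_pow_right (by norm_num) hn2)
        have hpos : 16 ≤ Nat.card (T : Subgroup G) := hcard ▸ Nat.mul_le_mul h4 h4
        obtain ⟨hnormal, -, -⟩ := S0949.result T n hn2 e' fun N hN hodd => by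
          rcases hN.eq_bot_or_eq_top with h | h
          · exact h
          · exfalso
            rw [h, card_top] at hodd
            have hdvd : 2 ∣ Nat.card G := (dvd_trans (dvd_pow_self 2 (by omega : n ≠ 0))
              (dvd_trans (dvd_mul_right _ (2 ^ n)) (hcard ▸ card_subgroup_dvd_card (T : Subgroup G))))
            exact Nat.not_even_iff_odd.2 hodd (even_iff_two_dvd.2 hdvd)
        rcases hnormal.eq_bot_or_eq_top with h | h
        · have h1 : Nat.card (T : Subgroup G) = 1 := (Subgroup.card_eq_one).2 h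
          omega
        · refine hna ⟨⟨fun a b => ?_⟩⟩
          have ha : a ∈ (T : Subgroup G) := by rw [h]; exact mem_top a
          have hb : b ∈ (T : Subgroup G) := by rw [h]; exact mem_top b
          have := e'.injective (show e' ((⟨a, ha⟩ : (T : Subgroup G)) * ⟨b, hb⟩) =
            e' (⟨b, hb⟩ * ⟨a, ha⟩) by rw [map_mul, map_mul, mul_comm])
          exact congrArg Subtype.val this
      · exfalso
        obtain ⟨hidx, W, hW4, hWX, hW2, hWc, hinv, c, hco, hcX, hshift⟩ := hsplit
        refine SmallAb92Fusion.false_of_split T hna (S.X.map (T : Subgroup G).subtype)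
          (W.map (T : Subgroup G).subtype) (map_subtype_le _) ?_ ?_ ?_ (map_mono hWX) ?_ ?_ ?_
          (c := (c : G)) c.2 ((Subgroup.orderOf_coe c).trans hco) ?_ ?_
        · rintro _ ⟨a, ha, rfl⟩ _ ⟨b, hb, rfl⟩
          exact congrArg Subtype.val (congrArg Subtype.val (hab ⟨a, ha⟩ ⟨b, hb⟩))
        · show ((S.X.map (T : Subgroup G).subtype).subgroupOf (T : Subgroup G)).index = 2
          rw [subgroupOf, comap_map_eq_self_of_injective (Subgroup.subtype_injective _)]
          exact hidx
        · rw [card_map_of_injective (Subgroup.subtype_injective _)]; exact hW4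
        · rintro _ ⟨w, hw, rfl⟩
          rw [← map_pow, hW2 w hw, map_one]
        · rintro s hs _ ⟨w, hw, rfl⟩
          exact congrArg Subtype.val (hWc ⟨s, hs⟩ w hw)
        · rintro _ ⟨x, hx, rfl⟩ hx2
          refine ⟨x, hinv x hx (Subtype.ext ?_), rfl⟩
          exact hx2
        · exact fun h => hcX ((mem_map_iff_mem (Subgroup.subtype_injective _)).1 h)
        · rintro _ ⟨w, hw, rfl⟩
          obtain ⟨a, ha, hac⟩ := hshift w hw
          exact ⟨a, mem_map_of_mem _ ha, congrArg Subtype.val hac⟩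
    · have hna' : ¬ IsMulCommutative S.X := fun h => hab fun a b => h.is_comm.comm a b
      exact Or.inr (SmallAb92Moved.card_moved S hψfix hψ3 hna')
  · push Not at hMv
    obtain ⟨g, hgN, hgo, x, hx, hmov⟩ := SmallAb92Fusion.exists_odd_moving T hN
    let φ := conjT ⟨g, hgN⟩
    let S : Setting T := ⟨T.2, hsmall, φ, hoddT ⟨g, hgN⟩ hgo, fun h => hmov (by
      have := congrArg (fun α : MulAut T => ((α ⟨x, hx⟩ : T) : G)) h
      exact this)⟩
    have hfixc : ∀ e ∈ center T, e ^ 2 = 1 → S.φ e = e := fun e he he2 =>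
      hMv ⟨g, hgN⟩ hgo e he he2
    have hfixX : ∀ e : S.X, (e : T) ∈ center T → e ^ 2 = 1 → S.φX e = e := fun e he he2 =>
      Subtype.ext (hfixc _ he (by rw [← SubmonoidClass.coe_pow, he2]; rfl))
    have hX2 : IsPGroup 2 S.X := S.hT.to_subgroup _
    have hnaX : ¬ IsMulCommutative S.X := by
      intro h
      obtain ⟨e, heX, hec, heo⟩ := exists_involution_center S.hT (N := S.X) S.X_ne_bot
      have he2 : (⟨e, heX⟩ : S.X) ^ 2 = 1 :=
        Subtype.ext (show e ^ 2 = 1 from orderOf_dvd_iff_pow_eq_one.1 (dvd_of_eq heo))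
      have h1 := SmallAb92Crit.mem_of_fixed S.hyp (N := (⊥ : Subgroup S.X)) (z := ⟨e, heX⟩) (by
        rw [_root_.commutator_def, Subgroup.commutator_le]
        intro a _ b _
        rw [mem_bot, commutatorElement_eq_one_iff_mul_comm]
        exact h.is_comm.comm a b) fun ψ hψ => by
          rw [mem_bot, zpow_fix (hfixX ⟨e, heX⟩ hec he2) hψ, inv_mul_cancel]
      rw [mem_bot] at h1
      have h1' : e = 1 := congrArg Subtype.val h1
      rw [h1', orderOf_one] at heo
      omega
    obtain ⟨K⟩ := SmallAb92Crit.exists_crit S.hyp hnaX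
    haveI := SmallAb92Moved.crit_char K
    have hE2 : ∀ a ∈ K.E, a ^ 2 = 1 := fun a ha => ((K.mem_E a).1 ha).2
    haveI : (K.E.map S.X.subtype).Normal := inferInstance
    obtain ⟨e₀, he₀, he₀c, he₀o⟩ := exists_involution_center S.hT (N := K.E.map S.X.subtype)
      (fun h => by
        have h1 := card_map_of_injective (K := K.E) S.X.subtype_injective
        rw [h, Subgroup.card_bot] at h1
        rcases K.card with q | q <;> omega)
    obtain ⟨a, ha, rfl⟩ := he₀
    change orderOf (a : T) = 2 at he₀o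
    change (a : T) ∈ center T at he₀c
    have ha1 : a ≠ 1 := fun h => by rw [h, coe_one, orderOf_one] at he₀o; omega
    have hfa : S.φX a = a := hfixX a he₀c (hE2 a ha)
    have hainv : a⁻¹ = a := inv_eq_of_mul_eq_one_right (by rw [← pow_two]; exact hE2 a ha)
    have hfixE : ∀ b ∈ K.E, S.φX b = b := by
      intro b hb
      by_contra hbm
      have hb1 : b ≠ 1 := fun h => hbm (by rw [h, map_one])
      have hba : b ≠ a := fun h => hbm (by rw [h, hfa])
      have hfb := K.inv _ (mem_zpowers S.φX) b hb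
      have hab : a * b ≠ 1 := fun h => hba (by rw [eq_inv_of_mul_eq_one_right h, hainv])
      have a1 : b ≠ a * b := fun h => ha1 (right_eq_mul.1 h)
      have a2 : a ≠ a * b := fun h => hb1 (left_eq_mul.1 h)
      have h4 : ({1, a, b, a * b} : Set S.X).ncard = 4 := by
        rw [Set.ncard_insert_of_notMem (by simp [Ne.symm ha1, Ne.symm hb1, Ne.symm hab]),
          Set.ncard_insert_of_notMem (by simp [Ne.symm hba, a2]), Set.ncard_pair a1]
      have hsub : ({1, a, b, a * b} : Set S.X) ⊆ (K.E : Set S.X) := by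
        intro u hu
        simp only [Set.mem_insert_iff, Set.mem_singleton_iff] at hu
        rcases hu with q | q | q | q <;> rw [q]
        exacts [one_mem _, ha, hb, mul_mem ha hb]
      have h := Set.eq_of_subset_of_ncard_le hsub (by
        rw [h4, ← Nat.card_coe_set_eq, show Nat.card ↥(K.E : Set S.X) = Nat.card K.E from rfl]
        rcases K.card with q | q <;> omega)
      have hfb' : S.φX b ∈ ({1, a, b, a * b} : Set S.X) := h ▸ hfb
      simp only [Set.mem_insert_iff, Set.mem_singleton_iff] at hfb'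
      rcases hfb' with q | q | q | q
      · exact hb1 (S.φX.injective (q.trans (map_one _).symm))
      · exact hba (S.φX.injective (q.trans hfa.symm))
      · exact hbm q
      · refine ha1 (SmallAb92Crit.eq_one_of_shift S.hyp (mem_zpowers S.φX) (e := b) ?_ hfa
          (hE2 a ha))
        rw [q, mem_center_iff.1 (K.central hb) a]
    have F := SmallAb92Crit.fixed_case S.hyp K fun ψ hψ b hb => zpow_fix (hfixE b hb) hψ
    rcases K.card with h2 | h4
    · obtain ⟨C⟩ := SmallAb92Extra.exists_ctx S F h2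
      rcases C.main with h | h | ⟨z, hzc, hzo, hsq, hroot⟩
      · exact Or.inr (Or.inl h)
      · exact Or.inr (Or.inr h)
      exfalso
      refine SmallAb92Fusion.false_of_squares T hna (z := (z : G)) z.2
        ((Subgroup.orderOf_coe z).trans hzo)
        (fun s hs => congrArg Subtype.val (mem_center_iff.1 hzc ⟨s, hs⟩)) ?_ ?_ ?_
      · intro n hn ho f hf hfo hfc
        have h := hMv ⟨n, hn⟩ ho (⟨f, hf⟩ : T)
          (mem_center_iff.2 fun s => Subtype.ext (hfc s s.2))
          (Subtype.ext (show f ^ 2 = 1 from orderOf_dvd_iff_pow_eq_one.1 (dvd_of_eq hfo)))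
        exact congrArg Subtype.val h
      · intro d hd hdo s hs
        exact congrArg Subtype.val (mem_center_iff.1
          (hsq ⟨d, hd⟩ (by rw [← Subgroup.orderOf_coe]; exact hdo)) ⟨s, hs⟩)
      · intro t ht hto hmv'
        obtain ⟨s, hs, hst⟩ := hmv'
        obtain ⟨i, hit, hiz⟩ := hroot ⟨t, ht⟩ (by rw [← Subgroup.orderOf_coe]; exact hto)
          (fun h => hst (congrArg Subtype.val (mem_center_iff.1 h ⟨s, hs⟩)))
        exact ⟨i, i.2, congrArg Subtype.val hit, congrArg Subtype.val hiz⟩
    · exact Or.inr (SmallAb92Bound.fixed_card S F h4)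

end Cfsg.Agent.SmallAb92Main
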