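import Cfsg.Agent.Lib.CharBasic
import Cfsg.Agent.Lib.CharBasicLinear
import Cfsg.Agent.Lib.ClassAlgebraVal
import Cfsg.Agent.Lib.BrauerReynolds7Recognition

/-!
# Character values at involutions

In a perfect group the value at an involution is congruent to the degree modulo four, and if the
involution normalizes a subgroup `H` and `χ (y t) = χ t` on `H`, its absolute value is at most the
multiplicity of the trivial character of `H`.
-/

set_option autoImplicit false

open scoped ComplexConjugate

namespace Cfsg.Agent.SmallDegree63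

open Cfsg Cfsg.Agent.CharBasic

universe u

variable {G : Type u} [Group G] [Finite G]

omit [Finite G] in
/-- A homomorphism of a perfect group to a commutative monoid is trivial. -/
theorem perfect_apply_eq_one (hperf : commutator G = ⊤) {M : Type*} [CommMonoid M] (f : G →* M)
    (g : G) : f g = 1 := by
  have h : f.toHomUnits g = 1 :=
    MonoidHom.mem_ker.1 (Abelianization.commutator_subset_ker f.toHomUnits (hperf ▸ Subgroup.mem_top g))
  simpa using congrArg Units.val h

/-- Degree one means trivial, in a perfect group. -/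
theorem eq_one_of_charDegree_eq_one (hperf : commutator G = ⊤) (χ : IrrCharacter G)
    (h : charDegree (χ : G → ℂ) = 1) (g : G) : (χ : G → ℂ) g = 1 := by
  obtain ⟨f, hf⟩ := CharBasicLinear.exists_hom_of_apply_one_eq_one
    (isCharacter_of_isIrrCharacter χ.2) (by
      rw [ClassAlgebraVal.apply_one_eq_charDegree, h, Nat.cast_one])
  rw [hf]
  show ((f g : ℂˣ) : ℂ) = 1
  rw [perfect_apply_eq_one hperf f g, Units.val_one]

/-- The value at an involution of a perfect group is congruent to the degree modulo four. -/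
theorem exists_int_mod_four (hperf : commutator G = ⊤) (χ : IrrCharacter G) {t : G}
    (ht : t * t = 1) : ∃ z : ℤ, (χ : G → ℂ) t = (z : ℂ) ∧
      (4 : ℤ) ∣ (charDegree (χ : G → ℂ) : ℤ) - z := by
  classical
  have hd := ClassAlgebraVal.apply_one_eq_charDegree χ
  obtain ⟨n, ρ, -, hρ⟩ := χ.2
  obtain ⟨b, μ, hb, hord, -, hpow⟩ := exists_rep_eigenbasis ρ t
  have hμ : ∀ i, μ i = if μ i = -1 then (-1 : ℂ) else 1 := by
    intro i
    have hc : μ i ^ 2 = 1 := by
      obtain ⟨k, hk⟩ := orderOf_dvd_of_pow_eq_one (show t ^ 2 = 1 by rw [pow_two, ht])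
      rw [hk, pow_mul, hord, one_pow]
    split_ifs with h
    · exact h
    · exact (sq_eq_one_iff.1 hc).resolve_right h
  set S := Finset.univ.filter fun i => μ i = -1 with hS
  have hm : (charDegree (χ : G → ℂ) : ℕ) = Module.finrank ℂ (Fin n → ℂ) := by
    have h : (charDegree (χ : G → ℂ) : ℂ) = (Module.finrank ℂ (Fin n → ℂ) : ℂ) := by
      rw [← hd, ← hρ, Representation.char_one]
    exact_mod_cast h
  have hdet : (-1 : ℂ) ^ S.card = 1 := by
    have h1 := perfect_apply_eq_one hperf
      ((LinearMap.det : Module.End ℂ (Fin n → ℂ) →* ℂ).comp ρ) t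
    rw [MonoidHom.comp_apply, ← LinearMap.det_toMatrix b] at h1
    have hdiag : LinearMap.toMatrix b b (ρ t) = Matrix.diagonal μ := by
      ext i j
      rw [LinearMap.toMatrix_apply, hb, map_smul, Module.Basis.repr_self, Finsupp.smul_single,
        Finsupp.single_apply, Matrix.diagonal_apply, smul_eq_mul, mul_one]
      by_cases hij : i = j
      · subst hij; simp
      · rw [if_neg fun e => hij e.symm, if_neg hij]
    rw [hdiag, Matrix.det_diagonal, Finset.prod_congr rfl fun i _ => hμ i, Finset.prod_ite,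
      Finset.prod_const, Finset.prod_const, one_pow, mul_one] at h1
    exact h1
  obtain ⟨j, hj⟩ : 2 ∣ S.card := by
    rcases Nat.even_or_odd S.card with h | h
    · exact h.two_dvd
    · rw [h.neg_one_pow] at hdet; norm_num at hdet
  refine ⟨(charDegree (χ : G → ℂ) : ℤ) - 2 * S.card, ?_, ⟨j, by rw [hj]; push_cast; ring⟩⟩
  have h1 := hpow 1
  rw [pow_one, hρ, Finset.sum_congr rfl fun i _ => by rw [pow_one, hμ i], Finset.sum_ite,
    Finset.sum_const, Finset.sum_const, ← hS] at h1
  have h2 := Finset.card_filter_add_card_filter_not (s := (Finset.univ : Finset _))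
    (fun i => μ i = -1)
  rw [← hS, Finset.card_univ, Fintype.card_fin] at h2
  have h3 := congrArg (fun k : ℕ => (k : ℂ)) h2
  push_cast at h3
  rw [h1, hm]
  push_cast
  simp only [nsmul_eq_mul, mul_one]
  linear_combination h3

/-- The bound by the fixed points of a normalized subgroup. -/
theorem abs_le_of_sum {χ : G → ℂ} (hχ : IsCharacter G χ) (H : Subgroup G) [Fintype H] {t : G}
    (ht : t * t = 1) (hnorm : ∀ y ∈ H, t * y * t ∈ H) (hconst : ∀ y ∈ H, χ (y * t) = χ t) {z : ℤ}
    (hz : χ t = (z : ℂ)) {c : ℤ} (hc : ∑ y : H, χ (y : G) = (Nat.card H : ℂ) * (c : ℂ)) :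
    |z| ≤ c := by
  classical
  obtain ⟨n, ρ, rfl⟩ := hχ
  set N : ℂ := (Nat.card H : ℂ) with hN
  have hN0 : N ≠ 0 := Nat.cast_ne_zero.2 Nat.card_pos.ne'
  set E : Module.End ℂ (Fin n → ℂ) := N⁻¹ • ∑ y : H, ρ (y : G) with hE
  set T : Module.End ℂ (Fin n → ℂ) := ρ t with hT
  have hEE : E * E = E := by
    have h : ∀ x : H, ρ (x : G) * ∑ y : H, ρ (y : G) = ∑ y : H, ρ (y : G) := fun x => by
      rw [Finset.mul_sum]
      exact Fintype.sum_equiv (Equiv.mulLeft x) _ _ fun y => by simp [map_mul]
    rw [hE, smul_mul_smul_comm, Finset.sum_mul, Finset.sum_congr rfl fun x _ => h x,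
      Finset.sum_const, Finset.card_univ, ← Nat.card_eq_fintype_card, ← Nat.cast_smul_eq_nsmul ℂ,
      ← hN, smul_smul, mul_assoc, inv_mul_cancel₀ hN0, mul_one]
  have hTT : T * T = 1 := by rw [hT, ← map_mul, ht, map_one]
  have hTE : T * E = E * T := by
    rw [hE, mul_smul_comm, smul_mul_assoc, Finset.mul_sum, Finset.sum_mul]
    congr 1
    refine Fintype.sum_equiv ⟨fun y => ⟨t * y * t, hnorm y y.2⟩, fun y => ⟨t * y * t, hnorm y y.2⟩,
      fun y => Subtype.ext ?_, fun y => Subtype.ext ?_⟩ _ _ fun y => ?_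
    · show t * (t * y * t) * t = y
      rw [show t * (t * (y : G) * t) * t = (t * t) * y * (t * t) by group, ht, one_mul, mul_one]
    · show t * (t * y * t) * t = y
      rw [show t * (t * (y : G) * t) * t = (t * t) * y * (t * t) by group, ht, one_mul, mul_one]
    · show ρ t * ρ (y : G) = ρ (t * y * t) * ρ t
      rw [← map_mul, ← map_mul, mul_assoc (t * (y : G)), ht, mul_one]
  have htE : LinearMap.trace ℂ _ E = (c : ℂ) := by
    rw [hE, map_smul, map_sum, smul_eq_mul]
    show N⁻¹ * ∑ y : H, ρ.character (y : G) = _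
    rw [hc, ← mul_assoc, inv_mul_cancel₀ hN0, one_mul]
  have htET : LinearMap.trace ℂ _ (E * T) = (z : ℂ) := by
    rw [hE, smul_mul_assoc, Finset.sum_mul, map_smul, map_sum, smul_eq_mul]
    have h : ∀ y : H, LinearMap.trace ℂ _ (ρ (y : G) * T) = (z : ℂ) := fun y => by
      rw [hT, ← map_mul]
      exact (hconst y y.2).trans hz
    rw [Finset.sum_congr rfl fun y _ => h y, Finset.sum_const, Finset.card_univ,
      ← Nat.card_eq_fintype_card, nsmul_eq_mul, ← mul_assoc, ← hN, inv_mul_cancel₀ hN0, one_mul]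
  have hproj : ∀ f : Module.End ℂ (Fin n → ℂ), f * f = f →
      ∃ d : ℕ, LinearMap.trace ℂ _ f = (d : ℂ) := fun f hf =>
    ⟨_, (LinearMap.IsIdempotentElem.isProj_range f hf).trace⟩
  have hETE : E * T * E = E * T := by rw [mul_assoc, hTE, ← mul_assoc, hEE]
  have hET2 : E * T * (E * T) = E := by
    rw [← mul_assoc, hETE, mul_assoc, hTT, mul_one]
  have hEET : E * (E * T) = E * T := by rw [← mul_assoc, hEE]
  obtain ⟨d₁, hd₁⟩ := hproj ((2 : ℂ)⁻¹ • (E + E * T)) (by
    rw [smul_mul_smul_comm, add_mul, mul_add, mul_add, hEE, hEET, hETE, hET2,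
      show E + E * T + (E * T + E) = (2 : ℂ) • (E + E * T) by rw [two_smul]; abel, smul_smul]
    norm_num)
  obtain ⟨d₂, hd₂⟩ := hproj ((2 : ℂ)⁻¹ • (E - E * T)) (by
    rw [smul_mul_smul_comm, sub_mul, mul_sub, mul_sub, hEE, hEET, hETE, hET2,
      show E - E * T - (E * T - E) = (2 : ℂ) • (E - E * T) by rw [two_smul]; abel, smul_smul]
    norm_num)
  rw [map_smul, map_add, htE, htET, smul_eq_mul] at hd₁
  rw [map_smul, map_sub, htE, htET, smul_eq_mul] at hd₂
  have e1 : c + z = 2 * (d₁ : ℤ) := by
    refine Int.cast_injective (α := ℂ) ?_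
    push_cast
    linear_combination 2 * hd₁
  have e2 : c - z = 2 * (d₂ : ℤ) := by
    refine Int.cast_injective (α := ℂ) ?_
    push_cast
    linear_combination 2 * hd₂
  rw [abs_le]
  omega

end Cfsg.Agent.SmallDegree63
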