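import Cfsg.Agent.Lib.SmallDegree63Shape
import Cfsg.Agent.Lib.SmallDegree63Invol

/-!
# The centre of a perfect group with a faithful character of degree `p - 2`

The number of pairs of conjugate involutions with product `y z` vanishes for central `z ≠ 1`, so a
quantity attached to the characters with non-zero coefficient at `η` does not depend on `η`.
-/

set_option autoImplicit false

open scoped ComplexConjugate IsMulCommutative


namespace Cfsg.Agent.SmallDegree63

open Cfsg Cfsg.Agent.BlockTheoryCentre Cfsg.Agent.CharBasic Cfsg.Agent.CharBasicOrth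
  Cfsg.Agent.CharBasicDecomp Cfsg.Agent.BlockAbelianSylow86 Cfsg.Agent.BlockDefectOneLocal86
  Cfsg.Agent.BlockDefectOneBound86 Cfsg.Agent.BlockDefectOneBlock86 Cfsg.Agent.BlockPrincipal81

attribute [local instance] Classical.propDecidable

universe u

theorem pair_identity {A B e f g m x w v : ℂ} (he : e * e = 1)
    (hf : f ≠ 0) (hg : g ≠ 0) (hm : m ≠ 0) (h1 : e * m = A * f + B * g)
    (h2 : e * v = A * x + B * w) :
    A * (x ^ 2 / f) + B * (w ^ 2 / g) - e * (v ^ 2 / m) =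
      A * B * (x * g - w * f) ^ 2 / (f * g * (e * m)) := by
  have he0 : e ≠ 0 := left_ne_zero_of_mul (he.trans_ne one_ne_zero)
  have hv : e * (v ^ 2 / m) = (A * x + B * w) ^ 2 / (e * m) := by
    rw [← h2, mul_pow, mul_div_assoc', div_eq_div_iff hm (mul_ne_zero he0 hm)]
    ring
  rw [hv]
  field_simp
  linear_combination (A * x ^ 2 * g + f * B * w ^ 2) * h1

theorem ineq_large {p i f g m x v : ℤ} (hp : 11 ≤ p) (hi : 1 ≤ i) (hf : f = i * p + 1)
    (hm : m = p - 2) (hg : g = f + m) (hx : |x| ≤ i + 1) (hv : |v| ≤ 1) {k a F y : ℤ} (hk : 1 ≤ k)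
    (ha : a = 1 ∨ a = -1) (hF : F = k * p + a) (hy : |y| ≤ k + a) :
    (x * m - v * f) ^ 2 * (F * (F + a)) < (F - y) ^ 2 * (f * g * m) := by
  subst hg hf hm
  obtain ⟨hx1, hx2⟩ := abs_le.1 hx
  obtain ⟨hv1, hv2⟩ := abs_le.1 hv
  obtain ⟨hy1, hy2⟩ := abs_le.1 hy
  have hb : |x * (p - 2) - v * (i * p + 1)| ≤ (2 * i + 1) * (p - 1) := by
    have hp2 : (0 : ℤ) ≤ p - 2 := by linarith
    have hf0 : (0 : ℤ) ≤ i * p + 1 := by nlinarith
    have a1 := mul_le_mul_of_nonneg_right hx2 hp2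
    have a2 := mul_le_mul_of_nonneg_right hx1 hp2
    have a3 := mul_le_mul_of_nonneg_right hv2 hf0
    have a4 := mul_le_mul_of_nonneg_right hv1 hf0
    rw [abs_le]
    constructor <;> linarith
  have hN : (x * (p - 2) - v * (i * p + 1)) ^ 2 ≤ ((2 * i + 1) * (p - 1)) ^ 2 :=
    sq_le_sq' (abs_le.1 hb).1 (abs_le.1 hb).2
  have hpos : k * (p - 1) ≤ F - y := by linarith
  have hkp : 0 < k * (p - 1) := mul_pos (by linarith) (by linarith)
  have hN0 : (k * (p - 1)) ^ 2 ≤ (F - y) ^ 2 := pow_le_pow_left₀ hkp.le hpos 2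
  have hkey : (2 * i + 1) ^ 2 * ((p + 1) * (p + 2)) <
      (i * p + 1) * (i * p + 1 + (p - 2)) * (p - 2) := by
    have h1 : (2 * i + 1) * (p + 1) ≤ 3 * (i * p + 1) := by
      have e0 : (0 : ℤ) ≤ (i - 1) * (p - 2) := mul_nonneg (by linarith) (by linarith)
      linarith
    have h2 : 3 * (2 * i + 1) * (p + 2) < (i * p + p - 1) * (p - 2) := by
      have e2 : (0 : ℤ) ≤ (p - 11) * p := mul_nonneg (by linarith) (by linarith)
      have e1 : (0 : ℤ) ≤ (i - 1) * (p * (p - 2) - 6 * (p + 2)) :=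
        mul_nonneg (by linarith) (by linarith)
      linarith
    have h3 : (2 * i + 1) * (p + 1) * ((2 * i + 1) * (p + 2)) ≤
        3 * (i * p + 1) * ((2 * i + 1) * (p + 2)) :=
      mul_le_mul_of_nonneg_right h1 (by nlinarith)
    have h4 : (i * p + 1) * (3 * (2 * i + 1) * (p + 2)) <
        (i * p + 1) * ((i * p + p - 1) * (p - 2)) :=
      mul_lt_mul_of_pos_left h2 (by nlinarith)
    linarith
  have hkp' : p ≤ k * p := le_mul_of_one_le_left (by linarith) hk
  have hD : F * (F + a) ≤ k ^ 2 * ((p + 1) * (p + 2)) := by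
    rcases ha with rfl | rfl
    · have u1 : F ≤ k * (p + 1) := by linarith
      have u2 : F + 1 ≤ k * (p + 2) := by linarith
      calc F * (F + 1) ≤ (k * (p + 1)) * (k * (p + 2)) :=
            mul_le_mul u1 u2 (by linarith) (mul_nonneg (by linarith) (by linarith))
        _ = _ := by ring
    · have u1 : F ≤ k * (p + 1) := by linarith
      have u2 : F + -1 ≤ k * (p + 2) := by linarith
      calc F * (F + -1) ≤ (k * (p + 1)) * (k * (p + 2)) :=
            mul_le_mul u1 u2 (by linarith) (mul_nonneg (by linarith) (by linarith))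
        _ = _ := by ring
  have hF0 : 0 ≤ F * (F + a) := by
    rcases ha with rfl | rfl <;> apply mul_nonneg <;> linarith
  calc (x * (p - 2) - v * (i * p + 1)) ^ 2 * (F * (F + a))
      ≤ ((2 * i + 1) * (p - 1)) ^ 2 * (k ^ 2 * ((p + 1) * (p + 2))) :=
        mul_le_mul hN hD hF0 (sq_nonneg _)
    _ = (k * (p - 1)) ^ 2 * ((2 * i + 1) ^ 2 * ((p + 1) * (p + 2))) := by ring
    _ < (k * (p - 1)) ^ 2 * ((i * p + 1) * (i * p + 1 + (p - 2)) * (p - 2)) :=
        mul_lt_mul_of_pos_left hkey (pow_pos hkp 2)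
    _ ≤ (F - y) ^ 2 * ((i * p + 1) * (i * p + 1 + (p - 2)) * (p - 2)) :=
        mul_le_mul_of_nonneg_right hN0 (by
          refine mul_nonneg (mul_nonneg ?_ ?_) ?_ <;> nlinarith)

theorem ineq_seven {i f g m x v : ℤ} (hi : 1 ≤ i) (hf : f = i * 7 + 1) (hm : m = 5)
    (hg : g = f + m) (hx : |x| ≤ i + 1) (hx4 : 4 ∣ f - x) (hv : |v| ≤ 1) (hv4 : 4 ∣ m - v)
    {k a F y : ℤ} (hk : 1 ≤ k) (ha : a = 1 ∨ a = -1) (hF : F = k * 7 + a) (hy : |y| ≤ k + a)
    (hy4 : 4 ∣ F - y) : (x * m - v * f) ^ 2 * (F * (F + a)) < (F - y) ^ 2 * (f * g * m) := by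
  subst hg hf hm
  obtain ⟨hx1, hx2⟩ := abs_le.1 hx
  obtain ⟨hv1, hv2⟩ := abs_le.1 hv
  obtain ⟨hy1, hy2⟩ := abs_le.1 hy
  have hvone : v = 1 := by omega
  subst hvone
  have hxlow : -(i - 1) ≤ x := by omega
  have hN : (x * 5 - 1 * (i * 7 + 1)) ^ 2 ≤ (12 * i - 4) ^ 2 := by nlinarith
  have hD : 0 < F * (F + a) := by
    subst hF
    rcases ha with rfl | rfl <;> apply mul_pos <;> linarith
  have hB : 5 * (12 * i - 4) ^ 2 < 3 * ((i * 7 + 1) * (i * 7 + 1 + 5) * 5) := by nlinarith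
  have hA : 3 * (F * (F + a)) ≤ 5 * (F - y) ^ 2 := by
    subst hF
    rcases ha with rfl | rfl
    · rcases (show k = 1 ∨ 2 ≤ k by omega) with rfl | h2
      · have hy0 : y = 0 := by omega
        subst hy0
        norm_num
      · have h6 : 6 * k ≤ k * 7 + 1 - y := by linarith
        have h7 : (6 * k) ^ 2 ≤ (k * 7 + 1 - y) ^ 2 := pow_le_pow_left₀ (by linarith) h6 2
        nlinarith
    · have h6 : 6 * k ≤ k * 7 + -1 - y := by linarith
      have h7 : (6 * k) ^ 2 ≤ (k * 7 + -1 - y) ^ 2 := pow_le_pow_left₀ (by linarith) h6 2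
      nlinarith
  have hB0 : 0 ≤ (i * 7 + 1) * (i * 7 + 1 + 5) * 5 := by
    refine mul_nonneg (mul_nonneg ?_ ?_) ?_ <;> linarith
  have hfinal : 5 * ((x * 5 - 1 * (i * 7 + 1)) ^ 2 * (F * (F + a))) <
      5 * ((F - y) ^ 2 * ((i * 7 + 1) * (i * 7 + 1 + 5) * 5)) :=
    calc 5 * ((x * 5 - 1 * (i * 7 + 1)) ^ 2 * (F * (F + a)))
        ≤ (5 * (12 * i - 4) ^ 2) * (F * (F + a)) := by
          rw [← mul_assoc]
          exact mul_le_mul_of_nonneg_right (by linarith) hD.le
      _ < (3 * ((i * 7 + 1) * (i * 7 + 1 + 5) * 5)) * (F * (F + a)) :=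
          mul_lt_mul_of_pos_right hB hD
      _ = (3 * (F * (F + a))) * ((i * 7 + 1) * (i * 7 + 1 + 5) * 5) := by ring
      _ ≤ (5 * (F - y) ^ 2) * ((i * 7 + 1) * (i * 7 + 1 + 5) * 5) :=
          mul_le_mul_of_nonneg_right hA hB0
      _ = _ := by ring
  linarith

variable {G : Type u} [Group G] [Fintype G] {p : ℕ} [Fact p.Prime] {P : Sylow p G} {U : Subgroup G}

/-- The weighted coefficient sum does not depend on `η`. -/
theorem weight_const (hP : Nat.card (P : Subgroup G) = p) (hU : RegPart P U)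
    (hcen : ∀ w ∈ U, w ∈ Subgroup.center G) (hodd : Odd (Nat.card U)) {t y : G}
    (ht : orderOf t = 2) (hy : y ∈ (P : Subgroup G)) (η : IrrCharacter U) :
    ∑ χ : IrrCharacter G, (χ : G → ℂ) t ^ 2 / (χ : G → ℂ) 1 * cval η (χ : G → ℂ) y =
      (Nat.card U : ℂ)⁻¹ *
        ∑ χ : IrrCharacter G, (χ : G → ℂ) t ^ 2 / (χ : G → ℂ) 1 * (χ : G → ℂ) y := by
  haveI := DefectOneSign7.isMulCommutative_of_card P hP
  letI := Fintype.ofFinite ↥(P : Subgroup G)
  have hp := (Fact.out : p.Prime)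
  have htt : t * t = 1 := by rw [← pow_two, ← ht, pow_orderOf_eq_one]
  have hzero : ∀ w : U, w ≠ 1 →
      ∑ χ : IrrCharacter G, (χ : G → ℂ) t ^ 2 / (χ : G → ℂ) 1 * (χ : G → ℂ) (y * w) = 0 := by
    intro w hw
    have h := ClassAlgebraVal.sum_irr_triple t t (y * (w : G))⁻¹
    have hempty : IsEmpty {x : G // IsConj (y * (w : G))⁻¹ (t * (x * t * x⁻¹))} := by
      refine ⟨fun ⟨x, hx⟩ => hw ?_⟩
      obtain ⟨g, hg⟩ := isConj_iff.1 hx
      set a := g⁻¹ * t * g with ha
      set b := g⁻¹ * (x * t * x⁻¹) * g with hb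
      set c := y * (w : G) with hc
      have haa : a * a = 1 := by
        rw [ha, show g⁻¹ * t * g * (g⁻¹ * t * g) = g⁻¹ * (t * t) * g by group, htt, mul_one,
          inv_mul_cancel]
      have hbb : b * b = 1 := by
        rw [hb, show g⁻¹ * (x * t * x⁻¹) * g * (g⁻¹ * (x * t * x⁻¹) * g) =
          g⁻¹ * (x * (t * t) * x⁻¹) * g by group, htt, mul_one, mul_inv_cancel, mul_one,
          inv_mul_cancel]
      have hab : c⁻¹ = a * b := by
        rw [ha, hb, show g⁻¹ * t * g * (g⁻¹ * (x * t * x⁻¹) * g) =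
          g⁻¹ * (t * (x * t * x⁻¹)) * g by group, ← hg]
        group
      have hinv : a * c * a⁻¹ = c⁻¹ := by
        rw [inv_eq_of_mul_eq_one_left haa, eq_inv_iff_mul_eq_one]
        have e : c = b * a := by
          rw [← inv_inv c, hab, mul_inv_rev, inv_eq_of_mul_eq_one_left haa,
            inv_eq_of_mul_eq_one_left hbb]
        rw [e, show a * (b * a) * a * (b * a) = a * b * (a * a) * b * a by group, haa, mul_one,
          mul_assoc a b b, hbb, mul_one, haa]
      have hcomm : Commute y (w : G) := comm_of_mem hU hy w.2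
      have hyp : y ^ p = 1 := by
        rw [← hP]
        exact congrArg Subtype.val (pow_card_eq_one' (x := (⟨y, hy⟩ : (P : Subgroup G))))
      have hcp : c ^ p = (w : G) ^ p := by rw [hc, hcomm.mul_pow, hyp, one_mul]
      have h2 := congrArg (· ^ p) hinv
      simp only [conj_pow, inv_pow, hcp] at h2
      rw [(Subgroup.mem_center_iff.1 (pow_mem (hcen w w.2) p) a), mul_inv_cancel_right,
        eq_inv_iff_mul_eq_one, ← pow_add, ← two_mul] at h2
      have h3 : w ^ (2 * p) = 1 := Subtype.ext (by simpa using h2)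
      have hcop : Nat.Coprime (Nat.card U) (2 * p) :=
        Nat.Coprime.mul_right (Nat.coprime_two_right.2 hodd)
          ((hp.coprime_iff_not_dvd.2 (not_dvd_card hP hU)).symm)
      exact orderOf_eq_one_iff.1
        (Nat.eq_one_of_dvd_coprimes hcop (orderOf_dvd_natCard w) (orderOf_dvd_of_pow_eq_one h3))
    rw [Nat.card_eq_zero.2 (Or.inl hempty), Nat.cast_zero, mul_zero, zero_div] at h
    rw [← h]
    refine Finset.sum_congr rfl fun χ _ => ?_
    rw [BlockTheoryCentre.irr_inv, Complex.conj_conj]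
    ring
  simp only [cval, classInner, Finset.mul_sum]
  rw [Finset.sum_comm, Finset.sum_eq_single (1 : U)]
  · simp only [OneMemClass.coe_one, mul_one, eta_one hP hU hcen η, map_one]
    exact Finset.sum_congr rfl fun χ _ => by ring
  · intro w _ hw
    refine (Finset.sum_congr rfl (g := fun χ : IrrCharacter G =>
      ((Nat.card U : ℂ)⁻¹ * conj ((η : U → ℂ) w)) *
        ((χ : G → ℂ) t ^ 2 / (χ : G → ℂ) 1 * (χ : G → ℂ) (y * w))) fun χ _ => by ring).trans ?_
    rw [← Finset.mul_sum, hzero w hw, mul_zero]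
  · exact fun h => absurd (Finset.mem_univ _) h

variable [IsMulCommutative ↥(P : Subgroup G)] [Fintype ↥(P : Subgroup G)]

/-- The weighted coefficient sum inside a block. -/
theorem weight_eval {η : IrrCharacter U} {X Y : Finset (IrrCharacter G)} {a : IrrCharacter G → ℤ}
    {ε : ℤ} (S : CBlock P η X Y a ε) {α β ψ : IrrCharacter G} (hX : X = {α, β}) (hne : α ≠ β)
    (hψ : ψ ∈ Y) {t : G} (ht : ¬ p ∣ orderOf t) {y : ↥(P : Subgroup G)} (hy : y ≠ 1) :
    ∑ χ : IrrCharacter G, (χ : G → ℂ) t ^ 2 / (χ : G → ℂ) 1 * cval η (χ : G → ℂ) (y : G) =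
      (a α : ℂ) * (a β : ℂ) *
          ((α : G → ℂ) t * (β : G → ℂ) 1 - (β : G → ℂ) t * (α : G → ℂ) 1) ^ 2 /
        ((α : G → ℂ) 1 * (β : G → ℂ) 1 * ((ε : ℂ) * (ψ : G → ℂ) 1)) ∧
      (ε : ℂ) * (ψ : G → ℂ) 1 = (a α : ℂ) * (α : G → ℂ) 1 + (a β : ℂ) * (β : G → ℂ) 1 ∧
      (ε : ℂ) * (ψ : G → ℂ) t = (a α : ℂ) * (α : G → ℂ) t + (a β : ℂ) * (β : G → ℂ) t := by
  have h1 : ¬ p ∣ orderOf (1 : G) := by
    rw [orderOf_one, Nat.dvd_one]; exact (Fact.out : p.Prime).ne_one
  have hαX : α ∈ X := by rw [hX]; simp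
  have hβX : β ∈ X := by rw [hX]; simp
  have hr1 := S.regular ψ hψ 1 h1
  have hrt := S.regular ψ hψ t ht
  rw [hX, Finset.sum_pair hne] at hr1 hrt
  refine ⟨?_, hr1, hrt⟩
  rw [← pair_identity (by rcases S.sign with h | h <;> simp [h])
      (isIrrCharacter_apply_one_ne_zero α.2) (isIrrCharacter_apply_one_ne_zero β.2)
      (isIrrCharacter_apply_one_ne_zero ψ.2) hr1 hrt,
    ← Finset.sum_subset (Finset.subset_univ (X ∪ Y)) (fun χ _ hχ => by
      rw [Finset.mem_union, not_or] at hχ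
      rw [S.outside χ hχ.1 hχ.2 y hy, mul_zero]),
    Finset.sum_union S.disj, Finset.sum_congr rfl fun χ hχ => by rw [S.valX χ hχ y hy], hX,
    Finset.sum_pair hne, Finset.sum_congr rfl fun χ hχ => by
      rw [S.agree χ hχ ψ hψ t ht, S.agree χ hχ ψ hψ 1 h1],
    ← Finset.mul_sum, S.sumY y hy]
  ring

/-- The centre is trivial. -/
theorem center_eq_bot (hperf : commutator G = ⊤) (hP : Nat.card (P : Subgroup G) = p) (hp7 : 7 ≤ p)
    (χ₀ : IrrCharacter G) (hdeg : charDegree (χ₀ : G → ℂ) = p - 2)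
    (hfaith : ∀ g : G, (χ₀ : G → ℂ) g = (χ₀ : G → ℂ) 1 → g = 1) :
    Subgroup.center G = ⊥ := by
  have hp := (Fact.out : p.Prime)
  obtain ⟨U, -, -, hU⟩ := DefectOneSign7.exists_regular_part P hP
  have he1 : (Subgroup.centralizer ((P : Subgroup G) : Set G)).relIndex
      (Subgroup.normalizer ((P : Subgroup G) : Set G)) ≠ 1 := by
    have := BrauerReynolds7.two_le_relIndex hperf P hP rfl
    omega
  obtain ⟨hcen, he⟩ := central_and_index hP hU hp7 χ₀ hdeg hfaith he1
  have hodd' : p % 2 = 1 := Nat.odd_iff.1 (hp.odd_of_ne_two (by omega))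
  -- centre and regular part
  have hcenU : ∀ z ∈ Subgroup.center G, z ∈ U := by
    intro z hz
    refine (hU z).2 ⟨Subgroup.center_le_centralizer _ hz, fun hd => he1 ?_⟩
    obtain ⟨k, hk⟩ := hd
    have hzo : orderOf (z ^ k) = p := by
      rw [orderOf_pow' _ (by rintro rfl; rw [mul_zero] at hk; exact (orderOf_pos z).ne' hk), hk,
        Nat.gcd_eq_right (dvd_mul_left k p), Nat.mul_div_cancel _
          (Nat.pos_of_ne_zero (by rintro rfl; rw [mul_zero] at hk; exact (orderOf_pos z).ne' hk))]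
    have hzc : z ^ k ∈ Subgroup.center G := pow_mem hz k
    obtain ⟨Q, hQ⟩ := (IsPGroup.of_card (n := 1) (G := Subgroup.zpowers (z ^ k))
      (by rw [Nat.card_zpowers, hzo, pow_one])).exists_le_sylow
    obtain ⟨g, hg⟩ := MulAction.exists_smul_eq G Q P
    have hzP : z ^ k ∈ (P : Subgroup G) := by
      rw [← hg, Sylow.coe_subgroup_smul, Subgroup.mem_pointwise_smul_iff_inv_smul_mem]
      have : (MulAut.conj g)⁻¹ • (z ^ k) = z ^ k := by
        rw [MulAut.smul_def, MulAut.conj_inv_apply, mul_assoc, ← Subgroup.mem_center_iff.1 hzc g,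
          inv_mul_cancel_left]
      rw [this]
      exact hQ (Subgroup.mem_zpowers _)
    have hz1 : z ^ k ≠ 1 := fun h => by rw [h, orderOf_one] at hzo; exact hp.ne_one hzo.symm
    rw [Subgroup.relIndex_eq_one]
    intro g _
    rw [DefectOneSign7.centralizer_singleton_eq P hP hzP hz1 |>.symm,
      Subgroup.mem_centralizer_singleton_iff]
    exact Subgroup.mem_center_iff.1 hzc g
  by_contra hne
  obtain ⟨⟨z₀, hz₀⟩, hz₀'⟩ := Subgroup.ne_bot_iff_exists_ne_one.1 hne
  have hz₀1 : z₀ ≠ 1 := fun h => hz₀' (Subtype.ext h)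
  -- the regular part has odd order
  have hscal : ∀ z ∈ Subgroup.center G, z ≠ 1 → ∃ ω : ℂ, ω ≠ 1 ∧ ω ^ orderOf z = 1 ∧
      ∀ g : G, (χ₀ : G → ℂ) (g * z) = ω * (χ₀ : G → ℂ) g := by
    intro z hz hz1
    obtain ⟨n, ρ, hρi, hρ⟩ := χ₀.2
    haveI := hρi
    obtain ⟨ω, hω⟩ := exists_scalar_of_mem_center ρ hz
    have hmul : ∀ g : G, (χ₀ : G → ℂ) (g * z) = ω * (χ₀ : G → ℂ) g := fun g => by
      rw [← hρ, Representation.character, Representation.character, map_mul, hω,
        ← Module.End.one_eq_id, mul_smul_comm, mul_one, map_smul, smul_eq_mul]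
    refine ⟨ω, fun h => hz1 (hfaith z ?_), ?_, hmul⟩
    · have := hmul 1
      rwa [one_mul, h, one_mul] at this
    · have hn : ∀ j : ℕ, (χ₀ : G → ℂ) (z ^ j) = ω ^ j * (χ₀ : G → ℂ) 1 := by
        intro j
        induction j with
        | zero => simp
        | succ j ih => rw [pow_succ, hmul, ih, pow_succ]; ring
      have h := hn (orderOf z)
      rw [pow_orderOf_eq_one] at h
      exact mul_right_cancel₀ (isIrrCharacter_apply_one_ne_zero χ₀.2)
        (by rw [← h, one_mul])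
  have hodd : Odd (Nat.card U) := by
    rw [← Nat.not_even_iff_odd, even_iff_two_dvd]
    intro h2
    haveI : Fact (Nat.Prime 2) := ⟨Nat.prime_two⟩
    obtain ⟨⟨z, hz⟩, hzo⟩ := exists_prime_orderOf_dvd_card' 2 h2
    rw [Subgroup.orderOf_mk] at hzo
    obtain ⟨ω, hω1, hω2, hmul⟩ := hscal z (hcen z hz) fun h => by simp [h] at hzo
    rw [hzo, sq_eq_one_iff] at hω2
    have hval : (χ₀ : G → ℂ) z = -((p - 2 : ℕ) : ℂ) := by
      have h := hmul 1
      rwa [one_mul, hω2.resolve_left hω1, ClassAlgebraVal.apply_one_eq_charDegree, hdeg,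
        neg_one_mul] at h
    obtain ⟨v, hv, h4⟩ := exists_int_mod_four hperf χ₀ (t := z)
      (by rw [← pow_two, ← hzo, pow_orderOf_eq_one])
    have hv' : v = -((p - 2 : ℕ) : ℤ) := by
      refine Int.cast_injective (α := ℂ) ?_
      rw [← hv, hval]
      push_cast
      rfl
    rw [hdeg, hv'] at h4
    omega
  -- an involution inverting `P`
  obtain ⟨y₁, hy₁, hy₁1⟩ : ∃ y : ↥(P : Subgroup G), y ≠ 1 ∧ True := by
    haveI : Nontrivial ↥(P : Subgroup G) :=
      Finite.one_lt_card_iff_nontrivial.1 (by rw [hP]; exact hp.one_lt)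
    exact (exists_ne 1).imp fun y h => ⟨h, trivial⟩
  set C := Subgroup.centralizer ((P : Subgroup G) : Set G) with hC
  set N := Subgroup.normalizer ((P : Subgroup G) : Set G) with hN
  have hCodd : Odd (Nat.card C) := by
    rw [hC, BlockDefectOneCount86.card_centralizer hP hU]
    exact (hp.odd_of_ne_two (by omega)).mul hodd
  obtain ⟨n₀, hn₀, hn₀C⟩ : ∃ n ∈ N, n ∉ C := by
    by_contra h
    push Not at h
    exact he1 (Subgroup.relIndex_eq_one.2 h)
  obtain ⟨t, htN, htC, htt⟩ : ∃ t ∈ N, t ∉ C ∧ t * t = 1 := by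
    haveI : (C.subgroupOf N).Normal := Subgroup.normal_of_index_eq_two he
    have hsq : n₀ ^ 2 ∈ C := by
      have h := Subgroup.sq_mem_of_index_two (H := C.subgroupOf N) he ⟨n₀, hn₀⟩
      simpa [Subgroup.mem_subgroupOf] using h
    obtain ⟨j, hj⟩ := hCodd
    refine ⟨n₀ ^ Nat.card C, pow_mem hn₀ _, fun h => hn₀C ?_, ?_⟩
    · rw [hj, pow_add, pow_mul, pow_one] at h
      exact (Subgroup.mul_mem_cancel_left C (pow_mem hsq j)).1 h
    · rw [← pow_add, ← two_mul, pow_mul]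
      exact congrArg Subtype.val (pow_card_eq_one' (x := (⟨n₀ ^ 2, hsq⟩ : C)))
  have hto : orderOf t = 2 :=
    orderOf_eq_prime (by rw [pow_two, htt]) fun h => htC (h ▸ one_mem C)
  have htp : ¬ p ∣ orderOf t := by
    rw [hto]; intro h; have := Nat.le_of_dvd two_pos h; omega
  have htinv : t⁻¹ = t := inv_eq_of_mul_eq_one_left htt
  have hinvert : ∀ y ∈ (P : Subgroup G), t * y * t = y⁻¹ := by
    intro y hy
    have hmem : ∀ x ∈ (P : Subgroup G), t * x * t ∈ (P : Subgroup G) := fun x hx => by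
      have := (Subgroup.mem_normalizer_iff.1 htN x).1 hx
      rwa [htinv] at this
    haveI : IsCyclic ↥(P : Subgroup G) := isCyclic_of_prime_card (p := p) hP
    obtain ⟨m, hm⟩ := Subgroup.mem_zpowers_iff.1 (mem_zpowers_of_prime_card hP
      (g' := (⟨t * y₁ * t, hmem _ y₁.2⟩ : (P : Subgroup G))) hy₁)
    have hm' : (y₁ : G) ^ m = t * y₁ * t := by simpa using congrArg Subtype.val hm
    have hall : ∀ x ∈ (P : Subgroup G), t * x * t = x ^ m := by
      intro x hx
      obtain ⟨j, hj⟩ := Subgroup.mem_zpowers_iff.1 (mem_zpowers_of_prime_card hP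
        (g' := (⟨x, hx⟩ : (P : Subgroup G))) hy₁)
      have hj' : (y₁ : G) ^ j = x := by simpa using congrArg Subtype.val hj
      have e := (conj_zpow (i := j) (a := t) (b := (y₁ : G))).symm
      rw [htinv] at e
      rw [← hj', e, ← hm', ← zpow_mul, ← zpow_mul, mul_comm]
    have ho : orderOf (y₁ : G) = p := by
      rw [Subgroup.orderOf_coe]
      exact ((Nat.dvd_prime hp).1 ((orderOf_dvd_natCard y₁).trans hP.dvd)).resolve_left
        fun h => hy₁ (orderOf_eq_one_iff.1 h)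
    have hsq : (y₁ : G) ^ (m * m - 1) = 1 := by
      rw [zpow_sub, zpow_one, zpow_mul, ← hall _ (zpow_mem y₁.2 m), hm',
        show t * (t * (y₁ : G) * t) * t = (t * t) * y₁ * (t * t) by group, htt, one_mul, mul_one,
        mul_inv_cancel]
    have hdvd : (p : ℤ) ∣ m * m - 1 := by
      rw [← ho]; exact orderOf_dvd_iff_zpow_eq_one.2 hsq
    rw [show m * m - 1 = (m - 1) * (m + 1) by ring] at hdvd
    rcases (Nat.prime_iff_prime_int.1 hp).dvd_mul.1 hdvd with h | h
    · exfalso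
      apply htC
      rw [hC, ← DefectOneSign7.centralizer_singleton_eq P hP y₁.2 (fun h => hy₁ (Subtype.ext h)),
        Subgroup.mem_centralizer_singleton_iff]
      have h1 : (y₁ : G) ^ (m - 1) = 1 := orderOf_dvd_iff_zpow_eq_one.1 (by rw [ho]; exact h)
      rw [zpow_sub, zpow_one, mul_inv_eq_one, hm'] at h1
      calc t * (y₁ : G) = (t * y₁ * t) * t := by rw [mul_assoc (t * (y₁ : G)), htt, mul_one]
        _ = (y₁ : G) * t := by rw [h1]
    · have h1 : y ^ (m + 1) = 1 := by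
        refine orderOf_dvd_iff_zpow_eq_one.1 (dvd_trans ?_ h)
        rw [show orderOf y = orderOf (⟨y, hy⟩ : (P : Subgroup G)) from Subgroup.orderOf_coe (⟨y, hy⟩ : (P : Subgroup G))]
        exact Int.natCast_dvd_natCast.2 ((orderOf_dvd_natCard _).trans hP.dvd)
      rw [hall y hy, eq_inv_iff_mul_eq_one, ← h1, zpow_add, zpow_one]
  have hnorm : ∀ y ∈ (P : Subgroup G), t * y * t ∈ (P : Subgroup G) := fun y hy =>
    hinvert y hy ▸ inv_mem hy
  have hconst : ∀ (χ : IrrCharacter G), ∀ y ∈ (P : Subgroup G),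
      (χ : G → ℂ) (y * t) = (χ : G → ℂ) t := by
    intro χ y hy
    obtain ⟨j, hj⟩ := hp.odd_of_ne_two (by omega : p ≠ 2)
    have hyp : y ^ p = 1 := by
      rw [← hP]; exact congrArg Subtype.val (pow_card_eq_one' (x := (⟨y, hy⟩ : (P : Subgroup G))))
    set s := y ^ (j + 1) with hs
    have hss : s * s = y := by
      rw [hs, ← pow_add, show j + 1 + (j + 1) = p + 1 by omega, pow_succ, hyp, one_mul]
    have hst : t * s⁻¹ = s * t := by
      rw [← hinvert s (pow_mem hy _), ← mul_assoc, ← mul_assoc, htt, one_mul]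
    refine ClassAlgebraVal.irr_conj χ (isConj_iff.2 ⟨s⁻¹, ?_⟩)
    rw [inv_inv, ← hss, show s⁻¹ * (s * s * t) * s = s * t * s by group, ← hst,
      inv_mul_cancel_right]
  have hint : ∀ χ : IrrCharacter G, ∃ z : ℤ, (χ : G → ℂ) t = (z : ℂ) ∧
      (4 : ℤ) ∣ (charDegree (χ : G → ℂ) : ℤ) - z := fun χ => exists_int_mod_four hperf χ htt
  choose z hz hz4 using hint
  have hbound : ∀ (χ : IrrCharacter G) (c : ℤ),
      ∑ y : ↥(P : Subgroup G), (χ : G → ℂ) (y : G) = (p : ℂ) * (c : ℂ) → |z χ| ≤ c := by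
    intro χ c hc
    exact abs_le_of_sum (isCharacter_of_isIrrCharacter χ.2) _ htt hnorm (hconst χ) (hz χ)
      (by rw [hP]; exact hc)
  -- the block of `χ₀`
  obtain ⟨η, y₀, hy₀, hy₀1, hcne⟩ := exists_cval_ne hP hU (χ := χ₀) (by
    rw [hdeg]; intro h; have := Nat.le_of_dvd (by omega) h; omega)
  set y₀' : ↥(P : Subgroup G) := ⟨y₀, hy₀⟩ with hy₀'
  have hy₀'1 : y₀' ≠ 1 := fun h => hy₀1 (congrArg Subtype.val h)
  obtain ⟨X, Y, a, ε, S⟩ := exists_cblock hP hU hp7 hcen he η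
  have hmem : χ₀ ∈ X ∨ χ₀ ∈ Y := by
    by_contra h
    rw [not_or] at h
    exact hcne (S.outside χ₀ h.1 h.2 y₀' hy₀'1)
  have hY : χ₀ ∈ Y := by
    refine hmem.resolve_left fun h => ?_
    have h1 := (S.congrX χ₀ h).dvd
    rw [hdeg] at h1
    rcases S.signX χ₀ h with ha | ha <;> rw [ha] at h1
    · have h3 : (p : ℤ) ∣ 3 := by
        have := dvd_add h1 (dvd_refl (p : ℤ))
        rwa [show (1 : ℤ) - ((p - 2 : ℕ) : ℤ) + (p : ℤ) = 3 by omega] at this
      have := Int.le_of_dvd (by norm_num) h3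
      omega
    · have h3 : (p : ℤ) ∣ 1 := by
        have := dvd_add h1 (dvd_refl (p : ℤ))
        rwa [show (-1 : ℤ) - ((p - 2 : ℕ) : ℤ) + (p : ℤ) = 1 by omega] at this
      have := Int.le_of_dvd (by norm_num) h3
      omega
  have hε : ε = -1 := by
    refine S.sign.resolve_left fun h => ?_
    have h1 := (S.congrY χ₀ hY).dvd
    rw [hdeg, h, one_mul] at h1
    have h3 : (p : ℤ) ∣ 4 := by
      have := dvd_add h1 (dvd_refl (p : ℤ))
      rwa [show (2 : ℤ) - ((p - 2 : ℕ) : ℤ) + (p : ℤ) = 4 by omega] at this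
    have := Int.le_of_dvd (by norm_num) h3
    omega
  have hη : ∃ w : U, (η : U → ℂ) w ≠ 1 := by
    refine ⟨⟨z₀, hcenU z₀ hz₀⟩, fun h => ?_⟩
    obtain ⟨ω, hω1, -, hmul⟩ := hscal z₀ hz₀ hz₀1
    have h0 := S.value χ₀ (Or.inr hY) y₀' hy₀'1 ⟨z₀, hcenU z₀ hz₀⟩
    have h2 := S.value χ₀ (Or.inr hY) y₀' hy₀'1 1
    rw [OneMemClass.coe_one, mul_one, eta_one hP hU hcen η, mul_one] at h2
    rw [h, mul_one, hmul, h2] at h0
    exact hω1 ((mul_eq_right₀ hcne).1 h0)
  -- `X = {α, β}` with signs `+, -`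
  obtain ⟨α, β, hne', hXeq, haα, haβ⟩ : ∃ α β, α ≠ β ∧ X = {α, β} ∧ a α = 1 ∧ a β = -1 := by
    obtain ⟨α, β, hne', hXeq⟩ := Finset.card_eq_two.1 S.cardX
    have hαX : α ∈ X := by rw [hXeq]; simp
    have hβX : β ∈ X := by rw [hXeq]; simp
    have h1 := S.regular χ₀ hY 1 (by rw [orderOf_one, Nat.dvd_one]; exact hp.ne_one)
    simp only [hXeq, Finset.sum_pair hne', ClassAlgebraVal.apply_one_eq_charDegree, hdeg, hε] at h1
    have h2 : -((p - 2 : ℕ) : ℤ) =
        a α * (charDegree (α : G → ℂ) : ℤ) + a β * (charDegree (β : G → ℂ) : ℤ) := by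
      refine Int.cast_injective (α := ℂ) ?_
      push_cast at h1 ⊢
      linear_combination h1
    rcases S.signX α hαX with hA | hA <;> rcases S.signX β hβX with hB | hB
    · exfalso
      rw [hA, hB] at h2
      have := ClassAlgebraVal.charDegree_pos α
      omega
    · exact ⟨α, β, hne', hXeq, hA, hB⟩
    · exact ⟨β, α, hne'.symm, by rw [hXeq, Finset.pair_comm], hB, hA⟩
    · exfalso
      rw [hA, hB] at h2
      have h3 := (S.congrX α hαX).dvd
      rw [hA] at h3
      have h4 : (p : ℤ) ∣ (charDegree (α : G → ℂ) : ℤ) + 1 := by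
        have := dvd_neg.2 h3
        rwa [neg_sub, sub_neg_eq_add] at this
      have := Int.le_of_dvd (by positivity) h4
      have := ClassAlgebraVal.charDegree_pos β
      omega
  have hαX : α ∈ X := by rw [hXeq]; simp
  obtain ⟨i, hi⟩ := (S.congrX α hαX).symm.dvd
  rw [haα] at hi
  have hi1 : 1 ≤ i := by
    have := ClassAlgebraVal.charDegree_pos α
    rcases lt_trichotomy i 0 with h | h | h
    · have : (p : ℤ) * i ≤ (p : ℤ) * (-1) := mul_le_mul_of_nonneg_left (by omega) (by positivity)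
      omega
    · exfalso
      rw [h, mul_zero] at hi
      obtain ⟨w, hw⟩ := hη
      have hα1 : ∀ g, (α : G → ℂ) g = 1 := eq_one_of_charDegree_eq_one hperf α (by omega)
      have h0 := S.value α (Or.inl hαX) y₀' hy₀'1 w
      rw [hα1, S.valX α hαX y₀' hy₀'1, haα, Int.cast_one, one_mul] at h0
      exact hw h0.symm
    · exact h
  have hxb : |z α| ≤ i + 1 := hbound α (i + 1) (by
    rw [S.sumX α hαX, haα]
    have : (charDegree (α : G → ℂ) : ℂ) = (p : ℂ) * (i : ℂ) + 1 := by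
      have h : (charDegree (α : G → ℂ) : ℤ) = (p : ℤ) * i + 1 := by omega
      exact_mod_cast h
    rw [this]
    push_cast
    ring)
  have hvb : |z χ₀| ≤ 1 := hbound χ₀ 1 (by
    rw [S.sumYP χ₀ hY, hdeg, hε, Nat.cast_sub (by omega)]
    push_cast
    ring)
  obtain ⟨hW, hm1, hmt⟩ := weight_eval S hXeq hne' hY htp hy₁
  -- the principal block
  set one : IrrCharacter U := ⟨fun _ => 1, isIrrCharacter_one⟩ with hone
  obtain ⟨X₀, Y₀, a₀, ε₀, S₀⟩ := exists_cblock hP hU hp7 hcen he one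
  have hcval1 : ∀ y : ↥(P : Subgroup G), cval one (oneChar G : G → ℂ) (y : G) = 1 := by
    intro y
    exact classInner_irr_self (χ := fun _ : U => (1 : ℂ)) isIrrCharacter_one
  have hdeg1 : charDegree (oneChar G : G → ℂ) = 1 := by
    have h := ClassAlgebraVal.apply_one_eq_charDegree (oneChar G)
    rw [show (oneChar G : G → ℂ) 1 = 1 from rfl] at h
    exact_mod_cast h.symm
  have h1X : oneChar G ∈ X₀ := by
    by_contra h
    by_cases h' : oneChar G ∈ Y₀
    · have h1 := (S₀.congrY _ h').dvd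
      rw [hdeg1] at h1
      rcases S₀.sign with hs | hs <;> rw [hs] at h1
      · have := Int.le_of_dvd (by norm_num) h1
        omega
      · rw [← dvd_neg] at h1
        have := Int.le_of_dvd (by norm_num) h1
        omega
    · have := S₀.outside _ h h' y₁ hy₁
      rw [hcval1] at this
      exact one_ne_zero this
  have ha1 : a₀ (oneChar G) = 1 := by
    have h := S₀.valX _ h1X y₁ hy₁
    rw [hcval1] at h
    exact_mod_cast h.symm
  obtain ⟨θ, hθne, hX₀⟩ : ∃ θ, oneChar G ≠ θ ∧ X₀ = {oneChar G, θ} := by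
    obtain ⟨A, B, hAB, hX⟩ := Finset.card_eq_two.1 S₀.cardX
    rw [hX, Finset.mem_insert, Finset.mem_singleton] at h1X
    rcases h1X with h | h
    · exact ⟨B, h ▸ hAB, h ▸ hX⟩
    · exact ⟨A, h ▸ hAB.symm, by rw [h, hX, Finset.pair_comm]⟩
  have hθX : θ ∈ X₀ := by rw [hX₀]; simp
  obtain ⟨k, hk⟩ := (S₀.congrX θ hθX).symm.dvd
  have hk1 : 1 ≤ k := by
    have := ClassAlgebraVal.charDegree_pos θ
    rcases lt_trichotomy k 0 with h | h | h
    · have : (p : ℤ) * k ≤ (p : ℤ) * (-1) := mul_le_mul_of_nonneg_left (by omega) (by positivity)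
      rcases S₀.signX θ hθX with ha | ha <;> rw [ha] at hk <;> omega
    · exfalso
      rw [h, mul_zero] at hk
      rcases S₀.signX θ hθX with ha | ha <;> rw [ha] at hk
      · refine hθne (Subtype.ext (funext fun g => ?_))
        rw [eq_one_of_charDegree_eq_one hperf θ (by omega) g]
        rfl
      · omega
    · exact h
  have hyb : |z θ| ≤ k + a₀ θ := hbound θ (k + a₀ θ) (by
    rw [S₀.sumX θ hθX]
    have : (charDegree (θ : G → ℂ) : ℂ) = (p : ℂ) * (k : ℂ) + (a₀ θ : ℂ) := by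
      have h : (charDegree (θ : G → ℂ) : ℤ) = (p : ℤ) * k + a₀ θ := by omega
      exact_mod_cast h
    rw [this]
    push_cast
    ring)
  obtain ⟨ψ₀, hψ₀⟩ := S₀.Y_ne
  obtain ⟨hW₀, hm0, -⟩ := weight_eval S₀ hX₀ hθne hψ₀ htp hy₁
  -- compare
  have hcmp := (weight_const hP hU hcen hodd hto y₁.2 η).trans
    (weight_const hP hU hcen hodd hto y₁.2 one).symm
  rw [hW, hW₀, hm1, hm0, haα, haβ, ha1, hz α, hz θ] at hcmp
  have hβt : (β : G → ℂ) t = ((z α + z χ₀ : ℤ) : ℂ) := by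
    rw [haα, haβ, hε, hz α, hz χ₀] at hmt
    push_cast at hmt ⊢
    linear_combination hmt
  have hβ1 : (β : G → ℂ) 1 = (((charDegree (α : G → ℂ) : ℤ) + (p - 2 : ℤ) : ℤ) : ℂ) := by
    rw [haα, haβ, hε, ClassAlgebraVal.apply_one_eq_charDegree χ₀, hdeg,
      Nat.cast_sub (show 2 ≤ p by omega), ClassAlgebraVal.apply_one_eq_charDegree α] at hm1
    push_cast at hm1 ⊢
    linear_combination hm1
  rw [hβt, hβ1, ClassAlgebraVal.apply_one_eq_charDegree α,
    show (oneChar G : G → ℂ) 1 = 1 from rfl, show (oneChar G : G → ℂ) t = 1 from rfl,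
    ClassAlgebraVal.apply_one_eq_charDegree θ] at hcmp
  set f : ℤ := (charDegree (α : G → ℂ) : ℤ) with hf
  set F : ℤ := (charDegree (θ : G → ℂ) : ℤ) with hF
  set g : ℤ := f + (p - 2 : ℤ) with hg
  set m : ℤ := (p : ℤ) - 2 with hm
  have hfeq : f = i * p + 1 := by rw [mul_comm]; omega
  have hFeq : F = k * p + a₀ θ := by rw [mul_comm]; omega
  have key : (z α * m - z χ₀ * f) ^ 2 * (F * (F + a₀ θ)) < (F - z θ) ^ 2 * (f * g * m) := by
    rcases (show p = 7 ∨ 11 ≤ p by
      rcases (show p = 7 ∨ p = 8 ∨ p = 9 ∨ p = 10 ∨ 11 ≤ p by omega) with h | h | h | h | h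
      · exact Or.inl h
      all_goals first
        | exact Or.inr h
        | (subst h; exact absurd hp (by norm_num))) with h | h
    · refine ineq_seven hi1 (by rw [hfeq, h]; rfl) (by rw [hm, h]; rfl) hg hxb (hz4 α) hvb
        ?_ hk1 (S₀.signX θ hθX) (by rw [hFeq, h]; rfl) hyb (hz4 θ)
      have := hz4 χ₀
      rw [hdeg, Nat.cast_sub (show 2 ≤ p by omega)] at this
      rw [hm]; exact_mod_cast this
    · exact ineq_large (by exact_mod_cast h) hi1 hfeq hm hg hxb hvb hk1 (S₀.signX θ hθX) hFeq hyb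
  refine key.ne (Int.cast_injective (α := ℂ) ?_)
  have hfpos : 0 < f := by rw [hf]; exact_mod_cast ClassAlgebraVal.charDegree_pos α
  have hgpos : 0 < g := by rw [hg]; omega
  have hmpos : 0 < m := by rw [hm]; omega
  have hFpos : 0 < F := by rw [hF]; exact_mod_cast ClassAlgebraVal.charDegree_pos θ
  have hFa : 1 + a₀ θ * F ≠ 0 ∧ F + a₀ θ ≠ 0 := by
    rcases S₀.signX θ hθX with ha | ha <;> rw [ha]
    · omega
    · have : (p : ℤ) ≤ (p : ℤ) * k := le_mul_of_one_le_right (by positivity) hk1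
      rw [ha] at hk
      omega
  have hfgm : f + -1 * g = -m := by rw [hg]; ring
  have hcf : (charDegree (α : G → ℂ) : ℂ) = (f : ℂ) := by rw [hf]; push_cast; rfl
  have hcF : (charDegree (θ : G → ℂ) : ℂ) = (F : ℂ) := by rw [hF]; push_cast; rfl
  rw [hcf, hcF] at hcmp
  rw [div_eq_div_iff] at hcmp
  · push_cast at hcmp ⊢
    have hsqa : (a₀ θ : ℂ) * (a₀ θ : ℂ) = 1 := by
      rcases S₀.signX θ hθX with ha | ha <;> simp [ha]
    have hA : (1 : ℂ) + (a₀ θ : ℂ) * F = (a₀ θ : ℂ) * ((F : ℂ) + (a₀ θ : ℂ)) := by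
      linear_combination -hsqa
    have hgc : (g : ℂ) = (f : ℂ) + (m : ℂ) := by exact_mod_cast hg
    rw [show (1 : ℂ) * 1 + (a₀ θ : ℂ) * F = (a₀ θ : ℂ) * ((F : ℂ) + (a₀ θ : ℂ)) by
      rw [one_mul]; exact hA] at hcmp
    refine mul_left_cancel₀ (a := (a₀ θ : ℂ)) (left_ne_zero_of_mul (hsqa.trans_ne one_ne_zero)) ?_
    rw [hgc] at hcmp ⊢
    linear_combination -hcmp
  all_goals
    refine mul_ne_zero (mul_ne_zero ?_ ?_) ?_
  all_goals
    push_cast
    norm_cast
  all_goals omega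

end Cfsg.Agent.SmallDegree63
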