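import Cfsg.Agent.Lib.BlockDefectOneCount86
import Cfsg.Agent.Lib.SchurBound79
import Cfsg.Agent.Lib.ClassAlgebraOmega
import Cfsg.Agent.Lib.CharBasic

/-!
# A faithful character of degree `p - 2`

If a group has a faithful irreducible character of degree `p - 2`, a Sylow subgroup `P` of order `p`
and `N(P) ≠ C(P)`, then the regular part of `C(P)` is central and `N(P) : C(P)` has order two.
The character has coefficient `d + δ (orbit sum)` on the sections of `P`; the non-negativity of the
multiplicities in the restriction to `P × U` leaves only the orbit of size two.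
-/

set_option autoImplicit false

open scoped ComplexConjugate IsMulCommutative

namespace Cfsg.Agent.SmallDegree63

open Cfsg Cfsg.Agent.BlockTheoryCentre Cfsg.Agent.CharBasic Cfsg.Agent.CharBasicOrth
  Cfsg.Agent.CharBasicDecomp Cfsg.Agent.BlockAbelianSylow86 Cfsg.Agent.BlockDefectOneLocal86
  Cfsg.Agent.BlockDefectOneBound86 Cfsg.Agent.BlockDefectOneBlock86

attribute [local instance] Classical.propDecidable

universe u

variable {G : Type u} [Group G] [Fintype G] {p : ℕ} [Fact p.Prime] {P : Sylow p G} {U : Subgroup G}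
  (hP : Nat.card (P : Subgroup G) = p) (hU : RegPart P U)
  [IsMulCommutative ↥(P : Subgroup G)] [Fintype ↥(P : Subgroup G)]

include hP hU

/-- The multiplicities in the restriction to `P × U` are natural numbers. -/
theorem exists_mult_nat (η : IrrCharacter U) (χ : IrrCharacter G) (φ : ↥(P : Subgroup G) →* ℂˣ) :
    ∃ n : ℕ, cval η (χ : G → ℂ) 1 +
      ∑ y ∈ (Finset.univ : Finset ↥(P : Subgroup G)).erase 1,
        cval η (χ : G → ℂ) (y : G) * conj (φ y : ℂ) = ((p * n : ℕ) : ℂ) := by
  set C := Subgroup.centralizer ((P : Subgroup G) : Set G) with hC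
  have hχ : IsCharacter C fun c : C => (χ : G → ℂ) c :=
    isCharacter_comap C.subtype (isCharacter_of_isIrrCharacter χ.2)
  obtain ⟨n, hn⟩ := classInner_isCharacter hχ (isCharacter_of_isIrrCharacter
    (isIrrCharacter_mul_linear (ext hP hU η).2 (φ.comp (projP hP hU))))
  refine ⟨n, ?_⟩
  have hcard : (Nat.card C : ℂ) = (Nat.card ↥(P : Subgroup G) : ℂ) * (Nat.card U : ℂ) := by
    rw [← Nat.cast_mul, ← Nat.card_prod]
    exact congrArg _ (Nat.card_congr (Equiv.ofBijective _
      (DefectOneSign7.prodC_bijective hP hU))).symm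
  have key : (Nat.card ↥(P : Subgroup G) : ℂ)⁻¹ *
      ∑ y : ↥(P : Subgroup G), cval η (χ : G → ℂ) (y : G) * conj (φ y : ℂ) = n := by
    rw [← hn]
    simp only [classInner, cval]
    rw [hcard, ← Fintype.sum_bijective (DefectOneSign7.prodC hU)
      (DefectOneSign7.prodC_bijective hP hU) _ _ fun z => rfl, Fintype.sum_prod_type, mul_inv,
      mul_assoc]
    simp only [Finset.mul_sum, Finset.sum_mul]
    refine Finset.sum_congr rfl fun y _ => Finset.sum_congr rfl fun w _ => ?_
    have hc := proj_eq hP hU (y := y) (w := w) (c := DefectOneSign7.prodC hU (y, w)) rfl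
    rw [ext_apply hP hU η (y := y) (w := w) rfl, map_mul, MonoidHom.comp_apply, hc.1]
    show _ = _ * (_ * ((χ : G → ℂ) ((y : G) * (w : G)) * _))
    ring
  rw [← Finset.add_sum_erase _ _ (Finset.mem_univ (1 : ↥(P : Subgroup G))), hP,
    inv_mul_eq_iff_eq_mul₀ (Nat.cast_ne_zero.2 (Fact.out : p.Prime).ne_zero)] at key
  simp only [OneMemClass.coe_one, map_one, Units.val_one, mul_one] at key
  push_cast
  exact key

omit [Fintype ↥(P : Subgroup G)] [IsMulCommutative ↥(P : Subgroup G)] in
theorem sum_conj_nontrivial [Fintype ↥(P : Subgroup G)] (φ : ↥(P : Subgroup G) →* ℂˣ) :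
    ∑ y ∈ (Finset.univ : Finset ↥(P : Subgroup G)).erase 1, conj (φ y : ℂ) =
      if φ = 1 then ((p : ℂ) - 1) else -1 := by
  haveI := BlockPrime86.comm_P hP
  have h := Finset.add_sum_erase (Finset.univ : Finset ↥(P : Subgroup G))
    (fun y => conj (φ y : ℂ)) (Finset.mem_univ 1)
  simp only [map_one, Units.val_one] at h
  split_ifs with hφ
  · subst hφ
    simp [Finset.card_erase_of_mem, ← Nat.card_eq_fintype_card, hP,
      Nat.cast_sub (Fact.out : p.Prime).one_le]
  · have h0 : ∑ y : ↥(P : Subgroup G), conj (φ y : ℂ) = 0 := by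
      rw [← map_sum]
      have : ∑ y : ↥(P : Subgroup G), (φ y : ℂ) = 0 := by
        obtain ⟨x, hx⟩ : ∃ x, φ x ≠ 1 := by
          by_contra hh
          push Not at hh
          exact hφ (MonoidHom.ext hh)
        have h1 : (φ x : ℂ) * ∑ y : ↥(P : Subgroup G), (φ y : ℂ) = ∑ y : ↥(P : Subgroup G), (φ y : ℂ) := by
          rw [Finset.mul_sum]
          exact Fintype.sum_equiv (Equiv.mulLeft x) _ _ fun y => by simp
        by_contra hne
        exact hx (Units.val_eq_one.1 ((mul_eq_right₀ hne).1 h1))
      rw [this, map_zero]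
    linear_combination h + h0

variable [Fintype (↥(P : Subgroup G) →* ℂˣ)]

omit hU in
theorem sum_orbitVal_conj (E : Subgroup (MulAut ↥(P : Subgroup G))) [Fintype E]
    {ψ : ↥(P : Subgroup G) →* ℂˣ} (hψ : ψ ≠ 1) (φ : ↥(P : Subgroup G) →* ℂˣ) :
    ∑ y ∈ (Finset.univ : Finset ↥(P : Subgroup G)).erase 1,
        BlockDefectOneShape86.orbitVal E ψ y * conj (φ y : ℂ) =
      (if BlockDefectOneShape86.Same E φ ψ then (p : ℂ) else 0) - (Nat.card E : ℂ) := by
  haveI := BlockPrime86.comm_P hP
  simp only [BlockDefectOneShape86.orbitVal, Finset.sum_mul]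
  rw [Finset.sum_comm]
  set S := (Finset.univ : Finset (↥(P : Subgroup G) →* ℂˣ)).filter
    fun θ => BlockDefectOneShape86.Same E θ ψ with hS
  have hinner : ∀ θ : ↥(P : Subgroup G) →* ℂˣ,
      ∑ y ∈ (Finset.univ : Finset ↥(P : Subgroup G)).erase 1, (θ y : ℂ) * conj (φ y : ℂ) =
        (if θ = φ then (p : ℂ) else 0) - 1 := by
    intro θ
    have h := Finset.add_sum_erase (Finset.univ : Finset ↥(P : Subgroup G))
      (fun y => (θ y : ℂ) * conj (φ y : ℂ)) (Finset.mem_univ 1)
    simp only [map_one, Units.val_one, mul_one] at h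
    have h2 : ∑ y : ↥(P : Subgroup G), (θ y : ℂ) * conj (φ y : ℂ) =
        if θ = φ then (p : ℂ) else 0 := by
      by_cases he : θ = φ
      · subst he
        rw [if_pos rfl, Finset.sum_congr rfl (g := fun _ => (1 : ℂ)) fun y _ => by
          rw [BlockAbelianSylow86.conj_apply, ← Units.val_mul, ← map_mul, mul_inv_cancel, map_one,
            Units.val_one], Finset.sum_const, Finset.card_univ, nsmul_eq_mul, mul_one,
          ← Nat.card_eq_fintype_card, hP]
      · rw [if_neg he]
        obtain ⟨x, hx⟩ : ∃ x, θ x ≠ φ x := by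
          by_contra hh
          push Not at hh
          exact he (MonoidHom.ext hh)
        set g := fun y : ↥(P : Subgroup G) => (θ y : ℂ) * conj (φ y : ℂ) with hg
        have h1 : g x * ∑ y : ↥(P : Subgroup G), g y = ∑ y : ↥(P : Subgroup G), g y := by
          rw [Finset.mul_sum]
          refine Fintype.sum_equiv (Equiv.mulLeft x) _ _ fun y => ?_
          simp only [hg, Equiv.coe_mulLeft, map_mul, Units.val_mul]
          ring
        by_contra hne
        apply hx
        have h3 : g x = 1 := (mul_eq_right₀ hne).1 h1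
        simp only [hg, BlockAbelianSylow86.conj_apply, ← Units.val_mul, Units.val_eq_one] at h3
        rw [map_inv, mul_inv_eq_one] at h3
        exact h3
    rw [← h2, ← h]
    ring
  rw [Finset.sum_congr rfl fun θ _ => hinner θ, Finset.sum_sub_distrib, Finset.sum_ite_eq',
    Finset.sum_const, BlockDefectOneShape86.card_orbit hP hψ, nsmul_eq_mul, mul_one]
  simp [hS]

omit [Fintype (↥(P : Subgroup G) →* ℂˣ)] in
/-- A faithful irreducible character of degree `p - 2` is scalar on the regular part of `C(P)`, and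
the inertial index is two. -/
theorem central_and_index (hp7 : 7 ≤ p) (χ : IrrCharacter G)
    (hdeg : charDegree (χ : G → ℂ) = p - 2)
    (hfaith : ∀ g : G, (χ : G → ℂ) g = (χ : G → ℂ) 1 → g = 1)
    (he1 : (Subgroup.centralizer ((P : Subgroup G) : Set G)).relIndex
      (Subgroup.normalizer ((P : Subgroup G) : Set G)) ≠ 1) :
    (∀ w ∈ U, w ∈ Subgroup.center G) ∧
      (Subgroup.centralizer ((P : Subgroup G) : Set G)).relIndex
        (Subgroup.normalizer ((P : Subgroup G) : Set G)) = 2 := by
  haveI : Fintype (↥(P : Subgroup G) →* ℂˣ) := Fintype.ofFinite _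
  have hp := (Fact.out : p.Prime)
  obtain ⟨M, hM⟩ := SchurBound79.exists_modular p hp
  have hndvd : ¬ p ∣ charDegree (χ : G → ℂ) := by
    rw [hdeg]
    intro h
    have := Nat.le_of_dvd (by omega) h
    omega
  obtain ⟨η, y₀, hy₀, hy₀1, hne⟩ := exists_cval_ne hP hU hndvd
  obtain ⟨B, hind⟩ := exists_block hP hU hM η
  have hχB : χ ∈ B := by
    by_contra h
    exact hne (cval_eq_zero hP hU hM η hind h hy₀ hy₀1)
  obtain ⟨X, Y, a, ε, d, δ, ζ, S⟩ := exists_data hP hU hM hind
  haveI : Fintype (autE hU η) := Fintype.ofFinite _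
  set e' := Nat.card (autE hU η) with he'
  set r := (orbit hU η).card with hr
  set k := charDegree (η : U → ℂ) with hk
  have hk0 : 0 < k := ClassAlgebraVal.charDegree_pos η
  have hr0 : 0 < r := Finset.card_pos.2 ⟨η, self_mem_orbit hU η⟩
  have he'0 : 0 < e' := Nat.card_pos
  have hre := BlockDefectOneCount86.orbit_mul_index hP hU η
  rw [← hr, ← he'] at hre
  set c : ↥(P : Subgroup G) → ℂ := fun y => cval η (χ : G → ℂ) (y : G) with hc
  -- the coefficient at the identity
  have hDnat : ∀ η' : IrrCharacter U, ∃ D : ℕ, cval η' (χ : G → ℂ) 1 = (D : ℂ) := by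
    intro η'
    obtain ⟨m, hm⟩ := classInner_isCharacter
      (isCharacter_comap U.subtype (isCharacter_of_isIrrCharacter χ.2))
      (isCharacter_of_isIrrCharacter η'.2)
    refine ⟨m, ?_⟩
    rw [← hm, cval]
    congr 1
    funext w
    rw [one_mul]
    rfl
  choose D hD using hDnat
  have hdegsum : ∑ η' : IrrCharacter U, D η' * charDegree (η' : U → ℂ) = p - 2 := by
    have h := apply_eq_sum hU χ (one_mem (P : Subgroup G)) 1
    rw [OneMemClass.coe_one, one_mul, ClassAlgebraVal.apply_one_eq_charDegree, hdeg] at h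
    simp only [hD, ClassAlgebraVal.apply_one_eq_charDegree] at h
    exact_mod_cast h.symm
  have hDorb : ∀ η' ∈ orbit hU η, D η' = D η := by
    intro η' hη'
    obtain ⟨n, rfl⟩ := (mem_orbit hU).1 hη'
    have h : (D (twist hU η n) : ℂ) = (D η : ℂ) := by
      rw [← hD, ← hD, ← cval_conj hU η χ n 1]
      simp
    exact_mod_cast h
  have hkorb : ∀ η' ∈ orbit hU η, charDegree (η' : U → ℂ) = k := by
    intro η' hη'
    have h := orbit_apply_one hU hη'
    rw [ClassAlgebraVal.apply_one_eq_charDegree, ClassAlgebraVal.apply_one_eq_charDegree] at h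
    exact_mod_cast h
  have hDoff : ∀ η' : IrrCharacter U, η' ∉ orbit hU η → D η' = 0 := by
    intro η' hη'
    obtain ⟨n, hn⟩ := exists_mult_nat hP hU η' χ 1
    rw [Finset.sum_eq_zero fun y hy => by
      rw [cval_off_orbit hP hU hM hind hη' hχB y.2
        (fun h => (Finset.ne_of_mem_erase hy) (Subtype.ext h)), zero_mul], add_zero, hD] at hn
    have hn' : D η' = p * n := by exact_mod_cast hn
    have h1 : D η' * charDegree (η' : U → ℂ) ≤ p - 2 :=
      hdegsum ▸ Finset.single_le_sum (f := fun η' => D η' * charDegree (η' : U → ℂ))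
        (fun _ _ => Nat.zero_le _) (Finset.mem_univ η')
    have h2 : D η' ≤ D η' * charDegree (η' : U → ℂ) :=
      Nat.le_mul_of_pos_right _ (ClassAlgebraVal.charDegree_pos η')
    rcases Nat.eq_zero_or_pos n with rfl | h
    · simpa using hn'
    · have : p ≤ p * n := Nat.le_mul_of_pos_right _ h
      omega
  have hdeg2 : r * k * D η = p - 2 := by
    rw [← hdegsum, ← Finset.sum_subset (Finset.subset_univ (orbit hU η))
      (fun η' _ h => by rw [hDoff η' h, zero_mul]),
      Finset.sum_congr rfl (g := fun _ => D η * k) fun η' h => by rw [hDorb η' h, hkorb η' h],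
      Finset.sum_const, smul_eq_mul, ← hr]
    ring
  have hDle : D η ≤ p - 2 := by
    rw [← hdeg2]; exact Nat.le_mul_of_pos_left _ (Nat.mul_pos hr0 hk0)
  have hmult : ∀ φ : ↥(P : Subgroup G) →* ℂˣ, ∃ n : ℕ, (D η : ℂ) +
      ∑ y ∈ (Finset.univ : Finset ↥(P : Subgroup G)).erase 1, c y * conj (φ y : ℂ) =
        ((p * n : ℕ) : ℂ) := by
    intro φ
    rw [← hD η]
    exact exists_mult_nat hP hU η χ φ
  -- a constant coefficient makes `P` act trivially
  have htriv : (∀ y : ↥(P : Subgroup G), y ≠ 1 → c y = 1) → r * k = p - 2 → False := by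
    intro hc1 hrk
    apply hy₀1
    refine hfaith y₀ ?_
    have h := value hP hU hM hind hχB hy₀ hy₀1 1
    rw [OneMemClass.coe_one, mul_one] at h
    rw [h, ClassAlgebraVal.apply_one_eq_charDegree, hdeg, ← hrk,
      Finset.sum_congr rfl (g := fun _ => (k : ℂ)) fun η' hη' => ?_, Finset.sum_const, nsmul_eq_mul,
      ← hr]
    · push_cast; ring
    obtain ⟨n, rfl⟩ := (mem_orbit hU).1 hη'
    rw [← cval_conj hU η χ n y₀, ClassAlgebraVal.apply_one_eq_charDegree, hkorb _ hη']
    have hy' := (Subgroup.mem_normalizer_iff.1 n.2 y₀).1 hy₀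
    rw [show cval η (χ : G → ℂ) ((n : G) * y₀ * (n : G)⁻¹) = c ⟨_, hy'⟩ from rfl,
      hc1 _ fun e => hy₀1 (by simpa using congrArg Subtype.val e), one_mul]
  rcases (S.block χ).1 (Finset.mem_filter.2 ⟨Finset.mem_univ _, hχB⟩) with hX | hY
  · exfalso
    have hcv : ∀ y : ↥(P : Subgroup G), y ≠ 1 → c y = (a χ : ℂ) := S.valX χ hX
    obtain ⟨ψ, hψ⟩ : ∃ ψ : ↥(P : Subgroup G) →* ℂˣ, ψ ≠ 1 := by
      have h := BlockDefectOneShape86.card_nontrivial (A := ↥(P : Subgroup G)) hP
      obtain ⟨ψ, hψ⟩ := Finset.card_pos.1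
        (show 0 < ((Finset.univ : Finset (↥(P : Subgroup G) →* ℂˣ)).erase 1).card by omega)
      exact ⟨ψ, Finset.ne_of_mem_erase hψ⟩
    obtain ⟨n, hn⟩ := hmult ψ
    rw [Finset.sum_congr rfl fun y hy => by rw [hcv y (Finset.ne_of_mem_erase hy)],
      ← Finset.mul_sum, sum_conj_nontrivial hP hU, if_neg hψ] at hn
    rcases S.signX χ hX with ha | ha
    · rw [ha] at hn
      have hn' : D η = p * n + 1 := by
        have : ((D η : ℕ) : ℂ) = ((p * n + 1 : ℕ) : ℂ) := by
          push_cast at hn ⊢; linear_combination hn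
        exact_mod_cast this
      have hn0 : n = 0 := by
        rcases Nat.eq_zero_or_pos n with h | h
        · exact h
        · have : p ≤ p * n := Nat.le_mul_of_pos_right _ h
          omega
      rw [hn0, mul_zero, zero_add] at hn'
      refine htriv (fun y hy => by rw [hcv y hy, ha, Int.cast_one]) ?_
      rwa [hn', mul_one] at hdeg2
    · rw [ha] at hn
      have hn' : D η + 1 = p * n := by
        have : ((D η + 1 : ℕ) : ℂ) = ((p * n : ℕ) : ℂ) := by
          push_cast at hn ⊢; linear_combination hn
        exact_mod_cast this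
      have : p ≤ p * n := Nat.le_mul_of_pos_right _ (Nat.pos_of_ne_zero fun h => by
        rw [h, mul_zero] at hn'; omega)
      omega
  · obtain ⟨ψ, hψ, hψχ⟩ := S.surj χ hY
    have hcv : ∀ y : ↥(P : Subgroup G), y ≠ 1 → c y =
        (d : ℂ) + (δ : ℂ) * BlockDefectOneShape86.orbitVal (autE hU η) ψ y := fun y hy => by
      have := S.valY ψ hψ y hy
      rw [hψχ] at this
      exact this
    have hsum : ∀ φ : ↥(P : Subgroup G) →* ℂˣ, ∃ n : ℕ, (D η : ℂ) +
        (d : ℂ) * (if φ = 1 then ((p : ℂ) - 1) else -1) + (δ : ℂ) *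
          ((if BlockDefectOneShape86.Same (autE hU η) φ ψ then (p : ℂ) else 0) - (e' : ℂ)) =
          ((p * n : ℕ) : ℂ) := by
      intro φ
      obtain ⟨n, hn⟩ := hmult φ
      refine ⟨n, ?_⟩
      rw [← hn, Finset.sum_congr rfl fun y hy => by rw [hcv y (Finset.ne_of_mem_erase hy)],
        ← sum_conj_nontrivial hP hU φ, ← sum_orbitVal_conj hP (autE hU η) hψ φ, Finset.mul_sum,
        Finset.mul_sum, add_assoc, ← Finset.sum_add_distrib]
      congr 1
      exact Finset.sum_congr rfl fun y _ => by ring
    have hS1 : ¬ BlockDefectOneShape86.Same (autE hU η) (1 : ↥(P : Subgroup G) →* ℂˣ) ψ :=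
      fun h => BlockDefectOneShape86.same_ne_one (BlockDefectOneShape86.same_symm h) hψ rfl
    have hSψ : BlockDefectOneShape86.Same (autE hU η) ψ ψ := BlockDefectOneShape86.same_refl ψ
    have hcY : Y.card * e' + 1 = p := S.cardY
    rcases S.cases with ⟨hd, -⟩ | ⟨hY2, hd, -⟩
    · obtain ⟨n₁, hn₁⟩ := hsum 1
      obtain ⟨n₂, hn₂⟩ := hsum ψ
      rw [if_pos rfl, if_neg hS1, hd] at hn₁
      rw [if_neg hψ, if_pos hSψ, hd] at hn₂
      rcases S.sign' with hδ | hδ <;> rw [hδ] at hn₁ hn₂
      · exfalso
        have hn' : D η = p * n₁ + e' := by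
          have : ((D η : ℕ) : ℂ) = ((p * n₁ + e' : ℕ) : ℂ) := by
            push_cast at hn₁ ⊢; linear_combination hn₁
          exact_mod_cast this
        have h0 : n₁ = 0 := by
          rcases Nat.eq_zero_or_pos n₁ with h | h
          · exact h
          · have : p ≤ p * n₁ := Nat.le_mul_of_pos_right _ h
            omega
        rw [h0, mul_zero, zero_add] at hn'
        rw [hn'] at hdeg2
        apply he1
        have hek : r * e' * k = p - 2 := by rw [← hdeg2]; ring
        have h2 : r * e' ∣ p - 1 := hre.symm ▸ DefectOneShape7.index_dvd hP _ rfl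
        have h3 : r * e' ∣ p - 2 := ⟨k, hek.symm⟩
        have h4 := Nat.dvd_sub h2 h3
        rw [show p - 1 - (p - 2) = 1 by omega, Nat.dvd_one] at h4
        rw [← hre]; exact h4
      · have hn' : D η + e' = p * (n₂ + 1) := by
          have : ((D η + e' : ℕ) : ℂ) = ((p * (n₂ + 1) : ℕ) : ℂ) := by
            push_cast at hn₂ ⊢; linear_combination hn₂
          exact_mod_cast this
        have hYpos : 0 < Y.card := Finset.card_pos.2 ⟨χ, hY⟩
        have he'le : e' ≤ Y.card * e' := Nat.le_mul_of_pos_left _ hYpos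
        have hDp : D η + e' = p := by
          rcases Nat.eq_zero_or_pos n₂ with h | h
          · rw [h, zero_add, mul_one] at hn'; exact hn'
          · have : p * 2 ≤ p * (n₂ + 1) := Nat.mul_le_mul_left _ (by omega)
            omega
        by_cases hone : Y.card = 1
        · exfalso
          have he'p : e' = p - 1 := by rw [hone] at hcY; omega
          refine htriv (fun y hy => ?_) ?_
          · rw [hcv y hy, hd, hδ]
            have hall : (Finset.univ.filter fun φ => BlockDefectOneShape86.Same (autE hU η) φ ψ) =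
                (Finset.univ : Finset (↥(P : Subgroup G) →* ℂˣ)).erase 1 := by
              refine Finset.eq_of_subset_of_card_le (BlockDefectOneShape86.orbit_subset hP hψ) ?_
              rw [BlockDefectOneShape86.card_orbit hP hψ, ← he', he'p]
              have h := BlockDefectOneShape86.card_nontrivial (A := ↥(P : Subgroup G)) hP
              omega
            rw [BlockDefectOneShape86.orbitVal, hall, BlockDefectOneShape86.sum_nontrivial hy]
            norm_num
          · have : D η = 1 := by omega
            rwa [this, mul_one] at hdeg2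
        · have he2 : 2 * e' ≤ Y.card * e' := Nat.mul_le_mul_right _ (by omega)
          have hw : r * k = 1 := by
            by_contra hne1
            have h2 : 2 * D η ≤ r * k * D η := Nat.mul_le_mul_right _ (by
              have := Nat.mul_pos hr0 hk0; omega)
            omega
          rw [hw, one_mul] at hdeg2
          have he'2 : e' = 2 := by omega
          obtain ⟨hr1, hk1⟩ : r = 1 ∧ k = 1 := ⟨Nat.eq_one_of_mul_eq_one_right hw, Nat.eq_one_of_mul_eq_one_left hw⟩
          refine ⟨fun w hw => ?_, by rw [← hre, hr1, he'2]⟩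
          -- `w` acts by a scalar
          have hval : (χ : G → ℂ) w = ((p - 2 : ℕ) : ℂ) * (η : U → ℂ) ⟨w, hw⟩ := by
            have h := apply_eq_sum hU χ (one_mem (P : Subgroup G)) ⟨w, hw⟩
            rw [one_mul] at h
            rw [h, Finset.sum_eq_single η (fun η' _ hne' => ?_) (fun h => absurd (Finset.mem_univ _) h),
              hD, hdeg2]
            rw [hD, hDoff η' fun h => hne' ?_, Nat.cast_zero, zero_mul]
            obtain ⟨η₁, hη₁⟩ := Finset.card_eq_one.1 hr1
            rw [hη₁, Finset.mem_singleton] at h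
            have := self_mem_orbit hU η
            rw [hη₁, Finset.mem_singleton] at this
            rw [h, this]
          have hnorm : ‖(η : U → ℂ) ⟨w, hw⟩‖ = 1 := by
            obtain ⟨m, σ, hσ, hσ'⟩ := η.2
            obtain ⟨b, μ, -, -, hμ1, hpow⟩ := exists_rep_eigenbasis σ ⟨w, hw⟩
            have hm : Module.finrank ℂ (Fin m → ℂ) = 1 := by
              have h1 : (η : U → ℂ) 1 = (Module.finrank ℂ (Fin m → ℂ) : ℂ) := by
                rw [← hσ', Representation.char_one]
              rw [ClassAlgebraVal.apply_one_eq_charDegree, ← hk, hk1] at h1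
              exact_mod_cast h1.symm
            have h2 := hpow 1
            rw [pow_one] at h2
            rw [← hσ', h2]
            haveI : Subsingleton (Fin (Module.finrank ℂ (Fin m → ℂ))) := by rw [hm]; infer_instance
            rw [Fintype.sum_subsingleton _ ⟨0, by omega⟩, pow_one]
            exact hμ1 _
          obtain ⟨m, ρ, hρ, hρ'⟩ := χ.2
          have hfr : (Module.finrank ℂ (Fin m → ℂ) : ℂ) = ((p - 2 : ℕ) : ℂ) := by
            rw [← Representation.char_one ρ, hρ', ClassAlgebraVal.apply_one_eq_charDegree, hdeg]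
          obtain ⟨ω, hω, -⟩ := exists_scalar_of_norm_eq ρ w (by
            rw [hρ', hval, norm_mul, hnorm, mul_one, Complex.norm_natCast]
            exact_mod_cast hfr.symm)
          refine Subgroup.mem_center_iff.2 fun g => ?_
          have hcomm : ρ ((g * w) * (w * g)⁻¹) = 1 := by
            have h1 : ρ (g * w) = ρ (w * g) := by
              rw [map_mul, map_mul, hω]
              exact LinearMap.ext fun v => by simp
            rw [map_mul, h1, ← map_mul, mul_inv_cancel, map_one]
          have := hfaith _ (show (χ : G → ℂ) ((g * w) * (w * g)⁻¹) = (χ : G → ℂ) 1 by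
            rw [← hρ']
            show LinearMap.trace ℂ _ (ρ ((g * w) * (w * g)⁻¹)) = LinearMap.trace ℂ _ (ρ 1)
            rw [hcomm, map_one ρ])
          exact mul_inv_eq_one.1 this
    · exfalso
      rw [hY2] at hcY
      have hEψ := BlockDefectOneShape86.card_orbit (E := autE hU η) hP hψ
      obtain ⟨φ, hφ1, hφ⟩ : ∃ φ : ↥(P : Subgroup G) →* ℂˣ,
          φ ≠ 1 ∧ ¬ BlockDefectOneShape86.Same (autE hU η) φ ψ := by
        by_contra hall
        push Not at hall
        have hsub : (Finset.univ : Finset (↥(P : Subgroup G) →* ℂˣ)).erase 1 ⊆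
            Finset.univ.filter fun φ => BlockDefectOneShape86.Same (autE hU η) φ ψ :=
          fun φ hφ => Finset.mem_filter.2 ⟨Finset.mem_univ _, hall φ (Finset.ne_of_mem_erase hφ)⟩
        have h1 := Finset.card_le_card hsub
        rw [hEψ, ← he'] at h1
        have h2 := BlockDefectOneShape86.card_nontrivial (A := ↥(P : Subgroup G)) hP
        omega
      obtain ⟨n₁, hn₁⟩ := hsum 1
      obtain ⟨n₃, hn₃⟩ := hsum φ
      rw [if_pos rfl, if_neg hS1, hd] at hn₁
      rw [if_neg hφ1, if_neg hφ, hd] at hn₃
      have hpc : (p : ℂ) = 2 * e' + 1 := by exact_mod_cast hcY.symm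
      rcases S.sign' with hδ | hδ <;> rw [hδ] at hn₁ hn₃
      · have hn' : D η = p * n₃ + (e' + 1) := by
          have : ((D η : ℕ) : ℂ) = ((p * n₃ + (e' + 1) : ℕ) : ℂ) := by
            push_cast at hn₃ ⊢; linear_combination hn₃
          exact_mod_cast this
        have h0 : n₃ = 0 := by
          rcases Nat.eq_zero_or_pos n₃ with h | h
          · exact h
          · have : p ≤ p * n₃ := Nat.le_mul_of_pos_right _ h
            omega
        rw [h0, mul_zero, zero_add] at hn'
        rcases (show r * k = 1 ∨ 2 ≤ r * k by have := Nat.mul_pos hr0 hk0; omega) with h | h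
        · rw [h, one_mul] at hdeg2; omega
        · have h2 : 2 * D η ≤ r * k * D η := Nat.mul_le_mul_right _ h
          omega
      · have hn' : D η = p * n₁ + e' := by
          have : ((D η : ℕ) : ℂ) = ((p * n₁ + e' : ℕ) : ℂ) := by
            push_cast at hn₁ ⊢; linear_combination hn₁ + hpc
          exact_mod_cast this
        have h0 : n₁ = 0 := by
          rcases Nat.eq_zero_or_pos n₁ with h | h
          · exact h
          · have : p ≤ p * n₁ := Nat.le_mul_of_pos_right _ h
            omega
        rw [h0, mul_zero, zero_add] at hn'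
        rcases (show r * k = 1 ∨ r * k = 2 ∨ 3 ≤ r * k by
          have := Nat.mul_pos hr0 hk0; omega) with h | h | h
        · rw [h, one_mul] at hdeg2; omega
        · rw [h] at hdeg2; omega
        · have h2 : 3 * D η ≤ r * k * D η := Nat.mul_le_mul_right _ h
          omega

end Cfsg.Agent.SmallDegree63
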