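import Cfsg.Agent.Lib.SmallDegree63Central

/-!
# Blocks of defect one over a central regular part with inertial index two
-/

set_option autoImplicit false

open scoped ComplexConjugate IsMulCommutative

namespace Cfsg.Agent.SmallDegree63

open Cfsg Cfsg.Agent.BlockTheoryCentre Cfsg.Agent.CharBasic Cfsg.Agent.CharBasicOrth
  Cfsg.Agent.CharBasicDecomp Cfsg.Agent.BlockAbelianSylow86 Cfsg.Agent.BlockDefectOneLocal86
  Cfsg.Agent.BlockDefectOneBound86 Cfsg.Agent.BlockDefectOneBlock86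

attribute [local instance] Classical.propDecidable

universe u

variable {G : Type u} [Group G] [Fintype G] {p : ℕ} [Fact p.Prime] {P : Sylow p G} {U : Subgroup G}

/-- The facts about the characters with non-zero coefficient at `η`. -/
structure CBlock (P : Sylow p G) [Fintype ↥(P : Subgroup G)] (η : IrrCharacter U)
    (X Y : Finset (IrrCharacter G)) (a : IrrCharacter G → ℤ) (ε : ℤ) : Prop where
  sign : ε = 1 ∨ ε = -1
  disj : Disjoint X Y
  cardX : X.card = 2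
  Y_ne : Y.Nonempty
  signX : ∀ χ ∈ X, a χ = 1 ∨ a χ = -1
  valX : ∀ χ ∈ X, ∀ y : ↥(P : Subgroup G), y ≠ 1 → cval η (χ : G → ℂ) (y : G) = (a χ : ℂ)
  congrX : ∀ χ ∈ X, (charDegree (χ : G → ℂ) : ℤ) ≡ a χ [ZMOD p]
  congrY : ∀ ψ ∈ Y, (charDegree (ψ : G → ℂ) : ℤ) ≡ ε * 2 [ZMOD p]
  agree : ∀ ψ ∈ Y, ∀ ψ' ∈ Y, ∀ g : G, ¬ p ∣ orderOf g → (ψ : G → ℂ) g = (ψ' : G → ℂ) g
  regular : ∀ ψ ∈ Y, ∀ g : G, ¬ p ∣ orderOf g →
    (ε : ℂ) * (ψ : G → ℂ) g = ∑ χ ∈ X, (a χ : ℂ) * (χ : G → ℂ) g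
  outside : ∀ χ, χ ∉ X → χ ∉ Y → ∀ y : ↥(P : Subgroup G), y ≠ 1 →
    cval η (χ : G → ℂ) (y : G) = 0
  sumY : ∀ y : ↥(P : Subgroup G), y ≠ 1 → ∑ ψ ∈ Y, cval η (ψ : G → ℂ) (y : G) = -(ε : ℂ)
  value : ∀ χ, χ ∈ X ∨ χ ∈ Y → ∀ y : ↥(P : Subgroup G), y ≠ 1 → ∀ w : U,
    (χ : G → ℂ) ((y : G) * (w : G)) = cval η (χ : G → ℂ) (y : G) * (η : U → ℂ) w
  sumX : ∀ χ ∈ X, ∑ y : ↥(P : Subgroup G), (χ : G → ℂ) (y : G) =
    (charDegree (χ : G → ℂ) : ℂ) + ((p : ℂ) - 1) * (a χ : ℂ)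
  sumYP : ∀ ψ ∈ Y, ∑ y : ↥(P : Subgroup G), (ψ : G → ℂ) (y : G) =
    (charDegree (ψ : G → ℂ) : ℂ) - 2 * (ε : ℂ)

variable [IsMulCommutative ↥(P : Subgroup G)] [Fintype ↥(P : Subgroup G)]
  (hP : Nat.card (P : Subgroup G) = p) (hU : RegPart P U)

include hP hU

/-- A character of a central regular part has degree one. -/
theorem eta_one (hcen : ∀ w ∈ U, w ∈ Subgroup.center G) (η : IrrCharacter U) :
    (η : U → ℂ) 1 = 1 :=
  CharBasicLinear.apply_one_eq_one_of_comm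
    (fun a b => Subtype.ext (Subgroup.mem_center_iff.1 (hcen b b.2) a)) η.2

/-- The conjugation action on a central regular part is trivial. -/
theorem orbit_eq_singleton (hcen : ∀ w ∈ U, w ∈ Subgroup.center G) (η : IrrCharacter U) :
    orbit hU η = {η} := by
  ext η'
  rw [mem_orbit hU, Finset.mem_singleton]
  refine ⟨fun ⟨n, hn⟩ => ?_, fun h => ⟨1, by rw [h, twist_one hU]⟩⟩
  rw [← hn]
  refine Subtype.ext (funext fun w => twist_apply hU η n ?_)
  rw [Subgroup.mem_center_iff.1 (hcen w w.2) (n : G), mul_inv_cancel_right]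

/-- The shape of the characters with non-zero coefficient at `η`. -/
theorem exists_cblock (hp7 : 7 ≤ p) (hcen : ∀ w ∈ U, w ∈ Subgroup.center G)
    (he : (Subgroup.centralizer ((P : Subgroup G) : Set G)).relIndex
      (Subgroup.normalizer ((P : Subgroup G) : Set G)) = 2) (η : IrrCharacter U) :
    ∃ X Y a ε, CBlock P η X Y a ε := by
  haveI : Fintype (↥(P : Subgroup G) →* ℂˣ) := Fintype.ofFinite _
  have hp := (Fact.out : p.Prime)
  obtain ⟨M, hM⟩ := SchurBound79.exists_modular p hp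
  obtain ⟨B, hind⟩ := exists_block hP hU hM η
  obtain ⟨X, Y, a, ε, d, δ, ζ, S, hdX, hdY⟩ :=
    BlockDefectOneCount86.exists_degrees hP hU hM hind
  haveI : Fintype (autE hU η) := Fintype.ofFinite _
  have horb := orbit_eq_singleton hP hU hcen η
  have hk : charDegree (η : U → ℂ) = 1 := by
    have h := eta_one hP hU hcen η
    rw [ClassAlgebraVal.apply_one_eq_charDegree] at h
    exact_mod_cast h
  have hE : Nat.card (autE hU η) = 2 := by
    have h := BlockDefectOneCount86.orbit_mul_index hP hU η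
    rwa [horb, Finset.card_singleton, one_mul, he] at h
  have hYc : Y.card * 2 + 1 = p := by have := S.cardY; rwa [hE] at this
  obtain ⟨hd, hεδ⟩ : d = 0 ∧ ε = δ := S.cases.resolve_right fun h => by
    have := h.1; omega
  have hval : ∀ χ, χ ∈ B → ∀ y : ↥(P : Subgroup G), y ≠ 1 → ∀ w : U,
      (χ : G → ℂ) ((y : G) * (w : G)) = cval η (χ : G → ℂ) (y : G) * (η : U → ℂ) w := by
    intro χ hχ y hy w
    rw [value hP hU hM hind hχ y.2 (fun h => hy (Subtype.ext h)) w, horb, Finset.sum_singleton]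
  have hmemB : ∀ χ, χ ∈ X ∨ χ ∈ Y → χ ∈ B := fun χ h =>
    (Finset.mem_filter.1 ((S.block χ).2 h)).2
  have hvalP : ∀ χ, χ ∈ B → ∀ y : ↥(P : Subgroup G), y ≠ 1 →
      (χ : G → ℂ) (y : G) = cval η (χ : G → ℂ) (y : G) := by
    intro χ hχ y hy
    have h := hval χ hχ y hy 1
    rwa [OneMemClass.coe_one, mul_one, eta_one hP hU hcen η, mul_one] at h
  have hout : ∀ χ, χ ∉ X → χ ∉ Y → ∀ y : ↥(P : Subgroup G), y ≠ 1 →
      cval η (χ : G → ℂ) (y : G) = 0 := fun χ hX hY y hy =>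
    cval_eq_zero hP hU hM η hind (fun h => ((S.block χ).1
      (Finset.mem_filter.2 ⟨Finset.mem_univ _, h⟩)).elim hX hY) y.2 fun h => hy (Subtype.ext h)
  have h1 : ¬ p ∣ orderOf (1 : G) := by rw [orderOf_one, Nat.dvd_one]; exact hp.ne_one
  have hregular : ∀ ψ ∈ Y, ∀ g : G, ¬ p ∣ orderOf g →
      (ε : ℂ) * (ψ : G → ℂ) g = ∑ χ ∈ X, (a χ : ℂ) * (χ : G → ℂ) g :=
    fun ψ hψ g hg => S.regular ψ hψ ⟨g, hg⟩
  have hYne : Y.Nonempty := Finset.card_pos.1 (by omega)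
  refine ⟨X, Y, a, ε, ⟨S.sign, S.disj, by rw [S.cardX, hE], hYne, S.signX, S.valX, ?_, ?_,
    fun ψ hψ ψ' hψ' g hg => S.agree ψ hψ ψ' hψ' ⟨g, hg⟩, hregular, hout, ?_,
    fun χ h => hval χ (hmemB χ h), ?_, ?_⟩⟩
  · intro χ hχ
    have h := hdX χ hχ
    rwa [horb, Finset.card_singleton, hk, mul_one, Nat.cast_one, mul_one] at h
  · intro ψ hψ
    have h := hdY ψ hψ
    rwa [he, hk, mul_one] at h
  · intro y hy
    obtain ⟨ψ₀, hψ₀⟩ := hYne
    have h := cval_regular hP hU η y.2 (fun h => hy (Subtype.ext h)) h1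
    rw [← Finset.sum_subset (Finset.subset_univ (X ∪ Y)) (fun χ _ hχ => by
      rw [Finset.mem_union, not_or] at hχ
      rw [hout χ hχ.1 hχ.2 y hy, zero_mul]), Finset.sum_union S.disj,
      Finset.sum_congr rfl fun χ hχ => by rw [S.valX χ hχ y hy], ← hregular ψ₀ hψ₀ 1 h1,
      Finset.sum_congr rfl fun ψ hψ => by rw [S.agree ψ hψ ψ₀ hψ₀ ⟨1, h1⟩ |>.trans rfl],
      ← Finset.sum_mul, ← add_mul, mul_eq_zero] at h
    refine (add_eq_zero_iff_eq_neg'.1 (h.resolve_right ?_))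
    rw [ClassAlgebraVal.apply_one_eq_charDegree]
    exact Nat.cast_ne_zero.2 (ClassAlgebraVal.charDegree_pos ψ₀).ne'
  · intro χ hχ
    rw [← Finset.add_sum_erase _ _ (Finset.mem_univ (1 : ↥(P : Subgroup G))), OneMemClass.coe_one,
      ClassAlgebraVal.apply_one_eq_charDegree, Finset.sum_congr rfl fun y hy => by
        rw [hvalP χ (hmemB χ (Or.inl hχ)) y (Finset.ne_of_mem_erase hy),
          S.valX χ hχ y (Finset.ne_of_mem_erase hy)], Finset.sum_const,
      Finset.card_erase_of_mem (Finset.mem_univ _), Finset.card_univ, ← Nat.card_eq_fintype_card,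
      hP, nsmul_eq_mul, Nat.cast_sub hp.one_le, Nat.cast_one]
  · intro χ hχ
    obtain ⟨ψ, hψ, rfl⟩ := S.surj χ hχ
    rw [← Finset.add_sum_erase _ _ (Finset.mem_univ (1 : ↥(P : Subgroup G))), OneMemClass.coe_one,
      ClassAlgebraVal.apply_one_eq_charDegree, sub_eq_add_neg]
    congr 1
    have hS1 : ¬ BlockDefectOneShape86.Same (autE hU η) (1 : ↥(P : Subgroup G) →* ℂˣ) ψ :=
      fun h => BlockDefectOneShape86.same_ne_one (BlockDefectOneShape86.same_symm h) hψ rfl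
    have h := sum_orbitVal_conj hP (autE hU η) hψ 1
    rw [if_neg hS1, hE] at h
    simp only [MonoidHom.one_apply, Units.val_one, map_one, mul_one] at h
    rw [Finset.sum_congr rfl fun y hy => by
      rw [hvalP (ζ ψ) (hmemB _ (Or.inr hχ)) y (Finset.ne_of_mem_erase hy),
        S.valY ψ hψ y (Finset.ne_of_mem_erase hy), hd, Int.cast_zero, zero_add],
      ← Finset.mul_sum, h, hεδ]
    push_cast
    ring

end Cfsg.Agent.SmallDegree63
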