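import Cfsg.Agent.S4503
import Cfsg.Agent.S4468
import Cfsg.Agent.Lib.BrauerReynolds7Recognition
import Cfsg.Agent.Lib.CharBasicLinear

/-!
# The normal closure of `P` in a group with a faithful character of degree `p - 2`

`L = ⟨P^G⟩` centralizes every normal `p'`-subgroup, is perfect, acts irreducibly and has only
scalars as centralizer.
-/

set_option autoImplicit false

open scoped ComplexConjugate

namespace Cfsg.Agent.SmallDegree63

open Cfsg Cfsg.Agent.CharBasic Cfsg.Agent.CharBasicOrth Cfsg.Agent.CharBasicDecomp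
  Cfsg.Agent.CharBasicLinear

attribute [local instance] Classical.propDecidable

universe u

variable {G : Type u} [Group G] [Finite G] {p : ℕ} [Fact p.Prime] {P : Sylow p G}

/-- A normal subgroup containing a Sylow subgroup contains all of them. -/
theorem sylow_le_of_normal {K : Subgroup G} [K.Normal] (hPK : (P : Subgroup G) ≤ K) (Q : Sylow p G) :
    (Q : Subgroup G) ≤ K := by
  obtain ⟨g, rfl⟩ := MulAction.exists_smul_eq G P Q
  rw [Sylow.coe_subgroup_smul]
  exact (Subgroup.pointwise_smul_le_pointwise_smul_iff.2 hPK).trans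
    (le_of_eq (Subgroup.Normal.conjAct inferInstance g))

omit [Finite G] in
/-- The normal closure of a Sylow subgroup in itself. -/
theorem eq_top_of_le {L : Subgroup G} (hL : L = Subgroup.normalClosure ((P : Subgroup G) : Set G))
    [Finite L] (PL : Sylow p L) {K : Subgroup L} [K.Normal] (hPL : (PL : Subgroup L) ≤ K)
    (hcard : Nat.card PL = Nat.card P) : K = ⊤ := by
  rw [eq_top_iff]
  have hle : L ≤ K.map L.subtype := by
    conv_lhs => rw [hL, Subgroup.normalClosure]
    rw [Subgroup.closure_le]
    intro x hx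
    obtain ⟨y, hy, hxy⟩ := Group.mem_conjugatesOfSet_iff.1 hx
    obtain ⟨g, rfl⟩ := isConj_iff.1 hxy
    have hxL : g * y * g⁻¹ ∈ L := hL ▸ Subgroup.conjugatesOfSet_subset_normalClosure hx
    obtain ⟨k, hk⟩ := IsPGroup.iff_orderOf.1 P.2 ⟨y, hy⟩
    obtain ⟨Q, hQ⟩ := (IsPGroup.of_card (p := p) (n := k)
      (G := Subgroup.zpowers (⟨g * y * g⁻¹, hxL⟩ : L)) (by
      rw [Nat.card_zpowers, Subgroup.orderOf_mk,
        show g * y * g⁻¹ = MulAut.conj g y from rfl, MulEquiv.orderOf_eq,
        ← Subgroup.orderOf_mk (H := (P : Subgroup G)) y hy]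
      exact hk)).exists_le_sylow
    exact ⟨⟨g * y * g⁻¹, hxL⟩, sylow_le_of_normal hPL Q (hQ (Subgroup.mem_zpowers _)), rfl⟩
  intro x _
  obtain ⟨z, hz, hzx⟩ := hle x.2
  rwa [← (Subtype.ext hzx : z = x)]

variable (hP : Nat.card P = p) (hp7 : 7 ≤ p) {ζ : G → ℂ} (hζ : IsIrrCharacter G ζ)
  (hfaith : ∀ g : G, ζ g = ζ 1 → g = 1) (hdeg : charDegree ζ = p - 2)

include hP hp7 hζ hfaith hdeg

/-- `P` centralizes every normal `p'`-subgroup. -/
theorem le_centralizer_of_normal {M : Subgroup G} [M.Normal] (hM : ¬ p ∣ Nat.card M) :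
    (P : Subgroup G) ≤ Subgroup.centralizer (M : Set G) := by
  have hp := (Fact.out : p.Prime)
  have hPc : Nat.card (P : Subgroup G) = p := hP
  set H := M ⊔ (P : Subgroup G) with hH
  have hMH : M ≤ H := le_sup_left
  have hPH : (P : Subgroup G) ≤ H := le_sup_right
  have hdisj : (P : Subgroup G) ⊓ M = ⊥ := by
    refine Subgroup.inf_eq_bot_of_coprime ?_
    rw [hPc]
    exact hp.coprime_iff_not_dvd.2 hM
  have hcH : Nat.card H = Nat.card M * p := by
    have h1 := Subgroup.relIndex_mul_relIndex ⊥ M H bot_le hMH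
    rw [Subgroup.relIndex_bot_left, Subgroup.relIndex_bot_left, hH, Subgroup.relIndex_sup_left] at h1
    rw [← h1]
    congr 1
    rw [← Subgroup.inf_relIndex_right, inf_comm, hdisj, Subgroup.relIndex_bot_left, hPc]
  set MH := M.subgroupOf H with hMHdef
  have hcM : Nat.card MH = Nat.card M :=
    Nat.card_congr (Subgroup.subgroupOfEquivOfLe hMH).toEquiv
  have hidx : MH.index = p := by
    have h1 := MH.card_mul_index
    rw [hcM, hcH] at h1
    exact Nat.eq_of_mul_eq_mul_left Nat.card_pos h1
  have hsolv : IsPSolvable p H := by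
    refine ⟨2, ![⊥, MH, ⊤], rfl, rfl, Fin.monotone_iff_le_succ.2 fun i => ?_, fun i => ?_,
      fun i => ?_⟩
    · fin_cases i
      · exact bot_le
      · exact le_top
    · fin_cases i
      · show (⊥ : Subgroup H).Normal
        infer_instance
      · show MH.Normal
        rw [hMHdef]; infer_instance
      · show (⊤ : Subgroup H).Normal
        infer_instance
    · fin_cases i
      · refine Or.inr ?_
        show (Subgroup.relIndex (⊥ : Subgroup H) MH).Coprime p
        rw [Subgroup.relIndex_bot_left, hcM]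
        exact (hp.coprime_iff_not_dvd.2 hM).symm
      · refine Or.inl ⟨1, ?_⟩
        show MH.relIndex ⊤ = p ^ 1
        rw [Subgroup.relIndex_top_right, hidx, pow_one]
  have hn : (P.subtype hPH : Subgroup H).Normal := by
    by_contra hnn
    have hd : charDegree (fun x : H => ζ x) = p - 2 := by
      rw [← hdeg]; simp [charDegree]
    have h := (S4468.result (fun x : H => ζ x)
      (CharBasic.isCharacter_comap H.subtype (isCharacter_of_isIrrCharacter hζ))
      (fun x hx => Subtype.ext (hfaith x hx)) (p - 2) hd p hp hsolv (by omega) _ hnn).1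
    omega
  intro y hy
  rw [Subgroup.mem_centralizer_iff]
  intro m hm
  have h1 : (⟨m, hMH hm⟩ : H) * ⟨y, hPH hy⟩ * (⟨m, hMH hm⟩ : H)⁻¹ ∈ (P.subtype hPH : Subgroup H) :=
    hn.conj_mem _ (by rw [Sylow.coe_subtype]; exact hy) _
  rw [Sylow.coe_subtype, Subgroup.mem_subgroupOf] at h1
  simp only [Subgroup.coe_mul, Subgroup.coe_inv] at h1
  have h2 : m * y * m⁻¹ * y⁻¹ ∈ (P : Subgroup G) ⊓ M := by
    refine Subgroup.mem_inf.2 ⟨mul_mem h1 (inv_mem hy), ?_⟩
    rw [show m * y * m⁻¹ * y⁻¹ = m * (y * m⁻¹ * y⁻¹) by group]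
    exact mul_mem hm (Subgroup.Normal.conj_mem inferInstance _ (inv_mem hm) y)
  rw [hdisj, Subgroup.mem_bot, mul_inv_eq_one, mul_inv_eq_iff_eq_mul] at h2
  exact h2

variable (hnn : ¬ (P : Subgroup G).Normal) {L : Subgroup G}
  (hL : L = Subgroup.normalClosure ((P : Subgroup G) : Set G))

include hnn hL

/-- The normal closure of `P` is perfect. -/
theorem perfect_normalClosure : commutator L = ⊤ := by
  have hp := (Fact.out : p.Prime)
  have hPc : Nat.card (P : Subgroup G) = p := hP
  haveI : L.Normal := hL ▸ Subgroup.normalClosure_normal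
  have hPL : (P : Subgroup G) ≤ L := hL ▸ Subgroup.subset_normalClosure
  set PL := P.subtype hPL with hPLdef
  have hcPL : Nat.card PL = Nat.card P := by
    show Nat.card (PL : Subgroup L) = _
    rw [hPLdef, Sylow.coe_subtype]
    exact Nat.card_congr (Subgroup.subgroupOfEquivOfLe hPL).toEquiv
  by_contra hne
  have hcomap : commutator L = ⁅L, L⁆.subgroupOf L := by
    rw [← Subgroup.map_subtype_commutator L, Subgroup.subgroupOf,
      Subgroup.comap_map_eq_self_of_injective (Subgroup.subtype_injective _)]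
  set D := ⁅L, L⁆ with hD
  have hPD : ¬ (P : Subgroup G) ≤ D := fun h => hne (eq_top_of_le hL PL (K := commutator L) (by
    rw [hcomap, hPLdef, Sylow.coe_subtype]
    exact Subgroup.comap_mono h) hcPL)
  have hpD : ¬ p ∣ Nat.card D := by
    intro hd
    obtain ⟨⟨y, hy⟩, hyo⟩ := exists_prime_orderOf_dvd_card' p hd
    rw [Subgroup.orderOf_mk] at hyo
    obtain ⟨Q, hQ⟩ := (IsPGroup.of_card (n := 1) (G := Subgroup.zpowers y)
      (by rw [Nat.card_zpowers, hyo, pow_one])).exists_le_sylow
    have hQc : Nat.card (Q : Subgroup G) = p := by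
      exact (Q.card_eq_multiplicity.trans P.card_eq_multiplicity.symm).trans hPc
    have heq : Subgroup.zpowers y = (Q : Subgroup G) :=
      Subgroup.eq_of_le_of_card_ge hQ (by rw [hQc, Nat.card_zpowers, hyo])
    exact hPD (sylow_le_of_normal (P := Q) (heq ▸ Subgroup.zpowers_le.2 hy) P)
  have hPC := le_centralizer_of_normal hP hp7 hζ hfaith hdeg hpD
  have hLC : L ≤ Subgroup.centralizer (D : Set G) := hL ▸ Subgroup.normalClosure_le_normal hPC
  -- `P` is central in `L`
  have hcentral : ∀ l ∈ L, ∀ y ∈ (P : Subgroup G), l * y * l⁻¹ = y := by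
    intro l hl y hy
    set c := l * y * l⁻¹ * y⁻¹ with hc
    have hcD : c ∈ D := by
      rw [hD, hc, ← commutatorElement_def]
      exact Subgroup.commutator_mem_commutator hl (hPL hy)
    have hcomm : Commute c y := Subgroup.mem_centralizer_iff.1 (hLC (hPL hy)) c hcD
    have hyp : y ^ p = 1 := by
      rw [← hPc]; exact congrArg Subtype.val (pow_card_eq_one' (x := (⟨y, hy⟩ : (P : Subgroup G))))
    have h1 : c ^ p = 1 := by
      have h2 : c * y = l * y * l⁻¹ := by rw [hc, inv_mul_cancel_right]
      have h3 := congrArg (· ^ p) h2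
      simpa [hcomm.mul_pow, conj_pow, hyp] using h3
    have h4 : c = 1 := by
      refine orderOf_eq_one_iff.1 (Nat.eq_one_of_dvd_coprimes (hp.coprime_iff_not_dvd.2 hpD)
        (orderOf_dvd_of_pow_eq_one h1) ?_)
      exact (Subgroup.orderOf_mk (H := D) c hcD).symm ▸ orderOf_dvd_natCard _
    rwa [hc, mul_inv_eq_one] at h4
  -- every element of `L` normalizes `P`, and all Sylow subgroups coincide
  haveI hPLn : (PL : Subgroup L).Normal := by
    refine ⟨fun y hy l => ?_⟩
    rw [hPLdef, Sylow.coe_subtype, Subgroup.mem_subgroupOf] at hy ⊢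
    rw [Subgroup.coe_mul, Subgroup.coe_mul, Subgroup.coe_inv, hcentral l l.2 y hy]
    exact hy
  have htop := eq_top_of_le hL PL (K := (PL : Subgroup L)) le_rfl hcPL
  apply hnn
  have hLP : L ≤ (P : Subgroup G) := fun x hx => by
    have h : (⟨x, hx⟩ : L) ∈ (PL : Subgroup L) := htop ▸ Subgroup.mem_top _
    rw [hPLdef, Sylow.coe_subtype, Subgroup.mem_subgroupOf] at h
    exact h
  exact le_antisymm hLP hPL ▸ inferInstance

/-- The restriction to the normal closure is irreducible. -/
theorem isIrr_restrict : IsIrrCharacter L (fun x : L => ζ x) := by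
  letI := Fintype.ofFinite L
  have hp := (Fact.out : p.Prime)
  have hPc : Nat.card (P : Subgroup G) = p := hP
  haveI : L.Normal := hL ▸ Subgroup.normalClosure_normal
  have hPL : (P : Subgroup G) ≤ L := hL ▸ Subgroup.subset_normalClosure
  have hperf := perfect_normalClosure hP hp7 hζ hfaith hdeg hnn hL
  set PL := P.subtype hPL with hPLdef
  have hcPL : Nat.card PL = Nat.card P := by
    show Nat.card (PL : Subgroup L) = _
    rw [hPLdef, Sylow.coe_subtype]
    exact Nat.card_congr (Subgroup.subgroupOfEquivOfLe hPL).toEquiv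
  have hres : IsCharacter L (fun x : L => ζ x) :=
    CharBasic.isCharacter_comap L.subtype (isCharacter_of_isIrrCharacter hζ)
  obtain ⟨m, hm, hsum⟩ := exists_mult hres
  -- the trivial character does not occur
  have htriv : ∀ ψ : IrrCharacter L, (∀ x, (ψ : L → ℂ) x = 1) → m ψ = 0 := by
    intro ψ hψ
    have h := card_mul_classInner (fun x : L => ζ x) (ψ : L → ℂ)
    rw [hm] at h
    simp only [hψ, map_one, mul_one] at h
    obtain ⟨d, ρ, hρi, hρ⟩ := hζ
    haveI := hρi
    set T : Module.End ℂ (Fin d → ℂ) := ∑ x : L, ρ (x : G) with hT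
    obtain ⟨c, hc, htr⟩ := exists_scalar_of_commute ρ T fun g v => by
      simp only [hT, LinearMap.sum_apply, map_sum]
      refine Fintype.sum_equiv ((MulAut.conjNormal g⁻¹ : MulAut L)).toEquiv _ _ fun x => ?_
      simp only [MulEquiv.toEquiv_eq_coe, MulEquiv.coe_toEquiv, MulAut.conjNormal_apply, inv_inv,
        ← Module.End.mul_apply, ← map_mul]
      congr 2
      group
    have hc0 : c = 0 := by
      by_contra hc0
      obtain ⟨⟨y, hy⟩, hy1⟩ : ∃ y : (P : Subgroup G), y ≠ 1 := by
        haveI : Nontrivial ↥(P : Subgroup G) :=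
          Finite.one_lt_card_iff_nontrivial.1 (by rw [hPc]; exact hp.one_lt)
        exact exists_ne 1
      have h1 : ρ y * T = T := by
        rw [hT, Finset.mul_sum]
        exact Fintype.sum_equiv (Equiv.mulLeft (⟨y, hPL hy⟩ : L)) _ _ fun x => by simp [map_mul]
      rw [hc, ← Module.End.one_eq_id, mul_smul_comm, mul_one] at h1
      refine hy1 (Subtype.ext (hfaith y ?_))
      rw [← hρ, Representation.character, Representation.character,
        smul_right_injective _ hc0 h1, map_one ρ]
    have htr' : LinearMap.trace ℂ _ T = ∑ x : L, ζ x := by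
      rw [hT, map_sum]
      exact Finset.sum_congr rfl fun x _ => by rw [← hρ]; rfl
    rw [hc0, mul_zero, htr', ← h, mul_eq_zero] at htr
    exact_mod_cast htr.resolve_left (Nat.cast_ne_zero.2 Nat.card_pos.ne')
  -- every constituent has degree at least `(p - 1) / 2`
  have hbig : ∀ ψ : IrrCharacter L, m ψ ≠ 0 → p ≤ 2 * charDegree (ψ : L → ℂ) + 1 := by
    intro ψ hψm
    obtain ⟨d, σ, hσi, hσ⟩ := ψ.2
    set K := charKer (ψ : L → ℂ) (isCharacter_of_isIrrCharacter ψ.2) with hK
    haveI : K.Normal := charKer_normal _ _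
    have hnPK : ¬ (PL : Subgroup L) ≤ K := by
      intro h
      apply hψm
      refine htriv ψ fun x => ?_
      have hx : x ∈ K := (eq_top_of_le hL PL h hcPL) ▸ Subgroup.mem_top x
      have hall : ∀ y : L, (ψ : L → ℂ) y = (ψ : L → ℂ) 1 := fun y =>
        ((eq_top_of_le hL PL h hcPL) ▸ Subgroup.mem_top y : y ∈ K)
      -- a character with trivial kernel quotient is linear
      obtain ⟨q, hq, hq1⟩ := isIrrCharacter_apply_one ψ.2
      have hin := card_mul_classInner (ψ : L → ℂ) (ψ : L → ℂ)
      rw [classInner_irr_self ψ.2, mul_one,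
        Finset.sum_congr rfl fun y _ => by rw [hall y, hq1, map_natCast],
        Finset.sum_const, Finset.card_univ, ← Nat.card_eq_fintype_card, nsmul_eq_mul] at hin
      have hqq : q * q = 1 := by
        have : Nat.card L * 1 = Nat.card L * (q * q) := by
          rw [mul_one]; exact_mod_cast hin
        exact (Nat.eq_of_mul_eq_mul_left Nat.card_pos this).symm
      rw [hall x, hq1, Nat.eq_one_of_mul_eq_one_right hqq, Nat.cast_one]
    have hker : ∀ x ∈ K, σ x = 1 := fun x hx => by
      refine (mem_charKer_rep σ (g := x)).1 ?_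
      show σ.character x = σ.character 1
      rw [hσ]
      exact hx
    let Q := L ⧸ K
    let σ' : Q →* Module.End ℂ (Fin d → ℂ) := QuotientGroup.lift K σ fun x hx => hker x hx
    let π : L →* Q := QuotientGroup.mk' K
    have hsurj : Function.Surjective π := QuotientGroup.mk'_surjective K
    let P' : Sylow p Q := PL.mapSurjective hsurj
    have hP' : Nat.card P' = p := by
      have hdvd : Nat.card ((PL : Subgroup L).map π) ∣ p := by
        have h := Subgroup.card_map_dvd (f := π) (H := (PL : Subgroup L))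
        rwa [show Nat.card (PL : Subgroup L) = p from hcPL.trans hP] at h
      rcases (Nat.dvd_prime hp).1 hdvd with h | h
      · exfalso
        apply hnPK
        rw [Subgroup.card_eq_one, Subgroup.map_eq_bot_iff, QuotientGroup.ker_mk'] at h
        exact h
      · exact h
    have hperfQ : commutator Q = ⊤ := by
      rw [commutator_def, ← Subgroup.map_top_of_surjective π hsurj, ← Subgroup.map_commutator,
        ← commutator_def, hperf, Subgroup.map_top_of_surjective π hsurj]
    have hdvdQ : p ∣ Nat.card Q := hP' ▸ Subgroup.card_subgroup_dvd_card _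
    have hsq : ¬ p ^ 2 ∣ Nat.card Q := by
      intro h
      apply P'.not_dvd_index
      have h2 := (P' : Subgroup Q).card_mul_index
      rw [show Nat.card (P' : Subgroup Q) = p from hP'] at h2
      rw [← h2, pow_two] at h
      exact Nat.dvd_of_mul_dvd_mul_left hp.pos h
    have hnormal : ∀ H : Subgroup Q, H.Normal → Nat.card H ≠ p := by
      intro H hH hHc
      haveI := hH
      obtain ⟨R, hR⟩ := (IsPGroup.of_card (p := p) (n := 1) (G := H) (by rw [hHc, pow_one])).exists_le_sylow
      have hRc : Nat.card (R : Subgroup Q) = p := (R.card_eq_multiplicity.trans P'.card_eq_multiplicity.symm).trans hP'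
      have hHR : H = (R : Subgroup Q) := Subgroup.eq_of_le_of_card_ge hR (by rw [hRc, hHc])
      have h2 := BrauerReynolds7.two_le_relIndex hperfQ R hRc rfl
      have hle : (⊤ : Subgroup Q) ≤ Subgroup.centralizer ((R : Subgroup Q) : Set Q) := by
        haveI : IsCyclic H := isCyclic_of_prime_card (p := p) hHc
        haveI : IsCyclic (MulAut H) := by
          haveI : IsCyclic (ZMod (Nat.card H))ˣ := by rw [hHc]; infer_instance
          exact isCyclic_of_surjective (IsCyclic.mulAutMulEquiv H).symm
            (IsCyclic.mulAutMulEquiv H).symm.surjective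
        letI : CommGroup (MulAut H) := IsCyclic.commGroup
        intro g _
        rw [← hHR, Subgroup.mem_centralizer_iff]
        intro y hy
        have h1 := BrauerReynolds7.perfect_hom_eq_one hperfQ
          (MulAut.conjNormal (H := H) : Q →* MulAut H) g
        have h3 := congrArg Subtype.val (DFunLike.congr_fun h1 (⟨y, hy⟩ : H))
        rw [MulAut.conjNormal_apply, MulAut.one_apply, mul_inv_eq_iff_eq_mul] at h3
        exact h3.symm
      rw [Subgroup.relIndex_eq_one.2 (le_top.trans hle)] at h2
      omega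
    have hdeg' : charDegree (Representation.character (G := Q) σ') = charDegree (ψ : L → ℂ) := by
      rw [← hσ]
      simp [charDegree, Representation.char_one]
    rw [← hdeg']
    refine S4503.result p hp hdvdQ hsq hnormal _ ⟨d, σ', rfl⟩ fun g hg => ?_
    obtain ⟨x, rfl⟩ := hsurj g
    refine (QuotientGroup.eq_one_iff x).2 ?_
    show (ψ : L → ℂ) x = (ψ : L → ℂ) 1
    rw [← hσ]
    exact hg
  -- hence one constituent
  have hdsum : ∑ ψ : IrrCharacter L, m ψ * charDegree (ψ : L → ℂ) = p - 2 := by
    have h := congrFun hsum 1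
    simp only [Finset.sum_apply, Pi.smul_apply, smul_eq_mul,
      ClassAlgebraVal.apply_one_eq_charDegree, OneMemClass.coe_one] at h
    have hz : ζ 1 = ((p - 2 : ℕ) : ℂ) := by
      rw [← hdeg]; exact ClassAlgebraVal.apply_one_eq_charDegree ⟨ζ, hζ⟩
    rw [hz] at h
    exact_mod_cast h.symm
  have hle1 : ∑ ψ : IrrCharacter L, m ψ ≤ 1 := by
    by_contra hc
    have h1 : (∑ ψ : IrrCharacter L, m ψ) * (p - 1) ≤
        2 * ∑ ψ : IrrCharacter L, m ψ * charDegree (ψ : L → ℂ) := by
      rw [Finset.sum_mul, Finset.mul_sum]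
      refine Finset.sum_le_sum fun ψ _ => ?_
      rcases Nat.eq_zero_or_pos (m ψ) with h | h
      · simp [h]
      · rw [mul_left_comm]
        exact Nat.mul_le_mul_left _ (by have := hbig ψ h.ne'; omega)
    have h2 : 2 * (p - 1) ≤ (∑ ψ : IrrCharacter L, m ψ) * (p - 1) :=
      Nat.mul_le_mul_right _ (by omega)
    rw [hdsum] at h1
    omega
  obtain ⟨ψ, -, hψ⟩ := Finset.exists_ne_zero_of_sum_ne_zero
    (show ∑ ψ : IrrCharacter L, m ψ * charDegree (ψ : L → ℂ) ≠ 0 by rw [hdsum]; omega)
  have hψm : 1 ≤ m ψ := Nat.pos_of_ne_zero (left_ne_zero_of_mul hψ)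
  have hsplit := Finset.add_sum_erase (Finset.univ : Finset (IrrCharacter L)) m (Finset.mem_univ ψ)
  have hother : ∀ φ, φ ≠ ψ → m φ = 0 := by
    intro φ hφ
    have := Finset.single_le_sum (f := m) (fun _ _ => Nat.zero_le _)
      (Finset.mem_erase.2 ⟨hφ, Finset.mem_univ φ⟩)
    omega
  rw [hsum, Finset.sum_eq_single ψ (fun φ _ hne => by rw [hother φ hne, Nat.cast_zero, zero_smul])
    (fun h => absurd (Finset.mem_univ ψ) h), show m ψ = 1 by omega, Nat.cast_one, one_smul]
  exact ψ.2

/-- The centralizer of the normal closure is the centre. -/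
theorem centralizer_le_center : Subgroup.centralizer (L : Set G) ≤ Subgroup.center G := by
  have hirr := isIrr_restrict hP hp7 hζ hfaith hdeg hnn hL
  intro g hg
  obtain ⟨d, ρ, hρi, hρ⟩ := hζ
  set σ : Representation ℂ L (Fin d → ℂ) := MonoidHom.comp ρ L.subtype with hσ
  haveI : σ.IsIrreducible := isIrreducible_of_isIrrCharacter σ (by
    have h : σ.character = fun x : L => ζ x := by rw [← hρ]; rfl
    rw [h]; exact hirr)
  obtain ⟨c, hc, -⟩ := exists_scalar_of_commute σ (ρ g) fun x v => by
    show ρ g (ρ (x : G) v) = ρ (x : G) (ρ g v)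
    rw [← Module.End.mul_apply, ← map_mul, ← Subgroup.mem_centralizer_iff.1 hg x x.2, map_mul,
      Module.End.mul_apply]
  rw [Subgroup.mem_center_iff]
  intro h
  have hcomm : ρ ((h * g) * (g * h)⁻¹) = 1 := by
    have h1 : ρ (h * g) = ρ (g * h) := by
      rw [map_mul, map_mul, hc]
      exact LinearMap.ext fun v => by simp
    rw [map_mul, h1, ← map_mul, mul_inv_cancel, map_one]
  exact mul_inv_eq_one.1 (hfaith _ (by
    rw [← hρ, Representation.character, Representation.character, hcomm, map_one ρ]))

end Cfsg.Agent.SmallDegree63
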