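import Cfsg.Agent.Lib.SmallDegreeChain86

/-!
The three dimensional invariant subspace of the adjoint module of a small irreducible module of a
group with a Sylow subgroup of prime order.
-/

set_option autoImplicit false

namespace Cfsg.Agent.SmallDegree86

open Cfsg.Agent.BlockPrime86

attribute [local instance] Classical.propDecidable

variable {k : Type*} [Field k] {W : Type*} [AddCommGroup W] [Module k W]

/-- Conjugation action of a representation on endomorphisms. -/
noncomputable def adRep {G : Type*} [Group G] (R : G →* Module.End k W) :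
    G →* Module.End k (Module.End k W) where
  toFun g := LinearMap.mulLeft k (R g) * LinearMap.mulRight k (R g⁻¹)
  map_one' := LinearMap.ext fun Φ => by simp
  map_mul' a b := LinearMap.ext fun Φ => by simp [mul_inv_rev, map_mul, mul_assoc]

theorem adRep_apply {G : Type*} [Group G] (R : G →* Module.End k W) (g : G) (φ : Module.End k W) :
    adRep R g φ = R g * φ * R g⁻¹ :=
  (mul_assoc _ _ _).symm

/-- The trace form. -/
noncomputable def tform (φ ψ : Module.End k W) : k := LinearMap.trace k W (φ * ψ)

theorem tform_comm (φ ψ : Module.End k W) : tform φ ψ = tform ψ φ := LinearMap.trace_mul_comm k φ ψ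

theorem tform_add (φ φ' ψ : Module.End k W) : tform (φ + φ') ψ = tform φ ψ + tform φ' ψ := by
  simp [tform, add_mul]

theorem tform_sub (φ φ' ψ : Module.End k W) : tform (φ - φ') ψ = tform φ ψ - tform φ' ψ := by
  simp [tform, sub_mul]

theorem tform_smul (c : k) (φ ψ : Module.End k W) : tform (c • φ) ψ = c * tform φ ψ := by
  simp [tform, smul_mul_assoc]

theorem tform_add' (φ ψ ψ' : Module.End k W) : tform φ (ψ + ψ') = tform φ ψ + tform φ ψ' := by
  simp [tform, mul_add]

theorem tform_sub' (φ ψ ψ' : Module.End k W) : tform φ (ψ - ψ') = tform φ ψ - tform φ ψ' := by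
  simp [tform, mul_sub]

theorem tform_smul' (c : k) (φ ψ : Module.End k W) : tform φ (c • ψ) = c * tform φ ψ := by
  simp [tform, mul_smul_comm]

theorem tform_ad {G : Type*} [Group G] (R : G →* Module.End k W) (g : G) (φ ψ : Module.End k W) :
    tform (adRep R g φ) ψ = tform φ (adRep R g⁻¹ ψ) := by
  simp only [tform, adRep_apply, inv_inv]
  rw [mul_assoc (R g * φ), mul_assoc (R g), LinearMap.trace_mul_comm k (R g)]
  simp only [mul_assoc]

theorem tform_ad_ad {G : Type*} [Group G] (R : G →* Module.End k W) (g : G) (φ ψ : Module.End k W) :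
    tform (adRep R g φ) (adRep R g ψ) = tform φ ψ := by
  rw [tform_ad, ← Module.End.mul_apply, ← map_mul, inv_mul_cancel, map_one, Module.End.one_apply]

/-- The commutator operator. -/
noncomputable def adOp (E : Module.End k W) : Module.End k (Module.End k W) :=
  LinearMap.mulLeft k E - LinearMap.mulRight k E

theorem adOp_apply (E φ : Module.End k W) : adOp E φ = E * φ - φ * E := rfl

theorem tform_adOp (E φ ψ : Module.End k W) : tform (adOp E φ) ψ = -tform φ (adOp E ψ) := by
  simp only [tform, adOp_apply, mul_sub, sub_mul, map_sub, neg_sub, ← mul_assoc]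
  rw [LinearMap.trace_mul_cycle k E φ ψ, LinearMap.trace_mul_cycle k φ ψ E]
  rw [LinearMap.trace_mul_cycle k E φ ψ]

/-- The Gram relations of a string of length three under the commutator operator. -/
theorem gram {E F H : Module.End k W} (h2 : (2 : k) ≠ 0) (hH : adOp E F = H)
    (hE : adOp E H = (-2 : k) • E) :
    tform E E = 0 ∧ tform E H = 0 ∧ tform H F = 0 ∧ tform H H = 2 * tform E F := by
  have hXE : adOp E E = 0 := by simp [adOp_apply]
  refine ⟨?_, ?_, ?_, ?_⟩
  · have h := tform_adOp E H E
    rw [hE, hXE, tform_smul] at h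
    simpa [tform, h2] using h
  · have h := tform_adOp E F E
    rw [hH, hXE, tform_comm H] at h
    simpa [tform] using h
  · have h := tform_adOp E F F
    rw [hH, tform_comm F H] at h
    have h' : (2 : k) * tform H F = 0 := by linear_combination h
    exact (mul_eq_zero.1 h').resolve_left h2
  · have h := tform_adOp E F H
    rw [hH, hE, tform_smul', tform_comm F E] at h
    linear_combination h

variable [FiniteDimensional k W]

/-- The trace of an operator that shifts a basis. -/
theorem trace_shift {a : ℕ} (b : Module.Basis (Fin a) k W) (φ : Module.End k W) (c : Fin a → k)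
    (σ : Fin a → Fin a) (h : ∀ i, φ (b i) = c i • b (σ i)) :
    LinearMap.trace k W φ = ∑ i, if σ i = i then c i else 0 := by
  rw [LinearMap.trace_eq_matrix_trace k b, Matrix.trace]
  refine Finset.sum_congr rfl fun i _ => ?_
  rw [Matrix.diag_apply, LinearMap.toMatrix_apply, h, map_smul, Module.Basis.repr_self,
    Finsupp.smul_apply, Finsupp.single_apply, smul_eq_mul, mul_ite, mul_one, mul_zero]

theorem sum_weights (a : ℕ) :
    6 * ∑ i ∈ Finset.range a, i * (a - i) = (a - 1) * a * (a + 1) := by
  have h : ∀ a : ℕ, 2 * ∑ i ∈ Finset.range a, i = (a - 1) * a := fun a => by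
    rw [mul_comm 2, Finset.sum_range_id_mul_two, mul_comm]
  induction a with
  | zero => simp
  | succ a ih =>
    have e : ∑ i ∈ Finset.range (a + 1), i * (a + 1 - i) =
        ∑ i ∈ Finset.range a, i * (a - i) + ∑ i ∈ Finset.range a, i + a := by
      rw [Finset.sum_range_succ, Nat.add_sub_cancel_left, mul_one, ← Finset.sum_add_distrib]
      congr 1
      refine Finset.sum_congr rfl fun i hi => ?_
      rw [show a + 1 - i = (a - i) + 1 by have := Finset.mem_range.1 hi; omega, mul_add, mul_one]
    rw [e, mul_add, mul_add, ih]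
    rcases a with _ | b
    · simp
    · have := h (b + 1)
      simp only [Nat.add_sub_cancel] at this ⊢
      nlinarith

/-- The standard symmetric form of a three dimensional orthogonal space. -/
def formMat : Matrix (Fin 3) (Fin 3) k := !![0, 0, 1; 0, 2, 0; 1, 0, 0]

variable (p : ℕ) [hp : Fact p.Prime] [CharP k p]

omit [FiniteDimensional k W] in
theorem adRep_eq_expP {G : Type*} [Group G] (R : G →* Module.End k W) {x : G} {E : Module.End k W}
    {a : ℕ} (hE : E ^ a = 0) (ha : a + a ≤ p + 1) (hexp : expP (k := k) p E = R x) :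
    adRep R x = expP (k := k) p (adOp E) := by
  have hinv : R x⁻¹ = expP (k := k) p (-E) := by
    have h := expP_neg_mul (k := k) p hE ha
    rw [hexp] at h
    have h2 : R x * R x⁻¹ = 1 := by rw [← map_mul, mul_inv_cancel, map_one]
    calc R x⁻¹ = expP (k := k) p (-E) * R x * R x⁻¹ := by rw [h, one_mul]
      _ = _ := by rw [mul_assoc, h2, mul_one]
  have hneg : -LinearMap.mulRight k E = LinearMap.mulRight k (-E) :=
    LinearMap.ext fun φ => (mul_neg φ E).symm
  rw [adOp, sub_eq_add_neg, hneg, expP_add (k := k) p (LinearMap.commute_mulLeft_right E (-E))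
    (a := a) (b := a) (by rw [LinearMap.pow_mulLeft, hE, LinearMap.mulLeft_zero_eq_zero])
    (by rw [LinearMap.pow_mulRight, neg_pow, hE, mul_zero, LinearMap.mulRight_zero_eq_zero]) ha]
  refine LinearMap.ext fun φ => ?_
  rw [adRep_apply, Module.End.mul_apply, expP_eq p (LinearMap.mulLeft k E),
    expP_eq p (LinearMap.mulRight k (-E)), hinv, ← hexp, expP_eq p E, expP_eq p (-E)]
  simp only [LinearMap.sum_apply, LinearMap.smul_apply, LinearMap.pow_mulLeft, LinearMap.pow_mulRight,
    LinearMap.mulLeft_apply, LinearMap.mulRight_apply, Finset.sum_mul, Finset.mul_sum, smul_mul_assoc,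
    mul_smul_comm, Finset.smul_sum, smul_smul]
  rw [Finset.sum_comm]
  refine Finset.sum_congr rfl fun i _ => Finset.sum_congr rfl fun j _ => ?_
  rw [mul_assoc, mul_comm]

variable {G : Type*} [Group G] [Finite G] {P : Sylow p G} {x t : G}

set_option maxHeartbeats 1600000 in
/-- The orthogonal representation of degree three. -/
theorem exists_orth [IsAlgClosed k] (R : G →* Module.End k W) (hirr : Irred R)
    (hdim : 2 * Module.finrank k W + 1 ≤ p)
    (hP : (P : Subgroup G) = Subgroup.zpowers x) (hx : orderOf x = p) (hRx : R x ≠ 1)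
    {r m : ℕ} (htx : t * x * t⁻¹ = x ^ r) (hm : R t ^ m = 1) (hmk : (m : k) ≠ 0)
    (hN : ∀ g ∈ Subgroup.normalizer ((P : Subgroup G) : Set G),
      ∃ (i j : ℕ) (c : k), R g = c • (R x ^ i * R t ^ j)) :
    ∃ Φ : G →* Matrix (Fin 3) (Fin 3) k, (∀ g, (Φ g).transpose * formMat * Φ g = formMat) ∧
      Φ x ≠ 1 ∧ (∀ i, Φ x i 0 = if i = 0 then 1 else 0) ∧
      ∀ g, (∀ i, Φ g i 0 = if i = 0 then 1 else 0) → Commute (R g) (R x) := by
  haveI := hirr.1
  obtain ⟨E, v, μ, a, han, ha2, hEa, hvU, hexp, hTE, hTv⟩ :=
    exists_graded p R hirr hdim hP hx hRx htx hm hmk hN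
  have ha : 2 * a + 1 ≤ p := han ▸ hdim
  have hsmall : ∀ n : ℕ, n ≠ 0 → n < p → (n : k) ≠ 0 := fun n h0 hn => by
    rw [Ne, CharP.cast_eq_zero_iff k p]
    exact fun hd => h0 (Nat.eq_zero_of_dvd_of_lt hd hn)
  have h2 : (2 : k) ≠ 0 := by exact_mod_cast hsmall 2 two_ne_zero (by omega)
  have hzero : ∀ i, a ≤ i → (E ^ i) v = 0 := fun i hi => by
    rw [pow_eq_zero_of_le hi hEa, LinearMap.zero_apply]
  set T := R t with hT
  have hTu : IsUnit T := (Group.isUnit t).map R
  have hμ : μ ≠ 0 := fun h => by
    rw [h, zero_smul] at hTv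
    obtain ⟨u, hu⟩ := hTu
    have := congrArg (fun f : Module.End k W => f v) (Units.inv_mul u)
    rw [Module.End.mul_apply, hu, hTv, map_zero, Module.End.one_apply] at this
    exact hvU (by rw [← this, map_zero])
  have hr : (r : k) ≠ 0 := fun h => by
    rw [h, zero_smul, zero_mul] at hTE
    obtain ⟨u, hu⟩ := hTu
    rw [← hu] at hTE
    refine hvU ?_
    rw [(Units.mul_right_eq_zero u).1 hTE, zero_pow (by omega), LinearMap.zero_apply]
  have hTw : ∀ i, T ((E ^ i) v) = ((r : k) ^ i * μ) • (E ^ i) v := by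
    intro i
    induction i with
    | zero => simp [hTv]
    | succ i ih =>
      rw [pow_succ' E, Module.End.mul_apply, ← Module.End.mul_apply T, hTE, smul_mul_assoc,
        LinearMap.smul_apply, Module.End.mul_apply, ih, map_smul, smul_smul, ← mul_assoc, ← pow_succ']
  have hli : LinearIndependent k fun i : Fin a => (E ^ (i : ℕ)) v := by
    rw [Fintype.linearIndependent_iff]
    intro c hc
    by_contra! hne
    obtain ⟨i0, hi0, hmin⟩ := (Finset.univ.filter fun i => c i ≠ 0).exists_min_image id
      (hne.imp fun i hi => by simpa using hi)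
    have hi0' : c i0 ≠ 0 := by simpa using hi0
    have h := congrArg (E ^ (a - 1 - (i0 : ℕ))) hc
    rw [map_sum, map_zero, Finset.sum_eq_single i0, map_smul, ← Module.End.mul_apply, ← pow_add,
      show a - 1 - (i0 : ℕ) + i0 = a - 1 by omega] at h
    · exact hi0' ((smul_eq_zero.1 h).resolve_right hvU)
    · intro j _ hj
      by_cases hcj : c j = 0
      · rw [hcj, zero_smul, map_zero]
      · have hlt : (i0 : ℕ) < j := lt_of_le_of_ne (hmin j (by simpa using hcj))
          fun e => hj (Fin.ext e.symm)
        rw [map_smul, ← Module.End.mul_apply, ← pow_add, hzero _ (by omega), smul_zero]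
    · simp
  haveI : Nonempty (Fin a) := ⟨⟨0, by omega⟩⟩
  set bw := basisOfLinearIndependentOfCardEqFinrank hli (by rw [Fintype.card_fin, han]) with hbw
  have hbi : ∀ i, bw i = (E ^ (i : ℕ)) v := fun i => by simp [hbw]
  set pr : Fin a → Fin a := fun i => ⟨(i : ℕ) - 1, by omega⟩ with hpr
  set F : Module.End k W := bw.constr k fun i => (((i : ℕ) : k) * ((a - (i : ℕ) : ℕ) : k)) • bw (pr i) with hF
  have hFw : ∀ i, i < a → F ((E ^ i) v) = ((i : k) * ((a - i : ℕ) : k)) • (E ^ (i - 1)) v := by
    intro i hi
    have h := bw.constr_basis k (fun i => (((i : ℕ) : k) * ((a - (i : ℕ) : ℕ) : k)) • bw (pr i)) ⟨i, hi⟩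
    rw [← hF, hbi, hbi] at h
    exact h
  have hFw' : ∀ i, F ((E ^ i) v) = if i < a then ((i : k) * ((a - i : ℕ) : k)) • (E ^ (i - 1)) v else 0 := by
    intro i
    split_ifs with hi
    · exact hFw i hi
    · rw [hzero i (not_lt.1 hi), map_zero]
  set X := adOp E with hX
  set H := X F with hH
  have hHw : ∀ i, i < a → H ((E ^ i) v) = (2 * (i : k) + 1 - (a : k)) • (E ^ i) v := by
    intro i hi
    rw [hH, hX, adOp_apply, LinearMap.sub_apply, Module.End.mul_apply, Module.End.mul_apply, hFw i hi,
      map_smul, ← Module.End.mul_apply E, ← pow_succ', ← Module.End.mul_apply E, ← pow_succ', hFw' (i + 1)]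
    rcases Nat.eq_zero_or_pos i with rfl | hpos
    · rw [if_pos (by omega)]
      simp [Nat.cast_sub (show 1 ≤ a by omega), ← neg_smul]
    · rw [Nat.sub_add_cancel hpos, Nat.add_sub_cancel]
      split_ifs with h
      · rw [← sub_smul, Nat.cast_sub hi.le, Nat.cast_sub h.le]
        push_cast
        congr 1
        ring
      · have : i + 1 = a := by omega
        rw [sub_zero, ← this, show i + 1 - i = 1 by omega]
        congr 1
        push_cast
        ring
  have hXH : X H = (-2 : k) • E := by
    refine bw.ext fun i => ?_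
    rw [hbi, hX, adOp_apply, LinearMap.sub_apply, Module.End.mul_apply, Module.End.mul_apply, hHw _ i.2,
      map_smul, LinearMap.smul_apply, ← Module.End.mul_apply E, ← pow_succ']
    rcases Nat.lt_or_ge ((i : ℕ) + 1) a with h | h
    · rw [hHw _ h, ← sub_smul]
      congr 1
      push_cast
      ring
    · rw [hzero _ h, map_zero, smul_zero, smul_zero, sub_zero]
  obtain ⟨gEE, gEH, gHF, gHH⟩ := gram h2 hH.symm hXH
  set κ := tform E F with hκ
  have hFF : tform F F = 0 := by
    rw [tform, trace_shift bw _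
      (fun i => ((i : ℕ) : k) * ((a - (i : ℕ) : ℕ) : k) *
        ((((i : ℕ) - 1 : ℕ) : k) * ((a - ((i : ℕ) - 1) : ℕ) : k))) (fun i => pr (pr i)) fun i => ?_]
    · refine Finset.sum_eq_zero fun i _ => ?_
      split_ifs with h
      · have := congrArg Fin.val h
        simp only [hpr] at this
        rw [show (i : ℕ) = 0 by omega]
        simp
      · rfl
    · rw [Module.End.mul_apply, hbi, hFw _ i.2, map_smul, hFw _ (by omega), smul_smul, hbi]
  have hκ0 : κ ≠ 0 := by
    have e : κ = ((∑ i ∈ Finset.range a, i * (a - i) : ℕ) : k) := by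
      rw [hκ, tform, trace_shift bw _ (fun i => ((i : ℕ) : k) * ((a - (i : ℕ) : ℕ) : k)) id fun i => ?_]
      · simp only [id, if_true]
        rw [Fin.sum_univ_eq_sum_range (fun i => (i : k) * ((a - i : ℕ) : k)) a]
        push_cast
        rfl
      · rw [Module.End.mul_apply, hbi, hFw _ i.2, map_smul, ← Module.End.mul_apply, ← pow_succ']
        rcases Nat.eq_zero_or_pos (i : ℕ) with h | h
        · simp [h, hbi]
        · rw [Nat.sub_add_cancel h, id, hbi]
    rw [e]
    intro h0
    have h6 : ((6 * ∑ i ∈ Finset.range a, i * (a - i) : ℕ) : k) = 0 := by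
      rw [Nat.cast_mul, h0, mul_zero]
    rw [sum_weights, Nat.cast_mul, Nat.cast_mul] at h6
    rcases mul_eq_zero.1 h6 with h | h
    · rcases mul_eq_zero.1 h with h | h
      · exact hsmall _ (by omega) (by omega) h
      · exact hsmall _ (by omega) (by omega) h
    · exact hsmall _ (by omega) (by omega) h
  set Ad := adRep R with hAd
  have hAx : Ad x = expP (k := k) p X := adRep_eq_expP p R hEa (by omega) hexp
  have hXn : X ^ (p - 1) = 0 := by
    rw [hX, adOp, sub_eq_add_neg]
    refine ((show Commute (LinearMap.mulLeft k E) (LinearMap.mulRight k E) from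
      LinearMap.commute_mulLeft_right E E).neg_right).add_pow_eq_zero_of_add_le_succ_of_pow_eq_zero
      (m := a) (n := a) ?_ ?_ (by omega)
    · rw [LinearMap.pow_mulLeft, hEa, LinearMap.mulLeft_zero_eq_zero]
    · rw [neg_pow, LinearMap.pow_mulRight, hEa, LinearMap.mulRight_zero_eq_zero, mul_zero]
  have hΔ : (Ad x - 1) ^ (p - 1) = 0 := by
    obtain ⟨q, hq⟩ : Polynomial.X ∣ (expPoly (k := k) p - 1) :=
      Polynomial.X_dvd_iff.2 (by simp [expPoly_coeff, hp.out.pos])
    have e : Ad x - 1 = Polynomial.aeval X (expPoly (k := k) p - 1) := by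
      rw [hAx, expP, map_sub, map_one]
    rw [e, hq, ← map_pow, mul_pow, map_mul, map_pow, Polynomial.aeval_X, hXn, zero_mul]
  have hlog : X = logP (k := k) p (Ad x - 1) := by
    rw [hAx, logP_expP p hXn (by omega)]
  -- the projection onto the string
  set π : Module.End k (Module.End k W) :=
    { toFun := fun φ => (κ⁻¹ * tform φ F) • E + (κ⁻¹ * tform φ E) • F + ((2 * κ)⁻¹ * tform φ H) • H
      map_add' := fun φ ψ => by simp only [tform_add, mul_add, add_smul]; abel
      map_smul' := fun c φ => by
        simp only [tform_smul, RingHom.id_apply, smul_add, smul_smul, mul_left_comm c] } with hπ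
  have hπapp : ∀ φ, π φ = (κ⁻¹ * tform φ F) • E + (κ⁻¹ * tform φ E) • F + ((2 * κ)⁻¹ * tform φ H) • H :=
    fun φ => rfl
  have gFE : tform F E = κ := tform_comm _ _
  have gHE : tform H E = 0 := (tform_comm _ _).trans gEH
  have gFH : tform F H = 0 := (tform_comm _ _).trans gHF
  have h2κ : 2 * κ ≠ 0 := mul_ne_zero h2 hκ0
  have hπE : π E = E := by simp [hπapp, gEE, gEH, ← hκ, inv_mul_cancel₀ hκ0]
  have hπF : π F = F := by simp [hπapp, hFF, gFE, gFH, inv_mul_cancel₀ hκ0]
  have hπH : π H = H := by
    rw [hπapp, gHF, gHE, gHH, inv_mul_cancel₀ h2κ]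
    simp
  have hπidem : π * π = π := LinearMap.ext fun φ => by
    conv_lhs => rw [Module.End.mul_apply, hπapp φ]
    rw [map_add, map_add, map_smul, map_smul, map_smul, hπE, hπF, hπH, ← hπapp φ]
  have horth : ∀ φ ψ, tform (π φ) ψ = tform φ (π ψ) := fun φ ψ => by
    simp only [hπapp, tform_add, tform_smul, tform_add', tform_smul']
    rw [tform_comm E ψ, tform_comm F ψ, tform_comm H ψ]
    ring
  have hcomm : ∀ g, (∀ φ, π φ = φ → π (Ad g φ) = Ad g φ) → Commute π (Ad g) := by
    intro g hg
    have hpow : ∀ (l : ℕ) φ, π φ = φ → π (Ad (g ^ l) φ) = Ad (g ^ l) φ := by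
      intro l
      induction l with
      | zero => intro φ h; rw [pow_zero, map_one, Module.End.one_apply, h]
      | succ l ih => intro φ h; rw [pow_succ', map_mul, Module.End.mul_apply]; exact hg _ (ih φ h)
    have hinv : ∀ φ, π φ = φ → π (Ad g⁻¹ φ) = Ad g⁻¹ φ := by
      have e : g⁻¹ = g ^ (orderOf g - 1) := by
        refine inv_eq_of_mul_eq_one_right ?_
        rw [← pow_succ', Nat.sub_add_cancel (orderOf_pos g), pow_orderOf_eq_one]
      rw [e]
      exact hpow _
    refine LinearMap.ext fun φ => ?_
    rw [Module.End.mul_apply, Module.End.mul_apply]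
    have hππ : ∀ φ, π (π φ) = π φ := fun φ => by rw [← Module.End.mul_apply, hπidem]
    have key : ∀ u, π u = u → tform (π (Ad g φ)) u = tform (Ad g (π φ)) u := by
      intro u hu
      rw [horth, hu, hAd, tform_ad, tform_ad, horth, ← hAd, hinv u hu]
    have hd : π (π (Ad g φ) - Ad g (π φ)) = π (Ad g φ) - Ad g (π φ) := by
      rw [map_sub, hππ, hg _ (hππ φ)]
    have h0 : π (π (Ad g φ) - Ad g (π φ)) = 0 := by
      rw [hπapp, tform_sub, tform_sub, tform_sub, key F hπF, key E hπE, key H hπH]
      simp
    exact sub_eq_zero.1 (hd ▸ h0)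
  have hspan : ∀ g, π (Ad g E) = Ad g E → π (Ad g F) = Ad g F → π (Ad g H) = Ad g H →
      Commute π (Ad g) := fun g hE hF hH => hcomm g fun φ hφ => by
    rw [← hφ, hπapp φ]
    simp only [map_add, map_smul, hE, hF, hH]
  have hXE : X E = 0 := by rw [hX, adOp_apply, sub_self]
  have hxE : Ad x E = E := by rw [hAx]; exact expP_apply_of_ker p hXE
  have hexp3 : ∀ φ, X (X (X φ)) = 0 →
      expP (k := k) p X φ = φ + X φ + ((2 : k))⁻¹ • X (X φ) := by
    intro φ hφ
    rw [expP_eq, LinearMap.sum_apply,
      ← Finset.sum_range_add_sum_Ico _ (show 3 ≤ p by omega), Finset.sum_eq_zero (s := Finset.Ico 3 p)]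
    · simp [Finset.sum_range_succ, pow_succ]
    · intro j hj
      obtain ⟨l, rfl⟩ := Nat.exists_eq_add_of_le (Finset.mem_Ico.1 hj).1
      rw [LinearMap.smul_apply, add_comm, pow_add, Module.End.mul_apply,
        show (X ^ 3) φ = X (X (X φ)) by simp [pow_succ], hφ, map_zero, smul_zero]
  have hxF : Ad x F = F + H - E := by
    rw [hAx, hexp3 F (by rw [← hH, hXH, map_smul, hXE, smul_zero]), ← hH, hXH, smul_smul,
      mul_neg, inv_mul_cancel₀ h2, neg_one_smul, sub_eq_add_neg]
  have hxH : Ad x H = H + (-2 : k) • E := by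
    rw [hAx, hexp3 H (by rw [hXH, map_smul, hXE, smul_zero, map_zero]), hXH, map_smul, hXE, smul_zero,
      smul_zero, add_zero]
  have hπx : Commute π (Ad x) := hspan x (by rw [hxE, hπE])
    (by rw [hxF, map_sub, map_add, hπE, hπF, hπH]) (by rw [hxH, map_add, map_smul, hπH, hπE])
  have hconj : ∀ (φ : Module.End k W) (c : k), T * φ = c • (φ * T) → Ad t φ = c • φ := fun φ c h => by
    rw [hAd, adRep_apply, ← hT, h, smul_mul_assoc, mul_assoc, hT, ← map_mul, mul_inv_cancel, map_one,
      mul_one]
  have htE : Ad t E = (r : k) • E := hconj _ _ (by rw [hTE, smul_mul_assoc])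
  have htF : Ad t F = (r : k)⁻¹ • F := hconj _ _ (bw.ext fun i => by
    rw [LinearMap.smul_apply, Module.End.mul_apply, Module.End.mul_apply, hbi, hFw _ i.2, map_smul, hTw,
      hTw, map_smul, hFw _ i.2, smul_smul, smul_smul, smul_smul]
    congr 1
    rcases Nat.eq_zero_or_pos (i : ℕ) with h | h
    · rw [h, Nat.cast_zero, zero_mul, zero_mul, mul_zero]
    · conv_rhs => rw [← Nat.sub_add_cancel h, pow_succ]
      rw [Nat.sub_add_cancel h]
      field_simp)
  have htH : Ad t H = H := by
    have := hconj H 1 (bw.ext fun i => by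
      rw [one_smul, Module.End.mul_apply, Module.End.mul_apply, hbi, hHw _ i.2, map_smul, hTw,
        map_smul, hHw _ i.2, smul_smul, smul_smul, mul_comm])
    rwa [one_smul] at this
  have hπt : Commute π (Ad t) := hspan t (by rw [htE, map_smul, hπE]) (by rw [htF, map_smul, hπF])
    (by rw [htH, hπH])
  have hπN : ∀ g ∈ Subgroup.normalizer ((P : Subgroup G) : Set G), Commute π (Ad g) := by
    intro g hg
    obtain ⟨i, j, c, hc⟩ := hN g hg
    have hc0 : c ≠ 0 := fun h0 => by
      rw [h0, zero_smul] at hc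
      exact one_ne_zero (α := Module.End k W) (by rw [← map_one R, ← mul_inv_cancel g, map_mul, hc, zero_mul])
    have he : Ad g = Ad (x ^ i * t ^ j) := by
      refine LinearMap.ext fun φ => ?_
      have hy : R g = c • R (x ^ i * t ^ j) := by rw [hc, map_mul, map_pow, map_pow]
      have hy' : R g⁻¹ = c⁻¹ • R (x ^ i * t ^ j)⁻¹ := by
        have h1 : R g * (c⁻¹ • R (x ^ i * t ^ j)⁻¹) = 1 := by
          rw [hy, smul_mul_smul_comm, mul_inv_cancel₀ hc0, ← map_mul, mul_inv_cancel, map_one, one_smul]
        calc R g⁻¹ = R g⁻¹ * (R g * (c⁻¹ • R (x ^ i * t ^ j)⁻¹)) := by rw [h1, mul_one]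
          _ = _ := by rw [← mul_assoc, ← map_mul, inv_mul_cancel, map_one, one_mul]
      rw [hAd, adRep_apply, adRep_apply, hy, hy', smul_mul_assoc, smul_mul_smul_comm,
        mul_inv_cancel₀ hc0, one_smul]
    rw [he, map_mul, map_pow, map_pow]
    exact (hπx.pow_right i).mul_right (hπt.pow_right j)
  obtain ⟨e, _, q, heq, hee, hec, hefix⟩ := exists_lift hπN hP hx hΔ hπidem
  have hesym : ∀ φ ψ, tform (e φ) ψ = tform φ (e ψ) := by
    have htr : ∀ φ ψ, tform (relTrace P Ad π φ) ψ = tform φ (relTrace P Ad π ψ) := by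
      intro φ ψ
      simp only [relTrace, LinearMap.sum_apply, tform, Finset.sum_mul, Finset.mul_sum, map_sum]
      refine Finset.sum_congr rfl fun c _ => ?_
      show tform ((Ad c.out * π * Ad c.out⁻¹) φ) ψ = tform φ ((Ad c.out * π * Ad c.out⁻¹) ψ)
      simp only [Module.End.mul_apply, hAd]
      rw [tform_ad, horth, tform_ad, inv_inv]
    rw [heq]
    clear heq
    induction q using Polynomial.induction_on' with
    | add u w hu hw => intro φ ψ; simp only [map_add, LinearMap.add_apply, tform_add, tform_add', hu, hw]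
    | monomial n c =>
      intro φ ψ
      simp only [Polynomial.aeval_monomial, ← Algebra.smul_def, LinearMap.smul_apply, tform_smul,
        tform_smul']
      congr 1
      induction n generalizing φ ψ with
      | zero => simp
      | succ n ih =>
        conv_lhs => rw [pow_succ', Module.End.mul_apply, htr, ih]
        rw [pow_succ, Module.End.mul_apply]
  have heE : e E = E := by rw [hefix _ hxE, hπE]
  have heX : Commute e X := by
    rw [hlog, logP, Polynomial.aeval_eq_sum_range]
    exact Commute.sum_right _ _ _ fun i _ =>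
      ((((hec x).sub_right (Commute.one_right _))).pow_right i).smul_right _
  set H1 := e H with hH1
  set F1 := e F with hF1
  have hX1 : X F1 = H1 := by rw [hF1, ← Module.End.mul_apply, ← heX.eq, Module.End.mul_apply]
  have hX2 : X H1 = (-2 : k) • E := by
    rw [hH1, ← Module.End.mul_apply, ← heX.eq, Module.End.mul_apply, hXH, map_smul, heE]
  set F2 := F1 - (((2 * κ)⁻¹ * tform F1 F1) • E) with hF2
  have hX3 : X F2 = H1 := by rw [hF2, map_sub, map_smul, hXE, smul_zero, sub_zero, hX1]
  obtain ⟨fEE, fEH, fHF, fHH⟩ := gram h2 hX3 hX2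
  have hEF1 : tform E F1 = κ := by rw [hF1, ← hesym, heE]
  have fEF : tform E F2 = κ := by rw [hF2, tform_sub', tform_smul', gEE, mul_zero, sub_zero, hEF1]
  have fFF : tform F2 F2 = 0 := by
    simp only [hF2, tform_sub, tform_sub', tform_smul, tform_smul', gEE, hEF1, tform_comm F1 E]
    field_simp
    ring
  rw [fEF] at fHH
  have heF2 : e F2 = F2 := by
    rw [hF2, map_sub, map_smul, heE, hF1, ← Module.End.mul_apply, hee]
  have heH1 : e H1 = H1 := by rw [hH1, ← Module.End.mul_apply, hee]
  -- the range of the idempotent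
  have hrange : ∀ φ, e φ = φ → φ = (κ⁻¹ * tform φ F2) • E + ((2 * κ)⁻¹ * tform φ H1) • H1
      + (κ⁻¹ * tform φ E) • F2 := by
    intro φ hφ
    obtain ⟨ψ, hψ⟩ : ∃ ψ, φ = e (π ψ) := by
      have hc1 : Commute (e * π + (1 - e) * (1 - π)) (Ad x - 1) := by
        have h1 := hec x
        refine Commute.sub_right ?_ (Commute.one_right _)
        exact (h1.mul_left hπx).add_left
          (((Commute.one_left _).sub_left h1).mul_left ((Commute.one_left _).sub_left hπx))
      have hb := bijective_of_fix_ker hc1 hΔ fun w hw => by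
        rw [LinearMap.sub_apply, Module.End.one_apply, sub_eq_zero] at hw
        have hw' : Ad x (π w) = π w := by
          rw [← Module.End.mul_apply, ← hπx.eq, Module.End.mul_apply, hw]
        simp only [LinearMap.add_apply, Module.End.mul_apply, LinearMap.sub_apply, Module.End.one_apply,
          map_sub, hefix _ hw, hefix _ hw', ← Module.End.mul_apply π π, hπidem]
        abel
      obtain ⟨ψ, hψ⟩ := hb.2 φ
      refine ⟨ψ, ?_⟩
      rw [← hφ, ← hψ]
      simp only [LinearMap.add_apply, Module.End.mul_apply, LinearMap.sub_apply, Module.End.one_apply,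
        map_sub, map_add, ← Module.End.mul_apply e e, hee]
      abel
    obtain ⟨α, β, γ, hαβγ⟩ : ∃ α β γ : k, φ = α • E + β • H1 + γ • F2 := by
      refine ⟨κ⁻¹ * tform ψ F + κ⁻¹ * tform ψ E * ((2 * κ)⁻¹ * tform F1 F1),
        (2 * κ)⁻¹ * tform ψ H, κ⁻¹ * tform ψ E, ?_⟩
      rw [hψ, hπapp, map_add, map_add, map_smul, map_smul, map_smul, heE, ← hH1, ← hF1, hF2,
        smul_sub, smul_smul, add_smul]
      abel
    have c1 : tform φ F2 = α * κ := by
      rw [hαβγ, tform_add, tform_add, tform_smul, tform_smul, tform_smul, fEF, fHF, fFF]; ring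
    have c2 : tform φ H1 = β * (2 * κ) := by
      rw [hαβγ, tform_add, tform_add, tform_smul, tform_smul, tform_smul, fEH, fHH,
        tform_comm F2 H1, fHF]; ring
    have c3 : tform φ E = γ * κ := by
      rw [hαβγ, tform_add, tform_add, tform_smul, tform_smul, tform_smul, fEE, tform_comm H1 E, fEH,
        tform_comm F2 E, fEF]; ring
    conv_lhs => rw [hαβγ]
    rw [c1, c2, c3]
    congr 2
    · congr 1; field_simp
    · congr 1; field_simp
    · field_simp
  let bas : Fin 3 → Module.End k W := ![E, H1, F2]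
  let crd : Module.End k W → Fin 3 → k :=
    fun φ => ![κ⁻¹ * tform φ F2, (2 * κ)⁻¹ * tform φ H1, κ⁻¹ * tform φ E]
  have hcrd : ∀ φ, e φ = φ → φ = ∑ i, crd φ i • bas i := fun φ hφ => by
    conv_lhs => rw [hrange φ hφ]
    simp [Fin.sum_univ_three, bas, crd]
  have hbas : ∀ i, e (bas i) = bas i := by
    intro i; fin_cases i
    · exact heE
    · exact heH1
    · exact heF2
  have hmem : ∀ g i, e (Ad g (bas i)) = Ad g (bas i) := fun g i => by
    rw [← Module.End.mul_apply, (hec g).eq, Module.End.mul_apply, hbas]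
  have hgram : ∀ i j, tform (bas i) (bas j) = κ * formMat i j := by
    intro i j
    fin_cases i <;> fin_cases j <;>
      simp [bas, formMat, fEE, fEH, fHF, fHH, fEF, fFF, tform_comm H1 E, tform_comm F2 E,
        tform_comm F2 H1, mul_comm]
  let M3 : G → Matrix (Fin 3) (Fin 3) k := fun g => Matrix.of fun i j => crd (Ad g (bas j)) i
  have hM1 : M3 1 = 1 := by
    ext i j
    fin_cases i <;> fin_cases j <;>
      simp [M3, crd, bas, fEE, fEH, fHF, fHH, fEF, fFF, tform_comm H1 E, tform_comm F2 E,
        tform_comm F2 H1, hκ0, h2κ]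
    all_goals field_simp
  have hadd : ∀ (i : Fin 3) (c : Fin 3 → k) (f : Fin 3 → Module.End k W),
      crd (∑ j, c j • f j) i = ∑ j, c j * crd (f j) i := by
    intro i c f
    fin_cases i <;> simp [crd, Fin.sum_univ_three, tform_add, tform_smul, mul_add, mul_left_comm]
  have hMmul : ∀ g h, M3 (g * h) = M3 g * M3 h := by
    intro g h
    ext i j
    rw [Matrix.mul_apply]
    show crd (Ad (g * h) (bas j)) i = _
    rw [map_mul, Module.End.mul_apply]
    conv_lhs => rw [hcrd _ (hmem h j), map_sum]
    simp only [map_smul, hadd]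
    exact Finset.sum_congr rfl fun l _ => mul_comm _ _
  refine ⟨{ toFun := M3, map_one' := hM1, map_mul' := hMmul }, fun g => ?_, ?_, ?_, ?_⟩
  · ext i j
    show ((M3 g).transpose * (formMat : Matrix (Fin 3) (Fin 3) k) * M3 g) i j = _
    refine mul_left_cancel₀ hκ0 ?_
    rw [← hgram, ← tform_ad_ad R g (bas i) (bas j), ← hAd, hcrd _ (hmem g i), hcrd _ (hmem g j)]
    simp only [Fin.sum_univ_three, tform_add, tform_smul, tform_add', tform_smul', hgram,
      Matrix.mul_apply, Matrix.transpose_apply]
    simp only [M3, Matrix.of_apply]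
    ring
  · intro h1
    have h01 := congrFun (congrFun h1 0) 1
    have hH1x : Ad x H1 = H1 + (-2 : k) • E := by
      rw [hAx, hexp3 H1 (by rw [hX2, map_smul, hXE, smul_zero, map_zero]), hX2, map_smul, hXE,
        smul_zero, smul_zero, add_zero]
    have h02 : κ⁻¹ * tform (Ad x H1) F2 = 0 := by simpa [M3, crd, bas] using h01
    rw [hH1x, tform_add, tform_smul, fEF, fHF, zero_add, mul_left_comm, inv_mul_cancel₀ hκ0,
      mul_one, neg_eq_zero] at h02
    exact h2 h02
  · intro i
    show crd (Ad x E) i = _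
    rw [hxE]
    fin_cases i <;> simp [crd, fEE, fEH, fEF, hκ0, tform_comm H1 E, tform_comm F2 E]
  · intro g hg
    have hgE : Ad g E = E := by
      have h := hcrd _ (hmem g 0)
      rw [Fin.sum_univ_three] at h
      have h0 : ∀ i, crd (Ad g (bas 0)) i = if i = 0 then 1 else 0 := hg
      rw [h0, h0, h0] at h
      simpa [bas] using h
    have hgc : Commute (R g) E := by
      have := congrArg (· * R g) hgE
      simp only [hAd, adRep_apply, mul_assoc, ← map_mul, inv_mul_cancel, map_one, mul_one] at this
      exact this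
    rw [← hexp, expP_eq]
    exact Commute.sum_right _ _ _ fun i _ => (hgc.pow_right i).smul_right _

end Cfsg.Agent.SmallDegree86
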