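import Mathlib
import Cfsg.Agent.Lib.BlockPrimeTools86

/-!
Lifting idempotents commuting with the normalizer of a Sylow subgroup of prime order to equivariant
idempotents, in modules without projective summands.
-/

set_option autoImplicit false

namespace Cfsg.Agent.SmallDegree86

open Cfsg.Agent.BlockPrime86

attribute [local instance] Classical.propDecidable

variable {k : Type*} [Field k] {M : Type*} [AddCommGroup M] [Module k M]

/-- An operator commuting with a nilpotent one and vanishing on its kernel is nilpotent. -/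
theorem pow_eq_zero_of_ker {Δ φ : Module.End k M} (hc : Commute φ Δ) {N : ℕ} (hΔ : Δ ^ N = 0)
    (hφ : ∀ v, Δ v = 0 → φ v = 0) : φ ^ N = 0 := by
  have key : ∀ i v, (Δ ^ i) v = 0 → (φ ^ i) v = 0 := by
    intro i
    induction i with
    | zero => intro v hv; simpa using hv
    | succ i ih =>
      intro v hv
      rw [pow_succ, Module.End.mul_apply]
      refine ih _ ?_
      have h1 : Δ ((Δ ^ i) v) = 0 := by rwa [← Module.End.mul_apply, ← pow_succ']
      rw [← Module.End.mul_apply, ← (hc.pow_right i).eq, Module.End.mul_apply, hφ _ h1]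
  exact LinearMap.ext fun v => key N v (by rw [hΔ, LinearMap.zero_apply])

/-- An operator commuting with a nilpotent one and fixing its kernel is bijective. -/
theorem bijective_of_fix_ker {Δ φ : Module.End k M} (hc : Commute φ Δ) {N : ℕ} (hΔ : Δ ^ N = 0)
    (hφ : ∀ v, Δ v = 0 → φ v = v) : Function.Bijective φ := by
  have h : (φ - 1) ^ N = 0 :=
    pow_eq_zero_of_ker (hc.sub_left (Commute.one_left _)) hΔ fun v hv => by
      rw [LinearMap.sub_apply, hφ v hv, Module.End.one_apply, sub_self]
  have hu : IsUnit φ := by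
    have := (IsNilpotent.isUnit_add_one ⟨N, h⟩)
    simpa using this
  exact (Module.End.isUnit_iff φ).1 hu

variable {G : Type*} [Group G] [Finite G] {p : ℕ} [hp : Fact p.Prime] [CharP k p] {P : Sylow p G} {x : G}

omit [Finite G] in
theorem sum_zpowers_eq (hx : orderOf x = p) (R : G →* Module.End k M)
    [Fintype (Subgroup.zpowers x)] :
    ∑ y : Subgroup.zpowers x, R y = (R x - 1) ^ (p - 1) := by
  have hpoly : ∑ i ∈ Finset.range p, (Polynomial.X : Polynomial k) ^ i
      = (Polynomial.X - 1) ^ (p - 1) := by
    refine mul_right_cancel₀ (Polynomial.X_sub_C_ne_zero (1 : k)) ?_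
    rw [Polynomial.C_1, geom_sum_mul, ← pow_succ, Nat.sub_add_cancel hp.out.one_le, sub_pow_char,
      one_pow]
  have h := congrArg (Polynomial.aeval (R x)) hpoly
  simp only [map_sum, map_pow, map_sub, map_one, Polynomial.aeval_X] at h
  rw [← h]
  have hfin : IsOfFinOrder x := orderOf_pos_iff.1 (hx ▸ hp.out.pos)
  symm
  refine Finset.sum_bij (fun i _ => (⟨x ^ i, Subgroup.npow_mem_zpowers x i⟩ : Subgroup.zpowers x))
    (fun i _ => Finset.mem_univ _) ?_ ?_ (fun i _ => by rw [map_pow])
  · intro i hi j hj e
    exact pow_injOn_Iio_orderOf (by simpa [hx] using Finset.mem_range.1 hi)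
      (by simpa [hx] using Finset.mem_range.1 hj) (congrArg Subtype.val e)
  · rintro ⟨y, hy⟩ -
    obtain ⟨i, hi⟩ := (hfin.mem_powers_iff_mem_zpowers).2 hy
    refine ⟨i % p, Finset.mem_range.2 (Nat.mod_lt _ hp.out.pos), Subtype.ext ?_⟩
    show x ^ (i % p) = y
    rw [← hx, pow_mod_orderOf]
    exact hi

variable (P) in
/-- The relative trace of an operator from the normalizer of `P`. -/
noncomputable def relTrace [Fintype (G ⧸ Subgroup.normalizer ((P : Subgroup G) : Set G))]
    (R : G →* Module.End k M) (π : Module.End k M) : Module.End k M :=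
  ∑ q : G ⧸ Subgroup.normalizer ((P : Subgroup G) : Set G), R q.out * π * R q.out⁻¹

variable {R : G →* Module.End k M} {π : Module.End k M}
  (hπN : ∀ g ∈ Subgroup.normalizer ((P : Subgroup G) : Set G), Commute π (R g))

omit [Finite G] in
include hπN in
theorem conj_out (g : G) :
    R (QuotientGroup.mk g : G ⧸ Subgroup.normalizer ((P : Subgroup G) : Set G)).out * π *
      R (QuotientGroup.mk g : G ⧸ Subgroup.normalizer ((P : Subgroup G) : Set G)).out⁻¹ =
      R g * π * R g⁻¹ := by
  obtain ⟨n, hn⟩ := QuotientGroup.mk_out_eq_mul (Subgroup.normalizer ((P : Subgroup G) : Set G)) g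
  rw [hn, map_mul, mul_inv_rev, map_mul, mul_assoc (R g) _ π, ← (hπN _ n.2).eq, ← mul_assoc (R g) π,
    mul_assoc (R g * π), ← mul_assoc (R (n : G)), ← map_mul R (n : G), mul_inv_cancel, map_one,
    one_mul]

omit [Finite G] in
include hπN in
theorem commute_relTrace [Fintype (G ⧸ Subgroup.normalizer ((P : Subgroup G) : Set G))] (h : G) :
    Commute (relTrace P R π) (R h) := by
  have hterm : ∀ q : G ⧸ Subgroup.normalizer ((P : Subgroup G) : Set G),
      R h * (R q.out * π * R q.out⁻¹) = R (h • q).out * π * R (h • q).out⁻¹ * R h := by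
    intro q
    have e : h • q = QuotientGroup.mk (h * q.out) := by
      conv_lhs => rw [← QuotientGroup.out_eq' q]
      rfl
    rw [e, conj_out hπN, map_mul, mul_inv_rev, mul_assoc _ (R (q.out⁻¹ * h⁻¹)), ← map_mul R _ h,
      inv_mul_cancel_right]
    simp only [mul_assoc]
  show relTrace P R π * R h = R h * relTrace P R π
  rw [relTrace, Finset.sum_mul, Finset.mul_sum, Finset.sum_congr rfl fun q _ => hterm q]
  exact (Fintype.sum_equiv (MulAction.toPerm h) _ _ fun q => rfl).symm

include hπN in
/-- The relative trace agrees with the operator on the fixed points of `P`. -/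
theorem relTrace_fix [Fintype (G ⧸ Subgroup.normalizer ((P : Subgroup G) : Set G))]
    (hP : (P : Subgroup G) = Subgroup.zpowers x) (hx : orderOf x = p)
    (hΔ : (R x - 1) ^ (p - 1) = 0) {v : M} (hv : R x v = v) : relTrace P R π v = π v := by
  haveI : Fintype (Subgroup.zpowers x) := Fintype.ofFinite _
  have hfixed : ∀ y ∈ Subgroup.zpowers x, R y v = v := by
    intro y hy
    obtain ⟨i, rfl⟩ := ((orderOf_pos_iff.1 (hx ▸ hp.out.pos)).mem_powers_iff_mem_zpowers).2 hy
    clear hy
    induction i with
    | zero => simp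
    | succ i ih =>
      have : R (x ^ (i + 1)) v = v := by rw [pow_succ, map_mul, Module.End.mul_apply, hv, ih]
      exact this
  set s : Finset (G ⧸ (Subgroup.normalizer ((P : Subgroup G) : Set G))) := Finset.univ.erase (QuotientGroup.mk 1) with hs
  letI : MulAction (Subgroup.zpowers x) (G ⧸ (Subgroup.normalizer ((P : Subgroup G) : Set G))) := MulAction.compHom _ (Subgroup.zpowers x).subtype
  have hxN : Subgroup.zpowers x ≤ (Subgroup.normalizer ((P : Subgroup G) : Set G)) := hP ▸ Subgroup.le_normalizer
  have h1 : ∀ y : Subgroup.zpowers x, y • (QuotientGroup.mk 1 : G ⧸ (Subgroup.normalizer ((P : Subgroup G) : Set G))) = QuotientGroup.mk 1 := by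
    intro y
    show (QuotientGroup.mk ((y : G) * 1) : G ⧸ (Subgroup.normalizer ((P : Subgroup G) : Set G))) = _
    rw [QuotientGroup.eq]
    simpa using inv_mem (hxN y.2)
  obtain ⟨w, hw⟩ := sum_free (Q := Subgroup.zpowers x) (k := k) s
    (fun y q hq => by
      simp only [hs, Finset.mem_erase, Finset.mem_univ, and_true] at hq ⊢
      intro e
      exact hq (by rw [← inv_smul_smul y q, e, h1]))
    (fun y q hq hyq => by
      by_contra hy
      simp only [hs, Finset.mem_erase, Finset.mem_univ, and_true] at hq
      refine hq ?_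
      have htop : ∀ z : Subgroup.zpowers x, z • q = q := fun z => by
        have : z ∈ MulAction.stabilizer (Subgroup.zpowers x) q :=
          Subgroup.zpowers_le.2 (MulAction.mem_stabilizer_iff.2 hyq) (by
            rw [zpowers_eq_top_of_prime_card (p := p) (by rw [Nat.card_zpowers, hx]) hy]
            exact Subgroup.mem_top _)
        exact MulAction.mem_stabilizer_iff.1 this
      set g := q.out with hg
      have hq' : q = QuotientGroup.mk g := (QuotientGroup.out_eq' q).symm
      have hmem : g⁻¹ * x * g ∈ (Subgroup.normalizer ((P : Subgroup G) : Set G)) := by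
        have h2 := htop ⟨x, Subgroup.mem_zpowers x⟩
        rw [hq'] at h2
        have h3 : (QuotientGroup.mk (x * g) : G ⧸ (Subgroup.normalizer ((P : Subgroup G) : Set G))) = QuotientGroup.mk g := h2
        rw [QuotientGroup.eq] at h3
        have h4 := inv_mem h3
        simpa [mul_assoc] using h4
      have hord : orderOf (g⁻¹ * x * g) = p := by
        rw [show g⁻¹ * x * g = MulAut.conj g⁻¹ x by simp, MulEquiv.orderOf_eq, hx]
      have hpg : IsPGroup p (Subgroup.zpowers (g⁻¹ * x * g)) :=
        IsPGroup.iff_card.2 ⟨1, by rw [Nat.card_zpowers, hord, pow_one]⟩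
      have hin : g⁻¹ * x * g ∈ (P : Subgroup G) := by
        have h5 := hpg.inf_normalizer_sylow P
        exact ((h5 ▸ ⟨Subgroup.mem_zpowers _, hmem⟩ : g⁻¹ * x * g ∈
          Subgroup.zpowers (g⁻¹ * x * g) ⊓ (P : Subgroup G))).2
      have hgN : g⁻¹ ∈ (Subgroup.normalizer ((P : Subgroup G) : Set G)) := by
        rw [Subgroup.mem_normalizer_iff_map_conj_eq]
        refine Subgroup.eq_of_le_of_card_ge ?_ ?_
        · rw [hP, MonoidHom.map_zpowers, Subgroup.zpowers_le, ← hP]
          simpa using hin
        · rw [Subgroup.card_map_of_injective (MulAut.conj g⁻¹).injective]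
      rw [hq', QuotientGroup.eq, mul_one]
      exact hgN)
    (R.comp (Subgroup.zpowers x).subtype) (fun q => (R q.out * π * R q.out⁻¹) v)
    (fun y q _ => by
      have e : y • q = QuotientGroup.mk ((y : G) * q.out) := by
        conv_lhs => rw [← QuotientGroup.out_eq' q]
        rfl
      show (R (y • q).out * π * R (y • q).out⁻¹) v = R (y : G) ((R q.out * π * R q.out⁻¹) v)
      rw [e, conj_out hπN, map_mul, mul_inv_rev, map_mul]
      simp only [Module.End.mul_apply]
      rw [hfixed _ (inv_mem y.2)])
  have hsum : ∑ y : Subgroup.zpowers x, (R.comp (Subgroup.zpowers x).subtype) y = 0 := by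
    rw [← hΔ, ← sum_zpowers_eq hx R]
    rfl
  rw [hsum, LinearMap.zero_apply] at hw
  rw [relTrace, LinearMap.sum_apply]
  refine (Finset.add_sum_erase Finset.univ (fun d : G ⧸ (Subgroup.normalizer ((P : Subgroup G) : Set G)) => (R d.out * π * R d.out⁻¹) v)
    (Finset.mem_univ (QuotientGroup.mk 1 : G ⧸ (Subgroup.normalizer ((P : Subgroup G) : Set G))))).symm.trans ?_
  rw [← hs, hw, add_zero, conj_out hπN, inv_one, map_one, one_mul, mul_one]

include hπN in
/-- Idempotents commuting with the normalizer of `P` lift to equivariant idempotents. -/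
theorem exists_lift (hP : (P : Subgroup G) = Subgroup.zpowers x) (hx : orderOf x = p)
    (hΔ : (R x - 1) ^ (p - 1) = 0) (hidem : π * π = π) :
    ∃ (e : Module.End k M) (_ : Fintype (G ⧸ Subgroup.normalizer ((P : Subgroup G) : Set G)))
      (q : Polynomial k), e = Polynomial.aeval (relTrace P R π) q ∧ e * e = e ∧
      (∀ g, Commute e (R g)) ∧ ∀ v, R x v = v → e v = π v := by
  haveI : Fintype (G ⧸ Subgroup.normalizer ((P : Subgroup G) : Set G)) := Fintype.ofFinite _
  set a := relTrace P R π with ha
  have hac := commute_relTrace (R := R) (π := π) hπN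
  have hfix := fun v (hv : R x v = v) => relTrace_fix (R := R) (π := π) hπN hP hx hΔ hv
  have hπx : Commute π (R x) := hπN x (Subgroup.le_normalizer (hP ▸ Subgroup.mem_zpowers x))
  have hker : ∀ v, (R x - 1 : Module.End k M) v = 0 ↔ R x v = v := fun v => by
    rw [LinearMap.sub_apply, Module.End.one_apply, sub_eq_zero]
  have hstab : ∀ v, R x v = v → R x (π v) = π v := fun v hv => by
    rw [← Module.End.mul_apply, ← hπx.eq, Module.End.mul_apply, hv]
  have hapow : ∀ (n : ℕ) v, R x v = v → (a ^ (n + 1)) v = π v := by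
    intro n
    induction n with
    | zero => intro v hv; rw [pow_one, ha, hfix v hv]
    | succ n ih =>
      intro v hv
      rw [pow_succ, Module.End.mul_apply, ha, hfix v hv, ← ha, ih _ (hstab v hv),
        ← Module.End.mul_apply, hidem]
  set N := p - 1 with hNdef
  have hN0 : N ≠ 0 := by have := hp.out.two_le; omega
  have hnil : (a * (1 - a)) ^ N = 0 := by
    refine pow_eq_zero_of_ker (Δ := R x - 1) ?_ hΔ fun v hv => ?_
    · have h1 := hac x
      have h2 : Commute a (R x - 1) := h1.sub_right (Commute.one_right _)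
      exact h2.mul_left ((Commute.one_left _).sub_left h2)
    · rw [mul_sub, mul_one, LinearMap.sub_apply, ← pow_one a, ← pow_add,
        hapow 0 v ((hker v).1 hv), hapow 1 v ((hker v).1 hv), sub_self]
  set e := 1 - (1 - a ^ N) ^ N with he
  refine ⟨e, inferInstance, 1 - (1 - Polynomial.X ^ N) ^ N, by simp [he, ha], ?_, ?_, ?_⟩
  · obtain ⟨c, hc⟩ : (Polynomial.X : Polynomial k) ^ N ∣ 1 - (1 - Polynomial.X ^ N) ^ N := by
      have := sub_dvd_pow_sub_pow (1 : Polynomial k) (1 - Polynomial.X ^ N) N
      simpa using this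
    obtain ⟨d, hd⟩ : (1 - Polynomial.X : Polynomial k) ^ N ∣ (1 - Polynomial.X ^ N) ^ N := by
      refine pow_dvd_pow_of_dvd ?_ N
      have := sub_dvd_pow_sub_pow (1 : Polynomial k) Polynomial.X N
      simpa using this
    have h1 : (1 - (1 - Polynomial.X ^ N) ^ N : Polynomial k) * (1 - Polynomial.X ^ N) ^ N =
        (Polynomial.X * (1 - Polynomial.X)) ^ N * (c * d) := by
      rw [hc, hd, mul_pow]; ring
    have h2 := congrArg (Polynomial.aeval a) h1
    simp only [map_mul, map_sub, map_pow, map_one, Polynomial.aeval_X, hnil, zero_mul] at h2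
    have h3 : e * (1 - e) = 0 := by rwa [he, sub_sub_cancel]
    rw [mul_sub, mul_one, sub_eq_zero] at h3
    exact h3.symm
  · intro g
    exact (Commute.one_left _).sub_left (((Commute.one_left _).sub_left ((hac g).pow_left N)).pow_left N)
  · intro v hv
    obtain ⟨j, hj⟩ := Nat.exists_eq_succ_of_ne_zero hN0
    have h1 : ∀ (n : ℕ) (w : M), R x w = w → ((1 - a ^ N) ^ (n + 1)) w = w - π w := by
      intro n
      induction n with
      | zero =>
        intro w hw
        rw [pow_one, LinearMap.sub_apply, Module.End.one_apply, hj, Nat.succ_eq_add_one, hapow j w hw]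
      | succ n ih =>
        intro w hw
        rw [pow_succ, Module.End.mul_apply, LinearMap.sub_apply, Module.End.one_apply, hj,
          Nat.succ_eq_add_one, hapow j w hw, ← Nat.succ_eq_add_one, ← hj,
          ih _ (by rw [map_sub, hw, hstab w hw]), map_sub, ← Module.End.mul_apply π π, hidem, sub_self,
          sub_zero]
    rw [he, LinearMap.sub_apply, Module.End.one_apply]
    conv_lhs => rw [hj, Nat.succ_eq_add_one, show j + 1 = j + 1 from rfl]
    have h2 := h1 j v hv
    rw [hj, Nat.succ_eq_add_one] at h2
    rw [h2, sub_sub_cancel]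

end Cfsg.Agent.SmallDegree86
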