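import Cfsg.Agent.Lib.SmallDegreeExp86
import Cfsg.Agent.Lib.SmallDegreeLift86

/-!
A Sylow subgroup of prime order acts by a single Jordan block, graded for a torus normalizing it, in
an irreducible module of small dimension in which its centralizer acts by scalars.
-/

set_option autoImplicit false

namespace Cfsg.Agent.SmallDegree86

open Cfsg.Agent.BlockPrime86

attribute [local instance] Classical.propDecidable

variable {k : Type*} [Field k] {W : Type*} [AddCommGroup W] [Module k W] [FiniteDimensional k W]

omit [FiniteDimensional k W] in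
/-- An operator of finite order prime to the characteristic has an eigenvector outside a proper
subspace. -/
theorem exists_eigen_notMem [IsAlgClosed k] [FiniteDimensional k W] {T : Module.End k W} {m : ℕ}
    (hT : T ^ m = 1) (hm : (m : k) ≠ 0) {U : Submodule k W} (hU : U ≠ ⊤) :
    ∃ (μ : k) (v : W), T v = μ • v ∧ v ∉ U := by
  have hss : T.IsSemisimple := by
    refine Module.End.isSemisimple_of_squarefree_aeval_eq_zero
      (p := (Polynomial.X ^ m - Polynomial.C 1 : Polynomial k)) ?_ (by simp [hT])
    exact (Polynomial.separable_X_pow_sub_C 1 hm one_ne_zero).squarefree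
  by_contra hcon
  push Not at hcon
  refine hU (top_le_iff.1 ?_)
  rw [← T.iSup_maxGenEigenspace_eq_top, iSup_le_iff]
  intro μ
  rw [hss.isFinitelySemisimple.maxGenEigenspace_eq_eigenspace]
  exact fun v hv => hcon μ v (Module.End.mem_eigenspace_iff.1 hv)

variable (p : ℕ) [hp : Fact p.Prime] [CharP k p]

omit [FiniteDimensional k W] in
/-- A polynomial without constant term in an operator kills its kernel. -/
theorem aeval_apply_eq_zero {E : Module.End k W} {q : Polynomial k} (hq : q.coeff 0 = 0) {v : W}
    (hv : E v = 0) : Polynomial.aeval E q v = 0 := by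
  obtain ⟨r, rfl⟩ := Polynomial.X_dvd_iff.2 hq
  rw [mul_comm, map_mul, Polynomial.aeval_X, Module.End.mul_apply, hv, map_zero]

omit [FiniteDimensional k W] in
/-- The exponential of a nilpotent operator has the same fixed points as the operator has zeros. -/
theorem expP_apply_of_ker {E : Module.End k W} {v : W} (hv : E v = 0) :
    expP (k := k) p E v = v := by
  have h := aeval_apply_eq_zero (q := expPoly (k := k) p - 1) (by simp [expPoly_coeff, hp.out.pos]) hv
  rw [map_sub, map_one, LinearMap.sub_apply, Module.End.one_apply, sub_eq_zero] at h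
  exact h

omit [FiniteDimensional k W] in
/-- The weights of a torus element normalizing a unipotent element. -/
theorem semiconj_logP {T A : Module.End k W} (hTu : IsUnit T) {r N : ℕ}
    (hA : (A - 1) ^ N = 0) (hN : N + N ≤ p + 1) (h : T * A = A ^ r * T) :
    T * logP (k := k) p (A - 1) = (r : k) • logP (k := k) p (A - 1) * T := by
  obtain ⟨u, rfl⟩ := hTu
  set E := logP (k := k) p (A - 1) with hE
  have hNp : N ≤ p := by omega
  have hEN : E ^ N = 0 := by
    obtain ⟨q, hq⟩ := Polynomial.X_dvd_iff.2 (exists_logPoly (k := k) p).choose_spec.1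
    rw [hE, logP, logPoly, hq, map_mul, Polynomial.aeval_X]
    have hc : Commute (A - 1) (Polynomial.aeval (A - 1) q) := by
      have := (Commute.all Polynomial.X q).map (Polynomial.aeval (A - 1))
      rwa [Polynomial.aeval_X] at this
    rw [hc.mul_pow, hA, zero_mul]
  have hexp : expP (k := k) p E = A := by rw [hE, expP_logP p hA hNp, add_sub_cancel]
  let φ : Module.End k W →ₐ[k] Module.End k W :=
    (MulSemiringAction.toAlgHom k (Module.End k W) (ConjAct.toConjAct u))
  have hφ : ∀ z, φ z = ↑u * z * ↑u⁻¹ := fun z => rfl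
  have h1 : φ (A - 1) = A ^ r - 1 := by
    rw [map_sub, map_one, hφ, h, mul_assoc, Units.mul_inv, mul_one]
  have h2 : φ E = (r : k) • E := by
    rw [hE, logP, ← Polynomial.aeval_algHom_apply, h1]
    show logP (k := k) p (A ^ r - 1) = _
    rw [← hexp, ← expP_nsmul p hEN hN, logP_expP p (N := N) (by rw [_root_.smul_pow, hEN, smul_zero]) hNp,
      hexp, Nat.cast_smul_eq_nsmul, hE, logP]
  rw [hφ] at h2
  rw [← h2, mul_assoc _ (↑u⁻¹ : Module.End k W), Units.inv_mul, mul_one]

variable {G : Type*} [Group G] [Finite G] {P : Sylow p G} {x t : G}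

/-- The graded Jordan basis. -/
theorem exists_graded [IsAlgClosed k] (R : G →* Module.End k W) (hirr : Irred R)
    (hdim : 2 * Module.finrank k W + 1 ≤ p)
    (hP : (P : Subgroup G) = Subgroup.zpowers x) (hx : orderOf x = p) (hRx : R x ≠ 1)
    {r m : ℕ} (htx : t * x * t⁻¹ = x ^ r) (hm : R t ^ m = 1) (hmk : (m : k) ≠ 0)
    (hN : ∀ g ∈ Subgroup.normalizer ((P : Subgroup G) : Set G),
      ∃ (i j : ℕ) (c : k), R g = c • (R x ^ i * R t ^ j)) :
    ∃ (E : Module.End k W) (v : W) (μ : k) (a : ℕ), a = Module.finrank k W ∧ 2 ≤ a ∧ E ^ a = 0 ∧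
      (E ^ (a - 1)) v ≠ 0 ∧ expP (k := k) p E = R x ∧
      R t * E = (r : k) • E * R t ∧ R t v = μ • v := by
  set n := Module.finrank k W with hn
  set A := R x with hA
  set T := R t with hT
  have hAn : (A - 1) ^ n = 0 := by
    have e : (A - 1) ^ p = 0 := by
      have e : (A - 1) ^ p = Polynomial.aeval A ((Polynomial.X - 1 : Polynomial k) ^ p) := by simp
      rw [e, sub_pow_char, one_pow]
      simp [hA, ← map_pow R, ← hx, pow_orderOf_eq_one]
    have h := LinearMap.aeval_self_charpoly (A - 1)
    rw [(LinearMap.isNilpotent_iff_charpoly (A - 1)).1 ⟨p, e⟩, map_pow, Polynomial.aeval_X] at h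
    exact h
  have hTu : IsUnit T := (Group.isUnit t).map R
  have hsemi : T * A = A ^ r * T := by
    rw [hT, hA, ← map_pow, ← map_mul, ← map_mul, ← htx, inv_mul_cancel_right]
  have hTE := semiconj_logP p hTu hAn (by omega) hsemi
  set E := logP (k := k) p (A - 1) with hEdef
  have hexp : expP (k := k) p E = A := by
    rw [hEdef, expP_logP p hAn (by omega), add_sub_cancel]
  have hEnil : ∃ j, E ^ j = 0 := by
    obtain ⟨q, hq⟩ := Polynomial.X_dvd_iff.2 (exists_logPoly (k := k) p).choose_spec.1
    refine ⟨n, ?_⟩
    rw [hEdef, logP, logPoly, hq, map_mul, Polynomial.aeval_X]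
    have hc : Commute (A - 1) (Polynomial.aeval (A - 1) q) := by
      have := (Commute.all Polynomial.X q).map (Polynomial.aeval (A - 1))
      rwa [Polynomial.aeval_X] at this
    rw [hc.mul_pow, hAn, zero_mul]
  have hE0 : E ≠ 0 := fun h => hRx (by rw [← hexp, h, expP_zero p hp.out.pos])
  set a := Nat.find hEnil with ha
  have hEa : E ^ a = 0 := Nat.find_spec hEnil
  haveI := hirr.1
  have ha2 : 2 ≤ a := by
    by_contra hlt
    refine hE0 ?_
    have := pow_eq_zero_of_le (show a ≤ 1 by omega) hEa
    rwa [pow_one] at this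
  have hEa1 : E ^ (a - 1) ≠ 0 := Nat.find_min hEnil (by omega)
  have hTEpow : ∀ i : ℕ, T * E ^ i = (r : k) ^ i • (E ^ i * T) := by
    intro i
    induction i with
    | zero => simp
    | succ i ih =>
      rw [pow_succ, ← mul_assoc, ih, smul_mul_assoc, mul_assoc _ T, hTE, smul_mul_assoc,
        mul_smul_comm, smul_smul, ← mul_assoc, ← pow_succ]
  obtain ⟨μ, v, hv, hvU⟩ := exists_eigen_notMem hm hmk
    (U := LinearMap.ker (E ^ (a - 1))) (fun h => hEa1 (LinearMap.ker_eq_top.1 h))
  rw [LinearMap.mem_ker] at hvU
  have hzero : ∀ i, a ≤ i → (E ^ i) v = 0 := fun i hi => by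
    rw [pow_eq_zero_of_le hi hEa, LinearMap.zero_apply]
  have hli : LinearIndependent k fun i : Fin a => (E ^ (i : ℕ)) v := by
    rw [Fintype.linearIndependent_iff]
    intro c hc
    by_contra! hne
    obtain ⟨i0, hi0, hmin⟩ := (Finset.univ.filter fun i => c i ≠ 0).exists_min_image id
      (hne.imp fun i hi => by simpa using hi)
    have hi0' : c i0 ≠ 0 := by simpa using hi0
    have h := congrArg (E ^ (a - 1 - (i0 : ℕ))) hc
    rw [map_sum, map_zero, Finset.sum_eq_single i0, map_smul, ← Module.End.mul_apply, ← pow_add,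
      show a - 1 - (i0 : ℕ) + i0 = a - 1 by omega] at h
    · exact hi0' ((smul_eq_zero.1 h).resolve_right hvU)
    · intro j _ hj
      by_cases hcj : c j = 0
      · rw [hcj, zero_smul, map_zero]
      · have hlt : (i0 : ℕ) < j := lt_of_le_of_ne (hmin j (by simpa using hcj))
          fun e => hj (Fin.ext e.symm)
        rw [map_smul, ← Module.End.mul_apply, ← pow_add, hzero _ (by omega), smul_zero]
    · simp
  obtain ⟨g, hg⟩ := LinearMap.exists_leftInverse_of_injective (Fintype.linearCombination k
    fun i : Fin a => (E ^ (i : ℕ)) v) (LinearMap.ker_eq_bot.2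
      (linearIndependent_iff_injective_fintypeLinearCombination.1 hli))
  set φ : W →ₗ[k] k := (LinearMap.proj ⟨a - 1, by omega⟩).comp g with hφdef
  have hφ : ∀ i, i < a → φ ((E ^ i) v) = if i = a - 1 then 1 else 0 := by
    intro i hi
    have h1 : (E ^ i) v = Fintype.linearCombination k (fun i : Fin a => (E ^ (i : ℕ)) v)
        (Pi.single ⟨i, hi⟩ 1) := by simp [Fintype.linearCombination_apply_single]
    rw [hφdef, LinearMap.comp_apply, h1, ← LinearMap.comp_apply (f := g), hg]
    simp [Pi.single_apply, eq_comm]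
  set π0 : Module.End k W :=
    ∑ i ∈ Finset.range a, (φ.comp (E ^ (a - 1 - i))).smulRight ((E ^ i) v) with hπ0
  have hπ0app : ∀ w, π0 w = ∑ i ∈ Finset.range a, φ ((E ^ (a - 1 - i)) w) • (E ^ i) v := fun w => by
    simp [hπ0]
  have hπ0E : Commute π0 E := by
    refine LinearMap.ext fun w => ?_
    obtain ⟨b, hb⟩ := Nat.exists_eq_add_of_le (show 1 ≤ a by omega)
    simp only [Module.End.mul_apply, hπ0app, map_sum, map_smul]
    simp only [← Module.End.mul_apply, ← pow_succ, ← pow_succ']
    rw [hb, add_comm 1 b, Finset.sum_range_succ', Finset.sum_range_succ]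
    rw [show b + 1 - 1 - 0 + 1 = a by omega, hEa, hzero (b + 1) (by omega)]
    simp only [LinearMap.zero_apply, map_zero, zero_smul, smul_zero, add_zero]
    refine Finset.sum_congr rfl fun i hi => ?_
    have := Finset.mem_range.1 hi
    rw [show b + 1 - 1 - (i + 1) + 1 = b + 1 - 1 - i by omega]
  have hπ0fix : ∀ j, j < a → π0 ((E ^ j) v) = (E ^ j) v := by
    intro j hj
    rw [hπ0app, Finset.sum_eq_single j]
    · rw [← Module.End.mul_apply, ← pow_add, hφ _ (by omega), if_pos (by omega), one_smul]
    · intro i hi hij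
      have := Finset.mem_range.1 hi
      rw [← Module.End.mul_apply, ← pow_add]
      rcases Nat.lt_or_ge (a - 1 - i + j) a with h | h
      · rw [hφ _ h, if_neg (by omega), zero_smul]
      · rw [hzero _ h, map_zero, zero_smul]
    · exact fun h => absurd (Finset.mem_range.2 hj) h
  set C := Submodule.span k (Set.range fun i : Fin a => (E ^ (i : ℕ)) v) with hC
  have hmemC : ∀ i, (E ^ i) v ∈ C := by
    intro i
    rcases Nat.lt_or_ge i a with h | h
    · exact Submodule.subset_span ⟨⟨i, h⟩, rfl⟩
    · rw [hzero i h]; exact zero_mem _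
  have hπ0C : ∀ w, π0 w ∈ C := fun w => by
    rw [hπ0app]; exact sum_mem fun i _ => Submodule.smul_mem _ _ (hmemC i)
  have hTchain : ∀ l j, (T ^ l) ((E ^ j) v) = ((r : k) ^ j * μ) ^ l • (E ^ j) v := by
    intro l j
    induction l with
    | zero => simp
    | succ l ih =>
      rw [pow_succ', Module.End.mul_apply, ih, map_smul, ← Module.End.mul_apply, hTEpow,
        LinearMap.smul_apply, Module.End.mul_apply, hv, map_smul, smul_smul, smul_smul, mul_assoc, ← pow_succ]
  have hTC : ∀ l, ∀ w ∈ C, (T ^ l) w ∈ C := by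
    intro l w hw
    induction hw using Submodule.span_induction with
    | mem y hy =>
      obtain ⟨j, rfl⟩ := hy
      rw [hTchain]
      exact Submodule.smul_mem _ _ (hmemC _)
    | zero => rw [map_zero]; exact zero_mem _
    | add y z _ _ hy hz => rw [map_add]; exact add_mem hy hz
    | smul c y _ hy => rw [map_smul]; exact Submodule.smul_mem _ _ hy
  set π : Module.End k W := (m : k)⁻¹ • ∑ i ∈ Finset.range m, T ^ i * π0 * T ^ (m - i) with hπ
  have hπT : Commute π T := by
    refine (Commute.symm ?_)
    refine Commute.smul_right ?_ _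
    show T * _ = _ * T
    rw [Finset.mul_sum, Finset.sum_mul]
    have hcyc : ∀ f : ℕ → Module.End k W, f m = f 0 →
        ∑ i ∈ Finset.range m, f (i + 1) = ∑ i ∈ Finset.range m, f i := by
      intro f hf
      have h1 := Finset.sum_range_succ f m
      rw [Finset.sum_range_succ' f m, hf] at h1
      exact add_right_cancel h1
    rw [← hcyc (fun i => T ^ i * π0 * T ^ (m - i) * T) (by
      simp only [Nat.sub_self, Nat.sub_zero, hm, pow_zero, mul_one, one_mul])]
    refine Finset.sum_congr rfl fun i hi => ?_
    have := Finset.mem_range.1 hi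
    rw [← mul_assoc, ← mul_assoc, ← pow_succ', mul_assoc _ (T ^ (m - (i + 1))), ← pow_succ,
      show m - (i + 1) + 1 = m - i by omega]
  have hrm : (r : k) ^ m = 1 := by
    have h : ∀ l : ℕ, T ^ l * E = (r : k) ^ l • (E * T ^ l) := by
      intro l
      induction l with
      | zero => simp
      | succ l ih =>
        rw [pow_succ, mul_assoc, hTE, smul_mul_assoc, mul_smul_comm, ← mul_assoc, ih, smul_mul_assoc,
          smul_smul, ← pow_succ', mul_assoc]
    have h1 := h m
    rw [hm, one_mul, mul_one] at h1
    by_contra hne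
    have h2 : ((r : k) ^ m - 1) • E = 0 := by rw [sub_smul, one_smul, ← h1, sub_self]
    exact hE0 ((smul_eq_zero.1 h2).resolve_left (sub_ne_zero.2 hne))
  have hπE : Commute π E := by
    refine Commute.smul_left (Commute.sum_left _ _ _ fun i hi => ?_) _
    have hh : ∀ l : ℕ, T ^ l * E = (r : k) ^ l • (E * T ^ l) := by
      intro l
      induction l with
      | zero => simp
      | succ l ih =>
        rw [pow_succ, mul_assoc, hTE, smul_mul_assoc, mul_smul_comm, ← mul_assoc, ih, smul_mul_assoc,
          smul_smul, ← pow_succ', mul_assoc]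
    show T ^ i * π0 * T ^ (m - i) * E = E * (T ^ i * π0 * T ^ (m - i))
    rw [mul_assoc, hh, mul_smul_comm, mul_assoc (T ^ i), ← mul_assoc π0, hπ0E.eq, mul_assoc E π0,
      ← mul_assoc (T ^ i) E, hh, smul_mul_assoc, smul_smul, ← pow_add,
      Nat.sub_add_cancel (Finset.mem_range.1 hi).le, hrm, one_smul]
    simp only [mul_assoc]
  have hπA : Commute π A := by
    rw [← hexp, expP_eq]
    exact Commute.sum_right _ _ _ fun j _ => (hπE.pow_right j).smul_right _
  have hπfix : ∀ w ∈ C, π w = w := by
    intro w hw
    induction hw using Submodule.span_induction with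
    | mem y hy =>
      obtain ⟨j, rfl⟩ := hy
      simp only [hπ, LinearMap.smul_apply, LinearMap.sum_apply, Module.End.mul_apply, hTchain,
        map_smul, hπ0fix _ j.2, hTchain, smul_smul, ← pow_add]
      rw [Finset.sum_congr rfl fun i hi => by
          rw [Nat.sub_add_cancel (Finset.mem_range.1 hi).le, ← hTchain, hm, Module.End.one_apply],
        Finset.sum_const, Finset.card_range, ← Nat.cast_smul_eq_nsmul k, smul_smul,
        inv_mul_cancel₀ hmk, one_smul]
    | zero => rw [map_zero]
    | add y z _ _ hy hz => rw [map_add, hy, hz]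
    | smul c y _ hy => rw [map_smul, hy]
  have hπC : ∀ w, π w ∈ C := fun w => by
    simp only [hπ, LinearMap.smul_apply, LinearMap.sum_apply, Module.End.mul_apply]
    exact Submodule.smul_mem _ _ (sum_mem fun i _ => hTC i _ (hπ0C _))
  have hidem : π * π = π := LinearMap.ext fun w => hπfix _ (hπC w)
  have hπN : ∀ g ∈ Subgroup.normalizer ((P : Subgroup G) : Set G), Commute π (R g) := by
    intro g hg
    obtain ⟨i, j, c, hc⟩ := hN g hg
    rw [hc]
    exact ((hπA.pow_right i).mul_right (hπT.pow_right j)).smul_right c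
  obtain ⟨e, _, q, -, hee, hec, hefix⟩ := exists_lift hπN hP hx
    (pow_eq_zero_of_le (by omega) hAn) hidem
  have he1 : e = 1 := by
    have hv0 : A ((E ^ (a - 1)) v) = (E ^ (a - 1)) v := by
      rw [← hexp]
      refine expP_apply_of_ker p ?_
      rw [← Module.End.mul_apply, ← pow_succ', hzero _ (by omega)]
    have hne : e ((E ^ (a - 1)) v) = (E ^ (a - 1)) v := by
      rw [hefix _ hv0, hπfix _ (hmemC _)]
    rcases hirr.2 (LinearMap.ker e) (fun g w hw => by
      rw [LinearMap.mem_ker] at hw ⊢
      rw [← Module.End.mul_apply, (hec g).eq, Module.End.mul_apply, hw, map_zero]) with h | h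
    · refine LinearMap.ext fun w => ?_
      exact LinearMap.ker_eq_bot.1 h (by rw [← Module.End.mul_apply, hee, Module.End.one_apply])
    · exact absurd (hne.symm.trans (LinearMap.mem_ker.1 (by rw [h]; trivial))) hvU
  have hπ1 : π = 1 := by
    have hb := bijective_of_fix_ker (φ := π) (Δ := A - 1) (hπA.sub_right (Commute.one_right _))
      hAn (fun w hw => by
        rw [LinearMap.sub_apply, Module.End.one_apply, sub_eq_zero] at hw
        rw [← hefix w hw, he1, Module.End.one_apply])
    exact LinearMap.ext fun w => hb.1 (by rw [← Module.End.mul_apply, hidem, Module.End.one_apply])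
  have hCtop : C = ⊤ := top_le_iff.1 fun w _ => by simpa [hπ1] using hπC w
  have han : a = n := by
    have h := finrank_span_eq_card hli
    rw [Fintype.card_fin, ← hC, hCtop, finrank_top] at h
    exact h.symm
  exact ⟨E, v, μ, a, han, ha2, hEa, hvU, hexp, hTE, hv⟩

end Cfsg.Agent.SmallDegree86
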