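import Mathlib
import Cfsg.Agent.Lib.Dickson
import Cfsg.Agent.Lib.DicksonLine
import Cfsg.Agent.Lib.DicksonSubfield
import Cfsg.Agent.Lib.PSLCard
import Cfsg.Agent.Lib.PSL2Small

/-!
Subgroups of `PGL(2)` in characteristic `p` whose order is divisible by `p` exactly once and which
are generated by conjugates of an element of order `p`.
-/

set_option autoImplicit false

open Matrix

namespace Cfsg.Agent.SmallDegree86

open Cfsg.Agent.DicksonLine Cfsg.Agent.DicksonSubfield

/-- A group generated by conjugates of an element of order `p` which contains a normal abelian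
subgroup of exponent `p` containing all commutators is cyclic of order `p`. -/
theorem zpowers_eq_top_of_comm {J : Type*} [Group J] [Finite J] {p : ℕ} [hp : Fact p.Prime] {y : J}
    (hy : orderOf y = p) (hsq : ¬ p ^ 2 ∣ Nat.card J) (hgen : Subgroup.normalClosure {y} = ⊤)
    (hcom : ∀ a b : J, (a * b * a⁻¹ * b⁻¹) ^ p = 1)
    (habel : ∀ a b c d : J, Commute (a * b * a⁻¹ * b⁻¹) (c * d * c⁻¹ * d⁻¹)) :
    Subgroup.zpowers y = ⊤ := by
  have hn : (Subgroup.zpowers y).Normal := by
    refine ⟨fun z hz g => ?_⟩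
    obtain ⟨i, rfl⟩ := Subgroup.mem_zpowers_iff.1 hz
    rw [← conj_zpow]
    refine zpow_mem ?_ i
    set C := Subgroup.closure {c : J | ∃ a b, c = a * b * a⁻¹ * b⁻¹} with hC
    have hCexp : ∀ c ∈ C, c ^ p = 1 ∧ c ∈ C := by
      intro c hc
      refine ⟨?_, hc⟩
      have hcc : ∀ u ∈ C, ∀ v ∈ C, Commute u v := by
        have h1 : C ≤ Subgroup.centralizer {c : J | ∃ a b, c = a * b * a⁻¹ * b⁻¹} := by
          refine (Subgroup.closure_le _).2 ?_
          rintro _ ⟨a, b, rfl⟩
          rw [SetLike.mem_coe, Subgroup.mem_centralizer_iff]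
          rintro _ ⟨a', b', rfl⟩
          exact (habel a' b' a b).eq
        have h2 : C ≤ Subgroup.centralizer (C : Set J) := by
          refine (Subgroup.closure_le _).2 fun d hd => ?_
          rw [SetLike.mem_coe, Subgroup.mem_centralizer_iff]
          intro v hv
          exact (Subgroup.mem_centralizer_iff.1 (h1 hv) d hd).symm
        intro u hu v hv
        exact (Subgroup.mem_centralizer_iff.1 (h2 hv) u hu)
      induction hc using Subgroup.closure_induction with
      | mem x hx => obtain ⟨a, b, rfl⟩ := hx; exact hcom a b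
      | one => exact one_pow p
      | mul u v hu hv hu' hv' => rw [(hcc u hu v hv).mul_pow, hu', hv', one_mul]
      | inv u _ hu' => rw [inv_pow, hu', inv_one]
    have hCp : IsPGroup p C := fun c => ⟨1, Subtype.ext (by simpa using (hCexp c c.2).1)⟩
    have hmem : g * y * g⁻¹ * y⁻¹ ∈ C := Subgroup.subset_closure ⟨g, y, rfl⟩
    obtain ⟨Q, hQ⟩ := hCp.exists_le_sylow
    by_cases h1 : g * y * g⁻¹ * y⁻¹ = 1
    · rw [mul_inv_eq_one] at h1
      rw [h1]
      exact Subgroup.mem_zpowers y
    · have hQc : Nat.card Q = p := by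
        rw [Sylow.card_eq_multiplicity]
        have hd : p ∣ Nat.card J := hy ▸ orderOf_dvd_natCard y
        have hge := hp.out.factorization_pos_of_dvd Nat.card_pos.ne' hd
        have : (Nat.card J).factorization p = 1 := by
          by_contra hne
          exact hsq ((pow_dvd_pow p (show 2 ≤ _ by omega)).trans (Nat.ordProj_dvd (Nat.card J) p))
        rw [this, pow_one]
      have hCQ : C = (Q : Subgroup J) := by
        refine Subgroup.eq_of_le_of_card_ge hQ ?_
        rw [show Nat.card (Q : Subgroup J) = p from hQc]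
        obtain ⟨j, hj⟩ := IsPGroup.iff_card.1 hCp
        rcases Nat.eq_zero_or_pos j with rfl | hpos
        · exfalso
          rw [pow_zero, Subgroup.card_eq_one] at hj
          exact h1 (Subgroup.mem_bot.1 (hj ▸ hmem))
        · rw [hj]
          exact Nat.le_self_pow hpos.ne' p
      have hCn : C.Normal := ⟨fun c hc w => by
        have : w * c * w⁻¹ = (w * c * w⁻¹ * c⁻¹) * c := by group
        rw [this]
        exact mul_mem (Subgroup.subset_closure ⟨w, c, rfl⟩) hc⟩
      have hyQ : y ∈ C := by
        have hpy : IsPGroup p (Subgroup.zpowers y) :=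
          IsPGroup.iff_card.2 ⟨1, by rw [Nat.card_zpowers, hy, pow_one]⟩
        obtain ⟨Q', hQ'⟩ := hpy.exists_le_sylow
        obtain ⟨w, hw⟩ := MulAction.exists_smul_eq J Q Q'
        have : (Q' : Subgroup J) = C := by
          rw [← hw, Sylow.coe_subgroup_smul, ← hCQ]
          ext z
          rw [Subgroup.mem_pointwise_smul_iff_inv_smul_mem]
          constructor
          · intro hz
            have := hCn.conj_mem _ hz w
            simpa [mul_assoc] using this
          · intro hz
            have := hCn.conj_mem _ hz w⁻¹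
            simpa [mul_assoc] using this
        exact this ▸ hQ' (Subgroup.mem_zpowers y)
      have hle : C = Subgroup.zpowers y := by
        refine (Subgroup.eq_of_le_of_card_ge (Subgroup.zpowers_le.2 hyQ) ?_).symm
        rw [hCQ, show Nat.card (Q : Subgroup J) = p from hQc, Nat.card_zpowers, hy]
      have := mul_mem hmem hyQ
      rw [hle, inv_mul_cancel_right] at this
      exact this
  rw [← top_le_iff, ← hgen]
  exact Subgroup.normalClosure_le_normal (by simp)

variable {F : Type*} [Field F] [Finite F] {p : ℕ} [hp : Fact p.Prime] [CharP F p]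

omit [Finite F] hp [CharP F p] in
theorem exists_aff_comm {c a b : Matrix.ProjGenLinGroup (Fin 2) F} {x₀ : OnePoint F}
    (hc : c • x₀ = OnePoint.infty) (ha : a • x₀ = x₀) (hb : b • x₀ = x₀) :
    ∃ u : F, c * (a * b * a⁻¹ * b⁻¹) * c⁻¹ = aff 1 u := by
  have h : ∀ g : Matrix.ProjGenLinGroup (Fin 2) F, g • x₀ = x₀ →
      (c * g * c⁻¹) • (OnePoint.infty : OnePoint F) = OnePoint.infty := fun g hg => by
    rw [← hc, mul_smul, mul_smul, inv_smul_smul, hg]
  obtain ⟨m, u, hm⟩ := exists_aff (h a ha)
  obtain ⟨n, v, hn⟩ := exists_aff (h b hb)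
  have e : c * (a * b * a⁻¹ * b⁻¹) * c⁻¹ =
      (c * a * c⁻¹) * (c * b * c⁻¹) * (c * a * c⁻¹)⁻¹ * (c * b * c⁻¹)⁻¹ := by group
  rw [e, hm, hn, aff_inv, aff_inv, aff_mul, aff_mul, aff_mul, mul_comm m n, mul_inv_cancel_right,
    mul_inv_cancel]
  exact ⟨_, rfl⟩

omit [Finite F] in
theorem aff_one_pow (u : F) : (aff (1 : Fˣ) u) ^ p = 1 := by
  have h : ∀ n : ℕ, (aff (1 : Fˣ) u) ^ n = aff 1 (n * u) := by
    intro n
    induction n with
    | zero => simp [aff_one]
    | succ n ih => rw [pow_succ, ih, aff_mul, mul_one, Units.val_one, one_mul]; push_cast; ring_nf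
  rw [h, CharP.cast_eq_zero, zero_mul, aff_one]

/-- Recognition of `PSL(2,p)`. -/
theorem psl_of_pgl (hp5 : 5 ≤ p) (J : Subgroup (Matrix.ProjGenLinGroup (Fin 2) F)) {y : J}
    (hy : orderOf y = p) (hsq : ¬ p ^ 2 ∣ Nat.card J) (hgen : Subgroup.normalClosure {y} = ⊤)
    (hnc : Subgroup.zpowers y ≠ ⊤) :
    Nonempty (J ≃* Matrix.ProjectiveSpecialLinearGroup (Fin 2) (ZMod p)) := by
  have hdvd : p ∣ Nat.card J := hy ▸ orderOf_dvd_natCard y
  rcases Dickson.dickson_pgl p J with ⟨-, h⟩ | ⟨x₀, hx₀, -⟩ | ⟨C, -, hC, hCi, -, -⟩ | ⟨⟨e⟩⟩ | ⟨⟨e⟩⟩ |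
    ⟨⟨e⟩⟩ | ⟨R, hR, h⟩
  · exact absurd hdvd h
  · exfalso
    refine hnc (zpowers_eq_top_of_comm hy hsq hgen (fun a b => ?_) fun a b c d => ?_)
    all_goals obtain ⟨w, hw⟩ := exists_smul_eq_infty x₀
    · obtain ⟨u, hu⟩ := exists_aff_comm hw (MulAction.mem_stabilizer_iff.1 (hx₀ a.2))
        (MulAction.mem_stabilizer_iff.1 (hx₀ b.2))
      refine Subtype.ext ?_
      have h1 : (w * ((a : Matrix.ProjGenLinGroup (Fin 2) F) * b * (a : Matrix.ProjGenLinGroup (Fin 2) F)⁻¹ *
          (b : Matrix.ProjGenLinGroup (Fin 2) F)⁻¹) * w⁻¹) ^ p = 1 := by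
        rw [hu]
        exact aff_one_pow u
      rw [conj_pow] at h1
      simpa using h1
    · obtain ⟨u, hu⟩ := exists_aff_comm hw (MulAction.mem_stabilizer_iff.1 (hx₀ a.2))
        (MulAction.mem_stabilizer_iff.1 (hx₀ b.2))
      obtain ⟨v, hv⟩ := exists_aff_comm hw (MulAction.mem_stabilizer_iff.1 (hx₀ c.2))
        (MulAction.mem_stabilizer_iff.1 (hx₀ d.2))
      have h1 : Commute (aff (1 : Fˣ) u) (aff 1 v) := by
        show _ = _
        rw [aff_mul, aff_mul, Units.val_one, one_mul, one_mul, one_mul, add_comm]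
      rw [← hu, ← hv] at h1
      have h2 := h1.map (MulAut.conj w⁻¹).toMonoidHom
      simp only [MulEquiv.coe_toMonoidHom, MulAut.conj_apply, inv_inv] at h2
      refine Subtype.ext ?_
      simpa [mul_assoc] using h2.eq
  · exfalso
    rw [← Subgroup.index_mul_card C, hCi] at hdvd
    rcases hp.out.dvd_mul.1 hdvd with h | h
    · exact absurd (Nat.le_of_dvd two_pos h) (by omega)
    · exact hC h
  · exfalso
    rw [Nat.card_congr e.toEquiv] at hdvd
    rw [nat_card_alternatingGroup, Nat.card_eq_fintype_card, Fintype.card_fin] at hdvd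
    rcases hp.out.dvd_mul.1 (show p ∣ 3 * 4 by simpa [Nat.factorial] using hdvd) with h | h <;>
      have := Nat.le_of_dvd (by norm_num) h <;> omega
  · exfalso
    rw [Nat.card_congr e.toEquiv, Nat.card_perm, Nat.card_eq_fintype_card, Fintype.card_fin] at hdvd
    have := (hp.out.dvd_factorial).1 hdvd
    omega
  · have h5 : p = 5 := by
      rw [Nat.card_congr e.toEquiv, nat_card_alternatingGroup, Nat.card_eq_fintype_card,
        Fintype.card_fin] at hdvd
      have : p ∣ Nat.factorial 5 := hdvd.trans (Nat.div_dvd_of_dvd (Nat.dvd_factorial two_pos (by norm_num)))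
      have := (hp.out.dvd_factorial).1 this
      omega
    subst h5
    obtain ⟨f⟩ := PSL2Small.psl2_five (ZMod 5) (by simp)
    exact ⟨e.trans f.symm⟩
  · haveI : CharP R p := inferInstance
    cases nonempty_fintype R
    obtain ⟨f, hp', hf⟩ := FiniteField.card R p
    have hRp : Nat.card R = p := by
      rw [Nat.card_eq_fintype_card, hf]
      suffices (f : ℕ) = 1 by rw [this, pow_one]
      by_contra hne
      have hf2 : 2 ≤ (f : ℕ) := by have := f.pos; omega
      have hodd : Odd (Nat.card R) := by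
        rw [Nat.card_eq_fintype_card, hf]
        exact (hp.out.odd_of_ne_two (by omega)).pow
      have hpR : p ^ 2 ∣ Nat.card R := by
        rw [Nat.card_eq_fintype_card, hf]; exact pow_dvd_pow p hf2
      rcases h with ⟨⟨e⟩⟩ | ⟨-, ⟨e⟩⟩
      · exact hsq (by rw [Nat.card_congr e.toEquiv, PSLCard.card_PGL2]; exact hpR.mul_right _)
      · refine hsq ?_
        rw [Nat.card_congr e.toEquiv, PSLCard.card_PSL2_odd hodd, Nat.mul_div_assoc _ ?_]
        · exact hpR.mul_right _
        · obtain ⟨c, hc⟩ := hodd.pow (n := 2)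
          exact ⟨c, by omega⟩
    haveI : Fact (2 ≤ p) := ⟨by omega⟩
    rcases h with ⟨⟨e⟩⟩ | ⟨-, ⟨e⟩⟩
    · exfalso
      set S : Subgroup (Matrix.ProjGenLinGroup (Fin 2) R) :=
        (Matrix.ProjectiveSpecialLinearGroup.toPGL (n := Fin 2) (R := R)).range with hS
      have hScard : S.index = 2 := by
        have h1 := S.index_mul_card
        have hodd : Odd (Nat.card R) := by rw [hRp]; exact hp.out.odd_of_ne_two (by omega)
        rw [hS, Nat.card_congr (MonoidHom.ofInjective
          (Matrix.ProjectiveSpecialLinearGroup.toPGL_injective (n := Fin 2) (R := R))).symm.toEquiv,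
          PSLCard.card_PGL2, PSLCard.card_PSL2_odd hodd] at h1
        obtain ⟨c, hc⟩ := hodd.pow (n := 2)
        rw [show Nat.card R ^ 2 - 1 = c * 2 by omega] at h1
        rw [← mul_assoc, Nat.mul_div_cancel _ two_pos] at h1
        have hpos : 0 < Nat.card R * c := Nat.mul_pos Nat.card_pos (by
          rcases Nat.eq_zero_or_pos c with h0 | h0
          · rw [h0] at hc; nlinarith
          · exact h0)
        exact Nat.eq_of_mul_eq_mul_right hpos (by linear_combination h1)
      haveI := Subgroup.normal_of_index_eq_two hScard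
      have hmem : y ∈ S.comap e.toMonoidHom := by
        rw [Subgroup.mem_comap]
        have hpow : (e y) ^ p = 1 := by rw [← map_pow, ← hy, pow_orderOf_eq_one, map_one]
        rw [← QuotientGroup.eq_one_iff, ← orderOf_eq_one_iff]
        have h1 : orderOf ((e y : Matrix.ProjGenLinGroup (Fin 2) R) : Matrix.ProjGenLinGroup (Fin 2) R ⧸ S) ∣ p := by
          refine orderOf_dvd_of_pow_eq_one ?_
          rw [← QuotientGroup.mk_pow, hpow, QuotientGroup.mk_one]
        have h2 := orderOf_dvd_natCard ((e y : Matrix.ProjGenLinGroup (Fin 2) R) : Matrix.ProjGenLinGroup (Fin 2) R ⧸ S)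
        rw [← Subgroup.index_eq_card, hScard] at h2
        rcases (Nat.dvd_prime hp.out).1 h1 with h | h
        · exact h
        · rw [h] at h2
          exact absurd (Nat.le_of_dvd two_pos h2) (by omega)
      have htop : S.comap e.toMonoidHom = ⊤ := by
        rw [← top_le_iff, ← hgen]
        exact Subgroup.normalClosure_le_normal (by simpa using hmem)
      have : S = ⊤ := by
        rw [← top_le_iff]
        intro z _
        obtain ⟨w, rfl⟩ := e.surjective z
        have hw : w ∈ S.comap e.toMonoidHom := by rw [htop]; trivial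
        exact hw
      rw [this, Subgroup.index_top] at hScard
      omega
    · exact ⟨e.trans (PSLCard.pslEquivOfCard (K := R) (L := ZMod p) (by rw [hRp, Nat.card_zmod]))⟩

end Cfsg.Agent.SmallDegree86
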