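import Mathlib

/-!
Truncated exponentials of nilpotent elements in characteristic `p` and their inverse.
-/

set_option autoImplicit false

namespace Cfsg.Agent.SmallDegree86

open Polynomial Finset

variable {k : Type*} [Field k]

/-- A series with vanishing constant and linear coefficient `1` has a truncated inverse. -/
theorem exists_comp_inverse (f : k[X]) (h0 : f.coeff 0 = 0) (h1 : f.coeff 1 = 1) (N : ℕ) :
    ∃ q : k[X], q.coeff 0 = 0 ∧ q.coeff 1 = 1 ∧ X ^ (N + 2) ∣ q.comp f - X := by
  induction N with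
  | zero =>
    refine ⟨X, by simp, by simp, Polynomial.X_pow_dvd_iff.2 fun d hd => ?_⟩
    interval_cases d <;> simp [h0, h1]
  | succ N ih =>
    obtain ⟨q, hq0, hq1, hdvd⟩ := ih
    set c := (q.comp f - X).coeff (N + 2) with hc
    refine ⟨q - C c * X ^ (N + 2), by simp [hq0], by simp [hq1, coeff_X_pow],
      Polynomial.X_pow_dvd_iff.2 fun d hd => ?_⟩
    obtain ⟨g, hg⟩ : X ∣ f := Polynomial.X_dvd_iff.2 h0
    have hg0 : g.coeff 0 = 1 := by rw [← h1, hg, coeff_X_mul]
    rw [sub_comp, mul_comp, C_comp, pow_comp, X_comp, hg, mul_pow, ← hg, sub_right_comm, coeff_sub,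
      coeff_C_mul, coeff_X_pow_mul']
    rcases lt_or_eq_of_le (Nat.lt_succ_iff.1 hd) with hd | hd
    · rw [Polynomial.X_pow_dvd_iff.1 hdvd d hd, if_neg (by omega)]
      simp
    · subst hd
      rw [if_pos le_rfl, Nat.sub_self, ← hc, coeff_zero_eq_eval_zero, eval_pow,
        ← coeff_zero_eq_eval_zero, hg0, one_pow, mul_one, sub_self]

/-- Congruent series give congruent compositions. -/
theorem dvd_comp_sub_comp {a b c : k[X]} {N : ℕ} (h : X ^ N ∣ a - b) (hc : c.coeff 0 = 0) :
    X ^ N ∣ a.comp c - b.comp c := by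
  obtain ⟨d, hd⟩ := h
  obtain ⟨e, he⟩ : X ∣ c := Polynomial.X_dvd_iff.2 hc
  rw [← sub_comp, hd, mul_comp, pow_comp, X_comp, he, mul_pow, mul_assoc]
  exact dvd_mul_right _ _

theorem dvd_comp_sub_comp' {a b c : k[X]} {N : ℕ} (h : X ^ N ∣ a - b) :
    X ^ N ∣ c.comp a - c.comp b := by
  refine h.trans ?_
  have h1 : a - b ∣ (c.map C).eval a - (c.map C).eval b := Polynomial.sub_dvd_eval_sub a b _
  simpa only [eval_map, ← comp_eq_aeval, aeval_def, algebraMap_eq, comp] using h1

section Exp

variable {A : Type*} [Ring A] [Algebra k A]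

variable (p : ℕ)

/-- The truncated exponential series. -/
noncomputable def expPoly : k[X] := ∑ j ∈ range p, C ((Nat.factorial j : k)⁻¹) * X ^ j

/-- The truncated exponential of an element. -/
noncomputable def expP (Y : A) : A := aeval Y (expPoly (k := k) p)

theorem expP_eq (Y : A) : expP (k := k) p Y = ∑ j ∈ range p, ((Nat.factorial j : k)⁻¹) • Y ^ j := by
  simp [expP, expPoly, ← Algebra.smul_def]

theorem expP_map {B : Type*} [Ring B] [Algebra k B] (φ : A →ₐ[k] B) (Y : A) :
    expP (k := k) p (φ Y) = φ (expP (k := k) p Y) :=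
  aeval_algHom_apply φ Y _

theorem expP_zero (hp : 0 < p) : expP (k := k) p (0 : A) = 1 := by
  rw [expP_eq, sum_eq_single_of_mem 0 (mem_range.2 hp) fun b _ hb => by simp [zero_pow hb]]
  simp

theorem expPoly_coeff (d : ℕ) :
    (expPoly (k := k) p).coeff d = if d < p then (Nat.factorial d : k)⁻¹ else 0 := by
  simp [expPoly, coeff_C_mul, coeff_X_pow]

variable [hp : Fact p.Prime] [CharP k p]

omit [Algebra k A] in
theorem factorial_ne_zero {j : ℕ} (hj : j < p) : (Nat.factorial j : k) ≠ 0 := by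
  rw [Ne, CharP.cast_eq_zero_iff k p, hp.out.dvd_factorial]
  omega

/-- The truncated exponential turns sums of commuting nilpotent elements into products. -/
theorem expP_add {Y Z : A} (hYZ : Commute Y Z) {a b : ℕ} (hY : Y ^ a = 0) (hZ : Z ^ b = 0)
    (hab : a + b ≤ p + 1) : expP (k := k) p (Y + Z) = expP (k := k) p Y * expP (k := k) p Z := by
  have hvan : ∀ i j : ℕ, p ≤ i + j → Y ^ i * Z ^ j = 0 := by
    intro i j hij
    rcases Nat.lt_or_ge i a with h | h
    · rw [pow_eq_zero_of_le (m := b) (n := j) (by omega) hZ, mul_zero]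
    · rw [pow_eq_zero_of_le h hY, zero_mul]
  simp only [expP_eq, sum_mul, mul_sum, smul_mul_smul_comm]
  conv_rhs => rw [sum_comm]
  rw [← sum_product' (range p) (range p)
    (fun i j => (((Nat.factorial i : k))⁻¹ * ((Nat.factorial j : k))⁻¹) • (Y ^ i * Z ^ j))]
  rw [← sum_filter_of_ne (s := range p ×ˢ range p) (p := fun x => x.1 + x.2 < p) (fun x _ hx => by
    by_contra h
    exact hx (by rw [hvan _ _ (not_lt.1 h), smul_zero]))]
  have hL : ∀ n ∈ range p, ((Nat.factorial n : k))⁻¹ • (Y + Z) ^ n = ∑ i ∈ range (n + 1),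
      (((Nat.factorial i : k))⁻¹ * ((Nat.factorial (n - i) : k))⁻¹) • (Y ^ i * Z ^ (n - i)) := by
    intro n hn
    rw [hYZ.add_pow, smul_sum]
    refine sum_congr rfl fun i hi => ?_
    have hin : i ≤ n := Nat.lt_succ_iff.1 (mem_range.1 hi)
    rw [(Nat.cast_commute (n.choose i) (Y ^ i * Z ^ (n - i))).eq.symm, ← nsmul_eq_mul,
      ← Nat.cast_smul_eq_nsmul k, smul_smul]
    congr 1
    have e : ((n.choose i : k)) * (Nat.factorial i : k) * (Nat.factorial (n - i) : k) =
        (Nat.factorial n : k) := by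
      exact_mod_cast congrArg (Nat.cast (R := k)) (Nat.choose_mul_factorial_mul_factorial hin)
    have h1 := factorial_ne_zero (k := k) p (show i < p by have := mem_range.1 hn; omega)
    have h2 := factorial_ne_zero (k := k) p (show n - i < p by have := mem_range.1 hn; omega)
    have h3 := factorial_ne_zero (k := k) p (mem_range.1 hn)
    field_simp
    linear_combination e
  rw [sum_congr rfl hL, sum_sigma']
  refine sum_bij' (fun x _ => (x.2, x.1 - x.2)) (fun x _ => ⟨x.1 + x.2, x.1⟩) ?_ ?_ ?_ ?_ ?_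
  · intro x hx
    simp only [mem_sigma, mem_range] at hx
    simp only [mem_filter, mem_product, mem_range]
    omega
  · intro x hx
    simp only [mem_filter, mem_product, mem_range] at hx
    simp only [mem_sigma, mem_range]
    omega
  · intro x hx
    simp only [mem_sigma, mem_range] at hx
    refine Sigma.ext ?_ ?_ <;> simp; omega
  · intro x hx
    simp
  · intro x hx
    rfl

/-- Powers of a truncated exponential. -/
theorem expP_nsmul {Y : A} {a : ℕ} (hY : Y ^ a = 0) (ha : a + a ≤ p + 1) (r : ℕ) :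
    expP (k := k) p (r • Y) = expP (k := k) p Y ^ r := by
  induction r with
  | zero => rw [zero_smul, pow_zero, expP_zero p hp.out.pos]
  | succ r ih =>
    rw [succ_nsmul, pow_succ, ← ih]
    exact expP_add p (Commute.smul_left (Commute.refl Y) r) (by rw [_root_.smul_pow, hY, smul_zero]) hY ha

theorem expP_neg_mul {Y : A} {a : ℕ} (hY : Y ^ a = 0) (ha : a + a ≤ p + 1) :
    expP (k := k) p (-Y) * expP (k := k) p Y = 1 := by
  rw [← expP_add p (Commute.refl Y).neg_left (by rw [neg_pow, hY, mul_zero]) hY ha, neg_add_cancel,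
    expP_zero p hp.out.pos]

theorem exists_logPoly : ∃ lg : k[X], lg.coeff 0 = 0 ∧
    X ^ (p + 2) ∣ lg.comp (expPoly (k := k) p - 1) - X ∧
    X ^ (p + 2) ∣ (expPoly (k := k) p - 1).comp lg - X := by
  set f : k[X] := expPoly (k := k) p - 1 with hf
  have hf0 : f.coeff 0 = 0 := by simp [hf, expPoly_coeff, hp.out.pos]
  have hf1 : f.coeff 1 = 1 := by simp [hf, expPoly_coeff, hp.out.one_lt, coeff_one]
  obtain ⟨q, hq0, hq1, hq⟩ := exists_comp_inverse f hf0 hf1 p
  obtain ⟨q', -, -, hq'⟩ := exists_comp_inverse q hq0 hq1 p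
  refine ⟨q, hq0, hq, ?_⟩
  have e1 : X ^ (p + 2) ∣ q'.comp (q.comp f) - f := by
    have := dvd_comp_sub_comp hq' hf0
    rwa [comp_assoc, X_comp] at this
  have e2 : X ^ (p + 2) ∣ q'.comp (q.comp f) - q' := by
    have := dvd_comp_sub_comp' (c := q') hq
    rwa [comp_X] at this
  have e3 : X ^ (p + 2) ∣ f - q' := by
    have := dvd_sub e2 e1
    simpa using this
  have e4 := dvd_comp_sub_comp e3 hq0
  have := dvd_add e4 hq'
  simpa using this

/-- The truncated logarithmic series. -/
noncomputable def logPoly : k[X] := (exists_logPoly (k := k) p).choose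

/-- The truncated logarithm of `1 + Y`. -/
noncomputable def logP (Y : A) : A := aeval Y (logPoly (k := k) p)

theorem aeval_eq_of_dvd {Y : A} {N : ℕ} (hY : Y ^ N = 0) (hN : N ≤ p) {u v : k[X]}
    (huv : X ^ (p + 2) ∣ u - v) : aeval Y u = aeval Y v := by
  obtain ⟨w, hw⟩ := huv
  rw [← sub_eq_zero, ← map_sub, hw, map_mul, map_pow, aeval_X,
    pow_eq_zero_of_le (m := N) (by omega) hY, zero_mul]

theorem logP_expP {Y : A} {N : ℕ} (hY : Y ^ N = 0) (hN : N ≤ p) :
    logP (k := k) p (expP (k := k) p Y - 1) = Y := by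
  have := aeval_eq_of_dvd p hY hN (exists_logPoly (k := k) p).choose_spec.2.1
  rwa [aeval_comp, aeval_X, map_sub, map_one] at this

theorem expP_logP {Y : A} {N : ℕ} (hY : Y ^ N = 0) (hN : N ≤ p) :
    expP (k := k) p (logP (k := k) p Y) = 1 + Y := by
  have := aeval_eq_of_dvd p hY hN (exists_logPoly (k := k) p).choose_spec.2.2
  rw [aeval_comp, aeval_X, map_sub, map_one, sub_eq_iff_eq_add] at this
  rw [expP, logP, logPoly, this, add_comm]

end Exp

end Cfsg.Agent.SmallDegree86
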