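import Mathlib
import Cfsg.Agent.Lib.BlockTheoryLocalRing

/-!
Reduction modulo a prime of a complex representation, over a valuation ring of `ℂ`.
-/

set_option autoImplicit false

namespace Cfsg.Agent.SmallFaithful86

open Cfsg Cfsg.Agent.BlockTheoryLocalRing

universe u

/-- A matrix of finite order prime to the residue characteristic which is residually the identity
is the identity. -/
theorem eq_one_of_map_eq_one {B L : Type*} [CommRing B] [Field L] (res : B →+* L) [IsLocalHom res]
    {ι : Type*} [Fintype ι] [DecidableEq ι] {A : Matrix ι ι B} {m : ℕ} (hm : (m : L) ≠ 0)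
    (hA : A ^ m = 1) (h1 : res.mapMatrix A = 1) : A = 1 := by
  have hS : (∑ i ∈ Finset.range m, A ^ i) * (A - 1) = 0 := by rw [geom_sum_mul, hA, sub_self]
  have hres : res.mapMatrix (∑ i ∈ Finset.range m, A ^ i) = (m : L) • 1 := by
    rw [map_sum, Finset.sum_congr rfl fun i _ => by rw [map_pow, h1, one_pow], Finset.sum_const,
      Finset.card_range, Nat.cast_smul_eq_nsmul]
  have hdet : IsUnit (∑ i ∈ Finset.range m, A ^ i).det := by
    refine IsUnit.of_map res _ ?_
    rw [RingHom.map_det, hres, Matrix.det_smul, Matrix.det_one, mul_one]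
    exact (pow_ne_zero _ hm).isUnit
  exact sub_eq_zero.1 (((Matrix.isUnit_iff_isUnit_det _).2 hdet).mul_right_eq_zero.1 hS)

variable {p : ℕ} {M : Ideal AlgInt} {G : Type u} [Group G] [Fintype G]

/-- A complex representation has a reduction modulo `p` in which only elements of `p`-singular
order become trivial. -/
theorem exists_reduction (hM : IsPModular p M) {n : ℕ} (ρ : Representation ℂ G (Fin n → ℂ)) :
    ∃ (k : Type) (_ : Field k) (_ : CharP k p) (red : localRing hM →+* k),
      (∀ z : localRing hM, MemLocalIdeal M (z : ℂ) → red z = 0) ∧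
      ∃ R : G →* Module.End k (Fin n → k), ∀ g : G, R g = 1 → ¬ p ∣ orderOf g → ρ g = 1 := by
  classical
  obtain ⟨B, hAB, hMB⟩ := Ideal.image_subset_nonunits_valuationSubring
    (A := (AlgInt : Subalgebra ℤ ℂ).toSubring) M hM.2.1.ne_top
  have hmem : ∀ a : AlgInt, (a : ℂ) ∈ B := fun a => hAB a.2
  set res : B →+* IsLocalRing.ResidueField B := IsLocalRing.residue B with hresdef
  have hres0 : ∀ a : AlgInt, a ∈ M → res ⟨(a : ℂ), hmem a⟩ = 0 := fun a ha => by
    refine (IsLocalRing.residue_eq_zero_iff _).2 ?_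
    exact (B.coe_mem_nonunits_iff (a := ⟨(a : ℂ), hmem a⟩)).1 (hMB ⟨a, ha, rfl⟩)
  have hres1 : ∀ b : AlgInt, b ∉ M → res ⟨(b : ℂ), hmem b⟩ ≠ 0 := by
    intro b hb h0
    obtain ⟨c, i, hi, hci⟩ := hM.2.1.exists_inv hb
    have e : (⟨(c : ℂ), hmem c⟩ : B) * ⟨(b : ℂ), hmem b⟩ + ⟨(i : ℂ), hmem i⟩ = 1 :=
      Subtype.ext (by push_cast; exact_mod_cast congrArg (fun x : AlgInt => (x : ℂ)) hci)
    have := congrArg res e
    rw [map_add, map_mul, h0, mul_zero, hres0 i hi, zero_add, map_one] at this
    exact zero_ne_one this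
  have hle : localRing hM ≤ B.toSubring := by
    rintro z ⟨a, b, hb, rfl⟩
    obtain ⟨u, hu⟩ : IsUnit (⟨(b : ℂ), hmem b⟩ : B) := (IsLocalRing.residue_ne_zero_iff_isUnit _).1 (hres1 b hb)
    have hinv : ((b : ℂ))⁻¹ = (((u⁻¹ : Bˣ) : B) : ℂ) := by
      refine inv_eq_of_mul_eq_one_right ?_
      have h := congrArg (fun x : B => (x : ℂ)) (Units.mul_inv u)
      rw [hu] at h
      simpa using h
    show (a : ℂ) / (b : ℂ) ∈ B
    rw [div_eq_mul_inv, hinv]
    exact mul_mem (hmem a) ((u⁻¹ : Bˣ) : B).2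
  haveI hchar : CharP (IsLocalRing.ResidueField B) p := by
    refine (CharP.charP_iff_prime_eq_zero hM.1).2 ?_
    have h := hres0 (p : AlgInt) hM.2.2
    rwa [show (⟨((p : AlgInt) : ℂ), hmem _⟩ : B) = (p : B) from Subtype.ext (by push_cast; rfl),
      map_natCast] at h
  refine ⟨IsLocalRing.ResidueField B, inferInstance, hchar, res.comp (Subring.inclusion hle),
    fun z hz => ?_, ?_⟩
  · obtain ⟨a, b, ha, hb, h⟩ := hz
    have e : (Subring.inclusion hle z : B) * ⟨(b : ℂ), hmem b⟩ = ⟨(a : ℂ), hmem a⟩ :=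
      Subtype.ext (by
        show (z : ℂ) * (b : ℂ) = (a : ℂ)
        rw [← h, div_mul_cancel₀ _ (coe_ne_zero hb)])
    have := congrArg res e
    rw [map_mul, hres0 a ha] at this
    exact (mul_eq_zero.1 this).resolve_right (hres1 b hb)
  set L : Submodule B (Fin n → ℂ) :=
    Submodule.span B (Set.range fun x : G × Fin n => ρ x.1 (Pi.single x.2 1)) with hL
  haveI : Module.Finite B L := Module.Finite.span_of_finite B (Set.finite_range _)
  haveI : Module.Flat B L := by
    rw [Module.Flat.flat_iff_torsion_eq_bot_of_isBezout, ← Submodule.isTorsionFree_iff_torsion_eq_bot]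
    infer_instance
  haveI : Module.Free B L := Module.free_of_flat_of_isLocalRing
  set b0 := Module.Free.chooseBasis B L
  set v : Module.Free.ChooseBasisIndex B L → (Fin n → ℂ) := fun i => (b0 i : Fin n → ℂ) with hv
  have hli : LinearIndependent ℂ v :=
    (LinearIndependent.iff_fractionRing B ℂ).1
      (b0.linearIndependent.map' L.subtype (Submodule.ker_subtype L))
  have hrepr : ∀ y ∈ L, ∃ c : Module.Free.ChooseBasisIndex B L → B, ∑ i, (c i : ℂ) • v i = y := by
    intro y hy
    refine ⟨fun i => b0.repr ⟨y, hy⟩ i, ?_⟩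
    have h := congrArg L.subtype (b0.sum_repr ⟨y, hy⟩)
    rw [map_sum] at h
    simp only [map_smul, Submodule.subtype_apply] at h
    exact h
  have hspan : ⊤ ≤ Submodule.span ℂ (Set.range v) := by
    rw [← (Pi.basisFun ℂ (Fin n)).span_eq, Submodule.span_le]
    rintro _ ⟨i, rfl⟩
    obtain ⟨c, hc⟩ := hrepr _ (Submodule.subset_span (⟨(1, i), rfl⟩) :
      ρ 1 (Pi.single i 1) ∈ L)
    rw [Pi.basisFun_apply]
    rw [map_one, Module.End.one_apply] at hc
    rw [SetLike.mem_coe, ← hc]
    exact Submodule.sum_mem _ fun j _ => Submodule.smul_mem _ _ (Submodule.subset_span ⟨j, rfl⟩)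
  set b1 := Module.Basis.mk hli hspan with hb1
  set e := (b1.indexEquiv (Pi.basisFun ℂ (Fin n))) with he
  set b := b1.reindex e with hb
  have hinvL : ∀ (g : G), ∀ y ∈ L, ρ g y ∈ L := by
    intro g y hy
    induction hy using Submodule.span_induction with
    | mem x hx =>
      obtain ⟨⟨h, i⟩, rfl⟩ := hx
      refine Submodule.subset_span ⟨(g * h, i), ?_⟩
      simp [map_mul]
    | zero => rw [map_zero]; exact zero_mem _
    | add x z _ _ hx hz => rw [map_add]; exact add_mem hx hz
    | smul a x _ hx =>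
      show ρ g ((a : ℂ) • x) ∈ L
      rw [map_smul]
      exact L.smul_mem a hx
  have hent : ∀ (g : G) (i j : Fin n), LinearMap.toMatrixAlgEquiv b (ρ g) i j ∈ B := by
    intro g i j
    rw [LinearMap.toMatrixAlgEquiv_apply]
    obtain ⟨c, hc⟩ := hrepr _ (hinvL g _ (b0 (e.symm j)).2)
    have hbj : b j = (b0 (e.symm j) : Fin n → ℂ) := by
      rw [hb, Module.Basis.reindex_apply, hb1, Module.Basis.mk_apply]
    have hc' : ∑ i, (c i : ℂ) • b1 i = ρ g (b j) := by
      rw [hbj, ← hc]
      exact Finset.sum_congr rfl fun i _ => by rw [hb1, Module.Basis.mk_apply]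
    rw [hb, Module.Basis.repr_reindex_apply, ← hb, ← hc', b1.repr_sum_self]
    exact (c (e.symm i)).2
  set Φ : G →* Matrix (Fin n) (Fin n) ℂ :=
    ((LinearMap.toMatrixAlgEquiv b).toAlgHom.toRingHom.toMonoidHom).comp ρ with hΦ
  have hinj : Function.Injective (B.subtype.mapMatrix : Matrix (Fin n) (Fin n) B →+* _) :=
    fun X Y h => Matrix.ext fun i j => Subtype.ext (congrFun (congrFun h i) j)
  let Ψ : G →* Matrix (Fin n) (Fin n) B :=
    { toFun := fun g => Matrix.of fun i j => ⟨Φ g i j, hent g i j⟩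
      map_one' := hinj ((show B.subtype.mapMatrix _ = Φ 1 from rfl).trans (by rw [map_one, map_one]))
      map_mul' := fun g h => hinj ((show B.subtype.mapMatrix _ = Φ (g * h) from rfl).trans
        (by rw [map_mul, map_mul]; rfl)) }
  refine ⟨(Matrix.toLinAlgEquiv'.toAlgHom.toRingHom.toMonoidHom).comp
    (res.mapMatrix.toMonoidHom.comp Ψ), fun g hg hord => ?_⟩
  have h1 : res.mapMatrix (Ψ g) = 1 := Matrix.toLinAlgEquiv'.injective (hg.trans (map_one _).symm)
  have h2 := eq_one_of_map_eq_one res (m := orderOf g)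
    (by rwa [Ne, CharP.cast_eq_zero_iff (IsLocalRing.ResidueField B) p])
    (by rw [← map_pow, pow_orderOf_eq_one, map_one]) h1
  have h3 : Φ g = 1 := by
    have := congrArg B.subtype.mapMatrix h2
    rw [map_one] at this
    exact this
  exact (LinearMap.toMatrixAlgEquiv b).injective (h3.trans (map_one _).symm)

end Cfsg.Agent.SmallFaithful86
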