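import Cfsg.Agent.Lib.BlockPrimeCount86
import Cfsg.Agent.Lib.PrincipalCentral80
import Cfsg.Agent.Lib.SmallFaithfulReduction86

/-!
In a modular representation of degree less than `(p + 1) / 2` of a group with a Sylow subgroup `P`
of prime order, the conjugates of `P` commute with the regular part of the centralizer of `P`.
-/

set_option autoImplicit false

open scoped ComplexConjugate

namespace Cfsg.Agent.SmallFaithful86

open Cfsg Cfsg.Agent.BlockTheoryLocalRing Cfsg.Agent.BlockTheoryCentre
  Cfsg.Agent.BlockTheoryIdem Cfsg.Agent.BlockPrime86 Cfsg.Agent.PrincipalSylow80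

attribute [local instance] Classical.propDecidable

universe u

variable {G : Type u} [Group G] [Fintype G] {p : ℕ} [Fact p.Prime] (P : Sylow p G)

/-- The regular elements of the centralizer of a Sylow subgroup form a subgroup. -/
theorem exists_regular_subgroup : ∃ K : Subgroup (Cz P),
    (∀ c, c ∈ K ↔ ¬ p ∣ orderOf (c : G)) ∧ Nat.card K = Nat.card (Q P) := by
  have hpg : IsPGroup p (Zc P) :=
    IsPGroup.comap_of_injective P.isPGroup' (Cz P).subtype (Subgroup.subtype_injective _)
  obtain ⟨j, hj⟩ := IsPGroup.iff_card.1 hpg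
  have hQ := not_dvd_card_Q P
  have hco : Nat.Coprime (Nat.card (Zc P)) (Zc P).index := by
    rw [hj, Subgroup.index_eq_card]
    exact Nat.Coprime.pow_left j ((Fact.out : p.Prime).coprime_iff_not_dvd.2 hQ)
  obtain ⟨K, hK⟩ := Subgroup.exists_right_complement'_of_coprime hco
  have hcard : Nat.card K = Nat.card (Q P) := by
    rw [← Subgroup.index_eq_card, hK.symm.index_eq_card]
  have hreg : ∀ c ∈ K, ¬ p ∣ orderOf (c : G) := fun c hc h => by
    rw [Subgroup.orderOf_coe] at h
    exact hQ (hcard ▸ h.trans (Subgroup.orderOf_dvd_natCard K hc))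
  refine ⟨K, fun c => ⟨hreg c, fun hc => ?_⟩, hcard⟩
  obtain ⟨⟨z, k⟩, hzk⟩ := hK.2 c
  have hq : (c : Q P) = ((k : Cz P) : Q P) := by
    have h1 : ((z : Cz P) : Q P) = 1 := (QuotientGroup.eq_one_iff _).2 z.2
    rw [← hzk]
    simp [h1]
  rw [reg_unique P hq hc (hreg _ k.2)]
  exact k.2

variable {P} [Fintype ↥(P : Subgroup G)] (hP : Nat.card (P : Subgroup G) = p)
  {k : Type} [Field k] [CharP k p] {M : Ideal AlgInt} (hM : IsPModular p M)
  (red : localRing hM →+* k) (hred : ∀ z : localRing hM, MemLocalIdeal M (z : ℂ) → red z = 0)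
  (K : Subgroup (Cz P)) [Fintype K] (hK : ∀ c, c ∈ K ↔ ¬ p ∣ orderOf (c : G))
  (hKc : Nat.card K = Nat.card (Q P))

section Action

variable {V : Type*} [AddCommGroup V] [Module k V] (ρ : G →* Module.End k V)

omit [Fact p.Prime] [Fintype G] [Fintype ↥(P : Subgroup G)] in
/-- The average over the regular part of the centralizer. -/
noncomputable def avgK : Module.End k V :=
  (Nat.card K : k)⁻¹ • ∑ c : K, ρ ((c : Cz P) : G)

include hKc in
theorem card_K_ne_zero : (Nat.card K : k) ≠ 0 := by
  rw [Ne, CharP.cast_eq_zero_iff k p, hKc]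
  exact not_dvd_card_Q P

include hKc in
theorem avgK_sq : avgK K ρ * avgK K ρ = avgK K ρ := by
  have e : ∀ c : K, ρ ((c : Cz P) : G) * ∑ d : K, ρ ((d : Cz P) : G) = ∑ d : K, ρ ((d : Cz P) : G) := by
    intro c
    rw [Finset.mul_sum]
    refine Fintype.sum_equiv (Equiv.mulLeft c) _ _ fun d => ?_
    rw [← map_mul]
    rfl
  simp only [avgK, smul_mul_smul_comm, Finset.sum_mul, e]
  rw [Finset.sum_const, Finset.card_univ, ← Nat.card_eq_fintype_card, ← Nat.cast_smul_eq_nsmul k, smul_smul,
    mul_assoc, inv_mul_cancel₀ (card_K_ne_zero K hKc), mul_one]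

theorem avgK_comm_P {x : G} (hx : x ∈ (P : Subgroup G)) : Commute (avgK K ρ) (ρ x) := by
  refine Commute.smul_left (Commute.sum_left _ _ _ fun c _ => ?_) _
  exact (Commute.map ((mem_Cz P).1 (c : Cz P).2 x hx).symm ρ)

include hP hred hK hKc in
/-- A representation in which the sum over `P` vanishes has an invariant average. -/
theorem avgK_comm (hT : traceOp P ρ = 0) (g : G) : Commute (avgK K ρ) (ρ g) := by
  have hblk := isPBlock_principal (M := M) (G := G)
  set β : G → k := fun h => rd hM red (blockCoeff (principalBlock M G) h) with hβ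
  set E : Module.End k V := ∑ h, β h • ρ h with hE
  have hβconj : ∀ x h : G, β (x * h * x⁻¹) = β h := fun x h => by
    simp only [hβ, blockCoeff_eq_sum,
      CharBasic.apply_eq_of_isConj (irr_classFun _) (isConj_iff.2 ⟨x⁻¹, by group⟩ :
        IsConj (x * h * x⁻¹) h)]
  have hEg : ∀ x : G, Commute E (ρ x) := by
    intro x
    show E * ρ x = ρ x * E
    simp only [hE, Finset.sum_mul, Finset.mul_sum, smul_mul_assoc, mul_smul_comm, ← map_mul]
    refine Fintype.sum_equiv (MulAut.conj x⁻¹).toEquiv _ _ fun h => ?_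
    simp only [MulEquiv.toEquiv_eq_coe, MulEquiv.coe_toEquiv, MulAut.conj_apply]
    rw [hβconj]
    congr 2
    group
  have hβmul : ∀ x : G, ∑ y, β y * β (y⁻¹ * x) = β x := by
    intro x
    simp only [hβ, ← rd_mul hM red (blockCoeff_mem hM hblk _) (blockCoeff_mem hM hblk _)]
    rw [← rd_sum hM red _ _ fun y _ => mul_mem (show _ ∈ localRing hM from blockCoeff_mem hM hblk y)
      (blockCoeff_mem hM hblk _)]
    congr 1
    simp only [← coeff_idem]
    rw [← coeff_mul_eq, idem_sq]
  have hEE : E * E = E := by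
    simp only [hE, Finset.sum_mul, Finset.mul_sum, smul_mul_smul_comm, ← map_mul]
    rw [Finset.sum_comm, Finset.sum_congr rfl fun y _ => (Fintype.sum_equiv (Equiv.mulLeft y)
      (fun z => (β y * β z) • ρ (y * z)) (fun x => (β y * β (y⁻¹ * x)) • ρ x)
      fun z => by rw [Equiv.coe_mulLeft, inv_mul_cancel_left])]
    rw [Finset.sum_comm]
    exact Finset.sum_congr rfl fun x _ => by rw [← Finset.sum_smul, hβmul]
  set A := avgK K ρ with hA
  have hAA : A * A = A := avgK_sq K hKc ρ
  have hEA : Commute E A := (Commute.sum_right _ _ _ fun c _ => hEg _).smul_right _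
  -- the two operators agree on the fixed points of `P`
  have hfix : ∀ v : V, (∀ x ∈ (P : Subgroup G), ρ x v = v) → E v = A v := by
    intro v hv
    letI : MulAction ↥(P : Subgroup G) G :=
      MulAction.compHom G ((MulAut.conj (G := G)).comp (P : Subgroup G).subtype)
    have hsmul : ∀ (x : ↥(P : Subgroup G)) (h : G), x • h = (x : G) * h * (x : G)⁻¹ := fun x h => rfl
    set C : Finset G := Finset.univ.filter (· ∈ Cz P) with hC
    have hinv : ∀ (x : ↥(P : Subgroup G)) h, h ∈ Finset.univ \ C → x • h ∈ Finset.univ \ C := by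
      intro x h hh
      simp only [hC, Finset.mem_sdiff, Finset.mem_univ, Finset.mem_filter, true_and] at hh ⊢
      rw [hsmul]
      intro hm
      exact hh (by
        have := PrincipalSylow80.conj_mem_Cz P ⟨(x : G)⁻¹, inv_mem (Subgroup.le_normalizer x.2)⟩ hm
        simpa [mul_assoc] using this)
    have hfree : ∀ (x : ↥(P : Subgroup G)) h, h ∈ Finset.univ \ C → x • h = h → x = 1 := by
      intro x h hh hxh
      by_contra hx
      simp only [hC, Finset.mem_sdiff, Finset.mem_univ, Finset.mem_filter, true_and] at hh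
      refine hh (Subgroup.mem_centralizer_iff.2 fun z hz => ?_)
      have : (⟨z, hz⟩ : ↥(P : Subgroup G)) ∈ MulAction.stabilizer ↥(P : Subgroup G) h :=
        Subgroup.zpowers_le.2 (MulAction.mem_stabilizer_iff.2 hxh)
          (by rw [zpowers_eq_top_of_prime_card hP hx]; exact Subgroup.mem_top _)
      have h2 := MulAction.mem_stabilizer_iff.1 this
      rw [hsmul] at h2
      exact mul_inv_eq_iff_eq_mul.1 h2
    obtain ⟨w, hw⟩ := sum_free (Q := ↥(P : Subgroup G)) (k := k) (Finset.univ \ C) hinv hfree
      (ρ.comp (P : Subgroup G).subtype) (fun h => β h • ρ h v) (fun x h _ => by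
        rw [hsmul, hβconj, MonoidHom.comp_apply, map_smul, map_mul ρ, map_mul ρ, Module.End.mul_apply,
          Module.End.mul_apply, hv _ (inv_mem x.2)]
        rfl)
    have hw0 : ∑ h ∈ Finset.univ \ C, β h • ρ h v = 0 := by
      rw [hw]
      have : traceOp P ρ w = 0 := by rw [hT, LinearMap.zero_apply]
      exact this
    rw [hE, LinearMap.sum_apply, ← Finset.sum_sdiff (Finset.subset_univ C)]
    simp only [LinearMap.smul_apply]
    rw [hw0, zero_add, Finset.sum_subtype C (p := fun h => h ∈ Cz P) (by simp [hC])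
      (fun h => β h • ρ h v)]
    rw [hA, avgK, LinearMap.smul_apply, LinearMap.sum_apply, Finset.smul_sum]
    have hβval : ∀ c : Cz P, β (c : G) = if c ∈ K then (Nat.card K : k)⁻¹ else 0 := by
      intro c
      split_ifs with hc
      · have hne : ¬ p ∣ Nat.card K := hKc ▸ not_dvd_card_Q P
        have h1 := rd_congr hM red hred (y := ((Nat.card K : ℂ))⁻¹)
          (inv_natCast_mem hM hne) (hKc ▸ PrincipalCentral80.blockCoeff_congr P hM ((hK c).1 hc))
        simp only [hβ]
        rw [h1]
        refine eq_inv_of_mul_eq_one_left ?_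
        rw [← rd_natCast hM red, ← rd_mul hM red (inv_natCast_mem hM hne)
          (natCast_mem (localRing hM) _), inv_mul_cancel₀ (Nat.cast_ne_zero.2 Nat.card_pos.ne'), rd_one]
      · simp only [hβ]
        rw [blockCoeff_eq_zero_of_dvd hM hblk (not_not.1 fun h => hc ((hK c).2 h)), rd_zero]
    simp only [hβval, ite_smul, zero_smul]
    rw [← Finset.sum_filter, Finset.sum_subtype (Finset.univ.filter fun c : Cz P => c ∈ K) (p := (· ∈ K)) (by simp)]
  obtain ⟨σ, hσ, -, hgen⟩ := exists_generator_P hP
  set X : Module.End k V := ρ σ - 1 with hX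
  have hXp : X ^ p = 0 := by
    have e : X ^ p = Polynomial.aeval (ρ σ) ((Polynomial.X - 1 : Polynomial k) ^ p) := by simp [hX]
    have hσp : σ ^ p = 1 := by
      have h := orderOf_dvd_natCard (⟨σ, hσ⟩ : ↥(P : Subgroup G))
      rw [hP, Subgroup.orderOf_mk] at h
      exact orderOf_dvd_iff_pow_eq_one.1 h
    rw [e, sub_pow_char, one_pow]
    simp [← map_pow ρ, hσp]
  set D := E - A with hD
  have hDX : Commute D X :=
    ((hEg σ).sub_left (avgK_comm_P K ρ hσ)).sub_right (Commute.one_right _)
  have hDker : ∀ (i : ℕ) (v : V), (X ^ i) v = 0 → (D ^ i) v = 0 := by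
    intro i
    induction i with
    | zero => intro v hv; simpa using hv
    | succ i ih =>
      intro v hv
      rw [pow_succ, Module.End.mul_apply]
      refine ih _ ?_
      have hfixed : ∀ x ∈ (P : Subgroup G), ρ x ((X ^ i) v) = (X ^ i) v := by
        have h1 : ρ σ ((X ^ i) v) = (X ^ i) v := by
          rw [pow_succ', Module.End.mul_apply] at hv
          nth_rewrite 1 [hX] at hv
          rw [LinearMap.sub_apply, Module.End.one_apply, sub_eq_zero] at hv
          exact hv
        intro x hx
        obtain ⟨j, rfl⟩ := hgen x hx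
        clear hx
        induction j with
        | zero => rw [pow_zero, map_one, Module.End.one_apply]
        | succ j hj => rw [pow_succ, map_mul, Module.End.mul_apply, h1, hj]
      have h2 : (X ^ i) (D v) = D ((X ^ i) v) := by
        rw [← Module.End.mul_apply, ← (hDX.pow_right i).eq, Module.End.mul_apply]
      rw [h2, hD, LinearMap.sub_apply, hfix _ hfixed, sub_self]
  have hD3 : D * D * D = D := by
    have e1 : A * E = E * A := hEA.eq.symm
    have h2 : D * D = E + A - 2 • (E * A) := by
      rw [hD, sub_mul, mul_sub, mul_sub, hEE, hAA, e1]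
      abel
    rw [h2, hD]
    have e2 : E * A * E = E * A := by rw [mul_assoc, e1, ← mul_assoc, hEE]
    have e3 : E * A * A = E * A := by rw [mul_assoc, hAA]
    simp only [mul_sub, add_mul, sub_mul, smul_mul_assoc, e2, e3, hEE, hAA, e1]
    abel
  have hDodd : ∀ j : ℕ, D ^ (2 * j + 1) = D := by
    intro j
    induction j with
    | zero => simp
    | succ j ih => rw [show 2 * (j + 1) + 1 = (2 * j + 1) + 1 + 1 by ring, pow_succ, pow_succ, ih, hD3]
  have hD0 : D = 0 := by
    rw [← hDodd p]
    refine LinearMap.ext fun v => ?_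
    rw [show 2 * p + 1 = (p + 1) + p by ring, pow_add, Module.End.mul_apply,
      hDker p v (by rw [hXp, LinearMap.zero_apply]), map_zero, LinearMap.zero_apply]
  rw [← sub_eq_zero.1 hD0]
  exact hEg g

end Action

include hP hred hK hKc in
/-- Conjugates of `P` commute with the regular part of its centralizer in small representations. -/
theorem commute_conj {V : Type*} [AddCommGroup V] [Module k V] [FiniteDimensional k V]
    (hn : 2 * Module.finrank k V ≤ p) (ρ : G →* Module.End k V) {c : Cz P} (hc : c ∈ K)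
    {x : G} (hx : x ∈ (P : Subgroup G)) (g : G) :
    Commute (ρ (c : G)) (ρ (g * x * g⁻¹)) := by
  set n := Module.finrank k V with hndef
  have hp := (Fact.out : p.Prime)
  let Ad : G →* Module.End k (Module.End k V) :=
    { toFun := fun g => LinearMap.mulLeft k (ρ g) * LinearMap.mulRight k (ρ g⁻¹)
      map_one' := LinearMap.ext fun Φ => by simp
      map_mul' := fun a b => LinearMap.ext fun Φ => by simp [mul_inv_rev, map_mul, mul_assoc] }
  have hAd : ∀ (g : G) (Φ : Module.End k V), Ad g Φ = ρ g * Φ * ρ g⁻¹ := fun g Φ =>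
    (mul_assoc _ _ _).symm
  have hT : traceOp P Ad = 0 := by
    obtain ⟨σ, hσ, hσ1, hgen⟩ := exists_generator_P hP
    have hσp : σ ^ p = 1 := by
      have h := orderOf_dvd_natCard (⟨σ, hσ⟩ : ↥(P : Subgroup G))
      rw [hP, Subgroup.orderOf_mk] at h
      exact orderOf_dvd_iff_pow_eq_one.1 h
    set X : Module.End k V := ρ σ - 1 with hX
    have hXn : X ^ n = 0 := by
      have e : X ^ p = 0 := by
        have e : X ^ p = Polynomial.aeval (ρ σ) ((Polynomial.X - 1 : Polynomial k) ^ p) := by simp [hX]
        rw [e, sub_pow_char, one_pow]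
        simp [← map_pow ρ, hσp]
      have h := LinearMap.aeval_self_charpoly X
      rw [(LinearMap.isNilpotent_iff_charpoly X).1 ⟨p, e⟩, map_pow, Polynomial.aeval_X] at h
      exact h
    set L : Module.End k (Module.End k V) := LinearMap.mulLeft k X
    set R : Module.End k (Module.End k V) := LinearMap.mulRight k X
    have hY : Ad σ - 1 = LinearMap.mulRight k (ρ σ⁻¹) * (L - R) := by
      refine LinearMap.ext fun Φ => ?_
      rw [LinearMap.sub_apply, hAd, Module.End.one_apply, Module.End.mul_apply, LinearMap.mulRight_apply,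
        LinearMap.sub_apply, LinearMap.mulLeft_apply, LinearMap.mulRight_apply, hX]
      simp only [sub_mul, mul_sub, mul_one, one_mul, sub_sub_sub_cancel_right, mul_assoc Φ, ← map_mul,
        mul_inv_cancel, map_one]
    have hcom : Commute (LinearMap.mulRight k (ρ σ⁻¹)) (L - R) := by
      refine ((LinearMap.commute_mulLeft_right X (ρ σ⁻¹)).symm).sub_right ?_
      refine LinearMap.ext fun Φ => ?_
      simp only [Module.End.mul_apply, R, LinearMap.mulRight_apply, mul_assoc, hX, sub_mul, mul_sub,
        one_mul, mul_one, ← map_mul, mul_inv_cancel, inv_mul_cancel]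
    have hYn : (Ad σ - 1) ^ (p - 1) = 0 := by
      have h0 : (L - R) ^ (p - 1) = 0 := by
        rw [sub_eq_add_neg]
        refine ((show Commute L R from LinearMap.commute_mulLeft_right X X).neg_right).add_pow_eq_zero_of_add_le_succ_of_pow_eq_zero
          (m := n) (n := n) ?_ ?_ (by omega)
        · rw [LinearMap.pow_mulLeft, hXn, LinearMap.mulLeft_zero_eq_zero]
        · rw [neg_pow R, LinearMap.pow_mulRight, hXn, LinearMap.mulRight_zero_eq_zero, mul_zero]
      rw [hY, hcom.mul_pow, h0, mul_zero]
    have hpoly : ∑ i ∈ Finset.range p, (Polynomial.X : Polynomial k) ^ i = (Polynomial.X - 1) ^ (p - 1) := by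
      refine mul_right_cancel₀ (Polynomial.X_sub_C_ne_zero (1 : k)) ?_
      rw [Polynomial.C_1, geom_sum_mul, ← pow_succ, Nat.sub_add_cancel hp.one_le, sub_pow_char, one_pow]
    have hsum : ∑ i ∈ Finset.range p, Ad σ ^ i = 0 := by
      have := congrArg (Polynomial.aeval (Ad σ)) hpoly
      simpa [hYn] using this
    rw [traceOp, ← hsum]
    symm
    refine Finset.sum_bij (fun i _ => (⟨σ, hσ⟩ : ↥(P : Subgroup G)) ^ i) (fun i _ => Finset.mem_univ _)
      ?_ ?_ (fun i _ => by rw [SubmonoidClass.coe_pow, map_pow])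
    · have hord : orderOf (⟨σ, hσ⟩ : ↥(P : Subgroup G)) = p := by
        rw [Subgroup.orderOf_mk]
        exact orderOf_eq_prime hσp hσ1
      intro i hi j hj h
      exact pow_injOn_Iio_orderOf (by simpa [hord] using Finset.mem_range.1 hi)
        (by simpa [hord] using Finset.mem_range.1 hj) h
    · intro y _
      obtain ⟨i, hi⟩ := hgen y y.2
      refine ⟨i % p, Finset.mem_range.2 (Nat.mod_lt _ hp.pos), Subtype.ext ?_⟩
      rw [hi, SubmonoidClass.coe_pow, ← pow_eq_pow_mod i hσp]
  have hfix : avgK K Ad (ρ x) = ρ x := by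
    rw [avgK, LinearMap.smul_apply, LinearMap.sum_apply, Finset.sum_congr rfl (g := fun _ => ρ x)
      fun d _ => by
        rw [hAd, ← map_mul, ← map_mul]
        congr 1
        rw [← (mem_Cz P).1 (d : Cz P).2 x hx, mul_assoc, mul_inv_cancel, mul_one],
      Finset.sum_const, Finset.card_univ, ← Nat.card_eq_fintype_card, ← Nat.cast_smul_eq_nsmul k,
      smul_smul, inv_mul_cancel₀ (card_K_ne_zero K hKc), one_smul]
  have himage : Ad g (ρ x) = ρ (g * x * g⁻¹) := by rw [hAd, map_mul, map_mul]
  have h1 : avgK K Ad (ρ (g * x * g⁻¹)) = ρ (g * x * g⁻¹) := by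
    have := LinearMap.congr_fun (avgK_comm hP hM red hred K hK hKc Ad hT g).eq (ρ x)
    rw [Module.End.mul_apply, Module.End.mul_apply, hfix, himage] at this
    exact this
  have h2 : ∀ Φ, Ad (c : G) (avgK K Ad Φ) = avgK K Ad Φ := by
    intro Φ
    simp only [avgK, LinearMap.smul_apply, LinearMap.sum_apply, map_smul, map_sum, ← Module.End.mul_apply,
      ← map_mul]
    congr 1
    exact Fintype.sum_equiv (Equiv.mulLeft (⟨c, hc⟩ : K)) _ _ fun d => rfl
  have h3 := h2 (ρ (g * x * g⁻¹))
  rw [h1, hAd] at h3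
  show ρ (c : G) * _ = _ * ρ (c : G)
  conv_rhs => rw [← h3]
  simp only [mul_assoc, ← map_mul, inv_mul_cancel, mul_one]

end Cfsg.Agent.SmallFaithful86
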