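import Cfsg.Agent.Lib.SmallDegreeKernel86
import Cfsg.Agent.Lib.SmallFaithfulCentral86
import Cfsg.Agent.Lib.SchurBound79

/-!
A faithful complex representation of degree at most `(p - 1) / 2` of a group with a non-normal
Sylow subgroup of prime order `p`.
-/

set_option autoImplicit false

open Cfsg

namespace Cfsg.Agent.SmallDegree86

open Cfsg.Agent.BlockTheoryLocalRing Cfsg.Agent.SmallFaithful86

universe u

attribute [local instance] Classical.propDecidable

variable {G : Type u} [Group G] [Finite G] {p : ℕ} [hp : Fact p.Prime] {P : Sylow p G} {x : G}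
  (hP : (P : Subgroup G) = Subgroup.zpowers x) (hx : orderOf x = p) (hsq : ¬ p ^ 2 ∣ Nat.card G)
  (hnn : ¬ (P : Subgroup G).Normal)
  {n : ℕ} (hn : 2 * n + 1 ≤ p) (ρ : Representation ℂ G (Fin n → ℂ))
  (hfaith : Function.Injective ρ)

include hP hx hsq hnn hn hfaith in
/-- Reduction: a faithful modular representation in which the regular centralizer of the Sylow
subgroup commutes with all its conjugates. -/
theorem exists_modular_faithful :
    (∀ c ∈ Subgroup.centralizer ((P : Subgroup G) : Set G), ¬ p ∣ orderOf c →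
      ∀ g : G, Commute c (g * x * g⁻¹)) ∧
    ∃ Ψ : G →* Matrix (Fin n) (Fin n) (AlgebraicClosure (ZMod p)), Function.Injective Ψ := by
  cases nonempty_fintype G
  haveI : Fintype ↥(P : Subgroup G) := Fintype.ofFinite _
  have hPc : Nat.card (P : Subgroup G) = p := by rw [hP, Nat.card_zpowers, hx]
  obtain ⟨M, hM⟩ := SchurBound79.exists_modular p hp.out
  obtain ⟨k, _, _, red, hred, R, hR⟩ := exists_reduction hM ρ
  have hRinj : ∀ g : G, R g = 1 → g = 1 := by
    have hreg : ∀ g ∈ R.ker, ¬ p ∣ orderOf g → g = 1 := fun g hg hgp =>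
      hfaith ((hR g hg hgp).trans (map_one ρ).symm)
    have hpg : IsPGroup p R.ker := by
      refine IsPGroup.iff_card.2 ⟨_, Nat.eq_prime_pow_of_unique_prime_dvd Nat.card_pos.ne' fun {q} hq hqd => ?_⟩
      haveI := Fact.mk hq
      obtain ⟨y, hy⟩ := exists_prime_orderOf_dvd_card' q hqd
      by_contra hqp
      have h1 : ((y : G)) = 1 := hreg y y.2 (by
        rw [Subgroup.orderOf_coe, hy]
        exact fun h => hqp ((Nat.prime_dvd_prime_iff_eq hp.out hq).1 h).symm)
      rw [← Subgroup.orderOf_coe, h1, orderOf_one] at hy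
      exact hq.ne_one hy.symm
    intro g hg
    obtain ⟨j, hj⟩ := IsPGroup.iff_card.1 hpg
    have hj0 : j = 0 := by
      by_contra hj0
      rcases Nat.lt_or_ge j 2 with h | h
      · refine hnn ?_
        have h1 : R.ker = (P : Subgroup G) := by
          obtain ⟨Q, hQ⟩ := hpg.exists_le_sylow
          have hQc : Nat.card (Q : Subgroup G) = p := by
            rw [Sylow.card_eq_multiplicity, ← Sylow.card_eq_multiplicity P, hPc]
          have hQe : R.ker = (Q : Subgroup G) := Subgroup.eq_of_le_of_card_ge hQ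
            (by rw [hQc, hj, show j = 1 by omega, pow_one])
          obtain ⟨w, hw⟩ := MulAction.exists_smul_eq G Q P
          rw [← hw, Sylow.coe_subgroup_smul, ← hQe]
          ext z
          rw [Subgroup.mem_pointwise_smul_iff_inv_smul_mem]
          constructor
          · intro hz
            have := (MonoidHom.normal_ker R).conj_mem _ hz w⁻¹
            simpa [mul_assoc] using this
          · intro hz
            have := (MonoidHom.normal_ker R).conj_mem _ hz w
            simpa [mul_assoc] using this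
        rw [← h1]
        exact MonoidHom.normal_ker R
      · exact hsq ((pow_dvd_pow p h).trans (hj ▸ Subgroup.card_subgroup_dvd_card R.ker))
    have := Subgroup.card_eq_one.1 (by rw [hj, hj0, pow_zero] : Nat.card R.ker = 1)
    exact Subgroup.mem_bot.1 (this ▸ MonoidHom.mem_ker.2 hg)
  have hinj : Function.Injective R := (injective_iff_map_eq_one R).2 hRinj
  refine ⟨?_, ?_⟩
  · obtain ⟨K, hK, hKc⟩ := exists_regular_subgroup P
    haveI : Fintype K := Fintype.ofFinite _
    intro c hc hcr g
    have h := commute_conj hPc hM red hred K hK hKc (by simp only [Module.finrank_fin_fun]; omega) R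
      (c := ⟨c, hc⟩) ((hK _).2 hcr) (hP ▸ Subgroup.mem_zpowers x : x ∈ (P : Subgroup G)) g
    exact hinj ((map_mul R _ _).trans (h.eq.trans (map_mul R _ _).symm))
  · have h1 : Function.Injective
        ((LinearMap.toMatrixAlgEquiv (Pi.basisFun k (Fin n))).toAlgHom.toRingHom.toMonoidHom.comp R) :=
      (LinearMap.toMatrixAlgEquiv (Pi.basisFun k (Fin n))).injective.comp hinj
    exact exists_specialization _ h1

include hP hx hsq hnn hn hfaith in
/-- A normal subgroup generated by the Sylow subgroups maps onto `PSL(2,p)` with kernel commuting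
with the Sylow subgroup. -/
theorem exists_psl_normalClosure :
    5 ≤ p ∧ ∃ (hxL : x ∈ Subgroup.normalClosure ({x} : Set G))
      (Φ : Subgroup.normalClosure ({x} : Set G) →*
        Matrix.ProjectiveSpecialLinearGroup (Fin 2) (ZMod p)),
      Function.Surjective Φ ∧ Φ ⟨x, hxL⟩ ≠ 1 ∧ ¬ p ∣ Nat.card Φ.ker ∧
      ∀ c ∈ Φ.ker, Commute (c : G) x := by
  obtain ⟨hcomm, Ψ, hΨ⟩ := exists_modular_faithful hP hx hsq hnn hn ρ hfaith
  set L := Subgroup.normalClosure ({x} : Set G) with hL
  have hxL : x ∈ L := Subgroup.subset_normalClosure (Set.mem_singleton _)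
  have hPL : (P : Subgroup G) ≤ L := by rw [hP]; exact Subgroup.zpowers_le.2 hxL
  set P₁ : Sylow p L := P.subtype hPL with hP₁
  set x₁ : L := ⟨x, hxL⟩
  have hP₁' : (P₁ : Subgroup L) = Subgroup.zpowers x₁ := by
    ext z
    rw [hP₁, Sylow.coe_subtype, Subgroup.mem_subgroupOf, hP, Subgroup.mem_zpowers_iff,
      Subgroup.mem_zpowers_iff]
    exact exists_congr fun i => ⟨fun h => Subtype.ext (by rw [SubgroupClass.coe_zpow]; exact h),
      fun h => by rw [← h, SubgroupClass.coe_zpow]⟩
  have hx₁ : orderOf x₁ = p := by rw [← Subgroup.orderOf_coe]; exact hx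
  have hsq₁ : ¬ p ^ 2 ∣ Nat.card L := fun h => hsq (h.trans (Subgroup.card_subgroup_dvd_card L))
  have hgen := normalClosure_sub hP hx hL hxL
  obtain ⟨g, hgL, hg1, hgp⟩ := exists_regular_of_not_normal hP hxL hnn
  have hcomm₁ : ∀ c ∈ Subgroup.centralizer ((P₁ : Subgroup L) : Set L), ¬ p ∣ orderOf c →
      ∀ w : L, Commute c (w * x₁ * w⁻¹) := by
    intro c hc hcp w
    have hcG : (c : G) ∈ Subgroup.centralizer ((P : Subgroup G) : Set G) := by
      rw [Subgroup.mem_centralizer_iff]
      intro z hz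
      have h := Subgroup.mem_centralizer_iff.1 hc (⟨z, hPL hz⟩ : L)
        (by rw [hP₁, Sylow.coe_subtype]; exact Subgroup.mem_subgroupOf.2 hz)
      exact congrArg Subtype.val h
    have h := hcomm _ hcG (by rwa [Subgroup.orderOf_coe]) (w : G)
    exact Subtype.ext (by push_cast; exact h.eq)
  have hcen : ∀ c ∈ Subgroup.centralizer ((P₁ : Subgroup L) : Set L), ¬ p ∣ orderOf c →
      c ∈ Subgroup.center L := by
    intro c hc hcp
    have htop : Subgroup.normalClosure {x₁} ≤ Subgroup.centralizer {c} := by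
      refine (Subgroup.closure_le _).2 fun z hz => ?_
      obtain ⟨y, hy, hyz⟩ := Group.mem_conjugatesOfSet_iff.1 hz
      rw [Set.mem_singleton_iff] at hy
      subst hy
      obtain ⟨w, rfl⟩ := isConj_iff.1 hyz
      rw [SetLike.mem_coe, Subgroup.mem_centralizer_singleton_iff]
      exact (hcomm₁ c hc hcp w).eq.symm
    rw [hgen] at htop
    exact Subgroup.mem_center_iff.2 fun w =>
      Subgroup.mem_centralizer_singleton_iff.1 (htop (Subgroup.mem_top w))
  obtain ⟨Φ, hΦ⟩ := exists_psl hP₁' hx₁ hsq₁ hgen hcen hn (Ψ.comp L.subtype) (g₀ := ⟨g, hgL⟩)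
    (fun h => hg1 (hΨ (h.trans (map_one Ψ).symm))) (by rwa [Subgroup.orderOf_mk])
  have hp3 : 3 ≤ p := by
    rcases Nat.eq_zero_or_pos n with rfl | h
    · exact absurd (hΨ (Subsingleton.elim (Ψ x) (Ψ 1))) (fun e => hp.out.ne_one (by rw [← hx, e, orderOf_one]))
    · omega
  have hp5 : 5 ≤ p := by
    by_contra hlt
    have hp3' : p = 3 := by
      rcases (show p = 3 ∨ p = 4 by omega) with h | h
      · exact h
      · exact absurd (h ▸ hp.out) (by norm_num)
    have hn1 : n ≤ 1 := by omega
    refine hnn ⟨fun z hz w => ?_⟩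
    have : w * z * w⁻¹ = z := by
      refine hΨ ?_
      have hcm : ∀ A B : Matrix (Fin n) (Fin n) (AlgebraicClosure (ZMod p)), A * B = B * A := by
        intro A B
        ext i j
        haveI : Subsingleton (Fin n) := by
          rcases Nat.le_one_iff_eq_zero_or_eq_one.1 hn1 with rfl | rfl <;> infer_instance
        simp only [Matrix.mul_apply]
        exact Finset.sum_congr rfl fun l _ => by
          rw [Subsingleton.elim l i, Subsingleton.elim j i, mul_comm]
      rw [map_mul, map_mul, hcm (Ψ w), mul_assoc, ← map_mul, mul_inv_cancel, map_one, mul_one]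
    rwa [this]
  haveI := PSLSimple.isSimpleGroup_PSL_fin' (F := ZMod p) (le_refl 2) (fun _ => by simp; omega)
  have hΦx : Φ x₁ ≠ 1 := by
    intro h1
    have hle : Subgroup.normalClosure {x₁} ≤ Φ.ker :=
      Subgroup.normalClosure_le_normal (by simpa using h1)
    rw [hgen] at hle
    refine absurd ?_ (not_subsingleton (Matrix.ProjectiveSpecialLinearGroup (Fin 2) (ZMod p)))
    refine ⟨fun a b => ?_⟩
    obtain ⟨a, rfl⟩ := hΦ a
    obtain ⟨b, rfl⟩ := hΦ b
    rw [(hle (Subgroup.mem_top a) : Φ a = 1), (hle (Subgroup.mem_top b) : Φ b = 1)]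
  have hK : ¬ p ∣ Nat.card Φ.ker := by
    intro hd
    refine hsq₁ ?_
    rw [← Subgroup.index_mul_card Φ.ker, Subgroup.index_ker, sq]
    refine mul_dvd_mul ?_ hd
    have h5 : orderOf (Φ x₁) = p := orderOf_eq_prime
      (by rw [← map_pow, orderOf_dvd_iff_pow_eq_one.1 hx₁.dvd, map_one]) hΦx
    have h6 := Subgroup.orderOf_dvd_natCard Φ.range (x := Φ x₁) ⟨x₁, rfl⟩
    rwa [h5] at h6
  refine ⟨hp5, hxL, Φ, hΦ, hΦx, hK, fun c hc => ?_⟩
  have := ker_commute hP₁' hx₁ hsq₁ hcomm₁ hn (Ψ.comp L.subtype) (hΨ.comp (Subgroup.subtype_injective L))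
    hp5 Φ.ker hK c hc
  exact congrArg Subtype.val this

omit hp in
/-- An operator commuting with one having distinct eigenvalues on a basis is diagonal. -/
theorem commute_of_distinct_eigen {ι V : Type*} [Fintype ι] [AddCommGroup V] [Module ℂ V]
    (b : Module.Basis ι ℂ V) {A : Module.End ℂ V} {e : ι → ℂ} (he : Function.Injective e)
    (hA : ∀ i, A (b i) = e i • b i) {C D : Module.End ℂ V} (hC : Commute C A) (hD : Commute D A) :
    Commute C D := by
  have hdiag : ∀ C : Module.End ℂ V, Commute C A → ∀ i, ∃ c : ℂ, C (b i) = c • b i := by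
    intro C hC i
    refine ⟨b.repr (C (b i)) i, ?_⟩
    have h1 : A (C (b i)) = e i • C (b i) := by
      rw [← Module.End.mul_apply, ← hC.eq, Module.End.mul_apply, hA, map_smul]
    have hz : ∀ j, j ≠ i → b.repr (C (b i)) j = 0 := by
      intro j hj
      have h2 : b.repr (A (C (b i))) j = e j * b.repr (C (b i)) j := by
        conv_lhs => rw [← b.sum_repr (C (b i))]
        rw [map_sum, map_sum]
        simp only [map_smul, hA, smul_smul, Finsupp.coe_finsetSum, Finset.sum_apply, Finsupp.smul_apply,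
          Module.Basis.repr_self, Finsupp.single_apply, smul_eq_mul]
        rw [Finset.sum_eq_single j]
        · simp [mul_comm]
        · intro l _ hl; simp [hl]
        · simp
      rw [h1, map_smul, Finsupp.smul_apply, smul_eq_mul] at h2
      have h3 : (e i - e j) * b.repr (C (b i)) j = 0 := by rw [sub_mul, h2, sub_self]
      exact (mul_eq_zero.1 h3).resolve_left (sub_ne_zero.2 fun h => hj (he h).symm)
    conv_lhs => rw [← b.sum_repr (C (b i))]
    rw [Finset.sum_eq_single i]
    · intro j _ hj; rw [hz j hj, zero_smul]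
    · simp
  refine b.ext fun i => ?_
  obtain ⟨c, hc⟩ := hdiag C hC i
  obtain ⟨d, hd⟩ := hdiag D hD i
  simp only [Module.End.mul_apply, hc, hd, map_smul, smul_smul, mul_comm]

include hP hx hsq hnn hn hfaith in
/-- A group with a faithful representation of degree exactly `(p - 1) / 2` is, modulo its centre,
`PSL(2,p)`. -/
theorem quotient_center_psl (hdeg : 2 * n + 1 = p) :
    Nonempty ((G ⧸ Subgroup.center G) ≃* Matrix.ProjectiveSpecialLinearGroup (Fin 2) (ZMod p)) := by
  cases nonempty_fintype G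
  obtain ⟨hcomm, -⟩ := exists_modular_faithful hP hx hsq hnn hn ρ hfaith
  set L := Subgroup.normalClosure ({x} : Set G) with hL
  obtain ⟨hp5, hxL, Φ, hΦ, hΦx, hK, hcommK⟩ := exists_psl_normalClosure hP hx hsq hnn hn ρ hfaith
  have hxp : x ^ p = 1 := orderOf_dvd_iff_pow_eq_one.1 hx.dvd
  have hsquare : ∀ s : (ZMod p)ˣ, ∃ w ∈ L, ∃ r : ℕ, (r : ZMod p) = (s : ZMod p) ^ 2 ∧
      w⁻¹ * x * w = x ^ r := by
    intro s
    obtain ⟨w, r, hr, hw⟩ := exists_square_conj (x := (⟨x, hxL⟩ : L))
      (by rw [Subgroup.orderOf_mk]; exact hx) hp5 Φ hΦ hΦx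
      (fun c hc => Subtype.ext (hcommK c hc).eq) hK s
    exact ⟨w, w.2, r, hr, congrArg Subtype.val hw⟩
  choose w hwL r hr hw using hsquare
  -- eigenvectors
  set A : Module.End ℂ (Fin n → ℂ) := ρ x with hA
  have hA1 : A ≠ 1 := fun h => hp.out.ne_one (by rw [← hx, hfaith (h.trans (map_one ρ).symm), orderOf_one])
  have hAp : A ^ p = 1 := by rw [hA, ← map_pow, hxp, map_one]
  obtain ⟨ζ, v, hv, hvU⟩ := exists_eigen_notMem hAp (by exact_mod_cast hp.out.ne_zero)
    (U := LinearMap.ker (A - 1)) (fun h => hA1 (sub_eq_zero.1 (LinearMap.ker_eq_top.1 h)))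
  have hv0 : v ≠ 0 := fun h => hvU (h ▸ zero_mem _)
  have hζ1 : ζ ≠ 1 := fun h => hvU (by simp [hv, h])
  have hpowv : ∀ i : ℕ, (A ^ i) v = ζ ^ i • v := by
    intro i
    induction i with
    | zero => simp
    | succ i ih => rw [pow_succ', Module.End.mul_apply, ih, map_smul, hv, smul_smul, ← pow_succ]
  have hζp : orderOf ζ = p := by
    refine orderOf_eq_prime ?_ hζ1
    have h := hpowv p
    rw [hAp, Module.End.one_apply] at h
    by_contra hne
    exact hv0 ((smul_eq_zero.1 (show (ζ ^ p - 1) • v = 0 by rw [sub_smul, one_smul, ← h, sub_self])).resolve_left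
      (sub_ne_zero.2 hne))
  have hζinj : ∀ a b : ℕ, ζ ^ a = ζ ^ b ↔ (a : ZMod p) = (b : ZMod p) := fun a b => by
    rw [(orderOf_pos_iff.1 (hζp ▸ hp.out.pos)).pow_eq_pow_iff_modEq, hζp, ZMod.natCast_eq_natCast_iff]
  have heig : ∀ (g : G) (i : ℕ), g⁻¹ * x * g = x ^ i → A (ρ g v) = ζ ^ i • ρ g v := by
    intro g i hg
    have : x * g = g * x ^ i := by rw [← hg]; group
    rw [hA, ← Module.End.mul_apply, ← map_mul, this, map_mul, Module.End.mul_apply, map_pow, ← hA, hpowv,
      map_smul]
  have hne0 : ∀ g, ρ g v ≠ 0 := fun g h => hv0 (by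
    have := congrArg (ρ g⁻¹) h
    rwa [← Module.End.mul_apply, ← map_mul, inv_mul_cancel, map_one, Module.End.one_apply, map_zero] at this)
  set sqh : (ZMod p)ˣ →* (ZMod p)ˣ := powMonoidHom 2 with hsqdef
  have hker : Nat.card sqh.ker ≤ 2 := by
    have hsub : ∀ u : sqh.ker, (u : (ZMod p)ˣ) = 1 ∨ (u : (ZMod p)ˣ) = -1 := fun u => by
      have h : (u : (ZMod p)ˣ) ^ 2 = 1 := u.2
      have h' : ((u : (ZMod p)ˣ) : ZMod p) ^ 2 = 1 := by
        rw [← Units.val_pow_eq_pow_val, h, Units.val_one]
      rcases sq_eq_one_iff.1 h' with h1 | h1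
      · exact Or.inl (Units.ext h1)
      · exact Or.inr (Units.ext (by rw [h1, Units.val_neg, Units.val_one]))
    calc Nat.card sqh.ker ≤ Nat.card (Fin 2) := Nat.card_le_card_of_injective
          (fun u => if (u : (ZMod p)ˣ) = 1 then 0 else 1) (fun a b h => by
            refine Subtype.ext ?_
            simp only at h
            rcases hsub a with ha | ha <;> rcases hsub b with hb | hb <;> rw [ha, hb] <;>
              rw [ha, hb] at h <;> split_ifs at h <;> simp_all)
      _ = 2 := Nat.card_fin 2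
  have hSqcard : n ≤ Fintype.card sqh.range := by
    have h1 := Subgroup.index_mul_card sqh.ker
    rw [Subgroup.index_ker, Nat.card_units, Nat.card_zmod] at h1
    rw [← Nat.card_eq_fintype_card]
    by_contra hlt
    have : Nat.card sqh.range * Nat.card sqh.ker ≤ (n - 1) * 2 :=
      Nat.mul_le_mul (by omega) hker
    omega
  choose sr hsr using fun z : sqh.range => z.2
  set vec : sqh.range → (Fin n → ℂ) := fun z => ρ (w (sr z)) v with hvec
  have heigz : ∀ z, A (vec z) = ζ ^ (r (sr z)) • vec z := fun z => heig _ _ (hw _)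
  have hrz : ∀ z : sqh.range, (r (sr z) : ZMod p) = ((z : (ZMod p)ˣ) : ZMod p) := fun z => by
    rw [hr, ← hsr z, hsqdef, powMonoidHom_apply, Units.val_pow_eq_pow_val]
  have heinj : Function.Injective fun z : sqh.range => ζ ^ (r (sr z)) := fun a b h => by
    have := (hζinj _ _).1 h
    rw [hrz, hrz] at this
    exact Subtype.ext (Units.ext this)
  have hli : LinearIndependent ℂ vec :=
    Module.End.eigenvectors_linearIndependent' A _ heinj vec
      fun z => ⟨Module.End.mem_eigenspace_iff.2 (heigz z), hne0 _⟩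
  have hcardeq : Fintype.card sqh.range = n := by
    refine le_antisymm ?_ hSqcard
    have := hli.fintype_card_le_finrank
    rwa [Module.finrank_fin_fun] at this
  haveI : Nonempty sqh.range := ⟨1⟩
  set B := basisOfLinearIndependentOfCardEqFinrank hli (by rw [hcardeq, Module.finrank_fin_fun]) with hB
  have hBz : ∀ z, B z = vec z := fun z => by simp [hB]
  -- the centralizer is abelian
  have hCab : ∀ a b : G, Commute a x → Commute b x → Commute a b := by
    intro a b ha hb
    have h := commute_of_distinct_eigen B heinj (A := A) (fun z => by rw [hBz, heigz])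
      (C := ρ a) (D := ρ b) (ha.map ρ) (hb.map ρ)
    exact hfaith ((map_mul ρ a b).trans (h.eq.trans (map_mul ρ b a).symm))
  -- the normalizer
  have hnorm : ∀ g : G, g⁻¹ * x * g ∈ Subgroup.zpowers x → ∃ l ∈ L, ∃ c, Commute c x ∧ g = l * c := by
    intro g hg
    obtain ⟨i, hi⟩ := ((isOfFinOrder_of_finite x).mem_powers_iff_mem_zpowers).2 hg
    by_cases hz : ∃ z : sqh.range, ((z : (ZMod p)ˣ) : ZMod p) = (i : ZMod p)
    · obtain ⟨z, hz⟩ := hz
      refine ⟨w (sr z), hwL _, (w (sr z))⁻¹ * g, ?_, by group⟩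
      have he : x ^ (r (sr z)) = x ^ i := by
        rw [pow_eq_pow_iff_modEq, hx, ← ZMod.natCast_eq_natCast_iff, hrz, hz]
      show (w (sr z))⁻¹ * g * x = x * ((w (sr z))⁻¹ * g)
      have h1 : g * x ^ i = x * g := by rw [show x ^ i = g⁻¹ * x * g from hi]; group
      have h2 : (w (sr z)) * x ^ (r (sr z)) = x * w (sr z) := by rw [← hw]; group
      have h3 : g * x * g⁻¹ = w (sr z) * x * (w (sr z))⁻¹ := by
        have hcop : ((z : (ZMod p)ˣ)⁻¹ : ZMod p) * (i : ZMod p) = 1 := by
          rw [← hz, inv_mul_cancel₀ (Units.ne_zero _)]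
        set j := ((z : (ZMod p)ˣ)⁻¹ : ZMod p).val
        have hij : x ^ (i * j) = x := by
          conv_rhs => rw [← pow_one x]
          rw [pow_eq_pow_iff_modEq, hx, ← ZMod.natCast_eq_natCast_iff, Nat.cast_mul, ZMod.natCast_zmod_val,
            mul_comm, hcop, Nat.cast_one]
        calc g * x * g⁻¹ = (g * x ^ i * g⁻¹) ^ j := by rw [conj_pow, ← pow_mul, hij]
          _ = x ^ j := by rw [h1, mul_inv_cancel_right]
          _ = (w (sr z) * x ^ (r (sr z)) * (w (sr z))⁻¹) ^ j := by rw [h2, mul_inv_cancel_right]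
          _ = _ := by rw [he, conj_pow, ← pow_mul, hij]
      have := congrArg (fun y => (w (sr z))⁻¹ * y * g) h3
      simpa [mul_assoc] using this
    · exfalso
      let vec' : Option sqh.range → (Fin n → ℂ) := fun o => o.elim (ρ g v) vec
      let e' : Option sqh.range → ℂ := fun o => o.elim (ζ ^ i) fun z => ζ ^ (r (sr z))
      have he'inj : Function.Injective e' := by
        rintro (_ | a) (_ | b) h
        · rfl
        · exact absurd ⟨b, ((hrz b).symm.trans ((hζinj _ _).1 h).symm)⟩ hz
        · exact absurd ⟨a, ((hrz a).symm.trans ((hζinj _ _).1 h))⟩ hz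
        · exact congrArg some (heinj h)
      have hli' : LinearIndependent ℂ vec' :=
        Module.End.eigenvectors_linearIndependent' A e' he'inj vec' fun o => by
          cases o with
          | none => exact ⟨Module.End.mem_eigenspace_iff.2 (heig g i hi.symm), hne0 _⟩
          | some z => exact ⟨Module.End.mem_eigenspace_iff.2 (heigz z), hne0 _⟩
      have := hli'.fintype_card_le_finrank
      rw [Module.finrank_fin_fun, Fintype.card_option, hcardeq] at this
      omega
  -- the group is generated by the normal closure and the centralizer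
  haveI hLn : L.Normal := Subgroup.normalClosure_normal
  have hPL : (P : Subgroup G) ≤ L := by rw [hP]; exact Subgroup.zpowers_le.2 hxL
  have hdecomp : ∀ g : G, ∃ l ∈ L, ∃ c, Commute c x ∧ g = l * c := by
    intro g
    have hgL : g * x * g⁻¹ ∈ L := hLn.conj_mem x hxL g
    have hpg : IsPGroup p (Subgroup.zpowers (⟨g * x * g⁻¹, hgL⟩ : L)) := by
      refine IsPGroup.iff_card.2 ⟨1, ?_⟩
      rw [Nat.card_zpowers, Subgroup.orderOf_mk, ← MulAut.conj_apply, MulEquiv.orderOf_eq, hx, pow_one]
    obtain ⟨Q, hQ⟩ := hpg.exists_le_sylow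
    obtain ⟨l₀, hl₀⟩ := MulAction.exists_smul_eq L (P.subtype hPL) Q
    have h1 : (⟨g * x * g⁻¹, hgL⟩ : L) ∈ (l₀ • P.subtype hPL : Sylow p L) := by
      rw [hl₀]; exact hQ (Subgroup.mem_zpowers _)
    rw [← SetLike.mem_coe, Sylow.coe_smul, Set.mem_smul_set_iff_inv_smul_mem] at h1
    have h2 : (l₀ : G)⁻¹ * (g * x * g⁻¹) * (l₀ : G) ∈ (P : Subgroup G) := by
      rw [SetLike.mem_coe] at h1
      have h1' : _ ∈ ((P.subtype hPL : Sylow p L) : Subgroup L) := h1
      rw [Sylow.coe_subtype, Subgroup.mem_subgroupOf] at h1'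
      simpa [mul_assoc] using h1'
    rw [hP] at h2
    obtain ⟨i, hi⟩ := Subgroup.mem_zpowers_iff.1 h2
    have h3 : ((l₀ : G)⁻¹ * g)⁻¹ * x * ((l₀ : G)⁻¹ * g) ∈ Subgroup.zpowers x := by
      have hgen' : x ∈ Subgroup.zpowers ((l₀ : G)⁻¹ * g * x * ((l₀ : G)⁻¹ * g)⁻¹) := by
        have hle : Subgroup.zpowers ((l₀ : G)⁻¹ * g * x * ((l₀ : G)⁻¹ * g)⁻¹) = Subgroup.zpowers x := by
          refine Subgroup.eq_of_le_of_card_ge (Subgroup.zpowers_le.2 ?_) ?_
          · rw [Subgroup.mem_zpowers_iff]; exact ⟨i, by rw [hi]; group⟩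
          · rw [Nat.card_zpowers, Nat.card_zpowers, ← MulAut.conj_apply, MulEquiv.orderOf_eq]
        rw [hle]; exact Subgroup.mem_zpowers x
      obtain ⟨j, hj⟩ := Subgroup.mem_zpowers_iff.1 hgen'
      rw [conj_zpow] at hj
      refine Subgroup.mem_zpowers_iff.2 ⟨j, ?_⟩
      calc x ^ j = ((l₀ : G)⁻¹ * g)⁻¹ * ((l₀ : G)⁻¹ * g * x ^ j * ((l₀ : G)⁻¹ * g)⁻¹) * ((l₀ : G)⁻¹ * g) := by group
        _ = _ := by rw [hj]
    obtain ⟨l, hl, c, hc, hlc⟩ := hnorm _ h3
    exact ⟨l₀ * l, mul_mem l₀.2 hl, c, hc, by rw [mul_assoc, ← hlc, mul_inv_cancel_left]⟩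
  have hcentral : ∀ c : G, Commute c x → ¬ p ∣ orderOf c → c ∈ Subgroup.center G := by
    intro c hc hcp
    have hcC : c ∈ Subgroup.centralizer ((P : Subgroup G) : Set G) := by
      rw [Subgroup.mem_centralizer_iff]
      intro z hz
      rw [hP] at hz
      obtain ⟨i, rfl⟩ := Subgroup.mem_zpowers_iff.1 hz
      exact (hc.zpow_right i).eq.symm
    have hLc : L ≤ Subgroup.centralizer {c} := by
      refine (Subgroup.closure_le _).2 fun z hz => ?_
      obtain ⟨y, hy, hyz⟩ := Group.mem_conjugatesOfSet_iff.1 hz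
      rw [Set.mem_singleton_iff] at hy
      subst hy
      obtain ⟨u, rfl⟩ := isConj_iff.1 hyz
      rw [SetLike.mem_coe, Subgroup.mem_centralizer_singleton_iff]
      exact (hcomm c hcC hcp u).eq.symm
    refine Subgroup.mem_center_iff.2 fun g => ?_
    obtain ⟨l, hl, d, hd, rfl⟩ := hdecomp g
    have h1 := Subgroup.mem_centralizer_singleton_iff.1 (hLc hl)
    have h2 := (hCab d c hd hc).eq
    rw [mul_assoc, h2, ← mul_assoc, h1, mul_assoc]
  -- conclusion
  set π := (QuotientGroup.mk' (Subgroup.center G)).comp L.subtype with hπ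
  have hsurj : Function.Surjective π := by
    intro q
    obtain ⟨g, rfl⟩ := QuotientGroup.mk_surjective q
    obtain ⟨l, hl, c, hc, rfl⟩ := hdecomp g
    obtain ⟨a, ha⟩ : ∃ a : ℕ, ((c : G ⧸ L)) ^ (p * a) = (c : G ⧸ L) := by
      have hcop : Nat.Coprime (orderOf (c : G ⧸ L)) p := by
        refine ((hp.out.coprime_iff_not_dvd).2 fun h => hsq ?_).symm
        have h1 : p ∣ Nat.card L := by
          have := Subgroup.orderOf_dvd_natCard L hxL
          rwa [hx] at this
        rw [← Subgroup.index_mul_card L, sq]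
        refine mul_dvd_mul ?_ h1
        rw [Subgroup.index_eq_card]
        exact h.trans (orderOf_dvd_natCard _)
      rcases Nat.lt_or_ge 1 (orderOf (c : G ⧸ L)) with h | h
      · obtain ⟨a, -, ha⟩ := Nat.exists_mul_mod_eq_one_of_coprime hcop.symm h
        exact ⟨a, by rw [← pow_mod_orderOf, ha, pow_one]⟩
      · have : orderOf (c : G ⧸ L) = 1 := le_antisymm h (orderOf_pos _)
        exact ⟨0, by rw [mul_zero, pow_zero, (orderOf_eq_one_iff.1 this)]⟩
    have hcz : c ^ (p * a) ∈ Subgroup.center G := by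
      refine hcentral _ (hc.pow_left _) fun h => ?_
      obtain ⟨m, hm⟩ : p ∣ orderOf c := h.trans (orderOf_pow_dvd _)
      have h2 : orderOf (c ^ (p * a)) ∣ m := orderOf_dvd_of_pow_eq_one (by
        rw [← pow_mul, show p * a * m = (p * m) * a by ring, pow_mul, ← hm, pow_orderOf_eq_one, one_pow])
      exact hsq (by rw [sq]; exact (mul_dvd_mul_left p (h.trans h2)).trans (hm ▸ orderOf_dvd_natCard c))
    have hmem : c * (c ^ (p * a))⁻¹ ∈ L := by
      rw [← QuotientGroup.eq_one_iff, QuotientGroup.mk_mul, QuotientGroup.mk_inv, QuotientGroup.mk_pow, ha,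
        mul_inv_cancel]
    refine ⟨⟨l * (c * (c ^ (p * a))⁻¹), mul_mem hl hmem⟩, ?_⟩
    show QuotientGroup.mk (l * (c * (c ^ (p * a))⁻¹)) = QuotientGroup.mk (l * c)
    rw [QuotientGroup.eq]
    simpa [mul_assoc] using hcz
  have hkereq : π.ker = Φ.ker := by
    haveI := PSLSimple.isSimpleGroup_PSL_fin' (F := ZMod p) (le_refl 2) (fun _ => by simp; omega)
    ext c
    rw [MonoidHom.mem_ker, MonoidHom.mem_ker, hπ, MonoidHom.comp_apply, QuotientGroup.mk'_apply,
      QuotientGroup.eq_one_iff, Subgroup.coe_subtype]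
    constructor
    · intro hc
      have hmem : Φ c ∈ Subgroup.center (Matrix.ProjectiveSpecialLinearGroup (Fin 2) (ZMod p)) := by
        rw [Subgroup.mem_center_iff]
        intro y
        obtain ⟨b, rfl⟩ := hΦ y
        rw [← map_mul, ← map_mul, show b * c = c * b from Subtype.ext (Subgroup.mem_center_iff.1 hc b)]
      rcases Subgroup.Normal.eq_bot_or_eq_top
        (inferInstance : (Subgroup.center (Matrix.ProjectiveSpecialLinearGroup (Fin 2) (ZMod p))).Normal) with h | h
      · rwa [h, Subgroup.mem_bot] at hmem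
      · exfalso
        refine PSLSimple.not_isMulCommutative_PSL (ι := Fin 2) (F := ZMod p) ?_ fun a b => ?_
        · exact PSLSimple.commutator_SL_fin_eq_top (le_refl 2) fun _ => PSLSimple.exists_sq_ne_one (by simp; omega)
        · exact (Subgroup.mem_center_iff.1 (h ▸ Subgroup.mem_top a) b).symm
    · intro hc
      refine hcentral _ (hcommK c hc) fun h => hK ?_
      rw [Subgroup.orderOf_coe] at h
      exact h.trans (Subgroup.orderOf_dvd_natCard _ hc)
  exact ⟨((QuotientGroup.quotientKerEquivOfSurjective π hsurj).symm.trans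
    (QuotientGroup.quotientMulEquivOfEq hkereq)).trans (QuotientGroup.quotientKerEquivOfSurjective Φ hΦ)⟩

end Cfsg.Agent.SmallDegree86
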