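import Cfsg.Agent.Lib.SmallDegreeMain86
import Cfsg.Agent.Lib.PSLSimple

/-!
The kernel of the map onto `PSL(2,p)` centralizes the Sylow subgroup, and elements of `PSL(2,p)`
squaring the exponent of an element of order `p`.
-/

set_option autoImplicit false

namespace Cfsg.Agent.SmallDegree86

attribute [local instance] Classical.propDecidable

variable {p : ℕ} [hp : Fact p.Prime]

omit hp in
/-- A conjugate of a Sylow subgroup generates the same normal closure inside itself. -/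
theorem normalClosure_sub [Fact p.Prime] {G : Type*} [Group G] [Finite G] {P : Sylow p G} {x : G}
    (hP : (P : Subgroup G) = Subgroup.zpowers x) (hx : orderOf x = p) {H : Subgroup G}
    (hH : H = Subgroup.normalClosure {x}) (hxH : x ∈ H) :
    Subgroup.normalClosure {(⟨x, hxH⟩ : H)} = ⊤ := by
  set T := Subgroup.normalClosure {(⟨x, hxH⟩ : H)} with hT
  have hPH : (P : Subgroup G) ≤ H := by rw [hP]; exact Subgroup.zpowers_le.2 hxH
  set P' := P.subtype hPH with hP'
  have hsyl : ∀ Q : Sylow p H, (Q : Subgroup H) ≤ T := by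
    intro Q
    obtain ⟨g, rfl⟩ := MulAction.exists_smul_eq H P' Q
    intro z hz
    rw [Sylow.coe_subgroup_smul, Subgroup.mem_pointwise_smul_iff_inv_smul_mem] at hz
    obtain ⟨i, hi⟩ := Subgroup.mem_zpowers_iff.1 (hP ▸ Subgroup.mem_subgroupOf.1 hz)
    have h1 : (MulAut.conj g)⁻¹ • z ∈ T := by
      have : ((⟨x, hxH⟩ : H)) ^ i = (MulAut.conj g)⁻¹ • z := Subtype.ext (by
        rw [SubgroupClass.coe_zpow]; exact hi)
      rw [← this]
      exact zpow_mem (Subgroup.subset_normalClosure (Set.mem_singleton _)) i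
    have h2 := Subgroup.Normal.conj_mem (Subgroup.normalClosure_normal) _ h1 g
    simpa [hT, mul_assoc] using h2
  have hle : H ≤ T.map H.subtype := by
    conv_lhs => rw [hH]
    refine (Subgroup.closure_le _).2 fun z hz => ?_
    have hzH : z ∈ H := hH ▸ Subgroup.subset_closure hz
    obtain ⟨y, hy, hyz⟩ := Group.mem_conjugatesOfSet_iff.1 hz
    rw [Set.mem_singleton_iff] at hy
    subst hy
    obtain ⟨g, rfl⟩ := isConj_iff.1 hyz
    have hpg : IsPGroup p (Subgroup.zpowers (⟨g * y * g⁻¹, hzH⟩ : H)) := by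
      refine IsPGroup.iff_card.2 ⟨1, ?_⟩
      rw [Nat.card_zpowers, Subgroup.orderOf_mk, ← MulAut.conj_apply, MulEquiv.orderOf_eq, hx, pow_one]
    obtain ⟨Q, hQ⟩ := hpg.exists_le_sylow
    exact ⟨_, hsyl Q (hQ (Subgroup.mem_zpowers _)), rfl⟩
  refine top_le_iff.1 fun z _ => ?_
  obtain ⟨w, hw, hwz⟩ := hle z.2
  rwa [← Subtype.ext hwz]

omit hp in
/-- A conjugacy invariant fact: a normal `p`-group containing the Sylow subgroup of order `p`. -/
theorem exists_regular_of_not_normal [Fact p.Prime] {G : Type*} [Group G] [Finite G] {P : Sylow p G}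
    {x : G} (hP : (P : Subgroup G) = Subgroup.zpowers x) {H : Subgroup G} [H.Normal] (hxH : x ∈ H)
    (hn : ¬ (P : Subgroup G).Normal) : ∃ g ∈ H, g ≠ 1 ∧ ¬ p ∣ orderOf g := by
  by_contra! h
  refine hn ?_
  have hpg : IsPGroup p H := by
    refine IsPGroup.iff_card.2 ⟨_, Nat.eq_prime_pow_of_unique_prime_dvd Nat.card_pos.ne' fun {q} hq hqd => ?_⟩
    haveI := Fact.mk hq
    obtain ⟨y, hy⟩ := exists_prime_orderOf_dvd_card' q hqd
    have h1 : ((y : G)) ≠ 1 := fun e => by
      rw [← Subgroup.orderOf_coe, e, orderOf_one] at hy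
      exact hq.ne_one hy.symm
    have h2 := h y y.2 h1
    rw [Subgroup.orderOf_coe, hy] at h2
    exact ((Nat.prime_dvd_prime_iff_eq (Fact.out : p.Prime) hq).1 h2).symm
  have hle : (P : Subgroup G) ≤ H := by rw [hP]; exact Subgroup.zpowers_le.2 hxH
  have : (P : Subgroup G) = H := P.is_maximal' hpg hle |>.symm
  rw [this]
  infer_instance

/-- The kernel of a map onto `PSL(2,p)` commutes with the Sylow subgroup. -/
theorem ker_commute {G : Type*} [Group G] [Finite G] {P : Sylow p G} {x : G}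
    (hP : (P : Subgroup G) = Subgroup.zpowers x) (hx : orderOf x = p)
    (hsq : ¬ p ^ 2 ∣ Nat.card G)
    (hcomm : ∀ c ∈ Subgroup.centralizer ((P : Subgroup G) : Set G), ¬ p ∣ orderOf c →
      ∀ g : G, Commute c (g * x * g⁻¹))
    {n : ℕ} (hn : 2 * n + 1 ≤ p) (ρ : G →* Matrix (Fin n) (Fin n) (AlgebraicClosure (ZMod p)))
    (hρ : Function.Injective ρ) (hp5 : 5 ≤ p)
    (K : Subgroup G) [K.Normal] (hK : ¬ p ∣ Nat.card K) : ∀ c ∈ K, Commute c x := by
  set M : Subgroup G := Subgroup.zpowers x ⊔ K with hM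
  have hxM : x ∈ M := Subgroup.mem_sup_left (Subgroup.mem_zpowers x)
  have hKM : K ≤ M := le_sup_right
  have hPM : (P : Subgroup G) ≤ M := by rw [hP]; exact Subgroup.zpowers_le.2 hxM
  set P₁ : Sylow p M := P.subtype hPM with hP₁
  set x₁ : M := ⟨x, hxM⟩
  have hP₁' : (P₁ : Subgroup M) = Subgroup.zpowers x₁ := by
    ext z
    rw [hP₁, Sylow.coe_subtype, Subgroup.mem_subgroupOf, hP, Subgroup.mem_zpowers_iff,
      Subgroup.mem_zpowers_iff]
    exact exists_congr fun i => ⟨fun h => Subtype.ext (by rw [SubgroupClass.coe_zpow]; exact h),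
      fun h => by rw [← h, SubgroupClass.coe_zpow]⟩
  by_contra! hne
  obtain ⟨c, hc, hcne⟩ := hne
  have hnotn : ¬ (P₁ : Subgroup M).Normal := by
    intro hN
    refine hcne ?_
    have h1 : (⟨c, hKM hc⟩ * x₁ * (⟨c, hKM hc⟩ : M)⁻¹) * x₁⁻¹ ∈ (P₁ : Subgroup M) :=
      mul_mem (hN.conj_mem _ (hP₁' ▸ Subgroup.mem_zpowers _) _) (inv_mem (hP₁' ▸ Subgroup.mem_zpowers _))
    have h2 : c * x * c⁻¹ * x⁻¹ ∈ K := by
      have : c * x * c⁻¹ * x⁻¹ = c * (x * c⁻¹ * x⁻¹) := by group
      rw [this]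
      exact mul_mem hc (Subgroup.Normal.conj_mem inferInstance _ (inv_mem hc) x)
    have h3 : c * x * c⁻¹ * x⁻¹ ∈ Subgroup.zpowers x := by
      rw [hP₁, Sylow.coe_subtype, Subgroup.mem_subgroupOf, hP] at h1
      simpa [x₁] using h1
    have h4 : orderOf (c * x * c⁻¹ * x⁻¹) ∣ 1 := by
      have ha := Subgroup.orderOf_dvd_natCard _ h2
      have hb := Subgroup.orderOf_dvd_natCard _ h3
      rw [Nat.card_zpowers, hx] at hb
      rw [← Nat.Coprime.gcd_eq_one (hp.out.coprime_iff_not_dvd.2 hK)]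
      exact Nat.dvd_gcd hb ha
    rw [Nat.dvd_one, orderOf_eq_one_iff, mul_inv_eq_one, mul_inv_eq_iff_eq_mul] at h4
    exact h4
  set H := Subgroup.normalClosure ({x₁} : Set M) with hH
  have hxH : x₁ ∈ H := Subgroup.subset_normalClosure (Set.mem_singleton _)
  obtain ⟨g, hgH, hg1, hgp⟩ := exists_regular_of_not_normal hP₁' hxH hnotn
  have hPH : (P₁ : Subgroup M) ≤ H := by rw [hP₁']; exact Subgroup.zpowers_le.2 hxH
  set P₂ : Sylow p H := P₁.subtype hPH with hP₂
  set x₂ : H := ⟨x₁, hxH⟩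
  have hP₂' : (P₂ : Subgroup H) = Subgroup.zpowers x₂ := by
    ext z
    rw [hP₂, Sylow.coe_subtype, Subgroup.mem_subgroupOf, hP₁', Subgroup.mem_zpowers_iff,
      Subgroup.mem_zpowers_iff]
    exact exists_congr fun i => ⟨fun h => Subtype.ext (by rw [SubgroupClass.coe_zpow]; exact h),
      fun h => by rw [← h, SubgroupClass.coe_zpow]⟩
  let incl : H →* G := M.subtype.comp H.subtype
  have hincl : Function.Injective incl := fun a b h => Subtype.ext (Subtype.ext h)
  have hx₂ : orderOf x₂ = p := by rw [← orderOf_injective incl hincl x₂]; exact hx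
  have hsq₂ : ¬ p ^ 2 ∣ Nat.card H := fun h => hsq (h.trans (Subgroup.card_dvd_of_injective incl hincl))
  have hgen := normalClosure_sub hP₁' (by rw [← Subgroup.orderOf_coe]; exact hx) hH hxH
  have hcen : ∀ d ∈ Subgroup.centralizer ((P₂ : Subgroup H) : Set H), ¬ p ∣ orderOf d →
      d ∈ Subgroup.center H := by
    intro d hd hdp
    have hdG : incl d ∈ Subgroup.centralizer ((P : Subgroup G) : Set G) := by
      rw [Subgroup.mem_centralizer_iff]
      intro z hz
      rw [hP] at hz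
      obtain ⟨i, rfl⟩ := Subgroup.mem_zpowers_iff.1 hz
      have h := Subgroup.mem_centralizer_iff.1 hd (x₂ ^ i) (hP₂' ▸ zpow_mem (Subgroup.mem_zpowers _) i)
      have := congrArg incl h
      rw [map_mul, map_mul, map_zpow] at this
      exact this
    have hdord : ¬ p ∣ orderOf (incl d) := by rwa [orderOf_injective incl hincl]
    have htop : Subgroup.normalClosure {x₂} ≤ Subgroup.centralizer {d} := by
      refine (Subgroup.closure_le _).2 fun z hz => ?_
      obtain ⟨y, hy, hyz⟩ := Group.mem_conjugatesOfSet_iff.1 hz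
      rw [Set.mem_singleton_iff] at hy
      subst hy
      obtain ⟨w, rfl⟩ := isConj_iff.1 hyz
      rw [SetLike.mem_coe, Subgroup.mem_centralizer_singleton_iff]
      refine hincl ?_
      have := (hcomm _ hdG hdord (incl w)).eq
      simp only [map_mul, map_inv]
      exact this.symm
    rw [hgen] at htop
    exact Subgroup.mem_center_iff.2 fun w =>
      Subgroup.mem_centralizer_singleton_iff.1 (htop (Subgroup.mem_top w))
  obtain ⟨Φ, hΦ⟩ := exists_psl hP₂' hx₂ hsq₂ hgen hcen hn (ρ.comp incl)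
    (g₀ := ⟨g, hgH⟩) (fun h => hg1 (by
      have h1 : incl ⟨g, hgH⟩ = 1 := hρ (by rw [map_one]; exact h)
      exact Subtype.ext h1))
    (by rwa [Subgroup.orderOf_mk])
  haveI := PSLSimple.isSimpleGroup_PSL_fin' (F := ZMod p) (le_refl 2) (fun _ => by simp; omega)
  set K₂ := K.comap incl with hK₂
  have hK₂n : (K₂.map Φ).Normal := Subgroup.Normal.map inferInstance Φ hΦ
  rcases Subgroup.Normal.eq_bot_or_eq_top hK₂n with h | h
  · have hab : ∀ a b : H, Φ a * Φ b = Φ b * Φ a := by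
      intro a b
      have h1 : a * b * a⁻¹ * b⁻¹ ∈ K₂ := by
        rw [hK₂, Subgroup.mem_comap, ← QuotientGroup.eq_one_iff (N := K)]
        have hcyc : ∀ w : H, ∃ i : ℤ, ((incl w : G) : G ⧸ K) = (x : G ⧸ K) ^ i := by
          intro w
          have hw : (incl w : G) ∈ Subgroup.zpowers x ⊔ K := (w : M).2
          obtain ⟨u, hu, v, hv, huv⟩ := Subgroup.mem_sup_of_normal_right.1 hw
          obtain ⟨i, rfl⟩ := Subgroup.mem_zpowers_iff.1 hu
          refine ⟨i, ?_⟩
          rw [← huv, QuotientGroup.mk_mul, QuotientGroup.mk_zpow, (QuotientGroup.eq_one_iff v).2 hv, mul_one]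
        obtain ⟨i, hi⟩ := hcyc a
        obtain ⟨j, hj⟩ := hcyc b
        simp only [map_mul, map_inv, QuotientGroup.mk_mul, QuotientGroup.mk_inv, hi, hj]
        group
      have h2 : Φ (a * b * a⁻¹ * b⁻¹) = 1 := by
        rw [← Subgroup.mem_bot, ← h]
        exact Subgroup.mem_map_of_mem Φ h1
      simp only [map_mul, map_inv] at h2
      rw [mul_inv_eq_one, mul_inv_eq_iff_eq_mul] at h2
      exact h2
    have hcard : Nat.card (Matrix.ProjectiveSpecialLinearGroup (Fin 2) (ZMod p)) ≠ p := by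
      rw [PSLCard.card_PSL2_odd (by rw [Nat.card_zmod]; exact hp.out.odd_of_ne_two (by omega)),
        Nat.card_zmod]
      intro he
      have h3 : 2 * 2 ≤ p ^ 2 - 1 := by
        have : 25 ≤ p ^ 2 := by nlinarith
        omega
      have : p * 2 ≤ p * (p ^ 2 - 1) / 2 := by
        rw [Nat.le_div_iff_mul_le two_pos, mul_assoc]
        exact Nat.mul_le_mul_left p h3
      omega
    refine hcard ?_
    haveI : IsMulCommutative (Matrix.ProjectiveSpecialLinearGroup (Fin 2) (ZMod p)) := ⟨⟨fun a b => by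
      obtain ⟨a, rfl⟩ := hΦ a
      obtain ⟨b, rfl⟩ := hΦ b
      exact hab a b⟩⟩
    letI : CommGroup (Matrix.ProjectiveSpecialLinearGroup (Fin 2) (ZMod p)) :=
      { (inferInstance : Group (Matrix.ProjectiveSpecialLinearGroup (Fin 2) (ZMod p))) with
        mul_comm := fun a b => IsMulCommutative.is_comm.comm a b }
    have hprime := IsSimpleGroup.prime_card (α := Matrix.ProjectiveSpecialLinearGroup (Fin 2) (ZMod p))
    have hd : p ∣ Nat.card (Matrix.ProjectiveSpecialLinearGroup (Fin 2) (ZMod p)) := by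
      have hx1 : orderOf (Φ x₂) = p := by
        refine orderOf_eq_prime ?_ fun h1 => ?_
        · rw [← map_pow, orderOf_dvd_iff_pow_eq_one.1 hx₂.dvd, map_one]
        · have hle : Subgroup.normalClosure {x₂} ≤ Φ.ker :=
            Subgroup.normalClosure_le_normal (by simpa using h1)
          rw [hgen] at hle
          refine absurd ?_ (not_subsingleton (Matrix.ProjectiveSpecialLinearGroup (Fin 2) (ZMod p)))
          refine ⟨fun a b => ?_⟩
          obtain ⟨a, rfl⟩ := hΦ a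
          obtain ⟨b, rfl⟩ := hΦ b
          rw [(hle (Subgroup.mem_top a) : Φ a = 1), (hle (Subgroup.mem_top b) : Φ b = 1)]
      have h5 := orderOf_dvd_natCard (Φ x₂)
      rwa [hx1] at h5
    exact ((Nat.prime_dvd_prime_iff_eq hp.out hprime).1 hd).symm
  · have hd : Nat.card (K₂.map Φ) ∣ Nat.card K := by
      refine (Subgroup.card_map_dvd K₂ Φ).trans ?_
      exact Subgroup.card_dvd_of_injective
        ((incl.comp K₂.subtype).codRestrict K fun z => z.2)
        (fun a b h => Subtype.ext (hincl (congrArg (fun z : K => (z : G)) h)))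
    rw [h, Subgroup.card_top] at hd
    refine hK (dvd_trans ?_ hd)
    rw [PSLCard.card_PSL2_odd (by rw [Nat.card_zmod]; exact hp.out.odd_of_ne_two (by omega)),
      Nat.card_zmod, Nat.mul_div_assoc]
    · exact dvd_mul_right _ _
    · obtain ⟨c, hc⟩ := (hp.out.odd_of_ne_two (show p ≠ 2 by omega)).pow (n := 2)
      exact ⟨c, by omega⟩

omit hp in
/-- The unipotent element of `PSL(2,p)`. -/
noncomputable def upSL (b : ZMod p) [Fact p.Prime] : Matrix.SpecialLinearGroup (Fin 2) (ZMod p) :=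
  ⟨!![1, b; 0, 1], by simp [Matrix.det_fin_two]⟩

omit hp in
/-- The image of a unipotent element. -/
noncomputable def upp (b : ZMod p) [Fact p.Prime] :
    Matrix.ProjectiveSpecialLinearGroup (Fin 2) (ZMod p) :=
  QuotientGroup.mk (upSL b)

theorem upp_mul (b c : ZMod p) : upp b * upp c = upp (b + c) := by
  rw [upp, upp, upp, ← QuotientGroup.mk_mul]
  congr 1
  apply Subtype.ext
  show (!![1, b; 0, 1] : Matrix (Fin 2) (Fin 2) (ZMod p)) * !![1, c; 0, 1] = !![1, b + c; 0, 1]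
  simp [Matrix.mul_fin_two, add_comm]

theorem upp_pow (b : ZMod p) (n : ℕ) : upp b ^ n = upp ((n : ZMod p) * b) := by
  induction n with
  | zero =>
    rw [pow_zero, Nat.cast_zero, zero_mul, upp, eq_comm, QuotientGroup.eq_one_iff]
    convert one_mem (Subgroup.center (Matrix.SpecialLinearGroup (Fin 2) (ZMod p))) using 1
    apply Subtype.ext
    simp only [Matrix.SpecialLinearGroup.coe_one, Matrix.one_fin_two]
    rfl
  | succ n ih => rw [pow_succ, ih, upp_mul, Nat.cast_succ, add_mul, one_mul]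

theorem upp_ne_one {b : ZMod p} (hb : b ≠ 0) : upp b ≠ 1 := by
  rw [upp, Ne, QuotientGroup.eq_one_iff]
  intro h
  obtain ⟨r, -, hr⟩ := Matrix.SpecialLinearGroup.mem_center_iff.1 h
  have := congrFun (congrFun hr 0) 1
  simp at this
  exact hb (by simpa [upSL] using this.symm)

theorem upp_conj (s b : ZMod p) (hs : s ≠ 0) :
    ∃ d : Matrix.ProjectiveSpecialLinearGroup (Fin 2) (ZMod p), d * upp b * d⁻¹ = upp (s ^ 2 * b) := by
  obtain ⟨dg, hdg⟩ : ∃ dg : Matrix.SpecialLinearGroup (Fin 2) (ZMod p),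
      (dg : Matrix (Fin 2) (Fin 2) (ZMod p)) = !![s, 0; 0, s⁻¹] :=
    ⟨⟨!![s, 0; 0, s⁻¹], by simp [Matrix.det_fin_two, hs]⟩, rfl⟩
  refine ⟨QuotientGroup.mk dg, ?_⟩
  rw [mul_inv_eq_iff_eq_mul, upp, upp, ← QuotientGroup.mk_mul, ← QuotientGroup.mk_mul]
  congr 1
  apply Subtype.ext
  rw [Matrix.SpecialLinearGroup.coe_mul, Matrix.SpecialLinearGroup.coe_mul, hdg]
  show (!![s, 0; 0, s⁻¹] : Matrix (Fin 2) (Fin 2) (ZMod p)) * !![1, b; 0, 1] =
    !![1, s ^ 2 * b; 0, 1] * !![s, 0; 0, s⁻¹]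
  simp [Matrix.mul_fin_two, pow_two]
  field_simp

/-- In the preimage of `PSL(2,p)` every square power of the Sylow generator is a conjugate. -/
theorem exists_square_conj {G : Type*} [Group G] [Finite G] {x : G} (hx : orderOf x = p) (hp5 : 5 ≤ p)
    (Φ : G →* Matrix.ProjectiveSpecialLinearGroup (Fin 2) (ZMod p)) (hΦ : Function.Surjective Φ)
    (hΦx : Φ x ≠ 1) (hcomm : ∀ c ∈ Φ.ker, Commute c x) (hK : ¬ p ∣ Nat.card Φ.ker) (s : (ZMod p)ˣ) :
    ∃ (w : G) (r : ℕ), (r : ZMod p) = (s : ZMod p) ^ 2 ∧ w⁻¹ * x * w = x ^ r := by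
  have hxp : x ^ p = 1 := orderOf_dvd_iff_pow_eq_one.1 hx.dvd
  set u := upp (1 : ZMod p) with hu
  have hu1 : orderOf u = p := orderOf_eq_prime
    (by rw [hu, upp_pow, mul_one, CharP.cast_eq_zero, ← Nat.cast_zero (R := ZMod p), ← mul_one ((0 : ℕ) : ZMod p), ← upp_pow, pow_zero])
    (upp_ne_one one_ne_zero)
  have hy : orderOf (Φ x) = p := orderOf_eq_prime (by rw [← map_pow, hxp, map_one]) hΦx
  have hcard : (Nat.card (Matrix.ProjectiveSpecialLinearGroup (Fin 2) (ZMod p))).factorization p = 1 := by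
    rw [PSLCard.card_PSL2_odd (by rw [Nat.card_zmod]; exact hp.out.odd_of_ne_two (by omega)), Nat.card_zmod]
    obtain ⟨c, hc⟩ := (hp.out.odd_of_ne_two (show p ≠ 2 by omega)).pow (n := 2)
    rw [show p ^ 2 - 1 = 2 * c by omega, mul_left_comm, Nat.mul_div_cancel_left _ two_pos]
    have hc0 : c ≠ 0 := fun h => by rw [h] at hc; nlinarith
    have hcp : ¬ p ∣ c := fun h => by
      have h1 : p ∣ p ^ 2 := dvd_pow_self p two_ne_zero
      rw [hc] at h1
      have := (Nat.dvd_add_right (h.mul_left 2)).1 h1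
      exact hp.out.not_dvd_one this
    rw [Nat.factorization_mul hp.out.ne_zero hc0, Finsupp.add_apply, Nat.factorization_eq_zero_of_not_dvd hcp,
      hp.out.factorization_self]
  have hS : ∀ z : Matrix.ProjectiveSpecialLinearGroup (Fin 2) (ZMod p), orderOf z = p →
      ∃ Q : Sylow p (Matrix.ProjectiveSpecialLinearGroup (Fin 2) (ZMod p)), (Q : Subgroup _) = Subgroup.zpowers z := by
    intro z hz
    exact ⟨Sylow.ofCard (Subgroup.zpowers z) (by rw [Nat.card_zpowers, hz, hcard, pow_one]), Sylow.coe_ofCard _ _⟩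
  obtain ⟨Qx, hQx⟩ := hS _ hy
  obtain ⟨Qu, hQu⟩ := hS _ hu1
  obtain ⟨g, hg⟩ := MulAction.exists_smul_eq (Matrix.ProjectiveSpecialLinearGroup (Fin 2) (ZMod p)) Qx Qu
  have h1 : g * Φ x * g⁻¹ ∈ Subgroup.zpowers u := by
    rw [← hQu, ← hg, Sylow.coe_subgroup_smul, Subgroup.mem_pointwise_smul_iff_inv_smul_mem, hQx]
    simp [mul_assoc]
  obtain ⟨i, hi⟩ := ((isOfFinOrder_of_finite u).mem_powers_iff_mem_zpowers).2 h1
  obtain ⟨d, hd⟩ := upp_conj (p := p) (s : ZMod p) ((i : ZMod p) * 1) s.ne_zero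
  set r := ((s : ZMod p) ^ 2).val with hr
  have hrr : (r : ZMod p) = (s : ZMod p) ^ 2 := ZMod.natCast_zmod_val _
  obtain ⟨w, hw⟩ := hΦ (g⁻¹ * d * g)
  refine ⟨w⁻¹, r, hrr, ?_⟩
  rw [inv_inv]
  have h2 : Φ (w * x * w⁻¹) = Φ (x ^ r) := by
    have hui : u ^ i = g * Φ x * g⁻¹ := hi
    have e1 : d * (g * Φ x * g⁻¹) * d⁻¹ = (g * Φ x * g⁻¹) ^ r := by
      rw [← hui, hu, upp_pow, hd, ← mul_assoc, ← hrr, ← Nat.cast_mul, ← upp_pow, mul_comm, pow_mul, ← upp_pow (1 : ZMod p) i]
    rw [map_mul, map_mul, map_inv, hw, map_pow]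
    calc g⁻¹ * d * g * Φ x * (g⁻¹ * d * g)⁻¹ = g⁻¹ * (d * (g * Φ x * g⁻¹) * d⁻¹) * g := by group
      _ = g⁻¹ * ((g * Φ x * g⁻¹) ^ r) * g := by rw [e1]
      _ = Φ x ^ r := by rw [conj_pow]; group
  set z := (x ^ r)⁻¹ * (w * x * w⁻¹) with hz
  have hzK : z ∈ Φ.ker := by rw [MonoidHom.mem_ker, hz, map_mul, map_inv, h2, inv_mul_cancel]
  have hzp : z ^ p = 1 := by
    have e : w * x * w⁻¹ = x ^ r * z := by rw [hz, mul_inv_cancel_left]
    have h3 := congrArg (· ^ p) e
    simp only [conj_pow, hxp, mul_one, mul_inv_cancel] at h3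
    rw [((hcomm z hzK).pow_right r).symm.mul_pow, ← pow_mul, mul_comm, pow_mul, hxp, one_pow, one_mul] at h3
    exact h3.symm
  have hz1 : z = 1 := by
    rw [← orderOf_eq_one_iff, ← Nat.dvd_one, ← Nat.Coprime.gcd_eq_one (hp.out.coprime_iff_not_dvd.2 hK)]
    exact Nat.dvd_gcd (orderOf_dvd_of_pow_eq_one hzp) (Subgroup.orderOf_dvd_natCard _ hzK)
  rw [hz, inv_mul_eq_one] at hz1
  exact hz1.symm

end Cfsg.Agent.SmallDegree86
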