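import Cfsg.Agent.Lib.SmallDegreeOrth86
import Cfsg.Agent.Lib.SmallDegreeDickson86

/-!
A group generated by conjugates of an element spanning a Sylow subgroup of prime order `p`, with
central regular centralizer and a nontrivial representation of degree at most `(p - 1) / 2` in
characteristic `p`, maps onto `PSL(2,p)`.
-/

set_option autoImplicit false

namespace Cfsg.Agent.SmallDegree86

open Cfsg.Agent.BlockPrime86

attribute [local instance] Classical.propDecidable

section Specialize

set_option synthInstance.maxHeartbeats 200000 in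
/-- A faithful matrix representation in characteristic `p` has a faithful specialization over the
algebraic closure of the prime field. -/
theorem exists_specialization {p : ℕ} [hp : Fact p.Prime] {k : Type*} [Field k] [CharP k p]
    {G : Type*} [Group G] [Finite G] {n : ℕ} (Ψ : G →* Matrix (Fin n) (Fin n) k)
    (hΨ : Function.Injective Ψ) :
    ∃ Ψ' : G →* Matrix (Fin n) (Fin n) (AlgebraicClosure (ZMod p)), Function.Injective Ψ' := by
  cases nonempty_fintype G
  letI : Algebra (ZMod p) k := ZMod.algebra k p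
  set S : Set k := Set.range fun x : G × Fin n × Fin n => Ψ x.1 x.2.1 x.2.2 with hS
  set A := Algebra.adjoin (ZMod p) S with hA
  haveI : Algebra.FiniteType (ZMod p) A :=
    (Subalgebra.fg_iff_finiteType A).1 (Subalgebra.fg_def.2 ⟨S, Set.finite_range _, rfl⟩)
  haveI : IsJacobsonRing A := isJacobsonRing_of_finiteType (A := ZMod p)
  have hne : ∀ g : G, g ≠ 1 → ∃ i j, Ψ g i j - (1 : Matrix (Fin n) (Fin n) k) i j ≠ 0 := by
    intro g hg
    by_contra! h
    exact hg (hΨ (by ext i j; rw [map_one]; exact sub_eq_zero.1 (h i j)))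
  rcases isEmpty_or_nonempty (Fin n) with hn | hn
  · exact ⟨1, fun a b _ => hΨ (Subsingleton.elim _ _)⟩
  choose! fi fj hfij using hne
  have hmem : ∀ g i j, Ψ g i j ∈ A := fun g i j => Algebra.subset_adjoin ⟨(g, i, j), rfl⟩
  have hone : ∀ i j, (1 : Matrix (Fin n) (Fin n) k) i j ∈ A := fun i j => by
    rw [Matrix.one_apply]; split_ifs <;> simp
  set z : A := ∏ g ∈ (Finset.univ : Finset G).filter (· ≠ 1),
    ⟨_, sub_mem (hmem g (fi g) (fj g)) (hone (fi g) (fj g))⟩ with hz
  have hz0 : z ≠ 0 := by
    rw [hz, Finset.prod_ne_zero_iff]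
    intro g hg h
    exact hfij g (Finset.mem_filter.1 hg).2 (congrArg Subtype.val h)
  obtain ⟨m, hm, hzm⟩ : ∃ m : Ideal A, m.IsMaximal ∧ z ∉ m := by
    by_contra! h
    have h1 : z ∈ (⊥ : Ideal A).jacobson := by
      rw [Ideal.jacobson, Ideal.mem_sInf]
      rintro m ⟨-, hm⟩
      exact h m hm
    rw [IsJacobsonRing.out' (⊥ : Ideal A) (Ideal.isRadical_bot)] at h1
    exact hz0 h1
  haveI := hm
  letI : Field (A ⧸ m) := Ideal.Quotient.field m
  haveI : Algebra.FiniteType (ZMod p) (A ⧸ m) := Algebra.FiniteType.of_surjective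
    (Ideal.Quotient.mkₐ (ZMod p) m) (Ideal.Quotient.mkₐ_surjective _ _)
  haveI : Module.Finite (ZMod p) (A ⧸ m) := finite_of_finite_type_of_isJacobsonRing (ZMod p) (A ⧸ m)
  haveI : Algebra.IsAlgebraic (ZMod p) (A ⧸ m) := Algebra.IsAlgebraic.of_finite _ _
  let ι : (A ⧸ m) →+* AlgebraicClosure (ZMod p) :=
    (IsAlgClosed.lift : (A ⧸ m) →ₐ[ZMod p] AlgebraicClosure (ZMod p)).toRingHom
  let φ : A →+* AlgebraicClosure (ZMod p) := ι.comp (Ideal.Quotient.mk m)
  let Ψ₀ : G →* Matrix (Fin n) (Fin n) A :=
    { toFun := fun g => Matrix.of fun i j => ⟨Ψ g i j, hmem g i j⟩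
      map_one' := by ext i j; simp [Matrix.one_apply, apply_ite Subtype.val]
      map_mul' := fun g h => by ext i j; simp [Matrix.mul_apply] }
  refine ⟨(φ.mapMatrix.toMonoidHom).comp Ψ₀, (injective_iff_map_eq_one _).2 fun g hg => ?_⟩
  by_contra hne
  have h1 := congrFun (congrFun hg (fi g)) (fj g)
  have h2 : φ ⟨_, sub_mem (hmem g (fi g) (fj g)) (hone (fi g) (fj g))⟩ = 0 := by
    have e : (⟨_, sub_mem (hmem g (fi g) (fj g)) (hone (fi g) (fj g))⟩ : A) =
        Ψ₀ g (fi g) (fj g) - (1 : Matrix (Fin n) (Fin n) A) (fi g) (fj g) := by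
      apply Subtype.ext
      simp [Ψ₀, Matrix.one_apply, apply_ite Subtype.val]
    rw [e, map_sub]
    have e2 : φ ((1 : Matrix (Fin n) (Fin n) A) (fi g) (fj g)) =
        (1 : Matrix (Fin n) (Fin n) (AlgebraicClosure (ZMod p))) (fi g) (fj g) := by
      rw [Matrix.one_apply, Matrix.one_apply]; split_ifs <;> simp
    rw [e2, sub_eq_zero]
    exact h1
  refine hzm ?_
  rw [hz]
  refine Ideal.IsPrime.prod_mem_iff.2 ⟨g, Finset.mem_filter.2 ⟨Finset.mem_univ _, hne⟩, ?_⟩
  rw [← Ideal.Quotient.eq_zero_iff_mem]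
  exact (map_eq_zero ι).1 h2

/-- Projective representations over the algebraic closure of the prime field descend to finite
fields. -/
theorem exists_finite_pgl {p : ℕ} [hp : Fact p.Prime] {G : Type*} [Group G] [Finite G]
    (Ψ : G →* Matrix.ProjGenLinGroup (Fin 2) (AlgebraicClosure (ZMod p))) :
    ∃ (F : Type) (_ : Field F) (_ : Finite F) (_ : CharP F p)
      (Ψ' : G →* Matrix.ProjGenLinGroup (Fin 2) F), ∀ g, Ψ' g = 1 ↔ Ψ g = 1 := by
  cases nonempty_fintype G
  choose u hu using fun g => Matrix.ProjGenLinGroup.mk_surjective (Ψ g)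
  set S : Set (AlgebraicClosure (ZMod p)) := Set.range fun x : G × Fin 2 × Fin 2 =>
    (u x.1 : Matrix (Fin 2) (Fin 2) (AlgebraicClosure (ZMod p))) x.2.1 x.2.2 with hS
  set F := IntermediateField.adjoin (ZMod p) S with hF
  haveI : Finite S := (Set.finite_range _).to_subtype
  haveI : FiniteDimensional (ZMod p) F := IntermediateField.finiteDimensional_adjoin
    fun x _ => Algebra.IsIntegral.isIntegral x
  haveI : Finite F := Module.finite_of_finite (ZMod p)
  let f : F →+* AlgebraicClosure (ZMod p) := F.val.toRingHom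
  let M : G → Matrix (Fin 2) (Fin 2) F := fun g => Matrix.of fun i j =>
    ⟨(u g : Matrix (Fin 2) (Fin 2) (AlgebraicClosure (ZMod p))) i j,
      IntermediateField.subset_adjoin _ _ ⟨(g, i, j), rfl⟩⟩
  have hM : ∀ g, f.mapMatrix (M g) = (u g : Matrix (Fin 2) (Fin 2) (AlgebraicClosure (ZMod p))) :=
    fun g => rfl
  have hdet : ∀ g, (M g).det ≠ 0 := fun g h => by
    have := congrArg f h
    rw [RingHom.map_det, hM, map_zero] at this
    exact (u g).det_ne_zero this
  have hmap : ∀ g, Matrix.ProjGenLinGroup.map f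
      (Matrix.ProjGenLinGroup.mk (Matrix.GeneralLinearGroup.mkOfDetNeZero (M g) (hdet g))) = Ψ g := by
    intro g
    rw [Matrix.ProjGenLinGroup.map_mk, ← hu g]
    congr 1
    exact Units.ext (hM g)
  have hinj := DicksonSubfield.pglMap_injective f
  refine ⟨F, inferInstance, inferInstance, inferInstance, MonoidHom.mk' (fun g =>
    Matrix.ProjGenLinGroup.mk (Matrix.GeneralLinearGroup.mkOfDetNeZero (M g) (hdet g)))
    (fun g h => hinj (by rw [map_mul, hmap, hmap, hmap, map_mul])), fun g => ?_⟩
  rw [MonoidHom.mk'_apply, ← hinj.eq_iff, hmap, map_one]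

end Specialize

section Irreducible

variable {k : Type*} [Field k] {G : Type*} [Group G]

/-- Some irreducible subquotient sees an element of order prime to the characteristic. -/
theorem exists_irred_subquot (n : ℕ) : ∀ (m : ℕ), m ≤ n → ∀ (ρ : G →* Matrix (Fin m) (Fin m) k) (g : G),
    ρ g ≠ 1 → (orderOf g : k) ≠ 0 →
    ∃ (l : ℕ) (σ : G →* Module.End k (Fin l → k)), l ≤ m ∧ Irred σ ∧ σ g ≠ 1 := by
  induction n with
  | zero =>
    intro m hm ρ g hg
    obtain rfl : m = 0 := by omega
    exact absurd (Subsingleton.elim _ _) hg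
  | succ n ih =>
    intro m hm ρ g hg hord
    set R : G →* Module.End k (Fin m → k) :=
      (Matrix.toLinAlgEquiv'.toAlgHom.toRingHom.toMonoidHom).comp ρ with hR
    have hRg : R g ≠ 1 := fun h => hg (Matrix.toLinAlgEquiv'.injective (h.trans (map_one _).symm))
    rcases m with _ | m
    · exact absurd (Subsingleton.elim _ _) hg
    by_cases hirr : Irred R
    · exact ⟨m + 1, R, le_rfl, hirr, hRg⟩
    obtain ⟨U, hU, hU0, hU1⟩ : ∃ U : Submodule k (Fin (m + 1) → k),
        (∀ h, ∀ x ∈ U, R h x ∈ U) ∧ U ≠ ⊥ ∧ U ≠ ⊤ := by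
      by_contra! h
      exact hirr ⟨inferInstance, fun U hU => or_iff_not_imp_left.2 (h U hU)⟩
    have hlt : Module.finrank k U < m + 1 := by
      simpa using Submodule.finrank_lt hU1
    have hqlt : Module.finrank k ((Fin (m + 1) → k) ⧸ U) < m + 1 := by
      have h1 := U.finrank_quotient_add_finrank
      have h2 : 0 < Module.finrank k U := Nat.pos_of_ne_zero fun h => hU0 (Submodule.finrank_eq_zero.1 h)
      rw [Module.finrank_fin_fun] at h1
      omega
    let RU : G →* Module.End k U :=
      { toFun := fun h => (R h).restrict (hU h)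
        map_one' := LinearMap.ext fun v => Subtype.ext (by simp)
        map_mul' := fun a b => LinearMap.ext fun v => Subtype.ext (by simp) }
    let RQ : G →* Module.End k ((Fin (m + 1) → k) ⧸ U) :=
      { toFun := fun h => U.mapQ U (R h) (hU h)
        map_one' := Submodule.linearMap_qext _ (LinearMap.ext fun v => by simp)
        map_mul' := fun a b => Submodule.linearMap_qext _ (LinearMap.ext fun v => by simp) }
    by_cases hgU : RU g = 1
    · by_cases hgQ : RQ g = 1
      · exfalso
        refine hRg ?_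
        have h2 : (R g - 1) * (R g - 1) = 0 := by
          refine LinearMap.ext fun v => ?_
          have hv : R g v - v ∈ U := by
            have := LinearMap.congr_fun hgQ (Submodule.Quotient.mk v)
            exact (Submodule.Quotient.eq U).1 this
          have := congrArg Subtype.val (LinearMap.congr_fun hgU ⟨_, hv⟩)
          simp only [Module.End.mul_apply, LinearMap.sub_apply, Module.End.one_apply, LinearMap.zero_apply]
          exact sub_eq_zero.2 this
        set N := R g - 1 with hN
        have hpow : ∀ i : ℕ, (1 + N) ^ i = 1 + (i : k) • N := by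
          intro i
          induction i with
          | zero => simp
          | succ i ihh =>
            rw [pow_succ, ihh, add_mul, mul_add, mul_add, smul_mul_assoc, smul_mul_assoc, h2,
              one_mul, one_mul, mul_one, smul_zero, add_zero]
            push_cast
            rw [add_smul, one_smul]
            abel
        have h3 := hpow (orderOf g)
        rw [hN, add_sub_cancel, ← map_pow, pow_orderOf_eq_one, map_one, ← hN, left_eq_add] at h3
        rwa [smul_eq_zero, or_iff_right hord, hN, sub_eq_zero] at h3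
      · set b := Module.finBasis k ((Fin (m + 1) → k) ⧸ U)
        obtain ⟨l, σ, hl, h1, h2⟩ := ih _ (by omega)
          ((LinearMap.toMatrixAlgEquiv b).toAlgHom.toRingHom.toMonoidHom.comp RQ) g
          (fun h => hgQ ((LinearMap.toMatrixAlgEquiv b).injective (h.trans (map_one _).symm))) hord
        exact ⟨l, σ, by omega, h1, h2⟩
    · set b := Module.finBasis k U
      obtain ⟨l, σ, hl, h1, h2⟩ := ih _ (by omega)
        ((LinearMap.toMatrixAlgEquiv b).toAlgHom.toRingHom.toMonoidHom.comp RU) g
        (fun h => hgU ((LinearMap.toMatrixAlgEquiv b).injective (h.trans (map_one _).symm))) hord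
      exact ⟨l, σ, by omega, h1, h2⟩

end Irreducible

section Main

variable {p : ℕ} [hp : Fact p.Prime]

/-- The main theorem on representations of small degree in the natural characteristic. -/
theorem exists_psl {G : Type*} [Group G] [Finite G] {P : Sylow p G} {x : G}
    (hP : (P : Subgroup G) = Subgroup.zpowers x) (hx : orderOf x = p)
    (hsq : ¬ p ^ 2 ∣ Nat.card G) (hgen : Subgroup.normalClosure {x} = ⊤)
    (hcen : ∀ c ∈ Subgroup.centralizer ((P : Subgroup G) : Set G), ¬ p ∣ orderOf c →
      c ∈ Subgroup.center G)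
    {n : ℕ} (hn : 2 * n + 1 ≤ p) (ρ : G →* Matrix (Fin n) (Fin n) (AlgebraicClosure (ZMod p)))
    {g₀ : G} (hg₀ : ρ g₀ ≠ 1) (hg₀' : ¬ p ∣ orderOf g₀) :
    ∃ Φ : G →* Matrix.ProjectiveSpecialLinearGroup (Fin 2) (ZMod p), Function.Surjective Φ := by
  set k := AlgebraicClosure (ZMod p)
  have hord0 : (orderOf g₀ : k) ≠ 0 := by rwa [Ne, CharP.cast_eq_zero_iff k p]
  obtain ⟨l, σ, hl, hirr, hσg⟩ := exists_irred_subquot n n le_rfl ρ g₀ hg₀ hord0
  have hdim : 2 * Module.finrank k (Fin l → k) + 1 ≤ p := by rw [Module.finrank_fin_fun]; omega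
  have hσx : σ x ≠ 1 := by
    intro h
    refine hσg ?_
    have : Subgroup.normalClosure {x} ≤ σ.ker := Subgroup.normalClosure_le_normal (by simpa using h)
    exact this (by rw [hgen]; trivial)
  haveI := hirr.1
  have hl2 : 2 ≤ l := by
    by_contra hlt
    refine hσx ?_
    have hl1 : l = 1 := by
      rcases Nat.eq_zero_or_pos l with rfl | hpos
      · exact absurd (Subsingleton.elim _ _) hσg
      · omega
    subst hl1
    have e : (σ x - 1) ^ p = 0 := by
      have e : (σ x - 1) ^ p = Polynomial.aeval (σ x) ((Polynomial.X - 1 : Polynomial k) ^ p) := by simp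
      rw [e, sub_pow_char, one_pow]
      simp [← map_pow σ, ← hx, pow_orderOf_eq_one]
    have h := LinearMap.aeval_self_charpoly (σ x - 1)
    rw [(LinearMap.isNilpotent_iff_charpoly (σ x - 1)).1 ⟨p, e⟩, map_pow, Polynomial.aeval_X,
      Module.finrank_fin_fun, pow_one] at h
    exact sub_eq_zero.1 h
  have hp5 : 5 ≤ p := by omega
  -- the action of the normalizer on the Sylow subgroup
  have hxp : x ^ p = 1 := orderOf_dvd_iff_pow_eq_one.1 (hx ▸ dvd_rfl)
  set N := Subgroup.normalizer ((P : Subgroup G) : Set G) with hN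
  have hfin : IsOfFinOrder x := isOfFinOrder_of_finite x
  have hex : ∀ g : N, ∃ r : ℕ, (g : G) * x * (g : G)⁻¹ = x ^ r := by
    intro g
    have h := (Subgroup.mem_normalizer_iff.1 g.2 x).1 (hP ▸ Subgroup.mem_zpowers x)
    rw [hP] at h
    obtain ⟨r, hr⟩ := (hfin.mem_powers_iff_mem_zpowers).2 h
    exact ⟨r, hr.symm⟩
  choose ν hν using hex
  have hpowinj : ∀ a b : ℕ, x ^ a = x ^ b ↔ (a : ZMod p) = (b : ZMod p) := fun a b => by
    rw [pow_eq_pow_iff_modEq, hx, ZMod.natCast_eq_natCast_iff]
  have hνone : (ν 1 : ZMod p) = 1 := by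
    rw [← Nat.cast_one, ← hpowinj, ← hν 1]
    simp
  have hνmul : ∀ a b : N, (ν (a * b) : ZMod p) = ν a * ν b := fun a b => by
    rw [← Nat.cast_mul, ← hpowinj, ← hν, pow_mul]
    have : ((a * b : N) : G) * x * ((a * b : N) : G)⁻¹ =
        (a : G) * ((b : G) * x * (b : G)⁻¹) * (a : G)⁻¹ := by push_cast; group
    rw [this, hν b, ← conj_pow, hν a]
  let νh : N →* ZMod p := { toFun := fun g => ν g, map_one' := hνone, map_mul' := hνmul }
  let νu : N →* (ZMod p)ˣ := νh.toHomUnits
  obtain ⟨w, hw⟩ := IsCyclic.exists_generator (α := νu.range)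
  obtain ⟨t₀, ht₀⟩ := w.2
  set s := (orderOf t₀).factorization p
  set t : N := t₀ ^ p ^ s with ht
  have htord : ¬ p ∣ orderOf t := by
    rw [ht, orderOf_pow' _ (pow_ne_zero _ hp.out.ne_zero),
      Nat.gcd_eq_right (Nat.ordProj_dvd (orderOf t₀) p)]
    exact Nat.not_dvd_ordCompl hp.out (orderOf_pos t₀).ne'
  have htgen : ∀ g : N, ∃ j : ℕ, νu g = νu t ^ j := by
    intro g
    have hpow : νu t = νu t₀ := by
      rw [ht, map_pow]
      have h := ZMod.pow_card_pow (n := s) ((νu t₀ : (ZMod p)ˣ) : ZMod p)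
      exact Units.ext (by rw [Units.val_pow_eq_pow_val]; exact h)
    obtain ⟨j, hj⟩ := ((isOfFinOrder_of_finite w).mem_powers_iff_mem_zpowers).2 (hw ⟨νu g, ⟨g, rfl⟩⟩)
    refine ⟨j, ?_⟩
    rw [hpow, ht₀]
    exact (congrArg Subtype.val hj).symm
  have htm : σ (t : G) ^ orderOf t = 1 := by
    rw [← map_pow, ← Subgroup.orderOf_coe, pow_orderOf_eq_one, map_one]
  have hNform : ∀ g ∈ N, ∃ (i j : ℕ) (c : k), σ g = c • (σ x ^ i * σ (t : G) ^ j) := by
    intro g hg
    obtain ⟨j, hj⟩ := htgen ⟨g, hg⟩
    set c : N := ⟨g, hg⟩ * (t ^ j)⁻¹ with hc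
    have hνc : (ν c : ZMod p) = 1 := by
      have : νu c = 1 := by rw [hc, map_mul, map_inv, map_pow, hj, mul_inv_cancel]
      exact congrArg Units.val this
    have hcx : Commute (c : G) x := by
      have h1 := hν c
      rw [(hpowinj (ν c) 1).2 (by rw [hνc, Nat.cast_one]), pow_one, mul_inv_eq_iff_eq_mul] at h1
      exact h1
    have hcC : ∀ e : ℕ, (c : G) ^ e ∈ Subgroup.centralizer ((P : Subgroup G) : Set G) := fun e => by
      rw [Subgroup.mem_centralizer_iff]
      intro z hz
      rw [hP] at hz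
      obtain ⟨i, rfl⟩ := Subgroup.mem_zpowers_iff.1 hz
      exact ((hcx.pow_left e).zpow_right i).eq.symm
    obtain ⟨i, c', hc', hcc'⟩ : ∃ (i : ℕ) (c' : G), c' ∈ Subgroup.center G ∧ (c : G) = x ^ i * c' := by
      by_cases hd : p ∣ orderOf (c : G)
      · obtain ⟨m', hm'⟩ := hd
        have hm0 : m' ≠ 0 := fun h0 => (orderOf_pos (c : G)).ne' (by rw [hm', h0, mul_zero])
        have hpm : ¬ p ∣ m' := fun h => hsq (by
          rw [sq]
          exact (mul_dvd_mul_left p h).trans (hm' ▸ orderOf_dvd_natCard _))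
        obtain ⟨a, b, hab⟩ : ∃ a b : ℕ, (p * a + m' * b) % orderOf (c : G) = 1 % orderOf (c : G) := by
          obtain ⟨a, ha⟩ := Nat.exists_mul_mod_eq_one_of_coprime
            (hp.out.coprime_iff_not_dvd.2 hpm).symm hp.out.one_lt
          rcases Nat.eq_zero_or_pos ((m' * a) / p) with h0 | h0
          · refine ⟨0, a, ?_⟩
            have h := Nat.div_add_mod (m' * a) p
            rw [h0, mul_zero, zero_add, ha.2] at h
            rw [mul_zero, zero_add, ← h]
          · refine ⟨(m' - 1) * ((m' * a) / p), a, ?_⟩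
            rw [hm']
            have h := Nat.div_add_mod (m' * a) p
            rw [ha.2] at h
            obtain ⟨m1, rfl⟩ := Nat.exists_eq_succ_of_ne_zero hm0
            rw [Nat.succ_sub_one]
            have : p * (m1 * ((m1 + 1) * a / p)) + (m1 + 1) * a =
                1 + (p * (m1 + 1)) * ((m1 + 1) * a / p) := by
              rw [Nat.succ_eq_add_one] at h
              linear_combination -h
            rw [this, Nat.add_mul_mod_self_left]
        have hsplit : (c : G) = (c : G) ^ (m' * b) * (c : G) ^ (p * a) := by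
          conv_lhs => rw [← pow_one (c : G)]
          rw [← pow_add, pow_eq_pow_iff_modEq, add_comm]
          exact hab.symm
        obtain ⟨i, hi⟩ : ∃ i : ℕ, x ^ i = (c : G) ^ (m' * b) := by
          have hpz : IsPGroup p (Subgroup.zpowers ((c : G) ^ (m' * b))) := by
            intro z
            refine ⟨1, Subtype.ext ?_⟩
            obtain ⟨i, hi⟩ := Subgroup.mem_zpowers_iff.1 z.2
            rw [SubmonoidClass.coe_pow, ← hi, pow_one, ← zpow_natCast _ p, ← zpow_mul, mul_comm i, zpow_mul,
              zpow_natCast, ← pow_mul, show m' * b * p = (p * m') * b by ring, pow_mul, ← hm',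
              pow_orderOf_eq_one, one_pow, one_zpow, Subgroup.coe_one]
          have h1 : (c : G) ^ (m' * b) ∈ Subgroup.zpowers ((c : G) ^ (m' * b)) ⊓
              Subgroup.normalizer ((P : Subgroup G) : Set G) :=
            ⟨Subgroup.mem_zpowers _, pow_mem c.2 _⟩
          have h2 : (c : G) ^ (m' * b) ∈ Subgroup.zpowers ((c : G) ^ (m' * b)) ⊓ (P : Subgroup G) :=
            hpz.inf_normalizer_sylow P ▸ h1
          exact (hfin.mem_powers_iff_mem_zpowers).2 (hP ▸ h2.2)
        refine ⟨i, (c : G) ^ (p * a), hcen _ (hcC _) ?_, by rw [hi]; exact hsplit⟩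
        have h3 : orderOf ((c : G) ^ (p * a)) ∣ m' := orderOf_dvd_of_pow_eq_one (by
          rw [← pow_mul, show p * a * m' = (p * m') * a by ring, pow_mul, ← hm', pow_orderOf_eq_one, one_pow])
        exact fun h => hpm (h.trans h3)
      · exact ⟨0, c, hcen _ (pow_one (c : G) ▸ hcC 1) hd, by rw [pow_zero, one_mul]⟩
    obtain ⟨μ, hμ⟩ := schur hirr (σ c') fun h v => by
      rw [← Module.End.mul_apply, ← Module.End.mul_apply, ← map_mul, ← map_mul,
        Subgroup.mem_center_iff.1 hc' h]
    refine ⟨i, j, μ, ?_⟩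
    have hσc : σ c' = μ • (1 : Module.End k (Fin l → k)) := LinearMap.ext fun v => by simp [hμ v]
    have he : g = (c : G) * (t : G) ^ j := by
      rw [hc]; push_cast; rw [inv_mul_cancel_right]
    rw [he, map_mul, hcc', map_mul, hσc, map_pow, map_pow, mul_smul_comm, mul_one, smul_mul_assoc]
  obtain ⟨Φ, hΦ, hΦx, hΦx0, hΦE⟩ := exists_orth p σ hirr hdim hP hx hσx (r := ν t) (hν t) htm
    (by rwa [Ne, CharP.cast_eq_zero_iff k p]) hNform
  have hdet : ∀ g, (Φ g).det = 1 := by
    intro g
    let d : G →* k := Matrix.detMonoidHom.comp Φ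
    have hx1 : d x = 1 := by
      have h1 : d x ^ p = 1 := by rw [← map_pow, hxp, map_one]
      have h2 : (d x - 1) ^ p = 0 := by rw [sub_pow_char, h1, one_pow, sub_self]
      exact sub_eq_zero.1 (pow_eq_zero_iff hp.out.ne_zero |>.1 h2)
    have : Subgroup.normalClosure {x} ≤ d.ker := Subgroup.normalClosure_le_normal (by simpa using hx1)
    exact this (by rw [hgen]; trivial)
  have h2 : (2 : k) ≠ 0 := by
    have : ((2 : ℕ) : k) ≠ 0 := by
      rw [Ne, CharP.cast_eq_zero_iff k p]
      exact fun hd => by have := Nat.le_of_dvd two_pos hd; omega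
    exact_mod_cast this
  obtain ⟨Ψ, hΨ⟩ := exists_pgl h2 Φ hΦ hdet
  obtain ⟨F, _, _, _, Ψ', hΨ'⟩ := exists_finite_pgl Ψ
  set J := Ψ'.range with hJ
  set f := Ψ'.rangeRestrict with hf
  have hfk : ∀ g, f g = 1 ↔ Φ g = 1 := fun g => by
    rw [← hΨ, ← hΨ', hf]
    exact Subtype.ext_iff
  set y : J := f x with hy
  have hyord : orderOf y = p := by
    refine orderOf_eq_prime ?_ fun h => hΦx ((hfk x).1 h)
    rw [hy, ← map_pow, hxp, map_one]
  have hJsq : ¬ p ^ 2 ∣ Nat.card J := fun h => hsq (h.trans
    (Subgroup.card_dvd_of_surjective f Ψ'.rangeRestrict_surjective))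
  have hgenJ : Subgroup.normalClosure {y} = ⊤ := by
    have := Subgroup.map_normalClosure {x} f Ψ'.rangeRestrict_surjective
    rw [hgen, Set.image_singleton, Subgroup.map_top_of_surjective f Ψ'.rangeRestrict_surjective] at this
    exact this.symm
  have hnc : Subgroup.zpowers y ≠ ⊤ := by
    intro htop
    have hall : ∀ g, Commute (σ g) (σ x) := by
      intro g
      refine hΦE g ?_
      have hg : f g ∈ Subgroup.zpowers y := by rw [htop]; trivial
      obtain ⟨i, hi⟩ := ((isOfFinOrder_of_finite y).mem_powers_iff_mem_zpowers).2 hg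
      have : Φ g = Φ (x ^ i) := by
        have h1 : f (g * (x ^ i)⁻¹) = 1 := by
          rw [map_mul, map_inv, map_pow, ← hy, show y ^ i = f g from hi, mul_inv_cancel]
        have h3 := (hfk _).1 h1
        calc Φ g = Φ (g * (x ^ i)⁻¹) * Φ (x ^ i) := by rw [← map_mul, inv_mul_cancel_right]
          _ = _ := by rw [h3, one_mul]
      rw [this, map_pow]
      clear this hi
      induction i with
      | zero => intro a; simp [Matrix.one_apply]
      | succ i ih =>
        intro a
        rw [pow_succ, Matrix.mul_apply, Finset.sum_eq_single 0]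
        · rw [hΦx0, if_pos rfl, mul_one, ih]
        · intro b _ hb
          rw [hΦx0, if_neg hb, mul_zero]
        · simp
    obtain ⟨μ, hμ⟩ := schur hirr (σ x) fun h v => by
      rw [← Module.End.mul_apply, ← Module.End.mul_apply, (hall h).eq]
    refine hσx ?_
    have hσ : σ x = μ • (1 : Module.End k (Fin l → k)) := LinearMap.ext fun v => by simp [hμ v]
    have h1 : (μ • (1 : Module.End k (Fin l → k))) ^ p = 1 := by
      rw [← hσ, ← map_pow, hxp, map_one]
    rw [_root_.smul_pow, one_pow] at h1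
    have hμp : μ ^ p = 1 := by
      by_contra hne
      have : (μ ^ p - 1) • (1 : Module.End k (Fin l → k)) = 0 := by
        have h1' := congrArg (· - (1 : Module.End k (Fin l → k))) h1
        simp only [sub_self] at h1'
        exact ((sub_smul (μ ^ p) 1 (1 : Module.End k (Fin l → k))).trans (by rw [one_smul])).trans h1'
      exact one_ne_zero ((smul_eq_zero.1 this).resolve_left (sub_ne_zero.2 hne))
    have hμ1 : (μ - 1) ^ p = 0 := by rw [sub_pow_char, hμp, one_pow, sub_self]
    rw [hσ, sub_eq_zero.1 (pow_eq_zero_iff hp.out.ne_zero |>.1 hμ1), one_smul]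
  obtain ⟨e⟩ := psl_of_pgl hp5 J hyord hJsq hgenJ hnc
  exact ⟨e.toMonoidHom.comp f, e.surjective.comp Ψ'.rangeRestrict_surjective⟩

end Main

end Cfsg.Agent.SmallDegree86
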