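import Cfsg.Agent.Lib.SmallDegreeAdjoint86

/-!
Special orthogonal groups of degree three act by inner automorphisms of the two by two matrices.
-/

set_option autoImplicit false

namespace Cfsg.Agent.SmallDegree86

variable {k : Type*} [Field k]

/-- The traceless matrix with given coordinates. -/
def tless (u : Fin 3 → k) : Matrix (Fin 2) (Fin 2) k := !![u 1, u 0; u 2, -u 1]

/-- The symmetric form in coordinates. -/
def bform (u v : Fin 3 → k) : k := u 0 * v 2 + u 2 * v 0 + 2 * (u 1 * v 1)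

/-- The commutator in coordinates. -/
def cross (u v : Fin 3 → k) : Fin 3 → k :=
  ![2 * (u 1 * v 0 - u 0 * v 1), u 0 * v 2 - u 2 * v 0, 2 * (u 2 * v 1 - u 1 * v 2)]

theorem tless_mul (h2 : (2 : k) ≠ 0) (u v : Fin 3 → k) :
    tless u * tless v = ((2 : k)⁻¹ * bform u v) • 1 + (2 : k)⁻¹ • tless (cross u v) := by
  ext i j
  fin_cases i <;> fin_cases j <;> simp [tless, bform, cross, Matrix.mul_apply, Fin.sum_univ_two] <;>
    field_simp <;> ring

theorem bform_mulVec {M : Matrix (Fin 3) (Fin 3) k} (hM : M.transpose * formMat * M = formMat)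
    (u v : Fin 3 → k) : bform (M.mulVec u) (M.mulVec v) = bform u v := by
  have e : ∀ u v : Fin 3 → k, bform u v = dotProduct u ((formMat : Matrix (Fin 3) (Fin 3) k).mulVec v) := by
    intro u v
    simp [bform, formMat, Matrix.mulVec, dotProduct, Fin.sum_univ_three]
    ring
  rw [e, e]
  conv_rhs => rw [← hM, ← Matrix.mulVec_mulVec, ← Matrix.mulVec_mulVec, Matrix.dotProduct_mulVec u,
    Matrix.vecMul_transpose]

theorem bform_cross (u v w : Fin 3 → k) :
    bform w (cross u v) = -2 * (Matrix.of ![u, v, w]).det := by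
  simp [bform, cross, Matrix.det_fin_three]
  ring

theorem cross_mulVec (h2 : (2 : k) ≠ 0) {M : Matrix (Fin 3) (Fin 3) k}
    (hM : M.transpose * formMat * M = formMat) (hdet : M.det = 1) (u v : Fin 3 → k) :
    cross (M.mulVec u) (M.mulVec v) = M.mulVec (cross u v) := by
  have key : ∀ w, bform (M.mulVec w) (cross (M.mulVec u) (M.mulVec v)) =
      bform (M.mulVec w) (M.mulVec (cross u v)) := by
    intro w
    rw [bform_mulVec hM, bform_cross, bform_cross]
    congr 1
    have e : Matrix.of ![M.mulVec u, M.mulVec v, M.mulVec w] = Matrix.of ![u, v, w] * M.transpose := by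
      ext i j
      fin_cases i <;> simp [Matrix.mul_apply, Matrix.mulVec, dotProduct, mul_comm]
    rw [e, Matrix.det_mul, Matrix.det_transpose, hdet, mul_one]
  have hsurj : ∀ y, ∃ w, M.mulVec w = y := fun y => ⟨M⁻¹.mulVec y, by
    rw [Matrix.mulVec_mulVec, Matrix.mul_nonsing_inv _ (by rw [hdet]; exact isUnit_one), Matrix.one_mulVec]⟩
  funext i
  fin_cases i
  · obtain ⟨w, hw⟩ := hsurj ![0, 0, 1]
    have := key w
    simp [hw, bform] at this
    exact this
  · obtain ⟨w, hw⟩ := hsurj ![0, 1, 0]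
    have := key w
    simp [hw, bform] at this
    exact this.resolve_right h2
  · obtain ⟨w, hw⟩ := hsurj ![1, 0, 0]
    have := key w
    simp [hw, bform] at this
    exact this

/-- The coordinates of the traceless part. -/
noncomputable def coord (A : Matrix (Fin 2) (Fin 2) k) : Fin 3 → k :=
  ![A 0 1, (2 : k)⁻¹ * (A 0 0 - A 1 1), A 1 0]

/-- The linear map induced on two by two matrices. -/
noncomputable def lift2 (M : Matrix (Fin 3) (Fin 3) k) :
    Matrix (Fin 2) (Fin 2) k →ₗ[k] Matrix (Fin 2) (Fin 2) k where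
  toFun A := ((2 : k)⁻¹ * (A 0 0 + A 1 1)) • 1 + tless (M.mulVec (coord A))
  map_add' A B := by
    ext i j
    fin_cases i <;> fin_cases j <;>
      simp [coord, tless, Matrix.mulVec, dotProduct, Fin.sum_univ_three] <;> ring
  map_smul' c A := by
    ext i j
    fin_cases i <;> fin_cases j <;>
      simp [coord, tless, Matrix.mulVec, dotProduct, Fin.sum_univ_three] <;> ring

theorem lift2_tless (h2 : (2 : k) ≠ 0) (M : Matrix (Fin 3) (Fin 3) k) (s : k) (u : Fin 3 → k) :
    lift2 M (s • 1 + tless u) = s • 1 + tless (M.mulVec u) := by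
  have e1 : (2 : k)⁻¹ * ((s • (1 : Matrix (Fin 2) (Fin 2) k) + tless u) 0 0 +
      (s • (1 : Matrix (Fin 2) (Fin 2) k) + tless u) 1 1) = s := by
    simp [tless]
    field_simp
    ring
  have e2 : coord (s • (1 : Matrix (Fin 2) (Fin 2) k) + tless u) = u := by
    funext i
    fin_cases i <;> simp [coord, tless]
    field_simp
    ring
  show ((2 : k)⁻¹ * ((s • (1 : Matrix (Fin 2) (Fin 2) k) + tless u) 0 0 +
      (s • (1 : Matrix (Fin 2) (Fin 2) k) + tless u) 1 1)) • (1 : Matrix (Fin 2) (Fin 2) k) +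
    tless (M.mulVec (coord (s • (1 : Matrix (Fin 2) (Fin 2) k) + tless u))) = _
  rw [e1, e2]

theorem exists_decomp (h2 : (2 : k) ≠ 0) (A : Matrix (Fin 2) (Fin 2) k) :
    A = ((2 : k)⁻¹ * (A 0 0 + A 1 1)) • 1 + tless (coord A) := by
  ext i j
  fin_cases i <;> fin_cases j <;> simp [coord, tless] <;> field_simp <;> ring

theorem tless_smul (c : k) (u : Fin 3 → k) : c • tless u = tless (c • u) := by
  ext i j
  fin_cases i <;> fin_cases j <;> simp [tless]

theorem tless_add (u v : Fin 3 → k) : tless u + tless v = tless (u + v) := by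
  ext i j
  fin_cases i <;> fin_cases j <;> simp [tless] <;> ring

theorem lift2_mul (h2 : (2 : k) ≠ 0) {M : Matrix (Fin 3) (Fin 3) k}
    (hM : M.transpose * formMat * M = formMat) (hdet : M.det = 1) (A B : Matrix (Fin 2) (Fin 2) k) :
    lift2 M (A * B) = lift2 M A * lift2 M B := by
  rw [exists_decomp h2 A, exists_decomp h2 B, lift2_tless h2, lift2_tless h2]
  set s := (2 : k)⁻¹ * (A 0 0 + A 1 1)
  set s' := (2 : k)⁻¹ * (B 0 0 + B 1 1)
  have e : ∀ u v : Fin 3 → k, (s • (1 : Matrix (Fin 2) (Fin 2) k) + tless u) * (s' • 1 + tless v) =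
      (s * s' + (2 : k)⁻¹ * bform u v) • 1 + tless (s • v + s' • u + (2 : k)⁻¹ • cross u v) := by
    intro u v
    rw [add_mul, mul_add, mul_add, smul_mul_smul_comm, one_mul, smul_one_mul, mul_smul_one,
      tless_mul h2, tless_smul, tless_smul, tless_smul, add_smul, ← tless_add, ← tless_add]
    abel
  rw [e, e, lift2_tless h2, bform_mulVec hM, Matrix.mulVec_add, Matrix.mulVec_add, Matrix.mulVec_smul,
    Matrix.mulVec_smul, Matrix.mulVec_smul, cross_mulVec h2 hM hdet]

theorem lift2_one (h2 : (2 : k) ≠ 0) : lift2 (1 : Matrix (Fin 3) (Fin 3) k) = LinearMap.id := by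
  refine LinearMap.ext fun A => ?_
  show ((2 : k)⁻¹ * (A 0 0 + A 1 1)) • (1 : Matrix (Fin 2) (Fin 2) k) +
    tless ((1 : Matrix (Fin 3) (Fin 3) k).mulVec (coord A)) = A
  rw [Matrix.one_mulVec, ← exists_decomp h2 A]

theorem lift2_comp (h2 : (2 : k) ≠ 0) (M N : Matrix (Fin 3) (Fin 3) k) (A : Matrix (Fin 2) (Fin 2) k) :
    lift2 (M * N) A = lift2 M (lift2 N A) := by
  show _ = lift2 M (((2 : k)⁻¹ * (A 0 0 + A 1 1)) • (1 : Matrix (Fin 2) (Fin 2) k) +
    tless (N.mulVec (coord A)))
  rw [lift2_tless h2, Matrix.mulVec_mulVec]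
  rfl

/-- An orthogonal representation of degree three and determinant one gives a projective representation
of degree two with the same kernel. -/
theorem exists_pgl (h2 : (2 : k) ≠ 0) {G : Type*} [Group G] (Φ : G →* Matrix (Fin 3) (Fin 3) k)
    (hΦ : ∀ g, (Φ g).transpose * formMat * Φ g = formMat) (hdet : ∀ g, (Φ g).det = 1) :
    ∃ Ψ : G →* Matrix.ProjGenLinGroup (Fin 2) k, ∀ g, Ψ g = 1 ↔ Φ g = 1 := by
  have hex : ∀ g, ∃ u : GL (Fin 2) k, ∀ A : Matrix (Fin 2) (Fin 2) k,
      lift2 (Φ g) A * (u : Matrix (Fin 2) (Fin 2) k) = (u : Matrix (Fin 2) (Fin 2) k) * A := by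
    intro g
    have hinv : ∀ g' A, lift2 (Φ g'⁻¹) (lift2 (Φ g') A) = A := fun g' A => by
      rw [← lift2_comp h2, ← map_mul, inv_mul_cancel, map_one, lift2_one h2]
      rfl
    have h1 : lift2 (Φ g) 1 = 1 := by
      have t0 : tless (0 : Fin 3 → k) = 0 := by ext i j; fin_cases i <;> fin_cases j <;> simp [tless]
      simpa [t0, Matrix.mulVec_zero] using lift2_tless h2 (Φ g) 1 0
    let φ : Matrix (Fin 2) (Fin 2) k →ₐ[k] Matrix (Fin 2) (Fin 2) k :=
      AlgHom.ofLinearMap (lift2 (Φ g)) h1 (lift2_mul h2 (hΦ g) (hdet g))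
    have hbij : Function.Bijective φ := ⟨fun A B h => by
      rw [← hinv g A, ← hinv g B]
      exact congrArg _ h, fun A => ⟨lift2 (Φ g⁻¹) A, by
      have := hinv g⁻¹ A
      rw [inv_inv] at this
      exact this⟩⟩
    let f : Module.End k (Fin 2 → k) ≃ₐ[k] Module.End k (Fin 2 → k) :=
      (Matrix.toLinAlgEquiv'.symm.trans (AlgEquiv.ofBijective φ hbij)).trans Matrix.toLinAlgEquiv'
    obtain ⟨T, hT⟩ := f.eq_linearEquivConjAlgEquiv
    refine ⟨Matrix.GeneralLinearGroup.toLin.symm (LinearMap.GeneralLinearGroup.ofLinearEquiv T), fun A => ?_⟩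
    have hA := congrArg (fun φ : Module.End k (Fin 2 → k) ≃ₐ[k] Module.End k (Fin 2 → k) =>
      φ (Matrix.toLinAlgEquiv' A)) hT
    simp only [f, AlgEquiv.trans_apply, AlgEquiv.symm_apply_apply, AlgEquiv.ofBijective_apply,
      LinearEquiv.conjAlgEquiv_apply] at hA
    refine Matrix.toLinAlgEquiv'.injective ?_
    have hu : Matrix.toLinAlgEquiv' ((Matrix.GeneralLinearGroup.toLin.symm
        (LinearMap.GeneralLinearGroup.ofLinearEquiv T) : GL (Fin 2) k) : Matrix (Fin 2) (Fin 2) k) =
        T.toLinearMap := by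
      refine LinearMap.ext fun y => ?_
      simp [Matrix.GeneralLinearGroup.toLin]
    rw [map_mul, map_mul, hu]
    refine LinearMap.ext fun y => ?_
    have hy := congrArg (fun ψ : Module.End k (Fin 2 → k) => ψ (T y)) hA
    simp only [LinearMap.coe_comp, LinearEquiv.coe_coe, Function.comp_apply,
      LinearEquiv.symm_apply_apply] at hy
    exact hy
  choose u hu using hex
  have huniq : ∀ g (w : GL (Fin 2) k), (∀ A : Matrix (Fin 2) (Fin 2) k,
      lift2 (Φ g) A * (w : Matrix (Fin 2) (Fin 2) k) = (w : Matrix (Fin 2) (Fin 2) k) * A) →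
      (Matrix.ProjGenLinGroup.mk (u g) : Matrix.ProjGenLinGroup (Fin 2) k) = Matrix.ProjGenLinGroup.mk w := by
    intro g w hw
    rw [Matrix.ProjGenLinGroup.mk_eq_mk_iff']
    refine ⟨(u g)⁻¹ * w, Subgroup.mem_center_iff.2 fun c => Units.ext ?_, mul_inv_cancel_left _ _⟩
    have e1 := hw (c : Matrix (Fin 2) (Fin 2) k)
    have e2 := hu g (c : Matrix (Fin 2) (Fin 2) k)
    have e3 : ((u g)⁻¹ : GL (Fin 2) k).val * lift2 (Φ g) c =
        (c : Matrix (Fin 2) (Fin 2) k) * ((u g)⁻¹ : GL (Fin 2) k).val := by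
      calc ((u g)⁻¹ : GL (Fin 2) k).val * lift2 (Φ g) c
          = ((u g)⁻¹ : GL (Fin 2) k).val * (lift2 (Φ g) c * (u g).val) * ((u g)⁻¹ : GL (Fin 2) k).val := by
            simp [mul_assoc]
        _ = _ := by rw [e2]; simp
    simp only [Units.val_mul]
    rw [mul_assoc _ _ (c : Matrix (Fin 2) (Fin 2) k), ← e1, ← mul_assoc, ← mul_assoc, e3]
  refine ⟨MonoidHom.mk' (fun g => Matrix.ProjGenLinGroup.mk (u g)) fun g h => ?_, fun g => ⟨fun hg => ?_, fun hg => ?_⟩⟩
  · rw [← map_mul]
    refine huniq _ _ fun A => ?_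
    rw [map_mul, lift2_comp h2, Units.val_mul, ← mul_assoc, hu, mul_assoc, hu, mul_assoc]
  · have hz : u g ∈ Subgroup.center (GL (Fin 2) k) := Matrix.ProjGenLinGroup.mk_eq_one.1 hg
    rw [Matrix.GeneralLinearGroup.center_eq_range_scalar] at hz
    obtain ⟨z, hz⟩ := hz
    have hfix : ∀ A, lift2 (Φ g) A = A := by
      intro A
      have hA := hu g A
      have hz' : (u g : Matrix (Fin 2) (Fin 2) k) = (z : k) • 1 := by
        rw [← hz, Matrix.smul_one_eq_diagonal]
        rfl
      rw [hz', mul_smul_one, smul_one_mul] at hA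
      exact smul_right_injective _ z.ne_zero hA
    ext i j
    have h := hfix (tless (Pi.single j 1))
    have h' := lift2_tless h2 (Φ g) 0 (Pi.single j 1)
    rw [zero_smul, zero_add, zero_add, h, Matrix.mulVec_single_one] at h'
    have h00 := congrFun (congrFun h'.symm 0) 0
    have h01 := congrFun (congrFun h'.symm 0) 1
    have h10 := congrFun (congrFun h'.symm 1) 0
    fin_cases i
    · simpa [tless, Matrix.one_apply, Pi.single_apply] using h01
    · simpa [tless, Matrix.one_apply, Pi.single_apply] using h00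
    · simpa [tless, Matrix.one_apply, Pi.single_apply] using h10
  · show Matrix.ProjGenLinGroup.mk (u g) = 1
    rw [huniq g 1 fun A => by rw [hg, lift2_one h2]; simp, Matrix.ProjGenLinGroup.mk_one]

end Cfsg.Agent.SmallDegree86
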