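import Cfsg.Prelude.Def_ChevG2
import Cfsg.Prelude.Def_ChevWords

/-!
Packed vectors and packed permutations: groups of matrices acting on a finite orbit, checked by
kernel computation.
-/

set_option autoImplicit false

namespace Cfsg.Agent.SmallExcPerm

open Matrix Cfsg.Lie
open scoped MatrixGroups commutatorElement

/-! ### Digits -/

/-- The number with base `B` digits `f i`, `i < N`. -/
def pk (B : ℕ) (f : ℕ → ℕ) : ℕ → ℕ
  | 0 => 0
  | k + 1 => pk B f k + f k * B ^ k

/-- The `i`-th base `B` digit. -/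
def dig (B P i : ℕ) : ℕ := P / B ^ i % B

theorem pk_lt {B : ℕ} {f : ℕ → ℕ} (hB : 0 < B) : ∀ {N : ℕ}, (∀ i < N, f i < B) → pk B f N < B ^ N
  | 0, _ => by simp [pk]
  | k + 1, h => by
      have h1 := pk_lt hB (N := k) fun i hi => h i (by omega)
      have h2 : f k + 1 ≤ B := h k (by omega)
      have h3 : pk B f k + 1 + f k * B ^ k ≤ (f k + 1) * B ^ k := by rw [add_one_mul]; omega
      have h4 : (f k + 1) * B ^ k ≤ B * B ^ k := Nat.mul_le_mul_right _ h2
      rw [pk, pow_succ']
      omega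

theorem dig_pk {B : ℕ} {f : ℕ → ℕ} (hB : 0 < B) :
    ∀ {N : ℕ}, (∀ i < N, f i < B) → ∀ i < N, dig B (pk B f N) i = f i
  | 0, _, i, hi => absurd hi (Nat.not_lt_zero i)
  | k + 1, h, i, hi => by
      have hlt := pk_lt hB (N := k) fun i hi => h i (by omega)
      rcases Nat.lt_succ_iff_lt_or_eq.1 hi with hik | rfl
      · obtain ⟨d, rfl⟩ : ∃ d, k = i + (d + 1) := ⟨k - i - 1, by omega⟩
        rw [dig, pk, show f (i + (d + 1)) * B ^ (i + (d + 1)) =
          B ^ i * (f (i + (d + 1)) * B ^ (d + 1)) by rw [pow_add]; ring,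
          Nat.add_mul_div_left _ _ (pow_pos hB i), pow_succ, ← mul_assoc, Nat.add_mul_mod_self_right]
        exact dig_pk hB (fun j hj => h j (by omega)) i hik
      · rw [dig, pk, Nat.add_mul_div_right _ _ (pow_pos hB i), Nat.div_eq_of_lt hlt, zero_add,
          Nat.mod_eq_of_lt (h i (by omega))]

theorem pk_congr {B : ℕ} {f g : ℕ → ℕ} : ∀ {N : ℕ}, (∀ i < N, f i = g i) → pk B f N = pk B g N
  | 0, _ => rfl
  | k + 1, h => by rw [pk, pk, h k (by omega), pk_congr fun i hi => h i (by omega)]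

/-- Sum of `f i` for `i < N`. -/
def sumTo (f : ℕ → ℕ) : ℕ → ℕ
  | 0 => 0
  | k + 1 => sumTo f k + f k

theorem sumTo_eq (f : ℕ → ℕ) : ∀ N, sumTo f N = ∑ i ∈ Finset.range N, f i
  | 0 => rfl
  | k + 1 => by rw [sumTo, sumTo_eq f k, Finset.sum_range_succ]

theorem sum_mul_pk (B : ℕ) (s : Finset ℕ) (c : ℕ → ℕ) (f : ℕ → ℕ → ℕ) :
    ∀ N, ∑ j ∈ s, c j * pk B (f j) N = pk B (fun i => ∑ j ∈ s, c j * f j i) N
  | 0 => by simp [pk]
  | k + 1 => by
      rw [pk, ← sum_mul_pk B s c f k, Finset.sum_mul, ← Finset.sum_add_distrib]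
      exact Finset.sum_congr rfl fun j _ => by rw [pk]; ring

/-! ### Vectors and matrices on the coordinates of `G₂` -/

/-- The coordinates of the adjoint module of `G₂`. -/
abbrev Co : Type := chevG2.Idx

/-- The position of a coordinate. -/
def ix : Co → ℕ
  | Sum.inl i => i.val
  | Sum.inr i => 2 + i.val

theorem ix_lt (i : Co) : ix i < 14 := by
  rcases i with i | i
  · exact Nat.lt_of_lt_of_le i.2 (by decide)
  · exact Nat.add_lt_add_left i.2 2

theorem sum_ix {R : Type*} [AddCommMonoid R] (f : ℕ → R) :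
    ∑ j : Co, f (ix j) = ∑ j ∈ Finset.range 14, f j := by
  refine Finset.sum_bij (fun j _ => ix j) (fun j _ => Finset.mem_range.2 (ix_lt j))
    (fun a _ b _ h => ?_) (fun b hb => ?_) fun a _ => rfl
  · have : ∀ a b : Co, ix a = ix b → a = b := by decide +kernel
    exact this a b h
  · have : ∀ b < 14, ∃ a : Co, ix a = b := by decide +kernel
    obtain ⟨a, ha⟩ := this b (Finset.mem_range.1 hb)
    exact ⟨a, Finset.mem_univ a, ha⟩

/-- The matrix with packed columns `T`. -/
def ofC {R : Type*} [CommRing R] (T : List ℕ) : Matrix Co Co R :=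
  Matrix.of fun i j => (dig 256 (T.getD (ix j) 0) (ix i) : R)

/-- The vector packed in `v`. -/
def vec {R : Type*} [CommRing R] (v : ℕ) : Co → R := fun j => (dig 256 v (ix j) : R)

/-- All digits of `v` are less than `p` and there is nothing else. -/
def okV (p v : ℕ) (N : ℕ := 14) : Bool :=
  ((List.range N).all fun i => decide (dig 256 v i < p)) && pk 256 (dig 256 v) N == v

/-- All columns are well formed. -/
def okT (p : ℕ) (T : List ℕ) : Bool := (List.range 14).all fun j => okV p (T.getD j 0)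

/-- Product of a packed matrix and a packed vector, modulo `p`. -/
def mvP (p : ℕ) (T : List ℕ) (v : ℕ) (N : ℕ := 14) : ℕ :=
  pk 256 (fun i => dig 256 (sumTo (fun j => dig 256 v j * T.getD j 0) N) i % p) N

theorem dig_mvP {p : ℕ} (hp : 0 < p) (hp4 : p ≤ 4) (T : List ℕ) (v N : ℕ) (i : ℕ) (hi : i < N) :
    dig 256 (mvP p T v N) i = dig 256 (sumTo (fun j => dig 256 v j * T.getD j 0) N) i % p :=
  dig_pk (by norm_num) (fun j _ => lt_of_lt_of_le (Nat.mod_lt _ hp) (by omega)) i hi

theorem okV_spec {p v : ℕ} (h : okV p v = true) :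
    (∀ i < 14, dig 256 v i < p) ∧ pk 256 (dig 256 v) 14 = v := by
  simpa [okV, List.all_eq_true] using h

theorem mulVec_ofC {R : Type*} [CommRing R] {p : ℕ} [CharP R p] (hp : 0 < p) (hp4 : p ≤ 4)
    {T : List ℕ} {v : ℕ} (hT : okT p T = true) (hv : okV p v = true) :
    ofC (R := R) T *ᵥ vec v = vec (mvP p T v) := by
  have hT' : ∀ j < 14, (∀ i < 14, dig 256 (T.getD j 0) i < p) ∧
      pk 256 (dig 256 (T.getD j 0)) 14 = T.getD j 0 := fun j hj =>
    okV_spec (List.all_eq_true.1 hT j (List.mem_range.2 hj))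
  obtain ⟨hv1, -⟩ := okV_spec hv
  set w : ℕ → ℕ := fun i => ∑ j ∈ Finset.range 14, dig 256 v j * dig 256 (T.getD j 0) i with hw
  have hs : sumTo (fun j => dig 256 v j * T.getD j 0) 14 = pk 256 w 14 := by
    rw [sumTo_eq, hw, ← sum_mul_pk]
    exact Finset.sum_congr rfl fun j hj => by rw [(hT' j (Finset.mem_range.1 hj)).2]
  have hwlt : ∀ i < 14, w i < 256 := fun i hi => by
    refine lt_of_le_of_lt (Finset.sum_le_card_nsmul _ _ 9 fun j hj => ?_) (by simp)
    have h1 : dig 256 v j ≤ 3 := by have := hv1 j (Finset.mem_range.1 hj); omega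
    have h2 : dig 256 (T.getD j 0) i ≤ 3 := by
      have := (hT' j (Finset.mem_range.1 hj)).1 i hi; omega
    exact Nat.mul_le_mul h1 h2
  funext i
  have hd : dig 256 (mvP p T v) (ix i) = w (ix i) % p := by
    rw [dig_mvP hp hp4 T v 14 _ (ix_lt i), hs, dig_pk (by norm_num) hwlt _ (ix_lt i)]
  have hR : ((w (ix i) % p : ℕ) : R) = (w (ix i) : R) := by
    conv_rhs => rw [← Nat.mod_add_div (w (ix i)) p]
    simp [CharP.cast_eq_zero]
  change ∑ j : Co, (dig 256 (T.getD (ix j) 0) (ix i) : R) * (dig 256 v (ix j) : R) =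
    (dig 256 (mvP p T v) (ix i) : R)
  rw [sum_ix fun j => (dig 256 (T.getD j 0) (ix i) : R) * (dig 256 v j : R), hd, hR, hw]
  push_cast
  exact Finset.sum_congr rfl fun j _ => mul_comm _ _

theorem vec_injective {R : Type*} [CommRing R] {p : ℕ} [CharP R p] {v w : ℕ}
    (hv : okV p v = true) (hw : okV p w = true) (h : (vec v : Co → R) = vec w) : v = w := by
  obtain ⟨hv1, hv2⟩ := okV_spec hv
  obtain ⟨hw1, hw2⟩ := okV_spec hw
  rw [← hv2, ← hw2]
  refine pk_congr fun i hi => ?_
  have : ∀ b < 14, ∃ a : Co, ix a = b := by decide +kernel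
  obtain ⟨a, rfl⟩ := this i hi
  have h1 := congrFun h a
  simp only [vec] at h1
  have h2 := (CharP.natCast_eq_natCast R p).1 h1
  rwa [Nat.ModEq, Nat.mod_eq_of_lt (hv1 _ hi), Nat.mod_eq_of_lt (hw1 _ hi)] at h2

/-- A product of packed matrices applied to a packed vector. -/
def mvW (p : ℕ) : List (List ℕ) → ℕ → ℕ
  | [], v => v
  | T :: Ts, v => mvP p T (mvW p Ts v)

theorem okV_pk {p : ℕ} (hp4 : p ≤ 4) (f : ℕ → ℕ) (N : ℕ) (hf : ∀ i < N, f i < p) :
    okV p (pk 256 f N) N = true := by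
  have h : ∀ i < N, dig 256 (pk 256 f N) i = f i :=
    dig_pk (by norm_num) fun j hj => lt_of_lt_of_le (hf j hj) (by omega)
  rw [okV, Bool.and_eq_true, beq_iff_eq]
  refine ⟨List.all_eq_true.2 fun i hi => decide_eq_true ?_, pk_congr h⟩
  rw [h i (List.mem_range.1 hi)]
  exact hf i (List.mem_range.1 hi)

theorem okV_mvN {p : ℕ} (hp : 0 < p) (hp4 : p ≤ 4) (T : List ℕ) (v N : ℕ) :
    okV p (mvP p T v N) N = true :=
  okV_pk hp4 _ N fun _ _ => Nat.mod_lt _ hp

theorem okV_mvP {p : ℕ} (hp : 0 < p) (hp4 : p ≤ 4) (T : List ℕ) (v : ℕ) :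
    okV p (mvP p T v) = true := okV_mvN hp hp4 T v 14

theorem mulVec_prod {R : Type*} [CommRing R] {p : ℕ} [CharP R p] (hp : 0 < p) (hp4 : p ≤ 4)
    (Ts : List (List ℕ)) {v : ℕ} (hT : ∀ T ∈ Ts, okT p T = true) (hv : okV p v = true) :
    okV p (mvW p Ts v) = true ∧
      (Ts.map (ofC (R := R))).prod *ᵥ vec v = vec (mvW p Ts v) := by
  induction Ts with
  | nil => simp [mvW, hv]
  | cons T Ts ih =>
    obtain ⟨h1, h2⟩ := ih fun T' h => hT T' (List.mem_cons_of_mem _ h)
    rw [mvW, List.map_cons, List.prod_cons, ← Matrix.mulVec_mulVec, h2,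
      mulVec_ofC (R := R) hp hp4 (hT T (List.mem_cons_self ..)) h1]
    exact ⟨okV_mvP hp hp4 _ _, rfl⟩

/-- The orbit is made of distinct well formed vectors and contains a basis. -/
def chkOrbit (p N : ℕ) (orb bidx binv : List ℕ) : Bool :=
  orb.length == N && orb.all (okV p) && decide orb.Nodup &&
    okT p (bidx.map fun k => orb.getD k 0) && bidx.all (fun k => decide (k < N)) &&
    decide (bidx.length = 14) && (List.range 14).all fun j => okV p (binv.getD j 0) &&
      mvP p (bidx.map fun k => orb.getD k 0) (binv.getD j 0) == 256 ^ j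

variable {R : Type*} [CommRing R]

/-- `g` permutes the orbit by `σ`. -/
def Moves (N : ℕ) (orb : List ℕ) (g : GL Co R) (σ : Equiv.Perm (Fin N)) : Prop :=
  ∀ k : Fin N, (g : Matrix Co Co R) *ᵥ vec (orb.getD k 0) = vec (orb.getD (σ k) 0)

theorem moves_unique {p N : ℕ} [CharP R p] {orb bidx binv : List ℕ}
    (h : chkOrbit p N orb bidx binv = true) {g : GL Co R} {σ τ : Equiv.Perm (Fin N)}
    (hσ : Moves N orb g σ) (hτ : Moves N orb g τ) : σ = τ := by
  simp only [chkOrbit, Bool.and_eq_true, beq_iff_eq, decide_eq_true_eq, List.all_eq_true] at h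
  obtain ⟨⟨⟨⟨⟨⟨hlen, hok⟩, hnd⟩, -⟩, -⟩, -⟩, -⟩ := h
  refine Equiv.ext fun k => Fin.ext ?_
  have h1 : ∀ i : Fin N, (i : ℕ) < orb.length := fun i => hlen.symm ▸ i.2
  have h2 := vec_injective (p := p)
    (hok _ (by rw [List.getD_eq_getElem _ _ (h1 (σ k))]; exact List.getElem_mem _))
    (hok _ (by rw [List.getD_eq_getElem _ _ (h1 (τ k))]; exact List.getElem_mem _))
    ((hσ k).symm.trans (hτ k))
  rw [List.getD_eq_getElem _ _ (h1 (σ k)), List.getD_eq_getElem _ _ (h1 (τ k))] at h2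
  exact (hnd.getElem_inj_iff).1 h2

theorem eq_one_of_moves {p N : ℕ} [CharP R p] (hp : 0 < p) (hp4 : p ≤ 4)
    {orb bidx binv : List ℕ} (h : chkOrbit p N orb bidx binv = true) {g : GL Co R}
    (hg : Moves N orb g 1) : g = 1 := by
  simp only [chkOrbit, Bool.and_eq_true, beq_iff_eq, decide_eq_true_eq, List.all_eq_true,
    List.mem_range] at h
  obtain ⟨⟨⟨⟨-, hT⟩, hb⟩, hbl⟩, hC⟩ := h
  set Bm : Matrix Co Co R := ofC (bidx.map fun k => orb.getD k 0) with hBm
  set Cm : Matrix Co Co R := ofC binv with hCm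
  have hcol : ∀ (A : Matrix Co Co R) (T : List ℕ) (i j : Co),
      (A * (ofC T : Matrix Co Co R)) i j = (A *ᵥ vec (T.getD (ix j) 0)) i := fun A T i j => rfl
  have hBC : Bm * Cm = 1 := by
    refine Matrix.ext fun i j => ?_
    obtain ⟨h1, h2⟩ := hC (ix j) (ix_lt j)
    rw [hCm, hcol, hBm, mulVec_ofC hp hp4 hT h1, h2]
    have hd : ∀ i j : Co, dig 256 (256 ^ ix j) (ix i) = if i = j then 1 else 0 := by
      decide +kernel
    simp only [vec, hd, Matrix.one_apply]
    split_ifs <;> simp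
  have hgB : (g : Matrix Co Co R) * Bm = Bm := by
    refine Matrix.ext fun i j => ?_
    have hj : ix j < bidx.length := hbl.symm ▸ ix_lt j
    rw [hBm, hcol]
    simp only [List.getD_eq_getElem _ _ (show ix j < (bidx.map fun k => orb.getD k 0).length by
      simpa using hj), List.getElem_map]
    have := congrFun (hg ⟨bidx[ix j], hb _ (List.getElem_mem _)⟩) i
    simp only [Equiv.Perm.one_apply] at this
    rw [this]
    simp [ofC, vec, hj]
  refine Units.ext ?_
  calc (g : Matrix Co Co R) = (g : Matrix Co Co R) * (Bm * Cm) := by rw [hBC, mul_one]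
    _ = 1 := by rw [← mul_assoc, hgB, hBC]

/-- A homomorphism picking the permutation. -/
theorem exists_hom {M P : Type*} [Group M] [Group P] (S : Set M) (Rel : M → P → Prop)
    (hone : Rel 1 1) (hmul : ∀ g h σ τ, Rel g σ → Rel h τ → Rel (g * h) (σ * τ))
    (hinv : ∀ g σ, Rel g σ → Rel g⁻¹ σ⁻¹)
    (huniq : ∀ g σ τ, Rel g σ → Rel g τ → σ = τ) (hS : ∀ s ∈ S, ∃ σ, Rel s σ) :
    ∃ ρ : Subgroup.closure S →* P, (∀ g : Subgroup.closure S, Rel g (ρ g)) ∧
      ρ.range = Subgroup.closure {σ | ∃ s ∈ S, Rel s σ} := by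
  classical
  have hall : ∀ g ∈ Subgroup.closure S, ∃ σ, Rel g σ := fun g hg => by
    induction hg using Subgroup.closure_induction with
    | mem s hs => exact hS s hs
    | one => exact ⟨1, hone⟩
    | mul a b _ _ ha hb =>
      obtain ⟨σ, hσ⟩ := ha; obtain ⟨τ, hτ⟩ := hb; exact ⟨σ * τ, hmul _ _ _ _ hσ hτ⟩
    | inv a _ ha => obtain ⟨σ, hσ⟩ := ha; exact ⟨σ⁻¹, hinv _ _ hσ⟩
  choose f hf using fun g : Subgroup.closure S => hall g g.2
  let ρ : Subgroup.closure S →* P :=
    { toFun := f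
      map_one' := huniq _ _ _ (hf 1) hone
      map_mul' := fun a b => huniq _ _ _ (hf (a * b)) (hmul _ _ _ _ (hf a) (hf b)) }
  refine ⟨ρ, hf, le_antisymm ?_ ?_⟩
  · rintro _ ⟨⟨g, hg⟩, rfl⟩
    induction hg using Subgroup.closure_induction with
    | mem s hs => exact Subgroup.subset_closure ⟨s, hs, hf ⟨s, Subgroup.subset_closure hs⟩⟩
    | one => exact map_one ρ ▸ one_mem _
    | mul a b ha hb iha ihb => exact map_mul ρ ⟨a, ha⟩ ⟨b, hb⟩ ▸ mul_mem iha ihb
    | inv a ha iha => exact map_inv ρ ⟨a, ha⟩ ▸ inv_mem iha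
  · rw [Subgroup.closure_le]
    rintro σ ⟨s, hs, hσ⟩
    exact ⟨⟨s, Subgroup.subset_closure hs⟩, huniq _ _ _ (hf _) hσ⟩

theorem exists_orbit_hom {p N : ℕ} [CharP R p] (hp : 0 < p) (hp4 : p ≤ 4)
    {orb bidx binv : List ℕ} (h : chkOrbit p N orb bidx binv = true) (S : Set (GL Co R))
    (hS : ∀ s ∈ S, ∃ σ, Moves N orb s σ) :
    ∃ ρ : Subgroup.closure S →* Equiv.Perm (Fin N), Function.Injective ρ ∧
      ρ.range = Subgroup.closure {σ | ∃ s ∈ S, Moves N orb s σ} := by
  obtain ⟨ρ, hρ, hr⟩ := exists_hom S (Moves N orb) (fun k => by simp)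
    (fun g g' σ τ hσ hτ k => by
      rw [Units.val_mul, ← Matrix.mulVec_mulVec, hτ k, hσ (τ k)]; rfl)
    (fun g σ hσ k => by
      have h1 := congrArg (fun v => ((g⁻¹ : GL Co R) : Matrix Co Co R) *ᵥ v) (hσ (σ⁻¹ k))
      simp only [Matrix.mulVec_mulVec, Units.inv_mul, Matrix.one_mulVec] at h1
      simpa using h1.symm)
    (fun g σ τ => moves_unique h) hS
  refine ⟨ρ, (injective_iff_map_eq_one ρ).2 fun g hg => Subtype.ext ?_, hr⟩
  exact eq_one_of_moves hp hp4 h (hg ▸ hρ g)

/-! ### Packed permutations -/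

/-- The code of a permutation. -/
def code {N : ℕ} (σ : Equiv.Perm (Fin N)) : ℕ :=
  pk 64 (fun i => if h : i < N then (σ ⟨i, h⟩ : ℕ) else 0) N

/-- Composition of codes. -/
def cmp (N P Q : ℕ) : ℕ := pk 64 (fun i => dig 64 P (dig 64 Q i)) N

/-- The code of the identity. -/
def cone (N : ℕ) : ℕ := pk 64 (fun i => i) N

theorem dig_code {N : ℕ} (hN : N ≤ 64) (σ : Equiv.Perm (Fin N)) (i : Fin N) :
    dig 64 (code σ) i = σ i := by
  rw [code, dig_pk (by norm_num) (fun j hj => by rw [dif_pos hj]; omega) i i.2, dif_pos i.2]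

theorem code_injective {N : ℕ} (hN : N ≤ 64) :
    Function.Injective (code : Equiv.Perm (Fin N) → ℕ) := fun σ τ h =>
  Equiv.ext fun i => Fin.ext (by rw [← dig_code hN, ← dig_code hN, h])

theorem code_mul {N : ℕ} (hN : N ≤ 64) (σ τ : Equiv.Perm (Fin N)) :
    code (σ * τ) = cmp N (code σ) (code τ) := by
  refine pk_congr fun i hi => ?_
  rw [dif_pos hi]
  simp only [dig_code hN τ ⟨i, hi⟩, dig_code hN σ, Equiv.Perm.mul_apply]

theorem code_one {N : ℕ} : code (1 : Equiv.Perm (Fin N)) = cone N :=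
  pk_congr fun i hi => by rw [dif_pos hi]; rfl

/-- `c.2` is the inverse of the permutation code `c.1`. -/
def okP (N : ℕ) (c : ℕ × ℕ) : Bool :=
  ((List.range N).all fun i => decide (dig 64 c.1 i < N) && decide (dig 64 c.2 i < N) &&
    dig 64 c.1 (dig 64 c.2 i) == i && dig 64 c.2 (dig 64 c.1 i) == i) &&
    pk 64 (dig 64 c.1) N == c.1 && pk 64 (dig 64 c.2) N == c.2

theorem exists_perm {N : ℕ} {c : ℕ × ℕ} (h : okP N c = true) :
    ∃ σ : Equiv.Perm (Fin N), code σ = c.1 ∧ code σ⁻¹ = c.2 := by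
  simp only [okP, Bool.and_eq_true, List.all_eq_true, List.mem_range, decide_eq_true_eq,
    beq_iff_eq] at h
  obtain ⟨⟨h, h1⟩, h2⟩ := h
  refine ⟨⟨fun i => ⟨dig 64 c.1 i, (h i i.2).1.1.1⟩, fun i => ⟨dig 64 c.2 i, (h i i.2).1.1.2⟩,
    fun i => Fin.ext (h i i.2).2, fun i => Fin.ext (h i i.2).1.2⟩, ?_, ?_⟩
  · conv_rhs => rw [← h1]
    exact pk_congr fun i hi => by rw [dif_pos hi]; rfl
  · conv_rhs => rw [← h2]
    exact pk_congr fun i hi => by rw [dif_pos hi]; rfl

/-- The permutation with the given code, by choice. -/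
noncomputable def perm (N : ℕ) (c : ℕ × ℕ) : Equiv.Perm (Fin N) :=
  if h : okP N c = true then (exists_perm h).choose else 1

theorem code_perm {N : ℕ} {c : ℕ × ℕ} (h : okP N c = true) :
    code (perm N c) = c.1 ∧ code (perm N c)⁻¹ = c.2 := by
  rw [perm, dif_pos h]; exact (exists_perm h).choose_spec

/-- The code of a word. -/
def wcode (N C D : ℕ) (w : List Bool) : ℕ :=
  w.foldl (fun A b => cmp N A (if b then C else D)) (cone N)

theorem code_word {N : ℕ} (hN : N ≤ 64) (c d : Equiv.Perm (Fin N)) (w : List Bool) :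
    code (w.map fun b => if b then c else d).prod = wcode N (code c) (code d) w := by
  have key : ∀ (w : List Bool) (A : Equiv.Perm (Fin N)),
      code (A * (w.map fun b => if b then c else d).prod) =
        w.foldl (fun A b => cmp N A (if b then code c else code d)) (code A) := by
    intro w
    induction w with
    | nil => intro A; simp
    | cons b w ih =>
      intro A
      rw [List.map_cons, List.prod_cons, ← mul_assoc, ih, List.foldl_cons, code_mul hN]
      cases b <;> rfl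
  simpa [wcode, code_one] using key w 1

/-- The transversal and stabilizer tables are correct. -/
def chkTable (N m C D : ℕ) (tw sw : List (List Bool)) (tc sc : List ℕ) : Bool :=
  tc.length == N && tw.map (wcode N C D) == tc && sw.map (wcode N C D) == sc && sc.length == m &&
    decide sc.Nodup && sc.all (fun s => dig 64 s 0 == 0) &&
    (List.range N).all fun j => dig 64 (tc.getD j 0) 0 == j

variable {N m : ℕ} {c d : Equiv.Perm (Fin N)} {tw sw : List (List Bool)} {tc sc : List ℕ}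

/-- The value of the `(j, k)` entry of the table. -/
def elt (c d : Equiv.Perm (Fin N)) (tw sw : List (List Bool)) (j k : ℕ) : Equiv.Perm (Fin N) :=
  ((tw.getD j []).map fun b => if b then c else d).prod *
    ((sw.getD k []).map fun b => if b then c else d).prod

theorem elt_mem (j k : ℕ) : elt c d tw sw j k ∈ Subgroup.closure {c, d} := by
  refine mul_mem (list_prod_mem fun x hx => ?_) (list_prod_mem fun x hx => ?_) <;>
    (obtain ⟨b, -, rfl⟩ := List.mem_map.1 hx
     exact Subgroup.subset_closure (by cases b <;> simp))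

theorem code_elt (hN : N ≤ 64) (ht : chkTable N m (code c) (code d) tw sw tc sc = true) {j k : ℕ}
    (hj : j < N) (hk : k < m) :
    code (elt c d tw sw j k) = cmp N (tc.getD j 0) (sc.getD k 0) := by
  simp only [chkTable, Bool.and_eq_true, beq_iff_eq, decide_eq_true_eq, List.all_eq_true,
    List.mem_range] at ht
  obtain ⟨⟨⟨⟨⟨⟨hlen, h1⟩, h2⟩, h3⟩, -⟩, -⟩, -⟩ := ht
  have hj' : j < tw.length := by rw [← h1, List.length_map] at hlen; omega
  have hk' : k < sw.length := by rw [← h2, List.length_map] at h3; omega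
  rw [elt, code_mul hN, code_word hN, code_word hN, ← h1, ← h2]
  simp [hj', hk']

theorem card_ge (hN : N ≤ 64) (hN0 : 0 < N)
    (ht : chkTable N m (code c) (code d) tw sw tc sc = true) :
    N * m ≤ Nat.card ↥(Subgroup.closure {c, d}) := by
  have hce := fun (j : Fin N) (k : Fin m) => code_elt hN ht j.2 k.2
  simp only [chkTable, Bool.and_eq_true, beq_iff_eq, decide_eq_true_eq, List.all_eq_true,
    List.mem_range] at ht
  obtain ⟨⟨⟨⟨⟨⟨-, h1⟩, h2⟩, h3⟩, h4⟩, h5⟩, h6⟩ := ht
  let f : Fin N × Fin m → ↥(Subgroup.closure {c, d}) := fun x =>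
    ⟨elt c d tw sw x.1 x.2, elt_mem _ _⟩
  have hf : Function.Injective f := by
    rintro ⟨j, k⟩ ⟨j', k'⟩ h
    have h' : elt c d tw sw j k = elt c d tw sw j' k' := congrArg Subtype.val h
    have key : ∀ (j : Fin N) (k : Fin m), dig 64 (code (elt c d tw sw j k)) 0 = j := fun j k => by
      rw [hce, cmp, dig_pk (f := fun i => dig 64 (tc.getD j 0) (dig 64 (sc.getD k 0) i))
          (by norm_num) (fun i _ => Nat.mod_lt _ (by norm_num)) 0 hN0,
        h5 _ (by rw [List.getD_eq_getElem _ _ (h3.symm ▸ k.2)]; exact List.getElem_mem _),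
        h6 j j.2]
    obtain rfl : j = j' := Fin.ext (by rw [← key j k, h', key])
    have h7 := congrArg code h'
    rw [elt, elt] at h'
    have h8 := congrArg code (mul_left_cancel h')
    rw [code_word hN, code_word hN] at h8
    have hl : sw.length = m := by rw [← h2, List.length_map] at h3; exact h3
    have h9 : sc.getD k 0 = sc.getD k' 0 := by
      rw [← h2]; simpa [List.getD_eq_getElem, hl] using h8
    rw [List.getD_eq_getElem _ _ (h3.symm ▸ k.2), List.getD_eq_getElem _ _ (h3.symm ▸ k'.2)] at h9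
    exact Prod.ext rfl (Fin.ext (h4.getElem_inj_iff.1 h9))
  have := Nat.card_le_card_of_injective f hf
  simpa using this

/-- A commutator subgroup of index a small power. -/
theorem commutator_eq_of {P : Type*} [Group P] (S : Set P) {c d x : P}
    (hc : c ∈ (⁅Subgroup.closure S, Subgroup.closure S⁆ : Subgroup P))
    (hd : d ∈ (⁅Subgroup.closure S, Subgroup.closure S⁆ : Subgroup P))
    (hnc : ∀ s ∈ S, s * c * s⁻¹ ∈ Subgroup.closure {c, d})
    (hnd : ∀ s ∈ S, s * d * s⁻¹ ∈ Subgroup.closure {c, d})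
    [Finite P]
    (hx : x ∈ S) (hcov : ∀ s ∈ S, ∃ i : ℕ, s * (x ^ i)⁻¹ ∈ Subgroup.closure {c, d}) :
    (⁅Subgroup.closure S, Subgroup.closure S⁆ : Subgroup P) = Subgroup.closure {c, d} := by
  set H := Subgroup.closure {c, d} with hH
  refine le_antisymm ?_ ((Subgroup.closure_le _).2 ?_)
  swap
  · rintro z (rfl | rfl)
    · exact hc
    · exact hd
  have hN : Subgroup.closure S ≤ Subgroup.normalizer (H : Set P) := by
    rw [Subgroup.closure_le]
    intro s hs
    have hle : H.map (MulAut.conj s).toMonoidHom ≤ H := by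
      rw [hH, MonoidHom.map_closure, Subgroup.closure_le]
      rintro _ ⟨y, rfl | rfl, rfl⟩
      · exact hnc s hs
      · exact hnd s hs
    have heq := Subgroup.eq_of_le_of_card_ge hle
      (Subgroup.card_map_of_injective (MulAut.conj s).injective).ge
    refine Subgroup.mem_normalizer_iff.2 fun y => ⟨fun hy => hle ⟨y, hy, rfl⟩, fun hy => ?_⟩
    rw [← heq] at hy
    obtain ⟨z, hz, hzy⟩ := hy
    obtain rfl : z = y := (MulAut.conj s).injective hzy
    exact hz
  let L := Subgroup.normalizer (H : Set P)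
  let q : ↥L →* ↥L ⧸ H.subgroupOf L := QuotientGroup.mk' _
  have hxL : x ∈ L := hN (Subgroup.subset_closure hx)
  have himg : ∀ (g : P) (hg : g ∈ Subgroup.closure S),
      q ⟨g, hN hg⟩ ∈ Subgroup.zpowers (q ⟨x, hxL⟩) := fun g hg => by
    induction hg using Subgroup.closure_induction with
    | mem s hs =>
      obtain ⟨i, hi⟩ := hcov s hs
      refine ⟨i, ?_⟩
      change q ⟨x, hxL⟩ ^ (i : ℤ) = _
      rw [zpow_natCast, ← map_pow]
      refine (QuotientGroup.eq_iff_div_mem.2 ?_).symm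
      simpa [Subgroup.mem_subgroupOf, div_eq_mul_inv] using hi
    | one => exact map_one q ▸ one_mem _
    | mul a b ha hb iha ihb => exact map_mul q ⟨a, hN ha⟩ ⟨b, hN hb⟩ ▸ mul_mem iha ihb
    | inv a ha iha => exact map_inv q ⟨a, hN ha⟩ ▸ inv_mem iha
  rw [Subgroup.commutator_le]
  intro a ha b hb
  have h1 : q ⁅(⟨a, hN ha⟩ : ↥L), ⟨b, hN hb⟩⁆ = 1 := by
    obtain ⟨i, hi⟩ := himg a ha
    obtain ⟨j, hj⟩ := himg b hb
    simp only at hi hj
    rw [map_commutatorElement, ← hi, ← hj, commutatorElement_eq_one_iff_mul_comm]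
    exact ((Commute.refl (q ⟨x, hxL⟩)).zpow_zpow i j).eq
  simpa [Subgroup.mem_subgroupOf, commutatorElement_def] using (QuotientGroup.eq_one_iff _).1 h1

/-- The commutator subgroup seen through an embedding. -/
theorem nonempty_commutator_equiv {G P : Type*} [Group G] [Group P] {ρ : G →* P}
    (hρ : Function.Injective ρ) :
    Nonempty (↥(commutator G) ≃* ↥(⁅ρ.range, ρ.range⁆ : Subgroup P)) := by
  refine ⟨((commutator G).equivMapOfInjective ρ hρ).trans (MulEquiv.subgroupCongr ?_)⟩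
  rw [commutator_def, Subgroup.map_commutator, ← MonoidHom.range_eq_map]

end Cfsg.Agent.SmallExcPerm
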