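import Cfsg.Agent.Lib.SmallExcReeCheck
import Cfsg.Agent.Lib.Simple504
import Cfsg.Agent.Lib.PSLSimple
import Cfsg.Agent.Lib.PSLCard

/-!
The derived subgroup of `²G₂(3)` is simple of order `504`, hence `PSL₂(8)`.
-/

set_option autoImplicit false

namespace Cfsg.Agent.SmallExcRee

open Matrix Cfsg.Lie Cfsg.Agent.SmallExcPerm
open scoped MatrixGroups commutatorElement

/-- The first generator. -/
noncomputable def pc : Equiv.Perm (Fin 56) := perm 56 cCode
/-- The second generator. -/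
noncomputable def pd : Equiv.Perm (Fin 56) := perm 56 dCode
/-- The group they generate. -/
abbrev HH : Subgroup (Equiv.Perm (Fin 56)) := Subgroup.closure {pc, pd}

theorem table_ok :
    chkTable 56 9 (code pc) (code pd) transWords stabWords transCodes stabCodes = true := by
  rw [pc, pd, (code_perm codes_ok.1).1, (code_perm codes_ok.2.1).1]
  exact codes_ok.2.2.1

/-- The element in position `x`. -/
noncomputable def E (x : Fin 56 × Fin 9) : Equiv.Perm (Fin 56) :=
  elt pc pd transWords stabWords x.1 x.2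

theorem code_E (x : Fin 56 × Fin 9) : code (E x) = ecr (x.1, x.2) :=
  code_elt le_rfl' table_ok x.1.2 x.2.2
where le_rfl' : 56 ≤ 64 := by norm_num

theorem E_zero : E (0, 0) = 1 :=
  code_injective (by norm_num) (by rw [code_E, code_one]; exact step_ok.1)

theorem mem_range_E {g : Equiv.Perm (Fin 56)} (hg : g ∈ HH) : g ∈ Set.range E := by
  obtain ⟨-, h2, h3⟩ := step_ok
  simp only [List.all_eq_true, List.mem_range, Bool.and_eq_true, decide_eq_true_eq, beq_iff_eq,
    List.contains_iff_mem] at h2 h3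
  have hstep : ∀ (s : Equiv.Perm (Fin 56)) (a : ℕ → ℕ × ℕ),
      (∀ j < 56, (a j).1 < 56 ∧ (a j).2 < 9 ∧
        cmp 56 (code s) (transCodes.getD j 0) = ec 56 transCodes stabCodes (a j)) →
      ∀ x, s * E x ∈ Set.range E := by
    rintro s a ha ⟨j, k⟩
    obtain ⟨h4, h5, h6⟩ := ha j j.2
    have hsl : stabCodes.length = 9 := by decide +kernel
    obtain ⟨l, hl, hle⟩ := List.getElem_of_mem (h3 _ h5 k k.2)
    have hl9 : l < 9 := hsl ▸ hl
    refine ⟨(⟨(a j).1, h4⟩, ⟨l, hl9⟩), code_injective (by norm_num) ?_⟩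
    rw [code_mul (by norm_num), code_E, code_E]
    change ec 56 transCodes stabCodes ((a j).1, l) =
      cmp 56 (code s) (cmp 56 (transCodes.getD j 0) (stabCodes.getD k 0))
    have assoc : ∀ {σ τ ρ : Equiv.Perm (Fin 56)}, cmp 56 (code σ) (cmp 56 (code τ) (code ρ)) =
        cmp 56 (cmp 56 (code σ) (code τ)) (code ρ) := fun {σ τ ρ} => by
      rw [← code_mul (by norm_num), ← code_mul (by norm_num), ← code_mul (by norm_num),
        ← code_mul (by norm_num), mul_assoc]
    have hw : ∀ (L : List (List Bool)) (C : List ℕ),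
        L.map (wcode 56 (code pc) (code pd)) = C → ∀ i, i < C.length →
          ∃ σ : Equiv.Perm (Fin 56), code σ = C.getD i 0 := by
      intro L C hLC i hi
      subst hLC
      refine ⟨((L.getD i []).map fun b => if b then pc else pd).prod, ?_⟩
      rw [List.length_map] at hi
      rw [code_word (by norm_num)]
      simp [hi]
    have ht := table_ok
    simp only [chkTable, Bool.and_eq_true, beq_iff_eq, decide_eq_true_eq] at ht
    have hS := hw _ _ ht.1.1.1.1.2
    have hT := hw _ _ ht.1.1.1.1.1.2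
    have hlt : transCodes.length = 56 := ht.1.1.1.1.1.1
    obtain ⟨τ, hτ⟩ := hT j (hlt.symm ▸ j.2)
    obtain ⟨ρ, hρ⟩ := hS k (hsl.symm ▸ k.2)
    obtain ⟨τ', hτ'⟩ := hT (a j).1 (hlt.symm ▸ h4)
    obtain ⟨ρ', hρ'⟩ := hS (a j).2 (hsl.symm ▸ h5)
    rw [← hτ, ← hρ, assoc, hτ, h6]
    simp only [ec]
    rw [List.getD_eq_getElem _ _ hl, hle, ← hρ', ← hρ, ← hτ', assoc]
  obtain ⟨hc, hd⟩ : (∀ x, pc * E x ∈ Set.range E) ∧ (∀ x, pd * E x ∈ Set.range E) := by
    refine ⟨hstep pc (fun j => stepData.getD j (99, 99)) fun j hj => ?_,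
      hstep pd (fun j => stepData.getD (56 + j) (99, 99)) fun j hj => ?_⟩
    · rw [pc, (code_perm codes_ok.1).1]
      exact ⟨(h2 j hj).1.1.1.1.1, (h2 j hj).1.1.1.1.2, (h2 j hj).1.2⟩
    · rw [pd, (code_perm codes_ok.2.1).1]
      exact ⟨(h2 j hj).1.1.1.2, (h2 j hj).1.1.2, (h2 j hj).2⟩
  have key : ∀ x : Fin 56 × Fin 9, g * E x ∈ Set.range E := by
    induction hg using Subgroup.closure_induction with
    | mem s hs =>
      rcases hs with rfl | rfl
      · exact hc
      · exact hd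
    | one => exact fun x => ⟨x, (one_mul _).symm⟩
    | mul a b _ _ iha ihb =>
      intro x
      obtain ⟨y, hy⟩ := ihb x
      rw [mul_assoc, ← hy]
      exact iha y
    | inv a _ iha =>
      intro x
      have hinj : Function.Injective fun z : Set.range E => (⟨a * z, by
          obtain ⟨y, hy⟩ := z.2; rw [← hy]; exact iha y⟩ : Set.range E) := fun z w h =>
        Subtype.ext (mul_left_cancel (congrArg Subtype.val h))
      obtain ⟨z, hz⟩ := Finite.surjective_of_injective hinj ⟨E x, x, rfl⟩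
      obtain ⟨y, hy⟩ := z.2
      exact ⟨y, by rw [hy, eq_inv_mul_iff_mul_eq]; exact congrArg Subtype.val hz⟩
  obtain ⟨y, hy⟩ := key (0, 0)
  exact ⟨y, by rw [hy, E_zero, mul_one]⟩

theorem card_HH : Nat.card HH = 504 := by
  refine le_antisymm ?_ (card_ge (m := 9) (by norm_num) (by norm_num) table_ok)
  have h := Nat.card_le_card_of_surjective
    (fun x : Fin 56 × Fin 9 => (⟨E x, elt_mem _ _⟩ : HH)) fun g => by
      obtain ⟨x, hx⟩ := mem_range_E g.2
      exact ⟨x, Subtype.ext hx⟩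
  simpa using h

/-- The element in position `x`, in the group. -/
noncomputable def EH (x : Fin 56 × Fin 9) : HH := ⟨E x, elt_mem _ _⟩

theorem EH_bijective : Function.Bijective EH := by
  refine (Nat.bijective_iff_surjective_and_card EH).2 ⟨fun g => ?_, by rw [card_HH]; simp⟩
  obtain ⟨x, hx⟩ := mem_range_E g.2
  exact ⟨x, Subtype.ext hx⟩

/-- Natural number position. -/
def pos (x : Fin 56 × Fin 9) : ℕ × ℕ := (x.1, x.2)

theorem exists_pos {y : ℕ × ℕ} (h1 : y.1 < 56) (h2 : y.2 < 9) : ∃ x, pos x = y :=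
  ⟨(⟨y.1, h1⟩, ⟨y.2, h2⟩), rfl⟩

theorem EH_ne_one {x : Fin 56 × Fin 9} : EH x ≠ 1 ↔ ¬ (x.1.val = 0 ∧ x.2.val = 0) := by
  have h0 : EH (0, 0) = 1 := Subtype.ext E_zero
  rw [not_iff_not, ← h0, EH_bijective.injective.eq_iff, Prod.ext_iff, Fin.ext_iff, Fin.ext_iff]
  rfl

theorem isSimpleGroup_HH : IsSimpleGroup HH := by
  have : Nontrivial HH := by
    rw [← Finite.one_lt_card_iff_nontrivial, card_HH]; norm_num
  have hc := class_ok
  obtain ⟨hg1, hg2, hg3⟩ := gen_data_ok
  simp only [List.all_eq_true, List.mem_range, Bool.or_eq_true, Bool.and_eq_true,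
    decide_eq_true_eq, beq_iff_eq] at hc hg1 hg3
  have hcls : ∀ i, EH i ≠ 1 → (cls (pos i)).1 < 8 ∧ ∃ h r : Fin 56 × Fin 9,
      pos r = classReps.getD (cls (pos i)).1 (0, 0) ∧ EH i = EH h * EH r * (EH h)⁻¹ := by
    intro i hi
    obtain ⟨⟨⟨(h1 : (cls (pos i)).1 < 8), h2⟩, h3⟩, h4⟩ :=
      (hc _ i.1.2 _ i.2.2).resolve_left (EH_ne_one.1 hi)
    obtain ⟨h, hh⟩ := exists_pos (y := (cls (pos i)).2) h2 h3
    have hmem : classReps.getD (cls (pos i)).1 (0, 0) ∈ classReps := by
      rw [List.getD_eq_getElem _ _ (lt_of_lt_of_eq h1 hg2.symm)]; exact List.getElem_mem _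
    obtain ⟨r, hr⟩ := exists_pos (hg1 _ hmem).1 (hg1 _ hmem).2
    refine ⟨h1, h, r, hr, eq_mul_inv_iff_mul_eq.2
      (Subtype.ext (code_injective (N := 56) (by norm_num) ?_))⟩
    simp only [Subgroup.coe_mul, EH, code_mul (show 56 ≤ 64 by norm_num), code_E]
    rw [show ((h.1 : ℕ), (h.2 : ℕ)) = (cls (pos i)).2 from hh,
      show ((r.1 : ℕ), (r.2 : ℕ)) = classReps.getD (cls (pos i)).1 (0, 0) from hr]
    exact h4.symm
  choose! h1 hh rr hrr heq using hcls
  refine isSimpleGroup_of_cert EH EH_bijective.surjective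
    (fun k : ℕ => if hk : ∃ r, pos r = classReps.getD k (0, 0) then EH hk.choose else 1)
    (fun i => (cls (pos i)).1) (fun i => EH (hh i)) (fun i hi => ?_)
    {⟨pc, Subgroup.subset_closure (Set.mem_insert _ _)⟩,
      ⟨pd, Subgroup.subset_closure (Set.mem_insert_of_mem _ rfl)⟩} ?_ fun i hi z hz => ?_
  · have hk : ∃ r, pos r = classReps.getD (cls (pos i)).1 (0, 0) := ⟨rr i, hrr i hi⟩
    rw [dif_pos hk]
    have : hk.choose = rr i := by
      have := hk.choose_spec.trans (hrr i hi).symm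
      exact Prod.ext (Fin.ext (congrArg Prod.fst this)) (Fin.ext (congrArg Prod.snd this))
    rw [this]
    exact heq i hi
  · rw [eq_top_iff]
    rintro ⟨g, hg⟩ -
    induction hg using Subgroup.closure_induction with
    | mem s hs =>
      rcases hs with rfl | rfl
      · exact Subgroup.subset_closure (Set.mem_insert _ _)
      · exact Subgroup.subset_closure (Set.mem_insert_of_mem _ rfl)
    | one => exact one_mem _
    | mul a b ha hb iha ihb => exact mul_mem iha ihb
    | inv a ha iha => exact inv_mem iha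
  · obtain ⟨⟨hall, hC⟩, hD⟩ := hg3 _ (h1 i hi)
    have hlist : ∀ L : List (ℕ × ℕ), (∀ y ∈ L, y ∈ genData.getD (2 * (cls (pos i)).1) [] ++
        genData.getD (2 * (cls (pos i)).1 + 1) []) →
        ∃ M : List (Fin 56 × Fin 9), M.map pos = L ∧
          ∀ l ∈ M, EH l ≠ 1 ∧ (cls (pos l)).1 = (cls (pos i)).1 := by
      intro L
      induction L with
      | nil => exact fun _ => ⟨[], rfl, by simp⟩
      | cons y L ih =>
        intro hL
        obtain ⟨M, hM, hM'⟩ := ih fun z hz => hL z (List.mem_cons_of_mem _ hz)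
        obtain ⟨⟨⟨h2, h3⟩, h4⟩, h5⟩ := hall y (hL y (List.mem_cons_self ..))
        obtain ⟨x, hx⟩ := exists_pos h2 h3
        refine ⟨x :: M, by rw [List.map_cons, hM, hx], fun l hl => ?_⟩
        rcases List.mem_cons.1 hl with rfl | hl
        · refine ⟨EH_ne_one.2 ?_, hx ▸ h5⟩
          subst hx
          simpa [pos, imp_iff_not_or] using h4
        · exact hM' l hl
    have hcode : ∀ (M : List (Fin 56 × Fin 9)) (C : ℕ × ℕ), okP 56 C = true →
        (M.map pos).foldl (fun A y => cmp 56 A (ecr y)) (cone 56) = C.1 →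
        perm 56 C = ((M.map EH).prod : HH) := by
      intro M C hC hf
      refine code_injective (N := 56) (by norm_num) ?_
      rw [Subgroup.val_list_prod, List.map_map, (code_perm hC).1, ← hf]
      exact (code_prod (by norm_num) _ pos ecr code_E M).symm
    rcases hz with rfl | rfl
    · obtain ⟨M, hM, hM'⟩ := hlist _ fun y hy => List.mem_append_left _ hy
      exact ⟨M, hM', Subtype.ext (hcode M _ codes_ok.1 (hM.symm ▸ hC))⟩
    · obtain ⟨M, hM, hM'⟩ := hlist _ fun y hy => List.mem_append_right _ hy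
      exact ⟨M, hM', Subtype.ext (hcode M _ codes_ok.2.1 (hM.symm ▸ hD))⟩

theorem commutator_equiv : Nonempty (↥(commutator ↥(twistedG2 (ZMod 3) 1)) ≃* HH) := by
  set S : Set (GL chevG2.Idx (ZMod 3)) :=
    {g | ∃ w ∈ g2Words (ZMod 3) 1, (g : Matrix Co Co (ZMod 3)) = chevG2.wordMat (ZMod 3) w} with hS
  have hword : ∀ t u v : ZMod 3, ∀ s : Bool,
      chevG2.wordMat (ZMod 3) (gword t u v s) = ((gword t u v s).map tab |>.map ofC).prod ∧
      (∀ T ∈ (gword t u v s).map tab, okT 3 T = true) ∧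
      IsUnit (chevG2.wordMat (ZMod 3) (gword t u v s)) := by
    intro t u v s
    have hr := (gen_ok t u v s).1
    simp only [List.all_eq_true, decide_eq_true_eq] at hr
    refine ⟨?_, ?_, ?_⟩
    · rw [ChevalleyDatum.wordMat, List.map_map]
      exact congrArg List.prod (List.map_congr_left fun a ha => x_eq_tab ⟨a.1, hr a ha⟩ a.2)
    · intro T hT
      obtain ⟨a, ha, rfl⟩ := List.mem_map.1 hT
      have := inv_tab ⟨a.1, hr a ha⟩ a.2
      simp only [chkInv, Bool.and_eq_true] at this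
      exact this.1.1
    · rw [ChevalleyDatum.wordMat]
      refine List.prod_isUnit fun M hM => ?_
      obtain ⟨a, ha, rfl⟩ := List.mem_map.1 hM
      rw [x_eq_tab ⟨a.1, hr a ha⟩ a.2]
      exact IsUnit.of_mul_eq_one (ofC (tab (a.1, -a.2)))
        (ofC_mul_eq_one (R := ZMod 3) (by norm_num) (by norm_num) (inv_tab ⟨a.1, hr a ha⟩ a.2))
  have hmov : ∀ t u v : ZMod 3, ∀ s : Bool, ∀ g : GL Co (ZMod 3),
      (g : Matrix Co Co (ZMod 3)) = chevG2.wordMat (ZMod 3) (gword t u v s) →
      Moves 56 orbit g (perm 56 (genCodes.getD (gpos t u v s) (0, 0))) := by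
    intro t u v s g hg k
    obtain ⟨h1, h2, -⟩ := hword t u v s
    obtain ⟨-, hok, hk⟩ := gen_ok t u v s
    have horb := orbit_ok
    simp only [chkOrbit, Bool.and_eq_true, beq_iff_eq, List.all_eq_true, decide_eq_true_eq] at horb
    have hlen := horb.1.1.1.1.1.1
    have hv : okV 3 (orbit.getD k 0) = true := horb.1.1.1.1.1.2 _ (by
      rw [List.getD_eq_getElem _ _ (hlen.symm ▸ k.2)]; exact List.getElem_mem _)
    obtain ⟨-, h3⟩ := mulVec_prod (R := ZMod 3) (by norm_num) (by norm_num) _ h2 hv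
    rw [hg, h1, h3]
    simp only [List.all_eq_true, List.mem_range, beq_iff_eq] at hk
    rw [hk k k.2, ← dig_code (by norm_num) (perm 56 _) k, (code_perm hok).1]
  have hsrc : ∀ g ∈ S, ∃ t u v : ZMod 3, ∃ s : Bool,
      (g : Matrix Co Co (ZMod 3)) = chevG2.wordMat (ZMod 3) (gword t u v s) := by
    rintro g ⟨w, ⟨t, u, v, rfl | rfl⟩, hg⟩
    · exact ⟨t, u, v, false, hg⟩
    · exact ⟨t, u, v, true, hg⟩
  obtain ⟨ρ, hρ, hrange⟩ := exists_orbit_hom (p := 3) (R := ZMod 3) (by norm_num) (by norm_num)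
    orbit_ok S (fun g hg => by
      obtain ⟨t, u, v, s, h⟩ := hsrc g hg
      exact ⟨_, hmov t u v s g h⟩)
  set P := {σ : Equiv.Perm (Fin 56) | ∃ g ∈ S, Moves 56 orbit g σ} with hP
  have hgP : ∀ i < 54, perm 56 (genCodes.getD i (0, 0)) ∈ P := by
    intro i hi
    obtain ⟨t, u, v, s, h⟩ := gpos_surj ⟨i, hi⟩
    simp only at h
    subst h
    obtain ⟨g, hg⟩ := (hword t u v s).2.2
    exact ⟨g, ⟨gword t u v s, ⟨t, u, v, by cases s <;> simp [gword]⟩, hg⟩, hmov t u v s g hg⟩
  have hPg : ∀ σ ∈ P, ∃ i < 54, σ = perm 56 (genCodes.getD i (0, 0)) := by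
    rintro σ ⟨g, hg, hσ⟩
    obtain ⟨t, u, v, s, h⟩ := hsrc g hg
    exact ⟨_, gpos_lt t u v s, moves_unique orbit_ok hσ (hmov t u v s g h)⟩
  have hok : ∀ i < 54, okP 56 (genCodes.getD i (0, 0)) = true := by
    intro i hi
    obtain ⟨t, u, v, s, h⟩ := gpos_surj ⟨i, hi⟩
    simp only at h
    subst h
    exact (gen_ok t u v s).2.1
  obtain ⟨-, -, -, ho, hc1, hc2, hd1, hd2, hcc, hdd⟩ := codes_ok
  have hcom : ∀ (a b : ℕ) (C : ℕ × ℕ), a < 54 → b < 54 → okP 56 C = true →
      cmp 56 (cmp 56 (cmp 56 (genCodes.getD a (0, 0)).1 (genCodes.getD b (0, 0)).1)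
        (genCodes.getD a (0, 0)).2) (genCodes.getD b (0, 0)).2 = C.1 →
      perm 56 C ∈ (⁅Subgroup.closure P, Subgroup.closure P⁆ : Subgroup (Equiv.Perm (Fin 56))) := by
    intro a b C ha hb hC h
    have h1 : perm 56 C = ⁅perm 56 (genCodes.getD a (0, 0)), perm 56 (genCodes.getD b (0, 0))⁆ := by
      refine code_injective (by norm_num) ?_
      rw [commutatorElement_def, code_mul (by norm_num), code_mul (by norm_num),
        code_mul (by norm_num), (code_perm hC).1, (code_perm (hok a ha)).1,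
        (code_perm (hok a ha)).2, (code_perm (hok b hb)).1, (code_perm (hok b hb)).2, h]
    rw [h1]
    exact Subgroup.commutator_mem_commutator (Subgroup.subset_closure (hgP a ha))
      (Subgroup.subset_closure (hgP b hb))
  have hn := norm_ok
  simp only [List.all_eq_true, List.mem_range] at hn
  have hnorm : ∀ s ∈ P, s * pc * s⁻¹ ∈ HH ∧ s * pd * s⁻¹ ∈ HH ∧
      ∃ k : ℕ, s * (perm 56 (genCodes.getD outer (0, 0)) ^ k)⁻¹ ∈ HH := by
    intro s hs
    obtain ⟨i, hi, rfl⟩ := hPg s hs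
    refine chkGen_spec (by norm_num) table_ok (code_perm (hok i hi)).1 (code_perm (hok i hi)).2
      (e := 3) (nc := normData.getD (2 * i) (0, 0)) (nd := normData.getD (2 * i + 1) (0, 0))
      (i := cosetData.getD i (0, 0, 0)) ?_
    rw [pc, pd, (code_perm codes_ok.1).1, (code_perm codes_ok.2.1).1,
      (code_perm (hok outer ho)).1]
    exact hn i hi
  have hC : (⁅ρ.range, ρ.range⁆ : Subgroup (Equiv.Perm (Fin 56))) = HH := by
    rw [hrange]
    exact commutator_eq_of P (hcom _ _ _ hc1 hc2 codes_ok.1 hcc)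
      (hcom _ _ _ hd1 hd2 codes_ok.2.1 hdd) (fun s hs => (hnorm s hs).1)
      (fun s hs => (hnorm s hs).2.1) (hgP outer ho) (fun s hs => (hnorm s hs).2.2)
  obtain ⟨e⟩ := nonempty_commutator_equiv hρ
  exact ⟨e.trans (MulEquiv.subgroupCongr hC)⟩

theorem main {L : Type*} [Field L] [Fintype L] (hL : Fintype.card L = 8) :
    Nat.card ↥(commutator ↥(twistedG2 (ZMod 3) 1)) = 504 ∧
      Nonempty (↥(commutator ↥(twistedG2 (ZMod 3) 1)) ≃*
        Matrix.ProjectiveSpecialLinearGroup (Fin 2) L) := by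
  obtain ⟨e⟩ := commutator_equiv
  have := isSimpleGroup_HH
  have hc : Nat.card L = 8 := by rw [Nat.card_eq_fintype_card, hL]
  have := Cfsg.Agent.PSLSimple.isSimpleGroup_PSL_fin' (F := L) (n := 2) le_rfl
    (fun _ => by omega)
  have hP : Nat.card (Matrix.ProjectiveSpecialLinearGroup (Fin 2) L) = 504 := by
    have := Cfsg.Agent.PSLCard.card_PSL2_even (F := L) (by rw [hc]; decide)
    rw [this, hc]; norm_num
  obtain ⟨e1⟩ := Cfsg.Agent.Simple504.nonempty_equiv_model card_HH
  obtain ⟨e2⟩ := Cfsg.Agent.Simple504.nonempty_equiv_model hP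
  exact ⟨(Nat.card_congr e.toEquiv).trans card_HH, ⟨e.trans (e1.trans e2.symm)⟩⟩

end Cfsg.Agent.SmallExcRee
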