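import Cfsg.Agent.Lib.BlockPrimeMain86

/-!
An irreducible character of small degree, in a group generated by the conjugates of a Sylow subgroup
of prime order whose centralizer has central regular part, is linear.
-/

set_option autoImplicit false
set_option maxHeartbeats 1000000

open scoped ComplexConjugate

namespace Cfsg.Agent.SmallFaithful86

open Cfsg Cfsg.Agent.BlockTheoryLocalRing Cfsg.Agent.BlockTheoryCentre
  Cfsg.Agent.BlockTheoryIdem Cfsg.Agent.BlockPrincipal81 Cfsg.Agent.CharBasicOrth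
  Cfsg.Agent.BlockAbelianSylow86 Cfsg.Agent.BlockPrime86 Cfsg.Agent.CharBasic

attribute [local instance] Classical.propDecidable

universe u

/-- The final inequality. -/
theorem arith {p e m c1 Sp Sm Z : ℤ} {ε : ℤ} (hε : ε = 1 ∨ ε = -1) (hm : 2 ≤ m) (hsmall : 2 * m + 2 ≤ p)
    (he : 0 ≤ e) (hem : e ≤ m) (hc : m ≤ c1) (hSp : 0 ≤ Sp) (hSm : 0 ≤ Sm) (hZ : 0 ≤ Z)
    (heq : ε * e * Z = m ^ 2 - c1 + (p - 1) * (1 + Sp - Sm - c1))
    (hdeg : 1 + (p + 1) * Sp + (p - 1) * Sm + (if ε = 1 then e else p - e) * Z ≤ m ^ 2) : False := by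
  have key : (p - 1) * (c1 - 1) ≤ 2 * (m ^ 2 - c1) := by
    rcases hε with rfl | rfl
    · rw [if_pos rfl] at hdeg
      have h1 : p * (2 * Sp - (c1 - 1)) ≤ 0 := by nlinarith
      have h2 : 2 * Sp ≤ c1 - 1 := by nlinarith
      nlinarith [mul_nonneg he hZ, mul_nonneg (show (0 : ℤ) ≤ p - 1 by omega) hSm,
        mul_le_mul_of_nonneg_left h2 (show (0 : ℤ) ≤ p - 1 by omega)]
    · rw [if_neg (by norm_num)] at hdeg
      have h1 : p * (2 * Sp + Z - (c1 - 1)) ≤ 0 := by nlinarith
      have h2 : 2 * Sp + Z ≤ c1 - 1 := by nlinarith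
      nlinarith [mul_le_mul_of_nonneg_right (show 2 * e ≤ p - 1 by omega) hZ,
        mul_nonneg (show (0 : ℤ) ≤ p - 1 by omega) hSm,
        mul_le_mul_of_nonneg_left h2 (show (0 : ℤ) ≤ p - 1 by omega)]
  nlinarith [mul_le_mul_of_nonneg_right (show 2 * m + 1 ≤ p - 1 by omega) (show (0 : ℤ) ≤ c1 - 1 by omega),
    mul_le_mul_of_nonneg_left hc (show (0 : ℤ) ≤ 2 * m + 3 by omega)]

variable {G : Type u} [Group G] [Fintype G] {p : ℕ} [hp : Fact p.Prime] {P : Sylow p G}
  [Fintype ↥(P : Subgroup G)] [Fintype (↥(P : Subgroup G) →* ℂˣ)]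
  (hP : Nat.card (P : Subgroup G) = p) {M : Ideal AlgInt} (hM : IsPModular p M)

include hP hM in
/-- An irreducible character of degree at most `(p - 2) / 2` is linear. -/
theorem degree_small (hgen : Subgroup.normalClosure ((P : Subgroup G) : Set G) = ⊤)
    (hcen : ∀ c ∈ Subgroup.centralizer ((P : Subgroup G) : Set G), ¬ p ∣ orderOf c →
      c ∈ Subgroup.center G)
    (φ : IrrCharacter G) (m : ℕ) (hm : (φ : G → ℂ) 1 = (m : ℂ)) (hm2 : 2 ≤ m)
    (hsmall : 2 * m + 2 ≤ p) : False := by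
  have hp2 : p ≠ 2 := by omega
  have hab := comm_P hP
  have hfree := freeAction hP
  set e := (Subgroup.centralizer ((P : Subgroup G) : Set G)).relIndex
    (Subgroup.normalizer ((P : Subgroup G) : Set G)) with he
  obtain ⟨X, Y, a, ε, hF⟩ := prime_main hP hp2 hM e he.symm
  obtain ⟨t, ht, ht1, htgen⟩ := exists_generator_P hP
  have htK : ∀ K : Subgroup G, K.Normal → t ∈ K → K = ⊤ := by
    intro K hK htK
    refine top_le_iff.1 (hgen ▸ Subgroup.normalClosure_le_normal fun x hx => ?_)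
    obtain ⟨i, rfl⟩ := htgen x hx
    exact pow_mem htK i
  -- the product of the character and its conjugate
  set f : G → ℂ := fun g => (φ : G → ℂ) g * conj ((φ : G → ℂ) g) with hf
  have hfc : IsCharacter G f := CharBasicDecomp.isCharacter_mul (isCharacter_of_isIrrCharacter φ.2)
    (CharBasicDecomp.isCharacter_conj (isCharacter_of_isIrrCharacter φ.2))
  obtain ⟨b, hb, hfb⟩ := CharBasicDecomp.exists_mult hfc
  have hfsum : ∀ g, f g = ∑ χ : IrrCharacter G, (b χ : ℂ) * (χ : G → ℂ) g := fun g => by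
    conv_lhs => rw [hfb]
    simp [Finset.sum_apply]
  have hb1 : b (oneChar G) = 1 := by
    have h := hb (oneChar G)
    have h2 : classInner f (oneChar G : G → ℂ) = classInner (φ : G → ℂ) (φ : G → ℂ) := by
      simp [classInner, hf, oneChar]
    rw [h2, classInner_irr_self φ.2] at h
    exact_mod_cast h.symm
  -- the values on `P`
  set B0 := Finset.univ.filter (fun χ : IrrCharacter G => χ ∈ principalBlock M G) with hB0
  have hfy : ∀ y : ↥(P : Subgroup G), y ≠ 1 →
      f y = ∑ χ ∈ B0, (b χ : ℂ) * (χ : G → ℂ) y := by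
    intro y hy
    have hy1 := coe_ne_one hy
    obtain ⟨K0, -, hK0, -, hK0mem⟩ := exists_complement hab hfree y.2 hy1
    set K := K0.map (Subgroup.centralizer ({(y : G)} : Set G)).subtype with hK
    have hmemK : ∀ k ∈ K, Commute (y : G) k ∧ ¬ p ∣ orderOf k := by
      rintro _ ⟨k, hk, rfl⟩
      refine ⟨(hH (y : G) _).1 k.2, ?_⟩
      rw [Subgroup.subtype_apply, Subgroup.orderOf_coe]
      exact (hK0mem k).1 hk
    have hKcard : ¬ p ∣ Nat.card K := by
      rwa [hK, Subgroup.card_map_of_injective (Subgroup.subtype_injective _)]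
    have hKcen : ∀ k ∈ K, k ∈ Subgroup.center G := by
      intro k hk
      refine hcen k (Subgroup.mem_centralizer_iff.2 fun z hz => ?_) (hmemK k hk).2
      have hzy : (⟨z, hz⟩ : ↥(P : Subgroup G)) ∈ Subgroup.zpowers y := by
        rw [zpowers_eq_top_of_prime_card hP hy]; exact Subgroup.mem_top _
      obtain ⟨i, hi⟩ := Subgroup.mem_zpowers_iff.1 hzy
      have := ((hmemK k hk).1.zpow_left i).eq
      rw [show ((y : G)) ^ i = z from congrArg Subtype.val hi] at this
      exact this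
    have hfk : ∀ k ∈ K, f ((y : G) * k) = f y := by
      intro k hk
      obtain ⟨n, ρ, hρirr, hρ⟩ := φ.2
      haveI := hρirr
      obtain ⟨z, hz⟩ := exists_scalar_of_mem_center ρ (hKcen k hk)
      have hval : ∀ g : G, (φ : G → ℂ) (g * k) = z * (φ : G → ℂ) g := fun g => by
        rw [← hρ]
        simp only [Representation.character, map_mul, hz]
        rw [show ρ g * z • (LinearMap.id : (Fin n → ℂ) →ₗ[ℂ] (Fin n → ℂ)) = z • ρ g from
          LinearMap.ext fun v => by simp]
        rw [map_smul, smul_eq_mul]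
      have hz1 : z * conj z = 1 := by
        have hpos : ∀ j : ℕ, (φ : G → ℂ) (k ^ j) = z ^ j * (m : ℂ) := by
          intro j
          induction j with
          | zero => rw [pow_zero, hm, pow_zero, one_mul]
          | succ j ih => rw [pow_succ, hval, ih, pow_succ]; ring
        have h1 := hpos (orderOf k)
        rw [pow_orderOf_eq_one, hm] at h1
        have hzn : z ^ orderOf k = 1 := by
          have hm0 : (m : ℂ) ≠ 0 := by exact_mod_cast (show m ≠ 0 by omega)
          exact (mul_eq_right₀ hm0).1 h1.symm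
        rw [Complex.mul_conj', Complex.norm_eq_one_of_pow_eq_one hzn (orderOf_pos k).ne']
        simp
      simp only [hf]
      rw [hval, map_mul, mul_mul_mul_comm, hz1, one_mul]
    have hc : (Nat.card K : ℂ) ≠ 0 := Nat.cast_ne_zero.2 Nat.card_pos.ne'
    refine mul_left_cancel₀ hc ?_
    calc (Nat.card K : ℂ) * f y = ∑ k : K, f ((y : G) * k) := by
          rw [Finset.sum_congr rfl fun (k : K) _ => hfk (k : G) k.2, Finset.sum_const, Finset.card_univ, nsmul_eq_mul,
            Nat.card_eq_fintype_card]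
      _ = ∑ χ : IrrCharacter G, (b χ : ℂ) * ∑ k : K, (χ : G → ℂ) ((y : G) * k) := by
          simp only [hfsum, Finset.mul_sum]
          exact Finset.sum_comm
      _ = ∑ χ ∈ B0, (b χ : ℂ) * ((Nat.card K : ℂ) * (χ : G → ℂ) y) := by
          rw [hB0, Finset.sum_filter]
          refine Finset.sum_congr rfl fun χ _ => ?_
          split_ifs with hχ
          · rw [Finset.sum_congr rfl fun (k : K) _ => apply_mul hab hfree hM y.2 hy1 hχ (hmemK k k.2).1
              (hmemK k k.2).2, Finset.sum_const, Finset.card_univ, nsmul_eq_mul, Nat.card_eq_fintype_card]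
          · rw [ZStarSection.apply_average_eq_zero hM (pElem y.2) (K := K) (fun k hk => (hmemK k hk).1) hKcard
              (fun g _ k hk => by
                rw [Subgroup.mem_center_iff.1 (hKcen k hk) g, mul_assoc, mul_inv_cancel, mul_one]
                exact hk)
              (fun g hg hgr => ⟨⟨g, (hH (y : G) g).2 hg⟩,
                (hK0mem _).2 (by rwa [← Subgroup.orderOf_coe]), rfl⟩) hχ, mul_zero]
      _ = (Nat.card K : ℂ) * ∑ χ ∈ B0, (b χ : ℂ) * (χ : G → ℂ) y := by
          rw [Finset.mul_sum]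
          exact Finset.sum_congr rfl fun χ _ => by ring
  -- multiplicities of the restriction to `P`
  letI : CommGroup ↥(P : Subgroup G) :=
    { (inferInstance : Group ↥(P : Subgroup G)) with mul_comm := fun x y => hab.is_comm.comm x y }
  have hcardP : (Fintype.card ↥(P : Subgroup G) : ℂ) = (p : ℂ) := by
    rw [← Nat.card_eq_fintype_card, hP]
  have hp0 : (p : ℂ) ≠ 0 := Nat.cast_ne_zero.2 hp.out.ne_zero
  choose al hal using fun ψ : ↥(P : Subgroup G) →* ℂˣ =>
    classInner_isCharacter (isCharacter_comap (P : Subgroup G).subtype (isCharacter_of_isIrrCharacter φ.2))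
      (CharBasicDecomp.isCharacter_linear ψ)
  have hφP : ∀ x : ↥(P : Subgroup G), (φ : G → ℂ) x = ∑ ψ, (al ψ : ℂ) * (ψ x : ℂ) := by
    intro x
    simp only [← hal, classInner, Function.comp_apply, Subgroup.subtype_apply, mul_assoc, Finset.sum_mul,
      ← Finset.mul_sum]
    rw [Finset.sum_comm]
    have e0 : ∀ z : ↥(P : Subgroup G), ∑ ψ : ↥(P : Subgroup G) →* ℂˣ,
        (φ : G → ℂ) z * (conj (ψ z : ℂ) * (ψ x : ℂ)) = if x = z then (φ : G → ℂ) z * (p : ℂ) else 0 := by
      intro z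
      have e1 : ∀ ψ : ↥(P : Subgroup G) →* ℂˣ, conj (ψ z : ℂ) * (ψ x : ℂ) = (ψ (z⁻¹ * x) : ℂ) :=
        fun ψ => by rw [conj_apply, map_mul, Units.val_mul]
      rw [← Finset.mul_sum, Finset.sum_congr rfl fun ψ _ => e1 ψ, sum_dual]
      by_cases h : x = z
      · subst h; simp [hcardP]
      · rw [if_neg h, if_neg fun h' => h (inv_mul_eq_one.1 h').symm, mul_zero]
    rw [Finset.sum_congr rfl fun z _ => e0 z, Finset.sum_ite_eq, if_pos (Finset.mem_univ x), hP]
    field_simp
  have halm : ∑ ψ, al ψ = m := by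
    have h := hφP 1
    simp only [OneMemClass.coe_one, map_one, Units.val_one, mul_one, hm] at h
    exact_mod_cast h.symm
  set c : (↥(P : Subgroup G) →* ℂˣ) → ℕ := fun ρ => ∑ ψ, al ψ * al (ψ * ρ) with hc
  have hfP : ∀ x : ↥(P : Subgroup G), f x = ∑ ρ, (c ρ : ℂ) * (ρ x : ℂ) := by
    intro x
    simp only [hf, hφP, map_sum, map_mul, map_natCast]
    rw [Finset.sum_mul_sum, Finset.sum_comm]
    simp only [hc, Nat.cast_sum, Nat.cast_mul, Finset.sum_mul]
    conv_rhs => rw [Finset.sum_comm]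
    refine Finset.sum_congr rfl fun ψ _ => (Fintype.sum_equiv (Equiv.mulLeft ψ) _ _ fun ρ => ?_).symm
    rw [Equiv.coe_mulLeft, MonoidHom.mul_apply, Units.val_mul]
    have h1 : (ψ x : ℂ) * conj (ψ x : ℂ) = 1 := by
      rw [Complex.mul_conj', CharBasicDecomp.norm_linear ψ x]; simp
    linear_combination -((al ψ : ℂ) * (al (ψ * ρ) : ℂ) * (ρ x : ℂ)) * h1
  have hcsum : ∑ ρ, (c ρ : ℤ) = (m : ℤ) ^ 2 := by
    have h := hfP 1
    simp only [hf, OneMemClass.coe_one, map_one, Units.val_one, mul_one, hm, map_natCast] at h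
    have h' : ((∑ ρ, c ρ : ℕ) : ℂ) = ((m * m : ℕ) : ℂ) := by push_cast; exact h.symm
    rw [sq]
    exact_mod_cast (Nat.cast_injective h')
  have hc1 : (m : ℤ) ≤ (c 1 : ℤ) := by
    rw [← halm, hc]
    exact Int.ofNat_le.2 (Finset.sum_le_sum fun ψ _ => by
      rw [show ψ * 1 = ψ from mul_one ψ]
      exact Nat.le_mul_self (al ψ))
  -- the index of the centralizer is small
  have hem : e ≤ m := by
    obtain ⟨ψ₀, hψ₀, hpos⟩ : ∃ ψ₀, ψ₀ ≠ 1 ∧ 1 ≤ al ψ₀ := by
      by_contra hno
      push Not at hno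
      have hval : ∀ x : ↥(P : Subgroup G), (φ : G → ℂ) x = (al 1 : ℂ) := fun x => by
        rw [hφP x, Finset.sum_eq_single 1 (fun ψ _ hψ => by rw [Nat.lt_one_iff.1 (hno ψ hψ)]; simp) (by simp)]
        simp
      have h1 : (φ : G → ℂ) t = (φ : G → ℂ) 1 := (hval ⟨t, ht⟩).trans (hval 1).symm
      have := BlockIndexThree86.eq_one_of_apply_eq htK h1
      rw [this] at hm
      have : (m : ℂ) = ((1 : ℕ) : ℂ) := by rw [← hm]; simp [oneChar]
      have := Nat.cast_injective this
      omega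
    have hinv : ∀ n, al (act P ψ₀ n) = al ψ₀ := by
      intro n
      have h : classInner ((φ : G → ℂ) ∘ (P : Subgroup G).subtype) (fun x => (act P ψ₀ n x : ℂ)) =
          classInner ((φ : G → ℂ) ∘ (P : Subgroup G).subtype) (fun x => (ψ₀ x : ℂ)) := by
        simp only [classInner]
        congr 1
        refine Fintype.sum_equiv (conjP P n).toEquiv _ _ fun x => ?_
        simp only [Function.comp_apply, Subgroup.subtype_apply, MulEquiv.toEquiv_eq_coe, MulEquiv.coe_toEquiv,
          act_apply, conjP_coe]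
        rw [CharBasic.apply_eq_of_isConj (irr_classFun φ) (isConj_iff.2 ⟨(n : G), rfl⟩)]
      rw [hal, hal] at h
      exact_mod_cast h
    have hcard := card_orbit hab hfree e he.symm hψ₀
    rw [Nat.card_eq_fintype_card, Fintype.card_subtype] at hcard
    rw [← halm, ← hcard, Finset.card_eq_sum_ones]
    refine (Finset.sum_le_sum fun ψ hψ => ?_).trans (Finset.sum_le_univ_sum_of_nonneg fun _ => Nat.zero_le _)
    obtain ⟨n, rfl⟩ := (Finset.mem_filter.1 hψ).2
    rw [hinv]
    exact hpos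
  -- multiplicities in the principal block
  set Rs := Finset.univ.filter (fun ρ : ↥(P : Subgroup G) →* ℂˣ => ρ ≠ 1) with hRs
  have hRcard : Rs.card = p - 1 := card_nontrivial hP
  have hXB : B0 = X ∪ Y := by
    ext χ
    simp [hB0, hF.block χ]
  have hkey : ∀ ρ ∈ Rs, ∑ χ ∈ B0, (b χ : ℤ) * mult P χ ρ = (c ρ : ℤ) - (c 1 : ℤ) := by
    intro ρ hρ
    have h1 : ((∑ χ ∈ B0, (b χ : ℤ) * mult P χ ρ : ℤ) : ℂ) = (((c ρ : ℤ) - (c 1 : ℤ) : ℤ) : ℂ) := by
      push_cast
      simp only [← mult_spec, multC, hP]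
      rw [show (∑ χ ∈ B0, (b χ : ℂ) * ((p : ℂ)⁻¹ * ∑ y : ↥(P : Subgroup G),
          (χ : G → ℂ) y * (conj (ρ y : ℂ) - 1))) = (p : ℂ)⁻¹ * ∑ y : ↥(P : Subgroup G),
            f y * (conj (ρ y : ℂ) - 1) from ?_]
      · simp only [hfP, Finset.sum_mul, mul_assoc]
        rw [Finset.sum_comm]
        have e0 : ∀ σ : ↥(P : Subgroup G) →* ℂˣ, ∑ y : ↥(P : Subgroup G),
            (c σ : ℂ) * ((σ y : ℂ) * (conj (ρ y : ℂ) - 1)) =
            (c σ : ℂ) * ((if σ = ρ then (p : ℂ) else 0) - if σ = 1 then (p : ℂ) else 0) := by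
          intro σ
          rw [← Finset.mul_sum]
          simp only [mul_sub, mul_one, Finset.sum_sub_distrib, sum_mul_conj, hcardP]
          congr 1
          split_ifs with h
          · subst h; simp [hcardP]
          · rw [sum_apply_eq_zero h]
        rw [Finset.sum_congr rfl fun σ _ => e0 σ]
        simp only [mul_sub, mul_ite, mul_zero, Finset.sum_sub_distrib, Finset.sum_ite_eq',
          Finset.mem_univ, if_true]
        field_simp
      · rw [Finset.mul_sum]
        simp only [Finset.mul_sum]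
        rw [Finset.sum_comm]
        refine Finset.sum_congr rfl fun y _ => ?_
        rcases eq_or_ne y 1 with rfl | hy
        · simp
        rw [hfy y hy, Finset.sum_mul, Finset.mul_sum]
        exact Finset.sum_congr rfl fun χ _ => by ring
    exact_mod_cast h1
  have hmX : ∀ χ ∈ X, ∀ ρ ∈ Rs, mult P χ ρ = -a χ := by
    intro χ hχ ρ hρ
    have h1 : ((mult P χ ρ : ℤ) : ℂ) = ((-a χ : ℤ) : ℂ) := by
      rw [← mult_spec, multC, hP, Finset.sum_congr rfl (g := fun y => (a χ : ℂ) * (conj (ρ y : ℂ) - 1))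
        fun y _ => by
          rcases eq_or_ne y 1 with rfl | hy
          · simp
          · rw [(hF.valX χ hχ).2.2 y y.2 (coe_ne_one hy)],
        ← Finset.mul_sum, Finset.sum_sub_distrib, ← map_sum, sum_apply_eq_zero (Finset.mem_filter.1 hρ).2,
        map_zero, Finset.sum_const, Finset.card_univ, nsmul_one, hcardP]
      push_cast
      field_simp
      ring
    exact_mod_cast h1
  obtain ⟨η, hη⟩ : Y.Nonempty := Finset.card_pos.1 (by
    rw [hF.cardY]
    exact Nat.div_pos (by omega) (Nat.pos_of_ne_zero (he ▸ Subgroup.index_ne_zero_of_finite)))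
  have hdY : ∀ θ ∈ Y, (θ : G → ℂ) 1 = (η : G → ℂ) 1 := fun θ hθ =>
    hF.agree θ hθ η hη 1 (by rw [orderOf_one, Nat.dvd_one]; exact hp.out.ne_one)
  have hmY : ∀ ρ ∈ Rs, ∑ θ ∈ Y, mult P θ ρ = ε ∧ ∀ θ ∈ Y, mult P θ ρ ^ 2 = ε * mult P θ ρ := by
    intro ρ hρ
    have hρ1 := (Finset.mem_filter.1 hρ).2
    have hg := gram hab hfree hM e he.symm hρ1 hρ1
    rw [if_pos (sameOrbit_refl ρ), ← hB0, hXB, Finset.sum_union hF.disj,
      Finset.sum_congr rfl (g := fun _ => (1 : ℤ)) fun χ hχ => by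
        rw [hmX χ hχ ρ hρ]; rcases (hF.valX χ hχ).1 with h | h <;> simp [h],
      Finset.sum_const, nsmul_one, hF.cardX, add_right_inj] at hg
    have hr := sum_mult_mul_regular hab hfree hM (ψ := ρ) (g := 1)
      (by rw [orderOf_one, Nat.dvd_one]; exact hp.out.ne_one)
    rw [← hB0, hXB, Finset.sum_union hF.disj] at hr
    have hreg := hF.regular η hη 1 (by rw [orderOf_one, Nat.dvd_one]; exact hp.out.ne_one)
    rw [Finset.sum_congr rfl (g := fun χ => -((a χ : ℂ) * (χ : G → ℂ) 1)) fun χ hχ => by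
        rw [hmX χ hχ ρ hρ]; push_cast; ring,
      Finset.sum_neg_distrib, ← hreg,
      Finset.sum_congr rfl (g := fun θ => (mult P θ ρ : ℂ) * (η : G → ℂ) 1) fun θ hθ => by rw [hdY θ hθ],
      ← Finset.sum_mul] at hr
    have hη0 : (η : G → ℂ) 1 ≠ 0 := CharBasic.isIrrCharacter_apply_one_ne_zero η.2
    have hS : ∑ θ ∈ Y, mult P θ ρ = ε := by
      have h2 : ((∑ θ ∈ Y, mult P θ ρ : ℤ) : ℂ) = (ε : ℂ) := mul_right_cancel₀ hη0 (by
        push_cast; linear_combination hr)
      exact_mod_cast h2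
    refine ⟨hS, fun θ hθ => ?_⟩
    have hnn : ∀ z : ℤ, 0 ≤ z ^ 2 - ε * z := by
      intro z
      rcases hF.sign with h | h <;> subst h <;> rcases le_or_gt z 0 with hz | hz <;> nlinarith
    have h0 : ∑ θ ∈ Y, (mult P θ ρ ^ 2 - ε * mult P θ ρ) = 0 := by
      rw [Finset.sum_sub_distrib, ← Finset.mul_sum, hS, Finset.sum_congr rfl fun θ _ => sq (mult P θ ρ), hg]
      rcases hF.sign with h | h <;> subst h <;> norm_num
    exact sub_eq_zero.1 ((Finset.sum_eq_zero_iff_of_nonneg fun θ _ => hnn _).1 h0 θ hθ)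
  have hep : e < p := by omega
  have hS : ∀ θ ∈ Y, ∑ ρ ∈ Rs, mult P θ ρ = ε * e := by
    intro θ hθ
    set N : ℤ := ∑ ρ ∈ Rs, mult P θ ρ ^ 2 with hN
    have hSN : ∑ ρ ∈ Rs, mult P θ ρ = ε * N := by
      rw [hN, Finset.mul_sum]
      refine Finset.sum_congr rfl fun ρ hρ => ?_
      rw [(hmY ρ hρ).2 θ hθ, ← mul_assoc]
      rcases hF.sign with h | h <;> subst h <;> ring
    have hN1 : ∀ ρ ∈ Rs, mult P θ ρ ^ 2 ≤ 1 := by
      intro ρ hρ
      refine (Finset.single_le_sum (f := fun θ => mult P θ ρ ^ 2) (fun _ _ => sq_nonneg _) hθ).trans ?_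
      rw [Finset.sum_congr rfl fun θ hθ => (hmY ρ hρ).2 θ hθ, ← Finset.mul_sum, (hmY ρ hρ).1]
      rcases hF.sign with h | h <;> subst h <;> norm_num
    have hNp : N ≤ (p : ℤ) - 1 := by
      refine (Finset.sum_le_sum hN1).trans ?_
      rw [Finset.sum_const, hRcard, nsmul_one, Nat.cast_pred hp.out.pos]
    have hN0 : 0 ≤ N := Finset.sum_nonneg fun _ _ => sq_nonneg _
    have hall : ∑ ψ : ↥(P : Subgroup G) →* ℂˣ, mult P θ ψ = ε * N := by
      rw [← hSN, hRs, Finset.sum_filter_of_ne]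
      intro ψ _ h0 h1
      exact h0 (h1 ▸ mult_trivial θ)
    have hdeg := degree_congr hP θ (w := -(ε * N)) rfl (by
      rw [Finset.sum_congr rfl fun u hu => by rw [apply_eq_sum_mult hab θ (Finset.mem_erase.1 hu).1],
        ← map_sum, Finset.sum_comm, ← hall, Int.cast_neg, Int.cast_sum,
        Finset.sum_congr rfl (g := fun ψ : ↥(P : Subgroup G) →* ℂˣ => -(mult P θ ψ : ℂ)) fun ψ _ => by
          rcases eq_or_ne ψ 1 with rfl | hψ
          · simp [mult_trivial]
          · rw [← Finset.mul_sum, Finset.sum_erase_eq_sub (Finset.mem_univ _), sum_apply_eq_zero hψ, map_one,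
              Units.val_one, zero_sub, mul_neg_one],
        Finset.sum_neg_distrib, map_neg, map_sum, Finset.sum_congr rfl fun ψ _ => map_intCast _ _])
    rw [neg_neg] at hdeg
    have hcongr := hdeg.symm.trans (hF.degY θ hθ)
    have hNe : N ≡ (e : ℤ) [ZMOD p] := by
      have h := hcongr.mul_left ε
      rcases hF.sign with h' | h' <;> subst h' <;> simpa using h
    rw [hSN]
    congr 1
    have h1 : N % (p : ℤ) = N := Int.emod_eq_of_lt hN0 (by omega)
    have h2 : (e : ℤ) % (p : ℤ) = e := Int.emod_eq_of_lt (by positivity) (by exact_mod_cast hep)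
    rw [← h1, ← h2]
    exact hNe
  -- degrees
  set d : IrrCharacter G → ℤ := fun χ => (charDegree (χ : G → ℂ) : ℤ) with hd
  have hdc : ∀ χ : IrrCharacter G, (χ : G → ℂ) 1 = (d χ : ℂ) := fun χ => BlockIndexThree86.degree_one_eq χ
  have hdpos : ∀ χ : IrrCharacter G, 1 ≤ d χ := by
    intro χ
    have h0 : 0 ≤ d χ := Int.natCast_nonneg _
    have h1 : d χ ≠ 0 := fun h => CharBasic.isIrrCharacter_apply_one_ne_zero χ.2 (by rw [hdc, h, Int.cast_zero])
    omega
  have h1X : oneChar G ∈ X := by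
    rcases (hF.block _).1 (oneChar_mem hM) with h | h
    · exact h
    · exfalso
      have hd1 : (charDegree ((oneChar G : IrrCharacter G) : G → ℂ) : ℤ) = 1 := by
        simp [charDegree, oneChar]
      have hz := hmY
      obtain ⟨ρ, hρ⟩ : Rs.Nonempty := Finset.card_pos.1 (by rw [hRcard]; omega)
      have hm0 : mult P (oneChar G) ρ = -1 := mult_oneChar hab (Finset.mem_filter.1 hρ).2
      have hs := hS _ h
      rw [Finset.sum_congr rfl fun σ hσ => mult_oneChar hab (Finset.mem_filter.1 hσ).2, Finset.sum_const,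
        hRcard, nsmul_eq_mul, Nat.cast_pred hp.out.pos] at hs
      rcases hF.sign with h' | h' <;> subst h' <;> omega
  have ha1 : a (oneChar G) = 1 := by
    have h := (hF.valX _ h1X).2.2 t ht ht1
    have : (1 : ℂ) = (a (oneChar G) : ℂ) := by rw [← h]; simp [oneChar]
    exact_mod_cast this.symm
  set X1 := X.erase (oneChar G) with hX1
  set Sp : ℤ := ∑ χ ∈ X1, if a χ = 1 then (b χ : ℤ) else 0 with hSp
  set Sm : ℤ := ∑ χ ∈ X1, if a χ = 1 then 0 else (b χ : ℤ) with hSm
  set Z : ℤ := ∑ θ ∈ Y, (b θ : ℤ) with hZ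
  have hA : ∑ χ ∈ X, (b χ : ℤ) * a χ = 1 + Sp - Sm := by
    rw [← Finset.add_sum_erase _ _ h1X, ha1, hb1, ← hX1, hSp, hSm, add_sub_assoc, ← Finset.sum_sub_distrib]
    rw [Nat.cast_one, one_mul]
    congr 1
    refine Finset.sum_congr rfl fun χ hχ => ?_
    rcases (hF.valX χ (Finset.mem_erase.1 hχ).2).1 with h | h <;> rw [h] <;> norm_num
  have hdX : ∀ χ ∈ X1, (if a χ = 1 then (p : ℤ) + 1 else (p : ℤ) - 1) ≤ d χ := by
    intro χ hχ
    obtain ⟨hne, hχX⟩ := Finset.mem_erase.1 hχ
    obtain ⟨ha, hcg, hval⟩ := hF.valX χ hχX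
    have hpos := hdpos χ
    obtain ⟨q, hq⟩ := Int.modEq_iff_dvd.1 hcg.symm
    rcases ha with ha | ha <;> rw [ha] at hq
    · rw [if_pos ha]
      rcases le_or_gt q 0 with hq0 | hq0
      · exfalso
        have hd1 : d χ = 1 := by
          have : (p : ℤ) * q ≤ 0 := mul_nonpos_of_nonneg_of_nonpos (by positivity) hq0
          simp only [hd] at hpos ⊢
          omega
        refine hne (BlockIndexThree86.eq_one_of_apply_eq htK ?_)
        rw [hval t ht ht1, ha, hdc, hd1]
      · have : (p : ℤ) ≤ (p : ℤ) * q := le_mul_of_one_le_right (by positivity) hq0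
        simp only [hd]
        omega
    · rw [if_neg (by omega)]
      rcases le_or_gt q 0 with hq0 | hq0
      · exfalso
        have : (p : ℤ) * q ≤ 0 := mul_nonpos_of_nonneg_of_nonpos (by positivity) hq0
        simp only [hd] at hpos
        omega
      · have : (p : ℤ) ≤ (p : ℤ) * q := le_mul_of_one_le_right (by positivity) hq0
        simp only [hd]
        omega
  have hdY' : ∀ θ ∈ Y, (if ε = 1 then (e : ℤ) else (p : ℤ) - e) ≤ d θ := by
    intro θ hθ
    have hpos := hdpos θ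
    obtain ⟨q, hq⟩ := Int.modEq_iff_dvd.1 (hF.degY θ hθ).symm
    simp only [hd] at hpos ⊢
    rcases hF.sign with h | h <;> subst h
    · rw [if_pos rfl]
      rcases lt_or_ge q 0 with hq0 | hq0
      · exfalso
        have : (p : ℤ) * q ≤ -(p : ℤ) := by nlinarith
        omega
      · have : 0 ≤ (p : ℤ) * q := mul_nonneg (by positivity) hq0
        omega
    · rw [if_neg (by norm_num)]
      rcases le_or_gt q 0 with hq0 | hq0
      · exfalso
        have : (p : ℤ) * q ≤ 0 := mul_nonpos_of_nonneg_of_nonpos (by positivity) hq0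
        omega
      · have : (p : ℤ) ≤ (p : ℤ) * q := le_mul_of_one_le_right (by positivity) hq0
        omega
  have hdeg : ∑ χ ∈ B0, (b χ : ℤ) * d χ ≤ (m : ℤ) ^ 2 := by
    have h : ((∑ χ : IrrCharacter G, (b χ : ℤ) * d χ : ℤ) : ℂ) = (((m : ℤ) ^ 2 : ℤ) : ℂ) := by
      push_cast
      simp only [← hdc, ← hfsum, hf, hm, map_natCast, sq]
    rw [← (by exact_mod_cast h : ∑ χ : IrrCharacter G, (b χ : ℤ) * d χ = (m : ℤ) ^ 2)]
    exact Finset.sum_le_univ_sum_of_nonneg fun χ => mul_nonneg (Int.natCast_nonneg _) (Int.natCast_nonneg _)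
  have hsum : ∑ ρ ∈ Rs, ((c ρ : ℤ) - (c 1 : ℤ)) = (m : ℤ) ^ 2 - c 1 - ((p : ℤ) - 1) * c 1 := by
    rw [Finset.sum_sub_distrib, Finset.sum_const, hRcard, nsmul_eq_mul, Nat.cast_pred hp.out.pos, hRs,
      Finset.filter_ne', Finset.sum_erase_eq_sub (Finset.mem_univ _), hcsum]
  have heq : ε * (e : ℤ) * Z = (m : ℤ) ^ 2 - c 1 + ((p : ℤ) - 1) * (1 + Sp - Sm - c 1) := by
    rw [← Finset.sum_congr rfl hkey, Finset.sum_comm, hXB, Finset.sum_union hF.disj] at hsum
    simp only [← Finset.mul_sum] at hsum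
    rw [Finset.sum_congr rfl (g := fun χ => -((p : ℤ) - 1) * ((b χ : ℤ) * a χ)) fun χ hχ => by
        rw [Finset.sum_congr rfl fun ρ hρ => hmX χ hχ ρ hρ, Finset.sum_const, hRcard, nsmul_eq_mul,
          Nat.cast_pred hp.out.pos]
        ring,
      ← Finset.mul_sum, hA,
      Finset.sum_congr rfl (g := fun θ => ε * (e : ℤ) * (b θ : ℤ)) fun θ hθ => by rw [hS θ hθ]; ring,
      ← Finset.mul_sum, ← hZ] at hsum
    linear_combination hsum
  refine arith hF.sign (by omega : (2 : ℤ) ≤ (m : ℤ)) (by omega : 2 * (m : ℤ) + 2 ≤ (p : ℤ))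
    (Int.natCast_nonneg e) (by exact_mod_cast hem) hc1
    (Finset.sum_nonneg fun χ _ => by split_ifs <;> positivity)
    (Finset.sum_nonneg fun χ _ => by split_ifs <;> positivity)
    (Finset.sum_nonneg fun χ _ => by positivity) heq (le_trans ?_ hdeg)
  rw [hXB, Finset.sum_union hF.disj, ← Finset.add_sum_erase _ _ h1X, ← hX1, hb1,
    Finset.mul_sum, Finset.mul_sum, Finset.mul_sum, add_assoc (1 : ℤ), ← Finset.sum_add_distrib]
  refine add_le_add (add_le_add ?_ (Finset.sum_le_sum fun χ hχ => ?_)) (Finset.sum_le_sum fun θ hθ => ?_)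
  · rw [Nat.cast_one, one_mul]; exact hdpos _
  · have h := mul_le_mul_of_nonneg_left (hdX χ hχ) (Int.natCast_nonneg (b χ))
    split_ifs with ha <;> simp only [ha, if_true, if_false] at h <;> linarith
  · rw [mul_comm]
    exact mul_le_mul_of_nonneg_left (hdY' θ hθ) (Int.natCast_nonneg _)

end Cfsg.Agent.SmallFaithful86
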