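import Mathlib
import Cfsg.Prelude.Def_Local
import Cfsg.Agent.Lib.HallCore
import Cfsg.Agent.Lib.HallSolvable
import Cfsg.Agent.Lib.CoprimeAction

/-!
Groups with fewer than `p²` Sylow `p`-subgroups.

* `card_sylow_of_simple`: in a nonabelian simple group of order divisible by `p`, such a Sylow
  `p`-subgroup has order `p`.
* `card_split`: `n_p(G) = n_p(G/M) · |M : N_M(P)|`.
* `prime_power_part`: `|M : C_M(P)|` has each prime part congruent to `1` modulo `p` for a normal
  `p'`-subgroup `M`.
-/

set_option autoImplicit false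
set_option linter.all false

open Subgroup

namespace Cfsg.Agent.SmallSylow57

variable {G : Type*} [Group G] [Finite G] {p : ℕ} [hp : Fact p.Prime]

theorem relIndex_inter (hn : Nat.card (Sylow p G) < p ^ 2) {P Q : Sylow p G} (hne : P ≠ Q) :
    ((P : Subgroup G) ⊓ (Q : Subgroup G)).relIndex (P : Subgroup G) = p := by
  classical
  have hst : MulAction.stabilizer (P : Subgroup G) Q =
      ((P : Subgroup G) ⊓ (Q : Subgroup G)).subgroupOf (P : Subgroup G) := by
    ext ⟨x, hx⟩
    simp only [MulAction.mem_stabilizer_iff, mem_subgroupOf, mem_inf]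
    rw [Subgroup.smul_def, Sylow.smul_eq_iff_mem_normalizer]
    constructor
    · intro h
      exact ⟨hx, ((P.2.inf_normalizer_sylow Q).le ⟨hx, h⟩).2⟩
    · intro h
      exact le_normalizer h.2
  have h1 := MulAction.index_stabilizer (↥(P : Subgroup G)) Q
  rw [hst] at h1
  set r := ((P : Subgroup G) ⊓ (Q : Subgroup G)).relIndex (P : Subgroup G) with hr
  change r = _ at h1
  obtain ⟨k, hk⟩ : ∃ k, r = p ^ k := P.2.index _
  have hle : r ≤ Nat.card (Sylow p G) := by
    rw [h1, ← Nat.card_coe_set_eq]
    exact Nat.card_le_card_of_injective _ Subtype.coe_injective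
  have h1r : r ≠ 1 := by
    intro h
    have hPQ : (P : Subgroup G) ≤ (Q : Subgroup G) := (relIndex_eq_one.1 h).trans inf_le_right
    exact hne (Sylow.ext (P.is_maximal' Q.2 hPQ).symm)
  rcases k with _ | _ | k
  · simp [hk] at h1r
  · simpa using hk
  · have : p ^ 2 ≤ p ^ (k + 1 + 1) := Nat.pow_le_pow_right hp.out.pos (by omega)
    rw [hk] at hle
    omega

theorem inter_normal (hn : Nat.card (Sylow p G) < p ^ 2) {P Q : Sylow p G} (hne : P ≠ Q) {x : G}
    (hx : x ∈ (P : Subgroup G)) :
    x ∈ normalizer (((P : Subgroup G) ⊓ (Q : Subgroup G) : Subgroup G) : Set G) := by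
  set E := ((P : Subgroup G) ⊓ (Q : Subgroup G)).subgroupOf (P : Subgroup G) with hE
  have hidx : E.index = p := relIndex_inter hn hne
  haveI : E.Normal := by
    apply normal_of_index_eq_minFac_card
    obtain ⟨k, hk⟩ := IsPGroup.iff_card.1 P.2
    have hk0 : k ≠ 0 := by
      rintro rfl
      have := E.index_dvd_card
      rw [hidx, hk, pow_zero] at this
      exact hp.out.not_dvd_one this
    rw [hidx, hk, Nat.pow_minFac hk0, hp.out.minFac_eq]
  exact (normal_subgroupOf_iff_le_normalizer inf_le_left).1 inferInstance hx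

theorem inter_le (hn : Nat.card (Sylow p G) < p ^ 2) {P Q : Sylow p G} (hne : P ≠ Q)
    (R : Sylow p G) : (P : Subgroup G) ⊓ (Q : Subgroup G) ≤ (R : Subgroup G) := by
  classical
  by_contra hD
  haveI := Fintype.ofFinite (Sylow p G)
  set D := (P : Subgroup G) ⊓ (Q : Subgroup G) with hDdef
  let B : Finset (Sylow p G) := Finset.univ.filter fun X => D ≤ (X : Subgroup G)
  let f : Sylow p G → Subgroup G := fun X => (R : Subgroup G) ⊓ (X : Subgroup G)
  -- the conjugates of `Q` under `P` and `P` itself contain `D`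
  have hB : p + 1 ≤ B.card := by
    have h1 : (insert P (Finset.univ.filter fun X => X ∈ MulAction.orbit (P : Subgroup G) Q)) ⊆ B := by
      intro X hX
      simp only [Finset.mem_insert, Finset.mem_filter, Finset.mem_univ, true_and] at hX
      simp only [B, Finset.mem_filter, Finset.mem_univ, true_and]
      rcases hX with rfl | ⟨⟨x, hx⟩, rfl⟩
      · exact inf_le_left
      · intro d hd
        show d ∈ (((⟨x, hx⟩ : (P : Subgroup G)) • Q : Sylow p G) : Subgroup G)
        rw [Subgroup.smul_def, Sylow.coe_subgroup_smul]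
        refine ⟨x⁻¹ * d * x, ?_, by simp [MulAut.smul_def, mul_assoc]⟩
        exact ((mem_normalizer_iff''.1 (inter_normal hn hne hx) d).1 hd).2
    refine le_trans ?_ (Finset.card_le_card h1)
    have hnot : P ∉ Finset.univ.filter fun X => X ∈ MulAction.orbit (P : Subgroup G) Q := by
      simp only [Finset.mem_filter, Finset.mem_univ, true_and]
      rintro ⟨⟨x, hx⟩, h⟩
      apply hne
      have h2 : (⟨x, hx⟩ : (P : Subgroup G))⁻¹ • P = Q := by rw [inv_smul_eq_iff]; exact h.symm
      rw [← h2, Subgroup.smul_def]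
      exact (Sylow.smul_eq_iff_mem_normalizer.2 (le_normalizer (inv_mem hx))).symm
    rw [Finset.card_insert_of_notMem hnot, add_le_add_iff_right]
    have h3 := MulAction.index_stabilizer (↥(P : Subgroup G)) Q
    have h4 : MulAction.stabilizer (P : Subgroup G) Q =
        ((P : Subgroup G) ⊓ (Q : Subgroup G)).subgroupOf (P : Subgroup G) := by
      ext ⟨x, hx⟩
      simp only [MulAction.mem_stabilizer_iff, mem_subgroupOf, mem_inf]
      rw [Subgroup.smul_def, Sylow.smul_eq_iff_mem_normalizer]
      exact ⟨fun h => ⟨hx, ((P.2.inf_normalizer_sylow Q).le ⟨hx, h⟩).2⟩, fun h => le_normalizer h.2⟩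
    rw [h4] at h3
    change ((P : Subgroup G) ⊓ (Q : Subgroup G)).relIndex (P : Subgroup G) = _ at h3
    rw [relIndex_inter hn hne, Set.ncard_eq_toFinset_card'] at h3
    refine h3.le.trans (le_of_eq (congrArg Finset.card ?_))
    ext; simp
  -- two members of `B` meet `R` in different subgroups
  have hcardE : ∀ X, X ≠ R → p * Nat.card (f X) = Nat.card (R : Subgroup G) := fun X hX => by
    have h1 := card_mul_index ((f X).subgroupOf (R : Subgroup G))
    change _ * (f X).relIndex _ = _ at h1
    rw [relIndex_inter hn (Ne.symm hX),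
      Nat.card_congr (subgroupOfEquivOfLe (inf_le_left : f X ≤ _)).toEquiv] at h1
    rw [mul_comm]
    exact h1
  have hne' : ∀ X ∈ B, X ≠ R := by
    intro X hX h
    simp only [B, Finset.mem_filter, Finset.mem_univ, true_and] at hX
    exact hD (h ▸ hX)
  have hinj : Set.InjOn f (B : Set (Sylow p G)) := by
    intro X hX Y hY hXY
    by_contra hXY'
    have hXB := (Finset.mem_coe.1 hX)
    have hYB := (Finset.mem_coe.1 hY)
    simp only [B, Finset.mem_filter, Finset.mem_univ, true_and] at hXB hYB
    have hle : f X ≤ (X : Subgroup G) ⊓ (Y : Subgroup G) :=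
      le_inf inf_le_right (hXY.le.trans inf_le_right)
    have hc : Nat.card ↥((X : Subgroup G) ⊓ (Y : Subgroup G)) = Nat.card (f X) := by
      have h1 := card_mul_index (((X : Subgroup G) ⊓ (Y : Subgroup G)).subgroupOf (X : Subgroup G))
      change _ * ((X : Subgroup G) ⊓ (Y : Subgroup G)).relIndex _ = _ at h1
      rw [relIndex_inter hn hXY', Nat.card_congr (subgroupOfEquivOfLe inf_le_left).toEquiv] at h1
      have h2 := hcardE X (hne' X hX)
      rw [Nat.card_congr (Sylow.equiv R X).toEquiv, ← h1, mul_comm] at h2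
      exact (Nat.eq_of_mul_eq_mul_right hp.out.pos h2).symm
    have he : f X = (X : Subgroup G) ⊓ (Y : Subgroup G) := eq_of_le_of_card_ge hle hc.le
    exact hD ((le_inf hXB hYB).trans (he.ge.trans inf_le_left))
  -- each value of `f` is taken at least `p` times
  have hcount : p * B.card ≤ (Finset.univ.erase R).card := by
    rw [← Finset.card_image_of_injOn hinj]
    refine le_trans (Nat.mul_le_mul_left p (Finset.card_le_card (t := (Finset.univ.erase R).image f) ?_))
      (Finset.mul_card_image_le_card _ p fun E hE => ?_)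
    · exact Finset.image_subset_image fun X hX => Finset.mem_erase.2 ⟨hne' X hX, Finset.mem_univ X⟩
    · simp only [Finset.mem_image, Finset.mem_erase, Finset.mem_univ, and_true] at hE
      obtain ⟨X, hX, rfl⟩ := hE
      have h3 := MulAction.index_stabilizer (↥(R : Subgroup G)) X
      have h4 : MulAction.stabilizer (R : Subgroup G) X =
          ((R : Subgroup G) ⊓ (X : Subgroup G)).subgroupOf (R : Subgroup G) := by
        ext ⟨x, hx⟩
        simp only [MulAction.mem_stabilizer_iff, mem_subgroupOf, mem_inf]
        rw [Subgroup.smul_def, Sylow.smul_eq_iff_mem_normalizer]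
        exact ⟨fun h => ⟨hx, ((R.2.inf_normalizer_sylow X).le ⟨hx, h⟩).2⟩, fun h => le_normalizer h.2⟩
      rw [h4] at h3
      change ((R : Subgroup G) ⊓ (X : Subgroup G)).relIndex (R : Subgroup G) = _ at h3
      rw [relIndex_inter hn (Ne.symm hX), Set.ncard_eq_toFinset_card'] at h3
      refine h3.le.trans (Finset.card_le_card fun Y hY => ?_)
      simp only [Set.mem_toFinset] at hY
      obtain ⟨⟨x, hx⟩, rfl⟩ := hY
      simp only [Finset.mem_filter, Finset.mem_erase, Finset.mem_univ, and_true]
      refine ⟨fun h => hX ?_, ?_⟩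
      · rw [Subgroup.smul_def, smul_eq_iff_eq_inv_smul] at h
        rw [h]
        exact Sylow.smul_eq_iff_mem_normalizer.2 (le_normalizer (inv_mem hx))
      · have hN := inter_normal hn (Ne.symm hX) hx
        ext y
        simp only [f, Subgroup.smul_def, Sylow.coe_subgroup_smul, mem_inf]
        constructor
        · rintro ⟨hyR, z, hz, rfl⟩
          have hzR : z ∈ (R : Subgroup G) := by
            have := mul_mem (mul_mem (inv_mem hx) hyR) hx
            simpa [MulAut.smul_def, mul_assoc] using this
          have := (mem_normalizer_iff.1 hN z).1 ⟨hzR, hz⟩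
          refine ⟨hyR, ?_⟩
          show x * z * x⁻¹ ∈ (X : Subgroup G)
          exact this.2
        · rintro ⟨hyR, hyX⟩
          refine ⟨hyR, x⁻¹ * y * x, ?_, by simp [MulAut.smul_def, mul_assoc]⟩
          exact ((mem_normalizer_iff''.1 hN y).1 ⟨hyR, hyX⟩).2
  rw [Finset.card_erase_of_mem (Finset.mem_univ R), Finset.card_univ, ← Nat.card_eq_fintype_card]
    at hcount
  have : p * (p + 1) ≤ p * B.card := Nat.mul_le_mul_left p hB
  rw [Nat.mul_add, mul_one, ← sq] at this
  omega

theorem card_sylow_of_simple [IsSimpleGroup G] (hG : ¬ IsMulCommutative G) (hdvd : p ∣ Nat.card G)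
    (hn : Nat.card (Sylow p G) < p ^ 2) (P : Sylow p G) : Nat.card (P : Subgroup G) = p := by
  classical
  have hnP : ¬ (P : Subgroup G).Normal := fun h => by
    rcases h.eq_bot_or_eq_top with h | h
    · exact P.ne_bot_of_dvd_card hdvd h
    · apply hG
      have hp' : IsPGroup p G := by
        have := P.2
        rw [h] at this
        exact this.of_equiv topEquiv
      haveI : Nontrivial (center G) := hp'.center_nontrivial
      rcases (inferInstance : (center G).Normal).eq_bot_or_eq_top with hc | hc
      · exact absurd hc ((nontrivial_iff_ne_bot _).1 inferInstance)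
      · exact ⟨⟨fun a b => mem_center_iff.1 (hc ▸ mem_top b) a⟩⟩
  obtain ⟨Q, hQ⟩ : ∃ Q : Sylow p G, P ≠ Q := by
    by_contra hall
    push Not at hall
    haveI : Subsingleton (Sylow p G) := ⟨fun a b => (hall a).symm.trans (hall b)⟩
    exact hnP P.normal_of_subsingleton
  set D := (P : Subgroup G) ⊓ (Q : Subgroup G)
  by_cases hD : D = ⊥
  · have h1 := relIndex_inter hn hQ
    change D.relIndex _ = p at h1
    rwa [hD, relIndex_bot_left] at h1
  exfalso
  rcases (normalClosure_normal (s := (D : Set G))).eq_bot_or_eq_top with h | h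
  · exact hD (le_bot_iff.1 ((subset_normalClosure).trans h.le))
  · apply hnP
    have h2 : normalClosure (D : Set G) ≤ (P : Subgroup G) := by
      rw [normalClosure, closure_le]
      intro y hy
      obtain ⟨d, hd, hc⟩ := Group.mem_conjugatesOfSet_iff.1 hy
      obtain ⟨g, rfl⟩ := isConj_iff.1 hc
      have := inter_le hn hQ (g⁻¹ • P) hd
      rw [Sylow.coe_subgroup_smul] at this
      obtain ⟨z, hz, hzd⟩ := this
      have he : g * d * g⁻¹ = z := by
        rw [← hzd]; simp [MulAut.smul_def, mul_assoc]
      rw [he]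
      exact hz
    rw [h, top_le_iff] at h2
    rw [h2]
    infer_instance

/-- `n_p(G) = n_p(G/M) · |M : N_M(P)|`. -/
theorem card_split (M : Subgroup G) [M.Normal] (P : Sylow p G) :
    Nat.card (Sylow p G) = Nat.card (Sylow p (G ⧸ M)) *
      (normalizer ((P : Subgroup G) : Set G)).relIndex M := by
  set N := normalizer ((P : Subgroup G) : Set G)
  set π := QuotientGroup.mk' M
  have hπ : Function.Surjective π := QuotientGroup.mk'_surjective M
  have hmap : N.map π = normalizer ((P.mapSurjective hπ : Subgroup (G ⧸ M)) : Set (G ⧸ M)) := by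
    refine le_antisymm ?_ ?_
    · rw [Sylow.coe_mapSurjective]
      exact le_normalizer_map π
    · intro y hy
      obtain ⟨g, rfl⟩ := hπ y
      set K := ((P : Subgroup G).map π).comap π
      have hPK : (P : Subgroup G) ≤ K := le_comap_map _ _
      have hgP : ((g • P : Sylow p G) : Subgroup G) ≤ K := by
        rintro _ ⟨z, hz, rfl⟩
        show π (MulAut.conj g • z) ∈ (P : Subgroup G).map π
        have := (mem_normalizer_iff.1 hy (π z)).1 (mem_map_of_mem π hz)
        simpa [MulAut.smul_def, map_mul, map_inv] using this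
      obtain ⟨k, hk⟩ := MulAction.exists_smul_eq K ((g • P).subtype hgP) (P.subtype hPK)
      rw [Sylow.smul_subtype] at hk
      have hk' : (k : G) • g • P = P := Sylow.subtype_injective hk
      rw [smul_smul, Sylow.smul_eq_iff_mem_normalizer] at hk'
      obtain ⟨z, hz, hzk⟩ := mem_comap.1 k.2
      have he : π g = (π z)⁻¹ * π ((k : G) * g) := by rw [hzk, map_mul, inv_mul_cancel_left]
      rw [he]
      exact mul_mem (inv_mem (mem_map_of_mem π (le_normalizer hz))) (mem_map_of_mem π hk')
  rw [P.card_eq_index_normalizer, (P.mapSurjective hπ).card_eq_index_normalizer]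
  change N.index = (normalizer ((P.mapSurjective hπ : Subgroup (G ⧸ M)) : Set (G ⧸ M))).index * _
  rw [← hmap, index_map, MonoidHom.range_eq_top.2 hπ, index_top, mul_one, QuotientGroup.ker_mk',
    ← relIndex_mul_index (le_sup_left : N ≤ N ⊔ M), mul_comm]
  congr 1
  refine Nat.eq_of_mul_eq_mul_left (Nat.pos_of_ne_zero (HallSolvable.relIndex_ne_zero' M N)) ?_
  have hr : (N ⊓ M).relIndex N = M.relIndex N := inf_relIndex_left _ _
  have hs : (N ⊓ M).relIndex M = N.relIndex M := inf_relIndex_right _ _
  have h1 := relIndex_mul_relIndex (N ⊓ M) N (N ⊔ M) inf_le_left le_sup_left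
  have h2 := relIndex_mul_relIndex (N ⊓ M) M (N ⊔ M) inf_le_right le_sup_right
  rw [hr] at h1
  rw [hs, sup_comm, relIndex_sup_left] at h2
  rw [h1, sup_comm, ← h2, mul_comm]

/-- The `q`-part of `|M : C_M(P)|` is `1` modulo `p`. -/
theorem prime_power_part (M : Subgroup G) [M.Normal] (hM : (Nat.card M).Coprime p) (P : Sylow p G)
    {q : ℕ} [Fact q.Prime] :
    q ^ (((centralizer ((P : Subgroup G) : Set G)).relIndex M).factorization q) ≡ 1 [MOD p] := by
  classical
  set A := (P : Subgroup G)
  set C := M ⊓ centralizer (A : Set G)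
  have hAM : A ≤ normalizer (M : Set G) := by rw [normalizer_eq_top M]; exact le_top
  have hcop : (Nat.card A).Coprime (Nat.card M) := by
    obtain ⟨k, hk⟩ := IsPGroup.iff_card.1 P.2
    rw [hk]
    exact (Nat.Coprime.pow_left k hM.symm)
  haveI : Group.IsNilpotent A := P.2.isNilpotent
  have hsolv : Group.IsSolvable A ∨ Group.IsSolvable M := Or.inl inferInstance
  obtain ⟨U0⟩ : Nonempty (Sylow q C) := inferInstance
  set U := (U0 : Subgroup C).map C.subtype
  have hUC : U ≤ C := map_subtype_le _
  have hUA : A ≤ normalizer (U : Set G) := by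
    intro a ha
    rw [mem_normalizer_iff]
    intro h
    have hcomm : ∀ {u : G}, u ∈ U → a * u = u * a := fun hu =>
      mem_centralizer_iff.1 (hUC hu).2 a ha
    constructor
    · intro hu
      rw [hcomm hu, mul_inv_cancel_right]
      exact hu
    · intro hu
      have h1 := hcomm hu
      have h2 : a * h * a⁻¹ = h := by
        calc a * h * a⁻¹ = a⁻¹ * (a * (a * h * a⁻¹)) := by group
          _ = a⁻¹ * ((a * h * a⁻¹) * a) := by rw [h1]
          _ = h := by group
      rwa [h2] at hu
  obtain ⟨Q, hUQ, hAQ⟩ := CoprimeAction.exists_invariant_sylow_ge (p := q) hAM hcop hsolv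
    (hUC.trans inf_le_left) (U0.2.map _) hUA
  set Q' := (Q : Subgroup M).map M.subtype
  have hQM : Q' ≤ M := map_subtype_le _
  have hfix : Q' ⊓ centralizer (A : Set G) = U := by
    refine (eq_of_le_of_card_ge (le_inf hUQ (hUC.trans inf_le_right)) ?_).symm
    have hle : Q' ⊓ centralizer (A : Set G) ≤ C := inf_le_inf_right _ hQM
    have hpg : IsPGroup q ↥(Q' ⊓ centralizer (A : Set G)) := (Q.2.map _).to_le inf_le_left
    obtain ⟨R, hR⟩ := IsPGroup.exists_le_sylow
      (hpg.of_equiv (subgroupOfEquivOfLe hle).symm : IsPGroup q ((Q' ⊓ centralizer (A : Set G)).subgroupOf C))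
    calc Nat.card ↥(Q' ⊓ centralizer (A : Set G))
        = Nat.card ((Q' ⊓ centralizer (A : Set G)).subgroupOf C) :=
          Nat.card_congr (subgroupOfEquivOfLe hle).symm.toEquiv
      _ ≤ Nat.card (R : Subgroup C) := card_le_of_le hR
      _ = Nat.card (U0 : Subgroup C) := by rw [R.card_eq_multiplicity, U0.card_eq_multiplicity]
      _ = Nat.card U := (card_map_of_injective C.subtype_injective).symm
  letI : MulAction A Q' :=
    { smul := fun a x => ⟨(a : G) * x * (a : G)⁻¹, (mem_normalizer_iff.1 (hAQ a.2) _).1 x.2⟩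
      one_smul := fun x => Subtype.ext (show (((1 : A) : G)) * x * (((1 : A) : G))⁻¹ = x by simp)
      mul_smul := fun a b x => Subtype.ext
        (show ((a * b : A) : G) * x * (((a * b : A) : G))⁻¹ = (a : G) * ((b : G) * x * (b : G)⁻¹) * (a : G)⁻¹ by
          rw [Subgroup.coe_mul]; group) }
  have hsm : ∀ (a : A) (x : Q'), ((a • x : Q') : G) = (a : G) * x * (a : G)⁻¹ := fun _ _ => rfl
  have h1 := P.2.card_modEq_card_fixedPoints Q'
  have h2 : Nat.card (MulAction.fixedPoints A Q') = Nat.card U := by
    refine Nat.card_congr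
      { toFun := fun x => ⟨((x : Q') : G), hfix.le ⟨(x : Q').2, mem_centralizer_iff.2 fun a ha => ?_⟩⟩
        invFun := fun x => ⟨⟨x, (hfix.ge x.2).1⟩, fun a => Subtype.ext ?_⟩
        left_inv := fun _ => rfl
        right_inv := fun _ => rfl }
    · exact mul_inv_eq_iff_eq_mul.1 ((hsm ⟨a, ha⟩ x.1).symm.trans (congrArg Subtype.val (x.2 ⟨a, ha⟩)))
    · rw [hsm]
      exact mul_inv_eq_iff_eq_mul.2 (mem_centralizer_iff.1 (hfix.ge x.2).2 a a.2)
  rw [h2, card_map_of_injective M.subtype_injective, Q.card_eq_multiplicity,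
    card_map_of_injective C.subtype_injective, U0.card_eq_multiplicity] at h1
  set r := (centralizer (A : Set G)).relIndex M
  have hCr : Nat.card C * r = Nat.card M := by
    have := card_mul_index ((centralizer (A : Set G)).subgroupOf M)
    rw [Nat.card_congr (?_ : _ ≃ C)] at this
    · exact this
    · exact
        { toFun := fun x => ⟨((x : M) : G), (x : M).2, x.2⟩
          invFun := fun x => ⟨⟨x, x.2.1⟩, x.2.2⟩
          left_inv := fun _ => rfl
          right_inv := fun _ => rfl }
  have hr0 : r ≠ 0 := fun h => Nat.card_pos.ne' (hCr.symm.trans (by rw [h, mul_zero]))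
  rw [← hCr, Nat.factorization_mul Nat.card_pos.ne' hr0, Finsupp.add_apply, pow_add] at h1
  have hg : p.gcd (q ^ (Nat.card C).factorization q) = 1 :=
    (hM.symm.coprime_dvd_right ((Nat.ordProj_dvd _ _).trans (card_dvd_of_le inf_le_left)))
  have h3 : q ^ (Nat.card C).factorization q * q ^ r.factorization q ≡
      q ^ (Nat.card C).factorization q * 1 [MOD p] := by rwa [mul_one]
  exact Nat.ModEq.cancel_left_of_coprime hg h3

end Cfsg.Agent.SmallSylow57
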