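import Cfsg.Agent.Lib.MinNormalFactors

/-!
Coordinates on a non-abelian minimal normal subgroup and its subdirect subgroups.
-/

set_option autoImplicit false

namespace Cfsg.Agent.SocleDiag69

open Cfsg.Agent.MinNormalFactors

variable {G : Type*} [Group G] [Finite G] {N : Subgroup G}

/-- the set of factors, as a type -/
abbrev Fac (N : Subgroup G) : Type _ := {T : Subgroup G // IsFactor N T}

section coords

variable (hN : IsMNS N) (hab : ¬ IsMulCommutative N)

include hab in
/-- coordinate projection of `N` on a factor -/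
theorem exists_proj (hN : IsMNS N) (T : Fac N) :
    ∃ f : N →* (T.1 : Subgroup G), ∀ (n : N) (t : G) (c : G), t ∈ T.1 →
      c ∈ Subgroup.centralizer (T.1 : Set G) → (n : G) = t * c → (f n : G) = t := by
  classical
  have hd : ∀ n : N, ∃ t : (T.1 : Subgroup G), ∃ c ∈ N ⊓ Subgroup.centralizer (T.1 : Set G),
      (n : G) = t * c := by
    intro n
    obtain ⟨t, ht, c, hc, h⟩ := decomp hN T.2 n.2
    exact ⟨⟨t, ht⟩, c, hc, h⟩
  choose f c hc hf using hd
  have huniq : ∀ (n : N) (t : G) (c' : G), t ∈ T.1 →
      c' ∈ Subgroup.centralizer (T.1 : Set G) → (n : G) = t * c' → (f n : G) = t := by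
    intro n t c' ht hc' h
    exact (decomp_unique hN hab T.2 (f n).2 ht (hc n).2 hc' ((hf n).symm.trans h)).1
  refine ⟨MonoidHom.mk' f fun a b => ?_, huniq⟩
  apply Subtype.ext
  refine huniq (a * b) _ (c a * c b) (T.1.mul_mem (f a).2 (f b).2)
    ((Subgroup.centralizer (T.1 : Set G)).mul_mem (hc a).2 (hc b).2) ?_
  have e : c a * (f b : G) = (f b : G) * c a :=
    (Subgroup.mem_centralizer_iff.1 (hc a).2 _ (f b).2).symm
  rw [Subgroup.coe_mul, hf a, hf b]
  calc (f a : G) * c a * ((f b : G) * c b) = (f a : G) * (c a * (f b : G)) * c b := by group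
    _ = _ := by rw [e, Subgroup.coe_mul]; group

/-- coordinate projection of `N` on a factor -/
noncomputable def proj (T : Fac N) : N →* (T.1 : Subgroup G) := (exists_proj hab hN T).choose

theorem proj_eq (T : Fac N) {n : N} {t c : G} (ht : t ∈ T.1)
    (hc : c ∈ Subgroup.centralizer (T.1 : Set G)) (h : (n : G) = t * c) :
    (proj hN hab T n : G) = t :=
  (exists_proj hab hN T).choose_spec n t c ht hc h

theorem proj_self (T : Fac N) (t : (T.1 : Subgroup G)) :
    proj hN hab T ⟨t, T.2.le t.2⟩ = t :=
  Subtype.ext (proj_eq hN hab T t.2 (Subgroup.one_mem _) (by simp))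

theorem proj_other {T U : Fac N} (h : U ≠ T) (u : (U.1 : Subgroup G)) :
    proj hN hab T ⟨u, U.2.le u.2⟩ = 1 := by
  refine Subtype.ext (proj_eq hN hab T T.1.one_mem (c := (u : G)) ?_ (by simp))
  exact Subgroup.mem_centralizer_iff.2 fun t ht =>
    (T.2.commute U.2 (fun e => h (Subtype.ext e.symm)) ht u.2).eq

theorem proj_ext {n m : N} (h : ∀ T : Fac N, proj hN hab T n = proj hN hab T m) : n = m := by
  rw [← mul_inv_eq_one]
  set d := n * m⁻¹
  have hd : ∀ T : Fac N, proj hN hab T d = 1 := fun T => by simp [d, h T]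
  obtain ⟨T₀, -, hT₀⟩ := exists_isFactor_le N le_rfl hN.ne_bot Subgroup.le_normalizer
  have hcen : ∀ U : Fac N, ∀ x ∈ U.1, x * (d : G) = (d : G) * x := by
    intro U x hx
    obtain ⟨t, ht, c, hc, e⟩ := decomp hN U.2 d.2
    have h1 := proj_eq hN hab U ht hc.2 e
    rw [hd U] at h1
    rw [← h1, Subgroup.coe_one, one_mul] at e
    rw [e]
    exact Subgroup.mem_centralizer_iff.1 hc.2 x hx
  have hN' : N ≤ Subgroup.centralizer {(d : G)} := by
    conv_lhs => rw [← iSup_conj_eq hN hT₀]
    refine iSup_le fun g x hx => Subgroup.mem_centralizer_iff.2 ?_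
    rintro _ rfl
    exact (hcen ⟨_, hT₀.conj hN.normal g⟩ x hx).symm
  have : (d : G) ∈ N ⊓ Subgroup.centralizer (N : Set G) :=
    ⟨d.2, Subgroup.mem_centralizer_iff.2 fun x hx =>
      (Subgroup.mem_centralizer_iff.1 (hN' hx) _ rfl).symm⟩
  rw [center_trivial hN hab, Subgroup.mem_bot] at this
  exact Subtype.ext this

theorem exists_proj_eq (f : (T : Fac N) → (T.1 : Subgroup G)) :
    ∃ n : N, ∀ T, proj hN hab T n = f T := by
  classical
  have := Fintype.ofFinite (Fac N)
  have key : ∀ S : Finset (Fac N), ∃ n : N,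
      ∀ T, proj hN hab T n = if T ∈ S then f T else 1 := by
    intro S
    induction S using Finset.induction_on with
    | empty => exact ⟨1, fun T => by simp⟩
    | insert U S hU ih =>
      obtain ⟨n, hn⟩ := ih
      refine ⟨⟨f U, U.2.le (f U).2⟩ * n, fun T => ?_⟩
      rw [map_mul, hn T]
      by_cases hTU : T = U
      · subst hTU
        rw [if_neg hU, if_pos (Finset.mem_insert_self _ _), proj_self, mul_one]
      · rw [proj_other hN hab (Ne.symm hTU), one_mul]
        simp [Finset.mem_insert, hTU]
  obtain ⟨n, hn⟩ := key Finset.univ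
  exact ⟨n, fun T => by simpa using hn T⟩

/-- the image of a factor under conjugation -/
def conjFac (g : G) (T : Fac N) : Fac N := ⟨conjSub g T.1, T.2.conj hN.normal g⟩

theorem conjFac_bijective (g : G) : Function.Bijective (conjFac hN g) := by
  refine ⟨fun T U h => ?_, fun T => ⟨conjFac hN g⁻¹ T, ?_⟩⟩
  · have h' := congrArg (conjSub g⁻¹) (congrArg Subtype.val h)
    simp only [conjFac, conjSub_conjSub, inv_mul_cancel, conjSub_one] at h'
    exact Subtype.ext h'
  · apply Subtype.ext
    simp [conjFac, conjSub_conjSub, conjSub_one]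

theorem proj_conj (g : G) (T : Fac N) (n : N) :
    (proj hN hab (conjFac hN g T) ⟨g * n * g⁻¹, hN.normal.conj_mem _ n.2 g⟩ : G) =
      g * (proj hN hab T n : G) * g⁻¹ := by
  obtain ⟨t, ht, c, hc, e⟩ := decomp hN T.2 n.2
  rw [proj_eq hN hab T ht hc.2 e]
  refine proj_eq hN hab (conjFac hN g T) (c := g * c * g⁻¹) (conj_mem_conjSub ht) ?_ ?_
  · refine Subgroup.mem_centralizer_iff.2 ?_
    rintro _ ⟨s, hs, rfl⟩
    simp only [MulEquiv.coe_toMonoidHom, MulAut.conj_apply]
    calc g * s * g⁻¹ * (g * c * g⁻¹) = g * (s * c) * g⁻¹ := by group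
      _ = g * (c * s) * g⁻¹ := by rw [Subgroup.mem_centralizer_iff.1 hc.2 s hs]
      _ = _ := by group
  · simp only [e]; group

end coords

section subdirect

variable {D : Type*} [Group D] {ι : Type*} {T : ι → Type*} [∀ i, Group (T i)]
  (p : ∀ i, D →* T i) (hp : ∀ i, Function.Surjective (p i)) (hs : ∀ i, IsSimpleGroup (T i))
  (hna : ∀ i, ¬ IsMulCommutative (T i))

omit hp hs hna in
theorem inf_ker_normal (S : Finset ι) : (S.inf fun j => (p j).ker).Normal := by
  classical
  induction S using Finset.induction_on with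
  | empty => simp only [Finset.inf_empty]; infer_instance
  | insert a S _ ih => rw [Finset.inf_insert]; exact Subgroup.normal_inf_normal _ _

include hp hs hna

omit hna in
theorem map_normal_eq (i : ι) (A : Subgroup D) (hA : A.Normal) :
    A.map (p i) = ⊥ ∨ A.map (p i) = ⊤ :=
  (hs i).eq_bot_or_eq_top_of_normal _ (hA.map _ (hp i))

theorem ker_inf_not_le (i : ι) (S : Finset ι) (hS : ∀ j ∈ S, (p j).ker ≠ (p i).ker) :
    (S.inf fun j => (p j).ker).map (p i) = ⊤ := by
  classical
  induction S using Finset.induction_on with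
  | empty => simpa using Subgroup.map_top_of_surjective _ (hp i)
  | insert j S _ ih =>
    have ih := ih fun k hk => hS k (Finset.mem_insert_of_mem hk)
    rw [Finset.inf_insert]
    set I := S.inf fun j => (p j).ker with hI
    have hIn : I.Normal := inf_ker_normal p S
    have hKn : ((p j).ker ⊓ I).Normal := Subgroup.normal_inf_normal _ _
    rcases map_normal_eq p hp hs i _ hKn with h | h
    · exfalso
      have hj : (p j).ker.map (p i) = ⊤ := by
        rcases map_normal_eq p hp hs i (p j).ker inferInstance with h' | h'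
        · exfalso
          have hle : (p j).ker ≤ (p i).ker := (Subgroup.map_eq_bot_iff _).1 h'
          rcases map_normal_eq p hp hs j (p i).ker inferInstance with h2 | h2
          · exact hS j (Finset.mem_insert_self _ _) (le_antisymm hle ((Subgroup.map_eq_bot_iff _).1 h2))
          · have hnt : Nontrivial (T i) := (hs i).toNontrivial
            obtain ⟨x, hx⟩ := exists_ne (1 : T i)
            obtain ⟨d, rfl⟩ := hp i x
            have hd : p j d ∈ (p i).ker.map (p j) := h2 ▸ Subgroup.mem_top _
            obtain ⟨k, hk, hke⟩ := hd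
            have : k⁻¹ * d ∈ (p j).ker := by simp [MonoidHom.mem_ker, hke]
            have h3 := hle this
            rw [MonoidHom.mem_ker, map_mul, map_inv, (MonoidHom.mem_ker.1 hk)] at h3
            simp at h3
            exact hx h3
        · exact h'
      refine hna i ⟨⟨fun a b => ?_⟩⟩
      have ha : a ∈ (p j).ker.map (p i) := hj ▸ Subgroup.mem_top _
      have hb : b ∈ I.map (p i) := ih ▸ Subgroup.mem_top _
      obtain ⟨x, hx, rfl⟩ := ha
      obtain ⟨y, hy, rfl⟩ := hb
      have hc : x * y * x⁻¹ * y⁻¹ ∈ (p j).ker ⊓ I := by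
        refine ⟨?_, ?_⟩
        · have := (inferInstance : (p j).ker.Normal).conj_mem _ ((p j).ker.inv_mem hx) y
          have h4 := (p j).ker.mul_mem hx this
          simpa [mul_assoc] using h4
        · exact I.mul_mem (hIn.conj_mem y hy x) (I.inv_mem hy)
      have := (Subgroup.map_eq_bot_iff _).1 h hc
      rw [MonoidHom.mem_ker, map_mul, map_mul, map_mul, map_inv, map_inv, mul_inv_eq_one,
        mul_inv_eq_iff_eq_mul] at this
      exact this
    · exact h

theorem exists_prescribed (S : Finset ι) (hS : Set.InjOn (fun i => (p i).ker) (S : Set ι))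
    (f : ∀ i, T i) : ∃ d : D, ∀ i ∈ S, p i d = f i := by
  classical
  induction S using Finset.induction_on with
  | empty => exact ⟨1, by simp⟩
  | insert i S hi ih =>
    obtain ⟨d, hd⟩ := ih (hS.mono (Finset.coe_subset.2 (Finset.subset_insert _ _)))
    have h := ker_inf_not_le p hp hs hna i S fun j hj e => hi (by
      have := hS (Finset.mem_coe.2 (Finset.mem_insert_of_mem hj))
        (Finset.mem_coe.2 (Finset.mem_insert_self _ _)) e
      exact this ▸ hj)
    have hm : f i * (p i d)⁻¹ ∈ (S.inf fun j => (p j).ker).map (p i) := h ▸ Subgroup.mem_top _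
    obtain ⟨x, hx, hxe⟩ := hm
    refine ⟨x * d, fun j hj => ?_⟩
    rcases Finset.mem_insert.1 hj with rfl | hj
    · rw [map_mul, hxe]; simp
    · have : x ∈ (p j).ker := Finset.inf_le (f := fun j => (p j).ker) hj hx
      rw [map_mul, MonoidHom.mem_ker.1 this, one_mul, hd j hj]

end subdirect

end Cfsg.Agent.SocleDiag69
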