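import Mathlib

/-!
Hethelyi's soft subgroups: an abelian subgroup containing its centraliser, of index `p` in its
normaliser (helper56).
-/

set_option autoImplicit false

namespace Cfsg.Agent.SoftSubgroups56

open scoped commutatorElement

universe u

variable {P : Type u} [Group P] [Finite P] {p : ℕ} [hpF : Fact p.Prime]

/-- A soft subgroup. -/
structure Soft (p : ℕ) (E : Subgroup P) : Prop where
  comm : ∀ a ∈ E, ∀ b ∈ E, a * b = b * a
  cent : Subgroup.centralizer (E : Set P) ≤ E
  idx : E.relIndex (Subgroup.normalizer (E : Set P)) = p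

omit [Finite P] hpF in
theorem mem_normalizer_iff_map' {H : Subgroup P} {g : P} :
    g ∈ Subgroup.normalizer (H : Set P) ↔ H.map (MulAut.conj g).toMonoidHom = H :=
  Subgroup.mem_normalizer_iff_map_conj_eq

omit [Finite P] hpF in
theorem relIndex_sup_of_le_normalizer {H K : Subgroup P}
    (h : H ≤ Subgroup.normalizer (K : Set P)) : K.relIndex (H ⊔ K) = K.relIndex H := by
  have hn : (K.subgroupOf (H ⊔ K)).Normal :=
    (Subgroup.normal_subgroupOf_iff_le_normalizer le_sup_right).2 (sup_le h Subgroup.le_normalizer)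
  have h2 := Subgroup.relIndex_sup_right (H.subgroupOf (H ⊔ K)) (K.subgroupOf (H ⊔ K))
  rwa [← Subgroup.subgroupOf_sup le_sup_left le_sup_right, Subgroup.relIndex_subgroupOf le_rfl,
    Subgroup.relIndex_subgroupOf le_sup_left] at h2

/-- The normaliser tower. -/
def tower (E : Subgroup P) : ℕ → Subgroup P
  | 0 => E
  | i + 1 => Subgroup.normalizer (tower E i : Set P)

theorem tower_le_succ (E : Subgroup P) (i : ℕ) : tower E i ≤ tower E (i + 1) :=
  Subgroup.le_normalizer

theorem tower_mono (E : Subgroup P) : Monotone (tower E) :=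
  monotone_nat_of_le_succ (tower_le_succ E)

theorem tower_ne_top (E : Subgroup P) {i j : ℕ} (h : i ≤ j) (hj : tower E j ≠ ⊤) :
    tower E i ≠ ⊤ :=
  fun hi => hj (top_le_iff.1 (hi ▸ tower_mono E h))

theorem lt_succ (hP : IsPGroup p P) (E : Subgroup P) {i : ℕ} (h : tower E i ≠ ⊤) :
    tower E i < tower E (i + 1) :=
  have := hP.isNilpotent
  Group.normalizerCondition_of_isNilpotent _ (lt_top_iff_ne_top.2 h)

/-- The second step of the tower: if `N(E)` is not everything, its derived group has order `p`. -/
theorem base (hP : IsPGroup p P) {E : Subgroup P} (hS : Soft p E) (h1 : tower E 1 ≠ ⊤) :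
    (tower E 1).relIndex (tower E 2) = p ∧
      ∃ z : P, orderOf z = p ∧ z ∈ E ∧ (∀ g ∈ tower E 1, g * z = z * g) ∧
        Subgroup.zpowers z = ⁅tower E 1, tower E 1⁆ := by
  classical
  set N := tower E 1 with hN
  have hEN : E ≤ N := tower_le_succ E 0
  have hlt : N < tower E 2 := lt_succ hP E h1
  obtain ⟨y, hy, hyN⟩ := SetLike.exists_of_lt hlt
  have hynorm : ∀ w, w ∈ N ↔ y * w * y⁻¹ ∈ N := Subgroup.mem_normalizer_iff.1 hy
  let F : P → Subgroup P := fun t => E.map (MulAut.conj t).toMonoidHom
  have hFN : ∀ t ∈ tower E 2, F t ≤ N := by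
    rintro t ht _ ⟨a, ha, rfl⟩
    exact (Subgroup.mem_normalizer_iff.1 ht a).1 (hEN ha)
  have hFy : F y ≠ E := by
    intro h
    exact hyN (mem_normalizer_iff_map'.2 h)
  have hrel : ∀ t ∈ tower E 2, (F t).relIndex N = p := by
    intro t ht
    have h2 := Subgroup.relIndex_map_map_of_injective (f := (MulAut.conj t).toMonoidHom) E N
      (MulAut.conj t).injective
    have h3 : N.map (MulAut.conj t).toMonoidHom = N := mem_normalizer_iff_map'.1 ht
    rw [h3] at h2
    exact h2.trans hS.idx
  have hlast : ∀ (A B : Subgroup P), A ≤ N → B ≤ N → A.relIndex N = p → A ≤ B → B ≠ A → B = N := by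
    intro A B hA hB hAi hAB hne
    have h2 := Subgroup.relIndex_mul_relIndex A B N hAB hB
    rw [hAi] at h2
    rcases (Nat.dvd_prime hpF.out).1 (Dvd.intro _ h2) with h3 | h3
    · exact absurd (le_antisymm (Subgroup.relIndex_eq_one.1 h3) hAB) hne
    · rw [h3] at h2
      have h4 : B.relIndex N = 1 := Nat.eq_of_mul_eq_mul_left hpF.out.pos (by rw [h2, mul_one])
      exact le_antisymm hB (Subgroup.relIndex_eq_one.1 h4)
  -- the centre of `N`
  set Z := E ⊓ F y
  have hEF : E ⊔ F y = N := by
    refine hlast E _ hEN (sup_le hEN (hFN y hy)) hS.idx le_sup_left fun h => hFy ?_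
    have hle : F y ≤ E := h ▸ le_sup_right
    refine Subgroup.eq_of_le_of_card_ge hle (le_of_eq ?_)
    exact Nat.card_congr (E.equivMapOfInjective _ (MulAut.conj y).injective).toEquiv
  have hFcomm : ∀ t, ∀ a ∈ F t, ∀ b ∈ F t, a * b = b * a := by
    rintro t _ ⟨a, ha, rfl⟩ _ ⟨b, hb, rfl⟩
    rw [← map_mul, ← map_mul, hS.comm a ha b hb]
  have hZc : ∀ g ∈ N, ∀ z ∈ Z, g * z = z * g := by
    intro g hg z hz
    have hle : N ≤ Subgroup.centralizer ({z} : Set P) := by
      rw [← hEF]
      refine sup_le (fun a ha => ?_) (fun a ha => ?_)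
      · exact Subgroup.mem_centralizer_singleton_iff.2 (hS.comm a ha z hz.1)
      · exact Subgroup.mem_centralizer_singleton_iff.2 (hFcomm y a ha z hz.2)
    exact Subgroup.mem_centralizer_singleton_iff.1 (hle hg)
  have hcen_eq : ∀ w ∈ N, (∀ g ∈ N, g * w = w * g) → w ∈ E := fun w _ h =>
    hS.cent (Subgroup.mem_centralizer_iff.2 fun a ha => h a (hEN ha))
  have hZF : ∀ t ∈ tower E 2, Z ≤ F t := by
    intro t ht w hw
    have hw' : t⁻¹ * w * t ∈ N := by
      have := (Subgroup.mem_normalizer_iff''.1 ht w).1 (hEN hw.1)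
      exact this
    have hE : t⁻¹ * w * t ∈ E := hcen_eq _ hw' fun g hg => by
      have h2 := hZc (t * g * t⁻¹) ((Subgroup.mem_normalizer_iff.1 ht g).1 hg) w hw
      calc g * (t⁻¹ * w * t) = t⁻¹ * (t * g * t⁻¹ * w) * t := by group
        _ = t⁻¹ * (w * (t * g * t⁻¹)) * t := by rw [h2]
        _ = t⁻¹ * w * t * g := by group
    exact ⟨_, hE, by simp [mul_assoc]⟩
  have hZE : Z.relIndex E = p := by
    have hnorm : E ≤ Subgroup.normalizer (F y : Set P) := by
      have hyy : F y = E.map (MulAut.conj y).toMonoidHom := rfl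
      intro a ha
      rw [mem_normalizer_iff_map']
      have ha' : y⁻¹ * a * y ∈ N := (Subgroup.mem_normalizer_iff''.1 hy a).1 (hEN ha)
      have h2 : E.map (MulAut.conj (y⁻¹ * a * y)).toMonoidHom = E := mem_normalizer_iff_map'.1 ha'
      rw [hyy, Subgroup.map_map]
      conv_rhs => rw [← h2, Subgroup.map_map]
      congr 1
      ext w
      simp [MulAut.conj_apply, mul_assoc]
    have h2 : (F y).relIndex (E ⊔ F y) = (F y).relIndex E := relIndex_sup_of_le_normalizer hnorm
    rw [hEF, hrel y hy] at h2
    rw [Subgroup.inf_relIndex_left]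
    exact h2.symm
  -- the derived group
  obtain ⟨x, hx, hxE⟩ : ∃ x ∈ F y, x ∉ E := SetLike.not_le_iff_exists.1 fun hle =>
    hFy (Subgroup.eq_of_le_of_card_ge hle
      (le_of_eq (Nat.card_congr (E.equivMapOfInjective _ (MulAut.conj y).injective).toEquiv)))
  have hxN : x ∈ N := hFN y hy hx
  obtain ⟨e, he, heZ⟩ : ∃ e ∈ E, e ∉ Z := SetLike.not_le_iff_exists.1 fun h => by
    rw [Subgroup.relIndex_eq_one.2 h] at hZE
    exact hpF.out.ne_one hZE.symm
  set z := ⁅e, x⁆
  have hzE : z ∈ E := by
    show e * x * e⁻¹ * x⁻¹ ∈ E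
    have := mul_mem he ((Subgroup.mem_normalizer_iff.1 hxN e⁻¹).1 (inv_mem he))
    simpa [mul_assoc] using this
  have hzF : z ∈ F y := by
    have hnorm : N ≤ Subgroup.normalizer (F y : Set P) := by
      have h2 : (F y).relIndex N = p := hrel y hy
      have hlt' : F y < N := lt_of_le_of_ne (hFN y hy) fun h => by
        rw [h, Subgroup.relIndex_self] at h2; exact hpF.out.ne_one h2.symm
      have := (hP.to_subgroup N).isNilpotent
      have h3 : (F y).subgroupOf N < ⊤ := lt_top_iff_ne_top.2 fun h =>
        hlt'.not_ge (Subgroup.subgroupOf_eq_top.1 h)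
      have h4 := Group.normalizerCondition_of_isNilpotent _ h3
      obtain ⟨w, hw, hwF⟩ := SetLike.exists_of_lt h4
      have hwn : (w : P) ∈ Subgroup.normalizer (F y : Set P) := by
        rw [Subgroup.mem_normalizer_iff]
        intro v
        have hw' := Subgroup.mem_normalizer_iff.1 hw
        constructor
        · intro hv
          have := (hw' ⟨v, hFN y hy hv⟩).1 hv
          exact this
        · intro hv
          have hvN : v ∈ N := by
            have := mul_mem (mul_mem (inv_mem w.2) (hFN y hy hv)) w.2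
            simpa [mul_assoc] using this
          exact (hw' ⟨v, hvN⟩).2 hv
      have h5 : Subgroup.normalizer (F y : Set P) ⊓ N = N := by
        refine hlast (F y) _ (hFN y hy) inf_le_right h2 (le_inf Subgroup.le_normalizer (hFN y hy)) ?_
        intro h
        exact hwF (show (w : P) ∈ F y from h ▸ ⟨hwn, w.2⟩)
      exact h5 ▸ inf_le_left
    show (e * x * e⁻¹) * x⁻¹ ∈ F y
    exact mul_mem ((Subgroup.mem_normalizer_iff.1 (hnorm (hEN he)) x).1 hx) (inv_mem hx)
  have hzZ : z ∈ Z := ⟨hzE, hzF⟩
  have hzc : ∀ g ∈ N, g * z = z * g := fun g hg => hZc g hg z hzZ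
  have hz1 : z ≠ 1 := by
    intro h
    apply heZ
    refine ⟨he, ?_⟩
    have hc : e * x = x * e := commutatorElement_eq_one_iff_mul_comm.1 h
    have hcl : F y ⊔ Subgroup.zpowers e ≤ N := sup_le (hFN y hy) (Subgroup.zpowers_le.2 (hEN he))
    by_contra hne
    have htop : F y ⊔ Subgroup.zpowers e = N :=
      hlast _ _ (hFN y hy) hcl (hrel y hy) le_sup_left fun h' =>
        hne (h' ▸ Subgroup.mem_sup_right (Subgroup.mem_zpowers e))
    have hxE' : x ∈ E := by
      refine hS.cent (Subgroup.mem_centralizer_iff.2 fun a ha => ?_)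
      have hle : F y ⊔ Subgroup.zpowers e ≤ Subgroup.centralizer ({x} : Set P) :=
        sup_le (fun b hb => Subgroup.mem_centralizer_singleton_iff.2 (hFcomm y b hb x hx))
          (Subgroup.zpowers_le.2 (Subgroup.mem_centralizer_singleton_iff.2 hc))
      exact Subgroup.mem_centralizer_singleton_iff.1 (hle (htop.symm ▸ hEN ha))
    exact hxE hxE'
  have hep : e ^ p ∈ Z := by
    have h2 : (Z.subgroupOf E).index = p := hZE
    have hn : (Z.subgroupOf E).Normal := ⟨fun a ha b => by
      have : b * a * b⁻¹ = a := by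
        apply Subtype.ext
        show (b : P) * a * (b : P)⁻¹ = a
        rw [hS.comm _ b.2 _ a.2, mul_inv_cancel_right]
      rwa [this]⟩
    have := Subgroup.pow_index_mem (Z.subgroupOf E) (⟨e, he⟩ : E)
    rw [h2] at this
    exact this
  have hzp : orderOf z = p := by
    refine orderOf_eq_prime ?_ hz1
    have hpow : ∀ n : ℕ, ⁅e ^ n, x⁆ = z ^ n := by
      intro n
      induction n with
      | zero => simp
      | succ n ih =>
        rw [pow_succ (n := n) z, ← ih, commutatorElement_def, pow_succ' (n := n) e]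
        have hzc' := hzc (e ^ n * x * (e ^ n)⁻¹ * x⁻¹)
          (mul_mem (mul_mem (mul_mem (pow_mem (hEN he) n) hxN) (inv_mem (pow_mem (hEN he) n))) (inv_mem hxN))
        calc e * e ^ n * x * (e * e ^ n)⁻¹ * x⁻¹
            = (e * (e ^ n * x * (e ^ n)⁻¹ * x⁻¹) * e⁻¹) * (e * x * e⁻¹ * x⁻¹) := by group
          _ = (e ^ n * x * (e ^ n)⁻¹ * x⁻¹) * z := by
            congr 1
            rw [← commutatorElement_def, ih]
            have : Commute e (z ^ n) := Commute.pow_right (hS.comm e he z hzE) n
            rw [this.eq, mul_inv_cancel_right]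
          _ = ⁅e ^ n, x⁆ * z := by rw [commutatorElement_def]
    rw [← hpow, commutatorElement_eq_one_iff_mul_comm]
    exact (hZc x hxN _ hep).symm
  have hNgen : E ⊔ Subgroup.zpowers x = N :=
    hlast E _ hEN (sup_le hEN (Subgroup.zpowers_le.2 hxN)) hS.idx le_sup_left fun h =>
      hxE (h ▸ Subgroup.mem_sup_right (Subgroup.mem_zpowers x))
  have hEgen : Z ⊔ Subgroup.zpowers e = E := by
    refine le_antisymm (sup_le inf_le_left (Subgroup.zpowers_le.2 he)) ?_
    have h2 := Subgroup.relIndex_mul_relIndex Z (Z ⊔ Subgroup.zpowers e) E le_sup_left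
      (sup_le inf_le_left (Subgroup.zpowers_le.2 he))
    rw [hZE] at h2
    rcases (Nat.dvd_prime hpF.out).1 (Dvd.intro _ h2) with h3 | h3
    · exact absurd (Subgroup.relIndex_eq_one.1 h3 (Subgroup.mem_sup_right (Subgroup.mem_zpowers e))) heZ
    · rw [h3] at h2
      exact Subgroup.relIndex_eq_one.1 (Nat.eq_of_mul_eq_mul_left hpF.out.pos (by rw [h2, mul_one]))
  have hder : ⁅N, N⁆ = Subgroup.zpowers z := by
    refine le_antisymm ?_ (Subgroup.zpowers_le.2 (Subgroup.commutator_mem_commutator (hEN he) hxN))
    -- the generators commute modulo `z`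
    have hzN : Subgroup.zpowers z ≤ N := Subgroup.zpowers_le.2 (hEN hzE)
    have hn : ((Subgroup.zpowers z).subgroupOf N).Normal := ⟨fun a ha b => by
      have : b * a * b⁻¹ = a := by
        apply Subtype.ext
        show (b : P) * a * (b : P)⁻¹ = a
        obtain ⟨k, hk⟩ := Subgroup.mem_zpowers_iff.1 ha
        have : Commute (b : P) (z ^ k) := Commute.zpow_right (hzc b b.2) k
        rw [show ((a : N) : P) = z ^ k from hk.symm, this.eq, mul_inv_cancel_right]
      rwa [this]⟩
    let π := QuotientGroup.mk' ((Subgroup.zpowers z).subgroupOf N)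
    let C : Subgroup (N ⧸ (Subgroup.zpowers z).subgroupOf N) := Subgroup.center _
    have key : ∀ a : N, π a ∈ C → ∀ b : N, ⁅(a : P), (b : P)⁆ ∈ Subgroup.zpowers z := by
      intro a ha b
      have h2 : π ⁅a, b⁆ = 1 := by
        rw [map_commutatorElement, commutatorElement_eq_one_iff_mul_comm]
        exact (Subgroup.mem_center_iff.1 ha (π b)).symm
      exact (QuotientGroup.eq_one_iff ⁅a, b⁆).1 h2
    have hgen : ∀ S : Subgroup P, ∀ a : N, (∀ s ∈ S, ⁅(a : P), s⁆ ∈ Subgroup.zpowers z) →
        ∀ b : N, (b : P) ∈ S → π a * π b = π b * π a := by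
      intro S a hS' b hb
      rw [← commutatorElement_eq_one_iff_mul_comm, ← map_commutatorElement]
      exact (QuotientGroup.eq_one_iff _).2 (hS' _ hb)
    have hee : ∀ a : N, (a : P) ∈ E → π a * π ⟨x, hxN⟩ = π ⟨x, hxN⟩ * π a := by
      intro a ha
      obtain ⟨w, hw, v, hv, hwv⟩ : ∃ w ∈ Z, ∃ v ∈ Subgroup.zpowers e, w * v = (a : P) := by
        have hn2 : Subgroup.zpowers e ≤ Subgroup.normalizer (Z : Set P) := Subgroup.zpowers_le.2
          (Subgroup.mem_normalizer_iff.2 fun w => by
            constructor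
            · intro hw
              rw [hS.comm e he w hw.1, mul_inv_cancel_right]; exact hw
            · intro hw
              have hwE : w ∈ E := by
                have := mul_mem (mul_mem (inv_mem he) hw.1) he
                simpa [mul_assoc] using this
              rwa [hS.comm e he w hwE, mul_inv_cancel_right] at hw)
        have h2 : (a : P) ∈ ((Z ⊔ Subgroup.zpowers e : Subgroup P) : Set P) := by rw [hEgen]; exact ha
        rw [Subgroup.coe_mul_of_left_le_normalizer_right Z (Subgroup.zpowers e)
          (fun w hw => Subgroup.mem_normalizer_iff.2 fun v => ?_)] at h2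
        · exact h2
        · constructor
          · intro hv
            obtain ⟨k, rfl⟩ := Subgroup.mem_zpowers_iff.1 hv
            have : Commute w (e ^ k) := Commute.zpow_right (hS.comm w hw.1 e he) k
            rw [this.eq, mul_inv_cancel_right]; exact hv
          · intro hv
            have hvE : v ∈ E := by
              have := mul_mem (mul_mem (inv_mem (show w ∈ E from hw.1)) (Subgroup.zpowers_le.2 he hv)) (show w ∈ E from hw.1)
              simpa [mul_assoc] using this
            rwa [hS.comm w hw.1 v hvE, mul_inv_cancel_right] at hv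
      obtain ⟨k, rfl⟩ := Subgroup.mem_zpowers_iff.1 hv
      have ha' : a = ⟨w, hEN hw.1⟩ * (⟨e, hEN he⟩ : N) ^ k :=
        Subtype.ext (by rw [Subgroup.coe_mul, SubgroupClass.coe_zpow]; exact hwv.symm)
      rw [ha', map_mul, map_zpow]
      refine (Commute.mul_left ?_ (Commute.zpow_left ?_ k)).eq
      · show π _ * π _ = π _ * π _
        rw [← map_mul, ← map_mul]
        congr 1
        exact Subtype.ext (hZc x hxN w hw).symm
      · show π _ * π _ = π _ * π _
        rw [← commutatorElement_eq_one_iff_mul_comm, ← map_commutatorElement]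
        exact (QuotientGroup.eq_one_iff _).2 (Subgroup.mem_zpowers z)
    have hEC : ∀ a : N, (a : P) ∈ E → π a ∈ C := by
      intro a ha
      rw [Subgroup.mem_center_iff]
      intro q
      obtain ⟨b, rfl⟩ := QuotientGroup.mk'_surjective _ q
      have hle : N ≤ ((Subgroup.centralizer ({π a} : Set _)).comap π).map N.subtype := by
        refine hNgen.symm.le.trans (sup_le (fun c hc => ⟨⟨c, hEN hc⟩, ?_, rfl⟩) (Subgroup.zpowers_le.2 ⟨⟨x, hxN⟩, ?_, rfl⟩))
        · rw [SetLike.mem_coe, Subgroup.mem_comap, Subgroup.mem_centralizer_singleton_iff]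
          rw [← map_mul, ← map_mul]
          congr 1
          exact Subtype.ext (hS.comm c hc a ha)
        · rw [SetLike.mem_coe, Subgroup.mem_comap, Subgroup.mem_centralizer_singleton_iff]
          exact (hee a ha).symm
      obtain ⟨b', hb', he'⟩ := hle b.2
      rw [Subtype.ext he'] at hb'
      exact Subgroup.mem_centralizer_singleton_iff.1 hb'
    have hall : ∀ a : N, π a ∈ C := by
      intro a
      have hle : N ≤ (C.comap π).map N.subtype := by
        refine hNgen.symm.le.trans (sup_le (fun c hc => ⟨⟨c, hEN hc⟩, hEC _ hc, rfl⟩) (Subgroup.zpowers_le.2 ⟨⟨x, hxN⟩, ?_, rfl⟩))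
        show π ⟨x, hxN⟩ ∈ C
        rw [Subgroup.mem_center_iff]
        intro q
        obtain ⟨b, rfl⟩ := QuotientGroup.mk'_surjective _ q
        have hle2 : N ≤ ((Subgroup.centralizer ({π ⟨x, hxN⟩} : Set _)).comap π).map N.subtype := by
          refine hNgen.symm.le.trans (sup_le (fun c hc => ⟨⟨c, hEN hc⟩, ?_, rfl⟩) (Subgroup.zpowers_le.2 ⟨⟨x, hxN⟩, ?_, rfl⟩))
          · rw [SetLike.mem_coe, Subgroup.mem_comap, Subgroup.mem_centralizer_singleton_iff]
            exact hee _ hc
          · rw [SetLike.mem_coe, Subgroup.mem_comap, Subgroup.mem_centralizer_singleton_iff]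
        obtain ⟨b', hb', he'⟩ := hle2 b.2
        rw [Subtype.ext he'] at hb'
        exact Subgroup.mem_centralizer_singleton_iff.1 hb'
      obtain ⟨a', ha', he'⟩ := hle a.2
      rw [Subtype.ext he'] at ha'
      exact ha'
    exact Subgroup.commutator_le.2 fun a ha b hb => key ⟨a, ha⟩ (hall _) ⟨b, hb⟩
  refine ⟨?_, z, hzp, hzE, hzc, hder.symm⟩
  -- at most `p + 1` conjugates of `E`
  have hNt : ∀ t₁ ∈ tower E 2, ∀ t₂ ∈ tower E 2, F t₁ ≠ F t₂ → F t₁ ⊓ F t₂ = Z := by
    intro t₁ h₁ t₂ h₂ hne
    have hle : Z ≤ F t₁ ⊓ F t₂ := le_inf (hZF t₁ h₁) (hZF t₂ h₂)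
    refine (le_antisymm hle ?_).symm
    have hcardF : ∀ t, Nat.card (F t) = Nat.card E := fun t =>
      (Nat.card_congr (E.equivMapOfInjective _ (MulAut.conj t).injective).toEquiv).symm
    have hdiv : Z.relIndex (F t₁) = p := by
      have h3 := Subgroup.card_mul_index (Z.subgroupOf (F t₁))
      have h4 := Subgroup.card_mul_index (Z.subgroupOf E)
      rw [Nat.card_congr (Subgroup.subgroupOfEquivOfLe (hZF t₁ h₁)).toEquiv] at h3
      rw [Nat.card_congr (Subgroup.subgroupOfEquivOfLe (inf_le_left : Z ≤ E)).toEquiv] at h4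
      rw [hcardF, ← h4] at h3
      exact (Nat.eq_of_mul_eq_mul_left Nat.card_pos h3).trans hZE
    have h2 := Subgroup.relIndex_mul_relIndex Z (F t₁ ⊓ F t₂) (F t₁) hle inf_le_left
    rw [hdiv] at h2
    rcases (Nat.dvd_prime hpF.out).1 (Dvd.intro _ h2) with h3 | h3
    · exact Subgroup.relIndex_eq_one.1 h3
    · rw [h3] at h2
      have h4 : (F t₁ ⊓ F t₂).relIndex (F t₁) = 1 :=
        Nat.eq_of_mul_eq_mul_left hpF.out.pos (by rw [h2, mul_one])
      exfalso
      refine hne (Subgroup.eq_of_le_of_card_ge ((Subgroup.relIndex_eq_one.1 h4).trans inf_le_right) ?_)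
      rw [hcardF, hcardF]
  let Q := ↥(tower E 2) ⧸ N.subgroupOf (tower E 2)
  let r : Q → tower E 2 := Quotient.out
  have hrinj : ∀ a b : Q, F (r a) = F (r b) → a = b := by
    intro a b hab
    have h2 : ((r b : P))⁻¹ * (r a : P) ∈ N := by
      refine mem_normalizer_iff_map'.2 ?_
      have := congrArg (Subgroup.map (MulAut.conj ((r b : P))⁻¹).toMonoidHom) hab
      simp only [F, Subgroup.map_map] at this
      have e1 : (MulAut.conj ((r b : P))⁻¹).toMonoidHom.comp (MulAut.conj (r a : P)).toMonoidHom =
          (MulAut.conj (((r b : P))⁻¹ * (r a : P))).toMonoidHom := by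
        ext w; simp [MulAut.conj_apply, mul_assoc]
      have e2 : (MulAut.conj ((r b : P))⁻¹).toMonoidHom.comp (MulAut.conj (r b : P)).toMonoidHom =
          MonoidHom.id P := by
        ext w; simp [MulAut.conj_apply, mul_assoc]
      rw [e1, e2, Subgroup.map_id] at this
      exact this
    rw [← Quotient.out_eq' a, ← Quotient.out_eq' b]
    exact (QuotientGroup.eq.2 (Subgroup.mem_subgroupOf.2 (by exact h2))).symm
  have hk : (tower E 1).relIndex (tower E 2) ≤ p + 1 := by
    show (N.subgroupOf (tower E 2)).index ≤ p + 1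
    rw [Subgroup.index_eq_card]
    have : Fintype Q := Fintype.ofFinite Q
    have hq : ∀ q : Q, ∀ t, t ∈ ((F (r q) : Set P) \ (Z : Set P)) → t ∈ (N : Set P) \ (Z : Set P) :=
      fun q t ht => ⟨hFN _ (r q).2 ht.1, ht.2⟩
    let g : (Σ q : Q, ↥((F (r q) : Set P) \ (Z : Set P))) → ↥((N : Set P) \ (Z : Set P)) :=
      fun s => ⟨s.2.1, hq s.1 s.2.1 s.2.2⟩
    have hg : Function.Injective g := by
      rintro ⟨q₁, t₁, h₁⟩ ⟨q₂, t₂, h₂⟩ h
      obtain rfl : t₁ = t₂ := congrArg Subtype.val h
      by_cases hqq : q₁ = q₂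
      · subst hqq; rfl
      · exfalso
        refine h₁.2 ?_
        rw [SetLike.mem_coe, ← hNt _ (r q₁).2 _ (r q₂).2 fun he => hqq (hrinj _ _ he)]
        exact ⟨h₁.1, h₂.1⟩
    have hcnt := Nat.card_le_card_of_injective g hg
    have hsd : ∀ A : Subgroup P, Z ≤ A →
        Nat.card ↥((A : Set P) \ (Z : Set P)) = Nat.card A - Nat.card Z := by
      intro A hA
      rw [Nat.card_coe_set_eq, Set.ncard_sdiff (SetLike.coe_subset_coe.2 hA) (Set.toFinite _),
        ← Nat.card_coe_set_eq, ← Nat.card_coe_set_eq]
      rfl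
    have hsdF : ∀ q : Q, Nat.card ↥((F (r q) : Set P) \ (Z : Set P)) =
        Nat.card Z * (p - 1) := by
      intro q
      rw [hsd _ (hZF _ (r q).2), ← Nat.card_congr (E.equivMapOfInjective _ (MulAut.conj ((r q : P))).injective).toEquiv,
        ← Subgroup.card_mul_index (Z.subgroupOf E),
        Nat.card_congr (Subgroup.subgroupOfEquivOfLe (inf_le_left : Z ≤ E)).toEquiv,
        show (Z.subgroupOf E).index = p from hZE, Nat.mul_sub, mul_one]
    have hNcard : Nat.card N = Nat.card Z * (p * p) := by
      rw [← Subgroup.card_mul_index (Z.subgroupOf N),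
        Nat.card_congr (Subgroup.subgroupOfEquivOfLe (inf_le_left.trans hEN)).toEquiv]
      congr 1
      show Z.relIndex N = p * p
      rw [← Subgroup.relIndex_mul_relIndex Z E N inf_le_left hEN, hZE]
      congr 1
      exact hS.idx
    rw [Nat.card_sigma, Finset.sum_congr rfl (fun q _ => hsdF q), Finset.sum_const, smul_eq_mul,
      hsd N (inf_le_left.trans hEN), hNcard, Finset.card_univ, ← Nat.card_eq_fintype_card] at hcnt
    have hp2 := hpF.out.two_le
    have hz : 0 < Nat.card Z := Nat.card_pos
    obtain ⟨j, hj⟩ : ∃ j, p = j + 2 := ⟨p - 2, by omega⟩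
    rw [hj] at hcnt ⊢
    have h5 : Nat.card Z * ((j + 2) * (j + 2)) - Nat.card Z = Nat.card Z * ((j + 1) * (j + 3)) := by
      rw [show (j + 2) * (j + 2) = (j + 1) * (j + 3) + 1 by ring, mul_add, mul_one, Nat.add_sub_cancel]
    rw [h5] at hcnt
    refine Nat.le_of_mul_le_mul_right ?_ (Nat.mul_pos hz (Nat.succ_pos j))
    calc Nat.card Q * (Nat.card Z * (j + 1)) ≤ Nat.card Z * ((j + 1) * (j + 3)) := by
          simpa using hcnt
      _ = (j + 3) * (Nat.card Z * (j + 1)) := by ring
  obtain ⟨k, hk'⟩ := (hP.to_subgroup (tower E 2)).index (N.subgroupOf (tower E 2))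
  have hne : (tower E 1).relIndex (tower E 2) ≠ 1 := fun h =>
    hlt.not_ge (Subgroup.relIndex_eq_one.1 h)
  change (N.subgroupOf (tower E 2)).index = p
  change (N.subgroupOf (tower E 2)).index ≠ 1 at hne
  change (N.subgroupOf (tower E 2)).index ≤ p + 1 at hk
  rw [hk'] at hk hne ⊢
  rcases k with _ | _ | k
  · exact absurd (pow_zero p) hne
  · exact pow_one p
  · exfalso
    have hp2 := hpF.out.two_le
    have : p * p ≤ p ^ (k + 2) := by
      rw [← sq]; exact Nat.pow_le_pow_right hpF.out.pos (by omega)
    nlinarith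

theorem soft_center_le {E : Subgroup P} (hS : Soft p E) {K : Subgroup P} (hK : E ≤ K) {g : P}
    (h : ∀ k ∈ K, k * g = g * k) : g ∈ E :=
  hS.cent (Subgroup.mem_centralizer_iff.2 fun a ha => h a (hK ha))

/-- Lower bound on the class. -/
theorem lcs_ne_bot (hP : IsPGroup p P) {E : Subgroup P} (hS : Soft p E) {i : ℕ}
    (hne : i = 0 ∨ tower E (i - 1) ≠ ⊤) (hEbot : E ≠ ⊥) :
    (tower E i).lowerCentralSeries i ≠ ⊥ := by
  intro h
  set K := tower E i
  have key : ∀ j, ∀ m, m + j + 1 = i → K.lowerCentralSeries m ≤ tower E j := by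
    intro j
    induction j with
    | zero =>
      intro m hm g hg
      refine soft_center_le hS (tower_mono E (Nat.zero_le i)) fun k hk => ?_
      have : ⁅g, k⁆ ∈ K.lowerCentralSeries (m + 1) := Subgroup.commutator_mem_commutator hg hk
      rw [show m + 1 = i by omega, h, Subgroup.mem_bot, commutatorElement_eq_one_iff_mul_comm] at this
      exact this.symm
    | succ j ih =>
      intro m hm g hg
      have h1 : ∀ a ∈ tower E j, ⁅g, a⁆ ∈ tower E j := fun a ha =>
        ih (m + 1) (by omega) (Subgroup.commutator_mem_commutator hg (tower_mono E (by omega) ha))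
      show g ∈ Subgroup.normalizer (tower E j : Set P)
      have hsub : ∀ a ∈ tower E j, g * a * g⁻¹ ∈ tower E j := fun a ha => by
        have := mul_mem (h1 a ha) ha
        rwa [commutatorElement_def, inv_mul_cancel_right] at this
      rw [mem_normalizer_iff_map']
      refine Subgroup.eq_of_le_of_card_ge (Subgroup.map_le_iff_le_comap.2 fun a ha => hsub a ha) ?_
      exact le_of_eq (Nat.card_congr ((tower E j).equivMapOfInjective _ (MulAut.conj g).injective).toEquiv)
  rcases i with _ | i
  · exact hEbot h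
  · have h1 := key i 0 (by omega)
    rw [Subgroup.lowerCentralSeries_zero] at h1
    have h2 := hne.resolve_left (Nat.succ_ne_zero i)
    rw [Nat.add_sub_cancel] at h2
    exact (lt_succ hP E h2).not_ge h1

theorem map_tower {Q : Type u} [Group Q] (f : P →* Q) (hf : Function.Surjective f) (E : Subgroup P)
    (k : ℕ) (hker : f.ker ≤ tower E k) :
    ∀ j, tower ((tower E k).map f) j = (tower E (j + k)).map f := by
  intro j
  induction j with
  | zero => rw [Nat.zero_add]; rfl
  | succ j ih =>
    have hk : f.ker ≤ tower E (j + k) := hker.trans (tower_mono E (Nat.le_add_left k j))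
    rw [Nat.add_right_comm]
    show Subgroup.normalizer (tower ((tower E k).map f) j : Set Q) = _
    rw [ih]
    apply Subgroup.comap_injective hf
    rw [Subgroup.comap_normalizer_eq_of_surjective _ hf, Subgroup.comap_map_eq_self hk,
      Subgroup.comap_map_eq_self (hk.trans (tower_le_succ E _))]
    rfl

theorem map_relIndex {Q : Type u} [Group Q] (f : P →* Q) {H L : Subgroup P} (hker : f.ker ≤ H)
    (hHL : H ≤ L) : (H.map f).relIndex (L.map f) = H.relIndex L := by
  rw [Subgroup.relIndex_map_map, sup_eq_left.2 hker, sup_eq_left.2 (hker.trans hHL)]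

theorem map_ne_top {Q : Type u} [Group Q] (f : P →* Q) {H : Subgroup P} (hker : f.ker ≤ H)
    (hH : H ≠ ⊤) : H.map f ≠ ⊤ := by
  intro h
  apply hH
  rw [← Subgroup.comap_map_eq_self hker, h, Subgroup.comap_top]

theorem lcs_map_bot {Q : Type u} [Group Q] (f : P →* Q) {H : Subgroup P} {n : ℕ}
    (h : (H.map f).lowerCentralSeries n = ⊥) : H.lowerCentralSeries n ≤ f.ker := by
  rw [← Subgroup.map_lowerCentralSeries, Subgroup.map_eq_bot_iff] at h
  exact h

/-- A subgroup normalised by `T (i+1)` between `E` and `T i` is `T i`. -/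
theorem closure_eq (hP : IsPGroup p P) {E : Subgroup P}
    (hidx : ∀ j, tower E j ≠ ⊤ → (tower E j).relIndex (tower E (j + 1)) = p) {i : ℕ}
    (hi : tower E i ≠ ⊤) {H : Subgroup P} (hE : E ≤ H)
    (hn : tower E (i + 1) ≤ Subgroup.normalizer (H : Set P)) : tower E i ≤ H := by
  suffices ∀ j, j ≤ i → tower E j ≤ H from this i le_rfl
  intro j
  induction j with
  | zero => intro _; exact hE
  | succ j ih =>
    intro hj
    by_contra hcon
    have hjle := ih (by omega)
    have h1 : tower E j ≤ H ⊓ tower E (j + 1) := le_inf hjle (tower_le_succ E j)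
    have h2 := Subgroup.relIndex_mul_relIndex _ (H ⊓ tower E (j + 1)) _ h1 inf_le_right
    rw [hidx j (tower_ne_top E (by omega) hi)] at h2
    rcases (Nat.dvd_prime hpF.out).1 (Dvd.intro _ h2) with h3 | h3
    · have heq : H ⊓ tower E (j + 1) = tower E j :=
        le_antisymm (Subgroup.relIndex_eq_one.1 h3) h1
      have h4 : tower E (j + 2) ≤ tower E (j + 1) := by
        intro g hg
        show g ∈ Subgroup.normalizer (tower E j : Set P)
        have hgH := hn (tower_mono E (show j + 2 ≤ i + 1 by omega) hg)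
        rw [← heq, Subgroup.mem_normalizer_iff]
        intro a
        rw [Subgroup.mem_inf, Subgroup.mem_inf, Subgroup.mem_normalizer_iff.1 hgH a,
          Subgroup.mem_normalizer_iff.1 (hg : g ∈ Subgroup.normalizer (tower E (j + 1) : Set P)) a]
      exact (lt_succ hP E (tower_ne_top E hj hi)).not_ge h4
    · rw [h3] at h2
      have h5 := Subgroup.relIndex_eq_one.1 (Nat.eq_of_mul_eq_mul_left hpF.out.pos (by rw [h2, mul_one]) :
        (H ⊓ tower E (j + 1)).relIndex (tower E (j + 1)) = 1)
      exact hcon (h5.trans inf_le_left)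

theorem main_steps : ∀ (n : ℕ) (P : Type u) [Group P] [Finite P], Nat.card P = n → IsPGroup p P →
    ∀ E : Subgroup P, Soft p E → tower E 1 ≠ ⊤ →
      (∀ j, tower E j ≠ ⊤ → (tower E j).relIndex (tower E (j + 1)) = p) ∧
        (∀ i, tower E i ≠ ⊤ → (tower E i).lowerCentralSeries (i + 1) = ⊥) := by
  intro n
  induction n using Nat.strong_induction_on with
  | _ n ih =>
    intro P _ _ hn hP E hS h1
    classical
    obtain ⟨hidx2, z, hzp, hzE, hzc, hder⟩ := base hP hS h1
    have hlcs0 : (tower E 0).lowerCentralSeries 1 = ⊥ := by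
      rw [Subgroup.lowerCentralSeries_succ, Subgroup.lowerCentralSeries_zero]
      exact Subgroup.commutator_eq_bot_iff_le_centralizer.2 fun a ha =>
        Subgroup.mem_centralizer_iff.2 fun b hb => hS.comm b hb a ha
    -- a central element of order `p`
    have : Nontrivial P := by
      by_contra hh
      rw [not_nontrivial_iff_subsingleton] at hh
      exact h1 (Subsingleton.elim _ _)
    have hcn : Nontrivial (Subgroup.center P) := hP.center_nontrivial
    have hdvd : p ∣ Nat.card (Subgroup.center P) := by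
      obtain ⟨k, hk⟩ := IsPGroup.iff_card.1 (hP.to_subgroup (Subgroup.center P))
      have := Finite.one_lt_card (α := Subgroup.center P)
      rw [hk] at this ⊢
      exact dvd_pow_self p fun h => by rw [h, pow_zero] at this; exact lt_irrefl 1 this
    obtain ⟨wc, hwc⟩ := exists_prime_orderOf_dvd_card' p hdvd
    set w : P := (wc : P)
    have hwp : orderOf w = p := by rw [Subgroup.orderOf_coe]; exact hwc
    have hwcen : ∀ g : P, g * w = w * g := fun g => Subgroup.mem_center_iff.1 wc.2 g
    have hwE : w ∈ E := hS.cent (Subgroup.mem_centralizer_iff.2 fun a _ => hwcen a)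
    set N := Subgroup.zpowers w
    have hNn : N.Normal := ⟨fun a ha g => by
      obtain ⟨k, rfl⟩ := Subgroup.mem_zpowers_iff.1 ha
      rw [(Commute.zpow_right (hwcen g) k).eq, mul_inv_cancel_right]
      exact ha⟩
    set f := QuotientGroup.mk' N
    have hker : f.ker = N := QuotientGroup.ker_mk' N
    have hf : Function.Surjective f := QuotientGroup.mk'_surjective N
    have hQ : IsPGroup p (P ⧸ N) := hP.to_quotient N
    have hkE : ∀ j, f.ker ≤ tower E j := fun j => hker.trans_le
      ((Subgroup.zpowers_le.2 hwE).trans (tower_mono E (Nat.zero_le j)))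
    have hlt : Nat.card (P ⧸ N) < n := by
      rw [← hn, ← Subgroup.index_eq_card, ← Subgroup.card_mul_index N, Nat.card_zpowers, hwp]
      exact lt_mul_of_one_lt_left (Nat.pos_of_ne_zero Subgroup.index_ne_zero_of_finite) hpF.out.one_lt
    have hnormE : ∀ g, (∀ a ∈ E, ⁅g, a⁆ ∈ E) → g ∈ tower E 1 := by
      intro g hg
      show g ∈ Subgroup.normalizer (E : Set P)
      rw [mem_normalizer_iff_map']
      refine Subgroup.eq_of_le_of_card_ge (Subgroup.map_le_iff_le_comap.2 fun a ha => ?_)
        (le_of_eq (Nat.card_congr (E.equivMapOfInjective _ (MulAut.conj g).injective).toEquiv))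
      have := mul_mem (hg a ha) ha
      rwa [commutatorElement_def, inv_mul_cancel_right] at this
    have hcomm_ker : ∀ g, f g ∈ Subgroup.centralizer ((E.map f : Subgroup _) : Set (P ⧸ N)) →
        ∀ a ∈ E, ⁅g, a⁆ ∈ N := by
      intro g hg a ha
      rw [← hker, MonoidHom.mem_ker, map_commutatorElement, commutatorElement_eq_one_iff_mul_comm]
      exact (Subgroup.mem_centralizer_iff.1 hg _ (Subgroup.mem_map_of_mem f ha)).symm
    by_cases hz : z ∈ N
    · -- `z` is central: shift the tower
      have hzN : Subgroup.zpowers z = N := Subgroup.eq_of_le_of_card_ge (Subgroup.zpowers_le.2 hz)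
        (by rw [Nat.card_zpowers, Nat.card_zpowers, hzp, hwp])
      have hS' : Soft p ((tower E 1).map f) := by
        refine ⟨?_, ?_, ?_⟩
        · rintro _ ⟨a, ha, rfl⟩ _ ⟨b, hb, rfl⟩
          rw [← commutatorElement_eq_one_iff_mul_comm, ← map_commutatorElement, ← MonoidHom.mem_ker,
            hker, ← hzN, hder]
          exact Subgroup.commutator_mem_commutator ha hb
        · intro q hq
          obtain ⟨g, rfl⟩ := hf q
          refine Subgroup.mem_map_of_mem f (hnormE g fun a ha => ?_)
          refine Subgroup.zpowers_le.2 hwE (hcomm_ker g ?_ a ha)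
          exact Subgroup.centralizer_le (Subgroup.map_mono (tower_le_succ E 0)) hq
        · rw [show Subgroup.normalizer (((tower E 1).map f : Subgroup _) : Set (P ⧸ N)) =
            tower ((tower E 1).map f) 1 from rfl, map_tower f hf E 1 (hkE 1) 1,
            map_relIndex f (hkE 1) (tower_le_succ E 1)]
          exact hidx2
      by_cases h2 : tower E 2 = ⊤
      · refine ⟨fun j hj => ?_, fun i hi => ?_⟩
        · rcases j with _ | _ | j
          · exact hS.idx
          · exact hidx2
          · exact absurd h2 (tower_ne_top E (by omega) hj)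
        · rcases i with _ | _ | i
          · exact hlcs0
          · rw [Subgroup.lowerCentralSeries_succ, Subgroup.lowerCentralSeries_succ,
              Subgroup.lowerCentralSeries_zero, ← hder]
            exact Subgroup.commutator_eq_bot_iff_le_centralizer.2 (Subgroup.zpowers_le.2
              (Subgroup.mem_centralizer_iff.2 fun g hg => hzc g hg))
          · exact absurd h2 (tower_ne_top E (by omega) hi)
      obtain ⟨hI, hC⟩ := ih _ hlt (P ⧸ N) rfl hQ _ hS'
        (by rw [map_tower f hf E 1 (hkE 1)]; exact map_ne_top f (hkE 2) h2)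
      refine ⟨fun j hj => ?_, fun i hi => ?_⟩
      · rcases j with _ | j
        · exact hS.idx
        · have := hI j (by rw [map_tower f hf E 1 (hkE 1)]; exact map_ne_top f (hkE _) hj)
          rwa [map_tower f hf E 1 (hkE 1), map_tower f hf E 1 (hkE 1),
            map_relIndex f (hkE _) (tower_le_succ E _)] at this
      · rcases i with _ | i
        · exact hlcs0
        · have h3 := hC i (by rw [map_tower f hf E 1 (hkE 1)]; exact map_ne_top f (hkE _) hi)
          rw [map_tower f hf E 1 (hkE 1)] at h3
          have h4 := lcs_map_bot f h3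
          rw [hker] at h4
          rw [Subgroup.lowerCentralSeries_succ]
          refine Subgroup.commutator_eq_bot_iff_le_centralizer.2 (h4.trans (Subgroup.zpowers_le.2 ?_))
          exact Subgroup.mem_centralizer_iff.2 fun g _ => hwcen g
    · -- the tower is unchanged
      have hdisj : ∀ a : P, a ∈ N → a ∈ Subgroup.zpowers z → a = 1 := by
        intro a ha ha'
        by_contra h
        obtain ⟨k, hk⟩ : ∃ k : ℕ, a = w ^ k :=
          (mem_powers_iff_mem_zpowers.2 ha).imp fun k hk => hk.symm
        have hap : orderOf a = p := by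
          refine orderOf_eq_prime ?_ h
          rw [hk, ← pow_mul, mul_comm, pow_mul, ← hwp, pow_orderOf_eq_one, one_pow]
        have h5 : Subgroup.zpowers a = Subgroup.zpowers z :=
          Subgroup.eq_of_le_of_card_ge (Subgroup.zpowers_le.2 ha') (by rw [Nat.card_zpowers, Nat.card_zpowers, hap, hzp])
        exact hz (Subgroup.zpowers_le.2 ha (h5 ▸ Subgroup.mem_zpowers z))
      have hcE : ∀ g, (∀ a ∈ E, ⁅g, a⁆ ∈ N) → g ∈ E := by
        intro g hg
        have hgT : g ∈ tower E 1 := hnormE g fun a ha => Subgroup.zpowers_le.2 hwE (hg a ha)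
        refine hS.cent (Subgroup.mem_centralizer_iff.2 fun a ha => ?_)
        exact (commutatorElement_eq_one_iff_mul_comm.1 (hdisj _ (hg a ha)
          (hder ▸ Subgroup.commutator_mem_commutator hgT (tower_le_succ E 0 ha)))).symm
      have hS' : Soft p ((tower E 0).map f) := by
        refine ⟨?_, ?_, ?_⟩
        · rintro _ ⟨a, ha, rfl⟩ _ ⟨b, hb, rfl⟩
          rw [← map_mul, ← map_mul, hS.comm a ha b hb]
        · intro q hq
          obtain ⟨g, rfl⟩ := hf q
          exact Subgroup.mem_map_of_mem f (hcE g (hcomm_ker g hq))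
        · rw [show Subgroup.normalizer (((tower E 0).map f : Subgroup _) : Set (P ⧸ N)) =
            tower ((tower E 0).map f) 1 from rfl, map_tower f hf E 0 (hkE 0) 1,
            map_relIndex f (hkE 0) (tower_le_succ E 0)]
          exact hS.idx
      obtain ⟨hI, hC⟩ := ih _ hlt (P ⧸ N) rfl hQ _ hS'
        (by rw [map_tower f hf E 0 (hkE 0)]; exact map_ne_top f (hkE _) h1)
      have hidx : ∀ j, tower E j ≠ ⊤ → (tower E j).relIndex (tower E (j + 1)) = p := by
        intro j hj
        have := hI j (by rw [map_tower f hf E 0 (hkE 0)]; exact map_ne_top f (hkE _) hj)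
        rwa [map_tower f hf E 0 (hkE 0), map_tower f hf E 0 (hkE 0),
          map_relIndex f (hkE _) (tower_le_succ E _)] at this
      refine ⟨hidx, fun i hi => ?_⟩
      have h3 := hC i (by rw [map_tower f hf E 0 (hkE 0)]; exact map_ne_top f (hkE _) hi)
      rw [map_tower f hf E 0 (hkE 0), Nat.add_zero] at h3
      have h4 := lcs_map_bot f h3
      rw [hker] at h4
      set K := tower E i
      set X := K.lowerCentralSeries i
      have hXE : X ≤ E := fun g hg => hcE g fun a ha =>
        h4 (Subgroup.commutator_mem_commutator hg (tower_mono E (Nat.zero_le i) ha))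
      have hCn : tower E (i + 1) ≤ Subgroup.normalizer (Subgroup.centralizer (X : Set P) : Set P) := by
        have hKX : ∀ g ∈ tower E (i + 1), X.map (MulAut.conj g).toMonoidHom = X := by
          intro g hg
          show (K.lowerCentralSeries i).map (MulAut.conj g).toMonoidHom = _
          rw [Subgroup.map_lowerCentralSeries, mem_normalizer_iff_map'.1 hg]
        intro g hg
        rw [mem_normalizer_iff_map']
        refine Subgroup.eq_of_le_of_card_ge (Subgroup.map_le_iff_le_comap.2 fun a ha => ?_)
          (le_of_eq (Nat.card_congr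
            ((Subgroup.centralizer (X : Set P)).equivMapOfInjective _ (MulAut.conj g).injective).toEquiv))
        refine Subgroup.mem_centralizer_iff.2 fun b hb => ?_
        rw [SetLike.mem_coe, ← hKX g hg] at hb
        obtain ⟨b', hb', rfl⟩ := hb
        show MulAut.conj g b' * MulAut.conj g a = MulAut.conj g a * MulAut.conj g b'
        rw [← map_mul, ← map_mul, Subgroup.mem_centralizer_iff.1 ha b' hb']
      have hcl := closure_eq hP hidx hi (H := Subgroup.centralizer (X : Set P))
        (fun a ha => Subgroup.mem_centralizer_iff.2 fun b hb => hS.comm b (hXE hb) a ha) hCn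
      rw [Subgroup.lowerCentralSeries_succ]
      refine Subgroup.commutator_eq_bot_iff_le_centralizer.2 fun a ha =>
        Subgroup.mem_centralizer_iff.2 fun b hb => ?_
      exact (Subgroup.mem_centralizer_iff.1 (hcl hb) a ha).symm

theorem main (hP : IsPGroup p P) (E : Subgroup P) (hEab : IsMulCommutative ↥E)
    (hC : Subgroup.centralizer (E : Set P) ≤ E)
    (hN : (E.subgroupOf (Subgroup.normalizer (E : Set P))).index = p) (hidx : p ^ 2 ≤ E.index) :
    (∀ K L : Subgroup P, E ≤ K → E ≤ L → K ≤ L ∨ L ≤ K) ∧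
      (∀ K : Subgroup P, E ≤ K → K ≠ ⊤ → (K.subgroupOf (Subgroup.normalizer (K : Set P))).index = p) ∧
      ∀ (i : ℕ) (K : Subgroup P) [Group.IsNilpotent ↥K], E ≤ K → K ≠ ⊤ → K.index * p ^ i = E.index →
        Group.nilpotencyClass ↥K = i + 1 := by
  classical
  have hp2 := hpF.out.two_le
  have hS : Soft p E :=
    ⟨fun a ha b hb => congrArg Subtype.val (hEab.is_comm.comm (⟨a, ha⟩ : E) ⟨b, hb⟩), hC, hN⟩
  have h1 : tower E 1 ≠ ⊤ := by
    intro h
    have h2 : E.relIndex (tower E 1) = p := hN
    rw [h, Subgroup.relIndex_top_right] at h2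
    rw [h2] at hidx
    nlinarith
  have hE1 : E ≠ ⊥ := fun h => h1 (by
    show Subgroup.normalizer (E : Set P) = ⊤
    rw [h]; exact Subgroup.normalizer_eq_top_iff.2 inferInstance)
  obtain ⟨hI, hL⟩ := main_steps _ P rfl hP E hS h1
  have hmem : ∀ K : Subgroup P, E ≤ K → ∃ j, K = tower E j := by
    intro K hK
    by_contra hcon
    simp only [not_exists] at hcon
    have hall : ∀ j, tower E j ≤ K := by
      intro j
      induction j with
      | zero => exact hK
      | succ j ih =>
        by_cases htop : tower E j = ⊤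
        · rw [htop] at ih; exact le_top.trans ih
        have hlt : tower E j < K := lt_of_le_of_ne ih (Ne.symm (hcon j))
        have := (hP.to_subgroup K).isNilpotent
        have h3 : (tower E j).subgroupOf K < ⊤ := lt_top_iff_ne_top.2 fun h =>
          hlt.not_ge (Subgroup.subgroupOf_eq_top.1 h)
        obtain ⟨a, ha, hanot⟩ := SetLike.exists_of_lt (Group.normalizerCondition_of_isNilpotent _ h3)
        have han : (a : P) ∈ tower E (j + 1) := by
          show (a : P) ∈ Subgroup.normalizer (tower E j : Set P)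
          have ha' := Subgroup.mem_normalizer_iff.1 ha
          rw [Subgroup.mem_normalizer_iff]
          intro v
          constructor
          · intro hv; exact (ha' ⟨v, ih hv⟩).1 hv
          · intro hv
            have hvK : v ∈ K := by
              have := mul_mem (mul_mem (inv_mem a.2) (ih hv)) a.2
              simpa [mul_assoc] using this
            exact (ha' ⟨v, hvK⟩).2 hv
        have hle : tower E j ≤ K ⊓ tower E (j + 1) := le_inf ih (tower_le_succ E j)
        have h4 := Subgroup.relIndex_mul_relIndex _ (K ⊓ tower E (j + 1)) _ hle inf_le_right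
        rw [hI j htop] at h4
        rcases (Nat.dvd_prime hpF.out).1 (Dvd.intro _ h4) with h5 | h5
        · exact absurd (Subgroup.relIndex_eq_one.1 h5 ⟨a.2, han⟩) hanot
        · rw [h5] at h4
          exact (Subgroup.relIndex_eq_one.1
            (Nat.eq_of_mul_eq_mul_left hpF.out.pos (by rw [h4, mul_one]) :
              (K ⊓ tower E (j + 1)).relIndex (tower E (j + 1)) = 1)).trans inf_le_left
    have hcard : ∀ j, j < Nat.card (tower E j) := by
      intro j
      induction j with
      | zero => exact Nat.card_pos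
      | succ j ih =>
        have hne : tower E j ≠ ⊤ := fun h => hcon j (le_antisymm (h ▸ le_top) (hall j))
        have hlt := lt_succ hP E hne
        have : Nat.card (tower E j) < Nat.card (tower E (j + 1)) :=
          Set.Finite.card_lt_card (Set.toFinite _) hlt
        omega
    have h9 := hcard (Nat.card P)
    exact absurd (Subgroup.card_le_card_group (tower E (Nat.card P))) (not_le.2 h9)
  have hindex : ∀ j, tower E j ≠ ⊤ → (tower E j).index * p ^ j = E.index := by
    intro j hj
    induction j with
    | zero => simp [tower]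
    | succ j ih =>
      have hj' := tower_ne_top E (Nat.le_succ j) hj
      rw [← ih hj', ← Subgroup.relIndex_mul_index (tower_le_succ E j), hI j hj', pow_succ]
      ring
  refine ⟨fun K L hK hL' => ?_, fun K hK hne => ?_, fun i K _ hK hne hi => ?_⟩
  · obtain ⟨a, rfl⟩ := hmem K hK
    obtain ⟨b, rfl⟩ := hmem L hL'
    exact (le_total a b).imp (fun h => tower_mono E h) (fun h => tower_mono E h)
  · obtain ⟨j, rfl⟩ := hmem K hK
    exact hI j hne
  · obtain ⟨j, rfl⟩ := hmem K hK
    have hij : i = j := by
      have h2 := hindex j hne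
      rw [← h2] at hi
      exact Nat.pow_right_injective hp2 (Nat.eq_of_mul_eq_mul_left
        (Nat.pos_of_ne_zero Subgroup.index_ne_zero_of_finite) hi)
    subst hij
    have hconv : ∀ m, (⊤ : Subgroup (tower E i)).lowerCentralSeries m = ⊥ ↔
        (tower E i).lowerCentralSeries m = ⊥ := by
      intro m
      have h := Subgroup.top_subtype_lowerCentralSeries (tower E i) m
      rw [← h]
      exact (Subgroup.map_eq_bot_iff_of_injective _ (Subgroup.subtype_injective _)).symm
    refine le_antisymm ?_ ?_
    · rw [← Subgroup.lowerCentralSeries_eq_bot_iff_nilpotencyClass_le, hconv]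
      exact hL i hne
    · rw [Nat.succ_le_iff, ← not_le, ← Subgroup.lowerCentralSeries_eq_bot_iff_nilpotencyClass_le,
        hconv]
      refine lcs_ne_bot hP hS ?_ hE1
      rcases i with _ | i
      · exact Or.inl rfl
      · exact Or.inr (tower_ne_top E (by simp) hne)

end Cfsg.Agent.SoftSubgroups56
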