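import Mathlib
import Cfsg.Agent.S3861

/-!
Insoluble groups contain a generalised dihedral subgroup with two coprime class sizes
(the odd order theorem is a hypothesis).
-/

set_option autoImplicit false

namespace Cfsg.Agent.SolvableClassSizes56

universe u

variable {G : Type u} [Group G] [Finite G]

/-- Without real elements of odd order the group is solvable. -/
theorem solvable_of_no_real_odd
    (hFT : ∀ (K : Type u) [Group K] [Finite K], Odd (Nat.card K) → Group.IsSolvable K)
    (h : ∀ x : G, x ≠ 1 → Odd (orderOf x) → ¬ IsConj x x⁻¹) : Group.IsSolvable G := by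
  haveI : Fact (Nat.Prime 2) := ⟨Nat.prime_two⟩
  let P : Sylow 2 G := default
  haveI := (Cfsg.Agent.S3861.result P).1 h
  have hodd : Odd (Nat.card (G ⧸ (P : Subgroup G))) := by
    rw [← Subgroup.index_eq_card, ← Nat.not_even_iff_odd, even_iff_two_dvd]
    exact P.not_dvd_index
  haveI := hFT _ hodd
  haveI : Group.IsNilpotent (P : Subgroup G) := P.isPGroup'.isNilpotent
  haveI : Group.IsSolvable (P : Subgroup G) := inferInstance
  exact Group.isSolvable_of_ker_le_range (P : Subgroup G).subtype (QuotientGroup.mk' (P : Subgroup G))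
    (by rw [QuotientGroup.ker_mk', Subgroup.range_subtype])

omit [Finite G] in
theorem conj_pow_inverts {g x : G} (hg : g * x * g⁻¹ = x⁻¹) (n : ℕ) :
    g ^ n * x * (g ^ n)⁻¹ = if Even n then x else x⁻¹ := by
  induction n with
  | zero => simp
  | succ n ih =>
    rw [show g ^ (n + 1) * x * (g ^ (n + 1))⁻¹ = g * (g ^ n * x * (g ^ n)⁻¹) * g⁻¹ by
      rw [pow_succ']; group, ih]
    by_cases hn : Even n
    · simp [hn, hg, Nat.even_add_one]
    · simp only [hn, if_false, Nat.even_add_one, not_false_eq_true, if_true]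
      rw [show g * x⁻¹ * g⁻¹ = (g * x * g⁻¹)⁻¹ by group, hg, inv_inv]

/-- A real element of odd order is inverted by a `2`-element. -/
theorem exists_two_element_inverting {x : G} (hreal : IsConj x x⁻¹) :
    ∃ (s : G) (k : ℕ), orderOf s = 2 ^ k ∧ s * x * s⁻¹ = x⁻¹ := by
  obtain ⟨g, hg⟩ := isConj_iff.1 hreal
  obtain ⟨k, m, hm, hk⟩ := Nat.exists_eq_two_pow_mul_odd (orderOf_pos g).ne'
  refine ⟨g ^ m, k, ?_, ?_⟩
  · rw [orderOf_pow_of_dvd hm.pos.ne' (by rw [hk]; exact dvd_mul_left _ _), hk,
      Nat.mul_div_cancel _ hm.pos]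
  · rw [conj_pow_inverts hg, if_neg (Nat.not_even_iff_odd.2 hm)]

/-- Two coprime non-trivial class sizes in a subgroup. -/
theorem exists_coprime_classes {x : G} (hx1 : x ≠ 1) (hxo : Odd (orderOf x)) (hreal : IsConj x x⁻¹) :
    ∃ (H : Subgroup G) (a b : H), 1 < (Subgroup.centralizer ({a} : Set H)).index ∧
      1 < (Subgroup.centralizer ({b} : Set H)).index ∧
      (Subgroup.centralizer ({a} : Set H)).index.Coprime (Subgroup.centralizer ({b} : Set H)).index := by
  classical
  obtain ⟨s, k, hsk, hsx⟩ := exists_two_element_inverting hreal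
  have hxx : x ≠ x⁻¹ := fun e => by
    have h2 : x ^ 2 = 1 := by rw [sq]; nth_rewrite 2 [e]; exact mul_inv_cancel x
    exact hx1 (orderOf_eq_one_iff.1 (Nat.eq_one_of_dvd_coprimes (Nat.coprime_two_left.2 hxo)
      (orderOf_dvd_of_pow_eq_one h2) dvd_rfl))
  set H : Subgroup G := Subgroup.closure {x, s} with hH
  let a : H := ⟨x, Subgroup.subset_closure (Set.mem_insert _ _)⟩
  let b : H := ⟨s, Subgroup.subset_closure (Set.mem_insert_of_mem _ rfl)⟩
  have hba : b * a * b⁻¹ = a⁻¹ := Subtype.ext hsx
  have hb' : b⁻¹ * a * b = a⁻¹ := by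
    have h1 : b⁻¹ * a⁻¹ * b = a := by rw [← hba]; group
    calc b⁻¹ * a * b = (b⁻¹ * a⁻¹ * b)⁻¹ := by group
      _ = a⁻¹ := by rw [h1]
  have htop : Subgroup.closure ({a, b} : Set H) = ⊤ := by
    apply Subgroup.map_injective H.subtype_injective
    rw [MonoidHom.map_closure, ← MonoidHom.range_eq_map, Subgroup.range_subtype, Set.image_pair]
    exact hH.symm
  let L : Subgroup H :=
    { carrier := {g | g * a * g⁻¹ = a ∨ g * a * g⁻¹ = a⁻¹}
      one_mem' := Or.inl (by simp)
      mul_mem' := by
        intro g h hg hh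
        simp only [Set.mem_setOf_eq] at *
        rw [show g * h * a * (g * h)⁻¹ = g * (h * a * h⁻¹) * g⁻¹ by group]
        rcases hh with hh | hh <;> rw [hh]
        · exact hg
        · rw [show g * a⁻¹ * g⁻¹ = (g * a * g⁻¹)⁻¹ by group, inv_eq_iff_eq_inv, inv_inj]
          exact hg.symm
      inv_mem' := by
        intro g hg
        simp only [Set.mem_setOf_eq] at *
        rcases hg with hg | hg
        · left
          calc g⁻¹ * a * g⁻¹⁻¹ = g⁻¹ * (g * a * g⁻¹) * g := by rw [hg, inv_inv]
            _ = a := by group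
        · right
          calc g⁻¹ * a * g⁻¹⁻¹ = (g⁻¹ * (g * a * g⁻¹) * g)⁻¹ := by rw [hg]; group
            _ = a⁻¹ := by group }
  have hL : ∀ g : H, g * a * g⁻¹ = a ∨ g * a * g⁻¹ = a⁻¹ := by
    intro g
    have : (⊤ : Subgroup H) ≤ L := by
      rw [← htop, Subgroup.closure_le]
      rintro g (rfl | rfl)
      · exact Or.inl (by group)
      · exact Or.inr hba
    exact this (Subgroup.mem_top g)
  have hCa : ∀ g : H, g ∈ Subgroup.centralizer ({a} : Set H) ↔ g * a * g⁻¹ = a := fun g => by
    rw [Subgroup.mem_centralizer_singleton_iff, mul_inv_eq_iff_eq_mul]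
  have ha2 : a ≠ a⁻¹ := fun e => hxx (congrArg Subtype.val e)
  have hidx : (Subgroup.centralizer ({a} : Set H)).index = 2 := by
    refine Subgroup.index_eq_two_iff.2 ⟨b, fun g => ?_⟩
    rw [hCa, hCa, show g * b * a * (g * b)⁻¹ = g * (b * a * b⁻¹) * g⁻¹ by group, hba,
      show g * a⁻¹ * g⁻¹ = (g * a * g⁻¹)⁻¹ by group]
    rcases hL g with h | h
    · exact Or.inr ⟨h, fun e => ha2 (by rw [h] at e; exact e.symm)⟩
    · exact Or.inl ⟨by rw [h, inv_inv], fun e => ha2 (by rw [h] at e; exact e.symm)⟩
  have hXn : (Subgroup.zpowers a).Normal := ⟨fun n hn g => by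
    obtain ⟨i, rfl⟩ := Subgroup.mem_zpowers_iff.1 hn
    rw [← conj_zpow]
    rcases hL g with h | h <;> rw [h]
    · exact Subgroup.zpow_mem _ (Subgroup.mem_zpowers a) i
    · exact Subgroup.zpow_mem _ (Subgroup.inv_mem _ (Subgroup.mem_zpowers a)) i⟩
  haveI := hXn
  have hcompl : Subgroup.IsComplement' (Subgroup.zpowers a) (Subgroup.zpowers b) := by
    refine Subgroup.isComplement'_of_disjoint_and_mul_eq_univ ?_ ?_
    · refine disjoint_iff.2 (Subgroup.inf_eq_bot_of_coprime ?_)
      rw [Nat.card_zpowers, Nat.card_zpowers, ← Subgroup.orderOf_coe a, ← Subgroup.orderOf_coe b]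
      show (orderOf x).Coprime (orderOf s)
      rw [hsk]
      exact ((Nat.coprime_two_left.2 hxo).pow_left k).symm
    · rw [← Subgroup.normal_mul]
      have : Subgroup.zpowers a ⊔ Subgroup.zpowers b = (⊤ : Subgroup H) := by
        rw [eq_top_iff, ← htop, Subgroup.closure_le]
        rintro g (rfl | rfl)
        · exact Subgroup.mem_sup_left (Subgroup.mem_zpowers a)
        · exact Subgroup.mem_sup_right (Subgroup.mem_zpowers b)
      rw [this, Subgroup.coe_top]
  have hle : Subgroup.zpowers b ≤ Subgroup.centralizer ({b} : Set H) :=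
    Subgroup.zpowers_le.2 (Subgroup.mem_centralizer_singleton_iff.2 rfl)
  have hdvd : (Subgroup.centralizer ({b} : Set H)).index ∣ orderOf x := by
    refine (Subgroup.index_dvd_of_le hle).trans ?_
    rw [hcompl.index_eq_card, Nat.card_zpowers, ← Subgroup.orderOf_coe a]
  have hne : (Subgroup.centralizer ({b} : Set H)).index ≠ 1 := by
    intro e
    rw [Subgroup.index_eq_one] at e
    have h1 := Subgroup.mem_centralizer_singleton_iff.1 (e ▸ Subgroup.mem_top a :
      a ∈ Subgroup.centralizer ({b} : Set H))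
    refine ha2 ?_
    rw [← hba, ← h1, mul_inv_cancel_right]
  refine ⟨H, a, b, by omega, ?_, ?_⟩
  · have := Nat.pos_of_dvd_of_pos hdvd (orderOf_pos x)
    omega
  · rw [hidx]
    exact (Nat.coprime_two_left.2 hxo).coprime_dvd_right hdvd

/-- The statement, with the odd order theorem as a hypothesis. -/
theorem main (hFT : ∀ (K : Type u) [Group K] [Finite K], Odd (Nat.card K) → Group.IsSolvable K)
    (h : ∀ (H : Subgroup G) (x y : H), 1 < (Subgroup.centralizer ({x} : Set H)).index →
      1 < (Subgroup.centralizer ({y} : Set H)).index →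
      ¬ ((Subgroup.centralizer ({x} : Set H)).index).Coprime (Subgroup.centralizer ({y} : Set H)).index) :
    Group.IsSolvable G := by
  refine solvable_of_no_real_odd hFT fun x hx hxo hreal => ?_
  obtain ⟨H, a, b, ha, hb, hab⟩ := exists_coprime_classes hx hxo hreal
  exact h H a b ha hb hab

end Cfsg.Agent.SolvableClassSizes56
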