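import Mathlib
import Cfsg.Prelude.Def_GeometricClasses
import Cfsg.Agent.Lib.TransvectionMax
import Cfsg.Agent.Lib.TransvectionSymp

/-!
The normaliser in `Sp₄(q)`, `q ≥ 3`, of a self-adjoint quadratic extension field `K` (the group `Sp₂(q²).2`): a larger
isometry group contains a transvection. Key point: the stabiliser of a vector `v` moves the line `K v`, and then
three one-parameter families of short root elements with centre through `v` differ by a transvection.
-/

set_option autoImplicit false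
set_option linter.unusedSectionVars false

namespace Cfsg.Agent.Sp4ExtField97

open Cfsg.Agent.TransvectionMax
open scoped MatrixGroups Matrix

variable {F : Type*} [Field F] {ι : Type} [Fintype ι] [DecidableEq ι]
variable {f : (ι → F) → (ι → F) → F}

/-- The element `x ↦ x + s (f(x,w) v + f(x,v) w + c f(x,v) v)`. -/
noncomputable def E (f : (ι → F) → (ι → F) → F) (v w : ι → F) (c s : F) : GL ι F :=
  st f (v + w) s * st f v (-s) * st f w (-s) * st f v (s * c)

variable (hf : Cfsg.Geo.IsSymplecticForm f)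
include hf

theorem E_act {v w : ι → F} (hvw : f v w = 0) (c s : F) (x : ι → F) :
    (E f v w c s : Matrix ι ι F) *ᵥ x = x + (s * f x w) • v + (s * f x v) • w + (s * c * f x v) • v := by
  have hwv : f w v = 0 := TransvectionSymp.skew_zero hf hvw
  simp only [E, mul_act, st_act hf, hf.bilinear.add_left, hf.bilinear.smul_left, hf.bilinear.add_right,
    hvw, hwv, hf.alternating]
  module

theorem E_preserves (v w : ι → F) (c s : F) (x y : ι → F) :
    f ((E f v w c s : Matrix ι ι F) *ᵥ x) ((E f v w c s : Matrix ι ι F) *ᵥ y) = f x y := by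
  simp only [E, mul_act, st_preserves hf]

theorem E_conj {g : GL ι F} (hg : ∀ x y, f ((g : Matrix ι ι F) *ᵥ x) ((g : Matrix ι ι F) *ᵥ y) = f x y)
    (v w : ι → F) (c s : F) :
    g * E f v w c s * g⁻¹ = E f ((g : Matrix ι ι F) *ᵥ v) ((g : Matrix ι ι F) *ᵥ w) c s := by
  simp only [E, ← Matrix.mulVec_add, ← st_conj hf hg]
  group

/-- Three families of short root elements differ by a transvection. -/
theorem families {v a b : ι → F} (hva : f v a = 0) (hvb : f v b = 0) (p μ l : F) :
    E f v b (-p) l * E f v a (-p) (l * μ) * E f v (b + μ • a) (-p) (-l)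
      = st f v (l * μ * (l * f a b - p)) := gl_ext fun x => by
  have h3 : f v (b + μ • a) = 0 := by rw [hf.bilinear.add_right, hf.bilinear.smul_right, hva, hvb]; ring
  rw [mul_act, mul_act, E_act hf h3, E_act hf hva, E_act hf hvb, st_act hf]
  simp only [hf.bilinear.add_left, hf.bilinear.smul_left, hf.bilinear.add_right, hf.bilinear.smul_right,
    hf.alternating, hva, hvb, TransvectionSymp.skew_zero hf hva, TransvectionSymp.skew_zero hf hvb,
    hf.skew b a]
  module

section Field

variable {k : Matrix ι ι F} {p r : F}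
variable (hk2 : k * k = p • k + r • 1) (hadj : ∀ x y, f (k *ᵥ x) y = f x (k *ᵥ y))
  (halt : ∀ x, f (k *ᵥ x) x = 0)

include hk2 in
theorem kk (x : ι → F) : k *ᵥ (k *ᵥ x) = p • (k *ᵥ x) + r • x := by
  rw [Matrix.mulVec_mulVec, hk2, Matrix.add_mulVec, Matrix.smul_mulVec, Matrix.smul_mulVec, Matrix.one_mulVec]

include halt in
theorem f_self_k (x : ι → F) : f x (k *ᵥ x) = 0 := TransvectionSymp.skew_zero hf (halt x)

/-- The K-linear root element with centre `K d` and parameter `α + β k`. -/
noncomputable def T (f : (ι → F) → (ι → F) → F) (k : Matrix ι ι F) (p r : F) (d : ι → F) (α β : F) : GL ι F :=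
  E f d (k *ᵥ d) (-p) α * (st f (k *ᵥ d) β * st f d (r * β))

include halt in
theorem T_act (d : ι → F) (α β : F) (x : ι → F) :
    (T f k p r d α β : Matrix ι ι F) *ᵥ x =
      x + (α * f x (k *ᵥ d) - α * p * f x d + r * β * f x d) • d + (α * f x d + β * f x (k *ᵥ d)) • (k *ᵥ d) := by
  have h0 := f_self_k hf halt d
  simp only [T, mul_act, E_act hf h0, st_act hf, hf.bilinear.add_left, hf.bilinear.smul_left, hf.alternating,
    h0, halt d]
  module

theorem T_preserves (d : ι → F) (α β : F) (x y : ι → F) :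
    f ((T f k p r d α β : Matrix ι ι F) *ᵥ x) ((T f k p r d α β : Matrix ι ι F) *ᵥ y) = f x y := by
  simp only [T, mul_act, E_preserves hf, st_preserves hf]

include hk2 hadj halt in
theorem T_comm (d : ι → F) (α β : F) :
    (T f k p r d α β : Matrix ι ι F) * k = k * (T f k p r d α β : Matrix ι ι F) := by
  apply Matrix.ext_iff_mulVec.mpr
  intro x
  rw [← Matrix.mulVec_mulVec, ← Matrix.mulVec_mulVec, T_act hf halt, T_act hf halt]
  simp only [Matrix.mulVec_add, Matrix.mulVec_smul, kk hf hk2, hadj, hf.bilinear.add_right,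
    hf.bilinear.smul_right]
  module

end Field

/-- The transvection form of the maximality of `Sp₂(q²).2` in `Sp₄(q)`. -/
theorem all_transvections [Fintype F] (h4 : Fintype.card ι = 4) (h3 : 3 ≤ Fintype.card F)
    (K : Subalgebra F (Matrix ι ι F)) (hK : Cfsg.Geo.IsFieldSubalgebra 2 K)
    (hsa : Cfsg.Geo.IsSelfAdjointFor f K) (halt' : ∀ c ∈ K, ∀ v, f (c *ᵥ v) v = 0)
    (M : Subgroup (GL ι F))
    (hH : ∀ g : GL ι F, (∀ x y, f ((g : Matrix ι ι F) *ᵥ x) ((g : Matrix ι ι F) *ᵥ y) = f x y) →
      g ∈ Cfsg.Geo.subalgebraNormalizer K → g ∈ M)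
    (hiso : ∀ g ∈ M, ∀ x y, f ((g : Matrix ι ι F) *ᵥ x) ((g : Matrix ι ι F) *ᵥ y) = f x y)
    (hne : ¬ M ≤ Cfsg.Geo.subalgebraNormalizer K) :
    ∀ u c, st f u c ∈ M := by
  classical
  haveI : Nonempty ι := Fintype.card_pos_iff.1 (by omega)
  -- a generator
  obtain ⟨k, hk, hkn⟩ : ∃ k ∈ K, ∀ c : F, k ≠ c • 1 := by
    by_contra! h
    have hbot : K = ⊥ := eq_bot_iff.2 fun x hx => by
      obtain ⟨c, hc⟩ := h x hx
      exact Algebra.mem_bot.2 ⟨c, by rw [hc, Algebra.algebraMap_eq_smul_one]⟩
    have := hK.finrank_eq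
    rw [hbot, Subalgebra.finrank_bot] at this
    omega
  have hspanK : ∀ x ∈ K, ∃ α β : F, x = α • (1 : Matrix ι ι F) + β • k := by
    intro x hx
    have hli : LinearIndependent F ![(1 : K), ⟨k, hk⟩] := by
      rw [LinearIndependent.pair_iff]
      intro s t hst
      have hst' : s • (1 : Matrix ι ι F) + t • k = 0 := by simpa using congrArg Subtype.val hst
      by_cases ht : t = 0
      · subst ht
        simp only [zero_smul, add_zero] at hst'
        exact ⟨(smul_eq_zero.1 hst').resolve_right one_ne_zero, rfl⟩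
      · refine absurd ?_ (hkn (-(t⁻¹ * s)))
        rw [neg_smul, mul_smul, eq_neg_iff_add_eq_zero]
        have := congrArg (fun m => t⁻¹ • m) hst'
        simpa [smul_add, smul_smul, inv_mul_cancel₀ ht, add_comm] using this
    haveI : FiniteDimensional F K := Module.finite_of_finrank_eq_succ hK.finrank_eq
    have htop := hli.span_eq_top_of_card_eq_finrank (by rw [Fintype.card_fin]; exact hK.finrank_eq.symm)
    have : (⟨x, hx⟩ : K) ∈ Submodule.span F (Set.range ![(1 : K), ⟨k, hk⟩]) := htop ▸ Submodule.mem_top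
    obtain ⟨c, hc⟩ := (Submodule.mem_span_range_iff_exists_fun F).1 this
    refine ⟨c 0, c 1, ?_⟩
    have := congrArg Subtype.val hc
    simpa [Fin.sum_univ_two] using this.symm
  obtain ⟨r, p, hk2'⟩ := hspanK _ (K.mul_mem hk hk)
  have hk2 : k * k = p • k + r • 1 := by rw [hk2', add_comm]
  have hadj : ∀ x y, f (k *ᵥ x) y = f x (k *ᵥ y) := hsa k hk
  have halt : ∀ x, f (k *ᵥ x) x = 0 := halt' k hk
  have hb := hf.bilinear
  -- K-lines
  let L : (ι → F) → Submodule F (ι → F) := fun y => Submodule.span F {y, k *ᵥ y}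
  have hL : ∀ y x, x ∈ L y ↔ ∃ α β : F, α • y + β • (k *ᵥ y) = x := fun y x => Submodule.mem_span_pair
  have hLk : ∀ y x, x ∈ L y → k *ᵥ x ∈ L y := by
    intro y x hx
    obtain ⟨α, β, rfl⟩ := (hL y x).1 hx
    refine (hL y _).2 ⟨β * r, α + β * p, ?_⟩
    rw [Matrix.mulVec_add, Matrix.mulVec_smul, Matrix.mulVec_smul, kk hf hk2]
    module
  have hdiv : ∀ {α β : F} {y z : ι → F}, α • z + β • (k *ᵥ z) ∈ L y → z ∉ L y → α = 0 ∧ β = 0 := by
    intro α β y z hmem hz
    by_contra hne
    have hne' : α • (1 : Matrix ι ι F) + β • k ≠ 0 := by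
      intro h
      by_cases hβ : β = 0
      · subst hβ
        simp only [zero_smul, add_zero] at h
        exact hne ⟨(smul_eq_zero.1 h).resolve_right one_ne_zero, rfl⟩
      · refine hkn (-(β⁻¹ * α)) ?_
        rw [neg_smul, mul_smul, eq_neg_iff_add_eq_zero]
        have := congrArg (fun m => β⁻¹ • m) h
        simpa [smul_add, smul_smul, inv_mul_cancel₀ hβ, add_comm] using this
    obtain ⟨w, hw, hwe⟩ := hK.inv _ (K.add_mem (K.smul_mem K.one_mem α) (K.smul_mem hk β)) hne'
    rw [hK.comm _ (K.add_mem (K.smul_mem K.one_mem α) (K.smul_mem hk β)) w hw] at hwe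
    obtain ⟨α', β', rfl⟩ := hspanK w hw
    apply hz
    have e : z = α' • (α • z + β • (k *ᵥ z)) + β' • (k *ᵥ (α • z + β • (k *ᵥ z))) := by
      have := congrArg (fun m => m *ᵥ z) hwe
      simp only [← Matrix.mulVec_mulVec, Matrix.add_mulVec, Matrix.smul_mulVec, Matrix.one_mulVec] at this
      exact this.symm
    rw [e]
    exact add_mem ((L y).smul_mem _ hmem) ((L y).smul_mem _ (hLk y _ hmem))
  have hind : ∀ {y : ι → F}, y ≠ 0 → ∀ {α β : F}, α • y + β • (k *ᵥ y) = 0 → α = 0 ∧ β = 0 := by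
    intro y hy α β h
    refine hdiv (y := 0) (z := y) (by rw [h]; exact zero_mem _) fun hmem => hy ?_
    obtain ⟨a, b, hab⟩ := (hL 0 y).1 hmem
    simpa using hab.symm
  have hperp : ∀ {y x : ι → F}, y ≠ 0 → f x y = 0 → f x (k *ᵥ y) = 0 → x ∈ L y := by
    intro y x hy h1 h2
    let Φ : (ι → F) →ₗ[F] F × F := (fLeft hb y).prod (fLeft hb (k *ᵥ y))
    have hsurj : LinearMap.range Φ = ⊤ := by
      by_contra hne'
      obtain ⟨φ, hφ, hker⟩ := Submodule.exists_le_ker_of_lt_top _ (lt_top_iff_ne_top.2 hne')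
      apply hφ
      have hst : φ (1, 0) • y + φ (0, 1) • (k *ᵥ y) = 0 := by
        by_contra hs
        obtain ⟨⟨z, hz⟩, -⟩ := hf.nondegenerate _ hs
        apply hz
        rw [hb.add_right, hb.smul_right, hb.smul_right]
        have := LinearMap.mem_ker.1 (hker ⟨z, rfl⟩)
        rw [show Φ z = f z y • ((1 : F), (0 : F)) + f z (k *ᵥ y) • ((0 : F), (1 : F)) from
          Prod.ext (by simp [Φ, fLeft]) (by simp [Φ, fLeft]), map_add, map_smul, map_smul] at this
        linear_combination this
      obtain ⟨e1, e2⟩ := hind hy hst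
      apply LinearMap.ext
      rintro ⟨s, t⟩
      rw [show ((s, t) : F × F) = s • ((1 : F), (0 : F)) + t • ((0 : F), (1 : F)) from
        Prod.ext (by simp) (by simp), map_add, map_smul, map_smul, e1, e2]
      simp
    have hle : L y ≤ LinearMap.ker Φ := by
      refine Submodule.span_le.2 ?_
      rintro z (rfl | rfl)
      · exact Prod.ext (hf.alternating z) (f_self_k hf halt z)
      · exact Prod.ext (halt y) (hf.alternating _)
    have hdimL : Module.finrank F (L y) = 2 := by
      have hli : LinearIndependent F ![y, k *ᵥ y] := LinearIndependent.pair_iff.2 fun s t h => hind hy h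
      have := finrank_span_eq_card hli
      rwa [Fintype.card_fin, show Set.range ![y, k *ᵥ y] = {y, k *ᵥ y} by
        simp [Matrix.range_cons, Set.pair_comm]] at this
    have hdim : Module.finrank F (LinearMap.ker Φ) = 2 := by
      have := LinearMap.finrank_range_add_finrank_ker Φ
      rw [hsurj, finrank_top, Module.finrank_prod, Module.finrank_self, Module.finrank_fintype_fun_eq_card,
        h4] at this
      omega
    rw [Submodule.eq_of_le_of_finrank_eq hle (hdimL.trans hdim.symm)]
    exact Prod.ext h1 h2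
  have hout : ∀ y : ι → F, ∃ z, z ∉ L y := by
    intro y
    by_contra! h
    have h1 : Module.finrank F (L y) ≤ 2 := by
      have := finrank_span_finset_le_card (R := F) ({y, k *ᵥ y} : Finset (ι → F))
      rw [Finset.coe_insert, Finset.coe_singleton] at this
      exact this.trans Finset.card_le_two
    rw [Submodule.eq_top_iff'.2 h, finrank_top, Module.finrank_fintype_fun_eq_card, h4] at h1
    omega
  -- the K-linear root elements lie in the normaliser
  have hT : ∀ d α β, T f k p r d α β ∈ M := fun d α β => by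
    refine hH _ (T_preserves hf d α β) ?_
    set t := T f k p r d α β
    have hc : ∀ c ∈ K, (t : Matrix ι ι F) * c = c * (t : Matrix ι ι F) := fun c hc => by
      obtain ⟨a, b, rfl⟩ := hspanK c hc
      rw [mul_add, add_mul, Matrix.mul_smul, Matrix.mul_smul, Matrix.smul_mul, Matrix.smul_mul, one_mul, mul_one,
        T_comm hf hk2 hadj halt]
    intro c
    constructor
    · intro h
      rwa [hc c h, mul_assoc, ← Units.val_mul, mul_inv_cancel, Units.val_one, mul_one]
    · intro h
      have h1 := hc _ h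
      rw [mul_assoc _ ((t⁻¹ : GL ι F) : Matrix ι ι F), ← Units.val_mul, inv_mul_cancel, Units.val_one, mul_one]
        at h1
      have h2 := (Units.mul_right_inj t).1 h1
      rw [h2] at h
      exact h
  -- transitivity of the stabiliser
  have trans1 : ∀ {x y : ι → F}, x ≠ 0 → y - x ∉ L x →
      ∃ h ∈ M, (h : Matrix ι ι F) *ᵥ x = y ∧
        ∀ z, (h : Matrix ι ι F) *ᵥ (k *ᵥ z) = k *ᵥ ((h : Matrix ι ι F) *ᵥ z) := by
    intro x y hx hd
    set d := y - x with hdd
    set A := f x (k *ᵥ d) - p * f x d with hA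
    set B := f x d with hB
    have hne0 : A • (1 : Matrix ι ι F) + B • k ≠ 0 := by
      intro h
      have h' : A • x + B • (k *ᵥ x) = 0 := by
        have := congrArg (fun m => m *ᵥ x) h
        simpa [Matrix.add_mulVec, Matrix.smul_mulVec] using this
      obtain ⟨e1, e2⟩ := hind hx h'
      apply hd
      refine hperp hx (TransvectionSymp.skew_zero hf e2) ?_
      rw [← hadj]
      refine TransvectionSymp.skew_zero hf ?_
      rw [hA, e2, mul_zero, sub_zero] at e1
      exact e1
    obtain ⟨w, hw, hwe⟩ := hK.inv _ (K.add_mem (K.smul_mem K.one_mem A) (K.smul_mem hk B)) hne0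
    rw [hK.comm _ (K.add_mem (K.smul_mem K.one_mem A) (K.smul_mem hk B)) w hw] at hwe
    obtain ⟨α, β, rfl⟩ := hspanK w hw
    refine ⟨_, hT d α β, ?_, fun z => by
      rw [Matrix.mulVec_mulVec, Matrix.mulVec_mulVec, T_comm hf hk2 hadj halt]⟩
    have e := congrArg (fun m => m *ᵥ d) hwe
    simp only [← Matrix.mulVec_mulVec, Matrix.add_mulVec, Matrix.smul_mulVec, Matrix.one_mulVec,
      Matrix.mulVec_add, Matrix.mulVec_smul, kk hf hk2] at e
    rw [T_act hf halt, ← hB]
    have e3 : y = x + d := by rw [hdd]; abel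
    rw [e3]
    conv_rhs => rw [← e]
    rw [hA]
    module
  have trans : ∀ {x y : ι → F}, x ≠ 0 → y ≠ 0 → ∃ h ∈ M, (h : Matrix ι ι F) *ᵥ x = y ∧
      ∀ z, (h : Matrix ι ι F) *ᵥ (k *ᵥ z) = k *ᵥ ((h : Matrix ι ι F) *ᵥ z) := by
    intro x y hx hy
    by_cases hd : y - x ∈ L x
    · obtain ⟨z, hz⟩ := hout x
      have hxm : x ∈ L x := Submodule.subset_span (Set.mem_insert _ _)
      have hym : y ∈ L x := by simpa using add_mem hd hxm
      have hz0 : z ≠ 0 := fun h => hz (h ▸ zero_mem _)
      obtain ⟨h1, hh1, e1, c1⟩ := trans1 hx (y := z) fun h => hz (by simpa using add_mem h hxm)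
      obtain ⟨h2, hh2, e2, c2⟩ := trans1 hz0 (y := y) fun h => by
        have hym' : y ∈ L z := by simpa using add_mem h (Submodule.subset_span (Set.mem_insert z _) : z ∈ L z)
        obtain ⟨a, b, hab⟩ := (hL z y).1 hym'
        obtain ⟨ha, hb'⟩ := hdiv (hab ▸ hym) hz
        exact hy (by rw [← hab, ha, hb']; simp)
      exact ⟨h2 * h1, M.mul_mem hh2 hh1, by rw [mul_act, e1, e2],
        fun w => by rw [mul_act, mul_act, c1, c2]⟩
    · exact trans1 hx hd
  -- some element fixes a vector and moves its line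
  obtain ⟨g, hg, v, hv, hgv, hgk⟩ : ∃ g ∈ M, ∃ v, v ≠ 0 ∧ (g : Matrix ι ι F) *ᵥ v = v ∧
      (g : Matrix ι ι F) *ᵥ (k *ᵥ v) ∉ L v := by
    by_contra! hcon
    apply hne
    intro g hg
    have line : ∀ g ∈ M, ∀ v, (g : Matrix ι ι F) *ᵥ (k *ᵥ v) ∈ L ((g : Matrix ι ι F) *ᵥ v) := by
      intro g hg v
      by_cases hv : v = 0
      · subst hv; simp
      obtain ⟨h, hh, he, hcm⟩ := trans (x := v) hv (act_ne_zero g hv)
      have h1 := hcon (h⁻¹ * g) (M.mul_mem (M.inv_mem hh) hg) v hv (by rw [mul_act, ← he, inv_act_act])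
      obtain ⟨α, β, hab⟩ := (hL v _).1 h1
      refine (hL _ _).2 ⟨α, β, ?_⟩
      have h5 := congrArg (fun w => (h : Matrix ι ι F) *ᵥ w) hab
      simp only [Matrix.mulVec_add, Matrix.mulVec_smul, hcm, he, mul_act, act_inv_act] at h5
      exact h5
    have conj : ∀ g ∈ M, ∀ c ∈ K,
        (g : Matrix ι ι F) * c * ((g⁻¹ : GL ι F) : Matrix ι ι F) ∈ K := by
      intro g hg c hc
      obtain ⟨a, b, rfl⟩ := hspanK c hc
      set G := (g : Matrix ι ι F) * k * ((g⁻¹ : GL ι F) : Matrix ι ι F) with hG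
      suffices hGK : G ∈ K by
        have e : (g : Matrix ι ι F) * (a • (1 : Matrix ι ι F) + b • k) * ((g⁻¹ : GL ι F) : Matrix ι ι F) =
            a • (1 : Matrix ι ι F) + b • G := by
          rw [hG, mul_add, add_mul, Matrix.mul_smul, Matrix.mul_smul, Matrix.smul_mul, Matrix.smul_mul,
            mul_one, ← Units.val_mul, mul_inv_cancel, Units.val_one]
        rw [e]
        exact K.add_mem (K.smul_mem K.one_mem a) (K.smul_mem hGK b)
      have hGy : ∀ y, ∃ α β : F, α • y + β • (k *ᵥ y) = G *ᵥ y := fun y => by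
        have h1 := line g hg (((g⁻¹ : GL ι F) : Matrix ι ι F) *ᵥ y)
        rw [act_inv_act, Matrix.mulVec_mulVec, Matrix.mulVec_mulVec, ← hG] at h1
        exact (hL _ _).1 h1
      choose α β hαβ using hGy
      have key : ∀ y z, y ≠ 0 → z ∉ L y → α z = α y ∧ β z = β y := by
        intro y z hy hz
        have h1 := hαβ (y + z)
        rw [Matrix.mulVec_add, Matrix.mulVec_add, ← hαβ y, ← hαβ z] at h1
        have h5 : (α z - α (y + z)) • z + (β z - β (y + z)) • (k *ᵥ z) =
            (α (y + z) - α y) • y + (β (y + z) - β y) • (k *ᵥ y) := by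
          linear_combination (norm := module) -h1
        obtain ⟨e1, e2⟩ := hdiv (h5 ▸ (hL y _).2 ⟨_, _, rfl⟩) hz
        obtain ⟨e3, e4⟩ := hind hy (by rw [← h5, e1, e2]; simp)
        exact ⟨by linear_combination e1 + e3, by linear_combination e2 + e4⟩
      obtain ⟨y0, hy0⟩ := exists_ne (0 : ι → F)
      obtain ⟨z0, hz0⟩ := hout y0
      have hGeq : G = α y0 • (1 : Matrix ι ι F) + β y0 • k := by
        apply Matrix.ext_iff_mulVec.mpr
        intro y
        rw [Matrix.add_mulVec, Matrix.smul_mulVec, Matrix.smul_mulVec, Matrix.one_mulVec, ← hαβ y]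
        by_cases hy : y = 0
        · simp [hy]
        by_cases hy1 : y ∈ L y0
        · have hz1 : z0 ∉ L y := fun h => hz0 (by
            obtain ⟨a', b', e⟩ := (hL y _).1 h
            rw [← e]
            exact add_mem ((L y0).smul_mem _ hy1) ((L y0).smul_mem _ (hLk _ _ hy1)))
          obtain ⟨e1, e2⟩ := key y z0 hy hz1
          obtain ⟨e3, e4⟩ := key y0 z0 hy0 hz0
          rw [← e1, ← e2, e3, e4]
        · obtain ⟨e1, e2⟩ := key y0 y hy0 hy1
          rw [e1, e2]
      rw [hGeq]
      exact K.add_mem (K.smul_mem K.one_mem _) (K.smul_mem hk _)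
    intro c
    refine ⟨conj g hg c, fun h => ?_⟩
    have := conj g⁻¹ (M.inv_mem hg) _ h
    simpa [← mul_assoc, mul_assoc c] using this
  have hb' : ∀ g ∈ M, ∀ w c s, E f v w c s ∈ M → (g : Matrix ι ι F) *ᵥ v = v →
      E f v ((g : Matrix ι ι F) *ᵥ w) c s ∈ M := fun g hg w c s hm e => by
    have := M.mul_mem (M.mul_mem hg hm) (M.inv_mem hg)
    rwa [E_conj hf (hiso g hg), e] at this
  set a := k *ᵥ v with ha
  set b := (g : Matrix ι ι F) *ᵥ a with hbdef
  have hva : f v a = 0 := f_self_k hf halt v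
  have hvb : f v b = 0 := by rw [hbdef]; nth_rw 1 [← hgv]; rw [hiso g hg]; exact hva
  have hba : f b a ≠ 0 := fun h => hgk (hperp hv (TransvectionSymp.skew_zero hf hvb) h)
  have fam1 : ∀ s, E f v a (-p) s ∈ M := fun s => by
    have := hT v s 0
    simpa [T, st_zero hf, ← ha] using this
  have fam2 : ∀ s, E f v b (-p) s ∈ M := fun s => hb' g hg a _ s (fam1 s) hgv
  set μ := f b a with hμ
  have fam3 : ∀ s, E f v (b + μ • a) (-p) s ∈ M := fun s => by
    have h1 : (T f k p r v 0 1 : Matrix ι ι F) *ᵥ v = v := by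
      rw [T_act hf halt, hf.alternating, ← ha, hva]; simp
    have := hb' _ (hT v 0 1) b _ s (fam2 s) h1
    rw [T_act hf halt, TransvectionSymp.skew_zero hf hvb, ← ha, ← hμ] at this
    simpa using this
  obtain ⟨l, hl0, hl1⟩ : ∃ l : F, l ≠ 0 ∧ l * f a b - p ≠ 0 := by
    obtain ⟨l, hl⟩ := (({0, p / f a b} : Finset F)ᶜ).card_pos.1 (by
      rw [Finset.card_compl]
      have := Finset.card_le_two (a := (0 : F)) (b := p / f a b)
      omega)
    simp only [Finset.mem_compl, Finset.mem_insert, Finset.mem_singleton, not_or] at hl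
    refine ⟨l, hl.1, fun h => hl.2 ?_⟩
    rw [eq_div_iff (TransvectionSymp.skew_ne hf hba)]
    linear_combination h
  set c₀ := l * μ * (l * f a b - p) with hc₀
  have hc : st f v c₀ ∈ M := by
    rw [hc₀, ← families hf hva hvb]
    exact M.mul_mem (M.mul_mem (fam2 _) (fam1 _)) (fam3 _)
  have hc0 : c₀ ≠ 0 := mul_ne_zero (mul_ne_zero hl0 hba) hl1
  have hsq : ∀ (u : ι → F) (s : F), st f u (c₀ * s ^ 2) ∈ M := fun u s => by
    rw [← st_smul hf]
    by_cases hu : s • u = 0
    · rw [hu, show st f (0 : ι → F) c₀ = 1 from gl_ext fun x => by simp [st_act hf, one_act]]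
      exact M.one_mem
    obtain ⟨h, hh, he, -⟩ := trans hv hu
    rw [← he, ← st_conj hf (hiso h hh)]
    exact M.mul_mem (M.mul_mem hh hc) (M.inv_mem hh)
  intro u c
  by_cases h2 : (2 : F) = 0
  · obtain ⟨y, hy⟩ := FiniteField.isSquare_of_char_two (F := F)
      (CharP.ringChar_of_prime_eq_zero Nat.prime_two (by simpa using h2)) (c / c₀)
    have := hsq u y
    rwa [sq, ← hy, mul_div_cancel₀ _ hc0] at this
  · have h1 := hsq u ((c / c₀ + 1) / 2)
    have h5 := hsq u ((c / c₀ - 1) / 2)
    have := M.mul_mem h1 (M.inv_mem h5)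
    rw [show (st f u (c₀ * ((c / c₀ - 1) / 2) ^ 2))⁻¹ = st f u (-(c₀ * ((c / c₀ - 1) / 2) ^ 2)) from
      inv_eq_of_mul_eq_one_right (by rw [st_add hf, add_neg_cancel, st_zero hf]), st_add hf] at this
    convert this using 2
    field_simp
    ring

end Cfsg.Agent.Sp4ExtField97
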