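import Cfsg.Prelude.Def_GeometricClasses
import Cfsg.Agent.Lib.TransvectionSymp
import Cfsg.Agent.Lib.PSLSimple

set_option autoImplicit false
open Cfsg

namespace Cfsg.Agent.Sp4PairMax44

open Cfsg.Agent.TransvectionMax Cfsg.Agent.TransvectionSymp
open scoped MatrixGroups Matrix

section

variable {F : Type*} [Field F] {ι : Type} [Fintype ι] [DecidableEq ι]
  {f : (ι → F) → (ι → F) → F} (hf : Cfsg.Geo.IsSymplecticForm f)
include hf

/-- The element x ↦ x + f(x,a)b + f(x,b)a for orthogonal a, b. -/
lemma pair_act {a b : ι → F} (hab : f a b = 0) (x : ι → F) :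
    ((st f (a + b) 1 * st f a (-1) * st f b (-1) : GL ι F) : Matrix ι ι F) *ᵥ x
      = x + f x a • b + f x b • a := by
  have hba : f b a = 0 := TransvectionSymp.skew_zero hf hab
  simp only [mul_act, st_act hf, hf.bilinear.add_left, hf.bilinear.smul_left, hf.bilinear.add_right,
    hab, hba, hf.alternating]
  module

lemma pair_iso (a b : ι → F) (x y : ι → F) :
    f (((st f (a + b) 1 * st f a (-1) * st f b (-1) : GL ι F) : Matrix ι ι F) *ᵥ x)
      (((st f (a + b) 1 * st f a (-1) * st f b (-1) : GL ι F) : Matrix ι ι F) *ᵥ y) = f x y := by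
  simp only [mul_act, st_preserves hf]

variable {U W : Submodule F (ι → F)} (hUW : IsCompl U W)
  (hU : Cfsg.Geo.IsTotallySingularFor f U) (hW : Cfsg.Geo.IsTotallySingularFor f W)
include hUW hU hW

lemma f_U {a x : ι → F} (ha : a ∈ U) : f x a = f (W.projection U hUW.symm x) a := by
  conv_lhs => rw [← U.projection_add_projection_eq_self hUW x]
  rw [hf.bilinear.add_left, hU _ (U.projection_apply_mem hUW x) a ha, zero_add]

lemma f_U' {a x : ι → F} (ha : a ∈ U) : f a x = f a (W.projection U hUW.symm x) := by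
  rw [hf.skew a x, f_U hf hUW hU hW ha, ← hf.skew]

lemma f_W {b x : ι → F} (hb : b ∈ W) : f x b = f (U.projection W hUW x) b :=
  f_U (U := W) (W := U) hf hUW.symm hW hU hb

/-- Vectors of U separate W. -/
lemma dual_sep {z : ι → F} {Z : Submodule F (ι → F)} (hz : z ∈ W) (hZ : Z ≤ W) (hzZ : z ∉ Z) :
    ∃ c ∈ U, (∀ x ∈ Z, f x c = 0) ∧ f z c ≠ 0 := by
  obtain ⟨a, ha, hza⟩ := exists_perp_ne hf hzZ
  have key : ∀ x ∈ W, f x a = f x (U.projection W hUW a) := fun x hx =>
    f_U' (U := W) (W := U) hf hUW.symm hW hU hx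
  exact ⟨_, U.projection_apply_mem hUW a, fun x hx => by rw [← key x (hZ hx)]; exact ha x hx,
    by rwa [← key z hz]⟩

end

lemma fr2 {F : Type*} [Field F] {ι : Type} [Fintype ι] (a b : ι → F) :
    Module.finrank F (Submodule.span F {a, b}) ≤ 2 := by
  have h1 : ∀ c : ι → F, Module.finrank F (Submodule.span F {c}) ≤ 1 := fun c =>
    (finrank_span_le_card ({c} : Set (ι → F))).trans (by simp)
  rw [Submodule.span_insert]
  exact (Submodule.finrank_add_le_finrank_add_finrank _ _).trans (Nat.add_le_add (h1 a) (h1 b))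

lemma finrank_ker_inf {F : Type*} [Field F] {ι : Type} [Fintype ι] (X : Submodule F (ι → F))
    (L : (ι → F) →ₗ[F] F) :
    Module.finrank F X ≤ Module.finrank F (X ⊓ LinearMap.ker L : Submodule F (ι → F)) + 1 := by
  have h1 := Submodule.finrank_sup_add_finrank_inf_eq X (LinearMap.ker L)
  have h2 := Submodule.finrank_le (X ⊔ LinearMap.ker L)
  have h3 := LinearMap.finrank_range_add_finrank_ker L
  have h4 : Module.finrank F (LinearMap.range L) ≤ 1 :=
    (Submodule.finrank_le _).trans_eq (Module.finrank_self F)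
  omega

/-- For a finite field F of odd order at least 5 and m = 2 (Sp_4), let D be a decomposition of F^(2m) into two complementary subspaces of dimension m on each of which the standard alternating form vanishes identically. Then the elements of Sp_2m(F) preserving or interchanging the two subspaces form a maximal subgroup of Sp_2m(F). -/
theorem isMaximalIn_stab {F : Type*} [Field F] [Fintype F] (m : ℕ) (hm : m = 2) (hodd : Odd (Fintype.card F)) (h5 : 5 ≤ Fintype.card F) (D : Fin 2 → Submodule F (Fin m ⊕ Fin m → F)) (hD : Cfsg.Geo.IsMDecomposition m D) (hts : ∀ i, Cfsg.Geo.IsTotallySingularFor (Cfsg.sympForm m F) (D i)) : Cfsg.Geo.IsMaximalIn (Cfsg.spGL m F) (Cfsg.Geo.decompositionStabilizer D ⊓ Cfsg.spGL m F) := by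
  have hf := sympForm_isSymplecticForm (F := F) m
  have hb := hf.bilinear
  set f := Cfsg.sympForm m F
  obtain ⟨-, hm0, hkd, hindep, htop⟩ := hD
  have h2 : (2 : F) ≠ 0 := Ring.two_ne_zero fun hc => by
    have := FiniteField.even_card_of_char_two (F := F) hc
    rw [Nat.odd_iff] at hodd
    omega
  set U := D 0 with hUdef
  set W := D 1 with hWdef
  have hUts : Cfsg.Geo.IsTotallySingularFor f U := hts 0
  have hWts : Cfsg.Geo.IsTotallySingularFor f W := hts 1
  have hUW : IsCompl U W := by
    refine ⟨hindep.pairwiseDisjoint (show (0 : Fin 2) ≠ 1 by decide), codisjoint_iff.mpr (eq_top_iff.mpr ?_)⟩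
    rw [← htop]
    refine iSup_le fun i => ?_
    fin_cases i
    · exact le_sup_left
    · exact le_sup_right
  set pU := U.projection W hUW
  set pW := W.projection U hUW.symm
  have hpUmem : ∀ x, pU x ∈ U := fun x => U.projection_apply_mem hUW x
  have hpWmem : ∀ x, pW x ∈ W := fun x => W.projection_apply_mem hUW.symm x
  have hpadd : ∀ x, pU x + pW x = x := fun x => U.projection_add_projection_eq_self hUW x
  have fU : ∀ {a} x, a ∈ U → f x a = f (pW x) a := fun x ha => f_U hf hUW hUts hWts ha
  have fW : ∀ {b} x, b ∈ W → f x b = f (pU x) b := fun x hb => f_W hf hUW hUts hWts hb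
  have sepU : ∀ {z Z}, z ∈ W → Z ≤ W → z ∉ Z → ∃ c ∈ U, (∀ x ∈ Z, f x c = 0) ∧ f z c ≠ 0 :=
    fun hz hZ hzZ => dual_sep hf hUW hUts hWts hz hZ hzZ
  have sepW : ∀ {z Z}, z ∈ U → Z ≤ U → z ∉ Z → ∃ c ∈ W, (∀ x ∈ Z, f x c = 0) ∧ f z c ≠ 0 :=
    fun hz hZ hzZ => dual_sep hf hUW.symm hWts hUts hz hZ hzZ
  have spanLe : ∀ {X : Submodule F (Fin m ⊕ Fin m → F)} {p q}, p ∈ X → q ∈ X →
      Submodule.span F {p, q} ≤ X := fun hp hq => Submodule.span_le.mpr (by simp [Set.insert_subset_iff, hp, hq])
  have spanLe1 : ∀ {X : Submodule F (Fin m ⊕ Fin m → F)} {p}, p ∈ X → Submodule.span F {p} ≤ X :=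
    fun hp => (Submodule.span_singleton_le_iff_mem _ _).mpr hp
  set H := Cfsg.Geo.decompositionStabilizer D ⊓ Cfsg.spGL m F
  have hDne : ∀ i j, D i = D j → i = j := by
    intro i j he
    by_contra hne
    have hdis : Disjoint (D i) (D j) := hindep.pairwiseDisjoint hne
    rw [he, disjoint_self] at hdis
    have := hkd j
    rw [hdis, finrank_bot] at this
    omega
  have hmkH : ∀ {h : GL (Fin m ⊕ Fin m) F}, h ∈ Cfsg.spGL m F →
      (∀ i, ∃ j, ∀ v ∈ D i, (h : Matrix (Fin m ⊕ Fin m) (Fin m ⊕ Fin m) F) *ᵥ v ∈ D j) → h ∈ H := by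
    intro h hh hmap
    choose σ hσ using hmap
    let T : (Fin m ⊕ Fin m → F) →ₗ[F] (Fin m ⊕ Fin m → F) :=
      Matrix.toLin' (h : Matrix (Fin m ⊕ Fin m) (Fin m ⊕ Fin m) F)
    have hTi : Function.Injective T := fun a b hab =>
      act_injective h (by simpa [T, Matrix.toLin'_apply] using hab)
    have hTmap : ∀ i, (D i).map T = D (σ i) := fun i => by
      refine Submodule.eq_of_le_of_finrank_eq ?_ ?_
      · rintro _ ⟨x, hx, rfl⟩
        rw [Matrix.toLin'_apply]
        exact hσ i x hx
      · rw [← (Submodule.equivMapOfInjective T hTi (D i)).finrank_eq, hkd, hkd]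
    have hσi : Function.Injective σ := fun i j hij =>
      hDne i j (Submodule.map_injective_of_injective hTi (by rw [hTmap, hTmap, hij]))
    exact ⟨⟨Equiv.ofBijective σ (Finite.injective_iff_bijective.mp hσi), hTmap⟩, hh⟩
  let S2 : (Fin m ⊕ Fin m → F) → (Fin m ⊕ Fin m → F) → GL (Fin m ⊕ Fin m) F :=
    fun a b => st f (a + b) 1 * st f a (-1) * st f b (-1)
  have hS2 : ∀ {a b}, f a b = 0 → ∀ x, (S2 a b : Matrix (Fin m ⊕ Fin m) (Fin m ⊕ Fin m) F) *ᵥ x
      = x + f x a • b + f x b • a := fun hab x => pair_act hf hab x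
  have hS2comm : ∀ a b, f a b = 0 → S2 a b = S2 b a := fun a b hab => gl_ext fun x => by
    rw [hS2 hab, hS2 (TransvectionSymp.skew_zero hf hab)]
    abel
  have hS2H : ∀ {a b}, a ∈ U → b ∈ W → f a b = 0 → S2 a b ∈ H := fun {a b} ha hb' hab => by
    refine hmkH (fun x y => pair_iso hf a b x y) fun i => ⟨i, fun v hv => ?_⟩
    rw [hS2 hab]
    fin_cases i
    · change v + f v a • b + f v b • a ∈ U
      rw [hUts v hv a ha, zero_smul, add_zero]
      exact U.add_mem hv (U.smul_mem _ ha)
    · change v + f v a • b + f v b • a ∈ W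
      rw [hWts v hv b hb', zero_smul, add_zero]
      exact W.add_mem hv (W.smul_mem _ hb')
  have htorus : ∀ k : F, k ≠ 0 → ∃ t ∈ H,
      (∀ v ∈ U, (t : Matrix (Fin m ⊕ Fin m) (Fin m ⊕ Fin m) F) *ᵥ v = k • v) ∧
      ∀ v ∈ W, (t : Matrix (Fin m ⊕ Fin m) (Fin m ⊕ Fin m) F) *ᵥ v = k⁻¹ • v := by
    intro k hk
    let L : (Fin m ⊕ Fin m → F) →ₗ[F] (Fin m ⊕ Fin m → F) := k • pU + k⁻¹ • pW
    have hL : ∀ x, L x = k • pU x + k⁻¹ • pW x := fun x => rfl
    have hLU : ∀ v ∈ U, L v = k • v := fun v hv => by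
      rw [hL, show pW v = 0 from by simp [pW, hv], show pU v = v from by simp [pU, hv], smul_zero, add_zero]
    have hLW : ∀ v ∈ W, L v = k⁻¹ • v := fun v hv => by
      rw [hL, show pU v = 0 from by simp [pU, hv], show pW v = v from by simp [pW, hv], smul_zero, zero_add]
    have hiso : ∀ x y, f (L x) (L y) = f x y := fun x y => by
      conv_rhs => rw [← hpadd x, ← hpadd y]
      simp only [hL, hb.add_left, hb.add_right, hb.smul_left, hb.smul_right,
        hUts _ (hpUmem x) _ (hpUmem y), hWts _ (hpWmem x) _ (hpWmem y)]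
      field_simp
      ring
    have hinj : Function.Injective L := fun a c hac => by
      by_contra hne
      obtain ⟨z, hz⟩ := (hf.nondegenerate _ (sub_ne_zero.mpr hne)).1
      apply hz
      rw [TransvectionMax.sub_right hb, ← hiso z a, hac, hiso, sub_self]
    have hunit : IsUnit (LinearMap.toMatrix' L) := by
      rw [← Matrix.mulVec_injective_iff_isUnit]
      intro a c hac
      exact hinj (by simpa [LinearMap.toMatrix'_mulVec] using hac)
    have hact : ∀ x, (hunit.unit : Matrix (Fin m ⊕ Fin m) (Fin m ⊕ Fin m) F) *ᵥ x = L x := fun x => by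
      rw [IsUnit.unit_spec, LinearMap.toMatrix'_mulVec]
    refine ⟨hunit.unit, hmkH (fun x y => ?_) (fun i => ⟨i, fun v hv => ?_⟩),
      fun v hv => by rw [hact, hLU v hv], fun v hv => by rw [hact, hLW v hv]⟩
    · change f ((hunit.unit : Matrix (Fin m ⊕ Fin m) (Fin m ⊕ Fin m) F) *ᵥ x)
        ((hunit.unit : Matrix (Fin m ⊕ Fin m) (Fin m ⊕ Fin m) F) *ᵥ y) = f x y
      rw [hact, hact, hiso]
    · rw [hact]
      fin_cases i
      · change L v ∈ U
        rw [hLU v hv]
        exact U.smul_mem _ hv
      · change L v ∈ W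
        rw [hLW v hv]
        exact W.smul_mem _ hv
  -- an element exchanging U and W
  obtain ⟨J, hJH, hJU⟩ : ∃ J ∈ H, ∀ v ∈ U, (J : Matrix (Fin m ⊕ Fin m) (Fin m ⊕ Fin m) F) *ᵥ v ∈ W := by
    let e := Module.finBasisOfFinrankEq F U (show Module.finrank F U = m from hkd 0)
    let Φ : W →ₗ[F] (Fin m → F) := LinearMap.pi fun i => (fRight hb (e i : Fin m ⊕ Fin m → F)).comp W.subtype
    have hΦ : Function.Injective Φ := by
      rw [← LinearMap.ker_eq_bot, LinearMap.ker_eq_bot']
      intro w hw
      by_contra hw0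
      obtain ⟨c, hc, -, hwc⟩ := sepU w.2 (bot_le : ⊥ ≤ W) (by simpa using hw0)
      have h1 : ∀ u : U, u ∈ Submodule.span F (Set.range e) → f (u : Fin m ⊕ Fin m → F) w = 0 := by
        intro u hu
        induction hu using Submodule.span_induction with
        | mem u hu => obtain ⟨i, rfl⟩ := hu; exact congrFun hw i
        | zero => exact TransvectionMax.zero_left hb _
        | add p r _ _ hp hr => rw [Submodule.coe_add, hb.add_left, hp, hr, add_zero]
        | smul s p _ hp => rw [Submodule.coe_smul, hb.smul_left, hp, mul_zero]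
      exact hwc (TransvectionSymp.skew_zero hf (h1 ⟨c, hc⟩ (e.mem_span _)))
    have hΦs : Function.Surjective Φ := (LinearMap.injective_iff_surjective_of_finrank_eq_finrank
      (by rw [Module.finrank_fin_fun]; exact hkd 1)).mp hΦ
    choose w hw using fun j => hΦs (Pi.single j 1)
    let E : Fin m → Fin m ⊕ Fin m → F := fun i => (e i : Fin m ⊕ Fin m → F)
    let G : Fin m → Fin m ⊕ Fin m → F := fun i => (w i : Fin m ⊕ Fin m → F)
    have hEG : ∀ i j, f (E i) (G j) = if i = j then 1 else 0 := fun i j => by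
      have h1 : f (E i) (G j) = (Pi.single j (1 : F) : Fin m → F) i := congrFun (hw j) i
      rw [h1, Pi.single_apply]
    have hEE : ∀ i j, f (E i) (E j) = 0 := fun i j => hUts _ (e i).2 _ (e j).2
    have hGG : ∀ i j, f (G i) (G j) = 0 := fun i j => hWts _ (w i).2 _ (w j).2
    have hsum : ∀ x y, (∀ i, f (E i) x = f (E i) y) → (∀ i, f (G i) x = f (G i) y) → x = y := by
      intro x y hE hG
      by_contra hne
      obtain ⟨z, hz⟩ := (hf.nondegenerate _ (sub_ne_zero.mpr hne)).1
      apply hz
      have h1 : ∀ u : U, u ∈ Submodule.span F (Set.range e) → f (u : Fin m ⊕ Fin m → F) (x - y) = 0 := by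
        intro u hu
        induction hu using Submodule.span_induction with
        | mem u hu =>
          obtain ⟨i, rfl⟩ := hu
          rw [TransvectionMax.sub_right hb, hE i, sub_self]
        | zero => exact TransvectionMax.zero_left hb _
        | add p r _ _ hp hr => rw [Submodule.coe_add, hb.add_left, hp, hr, add_zero]
        | smul s p _ hp => rw [Submodule.coe_smul, hb.smul_left, hp, mul_zero]
      have hGspan : ∀ v ∈ W, v = ∑ j, f (E j) v • G j := by
        intro v hv
        have hval : ∀ i, f (E i) (∑ j, f (E j) v • G j) = f (E i) v := fun i => by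
          calc f (E i) (∑ j, f (E j) v • G j) = ∑ j, f (E i) (f (E j) v • G j) :=
                map_sum (fRight hb (E i)) _ _
            _ = f (E i) v := by simp [hb.smul_right, hEG]
        have hmem : ∑ j, f (E j) v • G j ∈ W := W.sum_mem fun j _ => W.smul_mem _ (w j).2
        exact congrArg Subtype.val (@hΦ ⟨v, hv⟩ ⟨_, hmem⟩ (funext fun i => (hval i).symm))
      rw [← hpadd z, hb.add_left, h1 ⟨pU z, hpUmem z⟩ (e.mem_span _), zero_add,
        hGspan (pW z) (hpWmem z)]
      rw [show f (∑ j, f (E j) (pW z) • G j) (x - y) = ∑ j, f (f (E j) (pW z) • G j) (x - y) from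
        map_sum (fLeft hb (x - y)) _ _]
      exact Finset.sum_eq_zero fun j _ => by
        rw [hb.smul_left, TransvectionMax.sub_right hb, hG j, sub_self, mul_zero]
    let L : (Fin m ⊕ Fin m → F) →ₗ[F] (Fin m ⊕ Fin m → F) :=
      ∑ i, ((fLeft hb (G i)).smulRight (G i) + (fLeft hb (E i)).smulRight (E i))
    have hL : ∀ x, L x = ∑ i, (f x (G i) • G i + f x (E i) • E i) := fun x => by
      simp [L, fLeft]
    have hLE : ∀ i x, f (E i) (L x) = f x (G i) := fun i x => by
      rw [hL, show f (E i) (∑ j, (f x (G j) • G j + f x (E j) • E j)) =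
        ∑ j, f (E i) (f x (G j) • G j + f x (E j) • E j) from map_sum (fRight hb _) _ _]
      simp [hb.add_right, hb.smul_right, hEG, hEE]
    have hLG : ∀ i x, f (G i) (L x) = - f x (E i) := fun i x => by
      rw [hL, show f (G i) (∑ j, (f x (G j) • G j + f x (E j) • E j)) =
        ∑ j, f (G i) (f x (G j) • G j + f x (E j) • E j) from map_sum (fRight hb _) _ _]
      simp [hb.add_right, hb.smul_right, hf.skew (G i) (E _), hEG, hGG]
    have hLL : ∀ x, L (L x) = -x := fun x => hsum _ _
      (fun i => by rw [hLE, hf.skew, hLG, neg_neg, TransvectionMax.neg_right hb, hf.skew (E i)]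
                   try ring)
      (fun i => by rw [hLG, hf.skew (L x), hLE, neg_neg, TransvectionMax.neg_right hb, hf.skew (G i)]
                   try ring)
    have hLinj : Function.Injective L := fun a c hac => by
      have := congrArg L hac
      rwa [hLL, hLL, neg_inj] at this
    have hunit : IsUnit (LinearMap.toMatrix' L) := by
      rw [← Matrix.mulVec_injective_iff_isUnit]
      intro a c hac
      exact hLinj (by simpa [LinearMap.toMatrix'_mulVec] using hac)
    have hJact : ∀ x, (hunit.unit : Matrix (Fin m ⊕ Fin m) (Fin m ⊕ Fin m) F) *ᵥ x = L x := fun x => by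
      rw [IsUnit.unit_spec, LinearMap.toMatrix'_mulVec]
    have hiso : ∀ x y, f (L x) (L y) = f x y := by
      intro x y
      have h1 : f (L x) (L y) = ∑ i, (f x (G i) * f (G i) (L y) + f x (E i) * f (E i) (L y)) := by
        rw [hL x, show f (∑ i, (f x (G i) • G i + f x (E i) • E i)) (L y) =
          ∑ i, f (f x (G i) • G i + f x (E i) • E i) (L y) from map_sum (fLeft hb _) _ _]
        simp [hb.add_left, hb.smul_left]
      have h3 : y = ∑ i, (f y (G i) • E i + (- f y (E i)) • G i) := hsum _ _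
        (fun i => by
          rw [show f (E i) (∑ j, (f y (G j) • E j + (- f y (E j)) • G j)) = ∑ j, f (E i)
            (f y (G j) • E j + (- f y (E j)) • G j) from map_sum (fRight hb _) _ _]
          simp [hb.add_right, hb.smul_right, TransvectionMax.neg_right hb, hEG, hEE, hf.skew (E i) y])
        (fun i => by
          rw [show f (G i) (∑ j, (f y (G j) • E j + (- f y (E j)) • G j)) = ∑ j, f (G i)
            (f y (G j) • E j + (- f y (E j)) • G j) from map_sum (fRight hb _) _ _]
          simp [hb.add_right, hb.smul_right, TransvectionMax.neg_right hb, hf.skew (G i) (E _), hEG, hGG,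
            hf.skew (G i) y])
      conv_rhs => rw [h3]
      rw [h1, show f x (∑ j, (f y (G j) • E j + (- f y (E j)) • G j)) = ∑ j, f x
        (f y (G j) • E j + (- f y (E j)) • G j) from map_sum (fRight hb _) _ _]
      refine Finset.sum_congr rfl fun i _ => ?_
      simp [hb.add_right, hb.smul_right, TransvectionMax.neg_right hb, hLE, hLG]
      ring
    have hmapU : ∀ v ∈ U, L v ∈ W := fun v hv => by
      rw [hL]
      refine W.sum_mem fun i _ => ?_
      rw [hUts v hv (E i) (e i).2, zero_smul, add_zero]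
      exact W.smul_mem _ (w i).2
    have hmapW : ∀ v ∈ W, L v ∈ U := fun v hv => by
      rw [hL]
      refine U.sum_mem fun i _ => ?_
      rw [hWts v hv (G i) (w i).2, zero_smul, zero_add]
      exact U.smul_mem _ (e i).2
    refine ⟨hunit.unit, hmkH (fun x y => ?_) (fun i => ?_), fun v hv => by rw [hJact]; exact hmapU v hv⟩
    · change f ((hunit.unit : Matrix (Fin m ⊕ Fin m) (Fin m ⊕ Fin m) F) *ᵥ x)
        ((hunit.unit : Matrix (Fin m ⊕ Fin m) (Fin m ⊕ Fin m) F) *ᵥ y) = f x y
      rw [hJact, hJact, hiso]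
    · fin_cases i
      · exact ⟨1, fun v hv => by rw [hJact]; exact hmapU v hv⟩
      · exact ⟨0, fun v hv => by rw [hJact]; exact hmapW v hv⟩
  obtain ⟨u0, hu0, hu00⟩ := Submodule.exists_mem_ne_zero_of_ne_bot (p := U) fun e => by
    have := hkd 0; rw [← hUdef, e, finrank_bot] at this; omega
  obtain ⟨w0, hw0, -, huw0⟩ := sepW hu0 (bot_le : ⊥ ≤ U) (by simpa using hu00)
  obtain ⟨μ, hμ0, hμ1⟩ : ∃ μ : F, μ ≠ 0 ∧ μ ^ 2 ≠ 1 := PSLSimple.exists_sq_ne_one
    (by rw [Nat.card_eq_fintype_card]; omega)
  have hμ1' : μ - 1 ≠ 0 := fun h => hμ1 (by rw [sub_eq_zero.mp h, one_pow])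
  have hμn : μ + 1 ≠ 0 := fun h => hμ1 (by rw [eq_neg_of_add_eq_zero_left h]; ring)
  have hμi : μ - μ⁻¹ ≠ 0 := fun h => hμ1 (by
    have h' := congrArg (μ * ·) h
    simp only [mul_sub, mul_inv_cancel₀ hμ0, mul_zero] at h'
    linear_combination h')
  -- scaling a hyperbolic pair
  have hD : ∀ z ∈ U, ∀ z' ∈ W, f z z' = 1 → ∃ h ∈ H, ∀ x,
      (h : Matrix (Fin m ⊕ Fin m) (Fin m ⊕ Fin m) F) *ᵥ x =
        x + ((μ - 1) * f x z') • z + ((μ⁻¹ - 1) * f z x) • z' := by
    intro z hz z' hz' hzz
    let L : (Fin m ⊕ Fin m → F) →ₗ[F] (Fin m ⊕ Fin m → F) :=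
      LinearMap.id + (μ - 1) • (fLeft hb z').smulRight z + (μ⁻¹ - 1) • (fRight hb z).smulRight z'
    have hLapp : ∀ x, L x = x + ((μ - 1) * f x z') • z + ((μ⁻¹ - 1) * f z x) • z' := fun x => by
      simp [L, fLeft, fRight, smul_smul]
    have hz'z : f z' z = -1 := by rw [hf.skew, hzz]
    have hiso : ∀ x y, f (L x) (L y) = f x y := fun x y => by
      simp only [hLapp, hb.add_left, hb.add_right, hb.smul_left, hb.smul_right, hf.alternating, hzz, hz'z,
        hf.skew x z, hf.skew z' y]
      field_simp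
      ring
    have hinj : Function.Injective L := fun a c hac => by
      by_contra hne
      obtain ⟨w, hw⟩ := (hf.nondegenerate _ (sub_ne_zero.mpr hne)).1
      apply hw
      rw [TransvectionMax.sub_right hb, ← hiso w a, hac, hiso, sub_self]
    have hunit : IsUnit (LinearMap.toMatrix' L) := by
      rw [← Matrix.mulVec_injective_iff_isUnit]
      intro a c hac
      exact hinj (by simpa [LinearMap.toMatrix'_mulVec] using hac)
    have hact : ∀ x, (hunit.unit : Matrix (Fin m ⊕ Fin m) (Fin m ⊕ Fin m) F) *ᵥ x = L x := fun x => by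
      rw [IsUnit.unit_spec, LinearMap.toMatrix'_mulVec]
    refine ⟨hunit.unit, hmkH (fun x y => ?_) (fun i => ⟨i, fun v hv => ?_⟩), fun x => by rw [hact, hLapp]⟩
    · change f ((hunit.unit : Matrix (Fin m ⊕ Fin m) (Fin m ⊕ Fin m) F) *ᵥ x)
        ((hunit.unit : Matrix (Fin m ⊕ Fin m) (Fin m ⊕ Fin m) F) *ᵥ y) = f x y
      rw [hact, hact, hiso]
    · rw [hact, hLapp]
      fin_cases i
      · change v + _ + _ ∈ U
        rw [hUts z hz v hv, mul_zero, zero_smul, add_zero]
        exact U.add_mem hv (U.smul_mem _ hz)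
      · change v + _ + _ ∈ W
        rw [hWts v hv z' hz', mul_zero, zero_smul, add_zero]
        exact W.add_mem hv (W.smul_mem _ hz')
  have hpairing : ∀ {X Y : Submodule F (Fin m ⊕ Fin m → F)}, Module.finrank F X = m →
      ∀ p, ∃ z ∈ X, z ≠ 0 ∧ f z p = 0 := by
    intro X Y hX p
    obtain ⟨z, hz, hz0⟩ := Submodule.exists_mem_ne_zero_of_ne_bot (p := X ⊓ LinearMap.ker (fLeft hb p)) fun e => by
      have h1 := finrank_ker_inf X (fLeft hb p)
      rw [e, finrank_bot] at h1
      omega
    exact ⟨z, hz.1, hz0, hz.2⟩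
  have hUm : Module.finrank F U = m := hkd 0
  have hWm : Module.finrank F W = m := hkd 1
  have hplane : ∀ {X : Submodule F (Fin m ⊕ Fin m → F)} {p q}, Module.finrank F X = m → p ∈ X → q ∈ X → p ≠ 0 →
      q ∉ Submodule.span F {p} → ∀ z ∈ X, ∃ r s : F, r • p + s • q = z := by
    intro X p q hX hp hq hp0 hqn z hz
    have hle := spanLe hp hq
    have heq : Submodule.span F {p, q} = X := by
      refine Submodule.eq_of_le_of_finrank_le hle ?_
      have hlt : Submodule.span F {p} < Submodule.span F {p, q} :=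
        lt_of_le_of_ne (Submodule.span_mono (by simp)) fun e => hqn (e.symm ▸ Submodule.subset_span (by simp))
      have := Submodule.finrank_lt_finrank_of_lt hlt
      rw [finrank_span_singleton hp0] at this
      omega
    exact Submodule.mem_span_pair.mp (heq.symm ▸ hz)
  refine ⟨lt_of_le_of_ne inf_le_right ?_, fun M hHM hMSp => ?_⟩
  · intro he
    set w1 := (f u0 w0)⁻¹ • w0
    have hw1 : w1 ∈ W := W.smul_mem _ hw0
    have huw1 : f u0 w1 = 1 := by rw [hb.smul_right, inv_mul_cancel₀ huw0]
    have hw10 : w1 ≠ 0 := fun h => by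
      rw [h, TransvectionMax.zero_right hb] at huw1
      exact zero_ne_one huw1
    obtain ⟨σ, hσ⟩ := (he.symm ▸ st_mem_spGL m (u0 + w1) 1 : st f (u0 + w1) 1 ∈ H).1
    have h1 : (2 : F) • u0 + w1 ∈ D (σ 0) := by
      rw [← hσ 0]
      refine ⟨u0, hu0, ?_⟩
      rw [Matrix.toLin'_apply, st_act hf, one_mul, hb.add_right, hf.alternating, zero_add, huw1, one_smul,
        two_smul, add_assoc]
    have hdis := Submodule.disjoint_def.mp hUW.disjoint
    have hc : σ 0 = 0 ∨ σ 0 = 1 := by omega
    rcases hc with hc | hc <;> rw [hc] at h1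
    · exact hw10 (hdis _ ((U.add_mem_iff_right (U.smul_mem _ hu0)).mp h1) hw1)
    · exact smul_ne_zero h2 hu00 (hdis _ (U.smul_mem _ hu0) ((W.add_mem_iff_left hw1).mp h1))
  by_cases hMH : M ≤ Cfsg.Geo.decompositionStabilizer D
  · exact Or.inl (le_antisymm (le_inf hMH hMSp) hHM)
  refine Or.inr (le_antisymm hMSp ?_)
  obtain ⟨g, hgM, hgn⟩ := Set.not_subset.mp hMH
  have hconj : ∀ {h : GL (Fin m ⊕ Fin m) F}, h ∈ M → ∀ {u}, (∀ c, st f u c ∈ M) →
      ∀ c, st f ((h : Matrix (Fin m ⊕ Fin m) (Fin m ⊕ Fin m) F) *ᵥ u) c ∈ M := by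
    intro h hh u hu c
    rw [← st_conj hf (hMSp hh)]
    exact M.mul_mem (M.mul_mem hh (hu c)) (M.inv_mem hh)
  -- two pairs with a common member give a transvection
  have key : ∀ A B B', f A B = 0 → f A B' = 0 → S2 A B ∈ M → S2 A B' ∈ M →
      st f A (2 * f B' B) ∈ M := by
    intro A B B' hAB hAB' h1 h1'
    have hid : S2 A B * S2 A B' = st f A (2 * f B' B) * (S2 A B' * S2 A B) := gl_ext fun x => by
      simp only [mul_act, hS2 hAB, hS2 hAB', st_act hf, hb.add_left, hb.smul_left, hf.alternating,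
        hAB, hAB', TransvectionSymp.skew_zero hf hAB, TransvectionSymp.skew_zero hf hAB', hf.skew B B']
      module
    have := M.mul_mem (M.mul_mem h1 h1') (M.inv_mem (M.mul_mem h1' h1))
    rwa [hid, mul_inv_cancel_right] at this
  set T := Matrix.toLin' (g : Matrix (Fin m ⊕ Fin m) (Fin m ⊕ Fin m) F)
  have hTi : Function.Injective T := fun a b hab =>
    act_injective g (by simpa [T, Matrix.toLin'_apply] using hab)
  have hTf : ∀ a b, f (T a) (T b) = f a b := fun a b => by
    simp only [T, Matrix.toLin'_apply]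
    exact hMSp hgM a b
  have hgS2 : ∀ {a b}, f a b = 0 → a ∈ U ∧ b ∈ W ∨ a ∈ W ∧ b ∈ U → S2 (T a) (T b) ∈ M := by
    intro a b hab h
    have hin : S2 a b ∈ M := by
      rcases h with ⟨ha, hb'⟩ | ⟨ha, hb'⟩
      · exact hHM (hS2H ha hb' hab)
      · rw [hS2comm a b hab]
        exact hHM (hS2H hb' ha (TransvectionSymp.skew_zero hf hab))
    have h1 : g * S2 a b * g⁻¹ = S2 (T a) (T b) := by
      simp only [S2, T, Matrix.toLin'_apply, ← Matrix.mulVec_add, ← st_conj hf (hMSp hgM)]
      group
    rw [← h1]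
    exact M.mul_mem (M.mul_mem hgM hin) (M.inv_mem hgM)
  -- a full transvection group in M
  obtain ⟨A, hA0, hAM⟩ : ∃ A, A ≠ 0 ∧ ∀ c, st f A c ∈ M := by
    by_contra! hcon
    have hfull : ∀ {A B B'}, A ≠ 0 → f A B = 0 → f A B' = 0 → S2 A B ∈ M → f B' B ≠ 0 →
        (∀ s : F, S2 A (s • B') ∈ M) → False := by
      intro A B B' hA hAB hAB' hB hBB hB'
      obtain ⟨c, hc⟩ := hcon A hA
      apply hc
      have h := key A B ((c / (2 * f B' B)) • B') hAB (by rw [hb.smul_right, hAB', mul_zero]) hB (hB' _)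
      rwa [hb.smul_left, ← mul_assoc, mul_comm (2 : F), mul_assoc, div_mul_cancel₀ _ (mul_ne_zero h2 hBB)] at h
    -- the first member lies in U
    have memU : ∀ A B, f A B = 0 → A ∈ U → A ≠ 0 → S2 A B ∈ M → pU B ∈ Submodule.span F {A} := by
      intro A B hAB hA hA0 hM
      by_contra hnot
      obtain ⟨d, hd, hAd, hBd⟩ := sepW (hpUmem B) (spanLe1 hA) hnot
      rw [← fW B hd] at hBd
      have hAd' := hAd A (Submodule.mem_span_singleton_self A)
      refine hfull hA0 hAB hAd' hM (TransvectionSymp.skew_ne hf hBd) fun s => ?_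
      exact hHM (hS2H hA (W.smul_mem s hd) (by rw [hb.smul_right, hAd', mul_zero]))
    have memW : ∀ A B, f A B = 0 → A ∈ W → A ≠ 0 → S2 A B ∈ M → pW B ∈ Submodule.span F {A} := by
      intro A B hAB hA hA0 hM
      by_contra hnot
      obtain ⟨d, hd, hAd, hBd⟩ := sepU (hpWmem B) (spanLe1 hA) hnot
      rw [← fU B hd] at hBd
      have hAd' := hAd A (Submodule.mem_span_singleton_self A)
      refine hfull hA0 hAB hAd' hM (TransvectionSymp.skew_ne hf hBd) fun s => ?_
      have h0 : f A (s • d) = 0 := by rw [hb.smul_right, hAd', mul_zero]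
      rw [hS2comm A _ h0]
      exact hHM (hS2H (U.smul_mem s hd) hA (TransvectionSymp.skew_zero hf h0))
    have hS2add : ∀ {A B B'}, f A B = 0 → f A B' = 0 → f B B' = 0 → S2 A B * S2 A B' = S2 A (B + B') :=
      fun {A B B'} h1 h1' h3 => gl_ext fun x => by
        rw [mul_act, hS2 h1, hS2 h1', hS2 (by rw [hb.add_right, h1, h1', add_zero])]
        simp only [hb.add_left, hb.add_right, hb.smul_left, hf.alternating, h1, h1', h3,
          TransvectionSymp.skew_zero hf h1, TransvectionSymp.skew_zero hf h1', TransvectionSymp.skew_zero hf h3]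
        module
    have hmove : ∀ {h : GL (Fin m ⊕ Fin m) F}, h ∈ H → ∀ {A B}, S2 A B ∈ M →
        S2 ((h : Matrix (Fin m ⊕ Fin m) (Fin m ⊕ Fin m) F) *ᵥ A)
          ((h : Matrix (Fin m ⊕ Fin m) (Fin m ⊕ Fin m) F) *ᵥ B) ∈ M := by
      intro h hh A B hM
      have h1 : h * S2 A B * h⁻¹ = S2 ((h : Matrix (Fin m ⊕ Fin m) (Fin m ⊕ Fin m) F) *ᵥ A)
          ((h : Matrix (Fin m ⊕ Fin m) (Fin m ⊕ Fin m) F) *ᵥ B) := by
        simp only [S2, ← Matrix.mulVec_add, ← st_conj hf (hMSp (hHM hh))]
        group
      rw [← h1]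
      exact M.mul_mem (M.mul_mem (hHM hh) hM) (M.inv_mem (hHM hh))
    -- a single transvection with centre in U or W gives the whole group
    have noScalar : ∀ A b (lam : F), A ≠ 0 → (A ∈ U ∨ A ∈ W) → f A b = 0 → S2 A b ∈ M →
        S2 A (lam • A + b) ∈ M → lam = 0 := by
      intro A b lam hA0 hAm hAb hbM hM
      by_contra hlam0
      have hAB : f A (lam • A + b) = 0 := by
        rw [hb.add_right, hb.smul_right, hf.alternating, hAb, mul_zero, add_zero]
      have hid : S2 A (lam • A + b) = st f A (2 * lam) * S2 A b := gl_ext fun x => by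
        rw [hS2 hAB, mul_act (st f A (2 * lam)) (S2 A b), hS2 hAb, st_act hf]
        simp only [hb.add_left, hb.add_right, hb.smul_left, hb.smul_right, hf.alternating,
          TransvectionSymp.skew_zero hf hAb]
        module
      have hst : st f A (2 * lam) ∈ M := by
        rw [hid] at hM
        exact (M.mul_mem_cancel_right hbM).mp hM
      -- rescale the centre
      have hscale : ∀ s : F, s ≠ 0 → st f A (2 * lam * s ^ 2) ∈ M := by
        intro s hs
        obtain ⟨t, ht, htA⟩ : ∃ t ∈ H, (t : Matrix (Fin m ⊕ Fin m) (Fin m ⊕ Fin m) F) *ᵥ A = s • A := by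
          obtain ⟨k, hk, hk'⟩ : ∃ k : F, k ≠ 0 ∧ (A ∈ U ∧ k = s ∨ A ∈ W ∧ k⁻¹ = s) := by
            rcases hAm with h | h
            · exact ⟨s, hs, Or.inl ⟨h, rfl⟩⟩
            · exact ⟨s⁻¹, inv_ne_zero hs, Or.inr ⟨h, inv_inv s⟩⟩
          obtain ⟨t, htH, htU, htW⟩ := htorus k hk
          refine ⟨t, htH, ?_⟩
          rcases hk' with ⟨h, rfl⟩ | ⟨h, rfl⟩
          · exact htU A h
          · exact htW A h
        have h := M.mul_mem (M.mul_mem (hHM ht) hst) (M.inv_mem (hHM ht))
        rwa [st_conj hf (hMSp (hHM ht)), htA, st_smul hf] at h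
      obtain ⟨e, he⟩ := hcon A hA0
      apply he
      have hd : (2 : F) * lam ≠ 0 := mul_ne_zero h2 hlam0
      set s := (e / (2 * lam) + 1) / 2
      set t := (e / (2 * lam) - 1) / 2
      have hall : ∀ s : F, st f A (2 * lam * s ^ 2) ∈ M := fun s => by
        rcases eq_or_ne s 0 with rfl | hs
        · rw [zero_pow two_ne_zero, mul_zero, st_zero hf]; exact M.one_mem
        · exact hscale s hs
      have hneg : st f A (-(2 * lam * t ^ 2)) ∈ M := by
        have : (st f A (2 * lam * t ^ 2))⁻¹ = st f A (-(2 * lam * t ^ 2)) := inv_eq_of_mul_eq_one_right (by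
          rw [st_add hf, add_neg_cancel, st_zero hf])
        exact this ▸ M.inv_mem (hall t)
      have h := M.mul_mem (hall s) hneg
      rw [st_add hf] at h
      have he' : 2 * lam * s ^ 2 + -(2 * lam * t ^ 2) = e := by
        simp only [s, t]
        field_simp
        ring
      rwa [he'] at h
    have fromUside : ∀ a B, a ∈ U → a ≠ 0 → f a B = 0 → S2 a B ∈ M → B ∈ W := fun a B ha ha0' h0 hM => by
      obtain ⟨lam, hl⟩ := Submodule.mem_span_singleton.mp (memU a B h0 ha ha0' hM)
      have hB : B = lam • a + pW B := by rw [hl]; exact (hpadd B).symm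
      have hab : f a (pW B) = 0 := by
        have h := h0; rwa [hB, hb.add_right, hb.smul_right, hf.alternating, mul_zero, zero_add] at h
      have hz := noScalar a (pW B) lam ha0' (Or.inl ha) hab (hHM (hS2H ha (hpWmem B) hab)) (hB ▸ hM)
      rw [hz, zero_smul, zero_add] at hB
      exact hB ▸ hpWmem B
    have fromWside : ∀ a B, a ∈ W → a ≠ 0 → f a B = 0 → S2 a B ∈ M → B ∈ U := fun a B ha ha0' h0 hM => by
      obtain ⟨lam, hl⟩ := Submodule.mem_span_singleton.mp (memW a B h0 ha ha0' hM)
      have hB : B = lam • a + pU B := by rw [hl, add_comm]; exact (hpadd B).symm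
      have hab : f a (pU B) = 0 := by
        have h := h0; rwa [hB, hb.add_right, hb.smul_right, hf.alternating, mul_zero, zero_add] at h
      have hz := noScalar a (pU B) lam ha0' (Or.inr ha) hab (by
        rw [hS2comm a _ hab]
        exact hHM (hS2H (hpUmem B) ha (TransvectionSymp.skew_zero hf hab))) (hB ▸ hM)
      rw [hz, zero_smul, zero_add] at hB
      exact hB ▸ hpUmem B
    have hin : ∀ x, pU x = 0 → x ∈ W := fun x h => by
      have := hpadd x; rw [h, zero_add] at this; exact this ▸ hpWmem x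
    have hin' : ∀ x, pW x = 0 → x ∈ U := fun x h => by
      have := hpadd x; rw [h, add_zero] at this; exact this ▸ hpUmem x
    -- images of orthogonal pairs stay pure
    have pure : ∀ A B, A ≠ 0 → B ≠ 0 → f A B = 0 → (∀ s : F, S2 A (s • B) ∈ M) →
        A ∈ U ∧ B ∈ W ∨ A ∈ W ∧ B ∈ U := by
      intro A B hA0 hB0 hAB hall
      have hM : S2 A B ∈ M := by simpa using hall 1
      by_cases huA : pU A = 0
      · exact Or.inr ⟨hin A huA, fromWside A B (hin A huA) hA0 hAB hM⟩
      by_cases hwA : pW A = 0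
      · exact Or.inl ⟨hin' A hwA, fromUside A B (hin' A hwA) hA0 hAB hM⟩
      by_cases huB : pU B = 0
      · exact Or.inl ⟨fromWside B A (hin B huB) hB0 (TransvectionSymp.skew_zero hf hAB) (hS2comm A B hAB ▸ hM),
          hin B huB⟩
      by_cases hwB : pW B = 0
      · exact Or.inr ⟨fromUside B A (hin' B hwB) hB0 (TransvectionSymp.skew_zero hf hAB) (hS2comm A B hAB ▸ hM),
          hin' B hwB⟩
      exfalso
      set u1 := pU A with hu1
      set w1 := pW A with hw1
      set u2 := pU B with hu2
      set w2 := pW B with hw2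
      have hu1m : u1 ∈ U := hpUmem A
      have hw1m : w1 ∈ W := hpWmem A
      have hu2m : u2 ∈ U := hpUmem B
      have hw2m : w2 ∈ W := hpWmem B
      have eA : u1 + w1 = A := hpadd A
      have eB : u2 + w2 = B := hpadd B
      by_cases hT : f u1 w1 = 0
      · -- the two halves are orthogonal
        have hA1 : f A u1 = 0 := by rw [fU A hu1m, ← hw1, TransvectionSymp.skew_zero hf hT]
        have hA2 : f A w1 = 0 := by rw [fW A hw1m, ← hu1, hT]
        by_cases h12 : f u1 w2 = 0
        · have h21 : f u2 w1 = 0 := by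
            have h := hAB
            rw [← eA, ← eB, hb.add_left, hb.add_right, hb.add_right, hUts u1 hu1m u2 hu2m, hWts w1 hw1m w2 hw2m,
              h12, hf.skew w1 u2] at h
            simpa using h
          obtain ⟨v1, hv1, -, hzv⟩ := sepW hu1m (bot_le : ⊥ ≤ U) (by simpa using huA)
          obtain ⟨p, hp⟩ : ∃ p : F, p • u1 = u2 := by
            apply Submodule.mem_span_singleton.mp
            by_contra hn
            obtain ⟨c, hc, h1, h3⟩ := sepU hw1m (bot_le : ⊥ ≤ W) (by simpa using hwA)
            obtain ⟨r, s, hrs⟩ := hplane hUm hu1m hu2m huA hn c hc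
            rw [← hrs, hb.add_right, hb.smul_right, hb.smul_right, TransvectionSymp.skew_zero hf hT,
              TransvectionSymp.skew_zero hf h21] at h3
            simp at h3
          obtain ⟨l, hl⟩ : ∃ l : F, l • w1 = w2 := by
            apply Submodule.mem_span_singleton.mp
            by_contra hn
            obtain ⟨r, s, hrs⟩ := hplane hWm hw1m hw2m hwA hn v1 hv1
            rw [← hrs, hb.add_right, hb.smul_right, hb.smul_right, hT, h12] at hzv
            simp at hzv
          have hp0 : p ≠ 0 := fun h => huB (by rw [← hp, h, zero_smul])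
          set z' := (f u1 v1)⁻¹ • v1
          have hz'W : z' ∈ W := W.smul_mem _ hv1
          have hzz : f u1 z' = 1 := by rw [hb.smul_right, inv_mul_cancel₀ hzv]
          obtain ⟨h, hh, hhx⟩ := hD u1 hu1m z' hz'W hzz
          have ew : f w1 z' = 0 := hWts w1 hw1m z' hz'W
          obtain ⟨e, he⟩ := hcon u1 huA
          apply he
          set σ := e / (2 * p * (μ ^ 2 - 1)) with hσ
          have hσM := hall σ
          have hmv := hmove hh hσM
          have hhu : (h : Matrix (Fin m ⊕ Fin m) (Fin m ⊕ Fin m) F) *ᵥ u1 = μ • u1 := by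
            rw [hhx, hzz, hf.alternating]; module
          have hhw : (h : Matrix (Fin m ⊕ Fin m) (Fin m ⊕ Fin m) F) *ᵥ w1 = w1 := by
            rw [hhx, ew, hT]; module
          rw [← eB, ← eA, ← hp, ← hl, Matrix.mulVec_smul] at hmv
          simp only [Matrix.mulVec_add, Matrix.mulVec_smul, hhu, hhw] at hmv
          rw [← eB, ← eA, ← hp, ← hl] at hσM
          have hc0 : ∀ r : F, f u1 (r • w1) = 0 := fun r => by rw [hb.smul_right, hT, mul_zero]
          have hcM : S2 u1 ((σ * (p + l) * (1 - μ)) • w1) ∈ M := hHM (hS2H hu1m (W.smul_mem _ hw1m) (hc0 _))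
          have hprod := M.mul_mem (M.mul_mem hmv (M.inv_mem hσM)) hcM
          have hwu : f w1 u1 = 0 := TransvectionSymp.skew_zero hf hT
          have o : ∀ a b c d : F, f (a • u1 + b • w1) (c • u1 + d • w1) = 0 := fun a b c d => by
            simp [hb.add_left, hb.add_right, hb.smul_left, hb.smul_right, hf.alternating, hT, hwu]
          have hid : S2 (μ • u1 + w1) (σ • (p • μ • u1 + l • w1)) * S2 u1 ((σ * (p + l) * (1 - μ)) • w1) =
              st f u1 e * S2 (u1 + w1) (σ • (p • u1 + l • w1)) := gl_ext fun x => by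
            have o1 : f (μ • u1 + w1) (σ • (p • μ • u1 + l • w1)) = 0 := by
              have := o μ 1 (σ * (p * μ)) (σ * l); simpa [smul_add, smul_smul] using this
            have o3 : f (u1 + w1) (σ • (p • u1 + l • w1)) = 0 := by
              have := o 1 1 (σ * p) (σ * l); simpa [smul_add, smul_smul] using this
            have hse : σ * (2 * p * (μ ^ 2 - 1)) = e := by
              rw [hσ]; exact div_mul_cancel₀ _ (mul_ne_zero (mul_ne_zero h2 hp0) (sub_ne_zero.mpr hμ1))
            rw [mul_act (S2 (μ • u1 + w1) (σ • (p • μ • u1 + l • w1))) (S2 u1 ((σ * (p + l) * (1 - μ)) • w1)),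
              mul_act (st f u1 e) (S2 (u1 + w1) (σ • (p • u1 + l • w1))), hS2 o1, hS2 (hc0 _), hS2 o3, st_act hf, ← hse]
            simp only [hb.add_left, hb.add_right, hb.smul_left, hb.smul_right, hf.alternating, hT, hwu]
            match_scalars <;> ring
          have hcomm : ∀ {P Q : GL (Fin m ⊕ Fin m) F}, S2 (μ • u1 + w1) (σ • (p • μ • u1 + l • w1)) * P =
              Q * S2 (u1 + w1) (σ • (p • u1 + l • w1)) → P ∈ M → Q ∈ M := fun {P Q} hPQ hP => by
            have := M.mul_mem (M.mul_mem hmv hP) (M.inv_mem hσM)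
            rwa [hPQ, mul_inv_cancel_right] at this
          exact hcomm hid hcM
        · -- a short root element moves B
          have h21 : f u2 w1 ≠ 0 := fun h0 => h12 (by
            have h := hAB
            rw [← eA, ← eB, hb.add_left, hb.add_right, hb.add_right, hUts u1 hu1m u2 hu2m, hWts w1 hw1m w2 hw2m,
              hf.skew w1 u2, h0] at h
            simpa using h)
          have hb1 : f B u1 ≠ 0 := by rw [fU B hu1m, ← hw2]; exact TransvectionSymp.skew_ne hf h12
          have hb3 : f B w1 ≠ 0 := by rwa [fW B hw1m, ← hu2]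
          set B' := B + f B u1 • w1 + f B w1 • u1 with hB'
          refine hfull hA0 hAB (B' := B') ?_ hM ?_ fun s => ?_
          · simp [B', hb.add_right, hb.smul_right, hAB, hA1, hA2]
          · have e : f B' B = -(2 * (f B u1 * f B w1)) := by
              simp only [B', hb.add_left, hb.smul_left, hf.alternating, hf.skew u1 B, hf.skew w1 B]
              ring
            rw [e]
            exact neg_ne_zero.mpr (mul_ne_zero h2 (mul_ne_zero hb1 hb3))
          · have h := hmove (hS2H hu1m hw1m hT) (hall s)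
            rwa [hS2 hT, hS2 hT, hA1, hA2, zero_smul, zero_smul, add_zero, add_zero, hb.smul_left, hb.smul_left,
              ← smul_smul, ← smul_smul, ← smul_add, ← smul_add, ← hB'] at h
      · -- a torus element fixes A
        obtain ⟨z, hz, hz0, hzw⟩ := hpairing (Y := W) hUm w1
        obtain ⟨z₁, hz₁, hz₁0, hz₁u⟩ := hpairing (Y := U) hWm u1
        have hu1z : f u1 z₁ = 0 := TransvectionSymp.skew_zero hf hz₁u
        have hzn : z ∉ Submodule.span F {u1} := fun h => by
          obtain ⟨r, rfl⟩ := Submodule.mem_span_singleton.mp h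
          rw [hb.smul_left] at hzw
          exact hz0 (by rw [(mul_eq_zero.mp hzw).resolve_right hT, zero_smul])
        have hz₁n : z₁ ∉ Submodule.span F {w1} := fun h => by
          obtain ⟨r, rfl⟩ := Submodule.mem_span_singleton.mp h
          rw [hb.smul_right] at hu1z
          exact hz₁0 (by rw [(mul_eq_zero.mp hu1z).resolve_right hT, zero_smul])
        have hzz₁ : f z z₁ ≠ 0 := fun h0 => by
          obtain ⟨d, hd, -, hzd⟩ := sepW hz (bot_le : ⊥ ≤ U) (by simpa using hz0)
          obtain ⟨r, s, rfl⟩ := hplane hWm hw1m hz₁ hwA hz₁n d hd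
          rw [hb.add_right, hb.smul_right, hb.smul_right, hzw, h0] at hzd
          simp at hzd
        set z' := (f z z₁)⁻¹ • z₁
        have hz' : z' ∈ W := W.smul_mem _ hz₁
        have hzz : f z z' = 1 := by rw [hb.smul_right, inv_mul_cancel₀ hzz₁]
        obtain ⟨h, hh, hhx⟩ := hD z hz z' hz' hzz
        have huz' : f u1 z' = 0 := by rw [hb.smul_right, hu1z, mul_zero]
        have hz'n : z' ∉ Submodule.span F {w1} := fun h => hz₁n (by
          have := Submodule.smul_mem _ (f z z₁) h
          rwa [smul_smul, mul_inv_cancel₀ hzz₁, one_smul] at this)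
        obtain ⟨c, d, hcd⟩ := hplane hUm hu1m hz huA hzn u2 hu2m
        obtain ⟨c', d', hcd'⟩ := hplane hWm hw1m hz' hwA hz'n w2 hw2m
        have hcc : c' = c := by
          have h := hAB
          rw [← eA, ← eB, ← hcd, ← hcd'] at h
          simp only [hb.add_left, hb.add_right, hb.smul_right, hf.alternating, huz', hUts u1 hu1m z hz,
            hWts w1 hw1m z' hz', TransvectionSymp.skew_zero hf hzw, hf.skew w1 u1] at h
          exact mul_right_cancel₀ hT (by linear_combination h)
        subst hcc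
        have eB' : B = c' • A + d • z + d' • z' := by
          rw [← eB, ← hcd, ← hcd', ← eA]; module
        have hAz : f A z = 0 := by
          rw [← eA, hb.add_left, hUts u1 hu1m z hz, TransvectionSymp.skew_zero hf hzw, add_zero]
        have hAz' : f A z' = 0 := by
          rw [← eA, hb.add_left, huz', hWts w1 hw1m z' hz', add_zero]
        have hzA : f z A = 0 := TransvectionSymp.skew_zero hf hAz
        have hz'A : f z' A = 0 := TransvectionSymp.skew_zero hf hAz'
        have hz'z : f z' z = -1 := by rw [hf.skew, hzz]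
        have hhA : (h : Matrix (Fin m ⊕ Fin m) (Fin m ⊕ Fin m) F) *ᵥ A = A := by
          rw [hhx, hAz', hzA]; simp
        set B' := c' • A + (μ * d) • z + (μ⁻¹ * d') • z' with hB'
        have hhB : (h : Matrix (Fin m ⊕ Fin m) (Fin m ⊕ Fin m) F) *ᵥ B = B' := by
          rw [hhx, eB', hB']
          simp only [hb.add_left, hb.add_right, hb.smul_left, hb.smul_right, hAz', hzA, hzz, hf.alternating]
          module
        have hB'M : ∀ s : F, S2 A (s • B') ∈ M := fun s => by
          have h' := hmove hh (hall s)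
          rwa [hhA, Matrix.mulVec_smul, hhB] at h'
        have hAB' : f A B' = 0 := by
          simp [B', hb.add_right, hb.smul_right, hf.alternating, hAz, hAz']
        have eBB : f B' B = d * d' * (μ - μ⁻¹) := by
          rw [eB', hB']
          simp only [hb.add_left, hb.add_right, hb.smul_left, hb.smul_right, hf.alternating, hAz, hAz', hzA, hz'A,
            hzz, hz'z]
          ring
        by_cases hdd : d * d' = 0
        · -- one coefficient vanishes: a combination is a transvection with centre A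
          obtain ⟨e, he⟩ := hcon A hA0
          apply he
          have hc0 : c' ≠ 0 := by
            intro hc0
            rcases mul_eq_zero.mp hdd with hd | hd
            · exact huB (by rw [← hcd, hc0, hd]; simp)
            · exact hwB (by rw [← hcd', hc0, hd]; simp)
          obtain ⟨κ, hκ1, hκ⟩ : ∃ κ : F, κ - 1 ≠ 0 ∧ B' = c' • A + κ • (B - c' • A) := by
            rcases mul_eq_zero.mp hdd with hd | hd
            · refine ⟨μ⁻¹, fun h1 => hμ1' ?_, by rw [eB', hB', hd]; module⟩
              rw [sub_eq_zero, inv_eq_one] at h1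
              rw [h1, sub_self]
            · exact ⟨μ, hμ1', by rw [eB', hB', hd]; module⟩
          set σ := e / (2 * ((κ - 1) * c'))
          have hh1 : f A (σ • κ • B) = 0 := by simp [hb.smul_right, hAB]
          have hh2 : f A ((-σ) • B') = 0 := by rw [hb.smul_right, hAB', mul_zero]
          have hh3 : f (σ • κ • B) ((-σ) • B') = 0 := by
            rw [hb.smul_left, hb.smul_left, hb.smul_right, hf.skew B B', eBB, hdd]; simp
          have := M.mul_mem (by simpa [smul_smul] using hall (σ * κ) : S2 A (σ • κ • B) ∈ M) (hB'M (-σ))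
          rw [hS2add hh1 hh2 hh3, show σ • κ • B + (-σ) • B' = (σ * ((κ - 1) * c')) • A by rw [hκ]; module] at this
          convert this using 1
          refine gl_ext fun x => ?_
          rw [st_act hf, hS2 (by rw [hb.smul_right, hf.alternating, mul_zero]), hb.smul_right,
            show σ * ((κ - 1) * c') = e / 2 by simp only [σ]; field_simp]
          match_scalars <;> field_simp <;> ring
        · exact hfull hA0 hAB hAB' hM (by rw [eBB]; exact mul_ne_zero hdd hμi) hB'M
    have himg : ∀ a ∈ U, ∀ b ∈ W, a ≠ 0 → b ≠ 0 → f a b = 0 → T a ∈ U ∧ T b ∈ W ∨ T a ∈ W ∧ T b ∈ U := by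
      intro a ha b hb' ha0 hb0 hab
      refine pure (T a) (T b) (fun e => ha0 (hTi (by rw [e, map_zero]))) (fun e => hb0 (hTi (by rw [e, map_zero])))
        ((hTf a b).trans hab) fun s => ?_
      have := hgS2 (a := a) (b := s • b) (by rw [hb.smul_right, hab, mul_zero]) (Or.inl ⟨ha, W.smul_mem s hb'⟩)
      rwa [map_smul] at this
    have hUside : ∀ a ∈ U, T a ∈ U ∨ T a ∈ W := fun a ha => by
      rcases eq_or_ne a 0 with rfl | ha0
      · exact Or.inl (by simp)
      obtain ⟨b, hb', hb0, hba⟩ := hpairing (Y := U) hWm a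
      exact (himg a ha b hb' ha0 hb0 (TransvectionSymp.skew_zero hf hba)).imp (·.1) (·.1)
    have hzero : ∀ x, x ∈ U → x ∈ W → x = 0 := fun x h h' => Submodule.disjoint_def.mp hUW.disjoint x h h'
    apply hgn
    refine (hmkH (hMSp hgM) fun i => ?_).1
    rcases le_or_le_of_forall (X := U) (A := U.comap T) (B := W.comap T) hUside with h | h
    · have hW' : ∀ b ∈ W, T b ∈ W := fun b hb' => by
        rcases eq_or_ne b 0 with rfl | hb0
        · simp
        obtain ⟨a, ha, ha0, hab⟩ := hpairing (Y := W) hUm b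
        rcases himg a ha b hb' ha0 hb0 hab with h' | h'
        · exact h'.2
        · exact absurd (hTi ((hzero _ (h ha) h'.1).trans (map_zero T).symm)) ha0
      fin_cases i
      · exact ⟨0, fun v hv => by simpa [T] using h hv⟩
      · exact ⟨1, fun v hv => by simpa [T] using hW' v hv⟩
    · have hW' : ∀ b ∈ W, T b ∈ U := fun b hb' => by
        rcases eq_or_ne b 0 with rfl | hb0
        · simp
        obtain ⟨a, ha, ha0, hab⟩ := hpairing (Y := W) hUm b
        rcases himg a ha b hb' ha0 hb0 hab with h' | h'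
        · exact absurd (hTi ((hzero _ h'.1 (h ha)).trans (map_zero T).symm)) ha0
        · exact h'.2
      fin_cases i
      · exact ⟨1, fun v hv => by simpa [T] using h hv⟩
      · exact ⟨0, fun v hv => by simpa [T] using hW' v hv⟩
  -- the set of full centres
  let S : (Fin m ⊕ Fin m → F) → Prop := fun v => ∀ c, st f v c ∈ M
  have hSsmul : ∀ {v} (s : F), S v → S (s • v) := fun s hv c => by rw [st_smul hf]; exact hv _
  have hScomb : ∀ {v w}, S v → S w → f v w ≠ 0 → S (v + w) := by
    intro v w hv hw hvw c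
    have h := hconj (hw (f v w)⁻¹) hv c
    rwa [st_act hf, inv_mul_cancel₀ hvw, one_smul] at h
  have hSH : ∀ {a b v}, a ∈ U → b ∈ W → f a b = 0 → S v → S (v + f v a • b + f v b • a) := by
    intro a b v ha hb' hab hv c
    have h := hconj (hHM (hS2H ha hb' hab)) hv c
    rwa [hS2 hab] at h
  have hSJ : ∀ {v}, S v → S ((J : Matrix (Fin m ⊕ Fin m) (Fin m ⊕ Fin m) F) *ᵥ v) := fun hv =>
    hconj (hHM hJH) hv
  -- U is reached
  have fromU : ∀ {a}, a ∈ U → a ≠ 0 → S a → ∀ v ∈ U, S v := by
    intro a ha ha0 haS v hv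
    rcases eq_or_ne v 0 with rfl | hv0
    · simpa using hSsmul 0 haS
    obtain ⟨d, hd, -, had⟩ := sepW ha (bot_le : ⊥ ≤ U) (by simpa using ha0)
    obtain ⟨d', hd', -, hvd'⟩ := sepW hv (bot_le : ⊥ ≤ U) (by simpa using hv0)
    obtain ⟨e, he, hae, hve⟩ : ∃ e ∈ W, f a e ≠ 0 ∧ f v e ≠ 0 := by
      by_cases h1 : f v d = 0
      · by_cases h3 : f a d' = 0
        · exact ⟨d + d', W.add_mem hd hd', by rwa [hb.add_right, h3, add_zero],
            by rwa [hb.add_right, h1, zero_add]⟩
        · exact ⟨d', hd', h3, hvd'⟩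
      · exact ⟨d, hd, had, h1⟩
    set l := f v e / f a e
    have h1 := hSH (U.sub_mem hv (U.smul_mem l ha)) (W.smul_mem (l⁻¹ * (f a e)⁻¹ * l) he)
      (by rw [hb.smul_right, TransvectionMax.sub_left hb, hb.smul_left,
        div_mul_cancel₀ _ hae, sub_self, mul_zero]) (hSsmul l haS)
    rw [hUts _ (U.smul_mem l ha) _ (U.sub_mem hv (U.smul_mem l ha)), zero_smul, add_zero,
      hb.smul_left, hb.smul_right] at h1
    have hl : l ≠ 0 := div_ne_zero hve hae
    have h2' : l * (l⁻¹ * (f a e)⁻¹ * l * f a e) = l := by field_simp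
    rw [h2'] at h1
    intro c
    have h3 : S (l • a + l • (v - l • a)) := h1
    rcases eq_or_ne l 1 with hl1 | hl1
    · rw [hl1, one_smul, one_smul] at h3
      have : a + (v - a) = v := add_sub_cancel a v
      rw [this] at h3
      exact h3 c
    · have h4 := hSH (U.sub_mem hv (U.smul_mem l ha)) (W.smul_mem ((f a e)⁻¹ * l⁻¹) he)
        (by rw [hb.smul_right, TransvectionMax.sub_left hb, hb.smul_left,
          div_mul_cancel₀ _ hae, sub_self, mul_zero]) (hSsmul l haS)
      rw [hUts _ (U.smul_mem l ha) _ (U.sub_mem hv (U.smul_mem l ha)), zero_smul, add_zero,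
        hb.smul_left, hb.smul_right] at h4
      rw [show l * ((f a e)⁻¹ * l⁻¹ * f a e) = 1 by field_simp, one_smul, add_sub_cancel] at h4
      exact h4 c
  obtain ⟨a, ha, ha0, haS⟩ : ∃ a ∈ U, a ≠ 0 ∧ S a := by
    by_cases hU0 : pU A = 0
    · -- then A lies in W
      have hAW : A ∈ W := by have := hpadd A; rw [hU0, zero_add] at this; exact this ▸ hpWmem A
      obtain ⟨σ, hσ⟩ := hJH.1
      have hJA := hSJ (v := A) hAM
      refine ⟨_, ?_, act_ne_zero J hA0, hJA⟩
      have h1 : (J : Matrix (Fin m ⊕ Fin m) (Fin m ⊕ Fin m) F) *ᵥ A ∈ D (σ 1) := by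
        rw [← hσ 1]; exact ⟨A, hAW, Matrix.toLin'_apply _ _⟩
      have h0 : σ 0 = 1 := by
        by_contra h
        have h' : σ 0 = 0 := by omega
        have h3 := hσ 0
        rw [h'] at h3
        refine act_ne_zero J hu00 (Submodule.disjoint_def.mp hUW.disjoint _ ?_ (hJU u0 hu0))
        rw [hUdef, ← h3]
        exact ⟨u0, hu0, Matrix.toLin'_apply _ _⟩
      have h1' : σ 1 = 0 := by
        by_contra h
        exact absurd (σ.injective (h0.trans (show σ 1 = 1 by omega).symm)) (by decide)
      rwa [h1'] at h1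
    by_cases hW0 : pW A = 0
    · have hAU : A ∈ U := by have := hpadd A; rw [hW0, add_zero] at this; exact this ▸ hpUmem A
      exact ⟨A, hAU, hA0, hAM⟩
    -- a mixed centre with non-orthogonal halves reaches U
    have hnon : ∀ u ∈ U, ∀ w ∈ W, f u w ≠ 0 → S (u + w) → ∃ a ∈ U, a ≠ 0 ∧ S a := by
      intro u hu w hw huw hS0
      set z' := (f u w)⁻¹ • w
      have hzz : f u z' = 1 := by rw [hb.smul_right, inv_mul_cancel₀ huw]
      obtain ⟨h, hh, hhx⟩ := hD u hu z' (W.smul_mem _ hw) hzz
      have hh2 : (h : Matrix (Fin m ⊕ Fin m) (Fin m ⊕ Fin m) F) *ᵥ (u + w) = μ • u + μ⁻¹ • w := by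
        rw [hhx]
        simp only [z', hb.add_left, hb.add_right, hb.smul_right, hf.alternating]
        match_scalars <;> field_simp <;> ring
      have hS1 : S (μ • u + μ⁻¹ • w) := fun c => hh2 ▸ hconj (hHM hh) hS0 c
      refine ⟨u, hu, fun e => huw (by rw [e, TransvectionMax.zero_left hb]), ?_⟩
      set β := (μ - μ⁻¹)⁻¹
      have hβ : β ≠ 0 := inv_ne_zero hμi
      have hne : f ((-(β * μ⁻¹)) • (u + w)) (β • (μ • u + μ⁻¹ • w)) ≠ 0 := by
        have e : f ((-(β * μ⁻¹)) • (u + w)) (β • (μ • u + μ⁻¹ • w)) =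
            (β * μ⁻¹) * β * (μ - μ⁻¹) * f u w := by
          simp only [hb.add_left, hb.add_right, hb.smul_left, hb.smul_right, hf.alternating, hf.skew w u]
          ring
        rw [e]
        exact mul_ne_zero (mul_ne_zero (mul_ne_zero (mul_ne_zero hβ (inv_ne_zero hμ0)) hβ) hμi) huw
      have h3 := hScomb (hSsmul _ hS0) (hSsmul β hS1) hne
      have e : (-(β * μ⁻¹)) • (u + w) + β • (μ • u + μ⁻¹ • w) = u := by
        have : β * (μ - μ⁻¹) = 1 := inv_mul_cancel₀ hμi
        match_scalars
        · linear_combination this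
        · ring
      rwa [e] at h3
    set u := pU A with hudef
    set w := pW A with hwdef
    have hu : u ∈ U := hpUmem A
    have hw : w ∈ W := hpWmem A
    have hSA : S (u + w) := by rw [hudef, hwdef, hpadd A]; exact hAM
    by_cases huw : f u w = 0
    swap
    · exact hnon u hu w hw huw hSA
    -- two such centres
    obtain ⟨d1, hd1, -, hud1⟩ := sepW hu (bot_le : ⊥ ≤ U) (by simpa using hU0)
    obtain ⟨c1, hc1, -, hwc1⟩ := sepU hw (bot_le : ⊥ ≤ W) (by simpa using hW0)
    set d2 := (f u d1)⁻¹ • d1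
    have hud2 : f u d2 = 1 := by rw [hb.smul_right, inv_mul_cancel₀ hud1]
    set c2 := (-(f w c1)⁻¹) • c1 with hc2d
    have hcw2 : f c2 w = 1 := by
      rw [hb.smul_left, hf.skew c1 w]; field_simp
    set c' := c2 - f c2 d2 • u
    have hc' : c' ∈ U := U.sub_mem (U.smul_mem _ hc1) (U.smul_mem _ hu)
    have hd2 : d2 ∈ W := W.smul_mem _ hd1
    have hc'w : f c' w = 1 := by
      rw [TransvectionMax.sub_left hb, hcw2, hb.smul_left (f c2 d2) u w, huw, mul_zero, sub_zero]
    have hc'd : f c' d2 = 0 := by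
      rw [TransvectionMax.sub_left hb, hb.smul_left (f c2 d2) u, hud2, mul_one, sub_self]
    have hwc' : f w c' = -1 := by rw [hf.skew, hc'w]
    set C := u + c' with hC
    set Dd := w - d2 with hDd
    have hCm : C ∈ U := U.add_mem hu hc'
    have hDm : Dd ∈ W := W.sub_mem hw hd2
    have hS1 : S (C + Dd) := by
      have h := hSH hc' hd2 hc'd hSA
      rw [hb.add_left, hb.add_left, hUts u hu c' hc', hWts w hw d2 hd2, hud2, hwc'] at h
      convert h using 1
      simp only [C, Dd]
      module
    have hCD : f C Dd = 0 := by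
      simp only [C, Dd, hb.add_left, TransvectionMax.sub_right hb, huw, hud2, hc'w, hc'd]; ring
    obtain ⟨d3, hd3, -, hCd3⟩ := sepW hCm (bot_le : ⊥ ≤ U) (z := C) (by
      rw [Submodule.mem_bot]
      intro e
      have : f C w = 1 := by simp [C, hb.add_left, huw, hc'w]
      rw [e, TransvectionMax.zero_left hb] at this
      exact zero_ne_one this)
    set z' := (f C d3)⁻¹ • d3
    have hz' : z' ∈ W := W.smul_mem _ hd3
    obtain ⟨h, hh, hhx⟩ := hD C hCm z' hz' (by rw [hb.smul_right, inv_mul_cancel₀ hCd3])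
    have hh2 : (h : Matrix (Fin m ⊕ Fin m) (Fin m ⊕ Fin m) F) *ᵥ (C + Dd) = μ • C + Dd := by
      have e1 : f C z' = 1 := by rw [hb.smul_right, inv_mul_cancel₀ hCd3]
      rw [hhx, hb.add_left, hb.add_right, e1, hWts Dd hDm z' hz', hf.alternating, hCD]
      module
    have hS2' : S (μ • C + Dd) := fun c => hh2 ▸ hconj (hHM hh) hS1 c
    have hne : f (u + w) (μ • C + Dd) ≠ 0 := by
      have e : f (u + w) (μ • C + Dd) = -(μ + 1) := by
        simp only [C, Dd, hb.add_left, hb.add_right, hb.smul_right, TransvectionMax.sub_right hb, hUts u hu c' hc',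
          hf.alternating, huw, hud2, TransvectionSymp.skew_zero hf huw, hwc', hWts w hw d2 hd2]
        ring
      rw [e]
      exact neg_ne_zero.mpr hμn
    refine hnon (u + μ • C) (U.add_mem hu (U.smul_mem _ hCm)) (w + Dd) (W.add_mem hw hDm) ?_ ?_
    · have e : f (u + μ • C) (w + Dd) = μ - 1 := by
        simp only [C, Dd, hb.add_left, hb.add_right, hb.smul_left, TransvectionMax.sub_right hb, huw, hud2, hc'w, hc'd]
        ring
      rw [e]
      exact hμ1'
    · convert hScomb hSA hS2' hne using 1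
      abel
  have hSU : ∀ v ∈ U, S v := fromU ha ha0 haS
  have hSW : ∀ v ∈ W, S v := by
    intro v hv
    have h1 : U.map (Matrix.toLin' (J : Matrix (Fin m ⊕ Fin m) (Fin m ⊕ Fin m) F)) = W := by
      refine Submodule.eq_of_le_of_finrank_eq ?_ ?_
      · rintro _ ⟨x, hx, rfl⟩
        rw [Matrix.toLin'_apply]
        exact hJU x hx
      · rw [← (Submodule.equivMapOfInjective _ (fun a b hab => act_injective J (by simpa using hab)) U).finrank_eq]
        exact (hkd 0).trans (hkd 1).symm
    rw [← h1] at hv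
    obtain ⟨x, hx, rfl⟩ := hv
    rw [Matrix.toLin'_apply]
    exact hSJ (hSU x hx)
  refine spGL_le m fun v => ?_
  by_cases hw : pW v = 0
  · have := hpadd v
    rw [hw, add_zero] at this
    exact hSU v (this ▸ hpUmem v)
  by_cases huw : f (pU v) (pW v) = 0
  · obtain ⟨c, hc, -, hwc⟩ := sepU (hpWmem v) (bot_le : ⊥ ≤ W) (by simpa using hw)
    have h1 : S ((pU v - c) + pW v) := hScomb (hSU _ (U.sub_mem (hpUmem v) hc)) (hSW _ (hpWmem v)) (by
      rw [TransvectionMax.sub_left hb, huw, zero_sub, neg_ne_zero]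
      exact TransvectionSymp.skew_ne hf hwc)
    have h3 := hScomb h1 (hSU c hc) (by
      rw [hb.add_left, hUts _ (U.sub_mem (hpUmem v) hc) c hc, zero_add]
      exact hwc)
    rwa [show pU v - c + pW v + c = pU v + pW v by abel, hpadd] at h3
  · have h := hScomb (hSU _ (hpUmem v)) (hSW _ (hpWmem v)) huw
    rwa [hpadd] at h

end Cfsg.Agent.Sp4PairMax44
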