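import Mathlib
import Cfsg.Agent.Lib.PSLSimple

/-!
A group of isometries of an F-symplectic space (|F| odd, at least 5, dimension at least 4) containing the isometries
commuting with an anti-self-adjoint square root `J` of a non-square contains all symplectic transvections, unless
it normalises `F[J]`.  Adapted from `ExtFieldUSmall97`; when the image pair `a, b` is orthogonal, the elements
obtained restrict to `SL(2)` on the `J`-line of `a` and generate a non-central normal subgroup.
-/

set_option autoImplicit false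
set_option linter.unusedSectionVars false

namespace Cfsg.Agent.Sp4UnitNorm44Core

open Module

variable {F V : Type*} [Field F] [Fintype F] [AddCommGroup V] [Module F V] [FiniteDimensional F V]

/-- The form `B(x, y) = f (J x) y`. -/
def Bf (f : V →ₗ[F] V →ₗ[F] F) (J : V →ₗ[F] V) : V →ₗ[F] V →ₗ[F] F := f.comp J

/-- The setting. -/
structure Setting (f : V →ₗ[F] V →ₗ[F] F) (J : V →ₗ[F] V) (ν : F) : Prop where
  odd : (2 : F) ≠ 0
  alt : ∀ x, f x x = 0
  nondeg : ∀ x, (∀ y, f x y = 0) → x = 0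
  anti : ∀ x y, f (J x) y = - f x (J y)
  sq : ∀ x, J (J x) = ν • x
  nonsq : ∀ s : F, s * s ≠ ν
  dim : 4 ≤ finrank F V
  card : 4 ≤ Fintype.card F

/-- The hypotheses on the group. -/
structure Hyp (M : Subgroup (V ≃ₗ[F] V)) (f : V →ₗ[F] V →ₗ[F] F) (J : V →ₗ[F] V) : Prop where
  lin : ∀ g : V ≃ₗ[F] V, (∀ x, g (J x) = J (g x)) → (∀ x y, f (g x) (g y) = f x y) → g ∈ M
  pres : ∀ g ∈ M, ∀ x y, f (g x) (g y) = f x y

/-- The transvection `(u, c)` lies in `M`. -/
def InM (M : Subgroup (V ≃ₗ[F] V)) (f : V →ₗ[F] V →ₗ[F] F) (u : V) (c : F) : Prop :=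
  ∃ t ∈ M, ∀ x, t x = x + (c * f x u) • u

/-- The short root element with tensor `u w + w u`, with parameter `s`, lies in `M`. -/
def InS (M : Subgroup (V ≃ₗ[F] V)) (f : V →ₗ[F] V →ₗ[F] F) (u w : V) (s : F) : Prop :=
  ∃ t ∈ M, ∀ x, t x = x + (s * f x u) • w + (s * f x w) • u

theorem mul_app (g h : V ≃ₗ[F] V) (x : V) : (g * h) x = g (h x) := rfl

theorem app_inv (g : V ≃ₗ[F] V) (x : V) : g (g⁻¹ x) = x := g.apply_symm_apply x

theorem inv_app (g : V ≃ₗ[F] V) (x : V) : g⁻¹ (g x) = x := g.symm_apply_apply x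

variable {f : V →ₗ[F] V →ₗ[F] F} {J : V →ₗ[F] V} {ν : F} {M : Subgroup (V ≃ₗ[F] V)}

section
variable (hS : Setting f J ν)
include hS

theorem skew (x y : V) : f y x = - f x y := by
  have h := hS.alt (x + y)
  simp only [map_add, LinearMap.add_apply, hS.alt, zero_add, add_zero] at h
  linear_combination h

theorem f_Jl (x y : V) : f (J x) y = Bf f J x y := rfl

theorem B_symm (x y : V) : Bf f J x y = Bf f J y x := by
  rw [← f_Jl hS, ← f_Jl hS, hS.anti, skew hS (J y) x, neg_neg]

theorem f_right (x y : V) : f x (J y) = - Bf f J x y := by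
  rw [← f_Jl hS, hS.anti, neg_neg]

theorem B_J (x y : V) : Bf f J (J x) y = ν * f x y := by
  rw [← f_Jl hS, hS.sq, map_smul, LinearMap.smul_apply, smul_eq_mul]

theorem B_right_J (x y : V) : Bf f J x (J y) = - (ν * f x y) := by
  rw [B_symm hS, B_J hS, skew hS x y, mul_neg]

theorem nu_ne : ν ≠ 0 := fun h => hS.nonsq 0 (by rw [h, mul_zero])

theorem norm_ne {s t : F} (h : ¬(s = 0 ∧ t = 0)) : s * s - ν * (t * t) ≠ 0 := fun e => by
  by_cases ht : t = 0
  · rw [ht, mul_zero, mul_zero, sub_zero, mul_self_eq_zero] at e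
    exact h ⟨e, ht⟩
  · exact hS.nonsq (s / t) (by field_simp; linear_combination e)

theorem B_nondeg {x : V} (h : ∀ y, Bf f J x y = 0) : x = 0 := by
  have h1 : J x = 0 := hS.nondeg _ h
  have h2 := hS.sq x
  rw [h1, map_zero] at h2
  exact (smul_eq_zero.1 h2.symm).resolve_left (nu_ne hS)

/-- An anisotropic vector among `y`, `z`, `y + z`. -/
theorem exists_aniso_of (W : Submodule F V) {y z : V} (hy : y ∈ W) (hz : z ∈ W) (h : Bf f J y z ≠ 0) :
    ∃ x ∈ W, Bf f J x x ≠ 0 := by
  by_cases h1 : Bf f J y y = 0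
  · by_cases h2 : Bf f J z z = 0
    · refine ⟨y + z, add_mem hy hz, ?_⟩
      simp only [map_add, LinearMap.add_apply, h1, h2, B_symm hS z y, zero_add, add_zero, ← two_mul]
      exact mul_ne_zero hS.odd h
    · exact ⟨z, hz, h2⟩
  · exact ⟨y, hy, h1⟩

/-- The projection on the `J`-line of an anisotropic vector. -/
theorem proj_perp {d : V} (hd : Bf f J d d ≠ 0) (x : V) :
    ∃ s t : F, Bf f J (x - (s • d + t • J d)) d = 0 ∧ f (x - (s • d + t • J d)) d = 0 := by
  refine ⟨Bf f J x d / Bf f J d d, f x d / Bf f J d d, ?_, ?_⟩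
  · simp only [map_sub, map_add, map_smul, LinearMap.sub_apply, LinearMap.add_apply, LinearMap.smul_apply,
      smul_eq_mul, B_J hS, hS.alt]
    field_simp
    ring
  · simp only [map_sub, map_add, map_smul, LinearMap.sub_apply, LinearMap.add_apply, LinearMap.smul_apply,
      smul_eq_mul, hS.alt, f_Jl hS]
    field_simp
    ring

/-- The auxiliary direction. -/
theorem find_d {u c : V} (huu : Bf f J u u ≠ 0) (hc0 : c ≠ 0) (h1 : Bf f J c u = 0) (h2 : f c u = 0) :
    ∃ d, Bf f J d d ≠ 0 ∧ Bf f J d u = 0 ∧ f d u = 0 ∧ f c d = 0 ∧ Bf f J c d ≠ 0 := by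
  by_cases hcc : Bf f J c c = 0
  · obtain ⟨q0, hq0⟩ : ∃ q0, Bf f J c q0 ≠ 0 := by
      by_contra! h
      exact hc0 (B_nondeg hS h)
    obtain ⟨s, t, e1, e2⟩ := proj_perp hS huu q0
    set q := q0 - (s • u + t • J u) with hq
    set P := Bf f J c q with hPd
    set φ := f c q with hφd
    have hP : P ≠ 0 := by
      simpa [hPd, hq, map_sub, map_add, map_smul, h1, h2, B_right_J hS] using hq0
    set d0 := P • q + φ • J q with hd0
    have a1 : Bf f J d0 u = 0 := by simp [hd0, e1, B_J hS, e2]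
    have a2 : f d0 u = 0 := by simp [hd0, e1, f_Jl hS, e2]
    have a3 : f c d0 = 0 := by
      rw [hd0, map_add, map_smul, map_smul, f_right hS, ← hPd, ← hφd, smul_eq_mul, smul_eq_mul]
      ring
    have a4 : Bf f J c d0 ≠ 0 := by
      rw [hd0, map_add, map_smul, map_smul, B_right_J hS, ← hPd, ← hφd, smul_eq_mul, smul_eq_mul,
        show P * P + φ * -(ν * φ) = P * P - ν * (φ * φ) by ring]
      exact norm_ne hS fun h => hP h.1
    by_cases hd : Bf f J d0 d0 = 0
    · refine ⟨d0 + c, ?_, by simp [a1, h1], by simp [a2, h2], by simp [a3, hS.alt], by simpa [hcc] using a4⟩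
      simp only [map_add, LinearMap.add_apply, hd, hcc, B_symm hS d0 c, zero_add, add_zero, ← two_mul]
      exact mul_ne_zero hS.odd a4
    · exact ⟨d0, hd, a1, a2, a3, a4⟩
  · exact ⟨c, hcc, h1, h2, hS.alt c, hcc⟩

end

section
variable (hS : Setting f J ν) (hM : Hyp M f J)
include hS hM

theorem exists_el (T : V →ₗ[F] V) (hJ : ∀ x, T (J x) = J (T x)) (hf : ∀ x y, f (T x) (T y) = f x y) :
    ∃ g ∈ M, ∀ x, g x = T x := by
  have hinj : Function.Injective T := by
    rw [injective_iff_map_eq_zero]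
    intro x hx
    exact hS.nondeg x fun y => by rw [← hf, hx, map_zero, LinearMap.zero_apply]
  haveI : Finite V := Module.finite_of_finite F
  let g : V ≃ₗ[F] V := LinearEquiv.ofBijective T (Finite.injective_iff_bijective.1 hinj)
  exact ⟨g, hM.lin g hJ hf, fun _ => rfl⟩

/-- The unitary transvections. -/
theorem exists_tau {v : V} (hv : Bf f J v v = 0) (s : F) :
    ∃ g ∈ M, ∀ x, g x = x + (s * f x v) • v + (s * ν⁻¹ * Bf f J x v) • J v := by
  have hnu := nu_ne hS
  let T : V →ₗ[F] V := LinearMap.id + s • (f.flip v).smulRight v + (s * ν⁻¹) • ((Bf f J).flip v).smulRight (J v)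
  have hT : ∀ x, T x = x + (s * f x v) • v + (s * ν⁻¹ * Bf f J x v) • J v := fun x => by simp [T, smul_smul]
  obtain ⟨g, hg, hgT⟩ := exists_el hS hM T (fun x => by
      simp only [hT, map_add, map_smul, hS.sq, smul_smul, B_J hS, f_Jl hS]
      rw [show s * ν⁻¹ * (ν * f x v) = s * f x v by field_simp,
        show s * ν⁻¹ * Bf f J x v * ν = s * Bf f J x v by field_simp]
      abel) (fun x y => by
      simp only [hT, map_add, map_smul, LinearMap.add_apply, LinearMap.smul_apply, smul_eq_mul, hS.alt,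
        f_right hS, f_Jl hS, hv, B_right_J hS]
      rw [B_symm hS v y, skew hS y v]
      ring)
  exact ⟨g, hg, fun x => by rw [hgT, hT]⟩

/-- The quasi-reflection at an anisotropic vector. -/
theorem exists_qr {d : V} (hd : Bf f J d d ≠ 0) {α β : F} (h : α * α - ν * (β * β) = 1) :
    ∃ g ∈ M, ∀ x, g x = x + (((α - 1) * Bf f J x d + ν * β * f x d) / Bf f J d d) • d +
      (((α - 1) * f x d + β * Bf f J x d) / Bf f J d d) • J d := by
  set N := Bf f J d d with hN
  let T : V →ₗ[F] V := LinearMap.id +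
    (((α - 1) / N) • (Bf f J).flip d + (ν * β / N) • f.flip d).smulRight d +
    (((α - 1) / N) • f.flip d + (β / N) • (Bf f J).flip d).smulRight (J d)
  have hT : ∀ x, T x = x + (((α - 1) * Bf f J x d + ν * β * f x d) / N) • d +
      (((α - 1) * f x d + β * Bf f J x d) / N) • J d := fun x => by
    simp only [T, LinearMap.add_apply, LinearMap.id_apply, LinearMap.smulRight_apply, LinearMap.smul_apply,
      LinearMap.flip_apply, smul_eq_mul]
    match_scalars <;> ring
  obtain ⟨g, hg, hgT⟩ := exists_el hS hM T (fun x => by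
      simp only [hT, map_add, map_smul, hS.sq, smul_smul, B_J hS, f_Jl hS]
      match_scalars <;> ring) (fun x y => by
      simp only [hT, map_add, map_smul, LinearMap.add_apply, LinearMap.smul_apply, smul_eq_mul, hS.alt,
        f_right hS, f_Jl hS, ← hN, B_right_J hS]
      rw [B_symm hS d y, skew hS y d]
      field_simp
      linear_combination -N * (Bf f J x d * f y d - f x d * Bf f J y d) * h)
  exact ⟨g, hg, fun x => by rw [hgT, hT]⟩

theorem InM.conj {u : V} {c : F} (h : InM M f u c) {g : V ≃ₗ[F] V} (hg : g ∈ M) : InM M f (g u) c := by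
  obtain ⟨t, ht, htx⟩ := h
  refine ⟨g * t * g⁻¹, mul_mem (mul_mem hg ht) (inv_mem hg), fun x => ?_⟩
  rw [mul_app, mul_app, htx, map_add, map_smul, app_inv]
  congr 2
  rw [show f x (g u) = f (g (g⁻¹ x)) (g u) by rw [app_inv], hM.pres g hg]

theorem InS.conj {u w : V} {s : F} (h : InS M f u w s) {g : V ≃ₗ[F] V} (hg : g ∈ M) :
    InS M f (g u) (g w) s := by
  obtain ⟨t, ht, htx⟩ := h
  refine ⟨g * t * g⁻¹, mul_mem (mul_mem hg ht) (inv_mem hg), fun x => ?_⟩
  rw [mul_app, mul_app, htx, map_add, map_add, map_smul, map_smul, app_inv]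
  have e : ∀ y, f (g⁻¹ x) y = f x (g y) := fun y => by rw [← hM.pres g hg, app_inv]
  rw [e, e]

/-- Two short root elements with a common anisotropic centre give a transvection. -/
theorem transv_of_S {u w : V} (huu : Bf f J u u ≠ 0) (hw0 : w ≠ 0) (h1 : Bf f J w u = 0) (h2 : f w u = 0)
    (hall : ∀ s, InS M f u w s) (c : F) : InM M f u c := by
  have hnu := nu_ne hS
  obtain ⟨d, hd, d1, d2, d3, d4⟩ := find_d hS huu hw0 h1 h2
  have hν1 : 1 - ν ≠ 0 := sub_ne_zero.2 fun e => hS.nonsq 1 (by rw [mul_one, e])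
  set β := 2 / (1 - ν) with hβd
  obtain ⟨h, hh, hhx⟩ := exists_qr hS hM hd (α := (1 + ν) / (1 - ν)) (β := β) (by
    rw [hβd]; field_simp; ring)
  have hβ : β ≠ 0 := div_ne_zero hS.odd hν1
  have u1 : f u d = 0 := by rw [skew hS d u, d2, neg_zero]
  have u2 : Bf f J u d = 0 := by rw [B_symm hS, d1]
  have hu : h u = u := by simp [hhx, u1, u2]
  set w' := h w with hw'
  have hww' : f w' w ≠ 0 := by
    have : f w' w = β * Bf f J w d * Bf f J w d / Bf f J d d := by
      rw [hw', hhx]
      simp only [map_add, map_smul, LinearMap.add_apply, LinearMap.smul_apply, smul_eq_mul, hS.alt, f_Jl hS,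
        d3, skew hS w d, B_symm hS d w]
      ring
    rw [this]
    exact div_ne_zero (mul_ne_zero (mul_ne_zero hβ d4) d4) hd
  have huw : f u w = 0 := by rw [skew hS w u, h2, neg_zero]
  have huw' : f u w' = 0 := by
    have := hM.pres h hh u w
    rwa [hu, huw] at this
  have hw'u : f w' u = 0 := by rw [skew hS u w', huw', neg_zero]
  set e := f w' w with he
  have hew : f w w' = -e := skew hS w' w
  obtain ⟨g1, hg1, e1⟩ := hall (c / (2 * e))
  obtain ⟨g2, hg2, e2⟩ := hall (-(c / (2 * e)))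
  obtain ⟨k1, hk1, f1⟩ := InS.conj hS hM (hall 1) hh
  obtain ⟨k2, hk2, f2⟩ := InS.conj hS hM (hall (-1)) hh
  refine ⟨g1 * k1 * g2 * k2, mul_mem (mul_mem (mul_mem hg1 hk1) hg2) hk2, fun x => ?_⟩
  rw [mul_app, mul_app, mul_app, f2, e2, f1, e1, hu, ← hw']
  simp only [map_add, map_smul, LinearMap.add_apply, LinearMap.smul_apply, smul_eq_mul, hS.alt, huw, huw', h2,
    hw'u, ← he, hew]
  have h2' := hS.odd
  match_scalars <;> field_simp <;> ring

section Plane

open Matrix
open scoped commutatorElement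

/-- A normal subgroup of `SL(2)` with a non-central element is everything. -/
theorem sl2_top (hcard : 4 ≤ Fintype.card F) (H : Subgroup (SpecialLinearGroup (Fin 2) F)) [H.Normal]
    {R : SpecialLinearGroup (Fin 2) F} (hR : R ∈ H) (hR10 : R.1 1 0 ≠ 0) : H = ⊤ := by
  have hc4 : 4 ≤ Nat.card F := by rwa [Nat.card_eq_fintype_card]
  haveI := PSLSimple.isSimpleGroup_PSL_fin' (F := F) (n := 2) le_rfl fun _ => hc4
  have hperf := PSLSimple.commutator_SL_fin_eq_top (F := F) (n := 2) le_rfl fun _ => PSLSimple.exists_sq_ne_one hc4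
  set π := QuotientGroup.mk' (Subgroup.center (SpecialLinearGroup (Fin 2) F))
  have hn : (H.map π).Normal := Subgroup.Normal.map inferInstance π (QuotientGroup.mk'_surjective _)
  rcases IsSimpleGroup.eq_bot_or_eq_top_of_normal _ hn with h | h
  · exfalso
    have hRc : R ∈ Subgroup.center (SpecialLinearGroup (Fin 2) F) := by
      rw [← QuotientGroup.eq_one_iff (N := Subgroup.center (SpecialLinearGroup (Fin 2) F)) R, ← Subgroup.mem_bot,
        ← h]
      exact Subgroup.mem_map_of_mem π hR
    have h01 : (0 : Fin 2) ≠ 1 := by decide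
    have := congrArg (fun A : SpecialLinearGroup (Fin 2) F => A.1 0 0)
      (Subgroup.mem_center_iff.1 hRc (SpecialLinearGroup.transvection h01 1))
    simp [Matrix.mul_apply, Fin.sum_univ_two, SpecialLinearGroup.transvection_coe, Matrix.single] at this
    exact hR10 this
  · rw [← top_le_iff, ← hperf, commutator_def, Subgroup.commutator_le]
    intro x _ y _
    have key : ∀ x : SpecialLinearGroup (Fin 2) F, ∃ a ∈ H, ∃ z ∈ Subgroup.center _, a * z = x := fun x => by
      have hx : π x ∈ H.map π := by rw [h]; trivial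
      obtain ⟨a, ha, e⟩ := hx
      exact ⟨a, ha, a⁻¹ * x, QuotientGroup.eq.1 e, by group⟩
    obtain ⟨a, ha, z, hz, rfl⟩ := key x
    obtain ⟨b, hb, w, hw, rfl⟩ := key y
    have hz' := Subgroup.mem_center_iff.1 hz
    have hw' := Subgroup.mem_center_iff.1 hw
    have hzi := Subgroup.mem_center_iff.1 (inv_mem hz)
    have hwi := Subgroup.mem_center_iff.1 (inv_mem hw)
    have e : ⁅a * z, b * w⁆ = ⁅a, b⁆ := by
      simp only [commutatorElement_def, _root_.mul_inv_rev]
      calc a * z * (b * w) * (z⁻¹ * a⁻¹) * (w⁻¹ * b⁻¹)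
          = a * (z * b) * w * z⁻¹ * a⁻¹ * w⁻¹ * b⁻¹ := by group
        _ = a * (b * z) * w * z⁻¹ * a⁻¹ * w⁻¹ * b⁻¹ := by rw [hz' b]
        _ = a * b * (z * w) * z⁻¹ * a⁻¹ * w⁻¹ * b⁻¹ := by group
        _ = a * b * (w * z) * z⁻¹ * a⁻¹ * w⁻¹ * b⁻¹ := by rw [hz' w]
        _ = a * b * (w * a⁻¹) * w⁻¹ * b⁻¹ := by group
        _ = a * b * (a⁻¹ * w) * w⁻¹ * b⁻¹ := by rw [← hw' a⁻¹]
        _ = a * b * a⁻¹ * b⁻¹ := by group
    rw [e, commutatorElement_def]
    exact mul_mem (mul_mem (mul_mem ha hb) (inv_mem ha)) (inv_mem hb)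

/-- Elements moving only the plane of `a` and `Ja`, in the basis `a, a'` with `f a a' = 1`. -/
def pl (f : V →ₗ[F] V →ₗ[F] F) (a a' : V) (A : Matrix (Fin 2) (Fin 2) F) (x : V) : V :=
  x + ((A 0 0 - 1) * f x a' + A 0 1 * f a x) • a + (A 1 0 * f x a' + (A 1 1 - 1) * f a x) • a'

theorem pl_one (a a' x : V) : pl f a a' 1 x = x := by simp [pl]

theorem pl_mul {a a' : V} (h : f a a' = 1) (A B : Matrix (Fin 2) (Fin 2) F) (x : V) :
    pl f a a' (A * B) x = pl f a a' A (pl f a a' B x) := by
  simp only [pl, Matrix.mul_apply, Fin.sum_univ_two, map_add, map_smul, LinearMap.add_apply,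
    LinearMap.smul_apply, smul_eq_mul, hS.alt, h]
  match_scalars <;> ring

/-- The element obtained from an isotropic vector with orthogonal images gives a transvection. -/
theorem transv_plane {a b : V} (ha : Bf f J a a ≠ 0) (hb : Bf f J b a = 0) (hfb : f b a = 0)
    (hP : ∀ s : F, ∃ t ∈ M, ∀ x, t x = x + (s * ν * f x a) • a - (s * f x b) • b) (c : F) : InM M f a c := by
  classical
  have hnu := nu_ne hS
  set N := Bf f J a a with hN
  set a' := -(N⁻¹) • J a with ha'
  have haa' : f a a' = 1 := by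
    simp [ha', f_right hS, ← hN, ha]
  have hba' : f b a' = 0 := by simp [ha', f_right hS, hb]
  have hab : f a b = 0 := by rw [skew hS b a, hfb, neg_zero]
  have ha'b : f a' b = 0 := by rw [skew hS b a', hba', neg_zero]
  have h01 : (0 : Fin 2) ≠ 1 := by decide
  have hν1 : 1 - ν ≠ 0 := sub_ne_zero.2 fun e => hS.nonsq 1 (by rw [mul_one, e])
  set α := (1 + ν) / (1 - ν) with hα
  set β := 2 / (1 - ν) with hβ
  have hαβ : α * α - ν * (β * β) = 1 := by rw [hα, hβ]; field_simp; ring
  let R : SpecialLinearGroup (Fin 2) F := ⟨!![α, -(β * ν) / N; -(N * β), α], by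
    rw [Matrix.det_fin_two_of]; field_simp; linear_combination hαβ⟩
  obtain ⟨k, hk, hkx⟩ := exists_qr hS hM ha hαβ
  have hkp : ∀ x, k x = pl f a a' R.1 x := fun x => by
    rw [hkx]
    simp only [pl, R, Matrix.of_apply, Matrix.cons_val', Matrix.cons_val_zero, Matrix.cons_val_one,
      Matrix.empty_val', Matrix.cons_val_fin_one, ha', map_smul, f_right hS, smul_eq_mul,
      skew hS x a, ← hN]
    match_scalars <;> field_simp <;> ring
  let H : Subgroup (SpecialLinearGroup (Fin 2) F) :=
    { carrier := {A | ∃ t ∈ M, ∀ x, t x = pl f a a' A.1 x}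
      one_mem' := ⟨1, one_mem M, fun x => (pl_one hS hM a a' x).symm⟩
      mul_mem' := by
        rintro A B ⟨t, ht, htx⟩ ⟨u, hu, hux⟩
        exact ⟨t * u, mul_mem ht hu, fun x => by rw [mul_app, htx, hux, Matrix.SpecialLinearGroup.coe_mul, pl_mul hS hM haa']⟩
      inv_mem' := by
        rintro A ⟨t, ht, htx⟩
        refine ⟨t⁻¹, inv_mem ht, fun x => t.injective ?_⟩
        rw [app_inv, htx, ← pl_mul hS hM haa', ← Matrix.SpecialLinearGroup.coe_mul, mul_inv_cancel,
          Matrix.SpecialLinearGroup.coe_one, pl_one hS hM] }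
  let U : F → SpecialLinearGroup (Fin 2) F := fun s => SpecialLinearGroup.transvection h01 s
  have hUadd : ∀ s t, U s * U t = U (s + t) := fun s t => by
    apply Subtype.ext
    ext i j
    fin_cases i <;> fin_cases j <;>
      simp [U, Matrix.mul_apply, Fin.sum_univ_two, SpecialLinearGroup.transvection_coe, Matrix.single] <;> ring
  have hU0 : U 0 = 1 := by
    apply Subtype.ext
    simp [U, SpecialLinearGroup.transvection_coe]
  have hUinv : ∀ s, (U s)⁻¹ = U (-s) := fun s => inv_eq_of_mul_eq_one_right (by rw [hUadd, add_neg_cancel, hU0])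
  have hRH : R ∈ H := ⟨k, hk, hkp⟩
  have hgen : ∀ s, U s * R * (U s)⁻¹ ∈ H := by
    intro s
    obtain ⟨P, hPM, hPx⟩ := hP (-(s / ν))
    have hpl : ∀ x, P x = pl f a a' (U s).1 x + (s / ν * f x b) • b := fun x => by
      rw [hPx]
      simp [pl, U, SpecialLinearGroup.transvection_coe, Matrix.single, skew hS x a]
      match_scalars <;> field_simp <;> ring
    have hfix : ∀ (A : Matrix (Fin 2) (Fin 2) F), pl f a a' A b = b := fun A => by simp [pl, hab, hba']
    have hfb' : ∀ (A : Matrix (Fin 2) (Fin 2) F) x, f (pl f a a' A x) b = f x b := fun A x => by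
      simp [pl, hab, ha'b]
    have hlin : ∀ (A : Matrix (Fin 2) (Fin 2) F) x (r : F), pl f a a' A (x + r • b) = pl f a a' A x + r • b :=
      fun A x r => by
      simp [pl, hab, hba', skew hS b a, hfb]
      match_scalars <;> ring
    refine ⟨P * k * P⁻¹, mul_mem (mul_mem hPM hk) (inv_mem hPM), fun x => ?_⟩
    obtain ⟨y, rfl⟩ : ∃ y, P y = x := ⟨P⁻¹ x, app_inv P x⟩
    rw [mul_app, mul_app, inv_app, hpl (k y), hkp, hfb', hpl y, hlin, ← pl_mul hS hM haa', ← pl_mul hS hM haa',
      ← Matrix.SpecialLinearGroup.coe_mul, ← Matrix.SpecialLinearGroup.coe_mul, inv_mul_cancel_right]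
  set H0 := Subgroup.closure (Set.range fun s => U s * R * (U s)⁻¹) with hH0
  have hle : H0 ≤ H := (Subgroup.closure_le H).2 (by rintro _ ⟨s, rfl⟩; exact hgen s)
  have hR0 : R ∈ H0 := Subgroup.subset_closure ⟨0, by simp [hU0]⟩
  have hR10 : R.1 1 0 ≠ 0 := by
    simp [R, ha, hβ, hS.odd, hν1]
  have hUN : ∀ t, U t ∈ Subgroup.normalizer (H0 : Set (SpecialLinearGroup (Fin 2) F)) := by
    have h1 : ∀ t, ∀ h ∈ H0, U t * h * (U t)⁻¹ ∈ H0 := fun t h hh => by
      induction hh using Subgroup.closure_induction with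
      | mem z hz =>
        obtain ⟨s, rfl⟩ := hz
        refine Subgroup.subset_closure ⟨t + s, ?_⟩
        simp only [← hUadd, _root_.mul_inv_rev, mul_assoc]
      | one => simp
      | mul y z _ _ hy hz => simpa [mul_assoc] using mul_mem hy hz
      | inv y _ hy => simpa [mul_assoc] using inv_mem hy
    intro t
    rw [Subgroup.mem_normalizer_iff]
    refine fun h => ⟨h1 t h, fun hh => ?_⟩
    have := h1 (-t) _ hh
    rwa [← hUinv, inv_inv, mul_assoc (U t) h, inv_mul_cancel_left, inv_mul_cancel_right] at this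
  have htop : Subgroup.normalizer (H0 : Set (SpecialLinearGroup (Fin 2) F)) = ⊤ := by
    refine PSLSimple.eq_top_of_transvection_mem _ fun i j hij r => ?_
    have hRN : R ∈ Subgroup.normalizer (H0 : Set (SpecialLinearGroup (Fin 2) F)) := Subgroup.le_normalizer hR0
    fin_cases i <;> fin_cases j <;> first | exact absurd rfl hij | skip
    · exact hUN r
    · -- lower triangular: conjugate by an element with vanishing corner
      set w := U (-(R.1 0 0 / R.1 1 0)) * R
      have hw : w ∈ Subgroup.normalizer (H0 : Set (SpecialLinearGroup (Fin 2) F)) := mul_mem (hUN _) hRN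
      have hw00 : w.1 0 0 = 0 := by
        simp [w, U, Matrix.mul_apply, Fin.sum_univ_two, SpecialLinearGroup.transvection_coe, Matrix.single]
        field_simp
        ring
      have hw10 : w.1 1 0 = R.1 1 0 := by
        simp [w, U, Matrix.mul_apply, Fin.sum_univ_two, SpecialLinearGroup.transvection_coe, Matrix.single]
      have e : SpecialLinearGroup.transvection (show (1 : Fin 2) ≠ 0 by decide) r
          = w * U (-(r / (R.1 1 0 * R.1 1 0))) * w⁻¹ := by
        rw [eq_mul_inv_iff_mul_eq]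
        apply Subtype.ext
        have hd := w.2
        rw [Matrix.det_fin_two, hw00, hw10] at hd
        ext i j
        fin_cases i <;> fin_cases j <;>
          simp [U, Matrix.mul_apply, Fin.sum_univ_two, SpecialLinearGroup.transvection_coe, Matrix.single, hw00, hw10]
        field_simp
        linear_combination -r * hd
      show SpecialLinearGroup.transvection _ r ∈ _
      rw [e]
      exact mul_mem (mul_mem hw (hUN _)) (inv_mem hw)
  haveI : H0.Normal := Subgroup.normalizer_eq_top_iff.1 htop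
  obtain ⟨t, ht, htx⟩ := hle (show U (-c) ∈ H0 by rw [sl2_top hS hM hS.card H0 hR0 hR10]; trivial)
  refine ⟨t, ht, fun x => ?_⟩
  rw [htx]
  simp [pl, U, SpecialLinearGroup.transvection_coe, Matrix.single, skew hS x a]

end Plane

/-- A conjugated unitary transvection at an anisotropic image. -/
theorem exists_transv {g : V ≃ₗ[F] V} (hg : g ∈ M) {v : V} (hv : Bf f J v v = 0)
    (hgv : Bf f J (g v) (g v) ≠ 0) : ∃ u, Bf f J u u ≠ 0 ∧ ∀ c, InM M f u c := by
  have hnu := nu_ne hS
  have h2 := hS.odd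
  set a := g v with ha
  set b := g (J v) with hb
  have hP : ∀ s, ∃ t ∈ M, ∀ x, t x = x + (s * ν * f x a) • a - (s * f x b) • b := fun s => by
    obtain ⟨τ, hτ, hτx⟩ := exists_tau hS hM hv (s * ν)
    refine ⟨g * τ * g⁻¹, mul_mem (mul_mem hg hτ) (inv_mem hg), fun x => ?_⟩
    rw [mul_app, mul_app, hτx, map_add, map_add, map_smul, map_smul, app_inv]
    have e : ∀ y, f (g⁻¹ x) y = f x (g y) := fun y => by rw [← hM.pres g hg, app_inv]
    rw [show Bf f J (g⁻¹ x) v = - f (g⁻¹ x) (J v) by rw [f_right hS, neg_neg], e, e, ← ha, ← hb,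
      show s * ν * ν⁻¹ * -f x b = -(s * f x b) by field_simp, neg_smul]
    abel
  have hab : f a b = 0 := by rw [ha, hb, hM.pres g hg, f_right hS, hv, neg_zero]
  -- the decomposition of `b`
  set κ := Bf f J b a / Bf f J a a with hκ
  set c := b - κ • a with hc
  have hbc : b = κ • a + c := by rw [hc]; abel
  have hca : Bf f J c a = 0 := by
    simp [hc, hκ, hgv]
  have hfa : f c a = 0 := by simp [hc, skew hS a b, hab, hS.alt]
  have hac : f a c = 0 := by rw [skew hS c a, hfa, neg_zero]
  have hc0 : c ≠ 0 := by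
    intro e
    have e1 : J v = κ • v := g.injective (by rw [map_smul, ← hb, hbc, e, add_zero, ha])
    have e2 := hS.sq v
    rw [e1, map_smul, e1, smul_smul] at e2
    have hv0 : v ≠ 0 := fun e => hgv (by simp [ha, e])
    exact hS.nonsq κ (smul_left_injective F hv0 e2)
  by_cases hκ0 : κ = 0
  · -- `b` is orthogonal to `a`
    refine ⟨a, hgv, transv_plane hS hM hgv (b := b) ?_ ?_ hP⟩
    · rw [hbc, hκ0, zero_smul, zero_add, hca]
    · rw [hbc, hκ0, zero_smul, zero_add, hfa]
  · -- the component `κ a` can be negated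
    obtain ⟨h, hh, hhx⟩ := exists_qr hS hM hgv (α := -1) (β := 0) (by ring)
    have hha : h a = -a := by
      rw [hhx, hS.alt]
      match_scalars <;> field_simp <;> ring
    have hhc : h c = c := by simp [hhx, hca, hfa]
    refine ⟨a, hgv, transv_of_S hS hM hgv hc0 hca hfa fun s => ?_⟩
    obtain ⟨g1, hg1, e1⟩ := hP (-(s / (2 * κ)))
    obtain ⟨g2, hg2, e2⟩ := hP (s / (2 * κ))
    refine ⟨g1 * (h * g2 * h⁻¹), mul_mem hg1 (mul_mem (mul_mem hh hg2) (inv_mem hh)), fun x => ?_⟩
    rw [mul_app, mul_app, mul_app, e2, map_sub, map_add, map_smul, map_smul, app_inv, e1]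
    have e : ∀ y, f (h⁻¹ x) y = f x (h y) := fun y => by rw [← hM.pres h hh, app_inv]
    rw [e, e, hha, hbc, map_add h, map_smul h, hha, hhc]
    simp only [map_add, map_sub, map_smul, map_neg, LinearMap.add_apply, LinearMap.sub_apply,
      LinearMap.neg_apply, LinearMap.smul_apply, smul_eq_mul, hS.alt, hac, hfa]
    match_scalars <;> field_simp <;> ring

set_option maxHeartbeats 800000 in
/-- All transvections. -/
theorem all_transvections (hmove : ∃ g ∈ M, ∃ v, Bf f J v v = 0 ∧ Bf f J (g v) (g v) ≠ 0) (u : V) (c : F) :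
    InM M f u c := by
  obtain ⟨g, hg, v, hv, hgv⟩ := hmove
  obtain ⟨u₀, hu₀, hT⟩ := exists_transv hS hM hg hv hgv
  have hnu := nu_ne hS
  have h2 := hS.odd
  let C : V → Prop := fun u => ∀ c, InM M f u c
  have hscale : ∀ u, C u → ∀ s : F, C (s • u) := fun u hu s c => by
    obtain ⟨t, ht, htx⟩ := hu (c * s * s)
    refine ⟨t, ht, fun x => ?_⟩
    rw [htx, map_smul, smul_eq_mul, smul_smul]
    congr 2
    ring
  have hline : ∀ x y, C x → C y → f x y ≠ 0 → ∀ t : F, C (x + t • y) := fun x y hx hy hxy t c => by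
    obtain ⟨τ, hτ, hτx⟩ := hy (t / f x y)
    have : τ x = x + t • y := by rw [hτx, div_mul_cancel₀ _ hxy]
    exact this ▸ InM.conj hS hM (hx c) hτ
  -- all the vectors of the `J`-line of `u₀`
  have hν1 : 1 - ν ≠ 0 := sub_ne_zero.2 fun e => hS.nonsq 1 (by rw [mul_one, e])
  obtain ⟨ζ, hζ, hζx⟩ := exists_qr hS hM hu₀ (α := (1 + ν) / (1 - ν)) (β := 2 / (1 - ν)) (by field_simp; ring)
  have hζu : ζ u₀ = ((1 + ν) / (1 - ν)) • u₀ + (2 / (1 - ν)) • J u₀ := by
    rw [hζx, hS.alt]
    match_scalars <;> field_simp <;> ring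
  have hKu : ∀ s t : F, C (s • u₀ + t • J u₀) := by
    intro s t
    have hCz : C (ζ u₀) := fun c => InM.conj hS hM (hT c) hζ
    by_cases ht : t = 0
    · rw [ht, zero_smul, add_zero]; exact hscale _ hT s
    have hne : f (ζ u₀) u₀ ≠ 0 := by
      rw [hζu]
      simp only [map_add, map_smul, LinearMap.add_apply, LinearMap.smul_apply, smul_eq_mul, hS.alt, mul_zero,
        zero_add, f_Jl hS]
      exact mul_ne_zero (div_ne_zero h2 hν1) hu₀
    have e : s • u₀ + t • J u₀ = (t * (1 - ν) / 2) • (ζ u₀ + ((s / (t * (1 - ν) / 2)) - (1 + ν) / (1 - ν)) • u₀) := by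
      rw [hζu]
      match_scalars <;> field_simp <;> ring
    rw [e]
    exact hscale _ (hline _ _ hCz hT hne _) _
  -- anisotropic vectors
  have haniso : ∀ y, Bf f J y y ≠ 0 → C y := by
    intro y hy
    obtain ⟨s, t, hst⟩ := FiniteField.exists_root_sum_quadratic
      (f := Polynomial.C (Bf f J u₀ u₀) * Polynomial.X ^ 2 - Polynomial.C (Bf f J y y))
      (g := Polynomial.C (-(ν * Bf f J u₀ u₀)) * Polynomial.X ^ 2)
      (by rw [Polynomial.degree_sub_C (by rw [Polynomial.degree_C_mul_X_pow 2 hu₀]; norm_num),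
        Polynomial.degree_C_mul_X_pow 2 hu₀]; rfl)
      (by rw [Polynomial.degree_C_mul_X_pow 2 (neg_ne_zero.2 (mul_ne_zero hnu hu₀))]; rfl)
      (FiniteField.odd_card_of_char_ne_two (fun hc => h2 (by
        haveI := ringChar.charP F
        haveI : CharP F 2 := hc ▸ ringChar.charP F
        exact CharTwo.two_eq_zero)))
    simp only [Polynomial.eval_sub, Polynomial.eval_mul, Polynomial.eval_C, Polynomial.eval_pow,
      Polynomial.eval_X] at hst
    set x := s • u₀ + t • J u₀ with hx
    have hxx : Bf f J x x = Bf f J y y := by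
      simp only [hx, map_add, map_smul, LinearMap.add_apply, LinearMap.smul_apply, smul_eq_mul, B_J hS,
        B_right_J hS, hS.alt, f_Jl hS]
      linear_combination hst + (t * t * ν) * (f_right hS u₀ u₀)
    have move : ∀ z, Bf f J z z = Bf f J x x → Bf f J (x - z) (x - z) ≠ 0 → C z := by
      intro z hz hd
      set P := Bf f J x (x - z) with hP
      set φ := f x (x - z) with hφ
      have hN : Bf f J (x - z) (x - z) = 2 * P := by
        simp only [hP, map_sub, LinearMap.sub_apply, hz, B_symm hS z x]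
        ring
      have hP0 : P ≠ 0 := fun e => hd (by rw [hN, e, mul_zero])
      obtain ⟨D, hDd⟩ : ∃ D, D = P * P - ν * (φ * φ) := ⟨_, rfl⟩
      have hD : D ≠ 0 := hDd ▸ norm_ne hS fun e => hP0 e.1
      obtain ⟨k, hk, hkx⟩ := exists_qr hS hM hd (α := 1 - 2 * P * P / D)
        (β := 2 * P * φ / D) (by field_simp; rw [hDd]; ring)
      have : k x = z := by
        rw [hkx, hN, ← hP, ← hφ, map_sub]
        match_scalars <;> field_simp <;> rw [hDd] <;> ring
      exact fun c => this ▸ InM.conj hS hM (hKu s t c) hk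
    by_cases hd : Bf f J (x - y) (x - y) = 0
    · have h' : C (-y) := move (-y) (by simp [hxx]) (by
        simp only [map_sub, map_neg, LinearMap.sub_apply, LinearMap.neg_apply, hxx, B_symm hS y x] at hd ⊢
        intro e
        apply hy
        refine mul_left_cancel₀ (mul_ne_zero h2 h2) ?_
        linear_combination hd + e)
      simpa using hscale _ h' (-1)
    · exact move y hxx.symm hd
  -- isotropic vectors
  by_cases huu : Bf f J u u = 0
  · by_cases hu0 : u = 0
    · exact ⟨1, one_mem M, fun x => by simp [hu0]⟩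
    obtain ⟨z₀, hz₀⟩ : ∃ z, f u z ≠ 0 := by
      by_contra! h
      exact hu0 (hS.nondeg u h)
    obtain ⟨z, hz, hzz⟩ : ∃ z, f u z ≠ 0 ∧ Bf f J z z ≠ 0 := by
      by_cases h : Bf f J z₀ z₀ = 0
      · refine ⟨z₀ + J u, by simpa [f_right hS, huu] using hz₀, ?_⟩
        simp only [map_add, LinearMap.add_apply, h, B_J hS, B_right_J hS, hS.alt, f_Jl hS, f_right hS, huu,
          skew hS u z₀]
        intro e
        apply hz₀
        refine mul_left_cancel₀ (mul_ne_zero h2 hnu) ?_
        linear_combination e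
      · exact ⟨z₀, hz₀, h⟩
    obtain ⟨s, hs⟩ : ∃ s : F, Bf f J (u + s • z) (u + s • z) ≠ 0 := by
      by_contra! h
      have e1 := h 1
      have e2 := h (-1)
      simp only [map_add, map_smul, LinearMap.add_apply, LinearMap.smul_apply, smul_eq_mul, huu,
        B_symm hS z u] at e1 e2
      exact hzz (mul_left_cancel₀ h2 (by linear_combination e1 + e2))
    have := hline _ _ (haniso _ hs) (haniso z hzz) (by simpa [hS.alt] using hz) (-s) c
    rwa [neg_smul, add_neg_cancel_right] at this
  · exact haniso u huu c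

/-- Either all transvections lie in `M`, or every element maps `B` to a multiple of itself. -/
theorem dichotomy {g : V ≃ₗ[F] V} (hg : g ∈ M) :
    (∀ u c, InM M f u c) ∨ ∃ b : F, ∀ x, J (g x) = b • g (J x) := by
  classical
  by_cases hmove : ∃ g ∈ M, ∃ v, Bf f J v v = 0 ∧ Bf f J (g v) (g v) ≠ 0
  · exact Or.inl (all_transvections hS hM hmove)
  right
  push Not at hmove
  have h2 := hS.odd
  set B' : V → V → F := fun x y => Bf f J (g x) (g y) with hB'
  have hzero : ∀ v, Bf f J v v = 0 → B' v v = 0 := fun v => hmove g hg v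
  -- an isotropic vector in any three dimensional space
  have hiso : ∀ W : Submodule F V, 3 ≤ finrank F W → ∃ p ∈ W, p ≠ 0 ∧ Bf f J p p = 0 := by
    intro W hW
    by_contra hcon
    push Not at hcon
    obtain ⟨x, hx, hx0⟩ := (Submodule.ne_bot_iff W).1 (fun h => by rw [h, finrank_bot] at hW; omega)
    have hrk : ∀ (U : Submodule F V) (φ : V →ₗ[F] F), finrank F U ≤ finrank F ↥(U ⊓ LinearMap.ker φ) + 1 := by
      intro U φ
      have h1 := Submodule.finrank_sup_add_finrank_inf_eq U (LinearMap.ker φ)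
      have h2 := LinearMap.finrank_range_add_finrank_ker φ
      have h3 := Submodule.finrank_le (LinearMap.range φ)
      rw [finrank_self] at h3
      have h4 := Submodule.finrank_le (U ⊔ LinearMap.ker φ)
      omega
    have a1 := hrk W ((Bf f J).flip x)
    obtain ⟨y, hy, hy0⟩ := (Submodule.ne_bot_iff (W ⊓ LinearMap.ker ((Bf f J).flip x))).1
      (fun h => by rw [h, finrank_bot] at a1; omega)
    have a2 := hrk (W ⊓ LinearMap.ker ((Bf f J).flip x)) ((Bf f J).flip y)
    obtain ⟨z, hz, hz0⟩ := (Submodule.ne_bot_iff (W ⊓ LinearMap.ker ((Bf f J).flip x) ⊓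
      LinearMap.ker ((Bf f J).flip y))).1 (fun h => by rw [h, finrank_bot] at a2; omega)
    have hxy : Bf f J y x = 0 := hy.2
    have hzx : Bf f J z x = 0 := hz.1.2
    have hzy : Bf f J z y = 0 := hz.2
    obtain ⟨s, t, hst⟩ := FiniteField.exists_root_sum_quadratic
      (f := Polynomial.C (Bf f J x x) * Polynomial.X ^ 2 - Polynomial.C (-(Bf f J z z)))
      (g := Polynomial.C (Bf f J y y) * Polynomial.X ^ 2)
      (by rw [Polynomial.degree_sub_C (by rw [Polynomial.degree_C_mul_X_pow 2 (hcon x hx hx0)]; norm_num),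
        Polynomial.degree_C_mul_X_pow 2 (hcon x hx hx0)]; rfl)
      (by rw [Polynomial.degree_C_mul_X_pow 2 (hcon y hy.1 hy0)]; rfl)
      (FiniteField.odd_card_of_char_ne_two (fun hc => h2 (by
        haveI := ringChar.charP F
        haveI : CharP F 2 := hc ▸ ringChar.charP F
        exact CharTwo.two_eq_zero)))
    simp only [Polynomial.eval_sub, Polynomial.eval_mul, Polynomial.eval_C, Polynomial.eval_pow,
      Polynomial.eval_X] at hst
    set p := s • x + t • y + z with hp
    have hpz : p ≠ 0 := fun e => by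
      have e' := congrArg (fun w => Bf f J z w) e
      simp [hp, hzx, hzy] at e'
      exact hcon z hz.1.1 hz0 e'
    refine hcon p (add_mem (add_mem (W.smul_mem s hx) (W.smul_mem t hy.1)) hz.1.1) hpz ?_
    simp only [hp, map_add, map_smul, LinearMap.add_apply, LinearMap.smul_apply, smul_eq_mul, hxy, hzx, hzy,
      B_symm hS x y, B_symm hS x z, B_symm hS y z]
    linear_combination hst
  -- a hyperbolic pair
  obtain ⟨v0, -, hv00, hv0⟩ := hiso ⊤ (by rw [finrank_top]; exact le_trans (by norm_num) hS.dim)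
  obtain ⟨y0, hy0⟩ : ∃ y, Bf f J v0 y ≠ 0 := by
    by_contra! h
    exact hv00 (B_nondeg hS h)
  set q1 := (Bf f J v0 y0)⁻¹ • y0 with hq1
  set q0 := q1 - (Bf f J q1 q1 / 2) • v0 with hq0
  have hvq1 : Bf f J v0 q1 = 1 := by simp [hq1, hy0]
  have hvq : Bf f J v0 q0 = 1 := by simp [hq0, hvq1, hv0]
  have hqv : Bf f J q0 v0 = 1 := by rw [B_symm hS, hvq]
  have hqq : Bf f J q0 q0 = 0 := by
    simp only [hq0, map_sub, map_smul, LinearMap.sub_apply, LinearMap.smul_apply, smul_eq_mul, hv0, hvq1,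
      B_symm hS q1 v0]
    field_simp
    ring
  have hB'l : ∀ x y z, B' (x + y) z = B' x z + B' y z := fun x y z => by simp [hB']
  have hB'r : ∀ x y z, B' x (y + z) = B' x y + B' x z := fun x y z => by simp [hB']
  have hB's : ∀ (s : F) x y, B' (s • x) y = s * B' x y := fun s x y => by simp [hB']
  have hB'sr : ∀ (s : F) x y, B' x (s • y) = s * B' x y := fun s x y => by simp [hB']
  have hB'c : ∀ x y, B' x y = B' y x := fun x y => B_symm hS _ _
  set b := B' v0 q0 with hb
  set a : V → F := fun z => B' v0 z with ha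
  let W : Submodule F V := LinearMap.ker ((Bf f J).flip v0) ⊓ LinearMap.ker ((Bf f J).flip q0)
  have hWm : ∀ {z}, z ∈ W ↔ Bf f J z v0 = 0 ∧ Bf f J z q0 = 0 := fun {z} => Iff.rfl
  -- the identity
  have key : ∀ z ∈ W, B' z z = b * Bf f J z z ∧ 2 * B' q0 z = a z * Bf f J z z := by
    intro z hz
    have e : ∀ z ∈ W, B' q0 q0 = 0 ∧ 2 * B' q0 z + B' z z - Bf f J z z * (b + a z) = 0 := by
      intro z hz
      obtain ⟨z1, z2⟩ := hWm.1 hz
      set t := - Bf f J z z / 2
      have hi : Bf f J (q0 + z + t • v0) (q0 + z + t • v0) = 0 := by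
        simp only [map_add, map_smul, LinearMap.add_apply, LinearMap.smul_apply, smul_eq_mul, hv0, hvq, hqv,
          hqq, z1, z2, B_symm hS q0 z, B_symm hS v0 z, t]
        field_simp
        ring
      have := hzero _ hi
      simp only [hB'l, hB'r, hB's, hB'sr, hzero v0 hv0, hzero q0 hqq, hB'c z q0, hB'c z v0, hB'c q0 v0] at this
      refine ⟨hzero q0 hqq, ?_⟩
      simp only [hb, ha]
      have ht : 2 * t = - Bf f J z z := by simp only [t]; field_simp
      linear_combination this - (B' v0 q0 + B' v0 z) * ht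
    have e1 := (e z hz).2
    have e2 := (e (-z) (W.neg_mem hz)).2
    simp only [ha, hB', map_neg, LinearMap.neg_apply, neg_neg] at e2
    simp only [ha, hB'] at e1 ⊢
    constructor
    · exact mul_left_cancel₀ h2 (by linear_combination e1 + e2)
    · exact mul_left_cancel₀ h2 (by linear_combination e1 - e2)
  -- isotropic vectors span `W`
  have hproj : ∀ y : V, y - (Bf f J y q0) • v0 - (Bf f J y v0) • q0 ∈ W := fun y => hWm.2
    ⟨by simp [hv0, hqv], by simp [hvq, hqq]⟩
  have hq0z : ∀ z ∈ W, B' q0 z = 0 := by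
    have hisoz : ∀ z ∈ W, Bf f J z z = 0 → B' q0 z = 0 := fun z hz hzz =>
      mul_left_cancel₀ h2 (by rw [(key z hz).2, hzz, mul_zero, mul_zero])
    obtain ⟨e0, he0, he00, hee⟩ : ∃ e ∈ W, e ≠ 0 ∧ Bf f J e e = 0 := by
      set ρ := Bf f J (J v0) q0
      refine ⟨J v0 - ρ • v0, hWm.2 ⟨?_, ?_⟩, fun e => ?_, ?_⟩
      · simp [hv0, B_J hS, hS.alt]
      · simp [hvq, ρ]
      · have h' := hS.sq v0
        rw [sub_eq_zero.1 e, map_smul, sub_eq_zero.1 e, smul_smul] at h'
        exact hS.nonsq ρ (smul_left_injective F hv00 h')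
      · simp [hv0, B_J hS, B_right_J hS, hS.alt, f_right hS, f_Jl hS]
    obtain ⟨y, hy⟩ : ∃ y, Bf f J e0 y ≠ 0 := by
      by_contra! h
      exact he00 (B_nondeg hS h)
    set y' := y - (Bf f J y q0) • v0 - (Bf f J y v0) • q0
    have hy' : Bf f J e0 y' ≠ 0 := by
      simpa [y', (hWm.1 he0).1, (hWm.1 he0).2] using hy
    have hstep : ∀ z ∈ W, Bf f J e0 z ≠ 0 → B' q0 z = 0 := by
      intro z hz hz0
      set t := - Bf f J z z / (2 * Bf f J e0 z)
      have h0 := hisoz (z + t • e0) (W.add_mem hz (W.smul_mem t he0)) (by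
        simp only [map_add, map_smul, LinearMap.add_apply, LinearMap.smul_apply, smul_eq_mul, hee,
          B_symm hS z e0, t]
        field_simp
        ring)
      rwa [hB'r, hB'sr, hisoz e0 he0 hee, mul_zero, add_zero] at h0
    intro z hz
    by_cases hz0 : Bf f J e0 z = 0
    · have h1 := hstep (z + y') (W.add_mem hz (hproj y)) (by rw [map_add, hz0, zero_add]; exact hy')
      rwa [hB'r, hstep y' (hproj y) hy', add_zero] at h1
    · exact hstep z hz hz0
  have hv0z : ∀ z ∈ W, a z = 0 := by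
    have h0 : ∀ z ∈ W, Bf f J z z ≠ 0 → a z = 0 := fun z hz hzz => by
      have h := (key z hz).2
      rw [hq0z z hz, mul_zero] at h
      exact (mul_eq_zero.1 h.symm).resolve_right hzz
    intro z hz
    by_cases hzz : Bf f J z z = 0
    · by_cases hz0 : z = 0
      · simp [hz0, ha, hB']
      obtain ⟨y, hy⟩ : ∃ y, Bf f J z y ≠ 0 := by
        by_contra! h
        exact hz0 (B_nondeg hS h)
      set y' := y - (Bf f J y q0) • v0 - (Bf f J y v0) • q0
      have hy' : Bf f J z y' ≠ 0 := by simpa [y', (hWm.1 hz).1, (hWm.1 hz).2] using hy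
      obtain ⟨w, hw, hww⟩ := exists_aniso_of hS W hz (hproj y) hy'
      obtain ⟨s, hs⟩ : ∃ s : F, s ≠ 0 ∧ Bf f J (z + s • w) (z + s • w) ≠ 0 := by
        by_contra! h
        have e1 := h 1 one_ne_zero
        have e2 := h (-1) (neg_ne_zero.2 one_ne_zero)
        simp only [map_add, map_smul, LinearMap.add_apply, LinearMap.smul_apply, smul_eq_mul, hzz,
          B_symm hS w z] at e1 e2
        exact hww (mul_left_cancel₀ h2 (by linear_combination e1 + e2))
      have e := h0 _ (W.add_mem hz (W.smul_mem s hw)) hs.2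
      have e' := h0 w hw hww
      simp only [ha] at e e' ⊢
      rwa [hB'r, hB'sr, e', mul_zero, add_zero] at e
    · exact h0 z hz hzz
  have hquad : ∀ x, B' x x = b * Bf f J x x := by
    intro x
    set s := Bf f J x q0
    set t := Bf f J x v0
    set z := x - s • v0 - t • q0 with hz
    have hzW : z ∈ W := hproj x
    have hx : x = s • v0 + t • q0 + z := by rw [hz]; abel
    have e1 := hv0z z hzW
    simp only [ha] at e1
    obtain ⟨z1, z2⟩ := hWm.1 hzW
    rw [hx]
    simp only [hB'l, hB'r, hB's, hB'sr, map_add, map_smul, LinearMap.add_apply, LinearMap.smul_apply, smul_eq_mul,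
      hv0, hqq, hvq, hqv, z1, z2, B_symm hS q0 z, B_symm hS v0 z, hzero v0 hv0, hzero q0 hqq, hB'c z q0, hB'c z v0,
      hB'c q0 v0, e1, hq0z z hzW, (key z hzW).1, ← hb]
    ring
  have hpol : ∀ x y, B' x y = b * Bf f J x y := fun x y => mul_left_cancel₀ h2 (by
    have e := hquad (x + y)
    simp only [hB'l, hB'r, map_add, LinearMap.add_apply, hquad x, hquad y, hB'c y x, B_symm hS y x] at e
    linear_combination e)
  refine ⟨b, fun x => ?_⟩
  rw [← sub_eq_zero]
  refine hS.nondeg _ fun y => ?_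
  have e : Bf f J (g x) (g (g⁻¹ y)) = b * Bf f J x (g⁻¹ y) := hpol x (g⁻¹ y)
  rw [app_inv] at e
  rw [map_sub, LinearMap.sub_apply, map_smul, LinearMap.smul_apply, smul_eq_mul, f_Jl hS, e,
    show f (g (J x)) y = f (g (J x)) (g (g⁻¹ y)) by rw [app_inv], hM.pres g hg, f_Jl hS, sub_self]

end

end Cfsg.Agent.Sp4UnitNorm44Core
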