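import Cfsg.Prelude.Def_GeometricClasses
import Cfsg.Agent.Lib.Sp4UnitNorm44Core
import Cfsg.Agent.Lib.TransvectionMax

set_option autoImplicit false
set_option linter.style.haveILetI false
set_option maxHeartbeats 1000000
open Cfsg

namespace Cfsg.Agent.Sp4UnitNorm44

open scoped Matrix MatrixGroups

variable {F : Type*} [Field F] [Fintype F] {m : ℕ}

/-- The square root: `K = F + F δ` with `δ` anti-self-adjoint and `δ² = ν` a non-square. -/
theorem exists_delta (hm : 2 ≤ m) (hodd : (2 : F) ≠ 0)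
    (K : Subalgebra F (Matrix (Fin m ⊕ Fin m) (Fin m ⊕ Fin m) F)) (hK : Cfsg.Geo.IsFieldSubalgebra 2 K)
    (hac : Cfsg.Geo.IsAdjointClosedFor (Cfsg.sympForm m F) K)
    (hnsa : ¬ Cfsg.Geo.IsSelfAdjointFor (Cfsg.sympForm m F) K) :
    ∃ (δ : Matrix (Fin m ⊕ Fin m) (Fin m ⊕ Fin m) F) (ν : F), δ ∈ K ∧ δ * δ = ν • 1 ∧ (∀ s : F, s * s ≠ ν) ∧
      (∀ x y, Cfsg.sympForm m F (δ *ᵥ x) y = - Cfsg.sympForm m F x (δ *ᵥ y)) ∧
      ∀ k ∈ K, ∃ a b : F, k = a • 1 + b • δ := by
  classical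
  have hf := TransvectionMax.sympForm_isSymplecticForm (F := F) m
  haveI : Nonempty (Fin m ⊕ Fin m) := ⟨Sum.inl ⟨0, by omega⟩⟩
  obtain ⟨k, hk, hk'⟩ : ∃ k ∈ K, ¬ ∀ u v, Cfsg.sympForm m F (k *ᵥ u) v = Cfsg.sympForm m F u (k *ᵥ v) := by
    simp only [Cfsg.Geo.IsSelfAdjointFor, not_forall] at hnsa
    obtain ⟨k, hk, h⟩ := hnsa
    exact ⟨k, hk, fun h' => h.elim fun u ⟨v, huv⟩ => huv (h' u v)⟩
  obtain ⟨k', hk'K, hadj⟩ := hac k hk
  set δ := k - k' with hδ
  have hδK : δ ∈ K := sub_mem hk hk'K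
  have hδ0 : δ ≠ 0 := fun h => hk' (fun u v => by rw [hadj u v, sub_eq_zero.1 h])
  have hadj' : ∀ u v, Cfsg.sympForm m F (k' *ᵥ u) v = Cfsg.sympForm m F u (k *ᵥ v) := fun u v => by
    rw [hf.skew, ← hadj v u, ← hf.skew]
  have hanti : ∀ x y, Cfsg.sympForm m F (δ *ᵥ x) y = - Cfsg.sympForm m F x (δ *ᵥ y) := fun x y => by
    simp only [hδ, Matrix.sub_mulVec, TransvectionMax.sub_left hf.bilinear, TransvectionMax.sub_right hf.bilinear,
      hadj, hadj']
    ring
  have hnF : ∀ s : F, δ ≠ s • 1 := by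
    intro s hs
    obtain ⟨x, hx⟩ := exists_ne (0 : Fin m ⊕ Fin m → F)
    obtain ⟨-, y, hy⟩ := hf.nondegenerate x hx
    have h := hanti x y
    rw [hs] at h
    simp only [Matrix.smul_mulVec, Matrix.one_mulVec, hf.bilinear.smul_left, hf.bilinear.smul_right] at h
    have h2 : 2 * s * Cfsg.sympForm m F x y = 0 := by linear_combination h
    simp [hy, hodd] at h2
    exact hδ0 (by rw [hs, h2, zero_smul])
  -- spanning
  have hind : ∀ a b : F, a • (1 : Matrix (Fin m ⊕ Fin m) (Fin m ⊕ Fin m) F) + b • δ = 0 → a = 0 ∧ b = 0 := by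
    intro a b h
    by_cases hb : b = 0
    · rw [hb, zero_smul, add_zero, smul_eq_zero] at h
      exact ⟨h.resolve_right one_ne_zero, hb⟩
    · exfalso
      apply hnF (-(a / b))
      have := congrArg (b⁻¹ • ·) h
      simp only [smul_add, smul_smul, inv_mul_cancel₀ hb, one_smul, smul_zero] at this
      rw [neg_smul, div_eq_inv_mul]
      exact eq_neg_of_add_eq_zero_right this
  have hspan : ∀ k ∈ K, ∃ a b : F, k = a • 1 + b • δ := by
    intro k hk
    let L : (F × F) →ₗ[F] K :=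
      { toFun := fun p => ⟨p.1 • 1 + p.2 • δ, add_mem (K.smul_mem (one_mem K) _) (K.smul_mem hδK _)⟩
        map_add' := fun p q => by
          apply Subtype.ext
          simp only [Prod.fst_add, Prod.snd_add, add_smul, Subalgebra.coe_add]; abel
        map_smul' := fun c p => by
          apply Subtype.ext
          simp [smul_smul] }
    have hL : Function.Injective L := by
      rw [injective_iff_map_eq_zero]
      intro p hp
      obtain ⟨h1, h2⟩ := hind _ _ (congrArg Subtype.val hp)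
      exact Prod.ext h1 h2
    haveI : FiniteDimensional F K := Module.finite_of_finrank_pos (R := F) (M := K) (by rw [hK.finrank_eq]; norm_num)
    obtain ⟨⟨a, b⟩, hab⟩ := (LinearMap.injective_iff_surjective_of_finrank_eq_finrank
      (by rw [Module.finrank_prod, Module.finrank_self, hK.finrank_eq])).1 hL ⟨k, hk⟩
    exact ⟨a, b, (congrArg Subtype.val hab).symm⟩
  obtain ⟨a, b, hab⟩ := hspan (δ * δ) (mul_mem hδK hδK)
  have hb : b = 0 := by
    by_contra hb
    -- `δ²` is self adjoint and so would `δ` be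
    have h : ∀ x y, b * Cfsg.sympForm m F (δ *ᵥ x) y = b * Cfsg.sympForm m F x (δ *ᵥ y) := by
      intro x y
      have h1 : Cfsg.sympForm m F ((δ * δ) *ᵥ x) y = Cfsg.sympForm m F x ((δ * δ) *ᵥ y) := by
        rw [← Matrix.mulVec_mulVec, ← Matrix.mulVec_mulVec, hanti, hanti, neg_neg]
      rw [hab] at h1
      simp only [Matrix.add_mulVec, Matrix.smul_mulVec, Matrix.one_mulVec, hf.bilinear.add_left,
        hf.bilinear.add_right, hf.bilinear.smul_left, hf.bilinear.smul_right] at h1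
      linear_combination h1
    apply hδ0
    apply Matrix.ext_iff_mulVec.mpr
    intro x
    rw [Matrix.zero_mulVec]
    by_contra hx
    obtain ⟨-, y, hy⟩ := hf.nondegenerate _ hx
    have h1 := mul_left_cancel₀ hb (h x y)
    rw [hanti] at h1 hy
    have : 2 * Cfsg.sympForm m F x (δ *ᵥ y) = 0 := by linear_combination -h1
    simp [hodd] at this
    exact hy (by rw [this, neg_zero])
  refine ⟨δ, a, hδK, by rw [hab, hb, zero_smul, add_zero], fun s hs => ?_, hanti, hspan⟩
  have h : (δ - s • 1) * (δ + s • 1) = 0 := by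
    rw [sub_mul, mul_add, mul_add, hab, hb]
    simp [smul_smul, hs]
    abel
  by_cases h1 : δ - s • 1 = 0
  · exact hnF s (sub_eq_zero.1 h1)
  · obtain ⟨y, hy, hxy⟩ := hK.inv _ (sub_mem hδK (K.smul_mem (one_mem K) s)) h1
    rw [hK.comm _ (sub_mem hδK (K.smul_mem (one_mem K) s)) y hy] at hxy
    have := congrArg (y * ·) h
    simp only [← mul_assoc, hxy, one_mul, mul_zero] at this
    exact hnF (-s) (by rw [neg_smul]; exact eq_neg_of_add_eq_zero_left this)

/-- For a finite field F of odd order and m ≥ 2 and at least five elements, let K be a subfield of the algebra of 2m × 2m matrices over F containing the scalars, of degree 2 over F, that is closed under adjoints for the standard alternating form on F^(2m) but whose elements are not all self-adjoint (so the adjoint map induces the automorphism of order two of K). Then the elements of Sp_2m(F) normalising K form a maximal subgroup of Sp_2m(F). -/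
theorem isMaximalIn_stab {F : Type*} [Field F] [Fintype F] (m : ℕ) (hm : 2 ≤ m) (hodd : Odd (Fintype.card F)) (h5 : 5 ≤ Fintype.card F) (K : Subalgebra F (Matrix (Fin m ⊕ Fin m) (Fin m ⊕ Fin m) F)) (hK : Cfsg.Geo.IsFieldSubalgebra 2 K) (hac : Cfsg.Geo.IsAdjointClosedFor (Cfsg.sympForm m F) K) (hnsa : ¬ Cfsg.Geo.IsSelfAdjointFor (Cfsg.sympForm m F) K) : Cfsg.Geo.IsMaximalIn (Cfsg.spGL m F) (Cfsg.Geo.subalgebraNormalizer K ⊓ Cfsg.spGL m F) := by
  classical
  have h2 : (2 : F) ≠ 0 := by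
    apply Ring.two_ne_zero
    intro h
    exact (Nat.not_even_iff_odd.2 hodd) (FiniteField.even_card_iff_char_two.1 h |> Nat.even_iff.2)
  obtain ⟨δ, ν, hδK, hsq, hns, hanti, hspan⟩ := exists_delta hm h2 K hK hac hnsa
  have hf := TransvectionMax.sympForm_isSymplecticForm (F := F) m
  haveI : Nonempty (Fin m ⊕ Fin m) := ⟨Sum.inl ⟨0, by omega⟩⟩
  let fl : (Fin m ⊕ Fin m → F) →ₗ[F] (Fin m ⊕ Fin m → F) →ₗ[F] F :=
    LinearMap.mk₂ F (Cfsg.sympForm m F) hf.bilinear.add_left hf.bilinear.smul_left hf.bilinear.add_right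
      (fun c x y => hf.bilinear.smul_right c x y)
  have hfl : ∀ x y, fl x y = Cfsg.sympForm m F x y := fun x y => rfl
  let J : (Fin m ⊕ Fin m → F) →ₗ[F] (Fin m ⊕ Fin m → F) := Matrix.toLin' δ
  have hJ : ∀ x, J x = δ *ᵥ x := fun x => Matrix.toLin'_apply δ x
  have hS : Sp4UnitNorm44Core.Setting fl J ν := by
    refine ⟨h2, fun x => hf.alternating x, fun x hx => ?_, fun x y => ?_, fun x => ?_, hns, ?_, by omega⟩
    · by_contra hne
      obtain ⟨-, y, hy⟩ := hf.nondegenerate x hne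
      exact hy (hx y)
    · rw [hfl, hfl, hJ, hJ, hanti]
    · rw [hJ, hJ, Matrix.mulVec_mulVec, hsq, Matrix.smul_mulVec, Matrix.one_mulVec]
    · rw [Module.finrank_fintype_fun_eq_card, Fintype.card_sum, Fintype.card_fin]; omega
  -- the normaliser is proper
  have hwit : ¬ Cfsg.spGL m F ≤ Cfsg.Geo.subalgebraNormalizer K := by
    intro hle
    obtain ⟨u₀, hu₀⟩ := exists_ne (0 : Fin m ⊕ Fin m → F)
    obtain ⟨w, hw⟩ : ∃ w, Sp4UnitNorm44Core.Bf fl J u₀ w ≠ 0 := by
      by_contra! hcon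
      exact hu₀ (Sp4UnitNorm44Core.B_nondeg hS hcon)
    obtain ⟨u, -, huu⟩ := Sp4UnitNorm44Core.exists_aniso_of hS ⊤ Submodule.mem_top Submodule.mem_top hw
    change fl (J u) u ≠ 0 at huu
    rw [hfl, hJ] at huu
    set T := TransvectionMax.st (Cfsg.sympForm m F) u 1 with hT
    have hTx : ∀ x, (T : Matrix (Fin m ⊕ Fin m) (Fin m ⊕ Fin m) F) *ᵥ x = x + Cfsg.sympForm m F x u • u :=
      fun x => by rw [hT, TransvectionMax.st_act hf, one_mul]
    obtain ⟨a, b, hab⟩ := hspan _ (((hle (TransvectionMax.st_mem_spGL m u 1)) δ).1 hδK)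
    have hk : ∀ x, a • ((T : Matrix (Fin m ⊕ Fin m) (Fin m ⊕ Fin m) F) *ᵥ x) +
        b • (δ *ᵥ ((T : Matrix (Fin m ⊕ Fin m) (Fin m ⊕ Fin m) F) *ᵥ x)) =
          (T : Matrix (Fin m ⊕ Fin m) (Fin m ⊕ Fin m) F) *ᵥ (δ *ᵥ x) := fun x => by
      have := congrArg (fun A : Matrix (Fin m ⊕ Fin m) (Fin m ⊕ Fin m) F =>
        (A * (T : Matrix (Fin m ⊕ Fin m) (Fin m ⊕ Fin m) F)) *ᵥ x) hab
      simp only [← hT, Units.inv_mul_cancel_right, add_mul, Matrix.smul_mul, one_mul, Matrix.add_mulVec,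
        Matrix.smul_mulVec, ← Matrix.mulVec_mulVec] at this
      exact this.symm
    set β := Cfsg.sympForm m F (δ *ᵥ u) u with hβ
    have h1 := hk u
    rw [hTx u, hTx (δ *ᵥ u), hf.alternating, zero_smul, add_zero, ← hβ] at h1
    have hu : u ≠ 0 := fun h => huu (by rw [hβ, h, TransvectionMax.zero_right hf.bilinear])
    have hind : ∀ s t : F, s • u + t • (δ *ᵥ u) = 0 → s = 0 ∧ t = 0 := by
      intro s t hst
      by_contra hne
      have h3 := congrArg (δ *ᵥ ·) hst
      simp only [Matrix.mulVec_add, Matrix.mulVec_smul, Matrix.mulVec_mulVec, hsq, Matrix.smul_mulVec,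
        Matrix.one_mulVec, Matrix.mulVec_zero] at h3
      have h4 : (s * s - ν * (t * t)) • u = s • (s • u + t • (δ *ᵥ u)) - t • (s • (δ *ᵥ u) + t • (ν • u)) := by
        module
      rw [hst, h3, smul_zero, smul_zero, sub_zero] at h4
      exact Sp4UnitNorm44Core.norm_ne hS hne ((smul_eq_zero.1 h4).resolve_right hu)
    obtain ⟨ha, hb⟩ := hind (a - β) (b - 1) (by rw [sub_smul, sub_smul, one_smul]; rw [← sub_eq_zero] at h1; rw [← h1]; abel)
    rw [sub_eq_zero] at ha hb
    subst ha hb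
    have h5 := hk (δ *ᵥ u)
    have h9 : δ *ᵥ (δ *ᵥ u) = ν • u := by rw [Matrix.mulVec_mulVec, hsq, Matrix.smul_mulVec, Matrix.one_mulVec]
    simp only [hTx, h9, hf.bilinear.smul_left, hf.alternating, Matrix.mulVec_add, Matrix.mulVec_smul, ← hβ,
      mul_zero, zero_smul, add_zero] at h5
    obtain ⟨-, h6⟩ := hind (β * β) (2 * β) (by rw [← sub_eq_zero] at h5; rw [← h5]; module)
    exact mul_ne_zero h2 huu h6
  refine ⟨lt_of_le_of_ne inf_le_right (fun h => hwit (h ▸ inf_le_left)), fun M h1 h2' => ?_⟩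
  by_cases h : M ≤ Cfsg.Geo.subalgebraNormalizer K
  · exact Or.inl (le_antisymm (le_inf h h2') h1)
  obtain ⟨g₀, hg₀, hg₀N⟩ := SetLike.not_le_iff_exists.1 h
  right
  refine le_antisymm h2' (TransvectionMax.spGL_le m fun u c => ?_)
  let M' : Subgroup ((Fin m ⊕ Fin m → F) ≃ₗ[F] (Fin m ⊕ Fin m → F)) :=
    { carrier := {g | ∃ G ∈ M, ∀ x, (G : Matrix (Fin m ⊕ Fin m) (Fin m ⊕ Fin m) F) *ᵥ x = g x}
      mul_mem' := by
        rintro a b ⟨A, hA, hAx⟩ ⟨B, hB, hBx⟩
        exact ⟨A * B, mul_mem hA hB, fun x => by rw [TransvectionMax.mul_act, hBx, hAx]; rfl⟩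
      one_mem' := ⟨1, one_mem M, fun x => by rw [TransvectionMax.one_act]; rfl⟩
      inv_mem' := by
        rintro a ⟨A, hA, hAx⟩
        refine ⟨A⁻¹, inv_mem hA, fun x => ?_⟩
        apply a.injective
        rw [← hAx, TransvectionMax.act_inv_act]
        exact (a.apply_symm_apply x).symm }
  have hHyp : Sp4UnitNorm44Core.Hyp M' fl J := by
    refine ⟨fun g hlin hpres => ?_, fun g hg x y => ?_⟩
    · let G : GL (Fin m ⊕ Fin m) F :=
        ⟨LinearMap.toMatrix' g.toLinearMap, LinearMap.toMatrix' g.symm.toLinearMap,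
          by rw [← LinearMap.toMatrix'_comp, LinearEquiv.comp_symm, LinearMap.toMatrix'_id],
          by rw [← LinearMap.toMatrix'_comp, LinearEquiv.symm_comp, LinearMap.toMatrix'_id]⟩
      have hG : ∀ x, (G : Matrix (Fin m ⊕ Fin m) (Fin m ⊕ Fin m) F) *ᵥ x = g x := fun x =>
        LinearMap.toMatrix'_mulVec g.toLinearMap x
      refine ⟨G, h1 ⟨?_, ?_⟩, hG⟩
      · have hconj : ∀ k ∈ K, (G : Matrix (Fin m ⊕ Fin m) (Fin m ⊕ Fin m) F) * k * (G⁻¹ : GL (Fin m ⊕ Fin m) F) = k := by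
          intro k hk
          obtain ⟨a, b, rfl⟩ := hspan k hk
          rw [Units.mul_inv_eq_iff_eq_mul]
          apply Matrix.ext_iff_mulVec.mpr
          intro x
          simp only [← Matrix.mulVec_mulVec, Matrix.add_mulVec, Matrix.smul_mulVec, Matrix.one_mulVec, hG,
            map_add, map_smul, ← hJ, hlin]
        intro k
        constructor
        · intro hk
          rw [hconj k hk]
          exact hk
        · intro hk
          have := (Units.mul_right_inj G).1 ((Units.mul_left_inj G⁻¹).1 (hconj _ hk))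
          rw [← this]
          exact hk
      · intro x y
        show Cfsg.sympForm m F ((G : Matrix (Fin m ⊕ Fin m) (Fin m ⊕ Fin m) F) *ᵥ x)
          ((G : Matrix (Fin m ⊕ Fin m) (Fin m ⊕ Fin m) F) *ᵥ y) = _
        rw [hG, hG]
        exact hpres x y
    · obtain ⟨G, hG, hGx⟩ := hg
      rw [hfl, hfl, ← hGx, ← hGx]
      exact h2' hG x y
  let g : (Fin m ⊕ Fin m → F) ≃ₗ[F] (Fin m ⊕ Fin m → F) :=
    LinearEquiv.ofBijective (Matrix.toLin' (g₀ : Matrix (Fin m ⊕ Fin m) (Fin m ⊕ Fin m) F))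
      ((Finite.injective_iff_bijective).1 fun a b h =>
        TransvectionMax.act_injective g₀ (by simpa [Matrix.toLin'_apply] using h))
  have hgM : g ∈ M' := ⟨g₀, hg₀, fun x => (Matrix.toLin'_apply _ x).symm⟩
  have hgx : ∀ x, g x = (g₀ : Matrix (Fin m ⊕ Fin m) (Fin m ⊕ Fin m) F) *ᵥ x := fun x => Matrix.toLin'_apply _ x
  rcases Sp4UnitNorm44Core.dichotomy hS hHyp hgM with hall | ⟨b₀, hb₀⟩
  · obtain ⟨t, ⟨G, hG, hGx⟩, ht⟩ := hall u c
    convert hG using 1
    refine TransvectionMax.gl_ext fun x => ?_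
    rw [TransvectionMax.st_act hf, hGx, ht, hfl]
  · exfalso
    apply hg₀N
    have hb0 : b₀ ≠ 0 := by
      intro h0
      obtain ⟨x, hx⟩ := exists_ne (0 : Fin m ⊕ Fin m → F)
      have h := hb₀ x
      rw [h0, zero_smul] at h
      have h' := hS.sq (g x)
      rw [h, map_zero] at h'
      exact hx (g.injective (by rw [map_zero, (smul_eq_zero.1 h'.symm).resolve_left (Sp4UnitNorm44Core.nu_ne hS)]))
    set a : F := 0
    set b : F := b₀⁻¹
    have hall : ∀ x, g (J x) = a • g x + b • J (g x) := fun x => by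
      rw [hb₀, zero_smul, zero_add, smul_smul, inv_mul_cancel₀ hb0, one_smul]
    have hgd : (g₀ : Matrix (Fin m ⊕ Fin m) (Fin m ⊕ Fin m) F) * δ * (g₀⁻¹ : GL (Fin m ⊕ Fin m) F) =
        a • 1 + b • δ := by
      rw [Units.mul_inv_eq_iff_eq_mul]
      apply Matrix.ext_iff_mulVec.mpr
      intro x
      have := hall x
      simp only [hgx, hJ] at this
      simp only [← Matrix.mulVec_mulVec, Matrix.add_mulVec, Matrix.smul_mulVec, Matrix.one_mulVec]
      exact this
    let Φ : K → K := fun k => ⟨(g₀ : Matrix (Fin m ⊕ Fin m) (Fin m ⊕ Fin m) F) * k * (g₀⁻¹ : GL (Fin m ⊕ Fin m) F), by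
      obtain ⟨s, t, hst⟩ := hspan k k.2
      rw [hst, mul_add, add_mul, Matrix.mul_smul, Matrix.mul_smul, Matrix.smul_mul, Matrix.smul_mul, mul_one,
        Units.mul_inv, hgd]
      exact add_mem (K.smul_mem (one_mem K) s) (K.smul_mem (add_mem (K.smul_mem (one_mem K) a) (K.smul_mem hδK b)) t)⟩
    have hΦ : Function.Injective Φ := fun k k' h =>
      Subtype.ext ((Units.mul_right_inj g₀).1 ((Units.mul_left_inj g₀⁻¹).1 (congrArg Subtype.val h)))
    haveI : Finite K := Subtype.finite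
    intro k
    constructor
    · intro hk
      exact (Φ ⟨k, hk⟩).2
    · intro hk
      obtain ⟨k', hk'⟩ := (Finite.injective_iff_surjective.1 hΦ) ⟨_, hk⟩
      have := (Units.mul_right_inj g₀).1 ((Units.mul_left_inj g₀⁻¹).1 (congrArg Subtype.val hk'))
      rw [← this]
      exact k'.2

end Cfsg.Agent.Sp4UnitNorm44
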