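import Cfsg.Agent.Lib.SympSingularMax97
import Cfsg.Agent.Lib.SympDecompMax97
import Cfsg.Agent.Lib.Sp4ExtField97
import Cfsg.Agent.Lib.Sp4UnitNorm44
import Cfsg.Agent.Lib.Sp4PairMax44
import Cfsg.Agent.Lib.Sp4SubfieldMax44

/-!
Sp_4(q), q odd: the six geometric families other than the symplectic-type normalisers.
-/

set_option autoImplicit false
open Cfsg

namespace Cfsg.Agent.Sp4GeomGlue44

open Cfsg.Agent.TransvectionMax
open scoped Matrix MatrixGroups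

variable {F : Type*} [Field F]

lemma not_le_normalizer (K : Subalgebra F (Matrix (Fin 2 ⊕ Fin 2) (Fin 2 ⊕ Fin 2) F))
    (hK : Cfsg.Geo.IsFieldSubalgebra 2 K)
    (halt : ∀ k ∈ K, ∀ v : (Fin 2 ⊕ Fin 2 → F), Cfsg.sympForm 2 F (Matrix.mulVec k v) v = 0) :
    ¬ Cfsg.spGL 2 F ≤ Cfsg.Geo.subalgebraNormalizer K := by
  intro hle
  have hf := sympForm_isSymplecticForm (F := F) 2
  have hbot : K = ⊥ := eq_bot_iff.2 fun k hk => by
    set u : Fin 2 ⊕ Fin 2 → F := Pi.single (Sum.inl 0) 1 with hu_def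
    have hu : u ≠ 0 := by simp [u]
    obtain ⟨⟨y, hy⟩, -⟩ := hf.nondegenerate u hu
    set T := st (Cfsg.sympForm 2 F) u 1 with hT
    have hTx : ∀ x, (T : Matrix _ _ F) *ᵥ x = x + Cfsg.sympForm 2 F x u • u := fun x => by
      rw [hT, st_act hf, one_mul]
    have hk' := (hle (st_mem_spGL 2 u 1) k).1 hk
    set k' := (T : Matrix _ _ F) * k * ((T⁻¹ : GL _ F) : Matrix _ _ F) with hk'def
    have hcm : ∀ x, k' *ᵥ ((T : Matrix _ _ F) *ᵥ x) = (T : Matrix _ _ F) *ᵥ (k *ᵥ x) := fun x => by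
      rw [Matrix.mulVec_mulVec, Matrix.mulVec_mulVec, hk'def, Units.inv_mul_cancel_right]
    have hkk : k' = k := by
      by_contra hne
      obtain ⟨w, hw, hwe⟩ := hK.inv _ (K.sub_mem hk' hk) (sub_ne_zero.2 hne)
      rw [hK.comm _ (K.sub_mem hk' hk) w hw] at hwe
      apply hu
      have h0 : (k' - k) *ᵥ u = 0 := by
        have := hcm u
        rw [hTx, hTx, hf.alternating, zero_smul, add_zero, halt k hk u, zero_smul, add_zero] at this
        rw [Matrix.sub_mulVec, this, sub_self]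
      have := congrArg (fun m => w *ᵥ m) h0
      simpa [Matrix.mulVec_mulVec, hwe] using this
    have h := hcm y
    rw [hkk, hTx, hTx, Matrix.mulVec_add, add_right_inj, Matrix.mulVec_smul] at h
    set e := (Cfsg.sympForm 2 F y u)⁻¹ * Cfsg.sympForm 2 F (k *ᵥ y) u
    refine Algebra.mem_bot.2 ⟨e, ?_⟩
    by_contra hne
    have hmem : k - e • 1 ∈ K := K.sub_mem hk (K.smul_mem K.one_mem e)
    obtain ⟨w, hw, hwe⟩ := hK.inv _ hmem (fun h0 => hne (by rw [Algebra.algebraMap_eq_smul_one, sub_eq_zero.1 h0]))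
    rw [hK.comm _ hmem w hw] at hwe
    apply hu
    have h0 : (k - e • 1) *ᵥ u = 0 := by
      have h5 := congrArg (fun m => (Cfsg.sympForm 2 F y u)⁻¹ • m) h
      simp only [smul_smul, inv_mul_cancel₀ hy, one_smul] at h5
      rw [Matrix.sub_mulVec, Matrix.smul_mulVec, Matrix.one_mulVec, h5, sub_self]
    have := congrArg (fun m => w *ᵥ m) h0
    simpa [Matrix.mulVec_mulVec, hwe] using this
  have := hK.finrank_eq
  rw [hbot, Subalgebra.finrank_bot] at this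
  exact absurd this (by norm_num)

/-- The six families. -/
theorem six_families [Fintype F] (hodd : Odd (Fintype.card F)) :
    (∀ W : Submodule F (Fin 2 ⊕ Fin 2 → F), W ≠ ⊥ → Cfsg.Geo.IsTotallySingularFor (Cfsg.sympForm 2 F) W → Cfsg.Geo.IsMaximalIn (Cfsg.spGL 2 F) (Cfsg.Geo.subspaceStabilizer W ⊓ Cfsg.spGL 2 F)) ∧
    (∀ D : Fin 2 → Submodule F (Fin 2 ⊕ Fin 2 → F), Cfsg.Geo.IsNondegenerateMDecomposition (Cfsg.sympForm 2 F) 2 D → Cfsg.Geo.IsMaximalIn (Cfsg.spGL 2 F) (Cfsg.Geo.decompositionStabilizer D ⊓ Cfsg.spGL 2 F)) ∧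
    (5 ≤ Fintype.card F → ∀ D : Fin 2 → Submodule F (Fin 2 ⊕ Fin 2 → F), Cfsg.Geo.IsMDecomposition 2 D → (∀ i, Cfsg.Geo.IsTotallySingularFor (Cfsg.sympForm 2 F) (D i)) → Cfsg.Geo.IsMaximalIn (Cfsg.spGL 2 F) (Cfsg.Geo.decompositionStabilizer D ⊓ Cfsg.spGL 2 F)) ∧
    (∀ K : Subalgebra F (Matrix (Fin 2 ⊕ Fin 2) (Fin 2 ⊕ Fin 2) F), Cfsg.Geo.IsFieldSubalgebra 2 K → Cfsg.Geo.IsSelfAdjointFor (Cfsg.sympForm 2 F) K → (∀ k ∈ K, ∀ v : (Fin 2 ⊕ Fin 2 → F), (Cfsg.sympForm 2 F) (Matrix.mulVec k v) v = 0) → Cfsg.Geo.IsMaximalIn (Cfsg.spGL 2 F) (Cfsg.Geo.subalgebraNormalizer K ⊓ Cfsg.spGL 2 F)) ∧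
    (5 ≤ Fintype.card F → ∀ K : Subalgebra F (Matrix (Fin 2 ⊕ Fin 2) (Fin 2 ⊕ Fin 2) F), Cfsg.Geo.IsFieldSubalgebra 2 K → Cfsg.Geo.IsAdjointClosedFor (Cfsg.sympForm 2 F) K → ¬ Cfsg.Geo.IsSelfAdjointFor (Cfsg.sympForm 2 F) K → Cfsg.Geo.IsMaximalIn (Cfsg.spGL 2 F) (Cfsg.Geo.subalgebraNormalizer K ⊓ Cfsg.spGL 2 F)) ∧
    (∀ (F₀ : Subfield F) (r : ℕ) (P : Matrix.GeneralLinearGroup (Fin 2 ⊕ Fin 2) F) (ζ : F), r.Prime → Fintype.card F = Nat.card F₀ ^ r → ζ ≠ 0 → Cfsg.Geo.IsFormRationalStructure (Cfsg.sympForm 2 F) F₀ ζ P → Cfsg.Geo.IsMaximalIn (Cfsg.spGL 2 F) (Cfsg.Geo.subfieldSubgroup F₀ P ⊓ Cfsg.spGL 2 F)) := by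
  classical
  have hf := sympForm_isSymplecticForm (F := F) 2
  have h2 : (2 : F) ≠ 0 := Ring.two_ne_zero fun hc => by
    have := FiniteField.even_card_of_char_two (F := F) hc
    rw [Nat.odd_iff] at hodd
    omega
  have hc3 : 3 ≤ Fintype.card F := by
    have := Fintype.one_lt_card (α := F)
    rw [Nat.odd_iff] at hodd
    omega
  refine ⟨fun W hW0 hW => SympSingularMax97.isMaximalIn_stab 2 le_rfl W hW0 hW,
    fun D hD => SympDecompMax97.isMaximalIn_stab 2 le_rfl 2 D hD (fun h => by omega),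
    fun h5 D hD hts => Sp4PairMax44.isMaximalIn_stab 2 rfl hodd h5 D hD hts,
    fun K hK hsa halt => ?_,
    fun h5 K hK hac hnsa => Sp4UnitNorm44.isMaximalIn_stab 2 le_rfl hodd h5 K hK hac hnsa,
    fun F₀ r P ζ hr hcard hζ hP => Sp4SubfieldMax44.isMaximalIn_stab 2 le_rfl h2 F₀ r hr hcard P ζ hζ hP⟩
  refine ⟨lt_of_le_of_ne inf_le_right fun he => not_le_normalizer K hK halt (he ▸ inf_le_left),
    fun M h1 h2' => ?_⟩
  by_cases h : M ≤ Cfsg.Geo.subalgebraNormalizer K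
  · exact Or.inl (le_antisymm (le_inf h h2') h1)
  exact Or.inr (le_antisymm h2' (spGL_le 2 (Sp4ExtField97.all_transvections hf (by simp) (by omega) K hK hsa halt M
    (fun g hg hN => h1 ⟨hN, hg⟩) (fun g hg => h2' hg) h)))

end Cfsg.Agent.Sp4GeomGlue44
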