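import Cfsg.Agent.Lib.Sp62Three31AutoOrbit
import Cfsg.Agent.Lib.S9Base37

/-!
S3342: fusion and the automiser of `J`, with the monomial frame in the inverted case.
-/

set_option autoImplicit false
set_option Elab.async false
set_option maxRecDepth 100000

namespace Cfsg.Agent.Sp62Three31Auto

open Subgroup Sp62Three31

universe u

variable {G : Type u} [Group G]

theorem tet_facts : tet.card = 4 ∧ one3 ∈ tet ∧ ((1, 2, 2) : V) ∈ tet ∧ ((2, 1, 2) : V) ∈ tet ∧
    ((2, 2, 1) : V) = -(((1, 1, 1) : V) + (1, 2, 2) + (2, 1, 2)) := by decide +kernel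

theorem cube_facts : one3 ∈ cube ∧ ((1, 2, 2) : V) ∈ cube ∧ ((2, 1, 2) : V) ∈ cube ∧
    ((2, 2, 1) : V) ∈ cube ∧ cube.card = 8 ∧
    ((1, 2, 2) : V) ≠ (1, 1, 1) ∧ ((1, 2, 2) : V) ≠ -(1, 1, 1) ∧
    ((2, 1, 2) : V) ≠ (1, 1, 1) ∧ ((2, 1, 2) : V) ≠ -(1, 1, 1) ∧
    ((2, 1, 2) : V) ≠ (1, 2, 2) ∧ ((2, 1, 2) : V) ≠ -(1, 2, 2) := by decide +kernel

theorem pmap_eq (π : Equiv.Perm (Fin 3)) : pmap π = mono (π, fun _ => false) := by
  funext v
  simp [pmap, mono, sgn]

theorem mono_unit_eq : ∀ v ∈ [u0, u1, u2], -v = mono monNeg v := fun v hv =>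
  (gens_mono v hv).2.2.2.2.2

/-- The sign change of a block. -/
def dd (i : Fin 3) : V → V := mono (monD i)

/-- The vector of a point. -/
def pv (n : Fin 9) : V :=
  ofCo fun i => if i = S9Base37.qq n then 2 * ((S9Base37.rr n).val : ZMod 3) + 2 else 0

/-- The condition for an element of the complement to induce a permutation of the points. -/
def ActsAs (m : Mon) (σ : S9Model37.P9) : Prop :=
  ∀ n : Fin 9, mono m (pv n) = pv (σ n) ∧
    ∀ v ∈ [u0, u1, u2], mono m (dd (S9Base37.qq n) v) = dd (S9Base37.qq (σ n)) (mono m v)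

/-- The condition for an element of `J` to induce a permutation of the points. -/
def ShiftsAs (v : V) (σ : S9Model37.P9) : Prop :=
  ∀ n : Fin 9, v + pv n + dd (S9Base37.qq n) (-v) = pv (σ n) ∧
    S9Base37.qq (σ n) = S9Base37.qq n

theorem shift_facts : ShiftsAs u0 S9Model37.c1 ∧ ShiftsAs u1 S9Model37.c2 ∧
    ShiftsAs u2 S9Model37.c3 := by
  refine ⟨?_, ?_, ?_⟩ <;> unfold ShiftsAs <;> decide +kernel

theorem acts_facts : ActsAs (monD 0) S9Model37.d1 ∧ ActsAs (monD 1) S9Model37.d2 ∧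
    ActsAs (monD 2) S9Model37.d3 ∧ ActsAs monSig S9Model37.rot ∧ ActsAs monTw S9Model37.tau := by
  refine ⟨?_, ?_, ?_, ?_, ?_⟩ <;> unfold ActsAs <;> decide +kernel

theorem pv_inj : ∀ n n' : Fin 9, pv n = pv n' → S9Base37.qq n = S9Base37.qq n' → n = n' := by
  decide +kernel

theorem dd_inj : ∀ i j : Fin 3, dd i u0 = dd j u0 → dd i u1 = dd j u1 → i = j := by decide +kernel

theorem pv_base : pv 2 = 0 ∧ pv 5 = 0 ∧ pv 8 = 0 ∧ pv 0 = 2 • u0 ∧ pv 3 = 2 • u1 ∧
    pv 6 = 2 • u2 ∧ S9Base37.qq 2 = 0 ∧ S9Base37.qq 0 = 0 ∧ S9Base37.qq 5 = 1 ∧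
    S9Base37.qq 3 = 1 ∧ S9Base37.qq 8 = 2 ∧ S9Base37.qq 6 = 2 ∧
    (2 • u0) + (2 • u0) = u0 ∧ (2 • u1) + (2 • u1) = u1 ∧ (2 • u2) + (2 • u2) = u2 := by
  decide +kernel

theorem dd_fix : ∀ v : V, dd 0 v = v → dd 1 v = v → dd 2 v = v → v = 0 := by decide +kernel

theorem u_sum : u0 + u1 + u2 = one3 := by decide +kernel

namespace Coord

variable [Finite G] {S : Setup G} (c : Coord S)

theorem act_tet (hT : c.om = tet) (g : NJ S) (v : V) : c.act g v ∈ tet ↔ v ∈ tet := by
  rw [← hT]; exact c.act_mem_om_iff g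

/-- The action on the four lines. -/
noncomputable def act4 (hT : c.om = tet) : NJ S →* Equiv.Perm {v : V // v ∈ tet} where
  toFun g := (c.act g).subtypePerm fun v => c.act_tet hT g v
  map_one' := Equiv.ext fun v => Subtype.ext (by
    show c.act 1 v.1 = v.1
    rw [map_one]; rfl)
  map_mul' g h := Equiv.ext fun v => Subtype.ext (by
    show c.act (g * h) v.1 = c.act g (c.act h v.1)
    rw [map_mul]; rfl)

include c in
theorem quot_four (hT : c.om = tet) :
    Nonempty (↥(NJ S) ⧸ S.J.subgroupOf (NJ S) ≃* Equiv.Perm (Fin 4)) := by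
  have hker : (c.act4 hT).ker = S.J.subgroupOf (NJ S) := by
    ext g
    rw [MonoidHom.mem_ker, mem_subgroupOf, ← c.act_eq_one]
    constructor
    · intro h
      have hv : ∀ v ∈ tet, c.act g v = v := fun v hv => by
        show (c.act4 hT g ⟨v, hv⟩).1 = v
        rw [h]; rfl
      refine Equiv.ext fun v => ?_
      obtain ⟨x, y, z, rfl⟩ := tet_gen v
      obtain ⟨-, h1, h2, h3, -⟩ := tet_facts
      simp only [act_add, act_nsmul, hv _ h2, hv _ h3, hv _ (show ((1, 1, 1) : V) ∈ tet from h1)]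
      rfl
    · intro h
      refine Equiv.ext fun v => Subtype.ext ?_
      show c.act g v.1 = v.1
      rw [h]; rfl
  let e4 : {v : V // v ∈ tet} ≃ Fin 4 := Finset.equivFinOfCardEq tet_facts.1
  let f : NJ S →* Equiv.Perm (Fin 4) := e4.permCongrHom.toMonoidHom.comp (c.act4 hT)
  have hfk : f.ker = S.J.subgroupOf (NJ S) := by
    rw [← hker]
    ext g
    simp [f, MonoidHom.mem_ker]
  have hb : Function.Bijective (QuotientGroup.kerLift f) := by
    refine (Nat.bijective_iff_injective_and_card _).2 ⟨QuotientGroup.kerLift_injective f, ?_⟩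
    have h := Subgroup.card_eq_card_quotient_mul_card_subgroup f.ker
    have hJ : Nat.card f.ker = 27 := by
      rw [hfk, Nat.card_congr
        (subgroupOfEquivOfLe (show S.J ≤ NJ S from Subgroup.le_normalizer)).toEquiv, S.hJcard]
    rw [hJ, c.card_norm, c.card_range, hT, tet_facts.1] at h
    rw [Nat.card_perm, Nat.card_eq_fintype_card (α := Fin 4), Fintype.card_fin]
    norm_num [Nat.factorial] at h ⊢
    omega
  exact ⟨(QuotientGroup.quotientMulEquivOfEq hfk.symm).trans (MulEquiv.ofBijective _ hb)⟩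

theorem act_mono (hC : c.om = cube) (g : NJ S) : ∃ m, ∀ v, c.act g v = mono m v := by
  obtain ⟨h1, h2, h3, h4, -, n1, n2, n3, n4, n5, n6⟩ := cube_facts
  have hmem : ∀ v ∈ cube, c.act g v ∈ cube := fun v hv => by
    rw [← hC] at hv ⊢; exact c.act_mem_om g hv
  have inj := (c.act g).injective
  have hneg := c.act_neg g
  obtain ⟨m, e1, e2, e3⟩ := cube_mono _ (hmem _ h1) _ (hmem _ h2) _ (hmem _ h3)
    (by rw [← act_add, ← act_add, ← act_neg, show one3 = ((1, 1, 1) : V) from rfl,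
          ← tet_facts.2.2.2.2]
        exact hmem _ h4)
    (fun h => n1 (inj h)) (fun h => n2 (inj (h.trans (hneg _).symm)))
    (fun h => n3 (inj h)) (fun h => n4 (inj (h.trans (hneg _).symm)))
    (fun h => n5 (inj h)) (fun h => n6 (inj (h.trans (hneg _).symm)))
  refine ⟨m, fun v => ?_⟩
  obtain ⟨x, y, z, rfl⟩ := tet_gen v
  let M : V →+ V := AddMonoidHom.mk' (mono m) (mono_add m)
  show _ = M _
  rw [M.map_add, M.map_add, M.map_nsmul, M.map_nsmul, M.map_nsmul]
  show _ = x.val • mono m (1, 1, 1) + (y.val • mono m (1, 2, 2) + z.val • mono m (2, 1, 2))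
  rw [e1, e2, e3]
  simp only [act_add, act_nsmul]
  rfl

theorem mono_act (hC : c.om = cube) (m : Mon) : ∃ g : NJ S, ∀ v, c.act g v = mono m v := by
  have hsp : ∀ x : c.act.range, ∃ m, ∀ v, x.1 v = mono m v := by
    rintro ⟨_, g, rfl⟩
    exact c.act_mono hC g
  choose f hf using hsp
  have hinj : Function.Injective f := fun x y h =>
    Subtype.ext (Equiv.ext fun v => by rw [hf, hf, h])
  have hb := (Nat.bijective_iff_injective_and_card f).2 ⟨hinj, by
    rw [c.card_range, hC, cube_facts.2.2.2.2.1, Nat.card_eq_fintype_card, card_mon]⟩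
  obtain ⟨⟨_, g, rfl⟩, hx⟩ := hb.2 m
  exact ⟨g, fun v => hx ▸ hf ⟨c.act g, g, rfl⟩ v⟩

/-- The involution inverting `J`. -/
structure Neg (c : Coord S) where
  z : G
  zN : z ∈ NJ S
  sq : z * z = 1
  inv : ∀ v, z * c.el v = c.el (-v) * z

theorem exists_neg (hC : c.om = cube) : Nonempty (Neg c) := by
  obtain ⟨g, hg⟩ := c.mono_act hC monNeg
  have hn : ∀ v, c.act g v = -v := by
    intro v
    refine c.act_eq (f := Neg.neg) (fun v w => neg_add v w) (fun w hw => ?_) v
    rw [hg]; exact (mono_unit_eq w hw).symm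
  have hgv : ∀ v, (g : G) * c.el v = c.el (-v) * g := fun v => by
    rw [← hn v, el_act, inv_mul_cancel_right]
  refine ⟨⟨g, g.2, ?_, hgv⟩⟩
  have h2 : ((g * g : NJ S) : G) ∈ S.J := c.act_eq_one.1 (Equiv.ext fun v => by
    rw [map_mul, Equiv.Perm.mul_apply, hn, hn, neg_neg]; rfl)
  obtain ⟨w, hw⟩ := c.el_surj _ h2
  rw [Subgroup.coe_mul] at hw
  have h3 := hgv w
  rw [hw, ← mul_assoc] at h3
  have h4 : c.el (-w) = c.el w := (mul_right_cancel h3).symm.trans hw.symm
  rw [← hw, neg_fix w (c.el_inj h4), el_zero]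

variable {c} (Z : Neg c)

theorem lift_unique {k k' : NJ S} (hk : Commute (k : G) Z.z) (hk' : Commute (k' : G) Z.z)
    (h : c.act k = c.act k') : k = k' := by
  have h1 : ((k * k'⁻¹ : NJ S) : G) ∈ S.J :=
    c.act_eq_one.1 (by rw [map_mul, map_inv, h, mul_inv_cancel])
  obtain ⟨w, hw⟩ := c.el_surj _ h1
  have hc : Commute (c.el w) Z.z := by
    rw [hw, Subgroup.coe_mul, Subgroup.coe_inv]
    exact hk.mul_left hk'.inv_left
  have h2 := Z.inv w
  rw [← hc.eq] at h2
  have h3 : c.el w = c.el (-w) := mul_right_cancel h2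
  rw [neg_fix w (c.el_inj h3).symm, el_zero] at hw
  exact mul_inv_eq_one.1 (Subtype.ext hw.symm)

theorem exists_lift (hC : c.om = cube) (m : Mon) :
    ∃ k : NJ S, Commute (k : G) Z.z ∧ ∀ v, c.act k v = mono m v := by
  obtain ⟨g, hg⟩ := c.mono_act hC m
  set zN : NJ S := ⟨Z.z, Z.zN⟩ with hzN
  have hz : ∀ v, c.act zN v = -v := fun v => c.act_of_conj (f := fun v => -v) (fun v => by
    show Z.z * c.el v * Z.z⁻¹ = _
    rw [Z.inv, mul_inv_cancel_right]) v
  set w : NJ S := zN⁻¹ * g⁻¹ * zN * g with hw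
  have hwJ : (w : G) ∈ S.J := by
    refine c.act_eq_one.1 (Equiv.ext fun v => ?_)
    have hzi : ∀ v, c.act zN⁻¹ v = -v := fun v => by
      rw [map_inv, Equiv.Perm.inv_def, Equiv.symm_apply_eq, hz, neg_neg]
    rw [hw, map_mul, map_mul, map_mul, Equiv.Perm.mul_apply, Equiv.Perm.mul_apply,
      Equiv.Perm.mul_apply, hz, hzi, act_neg, neg_neg, ← Equiv.Perm.mul_apply, ← map_mul,
      inv_mul_cancel, map_one]
  refine ⟨g * w, ?_, fun v => ?_⟩
  · obtain ⟨u, hu⟩ := c.el_surj _ hwJ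
    have hzg : Z.z * (g : G) = g * Z.z * w := by
      simp [hw, hzN, mul_assoc]
    have hwz : (w : G) * Z.z = Z.z * (w : G)⁻¹ := by
      rw [← hu, ← c.el_neg, Z.inv, neg_neg]
    have hww : (w : G) * w = (w : G)⁻¹ := sq_inv (S.hJexp _ hwJ)
    show (g : G) * w * Z.z = Z.z * (g * w)
    rw [mul_assoc, hwz, ← mul_assoc Z.z, hzg, mul_assoc ((g : G) * Z.z), hww, mul_assoc]
  · rw [map_mul, c.act_eq_one.2 hwJ, mul_one, hg]

/-- The chosen lift of a signed permutation. -/
noncomputable def lift (hC : c.om = cube) (m : Mon) : NJ S := (exists_lift Z hC m).choose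

theorem lift_comm (hC : c.om = cube) (m : Mon) : Commute (lift Z hC m : G) Z.z :=
  (exists_lift Z hC m).choose_spec.1

theorem lift_act (hC : c.om = cube) (m : Mon) (v : V) : c.act (lift Z hC m) v = mono m v :=
  (exists_lift Z hC m).choose_spec.2 v

variable (hC : c.om = cube)

/-- The sign change of a block in the complement. -/
noncomputable def dlift (i : Fin 3) : NJ S := lift Z hC (monD i)

/-- The nine points as involutions. -/
noncomputable def pt9 (n : Fin 9) : G :=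
  c.el (pv n) * (dlift Z hC (S9Base37.qq n) : G)

theorem dlift_el (i : Fin 3) (v : V) :
    (dlift Z hC i : G) * c.el v = c.el (dd i v) * dlift Z hC i := by
  rw [show dd i v = c.act (dlift Z hC i) v from (lift_act Z hC _ v).symm, el_act,
    inv_mul_cancel_right]

theorem pt9_lift (m : Mon) (σ : S9Model37.P9) (h : ActsAs m σ) (n : Fin 9) :
    (lift Z hC m : G) * pt9 Z hC n * (lift Z hC m : G)⁻¹ = pt9 Z hC (σ n) := by
  obtain ⟨h1, h2⟩ := h n
  set k := lift Z hC m with hk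
  have hkd : k * dlift Z hC (S9Base37.qq n) = dlift Z hC (S9Base37.qq (σ n)) * k := by
    refine lift_unique Z (Commute.mul_left (lift_comm Z hC _) (lift_comm Z hC _))
      (Commute.mul_left (lift_comm Z hC _) (lift_comm Z hC _)) (Equiv.ext fun v => ?_)
    refine congrFun (add_ext (c.act_add _) (c.act_add _) ?_ ?_ ?_) v <;>
    · simp only [map_mul, Equiv.Perm.mul_apply, hk, dlift, lift_act]
      exact h2 _ (by simp)
  have hkd' := congrArg Subtype.val hkd
  simp only [Subgroup.coe_mul] at hkd'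
  have hkel : (k : G) * c.el (pv n) = c.el (pv (σ n)) * k := by
    rw [← h1, ← lift_act Z hC m (pv n), ← hk, el_act, inv_mul_cancel_right]
  simp only [pt9]
  rw [← mul_assoc (k : G), hkel, mul_assoc (c.el _) (k : G), hkd', ← mul_assoc,
    mul_inv_cancel_right]

theorem pt9_shift (v : V) (σ : S9Model37.P9) (h : ShiftsAs v σ) (n : Fin 9) :
    c.el v * pt9 Z hC n * (c.el v)⁻¹ = pt9 Z hC (σ n) := by
  obtain ⟨h1, h2⟩ := h n
  simp only [pt9]
  rw [← mul_assoc, ← c.el_add, ← c.el_neg, mul_assoc, dlift_el, ← mul_assoc, ← c.el_add, h1, h2]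

theorem pt9_inj : Function.Injective (pt9 Z hC) := by
  intro n n' h
  have hN : ∀ n, pt9 Z hC n =
      ((⟨c.el (pv n), Subgroup.le_normalizer (c.el_mem _)⟩ * dlift Z hC (S9Base37.qq n) : NJ S) : G) :=
    fun n => rfl
  have hact : ∀ n v, c.act
      (⟨c.el (pv n), Subgroup.le_normalizer (c.el_mem _)⟩ * dlift Z hC (S9Base37.qq n)) v =
      dd (S9Base37.qq n) v := fun n v => by
    rw [map_mul, Equiv.Perm.mul_apply, c.act_eq_one.2 (c.el_mem (pv n)), dlift, lift_act]
    rfl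
  have he := Subtype.ext ((hN n).symm.trans (h.trans (hN n')))
  have hq : S9Base37.qq n = S9Base37.qq n' :=
    dd_inj _ _ ((hact n u0).symm.trans ((congrArg (fun x => c.act x u0) he).trans (hact n' u0)))
      ((hact n u1).symm.trans ((congrArg (fun x => c.act x u1) he).trans (hact n' u1)))
  simp only [pt9, hq] at h
  exact pv_inj n n' (c.el_inj (mul_right_cancel h)) hq

/-- The elements inducing a permutation of the nine points from `W`. -/
noncomputable def P9grp : Subgroup G where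
  carrier := {g | ∃ σ ∈ S9Model37.W, ∀ n, g * pt9 Z hC n * g⁻¹ = pt9 Z hC (σ n)}
  one_mem' := ⟨1, one_mem _, fun n => by simp⟩
  mul_mem' := by
    rintro g h ⟨σ, hσ, h1⟩ ⟨τ, hτ, h2⟩
    refine ⟨σ * τ, mul_mem hσ hτ, fun n => ?_⟩
    rw [Equiv.Perm.mul_apply, ← h1, ← h2]
    simp [mul_assoc]
  inv_mem' := by
    rintro g ⟨σ, hσ, h1⟩
    refine ⟨σ⁻¹, inv_mem hσ, fun n => ?_⟩
    have := h1 (σ⁻¹ n)
    rw [← Equiv.Perm.mul_apply, mul_inv_cancel, Equiv.Perm.one_apply] at this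
    rw [← this]
    simp [mul_assoc]

/-- The generators of the normaliser. -/
noncomputable def gens9 : Set G :=
  {c.el u0, c.el u1, c.el u2, (dlift Z hC 0 : G), (dlift Z hC 1 : G), (dlift Z hC 2 : G),
    (lift Z hC monSig : G), (lift Z hC monTw : G)}

theorem el_mem_closure (v : V) : c.el v ∈ Subgroup.closure (gens9 Z hC) := by
  have hn : ∀ (k : ℕ) (w : V), c.el w ∈ Subgroup.closure (gens9 Z hC) →
      c.el (k • w) ∈ Subgroup.closure (gens9 Z hC) := by
    intro k w hw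
    induction k with
    | zero => rw [zero_nsmul, el_zero]; exact one_mem _
    | succ k ih => rw [succ_nsmul, c.el_add]; exact mul_mem ih hw
  rw [decomp v, c.el_add, c.el_add]
  refine mul_mem (hn _ _ ?_) (mul_mem (hn _ _ ?_) (hn _ _ ?_)) <;>
    exact Subgroup.subset_closure (by simp [gens9])

theorem norm_le_closure : NJ S ≤ Subgroup.closure (gens9 Z hC) := by
  set H := Subgroup.closure (gens9 Z hC) with hH
  let Pm : (V → V) → Prop := fun f => ∃ h : NJ S, (h : G) ∈ H ∧ ∀ v, c.act h v = f v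
  have hid : Pm id := ⟨1, one_mem _, fun v => by simp⟩
  have hcomp : ∀ f f', Pm f → Pm f' → Pm fun v => f (f' v) := by
    rintro f f' ⟨h, hh, e⟩ ⟨h', hh', e'⟩
    exact ⟨h * h', mul_mem hh hh', fun v => by rw [map_mul, Equiv.Perm.mul_apply, e', e]⟩
  have hgen : ∀ (m : Mon) (f : V → V), (∀ v w, f (v + w) = f v + f w) →
      (lift Z hC m : G) ∈ H → (∀ v ∈ [u0, u1, u2], f v = mono m v) → Pm f := by
    intro m f hadd hm he
    exact ⟨_, hm, c.act_eq hadd fun v hv => by rw [lift_act, he v hv]⟩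
  have hd : ∀ i, (lift Z hC (monD i) : G) ∈ H := fun i => by
    refine Subgroup.subset_closure ?_
    fin_cases i <;> simp [gens9, dlift]
  have p0 : Pm d0 := hgen _ _ (fun v w => by ext <;> simp [d0]; ring) (hd 0)
    fun v hv => (gens_mono v hv).1
  have p1 : Pm d1 := hgen _ _ (fun v w => by ext <;> simp [d1]; ring) (hd 1)
    fun v hv => (gens_mono v hv).2.1
  have p2 : Pm d2 := hgen _ _ (fun v w => by ext <;> simp [d2]; ring) (hd 2)
    fun v hv => (gens_mono v hv).2.2.1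
  have pw : Pm tw := hgen _ _ (fun v w => rfl) (Subgroup.subset_closure (by simp [gens9]))
    fun v hv => (gens_mono v hv).2.2.2.1
  have ps : Pm sig := hgen _ _ sig_add (Subgroup.subset_closure (by simp [gens9]))
    fun v hv => (gens_mono v hv).2.2.2.2.1
  have hp : ∀ (f : V → V) (b : Bool), Pm f → Pm (fpow f b) := fun f b hf => by
    cases b <;> [exact hid; exact hf]
  have hpm : ∀ π, Pm (pmap π) := by
    intro π
    obtain ⟨s, r, hsr⟩ := pmap_word π
    obtain ⟨h, hh, he⟩ := hcomp _ _ (hp tw s pw)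
      (show Pm (if r = 0 then id else if r = 1 then sig else sig ∘ sig) by
        split_ifs <;> [exact hid; exact ps; exact hcomp sig sig ps ps])
    refine ⟨h, hh, c.act_eq ?_ fun v hv => (he v).trans (hsr v hv).symm⟩
    rw [pmap_eq]
    exact mono_add _
  intro g hg
  obtain ⟨m, hm⟩ := c.act_mono hC ⟨g, hg⟩
  obtain ⟨h, hh, he⟩ := hcomp _ _ (hp d0 (m.2 0) p0)
    (hcomp _ _ (hp d1 (m.2 1) p1) (hcomp _ _ (hp d2 (m.2 2) p2) (hpm m.1)))
  have hJ : ((⟨g, hg⟩ * h⁻¹ : NJ S) : G) ∈ S.J := by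
    refine c.act_eq_one.1 ?_
    rw [map_mul, map_inv, mul_inv_eq_one]
    exact Equiv.ext fun v => by rw [hm, he, mono_split]
  obtain ⟨w, hw⟩ := c.el_surj _ hJ
  have hmem := mul_mem (hw ▸ el_mem_closure Z hC w : ((⟨g, hg⟩ * h⁻¹ : NJ S) : G) ∈ H) hh
  simpa using hmem

theorem gens_map :
    (∀ n, c.el u0 * pt9 Z hC n * (c.el u0)⁻¹ = pt9 Z hC (S9Model37.c1 n)) ∧
    (∀ n, c.el u1 * pt9 Z hC n * (c.el u1)⁻¹ = pt9 Z hC (S9Model37.c2 n)) ∧
    (∀ n, c.el u2 * pt9 Z hC n * (c.el u2)⁻¹ = pt9 Z hC (S9Model37.c3 n)) :=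
  ⟨pt9_shift Z hC _ _ shift_facts.1, pt9_shift Z hC _ _ shift_facts.2.1,
    pt9_shift Z hC _ _ shift_facts.2.2⟩

theorem norm_le_P9grp : NJ S ≤ P9grp Z hC := by
  refine (norm_le_closure Z hC).trans ((Subgroup.closure_le _).2 ?_)
  intro g hg
  simp only [gens9, Set.mem_insert_iff, Set.mem_singleton_iff] at hg
  obtain ⟨a1, a2, a3, a4, a5⟩ := acts_facts
  rcases hg with rfl | rfl | rfl | rfl | rfl | rfl | rfl | rfl
  exacts [⟨_, S9Model37.C1.2, (gens_map Z hC).1⟩, ⟨_, S9Model37.C2.2, (gens_map Z hC).2.1⟩,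
    ⟨_, S9Model37.C3.2, (gens_map Z hC).2.2⟩, ⟨_, S9Model37.D1.2, pt9_lift Z hC _ _ a1⟩,
    ⟨_, S9Model37.D2.2, pt9_lift Z hC _ _ a2⟩, ⟨_, S9Model37.D3.2, pt9_lift Z hC _ _ a3⟩,
    ⟨_, S9Model37.Rot.2, pt9_lift Z hC _ _ a4⟩, ⟨_, S9Model37.Tau.2, pt9_lift Z hC _ _ a5⟩]

theorem exists_perm (g : NJ S) : ∃ w : S9Model37.W, ∀ n,
    (g : G) * pt9 Z hC n * (g : G)⁻¹ = pt9 Z hC ((w : S9Model37.P9) n) := by
  obtain ⟨σ, hσ, h⟩ := norm_le_P9grp Z hC g.2
  exact ⟨⟨σ, hσ⟩, h⟩

/-- The permutation of the nine points. -/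
noncomputable def toW : NJ S →* S9Model37.W :=
  MonoidHom.mk' (fun g => (exists_perm Z hC g).choose) fun g h => by
    refine Subtype.ext (Equiv.ext fun n => pt9_inj Z hC ?_)
    rw [← (exists_perm Z hC (g * h)).choose_spec n, Subgroup.coe_mul, Subgroup.coe_mul,
      Equiv.Perm.mul_apply, ← (exists_perm Z hC g).choose_spec, ← (exists_perm Z hC h).choose_spec]
    simp [mul_assoc]

theorem toW_spec (g : NJ S) (n : Fin 9) :
    (g : G) * pt9 Z hC n * (g : G)⁻¹ = pt9 Z hC ((toW Z hC g : S9Model37.P9) n) :=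
  (exists_perm Z hC g).choose_spec n

theorem toW_eq {g : G} (hg : g ∈ NJ S) (w : S9Model37.W)
    (h : ∀ n, g * pt9 Z hC n * g⁻¹ = pt9 Z hC ((w : S9Model37.P9) n)) :
    toW Z hC ⟨g, hg⟩ = w :=
  Subtype.ext (Equiv.ext fun n => pt9_inj Z hC ((toW_spec Z hC ⟨g, hg⟩ n).symm.trans (h n)))

theorem toW_inj : Function.Injective (toW Z hC) := by
  refine (injective_iff_map_eq_one _).2 fun g hg => ?_
  have hfix : ∀ n, Commute (g : G) (pt9 Z hC n) := fun n => by
    have h := toW_spec Z hC g n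
    rw [hg, Subgroup.coe_one, Equiv.Perm.one_apply] at h
    exact mul_inv_eq_iff_eq_mul.1 h
  obtain ⟨p2, p5, p8, p0, p3, p6, q2, q0, q5, q3, q8, q6, t0, t1, t2⟩ := pv_base
  have hD : ∀ i : Fin 3, Commute (g : G) (dlift Z hC i : G) := by
    intro i
    fin_cases i
    · simpa [pt9, p2, q2, el_zero] using hfix 2
    · simpa [pt9, p5, q5, el_zero] using hfix 5
    · simpa [pt9, p8, q8, el_zero] using hfix 8
  have hu : ∀ n w, pv n = w → Commute (g : G) (c.el (w + w)) := by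
    intro n w h
    have h1 := hfix n
    simp only [pt9, h] at h1
    have h2 := h1.mul_right (hD (S9Base37.qq n)).inv_right
    rw [mul_inv_cancel_right] at h2
    rw [c.el_add]
    exact h2.mul_right h2
  have hu0 := t0 ▸ hu 0 _ p0
  have hu1 := t1 ▸ hu 3 _ p3
  have hu2 := t2 ▸ hu 6 _ p6
  have hJ : (g : G) ∈ S.J := by
    refine c.act_eq_one.1 (Equiv.ext fun v => ?_)
    refine c.act_eq (f := id) (fun _ _ => rfl) (fun w hw => c.el_inj ?_) v
    rw [el_act]
    simp only [List.mem_cons, List.not_mem_nil, or_false] at hw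
    rcases hw with rfl | rfl | rfl
    · rw [hu0.eq, mul_inv_cancel_right]; rfl
    · rw [hu1.eq, mul_inv_cancel_right]; rfl
    · rw [hu2.eq, mul_inv_cancel_right]; rfl
  obtain ⟨w, hw⟩ := c.el_surj _ hJ
  have hdd : ∀ i, dd i w = w := by
    intro i
    refine c.el_inj (mul_right_cancel (b := (dlift Z hC i : G)) ?_)
    rw [← dlift_el, hw]
    exact (hD i).symm.eq
  rw [dd_fix w (hdd 0) (hdd 1) (hdd 2), el_zero] at hw
  exact Subtype.ext hw.symm

theorem toW_surj : Function.Surjective (toW Z hC) := by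
  rw [← MonoidHom.range_eq_top, eq_top_iff]
  intro w _
  have key : ∀ σ ∈ S9Model37.W, ∃ g : NJ S, (toW Z hC g : S9Model37.P9) = σ := by
    intro σ hσ
    let R : Subgroup S9Model37.P9 := (toW Z hC).range.map S9Model37.W.subtype
    have hle : S9Model37.W ≤ R := by
      refine (Subgroup.closure_le _).2 ?_
      have hm : ∀ {g : G} (hg : g ∈ NJ S) (w : S9Model37.W),
          (∀ n, g * pt9 Z hC n * g⁻¹ = pt9 Z hC ((w : S9Model37.P9) n)) →
          (w : S9Model37.P9) ∈ R :=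
        fun {g} hg w h => ⟨w, ⟨_, toW_eq Z hC hg w h⟩, rfl⟩
      obtain ⟨a1, a2, a3, a4, a5⟩ := acts_facts
      simp only [Set.subset_def, Set.mem_insert_iff, Set.mem_singleton_iff]
      rintro x (rfl | rfl | rfl | rfl | rfl | rfl | rfl | rfl)
      exacts [hm (Subgroup.le_normalizer (c.el_mem _)) S9Model37.C1 (gens_map Z hC).1,
        hm (Subgroup.le_normalizer (c.el_mem _)) S9Model37.C2 (gens_map Z hC).2.1,
        hm (Subgroup.le_normalizer (c.el_mem _)) S9Model37.C3 (gens_map Z hC).2.2,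
        hm (dlift Z hC 0).2 S9Model37.D1 (pt9_lift Z hC _ _ a1),
        hm (dlift Z hC 1).2 S9Model37.D2 (pt9_lift Z hC _ _ a2),
        hm (dlift Z hC 2).2 S9Model37.D3 (pt9_lift Z hC _ _ a3),
        hm (lift Z hC monSig).2 S9Model37.Rot (pt9_lift Z hC _ _ a4),
        hm (lift Z hC monTw).2 S9Model37.Tau (pt9_lift Z hC _ _ a5)]
    obtain ⟨w, ⟨g, rfl⟩, rfl⟩ := hle hσ
    exact ⟨g, rfl⟩
  obtain ⟨g, hg⟩ := key w w.2
  exact ⟨g, Subtype.ext hg⟩

include Z hC in
theorem exists_frame : Nonempty S.Frame := by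
  let e := MulEquiv.ofBijective (toW Z hC) ⟨toW_inj Z hC, toW_surj Z hC⟩
  let φ : S9Model37.W →* G := (NJ S).subtype.comp e.symm.toMonoidHom
  have hφ : ∀ (v : V) (w : S9Model37.W),
      (∀ n, c.el v * pt9 Z hC n * (c.el v)⁻¹ = pt9 Z hC ((w : S9Model37.P9) n)) →
      φ w = c.el v := by
    intro v w h
    have := toW_eq Z hC (Subgroup.le_normalizer (c.el_mem v)) w h
    have h2 : e.symm w = ⟨c.el v, Subgroup.le_normalizer (c.el_mem v)⟩ :=
      e.symm_apply_eq.2 this.symm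
    exact congrArg Subtype.val h2
  have h1 := hφ u0 S9Model37.C1 (gens_map Z hC).1
  have h2 := hφ u1 S9Model37.C2 (gens_map Z hC).2.1
  have h3 := hφ u2 S9Model37.C3 (gens_map Z hC).2.2
  refine ⟨⟨φ, Subtype.val_injective.comp e.symm.injective, ?_, ?_, ?_⟩⟩
  · refine le_antisymm ?_ fun g hg => ⟨e ⟨g, hg⟩, by simp [φ]⟩
    rintro _ ⟨w, rfl⟩
    exact (e.symm w).2
  · rw [h1, h2, h3]
    refine le_antisymm (fun x hx => ?_) ((Subgroup.closure_le _).2 ?_)
    · obtain ⟨v, rfl⟩ := c.el_surj x hx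
      have hn : ∀ (k : ℕ) (w : V), c.el w ∈ Subgroup.closure ({c.el u0, c.el u1, c.el u2} : Set G) →
          c.el (k • w) ∈ Subgroup.closure ({c.el u0, c.el u1, c.el u2} : Set G) := by
        intro k w hw
        induction k with
        | zero => rw [zero_nsmul, el_zero]; exact one_mem _
        | succ k ih => rw [succ_nsmul, c.el_add]; exact mul_mem ih hw
      rw [decomp v, c.el_add, c.el_add]
      refine mul_mem (hn _ _ ?_) (mul_mem (hn _ _ ?_) (hn _ _ ?_)) <;>
        exact Subgroup.subset_closure (by simp)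
    · simp only [Set.subset_def, Set.mem_insert_iff, Set.mem_singleton_iff]
      rintro x (rfl | rfl | rfl) <;> exact c.el_mem _
  · rw [map_mul, map_mul, h1, h2, h3, ← c.el_add, ← c.el_add, u_sum, c.el_one]

end Coord

end Cfsg.Agent.Sp62Three31Auto

namespace Cfsg.Agent.Sp62Three31

open Subgroup

universe u

variable {G : Type u} [Group G] [Finite G] (S : Setup G)

/-- The distinguished element lies in `J`. -/
theorem Setup.a_mem : S.a ∈ S.J := Sp62Three31Auto.a_mem_J S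

/-- `J` is self-centralising. -/
theorem Setup.cJ : Subgroup.centralizer (S.J : Set G) = S.J := Sp62Three31Auto.cJ S

include S in
/-- The Sylow subgroups for three have order at most `81`. -/
theorem Setup.sylow : ¬ 3 ^ 5 ∣ Nat.card G := Sp62Three31Auto.sylow S

/-- Conjugates of `a` in `J` are conjugate under the normaliser of `J`. -/
theorem Setup.fusion {b : G} (hb : b ∈ S.J) (h : ∃ g : G, g * S.a * g⁻¹ = b) :
    ∃ n ∈ Subgroup.normalizer (S.J : Set G), n * S.a * n⁻¹ = b :=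
  Sp62Three31Auto.fusion S hb h

/-- The automiser of `J` when `a` is not inverted. -/
theorem Setup.auto_not_inverted (hI : ¬ S.Inverted) (hW : ¬ S.WeaklyClosed) :
    Nonempty (↥(Subgroup.normalizer (S.J : Set G)) ⧸
      S.J.subgroupOf (Subgroup.normalizer (S.J : Set G)) ≃* Equiv.Perm (Fin 4)) := by
  obtain ⟨c⟩ := Sp62Three31Auto.exists_coord S
  obtain ⟨d, hd⟩ := c.exists_tet hI hW
  exact d.quot_four hd

/-- The monomial frame when `a` is inverted. -/
theorem Setup.frame (hI : S.Inverted) (hW : ¬ S.WeaklyClosed) : Nonempty S.Frame := by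
  obtain ⟨c⟩ := Sp62Three31Auto.exists_coord S
  obtain ⟨d, hd⟩ := c.exists_cube hI hW
  obtain ⟨Z⟩ := d.exists_neg hd
  exact Sp62Three31Auto.Coord.exists_frame Z hd

end Cfsg.Agent.Sp62Three31
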