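import Cfsg.Agent.Lib.Sp62Three31AutoBase

/-!
S3342: coordinates on `J`, the action of its normaliser and the orbit of the distinguished element.
-/

set_option autoImplicit false
set_option Elab.async false

namespace Cfsg.Agent.Sp62Three31Auto

open Subgroup Sp62Three31
open scoped commutatorElement Pointwise

universe u

variable {G : Type u} [Group G]

/-- Coordinates on `J` with a shift and an exchange centralising `a`. -/
structure Coord (S : Setup G) where
  el : V → G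
  el_add : ∀ v w, el (v + w) = el v * el w
  el_inj : Function.Injective el
  el_mem : ∀ v, el v ∈ S.J
  el_surj : ∀ j ∈ S.J, ∃ v, el v = j
  el_one : el one3 = S.a
  q : G
  t : G
  q_mem : q ∈ S.Q
  q_act : ∀ v, q * el v * q⁻¹ = el (sig v)
  t_act : ∀ v, t * el v * t⁻¹ = el (tt v)

theorem pow_val {x : G} (hx : x ^ 3 = 1) (i j : ZMod 3) :
    x ^ (i + j).val = x ^ i.val * x ^ j.val := by
  rw [ZMod.val_add, ← pow_add, ← pow_eq_pow_mod _ hx]

theorem exists_coord [Finite G] (S : Setup G) : Nonempty (Coord S) := by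
  haveI : Fact (Nat.Prime 3) := ⟨Nat.prime_three⟩
  haveI : Fact (Nat.Prime 2) := ⟨Nat.prime_two⟩
  obtain ⟨q, hqQ, hqJ⟩ : ∃ q ∈ S.Q, q ∉ S.J := by
    by_contra h
    push Not at h
    have he : S.Q = S.J := eq_of_le_of_card_ge h (by rw [Q_card, S.hJcard])
    exact Q_not_comm S fun x hx y hy => J_comm S (he ▸ hx) (he ▸ hy)
  have hS0 : S.J ⊔ zpowers q = S0 S :=
    sup_zpowers_eq (J_le_S0 S) (by rw [card_S0, S.hJcard]) (Q_le_S0 S hqQ) hqJ
  have hqN : q ∈ normalizer (S.J : Set G) := mem_norm S (by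
    rintro _ ⟨x, hx, rfl⟩
    exact (S0 S).mul_mem ((S0 S).mul_mem (Q_le_S0 S hqQ) (J_le_S0 S hx))
      ((S0 S).inv_mem (Q_le_S0 S hqQ)))
  have hqJ' : ∀ x ∈ S.J, q * x * q⁻¹ ∈ S.J := fun x hx => (mem_normalizer_iff.1 hqN x).1 hx
  have hfix : ∀ x ∈ S.J, q * x * q⁻¹ = x → x ∈ zpowers S.a := fun x hx h => center_S0 S (by
    rw [← hS0]
    exact sup_le (fun j hj => mem_centralizer_singleton_iff.2 (J_comm S hj hx))
      (zpowers_le.2 (mem_centralizer_singleton_iff.2 (mul_inv_eq_iff_eq_mul.1 h))))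
  have haQ : ∀ x ∈ zpowers S.a, x ∈ S.Q := fun x hx => zpowers_le.2 (a_mem_Q S) hx
  have hmem : ∀ e ∈ S.J, e ∉ S.Q → e⁻¹ * (q * e * q⁻¹) ∈ S.J ⊓ S.Q ∧
      e⁻¹ * (q * e * q⁻¹) ∉ zpowers S.a := by
    intro e he heQ
    have huQ : e⁻¹ * (q * e * q⁻¹) ∈ S.Q := by
      have := S.Q.mul_mem (conj_Q S (S.C.inv_mem (J_le_C S he)) hqQ) (S.Q.inv_mem hqQ)
      simpa [mul_assoc] using this
    refine ⟨mem_inf.2 ⟨S.J.mul_mem (S.J.inv_mem he) (hqJ' e he), huQ⟩, fun hu => ?_⟩
    obtain ⟨c, hc, hca⟩ : ∃ c ∈ S.J ⊓ S.Q, c ∉ zpowers S.a := by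
      by_contra h
      push Not at h
      have := card_dvd_of_le (show S.J ⊓ S.Q ≤ zpowers S.a from h)
      rw [card_JQ, Nat.card_zpowers, S.ha] at this
      norm_num at this
    rw [mem_inf] at hc
    set z := c⁻¹ * (q * c * q⁻¹) with hz
    have hza : z ∈ zpowers S.a := by
      refine center_Q S (S.Q.mul_mem (S.Q.inv_mem hc.2)
        (S.Q.mul_mem (S.Q.mul_mem hqQ hc.2) (S.Q.inv_mem hqQ))) fun w hw => ?_
      have := cJ.comm_mem_center S (S.Q.inv_mem hc.2) hqQ hw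
      rw [inv_inv] at this
      simpa [hz, mul_assoc] using this
    have hzc : q * c * q⁻¹ = c * z := by rw [hz, mul_inv_cancel_left]
    have heu : q * e * q⁻¹ = e * (e⁻¹ * (q * e * q⁻¹)) := by rw [mul_inv_cancel_left]
    set w := e⁻¹ * (q * e * q⁻¹) with hw
    have hzJ : z ∈ S.J := zpowers_le.2 (a_mem_J S) hza
    have hcan : ∀ d ∈ S.J, q * d * q⁻¹ = d * w⁻¹ → e * d ∈ zpowers S.a := fun d hd hdw => by
      refine hfix _ (S.J.mul_mem he hd) ?_
      rw [show q * (e * d) * q⁻¹ = q * e * q⁻¹ * (q * d * q⁻¹) by simp [mul_assoc], heu, hdw,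
        mul_assoc, J_comm S hd (S.J.inv_mem (zpowers_le.2 (a_mem_J S) hu)), ← mul_assoc w,
        mul_inv_cancel, one_mul]
    have hcontra : ∀ d ∈ S.Q, e * d ∈ zpowers S.a → False := fun d hd h => by
      refine heQ ?_
      simpa using S.Q.mul_mem (haQ _ h) (S.Q.inv_mem hd)
    have hz1 : z ≠ 1 := fun h1 => hca (hfix c hc.1 (by rw [hzc, h1, mul_one]))
    have hA : z = w⁻¹ → False := fun hzw => hcontra c hc.2 (hcan c hc.1 (by rw [hzc, hzw]))
    have hB : z = w → False := fun hzw =>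
      hcontra c⁻¹ (S.Q.inv_mem hc.2) (hcan _ (S.J.inv_mem hc.1) (by
        rw [← conj_inv, hzc, mul_inv_rev, J_comm S (S.J.inv_mem hzJ) (S.J.inv_mem hc.1), hzw]))
    rcases mem_zpowers_three S.ha hu with h1 | h1 | h1
    · exact hcontra 1 S.Q.one_mem (hcan 1 S.J.one_mem (by simp [h1]))
    all_goals
      rcases mem_zpowers_three S.ha hza with h2 | h2 | h2
      · exact hz1 h2
      all_goals
        first
        | exact hB (h2.trans h1.symm)
        | (refine hA ?_; rw [h1, h2, inv_inv]; done)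
        | (refine hA ?_; rw [h1, h2]; done)
  have hq3 : q * q * q = 1 := by
    have := Q_exp S hqQ
    rwa [pow_succ, pow_two] at this
  have hcyc : ∀ x : G, q * (q * (q * x * q⁻¹) * q⁻¹) * q⁻¹ = x := fun x => by
    have h : q * (q * (q * x * q⁻¹) * q⁻¹) * q⁻¹ = q * q * q * x * (q * q * q)⁻¹ := by
      simp [mul_assoc]
    rw [h, hq3, one_mul, inv_one, mul_one]
  have hw : ∀ e ∈ S.J, e ∉ S.Q →
      e * (q * e * q⁻¹) * (q * (q * e * q⁻¹) * q⁻¹) ∈ zpowers S.a ∧
      e * (q * e * q⁻¹) * (q * (q * e * q⁻¹) * q⁻¹) ≠ 1 := by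
    intro e he heQ
    have h2 := hqJ' e he
    have h3 := hqJ' _ h2
    refine ⟨hfix _ (S.J.mul_mem (S.J.mul_mem he h2) h3) ?_, fun h => ?_⟩
    · rw [show q * (e * (q * e * q⁻¹) * (q * (q * e * q⁻¹) * q⁻¹)) * q⁻¹ =
        (q * e * q⁻¹) * (q * (q * e * q⁻¹) * q⁻¹) * (q * (q * (q * e * q⁻¹) * q⁻¹) * q⁻¹) by
        simp [mul_assoc], hcyc]
      exact J_comm S (S.J.mul_mem h2 h3) he |>.trans (by simp [mul_assoc])
    · obtain ⟨hu1, hu2⟩ := hmem e he heQ
      refine hu2 (hfix _ (mem_inf.1 hu1).1 ?_)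
      obtain ⟨e2, he2⟩ : ∃ x, x = q * e * q⁻¹ := ⟨_, rfl⟩
      rw [← he2] at h h2 hu1 hu2 ⊢
      have h33 : q * e2 * q⁻¹ = (e * e2)⁻¹ := eq_inv_of_mul_eq_one_right h
      rw [show q * (e⁻¹ * e2) * q⁻¹ = (q * e * q⁻¹)⁻¹ * (q * e2 * q⁻¹) by simp [mul_assoc],
        h33, ← he2, mul_inv_rev, ← mul_assoc, show e2⁻¹ * e2⁻¹ = e2 by
          rw [← mul_inv_rev, sq_inv (S.hJexp e2 h2), inv_inv]]
      exact J_comm S h2 (S.J.inv_mem he)
  obtain ⟨t0, ht0⟩ := exists_prime_orderOf_dvd_card' (G := ↥S.C) 2 (by rw [card_C]; norm_num)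
  obtain ⟨t, htC⟩ := t0
  rw [orderOf_mk] at ht0
  have ht2 : t * t = 1 := by rw [← pow_two, ← ht0]; exact pow_orderOf_eq_one t
  have ht1 : t ≠ 1 := fun h => by rw [h, orderOf_one] at ht0; norm_num at ht0
  have htinv : t⁻¹ = t := inv_eq_of_mul_eq_one_left ht2
  have hprt := pr_inv S htC ht2 ht1
  have hcom : ∀ (g : G) (hg : g ∈ S.C), t * g * t⁻¹ * g⁻¹ ∈ S.Q := fun g hg => by
    refine (pr_eq_one S (x := ⟨t, htC⟩ * ⟨g, hg⟩ * ⟨t, htC⟩⁻¹ * ⟨g, hg⟩⁻¹)).1 ?_
    simp only [map_mul, map_inv, hprt]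
    rw [negOne.2.2.1 (pr S ⟨g, hg⟩), mul_inv_cancel_right, mul_inv_cancel]
  have htS : ∀ x ∈ S0 S, t * x * t⁻¹ ∈ S0 S := fun x hx => by
    have := (S0 S).mul_mem (Q_le_S0 S (hcom x (S0_le S hx))) hx
    rwa [inv_mul_cancel_right] at this
  have htN : t ∈ normalizer (S.J : Set G) := mem_norm S (by
    rintro _ ⟨x, hx, rfl⟩
    exact htS x (J_le_S0 S hx))
  have htJ : ∀ x ∈ S.J, t * x * t⁻¹ ∈ S.J := fun x hx => (mem_normalizer_iff.1 htN x).1 hx
  obtain ⟨j, hj, hjQ⟩ : ∃ j ∈ S.J, j ∉ S.Q := by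
    by_contra h
    push Not at h
    have := relIndex_eq_one.2 (show S.J ≤ S.Q from h)
    rw [relQ] at this
    norm_num at this
  obtain ⟨e, he, heQ, hte, hea⟩ : ∃ e ∈ S.J, e ∉ S.Q ∧ t * e * t⁻¹ = e ∧
      e * (q * e * q⁻¹) * (q * (q * e * q⁻¹) * q⁻¹) = S.a := by
    set f := j * (t * j * t⁻¹) with hf
    have hfJ : f ∈ S.J := S.J.mul_mem hj (htJ j hj)
    have hfQ : f ∉ S.Q := fun hfQ => by
      refine hjQ ?_
      have h2 : j * j ∈ S.Q := by
        have := S.Q.mul_mem (S.Q.inv_mem (hcom j (J_le_C S hj))) hfQ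
        have h3 : (t * j * t⁻¹ * j⁻¹)⁻¹ * f = j * j := by
          rw [hf, J_comm S hj (htJ j hj)]
          simp [mul_assoc]
        rwa [h3] at this
      rw [sq_inv (S.hJexp j hj)] at h2
      simpa using S.Q.inv_mem h2
    have hft : t * f * t⁻¹ = f := by
      rw [hf, show t * (j * (t * j * t⁻¹)) * t⁻¹ = t * j * t⁻¹ * ((t * t) * j * (t * t)⁻¹) by
        simp [mul_assoc], ht2, inv_one, mul_one, one_mul]
      exact J_comm S (htJ j hj) hj
    obtain ⟨h1, h2⟩ := hw f hfJ hfQ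
    rcases mem_zpowers_three S.ha h1 with e1 | e1 | e1
    · exact absurd e1 h2
    · exact ⟨f, hfJ, hfQ, hft, e1⟩
    · refine ⟨f⁻¹, S.J.inv_mem hfJ, fun h => hfQ (by simpa using S.Q.inv_mem h), ?_, ?_⟩
      · rw [← conj_inv, hft]
      · rw [← conj_inv, ← conj_inv, ← mul_inv_rev, ← mul_inv_rev, ← inv_inv S.a, ← e1]
        congr 1
        rw [J_comm S (hqJ' _ hfJ) hfJ]
        exact J_comm S (hqJ' _ (hqJ' _ hfJ)) (S.J.mul_mem hfJ (hqJ' _ hfJ))
  obtain ⟨hu1, hu2⟩ := hmem e he heQ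
  set e2 := q * e * q⁻¹ with he2
  set e3 := q * e2 * q⁻¹ with he3
  have h2 : e2 ∈ S.J := hqJ' e he
  have h3 : e3 ∈ S.J := hqJ' _ h2
  have hq31 : q * e3 * q⁻¹ = e := hcyc e
  let el : V → G := fun v => e ^ v.1.val * e2 ^ v.2.1.val * e3 ^ v.2.2.val
  have hJp : ∀ v, el v ∈ S.J := fun v =>
    S.J.mul_mem (S.J.mul_mem (S.J.pow_mem he _) (S.J.pow_mem h2 _)) (S.J.pow_mem h3 _)
  have hadd : ∀ v w, el (v + w) = el v * el w := by
    intro v w
    simp only [el, Prod.fst_add, Prod.snd_add, pow_val (S.hJexp e he), pow_val (S.hJexp e2 h2),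
      pow_val (S.hJexp e3 h3)]
    have c21 := J_comm S (S.J.pow_mem h2 v.2.1.val) (S.J.pow_mem he w.1.val)
    have c31 := J_comm S (S.J.pow_mem h3 v.2.2.val)
      (S.J.mul_mem (S.J.pow_mem he w.1.val) (S.J.pow_mem h2 w.2.1.val))
    calc _ = e ^ v.1.val * (e ^ w.1.val * e2 ^ v.2.1.val) * e2 ^ w.2.1.val *
          (e3 ^ v.2.2.val * e3 ^ w.2.2.val) := by simp only [mul_assoc]
      _ = e ^ v.1.val * (e2 ^ v.2.1.val * e ^ w.1.val) * e2 ^ w.2.1.val *
          (e3 ^ v.2.2.val * e3 ^ w.2.2.val) := by rw [c21]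
      _ = e ^ v.1.val * e2 ^ v.2.1.val * (e ^ w.1.val * e2 ^ w.2.1.val * e3 ^ v.2.2.val) *
          e3 ^ w.2.2.val := by simp only [mul_assoc]
      _ = e ^ v.1.val * e2 ^ v.2.1.val * (e3 ^ v.2.2.val * (e ^ w.1.val * e2 ^ w.2.1.val)) *
          e3 ^ w.2.2.val := by rw [c31]
      _ = _ := by simp only [mul_assoc]
  have hone : el one3 = S.a := by simp [el, one3, hea, ZMod.val_one]
  let f : Multiplicative V →* G :=
    { toFun := fun v => el v.toAdd, map_one' := by simp [el], map_mul' := fun v w => hadd _ _ }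
  have hfu : ∀ v, el v ∈ f.range := fun v => ⟨Multiplicative.ofAdd v, rfl⟩
  have hJr : S.J ≤ f.range := by
    have hea' : e ∈ f.range := by simpa [el, u0, ZMod.val_one] using hfu u0
    have he2' : e2 ∈ f.range := by simpa [el, u1, ZMod.val_one] using hfu u1
    have hh := sup_zpowers_eq (zpowers_le.2 (mem_inf.2 ⟨a_mem_J S, a_mem_Q S⟩))
      (by rw [card_JQ, Nat.card_zpowers, S.ha]) hu1 hu2
    have hh2 := sup_zpowers_eq (inf_le_left : S.J ⊓ S.Q ≤ S.J) (by rw [S.hJcard, card_JQ]) he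
      (fun h => heQ (mem_inf.1 h).2)
    rw [← hh2, ← hh]
    refine sup_le (sup_le (zpowers_le.2 (hone ▸ hfu one3)) (zpowers_le.2 ?_)) (zpowers_le.2 hea')
    exact f.range.mul_mem (f.range.inv_mem hea') he2'
  have hinj : Function.Injective el := by
    have hs : Function.Surjective (fun v => (⟨el v, hJp v⟩ : ↥S.J)) := by
      intro y
      obtain ⟨v, hv⟩ := hJr y.2
      exact ⟨v.toAdd, Subtype.ext hv⟩
    have hb := (Nat.bijective_iff_surjective_and_card _).2 ⟨hs, by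
      rw [S.hJcard]; simp [Nat.card_prod]⟩
    exact fun v w h => hb.1 (Subtype.ext h)
  have hp : ∀ (g x : G) (n : ℕ), g * x ^ n * g⁻¹ = (g * x * g⁻¹) ^ n := fun g x n =>
    (conj_pow (a := g) (b := x)).symm
  have hqel : ∀ v, q * el v * q⁻¹ = el (sig v) := by
    intro v
    simp only [el, sig]
    rw [show q * (e ^ v.1.val * e2 ^ v.2.1.val * e3 ^ v.2.2.val) * q⁻¹ =
      q * e ^ v.1.val * q⁻¹ * (q * e2 ^ v.2.1.val * q⁻¹) * (q * e3 ^ v.2.2.val * q⁻¹) by
      simp [mul_assoc], hp, hp, hp, ← he2, ← he3, hq31,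
      J_comm S (S.J.mul_mem (S.J.pow_mem h2 _) (S.J.pow_mem h3 _)) (S.J.pow_mem he _), ← mul_assoc]
  obtain ⟨j', hj', qi, hqi, hr⟩ : ∃ j' ∈ S.J, ∃ qi ∈ zpowers q, j' * qi = t * q * t⁻¹ := by
    have := htS q (Q_le_S0 S hqQ)
    rw [← hS0, ← SetLike.mem_coe, coe_mul_of_right_le_normalizer_left _ _ (zpowers_le.2 hqN)] at this
    obtain ⟨x, hx, y, hy, hxy⟩ := this
    exact ⟨x, hx, y, hy, hxy⟩
  have hq1 : orderOf q = 3 := orderOf_eq_prime (Q_exp S hqQ) fun h => hqJ (h ▸ S.J.one_mem)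
  have hjconj : ∀ x ∈ S.J, j' * x * j'⁻¹ = x := fun x hx => by
    rw [J_comm S hj' hx, mul_inv_cancel_right]
  have hstep : ∀ x : G, t * (q * x * q⁻¹) * t⁻¹ =
      (j' * qi) * (t * x * t⁻¹) * (j' * qi)⁻¹ := fun x => by rw [hr]; simp [mul_assoc]
  rcases mem_zpowers_three hq1 hqi with rfl | rfl | rfl
  · exfalso
    rw [mul_one] at hr
    refine hqJ ?_
    have := htJ j' hj'
    rw [hr] at this
    rwa [show t * (t * q * t⁻¹) * t⁻¹ = (t * t) * q * (t * t)⁻¹ by simp [mul_assoc], ht2,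
      inv_one, mul_one, one_mul] at this
  · exfalso
    have hfix2 : t * e2 * t⁻¹ = e2 := by
      rw [he2, hstep, hte, show j' * qi * e * (j' * qi)⁻¹ = j' * (qi * e * qi⁻¹) * j'⁻¹ by
        simp [mul_assoc]]
      exact hjconj _ h2
    have hfix3 : t * e3 * t⁻¹ = e3 := by
      rw [he3, hstep, hfix2, show j' * qi * e2 * (j' * qi)⁻¹ = j' * (qi * e2 * qi⁻¹) * j'⁻¹ by
        simp [mul_assoc]]
      exact hjconj _ h3
    have htc : t ∈ S.J := by
      rw [← cJ S]
      intro x hx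
      obtain ⟨v, rfl⟩ := hJr hx
      have h : t * el v.toAdd * t⁻¹ = el v.toAdd := by
        simp only [el]
        rw [show t * (e ^ v.toAdd.1.val * e2 ^ v.toAdd.2.1.val * e3 ^ v.toAdd.2.2.val) * t⁻¹ =
          t * e ^ v.toAdd.1.val * t⁻¹ * (t * e2 ^ v.toAdd.2.1.val * t⁻¹) *
            (t * e3 ^ v.toAdd.2.2.val * t⁻¹) by simp [mul_assoc], hp, hp, hp, hte, hfix2, hfix3]
      exact (mul_inv_eq_iff_eq_mul.1 h).symm
    exact ht1 (cubed_sq (S.hJexp t htc) ht2)
  · have hqi' : q⁻¹ * e * q⁻¹⁻¹ = e3 := by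
      conv_lhs => rw [← hq31]
      simp [mul_assoc]
    have hto2 : t * e2 * t⁻¹ = e3 := by
      rw [he2, hstep, hte, show j' * q⁻¹ * e * (j' * q⁻¹)⁻¹ = j' * (q⁻¹ * e * q⁻¹⁻¹) * j'⁻¹ by
        simp [mul_assoc], hqi']
      exact hjconj _ h3
    have hto3 : t * e3 * t⁻¹ = e2 := by
      rw [← hto2, show t * (t * e2 * t⁻¹) * t⁻¹ = (t * t) * e2 * (t * t)⁻¹ by simp [mul_assoc],
        ht2, inv_one, mul_one, one_mul]
    refine ⟨⟨el, hadd, hinj, hJp, fun x hx => ?_, hone, q, t, hqQ, hqel, fun v => ?_⟩⟩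
    · obtain ⟨v, hv⟩ := hJr hx
      exact ⟨v.toAdd, hv⟩
    · simp only [el, tt]
      rw [show t * (e ^ v.1.val * e2 ^ v.2.1.val * e3 ^ v.2.2.val) * t⁻¹ =
        t * e ^ v.1.val * t⁻¹ * (t * e2 ^ v.2.1.val * t⁻¹) * (t * e3 ^ v.2.2.val * t⁻¹) by
        simp [mul_assoc], hp, hp, hp, hte, hto2, hto3, mul_assoc, mul_assoc,
        J_comm S (S.J.pow_mem h3 _) (S.J.pow_mem h2 _)]

namespace Coord

variable {S : Setup G} (c : Coord S)

/-- The change of frame. -/
def shift (k : ZMod 3) : Coord S where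
  el v := c.el (sh k v)
  el_add v w := by rw [sh_add, c.el_add]
  el_inj v w h := by
    have := congrArg (sh (-k)) (c.el_inj h)
    rwa [((sh_facts k).2 v).2.2.1, ((sh_facts k).2 w).2.2.1] at this
  el_mem v := c.el_mem _
  el_surj j hj := by
    obtain ⟨v, hv⟩ := c.el_surj j hj
    exact ⟨sh (-k) v, by rw [((sh_facts k).2 v).2.2.2, hv]⟩
  el_one := by rw [(sh_facts k).1, c.el_one]
  q := c.q
  t := c.t
  q_mem := c.q_mem
  q_act v := by rw [((sh_facts k).2 v).1, c.q_act]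
  t_act v := by rw [((sh_facts k).2 v).2.1, c.t_act]

theorem el_zero : c.el 0 = 1 := by
  have h := c.el_add 0 0
  rw [add_zero] at h
  exact mul_eq_left.1 h.symm

theorem el_neg (v : V) : c.el (-v) = (c.el v)⁻¹ :=
  eq_inv_of_mul_eq_one_left (by rw [← c.el_add, neg_add_cancel, el_zero])

theorem el_conj (v w : V) : c.el v * c.el w * (c.el v)⁻¹ = c.el w := by
  rw [← c.el_add, add_comm, c.el_add, mul_inv_cancel_right]

/-- The normaliser of `J`. -/
abbrev NJ (S : Setup G) : Subgroup G := Subgroup.normalizer (S.J : Set G)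

/-- The linear map of an element of the normaliser. -/
noncomputable def af (g : NJ S) (v : V) : V :=
  (c.el_surj _ ((Subgroup.mem_normalizer_iff.1 g.2 (c.el v)).1 (c.el_mem v))).choose

theorem el_af (g : NJ S) (v : V) : c.el (c.af g v) = g * c.el v * (g : G)⁻¹ :=
  (c.el_surj _ ((Subgroup.mem_normalizer_iff.1 g.2 (c.el v)).1 (c.el_mem v))).choose_spec

theorem af_mul (g h : NJ S) (v : V) : c.af (g * h) v = c.af g (c.af h v) := by
  apply c.el_inj
  simp [el_af, mul_assoc]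

theorem af_one (v : V) : c.af 1 v = v := c.el_inj (by simp [el_af])

theorem af_add (g : NJ S) (v w : V) : c.af g (v + w) = c.af g v + c.af g w := by
  apply c.el_inj
  simp [el_af, c.el_add, mul_assoc]

/-- The action on coordinates. -/
noncomputable def act : NJ S →* Equiv.Perm V where
  toFun g :=
    { toFun := c.af g
      invFun := c.af g⁻¹
      left_inv := fun v => by rw [← af_mul, inv_mul_cancel, af_one]
      right_inv := fun v => by rw [← af_mul, mul_inv_cancel, af_one] }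
  map_one' := Equiv.ext fun v => c.af_one v
  map_mul' g h := Equiv.ext fun v => c.af_mul g h v

theorem act_apply (g : NJ S) (v : V) : c.act g v = c.af g v := rfl

theorem act_add (g : NJ S) (v w : V) : c.act g (v + w) = c.act g v + c.act g w := c.af_add g v w

theorem el_act (g : NJ S) (v : V) : c.el (c.act g v) = g * c.el v * (g : G)⁻¹ := c.el_af g v

theorem act_nsmul (g : NJ S) (n : ℕ) (v : V) : c.act g (n • v) = n • c.act g v :=
  map_nsmul (AddMonoidHom.mk' (c.act g) (c.act_add g)) n v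

theorem act_neg (g : NJ S) (v : V) : c.act g (-v) = -c.act g v :=
  map_neg (AddMonoidHom.mk' (c.act g) (c.act_add g)) v

theorem act_zero (g : NJ S) : c.act g 0 = 0 :=
  map_zero (AddMonoidHom.mk' (c.act g) (c.act_add g))

theorem act_units (g : NJ S) (v : V) : c.act g v = v.1.val • c.act g u0 +
    (v.2.1.val • c.act g u1 + v.2.2.val • c.act g u2) := by
  conv_lhs => rw [decomp v]
  simp only [act_add, act_nsmul]

theorem act_eq {g : NJ S} {f : V → V} (hf : ∀ v w, f (v + w) = f v + f w)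
    (h : ∀ v ∈ [u0, u1, u2], c.act g v = f v) (v : V) : c.act g v = f v :=
  congrFun (add_ext (c.act_add g) hf (h _ (by simp)) (h _ (by simp)) (h _ (by simp))) v

theorem act_of_conj {g : NJ S} {f : V → V} (h : ∀ v, (g : G) * c.el v * (g : G)⁻¹ = c.el (f v))
    (v : V) : c.act g v = f v := c.el_inj ((c.el_act g v).trans (h v))

theorem q_norm [Finite G] : c.q ∈ NJ S := mem_norm S (by
  rintro _ ⟨x, hx, rfl⟩
  obtain ⟨v, rfl⟩ := c.el_surj x hx
  refine J_le_S0 S ?_
  rw [MulEquiv.coe_toMonoidHom, MulAut.conj_apply, c.q_act]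
  exact c.el_mem _)

theorem t_norm [Finite G] : c.t ∈ NJ S := mem_norm S (by
  rintro _ ⟨x, hx, rfl⟩
  obtain ⟨v, rfl⟩ := c.el_surj x hx
  refine J_le_S0 S ?_
  rw [MulEquiv.coe_toMonoidHom, MulAut.conj_apply, c.t_act]
  exact c.el_mem _)

/-- The shift as a permutation. -/
def sigP : Equiv.Perm V where
  toFun := sig
  invFun v := sig (sig v)
  left_inv v := sig_three v
  right_inv v := sig_three v

/-- The exchange as a permutation. -/
def ttP : Equiv.Perm V where
  toFun := tt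
  invFun := tt
  left_inv _ := rfl
  right_inv _ := rfl

theorem act_q [Finite G] : c.act ⟨c.q, c.q_norm⟩ = sigP :=
  Equiv.ext fun v => c.act_of_conj c.q_act v

theorem act_t [Finite G] : c.act ⟨c.t, c.t_norm⟩ = ttP :=
  Equiv.ext fun v => c.act_of_conj c.t_act v

theorem act_eq_one [Finite G] {g : NJ S} : c.act g = 1 ↔ (g : G) ∈ S.J := by
  constructor
  · intro h
    rw [← cJ S]
    intro x hx
    obtain ⟨v, rfl⟩ := c.el_surj x hx
    have := c.el_act g v
    rw [h, Equiv.Perm.one_apply] at this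
    exact eq_mul_inv_iff_mul_eq.1 this
  · intro h
    obtain ⟨w, hw⟩ := c.el_surj _ h
    exact Equiv.ext fun v => c.el_inj (by
      rw [el_act, ← hw, el_conj]; rfl)

theorem card_norm [Finite G] : Nat.card (NJ S) = 27 * Nat.card c.act.range := by
  have hk : c.act.ker = S.J.subgroupOf (NJ S) := by
    ext g
    rw [MonoidHom.mem_ker, c.act_eq_one, mem_subgroupOf]
  rw [Subgroup.card_eq_card_quotient_mul_card_subgroup c.act.ker,
    Nat.card_congr (QuotientGroup.quotientKerEquivRange c.act).toEquiv, hk,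
    Nat.card_congr (subgroupOfEquivOfLe (show S.J ≤ NJ S from Subgroup.le_normalizer)).toEquiv,
    S.hJcard, mul_comm]

theorem not_nine [Finite G] : ¬ 9 ∣ Nat.card c.act.range := by
  intro ⟨k, hk⟩
  refine sylow S (Dvd.dvd.trans ⟨k, ?_⟩ (card_subgroup_dvd_card (NJ S)))
  rw [c.card_norm, hk]
  ring

/-- The six elements fixing the distinguished vector. -/
def six (x : Bool × Fin 3) : Equiv.Perm V := (if x.1 then ttP else 1) * sigP ^ x.2.val

theorem six_inj : ∀ x y, six x u0 = six y u0 → six x u1 = six y u1 → x = y := by decide +kernel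

theorem six_facts : (∀ x : Bool × Fin 3, six x one3 = one3) ∧
    (∀ v : V, ttP (sigP v) = sigP (sigP (ttP v))) ∧ (∀ v : V, ttP (ttP v) = v) := by
  decide +kernel

theorem mem_S0 [Finite G] {x : G} (hx : x ∈ S0 S) (hxN : x ∈ NJ S) :
    ∃ i : Fin 3, c.act ⟨x, hxN⟩ = sigP ^ i.val := by
  have hqJ : c.q ∉ S.J := fun h => by
    have := (c.act_eq_one (g := ⟨c.q, c.q_norm⟩)).2 h
    rw [act_q] at this
    exact absurd (congrFun (congrArg DFunLike.coe this) u0) (by decide)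
  have hS0 : S.J ⊔ zpowers c.q = S0 S :=
    sup_zpowers_eq (J_le_S0 S) (by rw [card_S0, S.hJcard]) (Q_le_S0 S c.q_mem) hqJ
  rw [← hS0, ← SetLike.mem_coe,
    coe_mul_of_right_le_normalizer_left _ _ (zpowers_le.2 c.q_norm)] at hx
  obtain ⟨j, hj, y, hy, rfl⟩ := hx
  have hjN : j ∈ NJ S := Subgroup.le_normalizer hj
  have hq1 : orderOf c.q = 3 := by
    haveI : Fact (Nat.Prime 3) := ⟨Nat.prime_three⟩
    exact orderOf_eq_prime (Q_exp S c.q_mem) fun h => hqJ (h ▸ S.J.one_mem)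
  rcases mem_zpowers_three hq1 hy with rfl | rfl | rfl
  · refine ⟨0, ?_⟩
    rw [show (⟨j * 1, hxN⟩ : NJ S) = ⟨j, hjN⟩ from Subtype.ext (mul_one j),
      (c.act_eq_one (g := ⟨j, hjN⟩)).2 hj]
    rfl
  · refine ⟨1, ?_⟩
    rw [show (⟨j * c.q, hxN⟩ : NJ S) = ⟨j, hjN⟩ * ⟨c.q, c.q_norm⟩ from rfl, map_mul,
      (c.act_eq_one (g := ⟨j, hjN⟩)).2 hj, one_mul, act_q]
    exact (pow_one _).symm
  · refine ⟨2, ?_⟩
    rw [show (⟨j * c.q⁻¹, hxN⟩ : NJ S) = ⟨j, hjN⟩ * ⟨c.q, c.q_norm⟩⁻¹ from rfl, map_mul,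
      (c.act_eq_one (g := ⟨j, hjN⟩)).2 hj, one_mul, map_inv, act_q]
    exact inv_eq_of_mul_eq_one_left (Equiv.ext fun v => sig_three v)

theorem conj_S0 [Finite G] {g x : G} (hg : g ∈ NJ S) (hgC : g ∈ S.C) (hx : x ∈ S0 S) :
    g * x * g⁻¹ ∈ S0 S := by
  have h : S0 S ≤ (S0 S).comap (MulAut.conj g).toMonoidHom :=
    sup_le (fun j hj => J_le_S0 S ((Subgroup.mem_normalizer_iff.1 hg j).1 hj))
      (fun y hy => Q_le_S0 S (conj_Q S hgC hy))
  exact h hx

theorem commute_case [Finite G] {g : NJ S} (hg : c.act g one3 = one3)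
    (hc : c.act g * sigP = sigP * c.act g) : ∃ i : Fin 3, c.act g = sigP ^ i.val := by
  haveI : Fact (Nat.Prime 3) := ⟨Nat.prime_three⟩
  set u := c.act g u0 with hu
  have h1 : c.act g u1 = sig u := congrFun (congrArg DFunLike.coe hc) u0
  have h2 : c.act g u2 = sig (sig u) :=
    (congrFun (congrArg DFunLike.coe hc) u1).trans (congrArg sig h1)
  have hcirc : ∀ v, c.act g v = circ u v := fun v => by
    rw [act_units, h1, h2]; rfl
  have h3 := circ_three u (by rw [← hcirc, hg])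
  have hJ3 : ((g ^ 3 : NJ S) : G) ∈ S.J := by
    refine c.act_eq_one.1 (Equiv.ext fun v => ?_)
    refine c.act_eq (f := id) (fun _ _ => rfl) ?_ v
    have hp : ∀ w, c.act (g ^ 3) w = circ u (circ u (circ u w)) := fun w => by
      simp only [← hcirc, pow_succ, pow_zero, one_mul, map_mul, Equiv.Perm.mul_apply]
    intro w hw
    simp only [List.mem_cons, List.not_mem_nil, or_false] at hw
    rcases hw with rfl | rfl | rfl <;> rw [hp]
    exacts [h3.1, h3.2.1, h3.2.2]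
  have hgC : (g : G) ∈ S.C := by
    rw [mem_C]
    have := c.el_act g one3
    rw [hg, c.el_one] at this
    exact (eq_mul_inv_iff_mul_eq.1 this).symm
  have h9 : ((g : G)) ^ 3 ^ 2 = 1 := by
    rw [show 3 ^ 2 = 3 * 3 by norm_num, pow_mul]
    exact S.hJexp _ hJ3
  have hle : zpowers (g : G) ≤ normalizer (S0 S : Set G) := by
    refine zpowers_le.2 (Subgroup.mem_normalizer_iff.2 fun x =>
      ⟨fun hx => conj_S0 g.2 hgC hx, fun hx => ?_⟩)
    simpa [mul_assoc] using conj_S0 ((NJ S).inv_mem g.2) (S.C.inv_mem hgC) hx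
  have hp : IsPGroup 3 (zpowers (g : G)) := by
    obtain ⟨k, -, hk⟩ := (Nat.dvd_prime_pow Nat.prime_three).1 (orderOf_dvd_of_pow_eq_one h9)
    exact IsPGroup.of_card (n := k) (by rw [Nat.card_zpowers, hk])
  have hd := card_three S (sup_le (zpowers_le.2 hgC) (S0_le S))
    (hp.to_sup_of_normal_right' (S0_pgroup S) hle)
  have he : S0 S = zpowers (g : G) ⊔ S0 S :=
    eq_of_le_of_card_ge le_sup_right (by rw [card_S0]; exact Nat.le_of_dvd (by norm_num) hd)
  exact c.mem_S0 (he ▸ mem_sup_left (mem_zpowers (g : G))) g.2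

/-- The stabiliser of the distinguished vector. -/
theorem stab_cases [Finite G] {g : NJ S} (hg : c.act g one3 = one3) :
    ∃ x, c.act g = six x := by
  have hgC : (g : G) ∈ S.C := by
    rw [mem_C]
    have := c.el_act g one3
    rw [hg, c.el_one] at this
    exact (eq_mul_inv_iff_mul_eq.1 this).symm
  have hr : (g : G) * c.q * (g : G)⁻¹ ∈ S0 S := conj_S0 g.2 hgC (Q_le_S0 S c.q_mem)
  obtain ⟨i, hi⟩ := c.mem_S0 hr ((g * ⟨c.q, c.q_norm⟩ * g⁻¹ : NJ S)).2
  have hi' : c.act g * sigP * (c.act g)⁻¹ = sigP ^ i.val := by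
    rw [← hi, ← c.act_q, ← map_inv, ← map_mul, ← map_mul]
    rfl
  fin_cases i
  · exfalso
    have h : sigP = 1 := by simpa using hi'
    exact absurd (congrFun (congrArg DFunLike.coe h) u0) (by decide)
  · obtain ⟨k, hk⟩ := c.commute_case hg (mul_inv_eq_iff_eq_mul.1 (by simpa using hi'))
    exact ⟨(false, k), by simp [six, hk]⟩
  · have hg' : c.act (⟨c.t, c.t_norm⟩ * g) one3 = one3 := by
      rw [map_mul, act_t, Equiv.Perm.mul_apply, hg]; rfl
    obtain ⟨k, hk⟩ := c.commute_case hg' (by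
      rw [map_mul, act_t, mul_assoc, mul_inv_eq_iff_eq_mul.1 hi', ← mul_assoc, ← mul_assoc]
      congr 1)
    refine ⟨(true, k), ?_⟩
    rw [map_mul, act_t] at hk
    simp only [six, if_pos, ← hk, ← mul_assoc]
    try rw [show ttP * ttP = 1 from Equiv.ext six_facts.2.2, one_mul]

open Classical in
/-- The orbit of the distinguished vector. -/
noncomputable def om : Finset V := Finset.univ.filter fun v => ∃ g : NJ S, c.act g one3 = v

theorem mem_om {v : V} : v ∈ c.om ↔ ∃ g : NJ S, c.act g one3 = v := by simp [om]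

theorem one_mem_om : one3 ∈ c.om := c.mem_om.2 ⟨1, by simp⟩

theorem act_mem_om (g : NJ S) {v : V} (hv : v ∈ c.om) : c.act g v ∈ c.om := by
  obtain ⟨h, rfl⟩ := c.mem_om.1 hv
  exact c.mem_om.2 ⟨g * h, by rw [map_mul, Equiv.Perm.mul_apply]⟩

theorem act_mem_om_iff (g : NJ S) {v : V} : c.act g v ∈ c.om ↔ v ∈ c.om := by
  refine ⟨fun h => ?_, c.act_mem_om g⟩
  have := c.act_mem_om g⁻¹ h
  rwa [← Equiv.Perm.mul_apply, ← map_mul, inv_mul_cancel, map_one] at this

theorem zero_notMem_om : (0 : V) ∉ c.om := by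
  intro h
  obtain ⟨g, hg⟩ := c.mem_om.1 h
  exact absurd ((c.act g).injective (hg.trans (c.act_zero g).symm)) (by decide)

theorem cl_subset_om [Finite G] {v : V} (hv : v ∈ c.om) : cl v ⊆ c.om := by
  have hs : ∀ w ∈ c.om, sig w ∈ c.om := fun w hw => by
    have := c.act_mem_om ⟨c.q, c.q_norm⟩ hw
    rwa [act_q] at this
  have ht : ∀ w ∈ c.om, tt w ∈ c.om := fun w hw => by
    have := c.act_mem_om ⟨c.t, c.t_norm⟩ hw
    rwa [act_t] at this
  intro w hw
  simp only [cl, Finset.mem_insert, Finset.mem_singleton] at hw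
  rcases hw with rfl | rfl | rfl | rfl | rfl | rfl
  exacts [hv, hs _ hv, hs _ (hs _ hv), ht _ hv, ht _ (hs _ hv), ht _ (hs _ (hs _ hv))]

theorem card_range [Finite G] : Nat.card c.act.range = 6 * c.om.card := by
  set A := c.act.range with hA
  have hstab : Nat.card (MulAction.stabilizer A one3) = 6 := by
    have hmem : ∀ x, six x ∈ A := by
      rintro ⟨b, i⟩
      refine A.mul_mem ?_ (A.pow_mem ⟨_, c.act_q⟩ _)
      cases b
      · exact A.one_mem
      · exact ⟨_, c.act_t⟩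
    let f : Bool × Fin 3 → MulAction.stabilizer A one3 := fun x =>
      ⟨⟨six x, hmem x⟩, six_facts.1 x⟩
    have hb : Function.Bijective f := by
      refine ⟨fun x y h => ?_, fun y => ?_⟩
      · have h' : six x = six y := congrArg (fun w : MulAction.stabilizer A one3 => w.1.1) h
        exact six_inj x y (by rw [h']) (by rw [h'])
      · obtain ⟨g, hg⟩ := y.1.2
        obtain ⟨x, hx⟩ := c.stab_cases (g := g) (by rw [hg]; exact y.2)
        exact ⟨x, Subtype.ext (Subtype.ext (hx.symm.trans hg))⟩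
    rw [← Nat.card_congr (Equiv.ofBijective f hb)]
    simp
  have horb : MulAction.orbit A one3 = (c.om : Set V) := by
    ext v
    rw [Finset.mem_coe, c.mem_om]
    constructor
    · rintro ⟨⟨_, g, rfl⟩, rfl⟩
      exact ⟨g, rfl⟩
    · rintro ⟨g, rfl⟩
      exact ⟨⟨_, g, rfl⟩, rfl⟩
  have h := (MulAction.stabilizer A one3).card_mul_index
  rw [MulAction.index_stabilizer, horb, hstab, Set.ncard_coe_finset] at h
  exact h.symm

theorem prime_dvd [Finite G] {p : ℕ} (hp : p.Prime) (h : p ∣ c.om.card) :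
    p = 2 ∨ p = 13 := by
  haveI : Fact p.Prime := ⟨hp⟩
  rcases eq_or_ne p 3 with rfl | hp3
  · exfalso
    obtain ⟨k, hk⟩ := h
    exact c.not_nine ⟨2 * k, by rw [c.card_range, hk]; ring⟩
  obtain ⟨x, hx⟩ := exists_prime_orderOf_dvd_card' (G := c.act.range) p
    (by rw [c.card_range]; exact h.mul_left 6)
  obtain ⟨σ, g, rfl⟩ := x
  rw [← Subgroup.orderOf_coe] at hx
  change orderOf (c.act g) = p at hx
  have hσ1 : c.act g ≠ 1 := fun h1 => by
    rw [h1, orderOf_one] at hx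
    exact hp.ne_one hx.symm
  have hm := Equiv.Perm.card_compl_support_modEq (p := p) (n := 1) (σ := c.act g)
    (by rw [pow_one, ← hx]; exact pow_orderOf_eq_one _)
  let F : AddSubgroup V :=
    { carrier := {v | c.act g v = v}
      add_mem' := fun {v w} hv hw => by
        simp only [Set.mem_ofPred_eq] at hv hw ⊢; rw [act_add, hv, hw]
      zero_mem' := c.act_zero g
      neg_mem' := fun {v} hv => by
        simp only [Set.mem_ofPred_eq] at hv ⊢; rw [act_neg, hv] }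
  have hF : Nat.card F = (c.act g).supportᶜ.card := by
    rw [← Nat.card_eq_finsetCard]
    refine Nat.card_congr (Equiv.subtypeEquivRight fun v => ?_)
    rw [Finset.mem_compl, Equiv.Perm.notMem_support]
    rfl
  have hd : Nat.card F ∣ 3 ^ 3 := by simpa using F.card_addSubgroup_dvd_card
  obtain ⟨k, hk, hk'⟩ := (Nat.dvd_prime_pow Nat.prime_three).1 hd
  rw [← hF, hk', show Fintype.card V = 27 by simp] at hm
  have hdvd : p ∣ 27 - 3 ^ k := (Nat.modEq_iff_dvd'
    (le_trans (Nat.pow_le_pow_right (by norm_num) hk) (by norm_num))).1 hm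
  interval_cases k
  · have : p ∣ 2 * 13 := by norm_num at hdvd ⊢; exact hdvd
    rcases hp.dvd_mul.1 this with h2 | h2
    · exact Or.inl ((Nat.prime_dvd_prime_iff_eq hp Nat.prime_two).1 h2)
    · exact Or.inr ((Nat.prime_dvd_prime_iff_eq hp (by norm_num)).1 h2)
  · have : p ∣ 2 ^ 3 * 3 := by norm_num at hdvd ⊢; exact hdvd
    rcases hp.dvd_mul.1 this with h2 | h2
    · exact Or.inl ((Nat.prime_dvd_prime_iff_eq hp Nat.prime_two).1 (hp.dvd_of_dvd_pow h2))
    · exact absurd ((Nat.prime_dvd_prime_iff_eq hp Nat.prime_three).1 h2) hp3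
  · have : p ∣ 2 * 3 ^ 2 := by norm_num at hdvd ⊢; exact hdvd
    rcases hp.dvd_mul.1 this with h2 | h2
    · exact Or.inl ((Nat.prime_dvd_prime_iff_eq hp Nat.prime_two).1 h2)
    · exact absurd ((Nat.prime_dvd_prime_iff_eq hp Nat.prime_three).1 (hp.dvd_of_dvd_pow h2)) hp3
  · exfalso
    refine hσ1 (Equiv.ext fun v => ?_)
    have hFt : F = ⊤ := AddSubgroup.eq_top_of_card_eq _ (by rw [hk']; simp)
    have : v ∈ F := by rw [hFt]; exact AddSubgroup.mem_top v
    exact this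

theorem card_mod [Finite G] :
    (c.om.filter fun v => v = one3 ∨ v = -one3).card ≡ c.om.card [MOD 3] := by
  haveI : Fact (Nat.Prime 3) := ⟨Nat.prime_three⟩
  have hsig : ∀ v, sigP v ∈ c.om ↔ v ∈ c.om := fun v => by
    rw [← c.act_q]; exact c.act_mem_om_iff _
  set s : Equiv.Perm {v // v ∈ c.om} := sigP.subtypePerm fun v => hsig v
  have h := Equiv.Perm.card_compl_support_modEq (p := 3) (n := 1) (σ := s) (by
    refine Equiv.ext fun v => Subtype.ext ?_
    rw [pow_one, pow_three]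
    show sig (sig (sig v.1)) = v.1
    exact sig_three _)
  rw [Fintype.card_coe] at h
  refine (Eq.congr_left ?_).mp h
  rw [← Nat.card_eq_finsetCard, ← Nat.card_eq_finsetCard]
  refine congrArg (· % 3) (Nat.card_congr ?_)
  refine
    { toFun := fun x => ⟨x.1.1, Finset.mem_filter.2 ⟨x.1.2, ?_⟩⟩
      invFun := fun y => ⟨⟨y.1, (Finset.mem_filter.1 y.2).1⟩, ?_⟩
      left_inv := fun _ => rfl
      right_inv := fun _ => rfl }
  · have hx : s x.1 = x.1 := by
      have := x.2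
      rwa [Finset.mem_compl, Equiv.Perm.notMem_support] at this
    rcases fixed_sig x.1.1 (congrArg Subtype.val hx) with h0 | h0
    · exact absurd (h0 ▸ x.1.2) c.zero_notMem_om
    · exact h0
  · rw [Finset.mem_compl, Equiv.Perm.notMem_support]
    refine Subtype.ext ?_
    show sig y.1 = y.1
    rcases (Finset.mem_filter.1 y.2).2 with h0 | h0 <;> rw [h0] <;> rfl

end Coord

end Cfsg.Agent.Sp62Three31Auto
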