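import Mathlib

/-!
The space of triples over the field of three elements, with the monomial maps: the finite
facts used for the automiser of `J` in S3342.
-/

set_option autoImplicit false
set_option synthInstance.maxSize 4000
set_option synthInstance.maxHeartbeats 400000
set_option maxRecDepth 100000

namespace Cfsg.Agent.Sp62Three31Auto

/-- Triples over the field of three elements. -/
abbrev V := ZMod 3 × ZMod 3 × ZMod 3

def one3 : V := (1, 1, 1)
def u0 : V := (1, 0, 0)
def u1 : V := (0, 1, 0)
def u2 : V := (0, 0, 1)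

/-- The cyclic shift. -/
def sig (v : V) : V := (v.2.2, v.1, v.2.1)
/-- The exchange of the last two coordinates. -/
def tt (v : V) : V := (v.1, v.2.2, v.2.1)

theorem decomp (v : V) : v = v.1.val • u0 + (v.2.1.val • u1 + v.2.2.val • u2) := by
  revert v; decide

/-- Additive maps are determined by the three units. -/
theorem add_ext {f h : V → V} (hf : ∀ v w, f (v + w) = f v + f w)
    (hh : ∀ v w, h (v + w) = h v + h w) (e0 : f u0 = h u0) (e1 : f u1 = h u1) (e2 : f u2 = h u2) :
    f = h := by
  funext v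
  have key : ∀ {k : V → V}, (∀ v w, k (v + w) = k v + k w) →
      k v = v.1.val • k u0 + (v.2.1.val • k u1 + v.2.2.val • k u2) := by
    intro k hk
    conv_lhs => rw [decomp v]
    let K : V →+ V := AddMonoidHom.mk' k hk
    show K _ = _
    rw [map_add, map_add, map_nsmul, map_nsmul, map_nsmul]
    rfl
  rw [key hf, key hh, e0, e1, e2]

theorem sig_add (v w : V) : sig (v + w) = sig v + sig w := rfl

theorem tt_add (v w : V) : tt (v + w) = tt v + tt w := rfl

/-- The map determined by the image of the first unit and commuting with the shift. -/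
def circ (u : V) (v : V) : V :=
  v.1.val • u + (v.2.1.val • sig u + v.2.2.val • sig (sig u))

theorem circ_three : ∀ u : V, circ u one3 = one3 →
    circ u (circ u (circ u u0)) = u0 ∧ circ u (circ u (circ u u1)) = u1 ∧
      circ u (circ u (circ u u2)) = u2 := by decide +kernel

theorem circ_units : ∀ u : V, circ u u0 = u ∧ circ u u1 = sig u ∧ circ u u2 = sig (sig u) := by
  decide +kernel

/-- The six images of a vector under the permutations of the coordinates. -/
def cl (v : V) : Finset V :=
  {v, sig v, sig (sig v), tt v, tt (sig v), tt (sig (sig v))}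

theorem self_mem_cl (v : V) : v ∈ cl v := by simp [cl]

theorem fixed_sig : ∀ v : V, sig v = v → v = 0 ∨ v = one3 ∨ v = -one3 := by decide +kernel

theorem sig_three : ∀ v : V, sig (sig (sig v)) = v := by decide +kernel

/-- The classes in the case of a fixed-point-free set. -/
theorem cl_cases : ∀ v : V, v ≠ 0 → v ≠ one3 → v ≠ -one3 → -v ∉ cl v →
    (cl v).card = 3 ∧ one3 ∉ cl v := by decide +kernel

theorem cl_cases_neg : ∀ v : V, v ≠ 0 → v ≠ one3 → v ≠ -one3 →
    (insert one3 (insert (-one3) (cl v ∪ (cl v).image Neg.neg))).card = 8 := by decide +kernel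

/-- The change of frame `eᵢ ↦ eᵢ + c·a`. -/
def sh (c : ZMod 3) (v : V) : V :=
  v + (c * (v.1 + v.2.1 + v.2.2), c * (v.1 + v.2.1 + v.2.2), c * (v.1 + v.2.1 + v.2.2))

theorem sh_add : ∀ c : ZMod 3, ∀ v w : V, sh c (v + w) = sh c v + sh c w := by decide +kernel

theorem sh_facts : ∀ c : ZMod 3, sh c one3 = one3 ∧
    ∀ v : V, sh c (sig v) = sig (sh c v) ∧ sh c (tt v) = tt (sh c v) ∧
      sh (-c) (sh c v) = v ∧ sh c (sh (-c) v) = v := by decide +kernel

/-- The four vectors with an even number of minus signs. -/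
def tet : Finset V := {(1, 1, 1), (1, 2, 2), (2, 1, 2), (2, 2, 1)}

/-- The eight vectors without zero coordinate. -/
def cube : Finset V := tet ∪ tet.image Neg.neg

/-- The plane of vectors of coordinate sum zero, without its origin. -/
def pl : Finset V := Finset.univ.filter fun v => v ≠ 0 ∧ v.1 + v.2.1 + v.2.2 = 0

theorem frame_even : ∀ v : V, v ≠ 0 → v ≠ one3 → v ≠ -one3 → -v ∉ cl v →
    (one3 + (cl v).sum id = 0 → ∃ c : ZMod 3, (insert one3 (cl v)).image (sh c) = tet) ∧
    (one3 + (cl v).sum id ≠ 0 → one3 + (cl v).sum id = -one3) := by decide +kernel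

theorem frame_signed : ∀ v : V, v ≠ 0 → v ≠ one3 → v ≠ -one3 →
    (insert one3 (insert (-one3) (cl v ∪ (cl v).image Neg.neg))) = pl ∨
    ∃ c : ZMod 3, (insert one3 (insert (-one3) (cl v ∪ (cl v).image Neg.neg))).image (sh c) = cube := by
  decide +kernel

theorem tet_gen : ∀ v : V, ∃ x y z : ZMod 3,
    v = x.val • ((1, 1, 1) : V) + (y.val • ((1, 2, 2) : V) + z.val • ((2, 1, 2) : V)) := by
  decide +kernel

/-- Signed permutations of the coordinates. -/
abbrev Mon := Equiv.Perm (Fin 3) × (Fin 3 → Bool)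

def co (v : V) : Fin 3 → ZMod 3 := ![v.1, v.2.1, v.2.2]

def ofCo (f : Fin 3 → ZMod 3) : V := (f 0, f 1, f 2)

def sgn (b : Bool) : ZMod 3 := if b then -1 else 1

/-- The signed permutation map. -/
def mono (m : Mon) (v : V) : V :=
  ofCo fun i => sgn (m.2 i) * co v (m.1⁻¹ i)

theorem mono_add : ∀ m : Mon, ∀ v w : V, mono m (v + w) = mono m v + mono m w := by
  intro m v w
  simp only [mono, ofCo, co]
  ext <;> simp only [Prod.fst_add, Prod.snd_add] <;>
    · generalize m.1⁻¹ _ = i
      fin_cases i <;> simp [mul_add]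

theorem mono_inj : ∀ m m' : Mon, mono m u0 = mono m' u0 → mono m u1 = mono m' u1 →
    mono m u2 = mono m' u2 → m = m' := by decide +kernel

theorem card_mon : Fintype.card Mon = 48 := by decide +kernel

/-- A linear map preserving the cube is monomial: images of three vertices. -/
theorem cube_mono : ∀ x ∈ cube, ∀ y ∈ cube, ∀ z ∈ cube, -(x + y + z) ∈ cube →
    y ≠ x → y ≠ -x → z ≠ x → z ≠ -x → z ≠ y → z ≠ -y →
    ∃ m : Mon, mono m (1, 1, 1) = x ∧ mono m (1, 2, 2) = y ∧ mono m (2, 1, 2) = z := by
  decide +kernel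

/-! ### The generators -/

def d0 (v : V) : V := (-v.1, v.2.1, v.2.2)
def d1 (v : V) : V := (v.1, -v.2.1, v.2.2)
def d2 (v : V) : V := (v.1, v.2.1, -v.2.2)
def tw (v : V) : V := (v.2.1, v.1, v.2.2)

def fpow (f : V → V) : Bool → V → V
  | true => f
  | false => id

/-- The unsigned part of a signed permutation. -/
def pmap (π : Equiv.Perm (Fin 3)) (v : V) : V := ofCo fun i => co v (π⁻¹ i)

theorem mono_split (m : Mon) (v : V) :
    mono m v = fpow d0 (m.2 0) (fpow d1 (m.2 1) (fpow d2 (m.2 2) (pmap m.1 v))) := by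
  cases h0 : m.2 0 <;> cases h1 : m.2 1 <;> cases h2 : m.2 2 <;>
    simp [mono, ofCo, sgn, pmap, fpow, d0, d1, d2, h0, h1, h2]

theorem pmap_word : ∀ π : Equiv.Perm (Fin 3), ∃ (s : Bool) (r : Fin 3), ∀ v ∈ [u0, u1, u2],
    pmap π v = fpow tw s ((if r = 0 then id else if r = 1 then sig else sig ∘ sig) v) := by
  decide +kernel

def monD (j : Fin 3) : Mon := (1, fun i => decide (i = j))
def monTw : Mon := (Equiv.swap 0 1, fun _ => false)
def monSig : Mon := (Equiv.swap 0 1 * Equiv.swap 1 2, fun _ => false)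
def monNeg : Mon := (1, fun _ => true)

theorem gens_mono : ∀ v ∈ [u0, u1, u2], d0 v = mono (monD 0) v ∧ d1 v = mono (monD 1) v ∧
    d2 v = mono (monD 2) v ∧ tw v = mono monTw v ∧ sig v = mono monSig v ∧
    -v = mono monNeg v := by decide +kernel

end Cfsg.Agent.Sp62Three31Auto
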