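import Cfsg.Agent.Lib.Sp62Three31Setup
import Cfsg.Agent.Lib.ComponentsCores
import Cfsg.Agent.Lib.SL23Model77
import Cfsg.Agent.Lib.Sp62Three31AutoV

/-!
S3342: the group `J ⊔ O₃(C(a))` is a Sylow subgroup, `J` is self-centralising and a frame of
coordinates on `J` with a shift and an exchange inside the centraliser of `a`.
-/

set_option autoImplicit false
set_option Elab.async false

namespace Cfsg.Agent.Sp62Three31Auto

open Subgroup Sp62Three31
open scoped commutatorElement Pointwise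

universe u

variable {G : Type u} [Group G]

local notation "SL3" => SL23Model77.SL

theorem mem_zpowers_three {a y : G} (ha : orderOf a = 3) (hy : y ∈ zpowers a) :
    y = 1 ∨ y = a ∨ y = a⁻¹ := by
  obtain ⟨i, rfl⟩ := hy
  have h3 : a ^ 3 = 1 := ha ▸ pow_orderOf_eq_one a
  show a ^ i = _ ∨ a ^ i = _ ∨ a ^ i = _
  rw [← zpow_mod_orderOf, ha]
  have h1 := Int.emod_nonneg i (show ((3 : ℕ) : ℤ) ≠ 0 by norm_num)
  have h2 := Int.emod_lt_of_pos i (show (0 : ℤ) < ((3 : ℕ) : ℤ) by norm_num)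
  interval_cases (i % ((3 : ℕ) : ℤ))
  · exact Or.inl (zpow_zero a)
  · exact Or.inr (Or.inl (zpow_one a))
  · refine Or.inr (Or.inr ?_)
    rw [show (2 : ℤ) = ((2 : ℕ) : ℤ) from rfl, zpow_natCast]
    exact eq_inv_of_mul_eq_one_left (by rw [← pow_succ]; exact h3)

theorem three_elem {n : ℕ} {g : G} (hn : g ^ 3 ^ n = 1) (hg : g * g = 1) : g = 1 := by
  have h : orderOf g ∣ Nat.gcd 2 (3 ^ n) :=
    Nat.dvd_gcd (orderOf_dvd_of_pow_eq_one (by rw [pow_two, hg])) (orderOf_dvd_of_pow_eq_one hn)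
  rw [Nat.Coprime.gcd_eq_one ((Nat.coprime_primes Nat.prime_two Nat.prime_three).2
    (by norm_num) |>.pow_right n), Nat.dvd_one] at h
  exact orderOf_eq_one_iff.1 h

theorem cubed_sq {g : G} (h3 : g ^ 3 = 1) (hg : g * g = 1) : g = 1 :=
  three_elem (n := 1) (by rwa [pow_one]) hg

theorem sq_inv {g : G} (h3 : g ^ 3 = 1) : g * g = g⁻¹ :=
  eq_inv_of_mul_eq_one_left (by rw [← h3, pow_succ, pow_two])

/-- A subgroup of index three is maximal. -/
theorem sup_zpowers_eq [Finite G] {H K : Subgroup G} (hHK : H ≤ K)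
    (hc : Nat.card K = 3 * Nat.card H) {x : G} (hx : x ∈ K) (hxH : x ∉ H) :
    H ⊔ zpowers x = K := by
  have hle : H ⊔ zpowers x ≤ K := sup_le hHK (zpowers_le.2 hx)
  refine eq_of_le_of_card_ge hle ?_
  obtain ⟨k, hk⟩ := card_dvd_of_le (show H ≤ H ⊔ zpowers x from le_sup_left)
  have h2 := card_dvd_of_le hle
  rw [hc, hk, mul_comm 3] at h2
  rcases (Nat.dvd_prime Nat.prime_three).1 (Nat.dvd_of_mul_dvd_mul_left Nat.card_pos h2) with rfl | rfl
  · exact absurd ((eq_of_le_of_card_ge le_sup_left (by rw [hk, mul_one])).ge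
      (mem_sup_right (mem_zpowers x))) hxH
  · rw [hc, hk, mul_comm]

theorem comm_of_sup {H : Subgroup G} {x : G} (hH : ∀ a ∈ H, ∀ b ∈ H, a * b = b * a)
    (hx : ∀ a ∈ H, a * x = x * a) :
    ∀ a ∈ H ⊔ zpowers x, ∀ b ∈ H ⊔ zpowers x, a * b = b * a := by
  have h1 : H ⊔ zpowers x ≤ centralizer (H : Set G) :=
    sup_le (fun a ha b hb => hH b hb a ha) (zpowers_le.2 fun a ha => hx a ha)
  have h2 : H ⊔ zpowers x ≤ centralizer ({x} : Set G) :=
    sup_le (fun a ha => mem_centralizer_singleton_iff.2 (hx a ha))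
      (zpowers_le.2 (mem_centralizer_singleton_iff.2 rfl))
  intro a ha b hb
  have h3 : H ⊔ zpowers x ≤ centralizer ({b} : Set G) :=
    sup_le (fun c hc => mem_centralizer_singleton_iff.2 (h1 hb c hc))
      (zpowers_le.2 (mem_centralizer_singleton_iff.2 (mem_centralizer_singleton_iff.1 (h2 hb)).symm))
  exact mem_centralizer_singleton_iff.1 (h3 ha)

variable [Finite G] (S : Setup G)

/-- The core inside the centraliser. -/
def cQ : Subgroup ↥S.C := Cfsg.pCore 3 ↥S.C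

instance cQ_normal : (cQ S).Normal := Cfsg.pCore_normal 3 ↥S.C

/-- The projection to `SL(2,3)`. -/
def pr : ↥S.C →* SL3 := S.e.toMonoidHom.comp (QuotientGroup.mk' (cQ S))

theorem pr_surj : Function.Surjective (pr S) :=
  S.e.surjective.comp (QuotientGroup.mk'_surjective _)

theorem Q_eq : S.Q = (cQ S).map S.C.subtype := rfl

theorem pr_eq_one {x : ↥S.C} : pr S x = 1 ↔ (x : G) ∈ S.Q := by
  rw [Q_eq, ← coe_subtype S.C, mem_map_iff_mem S.C.subtype_injective]
  change S.e (QuotientGroup.mk' (cQ S) x) = 1 ↔ _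
  exact (map_eq_one_iff S.e S.e.injective).trans (QuotientGroup.eq_one_iff x)

theorem mem_C {g : G} : g ∈ S.C ↔ g * S.a = S.a * g := mem_centralizer_singleton_iff

theorem a_mem_C : S.a ∈ S.C := (mem_C S).2 rfl

theorem Q_le_C : S.Q ≤ S.C := map_subtype_le _

theorem Q_card : Nat.card S.Q = 27 := by
  rw [Q_eq, card_map_of_injective S.C.subtype_injective]
  exact S.hRcard

theorem Q_exp {y : G} (hy : y ∈ S.Q) : y ^ 3 = 1 := by
  obtain ⟨x, hx, rfl⟩ := hy
  rw [← map_pow, S.hRexp x hx, map_one]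

theorem conj_Q {g y : G} (hg : g ∈ S.C) (hy : y ∈ S.Q) : g * y * g⁻¹ ∈ S.Q := by
  obtain ⟨x, hx, rfl⟩ := hy
  exact ⟨⟨g, hg⟩ * x * ⟨g, hg⟩⁻¹, (cQ_normal S).conj_mem x hx _, rfl⟩

theorem a_cube : S.a ^ 3 = 1 := S.ha ▸ pow_orderOf_eq_one S.a

theorem a_ne : S.a ≠ 1 := fun h => by
  have := S.ha
  rw [h, orderOf_one] at this
  omega

theorem a_mem_Q : S.a ∈ S.Q := by
  let a' : ↥S.C := ⟨S.a, a_mem_C S⟩
  have hc : a' ∈ center ↥S.C := Subgroup.mem_center_iff.2 fun g =>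
    Subtype.ext ((mem_C S).1 g.2)
  haveI : (zpowers a').Normal := ⟨fun n hn g => by
    rwa [Subgroup.mem_center_iff.1 (zpowers_le.2 hc hn) g, mul_inv_cancel_right]⟩
  have hp : IsPGroup 3 (zpowers a') := IsPGroup.of_card (n := 1)
    (by rw [Nat.card_zpowers, ← orderOf_coe, pow_one]; exact S.ha)
  exact ⟨a', ComponentsCores.le_pCore' hp (mem_zpowers a'), rfl⟩

theorem center_Q {x : G} (hx : x ∈ S.Q) (h : ∀ y ∈ S.Q, x * y = y * x) :
    x ∈ zpowers S.a := by
  obtain ⟨a', ha', hae⟩ := a_mem_Q S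
  obtain ⟨x', hx', rfl⟩ := hx
  have hz : ∀ {w : ↥S.C} (hw : w ∈ cQ S), (∀ y ∈ S.Q, (w : G) * y = y * w) →
      (⟨w, hw⟩ : ↥(cQ S)) ∈ center ↥(cQ S) := fun {w} hw hcomm =>
    Subgroup.mem_center_iff.2 fun v => Subtype.ext (Subtype.ext (hcomm v.1 ⟨v.1, v.2, rfl⟩).symm)
  have hae' : (a' : G) = S.a := hae
  have hza : (⟨a', ha'⟩ : ↥(cQ S)) ∈ center ↥(cQ S) := hz ha' fun y hy => by
    rw [hae']
    exact ((mem_C S).1 (Q_le_C S hy)).symm
  have he : zpowers (⟨a', ha'⟩ : ↥(cQ S)) = center ↥(cQ S) := by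
    refine eq_of_le_of_card_ge (zpowers_le.2 hza) ?_
    have h3 : Nat.card (center ↥(cQ S)) = 3 := S.hR.2
    rw [h3, Nat.card_zpowers, ← orderOf_coe, ← orderOf_coe, hae', S.ha]
  obtain ⟨i, hi⟩ : (⟨x', hx'⟩ : ↥(cQ S)) ∈ zpowers (⟨a', ha'⟩ : ↥(cQ S)) := he ▸ hz hx' h
  refine ⟨i, ?_⟩
  have := congrArg (fun w : ↥(cQ S) => ((w : ↥S.C) : G)) hi
  have h2 : (a' : G) ^ i = (x' : G) := (map_zpow S.C.subtype a' i).symm.trans this
  rwa [hae'] at h2

theorem Q_not_comm : ¬ ∀ x ∈ S.Q, ∀ y ∈ S.Q, x * y = y * x := fun h => by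
  have hle : S.Q ≤ zpowers S.a := fun x hx => center_Q S hx (h x hx)
  have := card_dvd_of_le hle
  rw [Q_card, Nat.card_zpowers, S.ha] at this
  norm_num at this

theorem J_comm {x y : G} (hx : x ∈ S.J) (hy : y ∈ S.J) : x * y = y * x := by
  haveI := S.hJcomm
  exact congrArg Subtype.val (mul_comm' (⟨x, hx⟩ : ↥S.J) ⟨y, hy⟩)

theorem J_le_C : S.J ≤ S.C := S.hJC

theorem card_C : Nat.card ↥S.C = 648 := by
  have hsl : Nat.card SL3 = 24 := by
    rw [← Nat.card_congr (Equiv.ofBijective SL23Model77.enc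
      ⟨fun t t' => SL23Model77.enc_injective t t', SL23Model77.enc_surjective⟩)]
    simp
  have h := Subgroup.card_eq_card_quotient_mul_card_subgroup (cQ S)
  rw [show Nat.card (↥S.C ⧸ cQ S) = 24 from (Nat.card_congr S.e.toEquiv).trans hsl,
    show Nat.card (cQ S) = 27 from S.hRcard] at h
  simpa using h

theorem card_three {P : Subgroup G} (hP : P ≤ S.C) (h : IsPGroup 3 P) : Nat.card P ∣ 81 := by
  haveI : Fact (Nat.Prime 3) := ⟨Nat.prime_three⟩
  obtain ⟨n, hn⟩ := IsPGroup.iff_card.1 h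
  have hd := card_dvd_of_le hP
  rw [card_C, hn, show (648 : ℕ) = 8 * 81 by norm_num] at hd
  rw [hn]
  exact (Nat.Coprime.pow_left n (by norm_num : Nat.Coprime 3 8)).dvd_of_dvd_mul_left hd

theorem relQ : S.Q.relIndex S.J = 3 := by
  have h24 : (cQ S).index = 24 := by
    have h := (cQ S).card_mul_index
    rw [card_C, show Nat.card (cQ S) = 27 from S.hRcard] at h
    omega
  have h1 : S.Q.relIndex S.J ∣ 24 := by
    rw [← relIndex_subgroupOf (J_le_C S), Q_eq, subgroupOf, comap_map_eq_self_of_injective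
      S.C.subtype_injective, ← h24]
    exact relIndex_dvd_index_of_normal _ _
  have h2 : S.Q.relIndex S.J ∣ 27 := S.hJcard ▸ relIndex_dvd_card _ _
  have h3 : S.Q.relIndex S.J ∣ 3 := by simpa using Nat.dvd_gcd h1 h2
  rcases (Nat.dvd_prime Nat.prime_three).1 h3 with h | h
  · exfalso
    have he : S.J = S.Q := eq_of_le_of_card_ge (relIndex_eq_one.1 h) (by rw [Q_card, S.hJcard])
    exact Q_not_comm S fun x hx y hy => J_comm S (he ▸ hx) (he ▸ hy)
  · exact h

theorem card_JQ : Nat.card ↥(S.J ⊓ S.Q) = 9 := by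
  have h := relIndex_mul_relIndex ⊥ (S.J ⊓ S.Q) S.J bot_le inf_le_left
  rw [relIndex_bot_left, relIndex_bot_left, inf_relIndex_left, relQ, S.hJcard] at h
  omega

theorem a_mem_J : S.a ∈ S.J := by
  by_contra hJ
  have he := sup_zpowers_eq (inf_le_right : S.J ⊓ S.Q ≤ S.Q) (by rw [Q_card, card_JQ])
    (a_mem_Q S) (fun h => hJ h.1)
  refine Q_not_comm S fun x hx y hy => ?_
  rw [← he] at hx hy
  exact comm_of_sup (fun a ha b hb => J_comm S (mem_inf.1 ha).1 (mem_inf.1 hb).1)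
    (fun a ha => (mem_C S).1 (J_le_C S (mem_inf.1 ha).1)) x hx y hy

/-- The Sylow subgroup. -/
def S0 : Subgroup G := S.J ⊔ S.Q

theorem S0_le : S0 S ≤ S.C := sup_le (J_le_C S) (Q_le_C S)

theorem Q_le_norm {X : Subgroup G} (hX : X ≤ S.C) : X ≤ normalizer (S.Q : Set G) := by
  intro x hx
  rw [mem_normalizer_iff]
  refine fun y => ⟨fun hy => conj_Q S (hX hx) hy, fun hy => ?_⟩
  simpa [mul_assoc] using conj_Q S (S.C.inv_mem (hX hx)) hy

theorem card_S0 : Nat.card ↥(S0 S) = 81 := by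
  have h1 : S.Q.relIndex (S0 S) = 3 := by
    rw [S0, ← relIndex_subgroupOf (sup_le (J_le_C S) (Q_le_C S)),
      Subgroup.subgroupOf_sup (J_le_C S) (Q_le_C S)]
    have hc : S.Q.subgroupOf S.C = cQ S := by
      rw [Q_eq, subgroupOf, comap_map_eq_self_of_injective S.C.subtype_injective]
    haveI : (S.Q.subgroupOf S.C).Normal := hc ▸ cQ_normal S
    rw [relIndex_sup_right, relIndex_subgroupOf (J_le_C S), relQ]
  have h := relIndex_mul_relIndex ⊥ S.Q (S0 S) bot_le le_sup_right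
  rw [relIndex_bot_left, relIndex_bot_left, Q_card, h1] at h
  omega

theorem S0_pgroup : IsPGroup 3 (S0 S) := IsPGroup.of_card (n := 4) (by rw [card_S0]; norm_num)

theorem J_le_S0 : S.J ≤ S0 S := le_sup_left

theorem Q_le_S0 : S.Q ≤ S0 S := le_sup_right

open SL23Model77 in
theorem negOne : (w0 ^ 2 : SL3) ≠ 1 ∧ (w0 ^ 2 : SL3) * w0 ^ 2 = 1 ∧
    (∀ s : SL3, w0 ^ 2 * s = s * w0 ^ 2) ∧ ∀ s : SL3, s * s = 1 → s = 1 ∨ s = w0 ^ 2 := by
  refine ⟨?_, ?_, ?_, ?_⟩ <;> decide +kernel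

theorem pr_inv {t : G} (ht : t ∈ S.C) (h2 : t * t = 1) (h1 : t ≠ 1) :
    pr S ⟨t, ht⟩ = SL23Model77.w0 ^ 2 := by
  refine (negOne.2.2.2 _ (by rw [← map_mul]; exact (map_eq_one_iff_of (pr S) (Subtype.ext h2)))).resolve_left
    fun h => h1 ?_
  exact cubed_sq (Q_exp S ((pr_eq_one S).1 h)) h2
where
  map_eq_one_iff_of {A B : Type _} [Group A] [Group B] (f : A →* B) {x : A} (h : x = 1) :
      f x = 1 := by rw [h, map_one]

/-- No involution of `C` centralises the core. -/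
theorem no_invol {t : G} (ht : t ∈ S.C) (h2 : t * t = 1) (h1 : t ≠ 1)
    (hc : ∀ y ∈ S.Q, t * y = y * t) : False := by
  have htinv : t⁻¹ = t := inv_eq_of_mul_eq_one_left h2
  have key : ∀ g ∈ S.C, g * t = t * g := by
    intro g hg
    set s := g * t * g⁻¹ with hs
    have hsC : s ∈ S.C := S.C.mul_mem (S.C.mul_mem hg ht) (S.C.inv_mem hg)
    have hsc : ∀ y ∈ S.Q, s * y = y * s := by
      intro y hy
      have := hc _ (conj_Q S (S.C.inv_mem hg) hy)
      rw [inv_inv] at this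
      calc s * y = g * (t * (g⁻¹ * y * g)) * g⁻¹ := by simp [hs, mul_assoc]
        _ = g * (g⁻¹ * y * g * t) * g⁻¹ := by rw [this]
        _ = y * s := by simp [hs, mul_assoc]
    set w := t * s with hw
    have hwQ : w ∈ S.Q := by
      refine (pr_eq_one S (x := ⟨t, ht⟩ * (⟨g, hg⟩ * ⟨t, ht⟩ * ⟨g, hg⟩⁻¹))).1 ?_
      simp only [map_mul, map_inv, pr_inv S ht h2 h1]
      rw [← negOne.2.2.1 (pr S ⟨g, hg⟩), mul_inv_cancel_right, negOne.2.1]
    have hwz : w ∈ zpowers S.a := center_Q S hwQ fun y hy => by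
      rw [hw, mul_assoc, hsc y hy, ← mul_assoc, hc y hy, mul_assoc]
    have hts : t * w = w * t := by
      have hta : Commute t S.a := (mem_C S).1 ht
      obtain ⟨i, hi⟩ := hwz
      rw [← hi]
      exact (hta.zpow_right i).eq
    have hss : s * s = 1 := by
      simp only [hs, ← mul_assoc, inv_mul_cancel_right]
      rw [mul_assoc g t t, h2, mul_one, mul_inv_cancel]
    have hst : s = t * w := by rw [hw, ← mul_assoc, h2, one_mul]
    have hw2 : w * w = 1 := by
      rw [hst] at hss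
      calc w * w = (t * t) * (w * w) := by rw [h2, one_mul]
        _ = t * (t * w) * w := by simp [mul_assoc]
        _ = t * (w * t) * w := by rw [hts]
        _ = (t * w) * (t * w) := by simp [mul_assoc]
        _ = 1 := hss
    rw [cubed_sq (Q_exp S hwQ) hw2, mul_one, hs] at hst
    exact mul_inv_eq_iff_eq_mul.1 hst
  have hcard : Nat.card (zpowers t) = 2 := by
    rw [Nat.card_zpowers]
    exact orderOf_eq_prime (by rw [pow_two, h2]) h1
  have hK := S.hJsig (zpowers t) (by rw [hcard]; norm_num) fun j hj => by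
    rw [MonoidHom.map_zpowers]
    congr 1
    simp [key j (J_le_C S hj)]
  rw [hK, Subgroup.card_bot] at hcard
  norm_num at hcard

/-- The centraliser of the core in `C` lies in the core. -/
theorem cent_Q {y : G} (hy : y ∈ S.C) (hc : ∀ x ∈ S.Q, y * x = x * y) : y ∈ S.Q := by
  by_contra hQ
  let K : Subgroup ↥S.C := (centralizer (S.Q : Set G)).subgroupOf S.C
  haveI : K.Normal := ⟨fun n hn g => by
    simp only [K, mem_subgroupOf, mem_centralizer_iff] at hn ⊢
    intro x hx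
    have := hn _ (conj_Q S (S.C.inv_mem g.2) hx)
    rw [inv_inv] at this
    push_cast
    calc x * ((g : G) * n * (g : G)⁻¹) = g * ((g : G)⁻¹ * x * g * n) * (g : G)⁻¹ := by simp [mul_assoc]
      _ = g * ((n : G) * ((g : G)⁻¹ * x * g)) * (g : G)⁻¹ := by rw [this]
      _ = g * n * (g : G)⁻¹ * x := by simp [mul_assoc]⟩
  let N := K.map (pr S)
  haveI hN : N.Normal := Normal.map inferInstance _ (pr_surj S)
  set s := pr S ⟨y, hy⟩ with hs
  have hsN : s ∈ N := mem_map_of_mem _ (by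
    simp only [K, mem_subgroupOf, mem_centralizer_iff]; exact fun x hx => (hc x hx).symm)
  have hs1 : s ≠ 1 := fun h => hQ ((pr_eq_one S).1 h)
  have hcom : ∀ w : SL3, s * w * s⁻¹ * w⁻¹ ∈ N := fun w => by
    rw [mul_assoc, mul_assoc, ← mul_assoc w]
    exact N.mul_mem hsN (hN.conj_mem _ (N.inv_mem hsN) w)
  have hneg : SL23Model77.w0 ^ 2 ∈ N := by
    rcases SL23Model77.kernel_fact s hs1 with h | h | h | h | h
    · exact h ▸ hsN
    · exact h ▸ N.pow_mem hsN 2
    · exact h ▸ N.pow_mem hsN 3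
    · exact h ▸ N.pow_mem (hcom _) 2
    · exact h ▸ N.pow_mem (hcom _) 2
  obtain ⟨n, hn, hpn⟩ := mem_map.1 hneg
  simp only [K, mem_subgroupOf, mem_centralizer_iff] at hn
  have hn' : ∀ x ∈ S.Q, Commute (n : G) x := fun x hx => (hn x hx).symm
  have hnn : (n : G) * n ∈ zpowers S.a := by
    refine center_Q S ((pr_eq_one S (x := n * n)).1 ?_) fun x hx => ((hn' x hx).mul_left (hn' x hx)).eq
    rw [map_mul, hpn, negOne.2.1]
  have h6 : ((n : G) * n) ^ 3 = 1 := by
    obtain ⟨i, hi⟩ := hnn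
    rw [← hi, ← zpow_natCast, zpow_comm, zpow_natCast, a_cube, one_zpow]
  refine no_invol S (S.C.pow_mem n.2 3) ?_ ?_ fun x hx => ((hn' x hx).pow_left 3).eq
  · rw [← (Commute.refl (n : G)).mul_pow]; exact h6
  · intro h
    have := congrArg (pr S) (show n ^ 3 = 1 from Subtype.ext h)
    rw [map_pow, map_one, hpn, pow_succ, pow_two, negOne.2.1, one_mul] at this
    exact negOne.1 this

theorem cJ : centralizer (S.J : Set G) = S.J := by
  haveI : Fact (Nat.Prime 3) := ⟨Nat.prime_three⟩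
  haveI : Fact (Nat.Prime 2) := ⟨Nat.prime_two⟩
  set D := centralizer (S.J : Set G) with hD
  have hJD : S.J ≤ D := fun x hx y hy => J_comm S hy hx
  have hDC : D ≤ S.C := fun x hx => (mem_C S).2 (hx S.a (a_mem_J S)).symm
  have hdvd := card_dvd_of_le hDC
  rw [card_C] at hdvd
  have hodd : ¬ 2 ∣ Nat.card D := by
    intro h
    obtain ⟨t, ht⟩ := exists_prime_orderOf_dvd_card' 2 h
    have ht2 : (t : G) * t = 1 := by
      rw [← pow_two, ← ht, orderOf_coe t |>.symm]
      exact pow_orderOf_eq_one _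
    have ht1 : (t : G) ≠ 1 := fun h0 => by
      rw [show t = 1 from Subtype.ext h0, orderOf_one] at ht
      norm_num at ht
    refine no_invol S (hDC t.2) ht2 ht1 fun y hy => ?_
    set w := y⁻¹ * ((t : G) * y * (t : G)⁻¹) with hw
    have htC := hDC t.2
    have hwQ : w ∈ S.Q := S.Q.mul_mem (S.Q.inv_mem hy) (conj_Q S htC hy)
    have htv : ∀ x ∈ S.J, (t : G) * x = x * t := fun x hx => (t.2 x hx).symm
    have htinv : (t : G)⁻¹ = t := inv_eq_of_mul_eq_one_left ht2
    have hwJ : w ∈ S.J := by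
      by_contra hwJ
      have he := sup_zpowers_eq (inf_le_right : S.J ⊓ S.Q ≤ S.Q) (by rw [Q_card, card_JQ])
        hwQ (fun h => hwJ h.1)
      refine Q_not_comm S fun x hx z hz => ?_
      rw [← he] at hx hz
      refine comm_of_sup (fun a ha b hb => J_comm S (mem_inf.1 ha).1 (mem_inf.1 hb).1)
        (fun x hx => ?_) x hx z hz
      rw [mem_inf] at hx
      have hcz : y * x * y⁻¹ * x⁻¹ ∈ zpowers S.a := by
        refine center_Q S (S.Q.mul_mem (S.Q.mul_mem (S.Q.mul_mem hy hx.2) (S.Q.inv_mem hy))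
          (S.Q.inv_mem hx.2)) fun z hz => ?_
        exact comm_mem_center S hy hx.2 hz
      have h1 : (t : G) * (y * x * y⁻¹ * x⁻¹) * (t : G)⁻¹ = y * x * y⁻¹ * x⁻¹ := by
        obtain ⟨i, hi⟩ := hcz
        rw [← hi, mul_inv_eq_iff_eq_mul]
        exact ((show Commute (t : G) S.a from (mem_C S).1 htC).zpow_right i).eq
      have htx : (t : G) * x * (t : G)⁻¹ = x := by
        rw [htv x hx.1, mul_inv_cancel_right]
      set y' := (t : G) * y * (t : G)⁻¹ with hy'
      have h2 : y' * x * y'⁻¹ * x⁻¹ = y * x * y⁻¹ * x⁻¹ := by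
        have h3 : (t : G) * (y * x * y⁻¹ * x⁻¹) * (t : G)⁻¹ =
            y' * ((t : G) * x * (t : G)⁻¹) * y'⁻¹ * ((t : G) * x * (t : G)⁻¹)⁻¹ := by
          simp [hy', mul_assoc]
        rw [← h1, h3, htx]
      have h4 : y' * x * y'⁻¹ = y * x * y⁻¹ := mul_right_cancel h2
      calc x * w = y⁻¹ * (y * x * y⁻¹) * y' := by simp [hw, mul_assoc]
        _ = y⁻¹ * (y' * x * y'⁻¹) * y' := by rw [h4]
        _ = w * x := by simp [hw, mul_assoc]
    have hw2 : w * w = 1 := by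
      have h := htv w hwJ
      have h1 : (t : G) * w * (t : G)⁻¹ = w := by rw [h, mul_inv_cancel_right]
      have h2 : (t : G) * w * (t : G)⁻¹ = w⁻¹ := by
        simp only [hw, htinv, mul_inv_rev, inv_inv, mul_assoc]
        simp only [← mul_assoc (t : G) t, ht2, one_mul, mul_one]
      rw [h1] at h2
      exact mul_eq_one_iff_eq_inv.2 h2
    have hw1 := cubed_sq (Q_exp S hwQ) hw2
    rw [hw, inv_mul_eq_one] at hw1
    conv_rhs => rw [hw1]
    simp [mul_assoc]
  have hp : IsPGroup 3 D := by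
    refine IsPGroup.iff_card.2 ?_
    have h81 : Nat.card D ∣ 81 := by
      have hco : (Nat.card D).Coprime 8 :=
        Nat.Coprime.pow_right 3 ((Nat.prime_two.coprime_iff_not_dvd.2 hodd).symm)
      exact hco.dvd_of_dvd_mul_left (show Nat.card D ∣ 8 * 81 from hdvd)
    obtain ⟨k, -, hk⟩ := (Nat.dvd_prime_pow Nat.prime_three).1 (show Nat.card D ∣ 3 ^ 4 from h81)
    exact ⟨k, hk⟩
  refine (eq_of_le_of_card_ge hJD ?_).symm
  by_contra hlt
  rw [S.hJcard] at hlt
  have h81 : Nat.card D = 81 := by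
    obtain ⟨k, hk, hk'⟩ := (Nat.dvd_prime_pow Nat.prime_three).1
      (show Nat.card D ∣ 3 ^ 4 from card_three S hDC hp)
    rw [hk'] at hlt ⊢
    interval_cases k <;> first | rfl | exact absurd (by norm_num) hlt
  have hQp : IsPGroup 3 S.Q := IsPGroup.of_card (n := 3) (by rw [Q_card]; norm_num)
  have hsup : D ⊔ S.Q = D := by
    refine (eq_of_le_of_card_ge le_sup_left ?_).symm
    rw [h81]
    exact Nat.le_of_dvd (by norm_num)
      (card_three S (sup_le hDC (Q_le_C S)) (hp.to_sup_of_normal_right' hQp (Q_le_norm S hDC)))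
  have hQD : S.Q ≤ D := hsup ▸ le_sup_right
  have hle : S.J ⊓ S.Q ≤ zpowers S.a := fun x hx =>
    center_Q S hx.2 fun y hy => hQD hy x hx.1
  have := card_dvd_of_le hle
  rw [card_JQ, Nat.card_zpowers, S.ha] at this
  norm_num at this
where
  comm_mem_center (S : Setup G) {y x z : G} (hy : y ∈ S.Q) (hx : x ∈ S.Q) (hz : z ∈ S.Q) :
      y * x * y⁻¹ * x⁻¹ * z = z * (y * x * y⁻¹ * x⁻¹) := by
    obtain ⟨y', hy', rfl⟩ := hy
    obtain ⟨x', hx', rfl⟩ := hx
    obtain ⟨z', hz', rfl⟩ := hz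
    have h : ⁅(⟨y', hy'⟩ : ↥(cQ S)), ⟨x', hx'⟩⁆ ∈ center ↥(cQ S) := by
      have hcm : _root_.commutator ↥(cQ S) = center ↥(cQ S) := S.hR.1.2.2
      rw [← hcm, _root_.commutator_def]
      exact commutator_mem_commutator (mem_top _) (mem_top _)
    have := congrArg (fun w : ↥(cQ S) => ((w : ↥S.C) : G))
      (Subgroup.mem_center_iff.1 h ⟨z', hz'⟩)
    simp only [commutatorElement_def, coe_mul, coe_inv] at this
    exact this.symm

/-- The centre of the Sylow subgroup. -/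
theorem center_S0 {y : G} (h : S0 S ≤ centralizer ({y} : Set G)) :
    y ∈ zpowers S.a := by
  have hJ : y ∈ S.J := by
    rw [← cJ S]
    exact fun x hx => mem_centralizer_singleton_iff.1 (h (J_le_S0 S hx))
  have hc : ∀ x ∈ S.Q, y * x = x * y := fun x hx =>
    (mem_centralizer_singleton_iff.1 (h (Q_le_S0 S hx))).symm
  exact center_Q S (cent_Q S (J_le_C S hJ) hc) hc

theorem uniq {A : Subgroup G} (hA : A ≤ S0 S) (hcard : Nat.card A = 27)
    (hc : ∀ x ∈ A, ∀ y ∈ A, x * y = y * x) : A = S.J := by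
  by_contra hne
  obtain ⟨x, hx, hxJ⟩ : ∃ x ∈ A, x ∉ S.J := by
    by_contra h
    push Not at h
    exact hne (eq_of_le_of_card_ge h (by rw [S.hJcard, hcard]))
  have he := sup_zpowers_eq (J_le_S0 S) (by rw [card_S0, S.hJcard]) (hA hx) hxJ
  have hle : A ⊓ S.J ≤ zpowers S.a := fun y hy => center_S0 S (by
    rw [← he]
    exact sup_le (fun j hj => mem_centralizer_singleton_iff.2 (J_comm S hj hy.2))
      (zpowers_le.2 (mem_centralizer_singleton_iff.2 (hc x hx y hy.1))))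
  have h3 := Subgroup.card_le_of_le hle
  rw [Nat.card_zpowers, S.ha] at h3
  have hrJ : S.J.relIndex (S0 S) = 3 := by
    have h := relIndex_mul_relIndex ⊥ S.J (S0 S) bot_le (J_le_S0 S)
    rw [relIndex_bot_left, relIndex_bot_left, S.hJcard, card_S0] at h
    omega
  have hr : S.J.relIndex A ≤ 3 := hrJ ▸ relIndex_le_of_le_right hA (by rw [hrJ]; norm_num)
  have h := relIndex_mul_relIndex ⊥ (A ⊓ S.J) A bot_le inf_le_left
  rw [relIndex_bot_left, relIndex_bot_left, inf_relIndex_left, hcard] at h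
  nlinarith [Nat.mul_le_mul h3 hr]

theorem map_conj_card (g : G) (H : Subgroup G) :
    Nat.card (H.map (MulAut.conj g).toMonoidHom) = Nat.card H :=
  card_map_of_injective (MulAut.conj g).injective

theorem conj_J_comm (g : G) : ∀ x ∈ S.J.map (MulAut.conj g).toMonoidHom,
    ∀ y ∈ S.J.map (MulAut.conj g).toMonoidHom, x * y = y * x := by
  rintro _ ⟨x, hx, rfl⟩ _ ⟨y, hy, rfl⟩
  rw [← map_mul, ← map_mul, J_comm S hx hy]

/-- An element mapping `J` into the Sylow subgroup normalises `J`. -/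
theorem mem_norm {g : G} (h : S.J.map (MulAut.conj g).toMonoidHom ≤ S0 S) :
    g ∈ normalizer (S.J : Set G) := by
  have he := uniq S h (by rw [map_conj_card, S.hJcard]) (conj_J_comm S g)
  rw [mem_normalizer_iff]
  intro x
  conv_rhs => rw [← he]
  exact ⟨fun hx => ⟨x, hx, rfl⟩, fun ⟨y, hy, hyx⟩ => (MulAut.conj g).injective hyx ▸ hy⟩

theorem fusion {b : G} (hb : b ∈ S.J) (h : ∃ g : G, g * S.a * g⁻¹ = b) :
    ∃ n ∈ normalizer (S.J : Set G), n * S.a * n⁻¹ = b := by
  haveI : Fact (Nat.Prime 3) := ⟨Nat.prime_three⟩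
  obtain ⟨g, hg⟩ := h
  set A := S.J.map (MulAut.conj g⁻¹).toMonoidHom with hA
  have hAC : A ≤ S.C := by
    rintro _ ⟨x, hx, rfl⟩
    rw [mem_C]
    have := J_comm S hx hb
    rw [← hg] at this
    calc (MulAut.conj g⁻¹) x * S.a = g⁻¹ * (x * (g * S.a * g⁻¹)) * g := by simp [mul_assoc]
      _ = g⁻¹ * (g * S.a * g⁻¹ * x) * g := by rw [this]
      _ = S.a * (MulAut.conj g⁻¹) x := by simp [mul_assoc]
  have hS : IsPGroup 3 ((S0 S).subgroupOf S.C) := (S0_pgroup S).comap_subtype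
  have hidx : ¬ 3 ∣ ((S0 S).subgroupOf S.C).index := by
    have h := ((S0 S).subgroupOf S.C).card_mul_index
    rw [Nat.card_congr (subgroupOfEquivOfLe (S0_le S)).toEquiv, card_S0, card_C] at h
    omega
  have hAp : IsPGroup 3 (A.subgroupOf S.C) :=
    (IsPGroup.of_card (n := 3) (by rw [map_conj_card, S.hJcard]; norm_num : Nat.card A = 3 ^ 3)).comap_subtype
  obtain ⟨P, hP⟩ := hAp.exists_le_sylow
  obtain ⟨k, hk⟩ := MulAction.exists_smul_eq ↥S.C P (hS.toSylow hidx)
  have hmem : (k : G) * g⁻¹ ∈ normalizer (S.J : Set G) := by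
    refine mem_norm S ?_
    rintro _ ⟨x, hx, rfl⟩
    have hx' : (⟨g⁻¹ * x * g⁻¹⁻¹, hAC ⟨x, hx, rfl⟩⟩ : ↥S.C) ∈ (P : Subgroup ↥S.C) :=
      hP (mem_subgroupOf.2 ⟨x, hx, rfl⟩)
    have := smul_mem_pointwise_smul _ (MulAut.conj k) _ hx'
    have hkP : MulAut.conj k • (P : Subgroup ↥S.C) = (S0 S).subgroupOf S.C := by
      rw [← IsPGroup.toSylow_coe hS hidx, ← hk]
      rfl
    rw [hkP, mem_subgroupOf] at this
    simpa [mul_assoc] using this
  refine ⟨((k : G) * g⁻¹)⁻¹, (normalizer _).inv_mem hmem, ?_⟩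
  have hka : (k : G)⁻¹ * S.a = S.a * (k : G)⁻¹ := (mem_C S).1 (S.C.inv_mem k.2)
  rw [mul_inv_rev, inv_inv, mul_inv_rev, inv_inv]
  calc g * (k : G)⁻¹ * S.a * ((k : G) * g⁻¹) = g * ((k : G)⁻¹ * S.a) * k * g⁻¹ := by
        simp [mul_assoc]
    _ = g * S.a * g⁻¹ := by rw [hka]; simp [mul_assoc]
    _ = b := hg

include S in
theorem sylow : ¬ 3 ^ 5 ∣ Nat.card G := by
  intro h
  haveI : Fact (Nat.Prime 3) := ⟨Nat.prime_three⟩
  obtain ⟨P, hP, hle⟩ := Sylow.exists_subgroup_card_pow_prime_le 3 h (S0 S)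
    (show Nat.card ↥(S0 S) = 3 ^ 4 by rw [card_S0]; norm_num) (by norm_num)
  have hn : ((S0 S).subgroupOf P).Normal := by
    refine normal_of_index_eq_minFac_card ?_
    have h1 := ((S0 S).subgroupOf P).card_mul_index
    rw [Nat.card_congr (subgroupOfEquivOfLe hle).toEquiv, card_S0, hP] at h1
    rw [hP, show ((S0 S).subgroupOf P).index = 3 by norm_num at h1; omega]
    norm_num
  have hnm : P ≤ normalizer (S0 S : Set G) := (normal_subgroupOf_iff_le_normalizer hle).1 hn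
  have hPC : P ≤ S.C := by
    intro g hg
    have hga : g * S.a * g⁻¹ ∈ zpowers S.a := by
      refine center_S0 S fun x hx => mem_centralizer_singleton_iff.2 ?_
      have hx' : g⁻¹ * x * g⁻¹⁻¹ ∈ S0 S :=
        (mem_normalizer_iff.1 (P.inv_mem hg |> fun h => hnm h) x).1 hx
      have hc := (mem_C S).1 (S0_le S hx')
      calc x * (g * S.a * g⁻¹) = g * (g⁻¹ * x * g⁻¹⁻¹ * S.a) * g⁻¹ := by simp [mul_assoc]
        _ = g * (S.a * (g⁻¹ * x * g⁻¹⁻¹)) * g⁻¹ := by rw [hc]
        _ = g * S.a * g⁻¹ * x := by simp [mul_assoc]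
    have hg243 : g ^ 243 = 1 := by
      have := pow_card_eq_one' (x := (⟨g, hg⟩ : ↥P))
      rw [hP] at this
      simpa using congrArg Subtype.val this
    rcases mem_zpowers_three S.ha hga with e | e | e
    · exact absurd (conj_eq_one_iff.1 e) (a_ne S)
    · exact (mem_C S).2 (mul_inv_eq_iff_eq_mul.1 e)
    · have h2 : g * g ∈ S.C := by
        rw [mem_C]
        have e' : g * S.a⁻¹ * g⁻¹ = S.a := by rw [← conj_inv, e, inv_inv]
        have e2 : g * g * S.a * (g * g)⁻¹ = S.a := by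
          calc g * g * S.a * (g * g)⁻¹ = g * (g * S.a * g⁻¹) * g⁻¹ := by simp [mul_assoc]
            _ = S.a := by rw [e, e']
        exact mul_inv_eq_iff_eq_mul.1 e2
      have h3 : (g * g) ^ 122 = g := by
        rw [← pow_two, ← pow_mul, show 2 * 122 = 243 + 1 by norm_num, pow_add, hg243, one_mul,
          pow_one]
      exact h3 ▸ S.C.pow_mem h2 122
  have := card_dvd_of_le hPC
  rw [hP, card_C] at this
  norm_num at this

end Cfsg.Agent.Sp62Three31Auto
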