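import Cfsg.Agent.Lib.Sp62Three31AutoAct

/-!
S3342: the orbit of the distinguished vector is a frame of four lines, with or without signs.
-/

set_option autoImplicit false
set_option Elab.async false
set_option maxRecDepth 100000

namespace Cfsg.Agent.Sp62Three31Auto

open Subgroup Sp62Three31
open scoped commutatorElement Pointwise

universe u

variable {G : Type u} [Group G]

theorem neg_fix : ∀ v : V, -v = v → v = 0 := by decide +kernel

theorem full_pair : (1, 2, 0) ≠ (0 : V) ∧ -((1, 2, 0) : V) ∈ cl ((1, 2, 0) : V) ∧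
    ∀ v : V, v ∈ cl v ∧ - -v = v := by decide +kernel

theorem six_fix : ∀ x : Bool × Fin 3, Coord.six x (1, 2, 0) = (1, 2, 0) →
    ∀ v ∈ [u0, u1, u2], Coord.six x v = v := by decide +kernel

/-- The pairs of independent vectors of the plane. -/
def prs : Finset (V × V) := (pl ×ˢ pl).filter fun p => p.2 ≠ p.1 ∧ p.2 ≠ -p.1

theorem prs_facts : prs.card = 48 ∧ (((1, 2, 0) : V), -one3) ∈ prs ∧ one3 ∈ pl ∧
    ((1, 2, 0) : V) ∈ pl ∧ ((1, 2, 0) : V) ≠ one3 ∧ ((1, 2, 0) : V) ≠ -one3 := by decide +kernel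

theorem plane_span : ∀ w : V, ∃ l x y : ZMod 3,
    w = l.val • u0 + (x.val • one3 + y.val • ((1, 2, 0) : V)) := by decide +kernel

theorem plane_square : ∀ w : V, ∀ l x y : ZMod 3,
    w = l.val • u0 + (x.val • one3 + y.val • ((1, 2, 0) : V)) → ∀ z : V,
    z = l.val • w + (x.val • ((1, 2, 0) : V) + y.val • (-one3)) →
    z + (sig z + sig (sig z)) ≠ -one3 := by decide +kernel

theorem two_pow_card : (Finset.univ.erase (0 : V)).card = 26 := by decide +kernel

theorem ttP_fix : Fintype.card {v : V // tt v = v} = 9 ∧ tt u0 = u0 ∧ tt one3 = one3 ∧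
    u0 ≠ one3 ∧ u0 ≠ -one3 ∧ u0 ≠ 0 ∧ one3 ≠ (0 : V) ∧ one3 ≠ -one3 := by decide +kernel

namespace Coord

variable [Finite G] {S : Setup G} (c : Coord S)

theorem other (hW : ¬ S.WeaklyClosed) : ∃ v ∈ c.om, v ≠ one3 ∧ v ≠ -one3 := by
  by_contra h
  push Not at h
  refine hW fun g hg => ?_
  have key : ∀ g : NJ S, ∀ x ∈ zpowers S.a, (g : G) * x * (g : G)⁻¹ ∈ zpowers S.a := by
    intro g x hx
    obtain ⟨i, rfl⟩ := hx
    have hi : (g : G) * S.a ^ i * (g : G)⁻¹ = ((g : G) * S.a * (g : G)⁻¹) ^ i :=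
      (conj_zpow (a := (g : G)) (b := S.a)).symm
    rw [hi]
    refine (zpowers S.a).zpow_mem ?_ i
    rw [← c.el_one, ← c.el_act]
    by_cases h1 : c.act g one3 = one3
    · rw [h1]; exact mem_zpowers _
    · rw [h _ (c.mem_om.2 ⟨g, rfl⟩) h1, c.el_neg]
      exact (zpowers _).inv_mem (mem_zpowers _)
  rw [Subgroup.mem_normalizer_iff]
  refine fun x => ⟨fun hx => key ⟨g, hg⟩ x hx, fun hx => ?_⟩
  simpa [mul_assoc] using key ⟨g, hg⟩⁻¹ _ hx

theorem inverted_iff : S.Inverted ↔ -one3 ∈ c.om := by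
  constructor
  · intro h
    obtain ⟨n, hn, hna⟩ := fusion S (S.J.inv_mem (a_mem_J S)) h
    refine c.mem_om.2 ⟨⟨n, hn⟩, c.el_inj ?_⟩
    rw [c.el_act, c.el_neg, c.el_one]
    exact hna
  · intro h
    obtain ⟨g, hg⟩ := c.mem_om.1 h
    refine ⟨g, ?_⟩
    rw [← c.el_one, ← c.el_act, hg, c.el_neg]

theorem neg_notMem (hI : ¬ S.Inverted) {v : V} (hv : v ∈ c.om) : -v ∉ c.om := by
  intro h
  refine hI (c.inverted_iff.2 ?_)
  obtain ⟨g, rfl⟩ := c.mem_om.1 hv
  have h1 := c.act_mem_om g⁻¹ h
  rwa [act_neg, ← Equiv.Perm.mul_apply, ← map_mul, inv_mul_cancel, map_one,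
    Equiv.Perm.one_apply] at h1

theorem neg_mem (hI : S.Inverted) {v : V} (hv : v ∈ c.om) : -v ∈ c.om := by
  obtain ⟨g, rfl⟩ := c.mem_om.1 hv
  rw [← act_neg]
  exact c.act_mem_om g (c.inverted_iff.1 hI)

theorem two_le (hW : ¬ S.WeaklyClosed) : 2 ≤ c.om.card := by
  obtain ⟨v, hv, hv1, -⟩ := c.other hW
  exact Finset.one_lt_card.2 ⟨v, hv, one3, c.one_mem_om, hv1⟩

theorem om_subset : c.om ⊆ Finset.univ.erase 0 := fun v hv =>
  Finset.mem_erase.2 ⟨fun h => c.zero_notMem_om (h ▸ hv), Finset.mem_univ v⟩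

theorem card_le : c.om.card ≤ 26 := two_pow_card ▸ Finset.card_le_card c.om_subset

theorem not_dvd_large {p : ℕ} (hp : p.Prime) (h2 : p ≠ 2) (h13 : p ≠ 13) : ¬ p ∣ c.om.card :=
  fun h => (c.prime_dvd hp h).elim h2 h13

theorem bad_primes : ¬ 3 ∣ c.om.card ∧ ¬ 5 ∣ c.om.card ∧ ¬ 7 ∣ c.om.card ∧ ¬ 11 ∣ c.om.card ∧
    ¬ 17 ∣ c.om.card ∧ ¬ 23 ∣ c.om.card := by
  refine ⟨?_, ?_, ?_, ?_, ?_, ?_⟩ <;>
    exact c.not_dvd_large (by norm_num) (by norm_num) (by norm_num)

theorem mod_one (hI : ¬ S.Inverted) : c.om.card % 3 = 1 := by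
  have h := c.card_mod
  rw [show (c.om.filter fun v => v = one3 ∨ v = -one3) = {one3} from ?_, Finset.card_singleton] at h
  · exact h.symm
  · ext v
    simp only [Finset.mem_filter, Finset.mem_singleton]
    refine ⟨fun ⟨hv, h⟩ => h.resolve_right fun h' => ?_, fun h => ⟨h ▸ c.one_mem_om, Or.inl h⟩⟩
    exact hI (c.inverted_iff.2 (h' ▸ hv))

theorem mod_two (hI : S.Inverted) : c.om.card % 3 = 2 := by
  have h := c.card_mod
  rw [show (c.om.filter fun v => v = one3 ∨ v = -one3) = {one3, -one3} from ?_,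
    Finset.card_pair ttP_fix.2.2.2.2.2.2.2] at h
  · exact h.symm
  · ext v
    simp only [Finset.mem_filter, Finset.mem_insert, Finset.mem_singleton]
    refine ⟨fun h => h.2, fun h => ⟨?_, h⟩⟩
    rcases h with rfl | rfl
    exacts [c.one_mem_om, c.inverted_iff.1 hI]

theorem four (hI : ¬ S.Inverted) (hW : ¬ S.WeaklyClosed) : c.om.card = 4 := by
  have h1 := c.mod_one hI
  have h2 := c.two_le hW
  obtain ⟨b3, b5, b7, b11, b17, b23⟩ := c.bad_primes
  set U := c.om ∪ c.om.image Neg.neg with hU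
  have hd : Disjoint c.om (c.om.image Neg.neg) := by
    rw [Finset.disjoint_left]
    intro v hv h
    obtain ⟨w, hw, rfl⟩ := Finset.mem_image.1 h
    exact c.neg_notMem hI hw hv
  have hUc : U.card = c.om.card + c.om.card := by
    rw [hU, Finset.card_union_of_disjoint hd,
      Finset.card_image_of_injective _ neg_injective]
  have hUs : U ⊆ Finset.univ.erase 0 := Finset.union_subset c.om_subset fun v hv => by
    obtain ⟨w, hw, rfl⟩ := Finset.mem_image.1 hv
    exact Finset.mem_erase.2 ⟨fun h => c.zero_notMem_om (by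
      rw [← neg_eq_zero.1 h]; exact hw), Finset.mem_univ _⟩
  have hle := Finset.card_le_card hUs
  rw [two_pow_card, hUc] at hle
  have h13 : c.om.card ≠ 13 := by
    intro h13
    have hUe : U = Finset.univ.erase 0 :=
      Finset.eq_of_subset_of_card_le hUs (by rw [two_pow_card, hUc, h13])
    have hmem : ((1, 2, 0) : V) ∈ U := by
      rw [hUe]; exact Finset.mem_erase.2 ⟨full_pair.1, Finset.mem_univ _⟩
    rcases Finset.mem_union.1 hmem with h | h
    · exact c.neg_notMem hI h (c.cl_subset_om h full_pair.2.1)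
    · obtain ⟨w, hw, hwe⟩ := Finset.mem_image.1 h
      have hw' : w = -((1, 2, 0) : V) := by rw [← hwe, neg_neg]
      have h' := c.cl_subset_om hw (show ((1, 2, 0) : V) ∈ cl w by rw [hw']; decide +kernel)
      exact c.neg_notMem hI h' (by rw [← hw']; exact hw)
  have hle' : c.om.card ≤ 13 := by omega
  interval_cases hn : c.om.card <;> omega

theorem no26 (hI : S.Inverted) : c.om.card ≠ 26 := by
  intro h26
  haveI : Fact (Nat.Prime 13) := ⟨by norm_num⟩
  set A := c.act.range with hA
  have hA156 : Nat.card A = 156 := by rw [hA, c.card_range, h26]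
  have hall : ∀ w : V, w ≠ 0 → w ∈ c.om := fun w hw => by
    rw [Finset.eq_of_subset_of_card_le c.om_subset (by rw [two_pow_card, h26])]
    exact Finset.mem_erase.2 ⟨hw, Finset.mem_univ w⟩
  obtain ⟨P⟩ : Nonempty (Sylow 13 A) := inferInstance
  have hPc : Nat.card P = 13 := by
    rw [Sylow.card_eq_multiplicity, hA156, show (156 : ℕ) = 13 ^ 1 * 12 by norm_num,
      Nat.factorization_def _ (by norm_num : Nat.Prime 13), padicValNat.mul (by norm_num) (by norm_num),
      padicValNat.prime_pow, padicValNat.eq_zero_of_not_dvd (by norm_num)]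
    norm_num
  have hn1 : Nat.card (Sylow 13 A) = 1 := by
    have hd := P.card_dvd_index
    have hm := card_sylow_modEq_one 13 (G := A)
    have hi : (P : Subgroup A).index = 12 := by
      have h := (P : Subgroup A).card_mul_index
      rw [hPc, hA156] at h
      omega
    rw [hi] at hd
    have hle := Nat.le_of_dvd (by norm_num) hd
    rw [Nat.ModEq] at hm
    omega
  haveI : Subsingleton (Sylow 13 A) := (Nat.card_eq_one_iff_unique.1 hn1).1
  haveI hnP : (P : Subgroup A).Normal := P.normal_of_subsingleton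
  obtain ⟨x, hx⟩ := exists_prime_orderOf_dvd_card' (G := (P : Subgroup A)) 13 (by rw [hPc])
  rw [← Subgroup.orderOf_coe] at hx
  have hz : zpowers (x : A) = (P : Subgroup A) :=
    eq_of_le_of_card_ge (zpowers_le.2 x.2) (by rw [hPc, Nat.card_zpowers, hx])
  set y : A := (x : A) with hy
  have hfree : ∀ (w : V), w ≠ 0 → ∀ m : ℤ, (y ^ m : A).1 w = w → (13 : ℤ) ∣ m := by
    intro w hw m hm
    by_contra hnd
    set z : A := y ^ m with hzdef
    have hz13 : orderOf z = 13 := by
      refine orderOf_eq_prime ?_ fun h1 => hnd ?_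
      · rw [hzdef, ← zpow_natCast, ← zpow_mul, mul_comm, zpow_mul, zpow_natCast, ← hx,
          pow_orderOf_eq_one, one_zpow]
      · rw [← show ((orderOf y : ℕ) : ℤ) = 13 by rw [hx]; rfl]
        exact orderOf_dvd_iff_zpow_eq_one.2 h1
    have hzs : z ∈ MulAction.stabilizer A w := hm
    have hst : Nat.card (MulAction.stabilizer A w) = 6 := by
      have hor : MulAction.orbit A w = (c.om : Set V) := by
        ext v
        rw [Finset.mem_coe]
        constructor
        · rintro ⟨⟨_, g, rfl⟩, rfl⟩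
          exact c.act_mem_om g (hall w hw)
        · intro hv
          obtain ⟨g, hg⟩ := c.mem_om.1 (hall w hw)
          obtain ⟨g', hg'⟩ := c.mem_om.1 hv
          refine ⟨⟨_, g' * g⁻¹, rfl⟩, ?_⟩
          show c.act (g' * g⁻¹) w = v
          rw [map_mul, Equiv.Perm.mul_apply, ← hg, ← Equiv.Perm.mul_apply (c.act g⁻¹), ← map_mul,
            inv_mul_cancel, map_one, Equiv.Perm.one_apply, hg']
      have h := (MulAction.stabilizer A w).card_mul_index
      rw [MulAction.index_stabilizer, hor, Set.ncard_coe_finset, h26, hA156] at h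
      omega
    have hd := (MulAction.stabilizer A w).orderOf_dvd_natCard hzs
    rw [hst, hz13] at hd
    norm_num at hd
  set T : A := ⟨c.act ⟨c.t, c.t_norm⟩, _, rfl⟩ with hT
  have hTa : ∀ v, T.1 v = tt v := fun v => congrFun (congrArg DFunLike.coe c.act_t) v
  have hTT : T * T = 1 := Subtype.ext (Equiv.ext fun v => by
    show T.1 (T.1 v) = v
    rw [hTa, hTa]; rfl)
  obtain ⟨k, hk⟩ : T * y * T⁻¹ ∈ zpowers y := hz ▸ hnP.conj_mem _ x.2 T
  have hkm : ∀ m : ℤ, T * y ^ m * T⁻¹ = y ^ (k * m) := fun m => by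
    rw [← conj_zpow, ← hk, ← zpow_mul]
  have hk2 : (13 : ℤ) ∣ k * k - 1 := by
    rw [← show ((orderOf y : ℕ) : ℤ) = 13 by rw [hx]; rfl, orderOf_dvd_iff_zpow_eq_one, zpow_sub,
      zpow_one, mul_inv_eq_one]
    have h := hkm k
    rw [show y ^ k = T * y * T⁻¹ from hk, show T * (T * y * T⁻¹) * T⁻¹ = (T * T) * y * (T * T)⁻¹ by
      simp [mul_assoc], hTT, inv_one, one_mul, mul_one] at h
    exact h.symm
  have hTfix : ∀ w, tt w = w → ∀ m : ℤ, tt ((y ^ m : A).1 w) = (y ^ (k * m) : A).1 w := by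
    intro w hw m
    rw [← hkm m, ← hTa]
    show T.1 ((y ^ m : A).1 w) = T.1 ((y ^ m : A).1 ((T⁻¹).1 w))
    rw [inv_eq_of_mul_eq_one_left hTT, hTa w, hw]
  have hcancel : ∀ w, w ≠ 0 → ∀ a b : ℤ, (y ^ a : A).1 w = (y ^ b : A).1 w → (13 : ℤ) ∣ a - b := by
    intro w hw a b h
    refine hfree w hw _ ?_
    rw [sub_eq_add_neg, add_comm, zpow_add, Subgroup.coe_mul, Equiv.Perm.mul_apply, h,
      ← Equiv.Perm.mul_apply, ← Subgroup.coe_mul, ← zpow_add, neg_add_cancel, zpow_zero,
      Subgroup.coe_one, Equiv.Perm.one_apply]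
  obtain ⟨-, htu, hto, hu1, hu2, hu0, ho0, honeg⟩ := ttP_fix
  have hk' : (13 : ℤ) ∣ (k - 1) * (k + 1) := by
    rwa [show (k - 1) * (k + 1) = k * k - 1 by ring]
  rcases (show Prime (13 : ℤ) by
      exact Int.prime_iff_natAbs_prime.2 (by norm_num)).dvd_mul.1 hk' with hk1 | hk1
  · have hinj : Function.Injective fun i : Fin 13 =>
        (⟨(y ^ (i.val : ℤ) : A).1 one3, by
          rw [hTfix _ hto]
          obtain ⟨d, hd⟩ := hk1
          have hy13 : y ^ (13 : ℤ) = 1 := by
            rw [show (13 : ℤ) = ((13 : ℕ) : ℤ) from rfl, zpow_natCast, ← hx]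
            exact pow_orderOf_eq_one y
          rw [show k * (i.val : ℤ) = 13 * (d * i.val) + i.val by rw [← mul_assoc, ← hd]; ring,
            zpow_add, zpow_mul, hy13, one_zpow, one_mul]⟩ : {v : V // tt v = v}) := by
      intro i j h
      have := hcancel one3 ho0 _ _ (congrArg Subtype.val h)
      exact Fin.ext (by omega)
    have := Fintype.card_le_of_injective _ hinj
    rw [ttP_fix.1, Fintype.card_fin] at this
    omega
  · let f : Fin 13 × Bool → {v : V // v ≠ 0} := fun p =>
      ⟨if p.2 then -(y ^ (p.1.val : ℤ) : A).1 one3 else (y ^ (p.1.val : ℤ) : A).1 one3, by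
        obtain ⟨g, hg⟩ := (y ^ (p.1.val : ℤ) : A).2
        have h0 : (y ^ (p.1.val : ℤ) : A).1 one3 ≠ 0 := by
          rw [← hg]
          exact fun h => ho0 ((c.act g).injective (h.trans (c.act_zero g).symm))
        cases p.2 <;> simpa using h0⟩
    have hneg : ∀ (a : ℤ) (w : V), (y ^ a : A).1 (-w) = -(y ^ a : A).1 w := fun a w => by
      obtain ⟨g, hg⟩ := (y ^ a : A).2
      rw [← hg, act_neg]
    have hno : ∀ a b : ℤ, (y ^ a : A).1 one3 ≠ -(y ^ b : A).1 one3 := by
      intro a b h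
      have h1 : (y ^ (a - b) : A).1 one3 = -one3 := by
        rw [sub_eq_add_neg, add_comm, zpow_add, Subgroup.coe_mul, Equiv.Perm.mul_apply, h, hneg,
          ← Equiv.Perm.mul_apply, ← Subgroup.coe_mul, ← zpow_add, neg_add_cancel, zpow_zero,
          Subgroup.coe_one, Equiv.Perm.one_apply]
      have h2 : (y ^ (a - b + (a - b)) : A).1 one3 = one3 := by
        rw [zpow_add, Subgroup.coe_mul, Equiv.Perm.mul_apply, h1, hneg, h1, neg_neg]
      obtain ⟨d, hd⟩ : (13 : ℤ) ∣ a - b := by
        have := hfree _ ho0 _ h2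
        omega
      have h3 : (y ^ (a - b) : A) = 1 := orderOf_dvd_iff_zpow_eq_one.1 ⟨d, by rw [hx, hd]; norm_num⟩
      rw [h3, Subgroup.coe_one, Equiv.Perm.one_apply] at h1
      exact honeg h1
    have hinj : Function.Injective f := by
      rintro ⟨i, bi⟩ ⟨j, bj⟩ h
      have h' := congrArg Subtype.val h
      cases bi <;> cases bj <;> simp only [f, Bool.false_eq_true, if_false, if_true] at h'
      · have := hcancel one3 ho0 _ _ h'
        simp only [Prod.mk.injEq, and_true]
        exact Fin.ext (by omega)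
      · exact absurd h' (hno _ _)
      · exact absurd h'.symm (hno _ _)
      · have := hcancel one3 ho0 _ _ (neg_injective h')
        simp only [Prod.mk.injEq, and_true]
        exact Fin.ext (by omega)
    have hb := (Fintype.bijective_iff_injective_and_card f).2 ⟨hinj, by simp⟩
    obtain ⟨⟨i, b⟩, hib⟩ := hb.2 ⟨u0, hu0⟩
    have h' : (if b then -(y ^ (i.val : ℤ) : A).1 one3 else (y ^ (i.val : ℤ) : A).1 one3) = u0 :=
      congrArg Subtype.val hib
    have htneg : ∀ v : V, tt (-v) = -tt v := fun v => rfl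
    have hfx : tt ((y ^ (i.val : ℤ) : A).1 one3) = (y ^ (i.val : ℤ) : A).1 one3 := by
      cases b
      · simp only [Bool.false_eq_true, if_false] at h'
        rw [h', htu]
      · simp only [if_true] at h'
        have h'' : (y ^ (i.val : ℤ) : A).1 one3 = -u0 := by rw [← h', neg_neg]
        rw [h'', htneg, htu]
    rw [hTfix _ hto] at hfx
    have h13 := hcancel one3 ho0 _ _ hfx
    obtain ⟨d, hd⟩ := hk1
    have hdm : (k + 1) * (i.val : ℤ) = 13 * (d * i.val) := by rw [hd]; ring
    have hexp : k * (i.val : ℤ) - i.val = 13 * (d * i.val) - 2 * i.val := by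
      rw [← hdm]; ring
    rw [hexp] at h13
    have hi0 : i.val = 0 := by
      have := i.isLt
      omega
    rw [hi0, Nat.cast_zero, zpow_zero, Subgroup.coe_one, Equiv.Perm.one_apply] at h'
    cases b
    · exact hu1 h'.symm
    · exact hu2 h'.symm

theorem eight (hI : S.Inverted) (hW : ¬ S.WeaklyClosed) : c.om.card = 8 := by
  have h1 := c.mod_two hI
  have h2 := c.two_le hW
  have h3 := c.card_le
  have h4 := c.no26 hI
  have h5 : c.om.card ≠ 2 := by
    intro h5
    obtain ⟨v, hv, hv1, hv2⟩ := c.other hW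
    have hs : ({v, one3, -one3} : Finset V) ⊆ c.om := by
      intro w hw
      simp only [Finset.mem_insert, Finset.mem_singleton] at hw
      rcases hw with rfl | rfl | rfl
      exacts [hv, c.one_mem_om, c.inverted_iff.1 hI]
    have := Finset.card_le_card hs
    rw [Finset.card_insert_of_notMem (by simp [hv1, hv2]),
      Finset.card_pair ttP_fix.2.2.2.2.2.2.2, h5] at this
    omega
  obtain ⟨b3, b5, b7, b11, b17, b23⟩ := c.bad_primes
  interval_cases hn : c.om.card <;> omega

theorem shift_om (k : ZMod 3) : (c.shift k).om = c.om.image (sh (-k)) := by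
  have hact : ∀ (g : NJ S) (v : V), (c.shift k).act g v = sh (-k) (c.act g (sh k v)) := by
    intro g v
    refine (c.shift k).el_inj ?_
    rw [el_act]
    show (g : G) * c.el (sh k v) * (g : G)⁻¹ = c.el (sh k (sh (-k) _))
    rw [((sh_facts k).2 _).2.2.2, el_act]
  ext v
  simp only [mem_om, Finset.mem_image, hact, (sh_facts k).1]
  constructor
  · rintro ⟨g, rfl⟩; exact ⟨_, ⟨g, rfl⟩, rfl⟩
  · rintro ⟨_, ⟨g, rfl⟩, rfl⟩; exact ⟨g, rfl⟩

include c in
/-- The frame without signs. -/
theorem exists_tet (hI : ¬ S.Inverted) (hW : ¬ S.WeaklyClosed) :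
    ∃ d : Coord S, d.om = tet := by
  obtain ⟨v, hv, hv1, hv2⟩ := c.other hW
  have hv0 : v ≠ 0 := fun h => c.zero_notMem_om (h ▸ hv)
  have hcl := c.cl_subset_om hv
  have hneg : -v ∉ cl v := fun h => c.neg_notMem hI hv (hcl h)
  obtain ⟨h3, ho⟩ := cl_cases v hv0 hv1 hv2 hneg
  have hom : c.om = insert one3 (cl v) := by
    refine (Finset.eq_of_subset_of_card_le (Finset.insert_subset c.one_mem_om hcl) ?_).symm
    rw [c.four hI hW, Finset.card_insert_of_notMem ho, h3]
  obtain ⟨hgood, hbad⟩ := frame_even v hv0 hv1 hv2 hneg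
  by_cases hs : one3 + (cl v).sum id = 0
  · obtain ⟨k, hk⟩ := hgood hs
    exact ⟨c.shift (-k), by rw [shift_om, neg_neg, hom, hk]⟩
  · exfalso
    have hsum : c.om.sum id = -one3 := by rw [hom, Finset.sum_insert ho]; exact hbad hs
    obtain ⟨w, hw, hw1, -⟩ := c.other hW
    obtain ⟨g, rfl⟩ := c.mem_om.1 hw
    refine hw1 ?_
    have hg : c.act g (c.om.sum id) = c.om.sum id := by
      have hp : c.om.image (c.act g) = c.om := Finset.eq_of_subset_of_card_le
        (fun u hu => by
          obtain ⟨u', hu', rfl⟩ := Finset.mem_image.1 hu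
          exact c.act_mem_om g hu')
        (by rw [Finset.card_image_of_injective _ (c.act g).injective])
      have hm : c.act g (c.om.sum id) = c.om.sum fun u => c.act g u :=
        map_sum (AddMonoidHom.mk' (c.act g) (c.act_add g)) id c.om
      rw [hm]
      conv_rhs => rw [← hp, Finset.sum_image fun a _ b _ h => (c.act g).injective h]
      rfl
    rw [hsum, act_neg] at hg
    exact neg_injective hg

theorem no_plane : c.om ≠ pl := by
  intro hom
  have hcard : c.om.card = 8 := by rw [hom]; decide +kernel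
  set A := c.act.range with hA
  have hA48 : Nat.card A = 48 := by rw [hA, c.card_range, hcard]
  set b : V := (1, 2, 0) with hb
  obtain ⟨hp48, hpair, ho, hbp, hb1, hb2⟩ := prs_facts
  let f : A → prs := fun x => ⟨(x.1 one3, x.1 b), by
    obtain ⟨g, hg⟩ := x.2
    rw [← hg, prs, Finset.mem_filter, Finset.mem_product, ← hom]
    refine ⟨⟨c.act_mem_om g (hom ▸ ho), c.act_mem_om g (hom ▸ hbp)⟩,
      fun h => hb1 ((c.act g).injective h), fun h => hb2 ((c.act g).injective ?_)⟩
    rw [act_neg]; exact h⟩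
  have hinj : ∀ g g' : NJ S, c.act g one3 = c.act g' one3 → c.act g b = c.act g' b →
      c.act g = c.act g' := by
    intro g g' h1 h2
    obtain ⟨x, hx⟩ := c.stab_cases (g := g'⁻¹ * g) (by
      rw [map_mul, Equiv.Perm.mul_apply, h1, map_inv, Equiv.Perm.inv_def, Equiv.symm_apply_apply])
    have hxb : six x b = b := by
      rw [← hx, map_mul, Equiv.Perm.mul_apply, h2, map_inv, Equiv.Perm.inv_def,
        Equiv.symm_apply_apply]
    have : c.act (g'⁻¹ * g) = 1 := Equiv.ext fun v => by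
      refine c.act_eq (f := id) (fun _ _ => rfl) (fun w hw => ?_) v
      rw [hx]; exact six_fix x hxb w hw
    rwa [map_mul, map_inv, inv_mul_eq_one, eq_comm] at this
  have hfi : Function.Injective f := by
    intro x y h
    obtain ⟨g, hg⟩ := x.2
    obtain ⟨g', hg'⟩ := y.2
    have h' := congrArg Subtype.val h
    simp only [f, Prod.mk.injEq, ← hg, ← hg'] at h'
    exact Subtype.ext (by rw [← hg, ← hg']; exact hinj g g' h'.1 h'.2)
  obtain ⟨⟨_, h, rfl⟩, hh⟩ := ((Nat.bijective_iff_injective_and_card f).2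
    ⟨hfi, by rw [hA48, Nat.card_eq_finsetCard, hp48]⟩).2 ⟨_, hpair⟩
  have hh' := congrArg Subtype.val hh
  simp only [f, Prod.mk.injEq] at hh'
  obtain ⟨hh1, hh2⟩ := hh'
  obtain ⟨g, hg⟩ : ∃ g : NJ S, g = h * h := ⟨_, rfl⟩
  have hg1 : c.act g one3 = -one3 := by
    rw [hg, map_mul, Equiv.Perm.mul_apply, hh1, hh2]
  have hgb : c.act g b = -b := by
    rw [hg, map_mul, Equiv.Perm.mul_apply, hh2, act_neg, hh1]
  set qn : NJ S := ⟨c.q, c.q_norm⟩ with hqn
  have hqb : c.act qn b = b + c.act qn b + -b := by abel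
  have hsigb : sigP b = b + 2 • one3 ∨ sigP b = b + one3 := by decide +kernel
  have hcomm : c.act (g * qn) = c.act (qn * g) := by
    refine hinj _ _ ?_ ?_
    · rw [map_mul, map_mul, Equiv.Perm.mul_apply, Equiv.Perm.mul_apply, hqn, act_q, hg1]
      show c.act g (sig one3) = sig (-one3)
      rw [show sig one3 = one3 from rfl, hg1]; rfl
    · rw [map_mul, map_mul, Equiv.Perm.mul_apply, Equiv.Perm.mul_apply, hqn, act_q, hgb,
        show sigP (-b) = -sigP b from rfl]
      rcases hsigb with e | e <;> rw [e] <;>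
        simp only [act_add, act_nsmul, hgb, hg1, neg_add, smul_neg]
  have h1 : c.act g u1 = sig (c.act g u0) := by
    have := congrFun (congrArg DFunLike.coe hcomm) u0
    rw [map_mul, map_mul, Equiv.Perm.mul_apply, Equiv.Perm.mul_apply, hqn, act_q] at this
    exact this
  have h2 : c.act g u2 = sig (sig (c.act g u0)) := by
    have := congrFun (congrArg DFunLike.coe hcomm) u1
    rw [map_mul, map_mul, Equiv.Perm.mul_apply, Equiv.Perm.mul_apply, hqn, act_q] at this
    exact (this.trans (congrArg sig h1))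
  obtain ⟨l, x, y, hw⟩ := plane_span (c.act h u0)
  refine plane_square _ l x y hw (c.act g u0) ?_ ?_
  · rw [hg, map_mul, Equiv.Perm.mul_apply]
    conv_lhs => rw [hw]
    simp only [act_add, act_nsmul, hh1]
    rw [show c.act h (1, 2, 0) = -one3 from hh2]
  · rw [← h1, ← (show c.act g u2 = sig (c.act g u1) by rw [h2, h1]), ← act_add, ← act_add,
      show u0 + (u1 + u2) = one3 from rfl, hg1]

include c in
/-- The frame with signs. -/
theorem exists_cube (hI : S.Inverted) (hW : ¬ S.WeaklyClosed) : ∃ d : Coord S, d.om = cube := by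
  obtain ⟨v, hv, hv1, hv2⟩ := c.other hW
  have hv0 : v ≠ 0 := fun h => c.zero_notMem_om (h ▸ hv)
  have hcl := c.cl_subset_om hv
  have hsub : insert one3 (insert (-one3) (cl v ∪ (cl v).image Neg.neg)) ⊆ c.om := by
    refine Finset.insert_subset c.one_mem_om (Finset.insert_subset (c.inverted_iff.1 hI)
      (Finset.union_subset hcl fun w hw => ?_))
    obtain ⟨w', hw', rfl⟩ := Finset.mem_image.1 hw
    exact c.neg_mem hI (hcl hw')
  have hom := Finset.eq_of_subset_of_card_le hsub
    (by rw [c.eight hI hW, cl_cases_neg v hv0 hv1 hv2])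
  rcases frame_signed v hv0 hv1 hv2 with h | ⟨k, hk⟩
  · exact absurd (hom.symm.trans h) c.no_plane
  · exact ⟨c.shift (-k), by rw [shift_om, neg_neg, ← hom, hk]⟩

end Coord

end Cfsg.Agent.Sp62Three31Auto
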