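import Mathlib
import Cfsg.Agent.S3331
import Cfsg.Agent.Lib.PSpAmalgam31Inv
import Cfsg.Agent.Lib.PSpAmalgam31Nine
import Cfsg.Agent.Lib.CoprimeGen

/-!
General lemmas for the bridge step of S3342: centralisers with Sylow 3-subgroup of order three,
growing 2-groups, and invariant `3'`-subgroups over a self-centralising element of order three.
-/

set_option autoImplicit false

namespace Cfsg.Agent.Sp62Three31.Bridge

universe u

variable {G : Type u} [Group G]

theorem mem_cent {i g : G} : g ∈ Subgroup.centralizer ({i} : Set G) ↔ g * i = i * g :=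
  Subgroup.mem_centralizer_singleton_iff

/-- An element of order three with no companion in a centraliser generates a Sylow subgroup of it. -/
theorem not_nine [Finite G] {i x : G} (hxi : x * i = i * x) (hx : orderOf x = 3)
    (h : ∀ w : G, w ^ 9 = 1 → w * i = i * w → w * x = x * w → w ∈ Subgroup.zpowers x) :
    ¬ 9 ∣ Nat.card (Subgroup.centralizer ({i} : Set G)) := by
  classical
  haveI : Fact (Nat.Prime 3) := ⟨Nat.prime_three⟩
  intro hd
  set C := Subgroup.centralizer ({i} : Set G) with hC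
  set y : C := ⟨x, mem_cent.2 hxi⟩ with hy
  have hyc : Nat.card (Subgroup.zpowers y) = 3 ^ 1 := by
    rw [Nat.card_zpowers, hy, Subgroup.orderOf_mk, hx, pow_one]
  obtain ⟨K, hK, hle⟩ := Sylow.exists_subgroup_card_pow_succ (p := 3) (n := 1) (by simpa using hd) hyc
  have hKc : Nat.card K = 9 := by rw [hK]; norm_num
  haveI : IsMulCommutative K := IsPGroup.isMulCommutative_of_card_eq_prime_sq (p := 3) (by rw [hKc]; norm_num)
  have hsub : K ≤ Subgroup.zpowers y := by
    intro w hw
    have h9 : (⟨w, hw⟩ : K) ^ 9 = 1 := by rw [← hKc]; exact pow_card_eq_one'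
    have hcom : (⟨w, hw⟩ : K) * ⟨y, hle (Subgroup.mem_zpowers y)⟩ = ⟨y, hle (Subgroup.mem_zpowers y)⟩ * ⟨w, hw⟩ :=
      mul_comm' _ _
    obtain ⟨k, hk⟩ := h w (by simpa using congrArg (fun z : K => ((z : C) : G)) h9)
      (mem_cent.1 w.2) (by simpa [hy] using congrArg (fun z : K => ((z : C) : G)) hcom)
    exact ⟨k, Subtype.ext (by simpa [hy] using hk)⟩
  have := Subgroup.card_le_of_le hsub
  omega

/-- When the Sylow subgroup has order three, every element of order three is conjugate into it. -/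
theorem conj_into_zpowers [Finite G] {i x w : G} (hxi : x * i = i * x) (hx : orderOf x = 3)
    (h9 : ¬ 9 ∣ Nat.card (Subgroup.centralizer ({i} : Set G))) (hwi : w * i = i * w) (hw : orderOf w = 3) :
    ∃ g : G, g * w * g⁻¹ = x ∨ g * w * g⁻¹ = x⁻¹ := by
  classical
  haveI : Fact (Nat.Prime 3) := ⟨Nat.prime_three⟩
  set C := Subgroup.centralizer ({i} : Set G) with hC
  set y : C := ⟨x, mem_cent.2 hxi⟩ with hy
  set v : C := ⟨w, mem_cent.2 hwi⟩ with hv
  have hyp : IsPGroup 3 (Subgroup.zpowers y) := IsPGroup.of_card (n := 1)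
    (by rw [Nat.card_zpowers, hy, Subgroup.orderOf_mk, hx, pow_one])
  have hvp : IsPGroup 3 (Subgroup.zpowers v) := IsPGroup.of_card (n := 1)
    (by rw [Nat.card_zpowers, hv, Subgroup.orderOf_mk, hw, pow_one])
  obtain ⟨P, hP⟩ := hyp.exists_le_sylow
  obtain ⟨R, hR⟩ := hvp.exists_le_sylow
  have hcard : Nat.card (P : Subgroup C) = 3 := by
    obtain ⟨n, hn⟩ := P.2.exists_card_eq
    have h3 : 3 ∣ Nat.card (P : Subgroup C) := by
      have := Subgroup.card_dvd_of_le hP
      rwa [Nat.card_zpowers, hy, Subgroup.orderOf_mk, hx] at this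
    match n, hn with
    | 0, hn => rw [hn] at h3; norm_num at h3
    | 1, hn => simpa using hn
    | n + 2, hn =>
      exact absurd ((hn ▸ ⟨3 ^ n, by ring⟩ : 9 ∣ Nat.card (P : Subgroup C)).trans
        (P : Subgroup C).card_subgroup_dvd_card) h9
  have hPy : (P : Subgroup C) = Subgroup.zpowers y := (Subgroup.eq_of_le_of_card_ge hP
    (by rw [hcard, Nat.card_zpowers, hy, Subgroup.orderOf_mk, hx])).symm
  obtain ⟨g, hg⟩ := MulAction.exists_smul_eq C R P
  refine ⟨g, ?_⟩
  have hm : g * v * g⁻¹ ∈ (P : Subgroup C) := by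
    rw [← hg, Sylow.coe_subgroup_smul]
    exact Subgroup.smul_mem_pointwise_smul v (MulAut.conj g) _ (hR (Subgroup.mem_zpowers v))
  rw [hPy, (isOfFinOrder_of_finite y).mem_zpowers_iff_mem_range_orderOf] at hm
  obtain ⟨k, hk, hk'⟩ := Finset.mem_image.1 hm
  have hk3 : k < 3 := by simpa [hy, Subgroup.orderOf_mk, hx] using hk
  have e : (g : G) * w * (g : G)⁻¹ = x ^ k := by simpa [hv, hy] using congrArg Subtype.val hk'.symm
  interval_cases k
  · exfalso
    rw [pow_zero, mul_inv_eq_one, mul_eq_left] at e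
    rw [e, orderOf_one] at hw
    norm_num at hw
  · left; rw [e, pow_one]
  · right
    have h3 : x ^ 3 = 1 := hx ▸ pow_orderOf_eq_one x
    rw [e, eq_inv_iff_mul_eq_one, ← pow_succ, h3]

/-- A 2-subgroup that is not Sylow in an overgroup is normalised by more. -/
theorem exists_bigger [Finite G] {T H : Subgroup G} {n : ℕ} (hT : Nat.card T = 2 ^ n) (hle : T ≤ H)
    (hd : 2 ^ (n + 1) ∣ Nat.card H) :
    ∃ g ∈ H, g ∉ T ∧ g ∈ Subgroup.normalizer (T : Set G) ∧
      ∃ T' : Subgroup G, T ≤ T' ∧ g ∈ T' ∧ T' ≤ H ∧ Nat.card T' = 2 ^ (n + 1) := by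
  classical
  haveI : Fact (Nat.Prime 2) := ⟨Nat.prime_two⟩
  have hT' : Nat.card (T.subgroupOf H) = 2 ^ n := by
    rw [← hT]; exact Nat.card_congr (Subgroup.subgroupOfEquivOfLe hle).toEquiv
  obtain ⟨K, hK, hTK⟩ := Sylow.exists_subgroup_card_pow_succ (p := 2) hd hT'
  have hne : ¬ K ≤ T.subgroupOf H := fun h => by
    have := Subgroup.card_le_of_le h
    rw [hK, hT', pow_succ] at this
    have := Nat.two_pow_pos n
    omega
  obtain ⟨g, hgK, hgT⟩ := Set.not_subset.1 hne
  haveI : ((T.subgroupOf H).subgroupOf K).Normal := Subgroup.normal_of_index_eq_two (by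
    have h1 := ((T.subgroupOf H).subgroupOf K).card_mul_index
    rw [Nat.card_congr (Subgroup.subgroupOfEquivOfLe hTK).toEquiv, hT', hK, pow_succ] at h1
    exact Nat.eq_of_mul_eq_mul_left (Nat.two_pow_pos n) h1)
  refine ⟨g, g.2, hgT, ?_, K.map H.subtype, ?_, ⟨g, hgK, rfl⟩, Subgroup.map_subtype_le _, ?_⟩
  · refine PSpAmalgam31.mem_normalizer_of_maps fun t ht => ?_
    have hmem : (⟨⟨t, hle ht⟩, hTK ht⟩ : K) ∈ (T.subgroupOf H).subgroupOf K := ht
    exact Subgroup.Normal.conj_mem inferInstance _ hmem ⟨g, hgK⟩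
  · exact fun t ht => ⟨⟨t, hle ht⟩, hTK ht, rfl⟩
  · rw [Subgroup.card_map_of_injective H.subtype_injective, hK]

/-- A finite group whose quotient by a `3'`-subgroup has no normal `3'`-subgroup: the subgroup is invariant. -/
theorem invariant_of_core {M : Type u} [Group M] [Finite M] {Y : Type u} [Group Y] (f : M →* Y)
    (hf : Function.Surjective f) (hk : ¬ 3 ∣ Nat.card f.ker)
    (hY : ∀ R : Subgroup Y, R.Normal → ¬ 3 ∣ Nat.card R → R = ⊥) (α : MulAut M) :
    ∀ m ∈ f.ker, α m ∈ f.ker := by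
  intro m hm
  have hR : (f.ker.map α.toMonoidHom).map f = ⊥ := by
    refine hY _ ((f.normal_ker.map α.toMonoidHom α.surjective).map f hf) fun h3 => hk ?_
    refine h3.trans ((Subgroup.card_map_dvd _ _).trans ?_)
    rw [Subgroup.card_map_of_injective α.injective]
  have : f (α m) ∈ (f.ker.map α.toMonoidHom).map f := ⟨_, ⟨m, hm, rfl⟩, rfl⟩
  rw [hR, Subgroup.mem_bot] at this
  exact this

end Cfsg.Agent.Sp62Three31.Bridge
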