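import Cfsg.Agent.Lib.Sp62Three31Setup
import Cfsg.Agent.Lib.Sp62Three31BridgeGen
import Cfsg.Agent.Lib.S9Base37

/-!
The centraliser `3 × S₆` extended by the block reflection, and the invariants separating the involution
classes used in the bridge step of S3342.
-/

set_option autoImplicit false
set_option maxRecDepth 100000

namespace Cfsg.Agent.Sp62Three31.Bridge

open Equiv S9Model37 S9Base37

universe u

/-- The model of `(3 × S₆):2`. -/
abbrev P63 := Perm (Fin 6) × Perm (Fin 3)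

/-- A permutation of the third block. -/
def blkP (π : Perm (Fin 3)) : P9 := toP9 (1, fun q => if q = 2 then π else 1)

theorem blk_gen : ∀ π : Perm (Fin 3), ∃ k : Fin 3, ∃ l : Fin 2, blkP π = c3 ^ k.val * d3 ^ l.val := by
  decide +kernel

theorem blk_mem (π : Perm (Fin 3)) : blkP π ∈ W := by
  obtain ⟨k, l, h⟩ := blk_gen π
  rw [h]
  exact W.mul_mem (W.pow_mem C3.2 _) (W.pow_mem D3.2 _)

theorem blk_one : blkP 1 = 1 := by decide +kernel

theorem blk_mul : ∀ π ρ : Perm (Fin 3), blkP (π * ρ) = blkP π * blkP ρ := by decide +kernel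

theorem blk_inj : ∀ π : Perm (Fin 3), blkP π = 1 → π = 1 := by decide +kernel

theorem blk_vals : blkP cyc = c3 ∧ blkP (swap 0 1) = d3 := by decide +kernel

/-- The third block as a subgroup of `W`. -/
def blk : Perm (Fin 3) →* W where
  toFun π := ⟨blkP π, blk_mem π⟩
  map_one' := Subtype.ext blk_one
  map_mul' π ρ := Subtype.ext (blk_mul π ρ)

theorem blk_cyc : blk cyc = C3 := Subtype.ext blk_vals.1

theorem blk_swap : blk (swap 0 1) = D3 := Subtype.ext blk_vals.2

theorem toP9_injective : Function.Injective toP9 := by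
  intro p p' h
  have h' : ∀ q r, pt (p.1 q) (p.2 q r) = pt (p'.1 q) (p'.2 q r) := fun q r => by
    have := DFunLike.congr_fun h (pt q r)
    simpa [toP9_apply, qq_pt, rr_pt] using this
  refine Prod.ext (Equiv.ext fun q => ?_) (funext fun q => Equiv.ext fun r => ?_)
  · have := congrArg qq (h' q 0)
    simpa [qq_pt] using this
  · have := congrArg rr (h' q r)
    simpa [rr_pt] using this

/-- Powers in coordinates. -/
def ppow : ℕ → Par → Par
  | 0, _ => (1, fun _ => 1)
  | n + 1, p => pmul (ppow n p) p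

theorem toP9_ppow : ∀ (n : ℕ) (p : Par), toP9 p ^ n = toP9 (ppow n p)
  | 0, _ => by rw [pow_zero, ppow, toP9_one]
  | n + 1, p => by rw [pow_succ, toP9_ppow n p, toP9_mul, ppow]

/-- The coordinates of `C₁C₂`. -/
def py : Par := pmul (pc 0) (pc 1)

theorem five_free : ∀ p : Par, ppow 5 p = (1, fun _ => 1) → p = (1, fun _ => 1) := by decide +kernel

theorem q_alone : ∀ p : Par, pmul p py = pmul py p → pmul p (pmul ptau (pd 2)) = pmul (pmul ptau (pd 2)) p →
    ppow 9 p = (1, fun _ => 1) → p = (1, fun _ => 1) ∨ p = py ∨ p = pmul py py := by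
  set_option synthInstance.maxSize 512 in decide +kernel

/-- The double transposition `(01)(34)`. -/
def dbl : Perm (Fin 6) := swap 0 1 * swap 3 4

/-- The triple transposition exchanging the two blocks. -/
def tri : Perm (Fin 6) := swap 0 3 * swap 1 4 * swap 2 5

theorem v_alone : ∀ σ : Perm (Fin 6), σ * dbl = dbl * σ → σ ^ 9 = 1 → σ = 1 := by decide +kernel

theorem cyc_comm : ∀ π : Perm (Fin 3), π * cyc = cyc * π → π = 1 ∨ π = cyc ∨ π = cyc⁻¹ := by decide +kernel

theorem five_cycle : orderOf (swap 0 1 * swap 1 2 * swap 2 3 * swap 3 4 : Perm (Fin 6)) = 5 :=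
  orderOf_eq_prime (hp := ⟨by norm_num⟩) (by decide +kernel) (by decide +kernel)

theorem tri_nine : 9 ∣ Nat.card (Subgroup.centralizer ({(tri, 1)} : Set P63)) := by
  have h3 : ∀ u ∈ ([swap 0 1 * swap 1 2 * (swap 3 4 * swap 4 5)] : List (Perm (Fin 6))),
      u * tri = tri * u ∧ u ^ 3 = 1 ∧ u ≠ 1 := by decide +kernel
  obtain ⟨h1, h2, h2'⟩ := h3 _ (List.mem_singleton.2 rfl)
  set u : Perm (Fin 6) := swap 0 1 * swap 1 2 * (swap 3 4 * swap 4 5) with hu
  have hle : (Subgroup.zpowers u).prod (Subgroup.zpowers cyc) ≤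
      Subgroup.centralizer ({(tri, 1)} : Set P63) := by
    rintro ⟨p, r⟩ ⟨hp, -⟩
    obtain ⟨k, rfl⟩ := hp
    exact mem_cent.2 (Prod.ext ((show Commute u tri from h1).zpow_left k).eq (by simp))
  have hc : Nat.card ((Subgroup.zpowers u).prod (Subgroup.zpowers cyc)) = 9 := by
    rw [Nat.card_congr (Subgroup.prodEquiv _ _).toEquiv, Nat.card_prod, Nat.card_zpowers, Nat.card_zpowers,
      orderOf_eq_prime (hp := ⟨Nat.prime_three⟩) h2 h2',
      orderOf_eq_prime (hp := ⟨Nat.prime_three⟩) (show cyc ^ 3 = 1 by decide +kernel) (by decide +kernel)]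
  exact hc ▸ Subgroup.card_dvd_of_le hle

variable {G : Type u} [Group G] {S : Setup G} {F : S.Frame} (c : F.CaseII)

theorem comm_blk (σ : Perm (Fin 6)) (π : Perm (Fin 3)) : Commute (c.ι σ) (F.φ (blk π)) := by
  obtain ⟨k, l, h⟩ := blk_gen π
  have hb : blk π = C3 ^ k.val * D3 ^ l.val := Subtype.ext (by simpa [C3, D3, blk] using h)
  rw [hb, map_mul, map_pow, map_pow]
  exact ((c.six.comm σ).pow_right _).mul_right ((c.d3 σ).pow_right _)

/-- The extended centraliser. -/
def e : P63 →* G := MonoidHom.noncommCoprod c.ι (F.φ.comp blk) (comm_blk c)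

theorem e_apply (σ : Perm (Fin 6)) (π : Perm (Fin 3)) : e c (σ, π) = c.ι σ * F.φ (blk π) := rfl

theorem e_c3 : e c (1, cyc) = F.φ C3 := by rw [e_apply, map_one, one_mul, blk_cyc]

theorem e_d3 : e c (1, swap 0 1) = F.φ D3 := by rw [e_apply, map_one, one_mul, blk_swap]

theorem e_left (σ : Perm (Fin 6)) : e c (σ, 1) = c.ι σ := by rw [e_apply, map_one, map_one, mul_one]

theorem e_inj : Function.Injective (e c) := by
  rw [injective_iff_map_eq_one]
  rintro ⟨σ, π⟩ h
  rw [e_apply] at h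
  have hπ : ∀ ρ : Perm (Fin 3), π * ρ = ρ * π := by
    intro ρ
    have hc : Commute (F.φ (blk π)) (F.φ (blk ρ)) := by
      rw [eq_inv_of_mul_eq_one_right h]
      exact (comm_blk c σ ρ).inv_left
    have h2 : blk (π * ρ) = blk (ρ * π) := F.inj (by simp only [map_mul]; exact hc.eq)
    refine mul_inv_eq_one.1 (blk_inj _ ?_)
    have h3 : blk (π * ρ * (ρ * π)⁻¹) = 1 := by rw [map_mul, map_inv, h2, mul_inv_cancel]
    exact congrArg Subtype.val h3
  have hp1 := PSpAmalgam31.perm3_center π hπ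
  subst hp1
  rw [map_one, map_one, mul_one] at h
  rw [Prod.mk_eq_one]
  exact ⟨c.six.inj (h.trans (map_one _).symm), rfl⟩

/-- The centraliser of `φ C₃`. -/
theorem exists_e {g : G} (hg : g * F.φ C3 = F.φ C3 * g) :
    ∃ p : P63, e c p = g ∧ (p.2 = 1 ∨ p.2 = cyc ∨ p.2 = cyc⁻¹) := by
  have hm : g ∈ Subgroup.zpowers (F.φ C3) ⊔ c.ι.range := c.six.cent ▸ mem_cent.2 hg
  have hle : Subgroup.zpowers (F.φ C3) ⊔ c.ι.range ≤ (e c).range := by
    refine sup_le (Subgroup.zpowers_le.2 ⟨_, e_c3 c⟩) ?_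
    rintro _ ⟨σ, rfl⟩
    exact ⟨_, e_left c σ⟩
  obtain ⟨⟨σ, π⟩, rfl⟩ := hle hm
  refine ⟨(σ, π), rfl, cyc_comm π ?_⟩
  rw [← e_c3 c, ← map_mul, ← map_mul] at hg
  exact congrArg Prod.snd (e_inj c hg)

theorem cyc_pow_nine : ∀ π : Perm (Fin 3), π = 1 ∨ π = cyc ∨ π = cyc⁻¹ → π ^ 9 = 1 := by decide +kernel

variable [Finite G] (hy : Subgroup.centralizer ({F.φ (C1 * C2)} : Set G) ≤ Subgroup.normalizer (S.J : Set G))

/-- The `y`-type element. -/
abbrev yG (F : S.Frame) : G := F.φ (C1 * C2)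

theorem yG_order (F : S.Frame) : orderOf (F.φ (C1 * C2)) = 3 := by
  rw [orderOf_injective F.φ F.inj]
  exact orderOf_eq_prime (hp := ⟨Nat.prime_three⟩) (Subtype.ext (by decide +kernel))
    (fun h => absurd (congrArg Subtype.val h) (by decide +kernel))

theorem c3_order (F : S.Frame) : orderOf (F.φ C3) = 3 := by
  rw [orderOf_injective F.φ F.inj]
  exact orderOf_eq_prime (hp := ⟨Nat.prime_three⟩) (Subtype.ext (by decide +kernel))
    (fun h => absurd (congrArg Subtype.val h) (by decide +kernel))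

include hy in
theorem exists_par_of_commute {g : G} (hg : g * F.φ (C1 * C2) = F.φ (C1 * C2) * g) :
    ∃ (w : W) (p : Par), F.φ w = g ∧ toP9 p = (w : P9) ∧ pmul p py = pmul py p := by
  have hm := hy (mem_cent.2 hg)
  rw [← F.range_eq] at hm
  obtain ⟨w, rfl⟩ := hm
  obtain ⟨p, hp⟩ := mem_W w.2
  refine ⟨w, p, rfl, hp, toP9_injective ?_⟩
  have hy' : toP9 py = c1 * c2 := by decide +kernel
  rw [← map_mul, ← map_mul] at hg
  rw [← toP9_mul, ← toP9_mul, hp, hy']
  exact congrArg Subtype.val (F.inj hg)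

/-- The centraliser has order divisible by nine. -/
def Nine (i : G) : Prop := 9 ∣ Nat.card (Subgroup.centralizer ({i} : Set G))

/-- The centraliser contains a conjugate of `C₁C₂`. -/
def HasY (F : S.Frame) (i : G) : Prop := ∃ g : G, (g * F.φ (C1 * C2) * g⁻¹) * i = i * (g * F.φ (C1 * C2) * g⁻¹)

theorem HasY.conj {i : G} (h : HasY F i) (g : G) : HasY F (g * i * g⁻¹) := by
  obtain ⟨x, hx⟩ := h
  refine ⟨g * x, ?_⟩
  calc g * x * F.φ (C1 * C2) * (g * x)⁻¹ * (g * i * g⁻¹) = g * (x * F.φ (C1 * C2) * x⁻¹ * i) * g⁻¹ := by group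
    _ = _ := by rw [hx]; group

theorem Nine.conj {i : G} (h : Nine i) (g : G) : Nine (g * i * g⁻¹) := by
  have e' : (Subgroup.centralizer ({i} : Set G)).map (MulAut.conj g).toMonoidHom ≤
      Subgroup.centralizer ({g * i * g⁻¹} : Set G) := by
    rintro _ ⟨x, hx, rfl⟩
    have hx' := mem_cent.1 hx
    refine mem_cent.2 ?_
    show g * x * g⁻¹ * (g * i * g⁻¹) = g * i * g⁻¹ * (g * x * g⁻¹)
    calc g * x * g⁻¹ * (g * i * g⁻¹) = g * (x * i) * g⁻¹ := by group
      _ = _ := by rw [hx']; group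
  have := Subgroup.card_dvd_of_le e'
  rw [Subgroup.card_map_of_injective (f := (MulAut.conj g).toMonoidHom) (MulAut.conj g).injective] at this
  exact h.trans this

theorem nine_d : Nine (e c (1, swap 0 1)) := by
  have hle : c.ι.range ≤ Subgroup.centralizer ({e c (1, swap 0 1)} : Set G) := by
    rintro _ ⟨σ, rfl⟩
    rw [mem_cent, e_d3]
    exact (c.d3 σ).eq
  refine dvd_trans ?_ (Subgroup.card_dvd_of_le hle)
  rw [← Nat.card_congr (MonoidHom.ofInjective c.six.inj).toEquiv, Nat.card_perm, Nat.card_fin]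
  decide +kernel

theorem nine_tri : Nine (e c (tri, 1)) := by
  refine tri_nine.trans ((Subgroup.card_map_of_injective (e_inj c)).symm.dvd.trans (Subgroup.card_dvd_of_le ?_))
  rintro _ ⟨p, hp, rfl⟩
  rw [mem_cent, ← map_mul, ← map_mul]
  exact congrArg (e c) (mem_cent.1 hp)

include c in
theorem not_nine_dbl : ¬ Nine (e c (dbl, 1)) := by
  refine not_nine (x := F.φ C3) ?_ (c3_order F) fun w h9 hwi hwx => ?_
  · rw [← e_c3 c, ← map_mul, ← map_mul]
    exact congrArg (e c) (Prod.ext (by simp) (by simp))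
  obtain ⟨⟨σ, π⟩, rfl, hπ⟩ := exists_e c hwx
  rw [← map_pow] at h9
  rw [← map_mul, ← map_mul] at hwi
  have h1 := congrArg Prod.fst (e_inj c (h9.trans (map_one _).symm))
  have h2 := congrArg Prod.fst (e_inj c hwi)
  simp only [Prod.pow_fst, Prod.fst_one, Prod.fst_mul] at h1 h2
  rw [v_alone σ h2 h1, ← e_c3 c]
  rcases hπ with h | h | h <;> rw [show π = _ from h]
  · rw [Prod.mk_one_one, map_one]; exact one_mem _
  · exact Subgroup.mem_zpowers _
  · rw [show ((1 : Perm (Fin 6)), cyc⁻¹) = ((1 : Perm (Fin 6)), cyc)⁻¹ from by simp, map_inv]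
    exact inv_mem (Subgroup.mem_zpowers _)

include hy in
theorem not_nine_q : ¬ Nine (F.φ (Tau * D3)) := by
  refine not_nine (x := F.φ (C1 * C2)) ?_ (yG_order F) fun w h9 hwi hwx => ?_
  · rw [← map_mul, ← map_mul]
    exact congrArg F.φ (Subtype.ext (by decide +kernel))
  obtain ⟨v, p, rfl, hp, hcom⟩ := exists_par_of_commute hy hwx
  have hq : toP9 (pmul ptau (pd 2)) = tau * d3 := by decide +kernel
  have h1 : pmul p (pmul ptau (pd 2)) = pmul (pmul ptau (pd 2)) p := toP9_injective (by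
    rw [← map_mul, ← map_mul] at hwi
    rw [← toP9_mul p, ← toP9_mul _ p, hp, hq]
    exact congrArg Subtype.val (F.inj hwi))
  have h2 : ppow 9 p = (1, fun _ => 1) := toP9_injective (by
    rw [← map_pow] at h9
    rw [← toP9_ppow, hp, toP9_one]
    exact congrArg Subtype.val (F.inj (h9.trans (map_one _).symm)))
  have hy' : toP9 py = c1 * c2 := by decide +kernel
  rcases q_alone p hcom h1 h2 with h | h | h <;> rw [h] at hp
  · rw [show v = 1 from Subtype.ext (hp.symm.trans toP9_one), map_one]; exact one_mem _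
  · rw [show v = C1 * C2 from Subtype.ext (hp.symm.trans hy')]; exact Subgroup.mem_zpowers _
  · rw [show v = (C1 * C2) * (C1 * C2) from Subtype.ext (by
      rw [← hp, ← toP9_mul, hy']; rfl)]
    rw [map_mul F.φ (C1 * C2) (C1 * C2)]
    exact mul_mem (Subgroup.mem_zpowers _) (Subgroup.mem_zpowers _)

theorem hasY_q : HasY F (F.φ (Tau * D3)) := by
  refine ⟨1, ?_⟩
  rw [one_mul, inv_one, mul_one, ← map_mul, ← map_mul]
  exact congrArg F.φ (Subtype.ext (by decide +kernel))

include c hy in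
theorem not_conj_c3 (g : G) : g * F.φ C3 * g⁻¹ ≠ F.φ (C1 * C2) ∧ g * F.φ C3 * g⁻¹ ≠ (F.φ (C1 * C2))⁻¹ := by
  set f : Perm (Fin 6) := swap 0 1 * swap 1 2 * swap 2 3 * swap 3 4
  have hkey : g * F.φ C3 * g⁻¹ * (g * c.ι f * g⁻¹) = g * c.ι f * g⁻¹ * (g * F.φ C3 * g⁻¹) := by
    calc g * F.φ C3 * g⁻¹ * (g * c.ι f * g⁻¹) = g * (F.φ C3 * c.ι f) * g⁻¹ := by group
      _ = g * (c.ι f * F.φ C3) * g⁻¹ := by rw [(c.six.comm f).eq]
      _ = _ := by group
  have hfive : orderOf (g * c.ι f * g⁻¹) = 5 := by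
    rw [show g * c.ι f * g⁻¹ = MulAut.conj g (c.ι f) from rfl, MulEquiv.orderOf_eq,
      orderOf_injective c.ι c.six.inj]
    exact five_cycle
  suffices ¬ Commute (g * c.ι f * g⁻¹) (F.φ (C1 * C2)) by
    refine ⟨fun h => this ?_, fun h => this ?_⟩
    · rw [h] at hkey; exact hkey.symm
    · rw [h] at hkey
      exact Commute.inv_right_iff.1 (show Commute (g * c.ι f * g⁻¹) (F.φ (C1 * C2))⁻¹ from hkey.symm)
  intro hc
  obtain ⟨v, p, hv, hp, -⟩ := exists_par_of_commute hy hc.eq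
  have h5 := pow_orderOf_eq_one (g * c.ι f * g⁻¹)
  rw [hfive, ← hv, ← map_pow] at h5
  have h1 : ppow 5 p = (1, fun _ => 1) := toP9_injective (by
    rw [← toP9_ppow, hp, toP9_one]
    exact congrArg Subtype.val (F.inj (h5.trans (map_one _).symm)))
  have h2 : v = 1 := Subtype.ext (by rw [← hp, five_free p h1, toP9_one]; rfl)
  rw [← hv, h2, map_one, orderOf_one] at hfive
  norm_num at hfive

include hy in
theorem not_hasY_dbl : ¬ HasY F (e c (dbl, 1)) := by
  rintro ⟨g, hg⟩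
  have hcomm : F.φ C3 * e c (dbl, 1) = e c (dbl, 1) * F.φ C3 := by
    rw [← e_c3 c, ← map_mul, ← map_mul]
    exact congrArg (e c) (Prod.ext (by simp) (by simp))
  obtain ⟨k, hk⟩ := conj_into_zpowers hcomm (c3_order F) (not_nine_dbl c) hg (by
    rw [show g * F.φ (C1 * C2) * g⁻¹ = MulAut.conj g (F.φ (C1 * C2)) from rfl, MulEquiv.orderOf_eq]
    exact yG_order F)
  have key : ∀ x : G, k * (g * F.φ (C1 * C2) * g⁻¹) * k⁻¹ = x → (k * g)⁻¹ * x * (k * g) = F.φ (C1 * C2) := by
    rintro x rfl; group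
  rcases hk with h | h
  · exact (not_conj_c3 c hy (k * g)⁻¹).1 (by rw [inv_inv]; exact key _ h)
  · refine (not_conj_c3 c hy (k * g)⁻¹).2 ?_
    rw [inv_inv, ← key _ h]
    group

end Cfsg.Agent.Sp62Three31.Bridge
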