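import Cfsg.Agent.Lib.Sp62Three31BridgeBase

/-!
The two 2-groups of order 32 in `(3 × S₆):2` used by the bridge step of S3342, and the classes of their
involutions.
-/

set_option autoImplicit false
set_option maxRecDepth 100000
set_option synthInstance.maxSize 2048

namespace Cfsg.Agent.Sp62Three31.Bridge

open Equiv S9Model37 S9Base37

universe u

/-- The Sylow 2-subgroup of the centraliser of `(03)(14)(25)`. -/
def l16a : List (Perm (Fin 6)) :=
  (([1, swap 0 3] : List (Perm (Fin 6))).flatMap fun a => ([1, swap 1 4] : List (Perm (Fin 6))).flatMap fun b =>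
    ([1, swap 2 5] : List (Perm (Fin 6))).flatMap fun c =>
      ([1, swap 1 2 * swap 4 5] : List (Perm (Fin 6))).map fun d => a * b * c * d)

/-- A Sylow 2-subgroup of the centraliser of `(01)`. -/
def l16b : List (Perm (Fin 6)) :=
  (([1, swap 0 1] : List (Perm (Fin 6))).flatMap fun a => ([1, swap 2 3] : List (Perm (Fin 6))).flatMap fun b =>
    ([1, swap 4 5] : List (Perm (Fin 6))).flatMap fun c =>
      ([1, swap 2 4 * swap 3 5] : List (Perm (Fin 6))).map fun d => a * b * c * d)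

/-- Extension by the reflection of the third block. -/
def l32 (l : List (Perm (Fin 6))) : List P63 :=
  l.flatMap fun σ => [(σ, 1), (σ, swap 0 1)]

theorem mem_l32 {l : List (Perm (Fin 6))} {p : P63} :
    p ∈ l32 l ↔ p.1 ∈ l ∧ (p.2 = 1 ∨ p.2 = swap 0 1) := by
  obtain ⟨σ, π⟩ := p
  simp only [l32, List.mem_flatMap, List.mem_cons, List.not_mem_nil, or_false, Prod.mk.injEq]
  exact ⟨fun ⟨_, hσ, h⟩ => by rcases h with ⟨rfl, rfl⟩ | ⟨rfl, rfl⟩ <;> simp [hσ],
    fun ⟨hσ, h⟩ => ⟨σ, hσ, h.imp (⟨rfl, ·⟩) (⟨rfl, ·⟩)⟩⟩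

/-- The number of moved points. -/
def moved (σ : Perm (Fin 6)) : ℕ := (Finset.univ.filter fun i => σ i ≠ i).card

/-- The representative with the given number of moved points. -/
def rep6 : ℕ → Perm (Fin 6)
  | 2 => swap 0 1
  | 4 => dbl
  | 6 => tri
  | _ => 1

/-- The class tag: 1 transvection, 2 double, 3 the `q` class, 4 the triple class, 5 trivial, 0 unknown. -/
def kind (p : P63) : ℕ :=
  if p.1 * p.1 = 1 then
    (if p.2 = 1 then
      (match moved p.1 with | 0 => 5 | 2 => 1 | 4 => 2 | 6 => 4 | _ => 0)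
    else if p.2 = swap 0 1 then
      (match moved p.1 with | 0 => 1 | 2 => 2 | 6 => 3 | _ => 0)
    else 0)
  else 0

/-- Tags that can be fused. -/
def compat (k l : ℕ) : Bool :=
  k == 0 || l == 0 || k == l || (k == 1 && l == 4) || (k == 4 && l == 1)

/-- A digit of a code. -/
def a6 (c i : ℕ) : ℕ := c / 8 ^ i % 8

/-- The code of a permutation of six letters. -/
def e6 (σ : Perm (Fin 6)) : ℕ :=
  (σ 0).val + 8 * ((σ 1).val + 8 * ((σ 2).val + 8 * ((σ 3).val + 8 * ((σ 4).val + 8 * (σ 5).val))))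

/-- The code of a product. -/
def m6c (a b : ℕ) : ℕ :=
  a6 a (a6 b 0) + 8 * (a6 a (a6 b 1) + 8 * (a6 a (a6 b 2) + 8 * (a6 a (a6 b 3) + 8 * (a6 a (a6 b 4) + 8 * a6 a (a6 b 5)))))

theorem a6_e6 (σ : Perm (Fin 6)) (i : Fin 6) : a6 (e6 σ) i.val = (σ i).val := by
  have := (σ 0).isLt; have := (σ 1).isLt; have := (σ 2).isLt
  have := (σ 3).isLt; have := (σ 4).isLt; have := (σ 5).isLt
  fin_cases i <;> simp [a6, e6] <;> omega

theorem e6_inj {σ τ : Perm (Fin 6)} (h : e6 σ = e6 τ) : σ = τ :=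
  Equiv.ext fun i => Fin.ext (by rw [← a6_e6, h, a6_e6])

theorem e6_iff {σ τ : Perm (Fin 6)} : σ = τ ↔ e6 σ = e6 τ := ⟨fun h => h ▸ rfl, e6_inj⟩

theorem e6_mul (σ τ : Perm (Fin 6)) : e6 (σ * τ) = m6c (e6 σ) (e6 τ) := by
  have h : ∀ i : Fin 6, ((σ * τ) i).val = a6 (e6 σ) (a6 (e6 τ) i.val) := fun i => by
    rw [a6_e6, a6_e6]; rfl
  rw [e6, h 0, h 1, h 2, h 3, h 4, h 5]
  rfl

/-- The number of moved points of a code. -/
def movedC (c : ℕ) : ℕ :=
  (((List.range 6).filter fun i => !(a6 c i == i))).length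

theorem moved_code (σ : Perm (Fin 6)) : moved σ = movedC (e6 σ) := by
  have h : ∀ i : Fin 6, (σ i ≠ i) ↔ (!(a6 (e6 σ) i.val == i.val)) = true := fun i => by
    simp [a6_e6, Fin.val_inj]
  rw [moved, movedC, Finset.filter_congr fun i _ => h i, show List.range 6 = (List.finRange 6).map Fin.val by rfl,
    List.filter_map, List.length_map, ← List.toFinset_card_of_nodup ((List.nodup_finRange 6).filter _)]
  congr 1
  ext i
  simp

theorem one_ne_sw : (1 : Perm (Fin 3)) ≠ swap 0 1 := by decide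

/-- The code of a pair. -/
def e63 (p : P63) : ℕ × Bool := (e6 p.1, decide (p.2 = swap 0 1))

theorem e63_snd {π : Perm (Fin 3)} (h : π = 1 ∨ π = swap 0 1) :
    (π = 1 ↔ decide (π = swap 0 1) = false) ∧ (π = swap 0 1 ↔ decide (π = swap 0 1) = true) := by
  rcases h with rfl | rfl <;> decide +kernel

theorem e63_inj {p q : P63} (hp : p.2 = 1 ∨ p.2 = swap 0 1) (hq : q.2 = 1 ∨ q.2 = swap 0 1)
    (h : e63 p = e63 q) : p = q := by
  simp only [e63, Prod.mk.injEq] at h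
  refine Prod.ext (e6_inj h.1) ?_
  rcases hp with a | a <;> rcases hq with b | b <;> rw [a, b] at h ⊢ <;> revert h <;> simp [one_ne_sw]

/-- The tag of a code. -/
def kindC (p : ℕ × Bool) : ℕ :=
  if m6c p.1 p.1 == 181896 then
    (if p.2 then (match movedC p.1 with | 0 => 1 | 2 => 2 | 6 => 3 | _ => 0)
    else (match movedC p.1 with | 0 => 5 | 2 => 1 | 4 => 2 | 6 => 4 | _ => 0))
  else 0

theorem e6_one : e6 1 = 181896 := by decide +kernel

theorem kind_code {p : P63} (h : p.2 = 1 ∨ p.2 = swap 0 1) : kind p = kindC (e63 p) := by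
  obtain ⟨σ, π⟩ := p
  have hne : swap (0 : Fin 3) 1 ≠ 1 := by decide
  by_cases hs : σ * σ = 1
  · have hc : m6c (e6 σ) (e6 σ) = 181896 := by rw [← e6_mul, hs, e6_one]
    rcases h with e | e <;> simp only at e <;> subst e <;> simp [kind, kindC, e63, hs, hc, moved_code, hne, hne.symm]
  · have hc : ¬ m6c (e6 σ) (e6 σ) = 181896 := fun e => hs (e6_inj (by rw [e6_mul, e, e6_one]))
    simp [kind, kindC, e63, hs, hc]

/-- The codes of the first list. -/
def A16 : List ℕ := [181896, 153168, 83784, 140904, 169632, 55056, 71520, 42792, 180363, 151635, 82251, 139371, 168099, 53523, 69987, 41259]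

/-- The codes of the second list. -/
def B16 : List ℕ := [181896, 109320, 153224, 108872, 181448, 80648, 152776, 80200, 181889, 109313, 153217, 108865, 181441, 80641, 152769, 80193]

theorem l16a_code : l16a.map e6 = A16 := by decide +kernel

theorem l16b_code : l16b.map e6 = B16 := by decide +kernel

theorem mem_code {l : List (Perm (Fin 6))} {σ : Perm (Fin 6)} : σ ∈ l ↔ e6 σ ∈ l.map e6 :=
  ⟨List.mem_map_of_mem, fun h => by obtain ⟨τ, hτ, e⟩ := List.mem_map.1 h; exact e6_inj e ▸ hτ⟩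

/-- Codes of the extended list. -/
def x32 (l : List ℕ) : List (ℕ × Bool) := l.flatMap fun c => [(c, false), (c, true)]

theorem mem_x32 {l : List (Perm (Fin 6))} {L : List ℕ} (hL : l.map e6 = L) {p : P63} (hp : p ∈ l32 l) :
    e63 p ∈ x32 L ∧ (p.2 = 1 ∨ p.2 = swap 0 1) := by
  rw [mem_l32] at hp
  refine ⟨List.mem_flatMap.2 ⟨e6 p.1, hL ▸ List.mem_map_of_mem hp.1, ?_⟩, hp.2⟩
  rcases hp.2 with e | e <;> simp [e63, e, one_ne_sw]

/-- The first 2-group. -/
def T1 : Subgroup P63 where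
  carrier := {p | p ∈ l32 l16a}
  one_mem' := by show (1 : P63) ∈ l32 l16a; decide +kernel
  mul_mem' := by
    have hc : A16.all (fun a => A16.all fun b => A16.contains (m6c a b)) = true := by decide +kernel
    have h : ∀ p ∈ l16a, ∀ q ∈ l16a, p * q ∈ l16a := fun p hp q hq => by
      rw [mem_code, l16a_code, e6_mul]
      exact List.contains_iff_mem.1 (List.all_eq_true.1 (List.all_eq_true.1 hc _ (l16a_code ▸ mem_code.1 hp)) _
        (l16a_code ▸ mem_code.1 hq))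
    intro a b hp hq
    rw [Set.mem_setOf_eq, mem_l32] at hp hq ⊢
    refine ⟨h _ hp.1 _ hq.1, ?_⟩
    rcases hp.2 with e | e <;> rcases hq.2 with e' | e' <;> simp [Prod.snd_mul, e, e']
  inv_mem' := by
    have hc : A16.all (fun a => A16.any fun b => m6c a b == 181896) = true := by decide +kernel
    have h : ∀ p ∈ l16a, p⁻¹ ∈ l16a := fun p hp => by
      obtain ⟨b, hb, e⟩ := List.any_eq_true.1 (List.all_eq_true.1 hc _ (l16a_code ▸ mem_code.1 hp))
      rw [← l16a_code, List.mem_map] at hb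
      obtain ⟨τ, hτ, rfl⟩ := hb
      rw [beq_iff_eq, ← e6_mul, ← e6_one] at e
      rw [inv_eq_of_mul_eq_one_right (e6_inj e)]
      exact hτ
    intro a hp
    rw [Set.mem_setOf_eq, mem_l32] at hp ⊢
    refine ⟨h _ hp.1, ?_⟩
    rcases hp.2 with e | e <;> simp [Prod.snd_inv, e]

/-- The second 2-group. -/
def T2 : Subgroup P63 where
  carrier := {p | p ∈ l32 l16b}
  one_mem' := by show (1 : P63) ∈ l32 l16b; decide +kernel
  mul_mem' := by
    have hc : B16.all (fun a => B16.all fun b => B16.contains (m6c a b)) = true := by decide +kernel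
    have h : ∀ p ∈ l16b, ∀ q ∈ l16b, p * q ∈ l16b := fun p hp q hq => by
      rw [mem_code, l16b_code, e6_mul]
      exact List.contains_iff_mem.1 (List.all_eq_true.1 (List.all_eq_true.1 hc _ (l16b_code ▸ mem_code.1 hp)) _
        (l16b_code ▸ mem_code.1 hq))
    intro a b hp hq
    rw [Set.mem_setOf_eq, mem_l32] at hp hq ⊢
    refine ⟨h _ hp.1 _ hq.1, ?_⟩
    rcases hp.2 with e | e <;> rcases hq.2 with e' | e' <;> simp [Prod.snd_mul, e, e']
  inv_mem' := by
    have hc : B16.all (fun a => B16.any fun b => m6c a b == 181896) = true := by decide +kernel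
    have h : ∀ p ∈ l16b, p⁻¹ ∈ l16b := fun p hp => by
      obtain ⟨b, hb, e⟩ := List.any_eq_true.1 (List.all_eq_true.1 hc _ (l16b_code ▸ mem_code.1 hp))
      rw [← l16b_code, List.mem_map] at hb
      obtain ⟨τ, hτ, rfl⟩ := hb
      rw [beq_iff_eq, ← e6_mul, ← e6_one] at e
      rw [inv_eq_of_mul_eq_one_right (e6_inj e)]
      exact hτ
    intro a hp
    rw [Set.mem_setOf_eq, mem_l32] at hp ⊢
    refine ⟨h _ hp.1, ?_⟩
    rcases hp.2 with e | e <;> simp [Prod.snd_inv, e]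

theorem card_T1 : Nat.card T1 = 32 := by
  have hn : (l32 l16a).Nodup := List.Nodup.of_map e63 (by
    have e : (l32 l16a).map e63 = x32 A16 := by
      rw [← l16a_code, l32, x32, List.map_flatMap, List.flatMap_map]
      congr 1
    rw [e]; decide +kernel)
  rw [Nat.card_congr (Equiv.subtypeEquivRight (q := fun p => p ∈ (l32 l16a).toFinset)
    fun p => by simp [T1, List.mem_toFinset]), Nat.card_eq_fintype_card, Fintype.card_coe,
    List.toFinset_card_of_nodup hn]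
  decide +kernel

theorem card_T2 : Nat.card T2 = 32 := by
  have hn : (l32 l16b).Nodup := List.Nodup.of_map e63 (by
    have e : (l32 l16b).map e63 = x32 B16 := by
      rw [← l16b_code, l32, x32, List.map_flatMap, List.flatMap_map]
      congr 1
    rw [e]; decide +kernel)
  rw [Nat.card_congr (Equiv.subtypeEquivRight (q := fun p => p ∈ (l32 l16b).toFinset)
    fun p => by simp [T2, List.mem_toFinset]), Nat.card_eq_fintype_card, Fintype.card_coe,
    List.toFinset_card_of_nodup hn]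
  decide +kernel

/-- Conjugators to the representatives. -/
def conjs : List (Perm (Fin 6)) :=
  [swap 2 4, swap 1 3, swap 0 2 * swap 1 2 * swap 2 4 * swap 3 5, swap 0 2 * swap 1 3 * swap 2 4 * swap 3 5,
    swap 0 2 * swap 1 5 * swap 3 5 * swap 4 5, swap 0 2 * swap 1 5, swap 3 5 * swap 4 5,
    swap 1 2 * swap 2 3 * swap 4 5, swap 0 2 * swap 1 2 * swap 2 3 * swap 3 5,
    swap 0 2 * swap 1 5 * swap 4 5]

/-- All elements considered. -/
def l64 : List P63 := l32 l16a ++ l32 l16b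

theorem conjs_code : conjs.map e6 = [173832, 180888, 105218, 35610, 143914, 50730, 146056, 152272, 51906, 136746] := by decide +kernel

/-- The representatives, coded. -/
def rep6C : ℕ → ℕ
  | 2 => 181889
  | 4 => 178305
  | 6 => 69987
  | _ => 181896

theorem rep6_code : ∀ m < 7, e6 (rep6 m) = rep6C m := by decide +kernel

theorem moved_lt (σ : Perm (Fin 6)) : moved σ < 7 :=
  Nat.lt_succ_of_le ((Finset.card_filter_le _ _).trans_eq (by simp))

theorem to_rep : ∀ p ∈ l64, kind p ≠ 0 →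
    (kind p = 5 ∧ p = 1) ∨
      ((∃ ρ ∈ conjs, ρ * p.1 * ρ⁻¹ = rep6 (moved p.1)) ∧
      ((kind p = 1 ∧ moved p.1 = 0 ∧ p.2 = swap 0 1) ∨ (kind p = 1 ∧ moved p.1 = 2 ∧ p.2 = 1) ∨
       (kind p = 2 ∧ moved p.1 = 2 ∧ p.2 = swap 0 1) ∨ (kind p = 2 ∧ moved p.1 = 4 ∧ p.2 = 1) ∨
       (kind p = 3 ∧ moved p.1 = 6 ∧ p.2 = swap 0 1) ∨ (kind p = 4 ∧ moved p.1 = 6 ∧ p.2 = 1))) := by
  have hc : (x32 A16 ++ x32 B16).all (fun x => decide (kindC x ≠ 0 → (kindC x = 5 ∧ x = (181896, false)) ∨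
      ((∃ r ∈ ([173832, 180888, 105218, 35610, 143914, 50730, 146056, 152272, 51906, 136746] : List ℕ), m6c r x.1 = m6c (rep6C (movedC x.1)) r) ∧
      ((kindC x = 1 ∧ movedC x.1 = 0 ∧ x.2 = true) ∨ (kindC x = 1 ∧ movedC x.1 = 2 ∧ x.2 = false) ∨
       (kindC x = 2 ∧ movedC x.1 = 2 ∧ x.2 = true) ∨ (kindC x = 2 ∧ movedC x.1 = 4 ∧ x.2 = false) ∨
       (kindC x = 3 ∧ movedC x.1 = 6 ∧ x.2 = true) ∨ (kindC x = 4 ∧ movedC x.1 = 6 ∧ x.2 = false))))) = true := by
    decide +kernel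
  intro p hp hk
  have hm : e63 p ∈ x32 A16 ++ x32 B16 ∧ (p.2 = 1 ∨ p.2 = swap 0 1) := by
    rcases List.mem_append.1 hp with h | h
    · exact ⟨List.mem_append.2 (Or.inl (mem_x32 l16a_code h).1), (mem_x32 l16a_code h).2⟩
    · exact ⟨List.mem_append.2 (Or.inr (mem_x32 l16b_code h).1), (mem_x32 l16b_code h).2⟩
  obtain ⟨k1, k2⟩ := e63_snd hm.2
  rw [kind_code hm.2] at hk ⊢
  rcases of_decide_eq_true (List.all_eq_true.1 hc _ hm.1) hk with ⟨h5, he⟩ | ⟨⟨r, hr, e⟩, hcase⟩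
  · exact Or.inl ⟨h5, e63_inj hm.2 (Or.inl rfl) (by rw [he]; decide +kernel)⟩
  refine Or.inr ⟨?_, ?_⟩
  · rw [← conjs_code, List.mem_map] at hr
    obtain ⟨ρ, hρ, rfl⟩ := hr
    refine ⟨ρ, hρ, mul_inv_eq_iff_eq_mul.2 (e6_inj ?_)⟩
    rw [e6_mul, e6_mul, rep6_code _ (moved_lt _), moved_code]
    exact e
  · rw [moved_code]
    rcases hcase with ⟨a, b, d⟩ | ⟨a, b, d⟩ | ⟨a, b, d⟩ | ⟨a, b, d⟩ | ⟨a, b, d⟩ | ⟨a, b, d⟩
    exacts [Or.inl ⟨a, b, k2.2 d⟩, Or.inr (Or.inl ⟨a, b, k1.2 d⟩), Or.inr (Or.inr (Or.inl ⟨a, b, k2.2 d⟩)),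
      Or.inr (Or.inr (Or.inr (Or.inl ⟨a, b, k1.2 d⟩))), Or.inr (Or.inr (Or.inr (Or.inr (Or.inl ⟨a, b, k2.2 d⟩)))),
      Or.inr (Or.inr (Or.inr (Or.inr (Or.inr ⟨a, b, k1.2 d⟩))))]

/-- The block reflection in the model. -/
def dd : P63 := (1, swap 0 1)

/-- `(03)(14)(25)`. -/
def tt : P63 := (tri, 1)

/-- `(01)`. -/
def d01 : P63 := (swap 0 1, 1)

/-- `(23)(45)`. -/
def zz : P63 := (swap 2 3 * swap 4 5, 1)

/-- `(24)(35)`. -/
def ww : P63 := (swap 2 4 * swap 3 5, 1)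

/-- The four group over `(01)`. -/
def l8 : List (Perm (Fin 6)) :=
  (([1, swap 0 1] : List (Perm (Fin 6))).flatMap fun a =>
    ([1, swap 2 3 * swap 4 5, swap 2 4 * swap 3 5, swap 2 5 * swap 3 4] : List (Perm (Fin 6))).map fun b => a * b)

theorem pick_gens : (swap 1 2 * swap 4 5, (1 : Perm (Fin 3))) ∈ l32 l16a ∧
    (swap 1 4, (1 : Perm (Fin 3))) ∈ l32 l16a ∧ ww ∈ l32 l16b ∧
    (swap 2 3, (1 : Perm (Fin 3))) ∈ l32 l16b := by decide +kernel

theorem pick_one_gen : ∀ u ∈ l32 l16a, u.1 * (swap 1 2 * swap 4 5) = swap 1 2 * swap 4 5 * u.1 →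
    u.1 * swap 1 4 = swap 1 4 * u.1 → compat (kind u) (kind dd) = true →
    compat (kind (u * tt)) (kind (dd * tt)) = true → u = dd := by
  have hc : ∀ x ∈ x32 A16, m6c x.1 153168 = m6c 153168 x.1 → m6c x.1 169632 = m6c 169632 x.1 →
      compat (kindC x) (kindC (181896, true)) = true →
      compat (kindC (m6c x.1 69987, x.2)) (kindC (69987, true)) = true → x = (181896, true) := by decide +kernel
  intro u hu h1 h2 k1 k2
  obtain ⟨hm, hs⟩ := mem_x32 l16a_code hu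
  have c1 : e6 (swap 1 2 * swap 4 5) = 153168 ∧ e6 (swap 1 4) = 169632 ∧ e6 tri = 69987 := by decide +kernel
  have ed : e63 dd = (181896, true) ∧ e63 (dd * tt) = (69987, true) := by decide +kernel
  have hd : dd.2 = 1 ∨ dd.2 = swap 0 1 := Or.inr rfl
  have hdt : (dd * tt).2 = 1 ∨ (dd * tt).2 = swap 0 1 := Or.inr (by simp [dd, tt])
  have hut : (u * tt).2 = u.2 := by simp [tt]
  have eu : e63 (u * tt) = (m6c (e6 u.1) 69987, (e63 u).2) := by
    simp only [e63, hut, Prod.fst_mul, e6_mul, show e6 tt.1 = 69987 from c1.2.2]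
  rw [kind_code hs, kind_code hd, ed.1] at k1
  rw [kind_code (hut ▸ hs), kind_code hdt, eu, ed.2] at k2
  rw [e6_iff, e6_mul, e6_mul (swap 1 2 * swap 4 5) u.1, c1.1] at h1
  rw [e6_iff, e6_mul, e6_mul, c1.2.1] at h2
  exact e63_inj hs hd ((hc _ hm h1 h2 k1 k2).trans ed.1.symm)

theorem pick_two_gen : ∀ u ∈ l32 l16b, u.1 * (swap 2 4 * swap 3 5) = swap 2 4 * swap 3 5 * u.1 →
    u.1 * swap 2 3 = swap 2 3 * u.1 →
    u ∉ ([1, d01, zz, d01 * zz] : List P63) → compat (kind u) (kind dd) = true →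
    compat (kind (u * d01)) (kind (dd * d01)) = true → u = dd := by
  have hc : ∀ x ∈ x32 B16, m6c x.1 109320 = m6c 109320 x.1 → m6c x.1 181448 = m6c 181448 x.1 →
      x ∉ ([(181896, false), (181889, false), (152776, false), (152769, false)] : List (ℕ × Bool)) →
      compat (kindC x) (kindC (181896, true)) = true →
      compat (kindC (m6c x.1 181889, x.2)) (kindC (181889, true)) = true → x = (181896, true) := by decide +kernel
  intro u hu h1 h2 h3 k1 k2
  obtain ⟨hm, hs⟩ := mem_x32 l16b_code hu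
  have c1 : e6 (swap 2 4 * swap 3 5) = 109320 ∧ e6 (swap 2 3) = 181448 ∧ e6 (swap 0 1) = 181889 := by decide +kernel
  have ed : e63 dd = (181896, true) ∧ e63 (dd * d01) = (181889, true) := by decide +kernel
  have hd : dd.2 = 1 ∨ dd.2 = swap 0 1 := Or.inr rfl
  have hdt : (dd * d01).2 = 1 ∨ (dd * d01).2 = swap 0 1 := Or.inr (by simp [dd, d01])
  have hut : (u * d01).2 = u.2 := by simp [d01]
  have eu : e63 (u * d01) = (m6c (e6 u.1) 181889, (e63 u).2) := by
    simp only [e63, hut, Prod.fst_mul, e6_mul, show e6 d01.1 = 181889 from c1.2.2]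
  have e4 : ([1, d01, zz, d01 * zz] : List P63).map e63 =
      [(181896, false), (181889, false), (152776, false), (152769, false)] := by decide +kernel
  have hn : e63 u ∉ ([(181896, false), (181889, false), (152776, false), (152769, false)] : List (ℕ × Bool)) := by
    rw [← e4]
    intro h
    obtain ⟨v, hv, e⟩ := List.mem_map.1 h
    refine h3 (e63_inj hs ?_ e.symm ▸ hv)
    simp only [List.mem_cons, List.not_mem_nil, or_false] at hv
    rcases hv with rfl | rfl | rfl | rfl <;> exact Or.inl (by simp [d01, zz])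
  rw [kind_code hs, kind_code hd, ed.1] at k1
  rw [kind_code (hut ▸ hs), kind_code hdt, eu, ed.2] at k2
  rw [e6_iff, e6_mul, e6_mul (swap 2 4 * swap 3 5) u.1, c1.1] at h1
  rw [e6_iff, e6_mul, e6_mul, c1.2.1] at h2
  exact e63_inj hs hd ((hc _ hm h1 h2 hn k1 k2).trans ed.1.symm)

theorem pick_one : ∀ u ∈ l32 l16a, (∀ v ∈ l32 l16a, u * v = v * u) → compat (kind u) (kind dd) = true →
    compat (kind (u * tt)) (kind (dd * tt)) = true → u = dd := fun u hu hc =>
  pick_one_gen u hu (congrArg Prod.fst (hc _ pick_gens.1)) (congrArg Prod.fst (hc _ pick_gens.2.1))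

theorem pick_two : ∀ u ∈ l32 l16b, (∀ v ∈ l32 l16b, u * v = v * u) →
    u ∉ ([1, d01, zz, d01 * zz] : List P63) → compat (kind u) (kind dd) = true →
    compat (kind (u * d01)) (kind (dd * d01)) = true → u = dd := fun u hu hc =>
  pick_two_gen u hu (congrArg Prod.fst (hc _ pick_gens.2.2.1)) (congrArg Prod.fst (hc _ pick_gens.2.2.2))

theorem pick_w : ∀ u ∈ l32 l16b, u * u = 1 → compat (kind u) (kind ww) = true →
    compat (kind (d01 * u)) (kind (d01 * ww)) = true →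
    compat (kind (dd * d01 * u)) (kind (dd * d01 * ww)) = true → u.2 = 1 ∧ u.1 ∈ l8 := by
  have hc : ∀ x ∈ x32 B16, m6c x.1 x.1 = 181896 → compat (kindC x) (kindC (109320, false)) = true →
      compat (kindC (m6c 181889 x.1, x.2)) (kindC (m6c 181889 109320, false)) = true →
      compat (kindC (m6c 181889 x.1, !x.2)) (kindC (m6c 181889 109320, true)) = true →
      x.2 = false ∧ x.1 ∈ ([181896, 152776, 109320, 80200, 181889, 152769, 109313, 80193] : List ℕ) := by decide +kernel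
  have e8 : l8.map e6 = [181896, 152776, 109320, 80200, 181889, 152769, 109313, 80193] := by decide +kernel
  intro u hu h2 k1 k2 k3
  obtain ⟨hm, hs⟩ := mem_x32 l16b_code hu
  have cw : e63 ww = (109320, false) ∧ e63 (d01 * ww) = (m6c 181889 109320, false) ∧
      e63 (dd * d01 * ww) = (m6c 181889 109320, true) := by decide +kernel
  have c0 : e6 d01.1 = 181889 := by decide +kernel
  have q1 : (d01 * u).2 = u.2 := by simp [d01]
  have q2 : (dd * d01 * u).2 = swap 0 1 * u.2 := by simp [dd, d01]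
  have q3 : (dd * d01 * u).1 = d01.1 * u.1 := by simp [dd, d01]
  have hsw : swap (0 : Fin 3) 1 * u.2 = 1 ∨ swap (0 : Fin 3) 1 * u.2 = swap 0 1 := by
    rcases hs with e | e <;> simp [e]
  have hnot : decide (swap (0 : Fin 3) 1 * u.2 = swap 0 1) = !decide (u.2 = swap 0 1) := by
    rcases hs with e | e <;> rw [e] <;> decide +kernel
  have u1 : e63 (d01 * u) = (m6c 181889 (e6 u.1), (e63 u).2) := by
    simp only [e63, q1, Prod.fst_mul, e6_mul, c0]
  have u2 : e63 (dd * d01 * u) = (m6c 181889 (e6 u.1), !(e63 u).2) := by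
    simp only [e63, q2, q3, e6_mul, c0, hnot]
  rw [kind_code hs, kind_code (Or.inl rfl), cw.1] at k1
  rw [kind_code (q1 ▸ hs), kind_code (Or.inl (by simp [d01, ww])), u1, cw.2.1] at k2
  rw [kind_code (q2 ▸ hsw), kind_code (Or.inr (by simp [dd, d01, ww])), u2, cw.2.2] at k3
  have h2' : m6c (e6 u.1) (e6 u.1) = 181896 := by
    rw [← e6_mul, show u.1 * u.1 = 1 from congrArg Prod.fst h2, e6_one]
  obtain ⟨r1, r2⟩ := hc _ hm h2' k1 k2 k3
  exact ⟨(e63_snd hs).1.2 r1, mem_code.2 (e8 ▸ r2)⟩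

theorem comm_sixteen : ∀ u ∈ l16b, ∀ v ∈ l16b,
    u * v * u⁻¹ * v⁻¹ = 1 ∨ u * v * u⁻¹ * v⁻¹ = swap 2 3 * swap 4 5 := by
  have hc : ∀ a ∈ B16, ∀ b ∈ B16, m6c a b = m6c b a ∨ m6c a b = m6c (m6c 152776 b) a := by decide +kernel
  have ez : e6 (swap 2 3 * swap 4 5) = 152776 := by decide +kernel
  intro u hu v hv
  rcases hc _ (l16b_code ▸ mem_code.1 hu) _ (l16b_code ▸ mem_code.1 hv) with e | e
  · left
    have := e6_inj (σ := u * v) (τ := v * u) (by rw [e6_mul, e6_mul, e])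
    rw [this]; group
  · right
    have := e6_inj (σ := u * v) (τ := swap 2 3 * swap 4 5 * v * u) (by rw [e6_mul, e6_mul, e6_mul, ez, e])
    rw [this]; group

theorem comm_pi : ∀ π ρ : Perm (Fin 3), (π = 1 ∨ π = swap 0 1) → (ρ = 1 ∨ ρ = swap 0 1) →
    π * ρ * π⁻¹ * ρ⁻¹ = 1 := by decide +kernel

theorem comm_two : (∀ u ∈ l32 l16b, ∀ v ∈ l32 l16b, u * v * u⁻¹ * v⁻¹ = 1 ∨ u * v * u⁻¹ * v⁻¹ = zz) ∧
    (swap 2 3, (1 : Perm (Fin 3))) ∈ l32 l16b ∧ ww ∈ l32 l16b ∧
    (swap 2 3, (1 : Perm (Fin 3))) * ww * (swap 2 3, (1 : Perm (Fin 3)))⁻¹ * ww⁻¹ = zz ∧ zz ≠ 1 := by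
  refine ⟨fun u hu v hv => ?_, pick_gens.2.2.2, pick_gens.2.2.1, by decide +kernel, by decide +kernel⟩
  rw [mem_l32] at hu hv
  exact (comm_sixteen _ hu.1 _ hv.1).imp (fun h => Prod.ext h (comm_pi _ _ hu.2 hv.2))
    fun h => Prod.ext h (comm_pi _ _ hu.2 hv.2)

theorem tri_sixteen : ∀ σ ∈ l16a, tri * σ = σ * tri := by
  have hc : ∀ a ∈ A16, m6c 69987 a = m6c a 69987 := by decide +kernel
  have et : e6 tri = 69987 := by decide +kernel
  intro σ hσ
  exact e6_inj (by rw [e6_mul, e6_mul, et]; exact hc _ (l16a_code ▸ mem_code.1 hσ))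

theorem swap_sixteen : ∀ σ ∈ l16b, swap 0 1 * σ = σ * swap 0 1 := by
  have hc : ∀ a ∈ B16, m6c 181889 a = m6c a 181889 := by decide +kernel
  have et : e6 (swap 0 1) = 181889 := by decide +kernel
  intro σ hσ
  exact e6_inj (by rw [e6_mul, e6_mul, et]; exact hc _ (l16b_code ▸ mem_code.1 hσ))

theorem central_mem : dd ∈ l32 l16a ∧ dd ∈ l32 l16b ∧ tt ∈ l32 l16a ∧ d01 ∈ l32 l16b ∧
    (∀ v ∈ l32 l16a, dd * v = v * dd ∧ tt * v = v * tt) ∧
    (∀ v ∈ l32 l16b, dd * v = v * dd ∧ d01 * v = v * d01) := by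
  have hd : ∀ (σ : Perm (Fin 6)) (π : Perm (Fin 3)), (π = 1 ∨ π = swap 0 1) → dd * (σ, π) = (σ, π) * dd := by
    rintro σ π (rfl | rfl) <;> exact Prod.ext (by simp [dd]) (by simp [dd])
  refine ⟨by decide +kernel, by decide +kernel, by decide +kernel, by decide +kernel, ?_, ?_⟩
  all_goals
    intro v hv
    rw [mem_l32] at hv
    refine ⟨hd v.1 v.2 hv.2, Prod.ext ?_ (by simp [tt, d01])⟩
  · exact tri_sixteen _ hv.1
  · exact swap_sixteen _ hv.1

variable {G : Type u} [Group G] [Finite G] {S : Setup G} {F : S.Frame} (c : F.CaseII)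
  (hy : Subgroup.centralizer ({F.φ (C1 * C2)} : Set G) ≤ Subgroup.normalizer (S.J : Set G))

theorem e_dbl : e c (dbl, 1) = F.φ (D1 * D2) := by
  rw [e_left, dbl, map_mul c.ι, map_mul, c.six.map_d1, c.six.map_d2]

theorem e_d01 : e c d01 = F.φ D1 := by rw [d01, e_left, c.six.map_d1]

theorem e_tt : e c tt = F.φ Tau := by rw [tt, e_left, tri, c.six.map_tau]

/-- The meaning of the tags. -/
def Fits (F : S.Frame) (k : ℕ) (i : G) : Prop :=
  (k = 0) ∨ (k = 5 ∧ i = 1) ∨ ((k = 1 ∨ k = 4) ∧ Nine i) ∨ (k = 2 ∧ ¬ Nine i ∧ ¬ HasY F i) ∨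
    (k = 3 ∧ ¬ Nine i ∧ HasY F i)

theorem conj_iff_inv {P : G → Prop} (hP : ∀ {i : G}, P i → ∀ g, P (g * i * g⁻¹)) (g i : G) :
    P (g * i * g⁻¹) ↔ P i :=
  ⟨fun h => by simpa [mul_assoc] using hP h g⁻¹, fun h => hP h g⟩

theorem Fits.conj {k : ℕ} {i : G} (h : Fits F k i) (g : G) : Fits F k (g * i * g⁻¹) := by
  have h1 : Nine (g * i * g⁻¹) ↔ Nine i := conj_iff_inv (P := @Nine G _) (fun h g => Nine.conj h g) g i
  have h2 : HasY F (g * i * g⁻¹) ↔ HasY F i := conj_iff_inv (P := HasY F) (fun h g => HasY.conj h g) g i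
  rcases h with h | ⟨h, rfl⟩ | h | h | h
  · exact Or.inl h
  · exact Or.inr (Or.inl ⟨h, by group⟩)
  · exact Or.inr (Or.inr (Or.inl ⟨h.1, h1.2 h.2⟩))
  · exact Or.inr (Or.inr (Or.inr (Or.inl ⟨h.1, mt h1.1 h.2.1, mt h2.1 h.2.2⟩)))
  · exact Or.inr (Or.inr (Or.inr (Or.inr ⟨h.1, mt h1.1 h.2.1, h2.2 h.2.2⟩)))

include hy in
theorem fits {p : P63} (hp : p ∈ l64) : Fits F (kind p) (e c p) := by
  rcases Nat.eq_zero_or_pos (kind p) with h0 | h0
  · exact Or.inl h0
  rcases to_rep p hp (by omega) with ⟨h5, rfl⟩ | ⟨⟨ρ, -, hρ⟩, hk⟩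
  · exact Or.inr (Or.inl ⟨h5, map_one _⟩)
  have hpe : e c p = (e c (ρ, 1))⁻¹ * e c (rep6 (moved p.1), p.2) * ((e c (ρ, 1))⁻¹)⁻¹ := by
    rw [inv_inv, ← map_inv, ← map_mul, ← map_mul, ← hρ]
    exact congrArg (e c) (Prod.ext (by simp [mul_assoc]) (by simp))
  rw [hpe]
  refine Fits.conj ?_ _
  have hrot : ∀ w w' : W, Rot * w * Rot⁻¹ = w' → F.φ w' = F.φ Rot * F.φ w * (F.φ Rot)⁻¹ :=
    fun w w' h => by rw [← h]; simp only [map_mul, map_inv]
  rcases hk with ⟨hk, hm, h2⟩ | ⟨hk, hm, h2⟩ | ⟨hk, hm, h2⟩ | ⟨hk, hm, h2⟩ | ⟨hk, hm, h2⟩ | ⟨hk, hm, h2⟩ <;>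
    rw [hk, hm, h2]
  · exact Or.inr (Or.inr (Or.inl ⟨Or.inl rfl, nine_d c⟩))
  · refine Or.inr (Or.inr (Or.inl ⟨Or.inl rfl, ?_⟩))
    change Nine (e c d01)
    rw [e_d01, hrot D3 D1 (Subtype.ext (by decide +kernel)), ← e_d3 c]
    exact (nine_d c).conj _
  · refine Or.inr (Or.inr (Or.inr (Or.inl ⟨rfl, ?_⟩)))
    have h : e c (rep6 2, swap 0 1) = F.φ Rot * F.φ Rot * e c (dbl, 1) * (F.φ Rot * F.φ Rot)⁻¹ := by
      rw [e_dbl, e_apply, blk_swap, show rep6 2 = swap 0 1 from rfl, c.six.map_d1, ← map_mul,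
        hrot (D2 * D3) (D1 * D3) (Subtype.ext (by decide +kernel)),
        hrot (D1 * D2) (D2 * D3) (Subtype.ext (by decide +kernel))]
      group
    have hf : Fits F 2 (e c (dbl, 1)) := Or.inr (Or.inr (Or.inr (Or.inl
      ⟨rfl, not_nine_dbl c, not_hasY_dbl c hy⟩)))
    rw [h]
    rcases hf.conj (F.φ Rot * F.φ Rot) with h | h | h | h | h
    · norm_num at h
    · norm_num at h
    · norm_num at h
    · exact h.2
    · norm_num at h
  · exact Or.inr (Or.inr (Or.inr (Or.inl ⟨rfl, not_nine_dbl c, not_hasY_dbl c hy⟩)))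
  · refine Or.inr (Or.inr (Or.inr (Or.inr ⟨rfl, ?_⟩)))
    have h : e c (rep6 6, swap 0 1) = F.φ (Tau * D3) := by
      rw [e_apply, blk_swap, map_mul, show rep6 6 = tri from rfl, tri, c.six.map_tau]
    rw [h]
    exact ⟨not_nine_q hy, hasY_q⟩
  · exact Or.inr (Or.inr (Or.inl ⟨Or.inr rfl, nine_tri c⟩))

include hy in
/-- Fused elements have fusible tags. -/
theorem compat_of_conj {p q : P63} (hp : p ∈ l64) (hq : q ∈ l64) {g : G} (h : g * e c p * g⁻¹ = e c q) :
    compat (kind p) (kind q) = true := by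
  have h1 := (fits c hy hp).conj g
  rw [h] at h1
  have h2 := fits c hy hq
  have hne : ∀ r ∈ l64, e c r = 1 → kind r = 5 := by
    intro r _ hr
    rw [e_inj c (hr.trans (map_one _).symm)]
    decide +kernel
  have hp1 : e c q = 1 → kind p = 5 := fun h' => hne p hp (by rwa [h', conj_eq_one_iff] at h)
  rcases h1 with a | ⟨a, a'⟩ | ⟨a, a'⟩ | ⟨a, a', a''⟩ | ⟨a, a', a''⟩ <;>
    rcases h2 with b | ⟨b, b'⟩ | ⟨b, b'⟩ | ⟨b, b', b''⟩ | ⟨b, b', b''⟩
  all_goals
    first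
      | (rw [a, hne q hq a']; rfl)
      | (rw [b, hp1 b']; rfl)
      | (simp [compat, a]; done)
      | (simp [compat, b]; done)
      | (exfalso; exact a' b')
      | (exfalso; exact b' a')
      | (exfalso; exact a'' b'')
      | (exfalso; exact b'' a'')
      | (rcases a with a | a <;> rcases b with b | b <;> simp [compat, a, b] <;> done)
      | (simp [compat, a, b]; done)

end Cfsg.Agent.Sp62Three31.Bridge
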