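import Cfsg.Agent.Lib.Sp62Three31BridgeBase

/-!
Generation by the centralisers of the four lines of a group of order nine, and the facts on the centraliser
of `a` used by the bridge step of S3342.
-/

set_option autoImplicit false
set_option maxRecDepth 100000

namespace Cfsg.Agent.Sp62Three31.Bridge

open Equiv S9Model37 S9Base37

universe u

variable {G : Type u} [Group G]

/-- A `3'`-group normalised by two commuting elements of order three is generated by four centralisers. -/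
theorem le_of_four [Finite G] {u v : G} {K H : Subgroup G} (huv : Commute u v) (hu : u ^ 3 = 1) (hv : v ^ 3 = 1)
    (hv1 : v ≠ 1) (hnm : u ∉ Subgroup.zpowers v) (hun : u ∈ Subgroup.normalizer (K : Set G))
    (hvn : v ∈ Subgroup.normalizer (K : Set G)) (hK : ¬ 3 ∣ Nat.card K)
    (h1 : ∀ g ∈ K, g * u = u * g → g ∈ H) (h2 : ∀ g ∈ K, g * v = v * g → g ∈ H)
    (h3 : ∀ g ∈ K, g * (u * v) = u * v * g → g ∈ H) (h4 : ∀ g ∈ K, g * (u * v⁻¹) = u * v⁻¹ * g → g ∈ H) :
    K ≤ H := by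
  haveI : Fact (Nat.Prime 3) := ⟨Nat.prime_three⟩
  refine CoprimeGen.le_of_pair_centralizers (p := 3) (a := u) (b := v)
    ⟨huv, hu, hv, hv1, hnm, hun, hvn⟩ hK ?_
  intro x hx hx1 g hg
  obtain ⟨hgK, hgx⟩ := Subgroup.mem_inf.1 hg
  have hgx' : Commute g x := mem_cent.1 hgx
  obtain ⟨m, n, rfl⟩ := CoprimeGen.mem_pairSubgroup_iff.1 hx
  have hred : ∀ (w : G) (k : ℤ), w ^ 3 = 1 → w ^ k = 1 ∨ w ^ k = w ∨ w ^ k = w⁻¹ := by
    intro w k hw
    have h3' : w ^ (3 : ℤ) = 1 := by rw [show (3 : ℤ) = ((3 : ℕ) : ℤ) from rfl, zpow_natCast, hw]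
    have hk : w ^ k = w ^ (k % 3) := by
      conv_lhs => rw [← Int.emod_add_mul_ediv k 3, zpow_add, zpow_mul, h3', one_zpow, mul_one]
    have hr : k % 3 = 0 ∨ k % 3 = 1 ∨ k % 3 = 2 := by omega
    rcases hr with h | h | h <;> rw [hk, h]
    · simp
    · simp
    · right; right
      rw [eq_inv_iff_mul_eq_one, ← zpow_add_one, show (2 : ℤ) + 1 = 3 from rfl, h3']
  rcases hred u m hu with a | a | a <;> rcases hred v n hv with b | b | b <;> rw [a, b] at hgx' hx1
  · simp at hx1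
  · exact h2 g hgK (by simpa using hgx'.eq)
  · exact h2 g hgK (Commute.inv_right_iff.1 (by simpa using hgx')).eq
  · exact h1 g hgK (by simpa using hgx'.eq)
  · exact h3 g hgK hgx'.eq
  · exact h4 g hgK hgx'.eq
  · exact h1 g hgK (Commute.inv_right_iff.1 (by simpa using hgx')).eq
  · refine h4 g hgK (Commute.inv_right_iff.1 ?_).eq
    rwa [mul_inv_rev, inv_inv, ← huv.inv_left.eq]
  · refine h3 g hgK (Commute.inv_right_iff.1 ?_).eq
    rwa [mul_inv_rev, ← huv.inv_inv.eq]

section Centre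

variable {S : Setup G} (F : S.Frame)

/-- The elements of `W` mapped onto the extraspecial core. -/
def qel (i j k : Fin 3) : W := (C1 * C2⁻¹) ^ i.val * (C1 * C2 * C3) ^ j.val * Rot ^ k.val

theorem qel_inj : ∀ i j k i' j' k' : Fin 3, qel i j k = qel i' j' k' → i = i' ∧ j = j' ∧ k = k' := by
  have h : ∀ i j k : Fin 3, (qel i j k : P9) = 1 → i = 0 ∧ j = 0 ∧ k = 0 := by decide +kernel
  have h2 : ∀ i j k i' j' k' : Fin 3, (qel i j k : P9) = qel i' j' k' → i = i' ∧ j = j' ∧ k = k' := by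
    decide +kernel
  exact fun i j k i' j' k' e => h2 i j k i' j' k' (congrArg Subtype.val e)

theorem qel_tau : (∀ i j k : Fin 3, (qel i j k : P9) * tau = tau * qel i j k → i = 0 ∧ k = 0) ∧
    (∀ i j k : Fin 3, (tau * qel i j k) * (tau * qel i j k) = 1 →
      ∃ i' j' k' : Fin 3, (qel i' j' k' : P9) * tau = tau * qel i j k * qel i' j' k') ∧
    (∀ i j k : Fin 3, (qel i j k : P9) ≠ c1 * c2 ∧ (qel i j k : P9) ≠ tau) := by
  refine ⟨?_, ?_, ?_⟩ <;> decide +kernel

/-- The projection onto `SL(2,3)`. -/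
def proj : Subgroup.centralizer ({S.a} : Set G) →* PSpAmalgam31.SL23 :=
  S.e.toMonoidHom.comp (QuotientGroup.mk' _)

theorem proj_surj : Function.Surjective (proj (S := S)) :=
  S.e.surjective.comp (QuotientGroup.mk'_surjective _)

theorem proj_eq_one {g : Subgroup.centralizer ({S.a} : Set G)} :
    proj g = 1 ↔ g ∈ Cfsg.pCore 3 (Subgroup.centralizer ({S.a} : Set G)) := by
  simp [proj]

theorem phi_mem {w : W} (h : w * (C1 * C2 * C3) = C1 * C2 * C3 * w) :
    F.φ w ∈ Subgroup.centralizer ({S.a} : Set G) := by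
  rw [mem_cent, ← F.map_a, ← map_mul, ← map_mul, h]

/-- An element of `W` centralising `a`, in the centraliser. -/
def inC {w : W} (h : w * (C1 * C2 * C3) = C1 * C2 * C3 * w) : Subgroup.centralizer ({S.a} : Set G) :=
  ⟨F.φ w, phi_mem F h⟩

theorem qel_comm (i j k : Fin 3) : qel i j k * (C1 * C2 * C3) = C1 * C2 * C3 * qel i j k := by
  have h : ∀ i j k : Fin 3, (qel i j k : P9) * (c1 * c2 * c3) = c1 * c2 * c3 * qel i j k := by decide +kernel
  exact Subtype.ext (h i j k)

theorem tau_comm : Tau * (C1 * C2 * C3) = C1 * C2 * C3 * Tau := Subtype.ext (by decide +kernel)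

theorem proj_tau : proj (inC F tau_comm) = PSpAmalgam31.sneg := by
  have h2 : inC F tau_comm * inC F tau_comm = 1 := by
    refine Subtype.ext ?_
    show F.φ Tau * F.φ Tau = 1
    rw [← map_mul, show Tau * Tau = 1 from Subtype.ext (by decide +kernel), map_one]
  rcases PSpAmalgam31.sl_invol (proj (inC F tau_comm)) (by rw [← map_mul, h2, map_one]) with h | h
  · exfalso
    rw [proj_eq_one] at h
    have h3 := S.hRexp _ h
    rw [pow_three, ← mul_assoc, h2, one_mul] at h3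
    have : Tau = 1 := F.inj ((congrArg Subtype.val h3).trans (map_one _).symm)
    exact absurd (congrArg Subtype.val this) (by decide +kernel)
  · exact h

theorem qel_mem (i j k : Fin 3) : proj (inC F (qel_comm i j k)) = 1 := by
  have hc : ∀ (w : W) (hw : w * (C1 * C2 * C3) = C1 * C2 * C3 * w) (w' : W)
      (hw' : w' * (C1 * C2 * C3) = C1 * C2 * C3 * w') (hww : (w * w') * (C1 * C2 * C3) = C1 * C2 * C3 * (w * w')),
      proj (inC F hww) = proj (inC F hw) * proj (inC F hw') := by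
    intro w hw w' hw' hww
    rw [← map_mul]
    exact congrArg proj (Subtype.ext (map_mul F.φ w w'))
  -- `a`, `Rot` and `C₁C₂⁻¹` lie in the core
  have hA : (C1 * C2 * C3) * (C1 * C2 * C3) = C1 * C2 * C3 * (C1 * C2 * C3) := rfl
  have ha : proj (inC F hA) = 1 := by
    set u := proj (inC F hA) with hu
    have hcen : ∀ b, u * b = b * u := by
      intro b
      obtain ⟨g, rfl⟩ := proj_surj (S := S) b
      rw [hu, ← map_mul, ← map_mul]
      refine congrArg proj (Subtype.ext ?_)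
      show F.φ (C1 * C2 * C3) * g = g * F.φ (C1 * C2 * C3)
      rw [F.map_a]; exact (mem_cent.1 g.2).symm
    have h3 : u * u * u = 1 := by
      rw [hu, ← map_mul, ← map_mul, ← map_one (proj (S := S))]
      refine congrArg proj (Subtype.ext ?_)
      show F.φ _ * F.φ _ * F.φ _ = 1
      rw [← map_mul, ← map_mul, show C1 * C2 * C3 * (C1 * C2 * C3) * (C1 * C2 * C3) = 1 from
        Subtype.ext (by decide +kernel), map_one]
    rcases PSpAmalgam31.sl_center u hcen with h | h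
    · exact h
    · rw [h, PSpAmalgam31.sneg_spec.1, one_mul] at h3
      exact absurd h3 PSpAmalgam31.sneg_spec.2
  have hT' : Rot * Tau * Rot⁻¹ * (C1 * C2 * C3) = C1 * C2 * C3 * (Rot * Tau * Rot⁻¹) :=
    Subtype.ext (by decide +kernel)
  have hR : Rot * (C1 * C2 * C3) = C1 * C2 * C3 * Rot := Subtype.ext (by decide +kernel)
  have hTsq : proj (inC F hT') * proj (inC F hT') = 1 := by
    rw [← map_mul, ← map_one (proj (S := S))]
    refine congrArg proj (Subtype.ext ?_)
    show F.φ _ * F.φ _ = 1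
    rw [← map_mul, show Rot * Tau * Rot⁻¹ * (Rot * Tau * Rot⁻¹) = 1 from Subtype.ext (by decide +kernel),
      map_one]
  have hT1 : proj (inC F hT') = PSpAmalgam31.sneg := by
    have he : proj (inC F hT') = proj (inC F hR) * proj (inC F tau_comm) * (proj (inC F hR))⁻¹ := by
      rw [← map_inv, ← map_mul, ← map_mul]
      exact congrArg proj (Subtype.ext (by show F.φ _ = F.φ _ * F.φ _ * (F.φ _)⁻¹; simp only [map_mul, map_inv]))
    rw [he, proj_tau, ← PSpAmalgam31.sneg_central, mul_inv_cancel_right]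
  have hr : proj (inC F hR) = 1 := by
    have key : Rot = Tau * (Rot * Tau * Rot⁻¹) ∨ Rot⁻¹ = Tau * (Rot * Tau * Rot⁻¹) := by
      rcases (by decide +kernel : rot = tau * (rot * tau * rot⁻¹) ∨ rot⁻¹ = tau * (rot * tau * rot⁻¹)) with h | h
      · exact Or.inl (Subtype.ext h)
      · exact Or.inr (Subtype.ext h)
    have hTT : proj (inC F tau_comm) * proj (inC F hT') = 1 := by rw [proj_tau, hT1, PSpAmalgam31.sneg_spec.1]
    rcases key with h | h
    · rw [← hTT, ← map_mul]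
      exact congrArg proj (Subtype.ext ((congrArg F.φ h).trans (map_mul _ _ _)))
    · rw [← inv_eq_one, ← hTT, ← map_inv, ← map_mul]
      exact congrArg proj (Subtype.ext ((map_inv F.φ Rot).symm.trans ((congrArg F.φ h).trans (map_mul _ _ _))))
  have hP : C1 * C2⁻¹ * (C1 * C2 * C3) = C1 * C2 * C3 * (C1 * C2⁻¹) := Subtype.ext (by decide +kernel)
  have hC1 : C1 * (C1 * C2 * C3) = C1 * C2 * C3 * C1 := Subtype.ext (by decide +kernel)
  have hp : proj (inC F hP) = 1 := by
    have he : (∃ s : Bool, ((C1 * C2⁻¹ : W) : P9) = if s then c1 * rot * c1⁻¹ * rot⁻¹ else (c1 * rot * c1⁻¹ * rot⁻¹)⁻¹) ∨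
        (∃ s : Bool, ((C1 * C2⁻¹ : W) : P9) = if s then c1 * rot⁻¹ * c1⁻¹ * rot else (c1 * rot⁻¹ * c1⁻¹ * rot)⁻¹) := by
      decide +kernel
    have h1 : proj (inC F hC1) * proj (inC F hR) * (proj (inC F hC1))⁻¹ * (proj (inC F hR))⁻¹ = 1 := by
      rw [hr]; group
    have h2 : proj (inC F hC1) * (proj (inC F hR))⁻¹ * (proj (inC F hC1))⁻¹ * proj (inC F hR) = 1 := by
      rw [hr]; group
    rcases he with ⟨s, hs⟩ | ⟨s, hs⟩ <;> cases s
    · rw [← inv_eq_one, ← h1]
      simp only [← map_inv, ← map_mul]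
      refine congrArg proj (Subtype.ext ?_)
      show (F.φ (C1 * C2⁻¹))⁻¹ = F.φ C1 * F.φ Rot * (F.φ C1)⁻¹ * (F.φ Rot)⁻¹
      rw [show C1 * C2⁻¹ = (C1 * Rot * C1⁻¹ * Rot⁻¹)⁻¹ from Subtype.ext hs]
      simp only [map_mul, map_inv, inv_inv]
    · rw [← h1]
      simp only [← map_inv, ← map_mul]
      refine congrArg proj (Subtype.ext ?_)
      show F.φ (C1 * C2⁻¹) = F.φ C1 * F.φ Rot * (F.φ C1)⁻¹ * (F.φ Rot)⁻¹
      rw [show C1 * C2⁻¹ = C1 * Rot * C1⁻¹ * Rot⁻¹ from Subtype.ext hs]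
      simp only [map_mul, map_inv]
    · rw [← inv_eq_one, ← h2]
      simp only [← map_inv, ← map_mul]
      refine congrArg proj (Subtype.ext ?_)
      show (F.φ (C1 * C2⁻¹))⁻¹ = F.φ C1 * (F.φ Rot)⁻¹ * (F.φ C1)⁻¹ * F.φ Rot
      rw [show C1 * C2⁻¹ = (C1 * Rot⁻¹ * C1⁻¹ * Rot)⁻¹ from Subtype.ext hs]
      simp only [map_mul, map_inv, inv_inv]
    · rw [← h2]
      simp only [← map_inv, ← map_mul]
      refine congrArg proj (Subtype.ext ?_)
      show F.φ (C1 * C2⁻¹) = F.φ C1 * (F.φ Rot)⁻¹ * (F.φ C1)⁻¹ * F.φ Rot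
      rw [show C1 * C2⁻¹ = C1 * Rot⁻¹ * C1⁻¹ * Rot from Subtype.ext hs]
      simp only [map_mul, map_inv]
  have hmain : inC F (qel_comm i j k) = inC F hP ^ i.val * inC F hA ^ j.val * inC F hR ^ k.val := by
    refine Subtype.ext ?_
    simp [inC, qel, map_mul, map_pow]
  rw [hmain, map_mul, map_mul, map_pow, map_pow, map_pow, hp, ha, hr]
  simp

theorem exists_qel [Finite G] {g : Subgroup.centralizer ({S.a} : Set G)} (hg : proj g = 1) :
    ∃ i j k : Fin 3, (g : G) = F.φ (qel i j k) := by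
  let f : Fin 3 × Fin 3 × Fin 3 → Cfsg.pCore 3 (Subgroup.centralizer ({S.a} : Set G)) :=
    fun p => ⟨inC F (qel_comm p.1 p.2.1 p.2.2), proj_eq_one.1 (qel_mem F _ _ _)⟩
  have hf : Function.Injective f := by
    rintro ⟨i, j, k⟩ ⟨i', j', k'⟩ h
    have h' : F.φ (qel i j k) = F.φ (qel i' j' k') :=
      congrArg (fun x : Cfsg.pCore 3 (Subgroup.centralizer ({S.a} : Set G)) => ((x.1 : _) : G)) h
    obtain ⟨rfl, rfl, rfl⟩ := qel_inj _ _ _ _ _ _ (F.inj h')
    rfl
  have hb := (Nat.bijective_iff_injective_and_card f).2 ⟨hf, by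
    rw [S.hRcard, Nat.card_prod, Nat.card_prod, Nat.card_fin]⟩
  obtain ⟨⟨i, j, k⟩, h⟩ := hb.2 ⟨g, proj_eq_one.1 hg⟩
  exact ⟨i, j, k, congrArg (fun x : Cfsg.pCore 3 (Subgroup.centralizer ({S.a} : Set G)) => ((x.1 : _) : G)) h.symm⟩

end Centre

end Cfsg.Agent.Sp62Three31.Bridge
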