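import Cfsg.Agent.Lib.Sp62Three31BridgeKinds
import Cfsg.Agent.Lib.Sp62Three31BridgePair

/-!
The centraliser of `a` and the block exchange, for the bridge step of S3342.
-/

set_option autoImplicit false
set_option maxRecDepth 100000

namespace Cfsg.Agent.Sp62Three31.Bridge

open Equiv S9Model37 S9Base37

universe u

variable {G : Type u} [Group G] [Finite G] {S : Setup G}

/-- The subgroup of `SL(2,3)` of order eight. -/
def q8 : Subgroup PSpAmalgam31.SL23 where
  carrier := {x | x * x * (x * x) = 1}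
  one_mem' := by simp
  mul_mem' {x y} hx hy := PSpAmalgam31.sl_q8_mul x y hx hy
  inv_mem' {x} hx := by
    show x⁻¹ * x⁻¹ * (x⁻¹ * x⁻¹) = 1
    rw [← mul_inv_rev, ← mul_inv_rev, hx, inv_one]

/-- The centraliser of the block exchange and `a`. -/
def dta (F : S.Frame) : Subgroup G :=
  Subgroup.centralizer ({F.φ Tau} : Set G) ⊓ Subgroup.centralizer ({S.a} : Set G)

variable (F : S.Frame)

theorem mem_dta {g : G} : g ∈ dta F ↔ g * F.φ Tau = F.φ Tau * g ∧ g * S.a = S.a * g := by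
  rw [dta, Subgroup.mem_inf, mem_cent, mem_cent]

/-- The elements of the plane. -/
def eel (i j : Fin 3) : W := (C1 * C2 * C3) ^ i.val * (C1 * C2) ^ j.val

theorem eel_inj : ∀ i j i' j' : Fin 3, (((eel i j : P9))⁻¹ * eel i' j') ^ 8 = 1 → i = i' ∧ j = j' := by
  decide +kernel

theorem phi_eel (i j : Fin 3) : F.φ (eel i j) = S.a ^ i.val * F.φ (C1 * C2) ^ j.val := by
  rw [eel, map_mul, map_pow, map_pow, F.map_a]

theorem eel_mem (i j : Fin 3) : F.φ (eel i j) ∈ dta F := by
  have h : ∀ i j : Fin 3, (eel i j : P9) * tau = tau * eel i j ∧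
      (eel i j : P9) * (c1 * c2 * c3) = c1 * c2 * c3 * eel i j := by decide +kernel
  rw [mem_dta, ← F.map_a, ← map_mul, ← map_mul, ← map_mul, ← map_mul]
  exact ⟨congrArg F.φ (Subtype.ext (h i j).1), congrArg F.φ (Subtype.ext (h i j).2)⟩

theorem tau_mem_dta : F.φ Tau ∈ dta F := by
  rw [mem_dta]
  exact ⟨rfl, by rw [← F.map_a, ← map_mul, tau_comm, map_mul]⟩

theorem tau_sq : F.φ Tau * F.φ Tau = 1 := by
  rw [← map_mul, show Tau * Tau = 1 from Subtype.ext (by decide +kernel), map_one]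

theorem tau_ne : F.φ Tau ≠ 1 := fun h =>
  absurd (congrArg Subtype.val (F.inj (h.trans (map_one _).symm))) (by decide +kernel)

/-- The Sylow 2-subgroup of the centraliser of `a` and the block exchange. -/
theorem exists_P : ∃ P : Subgroup G, P ≤ dta F ∧ Nat.card P = 8 ∧ F.φ Tau ∈ P ∧
    (∀ g ∈ dta F, ¬ 3 ∣ orderOf g → g ∈ P) ∧ (∀ g ∈ dta F, g ∈ Subgroup.normalizer (P : Set G)) ∧
    (∀ g ∈ dta F, ∃ i j : Fin 3, ∃ v ∈ P, g = F.φ (eel i j) * v) := by
  classical
  haveI : Fact (Nat.Prime 2) := ⟨Nat.prime_two⟩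
  let incl : dta F →* Subgroup.centralizer ({S.a} : Set G) := Subgroup.inclusion inf_le_right
  let ρ : dta F →* PSpAmalgam31.SL23 := (proj (S := S)).comp incl
  -- the kernel is generated by `a`
  have haD : S.a ∈ dta F := by
    have := eel_mem F 1 0
    rwa [phi_eel, show ((1 : Fin 3).val) = 1 from rfl, show ((0 : Fin 3).val) = 0 from rfl, pow_one, pow_zero,
      mul_one] at this
  have hker : ρ.ker = Subgroup.zpowers (⟨S.a, haD⟩ : dta F) := by
    refine le_antisymm (fun g hg => ?_) (Subgroup.zpowers_le.2 ?_)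
    · obtain ⟨i, j, k, hq⟩ := exists_qel F (g := incl g) hg
      have hq' : (g : G) = F.φ (qel i j k) := hq
      have hc := ((mem_dta F).1 g.2).1
      rw [hq', ← map_mul, ← map_mul] at hc
      obtain ⟨rfl, rfl⟩ := qel_tau.1 i j k (congrArg Subtype.val (F.inj hc))
      refine ⟨(j.val : ℤ), Subtype.ext ?_⟩
      rw [hq']
      simp [qel, F.map_a, map_pow]
    · show proj (incl ⟨S.a, haD⟩) = 1
      have hq := qel_mem F 0 1 0
      convert hq using 2
      exact Subtype.ext (by simp [inC, qel, incl, F.map_a]; rfl)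
  have hkc : Nat.card ρ.ker = 3 := by rw [hker, Nat.card_zpowers, Subgroup.orderOf_mk, S.ha]
  have hsurj : Function.Surjective ρ := by
    intro u
    obtain ⟨g, rfl⟩ := proj_surj (S := S) u
    set t := inC F tau_comm with ht
    have hp : proj (t * (g * t * g⁻¹)) = 1 := by
      simp only [map_mul, map_inv]
      rw [ht, proj_tau, ← PSpAmalgam31.sneg_central, mul_inv_cancel_right, PSpAmalgam31.sneg_spec.1]
    obtain ⟨i, j, k, hq⟩ := exists_qel F hp
    have htt : (t : G) = F.φ Tau := rfl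
    have hgt : (g : G) * F.φ Tau * (g : G)⁻¹ = F.φ (Tau * qel i j k) := by
      rw [map_mul, ← hq]
      simp only [Subgroup.coe_mul, Subgroup.coe_inv, htt]
      rw [← mul_assoc (F.φ Tau) (F.φ Tau), tau_sq, one_mul]
    have hsq : (tau * qel i j k) * (tau * qel i j k) = 1 := by
      have e2 : F.φ (Tau * qel i j k) * F.φ (Tau * qel i j k) = 1 := by
        rw [← hgt]
        calc (g : G) * F.φ Tau * (g : G)⁻¹ * ((g : G) * F.φ Tau * (g : G)⁻¹)
            = (g : G) * (F.φ Tau * F.φ Tau) * (g : G)⁻¹ := by group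
          _ = 1 := by rw [tau_sq]; group
      rw [← map_mul] at e2
      exact congrArg Subtype.val (F.inj (e2.trans (map_one _).symm))
    obtain ⟨i', j', k', hk⟩ := qel_tau.2.1 i j k hsq
    set q := inC F (qel_comm i' j' k') with hqd
    have hmem : ((q⁻¹ * g : Subgroup.centralizer ({S.a} : Set G)) : G) ∈ dta F := by
      rw [mem_dta]
      refine ⟨?_, mem_cent.1 (q⁻¹ * g).2⟩
      have hk' : F.φ (qel i' j' k') * F.φ Tau = F.φ (Tau * qel i j k) * F.φ (qel i' j' k') := by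
        rw [← map_mul, ← map_mul]; exact congrArg F.φ (Subtype.ext hk)
      rw [← hgt] at hk'
      show (F.φ (qel i' j' k'))⁻¹ * g * F.φ Tau = F.φ Tau * ((F.φ (qel i' j' k'))⁻¹ * g)
      calc (F.φ (qel i' j' k'))⁻¹ * g * F.φ Tau
          = (F.φ (qel i' j' k'))⁻¹ * (g * F.φ Tau * (g : G)⁻¹ * F.φ (qel i' j' k')) *
              ((F.φ (qel i' j' k'))⁻¹ * g) := by group
        _ = _ := by rw [← hk']; group
    refine ⟨⟨_, hmem⟩, ?_⟩
    show proj (q⁻¹ * g) = proj g
    rw [map_mul, map_inv, hqd, qel_mem, inv_one, one_mul]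
  have hD : Nat.card (dta F) = 72 := by
    rw [← ρ.ker.card_mul_index, hkc, Subgroup.index_ker, MonoidHom.range_eq_top.2 hsurj, Subgroup.card_top,
      PSpAmalgam31.sl_card]
  let D2 : Subgroup (dta F) := q8.comap ρ
  have hD2 : Nat.card D2 = 24 := by
    have h1 := D2.card_mul_index
    rw [Subgroup.index_comap_of_surjective q8 hsurj] at h1
    have h2 := q8.card_mul_index
    rw [show Nat.card q8 = 8 from PSpAmalgam31.sl_q8_card, PSpAmalgam31.sl_card] at h2
    rw [hD, show q8.index = 3 by omega] at h1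
    omega
  obtain ⟨P0⟩ : Nonempty (Sylow 2 D2) := inferInstance
  have hP0 : Nat.card (P0 : Subgroup D2) = 8 := by
    rw [P0.card_eq_multiplicity, hD2, show (24 : ℕ) = 2 ^ 3 * 3 by norm_num,
      Nat.factorization_mul (by norm_num) (by norm_num), Finsupp.add_apply,
      Nat.Prime.factorization_pow Nat.prime_two, Nat.factorization_eq_zero_of_not_dvd (by norm_num)]
    simp
  haveI hP0n : (P0 : Subgroup D2).Normal := by
    rw [← Subgroup.normalizer_eq_top_iff]
    refine Subgroup.eq_top_of_le_card _ ?_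
    have haD2 : (⟨S.a, haD⟩ : dta F) ∈ D2 :=
      Subgroup.ker_le_comap _ _ (hker.symm.le (Subgroup.mem_zpowers _))
    have h8 := Subgroup.card_dvd_of_le (Subgroup.le_normalizer (H := (P0 : Subgroup D2)))
    rw [hP0] at h8
    have ha' : (⟨⟨S.a, haD⟩, haD2⟩ : D2) ∈ Subgroup.normalizer ((P0 : Subgroup D2) : Set D2) := by
      refine PSpAmalgam31.mem_normalizer_of_maps fun x hx => ?_
      have hc : (⟨⟨S.a, haD⟩, haD2⟩ : D2) * x = x * ⟨⟨S.a, haD⟩, haD2⟩ :=
        Subtype.ext (Subtype.ext ((mem_dta F).1 (x : dta F).2).2.symm)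
      rw [hc, mul_inv_cancel_right]; exact hx
    have h3 := Subgroup.orderOf_dvd_natCard _ ha'
    rw [Subgroup.orderOf_mk, Subgroup.orderOf_mk, S.ha] at h3
    rw [hD2]
    exact Nat.le_of_dvd Nat.card_pos (Nat.Coprime.mul_dvd_of_dvd_of_dvd (by norm_num) h8 h3)
  set P : Subgroup G := ((P0 : Subgroup D2).map D2.subtype).map (dta F).subtype with hP
  have hPc : Nat.card P = 8 := by
    rw [hP, Subgroup.card_map_of_injective (dta F).subtype_injective,
      Subgroup.card_map_of_injective D2.subtype_injective, hP0]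
  have hPD : P ≤ dta F := Subgroup.map_subtype_le _
  have h72 : ∀ g ∈ dta F, ¬ 3 ∣ orderOf g → g ^ 8 = 1 := by
    intro g hg h3
    refine orderOf_dvd_iff_pow_eq_one.1 ?_
    have hd : orderOf g ∣ 8 * 9 := by
      have := Subgroup.orderOf_dvd_natCard _ hg
      rwa [hD] at this
    exact (Nat.Coprime.pow_right 2 ((Nat.Prime.coprime_iff_not_dvd Nat.prime_three).2 h3).symm).dvd_of_dvd_mul_right hd
  have hin : ∀ g ∈ dta F, g ^ 8 = 1 → g ∈ P := by
    intro g hg h8
    have hgD : (⟨g, hg⟩ : dta F) ∈ D2 := by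
      show ρ ⟨g, hg⟩ * ρ ⟨g, hg⟩ * (ρ ⟨g, hg⟩ * ρ ⟨g, hg⟩) = 1
      refine PSpAmalgam31.sl_pow24 _ ?_
      simp only [← map_mul]
      rw [← map_one ρ]
      congr 1
      refine Subtype.ext ?_
      simp only [Subgroup.coe_mul, Subgroup.coe_one]
      rw [← h8]
      simp [pow_succ, mul_assoc]
    set g' : D2 := ⟨⟨g, hg⟩, hgD⟩ with hg'
    have hi : (P0 : Subgroup D2).index = 3 := by
      have := (P0 : Subgroup D2).card_mul_index
      rw [hP0, hD2] at this
      omega
    have h3 := Subgroup.pow_index_mem (P0 : Subgroup D2) g'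
    rw [hi] at h3
    have h8' : g' ^ 8 = 1 := Subtype.ext (Subtype.ext (by simpa [hg'] using h8))
    have he : g' = (g' ^ 3) ^ 3 := by rw [← pow_mul, show 3 * 3 = 8 + 1 from rfl, pow_succ, h8', one_mul]
    have hm : g' ∈ (P0 : Subgroup D2) := he ▸ Subgroup.pow_mem _ h3 3
    exact ⟨_, ⟨g', hm, rfl⟩, rfl⟩
  have h8P : ∀ v ∈ P, v ^ 8 = 1 := fun v hv => by
    rw [← hPc]
    exact congrArg Subtype.val (pow_card_eq_one' (x := (⟨v, hv⟩ : P)))
  refine ⟨P, hPD, hPc, hin _ (tau_mem_dta F) (by rw [show (8 : ℕ) = 2 * 4 from rfl, pow_mul, sq, tau_sq, one_pow]),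
    fun g hg h3 => hin g hg (h72 g hg h3), fun g hg => PSpAmalgam31.mem_normalizer_of_maps fun v hv =>
      hin _ ((dta F).mul_mem ((dta F).mul_mem hg (hPD hv)) ((dta F).inv_mem hg))
        (by rw [conj_pow, h8P v hv, mul_one, mul_inv_cancel]), ?_⟩
  intro g hg
  let f : Fin 3 × Fin 3 × P → dta F := fun p =>
    ⟨F.φ (eel p.1 p.2.1) * p.2.2, (dta F).mul_mem (eel_mem F _ _) (hPD p.2.2.2)⟩
  have hf : Function.Injective f := by
    rintro ⟨i, j, v⟩ ⟨i', j', v'⟩ h
    have h' : F.φ (eel i j) * v = F.φ (eel i' j') * v' := congrArg Subtype.val h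
    have hm : (F.φ (eel i j))⁻¹ * F.φ (eel i' j') = (v : G) * (v' : G)⁻¹ := by
      rw [inv_mul_eq_iff_eq_mul, ← mul_assoc, h', mul_inv_cancel_right]
    have h8' : ((F.φ (eel i j))⁻¹ * F.φ (eel i' j')) ^ 8 = 1 := by
      rw [hm]; exact h8P _ (P.mul_mem v.2 (P.inv_mem v'.2))
    rw [← map_inv, ← map_mul, ← map_pow] at h8'
    obtain ⟨rfl, rfl⟩ := eel_inj i j i' j' (congrArg Subtype.val (F.inj (h8'.trans (map_one _).symm)))
    rw [mul_right_inj] at h'
    rw [Subtype.ext h']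
  have hb := (Nat.bijective_iff_injective_and_card f).2 ⟨hf, by
    rw [hD, Nat.card_prod, Nat.card_prod, Nat.card_fin, hPc]⟩
  obtain ⟨⟨i, j, v⟩, h⟩ := hb.2 ⟨g, hg⟩
  exact ⟨i, j, v, v.2, (congrArg Subtype.val h).symm⟩

theorem e_alone : ∀ σ : Perm (Fin 6), σ * tri = tri * σ →
    σ * (swap 0 1 * swap 1 2 * (swap 3 4 * swap 4 5)) = swap 0 1 * swap 1 2 * (swap 3 4 * swap 4 5) * σ →
    σ ^ 8 = 1 → σ = 1 ∨ σ = tri := by decide +kernel

theorem cyc_eight : ∀ π : Perm (Fin 3), π = 1 ∨ π = cyc ∨ π = cyc⁻¹ → π ^ 8 = 1 → π = 1 := by decide +kernel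

variable {F} (c : F.CaseII)

theorem e_y : e c (swap 0 1 * swap 1 2 * (swap 3 4 * swap 4 5), 1) = F.φ (C1 * C2) := by
  rw [e_left, map_mul c.ι, c.six.map_c1, c.six.map_c2, map_mul]

include c in
/-- Elements of 2-power order centralising the plane and the block exchange. -/
theorem cent_plane {g : G} (ht : g * F.φ Tau = F.φ Tau * g) (hgy : g * F.φ (C1 * C2) = F.φ (C1 * C2) * g)
    (hg3 : g * F.φ C3 = F.φ C3 * g) (h8 : g ^ 8 = 1) : g = 1 ∨ g = F.φ Tau := by
  obtain ⟨⟨σ, π⟩, rfl, hπ⟩ := exists_e c hg3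
  rw [← map_pow] at h8
  rw [← e_y c, ← map_mul, ← map_mul] at hgy
  rw [← e_tt c, ← map_mul, ← map_mul] at ht
  have h1 := e_inj c (h8.trans (map_one _).symm)
  have h2 := congrArg Prod.fst (e_inj c hgy)
  have h3 := congrArg Prod.fst (e_inj c ht)
  have hp := cyc_eight π hπ (congrArg Prod.snd h1)
  subst hp
  rcases e_alone σ h3 h2 (congrArg Prod.fst h1) with rfl | rfl
  · left; rw [Prod.mk_one_one, map_one]
  · right; exact e_tt c

include c in
/-- The plane acts without fixed points on the two quaternion groups. -/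
theorem fixed_free {b v : G} (hbC : (F.φ (C1 * C2))⁻¹ * b = F.φ C3 ∨ b⁻¹ * F.φ (C1 * C2) = F.φ C3 ∨ b = F.φ C3)
    (ht : v * F.φ Tau = F.φ Tau * v) (hvb : v * b = b * v) (h8 : v ^ 8 = 1)
    (h : F.φ (C1 * C2) * v * (F.φ (C1 * C2))⁻¹ = v ∨
      F.φ (C1 * C2) * v * (F.φ (C1 * C2))⁻¹ = F.φ Tau * v) : v = 1 ∨ v = F.φ Tau := by
  set y := F.φ (C1 * C2) with hy
  set t := F.φ Tau with htd
  have hyt : y * t * y⁻¹ = t := by
    rw [hy, htd, ← map_inv, ← map_mul, ← map_mul]
    exact congrArg F.φ (Subtype.ext (by decide +kernel))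
  have hy3 : y * y * y = 1 := by
    rw [hy, ← map_mul, ← map_mul, ← map_one F.φ]
    exact congrArg F.φ (Subtype.ext (by decide +kernel))
  rcases h with h | h
  · have hvy : v * y = y * v := (mul_inv_eq_iff_eq_mul.1 h).symm
    refine cent_plane c ht hvy ?_ h8
    rcases hbC with e' | e' | e'
    · rw [← e']; exact ((show Commute v y from hvy).inv_right.mul_right hvb).eq
    · rw [← e']; exact ((show Commute v b from hvb).inv_right.mul_right hvy).eq
    · rw [← e']; exact hvb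
  · exfalso
    refine tau_ne F ?_
    have h2 : y * (y * v * y⁻¹) * y⁻¹ = v := by
      rw [h, show y * (t * v) * y⁻¹ = (y * t * y⁻¹) * (y * v * y⁻¹) by group, hyt, h, ← mul_assoc, tau_sq,
        one_mul]
    have h3 : v = y * v * y⁻¹ := by
      calc v = y * y * y * v * (y * y * y)⁻¹ := by rw [hy3]; group
        _ = y * (y * (y * v * y⁻¹) * y⁻¹) * y⁻¹ := by group
        _ = _ := by rw [h2]
    rw [h] at h3
    exact (mul_eq_right.1 h3.symm)

end Cfsg.Agent.Sp62Three31.Bridge
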