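import Cfsg.Agent.Lib.Sp62Three31BridgeGen

/-!
Commutation modulo a central involution, used in the bridge step of S3342.
-/

set_option autoImplicit false

namespace Cfsg.Agent.Sp62Three31.Bridge

universe u

variable {G : Type u} [Group G]

/-- Commutation modulo `z`. -/
def CommMod (z a b : G) : Prop := a * b * a⁻¹ * b⁻¹ = 1 ∨ a * b * a⁻¹ * b⁻¹ = z

theorem CommMod.of_eq {z a b : G} (h : a * b = b * a) : CommMod z a b :=
  Or.inl (by rw [h]; group)

theorem CommMod.cases {z a b : G} (h : CommMod z a b) : a * b * a⁻¹ = b ∨ a * b * a⁻¹ = z * b :=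
  h.imp (fun h => mul_inv_eq_one.1 h) (fun h => mul_inv_eq_iff_eq_mul.1 h)

theorem inv_of_sq {z : G} (hz : z * z = 1) : z⁻¹ = z := inv_eq_of_mul_eq_one_right hz

theorem CommMod.symm {z a b : G} (hz : z * z = 1) (h : CommMod z a b) : CommMod z b a := by
  have e : b * a * b⁻¹ * a⁻¹ = (a * b * a⁻¹ * b⁻¹)⁻¹ := by group
  rcases h with h | h
  · exact Or.inl (by rw [e, h, inv_one])
  · exact Or.inr (by rw [e, h, inv_of_sq hz])

theorem CommMod.mul_right {z g v w : G} (hz : z * z = 1) (hvz : v * z = z * v)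
    (h1 : CommMod z g v) (h2 : CommMod z g w) : CommMod z g (v * w) := by
  have e : g * (v * w) * g⁻¹ * (v * w)⁻¹ = g * v * g⁻¹ * v⁻¹ * (v * (g * w * g⁻¹ * w⁻¹) * v⁻¹) := by group
  have hv : v * z * v⁻¹ = z := by rw [hvz, mul_inv_cancel_right]
  rcases h1 with a | a <;> rcases h2 with b | b <;>
    simp only [CommMod, e, a, b, mul_one, one_mul, mul_inv_cancel, hv, hz, true_or, or_true]

theorem CommMod.mul_left {z g h v : G} (hz : z * z = 1) (hgz : g * z = z * g)
    (h1 : CommMod z g v) (h2 : CommMod z h v) : CommMod z (g * h) v :=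
  (CommMod.mul_right hz hgz (h1.symm hz) (h2.symm hz)).symm hz

theorem CommMod.inv_right {z g v : G} (hz : z * z = 1) (hvz : v * z = z * v) (h : CommMod z g v) :
    CommMod z g v⁻¹ := by
  have e : g * v⁻¹ * g⁻¹ * v⁻¹⁻¹ = v⁻¹ * (g * v * g⁻¹ * v⁻¹)⁻¹ * v := by group
  have hv : v⁻¹ * z * v = z := by rw [mul_assoc, ← hvz, inv_mul_cancel_left]
  rcases h with a | a
  · exact Or.inl (by rw [e, a]; group)
  · exact Or.inr (by rw [e, a, inv_of_sq hz, hv])

theorem CommMod.conj {z g v : G} (x : G) (hx : x * z * x⁻¹ = z) (h : CommMod z g v) :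
    CommMod z (x * g * x⁻¹) (x * v * x⁻¹) := by
  have e : x * g * x⁻¹ * (x * v * x⁻¹) * (x * g * x⁻¹)⁻¹ * (x * v * x⁻¹)⁻¹ =
      x * (g * v * g⁻¹ * v⁻¹) * x⁻¹ := by group
  rcases h with a | a
  · exact Or.inl (by rw [e, a]; group)
  · exact Or.inr (by rw [e, a, hx])

/-- The elements centralising `z` and `U` modulo `z`. -/
def centMod (z : G) (hz : z * z = 1) (U : Subgroup G) : Subgroup G where
  carrier := {g | g * z = z * g ∧ ∀ v ∈ U, CommMod z g v}
  one_mem' := ⟨by simp, fun v _ => CommMod.of_eq (by simp)⟩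
  mul_mem' {g h} hg hh := ⟨(show Commute g z from hg.1).mul_left hh.1,
    fun v hv => CommMod.mul_left hz hg.1 (hg.2 v hv) (hh.2 v hv)⟩
  inv_mem' {g} hg := ⟨(show Commute g z from hg.1).inv_left,
    fun v hv => ((hg.2 v hv).symm hz |>.inv_right hz hg.1).symm hz⟩

theorem mem_centMod {z : G} {hz : z * z = 1} {U : Subgroup G} {g : G} :
    g ∈ centMod z hz U ↔ g * z = z * g ∧ ∀ v ∈ U, CommMod z g v := Iff.rfl

theorem centMod_normal {z : G} {hz : z * z = 1} {U : Subgroup G} (hzU : z ∈ U) {g v : G}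
    (hg : g ∈ centMod z hz U) (hv : v ∈ U) : g * v * g⁻¹ ∈ U := by
  rcases (hg.2 v hv).cases with h | h <;> rw [h]
  · exact hv
  · exact U.mul_mem hzU hv

theorem le_normalizer_centMod [Finite G] {z : G} {hz : z * z = 1} {U : Subgroup G} {x : G}
    (hx : x * z = z * x) (hxU : x ∈ Subgroup.normalizer (U : Set G)) :
    x ∈ Subgroup.normalizer (centMod z hz U : Set G) := by
  have hx' : x * z * x⁻¹ = z := by rw [hx, mul_inv_cancel_right]
  refine PSpAmalgam31.mem_normalizer_of_maps fun g hg => ⟨?_, fun v hv => ?_⟩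
  · calc x * g * x⁻¹ * z = x * g * x⁻¹ * (x * z * x⁻¹) := by rw [hx']
      _ = x * (g * z) * x⁻¹ := by group
      _ = x * (z * g) * x⁻¹ := by rw [hg.1]
      _ = x * z * x⁻¹ * (x * g * x⁻¹) := by group
      _ = z * (x * g * x⁻¹) := by rw [hx']
  · have hv' : x⁻¹ * v * x ∈ U := by
      have := (Subgroup.mem_normalizer_iff.1 (inv_mem hxU) v).1 hv
      rwa [inv_inv] at this
    have := (hg.2 _ hv').conj x hx'
    rwa [show x * (x⁻¹ * v * x) * x⁻¹ = v by group] at this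

/-- Two subgroups commuting modulo `z` generate one that does. -/
theorem commMod_sup {z : G} (hz : z * z = 1) {A B : Subgroup G} (hA : A ≤ centMod z hz A)
    (hB : B ≤ centMod z hz B) (hAB : B ≤ centMod z hz A) :
    (A ⊔ B : Subgroup G) ≤ centMod z hz (A ⊔ B) := by
  have hBA : A ≤ centMod z hz B := fun a ha => ⟨(hA ha).1, fun b hb => ((hAB hb).2 a ha).symm hz⟩
  have hcz : A ⊔ B ≤ Subgroup.centralizer ({z} : Set G) :=
    sup_le (fun a ha => mem_cent.2 (hA ha).1) fun b hb => mem_cent.2 (hB hb).1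
  have key : ∀ (U : Subgroup G) (g : G), U ≤ A ⊔ B → g ∈ A ⊔ B → (∀ v ∈ A, CommMod z g v) →
      (∀ v ∈ B, CommMod z g v) → ∀ v ∈ A ⊔ B, CommMod z g v := by
    intro U g _ hg h1 h2 v hv
    let R : Subgroup G :=
      { carrier := {v | v * z = z * v ∧ CommMod z g v}
        one_mem' := ⟨by simp, CommMod.of_eq (by simp)⟩
        mul_mem' := fun {a b} ha hb => ⟨(show Commute a z from ha.1).mul_left hb.1,
          CommMod.mul_right hz ha.1 ha.2 hb.2⟩
        inv_mem' := fun {a} ha => ⟨(show Commute a z from ha.1).inv_left,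
          CommMod.inv_right hz ha.1 ha.2⟩ }
    have hR : A ⊔ B ≤ R := sup_le (fun a ha => ⟨(hA ha).1, h1 a ha⟩) fun b hb => ⟨(hB hb).1, h2 b hb⟩
    exact (hR hv).2
  refine sup_le (fun a ha => ⟨(hA ha).1, ?_⟩) fun b hb => ⟨(hB hb).1, ?_⟩
  · exact key A a le_sup_left (le_sup_left (a := A) ha) (hA ha).2 (hBA ha).2
  · exact key B b le_sup_right (le_sup_right (a := A) hb) (hAB hb).2 (hB hb).2

/-- A group of order eight is abelian modulo any central involution in it. -/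
theorem le_centMod_of_eight [Finite G] {z : G} (hz : z * z = 1) (hz1 : z ≠ 1) {P : Subgroup G}
    (hP : Nat.card P = 8) (hzP : z ∈ P) (hc : ∀ v ∈ P, v * z = z * v) : P ≤ centMod z hz P := by
  classical
  haveI : Fact (Nat.Prime 2) := ⟨Nat.prime_two⟩
  intro g hg
  refine ⟨hc g hg, fun v hv => ?_⟩
  set Z : Subgroup P := Subgroup.zpowers ⟨z, hzP⟩ with hZ
  haveI : Z.Normal := ⟨fun n hn x => by
    obtain ⟨k, rfl⟩ := hn
    have : Commute x (⟨z, hzP⟩ : P) := Subtype.ext (hc x x.2)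
    rw [(this.zpow_right k).eq, mul_inv_cancel_right]
    exact ⟨k, rfl⟩⟩
  have hoz : orderOf (⟨z, hzP⟩ : P) = 2 := by
    rw [Subgroup.orderOf_mk]; exact orderOf_eq_prime (by rw [sq, hz]) hz1
  have hq : Nat.card (P ⧸ Z) = 2 ^ 2 := by
    have h := Z.card_eq_card_quotient_mul_card_subgroup
    have hZc : Nat.card Z = 2 := by rw [hZ, Nat.card_zpowers, hoz]
    rw [hP, hZc] at h
    omega
  have hcomm := (IsPGroup.isMulCommutative_of_card_eq_prime_sq hq).is_comm.comm
    ((⟨g, hg⟩ : P) : P ⧸ Z) ((⟨v, hv⟩ : P) : P ⧸ Z)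
  have hmem : (⟨g, hg⟩ : P) * ⟨v, hv⟩ * (⟨g, hg⟩ : P)⁻¹ * (⟨v, hv⟩ : P)⁻¹ ∈ Z := by
    rw [← QuotientGroup.eq_one_iff]
    simp only [QuotientGroup.mk_mul, QuotientGroup.mk_inv]
    rw [hcomm]; group
  rw [hZ, (isOfFinOrder_of_finite (⟨z, hzP⟩ : P)).mem_zpowers_iff_mem_range_orderOf] at hmem
  obtain ⟨k, hk, hk'⟩ := Finset.mem_image.1 hmem
  rw [hoz, Finset.mem_range] at hk
  have e := congrArg Subtype.val hk'
  interval_cases k
  · exact Or.inl (by simpa using e.symm)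
  · exact Or.inr (by simpa using e.symm)

end Cfsg.Agent.Sp62Three31.Bridge
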