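import Cfsg.Agent.Lib.Sp62Three31BridgeGen

/-!
An invariant `3'`-subgroup over a normal 2-subgroup with a self-centralising element of order three.
-/

set_option autoImplicit false

namespace Cfsg.Agent.Sp62Three31.Bridge

universe u

variable {G : Type u} [Group G] [Finite G]

theorem core_three {Y : Type*} [Group Y] [Finite Y] (h : Nat.card Y = 3) (R : Subgroup Y)
    (h3 : ¬ 3 ∣ Nat.card R) : R = ⊥ := by
  have := R.card_subgroup_dvd_card
  rw [h, Nat.dvd_prime Nat.prime_three] at this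
  exact this.elim (fun e => Subgroup.eq_bot_of_card_eq _ e) fun e => absurd (e ▸ dvd_rfl) h3

theorem core_perm {Y : Type*} [Group Y] [Finite Y] (e : Y ≃* Equiv.Perm (Fin 3)) (R : Subgroup Y)
    (hR : R.Normal) (h3 : ¬ 3 ∣ Nat.card R) : R = ⊥ := by
  have hd := R.card_subgroup_dvd_card
  rw [Nat.card_congr e.toEquiv, Nat.card_perm, Nat.card_fin] at hd
  change Nat.card R ∣ 6 at hd
  have hc : Nat.card R ≤ 2 := by
    have hle := Nat.le_of_dvd (by norm_num) hd
    interval_cases Nat.card R <;> first | omega | (exfalso; omega)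
  refine (Subgroup.eq_bot_iff_forall R).2 fun r hr => ?_
  by_contra hne
  refine hne (e.injective ?_)
  rw [map_one]
  refine PSpAmalgam31.perm3_center _ fun τ => ?_
  obtain ⟨y, rfl⟩ := e.surjective τ
  rw [← map_mul, ← map_mul]
  congr 1
  have hyr := hR.conj_mem r hr y
  have hne' : y * r * y⁻¹ ≠ 1 := fun he => hne (conj_eq_one_iff.1 he)
  by_contra hcom
  have hd' : y * r * y⁻¹ ≠ r := fun he => hcom (mul_inv_eq_iff_eq_mul.1 he).symm
  let f : Fin 3 → R := ![⟨1, R.one_mem⟩, ⟨r, hr⟩, ⟨_, hyr⟩]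
  have hf : Function.Injective f := by
    intro i j hij
    fin_cases i <;> fin_cases j <;>
      simp_all [f, Subtype.ext_iff, eq_comm]
  have := Nat.card_le_card_of_injective f hf
  rw [Nat.card_eq_fintype_card, Fintype.card_fin] at this
  omega

theorem core_alt {Y : Type*} [Group Y] [Finite Y] (e : Y ≃* alternatingGroup (Fin 5)) (R : Subgroup Y)
    (hR : R.Normal) (h3 : ¬ 3 ∣ Nat.card R) : R = ⊥ := by
  haveI := hR.map e.toMonoidHom e.surjective
  rcases (alternatingGroup.isSimpleGroup (α := Fin 5) (by simp)).eq_bot_or_eq_top_of_normal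
    (R.map e.toMonoidHom) inferInstance with h | h
  · rwa [Subgroup.map_eq_bot_iff_of_injective _ e.injective] at h
  · refine absurd ?_ h3
    rw [← Subgroup.card_map_of_injective (f := e.toMonoidHom) e.injective (K := R), h, Subgroup.card_top]
    rw [Nat.card_eq_fintype_card]
    decide +kernel

/-- The Sylow 2-subgroups of a group of order 60 with a four group normalised by an element of order three. -/
theorem sylow_two_sixty {X : Type*} [Group X] [Finite X] (hX : Nat.card X = 60)
    (h : PSpAmalgam31.HasFour X) : ¬ 3 ∣ Nat.card (Sylow 2 X) := by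
  classical
  haveI : Fact (Nat.Prime 2) := ⟨Nat.prime_two⟩
  obtain ⟨a, b, c, ha, hb, hab, ha1, hb1, hne, hc3, hc1, hca, hcb⟩ := h
  have hbab : b * (a * b) = a := by rw [← mul_assoc, ← hab, mul_assoc, hb, mul_one]
  have haba : a * b * a = b := by rw [hab, mul_assoc, ha, mul_one]
  let V : Subgroup X :=
    { carrier := {z | z = 1 ∨ z = a ∨ z = b ∨ z = a * b}
      one_mem' := Or.inl rfl
      mul_mem' := by
        rintro z w (rfl | rfl | rfl | rfl) (rfl | rfl | rfl | rfl) <;>
          simp only [Set.mem_setOf_eq, one_mul, mul_one, true_or, or_true, ha, hb, ← hab, hbab] <;>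
          (first
            | (exact Or.inl rfl)
            | (rw [← mul_assoc, ha, one_mul]; simp)
            | (rw [mul_assoc, hb, mul_one]; simp)
            | (rw [haba]; simp)
            | (rw [mul_assoc, hbab, ha]; simp)
            | simp)
      inv_mem' := by
        rintro z (rfl | rfl | rfl | rfl)
        · simp
        · rw [Set.mem_setOf_eq, inv_eq_of_mul_eq_one_right ha]; simp
        · rw [Set.mem_setOf_eq, inv_eq_of_mul_eq_one_right hb]; simp
        · rw [Set.mem_setOf_eq, mul_inv_rev, inv_eq_of_mul_eq_one_right ha,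
            inv_eq_of_mul_eq_one_right hb, ← hab]; simp }
  have hV : Nat.card V = 4 := by
    have hab1 : a * b ≠ 1 := fun e => hne (by rw [← mul_one a, ← hb, ← mul_assoc, e, one_mul])
    let f : Fin 4 → V := ![⟨1, Or.inl rfl⟩, ⟨a, Or.inr (Or.inl rfl)⟩, ⟨b, Or.inr (Or.inr (Or.inl rfl))⟩,
      ⟨a * b, Or.inr (Or.inr (Or.inr rfl))⟩]
    have hf : Function.Bijective f := by
      refine ⟨fun i j hij => ?_, ?_⟩
      · fin_cases i <;> fin_cases j <;> simp_all [f, Subtype.ext_iff, eq_comm]
      · rintro ⟨z, hz | hz | hz | hz⟩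
        · exact ⟨0, Subtype.ext hz.symm⟩
        · exact ⟨1, Subtype.ext hz.symm⟩
        · exact ⟨2, Subtype.ext hz.symm⟩
        · exact ⟨3, Subtype.ext hz.symm⟩
    rw [← Nat.card_eq_of_bijective f hf, Nat.card_eq_fintype_card, Fintype.card_fin]
  have hc : c ∈ Subgroup.normalizer (V : Set X) := by
    refine PSpAmalgam31.mem_normalizer_of_maps ?_
    rintro z (rfl | rfl | rfl | rfl)
    · exact Or.inl (by group)
    · exact Or.inr (Or.inr (Or.inl hca))
    · exact Or.inr (Or.inr (Or.inr hcb))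
    · refine Or.inr (Or.inl ?_)
      rw [show c * (a * b) * c⁻¹ = (c * a * c⁻¹) * (c * b * c⁻¹) by group, hca, hcb, hbab]
  have hVp : IsPGroup 2 V := IsPGroup.of_card (n := 2) (by rw [hV]; norm_num)
  obtain ⟨P, hP⟩ := hVp.exists_le_sylow
  have hPV : V = (P : Subgroup X) := by
    obtain ⟨n, hn⟩ := P.2.exists_card_eq
    have hd := (P : Subgroup X).card_subgroup_dvd_card
    rw [hn, hX] at hd
    have hn2 : n ≤ 2 := by
      by_contra hgt
      have : 8 ∣ 60 := (Nat.pow_dvd_pow 2 (Nat.lt_of_not_le hgt)).trans hd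
      norm_num at this
    refine Subgroup.eq_of_le_of_card_ge hP ?_
    rw [hn, hV]
    exact (Nat.pow_le_pow_right (by norm_num) hn2).trans (by norm_num)
  rw [P.card_eq_index_normalizer]
  show ¬ 3 ∣ (Subgroup.normalizer ((P : Subgroup X) : Set X)).index
  rw [← hPV]
  have h3 : 3 ∣ Nat.card (Subgroup.normalizer (V : Set X)) := by
    have := Subgroup.orderOf_dvd_natCard _ hc
    rwa [orderOf_eq_prime (p := 3) (hp := ⟨Nat.prime_three⟩) (by rw [pow_three']; exact hc3) hc1] at this
  intro hd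
  have := Nat.mul_dvd_mul h3 hd
  rw [Subgroup.card_mul_index, hX] at this
  norm_num at this

theorem sylow_seven_168 {X : Type*} [Group X] [Finite X] (hX : Nat.card X = 168) :
    ¬ 3 ∣ Nat.card (Sylow 7 X) := by
  haveI : Fact (Nat.Prime 7) := ⟨by norm_num⟩
  obtain ⟨P⟩ : Nonempty (Sylow 7 X) := inferInstance
  have h1 : Nat.card (Sylow 7 X) % 7 = 1 := card_sylow_modEq_one 7 X
  have h2 := P.card_dvd_index
  have hPc : Nat.card (P : Subgroup X) = 7 := by
    rw [P.card_eq_multiplicity, hX]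
    rw [show (168 : ℕ) = 7 * 24 by norm_num, Nat.factorization_mul (by norm_num) (by norm_num),
      Finsupp.add_apply, Nat.Prime.factorization_self (by norm_num),
      Nat.factorization_eq_zero_of_not_dvd (by norm_num)]
    norm_num
  have h3 := (P : Subgroup X).card_mul_index
  rw [hPc, hX] at h3
  have h4 : Nat.card (Sylow 7 X) ∣ 24 := by
    rw [show (P : Subgroup X).index = 24 by omega] at h2
    exact h2
  have := Nat.le_of_dvd (by norm_num) h4
  intro hd
  obtain ⟨k, hk⟩ := hd
  rw [hk] at h1 h4 this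
  have : k ≤ 8 := by omega
  interval_cases k <;> omega

section Main

variable (M V : Subgroup G) [hN : (V.subgroupOf M).Normal]

/-- The automorphism of the quotient induced by an element normalising both. -/
noncomputable def quotAut (E : Subgroup G) (hEM : E ≤ Subgroup.normalizer (M : Set G))
    (hEV : E ≤ Subgroup.normalizer (V : Set G)) : E →* MulAut (↥M ⧸ V.subgroupOf M) where
  toFun e := QuotientGroup.congr _ _ (M.normalizerMonoidHom ⟨e, hEM e.2⟩) (by
    refine Subgroup.eq_of_le_of_card_ge ?_ (le_of_eq (Subgroup.card_map_of_injective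
      (M.normalizerMonoidHom ⟨e, hEM e.2⟩).injective).symm)
    rintro _ ⟨v, hv, rfl⟩
    rw [Subgroup.mem_subgroupOf]
    exact (Subgroup.mem_normalizer_iff.1 (hEV e.2) _).1 hv)
  map_one' := by
    ext y
    induction y using QuotientGroup.induction_on with
    | _ m => exact congrArg (QuotientGroup.mk' _) (Subtype.ext (by simp))
  map_mul' a b := by
    ext y
    induction y using QuotientGroup.induction_on with
    | _ m => exact congrArg (QuotientGroup.mk' _) (Subtype.ext (by simp [mul_assoc]))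

theorem quotAut_mk (E : Subgroup G) (hEM : E ≤ Subgroup.normalizer (M : Set G))
    (hEV : E ≤ Subgroup.normalizer (V : Set G)) (e : E) (m : M) :
    quotAut M V E hEM hEV e m = ((⟨(e : G) * m * (e : G)⁻¹,
      (Subgroup.mem_normalizer_iff.1 (hEM e.2) _).1 m.2⟩ : M) : ↥M ⧸ V.subgroupOf M) := rfl

theorem piece_of_preimage (hVM : V ≤ M) (E : Subgroup G) (hV2 : IsPGroup 2 V)
    (W : Subgroup M) (hVW : V.subgroupOf M ≤ W) (hne : W ≠ V.subgroupOf M)
    (hW : ¬ 3 ∣ (V.subgroupOf M).relIndex W)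
    (hinv : ∀ e ∈ E, ∀ m : M, m ∈ W → ∀ h : e * m * e⁻¹ ∈ M, (⟨_, h⟩ : M) ∈ W)
    (hEM : E ≤ Subgroup.normalizer (M : Set G)) :
    ∃ K : Subgroup G, V ≤ K ∧ K ≠ V ∧ K ≤ M ∧ ¬ 3 ∣ Nat.card K ∧
      E ≤ Subgroup.normalizer (K : Set G) := by
  haveI : Fact (Nat.Prime 2) := ⟨Nat.prime_two⟩
  refine ⟨W.map M.subtype, fun v hv => ⟨⟨v, hVM hv⟩, hVW hv, rfl⟩, fun h => hne ?_,
    Subgroup.map_subtype_le _, ?_, fun e he => PSpAmalgam31.mem_normalizer_of_maps ?_⟩
  · ext m
    rw [Subgroup.mem_subgroupOf, ← h]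
    exact ⟨fun hm => ⟨m, hm, rfl⟩, fun ⟨m', hm', he⟩ => by rwa [← Subtype.ext he]⟩
  · rw [Subgroup.card_map_of_injective M.subtype_injective]
    have hc := ((V.subgroupOf M).subgroupOf W).card_mul_index
    rw [Nat.card_congr (Subgroup.subgroupOfEquivOfLe hVW).toEquiv,
      Nat.card_congr (Subgroup.subgroupOfEquivOfLe hVM).toEquiv] at hc
    obtain ⟨n, hn⟩ := hV2.exists_card_eq
    rw [← hc, hn]
    exact Nat.prime_three.not_dvd_mul (fun hd => absurd (Nat.prime_three.dvd_of_dvd_pow hd) (by norm_num)) hW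
  · rintro _ ⟨m, hm, rfl⟩
    have h := (Subgroup.mem_normalizer_iff.1 (hEM he) _).1 m.2
    exact ⟨_, hinv e he m hm h, rfl⟩

/-- Either the quotient has order at most six, or there is an invariant `3'`-subgroup above `V`. -/
theorem invariant_piece (hVM : V ≤ M) (hV2 : IsPGroup 2 V) {x : G} (hxM : x ∈ M) (hx : orderOf x = 3)
    (hself : ∀ g ∈ M, g * x * g⁻¹ * x⁻¹ ∈ V → ∃ k : ℕ, ∃ v ∈ V, g = x ^ k * v)
    (E : Subgroup G) (hE : IsPGroup 3 E) (hEM : E ≤ Subgroup.normalizer (M : Set G))
    (hEV : E ≤ Subgroup.normalizer (V : Set G)) :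
    (Nat.card M ∣ 6 * Nat.card V ∧ ∀ g ∈ M, g * x * g⁻¹ * x⁻¹ ∈ V ∨ g * x * g⁻¹ * x ∈ V) ∨
      ∃ K : Subgroup G, V ≤ K ∧ K ≠ V ∧ K ≤ M ∧ ¬ 3 ∣ Nat.card K ∧
        E ≤ Subgroup.normalizer (K : Set G) := by
  classical
  haveI : Fact (Nat.Prime 2) := ⟨Nat.prime_two⟩
  haveI : Fact (Nat.Prime 3) := ⟨Nat.prime_three⟩
  set q : M →* ↥M ⧸ V.subgroupOf M := QuotientGroup.mk' _ with hq
  have hqs : Function.Surjective q := QuotientGroup.mk'_surjective _
  have hqk : q.ker = V.subgroupOf M := QuotientGroup.ker_mk' _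
  set xm : M := ⟨x, hxM⟩ with hxm
  set T : Subgroup (↥M ⧸ V.subgroupOf M) := Subgroup.zpowers (q xm) with hT
  have hqx3 : q xm ^ 3 = 1 := by
    rw [← map_pow, show xm ^ 3 = 1 from Subtype.ext (by simpa [hxm] using hx ▸ pow_orderOf_eq_one x), map_one]
  have hqx1 : q xm ≠ 1 := fun h => by
    rw [← MonoidHom.mem_ker, hqk, Subgroup.mem_subgroupOf] at h
    obtain ⟨n, hn⟩ := hV2 ⟨x, h⟩
    have hd : orderOf x ∣ 2 ^ n := orderOf_dvd_of_pow_eq_one (by simpa using congrArg Subtype.val hn)
    rw [hx] at hd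
    exact absurd (Nat.prime_three.dvd_of_dvd_pow hd) (by norm_num)
  have hTc : Nat.card T = 3 := by rw [hT, Nat.card_zpowers, orderOf_eq_prime hqx3 hqx1]
  have hTself : Subgroup.centralizer (T : Set (↥M ⧸ V.subgroupOf M)) = T := by
    refine le_antisymm (fun y hy => ?_) fun y hy => ?_
    · obtain ⟨g, rfl⟩ := hqs y
      have hc := Subgroup.mem_centralizer_iff.1 hy _ (Subgroup.mem_zpowers (q xm))
      have hk : q (g * xm * g⁻¹ * xm⁻¹) = 1 := by
        rw [map_mul, map_mul, map_mul, map_inv, map_inv, ← hc, mul_inv_cancel_right, mul_inv_cancel]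
      rw [← MonoidHom.mem_ker, hqk, Subgroup.mem_subgroupOf] at hk
      obtain ⟨k, v, hv, he⟩ := hself g g.2 (by simpa [hxm] using hk)
      refine ⟨k, ?_⟩
      have hg : g = xm ^ k * ⟨v, hVM hv⟩ := Subtype.ext (by simpa [hxm] using he)
      have hv1 : q ⟨v, hVM hv⟩ = 1 := by
        rw [← MonoidHom.mem_ker, hqk]; exact hv
      simp only [zpow_natCast]
      rw [hg, map_mul, hv1, mul_one, map_pow]
    · obtain ⟨i, rfl⟩ := hy
      rw [Subgroup.mem_centralizer_iff]
      rintro _ ⟨j, rfl⟩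
      exact ((Commute.refl (q xm)).zpow_zpow j i).eq
  have hrel : ∀ N : Subgroup (↥M ⧸ V.subgroupOf M),
      (V.subgroupOf M).relIndex (N.comap q) = Nat.card N := by
    intro N
    refine (congrArg (fun W => W.relIndex (N.comap q)) (hqk.symm.trans q.comap_bot.symm)).trans ?_
    rw [Subgroup.relIndex_comap, Subgroup.map_comap_eq_self_of_surjective hqs, Subgroup.relIndex_bot_left]
  have hne : ∀ N : Subgroup (↥M ⧸ V.subgroupOf M), N ≠ ⊥ → N.comap q ≠ V.subgroupOf M := fun N hN h => by
    refine hN (Subgroup.comap_injective hqs ?_)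
    rw [q.comap_bot, hqk, h]
  have hle : ∀ N : Subgroup (↥M ⧸ V.subgroupOf M), V.subgroupOf M ≤ N.comap q := fun N =>
    hqk.symm.le.trans (Subgroup.ker_le_comap _ _)
  -- a normal subgroup with a quotient free of normal `3'`-subgroups gives a piece
  have hcore : ∀ (N : Subgroup (↥M ⧸ V.subgroupOf M)) [N.Normal], N ≠ ⊥ → ¬ 3 ∣ Nat.card N →
      (∀ R : Subgroup ((↥M ⧸ V.subgroupOf M) ⧸ N), R.Normal → ¬ 3 ∣ Nat.card R → R = ⊥) →
      ∃ K : Subgroup G, V ≤ K ∧ K ≠ V ∧ K ≤ M ∧ ¬ 3 ∣ Nat.card K ∧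
        E ≤ Subgroup.normalizer (K : Set G) := by
    intro N _ hN1 hN3 hR
    refine piece_of_preimage M V hVM E hV2 (N.comap q) (hle N) (hne N hN1) (hrel N ▸ hN3) ?_ hEM
    intro e he m hm h
    have hk : ((QuotientGroup.mk' N).comp q).ker = N.comap q := by
      rw [← MonoidHom.comap_ker, QuotientGroup.ker_mk']
    have h3 : ¬ 3 ∣ Nat.card ((QuotientGroup.mk' N).comp q).ker := by
      rw [hk]
      have hc := ((V.subgroupOf M).subgroupOf (N.comap q)).card_mul_index
      rw [Nat.card_congr (Subgroup.subgroupOfEquivOfLe (hle N)).toEquiv,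
        Nat.card_congr (Subgroup.subgroupOfEquivOfLe hVM).toEquiv] at hc
      obtain ⟨n, hn⟩ := hV2.exists_card_eq
      rw [← hc, hn]
      exact Nat.prime_three.not_dvd_mul (fun hd => absurd (Nat.prime_three.dvd_of_dvd_pow hd) (by norm_num))
        (by rw [show ((V.subgroupOf M).subgroupOf (N.comap q)).index = Nat.card N from hrel N]; exact hN3)
    have hs : Function.Surjective ((QuotientGroup.mk' N).comp q) :=
      Function.Surjective.comp (g := QuotientGroup.mk' N) (QuotientGroup.mk'_surjective N) hqs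
    have := invariant_of_core ((QuotientGroup.mk' N).comp q) hs h3 hR
      (M.normalizerMonoidHom ⟨e, hEM he⟩) m (hk.symm.le hm)
    rw [hk] at this
    exact this
  -- an invariant Sylow subgroup gives a piece
  have hsyl : ∀ p : ℕ, [Fact p.Prime] → p ≠ 3 → p ∣ Nat.card (↥M ⧸ V.subgroupOf M) →
      ¬ 3 ∣ Nat.card (Sylow p (↥M ⧸ V.subgroupOf M)) →
      ∃ K : Subgroup G, V ≤ K ∧ K ≠ V ∧ K ≤ M ∧ ¬ 3 ∣ Nat.card K ∧
        E ≤ Subgroup.normalizer (K : Set G) := by
    intro p hp hp3 hpd hcnt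
    letI act : MulDistribMulAction E (↥M ⧸ V.subgroupOf M) :=
      MulDistribMulAction.compHom _ (quotAut M V E hEM hEV)
    obtain ⟨P, hP⟩ := hE.nonempty_fixed_point_of_prime_not_dvd_card (Sylow p (↥M ⧸ V.subgroupOf M)) hcnt
    have hP3 : ¬ 3 ∣ Nat.card (P : Subgroup (↥M ⧸ V.subgroupOf M)) := by
      obtain ⟨n, hn⟩ := P.2.exists_card_eq
      rw [hn]
      exact fun hd => hp3 ((Nat.prime_dvd_prime_iff_eq Nat.prime_three hp.out).1
        (Nat.prime_three.dvd_of_dvd_pow hd)).symm
    refine piece_of_preimage M V hVM E hV2 ((P : Subgroup _).comap q) (hle _)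
      (hne _ (P.ne_bot_of_dvd_card hpd)) (hrel (P : Subgroup _) ▸ hP3) ?_ hEM
    intro e he m hm h
    have h1 := Subgroup.smul_mem_pointwise_smul (q m) (⟨e, he⟩ : E) (P : Subgroup _) hm
    rw [← Sylow.pointwise_smul_def, hP ⟨e, he⟩] at h1
    exact h1
  rcases S3331.result T hTc hTself with ⟨N, hN, -, hcop, hq'⟩ | ⟨N, hN, -, h2, ⟨e⟩⟩ | ⟨⟨e⟩⟩
  · haveI := hN
    have hN3 : ¬ 3 ∣ Nat.card N := (Nat.Prime.coprime_iff_not_dvd Nat.prime_three).1 hcop.symm
    rcases eq_or_ne N ⊥ with hN1 | hN1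
    · left
      have hY : Nat.card (↥M ⧸ V.subgroupOf M) = 3 ∨ Nat.card (↥M ⧸ V.subgroupOf M) = 6 := by
        have hi : Nat.card ((↥M ⧸ V.subgroupOf M) ⧸ N) = Nat.card (↥M ⧸ V.subgroupOf M) := by
          rw [← Subgroup.index_eq_card, hN1, Subgroup.index_bot]
        rcases hq' with h3 | ⟨⟨e⟩⟩
        · left; rw [← hi, h3]
        · right
          rw [← hi, Nat.card_congr e.toEquiv, Nat.card_perm, Nat.card_eq_fintype_card, Fintype.card_fin]
          rfl
      have hMc : Nat.card M = Nat.card (↥M ⧸ V.subgroupOf M) * Nat.card V := by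
        have h1 := (V.subgroupOf M).card_mul_index
        rw [Nat.card_congr (Subgroup.subgroupOfEquivOfLe hVM).toEquiv, Subgroup.index_eq_card] at h1
        rw [← h1, mul_comm]
      refine ⟨?_, fun g hg => ?_⟩
      · rw [hMc]
        rcases hY with h | h <;> rw [h] <;> exact Nat.mul_dvd_mul_right (by norm_num) _
      · have hTn : T.Normal := by
          have hm := T.card_mul_index
          rw [hTc] at hm
          rcases hY with h | h
          · have : T = ⊤ := Subgroup.eq_top_of_card_eq _ (by rw [hTc, h])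
            rw [this]; infer_instance
          · exact Subgroup.normal_of_index_eq_two (by omega)
        have hmem := hTn.conj_mem _ (Subgroup.mem_zpowers (q xm)) (q ⟨g, hg⟩)
        rw [(isOfFinOrder_of_finite (q xm)).mem_zpowers_iff_mem_range_orderOf] at hmem
        obtain ⟨k, hk, hk'⟩ := Finset.mem_image.1 hmem
        rw [orderOf_eq_prime hqx3 hqx1, Finset.mem_range] at hk
        interval_cases k
        · exfalso
          rw [pow_zero, eq_comm, conj_eq_one_iff] at hk'
          exact hqx1 hk'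
        · left
          have : q (⟨g, hg⟩ * xm * (⟨g, hg⟩ : M)⁻¹ * xm⁻¹) = 1 := by
            rw [map_mul, map_mul, map_mul, map_inv, map_inv, ← hk', pow_one, mul_inv_cancel]
          rw [← MonoidHom.mem_ker, hqk, Subgroup.mem_subgroupOf] at this
          simpa [hxm] using this
        · right
          have : q (⟨g, hg⟩ * xm * (⟨g, hg⟩ : M)⁻¹ * xm) = 1 := by
            rw [map_mul, map_mul, map_mul, map_inv, ← hk', ← pow_succ, hqx3]
          rw [← MonoidHom.mem_ker, hqk, Subgroup.mem_subgroupOf] at this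
          simpa [hxm] using this
    · right
      refine hcore N hN1 hN3 fun R hR h3 => ?_
      rcases hq' with h | ⟨⟨e⟩⟩
      · exact core_three h R h3
      · exact core_perm e R hR h3
  · haveI := hN
    right
    rcases eq_or_ne N ⊥ with hN1 | hN1
    · have hX : Nat.card (↥M ⧸ V.subgroupOf M) = 60 := by
        have hi : Nat.card ((↥M ⧸ V.subgroupOf M) ⧸ N) = Nat.card (↥M ⧸ V.subgroupOf M) := by
          rw [← Subgroup.index_eq_card, hN1, Subgroup.index_bot]
        rw [← hi, Nat.card_congr e.toEquiv, Nat.card_eq_fintype_card]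
        decide +kernel
      subst hN1
      exact hsyl 2 (by norm_num) (by rw [hX]; norm_num)
        (sylow_two_sixty hX (PSpAmalgam31.HasFour.of_equiv
          (QuotientGroup.quotientBot.symm.trans e) PSpAmalgam31.hasFour_alternating))
    · refine hcore N hN1 ?_ fun R hR h3 => core_alt e R hR h3
      have hp : IsPGroup 2 N := fun z => ⟨1, Subtype.ext (by simpa using h2 z z.2)⟩
      obtain ⟨n, hn⟩ := hp.exists_card_eq
      rw [hn]
      exact fun hd => absurd (Nat.prime_three.dvd_of_dvd_pow hd) (by norm_num)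
  · right
    haveI : Fact (Nat.Prime 7) := ⟨by norm_num⟩
    have hX : Nat.card (↥M ⧸ V.subgroupOf M) = 168 := by
      rw [Nat.card_congr e.toEquiv, PSpAmalgam31.card_psl_seven]
    exact hsyl 7 (by norm_num) (by rw [hX]; norm_num) (sylow_seven_168 hX)

end Main

end Cfsg.Agent.Sp62Three31.Bridge
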