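import Cfsg.Agent.Lib.Sp62Three31BridgeKinds

/-!
Finite facts for the last stage of the bridge of S3342.
-/

set_option autoImplicit false
set_option maxRecDepth 100000
set_option synthInstance.maxSize 2048

namespace Cfsg.Agent.Sp62Three31.Bridge

open Equiv S9Model37 S9Base37

/-- The subgroup on `l8`. -/
def V2 : Subgroup P63 where
  carrier := {p | p.1 ∈ l8 ∧ p.2 = 1}
  one_mem' := ⟨by show (1 : Perm (Fin 6)) ∈ l8; decide +kernel, rfl⟩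
  mul_mem' := by
    have h : ∀ p ∈ l8, ∀ q ∈ l8, p * q ∈ l8 := by decide +kernel
    intro a b ha hb
    exact ⟨h _ ha.1 _ hb.1, show a.2 * b.2 = 1 by rw [ha.2, hb.2, one_mul]⟩
  inv_mem' := by
    have h : ∀ p ∈ l8, p⁻¹ ∈ l8 := by decide +kernel
    intro a ha
    exact ⟨h _ ha.1, show a.2⁻¹ = 1 by rw [ha.2, inv_one]⟩

theorem card_V2 : Nat.card V2 = 8 := by
  let f : {σ // σ ∈ l8.toFinset} → V2 := fun σ => ⟨(σ.1, 1), List.mem_toFinset.1 σ.2, rfl⟩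
  have hf : Function.Bijective f := by
    refine ⟨fun x y h => Subtype.ext (congrArg (fun v : V2 => v.1.1) h), fun v => ?_⟩
    exact ⟨⟨v.1.1, List.mem_toFinset.2 v.2.1⟩, Subtype.ext (Prod.ext rfl v.2.2.symm)⟩
  rw [← Nat.card_eq_of_bijective f hf, Nat.card_eq_fintype_card, Fintype.card_coe]
  decide +kernel

/-- The cycle on the second block. -/
def c2' : Perm (Fin 6) := swap 3 4 * swap 4 5

/-- The cycle on the first block. -/
def c1' : Perm (Fin 6) := swap 0 1 * swap 1 2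

/-- The four group over `(34)` on the first block and the point `5`. -/
def l8c : List (Perm (Fin 6)) :=
  (([1, swap 3 4] : List (Perm (Fin 6))).flatMap fun a =>
    ([1, swap 0 5 * swap 1 2, swap 0 1 * swap 2 5, swap 0 2 * swap 1 5] : List (Perm (Fin 6))).map fun b => a * b)

theorem v2_facts : (∀ v ∈ l8, ∀ w ∈ l8, v * w = w * v) ∧ swap 0 1 ∈ l8 ∧
    (∀ v ∈ l8, c2' * v * c2'⁻¹ ∈ l8) ∧ (∀ v ∈ l8, v * swap 0 1 = swap 0 1 * v) ∧ (∀ v ∈ l8, v * v = 1) ∧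
    (∀ v ∈ l8, ∃ i j k : Fin 2, (v, (1 : Perm (Fin 3))) = d01 ^ i.val * zz ^ j.val * ww ^ k.val) := by
  decide +kernel

theorem v2_self : ∀ σ : Perm (Fin 6), σ * swap 0 1 = swap 0 1 * σ →
    (∀ w ∈ l8, σ * w * σ⁻¹ * w⁻¹ = 1 ∨ σ * w * σ⁻¹ * w⁻¹ = swap 0 1) → σ ∈ l8 := by decide +kernel

theorem v2_piece : ∀ σ : Perm (Fin 6), σ * swap 0 1 = swap 0 1 * σ → σ ^ 4 = 1 →
    (σ * (c2' * σ * c2'⁻¹)) ^ 4 = 1 → σ ∈ l8 := by decide +kernel

theorem v2c_piece : ∀ σ : Perm (Fin 6), σ * swap 3 4 = swap 3 4 * σ → σ ^ 4 = 1 →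
    (σ * (c1' * σ * c1'⁻¹)) ^ 4 = 1 → σ ∈ l8c := by decide +kernel

theorem v2c_span : ∀ σ ∈ l8c, σ ∉ ([1, swap 3 4] : List (Perm (Fin 6))) → ∀ τ ∈ l8c,
    τ ∈ ([1, swap 3 4, σ, swap 3 4 * σ, c1' * σ * c1'⁻¹, swap 3 4 * (c1' * σ * c1'⁻¹), σ * (c1' * σ * c1'⁻¹),
      swap 3 4 * (σ * (c1' * σ * c1'⁻¹))] : List (Perm (Fin 6))) := by decide +kernel

theorem v2c_facts : (∀ τ ∈ l8c, ∃ σ ∈ l8c, τ = σ * (c1' * σ * c1'⁻¹) ∨ τ = swap 3 4 * (σ * (c1' * σ * c1'⁻¹))) ∧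
    swap 3 4 ∈ l8c := by decide +kernel

theorem zz_ww : zz ∈ l32 l16b ∧ (∀ p ∈ ([d01, zz, ww] : List P63), p.2 = 1 ∧ p.1 ∈ l8) := by decide +kernel

theorem exp_twelve : ∀ σ : Perm (Fin 6), (σ * swap 0 1 = swap 0 1 * σ ∨ σ * swap 3 4 = swap 3 4 * σ) →
    σ ^ 12 = 1 := by decide +kernel

theorem pi_four : (∀ π : Perm (Fin 3), π = 1 ∨ π = cyc ∨ π = cyc⁻¹ → π ^ 12 = 1) ∧
    (∀ π : Perm (Fin 3), π = 1 ∨ π = cyc ∨ π = cyc⁻¹ → π ^ 4 = 1 → π = 1) := by decide +kernel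

/-- A permutation of the first block. -/
def emb1 (π : Perm (Fin 3)) : Perm (Fin 6) :=
  if π = 1 then 1 else if π = swap 0 1 then swap 0 1 else if π = swap 1 2 then swap 1 2 else
    if π = swap 0 2 then swap 0 2 else if π = cyc then c1' else c1'⁻¹

/-- A permutation of the second block. -/
def emb2 (π : Perm (Fin 3)) : Perm (Fin 6) :=
  if π = 1 then 1 else if π = swap 0 1 then swap 3 4 else if π = swap 1 2 then swap 4 5 else
    if π = swap 0 2 then swap 3 5 else if π = cyc then c2' else c2'⁻¹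

theorem emb_gen : ∀ π : Perm (Fin 3), ∃ k : Fin 3, ∃ l : Fin 2, π = cyc ^ k.val * swap 0 1 ^ l.val ∧
    emb1 π = c1' ^ k.val * swap 0 1 ^ l.val ∧ emb2 π = c2' ^ k.val * swap 3 4 ^ l.val := by decide +kernel

theorem split_lo : ∀ q : Fin 3, ∃ π : Perm (Fin 3),
    swap (Setup.Frame.CaseII.lo 2) (Setup.Frame.CaseII.hi q) * emb2 π ∈ l8 ∧ π * π = 1 := by decide +kernel

theorem split_hi : ∀ r : Fin 3, ∃ π : Perm (Fin 3),
    swap (Setup.Frame.CaseII.lo r) (Setup.Frame.CaseII.hi 2) * emb1 π ∈ l8c ∧ π * π = 1 := by decide +kernel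

theorem shift_lo : ∀ p : Fin 3, ∃ k : Fin 3, ∀ q : Fin 3,
    c1' ^ k.val * swap (Setup.Frame.CaseII.lo 2) (Setup.Frame.CaseII.hi q) * (c1' ^ k.val)⁻¹ =
      swap (Setup.Frame.CaseII.lo p) (Setup.Frame.CaseII.hi q) ∧
    c2' ^ k.val * swap (Setup.Frame.CaseII.lo q) (Setup.Frame.CaseII.hi 2) * (c2' ^ k.val)⁻¹ =
      swap (Setup.Frame.CaseII.lo q) (Setup.Frame.CaseII.hi p) := by decide +kernel

end Cfsg.Agent.Sp62Three31.Bridge
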