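import Cfsg.Agent.Lib.Sp62Three31BridgeTau
import Cfsg.Agent.Lib.Sp62Three31BridgeRuleData

/-!
The bridge of S3342: cross transvections with a common point of a block commute.
-/

set_option autoImplicit false
set_option maxRecDepth 100000
set_option synthInstance.maxSize 2048

namespace Cfsg.Agent.Sp62Three31.Bridge

open Equiv S9Model37 S9Base37

universe u

variable {G : Type u} [Group G] [Finite G] {S : Setup G} {F : S.Frame} (c : F.CaseII)
  (hy : Subgroup.centralizer ({F.φ (C1 * C2)} : Set G) ≤ Subgroup.normalizer (S.J : Set G))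

theorem e_c2 : e c (c2', 1) = F.φ C2 := by rw [e_left, c2', c.six.map_c2]

theorem e_c1 : e c (c1', 1) = F.φ C1 := by rw [e_left, c1', c.six.map_c1]

theorem e_d2 : e c (swap 3 4, 1) = F.φ D2 := by rw [e_left, c.six.map_d2]

include c hy in
/-- A subgroup of `C(φ D₁)` of order 64 normalises the four group. -/
theorem exists_sixty_four : ∃ T' : Subgroup G, Nat.card T' = 64 ∧
    T' ≤ Subgroup.centralizer ({F.φ D1} : Set G) ∧ T' ≤ Subgroup.normalizer ((V2.map (e c) : Subgroup G) : Set G) := by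
  classical
  set T : Subgroup G := T2.map (e c) with hT
  have hTc : Nat.card T = 2 ^ 5 := by
    rw [hT, Subgroup.card_map_of_injective (e_inj c), card_T2]; norm_num
  have hTle : T ≤ Subgroup.centralizer ({F.φ D1} : Set G) := by
    rintro _ ⟨p, hp, rfl⟩
    rw [mem_cent, ← e_d01 c, ← map_mul, ← map_mul, (central_mem.2.2.2.2.2 p hp).2]
  obtain ⟨g, hg, hgT, hgn, T', hTT', hgT', hT'C, hT'c⟩ := exists_bigger hTc hTle (big_d c hy)
  have hmem : ∀ v ∈ l32 l16b, v ∈ l64 := fun v hv => List.mem_append.2 (Or.inr hv)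
  have himg : ∀ v ∈ l32 l16b, ∃ u ∈ l32 l16b, e c u = g * e c v * g⁻¹ := by
    intro v hv
    obtain ⟨u, hu, hu'⟩ := (Subgroup.mem_normalizer_iff.1 hgn (e c v)).1 ⟨v, hv, rfl⟩
    exact ⟨u, hu, hu'⟩
  have hgd : g * e c d01 * g⁻¹ = e c d01 := by
    rw [e_d01, mem_cent.1 hg, mul_inv_cancel_right]
  have hinv : ∀ x y : G, g * x * g⁻¹ = y → g⁻¹ * y * g⁻¹⁻¹ = x := by rintro x _ rfl; group
  have hcm : ∀ p q : P63, g * e c p * g⁻¹ * (g * e c q * g⁻¹) = g * e c (p * q) * g⁻¹ := fun p q => by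
    rw [map_mul]; group
  -- `zz` is fixed as the generator of the derived subgroup
  have hgz : g * e c zz * g⁻¹ = e c zz := by
    obtain ⟨hall, h23, hw, he, hne⟩ := comm_two
    obtain ⟨u, hu, hu'⟩ := himg _ h23
    obtain ⟨v, hv, hv'⟩ := himg _ hw
    have h1 : g * e c zz * g⁻¹ = e c (u * v * u⁻¹ * v⁻¹) := by
      rw [← he]; simp only [map_mul, map_inv, hu', hv']; group
    rcases hall u hu v hv with h | h
    · rw [h, map_one, conj_eq_one_iff] at h1
      exact absurd (e_inj c (h1.trans (map_one _).symm)) hne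
    · rw [h1, h]
  -- the reflection is fixed
  have hgr : g * e c dd * g⁻¹ = e c dd := by
    obtain ⟨u, hu, hu'⟩ := himg _ central_mem.2.1
    have hcen : ∀ v ∈ l32 l16b, u * v = v * u := by
      intro v hv
      obtain ⟨w, hw, hw'⟩ := (Subgroup.mem_normalizer_iff.1 (inv_mem hgn) (e c v)).1 ⟨v, hv, rfl⟩
      rw [inv_inv] at hw'
      refine e_inj c ?_
      rw [map_mul, map_mul, hu', show e c v = g * e c w * g⁻¹ by rw [hw']; group, hcm, hcm,
        (central_mem.2.2.2.2.2 w hw).1]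
    have hnot : u ∉ ([1, d01, zz, d01 * zz] : List P63) := by
      have hne : dd ∉ ([1, d01, zz, d01 * zz] : List P63) := by decide +kernel
      intro hu4
      refine hne ?_
      have hfix : g * e c u * g⁻¹ = e c u := by
        simp only [List.mem_cons, List.not_mem_nil, or_false] at hu4
        rcases hu4 with rfl | rfl | rfl | rfl
        · rw [map_one]; group
        · exact hgd
        · exact hgz
        · rw [← hcm, hgd, hgz, map_mul]
      have : e c u = e c dd := by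
        have h := hfix
        rw [hu'] at h ⊢
        exact mul_left_cancel (mul_right_cancel h)
      rwa [← e_inj c this]
    have hud : u = dd := by
      refine pick_two u hu hcen hnot (compat_of_conj c hy (hmem _ hu) (hmem _ central_mem.2.1) (g := g⁻¹) ?_)
        (compat_of_conj c hy (hmem _ (T2.mul_mem hu central_mem.2.2.2.1))
          (hmem _ (T2.mul_mem central_mem.2.1 central_mem.2.2.2.1)) (g := g⁻¹) ?_)
      · exact hinv _ _ hu'.symm
      · exact hinv _ _ (by rw [← hcm, hgd, map_mul, hu'])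
    rw [← hu', hud]
  have hgw : ∃ u ∈ V2, e c u = g * e c ww * g⁻¹ := by
    obtain ⟨-, -, hw, -, -⟩ := comm_two
    obtain ⟨u, hu, hu'⟩ := himg _ hw
    have hsq : u * u = 1 := e_inj c (by
      rw [map_mul, hu', hcm, show ww * ww = 1 by decide +kernel]; simp)
    obtain ⟨h2, h1⟩ := pick_w u hu hsq (compat_of_conj c hy (hmem _ hu) (hmem _ hw) (g := g⁻¹) (hinv _ _ hu'.symm))
      (compat_of_conj c hy (hmem _ (T2.mul_mem central_mem.2.2.2.1 hu))
        (hmem _ (T2.mul_mem central_mem.2.2.2.1 hw)) (g := g⁻¹)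
        (hinv _ _ (by rw [← hcm, hgd, map_mul, hu'])))
      (compat_of_conj c hy (hmem _ (T2.mul_mem (T2.mul_mem central_mem.2.1 central_mem.2.2.2.1) hu))
        (hmem _ (T2.mul_mem (T2.mul_mem central_mem.2.1 central_mem.2.2.2.1) hw)) (g := g⁻¹)
        (hinv _ _ (by rw [← hcm, ← hcm, hgd, hgr, map_mul, map_mul, hu'])))
    exact ⟨u, ⟨h1, h2⟩, hu'⟩
  set V : Subgroup G := V2.map (e c) with hV
  have hgV : g ∈ Subgroup.normalizer (V : Set G) := by
    refine PSpAmalgam31.mem_normalizer_of_maps ?_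
    rintro _ ⟨⟨v, π⟩, ⟨hv, rfl : π = 1⟩, rfl⟩
    obtain ⟨i, j, k, he⟩ := v2_facts.2.2.2.2.2 v hv
    obtain ⟨u, hu, hu'⟩ := hgw
    rw [he, ← hcm, ← hcm]
    simp only [map_pow, ← conj_pow, hgd, hgz, ← hu']
    refine V.mul_mem (V.mul_mem (V.pow_mem ⟨d01, ?_, rfl⟩ _) (V.pow_mem ⟨zz, ?_, rfl⟩ _)) (V.pow_mem ⟨u, hu, rfl⟩ _)
    · exact ⟨(zz_ww.2 d01 (by simp)).2, (zz_ww.2 d01 (by simp)).1⟩
    · exact ⟨(zz_ww.2 zz (by simp)).2, (zz_ww.2 zz (by simp)).1⟩
  have hTV : T ≤ Subgroup.normalizer (V : Set G) := by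
    have h6 : ∀ σ ∈ l16b, ∀ v ∈ l8, σ * v * σ⁻¹ ∈ l8 := by decide +kernel
    have h : ∀ p ∈ l32 l16b, ∀ v ∈ l8, (p * (v, 1) * p⁻¹).1 ∈ l8 ∧ (p * (v, 1) * p⁻¹).2 = 1 :=
      fun p hp v hv => ⟨h6 _ (mem_l32.1 hp).1 v hv, by simp⟩
    rintro _ ⟨p, hp, rfl⟩
    refine PSpAmalgam31.mem_normalizer_of_maps ?_
    rintro _ ⟨⟨v, π⟩, ⟨hv, rfl : π = 1⟩, rfl⟩
    exact ⟨p * (v, 1) * p⁻¹, h p hp v hv, by simp only [map_mul, map_inv]⟩
  refine ⟨T', by rw [hT'c]; norm_num, hT'C, ?_⟩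
  have hi : (T.subgroupOf T').index = 2 := by
    have h1 := (T.subgroupOf T').card_mul_index
    rw [Nat.card_congr (Subgroup.subgroupOfEquivOfLe hTT').toEquiv, hTc, hT'c] at h1
    omega
  intro x hx
  by_cases hxT : x ∈ T
  · exact hTV hxT
  · have hxg : g⁻¹ * x ∈ T := by
      have := Subgroup.mul_mem_iff_of_index_two hi (a := (⟨g, hgT'⟩ : T')⁻¹) (b := ⟨x, hx⟩)
      simp only [Subgroup.mem_subgroupOf, Subgroup.coe_mul, Subgroup.coe_inv] at this
      exact this.2 (iff_of_false (fun h => hgT (by simpa using T.inv_mem h)) hxT)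
    have := mul_mem hgV (hTV hxg)
    rwa [mul_inv_cancel_left] at this

/-- A group permuting the three nontrivial cosets is small over the kernel. -/
theorem card_dvd_of_perm {z w₁ w₂ : G} (hz : z * z = 1) (V : Subgroup G)
    (hw : ∀ v ∈ V, v = 1 ∨ v = z ∨ v = w₁ ∨ v = z * w₁ ∨ v = w₂ ∨ v = z * w₂ ∨ v = w₁ * w₂ ∨ v = z * (w₁ * w₂))
    (h1 : w₁ ∈ V) (h2 : w₂ ∈ V) (hzV : z ∈ V) (hsep : ∀ k k' : Fin 3, (![w₁, w₂, w₁ * w₂] k = ![w₁, w₂, w₁ * w₂] k' ∨
      ![w₁, w₂, w₁ * w₂] k = z * ![w₁, w₂, w₁ * w₂] k') → k = k')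
    (hne : ∀ k : Fin 3, ![w₁, w₂, w₁ * w₂] k ≠ 1 ∧ ![w₁, w₂, w₁ * w₂] k ≠ z)
    (N : Subgroup G) (hNV : N ≤ Subgroup.normalizer (V : Set G)) (hNz : N ≤ Subgroup.centralizer ({z} : Set G)) :
    Nat.card N ∣ Nat.card (centMod z hz V) * 6 := by
  classical
  let w : Fin 3 → G := ![w₁, w₂, w₁ * w₂]
  have hwV : ∀ k, w k ∈ V := fun k => by fin_cases k <;> simp [w, h1, h2, V.mul_mem h1 h2]
  have hcz : ∀ n : N, (n : G) * z * (n : G)⁻¹ = z := fun n => by
    rw [mem_cent.1 (hNz n.2), mul_inv_cancel_right]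
  have hex : ∀ (n : N) (k : Fin 3), ∃ k', (n : G) * w k * (n : G)⁻¹ = w k' ∨ (n : G) * w k * (n : G)⁻¹ = z * w k' := by
    intro n k
    rcases hw _ ((Subgroup.mem_normalizer_iff.1 (hNV n.2) (w k)).1 (hwV k)) with h | h | h | h | h | h | h | h
    · exact absurd (conj_eq_one_iff.1 h) (hne k).1
    · refine absurd ?_ (hne k).2
      calc w k = (n : G)⁻¹ * ((n : G) * w k * (n : G)⁻¹) * n := by group
        _ = (n : G)⁻¹ * ((n : G) * z * (n : G)⁻¹) * n := by rw [h, hcz n]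
        _ = z := by group
    · exact ⟨0, Or.inl h⟩
    · exact ⟨0, Or.inr h⟩
    · exact ⟨1, Or.inl h⟩
    · exact ⟨1, Or.inr h⟩
    · exact ⟨2, Or.inl h⟩
    · exact ⟨2, Or.inr h⟩
  choose f hf using hex
  have huniq : ∀ (n : N) (k k' : Fin 3),
      ((n : G) * w k * (n : G)⁻¹ = w k' ∨ (n : G) * w k * (n : G)⁻¹ = z * w k') → f n k = k' := by
    intro n k k' h
    refine hsep _ _ ?_
    show w (f n k) = w k' ∨ w (f n k) = z * w k'
    rcases hf n k with a | a <;> rw [a] at h <;> rcases h with b | b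
    · exact Or.inl b
    · exact Or.inr b
    · exact Or.inr (by rw [← b, ← mul_assoc, hz, one_mul])
    · exact Or.inl (mul_left_cancel b)
  have hmul : ∀ n m : N, ∀ k, f (n * m) k = f n (f m k) := by
    intro n m k
    refine huniq _ _ _ ?_
    have e1 : ((n * m : N) : G) * w k * ((n * m : N) : G)⁻¹ = (n : G) * ((m : G) * w k * (m : G)⁻¹) * (n : G)⁻¹ := by
      push_cast; group
    rcases hf m k with a | a <;> rcases hf n (f m k) with b | b
    · left; rw [e1, a, b]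
    · right; rw [e1, a, b]
    · right
      rw [e1, a, show (n : G) * (z * w (f m k)) * (n : G)⁻¹ =
        (n : G) * z * (n : G)⁻¹ * ((n : G) * w (f m k) * (n : G)⁻¹) by group, hcz, b]
    · left
      rw [e1, a, show (n : G) * (z * w (f m k)) * (n : G)⁻¹ =
        (n : G) * z * (n : G)⁻¹ * ((n : G) * w (f m k) * (n : G)⁻¹) by group, hcz, b, ← mul_assoc, hz, one_mul]
  have hone : ∀ k, f 1 k = k := fun k => huniq _ _ _ (Or.inl (by simp))
  let ρ : N →* Equiv.Perm (Fin 3) :=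
    { toFun := fun n =>
        { toFun := f n, invFun := f n⁻¹
          left_inv := fun k => by rw [← hmul, inv_mul_cancel, hone]
          right_inv := fun k => by rw [← hmul, mul_inv_cancel, hone] }
      map_one' := Equiv.ext hone
      map_mul' := fun n m => Equiv.ext (hmul n m) }
  have hker : (ρ.ker.map N.subtype) ≤ centMod z hz V := by
    rintro _ ⟨n, hn, rfl⟩
    have hnz : (n : G) * z = z * n := mem_cent.1 (hNz n.2)
    refine ⟨hnz, ?_⟩
    have hk : ∀ k, CommMod z n (w k) := by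
      intro k
      have hfk : f n k = k := DFunLike.congr_fun (show ρ n = 1 from hn) k
      rcases hf n k with a | a <;> rw [hfk] at a
      · exact Or.inl (by rw [a, mul_inv_cancel])
      · exact Or.inr (by rw [a, mul_inv_cancel_right])
    have hz0 : CommMod z n z := CommMod.of_eq hnz
    intro v hv
    rcases hw v hv with rfl | rfl | rfl | rfl | rfl | rfl | rfl | rfl
    · exact CommMod.of_eq (by simp)
    · exact hz0
    · exact hk 0
    · exact hz0.mul_right hz rfl (hk 0)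
    · exact hk 1
    · exact hz0.mul_right hz rfl (hk 1)
    · exact hk 2
    · exact hz0.mul_right hz rfl (hk 2)
  have hk := Subgroup.card_dvd_of_le hker
  rw [Subgroup.card_map_of_injective N.subtype_injective] at hk
  have hr : Nat.card ρ.range ∣ 6 := by
    have := ρ.range.card_subgroup_dvd_card
    rwa [Nat.card_perm, Nat.card_fin] at this
  rw [← ρ.ker.card_mul_index, Subgroup.index_ker]
  exact mul_dvd_mul hk hr

include hy in
theorem cent_block_y {g : G} {w : W} (hw : ∃ u : W, u * (C1 * C2) * u⁻¹ = w) (hg : g * F.φ w = F.φ w * g) :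
    g ∈ Subgroup.normalizer (S.J : Set G) := by
  obtain ⟨u, rfl⟩ := hw
  have hu : F.φ u ∈ Subgroup.normalizer (S.J : Set G) := F.range_eq ▸ ⟨u, rfl⟩
  have h := hy (mem_cent.2 (show (F.φ u)⁻¹ * g * F.φ u * F.φ (C1 * C2) = F.φ (C1 * C2) * ((F.φ u)⁻¹ * g * F.φ u) by
    rw [map_mul F.φ (u * (C1 * C2)) u⁻¹, map_mul F.φ u, map_inv] at hg
    calc (F.φ u)⁻¹ * g * F.φ u * F.φ (C1 * C2)
        = (F.φ u)⁻¹ * (g * (F.φ u * F.φ (C1 * C2) * (F.φ u)⁻¹)) * F.φ u := by group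
      _ = _ := by rw [hg]; group))
  have := mul_mem (mul_mem hu h) (inv_mem hu)
  rwa [show F.φ u * ((F.φ u)⁻¹ * g * F.φ u) * (F.φ u)⁻¹ = g by group] at this

include hy in
/-- The two four groups over `(01)` commute. -/
theorem comm_V : ∀ σ ∈ l8, ∀ τ ∈ l8c, Commute (e c (σ, 1)) (F.φ Rot ^ 2 * e c (τ, 1) * (F.φ Rot ^ 2)⁻¹) := by
  classical
  haveI : Fact (Nat.Prime 2) := ⟨Nat.prime_two⟩
  haveI : Fact (Nat.Prime 3) := ⟨Nat.prime_three⟩
  set d := F.φ D1 with hddef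
  set u2 := F.φ C2 with hu2def
  set u3 := F.φ C3 with hu3def
  set R := F.φ Rot ^ 2 with hRdef
  have hrel : ∀ w w' : W, (w : P9) = w' → F.φ w = F.φ w' := fun w w' h => congrArg F.φ (Subtype.ext h)
  have hd2 : d * d = 1 := by
    rw [hddef, ← map_mul, ← map_one F.φ]; exact hrel _ _ (by decide +kernel)
  set V : Subgroup G := V2.map (e c) with hV
  have hVc : Nat.card V = 8 := by rw [hV, Subgroup.card_map_of_injective (e_inj c), card_V2]
  have hcomV : ∀ v ∈ V, ∀ v' ∈ V, v * v' = v' * v := by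
    rintro _ ⟨⟨v, π⟩, ⟨hv, rfl : π = 1⟩, rfl⟩ _ ⟨⟨v', π'⟩, ⟨hv', rfl : π' = 1⟩, rfl⟩
    rw [← map_mul, ← map_mul, Prod.mk_mul_mk, Prod.mk_mul_mk, v2_facts.1 v hv v' hv']
  have hdV : d ∈ V := ⟨(swap 0 1, 1), ⟨v2_facts.2.1, rfl⟩, e_d01 c⟩
  set M : Subgroup G := centMod d hd2 V with hM
  have hVM : V ≤ M := fun v hv => ⟨hcomV v hv d hdV, fun w hw => CommMod.of_eq (hcomV v hv w hw)⟩
  haveI hVn : (V.subgroupOf M).Normal := ⟨fun v hv g => centMod_normal hdV g.2 hv⟩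
  have hV2 : IsPGroup 2 V := IsPGroup.of_card (n := 3) (by rw [hVc]; norm_num)
  have h3V : ∀ v ∈ V, v * u3 = u3 * v := by
    rintro _ ⟨⟨v, π⟩, ⟨hv, rfl : π = 1⟩, rfl⟩
    rw [hu3def, ← e_c3 c, ← map_mul, ← map_mul, Prod.mk_mul_mk, Prod.mk_mul_mk]
    simp
  have hsq : ∀ v ∈ V, v * v = 1 := by
    rintro _ ⟨⟨v, π⟩, ⟨hv, rfl : π = 1⟩, rfl⟩
    rw [← map_mul, Prod.mk_mul_mk, v2_facts.2.2.2.2.1 v hv, one_mul, Prod.mk_one_one, map_one]
  have h3d : u3 * d = d * u3 := (h3V d hdV).symm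
  have h3M : u3 ∈ M := ⟨h3d, fun v hv => CommMod.of_eq (h3V v hv).symm⟩
  have h2d : u2 * d = d * u2 := by
    rw [hu2def, hddef, ← map_mul, ← map_mul]; exact hrel _ _ (by decide +kernel)
  have h23 : Commute u2 u3 := by
    rw [hu2def, hu3def]; exact (show Commute C2 C3 from Subtype.ext (by decide +kernel)).map F.φ
  have hself : ∀ g ∈ M, g * u3 * g⁻¹ * u3⁻¹ ∈ V → ∃ k : ℕ, ∃ v ∈ V, g = u3 ^ k * v := by
    intro g hg h
    set v := g * u3 * g⁻¹ * u3⁻¹ with hv
    have h33 : u3 ^ 3 = 1 := (c3_order F) ▸ pow_orderOf_eq_one u3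
    have hv3 : v ^ 3 = 1 := by
      have e1 : g * u3 * g⁻¹ = v * u3 := by rw [hv]; group
      have e2 : (v * u3) ^ 3 = 1 := by rw [← e1, conj_pow, h33, mul_one, mul_inv_cancel]
      rwa [(show Commute v u3 from h3V v h).mul_pow, h33, mul_one] at e2
    have hv1 : v = 1 := by rwa [pow_succ, sq, hsq v h, one_mul] at hv3
    rw [hv, mul_inv_eq_one] at hv1
    obtain ⟨⟨σ, π⟩, rfl, hπ⟩ := exists_e c (mul_inv_eq_iff_eq_mul.1 hv1)
    have h01 : σ * swap 0 1 = swap 0 1 * σ := by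
      have h1 := hg.1
      rw [hddef, ← e_d01 c, ← map_mul, ← map_mul] at h1
      exact congrArg Prod.fst (e_inj c h1)
    have hσ : σ ∈ l8 := v2_self σ h01 fun w hw => by
      rcases hg.2 _ ⟨(w, 1), ⟨hw, rfl⟩, rfl⟩ with k | k <;>
        rw [← map_inv, ← map_inv, ← map_mul, ← map_mul, ← map_mul] at k
      · left; exact congrArg Prod.fst (e_inj c (k.trans (map_one _).symm))
      · right
        rw [hddef, ← e_d01 c] at k
        exact congrArg Prod.fst (e_inj c k)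
    obtain ⟨k, hk⟩ : ∃ k : ℕ, π = cyc ^ k := by
      rcases hπ with h | h | h
      · exact ⟨0, by simpa using h⟩
      · exact ⟨1, by simpa using h⟩
      · exact ⟨2, by rw [show π = cyc⁻¹ from h]; decide +kernel⟩
    refine ⟨k, _, ⟨(σ, 1), ⟨hσ, rfl⟩, rfl⟩, ?_⟩
    rw [hu3def, ← e_c3 c, ← map_pow, ← map_mul]
    exact congrArg (e c) (Prod.ext (by simp) (by simp [hk]))
  set E := CoprimeGen.pairSubgroup u2 u3 h23 with hE
  have hu2o : orderOf u2 = 3 := by
    rw [hu2def, orderOf_injective F.φ F.inj]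
    exact orderOf_eq_prime (hp := ⟨Nat.prime_three⟩) (Subtype.ext (by decide +kernel))
      (fun h => absurd (congrArg Subtype.val h) (by decide +kernel))
  have hEp : IsPGroup 3 E := by
    obtain ⟨k, -, hk⟩ := (Nat.dvd_prime_pow Nat.prime_three).1
      (show Nat.card E ∣ 3 ^ 2 by
        have := CoprimeGen.card_pairSubgroup_dvd u2 u3 h23
        rwa [hu2o, c3_order F] at this)
    exact IsPGroup.of_card hk
  have h2V : u2 ∈ Subgroup.normalizer (V : Set G) := by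
    refine PSpAmalgam31.mem_normalizer_of_maps ?_
    rintro _ ⟨⟨v, π⟩, ⟨hv, rfl : π = 1⟩, rfl⟩
    refine ⟨(c2' * v * c2'⁻¹, 1), ⟨v2_facts.2.2.1 v hv, rfl⟩, ?_⟩
    rw [hu2def, ← e_c2 c, ← map_inv, ← map_mul, ← map_mul]
    exact congrArg (e c) (Prod.ext (by simp) (by simp))
  have h3N : u3 ∈ Subgroup.normalizer (V : Set G) := PSpAmalgam31.mem_normalizer_of_maps fun v hv => by
    rw [← h3V v hv, mul_inv_cancel_right]; exact hv
  have hEV : E ≤ Subgroup.normalizer (V : Set G) := CoprimeGen.pairSubgroup_le h2V h3N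
  have hEM : E ≤ Subgroup.normalizer (M : Set G) := CoprimeGen.pairSubgroup_le
    (le_normalizer_centMod h2d h2V) (le_normalizer_centMod h3d h3N)
  rcases invariant_piece M V hVM hV2 h3M (c3_order F) hself E hEp hEM hEV with
    ⟨hcard, -⟩ | ⟨K, hVK, hKne, hKM, hK3, hEK⟩
  · exfalso
    obtain ⟨T', hT'c, hT'C, hT'N⟩ := exists_sixty_four c hy
    have he : ∀ v ∈ l8, ∀ p : P63, p = (v, 1) → e c p ∈ V := fun v hv p hp => ⟨p, hp ▸ ⟨hv, rfl⟩, rfl⟩
    have hl : ∀ v ∈ l8, (v, (1 : Perm (Fin 3))) ∈ ([1, d01, zz, d01 * zz, ww, d01 * ww, zz * ww,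
      d01 * (zz * ww)] : List P63) := by decide +kernel
    have hsep' : ∀ k k' : Fin 3, (![zz, ww, zz * ww] k = ![zz, ww, zz * ww] k' ∨
        ![zz, ww, zz * ww] k = d01 * ![zz, ww, zz * ww] k') → k = k' := by decide +kernel
    have hne' : ∀ k : Fin 3, ![zz, ww, zz * ww] k ≠ 1 ∧ ![zz, ww, zz * ww] k ≠ d01 := by decide +kernel
    have hv3 : ∀ k, ![e c zz, e c ww, e c zz * e c ww] k = e c (![zz, ww, zz * ww] k) := fun k => by
      fin_cases k <;> simp [map_mul]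
    have hd' : d = e c d01 := (e_d01 c).symm
    have h := card_dvd_of_perm (w₁ := e c zz) (w₂ := e c ww) hd2 V ?_ ?_ ?_ hdV ?_ ?_ T' hT'N hT'C
    · have : 64 ∣ 48 * 6 := by
        rw [← hT'c]
        exact h.trans (Nat.mul_dvd_mul_right (by rw [hVc] at hcard; exact hcard) 6)
      norm_num at this
    · rintro _ ⟨⟨v, π⟩, ⟨hv, rfl : π = 1⟩, rfl⟩
      have hm := hl v hv
      simp only [List.mem_cons, List.not_mem_nil, or_false] at hm
      rw [hd']
      rcases hm with h | h | h | h | h | h | h | h <;> rw [h] <;> simp only [map_mul, map_one] <;> tauto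
    · exact he _ (zz_ww.2 zz (by simp)).2 _ (Prod.ext rfl (zz_ww.2 zz (by simp)).1)
    · exact he _ (zz_ww.2 ww (by simp)).2 _ (Prod.ext rfl (zz_ww.2 ww (by simp)).1)
    · intro k k'
      rw [hv3, hv3, hd', ← map_mul]
      intro hh
      exact hsep' k k' (hh.imp (fun h => e_inj c h) fun h => e_inj c h)
    · intro k
      rw [hv3, hd']
      exact ⟨fun h => (hne' k).1 (e_inj c (h.trans (map_one _).symm)), fun h => (hne' k).2 (e_inj c h)⟩
  -- a piece
  have hK2 : u2 ∈ Subgroup.normalizer (K : Set G) := hEK (CoprimeGen.left_mem_pairSubgroup _ _ _)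
  have hK3n : u3 ∈ Subgroup.normalizer (K : Set G) := hEK (CoprimeGen.right_mem_pairSubgroup _ _ _)
  have hKd : ∀ g ∈ K, g * d = d * g := fun g hg => (hKM hg).1
  have hKo : ∀ g ∈ K, ¬ 3 ∣ orderOf g := fun g hg hd => hK3 (hd.trans (Subgroup.orderOf_dvd_natCard K hg))
  have h4 : ∀ (σ : Perm (Fin 6)) (π : Perm (Fin 3)) (g : G),
      (σ * swap 0 1 = swap 0 1 * σ ∨ σ * swap 3 4 = swap 3 4 * σ) → (π = 1 ∨ π = cyc ∨ π = cyc⁻¹) →
      g * e c (σ, π) * g⁻¹ ∈ K → σ ^ 4 = 1 ∧ π ^ 4 = 1 := by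
    intro σ π g hσ hπ hpK
    have h12 : e c (σ, π) ^ 12 = 1 := by
      rw [← map_pow, show ((σ, π) : P63) ^ 12 = 1 from Prod.ext (exp_twelve σ hσ) (pi_four.1 π hπ), map_one]
    have h := hKo _ hpK
    rw [show g * e c (σ, π) * g⁻¹ = MulAut.conj g (e c (σ, π)) from rfl, MulEquiv.orderOf_eq] at h
    have h4' := pow_of_dvd (m := 4) h12 h (by norm_num)
    rw [← map_pow] at h4'
    have h' := e_inj c (h4'.trans (map_one _).symm)
    exact ⟨congrArg Prod.fst h', congrArg Prod.snd h'⟩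
  have hRd : R * F.φ D2 * R⁻¹ = d := by
    rw [hRdef, hddef, ← map_pow, ← map_inv, ← map_mul, ← map_mul]; exact hrel _ _ (by decide +kernel)
  have hR3 : R * u3 * R⁻¹ = u2 := by
    rw [hRdef, hu3def, hu2def, ← map_pow, ← map_inv, ← map_mul, ← map_mul]; exact hrel _ _ (by decide +kernel)
  have hR1 : R * F.φ C1 * R⁻¹ = u3 := by
    rw [hRdef, hu3def, ← map_pow, ← map_inv, ← map_mul, ← map_mul]; exact hrel _ _ (by decide +kernel)
  -- the centraliser of `C₃`
  have hK3c : ∀ g ∈ K, g * u3 = u3 * g → g ∈ V := by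
    intro g hg h
    obtain ⟨⟨σ, π⟩, rfl, hπ⟩ := exists_e c h
    have hσ : σ * swap 0 1 = swap 0 1 * σ := by
      have h1 := hKd _ hg
      rw [hddef, ← e_d01 c, ← map_mul, ← map_mul] at h1
      exact congrArg Prod.fst (e_inj c h1)
    have h1 := h4 σ π 1 (Or.inl hσ) hπ (by simpa using hg)
    have hp1 := pi_four.2 π hπ h1.2
    subst hp1
    have h2 : e c (σ * (c2' * σ * c2'⁻¹), 1) ∈ K := by
      have h2 := K.mul_mem hg ((Subgroup.mem_normalizer_iff.1 hK2 _).1 hg)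
      rw [hu2def, ← e_c2 c, ← map_inv, ← map_mul, ← map_mul, ← map_mul] at h2
      convert h2 using 2
      simp
    have hc' : c2' * swap 0 1 = swap 0 1 * c2' := by decide +kernel
    have h3 := (h4 (σ * (c2' * σ * c2'⁻¹)) 1 1 (Or.inl ((show Commute σ (swap 0 1) from hσ).mul_left
      (((show Commute c2' (swap 0 1) from hc').mul_left hσ).mul_left
        (show Commute c2' (swap 0 1) from hc').inv_left)).eq) (Or.inl rfl) (by simpa using h2)).1
    exact ⟨(σ, 1), ⟨v2_piece σ hσ h1.1 h3, rfl⟩, rfl⟩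
  -- the centraliser of `C₂`
  have hK2c : ∀ g ∈ K, g * u2 = u2 * g → ∃ τ ∈ l8c, R * e c (τ, 1) * R⁻¹ = g := by
    intro g hg h
    have h' : R⁻¹ * g * R * u3 = u3 * (R⁻¹ * g * R) := by
      calc R⁻¹ * g * R * u3 = R⁻¹ * (g * (R * u3 * R⁻¹)) * R := by group
        _ = R⁻¹ * ((R * u3 * R⁻¹) * g) * R := by rw [hR3, h]
        _ = _ := by group
    obtain ⟨⟨σ, π⟩, hp, hπ⟩ := exists_e c h'
    have hge : R * e c (σ, π) * R⁻¹ = g := by rw [hp]; group
    have hσ : σ * swap 3 4 = swap 3 4 * σ := by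
      have h1 : e c (σ, π) * F.φ D2 = F.φ D2 * e c (σ, π) := by
        rw [hp]
        calc R⁻¹ * g * R * F.φ D2 = R⁻¹ * (g * (R * F.φ D2 * R⁻¹)) * R := by group
          _ = R⁻¹ * ((R * F.φ D2 * R⁻¹) * g) * R := by rw [hRd, hKd g hg]
          _ = _ := by group
      rw [← e_d2 c, ← map_mul, ← map_mul] at h1
      exact congrArg Prod.fst (e_inj c h1)
    have h1 := h4 σ π R (Or.inr hσ) hπ (by rw [hge]; exact hg)
    have hp1 := pi_four.2 π hπ h1.2
    subst hp1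
    have h2 : R * e c (σ * (c1' * σ * c1'⁻¹), 1) * R⁻¹ ∈ K := by
      have h2 := K.mul_mem hg ((Subgroup.mem_normalizer_iff.1 hK3n _).1 hg)
      have e2 : e c (σ * (c1' * σ * c1'⁻¹), 1) = e c (σ, 1) * (F.φ C1 * e c (σ, 1) * (F.φ C1)⁻¹) := by
        rw [← e_c1 c, ← map_inv, ← map_mul, ← map_mul, ← map_mul]
        exact congrArg (e c) (Prod.ext (by simp) (by simp))
      rw [e2]
      rw [← hge, ← hR1] at h2
      convert h2 using 1
      group
    have hc' : c1' * swap 3 4 = swap 3 4 * c1' := by decide +kernel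
    have h3 := (h4 (σ * (c1' * σ * c1'⁻¹)) 1 R (Or.inr ((show Commute σ (swap 3 4) from hσ).mul_left
      (((show Commute c1' (swap 3 4) from hc').mul_left hσ).mul_left
        (show Commute c1' (swap 3 4) from hc').inv_left)).eq) (Or.inl rfl) h2).1
    exact ⟨σ, v2c_piece σ hσ h1.1 h3, hge⟩
  -- the two other lines
  have hKy : ∀ (w : W), (∃ u : W, u * (C1 * C2) * u⁻¹ = w) → ∀ g ∈ K, g * F.φ w = F.φ w * g → g ∈ V := by
    intro w hw g hg h
    have hJ := cent_block_y hy hw h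
    have hzJ : u3 ∈ S.J := by rw [F.base]; exact Subgroup.subset_closure (by simp [hu3def])
    have h1 : g * u3 * g⁻¹ * u3⁻¹ ∈ S.J :=
      S.J.mul_mem ((Subgroup.mem_normalizer_iff.1 hJ u3).1 hzJ) (S.J.inv_mem hzJ)
    have h2 : g * u3 * g⁻¹ * u3⁻¹ ∈ K := by
      rw [show g * u3 * g⁻¹ * u3⁻¹ = g * (u3 * g⁻¹ * u3⁻¹) by group]
      exact K.mul_mem hg ((Subgroup.mem_normalizer_iff.1 hK3n _).1 (K.inv_mem hg))
    have h3 : g * u3 * g⁻¹ * u3⁻¹ = 1 := by
      refine orderOf_eq_one_iff.1 (Nat.dvd_one.1 ?_)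
      have hd := orderOf_dvd_of_pow_eq_one (S.hJexp _ h1)
      rcases (Nat.dvd_prime Nat.prime_three).1 hd with e' | e'
      · rw [e']
      · exact absurd (e' ▸ dvd_rfl) (hKo _ h2)
    rw [mul_inv_eq_one] at h3
    exact hK3c g hg (mul_inv_eq_iff_eq_mul.1 h3)
  obtain ⟨g, hgK, hgV, τ₀, hτ₀, hgτ⟩ : ∃ g ∈ K, g ∉ V ∧ ∃ τ ∈ l8c, R * e c (τ, 1) * R⁻¹ = g := by
    by_contra hno
    have h33 : u3 ^ 3 = 1 := (c3_order F) ▸ pow_orderOf_eq_one u3
    have h22 : u2 ^ 3 = 1 := hu2o ▸ pow_orderOf_eq_one u2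
    have h31 : u3 ≠ 1 := fun h => by
      have := c3_order F
      rw [show F.φ C3 = 1 from h, orderOf_one] at this
      norm_num at this
    refine hKne (le_antisymm ?_ hVK)
    refine le_of_four h23 h22 h33 h31 ?_ hK2 hK3n hK3 ?_ hK3c ?_ ?_
    · rintro ⟨k, hk⟩
      have hC : F.φ (C3 ^ k) = F.φ C2 := by rw [map_zpow]; exact hk
      have h' : ((C3 : P9)) ^ k = (C2 : P9) := by
        have := congrArg Subtype.val (F.inj hC)
        simpa using this
      have := DFunLike.congr_fun h' 3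
      rw [Equiv.Perm.zpow_apply_eq_self_of_apply_eq_self (by decide +kernel)] at this
      exact absurd this (by decide +kernel)
    · intro g hg h
      by_contra hgV
      exact hno ⟨g, hg, hgV, hK2c g hg h⟩
    · intro g hg h
      rw [hu2def, hu3def, ← map_mul] at h
      exact hKy (C2 * C3) ⟨Rot, Subtype.ext (by decide +kernel)⟩ g hg h
    · intro g hg h
      rw [hu2def, hu3def, ← map_inv, ← map_mul] at h
      exact hKy (C2 * C3⁻¹) ⟨D3 * Rot, Subtype.ext (by decide +kernel)⟩ g hg h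
  have hτne : τ₀ ∉ ([1, swap 3 4] : List (Perm (Fin 6))) := by
    intro hm
    simp only [List.mem_cons, List.not_mem_nil, or_false] at hm
    refine hgV ?_
    rw [← hgτ]
    rcases hm with rfl | rfl
    · rw [Prod.mk_one_one, map_one, mul_one, mul_inv_cancel]; exact V.one_mem
    · rw [e_d2, hRd]; exact hdV
  have hV'K : ∀ τ ∈ l8c, R * e c (τ, 1) * R⁻¹ ∈ K := by
    intro τ hτ
    let Kp : Subgroup (Perm (Fin 6)) :=
      { carrier := {τ | R * e c (τ, 1) * R⁻¹ ∈ K}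
        one_mem' := by show R * e c (1, 1) * R⁻¹ ∈ K; rw [Prod.mk_one_one, map_one, mul_one, mul_inv_cancel]; exact K.one_mem
        mul_mem' := fun {a b} ha hb => by
          show R * e c (a * b, 1) * R⁻¹ ∈ K
          have := K.mul_mem ha hb
          rw [show (a * b, (1 : Perm (Fin 3))) = (a, 1) * (b, 1) by simp, map_mul]
          convert this using 1
          group
        inv_mem' := fun {a} ha => by
          show R * e c (a⁻¹, 1) * R⁻¹ ∈ K
          have := K.inv_mem ha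
          rw [show (a⁻¹, (1 : Perm (Fin 3))) = (a, 1)⁻¹ by simp, map_inv]
          convert this using 1
          group }
    have h0 : τ₀ ∈ Kp := by show R * e c (τ₀, 1) * R⁻¹ ∈ K; rw [hgτ]; exact hgK
    have h34 : swap 3 4 ∈ Kp := by show R * e c (swap 3 4, 1) * R⁻¹ ∈ K; rw [e_d2, hRd]; exact hVK hdV
    have hc : c1' * τ₀ * c1'⁻¹ ∈ Kp := by
      show R * e c (c1' * τ₀ * c1'⁻¹, 1) * R⁻¹ ∈ K
      have := (Subgroup.mem_normalizer_iff.1 hK3n g).1 hgK
      rw [← hgτ, ← hR1] at this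
      rw [show (c1' * τ₀ * c1'⁻¹, (1 : Perm (Fin 3))) = (c1', 1) * (τ₀, 1) * (c1', 1)⁻¹ by simp, map_mul, map_mul,
        map_inv, e_c1]
      convert this using 1
      group
    show τ ∈ Kp
    have hm := v2c_span τ₀ hτ₀ hτne τ hτ
    simp only [List.mem_cons, List.not_mem_nil, or_false] at hm
    rcases hm with rfl | rfl | rfl | rfl | rfl | rfl | rfl | rfl
    · exact Kp.one_mem
    · exact h34
    · exact h0
    · exact Kp.mul_mem h34 h0
    · exact hc
    · exact Kp.mul_mem h34 hc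
    · exact Kp.mul_mem h0 hc
    · exact Kp.mul_mem h34 (Kp.mul_mem h0 hc)
  intro σ hσ τ hτ
  set v := e c (σ, 1) with hvdef
  have hvV : v ∈ V := ⟨(σ, 1), ⟨hσ, rfl⟩, rfl⟩
  have hexact : ∀ a ∈ K, Commute (a * (u3 * a * u3⁻¹)) v := by
    intro a ha
    have h3d' : u3 * d * u3⁻¹ = d := by rw [h3d, mul_inv_cancel_right]
    have hv' : u3 * v * u3⁻¹ = v := by rw [← h3V v hvV, mul_inv_cancel_right]
    have hcd : a * d = d * a := hKd a ha
    have hdv : d * v = v * d := hcomV d hdV v hvV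
    have hb : (u3 * a * u3⁻¹) * v * (u3 * a * u3⁻¹)⁻¹ = u3 * (a * v * a⁻¹) * u3⁻¹ := by
      conv_lhs => rw [← hv']
      group
    have h1 := (hKM ha).2 v hvV
    have key : a * (u3 * a * u3⁻¹) * v * (a * (u3 * a * u3⁻¹))⁻¹ =
        a * ((u3 * a * u3⁻¹) * v * (u3 * a * u3⁻¹)⁻¹) * a⁻¹ := by group
    refine mul_inv_eq_iff_eq_mul.1 ?_
    rcases h1.cases with k | k
    · rw [key, hb, k, hv', k]
    · rw [key, hb, k, show u3 * (d * v) * u3⁻¹ = (u3 * d * u3⁻¹) * (u3 * v * u3⁻¹) by group, h3d', hv',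
        show a * (d * v) * a⁻¹ = (a * d * a⁻¹) * (a * v * a⁻¹) by group, k, hcd, mul_inv_cancel_right,
        ← mul_assoc, hd2, one_mul]
  obtain ⟨τ', hτ', hc⟩ := v2c_facts.1 τ hτ
  have hprod : R * e c (τ' * (c1' * τ' * c1'⁻¹), 1) * R⁻¹ =
      R * e c (τ', 1) * R⁻¹ * (u3 * (R * e c (τ', 1) * R⁻¹) * u3⁻¹) := by
    rw [show (τ' * (c1' * τ' * c1'⁻¹), (1 : Perm (Fin 3))) = (τ', 1) * ((c1', 1) * (τ', 1) * (c1', 1)⁻¹) by simp,
      map_mul, map_mul, map_mul, map_inv, e_c1, ← hR1]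
    group
  rcases hc with rfl | rfl
  · rw [hprod]
    exact (hexact _ (hV'K τ' hτ')).symm
  · rw [show (swap 3 4 * (τ' * (c1' * τ' * c1'⁻¹)), (1 : Perm (Fin 3))) =
      (swap 3 4, 1) * (τ' * (c1' * τ' * c1'⁻¹), 1) by simp, map_mul, e_d2,
      show R * (F.φ D2 * e c (τ' * (c1' * τ' * c1'⁻¹), 1)) * R⁻¹ =
        (R * F.φ D2 * R⁻¹) * (R * e c (τ' * (c1' * τ' * c1'⁻¹), 1) * R⁻¹) by group, hRd, hprod]
    exact (show Commute v d from hcomV v hvV d hdV).mul_right (hexact _ (hV'K τ' hτ')).symm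

include hy in
/-- The commutation rule. -/
theorem rule : c.Rule := by
  set R := F.φ Rot ^ 2 with hRdef
  have hrel : ∀ w w' : W, (w : P9) = w' → F.φ w = F.φ w' := fun w w' h => congrArg F.φ (Subtype.ext h)
  have hR : R * F.φ C3 * R⁻¹ = F.φ C2 ∧ R * F.φ D3 * R⁻¹ = F.φ D2 ∧ R * F.φ C1 * R⁻¹ = F.φ C3 ∧
      R * F.φ D1 * R⁻¹ = F.φ D3 ∧ R * F.φ C2 * R⁻¹ = F.φ C1 := by
    rw [hRdef]
    simp only [← map_pow, ← map_inv, ← map_mul]
    exact ⟨hrel _ _ (by decide +kernel), hrel _ _ (by decide +kernel), hrel _ _ (by decide +kernel),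
      hrel _ _ (by decide +kernel), hrel _ _ (by decide +kernel)⟩
  have hconj : ∀ (x y : G) (n : ℕ), R * x * R⁻¹ = y → R * x ^ n * R⁻¹ = y ^ n := fun x y n h => by
    rw [← h, conj_pow]
  have h1 : ∀ π, R * c.ι (emb1 π) * R⁻¹ = F.φ (blk π) := by
    intro π
    obtain ⟨k, l, hπ, he, -⟩ := emb_gen π
    rw [he, hπ, map_mul, map_pow, map_pow, ← e_left c c1', e_c1, c.six.map_d1, map_mul, map_pow, map_pow,
      blk_cyc, blk_swap, map_mul, map_pow, map_pow,
      ← hconj _ _ k.val hR.2.2.1, ← hconj _ _ l.val hR.2.2.2.1]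
    group
  have h2 : ∀ π, R * F.φ (blk π) * R⁻¹ = c.ι (emb2 π) := by
    intro π
    obtain ⟨k, l, hπ, -, he⟩ := emb_gen π
    rw [he, hπ, map_mul c.ι, map_pow, map_pow, ← e_left c c2', e_c2, c.six.map_d2, map_mul, map_pow, map_pow,
      blk_cyc, blk_swap, map_mul, map_pow, map_pow,
      ← hconj _ _ k.val hR.1, ← hconj _ _ l.val hR.2.1]
    group
  have hbase : ∀ q r : Fin 3, Commute (c.ι (swap (Setup.Frame.CaseII.lo 2) (Setup.Frame.CaseII.hi q)))
      (R * c.ι (swap (Setup.Frame.CaseII.lo r) (Setup.Frame.CaseII.hi 2)) * R⁻¹) := by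
    intro q r
    obtain ⟨π, hπ, hπ2⟩ := split_lo q
    obtain ⟨ρ, hρ, hρ2⟩ := split_hi r
    have hinv2 : emb2 π * emb2 π = 1 := by
      have h : ∀ π : Perm (Fin 3), π * π = 1 → emb2 π * emb2 π = 1 := by decide +kernel
      exact h π hπ2
    have hinv1 : emb1 ρ * emb1 ρ = 1 := by
      have h : ∀ π : Perm (Fin 3), π * π = 1 → emb1 π * emb1 π = 1 := by decide +kernel
      exact h ρ hρ2
    have ha : c.ι (swap (Setup.Frame.CaseII.lo 2) (Setup.Frame.CaseII.hi q)) =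
        e c (swap (Setup.Frame.CaseII.lo 2) (Setup.Frame.CaseII.hi q) * emb2 π, 1) * c.ι (emb2 π) := by
      rw [e_left, ← map_mul, mul_assoc, hinv2, mul_one]
    have hb : R * c.ι (swap (Setup.Frame.CaseII.lo r) (Setup.Frame.CaseII.hi 2)) * R⁻¹ =
        R * e c (swap (Setup.Frame.CaseII.lo r) (Setup.Frame.CaseII.hi 2) * emb1 ρ, 1) * R⁻¹ * F.φ (blk ρ) := by
      rw [← h1 ρ, e_left]
      have hs : c.ι (swap (Setup.Frame.CaseII.lo r) (Setup.Frame.CaseII.hi 2)) =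
          c.ι (swap (Setup.Frame.CaseII.lo r) (Setup.Frame.CaseII.hi 2) * emb1 ρ) * c.ι (emb1 ρ) := by
        rw [← map_mul, mul_assoc, hinv1, mul_one]
      calc R * c.ι (swap (Setup.Frame.CaseII.lo r) (Setup.Frame.CaseII.hi 2)) * R⁻¹
          = R * (c.ι (swap (Setup.Frame.CaseII.lo r) (Setup.Frame.CaseII.hi 2) * emb1 ρ) * c.ι (emb1 ρ)) * R⁻¹ := by
            rw [← hs]
        _ = _ := by group
    rw [ha, hb]
    refine Commute.mul_left (Commute.mul_right (comm_V c hy _ hπ _ hρ) ?_) (Commute.mul_right ?_ (comm_blk c _ ρ))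
    · rw [e_left]; exact comm_blk c _ ρ
    · have hc := ((comm_blk c (swap (Setup.Frame.CaseII.lo r) (Setup.Frame.CaseII.hi 2) * emb1 ρ) π).symm).map
        (MulAut.conj R).toMonoidHom
      simp only [MulEquiv.coe_toMonoidHom, MulAut.conj_apply, h2] at hc
      rw [e_left]
      exact hc
  intro i p q r
  obtain ⟨k, hk⟩ := shift_lo p
  have hp := ((hbase q r).map (MulAut.conj (F.φ C1 ^ k.val)).toMonoidHom)
  simp only [MulEquiv.coe_toMonoidHom, MulAut.conj_apply] at hp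
  have hl : F.φ C1 ^ k.val * c.ι (swap (Setup.Frame.CaseII.lo 2) (Setup.Frame.CaseII.hi q)) * (F.φ C1 ^ k.val)⁻¹ =
      c.ι (swap (Setup.Frame.CaseII.lo p) (Setup.Frame.CaseII.hi q)) := by
    rw [← e_c1 c, e_left, ← map_pow, ← map_inv, ← map_mul, ← map_mul, (hk q).1]
  have hr : F.φ C1 ^ k.val * (R * c.ι (swap (Setup.Frame.CaseII.lo r) (Setup.Frame.CaseII.hi 2)) * R⁻¹) *
      (F.φ C1 ^ k.val)⁻¹ = R * c.ι (swap (Setup.Frame.CaseII.lo r) (Setup.Frame.CaseII.hi p)) * R⁻¹ := by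
    rw [← hconj _ _ k.val hR.2.2.2.2, ← e_c2 c, e_left, ← (hk r).2, map_mul c.ι, map_mul c.ι, map_inv, map_pow]
    group
  rw [hl, hr] at hp
  have hi := hp.map (MulAut.conj (F.φ Rot ^ i.val)).toMonoidHom
  simp only [MulEquiv.coe_toMonoidHom, MulAut.conj_apply] at hi
  have h3 : F.φ Rot ^ 3 = 1 := by
    rw [← map_pow, ← map_one F.φ]; exact hrel _ _ (by decide +kernel)
  have hpow : F.φ Rot ^ (i + 2 : Fin 3).val = F.φ Rot ^ i.val * R := by
    rw [hRdef, ← pow_add]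
    fin_cases i <;> simp <;>
      first
        | rfl
        | (rw [show (3 : ℕ) = 3 from rfl, h3])
        | (rw [pow_succ, h3, one_mul])
  unfold Setup.Frame.CaseII.cross
  rw [hpow, show ∀ A B X : G, A * B * X * (A * B)⁻¹ = A * (B * X * B⁻¹) * A⁻¹ from fun _ _ _ => by group]
  exact hi

end Cfsg.Agent.Sp62Three31.Bridge
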