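import Cfsg.Agent.Lib.Sp62Three31BridgeLocal
import Cfsg.Agent.Lib.Sp62Three31BridgeMod
import Cfsg.Agent.Lib.Sp62Three31BridgePiece

/-!
The first stage of the bridge of S3342: a transvection is centralised by a 2-group of order 64.
-/

set_option autoImplicit false
set_option maxRecDepth 100000
set_option synthInstance.maxSize 2048

namespace Cfsg.Agent.Sp62Three31.Bridge

open Equiv S9Model37 S9Base37

universe u

/-- The four group over `(03)(14)(25)`. -/
def l8a : List (Perm (Fin 6)) :=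
  (([1, swap 0 3] : List (Perm (Fin 6))).flatMap fun a => ([1, swap 1 4] : List (Perm (Fin 6))).flatMap fun b =>
    ([1, swap 2 5] : List (Perm (Fin 6))).map fun c => a * b * c)

/-- The element of order three acting on it. -/
def cc : Perm (Fin 6) := swap 0 1 * swap 1 2 * (swap 3 4 * swap 4 5)

theorem e3_piece : ∀ σ : Perm (Fin 6), σ * tri = tri * σ → σ ^ 4 = 1 →
    (σ * (cc * σ * cc⁻¹)) ^ 4 = 1 → σ ∈ l8a := by decide +kernel

/-- The subgroup on `l8a`. -/
def V1 : Subgroup P63 where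
  carrier := {p | p.1 ∈ l8a ∧ p.2 = 1}
  one_mem' := ⟨by show (1 : Perm (Fin 6)) ∈ l8a; decide +kernel, rfl⟩
  mul_mem' := by
    have h : ∀ p ∈ l8a, ∀ q ∈ l8a, p * q ∈ l8a := by decide +kernel
    intro a b ha hb
    exact ⟨h _ ha.1 _ hb.1, show a.2 * b.2 = 1 by rw [ha.2, hb.2, one_mul]⟩
  inv_mem' := by
    have h : ∀ p ∈ l8a, p⁻¹ ∈ l8a := by decide +kernel
    intro a ha
    exact ⟨h _ ha.1, show a.2⁻¹ = 1 by rw [ha.2, inv_one]⟩

theorem card_V1 : Nat.card V1 = 8 := by
  let f : {σ // σ ∈ l8a.toFinset} → V1 := fun σ => ⟨(σ.1, 1), List.mem_toFinset.1 σ.2, rfl⟩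
  have hf : Function.Bijective f := by
    refine ⟨fun x y h => Subtype.ext (congrArg (fun v : V1 => v.1.1) h), fun v => ?_⟩
    exact ⟨⟨v.1.1, List.mem_toFinset.2 v.2.1⟩, Subtype.ext (Prod.ext rfl v.2.2.symm)⟩
  rw [← Nat.card_eq_of_bijective f hf, Nat.card_eq_fintype_card, Fintype.card_coe]
  decide +kernel

theorem V1_facts : (∀ p ∈ V1, p.1 * tri = tri * p.1 ∧ p * (1, cyc) = (1, cyc) * p) ∧
    ((tri, 1) : P63) ∈ V1 := by
  have h : ∀ σ ∈ l8a, σ * tri = tri * σ := by decide +kernel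
  refine ⟨fun p hp => ⟨h _ hp.1, Prod.ext (by simp) (by simp [hp.2])⟩, ?_⟩
  exact ⟨by show tri ∈ l8a; decide +kernel, rfl⟩

theorem t1_pow : ∀ v ∈ l32 l16a, v ^ 32 = 1 := fun v hv => by
  have h := pow_card_eq_one' (x := (⟨v, hv⟩ : T1))
  rw [card_T1] at h
  exact congrArg Subtype.val h

theorem t1_facts :
    ((swap 0 3, (1 : Perm (Fin 3))) ∈ l32 l16a) ∧
    (swap 1 2 * swap 4 5, (1 : Perm (Fin 3))) ∈ l32 l16a ∧ (swap 1 4, (1 : Perm (Fin 3))) ∈ l32 l16a ∧
    (swap 1 2 * swap 4 5, (1 : Perm (Fin 3))) * (swap 1 4, (1 : Perm (Fin 3))) *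
      (swap 1 2 * swap 4 5, (1 : Perm (Fin 3)))⁻¹ * (swap 1 4, (1 : Perm (Fin 3)))⁻¹ ∉ ([1, tt] : List P63) := by decide +kernel

/-- The central elements of the first 2-group. -/
def zc : Fin 8 → P63 := ![1, (swap 0 3, 1), tt, (swap 0 3, 1) * tt, dd, (swap 0 3, 1) * dd, tt * dd,
  (swap 0 3, 1) * tt * dd]

theorem zc_base : (∀ i, zc i ∈ l32 l16a ∧ ∀ σ ∈ l16a, (zc i).1 * σ = σ * (zc i).1) ∧
    (∀ i j, zc i = zc j → i = j) ∧ (∃ v ∈ l32 l16a, ∀ i, zc i ≠ v) := by decide +kernel

theorem pi_comm : ∀ π ρ : Perm (Fin 3), (π = 1 ∨ π = swap 0 1) → (ρ = 1 ∨ ρ = swap 0 1) →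
    π * ρ = ρ * π := by decide +kernel

theorem zc_facts : (∀ i, zc i ∈ l32 l16a ∧ ∀ v ∈ l32 l16a, zc i * v = v * zc i) ∧
    (∀ i j, zc i = zc j → i = j) ∧ (∃ v ∈ l32 l16a, ∀ i, zc i ≠ v) :=
  ⟨fun i => ⟨(zc_base.1 i).1, fun v hv => Prod.ext ((zc_base.1 i).2 v.1 (mem_l32.1 hv).1)
    (pi_comm _ _ (mem_l32.1 (zc_base.1 i).1).2 (mem_l32.1 hv).2)⟩, zc_base.2⟩

variable {G : Type u} [Group G] [Finite G] {S : Setup G} {F : S.Frame} (c : F.CaseII)
  (hy : Subgroup.centralizer ({F.φ (C1 * C2)} : Set G) ≤ Subgroup.normalizer (S.J : Set G))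

theorem conj_card (g i : G) : Nat.card (Subgroup.centralizer ({g * i * g⁻¹} : Set G)) =
    Nat.card (Subgroup.centralizer ({i} : Set G)) := by
  have e' : ∀ (g i : G), (Subgroup.centralizer ({i} : Set G)).map (MulAut.conj g).toMonoidHom ≤
      Subgroup.centralizer ({g * i * g⁻¹} : Set G) := by
    rintro g i _ ⟨x, hx, rfl⟩
    have hx' := mem_cent.1 hx
    refine mem_cent.2 ?_
    show g * x * g⁻¹ * (g * i * g⁻¹) = g * i * g⁻¹ * (g * x * g⁻¹)
    calc g * x * g⁻¹ * (g * i * g⁻¹) = g * (x * i) * g⁻¹ := by group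
      _ = _ := by rw [hx']; group
  have h1 := Subgroup.card_le_of_le (e' g i)
  have h2 := Subgroup.card_le_of_le (e' g⁻¹ (g * i * g⁻¹))
  rw [Subgroup.card_map_of_injective (f := (MulAut.conj g).toMonoidHom) (MulAut.conj g).injective] at h1
  rw [Subgroup.card_map_of_injective (f := (MulAut.conj g⁻¹).toMonoidHom) (MulAut.conj g⁻¹).injective,
    show g⁻¹ * (g * i * g⁻¹) * g⁻¹⁻¹ = i by group] at h2
  omega

theorem card_cent_d3 : Nat.card (Subgroup.centralizer ({F.φ D3} : Set G)) =
    Nat.card (Subgroup.centralizer ({F.φ D1} : Set G)) := by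
  have h : F.φ D1 = F.φ Rot * F.φ D3 * (F.φ Rot)⁻¹ := by
    rw [← map_inv, ← map_mul, ← map_mul]
    exact congrArg F.φ (Subtype.ext (by decide +kernel))
  rw [h, conj_card]

include c hy in
/-- The centraliser of the block exchange has Sylow 2-subgroup of order 32, if that of `D₁` is small. -/
theorem tau_two_part (hsmall : ¬ 2 ^ 6 ∣ Nat.card (Subgroup.centralizer ({F.φ D1} : Set G))) :
    ¬ 2 ^ 6 ∣ Nat.card (Subgroup.centralizer ({F.φ Tau} : Set G)) := by
  classical
  intro hd
  set T : Subgroup G := T1.map (e c) with hT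
  have hTc : Nat.card T = 2 ^ 5 := by
    rw [hT, Subgroup.card_map_of_injective (e_inj c), card_T1]; norm_num
  have hTle : T ≤ Subgroup.centralizer ({F.φ Tau} : Set G) := by
    rintro _ ⟨p, hp, rfl⟩
    rw [mem_cent, ← e_tt c, ← map_mul, ← map_mul, (central_mem.2.2.2.2.1 p hp).2]
  obtain ⟨g, hg, hgT, hgn, T', hTT', hgT', -, hT'c⟩ := exists_bigger hTc hTle hd
  have hgt : g * F.φ Tau = F.φ Tau * g := mem_cent.1 hg
  obtain ⟨u, hu, hu'⟩ : ∃ u ∈ l32 l16a, e c u = g * e c dd * g⁻¹ := by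
    obtain ⟨u, hu, hu'⟩ := (Subgroup.mem_normalizer_iff.1 hgn (e c dd)).1 ⟨dd, central_mem.1, rfl⟩
    exact ⟨u, hu, hu'⟩
  have hmem : ∀ v ∈ l32 l16a, v ∈ l64 := fun v hv => List.mem_append.2 (Or.inl hv)
  have hcen : ∀ v ∈ l32 l16a, u * v = v * u := by
    intro v hv
    obtain ⟨w, hw, hw'⟩ := (Subgroup.mem_normalizer_iff.1 (inv_mem hgn) (e c v)).1 ⟨v, hv, rfl⟩
    rw [inv_inv] at hw'
    refine e_inj c ?_
    rw [map_mul, map_mul, hu', show e c v = g * e c w * g⁻¹ by rw [hw']; group]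
    calc g * e c dd * g⁻¹ * (g * e c w * g⁻¹) = g * e c (dd * w) * g⁻¹ := by rw [map_mul]; group
      _ = g * e c (w * dd) * g⁻¹ := by rw [(central_mem.2.2.2.2.1 w hw).1]
      _ = _ := by rw [map_mul]; group
  have hutt : u * tt ∈ l32 l16a := T1.mul_mem hu central_mem.2.2.1
  have hdtt : dd * tt ∈ l32 l16a := T1.mul_mem central_mem.1 central_mem.2.2.1
  have hinv : ∀ x y : G, g * x * g⁻¹ = y → g⁻¹ * y * g⁻¹⁻¹ = x := by rintro x _ rfl; group
  have hudd : u = dd := by
    refine pick_one u hu hcen (compat_of_conj c hy (hmem _ hu) (hmem _ central_mem.1) (g := g⁻¹) ?_)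
      (compat_of_conj c hy (hmem _ hutt) (hmem _ hdtt) (g := g⁻¹) ?_)
    · exact hinv _ _ hu'.symm
    · refine hinv _ _ ?_
      rw [map_mul, map_mul, hu', e_tt c]
      calc g * (e c dd * F.φ Tau) * g⁻¹ = g * e c dd * g⁻¹ * (g * F.φ Tau * g⁻¹) := by group
        _ = _ := by rw [hgt, mul_inv_cancel_right]
  rw [hudd] at hu'
  have hgd : g * F.φ D3 = F.φ D3 * g := by
    rw [← e_d3 c]
    exact (mul_inv_eq_iff_eq_mul.1 hu'.symm)
  refine hsmall ?_
  rw [← card_cent_d3, ← hT'c]
  refine Subgroup.card_dvd_of_le fun x hx => ?_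
  haveI : (T.subgroupOf T').Normal := Subgroup.normal_of_index_eq_two (by
    have h1 := (T.subgroupOf T').card_mul_index
    rw [Nat.card_congr (Subgroup.subgroupOfEquivOfLe hTT').toEquiv, hTc, hT'c] at h1
    omega)
  have hTd : ∀ y ∈ T, y * F.φ D3 = F.φ D3 * y := by
    rintro _ ⟨p, hp, rfl⟩
    rw [← e_d3 c, ← map_mul, ← map_mul, show ((1 : Perm (Fin 6)), swap (0 : Fin 3) 1) = dd from rfl,
      (central_mem.2.2.2.2.1 p hp).1]
  have hi : (T.subgroupOf T').index = 2 := by
    have h1 := (T.subgroupOf T').card_mul_index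
    rw [Nat.card_congr (Subgroup.subgroupOfEquivOfLe hTT').toEquiv, hTc, hT'c] at h1
    omega
  rw [mem_cent]
  by_cases hxT : x ∈ T
  · exact hTd x hxT
  · have hxg : g⁻¹ * x ∈ T := by
      have := Subgroup.mul_mem_iff_of_index_two hi (a := (⟨g, hgT'⟩ : T')⁻¹) (b := ⟨x, hx⟩)
      simp only [Subgroup.mem_subgroupOf, Subgroup.coe_mul, Subgroup.coe_inv] at this
      exact this.2 (iff_of_false (fun h => hgT (by simpa using T.inv_mem h)) hxT)
    have h1 := (show Commute g (F.φ D3) from hgd).mul_left (hTd _ hxg)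
    rwa [mul_inv_cancel_left] at h1

theorem pow_of_dvd {x : G} {n m : ℕ} (h : x ^ n = 1) (h3 : ¬ 3 ∣ orderOf x) (hn : n ∣ 3 ^ 2 * m) : x ^ m = 1 := by
  refine orderOf_dvd_iff_pow_eq_one.1 ?_
  exact ((Nat.Coprime.pow_right 2 ((Nat.Prime.coprime_iff_not_dvd Nat.prime_three).2 h3).symm)).dvd_of_dvd_mul_left
    ((orderOf_dvd_of_pow_eq_one h).trans hn)

include c in
theorem into_T (hsyl : ¬ 2 ^ 6 ∣ Nat.card (Subgroup.centralizer ({F.φ Tau} : Set G))) {X : Subgroup G}
    (hX : IsPGroup 2 X) (hXC : X ≤ Subgroup.centralizer ({F.φ Tau} : Set G)) :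
    ∃ h : G, h * F.φ Tau = F.φ Tau * h ∧ ∀ v ∈ X, ∃ p ∈ l32 l16a, e c p = h * v * h⁻¹ := by
  classical
  haveI : Fact (Nat.Prime 2) := ⟨Nat.prime_two⟩
  set C := Subgroup.centralizer ({F.φ Tau} : Set G) with hC
  set T : Subgroup G := T1.map (e c) with hT
  have hTC : T ≤ C := by
    rintro _ ⟨p, hp, rfl⟩
    rw [hC, mem_cent, ← e_tt c, ← map_mul, ← map_mul, (central_mem.2.2.2.2.1 p hp).2]
  have hTc : Nat.card (T.subgroupOf C) = 2 ^ 5 := by
    rw [Nat.card_congr (Subgroup.subgroupOfEquivOfLe hTC).toEquiv, hT,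
      Subgroup.card_map_of_injective (e_inj c), card_T1]; norm_num
  obtain ⟨R, hR⟩ := (IsPGroup.of_card hTc).exists_le_sylow
  have hRT : T.subgroupOf C = (R : Subgroup C) := by
    refine Subgroup.eq_of_le_of_card_ge hR ?_
    rw [hTc]
    obtain ⟨m, hm⟩ := R.2.exists_card_eq
    rw [hm]
    refine Nat.pow_le_pow_right (by norm_num) ?_
    by_contra hgt
    exact hsyl ((Nat.pow_dvd_pow 2 (show 6 ≤ m by omega)).trans (hm ▸ (R : Subgroup C).card_subgroup_dvd_card))
  obtain ⟨R', hR'⟩ := (hX.of_equiv (Subgroup.subgroupOfEquivOfLe hXC).symm).exists_le_sylow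
  obtain ⟨h, hh⟩ := MulAction.exists_smul_eq C R' R
  refine ⟨h, mem_cent.1 h.2, fun v hv => ?_⟩
  have h1 : h * ⟨v, hXC hv⟩ * h⁻¹ ∈ (R : Subgroup C) := by
    rw [← hh, Sylow.coe_subgroup_smul]
    exact Subgroup.smul_mem_pointwise_smul (⟨v, hXC hv⟩ : C) (MulAut.conj h) _ (hR' hv)
  rw [← hRT] at h1
  obtain ⟨p, hp, hp'⟩ := h1
  exact ⟨p, hp, hp'⟩

include c hy in
/-- A transvection is centralised by a 2-group of order 64. -/
theorem big_d : 2 ^ 6 ∣ Nat.card (Subgroup.centralizer ({F.φ D1} : Set G)) := by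
  classical
  haveI : Fact (Nat.Prime 2) := ⟨Nat.prime_two⟩
  haveI : Fact (Nat.Prime 3) := ⟨Nat.prime_three⟩
  by_contra hsmall
  have hsyl := tau_two_part c hy hsmall
  set t := F.φ Tau with htdef
  set y := F.φ (C1 * C2) with hydef
  set z3 := F.φ C3 with h3def
  set n3 := F.φ D3 with hn3def
  have ht2 : t * t = 1 := tau_sq F
  obtain ⟨P, hPD, hPc, htP, hPin, hPn, hdec⟩ := exists_P F
  have hPt : ∀ v ∈ P, v * t = t * v := fun v hv => ((mem_dta F).1 (hPD hv)).1
  have hPP : P ≤ centMod t ht2 P := le_centMod_of_eight ht2 (tau_ne F) hPc htP hPt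
  have h8 : ∀ {R : Subgroup G}, Nat.card R = 8 → ∀ v ∈ R, v ^ 8 = 1 := fun {R} hR v hv => by
    rw [← hR]; exact congrArg Subtype.val (pow_card_eq_one' (x := (⟨v, hv⟩ : R)))
  have hrel : ∀ w w' : W, (w : P9) = w' → F.φ w = F.φ w' := fun w w' h => congrArg F.φ (Subtype.ext h)
  -- elements of the plane
  have hyz : Commute y z3 := by
    rw [hydef, h3def]; exact (show Commute (C1 * C2) C3 from Subtype.ext (by decide +kernel)).map F.φ
  have hya : y * z3 = S.a := by rw [hydef, h3def, ← map_mul, ← F.map_a]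
  have hyt : y * t = t * y := by rw [hydef, htdef, ← map_mul, ← map_mul]; exact hrel _ _ (by decide +kernel)
  have hzt : z3 * t = t * z3 := by rw [h3def, htdef, ← map_mul, ← map_mul]; exact hrel _ _ (by decide +kernel)
  have hnt : n3 * t = t * n3 := by rw [hn3def, htdef, ← map_mul, ← map_mul]; exact hrel _ _ (by decide +kernel)
  have hny : n3 * y = y * n3 := by rw [hn3def, hydef, ← map_mul, ← map_mul]; exact hrel _ _ (by decide +kernel)
  have hn2 : n3⁻¹ = n3 := by rw [hn3def, ← map_inv]; exact hrel _ _ (by decide +kernel)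
  have hnz : n3 * z3 * n3 = z3⁻¹ := by
    rw [hn3def, h3def, ← map_inv, ← map_mul, ← map_mul]; exact hrel _ _ (by decide +kernel)
  have hn1 : n3 * n3 = 1 := by
    nth_rewrite 1 [← hn2]
    exact inv_mul_cancel _
  have hna : n3 * S.a * n3 = y * z3⁻¹ := by
    rw [← hya]
    calc n3 * (y * z3) * n3 = (n3 * y) * z3 * n3 := by group
      _ = y * (n3 * z3 * n3) := by rw [hny]; group
      _ = _ := by rw [hnz]
  have hyD : y ∈ dta F := by
    have := eel_mem F 0 1
    rwa [phi_eel, show ((0 : Fin 3).val) = 0 from rfl, show ((1 : Fin 3).val) = 1 from rfl, pow_zero,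
      one_mul, pow_one] at this
  have hzD : z3 ∈ dta F := by
    rw [mem_dta, ← hya]
    exact ⟨hzt, (hyz.symm.mul_right (Commute.refl _)).eq⟩
  -- the Klein group in the centraliser of `C₃`
  set Ve : Subgroup G := V1.map (e c) with hVe
  have hVec : Nat.card Ve = 8 := by rw [hVe, Subgroup.card_map_of_injective (e_inj c), card_V1]
  set P' : Subgroup G := P.map (MulAut.conj n3).toMonoidHom with hP'
  have hP'c : Nat.card P' = 8 := by
    rw [hP', Subgroup.card_map_of_injective (MulAut.conj n3).injective, hPc]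
  have hmemP' : ∀ v, v ∈ P' ↔ n3 * v * n3 ∈ P := by
    intro v
    constructor
    · rintro ⟨w, hw, rfl⟩
      show n3 * (n3 * w * n3⁻¹) * n3 ∈ P
      rwa [show n3 * (n3 * w * n3⁻¹) * n3 = (n3 * n3) * w * (n3⁻¹ * n3) by group, hn1, inv_mul_cancel,
        one_mul, mul_one]
    · intro h
      refine ⟨_, h, ?_⟩
      show n3 * (n3 * v * n3) * n3⁻¹ = v
      rw [show n3 * (n3 * v * n3) * n3⁻¹ = (n3 * n3) * v by group, hn1, one_mul]
  -- the setting over `P`
  set M : Subgroup G := centMod t ht2 P with hM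
  have hPM : P ≤ M := hPP
  haveI hVn : (P.subgroupOf M).Normal := ⟨fun v hv g => centMod_normal htP g.2 hv⟩
  have hP2 : IsPGroup 2 P := IsPGroup.of_card (n := 3) (by rw [hPc]; norm_num)
  have hat : S.a * t = t * S.a := ((mem_dta F).1 (tau_mem_dta F)).2.symm
  have haM : S.a ∈ M := ⟨hat, fun v hv => CommMod.of_eq ((mem_dta F).1 (hPD hv)).2.symm⟩
  have hfix : ∀ v ∈ P, (y * v * y⁻¹ = v ∨ y * v * y⁻¹ = t * v) → v = 1 ∨ v = t := fun v hv hh =>
    fixed_free c (b := S.a) (Or.inl (by rw [← hya, inv_mul_cancel_left])) (hPt v hv)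
      ((mem_dta F).1 (hPD hv)).2 (h8 hPc v hv) hh
  obtain ⟨w₀, hw₀, hw1, hwt⟩ : ∃ w ∈ P, w ≠ 1 ∧ w ≠ t := by
    by_contra hno
    push_neg at hno
    have hle : P ≤ Subgroup.zpowers t := fun w hw => by
      rcases eq_or_ne w 1 with rfl | h1
      · exact one_mem _
      · rw [hno w hw h1]; exact Subgroup.mem_zpowers _
    have := Subgroup.card_le_of_le hle
    rw [hPc, Nat.card_zpowers] at this
    have h2 : orderOf t ≤ 2 := orderOf_le_of_pow_eq_one (by norm_num) (by rw [sq, ht2])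
    omega
  have hD_of_comm : ∀ g ∈ M, g * S.a * g⁻¹ * S.a⁻¹ ∈ P → g ∈ dta F := by
    intro g hg h
    refine (mem_dta F).2 ⟨hg.1, ?_⟩
    set v := g * S.a * g⁻¹ * S.a⁻¹ with hv
    have hva : Commute v S.a := ((mem_dta F).1 (hPD h)).2
    have ha3 : S.a ^ 3 = 1 := S.ha ▸ pow_orderOf_eq_one S.a
    have h3 : v ^ 3 = 1 := by
      have e1 : g * S.a * g⁻¹ = v * S.a := by rw [hv]; group
      have e2 : (v * S.a) ^ 3 = 1 := by rw [← e1, conj_pow, ha3, mul_one, mul_inv_cancel]
      rwa [hva.mul_pow, ha3, mul_one] at e2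
    have hv1 : v = 1 := by
      have : v = (v ^ 3) ^ 3 * (v ^ 8)⁻¹ := by rw [← pow_mul, show 3 * 3 = 8 + 1 from rfl, pow_succ,
        h8 hPc v h, one_mul, inv_one, mul_one]
      rw [this, h3, h8 hPc v h, one_pow, inv_one, one_mul]
    rw [hv, mul_inv_eq_one] at hv1
    exact mul_inv_eq_iff_eq_mul.1 hv1
  have hself : ∀ g ∈ M, g * S.a * g⁻¹ * S.a⁻¹ ∈ P → ∃ k : ℕ, ∃ v ∈ P, g = S.a ^ k * v := by
    intro g hg h
    obtain ⟨i, j, v, hv, rfl⟩ := hdec g (hD_of_comm g hg h)
    refine ⟨i.val, v, hv, ?_⟩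
    rw [phi_eel] at hg ⊢
    suffices j = 0 by subst this; simp
    by_contra hj
    have hm : y ^ j.val ∈ M := by
      have := M.mul_mem (M.mul_mem (M.inv_mem (M.pow_mem haM i.val)) hg) (M.inv_mem (hPM hv))
      rwa [show (S.a ^ i.val)⁻¹ * (S.a ^ i.val * y ^ j.val * v) * v⁻¹ = y ^ j.val by group] at this
    have hyM : y ∈ M := by
      have h3 : y ^ 3 = 1 := (yG_order F) ▸ pow_orderOf_eq_one y
      fin_cases j
      · exact absurd rfl hj
      · simpa using hm
      · have := M.mul_mem hm hm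
        simp only [show ((⟨2, by omega⟩ : Fin 3).val) = 2 from rfl] at this
        rwa [← pow_add, pow_succ, h3, one_mul] at this
    rcases hfix w₀ hw₀ (hyM.2 w₀ hw₀).cases with h | h
    · exact hw1 h
    · exact hwt h
  -- the plane
  set E := CoprimeGen.pairSubgroup y z3 hyz with hE
  have hEp : IsPGroup 3 E := by
    obtain ⟨k, -, hk⟩ := (Nat.dvd_prime_pow Nat.prime_three).1
      (show Nat.card E ∣ 3 ^ 2 by
        have := CoprimeGen.card_pairSubgroup_dvd y z3 hyz
        rwa [yG_order F, c3_order F] at this)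
    exact IsPGroup.of_card hk
  have hEM : E ≤ Subgroup.normalizer (M : Set G) := CoprimeGen.pairSubgroup_le
    (le_normalizer_centMod hyt (hPn y hyD)) (le_normalizer_centMod hzt (hPn z3 hzD))
  have hEP : E ≤ Subgroup.normalizer (P : Set G) := CoprimeGen.pairSubgroup_le (hPn y hyD) (hPn z3 hzD)
  rcases invariant_piece M P hPM hP2 haM S.ha hself E hEp hEM hEP with
    ⟨-, hinv⟩ | ⟨K, hPK, hKne, hKM, hK3, hEK⟩
  · -- no piece: an inverter of `a` centralising `P` modulo `t`
    obtain ⟨u, huM, huP, hu3⟩ : ∃ u ∈ M, u ∉ P ∧ ¬ 3 ∣ orderOf u := by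
      obtain ⟨h, hht, hmove⟩ := into_T c hsyl hP2 (fun v hv => mem_cent.2 (hPt v hv))
      -- a candidate in the 2-group
      obtain ⟨q, hq, hqP, hqc⟩ : ∃ q ∈ l32 l16a, h⁻¹ * e c q * h ∉ P ∧
          ∀ v ∈ P, ∀ p ∈ l32 l16a, e c p = h * v * h⁻¹ → q * p = p * q := by
        by_cases hex : ∃ i, h⁻¹ * e c (zc i) * h ∉ P
        · obtain ⟨i, hi⟩ := hex
          exact ⟨zc i, (zc_facts.1 i).1, hi, fun v _ p hp _ => (zc_facts.1 i).2 p hp⟩
        · push_neg at hex
          let f : Fin 8 → P := fun i => ⟨_, hex i⟩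
          have hf : Function.Injective f := fun i j hij => zc_facts.2.1 i j (e_inj c (by
            simpa [f] using congrArg Subtype.val hij))
          have hb := (Nat.bijective_iff_injective_and_card f).2 ⟨hf, by rw [hPc, Nat.card_fin]⟩
          obtain ⟨q, hq, hne⟩ := zc_facts.2.2
          refine ⟨q, hq, fun hm => ?_, fun v hv p _ hp' => ?_⟩
          · obtain ⟨i, hi⟩ := hb.2 ⟨_, hm⟩
            exact hne i (e_inj c (by simpa [f] using congrArg Subtype.val hi))
          · obtain ⟨i, hi⟩ := hb.2 ⟨v, hv⟩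
            have : e c p = e c (zc i) := by
              rw [hp', show v = h⁻¹ * e c (zc i) * h from (congrArg Subtype.val hi).symm]
              group
            rw [e_inj c this]
            exact ((zc_facts.1 i).2 q hq).symm
      refine ⟨_, ⟨?_, fun v hv => CommMod.of_eq ?_⟩, hqP, ?_⟩
      · have hqt : e c q * t = t * e c q := by
          rw [htdef, ← e_tt c, ← map_mul, ← map_mul, (central_mem.2.2.2.2.1 q hq).2]
        have hc1 : Commute h⁻¹ t := (show Commute h t from hht).inv_left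
        exact ((hc1.mul_left hqt).mul_left hht).eq
      · obtain ⟨p, hp, hp'⟩ := hmove v hv
        have hqp := congrArg (e c) (hqc v hv p hp hp')
        rw [map_mul, map_mul, hp'] at hqp
        calc h⁻¹ * e c q * h * v = h⁻¹ * (e c q * (h * v * h⁻¹)) * h := by group
          _ = _ := by rw [hqp]; group
      · intro h3
        have h32 : (h⁻¹ * e c q * h) ^ 32 = 1 := by
          rw [show h⁻¹ * e c q * h = h⁻¹ * e c q * (h⁻¹)⁻¹ by rw [inv_inv], conj_pow,
            ← map_pow, t1_pow q hq, map_one, mul_one, mul_inv_cancel]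
        have := h3.trans (orderOf_dvd_of_pow_eq_one h32)
        norm_num at this
    rcases hinv u huM with h | h
    · exact huP (hPin u (hD_of_comm u huM h) hu3)
    · -- `u` inverts `a`
      have hinvU : u * S.a * u⁻¹ = S.a⁻¹ := by
        set v := u * S.a * u⁻¹ * S.a with hv
        have hva : Commute v S.a := ((mem_dta F).1 (hPD h)).2
        have ha3 : S.a ^ 3 = 1 := S.ha ▸ pow_orderOf_eq_one S.a
        have h3 : v ^ 3 = 1 := by
          have e1 : u * S.a * u⁻¹ = v * S.a⁻¹ := by rw [hv]; group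
          have e2 : (v * S.a⁻¹) ^ 3 = 1 := by rw [← e1, conj_pow, ha3, mul_one, mul_inv_cancel]
          rwa [hva.inv_right.mul_pow, inv_pow, ha3, inv_one, mul_one] at e2
        have hv1 : v = 1 := by
          have : v = (v ^ 3) ^ 3 * (v ^ 8)⁻¹ := by rw [← pow_mul, show 3 * 3 = 8 + 1 from rfl, pow_succ,
            h8 hPc v h, one_mul, inv_one, mul_one]
          rw [this, h3, h8 hPc v h, one_pow, inv_one, one_mul]
        exact eq_inv_of_mul_eq_one_left (hv.symm.trans hv1)
      set n := F.φ (D1 * D2 * D3) with hn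
      have hnt' : n * t = t * n := by rw [hn, htdef, ← map_mul, ← map_mul]; exact hrel _ _ (by decide +kernel)
      have hny' : n * y * n⁻¹ = y⁻¹ := by
        rw [hn, hydef, ← map_inv, ← map_inv, ← map_mul, ← map_mul]; exact hrel _ _ (by decide +kernel)
      have hna' : n * S.a * n⁻¹ = S.a⁻¹ := by
        rw [← F.map_a, hn, ← map_inv, ← map_inv, ← map_mul, ← map_mul]; exact hrel _ _ (by decide +kernel)
      have hnuD : n * u ∈ dta F := by
        refine (mem_dta F).2 ⟨((show Commute n t from hnt').mul_left huM.1).eq, mul_inv_eq_iff_eq_mul.1 ?_⟩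
        calc n * u * S.a * (n * u)⁻¹ = n * (u * S.a * u⁻¹) * n⁻¹ := by group
          _ = (n * S.a * n⁻¹)⁻¹ := by rw [hinvU]; group
          _ = _ := by rw [hna', inv_inv]
      obtain ⟨i, j, v, hv, heq⟩ := hdec _ hnuD
      rw [phi_eel, ← hydef] at heq
      -- both sides act on `P` modulo `t` in the same way
      have hact : ∀ w ∈ P, n * w * n⁻¹ = y ^ j.val * w * (y ^ j.val)⁻¹ ∨
          n * w * n⁻¹ = t * (y ^ j.val * w * (y ^ j.val)⁻¹) := by
        intro w hw
        have htn : n * t * n⁻¹ = t := by rw [hnt', mul_inv_cancel_right]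
        have hty : y ^ j.val * t * (y ^ j.val)⁻¹ = t := by
          rw [((show Commute y t from hyt).pow_left _).eq, mul_inv_cancel_right]
        have hta : S.a ^ i.val * t * (S.a ^ i.val)⁻¹ = t := by
          rw [((show Commute S.a t from hat).pow_left _).eq, mul_inv_cancel_right]
        have hain : ∀ x ∈ P, S.a ^ i.val * x * (S.a ^ i.val)⁻¹ = x := fun x hx => by
          rw [((show Commute S.a x from (((mem_dta F).1 (hPD hx)).2).symm).pow_left _).eq, mul_inv_cancel_right]
        have hywP : y ^ j.val * w * (y ^ j.val)⁻¹ ∈ P :=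
          (Subgroup.mem_normalizer_iff.1 (pow_mem (hPn y hyD) _) w).1 hw
        have hvw : v * w * v⁻¹ = w ∨ v * w * v⁻¹ = t * w := ((hPP hv).2 w hw).cases
        have h1 : (n * u) * w * (n * u)⁻¹ = y ^ j.val * w * (y ^ j.val)⁻¹ ∨
            (n * u) * w * (n * u)⁻¹ = t * (y ^ j.val * w * (y ^ j.val)⁻¹) := by
          have h0 : (n * u) * w * (n * u)⁻¹ =
              S.a ^ i.val * (y ^ j.val * (v * w * v⁻¹) * (y ^ j.val)⁻¹) * (S.a ^ i.val)⁻¹ := by
            rw [heq]; group
          rcases hvw with hh | hh <;> rw [hh] at h0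
          · left; rw [h0, hain _ hywP]
          · right
            rw [h0, show y ^ j.val * (t * w) * (y ^ j.val)⁻¹ =
              (y ^ j.val * t * (y ^ j.val)⁻¹) * (y ^ j.val * w * (y ^ j.val)⁻¹) by group, hty,
              show S.a ^ i.val * (t * (y ^ j.val * w * (y ^ j.val)⁻¹)) * (S.a ^ i.val)⁻¹ =
              (S.a ^ i.val * t * (S.a ^ i.val)⁻¹) *
                (S.a ^ i.val * (y ^ j.val * w * (y ^ j.val)⁻¹) * (S.a ^ i.val)⁻¹) by group, hta, hain _ hywP]
        have h2 : (n * u) * w * (n * u)⁻¹ = n * w * n⁻¹ ∨ (n * u) * w * (n * u)⁻¹ = t * (n * w * n⁻¹) := by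
          have h0 : (n * u) * w * (n * u)⁻¹ = n * (u * w * u⁻¹) * n⁻¹ := by group
          rcases (huM.2 w hw).cases with hh | hh <;> rw [hh] at h0
          · exact Or.inl h0
          · right
            rw [h0, show n * (t * w) * n⁻¹ = (n * t * n⁻¹) * (n * w * n⁻¹) by group, htn]
        rcases h2 with b | b <;> rcases h1 with a | a <;> rw [b] at a
        · exact Or.inl a
        · exact Or.inr a
        · exact Or.inr (by rw [← a, ← mul_assoc, ht2, one_mul])
        · exact Or.inl (mul_left_cancel a)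
      set r := y ^ j.val * w₀ * (y ^ j.val)⁻¹ with hr
      have hrP : r ∈ P := (Subgroup.mem_normalizer_iff.1 (pow_mem (hPn y hyD) _) w₀).1 hw₀
      have hy3 : y ^ 3 = 1 := (yG_order F) ▸ pow_orderOf_eq_one y
      have hytc : ∀ k : ℤ, y ^ k * t * (y ^ k)⁻¹ = t := fun k => by
        rw [((show Commute y t from hyt).zpow_left k).eq, mul_inv_cancel_right]
      have key : y * r * y⁻¹ = y⁻¹ * r * y ∨ y * r * y⁻¹ = t * (y⁻¹ * r * y) := by
        have hw' : y * w₀ * y⁻¹ ∈ P := (Subgroup.mem_normalizer_iff.1 (hPn y hyD) w₀).1 hw₀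
        have e1 : n * (y * w₀ * y⁻¹) * n⁻¹ = y⁻¹ * (n * w₀ * n⁻¹) * y := by
          calc n * (y * w₀ * y⁻¹) * n⁻¹ = (n * y * n⁻¹) * (n * w₀ * n⁻¹) * (n * y * n⁻¹)⁻¹ := by group
            _ = _ := by rw [hny']; group
        have e2 : y ^ j.val * (y * w₀ * y⁻¹) * (y ^ j.val)⁻¹ = y * r * y⁻¹ := by rw [hr]; group
        have e3 : y⁻¹ * (t * r) * y = t * (y⁻¹ * r * y) := by
          have := hytc (-1)
          rw [show y⁻¹ * (t * r) * y = (y ^ (-1 : ℤ) * t * (y ^ (-1 : ℤ))⁻¹) * (y⁻¹ * r * y) by group, this]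
        rcases hact _ hw' with a | a <;> rcases hact _ hw₀ with b | b <;> rw [e1, b, e2] at a
        · exact Or.inl a.symm
        · exact Or.inr (by rw [← e3, a])
        · refine Or.inr ?_
          rw [a, ← mul_assoc t t, ht2, one_mul]
        · rw [e3] at a
          exact Or.inl (mul_left_cancel a).symm
      have key2 : y * r * y⁻¹ = r ∨ y * r * y⁻¹ = t * r := by
        have e4 : y⁻¹ * r * y = y * (y * r * y⁻¹) * y⁻¹ := by
          have : y⁻¹ = y * y := inv_eq_of_mul_eq_one_right (by rw [← mul_assoc, ← pow_two, ← pow_succ, hy3])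
          calc y⁻¹ * r * y = (y * y) * r * (y * y)⁻¹ := by rw [← this, inv_inv]
            _ = _ := by group
        rw [e4] at key
        set s := y * r * y⁻¹ with hs
        have e5 : y⁻¹ * s * y = r := by rw [hs]; group
        rcases key with k | k
        · left
          have : y⁻¹ * s * y = y⁻¹ * (y * s * y⁻¹) * y := by rw [← k]
          rw [e5] at this
          rw [this]; group
        · right
          have h5 : y⁻¹ * s * y = y⁻¹ * (t * (y * s * y⁻¹)) * y := by rw [← k]
          rw [e5, show y⁻¹ * (t * (y * s * y⁻¹)) * y = (y ^ (-1 : ℤ) * t * (y ^ (-1 : ℤ))⁻¹) * s by group,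
            hytc] at h5
          rw [h5, ← mul_assoc, ht2, one_mul]
      rcases hfix r hrP key2 with h' | h'
      · exact hw1 (conj_eq_one_iff.1 (hr.symm.trans h'))
      · refine hwt ?_
        calc w₀ = (y ^ j.val)⁻¹ * r * y ^ j.val := by rw [hr]; group
          _ = (y ^ (-(j.val : ℤ))) * t * (y ^ (-(j.val : ℤ)))⁻¹ := by rw [h']; group
          _ = t := hytc _
  · -- a piece: a 2-group of order 32 abelian modulo `t`
    have hKy : y ∈ Subgroup.normalizer (K : Set G) := hEK (CoprimeGen.left_mem_pairSubgroup _ _ _)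
    have hKz : z3 ∈ Subgroup.normalizer (K : Set G) := hEK (CoprimeGen.right_mem_pairSubgroup _ _ _)
    have hKt : ∀ g ∈ K, g * t = t * g := fun g hg => (hKM hg).1
    have hKo : ∀ g ∈ K, ¬ 3 ∣ orderOf g := fun g hg hd => hK3 (hd.trans (Subgroup.orderOf_dvd_natCard K hg))
    have hKa : ∀ g ∈ K, g * S.a = S.a * g → g ∈ P := fun g hg h =>
      hPin g ((mem_dta F).2 ⟨hKt g hg, h⟩) (hKo g hg)
    have hKb : ∀ g ∈ K, g * (y * z3⁻¹) = y * z3⁻¹ * g → g ∈ P' := by
      intro g hg h
      have hcj : n3 * g * n3 = MulAut.conj n3 g := by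
        show n3 * g * n3 = n3 * g * n3⁻¹
        rw [hn2]
      refine (hmemP' g).2 (hPin _ ((mem_dta F).2 ⟨?_, ?_⟩) ?_)
      · exact (((show Commute n3 t from hnt).mul_left (hKt g hg)).mul_left hnt).eq
      · rw [← hna] at h
        calc n3 * g * n3 * S.a = n3 * (g * (n3 * S.a * n3)) * n3 := by
              simp only [mul_assoc, hn1, mul_one]
          _ = n3 * ((n3 * S.a * n3) * g) * n3 := by rw [h]
          _ = S.a * (n3 * g * n3) := by simp only [← mul_assoc, hn1, one_mul]
      · rw [hcj, MulEquiv.orderOf_eq]; exact hKo g hg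
    have hKz3 : ∀ g ∈ K, g * z3 = z3 * g → g ∈ Ve := by
      intro g hg h
      obtain ⟨⟨σ, π⟩, rfl, hπ⟩ := exists_e c h
      have hσ : σ * tri = tri * σ := by
        have h1 := hKt _ hg
        rw [htdef, ← e_tt c, ← map_mul, ← map_mul] at h1
        exact congrArg Prod.fst (e_inj c h1)
      have h720 : ∀ σ : Perm (Fin 6), σ * tri = tri * σ → σ ^ 12 = 1 := by decide +kernel
      have h16 : ∀ p : P63, p * tt = tt * p → (p.2 = 1 ∨ p.2 = cyc ∨ p.2 = cyc⁻¹) → e c p ∈ K →
          p ^ 4 = 1 := by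
        intro p hp hp2 hpK
        refine e_inj c ?_
        rw [map_pow, map_one]
        have hpi : ∀ π : Perm (Fin 3), π = 1 ∨ π = cyc ∨ π = cyc⁻¹ → π ^ 12 = 1 := by decide +kernel
        exact pow_of_dvd (n := 12) (by
          rw [← map_pow, show p ^ 12 = 1 from Prod.ext (h720 _ (congrArg Prod.fst hp)) (hpi _ hp2), map_one])
          (hKo _ hpK) (by norm_num)
      have hst : ((σ, π) : P63) * tt = tt * (σ, π) := Prod.ext hσ (by simp [tt])
      have h1 := h16 _ hst hπ hg
      have hπ1 : π = 1 := cyc_eight π hπ (by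
        have h4 : π ^ 4 = 1 := congrArg Prod.snd h1
        rw [show (8 : ℕ) = 4 * 2 from rfl, pow_mul, h4, one_pow])
      subst hπ1
      have hcg : e c (cc * σ * cc⁻¹, 1) ∈ K := by
        have h2 := (Subgroup.mem_normalizer_iff.1 hKy _).1 hg
        rw [hydef, ← e_y c, ← map_inv, ← map_mul, ← map_mul] at h2
        convert h2 using 2
        simp [cc]
      have hcc : cc * σ * cc⁻¹ * tri = tri * (cc * σ * cc⁻¹) := by
        have hct : Commute cc tri := (by decide +kernel : cc * tri = tri * cc)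
        exact ((hct.mul_left hσ).mul_left hct.inv_left).eq
      have h3 := h16 (σ * (cc * σ * cc⁻¹), 1) (Prod.ext ((show Commute σ tri from hσ).mul_left hcc).eq (by simp [tt]))
        (Or.inl rfl)
        (by
          have := K.mul_mem hg hcg
          rw [← map_mul, Prod.mk_mul_mk, one_mul] at this
          exact this)
      refine ⟨(σ, 1), ⟨e3_piece σ hσ (congrArg Prod.fst h1) (congrArg Prod.fst h3), rfl⟩, rfl⟩
    have hKy1 : ∀ g ∈ K, g * y = y * g → g ∈ P := by
      intro g hg h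
      have hJ := hy (mem_cent.2 h)
      have hzJ : z3 ∈ S.J := by rw [F.base]; exact Subgroup.subset_closure (by simp [h3def])
      have h1 : g * z3 * g⁻¹ * z3⁻¹ ∈ S.J :=
        S.J.mul_mem ((Subgroup.mem_normalizer_iff.1 hJ z3).1 hzJ) (S.J.inv_mem hzJ)
      have h2 : g * z3 * g⁻¹ * z3⁻¹ ∈ K := by
        rw [show g * z3 * g⁻¹ * z3⁻¹ = g * (z3 * g⁻¹ * z3⁻¹) by group]
        exact K.mul_mem hg ((Subgroup.mem_normalizer_iff.1 hKz _).1 (K.inv_mem hg))
      have h3 : g * z3 * g⁻¹ * z3⁻¹ = 1 := by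
        refine orderOf_eq_one_iff.1 (Nat.dvd_one.1 ?_)
        have hd := orderOf_dvd_of_pow_eq_one (S.hJexp _ h1)
        rcases (Nat.dvd_prime Nat.prime_three).1 hd with e' | e'
        · rw [e']
        · exact absurd (e' ▸ dvd_rfl) (hKo _ h2)
      rw [mul_inv_eq_one] at h3
      refine hKa g hg ?_
      rw [← hya]
      exact ((show Commute g y from h).mul_right (mul_inv_eq_iff_eq_mul.1 h3)).eq
    have hnyK : y ∉ Subgroup.zpowers z3 := by
      rintro ⟨k, hk⟩
      have hC : F.φ (C3 ^ k) = F.φ (C1 * C2) := by rw [map_zpow]; exact hk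
      have h' : ((C3 : P9)) ^ k = (C1 : P9) * C2 := by
        have := congrArg Subtype.val (F.inj hC)
        simpa using this
      have := DFunLike.congr_fun h' 0
      rw [Equiv.Perm.zpow_apply_eq_self_of_apply_eq_self (by decide +kernel)] at this
      exact absurd this (by decide +kernel)
    -- a piece outside `P`
    obtain ⟨B, b, hBc, htB, hBb, hbC, hyB, g, hgK, hgB, hgP⟩ : ∃ (B : Subgroup G) (b : G), Nat.card B = 8 ∧
        t ∈ B ∧ (∀ v ∈ B, v * t = t * v ∧ v * b = b * v) ∧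
        (b = z3 ∨ b = y * z3⁻¹) ∧
        (∀ v ∈ B, y * v * y⁻¹ ∈ B) ∧ ∃ g ∈ K, g ∈ B ∧ g ∉ P := by
      by_contra hno
      have hy3 : y ^ 3 = 1 := (yG_order F) ▸ pow_orderOf_eq_one y
      have hz3 : z3 ^ 3 = 1 := (c3_order F) ▸ pow_orderOf_eq_one z3
      have hz1 : z3 ≠ 1 := fun h => by
        have := c3_order F
        rw [show F.φ C3 = 1 from h, orderOf_one] at this
        norm_num at this
      refine hKne (le_antisymm ?_ hPK)
      refine le_of_four hyz hy3 hz3 hz1 hnyK hKy hKz hK3 hKy1 ?_ ?_ ?_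
      · intro g hg h
        by_contra hgP
        refine hno ⟨Ve, z3, hVec, ⟨tt, V1_facts.2, e_tt c⟩, ?_, Or.inl rfl, ?_, g, hg, hKz3 g hg h, hgP⟩
        · rintro _ ⟨p, hp, rfl⟩
          refine ⟨?_, ?_⟩
          · rw [htdef, ← e_tt c, ← map_mul, ← map_mul]
            exact congrArg (e c) (Prod.ext (V1_facts.1 p hp).1 (by simp [tt, hp.2]))
          · rw [h3def, ← e_c3 c, ← map_mul, ← map_mul, (V1_facts.1 p hp).2]
        · rintro _ ⟨p, hp, rfl⟩
          have hl : ∀ σ ∈ l8a, cc * σ * cc⁻¹ ∈ l8a := by decide +kernel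
          refine ⟨(cc * p.1 * cc⁻¹, 1), ⟨hl _ hp.1, rfl⟩, ?_⟩
          rw [hydef, ← e_y c, ← map_inv, ← map_mul, ← map_mul]
          exact congrArg (e c) (Prod.ext (by simp [cc]) (by simp [hp.2]))
      · intro g hg h
        rw [hya] at h
        exact hKa g hg h
      · intro g hg h
        by_contra hgP
        refine hno ⟨P', y * z3⁻¹, hP'c, ?_, ?_, Or.inr rfl, ?_, g, hg, hKb g hg h, hgP⟩
        · rw [hmemP', hnt, mul_assoc, hn1, mul_one]; exact htP
        · rintro _ ⟨w, hw, rfl⟩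
          show n3 * w * n3⁻¹ * t = t * (n3 * w * n3⁻¹) ∧ n3 * w * n3⁻¹ * (y * z3⁻¹) = y * z3⁻¹ * (n3 * w * n3⁻¹)
          refine ⟨(((show Commute n3 t from hnt).mul_left (hPt w hw)).mul_left (show Commute n3 t from hnt).inv_left).eq, ?_⟩
          rw [← hna, hn2]
          calc n3 * w * n3 * (n3 * S.a * n3) = n3 * w * (n3 * n3) * S.a * n3 := by group
            _ = n3 * (w * S.a) * n3 := by rw [hn1]; group
            _ = n3 * (S.a * w) * n3 := by rw [((mem_dta F).1 (hPD hw)).2]
            _ = n3 * S.a * (n3 * n3) * w * n3 := by rw [hn1]; group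
            _ = _ := by group
        · intro v hv
          rw [hmemP'] at hv ⊢
          rw [show n3 * (y * v * y⁻¹) * n3 = (n3 * y) * v * (y⁻¹ * n3) by group, hny,
            show y⁻¹ * n3 = n3 * y⁻¹ from ((show Commute n3 y from hny).inv_right).eq.symm,
            show y * n3 * v * (n3 * y⁻¹) = y * (n3 * v * n3) * y⁻¹ by group]
          exact (Subgroup.mem_normalizer_iff.1 (hPn y hyD) _).1 hv
    -- `B` lies in `K`
    have hBB : B ≤ centMod t ht2 B := le_centMod_of_eight ht2 (tau_ne F) hBc htB fun v hv => (hBb v hv).1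
    have hfixB : ∀ v ∈ B, (y * v * y⁻¹ = v ∨ y * v * y⁻¹ = t * v) → v = 1 ∨ v = t := fun v hv hh =>
      fixed_free c (b := b) (by
        rcases hbC with rfl | rfl
        · exact Or.inr (Or.inr rfl)
        · exact Or.inr (Or.inl (by rw [mul_inv_rev, inv_inv, mul_assoc, inv_mul_cancel, mul_one])))
        (hBb v hv).1 (hBb v hv).2 (h8 hBc v hv) hh
    have hPB : ∀ v ∈ P, v ∈ B → v = 1 ∨ v = t := by
      intro v hvP hvB
      have ha' : Commute v (y * z3) := by rw [hya]; exact ((mem_dta F).1 (hPD hvP)).2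
      have hb' : Commute v b := (hBb v hvB).2
      have hy3 : y ^ 3 = 1 := (yG_order F) ▸ pow_orderOf_eq_one y
      have hvy : Commute v y := by
        rcases hbC with rfl | rfl
        · simpa using ha'.mul_right hb'.inv_right
        · have h4 : (y * z3) * (y * z3⁻¹) = y * y := by
            rw [mul_assoc, ← mul_assoc z3, ← hyz.eq, mul_assoc y z3, mul_inv_cancel, mul_one]
          have h5 : Commute v (y * y) := h4 ▸ ha'.mul_right hb'
          have h6 : y * y * (y * y) = y := by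
            rw [show y * y * (y * y) = y ^ 3 * y by simp [pow_succ, mul_assoc], hy3, one_mul]
          exact h6 ▸ h5.mul_right h5
      refine cent_plane c (hBb v hvB).1 hvy ?_ (h8 hBc v hvB)
      have := hvy.inv_right.mul_right ha'
      rwa [inv_mul_cancel_left] at this
    have htK : t ∈ K := hPK htP
    have hg' : y * g * y⁻¹ ∈ K := (Subgroup.mem_normalizer_iff.1 hKy g).1 hgK
    have hg1 : g ≠ 1 ∧ g ≠ t := ⟨fun h => hgP (h ▸ P.one_mem), fun h => hgP (h ▸ htP)⟩
    have hgne : y * g * y⁻¹ ≠ g ∧ y * g * y⁻¹ ≠ t * g :=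
      ⟨fun h => (hfixB g hgB (Or.inl h)).elim hg1.1 hg1.2, fun h => (hfixB g hgB (Or.inr h)).elim hg1.1 hg1.2⟩
    have hgn1 : y * g * y⁻¹ ≠ 1 ∧ y * g * y⁻¹ ≠ t := by
      refine ⟨fun h => hg1.1 (conj_eq_one_iff.1 h), fun h => hg1.2 ?_⟩
      calc g = y⁻¹ * (y * g * y⁻¹) * y := by group
        _ = t := by rw [h, mul_assoc, ← hyt, inv_mul_cancel_left]
    have hBK : B ≤ K := by
      have hL : K ⊓ B = B := by
        refine Subgroup.eq_of_le_of_card_ge inf_le_right ?_
        have hd : Nat.card (K ⊓ B : Subgroup G) ∣ 2 ^ 3 := by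
          rw [show (2 : ℕ) ^ 3 = 8 from rfl, ← hBc]; exact Subgroup.card_dvd_of_le inf_le_right
        have hte : t ≠ 1 := tau_ne F
        have htg1 : t * g ≠ 1 := fun h => hg1.2 (by rw [← one_mul g, ← ht2, mul_assoc, h, mul_one])
        have htgt : t * g ≠ t := fun h => hg1.1 (mul_eq_left.1 h)
        have htgg : t * g ≠ g := fun h => hte (mul_eq_right.1 h)
        have hn : ([1, t, g, t * g, y * g * y⁻¹] : List G).Nodup := by
          simp only [List.nodup_cons, List.mem_cons, List.not_mem_nil, or_false, not_or, List.nodup_nil,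
            and_true, not_false_eq_true]
          exact ⟨⟨hte.symm, hg1.1.symm, htg1.symm, hgn1.1.symm⟩, ⟨hg1.2.symm, htgt.symm, hgn1.2.symm⟩,
            ⟨htgg.symm, hgne.1.symm⟩, hgne.2.symm⟩
        have hsub : ∀ x ∈ ([1, t, g, t * g, y * g * y⁻¹] : List G), x ∈ (K ⊓ B : Subgroup G) := by
          intro x hx
          simp only [List.mem_cons, List.not_mem_nil, or_false] at hx
          rcases hx with rfl | rfl | rfl | rfl | rfl
          · exact Subgroup.one_mem _
          · exact ⟨htK, htB⟩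
          · exact ⟨hgK, hgB⟩
          · exact ⟨K.mul_mem htK hgK, B.mul_mem htB hgB⟩
          · exact ⟨hg', hyB g hgB⟩
        let f : Fin 5 → (K ⊓ B : Subgroup G) := fun i => ⟨_, hsub _ (List.get_mem _ (Fin.cast (by rfl) i))⟩
        have hf : Function.Injective f := fun i j hij =>
          Fin.cast_injective (by rfl) (hn.injective_get (congrArg Subtype.val hij))
        have h5 := Nat.card_le_card_of_injective f hf
        rw [Nat.card_fin] at h5
        obtain ⟨k, hk3, hk⟩ := (Nat.dvd_prime_pow Nat.prime_two).1 hd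
        rw [hk] at h5 ⊢
        rw [hBc]
        interval_cases k <;> omega
      rw [← hL]; exact inf_le_left
    have hBM : B ≤ M := hBK.trans hKM
    have hX := commMod_sup ht2 hPP hBB hBM
    have hBN : B ≤ Subgroup.normalizer (P : Set G) := fun v hv =>
      PSpAmalgam31.mem_normalizer_of_maps fun w hw => centMod_normal htP (hBM hv) hw
    have hXp : IsPGroup 2 (P ⊔ B : Subgroup G) :=
      hP2.to_sup_of_normal_left' (IsPGroup.of_card (n := 3) (by rw [hBc]; norm_num)) hBN
    have hXC : (P ⊔ B : Subgroup G) ≤ Subgroup.centralizer ({t} : Set G) := fun x hx => mem_cent.2 (hX hx).1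
    have hX24 : 24 ≤ Nat.card (P ⊔ B : Subgroup G) := by
      let r : Fin 3 → G := ![1, g, y * g * y⁻¹]
      have hrB : ∀ k, r k ∈ B := fun k => by fin_cases k <;> simp [r, B.one_mem, hgB, hyB g hgB]
      let f : P × Fin 3 → (P ⊔ B : Subgroup G) := fun x =>
        ⟨x.1 * r x.2, Subgroup.mul_mem _ (le_sup_left (b := B) x.1.2) (le_sup_right (a := P) (hrB x.2))⟩
      have hf : Function.Injective f := by
        rintro ⟨v, i⟩ ⟨v', j⟩ h
        have h' : (v : G) * r i = (v' : G) * r j := congrArg Subtype.val h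
        have hm : r j * (r i)⁻¹ = (v' : G)⁻¹ * v := by
          rw [eq_inv_mul_iff_mul_eq, ← mul_assoc, ← h', mul_inv_cancel_right]
        have hd : r j * (r i)⁻¹ = 1 ∨ r j * (r i)⁻¹ = t :=
          hPB _ (hm ▸ P.mul_mem (P.inv_mem v'.2) v.2) (B.mul_mem (hrB j) (B.inv_mem (hrB i)))
        have hij : i = j := by
          have hd' : r j = r i ∨ r j = t * r i := hd.imp mul_inv_eq_one.1 mul_inv_eq_iff_eq_mul.1
          have hti : t⁻¹ = t := inv_of_sq ht2
          have hflip : ∀ a b : G, a = t * b → b = t * a := fun a b hab => by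
            rw [hab, ← mul_assoc, ht2, one_mul]
          fin_cases i <;> fin_cases j <;> simp only [r] at hd' ⊢ <;>
            first
              | rfl
              | (exfalso; rcases hd' with hh | hh <;> simp at hh <;>
                  first
                    | exact hg1.1 hh
                    | exact hg1.1 hh.symm
                    | exact hg1.2 hh
                    | exact hgn1.1 hh
                    | exact hgn1.1 hh.symm
                    | exact hgn1.2 hh
                    | exact hgne.1 hh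
                    | exact hgne.1 hh.symm
                    | exact hgne.2 hh
                    | exact hg1.2 (by simpa using (hflip _ _ hh))
                    | exact hgn1.2 (by simpa using (hflip _ _ hh))
                    | exact hgne.2 (hflip _ _ hh))
        subst hij
        rw [mul_left_inj] at h'
        rw [Subtype.ext h']
      have h3 := Nat.card_le_card_of_injective f hf
      rw [Nat.card_prod, Nat.card_fin, hPc] at h3
      exact h3
    obtain ⟨h, hht, hmove⟩ := into_T c hsyl hXp hXC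
    choose p hp hp' using hmove
    let f : (P ⊔ B : Subgroup G) → T1 := fun x => ⟨p x x.2, hp x x.2⟩
    have hf : Function.Injective f := by
      intro x x' hxx
      have h1 : p x x.2 = p x' x'.2 := congrArg Subtype.val hxx
      have h2 := congrArg (e c) h1
      rw [hp', hp', mul_left_inj, mul_right_inj] at h2
      exact Subtype.ext h2
    have hb := (Nat.bijective_iff_injective_and_card f).2 ⟨hf, by
      rw [card_T1]
      have hle := Nat.card_le_card_of_injective f hf
      rw [card_T1] at hle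
      obtain ⟨m, hm⟩ := hXp.exists_card_eq
      rw [hm] at hle hX24 ⊢
      have hm5 : m ≤ 5 := by
        by_contra hgt
        have := Nat.pow_le_pow_right (n := 2) (by norm_num) (Nat.lt_of_not_le hgt)
        norm_num at this
        omega
      interval_cases m <;> omega⟩
    obtain ⟨-, hs1, hs2, hcom⟩ := t1_facts
    obtain ⟨x1, hx1⟩ := hb.2 ⟨_, hs1⟩
    obtain ⟨x2, hx2⟩ := hb.2 ⟨_, hs2⟩
    have e1 : e c (swap 1 2 * swap 4 5, 1) = h * x1 * h⁻¹ := by
      rw [← hp' x1 x1.2, show p x1 x1.2 = _ from congrArg Subtype.val hx1]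
    have e2 : e c (swap 1 4, 1) = h * x2 * h⁻¹ := by
      rw [← hp' x2 x2.2, show p x2 x2.2 = _ from congrArg Subtype.val hx2]
    refine hcom ?_
    have hht' : h * t * h⁻¹ = t := by rw [hht, mul_inv_cancel_right]
    rcases ((hX x1.2).2 x2 x2.2).conj h hht' with k | k <;>
      rw [← e1, ← e2, ← map_inv, ← map_inv, ← map_mul, ← map_mul, ← map_mul] at k
    · exact List.mem_cons.2 (Or.inl (e_inj c (k.trans (map_one _).symm)))
    · refine List.mem_cons.2 (Or.inr (List.mem_singleton.2 (e_inj c ?_)))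
      rw [k, e_tt c]

end Cfsg.Agent.Sp62Three31.Bridge
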