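import Cfsg.Agent.Lib.Sp62Three31CaseOneClass
import Cfsg.Agent.Lib.ComponentsCores
import Cfsg.Agent.Lib.GenExtraspecialSplit
import Cfsg.Agent.S0814

/-!
S3342, first branch: the first sign acts oddly on the cosets of `N(J)`, so there is a subgroup `M`
of index two; it falls under the uninverted half, and `G` is its automorphism group.
-/

set_option autoImplicit false

namespace Cfsg.Agent.Sp62Three31.One

open Equiv S9Model37 S9Base37 S9Branch37

universe u v

variable {G : Type u} [Group G] [Finite G] {S : Setup G} {F : S.Frame}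

/-- An involution fixes as many points as there are, modulo two. -/
theorem fix_parity {X : Type*} [Finite X] [MulAction G X] {d : G} (hd : d * d = 1) :
    2 ∣ Nat.card X - Nat.card {q : X // d • q = q} := by
  classical
  haveI := Fintype.ofFinite X
  have h := Equiv.Perm.two_dvd_card_support (σ := MulAction.toPermHom G X d) (by rw [← map_pow, sq, hd, map_one])
  have e : (MulAction.toPermHom G X d).support = Finset.univ.filter fun q => ¬ d • q = q := by
    ext q; simp [Equiv.Perm.mem_support]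
  rw [e] at h
  rw [Nat.card_eq_fintype_card, Nat.card_eq_fintype_card, Fintype.card_subtype]
  have := Finset.card_filter_add_card_filter_not (s := (Finset.univ : Finset X)) (fun q => d • q = q)
  rw [Finset.card_univ] at this
  omega

/-- A quaternion pair of `C(a)`. -/
theorem exists_pair (S : Setup G) : ∃ (P : Subgroup G) (x y : G), IsPGroup 2 P ∧ x ∈ P ∧ y ∈ P ∧ P ≤ S.C ∧
    x * x * (x * x) = 1 ∧ x * x ≠ 1 ∧ y * y = x * x ∧ y * x * y⁻¹ = x⁻¹ := by
  classical
  haveI : (Cfsg.pCore 3 (Subgroup.centralizer ({S.a} : Set G))).Normal := Cfsg.pCore_normal 3 _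
  set f := S.e.toMonoidHom.comp (QuotientGroup.mk' (Cfsg.pCore 3 (Subgroup.centralizer ({S.a} : Set G))))
  have hker : f.ker = Cfsg.pCore 3 (Subgroup.centralizer ({S.a} : Set G)) := by
    ext g; simp [f, MonoidHom.mem_ker]
  obtain ⟨T, x, y, hT, hx, hy, h1, h2, h3, h4⟩ := exists_quat f
    (S.e.surjective.comp (QuotientGroup.mk'_surjective _))
    (by rw [hker]; exact IsPGroup.of_card (n := 3) (by rw [S.hRcard]; norm_num))
  refine ⟨T.map (Subgroup.subtype _), x, y, hT.map _, ⟨x, hx, rfl⟩, ⟨y, hy, rfl⟩, Subgroup.map_subtype_le _,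
    congrArg Subtype.val h1, fun e => h2 (Subtype.ext e), congrArg Subtype.val h3, congrArg Subtype.val h4⟩

theorem six_set_cube : ∀ q : Fin 3, pmul (pc q) (pmul (pc q) (pc q)) = (1, fun _ => 1) := by decide +kernel

/-- The index of `N(J)` is even. -/
theorem Hy.two_dvd_index (H : Hy F) : 2 ∣ (Subgroup.normalizer (S.J : Set G)).index := by
  classical
  by_contra hodd
  obtain ⟨P, x, y, hP, hxP, hyP, -, h4, hne, hy2, hxy⟩ := exists_pair S
  obtain ⟨g, hg⟩ := exists_conj_le_of_odd hP hodd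
  set N := Subgroup.normalizer (S.J : Set G)
  have hX : ∀ (n : N) (v : G), (∃ q : Fin 3, ∃ k : Fin 2, v = E F (pc q) ^ (k.val + 1)) →
      ∃ q : Fin 3, ∃ k : Fin 2, (n : G) * v * (n : G)⁻¹ = E F (pc q) ^ (k.val + 1) := by
    rintro n _ ⟨q, k, rfl⟩
    obtain ⟨p, hp⟩ := exists_E F n.2
    obtain ⟨q', hq'⟩ := six_set p q
    have hc : (E F (pc q') ^ 3 : G) = 1 := by rw [pow_three, ← E_mul, ← E_mul, six_set_cube, E_one]
    rw [← conj_pow]
    rcases hq' with e | e
    · exact ⟨q', k, by rw [← hp, ← E_mul, e, E_mul, mul_inv_cancel_right]⟩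
    · refine ⟨q', ![1, 0] k, ?_⟩
      rw [← hp, ← E_mul, e, E_mul, E_mul, mul_inv_cancel_right, ← pow_two, ← pow_mul]
      fin_cases k
      · rfl
      · show E F (pc q') ^ 4 = E F (pc q') ^ 1
        rw [pow_succ, hc, one_mul, pow_one]
  let X := {v : G // ∃ q : Fin 3, ∃ k : Fin 2, v = E F (pc q) ^ (k.val + 1)}
  letI : MulAction N X :=
    { smul := fun n v => ⟨(n : G) * v.1 * (n : G)⁻¹, hX n v.1 v.2⟩
      one_smul := fun v => Subtype.ext (by show (1 : G) * v.1 * (1 : G)⁻¹ = v.1; group)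
      mul_smul := fun a b v => Subtype.ext (by
        show (a : G) * (b : G) * v.1 * ((a : G) * (b : G))⁻¹ = (a : G) * ((b : G) * v.1 * (b : G)⁻¹) * (a : G)⁻¹
        group) }
  have hcard : Nat.card X < 8 := by
    have := Nat.card_le_card_of_surjective
      (fun p : Fin 3 × Fin 2 => (⟨E F (pc p.1) ^ (p.2.val + 1), p.1, p.2, rfl⟩ : X))
      (fun ⟨v, q, k, e⟩ => ⟨(q, k), Subtype.ext e.symm⟩)
    rw [Nat.card_prod, Nat.card_fin, Nat.card_fin] at this
    exact lt_of_le_of_lt this (by norm_num)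
  set x' : N := ⟨g⁻¹ * x * g, hg x hxP⟩
  set y' : N := ⟨g⁻¹ * y * g, hg y hyP⟩
  have hfix := quat_fix hcard (x := x') (y := y')
    (Subtype.ext (by
      show g⁻¹ * x * g * (g⁻¹ * x * g) * (g⁻¹ * x * g * (g⁻¹ * x * g)) = 1
      calc g⁻¹ * x * g * (g⁻¹ * x * g) * (g⁻¹ * x * g * (g⁻¹ * x * g)) = g⁻¹ * (x * x * (x * x)) * g := by group
        _ = 1 := by rw [h4]; group))
    (Subtype.ext (by
      show g⁻¹ * y * g * (g⁻¹ * y * g) = g⁻¹ * x * g * (g⁻¹ * x * g)
      calc g⁻¹ * y * g * (g⁻¹ * y * g) = g⁻¹ * (y * y) * g := by group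
        _ = g⁻¹ * (x * x) * g := by rw [hy2]
        _ = _ := by group))
    (Subtype.ext (by
      show g⁻¹ * y * g * (g⁻¹ * x * g) * (g⁻¹ * y * g)⁻¹ = (g⁻¹ * x * g)⁻¹
      calc g⁻¹ * y * g * (g⁻¹ * x * g) * (g⁻¹ * y * g)⁻¹ = g⁻¹ * (y * x * y⁻¹) * g := by group
        _ = g⁻¹ * x⁻¹ * g := by rw [hxy]
        _ = _ := by group))
  set z : G := g⁻¹ * (x * x) * g with hz
  have hcomm : ∀ q : Fin 3, z * E F (pc q) = E F (pc q) * z := by
    intro q
    have h := congrArg Subtype.val (hfix ⟨E F (pc q), q, 0, by simp⟩)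
    change g⁻¹ * x * g * (g⁻¹ * x * g) * E F (pc q) * (g⁻¹ * x * g * (g⁻¹ * x * g))⁻¹ = E F (pc q) at h
    rw [show g⁻¹ * x * g * (g⁻¹ * x * g) = z by rw [hz]; group] at h
    exact mul_inv_eq_iff_eq_mul.1 h
  have hzJ : z ∈ S.J := by
    rw [← H.cJ, Subgroup.mem_centralizer_iff]
    intro j hj
    obtain ⟨c, rfl⟩ := (mem_J F).1 hj
    rw [E_belp]
    obtain ⟨e1, e2, e3, -⟩ := gens_E F
    have k1 : Commute z (F.φ C1) := e1 ▸ hcomm 0
    have k2 : Commute z (F.φ C2) := e2 ▸ hcomm 1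
    have k3 : Commute z (F.φ C3) := e3 ▸ hcomm 2
    exact (((k1.pow_right _).mul_right (k2.pow_right _)).mul_right (k3.pow_right _)).eq.symm
  have h3 : z * z * z = 1 := by rw [← pow_three']; exact S.hJexp z hzJ
  have h2 : z * z = 1 := by
    calc z * z = g⁻¹ * (x * x * (x * x)) * g := by rw [hz]; group
      _ = 1 := by rw [h4]; group
  rw [h2, one_mul] at h3
  apply hne
  calc x * x = g * z * g⁻¹ := by rw [hz]; group
    _ = 1 := by rw [h3]; group

/-- The centraliser of the first sign has order 1440 and even index. -/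
theorem Hy.card_cent (H : Hy F) :
    Nat.card (Subgroup.centralizer ({F.φ D1} : Set G)) = 1440 ∧
      2 ∣ (Subgroup.centralizer ({F.φ D1} : Set G)).index := by
  classical
  set N := Subgroup.normalizer (S.J : Set G) with hN
  have hcN : Nat.card N = 1296 := by
    rw [hN, ← F.range_eq, ← card_W, Nat.card_congr (MonoidHom.ofInjective F.inj).toEquiv]
  have hfix := card_fixed_mul N (F.φ D1)
  rw [H.card_class, hcN] at hfix
  rcases H.cent_cases with h | ⟨h, f, hf⟩
  · exfalso
    rw [h] at hfix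
    have h1 : Nat.card {q : G ⧸ N // F.φ D1 • q = q} = 1 := by omega
    have h2 := fix_parity (G := G) (X := G ⧸ N) (d_sq (F := F))
    rw [h1, ← Subgroup.index_eq_card] at h2
    have := H.two_dvd_index
    rw [← hN] at this
    have hpos : N.index ≠ 0 := Subgroup.index_ne_zero_of_finite
    omega
  refine ⟨h, ?_⟩
  by_contra hodd
  obtain ⟨P, x, y, hP, hxP, hyP, hPC, h4, hne, hy2, hxy⟩ := exists_pair S
  obtain ⟨g, hg⟩ := exists_conj_le_of_odd hP hodd
  set x' : Subgroup.centralizer ({F.φ D1} : Set G) := ⟨g⁻¹ * x * g, hg x hxP⟩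
  set y' : Subgroup.centralizer ({F.φ D1} : Set G) := ⟨g⁻¹ * y * g, hg y hyP⟩
  have e4 : x' * x' * (x' * x') = 1 := Subtype.ext (by
    show g⁻¹ * x * g * (g⁻¹ * x * g) * (g⁻¹ * x * g * (g⁻¹ * x * g)) = 1
    calc g⁻¹ * x * g * (g⁻¹ * x * g) * (g⁻¹ * x * g * (g⁻¹ * x * g)) = g⁻¹ * (x * x * (x * x)) * g := by group
      _ = 1 := by rw [h4]; group)
  have ey : y' * y' = x' * x' := Subtype.ext (by
    show g⁻¹ * y * g * (g⁻¹ * y * g) = g⁻¹ * x * g * (g⁻¹ * x * g)
    calc g⁻¹ * y * g * (g⁻¹ * y * g) = g⁻¹ * (y * y) * g := by group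
      _ = g⁻¹ * (x * x) * g := by rw [hy2]
      _ = _ := by group)
  have exy : y' * x' * y'⁻¹ = x'⁻¹ := Subtype.ext (by
    show g⁻¹ * y * g * (g⁻¹ * x * g) * (g⁻¹ * y * g)⁻¹ = (g⁻¹ * x * g)⁻¹
    calc g⁻¹ * y * g * (g⁻¹ * x * g) * (g⁻¹ * y * g)⁻¹ = g⁻¹ * (y * x * y⁻¹) * g := by group
      _ = g⁻¹ * x⁻¹ * g := by rw [hxy]
      _ = _ := by group)
  have hfix6 := quat_fix (X := Fin 6) (by simp) (x := f x') (y := f y')
    (by rw [← map_mul, ← map_mul, e4, map_one]) (by rw [← map_mul, ey, map_mul])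
    (by rw [← map_mul, ← map_inv, ← map_mul, exy, map_inv])
  have hmem : x' * x' ∈ f.ker := by
    rw [MonoidHom.mem_ker, map_mul]
    exact Equiv.ext fun i => hfix6 i
  rw [hf, Subgroup.mem_subgroupOf] at hmem
  obtain ⟨k, hk⟩ := Subgroup.mem_zpowers_iff.1 hmem
  change F.φ D1 ^ k = g⁻¹ * x * g * (g⁻¹ * x * g) at hk
  rcases Int.even_or_odd k with ⟨m, rfl⟩ | ⟨m, rfl⟩
  · apply hne
    rw [zpow_add, ← (Commute.refl (F.φ D1)).mul_zpow, d_sq, one_zpow] at hk
    calc x * x = g * (g⁻¹ * x * g * (g⁻¹ * x * g)) * g⁻¹ := by group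
      _ = 1 := by rw [← hk]; group
  · rw [zpow_add_one, two_mul, zpow_add, ← (Commute.refl (F.φ D1)).mul_zpow, d_sq, one_zpow, one_mul] at hk
    refine H.not_commute_a g ?_
    rw [show g * F.φ D1 * g⁻¹ = x * x by rw [hk]; group]
    have hc : Commute x S.a := mem_C_iff.1 (hPC hxP)
    exact ((hc.mul_left hc).eq).symm

/-- There is a subgroup of index two avoiding the first sign. -/
theorem Hy.exists_index_two (H : Hy F) : ∃ M : Subgroup G, M.index = 2 ∧ F.φ D1 ∉ M := by
  classical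
  set N := Subgroup.normalizer (S.J : Set G) with hN
  have hcN : Nat.card N = 1296 := by
    rw [hN, ← F.range_eq, ← card_W, Nat.card_congr (MonoidHom.ofInjective F.inj).toEquiv]
  obtain ⟨hc, hev⟩ := H.card_cent
  have hfix := card_fixed_mul N (F.φ D1)
  rw [H.card_class, hcN, hc] at hfix
  refine One.exists_index_two N (d_sq (F := F)) ?_
  have h10 : Nat.card {q : G ⧸ N // F.φ D1 • q = q} = 10 := by omega
  have hle : Nat.card {q : G ⧸ N // F.φ D1 • q = q} ≤ N.index :=
    Nat.card_le_card_of_injective (fun q => q.1) Subtype.val_injective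
  rw [h10] at hle ⊢
  obtain ⟨k, hk⟩ := hev
  have h1 := (Subgroup.centralizer ({F.φ D1} : Set G)).card_mul_index
  have h2 := N.card_mul_index
  rw [hc, hk] at h1
  rw [hcN] at h2
  rw [Nat.odd_iff]
  omega

theorem sl_gen' : ∀ a : PSpAmalgam31.SL23, ∃ u v : PSpAmalgam31.SL23, u * u * u = 1 ∧ v * v * v = 1 ∧
    (a = u * v ∨ a = u * v * (u * v)) := PSpAmalgam31.sl_gen

/-- A subgroup of index two contains the centraliser of `a`. -/
theorem C_le_of_index_two (S : Setup G) {M : Subgroup G} (hM : M.index = 2) : S.C ≤ M := by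
  haveI := Subgroup.normal_of_index_eq_two hM
  haveI : (Cfsg.pCore 3 (Subgroup.centralizer ({S.a} : Set G))).Normal := Cfsg.pCore_normal 3 _
  have three : ∀ w : G, w ^ 81 = 1 → w ∈ M := by
    intro w hw
    have hsq : w * w ∈ M := by rw [← sq, ← hM]; exact M.pow_index_mem w
    have : w⁻¹ = (w * w) ^ 40 := by
      rw [inv_eq_iff_mul_eq_one, ← sq, ← pow_mul, ← pow_succ']
      exact hw
    rw [← inv_inv w, this]
    exact M.inv_mem (M.pow_mem hsq 40)
  set f := S.e.toMonoidHom.comp (QuotientGroup.mk' (Cfsg.pCore 3 (Subgroup.centralizer ({S.a} : Set G))))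
  have hsur : Function.Surjective f := S.e.surjective.comp (QuotientGroup.mk'_surjective _)
  have lift : ∀ u : PSpAmalgam31.SL23, u * u * u = 1 →
      ∃ w : Subgroup.centralizer ({S.a} : Set G), f w = u ∧ (w : G) ∈ M := by
    intro u hu
    obtain ⟨w, hw⟩ := hsur u
    refine ⟨w, hw, three _ ?_⟩
    have hm : f (w ^ 3) = 1 := by rw [map_pow, hw, pow_three', hu]
    rw [MonoidHom.comp_apply, MulEquiv.coe_toMonoidHom, EmbeddingLike.map_eq_one_iff] at hm
    have h3 := S.hRexp _ ((QuotientGroup.eq_one_iff _).1 hm)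
    rw [← pow_mul] at h3
    have h9 : (w : G) ^ 9 = 1 := congrArg Subtype.val h3
    rw [show 81 = 9 * 9 from rfl, pow_mul, h9, one_pow]
  intro c hc
  obtain ⟨u, v, hu, hv, h⟩ := sl_gen' (f ⟨c, hc⟩)
  obtain ⟨wu, hwu, hmu⟩ := lift u hu
  obtain ⟨wv, hwv, hmv⟩ := lift v hv
  have key : ∀ w : Subgroup.centralizer ({S.a} : Set G), (w : G) ∈ M → f ⟨c, hc⟩ = f w → c ∈ M := by
    intro w hw e
    have hm : f (w⁻¹ * ⟨c, hc⟩) = 1 := by rw [map_mul, map_inv, e, inv_mul_cancel]
    rw [MonoidHom.comp_apply, MulEquiv.coe_toMonoidHom, EmbeddingLike.map_eq_one_iff] at hm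
    have h3 := congrArg Subtype.val (S.hRexp _ ((QuotientGroup.eq_one_iff _).1 hm))
    have : (w : G)⁻¹ * c ∈ M := three _ (by
      rw [show 81 = 3 * 27 from rfl, pow_mul]
      rw [show ((w : G)⁻¹ * c) ^ 3 = 1 from h3, one_pow])
    simpa using M.mul_mem hw this
  rcases h with h | h
  · exact key (wu * wv) (M.mul_mem hmu hmv) (by rw [map_mul, hwu, hwv, h])
  · exact key (wu * wv * (wu * wv)) (M.mul_mem (M.mul_mem hmu hmv) (M.mul_mem hmu hmv))
      (by rw [map_mul, map_mul, hwu, hwv, h])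

/-- The first branch: `G` is the automorphism group of `PSp₄(3)`. -/
theorem caseOne (F : S.Frame) (h : F.CaseI) (hcJ : Subgroup.centralizer (S.J : Set G) = S.J)
    (hsyl : ¬ 3 ^ 5 ∣ Nat.card G)
    (hy : Subgroup.centralizer ({F.φ (C1 * C2)} : Set G) ≤ Subgroup.normalizer (S.J : Set G))
    {K : Type v} [Field K] [Fintype K] (hK : Fintype.card K = 3)
    (hhalf : ∀ (M : Subgroup G) (S' : Setup ↥M), ¬ S'.Inverted →
      (∃ N : Subgroup ↥M, N.Normal ∧ N.index = 3) ∨ Nonempty (↥M ≃* Cfsg.PSp 2 K)) :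
    Nonempty (G ≃* MulAut (Cfsg.PSp 2 K)) := by
  classical
  have H : Hy F := ⟨h, hy, hcJ, hsyl⟩
  obtain ⟨M, hM, hdM⟩ := H.exists_index_two
  haveI := Subgroup.normal_of_index_eq_two hM
  have hmul : ∀ {a b : G}, a ∉ M → b ∉ M → a * b ∈ M := fun {a b} ha hb =>
    (Subgroup.mul_mem_iff_of_index_two hM).2 (iff_of_false ha hb)
  have hC : S.C ≤ M := C_le_of_index_two S hM
  have hCM : S.J ≤ M := S.hJC.trans hC
  obtain ⟨-, -, -, g4, g5, g6, gr, gt⟩ := gens_E F
  obtain ⟨-, hr3, hrc, -, hra, -, -, hia, -⟩ := rot_facts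
  have hrotC : F.φ Rot ∈ S.C := mem_C_iff.2 (by
    rw [← gr, ← E_a F]; exact (com_iff F).2 hra)
  have hconj : ∀ q : Fin 3, E F (pd q) ∉ M := by
    intro q hq
    obtain ⟨π, c, e⟩ := nine_conj (pd q) ⟨q, swap 0 1, by simp, rfl⟩
    refine hdM ?_
    set w := E F (pmul (π, fun _ => 1) (belp c))
    have e' : w * F.φ D1 = E F (pd q) * w := by rw [← g4, ← E_mul, e, E_mul]
    rw [show F.φ D1 = w⁻¹ * E F (pd q) * w⁻¹⁻¹ by rw [inv_inv, mul_assoc, ← e', inv_mul_cancel_left]]
    exact Subgroup.Normal.conj_mem inferInstance _ hq _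
  have hd12 : E F pd12 ∈ M := by rw [pd12, E_mul]; exact hmul (hconj 0) (hconj 1)
  have hd23 : E F pd23 ∈ M := by rw [pd23, E_mul]; exact hmul (hconj 1) (hconj 2)
  have hd123 : E F p123 ∉ M := by
    show E F (pmul pd12 (pd 2)) ∉ M
    rw [E_mul]
    exact fun hm => hconj 2 (by simpa using M.mul_mem (M.inv_mem hd12) hm)
  -- the setup inside `M`
  let a' : M := ⟨S.a, hC (mem_C_iff.2 rfl)⟩
  let ψ : Subgroup.centralizer ({S.a} : Set G) ≃* Subgroup.centralizer ({a'} : Set M) :=
    { toFun := fun c => ⟨⟨c, hC c.2⟩, Subgroup.mem_centralizer_singleton_iff.2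
        (Subtype.ext (Subgroup.mem_centralizer_singleton_iff.1 c.2))⟩
      invFun := fun c => ⟨((c : M) : G), Subgroup.mem_centralizer_singleton_iff.2
        (congrArg Subtype.val (Subgroup.mem_centralizer_singleton_iff.1 c.2))⟩
      left_inv := fun _ => rfl
      right_inv := fun _ => rfl
      map_mul' := fun _ _ => rfl }
  have hmapR : (Cfsg.pCore 3 (Subgroup.centralizer ({S.a} : Set G))).map ψ.toMonoidHom =
      Cfsg.pCore 3 (Subgroup.centralizer ({a'} : Set M)) := ComponentsCores.pCore_map_mulEquiv ψ 3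
  haveI : (Cfsg.pCore 3 (Subgroup.centralizer ({S.a} : Set G))).Normal := Cfsg.pCore_normal 3 _
  haveI : (Cfsg.pCore 3 (Subgroup.centralizer ({a'} : Set M))).Normal := Cfsg.pCore_normal 3 _
  let eR : Cfsg.pCore 3 (Subgroup.centralizer ({S.a} : Set G)) ≃*
      Cfsg.pCore 3 (Subgroup.centralizer ({a'} : Set M)) :=
    ((Cfsg.pCore 3 (Subgroup.centralizer ({S.a} : Set G))).equivMapOfInjective ψ.toMonoidHom ψ.injective).trans
      (MulEquiv.subgroupCongr hmapR)
  haveI : Fact (Nat.Prime 3) := ⟨Nat.prime_three⟩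
  let S' : Setup M :=
    { a := a'
      J := S.J.subgroupOf M
      ha := by rw [← Subgroup.orderOf_coe]; exact S.ha
      hR := GenExtraspecialSplit.isExtraspecial_equiv eR S.hR
      hRcard := (Nat.card_congr eR.toEquiv).symm.trans S.hRcard
      hRexp := fun r hr => by
        rw [← hmapR] at hr
        obtain ⟨s, hs, rfl⟩ := hr
        rw [← map_pow, S.hRexp s hs, map_one]
      e := (QuotientGroup.congr _ _ ψ hmapR).symm.trans S.e
      hJC := fun j hj => Subgroup.mem_centralizer_singleton_iff.2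
        (Subtype.ext (Subgroup.mem_centralizer_singleton_iff.1 (S.hJC hj)))
      hJcomm := ⟨⟨fun x y => by
        apply Subtype.ext
        apply Subtype.ext
        have h := congrArg Subtype.val (S.hJcomm.is_comm.comm (⟨x.1.1, x.2⟩ : S.J) ⟨y.1.1, y.2⟩)
        exact h⟩⟩
      hJexp := fun j hj => Subtype.ext (S.hJexp j hj)
      hJcard := (Nat.card_congr (Subgroup.subgroupOfEquivOfLe hCM).toEquiv).trans S.hJcard
      hJsig := fun L hL hinv => by
        have := S.hJsig (L.map M.subtype) (by rwa [Subgroup.card_map_of_injective M.subtype_injective]) fun j hj => by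
          have e := hinv ⟨j, hCM hj⟩ hj
          conv_rhs => rw [← e]
          rw [Subgroup.map_map, Subgroup.map_map]
          congr 1
        rwa [Subgroup.map_eq_bot_iff_of_injective _ M.subtype_injective] at this }
  have hni : ¬ S'.Inverted := by
    rintro ⟨g, hg⟩
    have hg' : (g : G) * S.a * (g : G)⁻¹ = S.a⁻¹ := congrArg Subtype.val hg
    set δ := E F p123 with hδ
    have hδa : δ * S.a = S.a⁻¹ * δ := by
      have h2 : E F (belp (2, 2, 2)) = S.a⁻¹ := by
        rw [← inv_a.2, E_mul, E_a, eq_inv_iff_mul_eq_one, ← pow_three']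
        exact a_pow
      rw [hδ, ← E_a F, ← E_mul, hia, E_mul, h2, E_a]
    have hgd : (g : G) * δ ∈ S.C := mem_C_iff.2 (by
      rw [mul_assoc, hδa, ← mul_assoc, show (g : G) * S.a⁻¹ = S.a * g by
        rw [← inv_inv S.a] at hg'
        calc (g : G) * S.a⁻¹ = ((g : G) * S.a⁻¹⁻¹ * (g : G)⁻¹)⁻¹ * g := by group
          _ = S.a⁻¹⁻¹⁻¹⁻¹ * g := by rw [hg']
          _ = S.a * g := by group, mul_assoc])
    exact hd123 (by simpa using M.mul_mem (M.inv_mem g.2) (hC hgd))
  rcases hhalf M S' hni with ⟨N, hN, hN3⟩ | hn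
  · -- no normal subgroup of index three
    exfalso
    haveI := hN
    have hgen : ∀ (x : G) (hx : x ∈ M) (t : G) (ht : t ∈ M), t * t = 1 → x * x * x = 1 → t * x * t = x * x →
        (⟨x, hx⟩ : M) ∈ N := by
      intro x hx t ht htt hx3 hinv
      set x' : M := ⟨x, hx⟩
      set t' : M := ⟨t, ht⟩
      have ht' : t' ∈ N := by
        have h3 := N.pow_index_mem t'
        rw [hN3, pow_three', show t' * t' = 1 from Subtype.ext htt, one_mul] at h3
        exact h3
      have hc : t' * (x' * t' * x'⁻¹) ∈ N := N.mul_mem ht' (hN.conj_mem _ ht' _)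
      have e : t' * (x' * t' * x'⁻¹) = x' := Subtype.ext (by
        show t * (x * t * x⁻¹) = x
        rw [← mul_assoc, ← mul_assoc, hinv]
        group)
      rwa [e] at hc
    obtain ⟨-, hr3', -, hta, -, htt, -, -, hrb⟩ := rot_facts
    have htM : E F ptau ∈ M := hC (mem_C_iff.2 (by rw [← E_a F]; exact (com_iff F).2 hta))
    have hrot : (⟨E F prot, hC (gr ▸ hrotC)⟩ : M) ∈ N :=
      hgen _ _ _ htM (by rw [← E_mul, htt, E_one]) (by rw [mul_assoc, ← E_mul, ← E_mul, hr3', E_one])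
        (by rw [mul_assoc, ← E_mul, ← E_mul, ← E_mul]; exact congrArg (E F) rot_facts.1)
    have hinvs : ∀ q : Fin 3, pmul pd12 pd12 = (1, fun _ => 1) ∧ pmul pd23 pd23 = (1, fun _ => 1) ∧
        pmul (pc q) (pmul (pc q) (pc q)) = (1, fun _ => 1) ∧
        (pmul pd12 (pmul (pc q) pd12) = pmul (pc q) (pc q) ∨ pmul pd23 (pmul (pc q) pd23) = pmul (pc q) (pc q)) := by
      decide +kernel
    have hpcM : ∀ q : Fin 3, E F (pc q) ∈ M := fun q => hCM ((inBase_iff F).2
      ((show ∀ q : Fin 3, InBase (pc q) by decide +kernel) q))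
    have hpc : ∀ q : Fin 3, (⟨E F (pc q), hpcM q⟩ : M) ∈ N := by
      intro q
      obtain ⟨h12, h23, h3, hh | hh⟩ := hinvs q
      · exact hgen _ _ _ hd12 (by rw [← E_mul, h12, E_one]) (by rw [mul_assoc, ← E_mul, ← E_mul, h3, E_one])
          (by rw [mul_assoc, ← E_mul, ← E_mul, ← E_mul, hh])
      · exact hgen _ _ _ hd23 (by rw [← E_mul, h23, E_one]) (by rw [mul_assoc, ← E_mul, ← E_mul, h3, E_one])
          (by rw [mul_assoc, ← E_mul, ← E_mul, ← E_mul, hh])
    -- a Sylow subgroup of order 81 lies in `N`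
    let NG : Subgroup G := N.map M.subtype
    have hJN : S.J ≤ NG := by
      intro j hj
      obtain ⟨c, rfl⟩ := (mem_J F).1 hj
      rw [E_belp]
      obtain ⟨e1, e2, e3, -⟩ := gens_E F
      exact mul_mem (mul_mem (pow_mem (e1 ▸ ⟨_, hpc 0, rfl⟩) _) (pow_mem (e2 ▸ ⟨_, hpc 1, rfl⟩) _))
        (pow_mem (e3 ▸ ⟨_, hpc 2, rfl⟩) _)
    set T : Subgroup G := Subgroup.zpowers (E F prot)
    have hTN : T ≤ NG := Subgroup.zpowers_le.2 ⟨_, hrot, rfl⟩
    have hrJ : E F prot ∉ S.J := fun hm => hrb ((inBase_iff F).1 hm)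
    have hT3 : Nat.card T = 3 := by
      rw [Nat.card_zpowers]
      refine orderOf_eq_prime (by rw [pow_three, ← E_mul, ← E_mul, hr3', E_one]) fun e => hrJ ?_
      rw [e]; exact S.J.one_mem
    have hnor : T ≤ Subgroup.normalizer (S.J : Set G) := Subgroup.zpowers_le.2 (E_mem F _)
    have hdisj : S.J ⊓ T = ⊥ := by
      refine Subgroup.eq_bot_of_card_eq _ ?_
      have hd : Nat.card (S.J ⊓ T : Subgroup G) ∣ 3 := hT3 ▸ Subgroup.card_dvd_of_le inf_le_right
      rcases (Nat.dvd_prime Nat.prime_three).1 hd with e | e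
      · exact e
      · exfalso
        have : S.J ⊓ T = T := Subgroup.eq_of_le_of_card_ge inf_le_right (by rw [e, hT3])
        exact hrJ ((inf_le_left : S.J ⊓ T ≤ S.J) (this.symm ▸ Subgroup.mem_zpowers _))
    have hle : 81 ≤ Nat.card (S.J ⊔ T : Subgroup G) := by
      let f : S.J × T → (S.J ⊔ T : Subgroup G) := fun p =>
        ⟨p.1.1 * p.2.1, mul_mem (Subgroup.mem_sup_left p.1.2) (Subgroup.mem_sup_right p.2.2)⟩
      have hf : Function.Injective f := by
        intro p q e
        have e' : p.1.1 * p.2.1 = q.1.1 * q.2.1 := congrArg Subtype.val e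
        have hm : (q.1.1)⁻¹ * p.1.1 ∈ S.J ⊓ T := by
          refine Subgroup.mem_inf.2 ⟨S.J.mul_mem (S.J.inv_mem q.1.2) p.1.2, ?_⟩
          rw [show (q.1.1)⁻¹ * p.1.1 = q.2.1 * (p.2.1)⁻¹ by
            rw [eq_mul_inv_iff_mul_eq, mul_assoc, e', inv_mul_cancel_left]]
          exact T.mul_mem q.2.2 (T.inv_mem p.2.2)
        rw [hdisj, Subgroup.mem_bot, inv_mul_eq_one] at hm
        rw [hm, mul_right_inj] at e'
        exact Prod.ext (Subtype.ext hm.symm) (Subtype.ext e')
      have := Nat.card_le_card_of_injective f hf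
      rw [Nat.card_prod, S.hJcard, hT3] at this
      exact this
    have h81 : 81 ∣ Nat.card NG := by
      have hp : IsPGroup 3 (S.J ⊔ T : Subgroup G) := by
        rw [sup_comm]
        exact IsPGroup.to_sup_of_normal_right' (IsPGroup.of_card (n := 1) (by rw [hT3]; norm_num))
          (IsPGroup.of_card (n := 3) (by rw [S.hJcard]; norm_num)) hnor
      obtain ⟨n, hn⟩ := hp.exists_card_eq
      have hd := Subgroup.card_dvd_of_le (sup_le hJN hTN)
      rw [hn] at hd hle
      refine dvd_trans ?_ hd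
      have : 4 ≤ n := (Nat.pow_le_pow_iff_right (show 1 < 3 by norm_num)).1 (by norm_num; omega)
      exact (show (81 : ℕ) = 3 ^ 4 by norm_num) ▸ pow_dvd_pow 3 this
    rw [Subgroup.card_map_of_injective M.subtype_injective] at h81
    refine hsyl ?_
    have h1 := N.card_mul_index
    rw [hN3] at h1
    obtain ⟨k, hk⟩ := h81
    rw [← M.card_mul_index, hM, ← h1, hk]
    exact ⟨2 * k, by norm_num; ring⟩
  · -- the automorphism group
    obtain ⟨φM⟩ := hn
    have hcent : Subgroup.centralizer (M : Set G) = ⊥ := by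
      rw [Subgroup.eq_bot_iff_forall]
      intro g hg
      have hgJ : g ∈ S.J := by
        rw [← hcJ]
        exact Subgroup.centralizer_le hCM hg
      obtain ⟨c, rfl⟩ := (mem_J F).1 hgJ
      rw [Subgroup.mem_centralizer_iff] at hg
      have := cent_signs c ((com_iff F).1 (hg _ hd12).symm) ((com_iff F).1 (hg _ hd23).symm)
      rw [this, belp_zero, E_one]
    have hK' : Nat.card (Cfsg.PSp 2 K) * 2 = Nat.card (MulAut (Cfsg.PSp 2 K)) := by
      haveI : Fact (Nat.Prime 3) := ⟨Nat.prime_three⟩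
      rw [S0814.result 3 1 le_rfl (by rw [hK]; norm_num) 2 le_rfl (fun _ => by norm_num), if_neg (by norm_num)]
      norm_num
      ring
    let Φ : G →* MulAut (Cfsg.PSp 2 K) := (MulAut.congr φM).toMonoidHom.comp MulAut.conjNormal
    have hinj : Function.Injective Φ := by
      rw [injective_iff_map_eq_one]
      intro g hg
      have h1 : (MulAut.conjNormal g : MulAut M) = 1 := (MulAut.congr φM).injective (hg.trans (map_one _).symm)
      have : g ∈ Subgroup.centralizer (M : Set G) := Subgroup.mem_centralizer_iff.2 fun m hm => by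
        have h2 := congrArg Subtype.val (DFunLike.congr_fun h1 ⟨m, hm⟩)
        simp only [MulAut.conjNormal_apply, MulAut.one_apply] at h2
        exact (mul_inv_eq_iff_eq_mul.1 h2).symm
      rwa [hcent, Subgroup.mem_bot] at this
    haveI : Finite (Cfsg.PSp 2 K) := Finite.of_equiv M φM.toEquiv
    haveI : Finite (MulAut (Cfsg.PSp 2 K)) := inferInstance
    refine ⟨MulEquiv.ofBijective Φ ((Nat.bijective_iff_injective_and_card Φ).2 ⟨hinj, ?_⟩)⟩
    rw [← hK', ← Nat.card_congr φM.toEquiv, ← M.card_mul_index, hM]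

end Cfsg.Agent.Sp62Three31.One
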