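import Mathlib
import Cfsg.Agent.Lib.PSpAmalgam31Fin

/-!
General lemmas for the first branch of S3342: quaternion pairs, the parity of an involution on
cosets, and counting its fixed cosets.
-/

set_option autoImplicit false

namespace Cfsg.Agent.Sp62Three31.One

/-- A quaternion pair acting on fewer than eight points: the central involution fixes every point. -/
theorem quat_fix {G X : Type*} [Group G] [MulAction G X] [Finite X] (hX : Nat.card X < 8) {x y : G}
    (h4 : x * x * (x * x) = 1) (hy : y * y = x * x) (hxy : y * x * y⁻¹ = x⁻¹) (i : X) :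
    (x * x) • i = i := by
  classical
  haveI := Fintype.ofFinite X
  by_contra hne
  set z := x * x with hz
  have hyz : y * z = z * y := by rw [← hy, mul_assoc]
  have hx4 : x ^ 4 = 1 := by
    rw [← h4, hz, show (4 : ℕ) = 2 + 2 from rfl, pow_add, pow_two]
  -- no element `x ^ k` moves `i` to `y • i`
  have hy' : ∀ k : ℕ, y • i ≠ x ^ k • i := by
    intro k e
    have hfix : ((x ^ k)⁻¹ * y) • i = i := by rw [mul_smul, e, inv_smul_smul]
    have hconj : y * (x ^ k)⁻¹ * y⁻¹ = x ^ k := by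
      rw [show y * (x ^ k)⁻¹ * y⁻¹ = ((y * x * y⁻¹) ^ k)⁻¹ by rw [conj_pow]; group, hxy, inv_pow, inv_inv]
    have hsq : ((x ^ k)⁻¹ * y) * ((x ^ k)⁻¹ * y) = z := by
      rw [show ((x ^ k)⁻¹ * y) * ((x ^ k)⁻¹ * y) = (x ^ k)⁻¹ * (y * (x ^ k)⁻¹ * y⁻¹) * (y * y) by group, hconj,
        inv_mul_cancel, one_mul, hy]
    exact hne (by rw [← hsq, mul_smul, hfix, hfix])
  have hzy : z • (y • i) ≠ y • i := by
    intro e
    rw [← mul_smul, ← hyz, mul_smul] at e
    exact hne (MulAction.injective y e)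
  -- eight distinct points
  have orbit : ∀ p : X, z • p ≠ p → ∀ a b : Fin 4, x ^ (a : ℕ) • p = x ^ (b : ℕ) • p → a = b := by
    intro p hp a b e
    by_contra hab
    obtain ⟨m, hm, hmod⟩ : ∃ m : ℕ, (m = 1 ∨ m = 2 ∨ m = 3) ∧ ((a : ℕ) + m) % 4 = (b : ℕ) := by
      have ha := a.2
      have hb := b.2
      have : (a : ℕ) ≠ b := fun h => hab (Fin.ext h)
      exact ⟨((b : ℕ) + 4 - a) % 4, by omega, by omega⟩
    rw [show x ^ (b : ℕ) = x ^ ((a : ℕ) + m) by rw [pow_eq_pow_mod ((a : ℕ) + m) hx4, hmod], pow_add,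
      mul_smul] at e
    have e' : x ^ m • p = p := (MulAction.injective _ e).symm
    rcases hm with rfl | rfl | rfl
    · exact hp (by rw [hz, mul_smul, ← pow_one x, e', e'])
    · exact hp (by rw [hz, ← sq, e'])
    · refine hp ?_
      have : x • p = p := by
        conv_lhs => rw [← e']
        rw [← mul_smul, show x * x ^ 3 = 1 by rw [← hx4]; group, one_smul]
      rw [hz, mul_smul, this, this]
  have hzx : ∀ k : ℕ, x ^ k • i ≠ y • i := fun k e => hy' k e.symm
  let f : Fin 4 ⊕ Fin 4 → X := Sum.elim (fun a => x ^ (a : ℕ) • i) fun a => x ^ (a : ℕ) • (y • i)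
  have cross : ∀ a b : Fin 4, x ^ (a : ℕ) • i ≠ x ^ (b : ℕ) • (y • i) := by
    intro a b e
    refine hy' ((4 - (b : ℕ)) + a) ?_
    rw [pow_add, mul_smul, e, ← mul_smul (x ^ (4 - (b : ℕ))) (x ^ (b : ℕ)), ← pow_add,
      Nat.sub_add_cancel (by omega), hx4, one_smul]
  have hf : Function.Injective f := by
    rintro (a | a) (b | b) e
    · exact congrArg Sum.inl (orbit i hne a b e)
    · exact absurd e (cross a b)
    · exact absurd e.symm (cross b a)
    · exact congrArg Sum.inr (orbit _ hzy a b e)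
  have := Nat.card_le_card_of_injective f hf
  rw [Nat.card_sum, Nat.card_fin] at this
  omega

/-- An involution moving an odd number of pairs of cosets lies outside a subgroup of index two. -/
theorem exists_index_two {G : Type*} [Group G] [Finite G] (H : Subgroup G) {d : G} (hd : d * d = 1)
    (hodd : Odd ((H.index - Nat.card {q : G ⧸ H // d • q = q}) / 2)) :
    ∃ M : Subgroup G, M.index = 2 ∧ d ∉ M := by
  classical
  haveI : Fintype (G ⧸ H) := Fintype.ofFinite _
  let s : G →* ℤˣ := Equiv.Perm.sign.comp (MulAction.toPermHom G (G ⧸ H))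
  have hσ : (MulAction.toPermHom G (G ⧸ H) d) ^ 2 = 1 := by rw [← map_pow, sq, hd, map_one]
  have hsd : s d = -1 := by
    show Equiv.Perm.sign (MulAction.toPermHom G (G ⧸ H) d) = -1
    rw [Equiv.Perm.sign_of_pow_two_eq_one hσ]
    have h1 : Fintype.card (Function.fixedPoints (MulAction.toPermHom G (G ⧸ H) d)) =
        Nat.card {q : G ⧸ H // d • q = q} := by
      rw [← Nat.card_eq_fintype_card]
      exact Nat.card_congr (Equiv.subtypeEquivRight fun q => Iff.rfl)
    rw [h1, ← Nat.card_eq_fintype_card, ← Subgroup.index_eq_card]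
    exact hodd.neg_one_pow
  refine ⟨s.ker, ?_, fun h => by rw [MonoidHom.mem_ker, hsd] at h; exact absurd h (by decide)⟩
  have hr : s.range = ⊤ := by
    refine top_le_iff.1 fun u _ => ?_
    rcases Int.units_eq_one_or u with rfl | rfl
    · exact one_mem _
    · exact ⟨d, hsd⟩
  rw [Subgroup.index_ker, hr, Subgroup.card_top, Nat.card_eq_fintype_card, Fintype.card_units_int]

/-- Counting the cosets fixed by an element. -/
theorem card_fixed_mul {G : Type*} [Group G] [Finite G] (H : Subgroup G) (d : G) :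
    Nat.card {q : G ⧸ H // d • q = q} * Nat.card H =
      Nat.card (Subgroup.centralizer ({d} : Set G)) * Nat.card {i : G // i ∈ H ∧ ∃ h : G, h⁻¹ * d * h = i} := by
  classical
  have e1 : {g : G // g⁻¹ * d * g ∈ H} ≃ H × {q : G ⧸ H // d • q = q} := by
    refine Equiv.trans (Equiv.subtypeEquivRight fun g => ?_)
      (QuotientGroup.preimageMkEquivSubgroupProdSet H {q : G ⧸ H | d • q = q})
    show g⁻¹ * d * g ∈ H ↔ d • (g : G ⧸ H) = (g : G ⧸ H)
    rw [MulAction.Quotient.smul_coe, eq_comm, QuotientGroup.eq, smul_eq_mul, mul_assoc]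
  let I := {i : G // i ∈ H ∧ ∃ h : G, h⁻¹ * d * h = i}
  let r : I → G := fun i => i.2.2.choose
  have hr : ∀ i : I, (r i)⁻¹ * d * r i = i.1 := fun i => i.2.2.choose_spec
  have e2 : {g : G // g⁻¹ * d * g ∈ H} ≃ Subgroup.centralizer ({d} : Set G) × I := by
    refine
      { toFun := fun g => (⟨g.1 * (r ⟨_, g.2, g.1, rfl⟩)⁻¹, ?_⟩, ⟨g.1⁻¹ * d * g.1, g.2, g.1, rfl⟩)
        invFun := fun p => ⟨p.1.1 * r p.2, ?_⟩
        left_inv := fun g => Subtype.ext ?_
        right_inv := fun p => ?_ }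
    · have h := hr ⟨_, g.2, g.1, rfl⟩
      rw [Subgroup.mem_centralizer_singleton_iff]
      set t := r ⟨_, g.2, g.1, rfl⟩
      calc g.1 * t⁻¹ * d = g.1 * (t⁻¹ * d * t) * t⁻¹ := by group
        _ = g.1 * (g.1⁻¹ * d * g.1) * t⁻¹ := by rw [h]
        _ = d * (g.1 * t⁻¹) := by group
    · have hc : p.1.1⁻¹ * d * p.1.1 = d := by
        rw [mul_assoc, ← Subgroup.mem_centralizer_singleton_iff.1 p.1.2, inv_mul_cancel_left]
      rw [show (p.1.1 * r p.2)⁻¹ * d * (p.1.1 * r p.2) = (r p.2)⁻¹ * (p.1.1⁻¹ * d * p.1.1) * r p.2 by group,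
        hc, hr]
      exact p.2.2.1
    · simp
    · obtain ⟨⟨c, hc⟩, i⟩ := p
      have hc' : c⁻¹ * d * c = d := by
        rw [mul_assoc, ← Subgroup.mem_centralizer_singleton_iff.1 hc, inv_mul_cancel_left]
      have e : (c * r i)⁻¹ * d * (c * r i) = i.1 := by
        rw [show (c * r i)⁻¹ * d * (c * r i) = (r i)⁻¹ * (c⁻¹ * d * c) * r i by group, hc', hr]
      have ei : (⟨(c * r i)⁻¹ * d * (c * r i), e ▸ i.2.1, c * r i, rfl⟩ : I) = i := Subtype.ext e
      refine Prod.ext (Subtype.ext ?_) ei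
      show c * r i * (r _)⁻¹ = c
      rw [ei, mul_inv_cancel_right]
  have := Nat.card_congr (e1.symm.trans e2)
  rw [Nat.card_prod, Nat.card_prod] at this
  rw [mul_comm]
  exact this

/-- A `2`-subgroup moves into a subgroup of odd index. -/
theorem exists_conj_le_of_odd {G : Type*} [Group G] [Finite G] {P H : Subgroup G} (hP : IsPGroup 2 P)
    (hH : ¬ 2 ∣ H.index) : ∃ g : G, ∀ x ∈ P, g⁻¹ * x * g ∈ H := by
  classical
  haveI : Fact (Nat.Prime 2) := ⟨Nat.prime_two⟩
  obtain ⟨q, hq⟩ := hP.nonempty_fixed_point_of_prime_not_dvd_card (G ⧸ H)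
    (by rwa [← Subgroup.index_eq_card])
  obtain ⟨g, rfl⟩ := QuotientGroup.mk_surjective q
  refine ⟨g, fun x hx => ?_⟩
  have h : ((x * g : G) : G ⧸ H) = (g : G ⧸ H) := hq ⟨x, hx⟩
  rw [eq_comm, QuotientGroup.eq, ← mul_assoc] at h
  exact h

theorem sl_pow8 : ∀ a : PSpAmalgam31.SL23,
    a * (a * (a * (a * (a * (a * (a * a)))))) = 1 → a * a * (a * a) = 1 := by decide +kernel

theorem sl_quat : ∃ a b : PSpAmalgam31.SL23, a * a * (a * a) = 1 ∧ a * a ≠ 1 ∧ b * b = a * a ∧
    b * a * b⁻¹ = a⁻¹ :=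
  ⟨⟨!![0, 1; 2, 0], by decide⟩, ⟨!![1, 1; 1, 2], by decide⟩, by decide +kernel⟩

/-- The quaternion pair of `SL(2,3)`, lifted through a kernel of three-power order. -/
theorem exists_quat {C : Type*} [Group C] [Finite C] (f : C →* PSpAmalgam31.SL23)
    (hf : Function.Surjective f) (hker : IsPGroup 3 f.ker) :
    ∃ (T : Subgroup C) (x y : C), IsPGroup 2 T ∧ x ∈ T ∧ y ∈ T ∧ x * x * (x * x) = 1 ∧ x * x ≠ 1 ∧
      y * y = x * x ∧ y * x * y⁻¹ = x⁻¹ := by
  classical
  haveI : Fact (Nat.Prime 2) := ⟨Nat.prime_two⟩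
  haveI : Fact (Nat.Prime 3) := ⟨Nat.prime_three⟩
  obtain ⟨T⟩ : Nonempty (Sylow 2 C) := inferInstance
  let U : Sylow 2 PSpAmalgam31.SL23 := T.mapSurjective hf
  have hU8 : Nat.card (U : Subgroup PSpAmalgam31.SL23) = 8 := by
    obtain ⟨n, hn⟩ := U.isPGroup'.exists_card_eq
    have h1 := (U : Subgroup PSpAmalgam31.SL23).card_mul_index
    have h2 : ¬ 2 ∣ (U : Subgroup PSpAmalgam31.SL23).index := U.not_dvd_index
    rw [hn, PSpAmalgam31.sl_card] at h1
    have h3 : n ≤ 5 := (Nat.pow_le_pow_iff_right (show 1 < 2 by norm_num)).1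
      (le_trans (Nat.le_of_dvd (by norm_num) (Dvd.intro _ h1)) (by norm_num))
    rw [hn]
    interval_cases n <;> norm_num at h1 ⊢ <;> omega
  have hall : ∀ a : PSpAmalgam31.SL23, a * a * (a * a) = 1 → a ∈ (U : Subgroup PSpAmalgam31.SL23) := by
    have hsub : ((U : Subgroup PSpAmalgam31.SL23) : Set PSpAmalgam31.SL23) ⊆ {a | a * a * (a * a) = 1} := by
      intro a ha
      refine sl_pow8 a ?_
      have := pow_card_eq_one' (x := (⟨a, ha⟩ : (U : Subgroup PSpAmalgam31.SL23)))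
      rw [hU8] at this
      have := congrArg Subtype.val this
      simpa [pow_succ, mul_assoc] using this
    have he := Set.eq_of_subset_of_ncard_le hsub (by
      rw [← Nat.card_coe_set_eq, ← Nat.card_coe_set_eq]
      exact le_of_eq (PSpAmalgam31.sl_q8_card.trans hU8.symm)) (Set.toFinite _)
    intro a ha
    have : a ∈ {a : PSpAmalgam31.SL23 | a * a * (a * a) = 1} := ha
    rwa [← he] at this
  obtain ⟨a, b, ha, ha2, hb, hab⟩ := sl_quat
  have hb4 : b * b * (b * b) = 1 := by rw [hb, ha]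
  obtain ⟨x, hx, hxa⟩ := hall a ha
  obtain ⟨y, hy, hyb⟩ := hall b hb4
  have hinj : ∀ g ∈ (T : Subgroup C), f g = 1 → g = 1 := fun g hg h1 =>
    Subgroup.disjoint_def.1 (IsPGroup.disjoint_of_ne 2 3 (by norm_num) _ _ T.isPGroup' hker) hg h1
  have hzero : ∀ g k : C, g ∈ (T : Subgroup C) → k ∈ (T : Subgroup C) → f g = f k → g = k := fun g k hg hk e =>
    mul_inv_eq_one.1 (hinj _ (mul_mem hg (inv_mem hk)) (by rw [map_mul, map_inv, e, mul_inv_cancel]))
  refine ⟨T, x, y, T.isPGroup', hx, hy, hinj _ (mul_mem (mul_mem hx hx) (mul_mem hx hx)) ?_, ?_,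
    hzero _ _ (mul_mem hy hy) (mul_mem hx hx) ?_, hzero _ _ (mul_mem (mul_mem hy hx) (inv_mem hy)) (inv_mem hx) ?_⟩
  · simp only [map_mul]; rw [hxa]; exact ha
  · intro e
    apply ha2
    rw [← hxa, ← map_mul, e, map_one]
  · rw [map_mul, map_mul, hxa, hyb, hb]
  · rw [map_mul, map_mul, map_inv, map_inv, hxa, hyb, hab]

end Cfsg.Agent.Sp62Three31.One
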