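import Cfsg.Agent.Lib.Sp62Three31CaseOneLocal
import Cfsg.Agent.S3333
import Cfsg.Agent.Lib.PSpAmalgam31Nine

/-!
S3342, first branch: the class of the first sign meets `N(J)` in nine elements, and its centraliser
is either inside `N(J)` or is an extension of the symmetric group of degree six.
-/

set_option autoImplicit false
set_option maxRecDepth 100000
set_option Elab.async false

namespace Cfsg.Agent.Sp62Three31.One

open Equiv S9Model37 S9Base37 S9Branch37

theorem nine_card : Fintype.card {p : Par // Nine p} = 9 := by decide +kernel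

theorem small_w : Small wTri := by decide

theorem inv_a : pmul (pmul (belp (1, 1, 1)) (belp (1, 1, 1))) (belp (1, 1, 1)) = (1, fun _ => 1) ∧
    pmul (belp (1, 1, 1)) (belp (1, 1, 1)) = belp (2, 2, 2) := by decide +kernel

/-- A block transposition fixing the first block. -/
def tau23 : Par := (swap 1 2, fun _ => 1)

/-- The rotation of order four fixing the first block. -/
def xgen : Par := pmul (pd 1) tau23

/-- The dihedral group fixing the first block. -/
def dpar : DihedralGroup 4 → Par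
  | .r i => (pmul xgen)^[i.val] (1, fun _ => 1)
  | .sr i => pmul tau23 ((pmul xgen)^[i.val] (1, fun _ => 1))

theorem dpar_mul : ∀ a b : DihedralGroup 4, dpar (a * b) = pmul (dpar a) (dpar b) := by decide +kernel

theorem dpar_com : ∀ a : DihedralGroup 4, Com (dpar a) (pd 0) := by decide +kernel

/-- The power of the first sign. -/
def dpow (i : Fin 2) : Par := (1, fun x => if x = 0 then swap 0 1 ^ i.val else 1)

theorem dpar_inj : ∀ (a : DihedralGroup 4) (b c : Fin 3) (i : Fin 2),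
    dpar a = pmul (belp (0, b, c)) (dpow i) → a = 1 := by decide +kernel

theorem dpar_surj : ∀ p : Par, Com p (pd 0) → ∃ (a : DihedralGroup 4) (b c : Fin 3) (i : Fin 2),
    p = pmul (pmul (dpar a) (belp (0, b, c))) (dpow i) := by
  have h : (List.range 1296).all (fun x => !cc x 18 || decide (∃ (a : DihedralGroup 4) (b c : Fin 3) (i : Fin 2),
      x = cmul (cmul (enc (dpar a)) (cbel (0, b, c))) (18 * i.val))) = true := by decide +kernel
  have hd : ∀ i : Fin 2, enc (dpow i) = 18 * i.val := by decide +kernel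
  intro p hp
  have := all_par h p
  have e1 : cc (enc p) 18 = true := by rw [← cc_iff, enc_pd0] at hp; exact hp
  simp only [e1, Bool.not_true, Bool.false_or, decide_eq_true_eq] at this
  obtain ⟨a, b, c, i, e⟩ := this
  exact ⟨a, b, c, i, enc_inj (by rw [enc_mul, enc_mul, enc_bel, hd, e])⟩

theorem dpow_eq : dpow 0 = (1, fun _ => 1) ∧ dpow 1 = pd 0 := by decide +kernel

theorem pd_sq : pmul (pd 0) (pd 0) = (1, fun _ => 1) ∧ pd 0 ≠ (1, fun _ => 1) := by decide +kernel

universe u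

variable {G : Type u} [Group G] [Finite G] {S : Setup G} {F : S.Frame}

theorem d_sq : F.φ D1 * F.φ D1 = 1 := by
  rw [← (gens_E F).2.2.2.1, ← E_mul, pd_sq.1, E_one]

theorem d_ne : F.φ D1 ≠ 1 := fun h => pd_sq.2 ((E_eq_one F).1 ((gens_E F).2.2.2.1.trans h))

/-- No conjugate of the first sign centralises a small element alone in `J`. -/
theorem Hy.not_small (H : Hy F) {p : Par} {b : Tri} (hb : Small b) (hpb : Com p (belp b))
    (hline : ∀ c : Tri, Com p (belp c) →
      c = (0, 0, 0) ∨ belp c = belp b ∨ belp c = pmul (belp b) (belp b))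
    (g : G) : g * F.φ D1 * g⁻¹ ≠ E F p := by
  intro h
  classical
  set x := E F (belp b) with hx
  have hx3 : x ^ 3 = 1 := by
    rw [hx, pow_three, ← E_mul, ← E_mul, belp_cube, E_one]
  have hcomm : x * (g * F.φ D1 * g⁻¹) = g * F.φ D1 * g⁻¹ * x := by
    rw [h, hx]; exact ((com_iff F).2 hpb).symm
  obtain ⟨g', hg', he⟩ := H.move g hx3 hcomm
  have hin : ∀ e ∈ ED F, ∃ c : Tri, E F (belp c) = g' * e * g'⁻¹ ∧ Com p (belp c) := by
    intro e hee
    set q' := g' * e * g'⁻¹ with hq'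
    have h1 : q' * x = x * q' := by
      have hc : e * (g'⁻¹ * x * g') = g'⁻¹ * x * g' * e :=
        congrArg Subtype.val (S.hJcomm.is_comm.comm ⟨e, hee.1⟩ ⟨_, he.1⟩)
      calc g' * e * g'⁻¹ * x = g' * (e * (g'⁻¹ * x * g')) * g'⁻¹ := by group
        _ = g' * (g'⁻¹ * x * g' * e) * g'⁻¹ := by rw [hc]
        _ = x * (g' * e * g'⁻¹) := by group
    have h2 : q' * E F p = E F p * q' := by
      have hc := Subgroup.mem_centralizer_singleton_iff.1 hee.2
      rw [← h, ← hg', hq']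
      calc g' * e * g'⁻¹ * (g' * F.φ D1 * g'⁻¹) = g' * (e * F.φ D1) * g'⁻¹ := by group
        _ = g' * (F.φ D1 * e) * g'⁻¹ := by rw [hc]
        _ = _ := by group
    obtain ⟨q, hq⟩ := exists_E F (H.small hb h1)
    have hq3 : pmul q (pmul q q) = (1, fun _ => 1) := by
      apply E_inj F
      rw [E_one, E_mul, E_mul, hq, ← pow_three, hq', conj_pow, ED_cube hee, mul_one, mul_inv_cancel]
    have hbase : InBase q := by
      by_contra hnb
      exact three_small q hq3 hnb b hb ((com_iff F).1 (hq ▸ h1))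
    obtain ⟨c, rfl⟩ := hbase
    exact ⟨c, hq, ((com_iff F).1 (hq.symm ▸ h2)).symm⟩
  choose c hc hcp using hin
  let f : ED F → ({(1, fun _ => 1), belp b, pmul (belp b) (belp b)} : Finset Par) := fun e =>
    ⟨belp (c e.1 e.2), by
      simp only [Finset.mem_insert, Finset.mem_singleton]
      rcases hline _ (hcp e.1 e.2) with h0 | h0 | h0
      · exact Or.inl (by rw [h0, belp_zero])
      · exact Or.inr (Or.inl h0)
      · exact Or.inr (Or.inr h0)⟩
  have hf : Function.Injective f := by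
    intro e e' he'
    have h0 := congrArg (fun z => E F z.1) he'
    simp only [f] at h0
    rw [hc e.1 e.2, hc e'.1 e'.2] at h0
    exact Subtype.ext (by simpa using h0)
  have := Nat.card_le_card_of_injective f hf
  rw [card_ED, Nat.card_eq_fintype_card, Fintype.card_coe] at this
  have h3 : ({(1, fun _ => 1), belp b, pmul (belp b) (belp b)} : Finset Par).card ≤ 3 := Finset.card_le_three
  omega

theorem psgn_sq : ∀ s : Fin 2 × Fin 2 × Fin 2, pmul (psgn s) (psgn s) = (1, fun _ => 1) := by decide +kernel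

/-- Membership in the class, inside `N(J)`. -/
theorem Hy.nine (H : Hy F) {p : Par} (g : G) (h : g * F.φ D1 * g⁻¹ = E F p) : Nine p := by
  have hp1 : p ≠ (1, fun _ => 1) := fun e => d_ne (F := F) (by
    rw [(E_eq_one F).2 e] at h
    exact conj_eq_one_iff.1 h)
  have hp2 : pmul p p = (1, fun _ => 1) := E_inj F (by
    rw [E_mul, ← h, E_one]
    calc g * F.φ D1 * g⁻¹ * (g * F.φ D1 * g⁻¹) = g * (F.φ D1 * F.φ D1) * g⁻¹ := by group
      _ = 1 := by rw [d_sq, mul_one, mul_inv_cancel])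
  rcases invol_cases p hp2 hp1 with h1 | ⟨b, hb, hpb⟩ | ⟨b, hb, hpb, hl⟩ | ⟨c, hc⟩
  · exact h1
  · exfalso
    obtain ⟨s, hs⟩ := full_conj b hb
    set u := E F (psgn s) with hu
    have e : u * S.a = E F (belp b) * u := by
      rw [hu, ← E_a F, ← E_mul, ← E_mul, hs]
    have hc := comm_conj e ((com_iff F).2 hpb)
    refine H.not_commute_a (u⁻¹ * g) ?_
    rw [show u⁻¹ * g * F.φ D1 * (u⁻¹ * g)⁻¹ = u⁻¹ * (g * F.φ D1 * g⁻¹) * u by group, h]
    exact hc.symm
  · exact absurd h (H.not_small hb hpb hl g)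
  · exfalso
    obtain ⟨-, -, hr, -, -, -, -, hia, -⟩ := rot_facts
    obtain ⟨k, hk, hkr⟩ := H.rot_conj
    set v := E F (belp c) with hv
    set δ := E F p123 with hδ
    have hd : (v⁻¹ * g) * F.φ D1 * (v⁻¹ * g)⁻¹ = δ := by
      rw [show v⁻¹ * g * F.φ D1 * (v⁻¹ * g)⁻¹ = v⁻¹ * (g * F.φ D1 * g⁻¹) * v by group, h, hv, mul_assoc,
        ← E_mul, ← hc, E_mul, inv_mul_cancel_left]
    have hcomm : δ * E F prot = E F prot * δ := (com_iff F).2 hr.symm
    have hi' : k⁻¹ * δ * k * E F (belp wTri) = E F (belp wTri) * (k⁻¹ * δ * k) :=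
      comm_conj (u := k) (by rw [← hkr]; group) hcomm
    obtain ⟨q, hq⟩ := exists_E F (H.small small_w hi')
    have hka : k * S.a = S.a * k := mem_C_iff.1 hk
    have hka' : k⁻¹ * S.a = S.a * k⁻¹ := (show Commute k S.a from hka).inv_left.eq
    have hqa : pmul q (belp (1, 1, 1)) = pmul (belp (2, 2, 2)) q := by
      apply E_inj F
      rw [E_mul, E_mul, hq, E_a, ← inv_a.2, E_mul, E_a]
      have hδa : δ * S.a = S.a * S.a * δ := by
        rw [hδ, ← E_a F, ← E_mul, ← E_mul, inv_a.2, ← E_mul, hia]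
      calc k⁻¹ * δ * k * S.a = k⁻¹ * (δ * S.a) * k := by rw [mul_assoc (k⁻¹ * δ), hka]; group
        _ = k⁻¹ * S.a * (S.a * δ) * k := by rw [hδa]; group
        _ = S.a * (k⁻¹ * S.a) * δ * k := by conv_lhs => rw [hka']
                                            group
        _ = S.a * S.a * (k⁻¹ * δ * k) := by rw [hka']; group
    have hqw : Com q (belp wTri) := (com_iff F).1 (hq ▸ hi')
    have hq2 : pmul q q = (1, fun _ => 1) := E_inj F (by
      rw [E_mul, hq, E_one]
      calc k⁻¹ * δ * k * (k⁻¹ * δ * k) = k⁻¹ * (δ * δ) * k := by group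
        _ = 1 := by
          rw [← hd, show v⁻¹ * g * F.φ D1 * (v⁻¹ * g)⁻¹ * (v⁻¹ * g * F.φ D1 * (v⁻¹ * g)⁻¹) =
            v⁻¹ * g * (F.φ D1 * F.φ D1) * (v⁻¹ * g)⁻¹ by group, d_sq]
          group)
    refine H.not_small small_w hqw (inv_w q hqw hq2 hqa) (k⁻¹ * (v⁻¹ * g)) ?_
    rw [hq, ← hd]
    group

/-- The class of the first sign meets `N(J)` in nine elements. -/
theorem Hy.card_class (H : Hy F) :
    Nat.card {i : G // i ∈ Subgroup.normalizer (S.J : Set G) ∧ ∃ h : G, h⁻¹ * F.φ D1 * h = i} = 9 := by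
  refine Eq.trans ?_ nine_card
  rw [← Nat.card_eq_fintype_card]
  refine (Nat.card_congr (Equiv.ofBijective (fun p : {p : Par // Nine p} =>
    (⟨E F p.1, E_mem F _, ?_⟩ : {i : G // i ∈ Subgroup.normalizer (S.J : Set G) ∧
      ∃ h : G, h⁻¹ * F.φ D1 * h = i})) ⟨fun p q e => Subtype.ext (E_inj F (congrArg Subtype.val e)), ?_⟩)).symm
  · obtain ⟨π, c, e⟩ := nine_conj p.1 p.2
    refine ⟨(E F (pmul (π, fun _ => 1) (belp c)))⁻¹, ?_⟩
    rw [inv_inv, ← (gens_E F).2.2.2.1, ← E_mul, e, E_mul, mul_inv_cancel_right]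
  · rintro ⟨i, hi, h, hh⟩
    obtain ⟨p, rfl⟩ := exists_E F hi
    exact ⟨⟨p, H.nine h⁻¹ (by rwa [inv_inv])⟩, rfl⟩

/-- The centraliser of the first sign. -/
theorem Hy.cent_cases (H : Hy F) :
    Nat.card (Subgroup.centralizer ({F.φ D1} : Set G)) = 144 ∨
      (Nat.card (Subgroup.centralizer ({F.φ D1} : Set G)) = 1440 ∧
        ∃ f : ↥(Subgroup.centralizer ({F.φ D1} : Set G)) →* Equiv.Perm (Fin 6),
          f.ker = (Subgroup.zpowers (F.φ D1)).subgroupOf _) := by
  classical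
  haveI : Fact (Nat.Prime 3) := ⟨Nat.prime_three⟩
  set d := F.φ D1 with hd
  set C := Subgroup.centralizer ({d} : Set G) with hC
  set Z := (Subgroup.zpowers d).subgroupOf C with hZ
  have hdE : E F (pd 0) = d := (gens_E F).2.2.2.1
  haveI : Z.Normal := ⟨fun z hz c => by
    obtain ⟨k, hk⟩ := Subgroup.mem_zpowers_iff.1 (Subgroup.mem_subgroupOf.1 hz)
    have hc : Commute (c : G) d := Subgroup.mem_centralizer_singleton_iff.1 c.2
    have : c * z * c⁻¹ = z := Subtype.ext (by
      show (c : G) * (z : G) * (c : G)⁻¹ = z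
      rw [← hk, (hc.zpow_right k).eq, mul_inv_cancel_right])
    rwa [this]⟩
  have hzc : ∀ z : C, z ∈ Z ↔ ((z : G) = 1 ∨ (z : G) = d) := by
    intro z
    rw [hZ, Subgroup.mem_subgroupOf]
    refine ⟨fun h => ?_, fun h => ?_⟩
    · obtain ⟨k, hk⟩ := Subgroup.mem_zpowers_iff.1 h
      rw [← hk]
      rcases Int.even_or_odd k with ⟨m, rfl⟩ | ⟨m, rfl⟩
      · left; rw [zpow_add, ← (Commute.refl d).mul_zpow, d_sq, one_zpow]
      · right; rw [zpow_add_one, two_mul, zpow_add, ← (Commute.refl d).mul_zpow, d_sq, one_zpow, one_mul]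
    · rcases h with h | h <;> rw [h]
      · exact one_mem _
      · exact Subgroup.mem_zpowers d
  let π : C →* C ⧸ Z := QuotientGroup.mk' Z
  set E1 := (ED F).subgroupOf C with hE1
  have hE1card : Nat.card E1 = 9 := by
    rw [hE1, Nat.card_congr (Subgroup.subgroupOfEquivOfLe (show ED F ≤ C from inf_le_right)).toEquiv, card_ED]
  -- equality modulo `Z` of elements of order three is equality
  have lift : ∀ x y : C, (x : G) ^ 3 = 1 → (y : G) ^ 3 = 1 → π x = π y → x = y := by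
    intro x y hx hy e
    have hm : y⁻¹ * x ∈ Z := by
      rw [← QuotientGroup.eq]; exact e.symm
    rcases (hzc _).1 hm with h | h
    · exact Subtype.ext (inv_mul_eq_one.1 h).symm
    · exfalso
      have e2 : (x : G) = y * d := by rw [← h]; simp
      have hyd : Commute (y : G) d := Subgroup.mem_centralizer_singleton_iff.1 y.2
      rw [e2, hyd.mul_pow, hy, one_mul, pow_succ, sq, d_sq, one_mul] at hx
      exact d_ne hx
  set T := E1.map π with hT
  have hTcard : Nat.card T = 9 := by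
    rw [← hE1card]
    refine (Nat.card_congr (Equiv.ofBijective (fun x : E1 => (⟨π x.1, Subgroup.mem_map_of_mem _ x.2⟩ : T)) ⟨?_, ?_⟩)).symm
    · exact fun x y e => Subtype.ext (lift _ _ (ED_cube x.2) (ED_cube y.2) (congrArg Subtype.val e))
    · rintro ⟨_, x, hx, rfl⟩; exact ⟨⟨x, hx⟩, rfl⟩
  have hidx : ¬ 3 ∣ T.index := fun h => H.ED_index (h.trans (E1.index_map_dvd (QuotientGroup.mk'_surjective Z)))
  obtain ⟨P, hP⟩ := (IsPGroup.of_card (p := 3) (n := 2) (by rw [hTcard]; norm_num : Nat.card T = 3 ^ 2)).exists_le_sylow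
  have hPT : (P : Subgroup (C ⧸ Z)) = T := by
    refine (Subgroup.eq_of_le_of_card_ge hP ?_).symm
    obtain ⟨n, hn⟩ := P.2.exists_card_eq
    rw [hn, hTcard]
    have h1 := P.1.card_mul_index
    rw [← T.card_mul_index, hn, hTcard] at h1
    have hn2 : n ≤ 2 := by
      by_contra hlt
      obtain ⟨m, rfl⟩ : ∃ m, n = 3 + m := ⟨n - 3, by omega⟩
      rw [pow_add] at h1
      exact hidx ⟨3 ^ m * (P : Subgroup (C ⧸ Z)).index, by nlinarith⟩
    calc 3 ^ n ≤ 3 ^ 2 := Nat.pow_le_pow_right (by norm_num) hn2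
      _ = 9 := rfl
  -- conjugation modulo `Z` lifts
  have hconj : ∀ (g x : C), (x : G) ∈ ED F → π g * π x * (π g)⁻¹ ∈ T → (g : G) * x * (g : G)⁻¹ ∈ ED F := by
    intro g x hx hm
    obtain ⟨y, hy, hye⟩ := hm
    have := lift (g * x * g⁻¹) y (by
      show ((g : G) * x * (g : G)⁻¹) ^ 3 = 1
      rw [conj_pow, ED_cube hx, mul_one, mul_inv_cancel]) (ED_cube hy) (by rw [map_mul, map_mul, map_inv, hye])
    have e2 : (g : G) * x * (g : G)⁻¹ = (y : G) := congrArg Subtype.val this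
    rw [e2]; exact hy
  have he12 : E F (belp (0, 1, 0)) ∈ ED F ∧ E F (belp (0, 0, 1)) ∈ ED F :=
    ⟨(mem_ED F).2 ⟨1, 0, rfl⟩, (mem_ED F).2 ⟨0, 1, rfl⟩⟩
  have hpc : belp (0, 1, 0) = pc 1 ∧ belp (0, 0, 1) = pc 2 ∧ belp (0, 1, 0) ≠ (1, fun _ => 1) := by decide +kernel
  have hloc2 : ∀ g : G, g * E F (belp (0, 1, 0)) = E F (belp (0, 1, 0)) * g →
      g ∈ Subgroup.normalizer (S.J : Set G) :=
    fun g hg => H.ED_local he12.1 (fun e => hpc.2.2 ((E_eq_one F).1 e)) hg
  -- normaliser of `T`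
  have hnorm : ∀ g : C, π g ∈ Subgroup.normalizer (T : Set (C ⧸ Z)) → (g : G) ∈ Subgroup.normalizer (S.J : Set G) := by
    intro g hg
    have hsub : ∀ x ∈ ED F, (g : G) * x * (g : G)⁻¹ ∈ ED F := fun x hx =>
      hconj g ⟨x, (inf_le_right : ED F ≤ C) hx⟩ hx
        ((Subgroup.mem_normalizer_iff.1 hg _).1 (Subgroup.mem_map_of_mem π (show (⟨x, _⟩ : C) ∈ E1 from hx)))
    let f : ED F → ED F := fun x => ⟨_, hsub x.1 x.2⟩
    have hf : Function.Surjective f := (Finite.injective_iff_surjective).1 fun x y e =>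
      Subtype.ext (by simpa [f] using congrArg Subtype.val e)
    refine PSpAmalgam31.mem_normalizer_of_maps fun j hj => ?_
    have hc : ∀ x ∈ ED F, (g : G) * j * (g : G)⁻¹ * x = x * ((g : G) * j * (g : G)⁻¹) := by
      intro x hx
      obtain ⟨⟨y, hy⟩, e⟩ := hf ⟨x, hx⟩
      have e' : (g : G) * y * (g : G)⁻¹ = x := congrArg Subtype.val e
      have hjy : j * y = y * j := congrArg Subtype.val (S.hJcomm.is_comm.comm ⟨j, hj⟩ ⟨y, hy.1⟩)
      rw [← e']
      calc (g : G) * j * (g : G)⁻¹ * ((g : G) * y * (g : G)⁻¹) = (g : G) * (j * y) * (g : G)⁻¹ := by group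
        _ = (g : G) * (y * j) * (g : G)⁻¹ := by rw [hjy]
        _ = _ := by group
    have c1 := hc _ he12.1
    have c2 := hc _ he12.2
    obtain ⟨p, hp⟩ := exists_E F (hloc2 _ c1)
    rw [← hp, com_iff, hpc.1] at c1
    rw [← hp, com_iff, hpc.2.1] at c2
    rw [← hp]
    refine (inBase_iff F).2 (cent_J p c1 c2 (E_inj F ?_))
    rw [E_one, E_mul, E_mul, hp, ← pow_three, conj_pow, S.hJexp j hj, mul_one, mul_inv_cancel]
  have hnormE : ∀ g : C, (g : G) ∈ Subgroup.normalizer (S.J : Set G) → π g ∈ Subgroup.normalizer (T : Set (C ⧸ Z)) := by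
    intro g hg
    obtain ⟨p, hp⟩ := exists_E F hg
    have hcp : Com p (pd 0) := (com_iff F).1 (by rw [hp, hdE]; exact Subgroup.mem_centralizer_singleton_iff.1 g.2)
    refine PSpAmalgam31.mem_normalizer_of_maps ?_
    rintro _ ⟨x, hx, rfl⟩
    obtain ⟨b, c, e⟩ := (mem_ED F).1 hx
    obtain ⟨b', c', e'⟩ := norm_E p hcp b c
    refine ⟨g * x * g⁻¹, (mem_ED F).2 ⟨b', c', ?_⟩, by rw [map_mul, map_mul, map_inv]⟩
    show E F (belp (0, b', c')) = (g : G) * (x : G) * (g : G)⁻¹
    rw [eq_mul_inv_iff_mul_eq, ← hp]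
    change E F (belp (0, b', c')) * E F p = E F p * (x : G)
    rw [show (x : G) = E F (belp (0, b, c)) from e.symm, ← E_mul, ← E_mul, e']
  -- self centralising
  have hself : Subgroup.centralizer (T : Set (C ⧸ Z)) = T := by
    refine le_antisymm (fun k hk => ?_) (fun k hk => Subgroup.mem_centralizer_iff.2 fun t ht => ?_)
    · obtain ⟨g, rfl⟩ := QuotientGroup.mk'_surjective Z k
      have hfix : ∀ x, ∀ hx : x ∈ ED F, (g : G) * x = x * g := by
        intro x hx
        have h1 := Subgroup.mem_centralizer_iff.1 hk (π ⟨x, (inf_le_right : ED F ≤ C) hx⟩) (Subgroup.mem_map_of_mem π hx)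
        have h2 : π (g * ⟨x, (inf_le_right : ED F ≤ C) hx⟩ * g⁻¹) = π ⟨x, (inf_le_right : ED F ≤ C) hx⟩ := by
          rw [map_mul, map_mul, map_inv, show π g = QuotientGroup.mk' Z g from rfl, ← h1, mul_inv_cancel_right]
        have h3 := congrArg Subtype.val (lift _ _ (by
          show ((g : G) * x * (g : G)⁻¹) ^ 3 = 1
          rw [conj_pow, ED_cube hx, mul_one, mul_inv_cancel]) (ED_cube hx) h2)
        exact mul_inv_eq_iff_eq_mul.1 h3
      obtain ⟨p, hp⟩ := exists_E F (hloc2 _ (hfix _ he12.1))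
      have c1 := hfix _ he12.1
      have c2 := hfix _ he12.2
      rw [← hp, com_iff, hpc.1] at c1
      rw [← hp, com_iff, hpc.2.1] at c2
      obtain ⟨b, c, i, hpe⟩ := cent_E p ((com_iff F).1 (by rw [hp, hdE]; exact Subgroup.mem_centralizer_singleton_iff.1 g.2)) c1 c2
      set x : C := ⟨E F (belp (0, b, c)), (inf_le_right : ED F ≤ C) ((mem_ED F).2 ⟨b, c, rfl⟩)⟩
      refine ⟨x, (mem_ED F).2 ⟨b, c, rfl⟩, ?_⟩
      refine QuotientGroup.eq.2 ((hzc _).2 ?_)
      show (x : G)⁻¹ * (g : G) = 1 ∨ (x : G)⁻¹ * (g : G) = d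
      rw [← hp, hpe]
      change (E F (belp (0, b, c)))⁻¹ * E F (pmul (belp (0, b, c)) (dpow i)) = 1 ∨
        (E F (belp (0, b, c)))⁻¹ * E F (pmul (belp (0, b, c)) (dpow i)) = d
      rw [E_mul, inv_mul_cancel_left]
      fin_cases i
      · left; exact (E_eq_one F).2 dpow_eq.1
      · right; rw [← hdE]; exact congrArg (E F) dpow_eq.2
    · obtain ⟨x, hx, rfl⟩ := hk
      obtain ⟨y, hy, rfl⟩ := ht
      rw [← map_mul, ← map_mul]
      exact congrArg π (Subtype.ext (show (y : G) * (x : G) = (x : G) * (y : G) from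
        congrArg Subtype.val (S.hJcomm.is_comm.comm ⟨(y : G), hy.1⟩ ⟨(x : G), hx.1⟩)))
  -- local centralisers
  have hloc : ∀ x ∈ T, x ≠ 1 → Subgroup.centralizer ({x} : Set (C ⧸ Z)) ≤ Subgroup.normalizer (T : Set (C ⧸ Z)) := by
    rintro _ ⟨x, hx, rfl⟩ hx1 k hk
    obtain ⟨g, rfl⟩ := QuotientGroup.mk'_surjective Z k
    have h1 := Subgroup.mem_centralizer_singleton_iff.1 hk
    have h3 := congrArg Subtype.val (lift (g * x * g⁻¹) x (by
      show ((g : G) * x * (g : G)⁻¹) ^ 3 = 1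
      rw [conj_pow, (ED_cube hx : (x : G) ^ 3 = 1), mul_one, mul_inv_cancel]) (ED_cube hx)
      (by rw [map_mul, map_mul, map_inv, show π g = QuotientGroup.mk' Z g from rfl, h1, mul_inv_cancel_right]))
    exact hnormE g (H.ED_local hx (fun e => hx1 (by rw [show x = 1 from Subtype.ext e, map_one])) (mul_inv_eq_iff_eq_mul.1 h3))
  -- the dihedral quotient
  set NT := Subgroup.normalizer (T : Set (C ⧸ Z))
  haveI : (T.subgroupOf NT).Normal := Subgroup.normal_in_normalizer
  have hdp : ∀ a, E F (dpar a) ∈ C := fun a => Subgroup.mem_centralizer_singleton_iff.2 (by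
    rw [← hdE]; exact (com_iff F).2 (dpar_com a))
  let g0 : DihedralGroup 4 →* C := MonoidHom.mk' (fun a => ⟨E F (dpar a), hdp a⟩) fun a b =>
    Subtype.ext (by show E F (dpar (a * b)) = _; rw [dpar_mul, E_mul]; rfl)
  let g1 : DihedralGroup 4 →* NT := (π.comp g0).codRestrict NT fun a => hnormE _ (E_mem F _)
  let g2 : DihedralGroup 4 →* NT ⧸ T.subgroupOf NT := (QuotientGroup.mk' _).comp g1
  have hinj : Function.Injective g2 := by
    rw [injective_iff_map_eq_one]
    intro a ha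
    have hm : π (g0 a) ∈ T := Subgroup.mem_subgroupOf.1 ((QuotientGroup.eq_one_iff _).1 ha)
    obtain ⟨x, hx, hxe⟩ := hm
    obtain ⟨b, c, hbc⟩ := (mem_ED F).1 hx
    have hm2 : x⁻¹ * g0 a ∈ Z := QuotientGroup.eq.1 hxe
    rcases (hzc _).1 hm2 with h | h
    · refine dpar_inj a b c 0 (E_inj F ?_)
      rw [E_mul, dpow_eq.1, E_one, mul_one, hbc]
      exact (inv_mul_eq_one.1 h).symm
    · refine dpar_inj a b c 1 (E_inj F ?_)
      rw [E_mul, dpow_eq.2, hdE, hbc]
      exact eq_mul_of_inv_mul_eq h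
  have hsurj : Function.Surjective g2 := by
    intro y
    obtain ⟨⟨k, hk⟩, rfl⟩ := QuotientGroup.mk'_surjective _ y
    obtain ⟨g, rfl⟩ := QuotientGroup.mk'_surjective Z k
    obtain ⟨p, hp⟩ := exists_E F (hnorm g hk)
    obtain ⟨a, b, c, i, hpe⟩ := dpar_surj p ((com_iff F).1 (by rw [hp, hdE]; exact Subgroup.mem_centralizer_singleton_iff.1 g.2))
    refine ⟨a, QuotientGroup.eq.2 (Subgroup.mem_subgroupOf.2 ?_)⟩
    set x : C := ⟨E F (belp (0, b, c)), (inf_le_right : ED F ≤ C) ((mem_ED F).2 ⟨b, c, rfl⟩)⟩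
    refine ⟨x, (mem_ED F).2 ⟨b, c, rfl⟩, ?_⟩
    change π x = (π (g0 a))⁻¹ * π g
    rw [← map_inv, ← map_mul]
    refine QuotientGroup.eq.2 ((hzc _).2 ?_)
    show (x : G)⁻¹ * ((E F (dpar a))⁻¹ * (g : G)) = 1 ∨ (x : G)⁻¹ * ((E F (dpar a))⁻¹ * (g : G)) = d
    rw [← hp, hpe]
    change (E F (belp (0, b, c)))⁻¹ * ((E F (dpar a))⁻¹ * E F (pmul (pmul (dpar a) (belp (0, b, c))) (dpow i))) = 1 ∨
      (E F (belp (0, b, c)))⁻¹ * ((E F (dpar a))⁻¹ * E F (pmul (pmul (dpar a) (belp (0, b, c))) (dpow i))) = d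
    rw [E_mul, E_mul, mul_assoc (E F (dpar a)), inv_mul_cancel_left, inv_mul_cancel_left]
    fin_cases i
    · left; exact (E_eq_one F).2 dpow_eq.1
    · right; rw [← hdE]; exact congrArg (E F) dpow_eq.2
  rcases S3333.result P T hPT.symm hTcard hself (MulEquiv.ofBijective g2 ⟨hinj, hsurj⟩).symm hloc with hn | ⟨⟨e⟩⟩
  · left
    rw [← card_local_cent (F := F)]
    refine congrArg (fun K : Subgroup G => Nat.card K) (le_antisymm (fun g hg => ⟨hnorm ⟨g, hg⟩ ?_, hg⟩) inf_le_right)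
    show _ ∈ Subgroup.normalizer (T : Set (C ⧸ Z))
    rw [Subgroup.normalizer_eq_top_iff.2 hn]
    trivial
  · refine Or.inr ⟨?_, e.toMonoidHom.comp π, ?_⟩
    · have h1 := Subgroup.card_eq_card_quotient_mul_card_subgroup Z
      rw [Nat.card_congr e.toEquiv, Nat.card_perm, Nat.card_fin, hZ,
        Nat.card_congr (Subgroup.subgroupOfEquivOfLe (show Subgroup.zpowers d ≤ C from
          Subgroup.zpowers_le.2 (Subgroup.mem_centralizer_singleton_iff.2 rfl))).toEquiv, Nat.card_zpowers,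
        orderOf_eq_prime (by rw [sq, hd]; exact d_sq) (by rw [hd]; exact d_ne)] at h1
      rw [h1]; rfl
    · ext x
      simp [MonoidHom.mem_ker, π]

end Cfsg.Agent.Sp62Three31.One
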