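import Mathlib
import Cfsg.Agent.Lib.S9Branch37

/-!
Coordinates and finite checks in `S₃ ≀ S₃` for the first branch of S3342.
-/

set_option autoImplicit false
set_option maxRecDepth 100000
set_option Elab.async false
set_option synthInstance.maxSize 4000

namespace Cfsg.Agent.Sp62Three31.One

open Equiv S9Model37 S9Base37 S9Branch37

theorem par_fst_mem : ∀ π : Equiv.Perm (Fin 3), ∃ i : Fin 3, ∃ j : Fin 2,
    toP9 (π, fun _ => 1) = rot ^ i.val * tau ^ j.val := by decide +kernel

theorem par_single_mem : ∀ (q : Fin 3) (σ : Equiv.Perm (Fin 3)), ∃ i : Fin 3, ∃ j : Fin 2,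
    toP9 (1, fun x => if x = q then σ else 1) =
      toP9 (pc q) ^ i.val * toP9 (pd q) ^ j.val := by decide +kernel

theorem pc_pd_mem (q : Fin 3) : toP9 (pc q) ∈ W ∧ toP9 (pd q) ∈ W := by
  obtain ⟨e1, e2, e3, e4, e5, e6, -, -⟩ := gens_eq
  match q with
  | 0 => exact ⟨e1 ▸ C1.2, e4 ▸ D1.2⟩
  | 1 => exact ⟨e2 ▸ C2.2, e5 ▸ D2.2⟩
  | 2 => exact ⟨e3 ▸ C3.2, e6 ▸ D3.2⟩

theorem toP9_mem (p : Par) : toP9 p ∈ W := by
  obtain ⟨π, f⟩ := p
  have h : ((π, f) : Par) = pmul (π, fun _ => 1) (pmul (1, fun x => if x = 0 then f 0 else 1)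
      (pmul (1, fun x => if x = 1 then f 1 else 1) (1, fun x => if x = 2 then f 2 else 1))) := by
    refine Prod.ext (by simp [pmul]) (funext fun q => ?_)
    fin_cases q <;> simp [pmul]
  have hs : ∀ q, toP9 (1, fun x => if x = q then f q else 1) ∈ W := fun q => by
    obtain ⟨i, j, e⟩ := par_single_mem q (f q)
    exact e ▸ mul_mem (pow_mem (pc_pd_mem q).1 _) (pow_mem (pc_pd_mem q).2 _)
  obtain ⟨i, j, e⟩ := par_fst_mem π
  rw [h, ← toP9_mul, ← toP9_mul, ← toP9_mul]
  exact mul_mem (e ▸ mul_mem (pow_mem Rot.2 _) (pow_mem Tau.2 _)) (mul_mem (hs 0) (mul_mem (hs 1) (hs 2)))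

/-- The element with given coordinates. -/
def elP (p : Par) : W := ⟨toP9 p, toP9_mem p⟩

theorem elP_mul (a b : Par) : elP (pmul a b) = elP a * elP b := Subtype.ext (toP9_mul a b).symm

theorem elP_one : elP (1, fun _ => 1) = 1 := Subtype.ext toP9_one

theorem elP_bijective : Function.Bijective elP := by
  refine ⟨fun a b e => toP9_inj (congrArg Subtype.val e), fun u => ?_⟩
  obtain ⟨a, ha⟩ := mem_W u.2
  exact ⟨a, Subtype.ext ha⟩

theorem card_W : Nat.card W = 1296 := by
  rw [← Nat.card_congr (Equiv.ofBijective elP elP_bijective)]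
  simp [Nat.card_eq_fintype_card, Fintype.card_perm, Nat.factorial]

/-- Triples. -/
abbrev Tri := Fin 3 × Fin 3 × Fin 3

/-- Inside the base. -/
abbrev InBase (p : Par) : Prop := ∃ c : Tri, p = belp c

/-- Commuting. -/
abbrev Com (p q : Par) : Prop := pmul p q = pmul q p

/-- Weight at most two and non-trivial. -/
abbrev Small (b : Tri) : Prop := b ≠ (0, 0, 0) ∧ (b.1 = 0 ∨ b.2.1 = 0 ∨ b.2.2 = 0)

/-- Weight three. -/
abbrev Full (b : Tri) : Prop := b.1 ≠ 0 ∧ b.2.1 ≠ 0 ∧ b.2.2 ≠ 0

/-- A sign vector. -/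
def psgn (s : Fin 2 × Fin 2 × Fin 2) : Par :=
  (1, ![swap 0 1 ^ s.1.val, swap 0 1 ^ s.2.1.val, swap 0 1 ^ s.2.2.val])

/-- The nine conjugates of the first sign. -/
abbrev Nine (p : Par) : Prop := ∃ q : Fin 3, ∃ σ ∈ [swap (0 : Fin 3) 1, swap 1 2, swap 0 2],
  p = (1, fun x => if x = q then σ else 1)

/-- The product of the three signs. -/
abbrev p123 : Par := pd123

/-- The weight-two element `e₁ e₂⁻¹`. -/
abbrev wTri : Tri := (1, 2, 0)

/-! Numeric coordinates: every finite check below runs on natural numbers. -/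

/-- The six permutations of three letters. -/
def p6 (i : ℕ) : Equiv.Perm (Fin 3) :=
  if i = 1 then cyc else if i = 2 then cyc * cyc else if i = 3 then swap 0 1
  else if i = 4 then swap 0 1 * cyc else if i = 5 then swap 0 1 * cyc * cyc else 1

/-- Product table. -/
def m6 (i j : ℕ) : ℕ := (11128003707083744395924230030984 >>> (3 * (6 * i + j))) &&& 7

/-- Action table. -/
def ap (i q : ℕ) : ℕ := (6853829220 >>> (2 * (3 * i + q))) &&& 3

/-- The index of a permutation of three letters. -/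
def idx (π : Equiv.Perm (Fin 3)) : ℕ := (11044608 >>> (3 * (3 * (π 0).val + (π 1).val))) &&& 7

theorem idx_spec : ∀ π : Equiv.Perm (Fin 3), p6 (idx π) = π ∧ idx π < 6 ∧
    (∀ q : Fin 3, ap (idx π) q.val = (π q).val) ∧ ∀ ρ, idx (π * ρ) = m6 (idx π) (idx ρ) := by decide +kernel

theorem idx_lt (π : Equiv.Perm (Fin 3)) : idx π < 6 := (idx_spec π).2.1

/-- The code of a point. -/
def enc (p : Par) : ℕ := idx p.1 + 6 * idx (p.2 0) + 36 * idx (p.2 1) + 216 * idx (p.2 2)

/-- A digit of a code. -/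
def dig (c q : ℕ) : ℕ := c / (if q = 0 then 6 else if q = 1 then 36 else 216) % 6

/-- The product of codes. -/
def cmul (a b : ℕ) : ℕ :=
  m6 (a % 6) (b % 6) + 6 * m6 (dig a (ap (b % 6) 0)) (dig b 0) +
    36 * m6 (dig a (ap (b % 6) 1)) (dig b 1) + 216 * m6 (dig a (ap (b % 6) 2)) (dig b 2)

theorem enc_lt (p : Par) : enc p < 1296 := by
  have := idx_lt p.1; have := idx_lt (p.2 0); have := idx_lt (p.2 1); have := idx_lt (p.2 2)
  simp only [enc]; omega

theorem enc_mod (p : Par) : enc p % 6 = idx p.1 := by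
  have := idx_lt p.1
  simp only [enc]; omega

theorem dig_enc (p : Par) (q : Fin 3) : dig (enc p) q.val = idx (p.2 q) := by
  have := idx_lt p.1; have := idx_lt (p.2 0); have := idx_lt (p.2 1); have := idx_lt (p.2 2)
  fin_cases q <;> simp [dig, enc] <;> omega

theorem enc_mul (a b : Par) : enc (pmul a b) = cmul (enc a) (enc b) := by
  obtain ⟨-, -, hap, -⟩ := idx_spec b.1
  have key : ∀ q : Fin 3, dig (enc a) (ap (enc b % 6) q.val) = idx (a.2 (b.1 q)) := fun q => by
    rw [enc_mod, hap, dig_enc]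
  have k0 := key 0; have k1 := key 1; have k2 := key 2
  have d0 := dig_enc b 0; have d1 := dig_enc b 1; have d2 := dig_enc b 2
  simp only [Fin.val_zero, Fin.val_one, Fin.val_two] at k0 k1 k2 d0 d1 d2
  rw [cmul, k0, k1, k2, d0, d1, d2, enc_mod, enc_mod]
  simp only [enc, pmul, (idx_spec _).2.2.2]

theorem enc_inj {p q : Par} (h : enc p = enc q) : p = q := by
  have e : ∀ π ρ, idx π = idx ρ → π = ρ := fun π ρ e => by
    rw [← (idx_spec π).1, ← (idx_spec ρ).1, e]
  refine Prod.ext (e _ _ (by rw [← enc_mod, h, enc_mod])) (funext fun x => e _ _ ?_)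
  rw [← dig_enc, h, dig_enc]

theorem enc_eq_iff {p q : Par} : p = q ↔ enc p = enc q := ⟨fun e => e ▸ rfl, enc_inj⟩

theorem com_code {p q : Par} : Com p q ↔ cmul (enc p) (enc q) = cmul (enc q) (enc p) := by
  rw [← enc_mul, ← enc_mul, ← enc_eq_iff]

/-- The code of a base element. -/
def cbel (b : Tri) : ℕ := 6 * b.1.val + 36 * b.2.1.val + 216 * b.2.2.val

theorem enc_bel : ∀ b, enc (belp b) = cbel b := by decide +kernel

theorem enc_pd : ∀ q : Fin 3, enc (pd q) = 3 * 6 ^ (q.val + 1) ∧ enc (pc q) = 6 ^ (q.val + 1) := by decide +kernel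

theorem enc_pd0 : enc (pd 0) = 18 := by decide +kernel

theorem enc_pc1 : enc (pc 1) = 36 := by decide +kernel

theorem enc_pc2 : enc (pc 2) = 216 := by decide +kernel

theorem enc_one : enc (1, fun _ => 1) = 0 := by decide +kernel

theorem enc_123 : enc p123 = 774 := by decide +kernel

/-- The codes of the nine conjugates. -/
def nineL : List ℕ := [18, 24, 30, 108, 144, 180, 648, 864, 1080]

theorem enc_nine : ∀ q : Fin 3, ∀ σ ∈ [swap (0 : Fin 3) 1, swap 1 2, swap 0 2],
    enc (1, fun x => if x = q then σ else 1) ∈ nineL := by decide +kernel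

theorem mem_nine : ∀ n ∈ nineL, ∃ q : Fin 3, ∃ σ ∈ [swap (0 : Fin 3) 1, swap 1 2, swap 0 2],
    n = enc (1, fun x => if x = q then σ else 1) := by decide +kernel

theorem nine_iff {p : Par} : Nine p ↔ enc p ∈ nineL := by
  refine ⟨fun ⟨q, σ, hσ, e⟩ => e ▸ enc_nine q σ hσ, fun h => ?_⟩
  obtain ⟨q, σ, hσ, e⟩ := mem_nine _ h
  exact ⟨q, σ, hσ, enc_inj e⟩

/-- All triples. -/
def triL : List Tri := (List.finRange 3).flatMap fun a => (List.finRange 3).flatMap fun b =>
  (List.finRange 3).map fun c => (a, b, c)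

theorem mem_triL : ∀ b : Tri, b ∈ triL := by decide +kernel

theorem all_par {f : ℕ → Bool} (h : (List.range 1296).all f = true) (p : Par) : f (enc p) = true :=
  List.all_eq_true.1 h _ (List.mem_range.2 (enc_lt p))

theorem inBase_code {p : Par} : InBase p ↔ triL.any (fun c => enc p == cbel c) = true := by
  simp only [List.any_eq_true, beq_iff_eq, InBase]
  exact ⟨fun ⟨c, e⟩ => ⟨c, mem_triL c, e ▸ enc_bel c⟩, fun ⟨c, _, e⟩ => ⟨c, enc_inj (e.trans (enc_bel c).symm)⟩⟩

theorem small_conj : ∀ b : Tri, Small b → ∃ (π : Equiv.Perm (Fin 3)) (s : Fin 2 × Fin 2 × Fin 2),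
    ∃ r ∈ [((0, 0, 1) : Tri), (1, 1, 0)],
      pmul (pmul (π, fun _ => 1) (psgn s)) (belp r) = pmul (belp b) (pmul (π, fun _ => 1) (psgn s)) := by
  have h : ∀ b : Tri, Small b → ∃ i : Fin 6, ∃ s : Fin 2 × Fin 2 × Fin 2, ∃ r ∈ [((0, 0, 1) : Tri), (1, 1, 0)],
      cmul (cmul i.val (18 * s.1.val + 108 * s.2.1.val + 648 * s.2.2.val)) (cbel r) =
        cmul (cbel b) (cmul i.val (18 * s.1.val + 108 * s.2.1.val + 648 * s.2.2.val)) := by decide +kernel
  have hs : ∀ s, enc (psgn s) = 18 * s.1.val + 108 * s.2.1.val + 648 * s.2.2.val := by decide +kernel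
  have hp : ∀ i : Fin 6, enc (p6 i.val, fun _ => 1) = i.val := by decide +kernel
  intro b hb
  obtain ⟨i, s, r, hr, e⟩ := h b hb
  exact ⟨p6 i.val, s, r, hr, enc_inj (by simpa only [enc_mul, enc_bel, hs, hp] using e)⟩

theorem full_conj : ∀ b : Tri, Full b → ∃ s : Fin 2 × Fin 2 × Fin 2,
    pmul (psgn s) (belp (1, 1, 1)) = pmul (belp b) (psgn s) := by
  have h : ∀ b : Tri, Full b → ∃ s : Fin 2 × Fin 2 × Fin 2,
      cmul (18 * s.1.val + 108 * s.2.1.val + 648 * s.2.2.val) (cbel (1, 1, 1)) =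
        cmul (cbel b) (18 * s.1.val + 108 * s.2.1.val + 648 * s.2.2.val) := by decide +kernel
  have hs : ∀ s, enc (psgn s) = 18 * s.1.val + 108 * s.2.1.val + 648 * s.2.2.val := by decide +kernel
  intro b hb
  obtain ⟨s, e⟩ := h b hb
  exact ⟨s, enc_inj (by simpa only [enc_mul, enc_bel, hs] using e)⟩

theorem nine_conj : ∀ p : Par, Nine p → ∃ (π : Equiv.Perm (Fin 3)) (c : Tri),
    pmul (pmul (π, fun _ => 1) (belp c)) (pd 0) = pmul p (pmul (π, fun _ => 1) (belp c)) := by
  have h : ∀ n ∈ nineL, ∃ i : Fin 6, ∃ c : Tri,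
      cmul (cmul i.val (cbel c)) 18 = cmul n (cmul i.val (cbel c)) := by decide +kernel
  have hp : ∀ i : Fin 6, enc (p6 i.val, fun _ => 1) = i.val := by decide +kernel
  intro p hn
  obtain ⟨i, c, e⟩ := h _ (nine_iff.1 hn)
  exact ⟨p6 i.val, c, enc_inj (by simpa only [enc_mul, enc_bel, hp, enc_pd0] using e)⟩

/-- Commuting codes. -/
def cc (a b : ℕ) : Bool := cmul a b == cmul b a

theorem cc_iff {p q : Par} : cc (enc p) (enc q) = true ↔ Com p q := by
  rw [com_code, cc, beq_iff_eq]

theorem cc_bel {p : Par} {b : Tri} : cc (enc p) (cbel b) = true ↔ Com p (belp b) := by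
  rw [← enc_bel, cc_iff]

/-- The line of a base element. -/
def lineC (a : ℕ) (b : Tri) : Bool := triL.all fun c =>
  !cc a (cbel c) || decide (c = (0, 0, 0)) || cbel c == cbel b || cbel c == cmul (cbel b) (cbel b)

theorem line_sound {p : Par} {b : Tri} (h : lineC (enc p) b = true) (c : Tri) (hc : Com p (belp c)) :
    c = (0, 0, 0) ∨ belp c = belp b ∨ belp c = pmul (belp b) (belp b) := by
  have := List.all_eq_true.1 h c (mem_triL c)
  simp only [Bool.or_eq_true, decide_eq_true_eq, beq_iff_eq, Bool.not_eq_true', cc_bel.2 hc,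
    Bool.true_eq_false, false_or] at this
  rcases this with (e | e) | e
  · exact Or.inl e
  · exact Or.inr (Or.inl (enc_inj (by rwa [enc_bel, enc_bel])))
  · exact Or.inr (Or.inr (enc_inj (by rwa [enc_mul, enc_bel, enc_bel])))

theorem invol_cases : ∀ p : Par, pmul p p = (1, fun _ => 1) → p ≠ (1, fun _ => 1) → Nine p ∨
    (∃ b : Tri, Full b ∧ Com p (belp b)) ∨
    (∃ b : Tri, Small b ∧ Com p (belp b) ∧ ∀ c : Tri, Com p (belp c) →
      c = (0, 0, 0) ∨ belp c = belp b ∨ belp c = pmul (belp b) (belp b)) ∨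
    (∃ c : Tri, pmul (belp c) p123 = pmul p (belp c)) := by
  have h : (List.range 1296).all (fun a => !(cmul a a == 0) || a == 0 || nineL.contains a ||
      triL.any (fun b => decide (Full b) && cc a (cbel b)) ||
      triL.any (fun b => decide (Small b) && (cc a (cbel b) && lineC a b)) ||
      triL.any (fun c => cmul (cbel c) 774 == cmul a (cbel c))) = true := by decide +kernel
  intro p h2 h1
  have := all_par h p
  have e2 : cmul (enc p) (enc p) = 0 := by rw [← enc_mul, h2, enc_one]
  have e1 : enc p ≠ 0 := fun e => h1 (enc_inj (e.trans enc_one.symm))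
  simp only [Bool.or_eq_true, Bool.not_eq_true', beq_eq_false_iff_ne, beq_iff_eq, List.contains_iff_mem,
    List.any_eq_true, Bool.and_eq_true, decide_eq_true_eq, e2, e1, ne_eq, not_true_eq_false, false_or] at this
  rcases this with ((hn | ⟨b, -, hb, hc⟩) | ⟨b, -, hb, hc, hl⟩) | ⟨c, -, hc⟩
  · exact Or.inl (nine_iff.2 hn)
  · exact Or.inr (Or.inl ⟨b, hb, cc_bel.1 hc⟩)
  · exact Or.inr (Or.inr (Or.inl ⟨b, hb, cc_bel.1 hc, line_sound hl⟩))
  · exact Or.inr (Or.inr (Or.inr ⟨c, enc_inj (by rw [enc_mul, enc_mul, enc_bel, enc_123, hc])⟩))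

theorem three_small : ∀ q : Par, pmul q (pmul q q) = (1, fun _ => 1) → ¬ InBase q →
    ∀ b : Tri, Small b → ¬ Com q (belp b) := by
  have h : (List.range 1296).all (fun a => !(cmul a (cmul a a) == 0) || triL.any (fun c => a == cbel c) ||
      triL.all (fun b => !decide (Small b) || !cc a (cbel b))) = true := by decide +kernel
  intro p h3 hb b hs hc
  have := all_par h p
  have e3 : cmul (enc p) (cmul (enc p) (enc p)) = 0 := by rw [← enc_mul, ← enc_mul, h3, enc_one]
  rw [inBase_code] at hb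
  simp only [e3, Bool.not_eq_true] at this hb
  simp only [hb, Bool.or_false, beq_self_eq_true, Bool.not_true, Bool.false_or, List.all_eq_true] at this
  have := this b (mem_triL b)
  simp [hs, cc_bel.2 hc] at this

theorem inv_w : ∀ p : Par, Com p (belp wTri) → pmul p p = (1, fun _ => 1) →
    pmul p (belp (1, 1, 1)) = pmul (belp (2, 2, 2)) p → ∀ c : Tri, Com p (belp c) →
      c = (0, 0, 0) ∨ belp c = belp wTri ∨ belp c = pmul (belp wTri) (belp wTri) := by
  have h : (List.range 1296).all (fun a => !cc a (cbel wTri) || !(cmul a a == 0) ||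
      !(cmul a (cbel (1, 1, 1)) == cmul (cbel (2, 2, 2)) a) || lineC a wTri) = true := by decide +kernel
  intro p hw h2 ha
  have := all_par h p
  have e2 : cmul (enc p) (enc p) = 0 := by rw [← enc_mul, h2, enc_one]
  have e3 : cmul (enc p) (cbel (1, 1, 1)) = cmul (cbel (2, 2, 2)) (enc p) := by
    rw [← enc_bel, ← enc_bel, ← enc_mul, ha, enc_mul]
  simp only [cc_bel.2 hw, e2, e3, beq_self_eq_true, Bool.not_true, Bool.false_or] at this
  exact line_sound this

theorem cent_w_a : ∀ p : Par, Com p (belp (1, 1, 1)) → Com p (belp wTri) → InBase p := by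
  have h : (List.range 1296).all (fun a => !cc a (cbel (1, 1, 1)) || !cc a (cbel wTri) ||
      triL.any (fun c => a == cbel c)) = true := by decide +kernel
  intro p h1 h2
  have := all_par h p
  simp only [cc_bel.2 h1, cc_bel.2 h2, Bool.not_true, Bool.false_or] at this
  exact inBase_code.2 this

theorem rot_facts : pmul ptau (pmul prot ptau) = pmul prot prot ∧
    pmul prot (pmul prot prot) = (1, fun _ => 1) ∧ Com prot p123 ∧ Com ptau (belp (1, 1, 1)) ∧
    Com prot (belp (1, 1, 1)) ∧ pmul ptau ptau = (1, fun _ => 1) ∧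
    pmul ptau (pmul (belp wTri) ptau) = pmul (belp wTri) (belp wTri) ∧
    pmul p123 (belp (1, 1, 1)) = pmul (belp (2, 2, 2)) p123 ∧ ¬ InBase prot := by
  have hr : enc prot = 1 := by decide +kernel
  have ht : enc ptau = 3 := by decide +kernel
  simp only [com_code, inBase_code, enc_eq_iff, enc_mul, enc_bel, hr, ht, enc_123, enc_one]
  decide +kernel

theorem six_set : ∀ (p : Par) (q : Fin 3), ∃ q' : Fin 3,
    pmul p (pc q) = pmul (pc q') p ∨ pmul p (pc q) = pmul (pmul (pc q') (pc q')) p := by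
  have h : (List.range 1296).all (fun a => decide (∀ q : Fin 3, ∃ q' : Fin 3,
      cmul a (6 ^ (q.val + 1)) = cmul (6 ^ (q'.val + 1)) a ∨
      cmul a (6 ^ (q.val + 1)) = cmul (cmul (6 ^ (q'.val + 1)) (6 ^ (q'.val + 1))) a)) = true := by decide +kernel
  intro p q
  obtain ⟨q', e⟩ := of_decide_eq_true (all_par h p) q
  exact ⟨q', e.imp (fun e => enc_inj (by simpa only [enc_mul, fun q => (enc_pd q).2] using e))
    (fun e => enc_inj (by simpa only [enc_mul, fun q => (enc_pd q).2] using e))⟩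

theorem cent_J : ∀ p : Par, Com p (pc 1) → Com p (pc 2) → pmul p (pmul p p) = (1, fun _ => 1) → InBase p := by
  have h : (List.range 1296).all (fun a => !cc a 36 || !cc a 216 || !(cmul a (cmul a a) == 0) ||
      triL.any (fun c => a == cbel c)) = true := by decide +kernel
  intro p h1 h2 h3
  have := all_par h p
  have e1 : cc (enc p) 36 = true := by rw [← cc_iff, enc_pc1] at h1; exact h1
  have e2 : cc (enc p) 216 = true := by rw [← cc_iff, enc_pc2] at h2; exact h2
  have e3 : cmul (enc p) (cmul (enc p) (enc p)) = 0 := by rw [← enc_mul, ← enc_mul, h3, enc_one]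
  simp only [e1, e2, e3, beq_self_eq_true, Bool.not_true, Bool.false_or] at this
  exact inBase_code.2 this

theorem cent_E : ∀ p : Par, Com p (pd 0) → Com p (pc 1) → Com p (pc 2) →
    ∃ (b c : Fin 3) (i : Fin 2), p = pmul (belp (0, b, c)) ((1, fun x => if x = 0 then swap 0 1 ^ i.val else 1)) := by
  have h : (List.range 1296).all (fun a => !cc a 18 || !cc a 36 || !cc a 216 ||
      decide (∃ (b c : Fin 3) (i : Fin 2), a = cmul (cbel (0, b, c)) (18 * i.val))) = true := by decide +kernel
  have hd : ∀ i : Fin 2, enc (1, fun x => if x = 0 then swap 0 1 ^ i.val else 1) = 18 * i.val := by decide +kernel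
  intro p h1 h2 h3
  have := all_par h p
  have e1 : cc (enc p) 18 = true := by rw [← cc_iff, enc_pd0] at h1; exact h1
  have e2 : cc (enc p) 36 = true := by rw [← cc_iff, enc_pc1] at h2; exact h2
  have e3 : cc (enc p) 216 = true := by rw [← cc_iff, enc_pc2] at h3; exact h3
  simp only [e1, e2, e3, Bool.not_true, Bool.false_or, decide_eq_true_eq] at this
  obtain ⟨b, c, i, e⟩ := this
  exact ⟨b, c, i, enc_inj (by simpa only [enc_mul, enc_bel, hd] using e)⟩

theorem norm_E : ∀ p : Par, Com p (pd 0) → ∀ b c : Fin 3, ∃ b' c' : Fin 3,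
    pmul p (belp (0, b, c)) = pmul (belp (0, b', c')) p := by
  have h : (List.range 1296).all (fun a => !cc a 18 || decide (∀ b c : Fin 3, ∃ b' c' : Fin 3,
      cmul a (cbel (0, b, c)) = cmul (cbel (0, b', c')) a)) = true := by decide +kernel
  intro p h1 b c
  have := all_par h p
  have e1 : cc (enc p) 18 = true := by rw [← cc_iff, enc_pd0] at h1; exact h1
  simp only [e1, Bool.not_true, Bool.false_or, decide_eq_true_eq] at this
  obtain ⟨b', c', e⟩ := this b c
  exact ⟨b', c', enc_inj (by simpa only [enc_mul, enc_bel] using e)⟩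

theorem base_com_d : ∀ c : Tri, Com (belp c) (pd 0) → c.1 = 0 := by
  have h : ∀ c : Tri, cmul (cbel c) 18 = cmul 18 (cbel c) → c.1 = 0 := by decide +kernel
  intro c hc
  rw [com_code, enc_bel, enc_pd0] at hc
  exact h c hc

theorem three_power_d : ∀ p : Par, Com p (pd 0) →
    pmul (pmul p (pmul p p)) (pmul (pmul p (pmul p p)) (pmul p (pmul p p))) = (1, fun _ => 1) →
    ∃ b c : Fin 3, p = belp (0, b, c) := by
  have h : (List.range 1296).all (fun a => !cc a 18 ||
      !(cmul (cmul a (cmul a a)) (cmul (cmul a (cmul a a)) (cmul a (cmul a a))) == 0) ||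
      decide (∃ b c : Fin 3, a = cbel (0, b, c))) = true := by decide +kernel
  intro p h1 h9
  have := all_par h p
  have e1 : cc (enc p) 18 = true := by rw [← cc_iff, enc_pd0] at h1; exact h1
  simp only [enc_eq_iff, enc_mul, enc_one] at h9
  simp only [e1, h9, beq_self_eq_true, Bool.not_true, Bool.false_or, decide_eq_true_eq] at this
  obtain ⟨b, c, e⟩ := this
  exact ⟨b, c, enc_inj (e.trans (enc_bel _).symm)⟩

/-- The point with a given code. -/
def par (a : ℕ) : Par := (p6 (a % 6), fun q => p6 (dig a q.val))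

theorem par_enc (p : Par) : par (enc p) = p := by
  refine Prod.ext ?_ (funext fun q => ?_)
  · simp [par, enc_mod, (idx_spec _).1]
  · simp [par, dig_enc, (idx_spec _).1]

theorem enc_par {a : ℕ} (ha : a < 1296) : enc (par a) = a := by
  have h : ∀ i < 6, idx (p6 i) = i := by decide +kernel
  have h6 : ∀ q, dig a q < 6 := fun q => Nat.mod_lt _ (by norm_num)
  simp only [enc, par, h _ (Nat.mod_lt a (show 0 < 6 by norm_num)), h _ (h6 _)]
  simp [dig]
  omega

theorem card_cent_d : Fintype.card {p : Par // Com p (pd 0)} = 144 := by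
  have h : (((List.range 1296).filter fun a => cc a 18)).length = 144 := by decide +kernel
  have hd : (((List.range 1296).filter fun a => cc a 18)).Nodup := List.nodup_range.filter _
  rw [← h, ← List.toFinset_card_of_nodup hd, ← Fintype.card_coe]
  refine Fintype.card_congr
    { toFun := fun p => ⟨enc p.1, ?_⟩, invFun := fun a => ⟨par a.1, ?_⟩, left_inv := fun p => ?_, right_inv := fun a => ?_ }
  · simp only [List.mem_toFinset, List.mem_filter, List.mem_range]
    exact ⟨enc_lt _, by rw [← enc_pd0, cc_iff]; exact p.2⟩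
  · have := a.2
    simp only [List.mem_toFinset, List.mem_filter, List.mem_range] at this
    rw [← cc_iff, enc_par this.1, enc_pd0]
    exact this.2
  · exact Subtype.ext (par_enc _)
  · have := a.2
    simp only [List.mem_toFinset, List.mem_filter, List.mem_range] at this
    exact Subtype.ext (enc_par this.1)

theorem cent_signs : ∀ c : Tri, Com (belp c) pd12 → Com (belp c) pd23 → c = (0, 0, 0) := by
  have h : ∀ c : Tri, cmul (cbel c) 126 = cmul 126 (cbel c) → cmul (cbel c) 756 = cmul 756 (cbel c) →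
      c = (0, 0, 0) := by decide +kernel
  have e : enc pd12 = 126 ∧ enc pd23 = 756 := by decide +kernel
  intro c h1 h2
  rw [com_code, enc_bel, e.1] at h1
  rw [com_code, enc_bel, e.2] at h2
  exact h c h1 h2

end Cfsg.Agent.Sp62Three31.One
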