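import Cfsg.Agent.Lib.Sp62Three31Setup
import Cfsg.Agent.Lib.Sp62Three31CaseOneW
import Cfsg.Agent.Lib.Sp62Three31CaseOneAux

/-!
S3342, first branch: coordinates on `N(J)`, the centralisers in `N(J)`, and the conjugacy class of
the first sign inside `N(J)`: it has exactly nine elements.
-/

set_option autoImplicit false

namespace Cfsg.Agent.Sp62Three31.One

open Equiv S9Model37 S9Base37 S9Branch37

universe u

variable {G : Type u} [Group G] {S : Setup G}

/-- The hypotheses of the first branch. -/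
structure Hy (F : S.Frame) : Prop where
  caseI : F.CaseI
  cw : Subgroup.centralizer ({F.φ (C1 * C2)} : Set G) ≤ Subgroup.normalizer (S.J : Set G)
  cJ : Subgroup.centralizer (S.J : Set G) = S.J
  sylow : ¬ 3 ^ 5 ∣ Nat.card G

variable (F : S.Frame)

/-- The element of `N(J)` with given coordinates. -/
def E (p : Par) : G := F.φ (elP p)

theorem E_mul (a b : Par) : E F (pmul a b) = E F a * E F b := by rw [E, elP_mul, map_mul]; rfl

theorem E_one : E F (1, fun _ => 1) = 1 := by rw [E, elP_one, map_one]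

theorem E_inj : Function.Injective (E F) := fun _ _ e => elP_bijective.1 (F.inj e)

theorem E_eq_one {p : Par} : E F p = 1 ↔ p = (1, fun _ => 1) :=
  ⟨fun h => E_inj F (h.trans (E_one F).symm), fun h => h ▸ E_one F⟩

theorem E_mem (p : Par) : E F p ∈ Subgroup.normalizer (S.J : Set G) := F.range_eq ▸ ⟨elP p, rfl⟩

theorem exists_E {g : G} (hg : g ∈ Subgroup.normalizer (S.J : Set G)) : ∃ p, E F p = g := by
  rw [← F.range_eq] at hg
  obtain ⟨u, rfl⟩ := hg
  obtain ⟨p, rfl⟩ := elP_bijective.2 u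
  exact ⟨p, rfl⟩

theorem com_iff {p q : Par} : E F p * E F q = E F q * E F p ↔ Com p q := by
  rw [← E_mul, ← E_mul, (E_inj F).eq_iff]

theorem gens_E : E F (pc 0) = F.φ C1 ∧ E F (pc 1) = F.φ C2 ∧ E F (pc 2) = F.φ C3 ∧
    E F (pd 0) = F.φ D1 ∧ E F (pd 1) = F.φ D2 ∧ E F (pd 2) = F.φ D3 ∧ E F prot = F.φ Rot ∧
    E F ptau = F.φ Tau := by
  obtain ⟨e1, e2, e3, e4, e5, e6, e7, e8⟩ := gens_eq
  exact ⟨congrArg F.φ (Subtype.ext e1), congrArg F.φ (Subtype.ext e2), congrArg F.φ (Subtype.ext e3),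
    congrArg F.φ (Subtype.ext e4), congrArg F.φ (Subtype.ext e5), congrArg F.φ (Subtype.ext e6),
    congrArg F.φ (Subtype.ext e7), congrArg F.φ (Subtype.ext e8)⟩

theorem E_belp (c : Tri) :
    E F (belp c) = F.φ C1 ^ c.1.val * F.φ C2 ^ c.2.1.val * F.φ C3 ^ c.2.2.val := by
  rw [← map_pow, ← map_pow, ← map_pow, ← map_mul, ← map_mul, E]
  refine congrArg F.φ (Subtype.ext ?_)
  show toP9 (belp c) = _
  rw [belp_eq]
  rfl

theorem E_a : E F (belp (1, 1, 1)) = S.a := by
  rw [E_belp, ← F.map_a, map_mul, map_mul]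
  simp

theorem E_y : E F (belp (1, 1, 0)) = F.φ (C1 * C2) := by
  rw [E_belp, map_mul]
  simp

theorem E_c3 : E F (belp (0, 0, 1)) = F.φ C3 := by
  rw [E_belp]
  simp

include F in
theorem a_memJ : S.a ∈ S.J := by
  rw [F.base, ← E_a F, E_belp]
  refine mul_mem (mul_mem (pow_mem ?_ _) (pow_mem ?_ _)) (pow_mem ?_ _) <;>
    exact Subgroup.subset_closure (by simp)

theorem belp_inj : ∀ c c' : Tri, belp c = belp c' → c = c' := by decide +kernel

theorem belp_cube : ∀ c : Tri, pmul (belp c) (pmul (belp c) (belp c)) = (1, fun _ => 1) := by decide +kernel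

theorem belp_zero : belp (0, 0, 0) = (1, fun _ => 1) := by decide +kernel

theorem mem_J [Finite G] {g : G} : g ∈ S.J ↔ ∃ c : Tri, E F (belp c) = g := by
  have hle : ∀ c : Tri, E F (belp c) ∈ S.J := fun c => by
    rw [F.base, E_belp]
    refine mul_mem (mul_mem (pow_mem ?_ _) (pow_mem ?_ _)) (pow_mem ?_ _) <;>
      exact Subgroup.subset_closure (by simp)
  refine ⟨fun hg => ?_, fun ⟨c, hc⟩ => hc ▸ hle c⟩
  let f : Tri → S.J := fun c => ⟨E F (belp c), hle c⟩
  have hf : Function.Injective f := fun a b e => belp_inj a b (E_inj F (congrArg Subtype.val e))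
  have hb := (Nat.bijective_iff_injective_and_card f).2 ⟨hf, by
    rw [S.hJcard]; simp [Nat.card_eq_fintype_card]⟩
  obtain ⟨c, hc⟩ := hb.2 ⟨g, hg⟩
  exact ⟨c, congrArg Subtype.val hc⟩

theorem inBase_iff [Finite G] {p : Par} : E F p ∈ S.J ↔ InBase p := by
  rw [mem_J F]
  exact ⟨fun ⟨c, hc⟩ => ⟨c, (E_inj F hc).symm⟩, fun ⟨c, hc⟩ => ⟨c, hc ▸ rfl⟩⟩

theorem comm_conj {u x y g : G} (h : u * x = y * u) (hg : g * y = y * g) :
    u⁻¹ * g * u * x = x * (u⁻¹ * g * u) := by
  have hy : y = u * x * u⁻¹ := by rw [h, mul_inv_cancel_right]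
  calc u⁻¹ * g * u * x = u⁻¹ * (g * y) * u := by rw [hy]; group
    _ = u⁻¹ * (y * g) * u := by rw [hg]
    _ = x * (u⁻¹ * g * u) := by rw [hy]; group

variable {F}

/-- The centralisers of the small elements are local. -/
theorem Hy.small (H : Hy F) {b : Tri} (hb : Small b) {g : G}
    (hg : g * E F (belp b) = E F (belp b) * g) : g ∈ Subgroup.normalizer (S.J : Set G) := by
  obtain ⟨π, s, r, hr, e⟩ := small_conj b hb
  set u := E F (pmul (π, fun _ => 1) (psgn s)) with hu
  have e' : u * E F (belp r) = E F (belp b) * u := by rw [hu, ← E_mul, ← E_mul, e]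
  have hc := comm_conj e' hg
  have hmem : u⁻¹ * g * u ∈ Subgroup.normalizer (S.J : Set G) := by
    simp only [List.mem_cons, List.not_mem_nil, or_false] at hr
    rcases hr with rfl | rfl
    · rw [E_c3] at hc
      exact H.caseI (Subgroup.mem_centralizer_singleton_iff.2 hc)
    · rw [E_y] at hc
      exact H.cw (Subgroup.mem_centralizer_singleton_iff.2 hc)
  have := mul_mem (mul_mem (hu ▸ E_mem F _ : u ∈ Subgroup.normalizer (S.J : Set G)) hmem)
    (inv_mem (hu ▸ E_mem F _ : u ∈ Subgroup.normalizer (S.J : Set G)))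
  simpa [mul_assoc] using this

variable (F)

/-- The centraliser of the first sign in `J`. -/
def ED : Subgroup G := S.J ⊓ Subgroup.centralizer ({F.φ D1} : Set G)

theorem base0_com : ∀ b c : Fin 3, Com (belp (0, b, c)) (pd 0) := by decide +kernel

theorem mem_ED [Finite G] {g : G} : g ∈ ED F ↔ ∃ b c : Fin 3, E F (belp (0, b, c)) = g := by
  rw [ED, Subgroup.mem_inf, Subgroup.mem_centralizer_singleton_iff, mem_J F, ← (gens_E F).2.2.2.1]
  constructor
  · rintro ⟨⟨⟨a, b, c⟩, rfl⟩, h⟩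
    have h0 : a = 0 := base_com_d (a, b, c) ((com_iff F).1 h)
    exact ⟨b, c, by rw [h0]⟩
  · rintro ⟨b, c, rfl⟩
    exact ⟨⟨_, rfl⟩, (com_iff F).2 (base0_com b c)⟩

theorem card_ED [Finite G] : Nat.card (ED F) = 9 := by
  let f : Fin 3 × Fin 3 → ED F := fun p => ⟨_, (mem_ED F).2 ⟨p.1, p.2, rfl⟩⟩
  have hf : Function.Bijective f := by
    refine ⟨fun p q e => ?_, fun ⟨g, hg⟩ => ?_⟩
    · have := belp_inj _ _ (E_inj F (congrArg Subtype.val e))
      simp only [Prod.mk.injEq, true_and] at this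
      exact Prod.ext this.1 this.2
    · obtain ⟨b, c, rfl⟩ := (mem_ED F).1 hg
      exact ⟨(b, c), rfl⟩
  rw [← Nat.card_congr (Equiv.ofBijective f hf)]
  simp

variable {F} [Finite G]

theorem ED_cube {g : G} (hg : g ∈ ED F) : g ^ 3 = 1 := S.hJexp g hg.1

/-- A non-trivial element of `C(d₁) ∩ J` has local centraliser. -/
theorem Hy.ED_local (H : Hy F) {e g : G} (he : e ∈ ED F) (he1 : e ≠ 1) (hg : g * e = e * g) :
    g ∈ Subgroup.normalizer (S.J : Set G) := by
  obtain ⟨b, c, rfl⟩ := (mem_ED F).1 he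
  refine H.small ⟨fun e0 => he1 ?_, Or.inl rfl⟩ hg
  rw [e0, belp_zero, E_one]

theorem card_local_cent : Nat.card
    ↥(Subgroup.normalizer (S.J : Set G) ⊓ Subgroup.centralizer ({F.φ D1} : Set G) : Subgroup G) = 144 := by
  rw [← card_cent_d, ← Nat.card_eq_fintype_card]
  have hm : ∀ p : {p : Par // Com p (pd 0)},
      E F p.1 ∈ Subgroup.normalizer (S.J : Set G) ⊓ Subgroup.centralizer ({F.φ D1} : Set G) :=
    fun p => ⟨E_mem F _, Subgroup.mem_centralizer_singleton_iff.2 (by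
      rw [← (gens_E F).2.2.2.1]; exact (com_iff F).2 p.2)⟩
  refine (Nat.card_congr (Equiv.ofBijective (fun p => (⟨E F p.1, hm p⟩ : ↥(Subgroup.normalizer (S.J : Set G) ⊓
    Subgroup.centralizer ({F.φ D1} : Set G)))) ⟨fun p q e => Subtype.ext (E_inj F (congrArg Subtype.val e)), ?_⟩)).symm
  rintro ⟨g, hgN, hgd⟩
  obtain ⟨p, rfl⟩ := exists_E F hgN
  refine ⟨⟨p, (com_iff F).1 ?_⟩, rfl⟩
  rw [(gens_E F).2.2.2.1]
  exact Subgroup.mem_centralizer_singleton_iff.1 hgd

theorem mem_ED_of {g : G} (hN : g ∈ Subgroup.normalizer (S.J : Set G)) (hd : g * F.φ D1 = F.φ D1 * g)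
    {k : ℕ} (hk : g ^ 3 ^ k = 1) : g ∈ ED F := by
  haveI : Fact (Nat.Prime 3) := ⟨Nat.prime_three⟩
  obtain ⟨i, -, hi⟩ := (Nat.dvd_prime_pow Nat.prime_three).1 (orderOf_dvd_of_pow_eq_one hk)
  have h144 : orderOf g ∣ 144 := by
    rw [← card_local_cent (F := F)]
    exact Subgroup.orderOf_dvd_natCard _ (Subgroup.mem_inf.2 ⟨hN, Subgroup.mem_centralizer_singleton_iff.2 hd⟩)
  have hi2 : i ≤ 2 := by
    by_contra hlt
    have h27 : 27 ∣ 144 := dvd_trans (by rw [hi]; exact pow_dvd_pow 3 (show 3 ≤ i by omega)) h144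
    norm_num at h27
  have h9 : g ^ 9 = 1 := orderOf_dvd_iff_pow_eq_one.1 (by rw [hi]; exact (pow_dvd_pow 3 hi2).trans (by norm_num))
  obtain ⟨p, rfl⟩ := exists_E F hN
  rw [← (gens_E F).2.2.2.1, com_iff] at hd
  obtain ⟨b, c, rfl⟩ := three_power_d p hd (by
    apply E_inj F
    rw [E_one]
    simp only [E_mul]
    rw [← h9]
    simp [pow_succ, mul_assoc])
  exact (mem_ED F).2 ⟨b, c, rfl⟩

/-- The Sylow `3`-subgroup of the centraliser of the first sign. -/
theorem Hy.ED_index (H : Hy F) :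
    ¬ 3 ∣ ((ED F).subgroupOf (Subgroup.centralizer ({F.φ D1} : Set G))).index := by
  haveI : Fact (Nat.Prime 3) := ⟨Nat.prime_three⟩
  set C := Subgroup.centralizer ({F.φ D1} : Set G)
  set E1 := (ED F).subgroupOf C with hE1
  have hcard : Nat.card E1 = 3 ^ 2 := by
    rw [hE1, Nat.card_congr (Subgroup.subgroupOfEquivOfLe (show ED F ≤ C from inf_le_right)).toEquiv, card_ED]
    norm_num
  obtain ⟨P, hP⟩ := (IsPGroup.of_card hcard).exists_le_sylow
  haveI : Nontrivial (P : Subgroup C) := by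
    refine Finite.one_lt_card_iff_nontrivial.1 (lt_of_lt_of_le ?_ (Subgroup.card_le_of_le hP))
    rw [hcard]; norm_num
  haveI := P.2.center_nontrivial
  obtain ⟨z, hz⟩ := exists_ne (1 : Subgroup.center (P : Subgroup C))
  have hzz : ∀ y : (P : Subgroup C), y * z.1 = z.1 * y := fun y => Subgroup.mem_center_iff.1 z.2 y
  have pow : ∀ y : (P : Subgroup C), ∃ k, ((y : C) : G) ^ 3 ^ k = 1 := fun y => by
    obtain ⟨k, hk⟩ := P.2 y
    exact ⟨k, congrArg (fun x : (P : Subgroup C) => ((x : C) : G)) hk⟩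
  -- the central element lies in `E1`
  have hzE : (((z : (P : Subgroup C)) : C) : G) ∈ ED F := by
    have he2 : E F (belp (0, 1, 0)) ∈ ED F := (mem_ED F).2 ⟨1, 0, rfl⟩
    have hc := congrArg (fun x : (P : Subgroup C) => ((x : C) : G))
      (hzz ⟨⟨_, (inf_le_right : ED F ≤ C) he2⟩, hP he2⟩)
    have hN := H.ED_local he2 (fun e => by
      have := E_eq_one F |>.1 e
      exact absurd this (by decide +kernel)) hc.symm
    obtain ⟨k, hk⟩ := pow z.1
    exact mem_ED_of hN (Subgroup.mem_centralizer_singleton_iff.1 (z.1 : C).2) hk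
  have hz1 : (((z : (P : Subgroup C)) : C) : G) ≠ 1 := fun e => hz (Subtype.ext (Subtype.ext (Subtype.ext e)))
  have hPE : (P : Subgroup C) ≤ E1 := fun y hy => by
    have hc := congrArg (fun x : (P : Subgroup C) => ((x : C) : G)) (hzz ⟨y, hy⟩)
    obtain ⟨k, hk⟩ := pow ⟨y, hy⟩
    exact mem_ED_of (H.ED_local hzE hz1 hc) (Subgroup.mem_centralizer_singleton_iff.1 y.2) hk
  have e : (P : Subgroup C) = E1 := le_antisymm hPE hP
  rw [← e]
  exact P.not_dvd_index

/-- An element of order three commuting with a conjugate of the first sign is carried into `C(d₁) ∩ J`. -/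
theorem Hy.move (H : Hy F) (g : G) {x : G} (hx3 : x ^ 3 = 1)
    (hx : x * (g * F.φ D1 * g⁻¹) = g * F.φ D1 * g⁻¹ * x) :
    ∃ g' : G, g' * F.φ D1 * g'⁻¹ = g * F.φ D1 * g⁻¹ ∧ g'⁻¹ * x * g' ∈ ED F := by
  haveI : Fact (Nat.Prime 3) := ⟨Nat.prime_three⟩
  set C := Subgroup.centralizer ({F.φ D1} : Set G)
  set E1 := (ED F).subgroupOf C
  have hy : g⁻¹ * x * g ∈ C := Subgroup.mem_centralizer_singleton_iff.2
    (comm_conj (u := g) (x := F.φ D1) (by group) hx)
  have hp : IsPGroup 3 (Subgroup.zpowers (⟨_, hy⟩ : C)) := by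
    rw [IsPGroup]
    rintro ⟨_, k, rfl⟩
    refine ⟨1, Subtype.ext (Subtype.ext ?_)⟩
    show ((g⁻¹ * x * g) ^ k) ^ (3 ^ 1) = 1
    rw [pow_one, ← zpow_natCast, ← zpow_mul, mul_comm, zpow_mul, zpow_natCast,
      show (g⁻¹ * x * g) ^ 3 = g⁻¹ * x ^ 3 * g by rw [pow_three', pow_three']; group, hx3, mul_one, inv_mul_cancel, one_zpow]
  obtain ⟨q, hq⟩ := hp.nonempty_fixed_point_of_prime_not_dvd_card (C ⧸ E1)
    (by rw [← Subgroup.index_eq_card]; exact H.ED_index)
  obtain ⟨k, rfl⟩ := QuotientGroup.mk_surjective q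
  have h : (((⟨_, hy⟩ : C) * k : C) : C ⧸ E1) = (k : C ⧸ E1) :=
    hq ⟨⟨_, hy⟩, Subgroup.mem_zpowers _⟩
  rw [eq_comm, QuotientGroup.eq] at h
  have h' : (k : G)⁻¹ * (g⁻¹ * x * g * (k : G)) ∈ ED F := h
  refine ⟨g * (k : G), ?_, ?_⟩
  · have hk := Subgroup.mem_centralizer_singleton_iff.1 k.2
    calc g * (k : G) * F.φ D1 * (g * (k : G))⁻¹ = g * ((k : G) * F.φ D1) * ((k : G))⁻¹ * g⁻¹ := by group
      _ = g * F.φ D1 * g⁻¹ := by rw [hk]; group
  · rw [show (g * (k : G))⁻¹ * x * (g * (k : G)) = (k : G)⁻¹ * (g⁻¹ * x * g * (k : G)) by group]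
    exact h'

theorem a_pow : S.a ^ 3 = 1 := by rw [← S.ha]; exact pow_orderOf_eq_one _

/-- An element with local centraliser in `J` is not conjugate to `a`. -/
theorem not_conj_a {e : G} (he : e ∈ S.J)
    (hloc : ∀ g : G, g * e = e * g → g ∈ Subgroup.normalizer (S.J : Set G)) (g : G) :
    g * e * g⁻¹ ≠ S.a := by
  intro h
  classical
  haveI : Fact (Nat.Prime 3) := ⟨Nat.prime_three⟩
  set C := Subgroup.centralizer ({S.a} : Set G) with hC
  set J' := S.J.map (MulAut.conj g).toMonoidHom with hJ'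
  have hcomm : ∀ a ∈ S.J, ∀ b ∈ S.J, a * b = b * a := fun a ha b hb =>
    congrArg Subtype.val (S.hJcomm.is_comm.comm ⟨a, ha⟩ ⟨b, hb⟩)
  have hle : J' ≤ C := by
    rintro _ ⟨j, hj, rfl⟩
    refine Subgroup.mem_centralizer_singleton_iff.2 ?_
    rw [← h]
    show g * j * g⁻¹ * (g * e * g⁻¹) = g * e * g⁻¹ * (g * j * g⁻¹)
    calc g * j * g⁻¹ * (g * e * g⁻¹) = g * (j * e) * g⁻¹ := by group
      _ = g * (e * j) * g⁻¹ := by rw [hcomm j hj e he]
      _ = _ := by group
  have hn : (J'.subgroupOf C).Normal := ⟨fun x hx c => by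
    obtain ⟨j, hj, hjx⟩ := Subgroup.mem_subgroupOf.1 hx
    have hjx' : g * j * g⁻¹ = (x : G) := hjx
    have hc : (c : G) * (g * e * g⁻¹) = g * e * g⁻¹ * (c : G) := by
      rw [h]; exact Subgroup.mem_centralizer_singleton_iff.1 c.2
    have hm := hloc _ (comm_conj (u := g) (x := e) (by group) hc)
    refine Subgroup.mem_subgroupOf.2 ⟨g⁻¹ * (c : G) * g * j * (g⁻¹ * (c : G) * g)⁻¹,
      (Subgroup.mem_normalizer_iff.1 hm j).1 hj, ?_⟩
    show g * (g⁻¹ * (c : G) * g * j * (g⁻¹ * (c : G) * g)⁻¹) * g⁻¹ = ((c * x * c⁻¹ : C) : G)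
    push_cast
    rw [← hjx']
    group⟩
  have hcard : Nat.card (J'.subgroupOf C) = 27 := by
    rw [Nat.card_congr (Subgroup.subgroupOfEquivOfLe hle).toEquiv,
      Subgroup.card_map_of_injective (MulAut.conj g).injective, S.hJcard]
  have hle2 : J'.subgroupOf C ≤ Cfsg.pCore 3 C :=
    le_sSup ⟨hn, IsPGroup.of_card (n := 3) (by rw [hcard]; norm_num)⟩
  have heq : J'.subgroupOf C = Cfsg.pCore 3 C :=
    Subgroup.eq_of_le_of_card_ge hle2 (by rw [hcard]; exact S.hRcard.le)
  have htop : Subgroup.center (Cfsg.pCore 3 C) = ⊤ := by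
    refine eq_top_iff.2 fun x _ => Subgroup.mem_center_iff.2 fun y => ?_
    have hx : (x : C) ∈ J'.subgroupOf C := by rw [heq]; exact x.2
    have hy : (y : C) ∈ J'.subgroupOf C := by rw [heq]; exact y.2
    obtain ⟨j, hj, hjx⟩ := Subgroup.mem_subgroupOf.1 hx
    obtain ⟨k, hk, hky⟩ := Subgroup.mem_subgroupOf.1 hy
    refine Subtype.ext (Subtype.ext ?_)
    show ((y : C) : G) * ((x : C) : G) = ((x : C) : G) * ((y : C) : G)
    rw [← hjx, ← hky, ← map_mul, ← map_mul, hcomm k hk j hj]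
  have := S.hR.2
  rw [htop, Subgroup.card_top, S.hRcard] at this
  norm_num at this

/-- No conjugate of the first sign centralises `a`. -/
theorem Hy.not_commute_a (H : Hy F) (g : G) :
    S.a * (g * F.φ D1 * g⁻¹) ≠ g * F.φ D1 * g⁻¹ * S.a := by
  intro h
  obtain ⟨g', -, hg'⟩ := H.move g a_pow h
  have hne : g'⁻¹ * S.a * g' ≠ 1 := fun e => by
    have : S.a = 1 := by
      calc S.a = g' * (g'⁻¹ * S.a * g') * g'⁻¹ := by group
        _ = 1 := by rw [e]; group
    have h3 := S.ha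
    rw [this, orderOf_one] at h3
    norm_num at h3
  exact not_conj_a hg'.1 (fun k hk => H.ED_local hg' hne hk) g' (by group)

theorem card_C : Nat.card S.C = 648 := by
  haveI : (Cfsg.pCore 3 (Subgroup.centralizer ({S.a} : Set G))).Normal := Cfsg.pCore_normal 3 _
  show Nat.card (Subgroup.centralizer ({S.a} : Set G)) = 648
  rw [Subgroup.card_eq_card_quotient_mul_card_subgroup (Cfsg.pCore 3 _), Nat.card_congr S.e.toEquiv,
    S.hRcard, PSpAmalgam31.sl_card]

theorem Q_card : Nat.card S.Q = 27 := by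
  rw [Setup.Q, Subgroup.card_map_of_injective (Subgroup.subtype_injective _), S.hRcard]

/-- An element of order three of `C(a)` inverted by an involution of `C(a)` lies in the core. -/
theorem mem_Q_of {x t : G} (hxC : x ∈ S.C) (htC : t ∈ S.C) (ht : t * t = 1) (hx : x * x * x = 1)
    (hinv : t * x * t = x * x) : x ∈ S.Q := by
  haveI : (Cfsg.pCore 3 (Subgroup.centralizer ({S.a} : Set G))).Normal := Cfsg.pCore_normal 3 _
  set f := S.e.toMonoidHom.comp (QuotientGroup.mk' (Cfsg.pCore 3 (Subgroup.centralizer ({S.a} : Set G))))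
  set x' : Subgroup.centralizer ({S.a} : Set G) := ⟨x, hxC⟩
  set t' : Subgroup.centralizer ({S.a} : Set G) := ⟨t, htC⟩
  have h1 : f t' * f t' = 1 := by rw [← map_mul, show t' * t' = 1 from Subtype.ext ht, map_one]
  have h2 : f t' * f x' * f t' = f x' * f x' := by
    rw [← map_mul, ← map_mul, ← map_mul, show t' * x' * t' = x' * x' from Subtype.ext hinv]
  have h3 : f t' * f x' = f x' * f t' := by
    rcases PSpAmalgam31.sl_invol _ h1 with e | e <;> rw [e]
    · rw [one_mul, mul_one]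
    · exact PSpAmalgam31.sneg_central _
  have h4 : f x' = 1 := by
    rw [h3, mul_assoc, h1, mul_one] at h2
    exact mul_eq_left.1 h2.symm
  refine ⟨x', ?_, rfl⟩
  rw [MonoidHom.comp_apply, MulEquiv.coe_toMonoidHom, EmbeddingLike.map_eq_one_iff] at h4
  exact (QuotientGroup.eq_one_iff _).1 h4

theorem mem_C_iff {g : G} : g ∈ S.C ↔ g * S.a = S.a * g := Subgroup.mem_centralizer_singleton_iff

/-- The cycle `φ rot` is conjugate inside `C(a)` to `e₁ e₂⁻¹`. -/
theorem Hy.rot_conj (H : Hy F) :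
    ∃ c ∈ S.C, c * E F (belp wTri) * c⁻¹ = E F prot := by
  classical
  haveI : Fintype G := Fintype.ofFinite G
  haveI : (Cfsg.pCore 3 (Subgroup.centralizer ({S.a} : Set G))).Normal := Cfsg.pCore_normal 3 _
  obtain ⟨ht, hr3, -, hta, hra, htt, htw, -, hrb⟩ := rot_facts
  set w := E F (belp wTri) with hw
  set t := E F ptau
  have htC : t ∈ S.C := mem_C_iff.2 (by rw [← E_a F]; exact (com_iff F).2 hta)
  have hwC : w ∈ S.C := mem_C_iff.2 (congrArg Subtype.val (S.hJcomm.is_comm.comm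
    ⟨w, (inBase_iff F).2 ⟨_, rfl⟩⟩ ⟨S.a, a_memJ F⟩))
  have htt' : t * t = 1 := by rw [← E_mul, htt, E_one]
  have hwQ : w ∈ S.Q := mem_Q_of hwC htC htt'
    (by rw [mul_assoc, ← E_mul, ← E_mul, belp_cube, E_one])
    (by rw [mul_assoc, ← E_mul, ← E_mul, ← E_mul]; exact congrArg (E F) htw)
  have hrQ : E F prot ∈ S.Q := mem_Q_of (mem_C_iff.2 (by rw [← E_a F]; exact (com_iff F).2 hra)) htC htt'
    (by rw [mul_assoc, ← E_mul, ← E_mul, hr3, E_one])
    (by rw [mul_assoc, ← E_mul, ← E_mul, ← E_mul]; exact congrArg (E F) ht)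
  let Cf : Finset G := Finset.univ.filter (· ∈ S.C)
  let A : Finset G := {1, S.a, S.a ^ 2}
  let T : Finset G := Finset.univ.filter (· ∈ S.Q) \ A
  have ha2 : S.a ^ 2 = E F (belp (2, 2, 2)) := by
    rw [sq, ← E_a F, ← E_mul]
    exact congrArg (E F) (by decide +kernel)
  have hCf : Cf.card = 648 := by
    rw [← card_C (S := S), Nat.card_eq_fintype_card, Fintype.card_subtype]
  have hfix : ∀ c ∈ Cf, ∀ x ∈ A, c * x * c⁻¹ = x := by
    intro c hc x hx
    have hca : c * S.a = S.a * c := mem_C_iff.1 (Finset.mem_filter.1 hc).2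
    simp only [A, Finset.mem_insert, Finset.mem_singleton] at hx
    rcases hx with rfl | rfl | rfl
    · group
    · rw [hca, mul_inv_cancel_right]
    · rw [((show Commute c S.a from hca).pow_right 2).eq, mul_inv_cancel_right]
  have hwA : w ∉ A := by
    simp only [A, Finset.mem_insert, Finset.mem_singleton, ha2]
    rintro (e | e | e)
    · exact absurd ((E_eq_one F).1 e) (by decide +kernel)
    · rw [← E_a F] at e; exact absurd (belp_inj _ _ (E_inj F e)) (by decide)
    · exact absurd (belp_inj _ _ (E_inj F e)) (by decide)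
  have himg : ∀ c ∈ Cf, c * w * c⁻¹ ∈ T := by
    intro c hc
    refine Finset.mem_sdiff.2 ⟨Finset.mem_filter.2 ⟨Finset.mem_univ _, ?_⟩, fun hA => hwA ?_⟩
    · obtain ⟨r, hr, hrw⟩ := hwQ
      refine ⟨⟨c, (Finset.mem_filter.1 hc).2⟩ * r * ⟨c, (Finset.mem_filter.1 hc).2⟩⁻¹,
        (inferInstance : (Cfsg.pCore 3 (Subgroup.centralizer ({S.a} : Set G))).Normal).conj_mem r hr _, ?_⟩
      show c * ((r : Subgroup.centralizer ({S.a} : Set G)) : G) * c⁻¹ = c * w * c⁻¹
      rw [← hrw]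
      rfl
    · have hx := hfix c hc _ hA
      have : c * w * c⁻¹ = w := by
        calc c * w * c⁻¹ = c⁻¹ * (c * (c * w * c⁻¹) * c⁻¹) * c := by group
          _ = c⁻¹ * (c * w * c⁻¹) * c := by rw [hx]
          _ = w := by group
      rwa [this] at hA
  have hfib : ∀ x ∈ Cf.image (fun c => c * w * c⁻¹), (Cf.filter fun c => c * w * c⁻¹ = x).card ≤ 27 := by
    intro x hx
    obtain ⟨c₀, hc₀, rfl⟩ := Finset.mem_image.1 hx
    calc (Cf.filter fun c => c * w * c⁻¹ = c₀ * w * c₀⁻¹).card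
        ≤ ((Finset.univ : Finset Tri).image fun b => c₀ * E F (belp b)).card := by
          refine Finset.card_le_card fun c hc => ?_
          obtain ⟨hc, e⟩ := Finset.mem_filter.1 hc
          have hd : c₀⁻¹ * c * w = w * (c₀⁻¹ * c) := by
            calc c₀⁻¹ * c * w = c₀⁻¹ * (c * w * c⁻¹) * c := by group
              _ = c₀⁻¹ * (c₀ * w * c₀⁻¹) * c := by rw [e]
              _ = w * (c₀⁻¹ * c) := by group
          obtain ⟨p, hp⟩ := exists_E F (H.small (show Small wTri by decide) hd)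
          have hmem : c₀⁻¹ * c ∈ S.C :=
            S.C.mul_mem (S.C.inv_mem (Finset.mem_filter.1 hc₀).2) (Finset.mem_filter.1 hc).2
          have hda := mem_C_iff.1 hmem
          rw [hw, ← hp, com_iff] at hd
          rw [← hp, ← E_a F, com_iff] at hda
          obtain ⟨b, rfl⟩ := cent_w_a p hda hd
          exact Finset.mem_image.2 ⟨b, Finset.mem_univ _, by rw [hp, mul_inv_cancel_left]⟩
      _ ≤ (Finset.univ : Finset Tri).card := Finset.card_image_le
      _ = 27 := by simp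
  have h24 : 24 ≤ (Cf.image fun c => c * w * c⁻¹).card := by
    have := Finset.card_le_mul_card_image Cf 27 hfib
    omega
  have hA3 : A.card = 3 := by
    have h1 : S.a ≠ 1 := fun e => by have := S.ha; rw [e, orderOf_one] at this; norm_num at this
    have h2 : S.a ^ 2 ≠ 1 := fun e => by
      have := Nat.le_of_dvd (by norm_num) (orderOf_dvd_of_pow_eq_one e); rw [S.ha] at this; omega
    have h3 : S.a ≠ S.a ^ 2 := fun e => h1 (by
      rw [sq] at e
      exact mul_eq_left.1 e.symm)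
    simp [A, Ne.symm h1, Ne.symm h2, h3]
  have hT : T.card = 24 := by
    have hAQ : A ⊆ Finset.univ.filter (· ∈ S.Q) := by
      intro x hx
      refine Finset.mem_filter.2 ⟨Finset.mem_univ _, ?_⟩
      have haQ : S.a ∈ S.Q := by
        let a' : Subgroup.centralizer ({S.a} : Set G) := ⟨S.a, Subgroup.mem_centralizer_singleton_iff.2 rfl⟩
        have hn : (Subgroup.zpowers a').Normal := ⟨fun y hy c => by
          obtain ⟨k, rfl⟩ := Subgroup.mem_zpowers_iff.1 hy
          have hc : Commute c a' := Subtype.ext (Subgroup.mem_centralizer_singleton_iff.1 c.2)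
          rw [(hc.zpow_right k).eq, mul_inv_cancel_right]
          exact hy⟩
        have hp : IsPGroup 3 (Subgroup.zpowers a') := IsPGroup.of_card (n := 1) (by
          rw [Nat.card_zpowers, ← Subgroup.orderOf_coe, S.ha, pow_one])
        exact ⟨a', (le_sSup (show Subgroup.zpowers a' ∈ {N : Subgroup (Subgroup.centralizer ({S.a} : Set G)) |
          N.Normal ∧ IsPGroup 3 N} from ⟨hn, hp⟩)) (Subgroup.mem_zpowers a'), rfl⟩
      simp only [A, Finset.mem_insert, Finset.mem_singleton] at hx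
      rcases hx with rfl | rfl | rfl
      exacts [S.Q.one_mem, haQ, S.Q.pow_mem haQ 2]
    rw [Finset.card_sdiff_of_subset hAQ, hA3,
      show (Finset.univ.filter (· ∈ S.Q)).card = 27 by rw [← Q_card (S := S), Nat.card_eq_fintype_card, Fintype.card_subtype]]
  have heq : (Cf.image fun c => c * w * c⁻¹) = T :=
    Finset.eq_of_subset_of_card_le (Finset.image_subset_iff.2 himg) (by omega)
  have hrT : E F prot ∈ T := by
    refine Finset.mem_sdiff.2 ⟨Finset.mem_filter.2 ⟨Finset.mem_univ _, hrQ⟩, fun hA => hrb ?_⟩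
    simp only [A, Finset.mem_insert, Finset.mem_singleton, ha2] at hA
    rcases hA with e | e | e
    · exact ⟨(0, 0, 0), by rw [(E_eq_one F).1 e, belp_zero]⟩
    · rw [← E_a F] at e; exact ⟨_, E_inj F e⟩
    · exact ⟨_, E_inj F e⟩
  rw [← heq] at hrT
  obtain ⟨c, hc, e⟩ := Finset.mem_image.1 hrT
  exact ⟨c, (Finset.mem_filter.1 hc).2, e⟩

end Cfsg.Agent.Sp62Three31.One
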