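import Cfsg.Agent.Lib.Sp62Three31HalfEmbed
import Cfsg.Agent.S0077
import Cfsg.Agent.S0215

/-!
S3342 (helper25, piece P3): when the line of the inverted element is fixed by `N(J)`, it is normal.
-/

set_option autoImplicit false

namespace Cfsg.Agent.Sp62Three31

open PSpAmalgam31 (mem_normalizer_of_maps eq_one_of_pow_three)

universe u

namespace Loc25

variable {G : Type u} [Group G] [Finite G] {S : Setup G} {B : Basis S} (K : Closed S)

/-- A non-trivial normal subgroup has order divisible by three. -/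
theorem three_dvd_normal (S : Setup G) {M : Subgroup G} [hM : M.Normal] (hne : M ≠ ⊥) :
    3 ∣ Nat.card M := by
  by_contra hd
  refine hne (S.hJsig M ((Nat.Prime.coprime_iff_not_dvd Nat.prime_three).2 hd).symm fun j _ => ?_)
  refine Subgroup.eq_of_le_of_card_ge ?_ (Subgroup.card_map_of_injective (MulAut.conj j).injective).ge
  rintro y ⟨z, hz, rfl⟩
  exact hM.conj_mem z hz j

include K B in
/-- A non-trivial normal subgroup contains `a`. -/
theorem Closed.a_mem_normal {M : Subgroup G} [hM : M.Normal] (hne : M ≠ ⊥) : S.a ∈ M := by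
  haveI : Fact (Nat.Prime 3) := ⟨Nat.prime_three⟩
  obtain ⟨P, hP⟩ := exists_sylow S B K.hcJ K.hsyl
  obtain ⟨x, hx⟩ := exists_prime_orderOf_dvd_card' 3 (three_dvd_normal S hne)
  have hxo : orderOf (x : G) = 3 := by rw [Subgroup.orderOf_coe]; exact hx
  obtain ⟨P', hP'⟩ := (IsPGroup.of_card (p := 3) (n := 1) (G := Subgroup.zpowers (x : G))
    (by rw [Nat.card_zpowers, hxo, pow_one])).exists_le_sylow
  obtain ⟨g, hg⟩ := MulAction.exists_smul_eq G P' P
  set y := g * (x : G) * g⁻¹ with hy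
  have hyM : y ∈ M := hM.conj_mem _ x.2 g
  have hyS : y ∈ S0 S B := by
    have h1 := Subgroup.smul_mem_pointwise_smul _ (MulAut.conj g) (P' : Subgroup G)
      (hP' (Subgroup.mem_zpowers _))
    rw [← Sylow.pointwise_smul_def, show MulAut.conj g • P' = g • P' from rfl, hg, hP] at h1
    simpa [hy] using h1
  have hyo : orderOf y = 3 := by
    rw [hy, ← hxo]; exact (MulAut.conj g).orderOf_eq (x : G)
  have hy1 : y ≠ 1 := fun e => by rw [e, orderOf_one] at hyo; omega
  have fromZ : ∀ z ∈ Z S, z ∈ M → z ≠ 1 → S.a ∈ M := by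
    intro z hz hzM hz1
    rcases Z_cases S hz with e | e | e
    · exact absurd e hz1
    · exact e ▸ hzM
    · have := M.inv_mem hzM
      rwa [e, inv_inv] at this
  have fromQ : ∀ q ∈ S.Q, q ∈ M → q ≠ 1 → S.a ∈ M := by
    intro q hq hqM hq1
    by_cases hqZ : q ∈ Z S
    · exact fromZ q hqZ hqM hq1
    obtain ⟨w, hw, hwq⟩ : ∃ w ∈ S.Q, q * w ≠ w * q := by
      by_contra h
      push Not at h
      exact hqZ (central_Q S hq h)
    refine fromZ _ (comm_mem S hq hw) ?_ fun e => hwq (mul_inv_eq_iff_eq_mul.1 (mul_inv_eq_one.1 e))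
    rw [show q * w * q⁻¹ * w⁻¹ = q * (w * q⁻¹ * w⁻¹) by group]
    exact M.mul_mem hqM (hM.conj_mem _ (M.inv_mem hqM) w)
  rcases three_mem S B K.hcJ hyS (hyo ▸ pow_orderOf_eq_one y) with h | h
  · by_cases hyQ : y ∈ S.Q
    · exact fromQ y hyQ hyM hy1
    have hyC := JC S h
    have hc : y * B.q * y⁻¹ * B.q⁻¹ ∈ S.Q :=
      S.Q.mul_mem (Q_conj S (C_le_H S hyC) B.q_mem) (S.Q.inv_mem B.q_mem)
    refine fromQ _ hc ?_ fun e => ?_
    · rw [show y * B.q * y⁻¹ * B.q⁻¹ = y * (B.q * y⁻¹ * B.q⁻¹) by group]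
      exact M.mul_mem hyM (hM.conj_mem _ (M.inv_mem hyM) _)
    · have hy0Z : y ∉ Z S := fun hz => hyQ (Z_le_Q S hz)
      have hqJ := cent_S0 S B K.hcJ h hy0Z (Q_le_S0 S B B.q_mem)
        (mul_inv_eq_iff_eq_mul.1 (mul_inv_eq_one.1 e)).symm
      have h1 := (mem_D_iff S B K.hcJ B.q_mem).1 hqJ
      rw [φ_q] at h1
      exact absurd h1 (by simp)
  · exact fromQ y h hyM hy1

include B in
/-- An odd normal subgroup meets `N(⟨a⟩)` inside `Q`. -/
theorem odd_inter_le {M : Subgroup G} [hM : M.Normal] (ho : Odd (Nat.card M)) {m : G} (hm : m ∈ M)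
    (hmH : m ∈ H S) : m ∈ S.Q := by
  have hpow : ∀ x ∈ M, x ^ Nat.card M = 1 := fun x hx => PSpAmalgam31.pow_card_mem rfl hx
  have hC : ∀ x ∈ M, x ∈ H S → x ∈ S.C := by
    intro x hx hxH
    refine mem_C_of_det S B hxH fun h2 => ?_
    let δ : H S →* ZMod 3 :=
      { toFun := fun k => (mat S B (k : G)).det
        map_one' := by simp [mat_one]
        map_mul' := fun k k' => by rw [Subgroup.coe_mul, mat_mul S B k.2 k'.2, Matrix.det_mul] }
    have := congrArg δ (show (⟨x, hxH⟩ : H S) ^ Nat.card M = 1 from Subtype.ext (hpow x hx))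
    rw [map_pow, map_one, show δ ⟨x, hxH⟩ = 2 from h2] at this
    obtain ⟨k, hk⟩ := ho
    rw [hk, pow_succ, pow_mul, show (2 : ZMod 3) ^ 2 = 1 by decide, one_pow, one_mul] at this
    exact absurd this (by decide)
  have hmC := hC m hm hmH
  by_contra hmQ
  obtain ⟨v, hv⟩ := sl_normal (ρ S B ⟨m, hmC⟩) (fun e => hmQ ((ρ_one S B hmC).1 e))
  obtain ⟨w, rfl⟩ := ρ_surj S B v
  set N : Subgroup S.C := M.subgroupOf S.C with hN
  haveI : N.Normal := hM.subgroupOf _
  have hmN : (⟨m, hmC⟩ : S.C) ∈ N := hm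
  have hcw : (⟨m, hmC⟩ : S.C) * w * (⟨m, hmC⟩ : S.C)⁻¹ * w⁻¹ ∈ N := by
    rw [mul_assoc, mul_assoc, ← mul_assoc w]
    exact N.mul_mem hmN (Subgroup.Normal.conj_mem inferInstance _ (N.inv_mem hmN) w)
  obtain ⟨n, hnN, hn⟩ : ∃ n ∈ N, ρ S B n = sneg := by
    rcases hv with e | e | e | e | e
    · exact ⟨_, hmN, e⟩
    · exact ⟨_, N.mul_mem hmN hmN, by rw [map_mul, e]⟩
    · exact ⟨_, N.mul_mem (N.mul_mem hmN hmN) hmN, by rw [map_mul, map_mul, e]⟩
    · exact ⟨_, N.mul_mem hcw hcw, by rw [← e]; simp only [map_mul, map_inv]⟩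
    · exact ⟨_, hcw, by rw [← e]; simp only [map_mul, map_inv]⟩
  have h1 : ρ S B n ^ Nat.card M = 1 := by
    rw [← map_pow, show n ^ Nat.card M = 1 from Subtype.ext (by simpa using hpow _ hnN), map_one]
  obtain ⟨k, hk⟩ := ho
  rw [hn, hk, pow_succ, pow_mul, sq, show sneg * sneg = 1 from PSpAmalgam31.sneg_spec.1, one_pow, one_mul] at h1
  exact PSpAmalgam31.sneg_spec.2 h1

include K B in
/-- An odd normal subgroup meeting `Q` in `⟨a⟩` only is `⟨a⟩`. -/
theorem Closed.eq_Z {M : Subgroup G} [hM : M.Normal] (ho : Odd (Nat.card M)) (hne : M ≠ ⊥)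
    (hq : ∀ x ∈ M, x ∈ S.Q → x ∈ Z S) : M = Z S := by
  classical
  haveI : Fact (Nat.Prime 3) := ⟨Nat.prime_three⟩
  have hZM : Z S ≤ M := Subgroup.zpowers_le.2 (K.a_mem_normal (B := B) hne)
  have hin : ∀ m ∈ M, m ∈ H S → m ∈ Z S := fun m hm hmH => hq m hm (odd_inter_le (B := B) ho hm hmH)
  set Z' : Subgroup M := (Z S).subgroupOf M with hZ'
  have hnH : ∀ g : M, g ∈ Subgroup.normalizer (Z' : Set M) → (g : G) ∈ H S := by
    intro g hg
    rw [hZ', ← Subgroup.subgroupOf_normalizer_eq hZM] at hg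
    exact hg
  obtain ⟨R, hR⟩ := sylow_of_normalizer (p := 3) Z' (IsPGroup.of_card (n := 1)
      (by rw [Nat.card_congr (Subgroup.subgroupOfEquivOfLe hZM).toEquiv, card_Z, pow_one]))
    (fun g hg _ => hin g g.2 (hnH g hg))
  have hN : Subgroup.normalizer ((R : Subgroup M) : Set M) ≤
      Subgroup.centralizer ((R : Subgroup M) : Set M) := by
    intro g hg
    rw [hR] at hg ⊢
    exact Subgroup.mem_centralizer_iff.2 fun z hz => Subtype.ext
      (Z_comm S hz (Z_le_C S (hin g g.2 (hnH g hg)))).symm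
  set K0 := (MonoidHom.transferSylow R hN).ker with hK0
  have hco := MonoidHom.ker_transferSylow_isComplement' R hN
  have hK3 : ¬ 3 ∣ Nat.card K0 := MonoidHom.not_dvd_card_ker_transferSylow R hN
  have hmemK : ∀ y : M, ¬ 3 ∣ orderOf y → y ∈ K0 := by
    intro y hy
    rw [hK0, MonoidHom.mem_ker]
    obtain ⟨k, hk⟩ := R.2 (MonoidHom.transferSylow R hN y)
    have h1 : orderOf (MonoidHom.transferSylow R hN y) ∣ orderOf y := orderOf_map_dvd _ y
    have h2 := Nat.dvd_gcd h1 (orderOf_dvd_of_pow_eq_one hk)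
    have hc : Nat.gcd (orderOf y) (3 ^ k) = 1 :=
      Nat.Coprime.pow_right _ ((Nat.Prime.coprime_iff_not_dvd Nat.prime_three).2 hy).symm
    rw [hc, Nat.dvd_one] at h2
    exact orderOf_eq_one_iff.1 h2
  haveI hKn : (K0.map M.subtype).Normal := ⟨by
    rintro _ ⟨⟨y, hyM⟩, hyK, rfl⟩ g
    refine ⟨⟨g * y * g⁻¹, hM.conj_mem y hyM g⟩, hmemK _ ?_, rfl⟩
    rw [← Subgroup.orderOf_coe]
    show ¬ 3 ∣ orderOf (MulAut.conj g y)
    rw [MulEquiv.orderOf_eq]
    intro hd
    refine hK3 (hd.trans ?_)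
    have := Subgroup.orderOf_dvd_natCard K0 hyK
    rwa [← Subgroup.orderOf_coe] at this⟩
  have hKb : K0.map M.subtype = ⊥ := by
    by_contra hb
    have := three_dvd_normal S (M := K0.map M.subtype) hb
    rw [Subgroup.card_map_of_injective M.subtype_injective] at this
    exact hK3 this
  refine le_antisymm (fun m hm => ?_) hZM
  obtain ⟨⟨k, r⟩, he⟩ := hco.2 ⟨m, hm⟩
  have hk1 : ((k : M) : G) = 1 := Subgroup.mem_bot.1 (hKb ▸ ⟨_, k.2, rfl⟩)
  have he' : ((k : M) : G) * ((r : M) : G) = m := congrArg Subtype.val he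
  rw [hk1, one_mul] at he'
  exact he' ▸ hR.le r.2

include K B in
/-- An odd normal subgroup other than `1` yields that `⟨a⟩` is normal. -/
theorem Closed.normal_of_odd {N : Subgroup G} [hN : N.Normal] (ho : Odd (Nat.card N)) (hne : N ≠ ⊥) :
    (Z S).Normal := by
  classical
  haveI : Fact (Nat.Prime 3) := ⟨Nat.prime_three⟩
  by_cases hq : ∀ x ∈ N, x ∈ S.Q → x ∈ Z S
  · exact K.eq_Z (B := B) ho hne hq ▸ hN
  push Not at hq
  obtain ⟨x, hxN, hxQ, hxZ⟩ := hq
  have haN : S.a ∈ N := K.a_mem_normal (B := B) hne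
  obtain ⟨c, -, hc⟩ := trans_Q S B hxQ hxZ
  have hdN : B.d ∈ N := by
    have := hN.conj_mem x hxN c⁻¹
    rw [← hc] at this
    simpa [mul_assoc] using this
  have hQN : S.Q ≤ N := by
    intro q hq
    by_cases hqZ : q ∈ Z S
    · exact (Subgroup.zpowers_le.2 haN) hqZ
    · obtain ⟨c, -, rfl⟩ := trans_Q S B hq hqZ
      exact hN.conj_mem _ hdN c
  have hnH : ∀ g : N, g ∈ Subgroup.normalizer ((S.Q.subgroupOf N : Subgroup N) : Set N) → (g : G) ∈ H S := by
    intro g hg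
    rw [← Subgroup.subgroupOf_normalizer_eq hQN] at hg
    refine mem_H_of S (central_Q S ((Subgroup.mem_normalizer_iff.1 hg _).1 (a_mem_Q S)) fun y hy => ?_)
    have hy' : (g : G)⁻¹ * y * g ∈ S.Q := by
      simpa using (Subgroup.mem_normalizer_iff.1 ((Subgroup.normalizer _).inv_mem hg) y).1 hy
    calc (g : G) * S.a * (g : G)⁻¹ * y = g * (S.a * ((g : G)⁻¹ * y * g)) * (g : G)⁻¹ := by group
      _ = g * ((g : G)⁻¹ * y * g * S.a) * (g : G)⁻¹ := by rw [(mem_C S).1 (Q_le S hy')]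
      _ = y * (g * S.a * (g : G)⁻¹) := by group
  obtain ⟨P, hP⟩ := sylow_of_normalizer (p := 3) (S.Q.subgroupOf N) (IsPGroup.of_card (n := 3)
      (by rw [Nat.card_congr (Subgroup.subgroupOfEquivOfLe hQN).toEquiv, Q_card]; norm_num))
    (fun g hg _ => odd_inter_le (B := B) ho g.2 (hnH g hg))
  set Z' : Subgroup N := (Z S).subgroupOf N
  have hZN : Z S ≤ N := Subgroup.zpowers_le.2 haN
  have hcen : Z' ≤ Subgroup.centralizer ((P : Subgroup N) : Set N) := fun z hz =>
    Subgroup.mem_centralizer_iff.2 fun p hp => Subtype.ext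
      (Z_comm S hz (Q_le S ((hP ▸ hp : p ∈ S.Q.subgroupOf N))))
  have hwc : Cfsg.IsWeaklyClosed Z' P := by
    refine ⟨fun z hz => hP ▸ Z_le_Q S hz, fun g hg => ?_⟩
    have hga : (⟨(g : G) * S.a * (g : G)⁻¹, hN.conj_mem _ haN _⟩ : N) ∈ (P : Subgroup N) :=
      hg ⟨⟨S.a, haN⟩, Subgroup.mem_zpowers S.a, Subtype.ext rfl⟩
    rw [hP] at hga
    have hgH : (g : G) ∈ H S := closed_S0 S B K.hcJ K.hfus K.hW (Q_le_S0 S B hga)
    refine Subgroup.eq_of_le_of_card_ge ?_
      (Subgroup.card_map_of_injective (MulAut.conj g).injective).ge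
    rintro y ⟨z, hz, rfl⟩
    exact (Subgroup.mem_normalizer_iff.1 hgH z).1 hz
  have h77 := S0077.result P Z' hcen hwc
  have hnsub : ⁅Subgroup.normalizer (Z' : Set N), Subgroup.normalizer (Z' : Set N)⁆ ≤ Z' := by
    refine Subgroup.commutator_le.2 fun g hg h hh => ?_
    rw [← Subgroup.subgroupOf_normalizer_eq hZN] at hg hh
    exact comm_mem S (odd_inter_le (B := B) ho g.2 hg) (odd_inter_le (B := B) ho h.2 hh)
  have hmap : ⁅N, N⁆ = (commutator N).map N.subtype := by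
    rw [commutator_def, Subgroup.map_commutator, ← MonoidHom.range_eq_map, Subgroup.range_subtype]
  set M : Subgroup G := ⁅N, N⁆ with hM
  have hMN : M ≤ N := by rw [hmap]; exact Subgroup.map_subtype_le _
  have hMo : Odd (Nat.card M) := Odd.of_dvd_nat ho (Subgroup.card_dvd_of_le hMN)
  have hMne : M ≠ ⊥ := by
    intro e
    have : B.d * B.q * B.d⁻¹ * B.q⁻¹ ∈ M :=
      Subgroup.commutator_mem_commutator hdN (hQN B.q_mem)
    rw [e, B.comm, Subgroup.mem_bot] at this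
    exact a_ne S this
  have hMQ : ∀ m ∈ M, m ∈ S.Q → m ∈ Z S := by
    intro m hm hmQ
    rw [hmap] at hm
    obtain ⟨m', hm', rfl⟩ := hm
    exact hnsub (h77.le ⟨hm', hP ▸ hmQ⟩).1
  exact K.eq_Z (B := B) hMo hMne hMQ ▸ (inferInstance : M.Normal)

end Loc25

/-- P3: an inverted element whose line is fixed by `N(J)` generates a normal subgroup. -/
theorem Setup.closed_normal {G : Type u} [Group G] [Finite G] (S : Setup G)
    (hcJ : Subgroup.centralizer (S.J : Set G) = S.J) (hsyl : ¬ 3 ^ 5 ∣ Nat.card G)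
    (hfus : ∀ g : G, g * S.a * g⁻¹ ∈ S.J →
      ∃ n ∈ Subgroup.normalizer (S.J : Set G), n * S.a * n⁻¹ = g * S.a * g⁻¹)
    (hinv : S.Inverted) (hW : S.WeaklyClosed) :
    Subgroup.normalizer (Subgroup.zpowers S.a : Set G) = ⊤ := by
  classical
  by_contra hH
  obtain ⟨B⟩ := Loc25.exists_basis S hcJ
  have K : Loc25.Closed S := ⟨hcJ, hsyl, hfus, hW, hinv⟩
  obtain ⟨T⟩ := Loc25.exists_two B hinv
  obtain ⟨P, htP, hiso⟩ := K.exists_isolated T hH
  obtain ⟨N, hN, ho, hcomm⟩ := S0215.result P T.t (Loc25.order_t T) htP hiso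
  haveI := hN
  by_cases hne : N = ⊥
  · subst hne
    have hcen : ∀ g : G, g * T.t * g⁻¹ = T.t := fun g => by
      have h := Subgroup.mem_bot.1 (hcomm g)
      rw [mul_inv_eq_one, mul_inv_eq_iff_eq_mul] at h
      rw [← h, mul_inv_cancel_right]
    have hb := S.hJsig (Subgroup.zpowers T.t)
      (by rw [Nat.card_zpowers, Loc25.order_t T]; norm_num) fun j _ => by
        rw [MonoidHom.map_zpowers]
        exact congrArg _ (hcen j)
    exact Loc25.t_ne T (Subgroup.zpowers_eq_bot.1 hb)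
  · haveI := K.normal_of_odd (B := B) ho hne
    exact hH (Subgroup.normalizer_eq_top (Subgroup.zpowers S.a))

end Cfsg.Agent.Sp62Three31
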