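import Cfsg.Agent.Lib.Sp62Three31Model
import Cfsg.Agent.Lib.SymplecticOrder
import Cfsg.Agent.Lib.SymplecticSimple
import Cfsg.Agent.Lib.Sp62Three31E7Data13

/-!
The model side of the E7 step of S3342: words in the seven transvections, the Sylow 3-subgroup of
Sp(6,2) and the conjugation of its elements of order three into three representatives.
-/

set_option autoImplicit false
set_option maxRecDepth 100000

namespace Cfsg.Agent.Sp62Three31.E7Model13

open Cfsg.Agent.SymplecticBasic Cfsg.Agent.PSp62MultiplierData Cfsg.Agent.PSp62MultiplierE7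
open Cfsg.Agent.Sp62Three31.Data13

/-- The transvection at the letter `i` conjugated by the word `L`. -/
def cj (L : List (Fin 7)) (i : Fin 7) : List (Fin 7) := L ++ [i] ++ L.reverse

def wP23 : List (Fin 7) := [6, 5, 3, 4, 3, 5, 4]
def wB13 : List (Fin 7) := cj wP23 2
def wE : List (Fin 7) := cj [0, 1, 3, 2, 3, 1, 0, 2] 6
def wM14 : List (Fin 7) := [5, 1] ++ wB13 ++ [1, 5]
def lD3 : List (Fin 7) := wE ++ [5, 1] ++ wP23
def lD2 : List (Fin 7) := wP23 ++ wE ++ [5, 1] ++ wP23
def wD3 : List (Fin 7) := cj lD3 2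
def wD2 : List (Fin 7) := cj lD2 2
def wP13 : List (Fin 7) := [0] ++ wE ++ [0] ++ wM14 ++ wB13
def wTau : List (Fin 7) := wP23 ++ wP13 ++ wP23
def wRot : List (Fin 7) := wTau ++ wP23

/-- The three weight-one elements as words. -/
def wC : Fin 3 → List (Fin 7) := ![[0, 1], wD2 ++ [3], wD3 ++ [5]]

/-- The representatives of the classes of elements of order three. -/
def wRep : Fin 3 → List (Fin 7) := ![wC 2, wC 0 ++ wC 1, wC 0 ++ wC 1 ++ wC 2]

/-- The element of a word. -/
def pt (L : List (Fin 7)) : Sp62 := (L.map t).prod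

theorem pt_append (L M : List (Fin 7)) : pt (L ++ M) = pt L * pt M := by
  simp [pt]

theorem pt_single (i : Fin 7) : pt [i] = t i := by simp [pt]

theorem pt_reverse (L : List (Fin 7)) : pt L.reverse = (pt L)⁻¹ := by
  induction L with
  | nil => simp [pt]
  | cons a L ih =>
    rw [List.reverse_cons, pt_append, ih, pt_single, ← List.singleton_append, pt_append, pt_single,
      _root_.mul_inv_rev, inv_eq_of_mul_eq_one_right (t_sq a)]

theorem pt_cj (L : List (Fin 7)) (i : Fin 7) :
    pt (cj L i) = tv (wn L (vv i)) := by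
  have hv : vv i < 64 := by revert i; decide
  have hs : pt L • vec (vv i) = vec (wn L (vv i)) := prod_smul L hv
  rw [cj, pt_append, pt_append, pt_single, pt_reverse, show t i = transv (vec (vv i)) 1 from rfl,
    transv_conj, hs]
  rfl

theorem vec_inj : ∀ n m : Fin 64, vec n.val = vec m.val → n = m := by decide +kernel

theorem vec_inj' {n m : ℕ} (hn : n < 64) (hm : m < 64) (h : vec n = vec m) : n = m :=
  congrArg Fin.val (vec_inj ⟨n, hn⟩ ⟨m, hm⟩ h)

theorem vec_xor (a b : ℕ) : vec (a ^^^ b) = vec a + vec b := by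
  funext k
  rcases k with i | i <;> simp only [vec, Sum.elim_inl, Sum.elim_inr, Pi.add_apply, Nat.testBit_xor]
  · cases a.testBit i.val <;> cases b.testBit i.val <;> decide
  · cases a.testBit (i.val + 3) <;> cases b.testBit (i.val + 3) <;> decide

theorem vec_zero : vec 0 = 0 := by decide +kernel

/-- The sum of the selected values. -/
def xs (f : ℕ → ℕ) (n : ℕ) : ℕ :=
  let g := fun i => if n.testBit i then f i else 0
  g 0 ^^^ g 1 ^^^ g 2 ^^^ g 3 ^^^ g 4 ^^^ g 5

theorem xs_pow : ∀ n : Fin 64, xs (2 ^ ·) n.val = n.val := by decide +kernel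

/-- The image of a bit string under the images of the six basis strings. -/
def app (k : List ℕ) (n : ℕ) : ℕ := xs (fun i => k.getD i 0) n

/-- Composition of two lists of images. -/
def comp (a b : List ℕ) : List ℕ := b.map (app a)

/-- A list of images describes an element. -/
def Is (x : Sp62) (k : List ℕ) : Prop :=
  k.length = 6 ∧ ∀ i : Fin 6, x • vec (2 ^ i.val) = vec (k.getD i.val 0) ∧ k.getD i.val 0 < 64

theorem Is.smul {x : Sp62} {k : List ℕ} (h : Is x k) {n : ℕ} (hn : n < 64) :
    x • vec n = vec (app k n) := by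
  have hb : ∀ i, i < 6 → x • vec (2 ^ i) = vec (k.getD i 0) := fun i hi => (h.2 ⟨i, hi⟩).1
  have hsel : ∀ i, i < 6 → x • vec (if n.testBit i then 2 ^ i else 0) =
      vec (if n.testBit i then k.getD i 0 else 0) := fun i hi => by
    split
    · exact hb i hi
    · rw [vec_zero, smul_zero]
  conv_lhs => rw [← show xs (2 ^ ·) n = n from xs_pow ⟨n, hn⟩]
  simp only [app, xs, vec_xor, smul_add]
  rw [hsel 0 (by norm_num), hsel 1 (by norm_num), hsel 2 (by norm_num), hsel 3 (by norm_num),
    hsel 4 (by norm_num), hsel 5 (by norm_num)]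

theorem xor_lt {a b : ℕ} (ha : a < 64) (hb : b < 64) : a ^^^ b < 64 :=
  Nat.xor_lt_two_pow (n := 6) ha hb

theorem app_lt {k : List ℕ} (h : ∀ i : Fin 6, k.getD i.val 0 < 64) (n : ℕ) : app k n < 64 := by
  have hs : ∀ i, i < 6 → (if n.testBit i then k.getD i 0 else 0) < 64 := fun i hi => by
    split
    · exact h ⟨i, hi⟩
    · norm_num
  exact xor_lt (xor_lt (xor_lt (xor_lt (xor_lt (hs 0 (by norm_num)) (hs 1 (by norm_num)))
    (hs 2 (by norm_num))) (hs 3 (by norm_num))) (hs 4 (by norm_num))) (hs 5 (by norm_num))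

theorem Is.mul {x y : Sp62} {a b : List ℕ} (hx : Is x a) (hy : Is y b) : Is (x * y) (comp a b) := by
  refine ⟨by simp [comp, hy.1], fun i => ?_⟩
  have hi : i.val < b.length := by rw [hy.1]; exact i.isLt
  have e : (comp a b).getD i.val 0 = app a (b.getD i.val 0) := by
    simp [comp, List.getD_eq_getElem?_getD, hi]
  rw [e]
  refine ⟨?_, app_lt (fun j => (hx.2 j).2) _⟩
  rw [mul_smul, (hy.2 i).1, hx.smul (hy.2 i).2]

theorem basis_vec6 : ∀ k : Fin 3 ⊕ Fin 3, ∃ i : Fin 6, (Pi.single k 1 : V6) = vec (2 ^ i.val) := by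
  decide +kernel

theorem Is.eq {x y : Sp62} {a : List ℕ} (hx : Is x a) (hy : Is y a) : x = y := by
  refine ext_smul_single fun k => ?_
  obtain ⟨i, hi⟩ := basis_vec6 k
  rw [hi, (hx.2 i).1, (hy.2 i).1]

theorem Is.unique {x : Sp62} {a b : List ℕ} (ha : Is x a) (hb : Is x b) : a = b := by
  refine List.ext_getElem (ha.1.trans hb.1.symm) fun i h1 h2 => ?_
  have hi : i < 6 := ha.1 ▸ h1
  have := vec_inj' (ha.2 ⟨i, hi⟩).2 (hb.2 ⟨i, hi⟩).2
    ((ha.2 ⟨i, hi⟩).1.symm.trans (hb.2 ⟨i, hi⟩).1)
  simpa [List.getD_eq_getElem?_getD, h1, h2] using this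

/-- The identity key. -/
def idKey : List ℕ := [1, 2, 4, 8, 16, 32]

theorem is_one : Is 1 idKey :=
  ⟨rfl, fun i => by
    have h : idKey.getD i.val 0 = 2 ^ i.val ∧ 2 ^ i.val < 64 := by revert i; decide
    rw [h.1, one_smul]; exact ⟨rfl, h.2⟩⟩

/-- The action of a letter, from the packed table. -/
def stepF (i : Fin 7) (x : ℕ) : ℕ := (stepTable.getD i.val 0 >>> (6 * x)) &&& 63

/-- The action of a word, from the packed tables. -/
def wnF : List (Fin 7) → ℕ → ℕ
  | [], x => x
  | i :: w, x => stepF i (wnF w x)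

theorem stepF_eq : ∀ (i : Fin 7) (n : Fin 64), stepF i n.val = tn i n.val := by decide +kernel

theorem wnF_eq : ∀ (w : List (Fin 7)) {x : ℕ}, x < 64 → wnF w x = wn w x
  | [], _, _ => rfl
  | i :: w, x, h => by
    show stepF i (wnF w x) = tn i (wn w x)
    rw [wnF_eq w h]
    exact stepF_eq i ⟨_, wn_lt w h⟩

/-- The key of a word. -/
def wkey (L : List (Fin 7)) : List ℕ := idKey.map (wnF L)

theorem is_pt (L : List (Fin 7)) : Is (pt L) (wkey L) := by
  refine ⟨rfl, fun i => ?_⟩
  have h : 2 ^ i.val < 64 := Nat.pow_lt_pow_right (a := 2) (n := 6) (by norm_num) i.isLt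
  have e : (wkey L).getD i.val 0 = wn L (2 ^ i.val) := by
    rw [show (wkey L).getD i.val 0 = wnF L (2 ^ i.val) by fin_cases i <;> rfl, wnF_eq L h]
  rw [e]
  exact ⟨prod_smul L h, wn_lt L h⟩

theorem eq_of_key {L M : List (Fin 7)} (h : wkey L = wkey M) : pt L = pt M :=
  (is_pt L).eq (h ▸ is_pt M)

/-- The transvection at a vector reached by a word. -/
theorem tv_of (L : List (Fin 7)) (i : Fin 7) {n : ℕ} (h : wn L (vv i) = n) : tv n = pt (cj L i) := by
  rw [pt_cj, h]

theorem cyc3_eq : ∀ i : Fin 3, cyc3 i = pt (wC i) := by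
  intro i
  have e0 : tv 1 = t 0 := rfl
  have e1 : tv 8 = t 1 := rfl
  have e3 : tv 16 = t 3 := rfl
  have e5 : tv 32 = t 5 := rfl
  fin_cases i
  · show tv 1 * tv 8 = pt [0, 1]
    rw [e0, e1]; simp [pt]
  · show tv 2 * tv 16 = pt (wD2 ++ [3])
    rw [pt_append, pt_single, e3, tv_of lD2 2 (n := 2) (by decide +kernel)]; rfl
  · show tv 4 * tv 32 = pt (wD3 ++ [5])
    rw [pt_append, pt_single, e5, tv_of lD3 2 (n := 4) (by decide +kernel)]; rfl

/-- A subgroup given by a list of words: closed under left multiplication by some of its members,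
each entry being a generator times an earlier one. -/
theorem exists_subgroup (ws : List (List (Fin 7))) (ks gs : List (List ℕ)) (ps : List (ℕ × ℕ))
    (hk : ws.map wkey = ks) (hn : ks.Nodup) (h0 : ks.getD 0 [] = idKey) (hlen : ps.length + 1 = ks.length)
    (hg : (gs.all fun g => ks.contains g) = true)
    (hc : (gs.all fun g => ks.all fun a => ks.contains (comp g a)) = true)
    (hp : ((List.range ps.length).all fun k =>
      decide ((ps.getD k (0, 0)).1 < k + 1) && decide ((ps.getD k (0, 0)).2 < gs.length) &&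
        (comp (gs.getD (ps.getD k (0, 0)).2 []) (ks.getD (ps.getD k (0, 0)).1 []) ==
          ks.getD (k + 1) [])) = true) :
    ∃ H : Subgroup Sp62, Nat.card H = ws.length ∧ ∀ x, x ∈ H ↔ ∃ L ∈ ws, x = pt L := by
  classical
  set X : Finset Sp62 := (ws.map pt).toFinset with hX
  have mem : ∀ x, x ∈ X ↔ ∃ L ∈ ws, x = pt L := fun x => by simp [hX, eq_comm]
  have ofKey : ∀ x k, Is x k → k ∈ ks → x ∈ X := fun x k hx hkm => by
    rw [← hk, List.mem_map] at hkm
    obtain ⟨L, hL, rfl⟩ := hkm
    exact (mem x).mpr ⟨L, hL, hx.eq (is_pt L)⟩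
  have toKey : ∀ x, x ∈ X → ∃ k ∈ ks, Is x k := fun x hx => by
    obtain ⟨L, hL, rfl⟩ := (mem x).mp hx
    exact ⟨wkey L, hk ▸ List.mem_map_of_mem hL, is_pt L⟩
  have mkey : ∀ k, k ∈ ks → ∃ x, Is x k := fun k hkm => by
    rw [← hk, List.mem_map] at hkm
    obtain ⟨L, -, rfl⟩ := hkm
    exact ⟨_, is_pt L⟩
  have hpos : 0 < ks.length := by omega
  have hone : (1 : Sp62) ∈ X := ofKey _ _ is_one (by
    rw [← h0, List.getD_eq_getElem?_getD, List.getElem?_eq_getElem hpos]
    exact List.getElem_mem hpos)
  let M : Submonoid Sp62 :=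
    { carrier := {x | ∀ y ∈ X, x * y ∈ X}
      one_mem' := fun y hy => by simpa using hy
      mul_mem' := fun {a b} ha hb y hy => by rw [mul_assoc]; exact ha _ (hb _ hy) }
  have hgen : ∀ g ∈ gs, ∀ x, Is x g → x ∈ M := by
    intro g hgm x hx y hy
    obtain ⟨k, hkm, hyk⟩ := toKey y hy
    refine ofKey _ _ (hx.mul hyk) ?_
    simpa using List.all_eq_true.mp (List.all_eq_true.mp hc g hgm) k hkm
  have hall : ∀ n, n < ks.length → ∀ x, Is x (ks.getD n []) → x ∈ M := by
    intro n
    induction n using Nat.strong_induction_on with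
    | _ n ih =>
      intro hlt x hx
      rcases n with _ | k
      · rw [h0] at hx
        rw [hx.eq is_one]; exact M.one_mem
      · have hk' := List.all_eq_true.mp hp k (List.mem_range.mpr (by omega))
        simp only [Bool.and_eq_true, decide_eq_true_eq, beq_iff_eq] at hk'
        obtain ⟨⟨h1, h2⟩, h3⟩ := hk'
        have e1 : ∃ y, Is y (gs.getD (ps.getD k (0, 0)).2 []) := mkey _ (by
          have := List.all_eq_true.mp hg (gs.getD (ps.getD k (0, 0)).2 [])
            (by rw [List.getD_eq_getElem?_getD, List.getElem?_eq_getElem h2]; exact List.getElem_mem h2)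
          simpa using this)
        have hlt' : (ps.getD k (0, 0)).1 < ks.length := by omega
        have e2 : ∃ y, Is y (ks.getD (ps.getD k (0, 0)).1 []) := mkey _ (by
          rw [List.getD_eq_getElem?_getD, List.getElem?_eq_getElem hlt']; exact List.getElem_mem hlt')
        obtain ⟨y, hy⟩ := e1
        obtain ⟨z, hz⟩ := e2
        rw [← h3] at hx
        rw [hx.eq (hy.mul hz)]
        exact M.mul_mem (hgen _ (by
          rw [List.getD_eq_getElem?_getD, List.getElem?_eq_getElem h2]; exact List.getElem_mem h2) y hy)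
          (ih _ h1 hlt' z hz)
  have hmul : ∀ x y, x ∈ X → y ∈ X → x * y ∈ X := by
    intro x y hx hy
    obtain ⟨k, hkm, hxk⟩ := toKey x hx
    obtain ⟨n, hn', rfl⟩ := List.getElem_of_mem hkm
    refine hall n hn' x ?_ y hy
    rwa [List.getD_eq_getElem?_getD, List.getElem?_eq_getElem hn']
  have hpow : ∀ x ∈ X, ∀ n : ℕ, x ^ n ∈ X := fun x hx n => by
    induction n with
    | zero => simpa using hone
    | succ n ih => rw [pow_succ]; exact hmul _ _ ih hx
  have hinv : ∀ x ∈ X, x⁻¹ ∈ X := fun x hx => by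
    have : x⁻¹ = x ^ (orderOf x - 1) := by
      rw [inv_eq_iff_mul_eq_one, ← pow_succ', Nat.sub_add_cancel (orderOf_pos x), pow_orderOf_eq_one]
    rw [this]; exact hpow x hx _
  let H : Subgroup Sp62 :=
    { carrier := (X : Set Sp62)
      mul_mem' := fun ha hb => hmul _ _ ha hb
      one_mem' := hone
      inv_mem' := fun ha => hinv _ ha }
  refine ⟨H, ?_, mem⟩
  have hnd : (ws.map pt).Nodup := by
    rw [← hk] at hn
    rw [List.nodup_map_iff_inj_on (List.Nodup.of_map _ hn)]
    intro L hL M hM e
    exact List.inj_on_of_nodup_map hn hL hM ((is_pt L).unique (e ▸ is_pt M))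
  calc Nat.card H = Nat.card (X : Set Sp62) := rfl
    _ = X.card := Nat.card_eq_finsetCard X
    _ = ws.length := by rw [hX, List.toFinset_card_of_nodup hnd, List.length_map]

theorem syl_keys : sylWords.map wkey = sylKeys := by decide +kernel

theorem exists_syl : ∃ H : Subgroup Sp62, Nat.card H = 81 ∧ ∀ x, x ∈ H ↔ ∃ L ∈ sylWords, x = pt L :=
  exists_subgroup _ _ sylGens sylParents syl_keys (by decide +kernel) (by decide +kernel)
    (by decide +kernel) (by decide +kernel) (by decide +kernel) (by decide +kernel)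

theorem exists_quat : ∃ H : Subgroup Sp62, Nat.card H = 8 ∧ ∀ x, x ∈ H ↔ ∃ L ∈ quatWords, x = pt L :=
  exists_subgroup quatWords quatKeys quatGens quatParents (by decide +kernel) (by decide +kernel)
    (by decide +kernel) (by decide +kernel) (by decide +kernel) (by decide +kernel) (by decide +kernel)

theorem cyc_keys : ∀ i : Fin 3, wkey (wC i) = cycKeys.getD i.val [] := by decide +kernel

theorem rep_keys : ∀ j : Fin 3, wkey (wRep j) = repKeys.getD j.val [] := by decide +kernel

/-- Both lists commute with the central representative. -/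
theorem comm_central : ((sylKeys ++ quatKeys).all fun k =>
    comp k (repKeys.getD 2 []) == comp (repKeys.getD 2 []) k) = true := by decide +kernel

theorem quat_keys : quatWords.map wkey = quatKeys := by decide +kernel

theorem commute_central {L : List (Fin 7)} (h : L ∈ sylWords ∨ L ∈ quatWords) :
    pt L * pt (wRep 2) = pt (wRep 2) * pt L := by
  have hm : wkey L ∈ sylKeys ++ quatKeys := by
    rw [List.mem_append]
    rcases h with h | h
    · exact Or.inl (syl_keys ▸ List.mem_map_of_mem h)
    · exact Or.inr (quat_keys ▸ List.mem_map_of_mem h)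
  have hc := List.all_eq_true.mp comm_central _ hm
  rw [beq_iff_eq, ← show wkey (wRep 2) = repKeys.getD 2 [] from rep_keys 2] at hc
  exact ((is_pt L).mul (is_pt _)).eq (hc ▸ (is_pt _).mul (is_pt L))

theorem base_syl : ∀ i : Fin 3, sylKeys.contains (wkey (wC i)) = true := by
  intro i; rw [cyc_keys]; revert i; decide +kernel

/-- A cube test. -/
def cube (k : List ℕ) : Bool := comp (comp k k) k == idKey

theorem order_three_key {x : Sp62} {k : List ℕ} (hk : Is x k) (h : orderOf x = 3) :
    cube k = true ∧ k ≠ idKey := by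
  have h3 : x * x * x = 1 := by
    have := pow_orderOf_eq_one x
    rwa [h, pow_succ, pow_two] at this
  refine ⟨?_, fun e => ?_⟩
  · simp only [cube, beq_iff_eq]
    exact ((hk.mul hk).mul hk).unique (h3 ▸ is_one)
  · have : x = 1 := hk.eq (e ▸ is_one)
    rw [this, orderOf_one] at h
    norm_num at h

theorem wit_check : ((sylKeys.zip sylWit).all fun p =>
    if p.2.1 < 3 then
      let g := wkey p.2.2
      comp g p.1 == comp (repKeys.getD p.2.1 []) g
    else !cube p.1 || p.1 == idKey) = true := by decide +kernel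

theorem sylWit_length : sylWit.length = sylWords.length := by decide +kernel

theorem exists_rep {L : List (Fin 7)} (hL : L ∈ sylWords) (h : orderOf (pt L) = 3) :
    ∃ (g : Sp62) (j : Fin 3), g * pt L * g⁻¹ = pt (wRep j) := by
  obtain ⟨i, hi, rfl⟩ := List.getElem_of_mem hL
  have hi' : i < sylWit.length := sylWit_length ▸ hi
  have hk : i < sylKeys.length := by rw [← syl_keys, List.length_map]; exact hi
  have hz : i < (sylKeys.zip sylWit).length := by rw [List.length_zip]; omega
  have e : sylKeys[i] = wkey sylWords[i] :=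
    (List.getElem_of_eq syl_keys.symm hk).trans (List.getElem_map wkey)
  have hc := List.all_eq_true.mp wit_check _ (List.getElem_mem hz)
  rw [List.getElem_zip] at hc
  dsimp only at hc
  erw [e] at hc
  split at hc
  · rename_i hj
    refine ⟨pt sylWit[i].2, ⟨_, hj⟩, ?_⟩
    rw [mul_inv_eq_iff_eq_mul]
    rw [beq_iff_eq, ← show wkey (wRep ⟨_, hj⟩) = repKeys.getD sylWit[i].1 [] from rep_keys ⟨_, hj⟩] at hc
    exact ((is_pt _).mul (is_pt _)).eq (hc ▸ (is_pt _).mul (is_pt _))
  · exfalso
    simp only [Bool.or_eq_true, Bool.not_eq_true', beq_iff_eq] at hc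
    obtain ⟨h1, h2⟩ := order_three_key (is_pt sylWords[i]) h
    rcases hc with hc | hc
    · exact Bool.noConfusion (hc.symm.trans h1)
    · exact h2 hc

/-- An element of order three of the Sylow subgroup outside the base has few commuting partners. -/
theorem few_check : (sylKeys.all fun a => !cube a ||
    (cycKeys.all fun c => comp a c == comp c a) ||
    decide ((sylKeys.filter fun b => comp a b == comp b a).length < 27)) = true := by decide +kernel

theorem few {L : List (Fin 7)} (hL : L ∈ sylWords) (h3 : pt L ^ 3 = 1)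
    (hne : ¬ ∀ i, Commute (pt L) (pt (wC i))) (S : Finset Sp62)
    (hS : ∀ y ∈ S, (∃ M ∈ sylWords, y = pt M) ∧ Commute (pt L) y) : S.card < 27 := by
  classical
  have hk := is_pt L
  have hLk : wkey L ∈ sylKeys := syl_keys ▸ List.mem_map_of_mem hL
  have hc := List.all_eq_true.mp few_check _ hLk
  simp only [Bool.or_eq_true, Bool.not_eq_true', decide_eq_true_eq] at hc
  rcases hc with (hc | hc) | hc
  · have : cube (wkey L) = true := by
      simp only [cube, beq_iff_eq]
      refine ((hk.mul hk).mul hk).unique ?_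
      rw [show pt L * pt L * pt L = 1 by rw [← h3, pow_succ, pow_two]]; exact is_one
    simp [this] at hc
  · refine absurd (fun i => ?_) hne
    have h := List.all_eq_true.mp hc (wkey (wC i)) (by
      rw [cyc_keys]; revert i; decide +kernel)
    rw [beq_iff_eq] at h
    exact (hk.mul (is_pt _)).eq (h ▸ (is_pt _).mul hk)
  · refine lt_of_le_of_lt ?_ hc
    let key : Sp62 → List ℕ := fun y => if hy : ∃ M ∈ sylWords, y = pt M then wkey hy.choose else []
    have hkey : ∀ y ∈ S, key y ∈ sylKeys ∧ Is y (key y) := fun y hy => by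
      have e := (hS y hy).1
      simp only [key, dif_pos e]
      refine ⟨syl_keys ▸ List.mem_map_of_mem e.choose_spec.1, ?_⟩
      have := is_pt e.choose
      rwa [← e.choose_spec.2] at this
    refine le_trans ?_ (List.toFinset_card_le _)
    refine Finset.card_le_card_of_injOn key (fun y hy => ?_) (fun y hy z hz e => ?_)
    · rw [Finset.mem_coe, List.mem_toFinset, List.mem_filter, beq_iff_eq]
      obtain ⟨hm, hi⟩ := hkey y (Finset.mem_coe.mp hy)
      exact ⟨hm, (hk.mul hi).unique ((hS y hy).2.eq ▸ hi.mul hk)⟩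
    · exact (hkey y hy).2.eq (e ▸ (hkey z hz).2)

theorem card_Sp62 : Nat.card Sp62 = 1451520 := by
  rw [SymplecticOrder.card_symplectic (q := 2) (ZMod.card 2) 3]
  simp [Finset.prod_range_succ]

theorem simple_Sp62 : IsSimpleGroup Sp62 := by
  haveI : IsSimpleGroup (Cfsg.PSp 3 (ZMod 2)) :=
    SymplecticSimple.psp_simple 3 (by norm_num) (by norm_num)
  have hc : Subgroup.center Sp62 = ⊥ := by
    rw [← Subgroup.card_eq_one, SymplecticSimple.card_center (ZMod.card 2) (by norm_num)]
    norm_num
  let e : Cfsg.PSp 3 (ZMod 2) ≃* Sp62 :=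
    (QuotientGroup.quotientMulEquivOfEq hc).trans QuotientGroup.quotientBot
  haveI : Nontrivial Sp62 := e.toEquiv.symm.nontrivial
  exact IsSimpleGroup.isSimpleGroup_of_surjective e.toMonoidHom e.surjective

end Cfsg.Agent.Sp62Three31.E7Model13
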