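import Cfsg.Agent.Lib.Sp62Three31Setup
import Cfsg.Agent.Lib.Sp62Three31E7Model13
import Cfsg.Agent.Lib.S9Model37

/-!
The E7 step of S3342: in case II the cross transvections satisfy the E7 relations, generate a copy of
Sp(6,2), and that copy contains the centralisers of its elements of order three and its Sylow
3-normalisers.
-/

set_option autoImplicit false
set_option maxRecDepth 100000

namespace Cfsg.Agent.Sp62Three31.E7Main13

open Equiv S9Model37 Cfsg.Agent.PSp62MultiplierE7 Cfsg.Agent.Sp62Three31.E7Model13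
open Cfsg.Agent.PSp62MultiplierData (t t_gen t_sq t_braids t_cox vv wn)

universe u

variable {G : Type u} [Group G] {S : Setup G} {F : S.Frame} (c : F.CaseII)

/-- The copy of `S₆` on the blocks `i` and `i + 1`. -/
def K (i : Fin 3) : Perm (Fin 6) →* G :=
  (MulAut.conj (F.φ (Rot ^ i.val))).toMonoidHom.comp c.ι

theorem K_apply (i : Fin 3) (σ : Perm (Fin 6)) :
    K c i σ = F.φ (Rot ^ i.val) * c.ι σ * (F.φ (Rot ^ i.val))⁻¹ := rfl

theorem K_zero (σ : Perm (Fin 6)) : K c 0 σ = c.ι σ := by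
  simp [K_apply]

theorem cross_eq (i p q : Fin 3) :
    c.cross i p q = K c i (swap (Setup.Frame.CaseII.lo p) (Setup.Frame.CaseII.hi q)) := by
  rw [K_apply, map_pow]; rfl

theorem K_W (i : Fin 3) {σ : Perm (Fin 6)} {u v : W} (h : c.ι σ = F.φ u)
    (hv : Rot ^ i.val * u * (Rot ^ i.val)⁻¹ = v) : K c i σ = F.φ v := by
  rw [← hv, map_mul, map_mul, map_inv, ← h, K_apply]

/-- The block exchange on six points. -/
def tau6 : Perm (Fin 6) := swap 0 3 * swap 1 4 * swap 2 5

theorem i_tau : c.ι tau6 = F.φ Tau := c.six.map_tau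

theorem i01 : c.ι (swap 0 1) = F.φ D1 := c.six.map_d1

theorem i34 : c.ι (swap 3 4) = F.φ D2 := c.six.map_d2

theorem i12 : c.ι (swap 1 2) = F.φ (D1 * C1) := by
  rw [map_mul, ← i01 c, ← c.six.map_c1, ← map_mul]
  refine congrArg _ ?_
  decide +kernel

theorem i45 : c.ι (swap 4 5) = F.φ (D2 * C2) := by
  rw [map_mul, ← i34 c, ← c.six.map_c2, ← map_mul]
  refine congrArg _ ?_
  decide +kernel

theorem shift (i : Fin 3) {υ : Perm (Fin 6)} {u : W} (h : c.ι υ = F.φ u) (σ : Perm (Fin 6)) :
    F.φ (Rot ^ i.val * u) * c.ι σ * (F.φ (Rot ^ i.val * u))⁻¹ = K c i (υ * σ * υ⁻¹) := by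
  rw [K_apply, map_mul, map_mul, map_mul, map_inv, h]
  group

theorem K1_D1 (σ : Perm (Fin 6)) : Commute (K c 1 σ) (F.φ D1) := by
  have e : F.φ D1 = F.φ (Rot ^ 1) * F.φ D3 * (F.φ (Rot ^ 1))⁻¹ := by
    rw [← map_inv, ← map_mul, ← map_mul]; exact congrArg _ (Subtype.ext (by decide +kernel))
  rw [e]
  exact (c.d3 σ).map (MulAut.conj (F.φ (Rot ^ 1))).toMonoidHom

theorem K1_C1 (σ : Perm (Fin 6)) : Commute (K c 1 σ) (F.φ C1) := by
  have e : F.φ C1 = F.φ (Rot ^ 1) * F.φ C3 * (F.φ (Rot ^ 1))⁻¹ := by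
    rw [← map_inv, ← map_mul, ← map_mul]; exact congrArg _ (Subtype.ext (by decide +kernel))
  rw [e]
  exact (c.six.comm σ).map (MulAut.conj (F.φ (Rot ^ 1))).toMonoidHom

/-- The seven generators. -/
def T : Fin 7 → G :=
  ![K c 0 (swap 0 1), K c 0 (swap 1 2), K c 0 (swap 2 5), K c 0 (swap 4 5), K c 1 (swap 2 5),
    K c 1 (swap 4 5), K c 1 (swap 0 3)]

def s0 : Fin 7 → Perm (Fin 6) :=
  ![swap 0 1, swap 1 2, swap 2 5, swap 4 5, 1, 1, 1]

def s1 : Fin 7 → Perm (Fin 6) :=
  ![1, 1, 1, swap 1 2, swap 2 5, swap 4 5, swap 0 3]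

theorem T3_eq : T c 3 = F.φ (D2 * C2) := by
  show K c 0 (swap 4 5) = _
  rw [K_zero, i45 c]

theorem T5_eq : T c 5 = F.φ (D3 * C3) :=
  K_W c 1 (i45 c) (Subtype.ext (by decide +kernel))

theorem T0_eq : T c 0 = F.φ D1 := by
  show K c 0 (swap 0 1) = _
  rw [K_zero, i01 c]

theorem T1_eq : T c 1 = F.φ (D1 * C1) := by
  show K c 0 (swap 1 2) = _
  rw [K_zero, i12 c]

theorem T_low : ∀ i : Fin 7, i.val ≤ 3 → T c i = K c 0 (s0 i) := by
  intro i h
  rcases (show i = 0 ∨ i = 1 ∨ i = 2 ∨ i = 3 by omega) with rfl | rfl | rfl | rfl <;> rfl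

theorem T_high : ∀ i : Fin 7, 3 ≤ i.val → T c i = K c 1 (s1 i) := by
  intro i h
  rcases (show i = 3 ∨ i = 4 ∨ i = 5 ∨ i = 6 by omega) with rfl | rfl | rfl | rfl
  · exact (T3_eq c).trans (K_W c 1 (i12 c) (Subtype.ext (by decide +kernel))).symm
  · rfl
  · rfl
  · rfl

theorem T_sq (i : Fin 7) : T c i * T c i = 1 := by
  rcases le_or_gt i.val 3 with h | h
  · rw [T_low c i h, ← map_mul, show s0 i * s0 i = 1 by revert i; decide +kernel, map_one]
  · rw [T_high c i h.le, ← map_mul, show s1 i * s1 i = 1 by revert i; decide +kernel, map_one]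

variable (hrule : c.Rule)
include hrule

theorem T24 : Commute (T c 4) (T c 2) := by
  have h := hrule 1 2 2 2
  rw [cross_eq, cross_eq] at h
  exact h

theorem T6_K0 {r : Fin 3} {σ : Perm (Fin 6)}
    (hσ : swap (Setup.Frame.CaseII.lo r) (Setup.Frame.CaseII.hi 0) = σ) :
    Commute (T c 6) (K c 0 σ) := by
  have h := hrule 1 0 0 r
  rw [cross_eq, cross_eq, hσ] at h
  exact h

theorem T26 : T c 2 * T c 6 * T c 2 = T c 6 * T c 2 * T c 6 := by
  have hg : Commute (T c 6) (K c 0 (swap 2 3)) := T6_K0 c hrule (r := 2) rfl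
  set g := K c 0 (swap 2 3) with hgd
  have gg : g * g = 1 := by rw [hgd, ← map_mul, Equiv.swap_mul_self, map_one]
  set w := K c 1 (swap 0 2) with hwd
  have e2 : T c 2 = g * w * g := by
    have hw : w = K c 0 (swap 3 5) := by
      have a1 : K c 1 (swap 0 1) = c.ι (swap 3 4) := by
        rw [i34 c]; exact K_W c 1 (i01 c) (Subtype.ext (by decide +kernel))
      have a2 : K c 1 (swap 1 2) = c.ι (swap 4 5) := by
        rw [i45 c]; exact K_W c 1 (i12 c) (Subtype.ext (by decide +kernel))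
      rw [hwd, show (swap 0 2 : Perm (Fin 6)) = swap 0 1 * swap 1 2 * swap 0 1 by decide +kernel,
        map_mul, map_mul, a1, a2, ← map_mul, ← map_mul, K_zero]
      refine congrArg _ ?_
      decide +kernel
    rw [hw, hgd, ← map_mul, ← map_mul]
    show K c 0 (swap 2 5) = _
    refine congrArg _ ?_
    decide +kernel
  have hb : w * T c 6 * w = T c 6 * w * T c 6 := by
    show K c 1 (swap 0 2) * K c 1 (swap 0 3) * K c 1 (swap 0 2) =
      K c 1 (swap 0 3) * K c 1 (swap 0 2) * K c 1 (swap 0 3)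
    simp only [← map_mul]
    refine congrArg _ ?_
    decide +kernel
  have hgt : g * T c 6 * g = T c 6 := by rw [← hg.eq, mul_assoc, gg, mul_one]
  calc T c 2 * T c 6 * T c 2 = g * w * (g * T c 6 * g) * w * g := by rw [e2]; group
    _ = g * (w * T c 6 * w) * g := by rw [hgt]; group
    _ = (g * T c 6) * w * (T c 6 * g) := by rw [hb]; group
    _ = T c 6 * (g * w * g) * T c 6 := by
      have h : ∀ a b : G, a = T c 6 * g → b = g * T c 6 →
          a * w * b = T c 6 * (g * w * g) * T c 6 := fun a b ha hb => by subst ha hb; group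
      exact h _ _ hg.symm.eq hg.eq
    _ = T c 6 * T c 2 * T c 6 := by rw [e2]

theorem braids : Braids (T c) := by
  have hlow : ∀ i j : Fin 7, i.val ≤ 2 → 4 ≤ j.val → adj i j = false → Commute (T c i) (T c j) := by
    intro i j hi hj h
    have h1 := T_high c j (by omega)
    by_cases i0 : i = 0
    · subst i0; rw [T0_eq, h1]; exact (K1_D1 c _).symm
    by_cases i1 : i = 1
    · subst i1; rw [T1_eq, h1, map_mul]; exact (((K1_D1 c _).mul_right (K1_C1 c _))).symm
    have i2 : i = 2 := by omega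
    subst i2
    by_cases j4 : j = 4
    · subst j4; exact (T24 c hrule).symm
    by_cases j5 : j = 5
    · subst j5; rw [T5_eq, map_mul, show T c 2 = c.ι (swap 2 5) from K_zero c _]
      exact (c.d3 _).mul_right (c.six.comm _)
    have j6 : j = 6 := by omega
    subst j6
    exact absurd h (by decide)
  constructor
  · intro i j h
    by_cases hl : i.val ≤ 3 ∧ j.val ≤ 3
    · rw [T_low c i hl.1, T_low c j hl.2, ← map_mul, ← map_mul]
      refine congrArg _ ?_; revert i j; decide +kernel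
    by_cases hh : 3 ≤ i.val ∧ 3 ≤ j.val
    · rw [T_high c i hh.1, T_high c j hh.2, ← map_mul, ← map_mul]
      refine congrArg _ ?_; revert i j; decide +kernel
    rcases Nat.lt_or_ge i.val j.val with hij | hij
    · exact (hlow i j (by omega) (by omega) h).eq
    · exact (hlow j i (by omega) (by omega) (by revert i j; decide +kernel)).symm.eq
  · intro i j h
    by_cases hl : i.val ≤ 3 ∧ j.val ≤ 3
    · rw [T_low c i hl.1, T_low c j hl.2, ← map_mul, ← map_mul, ← map_mul, ← map_mul]
      refine congrArg _ ?_; revert i j; decide +kernel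
    by_cases hh : 3 ≤ i.val ∧ 3 ≤ j.val
    · rw [T_high c i hh.1, T_high c j hh.2, ← map_mul, ← map_mul, ← map_mul, ← map_mul]
      refine congrArg _ ?_; revert i j; decide +kernel
    have he : (i = 2 ∧ j = 6) ∨ (i = 6 ∧ j = 2) := by revert i j; decide +kernel
    rcases he with ⟨rfl, rfl⟩ | ⟨rfl, rfl⟩
    · exact T26 c hrule
    · exact (T26 c hrule).symm

omit hrule

/-- The element of a word. -/
def ev (L : List (Fin 7)) : G := (L.map (T c)).prod

theorem ev_append (L M : List (Fin 7)) : ev c (L ++ M) = ev c L * ev c M := by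
  simp [ev]

theorem ev_single (i : Fin 7) : ev c [i] = T c i := by simp [ev]

theorem ev_reverse (L : List (Fin 7)) : ev c L.reverse = (ev c L)⁻¹ := by
  induction L with
  | nil => simp [ev]
  | cons a L ih =>
    rw [List.reverse_cons, ev_append, ih, ev_single, ← List.singleton_append, ev_append, ev_single,
      _root_.mul_inv_rev, inv_eq_of_mul_eq_one_right (T_sq c a)]

theorem ev_cj (L : List (Fin 7)) (i : Fin 7) :
    ev c (cj L i) = ev c L * T c i * (ev c L)⁻¹ := by
  rw [cj, ev_append, ev_append, ev_single, ev_reverse]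

theorem ev_P23 : ev c wP23 = F.φ (Rot ^ 2 * Tau) := by
  have h : ev c wP23 = K c 1 tau6 := by
    simp only [ev, wP23, List.map_cons, List.map_nil, List.prod_cons, List.prod_nil, mul_one]
    rw [T_high c 6 (by decide), T_high c 5 (by decide), T_high c 3 (by decide), T_high c 4 (by decide)]
    simp only [← map_mul]
    refine congrArg _ ?_
    decide +kernel
  rw [h]
  exact K_W c 1 (i_tau c) (Subtype.ext (by decide +kernel))

theorem ev_B13 : ev c wB13 = K c 2 (swap 2 5) := by
  rw [wB13, ev_cj, ev_P23, show T c 2 = c.ι (swap 2 5) from K_zero c _]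
  have h := shift c 2 (i_tau c) (swap 2 5)
  rw [show tau6 * swap 2 5 * tau6⁻¹ = swap 2 5 by decide +kernel] at h
  exact h

theorem T5_K2 : T c 5 = K c 2 (swap 1 2) := by
  rw [T5_eq]; exact (K_W c 2 (i12 c) (Subtype.ext (by decide +kernel))).symm

theorem T1_K2 : T c 1 = K c 2 (swap 4 5) := by
  rw [T1_eq]; exact (K_W c 2 (i45 c) (Subtype.ext (by decide +kernel))).symm

theorem T0_K2 : T c 0 = K c 2 (swap 3 4) := by
  rw [T0_eq]; exact (K_W c 2 (i34 c) (Subtype.ext (by decide +kernel))).symm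

include hrule

theorem ev_E : ev c wE = K c 2 (swap 0 4) := by
  set q : W := D1 * Tau * D1 with hq
  have hb : ev c [0, 1, 3, 2, 3, 1, 0] = c.ι (swap 0 4) := by
    simp only [ev, List.map_cons, List.map_nil, List.prod_cons, List.prod_nil, mul_one]
    rw [T_low c 0 (by decide), T_low c 1 (by decide), T_low c 2 (by decide), T_low c 3 (by decide)]
    simp only [K_zero, ← map_mul]
    refine congrArg _ ?_
    decide +kernel
  have hc : Commute (T c 6) (c.ι (swap 1 3)) := by
    rw [← K_zero c]; exact T6_K0 c hrule (r := 1) rfl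
  have hqι : c.ι (swap 0 4) * c.ι (swap 2 5) * c.ι (swap 1 3) = F.φ q := by
    rw [hq, map_mul, map_mul, ← i01 c, ← i_tau c, ← map_mul, ← map_mul, ← map_mul, ← map_mul]
    refine congrArg _ ?_
    decide +kernel
  have hL : ev c [0, 1, 3, 2, 3, 1, 0, 2] = c.ι (swap 0 4) * c.ι (swap 2 5) := by
    rw [show ([0, 1, 3, 2, 3, 1, 0, 2] : List (Fin 7)) = [0, 1, 3, 2, 3, 1, 0] ++ [2] from rfl,
      ev_append, hb, ev_single, show T c 2 = c.ι (swap 2 5) from K_zero c _]
  have h6 : T c 6 = c.ι (swap 1 3) * T c 6 * (c.ι (swap 1 3))⁻¹ := by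
    rw [← hc.eq, mul_inv_cancel_right]
  have e1 : ev c wE = F.φ q * T c 6 * (F.φ q)⁻¹ := by
    rw [wE, ev_cj, hL, ← hqι]
    conv_lhs => rw [h6]
    group
  have e2 : T c 6 = F.φ Rot * c.ι (swap 0 3) * (F.φ Rot)⁻¹ := by
    show K c 1 (swap 0 3) = _
    rw [K_apply, show ((1 : Fin 3).val) = 1 from rfl, pow_one]
  have hw : q * Rot = Rot ^ 2 * (Tau * D1) * D3 := Subtype.ext (by decide +kernel)
  have hd : F.φ D3 * c.ι (swap 0 3) * (F.φ D3)⁻¹ = c.ι (swap 0 3) := by
    rw [← (c.d3 _).eq, mul_inv_cancel_right]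
  have hυ : c.ι (tau6 * swap 0 1) = F.φ (Tau * D1) := by rw [map_mul, map_mul, i_tau c, i01 c]
  calc ev c wE = F.φ (q * Rot) * c.ι (swap 0 3) * (F.φ (q * Rot))⁻¹ := by
        rw [e1, e2, map_mul F.φ q Rot]; group
    _ = F.φ (Rot ^ 2 * (Tau * D1)) * (F.φ D3 * c.ι (swap 0 3) * (F.φ D3)⁻¹) *
          (F.φ (Rot ^ 2 * (Tau * D1)))⁻¹ := by
      rw [hw, map_mul F.φ (Rot ^ 2 * (Tau * D1)) D3]; group
    _ = K c 2 (swap 0 4) := by
      rw [hd]
      have h := shift c 2 hυ (swap 0 3)
      rw [show tau6 * swap 0 1 * swap 0 3 * (tau6 * swap 0 1)⁻¹ = swap 0 4 by decide +kernel] at h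
      exact h

theorem ev_M14 : ev c wM14 = K c 2 (swap 1 4) := by
  rw [wM14, ev_append, ev_append, ev_B13]
  simp only [ev, List.map_cons, List.map_nil, List.prod_cons, List.prod_nil, mul_one]
  rw [T5_K2 c, T1_K2 c, ← map_mul, ← map_mul, ← map_mul, ← map_mul]
  refine congrArg _ ?_
  decide +kernel

omit hrule in
theorem ev_P23_conj : ev c wP23 * T c 2 * (ev c wP23)⁻¹ = K c 2 (swap 2 5) := by
  rw [← ev_cj]; exact ev_B13 c

theorem ev_D3 : ev c wD3 = F.φ D3 := by
  rw [wD3, ev_cj, lD3, ev_append, ev_append, ev_E c hrule,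
    show ([5, 1] : List (Fin 7)) = [5] ++ [1] from rfl, ev_append, ev_single, ev_single]
  calc _ = K c 2 (swap 0 4) * T c 5 * T c 1 * (ev c wP23 * T c 2 * (ev c wP23)⁻¹) *
        (K c 2 (swap 0 4) * T c 5 * T c 1)⁻¹ := by group
    _ = F.φ D3 := by
      rw [ev_P23_conj, T5_K2 c, T1_K2 c, ← map_mul, ← map_mul, ← map_inv, ← map_mul, ← map_mul,
        show (swap 0 4 * swap 1 2 * swap 4 5 * swap 2 5 * (swap 0 4 * swap 1 2 * swap 4 5)⁻¹ :
          Perm (Fin 6)) = swap 0 1 by decide +kernel]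
      exact K_W c 2 (i01 c) (Subtype.ext (by decide +kernel))

theorem ev_D2 : ev c wD2 = F.φ D2 := by
  have h : ev c wD2 = ev c wP23 * ev c wD3 * (ev c wP23)⁻¹ := by
    rw [wD2, wD3, ev_cj, ev_cj, lD2, lD3, ev_append, ev_append, ev_append, ev_append, ev_append]
    group
  rw [h, ev_D3 c hrule, ev_P23, ← map_inv, ← map_mul, ← map_mul]
  refine congrArg _ ?_
  exact Subtype.ext (by decide +kernel)

theorem ev_P13 : ev c wP13 = F.φ (Rot ^ 2 * Tau * (Rot ^ 2)⁻¹) := by
  rw [wP13, ev_append, ev_append, ev_append, ev_append, ev_E c hrule, ev_M14 c hrule, ev_B13,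
    ev_single, T0_K2 c, ← map_mul, ← map_mul, ← map_mul, ← map_mul,
    show (swap 3 4 * swap 0 4 * swap 3 4 * swap 1 4 * swap 2 5 : Perm (Fin 6)) = tau6 by
      decide +kernel]
  exact K_W c 2 (i_tau c) rfl

theorem ev_Tau : ev c wTau = F.φ Tau := by
  rw [wTau, ev_append, ev_append, ev_P13 c hrule, ev_P23, ← map_mul, ← map_mul]
  refine congrArg _ ?_
  exact Subtype.ext (by decide +kernel)

theorem ev_Rot : ev c wRot = F.φ Rot := by
  rw [wRot, ev_append, ev_Tau c hrule, ev_P23, ← map_mul]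
  refine congrArg _ ?_
  exact Subtype.ext (by decide +kernel)

theorem ev_wC : ev c (wC 0) = F.φ C1 ∧ ev c (wC 1) = F.φ C2 ∧ ev c (wC 2) = F.φ C3 := by
  refine ⟨?_, ?_, ?_⟩
  · show ev c [0, 1] = _
    simp only [ev, List.map_cons, List.map_nil, List.prod_cons, List.prod_nil, mul_one]
    rw [T0_eq, T1_eq, ← map_mul]; exact congrArg _ (Subtype.ext (by decide +kernel))
  · show ev c (wD2 ++ [3]) = _
    rw [ev_append, ev_single, ev_D2 c hrule, T3_eq, ← map_mul]
    exact congrArg _ (Subtype.ext (by decide +kernel))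
  · show ev c (wD3 ++ [5]) = _
    rw [ev_append, ev_single, ev_D3 c hrule, T5_eq, ← map_mul]
    exact congrArg _ (Subtype.ext (by decide +kernel))

omit hrule

theorem ev_mem (L : List (Fin 7)) : ev c L ∈ Subgroup.closure (Set.range (T c)) :=
  Subgroup.list_prod_mem _ fun x hx => by
    obtain ⟨i, -, rfl⟩ := List.mem_map.mp hx
    exact Subgroup.subset_closure ⟨i, rfl⟩

include hrule

theorem phi_mem (w : W) : F.φ w ∈ Subgroup.closure (Set.range (T c)) := by
  obtain ⟨v, hv⟩ := w
  set Γ := Subgroup.closure (Set.range (T c))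
  induction hv using Subgroup.closure_induction with
  | mem x hx =>
    simp only [Set.mem_insert_iff, Set.mem_singleton_iff] at hx
    have hT : ∀ i, T c i ∈ Γ := fun i => Subgroup.subset_closure ⟨i, rfl⟩
    have hm := ev_mem c
    rcases hx with rfl | rfl | rfl | rfl | rfl | rfl | rfl | rfl
    · show F.φ C1 ∈ Γ; rw [← (ev_wC c hrule).1]; exact hm _
    · show F.φ C2 ∈ Γ; rw [← (ev_wC c hrule).2.1]; exact hm _
    · show F.φ C3 ∈ Γ; rw [← (ev_wC c hrule).2.2]; exact hm _
    · show F.φ D1 ∈ Γ; rw [← T0_eq c]; exact hT 0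
    · show F.φ D2 ∈ Γ; rw [← ev_D2 c hrule]; exact hm _
    · show F.φ D3 ∈ Γ; rw [← ev_D3 c hrule]; exact hm _
    · show F.φ Rot ∈ Γ; rw [← ev_Rot c hrule]; exact hm _
    · show F.φ Tau ∈ Γ; rw [← ev_Tau c hrule]; exact hm _
  | one => exact (map_one F.φ).symm ▸ Γ.one_mem
  | mul x y hx hy h1 h2 =>
    exact (map_mul F.φ ⟨x, hx⟩ ⟨y, hy⟩).symm ▸ Γ.mul_mem h1 h2
  | inv x hx h => exact (map_inv F.φ ⟨x, hx⟩).symm ▸ Γ.inv_mem h

omit hrule

/-- One rewriting move. -/
def move : ℕ → List (Fin 7) → List (Fin 7)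
  | 0, a :: b :: L =>
    if a = b then L else if adj a b then
      match L with
      | d :: L' => if d = a then b :: a :: b :: L' else a :: b :: L
      | [] => a :: b :: L
    else b :: a :: L
  | n + 1, a :: L => a :: move n L
  | _, L => L

/-- A sequence of moves. -/
def moves : List ℕ → List (Fin 7) → List (Fin 7)
  | [], L => L
  | p :: ps, L => moves ps (move p L)

include hrule

theorem ev_move : ∀ (n : ℕ) (L : List (Fin 7)), ev c (move n L) = ev c L
  | 0, [] => rfl
  | 0, [_] => rfl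
  | n + 1, [] => rfl
  | n + 1, a :: L => by
    rw [move, ← List.singleton_append, ev_append, ev_move n L, ← ev_append]; rfl
  | 0, a :: b :: L => by
    have hb := braids c hrule
    simp only [move]
    split_ifs with h1 h2
    · subst h1; simp [ev, ← mul_assoc, T_sq c a]
    · match L with
      | [] => rfl
      | d :: L' =>
        dsimp only
        split_ifs with h3
        · subst h3
          have e := hb.braid d b h2
          simp only [ev, List.map_cons, List.prod_cons, ← mul_assoc, e]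
        · rfl
    · have e := hb.comm a b (by simpa using h2)
      simp only [ev, List.map_cons, List.prod_cons, ← mul_assoc, e]

theorem ev_moves : ∀ (ps : List ℕ) (L : List (Fin 7)), ev c (moves ps L) = ev c L
  | [], _ => rfl
  | p :: ps, L => by rw [moves, ev_moves ps, ev_move c hrule p L]

omit hrule

/-- The Coxeter word to the ninth power. -/
def w0 : List (Fin 7) := (List.replicate 9 ([0, 1, 2, 3, 4, 5, 6] : List (Fin 7))).flatten

theorem moves_check : ∀ i : Fin 7, moves (Data13.movesL.getD i.val []) ([i] ++ w0) =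
    moves (Data13.movesR.getD i.val []) (w0 ++ [i]) := by decide +kernel

theorem ev_w0 : ev c w0 = cox (T c) ^ 9 := by
  rw [ev, w0, List.map_flatten, List.map_replicate, List.prod_flatten, List.map_replicate,
    List.prod_replicate]
  simp [cox, mul_assoc]

include hrule

theorem cox_one [Finite G] (hcJ : Subgroup.centralizer (S.J : Set G) = S.J) :
    cox (T c) ^ 9 = 1 := by
  set Γ := Subgroup.closure (Set.range (T c)) with hΓ
  set z := cox (T c) ^ 9 with hzd
  have hzT : ∀ i, T c i * z = z * T c i := fun i => by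
    rw [hzd, ← ev_w0 c, ← ev_single c i, ← ev_append, ← ev_append,
      ← ev_moves c hrule (Data13.movesL.getD i.val []) ([i] ++ w0), moves_check i, ev_moves c hrule]
  have hcen : ∀ g ∈ Γ, g * z = z * g := by
    intro g hg
    induction hg using Subgroup.closure_induction with
    | mem x hx => obtain ⟨i, rfl⟩ := hx; exact hzT i
    | one => rw [one_mul, mul_one]
    | mul x y _ _ h1 h2 => exact (Commute.mul_left h1 h2 : Commute (x * y) z)
    | inv x _ h => exact (Commute.inv_left h : Commute x⁻¹ z)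
  have hzJ : z ∈ S.J := by
    rw [← hcJ, Subgroup.mem_centralizer_iff]
    intro j hj
    refine hcen j ?_
    have hj' : j ∈ S.J := hj
    rw [F.base] at hj'
    refine (Subgroup.closure_le _).mpr ?_ hj'
    intro x hx
    simp only [Set.mem_insert_iff, Set.mem_singleton_iff] at hx
    rcases hx with rfl | rfl | rfl <;> exact phi_mem c hrule _
  let T' : Fin 7 → Γ := fun i => ⟨T c i, Subgroup.subset_closure ⟨i, rfl⟩⟩
  have hb : Braids T' :=
    ⟨fun i j e => Subtype.ext ((braids c hrule).comm i j e),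
      fun i j e => Subtype.ext ((braids c hrule).braid i j e)⟩
  have hzz : z * z = 1 := by
    have hm : cox T' ^ 9 ∈ Subgroup.center Γ := by
      rw [Subgroup.mem_center_iff]
      exact fun g => Subtype.ext (hcen g.1 g.2)
    have h := cox_sq hb (Subgroup.one_mem _) (fun i => Subtype.ext (T_sq c i)) hm rfl
    rw [one_pow] at h
    exact congrArg Subtype.val h
  have h3 := S.hJexp z hzJ
  rwa [pow_succ, pow_two, hzz, one_mul] at h3

theorem exists_hom [Finite G] (hcJ : Subgroup.centralizer (S.J : Set G) = S.J) :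
    ∃ ψ : Sp62 →* G, Function.Injective ψ ∧ (∀ i, ψ (t i) = T c i) := by
  set U : Fin 7 → Sp62 × G := fun i => (t i, T c i) with hU
  set Δ := Subgroup.closure (Set.range U) with hΔ
  let U' : Fin 7 → Δ := fun i => ⟨U i, Subgroup.subset_closure ⟨i, rfl⟩⟩
  have hb : Braids U' :=
    ⟨fun i j e => Subtype.ext (Prod.ext (t_braids.comm i j e) ((braids c hrule).comm i j e)),
      fun i j e => Subtype.ext (Prod.ext (t_braids.braid i j e) ((braids c hrule).braid i j e))⟩
  have h9 : cox U' ^ 9 = 1 := by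
    refine Subtype.ext (Prod.ext ?_ ?_)
    · have := t_cox; simpa [cox, U', hU] using this
    · have := cox_one c hrule hcJ; simpa [cox, U', hU] using this
  have hgen : Subgroup.closure (Set.range U') = ⊤ := by
    apply Subgroup.map_injective Δ.subtype_injective
    rw [MonoidHom.map_closure, ← MonoidHom.range_eq_map, Subgroup.range_subtype, ← Set.range_comp]
    rfl
  have hcard := card_le hb (fun i => Subtype.ext (Prod.ext (t_sq i) (T_sq c i))) h9 hgen
  let f : Δ →* Sp62 := (MonoidHom.fst Sp62 G).comp Δ.subtype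
  have hsur : Function.Surjective f := by
    rw [← MonoidHom.range_eq_top, eq_top_iff, ← t_gen, Subgroup.closure_le]
    rintro _ ⟨i, rfl⟩
    exact ⟨U' i, rfl⟩
  have hbij : Function.Bijective f := by
    refine (Nat.bijective_iff_surjective_and_card f).mpr ⟨hsur, le_antisymm ?_ (Nat.card_le_card_of_surjective f hsur)⟩
    rw [card_Sp62]; exact hcard
  let e := MulEquiv.ofBijective f hbij
  let ψ : Sp62 →* G := ((MonoidHom.snd Sp62 G).comp Δ.subtype).comp e.symm.toMonoidHom
  have hψ : ∀ i, ψ (t i) = T c i := fun i => by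
    have : e.symm (t i) = U' i := e.symm_apply_eq.mpr rfl
    show ((e.symm (t i) : Δ) : Sp62 × G).2 = T c i
    rw [this]
  refine ⟨ψ, ?_, hψ⟩
  rw [← MonoidHom.ker_eq_bot_iff]
  haveI := simple_Sp62
  refine (MonoidHom.normal_ker ψ).eq_bot_or_eq_top.resolve_right fun htop => ?_
  have h1 : T c 0 = 1 := by
    rw [← hψ 0, ← MonoidHom.mem_ker, htop]; trivial
  rw [T0_eq, map_eq_one_iff F.φ F.inj] at h1
  exact absurd (congrArg Subtype.val h1) (by decide +kernel)

omit hrule

theorem hom_pt {ψ : Sp62 →* G} (hψ : ∀ i, ψ (t i) = T c i) (L : List (Fin 7)) :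
    ψ (pt L) = ev c L := by
  rw [pt, map_list_prod, List.map_map, ev]
  exact congrArg List.prod (List.map_congr_left fun i _ => hψ i)

theorem card_SL : Nat.card (Matrix.SpecialLinearGroup (Fin 2) (ZMod 3)) = 24 := by
  rw [Nat.card_eq_fintype_card]; decide +kernel

theorem card_C : Nat.card (Subgroup.centralizer ({S.a} : Set G)) = 648 := by
  rw [Subgroup.card_eq_card_quotient_mul_card_subgroup
    (Cfsg.pCore 3 (Subgroup.centralizer ({S.a} : Set G))), Nat.card_congr S.e.toEquiv, card_SL,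
    S.hRcard]

include hrule

/-- The piece P7. -/
theorem spHyp [Finite G] (hcJ : Subgroup.centralizer (S.J : Set G) = S.J)
    (hy : Subgroup.centralizer ({F.φ (C1 * C2)} : Set G) ≤ Subgroup.normalizer (S.J : Set G)) :
    Nonempty (SpHyp G) := by
  classical
  obtain ⟨ψ, hinj, hψ⟩ := exists_hom c hrule hcJ
  have hev := hom_pt c hψ
  obtain ⟨hC1, hC2, hC3⟩ := ev_wC c hrule
  have hΓ : Subgroup.closure (Set.range (T c)) ≤ ψ.range := by
    rw [Subgroup.closure_le]; rintro _ ⟨i, rfl⟩; exact ⟨t i, hψ i⟩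
  have hN : Subgroup.normalizer (S.J : Set G) ≤ ψ.range := by
    rw [← F.range_eq]; rintro _ ⟨w, rfl⟩; exact hΓ (phi_mem c hrule w)
  have hJ : baseJ.map ψ = S.J := by
    rw [baseJ, MonoidHom.map_closure, F.base, ← Set.range_comp]
    refine congrArg _ ?_
    have e : ∀ i, (ψ ∘ cyc3) i = ev c (wC i) := fun i => by
      rw [Function.comp_apply, cyc3_eq, hev]
    ext x
    simp only [Set.mem_range, Set.mem_insert_iff, Set.mem_singleton_iff]
    constructor
    · rintro ⟨i, rfl⟩
      rw [e]; fin_cases i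
      exacts [Or.inl hC1, Or.inr (Or.inl hC2), Or.inr (Or.inr hC3)]
    · rintro (rfl | rfl | rfl)
      exacts [⟨0, (e 0).trans hC1⟩, ⟨1, (e 1).trans hC2⟩, ⟨2, (e 2).trans hC3⟩]
  obtain ⟨P0, hP0c, hP0⟩ := exists_syl
  obtain ⟨Q8, hQ8c, hQ8⟩ := exists_quat
  have hbase : baseJ ≤ P0 := by
    rw [baseJ, Subgroup.closure_le]
    rintro _ ⟨i, rfl⟩
    have h := base_syl i
    rw [List.contains_iff_mem, ← syl_keys, List.mem_map] at h
    obtain ⟨L, hL, hk⟩ := h
    exact (hP0 _).mpr ⟨L, hL, (cyc3_eq i).trans (eq_of_key hk).symm⟩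
  have hι : c.ι.range ≤ ψ.range := by
    have hT : ∀ i, T c i ∈ ψ.range := fun i => ⟨t i, hψ i⟩
    have hφ : ∀ w, F.φ w ∈ ψ.range := fun w => hΓ (phi_mem c hrule w)
    have h25 : c.ι (swap 2 5) ∈ ψ.range := by rw [← K_zero c]; exact hT 2
    have h45 : c.ι (swap 4 5) ∈ ψ.range := by rw [i45 c]; exact hφ _
    have h34 : c.ι (swap 3 4) ∈ ψ.range := by rw [i34 c]; exact hφ _
    let H : Subgroup (Perm (Fin 6)) := ψ.range.comap c.ι
    have h35 : swap 3 5 ∈ H := by
      rw [show (swap 3 5 : Perm (Fin 6)) = swap 3 4 * swap 4 5 * swap 3 4 by decide +kernel]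
      exact H.mul_mem (H.mul_mem h34 h45) h34
    have h23 : swap 2 3 ∈ H := by
      rw [show (swap 2 3 : Perm (Fin 6)) = swap 3 5 * swap 2 5 * swap 3 5 by decide +kernel]
      exact H.mul_mem (H.mul_mem h35 h25) h35
    have hall : ∀ i : Fin 5, swap i.castSucc i.succ ∈ H := by
      intro i
      fin_cases i
      · show c.ι (swap 0 1) ∈ ψ.range; rw [i01 c]; exact hφ _
      · show c.ι (swap 1 2) ∈ ψ.range; rw [i12 c]; exact hφ _
      · exact h23
      · exact h34
      · exact h45
    rintro _ ⟨σ, rfl⟩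
    have hσ : σ ∈ Submonoid.closure (Set.range fun i : Fin 5 => swap i.castSucc i.succ) := by
      rw [Equiv.Perm.mclosure_swap_castSucc_succ]; trivial
    exact Submonoid.closure_le.mpr (by rintro _ ⟨i, rfl⟩; exact hall i :
      Set.range (fun i : Fin 5 => swap i.castSucc i.succ) ⊆ H.toSubmonoid) hσ
  have hφsum : ψ (pt (wRep 1)) = F.φ (C1 * C2) ∧ ψ (pt (wRep 2)) = S.a := by
    constructor
    · rw [hev, show wRep 1 = wC 0 ++ wC 1 from rfl, ev_append, hC1, hC2, map_mul]
    · rw [hev, show wRep 2 = wC 0 ++ wC 1 ++ wC 2 from rfl, ev_append, ev_append, hC1, hC2, hC3,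
        ← map_mul, ← map_mul, F.map_a]
  have hrep : ∀ j : Fin 3, Subgroup.centralizer ({ψ (pt (wRep j))} : Set G) ≤ ψ.range := by
    intro j
    fin_cases j
    · show Subgroup.centralizer ({ψ (pt (wRep 0))} : Set G) ≤ ψ.range
      rw [hev, show wRep 0 = wC 2 from rfl, hC3, c.six.cent]
      exact sup_le ((Subgroup.zpowers_le).mpr (hΓ (phi_mem c hrule _))) hι
    · show Subgroup.centralizer ({ψ (pt (wRep 1))} : Set G) ≤ ψ.range
      rw [hφsum.1]; exact hy.trans hN
    · show Subgroup.centralizer ({ψ (pt (wRep 2))} : Set G) ≤ ψ.range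
      rw [hφsum.2]
      set C := Subgroup.centralizer ({S.a} : Set G) with hCd
      set H := C ⊓ ψ.range
      have sub : ∀ (D : Subgroup Sp62), (∀ x ∈ D, x * pt (wRep 2) = pt (wRep 2) * x) →
          Nat.card D ∣ Nat.card H := by
        intro D hD
        have hle : D.map ψ ≤ H := by
          rintro _ ⟨x, hx, rfl⟩
          refine ⟨?_, ⟨x, rfl⟩⟩
          show ψ x ∈ Subgroup.centralizer ({S.a} : Set G)
          rw [Subgroup.mem_centralizer_singleton_iff, ← hφsum.2, ← map_mul, ← map_mul, hD x hx]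
        have := Subgroup.card_dvd_of_le hle
        rwa [Subgroup.card_map_of_injective hinj] at this
      have h81 : 81 ∣ Nat.card H := hP0c ▸ sub P0 fun x hx => by
        obtain ⟨L, hL, rfl⟩ := (hP0 x).mp hx; exact commute_central (Or.inl hL)
      have h8 : 8 ∣ Nat.card H := hQ8c ▸ sub Q8 fun x hx => by
        obtain ⟨L, hL, rfl⟩ := (hQ8 x).mp hx; exact commute_central (Or.inr hL)
      have hd : 648 ∣ Nat.card H :=
        (Nat.Coprime.mul_dvd_of_dvd_of_dvd (by norm_num : Nat.Coprime 81 8) h81 h8)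
      have hle : Nat.card C ≤ Nat.card H := by
        rw [hCd, card_C]; exact Nat.le_of_dvd Nat.card_pos hd
      have := Subgroup.eq_of_le_of_card_ge (inf_le_left : H ≤ C) hle
      exact this ▸ inf_le_right
  haveI : Fact (Nat.Prime 3) := ⟨by norm_num⟩
  have hfac : (Nat.card Sp62).factorization 3 = 4 := by
    rw [card_Sp62, show (1451520 : ℕ) = 3 ^ 4 * 17920 by norm_num,
      Nat.factorization_mul (by norm_num) (by norm_num), Nat.Prime.factorization_pow (by norm_num),
      Finsupp.add_apply, Finsupp.single_eq_same,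
      Nat.factorization_eq_zero_of_not_dvd (by norm_num)]
  let P1 : Sylow 3 Sp62 := Sylow.ofCard P0 (by rw [hP0c, hfac]; norm_num)
  have hconjc : ∀ (h x y : Sp62), h * x * h⁻¹ = y →
      Subgroup.centralizer ({ψ y} : Set G) ≤ ψ.range →
      Subgroup.centralizer ({ψ x} : Set G) ≤ ψ.range := by
    intro h x y e hle v hv
    rw [Subgroup.mem_centralizer_singleton_iff] at hv
    have : ψ h * v * (ψ h)⁻¹ ∈ Subgroup.centralizer ({ψ y} : Set G) := by
      rw [Subgroup.mem_centralizer_singleton_iff, ← e, map_mul, map_mul, map_inv]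
      calc ψ h * v * (ψ h)⁻¹ * (ψ h * ψ x * (ψ h)⁻¹) = ψ h * (v * ψ x) * (ψ h)⁻¹ := by group
        _ = ψ h * (ψ x * v) * (ψ h)⁻¹ := by rw [hv]
        _ = ψ h * ψ x * (ψ h)⁻¹ * (ψ h * v * (ψ h)⁻¹) := by group
    have h2 := ψ.range.mul_mem (ψ.range.mul_mem (ψ.range.inv_mem ⟨h, rfl⟩) (hle this)) ⟨h, rfl⟩
    simpa [mul_assoc] using h2
  refine ⟨⟨ψ, hinj, ?_, ?_, ?_⟩⟩
  · intro x hx
    have hpg : IsPGroup 3 (Subgroup.zpowers x) := IsPGroup.of_card (n := 1) (by
      rw [Nat.card_zpowers, hx, pow_one])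
    obtain ⟨P, hP⟩ := hpg.exists_le_sylow
    obtain ⟨h, hh⟩ := MulAction.exists_smul_eq Sp62 P P1
    have hm : h * x * h⁻¹ ∈ P0 := by
      show h * x * h⁻¹ ∈ (P1 : Subgroup Sp62)
      rw [← hh, Sylow.coe_subgroup_smul]
      exact ⟨x, hP (Subgroup.mem_zpowers x), rfl⟩
    obtain ⟨L, hL, e⟩ := (hP0 _).mp hm
    have ho : orderOf (pt L) = 3 := by
      exact (congrArg orderOf e.symm).trans (((MulAut.conj h).orderOf_eq x).trans hx)
    obtain ⟨g, j, hg⟩ := exists_rep hL ho
    refine hconjc (g * h) x _ ?_ (hrep j)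
    rw [← hg, ← e]; group
  · intro P u hu
    obtain ⟨h, hh⟩ := MulAction.exists_smul_eq Sp62 P P1
    have hmem : ∀ z, z ∈ P0 ↔ ∃ p ∈ (P : Subgroup Sp62), h * p * h⁻¹ = z := by
      intro z
      have e : (P1 : Subgroup Sp62) = P0 := rfl
      rw [← e, ← hh, Sylow.coe_subgroup_smul]
      exact Iff.rfl
    have hmap : ((P : Subgroup Sp62).map ψ).map (MulAut.conj (ψ h)).toMonoidHom = P0.map ψ := by
      ext y
      constructor
      · rintro ⟨_, ⟨p, hp, rfl⟩, rfl⟩
        exact ⟨h * p * h⁻¹, (hmem _).mpr ⟨p, hp, rfl⟩, by simp⟩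
      · rintro ⟨z, hz, rfl⟩
        obtain ⟨p, hp, rfl⟩ := (hmem z).mp hz
        exact ⟨ψ p, ⟨p, hp, rfl⟩, by simp⟩
    set v := ψ h * u * (ψ h)⁻¹ with hvd
    have key : v ∈ Subgroup.normalizer (S.J : Set G) := by
      have hv : ∀ y ∈ P0.map ψ, v * y * v⁻¹ ∈ P0.map ψ := by
        intro y hy0
        rw [← hmap] at hy0 ⊢
        obtain ⟨z, hz, rfl⟩ := hy0
        refine ⟨u * z * u⁻¹, (Subgroup.mem_normalizer_iff.mp hu z).mp hz, ?_⟩
        simp only [MulEquiv.coe_toMonoidHom, MulAut.conj_apply, hvd]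
        group
      have hex : ∀ j : baseJ, ∃ p, p ∈ P0 ∧ ψ p = v * ψ j.1 * v⁻¹ := fun j => by
        obtain ⟨p, hp, e⟩ := hv _ ⟨j.1, hbase j.2, rfl⟩
        exact ⟨p, hp, e⟩
      choose p hp hpe using hex
      have hin : ∀ j : baseJ, p j ∈ baseJ := by
        intro j
        by_contra hj
        obtain ⟨L, hL, e⟩ := (hP0 _).mp (hp j)
        have hjexp : ∀ i : baseJ, ψ i.1 ^ 3 = 1 := fun i =>
          S.hJexp _ (hJ ▸ ⟨i.1, i.2, rfl⟩)
        have h3 : pt L ^ 3 = 1 := by
          apply hinj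
          rw [← e, map_pow, hpe, conj_pow, hjexp, mul_one, mul_inv_cancel, map_one]
        have hne : ¬ ∀ i, Commute (pt L) (pt (wC i)) := by
          intro hall
          apply hj
          have : ψ (p j) ∈ S.J := by
            rw [← hcJ, F.base]
            refine Subgroup.mem_centralizer_iff.mpr ?_
            intro y hyy
            have hmem : ψ (p j) ∈ Subgroup.centralizer ({F.φ C1, F.φ C2, F.φ C3} : Set G) := by
              rw [Subgroup.mem_centralizer_iff, e]
              intro y hy3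
              simp only [Set.mem_insert_iff, Set.mem_singleton_iff] at hy3
              rcases hy3 with rfl | rfl | rfl
              · rw [← hC1, ← hev]; exact ((hall 0).map ψ).symm.eq
              · rw [← hC2, ← hev]; exact ((hall 1).map ψ).symm.eq
              · rw [← hC3, ← hev]; exact ((hall 2).map ψ).symm.eq
            rw [← Subgroup.centralizer_closure] at hmem
            exact Subgroup.mem_centralizer_iff.mp hmem y hyy
          rw [← hJ] at this
          obtain ⟨b, hb, eb⟩ := this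
          rwa [← hinj eb]
        have hcomm : ∀ i : baseJ, Commute (p j) (p i) := by
          intro i
          apply hinj
          rw [map_mul, map_mul, hpe, hpe]
          have hJm : ∀ k : baseJ, ψ k.1 ∈ S.J := fun k => hJ ▸ ⟨k.1, k.2, rfl⟩
          haveI := S.hJcomm
          have hc : ψ j.1 * ψ i.1 = ψ i.1 * ψ j.1 :=
            congrArg Subtype.val (mul_comm' (⟨_, hJm j⟩ : S.J) ⟨_, hJm i⟩)
          calc v * ψ j.1 * v⁻¹ * (v * ψ i.1 * v⁻¹) = v * (ψ j.1 * ψ i.1) * v⁻¹ := by group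
            _ = v * (ψ i.1 * ψ j.1) * v⁻¹ := by rw [hc]
            _ = v * ψ i.1 * v⁻¹ * (v * ψ j.1 * v⁻¹) := by group
        haveI : Fintype baseJ := Fintype.ofFinite _
        have hlt := few hL h3 hne (Finset.univ.image p) (fun y hyi => by
          obtain ⟨i, -, rfl⟩ := Finset.mem_image.mp hyi
          exact ⟨(hP0 _).mp (hp i), e ▸ hcomm i⟩)
        rw [Finset.card_image_of_injective _ (fun a b eab => by
            have := congrArg ψ eab
            rw [hpe, hpe] at this
            exact Subtype.ext (hinj (by simpa using this))),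
          Finset.card_univ, ← Nat.card_eq_fintype_card] at hlt
        have h27 : Nat.card baseJ = 27 := by
          rw [← Subgroup.card_map_of_injective (f := ψ) hinj, hJ, S.hJcard]
        omega
      refine (Subgroup.mem_normalizer_iff_map_conj_eq).mpr (Subgroup.eq_of_le_of_card_ge ?_ ?_)
      · rintro _ ⟨y, hyJ, rfl⟩
        have hyJ' : y ∈ S.J := hyJ
        rw [← hJ] at hyJ' ⊢
        obtain ⟨b, hb, rfl⟩ := hyJ'
        exact ⟨p ⟨b, hb⟩, hin _, hpe _⟩
      · exact (Subgroup.card_map_of_injective (MulAut.conj v).injective).ge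
    have h2 := ψ.range.mul_mem (ψ.range.mul_mem (ψ.range.inv_mem ⟨h, rfl⟩) (hN key)) ⟨h, rfl⟩
    simpa [hvd, mul_assoc] using h2
  · intro K hK hfix
    refine S.hJsig K hK fun j hj => ?_
    rw [← hJ] at hj
    obtain ⟨b, hb, rfl⟩ := hj
    exact hfix b hb

end Cfsg.Agent.Sp62Three31.E7Main13

namespace Cfsg.Agent.Sp62Three31

universe u

/-- P7: in case II with the rule, the endgame hypotheses hold. -/
theorem caseII_spHyp {G : Type u} [Group G] [Finite G] {S : Setup G} {F : S.Frame} (c : F.CaseII)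
    (hrule : c.Rule) (hcJ : Subgroup.centralizer (S.J : Set G) = S.J)
    (hy : Subgroup.centralizer ({F.φ (S9Model37.C1 * S9Model37.C2)} : Set G) ≤
      Subgroup.normalizer (S.J : Set G)) :
    Nonempty (SpHyp G) :=
  E7Main13.spHyp c hrule hcJ hy

end Cfsg.Agent.Sp62Three31
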