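import Mathlib.Init

/-!
For each involution of the Sylow 2-subgroup of `Sp(6,2)`: the class representative and a conjugating word.
-/

set_option autoImplicit false

namespace Cfsg.Agent.Sp62Three31.Lag

/-- Representative index and conjugating word, by position in the table of the Sylow 2-subgroup. -/
def cls : List (Nat × Nat × List Nat) := [
  (1, 0, []),
  (2, 0, [27, 24]),
  (3, 1, []),
  (4, 0, [45, 40]),
  (5, 1, [54, 48]),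
  (6, 1, [45, 40]),
  (7, 3, [35, 32, 28, 24]),
  (8, 0, [10, 8]),
  (9, 1, [17, 16]),
  (10, 1, [10, 8]),
  (11, 2, []),
  (12, 1, [62, 56, 10, 8]),
  (13, 3, [34, 32, 12, 8]),
  (14, 3, [33, 32, 20, 16]),
  (15, 3, []),
  (16, 0, [12, 8]),
  (17, 1, [55, 48]),
  (18, 1, [12, 8]),
  (19, 3, [42, 40, 20, 16]),
  (20, 1, [54, 48, 10, 8]),
  (21, 2, [54, 48]),
  (22, 3, [47, 40, 20, 16]),
  (23, 3, [54, 48]),
  (24, 1, [31, 24, 10, 8]),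
  (25, 3, [35, 32, 12, 8]),
  (26, 3, [20, 16]),
  (27, 3, [33, 32]),
  (28, 3, [54, 48, 20, 16]),
  (29, 3, [55, 48]),
  (30, 2, [20, 16]),
  (31, 1, [20, 16, 10, 8]),
  (32, 0, [31, 24]),
  (33, 1, [20, 16]),
  (34, 1, [47, 40]),
  (35, 3, [49, 48, 12, 8]),
  (36, 1, [45, 40, 17, 16]),
  (37, 3, [47, 40, 12, 8]),
  (38, 2, [45, 40]),
  (39, 3, [45, 40]),
  (40, 1, [28, 24, 10, 8]),
  (41, 3, [12, 8]),
  (42, 3, [59, 56, 12, 8]),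
  (43, 3, [34, 32]),
  (44, 3, [45, 40, 12, 8]),
  (45, 2, [12, 8]),
  (46, 3, [47, 40]),
  (47, 1, [21, 16, 12, 8]),
  (48, 1, [28, 24]),
  (49, 3, [62, 56]),
  (50, 3, [61, 56]),
  (51, 2, [61, 56]),
  (52, 3, [35, 32]),
  (53, 3, [34, 32, 20, 16]),
  (54, 3, [33, 32, 12, 8]),
  (55, 1, [61, 56, 10, 8]),
  (56, 2, [28, 24]),
  (57, 3, [45, 40, 28, 24]),
  (58, 3, [54, 48, 28, 24]),
  (59, 1, [61, 56]),
  (60, 3, [28, 24]),
  (61, 1, [14, 8]),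
  (62, 1, [21, 16]),
  (63, 0, [14, 8]),
  (64, 2, [18]),
  (65, 1, [18, 10, 8]),
  (68, 3, [18]),
  (69, 3, [33, 32, 22]),
  (74, 2, [16]),
  (75, 1, [16, 10, 8]),
  (78, 3, [16]),
  (79, 3, [33, 32, 20]),
  (80, 3, [33, 32, 18]),
  (81, 3, [22]),
  (84, 1, [22, 10, 8]),
  (85, 2, [22]),
  (90, 3, [33, 32, 16]),
  (91, 3, [20]),
  (94, 1, [20, 10, 8]),
  (95, 2, [20]),
  (128, 2, [45, 12]),
  (129, 3, [45, 40, 12]),
  (130, 1, [45, 29, 16, 12]),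
  (131, 3, [47, 40, 8]),
  (136, 3, [47, 40, 12]),
  (137, 1, [40, 25, 16, 8]),
  (138, 3, [45, 40, 8]),
  (139, 2, [40, 8]),
  (164, 2, [41, 12]),
  (165, 3, [44, 41, 12]),
  (166, 1, [41, 29, 16, 12]),
  (167, 3, [46, 41, 8]),
  (172, 3, [46, 41, 12]),
  (173, 1, [44, 25, 16, 8]),
  (174, 3, [44, 41, 8]),
  (175, 2, [44, 8]),
  (256, 2, [54, 20]),
  (257, 1, [54, 20, 10, 8]),
  (258, 3, [54, 48, 20]),
  (259, 3, [55, 48, 16]),
  (264, 3, [55, 48, 20]),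
  (265, 3, [54, 48, 16]),
  (266, 1, [48, 16, 10, 8]),
  (267, 2, [48, 16]),
  (276, 2, [50, 20]),
  (277, 1, [50, 20, 10, 8]),
  (278, 3, [52, 50, 20]),
  (279, 3, [53, 50, 16]),
  (284, 3, [53, 50, 20]),
  (285, 3, [52, 50, 16]),
  (286, 1, [52, 16, 10, 8]),
  (287, 2, [52, 16]),
  (320, 2, [50]),
  (321, 1, [50, 10, 8]),
  (330, 2, [48]),
  (331, 1, [48, 10, 8]),
  (340, 2, [54]),
  (341, 1, [54, 10, 8]),
  (350, 2, [52]),
  (351, 1, [52, 10, 8]),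
  (352, 3, [34, 32, 16]),
  (353, 3, [62, 61, 8]),
  (362, 3, [34, 32, 18]),
  (363, 3, [63, 60, 8]),
  (372, 3, [38, 36, 16]),
  (373, 3, [58, 57, 8]),
  (382, 3, [38, 36, 18]),
  (383, 3, [59, 56, 8]),
  (384, 2, [61, 28]),
  (385, 3, [61, 56, 28]),
  (386, 3, [62, 56, 28]),
  (387, 1, [56, 24]),
  (392, 1, [61, 28]),
  (393, 3, [62, 56, 24]),
  (394, 3, [61, 56, 24]),
  (395, 2, [56, 24]),
  (432, 2, [60, 24]),
  (433, 3, [60, 57, 24]),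
  (434, 3, [63, 57, 24]),
  (435, 1, [57, 28]),
  (440, 1, [60, 24]),
  (441, 3, [63, 57, 28]),
  (442, 3, [60, 57, 28]),
  (443, 2, [57, 28])]

end Cfsg.Agent.Sp62Three31.Lag
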