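import Mathlib
import Cfsg.Agent.Lib.Sp62Three31LagCheck
import Cfsg.Agent.Lib.SymplecticOrder

/-!
The Lagrangian subgroup of `Sp(6,2)`, a Sylow 2-subgroup containing it, and its involutions.
-/

set_option autoImplicit false
set_option maxRecDepth 100000

namespace Cfsg.Agent.Sp62Three31.Lag

open Cfsg.Agent.SymplecticBasic Cfsg.Agent.PSp62MultiplierData

instance : Finite Sp62 := inferInstanceAs (Finite ↥(Matrix.symplecticGroup (Fin 3) (ZMod 2)))

theorem card_Sp62 : Nat.card Sp62 = 1451520 := by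
  rw [SymplecticOrder.card_symplectic (q := 2) (ZMod.card 2) 3]
  simp [Finset.prod_range_succ]

/-- A chosen code of an element. -/
noncomputable def code (g : Sp62) : ℕ := (exists_rep g).choose

theorem rep_code (g : Sp62) : Rep g (code g) := (exists_rep g).choose_spec

/-- The key of an element. -/
noncomputable def kg (g : Sp62) : ℕ := key (code g)

theorem kg_eq {g : Sp62} {c : ℕ} (h : Rep g c) : kg g = key c := (rep_code g).key_eq h

theorem kg_inj : Function.Injective kg := fun g h e => eq_of_key (rep_code g) (rep_code h) e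

theorem commute_iff {g h : Sp62} {a b : ℕ} (ha : Rep g a) (hb : Rep h b) :
    Commute g h ↔ cm a b = true := by
  rw [cm, beq_iff_eq, key2_eq, key2_eq, ← kg_eq (ha.mul hb), ← kg_eq (hb.mul ha), kg_inj.eq_iff]
  exact Iff.rfl

theorem sq_iff {g : Sp62} {a : ℕ} (ha : Rep g a) : g * g = 1 ↔ sq a = true := by
  rw [sq, beq_iff_eq, key2_eq, ← kg_eq (ha.mul ha), ← kg_eq rep_one, kg_inj.eq_iff]

theorem tv_inj {n m : ℕ} (hn : n < 64) (hm : m < 64) (h : tv n = tv m) : n = m := by
  have hk := (rep_tv n).key_eq (h ▸ rep_tv m)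
  have := List.all_eq_true.mp (List.all_eq_true.mp tv_key n (List.mem_range.mpr hn)) m (List.mem_range.mpr hm)
  simpa [hk] using this

theorem tv_sq_one {n : ℕ} (hn : n < 64) : tv n * tv n = 1 :=
  (sq_iff (rep_tv n)).mpr (List.all_eq_true.mp tv_sq n (List.mem_range.mpr hn))

theorem card_of_keys (S : Subgroup Sp62) (L : List ℕ) (hnd : L.Nodup) (h1 : ∀ g ∈ S, kg g ∈ L)
    (h2 : ∀ k ∈ L, ∃ g ∈ S, kg g = k) : Nat.card S = L.length := by
  have himg : kg '' (S : Set Sp62) = (L.toFinset : Set ℕ) := by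
    ext k; simp only [Set.mem_image, SetLike.mem_coe, List.coe_toFinset, Set.mem_ofPred_eq]
    exact ⟨fun ⟨g, hg, e⟩ => e ▸ h1 g hg, h2 k⟩
  rw [← List.toFinset_card_of_nodup hnd, ← Set.ncard_coe_finset, ← himg,
    Set.ncard_image_of_injective _ kg_inj, ← Nat.card_coe_set_eq]
  rfl

/-- The stabiliser of a flag in the Lagrangian. -/
def flag : Subgroup Sp62 :=
  let S : Submonoid Sp62 :=
    { carrier := {g | ∀ n < 8, ∃ m < 8, g • vec n = vec m ∧ lev m = lev n}
      one_mem' := fun n hn => ⟨n, hn, one_smul _ _, rfl⟩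
      mul_mem' := fun {g h} hg hh n hn => by
        obtain ⟨m, hm, e, l⟩ := hh n hn
        obtain ⟨m', hm', e', l'⟩ := hg m hm
        exact ⟨m', hm', by rw [mul_smul, e, e'], l'.trans l⟩ }
  { S with
    inv_mem' := fun {g} hg => by
      have : g⁻¹ = g ^ (orderOf g - 1) := inv_eq_of_mul_eq_one_right (by
        rw [← pow_succ', Nat.sub_add_cancel (orderOf_pos g), pow_orderOf_eq_one])
      rw [this]; exact S.pow_mem hg _ }

theorem mem_flag_of_code {g : Sp62} {c : ℕ} (hg : Rep g c)
    (h : ∀ n < 8, app c n < 8 ∧ lev (app c n) = lev n) : g ∈ flag :=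
  fun n hn => ⟨app c n, (h n hn).1, hg n (by omega), (h n hn).2⟩

theorem tl_rep : ∀ k ≤ 9, ∀ c ∈ tl.take (2 ^ k), ∃ g, Rep g c ∧ g ∈ flag ∧ (k ≤ 6 → g ∈ lagU) := by
  intro k
  induction k with
  | zero =>
    intro _ c hc
    have h := tl_base
    simp only [Bool.and_eq_true, beq_iff_eq] at h
    rw [pow_zero, h.1, List.mem_singleton] at hc
    exact ⟨1, hc ▸ rep_one, flag.one_mem, fun _ => lagU.one_mem⟩
  | succ k ih =>
    intro hk c hc
    rw [show (2 : ℕ) ^ (k + 1) = 2 ^ k + 2 ^ k by ring, List.take_add, List.mem_append] at hc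
    rcases hc with hc | hc
    · obtain ⟨g, h1, h2, h3⟩ := ih (by omega) c hc
      exact ⟨g, h1, h2, fun h => h3 (by omega)⟩
    · have h := List.all_eq_true.mp tl_step k (List.mem_range.mpr (by omega))
      rw [beq_iff_eq] at h
      rw [h, List.mem_map] at hc
      obtain ⟨a, ha, rfl⟩ := hc
      obtain ⟨g, h1, h2, h3⟩ := ih (by omega) a ha
      have hlen : k < g9.length := by simp only [g9, List.length_cons, List.length_nil]; omega
      have hw : g9.getD k [] = g9[k] := List.getD_eq_getElem g9 [] hlen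
      rw [hw]
      refine ⟨g * pw g9[k], h1.mul (rep_pw _), mul_mem h2 (mem_flag_of_code (rep_pw _) fun n hn => ?_),
        fun h6 => mul_mem (h3 (by omega)) (list_prod_mem ?_)⟩
      · have := List.all_eq_true.mp (List.all_eq_true.mp g9_flag _ (List.getElem_mem hlen)) n
          (List.mem_range.mpr hn)
        simpa using this
      · intro x hx
        rw [List.mem_map] at hx
        obtain ⟨m, hm, rfl⟩ := hx
        have hm6 : g9[k] ∈ g9.take 6 :=
          List.mem_take_iff_getElem.mpr ⟨k, by rw [Nat.lt_min]; omega, rfl⟩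
        have := List.all_eq_true.mp (List.all_eq_true.mp g9_lag _ hm6) m hm
        exact Subgroup.subset_closure ⟨⟨m, by simpa using this⟩, rfl⟩

theorem tl_take_all : tl.take (2 ^ 9) = tl := by
  have h := tl_base
  simp only [Bool.and_eq_true, beq_iff_eq] at h
  exact List.take_of_length_le (by rw [h.2]; norm_num)

/-- Images of `x₁, x₂, x₃` and the completions. -/
theorem key_mem_compl {g : Sp62} {c : ℕ} (hg : Rep g c) {L : List ℕ}
    (hL : compl (app c 1) (app c 2) (app c 4) L = true) : key c ∈ L := by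
  have hf : ∀ i j : Fin 6, frm (app c (2 ^ i.val)) (app c (2 ^ j.val)) = frm (2 ^ i.val) (2 ^ j.val) :=
    fun i j => hg.form (lt_of_lt_of_le (Nat.pow_lt_pow_right (by norm_num) i.isLt) (by norm_num))
      (lt_of_lt_of_le (Nat.pow_lt_pow_right (by norm_num) j.isLt) (by norm_num))
  have hms : ∀ k : Fin 3, app c (2 ^ (k.val + 3)) ∈ ms (app c 1) (app c 2) (app c 4) k.val := by
    intro k
    simp only [ms, List.mem_filter, List.mem_range, app_lt, true_and, Bool.and_eq_true, beq_iff_eq]
    have h0 := hf 0 ⟨k.val + 3, by omega⟩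
    have h1 := hf 1 ⟨k.val + 3, by omega⟩
    have h2 := hf 2 ⟨k.val + 3, by omega⟩
    simp only [Fin.val_zero, Fin.val_one, Fin.val_two, pow_zero, pow_one, show (2 : ℕ) ^ 2 = 4 from rfl] at h0 h1 h2
    rw [h0, h1, h2]
    clear h0 h1 h2 hf; revert k; decide
  have h34 := hf 3 4
  have h35 := hf 3 5
  have h45 := hf 4 5
  have hpq := List.all_eq_true.mp (List.all_eq_true.mp hL _ (hms 0)) _ (hms 1)
  simp only [Fin.val_zero, Fin.val_one, zero_add] at hpq
  rw [Bool.or_eq_true] at hpq
  rcases hpq with h | h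
  · exact absurd (h.symm.trans h34) (by decide)
  have hr := List.all_eq_true.mp h _ (hms 2)
  simp only [Fin.val_two, Bool.or_eq_true] at hr
  rcases hr with (h | h) | h
  · exact absurd (h.symm.trans h35) (by decide)
  · exact absurd (h.symm.trans h45) (by decide)
  rw [List.contains_iff_mem] at h
  simpa [key, pk] using h

theorem flag_key {g : Sp62} (hg : g ∈ flag) : kg g ∈ tl.map key := by
  have hr := rep_code g
  set c := code g with hc
  have hm : ∀ n < 8, app c n < 8 ∧ lev (app c n) = lev n := by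
    intro n hn
    obtain ⟨m, hm, e, l⟩ := hg n hn
    rw [hr n (by omega)] at e
    rw [vec_inj' (app_lt _ _) (by omega) e]
    exact ⟨hm, l⟩
  obtain ⟨ha, la⟩ := hm 1 (by norm_num)
  obtain ⟨hb, lb⟩ := hm 2 (by norm_num)
  obtain ⟨hc', lc⟩ := hm 4 (by norm_num)
  have h1 : app c 1 = 1 := by
    rw [show lev 1 = 1 from rfl] at la
    revert la; unfold lev; clear_value c; clear lb lc hm hc hr; split_ifs <;> intro la <;> first | omega | exact la.elim
  have := List.all_eq_true.mp (List.all_eq_true.mp flag_compl _ (List.mem_range.mpr hb)) _ (List.mem_range.mpr hc')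
  rw [lb, lc, show lev 2 = 2 from rfl, show lev 4 = 3 from rfl] at this
  exact key_mem_compl hr (by rw [h1]; simpa using this)

theorem card_flag : Nat.card flag = 512 := by
  rw [card_of_keys flag _ tk_nodup (fun g hg => flag_key hg) fun k hk => by
    obtain ⟨c, hc, rfl⟩ := List.mem_map.mp hk
    obtain ⟨g, h1, h2, -⟩ := tl_rep 9 le_rfl c (by rwa [tl_take_all])
    exact ⟨g, h2, kg_eq h1⟩]
  have h := tl_base
  simp only [Bool.and_eq_true, beq_iff_eq] at h
  rw [List.length_map, h.2]

theorem factorization_two : (1451520 : ℕ).factorization 2 = 9 := by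
  rw [show (1451520 : ℕ) = 2 ^ 9 * 2835 by norm_num, Nat.factorization_mul (by norm_num) (by norm_num),
    Finsupp.add_apply, Nat.Prime.factorization_pow Nat.prime_two, Finsupp.single_eq_same,
    Nat.factorization_eq_zero_of_not_dvd (by norm_num)]

/-- The flag stabiliser as a Sylow subgroup. -/
noncomputable def flagSylow : Sylow 2 Sp62 :=
  Sylow.ofCard flag (by rw [card_flag, card_Sp62, factorization_two]; norm_num)

theorem coe_flagSylow : (flagSylow : Subgroup Sp62) = flag := rfl

theorem lag_fix {g : Sp62} (hg : g ∈ lagU) {n : ℕ} (hn : n < 8) : g • vec n = vec n := by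
  refine MulAction.mem_stabilizer_iff.mp ((Subgroup.closure_le _).mpr ?_ hg)
  rintro _ ⟨m, rfl⟩
  have : ∀ m n : Fin 8, tn m.val n.val = n.val := by decide +kernel
  simp only [SetLike.mem_coe, MulAction.mem_stabilizer_iff]
  rw [tv_smul, this m ⟨n, hn⟩]

theorem lag_flag : lagU ≤ flag := fun _ hg n hn => ⟨n, hn, lag_fix hg hn, rfl⟩

theorem tv_mem_lag {m : ℕ} (hm : m < 64) (h : tv m ∈ lagU) : m < 8 := by
  have key : ∀ m : Fin 64, tn m.val 1 = 1 → tn m.val 2 = 2 → tn m.val 4 = 4 → m.val < 8 := by decide +kernel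
  have e : ∀ n < 8, tn m n = n := fun n hn =>
    vec_inj' (by unfold tn; split <;> omega) (by omega) ((tv_smul m n).symm.trans (lag_fix h hn))
  exact key ⟨m, hm⟩ (e 1 (by norm_num)) (e 2 (by norm_num)) (e 4 (by norm_num))

theorem key_mem_lag {g : Sp62} (h : ∀ n < 8, Commute g (tv n)) : kg g ∈ (tl.take 64).map key := by
  have hr := rep_code g
  set c := code g with hc
  have e : ∀ n < 8, app c n = n := fun n hn => by
    have h1 : g * tv n * g⁻¹ = tv (app c n) := by
      rw [show tv (app c n) = transv (vec (app c n)) 1 from rfl, ← hr n (by omega)]; exact transv_conj _ _ _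
    rw [(h n hn).eq, mul_inv_cancel_right] at h1
    exact (tv_inj (by omega) (app_lt _ _) h1).symm
  exact key_mem_compl hr (by rw [e 1 (by norm_num), e 2 (by norm_num), e 4 (by norm_num)]; exact cent_compl)

theorem mem_lag_of_key {g : Sp62} (h : kg g ∈ (tl.take 64).map key) : g ∈ lagU := by
  obtain ⟨c, hc, e⟩ := List.mem_map.mp h
  obtain ⟨g', h1, -, h3⟩ := tl_rep 6 (by norm_num) c hc
  rw [kg_inj ((e.symm.trans (kg_eq h1).symm) : kg g = kg g')]
  exact h3 le_rfl

theorem mem_lag_of_commute {g : Sp62} (h : ∀ n < 8, Commute g (tv n)) : g ∈ lagU :=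
  mem_lag_of_key (key_mem_lag h)

theorem lag_comm {g h : Sp62} (hg : g ∈ lagU) (hh : h ∈ lagU) : Commute g h := by
  have h1 : ∀ n : Fin 8, ∀ x ∈ lagU, Commute (tv n.val) x := by
    intro n x hx
    induction hx using Subgroup.closure_induction with
    | mem y hy =>
      obtain ⟨m, rfl⟩ := hy
      exact (commute_iff (rep_tv _) (rep_tv _)).mpr
        (List.all_eq_true.mp (List.all_eq_true.mp tv_comm _ (List.mem_range.mpr n.isLt)) _ (List.mem_range.mpr m.isLt))
    | one => exact Commute.one_right _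
    | mul _ _ _ _ a b => exact a.mul_right b
    | inv _ _ a => exact a.inv_right
  induction hg using Subgroup.closure_induction with
  | mem y hy => obtain ⟨m, rfl⟩ := hy; exact h1 m h hh
  | one => exact Commute.one_left _
  | mul _ _ _ _ a b => exact a.mul_left b
  | inv _ _ a => exact a.inv_left

theorem lag_key {g : Sp62} (hg : g ∈ lagU) : kg g ∈ (tl.take 64).map key :=
  key_mem_lag fun n hn => lag_comm hg (Subgroup.subset_closure ⟨⟨n, hn⟩, rfl⟩)

theorem lag_sq {g : Sp62} (hg : g ∈ lagU) : g * g = 1 := by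
  obtain ⟨c, hc, e⟩ := List.mem_map.mp (lag_key hg)
  obtain ⟨g', h1, -, -⟩ := tl_rep 6 (by norm_num) c hc
  rw [kg_inj ((e.symm.trans (kg_eq h1).symm) : kg g = kg g')]
  exact (sq_iff h1).mpr (List.all_eq_true.mp u_sq c hc)

theorem card_lagU : Nat.card lagU = 64 := by
  rw [card_of_keys lagU _ ((List.Sublist.map key (List.take_sublist 64 tl)).nodup tk_nodup)
    (fun g hg => lag_key hg) fun k hk => by
      obtain ⟨c, hc, rfl⟩ := List.mem_map.mp hk
      obtain ⟨g, h1, -, h3⟩ := tl_rep 6 (by norm_num) c hc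
      exact ⟨g, h3 le_rfl, kg_eq h1⟩]
  have h := tl_base
  simp only [Bool.and_eq_true, beq_iff_eq] at h
  rw [List.length_map, List.length_take, h.2]; rfl

theorem flag_rep {g : Sp62} (hg : g ∈ flag) : ∃ c ∈ tl, Rep g c := by
  obtain ⟨c, hc, e⟩ := List.mem_map.mp (flag_key hg)
  obtain ⟨g', h1, -, -⟩ := tl_rep 9 le_rfl c (by rwa [tl_take_all])
  exact ⟨c, hc, kg_inj ((e.symm.trans (kg_eq h1).symm) : kg g = kg g') ▸ h1⟩

/-- The Lagrangian subgroup is the only elementary abelian subgroup of order 64 of the Sylow subgroup. -/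
theorem ea_unique {E : Subgroup Sp62} (hE : E ≤ flag) (hsq : ∀ e ∈ E, e * e = 1) (hcard : Nat.card E = 64) :
    E = lagU := by
  by_contra hne
  have hcomm : ∀ a ∈ E, ∀ b ∈ E, Commute a b := fun a ha b hb => by
    have hinv : ∀ x ∈ E, x⁻¹ = x := fun x hx => inv_eq_of_mul_eq_one_right (hsq x hx)
    show a * b = b * a
    conv_lhs => rw [← hinv _ (mul_mem ha hb), mul_inv_rev, hinv a ha, hinv b hb]
  obtain ⟨t, ht, htU⟩ : ∃ t ∈ E, t ∉ lagU := by
    by_contra hall
    push Not at hall
    exact hne (Subgroup.eq_of_le_of_card_ge hall (by rw [hcard, card_lagU]))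
  obtain ⟨ct, hct, hrt⟩ := flag_rep (hE ht)
  have hdrop : ct ∈ tl.drop 64 := by
    have hh := hct
    rw [← List.take_append_drop 64 tl, List.mem_append] at hh
    exact hh.resolve_left fun h => htU (mem_lag_of_key (kg_eq hrt ▸ List.mem_map_of_mem h))
  have hchk := List.all_eq_true.mp ea_check ct (List.mem_filter.mpr ⟨hdrop, (sq_iff hrt).mp (hsq t ht)⟩)
  set C := iv.filter (cm ct) with hC
  have hmem : ∀ e ∈ E, ∃ c ∈ C, Rep e c := fun e he => by
    obtain ⟨c, hc, hr⟩ := flag_rep (hE he)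
    exact ⟨c, List.mem_filter.mpr ⟨List.mem_filter.mpr ⟨hc, (sq_iff hr).mp (hsq e he)⟩,
      (commute_iff hrt hr).mp (hcomm t ht e he)⟩, hr⟩
  choose f hf hfr using hmem
  let φ : E → C.toFinset := fun e => ⟨f e e.2, List.mem_toFinset.mpr (hf e e.2)⟩
  have hφ : Function.Injective φ := fun a b e => Subtype.ext (by
    have e' : f a a.2 = f b b.2 := congrArg Subtype.val e
    exact eq_of_key (hfr a a.2) (hfr b b.2) (by rw [e']))
  have hle := Nat.card_le_card_of_injective φ hφ
  rw [hcard, Nat.card_eq_finsetCard] at hle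
  have hlen := C.toFinset_card_le
  simp only [Bool.or_eq_true, Bool.and_eq_true, decide_eq_true_eq, List.any_eq_true, Bool.not_eq_true'] at hchk
  rcases hchk with h | ⟨h64, a, ha, b, hb, hab⟩
  · omega
  have hsurj : Function.Surjective φ := by
    refine (Nat.bijective_iff_injective_and_card φ).mpr ⟨hφ, ?_⟩ |>.2
    rw [hcard, Nat.card_eq_finsetCard]; omega
  obtain ⟨x, hx⟩ := hsurj ⟨a, List.mem_toFinset.mpr ha⟩
  obtain ⟨y, hy⟩ := hsurj ⟨b, List.mem_toFinset.mpr hb⟩
  have hx' : f x x.2 = a := congrArg Subtype.val hx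
  have hy' : f y y.2 = b := congrArg Subtype.val hy
  have := (commute_iff (hfr x x.2) (hfr y y.2)).mp (hcomm x x.2 y y.2)
  rw [hx', hy', hab] at this
  exact Bool.noConfusion this

/-- Every involution commutes with an element of order three. -/
theorem exists_three {t : Sp62} (ht : t * t = 1) : ∃ x : Sp62, orderOf x = 3 ∧ Commute x t := by
  have hp : IsPGroup 2 (Subgroup.zpowers t) := by
    have hd : orderOf t ∣ 2 ^ 1 := orderOf_dvd_of_pow_eq_one (by rw [pow_one, pow_two]; exact ht)
    obtain ⟨j, -, hj⟩ := (Nat.dvd_prime_pow Nat.prime_two).mp hd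
    exact IsPGroup.of_card (n := j) (by rw [Nat.card_zpowers, hj])
  obtain ⟨Q, hQ⟩ := hp.exists_le_sylow
  obtain ⟨g, hg⟩ := MulAction.exists_smul_eq Sp62 Q flagSylow
  have hmem : g * t * g⁻¹ ∈ flag := by
    rw [← coe_flagSylow, ← hg, Sylow.coe_subgroup_smul]
    exact ⟨t, hQ (Subgroup.mem_zpowers t), rfl⟩
  obtain ⟨c, hc, hr⟩ := flag_rep hmem
  have hs : (g * t * g⁻¹) * (g * t * g⁻¹) = 1 := by
    rw [show (g * t * g⁻¹) * (g * t * g⁻¹) = g * (t * t) * g⁻¹ by group, ht]; group
  have hw := List.all_eq_true.mp iv_commute c (List.mem_filter.mpr ⟨hc, (sq_iff hr).mp hs⟩)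
  simp only [List.any_eq_true, List.mem_map] at hw
  obtain ⟨_, ⟨w, hw, rfl⟩, hcm⟩ := hw
  have hcomm : Commute (g * t * g⁻¹) (pw w) := (commute_iff hr (rep_pw w)).mpr hcm
  have h3 := List.all_eq_true.mp xs_three w hw
  simp only [Bool.and_eq_true, beq_iff_eq, bne_iff_ne, ne_eq] at h3
  have e3 : pw w ^ 3 = 1 := by
    rw [pow_succ, pow_two, ← pw_append, ← pw_append]
    exact eq_of_key (rep_pw _) rep_one h3.1
  have e1 : pw w ≠ 1 := fun e => h3.2 ((rep_pw w).key_eq (e ▸ rep_one))
  refine ⟨g⁻¹ * pw w * g, ?_, ?_⟩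
  · have : Fact (Nat.Prime 3) := ⟨Nat.prime_three⟩
    have ho : orderOf (pw w) = 3 := orderOf_eq_prime e3 e1
    have := (orderOf_injective (MulAut.conj g⁻¹).toMonoidHom (MulAut.conj g⁻¹).injective (pw w)).trans ho
    simpa using this
  · have := hcomm.symm.map (MulAut.conj g⁻¹)
    simpa [mul_assoc] using this

/-- An element mapping the Lagrangian into itself normalises the subgroup. -/
theorem mem_normalizer_of_code {g : Sp62} {c : ℕ} (hg : Rep g c) (h : ∀ n < 8, app c n < 8) :
    g ∈ Subgroup.normalizer (lagU : Set Sp62) := by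
  have hle : lagU.map (MulAut.conj g).toMonoidHom ≤ lagU := by
    rw [lagU, MonoidHom.map_closure, Subgroup.closure_le]
    rintro _ ⟨_, ⟨n, rfl⟩, rfl⟩
    refine Subgroup.subset_closure ⟨⟨app c n.val, h n.val n.isLt⟩, ?_⟩
    simp only [MulEquiv.coe_toMonoidHom, MulAut.conj_apply]
    rw [show tv (app c n.val) = transv (vec (app c n.val)) 1 from rfl, ← hg n.val (by omega)]
    exact (transv_conj _ _ _).symm
  have heq := Subgroup.eq_of_le_of_card_ge hle
    (by rw [Subgroup.card_map_of_injective (f := (MulAut.conj g).toMonoidHom) (MulAut.conj g).injective])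
  rw [Subgroup.mem_normalizer_iff]
  intro x
  constructor
  · exact fun hx => heq ▸ ⟨x, hx, rfl⟩
  · intro hx
    obtain ⟨y, hy, e⟩ := heq.symm ▸ hx
    rwa [← (MulAut.conj g).injective e]

end Cfsg.Agent.Sp62Three31.Lag
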