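import Mathlib
import Cfsg.Agent.Lib.Sp62Three31LagModel
import Cfsg.Agent.Lib.Sp62Three31LagClassTable

/-!
The four classes of involutions of `Sp(6,2)`.
-/

set_option autoImplicit false
set_option maxRecDepth 100000

namespace Cfsg.Agent.Sp62Three31.Lag

open Cfsg.Agent.PSp62MultiplierData

/-- The four representatives as words. -/
def repw (k : ℕ) : List ℕ :=
  if k = 0 then [1] else if k = 1 then [1, 2] else if k = 2 then [1, 2, 3] else [4, 1, 2, 3]

theorem cls_ok : ((tl.zip (List.range 512)).all fun e => !sq e.1 || e.2 == 0 ||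
    cls.any fun d => d.1 == e.2 &&
      key2 (cw d.2.2) (cw (repw d.2.1)) == key2 e.1 (cw d.2.2)) = true := by decide +kernel

theorem zip_key : (key (tl.getD 0 0) == key idc) = true := by decide +kernel

/-- Every non-trivial involution is conjugate to one of the four representatives. -/
theorem classes {t : Sp62} (ht : t * t = 1) (ht1 : t ≠ 1) :
    ∃ r ∈ ({rD, rV, rT, rQ} : Set Sp62), ∃ g : Sp62, g * r * g⁻¹ = t := by
  have : Fact (Nat.Prime 2) := ⟨Nat.prime_two⟩
  have ho : orderOf t = 2 := orderOf_eq_prime (by rw [pow_two, ht]) ht1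
  have hp : IsPGroup 2 (Subgroup.zpowers t) := IsPGroup.of_card (n := 1) (by rw [Nat.card_zpowers, ho, pow_one])
  obtain ⟨Q, hQ⟩ := hp.exists_le_sylow
  obtain ⟨g, hg⟩ := MulAction.exists_smul_eq Sp62 Q flagSylow
  have hmem : g * t * g⁻¹ ∈ flag := by
    rw [← coe_flagSylow, ← hg, Sylow.coe_subgroup_smul]
    exact ⟨t, hQ (Subgroup.mem_zpowers t), rfl⟩
  obtain ⟨c, hc, hr⟩ := flag_rep hmem
  obtain ⟨i, hi, rfl⟩ := List.mem_iff_getElem.mp hc
  have hlen : tl.length = 512 := by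
    have h := tl_base
    simp only [Bool.and_eq_true, beq_iff_eq] at h
    exact h.2
  have hz : (tl[i], i) ∈ tl.zip (List.range 512) := by
    refine List.mem_iff_getElem.mpr ⟨i, by rw [List.length_zip, List.length_range]; omega, ?_⟩
    rw [List.getElem_zip, List.getElem_range]
  have hs : sq tl[i] = true := (sq_iff hr).mp (by
    rw [show (g * t * g⁻¹) * (g * t * g⁻¹) = g * (t * t) * g⁻¹ by group, ht]; group)
  have h := List.all_eq_true.mp cls_ok _ hz
  simp only [Bool.or_eq_true, Bool.not_eq_true', List.any_eq_true, Bool.and_eq_true, beq_iff_eq] at h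
  rcases h with (h | h) | ⟨d, -, -, hk⟩
  · exact absurd (hs.symm.trans h) (by simp)
  · exfalso
    subst h
    have e : g * t * g⁻¹ = 1 := eq_of_key hr rep_one (by
      have := zip_key
      rw [beq_iff_eq, List.getD_eq_getElem tl 0 hi] at this
      exact this)
    exact ht1 (conj_eq_one_iff.mp e)
  · rw [key2_eq, key2_eq] at hk
    have e : pw d.2.2 * pw (repw d.2.1) = (g * t * g⁻¹) * pw d.2.2 :=
      eq_of_key ((rep_pw _).mul (rep_pw _)) (hr.mul (rep_pw _)) hk
    refine ⟨pw (repw d.2.1), ?_, g⁻¹ * pw d.2.2, ?_⟩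
    · rw [repw]
      split_ifs <;> simp [pw, rD, rV, rT, rQ, mul_assoc]
    · rw [mul_inv_rev, inv_inv,
        show g⁻¹ * pw d.2.2 * pw (repw d.2.1) * ((pw d.2.2)⁻¹ * g) =
          g⁻¹ * (pw d.2.2 * pw (repw d.2.1)) * (pw d.2.2)⁻¹ * g by group, e]
      group

/-- Every involution is conjugate into the Lagrangian subgroup. -/
theorem mem_lag_conj {t : Sp62} (ht : t * t = 1) (ht1 : t ≠ 1) :
    ∃ g : Sp62, ∃ u ∈ lagU, g * u * g⁻¹ = t := by
  obtain ⟨r, hr, g, hg⟩ := classes ht ht1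
  have hm : ∀ n : Fin 8, tv n.val ∈ lagU := fun n => Subgroup.subset_closure ⟨n, rfl⟩
  simp only [Set.mem_insert_iff, Set.mem_singleton_iff] at hr
  rcases hr with rfl | rfl | rfl | rfl
  · exact ⟨g, _, hm 1, hg⟩
  · exact ⟨g, _, mul_mem (hm 1) (hm 2), hg⟩
  · exact ⟨g, _, mul_mem (mul_mem (hm 1) (hm 2)) (hm 3), hg⟩
  · exact ⟨g, _, mul_mem (hm 4) (mul_mem (mul_mem (hm 1) (hm 2)) (hm 3)), hg⟩

end Cfsg.Agent.Sp62Three31.Lag
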