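import Cfsg.Agent.Lib.Sp62Three31FinalModel
import Cfsg.Agent.Lib.ZStarTheorem
import Cfsg.Agent.Lib.CoprimeGen
import Cfsg.Agent.Lib.Sp62Three31LagClasses

/-!
The endgame of S3342: a group in which the centralisers of the involutions of types `v` and `q` of
`Sp(6,2)` lie inside it, and fusion is controlled, equals it.
-/

set_option autoImplicit false
set_option linter.unusedSectionVars false

namespace Cfsg.Agent.Sp62Three31

open Cfsg.Agent.SymplecticBasic Cfsg.Agent.PSp62MultiplierData FinalModel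

universe u

/-- The four classes of involutions of `Sp(6,2)`. -/
def Classes : Prop := ∀ x : Sp62, x * x = 1 → x ≠ 1 →
  IsConj rD x ∨ IsConj rV x ∨ IsConj rT x ∨ IsConj rQ x

theorem good1 : Good [1] := by intro v hv; simp at hv; omega
theorem good12 : Good [1, 2] := by intro v hv; simp at hv; omega
theorem good123 : Good [1, 2, 3] := by intro v hv; simp at hv; omega
theorem good4123 : Good [4, 1, 2, 3] := by intro v hv; simp at hv; omega

theorem ev1 : ev [1] = rD := by simp [ev, rD]
theorem ev12 : ev [1, 2] = rV := by simp [ev, rV]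
theorem ev123 : ev [1, 2, 3] = rT := by simp [ev, rT, mul_assoc]
theorem ev4123 : ev [4, 1, 2, 3] = rQ := by simp [ev, rQ, rT, mul_assoc]

theorem ev_cons (n : ℕ) (w : List ℕ) : ev (n :: w) = tv n * ev w := by simp [ev]
theorem ev_single (n : ℕ) : ev [n] = tv n := by simp [ev]
theorem ev_append (w w' : List ℕ) : ev (w ++ w') = ev w * ev w' := by simp [ev]

theorem good_cons {n : ℕ} {w : List ℕ} (hn : n < 64) (hw : Good w) : Good (n :: w) :=
  fun v hv => (List.mem_cons.mp hv).elim (fun e => e ▸ hn) (hw v)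

theorem good_append {w w' : List ℕ} (hw : Good w) (hw' : Good w') : Good (w ++ w') :=
  fun v hv => (List.mem_append.mp hv).elim (hw v) (hw' v)

theorem commW_iff {w w' : List ℕ} (hw : Good w) (hw' : Good w') :
    commW w w' = true ↔ Commute (ev w) (ev w') := by
  rw [commW, eqW_iff (good_append hw hw') (good_append hw' hw), ev_append, ev_append]
  rfl

theorem tv_sq (n : ℕ) : tv n * tv n = 1 := by
  rw [tv, transv_add]
  exact (congrArg _ (by decide : (1 : ZMod 2) + 1 = 0)).trans (transv_zero _)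

/-- The class of an involution is determined by the invariant. -/
theorem conj_of_kind (hcl : Classes) {w r : List ℕ} (hw : Good w) (hr : r ∈ reps)
    (h2 : ev w * ev w = 1) (h1 : ev w ≠ 1) (hk : kindW w = kindW r) : IsConj (ev r) (ev w) := by
  have key : ∀ i : Fin 4, Good (reps.getD i.val []) → IsConj (ev (reps.getD i.val [])) (ev w) →
      IsConj (ev r) (ev w) := by
    intro i hg hc
    obtain ⟨j, hj, e⟩ := List.getElem_of_mem hr
    have hj' : j < 4 := hj
    have e' : reps.getD j [] = r := by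
      rw [← e]; simp [List.getD, List.getElem?_eq_getElem hj]
    have := kinds_ne i ⟨j, hj'⟩ (by rw [kindW_eq hg hw hc, hk, e'])
    rw [← e', show j = i.val from (congrArg Fin.val this).symm]
    exact hc
  rcases hcl _ h2 h1 with h | h | h | h
  · rw [← ev1] at h; exact key 0 good1 h
  · rw [← ev12] at h; exact key 1 good12 h
  · rw [← ev123] at h; exact key 2 good123 h
  · rw [← ev4123] at h; exact key 3 good4123 h

theorem conj_V_or_Q (hcl : Classes) {w : List ℕ} (hw : Good w) (h2 : ev w * ev w = 1)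
    (h1 : ev w ≠ 1) (hD : kindW w ≠ kindW [1]) (hT : kindW w ≠ kindW [1, 2, 3]) :
    IsConj rV (ev w) ∨ IsConj rQ (ev w) := by
  rcases hcl _ h2 h1 with h | h | h | h
  · rw [← ev1] at h; exact absurd (kindW_eq good1 hw h).symm hD
  · exact Or.inl h
  · rw [← ev123] at h; exact absurd (kindW_eq good123 hw h).symm hT
  · exact Or.inr h

theorem exists_tv {x : Sp62} (h : IsConj rD x) : ∃ n < 64, n ≠ 0 ∧ x = tv n := by
  obtain ⟨c, rfl⟩ := isConj_iff.mp h
  obtain ⟨n, hn⟩ := vec_surj (c • vec 1)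
  refine ⟨n.val, n.isLt, fun e => ?_, ?_⟩
  · have hz : vec 0 = 0 := by decide +kernel
    rw [e, hz, ← smul_zero c, smul_left_cancel_iff] at hn
    revert hn; decide +kernel
  · rw [rD, tv, transv_conj, hn, tv]

theorem exists_line {x : Sp62} (h : IsConj rT x) :
    ∃ a b : Fin 64, fb a.val b.val = false ∧ x = ev [a.val, b.val, a.val ^^^ b.val] := by
  obtain ⟨c, rfl⟩ := isConj_iff.mp h
  obtain ⟨a, ha⟩ := vec_surj (c • vec 1)
  obtain ⟨b, hb⟩ := vec_surj (c • vec 2)
  refine ⟨a, b, ?_, ?_⟩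
  · have h1 := form_vec a b
    rw [← ha, ← hb, form_map] at h1
    cases hf : fb a.val b.val
    · rfl
    · rw [hf, if_pos rfl] at h1
      revert h1; decide +kernel
  · have h3 : c • vec 3 = vec (a.val ^^^ b.val) := by
      have h12 : vec 3 = vec 1 + vec 2 := by rw [← vec_xor]; rfl
      rw [vec_xor, ← ha, ← hb, h12, smul_add]
    simp only [rT, ev, List.map_cons, List.map_nil, List.prod_cons, List.prod_nil, mul_one, tv]
    rw [← ha, ← hb, ← h3, ← transv_conj, ← transv_conj, ← transv_conj]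
    group

section General

variable {G : Type u} [Group G]

theorem dihedral_involution [Finite G] {x y : G} (hx : x * x = 1) (hy : y * y = 1) {R : Subgroup G}
    (hxR : x ∈ R) (hyR : y ∈ R) (h : ∀ r ∈ R, r * x * r⁻¹ ≠ y) :
    ∃ i, i * i = 1 ∧ i ≠ 1 ∧ i ∈ R ∧ Commute i x ∧ Commute i y ∧
      ∃ r ∈ R, r * x * r⁻¹ = x * i ∨ r * y * r⁻¹ = x * i := by
  have hxi : x⁻¹ = x := inv_eq_of_mul_eq_one_right hx
  have hyi : y⁻¹ = y := inv_eq_of_mul_eq_one_right hy
  set r := x * y with hr
  have hinvr : r⁻¹ = y * x := by rw [hr, mul_inv_rev, hxi, hyi]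
  have hrR : r ∈ R := mul_mem hxR hyR
  have hxrx : x * r * x = r⁻¹ := by
    rw [hinvr, hr, ← mul_assoc, hx, one_mul]
  have hconjx : ∀ k : ℕ, x * r ^ k * x = (r ^ k)⁻¹ := fun k => by
    induction k with
    | zero => simpa using hx
    | succ k ih =>
      calc x * r ^ (k + 1) * x = x * r ^ k * (x * x) * r * x := by
            rw [hx, mul_one, pow_succ, ← mul_assoc]
        _ = (x * r ^ k * x) * (x * r * x) := by simp only [mul_assoc]
        _ = (r ^ (k + 1))⁻¹ := by rw [ih, hxrx, ← mul_inv_rev, ← pow_succ']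
  have hrk : ∀ k : ℕ, r ^ k * x = x * (r ^ k)⁻¹ := fun k => by
    rw [← hconjx k, ← mul_assoc, ← mul_assoc, hx, one_mul]
  have hsplit : ∀ k : ℕ, r ^ k * x * (r ^ k)⁻¹ = x * (r ^ (2 * k))⁻¹ := fun k => by
    rw [two_mul, pow_add, mul_inv_rev, hrk, mul_assoc]
  rcases Nat.even_or_odd (orderOf r) with ⟨m, hm⟩ | ⟨m, hm⟩
  · have hpos : 0 < orderOf r := orderOf_pos r
    have hi2 : r ^ m * r ^ m = 1 := by rw [← pow_add, ← hm, pow_orderOf_eq_one]
    have hiinv : (r ^ m)⁻¹ = r ^ m := inv_eq_of_mul_eq_one_right hi2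
    have hix : Commute (r ^ m) x := by
      have := hconjx m
      rw [hiinv] at this
      calc r ^ m * x = x * r ^ m * x * x := by rw [this]
        _ = x * r ^ m := by rw [mul_assoc _ x x, hx, mul_one]
    have hiy : Commute (r ^ m) y := by
      have e : y = x * r := by rw [hr, ← mul_assoc, hx, one_mul]
      rw [e]
      exact hix.mul_right (Commute.pow_self r m)
    refine ⟨r ^ m, hi2, fun e => ?_, pow_mem hrR m, hix, hiy, ?_⟩
    · have := orderOf_dvd_of_pow_eq_one e
      have := Nat.le_of_dvd (by omega) this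
      omega
    · rcases Nat.even_or_odd m with ⟨k, hk⟩ | ⟨k, hk⟩
      · refine ⟨r ^ k, pow_mem hrR k, Or.inl ?_⟩
        rw [hsplit k, show 2 * k = m by omega, hiinv]
      · refine ⟨r ^ (k + 1), pow_mem hrR _, Or.inr ?_⟩
        have e : y = x * r := by rw [hr, ← mul_assoc, hx, one_mul]
        have h1 : r ^ (k + 1) * y * (r ^ (k + 1))⁻¹ =
            (r ^ (k + 1) * x * (r ^ (k + 1))⁻¹) * r := by
          rw [e, mul_assoc _ (r ^ (k + 1))⁻¹ r, ((Commute.pow_self r (k + 1)).inv_left).eq]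
          simp [mul_assoc]
        rw [h1, hsplit, show 2 * (k + 1) = m + 1 by omega, pow_succ', mul_inv_rev, hiinv,
          mul_assoc, inv_mul_cancel_right]
  · exfalso
    refine h (r ^ (m + 1))⁻¹ (inv_mem (pow_mem hrR _)) ?_
    have h2 : (r ^ (m + 1))⁻¹ * x = x * r ^ (m + 1) := by
      rw [inv_mul_eq_iff_eq_mul, ← mul_assoc, hrk, inv_mul_cancel_right]
    rw [inv_inv, h2, mul_assoc, ← pow_add, show m + 1 + (m + 1) = orderOf r + 1 by omega, pow_succ,
      pow_orderOf_eq_one, one_mul, hr, ← mul_assoc, hx, one_mul]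

theorem le_of_nonconj [Finite G] {R L : Subgroup G} (hLR : L ≤ R) {x y z : G} (hx : x * x = 1)
    (hy : y * y = 1) (hxL : x ∈ L) (hyL : y ∈ L) (hx1 : x ≠ 1) (hy1 : y ≠ 1) (hxz : x ≠ z)
    (hyz : y ≠ z) (hnc : ∀ r ∈ R, r * x * r⁻¹ ≠ y)
    (hzx : z ≠ 1 → ∀ r ∈ R, r * x * r⁻¹ ≠ x * z ∧ r * y * r⁻¹ ≠ x * z)
    (hC : ∀ i ∈ L, i * i = 1 → i ≠ 1 → i ≠ z → ∀ r ∈ R, Commute r i → r ∈ L)
    (hfus : ∀ r ∈ R, r * y * r⁻¹ ∈ L → ∃ l ∈ L, l * y * l⁻¹ = r * y * r⁻¹) : R ≤ L := by
  intro g hg
  set y' := g * y * g⁻¹ with hy'def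
  have hy'R : y' ∈ R := mul_mem (mul_mem hg (hLR hyL)) (inv_mem hg)
  have hy' : y' * y' = 1 := by
    rw [hy'def]
    calc g * y * g⁻¹ * (g * y * g⁻¹) = g * (y * y) * g⁻¹ := by group
      _ = 1 := by rw [hy, mul_one, mul_inv_cancel]
  obtain ⟨i, hi2, hi1, hiR, hix, hiy, r, hr, hrc⟩ := dihedral_involution hx hy' (hLR hxL) hy'R
    fun r hr e => hnc (g⁻¹ * r) (mul_mem (inv_mem hg) hr) (by
      rw [hy'def] at e
      calc g⁻¹ * r * x * (g⁻¹ * r)⁻¹ = g⁻¹ * (r * x * r⁻¹) * g := by group
        _ = y := by rw [e]; group)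
  have hiL : i ∈ L := hC x hxL hx hx1 hxz i hiR hix
  have hiz : i ≠ z := by
    intro e
    subst e
    rcases hrc with e | e
    · exact (hzx hi1 r hr).1 e
    · refine (hzx hi1 (r * g) (mul_mem hr hg)).2 ?_
      rw [← e, hy'def]; group
  have hyL' : y' ∈ L := hC i hiL hi2 hi1 hiz y' hy'R hiy.symm
  obtain ⟨l, hl, hle⟩ := hfus g hg hyL'
  have hgl : l⁻¹ * g ∈ L := hC y hyL hy hy1 hyz (l⁻¹ * g) (mul_mem (inv_mem (hLR hl)) hg) (by
    show l⁻¹ * g * y = y * (l⁻¹ * g)
    calc l⁻¹ * g * y = l⁻¹ * (g * y * g⁻¹) * g := by group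
      _ = y * (l⁻¹ * g) := by rw [← hle]; group)
  simpa using mul_mem hl hgl

end General

variable {G : Type u} [Group G] [Finite G] (D : SpHyp G)

theorem local_iff {x : Sp62} :
    D.Local {x} ↔ ∀ g : G, Commute g (D.ψ x) → g ∈ D.ψ.range := by
  constructor
  · intro h g hg
    refine h ?_
    rw [Set.image_singleton, Subgroup.mem_centralizer_singleton_iff]
    exact hg.eq
  · intro h g hg
    rw [Set.image_singleton, Subgroup.mem_centralizer_singleton_iff] at hg
    exact h g hg

theorem local_conj {x y : Sp62} (h : IsConj x y) (hx : D.Local {x}) : D.Local {y} := by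
  obtain ⟨c, rfl⟩ := isConj_iff.mp h
  rw [local_iff] at hx ⊢
  intro g hg
  have h1 := hx ((D.ψ c)⁻¹ * g * D.ψ c) (by
    show _ * D.ψ x = D.ψ x * _
    have e : g * D.ψ (c * x * c⁻¹) = D.ψ (c * x * c⁻¹) * g := hg
    simp only [map_mul, map_inv] at e
    calc (D.ψ c)⁻¹ * g * D.ψ c * D.ψ x
        = (D.ψ c)⁻¹ * (g * (D.ψ c * D.ψ x * (D.ψ c)⁻¹)) * D.ψ c := by group
      _ = D.ψ x * ((D.ψ c)⁻¹ * g * D.ψ c) := by rw [e]; group)
  have hc : D.ψ c ∈ D.ψ.range := ⟨c, rfl⟩
  have := mul_mem (mul_mem hc h1) (inv_mem hc)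
  simpa [mul_assoc] using this

theorem fuse_conj (hF : D.Fuse) {x y : Sp62} (hx : x * x = 1) {g : G}
    (h : g * D.ψ x * g⁻¹ = D.ψ y) : IsConj x y := isConj_iff.mpr (hF x y hx ⟨g, h⟩)

theorem map_sq {x : Sp62} (hx : x * x = 1) : D.ψ x * D.ψ x = 1 := by
  rw [← map_mul, hx, map_one]

theorem map_ne_one {x : Sp62} (hx : x ≠ 1) : D.ψ x ≠ 1 := fun e => hx (D.inj (by rw [e, map_one]))

/-- Centralisers of transvections. -/
theorem local_D (hcl : Classes) (hF : D.Fuse) (hV : D.Local {rV}) (hQ : D.Local {rQ}) :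
    ∀ x, IsConj rD x → D.Local {x} := by
  have hT4 : IsConj rT (tv 4 * rQ) := by
    rw [rQ, ← mul_assoc, tv_sq, one_mul]
  have hd : IsConj rD (tv 4) := by
    have := conj_of_kind hcl (w := [4]) (r := [1]) (good_cons (by omega) (fun _ h => by simp at h))
      (by decide) (by rw [ev_single]; exact tv_sq 4) ?_ (by decide +kernel)
    · rwa [ev1, ev_single] at this
    · intro e
      rw [show (1 : Sp62) = ev [] from rfl, ← eqW_iff (good_cons (by omega) (fun _ h => by simp at h))
        (fun _ h => by simp at h)] at e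
      revert e; decide +kernel
  suffices hmain : D.Local {tv 4} from fun x hx => local_conj D (hd.symm.trans hx) hmain
  rw [local_iff]
  set z := D.ψ (tv 4) with hzdef
  set R := Subgroup.centralizer ({z} : Set G) with hRdef
  have hmemR : ∀ g : G, g ∈ R ↔ Commute g z := fun g => Subgroup.mem_centralizer_singleton_iff
  have hcD : Commute (tv 1) (tv 4) := by
    rw [← ev_single, ← ev_single, ← commW_iff good1 (good_cons (by omega) (fun _ h => by simp at h))]
    decide +kernel
  have hcQ : Commute rQ (tv 4) := by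
    rw [← ev4123, ← ev_single, ← commW_iff good4123 (good_cons (by omega) (fun _ h => by simp at h))]
    decide +kernel
  have hrQ2 : rQ * rQ = 1 := by
    rw [← ev4123, ← ev_append, show (1 : Sp62) = ev [] from rfl,
      ← eqW_iff (good_append good4123 good4123) (fun _ h => by simp at h)]
    decide +kernel
  have hne : ∀ w w' : List ℕ, Good w → Good w' → eqW w w' = false → ev w ≠ ev w' :=
    fun w w' hw hw' h e => by rw [(eqW_iff hw hw').mpr e] at h; exact Bool.noConfusion h
  have hnil : Good [] := fun _ h => by simp at h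
  have h4 : Good [4] := good_cons (by omega) hnil
  have hnotconj : ∀ {w w' : List ℕ}, Good w → Good w' → kindW w ≠ kindW w' → ev w * ev w = 1 →
      ∀ g : G, g * D.ψ (ev w) * g⁻¹ ≠ D.ψ (ev w') :=
    fun hw hw' hk h2 g e => hk (kindW_eq hw hw' (fuse_conj D hF h2 e))
  have key : R ≤ R ⊓ D.ψ.range := by
    refine le_of_nonconj inf_le_left (x := D.ψ (tv 1)) (y := D.ψ rQ) (z := z)
      (map_sq D (tv_sq 1)) (map_sq D hrQ2) ⟨(hmemR _).mpr (hcD.map D.ψ), ⟨_, rfl⟩⟩
      ⟨(hmemR _).mpr (hcQ.map D.ψ), ⟨_, rfl⟩⟩ ?_ ?_ ?_ ?_ ?_ ?_ ?_ ?_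
    · exact map_ne_one D (by rw [← ev_single]; exact hne [1] [] good1 hnil (by decide +kernel))
    · exact map_ne_one D (by rw [← ev4123]; exact hne _ [] good4123 hnil (by decide +kernel))
    · exact fun e => hne [1] [4] good1 h4 (by decide +kernel) (by simpa [ev] using D.inj e)
    · exact fun e => hne [4, 1, 2, 3] [4] good4123 h4 (by decide +kernel)
        (by rw [ev4123, ev_single]; exact D.inj e)
    · intro r _
      rw [← ev_single, ← ev4123]
      exact hnotconj good1 good4123 (by decide +kernel) (by rw [ev_single]; exact tv_sq 1) r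
    · intro _ r _
      rw [hzdef, ← map_mul, ← ev_single, ← ev_single, ← ev4123, ← ev_append]
      exact ⟨hnotconj good1 (good_append good1 h4) (by decide +kernel)
          (by rw [ev_single]; exact tv_sq 1) r,
        hnotconj good4123 (good_append good1 h4) (by decide +kernel) (by rw [ev4123]; exact hrQ2) r⟩
    · rintro _ ⟨hiR, i, rfl⟩ hi2 hi1 hiz r hr hri
      refine ⟨hr, ?_⟩
      have hi2' : i * i = 1 := D.inj (by rw [map_mul, map_one]; exact hi2)
      have hi1' : i ≠ 1 := fun e => hi1 (by rw [e, map_one])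
      have hiz' : i ≠ tv 4 := fun e => hiz (by rw [e])
      have hic : Commute i (tv 4) := D.inj (by
        show D.ψ (i * tv 4) = D.ψ (tv 4 * i)
        rw [map_mul, map_mul]; exact (hmemR _).mp hiR)
      have hrz : Commute r (D.ψ (tv 4)) := (hmemR _).mp hr
      have hprod : IsConj rV (tv 4 * i) ∨ IsConj rQ (tv 4 * i) → r ∈ D.ψ.range := by
        intro h
        have hl : D.Local {tv 4 * i} :=
          h.elim (fun h => local_conj D h hV) (fun h => local_conj D h hQ)
        exact (local_iff D).mp hl r (by rw [map_mul]; exact hrz.mul_right hri)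
      rcases hcl i hi2' hi1' with h | h | h | h
      swap
      · exact (local_iff D).mp (local_conj D h hV) r hri
      pick_goal 3
      · exact (local_iff D).mp (local_conj D h hQ) r hri
      all_goals
        obtain ⟨c, hc⟩ := isConj_iff.mp h
        subst hc
        obtain ⟨n, hn, hn0, hne'⟩ := exists_tv (hd.trans (isConj_iff.mpr ⟨c⁻¹, rfl⟩) :
          IsConj rD (c⁻¹ * tv 4 * c⁻¹⁻¹))
        rw [inv_inv] at hne'
        have hok := prodOK_all ⟨n, hn⟩
        simp only [prodOK, Bool.or_eq_true, Bool.and_eq_true, beq_iff_eq, hn0, false_or,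
          Bool.not_eq_true', bne_iff_ne] at hok
        refine hprod ?_
      · have hn1 : n ≠ 1 := fun e => hiz' (by
          rw [e] at hne'
          rw [rD, ← hne']; group)
        have hcm : commW [n] [1] = true := by
          rw [commW_iff (good_cons hn hnil) good1, ev_single, ev1, ← hne']
          have h3 := ((hic.symm).map (MulAut.conj c⁻¹))
          simpa [mul_assoc] using h3
        obtain ⟨hk1, hk2⟩ := (hok.1.resolve_left (by simp [hn1, hcm]))
        have e : tv 4 * (c * rD * c⁻¹) = c * ev [n, 1] * c⁻¹ := by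
          rw [ev_cons, ev1, ← hne']; group
        have hsq : ev [n, 1] * ev [n, 1] = 1 := by
          have h3 : Commute (tv n) rD := by
            rw [← ev_single, ← ev1]; exact (commW_iff (good_cons hn hnil) good1).mp hcm
          rw [ev_cons, ev1, h3.symm.mul_mul_mul_comm, tv_sq, one_mul]; exact tv_sq 1
        have hne1 : ev [n, 1] ≠ 1 := fun e1 => hiz' (by
          rw [e1, mul_one, mul_inv_cancel] at e
          exact (eq_inv_of_mul_eq_one_right e).trans (inv_eq_of_mul_eq_one_right (tv_sq 4)))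
        rw [e]
        exact (conj_V_or_Q hcl (good_cons hn good1) hsq hne1 hk1 hk2).imp
          (fun h => h.trans (isConj_iff.mpr ⟨c, rfl⟩)) (fun h => h.trans (isConj_iff.mpr ⟨c, rfl⟩))
      · have hcm : commW [n] [1, 2, 3] = true := by
          rw [commW_iff (good_cons hn hnil) good123, ev_single, ev123, ← hne']
          have h3 := ((hic.symm).map (MulAut.conj c⁻¹))
          simpa [mul_assoc] using h3
        obtain ⟨hk1, hk2⟩ := (hok.2.resolve_left (by simp [hcm]))
        have e : tv 4 * (c * rT * c⁻¹) = c * ev [n, 1, 2, 3] * c⁻¹ := by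
          rw [ev_cons, ev123, ← hne']; group
        have hT2 : rT * rT = 1 := by
          rw [← ev123, ← ev_append, show (1 : Sp62) = ev [] from rfl,
            ← eqW_iff (good_append good123 good123) hnil]
          decide +kernel
        have hsq : ev [n, 1, 2, 3] * ev [n, 1, 2, 3] = 1 := by
          have h3 : Commute (tv n) rT := by
            rw [← ev_single, ← ev123]; exact (commW_iff (good_cons hn hnil) good123).mp hcm
          rw [ev_cons, ev123, h3.symm.mul_mul_mul_comm, tv_sq, one_mul]; exact hT2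
        have hne1 : ev [n, 1, 2, 3] ≠ 1 := fun e1 => hiz' (by
          rw [e1, mul_one, mul_inv_cancel] at e
          exact (eq_inv_of_mul_eq_one_right e).trans (inv_eq_of_mul_eq_one_right (tv_sq 4)))
        rw [e]
        exact (conj_V_or_Q hcl (good_cons hn good123) hsq hne1 hk1 hk2).imp
          (fun h => h.trans (isConj_iff.mpr ⟨c, rfl⟩)) (fun h => h.trans (isConj_iff.mpr ⟨c, rfl⟩))
    · rintro r hr ⟨-, y0, hy0⟩
      have hcy : IsConj rQ y0 := fuse_conj D hF hrQ2 hy0.symm
      obtain ⟨c, hc⟩ := isConj_iff.mp hcy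
      have hT2 : (tv 4 * rQ) * (tv 4 * rQ) = 1 := by
        rw [hcQ.mul_mul_mul_comm, tv_sq, one_mul, hrQ2]
      have h5 : IsConj (tv 4 * rQ) (tv 4 * y0) := fuse_conj D hF hT2 (g := r) (by
        rw [map_mul, map_mul, hy0, ← hzdef]
        have h6 : r * z = z * r := (hmemR r).mp hr
        calc r * (z * D.ψ rQ) * r⁻¹ = (r * z) * D.ψ rQ * r⁻¹ := by group
          _ = z * (r * D.ψ rQ * r⁻¹) := by rw [h6]; group)
      obtain ⟨n, hn, -, hne'⟩ := exists_tv (hd.trans (isConj_iff.mpr ⟨c⁻¹, rfl⟩) :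
        IsConj rD (c⁻¹ * tv 4 * c⁻¹⁻¹))
      rw [inv_inv] at hne'
      have hy0c : Commute y0 (tv 4) := D.inj (by
        show D.ψ (y0 * tv 4) = D.ψ (tv 4 * y0)
        rw [map_mul, map_mul, hy0]
        exact (hmemR _).mp (mul_mem (mul_mem hr ((hmemR _).mpr (hcQ.map D.ψ))) (inv_mem hr)))
      have hcm : commW [n] [4, 1, 2, 3] = true := by
        rw [commW_iff (good_cons hn hnil) good4123, ev_single, ev4123, ← hne']
        have h3 := ((hy0c.symm).map (MulAut.conj c⁻¹))
        rw [← hc] at h3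
        simpa [mul_assoc] using h3
      have hk : kindW [n, 4, 1, 2, 3] = kindW [1, 2, 3] := by
        refine (kindW_eq good123 (good_cons hn good4123) ?_).symm
        rw [ev123, ev_cons, ev4123, ← hne']
        refine (hT4.trans h5).trans (isConj_iff.mpr ⟨c⁻¹, ?_⟩)
        rw [← hc]; group
      have hn4 : n = 4 := unique_q ⟨n, hn⟩ hcm hk
      refine ⟨D.ψ c, ⟨(hmemR _).mpr ?_, ⟨c, rfl⟩⟩, ?_⟩
      · refine Commute.map ?_ D.ψ
        show c * tv 4 = tv 4 * c
        rw [hn4] at hne'
        conv_lhs => rw [← hne']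
        group
      · rw [← hy0, ← hc, map_mul, map_mul, map_inv]
  exact fun g hg => (key ((hmemR g).mpr hg)).2

/-- Pairs of commuting involutions of type `a₂` with product of the same type. -/
theorem pair_T (hcl : Classes) (hF : D.Fuse) (hV : D.Local {rV})
    (hD : ∀ x, IsConj rD x → D.Local {x}) {i : Sp62} (hi : IsConj rT i) (hne : i ≠ rT)
    (hc : Commute i rT) (hp : IsConj rT (rT * i)) {g : G} (hgT : Commute g (D.ψ rT))
    (hgi : Commute g (D.ψ i)) : g ∈ D.ψ.range := by
  have hnil : Good [] := fun _ h => by simp at h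
  obtain ⟨a, b, hab, rfl⟩ := exists_line hi
  set w := [a.val, b.val, a.val ^^^ b.val] with hwdef
  have hw : Good w := good_cons a.isLt (good_cons b.isLt (good_cons
    (Nat.xor_lt_two_pow (n := 6) a.isLt b.isLt) hnil))
  have hok := pairOK_all a b
  have h1 : commW w [1, 2, 3] = true := by rw [commW_iff hw good123, ev123]; exact hc
  have h2 : eqW w [1, 2, 3] = false := by
    cases h : eqW w [1, 2, 3]
    · rfl
    · exact absurd ((eqW_iff hw good123).mp h |>.trans ev123) hne
  have h3 : kindW w = kindW [1, 2, 3] := (kindW_eq good123 hw (by rw [ev123]; exact hi)).symm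
  have h4 : kindW (1 :: 2 :: 3 :: w) = kindW [1, 2, 3] :=
    (kindW_eq good123 (good_append good123 hw) (by rw [ev_append, ev123]; exact hp)).symm
  simp only [pairOK, ← hwdef, h1, h2, h3, hab, bne_self_eq_false, Bool.not_true, Bool.false_or,
    h4,
    List.any_eq_true, Bool.and_eq_true, List.all_eq_true, Bool.or_eq_true, Bool.not_eq_true',
    beq_iff_eq, bne_iff_ne] at hok
  obtain ⟨c, hc3, ⟨hcen, huniq⟩, d, hd3, ⟨⟨⟨hdc, hdw⟩, hdT⟩, hcd⟩, hkcd⟩ := hok
  simp only [cenD, Bool.and_eq_true, beq_iff_eq] at hcen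
  obtain ⟨⟨⟨hcT, hcw⟩, hkT⟩, hkw⟩ := hcen
  have hlt : ∀ x ∈ [1, 2, 3], x < 64 ∧ x ≠ 0 := by intro x hx; simp at hx; omega
  have hc64 := (hlt c hc3).1
  have hd64 := (hlt d hd3).1
  have gc : Good [c] := good_cons hc64 hnil
  have gd : Good [d] := good_cons hd64 hnil
  have htv1 : ∀ x ∈ [1, 2, 3], tv x ≠ 1 := fun x hx e => by
    rw [← ev_single, show (1 : Sp62) = ev [] from rfl,
      ← eqW_iff (good_cons (hlt x hx).1 hnil) hnil] at e
    simp only [List.mem_cons, List.not_mem_nil, or_false] at hx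
    rcases hx with rfl | rfl | rfl <;> exact absurd e (by decide +kernel)
  have hconjD : ∀ x ∈ [1, 2, 3], IsConj rD (tv x) := fun x hx => by
    rw [← ev1, ← ev_single]
    refine conj_of_kind hcl (good_cons (hlt x hx).1 hnil) (by decide)
      (by rw [ev_single]; exact tv_sq x) (by rw [ev_single]; exact htv1 x hx) ?_
    simp only [List.mem_cons, List.not_mem_nil, or_false] at hx
    rcases hx with rfl | rfl | rfl <;> decide +kernel
  have hTc : Commute (tv c) rT := by
    rw [← ev_single, ← ev123]; exact (commW_iff gc good123).mp hcT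
  have hwc : Commute (tv c) (ev w) := by rw [← ev_single]; exact (commW_iff gc hw).mp hcw
  have hTd : Commute (tv d) rT := by
    rw [← ev_single, ← ev123]; exact (commW_iff gd good123).mp hdT
  have hwd : Commute (tv d) (ev w) := by rw [← ev_single]; exact (commW_iff gd hw).mp hdw
  have hcd' : Commute (tv c) (tv d) := by
    rw [← ev_single, ← ev_single]; exact (commW_iff gc gd).mp hcd
  set K := Subgroup.centralizer ({D.ψ rT, D.ψ (ev w)} : Set G) with hKdef
  have hmemK : ∀ g : G, g ∈ K ↔ Commute g (D.ψ rT) ∧ Commute g (D.ψ (ev w)) := fun g => by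
    rw [hKdef, Subgroup.mem_centralizer_iff]
    simp only [Set.mem_insert_iff, Set.mem_singleton_iff, forall_eq_or_imp, forall_eq]
    exact and_congr eq_comm eq_comm
  have hgK : g ∈ K := (hmemK g).mpr ⟨hgT, hgi⟩
  set z := D.ψ (tv c) with hzdef
  have hzK : z ∈ K := (hmemK z).mpr ⟨hTc.map D.ψ, hwc.map D.ψ⟩
  have hdK : D.ψ (tv d) ∈ K := (hmemK _).mpr ⟨hTd.map D.ψ, hwd.map D.ψ⟩
  have hz2 : z * z = 1 := map_sq D (tv_sq c)
  have hz1 : z ≠ 1 := map_ne_one D (htv1 c hc3)
  have hlocc : ∀ g : G, Commute g z → g ∈ D.ψ.range := (local_iff D).mp (hD _ (hconjD c hc3))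
  have hsq : ∀ {v : List ℕ}, Good v → Commute (tv c) (ev v) → ev v * ev v = 1 →
      ev (c :: v) * ev (c :: v) = 1 := fun {v} _ hcom h2 => by
    rw [ev_cons, hcom.symm.mul_mul_mul_comm, tv_sq, one_mul, h2]
  have hT2 : rT * rT = 1 := by
    rw [← ev123, ← ev_append, show (1 : Sp62) = ev [] from rfl,
      ← eqW_iff (good_append good123 good123) hnil]
    decide +kernel
  obtain ⟨h₀, hh₀⟩ := isConj_iff.mp hi
  have hw2 : ev w * ev w = 1 := by
    rw [← hh₀]
    calc h₀ * rT * h₀⁻¹ * (h₀ * rT * h₀⁻¹) = h₀ * (rT * rT) * h₀⁻¹ := by group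
      _ = 1 := by rw [hT2, mul_one, mul_inv_cancel]
  -- the transvection at the common point is isolated in `K`
  have hiso : IsIsolatedInvolution (⟨z, hzK⟩ : K) := by
    refine ⟨?_, fun k hk => Subtype.ext ?_⟩
    · refine orderOf_eq_prime (Subtype.ext ?_) fun e => hz1 (congrArg Subtype.val e)
      rw [Subgroup.coe_pow, pow_two]; exact hz2
    show (k : G) * z * (k : G)⁻¹ = z
    have hcom : Commute ((k : G) * z * (k : G)⁻¹) z :=
      (congrArg Subtype.val hk : z * ((k : G) * z * (k : G)⁻¹) = _).symm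
    obtain ⟨y, hy⟩ := hlocc _ hcom
    have hk1 := (hmemK _).mp k.2
    have hk2 := (hmemK _).mp (mul_mem (mul_mem k.2 hzK) (inv_mem k.2))
    have hyD : IsConj rD y := (hconjD c hc3).trans (fuse_conj D hF (tv_sq c) hy.symm)
    obtain ⟨n, hn, -, rfl⟩ := exists_tv hyD
    have gn : Good [n] := good_cons hn hnil
    have hn1 : Commute (tv n) rT := D.inj (by
      show D.ψ (tv n * rT) = D.ψ (rT * tv n)
      rw [map_mul, map_mul, hy]; exact hk2.1)
    have hn2 : Commute (tv n) (ev w) := D.inj (by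
      show D.ψ (tv n * ev w) = D.ψ (ev w * tv n)
      rw [map_mul, map_mul, hy]; exact hk2.2)
    have hmove : ∀ {v : List ℕ}, Good v → Commute (k : G) (D.ψ (ev v)) → Commute (tv c) (ev v) →
        ev v * ev v = 1 → kindW (c :: v) = kindW [1, 2] → kindW (n :: v) = kindW [1, 2] :=
      fun {v} hv hkv hcom h2 hkind => by
        rw [← hkind]
        refine (kindW_eq (good_cons hc64 hv) (good_cons hn hv)
          (fuse_conj D hF (hsq hv hcom h2) (g := (k : G)) ?_)).symm
        rw [ev_cons, ev_cons, map_mul, map_mul, hy, ← hzdef]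
        calc (k : G) * (z * D.ψ (ev v)) * (k : G)⁻¹
            = (k : G) * z * (k : G)⁻¹ * ((k : G) * D.ψ (ev v) * (k : G)⁻¹) := by group
          _ = (k : G) * z * (k : G)⁻¹ * D.ψ (ev v) := by rw [hkv.eq, mul_inv_cancel_right]
    have hcenN : cenD w n = true := by
      simp only [cenD, Bool.and_eq_true, beq_iff_eq]
      refine ⟨⟨⟨?_, ?_⟩, ?_⟩, ?_⟩
      · rw [commW_iff gn good123, ev_single, ev123]; exact hn1
      · rw [commW_iff gn hw, ev_single]; exact hn2
      · exact hmove good123 (by rw [ev123]; exact hk1.1) (by rw [ev123]; exact hTc)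
          (by rw [ev123]; exact hT2) hkT
      · exact hmove hw hk1.2 hwc hw2 hkw
    have hnc : n = c := (huniq n (List.mem_range.mpr hn)).resolve_left (by simp [hcenN])
    rw [← hy, hnc]
  obtain ⟨N, hN, hNodd, hcomm⟩ := ZStarTheorem.exists_odd_normal hiso
  set N' := N.map K.subtype with hN'def
  have hnorm : ∀ x ∈ K, x ∈ Subgroup.normalizer (N' : Set G) := fun x hx => by
    refine Subgroup.mem_normalizer_iff.mpr fun y => ⟨?_, ?_⟩
    · rintro ⟨m, hm, rfl⟩
      exact ⟨⟨x, hx⟩ * m * ⟨x, hx⟩⁻¹, hN.conj_mem m hm _, rfl⟩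
    · rintro ⟨m, hm, hme⟩
      refine ⟨⟨x, hx⟩⁻¹ * m * ⟨x, hx⟩⁻¹⁻¹, hN.conj_mem m hm _, ?_⟩
      simp only [map_mul, map_inv, Subgroup.subtype_apply] at hme ⊢
      rw [hme]; group
  have hact : CoprimeGen.IsPairAction 2 z (D.ψ (tv d)) N' := by
    refine ⟨hcd'.map D.ψ, by rw [pow_two]; exact hz2, by rw [pow_two]; exact map_sq D (tv_sq d),
      map_ne_one D (htv1 d hd3), fun hmem => ?_, hnorm _ hzK, hnorm _ hdK⟩
    obtain ⟨k, hk⟩ := hmem
    rcases Int.even_or_odd k with ⟨r, rfl⟩ | ⟨r, rfl⟩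
    · refine hz1 ?_
      rw [← hk]
      show D.ψ (tv d) ^ (r + r) = 1
      rw [← two_mul, zpow_mul, (zpow_two _).trans (map_sq D (tv_sq d)), one_zpow]
    · have h5 : z = D.ψ (tv d) := by
        rw [← hk]
        show D.ψ (tv d) ^ (2 * r + 1) = _
        rw [zpow_add, zpow_mul, zpow_one, (zpow_two _).trans (map_sq D (tv_sq d)), one_zpow, one_mul]
      have h6 := D.inj h5
      rw [← ev_single, ← ev_single, ← eqW_iff gc gd] at h6
      simp only [List.mem_cons, List.not_mem_nil, or_false] at hc3 hd3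
      rcases hc3 with rfl | rfl | rfl <;> rcases hd3 with rfl | rfl | rfl <;>
        first
          | exact hdc rfl
          | (revert h6; decide +kernel)
  have hNle : N' ≤ D.ψ.range := by
    refine CoprimeGen.le_of_pair_centralizers hact ?_ fun e he he1 x hx => ?_
    · rw [hN'def, Subgroup.card_map_of_injective K.subtype_injective]
      exact hNodd.not_two_dvd_nat
    have hxe : Commute x e := Subgroup.mem_centralizer_singleton_iff.mp hx.2
    obtain ⟨m, n, rfl⟩ := CoprimeGen.mem_pairSubgroup_iff.mp he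
    have hpow : ∀ {q : G}, q * q = 1 → ∀ j : ℤ, q ^ j = 1 ∨ q ^ j = q := fun {q} hq j => by
      rcases Int.even_or_odd j with ⟨r, rfl⟩ | ⟨r, rfl⟩
      · left; rw [← two_mul, zpow_mul, (zpow_two q).trans hq, one_zpow]
      · right; rw [zpow_add, zpow_mul, zpow_one, (zpow_two q).trans hq, one_zpow, one_mul]
    rcases hpow hz2 m with em | em <;> rcases hpow (map_sq D (tv_sq d)) n with en | en <;>
      rw [em, en] at he1 hxe
    · exact absurd (one_mul 1) he1
    · rw [one_mul] at hxe
      exact (local_iff D).mp (hD _ (hconjD d hd3)) x hxe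
    · rw [mul_one] at hxe
      exact hlocc x hxe
    · rw [hzdef, ← map_mul] at hxe he1
      refine (local_iff D).mp (local_conj D ?_ hV) x hxe
      have e : tv c * tv d = ev [c, d] := by rw [ev_cons, ev_single]
      rw [e, ← ev12]
      refine conj_of_kind hcl (good_cons hc64 gd) (by decide) ?_ ?_ hkcd
      · exact hsq gd (by rw [ev_single]; exact hcd') (by rw [ev_single]; exact tv_sq d)
      · exact fun e1 => he1 (by rw [e, e1, map_one])
  have hn := hNle ⟨_, hcomm ⟨g, hgK⟩, rfl⟩
  simp only [map_mul, map_inv, Subgroup.subtype_apply] at hn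
  have hzinv : z⁻¹ = z := inv_eq_of_mul_eq_one_right hz2
  have hzr : z ∈ D.ψ.range := ⟨_, rfl⟩
  obtain ⟨y, hy⟩ : g * z * g⁻¹ ∈ D.ψ.range := by
    have h7 := mul_mem (inv_mem hzr) hn
    rwa [show z⁻¹ * (z * g * z⁻¹ * g⁻¹) = g * z * g⁻¹ by rw [hzinv]; simp [← mul_assoc, hz2]] at h7
  obtain ⟨h', hh'⟩ := hF (tv c) y (tv_sq c) ⟨g, hy.symm⟩
  have hg' : (D.ψ h')⁻¹ * g ∈ D.ψ.range := hlocc _ (by
    show (D.ψ h')⁻¹ * g * z = z * ((D.ψ h')⁻¹ * g)
    have h8 : g * z * g⁻¹ = D.ψ h' * z * (D.ψ h')⁻¹ := by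
      rw [← hy, ← hh', map_mul, map_mul, map_inv]
    calc (D.ψ h')⁻¹ * g * z = (D.ψ h')⁻¹ * (g * z * g⁻¹) * g := by group
      _ = z * ((D.ψ h')⁻¹ * g) := by rw [h8]; group)
  simpa using mul_mem (show D.ψ h' ∈ D.ψ.range from ⟨_, rfl⟩) hg'

/-- Centralisers of involutions of type `a₂`. -/
theorem local_T (hcl : Classes) (hF : D.Fuse) (hV : D.Local {rV}) (hQ : D.Local {rQ})
    (hD : ∀ x, IsConj rD x → D.Local {x}) : ∀ x, IsConj rT x → D.Local {x} := by
  suffices hmain : D.Local {rT} from fun x hx => local_conj D hx hmain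
  rw [local_iff]
  set z := D.ψ rT with hzdef
  set R := Subgroup.centralizer ({z} : Set G) with hRdef
  have hmemR : ∀ g : G, g ∈ R ↔ Commute g z := fun g => Subgroup.mem_centralizer_singleton_iff
  have hnil : Good [] := fun _ h => by simp at h
  have hcD : Commute (tv 1) rT := by
    rw [← ev_single, ← ev123, ← commW_iff good1 good123]
    decide +kernel
  have hcQ : Commute rQ rT := by
    rw [← ev4123, ← ev123, ← commW_iff good4123 good123]
    decide +kernel
  have hne : ∀ w w' : List ℕ, Good w → Good w' → eqW w w' = false → ev w ≠ ev w' :=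
    fun w w' hw hw' h e => by rw [(eqW_iff hw hw').mpr e] at h; exact Bool.noConfusion h
  have hinv2 : ∀ w : List ℕ, Good w → eqW (w ++ w) [] = true → ev w * ev w = 1 :=
    fun w hw h => by rw [← ev_append]; exact (eqW_iff (good_append hw hw) hnil).mp h
  have hrQ2 : rQ * rQ = 1 := by
    rw [← ev4123]; exact hinv2 _ good4123 (by decide +kernel)
  have hnotconj : ∀ {w w' : List ℕ}, Good w → Good w' → kindW w ≠ kindW w' → ev w * ev w = 1 →
      ∀ g : G, g * D.ψ (ev w) * g⁻¹ ≠ D.ψ (ev w') :=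
    fun hw hw' hk h2 g e => hk (kindW_eq hw hw' (fuse_conj D hF h2 e))
  have key : R ≤ R ⊓ D.ψ.range := by
    refine le_of_nonconj inf_le_left (x := D.ψ (tv 1)) (y := D.ψ rQ) (z := z)
      (map_sq D (tv_sq 1)) (map_sq D hrQ2) ⟨(hmemR _).mpr (hcD.map D.ψ), ⟨_, rfl⟩⟩
      ⟨(hmemR _).mpr (hcQ.map D.ψ), ⟨_, rfl⟩⟩ ?_ ?_ ?_ ?_ ?_ ?_ ?_ ?_
    · exact map_ne_one D (by rw [← ev_single]; exact hne [1] [] good1 hnil (by decide +kernel))
    · exact map_ne_one D (by rw [← ev4123]; exact hne _ [] good4123 hnil (by decide +kernel))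
    · exact fun e => hne [1] [1, 2, 3] good1 good123 (by decide +kernel)
        (by rw [ev_single, ev123]; exact D.inj e)
    · exact fun e => hne [4, 1, 2, 3] [1, 2, 3] good4123 good123 (by decide +kernel)
        (by rw [ev4123, ev123]; exact D.inj e)
    · intro r _
      rw [← ev_single, ← ev4123]
      exact hnotconj good1 good4123 (by decide +kernel) (by rw [ev_single]; exact tv_sq 1) r
    · intro _ r _
      rw [hzdef, ← map_mul, ← ev_single, ← ev123, ← ev4123, ← ev_append]
      exact ⟨hnotconj good1 (good_append good1 good123) (by decide +kernel)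
          (by rw [ev_single]; exact tv_sq 1) r,
        hnotconj good4123 (good_append good1 good123) (by decide +kernel)
          (by rw [ev4123]; exact hrQ2) r⟩
    · rintro _ ⟨hiR, i, rfl⟩ hi2 hi1 hiz r hr hri
      refine ⟨hr, ?_⟩
      have hi2' : i * i = 1 := D.inj (by rw [map_mul, map_one]; exact hi2)
      have hi1' : i ≠ 1 := fun e => hi1 (by rw [e, map_one])
      have hiz' : i ≠ rT := fun e => hiz (by rw [e])
      have hic : Commute i rT := D.inj (by
        show D.ψ (i * rT) = D.ψ (rT * i)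
        rw [map_mul, map_mul]; exact (hmemR _).mp hiR)
      have hrz : Commute r (D.ψ rT) := (hmemR _).mp hr
      have hprod : ∀ x, IsConj rD x ∨ IsConj rV x ∨ IsConj rQ x → Commute r (D.ψ x) →
          r ∈ D.ψ.range := fun x h hx => by
        rcases h with h | h | h
        · exact (local_iff D).mp (hD x h) r hx
        · exact (local_iff D).mp (local_conj D h hV) r hx
        · exact (local_iff D).mp (local_conj D h hQ) r hx
      rcases hcl i hi2' hi1' with h | h | h | h
      · exact hprod i (Or.inl h) hri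
      · exact hprod i (Or.inr (Or.inl h)) hri
      swap
      · exact hprod i (Or.inr (Or.inr h)) hri
      have hT2 : rT * rT = 1 := by rw [← ev123]; exact hinv2 _ good123 (by decide +kernel)
      have hm2 : rT * i * (rT * i) = 1 := by rw [hic.mul_mul_mul_comm, hT2, one_mul, hi2']
      have hm1 : rT * i ≠ 1 := fun e => hiz' ((eq_inv_of_mul_eq_one_right e).trans
        (inv_eq_of_mul_eq_one_right hT2))
      have hrm : Commute r (D.ψ (rT * i)) := by rw [map_mul]; exact hrz.mul_right hri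
      rcases hcl _ hm2 hm1 with h' | h' | h' | h'
      · exact hprod _ (Or.inl h') hrm
      · exact hprod _ (Or.inr (Or.inl h')) hrm
      · exact pair_T D hcl hF hV hD h hiz' hic h' hrz hri
      · exact hprod _ (Or.inr (Or.inr h')) hrm
    · rintro r hr ⟨-, y0, hy0⟩
      have hcy : IsConj rQ y0 := fuse_conj D hF hrQ2 hy0.symm
      obtain ⟨c, hc⟩ := isConj_iff.mp hcy
      have h4 : Good [4] := good_cons (by omega) hnil
      have hT2 : rT * rT = 1 := by rw [← ev123]; exact hinv2 _ good123 (by decide +kernel)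
      have hprod2 : (rT * rQ) * (rT * rQ) = 1 := by
        rw [hcQ.mul_mul_mul_comm, hT2, one_mul, hrQ2]
      have h5 : IsConj (rT * rQ) (rT * y0) := fuse_conj D hF hprod2 (g := r) (by
        rw [map_mul, map_mul, hy0, ← hzdef]
        have h6 : r * z = z * r := (hmemR r).mp hr
        calc r * (z * D.ψ rQ) * r⁻¹ = (r * z) * D.ψ rQ * r⁻¹ := by group
          _ = z * (r * D.ψ rQ * r⁻¹) := by rw [h6]; group)
      have hTQ : IsConj rD (rT * rQ) := by
        have e : rT * rQ = ev [4] := by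
          rw [← ev123, ← ev4123, ← ev_append, ← eqW_iff (good_append good123 good4123) h4]
          decide +kernel
        rw [e, ← ev1]
        exact conj_of_kind hcl h4 (by decide) (by rw [ev_single]; exact tv_sq 4)
          (hne [4] [] h4 hnil (by decide +kernel)) (by decide +kernel)
      obtain ⟨n, hn, -, hne'⟩ := exists_tv ((hTQ.trans h5).trans (isConj_iff.mpr ⟨c⁻¹, rfl⟩) :
        IsConj rD (c⁻¹ * (rT * y0) * c⁻¹⁻¹))
      rw [inv_inv] at hne'
      have hy0c : Commute y0 rT := D.inj (by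
        show D.ψ (y0 * rT) = D.ψ (rT * y0)
        rw [map_mul, map_mul, hy0]
        exact (hmemR _).mp (mul_mem (mul_mem hr ((hmemR _).mpr (hcQ.map D.ψ))) (inv_mem hr)))
      have hnt : tv n * rQ = c⁻¹ * rT * c := by
        rw [← hne', ← hc]
        calc c⁻¹ * (rT * (c * rQ * c⁻¹)) * c * rQ = c⁻¹ * rT * c * (rQ * rQ) := by group
          _ = c⁻¹ * rT * c := by rw [hrQ2, mul_one]
      have hcm : commW [n] [4, 1, 2, 3] = true := by
        rw [commW_iff (good_cons hn hnil) good4123, ev_single, ev4123, ← hne', ← hc]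
        have h3 : Commute (rT * y0) y0 := (hy0c.symm).mul_left (Commute.refl y0)
        rw [← hc] at h3
        have h7 := h3.map (MulAut.conj c⁻¹)
        simpa [mul_assoc] using h7
      have hk : kindW [n, 4, 1, 2, 3] = kindW [1, 2, 3] := by
        refine (kindW_eq good123 (good_cons hn good4123) ?_).symm
        rw [ev123, ev_cons, ev4123, hnt]
        exact isConj_iff.mpr ⟨c⁻¹, by group⟩
      have hn4 : n = 4 := unique_q ⟨n, hn⟩ hcm hk
      refine ⟨D.ψ c, ⟨(hmemR _).mpr ?_, ⟨c, rfl⟩⟩, ?_⟩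
      · refine Commute.map ?_ D.ψ
        show c * rT = rT * c
        rw [hn4, rQ, ← mul_assoc, tv_sq, one_mul] at hnt
        conv_lhs => rw [hnt]
        group
      · rw [← hy0, ← hc, map_mul, map_mul, map_inv]
  exact fun g hg => (key ((hmemR g).mpr hg)).2

/-- The model is the whole group. -/
theorem range_eq_top_of_classes (hcl : Classes) (hF : D.Fuse) (hI : D.InvFacts) :
    D.ψ.range = ⊤ := by
  have hD := local_D D hcl hF hI.v hI.q
  have hT := local_T D hcl hF hI.v hI.q hD
  have hall : ∀ x : Sp62, x * x = 1 → x ≠ 1 → D.Local {x} := fun x h2 h1 => by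
    rcases hcl x h2 h1 with h | h | h | h
    exacts [hD x h, local_conj D h hI.v, hT x h, local_conj D h hI.q]
  have hnil : Good [] := fun _ h => by simp at h
  have hrQ2 : rQ * rQ = 1 := by
    rw [← ev4123, ← ev_append, show (1 : Sp62) = ev [] from rfl,
      ← eqW_iff (good_append good4123 good4123) hnil]
    decide +kernel
  have hD1 : tv 1 ≠ 1 := by
    rw [← ev_single, show (1 : Sp62) = ev [] from rfl, Ne, ← eqW_iff good1 hnil]
    decide +kernel
  have hQ1 : rQ ≠ 1 := by
    rw [← ev4123, show (1 : Sp62) = ev [] from rfl, Ne, ← eqW_iff good4123 hnil]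
    decide +kernel
  refine top_le_iff.mp (le_of_nonconj (z := 1) le_top (map_sq D (tv_sq 1)) (map_sq D hrQ2)
    ⟨_, rfl⟩ ⟨_, rfl⟩ (map_ne_one D hD1) (map_ne_one D hQ1) (map_ne_one D hD1) (map_ne_one D hQ1)
    (fun r _ e => ?_) (fun h => absurd rfl h) ?_ ?_)
  · have h := fuse_conj D hF (tv_sq 1) e
    rw [← ev_single, ← ev4123] at h
    exact absurd (kindW_eq good1 good4123 h) (by decide +kernel)
  · rintro _ ⟨x, rfl⟩ h2 h1 - r _ hr
    exact (local_iff D).mp (hall x (D.inj (by rw [map_mul, map_one]; exact h2))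
      (fun e => h1 (by rw [e, map_one]))) r hr
  · rintro r - ⟨y, hy⟩
    obtain ⟨h, hh⟩ := hF rQ y hrQ2 ⟨r, hy.symm⟩
    exact ⟨D.ψ h, ⟨h, rfl⟩, by rw [← hy, ← hh, map_mul, map_mul, map_inv]⟩

theorem classes_holds : Classes := fun x h2 h1 => by
  obtain ⟨r, hr, g, hg⟩ := Lag.classes h2 h1
  have h : IsConj r x := isConj_iff.mpr ⟨g, hg⟩
  simp only [Set.mem_insert_iff, Set.mem_singleton_iff] at hr
  rcases hr with rfl | rfl | rfl | rfl
  exacts [Or.inl h, Or.inr (Or.inl h), Or.inr (Or.inr (Or.inl h)), Or.inr (Or.inr (Or.inr h))]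

/-- **P9c**: `H` is the whole group. -/
theorem range_eq_top (hL : D.LagFacts) (hI : D.InvFacts) : D.ψ.range = ⊤ :=
  range_eq_top_of_classes D classes_holds hL.fuse hI

/-- A symplectic matrix transported along a ring isomorphism. -/
def finalSpMap {A B : Type*} [CommRing A] [CommRing B] (f : A ≃+* B) :
    Matrix.symplecticGroup (Fin 3) A →* Matrix.symplecticGroup (Fin 3) B where
  toFun M := ⟨(M : Matrix (Fin 3 ⊕ Fin 3) (Fin 3 ⊕ Fin 3) A).map f, by
    have h := congrArg (fun M : Matrix (Fin 3 ⊕ Fin 3) (Fin 3 ⊕ Fin 3) A => M.map (f : A →+* B))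
      (SymplecticGroup.mem_iff.mp M.2)
    simp only [Matrix.map_mul] at h
    have hJ : (Matrix.J (Fin 3) A).map (f : A →+* B) = Matrix.J (Fin 3) B := by
      simp [Matrix.J, Matrix.fromBlocks_map, Matrix.map_neg, Matrix.map_one]
    rw [hJ] at h
    exact SymplecticGroup.mem_iff.mpr h⟩
  map_one' := Subtype.ext (by simp)
  map_mul' M N := Subtype.ext (by simp)

/-- **P9c**: the group is `Sp(6,2)`. -/
theorem nonempty_mulEquiv (hL : D.LagFacts) (hI : D.InvFacts) (K : Type*) [Field K] [Fintype K]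
    (hK : Fintype.card K = 2) : Nonempty (G ≃* Matrix.symplecticGroup (Fin 3) K) := by
  have hb : Function.Bijective D.ψ :=
    ⟨D.inj, MonoidHom.range_eq_top.mp (range_eq_top D hL hI)⟩
  let f := ZMod.ringEquivOfPrime K Nat.prime_two hK
  have hf : Function.Bijective (finalSpMap f) :=
    ⟨fun M N h => Subtype.ext (Matrix.ext fun i j => f.injective
        (congrFun (congrFun (congrArg Subtype.val h) i) j)),
      fun M => ⟨finalSpMap f.symm M, Subtype.ext (Matrix.ext fun i j => by simp [finalSpMap])⟩⟩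
  exact ⟨(MulEquiv.ofBijective _ hb).symm.trans (MulEquiv.ofBijective _ hf)⟩

end Cfsg.Agent.Sp62Three31
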