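import Cfsg.Agent.Lib.Sp62Three31Model

/-!
Finite facts on commuting involutions of `Sp(6,2)` for the endgame of S3342, computed on words in
the transvections acting on bit strings.
-/

set_option autoImplicit false
set_option maxRecDepth 100000

namespace Cfsg.Agent.Sp62Three31.FinalModel

open Cfsg.Agent.SymplecticBasic Cfsg.Agent.PSp62MultiplierData

/-- The form on bit strings, by arithmetic on natural numbers. -/
def fb (x v : ℕ) : Bool :=
  (22 >>> (((x &&& (v >>> 3)) ^^^ ((x >>> 3) &&& v)) &&& 7) &&& 1 == 1) ||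
    (((x &&& (v >>> 3)) ^^^ ((x >>> 3) &&& v)) &&& 7 == 7)

/-- The action of a transvection on bit strings. -/
def tvn (v x : ℕ) : ℕ := if fb x v then x ^^^ v else x

/-- The action of a word. -/
def wn : List ℕ → ℕ → ℕ
  | [], x => x
  | v :: w, x => tvn v (wn w x)

/-- The element given by a word. -/
def ev (w : List ℕ) : Sp62 := (w.map tv).prod

theorem vec_xor (x v : ℕ) : vec (x ^^^ v) = vec x + vec v := by
  funext k
  rcases k with i | i <;>
    simp only [vec, Sum.elim_inl, Sum.elim_inr, Pi.add_apply, Nat.testBit_xor] <;>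
    cases x.testBit _ <;> cases v.testBit _ <;> decide

theorem form_vec : ∀ x v : Fin 64,
    sympForm 3 (ZMod 2) (vec x.val) (vec v.val) = if fb x.val v.val then 1 else 0 := by
  decide +kernel

theorem tvn_lt {v x : ℕ} (hv : v < 64) (hx : x < 64) : tvn v x < 64 := by
  unfold tvn
  split_ifs
  · exact Nat.xor_lt_two_pow (n := 6) hx hv
  · exact hx

theorem tv_smul {v x : ℕ} (hv : v < 64) (hx : x < 64) : tv v • vec x = vec (tvn v x) := by
  rw [tv, transv_smul, form_vec ⟨x, hx⟩ ⟨v, hv⟩, tvn]
  by_cases h : fb x v = true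
  · rw [if_pos h, if_pos h, one_mul, one_smul, vec_xor]
  · rw [if_neg h, if_neg h, mul_zero, zero_smul, add_zero]

/-- The entries of a word are bit strings of length six. -/
def Good (w : List ℕ) : Prop := ∀ v ∈ w, v < 64

theorem wn_lt : ∀ {w : List ℕ}, Good w → ∀ {x : ℕ}, x < 64 → wn w x < 64
  | [], _, _, h => h
  | v :: _, hw, _, h => tvn_lt (hw v List.mem_cons_self)
      (wn_lt (fun u hu => hw u (List.mem_cons_of_mem v hu)) h)

theorem ev_smul : ∀ {w : List ℕ}, Good w → ∀ {x : ℕ}, x < 64 → ev w • vec x = vec (wn w x)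
  | [], _, _, _ => one_smul _ _
  | v :: w, hw, x, h => by
    have hw' : Good w := fun u hu => hw u (List.mem_cons_of_mem v hu)
    rw [ev, List.map_cons, List.prod_cons, mul_smul, ← ev, ev_smul hw' h,
      tv_smul (hw v List.mem_cons_self) (wn_lt hw' h)]
    rfl

theorem vec_inj : ∀ x y : Fin 64, vec x.val = vec y.val → x = y := by decide +kernel

/-- Bit strings and vectors. -/
noncomputable def vecE : Fin 64 ≃ V6 :=
  Equiv.ofBijective (fun n : Fin 64 => vec n.val)
    ⟨fun x y h => vec_inj x y h, fun x => (vec_surj x).imp fun _ h => h.symm⟩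

/-- The basis vectors as bit strings. -/
def basisN : List ℕ := [1, 2, 4, 8, 16, 32]

theorem basisN_spec : ∀ k : Fin 3 ⊕ Fin 3, ∃ n : Fin 64, n.val ∈ basisN ∧
    (Pi.single k 1 : V6) = vec n.val := by decide +kernel

/-- Two words act equally on bit strings. -/
def eqW (w w' : List ℕ) : Bool := basisN.all fun n => wn w n == wn w' n

theorem eqW_iff {w w' : List ℕ} (hw : Good w) (hw' : Good w') : eqW w w' = true ↔ ev w = ev w' := by
  constructor
  · intro h
    refine ext_smul_single fun k => ?_
    obtain ⟨n, hn, e⟩ := basisN_spec k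
    rw [e, ev_smul hw n.isLt, ev_smul hw' n.isLt]
    exact congrArg vec (by simpa using List.all_eq_true.mp h n.val hn)
  · intro h
    refine List.all_eq_true.mpr fun n hn => ?_
    have hn : n < 64 := by
      simp only [basisN, List.mem_cons, List.not_mem_nil, or_false] at hn
      omega
    have h1 := congrArg (fun g : Sp62 => g • vec n) h
    simp only [ev_smul hw hn, ev_smul hw' hn] at h1
    simpa using congrArg Fin.val (vec_inj ⟨_, wn_lt hw hn⟩ ⟨_, wn_lt hw' hn⟩ h1)

/-- An invariant of conjugacy: the number of fixed vectors and whether `B(x, gx) = 0`. -/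
noncomputable def kind (g : Sp62) : ℕ × Prop :=
  (Nat.card {x : V6 // g • x = x}, ∀ x : V6, sympForm 3 (ZMod 2) x (g • x) = 0)

theorem kind_conj (h g : Sp62) : kind (h * g * h⁻¹) = kind g := by
  refine Prod.ext ?_ (propext ?_)
  · refine Nat.card_congr
      { toFun := fun x => ⟨h⁻¹ • x.1, ?_⟩
        invFun := fun x => ⟨h • x.1, ?_⟩
        left_inv := fun x => Subtype.ext (smul_inv_smul _ _)
        right_inv := fun x => Subtype.ext (inv_smul_smul _ _) }
    · have := x.2
      rw [mul_smul, mul_smul] at this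
      conv_rhs => rw [← this, inv_smul_smul]
    · rw [mul_smul, mul_smul, inv_smul_smul, x.2]
  · constructor
    · intro H x
      have := H (h • x)
      rwa [mul_smul, mul_smul, inv_smul_smul, form_map] at this
    · intro H x
      rw [mul_smul, mul_smul, ← form_map h⁻¹, inv_smul_smul]
      exact H _

/-- The invariant computed on a word. -/
def kindW (w : List ℕ) : ℕ × Bool :=
  (((List.finRange 64).filter fun n => wn w n.val == n.val).length,
    (List.finRange 64).all fun n => !fb n.val (wn w n.val))

theorem kind_ev {w : List ℕ} (hw : Good w) : kind (ev w) = ((kindW w).1, (kindW w).2 = true) := by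
  have hfix : ∀ n : Fin 64, ev w • vec n.val = vec n.val ↔ (wn w n.val == n.val) = true := fun n => by
    rw [ev_smul hw n.isLt, beq_iff_eq]
    exact ⟨fun h => congrArg Fin.val (vec_inj ⟨_, wn_lt hw n.isLt⟩ n h), fun h => by rw [h]⟩
  refine Prod.ext ?_ (propext ?_)
  · show Nat.card {x : V6 // ev w • x = x} = ((List.finRange 64).filter fun n => wn w n.val == n.val).length
    rw [Nat.card_congr ((vecE.subtypeEquiv (fun n => Iff.rfl)).symm :
      {x : V6 // ev w • x = x} ≃ {n : Fin 64 // ev w • vecE n = vecE n}),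
      Nat.card_congr (Equiv.subtypeEquivRight (q := fun n : Fin 64 => (wn w n.val == n.val) = true)
        (p := fun n : Fin 64 => ev w • vecE n = vecE n) hfix), Nat.card_eq_fintype_card,
      Fintype.card_subtype, ← List.toFinset_card_of_nodup ((List.nodup_finRange 64).filter _)]
    refine congrArg Finset.card (Finset.ext fun n => ?_)
    simp
  · show (∀ x : V6, sympForm 3 (ZMod 2) x (ev w • x) = 0) ↔
      ((List.finRange 64).all fun n => !fb n.val (wn w n.val)) = true
    rw [List.all_eq_true]
    constructor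
    · intro H n _
      have := H (vec n.val)
      rw [ev_smul hw n.isLt, form_vec n ⟨_, wn_lt hw n.isLt⟩] at this
      cases hb : fb n.val (wn w n.val)
      · rfl
      · rw [hb] at this; exact absurd this (by decide)
    · intro H x
      obtain ⟨n, rfl⟩ := vec_surj x
      rw [ev_smul hw n.isLt, form_vec n ⟨_, wn_lt hw n.isLt⟩]
      have := H n (List.mem_finRange n)
      cases hb : fb n.val (wn w n.val)
      · rfl
      · rw [hb] at this; exact absurd this (by decide)

theorem kindW_eq {w w' : List ℕ} (hw : Good w) (hw' : Good w') (h : IsConj (ev w) (ev w')) :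
    kindW w = kindW w' := by
  obtain ⟨c, hc⟩ := isConj_iff.mp h
  have h1 := kind_conj c (ev w)
  rw [hc, kind_ev hw, kind_ev hw', Prod.ext_iff] at h1
  refine Prod.ext h1.1.symm ?_
  exact Bool.eq_iff_iff.mpr (iff_of_eq h1.2.symm)

/-- The representatives of the four classes of involutions, as words. -/
def reps : List (List ℕ) := [[1], [1, 2], [1, 2, 3], [4, 1, 2, 3]]

/-- The words commute. -/
def commW (w w' : List ℕ) : Bool := eqW (w ++ w') (w' ++ w)

theorem kinds_ne : ∀ i j : Fin 4, kindW (reps.getD i.val []) = kindW (reps.getD j.val []) → i = j := by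
  decide +kernel

/-- A transvection times a commuting involution: products are of class `v` or `q` where claimed. -/
def prodOK (n : ℕ) : Bool :=
  (n == 0) || (((n == 1) || !commW [n] [1] ||
      (kindW [n, 1] != kindW [1] && kindW [n, 1] != kindW [1, 2, 3])) &&
    (!commW [n] [1, 2, 3] ||
      (kindW [n, 1, 2, 3] != kindW [1] && kindW [n, 1, 2, 3] != kindW [1, 2, 3])))

theorem prodOK_all : ∀ n : Fin 64, prodOK n.val = true := by decide +kernel

theorem unique_q : ∀ n : Fin 64, commW [n.val] [4, 1, 2, 3] = true →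
    kindW [n.val, 4, 1, 2, 3] = kindW [1, 2, 3] → n.val = 4 := by decide +kernel

/-- The transvections of the two lines of a commuting pair of involutions of type `a₂`. -/
def cenD (w : List ℕ) (c : ℕ) : Bool :=
  commW [c] [1, 2, 3] && commW [c] w && (kindW [c, 1, 2, 3] == kindW [1, 2]) &&
    (kindW (c :: w) == kindW [1, 2])

/-- The certificate for a pair of involutions of type `a₂`. -/
def pairOK (a b : ℕ) : Bool :=
  fb a b || !commW [a, b, a ^^^ b] [1, 2, 3] || eqW [a, b, a ^^^ b] [1, 2, 3] ||
    (kindW [a, b, a ^^^ b] != kindW [1, 2, 3]) ||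
    (kindW [1, 2, 3, a, b, a ^^^ b] != kindW [1, 2, 3]) ||
    ([1, 2, 3].any fun c => cenD [a, b, a ^^^ b] c &&
      ((List.range 64).all fun n => !cenD [a, b, a ^^^ b] n || (n == c)) &&
      ([1, 2, 3].any fun d => (d != c) && commW [d] [a, b, a ^^^ b] && commW [d] [1, 2, 3] &&
        commW [c] [d] && (kindW [c, d] == kindW [1, 2])))

/-! ### A faster copy of the certificate for kernel evaluation -/

/-- The form, by one table lookup. -/
def fbF (x v : ℕ) : Bool :=
  Nat.beq ((150 >>> (((x &&& (v >>> 3)) ^^^ ((x >>> 3) &&& v)) &&& 7)) &&& 1) 1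

theorem fbF_eq (x v : ℕ) : fbF x v = fb x v := by
  have h : ∀ y : Fin 8, Nat.beq ((150 >>> y.val) &&& 1) 1 =
      ((22 >>> y.val &&& 1 == 1) || (y.val == 7)) := by decide +kernel
  exact h ⟨_, Nat.lt_succ_of_le Nat.and_le_right⟩

/-- The action of a word. -/
noncomputable def wF (w : List ℕ) (x : ℕ) : ℕ :=
  List.rec x (fun v _ ih => bif fbF ih v then ih ^^^ v else ih) w

theorem wF_eq : ∀ (w : List ℕ) (x : ℕ), wF w x = wn w x
  | [], _ => rfl
  | v :: w, x => by
    rw [wn, tvn, ← wF_eq w x, ← fbF_eq, ← Bool.cond_eq_ite]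
    rfl

/-- The 64 bit strings. -/
def pts : List ℕ :=
  [0, 1, 2, 3, 4, 5, 6, 7, 8, 9, 10, 11, 12, 13, 14, 15, 16, 17, 18, 19, 20, 21, 22, 23, 24, 25,
    26, 27, 28, 29, 30, 31, 32, 33, 34, 35, 36, 37, 38, 39, 40, 41, 42, 43, 44, 45, 46, 47, 48,
    49, 50, 51, 52, 53, 54, 55, 56, 57, 58, 59, 60, 61, 62, 63]

/-- Number of hits. -/
noncomputable def countF (p : ℕ → Bool) (l : List ℕ) : ℕ :=
  List.rec 0 (fun a _ ih => bif p a then ih + 1 else ih) l

/-- All hit. -/
noncomputable def allF (p : ℕ → Bool) (l : List ℕ) : Bool :=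
  List.rec true (fun a _ ih => bif p a then ih else false) l

/-- Some hit. -/
noncomputable def anyF (p : ℕ → Bool) (l : List ℕ) : Bool :=
  List.rec false (fun a _ ih => bif p a then true else ih) l

theorem countF_eq (p : ℕ → Bool) : ∀ l : List ℕ, countF p l = (l.filter p).length
  | [] => rfl
  | a :: l => by
    show (bif p a then countF p l + 1 else countF p l) = _
    rw [List.filter_cons, countF_eq p l]
    cases p a <;> simp

theorem allF_eq (p : ℕ → Bool) : ∀ l : List ℕ, allF p l = l.all p
  | [] => rfl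
  | a :: l => by
    show (bif p a then allF p l else false) = _
    rw [List.all_cons, allF_eq p l]
    cases p a <;> rfl

theorem anyF_eq (p : ℕ → Bool) : ∀ l : List ℕ, anyF p l = l.any p
  | [] => rfl
  | a :: l => by
    show (bif p a then true else anyF p l) = _
    rw [List.any_cons, anyF_eq p l]
    cases p a <;> rfl

theorem pts_finRange : (List.finRange 64).map Fin.val = pts := by decide +kernel

theorem pts_range : List.range 64 = pts := by decide +kernel

/-- Two words act equally on bit strings. -/
noncomputable def eqF (w w' : List ℕ) : Bool :=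
  allF (fun n => Nat.beq (wF w n) (wF w' n)) basisN

/-- The words commute. -/
noncomputable def commF (w w' : List ℕ) : Bool := eqF (w ++ w') (w' ++ w)

/-- The invariant is a given one. -/
noncomputable def kindIs (w : List ℕ) (k : ℕ × Bool) : Bool :=
  Nat.beq (countF (fun n => Nat.beq (wF w n) n) pts) k.1 &&
    (allF (fun n => !fbF n (wF w n)) pts == k.2)

theorem natBeq_eq (a b : ℕ) : Nat.beq a b = (a == b) :=
  Bool.eq_iff_iff.mpr (by rw [Nat.beq_eq, beq_iff_eq])

theorem eqF_eq (w w' : List ℕ) : eqF w w' = eqW w w' := by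
  simp only [eqF, eqW, allF_eq, wF_eq, natBeq_eq]

theorem commF_eq (w w' : List ℕ) : commF w w' = commW w w' := eqF_eq _ _

theorem kindIs_eq (w : List ℕ) (k : ℕ × Bool) : kindIs w k = (kindW w == k) := by
  obtain ⟨k1, k2⟩ := k
  simp only [kindIs, kindW, countF_eq, allF_eq, wF_eq, fbF_eq, natBeq_eq, ← pts_finRange,
    List.filter_map, List.length_map, List.all_map]
  rfl

theorem kind_12 : kindW [1, 2] = (16, false) := by decide +kernel

theorem kind_123 : kindW [1, 2, 3] = (16, true) := by decide +kernel

/-- The certificate of `cenD`. -/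
noncomputable def cenF (w : List ℕ) (c : ℕ) : Bool :=
  commF [c] [1, 2, 3] && commF [c] w && kindIs [c, 1, 2, 3] (16, false) &&
    kindIs (c :: w) (16, false)

/-- The certificate of `pairOK`. -/
noncomputable def pairF (a b : ℕ) : Bool :=
  fbF a b || !commF [a, b, a ^^^ b] [1, 2, 3] || eqF [a, b, a ^^^ b] [1, 2, 3] ||
    (!kindIs [a, b, a ^^^ b] (16, true)) ||
    (!kindIs [1, 2, 3, a, b, a ^^^ b] (16, true)) ||
    (anyF (fun c => cenF [a, b, a ^^^ b] c &&
      (allF (fun n => !cenF [a, b, a ^^^ b] n || Nat.beq n c) pts) &&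
      (anyF (fun d => !Nat.beq d c && commF [d] [a, b, a ^^^ b] && commF [d] [1, 2, 3] &&
        commF [c] [d] && kindIs [c, d] (16, false)) [1, 2, 3])) [1, 2, 3])

theorem pairF_eq (a b : ℕ) : pairF a b = pairOK a b := by
  simp only [pairF, pairOK, cenF, cenD, anyF_eq, allF_eq, fbF_eq, eqF_eq, commF_eq, kindIs_eq,
    kind_12, kind_123, natBeq_eq, pts_range, bne]

theorem pairF_all : allF (fun a => allF (fun b => pairF a b) pts) pts = true := by decide +kernel

theorem pairOK_all : ∀ a b : Fin 64, pairOK a.val b.val = true := by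
  intro a b
  have h := pairF_all
  simp only [allF_eq, List.all_eq_true, ← pts_range, List.mem_range] at h
  rw [← pairF_eq]
  exact h a.val a.isLt b.val b.isLt

end Cfsg.Agent.Sp62Three31.FinalModel
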