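import Cfsg.Agent.Lib.Sp62Three31Setup
import Cfsg.Agent.Lib.PSpAmalgam31Main

/-!
S3342, shared facts for the two weakly closed / non-inverted halves (helper25): coordinates on
`O₃(C)/⟨a⟩` and the resulting matrices of `N(⟨a⟩)`.
-/

set_option autoImplicit false

namespace Cfsg.Agent.Sp62Three31.Loc25

open PSpAmalgam31 (mem_normalizer_of_maps eq_one_of_pow_three)

abbrev M2 := Matrix (Fin 2) (Fin 2) (ZMod 3)
abbrev SL23 := Matrix.SpecialLinearGroup (Fin 2) (ZMod 3)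

/-- Minus the identity. -/
def sneg : SL23 := PSpAmalgam31.sneg

theorem sl_normal : ∀ u : SL23, u ≠ 1 → ∃ v : SL23,
    u = sneg ∨ u * u = sneg ∨ u * u * u = sneg ∨
      (u * v * u⁻¹ * v⁻¹) * (u * v * u⁻¹ * v⁻¹) = sneg ∨ u * v * u⁻¹ * v⁻¹ = sneg := by
  decide +kernel

theorem zmod_cases : ∀ i : ZMod 3, i = 0 ∨ i = 1 ∨ i = 2 := by decide

theorem fused_norm : ∀ u : SL23, u * u * u = 1 → u ≠ 1 →
    u * sneg = sneg * u := by decide +kernel

universe u

variable {G : Type u} [Group G] [Finite G] (S : Setup G)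

/-- The subgroup generated by the distinguished element. -/
abbrev Z : Subgroup G := Subgroup.zpowers S.a

/-- Its normaliser. -/
abbrev H : Subgroup G := Subgroup.normalizer ((Subgroup.zpowers S.a : Subgroup G) : Set G)

omit [Finite G] in
theorem a_pow : S.a ^ 3 = 1 := by rw [← S.ha]; exact pow_orderOf_eq_one _

omit [Finite G] in
theorem a_ne : S.a ≠ 1 := fun h => by
  have := S.ha
  rw [h, orderOf_one] at this
  omega

omit [Finite G] in
theorem mem_C {g : G} : g ∈ S.C ↔ g * S.a = S.a * g := Subgroup.mem_centralizer_singleton_iff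

omit [Finite G] in
theorem sq_a : S.a * S.a = S.a⁻¹ :=
  eq_inv_of_mul_eq_one_left (by rw [← pow_three']; exact a_pow S)

omit [Finite G] in
theorem a_ne_inv : S.a ≠ S.a⁻¹ := fun h => a_ne S (by
  have h1 := sq_a S
  rw [← h] at h1
  exact mul_eq_left.1 h1)

omit [Finite G] in
theorem card_Z : Nat.card (Z S) = 3 := by rw [Nat.card_zpowers, S.ha]

omit [Finite G] in
theorem Z_cases {x : G} (hx : x ∈ Z S) : x = 1 ∨ x = S.a ∨ x = S.a⁻¹ := by
  obtain ⟨k, rfl⟩ := Subgroup.mem_zpowers_iff.1 hx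
  have h3 : S.a ^ (3 : ℤ) = 1 := by
    rw [show (3 : ℤ) = ((3 : ℕ) : ℤ) by norm_num, zpow_natCast]; exact a_pow S
  rw [← Int.emod_add_mul_ediv k 3, zpow_add, zpow_mul, h3, one_zpow, mul_one]
  have h1 := Int.emod_lt_of_pos k (by norm_num : (0 : ℤ) < 3)
  have h2 := Int.emod_nonneg k (by norm_num : (3 : ℤ) ≠ 0)
  interval_cases h : k % 3
  · exact Or.inl (zpow_zero _)
  · exact Or.inr (Or.inl (zpow_one _))
  · refine Or.inr (Or.inr ?_)
    rw [zpow_two, sq_a]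

omit [Finite G] in
theorem Z_comm {z c : G} (hz : z ∈ Z S) (hc : c ∈ S.C) : c * z = z * c := by
  obtain ⟨k, rfl⟩ := Subgroup.mem_zpowers_iff.1 hz
  exact ((show Commute c S.a from (mem_C S).1 hc).zpow_right k).eq

omit [Finite G] in
theorem Z_le_C : Z S ≤ S.C := Subgroup.zpowers_le.2 ((mem_C S).2 rfl)

theorem C_le_H : S.C ≤ H S := fun c hc => mem_normalizer_of_maps fun x hx => by
  rw [Z_comm S hx hc, mul_inv_cancel_right]; exact hx

omit [Finite G] in
theorem H_cases {h : G} (hh : h ∈ H S) : h * S.a * h⁻¹ = S.a ∨ h * S.a * h⁻¹ = S.a⁻¹ := by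
  rcases Z_cases S ((Subgroup.mem_normalizer_iff.1 hh S.a).1 (Subgroup.mem_zpowers _)) with e | e | e
  · exact absurd (conj_eq_one_iff.1 e) (a_ne S)
  · exact Or.inl e
  · exact Or.inr e

theorem mem_H_of {g : G} (h : g * S.a * g⁻¹ ∈ Z S) : g ∈ H S := mem_normalizer_of_maps fun x hx => by
  obtain ⟨k, rfl⟩ := Subgroup.mem_zpowers_iff.1 hx
  rw [← conj_zpow]
  exact Subgroup.zpow_mem _ h k

omit [Finite G] in
theorem conj_C {h c : G} (hh : h ∈ H S) (hc : c ∈ S.C) : h * c * h⁻¹ ∈ S.C := by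
  rw [mem_C]
  have h1 : h⁻¹ * S.a * h ∈ Z S := by
    have := (Subgroup.mem_normalizer_iff.1 ((H S).inv_mem hh) S.a).1 (Subgroup.mem_zpowers _)
    simpa using this
  have h2 := Z_comm S h1 hc
  calc h * c * h⁻¹ * S.a = h * (c * (h⁻¹ * S.a * h)) * h⁻¹ := by group
    _ = h * ((h⁻¹ * S.a * h) * c) * h⁻¹ := by rw [h2]
    _ = S.a * (h * c * h⁻¹) := by group

omit [Finite G] in
theorem Q_le : S.Q ≤ S.C := Subgroup.map_subtype_le _

omit [Finite G] in
theorem Q_card : Nat.card S.Q = 27 :=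
  (Subgroup.card_map_of_injective (Subgroup.subtype_injective _)).trans S.hRcard

omit [Finite G] in
theorem Q_exp {x : G} (hx : x ∈ S.Q) : x ^ 3 = 1 := by
  obtain ⟨r, hr, rfl⟩ := hx
  exact congrArg Subtype.val (S.hRexp r hr)

omit [Finite G] in
theorem Q_mem {x : G} (hx : x ∈ S.C) :
    x ∈ S.Q ↔ (⟨x, hx⟩ : ↥(Subgroup.centralizer ({S.a} : Set G))) ∈
      Cfsg.pCore 3 (Subgroup.centralizer ({S.a} : Set G)) := by
  constructor
  · rintro ⟨r, hr, he⟩
    have : r = ⟨x, hx⟩ := Subtype.ext he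
    exact this ▸ hr
  · exact fun h => ⟨⟨x, hx⟩, h, rfl⟩

omit [Finite G] in
/-- A `3`-subgroup of `C` normalised by `C` lies in the core. -/
theorem le_Q {N : Subgroup G} (hN : N ≤ S.C) (hp : IsPGroup 3 N)
    (hn : ∀ c ∈ S.C, ∀ x ∈ N, c * x * c⁻¹ ∈ N) : N ≤ S.Q := by
  intro x hx
  refine (Q_mem S (hN hx)).2 ?_
  have h : N.subgroupOf (Subgroup.centralizer ({S.a} : Set G)) ≤
      Cfsg.pCore 3 (Subgroup.centralizer ({S.a} : Set G)) :=
    le_sSup ⟨⟨fun n hm g => hn g g.2 n hm⟩, IsPGroup.of_equiv hp (Subgroup.subgroupOfEquivOfLe hN).symm⟩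
  exact h hx

omit [Finite G] in
theorem a_mem_Q : S.a ∈ S.Q :=
  le_Q S (Z_le_C S) (IsPGroup.of_card (n := 1) (by rw [card_Z, pow_one]))
    (fun c hc x hx => by rw [Z_comm S hx hc, mul_inv_cancel_right]; exact hx) (Subgroup.mem_zpowers _)

omit [Finite G] in
theorem Z_le_Q : Z S ≤ S.Q := Subgroup.zpowers_le.2 (a_mem_Q S)

theorem Q_conj {h x : G} (hh : h ∈ H S) (hx : x ∈ S.Q) : h * x * h⁻¹ ∈ S.Q := by
  have hp : IsPGroup 3 (S.Q.map (MulAut.conj h).toMonoidHom) :=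
    IsPGroup.of_card (n := 3) (by
      rw [Subgroup.card_map_of_injective (MulAut.conj h).injective, Q_card]; norm_num)
  refine le_Q S ?_ hp ?_ ⟨x, hx, rfl⟩
  · rintro y ⟨q, hq, rfl⟩
    exact conj_C S hh (Q_le S hq)
  · rintro c hc _ ⟨q, hq, rfl⟩
    have hc' : h⁻¹ * c * h ∈ S.C := by simpa using conj_C S ((H S).inv_mem hh) hc
    refine ⟨h⁻¹ * c * h * q * (h⁻¹ * c * h)⁻¹, ?_, ?_⟩
    · obtain ⟨r, hr, rfl⟩ := hq
      exact ⟨⟨_, hc'⟩ * r * (⟨_, hc'⟩)⁻¹,
        (show (Cfsg.pCore 3 (Subgroup.centralizer ({S.a} : Set G))).Normal from inferInstance).conj_mem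
          _ hr _, rfl⟩
    · simp [mul_assoc]

theorem central_Q {x : G} (hx : x ∈ S.Q) (h : ∀ y ∈ S.Q, x * y = y * x) : x ∈ Z S := by
  set K := S.Q ⊓ Subgroup.centralizer (S.Q : Set G) with hK
  have hcard : Nat.card K = 3 := by
    set R := Cfsg.pCore 3 (Subgroup.centralizer ({S.a} : Set G)) with hR
    have : K = (Subgroup.center R).map ((Subgroup.centralizer ({S.a} : Set G)).subtype.comp R.subtype) := by
      ext y
      constructor
      · rintro ⟨⟨r, hr, rfl⟩, hy⟩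
        refine ⟨⟨r, hr⟩, Subgroup.mem_center_iff.2 fun s => Subtype.ext (Subtype.ext ?_), rfl⟩
        exact Subgroup.mem_centralizer_iff.1 hy _ ⟨s, s.2, rfl⟩
      · rintro ⟨r, hr, rfl⟩
        refine ⟨⟨r, r.2, rfl⟩, Subgroup.mem_centralizer_iff.2 ?_⟩
        rintro _ ⟨s, hs, rfl⟩
        exact congrArg (fun t : R => ((t : Subgroup.centralizer ({S.a} : Set G)) : G))
          (Subgroup.mem_center_iff.1 hr ⟨s, hs⟩)
    rw [this, Subgroup.card_map_of_injective]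
    · exact S.hR.2
    · exact fun r s he => Subtype.ext (Subtype.ext he)
  have hle : Z S ≤ K := Subgroup.zpowers_le.2 ⟨a_mem_Q S,
    Subgroup.mem_centralizer_iff.2 fun y hy => (mem_C S).1 (Q_le S hy)⟩
  have he : Z S = K := Subgroup.eq_of_le_of_card_ge hle (by rw [hcard, card_Z])
  rw [he]
  exact ⟨hx, Subgroup.mem_centralizer_iff.2 fun y hy => (h y hy).symm⟩

theorem comm_mem {x y : G} (hx : x ∈ S.Q) (hy : y ∈ S.Q) : x * y * x⁻¹ * y⁻¹ ∈ Z S := by
  refine central_Q S (S.Q.mul_mem (S.Q.mul_mem (S.Q.mul_mem hx hy) (S.Q.inv_mem hx)) (S.Q.inv_mem hy)) ?_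
  obtain ⟨r, hr, rfl⟩ := hx
  obtain ⟨s, hs, rfl⟩ := hy
  rintro _ ⟨w, hw, rfl⟩
  have h1 : (⟨r, hr⟩ : Cfsg.pCore 3 (Subgroup.centralizer ({S.a} : Set G))) * ⟨s, hs⟩ * ⟨r, hr⟩⁻¹ *
      ⟨s, hs⟩⁻¹ ∈ Subgroup.center _ := by
    rw [← S.hR.1.2.2]
    exact Subgroup.commutator_mem_commutator trivial trivial
  exact congrArg (fun t : Cfsg.pCore 3 (Subgroup.centralizer ({S.a} : Set G)) =>
    ((t : Subgroup.centralizer ({S.a} : Set G)) : G)) (Subgroup.mem_center_iff.1 h1 ⟨w, hw⟩).symm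

/-- The quotient map to `SL(2,3)`. -/
noncomputable def π : S.C →* SL23 :=
  (S.e.toMonoidHom.comp (QuotientGroup.mk' (Cfsg.pCore 3 (Subgroup.centralizer ({S.a} : Set G)))) :
    Subgroup.centralizer ({S.a} : Set G) →* SL23)

omit [Finite G] in
theorem π_surj : Function.Surjective (π S) := S.e.surjective.comp (QuotientGroup.mk'_surjective (Cfsg.pCore 3 (Subgroup.centralizer ({S.a} : Set G))))

omit [Finite G] in
theorem π_ker : (π S).ker = S.Q.subgroupOf S.C := by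
  ext x
  rw [Subgroup.mem_subgroupOf, Q_mem S x.2, MonoidHom.mem_ker]
  show S.e (QuotientGroup.mk' (Cfsg.pCore 3 (Subgroup.centralizer ({S.a} : Set G))) x) = 1 ↔ _
  rw [MulEquiv.map_eq_one_iff]
  exact QuotientGroup.eq_one_iff _

omit [Finite G] in
theorem π_one {x : G} (hx : x ∈ S.C) : π S ⟨x, hx⟩ = 1 ↔ x ∈ S.Q := by
  rw [← MonoidHom.mem_ker, π_ker]; rfl

theorem card_C : Nat.card S.C = 648 := by
  rw [← (π S).ker.card_mul_index, Subgroup.index_ker, MonoidHom.range_eq_top.2 (π_surj S),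
    Subgroup.card_top, PSpAmalgam31.sl_card, π_ker,
    Nat.card_congr (Subgroup.subgroupOfEquivOfLe (Q_le S)).toEquiv, Q_card]

/-- The action modulo the centre is faithful on `C/Q`. -/
theorem faithful {c : G} (hc : c ∈ S.C) (h : ∀ x ∈ S.Q, c * x * c⁻¹ * x⁻¹ ∈ Z S) : c ∈ S.Q := by
  by_contra hcQ
  let K : Subgroup S.C :=
    { carrier := {g | ∀ x ∈ S.Q, (g : G) * x * (g : G)⁻¹ * x⁻¹ ∈ Z S}
      one_mem' := fun x _ => by simp
      mul_mem' := by
        intro g g' hg hg' x hx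
        have hx' : (g' : G) * x * (g' : G)⁻¹ ∈ S.Q := Q_conj S (C_le_H S g'.2) hx
        have := (Z S).mul_mem (hg _ hx') (hg' x hx)
        convert this using 1
        rw [Subgroup.coe_mul]; group
      inv_mem' := by
        intro g hg x hx
        have hx' : (g : G)⁻¹ * x * (g : G) ∈ S.Q := by
          simpa using Q_conj S (C_le_H S (S.C.inv_mem g.2)) hx
        have := (Z S).inv_mem (hg _ hx')
        convert this using 1
        rw [Subgroup.coe_inv]; group }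
  have hmemK : ∀ g : S.C, g ∈ K ↔ ∀ x ∈ S.Q, (g : G) * x * (g : G)⁻¹ * x⁻¹ ∈ Z S := fun g => Iff.rfl
  haveI hKn : K.Normal := ⟨fun g hg w => by
    rw [hmemK] at hg ⊢
    intro x hx
    have hx' : (w : G)⁻¹ * x * (w : G) ∈ S.Q := by
      simpa using Q_conj S (C_le_H S (S.C.inv_mem w.2)) hx
    obtain ⟨k, hk⟩ := Subgroup.mem_zpowers_iff.1 (hg _ hx')
    have hz : (w : G) * ((g : G) * ((w : G)⁻¹ * x * w) * (g : G)⁻¹ * ((w : G)⁻¹ * x * w)⁻¹) * (w : G)⁻¹ ∈
        Z S := by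
      rw [Z_comm S ⟨k, hk⟩ w.2, mul_inv_cancel_right]
      exact ⟨k, hk⟩
    convert hz using 1
    rw [Subgroup.coe_mul, Subgroup.coe_mul, Subgroup.coe_inv]; group⟩
  obtain ⟨v, hv⟩ := sl_normal (π S ⟨c, hc⟩) (fun e => hcQ ((π_one S hc).1 e))
  obtain ⟨w, rfl⟩ := π_surj S v
  have hcK : (⟨c, hc⟩ : S.C) ∈ K := h
  obtain ⟨k, hkK, hk⟩ : ∃ k ∈ K, π S k = sneg := by
    set g : S.C := ⟨c, hc⟩
    have hgw : g * w * g⁻¹ * w⁻¹ ∈ K := by
      rw [mul_assoc, mul_assoc, ← mul_assoc w g⁻¹]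
      exact K.mul_mem hcK (hKn.conj_mem _ (K.inv_mem hcK) w)
    rcases hv with e | e | e | e | e
    · exact ⟨g, hcK, e⟩
    · exact ⟨g * g, K.mul_mem hcK hcK, by rw [map_mul, e]⟩
    · exact ⟨g * g * g, K.mul_mem (K.mul_mem hcK hcK) hcK, by rw [map_mul, map_mul, e]⟩
    · exact ⟨_, K.mul_mem hgw hgw, by rw [← e]; simp only [map_mul, map_inv]⟩
    · exact ⟨_, hgw, by rw [← e]; simp only [map_mul, map_inv]⟩
  set t : S.C := k ^ 81 with ht
  have hsn : sneg * sneg = 1 := PSpAmalgam31.sneg_spec.1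
  have htπ : π S t = sneg := by
    rw [ht, map_pow, hk, show (81 : ℕ) = 2 * 40 + 1 from rfl, pow_succ, pow_mul, sq, hsn, one_pow, one_mul]
  have hkQ : ((k : G) ^ 2) ∈ S.Q := (π_one S (S.C.pow_mem k.2 2)).1 (by
    rw [show (⟨(k : G) ^ 2, S.C.pow_mem k.2 2⟩ : S.C) = k ^ 2 from Subtype.ext (by simp), map_pow, hk, sq, hsn])
  have ht2 : (t : G) * t = 1 := by
    rw [ht, Subgroup.coe_pow, ← sq, ← pow_mul, show 81 * 2 = 2 * 81 from rfl, pow_mul,
      show (81 : ℕ) = 3 * 27 from rfl, pow_mul, Q_exp S hkQ, one_pow]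
  have htK : t ∈ K := K.pow_mem hkK 81
  -- the involution centralises the core
  have hcent : ∀ x ∈ S.Q, (t : G) * x = x * t := by
    intro x hx
    have hz : (t : G) * x * (t : G)⁻¹ * x⁻¹ ∈ Z S := htK x hx
    obtain ⟨z, hz', hzx⟩ : ∃ z, z ∈ Z S ∧ (t : G) * x * (t : G)⁻¹ = z * x := ⟨_, hz, by group⟩
    have h1 : (t : G) * ((t : G) * x * (t : G)⁻¹) * (t : G)⁻¹ = x := by
      calc (t : G) * ((t : G) * x * (t : G)⁻¹) * (t : G)⁻¹ = (t * t : G) * x * (t * t : G)⁻¹ := by group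
        _ = x := by rw [ht2]; group
    rw [hzx, ← mul_assoc, Z_comm S hz' t.2] at h1
    have h2 : z * (z * x) = x := by
      rw [← hzx]
      calc z * ((t : G) * x * (t : G)⁻¹) = z * t * x * (t : G)⁻¹ := by group
        _ = x := h1
    rw [← mul_assoc, mul_eq_right] at h2
    have : z = 1 := eq_one_of_pow_three (n := 2) (by
      obtain ⟨i, rfl⟩ := Subgroup.mem_zpowers_iff.1 hz'
      rw [← zpow_natCast, zpow_comm, zpow_natCast, a_pow, one_zpow]) (by rw [sq]; exact h2) (by norm_num)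
    rw [this, one_mul] at hzx
    exact mul_inv_eq_iff_eq_mul.1 hzx
  have hne : (t : G) ≠ 1 := fun e => PSpAmalgam31.sneg_spec.2 (by
    rw [show (PSpAmalgam31.sneg : SL23) = π S t from htπ.symm, show t = 1 from Subtype.ext e, map_one])
  have htc : ∀ g ∈ S.C, g * t * g⁻¹ = (t : G) := by
    intro g hg
    set s : S.C := ⟨g, hg⟩ * t * (⟨g, hg⟩ : S.C)⁻¹ with hs
    have hsQ : ∀ x ∈ S.Q, (s : G) * x = x * s := by
      intro x hx
      have hx' : g⁻¹ * x * g ∈ S.Q := by simpa using Q_conj S (C_le_H S (S.C.inv_mem hg)) hx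
      show g * t * g⁻¹ * x = x * (g * t * g⁻¹)
      calc g * t * g⁻¹ * x = g * (t * (g⁻¹ * x * g)) * g⁻¹ := by group
        _ = g * ((g⁻¹ * x * g) * t) * g⁻¹ := by rw [hcent _ hx']
        _ = x * (g * t * g⁻¹) := by group
    have hq : ((t⁻¹ * s : S.C) : G) ∈ S.Q := by
      refine (π_one S (t⁻¹ * s : S.C).2).1 ?_
      show π S (t⁻¹ * s) = 1
      rw [hs, map_mul, map_inv, map_mul, map_mul, map_inv, htπ,
        show sneg = PSpAmalgam31.sneg from rfl, ← PSpAmalgam31.sneg_central, mul_inv_cancel_right,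
        inv_mul_cancel]
    obtain ⟨q, hqQ, hqs⟩ : ∃ q ∈ S.Q, (s : G) = t * q := ⟨_, hq, by simp⟩
    have hqZ : q ∈ Z S := central_Q S hqQ fun y hy => by
      have h1 := hsQ y hy
      rw [hqs, mul_assoc, ← mul_assoc y, ← hcent y hy, mul_assoc] at h1
      exact mul_left_cancel h1
    have hs2 : (s : G) * s = 1 := by
      show g * t * g⁻¹ * (g * t * g⁻¹) = 1
      calc g * t * g⁻¹ * (g * t * g⁻¹) = g * (t * t) * g⁻¹ := by group
        _ = 1 := by rw [ht2]; group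
    rw [hqs, mul_assoc, ← mul_assoc q, ← Z_comm S hqZ t.2, ← mul_assoc, ← mul_assoc, ht2, one_mul] at hs2
    have : q = 1 := eq_one_of_pow_three (n := 2) (Q_exp S hqQ) (by rw [sq]; exact hs2) (by norm_num)
    rw [this, mul_one] at hqs
    exact hqs
  have hK : Subgroup.zpowers (t : G) = ⊥ := by
    refine S.hJsig _ ?_ fun j hj => ?_
    · rw [Nat.card_zpowers, orderOf_eq_prime (hp := ⟨Nat.prime_two⟩) (by rw [sq]; exact ht2) hne]
      norm_num
    · rw [MonoidHom.map_zpowers]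
      exact congrArg _ (htc j (S.hJC hj))
  exact hne (Subgroup.zpowers_eq_bot.1 hK)

end Cfsg.Agent.Sp62Three31.Loc25
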