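import Cfsg.Agent.Lib.Sp62Three31HalfBase

/-!
S3342 (helper25): coordinates on `O₃(C)/⟨a⟩`, the matrix of an element of `N(⟨a⟩)` and the Sylow
`3`-subgroup through `J`.
-/

set_option autoImplicit false

namespace Cfsg.Agent.Sp62Three31.Loc25

open PSpAmalgam31 (mem_normalizer_of_maps eq_one_of_pow_three)
open Matrix

theorem sl_trans : ∀ v : Fin 2 → ZMod 3, v ≠ 0 → ∃ g : SL23,
    (g : M2) *ᵥ ![1, 0] = v := by decide +kernel

theorem det_pairing : ∀ v : Fin 2 → ZMod 3, v ≠ 0 → ∀ k : ZMod 3, ∃ w : Fin 2 → ZMod 3,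
    w 0 * v 1 - w 1 * v 0 = k := by decide +kernel

theorem unit_vec : ∀ M : M2, M *ᵥ ![1, 0] = ![1, 0] → M 0 0 = 1 ∧ M 1 0 = 0 := by decide +kernel

theorem upper_mul : ∀ g h : SL23, (g : M2) 1 0 = 0 → (h : M2) 0 0 = 1 → (h : M2) 1 0 = 0 →
    ((g * h * g⁻¹ : SL23) : M2) 0 0 = 1 ∧ ((g * h * g⁻¹ : SL23) : M2) 1 0 = 0 := by decide +kernel

theorem upper_vec : ∀ (g : SL23) (v : Fin 2 → ZMod 3), (g : M2) 1 0 = 0 → v 1 = 0 →
    ((g : M2) *ᵥ v) 1 = 0 := by decide +kernel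

theorem unipotent_cases : ∀ g u : SL23, (u : M2) 0 0 = 1 → (u : M2) 1 0 = 0 → u ≠ 1 →
    (g : M2) 0 0 = 1 → (g : M2) 1 0 = 0 → g = 1 ∨ g = u ∨ g = u * u := by decide +kernel

theorem unipotent_move : ∀ (g : SL23) (v : Fin 2 → ZMod 3), (g : M2) 0 0 = 1 → (g : M2) 1 0 = 0 →
    g ≠ 1 → (g : M2) *ᵥ v = v → v 1 = 0 := by decide +kernel

theorem unipotent_shift : ∀ (g : SL23) (v : Fin 2 → ZMod 3), (g : M2) 0 0 = 1 → (g : M2) 1 0 = 0 →
    g ≠ 1 → v 1 ≠ 0 → (((g : M2) *ᵥ v - v) 1 = 0 ∧ ((g : M2) *ᵥ v - v) 0 ≠ 0) := by decide +kernel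

universe u

variable {G : Type u} [Group G] [Finite G] (S : Setup G)

/-- A symplectic basis of `Q` modulo `⟨a⟩` adapted to `J`. -/
structure Basis where
  d : G
  q : G
  d_memJ : d ∈ S.J
  d_mem : d ∈ S.Q
  q_mem : q ∈ S.Q
  comm : d * q * d⁻¹ * q⁻¹ = S.a

omit [Finite G] in
theorem JC {x : G} (hx : x ∈ S.J) : x ∈ S.C := S.hJC hx

theorem a_mem_J (hcJ : Subgroup.centralizer (S.J : Set G) = S.J) : S.a ∈ S.J := by
  rw [← hcJ]
  exact Subgroup.mem_centralizer_iff.2 fun j hj => (mem_C S).1 (JC S hj)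

omit [Finite G] in
theorem J_comm {x y : G} (hx : x ∈ S.J) (hy : y ∈ S.J) : x * y = y * x :=
  congrArg Subtype.val (S.hJcomm.is_comm.comm ⟨x, hx⟩ ⟨y, hy⟩)

theorem card_inf_ge : 9 ≤ Nat.card (S.J ⊓ S.Q : Subgroup G) := by
  set f : S.J →* SL23 := (π S).comp (Subgroup.inclusion (show S.J ≤ S.C from S.hJC)) with hf
  have hker : f.ker = (S.J ⊓ S.Q).subgroupOf S.J := by
    ext x
    rw [MonoidHom.mem_ker, Subgroup.mem_subgroupOf, Subgroup.mem_inf]
    exact ⟨fun h => ⟨x.2, (π_one S (JC S x.2)).1 h⟩, fun h => (π_one S (JC S x.2)).2 h.2⟩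
  have h1 := f.ker.card_mul_index
  rw [Subgroup.index_ker, S.hJcard, hker,
    Nat.card_congr (Subgroup.subgroupOfEquivOfLe inf_le_left).toEquiv] at h1
  have h2 : Nat.card f.range ∣ 24 := PSpAmalgam31.sl_card ▸ Subgroup.card_subgroup_dvd_card _
  have h3 : Nat.card f.range ∣ 27 := ⟨_, by rw [mul_comm]; exact h1.symm⟩
  have h4 : Nat.card f.range ∣ 3 := Nat.dvd_gcd h2 h3
  have h5 := Nat.le_of_dvd (by norm_num) h4
  nlinarith

theorem exists_basis (hcJ : Subgroup.centralizer (S.J : Set G) = S.J) : Nonempty (Basis S) := by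
  obtain ⟨d, hd, hdZ⟩ : ∃ d ∈ S.J ⊓ S.Q, d ∉ Z S := by
    by_contra h
    push Not at h
    have := Subgroup.card_le_of_le (fun x hx => h x hx : S.J ⊓ S.Q ≤ Z S)
    rw [card_Z] at this
    have := card_inf_ge S
    omega
  obtain ⟨q, hq, hne⟩ : ∃ q ∈ S.Q, d * q ≠ q * d := by
    by_contra h
    push Not at h
    exact hdZ (central_Q S hd.2 h)
  rcases Z_cases S (comm_mem S hd.2 hq) with e | e | e
  · exact absurd (mul_inv_eq_iff_eq_mul.1 (mul_inv_eq_one.1 e)) hne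
  · exact ⟨⟨d, q, hd.1, hd.2, hq, e⟩⟩
  · refine ⟨⟨d, q⁻¹, hd.1, hd.2, S.Q.inv_mem hq, ?_⟩⟩
    have hc : d * q * d⁻¹ = S.a⁻¹ * q := mul_inv_eq_iff_eq_mul.1 e
    calc d * q⁻¹ * d⁻¹ * q⁻¹⁻¹ = (d * q * d⁻¹)⁻¹ * q := by group
      _ = q⁻¹ * (S.a * q) := by rw [hc]; group
      _ = S.a := by
        rw [← (mem_C S).1 (Q_le S hq), inv_mul_cancel_left]

open Classical in
/-- The logarithm on `⟨a⟩`. -/
noncomputable def lg (z : G) : ZMod 3 := if z = S.a then 1 else if z = S.a⁻¹ then 2 else 0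

omit [Finite G] in
theorem lg_one : lg S 1 = 0 := by
  simp [lg, (a_ne S).symm, eq_comm (a := (1 : G)), a_ne S]

omit [Finite G] in
theorem lg_a : lg S S.a = 1 := by simp [lg]

omit [Finite G] in
theorem lg_inv : lg S S.a⁻¹ = 2 := by simp [lg, (a_ne_inv S).symm]

omit [Finite G] in
theorem lg_eq_zero {z : G} (hz : z ∈ Z S) : lg S z = 0 ↔ z = 1 := by
  rcases Z_cases S hz with rfl | rfl | rfl
  · simp [lg_one S]
  · simp [lg_a S, a_ne S]
  · simp [lg_inv S, a_ne S]; decide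

omit [Finite G] in
theorem lg_mul {z w : G} (hz : z ∈ Z S) (hw : w ∈ Z S) : lg S (z * w) = lg S z + lg S w := by
  have h2 : S.a⁻¹ * S.a⁻¹ = S.a := by rw [← _root_.mul_inv_rev, sq_a, inv_inv]
  rcases Z_cases S hz with rfl | rfl | rfl <;> rcases Z_cases S hw with rfl | rfl | rfl <;>
    simp only [one_mul, mul_one, mul_inv_cancel, inv_mul_cancel, sq_a S, h2, lg_one S, lg_a S,
      lg_inv S] <;>
    decide

omit [Finite G] in
theorem lg_inj {z w : G} (hz : z ∈ Z S) (hw : w ∈ Z S) (h : lg S z = lg S w) : z = w := by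
  rcases Z_cases S hz with rfl | rfl | rfl <;> rcases Z_cases S hw with rfl | rfl | rfl <;>
    first
      | rfl
      | (simp only [lg_one S, lg_a S, lg_inv S] at h; exact absurd h (by decide))

/-- The commutator pairing. -/
noncomputable def pair (x y : G) : ZMod 3 := lg S (x * y * x⁻¹ * y⁻¹)

omit [Finite G] in
theorem pair_self (x : G) : pair S x x = 0 := by simp [pair, lg_one S]

theorem pair_mul_left {x x' y : G} (hx : x ∈ S.Q) (hx' : x' ∈ S.Q) (hy : y ∈ S.Q) :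
    pair S (x * x') y = pair S x y + pair S x' y := by
  have h : x * x' * y * (x * x')⁻¹ * y⁻¹ = (x' * y * x'⁻¹ * y⁻¹) * (x * y * x⁻¹ * y⁻¹) := by
    calc x * x' * y * (x * x')⁻¹ * y⁻¹ = x * (x' * y * x'⁻¹ * y⁻¹) * (y * x⁻¹ * y⁻¹) := by group
      _ = (x' * y * x'⁻¹ * y⁻¹) * x * (y * x⁻¹ * y⁻¹) := by
        rw [Z_comm S (comm_mem S hx' hy) (Q_le S hx)]
      _ = _ := by group
  rw [pair, h, lg_mul S (comm_mem S hx' hy) (comm_mem S hx hy), add_comm]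
  rfl

theorem pair_swap {x y : G} (hx : x ∈ S.Q) (hy : y ∈ S.Q) : pair S y x = - pair S x y := by
  refine eq_neg_of_add_eq_zero_left ?_
  rw [pair, pair, ← lg_mul S (comm_mem S hy hx) (comm_mem S hx hy)]
  rw [show y * x * y⁻¹ * x⁻¹ * (x * y * x⁻¹ * y⁻¹) = 1 by group, lg_one]

theorem pair_mul_right {x y y' : G} (hx : x ∈ S.Q) (hy : y ∈ S.Q) (hy' : y' ∈ S.Q) :
    pair S x (y * y') = pair S x y + pair S x y' := by
  rw [pair_swap S (S.Q.mul_mem hy hy') hx, pair_mul_left S hy hy' hx, pair_swap S hy hx,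
    pair_swap S hy' hx]
  ring

variable (B : Basis S)

/-- Coordinates modulo `⟨a⟩`. -/
noncomputable def φ (x : G) : Fin 2 → ZMod 3 := ![pair S x B.q, pair S B.d x]

theorem φ_mul {x y : G} (hx : x ∈ S.Q) (hy : y ∈ S.Q) : φ S B (x * y) = φ S B x + φ S B y := by
  funext i
  fin_cases i <;> simp [φ, pair_mul_left S hx hy B.q_mem, pair_mul_right S B.d_mem hx hy]

theorem φ_one : φ S B 1 = 0 := by
  funext i; fin_cases i <;> simp [φ, pair, lg_one S]

theorem φ_pow {x : G} (hx : x ∈ S.Q) : ∀ n : ℕ, φ S B (x ^ n) = (n : ZMod 3) • φ S B x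
  | 0 => by simp [φ_one]
  | n + 1 => by
    rw [pow_succ, φ_mul S B (S.Q.pow_mem hx n) hx, φ_pow hx n, Nat.cast_succ, add_smul, one_smul]

omit [Finite G] in
theorem φ_Z {z : G} (hz : z ∈ Z S) : φ S B z = 0 := by
  funext i
  fin_cases i
  · simp [φ, pair, ← Z_comm S hz (Q_le S B.q_mem), lg_one S]
  · simp [φ, pair, Z_comm S hz (Q_le S B.d_mem), lg_one S]

theorem φ_d : φ S B B.d = ![1, 0] := by
  funext i
  fin_cases i
  · simp [φ, pair, B.comm, lg_a S]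
  · simp [φ, pair_self S]

theorem φ_q : φ S B B.q = ![0, 1] := by
  funext i
  fin_cases i
  · simp [φ, pair_self S]
  · simp [φ, pair, B.comm, lg_a S]

/-- The element with given coordinates. -/
noncomputable def el (v : Fin 2 → ZMod 3) : G := B.d ^ (v 0).val * B.q ^ (v 1).val

omit [Finite G] in
theorem el_mem (v : Fin 2 → ZMod 3) : el S B v ∈ S.Q :=
  S.Q.mul_mem (S.Q.pow_mem B.d_mem _) (S.Q.pow_mem B.q_mem _)

theorem φ_el (v : Fin 2 → ZMod 3) : φ S B (el S B v) = v := by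
  rw [el, φ_mul S B (S.Q.pow_mem B.d_mem _) (S.Q.pow_mem B.q_mem _), φ_pow S B B.d_mem,
    φ_pow S B B.q_mem, φ_d, φ_q, ZMod.natCast_zmod_val, ZMod.natCast_zmod_val]
  funext i
  fin_cases i <;> simp

theorem eq_zero_iff {x : G} (hx : x ∈ S.Q) : φ S B x = 0 ↔ x ∈ Z S := by
  refine ⟨fun h => ?_, φ_Z S B⟩
  let f : S.Q →* Multiplicative (Fin 2 → ZMod 3) :=
    { toFun := fun y => Multiplicative.ofAdd (φ S B y)
      map_one' := by simp [φ_one]
      map_mul' := fun y y' => by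
        rw [Subgroup.coe_mul, φ_mul S B y.2 y'.2]; rfl }
  have hsur : Function.Surjective f := fun v =>
    ⟨⟨el S B v.toAdd, el_mem S B _⟩, by show Multiplicative.ofAdd _ = v; rw [φ_el]; rfl⟩
  have h1 := f.ker.card_mul_index
  rw [Subgroup.index_ker, MonoidHom.range_eq_top.2 hsur, Subgroup.card_top, Q_card] at h1
  rw [show Nat.card (Multiplicative (Fin 2 → ZMod 3)) = 9 by
    rw [Nat.card_eq_fintype_card]; simp] at h1
  have hle : (Z S).subgroupOf S.Q ≤ f.ker := fun y hy => by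
    show Multiplicative.ofAdd (φ S B (y : G)) = 1
    rw [φ_Z S B (show (y : G) ∈ Z S from hy)]; rfl
  have he : (Z S).subgroupOf S.Q = f.ker := Subgroup.eq_of_le_of_card_ge hle (by
    rw [Nat.card_congr (Subgroup.subgroupOfEquivOfLe (Z_le_Q S)).toEquiv, card_Z]; omega)
  have : (⟨x, hx⟩ : S.Q) ∈ f.ker := by
    show Multiplicative.ofAdd (φ S B x) = 1
    rw [h]; rfl
  rw [← he] at this
  exact this

theorem exists_coord {x : G} (hx : x ∈ S.Q) : ∃ z ∈ Z S, x = el S B (φ S B x) * z := by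
  refine ⟨(el S B (φ S B x))⁻¹ * x, ?_, by group⟩
  have hi : φ S B (el S B (φ S B x))⁻¹ = - φ S B x := by
    have := φ_mul S B (el_mem S B (φ S B x)) (S.Q.inv_mem (el_mem S B (φ S B x)))
    rw [mul_inv_cancel, φ_one, φ_el] at this
    exact eq_neg_of_add_eq_zero_right this.symm
  rw [← eq_zero_iff S B (S.Q.mul_mem (S.Q.inv_mem (el_mem S B _)) hx),
    φ_mul S B (S.Q.inv_mem (el_mem S B _)) hx, hi, neg_add_cancel]

theorem φ_inv {x : G} (hx : x ∈ S.Q) : φ S B x⁻¹ = - φ S B x := by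
  have := φ_mul S B hx (S.Q.inv_mem hx)
  rw [mul_inv_cancel, φ_one] at this
  exact eq_neg_of_add_eq_zero_right this.symm

omit [Finite G] in
theorem pair_Z_left {z y : G} (hz : z ∈ Z S) (hy : y ∈ S.C) : pair S z y = 0 := by
  simp [pair, ← Z_comm S hz hy, lg_one S]

theorem pair_eq {x y : G} (hx : x ∈ S.Q) (hy : y ∈ S.Q) :
    pair S x y = φ S B x 0 * φ S B y 1 - φ S B x 1 * φ S B y 0 := by
  obtain ⟨z, hz, hxe⟩ := exists_coord S B hx
  have hp : ∀ n : ℕ, ∀ w ∈ S.Q, pair S (w ^ n) y = (n : ZMod 3) * pair S w y := by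
    intro n w hw
    induction n with
    | zero => simp [pair, lg_one S]
    | succ n ih => rw [pow_succ, pair_mul_left S (S.Q.pow_mem hw n) hw hy, ih]; push_cast; ring
  have hq : pair S B.q y = - φ S B y 0 := by rw [pair_swap S hy B.q_mem]; rfl
  conv_lhs => rw [hxe]
  rw [pair_mul_left S (el_mem S B _) (Z_le_Q S hz) hy, pair_Z_left S hz (Q_le S hy), el,
    pair_mul_left S (S.Q.pow_mem B.d_mem _) (S.Q.pow_mem B.q_mem _) hy, hp _ _ B.d_mem,
    hp _ _ B.q_mem, hq, ZMod.natCast_zmod_val, ZMod.natCast_zmod_val]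
  show _ * φ S B y 1 + _ + 0 = _
  ring

/-- The matrix of an element. -/
noncomputable def mat (h : G) : M2 :=
  Matrix.of fun i j => φ S B (h * (![B.d, B.q] j) * h⁻¹) i

theorem φ_conj {h x : G} (hh : h ∈ H S) (hx : x ∈ S.Q) :
    φ S B (h * x * h⁻¹) = mat S B h *ᵥ φ S B x := by
  obtain ⟨z, hz, hxe⟩ := exists_coord S B hx
  have hd := Q_conj S hh B.d_mem
  have hq := Q_conj S hh B.q_mem
  have hz' : h * z * h⁻¹ ∈ Z S := (Subgroup.mem_normalizer_iff.1 hh z).1 hz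
  have e : h * x * h⁻¹ = (h * B.d * h⁻¹) ^ (φ S B x 0).val * (h * B.q * h⁻¹) ^ (φ S B x 1).val *
      (h * z * h⁻¹) := by
    conv_lhs => rw [hxe]
    rw [conj_pow, conj_pow, el]; group
  rw [e, φ_mul S B (S.Q.mul_mem (S.Q.pow_mem hd _) (S.Q.pow_mem hq _)) (Z_le_Q S hz'),
    φ_mul S B (S.Q.pow_mem hd _) (S.Q.pow_mem hq _), φ_pow S B hd, φ_pow S B hq, φ_Z S B hz',
    ZMod.natCast_zmod_val, ZMod.natCast_zmod_val]
  funext i
  simp [mat, Matrix.mulVec, dotProduct, Fin.sum_univ_two]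
  ring

theorem mat_mul {g h : G} (hg : g ∈ H S) (hh : h ∈ H S) :
    mat S B (g * h) = mat S B g * mat S B h := by
  ext i j
  have e : g * h * (![B.d, B.q] j) * (g * h)⁻¹ = g * (h * (![B.d, B.q] j) * h⁻¹) * g⁻¹ := by group
  show φ S B (g * h * (![B.d, B.q] j) * (g * h)⁻¹) i = _
  rw [e, φ_conj S B hg (Q_conj S hh (by fin_cases j; exacts [B.d_mem, B.q_mem]))]
  rfl

theorem mat_one : mat S B 1 = 1 := by
  ext i j
  show φ S B (1 * (![B.d, B.q] j) * 1⁻¹) i = _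
  fin_cases i <;> fin_cases j <;> simp [φ_d, φ_q]

theorem det_mat {h : G} (hh : h ∈ H S) : (mat S B h).det = lg S (h * S.a * h⁻¹) := by
  have hd := Q_conj S hh B.d_mem
  have hq := Q_conj S hh B.q_mem
  have h1 := pair_eq S B hd hq
  rw [pair, show h * B.d * h⁻¹ * (h * B.q * h⁻¹) * (h * B.d * h⁻¹)⁻¹ * (h * B.q * h⁻¹)⁻¹ =
    h * (B.d * B.q * B.d⁻¹ * B.q⁻¹) * h⁻¹ by group, B.comm] at h1
  rw [h1, Matrix.det_fin_two]
  simp [mat]
  ring

theorem det_one {c : G} (hc : c ∈ S.C) : (mat S B c).det = 1 := by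
  rw [det_mat S B (C_le_H S hc), (mem_C S).1 hc, mul_inv_cancel_right, lg_a]

theorem det_two {h : G} (hh : h ∈ H S) (hc : h ∉ S.C) : (mat S B h).det = 2 := by
  rw [det_mat S B hh, (H_cases S hh).resolve_left (fun e => hc ((mem_C S).2 (mul_inv_eq_iff_eq_mul.1 e))),
    lg_inv]

theorem mem_C_of_det {h : G} (hh : h ∈ H S) (hd : (mat S B h).det ≠ 2) : h ∈ S.C :=
  by_contra fun hc => hd (det_two S B hh hc)

/-- The action of `C` modulo `⟨a⟩`. -/
noncomputable def ρ : S.C →* SL23 where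
  toFun c := ⟨mat S B c, det_one S B c.2⟩
  map_one' := Subtype.ext (mat_one S B)
  map_mul' c c' := Subtype.ext (mat_mul S B (C_le_H S c.2) (C_le_H S c'.2))

theorem ρ_coe (c : S.C) : ((ρ S B c : SL23) : M2) = mat S B c := rfl

theorem ρ_ker : (ρ S B).ker = S.Q.subgroupOf S.C := by
  ext c
  rw [MonoidHom.mem_ker, Subgroup.mem_subgroupOf]
  constructor
  · intro h
    refine faithful S c.2 fun x hx => ?_
    have hm : mat S B (c : G) = 1 := congrArg Subtype.val h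
    have hcx := Q_conj S (C_le_H S c.2) hx
    rw [← eq_zero_iff S B (S.Q.mul_mem hcx (S.Q.inv_mem hx)), φ_mul S B hcx (S.Q.inv_mem hx),
      φ_inv S B hx, φ_conj S B (C_le_H S c.2) hx, hm, Matrix.one_mulVec, add_neg_cancel]
  · intro h
    refine Subtype.ext ?_
    show mat S B (c : G) = 1
    have key : ∀ x ∈ S.Q, φ S B ((c : G) * x * (c : G)⁻¹) = φ S B x := fun x hx => by
      have := φ_mul S B (S.Q.mul_mem (S.Q.mul_mem (S.Q.mul_mem h hx) (S.Q.inv_mem h)) (S.Q.inv_mem hx)) hx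
      rw [inv_mul_cancel_right, φ_Z S B (comm_mem S h hx), zero_add] at this
      exact this
    ext i j
    show φ S B ((c : G) * (![B.d, B.q] j) * (c : G)⁻¹) i = _
    rw [key _ (by fin_cases j; exacts [B.d_mem, B.q_mem])]
    fin_cases i <;> fin_cases j <;> simp [φ_d, φ_q]

theorem ρ_surj : Function.Surjective (ρ S B) := by
  rw [← MonoidHom.range_eq_top]
  refine Subgroup.eq_top_of_card_eq _ ?_
  have h1 := (ρ S B).ker.card_mul_index
  rw [Subgroup.index_ker, ρ_ker, Nat.card_congr (Subgroup.subgroupOfEquivOfLe (Q_le S)).toEquiv,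
    Q_card, card_C] at h1
  rw [PSpAmalgam31.sl_card]
  omega

theorem ρ_one {x : G} (hx : x ∈ S.C) : ρ S B ⟨x, hx⟩ = 1 ↔ x ∈ S.Q := by
  rw [← MonoidHom.mem_ker, ρ_ker]; rfl

theorem exists_mat (g : SL23) : ∃ c, ∃ hc : c ∈ S.C, ρ S B ⟨c, hc⟩ = g := by
  obtain ⟨⟨c, hc⟩, h⟩ := ρ_surj S B g
  exact ⟨c, hc, h⟩

/-- `C` is transitive on `Q \ ⟨a⟩`. -/
theorem trans_Q {x : G} (hx : x ∈ S.Q) (hxZ : x ∉ Z S) : ∃ c ∈ S.C, c * B.d * c⁻¹ = x := by
  have hv : φ S B x ≠ 0 := fun e => hxZ ((eq_zero_iff S B hx).1 e)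
  obtain ⟨g, hg⟩ := sl_trans _ hv
  obtain ⟨c, hc, hcg⟩ := exists_mat S B g
  set x' := c * B.d * c⁻¹ with hx'
  have hx'Q : x' ∈ S.Q := Q_conj S (C_le_H S hc) B.d_mem
  have hφ : φ S B x' = φ S B x := by
    rw [hx', φ_conj S B (C_le_H S hc) B.d_mem, φ_d, ← hg, ← hcg]; rfl
  have hz : x * x'⁻¹ ∈ Z S := by
    rw [← eq_zero_iff S B (S.Q.mul_mem hx (S.Q.inv_mem hx'Q)), φ_mul S B hx (S.Q.inv_mem hx'Q),
      φ_inv S B hx'Q, hφ, add_neg_cancel]
  obtain ⟨w, hw⟩ := det_pairing (φ S B x') (hφ.symm ▸ hv) (lg S (x * x'⁻¹))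
  have hp : pair S (el S B w) x' = lg S (x * x'⁻¹) := by
    rw [pair_eq S B (el_mem S B w) hx'Q, φ_el]; exact hw
  have he := lg_inj S (comm_mem S (el_mem S B w) hx'Q) hz hp
  refine ⟨el S B w * c, S.C.mul_mem (Q_le S (el_mem S B w)) hc, ?_⟩
  calc el S B w * c * B.d * (el S B w * c)⁻¹
      = (el S B w * x' * (el S B w)⁻¹ * x'⁻¹) * x' := by rw [hx']; group
    _ = x := by rw [he, inv_mul_cancel_right]

theorem mem_D_iff (hcJ : Subgroup.centralizer (S.J : Set G) = S.J) {x : G} (hx : x ∈ S.Q) :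
    x ∈ S.J ↔ φ S B x 1 = 0 := by
  constructor
  · intro hxJ
    show pair S B.d x = 0
    rw [pair, J_comm S B.d_memJ hxJ, mul_inv_cancel_right, mul_inv_cancel, lg_one]
  · intro h
    obtain ⟨z, hz, e⟩ := exists_coord S B hx
    rw [e, el, h, ZMod.val_zero, pow_zero, mul_one]
    exact S.J.mul_mem (S.J.pow_mem B.d_memJ _)
      (Subgroup.zpowers_le.2 (a_mem_J S hcJ) hz)

/-- `ρ` of an element of `J` is upper unitriangular. -/
theorem J_unip (hcJ : Subgroup.centralizer (S.J : Set G) = S.J) {j : G} (hj : j ∈ S.J) :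
    mat S B j 0 0 = 1 ∧ mat S B j 1 0 = 0 := by
  refine unit_vec _ ?_
  rw [← φ_d S B, ← φ_conj S B (C_le_H S (JC S hj)) B.d_mem, J_comm S hj B.d_memJ, mul_inv_cancel_right]

/-- The Sylow `3`-subgroup through `J`. -/
noncomputable def S0 : Subgroup G where
  carrier := {x | x ∈ S.C ∧ mat S B x 0 0 = 1 ∧ mat S B x 1 0 = 0}
  one_mem' := ⟨S.C.one_mem, by simp [mat_one], by simp [mat_one]⟩
  mul_mem' := fun {x y} ⟨hx, h1, h2⟩ ⟨hy, h3, h4⟩ => ⟨S.C.mul_mem hx hy, by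
    rw [mat_mul S B (C_le_H S hx) (C_le_H S hy), Matrix.mul_apply, Fin.sum_univ_two, h1, h3, h4]; simp, by
    rw [mat_mul S B (C_le_H S hx) (C_le_H S hy), Matrix.mul_apply, Fin.sum_univ_two, h2, h4]; simp⟩
  inv_mem' := fun {x} ⟨hx, h1, h2⟩ => by
    have h := mat_mul S B (C_le_H S (S.C.inv_mem hx)) (C_le_H S hx)
    rw [inv_mul_cancel, mat_one] at h
    have e0 := congrFun (congrFun h 0) 0
    have e1 := congrFun (congrFun h 1) 0
    rw [Matrix.mul_apply, Fin.sum_univ_two, h1, h2] at e0 e1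
    simp at e0 e1
    exact ⟨S.C.inv_mem hx, e0.symm, e1.symm⟩

theorem mem_S0 {x : G} : x ∈ S0 S B ↔ x ∈ S.C ∧ mat S B x 0 0 = 1 ∧ mat S B x 1 0 = 0 := Iff.rfl

theorem Q_le_S0 : S.Q ≤ S0 S B := fun x hx => by
  have : mat S B x = 1 := congrArg Subtype.val ((ρ_one S B (Q_le S hx)).2 hx)
  exact ⟨Q_le S hx, by simp [this], by simp [this]⟩

theorem J_le_S0 (hcJ : Subgroup.centralizer (S.J : Set G) = S.J) : S.J ≤ S0 S B :=
  fun _ hx => ⟨JC S hx, J_unip S B hcJ hx⟩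

include B in
theorem exists_not_Q (hcJ : Subgroup.centralizer (S.J : Set G) = S.J) : ∃ j ∈ S.J, j ∉ S.Q := by
  by_contra h
  push Not at h
  have he : S.J = S.Q := Subgroup.eq_of_le_of_card_ge h (by rw [Q_card, S.hJcard])
  have : B.d * B.q = B.q * B.d := J_comm S B.d_memJ (he ▸ B.q_mem)
  have h1 := B.comm
  rw [this, mul_inv_cancel_right, mul_inv_cancel] at h1
  exact a_ne S h1.symm

/-- `S₀ = QJ`. -/
theorem S0_decomp (hcJ : Subgroup.centralizer (S.J : Set G) = S.J) {x : G} (hx : x ∈ S0 S B) :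
    ∃ q ∈ S.Q, ∃ j ∈ S.J, x = q * j := by
  obtain ⟨j, hj, hjQ⟩ := exists_not_Q S B hcJ
  have hu := J_unip S B hcJ hj
  have hcases := unipotent_cases (ρ S B ⟨x, hx.1⟩) (ρ S B ⟨j, JC S hj⟩) hu.1 hu.2
    (fun e => hjQ ((ρ_one S B _).1 e)) hx.2.1 hx.2.2
  have fin : ∀ y ∈ S.J, ∀ hy : y ∈ S.C, ρ S B ⟨x, hx.1⟩ = ρ S B ⟨y, hy⟩ →
      ∃ q ∈ S.Q, ∃ j ∈ S.J, x = q * j := fun y hy hyC e =>
    ⟨x * y⁻¹, (ρ_one S B (S.C.mul_mem hx.1 (S.C.inv_mem hyC))).1 (by
      rw [show (⟨x * y⁻¹, _⟩ : S.C) = ⟨x, hx.1⟩ * (⟨y, hyC⟩ : S.C)⁻¹ from rfl, map_mul, map_inv, e,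
        mul_inv_cancel]), y, hy, by group⟩
  rcases hcases with e | e | e
  · exact fin 1 S.J.one_mem S.C.one_mem (e.trans (map_one _).symm)
  · exact fin j hj _ e
  · exact fin (j * j) (S.J.mul_mem hj hj) (S.C.mul_mem (JC S hj) (JC S hj))
      (by rw [e, ← map_mul]; exact congrArg (ρ S B) (Subtype.ext rfl))

theorem card_S0 (hcJ : Subgroup.centralizer (S.J : Set G) = S.J) : Nat.card (S0 S B) = 81 := by
  obtain ⟨j, hj, hjQ⟩ := exists_not_Q S B hcJ
  set u := ρ S B ⟨j, JC S hj⟩ with hu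
  have hu1 := J_unip S B hcJ hj
  have hu3 : u * u * u = 1 := by
    rw [hu, ← map_mul, ← map_mul, show (⟨j, JC S hj⟩ * ⟨j, JC S hj⟩ * ⟨j, JC S hj⟩ : S.C) = 1 from
      Subtype.ext (by simpa [← pow_three'] using S.hJexp j hj), map_one]
  have hune : u ≠ 1 := fun e => hjQ ((ρ_one S B _).1 e)
  have hu' : orderOf u = 3 := orderOf_eq_prime (hp := ⟨Nat.prime_three⟩) (by rw [pow_three']; exact hu3) hune
  have hS : (S0 S B).subgroupOf S.C = (Subgroup.zpowers u).comap (ρ S B) := by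
    ext c
    rw [Subgroup.mem_subgroupOf, Subgroup.mem_comap, mem_S0]
    constructor
    · rintro ⟨-, h1, h2⟩
      rcases unipotent_cases (ρ S B c) u hu1.1 hu1.2 hune h1 h2 with e | e | e <;> rw [e]
      · exact Subgroup.one_mem _
      · exact Subgroup.mem_zpowers u
      · exact Subgroup.mul_mem _ (Subgroup.mem_zpowers u) (Subgroup.mem_zpowers u)
    · intro h
      have key : ∀ v ∈ ({1, u, u⁻¹} : Set SL23), (v : M2) 0 0 = 1 ∧ (v : M2) 1 0 = 0 := by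
        have hj' := (S0 S B).inv_mem ⟨JC S hj, hu1⟩
        rintro v (rfl | rfl | rfl)
        · exact ⟨by simp, by simp⟩
        · exact hu1
        · rw [hu, ← map_inv]; exact hj'.2
      obtain ⟨k, hk⟩ := Subgroup.mem_zpowers_iff.1 h
      rw [← zpow_mod_orderOf, hu'] at hk
      have h1 := Int.emod_lt_of_pos k (by norm_num : (0 : ℤ) < 3)
      have h2 := Int.emod_nonneg k (by norm_num : (3 : ℤ) ≠ 0)
      refine ⟨c.2, key (ρ S B c) ?_⟩
      push_cast at hk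
      rw [← hk]
      interval_cases k % 3
      · exact Or.inl (zpow_zero u)
      · exact Or.inr (Or.inl (zpow_one u))
      · refine Or.inr (Or.inr ?_)
        rw [zpow_two]
        exact eq_inv_of_mul_eq_one_left hu3
  have hle : S0 S B ≤ S.C := fun x hx => hx.1
  rw [← Nat.card_congr (Subgroup.subgroupOfEquivOfLe hle).toEquiv, hS]
  have h1 := ((Subgroup.zpowers u).comap (ρ S B)).card_mul_index
  rw [Subgroup.index_comap_of_surjective _ (ρ_surj S B), card_C] at h1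
  have h2 := (Subgroup.zpowers u).card_mul_index
  rw [Nat.card_zpowers, hu', PSpAmalgam31.sl_card] at h2
  have h3 : (Subgroup.zpowers u).index = 8 := by omega
  rw [h3] at h1
  omega

/-- Elements of order three of `S₀` lie in `J ∪ Q`. -/
theorem three_mem (hcJ : Subgroup.centralizer (S.J : Set G) = S.J) {x : G} (hx : x ∈ S0 S B)
    (h3 : x ^ 3 = 1) : x ∈ S.J ∨ x ∈ S.Q := by
  obtain ⟨q, hq, j, hj, rfl⟩ := S0_decomp S B hcJ hx
  by_cases hjQ : j ∈ S.Q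
  · exact Or.inr (S.Q.mul_mem hq hjQ)
  by_cases hq1 : φ S B q 1 = 0
  · exact Or.inl (S.J.mul_mem ((mem_D_iff S B hcJ hq).2 hq1) hj)
  exfalso
  obtain ⟨e, he⟩ : ∃ e, e = j * q * j⁻¹ * q⁻¹ := ⟨_, rfl⟩
  have hjH := C_le_H S (JC S hj)
  have heQ : e ∈ S.Q := he ▸ S.Q.mul_mem (Q_conj S hjH hq) (S.Q.inv_mem hq)
  have hu := J_unip S B hcJ hj
  obtain ⟨hs1, hs0⟩ := unipotent_shift (ρ S B ⟨j, JC S hj⟩) (φ S B q) hu.1 hu.2
    (fun h => hjQ ((ρ_one S B _).1 h)) hq1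
  have hφe : φ S B e = (ρ S B ⟨j, JC S hj⟩ : M2) *ᵥ φ S B q - φ S B q := by
    rw [he, φ_mul S B (Q_conj S hjH hq) (S.Q.inv_mem hq), φ_inv S B hq, φ_conj S B hjH hq,
      sub_eq_add_neg]
    rfl
  have heJ : e ∈ S.J := (mem_D_iff S B hcJ heQ).2 (hφe ▸ hs1)
  have hc : pair S q e ≠ 0 := by
    rw [pair_eq S B hq heQ, hφe, hs1, mul_zero, zero_sub, neg_ne_zero]
    exact mul_ne_zero hq1 hs0
  obtain ⟨c, hce⟩ : ∃ c, c = q * e * q⁻¹ * e⁻¹ := ⟨_, rfl⟩
  have hcZ : c ∈ Z S := hce ▸ comm_mem S hq heQ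
  have hje : j * e * j⁻¹ = e := by rw [J_comm S hj heJ, mul_inv_cancel_right]
  have hqj : j * q * j⁻¹ = e * q := by rw [he]; group
  have hqe : q * e = c * (e * q) := by rw [hce]; group
  have hec : e * c = c * e := Z_comm S hcZ (Q_le S heQ)
  have hqc : q * c = c * q := Z_comm S hcZ (Q_le S hq)
  have h1 : j * (e * q) * j⁻¹ = e * (e * q) := by
    calc j * (e * q) * j⁻¹ = (j * e * j⁻¹) * (j * q * j⁻¹) := by group
      _ = e * (e * q) := by rw [hje, hqj]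
  have hexp : (q * j) ^ 3 = q * (e * q) * (e * (e * q)) * j ^ 3 := by
    rw [← h1, ← hqj]
    simp only [pow_succ, pow_zero, one_mul]
    group
  have he3 : e * e * e = 1 := by rw [← pow_three']; exact Q_exp S heQ
  have hq3 : q * q * q = 1 := by rw [← pow_three']; exact Q_exp S hq
  rw [h3, S.hJexp j hj, mul_one] at hexp
  have hc3' : c * c * c = 1 := by rw [← pow_three']; exact Q_exp S (Z_le_Q S hcZ)
  have r1 : ∀ x, q * (e * x) = c * (e * (q * x)) := fun x => by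
    rw [← mul_assoc, hqe, mul_assoc, mul_assoc]
  have r2 : ∀ x, q * (c * x) = c * (q * x) := fun x => by rw [← mul_assoc, hqc, mul_assoc]
  have r3 : ∀ x, e * (c * x) = c * (e * x) := fun x => by rw [← mul_assoc, hec, mul_assoc]
  have r4 : ∀ x, e * (e * (e * x)) = x := fun x => by rw [← mul_assoc, ← mul_assoc, he3, one_mul]
  have r5 : ∀ x, c * (c * (c * x)) = x := fun x => by rw [← mul_assoc, ← mul_assoc, hc3', one_mul]
  have r7 : e * (e * e) = 1 := by rw [← mul_assoc, he3]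
  have r6 : q * (q * q) = 1 := by rw [← mul_assoc, hq3]
  have h2 : q * (e * q) * (e * (e * q)) = c * c := by
    simp only [mul_assoc, r1, r2, r3, r4, r5, r6, r7, mul_one]
  rw [h2] at hexp
  refine hc ?_
  have hc3 : c ^ 3 = 1 := Q_exp S (Z_le_Q S hcZ)
  have : c = 1 := eq_one_of_pow_three (n := 2) hc3 (by rw [sq]; exact hexp.symm) (by norm_num)
  show lg S (q * e * q⁻¹ * e⁻¹) = 0
  rw [← hce, this, lg_one]

end Cfsg.Agent.Sp62Three31.Loc25
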