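import Cfsg.Agent.Lib.Sp62Three31HalfTorus
import Cfsg.Agent.Lib.CoprimeGen
import Cfsg.Agent.S2870
import Cfsg.Agent.S2899

/-!
S3342 (helper25, piece P3, second part): `N(⟨a⟩)` is strongly `3`-embedded, and contains a Sylow
`2`-subgroup in which the central involution is isolated.
-/

set_option autoImplicit false

namespace Cfsg.Agent.Sp62Three31.Loc25

open PSpAmalgam31 (mem_normalizer_of_maps eq_one_of_pow_three)
open scoped Matrix

theorem fix_neg : ∀ v : Fin 2 → ZMod 3, (sneg : M2) *ᵥ v = v → v = 0 := by decide +kernel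

theorem det_sq_neg : ∀ M : M2, M * M = (sneg : M2) → M.det ≠ 2 := by decide +kernel

theorem det_commutant : ∀ M : M2, M * !![0, 2; 1, 0] = !![0, 2; 1, 0] * M →
    M * !![1, 1; 1, 2] = !![1, 1; 1, 2] * M → M.det ≠ 2 := by decide +kernel

/-- A quaternion element. -/
def qa : SL23 := ⟨!![0, 2; 1, 0], by decide⟩

/-- A second quaternion element. -/
def qb : SL23 := ⟨!![1, 1; 1, 2], by decide⟩

theorem qab_four : qa * qa * (qa * qa) = 1 ∧ qb * qb * (qb * qb) = 1 ∧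
    sneg * sneg * (sneg * sneg) = 1 := by decide +kernel

theorem sl_qab_comm : ∀ g : SL23, g * qa = qa * g → g * qb = qb * g → g = 1 ∨ g = sneg := by
  decide +kernel

theorem sl_four_of_eight : ∀ u : SL23, (u * u * (u * u)) * (u * u * (u * u)) = 1 →
    u * u * (u * u) = 1 := by decide +kernel

universe u

variable {G : Type u} [Group G] [Finite G] (S : Setup G) (B : Basis S)

/-- The hypotheses of the inverted weakly closed half. -/
structure Closed : Prop where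
  hcJ : Subgroup.centralizer (S.J : Set G) = S.J
  hsyl : ¬ 3 ^ 5 ∣ Nat.card G
  hfus : ∀ g : G, g * S.a * g⁻¹ ∈ S.J →
    ∃ n ∈ Subgroup.normalizer (S.J : Set G), n * S.a * n⁻¹ = g * S.a * g⁻¹
  hW : S.WeaklyClosed
  hinv : S.Inverted

variable {S}
variable (K : Closed S)

include K in
/-- Centralisers of elements of `J` lie in `N(⟨a⟩)`. -/
theorem Closed.cent_J {x : G} (hx : x ∈ S.J) (hx1 : x ≠ 1) :
    Subgroup.centralizer ({x} : Set G) ≤ H S := by
  by_cases hxZ : x ∈ Z S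
  · intro g hg
    refine mem_H_of S ?_
    have hgx : Commute g x := Subgroup.mem_centralizer_singleton_iff.1 hg
    rcases Z_cases S hxZ with e | e | e
    · exact absurd e hx1
    · rw [e] at hgx
      rw [hgx.eq, mul_inv_cancel_right]
      exact Subgroup.mem_zpowers _
    · rw [e] at hgx
      rw [(Commute.inv_right_iff.1 hgx).eq, mul_inv_cancel_right]
      exact Subgroup.mem_zpowers _
  · exact (cent_le_NJ S K.hcJ K.hsyl K.hW K.hinv hx hxZ).trans K.hW

include K B in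
/-- Centralisers of elements of order three of `S₀` lie in `N(⟨a⟩)`. -/
theorem Closed.cent_S0_le {x : G} (hx : x ∈ S0 S B) (h3 : x ^ 3 = 1) (hx1 : x ≠ 1) :
    Subgroup.centralizer ({x} : Set G) ≤ H S := by
  rcases three_mem S B K.hcJ hx h3 with h | h
  · exact K.cent_J h hx1
  by_cases hxZ : x ∈ Z S
  · exact K.cent_J ((Subgroup.zpowers_le.2 (a_mem_J S K.hcJ)) hxZ) hx1
  obtain ⟨c, hc, he⟩ := trans_Q S B h hxZ
  intro g hg
  have hgx : g * x = x * g := Subgroup.mem_centralizer_singleton_iff.1 hg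
  have hd : c⁻¹ * g * c ∈ Subgroup.centralizer ({B.d} : Set G) := by
    rw [Subgroup.mem_centralizer_singleton_iff]
    calc c⁻¹ * g * c * B.d = c⁻¹ * (g * (c * B.d * c⁻¹)) * c := by group
      _ = c⁻¹ * ((c * B.d * c⁻¹) * g) * c := by rw [he, hgx]
      _ = B.d * (c⁻¹ * g * c) := by group
  have h' := K.cent_J B.d_memJ (fun e => d_not_Z S B (e ▸ (Z S).one_mem)) hd
  have := (H S).mul_mem ((H S).mul_mem (C_le_H S hc) h') ((H S).inv_mem (C_le_H S hc))
  simpa [mul_assoc] using this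

include B in
theorem S0_le_H : S0 S B ≤ H S := (S0_le_C S B).trans (C_le_H S)

include K B in
/-- `N(⟨a⟩)` is strongly `3`-embedded unless it is everything. -/
theorem Closed.stronglyEmbedded (hH : H S ≠ ⊤) : Cfsg.IsStronglyPEmbedded 3 (H S) := by
  haveI : Fact (Nat.Prime 3) := ⟨Nat.prime_three⟩
  obtain ⟨P, hP⟩ := exists_sylow S B K.hcJ K.hsyl
  have hPH : (P : Subgroup G) ≤ H S := hP ▸ S0_le_H B
  have hmap : ((P.subtype hPH : Sylow 3 (H S)) : Subgroup (H S)).map (H S).subtype = S0 S B := by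
    rw [Sylow.coe_subtype, Subgroup.subgroupOf_map_subtype, inf_eq_left.2 hPH, hP]
  refine (S2899.result (H S) hH (P.subtype hPH)).2 ⟨fun x hx ho => ?_, ?_⟩
  · rw [hmap] at hx
    refine K.cent_S0_le B hx (ho ▸ pow_orderOf_eq_one x) fun e => ?_
    rw [e, orderOf_one] at ho
    omega
  · rw [hmap]
    exact norm_S0 S B K.hcJ

include B in
/-- Involutions of `N(⟨a⟩)` centralise an element of order three. -/
theorem three_dvd_cent {t : G} (ht : t ∈ H S) (ht2 : orderOf t = 2) :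
    3 ∣ Nat.card ↥(H S ⊓ Subgroup.centralizer ({t} : Set G)) := by
  by_cases htC : t ∈ S.C
  · refine (card_Z S) ▸ Subgroup.card_dvd_of_le (Subgroup.zpowers_le.2 ⟨C_le_H S ((mem_C S).2 rfl), ?_⟩)
    exact Subgroup.mem_centralizer_singleton_iff.2 ((mem_C S).1 htC).symm
  obtain ⟨x, hx, hx1, hxt⟩ : ∃ x ∈ S.Q, x ≠ 1 ∧ t * x = x * t := by
    by_contra hno
    push Not at hno
    let f : S.Q → S.Q := fun x =>
      ⟨(x : G)⁻¹ * (t * x * t⁻¹), S.Q.mul_mem (S.Q.inv_mem x.2) (Q_conj S ht x.2)⟩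
    have hinj : Function.Injective f := by
      intro x y hxy
      have h : (x : G)⁻¹ * (t * x * t⁻¹) = (y : G)⁻¹ * (t * y * t⁻¹) := congrArg Subtype.val hxy
      have h2 : t * ((x : G) * (y : G)⁻¹) * t⁻¹ = (x : G) * (y : G)⁻¹ := by
        calc t * ((x : G) * (y : G)⁻¹) * t⁻¹ = (x : G) * ((x : G)⁻¹ * (t * x * t⁻¹)) * (t * y * t⁻¹)⁻¹ := by group
          _ = (x : G) * ((y : G)⁻¹ * (t * y * t⁻¹)) * (t * y * t⁻¹)⁻¹ := by rw [h]
          _ = (x : G) * (y : G)⁻¹ := by group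
      by_contra hne
      refine hno _ (S.Q.mul_mem x.2 (S.Q.inv_mem y.2)) (fun e => hne (Subtype.ext (mul_inv_eq_one.1 e)))
        (mul_inv_eq_iff_eq_mul.1 h2)
    have hti : t⁻¹ = t := inv_eq_of_mul_eq_one_right (by rw [← sq, ← ht2]; exact pow_orderOf_eq_one t)
    have hinvert : ∀ z ∈ S.Q, t * z * t⁻¹ = z⁻¹ := by
      intro z hz
      obtain ⟨x, hx⟩ := (Finite.injective_iff_surjective.1 hinj) ⟨z, hz⟩
      have hx' : (x : G)⁻¹ * (t * x * t⁻¹) = z := congrArg Subtype.val hx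
      rw [← hx']
      calc t * ((x : G)⁻¹ * (t * x * t⁻¹)) * t⁻¹ = (t * x * t⁻¹)⁻¹ * ((t * t) * x * (t * t)⁻¹) := by group
        _ = ((x : G)⁻¹ * (t * x * t⁻¹))⁻¹ := by
          rw [show t * t = 1 by nth_rewrite 2 [← hti]; exact mul_inv_cancel t]; group
    have hdq : B.d * B.q = B.q * B.d := by
      have h := hinvert _ (S.Q.mul_mem B.d_mem B.q_mem)
      rw [show t * (B.d * B.q) * t⁻¹ = (t * B.d * t⁻¹) * (t * B.q * t⁻¹) by group, hinvert _ B.d_mem,
        hinvert _ B.q_mem] at h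
      have h' : (B.q * B.d)⁻¹ = (B.d * B.q)⁻¹ := by rw [← h]; group
      exact (inv_injective h').symm
    have hc := B.comm
    rw [hdq, mul_inv_cancel_right, mul_inv_cancel] at hc
    exact a_ne S hc.symm
  have ho : orderOf x = 3 := by
    haveI : Fact (Nat.Prime 3) := ⟨Nat.prime_three⟩
    exact orderOf_eq_prime (Q_exp S hx) hx1
  rw [← ho]
  exact Subgroup.orderOf_dvd_natCard _
    ⟨C_le_H S (Q_le S hx), Subgroup.mem_centralizer_singleton_iff.2 hxt.symm⟩

include K B in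
/-- Conjugates in `N(⟨a⟩)` of an involution of `C` lie in `C`. -/
theorem Closed.fusion (hH : H S ≠ ⊤) {t g : G} (ht : t ∈ S.C) (ht2 : orderOf t = 2)
    (hg : g * t * g⁻¹ ∈ H S) : g * t * g⁻¹ ∈ S.C := by
  haveI : Fact (Nat.Prime 3) := ⟨Nat.prime_three⟩
  obtain ⟨h, hh, he⟩ := S2870.result (p := 3) (by norm_num) (H S) (K.stronglyEmbedded B hH)
    (fun t ht ht2 => three_dvd_cent B ht ht2) t (C_le_H S ht) ht2 g hg
  exact he ▸ conj_C S hh ht

include B in
/-- The order of `N(⟨a⟩)`. -/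
theorem card_H (hinv : S.Inverted) : Nat.card (H S) = 1296 := by
  let δ : H S →* ZMod 3 :=
    { toFun := fun k => (mat S B (k : G)).det
      map_one' := by simp [mat_one]
      map_mul' := fun k k' => by rw [Subgroup.coe_mul, mat_mul S B k.2 k'.2, Matrix.det_mul] }
  have hker : δ.toHomUnits.ker = S.C.subgroupOf (H S) := by
    ext k
    rw [MonoidHom.mem_ker, Units.ext_iff, Subgroup.mem_subgroupOf]
    show (mat S B (k : G)).det = 1 ↔ _
    refine ⟨fun h => mem_C_of_det S B k.2 ?_, det_one S B⟩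
    rw [h]; decide
  have h1 := δ.toHomUnits.ker.card_mul_index
  rw [Subgroup.index_ker, hker, Nat.card_congr (Subgroup.subgroupOfEquivOfLe (C_le_H S)).toEquiv,
    card_C] at h1
  have h4 : Nat.card (ZMod 3)ˣ = 2 := by rw [Nat.card_eq_fintype_card]; decide +kernel
  have h2 : Nat.card δ.toHomUnits.range ∣ 2 := h4 ▸ Subgroup.card_subgroup_dvd_card _
  have h3 : Nat.card δ.toHomUnits.range ≠ 1 := fun e => by
    obtain ⟨g, hg⟩ := hinv
    have hgH : g ∈ H S := mem_H_of S (by rw [hg]; exact (Z S).inv_mem (Subgroup.mem_zpowers _))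
    have hbot := Subgroup.eq_bot_of_card_eq _ e
    have : (⟨g, hgH⟩ : H S) ∈ δ.toHomUnits.ker := Subgroup.mem_bot.1 (hbot ▸ ⟨_, rfl⟩)
    rw [hker] at this
    have hgC : g ∈ S.C := this
    rw [(mem_C S).1 hgC, mul_inv_cancel_right] at hg
    exact a_ne_inv S hg
  rcases (Nat.dvd_prime Nat.prime_two).1 h2 with e | e
  · exact absurd e h3
  · rw [e] at h1; omega

/-- A Sylow `2`-subgroup of `C` with its involution, inside one of `N(⟨a⟩)`. -/
structure Two where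
  P : Subgroup G
  card_P : Nat.card P = 16
  le : P ≤ H S
  onto : ∀ u : SL23, u * u * (u * u) = 1 → ∃ y, ∃ hy : y ∈ S.C, y ∈ P ∧ ρ S B ⟨y, hy⟩ = u
  t : G
  t_mem : t ∈ P
  t_C : t ∈ S.C
  t_img : ρ S B ⟨t, t_C⟩ = sneg

theorem pow16 {B : Basis S} (T : Two B) {y : G} (hy : y ∈ T.P) : y ^ 16 = 1 :=
  PSpAmalgam31.pow_card_mem T.card_P hy

theorem two_inj {B : Basis S} (T : Two B) {y : G} (hy : y ∈ T.P) (hyC : y ∈ S.C)
    (h : ρ S B ⟨y, hyC⟩ = 1) : y = 1 :=
  eq_one_of_Q S ((ρ_one S B hyC).1 h) (n := 16) (by norm_num) (pow16 T hy)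

theorem exists_two (hinv : S.Inverted) : Nonempty (Two B) := by
  classical
  haveI : Fact (Nat.Prime 2) := ⟨Nat.prime_two⟩
  obtain ⟨R⟩ : Nonempty (Sylow 2 (H S)) := inferInstance
  set P := (R : Subgroup (H S)).map (H S).subtype with hP
  have hcard : Nat.card P = 16 := by
    rw [hP, Subgroup.card_map_of_injective (H S).subtype_injective]
    obtain ⟨k, hk⟩ := R.2.exists_card_eq
    have hi := R.not_dvd_index
    have h := (R : Subgroup (H S)).card_mul_index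
    rw [card_H B hinv, hk] at h
    have hk10 : k ≤ 10 := by
      by_contra hc
      have h11 : 2 ^ 11 ≤ 2 ^ k := Nat.pow_le_pow_right (by norm_num) (by omega)
      rcases Nat.eq_zero_or_pos (R : Subgroup (H S)).index with e | e
      · rw [e, mul_zero] at h; omega
      · nlinarith
    rw [hk]
    interval_cases k <;> simp at h ⊢ <;> omega
  have hle : P ≤ H S := Subgroup.map_subtype_le _
  set P8 := P ⊓ S.C with hP8
  let f : P8 →* SL23 := (ρ S B).comp (Subgroup.inclusion (inf_le_right : P8 ≤ S.C))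
  have h16 : ∀ y ∈ P, y ^ 16 = 1 := fun y hy => PSpAmalgam31.pow_card_mem hcard hy
  have hf : Function.Injective f := by
    rw [injective_iff_map_eq_one]
    intro y hy
    exact Subtype.ext (eq_one_of_Q S ((ρ_one S B y.2.2).1 hy) (n := 16) (by norm_num) (h16 _ y.2.1))
  have hcard8 : 8 ≤ Nat.card P8 := by
    let δ : P →* ZMod 3 :=
      { toFun := fun k => (mat S B (k : G)).det
        map_one' := by simp [mat_one]
        map_mul' := fun k k' => by
          rw [Subgroup.coe_mul, mat_mul S B (hle k.2) (hle k'.2), Matrix.det_mul] }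
    have hker : δ.toHomUnits.ker ≤ P8.subgroupOf P := by
      intro k hk
      rw [MonoidHom.mem_ker, Units.ext_iff] at hk
      have hd : (mat S B (k : G)).det = 1 := hk
      exact ⟨k.2, mem_C_of_det S B (hle k.2) (fun h => absurd (hd.symm.trans h) (by decide))⟩
    have h1 := Subgroup.card_le_of_le hker
    rw [Nat.card_congr (Subgroup.subgroupOfEquivOfLe (inf_le_left : P8 ≤ P)).toEquiv] at h1
    have h2 := δ.toHomUnits.ker.card_mul_index
    rw [Subgroup.index_ker, hcard] at h2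
    have h4 : Nat.card (ZMod 3)ˣ = 2 := by rw [Nat.card_eq_fintype_card]; decide +kernel
    have h3 : Nat.card δ.toHomUnits.range ≤ 2 := h4 ▸ Subgroup.card_le_card_group _
    nlinarith
  have h8 : ∀ y : P8, f y * f y * (f y * f y) = 1 := by
    intro y
    refine sl_four_of_eight _ (sl_four_of_eight _ ?_)
    simp only [← map_mul]
    refine (congrArg f (Subtype.ext ?_)).trans (map_one f)
    simp only [Subgroup.coe_mul, Subgroup.coe_one]
    simpa [pow_succ, mul_assoc] using h16 _ y.2.1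
  have honto : ∀ u : SL23, u * u * (u * u) = 1 → ∃ y, ∃ hy : y ∈ S.C, y ∈ P ∧ ρ S B ⟨y, hy⟩ = u := by
    intro u hu
    let g : P8 → {a : SL23 // a * a * (a * a) = 1} := fun y => ⟨f y, h8 y⟩
    have hg : Function.Injective g := fun y y' e => hf (congrArg Subtype.val e)
    have hsur := hg.bijective_of_nat_card_le (by rw [PSpAmalgam31.sl_q8_card]; exact hcard8)
    obtain ⟨y, hy⟩ := hsur.2 ⟨u, hu⟩
    exact ⟨y, y.2.2, y.2.1, congrArg Subtype.val hy⟩
  obtain ⟨t, htC, htP, htu⟩ := honto sneg qab_four.2.2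
  exact ⟨⟨P, hcard, hle, honto, t, htP, htC, htu⟩⟩

variable {B} (T : Two B)

theorem t_sq : T.t * T.t = 1 := by
  refine two_inj T (T.P.mul_mem T.t_mem T.t_mem) (S.C.mul_mem T.t_C T.t_C) ?_
  rw [show (⟨T.t * T.t, S.C.mul_mem T.t_C T.t_C⟩ : S.C) = ⟨T.t, T.t_C⟩ * ⟨T.t, T.t_C⟩ from rfl, map_mul,
    T.t_img]
  exact PSpAmalgam31.sneg_spec.1

theorem t_ne : T.t ≠ 1 := fun h => by
  have := T.t_img
  rw [show (⟨T.t, T.t_C⟩ : S.C) = 1 from Subtype.ext h, map_one] at this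
  exact PSpAmalgam31.sneg_spec.2 this.symm

theorem order_t : orderOf T.t = 2 :=
  orderOf_eq_prime (hp := ⟨Nat.prime_two⟩) (by rw [sq]; exact t_sq T) (t_ne T)

/-- The involution is the only one of `P ∩ C`. -/
theorem eq_t {y : G} (hy : y ∈ T.P) (hyC : y ∈ S.C) (h : y * y = 1) (h1 : y ≠ 1) : y = T.t := by
  have hsq : ρ S B ⟨y, hyC⟩ * ρ S B ⟨y, hyC⟩ = 1 := by
    rw [← map_mul, show (⟨y, hyC⟩ : S.C) * ⟨y, hyC⟩ = 1 from Subtype.ext h, map_one]
  rcases PSpAmalgam31.sl_invol _ hsq with e | e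
  · exact absurd (two_inj T hy hyC e) h1
  · have h2 : y * T.t⁻¹ = 1 := by
      refine two_inj T (T.P.mul_mem hy (T.P.inv_mem T.t_mem)) (S.C.mul_mem hyC (S.C.inv_mem T.t_C)) ?_
      rw [show (⟨y * T.t⁻¹, S.C.mul_mem hyC (S.C.inv_mem T.t_C)⟩ : S.C) =
        ⟨y, hyC⟩ * (⟨T.t, T.t_C⟩ : S.C)⁻¹ from rfl, map_mul, map_inv, e, T.t_img]
      exact mul_inv_cancel _
    exact mul_inv_eq_one.1 h2

theorem two_comm {y : G} (hy : y ∈ T.P) (hyC : y ∈ S.C) : y * T.t = T.t * y := by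
  refine mul_inv_eq_iff_eq_mul.1 (mul_inv_eq_one.1 (two_inj T
    (T.P.mul_mem (T.P.mul_mem (T.P.mul_mem hy T.t_mem) (T.P.inv_mem hy)) (T.P.inv_mem T.t_mem))
    (S.C.mul_mem (S.C.mul_mem (S.C.mul_mem hyC T.t_C) (S.C.inv_mem hyC)) (S.C.inv_mem T.t_C)) ?_))
  rw [show (⟨y * T.t * y⁻¹ * T.t⁻¹,
    S.C.mul_mem (S.C.mul_mem (S.C.mul_mem hyC T.t_C) (S.C.inv_mem hyC)) (S.C.inv_mem T.t_C)⟩ : S.C) =
    ⟨y, hyC⟩ * ⟨T.t, T.t_C⟩ * (⟨y, hyC⟩ : S.C)⁻¹ * (⟨T.t, T.t_C⟩ : S.C)⁻¹ from rfl]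
  simp only [map_mul, map_inv, T.t_img]
  rw [show sneg = PSpAmalgam31.sneg from rfl, ← PSpAmalgam31.sneg_central, mul_inv_cancel_right, mul_inv_cancel]

theorem cent_t_Q {q : G} (hq : q ∈ S.Q) (h : q * T.t = T.t * q) : q ∈ Z S := by
  rw [← eq_zero_iff S B hq]
  refine fix_neg _ ?_
  rw [← T.t_img, ρ_coe, ← φ_conj S B (C_le_H S T.t_C) hq]
  show φ S B (T.t * q * T.t⁻¹) = _
  rw [← h, mul_inv_cancel_right]

/-- The quaternion group is the set of elements of exponent four of `C ∩ C(t)`. -/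
theorem mem_two {c : G} (hc : c ∈ S.C) (h4 : c ^ 4 = 1) (hct : c * T.t = T.t * c) : c ∈ T.P := by
  set u := ρ S B ⟨c, hc⟩ with hu
  have hu4 : u * u * (u * u) = 1 := by
    rw [hu, ← map_mul, ← map_mul, show (⟨c, hc⟩ * ⟨c, hc⟩ * (⟨c, hc⟩ * ⟨c, hc⟩) : S.C) = 1 from
      Subtype.ext (by simpa [pow_succ, mul_assoc] using h4), map_one]
  obtain ⟨y, hyC, hyP, hy⟩ := T.onto u hu4
  have hq : c * y⁻¹ ∈ S.Q := (ρ_one S B (S.C.mul_mem hc (S.C.inv_mem hyC))).1 (by
    rw [show (⟨c * y⁻¹, S.C.mul_mem hc (S.C.inv_mem hyC)⟩ : S.C) = ⟨c, hc⟩ * (⟨y, hyC⟩ : S.C)⁻¹ from rfl,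
      map_mul, map_inv, hy, hu, mul_inv_cancel])
  have hqt : c * y⁻¹ * T.t = T.t * (c * y⁻¹) :=
    ((show Commute c T.t from hct).mul_left (show Commute y T.t from two_comm T hyP hyC).inv_left).eq
  have hz := cent_t_Q T hq hqt
  have hzy : Commute (c * y⁻¹) y := (Z_comm S hz hyC).symm
  have h16 : (c * y⁻¹) ^ 16 = 1 := by
    have e := hzy.mul_pow 16
    rw [inv_mul_cancel_right, pow16 T hyP, mul_one] at e
    rw [← e, show (16 : ℕ) = 4 * 4 from rfl, pow_mul, h4, one_pow]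
  have := eq_one_of_Q S hq (n := 16) (by norm_num) h16
  exact mul_inv_eq_one.1 this ▸ hyP

/-- The centraliser of the quaternion group. -/
abbrev Y : Subgroup G := Subgroup.centralizer ((T.P ⊓ S.C : Subgroup G) : Set G)

theorem a_mem_Y : S.a ∈ Y T := Subgroup.mem_centralizer_iff.2 fun _ hy => (mem_C S).1 hy.2

theorem Y_inter_H {h : G} (hY : h ∈ Y T) (hH : h ∈ H S) :
    h ∈ S.C ∧ (h ∈ Z S ∨ h * T.t ∈ Z S) := by
  have hcomm : ∀ y ∈ T.P, ∀ hy : y ∈ S.C, mat S B h * mat S B y = mat S B y * mat S B h := by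
    intro y hyP hyC
    rw [← mat_mul S B hH (C_le_H S hyC), ← mat_mul S B (C_le_H S hyC) hH,
      Subgroup.mem_centralizer_iff.1 hY y ⟨hyP, hyC⟩]
  obtain ⟨ya, hyaC, hyaP, hya⟩ := T.onto qa qab_four.1
  obtain ⟨yb, hybC, hybP, hyb⟩ := T.onto qb qab_four.2.1
  have hma : mat S B ya = (qa : M2) := by rw [← hya]; rfl
  have hmb : mat S B yb = (qb : M2) := by rw [← hyb]; rfl
  have ha' := hcomm ya hyaP hyaC
  have hb' := hcomm yb hybP hybC
  rw [hma] at ha'
  rw [hmb] at hb'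
  have hC : h ∈ S.C := mem_C_of_det S B hH (det_commutant _ ha' hb')
  refine ⟨hC, ?_⟩
  have hρ : ∀ y ∈ T.P, ∀ hy : y ∈ S.C,
      ρ S B ⟨h, hC⟩ * ρ S B ⟨y, hy⟩ = ρ S B ⟨y, hy⟩ * ρ S B ⟨h, hC⟩ := fun y hyP hy =>
    Subtype.ext (hcomm y hyP hy)
  have ht : h * T.t = T.t * h := (Subgroup.mem_centralizer_iff.1 hY T.t ⟨T.t_mem, T.t_C⟩).symm
  rcases sl_qab_comm _ (hya ▸ hρ ya hyaP hyaC) (hyb ▸ hρ yb hybP hybC) with e | e
  · exact Or.inl (cent_t_Q T ((ρ_one S B hC).1 e) ht)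
  · refine Or.inr (cent_t_Q T ((ρ_one S B (S.C.mul_mem hC T.t_C)).1 ?_) ?_)
    · rw [show (⟨h * T.t, S.C.mul_mem hC T.t_C⟩ : S.C) = ⟨h, hC⟩ * ⟨T.t, T.t_C⟩ from rfl, map_mul, e,
        T.t_img]
      exact PSpAmalgam31.sneg_spec.1
    · rw [mul_assoc, t_sq T, mul_one, ht, ← mul_assoc, t_sq T, one_mul]

theorem Y_three {h : G} (hY : h ∈ Y T) (hH : h ∈ H S) {k : ℕ} (h3 : h ^ 3 ^ k = 1) : h ∈ Z S := by
  obtain ⟨hC, hz | hz⟩ := Y_inter_H T hY hH
  · exact hz
  exfalso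
  have hcm : Commute h T.t := (Subgroup.mem_centralizer_iff.1 hY T.t ⟨T.t_mem, T.t_C⟩).symm
  have h1 := hcm.mul_pow (3 ^ k * 3)
  have hzero : (h * T.t) ^ (3 ^ k * 3) = 1 := by
    rw [mul_comm, pow_mul, Q_exp S (Z_le_Q S hz), one_pow]
  rw [hzero, pow_mul h, h3, one_pow, one_mul] at h1
  refine t_ne T ?_
  have hd : orderOf T.t ∣ 3 ^ k * 3 := orderOf_dvd_of_pow_eq_one h1.symm
  rw [order_t T, ← pow_succ] at hd
  exact absurd (Nat.prime_two.dvd_of_dvd_pow hd) (by norm_num)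

include K in
/-- The centraliser of the quaternion group lies in `N(⟨a⟩)`. -/
theorem Closed.Y_le : Y T ≤ H S := by
  classical
  haveI : Fact (Nat.Prime 3) := ⟨Nat.prime_three⟩
  set Z' : Subgroup (Y T) := (Z S).subgroupOf (Y T) with hZ'
  have hZY : Z S ≤ Y T := Subgroup.zpowers_le.2 (a_mem_Y T)
  have hnH : ∀ g : Y T, g ∈ Subgroup.normalizer (Z' : Set (Y T)) → (g : G) ∈ H S := by
    intro g hg
    rw [hZ', ← Subgroup.subgroupOf_normalizer_eq hZY] at hg
    exact hg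
  obtain ⟨R, hR⟩ := sylow_of_normalizer (p := 3) Z' (IsPGroup.of_card (n := 1)
      (by rw [Nat.card_congr (Subgroup.subgroupOfEquivOfLe hZY).toEquiv, card_Z, pow_one]))
    (fun g hg ⟨k, hk⟩ => Y_three T g.2 (hnH g hg) (k := k) (congrArg Subtype.val hk))
  have hN : Subgroup.normalizer ((R : Subgroup (Y T)) : Set (Y T)) ≤
      Subgroup.centralizer ((R : Subgroup (Y T)) : Set (Y T)) := by
    intro g hg
    rw [hR] at hg ⊢
    have hgC := (Y_inter_H T g.2 (hnH g hg)).1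
    exact Subgroup.mem_centralizer_iff.2 fun z hz => Subtype.ext (Z_comm S hz hgC).symm
  set K0 := (MonoidHom.transferSylow R hN).ker with hK0
  have hco := MonoidHom.ker_transferSylow_isComplement' R hN
  have hK3 : ¬ 3 ∣ Nat.card K0 := MonoidHom.not_dvd_card_ker_transferSylow R hN
  set KG := K0.map (Y T).subtype with hKG
  have hmemK : ∀ y : Y T, ¬ 3 ∣ orderOf y → y ∈ K0 := by
    intro y hy
    rw [hK0, MonoidHom.mem_ker]
    obtain ⟨k, hk⟩ := R.2 (MonoidHom.transferSylow R hN y)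
    have h1 : orderOf (MonoidHom.transferSylow R hN y) ∣ orderOf y := orderOf_map_dvd _ y
    have h2 := Nat.dvd_gcd h1 (orderOf_dvd_of_pow_eq_one hk)
    have hc : Nat.gcd (orderOf y) (3 ^ k) = 1 :=
      Nat.Coprime.pow_right _ ((Nat.Prime.coprime_iff_not_dvd Nat.prime_three).2 hy).symm
    rw [hc, Nat.dvd_one] at h2
    exact orderOf_eq_one_iff.1 h2
  obtain ⟨j, hj, hjQ⟩ := exists_not_Q S B K.hcJ
  have htN : T.t ∈ Subgroup.normalizer (S.J : Set G) :=
    norm_J S B K.hcJ T.t_C (invol_upper S B T.t_img)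
  have hj2 : T.t * j * T.t⁻¹ ∈ S.J := (Subgroup.mem_normalizer_iff.1 htN j).1 hj
  obtain ⟨x0, hx0⟩ : ∃ x0, x0 = j * (T.t * j * T.t⁻¹) := ⟨_, rfl⟩
  have hx0J : x0 ∈ S.J := hx0 ▸ S.J.mul_mem hj hj2
  have hx0t : x0 * T.t = T.t * x0 := by
    have hti : T.t⁻¹ = T.t := inv_eq_of_mul_eq_one_right (t_sq T)
    have e : T.t * x0 * T.t⁻¹ = x0 := by
      have e2 : T.t * (T.t * j * T.t⁻¹) * T.t⁻¹ = j := by
        calc T.t * (T.t * j * T.t⁻¹) * T.t⁻¹ = (T.t * T.t) * j * (T.t * T.t)⁻¹ := by group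
          _ = j := by rw [t_sq T]; group
      calc T.t * x0 * T.t⁻¹ = (T.t * j * T.t⁻¹) * (T.t * (T.t * j * T.t⁻¹) * T.t⁻¹) := by rw [hx0]; group
        _ = (T.t * j * T.t⁻¹) * j := by rw [e2]
        _ = x0 := by rw [hx0, J_comm S hj2 hj]
    exact (mul_inv_eq_iff_eq_mul.1 e).symm
  have hx0Z : x0 ∉ Z S := by
    intro h
    apply hjQ
    refine (ρ_one S B (JC S hj)).1 ?_
    have h1 := (ρ_one S B (JC S hx0J)).2 (Z_le_Q S h)
    rw [show (⟨x0, JC S hx0J⟩ : S.C) = ⟨j, JC S hj⟩ * (⟨T.t, T.t_C⟩ * ⟨j, JC S hj⟩ * (⟨T.t, T.t_C⟩ : S.C)⁻¹) from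
        Subtype.ext (by simp [hx0]), map_mul, map_mul, map_mul, map_inv, T.t_img,
      show sneg = PSpAmalgam31.sneg from rfl, PSpAmalgam31.sneg_central, mul_inv_cancel_right] at h1
    have h3 : ρ S B ⟨j, JC S hj⟩ ^ 3 = 1 := by
      rw [← map_pow, show (⟨j, JC S hj⟩ : S.C) ^ 3 = 1 from Subtype.ext (S.hJexp j hj), map_one]
    exact eq_one_of_pow_three (n := 2) h3 (by rw [sq]; exact h1) (by norm_num)
  set A := S.J ⊓ Subgroup.centralizer ({T.t} : Set G) with hA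
  haveI : IsMulCommutative A := ⟨⟨fun p q => Subtype.ext (J_comm S p.2.1 q.2.1)⟩⟩
  have haA : S.a ∈ A := ⟨a_mem_J S K.hcJ,
    Subgroup.mem_centralizer_singleton_iff.2 ((mem_C S).1 T.t_C).symm⟩
  have hxA : x0 ∈ A := ⟨hx0J, Subgroup.mem_centralizer_singleton_iff.2 hx0t⟩
  have hAcyc : ¬ IsCyclic A := by
    intro hcy
    have hex : Monoid.exponent A ∣ 3 :=
      Monoid.exponent_dvd_of_forall_pow_eq_one fun p => Subtype.ext (S.hJexp _ p.2.1)
    rw [hcy.exponent_eq_card] at hex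
    have he : Z S = A := Subgroup.eq_of_le_of_card_ge (Subgroup.zpowers_le.2 haA) (by
      rw [card_Z]; exact Nat.le_of_dvd (by norm_num) hex)
    exact hx0Z (he ▸ hxA)
  have hAY : ∀ g ∈ A, ∀ y ∈ Y T, g * y * g⁻¹ ∈ Y T := by
    intro g hg y hy
    rw [Subgroup.mem_centralizer_iff]
    rintro p ⟨hpP, hpC⟩
    have hgC : g ∈ S.C := JC S hg.1
    have hgt : Commute g T.t := Subgroup.mem_centralizer_singleton_iff.1 hg.2
    have hp' : g⁻¹ * p * g ∈ T.P := by
      refine mem_two T (S.C.mul_mem (S.C.mul_mem (S.C.inv_mem hgC) hpC) hgC) ?_ ?_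
      · have hp4 : p ^ 4 = 1 := by
          have h8 : ∀ z : SL23, z ^ 16 = 1 → z ^ 4 = 1 := by decide +kernel
          have := h8 (ρ S B ⟨p, hpC⟩) (by
            rw [← map_pow, show (⟨p, hpC⟩ : S.C) ^ 16 = 1 from Subtype.ext (pow16 T hpP), map_one])
          rw [← map_pow] at this
          exact two_inj T (T.P.pow_mem hpP 4) (S.C.pow_mem hpC 4) this
        have hcp : (g⁻¹ * p * g) ^ 4 = g⁻¹ * p ^ 4 * g := by
          simp only [pow_succ, pow_zero, one_mul]; group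
        rw [hcp, hp4]; group
      · exact ((hgt.inv_left.mul_left (show Commute p T.t from two_comm T hpP hpC)).mul_left hgt).eq
    have hc : g⁻¹ * p * g * y = y * (g⁻¹ * p * g) := Subgroup.mem_centralizer_iff.1 hy _
      ⟨hp', S.C.mul_mem (S.C.mul_mem (S.C.inv_mem hgC) hpC) hgC⟩
    calc p * (g * y * g⁻¹) = g * (g⁻¹ * p * g * y) * g⁻¹ := by group
      _ = g * (y * (g⁻¹ * p * g)) * g⁻¹ := by rw [hc]
      _ = g * y * g⁻¹ * p := by group
  have hAK : A ≤ Subgroup.normalizer (KG : Set G) := fun g hg => mem_normalizer_of_maps fun y hy => by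
    obtain ⟨⟨y, hyY⟩, hyK, rfl⟩ := hy
    refine ⟨⟨g * y * g⁻¹, hAY g hg y hyY⟩, hmemK _ ?_, rfl⟩
    rw [← Subgroup.orderOf_coe]
    show ¬ 3 ∣ orderOf (MulAut.conj g y)
    rw [MulEquiv.orderOf_eq]
    intro hd
    refine hK3 (hd.trans ?_)
    have := Subgroup.orderOf_dvd_natCard K0 hyK
    rwa [← Subgroup.orderOf_coe] at this
  have hKH : KG ≤ H S := by
    refine CoprimeGen.le_of_centralizers hAcyc hAK ?_
      fun g hg hg1 => inf_le_right.trans (K.cent_J hg.1 hg1)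
    rw [hKG, Subgroup.card_map_of_injective (Y T).subtype_injective]
    refine (Nat.Coprime.coprime_dvd_left
      (show Nat.card A ∣ 3 ^ 3 from ?_) (Nat.Coprime.pow_left 3 ((Nat.Prime.coprime_iff_not_dvd
        Nat.prime_three).2 hK3)))
    have := Subgroup.card_dvd_of_le (inf_le_left : A ≤ S.J)
    rw [S.hJcard] at this
    exact this
  intro y hy
  obtain ⟨⟨k, r⟩, he⟩ := hco.2 ⟨y, hy⟩
  have he' : ((k : Y T) : G) * ((r : Y T) : G) = y := congrArg Subtype.val he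
  rw [← he']
  exact (H S).mul_mem (hKH ⟨_, k.2, rfl⟩) (C_le_H S (Z_le_C S (hR.le r.2)))

include K in
/-- The normaliser of the quaternion group lies in `N(⟨a⟩)`. -/
theorem Closed.norm_two_le :
    Subgroup.normalizer ((T.P ⊓ S.C : Subgroup G) : Set G) ≤ H S := by
  intro g hg
  have hga : g * S.a * g⁻¹ ∈ Y T := by
    rw [Subgroup.mem_centralizer_iff]
    intro p hp
    have hp' : g⁻¹ * p * g ∈ T.P ⊓ S.C := by
      simpa using (Subgroup.mem_normalizer_iff.1 ((Subgroup.normalizer _).inv_mem hg) p).1 hp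
    have h1 := Subgroup.mem_centralizer_iff.1 (a_mem_Y T) _ hp'
    calc p * (g * S.a * g⁻¹) = g * (g⁻¹ * p * g * S.a) * g⁻¹ := by group
      _ = g * (S.a * (g⁻¹ * p * g)) * g⁻¹ := by rw [h1]
      _ = g * S.a * g⁻¹ * p := by group
  exact mem_H_of S (Y_three T hga (K.Y_le T hga) (k := 1)
    (by rw [pow_one, conj_pow, a_pow, mul_one, mul_inv_cancel]))

include K in
/-- The Sylow `2`-subgroup of `N(⟨a⟩)` is one of `G`, with an isolated involution. -/
theorem Closed.exists_isolated (hH : H S ≠ ⊤) :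
    ∃ P : Sylow 2 G, T.t ∈ P ∧ ∀ g : G, g * T.t * g⁻¹ ∈ P → g * T.t * g⁻¹ = T.t := by
  haveI : Fact (Nat.Prime 2) := ⟨Nat.prime_two⟩
  have hiso : ∀ g : G, g * T.t * g⁻¹ ∈ T.P → g * T.t * g⁻¹ = T.t := by
    intro g hg
    refine eq_t T hg (K.fusion B hH T.t_C (order_t T) (T.le hg)) ?_ fun e => t_ne T (conj_eq_one_iff.1 e)
    calc g * T.t * g⁻¹ * (g * T.t * g⁻¹) = g * (T.t * T.t) * g⁻¹ := by group
      _ = 1 := by rw [t_sq T]; group
  obtain ⟨P, hP⟩ := sylow_of_normalizer (p := 2) T.P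
    (IsPGroup.of_card (n := 4) (by rw [T.card_P]; norm_num)) (fun g hg ⟨k, hk⟩ => by
      have hgt : g * T.t * g⁻¹ = T.t := hiso g ((Subgroup.mem_normalizer_iff.1 hg _).1 T.t_mem)
      have hgN : g ∈ Subgroup.normalizer ((T.P ⊓ S.C : Subgroup G) : Set G) := by
        refine mem_normalizer_of_maps fun y hy => ⟨(Subgroup.mem_normalizer_iff.1 hg y).1 hy.1, ?_⟩
        have hwP := (Subgroup.mem_normalizer_iff.1 hg y).1 hy.1
        set w := g * y * g⁻¹ with hw
        have hww : w * w = g * (y * y) * g⁻¹ := by rw [hw]; group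
        have hyy : y * y = 1 ∨ y * y = T.t := by
          by_cases h1 : y * y = 1
          · exact Or.inl h1
          refine Or.inr (eq_t T (T.P.mul_mem hy.1 hy.1) (S.C.mul_mem hy.2 hy.2) ?_ h1)
          have h8 : ∀ z : SL23, z ^ 16 = 1 → z * z * (z * z) = 1 := by decide +kernel
          have := h8 (ρ S B ⟨y, hy.2⟩) (by
            rw [← map_pow, show (⟨y, hy.2⟩ : S.C) ^ 16 = 1 from Subtype.ext (pow16 T hy.1), map_one])
          rw [← map_mul, ← map_mul] at this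
          exact two_inj T (T.P.mul_mem (T.P.mul_mem hy.1 hy.1) (T.P.mul_mem hy.1 hy.1))
            (S.C.mul_mem (S.C.mul_mem hy.2 hy.2) (S.C.mul_mem hy.2 hy.2)) this
        rcases hyy with e | e
        · by_cases hy1 : y = 1
          · rw [hw, hy1, mul_one, mul_inv_cancel]; exact S.C.one_mem
          · rw [hw, eq_t T hy.1 hy.2 e hy1, hgt]; exact T.t_C
        · refine mem_C_of_det S B (T.le hwP) (det_sq_neg _ ?_)
          rw [← mat_mul S B (T.le hwP) (T.le hwP), hww, e, hgt, ← T.t_img]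
          rfl
      have hgH := K.norm_two_le T hgN
      have hsup : IsPGroup 2 (T.P ⊔ Subgroup.zpowers g : Subgroup G) := by
        rw [sup_comm]
        refine IsPGroup.to_sup_of_normal_right' ?_ (IsPGroup.of_card (n := 4) (by rw [T.card_P]; norm_num))
          (Subgroup.zpowers_le.2 hg)
        intro z
        obtain ⟨_, i, rfl⟩ := z
        refine ⟨k, Subtype.ext ?_⟩
        show (g ^ i) ^ 2 ^ k = 1
        rw [← zpow_natCast, zpow_comm, zpow_natCast, hk, one_zpow]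
      obtain ⟨n, hn⟩ := hsup.exists_card_eq
      have hd := Subgroup.card_dvd_of_le (sup_le T.le (Subgroup.zpowers_le.2 hgH))
      rw [hn, card_H B K.hinv] at hd
      have hn4 : n ≤ 4 := by
        by_contra hc
        have := (pow_dvd_pow 2 (show 5 ≤ n by omega)).trans hd
        norm_num at this
      have he : T.P = T.P ⊔ Subgroup.zpowers g := Subgroup.eq_of_le_of_card_ge le_sup_left (by
        rw [hn, T.card_P]; exact Nat.pow_le_pow_right (by norm_num) hn4)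
      rw [he]
      exact Subgroup.mem_sup_right (Subgroup.mem_zpowers g))
  refine ⟨P, ?_, fun g hg => hiso g ?_⟩
  · show T.t ∈ (P : Subgroup G)
    rw [hP]; exact T.t_mem
  · rw [← hP]; exact hg

end Cfsg.Agent.Sp62Three31.Loc25
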