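import Cfsg.Agent.Lib.Sp62Three31HalfCoord

/-!
S3342 (helper25): fusion of the distinguished element inside `S₀` and the normaliser of `J` in `C`.
-/

set_option autoImplicit false

namespace Cfsg.Agent.Sp62Three31.Loc25

open PSpAmalgam31 (mem_normalizer_of_maps eq_one_of_pow_three)
open Matrix

universe u

variable {G : Type u} [Group G] [Finite G] (S : Setup G) (B : Basis S)

theorem S0_le_C : S0 S B ≤ S.C := fun _ hx => hx.1

theorem d_not_Z : B.d ∉ Z S := fun h => by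
  have := φ_Z S B h
  rw [φ_d] at this
  exact absurd (congrFun this 0) (by simp)

/-- An element of `C` with upper triangular matrix normalises `S₀`. -/
theorem S0_conj {c x : G} (hc : c ∈ S.C) (h : mat S B c 1 0 = 0) (hx : x ∈ S0 S B) :
    c * x * c⁻¹ ∈ S0 S B := by
  obtain ⟨hxC, h1, h2⟩ := hx
  have := upper_mul (ρ S B ⟨c, hc⟩) (ρ S B ⟨x, hxC⟩) h h1 h2
  rw [← map_inv, ← map_mul, ← map_mul] at this
  exact ⟨S.C.mul_mem (S.C.mul_mem hc hxC) (S.C.inv_mem hc), this⟩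

/-- An element of `C` with upper triangular matrix normalises `J`. -/
theorem norm_J (hcJ : Subgroup.centralizer (S.J : Set G) = S.J) {c : G} (hc : c ∈ S.C)
    (h : mat S B c 1 0 = 0) : c ∈ Subgroup.normalizer (S.J : Set G) := by
  refine mem_normalizer_of_maps fun x hx => ?_
  have hxS := S0_conj S B hc h (J_le_S0 S B hcJ hx)
  have hx3 : (c * x * c⁻¹) ^ 3 = 1 := by rw [conj_pow, S.hJexp x hx, mul_one, mul_inv_cancel]
  by_cases hxQ : x ∈ S.Q
  · have hQ := Q_conj S (C_le_H S hc) hxQ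
    rw [mem_D_iff S B hcJ hQ, φ_conj S B (C_le_H S hc) hxQ]
    exact upper_vec (ρ S B ⟨c, hc⟩) _ h ((mem_D_iff S B hcJ hxQ).1 hx)
  · refine (three_mem S B hcJ hxS hx3).resolve_right fun hQ => hxQ ?_
    simpa [mul_assoc] using Q_conj S (C_le_H S (S.C.inv_mem hc)) hQ

theorem upper_of_norm (hcJ : Subgroup.centralizer (S.J : Set G) = S.J) {c : G} (hc : c ∈ S.C)
    (h : c ∈ Subgroup.normalizer (S.J : Set G)) : mat S B c 1 0 = 0 := by
  have hJ : c * B.d * c⁻¹ ∈ S.J := (Subgroup.mem_normalizer_iff.1 h _).1 B.d_memJ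
  exact (mem_D_iff S B hcJ (Q_conj S (C_le_H S hc) B.d_mem)).1 hJ

theorem S0_le_NJ (hcJ : Subgroup.centralizer (S.J : Set G) = S.J) :
    S0 S B ≤ Subgroup.normalizer (S.J : Set G) := fun _ hx => norm_J S B hcJ hx.1 hx.2.2

/-- The centraliser in `S₀` of an element of `J \ ⟨a⟩` is `J`. -/
theorem cent_S0 (hcJ : Subgroup.centralizer (S.J : Set G) = S.J) {x y : G} (hx : x ∈ S.J) (hxZ : x ∉ Z S)
    (hy : y ∈ S0 S B) (hc : y * x = x * y) : y ∈ S.J := by
  obtain ⟨q, hq, j, hj, rfl⟩ := S0_decomp S B hcJ hy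
  refine S.J.mul_mem ?_ hj
  rw [mul_assoc, J_comm S hj hx, ← mul_assoc, ← mul_assoc] at hc
  have hqx : q * x = x * q := mul_right_cancel hc
  rw [mem_D_iff S B hcJ hq]
  by_cases hxQ : x ∈ S.Q
  · have h1 : pair S q x = 0 := by rw [pair, hqx, mul_inv_cancel_right, mul_inv_cancel, lg_one]
    rw [pair_eq S B hq hxQ, (mem_D_iff S B hcJ hxQ).1 hx, mul_zero, zero_sub, neg_eq_zero, mul_eq_zero] at h1
    refine h1.resolve_right fun h0 => hxZ ((eq_zero_iff S B hxQ).1 ?_)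
    funext i; fin_cases i
    · exact h0
    · exact (mem_D_iff S B hcJ hxQ).1 hx
  · have hu := J_unip S B hcJ hx
    refine unipotent_move (ρ S B ⟨x, JC S hx⟩) _ hu.1 hu.2 (fun e => hxQ ((ρ_one S B _).1 e)) ?_
    rw [ρ_coe, ← φ_conj S B (C_le_H S (JC S hx)) hq, ← hqx, mul_inv_cancel_right]

/-- The centre of `S₀` is `⟨a⟩`. -/
theorem centre_S0 (hcJ : Subgroup.centralizer (S.J : Set G) = S.J) {x : G}
    (h : ∀ y ∈ S0 S B, y * x = x * y) : x ∈ Z S := by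
  have hxJ : x ∈ S.J := by
    rw [← hcJ]
    exact Subgroup.mem_centralizer_iff.2 fun j hj => h j (J_le_S0 S B hcJ hj)
  by_contra hxZ
  have := cent_S0 S B hcJ hxJ hxZ (Q_le_S0 S B B.q_mem) (h _ (Q_le_S0 S B B.q_mem))
  have h1 := (mem_D_iff S B hcJ B.q_mem).1 this
  rw [φ_q] at h1
  exact absurd h1 (by simp)

theorem exists_sylow (hcJ : Subgroup.centralizer (S.J : Set G) = S.J) (hsyl : ¬ 3 ^ 5 ∣ Nat.card G) :
    ∃ P : Sylow 3 G, (P : Subgroup G) = S0 S B := by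
  haveI : Fact (Nat.Prime 3) := ⟨Nat.prime_three⟩
  refine ⟨IsPGroup.toSylow (P := S0 S B) (IsPGroup.of_card (n := 4) (by rw [card_S0 S B hcJ]; norm_num)) ?_, rfl⟩
  intro hd
  refine hsyl ?_
  rw [← (S0 S B).card_mul_index, card_S0 S B hcJ, show 3 ^ 5 = 81 * 3 by norm_num]
  exact Nat.mul_dvd_mul_left _ hd

/-- Conjugates of `a` in `S₀` lie in `⟨a⟩` when its line is fixed by `N(J)`. -/
theorem closed_S0 (hcJ : Subgroup.centralizer (S.J : Set G) = S.J)
    (hfus : ∀ g : G, g * S.a * g⁻¹ ∈ S.J →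
      ∃ n ∈ Subgroup.normalizer (S.J : Set G), n * S.a * n⁻¹ = g * S.a * g⁻¹)
    (hW : S.WeaklyClosed) {g : G} (hg : g * S.a * g⁻¹ ∈ S0 S B) : g ∈ H S := by
  have inJ : ∀ g : G, g * S.a * g⁻¹ ∈ S.J → g ∈ H S := by
    intro g hg
    obtain ⟨n, hn, he⟩ := hfus g hg
    refine mem_H_of S ?_
    rw [← he]
    exact (Subgroup.mem_normalizer_iff.1 (hW hn) _).1 (Subgroup.mem_zpowers _)
  have h3 : (g * S.a * g⁻¹) ^ 3 = 1 := by rw [conj_pow, a_pow, mul_one, mul_inv_cancel]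
  rcases three_mem S B hcJ hg h3 with h | h
  · exact inJ g h
  · refine mem_H_of S ?_
    by_contra hZ
    obtain ⟨c, hc, he⟩ := trans_Q S B h hZ
    have hd : c⁻¹ * g * S.a * (c⁻¹ * g)⁻¹ = B.d := by
      calc c⁻¹ * g * S.a * (c⁻¹ * g)⁻¹ = c⁻¹ * (g * S.a * g⁻¹) * c := by group
        _ = B.d := by rw [← he]; group
    have hH := inJ (c⁻¹ * g) (hd ▸ B.d_memJ)
    exact d_not_Z S B (hd ▸ (Subgroup.mem_normalizer_iff.1 hH _).1 (Subgroup.mem_zpowers _))

/-- The normaliser of `S₀` fixes the line of `a`. -/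
theorem norm_S0 (hcJ : Subgroup.centralizer (S.J : Set G) = S.J) :
    Subgroup.normalizer ((S0 S B : Subgroup G) : Set G) ≤ H S := by
  intro g hg
  refine mem_H_of S (centre_S0 S B hcJ fun y hy => ?_)
  have hy' : g⁻¹ * y * g ∈ S0 S B := by
    simpa using (Subgroup.mem_normalizer_iff.1 ((Subgroup.normalizer _).inv_mem hg) y).1 hy
  calc y * (g * S.a * g⁻¹) = g * ((g⁻¹ * y * g) * S.a) * g⁻¹ := by group
    _ = g * (S.a * (g⁻¹ * y * g)) * g⁻¹ := by rw [(mem_C S).1 hy'.1]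
    _ = g * S.a * g⁻¹ * y := by group

theorem H_eq_C (hni : ¬ S.Inverted) : H S = S.C :=
  le_antisymm (fun h hh => (mem_C S).2 (mul_inv_eq_iff_eq_mul.1
    ((H_cases S hh).resolve_right fun e => hni ⟨h, e⟩))) (C_le_H S)

end Cfsg.Agent.Sp62Three31.Loc25
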