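import Cfsg.Agent.Lib.Sp62Three31HalfLocal
import Cfsg.Agent.Lib.PGroupsBasic
import Cfsg.Agent.S0077

/-!
S3342 (helper25, piece P2): the element not conjugate to its inverse.
-/

set_option autoImplicit false

namespace Cfsg.Agent.Sp62Three31

open PSpAmalgam31 (mem_normalizer_of_maps eq_one_of_pow_three)

universe u v

namespace Loc25

variable {G : Type u} [Group G] [Finite G]

theorem sl_comm_four : ∀ a b : SL23,
    a * b * a⁻¹ * b⁻¹ * (a * b * a⁻¹ * b⁻¹) * (a * b * a⁻¹ * b⁻¹ * (a * b * a⁻¹ * b⁻¹)) = 1 := by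
  decide +kernel

/-- The quaternion subgroup of `SL(2,3)`. -/
def K8 : Subgroup SL23 where
  carrier := {a | a * a * (a * a) = 1}
  one_mem' := by simp
  mul_mem' := fun ha hb => PSpAmalgam31.sl_q8_mul _ _ ha hb
  inv_mem' := fun {a} ha => by
    show a⁻¹ * a⁻¹ * (a⁻¹ * a⁻¹) = 1
    rw [show a⁻¹ * a⁻¹ * (a⁻¹ * a⁻¹) = (a * a * (a * a))⁻¹ by group, ha, inv_one]

/-- A non-derived element of order three gives a normal subgroup of index three. -/
theorem exists_index_three {x : G} (hx3 : x ^ 3 = 1) (hx : x ∉ commutator G) :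
    ∃ N : Subgroup G, N.Normal ∧ N.index = 3 := by
  haveI : Fact (Nat.Prime 3) := ⟨Nat.prime_three⟩
  obtain ⟨k, m, hm, hn⟩ := Nat.exists_eq_pow_mul_and_not_dvd (Nat.card_pos (α := Abelianization G)).ne' 3
    (by norm_num)
  let f : Abelianization G →* Abelianization G := powMonoidHom m
  have hp : IsPGroup 3 f.range := fun y => by
    obtain ⟨_, z, rfl⟩ := y
    refine ⟨k, Subtype.ext ?_⟩
    show (z ^ m) ^ (3 ^ k) = 1
    rw [← pow_mul, mul_comm, ← hn]
    exact pow_card_eq_one'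
  have hxm : (Abelianization.of x) ^ m ≠ 1 := fun e => hx (by
    have h3 : (Abelianization.of x) ^ 3 = 1 := by rw [← map_pow, hx3, map_one]
    have := eq_one_of_pow_three h3 e hm
    exact (QuotientGroup.eq_one_iff x).1 this)
  have hne : (⊥ : Subgroup f.range) ≠ ⊤ := fun e => hxm (by
    have : (⟨f (Abelianization.of x), ⟨_, rfl⟩⟩ : f.range) ∈ (⊥ : Subgroup f.range) := e ▸ trivial
    exact congrArg Subtype.val (Subgroup.mem_bot.1 this))
  obtain ⟨M, hMn, hMi, -⟩ := PGroupsBasic.exists_normal_index_eq hp hne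
  let g : G →* f.range := f.rangeRestrict.comp Abelianization.of
  have hg : Function.Surjective g :=
    f.rangeRestrict_surjective.comp (QuotientGroup.mk_surjective)
  haveI := hMn
  exact ⟨M.comap g, inferInstance, by rw [Subgroup.index_comap_of_surjective _ hg, hMi]⟩

/-- Gruen: weakly closed centre, so the transfer is onto a group of order three. -/
theorem closed_index_three (S : Setup G) (B : Basis S)
    (hcJ : Subgroup.centralizer (S.J : Set G) = S.J) (hsyl : ¬ 3 ^ 5 ∣ Nat.card G)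
    (hfus : ∀ g : G, g * S.a * g⁻¹ ∈ S.J →
      ∃ n ∈ Subgroup.normalizer (S.J : Set G), n * S.a * n⁻¹ = g * S.a * g⁻¹)
    (hni : ¬ S.Inverted) (hW : S.WeaklyClosed) : ∃ N : Subgroup G, N.Normal ∧ N.index = 3 := by
  haveI : Fact (Nat.Prime 3) := ⟨Nat.prime_three⟩
  obtain ⟨P, hP⟩ := exists_sylow S B hcJ hsyl
  have hZc : Z S ≤ Subgroup.centralizer ((P : Subgroup G) : Set G) := fun z hz =>
    Subgroup.mem_centralizer_iff.2 fun s hs => Z_comm S hz ((hP ▸ hs : s ∈ S0 S B).1)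
  have hW' : Cfsg.IsWeaklyClosed (Z S) P := by
    refine ⟨hP ▸ (Z_le_Q S).trans (Q_le_S0 S B), fun g hg => ?_⟩
    have hgH : g ∈ H S := closed_S0 S B hcJ hfus hW
      (hP ▸ hg ⟨S.a, Subgroup.mem_zpowers _, rfl⟩)
    refine Subgroup.eq_of_le_of_card_ge ?_
      (Subgroup.card_map_of_injective (MulAut.conj g).injective).ge
    rintro y ⟨z, hz, rfl⟩
    exact (Subgroup.mem_normalizer_iff.1 hgH z).1 hz
  have h77 := S0077.result P (Z S) hZc hW'
  rw [show Subgroup.normalizer ((Z S : Subgroup G) : Set G) = S.C from H_eq_C S hni] at h77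
  obtain ⟨j, hj, hjQ⟩ := exists_not_Q S B hcJ
  refine exists_index_three (S.hJexp j hj) fun hjc => ?_
  have h1 : j ∈ ⁅S.C, S.C⁆ := (h77.le ⟨hjc, hP ▸ J_le_S0 S B hcJ hj⟩).1
  have hle : ⁅S.C, S.C⁆ ≤ (K8.comap (ρ S B)).map S.C.subtype := by
    refine Subgroup.commutator_le.2 fun x hx y hy => ?_
    refine ⟨⟨x, hx⟩ * ⟨y, hy⟩ * (⟨x, hx⟩ : S.C)⁻¹ * (⟨y, hy⟩ : S.C)⁻¹, ?_, rfl⟩
    show ρ S B _ ∈ K8
    simp only [map_mul, map_inv]
    exact sl_comm_four _ _
  obtain ⟨⟨y, hy⟩, hy8, rfl⟩ := hle h1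
  set u := ρ S B ⟨y, hy⟩
  have hu3 : u ^ 3 = 1 := by
    rw [← map_pow, show (⟨y, hy⟩ : S.C) ^ 3 = 1 from Subtype.ext (S.hJexp y hj), map_one]
  have hu4 : u ^ 4 = 1 := by
    rw [show (4 : ℕ) = 2 + 2 from rfl, pow_add, sq]; exact hy8
  exact hjQ ((ρ_one S B hy).1 (eq_one_of_pow_three hu3 hu4 (by norm_num)))

theorem not_dvd_index (S : Setup G) (B : Basis S) (hcJ : Subgroup.centralizer (S.J : Set G) = S.J)
    (hsyl : ¬ 3 ^ 5 ∣ Nat.card G) {K A : Subgroup G} (hK : K ≤ A) (hS : S0 S B ≤ K) :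
    ¬ 3 ∣ (K.subgroupOf A).index := by
  intro hd
  refine hsyl (dvd_trans ?_ A.card_subgroup_dvd_card)
  rw [← (K.subgroupOf A).card_mul_index, Nat.card_congr (Subgroup.subgroupOfEquivOfLe hK).toEquiv,
    show 3 ^ 5 = 81 * 3 by norm_num]
  exact Nat.mul_dvd_mul (card_S0 S B hcJ ▸ Subgroup.card_dvd_of_le hS) hd

/-- The amalgam data. -/
noncomputable def hyp (S : Setup G) (B : Basis S) (hcJ : Subgroup.centralizer (S.J : Set G) = S.J)
    (hsyl : ¬ 3 ^ 5 ∣ Nat.card G) (hni : ¬ S.Inverted)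
    (π₁ : Subgroup.normalizer (S.J : Set G) →* Equiv.Perm (Fin 4)) (hs : Function.Surjective π₁)
    (hk : π₁.ker = S.J.subgroupOf (Subgroup.normalizer (S.J : Set G))) : PSpAmalgam31.Hyp G where
  A₁ := Subgroup.normalizer (S.J : Set G)
  A₂ := S.C
  Q₁ := S.J
  Q₂ := S.Q
  Z₂ := Z S
  syl₁ := not_dvd_index S B hcJ hsyl inf_le_left (le_inf (S0_le_NJ S B hcJ) (S0_le_C S B))
  syl₂ := not_dvd_index S B hcJ hsyl inf_le_right (le_inf (S0_le_NJ S B hcJ) (S0_le_C S B))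
  Q₁_le := Subgroup.le_normalizer
  Q₂_le := Q_le S
  Q₁_conj := fun g hg x hx => (Subgroup.mem_normalizer_iff.1 hg x).1 hx
  Q₂_conj := fun g hg x hx => Q_conj S (C_le_H S hg) hx
  π₁ := π₁
  π₁_surj := hs
  π₁_ker := hk
  π₂ := ρ S B
  π₂_surj := ρ_surj S B
  π₂_ker := ρ_ker S B
  Q₁_comm := fun a ha b hb => J_comm S ha hb
  Q₁_exp := S.hJexp
  Q₁_card := S.hJcard
  Q₁_cent := by rw [hcJ]; exact inf_eq_right.2 Subgroup.le_normalizer
  Q₂_card := Q_card S
  Z₂_eq := le_antisymm (le_inf (Z_le_Q S) fun z hz => Subgroup.mem_centralizer_iff.2 fun q hq =>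
      Z_comm S hz (Q_le S hq))
    fun x hx => central_Q S hx.1 fun y hy => (Subgroup.mem_centralizer_iff.1 hx.2 y hy).symm
  Z₂_card := card_Z S
  nat := fun c hc => ⟨fun hcQ x hx => comm_mem S hcQ hx, faithful S hc⟩
  norm₁ := rfl
  norm₂ := H_eq_C S hni
  sig := fun K hK hn => S.hJsig K hK fun j hj => by
    refine Subgroup.eq_of_le_of_card_ge ?_
      (Subgroup.card_map_of_injective (MulAut.conj j).injective).ge
    rintro y ⟨z, hz, rfl⟩
    exact (Subgroup.mem_normalizer_iff.1 (hn hj) z).1 hz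

/-- No subgroup of index two: Frattini replaces generation. -/
theorem index_ne_two (S : Setup G) (B : Basis S) (hcJ : Subgroup.centralizer (S.J : Set G) = S.J)
    (hsyl : ¬ 3 ^ 5 ∣ Nat.card G) (hni : ¬ S.Inverted) (N : Subgroup G) : N.index ≠ 2 := by
  intro hN
  haveI : Fact (Nat.Prime 3) := ⟨Nat.prime_three⟩
  haveI hNn := Subgroup.normal_of_index_eq_two hN
  obtain ⟨P, hP⟩ := exists_sylow S B hcJ hsyl
  have h81 : ∀ g : G, g ^ 81 = 1 → g ∈ N := fun g hg => by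
    have hsq : g * g ∈ N := by rw [← sq, ← hN]; exact N.pow_index_mem g
    have : g⁻¹ = (g * g) ^ 40 := by
      rw [inv_eq_iff_mul_eq_one, ← sq, ← pow_mul, ← pow_succ']
      exact hg
    rw [← inv_inv g, this]
    exact N.inv_mem (N.pow_mem hsq 40)
  have hPN : (P : Subgroup G) ≤ N := fun g hg =>
    h81 g (PSpAmalgam31.pow_card_mem (hP ▸ card_S0 S B hcJ) hg)
  have hC : S.C ≤ N := by
    intro g hg
    obtain ⟨u, v, hu, hv, he⟩ := PSpAmalgam31.sl_gen (ρ S B ⟨g, hg⟩)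
    have key : ∀ w : SL23, w * w * w = 1 → ∀ c : S.C, ρ S B c = w → (c : G) ∈ N := by
      intro w hw c hc
      refine h81 _ ?_
      rw [show (81 : ℕ) = 3 * 27 from rfl, pow_mul]
      refine PSpAmalgam31.pow_card_mem (Q_card S) ((ρ_one S B (S.C.pow_mem c.2 3)).1 ?_)
      rw [show (⟨(c : G) ^ 3, S.C.pow_mem c.2 3⟩ : S.C) = c ^ 3 from Subtype.ext (by simp), map_pow, hc,
        pow_three']
      exact hw
    obtain ⟨x, hx⟩ := ρ_surj S B u
    obtain ⟨y, hy⟩ := ρ_surj S B v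
    have hxy : (x : G) * y ∈ N := N.mul_mem (key u hu x hx) (key v hv y hy)
    have fin : ∀ z : S.C, (z : G) ∈ N → ρ S B ⟨g, hg⟩ = ρ S B z → g ∈ N := by
      intro z hz e
      have hq : ((z⁻¹ * ⟨g, hg⟩ : S.C) : G) ∈ S.Q :=
        (ρ_one S B (z⁻¹ * ⟨g, hg⟩ : S.C).2).1 (by rw [map_mul, map_inv, e, inv_mul_cancel])
      have := N.mul_mem hz (h81 _ (PSpAmalgam31.pow81_of_pow27 (PSpAmalgam31.pow_card_mem (Q_card S) hq)))
      simpa using this
    rcases he with e | e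
    · exact fin (x * y) hxy (by rw [e, map_mul, hx, hy])
    · exact fin (x * y * (x * y)) (N.mul_mem hxy hxy) (by rw [e, map_mul, map_mul, hx, hy])
  have hNP : Subgroup.normalizer ((P : Subgroup G) : Set G) ≤ N :=
    (hP.symm ▸ (norm_S0 S B hcJ).trans (H_eq_C S hni).le).trans hC
  have htop : N = ⊤ := by
    have h := Sylow.normalizer_sup_eq_top (P.subtype hPN)
    rw [Sylow.coe_subtype, Subgroup.subgroupOf_map_subtype, inf_eq_left.2 hPN, sup_eq_right.2 hNP] at h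
    exact h
  rw [htop, Subgroup.index_top] at hN
  omega

/-- The tail of the recognition. -/
theorem recognise (S : Setup G) (B : Basis S) (hcJ : Subgroup.centralizer (S.J : Set G) = S.J)
    (hsyl : ¬ 3 ^ 5 ∣ Nat.card G) (hni : ¬ S.Inverted)
    (π₁ : Subgroup.normalizer (S.J : Set G) →* Equiv.Perm (Fin 4)) (hs : Function.Surjective π₁)
    (hk : π₁.ker = S.J.subgroupOf (Subgroup.normalizer (S.J : Set G)))
    (F : Type v) [Field F] [Fintype F] (hF : Fintype.card F = 3) :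
    Nonempty (G ≃* Cfsg.PSp 2 F) := by
  classical
  obtain ⟨Fr⟩ := (hyp S B hcJ hsyl hni π₁ hs hk).exists_frame
  obtain ⟨e⟩ := Fr.exists_hdata
  obtain ⟨f₁⟩ := PSpFourThree31.nonempty_mulEquiv_target_of_centralizer
    (index_ne_two S B hcJ hsyl hni) (Fr.t : G)
    (orderOf_eq_prime (hp := ⟨Nat.prime_two⟩) (by rw [sq]; exact Fr.tG_sq) (fun h => by
      have h1 := Fr.t_perm
      rw [show Fr.t = 1 from Subtype.ext h, map_one] at h1
      exact absurd h1 (by decide +kernel))) e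
  haveI : Finite (Cfsg.PSp 2 F) := Nat.finite_of_card_ne_zero
    (by rw [PSUFourTwoPSp57.card_psp hF]; norm_num)
  haveI : Fact (Nat.Prime 2) := ⟨Nat.prime_two⟩
  obtain ⟨U⟩ : Nonempty (Sylow 2 (Cfsg.PSp 2 F)) := inferInstance
  have hU : Nontrivial (U : Subgroup (Cfsg.PSp 2 F)) := by
    refine Finite.one_lt_card_iff_nontrivial.1 ?_
    have h2 : 2 ∣ Nat.card (Cfsg.PSp 2 F) := by rw [PSUFourTwoPSp57.card_psp hF]; norm_num
    exact lt_of_lt_of_le one_lt_two (Nat.le_of_dvd Nat.card_pos (U.dvd_card_of_dvd_card h2))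
  haveI := U.2.center_nontrivial
  obtain ⟨k, hk'⟩ := (U.2.to_subgroup (Subgroup.center (U : Subgroup (Cfsg.PSp 2 F)))).nontrivial_iff_card.1
    inferInstance
  obtain ⟨x, hx⟩ := exists_prime_orderOf_dvd_card' (G := Subgroup.center (U : Subgroup (Cfsg.PSp 2 F))) 2
    (by rw [hk'.2]; exact dvd_pow_self 2 (Nat.pos_iff_ne_zero.1 hk'.1))
  have ht₀ : orderOf ((x : (U : Subgroup (Cfsg.PSp 2 F))) : Cfsg.PSp 2 F) = 2 := by
    rw [Subgroup.orderOf_coe, Subgroup.orderOf_coe, hx]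
  obtain ⟨e₀⟩ := PSpFourThree31.exists_equiv hF U _ ht₀ (x : (U : Subgroup (Cfsg.PSp 2 F))).2
    fun u hu => congrArg Subtype.val (Subgroup.mem_center_iff.1 x.2 ⟨u, hu⟩)
  obtain ⟨f₂⟩ := PSpFourThree31.nonempty_mulEquiv_target_of_centralizer
    (PSpFourThree31.psp_index_ne_two hF) _ ht₀ e₀
  exact ⟨f₁.trans f₂.symm⟩

end Loc25

/-- P2: `a` is not conjugate to its inverse. -/
theorem Setup.halfOne {G : Type u} [Group G] [Finite G] (S : Setup G)
    (hcJ : Subgroup.centralizer (S.J : Set G) = S.J) (hsyl : ¬ 3 ^ 5 ∣ Nat.card G)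
    (hfus : ∀ g : G, g * S.a * g⁻¹ ∈ S.J →
      ∃ n ∈ Subgroup.normalizer (S.J : Set G), n * S.a * n⁻¹ = g * S.a * g⁻¹)
    (hS4 : ¬ S.Inverted → ¬ S.WeaklyClosed →
      ∃ π : Subgroup.normalizer (S.J : Set G) →* Equiv.Perm (Fin 4), Function.Surjective π ∧
        π.ker = S.J.subgroupOf (Subgroup.normalizer (S.J : Set G)))
    (hni : ¬ S.Inverted) (F : Type v) [Field F] [Fintype F] (hF : Fintype.card F = 3) :
    (∃ N : Subgroup G, N.Normal ∧ N.index = 3) ∨ Nonempty (G ≃* Cfsg.PSp 2 F) := by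
  obtain ⟨B⟩ := Loc25.exists_basis S hcJ
  by_cases hW : S.WeaklyClosed
  · exact Or.inl (Loc25.closed_index_three S B hcJ hsyl hfus hni hW)
  · obtain ⟨π, hs, hk⟩ := hS4 hni hW
    exact Or.inr (Loc25.recognise S B hcJ hsyl hni π hs hk F hF)

end Cfsg.Agent.Sp62Three31
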