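import Cfsg.Agent.Lib.Sp62Three31HalfLocal

/-!
S3342 (helper25, piece P3, first part): centralisers of the elements of `J \ ⟨a⟩` normalise `J`
when the line of `a` is weakly closed.
-/

set_option autoImplicit false

namespace Cfsg.Agent.Sp62Three31.Loc25

open PSpAmalgam31 (mem_normalizer_of_maps eq_one_of_pow_three)
open scoped Matrix

theorem fix_vec : ∀ (M : M2) (v : Fin 2 → ZMod 3), v ≠ 0 → v 1 = 0 → M *ᵥ v = v →
    M 0 0 = 1 ∧ M 1 0 = 0 := by decide +kernel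

theorem shift_surj : ∀ g : SL23, (g : M2) 0 0 = 1 → (g : M2) 1 0 = 0 → g ≠ 1 →
    ∀ w : Fin 2 → ZMod 3, w 1 = 0 → ∃ v, v - (g : M2) *ᵥ v = w := by decide +kernel

theorem det_mul_top : ∀ a b : ZMod 3, a = 2 → b = 2 → a * b = 1 := by decide

theorem two_pow_27 : (2 : ZMod 3) ^ 27 ≠ 1 := by decide

theorem upper_pow_three : ∀ u : SL23, (u : M2) 1 0 = 0 → u * u * u = 1 → (u : M2) 0 0 = 1 := by
  decide +kernel

theorem sl_pow_27 : ∀ u : SL23, u ^ 27 = 1 → u * u * u = 1 := by decide +kernel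

theorem upper_pow_27 (u : SL23) (h : (u : M2) 1 0 = 0) (h27 : u ^ 27 = 1) : (u : M2) 0 0 = 1 :=
  upper_pow_three u h (sl_pow_27 u h27)

universe u

variable {G : Type u} [Group G]

/-- A criterion for being a Sylow subgroup. -/
theorem sylow_of_normalizer [Finite G] {p : ℕ} [Fact p.Prime] (P0 : Subgroup G) (hp0 : IsPGroup p P0)
    (h : ∀ g ∈ Subgroup.normalizer (P0 : Set G), (∃ k : ℕ, g ^ p ^ k = 1) → g ∈ P0) :
    ∃ R : Sylow p G, (R : Subgroup G) = P0 := by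
  obtain ⟨R, hR⟩ := hp0.exists_le_sylow
  refine ⟨R, le_antisymm ?_ hR⟩
  by_contra hn
  have hne : P0.subgroupOf R ≠ ⊤ := fun e => hn (Subgroup.subgroupOf_eq_top.1 e)
  haveI := R.2.isNilpotent
  have hlt := Group.normalizerCondition_of_isNilpotent _ (lt_top_iff_ne_top.2 hne)
  rw [← Subgroup.subgroupOf_normalizer_eq hR] at hlt
  obtain ⟨r, hr, hr0⟩ := SetLike.exists_of_lt hlt
  obtain ⟨k, hk⟩ := R.2 r
  exact hr0 (h (r : G) hr ⟨k, congrArg Subtype.val hk⟩)

variable [Finite G] (S : Setup G) (B : Basis S)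

theorem det_cases {h : G} (hh : h ∈ H S) : (mat S B h).det = 1 ∨ (mat S B h).det = 2 := by
  by_cases hc : h ∈ S.C
  · exact Or.inl (det_one S B hc)
  · exact Or.inr (det_two S B hh hc)

include B in
theorem mul_mem_C {g h : G} (hg : g ∈ H S) (hh : h ∈ H S) (hg' : g ∉ S.C) (hh' : h ∉ S.C) :
    g * h ∈ S.C := by
  refine mem_C_of_det S B ((H S).mul_mem hg hh) ?_
  rw [mat_mul S B hg hh, Matrix.det_mul, det_mul_top _ _ (det_two S B hg hg') (det_two S B hh hh')]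
  decide

theorem eq_one_of_Q {q : G} (hq : q ∈ S.Q) {n : ℕ} (hn : ¬ 3 ∣ n) (h : q ^ n = 1) : q = 1 :=
  eq_one_of_pow_three (Q_exp S hq) h hn

/-- An involution of `C` with matrix `-1`. -/
theorem exists_invol : ∃ t : G, ∃ ht : t ∈ S.C, t * t = 1 ∧ ρ S B ⟨t, ht⟩ = sneg := by
  obtain ⟨k, hk, hke⟩ := exists_mat S B sneg
  have hsn : sneg * sneg = 1 := PSpAmalgam31.sneg_spec.1
  have hkQ : k ^ 2 ∈ S.Q := (ρ_one S B (S.C.pow_mem hk 2)).1 (by
    rw [show (⟨k ^ 2, S.C.pow_mem hk 2⟩ : S.C) = ⟨k, hk⟩ ^ 2 from Subtype.ext (by simp), map_pow, hke, sq, hsn])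
  refine ⟨k ^ 81, S.C.pow_mem hk 81, ?_, ?_⟩
  · rw [← sq, ← pow_mul, show 81 * 2 = 2 * 81 from rfl, pow_mul, show (81 : ℕ) = 3 * 27 from rfl,
      pow_mul, Q_exp S hkQ, one_pow]
  · rw [show (⟨k ^ 81, S.C.pow_mem hk 81⟩ : S.C) = ⟨k, hk⟩ ^ 81 from Subtype.ext (by simp), map_pow,
      hke, show (81 : ℕ) = 2 * 40 + 1 from rfl, pow_succ, pow_mul, sq, hsn, one_pow, one_mul]

theorem invol_upper {t : G} {ht : t ∈ S.C} (h : ρ S B ⟨t, ht⟩ = sneg) : mat S B t 1 0 = 0 := by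
  rw [← ρ_coe S B ⟨t, ht⟩, h]
  rfl

include B in
/-- An element commuting with a point of `D` and lying in `C` lies in `J`. -/
theorem cent_C_of_mem_Q (hcJ : Subgroup.centralizer (S.J : Set G) = S.J) {x c : G} (hx : x ∈ S.J)
    (hxQ : x ∈ S.Q) (hxZ : x ∉ Z S) (hc : c ∈ S.C) (h : c * x = x * c) : c ∈ S.J := by
  have hfix : mat S B c *ᵥ φ S B x = φ S B x := by
    rw [← φ_conj S B (C_le_H S hc) hxQ, h, mul_inv_cancel_right]
  exact cent_S0 S B hcJ hx hxZ ⟨hc, fix_vec _ _ (fun e => hxZ ((eq_zero_iff S B hxQ).1 e))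
    ((mem_D_iff S B hcJ hxQ).1 hx) hfix⟩ h

include B in
/-- An element outside `J` normalising it and centralising `x`. -/
theorem exists_cent (hcJ : Subgroup.centralizer (S.J : Set G) = S.J) (hinv : S.Inverted) {x : G}
    (hx : x ∈ S.J) (hxZ : x ∉ Z S) :
    ∃ g ∈ Subgroup.normalizer (S.J : Set G), g * x = x * g ∧ g ∉ S.J := by
  by_cases hxQ : x ∈ S.Q
  · obtain ⟨g₀, hg₀⟩ := hinv
    have hg₀H : g₀ ∈ H S := mem_H_of S (by rw [hg₀]; exact (Z S).inv_mem (Subgroup.mem_zpowers _))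
    have hg₀C : g₀ ∉ S.C := fun h => by
      rw [(mem_C S).1 h, mul_inv_cancel_right] at hg₀
      exact a_ne_inv S hg₀
    have hx' : g₀ * x * g₀⁻¹ ∉ Z S := fun h => hxZ ((Subgroup.mem_normalizer_iff.1 hg₀H x).2 h)
    obtain ⟨c₁, hc₁, he₁⟩ := trans_Q S B (Q_conj S hg₀H hxQ) hx'
    obtain ⟨c₂, hc₂, he₂⟩ := trans_Q S B hxQ hxZ
    set g := c₂ * c₁⁻¹ * g₀ with hg
    have hcC : c₂ * c₁⁻¹ ∈ S.C := S.C.mul_mem hc₂ (S.C.inv_mem hc₁)
    have hgH : g ∈ H S := (H S).mul_mem (C_le_H S hcC) hg₀H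
    have hgC : g ∉ S.C := fun h => hg₀C (by
      have := S.C.mul_mem (S.C.inv_mem hcC) h
      simpa [hg, mul_assoc] using this)
    have hgx : g * x = x * g := mul_inv_eq_iff_eq_mul.1 (by
      calc g * x * g⁻¹ = c₂ * (c₁⁻¹ * (g₀ * x * g₀⁻¹) * c₁) * c₂⁻¹ := by rw [hg]; group
        _ = c₂ * B.d * c₂⁻¹ := by rw [← he₁]; group
        _ = x := he₂)
    refine ⟨g, mem_normalizer_of_maps fun j hj => ?_, hgx, fun h => hgC (JC S h)⟩
    refine cent_C_of_mem_Q S B hcJ hx hxQ hxZ (conj_C S hgH (JC S hj)) ?_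
    have hxg : g⁻¹ * x = x * g⁻¹ := (show Commute g x from hgx).inv_left.eq
    calc g * j * g⁻¹ * x = g * (j * x) * g⁻¹ := by rw [mul_assoc, hxg]; group
      _ = g * (x * j) * g⁻¹ := by rw [J_comm S hj hx]
      _ = x * (g * j * g⁻¹) := by rw [← mul_assoc g x j, hgx]; group
  · obtain ⟨t, htC, ht2, htρ⟩ := exists_invol S B
    have htN := norm_J S B hcJ htC (invol_upper S B htρ)
    have hti : t⁻¹ = t := inv_eq_of_mul_eq_one_right ht2
    obtain ⟨e, he⟩ : ∃ e, e = x⁻¹ * (t * x * t⁻¹) := ⟨_, rfl⟩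
    have heJ : e ∈ S.J := he ▸ S.J.mul_mem (S.J.inv_mem hx) ((Subgroup.mem_normalizer_iff.1 htN x).1 hx)
    have heQ : e ∈ S.Q := by
      refine (ρ_one S B (JC S heJ)).1 ?_
      rw [show (⟨e, JC S heJ⟩ : S.C) =
        (⟨x, JC S hx⟩ : S.C)⁻¹ * (⟨t, htC⟩ * ⟨x, JC S hx⟩ * (⟨t, htC⟩ : S.C)⁻¹) from Subtype.ext (by simp [he]),
        map_mul, map_mul, map_mul, map_inv, map_inv, htρ, show sneg = PSpAmalgam31.sneg from rfl,
        PSpAmalgam31.sneg_central, mul_inv_cancel_right, inv_mul_cancel]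
    have htx : t * x * t⁻¹ = x * e := by rw [he, mul_inv_cancel_left]
    have hte : t * e * t⁻¹ = e⁻¹ := by
      have h1 : t * (x * e) * t⁻¹ = x := by
        rw [← htx, hti]
        calc t * (t * x * t) * t = (t * t) * x * (t * t) := by group
          _ = x := by rw [ht2, one_mul, mul_one]
      rw [show t * (x * e) * t⁻¹ = (t * x * t⁻¹) * (t * e * t⁻¹) by group, htx, mul_assoc, mul_eq_left] at h1
      exact eq_inv_of_mul_eq_one_right h1
    have hu := J_unip S B hcJ hx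
    have hne : ρ S B ⟨x, JC S hx⟩ ≠ 1 := fun h => hxQ ((ρ_one S B _).1 h)
    have heeJ : e * e ∈ S.J := S.J.mul_mem heJ heJ
    obtain ⟨v, hv⟩ := shift_surj _ hu.1 hu.2 hne (φ S B (e * e))
      ((mem_D_iff S B hcJ (S.Q.mul_mem heQ heQ)).1 heeJ)
    set s := el S B v with hs
    have hsQ : s ∈ S.Q := el_mem S B v
    obtain ⟨f, hf⟩ : ∃ f, f = s * x * s⁻¹ * x⁻¹ := ⟨_, rfl⟩
    have hxH := C_le_H S (JC S hx)
    have hxs : x * s⁻¹ * x⁻¹ ∈ S.Q := Q_conj S hxH (S.Q.inv_mem hsQ)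
    have hfQ : f ∈ S.Q := by
      rw [hf, show s * x * s⁻¹ * x⁻¹ = s * (x * s⁻¹ * x⁻¹) by group]
      exact S.Q.mul_mem hsQ hxs
    have hφf : φ S B f = φ S B (e * e) := by
      rw [hf, show s * x * s⁻¹ * x⁻¹ = s * (x * s⁻¹ * x⁻¹) by group, φ_mul S B hsQ hxs,
        φ_conj S B hxH (S.Q.inv_mem hsQ), φ_inv S B hsQ, hs, φ_el, Matrix.mulVec_neg, ← sub_eq_add_neg]
      exact hv
    have hfJ : f ∈ S.J := by
      rw [mem_D_iff S B hcJ hfQ, hφf]
      exact (mem_D_iff S B hcJ (S.Q.mul_mem heQ heQ)).1 heeJ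
    obtain ⟨z, hz⟩ : ∃ z, z = (e * e)⁻¹ * f := ⟨_, rfl⟩
    have hzZ : z ∈ Z S := by
      rw [hz, ← eq_zero_iff S B (S.Q.mul_mem (S.Q.inv_mem (S.Q.mul_mem heQ heQ)) hfQ),
        φ_mul S B (S.Q.inv_mem (S.Q.mul_mem heQ heQ)) hfQ, φ_inv S B (S.Q.mul_mem heQ heQ), hφf,
        neg_add_cancel]
    have hsx : s * x * s⁻¹ = x * (e * e) * z := by
      calc s * x * s⁻¹ = f * x := by rw [hf]; group
        _ = x * f := J_comm S hfJ hx
        _ = x * (e * e) * z := by rw [hz]; group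
    have he3 : e⁻¹ = e * e :=
      inv_eq_of_mul_eq_one_right (by rw [← mul_assoc, ← pow_three']; exact Q_exp S heQ)
    have hfix : t * (s * x * s⁻¹) * t⁻¹ = s * x * s⁻¹ := by
      rw [hsx, show t * (x * (e * e) * z) * t⁻¹ =
        (t * x * t⁻¹) * ((t * e * t⁻¹) * (t * e * t⁻¹)) * (t * z * t⁻¹) by group, htx, hte,
        Z_comm S hzZ htC, mul_inv_cancel_right, ← he3]
      group
    refine ⟨s⁻¹ * t * s, ?_, ?_, ?_⟩
    · have hsN := S0_le_NJ S B hcJ (Q_le_S0 S B hsQ)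
      exact (Subgroup.normalizer _).mul_mem ((Subgroup.normalizer _).mul_mem
        ((Subgroup.normalizer _).inv_mem hsN) htN) hsN
    · refine mul_inv_eq_iff_eq_mul.1 ?_
      calc s⁻¹ * t * s * x * (s⁻¹ * t * s)⁻¹ = s⁻¹ * (t * (s * x * s⁻¹) * t⁻¹) * s := by group
        _ = x := by rw [hfix]; group
    · intro h
      have h3 := S.hJexp _ h
      have h3' : (s⁻¹ * t * s) ^ 3 = s⁻¹ * t ^ 3 * s := by
        simp only [pow_succ, pow_zero, one_mul]; group
      rw [h3', show t ^ 3 = t by rw [pow_three', ht2, one_mul]] at h3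
      have ht1 : t = 1 := by
        calc t = s * (s⁻¹ * t * s) * s⁻¹ := by group
          _ = 1 := by rw [h3]; group
      have := congrArg Subtype.val htρ
      rw [ρ_coe] at this
      simp only [ht1, mat_one] at this
      exact absurd this (by decide +kernel)

/-- The group `N(J) ∩ C(x)`. -/
abbrev NC (x : G) : Subgroup G :=
  Subgroup.normalizer (S.J : Set G) ⊓ Subgroup.centralizer ({x} : Set G)

theorem J_le_NC {x : G} (hx : x ∈ S.J) : S.J ≤ NC S x := fun j hj =>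
  ⟨Subgroup.le_normalizer hj, Subgroup.mem_centralizer_singleton_iff.2 (J_comm S hj hx)⟩

include B in
/-- The order of `N(J) ∩ C(x)`. -/
theorem card_NC (hcJ : Subgroup.centralizer (S.J : Set G) = S.J) (hW : S.WeaklyClosed)
    (hinv : S.Inverted) {x : G} (hx : x ∈ S.J) (hxZ : x ∉ Z S) :
    Nat.card (NC S x) = 54 ∨ (Nat.card (NC S x) = 108 ∧
      ∃ t ∈ NC S x, t ∉ S.J ∧ t * S.a = S.a * t) := by
  classical
  have hH : ∀ k : NC S x, (k : G) ∈ H S := fun k => hW k.2.1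
  have hup : ∀ k : NC S x, mat S B (k : G) 1 0 = 0 := by
    intro k
    have hJ : (k : G) * B.d * (k : G)⁻¹ ∈ S.J := (Subgroup.mem_normalizer_iff.1 k.2.1 _).1 B.d_memJ
    exact (mem_D_iff S B hcJ (Q_conj S (hH k) B.d_mem)).1 hJ
  let f : NC S x →* ZMod 3 × ZMod 3 :=
    { toFun := fun k => ((mat S B (k : G)).det, mat S B (k : G) 0 0)
      map_one' := by simp [mat_one]
      map_mul' := fun k k' => by
        rw [Subgroup.coe_mul, mat_mul S B (hH k) (hH k'), Matrix.det_mul, Matrix.mul_apply,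
          Fin.sum_univ_two, hup k', mul_zero, add_zero]
        rfl }
  let F := f.toHomUnits
  have hker : F.ker = S.J.subgroupOf (NC S x) := by
    ext k
    rw [MonoidHom.mem_ker, Subgroup.mem_subgroupOf, Units.ext_iff]
    show ((mat S B (k : G)).det, mat S B (k : G) 0 0) = ((1 : ZMod 3), (1 : ZMod 3)) ↔ _
    constructor
    · intro h
      rw [Prod.mk.injEq] at h
      refine cent_S0 S B hcJ hx hxZ ⟨mem_C_of_det S B (hH k) (by rw [h.1]; decide), h.2, hup k⟩ ?_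
      exact Subgroup.mem_centralizer_singleton_iff.1 k.2.2
    · intro h
      rw [det_one S B (JC S h), (J_unip S B hcJ h).1]
  have h1 := F.ker.card_mul_index
  rw [Subgroup.index_ker, hker, Nat.card_congr (Subgroup.subgroupOfEquivOfLe (J_le_NC S hx)).toEquiv,
    S.hJcard] at h1
  have hd : Nat.card F.range ∣ 4 := by
    have h4 : Nat.card (ZMod 3 × ZMod 3)ˣ = 4 := by rw [Nat.card_eq_fintype_card]; decide +kernel
    exact h4 ▸ Subgroup.card_subgroup_dvd_card _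
  obtain ⟨g, hgN, hgx, hgJ⟩ := exists_cent S B hcJ hinv hx hxZ
  have hne : Nat.card F.range ≠ 1 := fun e => by
    have hbot : F.range = ⊥ := Subgroup.eq_bot_of_card_eq _ e
    have : (⟨g, hgN, Subgroup.mem_centralizer_singleton_iff.2 hgx⟩ : NC S x) ∈ F.ker :=
      (Subgroup.mem_bot.1 (hbot ▸ ⟨_, rfl⟩))
    rw [hker] at this
    exact hgJ this
  have h5 := Nat.le_of_dvd (by norm_num) hd
  have h6 : Nat.card F.range ≠ 0 := (Nat.card_pos).ne'
  have h7 : Nat.card F.range = 2 ∨ Nat.card F.range = 4 := by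
    interval_cases h : Nat.card F.range <;> omega
  rcases h7 with e | e
  · left; omega
  refine Or.inr ⟨by omega, ?_⟩
  by_contra hno
  push Not at hno
  let δ : NC S x →* ZMod 3 :=
    { toFun := fun k => (mat S B (k : G)).det
      map_one' := by simp [mat_one]
      map_mul' := fun k k' => by rw [Subgroup.coe_mul, mat_mul S B (hH k) (hH k'), Matrix.det_mul] }
  have hδ : δ.toHomUnits.ker ≤ S.J.subgroupOf (NC S x) := by
    intro k hk
    by_contra hkJ
    rw [MonoidHom.mem_ker, Units.ext_iff] at hk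
    have hd1 : (mat S B (k : G)).det = 1 := hk
    exact hno _ k.2 hkJ ((mem_C S).1 (mem_C_of_det S B (hH k) (by rw [hd1]; decide)))
  have hle := Subgroup.card_le_of_le hδ
  rw [Nat.card_congr (Subgroup.subgroupOfEquivOfLe (J_le_NC S hx)).toEquiv, S.hJcard] at hle
  have h2 := δ.toHomUnits.ker.card_mul_index
  rw [Subgroup.index_ker] at h2
  have h8 : Nat.card δ.toHomUnits.range ≤ 2 := by
    have h4 : Nat.card (ZMod 3)ˣ = 2 := by rw [Nat.card_eq_fintype_card]; decide +kernel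
    exact h4 ▸ Subgroup.card_le_card_group _
  nlinarith

/-- The centraliser of an element of `J \ ⟨a⟩` normalises `J`. -/
theorem cent_le_NJ (hcJ : Subgroup.centralizer (S.J : Set G) = S.J) (hsyl : ¬ 3 ^ 5 ∣ Nat.card G)
    (hW : S.WeaklyClosed) (hinv : S.Inverted) {x : G} (hx : x ∈ S.J) (hxZ : x ∉ Z S) :
    Subgroup.centralizer ({x} : Set G) ≤ Subgroup.normalizer (S.J : Set G) := by
  classical
  haveI : Fact (Nat.Prime 3) := ⟨Nat.prime_three⟩
  obtain ⟨B⟩ := exists_basis S hcJ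
  set Cx := Subgroup.centralizer ({x} : Set G) with hCx
  have hJ : S.J ≤ Cx := fun j hj => Subgroup.mem_centralizer_singleton_iff.2 (J_comm S hj hx)
  set M₀ : Subgroup Cx := S.J.subgroupOf Cx with hM
  have hM27 : Nat.card M₀ = 27 := by
    rw [← S.hJcard]; exact Nat.card_congr (Subgroup.subgroupOfEquivOfLe hJ).toEquiv
  have hcN : Nat.card (Subgroup.normalizer (M₀ : Set Cx)) = Nat.card (NC S x) := by
    rw [hM, ← Subgroup.subgroupOf_normalizer_eq hJ, ← Subgroup.inf_subgroupOf_right]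
    exact Nat.card_congr (Subgroup.subgroupOfEquivOfLe inf_le_right).toEquiv
  have hthree : ∀ g ∈ NC S x, (∃ k : ℕ, g ^ 3 ^ k = 1) → g ∈ S.J := by
    rintro g hg ⟨k, hk⟩
    have h54 : Nat.card (NC S x) ∣ 108 := by
      rcases card_NC S B hcJ hW hinv hx hxZ with e | ⟨e, -⟩ <;> rw [e] <;> norm_num
    have hg108 : g ^ 108 = 1 := by
      obtain ⟨i, hi⟩ := h54
      have := pow_card_eq_one' (x := (⟨g, hg⟩ : NC S x))
      rw [hi, pow_mul, show g ^ Nat.card (NC S x) = 1 from congrArg Subtype.val this, one_pow]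
    have hg27 : g ^ 27 = 1 := by
      have ho : orderOf g ∣ Nat.gcd 108 (3 ^ k) :=
        Nat.dvd_gcd (orderOf_dvd_of_pow_eq_one hg108) (orderOf_dvd_of_pow_eq_one hk)
      have h27 : Nat.gcd 108 (3 ^ k) ∣ 27 := by
        obtain ⟨i, hi, he⟩ := (Nat.dvd_prime_pow Nat.prime_three).1 (Nat.gcd_dvd_right 108 (3 ^ k))
        have h := Nat.gcd_dvd_left 108 (3 ^ k)
        rw [he] at h ⊢
        have hi3 : i ≤ 3 := by
          by_contra hc
          have := (pow_dvd_pow 3 (show 4 ≤ i by omega)).trans h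
          norm_num at this
        exact (pow_dvd_pow 3 hi3).trans (by norm_num)
      exact orderOf_dvd_iff_pow_eq_one.1 (ho.trans h27)
    have hgC : g ∈ S.C := by
      refine mem_C_of_det S B (hW hg.1) fun h2 => ?_
      let δ : H S →* ZMod 3 :=
        { toFun := fun k => (mat S B (k : G)).det
          map_one' := by simp [mat_one]
          map_mul' := fun k k' => by rw [Subgroup.coe_mul, mat_mul S B k.2 k'.2, Matrix.det_mul] }
      have := congrArg δ (show (⟨g, hW hg.1⟩ : H S) ^ 27 = 1 from Subtype.ext hg27)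
      rw [map_pow, map_one] at this
      rw [show δ ⟨g, hW hg.1⟩ = 2 from h2] at this
      exact two_pow_27 this
    refine cent_S0 S B hcJ hx hxZ ⟨hgC, ?_, upper_of_norm S B hcJ hgC hg.1⟩
      (Subgroup.mem_centralizer_singleton_iff.1 hg.2)
    exact upper_pow_27 (ρ S B ⟨g, hgC⟩) (upper_of_norm S B hcJ hgC hg.1)
      (by rw [← map_pow, show (⟨g, hgC⟩ : S.C) ^ 27 = 1 from Subtype.ext hg27, map_one])
  obtain ⟨R, hR⟩ := sylow_of_normalizer (p := 3) M₀ (IsPGroup.of_card (n := 3) (by rw [hM27]; norm_num))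
    (fun g hg ⟨k, hk⟩ => hthree g
      ⟨by rw [hM, ← Subgroup.subgroupOf_normalizer_eq hJ] at hg; exact hg, g.2⟩ ⟨k, congrArg Subtype.val hk⟩)
  have hidx : ¬ 3 ∣ M₀.index := hR ▸ R.not_dvd_index
  have hxJ : (⟨x, hJ hx⟩ : Cx) ∈ M₀ := hx
  have hox : orderOf (⟨x, hJ hx⟩ : Cx) = 3 := by
    rw [← Subgroup.orderOf_coe]
    exact orderOf_eq_prime (S.hJexp x hx) fun e => hxZ ((show x = 1 from e) ▸ (Z S).one_mem)
  have hself : ∀ g : Cx, (∀ m ∈ M₀, g * m * g⁻¹ * m⁻¹ ∈ Subgroup.zpowers (⟨x, hJ hx⟩ : Cx)) → g ∈ M₀ := by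
    intro g hg
    have hxx : ∀ w : Cx, w ∈ Subgroup.zpowers (⟨x, hJ hx⟩ : Cx) → w ∈ M₀ := fun w hw =>
      Subgroup.zpowers_le.2 hxJ hw
    have hgN : (g : G) ∈ Subgroup.normalizer (S.J : Set G) := mem_normalizer_of_maps fun j hj => by
      have h2 : (g : G) * j * (g : G)⁻¹ * j⁻¹ ∈ S.J := hxx _ (hg ⟨j, hJ hj⟩ hj)
      simpa using S.J.mul_mem h2 hj
    have haJ := a_mem_J S hcJ
    obtain ⟨i, hi⟩ := Subgroup.mem_zpowers_iff.1 (hg ⟨S.a, hJ haJ⟩ haJ)
    have hi' : x ^ i = (g : G) * S.a * (g : G)⁻¹ * S.a⁻¹ := congrArg Subtype.val hi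
    have hgC : (g : G) ∈ S.C := by
      rw [mem_C]
      refine mul_inv_eq_iff_eq_mul.1 ?_
      rcases H_cases S (hW hgN) with e | e
      · exact e
      · exfalso
        rw [e, ← mul_inv_rev, sq_a, inv_inv] at hi'
        refine hxZ ?_
        obtain ⟨_, hz⟩ : ∃ _h : x ^ i ∈ Z S, True := ⟨hi' ▸ Subgroup.mem_zpowers _, trivial⟩
        have hx3 : x ^ (3 : ℤ) = 1 := by
          rw [show (3 : ℤ) = ((3 : ℕ) : ℤ) by norm_num, zpow_natCast]; exact S.hJexp x hx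
        have hi3 : ¬ (3 : ℤ) ∣ i := by
          rintro ⟨w, rfl⟩
          rw [zpow_mul, hx3, one_zpow] at hi'
          exact a_ne S hi'.symm
        obtain ⟨u, v, huv⟩ : IsCoprime i 3 :=
          ((Int.prime_iff_natAbs_prime.2 (by norm_num)).coprime_iff_not_dvd.2 hi3).symm
        have : x = (x ^ i) ^ u * (x ^ (3 : ℤ)) ^ v := by
          rw [← zpow_mul, ← zpow_mul, ← zpow_add, mul_comm i u, mul_comm (3 : ℤ) v, huv, zpow_one]
        rw [this, hx3, one_zpow, mul_one, hi']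
        exact (Z S).zpow_mem (Subgroup.mem_zpowers _) u
    refine cent_S0 S B hcJ hx hxZ ⟨hgC, ?_, upper_of_norm S B hcJ hgC hgN⟩
      (Subgroup.mem_centralizer_singleton_iff.1 g.2)
    by_cases hxQ : x ∈ S.Q
    · exact (J_unip S B hcJ (cent_C_of_mem_Q S B hcJ hx hxQ hxZ hgC
        (Subgroup.mem_centralizer_singleton_iff.1 g.2))).1
    -- on `J ∩ Q` the element is trivial modulo `⟨a⟩`
    obtain ⟨k, hk⟩ := Subgroup.mem_zpowers_iff.1 (hg ⟨B.d, hJ B.d_memJ⟩ B.d_memJ)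
    have hk' : x ^ k = (g : G) * B.d * (g : G)⁻¹ * B.d⁻¹ := congrArg Subtype.val hk
    have hdQ : (g : G) * B.d * (g : G)⁻¹ * B.d⁻¹ ∈ S.Q :=
      S.Q.mul_mem (Q_conj S (C_le_H S hgC) B.d_mem) (S.Q.inv_mem B.d_mem)
    have hx3 : x ^ (3 : ℤ) = 1 := by
      rw [show (3 : ℤ) = ((3 : ℕ) : ℤ) by norm_num, zpow_natCast]; exact S.hJexp x hx
    have hk3 : (3 : ℤ) ∣ k := by
      by_contra hk3
      obtain ⟨u, v, huv⟩ : IsCoprime k 3 :=
        ((Int.prime_iff_natAbs_prime.2 (by norm_num)).coprime_iff_not_dvd.2 hk3).symm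
      have : x = (x ^ k) ^ u * (x ^ (3 : ℤ)) ^ v := by
        rw [← zpow_mul, ← zpow_mul, ← zpow_add, mul_comm k u, mul_comm (3 : ℤ) v, huv, zpow_one]
      refine hxQ ?_
      rw [this, hx3, one_zpow, mul_one, hk']
      exact S.Q.zpow_mem hdQ u
    obtain ⟨w, rfl⟩ := hk3
    rw [zpow_mul, hx3, one_zpow, eq_comm, mul_inv_eq_one] at hk'
    have hfix : mat S B (g : G) *ᵥ ![1, 0] = ![1, 0] := by
      rw [← φ_d S B, ← φ_conj S B (C_le_H S hgC) B.d_mem, hk']
    exact (unit_vec _ hfix).1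
  have hN : Nat.card (Subgroup.normalizer (M₀ : Set Cx)) = 54 ∨
      Nat.card (Subgroup.normalizer (M₀ : Set Cx)) = 108 ∧
        ∃ u ∈ M₀, u ∉ Subgroup.zpowers (⟨x, hJ hx⟩ : Cx) ∧
          ∃ t : Cx, t ∉ M₀ ∧ t ∈ Subgroup.normalizer (M₀ : Set Cx) ∧ t * u = u * t := by
    rw [hcN]
    rcases card_NC S B hcJ hW hinv hx hxZ with e | ⟨e, t, ht, htJ, hta⟩
    · exact Or.inl e
    refine Or.inr ⟨e, ⟨S.a, hJ (a_mem_J S hcJ)⟩, a_mem_J S hcJ, fun h => ?_, ⟨t, ht.2⟩, htJ, ?_,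
      Subtype.ext hta⟩
    · have h' : S.a ∈ Subgroup.zpowers x := by
        obtain ⟨i, hi⟩ := Subgroup.mem_zpowers_iff.1 h
        exact Subgroup.mem_zpowers_iff.2 ⟨i, congrArg Subtype.val hi⟩
      refine hxZ ?_
      have : Subgroup.zpowers S.a = Subgroup.zpowers x := Subgroup.eq_of_le_of_card_ge
        (Subgroup.zpowers_le.2 h') (by
          rw [Nat.card_zpowers, Nat.card_zpowers, S.ha]
          exact le_of_eq (orderOf_eq_prime (S.hJexp x hx) fun e' => hxZ (e' ▸ (Z S).one_mem)))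
      show x ∈ Subgroup.zpowers S.a
      rw [this]; exact Subgroup.mem_zpowers x
    · rw [hM, ← Subgroup.subgroupOf_normalizer_eq hJ]; exact ht.1
  haveI hnorm := PSpAmalgam31.normal_of_central M₀ ⟨x, hJ hx⟩ hxJ hox
    (fun g => Subtype.ext (Subgroup.mem_centralizer_singleton_iff.1 g.2))
    (fun p hp q hq => Subtype.ext (J_comm S hp hq)) (fun p hp => Subtype.ext (S.hJexp _ hp)) hM27 hidx
    hself (fun K hK hinvK => by
      have h := S.hJsig (K.map Cx.subtype)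
        (by
          rw [Subgroup.card_map_of_injective Cx.subtype_injective]
          exact ((Nat.Prime.coprime_iff_not_dvd Nat.prime_three).2 hK).symm)
        (fun j hj => Subgroup.eq_of_le_of_card_ge (by
          rintro _ ⟨_, ⟨k, hk, rfl⟩, rfl⟩
          exact ⟨_, hinvK ⟨j, hJ hj⟩ hj k hk, rfl⟩)
          (Subgroup.card_map_of_injective (MulAut.conj j).injective).ge)
      exact (Subgroup.map_eq_bot_iff_of_injective _ Cx.subtype_injective).1 h) hN
  exact (Subgroup.normal_subgroupOf_iff_le_normalizer hJ).1 hnorm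

end Cfsg.Agent.Sp62Three31.Loc25
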