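import Mathlib
import Cfsg.Agent.Lib.PSp62MultiplierData

/-!
Interface for the endgame of S3342 (helper31's campaign): `Sp(6,2)` inside a finite group,
containing the centralisers of its elements of order three and a Sylow 3-normaliser.
Vectors are bit strings: bits `0,1,2` are `x₁,x₂,x₃`, bits `3,4,5` are `y₁,y₂,y₃`.
-/

set_option autoImplicit false

namespace Cfsg.Agent.Sp62Three31

open Cfsg.Agent.SymplecticBasic Matrix

universe u

/-- The model. -/
abbrev Sp62 := symplecticGroup (Fin 3) (ZMod 2)

/-- The transvection of a bit string. -/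
def tv (n : ℕ) : Sp62 := transv (PSp62MultiplierData.vec n) 1

/-- The weight-one elements of order three: the product of the transvections of `xᵢ` and `yᵢ`. -/
def cyc3 (i : Fin 3) : Sp62 := tv (2 ^ i.val) * tv (2 ^ (i.val + 3))

/-- The elementary abelian subgroup of order 27. -/
def baseJ : Subgroup Sp62 := Subgroup.closure (Set.range cyc3)

/-- The stabiliser of the Lagrangian `⟨x₁,x₂,x₃⟩`: elementary abelian of order 64. -/
def lagU : Subgroup Sp62 := Subgroup.closure (Set.range fun n : Fin 8 => tv n.val)

/-- Transvection. -/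
def rD : Sp62 := tv 1

/-- Product of two orthogonal transvections. -/
def rV : Sp62 := tv 1 * tv 2

/-- Involution of type `a₂`. -/
def rT : Sp62 := tv 1 * tv 2 * tv 3

/-- Involution with three-dimensional commutator space. -/
def rQ : Sp62 := tv 4 * rT

variable (G : Type u) [Group G]

/-- The hypotheses of the endgame. -/
structure SpHyp where
  ψ : Sp62 →* G
  inj : Function.Injective ψ
  three : ∀ x : Sp62, orderOf x = 3 → Subgroup.centralizer ({ψ x} : Set G) ≤ ψ.range
  normS : ∀ P : Sylow 3 Sp62,
    Subgroup.normalizer (((P : Subgroup Sp62).map ψ : Subgroup G) : Set G) ≤ ψ.range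
  sig : ∀ K : Subgroup G, (Nat.card K).Coprime 3 →
    (∀ j ∈ baseJ, K.map (MulAut.conj (ψ j)).toMonoidHom = K) → K = ⊥

namespace SpHyp

variable {G} (D : SpHyp G)

/-- The image of `lagU`. -/
def U : Subgroup G := lagU.map D.ψ

/-- Fusion of involutions of the model is controlled by the model. -/
def Fuse : Prop := ∀ x y : Sp62, x * x = 1 → (∃ g : G, g * D.ψ x * g⁻¹ = D.ψ y) →
  ∃ h : Sp62, h * x * h⁻¹ = y

/-- The centraliser of a set of the model lies in the model. -/
def Local (s : Set Sp62) : Prop := Subgroup.centralizer (D.ψ '' s) ≤ D.ψ.range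

/-- The facts on the Lagrangian subgroup. -/
structure LagFacts : Prop where
  fuse : D.Fuse
  cent : Subgroup.centralizer (D.U : Set G) = D.U
  norm : Subgroup.normalizer (D.U : Set G) ≤ D.ψ.range
  char : ∀ R : Subgroup G, IsPGroup 2 R → D.U ≤ R →
    Subgroup.normalizer (R : Set G) ≤ Subgroup.normalizer (D.U : Set G)
  two_part : ¬ 2 ^ 10 ∣ Nat.card G

/-- The centralisers of the small subgroups. -/
structure PairFacts : Prop where
  eight : D.Local {tv 1, tv 2, tv 3}
  four : D.Local {tv 4, rT}
  two : D.Local {tv 1, tv 2}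

/-- The centralisers of the two classes treated first. -/
structure InvFacts : Prop where
  v : D.Local {rV}
  q : D.Local {rQ}

end SpHyp

end Cfsg.Agent.Sp62Three31
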