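import Mathlib
import Cfsg.Agent.Lib.Sp62Three31Model

/-!
Computations in the model for piece P9b of S3342: transvection words on bit strings, the elementary
abelian group of a Lagrangian, and the elements used in the local arguments.
-/

set_option autoImplicit false
set_option maxRecDepth 100000

namespace Cfsg.Agent.Sp62Three31.InvModel

open Cfsg.Agent.SymplecticBasic Cfsg.Agent.PSp62MultiplierData

/-- one transvection on bit strings -/
def tw (w x : Fin 64) : Fin 64 :=
  if frm x.val w.val then ⟨x.val ^^^ w.val, Nat.xor_lt_two_pow (n := 6) x.isLt w.isLt⟩ else x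

/-- a word on bit strings -/
def wl : List (Fin 64) → Fin 64 → Fin 64
  | [], x => x
  | i :: l, x => tw i (wl l x)

/-- a word of transvections -/
def wd (l : List (Fin 64)) : Sp62 := (l.map fun i : Fin 64 => tv i.val).prod

/-- a small vector as a bit string -/
def e8 (a : Fin 8) : Fin 64 := ⟨a.val, by omega⟩

theorem e8_inj : ∀ a b : Fin 8, e8 a = e8 b → a = b := by decide

theorem vec_xor (m n : ℕ) : vec (m ^^^ n) = vec m + vec n := by
  funext i
  rcases i with i | i <;>
    (simp only [vec, Sum.elim_inl, Sum.elim_inr, Pi.add_apply, Nat.testBit_xor]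
     split <;> split <;> split <;> first | rfl | simp_all | decide)

theorem frm_ok : ∀ a b : Fin 64,
    sympForm 3 (ZMod 2) (vec a.val) (vec b.val) = if frm a.val b.val then 1 else 0 := by
  decide +kernel

theorem tw_ok (w x : Fin 64) :
    vec x.val + (1 * sympForm 3 (ZMod 2) (vec x.val) (vec w.val)) • vec w.val = vec (tw w x).val := by
  rw [one_mul, frm_ok, tw]
  split
  · rw [one_smul, vec_xor]
  · rw [zero_smul, add_zero]

/-- a faster form on bit strings -/
def frmN (u v : ℕ) : Bool :=
  Nat.beq (150 / 2 ^ (((u &&& (v / 8)) ^^^ ((u / 8) &&& v)) % 8) % 2) 1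

theorem frmN_ok : ∀ a b : Fin 64, frmN a.val b.val = frm a.val b.val := by decide +kernel

/-- a word on bit strings, without bounds -/
def wlN : List ℕ → ℕ → ℕ
  | [], x => x
  | i :: l, x => (fun y => if frmN y i then y ^^^ i else y) (wlN l x)

theorem wl_val : ∀ (l : List (Fin 64)) (x : Fin 64), (wl l x).val = wlN (l.map Fin.val) x.val
  | [], _ => rfl
  | i :: l, x => by
    simp only [List.map_cons, wlN, ← wl_val l x, frmN_ok, wl, tw]
    split <;> rfl

/-- the code of a word -/
def cd (l : List ℕ) : ℕ :=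
  wlN l 1 + 64 * (wlN l 2 + 64 * (wlN l 4 + 64 * (wlN l 8 + 64 * (wlN l 16 + 64 * wlN l 32))))

theorem tv_smul (w x : Fin 64) : tv w.val • vec x.val = vec (tw w x).val :=
  (transv_smul _ _ _).trans (tw_ok w x)

theorem wd_nil : wd [] = 1 := rfl

theorem wd_cons (i : Fin 64) (l : List (Fin 64)) : wd (i :: l) = tv i.val * wd l := List.prod_cons

theorem wd_smul : ∀ (l : List (Fin 64)) (x : Fin 64), wd l • vec x.val = vec (wl l x).val
  | [], _ => one_smul _ _
  | i :: l, x => by rw [wd_cons, mul_smul, wd_smul l x, tv_smul]; rfl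

theorem wd_append (l m : List (Fin 64)) : wd (l ++ m) = wd l * wd m := by
  rw [wd, List.map_append, List.prod_append]; rfl

theorem tv_sq (n : ℕ) : tv n * tv n = 1 := by
  unfold tv
  rw [transv_add, show (1 : ZMod 2) + 1 = 0 by decide, transv_zero]

theorem wd_inv : ∀ l : List (Fin 64), (wd l)⁻¹ = wd l.reverse
  | [] => inv_one
  | i :: l => by
    rw [wd_cons, _root_.mul_inv_rev, wd_inv l, List.reverse_cons, wd_append, wd_cons, wd_nil, mul_one,
      inv_eq_of_mul_eq_one_right (tv_sq _)]

theorem conj_tv (g : Sp62) {n m : Fin 64} (h : g • vec n.val = vec m.val) :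
    g * tv n.val * g⁻¹ = tv m.val := by
  unfold tv; rw [transv_conj, h]

theorem exists_smul (g : Sp62) (n : Fin 64) : ∃ m : Fin 64, g • vec n.val = vec m.val :=
  vec_surj _

theorem conj_wd (l : List (Fin 64)) (n : Fin 64) : wd l * tv n.val * (wd l)⁻¹ = tv (wl l n).val :=
  conj_tv _ (wd_smul l n)

theorem tv_zero : tv 0 = 1 := by
  unfold tv
  rw [show vec 0 = 0 by decide +kernel, transv_vec_zero]

theorem vec_inj : ∀ a b : Fin 64, vec a.val = vec b.val → a = b := by decide +kernel

theorem frm_map (g : Sp62) {a b a' b' : Fin 64} (ha : g • vec a.val = vec a'.val)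
    (hb : g • vec b.val = vec b'.val) : frm a'.val b'.val = frm a.val b.val := by
  have h := form_map g (vec a.val) (vec b.val)
  rw [ha, hb, frm_ok, frm_ok] at h
  revert h
  cases frm a'.val b'.val <;> cases frm a.val b.val <;> decide

/-- the six basis vectors -/
def B6 : List (Fin 64) := [1, 2, 4, 8, 16, 32]

theorem basis6 : ∀ k : Fin 3 ⊕ Fin 3, ∃ n ∈ B6, (Pi.single k 1 : V6) = vec n.val := by decide +kernel

theorem ext6 {g h : Sp62} (e : ∀ n ∈ B6, g • vec n.val = h • vec n.val) : g = h := by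
  refine ext_smul_single fun k => ?_
  obtain ⟨n, hn, hk⟩ := basis6 k
  rw [hk]; exact e n hn

/-- two words act in the same way -/
def same (l l' : List (Fin 64)) : Bool := B6.all fun x => wl l x == wl l' x

theorem wd_eq_of_same {l l' : List (Fin 64)} (h : same l l' = true) : wd l = wd l' :=
  ext6 fun n hn => by
    rw [wd_smul, wd_smul, eq_of_beq (List.all_eq_true.mp h n hn)]

theorem same_of_eq {l l' : List (Fin 64)} (h : wd l = wd l') : same l l' = true :=
  List.all_eq_true.mpr fun n _ => beq_iff_eq.mpr (vec_inj _ _ (by rw [← wd_smul, ← wd_smul, h]))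

theorem wd_single (n : Fin 64) : wd [n] = tv n.val := by rw [wd_cons, wd_nil, mul_one]

theorem tv_inj {a b : Fin 64} (h : tv a.val = tv b.val) : a = b :=
  (show ∀ a b : Fin 64, same [a] [b] = true → a = b by decide +kernel) a b
    (same_of_eq (by rw [wd_single, wd_single, h]))

theorem cd_of_same {l l' : List (Fin 64)} (h : same l l' = true) :
    cd (l.map Fin.val) = cd (l'.map Fin.val) := by
  have e : ∀ n ∈ B6, wlN (l.map Fin.val) n.val = wlN (l'.map Fin.val) n.val := fun n hn => by
    rw [← wl_val, ← wl_val, eq_of_beq (List.all_eq_true.mp h n hn)]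
  simp only [cd]
  rw [show wlN (l.map Fin.val) 1 = wlN (l'.map Fin.val) 1 from e 1 (by decide),
    show wlN (l.map Fin.val) 2 = wlN (l'.map Fin.val) 2 from e 2 (by decide),
    show wlN (l.map Fin.val) 4 = wlN (l'.map Fin.val) 4 from e 4 (by decide),
    show wlN (l.map Fin.val) 8 = wlN (l'.map Fin.val) 8 from e 8 (by decide),
    show wlN (l.map Fin.val) 16 = wlN (l'.map Fin.val) 16 from e 16 (by decide),
    show wlN (l.map Fin.val) 32 = wlN (l'.map Fin.val) 32 from e 32 (by decide)]

/-- the codes of the transvections -/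
def singles : List ℕ := (List.range 64).map fun n => cd [n]

theorem pair_cd : ((List.range 8).all fun a => (List.range 8).all fun b =>
    !(Nat.blt 0 a && Nat.blt a b) || (List.range 64).all fun w =>
      Nat.beq w a || Nat.beq w b || singles.all fun c => !(Nat.beq c (cd [a, b, w]))) = true := by
  decide +kernel

/-- A product of two of the seven transvections determines them. -/
theorem pair_unique_code (a b : Fin 8) (w n : Fin 64) (ha : 0 < a) (hab : a < b)
    (h : same [e8 a, e8 b, w] [n] = true) : w = e8 a ∨ w = e8 b := by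
  have h1 := List.all_eq_true.mp (List.all_eq_true.mp pair_cd a.val (List.mem_range.mpr a.isLt))
    b.val (List.mem_range.mpr b.isLt)
  simp only [Bool.or_eq_true, Bool.not_eq_true', Bool.and_eq_false_iff] at h1
  rcases h1 with (h1 | h1) | h1
  · exact Bool.noConfusion (h1.symm.trans (Nat.blt_eq.mpr ha))
  · exact Bool.noConfusion (h1.symm.trans (Nat.blt_eq.mpr hab))
  have h2 := List.all_eq_true.mp h1 w.val (List.mem_range.mpr w.isLt)
  simp only [Bool.or_eq_true] at h2
  rcases h2 with (h2 | h2) | h2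
  · exact Or.inl (Fin.ext (Nat.eq_of_beq_eq_true h2))
  · exact Or.inr (Fin.ext (Nat.eq_of_beq_eq_true h2))
  have h3 := List.all_eq_true.mp h2 (cd [n.val]) (List.mem_map.mpr ⟨n.val, List.mem_range.mpr n.isLt, rfl⟩)
  have e := cd_of_same h
  simp only [List.map_cons, List.map_nil] at e
  rw [show cd [a.val, b.val, w.val] = cd [n.val] from e] at h3
  simp at h3

theorem pair_comm_code : ∀ a b : Fin 8, same [e8 a, e8 b] [e8 b, e8 a] = true := by decide +kernel

theorem pair_comm (a b : Fin 8) : Commute (tv a.val) (tv b.val) := by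
  have h := wd_eq_of_same (pair_comm_code a b)
  simpa [wd_cons, wd_nil, e8, Commute, SemiconjBy] using h

theorem pair_unique {a b : Fin 8} (ha : 0 < a) (hb : 0 < b) (hab : a ≠ b) {w n : Fin 64}
    (h : tv a.val * tv b.val * tv w.val = tv n.val) : w = e8 a ∨ w = e8 b := by
  rcases lt_or_gt_of_ne hab with hlt | hlt
  · refine pair_unique_code a b w n ha hlt (same_of_eq ?_)
    rw [wd_cons, wd_cons, wd_single, wd_single, ← mul_assoc]; exact h
  · refine (pair_unique_code b a w n hb hlt (same_of_eq ?_)).symm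
    rw [wd_cons, wd_cons, wd_single, wd_single, ← mul_assoc]
    show tv b.val * tv a.val * tv w.val = tv n.val
    rw [← (pair_comm a b).eq]; exact h

theorem seven_code : ∀ a : Fin 8, 0 < a →
    same [e8 a] ((([1, 2, 3, 4, 5, 6, 7] : List (Fin 8)).filter (· != a)).map e8) = true := by
  decide +kernel

theorem ne_zero_code : ∀ a : Fin 8, 0 < a →
    ∀ b ∈ (([1, 2, 3, 4, 5, 6, 7] : List (Fin 8)).filter (· != a)), 0 < b ∧ b ≠ a := by decide

/-! ### The Lagrangian subgroup -/

theorem tv_mem (a : Fin 8) : tv a.val ∈ lagU := Subgroup.subset_closure ⟨a, rfl⟩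

theorem wd_mem_of_small : ∀ {l : List (Fin 64)}, (∀ n ∈ l, n.val < 8) → wd l ∈ lagU
  | [], _ => lagU.one_mem
  | i :: l, h => by
    rw [wd_cons]
    exact lagU.mul_mem (tv_mem ⟨i.val, h i (List.mem_cons_self ..)⟩)
      (wd_mem_of_small fun n hn => h n (List.mem_cons_of_mem _ hn))

theorem lag_commute {x y : Sp62} (hx : x ∈ lagU) (hy : y ∈ lagU) : Commute x y := by
  have h1 : lagU ≤ Subgroup.centralizer (Set.range fun n : Fin 8 => tv n.val) :=
    (Subgroup.closure_le _).mpr (by
      rintro _ ⟨a, rfl⟩; rintro _ ⟨b, rfl⟩; exact (pair_comm b a).eq)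
  have h2 : lagU ≤ Subgroup.centralizer (lagU : Set Sp62) :=
    (Subgroup.closure_le _).mpr (by
      rintro _ ⟨a, rfl⟩ z hz; exact ((h1 hz) _ ⟨a, rfl⟩).symm)
  exact ((h2 hy) x hx)

theorem lag_sq {x : Sp62} (hx : x ∈ lagU) : x * x = 1 := by
  induction hx using Subgroup.closure_induction with
  | mem x h => obtain ⟨a, rfl⟩ := h; exact tv_sq _
  | one => exact one_mul 1
  | mul x y hx hy ihx ihy => rw [(lag_commute hy hx).mul_mul_mul_comm, ihx, ihy, one_mul]
  | inv x hx ih => rw [← _root_.mul_inv_rev, ih, inv_one]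

/-- the word of a symmetric matrix -/
def uWord (p q r : Fin 8) : List (Fin 64) :=
  (if p.val.testBit 0 then [1] else []) ++ (if q.val.testBit 1 then [2] else []) ++
  (if r.val.testBit 2 then [4] else []) ++ (if p.val.testBit 1 then [1, 2, 3] else []) ++
  (if p.val.testBit 2 then [1, 4, 5] else []) ++ (if q.val.testBit 2 then [2, 4, 6] else [])

theorem uWord_small : ∀ p q r : Fin 8, ∀ n ∈ uWord p q r, n.val < 8 := by decide +kernel

theorem shift_code : ∀ j n : Fin 64, j = 8 ∨ j = 16 ∨ j = 32 →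
    (∀ a ∈ ([1, 2, 4] : List (Fin 64)), frm n.val a.val = frm j.val a.val) →
    n.val ^^^ j.val < 8 := by decide +kernel

theorem uWord_code : ∀ p q r : Fin 8,
    frm (8 ^^^ p.val) (16 ^^^ q.val) = false → frm (8 ^^^ p.val) (32 ^^^ r.val) = false →
    frm (16 ^^^ q.val) (32 ^^^ r.val) = false →
    (wl (uWord p q r) 8).val = 8 ^^^ p.val ∧ (wl (uWord p q r) 16).val = 16 ^^^ q.val ∧
    (wl (uWord p q r) 32).val = 32 ^^^ r.val ∧
    ∀ a : Fin 8, wl (uWord p q r) (e8 a) = e8 a := by decide +kernel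

/-- Elements fixing the Lagrangian lie in `lagU`. -/
theorem mem_lag {x : Sp62} (h : ∀ a : Fin 8, x • vec a.val = vec a.val) : x ∈ lagU := by
  have hy : ∀ j : Fin 64, j = 8 ∨ j = 16 ∨ j = 32 → ∃ n : Fin 64, ∃ p : Fin 8,
      x • vec j.val = vec n.val ∧ n.val = j.val ^^^ p.val := by
    intro j hj
    obtain ⟨n, hn⟩ := exists_smul x j
    refine ⟨n, ⟨n.val ^^^ j.val, shift_code j n hj ?_⟩, hn, ?_⟩
    · intro a ha
      have ha8 : a.val < 8 := by revert a; decide
      exact frm_map x hn (h ⟨a.val, ha8⟩)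
    · show n.val = j.val ^^^ (n.val ^^^ j.val)
      rw [← Nat.xor_assoc, Nat.xor_comm j.val n.val, Nat.xor_assoc, Nat.xor_self, Nat.xor_zero]
  obtain ⟨n, p, hn, hp⟩ := hy 8 (Or.inl rfl)
  obtain ⟨m, q, hm, hq⟩ := hy 16 (Or.inr (Or.inl rfl))
  obtain ⟨k, r, hk, hr⟩ := hy 32 (Or.inr (Or.inr rfl))
  have f1 : frm n.val m.val = false := (frm_map x hn hm).trans (by decide)
  have f2 : frm n.val k.val = false := (frm_map x hn hk).trans (by decide)
  have f3 : frm m.val k.val = false := (frm_map x hm hk).trans (by decide)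
  rw [hp, hq] at f1
  rw [hp, hr] at f2
  rw [hq, hr] at f3
  obtain ⟨e1, e2, e3, e4⟩ := uWord_code p q r f1 f2 f3
  have hx : x = wd (uWord p q r) := by
    refine ext6 fun i hi => ?_
    rw [wd_smul]
    simp only [B6, List.mem_cons, List.not_mem_nil, or_false] at hi
    rcases hi with rfl | rfl | rfl | rfl | rfl | rfl
    · exact (h 1).trans (congrArg (fun z : Fin 64 => vec z.val) (e4 1).symm)
    · exact (h 2).trans (congrArg (fun z : Fin 64 => vec z.val) (e4 2).symm)
    · exact (h 4).trans (congrArg (fun z : Fin 64 => vec z.val) (e4 4).symm)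
    · rw [hn, hp]; exact congrArg vec e1.symm
    · rw [hm, hq]; exact congrArg vec e2.symm
    · rw [hk, hr]; exact congrArg vec e3.symm
  rw [hx]; exact wd_mem_of_small (uWord_small p q r)

theorem fix_of_commute {x : Sp62} {a : Fin 8} (h : Commute x (tv a.val)) :
    x • vec a.val = vec a.val := by
  obtain ⟨m, hm⟩ := exists_smul x (e8 a)
  have e : m = e8 a := tv_inj ((conj_tv x hm).symm.trans (mul_inv_eq_iff_eq_mul.mpr h.eq))
  rw [e] at hm; exact hm

/-- An element centralising the product of two of the transvections permutes their vectors. -/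
theorem perm_of_commute {x : Sp62} {a b : Fin 8} (ha : 0 < a) (hb : 0 < b) (hab : a ≠ b)
    (h : Commute x (tv a.val * tv b.val)) :
    (x • vec a.val = vec a.val ∧ x • vec b.val = vec b.val) ∨
      (x • vec a.val = vec b.val ∧ x • vec b.val = vec a.val) := by
  obtain ⟨m, hm⟩ := exists_smul x (e8 a)
  obtain ⟨k, hk⟩ := exists_smul x (e8 b)
  have h1 : tv m.val * tv k.val = tv a.val * tv b.val := by
    rw [← conj_tv x hm, ← conj_tv x hk]
    calc x * tv a.val * x⁻¹ * (x * tv b.val * x⁻¹) = x * (tv a.val * tv b.val) * x⁻¹ := by group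
      _ = tv a.val * tv b.val := mul_inv_eq_iff_eq_mul.mpr h.eq
  have h2 : tv a.val * tv b.val * tv k.val = tv m.val := by
    rw [← h1, mul_assoc, tv_sq, mul_one]
  have hne : x • vec a.val ≠ x • vec b.val := fun e =>
    hab (e8_inj a b (vec_inj (e8 a) (e8 b) ((MulAction.injective x) e)))
  rcases pair_unique ha hb hab h2 with e | e
  · subst e
    have h3 : tv m.val = tv b.val := by
      rw [← h2, show tv (e8 a).val = tv a.val from rfl, (pair_comm a b).eq, mul_assoc, tv_sq, mul_one]
    have := tv_inj (a := m) (b := e8 b) h3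
    subst this
    exact Or.inr ⟨hm, hk⟩
  · subst e
    have h3 : tv m.val = tv a.val := by
      rw [← h2, show tv (e8 b).val = tv b.val from rfl, mul_assoc, tv_sq, mul_one]
    have := tv_inj (a := m) (b := e8 a) h3
    subst this
    exact Or.inl ⟨hm, hk⟩

/-- An element of odd order respecting a colouring of the seven transvections is trivial. -/
theorem odd_fix {x : Sp62} (hodd : Odd (orderOf x)) (P : Fin 8 → Prop)
    (hP : ∀ a, P a → Commute x (tv a.val))
    (hN : ∀ a b, 0 < a → 0 < b → a ≠ b → ¬ P a → ¬ P b → Commute x (tv a.val * tv b.val))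
    (hex : ∀ a, 0 < a → ¬ P a → ∃ b, 0 < b ∧ b ≠ a ∧ ¬ P b) : x = 1 := by
  have h2 : x * x ∈ lagU := mem_lag fun a => by
    by_cases ha : 0 < a
    · by_cases hp : P a
      · have := fix_of_commute (hP a hp)
        rw [mul_smul, this, this]
      · obtain ⟨b, hb, hne, hq⟩ := hex a ha hp
        rcases perm_of_commute ha hb hne.symm (hN a b ha hb hne.symm hp hq) with ⟨e, -⟩ | ⟨e, e'⟩
        · rw [mul_smul, e, e]
        · rw [mul_smul, e, e']
    · have : a = 0 := le_antisymm (not_lt.mp ha) (Fin.zero_le _)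
      subst this
      rw [show vec ((0 : Fin 8).val) = 0 by decide +kernel, smul_zero]
  have h4 : x ^ 4 = 1 := by
    rw [show x ^ 4 = (x * x) * (x * x) by rw [pow_succ, pow_succ, pow_succ, pow_one]; group]
    exact lag_sq h2
  have hd := orderOf_dvd_of_pow_eq_one h4
  refine orderOf_eq_one_iff.mp (Nat.eq_one_of_dvd_coprimes ?_ (dvd_refl _) hd)
  exact (Nat.coprime_two_right.mpr hodd).pow_right 2

/-! ### The group centralising `x₁` and the products of pairs of the other six transvections -/

/-- generators of the hyperplane of the character negative on six transvections -/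
def P5 : Set Sp62 :=
  insert (tv 1) {g | ∃ a b : Fin 8, 1 < a ∧ 1 < b ∧ g = tv a.val * tv b.val}

theorem fixed_of_P5 {x : Sp62} (h : ∀ g ∈ P5, Commute x g) : x ∈ lagU := by
  refine mem_lag fun a => ?_
  have h1 : x • vec 1 = vec 1 := fix_of_commute (a := 1) (h _ (Set.mem_insert _ _))
  by_cases ha : 1 < a
  · have hpair : ∀ b : Fin 8, 1 < b → b ≠ a → x • vec a.val = vec a.val ∨ x • vec a.val = vec b.val := by
      intro b hb hne
      rcases perm_of_commute (lt_trans (by decide) ha) (lt_trans (by decide) hb) hne.symm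
        (h _ (Set.mem_insert_of_mem _ ⟨a, b, ha, hb, rfl⟩)) with ⟨e, -⟩ | ⟨e, -⟩
      exacts [Or.inl e, Or.inr e]
    obtain ⟨b, c, hb, hc, hba, hca, hbc⟩ :=
      (show ∀ a : Fin 8, ∃ b c : Fin 8, 1 < b ∧ 1 < c ∧ b ≠ a ∧ c ≠ a ∧ b ≠ c by decide) a
    rcases hpair b hb hba with e | e
    · exact e
    rcases hpair c hc hca with e' | e'
    · exact e'
    exact absurd (e8_inj b c (vec_inj (e8 b) (e8 c) (e.symm.trans e'))) hbc
  · have : a = 0 ∨ a = 1 := by revert ha; revert a; decide
    rcases this with rfl | rfl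
    · rw [show vec ((0 : Fin 8).val) = 0 by decide +kernel, smul_zero]
    · exact h1

/-- words carrying `1` to each vector of the Lagrangian -/
def oneWords : List (List (Fin 64)) :=
  [[], [3, 24, 27], [5, 40, 45], [2, 8, 10], [4, 8, 12], [4, 16, 20, 3, 24, 27], [6, 8, 14]]

theorem one_code : ∀ c : Fin 8, 0 < c → ∃ l ∈ oneWords, wl l (e8 1) = e8 c ∧
    ∀ a : Fin 8, 1 < a → ∃ b : Fin 8, 0 < b ∧ b ≠ c ∧ wl l (e8 a) = e8 b := by decide +kernel

/-- words carrying `(1,2)` to each pair of vectors of the Lagrangian -/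
def twoWords : List (List (Fin 64)) :=
  [[], [3, 24, 27, 2, 8, 10, 3, 24, 27], [2, 32, 34, 4, 16, 20], [3, 24, 27, 2, 32, 34, 5,
  40, 45, 3, 24, 27], [4, 16, 20], [3, 24, 27, 6, 8, 14, 3, 24, 27], [2, 8, 10, 3, 24, 27],
  [5, 40, 45, 3, 24, 27], [4, 8, 12, 3, 24, 27], [2, 32, 34, 5, 40, 45, 3, 24, 27], [6, 8,
  14, 3, 24, 27], [5, 40, 45, 4, 16, 20, 3, 24, 27], [3, 24, 27, 2, 8, 10, 4, 16, 20], [2,
  8, 10, 4, 16, 20], [5, 40, 45, 4, 16, 20, 2, 8, 10, 3, 24, 27], [4, 8, 12, 3, 24, 27, 5,
  40, 45], [4, 16, 20, 5, 40, 45], [6, 8, 14, 3, 24, 27, 5, 40, 45], [4, 16, 20, 4, 8, 12],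
  [6, 8, 14, 3, 24, 27, 2, 8, 10], [4, 16, 20, 2, 8, 10, 3, 24, 27]]

theorem two_code : ∀ a b : Fin 8, 0 < a → a < b → ∃ l ∈ twoWords,
    wl l (e8 1) = e8 a ∧ wl l (e8 2) = e8 b := by decide +kernel

/-- first elation with centre `x₁` -/
def el1 : List (Fin 64) := [1, 16, 17]

/-- second elation with centre `x₁` -/
def el2 : List (Fin 64) := [1, 32, 33]

/-- element of order three fixing `x₁` -/
def rot : List (Fin 64) := [2, 32, 34, 4, 16, 20]

/-- elements generating the Klein group and its complement -/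
def stabWords : List (List (Fin 64)) := [el1, el2, rot]

theorem stab_code : ∀ l ∈ stabWords, wl l (e8 1) = e8 1 ∧
    ∀ a : Fin 8, 1 < a → ∃ b : Fin 8, 1 < b ∧ wl l (e8 a) = e8 b := by decide +kernel

theorem stab_P5 {l : List (Fin 64)} (hl : l ∈ stabWords) {g : Sp62} (hg : g ∈ P5) :
    wd l * g * (wd l)⁻¹ ∈ P5 := by
  obtain ⟨h1, h2⟩ := stab_code l hl
  rcases hg with rfl | ⟨a, b, ha, hb, rfl⟩
  · refine Or.inl ?_
    have h := conj_wd l (e8 1)
    rw [h1] at h; exact h
  · obtain ⟨a', ha', ea⟩ := h2 a ha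
    obtain ⟨b', hb', eb⟩ := h2 b hb
    refine Or.inr ⟨a', b', ha', hb', ?_⟩
    have e1 := conj_wd l (e8 a)
    have e2 := conj_wd l (e8 b)
    rw [ea] at e1; rw [eb] at e2
    calc wd l * (tv a.val * tv b.val) * (wd l)⁻¹
        = wd l * tv a.val * (wd l)⁻¹ * (wd l * tv b.val * (wd l)⁻¹) := by group
      _ = tv a'.val * tv b'.val := by
          rw [show wd l * tv a.val * (wd l)⁻¹ = tv a'.val from e1,
            show wd l * tv b.val * (wd l)⁻¹ = tv b'.val from e2]

theorem A4_rel : wd el1 * wd el1 = 1 ∧ wd el2 * wd el2 = 1 ∧ wd el1 * wd el2 = wd el2 * wd el1 ∧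
    wd rot * wd el1 = wd el1 * wd el2 * wd rot ∧ wd rot * wd el2 = wd el1 * wd rot := by
  simp only [← wd_append, ← wd_nil]
  refine ⟨?_, ?_, ?_, ?_, ?_⟩ <;> exact wd_eq_of_same (by decide +kernel)

theorem rot_three : ∀ l ∈ [rot, el1 ++ rot, el2 ++ rot, el1 ++ el2 ++ rot],
    same (l ++ (l ++ l)) [] = true ∧ same l [] = false := by decide +kernel

theorem orderOf_wd {l : List (Fin 64)} (h : same (l ++ (l ++ l)) [] = true) (h' : same l [] = false) :
    orderOf (wd l) = 3 := by
  have : Fact (Nat.Prime 3) := ⟨Nat.prime_three⟩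
  refine orderOf_eq_prime ?_ fun e => by
    rw [← wd_nil] at e
    rw [same_of_eq e] at h'; exact Bool.noConfusion h'
  rw [pow_succ', pow_succ', pow_one, ← wd_append, ← wd_append, ← wd_nil]
  exact wd_eq_of_same h

/-! ### The radical of the centraliser of a transvection -/

/-- generators -/
def Wgens : List (List (Fin 64)) := [[1], [1, 2, 3], [1, 4, 5], el1, el2]

/-- two elements of order three normalising the radical -/
def torus : List (List (Fin 64)) := [[2, 16], [4, 32]]

/-- subproducts -/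
def subWords : List (List (Fin 64)) → List (List (Fin 64))
  | [] => [[]]
  | g :: L => subWords L ++ (subWords L).map (g ++ ·)

theorem torus_code : ∀ t ∈ torus, ∀ g ∈ Wgens,
    ∃ s ∈ subWords Wgens, same (t ++ g ++ t.reverse) s = true := by decide +kernel

theorem torus_three : ∀ l ∈ torus, same (l ++ (l ++ l)) [] = true ∧ same l [] = false := by
  decide +kernel

theorem torus_comm : same ([2, 16] ++ [4, 32]) ([4, 32] ++ [2, 16]) = true ∧
    same [2, 16] [] = false ∧ same [2, 16] [4, 32] = false ∧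
    same [2, 16] ([4, 32] ++ [4, 32]) = false := by decide +kernel

theorem subWords_mem {L : List (List (Fin 64))} {S : Subgroup Sp62} (h : ∀ g ∈ L, wd g ∈ S) :
    ∀ s ∈ subWords L, wd s ∈ S := by
  induction L with
  | nil => intro s hs; rw [subWords, List.mem_singleton] at hs; subst hs; exact S.one_mem
  | cons g L ih =>
    intro s hs
    have ih' := ih fun g' hg' => h g' (List.mem_cons_of_mem _ hg')
    rw [subWords, List.mem_append, List.mem_map] at hs
    rcases hs with hs | ⟨s', hs', rfl⟩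
    · exact ih' s hs
    · rw [wd_append]; exact S.mul_mem (h g (List.mem_cons_self ..)) (ih' s' hs')

theorem rad_code : ∀ w ∈ ([2, 4, 16, 32] : List (Fin 64)),
    ∀ n p : Fin 64, p.val = 1 ^^^ n.val →
      same [1, n, p] [1, w, ⟨1 ^^^ w.val, Nat.xor_lt_two_pow (n := 6) (by decide) w.isLt⟩] = true →
      n = w ∨ n.val = w.val ^^^ 1 := by decide +kernel

theorem eight_code : ∀ m : Fin 64,
    (∀ b ∈ ([1, 2, 4, 16, 32] : List (Fin 64)), frm m.val b.val = frm 8 b.val) →
    m = 8 ∨ m = 9 := by decide +kernel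

/-- An element centralising the radical has order dividing four. -/
theorem rad_pow_four {x : Sp62} (h : ∀ g ∈ Wgens, Commute x (wd g)) : x ^ 4 = 1 := by
  have h1 : x • vec 1 = vec 1 := by
    refine fix_of_commute (a := 1) ?_
    have := h [1] (List.mem_cons_self ..)
    rw [wd_single] at this; exact this
  have hw : ∀ w ∈ ([2, 4, 16, 32] : List (Fin 64)),
      x • (x • vec w.val) = vec w.val := by
    intro w hwl
    obtain ⟨n, hn⟩ := exists_smul x w
    set w' : Fin 64 := ⟨1 ^^^ w.val, Nat.xor_lt_two_pow (n := 6) (by decide) w.isLt⟩ with hw'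
    have hv : vec w'.val = vec 1 + vec w.val :=
      (show ∀ w : Fin 64, vec (1 ^^^ w.val) = vec 1 + vec w.val by decide +kernel) w
    obtain ⟨p, hp⟩ := exists_smul x w'
    have hpn : p.val = 1 ^^^ n.val := by
      have e : vec p.val = vec (1 ^^^ n.val) := by
        rw [← hp, hv, smul_add, h1, hn]
        exact ((show ∀ w : Fin 64, vec (1 ^^^ w.val) = vec 1 + vec w.val by decide +kernel) n).symm
      exact congrArg Fin.val
        (vec_inj p ⟨1 ^^^ n.val, Nat.xor_lt_two_pow (n := 6) (by decide) n.isLt⟩ e)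
    have hc : Commute x (wd [1, w, w']) := by
      refine h _ ?_
      have : w = 2 ∨ w = 4 ∨ w = 16 ∨ w = 32 := by simpa using hwl
      rcases this with rfl | rfl | rfl | rfl <;> decide
    have hc' : x * wd [1, w, w'] * x⁻¹ = wd [1, w, w'] := mul_inv_eq_iff_eq_mul.mpr hc.eq
    have key : wd [1, n, p] = wd [1, w, w'] := by
      refine Eq.trans ?_ hc'
      simp only [wd_cons, wd_nil, mul_one]
      rw [show x * (tv (1 : Fin 64).val * (tv w.val * tv w'.val)) * x⁻¹ =
          x * tv (1 : Fin 64).val * x⁻¹ * (x * tv w.val * x⁻¹ * (x * tv w'.val * x⁻¹)) by group,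
        conj_tv x (n := 1) (m := 1) h1, conj_tv x hn, conj_tv x hp]
    rcases rad_code w hwl n p hpn (same_of_eq key) with e | e
    · subst e; rw [hn, hn]
    · have hx1 : vec n.val = vec 1 + vec w.val := by
        rw [e, Nat.xor_comm]; exact hv
      rw [hn, hx1, smul_add, h1, hn, hx1, ← add_assoc,
        show (vec 1 + vec 1 : V6) = 0 by decide +kernel, zero_add]
  have hy : ∀ b ∈ ([1, 2, 4, 16, 32] : List (Fin 64)), (x * x) • vec b.val = vec b.val := by
    intro b hb
    rw [List.mem_cons] at hb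
    rcases hb with rfl | hb
    · rw [mul_smul]; exact (congrArg (x • ·) h1).trans h1
    · rw [mul_smul]; exact hw b hb
  obtain ⟨m, hm⟩ := exists_smul (x * x) 8
  have hm' : m = 8 ∨ m = 9 :=
    eight_code m fun b hb => frm_map (x * x) hm (hy b hb)
  have h8 : (x * x) • ((x * x) • vec 8) = vec 8 := by
    rcases hm' with rfl | rfl
    · exact (congrArg ((x * x) • ·) hm).trans hm
    · rw [show (x * x) • vec 8 = vec 9 from hm,
        show (vec 9 : V6) = vec 1 + vec 8 by decide +kernel, smul_add,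
        show (x * x) • vec 1 = vec 1 from hy 1 (by decide), show (x * x) • vec 8 = vec 9 from hm,
        show (vec 9 : V6) = vec 1 + vec 8 by decide +kernel, ← add_assoc,
        show (vec 1 + vec 1 : V6) = 0 by decide +kernel, zero_add]
  refine ext6 fun b hb => ?_
  rw [show x ^ 4 = (x * x) * (x * x) by rw [pow_succ, pow_succ, pow_succ, pow_one]; group,
    one_smul, mul_smul]
  simp only [B6, List.mem_cons, List.not_mem_nil, or_false] at hb
  rcases hb with rfl | rfl | rfl | rfl | rfl | rfl
  case inr.inr.inr.inl => exact h8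
  all_goals rw [hy _ (by decide), hy _ (by decide)]

/-! ### The classes of `rV` and `rQ` -/

/-- the exchange of `x₁` and `x₂` -/
def swapW : List (Fin 64) := [3, 24, 27]

theorem swap_code : wl swapW (e8 1) = e8 2 ∧ wl swapW (e8 2) = e8 1 := by decide +kernel

theorem rT_code : ∀ n : Fin 64, frm (wl [1, 2, 3] n).val n.val = false := by decide +kernel

theorem rQ_code : ∀ w : Fin 64, (∀ n : Fin 64, frm (wl [w, 4, 1, 2, 3] n).val n.val = false) →
    w = 4 := by decide +kernel

/-- The only transvection whose product with `rQ` is a conjugate of `rT` is `tv 4`. -/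
theorem rQ_unique {w : Fin 64} {h : Sp62} (e : h * rT * h⁻¹ = tv w.val * rQ) : w = 4 := by
  have hT : wd [1, 2, 3] = rT := by
    simp only [wd_cons, wd_nil, mul_one, rT, mul_assoc]; rfl
  have hQ : wd [w, 4, 1, 2, 3] = tv w.val * rQ := by
    simp only [wd_cons, wd_nil, mul_one, rQ, rT, mul_assoc]; rfl
  refine rQ_code w fun n => ?_
  obtain ⟨m, hm⟩ := exists_smul h⁻¹ n
  have h1 : h • vec m.val = vec n.val := by rw [← hm, smul_inv_smul]
  have h2 : h • vec (wl [1, 2, 3] m).val = vec (wl [w, 4, 1, 2, 3] n).val := by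
    rw [← wd_smul, ← wd_smul, hQ, hT, ← e, mul_smul, mul_smul, hm]
  rw [frm_map h h2 h1]; exact rT_code m

end Cfsg.Agent.Sp62Three31.InvModel
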