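import Mathlib
import Cfsg.Agent.Lib.Sp62Three31InvModel
import Cfsg.Agent.Lib.CoprimeGen

/-!
Piece P9b of S3342, odd subgroups normalised by the image of `lagU`: they are trivial once the
centraliser of two orthogonal transvections lies in the model.
-/

set_option autoImplicit false

namespace Cfsg.Agent.Sp62Three31.InvCore

open InvModel Cfsg.Agent.CoprimeGen

attribute [local irreducible] tv

universe u

variable {G : Type u} [Group G] (D : SpHyp G)

theorem wd_eight (a : Fin 8) : wd [e8 a] = tv a.val := wd_single (e8 a)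

theorem pow_three_eq {H : Type*} [Group H] {g : H} (h : orderOf g = 3) : g ^ 3 = 1 :=
  h ▸ pow_orderOf_eq_one g

theorem comm_of_map {x y : Sp62} (h : Commute (D.ψ x) (D.ψ y)) : Commute x y :=
  D.inj (by rw [map_mul, map_mul]; exact h.eq)

theorem map_comm {x y : Sp62} (h : Commute x y) : Commute (D.ψ x) (D.ψ y) := h.map D.ψ

theorem comm_of_mem {s : Set Sp62} {y : G} (hy : y ∈ Subgroup.centralizer (D.ψ '' s)) {g : Sp62}
    (hg : g ∈ s) : Commute y (D.ψ g) :=
  (Subgroup.mem_centralizer_iff.mp hy _ ⟨g, hg, rfl⟩).symm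

theorem mem_cent {s : Set Sp62} {y : G} (h : ∀ g ∈ s, Commute y (D.ψ g)) :
    y ∈ Subgroup.centralizer (D.ψ '' s) := by
  rw [Subgroup.mem_centralizer_iff]
  rintro _ ⟨g, hg, rfl⟩
  exact (h g hg).eq.symm

theorem comm_of_cent_closure {s : Set Sp62} {y : G} (hy : y ∈ Subgroup.centralizer (D.ψ '' s))
    {g : Sp62} (hg : g ∈ Subgroup.closure s) : Commute y (D.ψ g) := by
  induction hg using Subgroup.closure_induction with
  | mem x h => exact comm_of_mem D hy h
  | one => rw [map_one]; exact Commute.one_right y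
  | mul a b _ _ ha hb => rw [map_mul]; exact ha.mul_right hb
  | inv a _ ha => rw [map_inv]; exact ha.inv_right

theorem local_conj {s : Set Sp62} (hs : D.Local s) (h : Sp62) :
    D.Local ((fun g => h * g * h⁻¹) '' s) := by
  intro y hy
  have h' : (D.ψ h)⁻¹ * y * D.ψ h ∈ D.ψ.range := hs (mem_cent D fun g hg => by
    have hc := (comm_of_mem D hy (g := h * g * h⁻¹) ⟨g, hg, rfl⟩).conj (D.ψ h)⁻¹
    rw [inv_inv, map_mul, map_mul, map_inv] at hc
    have e : (D.ψ h)⁻¹ * (D.ψ h * D.ψ g * (D.ψ h)⁻¹) * D.ψ h = D.ψ g := by group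
    rw [e] at hc; exact hc)
  have e : y = D.ψ h * ((D.ψ h)⁻¹ * y * D.ψ h) * (D.ψ h)⁻¹ := by group
  rw [e]; exact mul_mem (mul_mem ⟨h, rfl⟩ h') (inv_mem ⟨h, rfl⟩)

theorem local_mono {s t : Set Sp62} (hs : D.Local s) (hst : s ⊆ Subgroup.closure t) : D.Local t :=
  fun _ hy => hs (mem_cent D fun _ hg => comm_of_cent_closure D hy (hst hg))

theorem mem_U {g : Sp62} (hg : g ∈ lagU) : D.ψ g ∈ D.U := Subgroup.mem_map_of_mem _ hg

theorem U_cases {y : G} (hy : y ∈ D.U) : ∃ g ∈ lagU, D.ψ g = y := hy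

theorem U_sq {y : G} (hy : y ∈ D.U) : y * y = 1 := by
  obtain ⟨g, hg, rfl⟩ := U_cases D hy
  rw [← map_mul, lag_sq hg, map_one]

theorem eq_one_of_odd_sq {H : Type*} [Group H] {x : H} (ho : Odd (orderOf x)) (h : x * x = 1) :
    x = 1 := by
  refine orderOf_eq_one_iff.mp (Nat.eq_one_of_dvd_coprimes (Nat.coprime_two_right.mpr ho)
    (dvd_refl _) (orderOf_dvd_of_pow_eq_one ?_))
  rw [pow_two]; exact h

theorem odd_orderOf [Finite G] {X : Subgroup G} (hX : Odd (Nat.card X)) {x : G} (hx : x ∈ X) :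
    Odd (orderOf x) :=
  Odd.of_dvd_nat hX (Subgroup.orderOf_dvd_natCard _ hx)

/-- An element of order three centralised by a given element of order three. -/
theorem exists_fixed [Finite G] (M : Subgroup G) {t : G} (ht : t ∈ Subgroup.normalizer (M : Set G))
    (ht3 : t ^ 3 = 1) (h3 : 3 ∣ Nat.card M) : ∃ x ∈ M, orderOf x = 3 ∧ Commute t x := by
  have : Fact (Nat.Prime 3) := ⟨Nat.prime_three⟩
  set C : Subgroup M := (Subgroup.centralizer ({t} : Set G)).subgroupOf M with hC
  let N := Subgroup.normalizer (M : Set G)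
  let act : MulAction (Subgroup.zpowers t) M :=
    { smul := fun g x => ⟨(g : G) * x * (g : G)⁻¹,
        (Subgroup.mem_normalizer_iff.mp ((Subgroup.zpowers_le.mpr ht : _ ≤ N) g.2) x).mp x.2⟩
      one_smul := fun x => Subtype.ext (by
        show ((1 : Subgroup.zpowers t) : G) * (x : G) * ((1 : Subgroup.zpowers t) : G)⁻¹ = x
        simp)
      mul_smul := fun g g' x => Subtype.ext (by
        show ((g * g' : Subgroup.zpowers t) : G) * (x : G) * ((g * g' : Subgroup.zpowers t) : G)⁻¹ =
          (g : G) * ((g' : G) * (x : G) * (g' : G)⁻¹) * (g : G)⁻¹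
        simp only [Subgroup.coe_mul]; group) }
  have hp : IsPGroup 3 (Subgroup.zpowers t) := by
    obtain ⟨k, -, hk⟩ := (Nat.dvd_prime_pow Nat.prime_three).mp
      (by rw [pow_one]; exact orderOf_dvd_of_pow_eq_one ht3 : orderOf t ∣ 3 ^ 1)
    exact IsPGroup.of_card (n := k) (by rw [Nat.card_zpowers, hk])
  have hfix : MulAction.fixedPoints (Subgroup.zpowers t) M = (C : Set M) := by
    ext x
    rw [MulAction.mem_fixedPoints, SetLike.mem_coe, hC, Subgroup.mem_subgroupOf,
      Subgroup.mem_centralizer_singleton_iff]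
    constructor
    · intro h
      have h1 : t * (x : G) * t⁻¹ = x :=
        congrArg Subtype.val (h ⟨t, Subgroup.mem_zpowers t⟩)
      exact (mul_inv_eq_iff_eq_mul.mp h1).symm
    · intro h g
      obtain ⟨k, hk⟩ := Subgroup.mem_zpowers_iff.mp g.2
      refine Subtype.ext ?_
      show (g : G) * (x : G) * (g : G)⁻¹ = x
      rw [← hk]
      exact mul_inv_eq_iff_eq_mul.mpr ((show Commute t (x : G) from h.symm).zpow_left k).eq
  have h := hp.card_modEq_card_fixedPoints M
  rw [Nat.card_congr (Equiv.setCongr hfix)] at h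
  have h3C : 3 ∣ Nat.card C := Nat.modEq_zero_iff_dvd.mp (h.symm.trans (Nat.modEq_zero_iff_dvd.mpr h3))
  obtain ⟨c, hc⟩ := exists_prime_orderOf_dvd_card' 3 h3C
  refine ⟨((c : M) : G), (c : M).2, ?_, ?_⟩
  · rw [Subgroup.orderOf_coe, Subgroup.orderOf_coe, hc]
  · exact (Subgroup.mem_centralizer_singleton_iff.mp c.2).symm

/-- The centraliser of the radical of a transvection centraliser lies in the model. -/
theorem local_rad [Finite G] : D.Local {g | ∃ l ∈ Wgens, g = wd l} := by
  have : Fact (Nat.Prime 3) := ⟨Nat.prime_three⟩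
  set s : Set Sp62 := {g | ∃ l ∈ Wgens, g = wd l}
  set M := Subgroup.centralizer (D.ψ '' s) with hM
  have ho : ∀ t ∈ torus, orderOf (wd t) = 3 := fun t ht =>
    orderOf_wd (torus_three t ht).1 (torus_three t ht).2
  have hnorm : ∀ t ∈ torus, D.ψ (wd t) ∈ Subgroup.normalizer (M : Set G) := by
    intro t ht
    have hgen : ∀ g ∈ s, wd t * g * (wd t)⁻¹ ∈ Subgroup.closure s := by
      rintro _ ⟨l, hl, rfl⟩
      obtain ⟨r, hr, he⟩ := torus_code t ht l hl
      rw [wd_inv, ← wd_append, ← wd_append, wd_eq_of_same he]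
      exact subWords_mem (fun g hg => Subgroup.subset_closure (⟨g, hg, rfl⟩ : wd g ∈ s)) r hr
    have hclo : ∀ g ∈ Subgroup.closure s, wd t * g * (wd t)⁻¹ ∈ Subgroup.closure s := by
      intro g hg
      induction hg using Subgroup.closure_induction with
      | mem x h => exact hgen x h
      | one => simp
      | mul a b _ _ ha hb => rw [show wd t * (a * b) * (wd t)⁻¹ =
          wd t * a * (wd t)⁻¹ * (wd t * b * (wd t)⁻¹) by group]; exact mul_mem ha hb
      | inv a _ ha => rw [show wd t * a⁻¹ * (wd t)⁻¹ = (wd t * a * (wd t)⁻¹)⁻¹ by group]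
                      exact inv_mem ha
    have h3 : (wd t) ^ 3 = 1 := pow_three_eq (ho t ht)
    have hinv : ∀ g ∈ s, (wd t)⁻¹ * g * wd t ∈ Subgroup.closure s := by
      intro g hg
      have := hclo _ (hgen g hg)
      have e : (wd t)⁻¹ = wd t * wd t := by
        refine inv_eq_of_mul_eq_one_right ?_
        rw [← h3, pow_succ', pow_succ', pow_one]
      rw [show wd t * (wd t * g * (wd t)⁻¹) * (wd t)⁻¹ = wd t * wd t * g * (wd t * wd t)⁻¹ by group,
        ← e, inv_inv] at this
      exact this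
    rw [Subgroup.mem_normalizer_iff]
    intro x
    constructor
    · intro hx
      refine mem_cent D fun g hg => ?_
      have hc := (comm_of_cent_closure D hx (hinv g hg)).conj (D.ψ (wd t))
      rw [map_mul, map_mul, map_inv] at hc
      rw [show D.ψ (wd t) * ((D.ψ (wd t))⁻¹ * D.ψ g * D.ψ (wd t)) * (D.ψ (wd t))⁻¹ = D.ψ g by group]
        at hc
      exact hc
    · intro hx
      refine mem_cent D fun g hg => ?_
      have hc := (comm_of_cent_closure D hx (hgen g hg)).conj (D.ψ (wd t))⁻¹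
      rw [inv_inv, map_mul, map_mul, map_inv] at hc
      rw [show (D.ψ (wd t))⁻¹ * (D.ψ (wd t) * x * (D.ψ (wd t))⁻¹) * D.ψ (wd t) = x by group,
        show (D.ψ (wd t))⁻¹ * (D.ψ (wd t) * D.ψ g * (D.ψ (wd t))⁻¹) * D.ψ (wd t) = D.ψ g by group]
        at hc
      exact hc
  have hpow : ∀ t ∈ torus, D.ψ (wd t) ^ 3 = 1 := fun t ht => by
    rw [← map_pow, pow_three_eq (ho t ht), map_one]
  have h3 : ¬ 3 ∣ Nat.card M := by
    intro h3
    obtain ⟨x, hxM, hx3, hxt⟩ := exists_fixed M (hnorm [2, 16] (List.mem_cons_self ..))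
      (hpow _ (List.mem_cons_self ..)) h3
    obtain ⟨y, rfl⟩ := D.three (wd [2, 16]) (ho _ (List.mem_cons_self ..))
      (Subgroup.mem_centralizer_singleton_iff.mpr hxt.eq.symm)
    rw [orderOf_injective D.ψ D.inj] at hx3
    have h4 := rad_pow_four (x := y) fun l hl => comm_of_map D (comm_of_mem D hxM ⟨l, hl, rfl⟩)
    have := orderOf_dvd_of_pow_eq_one h4
    rw [hx3] at this
    norm_num at this
  have hm1 : ([2, 16] : List (Fin 64)) ∈ torus := List.mem_cons_self ..
  have hm2 : ([4, 32] : List (Fin 64)) ∈ torus := List.mem_cons_of_mem _ (List.mem_cons_self ..)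
  set a := wd ([2, 16] : List (Fin 64))
  set b := wd ([4, 32] : List (Fin 64))
  obtain ⟨c1, c2, c3, c4⟩ := torus_comm
  have hab : Commute a b := by
    have := wd_eq_of_same c1
    rw [wd_append, wd_append] at this; exact this
  have hb1 : D.ψ b ≠ 1 := fun e => by
    rw [← map_one D.ψ] at e
    have := D.inj e
    have hob : orderOf b = 3 := ho _ hm2
    rw [this, orderOf_one] at hob; norm_num at hob
  have hnm : D.ψ a ∉ Subgroup.zpowers (D.ψ b) := by
    intro hm
    obtain ⟨k, hk⟩ := (isOfFinOrder_of_finite (D.ψ b)).mem_powers_iff_mem_zpowers.mpr hm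
    have hob : orderOf b = 3 := ho _ hm2
    have hk' : D.ψ b ^ (k % 3) = D.ψ a := by
      simp only at hk
      rw [← hk, ← pow_mod_orderOf (D.ψ b) k, orderOf_injective D.ψ D.inj, hob]
    rw [← map_pow] at hk'
    have e := D.inj hk'
    have : k % 3 = 0 ∨ k % 3 = 1 ∨ k % 3 = 2 := by omega
    rcases this with h | h | h <;> rw [h] at e
    · rw [pow_zero, ← wd_nil] at e; rw [same_of_eq e.symm] at c2; exact Bool.noConfusion c2
    · rw [pow_one] at e; rw [same_of_eq e.symm] at c3; exact Bool.noConfusion c3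
    · rw [pow_two, ← wd_append] at e; rw [same_of_eq e.symm] at c4; exact Bool.noConfusion c4
  have hP : IsPairAction 3 (D.ψ a) (D.ψ b) M :=
    ⟨map_comm D hab, hpow _ hm1, hpow _ hm2, hb1, hnm, hnorm _ hm1, hnorm _ hm2⟩
  refine le_of_pair_centralizers (p := 3) hP h3 fun e he he1 => ?_
  obtain ⟨m, n, rfl⟩ := mem_pairSubgroup_iff.mp he
  rw [← map_zpow, ← map_zpow, ← map_mul] at he1 ⊢
  refine inf_le_right.trans (D.three _ (orderOf_eq_prime ?_ fun h => he1 (by rw [h, map_one])))
  have ha3 : a ^ 3 = 1 := pow_three_eq (ho _ hm1)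
  have hb3 : b ^ 3 = 1 := pow_three_eq (ho _ hm2)
  rw [(hab.zpow_zpow m n).mul_pow, ← zpow_natCast, ← zpow_mul, mul_comm m, zpow_mul, zpow_natCast,
    ha3, one_zpow, one_mul, ← zpow_natCast, ← zpow_mul, mul_comm n, zpow_mul, zpow_natCast, hb3,
    one_zpow]

/-- Averaging over a group `A4` of automorphisms of an abelian group of odd order. -/
theorem a4_fix {A : Type*} [CommGroup A] (hodd : ∀ x : A, Odd (orderOf x)) (a b c : A →* A)
    (haa : ∀ x, a (a x) = x) (hbb : ∀ x, b (b x) = x) (hab : ∀ x, a (b x) = b (a x))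
    (hca : ∀ x, c (a x) = a (b (c x))) (hcb : ∀ x, c (b x) = a (c x))
    (n1 : ∀ x, x * c x * c (c x) = 1)
    (n2 : ∀ x, x * a (c x) * a (c (a (c x))) = 1)
    (n3 : ∀ x, x * b (c x) * b (c (b (c x))) = 1)
    (n4 : ∀ x, x * a (b (c x)) * a (b (c (a (b (c x))))) = 1) (x : A) :
    a x = x ∧ b x = x := by
  let N : A → A := fun y => y * a y * b y * a (b y)
  have hN : ∀ y, y ^ 4 = N y := by
    intro y
    have e2 : a (c (a (c y))) = b (c (c y)) := by rw [hca, haa]
    have e3 : b (c (b (c y))) = a (b (c (c y))) := by rw [hcb, hab]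
    have e4 : a (b (c (a (b (c y))))) = a (c (c y)) := by
      simp only [hca, hcb]; simp only [← hab, haa, hbb]
    have hc : ∀ z, N (c z) = c (N z) := by
      intro z
      simp only [N, map_mul, hca, hcb, haa, ← hab, hbb]
      simp only [mul_comm, mul_left_comm, mul_assoc]
    have hn : N y * N (c y) * N (c (c y)) = 1 := by
      rw [hc y, hc (c y), hc y]; exact n1 (N y)
    have hp : (y * c y * c (c y)) * (y * a (c y) * b (c (c y))) *
        (y * b (c y) * a (b (c (c y)))) * (y * a (b (c y)) * a (c (c y))) = 1 := by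
      have q2 := n2 y
      have q3 := n3 y
      have q4 := n4 y
      rw [e2] at q2; rw [e3] at q3; rw [e4] at q4
      rw [n1, q2, q3, q4]; simp
    have hp' : y ^ 4 * (N (c y) * N (c (c y))) = 1 := by
      rw [← hp]
      simp only [N, pow_succ, pow_zero, one_mul, mul_comm, mul_left_comm, mul_assoc]
    rw [mul_assoc] at hn
    exact mul_right_cancel (hp'.trans hn.symm)
  have key : ∀ y z : A, N y = N z → y = z := by
    intro y z h
    rw [← hN, ← hN] at h
    have h4 : (y * z⁻¹) ^ 4 = 1 := by rw [mul_pow, inv_pow, h, mul_inv_cancel]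
    have := Nat.eq_one_of_dvd_coprimes ((Nat.coprime_two_right.mpr (hodd (y * z⁻¹))).pow_right 2)
      (dvd_refl _) (orderOf_dvd_of_pow_eq_one h4)
    exact mul_inv_eq_one.mp (orderOf_eq_one_iff.mp this)
  refine ⟨key _ _ ?_, key _ _ ?_⟩
  · simp only [N, haa, ← hab, hbb]; simp only [mul_comm, mul_left_comm, mul_assoc]
  · simp only [N, hbb, ← hab, haa]; simp only [mul_comm, mul_left_comm, mul_assoc]

theorem P5_le_lag : ∀ g ∈ P5, g ∈ lagU := by
  rintro g (rfl | ⟨a, b, -, -, rfl⟩)
  · exact tv_mem 1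
  · exact mul_mem (tv_mem a) (tv_mem b)

theorem stab_inv {l : List (Fin 64)} (hl : l ∈ stabWords) {g : Sp62} (hg : g ∈ P5) :
    (wd l)⁻¹ * g * wd l ∈ P5 := by
  have hk : ∀ k : ℕ, ∀ g ∈ P5, wd l ^ k * g * (wd l ^ k)⁻¹ ∈ P5 := by
    intro k
    induction k with
    | zero => intro g hg; simpa using hg
    | succ k ih =>
      intro g hg
      have := stab_P5 hl (ih g hg)
      rw [pow_succ']
      rwa [show wd l * (wd l ^ k * g * (wd l ^ k)⁻¹) * (wd l)⁻¹ =
        wd l * wd l ^ k * g * (wd l * wd l ^ k)⁻¹ by group] at this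
  have h := hk (orderOf (wd l) - 1) g hg
  have e : wd l ^ (orderOf (wd l) - 1) = (wd l)⁻¹ := by
    refine eq_inv_of_mul_eq_one_left ?_
    rw [← pow_succ, Nat.sub_add_cancel (orderOf_pos _), pow_orderOf_eq_one]
  rwa [e, inv_inv] at h

/-- The centraliser of the special hyperplane of `U` lies in the model. -/
theorem local_P5 [Finite G] (hL : D.LagFacts) : D.Local P5 := by
  have : Fact (Nat.Prime 2) := ⟨Nat.prime_two⟩
  set C := Subgroup.centralizer (D.ψ '' P5) with hC
  have hUC : D.U ≤ C := by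
    intro y hy
    obtain ⟨g, hg, rfl⟩ := U_cases D hy
    exact mem_cent D fun k hk => map_comm D (lag_commute hg (P5_le_lag k hk))
  have hCU : ∀ y ∈ C, y ∈ D.ψ.range → y ∈ D.U := by
    rintro _ hy ⟨g, rfl⟩
    exact mem_U D (fixed_of_P5 fun k hk => comm_of_map D (comm_of_mem D hy hk))
  set U' := D.U.subgroupOf C with hU'
  have hU2 : IsPGroup 2 U' := fun g => ⟨1, Subtype.ext (Subtype.ext (by
    rw [pow_one, pow_two]; exact U_sq D g.2))⟩
  have hnU : ∀ g : C, g ∈ Subgroup.normalizer (U' : Set C) → g ∈ U' := by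
    intro g hg
    refine hCU _ g.2 (hL.norm ?_)
    rw [Subgroup.mem_normalizer_iff]
    intro x
    constructor
    · intro hx
      exact (Subgroup.mem_normalizer_iff.mp hg ⟨x, hUC hx⟩).mp hx
    · intro hx
      have h := (Subgroup.mem_normalizer_iff.mp (inv_mem hg) ⟨_, hUC hx⟩).mp hx
      have e : (g : G)⁻¹ * ((g : G) * x * (g : G)⁻¹) * ((g : G)⁻¹)⁻¹ = x := by group
      have h' : (g : G)⁻¹ * ((g : G) * x * (g : G)⁻¹) * ((g : G)⁻¹)⁻¹ ∈ D.U := h
      rwa [e] at h'
  obtain ⟨R, hR⟩ := hU2.exists_le_sylow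
  have hRU : (R : Subgroup C) = U' := by
    by_contra hne
    have hlt : U'.subgroupOf (R : Subgroup C) < ⊤ := by
      refine lt_top_iff_ne_top.mpr fun e => hne (le_antisymm (fun z hz => ?_) hR)
      exact Subgroup.mem_subgroupOf.mp (e ▸ Subgroup.mem_top (⟨z, hz⟩ : (R : Subgroup C)))
    have : Group.IsNilpotent (R : Subgroup C) := R.2.isNilpotent
    obtain ⟨r, hr, hrn⟩ := SetLike.exists_of_lt (Group.normalizerCondition_of_isNilpotent _ hlt)
    refine hrn (Subgroup.mem_subgroupOf.mpr (hnU _ ?_))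
    rw [Subgroup.mem_normalizer_iff]
    intro z
    constructor
    · intro hz
      exact (Subgroup.mem_normalizer_iff.mp hr ⟨z, hR hz⟩).mp hz
    · intro hz
      have h := (Subgroup.mem_normalizer_iff.mp (inv_mem hr) ⟨_, hR hz⟩).mp hz
      have h' : ((r : (R : Subgroup C)) : C)⁻¹ * ((r : C) * z * (r : C)⁻¹) *
          ((r : C)⁻¹)⁻¹ ∈ U' := h
      rwa [show (r : C)⁻¹ * ((r : C) * z * (r : C)⁻¹) * ((r : C)⁻¹)⁻¹ = z by group] at h'
  have hN : Subgroup.normalizer (R : Set C) ≤ Subgroup.centralizer (R : Set C) := by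
    intro g hg
    have hgU : g ∈ U' := hnU g (by rw [← hRU]; exact hg)
    rw [Subgroup.mem_centralizer_iff]
    intro z hz
    have hzU : z ∈ U' := hRU ▸ hz
    obtain ⟨k, hk, hke⟩ := U_cases D hgU
    obtain ⟨j, hj, hje⟩ := U_cases D hzU
    refine Subtype.ext ?_
    show (z : G) * (g : G) = (g : G) * (z : G)
    change D.ψ k = (g : G) at hke
    change D.ψ j = (z : G) at hje
    rw [← hke, ← hje]; exact (map_comm D (lag_commute hj hk)).eq
  set f := MonoidHom.transferSylow R hN
  have hco := MonoidHom.ker_transferSylow_isComplement' R hN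
  set O := f.ker
  have hOodd : Odd (Nat.card O) := by
    rw [← hco.index_eq_card, Nat.odd_iff]
    have := R.not_dvd_index
    omega
  have hmemO : ∀ z : C, Odd (orderOf z) → z ∈ O := by
    intro z hz
    refine eq_one_of_odd_sq (Odd.of_dvd_nat hz (orderOf_map_dvd f z)) (Subtype.ext (Subtype.ext ?_))
    refine U_sq D (show (f z : C) ∈ U' from ?_)
    rw [← hRU]; exact (f z).2
  have hclosU : ∀ g ∈ lagU, g ∈ Subgroup.closure (insert (tv 2) P5) := by
    refine (Subgroup.closure_le _).mpr ?_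
    rintro _ ⟨a, rfl⟩
    by_cases ha : 1 < a
    · have h1 : tv 2 ∈ Subgroup.closure (insert (tv 2) P5) :=
        Subgroup.subset_closure (Set.mem_insert _ _)
      have h2 : tv 2 * tv a.val ∈ Subgroup.closure (insert (tv 2) P5) :=
        Subgroup.subset_closure (Set.mem_insert_of_mem _
          (Set.mem_insert_of_mem _ ⟨2, a, by decide, ha, rfl⟩))
      have := mul_mem h1 h2
      rwa [← mul_assoc, tv_sq, one_mul] at this
    · have : a = 0 ∨ a = 1 := by revert ha; revert a; decide
      rcases this with rfl | rfl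
      · show tv 0 ∈ _
        rw [InvModel.tv_zero]
        exact one_mem _
      · exact Subgroup.subset_closure (Set.mem_insert_of_mem _ (Set.mem_insert _ _))
  set u : C := ⟨D.ψ (tv 2), hUC (mem_U D (tv_mem 2))⟩
  have hu2 : u * u = 1 := Subtype.ext (U_sq D (mem_U D (tv_mem 2)))
  let φ : O ≃* O := MulAut.conjNormal u
  have hfpf : MonoidHom.FixedPointFree φ := by
    intro z hz
    have hz' : u * (z : C) * u⁻¹ = (z : C) := congrArg Subtype.val hz
    have hcU : ((z : C) : G) ∈ D.U := by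
      have hmem : ((z : C) : G) ∈ Subgroup.centralizer (D.U : Set G) := by
        rw [Subgroup.mem_centralizer_iff]
        intro y hy
        obtain ⟨g, hg, rfl⟩ := U_cases D hy
        refine (comm_of_cent_closure D (mem_cent D ?_) (hclosU g hg)).eq.symm
        rintro k (rfl | hk)
        · exact (congrArg Subtype.val (mul_inv_eq_iff_eq_mul.mp hz')).symm
        · exact comm_of_mem D (z : C).2 hk
      rwa [hL.cent] at hmem
    exact eq_one_of_odd_sq (Odd.of_dvd_nat hOodd (orderOf_dvd_natCard z))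
      (Subtype.ext (Subtype.ext (U_sq D hcU)))
  have hinv : Function.Involutive φ := fun z => Subtype.ext (by
    show u * (u * (z : C) * u⁻¹) * u⁻¹ = z
    rw [show u * (u * (z : C) * u⁻¹) * u⁻¹ = u * u * z * (u * u)⁻¹ by group, hu2]; simp)
  let inst : CommGroup O :=
    { (inferInstance : Group O) with mul_comm := fun z w => (hfpf.commute_all_of_involutive hinv z w).eq }
  have hstab : ∀ {l : List (Fin 64)}, l ∈ stabWords → ∀ z : O,
      D.ψ (wd l) * ((z : C) : G) * (D.ψ (wd l))⁻¹ ∈ C := by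
    intro l hl z
    refine mem_cent D fun g hg => ?_
    have hc := (comm_of_mem D (z : C).2 (stab_inv hl hg)).conj (D.ψ (wd l))
    rw [map_mul, map_mul, map_inv] at hc
    rwa [show D.ψ (wd l) * ((D.ψ (wd l))⁻¹ * D.ψ g * D.ψ (wd l)) * (D.ψ (wd l))⁻¹ = D.ψ g by group]
      at hc
  have hodd' : ∀ z : O, Odd (orderOf z) := fun z =>
    Odd.of_dvd_nat hOodd (orderOf_dvd_natCard z)
  let act (l : List (Fin 64)) (hl : l ∈ stabWords) : O →* O :=
    { toFun := fun z => ⟨⟨_, hstab hl z⟩, hmemO _ (by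
        rw [← Subgroup.orderOf_coe]
        show Odd (orderOf (MulAut.conj (D.ψ (wd l)) ((z : C) : G)))
        rw [MulEquiv.orderOf_eq, Subgroup.orderOf_coe, Subgroup.orderOf_coe]
        exact hodd' z)⟩
      map_one' := Subtype.ext (Subtype.ext (by simp))
      map_mul' := fun z w => Subtype.ext (Subtype.ext (by
        show D.ψ (wd l) * (((z : C) : G) * ((w : C) : G)) * (D.ψ (wd l))⁻¹ =
          D.ψ (wd l) * ((z : C) : G) * (D.ψ (wd l))⁻¹ * (D.ψ (wd l) * ((w : C) : G) * (D.ψ (wd l))⁻¹)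
        group)) }
  have hone : ∀ z : O, ((z : C) : G) ∈ D.ψ.range → z = 1 := fun z hz =>
    eq_one_of_odd_sq (hodd' z) (Subtype.ext (Subtype.ext (U_sq D (hCU _ (z : C).2 hz))))
  have hnorm1 : ∀ (g : Sp62) (F : O → O), orderOf g = 3 →
      (∀ z, ((F z : C) : G) = D.ψ g * ((z : C) : G) * (D.ψ g)⁻¹) →
      (∀ z w, F (z * w) = F z * F w) → ∀ z, z * F z * F (F z) = 1 := by
    intro g F hg hF hFm z
    refine hone _ (D.three g hg (Subgroup.mem_centralizer_singleton_iff.mpr ?_))
    have h3 : F (F (F z)) = z := Subtype.ext (Subtype.ext (by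
      rw [hF, hF, hF]
      have : D.ψ g ^ 3 = 1 := by rw [← map_pow, pow_three_eq hg, map_one]
      have e : ∀ w y : G, w * (w * (w * y * w⁻¹) * w⁻¹) * w⁻¹ = w ^ 3 * y * (w ^ 3)⁻¹ :=
        fun w y => by simp only [pow_succ, pow_zero, one_mul, mul_inv_rev, mul_assoc]
      rw [e, this]; simp))
    have hfix : F (z * F z * F (F z)) = z * F z * F (F z) := by
      rw [hFm, hFm, h3]; simp only [mul_comm, mul_left_comm, mul_assoc]
    have := congrArg (fun w : O => ((w : C) : G)) hfix
    simp only [hF] at this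
    exact (mul_inv_eq_iff_eq_mul.mp this).symm
  obtain ⟨r1, r2, r3, r4, r5⟩ := A4_rel
  have m1 : el1 ∈ stabWords := by decide
  have m2 : el2 ∈ stabWords := by decide
  have m3 : rot ∈ stabWords := by decide
  set A := act el1 m1 with hA
  set B := act el2 m2 with hB
  set R3 := act rot m3 with hR3
  set a := D.ψ (wd el1) with ha
  set b := D.ψ (wd el2) with hb
  set c := D.ψ (wd rot) with hc
  have vA : ∀ z, ((A z : C) : G) = a * ((z : C) : G) * a⁻¹ := fun _ => rfl
  have vB : ∀ z, ((B z : C) : G) = b * ((z : C) : G) * b⁻¹ := fun _ => rfl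
  have vC : ∀ z, ((R3 z : C) : G) = c * ((z : C) : G) * c⁻¹ := fun _ => rfl
  have g1 : a * a = 1 := by rw [ha, ← map_mul, r1, map_one]
  have g2 : b * b = 1 := by rw [hb, ← map_mul, r2, map_one]
  have g3 : a * b = b * a := by rw [ha, hb, ← map_mul, ← map_mul, r3]
  have g4 : c * a = a * b * c := by rw [ha, hb, hc, ← map_mul, ← map_mul, ← map_mul, r4]
  have g5 : c * b = a * c := by rw [ha, hb, hc, ← map_mul, ← map_mul, r5]
  have hord : ∀ l ∈ [rot, el1 ++ rot, el2 ++ rot, el1 ++ el2 ++ rot], orderOf (wd l) = 3 :=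
    fun l hl => orderOf_wd (rot_three l hl).1 (rot_three l hl).2
  have ext2 : ∀ {z w : O}, ((z : C) : G) = ((w : C) : G) → z = w := fun h =>
    Subtype.ext (Subtype.ext h)
  have hAB := a4_fix hodd' A B R3
    (fun z => ext2 (by rw [vA, vA]; calc _ = a * a * ((z : C) : G) * (a * a)⁻¹ := by group
                                        _ = _ := by rw [g1]; simp))
    (fun z => ext2 (by rw [vB, vB]; calc _ = b * b * ((z : C) : G) * (b * b)⁻¹ := by group
                                        _ = _ := by rw [g2]; simp))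
    (fun z => ext2 (by rw [vA, vB, vB, vA]; calc _ = a * b * ((z : C) : G) * (a * b)⁻¹ := by group
                                                _ = _ := by rw [g3]; group))
    (fun z => ext2 (by rw [vC, vA, vA, vB, vC]
                       calc _ = c * a * ((z : C) : G) * (c * a)⁻¹ := by group
                         _ = _ := by rw [g4]; group))
    (fun z => ext2 (by rw [vC, vB, vA, vC]
                       calc _ = c * b * ((z : C) : G) * (c * b)⁻¹ := by group
                         _ = _ := by rw [g5]; group))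
    (hnorm1 (wd rot) R3 (hord _ (by simp)) vC (map_mul R3))
    (hnorm1 (wd (el1 ++ rot)) (fun z => A (R3 z)) (hord _ (by simp)) (fun z => by
      rw [vA, vC, wd_append, map_mul, ← ha, ← hc]; group) (fun z w => by simp only [map_mul]))
    (hnorm1 (wd (el2 ++ rot)) (fun z => B (R3 z)) (hord _ (by simp)) (fun z => by
      rw [vB, vC, wd_append, map_mul, ← hb, ← hc]; group) (fun z w => by simp only [map_mul]))
    (hnorm1 (wd (el1 ++ el2 ++ rot)) (fun z => A (B (R3 z))) (hord _ (by simp)) (fun z => by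
      rw [vA, vB, vC, wd_append, wd_append, map_mul, map_mul, ← ha, ← hb, ← hc]; group)
      (fun z w => by simp only [map_mul]))
  have hObot : O = ⊥ := by
    rw [Subgroup.eq_bot_iff_forall]
    intro z hz
    have hz1 : (⟨z, hz⟩ : O) = 1 := by
      refine hone _ (local_rad D (mem_cent D ?_))
      obtain ⟨ea, eb⟩ := hAB ⟨z, hz⟩
      have hp : ∀ l : List (Fin 64), wd l ∈ Subgroup.closure P5 → Commute (z : G) (D.ψ (wd l)) :=
        fun l hl => comm_of_cent_closure D z.2 hl
      rintro _ ⟨l, hl, rfl⟩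
      have hpair : ∀ i j : Fin 8, 1 < i → 1 < j → tv 1 * (tv i.val * tv j.val) ∈ Subgroup.closure P5 :=
        fun i j hi hj => mul_mem (Subgroup.subset_closure (Set.mem_insert _ _))
          (Subgroup.subset_closure (Set.mem_insert_of_mem _ ⟨i, j, hi, hj, rfl⟩))
      simp only [Wgens, List.mem_cons, List.not_mem_nil, or_false] at hl
      rcases hl with rfl | rfl | rfl | rfl | rfl
      · refine hp _ ?_; rw [wd_single]; exact Subgroup.subset_closure (Set.mem_insert _ _)
      · refine hp _ ?_; rw [wd_cons, wd_cons, wd_single]; exact hpair 2 3 (by decide) (by decide)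
      · refine hp _ ?_; rw [wd_cons, wd_cons, wd_single]; exact hpair 4 5 (by decide) (by decide)
      · have := congrArg (fun w : O => ((w : C) : G)) ea
        rw [vA] at this
        exact (mul_inv_eq_iff_eq_mul.mp this).symm
      · have := congrArg (fun w : O => ((w : C) : G)) eb
        rw [vB] at this
        exact (mul_inv_eq_iff_eq_mul.mp this).symm
    exact congrArg Subtype.val hz1
  intro y hy
  have hy' : (⟨y, hy⟩ : C) ∈ U' := by
    rw [← hRU]
    obtain ⟨⟨o, r⟩, hor⟩ := hco.2 ⟨y, hy⟩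
    have ho : (o : C) = 1 := Subgroup.mem_bot.mp (hObot ▸ o.2)
    rw [← hor]
    show (o : C) * (r : C) ∈ (R : Subgroup C)
    rw [ho, one_mul]; exact r.2
  obtain ⟨g, -, hg⟩ := U_cases D hy'
  exact ⟨g, hg⟩

/-- `lagU` normalises a subgroup of `G`. -/
def UInv (X : Subgroup G) : Prop := ∀ g ∈ lagU, D.ψ g ∈ Subgroup.normalizer (X : Set G)

theorem uinv_inf {X : Subgroup G} (hX : UInv D X) {e : Sp62} (he : e ∈ lagU) :
    UInv D (X ⊓ Subgroup.centralizer {D.ψ e}) := by
  intro g hg
  rw [Subgroup.mem_normalizer_iff]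
  intro x
  have hc : Commute (D.ψ g) (D.ψ e) := map_comm D (lag_commute hg he)
  rw [Subgroup.mem_inf, Subgroup.mem_inf, Subgroup.mem_normalizer_iff.mp (hX g hg) x,
    Subgroup.mem_centralizer_singleton_iff, Subgroup.mem_centralizer_singleton_iff]
  refine and_congr_right fun _ => ⟨fun h => ?_, fun h => ?_⟩
  · exact ((hc.mul_left (show Commute x (D.ψ e) from h)).mul_left hc.inv_left).eq
  · have h2 : Commute (D.ψ g * x * (D.ψ g)⁻¹) (D.ψ e) := h
    have := (hc.inv_left.mul_left h2).mul_left hc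
    rw [show (D.ψ g)⁻¹ * (D.ψ g * x * (D.ψ g)⁻¹) * D.ψ g = x by group] at this
    exact this.eq

theorem local_two (h2 : D.Local {tv 1, tv 2}) {a b : Fin 8} (ha : 0 < a) (hab : a < b) :
    D.Local {tv a.val, tv b.val} := by
  obtain ⟨l, -, e1, e2⟩ := two_code a b ha hab
  have f1 := conj_wd l (e8 1); rw [e1] at f1
  have f2 := conj_wd l (e8 2); rw [e2] at f2
  refine local_mono D (local_conj D h2 (wd l)) ?_
  rintro _ ⟨g, rfl | rfl, rfl⟩
  · exact Subgroup.subset_closure (Or.inl f1)
  · exact Subgroup.subset_closure (Or.inr f2)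

/-- An odd subgroup normalised by the image of `lagU` is trivial. -/
theorem odd_eq_bot [Finite G] (hL : D.LagFacts) (h2 : D.Local {tv 1, tv 2}) :
    ∀ X : Subgroup G, Odd (Nat.card X) → UInv D X → X = ⊥ := by
  have : Fact (Nat.Prime 2) := ⟨Nat.prime_two⟩
  suffices h : ∀ (n : ℕ) (K : Subgroup Sp62), K ≤ lagU → Nat.card lagU - Nat.card K ≤ n →
      ∀ X : Subgroup G, Odd (Nat.card X) → UInv D X →
        X ≤ Subgroup.centralizer (D.ψ '' (K : Set Sp62)) → X = ⊥ by
    intro X hX hU
    refine h _ ⊥ bot_le le_rfl X hX hU fun x _ => mem_cent D ?_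
    intro g hg
    rw [Subgroup.coe_bot, Set.mem_singleton_iff] at hg
    subst hg; rw [map_one]; exact Commute.one_right x
  intro n
  induction n using Nat.strong_induction_on with
  | _ n ih =>
  intro K hK hn X hX hU hc
  by_cases hfour : ∃ f ∈ lagU, f ∉ K ∧ ∃ g ∈ lagU, g ∉ K ∧ f * g ∉ K
  · obtain ⟨f, hf, hfK, g, hg, hgK, hfg⟩ := hfour
    have hfsq : D.ψ f ^ 2 = 1 := by rw [pow_two, ← map_mul, lag_sq hf, map_one]
    have hgsq : D.ψ g ^ 2 = 1 := by rw [pow_two, ← map_mul, lag_sq hg, map_one]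
    have hg1 : D.ψ g ≠ 1 := fun e => hgK (by
      rw [← map_one D.ψ] at e; rw [D.inj e]; exact K.one_mem)
    have hnm : D.ψ f ∉ Subgroup.zpowers (D.ψ g) := by
      intro hm
      obtain ⟨k, hk⟩ := Subgroup.mem_zpowers_iff.mp hm
      rcases Int.even_or_odd k with ⟨m, rfl⟩ | ⟨m, rfl⟩
      · rw [← two_mul, zpow_mul, zpow_ofNat, hgsq, one_zpow, ← map_one D.ψ] at hk
        exact hfK (by rw [← D.inj hk]; exact K.one_mem)
      · rw [zpow_add, zpow_mul, zpow_ofNat, hgsq, one_zpow, one_mul, zpow_one] at hk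
        exact hfg (by rw [← D.inj hk, lag_sq hg]; exact K.one_mem)
    have hP : IsPairAction 2 (D.ψ f) (D.ψ g) X :=
      ⟨map_comm D (lag_commute hf hg), hfsq, hgsq, hg1, hnm, hU f hf, hU g hg⟩
    refine le_bot_iff.mp (le_of_pair_centralizers (p := 2) hP
      (fun hd => Nat.not_even_iff_odd.mpr hX (even_iff_two_dvd.mpr hd)) fun e he he1 => le_of_eq ?_)
    obtain ⟨i, j, rfl⟩ := mem_pairSubgroup_iff.mp he
    rw [← map_zpow, ← map_zpow, ← map_mul] at he1 ⊢
    have hpar : ∀ (q : Sp62) (k : ℤ), q * q = 1 → q ^ k = 1 ∨ q ^ k = q := by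
      intro q k hq
      rcases Int.even_or_odd k with ⟨m, rfl⟩ | ⟨m, rfl⟩
      · left; rw [← two_mul, zpow_mul, zpow_ofNat, pow_two, hq, one_zpow]
      · right; rw [zpow_add, zpow_mul, zpow_ofNat, pow_two, hq, one_zpow, one_mul, zpow_one]
    set e := f ^ i * g ^ j with he'
    have heU : e ∈ lagU := mul_mem (zpow_mem hf i) (zpow_mem hg j)
    have heK : e ∉ K := by
      rcases hpar f i (lag_sq hf) with h | h <;> rcases hpar g j (lag_sq hg) with h' | h' <;>
        rw [he', h, h'] at he1 ⊢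
      · simp at he1
      · rwa [one_mul]
      · rwa [mul_one]
      · exact hfg
    have hlt : Nat.card K < Nat.card (K ⊔ Subgroup.zpowers e : Subgroup Sp62) := by
      refine lt_of_le_of_ne (Subgroup.card_le_of_le le_sup_left) fun h => heK ?_
      rw [Subgroup.eq_of_le_of_card_ge le_sup_left h.ge]
      exact Subgroup.mem_sup_right (Subgroup.mem_zpowers e)
    have hle : K ⊔ Subgroup.zpowers e ≤ lagU := sup_le hK (Subgroup.zpowers_le.mpr heU)
    refine ih (Nat.card lagU - Nat.card (K ⊔ Subgroup.zpowers e : Subgroup Sp62)) ?_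
      (K ⊔ Subgroup.zpowers e) hle le_rfl _ ?_ (uinv_inf D hU heU) ?_
    · have := Subgroup.card_le_of_le hle
      omega
    · exact Odd.of_dvd_nat hX (Subgroup.card_dvd_of_le inf_le_left)
    · intro x hx
      refine mem_cent D fun k hk => ?_
      have hgen : Subgroup.closure ((K : Set Sp62) ∪ {e}) = K ⊔ Subgroup.zpowers e := by
        rw [Subgroup.closure_union, Subgroup.closure_eq, Subgroup.zpowers_eq_closure]
      refine comm_of_cent_closure D (s := (K : Set Sp62) ∪ {e}) (mem_cent D ?_)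
        (hgen.symm ▸ hk : k ∈ Subgroup.closure _)
      rintro m (hm | rfl)
      · exact comm_of_mem D (hc hx.1) hm
      · exact Subgroup.mem_centralizer_singleton_iff.mp hx.2
  push_neg at hfour
  have hsm : ∀ a : Fin 8, tv a.val ∈ lagU := tv_mem
  have hprod : ∀ a b : Fin 8, tv a.val ∉ K → tv b.val ∉ K → tv a.val * tv b.val ∈ K :=
    fun a b ha hb => hfour _ (hsm a) ha _ (hsm b) hb
  have hex : ∀ a : Fin 8, 0 < a → tv a.val ∉ K → ∃ b, 0 < b ∧ b ≠ a ∧ tv b.val ∉ K := by
    intro a ha hn'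
    by_contra hcon
    push_neg at hcon
    refine hn' ?_
    rw [← wd_eight a, wd_eq_of_same (seven_code a ha)]
    have : ∀ L : List (Fin 8), (∀ b ∈ L, tv b.val ∈ K) → wd (L.map e8) ∈ K := by
      intro L
      induction L with
      | nil => intro _; exact K.one_mem
      | cons i L ihL =>
        intro h
        rw [List.map_cons, wd_cons]
        exact mul_mem (h i (List.mem_cons_self ..)) (ihL fun b hb => h b (List.mem_cons_of_mem _ hb))
    exact this _ fun b hb => hcon b (ne_zero_code a ha b hb).1 (ne_zero_code a ha b hb).2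
  rw [Subgroup.eq_bot_iff_forall]
  intro x hx
  have hcx := hc hx
  have hxr : x ∈ D.ψ.range := by
    by_cases htwo : ∃ a b : Fin 8, 0 < a ∧ a < b ∧ tv a.val ∈ K ∧ tv b.val ∈ K
    · obtain ⟨a, b, ha, hab, hKa, hKb⟩ := htwo
      refine local_two D h2 ha hab (mem_cent D ?_)
      rintro k (rfl | rfl)
      exacts [comm_of_mem D hcx hKa, comm_of_mem D hcx hKb]
    push_neg at htwo
    obtain ⟨c, hc0, hcK⟩ : ∃ c : Fin 8, 0 < c ∧ tv c.val ∈ K := by
      by_contra hcon
      push_neg at hcon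
      refine hcon 1 (by decide) ?_
      rw [← wd_eight 1,
        wd_eq_of_same (seven_code 1 (by decide))]
      have hL' : (([1, 2, 3, 4, 5, 6, 7] : List (Fin 8)).filter (· != 1)).map e8 =
          [e8 2, e8 3] ++ [e8 4, e8 5] ++ [e8 6, e8 7] := by decide
      rw [hL', wd_append, wd_append]
      simp only [wd_cons, wd_nil, mul_one]
      exact mul_mem (mul_mem (hprod 2 3 (hcon 2 (by decide)) (hcon 3 (by decide)))
        (hprod 4 5 (hcon 4 (by decide)) (hcon 5 (by decide))))
        (hprod 6 7 (hcon 6 (by decide)) (hcon 7 (by decide)))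
    have hnot : ∀ b : Fin 8, 0 < b → b ≠ c → tv b.val ∉ K := fun b hb hne hbK => by
      rcases lt_or_gt_of_ne hne with h | h
      · exact htwo b c hb h hbK hcK
      · exact htwo c b hc0 h hcK hbK
    obtain ⟨l, -, e1, e2⟩ := one_code c hc0
    refine local_mono D (local_conj D (local_P5 D hL) (wd l)) (t := (K : Set Sp62)) ?_ hcx
    rintro _ ⟨g, hg, rfl⟩
    refine Subgroup.subset_closure ?_
    rcases hg with rfl | ⟨a, b, ha, hb, rfl⟩
    · have := conj_wd l (e8 1)
      rw [e1] at this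
      simp only [SetLike.mem_coe]
      rw [show wd l * tv 1 * (wd l)⁻¹ = tv c.val from this]
      exact hcK
    · obtain ⟨a', ha0, hac, ea⟩ := e2 a ha
      obtain ⟨b', hb0, hbc, eb⟩ := e2 b hb
      have f1 := conj_wd l (e8 a); rw [ea] at f1
      have f2 := conj_wd l (e8 b); rw [eb] at f2
      have : wd l * (tv a.val * tv b.val) * (wd l)⁻¹ = tv a'.val * tv b'.val := by
        rw [show wd l * (tv a.val * tv b.val) * (wd l)⁻¹ =
          wd l * tv a.val * (wd l)⁻¹ * (wd l * tv b.val * (wd l)⁻¹) by group]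
        exact congrArg₂ (· * ·) f1 f2
      simp only [SetLike.mem_coe]
      rw [this]
      exact hprod a' b' (hnot a' ha0 hac) (hnot b' hb0 hbc)
  obtain ⟨y, rfl⟩ := hxr
  have hyodd : Odd (orderOf y) := by
    have := odd_orderOf hX hx
    rwa [orderOf_injective D.ψ D.inj] at this
  rw [odd_fix hyodd (fun a => tv a.val ∈ K) (fun a ha => comm_of_map D (comm_of_mem D hcx ha))
    (fun a b _ _ _ ha hb => comm_of_map D (comm_of_mem D hcx (hprod a b ha hb))) hex, map_one]

end Cfsg.Agent.Sp62Three31.InvCore
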