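import Mathlib
import Cfsg.Agent.Lib.Sp62Three31InvCore
import Cfsg.Agent.Lib.ZStarTheorem
import Cfsg.Agent.Lib.CentralSylow

/-!
Piece P9b of S3342: the centralisers of `rV` and `rQ` lie in the model.
-/

set_option autoImplicit false
set_option maxHeartbeats 400000

namespace Cfsg.Agent.Sp62Three31.InvVQ

open InvModel InvCore

universe u

variable {G : Type u} [Group G] (D : SpHyp G)

attribute [local irreducible] tv

theorem rV_mem : rV ∈ lagU := mul_mem (tv_mem 1) (tv_mem 2)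

theorem rT_mem : rT ∈ lagU := mul_mem (mul_mem (tv_mem 1) (tv_mem 2)) (tv_mem 3)

theorem rQ_mem : rQ ∈ lagU := mul_mem (tv_mem 4) rT_mem

theorem U_le_cent {g : Sp62} (hg : g ∈ lagU) :
    ∀ u ∈ lagU, D.ψ u ∈ Subgroup.centralizer ({D.ψ g} : Set G) := fun _ hu =>
  Subgroup.mem_centralizer_singleton_iff.mpr (map_comm D (lag_commute hu hg)).eq

/-- A conjugate of a transvection inside the model is a transvection. -/
theorem exists_tv (hF : D.Fuse) {e : G} {g : G} {a : Fin 8} (he : g * D.ψ (tv a.val) * g⁻¹ = e)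
    (hr : e ∈ D.ψ.range) : ∃ n : Fin 64, e = D.ψ (tv n.val) := by
  obtain ⟨y, rfl⟩ := hr
  obtain ⟨h, hh⟩ := hF (tv a.val) y (tv_sq _) ⟨g, he⟩
  obtain ⟨m, hm⟩ := exists_smul h (e8 a)
  have hc : h * tv (e8 a).val * h⁻¹ = tv m.val := conj_tv h hm
  rw [show (e8 a).val = a.val from rfl] at hc
  exact ⟨m, by rw [← hh, hc]⟩

/-- The centraliser of `rQ` lies in the model. -/
theorem local_q [Finite G] (hL : D.LagFacts) (hP : D.PairFacts) : D.Local {rQ} := by
  rw [SpHyp.Local, Set.image_singleton]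
  set C := Subgroup.centralizer ({D.ψ rQ} : Set G) with hC
  have hUC : ∀ u ∈ lagU, D.ψ u ∈ C := U_le_cent D rQ_mem
  set t : C := ⟨D.ψ (tv 4), hUC _ (tv_mem 4)⟩ with ht
  have hrT : rT = tv 4 * rQ := by
    rw [rQ, ← mul_assoc, tv_sq, one_mul]
  have hfour : ∀ x : G, x ∈ C → Commute x (D.ψ (tv 4)) → x ∈ D.ψ.range := by
    intro x hx hxt
    refine hP.four (mem_cent D ?_)
    rintro k (rfl | rfl)
    · exact hxt
    · rw [hrT, map_mul]
      exact hxt.mul_right (show Commute x (D.ψ rQ) from Subgroup.mem_centralizer_singleton_iff.mp hx)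
  have ht2 : orderOf t = 2 := by
    have : Fact (Nat.Prime 2) := ⟨Nat.prime_two⟩
    refine orderOf_eq_prime ?_ fun e => ?_
    · rw [pow_two]; exact Subtype.ext (by
        show D.ψ (tv 4) * D.ψ (tv 4) = 1
        rw [← map_mul, tv_sq, map_one])
    · have e' : D.ψ (tv 4) = D.ψ 1 := by rw [map_one]; exact congrArg Subtype.val e
      have e2 := D.inj e'
      rw [← InvModel.tv_zero] at e2
      exact absurd (tv_inj (a := 4) (b := 0) e2) (by decide)
  have hiso : Cfsg.IsIsolatedInvolution t := by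
    refine ⟨ht2, fun g hg => Subtype.ext ?_⟩
    set e := (g : G) * D.ψ (tv 4) * (g : G)⁻¹ with he
    have hcomm : Commute e (D.ψ (tv 4)) := (congrArg Subtype.val hg.eq).symm
    have heC : e ∈ C := mul_mem (mul_mem g.2 (hUC _ (tv_mem 4))) (inv_mem g.2)
    obtain ⟨n, hn⟩ := exists_tv D hL.fuse (a := 4) he.symm (hfour e heC hcomm)
    have hT : (g : G) * D.ψ rT * (g : G)⁻¹ = D.ψ (tv n.val * rQ) := by
      have hq : (g : G) * D.ψ rQ * (g : G)⁻¹ = D.ψ rQ :=
        mul_inv_eq_iff_eq_mul.mpr (Subgroup.mem_centralizer_singleton_iff.mp g.2)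
      rw [hrT, map_mul, map_mul, ← hn, he]
      conv_rhs => rw [← hq]
      group
    obtain ⟨h, hh⟩ := hL.fuse rT (tv n.val * rQ) (lag_sq rT_mem) ⟨g, hT⟩
    show e = D.ψ (tv 4)
    rw [hn, rQ_unique hh]; rfl
  obtain ⟨N, hN, hNodd, hNc⟩ := ZStarTheorem.exists_odd_normal hiso
  have hN1 : N.map C.subtype = ⊥ := by
    refine odd_eq_bot D hL hP.two _ ?_ ?_
    · rw [Subgroup.card_map_of_injective C.subtype_injective]; exact hNodd
    · intro u hu
      rw [Subgroup.mem_normalizer_iff]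
      intro x
      constructor
      · rintro ⟨z, hz, rfl⟩
        exact ⟨_, hN.conj_mem z hz ⟨D.ψ u, hUC u hu⟩, rfl⟩
      · rintro ⟨z, hz, hzx⟩
        refine ⟨_, hN.conj_mem z hz ⟨D.ψ u, hUC u hu⟩⁻¹, ?_⟩
        have hzx' : (z : G) = D.ψ u * x * (D.ψ u)⁻¹ := hzx
        show (D.ψ u)⁻¹ * (z : G) * ((D.ψ u)⁻¹)⁻¹ = x
        rw [hzx']; group
  intro y hy
  have hb := hNc ⟨y, hy⟩
  rw [Subgroup.map_eq_bot_iff_of_injective _ C.subtype_injective] at hN1
  rw [hN1, Subgroup.mem_bot, mul_inv_eq_one, mul_inv_eq_iff_eq_mul] at hb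
  exact hfour y hy (show Commute y (D.ψ (tv 4)) from (congrArg Subtype.val hb).symm)

/-- The centraliser of `rV` lies in the model. -/
theorem local_v [Finite G] (hL : D.LagFacts) (hP : D.PairFacts) : D.Local {rV} := by
  have : Fact (Nat.Prime 2) := ⟨Nat.prime_two⟩
  rw [SpHyp.Local, Set.image_singleton]
  set C := Subgroup.centralizer ({D.ψ rV} : Set G) with hC
  have hUC : ∀ u ∈ lagU, D.ψ u ∈ C := U_le_cent D rV_mem
  set d := D.ψ (tv 1) with hd
  set v := D.ψ rV with hv
  have hd2 : d * d = 1 := by rw [hd, ← map_mul, tv_sq, map_one]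
  have hv2 : v * v = 1 := by rw [hv, ← map_mul, lag_sq rV_mem, map_one]
  have hd'eq : D.ψ (tv 2) = d * v := by
    rw [hd, hv, ← map_mul, rV, ← mul_assoc, tv_sq, one_mul]
  have htwo : ∀ x : G, x ∈ C → Commute x d → x ∈ D.ψ.range := by
    intro x hx hxd
    refine hP.two (mem_cent D ?_)
    rintro k (rfl | rfl)
    · exact hxd
    · rw [hd'eq]
      exact hxd.mul_right (show Commute x v from Subgroup.mem_centralizer_singleton_iff.mp hx)
  -- the exchange
  have hs1 : D.ψ (wd swapW) * d * (D.ψ (wd swapW))⁻¹ = D.ψ (tv 2) := by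
    have := conj_wd swapW (e8 1)
    rw [swap_code.1] at this
    rw [hd, ← map_inv, ← map_mul, ← map_mul]; exact congrArg D.ψ this
  have hs2 : D.ψ (wd swapW) * D.ψ (tv 2) * (D.ψ (wd swapW))⁻¹ = d := by
    have := conj_wd swapW (e8 2)
    rw [swap_code.2] at this
    rw [hd, ← map_inv, ← map_mul, ← map_mul]; exact congrArg D.ψ this
  set s := D.ψ (wd swapW) with hs
  have hsC : s ∈ C := by
    refine Subgroup.mem_centralizer_singleton_iff.mpr (mul_inv_eq_iff_eq_mul.mp ?_)
    have hv' : v = d * D.ψ (tv 2) := by rw [hd'eq, ← mul_assoc, hd2, one_mul]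
    have hcd : d * D.ψ (tv 2) = D.ψ (tv 2) * d := (map_comm D (pair_comm 1 2)).eq
    calc s * v * s⁻¹ = s * d * s⁻¹ * (s * D.ψ (tv 2) * s⁻¹) := by rw [hv']; group
      _ = v := by rw [hs1, hs2, ← hcd, hv']
  -- an element carrying `d` to `d` or `dv` lies in the model
  have hpair : ∀ x : G, x ∈ C → (x * d * x⁻¹ = d ∨ x * d * x⁻¹ = d * v) → x ∈ D.ψ.range := by
    intro x hx h
    rcases h with h | h
    · exact htwo x hx (mul_inv_eq_iff_eq_mul.mp h)
    · have h1 : s * x ∈ D.ψ.range := by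
        refine htwo _ (mul_mem hsC hx) (mul_inv_eq_iff_eq_mul.mp ?_)
        rw [show s * x * d * (s * x)⁻¹ = s * (x * d * x⁻¹) * s⁻¹ by group, h, ← hd'eq, hs2]
      rw [show x = s⁻¹ * (s * x) by group]
      exact mul_mem (inv_mem ⟨_, rfl⟩) h1
  set vC : C := ⟨v, hUC _ rV_mem⟩ with hvC
  set dC : C := ⟨d, hUC _ (tv_mem 1)⟩ with hdC
  set Z := Subgroup.zpowers vC with hZ
  have hcen : vC ∈ Subgroup.center C := by
    rw [Subgroup.mem_center_iff]
    intro g
    exact Subtype.ext (Subgroup.mem_centralizer_singleton_iff.mp g.2)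
  have : Z.Normal := by
    refine ⟨fun n hn g => ?_⟩
    have := Subgroup.zpowers_le.mpr hcen hn
    rw [Subgroup.mem_center_iff.mp this g, mul_assoc, mul_inv_cancel, mul_one]
    exact hn
  have hZmem : ∀ z : C, z ∈ Z → (z : G) = 1 ∨ (z : G) = v := by
    intro z hz
    obtain ⟨k, rfl⟩ := Subgroup.mem_zpowers_iff.mp hz
    rw [SubgroupClass.coe_zpow]
    show v ^ k = 1 ∨ v ^ k = v
    rcases Int.even_or_odd k with ⟨m, rfl⟩ | ⟨m, rfl⟩
    · left; rw [← two_mul, zpow_mul, zpow_ofNat, pow_two, hv2, one_zpow]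
    · right; rw [zpow_add, zpow_mul, zpow_ofNat, pow_two, hv2, one_zpow, one_mul, zpow_one]
  have hvne : v ≠ 1 := fun e => by
    rw [hv, ← map_one D.ψ] at e
    have e1 := D.inj e
    rw [rV, mul_eq_one_iff_eq_inv, inv_eq_of_mul_eq_one_right (tv_sq 2)] at e1
    exact absurd (tv_inj (a := 1) (b := 2) e1) (by decide)
  have hdne : ¬ (d = 1 ∨ d = v) := by
    rintro (e | e)
    · rw [hd, ← map_one D.ψ, ← InvModel.tv_zero] at e
      exact absurd (tv_inj (a := 1) (b := 0) (D.inj e)) (by decide)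
    · have e' : D.ψ (tv 2) = 1 := by rw [hd'eq, e, hv2]
      rw [← map_one D.ψ, ← InvModel.tv_zero] at e'
      exact absurd (tv_inj (a := 2) (b := 0) (D.inj e')) (by decide)
  have hiso : Cfsg.IsIsolatedInvolution (QuotientGroup.mk dC : C ⧸ Z) := by
    refine ⟨orderOf_eq_prime ?_ ?_, ?_⟩
    · rw [pow_two, ← QuotientGroup.mk_mul,
        show dC * dC = 1 from Subtype.ext hd2, QuotientGroup.mk_one]
    · exact fun e => hdne (hZmem dC ((QuotientGroup.eq_one_iff dC).mp e))
    intro q hq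
    induction q using QuotientGroup.induction_on with
    | _ g =>
    rw [← QuotientGroup.mk_inv, ← QuotientGroup.mk_mul, ← QuotientGroup.mk_mul] at hq ⊢
    set e : C := g * dC * g⁻¹ with he
    have h1 : (dC * e * dC⁻¹ * e⁻¹ : C) ∈ Z := by
      rw [← QuotientGroup.eq_one_iff, QuotientGroup.mk_mul, QuotientGroup.mk_mul,
        QuotientGroup.mk_mul, QuotientGroup.mk_inv, QuotientGroup.mk_inv, hq.eq, mul_inv_cancel_right,
        mul_inv_cancel]
    have hev : Commute (e : G) v := Subgroup.mem_centralizer_singleton_iff.mp e.2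
    have hvd : Commute v d := map_comm D (lag_commute rV_mem (tv_mem 1))
    have her : (e : G) ∈ D.ψ.range := by
      refine hpair _ e.2 ?_
      have e2 : d⁻¹ = d := inv_eq_of_mul_eq_one_right hd2
      have h1' : ((dC * e * dC⁻¹ * e⁻¹ : C) : G) = d * (e : G) * d⁻¹ * (e : G)⁻¹ := rfl
      have h4 : (e : G) * d * (e : G)⁻¹ = d * (d * (e : G) * d⁻¹ * (e : G)⁻¹) := by
        rw [e2, ← mul_assoc, ← mul_assoc, ← mul_assoc, hd2, one_mul]
      rcases hZmem _ h1 with h | h <;> rw [h1'] at h <;> rw [h4, h]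
      · left; rw [mul_one]
      · right; rfl
    obtain ⟨n, hn⟩ := exists_tv D hL.fuse (a := 1) (g := (g : G)) rfl her
    have hev' : (e : G) * v = (g : G) * D.ψ (tv 2) * (g : G)⁻¹ := by
      have hgv : (g : G) * v * (g : G)⁻¹ = v :=
        mul_inv_eq_iff_eq_mul.mpr (Subgroup.mem_centralizer_singleton_iff.mp g.2)
      conv_lhs => rw [← hgv]
      rw [hd'eq]
      show (g : G) * d * (g : G)⁻¹ * ((g : G) * v * (g : G)⁻¹) = _
      group
    obtain ⟨m, hm⟩ := exists_tv D hL.fuse (a := 2) hev'.symm (mul_mem her ⟨_, rfl⟩)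
    have hnm : tv ((1 : Fin 8).val) * tv ((2 : Fin 8).val) * tv n.val = tv m.val := by
      refine D.inj ?_
      rw [map_mul, ← hm, ← hn]
      exact hev.eq.symm
    refine (QuotientGroup.eq_iff_div_mem).mpr ?_
    rcases pair_unique (by decide) (by decide) (by decide) hnm with h | h
    · subst h
      rw [show e = dC from Subtype.ext hn, div_self']
      exact Z.one_mem
    · subst h
      have h2 : (e : G) = d * v := hn.trans hd'eq
      rw [show e = vC * dC from Subtype.ext (h2.trans hvd.eq.symm), mul_div_assoc, div_self',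
        mul_one]
      exact Subgroup.mem_zpowers vC
  obtain ⟨N, hN, hNodd, hNc⟩ := ZStarTheorem.exists_odd_normal hiso
  set N' := N.comap (QuotientGroup.mk' Z) with hN'
  have hN'n : N'.Normal := hN.comap _
  have hZN : Z ≤ N' := fun z hz => by
    rw [hN', Subgroup.mem_comap, QuotientGroup.mk'_apply, (QuotientGroup.eq_one_iff z).mpr hz]
    exact N.one_mem
  have hZ2 : Nat.card Z = 2 := by
    rw [Nat.card_zpowers]
    exact orderOf_eq_prime (by rw [pow_two]; exact Subtype.ext hv2) fun e => hvne (congrArg Subtype.val e)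
  have hind : ¬ 2 ∣ (Z.subgroupOf N').index := by
    have h1 : (Z.subgroupOf N').index * 2 = Nat.card N' := by
      rw [← hZ2, ← Nat.card_congr (Subgroup.subgroupOfEquivOfLe hZN).toEquiv, Subgroup.index_mul_card]
    have h2 : Nat.card N' = Nat.card N * 2 := by
      rw [← hZ2, ← Subgroup.card_mul_index (Z.subgroupOf N'),
        Nat.card_congr (Subgroup.subgroupOfEquivOfLe hZN).toEquiv, mul_comm (Nat.card N)]
      congr 1
      have : Z.subgroupOf N' = ((QuotientGroup.mk' Z).comp N'.subtype).ker := by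
        ext z
        rw [MonoidHom.mem_ker, Subgroup.mem_subgroupOf, MonoidHom.comp_apply,
          QuotientGroup.mk'_apply, QuotientGroup.eq_one_iff, Subgroup.coe_subtype]
      rw [this, Subgroup.index_ker, MonoidHom.range_comp, Subgroup.range_subtype, hN',
        Subgroup.map_comap_eq_self_of_surjective (QuotientGroup.mk'_surjective Z)]
    intro h
    exact Nat.not_even_iff_odd.mpr hNodd (even_iff_two_dvd.mpr
      (by rwa [show Nat.card N = (Z.subgroupOf N').index by omega]))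
  have hZc : Z.subgroupOf N' ≤ Subgroup.center N' := by
    intro z hz
    rw [Subgroup.mem_center_iff]
    intro g
    exact Subtype.ext (Subgroup.mem_center_iff.mp (Subgroup.zpowers_le.mpr hcen hz) g)
  obtain ⟨O, -, -, hOco, hOc, hOmem⟩ := CentralSylow.central_sylow (p := 2) (Z.subgroupOf N') hZc
    ((IsPGroup.of_card (n := 1) (by rw [hZ2, pow_one]) : IsPGroup 2 Z).comap_subtype) hind
  have hOodd : Odd (Nat.card O) := Nat.coprime_two_right.mp hOco
  have hstab : ∀ (c : C) (z : N'), z ∈ O → (⟨c * z * c⁻¹, hN'n.conj_mem z z.2 c⟩ : N') ∈ O := by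
    intro c z hz
    refine hOmem _ ?_
    rw [← Subgroup.orderOf_coe]
    show (orderOf (MulAut.conj c (z : C))).Coprime 2
    rw [MulEquiv.orderOf_eq, Subgroup.orderOf_coe, Nat.coprime_two_right]
    exact Odd.of_dvd_nat hOodd (Subgroup.orderOf_dvd_natCard O hz)
  have hX : (O.map N'.subtype).map C.subtype = ⊥ := by
    refine odd_eq_bot D hL hP.two _ ?_ ?_
    · rw [Subgroup.card_map_of_injective C.subtype_injective,
        Subgroup.card_map_of_injective N'.subtype_injective]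
      exact hOodd
    · intro u hu
      rw [Subgroup.mem_normalizer_iff]
      intro x
      constructor
      · rintro ⟨_, ⟨z, hz, rfl⟩, rfl⟩
        exact ⟨_, ⟨_, hstab ⟨D.ψ u, hUC u hu⟩ z hz, rfl⟩, rfl⟩
      · rintro ⟨_, ⟨z, hz, rfl⟩, hzx⟩
        refine ⟨_, ⟨_, hstab ⟨D.ψ u, hUC u hu⟩⁻¹ z hz, rfl⟩, ?_⟩
        have hzx' : ((z : C) : G) = D.ψ u * x * (D.ψ u)⁻¹ := hzx
        show (D.ψ u)⁻¹ * ((z : C) : G) * ((D.ψ u)⁻¹)⁻¹ = x
        rw [hzx']; group
  rw [Subgroup.map_eq_bot_iff_of_injective _ C.subtype_injective,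
    Subgroup.map_eq_bot_iff_of_injective _ N'.subtype_injective] at hX
  intro y hy
  have hb : (dC * ⟨y, hy⟩ * dC⁻¹ * (⟨y, hy⟩ : C)⁻¹ : C) ∈ N' := by
    rw [hN', Subgroup.mem_comap, map_mul, map_mul, map_mul, map_inv, map_inv]
    exact hNc _
  obtain ⟨⟨o, r⟩, hor⟩ := hOc.2 ⟨_, hb⟩
  have ho : (o : N') = 1 := Subgroup.mem_bot.mp (hX ▸ o.2)
  have hbZ : (dC * ⟨y, hy⟩ * dC⁻¹ * (⟨y, hy⟩ : C)⁻¹ : C) ∈ Z := by
    have := congrArg (fun z : N' => (z : C)) hor
    simp only [ho, one_mul] at this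
    rw [← this]; exact r.2
  refine hpair y hy ?_
  have e2 : d⁻¹ = d := inv_eq_of_mul_eq_one_right hd2
  have h4 : y * d * y⁻¹ = d * (d * y * d⁻¹ * y⁻¹) := by
    rw [e2, ← mul_assoc, ← mul_assoc, ← mul_assoc, hd2, one_mul]
  have h1' : ((dC * ⟨y, hy⟩ * dC⁻¹ * (⟨y, hy⟩ : C)⁻¹ : C) : G) = d * y * d⁻¹ * y⁻¹ := rfl
  rcases hZmem _ hbZ with h | h <;> rw [h1'] at h <;> rw [h4, h]
  · left; rw [mul_one]
  · right; rfl

/-- Piece P9b: the centralisers of `rV` and `rQ`. -/
theorem inv_facts [Finite G] (hL : D.LagFacts) (hP : D.PairFacts) : D.InvFacts :=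
  ⟨local_v D hL hP, local_q D hL hP⟩

end Cfsg.Agent.Sp62Three31.InvVQ
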