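import Mathlib
import Cfsg.Agent.Lib.Sp62Three31LagModel
import Cfsg.Agent.Lib.FrobeniusNilpotent

/-!
A finite group on which the stabiliser `L₃(2)` of the Lagrangian acts with all elements of order three
fixed-point-free is trivial.
-/

set_option autoImplicit false
set_option maxRecDepth 100000

namespace Cfsg.Agent.Sp62Three31.Lag

open Cfsg.Agent.PSp62MultiplierData

/-- The normaliser of the Lagrangian subgroup. -/
def NU : Subgroup Sp62 := Subgroup.normalizer (lagU : Set Sp62)

/-- The word of a power. -/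
def wp (w : List ℕ) (n : ℕ) : List ℕ := (List.replicate n w).flatten

/-- The element of order seven, its normalising element, and their conjugates. -/
def sevens : List (List ℕ × List ℕ) := [(ew [0, 3, 4], ew [5, 3]), (ew [1, 2, 5], ew [0, 2])]

/-- The two four groups with their normalising elements. -/
def fours : List (List ℕ × List ℕ) := [(ew [0], ew [1, 4]), (ew [2], ew [1, 4])]

/-- The four elements of a four group. -/
def vfour (v x : List ℕ) (i : Fin 4) : List ℕ :=
  ![[], v, x ++ v ++ x ++ x, v ++ (x ++ v ++ x ++ x)] i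

/-- The permutation for the four group. -/
def pfour : Fin 4 → Fin 4 := ![0, 3, 1, 2]

/-- The exclusive or on `Fin 4`. -/
def qfour (j i : Fin 4) : Fin 4 := ⟨(j.val ^^^ i.val) % 4, Nat.mod_lt _ (by norm_num)⟩

/-- The word normalises the Lagrangian. -/
def nu (w : List ℕ) : Bool := (List.range 8).all fun n => decide (app (cw w) n < 8)

/-- The word gives an element of order three. -/
def o3 (w : List ℕ) : Bool := key (cw (w ++ w ++ w)) == key idc && key (cw w) != key idc

/-- The words give equal elements. -/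
def eqw (w w' : List ℕ) : Bool := key (cw w) == key (cw w')

theorem seven_ok : (sevens.all fun e => nu e.1 && nu e.2 && (List.finRange 7).all fun i : Fin 7 =>
    o3 (wp e.1 i.val ++ e.2) &&
    eqw (wp e.1 i.val ++ e.2 ++ (wp e.1 i.val ++ e.2)) (wp e.1 (3 * i).val ++ (e.2 ++ e.2)) &&
    (List.finRange 7).all fun j : Fin 7 => eqw (wp e.1 j.val ++ wp e.1 i.val) (wp e.1 (j + i).val)) = true := by
  decide +kernel

theorem seven_prod : o3 (wp (ew [0, 3, 4]) 1 ++ wp (ew [1, 2, 5]) 1) = true := by decide +kernel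

theorem four_ok : (fours.all fun e => nu e.1 && nu e.2 && (List.finRange 4).all fun i : Fin 4 =>
    nu (vfour e.1 e.2 i) && o3 (vfour e.1 e.2 i ++ e.2) &&
    eqw (vfour e.1 e.2 i ++ e.2 ++ (vfour e.1 e.2 i ++ e.2)) (vfour e.1 e.2 (pfour i) ++ (e.2 ++ e.2)) &&
    (List.finRange 4).all fun j : Fin 4 => eqw (vfour e.1 e.2 j ++ vfour e.1 e.2 i) (vfour e.1 e.2 (qfour j i))) =
      true := by
  decide +kernel

theorem four_prod : o3 (ew [0] ++ ew [2]) = true := by decide +kernel

theorem cube {M : Type*} [Monoid M] {y : M} (ho : orderOf y = 3) : y * (y * y) = 1 := by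
  have h := pow_orderOf_eq_one y
  rwa [ho, pow_succ, pow_two, mul_assoc] at h

theorem mem_NU {w : List ℕ} (h : nu w = true) : pw w ∈ NU :=
  mem_normalizer_of_code (rep_pw w) fun n hn => by
    simpa using List.all_eq_true.mp h n (List.mem_range.mpr hn)

theorem mem_NU_wp {w : List ℕ} (h : nu w = true) : ∀ n, pw (wp w n) ∈ NU
  | 0 => NU.one_mem
  | n + 1 => by
    rw [show wp w (n + 1) = w ++ wp w n by simp [wp, List.replicate_succ], pw_append]
    exact mul_mem (mem_NU h) (mem_NU_wp h n)

theorem order_three {w : List ℕ} (h : o3 w = true) : orderOf (pw w) = 3 := by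
  simp only [o3, Bool.and_eq_true, beq_iff_eq, bne_iff_ne, ne_eq] at h
  have : Fact (Nat.Prime 3) := ⟨Nat.prime_three⟩
  refine orderOf_eq_prime ?_ fun e => h.2 ((rep_pw w).key_eq (e ▸ rep_one))
  rw [pow_succ, pow_two, ← pw_append, ← pw_append]
  exact eq_of_key (rep_pw _) rep_one h.1

theorem eq_of_eqw {w w' : List ℕ} (h : eqw w w' = true) : pw w = pw w' := pw_eq w w' (by simpa [eqw] using h)

section

variable {A : Type*} [CommGroup A] (act : Sp62 → A →* A)
  (hmul : ∀ a b : Sp62, a ∈ NU → b ∈ NU → ∀ m, act (a * b) m = act a (act b m))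
  (hone : ∀ m, act 1 m = m)
  (hfix : ∀ x ∈ NU, orderOf x = 3 → ∀ m, act x m = m → m = 1)

include hmul hone hfix

theorem triple {y : Sp62} (hy : y ∈ NU) (ho : orderOf y = 3) (a : A) : a * act y a * act (y * y) a = 1 := by
  refine hfix y hy ho _ ?_
  rw [map_mul, map_mul, ← hmul y y hy hy, ← hmul y (y * y) hy (mul_mem hy hy),
    cube ho, hone,
    mul_comm _ a, mul_assoc]

theorem period {ι : Type} [Fintype ι] (v : ι → Sp62) (x : Sp62) (hx : x ∈ NU) (hv : ∀ i, v i ∈ NU)
    (p : ι → ι) (hp : Function.Bijective p) (q : ι → ι → ι) (hq : ∀ j, Function.Bijective (q j))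
    (ho : ∀ i, orderOf (v i * x) = 3) (h2 : ∀ i, v i * x * (v i * x) = v (p i) * (x * x))
    (hvv : ∀ j i, v j * v i = v (q j i)) (a : A) (j : ι) :
    act (v j) (a ^ Fintype.card ι) = a ^ Fintype.card ι := by
  have hP : ∀ b : A, act (v j) (∏ i, act (v i) b) = ∏ i, act (v i) b := fun b => by
    rw [map_prod]
    exact Fintype.prod_bijective (q j) (hq j) _ _ fun i => by rw [← hmul _ _ (hv j) (hv i), hvv]
  have h : a ^ Fintype.card ι * (∏ i, act (v i) (act x a)) * ∏ i, act (v i) (act (x * x) a) = 1 := by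
    have hb : ∏ i, act (v (p i)) (act (x * x) a) = ∏ i, act (v i) (act (x * x) a) :=
      Fintype.prod_bijective p hp _ _ fun i => rfl
    rw [← hb, ← Finset.card_univ, ← Finset.prod_const, ← Finset.prod_mul_distrib, ← Finset.prod_mul_distrib]
    refine Finset.prod_eq_one fun i _ => ?_
    rw [← hmul _ _ (hv i) hx, ← hmul _ _ (hv (p i)) (mul_mem hx hx), ← h2]
    exact triple act hmul hone hfix (mul_mem (hv i) hx) (ho i) a
  rw [mul_assoc] at h
  rw [eq_inv_of_mul_eq_one_left h, map_inv, map_mul, hP, hP]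

theorem pow_seven {e : List ℕ × List ℕ} (he : e ∈ sevens) (a : A) : act (pw (wp e.1 1)) (a ^ 7) = a ^ 7 := by
  have h := List.all_eq_true.mp seven_ok e he
  simp only [Bool.and_eq_true, List.all_eq_true, List.mem_finRange, true_implies] at h
  obtain ⟨⟨h1, h2⟩, h3⟩ := h
  have := period act hmul hone hfix (fun i : Fin 7 => pw (wp e.1 i.val)) (pw e.2) (mem_NU h2)
    (fun i => mem_NU_wp h1 _) (fun i => 3 * i) (by decide) (fun j i => j + i)
    (fun j => (Equiv.addLeft j).bijective) (fun i => by rw [← pw_append]; exact order_three (h3 i).1.1)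
    (fun i => by simp only [← pw_append]; exact eq_of_eqw (h3 i).1.2)
    (fun j i => by simp only [← pw_append]; exact eq_of_eqw ((h3 i).2 j)) a 1
  simpa using this

theorem pow_four {e : List ℕ × List ℕ} (he : e ∈ fours) (a : A) : act (pw e.1) (a ^ 4) = a ^ 4 := by
  have h := List.all_eq_true.mp four_ok e he
  simp only [Bool.and_eq_true, List.all_eq_true, List.mem_finRange, true_implies] at h
  obtain ⟨⟨-, h2⟩, h3⟩ := h
  have := period act hmul hone hfix (fun i : Fin 4 => pw (vfour e.1 e.2 i)) (pw e.2) (mem_NU h2)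
    (fun i => mem_NU (h3 i).1.1.1) pfour (by decide) qfour (by decide)
    (fun i => by rw [← pw_append]; exact order_three (h3 i).1.1.2)
    (fun i => by simp only [← pw_append]; exact eq_of_eqw (h3 i).1.2)
    (fun j i => by simp only [← pw_append]; exact eq_of_eqw ((h3 i).2 j)) a 1
  simpa [vfour] using this

theorem eq_one_of_act (a : A) : a = 1 := by
  have h7 : a ^ 7 = 1 := by
    have h1 := pow_seven act hmul hone hfix (e := (ew [0, 3, 4], ew [5, 3])) (by simp [sevens]) a
    have h2 := pow_seven act hmul hone hfix (e := (ew [1, 2, 5], ew [0, 2])) (by simp [sevens]) a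
    have n1 : pw (wp (ew [0, 3, 4]) 1) ∈ NU := mem_NU_wp (by decide +kernel) 1
    have n2 : pw (wp (ew [1, 2, 5]) 1) ∈ NU := mem_NU_wp (by decide +kernel) 1
    refine hfix _ (mul_mem n1 n2) ?_ _ (by rw [hmul _ _ n1 n2, h2, h1])
    rw [← pw_append]; exact order_three seven_prod
  have h4 : a ^ 4 = 1 := by
    have h1 := pow_four act hmul hone hfix (e := (ew [0], ew [1, 4])) (by simp [fours]) a
    have h2 := pow_four act hmul hone hfix (e := (ew [2], ew [1, 4])) (by simp [fours]) a
    have n1 : pw (ew [0]) ∈ NU := mem_NU (by decide +kernel)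
    have n2 : pw (ew [2]) ∈ NU := mem_NU (by decide +kernel)
    refine hfix _ (mul_mem n1 n2) ?_ _ (by rw [hmul _ _ n1 n2, h2, h1])
    rw [← pw_append]; exact order_three four_prod
  have h8 : a ^ 8 = 1 := by rw [show (8 : ℕ) = 4 * 2 from rfl, pow_mul, h4, one_pow]
  rwa [pow_succ, h7, one_mul] at h8

end

/-- A group with such an action is trivial. -/
theorem subsingleton_of_act {M : Type*} [Group M] [Finite M] (act : Sp62 → M →* M)
    (hmul : ∀ a b : Sp62, a ∈ NU → b ∈ NU → ∀ m, act (a * b) m = act a (act b m))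
    (hone : ∀ m, act 1 m = m)
    (hfix : ∀ x ∈ NU, orderOf x = 3 → ∀ m, act x m = m → m = 1) : Subsingleton M := by
  by_contra hns
  have : Nontrivial M := not_subsingleton_iff_nontrivial.mp hns
  set x : Sp62 := pw (ew [5, 3]) with hx
  have hxN : x ∈ NU := mem_NU (by decide +kernel)
  have hxo : orderOf x = 3 := order_three (by decide +kernel)
  have hxx : x * (x * x) = 1 := cube hxo
  have hinj : Function.Injective (act x) := (injective_iff_map_eq_one (act x)).mpr fun m hm => by
    have e := hmul (x * x) x (mul_mem hxN hxN) hxN m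
    rw [mul_assoc, hxx, hone, hm, map_one] at e
    exact e
  let φ : MulAut M := MulEquiv.ofBijective (act x) ⟨hinj, Finite.surjective_of_injective hinj⟩
  have hφ : ∀ m, φ m = act x m := fun m => rfl
  have hnil : Group.IsNilpotent M := Cfsg.Agent.FrobeniusNilpotent.isNilpotent_of_fpf φ
    (fun m hm => hfix x hxN hxo m hm) 3 Nat.prime_three (by
      refine MulEquiv.ext fun m => ?_
      simp only [pow_succ, pow_zero, one_mul, MulAut.mul_apply, MulAut.one_apply, hφ]
      rw [← hmul x x hxN hxN, ← hmul (x * x) x (mul_mem hxN hxN) hxN, mul_assoc, hxx, hone])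
  have hmaps : ∀ h : Sp62, h ∈ NU → ∀ a ∈ Subgroup.center M, act h a ∈ Subgroup.center M := by
    intro h hh a ha
    refine Subgroup.mem_center_iff.mpr fun g => ?_
    have e : g = act h (act h⁻¹ g) := by rw [← hmul _ _ hh (inv_mem hh), mul_inv_cancel, hone]
    rw [e, ← map_mul, ← map_mul, Subgroup.mem_center_iff.mp ha]
  classical
  let icg : CommGroup (Subgroup.center M) :=
    { (inferInstance : Group (Subgroup.center M)) with
      mul_comm := fun a b => Subtype.ext (Subgroup.mem_center_iff.mp b.2 (a : M)) }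
  let actA : Sp62 → Subgroup.center M →* Subgroup.center M := fun h =>
    if hh : h ∈ NU then
      ((act h).comp (Subgroup.center M).subtype).codRestrict _ fun a => hmaps h hh a a.2
    else 1
  have hA : ∀ h ∈ NU, ∀ a : Subgroup.center M, ((actA h a : Subgroup.center M) : M) = act h (a : M) := by
    intro h hh a
    simp only [actA, dif_pos hh]
    rfl
  have htriv : ∀ a : Subgroup.center M, a = 1 := eq_one_of_act (A := ↥(Subgroup.center M)) actA
    (fun a b ha hb m => Subtype.ext (by rw [hA _ (mul_mem ha hb), hA _ ha, hA _ hb]; exact hmul a b ha hb _))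
    (fun m => Subtype.ext (by rw [hA _ NU.one_mem]; exact hone _))
    (fun y hy ho m hm => Subtype.ext (hfix y hy ho _ (by rw [← hA _ hy, hm])))
  have : Nontrivial (Subgroup.center M) :=
    (Subgroup.nontrivial_iff_ne_bot _).mpr (Group.IsNilpotent.center_ne_bot M)
  obtain ⟨a, ha⟩ := exists_ne (1 : Subgroup.center M)
  exact ha (htriv a)

end Cfsg.Agent.Sp62Three31.Lag
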