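import Mathlib
import Cfsg.Agent.Lib.Sp62Three31LagCent
import Cfsg.Agent.S2899
import Cfsg.Agent.S2870

/-!
The Lagrangian facts for `Sp(6,2)` with its three-local data inside a finite group: fusion of involutions,
the self-centralising subgroup of order 64, its normaliser and the 2-part of the group order.
-/

set_option autoImplicit false
set_option maxRecDepth 100000

namespace Cfsg.Agent.Sp62Three31

open Cfsg.Agent.SymplecticBasic Cfsg.Agent.PSp62MultiplierData Lag

universe u

theorem Lag.tn_lt (n v : ℕ) : Lag.tn n v < 64 := by unfold Lag.tn; split <;> omega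

namespace SpHyp

variable {G : Type u} [Group G] (D : SpHyp G)

theorem mem_U_iff (g : Sp62) : D.ψ g ∈ D.U ↔ g ∈ lagU :=
  ⟨fun ⟨y, hy, e⟩ => D.inj e ▸ hy, fun h => ⟨g, h, rfl⟩⟩

theorem card_U : Nat.card D.U = 64 := by
  rw [U, Subgroup.card_map_of_injective D.inj, card_lagU]

theorem U_le_range : D.U ≤ D.ψ.range := by
  rintro _ ⟨x, -, rfl⟩; exact ⟨x, rfl⟩

theorem U_sq {u : G} (hu : u ∈ D.U) : u * u = 1 := by
  obtain ⟨x, hx, rfl⟩ := hu
  rw [← map_mul, lag_sq hx, map_one]

theorem U_comm {u v : G} (hu : u ∈ D.U) (hv : v ∈ D.U) : Commute u v := by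
  obtain ⟨x, hx, rfl⟩ := hu
  obtain ⟨y, hy, rfl⟩ := hv
  exact (lag_comm hx hy).map D.ψ

theorem U_le_cent : D.U ≤ Subgroup.centralizer (D.U : Set G) :=
  fun _ hx => Subgroup.mem_centralizer_iff.mpr fun _ hy => D.U_comm hy hx

theorem lag_fuse [Finite G] : D.Fuse := by
  intro x y hx hg
  obtain ⟨g, hg⟩ := hg
  by_cases htop : D.ψ.range = ⊤
  · obtain ⟨h, rfl⟩ : g ∈ D.ψ.range := htop ▸ Subgroup.mem_top g
    exact ⟨h, D.inj (by rw [map_mul, map_mul, map_inv, hg])⟩
  by_cases h1 : x = 1
  · subst h1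
    rw [map_one, mul_one, mul_inv_cancel] at hg
    exact ⟨1, D.inj (by rw [← hg, mul_one, one_mul, inv_one, map_one])⟩
  have : Fact (Nat.Prime 3) := ⟨Nat.prime_three⟩
  have hsurj : Function.Surjective D.ψ.rangeRestrict := D.ψ.rangeRestrict_surjective
  obtain ⟨P⟩ : Nonempty (Sylow 3 Sp62) := inferInstance
  have hmap : ((P.mapSurjective hsurj : Sylow 3 D.ψ.range) : Subgroup D.ψ.range).map D.ψ.range.subtype =
      (P : Subgroup Sp62).map D.ψ := by
    rw [Sylow.coe_mapSurjective, Subgroup.map_map]; rfl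
  have hemb : Cfsg.IsStronglyPEmbedded 3 D.ψ.range := by
    refine (Cfsg.Agent.S2899.result D.ψ.range htop (P.mapSurjective hsurj)).mpr ⟨fun z hz hzo => ?_, ?_⟩
    · rw [hmap] at hz
      obtain ⟨w, -, rfl⟩ := hz
      exact D.three w (by rwa [orderOf_injective D.ψ D.inj] at hzo)
    · rw [hmap]; exact D.normS P
  have : Fact (Nat.Prime 2) := ⟨Nat.prime_two⟩
  have ho : orderOf (D.ψ x) = 2 := by
    rw [orderOf_injective D.ψ D.inj]; exact orderOf_eq_prime (by rw [pow_two, hx]) h1
  obtain ⟨c, ⟨h, rfl⟩, hc⟩ := Cfsg.Agent.S2870.result (p := 3) (by norm_num) D.ψ.range hemb (fun t ht hto => by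
      obtain ⟨s, rfl⟩ := ht
      rw [orderOf_injective D.ψ D.inj] at hto
      obtain ⟨z, hzo, hzc⟩ := exists_three (t := s) (by
        have h2 := pow_orderOf_eq_one s; rwa [hto, pow_two] at h2)
      have hz : D.ψ z ∈ D.ψ.range ⊓ Subgroup.centralizer ({D.ψ s} : Set G) :=
        ⟨⟨z, rfl⟩, Subgroup.mem_centralizer_singleton_iff.mpr ((hzc.map D.ψ).eq)⟩
      have := Subgroup.orderOf_dvd_natCard _ hz
      rwa [orderOf_injective D.ψ D.inj, hzo] at this) (D.ψ x) ⟨x, rfl⟩ ho g (hg ▸ ⟨y, rfl⟩)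
  exact ⟨h, D.inj (by rw [map_mul, map_mul, map_inv, hc, hg])⟩

theorem lag_of_cent {g : G} (hg : g ∈ Subgroup.centralizer (D.U : Set G)) (hr : g ∈ D.ψ.range) : g ∈ D.U := by
  obtain ⟨x, rfl⟩ := hr
  refine (D.mem_U_iff x).mpr (mem_lag_of_commute fun n hn => D.inj ?_)
  rw [map_mul, map_mul]
  exact (Subgroup.mem_centralizer_iff.mp hg _ ((D.mem_U_iff _).mpr (Subgroup.subset_closure ⟨⟨n, hn⟩, rfl⟩))).symm

theorem lag_cent [Finite G] : Subgroup.centralizer (D.U : Set G) = D.U := by
  refine le_antisymm ?_ D.U_le_cent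
  set K := Subgroup.centralizer (D.U : Set G) with hK
  set N := D.U.subgroupOf K with hN
  have hcen : ∀ n ∈ N, ∀ k : K, k * n = n * k := fun n hn k =>
    Subtype.ext ((Subgroup.mem_centralizer_iff.mp k.2 (n : G) hn).symm)
  have : N.Normal := ⟨fun n hn k => by rw [hcen n hn k, mul_inv_cancel_right]; exact hn⟩
  have hnorm : ∀ h ∈ NU, ∀ z : G, z ∈ D.U → D.ψ h * z * (D.ψ h)⁻¹ ∈ D.U := by
    rintro h hh _ ⟨y, hy, rfl⟩
    rw [← map_inv, ← map_mul, ← map_mul]
    exact (D.mem_U_iff _).mpr ((Subgroup.mem_normalizer_iff.mp hh y).mp hy)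
  have hconjK : ∀ h ∈ NU, ∀ k : K, D.ψ h * k * (D.ψ h)⁻¹ ∈ K := by
    intro h hh k
    refine Subgroup.mem_centralizer_iff.mpr fun z hz => ?_
    have h' := hnorm h⁻¹ (inv_mem hh) z hz
    rw [map_inv, inv_inv] at h'
    have := Subgroup.mem_centralizer_iff.mp k.2 _ h'
    calc z * (D.ψ h * k * (D.ψ h)⁻¹) = D.ψ h * (((D.ψ h)⁻¹ * z * D.ψ h) * k) * (D.ψ h)⁻¹ := by group
      _ = D.ψ h * (k * ((D.ψ h)⁻¹ * z * D.ψ h)) * (D.ψ h)⁻¹ := by rw [this]
      _ = D.ψ h * k * (D.ψ h)⁻¹ * z := by group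
  classical
  let conjK : Sp62 → K →* K := fun h =>
    if hh : h ∈ NU then
      ((MulAut.conj (D.ψ h)).toMonoidHom.comp K.subtype).codRestrict K fun k => by
        simpa using hconjK h hh k
    else MonoidHom.id K
  have hcoe : ∀ h ∈ NU, ∀ k : K, ((conjK h k : K) : G) = D.ψ h * k * (D.ψ h)⁻¹ := by
    intro h hh k
    simp only [conjK, dif_pos hh]
    simp
  have hcomap : ∀ h, N ≤ N.comap (conjK h) := by
    intro h k hk
    by_cases hh : h ∈ NU
    · show ((conjK h k : K) : G) ∈ D.U
      rw [hcoe h hh]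
      exact hnorm h hh _ hk
    · simp only [conjK, dif_neg hh, Subgroup.mem_comap, MonoidHom.id_apply]
      exact hk
  let act : Sp62 → K ⧸ N →* K ⧸ N := fun h => QuotientGroup.map N N (conjK h) (hcomap h)
  have hM : Subsingleton (K ⧸ N) := by
    refine subsingleton_of_act act (fun a b ha hb m => ?_) (fun m => ?_) fun x hx ho m => ?_
    · induction m using QuotientGroup.induction_on with
      | _ k =>
        simp only [act, QuotientGroup.map_mk]
        congr 1
        refine Subtype.ext ?_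
        rw [hcoe _ (mul_mem ha hb), hcoe _ ha, hcoe _ hb, map_mul]
        group
    · induction m using QuotientGroup.induction_on with
      | _ k =>
        simp only [act, QuotientGroup.map_mk]
        congr 1
        refine Subtype.ext ?_
        rw [hcoe _ NU.one_mem, map_one]
        group
    · induction m using QuotientGroup.induction_on with
      | _ k =>
        intro hm
        simp only [act, QuotientGroup.map_mk] at hm
        rw [eq_comm, QuotientGroup.eq] at hm
        rw [QuotientGroup.eq_one_iff]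
        set X := D.ψ x
        set v := (k : G)⁻¹ * (X * k * X⁻¹) with hv
        have hvU : v ∈ D.U := by
          have : ((k⁻¹ * conjK x k : K) : G) ∈ D.U := hm
          rwa [Subgroup.coe_mul, Subgroup.coe_inv, hcoe x hx] at this
        have hX3 : X * X * X = 1 := by
          rw [← map_mul, ← map_mul, mul_assoc, cube ho, map_one]
        set w := X * v * X⁻¹ with hw
        have hwU : w ∈ D.U := hnorm x hx v hvU
        set r := X * w * X⁻¹ with hr
        have hrU : r ∈ D.U := hnorm x hx w hwU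
        have hkX : X * k * X⁻¹ = k * v := by rw [hv]; group
        have hn : v * w * r = 1 := by
          have e : X * (X * (X * k * X⁻¹) * X⁻¹) * X⁻¹ = k * (v * w * r) := by
            calc X * (X * (X * k * X⁻¹) * X⁻¹) * X⁻¹
                = X * (X * (k * v) * X⁻¹) * X⁻¹ := by rw [hkX]
              _ = X * ((X * k * X⁻¹) * (X * v * X⁻¹)) * X⁻¹ := by group
              _ = X * (k * v * w) * X⁻¹ := by rw [hkX, hw]
              _ = (X * k * X⁻¹) * (X * v * X⁻¹) * (X * w * X⁻¹) := by group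
              _ = k * (v * w * r) := by rw [hkX, hr, hw]; group
          have e3 : X * (X * (X * k * X⁻¹) * X⁻¹) * X⁻¹ = (X * X * X) * k * (X * X * X)⁻¹ := by group
          rw [e3, hX3, one_mul, inv_one, mul_one] at e
          exact mul_left_cancel (a := (k : G)) (by rw [← e, mul_one])
        have hvr : v * r = w := by
          have h1 : w * (v * r) = 1 := by rw [← mul_assoc w v r, (D.U_comm hwU hvU).eq]; exact hn
          exact (eq_inv_of_mul_eq_one_right h1).trans (inv_eq_of_mul_eq_one_right (D.U_sq hwU))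
        have hfix : X * (k * w) * X⁻¹ = k * w := by
          calc X * (k * w) * X⁻¹ = (X * k * X⁻¹) * (X * w * X⁻¹) := by group
            _ = k * (v * r) := by rw [hkX, ← hr, mul_assoc]
            _ = k * w := by rw [hvr]
        have hcK : (k : G) * w ∈ K := mul_mem k.2 (D.U_le_cent hwU)
        have hr' : (k : G) * w ∈ D.ψ.range := D.three x ho
          (Subgroup.mem_centralizer_singleton_iff.mpr (by
            calc (k : G) * w * X = X * (k * w) * X⁻¹ * X := by rw [hfix]
              _ = X * (k * w) := by group))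
        exact (Subgroup.mul_mem_cancel_right D.U hwU).mp (D.lag_of_cent hcK hr')
  intro g hg
  have h1 : ((⟨g, hg⟩ : K) : K ⧸ N) = 1 := Subsingleton.elim _ _
  exact (QuotientGroup.eq_one_iff (⟨g, hg⟩ : K)).mp h1

theorem normalizer_range [Finite G] : Subgroup.normalizer (D.U : Set G) ≤ D.ψ.range := by
  intro g hg
  have hone : tv 0 = 1 := by rw [tv, Lag.vec_zero]; exact transv_vec_zero _
  have hinj : ∀ n < 8, n ≠ 0 → tv n ≠ 1 := fun n hn h0 e => h0 (tv_inj (by omega) (by norm_num) (e.trans hone.symm))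
  have hσ : ∀ n : Fin 8, ∃ m : Fin 8, g * D.ψ (tv n.val) * g⁻¹ = D.ψ (tv m.val) := by
    intro n
    obtain ⟨y, hy, e⟩ := (Subgroup.mem_normalizer_iff.mp hg _).mp
      ((D.mem_U_iff _).mpr (Subgroup.subset_closure ⟨n, rfl⟩))
    obtain ⟨h, hh⟩ := D.lag_fuse (tv n.val) y (tv_sq_one (by omega)) ⟨g, e.symm⟩
    obtain ⟨c, hc⟩ := exists_rep h
    have hy' : y = tv (app c n.val) := by
      rw [← hh, show tv (app c n.val) = transv (vec (app c n.val)) 1 from rfl, ← hc n.val (by omega)]
      exact transv_conj _ _ _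
    subst hy'
    exact ⟨⟨_, tv_mem_lag (app_lt _ _) hy⟩, e.symm⟩
  choose σ hs using hσ
  have hsinj : Function.Injective σ := fun a b e => by
    have h := (hs a).trans (by rw [e, ← hs b])
    exact Fin.ext (tv_inj (by omega) (by omega) (D.inj (mul_left_cancel (mul_right_cancel h))))
  have hs0 : σ 0 = 0 := by
    have h := hs 0
    rw [Fin.val_zero, hone, map_one, mul_one, mul_inv_cancel] at h
    exact Fin.ext (tv_inj (by omega) (by norm_num) ((D.inj (by rw [← h, map_one] : D.ψ (tv (σ 0).val) = D.ψ 1)).trans hone.symm))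
  have hne : ∀ a : Fin 8, a ≠ 0 → (σ a).val ≠ 0 := fun a ha e =>
    ha (hsinj (by rw [hs0]; exact Fin.ext e))
  have hd : ∀ a b : Fin 8, a ≠ b → (σ a).val ≠ (σ b).val := fun a b hab e => hab (hsinj (Fin.ext e))
  have hlin : ∀ a b c : Fin 8, a ≠ 0 → b ≠ 0 → c ≠ 0 → a ≠ b → a ≠ c → b ≠ c →
      c.val = a.val ^^^ b.val → (σ c).val = (σ a).val ^^^ (σ b).val := by
    intro a b c ha hb hc hab hac hbc hx
    set t := tv a.val * tv b.val * tv c.val with ht
    have hmem : ∀ i : Fin 8, tv i.val ∈ lagU := fun i => Subgroup.subset_closure ⟨i, rfl⟩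
    obtain ⟨h, hh⟩ := D.lag_fuse t (tv (σ a).val * tv (σ b).val * tv (σ c).val)
      (lag_sq (mul_mem (mul_mem (hmem a) (hmem b)) (hmem c))) ⟨g, by
        rw [ht, map_mul, map_mul, map_mul, map_mul, ← hs, ← hs, ← hs]; group⟩
    have hfix : ∀ p q r : ℕ, Nat.card {v : V6 // (tv p * tv q * tv r) • v = v} = cnt p q r := by
      intro p q r
      have hb' : Function.Bijective (fun v : Fin 64 => vec v.val) :=
        ⟨fun a b e => vec_inj a b e, fun x => (vec_surj x).imp fun n hn => hn.symm⟩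
      have e : {v : Fin 64 // Lag.tn p (Lag.tn q (Lag.tn r v.val)) = v.val} ≃ {v : V6 // (tv p * tv q * tv r) • v = v} :=
        (Equiv.ofBijective _ hb').subtypeEquiv fun v => by
          show _ ↔ (tv p * tv q * tv r) • vec v.val = vec v.val
          rw [mul_smul, mul_smul, tv_smul, tv_smul, tv_smul]
          refine ⟨fun e => by rw [e], fun e => vec_inj' (Lag.tn_lt _ _) v.isLt e⟩
      rw [← Nat.card_congr e, Nat.card_eq_fintype_card, Fintype.card_subtype, cnt,
        ← List.toFinset_card_of_nodup (List.nodup_range.filter _)]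
      refine Finset.card_bij (fun v _ => v.val) (fun v hv => ?_) (fun a _ b _ e => Fin.ext e) (fun v hv => ?_)
      · simp only [Finset.mem_filter, Finset.mem_univ, true_and] at hv
        simp [hv, v.isLt]
      · simp only [List.mem_toFinset, List.mem_filter, List.mem_range, beq_iff_eq] at hv
        exact ⟨⟨v, hv.1⟩, by simp [hv.2], rfl⟩
    have hc16 : cnt (σ a).val (σ b).val (σ c).val = cnt a.val b.val c.val := by
      rw [← hfix, ← hfix, ← hh]
      exact Nat.card_congr ((MulAction.toPerm h⁻¹).subtypeEquiv fun v => by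
        show (h * t * h⁻¹) • v = v ↔ t • (h⁻¹ • v) = h⁻¹ • v
        rw [mul_smul, mul_smul, ← eq_inv_smul_iff])
    have hco : ∀ p q r : Fin 8, p.val ≠ 0 → q.val ≠ 0 → r.val ≠ 0 → p.val ≠ q.val → p.val ≠ r.val →
        q.val ≠ r.val → ((cnt p.val q.val r.val = 16) ↔ r.val = p.val ^^^ q.val) := by
      intro p q r h1 h2 h3 h4 h5 h6
      have := List.all_eq_true.mp (List.all_eq_true.mp (List.all_eq_true.mp cnt_coll p.val
        (List.mem_range.mpr p.isLt)) q.val (List.mem_range.mpr q.isLt)) r.val (List.mem_range.mpr r.isLt)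
      simpa [h1, h2, h3, h4, h5, h6] using this
    refine (hco _ _ _ (hne a ha) (hne b hb) (hne c hc) (hd a b hab) (hd a c hac) (hd b c hbc)).mp ?_
    rw [hc16]
    exact (hco a b c (fun e => ha (Fin.ext e)) (fun e => hb (Fin.ext e)) (fun e => hc (Fin.ext e))
      (fun e => hab (Fin.ext e)) (fun e => hac (Fin.ext e)) (fun e => hbc (Fin.ext e))).mpr hx
  have h3 := hlin 1 2 3 (by decide) (by decide) (by decide) (by decide) (by decide) (by decide) (by decide)
  have hcond : (σ 4).val ≠ (σ 1).val ^^^ (σ 2).val := by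
    rw [← h3]; exact hd 4 3 (by decide)
  have hgl := List.all_eq_true.mp (List.all_eq_true.mp (List.all_eq_true.mp gl_full _
    (List.mem_range.mpr (σ 1).isLt)) _ (List.mem_range.mpr (σ 2).isLt)) _ (List.mem_range.mpr (σ 4).isLt)
  have hex : ∃ e ∈ gl, e.1 = (σ 1).val + 8 * (σ 2).val + 64 * (σ 4).val := by
    have q1 := hne 1 (by decide); have q2 := hne 2 (by decide); have q4 := hne 4 (by decide)
    have q12 := hd 1 2 (by decide); have q14 := hd 1 4 (by decide); have q24 := hd 2 4 (by decide)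
    simpa [q1, q2, q4, q12, q14, q24, hcond] using hgl
  obtain ⟨e, he, hev⟩ := hex
  have hok := List.all_eq_true.mp gl_ok e he
  simp only [Bool.and_eq_true, beq_iff_eq, List.all_eq_true, List.mem_range, decide_eq_true_eq] at hok
  set cc := cw (ew e.2) with hcc
  have hr : Rep (pw (ew e.2)) cc := rep_pw _
  have b1 := hok.2 1 (by norm_num)
  have b2 := hok.2 2 (by norm_num)
  have b4 := hok.2 4 (by norm_num)
  have e1 : app cc 1 = (σ 1).val := by omega
  have e2 : app cc 2 = (σ 2).val := by omega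
  have e4 : app cc 4 = (σ 4).val := by omega
  have h5 := hlin 1 4 5 (by decide) (by decide) (by decide) (by decide) (by decide) (by decide) (by decide)
  have h6 := hlin 2 4 6 (by decide) (by decide) (by decide) (by decide) (by decide) (by decide) (by decide)
  have h7 := hlin 3 4 7 (by decide) (by decide) (by decide) (by decide) (by decide) (by decide) (by decide)
  have a0 : app cc 0 = 0 := by
    have := hr.app_xor (show (1 : ℕ) < 64 by norm_num) (show (1 : ℕ) < 64 by norm_num)
    rwa [Nat.xor_self, Nat.xor_self] at this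
  have a3 : app cc 3 = (σ 3).val := by
    rw [h3, ← e1, ← e2]; exact hr.app_xor (u := 1) (v := 2) (by norm_num) (by norm_num)
  have hall : ∀ n : Fin 8, app cc n.val = (σ n).val := by
    intro n
    fin_cases n
    · simpa [hs0] using a0
    · exact e1
    · exact e2
    · exact a3
    · exact e4
    · show app cc 5 = _
      rw [show (σ ⟨5, _⟩) = σ 5 from rfl, h5, ← e1, ← e4]
      exact hr.app_xor (u := 1) (v := 4) (by norm_num) (by norm_num)
    · show app cc 6 = _
      rw [show (σ ⟨6, _⟩) = σ 6 from rfl, h6, ← e2, ← e4]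
      exact hr.app_xor (u := 2) (v := 4) (by norm_num) (by norm_num)
    · show app cc 7 = _
      rw [show (σ ⟨7, _⟩) = σ 7 from rfl, h7, ← a3, ← e4]
      exact hr.app_xor (u := 3) (v := 4) (by norm_num) (by norm_num)
  set h := pw (ew e.2)
  have hz : (D.ψ h)⁻¹ * g ∈ Subgroup.centralizer (D.U : Set G) := by
    have hgen : ∀ y ∈ lagU, Commute ((D.ψ h)⁻¹ * g) (D.ψ y) := by
      intro y hy
      induction hy using Subgroup.closure_induction with
      | mem y hy =>
        obtain ⟨n, rfl⟩ := hy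
        have hh : h * tv n.val * h⁻¹ = tv (σ n).val := by
          rw [← hall n, show tv (app cc n.val) = transv (vec (app cc n.val)) 1 from rfl, ← hr n.val (by omega)]
          exact transv_conj _ _ _
        have e : g * D.ψ (tv n.val) * g⁻¹ = D.ψ h * D.ψ (tv n.val) * (D.ψ h)⁻¹ := by
          rw [hs n, ← hh, map_mul, map_mul, map_inv]
        show (D.ψ h)⁻¹ * g * D.ψ (tv n.val) = D.ψ (tv n.val) * ((D.ψ h)⁻¹ * g)
        calc (D.ψ h)⁻¹ * g * D.ψ (tv n.val) = (D.ψ h)⁻¹ * (g * D.ψ (tv n.val) * g⁻¹) * g := by group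
          _ = D.ψ (tv n.val) * ((D.ψ h)⁻¹ * g) := by rw [e]; group
      | one => rw [map_one]; exact Commute.one_right _
      | mul _ _ _ _ a b => rw [map_mul]; exact a.mul_right b
      | inv _ _ a => rw [map_inv]; exact a.inv_right
    refine Subgroup.mem_centralizer_iff.mpr ?_
    rintro _ ⟨y, hy, rfl⟩
    exact (hgen y hy).eq.symm
  rw [D.lag_cent] at hz
  have := mul_mem (show D.ψ h ∈ D.ψ.range from ⟨h, rfl⟩) (D.U_le_range hz)
  rwa [mul_inv_cancel_left] at this

/-- The image of the Sylow 2-subgroup. -/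
def T2 : Subgroup G := flag.map D.ψ

theorem ea_image {E : Subgroup G} (hE : E ≤ D.T2) (hsq : ∀ e ∈ E, e * e = 1) (hcard : Nat.card E = 64) :
    E = D.U := by
  have hle : E ≤ D.ψ.range := hE.trans (MonoidHom.range_eq_map D.ψ ▸ Subgroup.map_mono le_top)
  have hmc : (E.comap D.ψ).map D.ψ = E := Subgroup.map_comap_eq_self hle
  rw [U, ← ea_unique (E := E.comap D.ψ) ?_ ?_ ?_, hmc]
  · intro x hx
    obtain ⟨y, hy, e⟩ := hE hx
    exact D.inj e ▸ hy
  · intro x hx
    exact D.inj (by rw [map_mul, map_one]; exact hsq _ hx)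
  · rw [← Subgroup.card_map_of_injective (K := E.comap D.ψ) D.inj, hmc, hcard]

theorem conj_U (c : G) : (∀ e ∈ D.U.map (MulAut.conj c).toMonoidHom, e * e = 1) ∧
    Nat.card (D.U.map (MulAut.conj c).toMonoidHom) = 64 := by
  refine ⟨?_, by rw [Subgroup.card_map_of_injective (MulAut.conj c).injective, D.card_U]⟩
  rintro _ ⟨u, hu, rfl⟩
  rw [← map_mul, D.U_sq hu, map_one]

theorem U_le_T2 : D.U ≤ D.T2 := Subgroup.map_mono lag_flag

theorem T2_card : Nat.card D.T2 = 512 := by rw [T2, Subgroup.card_map_of_injective D.inj, card_flag]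

theorem T2_sylow [Finite G] (P : Sylow 2 G) (h : D.T2 ≤ (P : Subgroup G)) : (P : Subgroup G) = D.T2 := by
  have : Fact (Nat.Prime 2) := ⟨Nat.prime_two⟩
  by_contra hne
  set Q := (P : Subgroup G) ⊓ Subgroup.normalizer (D.T2 : Set G) with hQ
  have hTQ : D.T2 < Q := by
    have hnil : Group.IsNilpotent (P : Subgroup G) := P.isPGroup'.isNilpotent
    have hlt : D.T2.subgroupOf (P : Subgroup G) < ⊤ := by
      rw [lt_top_iff_ne_top, Ne, Subgroup.subgroupOf_eq_top]
      exact fun h' => hne (le_antisymm h' h)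
    obtain ⟨q, hq, hqn⟩ := SetLike.exists_of_lt (Group.normalizerCondition_of_isNilpotent _ hlt)
    refine lt_of_le_not_ge (le_inf h Subgroup.le_normalizer) fun hle => hqn ?_
    refine hle ⟨q.2, Subgroup.mem_normalizer_iff.mpr fun n => ?_⟩
    constructor
    · intro hn
      exact (Subgroup.mem_normalizer_iff.mp hq ⟨n, h hn⟩).mp hn
    · intro hn
      have hnP : n ∈ (P : Subgroup G) := by
        have := mul_mem (mul_mem (inv_mem q.2) (h hn)) q.2
        simpa [mul_assoc] using this
      exact (Subgroup.mem_normalizer_iff.mp hq ⟨n, hnP⟩).mpr hn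
  have hQN : Q ≤ D.ψ.range := by
    refine fun q hq => D.normalizer_range (Subgroup.mem_normalizer_iff.mpr ?_)
    have hq' := hq.2
    have hle : D.U.map (MulAut.conj q).toMonoidHom ≤ D.T2 := by
      rintro _ ⟨u, hu, rfl⟩
      exact (Subgroup.mem_normalizer_iff.mp hq' u).mp (D.U_le_T2 hu)
    have he := D.ea_image hle (D.conj_U q).1 (D.conj_U q).2
    intro u
    constructor
    · exact fun hu => he ▸ ⟨u, hu, rfl⟩
    · intro hu
      obtain ⟨y, hy, e⟩ := he.symm ▸ hu
      rwa [← (MulAut.conj q).injective e]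
  have hd : Nat.card Q ∣ 1451520 := by
    have := Subgroup.card_dvd_of_le hQN
    rwa [← Nat.card_congr (MonoidHom.ofInjective D.inj).toEquiv, card_Sp62] at this
  obtain ⟨k, hk⟩ := (IsPGroup.iff_card.mp (P.isPGroup'.to_le (inf_le_left : Q ≤ (P : Subgroup G))))
  have hlt : Nat.card D.T2 < Nat.card Q :=
    lt_of_le_of_ne (Subgroup.card_le_of_le hTQ.le) fun e => hTQ.ne (Subgroup.eq_of_le_of_card_ge hTQ.le e.ge)
  rw [D.T2_card, hk] at hlt
  rw [hk] at hd
  have : 10 ≤ k := by
    by_contra hk'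
    have := Nat.pow_le_pow_right (show 2 > 0 by norm_num) (show k ≤ 9 by omega)
    omega
  exact absurd ((pow_dvd_pow 2 this).trans hd) (by norm_num)

theorem exists_sylow_T2 [Finite G] : ∃ P : Sylow 2 G, (P : Subgroup G) = D.T2 := by
  have : Fact (Nat.Prime 2) := ⟨Nat.prime_two⟩
  obtain ⟨P, hP⟩ := (IsPGroup.of_card (p := 2) (n := 9) (by rw [D.T2_card]; norm_num) :
    IsPGroup 2 D.T2).exists_le_sylow
  exact ⟨P, D.T2_sylow P hP⟩

include D in
theorem lag_two_part [Finite G] : ¬ 2 ^ 10 ∣ Nat.card G := by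
  have : Fact (Nat.Prime 2) := ⟨Nat.prime_two⟩
  intro h
  obtain ⟨P, hP⟩ := D.exists_sylow_T2
  have := P.pow_dvd_card_of_pow_dvd_card h
  rw [hP, D.T2_card] at this
  exact absurd this (by norm_num)

theorem lag_char [Finite G] (R : Subgroup G) (hR : IsPGroup 2 R) (hU : D.U ≤ R) :
    Subgroup.normalizer (R : Set G) ≤ Subgroup.normalizer (D.U : Set G) := by
  have : Fact (Nat.Prime 2) := ⟨Nat.prime_two⟩
  obtain ⟨P, hP⟩ := D.exists_sylow_T2
  obtain ⟨Q, hQ⟩ := hR.exists_le_sylow
  obtain ⟨c, hc⟩ := MulAction.exists_smul_eq G Q P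
  have huniq : ∀ d : G, D.U.map (MulAut.conj d).toMonoidHom ≤ (Q : Subgroup G) →
      D.U.map (MulAut.conj (c * d)).toMonoidHom = D.U := fun d hd => by
    refine D.ea_image ?_ (D.conj_U _).1 (D.conj_U _).2
    rw [← hP, ← hc, Sylow.coe_subgroup_smul]
    rintro _ ⟨u, hu, rfl⟩
    exact ⟨_, hd ⟨u, hu, rfl⟩, by simp [mul_assoc]⟩
  intro g hg
  have h1 := huniq 1 (by
    rintro _ ⟨u, hu, rfl⟩
    simpa using hQ (hU hu))
  have h2 := huniq g (by
    rintro _ ⟨u, hu, rfl⟩
    exact hQ ((Subgroup.mem_normalizer_iff.mp hg u).mp (hU hu)))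
  rw [mul_one] at h1
  have he : D.U.map (MulAut.conj g).toMonoidHom = D.U := by
    have e : (D.U.map (MulAut.conj g).toMonoidHom).map (MulAut.conj c).toMonoidHom =
        D.U.map (MulAut.conj c).toMonoidHom := by
      rw [Subgroup.map_map, h1]
      conv_rhs => rw [← h2]
      congr 1
      ext x
      simp [mul_assoc]
    exact Subgroup.map_injective (MulAut.conj c).injective e
  rw [Subgroup.mem_normalizer_iff]
  intro u
  constructor
  · exact fun hu => he ▸ ⟨u, hu, rfl⟩
  · intro hu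
    obtain ⟨y, hy, e⟩ := he.symm ▸ hu
    rwa [← (MulAut.conj g).injective e]

/-- The Lagrangian facts. -/
theorem lagFacts [Finite G] : D.LagFacts :=
  ⟨D.lag_fuse, D.lag_cent, D.normalizer_range, D.lag_char, D.lag_two_part⟩

end SpHyp

end Cfsg.Agent.Sp62Three31
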