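import Mathlib
import Cfsg.Agent.Lib.Sp62Three31Model

/-!
Kernel-checkable codes for elements of `Sp(6,2)`: an element is packed into the 64 images of the bit strings.
-/

set_option autoImplicit false

namespace Cfsg.Agent.Sp62Three31.Lag

open Cfsg.Agent.SymplecticBasic Cfsg.Agent.PSp62MultiplierData

/-- Packing of `k` values starting at `v`. -/
def pk (f : ℕ → ℕ) : ℕ → ℕ → ℕ
  | _, 0 => 0
  | v, k + 1 => f v + 64 * pk f (v + 1) k

/-- The image of a bit string under a code. -/
def app (c v : ℕ) : ℕ := (c >>> (6 * v)) % 64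

theorem app_lt (c v : ℕ) : app c v < 64 := Nat.mod_lt _ (by norm_num)

theorem app_pk (f : ℕ → ℕ) (hf : ∀ v, f v < 64) : ∀ (k s i : ℕ), i < k → app (pk f s k) i = f (s + i) := by
  intro k
  induction k with
  | zero => intro s i h; exact absurd h (Nat.not_lt_zero i)
  | succ k ih =>
    intro s i hi
    have h := hf s
    rcases i with _ | i
    · simp only [app, pk, Nat.shiftRight_eq_div_pow, mul_zero, pow_zero, Nat.div_one, add_zero]; omega
    · have hd : (f s + 64 * pk f (s + 1) k) / 64 = pk f (s + 1) k := by omega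
      have := ih (s + 1) i (by omega)
      simp only [app, pk, Nat.shiftRight_eq_div_pow] at this ⊢
      rw [show (2 : ℕ) ^ (6 * (i + 1)) = 64 * 2 ^ (6 * i) by
        rw [show 6 * (i + 1) = 6 + 6 * i by ring, pow_add]; norm_num, ← Nat.div_div_eq_div_mul, hd, this]
      congr 1; omega

/-- The composite of two codes. -/
def mul (a b : ℕ) : ℕ := pk (fun v => app a (app b v)) 0 64

/-- The action of a transvection on bit strings. -/
def tn (n v : ℕ) : ℕ := if frm v n then (v ^^^ n) % 64 else v % 64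

/-- The code of a transvection. -/
def tc (n : ℕ) : ℕ := pk (tn n) 0 64

/-- The code of the identity. -/
def idc : ℕ := pk (fun v => v % 64) 0 64

/-- The product of the transvections of a word. -/
def pw (w : List ℕ) : Sp62 := (w.map tv).prod

/-- The code of a word. -/
def cw (w : List ℕ) : ℕ := w.foldr (fun n c => mul (tc n) c) idc

theorem vec_inj : ∀ a b : Fin 64, vec a.val = vec b.val → a = b := by decide +kernel

theorem vec_inj' {a b : ℕ} (ha : a < 64) (hb : b < 64) (h : vec a = vec b) : a = b :=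
  congrArg Fin.val (vec_inj ⟨a, ha⟩ ⟨b, hb⟩ h)

theorem vec_xor (a b : ℕ) : vec (a ^^^ b) = vec a + vec b := by
  funext i
  rcases i with i | i
  · simp only [vec, Sum.elim_inl, Pi.add_apply, Nat.testBit_xor]
    cases a.testBit i.val <;> cases b.testBit i.val <;> decide
  · simp only [vec, Sum.elim_inr, Pi.add_apply, Nat.testBit_xor]
    cases a.testBit (i.val + 3) <;> cases b.testBit (i.val + 3) <;> decide

theorem vec_zero : vec 0 = 0 := by
  funext i; rcases i with i | i <;> simp [vec]

theorem vec_mod (a : ℕ) : vec (a % 64) = vec a := by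
  funext i
  have h1 : ∀ i : Fin 3, i.val < 6 ∧ i.val + 3 < 6 := fun i => ⟨by omega, by omega⟩
  rcases i with i | i <;> simp only [vec, Sum.elim_inl, Sum.elim_inr] <;>
    rw [show (64 : ℕ) = 2 ^ 6 from rfl, Nat.testBit_mod_two_pow] <;> simp [h1 i]

theorem form_bool : ∀ a0 a1 a2 a3 a4 a5 b0 b1 b2 b3 b4 b5 : Bool,
    ((if a3 then 1 else 0) * (if b0 then 1 else 0) - (if a0 then 1 else 0) * (if b3 then 1 else 0) : ZMod 2) +
      ((if a4 then 1 else 0) * (if b1 then 1 else 0) - (if a1 then 1 else 0) * (if b4 then 1 else 0)) +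
      ((if a5 then 1 else 0) * (if b2 then 1 else 0) - (if a2 then 1 else 0) * (if b5 then 1 else 0)) =
    if ((a0 && b3) ^^ (a3 && b0)) ^^ ((a1 && b4) ^^ (a4 && b1)) ^^ ((a2 && b5) ^^ (a5 && b2)) then 1 else 0 := by
  decide +kernel

theorem form_vec (u v : ℕ) : sympForm 3 (ZMod 2) (vec u) (vec v) = if frm u v then 1 else 0 := by
  rw [form_eq_sum, Fin.sum_univ_three]
  simp only [vec, frm, Sum.elim_inl, Sum.elim_inr, Fin.val_zero, Fin.val_one, Fin.val_two, zero_add,
    show 1 + 3 = 4 from rfl, show 2 + 3 = 5 from rfl]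
  exact form_bool _ _ _ _ _ _ _ _ _ _ _ _

theorem tv_smul (n v : ℕ) : tv n • vec v = vec (tn n v) := by
  rw [tv, transv_smul, form_vec, tn]
  cases frm v n <;> simp [vec_xor, vec_mod]

/-- The element acts on bit strings by the code. -/
def Rep (g : Sp62) (c : ℕ) : Prop := ∀ v, v < 64 → g • vec v = vec (app c v)

theorem rep_tv (n : ℕ) : Rep (tv n) (tc n) := fun v hv => by
  rw [tv_smul, tc, app_pk (tn n) (fun v => by rw [tn]; split <;> omega) 64 0 v hv, zero_add]

theorem Rep.mul {g h : Sp62} {a b : ℕ} (ha : Rep g a) (hb : Rep h b) : Rep (g * h) (Lag.mul a b) :=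
  fun v hv => by
    rw [mul_smul, hb v hv, ha _ (app_lt b v), Lag.mul, app_pk _ (fun _ => app_lt _ _) 64 0 v hv, zero_add]

theorem rep_one : Rep 1 idc := fun v hv => by
  rw [one_smul, idc, app_pk _ (fun v => Nat.mod_lt v (by norm_num)) 64 0 v hv, zero_add, Nat.mod_eq_of_lt hv]

theorem rep_pw : ∀ w : List ℕ, Rep (pw w) (cw w)
  | [] => rep_one
  | n :: w => (rep_tv n).mul (rep_pw w)

theorem exists_rep (g : Sp62) : ∃ c, Rep g c := by
  choose f hf using fun v : ℕ => vec_surj (g • vec v)
  exact ⟨pk (fun v => (f v).val) 0 64, fun v hv => by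
    rw [app_pk _ (fun v => (f v).isLt) 64 0 v hv, zero_add]; exact hf v⟩

/-- The images of the basis, packed. -/
def key (c : ℕ) : ℕ := pk (fun k => app c (2 ^ k)) 0 6

/-- The packed basis images of a composite. -/
def key2 (a b : ℕ) : ℕ := pk (fun k => app a (app b (2 ^ k))) 0 6

theorem key2_eq (a b : ℕ) : key2 a b = key (Lag.mul a b) := by
  have e : ∀ k < 6, app (Lag.mul a b) (2 ^ k) = app a (app b (2 ^ k)) := fun k hk => by
    rw [Lag.mul, app_pk _ (fun _ => app_lt _ _) 64 0 _
      (lt_of_lt_of_le (Nat.pow_lt_pow_right (by norm_num) hk) (by norm_num)), zero_add]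
  have hgen : ∀ k s, s + k ≤ 6 → pk (fun j => app a (app b (2 ^ j))) s k =
      pk (fun j => app (Lag.mul a b) (2 ^ j)) s k := by
    intro k
    induction k with
    | zero => intros; simp only [pk]
    | succ k ih => intro s hs; simp only [pk]; rw [e s (by omega), ih (s + 1) (by omega)]
  exact hgen 6 0 le_rfl

theorem key_app {a b : ℕ} (h : key a = key b) (k : ℕ) (hk : k < 6) : app a (2 ^ k) = app b (2 ^ k) := by
  have := congrArg (fun c => app c k) h
  simpa only [key, app_pk _ (fun _ => app_lt _ _) 6 0 k hk, zero_add] using this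

theorem eq_of_key {g h : Sp62} {a b : ℕ} (ha : Rep g a) (hb : Rep h b) (e : key a = key b) : g = h := by
  refine ext_smul_single fun i => ?_
  have hs : ∀ k < 6, g • vec (2 ^ k) = h • vec (2 ^ k) := fun k hk => by
    have hlt : 2 ^ k < 64 := lt_of_lt_of_le (Nat.pow_lt_pow_right (by norm_num) hk) (by norm_num)
    rw [ha _ hlt, hb _ hlt, key_app e k hk]
  have hb6 : ∀ i : Fin 3 ⊕ Fin 3, ∃ k : Fin 6, (Pi.single i 1 : V6) = vec (2 ^ k.val) := by decide +kernel
  obtain ⟨k, hk⟩ := hb6 i
  rw [hk]; exact hs k.val k.isLt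

theorem Rep.unique {g : Sp62} {a b : ℕ} (ha : Rep g a) (hb : Rep g b) (v : ℕ) (hv : v < 64) :
    app a v = app b v :=
  vec_inj' (app_lt _ _) (app_lt _ _) ((ha v hv).symm.trans (hb v hv))

theorem Rep.key_eq {g : Sp62} {a b : ℕ} (ha : Rep g a) (hb : Rep g b) : key a = key b := by
  have hgen : ∀ k s, s + k ≤ 6 → pk (fun j => app a (2 ^ j)) s k = pk (fun j => app b (2 ^ j)) s k := by
    intro k
    induction k with
    | zero => intros; simp only [pk]
    | succ k ih =>
      intro s hs
      have hlt : 2 ^ s < 64 := lt_of_lt_of_le (Nat.pow_lt_pow_right (by norm_num) (by omega : s < 6)) (by norm_num)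
      simp only [pk]; rw [ha.unique hb _ hlt, ih (s + 1) (by omega)]
  exact hgen 6 0 le_rfl

theorem pw_eq (w w' : List ℕ) (h : key (cw w) = key (cw w')) : pw w = pw w' :=
  eq_of_key (rep_pw w) (rep_pw w') h

theorem pw_append (w w' : List ℕ) : pw (w ++ w') = pw w * pw w' := by simp [pw]

theorem Rep.form {g : Sp62} {c : ℕ} (hc : Rep g c) {u v : ℕ} (hu : u < 64) (hv : v < 64) :
    frm (app c u) (app c v) = frm u v := by
  have h := form_map g (vec u) (vec v)
  rw [hc u hu, hc v hv, form_vec, form_vec] at h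
  revert h
  cases frm (app c u) (app c v) <;> cases frm u v <;> simp

theorem Rep.app_xor {g : Sp62} {c : ℕ} (hc : Rep g c) {u v : ℕ} (hu : u < 64) (hv : v < 64) :
    app c (u ^^^ v) = app c u ^^^ app c v := by
  have huv : u ^^^ v < 64 := Nat.xor_lt_two_pow (n := 6) hu hv
  refine vec_inj' (app_lt _ _) (Nat.xor_lt_two_pow (n := 6) (app_lt _ _) (app_lt _ _)) ?_
  rw [← hc _ huv, vec_xor, vec_xor, smul_def, Matrix.mulVec_add, ← smul_def, ← smul_def, hc u hu, hc v hv]

end Cfsg.Agent.Sp62Three31.Lag
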