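import Mathlib
import Cfsg.Prelude
import Cfsg.Agent.Lib.S9Model37

/-!
Interface for S3342 (helper31's campaign): an element of order three whose centraliser is
`3^{1+2}:SL(2,3)`, in a group with an elementary abelian `J` of order 27 normalising no `3'`-subgroup.
-/

set_option autoImplicit false

namespace Cfsg.Agent.Sp62Three31

open Equiv S9Model37

universe u

/-- The hypotheses of the statement. -/
structure Setup (G : Type u) [Group G] where
  a : G
  J : Subgroup G
  ha : orderOf a = 3
  hR : Cfsg.IsExtraspecial 3 (Cfsg.pCore 3 (Subgroup.centralizer ({a} : Set G)))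
  hRcard : Nat.card (Cfsg.pCore 3 (Subgroup.centralizer ({a} : Set G))) = 27
  hRexp : ∀ r ∈ Cfsg.pCore 3 (Subgroup.centralizer ({a} : Set G)), r ^ 3 = 1
  e : Subgroup.centralizer ({a} : Set G) ⧸ Cfsg.pCore 3 (Subgroup.centralizer ({a} : Set G)) ≃*
    Matrix.SpecialLinearGroup (Fin 2) (ZMod 3)
  hJC : J ≤ Subgroup.centralizer ({a} : Set G)
  hJcomm : IsMulCommutative J
  hJexp : ∀ j ∈ J, j ^ 3 = 1
  hJcard : Nat.card J = 27
  hJsig : ∀ K : Subgroup G, (Nat.card K).Coprime 3 →
    (∀ j ∈ J, K.map (MulAut.conj j).toMonoidHom = K) → K = ⊥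

variable {G : Type u} [Group G]

namespace Setup

variable (S : Setup G)

/-- The centraliser of `a`. -/
def C : Subgroup G := Subgroup.centralizer ({S.a} : Set G)

/-- The extraspecial core. -/
def Q : Subgroup G := (Cfsg.pCore 3 (Subgroup.centralizer ({S.a} : Set G))).map (Subgroup.subtype _)

/-- The element is conjugate to its inverse. -/
def Inverted : Prop := ∃ g : G, g * S.a * g⁻¹ = S.a⁻¹

/-- The line of `a` is fixed by the automiser of `J`. -/
def WeaklyClosed : Prop :=
  Subgroup.normalizer (S.J : Set G) ≤ Subgroup.normalizer (Subgroup.zpowers S.a : Set G)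

/-- The monomial frame of the inverted case. -/
structure Frame where
  φ : W →* G
  inj : Function.Injective φ
  range_eq : φ.range = Subgroup.normalizer (S.J : Set G)
  base : S.J = Subgroup.closure {φ C1, φ C2, φ C3}
  map_a : φ (C1 * C2 * C3) = S.a

variable {S}

/-- The first branch: the centraliser of a weight-one element is three-local in `J`. -/
def Frame.CaseI (F : S.Frame) : Prop :=
  Subgroup.centralizer ({F.φ C3} : Set G) ≤ Subgroup.normalizer (S.J : Set G)

/-- The second branch: the centraliser of a weight-one element is `3 × S₆`. -/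
structure Frame.CaseII (F : S.Frame) where
  ι : Perm (Fin 6) →* G
  six : Six F.φ ι
  d3 : ∀ σ, Commute (ι σ) (F.φ D3)

namespace Frame.CaseII

variable {F : S.Frame} (c : F.CaseII)

/-- The point `p` of the first block. -/
def lo (p : Fin 3) : Fin 6 := ⟨p.val, by omega⟩

/-- The point `q` of the second block. -/
def hi (q : Fin 3) : Fin 6 := ⟨3 + q.val, by omega⟩

/-- The cross transvection joining point `p` of block `i` to point `q` of block `i + 1`. -/
def cross (i p q : Fin 3) : G :=
  F.φ Rot ^ i.val * c.ι (swap (lo p) (hi q)) * (F.φ Rot ^ i.val)⁻¹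

/-- Cross transvections with a common point of a block commute. -/
def Rule : Prop := ∀ i p q r : Fin 3, Commute (c.cross i p q) (c.cross (i + 2) r p)

end Frame.CaseII

end Setup

end Cfsg.Agent.Sp62Three31
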