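import Mathlib
import Cfsg.Agent.Lib.Sp62Three31Setup
import Cfsg.Agent.Lib.S9Base37
import Cfsg.Agent.Lib.S9Six37
import Cfsg.Agent.Lib.PSpAmalgam31Nine
import Cfsg.Agent.Lib.S9Local37
import Cfsg.Agent.S3805
import Cfsg.Agent.S3333

/-!
The local analysis inside `J` for S3342: centralisers of planes, of `φ (C1 * C2)` and of `φ C3`.
-/

set_option autoImplicit false
set_option Elab.async false

namespace Cfsg.Agent.Sp62Three31.Local

open Equiv
open Cfsg.Agent.S9Model37 (P9 W C1 C2 C3 D1 D2 D3 Tau Six)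
open Cfsg.Agent.S9Base37 (bel toP9 Par pmul cyc)

/-! ### The model -/

/-- A block permutation with signs. -/
abbrev Rep := Equiv.Perm (Fin 3) × (Fin 3 → Bool)

/-- The sign inside a block. -/
def sd (e : Bool) : Equiv.Perm (Fin 3) := if e then swap 0 1 else 1

/-- The representative of a coset of the base. -/
def R (r : Rep) : P9 := toP9 (r.1, fun q => sd (r.2 q))

theorem block_split : ∀ s : Equiv.Perm (Fin 3), ∃ k : Fin 3, ∃ e : Bool, s = cyc ^ k.val * sd e := by
  decide +kernel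

set_option maxRecDepth 100000 in
theorem base_par : ∀ a b c : Fin 3,
    toP9 (1, ![cyc ^ a.val, cyc ^ b.val, cyc ^ c.val]) = bel (a, b, c) := by
  decide +kernel

theorem exists_rep {σ : P9} (h : σ ∈ W) : ∃ v r, σ = bel v * R r := by
  obtain ⟨⟨π, s⟩, rfl⟩ := S9Base37.mem_W h
  choose k e hs using fun q => block_split (s q)
  refine ⟨(k (π⁻¹ 0), k (π⁻¹ 1), k (π⁻¹ 2)), (π, e), ?_⟩
  rw [← base_par, R, S9Base37.toP9_mul]
  congr 1
  refine Prod.ext (one_mul π).symm (funext fun q => ?_)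
  show s q = (![cyc ^ (k (π⁻¹ 0)).val, cyc ^ (k (π⁻¹ 1)).val, cyc ^ (k (π⁻¹ 2)).val] (π q)) * sd (e q)
  have key : ∀ t : Fin 3,
      ![cyc ^ (k (π⁻¹ 0)).val, cyc ^ (k (π⁻¹ 1)).val, cyc ^ (k (π⁻¹ 2)).val] t = cyc ^ (k (π⁻¹ t)).val := by
    intro t
    fin_cases t <;> rfl
  rw [key, show π⁻¹ (π q) = q from π.symm_apply_apply q]
  exact hs q

set_option maxRecDepth 100000 in
theorem no_fixed : ∀ r : Rep, ∀ k, bel k = R r ^ 3 → R r ≠ 1 →
    ∀ v : Fin 3 × Fin 3 × Fin 3, v ≠ 0 → (v.1 = 0 ∨ v.2.1 = 0 ∨ v.2.2 = 0) →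
      R r * bel v ≠ bel v * R r := by
  decide +kernel

/-- The dihedral group inside the stabiliser of the third cycle. -/
def dih4 : DihedralGroup 4 → P9
  | .r i => (S9Model37.d1 * S9Model37.tau) ^ i.val
  | .sr i => S9Model37.d1 * (S9Model37.d1 * S9Model37.tau) ^ i.val

set_option maxRecDepth 100000 in
theorem dih4_mul : ∀ x y : DihedralGroup 4, dih4 (x * y) = dih4 x * dih4 y := by
  decide +kernel

set_option maxRecDepth 100000 in
theorem dih4_comm : ∀ x : DihedralGroup 4, dih4 x * S9Model37.c3 = S9Model37.c3 * dih4 x := by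
  decide +kernel

set_option maxRecDepth 100000 in
theorem dih4_base : ∀ x : DihedralGroup 4, ∀ k, bel k = dih4 x → x = 1 := by
  decide +kernel

set_option maxRecDepth 100000 in
theorem stab_c : ∀ r : Rep, R r * S9Model37.c3 = S9Model37.c3 * R r →
    ∃ x : DihedralGroup 4, dih4 x = R r := by
  decide +kernel

/-- The four group inside the stabiliser of `c₁c₂`. -/
def dih2 : DihedralGroup 2 → P9
  | .r i => S9Model37.tau ^ i.val
  | .sr i => S9Model37.d3 * S9Model37.tau ^ i.val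

set_option maxRecDepth 100000 in
theorem dih2_mul : ∀ x y : DihedralGroup 2, dih2 (x * y) = dih2 x * dih2 y := by
  decide +kernel

set_option maxRecDepth 100000 in
theorem dih2_comm : ∀ x : DihedralGroup 2,
    dih2 x * (S9Model37.c1 * S9Model37.c2) = S9Model37.c1 * S9Model37.c2 * dih2 x := by
  decide +kernel

set_option maxRecDepth 100000 in
theorem dih2_base : ∀ x : DihedralGroup 2, ∀ k, bel k = dih2 x → x = 1 := by
  decide +kernel

set_option maxRecDepth 100000 in
theorem stab_y : ∀ r : Rep, R r * (S9Model37.c1 * S9Model37.c2) = S9Model37.c1 * S9Model37.c2 * R r →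
    ∃ x : DihedralGroup 2, dih2 x = R r := by
  decide +kernel

theorem dih4_mem (x : DihedralGroup 4) : dih4 x ∈ W := by
  have h : S9Model37.d1 * S9Model37.tau ∈ W := W.mul_mem D1.2 Tau.2
  rcases x with i | i
  · exact W.pow_mem h _
  · exact W.mul_mem D1.2 (W.pow_mem h _)

theorem dih2_mem (x : DihedralGroup 2) : dih2 x ∈ W := by
  rcases x with i | i
  · exact W.pow_mem Tau.2 _
  · exact W.mul_mem D3.2 (W.pow_mem Tau.2 _)

/-- The hom from the dihedral group of order eight. -/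
def dihW4 : DihedralGroup 4 →* W :=
  MonoidHom.mk' (fun x => ⟨dih4 x, dih4_mem x⟩) fun x y => Subtype.ext (dih4_mul x y)

/-- The hom from the four group. -/
def dihW2 : DihedralGroup 2 →* W :=
  MonoidHom.mk' (fun x => ⟨dih2 x, dih2_mem x⟩) fun x y => Subtype.ext (dih2_mul x y)

theorem center_six : ∀ x : Equiv.Perm (Fin 6), x * swap 0 1 = swap 0 1 * x → x * swap 1 2 = swap 1 2 * x →
    x * swap 3 4 = swap 3 4 * x → x * swap 4 5 = swap 4 5 * x → x = 1 := by
  decide +kernel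

theorem middle_swap : ∀ x : Equiv.Perm (Fin 6), x * x = 1 → x ≠ 1 → x * swap 0 1 = swap 0 1 * x →
    x * swap 4 5 = swap 4 5 * x → (x * swap 1 2) ^ 3 = 1 → (x * swap 3 4) ^ 3 = 1 → x = swap 2 3 := by
  decide +kernel


set_option maxRecDepth 100000 in
theorem bel_sub : ∀ a b : Fin 3 × Fin 3 × Fin 3, bel (a - b) = bel a * (bel b)⁻¹ := by
  intro a b
  rw [eq_mul_inv_iff_mul_eq]
  revert a b
  decide +kernel

/-! ### The base inside the group -/

universe u

variable {G : Type u} [Group G] [Finite G] {S : Setup G} (F : S.Frame)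

theorem commJ {a b : G} (ha : a ∈ S.J) (hb : b ∈ S.J) : a * b = b * a := by
  have h := S.hJcomm.is_comm.comm ⟨a, ha⟩ ⟨b, hb⟩
  exact congrArg Subtype.val h

theorem base_map : (S9Model37.base.subgroupOf W).map F.φ = S.J := by
  have hs : S9Model37.base.subgroupOf W = Subgroup.closure {C1, C2, C3} := by
    apply Subgroup.map_injective W.subtype_injective
    rw [Subgroup.map_subgroupOf_eq_of_le S9Base37.base_le_W, MonoidHom.map_closure]
    simp only [Set.image_insert_eq, Set.image_singleton]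
    rfl
  rw [F.base, hs, MonoidHom.map_closure]
  simp only [Set.image_insert_eq, Set.image_singleton]

theorem mem_J {w : W} : F.φ w ∈ S.J ↔ ∃ v, bel v = (w : P9) := by
  rw [← base_map F, Subgroup.mem_map_iff_mem F.inj, Subgroup.mem_subgroupOf, S9Base37.mem_base_iff]

theorem J_mem {j : G} (hj : j ∈ S.J) : ∃ (v : Fin 3 × Fin 3 × Fin 3) (u : W),
    bel v = (u : P9) ∧ F.φ u = j := by
  rw [← base_map F] at hj
  obtain ⟨u, hu, rfl⟩ := Subgroup.mem_map.1 hj
  obtain ⟨v, hv⟩ := S9Base37.mem_base_iff.1 (Subgroup.mem_subgroupOf.1 hu)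
  exact ⟨v, u, hv, rfl⟩

/-- An element of the normaliser, as a base element times a representative. -/
theorem normal_decomp {g : G} (hg : g ∈ Subgroup.normalizer (S.J : Set G)) :
    ∃ (a : G) (r : Rep) (t : W), a ∈ S.J ∧ (t : P9) = R r ∧ g = a * F.φ t := by
  rw [← F.range_eq] at hg
  obtain ⟨w, rfl⟩ := hg
  obtain ⟨v, r, hvr⟩ := exists_rep w.2
  let b : W := ⟨bel v, S9Base37.base_le_W (S9Base37.mem_base_iff.2 ⟨v, rfl⟩)⟩
  refine ⟨F.φ b, r, b⁻¹ * w, (mem_J F).2 ⟨v, rfl⟩, ?_, by rw [map_mul, map_inv, mul_inv_cancel_left]⟩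
  show (bel v)⁻¹ * (w : P9) = R r
  rw [hvr, inv_mul_cancel_left]

/-- An element of low weight. -/
def Low (j : G) : Prop := ∃ (v : Fin 3 × Fin 3 × Fin 3) (u : W),
  bel v = (u : P9) ∧ F.φ u = j ∧ v ≠ 0 ∧ (v.1 = 0 ∨ v.2.1 = 0 ∨ v.2.2 = 0)

theorem Low.mem {j : G} (h : Low F j) : j ∈ S.J := by
  obtain ⟨v, u, hv, rfl, -⟩ := h
  exact (mem_J F).2 ⟨v, hv⟩

theorem Low.ne {j : G} (h : Low F j) : j ≠ 1 := by
  obtain ⟨v, u, hv, rfl, hv0, -⟩ := h
  intro e
  rw [← map_one F.φ] at e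
  rw [F.inj e, Subgroup.coe_one, ← show bel 0 = (1 : P9) by decide +kernel] at hv
  exact hv0 (S9Base37.bel_facts.2.2 hv)

theorem mem_of_cube {j : G} (hj : Low F j) {g : G}
    (hgC : g ∈ Subgroup.centralizer ({j} : Set G)) (hgN : g ∈ Subgroup.normalizer (S.J : Set G))
    (hg : g ^ 3 ∈ S.J) : g ∈ S.J := by
  have hjJ := hj.mem
  obtain ⟨v, u, hv, rfl, hv0, hvz⟩ := hj
  obtain ⟨a, r, t, ha, ht, rfl⟩ := normal_decomp F hgN
  set τ := F.φ t with hτ
  have hτN : τ ∈ Subgroup.normalizer (S.J : Set G) := F.range_eq ▸ ⟨t, rfl⟩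
  have hc : ∀ x ∈ S.J, τ * x * τ⁻¹ ∈ S.J := fun x hx => (Subgroup.mem_normalizer_iff.1 hτN x).1 hx
  have h3 : τ ^ 3 ∈ S.J := by
    have e : τ ^ 3 = (a * (τ * a * τ⁻¹) * (τ * (τ * a * τ⁻¹) * τ⁻¹))⁻¹ * (a * τ) ^ 3 := by
      simp only [pow_three', mul_inv_rev, inv_inv, mul_assoc, inv_mul_cancel_left,
        mul_inv_cancel_left, inv_mul_cancel, mul_inv_cancel, mul_one]
    rw [e]
    exact S.J.mul_mem (S.J.inv_mem (S.J.mul_mem (S.J.mul_mem ha (hc a ha)) (hc _ (hc a ha)))) hg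
  rw [hτ, ← map_pow, mem_J F] at h3
  obtain ⟨k, hk⟩ := h3
  rw [SubmonoidClass.coe_pow, ht] at hk
  by_cases hr : R r = 1
  · have : t = 1 := Subtype.ext (ht.trans hr)
    rw [hτ, this, map_one, mul_one]
    exact ha
  refine absurd ?_ (no_fixed r k hk hr v hv0 hvz)
  have h1 : τ * F.φ u = F.φ u * τ := by
    refine mul_left_cancel (a := a) ?_
    rw [← mul_assoc, Subgroup.mem_centralizer_singleton_iff.1 hgC, ← mul_assoc a, commJ ha hjJ]
    group
  rw [hτ, ← map_mul, ← map_mul] at h1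
  have h2 := congrArg (Subtype.val : W → P9) (F.inj h1)
  simpa only [Subgroup.coe_mul, ht, hv] using h2

theorem exists_low {P : Subgroup G} (hP : P ≤ S.J) (hcard : Nat.card P = 9) :
    ∃ p ∈ P, Low F p := by
  classical
  choose v u hv hu using fun p : P => J_mem F (hP p.2)
  obtain ⟨p, q, hne, hpq⟩ : ∃ p q : P, p ≠ q ∧ (v p).1 = (v q).1 := by
    by_contra hcon
    simp only [not_exists, not_and] at hcon
    have := Nat.card_le_card_of_injective (fun p => (v p).1) fun p q e => by_contra fun h => hcon p q h e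
    rw [hcard, Nat.card_eq_fintype_card, Fintype.card_fin] at this
    omega
  refine ⟨(p * q⁻¹ : P), (p * q⁻¹).2, v p - v q, u p * (u q)⁻¹, ?_, ?_, ?_, Or.inl (sub_eq_zero.2 hpq)⟩
  · rw [Subgroup.coe_mul, Subgroup.coe_inv, ← hv p, ← hv q]
    exact bel_sub (v p) (v q)
  · rw [map_mul, map_inv, hu, hu, Subgroup.coe_mul, Subgroup.coe_inv]
  · intro e
    apply hne
    apply Subtype.ext
    have : u p = u q := Subtype.ext (by rw [← hv p, ← hv q, sub_eq_zero.1 e])
    rw [← hu p, ← hu q, this]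

/-! ### The centraliser of an element of low weight modulo that element -/

open PSpAmalgam31 (Self9 exists_lift mem_normalizer_of_maps)
open S9Local37 (Quo img card_map_mul)

/-- What the reduction gives. -/
structure Red (J : Subgroup G) (j : G) : Prop where
  self9 : Self9 (img J j)
  sylow : ∃ P : Sylow 3 (Quo j), (P : Subgroup (Quo j)) = img J j
  self : Subgroup.centralizer (img J j : Set (Quo j)) = img J j
  loc : ∀ t ∈ img J j, t ≠ 1 →
    Subgroup.centralizer ({t} : Set (Quo j)) ≤ Subgroup.normalizer (img J j : Set (Quo j))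
  norm : ∀ g : Subgroup.centralizer ({j} : Set G),
    (QuotientGroup.mk g : Quo j) ∈ Subgroup.normalizer (img J j : Set (Quo j)) ↔
      (g : G) ∈ Subgroup.normalizer (J : Set G)
  mem : ∀ g : Subgroup.centralizer ({j} : Set G), (QuotientGroup.mk g : Quo j) ∈ img J j ↔ (g : G) ∈ J

theorem Red.concl {J : Subgroup G} {j : G} (R : Red J j) (hn : (img J j).Normal) :
    Subgroup.centralizer ({j} : Set G) ≤ Subgroup.normalizer (J : Set G) := fun g hg =>
  (R.norm ⟨g, hg⟩).1 (by rw [Subgroup.normalizer_eq_top_iff.2 hn]; exact Subgroup.mem_top _)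

theorem red (hcJ : Subgroup.centralizer (S.J : Set G) = S.J) {j : G} (hj : Low F j) : Red S.J j := by
  haveI : Fact (Nat.Prime 3) := ⟨Nat.prime_three⟩
  have hjJ := hj.mem
  have hj1 := hj.ne
  set C := Subgroup.centralizer ({j} : Set G) with hCdef
  set Z := (Subgroup.zpowers j).subgroupOf C with hZdef
  set π : C →* Quo j := QuotientGroup.mk' Z with hπ
  have hJC : S.J ≤ C := fun x hx => Subgroup.mem_centralizer_singleton_iff.2 (commJ hx hjJ)
  have hZJ : Subgroup.zpowers j ≤ S.J := Subgroup.zpowers_le.2 hjJ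
  have hcom : ∀ g ∈ C, ∀ i : ℤ, g * j ^ i = j ^ i * g := fun g hg i =>
    ((show Commute g j from Subgroup.mem_centralizer_singleton_iff.1 hg).zpow_right i).eq
  have hker : ∀ a : C, π a = 1 ↔ (a : G) ∈ Subgroup.zpowers j := fun a => by
    rw [hπ, QuotientGroup.mk'_apply, QuotientGroup.eq_one_iff, hZdef, Subgroup.mem_subgroupOf]
  have hsurj : Function.Surjective π := QuotientGroup.mk'_surjective Z
  have himg : ∀ a : C, π a ∈ img S.J j ↔ (a : G) ∈ S.J := fun a => by
    refine ⟨fun ha => ?_, fun ha => Subgroup.mem_map.2 ⟨a, ha, rfl⟩⟩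
    obtain ⟨b, hb, hba⟩ := Subgroup.mem_map.1 ha
    have e := (hker (b⁻¹ * a)).1 (by rw [map_mul, map_inv]; simp [hπ] at hba ⊢; rw [hba, inv_mul_cancel])
    have := S.J.mul_mem (Subgroup.mem_subgroupOf.1 hb) (hZJ e)
    simpa using this
  have hoj : orderOf j = 3 := orderOf_eq_prime (S.hJexp j hjJ) hj1
  have hcardZ : Nat.card π.ker = 3 := by
    rw [hπ, QuotientGroup.ker_mk', hZdef,
      Nat.card_congr (Subgroup.subgroupOfEquivOfLe (Subgroup.zpowers_le.2 (hJC hjJ))).toEquiv,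
      Nat.card_zpowers, hoj]
  have hkerle : π.ker ≤ S.J.subgroupOf C := fun a ha =>
    Subgroup.mem_subgroupOf.2 (hZJ ((hker a).1 ha))
  have hcard : Nat.card (img S.J j) = 9 := by
    have := card_map_mul π (S.J.subgroupOf C) hkerle
    rw [hcardZ, Nat.card_congr (Subgroup.subgroupOfEquivOfLe hJC).toEquiv, S.hJcard] at this
    change Nat.card ((S.J.subgroupOf C).map π) = 9
    omega
  have hexp : ∀ a ∈ img S.J j, a ^ 3 = 1 := by
    intro a ha
    obtain ⟨b, rfl⟩ := hsurj a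
    rw [← map_pow, hker, SubmonoidClass.coe_pow, S.hJexp _ ((himg b).1 ha)]
    exact Subgroup.one_mem _
  have hcomm : ∀ a ∈ img S.J j, ∀ b ∈ img S.J j, a * b = b * a := by
    intro a ha b hb
    obtain ⟨a, rfl⟩ := hsurj a
    obtain ⟨b, rfl⟩ := hsurj b
    rw [← map_mul, ← map_mul]
    exact congrArg π (Subtype.ext (commJ ((himg a).1 ha) ((himg b).1 hb)))
  have hself : ∀ x : Quo j, (∀ m ∈ img S.J j, x * m = m * x) → x ∈ img S.J j := by
    intro x hx
    obtain ⟨g, rfl⟩ := hsurj x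
    rw [himg]
    have hmov : ∀ t ∈ S.J, ∃ i : ℤ, (g : G) * t * (g : G)⁻¹ = t * j ^ i := fun t ht => by
      have e := hx (π ⟨t, hJC ht⟩) ((himg _).2 ht)
      have e' : π (⟨t, hJC ht⟩⁻¹ * (g * ⟨t, hJC ht⟩ * g⁻¹)) = 1 := by
        simp only [map_mul, map_inv, e]
        group
      obtain ⟨i, hi⟩ := Subgroup.mem_zpowers_iff.1 ((hker _).1 e')
      simp only [Subgroup.coe_mul, Subgroup.coe_inv] at hi
      exact ⟨i, by rw [hi]; group⟩
    have hgN : (g : G) ∈ Subgroup.normalizer (S.J : Set G) := mem_normalizer_of_maps fun t ht => by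
      obtain ⟨i, hi⟩ := hmov t ht
      rw [hi]
      exact S.J.mul_mem ht (zpow_mem hjJ i)
    refine mem_of_cube F hj g.2 hgN (hcJ.le (Subgroup.mem_centralizer_iff.2 fun t ht => ?_))
    obtain ⟨i, hi⟩ := hmov t ht
    have e1 : (g : G) * j ^ i * (g : G)⁻¹ = j ^ i := by rw [hcom g g.2 i]; group
    have ej : (j ^ i) * (j ^ i) * (j ^ i) = 1 := by
      rw [← pow_three', S.hJexp _ (zpow_mem hjJ i)]
    have step : ∀ s : G, (g : G) * (s * j ^ i) * (g : G)⁻¹ = (g * s * (g : G)⁻¹) * j ^ i := fun s => by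
      conv_rhs => rw [← e1]
      group
    have e3 : (g : G) ^ 3 * t * ((g : G) ^ 3)⁻¹ = t := by
      calc (g : G) ^ 3 * t * ((g : G) ^ 3)⁻¹
          = g * (g * (g * t * (g : G)⁻¹) * (g : G)⁻¹) * (g : G)⁻¹ := by rw [pow_three]; group
        _ = t * j ^ i * j ^ i * j ^ i := by rw [hi, step, hi, step, step, hi]
        _ = t := by rw [mul_assoc t, mul_assoc t, ej, mul_one]
    exact (mul_inv_eq_iff_eq_mul.1 e3).symm
  have hidx : ¬ 3 ∣ (img S.J j).index := by
    intro hd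
    have h1 : (img S.J j).index = (S.J.subgroupOf C).index :=
      (S.J.subgroupOf C).index_map_eq hsurj hkerle
    have hJ' : Nat.card (S.J.subgroupOf C) = 3 ^ 3 := by
      rw [Nat.card_congr (Subgroup.subgroupOfEquivOfLe hJC).toEquiv, S.hJcard]; norm_num
    have h81 : 3 ^ (3 + 1) ∣ Nat.card C := by
      rw [← (S.J.subgroupOf C).card_mul_index, hJ', ← h1]
      exact mul_dvd_mul_left (3 ^ 3) hd
    set K := Subgroup.normalizer ((S.J.subgroupOf C : Subgroup C) : Set C) with hK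
    have h4 := Sylow.prime_pow_dvd_card_normalizer h81 hJ'
    haveI : ((S.J.subgroupOf C).subgroupOf K).Normal := Subgroup.normal_in_normalizer
    have h5 := Subgroup.card_eq_card_quotient_mul_card_subgroup ((S.J.subgroupOf C).subgroupOf K)
    rw [Nat.card_congr (Subgroup.subgroupOfEquivOfLe Subgroup.le_normalizer).toEquiv, hJ'] at h5
    rw [h5, mul_comm (Nat.card _), pow_succ] at h4
    have h6 : 3 ∣ Nat.card (K ⧸ (S.J.subgroupOf C).subgroupOf K) :=
      Nat.dvd_of_mul_dvd_mul_left (by norm_num) h4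
    obtain ⟨q, hq⟩ := exists_prime_orderOf_dvd_card' 3 h6
    obtain ⟨g, rfl⟩ := QuotientGroup.mk_surjective q
    have hgN : ((g : C) : G) ∈ Subgroup.normalizer (S.J : Set G) := mem_normalizer_of_maps fun s hs => by
      simpa [Subgroup.mem_subgroupOf] using (Subgroup.mem_normalizer_iff.1 g.2 ⟨s, hJC hs⟩).1 hs
    have hcube : ((g : C) : G) ^ 3 ∈ S.J := by
      have e := pow_orderOf_eq_one (QuotientGroup.mk g : K ⧸ (S.J.subgroupOf C).subgroupOf K)
      rw [hq, ← QuotientGroup.mk_pow, QuotientGroup.eq_one_iff] at e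
      exact e
    have : (QuotientGroup.mk g : K ⧸ (S.J.subgroupOf C).subgroupOf K) = 1 := by
      rw [QuotientGroup.eq_one_iff]
      exact mem_of_cube F hj (g : C).2 hgN hcube
    rw [this, orderOf_one] at hq
    omega
  have hsig : ∀ K : Subgroup (Quo j), ¬ 3 ∣ Nat.card K →
      (∀ m ∈ img S.J j, ∀ k ∈ K, m * k * m⁻¹ ∈ K) → K = ⊥ := by
    intro K hK hinv
    have hc : π.ker ≤ Subgroup.center C := fun z hz => by
      obtain ⟨i, hi⟩ := Subgroup.mem_zpowers_iff.1 ((hker z).1 hz)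
      exact Subgroup.mem_center_iff.2 fun g => Subtype.ext (by
        show (g : G) * z = z * g
        rw [← hi]; exact hcom g g.2 i)
    obtain ⟨L, hLc, -, hLn⟩ := exists_lift π hcardZ hc K (fun k _ => hsurj k) hK
    have hb := S.hJsig (L.map C.subtype)
      (by rw [Subgroup.card_map_of_injective C.subtype_injective, hLc]
          exact ((Nat.Prime.coprime_iff_not_dvd Nat.prime_three).2 hK).symm)
      (fun m hm => Subgroup.eq_of_le_of_card_ge (by
          rintro _ ⟨_, ⟨k, hk, rfl⟩, rfl⟩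
          exact ⟨_, hLn ⟨m, hJC hm⟩ (hinv _ ((himg _).2 hm)) k hk, rfl⟩)
        (le_of_eq (Subgroup.card_map_of_injective (MulAut.conj m).injective).symm))
    rw [Subgroup.map_eq_bot_iff_of_injective _ C.subtype_injective] at hb
    rw [hb, Subgroup.card_bot] at hLc
    exact Subgroup.eq_bot_of_card_eq _ hLc.symm
  have h9 : Self9 (img S.J j) := ⟨hcomm, hexp, hcard, hself, hidx, hsig⟩
  refine ⟨h9, ?_, ?_, fun t ht ht1 => h9.centralizer_le ht ht1, fun g => ⟨fun hg => ?_, fun hg => ?_⟩,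
    himg⟩
  · exact ⟨(IsPGroup.of_card (n := 2) (by rw [hcard]; norm_num)).toSylow hidx, rfl⟩
  · refine le_antisymm (fun x hx => hself x fun m hm => (Subgroup.mem_centralizer_iff.1 hx m hm).symm) ?_
    exact fun x hx => Subgroup.mem_centralizer_iff.2 fun m hm => hcomm m hm x hx
  · refine mem_normalizer_of_maps fun s hs => ?_
    have := (Subgroup.mem_normalizer_iff.1 hg (π ⟨s, hJC hs⟩)).1 ((himg _).2 hs)
    change π g * π ⟨s, hJC hs⟩ * (π g)⁻¹ ∈ _ at this
    rw [← map_inv, ← map_mul, ← map_mul, himg] at this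
    exact this
  · refine mem_normalizer_of_maps fun x hx => ?_
    obtain ⟨b, rfl⟩ := hsurj x
    show π g * π b * (π g)⁻¹ ∈ _
    rw [← map_inv, ← map_mul, ← map_mul, himg]
    exact (Subgroup.mem_normalizer_iff.1 hg _).1 ((himg b).1 hx)

include F in
/-- The centraliser of a plane of `J` normalises `J`. -/
theorem plane (hcJ : Subgroup.centralizer (S.J : Set G) = S.J) (_hsyl : ¬ 3 ^ 5 ∣ Nat.card G)
    {P : Subgroup G} (hP : P ≤ S.J) (hcard : Nat.card P = 9) :
    Subgroup.centralizer (P : Set G) ≤ Subgroup.normalizer (S.J : Set G) := by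
  obtain ⟨p, hp, hlow⟩ := exists_low F hP hcard
  have R := red F hcJ hlow
  obtain ⟨q, hq, hqp⟩ : ∃ q ∈ P, q ∉ Subgroup.zpowers p := by
    by_contra hcon
    simp only [not_exists, not_and, not_not] at hcon
    have := Subgroup.card_le_of_le (show P ≤ Subgroup.zpowers p from hcon)
    rw [hcard, Nat.card_zpowers, orderOf_eq_prime (S.hJexp p hlow.mem) hlow.ne] at this
    omega
  intro g hg
  have hgC : g ∈ Subgroup.centralizer ({p} : Set G) :=
    Subgroup.mem_centralizer_singleton_iff.2 (Subgroup.mem_centralizer_iff.1 hg p hp).symm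
  have hqC : q ∈ Subgroup.centralizer ({p} : Set G) :=
    Subgroup.mem_centralizer_singleton_iff.2 (commJ (hP hq) hlow.mem)
  refine (R.norm ⟨g, hgC⟩).1 (R.loc (QuotientGroup.mk ⟨q, hqC⟩) ((R.mem _).2 (hP hq)) ?_ ?_)
  · rw [Ne, QuotientGroup.eq_one_iff, Subgroup.mem_subgroupOf]
    exact hqp
  · rw [Subgroup.mem_centralizer_singleton_iff, ← QuotientGroup.mk_mul, ← QuotientGroup.mk_mul]
    exact congrArg QuotientGroup.mk (Subtype.ext (Subgroup.mem_centralizer_iff.1 hg q hq).symm)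

/-- The automiser in the quotient. -/
theorem quot_iso (hcJ : Subgroup.centralizer (S.J : Set G) = S.J) {u : W} (hlow : Low F (F.φ u))
    {D : Type} [Group D] (δ : D →* W) (hcomm : ∀ x, Commute (δ x) u)
    (hbase : ∀ x, ∀ k, bel k = (δ x : P9) → x = 1)
    (hstab : ∀ r : Rep, R r * (u : P9) = (u : P9) * R r → ∃ x, (δ x : P9) = R r)
    {P : Subgroup (Quo (F.φ u))} (hP : P = img S.J (F.φ u))
    [(P.subgroupOf (Subgroup.normalizer (P : Set (Quo (F.φ u))))).Normal] :
    Nonempty (D ≃* Subgroup.normalizer (P : Set (Quo (F.φ u))) ⧸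
      P.subgroupOf (Subgroup.normalizer (P : Set (Quo (F.φ u))))) := by
  subst hP
  have R' := red F hcJ hlow
  set C := Subgroup.centralizer ({F.φ u} : Set G) with hC
  let g : D →* C := (F.φ.comp δ).codRestrict C fun x =>
    Subgroup.mem_centralizer_singleton_iff.2 ((hcomm x).map F.φ).eq
  have hgv : ∀ x, ((g x : C) : G) = F.φ (δ x) := fun x => rfl
  have hN : ∀ x, ((QuotientGroup.mk' _).comp g) x ∈
      Subgroup.normalizer (img S.J (F.φ u) : Set (Quo (F.φ u))) := fun x =>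
    (R'.norm (g x)).2 (F.range_eq ▸ ⟨δ x, rfl⟩)
  set N := Subgroup.normalizer (img S.J (F.φ u) : Set (Quo (F.φ u)))
  let Φ : D →* N ⧸ (img S.J (F.φ u)).subgroupOf N :=
    (QuotientGroup.mk' _).comp (((QuotientGroup.mk' _).comp g).codRestrict N hN)
  refine ⟨MulEquiv.ofBijective Φ ⟨(injective_iff_map_eq_one Φ).2 fun x hx => ?_, fun y => ?_⟩⟩
  · have h1 : (QuotientGroup.mk (g x) : Quo (F.φ u)) ∈ img S.J (F.φ u) :=
      Subgroup.mem_subgroupOf.1 ((QuotientGroup.eq_one_iff _).1 hx)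
    rw [R'.mem, hgv, mem_J F] at h1
    obtain ⟨k, hk⟩ := h1
    exact hbase x k hk
  · obtain ⟨⟨y, hy⟩, rfl⟩ := QuotientGroup.mk_surjective y
    obtain ⟨c, rfl⟩ := QuotientGroup.mk_surjective y
    obtain ⟨a, r, t, ha, ht, hat⟩ := normal_decomp F ((R'.norm c).1 hy)
    have h1 : F.φ t * F.φ u = F.φ u * F.φ t := by
      refine mul_left_cancel (a := a) ?_
      rw [← mul_assoc, ← hat, Subgroup.mem_centralizer_singleton_iff.1 c.2, hat, ← mul_assoc a,
        commJ ha hlow.mem]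
      group
    rw [← map_mul, ← map_mul] at h1
    have h2 := congrArg (Subtype.val : W → P9) (F.inj h1)
    rw [Subgroup.coe_mul, Subgroup.coe_mul, ht] at h2
    obtain ⟨x, hx⟩ := hstab r h2
    refine ⟨x, ?_⟩
    refine ((QuotientGroup.eq).2 ?_)
    show (QuotientGroup.mk (g x))⁻¹ * (QuotientGroup.mk c) ∈ img S.J (F.φ u)
    rw [← QuotientGroup.mk_inv, ← QuotientGroup.mk_mul, R'.mem, Subgroup.coe_mul, Subgroup.coe_inv, hgv,
      show δ x = t from Subtype.ext (hx.trans ht.symm), hat]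
    have hτN : F.φ t ∈ Subgroup.normalizer (S.J : Set G) := F.range_eq ▸ ⟨t, rfl⟩
    rw [← mul_assoc]
    exact (Subgroup.mem_normalizer_iff''.1 hτN a).1 ha

theorem low_y : Low F (F.φ (C1 * C2)) :=
  ⟨(1, 1, 0), C1 * C2, by decide +kernel, rfl, by decide, by decide⟩

theorem low_c : Low F (F.φ C3) :=
  ⟨(0, 0, 1), C3, by decide +kernel, rfl, by decide, by decide⟩

/-- The centraliser of `φ (C1 * C2)` normalises `J`. -/
theorem cy (hcJ : Subgroup.centralizer (S.J : Set G) = S.J) (_hsyl : ¬ 3 ^ 5 ∣ Nat.card G) :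
    Subgroup.centralizer ({F.φ (C1 * C2)} : Set G) ≤ Subgroup.normalizer (S.J : Set G) := by
  have R' := red F hcJ (low_y F)
  obtain ⟨P, hP⟩ := R'.sylow
  refine R'.concl (hP ▸ ?_)
  haveI : ((P : Subgroup (Quo (F.φ (C1 * C2)))).subgroupOf
      (Subgroup.normalizer ((P : Subgroup (Quo (F.φ (C1 * C2)))) : Set (Quo (F.φ (C1 * C2)))))).Normal :=
    Subgroup.normal_in_normalizer
  obtain ⟨e⟩ := quot_iso F hcJ (low_y F) dihW2 (fun x => Subtype.ext (dih2_comm x)) dih2_base
    stab_y hP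
  refine Subgroup.normalizer_eq_top_iff.1 (S3805.result P ⟨⟨⟨fun a b => Subtype.ext ?_⟩⟩, fun a ha =>
    R'.self9.exp a (hP ▸ ha)⟩ ?_ ?_ ?_ ?_)
  · exact R'.self9.comm a (hP ▸ a.2) b (hP ▸ b.2)
  · simpa only [← hP] using R'.self9.card
  · simpa only [hP] using R'.self
  · haveI : IsKleinFour (DihedralGroup 2) := inferInstance
    exact ⟨by rw [← Nat.card_congr e.toEquiv]; exact IsKleinFour.card_four,
      by rw [← Monoid.exponent_eq_of_mulEquiv e]; exact IsKleinFour.exponent_two⟩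
  · simpa only [hP] using R'.loc

theorem exists_six (f : ↥(Subgroup.centralizer ({F.φ C3} : Set G)) →* Equiv.Perm (Fin 6))
    (hf : Function.Surjective f)
    (hker : f.ker = (Subgroup.zpowers (F.φ C3)).subgroupOf _) :
    ∃ ι : Equiv.Perm (Fin 6) →* G, Six F.φ ι := by
  revert f
  set φ := F.φ with hφ
  set J := S.J with hJ
  have hgen : φ C1 ∈ J ∧ φ C2 ∈ J ∧ φ C3 ∈ J := by
    rw [hJ, F.base]
    refine ⟨?_, ?_, ?_⟩ <;> apply Subgroup.subset_closure <;> simp [hφ]
  obtain ⟨m1, m2, m3⟩ := hgen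
  set C : Subgroup G := Subgroup.centralizer ({φ C3} : Set G) with hCdef
  intro f hf hker
  have hJC : J ≤ C := fun a ha =>
    Subgroup.mem_centralizer_singleton_iff.2 (commJ ha m3)
  have memC : ∀ {w : W}, Commute w C3 → φ w ∈ C := fun hw =>
    Subgroup.mem_centralizer_singleton_iff.2 (hw.map φ).eq
  obtain ⟨⟨q1, q2, q3, q4, q5⟩, h33, h31⟩ := S9Six37.c3_comm
  have e3 : φ C3 ∈ C := hJC m3
  have ho : orderOf (φ C3) = 3 := by
    haveI : Fact (Nat.Prime 3) := ⟨Nat.prime_three⟩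
    exact orderOf_eq_prime ((S.hJexp _ m3)) (fun e => h31 (F.inj (e.trans (map_one φ).symm)))
  -- orders
  have hCcard : Nat.card C = 3 * 720 := by
    rw [Subgroup.card_eq_card_quotient_mul_card_subgroup f.ker,
      Nat.card_congr (QuotientGroup.quotientKerEquivOfSurjective f hf).toEquiv, hker,
      Nat.card_congr (Subgroup.subgroupOfEquivOfLe (Subgroup.zpowers_le.2 e3)).toEquiv,
      Nat.card_zpowers, ho, Nat.card_perm, Nat.card_fin]
    decide
  let J' : Subgroup C := J.subgroupOf C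
  have hJ' : Nat.card J' = 27 := by
    rw [Nat.card_congr (Subgroup.subgroupOfEquivOfLe hJC).toEquiv]
    exact S.hJcard
  have hidx : J'.index = 80 := by
    have := Subgroup.card_mul_index J'
    rw [hJ', hCcard] at this
    omega
  haveI : IsMulCommutative J' := ⟨⟨fun a b => Subtype.ext <| Subtype.ext <| commJ a.2 b.2⟩⟩
  haveI : J'.FiniteIndex := inferInstance
  open scoped IsMulCommutative in
  let t : C →* J' := MonoidHom.transfer (MonoidHom.id J')
  have ht3 : ∀ x : J', x ^ 3 = 1 := fun x => Subtype.ext <| Subtype.ext <| by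
    simpa using S.hJexp _ x.2
  have hinv : ∀ c : C, c * c = 1 → t c = 1 := fun c hc => by
    have h2 : t c ^ 2 = 1 := by rw [pow_two, ← map_mul, hc, map_one]
    have := ht3 (t c)
    rwa [pow_succ, h2, one_mul] at this
  let e : C := ⟨φ C3, e3⟩
  have hte : (t e : C) = e ^ 80 := by
    have key : ∀ (k : ℕ) (g : C), g⁻¹ * e ^ k * g ∈ J' → g⁻¹ * e ^ k * g = e ^ k := by
      intro k g _
      have hc : Commute e g := Subtype.ext (Subgroup.mem_centralizer_singleton_iff.1 g.2).symm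
      rw [mul_assoc, (hc.pow_left k).eq, inv_mul_cancel_left]
    open scoped IsMulCommutative in
    show ((MonoidHom.transfer (MonoidHom.id J') e : J') : C) = e ^ 80
    rw [MonoidHom.transfer_eq_pow _ _ key]
    simp [hidx]
  have hek : ∀ x ∈ f.ker, ∃ k : ℤ, x = e ^ k := fun x hx => by
    rw [hker, Subgroup.mem_subgroupOf] at hx
    obtain ⟨k, hk⟩ := Subgroup.mem_zpowers_iff.1 hx
    exact ⟨k, Subtype.ext (by simpa [e] using hk.symm)⟩
  have hee : e ∈ f.ker := by
    rw [hker, Subgroup.mem_subgroupOf]; exact Subgroup.mem_zpowers _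
  -- `f` maps the kernel of the transfer bijectively
  have hsur : ∀ σ : (Equiv.Perm (Fin 6)), ∃ c : C, t c = 1 ∧ f c = σ := by
    intro σ
    induction σ using Equiv.Perm.swap_induction_on with
    | one => exact ⟨1, map_one t, map_one f⟩
    | swap_mul σ x y hxy ih =>
      obtain ⟨c, hc1, hc2⟩ := ih
      obtain ⟨l, hl⟩ := hf (swap x y)
      obtain ⟨k, hk⟩ := hek (l * l) (by rw [MonoidHom.mem_ker, map_mul, hl, swap_mul_self])
      refine ⟨l ^ 3 * c, ?_, ?_⟩
      · rw [map_mul, hc1, mul_one]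
        refine hinv _ ?_
        rw [← pow_add, show 3 + 3 = 2 * 3 from rfl, pow_mul, pow_two, hk, ← zpow_natCast,
          ← zpow_mul, mul_comm, zpow_mul, zpow_natCast]
        have he : e ^ 3 = 1 := Subtype.ext (by simpa [e] using (S.hJexp _ m3))
        rw [he, one_zpow]
      · rw [map_mul, map_pow, hl, hc2, pow_succ, pow_two, swap_mul_self, one_mul]
  have hbij : Function.Bijective (f.comp t.ker.subtype) := by
    refine ⟨(injective_iff_map_eq_one _).2 fun x hx => ?_, fun σ => ?_⟩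
    · obtain ⟨k, hk⟩ := hek x.1 hx
      have hx1 : ((t x.1 : J') : C) = 1 := by rw [MonoidHom.mem_ker.1 x.2]; rfl
      rw [hk, map_zpow, Subgroup.coe_zpow, hte, ← zpow_natCast, ← zpow_mul,
        ← orderOf_dvd_iff_zpow_eq_one, Subgroup.orderOf_mk, ho] at hx1
      apply Subtype.ext
      rw [hk, Subgroup.coe_one, ← orderOf_dvd_iff_zpow_eq_one, Subgroup.orderOf_mk, ho]
      omega
    · obtain ⟨c, hc1, hc2⟩ := hsur σ
      exact ⟨⟨c, hc1⟩, hc2⟩
  let s : (Equiv.Perm (Fin 6)) ≃* t.ker := (MulEquiv.ofBijective _ hbij).symm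
  let ι₀ : (Equiv.Perm (Fin 6)) →* C := t.ker.subtype.comp s.toMonoidHom
  have hι₀ : ∀ c : C, t c = 1 → ι₀ (f c) = c := fun c hc => by
    have : s (f c) = ⟨c, hc⟩ := by rw [MulEquiv.symm_apply_eq]; rfl
    simp [ι₀, this]
  have hfι : ∀ σ, f (ι₀ σ) = σ := fun σ => (MulEquiv.ofBijective _ hbij).apply_symm_apply σ
  -- the five elements
  let x1 : C := ⟨φ C1, memC q1⟩
  let x2 : C := ⟨φ C2, memC q2⟩
  let y1 : C := ⟨φ D1, memC q3⟩
  let y2 : C := ⟨φ D2, memC q4⟩
  let z : C := ⟨φ Tau, memC q5⟩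
  have R0 := S9Six37.w_rel.map φ F.inj
  have R : S9Six37.Rel x1 x2 y1 y2 z :=
    { a1 := Subtype.ext R0.a1, a2 := Subtype.ext R0.a2, aa := Subtype.ext R0.aa
      b1 := Subtype.ext R0.b1, b2 := Subtype.ext R0.b2, i1 := Subtype.ext R0.i1
      i2 := Subtype.ext R0.i2, c12 := Subtype.ext R0.c12, c21 := Subtype.ext R0.c21
      tt := Subtype.ext R0.tt, ta := Subtype.ext R0.ta, tb := Subtype.ext R0.tb
      n1 := fun e => R0.n1 (congrArg Subtype.val e), n2 := fun e => R0.n2 (congrArg Subtype.val e)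
      n12 := fun e => R0.n12 (congrArg Subtype.val e)
      n12' := fun e => R0.n12' (congrArg Subtype.val e) }
  have ty1 : t y1 = 1 := hinv _ R.b1
  have ty2 : t y2 = 1 := hinv _ R.b2
  have tz : t z = 1 := hinv _ R.tt
  have tinv : ∀ x y : C, t y = 1 → y * x * y = x * x → t x = 1 := fun x y hy hxy => by
    have h2 := congrArg t hxy
    rw [map_mul, map_mul, map_mul, hy, one_mul, mul_one] at h2
    exact mul_right_cancel (h2.symm.trans (one_mul _).symm)
  have tx1 : t x1 = 1 := tinv _ _ ty1 R.i1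
  have tx2 : t x2 = 1 := tinv _ _ ty2 R.i2
  let L := t.ker
  let R' : S9Six37.Rel (⟨x1, tx1⟩ : L) ⟨x2, tx2⟩ ⟨y1, ty1⟩ ⟨y2, ty2⟩ ⟨z, tz⟩ :=
    { a1 := Subtype.ext R.a1, a2 := Subtype.ext R.a2, aa := Subtype.ext R.aa
      b1 := Subtype.ext R.b1, b2 := Subtype.ext R.b2, i1 := Subtype.ext R.i1
      i2 := Subtype.ext R.i2, c12 := Subtype.ext R.c12, c21 := Subtype.ext R.c21
      tt := Subtype.ext R.tt, ta := Subtype.ext R.ta, tb := Subtype.ext R.tb
      n1 := fun e => R.n1 (congrArg Subtype.val e), n2 := fun e => R.n2 (congrArg Subtype.val e)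
      n12 := fun e => R.n12 (congrArg Subtype.val e)
      n12' := fun e => R.n12' (congrArg Subtype.val e) }
  obtain ⟨ψ, p1, p2, p3, p4, p5⟩ := S9Six37.normal_form (R'.map _ hbij.1)
  let ι : (Equiv.Perm (Fin 6)) →* G := C.subtype.comp (ι₀.comp ψ.symm.toMonoidHom)
  have hval : ∀ (σ : (Equiv.Perm (Fin 6))) (c : C), t c = 1 → ψ (f c) = σ → ι σ = (c : G) := fun σ c hc hσ => by
    simp [ι, ← hσ, hι₀ c hc]
  refine ⟨ι, ⟨?_, fun σ => ?_, ?_, hval _ _ tx1 p1, hval _ _ tx2 p2, hval _ _ ty1 p3,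
    hval _ _ ty2 p4, hval _ _ tz p5⟩⟩
  · show Function.Injective fun σ => ((ι₀ (ψ.symm σ) : C) : G)
    exact Subtype.val_injective.comp ((Function.LeftInverse.injective hfι).comp ψ.symm.injective)
  · exact Subgroup.mem_centralizer_singleton_iff.1 (ι₀ (ψ.symm σ)).2
  · refine le_antisymm (fun c hc => ?_) (sup_le (Subgroup.zpowers_le.2 e3) ?_)
    · obtain ⟨k, hk⟩ := hek (⟨c, hc⟩ * (ι₀ (f ⟨c, hc⟩))⁻¹) (by
        rw [MonoidHom.mem_ker, map_mul, map_inv, hfι, mul_inv_cancel])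
      rw [mul_inv_eq_iff_eq_mul] at hk
      have hc' := congrArg Subtype.val hk
      simp only [Subgroup.coe_mul, Subgroup.coe_zpow, e] at hc'
      rw [hc']
      exact Subgroup.mul_mem_sup (Subgroup.zpow_mem_zpowers _ _)
        ⟨ψ (f ⟨c, hc⟩), by simp [ι]⟩
    · rintro _ ⟨σ, rfl⟩
      exact (ι₀ (ψ.symm σ)).2

theorem d3_facts : Commute D3 C1 ∧ Commute D3 C2 ∧ Commute D3 D1 ∧ Commute D3 D2 ∧ Commute D3 Tau ∧
    D3 * C3 * D3⁻¹ = C3 * C3 := by
  refine ⟨?_, ?_, ?_, ?_, ?_, ?_⟩ <;> (apply Subtype.ext; decide +kernel)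

theorem six_gens : [swap (0 : Fin 6) 1, swap 1 2, swap 3 4, swap 4 5] =
    [swap 0 1, swap 0 1 * (swap 0 1 * swap 1 2), swap 3 4, swap 3 4 * (swap 3 4 * swap 4 5)] := by
  decide +kernel

theorem six_commute {ι : Equiv.Perm (Fin 6) →* G} (h : Six F.φ ι) :
    ∀ σ, Commute (ι σ) (F.φ D3) := by
  set d := F.φ D3 with hd
  set e := F.φ C3 with he
  obtain ⟨q1, q2, q3, q4, -, q6⟩ := d3_facts
  have k1 : Commute (ι (swap 0 1 * swap 1 2)) d := by rw [h.map_c1]; exact (q1.map F.φ).symm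
  have k2 : Commute (ι (swap 3 4 * swap 4 5)) d := by rw [h.map_c2]; exact (q2.map F.φ).symm
  have k3 : Commute (ι (swap 0 1)) d := by rw [h.map_d1]; exact (q3.map F.φ).symm
  have k4 : Commute (ι (swap 3 4)) d := by rw [h.map_d2]; exact (q4.map F.φ).symm
  have a12 : Commute (ι (swap 1 2)) d := by
    have : swap (1 : Fin 6) 2 = swap 0 1 * (swap 0 1 * swap 1 2) := by rw [swap_mul_self_mul]
    rw [this, map_mul]; exact k3.mul_left k1
  have a45 : Commute (ι (swap 4 5)) d := by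
    have : swap (4 : Fin 6) 5 = swap 3 4 * (swap 3 4 * swap 4 5) := by rw [swap_mul_self_mul]
    rw [this, map_mul]; exact k4.mul_left k2
  have hde : d * e * d⁻¹ = e * e := by rw [hd, he, ← map_inv, ← map_mul, ← map_mul, q6, map_mul]
  have he3 : e ^ 3 = 1 := S.hJexp _ (low_c F).mem
  obtain ⟨x, hx⟩ : ∃ x, ι x = d * ι (swap 2 3) * d⁻¹ := by
    set c := d * ι (swap 2 3) * d⁻¹ with hc
    have hcC : c ∈ Subgroup.centralizer ({e} : Set G) := by
      rw [Subgroup.mem_centralizer_singleton_iff]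
      have h0 : Commute c (d * e * d⁻¹) := (h.comm (swap 2 3)).map (MulAut.conj d).toMonoidHom
      rw [hde] at h0
      have h4 : Commute c ((e * e) * (e * e)) := h0.mul_right h0
      rw [show e * e * (e * e) = e ^ 3 * e by simp only [pow_succ, pow_zero, one_mul, mul_assoc], he3,
        one_mul] at h4
      exact h4.eq
    rw [h.cent] at hcC
    have hco : ∀ (z : Subgroup.zpowers e) (σ : Equiv.Perm (Fin 6)), Commute ((Subgroup.zpowers e).subtype z) (ι σ) := by
      intro z σ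
      obtain ⟨i, hi⟩ := Subgroup.mem_zpowers_iff.1 z.2
      rw [Subgroup.coe_subtype, ← hi]
      exact ((h.comm σ).zpow_right i).symm
    have hr := MonoidHom.noncommCoprod_range (Subgroup.zpowers e).subtype ι hco
    rw [Subgroup.range_subtype] at hr
    rw [← hr] at hcC
    obtain ⟨⟨z, σ⟩, hzσ⟩ := hcC
    simp only [MonoidHom.noncommCoprod_apply, Subgroup.coe_subtype] at hzσ hco
    have hc2 : c * c = 1 := by
      rw [hc, show d * ι (swap 2 3) * d⁻¹ * (d * ι (swap 2 3) * d⁻¹) = d * (ι (swap 2 3) * ι (swap 2 3)) * d⁻¹ by group,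
        ← map_mul, swap_mul_self, map_one, mul_one, mul_inv_cancel]
    rw [← hzσ] at hc2
    have hc3 : ((z : G) * z) * ι (σ * σ) = 1 := by
      rw [map_mul, ← hc2]
      exact (Commute.mul_mul_mul_comm (hco z σ) (z : G) (ι σ))
    have hcen : ∀ ρ, Commute (σ * σ) ρ := fun ρ => by
      refine h.inj ?_
      rw [map_mul ι (σ * σ) ρ, map_mul ι ρ (σ * σ), eq_inv_of_mul_eq_one_right hc3]
      exact (((hco z ρ).mul_left (hco z ρ)).inv_left).eq
    have hσ : σ * σ = 1 := center_six _ (hcen _).eq (hcen _).eq (hcen _).eq (hcen _).eq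
    rw [hσ, map_one, mul_one] at hc3
    have hz3 : (z : G) ^ 3 = 1 := S.hJexp _ (Subgroup.zpowers_le.2 (low_c F).mem z.2)
    have hz : (z : G) = 1 := by rwa [pow_succ, pow_two, hc3, one_mul] at hz3
    exact ⟨σ, by rw [← hzσ, hz, one_mul]⟩
  have hx23 : x = swap 2 3 := by
    have conjd : ∀ σ, Commute (ι σ) d → d * ι σ * d⁻¹ = ι σ := fun σ hσ => by
      rw [← hσ.eq, mul_inv_cancel_right]
    have rel : ∀ σ, Commute (ι σ) d → ι (x * σ) = d * ι (swap 2 3 * σ) * d⁻¹ := fun σ hσ => by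
      conv_lhs => rw [map_mul, hx, ← conjd σ hσ]
      rw [map_mul]; group
    have rel' : ∀ σ, Commute (ι σ) d → ι (σ * x) = d * ι (σ * swap 2 3) * d⁻¹ := fun σ hσ => by
      conv_lhs => rw [map_mul, hx, ← conjd σ hσ]
      rw [map_mul]; group
    refine middle_swap x ?_ ?_ ?_ ?_ ?_ ?_
    · refine h.inj ?_
      rw [map_mul, hx, show d * ι (swap 2 3) * d⁻¹ * (d * ι (swap 2 3) * d⁻¹) = d * (ι (swap 2 3) * ι (swap 2 3)) * d⁻¹ by group,
        ← map_mul, swap_mul_self, map_one, mul_one, mul_inv_cancel]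
    · intro e1
      rw [e1, map_one] at hx
      have h23 : ι (swap 2 3) = 1 := conj_eq_one_iff.1 hx.symm
      rw [← map_one ι] at h23
      exact absurd (h.inj h23) (by decide +kernel)
    · refine h.inj ?_
      rw [rel _ k3, rel' _ k3, show swap (2 : Fin 6) 3 * swap 0 1 = swap 0 1 * swap 2 3 by decide +kernel]
    · refine h.inj ?_
      rw [rel _ a45, rel' _ a45, show swap (2 : Fin 6) 3 * swap 4 5 = swap 4 5 * swap 2 3 by decide +kernel]
    · refine h.inj ?_
      rw [map_pow, rel _ a12, conj_pow, ← map_pow,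
        show (swap (2 : Fin 6) 3 * swap 1 2) ^ 3 = 1 by decide +kernel, map_one, mul_one, mul_inv_cancel]
    · refine h.inj ?_
      rw [map_pow, rel _ k4, conj_pow, ← map_pow,
        show (swap (2 : Fin 6) 3 * swap 3 4) ^ 3 = 1 by decide +kernel, map_one, mul_one, mul_inv_cancel]
  have a23 : Commute (ι (swap 2 3)) d := by
    rw [hx23] at hx
    exact ((mul_inv_eq_iff_eq_mul.1 hx.symm)).symm
  intro σ
  have hσ : σ ∈ Submonoid.closure (Set.range fun i : Fin 5 => swap i.castSucc i.succ) := by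
    rw [Equiv.Perm.mclosure_swap_castSucc_succ]; trivial
  induction hσ using Submonoid.closure_induction with
  | mem y hy =>
    obtain ⟨i, rfl⟩ := hy
    fin_cases i
    exacts [k3, a12, a23, k4, a45]
  | one => rw [map_one]; exact Commute.one_left d
  | mul a b _ _ ha hb => rw [map_mul]; exact ha.mul_left hb

/-- The two branches. -/
theorem dichotomy (hcJ : Subgroup.centralizer (S.J : Set G) = S.J) (_hsyl : ¬ 3 ^ 5 ∣ Nat.card G) :
    F.CaseI ∨ Nonempty F.CaseII := by
  have R' := red F hcJ (low_c F)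
  obtain ⟨P, hP⟩ := R'.sylow
  haveI : ((P : Subgroup (Quo (F.φ C3))).subgroupOf
      (Subgroup.normalizer ((P : Subgroup (Quo (F.φ C3))) : Set (Quo (F.φ C3))))).Normal :=
    Subgroup.normal_in_normalizer
  obtain ⟨e⟩ := quot_iso F hcJ (low_c F) dihW4 (fun x => Subtype.ext (dih4_comm x)) dih4_base
    stab_c hP
  rcases S3333.result P (P : Subgroup (Quo (F.φ C3))) rfl (by simpa only [← hP] using R'.self9.card)
    (by simpa only [hP] using R'.self) e.symm (by simpa only [hP] using R'.loc) with hn | hψ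
  · exact Or.inl (R'.concl (hP ▸ hn))
  · right
    obtain ⟨ψ⟩ := hψ
    let f : ↥(Subgroup.centralizer ({F.φ C3} : Set G)) →* Equiv.Perm (Fin 6) :=
      ψ.toMonoidHom.comp (QuotientGroup.mk' _)
    obtain ⟨ι, hι⟩ := exists_six F f (ψ.surjective.comp (QuotientGroup.mk'_surjective _))
      (by
        ext c
        rw [MonoidHom.mem_ker, ← QuotientGroup.eq_one_iff]
        exact map_eq_one_iff ψ ψ.injective)
    exact ⟨⟨ι, hι, six_commute F hι⟩⟩

end Cfsg.Agent.Sp62Three31.Local
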