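import Cfsg.Agent.S3331
import Cfsg.Agent.S0215
import Cfsg.Agent.Lib.PSLCard

/-!
Group-theoretic kernels for P9a of S3342: a group whose element of order three has centraliser
`3 × Z` with `Z` a central `2`-group, relative to a subgroup containing its `2`-subgroups above `U`.
-/

set_option autoImplicit false
set_option synthInstance.maxSize 2000
set_option synthInstance.maxHeartbeats 200000

open scoped Pointwise

namespace Cfsg.Agent.Sp62Three31.PairsLocal

universe u

theorem perm3_pow_six : ∀ a : Equiv.Perm (Fin 3), a ^ 6 = 1 := by decide +kernel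

theorem perm3_two : ∀ a b : Equiv.Perm (Fin 3), a ^ 2 = 1 → b ^ 2 = 1 → (a * b) ^ 2 = 1 →
    a = 1 ∨ b = 1 ∨ a = b := by decide +kernel

theorem perm3_rot : ∀ a : Equiv.Perm (Fin 3), a ^ 3 = 1 → a ≠ 1 →
    ∀ b : Equiv.Perm (Fin 3), b ^ 2 = 1 → b ≠ 1 →
      (b⁻¹ * (a * b * a⁻¹)) ^ 3 = 1 ∧ b⁻¹ * (a * b * a⁻¹) ≠ 1 := by decide +kernel

theorem perm3_gen : ∀ a : Equiv.Perm (Fin 3), a ^ 3 = 1 → a ≠ 1 →
    ∀ b : Equiv.Perm (Fin 3), b ^ 2 = 1 → b ≠ 1 → ∀ c : Equiv.Perm (Fin 3),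
      c ∈ [1, a, a * a, b, a * b, a * a * b] := by decide +kernel

theorem alt5_norm : ∀ x : alternatingGroup (Fin 5), x ^ 3 = 1 → x ≠ 1 →
    (Finset.univ.filter fun u : alternatingGroup (Fin 5) =>
      u * x * u⁻¹ = x ∨ u * x * u⁻¹ = x⁻¹).card ≤ 6 := by
  decide +kernel

/-- A subgroup of `A₅` with elements of order dividing `24`, of order divisible by `12`, has no
element of order three inverted inside it. -/
theorem alt5_twelve (I : Subgroup (alternatingGroup (Fin 5))) (h24 : ∀ g ∈ I, g ^ 24 = 1)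
    (h12 : 12 ∣ Nat.card I) {x s : alternatingGroup (Fin 5)} (hx : x ∈ I) (hs : s ∈ I)
    (hx3 : x ^ 3 = 1) (hx1 : x ≠ 1) (hrel : s * x * s⁻¹ = x⁻¹) : False := by
  classical
  haveI : Fact (Nat.Prime 3) := ⟨Nat.prime_three⟩
  have h60 : Nat.card I ∣ 60 := by
    have := Subgroup.card_subgroup_dvd_card I
    rwa [show Nat.card (alternatingGroup (Fin 5)) = 60 by rw [Nat.card_eq_fintype_card]; rfl] at this
  have hI : Nat.card I = 12 := by
    have h5 : ¬ 5 ∣ Nat.card I := by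
      intro hd
      haveI : Fact (Nat.Prime 5) := ⟨by norm_num⟩
      obtain ⟨g, hg⟩ := exists_prime_orderOf_dvd_card' 5 hd
      have : orderOf g ∣ 24 := orderOf_dvd_of_pow_eq_one (Subtype.ext (by simpa using h24 g g.2))
      rw [hg] at this
      norm_num at this
    have hle := Nat.le_of_dvd (by norm_num) h60
    obtain ⟨c, hc⟩ := h12
    have : c ≤ 5 := by omega
    interval_cases c <;> rw [hc] at h60 h5 ⊢ <;> revert h60 h5 <;> decide +kernel
  set x' : I := ⟨x, hx⟩ with hx'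
  set s' : I := ⟨s, hs⟩ with hs'
  have ho : orderOf x' = 3 := orderOf_eq_prime (Subtype.ext (by simpa using hx3))
    (fun e => hx1 (congrArg Subtype.val e))
  let X : Sylow 3 I := Sylow.ofCard (Subgroup.zpowers x') (by
    rw [Nat.card_zpowers, ho, hI, show (12 : ℕ) = 3 * 4 by norm_num,
      Nat.factorization_mul (by norm_num) (by norm_num), Finsupp.add_apply,
      Nat.Prime.factorization_self Nat.prime_three,
      Nat.factorization_eq_zero_of_not_dvd (by norm_num : ¬ 3 ∣ 4)]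
    rfl)
  have hXs : (X : Subgroup I) = Subgroup.zpowers x' := rfl
  set N := Subgroup.normalizer ((X : Subgroup I) : Set I) with hN
  have hXc : Nat.card (X : Subgroup I) = 3 := by rw [hXs, Nat.card_zpowers, ho]
  have hrel' : s' * x' * s'⁻¹ = x'⁻¹ := Subtype.ext (by simpa using hrel)
  have hsN : s' ∈ N := by
    have hm : (Subgroup.zpowers x').map (MulAut.conj s').toMonoidHom = Subgroup.zpowers x' := by
      rw [MonoidHom.map_zpowers]
      change Subgroup.zpowers (s' * x' * s'⁻¹) = _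
      rw [hrel', Subgroup.zpowers_inv]
    rw [hN, hXs, Subgroup.mem_normalizer_iff]
    intro a
    conv_rhs => rw [← hm]
    exact (Subgroup.mem_map_iff_mem (f := (MulAut.conj s').toMonoidHom)
      (MulAut.conj s').injective).symm
  have hnorm : N = ⊤ := by
    have h1 : N.index ≡ 1 [MOD 3] := by
      have := card_sylow_modEq_one 3 I
      rw [Sylow.card_eq_index_normalizer X] at this
      simpa [hN] using this
    have h2 : 3 * (X : Subgroup I).index = 12 := by
      have := Subgroup.card_mul_index (X : Subgroup I)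
      rwa [hXc, hI] at this
    have h3 : N.index ∣ 4 := by
      have : (X : Subgroup I).index = 4 := by omega
      rw [← this]
      exact Subgroup.index_dvd_of_le Subgroup.le_normalizer
    have h4 := Nat.le_of_dvd (by norm_num) h3
    by_contra hne
    have hne1 : N.index ≠ 1 := fun e => hne (Subgroup.index_eq_one.1 e)
    have : N.index = 4 := by
      interval_cases hc : N.index <;> simp_all [Nat.ModEq]
    have hNc : Nat.card N = 3 := by
      have := N.card_mul_index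
      rw [‹N.index = 4›, hI] at this
      omega
    have hNX : (X : Subgroup I) = N := Subgroup.eq_of_le_of_card_ge Subgroup.le_normalizer
      (by rw [hNc, hXc])
    rw [← hNX, hXs, Subgroup.mem_zpowers_iff] at hsN
    obtain ⟨i, hi⟩ := hsN
    have hcomm : s' * x' = x' * s' := by rw [← hi]; exact ((Commute.refl x').zpow_left i).eq
    have he : x' = x'⁻¹ := by rw [← hrel', hcomm, mul_inv_cancel_right]
    have h22 : x' ^ 2 = 1 := by rw [sq]; exact mul_eq_one_iff_eq_inv.2 he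
    have := orderOf_dvd_of_pow_eq_one h22
    rw [ho] at this
    norm_num at this
  have key : ∀ u ∈ I, u * x * u⁻¹ = x ∨ u * x * u⁻¹ = x⁻¹ := by
    intro u hu
    have hm : (⟨u, hu⟩ : I) * x' * (⟨u, hu⟩ : I)⁻¹ ∈ Subgroup.zpowers x' := by
      have := hnorm ▸ Subgroup.mem_top (⟨u, hu⟩ : I)
      rw [hN, hXs, Subgroup.mem_normalizer_iff] at this
      exact (this x').1 (Subgroup.mem_zpowers x')
    rw [Subgroup.mem_zpowers_iff] at hm
    obtain ⟨i, hi⟩ := hm
    have hi' : x ^ i = u * x * u⁻¹ := by simpa using congrArg Subtype.val hi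
    have h3 : x ^ (3 : ℤ) = 1 := by simpa [zpow_ofNat] using hx3
    rw [← Int.mul_ediv_add_emod i 3, zpow_add, zpow_mul, h3, one_zpow, one_mul] at hi'
    rcases (show i % 3 = 0 ∨ i % 3 = 1 ∨ i % 3 = 2 by omega) with e | e | e <;> rw [e] at hi'
    · exfalso
      rw [zpow_zero] at hi'
      exact hx1 (conj_eq_one_iff.1 hi'.symm)
    · exact Or.inl (by rw [← hi', zpow_one])
    · exact Or.inr (by
        rw [← hi', eq_inv_iff_mul_eq_one]
        simpa [zpow_ofNat, pow_succ] using hx3)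
  have hle : Nat.card I ≤ 6 := by
    refine le_trans ?_ (alt5_norm x hx3 hx1)
    rw [Nat.card_eq_fintype_card, Fintype.card_subtype]
    exact Finset.card_le_card fun u hu => by
      simp only [Finset.mem_filter, Finset.mem_univ, true_and] at hu ⊢
      exact key u hu
  have hpos : 0 < Nat.card I := Nat.card_pos
  have := Nat.le_of_dvd hpos h12
  omega

/-- An element of `q`-power order in a normal Sylow subgroup. -/
theorem mem_sylow {N : Type u} [Group N] {q : ℕ} (P : Sylow q N) [(P : Subgroup N).Normal] {n : N}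
    (hn : IsPGroup q (Subgroup.zpowers n)) : n ∈ (P : Subgroup N) := by
  rw [← P.3 (P.2.to_sup_of_normal_left hn) le_sup_left]
  exact Subgroup.mem_sup_right (Subgroup.mem_zpowers n)

theorem normal_map_sylow {K : Type u} [Group K] {N : Subgroup K} [hN : N.Normal] {q : ℕ}
    (P : Sylow q N) [(P : Subgroup N).Normal] :
    ((P : Subgroup N).map N.subtype).Normal := by
  refine ⟨fun p hp g => ?_⟩
  obtain ⟨p, hp, rfl⟩ := hp
  refine ⟨⟨g * p * g⁻¹, hN.conj_mem _ p.2 g⟩, mem_sylow P ?_, rfl⟩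
  obtain ⟨k, hk⟩ := P.2 ⟨p, hp⟩
  have hk' : (p : K) ^ q ^ k = 1 := by simpa [Subtype.ext_iff] using hk
  intro y
  obtain ⟨y, ⟨i, rfl⟩⟩ := y
  refine ⟨k, Subtype.ext (Subtype.ext ?_)⟩
  simp only [SubgroupClass.coe_pow, SubgroupClass.coe_zpow, Subgroup.coe_one]
  rw [← zpow_natCast, ← zpow_mul, mul_comm, zpow_mul, zpow_natCast, conj_pow, hk']
  simp

variable {K : Type u} [Group K] [Finite K]

/-- The hypotheses on a local subgroup. -/
structure Loc (H U : Subgroup K) (x : K) (Z : Subgroup K) : Prop where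
  big : ∀ T : Subgroup K, IsPGroup 2 T → U ≤ T → T ≤ H
  cent : ∀ g : K, (∀ u ∈ U, Commute g u) → g ∈ U
  two : IsPGroup 2 U
  order : orderOf x = 3
  centx : ∀ g : K, Commute g x → g ∈ H
  pow : ∀ g ∈ H, g ^ 24 = 1
  inverted : ∃ s ∈ H, s * x * s⁻¹ = x⁻¹
  central : Z ≤ Subgroup.center K
  ztwo : IsPGroup 2 Z
  zcard : Nat.card Z ∣ 8
  self : ∀ g ∈ H, Commute g x → ∃ i : ℕ, ∃ z ∈ Z, g = x ^ i * z
  large : ∃ T : Subgroup K, IsPGroup 2 T ∧ 128 ∣ Nat.card T

variable {H U Z : Subgroup K} {x : K}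

theorem Loc.x_pow (h : Loc H U x Z) : x ^ 3 = 1 := h.order ▸ pow_orderOf_eq_one x

theorem Loc.x_ne (h : Loc H U x Z) : x ≠ 1 := fun e => by
  have := h.order; rw [e, orderOf_one] at this; omega

theorem eq_one_of_two {g : K} {k : ℕ} (h2 : g ^ 2 ^ k = 1) {m : ℕ} (hm : g ^ m = 1)
    (hc : Nat.Coprime (2 ^ k) m) : g = 1 := by
  have := (pow_gcd_eq_one (m := 2 ^ k) (n := m)).2 ⟨h2, hm⟩
  rwa [hc, pow_one] at this

theorem Loc.x_not_mem (h : Loc H U x Z) {P : Subgroup K} (hP : IsPGroup 2 P) : x ∉ P := by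
  intro hx
  obtain ⟨k, hk⟩ := hP ⟨x, hx⟩
  exact h.x_ne (eq_one_of_two (k := k) (by simpa [Subtype.ext_iff] using hk) h.x_pow
    (Nat.Coprime.pow_left k (by norm_num)))

theorem Loc.selfCentralizing (h : Loc H U x Z) [Z.Normal] :
    Nat.card (Subgroup.zpowers (QuotientGroup.mk x : K ⧸ Z)) = 3 ∧
    Subgroup.centralizer (Subgroup.zpowers (QuotientGroup.mk x : K ⧸ Z) : Set (K ⧸ Z)) =
      Subgroup.zpowers (QuotientGroup.mk x : K ⧸ Z) := by
  haveI : Fact (Nat.Prime 3) := ⟨Nat.prime_three⟩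
  refine ⟨?_, le_antisymm (fun g hg => ?_) (Subgroup.le_centralizer _)⟩
  · rw [Nat.card_zpowers]
    exact orderOf_eq_prime (by rw [← QuotientGroup.mk_pow, h.x_pow]; rfl)
      (fun e => h.x_not_mem h.ztwo ((QuotientGroup.eq_one_iff x).1 e))
  · obtain ⟨g, rfl⟩ := QuotientGroup.mk_surjective g
    have hc := Subgroup.mem_centralizer_iff.1 hg _ (Subgroup.mem_zpowers _)
    rw [← QuotientGroup.mk_mul, ← QuotientGroup.mk_mul, QuotientGroup.eq] at hc
    set z := (x * g)⁻¹ * (g * x) with hz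
    have hzc : ∀ a : K, a * z = z * a := Subgroup.mem_center_iff.1 (h.central hc)
    have hconj : g * x * g⁻¹ = x * z := by
      rw [mul_inv_eq_iff_eq_mul, mul_assoc x z g, ← hzc g, ← mul_assoc, hz, mul_inv_cancel_left]
    have h3 : z ^ 3 = 1 := by
      have : (g * x * g⁻¹) ^ 3 = 1 := by rw [conj_pow, h.x_pow]; simp
      rwa [hconj, (show Commute x z from hzc x).mul_pow, h.x_pow, one_mul] at this
    obtain ⟨k, hk⟩ := h.ztwo ⟨z, hc⟩
    have hz1 : z = 1 := eq_one_of_two (k := k) (by simpa [Subtype.ext_iff] using hk) h3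
      (Nat.Coprime.pow_left k (by norm_num))
    have hgx : Commute g x := mul_inv_eq_iff_eq_mul.1 (by rw [hconj, hz1, mul_one])
    obtain ⟨i, w, hw, rfl⟩ := h.self g (h.centx g hgx) hgx
    rw [QuotientGroup.mk_mul, (QuotientGroup.eq_one_iff w).2 hw, mul_one, QuotientGroup.mk_pow]
    exact Subgroup.pow_mem _ (Subgroup.mem_zpowers _) i

theorem Loc.not_alt5 (h : Loc H U x Z) {φ : K →* alternatingGroup (Fin 5)}
    (hφ : Function.Surjective φ) (hker : IsPGroup 2 φ.ker) : False := by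
  haveI : Fact (Nat.Prime 2) := ⟨Nat.prime_two⟩
  obtain ⟨T, hUT⟩ := h.two.exists_le_sylow
  have hTH : (T : Subgroup K) ≤ H := h.big _ T.2 hUT
  obtain ⟨s, hs, hrel⟩ := h.inverted
  have hxH : x ∈ H := h.centx x (Commute.refl x)
  have h3 : φ x ^ 3 = 1 := by rw [← map_pow, h.x_pow, map_one]
  have h1 : φ x ≠ 1 := fun e => h.x_not_mem hker e
  refine alt5_twelve (H.map φ) ?_ ?_ (Subgroup.mem_map_of_mem φ hxH) (Subgroup.mem_map_of_mem φ hs)
    h3 h1 (by rw [← map_inv, ← map_mul, ← map_mul, hrel, map_inv])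
  · rintro _ ⟨g, hg, rfl⟩
    rw [← map_pow, h.pow g hg, map_one]
  · have h4 : 4 ∣ Nat.card (H.map φ) := by
      have hm : Nat.card ↥((T.mapSurjective hφ : Sylow 2 (alternatingGroup (Fin 5))) :
          Subgroup (alternatingGroup (Fin 5))) = 4 := by
        rw [Sylow.card_eq_multiplicity, show Nat.card (alternatingGroup (Fin 5)) = 60 by
          rw [Nat.card_eq_fintype_card]; rfl]
        decide +kernel
      rw [← hm]
      exact Subgroup.card_dvd_of_le (by rw [Sylow.coe_mapSurjective]; exact Subgroup.map_mono hTH)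
    have h3' : 3 ∣ Nat.card (H.map φ) := by
      haveI : Fact (Nat.Prime 3) := ⟨Nat.prime_three⟩
      rw [← orderOf_eq_prime h3 h1]
      exact Subgroup.orderOf_dvd_natCard _ (Subgroup.mem_map_of_mem φ hxH)
    exact (Nat.Coprime.mul_dvd_of_dvd_of_dvd (by norm_num : Nat.Coprime 4 3) h4 h3')

theorem pow_two_of_isPGroup {T : Subgroup K} (hT : IsPGroup 2 T) (φ : K →* Equiv.Perm (Fin 3))
    {u : K} (hu : u ∈ T) : φ u ^ 2 = 1 := by
  obtain ⟨k, hk⟩ := hT ⟨u, hu⟩
  have hk' : φ u ^ 2 ^ k = 1 := by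
    rw [← map_pow, show u ^ 2 ^ k = 1 by simpa [Subtype.ext_iff] using hk, map_one]
  have hg := pow_gcd_eq_one.2 ⟨hk', perm3_pow_six (φ u)⟩
  have hd : Nat.gcd (2 ^ k) 6 ∣ 2 := by
    rw [show (6 : ℕ) = 2 * 3 by norm_num]
    exact (Nat.Coprime.gcd_mul_right_cancel_right 2
      (Nat.Coprime.pow_left k (by norm_num) : Nat.Coprime (2 ^ k) 3).symm).symm ▸ Nat.gcd_dvd_right _ _
  obtain ⟨c, hc⟩ := hd
  rw [hc, pow_mul, hg, one_pow]

/-- The `S₃` branch: the nilpotent kernel is a `2`-group and the group lies in `H`. -/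
theorem Loc.le_of_S3 (h : Loc H U x Z) {φ : K →* Equiv.Perm (Fin 3)} (hφ : Function.Surjective φ)
    (hnil : Group.IsNilpotent φ.ker) (h3 : ¬ 3 ∣ Nat.card φ.ker) : ∀ g : K, g ∈ H := by
  haveI : Fact (Nat.Prime 2) := ⟨Nat.prime_two⟩
  haveI : Fact (Nat.Prime 3) := ⟨Nat.prime_three⟩
  obtain ⟨T, hUT⟩ := h.two.exists_le_sylow
  have hTH : (T : Subgroup K) ≤ H := h.big _ T.2 hUT
  have hidx : φ.ker.index = 6 := by
    rw [Subgroup.index_ker, MonoidHom.range_eq_top.2 hφ, Subgroup.card_top, Nat.card_eq_fintype_card]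
    rfl
  have hxN : x ∉ φ.ker := fun e => h3 (by
    have := Subgroup.orderOf_dvd_natCard _ e
    rwa [h.order] at this)
  let P2 : Sylow 2 φ.ker := default
  haveI : (P2 : Subgroup φ.ker).Normal := inferInstance
  set P : Subgroup K := (P2 : Subgroup φ.ker).map φ.ker.subtype with hPdef
  haveI hPn : P.Normal := normal_map_sylow P2
  have hPp : IsPGroup 2 P := P2.2.map _
  have hPT : P ≤ (T : Subgroup K) := by
    have := T.3 (hPp.to_sup_of_normal_left T.2) le_sup_right
    rw [← this]; exact le_sup_left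
  have hTN : ∀ u ∈ (T : Subgroup K), φ u = 1 → u ∈ P := by
    intro u hu hu1
    refine ⟨⟨u, hu1⟩, mem_sylow P2 fun y => ?_, rfl⟩
    obtain ⟨⟨y, hyN⟩, ⟨i, hi⟩⟩ := y
    obtain ⟨k, hk⟩ := T.2 ⟨y, by
      rw [← show u ^ i = y from congrArg Subtype.val hi]; exact Subgroup.zpow_mem _ hu i⟩
    exact ⟨k, Subtype.ext (Subtype.ext (by simpa [Subtype.ext_iff] using hk))⟩
  obtain ⟨t, ht, ht1⟩ : ∃ t ∈ (T : Subgroup K), φ t ≠ 1 := by
    by_contra hc
    push Not at hc
    refine T.not_dvd_index ?_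
    rw [← Subgroup.relIndex_mul_index (show (T : Subgroup K) ≤ φ.ker from hc), hidx]
    exact Dvd.dvd.mul_left (by norm_num) _
  have ht2 := pow_two_of_isPGroup T.2 φ ht
  have hx3 : φ x ^ 3 = 1 := by rw [← map_pow, h.x_pow, map_one]
  obtain ⟨hw3, hw1⟩ := perm3_rot (φ x) hx3 hxN (φ t) ht2 ht1
  have hgen := perm3_gen (φ x) hx3 hxN (φ t) ht2 ht1
  have hcase : ∀ u ∈ (T : Subgroup K), u ∈ P ∨ t⁻¹ * u ∈ P := by
    intro u hu
    rcases perm3_two (φ t) (φ u) ht2 (pow_two_of_isPGroup T.2 φ hu)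
        (by rw [← map_mul]; exact pow_two_of_isPGroup T.2 φ ((T : Subgroup K).mul_mem ht hu)) with
      e | e | e
    · exact absurd e ht1
    · exact Or.inl (hTN u hu e)
    · exact Or.inr (hTN _ ((T : Subgroup K).mul_mem ((T : Subgroup K).inv_mem ht) hu)
        (by rw [map_mul, map_inv, e, inv_mul_cancel]))
  have hNH : φ.ker ≤ H := by
    suffices hN2 : IsPGroup 2 φ.ker by
      intro n hn
      have : (⊤ : Subgroup φ.ker) = (P2 : Subgroup φ.ker) :=
        (P2.3 (hN2.to_subgroup ⊤) le_top)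
      exact hTH (hPT ⟨⟨n, hn⟩, this ▸ Subgroup.mem_top _, rfl⟩)
    rw [IsPGroup.iff_card]
    refine ⟨_, Nat.eq_prime_pow_of_unique_prime_dvd Nat.card_pos.ne' fun {q} hq hqd => ?_⟩
    by_contra hq2
    haveI : Fact q.Prime := ⟨hq⟩
    let Q : Sylow q φ.ker := default
    haveI : (Q : Subgroup φ.ker).Normal := inferInstance
    set O : Subgroup K := (Q : Subgroup φ.ker).map φ.ker.subtype with hOdef
    haveI hOn : O.Normal := normal_map_sylow Q
    have hOp : IsPGroup q O := Q.2.map _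
    have hdis : Disjoint P O := IsPGroup.disjoint_of_ne 2 q (fun e => hq2 e.symm) _ _ hPp hOp
    have hcommP : ∀ o ∈ O, ∀ p ∈ P, Commute o p := fun o ho p hp =>
      (Subgroup.commute_of_normal_of_disjoint P O hPn hOn hdis p o hp ho).symm
    have hUzero : ∀ o ∈ O, o ∈ U → o = 1 := fun o ho hoU => by
      have := IsPGroup.disjoint_of_ne 2 q (fun e => hq2 e.symm) _ _ h.two hOp
      exact Subgroup.disjoint_def.1 this hoU ho
    have hfix : ∀ o ∈ O, Commute o t → o = 1 := fun o ho hot => hUzero o ho (h.cent o fun u hu => by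
      rcases hcase u (hUT hu) with e | e
      · exact hcommP o ho u e
      · rw [← mul_inv_cancel_left t u]; exact hot.mul_right (hcommP o ho _ e))
    have htt : t * t ∈ P := hTN _ ((T : Subgroup K).mul_mem ht ht) (by rw [map_mul, ← sq, ht2])
    let f : O →* O := (MulAut.conjNormal (H := O) t).toMonoidHom
    have hff : MonoidHom.FixedPointFree f := fun o ho => Subtype.ext (hfix o o.2 (by
      have e : t * (o : K) * t⁻¹ = o := congrArg Subtype.val ho
      exact (mul_inv_eq_iff_eq_mul.1 e).symm))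
    have hinvol : Function.Involutive f := fun o => Subtype.ext (by
      change t * (t * (o : K) * t⁻¹) * t⁻¹ = o
      rw [show t * (t * (o : K) * t⁻¹) * t⁻¹ = (t * t) * o * (t * t)⁻¹ by group,
        ← (hcommP o o.2 _ htt).eq]
      simp [mul_assoc])
    have hinv : ∀ o ∈ O, t * o * t⁻¹ = o⁻¹ := fun o ho =>
      congrArg Subtype.val (congrFun (hff.coe_eq_inv_of_involutive hinvol) ⟨o, ho⟩)
    set w := t⁻¹ * (x * t * x⁻¹) with hwdef
    have hwc : ∀ o ∈ O, Commute w o := by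
      intro o ho
      refine mul_inv_eq_iff_eq_mul.1 ?_
      have e1 : x * t * x⁻¹ * o * (x * t * x⁻¹)⁻¹ = o⁻¹ := by
        have hm : x⁻¹ * o * x ∈ O := by simpa using hOn.conj_mem o ho x⁻¹
        calc x * t * x⁻¹ * o * (x * t * x⁻¹)⁻¹ = x * (t * (x⁻¹ * o * x) * t⁻¹) * x⁻¹ := by group
          _ = o⁻¹ := by rw [hinv _ hm]; group
      have e2 : t⁻¹ * o⁻¹ * t = o := by
        have := hinv o ho
        rw [← this]; group
      calc w * o * w⁻¹ = t⁻¹ * (x * t * x⁻¹ * o * (x * t * x⁻¹)⁻¹) * t := by rw [hwdef]; group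
        _ = o := by rw [e1, e2]
    have hφw : φ w = (φ t)⁻¹ * (φ x * φ t * (φ x)⁻¹) := by
      rw [hwdef, map_mul, map_mul, map_mul, map_inv, map_inv]
    have h3w : 3 ∣ orderOf w := by
      have := orderOf_map_dvd φ w
      rwa [hφw, orderOf_eq_prime hw3 hw1] at this
    set y := w ^ (orderOf w / 3) with hydef
    have hy : orderOf y = 3 := orderOf_pow_orderOf_div (orderOf_pos w).ne' h3w
    have hfac : ∀ {v : K}, orderOf v = 3 →
        Nat.card (Subgroup.zpowers v) = 3 ^ (Nat.card K).factorization 3 := by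
      intro v hv
      rw [Nat.card_zpowers, hv, ← φ.ker.card_mul_index, hidx,
        Nat.factorization_mul Nat.card_pos.ne' (by norm_num), Finsupp.add_apply,
        Nat.factorization_eq_zero_of_not_dvd h3,
        show (6 : ℕ) = 2 * 3 by norm_num, Nat.factorization_mul (by norm_num) (by norm_num),
        Finsupp.add_apply, Nat.Prime.factorization_self Nat.prime_three,
        Nat.factorization_eq_zero_of_not_dvd (by norm_num : ¬ 3 ∣ 2)]
      rfl
    obtain ⟨g, hg⟩ := MulAction.exists_smul_eq K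
      (Sylow.ofCard (Subgroup.zpowers x) (hfac h.order)) (Sylow.ofCard (Subgroup.zpowers y) (hfac hy))
    have hgx : g * x * g⁻¹ ∈ Subgroup.zpowers y := by
      have hx' : MulAut.conj g • x ∈ MulAut.conj g • Subgroup.zpowers x :=
        Subgroup.smul_mem_pointwise_smul _ _ _ (Subgroup.mem_zpowers x)
      have e : MulAut.conj g • Subgroup.zpowers x = Subgroup.zpowers y := by
        have := congrArg (fun S : Sylow 3 K => (S : Subgroup K)) hg
        simpa [Sylow.smul_def, Sylow.pointwise_smul_def] using this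
      rw [e] at hx'
      simpa [MulAut.smul_def] using hx'
    have hOH : O ≤ H := fun o ho => h.centx o (by
      obtain ⟨i, hi⟩ := hgx
      have hgo : g * o * g⁻¹ ∈ O := hOn.conj_mem o ho g
      have hc : Commute (g * x * g⁻¹) (g * o * g⁻¹) :=
        (show y ^ i = g * x * g⁻¹ from hi) ▸ ((hwc _ hgo).pow_left _).zpow_left i
      exact ((Commute.conj_iff (h := g)).1 hc).symm)
    have hq3 : q ≠ 3 := fun e => h3 (e ▸ hqd)
    have hbot : O = ⊥ := (Subgroup.eq_bot_iff_forall _).2 fun o ho => by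
      obtain ⟨k, hk⟩ := hOp ⟨o, ho⟩
      have hk' : o ^ q ^ k = 1 := by simpa [Subtype.ext_iff] using hk
      have hcop : Nat.Coprime (q ^ k) 24 := by
        refine Nat.Coprime.pow_left k ((Nat.Prime.coprime_iff_not_dvd hq).2 fun hd => ?_)
        rcases (Nat.Prime.dvd_mul hq).1 (show q ∣ 2 ^ 3 * 3 by simpa using hd) with e | e
        · exact hq2 ((Nat.prime_dvd_prime_iff_eq hq Nat.prime_two).1 (hq.dvd_of_dvd_pow e))
        · exact hq3 ((Nat.prime_dvd_prime_iff_eq hq Nat.prime_three).1 e)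
      have := pow_gcd_eq_one.2 ⟨hk', h.pow o (hOH ho)⟩
      rwa [hcop, pow_one] at this
    refine Q.ne_bot_of_dvd_card hqd ?_
    exact (Subgroup.map_eq_bot_iff_of_injective _ φ.ker.subtype_injective).1 hbot
  intro g
  have hxH : x ∈ H := h.centx x (Commute.refl x)
  have htH : t ∈ H := hTH ht
  have fin : ∀ a ∈ H, φ g = φ a → g ∈ H := fun a ha e => by
    have : g * a⁻¹ ∈ φ.ker := by rw [MonoidHom.mem_ker, map_mul, map_inv, e, mul_inv_cancel]
    simpa using H.mul_mem (hNH this) ha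
  have hg6 := hgen (φ g)
  simp only [List.mem_cons, List.not_mem_nil, or_false] at hg6
  rcases hg6 with e | e | e | e | e | e
  · exact fin 1 H.one_mem (by rw [e, map_one])
  · exact fin x hxH e
  · exact fin _ (H.mul_mem hxH hxH) (by rw [e, map_mul])
  · exact fin t htH e
  · exact fin _ (H.mul_mem hxH htH) (by rw [e, map_mul])
  · exact fin _ (H.mul_mem (H.mul_mem hxH hxH) htH) (by rw [e, map_mul, map_mul])

/-- A local subgroup lies in `H`. -/
theorem Loc.le (h : Loc H U x Z) : ∀ g : K, g ∈ H := by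
  haveI : Fact (Nat.Prime 2) := ⟨Nat.prime_two⟩
  haveI : Fact (Nat.Prime 3) := ⟨Nat.prime_three⟩
  haveI : Fact (Nat.Prime 7) := ⟨by norm_num⟩
  haveI hZn : Z.Normal := ⟨fun z hz g => by
    rw [Subgroup.mem_center_iff.1 (h.central hz) g, mul_inv_cancel_right]; exact hz⟩
  obtain ⟨hcard, hself⟩ := h.selfCentralizing
  rcases S3331.result _ hcard hself with
    ⟨N, hN, hnil, hcop, hq⟩ | ⟨N, hN, -, hsq, he⟩ | he
  · haveI := hN
    set π := (QuotientGroup.mk' N).comp (QuotientGroup.mk' Z) with hπ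
    have hker : ∀ g, g ∈ π.ker ↔ (QuotientGroup.mk g : K ⧸ Z) ∈ N := fun g => by
      simp [hπ, MonoidHom.mem_ker, QuotientGroup.eq_one_iff]
    have hsurj : Function.Surjective π :=
      (QuotientGroup.mk'_surjective N).comp (QuotientGroup.mk'_surjective Z)
    let f : π.ker →* N := ((QuotientGroup.mk' Z).comp π.ker.subtype).codRestrict N
      fun g => (hker g).1 g.2
    have hfZ : f.ker ≤ Subgroup.center π.ker := fun g hg => Subgroup.mem_center_iff.2 fun a =>
      Subtype.ext (Subgroup.mem_center_iff.1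
        (h.central ((QuotientGroup.eq_one_iff (g : K)).1 (congrArg Subtype.val hg))) a)
    have hn : Group.IsNilpotent π.ker := (haveI := hnil; Subgroup.isNilpotent_of_ker_le_center f hfZ)
    have h3 : ¬ 3 ∣ Nat.card π.ker := by
      intro hd
      obtain ⟨g, hg⟩ := exists_prime_orderOf_dvd_card' 3 hd
      have hf : f g = 1 := by
        refine orderOf_eq_one_iff.1 (Nat.dvd_one.1 ?_)
        rw [← hcop]
        exact Nat.dvd_gcd (orderOf_dvd_natCard _) (hg ▸ orderOf_map_dvd f g)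
      have hgZ : (g : K) ∈ Z := (QuotientGroup.eq_one_iff (g : K)).1 (congrArg Subtype.val hf)
      obtain ⟨k, hk⟩ := h.ztwo ⟨_, hgZ⟩
      have h1 : (g : K) = 1 := eq_one_of_two (k := k) (by simpa [Subtype.ext_iff] using hk)
        (m := 3) (by
          have e3 : g ^ 3 = 1 := hg ▸ pow_orderOf_eq_one g
          simpa [Subtype.ext_iff] using e3)
        (Nat.Coprime.pow_left k (by norm_num))
      rw [show g = 1 from Subtype.ext h1, orderOf_one] at hg
      omega
    rcases hq with hq | he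
    · exfalso
      haveI : IsCyclic ((K ⧸ Z) ⧸ N) := isCyclic_of_prime_card hq
      obtain ⟨s, hs, hrel⟩ := h.inverted
      letI := IsCyclic.commGroup (α := (K ⧸ Z) ⧸ N)
      have e1 : π x = (π x)⁻¹ := by
        conv_lhs => rw [show π x = π s * π x * (π s)⁻¹ by rw [mul_comm (π s), mul_inv_cancel_right]]
        rw [← map_inv, ← map_mul, ← map_mul, hrel, map_inv]
      have e2 : π x ^ 2 = 1 := by rw [sq]; exact mul_eq_one_iff_eq_inv.2 e1
      have e3 : π x ^ 3 = 1 := by rw [← map_pow, h.x_pow, map_one]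
      have : π x = 1 := by
        have := pow_gcd_eq_one.2 ⟨e2, e3⟩
        simpa using this
      have hd := Subgroup.orderOf_dvd_natCard _ (MonoidHom.mem_ker.2 this)
      rw [h.order] at hd
      exact h3 hd
    · obtain ⟨e⟩ := he
      have hk : (e.toMonoidHom.comp π).ker = π.ker := by
        ext g; simp [MonoidHom.mem_ker]
      exact h.le_of_S3 (φ := e.toMonoidHom.comp π) (e.surjective.comp hsurj) (by rw [hk]; exact hn)
        (by rw [hk]; exact h3)
  · haveI := hN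
    exfalso
    obtain ⟨e⟩ := he
    refine h.not_alt5 (φ := (e.toMonoidHom.comp (QuotientGroup.mk' N)).comp (QuotientGroup.mk' Z))
      ((e.surjective.comp (QuotientGroup.mk'_surjective N)).comp (QuotientGroup.mk'_surjective Z)) ?_
    rintro ⟨g, hg⟩
    have hgN : (QuotientGroup.mk g : K ⧸ Z) ∈ N := by
      simpa [MonoidHom.mem_ker, QuotientGroup.eq_one_iff] using hg
    have hg2 : g ^ 2 ∈ Z := (QuotientGroup.eq_one_iff _).1 (by rw [QuotientGroup.mk_pow, hsq _ hgN])
    obtain ⟨k, hk⟩ := h.ztwo ⟨_, hg2⟩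
    exact ⟨k + 1, Subtype.ext (by rw [SubgroupClass.coe_pow, pow_succ', pow_mul]; simpa [Subtype.ext_iff] using hk)⟩
  · exfalso
    obtain ⟨e⟩ := he
    obtain ⟨T, -, hTc⟩ := h.large
    have hK : Nat.card K = 168 * Nat.card Z := by
      rw [← Z.index_mul_card, Subgroup.index, Nat.card_congr e.toEquiv, PSLCard.card_PSL2, Nat.card_zmod]
      norm_num
    have h128 : 128 ∣ Nat.card K := hTc.trans (Subgroup.card_subgroup_dvd_card T)
    have hz8 := Nat.le_of_dvd (by norm_num) h.zcard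
    have hzd := h.zcard
    rw [hK] at h128
    interval_cases hz : Nat.card Z <;> omega

/-- The hypotheses for the centraliser of the two transvections. -/
structure Two (H U : Subgroup K) (t t4 t5 t6 t7 x y : K) : Prop where
  big : ∀ T : Subgroup K, IsPGroup 2 T → U ≤ T → T ≤ H
  two : IsPGroup 2 U
  htU : t ∈ U
  ht : t ^ 2 = 1
  ht4 : t4 ^ 2 = 1
  ht5 : t5 ^ 2 = 1
  ht6 : t6 ^ 2 = 1
  iso : ∀ g : K, g * t * g⁻¹ ∈ H → g * t * g⁻¹ = t
  cent : ∀ g : K, Commute g t → g ∈ H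
  pow : ∀ g ∈ H, g ^ 24 = 1
  three : ∀ g ∈ H, g ^ 3 = 1 → g ≠ 1 → (g * y * g⁻¹ * y⁻¹) ^ 3 ≠ 1
  hy : y ∈ H
  rel : ∀ g : K, t * t4 * t5 * t6 * g * (t * t4 * t5 * t6)⁻¹ = t7 * g * t7⁻¹
  h45 : Commute t4 t5
  h46 : Commute t4 t6
  c5 : ∀ g : K, Commute g t4 → Commute g t5 → g ∈ H
  c6 : ∀ g : K, Commute g t4 → Commute g t6 → g ∈ H
  c7 : ∀ g : K, Commute g (t * t4 * t7) → g ∈ H
  hx : t4 * (x * t4 * x⁻¹) = x
  centx : ∀ g : K, Commute g x → g ∈ H

theorem Two.le {t t4 t5 t6 t7 x y : K} (h : Two H U t t4 t5 t6 t7 x y) : ∀ g : K, g ∈ H := by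
  haveI : Fact (Nat.Prime 2) := ⟨Nat.prime_two⟩
  intro g
  by_cases ht1 : t = 1
  · exact h.cent g (by rw [ht1]; exact Commute.one_right g)
  have hto : orderOf t = 2 := orderOf_eq_prime h.ht ht1
  obtain ⟨T, hUT⟩ := h.two.exists_le_sylow
  have hTH : (T : Subgroup K) ≤ H := h.big _ T.2 hUT
  obtain ⟨N, hN, hodd, hcomm⟩ := S0215.result T t hto (hUT h.htU) fun g hg => h.iso g (hTH hg)
  haveI := hN
  have hNH : ∀ n ∈ N, n ∈ H → n = 1 := by
    intro n hn hnH
    have hpow : ∀ m ∈ N, m ∈ H → m ^ 3 = 1 := by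
      intro m hm hmH
      have h1 : m ^ Nat.card N = 1 := by
        exact congrArg Subtype.val (pow_card_eq_one' (x := (⟨m, hm⟩ : N)))
      have hg := pow_gcd_eq_one.2 ⟨h1, h.pow m hmH⟩
      have hd : Nat.gcd (Nat.card N) 24 ∣ 3 := by
        have h2 : Nat.Coprime (Nat.gcd (Nat.card N) 24) (2 ^ 3) :=
          Nat.Coprime.pow_right 3 (Nat.Coprime.coprime_dvd_left (Nat.gcd_dvd_left _ _)
            (Nat.coprime_two_right.2 hodd))
        exact h2.dvd_of_dvd_mul_left (show Nat.gcd (Nat.card N) 24 ∣ 2 ^ 3 * 3 from Nat.gcd_dvd_right _ _)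
      obtain ⟨c, hc⟩ := hd
      rw [hc, pow_mul, hg, one_pow]
    by_contra h1
    refine h.three n hnH (hpow n hn hnH) h1 (hpow _ ?_ ?_)
    · rw [show n * y * n⁻¹ * y⁻¹ = n * (y * n⁻¹ * y⁻¹) by group]
      exact N.mul_mem hn (hN.conj_mem _ (N.inv_mem hn) y)
    · exact H.mul_mem (H.mul_mem (H.mul_mem hnH h.hy) (H.inv_mem hnH)) (H.inv_mem h.hy)
  have hfix : ∀ n ∈ N, Commute n t → n = 1 := fun n hn hc => hNH n hn (h.cent n hc)
  let f : N →* N := (MulAut.conjNormal (H := N) t).toMonoidHom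
  have hff : MonoidHom.FixedPointFree f := fun n hn => Subtype.ext (hfix n n.2 (by
    have e : t * (n : K) * t⁻¹ = n := congrArg Subtype.val hn
    exact (mul_inv_eq_iff_eq_mul.1 e).symm))
  have hinvol : Function.Involutive f := fun n => Subtype.ext (by
    change t * (t * (n : K) * t⁻¹) * t⁻¹ = n
    rw [show t * (t * (n : K) * t⁻¹) * t⁻¹ = t ^ 2 * n * (t ^ 2)⁻¹ by simp [sq, mul_assoc], h.ht]
    simp)
  have hinv : ∀ n ∈ N, t * n * t⁻¹ = n⁻¹ := fun n hn =>
    congrArg Subtype.val (congrFun (hff.coe_eq_inv_of_involutive hinvol) ⟨n, hn⟩)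
  have hNcomm : ∀ a ∈ N, ∀ b ∈ N, Commute a b := fun a ha b hb =>
    congrArg Subtype.val (hff.commute_all_of_involutive hinvol ⟨a, ha⟩ ⟨b, hb⟩).eq
  -- an involution `u` fixes `n * u n u⁻¹`
  have prodfix : ∀ u : K, u ^ 2 = 1 → ∀ n ∈ N, Commute (n * (u * n * u⁻¹)) u := by
    intro u hu n hn
    have hm : u * n * u⁻¹ ∈ N := hN.conj_mem n hn u
    have e : u * (n * (u * n * u⁻¹)) * u⁻¹ = n * (u * n * u⁻¹) := by
      rw [show u * (n * (u * n * u⁻¹)) * u⁻¹ = (u * n * u⁻¹) * (u ^ 2 * n * (u ^ 2)⁻¹) by simp [sq, mul_assoc],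
        hu, one_mul, inv_one, mul_one]
      exact (hNcomm _ hm _ hn).eq
    exact (mul_inv_eq_iff_eq_mul.1 e).symm
  have sub : ∀ u : K, u ^ 2 = 1 → Commute t4 u → (∀ g, Commute g t4 → Commute g u → g ∈ H) →
      ∀ n ∈ N, Commute n t4 → u * n * u⁻¹ = n⁻¹ := by
    intro u hu h4u hc n hn hn4
    have hm : u * n * u⁻¹ ∈ N := hN.conj_mem n hn u
    have h4 : Commute (n * (u * n * u⁻¹)) t4 :=
      hn4.mul_left ((h4u.symm.mul_left hn4).mul_left h4u.symm.inv_left)
    exact eq_inv_of_mul_eq_one_right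
      (hNH _ (N.mul_mem hn hm) (hc _ h4 (prodfix u hu n hn)))
  have h4fix : ∀ n ∈ N, Commute n t4 → n = 1 := by
    intro n hn hn4
    have e6 := sub t6 h.ht6 h.h46 h.c6 n hn hn4
    have e5 := sub t5 h.ht5 h.h45 h.c5 n hn hn4
    have e5' : t5 * n⁻¹ * t5⁻¹ = n := by
      have := congrArg (fun a => a⁻¹) e5
      simpa [mul_assoc] using this
    have e4 : t4 * n * t4⁻¹ = n := by rw [← hn4.eq, mul_inv_cancel_right]
    have e4' : t4 * n⁻¹ * t4⁻¹ = n⁻¹ := by
      have : t4 * n⁻¹ * t4⁻¹ = (t4 * n * t4⁻¹)⁻¹ := by group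
      rw [this, e4]
    have e7 : t7 * n * t7⁻¹ = n⁻¹ := by
      rw [← h.rel n]
      calc t * t4 * t5 * t6 * n * (t * t4 * t5 * t6)⁻¹
          = t * (t4 * (t5 * (t6 * n * t6⁻¹) * t5⁻¹) * t4⁻¹) * t⁻¹ := by group
        _ = n⁻¹ := by rw [e6, e5', e4, hinv n hn]
    refine hNH n hn (h.c7 n ?_)
    have e : (t * t4 * t7) * n * (t * t4 * t7)⁻¹ = n := by
      calc (t * t4 * t7) * n * (t * t4 * t7)⁻¹ = t * (t4 * (t7 * n * t7⁻¹) * t4⁻¹) * t⁻¹ := by group
        _ = n := by rw [e7, e4', hinv _ (N.inv_mem hn), inv_inv]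
    exact (mul_inv_eq_iff_eq_mul.1 e).symm
  have hinv4 : ∀ n ∈ N, t4 * n * t4⁻¹ = n⁻¹ := fun n hn =>
    eq_inv_of_mul_eq_one_right
      (h4fix _ (N.mul_mem hn (hN.conj_mem n hn t4)) (prodfix t4 h.ht4 n hn))
  have hN1 : ∀ n ∈ N, n = 1 := fun n hn => hNH n hn (h.centx n (by
    have hm : x⁻¹ * n * x ∈ N := by simpa using hN.conj_mem n hn x⁻¹
    have e1 : x * t4 * x⁻¹ * n * (x * t4 * x⁻¹)⁻¹ = n⁻¹ := by
      calc x * t4 * x⁻¹ * n * (x * t4 * x⁻¹)⁻¹ = x * (t4 * (x⁻¹ * n * x) * t4⁻¹) * x⁻¹ := by group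
        _ = n⁻¹ := by rw [hinv4 _ hm]; group
    have e : x * n * x⁻¹ = n := by
      conv_lhs => rw [← h.hx]
      calc t4 * (x * t4 * x⁻¹) * n * (t4 * (x * t4 * x⁻¹))⁻¹
          = t4 * (x * t4 * x⁻¹ * n * (x * t4 * x⁻¹)⁻¹) * t4⁻¹ := by group
        _ = n := by rw [e1, hinv4 _ (N.inv_mem hn), inv_inv]
    exact (mul_inv_eq_iff_eq_mul.1 e).symm))
  have hc := hN1 _ (hcomm g)
  refine h.cent g ?_
  exact (mul_inv_eq_iff_eq_mul.1 (mul_inv_eq_one.1 hc)).symm

end Cfsg.Agent.Sp62Three31.PairsLocal
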