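import Cfsg.Agent.Lib.Sp62Three31PairsCalc
import Cfsg.Agent.Lib.Sp62Three31PairsLocal

/-!
Piece P9a of S3342 (helper31's campaign): the centralisers of the small subgroups
`⟨t₁, t₂, t₃⟩`, `⟨t₄, rT⟩` and `⟨t₁, t₂⟩` of `Sp(6,2)` lie in the model.
-/

set_option autoImplicit false
set_option maxRecDepth 100000

namespace Cfsg.Agent.Sp62Three31

open PairsCalc PairsLocal

universe u

namespace PairsLift

variable {G : Type u} [Group G] (D : SpHyp G) (s : Set Sp62)

/-- The centraliser of the image of a set. -/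
def K : Subgroup G := Subgroup.centralizer (D.ψ '' s)

/-- The part of the centraliser inside the model. -/
def HK : Subgroup (K D s) := D.ψ.range.subgroupOf (K D s)

/-- The Lagrangian part. -/
def UK : Subgroup (K D s) := D.U.subgroupOf (K D s)

variable {D s}

theorem mem_K {g : Sp62} (h : ∀ a ∈ s, Commute g a) : D.ψ g ∈ K D s := by
  rw [K, Subgroup.mem_centralizer_iff]
  rintro _ ⟨a, ha, rfl⟩
  exact ((h a ha).map D.ψ).symm.eq

theorem commute_K {k : G} (hk : k ∈ K D s) {a : Sp62} (ha : a ∈ s) : Commute k (D.ψ a) :=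
  (Subgroup.mem_centralizer_iff.1 hk _ ⟨a, ha, rfl⟩).symm

/-- The lift of an element of the model to the centraliser. -/
def lift (D : SpHyp G) {s : Set Sp62} (g : Sp62) (h : ∀ a ∈ s, Commute g a) : K D s :=
  ⟨D.ψ g, mem_K h⟩

theorem commute_of_map {a b : Sp62} (h : Commute (D.ψ a) (D.ψ b)) : Commute a b :=
  D.inj (by rw [map_mul, map_mul]; exact h)

theorem exists_of_mem_HK {k : K D s} (hk : k ∈ HK D s) :
    ∃ g : Sp62, D.ψ g = k ∧ ∀ a ∈ s, Commute g a := by
  obtain ⟨g, hg⟩ := Subgroup.mem_subgroupOf.1 hk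
  exact ⟨g, hg, fun a ha => commute_of_map (by rw [hg]; exact commute_K k.2 ha)⟩

theorem U_le_K (hs : s ⊆ lagU) : D.U ≤ K D s := by
  rintro _ ⟨u, hu, rfl⟩
  refine mem_K fun a ha => ?_
  have ha' : a ∈ lagU := hs ha
  clear ha
  induction ha' using Subgroup.closure_induction with
  | mem c hc => obtain ⟨k, rfl⟩ := hc; exact lagU_commute hu k.isLt
  | one => exact Commute.one_right _
  | mul c d _ _ p q => exact p.mul_right q
  | inv c _ p => exact p.inv_right

theorem two_U (D : SpHyp G) : IsPGroup 2 D.U := by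
  rintro ⟨_, u, hu, rfl⟩
  exact ⟨1, Subtype.ext (by
    rw [SubgroupClass.coe_pow, Subgroup.coe_one, pow_one, sq, ← map_mul, lagU_sq hu, map_one])⟩

theorem big_of [Finite G] (hL : D.LagFacts) (hs : s ⊆ lagU) (T : Subgroup (K D s))
    (hT : IsPGroup 2 T) (hUT : UK D s ≤ T) : T ≤ HK D s := by
  have hR : D.U ≤ T.map (K D s).subtype := fun u hu =>
    ⟨⟨u, U_le_K hs hu⟩, hUT (Subgroup.mem_subgroupOf.2 hu), rfl⟩
  have hle : T.map (K D s).subtype ≤ D.ψ.range :=
    Subgroup.le_normalizer.trans ((hL.char _ (hT.map _) hR).trans hL.norm)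
  exact fun k hk => Subgroup.mem_subgroupOf.2 (hle ⟨k, hk, rfl⟩)

theorem two_UK (hs : s ⊆ lagU) : IsPGroup 2 (UK D s) :=
  (two_U D).of_equiv (Subgroup.subgroupOfEquivOfLe (U_le_K hs)).symm

/-- A central subgroup given by words. -/
def wordSub (D : SpHyp G) (s : Set Sp62) (L : List (List ℕ))
    (hone : [] ∈ L) (hL : ∀ a ∈ L, ∀ v ∈ a, v < 8)
    (hmul : ∀ a ∈ L, ∀ b ∈ L, codeW (a ++ b) ∈ L.map codeW) : Subgroup (K D s) where
  carrier := {k | ∃ z ∈ L, (k : G) = D.ψ (word z)}
  one_mem' := ⟨[], hone, by simp [word]⟩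
  mul_mem' := by
    rintro a b ⟨z, hz, ha⟩ ⟨w, hw, hb⟩
    obtain ⟨c, hc, hcz⟩ := List.mem_map.1 (hmul z hz w hw)
    refine ⟨c, hc, ?_⟩
    rw [Subgroup.coe_mul, ha, hb, ← map_mul, ← word_append]
    refine congrArg D.ψ (word_eq ?_ (fun v hv => lt_trans (hL c hc v hv) (by norm_num)) hcz.symm)
    intro v hv
    rcases List.mem_append.1 hv with hv | hv
    · exact lt_trans (hL z hz v hv) (by norm_num)
    · exact lt_trans (hL w hw v hv) (by norm_num)
  inv_mem' := by
    rintro a ⟨z, hz, ha⟩
    refine ⟨z, hz, ?_⟩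
    rw [Subgroup.coe_inv, ha, ← map_inv]
    exact congrArg D.ψ (inv_eq_of_mul_eq_one_right (lagU_sq (word_mem_lagU z (hL z hz))))

theorem loc [Finite G] (hL : D.LagFacts) (hs : s ⊆ lagU) (xw sw yw : List ℕ) (Zl : List (List ℕ))
    (hone : [] ∈ Zl) (hZ : ∀ a ∈ Zl, ∀ v ∈ a, v < 8)
    (hmul : ∀ a ∈ Zl, ∀ b ∈ Zl, codeW (a ++ b) ∈ Zl.map codeW) (hlen : Zl.length ≤ 8)
    (hZs : ∀ a ∈ Zl, word a ∈ Subgroup.closure s)
    (hx : ∀ a ∈ s, Commute (word xw) a) (hsw : ∀ a ∈ s, Commute (word sw) a)
    (hyw : ∀ a ∈ s, Commute (word yw) a) (h3 : orderOf (word xw) = 3)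
    (hrel : word sw * word xw * (word sw)⁻¹ = (word xw)⁻¹)
    (hy2 : word yw * word yw = 1)
    (hyn : ∀ n : Fin 8, word yw * tv n.val * (word yw)⁻¹ ∈ lagU) (hy1 : word yw ∉ lagU)
    (h24 : ∀ g : Sp62, (∀ a ∈ s, Commute g a) → g ^ 24 = 1)
    (hcent : ∀ g : Sp62, (∀ a ∈ s, Commute g a) → Commute g (word xw) →
      ∃ i : ℕ, ∃ z ∈ Zl, g = word xw ^ i * word z) :
    D.Local s := by
  haveI : Fact (Nat.Prime 2) := ⟨Nat.prime_two⟩
  set Z := wordSub D s Zl hone hZ hmul with hZdef
  have hZU : Z ≤ UK D s := fun k hk => by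
    obtain ⟨z, hz, hk⟩ := hk
    rw [UK, Subgroup.mem_subgroupOf, hk]
    exact Subgroup.mem_map_of_mem _ (word_mem_lagU z (hZ z hz))
  have hlag : lagU ≤ Subgroup.centralizer s := fun u hu => Subgroup.mem_centralizer_iff.2 fun a ha =>
    (commute_of_map (commute_K (U_le_K hs (Subgroup.mem_map_of_mem D.ψ hu)) ha)).symm.eq
  have key : ∀ k : K D s, k ∈ HK D s := by
    refine (PairsLocal.Loc.le (H := HK D s) (U := UK D s) (x := lift D (word xw) hx) (Z := Z)
      ⟨big_of hL hs, ?_, two_UK hs, ?_, ?_, ?_, ?_, ?_, (two_UK hs).to_le hZU, ?_, ?_, ?_⟩)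
    · intro k hk
      rw [UK, Subgroup.mem_subgroupOf, ← hL.cent, Subgroup.mem_centralizer_iff]
      intro u hu
      exact (congrArg Subtype.val (hk ⟨u, U_le_K hs hu⟩ (Subgroup.mem_subgroupOf.2 hu)).eq).symm
    · rw [← orderOf_injective (K D s).subtype (K D s).subtype_injective]
      change orderOf (D.ψ (word xw)) = 3
      rw [orderOf_injective D.ψ D.inj, h3]
    · intro k hk
      refine Subgroup.mem_subgroupOf.2 (D.three _ h3 (Subgroup.mem_centralizer_iff.2 ?_))
      rintro _ rfl
      exact (congrArg Subtype.val hk.eq).symm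
    · intro k hk
      obtain ⟨g, hg, hga⟩ := exists_of_mem_HK hk
      exact Subtype.ext (by rw [SubgroupClass.coe_pow, ← hg, ← map_pow, h24 g hga, map_one]; rfl)
    · refine ⟨lift D (word sw) hsw, ⟨word sw, rfl⟩, Subtype.ext ?_⟩
      simp only [lift, Subgroup.coe_mul, Subgroup.coe_inv]
      rw [← map_inv, ← map_mul, ← map_mul, hrel, map_inv]
    · rintro k ⟨z, hz, hk⟩
      refine Subgroup.mem_center_iff.2 fun a => Subtype.ext ?_
      rw [Subgroup.coe_mul, Subgroup.coe_mul, hk]
      have hc := hZs z hz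
      clear hk
      revert hc
      generalize word z = w
      intro hc
      induction hc using Subgroup.closure_induction with
      | mem c hc => exact (commute_K a.2 hc).eq
      | one => simp
      | mul c d _ _ p q => rw [map_mul, ← mul_assoc, p, mul_assoc, q, mul_assoc]
      | inv c _ p =>
        rw [map_inv]
        exact ((show Commute (a : G) (D.ψ c) from p).inv_right).eq
    · obtain ⟨k, hk⟩ := ((two_UK hs).to_le hZU).exists_card_eq
      have hcard : Nat.card Z ≤ 8 := by
        let f : Fin Zl.length → Z := fun i =>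
          ⟨lift D (word (Zl[i.val]'i.isLt)) (fun a ha => (Subgroup.mem_centralizer_iff.1
            (hlag (word_mem_lagU _ (hZ _ (List.getElem_mem _)))) a ha).symm),
            _, List.getElem_mem i.isLt, rfl⟩
        refine le_trans (Nat.card_le_card_of_surjective f ?_) (by simpa using hlen)
        rintro ⟨a, z, hz, ha⟩
        obtain ⟨i, hi, rfl⟩ := List.mem_iff_getElem.1 hz
        exact ⟨⟨i, hi⟩, Subtype.ext (Subtype.ext ha.symm)⟩
      rw [hk] at hcard ⊢
      have hk3 : k ≤ 3 := (Nat.pow_le_pow_iff_right (by norm_num : 1 < 2)).1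
        (by simpa using hcard : 2 ^ k ≤ 2 ^ 3)
      exact (Nat.pow_dvd_pow 2 hk3).trans (by norm_num)
    · intro k hk hkx
      obtain ⟨g, hg, hga⟩ := exists_of_mem_HK hk
      obtain ⟨i, z, hz, rfl⟩ := hcent g hga (commute_of_map (by
        rw [hg]; exact congrArg Subtype.val hkx.eq))
      refine ⟨i, lift D (word z) (fun a ha => (Subgroup.mem_centralizer_iff.1
        (hlag (word_mem_lagU _ (hZ z hz))) a ha).symm), ⟨z, hz, rfl⟩, Subtype.ext ?_⟩
      rw [Subgroup.coe_mul, SubgroupClass.coe_pow, ← hg, map_mul, map_pow]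
      rfl
    · set y := word yw
      have hn : Subgroup.zpowers y ≤ Subgroup.normalizer (lagU : Set Sp62) := by
        have hm : ∀ u ∈ lagU, y * u * y⁻¹ ∈ lagU := by
          intro u hu
          induction hu using Subgroup.closure_induction with
          | mem c hc => obtain ⟨n, rfl⟩ := hc; exact hyn n
          | one => simp [lagU.one_mem]
          | mul c d _ _ p q =>
            rw [show y * (c * d) * y⁻¹ = (y * c * y⁻¹) * (y * d * y⁻¹) by group]
            exact lagU.mul_mem p q
          | inv c _ p =>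
            rw [show y * c⁻¹ * y⁻¹ = (y * c * y⁻¹)⁻¹ by group]
            exact lagU.inv_mem p
        have hyi : y⁻¹ = y := inv_eq_of_mul_eq_one_right hy2
        rw [Subgroup.zpowers_le, Subgroup.mem_normalizer_iff]
        refine fun u => ⟨hm u, fun hu => ?_⟩
        have := hm _ hu
        rw [hyi] at this
        simpa [mul_assoc, hy2, ← mul_assoc y y] using this
      have hy2' : IsPGroup 2 (Subgroup.zpowers y) := by
        rintro ⟨_, i, rfl⟩
        exact ⟨1, Subtype.ext (by
          rw [SubgroupClass.coe_pow, Subgroup.coe_one, pow_one, ← zpow_natCast, ← zpow_mul,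
            mul_comm, zpow_mul, zpow_natCast, sq, hy2, one_zpow])⟩
      have hl2 : IsPGroup 2 lagU := by
        rintro ⟨u, hu⟩
        exact ⟨1, Subtype.ext (by rw [SubgroupClass.coe_pow, pow_one, sq, lagU_sq hu]; rfl)⟩
      set R := Subgroup.zpowers y ⊔ lagU with hR
      have hR2 : IsPGroup 2 R := hy2'.to_sup_of_normal_right' hl2 hn
      have h128 : 128 ∣ Nat.card R := by
        obtain ⟨k, hk⟩ := hR2.exists_card_eq
        have hlt : Nat.card lagU < Nat.card R := by
          refine lt_of_not_ge fun hle => hy1 ?_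
          rw [Subgroup.eq_of_le_of_card_ge (le_sup_right : lagU ≤ R) hle]
          exact Subgroup.mem_sup_left (Subgroup.mem_zpowers y)
        have := card_lagU_ge
        rw [hk]
        have hk7 : 7 ≤ k := by
          by_contra hk7
          have : 2 ^ k ≤ 2 ^ 6 := Nat.pow_le_pow_right (by norm_num) (by omega)
          omega
        exact (show 128 ∣ 2 ^ 7 by norm_num).trans (Nat.pow_dvd_pow 2 hk7)
      have hRc : R ≤ Subgroup.centralizer s := sup_le
        ((Subgroup.zpowers_le).2 (Subgroup.mem_centralizer_iff.2 fun a ha => (hyw a ha).symm.eq)) hlag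
      have hRK : R.map D.ψ ≤ K D s := by
        rintro _ ⟨r, hr, rfl⟩
        exact mem_K fun a ha => (Subgroup.mem_centralizer_iff.1 (hRc hr) a ha).symm
      refine ⟨(R.map D.ψ).subgroupOf (K D s),
        (hR2.map D.ψ).of_equiv (Subgroup.subgroupOfEquivOfLe hRK).symm, ?_⟩
      rw [Nat.card_congr (Subgroup.subgroupOfEquivOfLe hRK).toEquiv,
        Subgroup.card_map_of_injective D.inj]
      exact h128
  exact fun g hg => Subgroup.mem_subgroupOf.1 (key ⟨g, hg⟩)

theorem word_commute_tv (w : List ℕ) (v : ℕ) (hw : ∀ u ∈ w, u < 64) (hv : v < 64)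
    (h : codeW (w ++ [v]) = codeW ([v] ++ w)) : Commute (word w) (tv v) := by
  simpa [word] using commute_word (a := w) (b := [v]) hw (by simpa using hv) h

theorem rT_eq : rT = word [1, 2, 3] := by simp [rT, word, mul_assoc]

theorem order_word {w : List ℕ} (hw : ∀ u ∈ w, u < 64) (h3 : codeW (w ++ (w ++ w)) = base)
    (h1 : codeW w ≠ base) : orderOf (word w) = 3 := by
  haveI : Fact (Nat.Prime 3) := ⟨Nat.prime_three⟩
  refine orderOf_eq_prime ?_ fun e => h1 (by rw [← code_word w hw, e, code_one])
  rw [pow_succ', sq, ← word_append, ← word_append]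
  exact word_eq (b := []) (by simpa [or_imp, forall_and] using hw) (by simp) h3

theorem yconj {w : List ℕ} (hw : ∀ u ∈ w, u < 64) (h : ∀ n : Fin 8, app (codeW w) n.val < 8)
    (n : Fin 8) : word w * tv n.val * (word w)⁻¹ ∈ lagU := by
  have hn : n.val < 64 := lt_trans n.isLt (by norm_num)
  rw [tv, Cfsg.Agent.SymplecticBasic.transv_conj, smul_app _ hn, code_word w hw]
  exact tv_mem_lagU (h n)

theorem not_mem_lag {w : List ℕ} (hw : ∀ u ∈ w, u < 64) (n : ℕ) (hn : n < 8)
    (h : codeW (w ++ [n]) ≠ codeW ([n] ++ w)) : word w ∉ lagU := fun hm => h (by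
  have hc := lagU_commute hm hn
  have hl : ∀ v ∈ ([n] : List ℕ), v < 64 := by simpa using lt_trans hn (by norm_num)
  rw [← code_word _ (fun v hv => (List.mem_append.1 hv).elim (hw v) (hl v)),
    ← code_word _ (fun v hv => (List.mem_append.1 hv).elim (hl v) (hw v)), word_append, word_append,
    show word [n] = tv n by simp [word], hc.eq])

variable [Finite G]

theorem eight (hL : D.LagFacts) : D.Local {tv 1, tv 2, tv 3} := by
  refine loc hL ?_ x8 [4] y8 Z8 (by decide) (by decide) (by decide +kernel) (by decide) ?_ ?_ ?_ ?_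
    (order_word (by decide) (by decide +kernel) (by decide +kernel)) ?_ ?_
    (yconj (by decide) (by decide +kernel))
    (not_mem_lag (w := y8) (by decide) 4 (by norm_num) (by decide +kernel)) ?_ ?_
  · rintro a (rfl | rfl | rfl) <;> exact tv_mem_lagU (by norm_num)
  · intro a ha
    have m : ∀ v, v ∈ a → tv v ∈ Subgroup.closure ({tv 1, tv 2, tv 3} : Set Sp62) := by
      intro v hv
      refine Subgroup.subset_closure ?_
      simp [Z8] at ha
      rcases ha with rfl | rfl | rfl | rfl | rfl | rfl | rfl | rfl <;> simp at hv <;>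
        rcases hv with rfl | rfl | rfl <;> simp
    exact Subgroup.list_prod_mem _ (by simpa using m)
  · rintro a (rfl | rfl | rfl) <;>
      exact word_commute_tv _ _ (by decide) (by norm_num) (by decide +kernel)
  · rintro a (rfl | rfl | rfl) <;>
      exact word_commute_tv _ _ (by decide) (by norm_num) (by decide +kernel)
  · rintro a (rfl | rfl | rfl) <;>
      exact word_commute_tv _ _ (by decide) (by norm_num) (by decide +kernel)
  · rw [mul_inv_eq_iff_eq_mul, eq_inv_mul_iff_mul_eq, ← word_append, ← word_append]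
    exact word_eq (by decide) (by decide) (by decide +kernel)
  · rw [← word_append]; exact word_eq (b := []) (by decide) (by decide) (by decide +kernel)
  · exact fun g hg => pow24_eight (hg _ (by simp)) (hg _ (by simp))
  · exact fun g hg hx => cent_eight (hg _ (by simp)) (hg _ (by simp)) hx

theorem four (hL : D.LagFacts) : D.Local {tv 4, rT} := by
  refine loc hL ?_ x4 s4 s4 Z4 (by decide) (by decide) (by decide +kernel) (by decide) ?_ ?_ ?_ ?_
    (order_word (by decide) (by decide +kernel) (by decide +kernel)) ?_ ?_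
    (yconj (by decide) (by decide +kernel))
    (not_mem_lag (w := s4) (by decide) 1 (by norm_num) (by decide +kernel)) ?_ ?_
  · rintro a (rfl | rfl)
    · exact tv_mem_lagU (by norm_num)
    · rw [rT_eq]; exact word_mem_lagU _ (by decide)
  · intro a ha
    simp [Z4] at ha
    rcases ha with rfl | rfl | rfl | rfl
    · exact Subgroup.one_mem _
    · simpa [word] using Subgroup.subset_closure (by simp : tv 4 ∈ ({tv 4, rT} : Set Sp62))
    · rw [← rT_eq]; exact Subgroup.subset_closure (by simp)
    · rw [show word [4, 1, 2, 3] = tv 4 * rT by rw [rT_eq]; simp [word, mul_assoc]]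
      exact Subgroup.mul_mem _ (Subgroup.subset_closure (by simp)) (Subgroup.subset_closure (by simp))
  · rintro a (rfl | rfl)
    · exact word_commute_tv _ _ (by decide) (by norm_num) (by decide +kernel)
    · rw [rT_eq]; exact commute_word (by decide) (by decide) (by decide +kernel)
  · rintro a (rfl | rfl)
    · exact word_commute_tv _ _ (by decide) (by norm_num) (by decide +kernel)
    · rw [rT_eq]; exact commute_word (by decide) (by decide) (by decide +kernel)
  · rintro a (rfl | rfl)
    · exact word_commute_tv _ _ (by decide) (by norm_num) (by decide +kernel)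
    · rw [rT_eq]; exact commute_word (by decide) (by decide) (by decide +kernel)
  · rw [mul_inv_eq_iff_eq_mul, eq_inv_mul_iff_mul_eq, ← word_append, ← word_append]
    exact word_eq (by decide) (by decide) (by decide +kernel)
  · rw [← word_append]; exact word_eq (b := []) (by decide) (by decide) (by decide +kernel)
  · exact fun g hg => pow24_four (hg _ (by simp)) (hg _ (by simp))
  · exact fun g hg hx => cent_four (hg _ (by simp)) (hg _ (by simp)) hx

/-- Transport of `Local` along conjugation in the model. -/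
theorem conj_local {s : Set Sp62} (hloc : D.Local s) (h : Sp62) {g : G}
    (hg : ∀ a ∈ s, Commute g (D.ψ (h * a * h⁻¹))) : g ∈ D.ψ.range := by
  have hc : (D.ψ h)⁻¹ * g * D.ψ h ∈ Subgroup.centralizer (D.ψ '' s) := by
    rw [Subgroup.mem_centralizer_iff]
    rintro _ ⟨a, ha, rfl⟩
    have := ((Commute.conj_iff (h := (D.ψ h)⁻¹)).2 (hg a ha)).symm.eq
    simpa [mul_assoc] using this
  have := D.ψ.range.mul_mem (D.ψ.range.mul_mem ⟨h, rfl⟩ (hloc hc)) (D.ψ.range.inv_mem ⟨h, rfl⟩)
  simpa [mul_assoc] using this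

theorem conj_word {w : List ℕ} (hw : ∀ u ∈ w, u < 64) {a b : List ℕ} (ha : ∀ u ∈ a, u < 64)
    (hb : ∀ u ∈ b, u < 64) (h : codeW (w ++ a) = codeW (b ++ w)) :
    word w * word a * (word w)⁻¹ = word b := by
  rw [mul_inv_eq_iff_eq_mul, ← word_append, ← word_append]
  exact word_eq (by simpa [or_imp, forall_and] using ⟨hw, ha⟩)
    (by simpa [or_imp, forall_and] using ⟨hb, hw⟩) h

theorem local_145 (hL : D.LagFacts) {g : G} (h1 : Commute g (D.ψ (tv 1)))
    (h4 : Commute g (D.ψ (tv 4))) (h5 : Commute g (D.ψ (tv 5))) : g ∈ D.ψ.range := by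
  refine conj_local (eight hL) (word [2, 32, 34, 4, 16, 20]) ?_
  rintro a (rfl | rfl | rfl)
  · rw [show tv 1 = word [1] by simp [word], conj_word (b := [1]) (by decide) (by decide) (by decide)
      (by decide +kernel), show word [1] = tv 1 by simp [word]]
    exact h1
  · rw [show tv 2 = word [2] by simp [word], conj_word (b := [4]) (by decide) (by decide) (by decide)
      (by decide +kernel), show word [4] = tv 4 by simp [word]]
    exact h4
  · rw [show tv 3 = word [3] by simp [word], conj_word (b := [5]) (by decide) (by decide) (by decide)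
      (by decide +kernel), show word [5] = tv 5 by simp [word]]
    exact h5

theorem local_246 (hL : D.LagFacts) {g : G} (h2 : Commute g (D.ψ (tv 2)))
    (h4 : Commute g (D.ψ (tv 4))) (h6 : Commute g (D.ψ (tv 6))) : g ∈ D.ψ.range := by
  refine conj_local (eight hL) (word [1, 16, 17, 2, 8, 10, 2, 32, 34, 4, 16, 20]) ?_
  rintro a (rfl | rfl | rfl)
  · rw [show tv 1 = word [1] by simp [word], conj_word (b := [2]) (by decide) (by decide) (by decide)
      (by decide +kernel), show word [2] = tv 2 by simp [word]]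
    exact h2
  · rw [show tv 2 = word [2] by simp [word], conj_word (b := [4]) (by decide) (by decide) (by decide)
      (by decide +kernel), show word [4] = tv 4 by simp [word]]
    exact h4
  · rw [show tv 3 = word [3] by simp [word], conj_word (b := [6]) (by decide) (by decide) (by decide)
      (by decide +kernel), show word [6] = tv 6 by simp [word]]
    exact h6

theorem local_1347 (hL : D.LagFacts) {g : G} (h1 : Commute g (D.ψ (tv 1)))
    (hw : Commute g (D.ψ (tv 3) * D.ψ (tv 4) * D.ψ (tv 7))) : g ∈ D.ψ.range := by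
  refine conj_local (four hL) (word [2, 8, 10, 1, 16, 17, 4, 16, 20, 2, 32, 34, 4, 16, 20]) ?_
  rintro a (rfl | rfl)
  · rw [show tv 4 = word [4] by simp [word], conj_word (b := [1]) (by decide) (by decide) (by decide)
      (by decide +kernel), show word [1] = tv 1 by simp [word]]
    exact h1
  · rw [rT_eq, conj_word (b := [3, 4, 7]) (by decide) (by decide) (by decide) (by decide +kernel)]
    simpa [word, mul_assoc] using hw

theorem two (hL : D.LagFacts) : D.Local {tv 1, tv 2} := by
  set s : Set Sp62 := {tv 1, tv 2} with hsdef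
  have hs : s ⊆ lagU := by rintro a (rfl | rfl) <;> exact tv_mem_lagU (by norm_num)
  have cs : ∀ {k : ℕ}, k < 8 → ∀ a ∈ s, Commute (tv k) a := fun hk a ha => by
    rcases ha with rfl | rfl <;> exact tv_commute hk (by norm_num)
  have cy : ∀ a ∈ s, Commute (word y8) a := by
    rintro a (rfl | rfl) <;> exact word_commute_tv _ _ (by decide) (by norm_num) (by decide +kernel)
  have cx : ∀ a ∈ s, Commute (word x8) a := by
    rintro a (rfl | rfl) <;> exact word_commute_tv _ _ (by decide) (by norm_num) (by decide +kernel)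
  let l : (k : ℕ) → k < 8 → K D s := fun k hk => lift D (tv k) (cs hk)
  have lsq : ∀ k (hk : k < 8), (l k hk) ^ 2 = 1 := fun k hk => Subtype.ext (by
    rw [SubgroupClass.coe_pow, sq]
    change D.ψ (tv k) * D.ψ (tv k) = 1
    rw [← map_mul, lagU_sq (tv_mem_lagU hk), map_one])
  have c1 : ∀ k : K D s, Commute (k : G) (D.ψ (tv 1)) := fun k => commute_K k.2 (by simp [hsdef])
  have c2 : ∀ k : K D s, Commute (k : G) (D.ψ (tv 2)) := fun k => commute_K k.2 (by simp [hsdef])
  have key : ∀ k : K D s, k ∈ HK D s := by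
    refine PairsLocal.Two.le (H := HK D s) (U := UK D s) (t := l 3 (by norm_num))
      (t4 := l 4 (by norm_num)) (t5 := l 5 (by norm_num)) (t6 := l 6 (by norm_num))
      (t7 := l 7 (by norm_num)) (x := lift D (word x8) cx) (y := lift D (word y8) cy)
      ⟨big_of hL hs, two_UK hs, ?_, lsq 3 (by norm_num), lsq 4 (by norm_num), lsq 5 (by norm_num), lsq 6 (by norm_num), ?_, ?_, ?_, ?_, ⟨word y8, rfl⟩,
        ?_, ?_, ?_, ?_, ?_, ?_, ?_, ?_⟩
    · exact Subgroup.mem_map_of_mem D.ψ (tv_mem_lagU (by norm_num))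
    · intro k hk
      obtain ⟨w, hw, -⟩ := exists_of_mem_HK hk
      have hw' : D.ψ w = (k : G) * D.ψ (tv 3) * (k : G)⁻¹ := hw
      obtain ⟨h', hh'⟩ := hL.fuse (tv 3) w (lagU_sq (tv_mem_lagU (by norm_num))) ⟨k, hw'.symm⟩
      obtain ⟨n, hn, hn'⟩ := exists_code (h' • PSp62MultiplierData.vec 3)
      have hwn : w = tv n := by
        rw [← hh', tv, Cfsg.Agent.SymplecticBasic.transv_conj, hn']
        rfl
      have hn0 : n ≠ 0 := fun e => by
        rw [e, PairsCalc.vec_zero] at hn'
        have h0 := congrArg (fun v => h'⁻¹ • v) hn'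
        simp only [inv_smul_smul] at h0
        rw [show h'⁻¹ • (0 : PSp62MultiplierData.V6) = 0 by
          rw [Cfsg.Agent.SymplecticBasic.smul_def, Matrix.mulVec_zero], ← PairsCalc.vec_zero] at h0
        exact absurd (PairsCalc.vec_inj' (by norm_num) (by norm_num) h0) (by norm_num)
      obtain ⟨h, hh⟩ := hL.fuse rT (word [1, 2, n])
        (lagU_sq (rT_eq ▸ word_mem_lagU _ (by decide))) ⟨k, by
          rw [rT_eq]
          simp only [word, List.map_cons, List.map_nil, List.prod_cons, List.prod_nil, mul_one,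
            map_mul]
          rw [← hwn, hw']
          calc (k : G) * (D.ψ (tv 1) * (D.ψ (tv 2) * D.ψ (tv 3))) * (k : G)⁻¹
              = ((k : G) * (D.ψ (tv 1) * D.ψ (tv 2))) * D.ψ (tv 3) * (k : G)⁻¹ := by group
            _ = _ := by rw [((c1 k).mul_right (c2 k)).eq]; group⟩
      have := eq_three_of_conj hn hn0 (by rw [← rT_eq]; exact hh)
      exact Subtype.ext (hw'.symm.trans (by rw [hwn, this]; rfl))
    · intro k hk
      refine Subgroup.mem_subgroupOf.2 (eight hL ?_)
      rw [Subgroup.mem_centralizer_iff]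
      rintro _ ⟨a, ha, rfl⟩
      rcases ha with rfl | rfl | rfl
      · exact (c1 k).symm.eq
      · exact (c2 k).symm.eq
      · exact (congrArg Subtype.val hk.eq).symm
    · intro k hk
      obtain ⟨g, hg, hga⟩ := exists_of_mem_HK hk
      exact Subtype.ext (by
        rw [SubgroupClass.coe_pow, ← hg, ← map_pow,
          pow24_eight (hga _ (by simp [hsdef])) (hga _ (by simp [hsdef])), map_one]
        rfl)
    · intro k hk h3 h1 hc
      obtain ⟨g, hg, hga⟩ := exists_of_mem_HK hk
      refine three_eight (hga _ (by simp [hsdef])) (hga _ (by simp [hsdef])) ?_ ?_ (D.inj ?_)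
      · exact D.inj (by rw [map_pow, hg, map_one, ← SubgroupClass.coe_pow, h3]; rfl)
      · exact fun e => h1 (Subtype.ext (by rw [← hg, e, map_one]; rfl))
      · have := congrArg Subtype.val hc
        simp only [SubgroupClass.coe_pow, Subgroup.coe_mul, Subgroup.coe_inv, Subgroup.coe_one,
          lift] at this
        rw [map_pow, map_mul, map_mul, map_mul, map_inv, map_inv, hg, map_one]
        exact this
    · intro k
      refine Subtype.ext ?_
      simp only [l, lift, Subgroup.coe_mul, Subgroup.coe_inv]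
      have e : D.ψ (tv 3) * D.ψ (tv 4) * D.ψ (tv 5) * D.ψ (tv 6) =
          D.ψ (tv 1) * D.ψ (tv 2) * D.ψ (tv 7) := by
        rw [← map_mul, ← map_mul, ← map_mul, ← map_mul, ← map_mul]
        refine congrArg D.ψ ?_
        simpa [word, mul_assoc] using word_eq (a := [3, 4, 5, 6]) (b := [1, 2, 7]) (by decide)
          (by decide) (by decide +kernel)
      have m := (Subgroup.mul_mem _ (Subgroup.mul_mem _ (l 7 (by norm_num)).2 k.2)
        (Subgroup.inv_mem _ (l 7 (by norm_num)).2) :
        D.ψ (tv 7) * (k : G) * (D.ψ (tv 7))⁻¹ ∈ K D s)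
      have m1 := commute_K m (show tv 1 ∈ s by simp [hsdef])
      have m2 := commute_K m (show tv 2 ∈ s by simp [hsdef])
      rw [e]
      calc D.ψ (tv 1) * D.ψ (tv 2) * D.ψ (tv 7) * (k : G) *
            (D.ψ (tv 1) * D.ψ (tv 2) * D.ψ (tv 7))⁻¹
          = (D.ψ (tv 1) * D.ψ (tv 2)) * (D.ψ (tv 7) * (k : G) * (D.ψ (tv 7))⁻¹) *
              (D.ψ (tv 1) * D.ψ (tv 2))⁻¹ := by group
        _ = _ := by rw [← (m1.mul_right m2).eq, mul_inv_cancel_right]
    · exact Subtype.ext ((tv_commute (by norm_num) (by norm_num)).map D.ψ).eq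
    · exact Subtype.ext ((tv_commute (by norm_num) (by norm_num)).map D.ψ).eq
    · intro k h4 h5
      exact Subgroup.mem_subgroupOf.2 (local_145 hL (c1 k) (congrArg Subtype.val h4.eq)
        (congrArg Subtype.val h5.eq))
    · intro k h4 h6
      exact Subgroup.mem_subgroupOf.2 (local_246 hL (c2 k) (congrArg Subtype.val h4.eq)
        (congrArg Subtype.val h6.eq))
    · intro k hk
      exact Subgroup.mem_subgroupOf.2 (local_1347 hL (c1 k) (congrArg Subtype.val hk.eq))
    · refine Subtype.ext ?_
      simp only [l, lift, Subgroup.coe_mul, Subgroup.coe_inv]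
      rw [← map_inv, ← map_mul, ← map_mul, ← map_mul]
      refine congrArg D.ψ ?_
      rw [show tv 4 = word [4] by simp [word], conj_word (w := x8) (a := [4]) (b := [4, 32, 4, 32, 4])
          (by decide) (by decide) (by decide) (by decide +kernel), ← word_append]
      exact word_eq (by decide) (by decide) (by decide +kernel)
    · intro k hk
      refine Subgroup.mem_subgroupOf.2 (D.three _
        (order_word (w := x8) (by decide) (by decide +kernel) (by decide +kernel))
        (Subgroup.mem_centralizer_iff.2 ?_))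
      rintro _ rfl
      exact (congrArg Subtype.val hk.eq).symm
  exact fun g hg => Subgroup.mem_subgroupOf.1 (key ⟨g, hg⟩)

end PairsLift

/-- P9a: the centralisers of the small subgroups. -/
theorem SpHyp.pairFacts {G : Type u} [Group G] [Finite G] (D : SpHyp G) (hL : D.LagFacts) :
    D.PairFacts :=
  ⟨PairsLift.eight hL, PairsLift.four hL, PairsLift.two hL⟩

end Cfsg.Agent.Sp62Three31
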