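import Cfsg.Agent.Lib.Sp62Three31Auto
import Cfsg.Agent.Lib.Sp62Three31HalfOne
import Cfsg.Agent.Lib.Sp62Three31Closed
import Cfsg.Agent.Lib.Sp62Three31Local
import Cfsg.Agent.Lib.Sp62Three31Lag
import Cfsg.Agent.Lib.Sp62Three31Pairs
import Cfsg.Agent.Lib.Sp62Three31InvVQ
import Cfsg.Agent.Lib.Sp62Three31Final
import Cfsg.Agent.Lib.Sp62Three31BridgeRule

/-!
Assembly of the halves of S3342, relative to the two branch recognitions.
-/

set_option autoImplicit false

namespace Cfsg.Agent.Sp62Three31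

open S9Model37

universe u v

theorem Setup.fusion' {G : Type u} [Group G] [Finite G] (S : Setup G) (g : G) (h : g * S.a * g⁻¹ ∈ S.J) :
    ∃ n ∈ Subgroup.normalizer (S.J : Set G), n * S.a * n⁻¹ = g * S.a * g⁻¹ :=
  S.fusion h ⟨g, rfl⟩

/-- The non-inverted half. -/
theorem Setup.notInverted {G : Type u} [Group G] [Finite G] (S : Setup G) (hni : ¬ S.Inverted)
    (F : Type v) [Field F] [Fintype F] (hF : Fintype.card F = 3) :
    (∃ N : Subgroup G, N.Normal ∧ N.index = 3) ∨ Nonempty (G ≃* Cfsg.PSp 2 F) := by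
  refine S.halfOne S.cJ S.sylow S.fusion' (fun hI hW => ?_) hni F hF
  obtain ⟨e⟩ := S.auto_not_inverted hI hW
  refine ⟨e.toMonoidHom.comp (QuotientGroup.mk' _), e.surjective.comp (QuotientGroup.mk'_surjective _), ?_⟩
  ext g
  simp [MonoidHom.mem_ker]

/-- The inverted half, relative to the branches. -/
theorem Setup.inverted {G : Type u} [Group G] [Finite G] (S : Setup G) (hinv : S.Inverted)
    {A : Prop} {F₂ : Type v} [Field F₂] [Fintype F₂] (hF₂ : Fintype.card F₂ = 2)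
    (hone : ∀ F : S.Frame, F.CaseI →
      Subgroup.centralizer ({F.φ (C1 * C2)} : Set G) ≤ Subgroup.normalizer (S.J : Set G) → A)
    (htwo : ∀ (F : S.Frame) (c : F.CaseII), c.Rule →
      Subgroup.centralizer ({F.φ (C1 * C2)} : Set G) ≤ Subgroup.normalizer (S.J : Set G) → Nonempty (SpHyp G)) :
    Subgroup.normalizer (Subgroup.zpowers S.a : Set G) = ⊤ ∨ A ∨
      Nonempty (G ≃* Matrix.symplecticGroup (Fin 3) F₂) := by
  by_cases hW : S.WeaklyClosed
  · exact Or.inl (S.closed_normal S.cJ S.sylow S.fusion' hinv hW)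
  obtain ⟨F⟩ := S.frame hinv hW
  have hy := Local.cy F S.cJ S.sylow
  rcases Local.dichotomy F S.cJ S.sylow with h | ⟨⟨c⟩⟩
  · exact Or.inr (Or.inl (hone F h hy))
  · obtain ⟨D⟩ := htwo F c (Bridge.rule c hy) hy
    have hL := D.lagFacts
    exact Or.inr (Or.inr (nonempty_mulEquiv D hL (InvVQ.inv_facts D hL (SpHyp.pairFacts D hL)) F₂ hF₂))

end Cfsg.Agent.Sp62Three31
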