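import Cfsg.Agent.Lib.Sp62Three31Model

/-!
The centralisers in `Sp(6,2)` of the subgroups `⟨t₁, t₂⟩` and `⟨t₄, rT⟩`, listed on bit strings.
-/

set_option autoImplicit false
set_option maxRecDepth 100000
set_option Elab.async false

namespace Cfsg.Agent.Sp62Three31.PairsCalc

open Cfsg.Agent.SymplecticBasic Cfsg.Agent.PSp62MultiplierData

/-- The identity on codes. -/
def base : List ℕ := (List.range 6).map fun i => 2 ^ i

/-- One step of the linear extension. -/
def step (a : List ℕ) (n r i : ℕ) : ℕ := if n.testBit i then r ^^^ a.getD i 0 else r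

/-- The linear extension of a code. -/
def app (a : List ℕ) (n : ℕ) : ℕ := (List.range 6).foldl (step a n) 0

/-- Composition of codes. -/
def comp (a b : List ℕ) : List ℕ := b.map (app a)

/-- Transvection on bit strings. -/
def tnv (v x : ℕ) : ℕ := if frm x v then x ^^^ v else x

/-- The code of a transvection. -/
def codeT (v : ℕ) : List ℕ := (List.range 6).map fun i => tnv v (2 ^ i)

/-- The code of a word of transvections. -/
def codeW : List ℕ → List ℕ
  | [] => base
  | v :: w => comp (codeT v) (codeW w)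

/-- Powers of a code. -/
def powC (a : List ℕ) : ℕ → List ℕ
  | 0 => base
  | k + 1 => comp (powC a k) a

/-- A word of transvections. -/
def word (w : List ℕ) : Sp62 := (w.map tv).prod

theorem vec_zero : vec 0 = 0 := by
  funext i; rcases i with i | i <;> simp [vec]

theorem vec_xor (m n : ℕ) : vec (m ^^^ n) = vec m + vec n := by
  funext i
  rcases i with i | i <;>
    (simp only [vec, Sum.elim_inl, Sum.elim_inr, Pi.add_apply, Nat.testBit_xor]
     split <;> split <;> split <;> first | rfl | simp_all | decide)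

theorem app_base : ∀ n : Fin 64, app base n.val = n.val := by decide +kernel

theorem vec_inj : ∀ m n : Fin 64, vec m.val = vec n.val → m = n := by decide +kernel

theorem vec_inj' {m n : ℕ} (hm : m < 64) (hn : n < 64) (h : vec m = vec n) : m = n :=
  congrArg Fin.val (vec_inj ⟨m, hm⟩ ⟨n, hn⟩ h)

theorem form_ok : ∀ u v : Fin 64,
    sympForm 3 (ZMod 2) (vec u.val) (vec v.val) = if frm u.val v.val then 1 else 0 := by
  decide +kernel

theorem exists_code (x : V6) : ∃ n, n < 64 ∧ x = vec n :=
  let ⟨n, hn⟩ := vec_surj x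
  ⟨n.val, n.isLt, hn⟩

/-- The image of a basis string. -/
noncomputable def e (g : Sp62) (i : ℕ) : ℕ := Classical.choose (exists_code (g • vec (2 ^ i)))

theorem e_lt (g : Sp62) (i : ℕ) : e g i < 64 :=
  (Classical.choose_spec (exists_code (g • vec (2 ^ i)))).1

theorem e_spec (g : Sp62) (i : ℕ) : g • vec (2 ^ i) = vec (e g i) :=
  (Classical.choose_spec (exists_code (g • vec (2 ^ i)))).2

theorem e_eq {g : Sp62} {i m : ℕ} (hm : m < 64) (h : g • vec (2 ^ i) = vec m) : e g i = m :=
  vec_inj' (e_lt g i) hm ((e_spec g i).symm.trans h)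

/-- The code of an element. -/
noncomputable def code (g : Sp62) : List ℕ := (List.range 6).map (e g)

theorem fold_smul {g : Sp62} {a : List ℕ} (n : ℕ) : ∀ (l : List ℕ) (r r' : ℕ), g • vec r = vec r' →
    (∀ i ∈ l, g • vec (base.getD i 0) = vec (a.getD i 0)) →
    g • vec (l.foldl (step base n) r) = vec (l.foldl (step a n) r')
  | [], _, _, h, _ => h
  | i :: l, r, r', h, hl => by
    refine fold_smul n l _ _ ?_ fun j hj => hl j (List.mem_cons_of_mem _ hj)
    simp only [step]
    split
    · rw [vec_xor, vec_xor, ← h, ← hl i List.mem_cons_self, smul_def, smul_def, smul_def,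
        Matrix.mulVec_add]
    · exact h

theorem smul_app (g : Sp62) {n : ℕ} (hn : n < 64) : g • vec n = vec (app (code g) n) := by
  rw [show g • vec n = g • vec (app base n) by rw [show app base n = n from app_base ⟨n, hn⟩]]
  refine fold_smul n _ _ _ (by rw [vec_zero, smul_def, Matrix.mulVec_zero]) fun i hi => ?_
  have hi6 : i < 6 := List.mem_range.1 hi
  rw [List.getD_eq_getElem?_getD, List.getD_eq_getElem?_getD]
  simp [base, code, hi6, e_spec]

theorem app_lt {a : List ℕ} (ha : ∀ v ∈ a, v < 64) (n : ℕ) : app a n < 64 := by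
  suffices ∀ (l : List ℕ) (r : ℕ), r < 64 → l.foldl (step a n) r < 64 from this _ 0 (by norm_num)
  intro l
  induction l with
  | nil => exact fun r h => h
  | cons i l ih =>
    intro r h
    refine ih _ ?_
    simp only [step]
    split
    · refine Nat.xor_lt_two_pow (n := 6) h ?_
      rw [List.getD_eq_getElem?_getD]
      cases hx : a[i]? with
      | none => simp
      | some v => simpa [hx] using ha v (List.mem_of_getElem? hx)
    · exact h

theorem code_lt (g : Sp62) : ∀ v ∈ code g, v < 64 := by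
  intro v hv
  obtain ⟨i, -, rfl⟩ := List.mem_map.1 hv
  exact e_lt g i

theorem code_mul (g h : Sp62) : code (g * h) = comp (code g) (code h) := by
  rw [code, comp, code, code, List.map_map]
  refine List.map_congr_left fun i hi => e_eq (app_lt (code_lt g) _) ?_
  rw [mul_smul, e_spec, smul_app g (e_lt h i)]
  rfl

theorem code_one : code 1 = base := by
  refine List.map_congr_left fun i hi => e_eq ?_ (one_smul _ _)
  have := List.mem_range.1 hi
  interval_cases i <;> norm_num

theorem code_pow (g : Sp62) : ∀ k, code (g ^ k) = powC (code g) k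
  | 0 => by rw [pow_zero, code_one]; rfl
  | k + 1 => by rw [pow_succ, code_mul, code_pow g k]; rfl

theorem code_inj {g h : Sp62} (hgh : code g = code h) : g = h :=
  ext_smul_single fun i => by
    obtain ⟨n, hn⟩ := basis_vec i
    rw [hn, smul_app g n.isLt, smul_app h n.isLt, hgh]

theorem tnv_lt {v x : ℕ} (hv : v < 64) (hx : x < 64) : tnv v x < 64 := by
  unfold tnv
  split
  · exact Nat.xor_lt_two_pow (n := 6) hx hv
  · exact hx

theorem tv_smul {v n : ℕ} (hv : v < 64) (hn : n < 64) : tv v • vec n = vec (tnv v n) := by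
  rw [tv, transv_smul, one_mul, form_ok ⟨n, hn⟩ ⟨v, hv⟩, tnv]
  dsimp only
  split
  · rw [one_smul, vec_xor]
  · rw [zero_smul, add_zero]

theorem code_tv {v : ℕ} (hv : v < 64) : code (tv v) = codeT v := by
  refine List.map_congr_left fun i hi => ?_
  have h : 2 ^ i < 64 := by
    have := List.mem_range.1 hi
    interval_cases i <;> norm_num
  exact e_eq (tnv_lt hv h) (tv_smul hv h)

theorem code_word : ∀ (w : List ℕ), (∀ v ∈ w, v < 64) → code (word w) = codeW w
  | [], _ => code_one
  | v :: w, h => by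
    rw [word, List.map_cons, List.prod_cons, ← word, code_mul, code_tv (h v List.mem_cons_self),
      code_word w fun u hu => h u (List.mem_cons_of_mem _ hu)]
    rfl

theorem word_append (a b : List ℕ) : word (a ++ b) = word a * word b := by
  simp [word, List.prod_append]

theorem word_eq {a b : List ℕ} (ha : ∀ v ∈ a, v < 64) (hb : ∀ v ∈ b, v < 64)
    (h : codeW a = codeW b) : word a = word b :=
  code_inj (by rw [code_word a ha, code_word b hb, h])

theorem word_eq_iff {a b : List ℕ} (ha : ∀ v ∈ a, v < 64) (hb : ∀ v ∈ b, v < 64) :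
    word a = word b ↔ codeW a = codeW b :=
  ⟨fun h => by rw [← code_word a ha, ← code_word b hb, h], word_eq ha hb⟩

theorem commute_word {a b : List ℕ} (ha : ∀ v ∈ a, v < 64) (hb : ∀ v ∈ b, v < 64)
    (h : codeW (a ++ b) = codeW (b ++ a)) : Commute (word a) (word b) := by
  rw [Commute, SemiconjBy, ← word_append, ← word_append]
  exact word_eq (by simpa [or_imp, forall_and] using ⟨ha, hb⟩)
    (by simpa [or_imp, forall_and] using ⟨hb, ha⟩) h

/-- A field of a packed code. -/
def fld (c i : ℕ) : ℕ := c / 64 ^ i % 64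

/-- The packed prefixes of the code of an element. -/
noncomputable def pref (g : Sp62) : ℕ → ℕ
  | 0 => 0
  | k + 1 => pref g k + e g k * 64 ^ k

theorem pref_lt (g : Sp62) : ∀ k, pref g k < 64 ^ k
  | 0 => by simp [pref]
  | k + 1 => by
    have h1 := pref_lt g k
    have h2 := e_lt g k
    rw [pref, pow_succ]
    calc pref g k + e g k * 64 ^ k < (e g k + 1) * 64 ^ k := by linarith
      _ ≤ 64 ^ k * 64 := by rw [mul_comm]; exact Nat.mul_le_mul_left _ h2

theorem fld_pref (g : Sp62) : ∀ k j, j < k → fld (pref g k) j = e g j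
  | 0, _, h => absurd h (Nat.not_lt_zero _)
  | k + 1, j, h => by
    rcases Nat.lt_succ_iff_lt_or_eq.1 h with h' | rfl
    · rw [pref, ← fld_pref g k j h', fld, fld]
      obtain ⟨d, rfl⟩ : ∃ d, k = j + 1 + d := ⟨k - (j + 1), by omega⟩
      rw [show e g (j + 1 + d) * 64 ^ (j + 1 + d) = 64 ^ j * (e g (j + 1 + d) * 64 ^ d * 64) by ring,
        Nat.add_mul_div_left _ _ (by positivity), Nat.add_mul_mod_self_right]
    · rw [pref, fld, Nat.add_mul_div_right _ _ (by positivity), Nat.div_eq_of_lt (pref_lt g j),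
        zero_add, Nat.mod_eq_of_lt (e_lt g j)]

/-- The packed code of an element. -/
noncomputable def pc (g : Sp62) : ℕ := pref g 6

/-- Packing of a code. -/
def pk : List ℕ → ℕ
  | [] => 0
  | v :: l => v + 64 * pk l

theorem pk_code (g : Sp62) : pk (code g) = pc g := by
  simp [code, pc, pref, pk, List.range_succ]
  ring

theorem code_of_pc {g h : Sp62} (H : pc g = pc h) : g = h :=
  code_inj (List.map_congr_left fun i hi => by
    rw [← fld_pref g 6 i (List.mem_range.1 hi), ← fld_pref h 6 i (List.mem_range.1 hi)]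
    exact congrArg (fun c => fld c i) H)

/-- The linear extension of a packed code. -/
def app' (c n : ℕ) : ℕ :=
  ((((((n % 2) * (c % 64)) ^^^ ((n / 2 % 2) * (c / 64 % 64))) ^^^
    ((n / 4 % 2) * (c / 4096 % 64))) ^^^ ((n / 8 % 2) * (c / 262144 % 64))) ^^^
    ((n / 16 % 2) * (c / 16777216 % 64))) ^^^ ((n / 32 % 2) * (c / 1073741824 % 64))

/-- Composition of packed codes. -/
def comp' (c d : ℕ) : ℕ :=
  app' c (d % 64) + app' c (d / 64 % 64) * 64 + app' c (d / 4096 % 64) * 4096 +
    app' c (d / 262144 % 64) * 262144 + app' c (d / 16777216 % 64) * 16777216 +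
    app' c (d / 1073741824 % 64) * 1073741824

theorem bit_mul (n i x : ℕ) : n / 2 ^ i % 2 * x = if n.testBit i then x else 0 := by
  rw [Nat.testBit_eq_decide_div_mod_eq]
  rcases Nat.mod_two_eq_zero_or_one (n / 2 ^ i) with h | h <;> simp [h]

theorem app'_eq (c n : ℕ) : app' c n =
    ((((( (if n.testBit 0 then fld c 0 else 0) ^^^ (if n.testBit 1 then fld c 1 else 0)) ^^^
    (if n.testBit 2 then fld c 2 else 0)) ^^^ (if n.testBit 3 then fld c 3 else 0)) ^^^
    (if n.testBit 4 then fld c 4 else 0)) ^^^ (if n.testBit 5 then fld c 5 else 0)) := by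
  simp only [← bit_mul]
  simp [app', fld]

theorem step_eq (a : List ℕ) (n r i : ℕ) :
    step a n r i = r ^^^ (if n.testBit i then a.getD i 0 else 0) := by
  unfold step; split <;> simp

theorem app'_pc (g : Sp62) (n : ℕ) : app' (pc g) n = app (code g) n := by
  rw [app'_eq]
  simp only [pc, fld_pref g 6 _ (show 0 < 6 by norm_num), fld_pref g 6 1 (by norm_num),
    fld_pref g 6 2 (by norm_num), fld_pref g 6 3 (by norm_num), fld_pref g 6 4 (by norm_num),
    fld_pref g 6 5 (by norm_num)]
  simp [app, step_eq, List.range_succ, code]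

theorem pc_mul (g h : Sp62) : pc (g * h) = comp' (pc g) (pc h) := by
  have he : ∀ i, i < 6 → e (g * h) i = app' (pc g) (fld (pc h) i) := fun i hi => by
    rw [app'_pc, pc, fld_pref h 6 i hi]
    refine e_eq (app_lt (code_lt g) _) ?_
    rw [mul_smul, e_spec, smul_app g (e_lt h i)]
  show pref (g * h) 6 = _
  simp only [pref, he 0 (by norm_num), he 1 (by norm_num), he 2 (by norm_num), he 3 (by norm_num),
    he 4 (by norm_num), he 5 (by norm_num), comp', fld]
  simp

/-- The symplectic form on bit strings, by a table. -/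
def frm' (u v : ℕ) : Bool := 150 / 2 ^ (((u &&& (v / 8)) ^^^ ((u / 8) &&& v)) % 8) % 2 == 1

theorem frm'_ok : ∀ u v : Fin 64, frm' u.val v.val = frm u.val v.val := by decide +kernel

/-- The bit strings. -/
def vs : List ℕ := List.range 64

/-- Enumeration of the packed codes of symplectic maps satisfying a condition on each prefix. -/
def gen (ok : ℕ → ℕ → ℕ → Bool) : ℕ → List ℕ
  | 0 => [0]
  | k + 1 => (gen ok k).flatMap fun p => (vs.filter fun v =>
      ok k p v && (List.range k).all fun j => frm' v (fld p j) == frm' (2 ^ k) (2 ^ j)).map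
        fun v => p + v * 64 ^ k

theorem frm_code (g : Sp62) {i j : ℕ} (hi : 2 ^ i < 64) (hj : 2 ^ j < 64) :
    frm (e g i) (e g j) = frm (2 ^ i) (2 ^ j) := by
  have h := form_map g (vec (2 ^ i)) (vec (2 ^ j))
  rw [e_spec, e_spec, form_ok ⟨_, e_lt g i⟩ ⟨_, e_lt g j⟩, form_ok ⟨_, hi⟩ ⟨_, hj⟩] at h
  dsimp only at h
  revert h
  cases frm (e g i) (e g j) <;> cases frm (2 ^ i) (2 ^ j) <;> decide

theorem pow_two_lt {i : ℕ} (hi : i < 6) : 2 ^ i < 64 := by interval_cases i <;> norm_num

theorem mem_gen {ok : ℕ → ℕ → ℕ → Bool} (g : Sp62)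
    (h : ∀ k, k < 6 → ok k (pref g k) (e g k) = true) :
    ∀ k, k ≤ 6 → pref g k ∈ gen ok k
  | 0, _ => by simp [gen, pref]
  | k + 1, hk => by
    have ih := mem_gen g h k (by omega)
    rw [gen, List.mem_flatMap]
    refine ⟨_, ih, List.mem_map.2 ⟨e g k, List.mem_filter.2 ⟨List.mem_range.2 (e_lt g k), ?_⟩, rfl⟩⟩
    rw [Bool.and_eq_true]
    refine ⟨h k (by omega), List.all_eq_true.2 fun j hj => ?_⟩
    have hjk := List.mem_range.1 hj
    have hk' := pow_two_lt (by omega : k < 6)
    have hj' := pow_two_lt (by omega : j < 6)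
    rw [fld_pref g k j hjk]
    simp [show frm' (e g k) (e g j) = _ from frm'_ok ⟨_, e_lt g k⟩ ⟨_, e_lt g j⟩,
      show frm' (2 ^ k) (2 ^ j) = _ from frm'_ok ⟨_, hk'⟩ ⟨_, hj'⟩, frm_code g hk' hj']

/-- The condition fixing `x₁` and `x₂`. -/
def ok8 (k _p v : ℕ) : Bool := decide (1 < k) || v == 2 ^ k

/-- The code of `rT` on a string. -/
def rTn (n : ℕ) : ℕ := app' (pk (codeW [1, 2, 3])) n

/-- The condition fixing `x₃` and commuting with `rT`. -/
def ok4 (k p v : ℕ) : Bool :=
  (decide (k ≠ 2) || v == 4) && rTn v == app' (p + v * 64 ^ k) (rTn (2 ^ k))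

/-- The codes in the centraliser of `⟨t₁, t₂⟩`. -/
def L8 : List ℕ := gen ok8 6

/-- The codes in the centraliser of `⟨t₄, rT⟩`. -/
def L4 : List ℕ := gen ok4 6

theorem codeT_inj : ∀ a b : Fin 64, codeT a.val = codeT b.val → a = b := by decide +kernel

theorem smul_of_commute {g : Sp62} {v : ℕ} (hv : v < 64) (h : Commute g (tv v)) :
    app (code g) v = v := by
  have hc : tv (app (code g) v) = tv v := by
    have h2 : transv (g • vec v) (1 : ZMod 2) = tv v := by
      rw [← transv_conj]; exact mul_inv_eq_iff_eq_mul.2 h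
    rw [smul_app g hv] at h2
    exact h2
  have hl := app_lt (code_lt g) v
  have := congrArg code hc
  rw [code_tv hl, code_tv hv] at this
  exact congrArg Fin.val (codeT_inj ⟨_, hl⟩ ⟨v, hv⟩ this)

theorem app_two_pow (a : List ℕ) {k : ℕ} (hk : k < 6) : app a (2 ^ k) = a.getD k 0 := by
  simp only [app, step, List.range_succ, List.range_zero, List.nil_append, List.foldl_append,
    List.foldl_cons, List.foldl_nil, Nat.testBit_two_pow]
  interval_cases k <;> simp

theorem app_ten (a : List ℕ) : app a 10 = a.getD 1 0 ^^^ a.getD 3 0 := by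
  simp only [app, step, List.range_succ, List.range_zero, List.nil_append, List.foldl_append,
    List.foldl_cons, List.foldl_nil, show Nat.testBit 10 0 = false from rfl,
    show Nat.testBit 10 1 = true from rfl, show Nat.testBit 10 2 = false from rfl,
    show Nat.testBit 10 3 = true from rfl, show Nat.testBit 10 4 = false from rfl,
    show Nat.testBit 10 5 = false from rfl]
  simp

theorem app_seventeen (a : List ℕ) : app a 17 = a.getD 0 0 ^^^ a.getD 4 0 := by
  simp only [app, step, List.range_succ, List.range_zero, List.nil_append, List.foldl_append,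
    List.foldl_cons, List.foldl_nil, show Nat.testBit 17 0 = true from rfl,
    show Nat.testBit 17 1 = false from rfl, show Nat.testBit 17 2 = false from rfl,
    show Nat.testBit 17 3 = false from rfl, show Nat.testBit 17 4 = true from rfl,
    show Nat.testBit 17 5 = false from rfl]
  simp

theorem getD_map (g : Sp62) {j m : ℕ} (hj : j < m) :
    ((List.range m).map (e g)).getD j 0 = e g j := by
  rw [List.getD_eq_getElem?_getD]; simp [hj]

theorem mem_L8 {g : Sp62} (h1 : Commute g (tv 1)) (h2 : Commute g (tv 2)) : pc g ∈ L8 := by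
  refine mem_gen g (fun k hk => ?_) 6 le_rfl
  rcases Nat.lt_or_ge 1 k with hk1 | hk1
  · simp [ok8, hk1]
  have a := smul_of_commute (g := g) (v := 2 ^ k) (pow_two_lt hk) (by
    interval_cases k
    · rw [pow_zero]; exact h1
    · rw [pow_one]; exact h2)
  rw [app_two_pow _ hk, code, getD_map g hk] at a
  unfold ok8
  rw [a]
  simp

theorem rT_word : rT = word [1, 2, 3] := by simp [rT, word, mul_assoc]

theorem mem_L4 {g : Sp62} (h4 : Commute g (tv 4)) (hT : Commute g rT) : pc g ∈ L4 := by
  refine mem_gen g (fun k hk => ?_) 6 le_rfl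
  have hr : ∀ n, rTn n = app (code rT) n := fun n => by
    rw [← app'_pc, ← pk_code, rT_word, code_word _ (by decide)]; rfl
  have key : rTn (e g k) = app' (pc g) (rTn (2 ^ k)) := by
    rw [app'_pc]
    refine vec_inj' (hr _ ▸ app_lt (code_lt _) _) (app_lt (code_lt g) _) ?_
    rw [← smul_app g (hr _ ▸ app_lt (code_lt _) _), hr, hr, ← smul_app rT (pow_two_lt hk),
      ← smul_app rT (e_lt g k), ← e_spec, smul_smul, smul_smul, hT.eq]
  have a4 : e g 2 = 4 := by
    have a := smul_of_commute (v := 2 ^ 2) (pow_two_lt (by norm_num)) h4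
    rwa [app_two_pow _ (by norm_num), code, getD_map g (by norm_num)] at a
  have hp : ∀ j, fld (pc g) j = fld (pref g 6) j := fun _ => rfl
  unfold ok4
  rw [key, show pref g k + e g k * 64 ^ k = pref g (k + 1) from rfl, app'_eq, app'_eq]
  interval_cases k
  · rw [show rTn (2 ^ 0) = 2 ^ 0 by decide +kernel]; simp [hp, fld_pref, Nat.testBit_eq_decide_div_mod_eq]
  · rw [show rTn (2 ^ 1) = 2 ^ 1 by decide +kernel]; simp [hp, fld_pref, Nat.testBit_eq_decide_div_mod_eq]
  · rw [show rTn (2 ^ 2) = 2 ^ 2 by decide +kernel]; simp [hp, fld_pref, a4, Nat.testBit_eq_decide_div_mod_eq]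
  · rw [show rTn (2 ^ 3) = 10 by decide +kernel]; simp [hp, fld_pref, Nat.testBit_eq_decide_div_mod_eq]
  · rw [show rTn (2 ^ 4) = 17 by decide +kernel]; simp [hp, fld_pref, Nat.testBit_eq_decide_div_mod_eq]
  · rw [show rTn (2 ^ 5) = 2 ^ 5 by decide +kernel]; simp [hp, fld_pref, Nat.testBit_eq_decide_div_mod_eq]

/-- The order-three words used. -/
def x8 : List ℕ := [4, 32]

/-- The order-three word in the centraliser of `⟨t₄, rT⟩`. -/
def x4 : List ℕ := [2, 8, 10, 1, 16, 17]

/-- An involution of the radical. -/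
def y8 : List ℕ := [1, 32, 33]

/-- An involution inverting `word x4`. -/
def s4 : List ℕ := [2, 8, 10]

/-- Words for the elements of `⟨t₁, t₂, t₃⟩`. -/
def Z8 : List (List ℕ) := [[], [1], [2], [3], [1, 2], [1, 3], [2, 3], [1, 2, 3]]

/-- Words for the elements of `⟨t₄, rT⟩`. -/
def Z4 : List (List ℕ) := [[], [4], [1, 2, 3], [4, 1, 2, 3]]

/-- The three powers. -/
def pows (x : List ℕ) : List (List ℕ) := [[], x, x ++ x]

/-- The packed identity. -/
def base' : ℕ := 1 + 2 * 64 + 4 * 4096 + 8 * 262144 + 16 * 16777216 + 32 * 1073741824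

/-- Twenty-fourth power. -/
def p24 (a : ℕ) : ℕ :=
  (fun b => comp' b b) ((fun b => comp' b b) ((fun b => comp' b b) (comp' (comp' a a) a)))

theorem pc_one : pc 1 = base' := by rw [← pk_code, code_one]; rfl

theorem pc_word (w : List ℕ) (h : ∀ v ∈ w, v < 64) : pc (word w) = pk (codeW w) := by
  rw [← pk_code, code_word w h]

theorem pc_pow3 (g : Sp62) : pc (g ^ 3) = comp' (comp' (pc g) (pc g)) (pc g) := by
  rw [pow_three', pc_mul, pc_mul]

theorem pc_pow24 (g : Sp62) : pc (g ^ 24) = p24 (pc g) := by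
  rw [show g ^ 24 = (((g ^ 3) ^ 2) ^ 2) ^ 2 by simp [← pow_mul], pow_two, pc_mul, pow_two, pc_mul,
    pow_two, pc_mul, pc_pow3]
  rfl

theorem L8_facts : ∀ a ∈ L8, p24 a = base' ∧
    (comp' a (pk (codeW x8)) = comp' (pk (codeW x8)) a →
      a ∈ (pows x8).flatMap fun u => Z8.map fun z => pk (codeW (u ++ z))) ∧
    (comp' (comp' a a) a = base' → a = base' ∨
      (fun b => comp' (comp' b b) b)
        (comp' a (comp' (pk (codeW y8)) (comp' a (comp' a (pk (codeW y8)))))) ≠ base') := by
  decide +kernel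

theorem L4_facts : ∀ a ∈ L4, p24 a = base' ∧
    (comp' a (pk (codeW x4)) = comp' (pk (codeW x4)) a →
      a ∈ (pows x4).flatMap fun u => Z4.map fun z => pk (codeW (u ++ z))) := by
  decide +kernel

theorem pow24_eight {g : Sp62} (h1 : Commute g (tv 1)) (h2 : Commute g (tv 2)) : g ^ 24 = 1 :=
  code_of_pc (by rw [pc_pow24, pc_one, (L8_facts _ (mem_L8 h1 h2)).1])

theorem pow24_four {g : Sp62} (h4 : Commute g (tv 4)) (hT : Commute g rT) : g ^ 24 = 1 :=
  code_of_pc (by rw [pc_pow24, pc_one, (L4_facts _ (mem_L4 h4 hT)).1])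

theorem split_of_mem {g : Sp62} {x : List ℕ} {Z : List (List ℕ)} (hx : ∀ v ∈ x, v < 64)
    (hZ : ∀ z ∈ Z, ∀ v ∈ z, v < 64)
    (h : pc g ∈ (pows x).flatMap fun u => Z.map fun z => pk (codeW (u ++ z))) :
    ∃ i : ℕ, ∃ z ∈ Z, g = word x ^ i * word z := by
  obtain ⟨u, hu, h'⟩ := List.mem_flatMap.1 h
  obtain ⟨z, hz, hg⟩ := List.mem_map.1 h'
  have hul : ∀ v ∈ u, v < 64 := by
    simp [pows] at hu
    rcases hu with rfl | rfl | rfl
    · simp
    · exact hx
    · simpa using hx
  have hgu : g = word u * word z := by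
    rw [← word_append]
    refine code_of_pc (hg.symm.trans (pc_word _ ?_).symm)
    intro v hv
    rcases List.mem_append.1 hv with hv | hv
    · exact hul v hv
    · exact hZ z hz v hv
  simp [pows] at hu
  rcases hu with rfl | rfl | rfl
  · exact ⟨0, z, hz, by rw [hgu, pow_zero]; rfl⟩
  · exact ⟨1, z, hz, by rw [hgu, pow_one]⟩
  · exact ⟨2, z, hz, by rw [hgu, word_append, sq]⟩

theorem cent_eight {g : Sp62} (h1 : Commute g (tv 1)) (h2 : Commute g (tv 2))
    (hx : Commute g (word x8)) : ∃ i : ℕ, ∃ z ∈ Z8, g = word x8 ^ i * word z :=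
  split_of_mem (by decide) (by decide) ((L8_facts _ (mem_L8 h1 h2)).2.1
    (by rw [← pc_word x8 (by decide), ← pc_mul, ← pc_mul, hx.eq]))

theorem cent_four {g : Sp62} (h4 : Commute g (tv 4)) (hT : Commute g rT)
    (hx : Commute g (word x4)) : ∃ i : ℕ, ∃ z ∈ Z4, g = word x4 ^ i * word z :=
  split_of_mem (by decide) (by decide) ((L4_facts _ (mem_L4 h4 hT)).2
    (by rw [← pc_word x4 (by decide), ← pc_mul, ← pc_mul, hx.eq]))

theorem three_eight {g : Sp62} (h1 : Commute g (tv 1)) (h2 : Commute g (tv 2)) (h3 : g ^ 3 = 1)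
    (hg : g ≠ 1) : (g * word y8 * g⁻¹ * (word y8)⁻¹) ^ 3 ≠ 1 := by
  intro hc
  have hy : (word y8)⁻¹ = word y8 := inv_eq_of_mul_eq_one_right (by
    rw [← word_append]; exact word_eq (b := []) (by decide) (by decide) (by decide +kernel))
  have hgi : g⁻¹ = g * g := inv_eq_of_mul_eq_one_right (by
    rw [← mul_assoc, ← pow_three', h3])
  rw [hy, hgi] at hc
  rcases (L8_facts _ (mem_L8 h1 h2)).2.2 (by rw [← pc_pow3, h3, pc_one]) with h | h
  · exact hg (code_of_pc (h.trans pc_one.symm))
  · refine h ?_
    rw [← pc_word y8 (by decide), ← pc_mul, ← pc_mul, ← pc_mul, ← pc_mul, ← pc_one]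
    dsimp only
    rw [← pc_pow3]
    simpa [mul_assoc] using congrArg pc hc

/-- The six generators of `lagU` used. -/
def ubits (n : ℕ) : List ℕ := ([1, 2, 4, 3, 5, 6] : List ℕ).zipIdx.filterMap
  fun p => if n.testBit p.2 then some p.1 else none

theorem ubits_ok : ∀ n : Fin 64, ∀ v ∈ ubits n.val, v < 8 := by decide +kernel

theorem ubits_inj : ∀ m n : Fin 64, codeW (ubits m.val) = codeW (ubits n.val) → m = n := by
  decide +kernel

theorem tv_mem_lagU {v : ℕ} (hv : v < 8) : tv v ∈ lagU :=
  Subgroup.subset_closure ⟨⟨v, hv⟩, rfl⟩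

theorem word_mem_lagU : ∀ (w : List ℕ), (∀ v ∈ w, v < 8) → word w ∈ lagU
  | [], _ => lagU.one_mem
  | v :: w, h => by
    rw [word, List.map_cons, List.prod_cons]
    exact lagU.mul_mem (tv_mem_lagU (h v List.mem_cons_self))
      (word_mem_lagU w fun u hu => h u (List.mem_cons_of_mem _ hu))

theorem card_lagU_ge : 64 ≤ Nat.card lagU := by
  let f : Fin 64 → lagU := fun n => ⟨word (ubits n.val), word_mem_lagU _ (ubits_ok n)⟩
  have hf : Function.Injective f := fun m n h => ubits_inj m n (by
    have h' : word (ubits m.val) = word (ubits n.val) := congrArg Subtype.val h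
    rw [← code_word, ← code_word, h'] <;>
      exact fun v hv => lt_trans (ubits_ok _ v hv) (by norm_num))
  simpa using Nat.card_le_card_of_injective f hf

theorem lag_comm : ∀ a b : Fin 8, codeW [a.val, b.val] = codeW [b.val, a.val] := by decide +kernel

theorem tv_commute {a b : ℕ} (ha : a < 8) (hb : b < 8) : Commute (tv a) (tv b) := by
  have := commute_word (a := [a]) (b := [b]) (by simpa using by omega) (by simpa using by omega)
    (lag_comm ⟨a, ha⟩ ⟨b, hb⟩)
  simpa [word] using this

theorem lagU_commute {x : Sp62} (hx : x ∈ lagU) {n : ℕ} (hn : n < 8) : Commute x (tv n) := by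
  induction hx using Subgroup.closure_induction with
  | mem a ha => obtain ⟨k, rfl⟩ := ha; exact tv_commute k.isLt hn
  | one => exact Commute.one_left _
  | mul a b _ _ p q => exact p.mul_left q
  | inv a _ p => exact p.inv_left

theorem lagU_sq {x : Sp62} (hx : x ∈ lagU) : x * x = 1 := by
  induction hx using Subgroup.closure_induction with
  | mem a ha =>
    obtain ⟨k, rfl⟩ := ha
    have : word [k.val, k.val] = word [] := word_eq
      (by simpa using lt_trans k.isLt (by norm_num)) (by decide) (by revert k; decide +kernel)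
    simpa [word] using this
  | one => exact one_mul 1
  | mul a b ha hb p q =>
    have hab : Commute a b := by
      clear p q
      induction hb using Subgroup.closure_induction with
      | mem c hc => obtain ⟨k, rfl⟩ := hc; exact lagU_commute ha k.isLt
      | one => exact Commute.one_right _
      | mul c d _ _ p q => exact p.mul_right q
      | inv c _ p => exact p.inv_right
    calc a * b * (a * b) = a * (b * a) * b := by simp [mul_assoc]
      _ = a * (a * b) * b := by rw [hab.eq]
      _ = (a * a) * (b * b) := by simp [mul_assoc]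
      _ = 1 := by rw [p, q, one_mul]
  | inv a _ p => rw [← mul_inv_rev, p, inv_one]

theorem rT_invariant : ∀ w : Fin 64, w.val ≠ 0 → w.val ≠ 3 →
    ∃ v : Fin 64, frm v.val (app (codeW [1, 2, w.val]) v.val) = true := by decide +kernel

theorem rT_alternating : ∀ v : Fin 64, frm v.val (app (codeW [1, 2, 3]) v.val) = false := by
  decide +kernel

/-- If `t₁ t₂ t_w` is conjugate to `rT` then `w = x₁ + x₂`. -/
theorem eq_three_of_conj {w : ℕ} (hw : w < 64) (hw0 : w ≠ 0) {h : Sp62}
    (hh : h * word [1, 2, 3] * h⁻¹ = word [1, 2, w]) : w = 3 := by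
  by_contra hne
  obtain ⟨v, hv⟩ := rT_invariant ⟨w, hw⟩ hw0 hne
  have hl : ∀ u ∈ ([1, 2, w] : List ℕ), u < 64 := by simpa using hw
  have key : sympForm 3 (ZMod 2) (vec v.val) (word [1, 2, w] • vec v.val) = 0 := by
    rw [← hh, mul_smul, mul_smul]
    obtain ⟨u, hu, hu'⟩ := exists_code (h⁻¹ • vec v.val)
    rw [hu', ← smul_inv_smul h (vec v.val), hu', form_map, smul_app _ hu,
      code_word _ (by decide), form_ok ⟨u, hu⟩ ⟨_, app_lt (by decide +kernel) u⟩]
    simp [rT_alternating ⟨u, hu⟩]
  rw [smul_app _ v.isLt, code_word _ hl] at key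
  have hlt : app (codeW [1, 2, w]) v.val < 64 := by
    rw [← code_word _ hl]; exact app_lt (code_lt _) _
  rw [form_ok v ⟨_, hlt⟩, hv] at key
  simp at key

end Cfsg.Agent.Sp62Three31.PairsCalc
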