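import Cfsg.Agent.Lib.SpCommCrit4

/-!
# Similar pairs `Y`, `Σ Y` for the Gauss criterion

`Good f σ`: an invertible matrix `Y` with `Σ Y` similar to `Y`, `f(Y) = 0` and `f(Y⁻¹)` invertible.
-/

set_option autoImplicit false
set_option linter.unusedSectionVars false

namespace Cfsg.Agent.SpComm4

open LinearMap Module Polynomial Matrix

variable {F : Type*} [Field F]

/-- A certificate for sign vector `σ` and polynomial `f`. -/
def Good (f : F[X]) {ι : Type*} [Fintype ι] [DecidableEq ι] (σ : ι → F) : Prop :=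
  ∃ Y Z d d' : Matrix ι ι F, Z * Y = 1 ∧ d' * d = 1 ∧ d * Y = Matrix.diagonal σ * Y * d ∧
    aeval Y f = 0 ∧ IsUnit (aeval Z f)

/-- The sign vector with `a` ones and `b` minus ones. -/
def signs (F : Type*) [Field F] (a b : ℕ) : Fin a ⊕ Fin b → F := Sum.elim (fun _ => 1) fun _ => -1

/-- A certificate for `a` ones and `b` minus ones. -/
def GoodN (f : F[X]) (a b : ℕ) : Prop := Good f (signs F a b)

section ops

variable {f : F[X]} {ι κ : Type*} [Fintype ι] [DecidableEq ι] [Fintype κ] [DecidableEq κ]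

theorem aeval_fromBlocks (A : Matrix ι ι F) (D : Matrix κ κ F) (p : F[X]) :
    aeval (fromBlocks A 0 0 D) p = fromBlocks (aeval A p) 0 0 (aeval D p) := by
  induction p using Polynomial.induction_on' with
  | add p q hp hq => simp [hp, hq, fromBlocks_add]
  | monomial n c =>
    simp only [aeval_monomial, fromBlocks_diagonal_pow, Algebra.algebraMap_eq_smul_one,
      smul_mul_assoc, one_mul, fromBlocks_smul, smul_zero]

theorem Good.sum {σ : ι → F} {τ : κ → F} (h : Good f σ) (h' : Good f τ) :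
    Good f (Sum.elim σ τ) := by
  obtain ⟨Y, Z, d, d', h1, h2, h3, h4, h5⟩ := h
  obtain ⟨Y', Z', e, e', k1, k2, k3, k4, k5⟩ := h'
  refine ⟨fromBlocks Y 0 0 Y', fromBlocks Z 0 0 Z', fromBlocks d 0 0 e, fromBlocks d' 0 0 e',
    ?_, ?_, ?_, ?_, ?_⟩
  · simp [fromBlocks_multiply, h1, k1]
  · simp [fromBlocks_multiply, h2, k2]
  · rw [← fromBlocks_diagonal]
    simp [fromBlocks_multiply, h3, k3, -fromBlocks_diagonal]
  · simp [aeval_fromBlocks, h4, k4]
  · rw [aeval_fromBlocks, isUnit_fromBlocks_zero₂₁]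
    exact ⟨h5, k5⟩

theorem Good.reindex {σ : ι → F} (h : Good f σ) (e : κ ≃ ι) : Good f (σ ∘ e) := by
  obtain ⟨Y, Z, d, d', h1, h2, h3, h4, h5⟩ := h
  set φ := Matrix.reindexAlgEquiv F F e.symm
  refine ⟨φ Y, φ Z, φ d, φ d', ?_, ?_, ?_, ?_, ?_⟩
  · rw [← map_mul, h1, map_one]
  · rw [← map_mul, h2, map_one]
  · have hd : φ (Matrix.diagonal σ) = Matrix.diagonal (σ ∘ e) := by
      simp only [φ, Matrix.reindexAlgEquiv_apply, Matrix.reindex_apply, Equiv.symm_symm,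
        Matrix.submatrix_diagonal_equiv]
    rw [← hd, ← map_mul, ← map_mul, ← map_mul, h3]
  · rw [aeval_algHom_apply, h4, map_zero]
  · rw [aeval_algHom_apply]
    exact h5.map φ

theorem Good.map {K L : Type*} [Field K] [Field L] {f : K[X]} {σ : ι → K} (h : Good f σ)
    (φ : K →+* L) : Good (f.map φ) (φ ∘ σ) := by
  obtain ⟨Y, Z, d, d', h1, h2, h3, h4, h5⟩ := h
  have hev : ∀ (A : Matrix ι ι K) (p : K[X]),
      aeval (φ.mapMatrix A) (p.map φ) = φ.mapMatrix (aeval A p) := by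
    intro A p
    induction p using Polynomial.induction_on' with
    | add p q hp hq => simp only [Polynomial.map_add, map_add, hp, hq]
    | monomial n c =>
      simp only [Polynomial.map_monomial, aeval_monomial, map_mul, map_pow,
        Algebra.algebraMap_eq_smul_one]
      congr 1
      ext i k
      simp [RingHom.mapMatrix_apply, Matrix.one_apply, apply_ite φ]
  refine ⟨φ.mapMatrix Y, φ.mapMatrix Z, φ.mapMatrix d, φ.mapMatrix d', ?_, ?_, ?_, ?_, ?_⟩
  · rw [← map_mul, h1, map_one]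
  · rw [← map_mul, h2, map_one]
  · have hd : φ.mapMatrix (Matrix.diagonal σ) = Matrix.diagonal (φ ∘ σ) := by
      simp [RingHom.mapMatrix_apply, Matrix.diagonal_map, Function.comp_def]
    rw [← hd, ← map_mul, ← map_mul, ← map_mul, h3]
  · rw [hev, h4, map_zero]
  · rw [hev]
    exact h5.map φ.mapMatrix

theorem GoodN.add {a b c d : ℕ} (h : GoodN f a b) (h' : GoodN f c d) :
    GoodN f (a + c) (b + d) := by
  have := (Good.sum h h').reindex ((Equiv.sumCongr finSumFinEquiv finSumFinEquiv).symm.trans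
    (Equiv.sumSumSumComm (Fin a) (Fin c) (Fin b) (Fin d)))
  unfold GoodN
  convert this using 1
  funext x
  rcases x with i | i
  all_goals
    obtain ⟨i, rfl⟩ := finSumFinEquiv.surjective i
    rcases i with i | i <;> simp [signs]

theorem goodN_zero (f : F[X]) : GoodN f 0 0 :=
  ⟨1, 1, 1, 1, by simp, by simp, Subsingleton.elim _ _, Subsingleton.elim _ _,
    isUnit_of_subsingleton _⟩

theorem GoodN.map {K L : Type*} [Field K] [Field L] {f : K[X]} {a b : ℕ} (h : GoodN f a b)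
    (φ : K →+* L) : GoodN (f.map φ) a b := by
  have := Good.map h φ
  unfold GoodN
  convert this using 1
  funext x
  rcases x with i | i <;> simp [signs]

/-- A certificate given on `Fin (a + b)`. -/
theorem goodN_of_matrix (a b : ℕ) (f : F[X]) (Y Z d d' : Matrix (Fin (a + b)) (Fin (a + b)) F)
    (h1 : Z * Y = 1) (h2 : d' * d = 1)
    (h3 : d * Y = Matrix.diagonal (fun i : Fin (a + b) => if (i : ℕ) < a then 1 else -1) * Y * d)
    (h4 : aeval Y f = 0) (h5 : IsUnit (aeval Z f)) : GoodN f a b := by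
  have := Good.reindex (⟨Y, Z, d, d', h1, h2, h3, h4, h5⟩ :
    Good f fun i : Fin (a + b) => if (i : ℕ) < a then (1 : F) else -1) finSumFinEquiv
  unfold GoodN
  convert this using 1
  funext x
  rcases x with i | i <;> simp [signs]

end ops

/-- Blocks exist in all needed sizes. -/
theorem goodN_of_blocks {f : F[X]} (a b : ℕ) (h : GoodN f a b) (k : ℕ) :
    GoodN f (k * a) (k * b) := by
  induction k with
  | zero => simpa using goodN_zero f
  | succ k ih => rw [add_one_mul, add_one_mul]; exact ih.add h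

/-! ### Small fields -/

/-- The polynomial for two elements. -/
noncomputable def twoPoly : (ZMod 2)[X] :=
  (X ^ 3 + X + 1) * (X ^ 4 + X + 1) * (X ^ 5 + X ^ 2 + 1)

/-- The polynomial for three elements. -/
noncomputable def threePoly : (ZMod 3)[X] :=
  (X ^ 2 + X - 1) * (X ^ 3 - X + 1) * (X ^ 4 + X ^ 3 + X ^ 2 + 1)

theorem two3Block : GoodN (twoPoly) 3 0 := by
  refine goodN_of_matrix 3 0 _ (!![0, 0, 1; 1, 0, 1; 0, 1, 0] : Matrix (Fin 3) (Fin 3) (ZMod 2))
    (!![1, 1, 0; 0, 0, 1; 1, 0, 0] : Matrix (Fin 3) (Fin 3) (ZMod 2))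
    (!![1, 0, 0; 0, 1, 0; 0, 0, 1] : Matrix (Fin 3) (Fin 3) (ZMod 2))
    (!![1, 0, 0; 0, 1, 0; 0, 0, 1] : Matrix (Fin 3) (Fin 3) (ZMod 2)) (by decide +kernel) (by decide +kernel) (by decide +kernel) ?_ ?_
  · simp only [twoPoly, map_mul, map_add, map_sub, map_pow, map_one, aeval_X, aeval_C]
    decide +kernel
  · simp only [twoPoly, map_mul, map_add, map_sub, map_pow, map_one, aeval_X, aeval_C]
    exact ((IsUnit.of_mul_eq_one (!![1, 1, 0; 0, 0, 1; 1, 0, 0] : Matrix (Fin 3) (Fin 3) (ZMod 2)) (by decide +kernel)).mul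
      (IsUnit.of_mul_eq_one (!![0, 1, 0; 0, 1, 1; 1, 0, 1] : Matrix (Fin 3) (Fin 3) (ZMod 2)) (by decide +kernel))).mul
      (IsUnit.of_mul_eq_one (!![1, 1, 0; 0, 0, 1; 1, 0, 0] : Matrix (Fin 3) (Fin 3) (ZMod 2)) (by decide +kernel))

theorem two4Block : GoodN (twoPoly) 4 0 := by
  refine goodN_of_matrix 4 0 _ (!![0, 0, 0, 1; 1, 0, 0, 1; 0, 1, 0, 0; 0, 0, 1, 0] : Matrix (Fin 4) (Fin 4) (ZMod 2))
    (!![1, 1, 0, 0; 0, 0, 1, 0; 0, 0, 0, 1; 1, 0, 0, 0] : Matrix (Fin 4) (Fin 4) (ZMod 2))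
    (!![1, 0, 0, 0; 0, 1, 0, 0; 0, 0, 1, 0; 0, 0, 0, 1] : Matrix (Fin 4) (Fin 4) (ZMod 2))
    (!![1, 0, 0, 0; 0, 1, 0, 0; 0, 0, 1, 0; 0, 0, 0, 1] : Matrix (Fin 4) (Fin 4) (ZMod 2)) (by decide +kernel) (by decide +kernel) (by decide +kernel) ?_ ?_
  · simp only [twoPoly, map_mul, map_add, map_sub, map_pow, map_one, aeval_X, aeval_C]
    decide +kernel
  · simp only [twoPoly, map_mul, map_add, map_sub, map_pow, map_one, aeval_X, aeval_C]
    exact ((IsUnit.of_mul_eq_one (!![0, 0, 1, 1; 1, 0, 1, 0; 1, 1, 0, 1; 0, 1, 1, 0] : Matrix (Fin 4) (Fin 4) (ZMod 2)) (by decide +kernel)).mul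
      (IsUnit.of_mul_eq_one (!![1, 0, 1, 1; 1, 1, 1, 0; 1, 1, 1, 1; 0, 1, 1, 1] : Matrix (Fin 4) (Fin 4) (ZMod 2)) (by decide +kernel))).mul
      (IsUnit.of_mul_eq_one (!![1, 0, 1, 0; 0, 1, 1, 1; 1, 0, 1, 1; 0, 1, 0, 1] : Matrix (Fin 4) (Fin 4) (ZMod 2)) (by decide +kernel))

theorem two5Block : GoodN (twoPoly) 5 0 := by
  refine goodN_of_matrix 5 0 _ (!![0, 0, 0, 0, 1; 1, 0, 0, 0, 0; 0, 1, 0, 0, 1; 0, 0, 1, 0, 0; 0, 0, 0, 1, 0] : Matrix (Fin 5) (Fin 5) (ZMod 2))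
    (!![0, 1, 0, 0, 0; 1, 0, 1, 0, 0; 0, 0, 0, 1, 0; 0, 0, 0, 0, 1; 1, 0, 0, 0, 0] : Matrix (Fin 5) (Fin 5) (ZMod 2))
    (!![1, 0, 0, 0, 0; 0, 1, 0, 0, 0; 0, 0, 1, 0, 0; 0, 0, 0, 1, 0; 0, 0, 0, 0, 1] : Matrix (Fin 5) (Fin 5) (ZMod 2))
    (!![1, 0, 0, 0, 0; 0, 1, 0, 0, 0; 0, 0, 1, 0, 0; 0, 0, 0, 1, 0; 0, 0, 0, 0, 1] : Matrix (Fin 5) (Fin 5) (ZMod 2)) (by decide +kernel) (by decide +kernel) (by decide +kernel) ?_ ?_
  · simp only [twoPoly, map_mul, map_add, map_sub, map_pow, map_one, aeval_X, aeval_C]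
    decide +kernel
  · simp only [twoPoly, map_mul, map_add, map_sub, map_pow, map_one, aeval_X, aeval_C]
    exact ((IsUnit.of_mul_eq_one (!![1, 1, 0, 1, 0; 1, 1, 1, 0, 1; 1, 0, 1, 0, 0; 0, 1, 0, 1, 0; 1, 0, 1, 0, 1] : Matrix (Fin 5) (Fin 5) (ZMod 2)) (by decide +kernel)).mul
      (IsUnit.of_mul_eq_one (!![1, 1, 0, 0, 1; 0, 1, 1, 0, 0; 0, 1, 1, 1, 1; 0, 0, 1, 1, 1; 1, 0, 0, 1, 1] : Matrix (Fin 5) (Fin 5) (ZMod 2)) (by decide +kernel))).mul
      (IsUnit.of_mul_eq_one (!![1, 1, 1, 0, 0; 1, 1, 1, 1, 0; 0, 0, 0, 1, 1; 1, 0, 0, 0, 1; 1, 1, 0, 0, 0] : Matrix (Fin 5) (Fin 5) (ZMod 2)) (by decide +kernel))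

theorem three2Block : GoodN (threePoly) 2 0 := by
  refine goodN_of_matrix 2 0 _ (!![0, 1; 1, 2] : Matrix (Fin 2) (Fin 2) (ZMod 3))
    (!![1, 1; 1, 0] : Matrix (Fin 2) (Fin 2) (ZMod 3))
    (!![1, 0; 0, 1] : Matrix (Fin 2) (Fin 2) (ZMod 3))
    (!![1, 0; 0, 1] : Matrix (Fin 2) (Fin 2) (ZMod 3)) (by decide +kernel) (by decide +kernel) (by decide +kernel) ?_ ?_
  · simp only [threePoly, map_mul, map_add, map_sub, map_pow, map_one, aeval_X, aeval_C]
    decide +kernel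
  · simp only [threePoly, map_mul, map_add, map_sub, map_pow, map_one, aeval_X, aeval_C]
    exact ((IsUnit.of_mul_eq_one (!![0, 2; 2, 1] : Matrix (Fin 2) (Fin 2) (ZMod 3)) (by decide +kernel)).mul
      (IsUnit.of_mul_eq_one (!![1, 1; 1, 0] : Matrix (Fin 2) (Fin 2) (ZMod 3)) (by decide +kernel))).mul
      (IsUnit.of_mul_eq_one (!![2, 0; 0, 2] : Matrix (Fin 2) (Fin 2) (ZMod 3)) (by decide +kernel))

theorem three3Block : GoodN (threePoly) 3 0 := by
  refine goodN_of_matrix 3 0 _ (!![0, 0, 2; 1, 0, 1; 0, 1, 0] : Matrix (Fin 3) (Fin 3) (ZMod 3))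
    (!![1, 1, 0; 0, 0, 1; 2, 0, 0] : Matrix (Fin 3) (Fin 3) (ZMod 3))
    (!![1, 0, 0; 0, 1, 0; 0, 0, 1] : Matrix (Fin 3) (Fin 3) (ZMod 3))
    (!![1, 0, 0; 0, 1, 0; 0, 0, 1] : Matrix (Fin 3) (Fin 3) (ZMod 3)) (by decide +kernel) (by decide +kernel) (by decide +kernel) ?_ ?_
  · simp only [threePoly, map_mul, map_add, map_sub, map_pow, map_one, aeval_X, aeval_C]
    decide +kernel
  · simp only [threePoly, map_mul, map_add, map_sub, map_pow, map_one, aeval_X, aeval_C]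
    exact ((IsUnit.of_mul_eq_one (!![2, 1, 0; 0, 1, 1; 2, 0, 1] : Matrix (Fin 3) (Fin 3) (ZMod 3)) (by decide +kernel)).mul
      (IsUnit.of_mul_eq_one (!![2, 2, 0; 0, 0, 2; 1, 0, 0] : Matrix (Fin 3) (Fin 3) (ZMod 3)) (by decide +kernel))).mul
      (IsUnit.of_mul_eq_one (!![2, 1, 2; 1, 1, 2; 2, 1, 1] : Matrix (Fin 3) (Fin 3) (ZMod 3)) (by decide +kernel))

theorem three12Block : GoodN (threePoly) 1 2 := by
  refine goodN_of_matrix 1 2 _ (!![0, 1, 0; 0, 0, 1; 2, 1, 0] : Matrix (Fin 3) (Fin 3) (ZMod 3))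
    (!![1, 0, 2; 1, 0, 0; 0, 1, 0] : Matrix (Fin 3) (Fin 3) (ZMod 3))
    (!![0, 2, 0; 0, 0, 2; 2, 1, 0] : Matrix (Fin 3) (Fin 3) (ZMod 3))
    (!![2, 0, 2; 2, 0, 0; 0, 2, 0] : Matrix (Fin 3) (Fin 3) (ZMod 3)) (by decide +kernel) (by decide +kernel) (by decide +kernel) ?_ ?_
  · simp only [threePoly, map_mul, map_add, map_sub, map_pow, map_one, aeval_X, aeval_C]
    decide +kernel
  · simp only [threePoly, map_mul, map_add, map_sub, map_pow, map_one, aeval_X, aeval_C]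
    exact ((IsUnit.of_mul_eq_one (!![2, 0, 2; 1, 1, 0; 0, 1, 1] : Matrix (Fin 3) (Fin 3) (ZMod 3)) (by decide +kernel)).mul
      (IsUnit.of_mul_eq_one (!![2, 0, 1; 2, 0, 0; 0, 2, 0] : Matrix (Fin 3) (Fin 3) (ZMod 3)) (by decide +kernel))).mul
      (IsUnit.of_mul_eq_one (!![2, 1, 2; 1, 1, 1; 2, 2, 1] : Matrix (Fin 3) (Fin 3) (ZMod 3)) (by decide +kernel))

theorem three22Block : GoodN (threePoly) 2 2 := by
  refine goodN_of_matrix 2 2 _ (!![1, 0, 0, 2; 0, 1, 1, 2; 2, 2, 0, 0; 0, 2, 0, 0] : Matrix (Fin 4) (Fin 4) (ZMod 3))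
    (!![0, 0, 2, 1; 0, 0, 0, 2; 2, 1, 2, 2; 2, 0, 2, 1] : Matrix (Fin 4) (Fin 4) (ZMod 3))
    (!![1, 1, 0, 0; 1, 2, 0, 0; 0, 0, 1, 2; 0, 0, 2, 2] : Matrix (Fin 4) (Fin 4) (ZMod 3))
    (!![2, 2, 0, 0; 2, 1, 0, 0; 0, 0, 2, 1; 0, 0, 1, 1] : Matrix (Fin 4) (Fin 4) (ZMod 3)) (by decide +kernel) (by decide +kernel) (by decide +kernel) ?_ ?_
  · simp only [threePoly, map_mul, map_add, map_sub, map_pow, map_one, aeval_X, aeval_C]
    decide +kernel
  · simp only [threePoly, map_mul, map_add, map_sub, map_pow, map_one, aeval_X, aeval_C]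
    exact ((IsUnit.of_mul_eq_one (!![0, 1, 2, 2; 2, 0, 2, 0; 0, 2, 2, 1; 2, 1, 1, 0] : Matrix (Fin 4) (Fin 4) (ZMod 3)) (by decide +kernel)).mul
      (IsUnit.of_mul_eq_one (!![1, 1, 0, 1; 2, 1, 2, 1; 1, 1, 1, 2; 0, 1, 2, 0] : Matrix (Fin 4) (Fin 4) (ZMod 3)) (by decide +kernel))).mul
      (IsUnit.of_mul_eq_one (!![0, 1, 0, 2; 2, 0, 1, 2; 2, 2, 1, 2; 0, 2, 2, 0] : Matrix (Fin 4) (Fin 4) (ZMod 3)) (by decide +kernel))

theorem goodN_two : ∀ a : ℕ, 3 ≤ a → GoodN twoPoly a 0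
  | a, ha => by
    by_cases h : a < 6
    · interval_cases a
      · exact two3Block
      · exact two4Block
      · exact two5Block
    · have := (goodN_two (a - 3) (by omega)).add two3Block
      rwa [Nat.sub_add_cancel (by omega)] at this

theorem goodN_three_plus : ∀ a : ℕ, a ≠ 1 → GoodN threePoly a 0
  | a, ha => by
    by_cases h : a < 4
    · interval_cases a
      · exact goodN_zero _
      · exact absurd rfl ha
      · exact three2Block
      · exact three3Block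
    · have := (goodN_three_plus (a - 2) (by omega)).add three2Block
      rwa [Nat.sub_add_cancel (by omega)] at this

theorem goodN_three (a j : ℕ) (hj : j ≤ a) (h : ¬ (a = 1 ∧ j = 0)) : GoodN threePoly a (2 * j) := by
  by_cases h1 : a - j = 1
  · have := (goodN_of_blocks 1 2 three12Block (j - 1)).add three22Block
    rwa [show (j - 1) * 1 + 2 = a by omega, show (j - 1) * 2 + 2 = 2 * j by omega] at this
  · have := (goodN_three_plus (a - j) h1).add (goodN_of_blocks 1 2 three12Block j)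
    rwa [show a - j + j * 1 = a by omega, show 0 + j * 2 = 2 * j by omega] at this

/-! ### Larger fields -/

theorem goodN_scalar {f : F[X]} {c : F} (hc : c ≠ 0) (h0 : f.eval c = 0) (h1 : f.eval c⁻¹ ≠ 0) :
    GoodN f 1 0 := by
  have hev : ∀ (p : F[X]) (t : F), aeval (Matrix.scalar (Fin (1 + 0)) t) p =
      Matrix.scalar (Fin (1 + 0)) (p.eval t) := fun p t => by
    induction p using Polynomial.induction_on' with
    | add p q hp hq => rw [map_add, eval_add, map_add, hp, hq]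
    | monomial n a =>
      rw [aeval_monomial, eval_monomial, map_mul, map_pow]
      rfl
  refine goodN_of_matrix 1 0 f (Matrix.scalar _ c) (Matrix.scalar _ c⁻¹) 1 1 ?_ (one_mul _) ?_ ?_ ?_
  · rw [← map_mul, inv_mul_cancel₀ hc, map_one]
  · rw [show (fun i : Fin (1 + 0) => if (i : ℕ) < 1 then (1 : F) else -1) = fun _ => 1 by
      funext i; simp [show (i : ℕ) < 1 from i.2], Matrix.diagonal_one]
    simp
  · rw [hev, h0, map_zero]
  · rw [hev]; exact (isUnit_iff_ne_zero.2 h1).map _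

/-- The polynomial for a nonsquare `δ` and a scalar `c`. -/
noncomputable def bigPoly (c δ : F) : F[X] := (X - C c) * (X ^ 2 - C δ)

theorem goodN_pair {c δ : F} (hc : c ≠ 0) (hδ : ¬ IsSquare δ) (h1 : δ ≠ -1) :
    GoodN (bigPoly c δ) 0 2 := by
  have hδ0 : δ ≠ 0 := by rintro rfl; exact hδ ⟨0, by simp⟩
  have hδ2 : δ⁻¹ ≠ δ := fun h => by
    have h2 : (δ - 1) * (δ + 1) = 0 := by
      have := mul_inv_cancel₀ hδ0
      rw [h] at this
      linear_combination this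
    rcases mul_eq_zero.1 h2 with h2 | h2
    · exact hδ ⟨1, by linear_combination h2⟩
    · exact h1 (by linear_combination h2)
  refine goodN_of_matrix 0 2 _ (!![0, δ; 1, 0] : Matrix (Fin 2) (Fin 2) F) !![0, 1; δ⁻¹, 0]
    !![1, 0; 0, -1] !![1, 0; 0, -1] ?_ ?_ ?_ ?_ ?_
  · ext i k; fin_cases i <;> fin_cases k <;> simp [Matrix.mul_apply, Fin.sum_univ_two, hδ0]
  · ext i k; fin_cases i <;> fin_cases k <;> simp [Matrix.mul_apply, Fin.sum_univ_two]
  · ext i k; fin_cases i <;> fin_cases k <;>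
      simp [Matrix.mul_apply, Fin.sum_univ_two, Matrix.diagonal]
  · simp only [bigPoly, map_mul, map_sub, map_pow, aeval_X, aeval_C]
    refine mul_eq_zero_of_right _ ?_
    ext i k; fin_cases i <;> fin_cases k <;>
      simp [pow_two, Matrix.mul_apply, Fin.sum_univ_two, Matrix.algebraMap_matrix_apply]
  · simp only [bigPoly, map_mul, map_sub, map_pow, aeval_X, aeval_C]
    refine IsUnit.mul ?_ ?_ <;> rw [Matrix.isUnit_iff_isUnit_det, isUnit_iff_ne_zero]
    · simp [Matrix.det_fin_two, Matrix.algebraMap_matrix_apply]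
      intro h
      exact hδ ⟨c⁻¹, by field_simp at h ⊢; linear_combination h⟩
    · simp [Matrix.det_fin_two, pow_two, Matrix.mul_apply, Fin.sum_univ_two,
        Matrix.algebraMap_matrix_apply, sub_eq_zero, hδ2]

theorem exists_sq_ne_one [Fintype F] (h : 4 ≤ Fintype.card F) : ∃ c : F, c ≠ 0 ∧ c ^ 2 ≠ 1 := by
  classical
  by_contra hcon
  push Not at hcon
  have hsub : (Finset.univ : Finset F) ⊆ {0, 1, -1} := fun c _ => by
    by_cases hc : c = 0
    · simp [hc]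
    · rcases sq_eq_one_iff.1 (hcon c hc) with h | h <;> simp [h]
  have h1 := Finset.card_le_card hsub
  have h2 : Finset.card ({0, 1, -1} : Finset F) ≤ 3 := Finset.card_le_three
  simp only [Finset.card_univ] at h1
  omega

theorem goodN_big [Fintype F] (h : 4 ≤ Fintype.card F) :
    ∃ f : F[X], ∀ a j : ℕ, ((2 : F) = 0 → j = 0) → GoodN f a (2 * j) := by
  obtain ⟨c, hc, hc2⟩ := exists_sq_ne_one h
  by_cases h2 : (2 : F) = 0
  · refine ⟨X - C c, fun a j hj => ?_⟩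
    rw [hj h2]
    have := goodN_of_blocks 1 0 (goodN_scalar (f := X - C c) hc (by simp) (by
      simp only [eval_sub, eval_X, eval_C, ne_eq, sub_eq_zero]
      intro he
      apply hc2
      rw [pow_two]
      nth_rw 1 [← he]
      exact inv_mul_cancel₀ hc)) a
    simpa using this
  · obtain ⟨δ, hδ, hδ1⟩ : ∃ δ : F, ¬ IsSquare δ ∧ δ ≠ -1 := by
      obtain ⟨δ, hδ⟩ := FiniteField.exists_nonsquare (F := F) (by
        intro hch
        apply h2
        have := ringChar.Nat.cast_ringChar (R := F)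
        rw [hch] at this
        exact_mod_cast this)
      by_cases hδ1 : δ = -1
      · refine ⟨-c ^ 2, fun ⟨t, ht⟩ => hδ ⟨t / c, ?_⟩, fun he => hc2 (neg_inj.1 he)⟩
        rw [hδ1]; field_simp; linear_combination ht
      · exact ⟨δ, hδ, hδ1⟩
    refine ⟨bigPoly c δ, fun a j _ => ?_⟩
    have hs : GoodN (bigPoly c δ) 1 0 := by
      refine goodN_scalar hc (by simp [bigPoly]) ?_
      simp only [bigPoly, eval_mul, eval_sub, eval_X, eval_C, eval_pow, mul_ne_zero_iff,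
        sub_ne_zero]
      exact ⟨fun he => hc2 (by rw [pow_two]; nth_rw 1 [← he]; exact inv_mul_cancel₀ hc),
        fun he => hδ ⟨c⁻¹, by rw [← he]; ring⟩⟩
    have := (goodN_of_blocks 1 0 hs a).add (goodN_of_blocks 0 2 (goodN_pair hc hδ hδ1) j)
    rwa [show a * 1 + j * 0 = a by omega, show a * 0 + j * 2 = 2 * j by omega] at this

/-! ### From certificates to commutators -/

variable {V : Type*} [AddCommGroup V] [Module F V] [FiniteDimensional F V]
variable {B : LinearMap.BilinForm F V}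

theorem comm_of_good [Finite F] (hB : SpForm B) {g : V ≃ₗ[F] V} (hg : g ∈ isoGroup B)
    {U Wp Wm : Submodule F V} (hU : ND B U) (hgU : ∀ x ∈ U, g x ∈ U) (D : Dia B g U Wp Wm)
    {f : F[X]} (h : GoodN f (finrank F Wp) (finrank F Wm)) : Comm B U g := by
  obtain ⟨Y, Z, d, d', h1, h2, h3, h4, h5⟩ := h
  set W := Wp ⊔ Wm
  set ι₁ := Submodule.inclusion (le_sup_left : Wp ≤ W)
  set ι₂ := Submodule.inclusion (le_sup_right : Wm ≤ W)
  have hbij : Function.Bijective (ι₁.coprod ι₂) := by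
    refine ⟨LinearMap.ker_eq_bot.1 ((Submodule.eq_bot_iff _).2 ?_), ?_⟩
    · rintro ⟨⟨a, ha⟩, ⟨b, hb⟩⟩ hab
      have h0 : a + b = 0 := congrArg Subtype.val (LinearMap.mem_ker.1 hab)
      have ha0 : a = 0 := Submodule.disjoint_def.1 D.disj a ha (by
        rw [eq_neg_of_add_eq_zero_left h0]; exact neg_mem hb)
      rw [ha0, zero_add] at h0
      ext <;> assumption
    · rintro ⟨x, hx⟩
      obtain ⟨a, ha, b, hb, rfl⟩ := Submodule.mem_sup.1 hx
      exact ⟨(⟨a, ha⟩, ⟨b, hb⟩), rfl⟩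
  set bas := ((Module.finBasis F Wp).prod (Module.finBasis F Wm)).map
    (LinearEquiv.ofBijective (ι₁.coprod ι₂) hbij)
  set Φ := Matrix.toLinAlgEquiv bas
  set S := Φ (Matrix.diagonal (signs F (finrank F Wp) (finrank F Wm)))
  have hsig : S * S = 1 := by
    simp only [S]
    rw [← map_mul, Matrix.diagonal_mul_diagonal, show (fun i => signs F (finrank F Wp)
      (finrank F Wm) i * signs F (finrank F Wp) (finrank F Wm) i) = fun _ => 1 by
        funext i; rcases i with i | i <;> simp [signs], Matrix.diagonal_one, map_one]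
  have hS : ∀ i, S (bas i) = signs F (finrank F Wp) (finrank F Wm) i • bas i := fun i => by
    simp only [S, Φ, Matrix.toLinAlgEquiv_self]
    rw [Finset.sum_eq_single i (fun k _ hk => by rw [Matrix.diagonal_apply_ne _ hk, zero_smul])
      (fun hi => absurd (Finset.mem_univ i) hi), Matrix.diagonal_apply_eq]
  have hSp : S.comp ι₁ = ι₁ := (Module.finBasis F Wp).ext fun i => by
    have := hS (Sum.inl i)
    simpa [bas, signs] using this
  have hSm : S.comp ι₂ = -ι₂ := (Module.finBasis F Wm).ext fun i => by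
    have := hS (Sum.inr i)
    simpa [bas, signs] using this
  have hY : Function.Bijective (Φ Y) :=
    (Module.End.isUnit_iff _).1 ((IsUnit.of_mul_eq_one_right Z h1).map Φ)
  set Y₂ := LinearEquiv.ofBijective (Φ Y) hY
  set Y₁ := Y₂.trans (LinearEquiv.ofBijective S ((Module.End.isUnit_iff S).1
    (IsUnit.of_mul_eq_one S hsig)))
  set dd := LinearEquiv.ofBijective (Φ d)
    ((Module.End.isUnit_iff _).1 ((IsUnit.of_mul_eq_one_right d' h2).map Φ))
  have hY₁ : ∀ a, Y₁ (Y₂.symm a) = S a := fun a => by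
    show S (Y₂ (Y₂.symm a)) = S a
    rw [Y₂.apply_symm_apply]
  have hZ : (Y₂.symm : W →ₗ[F] W) = Φ Z := LinearMap.ext fun a => by
    rw [LinearEquiv.coe_coe, LinearEquiv.symm_apply_eq]
    show a = (Φ Y * Φ Z) a
    rw [← map_mul, mul_eq_one_comm.1 h1, map_one, Module.End.one_apply]
  refine comm_of_data hB hg hU hgU D Y₁ Y₂ dd
    (fun a ha => by
      rw [hY₁, show a = ι₁ ⟨a, ha⟩ from Subtype.ext rfl, ← LinearMap.comp_apply, hSp])
    (fun a ha => by
      rw [hY₁, show a = ι₂ ⟨a, ha⟩ from Subtype.ext rfl, ← LinearMap.comp_apply, hSm]; rfl)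
    (fun a => ?_) f (fun a => ?_) fun a ha => ?_
  · show (Φ d * Φ Y) a = (S * Φ Y * Φ d) a
    rw [← map_mul, h3, map_mul, map_mul]
  · show aeval (Φ Y) f a = 0
    rw [aeval_algHom_apply, h4, map_zero, LinearMap.zero_apply]
  · rw [hZ, aeval_algHom_apply] at ha
    exact ((Module.End.isUnit_iff _).1 (h5.map Φ)).1 (ha.trans (map_zero _).symm)

end Cfsg.Agent.SpComm4
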