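import Cfsg.Agent.Lib.SpCommDec4
import Cfsg.Agent.Lib.SpCommGood4

/-!
# Every element of a finite symplectic group is a commutator
-/

set_option autoImplicit false
set_option linter.unusedSectionVars false

namespace Cfsg.Agent.SpComm4

open LinearMap Module Polynomial Matrix

/-- The standard form in dimension four over three elements. -/
def J4 : Matrix (Fin 4) (Fin 4) (ZMod 3) := !![0, 1, 0, 0; 2, 0, 0, 0; 0, 0, 0, 1; 0, 0, 2, 0]

/-- The element with block `g₀` and a block `-1`. -/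
def G4 (a b c d : ZMod 3) : Matrix (Fin 4) (Fin 4) (ZMod 3) :=
  !![a, b, 0, 0; c, d, 0, 0; 0, 0, 2, 0; 0, 0, 0, 2]

/-- Commutator witnesses for the elements `G4 a b c d`. -/
def spTable : List ((ZMod 3 × ZMod 3 × ZMod 3 × ZMod 3) × Matrix (Fin 4) (Fin 4) (ZMod 3) ×
    Matrix (Fin 4) (Fin 4) (ZMod 3)) := [
  ((0, 1, 2, 0), !![1, 0, 1, 2; 1, 0, 0, 1; 0, 2, 2, 2; 1, 0, 0, 0],
    !![2, 1, 1, 1; 0, 2, 2, 2; 2, 0, 1, 0; 0, 0, 1, 1]),
  ((0, 1, 2, 1), !![0, 1, 2, 2; 1, 0, 1, 2; 0, 2, 2, 2; 2, 2, 0, 1],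
    !![2, 1, 2, 0; 0, 0, 1, 2; 0, 1, 1, 2; 2, 2, 1, 2]),
  ((0, 1, 2, 2), !![0, 0, 1, 1; 1, 0, 2, 0; 1, 0, 0, 0; 2, 1, 1, 1],
    !![0, 2, 1, 2; 2, 2, 1, 1; 0, 2, 2, 1; 2, 2, 2, 2]),
  ((0, 2, 1, 0), !![0, 2, 0, 0; 1, 2, 0, 0; 0, 0, 2, 1; 0, 0, 1, 1],
    !![2, 0, 0, 0; 2, 2, 0, 0; 0, 0, 2, 2; 0, 0, 2, 1]),
  ((0, 2, 1, 1), !![2, 0, 2, 2; 0, 1, 2, 0; 1, 2, 1, 2; 0, 2, 2, 0],
    !![1, 0, 2, 0; 2, 1, 2, 0; 1, 1, 2, 1; 1, 1, 1, 1]),
  ((0, 2, 1, 2), !![2, 1, 2, 2; 2, 0, 1, 1; 0, 0, 2, 2; 2, 2, 2, 1],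
    !![1, 1, 1, 1; 2, 1, 1, 0; 0, 1, 2, 1; 1, 1, 2, 2]),
  ((1, 0, 0, 1), !![1, 2, 2, 1; 2, 0, 1, 0; 1, 0, 1, 0; 1, 2, 1, 2],
    !![1, 1, 0, 0; 1, 2, 0, 0; 0, 0, 1, 1; 0, 0, 1, 2]),
  ((1, 0, 1, 1), !![0, 1, 2, 2; 2, 1, 2, 2; 0, 0, 2, 2; 1, 0, 0, 2],
    !![0, 2, 0, 1; 0, 1, 2, 1; 0, 2, 0, 0; 1, 0, 1, 1]),
  ((1, 0, 2, 1), !![2, 1, 2, 0; 2, 1, 1, 2; 2, 2, 2, 2; 2, 1, 0, 0],
    !![1, 2, 2, 1; 2, 0, 2, 2; 1, 2, 1, 2; 2, 0, 1, 1]),
  ((1, 1, 0, 1), !![2, 1, 2, 1; 1, 0, 2, 2; 2, 1, 1, 2; 0, 1, 2, 0],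
    !![0, 2, 1, 0; 2, 2, 0, 2; 2, 1, 2, 1; 1, 0, 2, 2]),
  ((1, 1, 1, 2), !![2, 0, 1, 0; 1, 2, 1, 0; 1, 1, 0, 1; 2, 2, 2, 2],
    !![0, 2, 2, 1; 1, 2, 2, 1; 2, 0, 2, 0; 2, 0, 0, 2]),
  ((1, 1, 2, 0), !![2, 1, 2, 2; 0, 0, 1, 0; 2, 2, 1, 0; 1, 0, 1, 0],
    !![0, 2, 0, 2; 1, 0, 0, 0; 1, 0, 2, 0; 2, 0, 1, 2]),
  ((1, 2, 0, 1), !![0, 2, 0, 0; 1, 0, 1, 2; 0, 0, 1, 2; 0, 2, 0, 1],
    !![0, 2, 2, 2; 2, 1, 1, 2; 1, 2, 1, 2; 0, 2, 1, 1]),
  ((1, 2, 1, 0), !![0, 1, 1, 0; 1, 0, 2, 2; 2, 0, 2, 2; 1, 1, 0, 1],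
    !![0, 1, 2, 2; 1, 1, 2, 0; 1, 0, 0, 2; 1, 2, 2, 1]),
  ((1, 2, 2, 2), !![2, 2, 1, 2; 2, 0, 1, 1; 0, 2, 0, 2; 2, 1, 2, 0],
    !![0, 0, 0, 2; 0, 1, 1, 2; 0, 1, 0, 0; 2, 2, 0, 2]),
  ((2, 0, 0, 2), !![0, 1, 2, 0; 1, 2, 0, 1; 1, 0, 1, 2; 0, 2, 2, 0],
    !![0, 0, 2, 0; 0, 0, 1, 2; 2, 0, 0, 0; 2, 2, 0, 0]),
  ((2, 0, 1, 2), !![2, 2, 0, 2; 0, 1, 2, 2; 1, 1, 0, 2; 0, 2, 2, 2],
    !![0, 1, 1, 2; 2, 0, 1, 2; 1, 1, 1, 0; 2, 2, 1, 1]),
  ((2, 0, 2, 2), !![1, 0, 2, 2; 2, 0, 0, 2; 1, 1, 1, 2; 1, 2, 2, 1],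
    !![1, 0, 1, 2; 0, 2, 2, 0; 2, 1, 0, 2; 0, 1, 2, 0]),
  ((2, 1, 0, 2), !![2, 1, 1, 1; 0, 1, 2, 1; 2, 0, 1, 0; 2, 1, 2, 2],
    !![1, 1, 1, 1; 0, 2, 2, 1; 2, 2, 1, 1; 2, 0, 0, 2]),
  ((2, 1, 1, 1), !![1, 0, 0, 1; 2, 0, 2, 1; 2, 2, 2, 2; 1, 0, 0, 0],
    !![0, 0, 2, 2; 0, 0, 0, 2; 0, 1, 0, 0; 2, 2, 0, 0]),
  ((2, 1, 2, 0), !![1, 2, 2, 1; 1, 2, 0, 2; 2, 0, 1, 1; 1, 2, 0, 0],
    !![0, 0, 1, 0; 2, 2, 0, 1; 1, 1, 0, 0; 0, 1, 2, 0]),
  ((2, 2, 0, 2), !![1, 1, 1, 2; 0, 0, 1, 0; 0, 1, 2, 0; 2, 0, 2, 0],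
    !![1, 2, 1, 0; 2, 2, 1, 0; 1, 0, 0, 2; 1, 0, 1, 2]),
  ((2, 2, 1, 0), !![1, 1, 1, 2; 1, 0, 1, 1; 1, 0, 2, 2; 2, 2, 1, 2],
    !![0, 2, 2, 2; 0, 0, 0, 2; 1, 2, 0, 1; 1, 0, 0, 1]),
  ((2, 2, 2, 1), !![2, 2, 0, 1; 0, 1, 1, 1; 1, 2, 2, 0; 0, 2, 1, 1],
    !![0, 0, 1, 0; 2, 1, 1, 1; 0, 1, 2, 0; 2, 2, 2, 0])]

theorem spTable_spec : ∀ a b c d : ZMod 3, a * d - b * c = 1 → ∃ t ∈ spTable,
    t.1 = (a, b, c, d) ∧ t.2.1ᵀ * J4 * t.2.1 = J4 ∧ t.2.2ᵀ * J4 * t.2.2 = J4 ∧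
      t.2.1 * t.2.2 = G4 a b c d * (t.2.2 * t.2.1) := by
  decide +kernel

theorem two_eq_neg_one : (2 : ZMod 3) = -1 := rfl

theorem two_ne_zero_three : (2 : ZMod 3) ≠ 0 := by decide

variable {F V : Type*} [Field F] [AddCommGroup V] [Module F V] [FiniteDimensional F V]
variable {B : LinearMap.BilinForm F V} (hB : SpForm B)
include hB

theorem exists_pair {U : Submodule F V} (hU : ND B U) (h0 : U ≠ ⊥) :
    ∃ v ∈ U, ∃ w ∈ U, B v w = 1 := by
  obtain ⟨v, hv, hv0⟩ := (Submodule.ne_bot_iff _).1 h0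
  by_contra hcon
  push Not at hcon
  refine hv0 (hU.eq_zero hv fun u hu => by_contra fun hne => ?_)
  have hne' : B v u ≠ 0 := fun h => hne (hB.eq_zero_comm h)
  exact hcon v hv ((B v u)⁻¹ • u) (Submodule.smul_mem _ _ hu) (by simp [inv_mul_cancel₀ hne'])

theorem pol_pair {v w : V} (h : B v w = 1) :
    Pol B (Submodule.span F {v} ⊔ Submodule.span F {w}) (Submodule.span F {v})
      (Submodule.span F {w}) := by
  have hw : B w v = -1 := by rw [hB.skew, h]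
  have hiso : ∀ x : V, Isot B (Submodule.span F {x}) := fun x =>
    isot_span fun a ha b hb => by
      rw [Set.mem_singleton_iff.1 ha, Set.mem_singleton_iff.1 hb]; exact hB.self x
  refine ⟨Submodule.disjoint_def.2 fun x hx hx' => ?_, hiso v, hiso w,
    Submodule.disjoint_def.2 fun x hx hx' => ?_, rfl⟩
  · obtain ⟨_, ha, _, hb, rfl⟩ := Submodule.mem_sup.1 hx
    obtain ⟨a, rfl⟩ := Submodule.mem_span_singleton.1 ha
    obtain ⟨b, rfl⟩ := Submodule.mem_span_singleton.1 hb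
    have h1 := hx' v (Submodule.mem_sup_left (Submodule.mem_span_singleton_self v))
    have h2 := hx' w (Submodule.mem_sup_right (Submodule.mem_span_singleton_self w))
    simp [h, hw, hB.self] at h1 h2
    simp [h1, h2]
  · obtain ⟨a, rfl⟩ := Submodule.mem_span_singleton.1 hx
    obtain ⟨b, hb⟩ := Submodule.mem_span_singleton.1 hx'
    have := congrArg (fun t => B t w) hb
    simp [h, hB.self] at this
    simp [← this]

theorem finrank_pair {v w : V} (h : B v w = 1) :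
    finrank F ↥(Submodule.span F {v} ⊔ Submodule.span F {w}) = 2 := by
  rw [finrank_sup_of_disjoint (pol_pair hB h).disj, finrank_span_singleton,
    finrank_span_singleton]
  · rintro rfl; simp at h
  · rintro rfl; simp at h

theorem eq_pair {U : Submodule F V} (hU2 : finrank F U = 2) {v w : V} (hv : v ∈ U) (hw : w ∈ U)
    (h : B v w = 1) : Submodule.span F {v} ⊔ Submodule.span F {w} = U :=
  Submodule.eq_of_le_of_finrank_eq (sup_le ((Submodule.span_singleton_le_iff_mem _ _).2 hv)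
    ((Submodule.span_singleton_le_iff_mem _ _).2 hw)) ((finrank_pair hB h).trans hU2.symm)

/-- On a plane where `g = -1`, `g` is the commutator of two quaternion elements. -/
theorem comm_pair_neg [Finite F] (h2 : (2 : F) ≠ 0) {g : V ≃ₗ[F] V} {v w : V} (h : B v w = 1)
    (hn : ∀ x ∈ Submodule.span F {v} ⊔ Submodule.span F {w}, g x = -x) :
    Comm B (Submodule.span F {v} ⊔ Submodule.span F {w}) g := by
  obtain ⟨x, y, hxy⟩ : ∃ x y : F, x ^ 2 + y ^ 2 = -1 := by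
    obtain ⟨p, hp⟩ := CharP.exists F
    haveI : NeZero p := ⟨CharP.char_ne_zero_of_finite F p⟩
    obtain ⟨a, b, hab⟩ := CharP.sq_add_sq F p (-1)
    exact ⟨a, b, by simpa using hab⟩
  have P := pol_pair hB h
  have hv : v ≠ 0 := by rintro rfl; simp at h
  have hw0 : w ≠ 0 := by rintro rfl; simp at h
  have hwv : B w v = -1 := by rw [hB.skew, h]
  set U := Submodule.span F {v} ⊔ Submodule.span F {w}
  have hvU : v ∈ U := Submodule.mem_sup_left (Submodule.mem_span_singleton_self v)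
  have hwU : w ∈ U := Submodule.mem_sup_right (Submodule.mem_span_singleton_self w)
  have mk : ∀ a b : V, a ∈ U → b ∈ U → B a b = 1 →
      ∃ i ∈ fixer B (B.orthogonal U), i v = a ∧ i w = b := by
    intro a b ha hb hab
    obtain ⟨i, hi, hiv, hiw⟩ := P.exists_iso hB
      ((LinearMap.toSpanSingleton F V a).comp
        ((LinearEquiv.toSpanNonzeroSingleton F V v hv).symm : _ →ₗ[F] F))
      ((LinearMap.toSpanSingleton F V b).comp
        ((LinearEquiv.toSpanNonzeroSingleton F V w hw0).symm : _ →ₗ[F] F))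
      (fun _ => Submodule.smul_mem _ _ ha) (fun _ => Submodule.smul_mem _ _ hb)
      (fun s t => by simp [hB.self]) (fun s t => by simp [hB.self]) (fun s t => by
        obtain ⟨c, rfl⟩ := (LinearEquiv.toSpanNonzeroSingleton F V v hv).surjective s
        obtain ⟨e, rfl⟩ := (LinearEquiv.toSpanNonzeroSingleton F V w hw0).surjective t
        simp only [LinearMap.coe_comp, Function.comp_apply, LinearEquiv.coe_coe,
          LinearEquiv.symm_apply_apply]
        simp [LinearEquiv.toSpanNonzeroSingleton_apply, hab, h])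
    refine ⟨i, hi, ?_, ?_⟩
    · have := hiv ⟨v, Submodule.mem_span_singleton_self v⟩
      simpa [show (LinearEquiv.toSpanNonzeroSingleton F V v hv).symm
          ⟨v, Submodule.mem_span_singleton_self v⟩ = 1 by
          rw [LinearEquiv.symm_apply_eq]; ext; simp] using this
    · have := hiw ⟨w, Submodule.mem_span_singleton_self w⟩
      simpa [show (LinearEquiv.toSpanNonzeroSingleton F V w hw0).symm
          ⟨w, Submodule.mem_span_singleton_self w⟩ = 1 by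
          rw [LinearEquiv.symm_apply_eq]; ext; simp] using this
  obtain ⟨i, hi, hiv, hiw⟩ := mk w (-v) hwU (neg_mem hvU) (by simp [hwv])
  obtain ⟨j, hj, hjv, hjw⟩ := mk (x • v + y • w) (y • v - x • w)
    (add_mem (Submodule.smul_mem _ _ hvU) (Submodule.smul_mem _ _ hwU))
    (sub_mem (Submodule.smul_mem _ _ hvU) (Submodule.smul_mem _ _ hwU)) (by
      simp [h, hwv, hB.self]
      linear_combination -hxy)
  have hanti : ∀ u ∈ U, i (j u) = -j (i u) := by
    intro u hu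
    obtain ⟨_, ha, _, hb, rfl⟩ := Submodule.mem_sup.1 hu
    obtain ⟨a, rfl⟩ := Submodule.mem_span_singleton.1 ha
    obtain ⟨b, rfl⟩ := Submodule.mem_span_singleton.1 hb
    simp only [map_add, map_smul, map_sub, map_neg, hiv, hiw, hjv, hjw, smul_add, smul_sub,
      smul_smul, smul_neg, neg_add_rev, neg_sub]
    abel
  refine ⟨i, hi, j, hj, fun u hu => ?_⟩
  show i (j (i.symm (j.symm u))) = g u
  have hju : j.symm u ∈ U := symm_mem_of_le j (fun z hz => mem_of_fixer_orthogonal hB hj hz) hu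
  rw [hanti _ (symm_mem_of_le i (fun z hz => mem_of_fixer_orthogonal hB hi hz) hju),
    i.apply_symm_apply, j.apply_symm_apply, hn u hu]

/-- Where `g = -1`, `g` is a commutator. -/
theorem comm_neg [Finite F] (h2 : (2 : F) ≠ 0) {g : V ≃ₗ[F] V} : ∀ (n : ℕ) (U : Submodule F V),
    ND B U → (∀ x ∈ U, g x = -x) → finrank F U ≤ n → Comm B U g := by
  intro n
  induction n with
  | zero =>
    intro U _ _ hn
    rw [Submodule.finrank_eq_zero.1 (by omega : finrank F U = 0)]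
    exact comm_bot g
  | succ n ih =>
    intro U hU hg hn
    by_cases h0 : U = ⊥
    · rw [h0]; exact comm_bot g
    obtain ⟨v, hv, w, hw, h⟩ := exists_pair hB hU h0
    have hle : Submodule.span F {v} ⊔ Submodule.span F {w} ≤ U :=
      sup_le ((Submodule.span_singleton_le_iff_mem _ _).2 hv)
        ((Submodule.span_singleton_le_iff_mem _ _).2 hw)
    obtain ⟨hnd, hsup, -⟩ := nd_rperp hB hU hle (pol_pair hB h).nd
    have h1 := finrank_rperp hB hU hle
    rw [finrank_pair hB h] at h1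
    rw [← hsup]
    exact (comm_pair_neg hB h2 h fun x hx => hg x (hle hx)).sup hB (pol_pair hB h).nd inf_le_left
      (ih _ hnd (fun x hx => hg x hx.2) (by omega))

/-- A plane inside the part where `g = -1` is polarised with its line in the minus part. -/
theorem dia_pair_neg {g : V ≃ₗ[F] V} {v w : V} (h : B v w = 1)
    (hn : ∀ x ∈ Submodule.span F {v} ⊔ Submodule.span F {w}, g x = -x) :
    Dia B g (Submodule.span F {v} ⊔ Submodule.span F {w}) ⊥ (Submodule.span F {v}) := by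
  have P := pol_pair hB h
  have hS : sset g (⊥ : Submodule F V) (Submodule.span F {v}) = ⊥ := by
    rw [sset, Submodule.map_bot, bot_sup_eq, Submodule.eq_bot_iff]
    rintro _ ⟨a, ha, rfl⟩
    simp [hn a (Submodule.mem_sup_left ha)]
  refine ⟨by simp, disjoint_bot_left, by simpa using P.isot, ?_, ?_, ?_⟩
  · rw [bot_sup_eq, finrank_pair hB h, finrank_span_singleton]
    rintro rfl; simp at h
  · rw [hS]; intro a ha b _; simp [(Submodule.mem_bot F).1 ha]
  · rw [hS]; exact disjoint_bot_right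

/-- The four-dimensional case over three elements. -/
theorem comm_four [Fintype F] (h3 : Fintype.card F = 3) {g : V ≃ₗ[F] V} (hg : g ∈ isoGroup B)
    {Ud Ur : Submodule F V} (hd : ND B Ud) (hr : ND B Ur) (horth : Ur ≤ B.orthogonal Ud)
    (hgd : ∀ x ∈ Ud, g x ∈ Ud) (hgr : ∀ x ∈ Ur, g x = -x) (hd2 : finrank F Ud = 2)
    (hr2 : finrank F Ur = 2) : Comm B (Ud ⊔ Ur) g := by
  haveI : Fact (Nat.Prime 3) := ⟨Nat.prime_three⟩
  haveI : CharP F 3 := charP_of_card_eq_prime h3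
  set φ := ZMod.castHom (dvd_refl 3) F
  have hφ : Function.Surjective φ :=
    ((Fintype.bijective_iff_injective_and_card φ).2 ⟨φ.injective, by simp [h3]⟩).2
  set U := Ud ⊔ Ur with hUdef
  obtain ⟨hU, hdis⟩ := nd_sup hB hd hr horth
  have hUd : Ud ≤ U := le_sup_left
  have hUr : Ur ≤ U := le_sup_right
  have hne : ∀ {S : Submodule F V}, finrank F S = 2 → S ≠ ⊥ := fun hS h0 => by
    rw [h0, finrank_bot] at hS; omega
  obtain ⟨v, hv, w, hw, h⟩ := exists_pair hB hd (hne hd2)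
  obtain ⟨v', hv', w', hw', h'⟩ := exists_pair hB hr (hne hr2)
  let e : Fin 4 → U := ![⟨v, hUd hv⟩, ⟨w, hUd hw⟩, ⟨v', hUr hv'⟩, ⟨w', hUr hw'⟩]
  have hgram : ∀ i k, B (e i : V) (e k) = φ (J4 i k) := by
    have hneg : (φ 2) = -1 := by
      rw [two_eq_neg_one, map_neg, map_one]
    intro i k
    fin_cases i <;> fin_cases k <;>
      simp [e, J4, h, h', hB.self, hB.skew w v, hB.skew w' v', hneg, horth hv' v hv, horth hw' v hv,
        horth hv' w hw, horth hw' w hw, hB.eq_zero_comm (horth hv' v hv),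
        hB.eq_zero_comm (horth hw' v hv), hB.eq_zero_comm (horth hv' w hw),
        hB.eq_zero_comm (horth hw' w hw)]
  have hli : LinearIndependent F e := by
    rw [Fintype.linearIndependent_iff]
    intro c hc i
    have key : ∀ k, ∑ l, c l * φ (J4 k l) = 0 := fun k => by
      have := congrArg (fun t : U => B (e k : V) (t : V)) hc
      simpa [map_sum, map_smul, hgram] using this
    have k0 := key 0
    have k1 := key 1
    have k2 := key 2
    have k3 := key 3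
    have hneg : (φ 2) ≠ 0 := (map_ne_zero_iff φ φ.injective).2 two_ne_zero_three
    simp [Fin.sum_univ_four, J4, hneg] at k0 k1 k2 k3
    fin_cases i <;> simp [k0, k1, k2, k3]
  have hU4 : finrank F U = 4 := by rw [hUdef, finrank_sup_of_disjoint hdis, hd2, hr2]
  let bas : Basis (Fin 4) F U := basisOfLinearIndependentOfCardEqFinrank hli (by simp [hU4])
  have hbas : ∀ i, (bas i : V) = e i := fun i => by simp [bas]
  set Φ := Matrix.toLinAlgEquiv bas
  have hc := hU.isCompl hB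
  have hΦ : ∀ (A : Matrix (Fin 4) (Fin 4) F) i, (Φ A (bas i) : V) = ∑ l, A l i • (e l : V) :=
    fun A i => by simp [Φ, Matrix.toLinAlgEquiv_self, hbas]
  have mk : ∀ A : Matrix (Fin 4) (Fin 4) (ZMod 3), Aᵀ * J4 * A = J4 →
      ∃ a ∈ fixer B (B.orthogonal U), ∀ x : U, a x = (Φ (φ.mapMatrix A) x : V) := by
    intro A hA
    set M : Module.End F V :=
      LinearMap.ofIsCompl hc (U.subtype.comp (Φ (φ.mapMatrix A))) 0
    have hM : ∀ x : U, M x = (Φ (φ.mapMatrix A) x : V) := fun x =>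
      LinearMap.ofIsCompl_left_apply hc x
    have hform : ((B.compl₁₂ U.subtype U.subtype).compl₁₂ (Φ (φ.mapMatrix A)) (Φ (φ.mapMatrix A)))
        = B.compl₁₂ U.subtype U.subtype := by
      refine LinearMap.BilinForm.ext_basis bas fun i k => ?_
      simp only [LinearMap.compl₁₂_apply, Submodule.coe_subtype, hΦ, hbas, hgram]
      rw [← congrFun (congrFun hA i) k]
      simp only [map_sum, LinearMap.sum_apply, map_smul, LinearMap.smul_apply, smul_eq_mul, hgram,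
        Matrix.mul_apply, Matrix.transpose_apply, RingHom.mapMatrix_apply, Matrix.map_apply,
        Finset.sum_mul, map_mul, Finset.mul_sum]
      refine Finset.sum_congr rfl fun l _ => Finset.sum_congr rfl fun m _ => ?_
      ring
    obtain ⟨a, ha, hax⟩ := exists_glue hB hU M (fun x hx => by
        rw [hM ⟨x, hx⟩]; exact Subtype.coe_prop _) fun x hx y hy => by
      rw [hM ⟨x, hx⟩, hM ⟨y, hy⟩]
      exact LinearMap.congr_fun (LinearMap.congr_fun hform ⟨x, hx⟩) ⟨y, hy⟩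
    exact ⟨a, ha, fun x => by rw [hax _ x.2, hM]⟩
  -- the coefficients of `g` on `Ud`
  have hexp : ∀ x ∈ Ud, ∃ s t : ZMod 3, x = φ s • v + φ t • w := by
    intro x hx
    rw [← eq_pair hB hd2 hv hw h] at hx
    obtain ⟨_, ha, _, hb, rfl⟩ := Submodule.mem_sup.1 hx
    obtain ⟨s, rfl⟩ := Submodule.mem_span_singleton.1 ha
    obtain ⟨t, rfl⟩ := Submodule.mem_span_singleton.1 hb
    obtain ⟨s', rfl⟩ := hφ s
    obtain ⟨t', rfl⟩ := hφ t
    exact ⟨s', t', rfl⟩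
  obtain ⟨a, c, hgv⟩ := hexp (g v) (hgd v hv)
  obtain ⟨b, d, hgw⟩ := hexp (g w) (hgd w hw)
  have hdet : a * d - b * c = 1 := by
    apply φ.injective
    have := hg v w
    rw [hgv, hgw, h] at this
    simp [h, hB.skew w v, hB.self] at this
    rw [map_sub, map_mul, map_mul, map_one]
    linear_combination this
  obtain ⟨t, -, -, hA, hBm, hcomm⟩ := spTable_spec a b c d hdet
  obtain ⟨p, hp, hpx⟩ := mk _ hA
  obtain ⟨q, hq, hqx⟩ := mk _ hBm
  have hgG : ∀ x : U, g x = (Φ (φ.mapMatrix (G4 a b c d)) x : V) := by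
    intro x
    have : (g : V →ₗ[F] V).comp U.subtype = U.subtype.comp (Φ (φ.mapMatrix (G4 a b c d))) := by
      have hneg : (φ 2) = -1 := by
        rw [two_eq_neg_one, map_neg, map_one]
      refine bas.ext fun i => ?_
      simp only [LinearMap.coe_comp, Function.comp_apply, Submodule.coe_subtype,
        LinearEquiv.coe_coe, hΦ, hbas]
      fin_cases i <;>
        simp [e, G4, Fin.sum_univ_four, hgv, hgw, hgr v' hv', hgr w' hw', hneg]
    exact LinearMap.congr_fun this x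
  refine ⟨p, hp, q, hq, fun u hu => ?_⟩
  show p (q (p.symm (q.symm u))) = g u
  have hpU : ∀ z ∈ U, p z ∈ U := fun z hz => mem_of_fixer_orthogonal hB hp hz
  have hqU : ∀ z ∈ U, q z ∈ U := fun z hz => mem_of_fixer_orthogonal hB hq hz
  have hy : p.symm (q.symm u) ∈ U := symm_mem_of_le p hpU (symm_mem_of_le q hqU hu)
  generalize hye : p.symm (q.symm u) = y at hy
  have hu' : u = q (p y) := by rw [← hye, p.apply_symm_apply, q.apply_symm_apply]
  lift y to U using hy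
  rw [hu', hqx, hpx, hpx, hqx, hgG, ← Module.End.mul_apply, ← Module.End.mul_apply (Φ _) (Φ _),
    ← Module.End.mul_apply, ← map_mul, ← map_mul, ← map_mul, ← map_mul, ← map_mul, ← map_mul,
    hcomm, mul_assoc]

/-- Every isometry of a symplectic space of dimension `2 m` is a commutator. -/
theorem exists_commutator [Fintype F] {m : ℕ} (hV : finrank F V = 2 * m) (hm : 1 ≤ m)
    (h1 : m = 1 → 4 ≤ Fintype.card F) (h2 : m = 2 → 3 ≤ Fintype.card F) {g : V ≃ₗ[F] V}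
    (hg : g ∈ isoGroup B) :
    ∃ a ∈ isoGroup B, ∃ b ∈ isoGroup B, g = a * b * a⁻¹ * b⁻¹ := by
  suffices H : Comm B ⊤ g by
    obtain ⟨a, ha, b, hb, h⟩ := H
    exact ⟨a, ha.1, b, hb.1, LinearEquiv.ext fun x => (h x Submodule.mem_top).symm⟩
  obtain ⟨Ud, Ur, Wp, Wm, D⟩ := exists_dec hB hg _ ⊤ (nd_top hB) (fun _ _ => Submodule.mem_top) le_rfl
  obtain ⟨j, hj, hja⟩ := D.even
  have hdim : finrank F Ud + finrank F Ur = 2 * m := by
    rw [← hV, ← finrank_top F V, ← D.sup_eq,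
      finrank_sup_of_disjoint (nd_sup hB D.nd_d D.nd_r D.orth).2]
  have hWd : 2 * (finrank F Wp + finrank F Wm) = finrank F Ud := by
    rw [← D.dia.dim, finrank_sup_of_disjoint D.dia.disj]
  have hq1 : 2 ≤ Fintype.card F := Fintype.one_lt_card
  have hUr : Comm B Ur g := by
    by_cases hc : (2 : F) = 0
    · rw [(D.two hc).2]; exact comm_bot g
    · exact comm_neg hB hc _ Ur D.nd_r D.neg le_rfl
  rw [← D.sup_eq]
  have done : ∀ {f : F[X]}, GoodN f (finrank F Wp) (finrank F Wm) → Comm B (Ud ⊔ Ur) g :=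
    fun hf => (comm_of_good hB hg D.nd_d D.maps_d D.dia hf).sup hB D.nd_d D.orth hUr
  by_cases h4 : 4 ≤ Fintype.card F
  · obtain ⟨f, hf⟩ := goodN_big h4
    exact done (f := f) (hj ▸ hf _ _ fun hc => by
      have := (D.two hc).1
      rw [this, finrank_bot] at hj
      omega)
  obtain hc | hc : Fintype.card F = 2 ∨ Fintype.card F = 3 := by omega
  · haveI : Fact (Nat.Prime 2) := ⟨Nat.prime_two⟩
    haveI : CharP F 2 := charP_of_card_eq_prime hc
    have h20 : (2 : F) = 0 := by exact_mod_cast CharP.cast_eq_zero F 2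
    obtain ⟨hWm, hUr0⟩ := D.two h20
    rw [hUr0, finrank_bot] at hdim
    rw [hWm, finrank_bot] at hWd
    refine done (f := twoPoly.map (ZMod.castHom (dvd_refl 2) F)) ?_
    rw [hWm, finrank_bot]
    exact (goodN_two _ (by omega)).map _
  · haveI : Fact (Nat.Prime 3) := ⟨Nat.prime_three⟩
    haveI : CharP F 3 := charP_of_card_eq_prime hc
    have h20 : (2 : F) ≠ 0 := fun h20 => by
      have h30 : (3 : F) = 0 := by exact_mod_cast CharP.cast_eq_zero F 3
      exact one_ne_zero (by linear_combination h30 - h20 : (1 : F) = 0)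
    by_cases hbad : finrank F Wp = 1 ∧ j = 0
    swap
    · refine done (f := threePoly.map (ZMod.castHom (dvd_refl 3) F)) ?_
      rw [hj]
      exact (goodN_three _ j hja hbad).map _
    obtain ⟨ha, rfl⟩ := hbad
    by_cases hr2 : finrank F Ur = 2
    · exact comm_four hB hc hg D.nd_d D.nd_r D.orth D.maps_d D.neg (by omega) hr2
    -- move two planes of the minus part into the polarised part
    have hr4 : 4 ≤ finrank F Ur := by omega
    have hne : ∀ {S : Submodule F V}, 2 ≤ finrank F S → S ≠ ⊥ := fun hS h0 => by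
      rw [h0, finrank_bot] at hS; omega
    obtain ⟨v, hv, w, hw, h⟩ := exists_pair hB D.nd_r (hne (by omega))
    set P₁ := Submodule.span F {v} ⊔ Submodule.span F {w} with hP₁
    have hP₁r : P₁ ≤ Ur := sup_le ((Submodule.span_singleton_le_iff_mem _ _).2 hv)
      ((Submodule.span_singleton_le_iff_mem _ _).2 hw)
    obtain ⟨hR, hRsup, -⟩ := nd_rperp hB D.nd_r hP₁r (pol_pair hB h).nd
    have hRd := finrank_rperp hB D.nd_r hP₁r
    rw [finrank_pair hB h] at hRd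
    obtain ⟨v', hv', w', hw', h'⟩ := exists_pair hB hR (hne (by omega))
    set P₂ := Submodule.span F {v'} ⊔ Submodule.span F {w'} with hP₂
    have hP₂R : P₂ ≤ rperp B Ur P₁ := sup_le ((Submodule.span_singleton_le_iff_mem _ _).2 hv')
      ((Submodule.span_singleton_le_iff_mem _ _).2 hw')
    have hP₁₂ : P₂ ≤ B.orthogonal P₁ := hP₂R.trans inf_le_left
    have hX : P₁ ⊔ P₂ ≤ Ur := sup_le hP₁r (hP₂R.trans inf_le_right)
    have hXnd := (nd_sup hB (pol_pair hB h).nd (pol_pair hB h').nd hP₁₂).1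
    have hng : ∀ {S : Submodule F V}, S ≤ Ur → ∀ x ∈ S, g x ∈ S := fun hS x hx => by
      rw [D.neg x (hS hx)]; exact neg_mem hx
    have hXd := (dia_pair_neg hB h fun x hx => D.neg x (hP₁r hx)).sup hB (pol_pair hB h).nd
      (pol_pair hB h').nd hP₁₂ (hng hP₁r) (hng (hP₂R.trans inf_le_right))
      (dia_pair_neg hB h' fun x hx => D.neg x (inf_le_right (a := B.orthogonal P₁) (hP₂R hx)))
    have horth' : P₁ ⊔ P₂ ≤ B.orthogonal Ud := hX.trans D.orth
    have hD := D.dia.sup hB D.nd_d hXnd horth' D.maps_d (hng hX) hXd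
    obtain ⟨hUd', -⟩ := nd_sup hB D.nd_d hXnd horth'
    obtain ⟨hR', hR'sup, -⟩ := nd_rperp hB D.nd_r hX hXnd
    have hgd : ∀ x ∈ Ud ⊔ (P₁ ⊔ P₂), g x ∈ Ud ⊔ (P₁ ⊔ P₂) := fun x hx => by
      obtain ⟨p, hp, r, hr, rfl⟩ := Submodule.mem_sup.1 hx
      rw [map_add]
      exact Submodule.add_mem_sup (D.maps_d p hp) (hng hX r hr)
    have horth'' : rperp B Ur (P₁ ⊔ P₂) ≤ B.orthogonal (Ud ⊔ (P₁ ⊔ P₂)) := fun x hx y hy => by
      obtain ⟨p, hp, r, hr, rfl⟩ := Submodule.mem_sup.1 hy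
      simp [D.orth hx.2 p hp, hx.1 r hr]
    rw [← hR'sup, ← sup_assoc]
    refine Comm.sup hB hUd' horth'' ?_
      (comm_neg hB h20 _ _ hR' (fun x hx => D.neg x hx.2) le_rfl)
    refine comm_of_good hB hg hUd' hgd hD (f := threePoly.map (ZMod.castHom (dvd_refl 3) F)) ?_
    have hWp1 : finrank F ↥(Wp ⊔ (⊥ ⊔ ⊥)) = 1 := by
      rw [sup_bot_eq, sup_bot_eq]; exact ha
    have hWm2 : finrank F ↥(Wm ⊔ (Submodule.span F {v} ⊔ Submodule.span F {v'})) = 2 * 1 := by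
      rw [Submodule.finrank_eq_zero.1 hj, bot_sup_eq, finrank_sup_of_disjoint,
        finrank_span_singleton, finrank_span_singleton]
      · rintro rfl; simp at h'
      · rintro rfl; simp at h
      · exact ((pol_pair hB h).nd.mono_right hP₁₂).mono le_sup_left le_sup_left
    rw [hWp1, hWm2]
    exact (goodN_three 1 1 le_rfl (by simp)).map _

omit hB in
/-- The statement for the matrix groups. -/
theorem matrix_commutator {K : Type*} [Field K] [Fintype K] (m : ℕ) (hm : 1 ≤ m)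
    (h1 : m = 1 → 4 ≤ Fintype.card K) (h2 : m = 2 → 3 ≤ Fintype.card K)
    (g : Matrix.symplecticGroup (Fin m) K) :
    ∃ a b : Matrix.symplecticGroup (Fin m) K, g = a * b * a⁻¹ * b⁻¹ := by
  set B : LinearMap.BilinForm K (Fin m ⊕ Fin m → K) := Matrix.toBilin' (Matrix.J (Fin m) K)
  have hB : SpForm B := by
    refine ⟨fun v => ?_, LinearMap.BilinForm.nondegenerate_toBilin'_iff_det_ne_zero.2
      (Matrix.isUnit_det_J (Fin m) K).ne_zero⟩
    simp [B, Matrix.toBilin'_apply', Matrix.J, Matrix.fromBlocks_mulVec, dotProduct,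
      Fintype.sum_sum_type, mul_comm, Matrix.neg_mulVec]
  have hiff : ∀ A : Matrix (Fin m ⊕ Fin m) (Fin m ⊕ Fin m) K,
      A ∈ Matrix.symplecticGroup (Fin m) K ↔
        ∀ v w, B (Matrix.toLin' A v) (Matrix.toLin' A w) = B v w := by
    intro A
    rw [SymplecticGroup.mem_iff', ← Matrix.toBilin'.injective.eq_iff,
      ← Matrix.toBilin'_comp]
    exact ⟨fun h v w => LinearMap.congr_fun (LinearMap.congr_fun h v) w,
      fun h => LinearMap.ext fun v => LinearMap.ext fun w => h v w⟩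
  obtain ⟨e, he, hev⟩ := exists_isometry hB _ ((hiff g.1).1 g.2)
  obtain ⟨a, ha, b, hb, hab⟩ := exists_commutator hB (m := m)
    (by simp [two_mul]) hm h1 h2 he
  have mem : ∀ c ∈ isoGroup B, LinearMap.toMatrix' (c : (Fin m ⊕ Fin m → K) →ₗ[K] _) ∈
      Matrix.symplecticGroup (Fin m) K := fun c hc =>
    (hiff _).2 fun v w => by rw [Matrix.toLin'_toMatrix']; exact hc v w
  refine ⟨⟨_, mem a ha⟩, ⟨_, mem b hb⟩, ?_⟩
  suffices h : g * (⟨_, mem b hb⟩ * ⟨_, mem a ha⟩) =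
      (⟨_, mem a ha⟩ : Matrix.symplecticGroup (Fin m) K) * ⟨_, mem b hb⟩ by
    rw [eq_mul_inv_iff_mul_eq, eq_mul_inv_iff_mul_eq, mul_assoc, h]
  apply Subtype.ext
  apply Matrix.toLin'.injective
  simp only [Submonoid.coe_mul, Subgroup.coe_mul, Matrix.toLin'_mul, Matrix.toLin'_toMatrix']
  refine LinearMap.ext fun x => ?_
  show Matrix.toLin' g.1 (b (a x)) = a (b x)
  rw [← hev, hab]
  show a (b (a.symm (b.symm (b (a x))))) = a (b x)
  rw [b.symm_apply_apply, a.symm_apply_apply]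

end Cfsg.Agent.SpComm4
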