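import Cfsg.Agent.Lib.SpCommDia4

/-!
# The Gauss criterion: an isometry with polarised data is a commutator

If `g = u₁ · Lev A · u₂` with `u₁`, `u₂` in opposite unipotent radicals and `A = Y₁ Y₂⁻¹` for
similar `Y₁`, `Y₂` without fixed points on the radicals, then `g` is a commutator.
-/

set_option autoImplicit false
set_option linter.unusedSectionVars false

namespace Cfsg.Agent.SpComm4

open LinearMap Module Polynomial

variable {F V : Type*} [Field F] [AddCommGroup V] [Module F V]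
variable {B : LinearMap.BilinForm F V}

/-- A polarisation of `U`. -/
structure Pol (B : LinearMap.BilinForm F V) (U W W' : Submodule F V) : Prop where
  nd : ND B U
  isot : Isot B W
  isot' : Isot B W'
  disj : Disjoint W W'
  sup : W ⊔ W' = U

theorem aeval_coe_apply {W : Submodule F V} {L : Module.End F V} {Y : Module.End F W}
    (h : ∀ a : W, L a = Y a) (f : F[X]) (a : W) : aeval L f (a : V) = (aeval Y f a : W) := by
  induction f using Polynomial.induction_on' with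
  | add p q hp hq => simp [hp, hq]
  | monomial n c =>
    simp only [aeval_monomial, Module.End.mul_apply, Module.algebraMap_end_apply,
      SetLike.val_smul]
    congr 1
    induction n with
    | zero => simp
    | succ n ih => rw [pow_succ', Module.End.mul_apply, ih, h, pow_succ', Module.End.mul_apply]

theorem aeval_semiconj {M : Type*} [AddCommGroup M] [Module F M] {Y Z : Module.End F M}
    (d : M ≃ₗ[F] M) (h : ∀ a, d (Z a) = Y (d a)) (f : F[X]) (a : M) :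
    aeval Y f (d a) = d (aeval Z f a) := by
  induction f using Polynomial.induction_on' with
  | add p q hp hq => simp [hp, hq]
  | monomial n c =>
    simp only [aeval_monomial, Module.End.mul_apply, Module.algebraMap_end_apply, map_smul]
    congr 1
    induction n with
    | zero => simp
    | succ n ih => rw [pow_succ', Module.End.mul_apply, ih, pow_succ', Module.End.mul_apply, h]

theorem aeval_commute_apply {L T : Module.End F V} (h : Commute T L) (f : F[X]) (x : V) :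
    T (aeval L f x) = aeval L f (T x) := apply_aeval_comm h.eq f x

section fd

variable [FiniteDimensional F V]

theorem aeval_adj (hB : SpForm B) {L : V ≃ₗ[F] V} (hL : L ∈ isoGroup B) (f : F[X]) (x y : V) :
    B (aeval (L.symm : V →ₗ[F] V) f x) y = B x (aeval (L : V →ₗ[F] V) f y) := by
  induction f using Polynomial.induction_on' with
  | add p q hp hq => simp [hp, hq]
  | monomial n c =>
    simp only [aeval_monomial, Module.End.mul_apply, Module.algebraMap_end_apply, map_smul,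
      LinearMap.smul_apply]
    congr 1
    induction n generalizing x y with
    | zero => simp
    | succ n ih =>
      conv_lhs => rw [pow_succ', Module.End.mul_apply]
      rw [LinearEquiv.coe_coe, adj' hB hL, ih, ← LinearEquiv.coe_coe, ← Module.End.mul_apply,
        ← pow_succ]

/-- An isometry on a nondegenerate subspace, extended by the identity. -/
theorem exists_glue (hB : SpForm B) {U : Submodule F V} (hU : ND B U) (M : Module.End F V)
    (hMU : ∀ x ∈ U, M x ∈ U) (hM : ∀ x ∈ U, ∀ y ∈ U, B (M x) (M y) = B x y) :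
    ∃ h ∈ fixer B (B.orthogonal U), ∀ x ∈ U, h x = M x := by
  have hc := hU.isCompl hB
  set P : Module.End F V := LinearMap.ofIsCompl hc U.subtype 0 with hP
  have hPl : ∀ x ∈ U, P x = x := fun x hx => LinearMap.ofIsCompl_left_apply hc ⟨x, hx⟩
  have hPr : ∀ x ∈ B.orthogonal U, P x = 0 := fun x hx =>
    LinearMap.ofIsCompl_right_apply hc ⟨x, hx⟩
  set M' : Module.End F V := M * P + (1 - P) with hM'
  have hl : ∀ x ∈ U, M' x = M x := fun x hx => by simp [hM', hPl x hx]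
  have hr : ∀ x ∈ B.orthogonal U, M' x = x := fun x hx => by simp [hM', hPr x hx]
  obtain ⟨h, hh, happ⟩ := exists_isometry hB M' fun v w => by
    obtain ⟨a, ha, b, hb, rfl⟩ :=
      Submodule.mem_sup.1 (hc.sup_eq_top ▸ Submodule.mem_top : v ∈ U ⊔ B.orthogonal U)
    obtain ⟨c, hc', d, hd, rfl⟩ :=
      Submodule.mem_sup.1 (hc.sup_eq_top ▸ Submodule.mem_top : w ∈ U ⊔ B.orthogonal U)
    rw [map_add M', map_add M', hl a ha, hr b hb, hl c hc', hr d hd]
    simp [hM a ha c hc', hd a ha, hd _ (hMU a ha), hB.eq_zero_comm (hb c hc'),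
      hB.eq_zero_comm (hb _ (hMU c hc'))]
  exact ⟨h, ⟨hh, fun x hx => by rw [happ, hr x hx]⟩, fun x hx => by rw [happ, hl x hx]⟩

namespace Pol

variable {U W W' : Submodule F V} (hB : SpForm B) (P : Pol B U W W')
include hB P

theorem leW : W ≤ U := P.sup ▸ le_sup_left

theorem leW' : W' ≤ U := P.sup ▸ le_sup_right

theorem symmPol : Pol B U W' W := ⟨P.nd, P.isot', P.isot, P.disj.symm, by rw [sup_comm, P.sup]⟩

theorem eq_zero_of_pair {b : V} (hb : b ∈ W') (h : ∀ a ∈ W, B a b = 0) : b = 0 := by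
  refine P.nd.eq_zero (P.leW' hB hb) fun u hu => ?_
  rw [← P.sup] at hu
  obtain ⟨a, ha, c, hc, rfl⟩ := Submodule.mem_sup.1 hu
  simp [h a ha, P.isot' c hc b hb]

theorem finrank_le : finrank F W' ≤ finrank F W := by
  rw [← Subspace.dual_finrank_eq (K := F) (V := W)]
  refine LinearMap.finrank_le_finrank_of_injective (f := (B.flip.compl₂ W.subtype).comp W'.subtype)
    (LinearMap.ker_eq_bot.1 ((Submodule.eq_bot_iff _).2 fun b hb => Subtype.ext
      (P.eq_zero_of_pair hB b.2 fun a ha => ?_)))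
  exact LinearMap.congr_fun (LinearMap.mem_ker.1 hb) ⟨a, ha⟩

theorem finrank_eq : finrank F W' = finrank F W :=
  le_antisymm (P.finrank_le hB) ((P.symmPol hB).finrank_le hB)

/-- An isometry from its values on the two halves. -/
theorem exists_iso (φ : W →ₗ[F] V) (ψ : W' →ₗ[F] V) (hφU : ∀ a, φ a ∈ U) (hψU : ∀ b, ψ b ∈ U)
    (h1 : ∀ a a', B (φ a) (φ a') = 0) (h2 : ∀ b b', B (ψ b) (ψ b') = 0)
    (h3 : ∀ a b, B (φ a) (ψ b) = B (a : V) (b : V)) :
    ∃ h ∈ fixer B (B.orthogonal U), (∀ a : W, h (a : V) = φ a) ∧ ∀ b : W', h (b : V) = ψ b := by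
  have hc : IsCompl W (W' ⊔ B.orthogonal U) := by
    refine ⟨Submodule.disjoint_def.2 fun x hx hx' => ?_, codisjoint_iff.2 ?_⟩
    · obtain ⟨b, hb, c, hc, rfl⟩ := Submodule.mem_sup.1 hx'
      have hc0 : c = 0 := Submodule.disjoint_def.1 P.nd c
        (by simpa using sub_mem (P.leW hB hx) (P.leW' hB hb)) hc
      rw [hc0, add_zero] at hx ⊢
      exact Submodule.disjoint_def.1 P.disj b hx hb
    · rw [← sup_assoc, P.sup, (P.nd.isCompl hB).sup_eq_top]
  have hc' : IsCompl W' (W ⊔ B.orthogonal U) := by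
    refine ⟨Submodule.disjoint_def.2 fun x hx hx' => ?_, codisjoint_iff.2 ?_⟩
    · obtain ⟨a, ha, c, hc, rfl⟩ := Submodule.mem_sup.1 hx'
      have hc0 : c = 0 := Submodule.disjoint_def.1 P.nd c
        (by simpa using sub_mem (P.leW' hB hx) (P.leW hB ha)) hc
      rw [hc0, add_zero] at hx ⊢
      exact Submodule.disjoint_def.1 P.disj a ha hx
    · rw [← sup_assoc, sup_comm W', P.sup, (P.nd.isCompl hB).sup_eq_top]
  set M : Module.End F V := LinearMap.ofIsCompl hc φ 0 + LinearMap.ofIsCompl hc' ψ 0 with hM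
  have hl : ∀ a : W, M a = φ a := fun a => by
    have h0 := LinearMap.ofIsCompl_right_apply (φ := ψ) (ψ := 0) hc'
      (⟨(a : V), Submodule.mem_sup_left a.2⟩ : ↥(W ⊔ B.orthogonal U))
    simp only [LinearMap.zero_apply] at h0
    rw [hM, LinearMap.add_apply, LinearMap.ofIsCompl_left_apply, h0, add_zero]
  have hr : ∀ b : W', M b = ψ b := fun b => by
    have h0 := LinearMap.ofIsCompl_right_apply (φ := φ) (ψ := 0) hc
      (⟨(b : V), Submodule.mem_sup_left b.2⟩ : ↥(W' ⊔ B.orthogonal U))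
    simp only [LinearMap.zero_apply] at h0
    rw [hM, LinearMap.add_apply, LinearMap.ofIsCompl_left_apply, h0, zero_add]
  obtain ⟨h, hh, happ⟩ := exists_glue hB P.nd M
    (fun x hx => by
      rw [← P.sup] at hx
      obtain ⟨a, ha, b, hb, rfl⟩ := Submodule.mem_sup.1 hx
      rw [map_add, hl ⟨a, ha⟩, hr ⟨b, hb⟩]
      exact add_mem (hφU _) (hψU _))
    fun x hx y hy => by
      rw [← P.sup] at hx hy
      obtain ⟨a, ha, b, hb, rfl⟩ := Submodule.mem_sup.1 hx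
      obtain ⟨a', ha', b', hb', rfl⟩ := Submodule.mem_sup.1 hy
      rw [map_add M, map_add M, hl ⟨a, ha⟩, hr ⟨b, hb⟩, hl ⟨a', ha'⟩, hr ⟨b', hb'⟩]
      simp only [map_add, LinearMap.add_apply, h1, h2, h3, hB.skew (ψ _) (φ _),
        P.isot a ha a' ha', P.isot' b hb b' hb']
      rw [hB.skew b a']
  exact ⟨h, hh, fun a => by rw [happ _ (P.leW hB a.2), hl],
    fun b => by rw [happ _ (P.leW' hB b.2), hr]⟩

theorem exists_lev (Y : W ≃ₗ[F] W) :
    ∃ L ∈ fixer B (B.orthogonal U), (∀ a : W, L a = (Y a : V)) ∧ ∀ b ∈ W', L b ∈ W' := by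
  set Φ₀ : W' →ₗ[F] Module.Dual F W := (B.flip.compl₂ W.subtype).comp W'.subtype
  have hinj : Function.Injective Φ₀ :=
    LinearMap.ker_eq_bot.1 ((Submodule.eq_bot_iff _).2 fun b hb => Subtype.ext
      (P.eq_zero_of_pair hB b.2 fun a ha => LinearMap.congr_fun (LinearMap.mem_ker.1 hb) ⟨a, ha⟩))
  set Φ := LinearMap.linearEquivOfInjective Φ₀ hinj
    (by rw [Subspace.dual_finrank_eq, P.finrank_eq hB])
  set Y' : W' ≃ₗ[F] W' := Φ.trans (Y.symm.dualMap.trans Φ.symm)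
  obtain ⟨L, hL, hLW, hLW'⟩ := P.exists_iso hB (W.subtype.comp (Y : W →ₗ[F] W))
    (W'.subtype.comp (Y' : W' →ₗ[F] W')) (fun a => P.leW hB (Y a).2)
    (fun b => P.leW' hB (Y' b).2) (fun a a' => P.isot _ (Y a).2 _ (Y a').2)
    (fun b b' => P.isot' _ (Y' b).2 _ (Y' b').2) (fun a b => by
      have h1 : Φ (Y' b) = Y.symm.dualMap (Φ b) := by simp [Y']
      have h2 := LinearMap.congr_fun h1 (Y a)
      rw [LinearEquiv.dualMap_apply, Y.symm_apply_apply] at h2
      exact h2)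
  exact ⟨L, hL, hLW, fun b hb => by
    have := hLW' ⟨b, hb⟩
    simp only [LinearMap.coe_comp, Function.comp_apply, Submodule.coe_subtype] at this
    rw [this]; exact Subtype.coe_prop _⟩

theorem lev_ext {a b : V ≃ₗ[F] V} (ha : a ∈ fixer B (B.orthogonal U))
    (hb : b ∈ fixer B (B.orthogonal U)) (hW : ∀ x ∈ W, a x = b x) (haW : ∀ x ∈ W, a x ∈ W)
    (ha' : ∀ x ∈ W', a x ∈ W') (hb' : ∀ x ∈ W', b x ∈ W') : a = b := by
  refine ext_of_isCompl (P.nd.isCompl hB) (fun x hx => ?_) fun x hx => by rw [ha.2 x hx, hb.2 x hx]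
  rw [← P.sup] at hx
  obtain ⟨u, hu, v, hv, rfl⟩ := Submodule.mem_sup.1 hx
  rw [map_add, map_add, hW u hu]
  congr 1
  rw [← sub_eq_zero]
  refine P.eq_zero_of_pair hB (sub_mem (ha' v hv) (hb' v hv)) fun w hw => ?_
  have h1 := symm_mem_of_le a haW hw
  rw [← a.apply_symm_apply w, map_sub, ha.1 _ _, hW _ h1, hb.1 _ _, sub_self]

/-- The only element of a radical commuting with a suitable Levi element is trivial. -/
theorem eq_one_of_commute {L : V ≃ₗ[F] V} (hL : L ∈ fixer B (B.orthogonal U))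
    (hLW : ∀ x ∈ W, L x ∈ W) (hLW' : ∀ x ∈ W', L x ∈ W') (f : F[X])
    (hf : ∀ x ∈ W, aeval (L : V →ₗ[F] V) f x = 0)
    (hf' : ∀ x ∈ W, aeval (L.symm : V →ₗ[F] V) f x = 0 → x = 0) :
    (∀ u ∈ fixer B (W ⊔ B.orthogonal U), Commute u L → u = 1) ∧
      ∀ u ∈ fixer B (W' ⊔ B.orthogonal U), Commute u L → u = 1 := by
  have hsW : ∀ x ∈ W, aeval (L.symm : V →ₗ[F] V) f x ∈ W := fun x hx =>
    aeval_mem (fun y hy => symm_mem_of_le L hLW hy) f hx
  have hsurj : ∀ y ∈ W, ∃ x ∈ W, aeval (L.symm : V →ₗ[F] V) f x = y := by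
    intro y hy
    set T : Module.End F W := (aeval (L.symm : V →ₗ[F] V) f).restrict hsW
    have hT : Function.Injective T := LinearMap.ker_eq_bot.1 ((Submodule.eq_bot_iff _).2
      fun x hx => Subtype.ext (hf' x x.2 (congrArg Subtype.val (LinearMap.mem_ker.1 hx))))
    obtain ⟨x, hx⟩ := LinearMap.injective_iff_surjective.1 hT ⟨y, hy⟩
    exact ⟨x, x.2, congrArg Subtype.val hx⟩
  have hinj : ∀ x ∈ W', aeval (L : V →ₗ[F] V) f x = 0 → x = 0 := fun x hx hx0 =>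
    P.eq_zero_of_pair hB hx fun a ha => by
      obtain ⟨c, hc, rfl⟩ := hsurj a ha
      rw [aeval_adj hB hL.1, hx0, map_zero]
  have hfW' : ∀ x ∈ W', aeval (L : V →ₗ[F] V) f x ∈ W' := fun x hx => aeval_mem hLW' f hx
  have hsurj' : ∀ y ∈ W', ∃ x ∈ W', aeval (L : V →ₗ[F] V) f x = y := by
    intro y hy
    set T : Module.End F W' := (aeval (L : V →ₗ[F] V) f).restrict hfW'
    have hT : Function.Injective T := LinearMap.ker_eq_bot.1 ((Submodule.eq_bot_iff _).2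
      fun x hx => Subtype.ext (hinj x x.2 (congrArg Subtype.val (LinearMap.mem_ker.1 hx))))
    obtain ⟨x, hx⟩ := LinearMap.injective_iff_surjective.1 hT ⟨y, hy⟩
    exact ⟨x, x.2, congrArg Subtype.val hx⟩
  have hcomm : ∀ u : V ≃ₗ[F] V, Commute u L →
      Commute ((u : V →ₗ[F] V) - 1 : Module.End F V) (L : V →ₗ[F] V) := fun u hu =>
    Commute.sub_left (LinearMap.ext fun x => LinearEquiv.congr_fun hu.eq x) (Commute.one_left _)
  -- the displacement of a radical element lands in the fixed half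
  have hdisp : ∀ {A A' : Submodule F V}, Pol B U A A' →
      ∀ u ∈ fixer B (A ⊔ B.orthogonal U), ∀ x ∈ A', u x - x ∈ A := by
    intro A A' Q u hu x hx
    have hux : u x ∈ U :=
      mem_of_fixer_orthogonal hB (fixer_antitone le_sup_right hu) (Q.leW' hB hx)
    have hd : u x - x ∈ A ⊔ A' := Q.sup ▸ sub_mem hux (Q.leW' hB hx)
    obtain ⟨a, ha, b, hb, hab⟩ := Submodule.mem_sup.1 hd
    have hb0 : b = 0 := Q.eq_zero_of_pair hB hb fun c hc => by
      have h1 : B c (a + b) = 0 := by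
        rw [hab, map_sub]
        nth_rw 1 [← hu.2 c (Submodule.mem_sup_left hc)]
        rw [hu.1, sub_self]
      rwa [map_add, Q.isot c hc a ha, zero_add] at h1
    rw [← hab, hb0, add_zero]; exact ha
  refine ⟨fun u hu hc => ?_, fun u hu hc => ?_⟩
  · refine ext_of_isCompl (P.nd.isCompl hB) (fun x hx => ?_)
      fun x hx => hu.2 x (Submodule.mem_sup_right hx)
    rw [← P.sup] at hx
    obtain ⟨a, ha, b, hb, rfl⟩ := Submodule.mem_sup.1 hx
    obtain ⟨c, hc', rfl⟩ := hsurj' b hb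
    have h1 := aeval_commute_apply (hcomm u hc) f c
    rw [LinearMap.sub_apply, LinearMap.sub_apply, Module.End.one_apply, Module.End.one_apply,
      LinearEquiv.coe_coe, hf _ (hdisp P u hu c hc'), sub_eq_zero] at h1
    rw [map_add, hu.2 a (Submodule.mem_sup_left ha), h1]
    rfl
  · refine ext_of_isCompl (P.nd.isCompl hB) (fun x hx => ?_)
      fun x hx => hu.2 x (Submodule.mem_sup_right hx)
    rw [← P.sup] at hx
    obtain ⟨a, ha, b, hb, rfl⟩ := Submodule.mem_sup.1 hx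
    have h1 := aeval_commute_apply (hcomm u hc) f a
    rw [hf a ha, map_zero, LinearMap.sub_apply, Module.End.one_apply,
      LinearEquiv.coe_coe] at h1
    have h2 := hinj _ (hdisp (P.symmPol hB) u hu a ha) h1.symm
    rw [sub_eq_zero] at h2
    rw [map_add, hu.2 b (Submodule.mem_sup_left hb), h2]
    rfl

end Pol

theorem lev_conj_mem {S : Submodule F V} {L v : V ≃ₗ[F] V} (hL : L ∈ isoGroup B)
    (hS : ∀ x ∈ S, L x ∈ S) (hv : v ∈ fixer B S) : L * v * L⁻¹ ∈ fixer B S := by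
  refine ⟨mul_mem (mul_mem hL hv.1) (inv_mem hL), fun x hx => ?_⟩
  show L (v (L.symm x)) = x
  rw [hv.2 _ (symm_mem_of_le L hS hx), L.apply_symm_apply]

/-- A commutator map on a finite subgroup normalised by `L` and centraliser-free is onto. -/
theorem exists_comm_eq {G : Type*} [Group G] [Finite G] {K : Subgroup G} {L : G}
    (hn : ∀ v ∈ K, L * v * L⁻¹ ∈ K) (h1 : ∀ u ∈ K, Commute u L → u = 1) {u : G} (hu : u ∈ K) :
    ∃ v ∈ K, v * L * v⁻¹ * L⁻¹ = u := by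
  let φ : K → K := fun v => ⟨v * L * (v : G)⁻¹ * L⁻¹, by
    rw [show (v : G) * L * (v : G)⁻¹ * L⁻¹ = v * (L * (v : G)⁻¹ * L⁻¹) by group]
    exact mul_mem v.2 (hn _ (inv_mem v.2))⟩
  have hinj : Function.Injective φ := by
    intro v w hvw
    have h := congrArg Subtype.val hvw
    simp only [φ, mul_left_inj] at h
    have hc : Commute ((w : G)⁻¹ * v) L := by
      show (w : G)⁻¹ * v * L = L * ((w : G)⁻¹ * v)
      calc (w : G)⁻¹ * v * L = (w : G)⁻¹ * (v * L * (v : G)⁻¹) * v := by group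
        _ = (w : G)⁻¹ * (w * L * (w : G)⁻¹) * v := by rw [h]
        _ = L * ((w : G)⁻¹ * v) := by group
    exact Subtype.ext (inv_mul_eq_one.1 (h1 _ (mul_mem (inv_mem w.2) v.2) hc)).symm
  obtain ⟨v, hv⟩ := Finite.injective_iff_surjective.1 hinj ⟨u, hu⟩
  exact ⟨v, v.2, congrArg Subtype.val hv⟩

/-- An isotropic subspace avoiding a Lagrangian extends to a complementary one. -/
theorem exists_pol (hB : SpForm B) {U W : Submodule F V} (hU : ND B U) (hWU : W ≤ U)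
    (hW : Isot B W) (hd : 2 * finrank F W = finrank F U) :
    ∀ (n : ℕ) (S : Submodule F V), S ≤ U → Isot B S → Disjoint W S →
      finrank F U - finrank F S ≤ n → ∃ W', S ≤ W' ∧ Pol B U W W' := by
  intro n
  induction n with
  | zero =>
    intro S hSU hS hdis hn
    have := hS.two_mul_le hB hU hSU
    exact ⟨S, le_rfl, hU, hW, hS, hdis, Submodule.eq_of_le_of_finrank_le (sup_le hWU hSU)
      (by rw [finrank_sup_of_disjoint hdis]; omega)⟩
  | succ n ih =>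
    intro S hSU hS hdis hn
    have h2 := hS.two_mul_le hB hU hSU
    by_cases heq : W ⊔ S = U
    · exact ⟨S, le_rfl, hU, hW, hS, hdis, heq⟩
    have hlt : finrank F S < finrank F W := by
      by_contra hle
      exact heq (Submodule.eq_of_le_of_finrank_le (sup_le hWU hSU)
        (by rw [finrank_sup_of_disjoint hdis]; omega))
    obtain ⟨x, hx, hxS⟩ : ∃ x ∈ rperp B U S, x ∉ W ⊔ S := by
      by_contra h
      push Not at h
      have h3 : rperp B U (W ⊔ S) ≤ S := by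
        have := rperp_le_of_le hB hU hSU h
        exact this
      have h4 : rperp B U S ⊓ W ≤ rperp B U (W ⊔ S) := fun y hy => ⟨fun t ht => by
        obtain ⟨a, ha, b, hb, rfl⟩ := Submodule.mem_sup.1 ht
        simp [hW a ha y hy.2, hy.1.1 b hb], hy.1.2⟩
      have h5 : rperp B U S ⊓ W = ⊥ := le_bot_iff.1 fun y hy =>
        (Submodule.mem_bot F).2 (Submodule.disjoint_def.1 hdis y hy.2 (h3 (h4 hy)))
      have h6 := Submodule.finrank_sup_add_finrank_inf_eq (rperp B U S) W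
      have h7 := finrank_rperp hB hU hSU
      have h8 : finrank F ↥(rperp B U S ⊔ W) ≤ finrank F U :=
        Submodule.finrank_mono (sup_le inf_le_right hWU)
      rw [h5, finrank_bot] at h6
      omega
    set S' := S ⊔ Submodule.span F {x}
    have hxU : x ∈ U := hx.2
    have hS'U : S' ≤ U := sup_le hSU ((Submodule.span_singleton_le_iff_mem _ _).2 hxU)
    have hS' : Isot B S' := isot_sup hB hS (isot_span fun a ha b hb => by
        rw [Set.mem_singleton_iff.1 ha, Set.mem_singleton_iff.1 hb]; exact hB.self x)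
      fun s hs t ht => by
        obtain ⟨c, rfl⟩ := Submodule.mem_span_singleton.1 ht
        simp [hx.1 s hs]
    have hdis' : Disjoint W S' := by
      refine Submodule.disjoint_def.2 fun y hy hy' => ?_
      obtain ⟨s, hs, t, ht, rfl⟩ := Submodule.mem_sup.1 hy'
      obtain ⟨c, rfl⟩ := Submodule.mem_span_singleton.1 ht
      by_cases hc : c = 0
      · subst hc
        rw [zero_smul, add_zero] at hy ⊢
        exact Submodule.disjoint_def.1 hdis s hy hs
      · refine absurd ?_ hxS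
        have h1 : c • x ∈ W ⊔ S := by
          have := sub_mem (Submodule.mem_sup_left hy) (Submodule.mem_sup_right hs : s ∈ W ⊔ S)
          rwa [add_sub_cancel_left] at this
        have := Submodule.smul_mem _ c⁻¹ h1
        rwa [smul_smul, inv_mul_cancel₀ hc, one_smul] at this
    have hlt' : finrank F S < finrank F S' := Submodule.finrank_lt_finrank_of_lt
      (lt_of_le_of_ne le_sup_left fun h => hxS (Submodule.mem_sup_right
        (h ▸ Submodule.mem_sup_right (Submodule.mem_span_singleton_self x))))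
    obtain ⟨W', hW', hP⟩ := ih S' hS'U hS' hdis' (by omega)
    exact ⟨W', le_sup_left.trans hW', hP⟩
where
  rperp_le_of_le (hB : SpForm B) {U S T : Submodule F V} (hU : ND B U) (hSU : S ≤ U)
      (h : ∀ x ∈ rperp B U S, x ∈ T) : rperp B U T ≤ S := by
    intro y hy
    have h1 : y ∈ rperp B U (rperp B U S) := ⟨fun t ht => hy.1 t (h t ht), hy.2⟩
    have h2 : rperp B U (rperp B U S) = S := by
      have h1 := finrank_rperp hB hU hSU
      have hle : rperp B U S ≤ U := inf_le_right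
      have h2 := finrank_rperp hB hU hle
      refine (Submodule.eq_of_le_of_finrank_le (fun x hx => ?_) (by omega)).symm
      exact ⟨fun s hs => hB.eq_zero_comm (hs.1 x hx), hSU hx⟩
    rwa [h2] at h1

/-- The criterion. -/
theorem comm_of_data [Finite F] (hB : SpForm B) {g : V ≃ₗ[F] V} (hg : g ∈ isoGroup B)
    {U Wp Wm : Submodule F V} (hU : ND B U) (hgU : ∀ x ∈ U, g x ∈ U) (D : Dia B g U Wp Wm)
    (Y₁ Y₂ d : ↥(Wp ⊔ Wm) ≃ₗ[F] ↥(Wp ⊔ Wm))
    (hp : ∀ a : ↥(Wp ⊔ Wm), (a : V) ∈ Wp → Y₁ (Y₂.symm a) = a)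
    (hm : ∀ a : ↥(Wp ⊔ Wm), (a : V) ∈ Wm → Y₁ (Y₂.symm a) = -a)
    (hd : ∀ a, d (Y₂ a) = Y₁ (d a)) (f : F[X])
    (hf : ∀ a, aeval (Y₂ : ↥(Wp ⊔ Wm) →ₗ[F] ↥(Wp ⊔ Wm)) f a = 0)
    (hf' : ∀ a, aeval (Y₂.symm : ↥(Wp ⊔ Wm) →ₗ[F] ↥(Wp ⊔ Wm)) f a = 0 → a = 0) :
    Comm B U g := by
  haveI : Finite V := Module.finite_of_finite F
  haveI : Finite (V ≃ₗ[F] V) := DFunLike.finite _
  obtain ⟨W', hSW', P⟩ := exists_pol hB hU D.le D.isot D.dim _ _ (sset_le D.le hgU) D.s_isot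
    D.s_disj le_rfl
  obtain ⟨L₁, hL₁, hL₁W, hL₁W'⟩ := P.exists_lev hB Y₁
  obtain ⟨L₂, hL₂, hL₂W, hL₂W'⟩ := P.exists_lev hB Y₂
  obtain ⟨Δ, hΔ, hΔW, hΔW'⟩ := P.exists_lev hB d
  have hmaps : ∀ {L : V ≃ₗ[F] V} {Y : ↥(Wp ⊔ Wm) ≃ₗ[F] ↥(Wp ⊔ Wm)},
      (∀ a : ↥(Wp ⊔ Wm), L a = (Y a : V)) → ∀ x ∈ Wp ⊔ Wm, L x ∈ Wp ⊔ Wm := fun {L Y} h x hx => by
    rw [h ⟨x, hx⟩]; exact Subtype.coe_prop _
  have hsymm : ∀ {L : V ≃ₗ[F] V} {Y : ↥(Wp ⊔ Wm) ≃ₗ[F] ↥(Wp ⊔ Wm)},
      (∀ a : ↥(Wp ⊔ Wm), L a = (Y a : V)) → ∀ a : ↥(Wp ⊔ Wm), L.symm a = (Y.symm a : V) :=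
    fun {L Y} h a => by rw [LinearEquiv.symm_apply_eq, h, Y.apply_symm_apply]
  -- similarity
  have hconj : Δ * L₂ = L₁ * Δ := by
    refine P.lev_ext hB (mul_mem hΔ hL₂) (mul_mem hL₁ hΔ) (fun x hx => ?_)
      (fun x hx => hmaps hΔW _ (hmaps hL₂W x hx)) (fun x hx => hΔW' _ (hL₂W' x hx))
      fun x hx => hL₁W' _ (hΔW' x hx)
    show Δ (L₂ x) = L₁ (Δ x)
    rw [hL₂W ⟨x, hx⟩, hΔW, hd, hΔW ⟨x, hx⟩, hL₁W]
  have hconj' : Δ * L₂ * Δ⁻¹ = L₁ := by rw [hconj, mul_inv_cancel_right]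
  -- no fixed points on the radicals
  have hdsymm : ∀ a, d (Y₂.symm a) = Y₁.symm (d a) := fun a => by
    rw [LinearEquiv.eq_symm_apply, ← hd, Y₂.apply_symm_apply]
  have hf₁ : ∀ a, aeval (Y₁ : ↥(Wp ⊔ Wm) →ₗ[F] ↥(Wp ⊔ Wm)) f a = 0 := fun a => by
    rw [← d.apply_symm_apply a, aeval_semiconj d hd, hf, map_zero]
  have hf₁' : ∀ a, aeval (Y₁.symm : ↥(Wp ⊔ Wm) →ₗ[F] ↥(Wp ⊔ Wm)) f a = 0 → a = 0 := fun a ha => by
    rw [← d.apply_symm_apply a, aeval_semiconj d hdsymm, map_eq_zero_iff d d.injective] at ha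
    rw [← d.apply_symm_apply a, hf' _ ha, map_zero]
  have hC₁ := P.eq_one_of_commute hB hL₁ (hmaps hL₁W) hL₁W' f
    (fun x hx => by rw [aeval_coe_apply (Y := (Y₁ : _ →ₗ[F] _)) hL₁W f ⟨x, hx⟩, hf₁]; rfl)
    (fun x hx h0 => by
      rw [aeval_coe_apply (Y := (Y₁.symm : _ →ₗ[F] _)) (hsymm hL₁W) f ⟨x, hx⟩] at h0
      exact congrArg Subtype.val (hf₁' _ (Subtype.ext h0)))
  have hC₂ := P.eq_one_of_commute hB hL₂ (hmaps hL₂W) hL₂W' f
    (fun x hx => by rw [aeval_coe_apply (Y := (Y₂ : _ →ₗ[F] _)) hL₂W f ⟨x, hx⟩, hf]; rfl)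
    (fun x hx h0 => by
      rw [aeval_coe_apply (Y := (Y₂.symm : _ →ₗ[F] _)) (hsymm hL₂W) f ⟨x, hx⟩] at h0
      exact congrArg Subtype.val (hf' _ (Subtype.ext h0)))
  -- the Gauss decomposition
  obtain ⟨gU, hgU', hgUapp⟩ := exists_glue hB hU (g : V →ₗ[F] V) hgU fun x _ y _ => hg x y
  set A := Y₂.symm.trans Y₁ with hA
  set φ : ↥(Wp ⊔ Wm) →ₗ[F] V :=
    ((g : V →ₗ[F] V).comp (Wp ⊔ Wm).subtype).comp (A.symm : ↥(Wp ⊔ Wm) →ₗ[F] ↥(Wp ⊔ Wm)) with hφ
  have hS : ∀ a : ↥(Wp ⊔ Wm), g a - (A a : V) ∈ W' := by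
    rintro ⟨x, hx⟩
    obtain ⟨a, ha, b, hb, rfl⟩ := Submodule.mem_sup.1 hx
    have e : (⟨a + b, hx⟩ : ↥(Wp ⊔ Wm)) =
        ⟨a, Submodule.mem_sup_left ha⟩ + ⟨b, Submodule.mem_sup_right hb⟩ := rfl
    have hAa : (A ⟨a, Submodule.mem_sup_left ha⟩ : V) = a := by
      rw [hA, LinearEquiv.trans_apply, hp _ ha]
    have hAb : (A ⟨b, Submodule.mem_sup_right hb⟩ : V) = -b := by
      rw [hA, LinearEquiv.trans_apply, hm _ hb]; rfl
    rw [e, map_add, Submodule.coe_add, Submodule.coe_add, hAa, hAb]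
    refine hSW' ?_
    rw [show g (a + b) - (a + -b) = (g a - a) + (g b + b) by rw [map_add]; abel]
    exact Submodule.add_mem_sup ⟨a, ha, rfl⟩ ⟨b, hb, rfl⟩
  have hφd : ∀ a : ↥(Wp ⊔ Wm), φ a - a ∈ W' := fun a => by
    have := hS (A.symm a)
    rwa [A.apply_symm_apply] at this
  obtain ⟨u₁, hu₁, hu₁W, hu₁W'⟩ := P.exists_iso hB φ W'.subtype
    (fun a => hgU _ (D.le (A.symm a).2)) (fun b => P.leW' hB b.2)
    (fun a a' => by
      show B (g _) (g _) = 0
      rw [hg]; exact D.isot _ (A.symm a).2 _ (A.symm a').2)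
    (fun b b' => P.isot' _ b.2 _ b'.2)
    (fun a b => by
      have h0 := P.isot' _ (hφd a) _ b.2
      rw [map_sub, LinearMap.sub_apply, sub_eq_zero] at h0
      exact h0)
  have hu₁K : u₁ ∈ fixer B (W' ⊔ B.orthogonal U) :=
    mem_fixer_sup ⟨hu₁.1, fun x hx => hu₁W' ⟨x, hx⟩⟩ hu₁
  set u₂ := (u₁ * (L₁ * L₂⁻¹))⁻¹ * gU with hu₂
  have hu₂U : u₂ ∈ fixer B (B.orthogonal U) :=
    mul_mem (inv_mem (mul_mem hu₁ (mul_mem hL₁ (inv_mem hL₂)))) hgU'
  have hu₂K : u₂ ∈ fixer B ((Wp ⊔ Wm) ⊔ B.orthogonal U) := by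
    refine mem_fixer_sup ⟨hu₂U.1, fun x hx => ?_⟩ hu₂U
    show (u₁ * (L₁ * L₂⁻¹)).symm (gU x) = x
    rw [LinearEquiv.symm_apply_eq]
    show gU x = u₁ (L₁ (L₂.symm x))
    rw [hgUapp x (D.le hx), hsymm hL₂W ⟨x, hx⟩, hL₁W, hu₁W]
    show g x = g (A.symm (Y₁ (Y₂.symm ⟨x, hx⟩)))
    rw [show Y₁ (Y₂.symm ⟨x, hx⟩) = A ⟨x, hx⟩ from rfl, A.symm_apply_apply]
  have hnorm : ∀ {L : V ≃ₗ[F] V}, L ∈ fixer B (B.orthogonal U) → ∀ {S : Submodule F V},
      (∀ x ∈ S, L x ∈ S) → ∀ v ∈ fixer B (S ⊔ B.orthogonal U),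
        L * v * L⁻¹ ∈ fixer B (S ⊔ B.orthogonal U) := fun {L} hL {S} hS v hv => by
    refine lev_conj_mem hL.1 (fun x hx => ?_) hv
    obtain ⟨a, ha, b, hb, rfl⟩ := Submodule.mem_sup.1 hx
    rw [map_add, hL.2 b hb]
    exact Submodule.add_mem_sup (hS a ha) hb
  obtain ⟨v₁, hv₁, hv₁e⟩ := exists_comm_eq (hnorm hL₁ hL₁W') hC₁.2 hu₁K
  obtain ⟨v₂, hv₂, hv₂e⟩ := exists_comm_eq (hnorm hL₂ (hmaps hL₂W)) hC₂.1 (inv_mem hu₂K)
  have hv₁U := fixer_antitone (B := B) le_sup_right hv₁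
  have hv₂U := fixer_antitone (B := B) le_sup_right hv₂
  refine ⟨v₁ * Δ * v₂⁻¹, mul_mem (mul_mem hv₁U hΔ) (inv_mem hv₂U), v₂ * L₂ * v₂⁻¹,
    mul_mem (mul_mem hv₂U hL₂) (inv_mem hv₂U), fun x hx => ?_⟩
  have e1 : v₁ * Δ * v₂⁻¹ * (v₂ * L₂ * v₂⁻¹) * (v₁ * Δ * v₂⁻¹)⁻¹ * (v₂ * L₂ * v₂⁻¹)⁻¹ =
      (v₁ * (Δ * L₂ * Δ⁻¹) * v₁⁻¹ * (Δ * L₂ * Δ⁻¹)⁻¹) * ((Δ * L₂ * Δ⁻¹) * L₂⁻¹) *
        (v₂ * L₂ * v₂⁻¹ * L₂⁻¹)⁻¹ := by group
  rw [e1, hconj', hv₁e, hv₂e, inv_inv, hu₂, mul_inv_cancel_left, hgUapp x hx]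
  rfl

end fd

end Cfsg.Agent.SpComm4
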