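import Cfsg.Agent.Lib.SpCommForm4

/-!
# The self-adjoint operator `g + g⁻¹` of an isometry of an alternating form

Its cyclic subspaces are totally isotropic, so invariant Lagrangians exist.
-/

set_option autoImplicit false
set_option linter.unusedSectionVars false

namespace Cfsg.Agent.SpComm4

open LinearMap Module Polynomial

variable {F V : Type*} [Field F] [AddCommGroup V] [Module F V]
variable {B : LinearMap.BilinForm F V}

/-- The operator `g + g⁻¹`. -/
def sOp (g : V ≃ₗ[F] V) : Module.End F V := (g : V →ₗ[F] V) + (g.symm : V →ₗ[F] V)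

theorem sOp_apply (g : V ≃ₗ[F] V) (v : V) : sOp g v = g v + g.symm v := rfl

/-- The subspace of polynomial images of a vector. -/
noncomputable def orb (T : Module.End F V) (v : V) : Submodule F V :=
  LinearMap.range ((LinearMap.applyₗ v).comp (aeval T).toLinearMap)

theorem mem_orb {T : Module.End F V} {v x : V} : x ∈ orb T v ↔ ∃ p : F[X], aeval T p v = x :=
  Iff.rfl

theorem self_mem_orb (T : Module.End F V) (v : V) : v ∈ orb T v := ⟨1, by simp⟩

theorem aeval_mem_orb (T : Module.End F V) (v : V) (p : F[X]) : aeval T p v ∈ orb T v := ⟨p, rfl⟩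

theorem aeval_mul_apply (T : Module.End F V) (p r : F[X]) (v : V) :
    aeval T (p * r) v = aeval T p (aeval T r v) := by
  rw [map_mul]; rfl

theorem maps_orb {T : Module.End F V} {v x : V} (hx : x ∈ orb T v) : T x ∈ orb T v := by
  obtain ⟨p, rfl⟩ := hx
  exact ⟨X * p, by simp⟩

theorem aeval_mem {T : Module.End F V} {U : Submodule F V} (hT : ∀ x ∈ U, T x ∈ U) (p : F[X])
    {x : V} (hx : x ∈ U) : aeval T p x ∈ U := by
  induction p using Polynomial.induction_on' with
  | add p q hp hq => rw [map_add]; exact add_mem hp hq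
  | monomial n a =>
    rw [aeval_monomial, Module.algebraMap_end_eq_smul_id]
    simp only [Module.End.mul_apply, LinearMap.smul_apply, LinearMap.id_apply]
    refine Submodule.smul_mem _ _ ?_
    induction n with
    | zero => simpa using hx
    | succ n ih => rw [pow_succ']; exact hT _ ih

theorem orb_le {T : Module.End F V} {U : Submodule F V} (hT : ∀ x ∈ U, T x ∈ U) {v : V}
    (hv : v ∈ U) : orb T v ≤ U := by
  rintro x ⟨p, rfl⟩
  exact aeval_mem hT p hv

theorem apply_aeval_comm {T L : Module.End F V} (h : L * T = T * L) (p : F[X]) (x : V) :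
    L (aeval T p x) = aeval T p (L x) := by
  have : Commute L (aeval T p) := by
    induction p using Polynomial.induction_on' with
    | add p q hp hq => rw [map_add]; exact hp.add_right hq
    | monomial n a =>
      rw [aeval_monomial]
      exact Commute.mul_right (Algebra.commutes a L).symm ((show Commute L T from h).pow_right n)
  exact LinearMap.congr_fun this.eq x

section iso

variable {g : V ≃ₗ[F] V} (hB : SpForm B) (hg : g ∈ isoGroup B)
include hB hg

theorem adj (v w : V) : B (g v) w = B v (g.symm w) := by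
  conv_lhs => rw [← g.apply_symm_apply w]
  exact hg v _

theorem adj' (v w : V) : B (g.symm v) w = B v (g w) := by
  conv_lhs => rw [← g.symm_apply_apply w]
  exact (inv_mem hg : g⁻¹ ∈ isoGroup B) v _

theorem sOp_selfAdj (v w : V) : B (sOp g v) w = B v (sOp g w) := by
  simp only [sOp_apply, map_add, LinearMap.add_apply, adj hB hg, adj' hB hg]
  ring

theorem aeval_selfAdj (p : F[X]) (v w : V) :
    B (aeval (sOp g) p v) w = B v (aeval (sOp g) p w) := by
  induction p using Polynomial.induction_on' with
  | add p q hp hq => simp only [map_add, LinearMap.add_apply, hp, hq]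
  | monomial n a =>
    simp only [aeval_monomial, Module.End.mul_apply, Module.algebraMap_end_apply, map_smul,
      LinearMap.smul_apply]
    congr 1
    induction n generalizing v w with
    | zero => simp
    | succ n ih =>
      conv_lhs => rw [pow_succ', Module.End.mul_apply]
      rw [sOp_selfAdj hB hg, ih, ← Module.End.mul_apply, ← pow_succ]

theorem sOp_alt (v : V) : B v (sOp g v) = 0 := by
  rw [sOp_apply, map_add, ← adj hB hg, hB.skew (g v) v]
  ring

theorem aeval_alt (p : F[X]) (v : V) : B v (aeval (sOp g) p v) = 0 := by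
  induction p using Polynomial.induction_on' with
  | add p q hp hq => simp [hp, hq]
  | monomial n a =>
    simp only [aeval_monomial, Module.End.mul_apply, Module.algebraMap_end_apply, map_smul,
      smul_eq_mul, mul_eq_zero]
    right
    have h1 : ∀ k x y, B ((sOp g ^ k) x) y = B x ((sOp g ^ k) y) := fun k x y => by
      simpa using aeval_selfAdj hB hg (X ^ k) x y
    rcases Nat.even_or_odd' n with ⟨k, rfl | rfl⟩
    · rw [two_mul, pow_add, Module.End.mul_apply, ← h1]
      exact hB.self _
    · rw [show 2 * k + 1 = k + (k + 1) by omega, pow_add, Module.End.mul_apply, ← h1, pow_succ',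
        Module.End.mul_apply]
      exact sOp_alt hB hg _

theorem isot_orb (v : V) : Isot B (orb (sOp g) v) := by
  rintro x ⟨p, rfl⟩ y ⟨r, rfl⟩
  show B (aeval (sOp g) p v) (aeval (sOp g) r v) = 0
  rw [aeval_selfAdj hB hg, ← aeval_mul_apply]
  exact aeval_alt hB hg _ v

theorem isot_orb_sup {v y : V} (h : ∀ x ∈ orb (sOp g) v, B x y = 0) :
    Isot B (orb (sOp g) v ⊔ orb (sOp g) y) := by
  refine isot_sup hB (isot_orb hB hg v) (isot_orb hB hg y) ?_
  rintro x hx z ⟨r, rfl⟩
  show B x (aeval (sOp g) r y) = 0
  rw [← aeval_selfAdj hB hg]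
  exact h _ (aeval_mem (fun _ => maps_orb) r hx)

omit hB hg in
theorem apply_sOp (v : V) : g (sOp g v) = sOp g (g v) := by
  simp [sOp_apply]

omit hB hg in
theorem apply_aeval_sOp (p : F[X]) (v : V) :
    g (aeval (sOp g) p v) = aeval (sOp g) p (g v) :=
  apply_aeval_comm (L := (g : V →ₗ[F] V))
    (LinearMap.ext fun x => by simp [Module.End.mul_apply, sOp_apply]) p v

omit hB hg in
theorem symm_apply_aeval_sOp (p : F[X]) (v : V) :
    g.symm (aeval (sOp g) p v) = aeval (sOp g) p (g.symm v) :=
  apply_aeval_comm (L := (g.symm : V →ₗ[F] V))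
    (LinearMap.ext fun x => by simp [Module.End.mul_apply, sOp_apply]) p v

omit hB hg in
theorem apply_apply (v : V) : g (g v) = g (sOp g v) - v := by
  simp [sOp_apply]

variable [FiniteDimensional F V]

theorem maps_sOp {U : Submodule F V} (hU : ∀ x ∈ U, g x ∈ U) {x : V} (hx : x ∈ U) :
    sOp g x ∈ U := add_mem (hU x hx) (symm_mem_of_le g hU hx)

theorem rperp_rperp {U S : Submodule F V} (hU : ND B U) (hS : S ≤ U) :
    rperp B U (rperp B U S) = S := by
  have h1 := finrank_rperp hB hU hS
  have hle : rperp B U S ≤ U := inf_le_right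
  have h2 := finrank_rperp hB hU hle
  refine (Submodule.eq_of_le_of_finrank_le (fun x hx => ?_) (by omega)).symm
  exact ⟨fun s hs => hB.eq_zero_comm (hs.1 x hx), hS hx⟩

/-- A totally isotropic invariant subspace extends to an invariant Lagrangian. -/
theorem exists_lag {U : Submodule F V} (hU : ND B U) (hgU : ∀ x ∈ U, g x ∈ U) :
    ∀ (n : ℕ) (S : Submodule F V), S ≤ U → Isot B S → (∀ x ∈ S, sOp g x ∈ S) →
      finrank F U - finrank F S ≤ n →
      ∃ W, S ≤ W ∧ W ≤ U ∧ Isot B W ∧ (∀ x ∈ W, sOp g x ∈ W) ∧
        2 * finrank F W = finrank F U := by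
  intro n
  induction n with
  | zero =>
    intro S hSU hS _ hn
    have := hS.two_mul_le hB hU hSU
    exact ⟨S, le_rfl, hSU, hS, by assumption, by omega⟩
  | succ n ih =>
    intro S hSU hS hinv hn
    have h2 := hS.two_mul_le hB hU hSU
    by_cases heq : 2 * finrank F S = finrank F U
    · exact ⟨S, le_rfl, hSU, hS, hinv, heq⟩
    obtain ⟨x, hx, hxS⟩ : ∃ x ∈ rperp B U S, x ∉ S := by
      by_contra h
      push Not at h
      have h1 := finrank_rperp hB hU hSU
      have h3 := Submodule.finrank_mono (show rperp B U S ≤ S from h)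
      omega
    set S' := S ⊔ orb (sOp g) x
    have hS'U : S' ≤ U := sup_le hSU (orb_le (fun y hy => maps_sOp hB hg hgU hy) hx.2)
    have hlt : finrank F S < finrank F S' :=
      Submodule.finrank_lt_finrank_of_lt (lt_of_le_of_ne le_sup_left fun h =>
        hxS (h ▸ Submodule.mem_sup_right (self_mem_orb _ x)))
    have hS' : Isot B S' := by
      refine isot_sup hB hS (isot_orb hB hg x) ?_
      rintro s hs z ⟨p, rfl⟩
      show B s (aeval (sOp g) p x) = 0
      rw [← aeval_selfAdj hB hg]
      exact hx.1 _ (aeval_mem hinv p hs)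
    obtain ⟨W, hW, hW'⟩ := ih S' hS'U hS' (fun y hy => by
      obtain ⟨a, ha, b, hb, rfl⟩ := Submodule.mem_sup.1 hy
      rw [map_add]
      exact add_mem (Submodule.mem_sup_left (hinv a ha)) (Submodule.mem_sup_right (maps_orb hb)))
      (by omega)
    exact ⟨W, le_sup_left.trans hW, hW'⟩

theorem beta_symm {W : Submodule F V} (hW : Isot B W) (hinv : ∀ x ∈ W, sOp g x ∈ W) {x y : V}
    (hx : x ∈ W) (hy : y ∈ W) : B (g x) y = B (g y) x := by
  have h := hW _ (hinv x hx) y hy
  rw [sOp_apply, map_add, LinearMap.add_apply, adj' hB hg, hB.skew x (g y)] at h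
  linear_combination h

end iso

end Cfsg.Agent.SpComm4
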