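import Cfsg.Agent.Lib.SpCommUni4

/-!
# Every isometry of an alternating form splits into polarised data and a part where it is `-1`

Primary decomposition for `g + g⁻¹`, cyclic blocks, and unipotent blocks.
-/

set_option autoImplicit false
set_option linter.unusedSectionVars false

namespace Cfsg.Agent.SpComm4

open LinearMap Module Polynomial

variable {F V : Type*} [Field F] [AddCommGroup V] [Module F V]
variable {B : LinearMap.BilinForm F V}

theorem aeval_restrict_apply {T : Module.End F V} {U : Submodule F V} (hT : ∀ x ∈ U, T x ∈ U)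
    (p : F[X]) (x : U) : (aeval (T.restrict hT) p x : V) = aeval T p x := by
  induction p using Polynomial.induction_on' with
  | add p q hp hq => simp [hp, hq]
  | monomial n a =>
    simp only [aeval_monomial, Module.End.mul_apply, Module.algebraMap_end_apply,
      SetLike.val_smul]
    congr 1
    induction n with
    | zero => simp
    | succ n ih => simp [pow_succ', Module.End.mul_apply, ih]

theorem exists_smul_mul_of_not_dvd {π b : F[X]} {d : ℕ} (hπ : Irreducible π)
    (hb : ¬ π ^ d ∣ b) : ∃ r w : F[X], b * r = π ^ (d - 1) + w * π ^ d := by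
  have hb0 : b ≠ 0 := by rintro rfl; exact hb (dvd_zero _)
  obtain ⟨i, c, hc, rfl⟩ := WfDvdMonoid.max_power_factor hb0 hπ
  have hi : i < d := by
    by_contra hle
    exact hb (dvd_mul_of_dvd_left (pow_dvd_pow π (by omega)) c)
  obtain ⟨u, w, huw⟩ := ((hπ.coprime_iff_not_dvd).2 hc).pow_left (m := d)
  refine ⟨π ^ (d - 1 - i) * w, -(π ^ (d - 1) * u), ?_⟩
  have e : π ^ i * π ^ (d - 1 - i) = π ^ (d - 1) := by
    rw [← pow_add]; congr 1; omega
  calc π ^ i * c * (π ^ (d - 1 - i) * w) = (π ^ i * π ^ (d - 1 - i)) * (w * c) := by ring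
    _ = π ^ (d - 1) * (w * c) := by rw [e]
    _ = _ := by linear_combination π ^ (d - 1) * huw

variable [FiniteDimensional F V] {g : V ≃ₗ[F] V} (hB : SpForm B) (hg : g ∈ isoGroup B)
include hB hg

/-- The case of an invariant Lagrangian whose moved invariant part is a line where `g = -1`. -/
theorem hasDec_refl {X W : Submodule F V} (hX : ND B X) (hgX : ∀ x ∈ X, g x ∈ X) (hWX : W ≤ X)
    (hW : Isot B W) (hinv : ∀ x ∈ W, sOp g x ∈ W) (hd : 2 * finrank F W = finrank F X)
    {z : V} (hz : z ≠ 0) (hzW : z ∈ W) (hgz : g z = -z)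
    (hK : ∀ w ∈ W, g w ∈ W → ∃ a : F, w = a • z) (h3 : 3 ≤ finrank F W) (h2 : (2 : F) ≠ 0) :
    HasDec B g X := by
  obtain ⟨u, hu, huu⟩ : ∃ u ∈ W, B (g u) u ≠ 0 := by
    by_contra hcon
    push Not at hcon
    have hWz : W ≤ Submodule.span F {z} := by
      intro x hx
      obtain ⟨a, rfl⟩ := hK x hx (by
        rw [← hW.rperp_eq hB hX hWX hd]
        refine ⟨fun y hy => hB.eq_zero_comm ?_, hgX x (hWX hx)⟩
        have h1 := hcon (x + y) (add_mem hx hy)
        simp only [map_add, LinearMap.add_apply, hcon x hx, hcon y hy,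
          beta_symm hB hg hW hinv hy hx, zero_add, add_zero] at h1
        rw [← two_mul] at h1
        exact (mul_eq_zero.1 h1).resolve_left h2)
      exact Submodule.smul_mem _ _ (Submodule.mem_span_singleton_self z)
    have := Submodule.finrank_mono hWz
    rw [finrank_span_singleton hz] at this
    omega
  set Z := W ⊓ LinearMap.ker (B (g u)) with hZ
  have hbz : ∀ x ∈ W, B (g z) x = 0 := fun x hx => by
    rw [hgz]; simp [hW z hzW x hx]
  have hzZ : z ∈ Z := ⟨hzW, by
    rw [SetLike.mem_coe, LinearMap.mem_ker, beta_symm hB hg hW hinv hu hzW]; exact hbz u hu⟩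
  obtain ⟨C, hC⟩ := Submodule.exists_isCompl (Submodule.span F {z})
  set Wp := Z ⊓ C with hWp
  set Wm := Submodule.span F {z} ⊔ Submodule.span F {u} with hWm
  have hzle : Submodule.span F {z} ≤ Z := (Submodule.span_singleton_le_iff_mem _ _).2 hzZ
  have hpZ : Submodule.span F {z} ⊔ Wp = Z := by
    rw [hWp, inf_comm, ← sup_inf_assoc_of_le _ hzle, hC.sup_eq_top, top_inf_eq]
  have hWpW : Wp ≤ W := inf_le_left.trans inf_le_left
  have hWmW : Wm ≤ W := sup_le ((Submodule.span_singleton_le_iff_mem _ _).2 hzW)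
    ((Submodule.span_singleton_le_iff_mem _ _).2 hu)
  have hsup : Wp ⊔ Wm = W := by
    refine le_antisymm (sup_le hWpW hWmW) fun x hx => ?_
    set c := B (g u) x / B (g u) u with hc
    have h1 : x - c • u ∈ Submodule.span F {z} ⊔ Wp := by
      rw [hpZ]
      refine ⟨sub_mem hx (Submodule.smul_mem _ _ hu), ?_⟩
      rw [SetLike.mem_coe, LinearMap.mem_ker, map_sub, map_smul, smul_eq_mul, hc,
        div_mul_cancel₀ _ huu, sub_self]
    obtain ⟨a, ha, b, hb, hab⟩ := Submodule.mem_sup.1 h1
    rw [show x = b + (a + c • u) by linear_combination (norm := abel) -hab]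
    exact Submodule.add_mem_sup hb (Submodule.add_mem_sup ha
      (Submodule.smul_mem _ _ (Submodule.mem_span_singleton_self u)))
  have hdis : Disjoint Wp Wm := by
    refine Submodule.disjoint_def.2 fun x hx hx' => ?_
    obtain ⟨a, ha, b, hb, rfl⟩ := Submodule.mem_sup.1 hx'
    obtain ⟨c, rfl⟩ := Submodule.mem_span_singleton.1 hb
    have hca : B (g u) a = 0 := (hzle ha).2
    have hx0 : B (g u) (a + c • u) = 0 := hx.1.2
    rw [map_add, map_smul, hca, zero_add, smul_eq_mul, mul_eq_zero] at hx0
    obtain rfl := hx0.resolve_right huu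
    rw [zero_smul, add_zero] at hx ⊢
    exact Submodule.disjoint_def.1 hC.disjoint a ha hx.2
  have hdm : finrank F Wm = 2 := by
    rw [hWm, finrank_sup_of_disjoint, finrank_span_singleton hz, finrank_span_singleton]
    · rintro rfl; simp at huu
    · refine Submodule.disjoint_def.2 fun x hx hx' => ?_
      obtain ⟨c, rfl⟩ := Submodule.mem_span_singleton.1 hx'
      have h1 : B (g u) (c • u) = 0 := (hzle hx).2
      rw [map_smul, smul_eq_mul, mul_eq_zero] at h1
      rw [h1.resolve_right huu, zero_smul]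
  have hdp : finrank F Wp + 2 = finrank F W := by
    rw [← hdm, ← finrank_sup_of_disjoint hdis, hsup]
  have hcross : ∀ a ∈ Wp, ∀ b ∈ Wm, B (g a) b = 0 := by
    intro a ha b hb
    obtain ⟨z₁, hz₁, u₁, hu₁, rfl⟩ := Submodule.mem_sup.1 hb
    obtain ⟨c₁, rfl⟩ := Submodule.mem_span_singleton.1 hz₁
    obtain ⟨c₂, rfl⟩ := Submodule.mem_span_singleton.1 hu₁
    rw [map_add, map_smul, map_smul, beta_symm hB hg hW hinv (hWpW ha) hzW,
      beta_symm hB hg hW hinv (hWpW ha) hu, hbz a (hWpW ha), show B (g u) a = 0 from ha.1.2]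
    simp
  refine hasDec_of_dia hX hgX ⟨hsup.symm ▸ hWX, hdis, hsup.symm ▸ hW, hsup.symm ▸ hd, ?_, ?_⟩
    ⟨1, by omega, by omega⟩ fun h => absurd h h2
  · refine isot_sup hB ?_ ?_ ?_
    · rintro _ ⟨a, ha, rfl⟩ _ ⟨b, hb, rfl⟩
      simp only [LinearMap.sub_apply, LinearEquiv.coe_coe, LinearMap.id_coe, id_eq, map_sub,
        hg a b, hW a (hWpW ha) b (hWpW hb), beta_symm hB hg hW hinv (hWpW ha) (hWpW hb)]
      rw [hB.skew a (g b)]
      ring
    · rintro _ ⟨a, ha, rfl⟩ _ ⟨b, hb, rfl⟩
      simp only [LinearMap.add_apply, LinearEquiv.coe_coe, LinearMap.id_coe, id_eq, map_add,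
        hg a b, hW a (hWmW ha) b (hWmW hb), beta_symm hB hg hW hinv (hWmW ha) (hWmW hb)]
      rw [hB.skew a (g b)]
      ring
    · rintro _ ⟨a, ha, rfl⟩ _ ⟨b, hb, rfl⟩
      simp only [LinearMap.add_apply, LinearMap.sub_apply, LinearEquiv.coe_coe, LinearMap.id_coe,
        id_eq, map_add, map_sub, hg a b, hW a (hWpW ha) b (hWmW hb), hcross a ha b hb]
      rw [hB.skew a (g b), beta_symm hB hg hW hinv (hWmW hb) (hWpW ha), hcross a ha b hb]
      ring
  · rw [hsup]
    refine Submodule.disjoint_def.2 fun x hx hx' => ?_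
    obtain ⟨_, ⟨a, ha, rfl⟩, _, ⟨b, hb, rfl⟩, rfl⟩ := Submodule.mem_sup.1 hx'
    simp only [LinearMap.add_apply, LinearMap.sub_apply, LinearEquiv.coe_coe, LinearMap.id_coe,
      id_eq] at hx ⊢
    obtain ⟨c, hc⟩ := hK (a + b) (add_mem (hWpW ha) (hWmW hb)) (by
      have := add_mem (sub_mem hx (hWmW hb)) (hWpW ha)
      rw [map_add]; convert this using 1; abel)
    have ha0 : a = 0 := Submodule.disjoint_def.1 hdis a ha (by
      rw [eq_sub_of_add_eq hc]
      exact sub_mem (Submodule.mem_sup_left (Submodule.smul_mem _ _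
        (Submodule.mem_span_singleton_self z))) hb)
    rw [ha0, zero_add] at hc
    simp [ha0, hc, hgz]

/-- The splitting on every invariant nondegenerate subspace. -/
theorem exists_dec : ∀ (n : ℕ) (U : Submodule F V), ND B U → (∀ x ∈ U, g x ∈ U) →
    finrank F U ≤ n → HasDec B g U := by
  intro n
  induction n with
  | zero =>
    intro U hU hgU hn
    obtain rfl : U = ⊥ := Submodule.finrank_eq_zero.1 (by omega)
    exact hasDec_of_dia hU hgU (dia_bot g) ⟨0, by simp, Nat.zero_le _⟩ fun _ => rfl
  | succ n ih =>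
    intro U hU hgU hn
    by_cases hU0 : U = ⊥
    · subst hU0
      exact ih _ hU hgU (by simp)
    -- it suffices to treat a nonzero invariant nondegenerate part
    suffices H : ∃ X ≤ U, X ≠ ⊥ ∧ ND B X ∧ (∀ x ∈ X, g x ∈ X) ∧ HasDec B g X by
      obtain ⟨X, hXU, hX0, hX, hgX, hdec⟩ := H
      obtain ⟨hnd, hsup, -⟩ := nd_rperp hB hU hXU hX
      have hr := finrank_rperp hB hU hXU
      have hpos : 0 < finrank F X := Nat.pos_of_ne_zero fun h => hX0 (Submodule.finrank_eq_zero.1 h)
      rw [← hsup]
      exact hdec.sup hB inf_le_left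
        (ih _ hnd (fun x hx => ⟨maps_orthogonal hg hgX hx.1, hgU x hx.2⟩) (by omega))
    set s := sOp g with hs
    have hsU : ∀ x ∈ U, s x ∈ U := fun x hx => maps_sOp hB hg hgU hx
    have hgp : ∀ (p : F[X]) (x : V), g (aeval s p x) = aeval s p (g x) := fun p x =>
      apply_aeval_sOp p x
    haveI : Nontrivial U := Submodule.nontrivial_iff_ne_bot.2 hU0
    set T : Module.End F U := s.restrict hsU
    set μ := minpoly F T
    have hμ0 : μ ≠ 0 := minpoly.ne_zero (Algebra.IsIntegral.isIntegral T)
    have hann : ∀ x ∈ U, aeval s μ x = 0 := fun x hx => by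
      rw [← aeval_restrict_apply hsU μ ⟨x, hx⟩, minpoly.aeval]
      rfl
    have hmin : ∀ p : F[X], (∀ x ∈ U, aeval s p x = 0) → μ ∣ p := fun p hp =>
      minpoly.dvd F T (LinearMap.ext fun x => Subtype.ext (by
        rw [aeval_restrict_apply hsU p x, hp x x.2]; rfl))
    obtain ⟨π, hπm, hπ, hπμ⟩ := Polynomial.exists_monic_irreducible_factor μ
      (minpoly.not_isUnit F T)
    obtain ⟨d, R, hR, hμ⟩ := WfDvdMonoid.max_power_factor hμ0 hπ
    have hd1 : 1 ≤ d := Nat.pos_of_ne_zero fun h => hR (by rwa [hμ, h, pow_zero, one_mul] at hπμ)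
    have hπd : π ^ d ∣ μ := ⟨R, hμ⟩
    by_cases hpd : ∀ x ∈ U, aeval s (π ^ d) x = 0
    swap
    · -- coprime splitting
      obtain ⟨u, w, huw⟩ := ((hπ.coprime_iff_not_dvd).2 hR).pow_left (m := d)
      set X₁ := U ⊓ LinearMap.ker (aeval s (π ^ d)) with hX₁
      set X₂ := U ⊓ LinearMap.ker (aeval s R) with hX₂
      have hsplit : ∀ x, x = aeval s u (aeval s (π ^ d) x) + aeval s w (aeval s R x) := fun x => by
        rw [← aeval_mul_apply, ← aeval_mul_apply, ← LinearMap.add_apply, ← map_add, huw, map_one,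
          Module.End.one_apply]
      have horth : ∀ x ∈ X₁, ∀ y ∈ X₂, B x y = 0 := by
        intro x hx y hy
        rw [hsplit y, show aeval s R y = 0 from hy.2, map_zero, add_zero, ← aeval_selfAdj hB hg,
          ← aeval_selfAdj hB hg, ← aeval_mul_apply, mul_comm, aeval_mul_apply,
          show aeval s (π ^ d) x = 0 from hx.2]
        simp
      have hsup : X₁ ⊔ X₂ = U := by
        refine le_antisymm (sup_le inf_le_left inf_le_left) fun x hx => ?_
        rw [hsplit x, add_comm]
        refine Submodule.add_mem_sup ⟨aeval_mem hsU _ (aeval_mem hsU _ hx), ?_⟩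
          ⟨aeval_mem hsU _ (aeval_mem hsU _ hx), ?_⟩
        · rw [SetLike.mem_coe, LinearMap.mem_ker, ← aeval_mul_apply, ← aeval_mul_apply,
            show π ^ d * w * R = w * μ by rw [hμ]; ring, aeval_mul_apply, hann x hx, map_zero]
        · rw [SetLike.mem_coe, LinearMap.mem_ker, ← aeval_mul_apply, ← aeval_mul_apply,
            show R * u * π ^ d = u * μ by rw [hμ]; ring, aeval_mul_apply, hann x hx, map_zero]
      have hnd₁ : ND B X₁ := Submodule.disjoint_def.2 fun x hx hx' =>
        hU.eq_zero hx.1 fun y hy => by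
          rw [← hsup] at hy
          obtain ⟨a, ha, b, hb, rfl⟩ := Submodule.mem_sup.1 hy
          rw [map_add, LinearMap.add_apply, hx' a ha, hB.eq_zero_comm (horth x hx b hb), add_zero]
      have hnd₂ : ND B X₂ := Submodule.disjoint_def.2 fun x hx hx' =>
        hU.eq_zero hx.1 fun y hy => by
          rw [← hsup] at hy
          obtain ⟨a, ha, b, hb, rfl⟩ := Submodule.mem_sup.1 hy
          rw [map_add, LinearMap.add_apply, hx' b hb, horth a ha x hx, add_zero]
      have hlt₁ : finrank F X₁ < finrank F U := Submodule.finrank_lt_finrank_of_lt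
        (lt_of_le_of_ne inf_le_left fun h => hpd fun x hx => (h.symm ▸ hx : x ∈ X₁).2)
      have hlt₂ : finrank F X₂ < finrank F U := Submodule.finrank_lt_finrank_of_lt
        (lt_of_le_of_ne inf_le_left fun h => hR ((dvd_pow_self π (by omega : d ≠ 0)).trans
          (hπd.trans (hmin R fun x hx => (h.symm ▸ hx : x ∈ X₂).2))))
      have hinv : ∀ (p : F[X]), ∀ x ∈ U ⊓ LinearMap.ker (aeval s p),
          g x ∈ U ⊓ LinearMap.ker (aeval s p) := fun p x hx => ⟨hgU x hx.1, by
        rw [SetLike.mem_coe, LinearMap.mem_ker, ← hgp, show aeval s p x = 0 from hx.2, map_zero]⟩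
      refine ⟨U, le_rfl, hU0, hU, hgU, ?_⟩
      rw [← hsup]
      exact (ih X₁ hnd₁ (hinv _) (by omega)).sup hB
        (fun y hy x hx => horth x hx y hy) (ih X₂ hnd₂ (hinv _) (by omega))
    set M := aeval s (π ^ (d - 1)) with hM
    have hMU : ∀ x ∈ U, M x ∈ U := fun x hx => aeval_mem hsU _ hx
    have hM0 : ¬ ∀ x ∈ U, M x = 0 := fun h => by
      have h1 := (pow_dvd_pow_iff hπ.ne_zero hπ.not_isUnit).1 (hπd.trans (hmin _ h))
      omega
    by_cases hcase : ∃ v ∈ U, B (g (M v)) v ≠ 0
    · -- the cyclic block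
      obtain ⟨v, hv, hgMv⟩ := hcase
      set O := orb s v with hO
      set O' := orb s (g v) with hO'
      have hOU : O ≤ U := orb_le hsU hv
      have hO'U : O' ≤ U := orb_le hsU (hgU v hv)
      have hkey : ∀ b : F[X], (∀ r : F[X], B (aeval s (b * r) v) (g v) = 0) →
          aeval s b v = 0 := by
        intro b hb
        by_cases hdvd : π ^ d ∣ b
        · obtain ⟨c, rfl⟩ := hdvd
          rw [mul_comm, aeval_mul_apply, hpd v hv, map_zero]
        obtain ⟨r, w, hr⟩ := exists_smul_mul_of_not_dvd hπ hdvd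
        have h1 := hb r
        rw [hr, map_add, LinearMap.add_apply, mul_comm w, aeval_mul_apply,
          hpd _ (aeval_mem hsU _ hv), add_zero, ← hM, ← adj' hB hg,
          show g.symm (M v) = s (M v) - g (M v) by simp [hs, sOp_apply], map_sub,
          LinearMap.sub_apply, show B (s (M v)) v = 0 by
            have := aeval_alt hB hg (X * π ^ (d - 1)) v
            rw [aeval_mul_apply, aeval_X] at this
            exact hB.eq_zero_comm this, zero_sub, neg_eq_zero] at h1
        exact absurd h1 hgMv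
      have hrad : ∀ a b : F[X], (∀ y ∈ O ⊔ O', B y (aeval s a v + aeval s b (g v)) = 0) →
          aeval s a v = 0 ∧ aeval s b (g v) = 0 := by
        intro a b hab
        have hb0 : aeval s b v = 0 := hkey b fun r => by
          have h1 := hab (aeval s r v) (Submodule.mem_sup_left (aeval_mem_orb s v r))
          rw [map_add, isot_orb hB hg v _ (aeval_mem_orb s v r) _ (aeval_mem_orb s v a), zero_add,
            ← aeval_selfAdj hB hg, ← aeval_mul_apply] at h1
          exact h1
        have hb1 : aeval s b (g v) = 0 := by rw [← hgp, hb0, map_zero]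
        refine ⟨hkey a fun r => ?_, hb1⟩
        have h1 := hab (aeval s r (g v)) (Submodule.mem_sup_right (aeval_mem_orb s (g v) r))
        rw [hb1, add_zero, aeval_selfAdj hB hg, ← aeval_mul_apply, mul_comm] at h1
        exact hB.eq_zero_comm h1
      have hgX : ∀ x ∈ O ⊔ O', g x ∈ O ⊔ O' := by
        intro x hx
        obtain ⟨_, ⟨a, rfl⟩, _, ⟨b, rfl⟩, rfl⟩ := Submodule.mem_sup.1 hx
        show g (aeval s a v + aeval s b (g v)) ∈ O ⊔ O'
        rw [map_add, hgp, hgp, apply_apply, map_sub, apply_sOp]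
        refine add_mem (Submodule.mem_sup_right (aeval_mem_orb _ _ _)) (sub_mem
          (Submodule.mem_sup_right ?_) (Submodule.mem_sup_left (aeval_mem_orb _ _ _)))
        exact aeval_mem (fun _ => maps_orb) _ (maps_orb (self_mem_orb _ _))
      have hXnd : ND B (O ⊔ O') := by
        refine Submodule.disjoint_def.2 fun x hx hx' => ?_
        obtain ⟨_, ⟨a, rfl⟩, _, ⟨b, rfl⟩, rfl⟩ := Submodule.mem_sup.1 hx
        obtain ⟨h1, h2⟩ := hrad a b hx'
        show aeval s a v + aeval s b (g v) = 0
        rw [h1, h2, add_zero]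
      have hdis : Disjoint O O' := by
        refine Submodule.disjoint_def.2 fun x hx hx' => ?_
        obtain ⟨a, rfl⟩ := hx
        obtain ⟨b, hb⟩ := hx'
        change aeval s b (g v) = aeval s a v at hb
        exact (hrad a (-b) fun y _ => by simp [hb]).1
      have hdim : finrank F O' = finrank F O := by
        suffices heq : O' = O.map (g : V →ₗ[F] V) by rw [heq, g.finrank_map_eq]
        refine le_antisymm ?_ ?_
        · rintro _ ⟨b, rfl⟩
          exact ⟨aeval s b v, aeval_mem_orb s v b, hgp b v⟩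
        · rintro _ ⟨_, ⟨b, rfl⟩, rfl⟩
          exact ⟨b, (hgp b v).symm⟩
      refine ⟨O ⊔ O', sup_le hOU hO'U, ?_, hXnd, hgX, ?_⟩
      · refine (Submodule.ne_bot_iff _).2 ⟨v, Submodule.mem_sup_left (self_mem_orb _ _), ?_⟩
        rintro rfl
        simp at hgMv
      · refine hasDec_one hB hg hXnd hgX le_sup_left (isot_orb hB hg v) (fun x hx => maps_orb hx)
          (by rw [finrank_sup_of_disjoint hdis, hdim, two_mul]) fun w hw hgw => ?_
        obtain ⟨a, rfl⟩ := mem_orb.1 hw
        have h0 : g (aeval s a v) = 0 :=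
          Submodule.disjoint_def.1 hdis _ hgw ⟨a, (hgp a v).symm⟩
        rw [(map_eq_zero_iff g g.injective).1 h0, map_zero]
    -- the unipotent case
    push Not at hcase
    have hgg : ∀ x ∈ U, g (g (M x)) = M x := by
      intro x hx
      suffices h : g (M x) - g.symm (M x) = 0 by
        rw [sub_eq_zero] at h; rw [h, g.apply_symm_apply]
      refine hU.eq_zero (sub_mem (hgU _ (hMU x hx)) (symm_mem_of_le g hgU (hMU x hx)))
        fun y hy => hB.eq_zero_comm ?_
      have h1 := hcase (x + y) (add_mem hx hy)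
      simp only [map_add, LinearMap.add_apply, hcase x hx, hcase y hy, zero_add, add_zero] at h1
      rw [hB.skew (g (M y)) x, ← adj' hB hg, hM, ← aeval_selfAdj hB hg,
        ← symm_apply_aeval_sOp, ← hM] at h1
      rw [map_sub, LinearMap.sub_apply]
      linear_combination h1
    obtain ⟨ε, hε, hπε⟩ : ∃ ε : F, (ε = 1 ∨ ε = -1 ∧ (2 : F) ≠ 0) ∧ π = X - C (2 * ε) := by
      have h4 : μ ∣ (X - C 2) * (X - C (-2)) * π ^ (d - 1) := hmin _ fun x hx => by
        have h1 : g.symm (M x) = g (M x) := by
          rw [LinearEquiv.symm_apply_eq]; exact (hgg x hx).symm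
        have h2 : ∀ y, s (s y) = g (g y) + y + (g.symm (g.symm y) + y) := fun y => by
          simp [hs, sOp_apply, add_comm, add_left_comm]
        have h3 : g.symm (g.symm (M x)) = M x := by
          rw [h1, g.symm_apply_apply]
        rw [aeval_mul_apply, ← hM, show (X - C (2 : F)) * (X - C (-2)) = X ^ 2 - C 4 by
          rw [map_neg, show (4 : F) = 2 * 2 by norm_num, map_mul]; ring]
        rw [map_sub, map_pow, aeval_X, aeval_C, LinearMap.sub_apply, Module.algebraMap_end_apply,
          pow_two, Module.End.mul_apply, h2, hgg x hx, h3, sub_eq_zero]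
        rw [show (4 : F) = 1 + 1 + (1 + 1) by norm_num, add_smul, add_smul, one_smul]
      have h5 : π ∣ (X - C 2) * (X - C (-2)) := by
        refine (mul_dvd_mul_iff_right (pow_ne_zero (d - 1) hπ.ne_zero)).1 ?_
        rw [← pow_succ', Nat.sub_add_cancel hd1]
        exact hπd.trans h4
      have heq : ∀ c : F, π ∣ X - C c → π = X - C c := fun c hc => by
        exact eq_of_monic_of_associated hπm (monic_X_sub_C c)
          (hπ.associated_of_dvd (irreducible_X_sub_C c) hc)
      rcases hπ.prime.dvd_or_dvd h5 with h | h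
      · exact ⟨1, Or.inl rfl, by rw [mul_one]; exact heq _ h⟩
      · by_cases h2 : (2 : F) = 0
        · exact ⟨1, Or.inl rfl, by rw [heq _ h, h2]; simp⟩
        · exact ⟨-1, Or.inr ⟨rfl, h2⟩, by rw [heq _ h, mul_neg_one]⟩
    have hεε : ε * ε = 1 := by rcases hε with rfl | ⟨rfl, -⟩ <;> ring
    obtain ⟨h, hh, happ⟩ : ∃ h : V ≃ₗ[F] V, h ∈ isoGroup B ∧ ∀ x, h x = ε • g x := by
      obtain ⟨h, hh, he⟩ := exists_isometry hB (ε • (g : V →ₗ[F] V)) fun a b => by
        simp only [LinearMap.smul_apply, LinearEquiv.coe_coe, map_smul, smul_eq_mul, hg a b,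
          ← mul_assoc, hεε, one_mul]
      exact ⟨h, hh, fun x => he x⟩
    have hsh : ∀ x, sOp h x = ε • s x := fun x => by
      have h1 : h.symm x = ε • g.symm x := by
        rw [LinearEquiv.symm_apply_eq, happ, map_smul, g.apply_symm_apply, smul_smul, hεε,
          one_smul]
      rw [sOp_apply, h1, happ, hs, sOp_apply, smul_add]
    have hhU : ∀ x ∈ U, h x ∈ U := fun x hx => happ x ▸ Submodule.smul_mem _ _ (hgU x hx)
    set H : Module.End F V := (h : V →ₗ[F] V) with hH
    set N : Module.End F V := H - 1 with hN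
    have hNx : ∀ x, N x = h x - x := fun x => rfl
    have hHN : Commute H N := (Commute.refl H).sub_right (Commute.one_right H)
    have hN2 : ∀ x, N (N x) = ε • H (aeval s π x) := fun x => by
      have h1 := apply_apply (g := h) x
      rw [hNx, hNx, map_sub, h1, hsh, hπε, map_sub, aeval_X, aeval_C, LinearMap.sub_apply,
        Module.algebraMap_end_apply, map_sub, map_smul, map_smul, hH, LinearEquiv.coe_coe,
        smul_sub, smul_smul, show ε * (2 * ε) = 2 * (ε * ε) by ring, hεε, mul_one, two_smul]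
      abel
    have hHp : ∀ (p : F[X]) x, aeval s p (H x) = H (aeval s p x) := fun p x => by
      show aeval s p (h x) = h (aeval s p x)
      rw [happ, happ, map_smul, hgp]
    have hpow : ∀ (k : ℕ) x, (N ^ (2 * k)) x = ε ^ k • (H ^ k) (aeval s (π ^ k) x) := by
      intro k
      induction k with
      | zero => intro x; simp
      | succ k ihk =>
        intro x
        rw [mul_add, mul_one, pow_add, Module.End.mul_apply, pow_two, Module.End.mul_apply, ihk,
          hN2, map_smul, hHp, map_smul, smul_smul, ← pow_succ, pow_succ π, aeval_mul_apply,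
          pow_succ H, Module.End.mul_apply]
    have hHinj : ∀ (k : ℕ) (a b : V), (H ^ k) a = (H ^ k) b → a = b := fun k => by
      induction k with
      | zero => simp
      | succ k ihk =>
        intro a b hab
        rw [pow_succ, Module.End.mul_apply, Module.End.mul_apply] at hab
        exact h.injective (ihk _ _ hab)
    classical
    have hex : ∃ e, ∀ x ∈ U, (N ^ e) x = 0 :=
      ⟨2 * d, fun x hx => by rw [hpow, hpd x hx, map_zero, smul_zero]⟩
    set e := Nat.find hex with he
    have hNe : ∀ x ∈ U, (N ^ e) x = 0 := Nat.find_spec hex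
    have he2 : e ≤ 2 * d := Nat.find_min' hex fun x hx => by
      rw [hpow, hpd x hx, map_zero, smul_zero]
    have he1 : 2 * (d - 1) < e := by
      by_contra hle
      refine hM0 fun x hx => ?_
      have h1 : (N ^ (2 * (d - 1))) x = 0 := by
        rw [← Nat.sub_add_cancel (not_lt.1 hle), pow_add, Module.End.mul_apply, hNe x hx, map_zero]
      rw [hpow, smul_eq_zero] at h1
      rcases h1 with h1 | h1
      · exact absurd (eq_zero_of_pow_eq_zero h1) (by rintro rfl; simp at hεε)
      · exact hHinj _ _ 0 (h1.trans (map_zero _).symm)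
    have hsoc : ∀ x ∈ U, B ((N ^ (e - 1)) x) x = 0 := by
      intro x hx
      obtain ⟨r, hr, hr1⟩ : ∃ r, e - 1 = r + 2 * (d - 1) ∧ r ≤ 1 :=
        ⟨e - 1 - 2 * (d - 1), by omega, by omega⟩
      have h1 : (N ^ (e - 1)) x = ε ^ (d - 1) • (H ^ (d - 1)) ((N ^ r) (M x)) := by
        rw [hr, pow_add, Module.End.mul_apply, hpow, map_smul, ← hM, ← Module.End.mul_apply,
          ← ((hHN.pow_pow (d - 1) r)).eq, Module.End.mul_apply]
      have h2 : N ((N ^ r) (M x)) = 0 := by
        have h3 : N ((N ^ (e - 1)) x) = 0 := by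
          rw [← Module.End.mul_apply, ← pow_succ', Nat.sub_add_cancel (by omega)]
          exact hNe x hx
        rw [h1, map_smul, smul_eq_zero, ← Module.End.mul_apply, ← (hHN.pow_left (d - 1)).eq,
          Module.End.mul_apply] at h3
        rcases h3 with h3 | h3
        · exact absurd (eq_zero_of_pow_eq_zero h3) (by rintro rfl; simp at hεε)
        · exact hHinj _ _ 0 (h3.trans (map_zero _).symm)
      have h4 : ∀ k (y : V), N y = 0 → (H ^ k) y = y := fun k y hy => by
        induction k with
        | zero => simp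
        | succ k ihk =>
          rw [pow_succ, Module.End.mul_apply]
          rw [show H y = y from sub_eq_zero.1 (by rw [← hy]; rfl), ihk]
      have hMx : B (M x) x = 0 := hB.eq_zero_comm (aeval_alt hB hg _ x)
      rw [h1, h4 _ _ h2, map_smul, LinearMap.smul_apply, smul_eq_mul]
      refine mul_eq_zero_of_right _ ?_
      interval_cases r
      · simpa using hMx
      · rw [pow_one, hNx, map_sub, LinearMap.sub_apply, happ, map_smul, LinearMap.smul_apply,
          hcase x hx, hMx]
        simp
    by_cases hee : e ≤ 1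
    · have hfix : ∀ x ∈ U, g x = ε • x := fun x hx => by
        have h1 : N x = 0 := by simpa [show e = 1 by omega] using hNe x hx
        rw [hNx, happ, sub_eq_zero] at h1
        calc g x = ε • ε • g x := by rw [smul_smul, hεε, one_smul]
          _ = ε • x := by rw [h1]
      refine ⟨U, le_rfl, hU0, hU, hgU, ?_⟩
      rcases hε with rfl | ⟨rfl, h2⟩
      · obtain ⟨W, -, hWU, hW, hWinv, hWd⟩ := exists_lag hB hg hU hgU _ ⊥ bot_le
          (fun x hx y _ => by simp [(Submodule.mem_bot F).1 hx]) (fun x hx => by simp_all) le_rfl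
        exact hasDec_one hB hg hU hgU hWU hW hWinv hWd fun w hw _ => by
          simpa using hfix w (hWU hw)
      · exact ⟨⊥, U, ⊥, ⊥, nd_bot B, hU, fun x _ u hu => by simp [(Submodule.mem_bot F).1 hu],
          bot_sup_eq U, fun x hx => by simp_all, dia_bot g, fun x hx => by simpa using hfix x hx,
          ⟨0, by simp, Nat.zero_le _⟩, fun hc => absurd hc h2⟩
    obtain ⟨v, hv, hv1⟩ : ∃ v ∈ U, (N ^ (e - 1)) v ≠ 0 := by
      simpa using Nat.find_min hex (show e - 1 < e by omega)
    obtain ⟨Y, W, hYU, hY, hhY, hWY, hW, hWinv, hWd, hWK, hW2, z, hz, hNz, hzu, hz3⟩ :=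
      exists_block hB hh hU hhU hNx (by omega) hNe hv hv1 hsoc
    have hback : ∀ (S : Submodule F V) x, ε • x ∈ S → x ∈ S := fun S x hx => by
      have := Submodule.smul_mem S ε hx
      rwa [smul_smul, hεε, one_smul] at this
    have hgY : ∀ x ∈ Y, g x ∈ Y := fun x hx => hback Y _ (happ x ▸ hhY x hx)
    have hgW : ∀ x ∈ W, s x ∈ W := fun x hx => hback W _ (hsh x ▸ hWinv x hx)
    refine ⟨Y, hYU, fun h0 => ?_, hY, hgY, ?_⟩
    · rw [h0, finrank_bot] at hWd
      omega
    rcases hε with rfl | ⟨rfl, h2⟩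
    · exact hasDec_one hB hg hY hgY hWY hW hgW hWd fun w hw hgw => by
        have h1 := hWK w hw (by rw [happ, one_smul]; exact hgw)
        rw [hNx, happ, one_smul, sub_eq_zero] at h1
        exact h1
    · have hKz : ∀ w ∈ W, g w ∈ W → ∃ a : F, w = a • z := fun w hw hgw =>
        hzu w hw (hWK w hw (by rw [happ]; exact Submodule.smul_mem _ _ hgw))
      have hgz : g z = -z := by
        rw [hNx, happ, neg_one_smul, sub_eq_zero] at hNz
        exact neg_eq_iff_eq_neg.1 hNz
      by_cases hzW : z ∈ W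
      · exact hasDec_refl hB hg hY hgY hWY hW hgW hWd hz hzW hgz hKz (hz3 hzW) h2
      · refine hasDec_one hB hg hY hgY hWY hW hgW hWd fun w hw hgw => ?_
        obtain ⟨a, rfl⟩ := hKz w hw hgw
        have ha : a = 0 := by_contra fun ha => hzW (by
          have := Submodule.smul_mem W a⁻¹ hw
          rwa [smul_smul, inv_mul_cancel₀ ha, one_smul] at this)
        simp [ha]

end Cfsg.Agent.SpComm4
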