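import Cfsg.Agent.Lib.SpCommCyc4

/-!
# Polarised data for the Gauss criterion, and their orthogonal sums
-/

set_option autoImplicit false
set_option linter.unusedSectionVars false

namespace Cfsg.Agent.SpComm4

open LinearMap Module Polynomial

variable {F V : Type*} [Field F] [AddCommGroup V] [Module F V]
variable {B : LinearMap.BilinForm F V}

/-- The image of `Wp` under `g - 1` and of `Wm` under `g + 1`. -/
def sset (g : V ≃ₗ[F] V) (Wp Wm : Submodule F V) : Submodule F V :=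
  Wp.map ((g : V →ₗ[F] V) - LinearMap.id) ⊔ Wm.map ((g : V →ₗ[F] V) + LinearMap.id)

/-- A Lagrangian `Wp ⊕ Wm` of `U` on which `g` is `1` and `-1` modulo an isotropic subspace
disjoint from it. -/
structure Dia (B : LinearMap.BilinForm F V) (g : V ≃ₗ[F] V) (U Wp Wm : Submodule F V) : Prop where
  le : Wp ⊔ Wm ≤ U
  disj : Disjoint Wp Wm
  isot : Isot B (Wp ⊔ Wm)
  dim : 2 * finrank F ↥(Wp ⊔ Wm) = finrank F U
  s_isot : Isot B (sset g Wp Wm)
  s_disj : Disjoint (Wp ⊔ Wm) (sset g Wp Wm)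

theorem sset_le {g : V ≃ₗ[F] V} {U Wp Wm : Submodule F V} (h : Wp ⊔ Wm ≤ U)
    (hU : ∀ x ∈ U, g x ∈ U) : sset g Wp Wm ≤ U :=
  sup_le (Submodule.map_le_iff_le_comap.2 fun x hx =>
      sub_mem (hU x (h (Submodule.mem_sup_left hx))) (h (Submodule.mem_sup_left hx)))
    (Submodule.map_le_iff_le_comap.2 fun x hx =>
      add_mem (hU x (h (Submodule.mem_sup_right hx))) (h (Submodule.mem_sup_right hx)))

theorem sset_sup (g : V ≃ₗ[F] V) (Wp Wm Wp' Wm' : Submodule F V) :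
    sset g (Wp ⊔ Wp') (Wm ⊔ Wm') = sset g Wp Wm ⊔ sset g Wp' Wm' := by
  simp only [sset, Submodule.map_sup]
  ac_rfl

theorem dia_bot (g : V ≃ₗ[F] V) : Dia B g ⊥ ⊥ ⊥ where
  le := by simp
  disj := disjoint_bot_left
  isot := fun x hx y hy => by simp at hx; simp [hx]
  dim := by simp
  s_isot := fun x hx y hy => by simp [sset] at hx; simp [hx]
  s_disj := by simp [sset]

theorem disjoint_sup_sup {A A' C C' U U' : Submodule F V} (hA : A ≤ U) (hC : C ≤ U) (hA' : A' ≤ U')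
    (hC' : C' ≤ U') (hU : Disjoint U U') (h : Disjoint A C) (h' : Disjoint A' C') :
    Disjoint (A ⊔ A') (C ⊔ C') := by
  refine Submodule.disjoint_def.2 fun x hx hx' => ?_
  obtain ⟨a, ha, a', ha', rfl⟩ := Submodule.mem_sup.1 hx
  obtain ⟨c, hc, c', hc', he⟩ := Submodule.mem_sup.1 hx'
  have h1 : a - c = c' - a' := by linear_combination (norm := abel) -he
  have h2 : a - c = 0 := Submodule.disjoint_def.1 hU _ (sub_mem (hA ha) (hC hc))
    (h1 ▸ sub_mem (hC' hc') (hA' ha'))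
  have h3 : c' - a' = 0 := h1 ▸ h2
  rw [Submodule.disjoint_def.1 h a ha (sub_eq_zero.1 h2 ▸ hc),
    Submodule.disjoint_def.1 h' a' ha' (sub_eq_zero.1 h3 ▸ hc'), add_zero]

section fd

variable [FiniteDimensional F V]

theorem nd_sup (hB : SpForm B) {U₁ U₂ : Submodule F V} (h₁ : ND B U₁) (h₂ : ND B U₂)
    (horth : U₂ ≤ B.orthogonal U₁) : ND B (U₁ ⊔ U₂) ∧ Disjoint U₁ U₂ := by
  refine ⟨Submodule.disjoint_def.2 fun x hx hx' => ?_, h₁.mono_right horth⟩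
  obtain ⟨a, ha, b, hb, rfl⟩ := Submodule.mem_sup.1 hx
  rw [h₁.eq_zero ha fun u hu => ?_, h₂.eq_zero hb fun u hu => ?_, add_zero]
  · have := hx' u (Submodule.mem_sup_right hu)
    rwa [LinearMap.map_add, hB.eq_zero_comm (horth hu a ha), zero_add] at this
  · have := hx' u (Submodule.mem_sup_left hu)
    rwa [LinearMap.map_add, horth hb u hu, add_zero] at this

theorem finrank_sup_of_disjoint {S T : Submodule F V} (h : Disjoint S T) :
    finrank F ↥(S ⊔ T) = finrank F S + finrank F T := by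
  have := Submodule.finrank_sup_add_finrank_inf_eq S T
  rw [h.eq_bot, finrank_bot] at this
  omega

theorem Dia.sup (hB : SpForm B) {g : V ≃ₗ[F] V} {U₁ U₂ Wp Wm Wp' Wm' : Submodule F V}
    (h₁ : ND B U₁) (h₂ : ND B U₂) (horth : U₂ ≤ B.orthogonal U₁)
    (g₁ : ∀ x ∈ U₁, g x ∈ U₁) (g₂ : ∀ x ∈ U₂, g x ∈ U₂)
    (D : Dia B g U₁ Wp Wm) (D' : Dia B g U₂ Wp' Wm') :
    Dia B g (U₁ ⊔ U₂) (Wp ⊔ Wp') (Wm ⊔ Wm') := by
  have hd := (nd_sup hB h₁ h₂ horth).2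
  have hW : Wp ⊔ Wp' ⊔ (Wm ⊔ Wm') = (Wp ⊔ Wm) ⊔ (Wp' ⊔ Wm') := by ac_rfl
  have hs := sset_le D.le g₁
  have hs' := sset_le D'.le g₂
  refine ⟨hW ▸ sup_le_sup D.le D'.le, ?_, ?_, ?_, ?_, ?_⟩
  · exact disjoint_sup_sup (le_sup_left.trans D.le) (le_sup_right.trans D.le)
      (le_sup_left.trans D'.le) (le_sup_right.trans D'.le) hd D.disj D'.disj
  · rw [hW]
    exact isot_sup hB D.isot D'.isot fun x hx y hy => horth (D'.le hy) x (D.le hx)
  · rw [hW, finrank_sup_of_disjoint (hd.mono D.le D'.le), finrank_sup_of_disjoint hd, ← D.dim,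
      ← D'.dim]
    ring
  · rw [sset_sup]
    exact isot_sup hB D.s_isot D'.s_isot fun x hx y hy => horth (hs' hy) x (hs hx)
  · rw [sset_sup, hW]
    exact disjoint_sup_sup D.le hs D'.le hs' hd D.s_disj D'.s_disj

/-- An orthogonal splitting of `U` into a polarised part and a part where `g = -1`. -/
structure Dec (B : LinearMap.BilinForm F V) (g : V ≃ₗ[F] V) (U Ud Ur Wp Wm : Submodule F V) :
    Prop where
  nd_d : ND B Ud
  nd_r : ND B Ur
  orth : Ur ≤ B.orthogonal Ud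
  sup_eq : Ud ⊔ Ur = U
  maps_d : ∀ x ∈ Ud, g x ∈ Ud
  dia : Dia B g Ud Wp Wm
  neg : ∀ x ∈ Ur, g x = -x
  even : ∃ j, finrank F Wm = 2 * j ∧ j ≤ finrank F Wp
  two : (2 : F) = 0 → Wm = ⊥ ∧ Ur = ⊥

/-- Existence of a splitting. -/
def HasDec (B : LinearMap.BilinForm F V) (g : V ≃ₗ[F] V) (U : Submodule F V) : Prop :=
  ∃ Ud Ur Wp Wm, Dec B g U Ud Ur Wp Wm

theorem nd_bot (B : LinearMap.BilinForm F V) : ND B (⊥ : Submodule F V) := disjoint_bot_left

theorem hasDec_of_dia {g : V ≃ₗ[F] V} {U Wp Wm : Submodule F V} (hU : ND B U)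
    (hgU : ∀ x ∈ U, g x ∈ U) (D : Dia B g U Wp Wm)
    (he : ∃ j, finrank F Wm = 2 * j ∧ j ≤ finrank F Wp) (h2 : (2 : F) = 0 → Wm = ⊥) :
    HasDec B g U :=
  ⟨U, ⊥, Wp, Wm, hU, nd_bot B, bot_le, sup_bot_eq U, hgU, D,
    fun x hx => by simp [(Submodule.mem_bot F).1 hx], he, fun h => ⟨h2 h, rfl⟩⟩

theorem HasDec.sup (hB : SpForm B) {g : V ≃ₗ[F] V} {U₁ U₂ : Submodule F V}
    (horth : U₂ ≤ B.orthogonal U₁) (c₁ : HasDec B g U₁) (c₂ : HasDec B g U₂) :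
    HasDec B g (U₁ ⊔ U₂) := by
  obtain ⟨Ud, Ur, Wp, Wm, D⟩ := c₁
  obtain ⟨Ud', Ur', Wp', Wm', D'⟩ := c₂
  have h : ∀ {X Y : Submodule F V}, X ≤ U₁ → Y ≤ U₂ → Y ≤ B.orthogonal X := fun hX hY =>
    (hY.trans horth).trans (LinearMap.BilinForm.orthogonal_le hX)
  have h' : ∀ {X Y : Submodule F V}, X ≤ U₁ → Y ≤ U₂ → X ≤ B.orthogonal Y := fun hX hY x hx y hy =>
    hB.eq_zero_comm (h hX hY hy x hx)
  have hd₁ : Ud ≤ U₁ := D.sup_eq ▸ le_sup_left
  have hd₂ : Ud' ≤ U₂ := D'.sup_eq ▸ le_sup_left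
  have hr₁ : Ur ≤ U₁ := D.sup_eq ▸ le_sup_right
  have hr₂ : Ur' ≤ U₂ := D'.sup_eq ▸ le_sup_right
  have hdis : Disjoint Ud Ud' := D.nd_d.mono_right (h hd₁ hd₂)
  refine ⟨Ud ⊔ Ud', Ur ⊔ Ur', Wp ⊔ Wp', Wm ⊔ Wm', (nd_sup hB D.nd_d D'.nd_d (h hd₁ hd₂)).1,
    (nd_sup hB D.nd_r D'.nd_r (h hr₁ hr₂)).1, ?_, ?_, fun x hx => ?_,
    D.dia.sup hB D.nd_d D'.nd_d (h hd₁ hd₂) D.maps_d D'.maps_d D'.dia, fun x hx => ?_, ?_,
    fun h2 => ?_⟩
  · intro x hx u hu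
    obtain ⟨a, ha, b, hb, rfl⟩ := Submodule.mem_sup.1 hu
    obtain ⟨c, hc, d, hd, rfl⟩ := Submodule.mem_sup.1 hx
    simp [D.orth hc a ha, D'.orth hd b hb, h hd₁ hr₂ hd a ha, h' hr₁ hd₂ hc b hb]
  · rw [← D.sup_eq, ← D'.sup_eq]; ac_rfl
  · obtain ⟨a, ha, b, hb, rfl⟩ := Submodule.mem_sup.1 hx
    rw [map_add]
    exact add_mem (Submodule.mem_sup_left (D.maps_d a ha))
      (Submodule.mem_sup_right (D'.maps_d b hb))
  · obtain ⟨a, ha, b, hb, rfl⟩ := Submodule.mem_sup.1 hx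
    rw [map_add, D.neg a ha, D'.neg b hb, neg_add]
  · obtain ⟨j, hj, hj'⟩ := D.even
    obtain ⟨k, hk, hk'⟩ := D'.even
    refine ⟨j + k, ?_, ?_⟩
    · rw [finrank_sup_of_disjoint (hdis.mono (le_sup_right.trans D.dia.le)
        (le_sup_right.trans D'.dia.le)), hj, hk]
      ring
    · rw [finrank_sup_of_disjoint (hdis.mono (le_sup_left.trans D.dia.le)
        (le_sup_left.trans D'.dia.le))]
      omega
  · simp [D.two h2, D'.two h2]

variable {g : V ≃ₗ[F] V} (hB : SpForm B) (hg : g ∈ isoGroup B)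
include hB hg

/-- An invariant Lagrangian without moved invariant part gives data with no minus part. -/
theorem dia_one {U W : Submodule F V} (hWU : W ≤ U) (hW : Isot B W)
    (hinv : ∀ x ∈ W, sOp g x ∈ W) (hd : 2 * finrank F W = finrank F U)
    (hK : ∀ w ∈ W, g w ∈ W → g w = w) : Dia B g U W ⊥ := by
  refine ⟨by simpa, disjoint_bot_right, by simpa using hW, by rw [sup_bot_eq]; exact hd, ?_, ?_⟩
  · intro x hx y hy
    simp only [sset, Submodule.map_bot, sup_bot_eq, Submodule.mem_map] at hx hy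
    obtain ⟨a, ha, rfl⟩ := hx
    obtain ⟨b, hb, rfl⟩ := hy
    simp only [LinearMap.sub_apply, LinearEquiv.coe_coe, LinearMap.id_coe, id_eq, map_sub,
      hg a b, hW a ha b hb, beta_symm hB hg hW hinv ha hb]
    rw [hB.skew a (g b)]
    ring
  · refine Submodule.disjoint_def.2 fun x hx hx' => ?_
    simp only [sset, Submodule.map_bot, sup_bot_eq, Submodule.mem_map] at hx'
    obtain ⟨a, ha, rfl⟩ := hx'
    simp only [sup_bot_eq] at hx
    simp only [LinearMap.sub_apply, LinearEquiv.coe_coe, LinearMap.id_coe, id_eq] at hx ⊢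
    rw [hK a ha (by simpa using add_mem hx ha), sub_self]

theorem hasDec_one {U W : Submodule F V} (hU : ND B U) (hgU : ∀ x ∈ U, g x ∈ U) (hWU : W ≤ U)
    (hW : Isot B W) (hinv : ∀ x ∈ W, sOp g x ∈ W) (hd : 2 * finrank F W = finrank F U)
    (hK : ∀ w ∈ W, g w ∈ W → g w = w) : HasDec B g U :=
  hasDec_of_dia hU hgU (dia_one hB hg hWU hW hinv hd hK) ⟨0, by simp, Nat.zero_le _⟩ fun _ => rfl

end fd

end Cfsg.Agent.SpComm4
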