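import Mathlib

/-!
# Alternating forms: orthogonal decompositions and isometries

Basic facts on subspaces nondegenerate for an alternating form, isometries fixing a subspace
pointwise, and commutators supported on such subspaces.
-/

set_option autoImplicit false
set_option linter.unusedSectionVars false

namespace Cfsg.Agent.SpComm4

open LinearMap Module

variable {F V : Type*} [Field F] [AddCommGroup V] [Module F V]

/-- A nondegenerate alternating form. -/
structure SpForm (B : LinearMap.BilinForm F V) : Prop where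
  alt : B.IsAlt
  nondeg : B.Nondegenerate

variable {B : LinearMap.BilinForm F V}

/-- A subspace on which the form is nondegenerate. -/
def ND (B : LinearMap.BilinForm F V) (U : Submodule F V) : Prop :=
  Disjoint U (B.orthogonal U)

/-- The orthogonal complement inside a subspace. -/
def rperp (B : LinearMap.BilinForm F V) (U S : Submodule F V) : Submodule F V :=
  B.orthogonal S ⊓ U

/-- A totally isotropic subspace. -/
def Isot (B : LinearMap.BilinForm F V) (S : Submodule F V) : Prop :=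
  ∀ x ∈ S, ∀ y ∈ S, B x y = 0

theorem mem_rperp {U S : Submodule F V} {x : V} :
    x ∈ rperp B U S ↔ (∀ s ∈ S, B s x = 0) ∧ x ∈ U := Iff.rfl

namespace SpForm

variable (hB : SpForm B)
include hB

theorem skew (v w : V) : B v w = -B w v := by
  exact (LinearMap.IsAlt.neg hB.alt w v).symm

theorem refl : B.IsRefl := hB.alt.isRefl

theorem eq_zero_comm {v w : V} (h : B v w = 0) : B w v = 0 := hB.refl _ _ h

theorem self (v : V) : B v v = 0 := hB.alt v

theorem eq_zero_of_forall {x : V} (h : ∀ v, B v x = 0) : x = 0 :=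
  hB.nondeg.2 x h

end SpForm

theorem ND.eq_zero {U : Submodule F V} (hU : ND B U) {x : V} (hx : x ∈ U)
    (h : ∀ u ∈ U, B u x = 0) : x = 0 :=
  Submodule.disjoint_def.1 hU x hx h

theorem isot_sup (hB : SpForm B) {S T : Submodule F V} (hS : Isot B S) (hT : Isot B T)
    (h : ∀ s ∈ S, ∀ t ∈ T, B s t = 0) : Isot B (S ⊔ T) := by
  intro x hx y hy
  obtain ⟨a, ha, b, hb, rfl⟩ := Submodule.mem_sup.1 hx
  obtain ⟨c, hc, d, hd, rfl⟩ := Submodule.mem_sup.1 hy
  simp only [map_add, LinearMap.add_apply, hS a ha c hc, hT b hb d hd, h a ha d hd,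
    hB.eq_zero_comm (h c hc b hb), add_zero]

theorem isot_mono {S T : Submodule F V} (h : S ≤ T) (hT : Isot B T) : Isot B S :=
  fun x hx y hy => hT x (h hx) y (h hy)

theorem isot_span {s : Set V} (h : ∀ x ∈ s, ∀ y ∈ s, B x y = 0) :
    Isot B (Submodule.span F s) := by
  intro x hx y hy
  induction hx, hy using Submodule.span_induction₂ with
  | mem_mem a b ha hb => exact h a ha b hb
  | zero_left y _ => simp
  | zero_right x _ => simp
  | add_left x y z _ _ _ h1 h2 => simp [h1, h2]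
  | add_right x y z _ _ _ h1 h2 => simp [h1, h2]
  | smul_left r x y _ _ h => simp [h]
  | smul_right r x y _ _ h => simp [h]

theorem Isot.le_rperp {U S : Submodule F V} (hS : Isot B S) (hSU : S ≤ U) : S ≤ rperp B U S :=
  fun x hx => ⟨fun s hs => hS s hs x hx, hSU hx⟩

section fd

variable [FiniteDimensional F V]

theorem ND.isCompl (hB : SpForm B) {U : Submodule F V} (hU : ND B U) :
    IsCompl U (B.orthogonal U) :=
  (LinearMap.BilinForm.isCompl_orthogonal_iff_disjoint hB.refl).2 hU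

theorem nd_top (hB : SpForm B) : ND B (⊤ : Submodule F V) := by
  rw [ND, LinearMap.BilinForm.orthogonal_top_eq_bot hB.nondeg]
  exact disjoint_bot_right

theorem finrank_rperp (hB : SpForm B) {U S : Submodule F V} (hU : ND B U) (hS : S ≤ U) :
    finrank F (rperp B U S) + finrank F S = finrank F U := by
  have hle : B.orthogonal U ≤ B.orthogonal S := LinearMap.BilinForm.orthogonal_le hS
  have hsup : rperp B U S ⊔ B.orthogonal U = B.orthogonal S := by
    rw [rperp, inf_sup_assoc_of_le _ hle, (hU.isCompl hB).sup_eq_top, inf_top_eq]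
  have hinf : rperp B U S ⊓ B.orthogonal U = ⊥ :=
    le_bot_iff.1 ((inf_le_inf_right _ inf_le_right).trans hU.eq_bot.le)
  have h1 := Submodule.finrank_sup_add_finrank_inf_eq (rperp B U S) (B.orthogonal U)
  rw [hsup, hinf, finrank_bot, LinearMap.BilinForm.finrank_orthogonal hB.nondeg,
    LinearMap.BilinForm.finrank_orthogonal hB.nondeg] at h1
  have := Submodule.finrank_le U
  have := Submodule.finrank_le S
  have := Submodule.finrank_mono hS
  omega

theorem Isot.two_mul_le (hB : SpForm B) {U S : Submodule F V} (hS : Isot B S) (hU : ND B U)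
    (hSU : S ≤ U) : 2 * finrank F S ≤ finrank F U := by
  have := finrank_rperp hB hU hSU
  have := Submodule.finrank_mono (hS.le_rperp hSU)
  omega

theorem Isot.rperp_eq (hB : SpForm B) {U S : Submodule F V} (hS : Isot B S) (hU : ND B U)
    (hSU : S ≤ U) (hd : 2 * finrank F S = finrank F U) : rperp B U S = S := by
  have := finrank_rperp hB hU hSU
  exact (Submodule.eq_of_le_of_finrank_le (hS.le_rperp hSU) (by omega)).symm

theorem nd_rperp (hB : SpForm B) {U S : Submodule F V} (hU : ND B U) (hS : S ≤ U) (hSn : ND B S) :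
    ND B (rperp B U S) ∧ S ⊔ rperp B U S = U ∧ Disjoint S (rperp B U S) := by
  have hdis : Disjoint S (rperp B U S) := hSn.mono_right inf_le_left
  have hsup : S ⊔ rperp B U S = U := by
    rw [rperp, ← sup_inf_assoc_of_le _ hS, (hSn.isCompl hB).sup_eq_top, top_inf_eq]
  refine ⟨Submodule.disjoint_def.2 fun x hx hx' => hU.eq_zero hx.2 fun u hu => ?_, hsup, hdis⟩
  rw [← hsup] at hu
  obtain ⟨s, hs, t, ht, rfl⟩ := Submodule.mem_sup.1 hu
  simp [hx.1 s hs, hx' t ht]

end fd

/-- The isometries. -/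
def isoGroup (B : LinearMap.BilinForm F V) : Subgroup (V ≃ₗ[F] V) where
  carrier := {g | ∀ v w, B (g v) (g w) = B v w}
  one_mem' := fun v w => rfl
  mul_mem' := fun {a b} ha hb v w => by rw [LinearEquiv.mul_apply, LinearEquiv.mul_apply, ha, hb]
  inv_mem' := fun {a} ha v w => by
    show B (a.symm v) (a.symm w) = B v w
    rw [← ha (a.symm v), a.apply_symm_apply, a.apply_symm_apply]

/-- The isometries fixing a subspace pointwise. -/
def fixer (B : LinearMap.BilinForm F V) (S : Submodule F V) : Subgroup (V ≃ₗ[F] V) where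
  carrier := {g | g ∈ isoGroup B ∧ ∀ x ∈ S, g x = x}
  one_mem' := ⟨one_mem _, fun _ _ => rfl⟩
  mul_mem' := fun {a b} ha hb => ⟨mul_mem ha.1 hb.1, fun x hx => by
    rw [LinearEquiv.mul_apply, hb.2 x hx, ha.2 x hx]⟩
  inv_mem' := fun {a} ha => ⟨inv_mem ha.1, fun x hx => by
    show a.symm x = x
    rw [LinearEquiv.symm_apply_eq, ha.2 x hx]⟩

theorem fixer_antitone {S T : Submodule F V} (h : S ≤ T) : fixer B T ≤ fixer B S :=
  fun _ hg => ⟨hg.1, fun x hx => hg.2 x (h hx)⟩

theorem mem_fixer_sup {S T : Submodule F V} {g : V ≃ₗ[F] V} (hS : g ∈ fixer B S)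
    (hT : g ∈ fixer B T) : g ∈ fixer B (S ⊔ T) := by
  refine ⟨hS.1, fun x hx => ?_⟩
  obtain ⟨a, ha, b, hb, rfl⟩ := Submodule.mem_sup.1 hx
  rw [map_add, hS.2 a ha, hT.2 b hb]

theorem maps_orthogonal_of_fixer {S : Submodule F V} {g : V ≃ₗ[F] V} (hg : g ∈ fixer B S)
    {x : V} (hx : x ∈ B.orthogonal S) : g x ∈ B.orthogonal S := fun s hs => by
  rw [← hg.2 s hs, hg.1]
  exact hx s hs

section fd

variable [FiniteDimensional F V]

theorem map_eq_of_le {S : Submodule F V} (g : V ≃ₗ[F] V) (h : ∀ x ∈ S, g x ∈ S) :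
    S.map (g : V →ₗ[F] V) = S :=
  Submodule.eq_of_le_of_finrank_eq (Submodule.map_le_iff_le_comap.2 h) (g.finrank_map_eq S)

theorem symm_mem_of_le {S : Submodule F V} (g : V ≃ₗ[F] V) (h : ∀ x ∈ S, g x ∈ S) {x : V}
    (hx : x ∈ S) : g.symm x ∈ S := by
  rw [← map_eq_of_le g h] at hx
  obtain ⟨y, hy, rfl⟩ := hx
  simpa using hy

theorem mem_of_fixer_orthogonal (hB : SpForm B) {U : Submodule F V} {g : V ≃ₗ[F] V}
    (hg : g ∈ fixer B (B.orthogonal U)) {x : V} (hx : x ∈ U) : g x ∈ U := by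
  rw [← LinearMap.BilinForm.orthogonal_orthogonal hB.nondeg hB.refl U] at hx ⊢
  exact maps_orthogonal_of_fixer hg hx

theorem maps_orthogonal {S : Submodule F V} {g : V ≃ₗ[F] V} (hg : g ∈ isoGroup B)
    (h : ∀ x ∈ S, g x ∈ S) {x : V} (hx : x ∈ B.orthogonal S) : g x ∈ B.orthogonal S := by
  intro s hs
  rw [← g.apply_symm_apply s, hg]
  exact hx _ (symm_mem_of_le g h hs)

theorem ext_of_isCompl {S T : Submodule F V} (h : IsCompl S T) {a b : V ≃ₗ[F] V}
    (hS : ∀ x ∈ S, a x = b x) (hT : ∀ x ∈ T, a x = b x) : a = b := by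
  refine LinearEquiv.ext fun x => ?_
  obtain ⟨s, hs, t, ht, rfl⟩ :=
    Submodule.mem_sup.1 (h.sup_eq_top ▸ Submodule.mem_top : x ∈ S ⊔ T)
  rw [map_add, map_add, hS s hs, hT t ht]

theorem commute_of_fixers (hB : SpForm B) {U : Submodule F V} (hU : ND B U) {a b : V ≃ₗ[F] V}
    (ha : a ∈ fixer B (B.orthogonal U)) (hb : b ∈ fixer B U) : Commute a b := by
  refine ext_of_isCompl (hU.isCompl hB) (fun x hx => ?_) fun x hx => ?_
  · rw [LinearEquiv.mul_apply, LinearEquiv.mul_apply, hb.2 x hx,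
      hb.2 _ (mem_of_fixer_orthogonal hB ha hx)]
  · rw [LinearEquiv.mul_apply, LinearEquiv.mul_apply, ha.2 x hx,
      ha.2 _ (maps_orthogonal_of_fixer hb hx)]

/-- An endomorphism preserving the form is an isometry. -/
theorem exists_isometry (hB : SpForm B) (M : Module.End F V) (h : ∀ v w, B (M v) (M w) = B v w) :
    ∃ g : V ≃ₗ[F] V, g ∈ isoGroup B ∧ ∀ v, g v = M v := by
  have hinj : Function.Injective M := LinearMap.ker_eq_bot.1 ((Submodule.eq_bot_iff _).2
    fun x hx => hB.eq_zero_of_forall fun v => by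
      rw [← h v x, LinearMap.mem_ker.1 hx, map_zero])
  exact ⟨LinearEquiv.ofInjectiveEndo M hinj, fun v w => by simpa using h v w, fun v => by simp⟩

/-- `g` acts on `U` as a commutator of isometries supported on `U`. -/
def Comm (B : LinearMap.BilinForm F V) (U : Submodule F V) (g : V ≃ₗ[F] V) : Prop :=
  ∃ a ∈ fixer B (B.orthogonal U), ∃ b ∈ fixer B (B.orthogonal U),
    ∀ u ∈ U, (a * b * a⁻¹ * b⁻¹) u = g u

theorem comm_bot (g : V ≃ₗ[F] V) : Comm B ⊥ g :=
  ⟨1, one_mem _, 1, one_mem _, fun u hu => by simp [(Submodule.mem_bot F).1 hu]⟩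

theorem Comm.sup (hB : SpForm B) {U₁ U₂ : Submodule F V} {g : V ≃ₗ[F] V} (h₁ : ND B U₁)
    (horth : U₂ ≤ B.orthogonal U₁) (c₁ : Comm B U₁ g) (c₂ : Comm B U₂ g) :
    Comm B (U₁ ⊔ U₂) g := by
  obtain ⟨a, ha, b, hb, h⟩ := c₁
  obtain ⟨a', ha', b', hb', h'⟩ := c₂
  have h12 : U₁ ≤ B.orthogonal U₂ := fun x hx y hy => hB.eq_zero_comm (horth hy x hx)
  have hcom : ∀ {x y : V ≃ₗ[F] V}, x ∈ fixer B (B.orthogonal U₁) →
      y ∈ fixer B (B.orthogonal U₂) → Commute x y := fun hx hy =>
    commute_of_fixers hB h₁ hx (fixer_antitone h12 hy)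
  have hle₁ := LinearMap.BilinForm.orthogonal_le (B := B) (le_sup_left : U₁ ≤ U₁ ⊔ U₂)
  have hle₂ := LinearMap.BilinForm.orthogonal_le (B := B) (le_sup_right : U₂ ≤ U₁ ⊔ U₂)
  refine ⟨a * a', mul_mem (fixer_antitone hle₁ ha) (fixer_antitone hle₂ ha'),
    b * b', mul_mem (fixer_antitone hle₁ hb) (fixer_antitone hle₂ hb'), fun u hu => ?_⟩
  set c := a * b * a⁻¹ * b⁻¹ with hc
  set c' := a' * b' * a'⁻¹ * b'⁻¹ with hc'
  have hcm : c ∈ fixer B (B.orthogonal U₁) :=
    mul_mem (mul_mem (mul_mem ha hb) (inv_mem ha)) (inv_mem hb)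
  have hcm' : c' ∈ fixer B (B.orthogonal U₂) :=
    mul_mem (mul_mem (mul_mem ha' hb') (inv_mem ha')) (inv_mem hb')
  have e : a * a' * (b * b') * (a * a')⁻¹ * (b * b')⁻¹ = c * c' := by
    have e1 := hcom hb ha'
    have e2 := hcom (inv_mem ha) hb'
    have e3 := hcom (inv_mem ha) (inv_mem ha')
    have e4 := hcom (inv_mem hb) (inv_mem hb')
    have e5 : Commute a'⁻¹ b⁻¹ := (hcom (inv_mem hb) (inv_mem ha')).symm
    have e6 : Commute (a' * b') (a⁻¹) :=
      ((hcom (inv_mem ha) ha').mul_right e2).symm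
    have e7 : Commute (a' * b' * a'⁻¹) (b⁻¹) :=
      ((((hcom (inv_mem hb) ha').mul_right (hcom (inv_mem hb) hb')).mul_right
        (hcom (inv_mem hb) (inv_mem ha')))).symm
    calc a * a' * (b * b') * (a * a')⁻¹ * (b * b')⁻¹
        = a * (a' * b) * b' * (a'⁻¹ * a⁻¹) * (b'⁻¹ * b⁻¹) := by
          simp only [mul_inv_rev, mul_assoc]
      _ = a * (b * a') * b' * (a⁻¹ * a'⁻¹) * (b⁻¹ * b'⁻¹) := by
          rw [← e1.eq, ← e3.eq, ← e4.eq]
      _ = a * b * ((a' * b') * a⁻¹) * a'⁻¹ * b⁻¹ * b'⁻¹ := by simp only [mul_assoc]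
      _ = a * b * a⁻¹ * ((a' * b' * a'⁻¹) * b⁻¹) * b'⁻¹ := by
          rw [e6.eq]; simp only [mul_assoc]
      _ = c * c' := by rw [e7.eq, hc, hc']; simp only [mul_assoc]
  rw [e, LinearEquiv.mul_apply]
  obtain ⟨x, hx, y, hy, rfl⟩ := Submodule.mem_sup.1 hu
  rw [map_add, map_add, map_add, hcm'.2 x (h12 hx), h x hx, h' y hy]
  congr 1
  refine hcm.2 _ (horth ?_)
  rw [← h' y hy]
  exact mem_of_fixer_orthogonal hB hcm' hy

end fd

end Cfsg.Agent.SpComm4
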