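import Cfsg.Agent.Lib.SpCommDia4

/-!
# The unipotent block spanned by two dual chains

For a unipotent isometry `h` with `N = h - 1`, `N ^ e = 0`, `2 ≤ e`, and `N ^ (e-1) x` orthogonal
to `x`, a pair of chains spans a nondegenerate block with an invariant Lagrangian whose moved
invariant part is at most a line.
-/

set_option autoImplicit false
set_option linter.unusedSectionVars false

namespace Cfsg.Agent.SpComm4

open LinearMap Module Polynomial

variable {F V : Type*} [Field F] [AddCommGroup V] [Module F V]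
variable {B : LinearMap.BilinForm F V}

/-- A composite with `X ^ 2 * q` has even order at zero. -/
theorem not_dvd_comp_sub {e j : ℕ} {q : F[X]} (hq : q.eval 0 = 1) (hj : Odd j) (hje : j < e)
    (p : F[X]) : ¬ X ^ e ∣ p.comp (X ^ 2 * q) - X ^ j := by
  rw [X_pow_dvd_iff]
  intro h
  by_cases hp : p = 0
  · have := h j hje
    simp [hp, coeff_X_pow] at this
  obtain ⟨r, hpr, hr⟩ := exists_eq_pow_rootMultiplicity_mul_and_not_dvd p hp (0 : F)
  set k := p.rootMultiplicity 0
  have hr0 : r.eval 0 ≠ 0 := fun h0 => hr (dvd_iff_isRoot.2 h0)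
  set R := q ^ k * r.comp (X ^ 2 * q)
  have hR : R.coeff 0 ≠ 0 := by
    simpa [R, coeff_zero_eq_eval_zero, hq] using hr0
  have hc : p.comp (X ^ 2 * q) = X ^ (2 * k) * R := by
    conv_lhs => rw [hpr]
    simp only [map_zero, sub_zero, mul_comp, X_pow_comp, R]
    ring
  have hne : 2 * k ≠ j := fun he => (Nat.not_even_iff_odd.2 hj) ⟨k, by omega⟩
  rcases lt_or_gt_of_ne hne with hlt | hlt
  · have h1 := h (2 * k) (by omega)
    rw [hc, coeff_sub, coeff_X_pow_mul', if_pos le_rfl, Nat.sub_self, coeff_X_pow,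
      if_neg (by omega), sub_zero] at h1
    exact hR h1
  · have h1 := h j hje
    rw [hc, coeff_sub, coeff_X_pow_mul', if_neg (by omega), coeff_X_pow, if_pos rfl] at h1
    simp at h1

variable [FiniteDimensional F V]

/-- The block. -/
theorem exists_block (hB : SpForm B) {h : V ≃ₗ[F] V} (hh : h ∈ isoGroup B) {U : Submodule F V}
    (hU : ND B U) (hhU : ∀ x ∈ U, h x ∈ U) {N : Module.End F V} (hN : ∀ x, N x = h x - x)
    {e : ℕ} (he : 2 ≤ e) (hNe : ∀ x ∈ U, (N ^ e) x = 0) {v : V} (hv : v ∈ U)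
    (hv1 : (N ^ (e - 1)) v ≠ 0) (hsoc : ∀ x ∈ U, B ((N ^ (e - 1)) x) x = 0) :
    ∃ X W, X ≤ U ∧ ND B X ∧ (∀ x ∈ X, h x ∈ X) ∧ W ≤ X ∧ Isot B W ∧
      (∀ x ∈ W, sOp h x ∈ W) ∧ 2 * finrank F W = finrank F X ∧
      (∀ w ∈ W, h w ∈ W → N w = 0) ∧ 2 ≤ finrank F W ∧
      ∃ z, z ≠ 0 ∧ N z = 0 ∧ (∀ w ∈ W, N w = 0 → ∃ a : F, w = a • z) ∧
        (z ∈ W → 3 ≤ finrank F W) := by
  have hNU : ∀ x ∈ U, N x ∈ U := fun x hx => hN x ▸ sub_mem (hhU x hx) hx
  set z := (N ^ (e - 1)) v with hz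
  have hzU : z ∈ U := by simpa using aeval_mem hNU (X ^ (e - 1)) hv
  obtain ⟨w, hw, hzw⟩ : ∃ w ∈ U, B z w = 1 := by
    by_contra hcon
    push Not at hcon
    refine hv1 (hU.eq_zero hzU fun u hu => by_contra fun hne => ?_)
    have hne' : B z u ≠ 0 := fun h0 => hne (hB.eq_zero_comm h0)
    exact hcon ((B z u)⁻¹ • u) (Submodule.smul_mem _ _ hu) (by simp [inv_mul_cancel₀ hne'])
  set z' := (N ^ (e - 1)) w with hz'
  have hzv : B z v = 0 := hsoc v hv
  have hz'w : B z' w = 0 := hsoc w hw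
  have hz'v : B z' v = -1 := by
    have h1 := hsoc (v + w) (add_mem hv hw)
    simp only [map_add, LinearMap.add_apply, ← hz, ← hz', hzv, hz'w, hzw] at h1
    linear_combination h1
  have hzero : ∀ {i : ℕ} {x : V}, e ≤ i → x ∈ U → (N ^ i) x = 0 := fun {i x} hi hx => by
    rw [← Nat.sub_add_cancel hi, pow_add, Module.End.mul_apply, hNe x hx, map_zero]
  have hpow : ∀ (k : ℕ) (p : F[X]), ∀ x ∈ U, e ≤ k + 1 → aeval N (X ^ k * p) x =
      p.eval 0 • (N ^ k) x := by
    intro k p x hx hk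
    obtain ⟨p', hp'⟩ : X ∣ p - C (p.eval 0) := by
      rw [X_dvd_iff]; simp [coeff_zero_eq_eval_zero]
    have : X ^ k * p = X ^ (k + 1) * p' + p.eval 0 • X ^ k := by
      rw [smul_eq_C_mul]; linear_combination X ^ k * hp'
    rw [this, map_add, map_smul, LinearMap.add_apply, aeval_mul_apply, aeval_X_pow,
      hzero hk (aeval_mem hNU p' hx), zero_add, LinearMap.smul_apply, aeval_X_pow]
  have indep : ∀ p r : F[X], aeval N p v + aeval N r w = 0 → X ^ e ∣ p ∧ X ^ e ∣ r := by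
    intro p r hpr
    suffices H : ∀ i ≤ e, X ^ i ∣ p ∧ X ^ i ∣ r from H e le_rfl
    intro i
    induction i with
    | zero => simp
    | succ i ih =>
      intro hi
      obtain ⟨⟨p', rfl⟩, r', rfl⟩ := ih (by omega)
      have h1 := congrArg (fun t => (N ^ (e - 1 - i)) t) hpr
      simp only [map_add, map_zero] at h1
      rw [←  aeval_X_pow (R := F) N, ← aeval_mul_apply, ← aeval_mul_apply,
        ← mul_assoc, ← mul_assoc, ← pow_add, show e - 1 - i + i = e - 1 by omega,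
        hpow _ _ _ hv (by omega), hpow _ _ _ hw (by omega), ← hz, ← hz'] at h1
      have hp0 : p'.eval 0 = 0 := by
        simpa [hzw, hz'w] using congrArg (fun t => B t w) h1
      have hr0 : r'.eval 0 = 0 := by
        simpa [hzv, hz'v] using congrArg (fun t => B t v) h1
      rw [← coeff_zero_eq_eval_zero, ← X_dvd_iff] at hp0 hr0
      rw [pow_succ]
      exact ⟨mul_dvd_mul_left _ hp0, mul_dvd_mul_left _ hr0⟩
  set X₀ : Submodule F V := orb N v ⊔ orb N w with hX₀
  have hmemX : ∀ p r : F[X], aeval N p v + aeval N r w ∈ X₀ := fun p r =>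
    Submodule.add_mem_sup (aeval_mem_orb N v p) (aeval_mem_orb N w r)
  have hXmem : ∀ x ∈ X₀, ∃ p r : F[X], x = aeval N p v + aeval N r w := by
    intro x hx
    obtain ⟨_, ⟨p, rfl⟩, _, ⟨r, rfl⟩, rfl⟩ := Submodule.mem_sup.1 hx
    exact ⟨p, r, rfl⟩
  have hXU : X₀ ≤ U := sup_le (orb_le hNU hv) (orb_le hNU hw)
  have hNX : ∀ x ∈ X₀, N x ∈ X₀ := by
    intro x hx
    obtain ⟨p, r, rfl⟩ := hXmem x hx
    have := hmemX (X * p) (X * r)
    rwa [aeval_mul_apply, aeval_mul_apply, aeval_X, ← map_add] at this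
  have hhX : ∀ x ∈ X₀, h x ∈ X₀ := fun x hx => by
    simpa [hN] using add_mem (hNX x hx) hx
  have hvX : v ∈ X₀ := Submodule.mem_sup_left (self_mem_orb N v)
  have hwX : w ∈ X₀ := Submodule.mem_sup_right (self_mem_orb N w)
  -- the elements killed by `N ^ k`
  have hker : ∀ k ≤ e, ∀ x ∈ X₀, (N ^ k) x = 0 →
      ∃ p r : F[X], x = aeval N (X ^ (e - k) * p) v + aeval N (X ^ (e - k) * r) w := by
    intro k hk x hx hx0
    obtain ⟨p, r, rfl⟩ := hXmem x hx
    rw [map_add, ← aeval_X_pow (R := F) N, ← aeval_mul_apply, ← aeval_mul_apply] at hx0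
    obtain ⟨h1, h2⟩ := indep _ _ hx0
    rw [← Nat.add_sub_cancel' hk, pow_add, mul_dvd_mul_iff_left (pow_ne_zero _ X_ne_zero)] at h1 h2
    obtain ⟨p', rfl⟩ := h1
    obtain ⟨r', rfl⟩ := h2
    exact ⟨p', r', rfl⟩
  have hker1 : ∀ x ∈ X₀, N x = 0 → ∃ a b : F, x = a • z + b • z' := by
    intro x hx hx0
    obtain ⟨p, r, rfl⟩ := hker 1 (by omega) x hx (by simpa using hx0)
    exact ⟨p.eval 0, r.eval 0, by rw [hpow _ _ _ hv (by omega), hpow _ _ _ hw (by omega)]⟩
  have hXnd : ND B X₀ := by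
    refine Submodule.disjoint_def.2 fun x hx hx' => ?_
    by_contra hne
    have hinv : ∀ y ∈ X₀ ⊓ B.orthogonal X₀, N y ∈ X₀ ⊓ B.orthogonal X₀ := fun y hy =>
      ⟨hNX y hy.1, hN y ▸ sub_mem (maps_orthogonal hh hhX hy.2) hy.2⟩
    classical
    have hex : ∃ i, (N ^ i) x = 0 := ⟨e, hNe x (hXU hx)⟩
    set i := Nat.find hex
    have hi : i ≠ 0 := fun h0 => hne (by
      have hs : (N ^ i) x = 0 := Nat.find_spec hex
      rw [h0] at hs
      simpa using hs)
    set y := (N ^ (i - 1)) x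
    have hy : y ∈ X₀ ⊓ B.orthogonal X₀ := by
      simpa [y] using aeval_mem hinv (X ^ (i - 1)) (x := x) ⟨hx, hx'⟩
    have hyN : N y = 0 := by
      rw [show N y = (N ^ i) x by
        rw [← Module.End.mul_apply, ← pow_succ', Nat.sub_add_cancel (Nat.pos_of_ne_zero hi)]]
      exact Nat.find_spec hex
    have hy0 : y ≠ 0 := Nat.find_min hex (by omega)
    obtain ⟨a, b, hab⟩ := hker1 y hy.1 hyN
    have h1 : B y w = 0 := hB.eq_zero_comm (hy.2 w hwX)
    have h2 : B y v = 0 := hB.eq_zero_comm (hy.2 v hvX)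
    rw [hab] at h1 h2
    simp [hzw, hz'w, hzv, hz'v] at h1 h2
    exact hy0 (by rw [hab, h1, h2]; simp)
  -- the inverse of `h` on `U` is a polynomial in `N`
  set q : F[X] := ∑ i ∈ Finset.range e, (-X) ^ i
  have hq : q.eval 0 = 1 := by
    simp only [q, eval_finsetSum, eval_pow, eval_neg, eval_X, neg_zero]
    rw [Finset.sum_eq_single 0 (by intro b _ hb; simp [zero_pow hb]) (by simp; omega)]
    simp
  have hsymm : ∀ x ∈ U, h.symm x = aeval N q x := by
    intro x hx
    apply h.injective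
    rw [h.apply_symm_apply]
    have hqq : (1 + X) * q = 1 - (-X) ^ e := by
      rw [← mul_neg_geom_sum]; simp [q]
    have h1 := congrArg (fun t => aeval N t x) hqq
    simp only [map_mul, map_add, map_one, aeval_X, map_sub, map_pow, map_neg, neg_pow N,
      Module.End.mul_apply, LinearMap.add_apply, LinearMap.sub_apply, Module.End.one_apply,
      hNe x hx, map_zero, sub_zero, hN] at h1
    exact h1.symm.trans (by abel)
  set T : F[X] := X ^ 2 * q
  have hsT : ∀ (p : F[X]), ∀ x ∈ U, aeval (sOp h) p x = aeval N ((p.comp (X + 2)).comp T) x := by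
    have h1 : ∀ x ∈ U, sOp h x = aeval N (T + 2) x := by
      intro x hx
      have hqq : T + 2 + (X - 1) * (-X) ^ e = (1 + X) + q := by
        have : (1 + X) * q = 1 - (-X) ^ e := by rw [← mul_neg_geom_sum]; simp [q]
        linear_combination (X - 1) * this
      have h2 := congrArg (fun t => aeval N t x) hqq
      simp only [map_add, map_one, map_mul, map_sub, aeval_X, map_pow, map_neg, neg_pow N, Module.End.mul_apply,
        LinearMap.add_apply, Module.End.one_apply, hNe x hx, map_zero, add_zero,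
        ← hsymm x hx, hN] at h2
      rw [sOp_apply, map_add, LinearMap.add_apply, h2]
      abel
    intro p
    induction p using Polynomial.induction_on' with
    | add a b ha hb => intro x hx; simp [Polynomial.add_comp, ha x hx, hb x hx]
    | monomial n a =>
      intro x hx
      rw [← C_mul_X_pow_eq_monomial]
      simp only [mul_comp, C_comp, X_pow_comp, Polynomial.add_comp, X_comp, ofNat_comp, map_mul, aeval_C,
        map_pow, Module.End.mul_apply, Module.algebraMap_end_apply]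
      congr 1
      rw [aeval_X]
      induction n with
      | zero => simp
      | succ n ih =>
        rw [pow_succ', Module.End.mul_apply, ih, h1 _ (aeval_mem hNU _ hx), pow_succ' (X + 2 : F[X]), mul_comp, aeval_mul_apply, Polynomial.add_comp, X_comp, ofNat_comp]
        rfl
  set U₀ := orb (sOp h) v
  have hsX : ∀ x ∈ X₀, sOp h x ∈ X₀ := fun x hx => maps_sOp hB hh hhX hx
  have hU₀X : U₀ ≤ X₀ := orb_le hsX hvX
  have hkey : ∀ (j : ℕ) (c : F), Odd j → j < e →
      (N ^ j) v + c • z' ∉ U₀ := by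
    rintro j c hj hje ⟨p, hp⟩
    change aeval (sOp h) p v = _ at hp
    rw [hsT p v hv] at hp
    obtain ⟨h1, -⟩ := indep ((p.comp (X + 2)).comp T - X ^ j) (-(c • X ^ (e - 1))) (by
      rw [map_sub, map_neg, map_smul, LinearMap.sub_apply, LinearMap.neg_apply,
        LinearMap.smul_apply, hp, aeval_X_pow, aeval_X_pow, hz']
      abel)
    exact not_dvd_comp_sub hq hj hje _ h1
  -- the auxiliary vector
  obtain ⟨j, c, hj, hje, hζ⟩ : ∃ j c, Odd j ∧ j < e ∧
      (Even e ∧ j = e - 1 ∧ c = 0 ∨ Odd e ∧ j = e - 2 ∧ c = B ((N ^ (e - 2)) v) v) := by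
    rcases Nat.even_or_odd e with ⟨k, hk⟩ | ⟨k, hk⟩
    · exact ⟨e - 1, 0, ⟨k - 1, by omega⟩, by omega, Or.inl ⟨⟨k, hk⟩, rfl, rfl⟩⟩
    · exact ⟨e - 2, B ((N ^ (e - 2)) v) v, ⟨k - 1, by omega⟩, by omega,
        Or.inr ⟨⟨k, hk⟩, rfl, rfl⟩⟩
  set ζ := (N ^ j) v + c • z'
  have hζX : ζ ∈ X₀ := by
    have := hmemX (X ^ j) (c • X ^ (e - 1))
    simpa [ζ, hz', map_smul] using this
  obtain ⟨y, hy, hζy⟩ : ∃ y ∈ rperp B X₀ U₀, B ζ y ≠ 0 := by
    by_contra hcon
    push Not at hcon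
    refine hkey j c hj hje ?_
    rw [← rperp_rperp hB hh hXnd hU₀X]
    exact ⟨fun s hs => hB.eq_zero_comm (hcon s hs), hζX⟩
  set S := U₀ ⊔ orb (sOp h) y
  obtain ⟨W, hSW, hWX, hW, hWinv, hWd⟩ := exists_lag hB hh hXnd hhX _ S
    (sup_le hU₀X (orb_le hsX hy.2))
    (isot_orb_sup hB hh (fun x hx => hy.1 x hx))
    (fun x hx => by
      obtain ⟨a, ha, b, hb, rfl⟩ := Submodule.mem_sup.1 hx
      rw [map_add]
      exact Submodule.add_mem_sup (maps_orb ha) (maps_orb hb)) le_rfl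
  have hvW : v ∈ W := hSW (Submodule.mem_sup_left (self_mem_orb _ v))
  have hyW : y ∈ W := hSW (Submodule.mem_sup_right (self_mem_orb _ y))
  have hKz : ∀ x ∈ W, N x = 0 → ∃ a : F, x = a • z := by
    intro x hx hx0
    obtain ⟨a, b, rfl⟩ := hker1 x (hWX hx) hx0
    have hb : b = 0 := by simpa [hzv, hz'v] using hW _ hx v hvW
    exact ⟨a, by simp [hb]⟩
  have hz0 : N z = 0 := by
    rw [hz, ← Module.End.mul_apply, ← pow_succ']
    exact hzero (by omega) hv
  have hzW : z ∈ W → Odd e := fun hzW => by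
    rcases hζ with ⟨-, rfl, rfl⟩ | ⟨ho, -, -⟩
    · exact absurd (hW ζ (by simpa [ζ] using hzW) y hyW) hζy
    · exact ho
  -- two and three-dimensionality
  have hrank : e ≤ finrank F W := by
    have hli : LinearIndependent F
        (Sum.elim (fun i : Fin e => (N ^ (i : ℕ)) v) (fun i : Fin e => (N ^ (i : ℕ)) w)) := by
      rw [Fintype.linearIndependent_iff]
      intro f hf
      rw [Fintype.sum_sum_type] at hf
      simp only [Sum.elim_inl, Sum.elim_inr] at hf
      obtain ⟨h1, h2⟩ := indep (∑ i : Fin e, f (Sum.inl i) • X ^ (i : ℕ))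
        (∑ i : Fin e, f (Sum.inr i) • X ^ (i : ℕ)) (by simpa [map_sum] using hf)
      rw [X_pow_dvd_iff] at h1 h2
      rintro (i | i)
      · have := h1 i i.2
        simpa [finsetSum_coeff, coeff_X_pow, Fin.val_inj] using this
      · have := h2 i i.2
        simpa [finsetSum_coeff, coeff_X_pow, Fin.val_inj] using this
    have h1 := finrank_span_eq_card hli
    have h2 : Submodule.span F (Set.range
        (Sum.elim (fun i : Fin e => (N ^ (i : ℕ)) v) (fun i : Fin e => (N ^ (i : ℕ)) w))) ≤ X₀ := by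
      rw [Submodule.span_le]
      rintro _ ⟨i | i, rfl⟩
      · exact Submodule.mem_sup_left ⟨X ^ (i : ℕ), by simp⟩
      · exact Submodule.mem_sup_right ⟨X ^ (i : ℕ), by simp⟩
    have h3 := Submodule.finrank_mono h2
    rw [h1, Fintype.card_sum, Fintype.card_fin] at h3
    omega
  refine ⟨X₀, W, hXU, hXnd, hhX, hWX, hW, hWinv, hWd, ?_, by omega, z, hv1, hz0, hKz, fun hzW' => by
    obtain ⟨k, hk⟩ := hzW hzW'
    omega⟩
  intro x hx hhx
  by_contra hne
  classical
  have hKinv : ∀ x ∈ W ⊓ W.comap (h : V →ₗ[F] V), N x ∈ W ⊓ W.comap (h : V →ₗ[F] V) := by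
    rintro x ⟨hx, hx' : h x ∈ W⟩
    refine hN x ▸ sub_mem ⟨hx', ?_⟩ ⟨hx, hx'⟩
    show h (h x) ∈ W
    rw [apply_apply (g := h) x, apply_sOp]
    have := hWinv _ hx'
    exact sub_mem this hx
  have hex : ∃ i, (N ^ i) x = 0 := ⟨e, hNe x (hXU (hWX hx))⟩
  set i := Nat.find hex
  have hi : 2 ≤ i := by
    by_contra hlt
    refine hne ?_
    have hs := Nat.find_spec hex
    interval_cases hh' : i <;> simp [i, hh'] at hs ⊢
    · simp [hs]
    · exact hs
  set w₀ := (N ^ (i - 2)) x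
  have hw₀ : w₀ ∈ W ⊓ W.comap (h : V →ₗ[F] V) := by
    simpa [w₀] using aeval_mem hKinv (X ^ (i - 2)) (x := x) ⟨hx, hhx⟩
  have hNw₀ : N w₀ ∈ W := (hKinv _ hw₀).1
  have hNw₀' : N w₀ ≠ 0 := by
    rw [show N w₀ = (N ^ (i - 1)) x by
      rw [← Module.End.mul_apply, ← pow_succ', show i - 2 + 1 = i - 1 by omega]]
    exact Nat.find_min hex (by omega)
  have hNNw₀ : (N ^ 2) w₀ = 0 := by
    rw [← Module.End.mul_apply, ← pow_add, show 2 + (i - 2) = i by omega]
    exact Nat.find_spec hex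
  obtain ⟨p, r, hpr⟩ := hker 2 he w₀ (hWX hw₀.1) hNNw₀
  have hN1 : N w₀ = p.eval 0 • z + r.eval 0 • z' := by
    rw [hpr, map_add, show ∀ x, N x = aeval N (X : F[X]) x from fun x => by rw [aeval_X],
      show ∀ x, N x = aeval N (X : F[X]) x from fun x => by rw [aeval_X],
      ← aeval_mul_apply, ← aeval_mul_apply, ← mul_assoc, ← mul_assoc, ← pow_succ',
      hpow _ _ _ hv (by omega), hpow _ _ _ hw (by omega), hz, hz',
      show e - 2 + 1 = e - 1 by omega]
  have hr0 : r.eval 0 = 0 := by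
    have := hW _ hNw₀ v hvW
    simpa [hN1, hzv, hz'v] using this
  have hzW' : z ∈ W := by
    have ha : p.eval 0 ≠ 0 := fun h0 => hNw₀' (by simp [hN1, h0, hr0])
    have := Submodule.smul_mem W (p.eval 0)⁻¹ hNw₀
    rwa [hN1, hr0, zero_smul, add_zero, smul_smul, inv_mul_cancel₀ ha, one_smul] at this
  rcases hζ with ⟨hev, -, -⟩ | ⟨-, rfl, rfl⟩
  · exact Nat.not_odd_iff_even.2 hev (hzW hzW')
  -- the odd case
  obtain ⟨p', hp'⟩ : X ∣ p - C (p.eval 0) := by
    rw [X_dvd_iff]; simp [coeff_zero_eq_eval_zero]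
  obtain ⟨r', hr'⟩ : X ∣ r := by
    rwa [X_dvd_iff, coeff_zero_eq_eval_zero]
  have ha : p.eval 0 ≠ 0 := fun h0 => hNw₀' (by simp [hN1, h0, hr0])
  have hw₀' : w₀ = p.eval 0 • (N ^ (e - 2)) v + p'.eval 0 • z + r'.eval 0 • z' := by
    have hpw : (X : F[X]) ^ (e - 1) = X ^ (e - 2) * X := by
      rw [← pow_succ, show e - 2 + 1 = e - 1 by omega]
    have e1 : X ^ (e - 2) * p = p.eval 0 • X ^ (e - 2) + X ^ (e - 1) * p' := by
      rw [smul_eq_C_mul, hpw]
      linear_combination X ^ (e - 2) * hp'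
    have e2 : X ^ (e - 2) * r = X ^ (e - 1) * r' := by
      rw [hpw, hr', mul_assoc]
    rw [hpr, e1, e2, map_add, map_smul, LinearMap.add_apply, LinearMap.smul_apply,
      hpow _ _ _ hv (by omega), hpow _ _ _ hw (by omega), aeval_X_pow, hz, hz']
  have hζW : ζ ∈ W := by
    have h1 : w₀ - p'.eval 0 • z ∈ W := sub_mem hw₀.1 (Submodule.smul_mem _ _ hzW')
    have h2 : r'.eval 0 = p.eval 0 * B ((N ^ (e - 2)) v) v := by
      have := hW _ h1 v hvW
      rw [hw₀'] at this
      simp [hzv, hz'v] at this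
      linear_combination -this
    have h3 := Submodule.smul_mem W (p.eval 0)⁻¹ h1
    rw [hw₀', add_sub_right_comm, add_sub_cancel_right, h2, mul_smul, ← smul_add, smul_smul,
      inv_mul_cancel₀ ha, one_smul] at h3
    exact h3
  exact hζy (hW ζ hζW y hyW)

end Cfsg.Agent.SpComm4
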