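import Mathlib
import Cfsg.Agent.Lib.SymplecticSimple

/-!
A non-trivial complex representation of `Sp_2n(q)`, `q` odd, has dimension at least `(q^n - 1) / 2`.

Restrict to the Siegel unipotent group of symmetric matrices: some non-zero symmetric `S` gives a
non-zero eigenspace, and so does every matrix congruent to `S`.
-/

set_option autoImplicit false

open Matrix Cfsg

namespace Cfsg.Agent.SpOddMinDegree50

open Cfsg.Agent.SymplecticBasic Cfsg.Agent.SymplecticSimple

variable {F : Type*} [Field F] {n : ℕ}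

/-! ### Congruence classes of symmetric matrices -/

theorem exists_dot_ne_zero {u : Fin n → F} (hu : u ≠ 0) : ∃ y, u ⬝ᵥ y ≠ 0 := by
  obtain ⟨i, hi⟩ := Function.ne_iff.mp hu
  exact ⟨Pi.single i 1, by simpa using hi⟩

theorem exists_dot_eq_one {u : Fin n → F} (hu : u ≠ 0) : ∃ y, u ⬝ᵥ y = 1 := by
  obtain ⟨y, hy⟩ := exists_dot_ne_zero hu
  exact ⟨(u ⬝ᵥ y)⁻¹ • y, by rw [dotProduct_smul, smul_eq_mul, inv_mul_cancel₀ hy]⟩

theorem exists_dot_one_ne {u w : Fin n → F} (hu : u ≠ 0) (hw : w ≠ 0) :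
    ∃ y, u ⬝ᵥ y = 1 ∧ w ⬝ᵥ y ≠ 0 := by
  suffices h : ∃ y, u ⬝ᵥ y ≠ 0 ∧ w ⬝ᵥ y ≠ 0 by
    obtain ⟨y, hy, hy'⟩ := h
    exact ⟨(u ⬝ᵥ y)⁻¹ • y, by rw [dotProduct_smul, smul_eq_mul, inv_mul_cancel₀ hy], by
      rw [dotProduct_smul, smul_eq_mul]; exact mul_ne_zero (inv_ne_zero hy) hy'⟩
  obtain ⟨y1, h1⟩ := exists_dot_ne_zero hu
  obtain ⟨y2, h2⟩ := exists_dot_ne_zero hw
  by_cases a : w ⬝ᵥ y1 = 0
  · by_cases b : u ⬝ᵥ y2 = 0
    · exact ⟨y1 + y2, by rw [dotProduct_add, b, add_zero]; exact h1,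
        by rw [dotProduct_add, a, zero_add]; exact h2⟩
    · exact ⟨y2, b, h2⟩
  · exact ⟨y1, h1, a⟩

theorem isUnit_rankOne {y z : Fin n → F} (h : 1 + z ⬝ᵥ y ≠ 0) :
    IsUnit (1 + vecMulVec y z) := by
  rw [← Matrix.mulVec_injective_iff_isUnit]
  intro a b hab
  have hd : ∀ x, (1 + vecMulVec y z) *ᵥ x = x + (z ⬝ᵥ x) • y := fun x => by
    rw [Matrix.add_mulVec, Matrix.one_mulVec, Matrix.vecMulVec_mulVec, op_smul_eq_smul]
  simp only [hd] at hab
  have h1 := congrArg (fun x => z ⬝ᵥ x) hab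
  simp only [dotProduct_add, dotProduct_smul, smul_eq_mul] at h1
  have h2 : z ⬝ᵥ a = z ⬝ᵥ b := by
    have : (z ⬝ᵥ a - z ⬝ᵥ b) * (1 + z ⬝ᵥ y) = 0 := by linear_combination h1
    rcases mul_eq_zero.mp this with h3 | h3
    · exact sub_eq_zero.mp h3
    · exact absurd h3 h
  rw [h2] at hab
  exact add_right_cancel hab

theorem exists_unit_pair {u v e w : Fin n → F} (hu : u ≠ 0) (hv : v ≠ 0) (he : e ≠ 0) (hw : w ≠ 0)
    (h : u ⬝ᵥ v = w ⬝ᵥ e) :
    ∃ A : Matrix (Fin n) (Fin n) F, IsUnit A ∧ A *ᵥ e = v ∧ Aᵀ *ᵥ u = w := by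
  obtain ⟨f, hf1, hf2⟩ := exists_dot_one_ne (u := e) (w := v) he hv
  set A1 : Matrix (Fin n) (Fin n) F := 1 + vecMulVec (v - e) f with hA1
  have hu1 : IsUnit A1 := isUnit_rankOne (by
    rw [dotProduct_sub, dotProduct_comm f v, dotProduct_comm f e, hf1, add_sub_cancel]
    exact hf2)
  have hA1e : A1 *ᵥ e = v := by
    rw [hA1, Matrix.add_mulVec, Matrix.one_mulVec, Matrix.vecMulVec_mulVec, op_smul_eq_smul,
      dotProduct_comm, hf1, one_smul, add_sub_cancel]
  have hu' : A1ᵀ *ᵥ u ≠ 0 := fun h0 => hu <| Matrix.mulVec_injective_of_isUnit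
    ((Matrix.isUnit_transpose _).mpr hu1) (by rw [h0, Matrix.mulVec_zero])
  obtain ⟨y, hy1, hy2⟩ := exists_dot_one_ne hu' hw
  set z := w - A1ᵀ *ᵥ u with hz
  have hu2 : IsUnit (1 + vecMulVec y z) := isUnit_rankOne (by
    rw [hz, sub_dotProduct, hy1, add_sub_cancel]; exact hy2)
  have hze : z ⬝ᵥ e = 0 := by
    rw [hz, sub_dotProduct, Matrix.mulVec_transpose, ← Matrix.dotProduct_mulVec, hA1e, h, sub_self]
  refine ⟨A1 * (1 + vecMulVec y z), hu1.mul hu2, ?_, ?_⟩
  · have : (1 + vecMulVec y z) *ᵥ e = e := by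
      rw [Matrix.add_mulVec, Matrix.one_mulVec, Matrix.vecMulVec_mulVec, op_smul_eq_smul, hze,
        zero_smul, add_zero]
    rw [← Matrix.mulVec_mulVec, this, hA1e]
  · rw [Matrix.transpose_mul, ← Matrix.mulVec_mulVec, Matrix.transpose_add, Matrix.transpose_one,
      Matrix.transpose_vecMulVec, Matrix.add_mulVec, Matrix.one_mulVec, Matrix.vecMulVec_mulVec,
      op_smul_eq_smul, dotProduct_comm, hy1, one_smul, hz, add_sub_cancel]

theorem quad_add {S : Matrix (Fin n) (Fin n) F} (hS : Sᵀ = S) (x y : Fin n → F) (a b : F) :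
    (a • x + b • y) ⬝ᵥ (S *ᵥ (a • x + b • y)) =
      a ^ 2 * (x ⬝ᵥ (S *ᵥ x)) + 2 * (a * b) * ((S *ᵥ x) ⬝ᵥ y) + b ^ 2 * (y ⬝ᵥ (S *ᵥ y)) := by
  have hsym : x ⬝ᵥ (S *ᵥ y) = (S *ᵥ x) ⬝ᵥ y := by
    rw [Matrix.dotProduct_mulVec, ← Matrix.mulVec_transpose, hS]
  simp only [Matrix.mulVec_add, Matrix.mulVec_smul, dotProduct_add, add_dotProduct, dotProduct_smul,
    smul_dotProduct, smul_eq_mul, hsym, dotProduct_comm y (S *ᵥ x)]
  ring

theorem exists_quad_ne_zero (h2 : (2 : F) ≠ 0) {S : Matrix (Fin n) (Fin n) F} (hS : Sᵀ = S)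
    (h : S ≠ 0) : ∃ v, v ⬝ᵥ (S *ᵥ v) ≠ 0 := by
  by_contra hc
  push Not at hc
  refine h (Matrix.ext fun i j => ?_)
  have := hc ((1 : F) • Pi.single i 1 + (1 : F) • Pi.single j 1)
  rw [quad_add hS, hc, hc] at this
  simp only [mul_zero, zero_add, add_zero, mul_one, Matrix.mulVec_single_one, dotProduct_single,
    Matrix.col_apply] at this
  have hji : S j i = 0 := (mul_eq_zero.mp this).resolve_left h2
  rw [← hS, Matrix.transpose_apply, hji, Matrix.zero_apply]

theorem congr_rankOne (A : Matrix (Fin n) (Fin n) F) (a : F) (u : Fin n → F) :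
    Aᵀ * (a • vecMulVec u u) * A = a • vecMulVec (Aᵀ *ᵥ u) (Aᵀ *ᵥ u) := by
  rw [Matrix.mul_smul, Matrix.smul_mul, Matrix.mul_vecMulVec, Matrix.vecMulVec_mul,
    Matrix.mulVec_transpose]

open Classical in
/-- The matrices congruent to `S`. -/
noncomputable def orbit [Fintype F] (S : Matrix (Fin n) (Fin n) F) :
    Finset (Matrix (Fin n) (Fin n) F) :=
  Finset.univ.filter fun S' => ∃ A, IsUnit A ∧ Aᵀ * S * A = S'

theorem mem_orbit [Fintype F] {S S' : Matrix (Fin n) (Fin n) F} :
    S' ∈ orbit S ↔ ∃ A, IsUnit A ∧ Aᵀ * S * A = S' := by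
  classical
  simp [orbit]

theorem card_orbit [Fintype F] (hodd : Odd (Fintype.card F)) (h2 : (2 : F) ≠ 0)
    {S : Matrix (Fin n) (Fin n) F} (hS : Sᵀ = S) (hne : S ≠ 0) :
    Fintype.card F ^ n ≤ 2 * (orbit S).card + 1 := by
  classical
  obtain ⟨v, hv⟩ := exists_quad_ne_zero h2 hS hne
  set a := v ⬝ᵥ (S *ᵥ v) with ha
  set u := S *ᵥ v with hu
  have hv0 : v ≠ 0 := fun h => hv (by rw [ha, h, zero_dotProduct])
  have hu0 : u ≠ 0 := fun h => hv (by rw [ha, h, dotProduct_zero])
  by_cases h1 : S = a⁻¹ • vecMulVec u u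
  · -- rank one
    set T : Finset (Fin n → F) := Finset.univ.erase 0
    have hT : T.card + 1 = Fintype.card F ^ n := by
      rw [Finset.card_erase_add_one (Finset.mem_univ _), Finset.card_univ, Fintype.card_fun,
        Fintype.card_fin]
    have hmap : T.image (fun w => a⁻¹ • vecMulVec w w) ⊆ orbit S := by
      intro S' hS'
      obtain ⟨w, hw, rfl⟩ := Finset.mem_image.mp hS'
      have hw0 : w ≠ 0 := (Finset.mem_erase.mp hw).1
      obtain ⟨y, hy⟩ := exists_dot_eq_one hu0
      obtain ⟨e, he⟩ := exists_dot_eq_one hw0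
      obtain ⟨A, hA, -, hAu⟩ := exists_unit_pair hu0 (v := y) (e := e)
        (fun h => one_ne_zero (by rw [← hy, h, dotProduct_zero]))
        (fun h => one_ne_zero (by rw [← he, h, dotProduct_zero])) hw0 (hy.trans he.symm)
      refine mem_orbit.mpr ⟨A, hA, ?_⟩
      rw [h1, congr_rankOne, hAu]
    have hfib : ∀ S' ∈ T.image (fun w => a⁻¹ • vecMulVec w w),
        (T.filter fun w => a⁻¹ • vecMulVec w w = S').card ≤ 2 := by
      intro S' hS'
      obtain ⟨w, hw, rfl⟩ := Finset.mem_image.mp hS'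
      obtain ⟨i, hi⟩ := Function.ne_iff.mp (Finset.mem_erase.mp hw).1
      refine le_trans (Finset.card_le_card (t := {w, -w}) fun w' hw' => ?_) Finset.card_le_two
      have h := (smul_right_injective _ (inv_ne_zero hv)) (Finset.mem_filter.mp hw').2
      have hij : ∀ j, w' i * w' j = w i * w j := fun j => congrFun (congrFun h i) j
      rw [Finset.mem_insert, Finset.mem_singleton]
      rcases mul_self_eq_mul_self_iff.mp (hij i) with hs | hs
      · exact Or.inl (funext fun j => mul_left_cancel₀ hi (by rw [← hij, hs]))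
      · exact Or.inr (funext fun j => mul_left_cancel₀ hi (by
          rw [Pi.neg_apply, mul_neg, ← hij, hs, neg_mul, neg_neg]))
    have h3 := Finset.card_le_mul_card_image T 2 hfib
    have h4 := Finset.card_le_card hmap
    omega
  · -- rank at least two
    have hS1 : (S - a⁻¹ • vecMulVec u u)ᵀ = S - a⁻¹ • vecMulVec u u := by
      rw [Matrix.transpose_sub, Matrix.transpose_smul, Matrix.transpose_vecMulVec, hS]
    obtain ⟨z, hz⟩ := exists_quad_ne_zero h2 hS1 (sub_ne_zero.mpr h1)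
    have hb : u ⬝ᵥ ((1 : F) • z + (-((u ⬝ᵥ z) / a)) • v) = 0 := by
      rw [dotProduct_add, dotProduct_smul, dotProduct_smul, dotProduct_comm u v, ← ha, one_smul,
        smul_eq_mul, neg_mul, div_mul_cancel₀ _ hv, add_neg_cancel]
    set u2 := (1 : F) • z + (-((u ⬝ᵥ z) / a)) • v with hu2
    have hb2 : u2 ⬝ᵥ (S *ᵥ u2) ≠ 0 := by
      have hzz : z ⬝ᵥ ((S - a⁻¹ • vecMulVec u u) *ᵥ z) =
          z ⬝ᵥ (S *ᵥ z) - a⁻¹ * ((u ⬝ᵥ z) * (u ⬝ᵥ z)) := by
        rw [Matrix.sub_mulVec, Matrix.smul_mulVec, Matrix.vecMulVec_mulVec, op_smul_eq_smul,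
          dotProduct_sub, dotProduct_smul, dotProduct_smul, dotProduct_comm z u]
        rfl
      have hsym : (S *ᵥ z) ⬝ᵥ v = u ⬝ᵥ z := by
        rw [hu, dotProduct_comm (S *ᵥ v), dotProduct_comm (S *ᵥ z), Matrix.dotProduct_mulVec,
          ← Matrix.mulVec_transpose, hS, dotProduct_comm]
      intro h0
      apply hz
      rw [hu2, quad_add hS, hsym, ← ha] at h0
      rw [hzz, ← h0]
      field_simp
      ring
    have hall : ∀ c : F, c ≠ 0 → ∃ x : Fin n → F, x ⬝ᵥ (S *ᵥ x) = c := by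
      intro c _
      obtain ⟨x, y, hxy⟩ := FiniteField.exists_root_sum_quadratic
        (f := Polynomial.C a * Polynomial.X ^ 2)
        (g := Polynomial.C (u2 ⬝ᵥ (S *ᵥ u2)) * Polynomial.X ^ 2 - Polynomial.C c)
        (Polynomial.degree_C_mul_X_pow 2 hv)
        (by
          rw [Polynomial.degree_sub_eq_left_of_degree_lt, Polynomial.degree_C_mul_X_pow 2 hb2]
          · rfl
          · rw [Polynomial.degree_C_mul_X_pow 2 hb2]
            exact lt_of_le_of_lt Polynomial.degree_C_le (by decide))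
        (Nat.odd_iff.mp hodd)
      simp only [Polynomial.eval_sub, Polynomial.eval_mul, Polynomial.eval_C, Polynomial.eval_pow,
        Polynomial.eval_X] at hxy
      refine ⟨x • v + y • u2, ?_⟩
      rw [quad_add hS, hb, ← ha]
      linear_combination hxy
    rcases Nat.eq_zero_or_pos n with rfl | hn
    · exact absurd (Subsingleton.elim _ _) hne
    obtain ⟨m, rfl⟩ : ∃ m, n = m + 1 := ⟨n - 1, by omega⟩
    set T : Finset (Fin (m + 1) → F) :=
      Fintype.piFinset fun i => if i = 0 then Finset.univ.erase 0 else Finset.univ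
    have hT : T.card = (Fintype.card F - 1) * Fintype.card F ^ m := by
      rw [Fintype.card_piFinset, Fin.prod_univ_succ]
      simp [Fin.succ_ne_zero, Finset.card_erase_of_mem]
    have hsub : T ⊆ (orbit S).image (fun S' => S' *ᵥ (Pi.single 0 1 : Fin (m + 1) → F)) := by
      intro w hw
      have hw0 : w 0 ≠ 0 := by
        have h := Fintype.mem_piFinset.mp hw 0
        rw [if_pos rfl] at h
        exact (Finset.mem_erase.mp h).1
      obtain ⟨x, hx⟩ := hall _ hw0
      obtain ⟨A, hA, hAe, hAu⟩ := exists_unit_pair (u := S *ᵥ x) (v := x) (e := Pi.single 0 1)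
        (w := w) (fun h => hw0 (by rw [← hx, h, dotProduct_zero]))
        (fun h => hw0 (by rw [← hx, h, zero_dotProduct])) (by simp)
        (fun h => hw0 (by rw [h]; rfl)) (by rw [dotProduct_comm, hx]; simp)
      refine Finset.mem_image.mpr ⟨Aᵀ * S * A, mem_orbit.mpr ⟨A, hA, rfl⟩, ?_⟩
      rw [← Matrix.mulVec_mulVec, hAe, ← Matrix.mulVec_mulVec, hAu]
    have h3 : T.card ≤ (orbit S).card := le_trans (Finset.card_le_card hsub) Finset.card_image_le
    obtain ⟨k, hk⟩ := hodd
    have hk1 : 1 ≤ k := by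
      have := Fintype.one_lt_card (α := F)
      omega
    rw [hT, hk, Nat.add_sub_cancel] at h3
    rw [hk, pow_succ]
    nlinarith [Nat.one_le_pow m (2 * k + 1) (by omega), hk1]

/-! ### The Siegel unipotent group -/

variable (F n) in
/-- Symmetric matrices. -/
def symM : AddSubgroup (Matrix (Fin n) (Fin n) F) where
  carrier := {B | Bᵀ = B}
  add_mem' {a b} ha hb := by
    change (a + b)ᵀ = a + b
    rw [Matrix.transpose_add, show aᵀ = a from ha, show bᵀ = b from hb]
  zero_mem' := Matrix.transpose_zero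
  neg_mem' {a} ha := by
    change (-a)ᵀ = -a
    rw [Matrix.transpose_neg, show aᵀ = a from ha]

/-- A Siegel unipotent element. -/
def siegel (B : symM F n) : symplecticGroup (Fin n) F :=
  ⟨fromBlocks 1 B.1 0 1, by
    rw [SymplecticGroup.mem_iff, Matrix.J, fromBlocks_multiply, fromBlocks_transpose,
      fromBlocks_multiply]
    simp [show (B.1)ᵀ = B.1 from B.2]⟩

theorem siegel_add (B C : symM F n) : siegel (B + C) = siegel B * siegel C :=
  Subtype.ext (by simp [siegel, fromBlocks_multiply, add_comm])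

theorem siegel_zero : siegel (0 : symM F n) = 1 :=
  Subtype.ext (by simp [siegel])

/-- A Levi element. -/
def levi (A A' : Matrix (Fin n) (Fin n) F) (h : A * A' = 1) : symplecticGroup (Fin n) F :=
  ⟨fromBlocks A 0 0 A'ᵀ, by
    rw [SymplecticGroup.mem_iff, Matrix.J, fromBlocks_multiply, fromBlocks_transpose,
      fromBlocks_multiply]
    simp [h, ← Matrix.transpose_mul]⟩

/-- Congruence on symmetric matrices. -/
def congrSym (A : Matrix (Fin n) (Fin n) F) (B : symM F n) : symM F n :=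
  ⟨A * B.1 * Aᵀ, by
    change (A * B.1 * Aᵀ)ᵀ = A * B.1 * Aᵀ
    rw [Matrix.transpose_mul, Matrix.transpose_mul, Matrix.transpose_transpose,
      show (B.1)ᵀ = B.1 from B.2, Matrix.mul_assoc]⟩

theorem levi_siegel (A A' : Matrix (Fin n) (Fin n) F) (h : A * A' = 1) (B : symM F n) :
    levi A A' h * siegel B = siegel (congrSym A B) * levi A A' h := by
  have h' : Aᵀ * A'ᵀ = 1 := by
    rw [← Matrix.transpose_mul, mul_eq_one_comm.mp h, Matrix.transpose_one]
  exact Subtype.ext (by simp [siegel, levi, congrSym, fromBlocks_multiply, Matrix.mul_assoc, h'])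

theorem exists_trace_eq (h2 : (2 : F) ≠ 0) {D : Matrix (Fin n) (Fin n) F} (hD : Dᵀ = D)
    (hne : D ≠ 0) (t : F) : ∃ C : symM F n, Matrix.trace (D * C.1) = t := by
  obtain ⟨v, hv⟩ := exists_quad_ne_zero h2 hD hne
  refine ⟨⟨(t / (v ⬝ᵥ (D *ᵥ v))) • vecMulVec v v, ?_⟩, ?_⟩
  · change ((t / (v ⬝ᵥ (D *ᵥ v))) • vecMulVec v v)ᵀ = _
    rw [Matrix.transpose_smul, Matrix.transpose_vecMulVec]
  · rw [Matrix.mul_smul, Matrix.trace_smul, Matrix.mul_vecMulVec, Matrix.trace_vecMulVec,
      smul_eq_mul, dotProduct_comm (D *ᵥ v), div_mul_cancel₀ _ hv]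

/-! ### The bound -/

theorem two_ne_zero_of_odd [Fintype F] (hodd : Odd (Fintype.card F)) : (2 : F) ≠ 0 := by
  intro h
  exact Nat.not_even_iff_odd.mpr hodd
    (Nat.even_iff.mpr (FiniteField.even_card_of_char_two (F := F)
      (CharTwo.of_one_ne_zero_of_two_eq_zero one_ne_zero h |> ringChar.eq_iff.mpr)))

theorem exists_char_ne_one [Fintype F] : ∃ ψ : AddChar F ℂ, ∃ t, ψ t ≠ 1 :=
  let ⟨ψ, hψ⟩ := (AddChar.exists_apply_ne_zero (a := (1 : F))).mpr one_ne_zero
  ⟨ψ, 1, hψ⟩

theorem trivial_of_small [Fintype F] (hodd : Odd (Fintype.card F)) (hn : 2 ≤ n)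
    {V : Type*} [AddCommGroup V] [Module ℂ V] [FiniteDimensional ℂ V]
    (σ : symplecticGroup (Fin n) F →* Module.End ℂ V)
    (hsmall : 2 * Module.finrank ℂ V + 1 < Fintype.card F ^ n) : σ = 1 := by
  classical
  have h2 := two_ne_zero_of_odd hodd
  obtain ⟨ψ, t₀, hψ⟩ := exists_char_ne_one (F := F)
  have : Fintype (symM F n) := Fintype.ofFinite _
  let Φ : symM F n → Module.End ℂ V := fun S =>
    ∑ B : symM F n, ψ (-Matrix.trace (S.1 * B.1)) • σ (siegel B)
  have hshift : ∀ S C, σ (siegel C) * Φ S = ψ (Matrix.trace (S.1 * C.1)) • Φ S := by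
    intro S C
    simp only [Φ, Finset.mul_sum, Finset.smul_sum, smul_smul]
    refine Fintype.sum_equiv (Equiv.addLeft C) _ _ fun B => ?_
    rw [Equiv.coe_addLeft, siegel_add, map_mul, mul_smul_comm, ← AddChar.map_add_eq_mul]
    congr 2
    rw [AddSubgroup.coe_add, Matrix.mul_add, Matrix.trace_add]
    ring
  have hsum : ∀ D : symM F n, D ≠ 0 →
      ∑ C : symM F n, ψ (Matrix.trace (D.1 * C.1)) = 0 := by
    intro D hD
    let φ : symM F n →+ F :=
      { toFun := fun C => Matrix.trace (D.1 * C.1)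
        map_zero' := by simp
        map_add' := fun a b => by simp [Matrix.mul_add] }
    obtain ⟨C, hC⟩ := exists_trace_eq h2 D.2 (fun h => hD (Subtype.ext h)) t₀
    have : ψ.compAddMonoidHom φ ≠ 1 := by
      intro h
      apply hψ
      have := DFunLike.congr_fun h C
      simpa [φ, hC] using this
    exact AddChar.sum_eq_zero_of_ne_one this
  have horth : ∀ S S', S ≠ S' → Φ S * Φ S' = 0 := by
    intro S S' hne
    have : Φ S * Φ S' = (∑ C : symM F n, ψ (Matrix.trace ((S' - S).1 * C.1))) • Φ S' := by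
      rw [show Φ S = ∑ B : symM F n, ψ (-Matrix.trace (S.1 * B.1)) • σ (siegel B) from rfl,
        Finset.sum_mul, Finset.sum_smul]
      refine Finset.sum_congr rfl fun C _ => ?_
      rw [smul_mul_assoc, hshift, smul_smul, ← AddChar.map_add_eq_mul]
      congr 2
      rw [AddSubgroup.coe_sub, Matrix.sub_mul, Matrix.trace_sub]
      ring
    rw [this, hsum _ (sub_ne_zero.mpr (Ne.symm hne)), zero_smul]
  have hN : (Fintype.card (symM F n) : ℂ) ≠ 0 := Nat.cast_ne_zero.mpr Fintype.card_ne_zero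
  have hself : ∀ S, Φ S * Φ S = (Fintype.card (symM F n) : ℂ) • Φ S := by
    intro S
    calc Φ S * Φ S = ∑ B : symM F n, ψ (-Matrix.trace (S.1 * B.1)) • (σ (siegel B) * Φ S) := by
          simp only [Φ, Finset.sum_mul, smul_mul_assoc]
      _ = ∑ _B : symM F n, Φ S := by
          refine Finset.sum_congr rfl fun B _ => ?_
          rw [hshift, smul_smul, ← AddChar.map_add_eq_mul, neg_add_cancel, AddChar.map_zero_eq_one,
            one_smul]
      _ = _ := by rw [Finset.sum_const, Finset.card_univ, ← Nat.cast_smul_eq_nsmul ℂ]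
  by_cases hall : ∀ S, S ≠ 0 → Φ S = 0
  · -- the Siegel group acts trivially
    have htot : ∑ S, Φ S = (Fintype.card (symM F n) : ℂ) • (1 : Module.End ℂ V) := by
      simp only [Φ]
      rw [Finset.sum_comm, Fintype.sum_eq_single (0 : symM F n)]
      · simp [siegel_zero, Finset.sum_const, ← Nat.cast_smul_eq_nsmul ℂ]
      · intro B hB
        rw [← Finset.sum_smul]
        have := hsum (-B) (neg_ne_zero.mpr hB)
        rw [Finset.sum_congr rfl fun C _ => show ψ (-Matrix.trace (C.1 * B.1)) =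
          ψ (Matrix.trace ((-B).1 * C.1)) by
            rw [AddSubgroup.coe_neg, Matrix.neg_mul, Matrix.trace_neg, Matrix.trace_mul_comm],
          this, zero_smul]
    rw [Fintype.sum_eq_single 0 hall] at htot
    have htriv : ∀ C, σ (siegel C) = 1 := by
      intro C
      have h := hshift 0 C
      rw [htot] at h
      simp only [ZeroMemClass.coe_zero, Matrix.zero_mul, Matrix.trace_zero, AddChar.map_zero_eq_one,
        one_smul, mul_smul_comm, mul_one] at h
      exact smul_right_injective _ hN h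
    let i₀ : Fin n := ⟨0, by omega⟩
    let B₀ : symM F n := ⟨Matrix.single i₀ i₀ 1, Matrix.transpose_single _ _ _⟩
    have hnot : ¬ σ.ker ≤ Subgroup.center (symplecticGroup (Fin n) F) := by
      intro hle
      obtain ⟨a, ha⟩ := center_scalar (by omega) (hle (htriv B₀ : siegel B₀ ∈ σ.ker))
      have h := congrFun (ha (Pi.single (Sum.inr i₀) 1)) (Sum.inl i₀)
      simp [siegel, B₀] at h
    have htop : σ.ker = ⊤ := top_le_iff.mp (le_of_eq_of_le
      (perfect n (by
        have := Fintype.one_lt_card (α := F)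
        obtain ⟨k, hk⟩ := hodd
        rcases (show n = 2 ∨ 3 ≤ n by omega) with h | h
        · exact Or.inr (Or.inl ⟨h, by omega⟩)
        · exact Or.inl h)).symm (commutator_le_of_normal hn _ hnot))
    exact MonoidHom.ext fun g => (htop ▸ Subgroup.mem_top g : g ∈ σ.ker)
  · push Not at hall
    obtain ⟨S₀, hS₀, hΦ₀⟩ := hall
    have hcongr : ∀ (A A' : Matrix (Fin n) (Fin n) F) (h : A * A' = 1) (S S' : symM F n),
        S.1 = Aᵀ * S'.1 * A → σ (levi A A' h) * Φ S = Φ S' * σ (levi A A' h) := by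
      intro A A' h S S' hS
      simp only [Φ, Finset.mul_sum, Finset.sum_mul]
      refine Fintype.sum_bijective (congrSym A) ?_ _ _ fun B => ?_
      · refine (Finite.injective_iff_bijective).mp fun B C hBC => Subtype.ext ?_
        have hu : IsUnit A := IsUnit.of_mul_eq_one A' h
        exact hu.mul_right_injective (((Matrix.isUnit_transpose _).mpr hu).mul_left_injective
          (congrArg Subtype.val hBC))
      · rw [mul_smul_comm, smul_mul_assoc, ← map_mul, ← map_mul, levi_siegel]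
        congr 3
        simp only [hS, congrSym, Matrix.mul_assoc]
        rw [Matrix.trace_mul_comm]
        simp only [Matrix.mul_assoc]
    let Sset := orbit S₀.1
    have hne : ∀ S' ∈ Sset, ∃ h : S'ᵀ = S', Φ ⟨S', h⟩ ≠ 0 := by
      intro S' hS'
      obtain ⟨A, hA, rfl⟩ := mem_orbit.mp hS'
      have h : (Aᵀ * S₀.1 * A)ᵀ = Aᵀ * S₀.1 * A := by
        rw [Matrix.transpose_mul, Matrix.transpose_mul, Matrix.transpose_transpose,
          show (S₀.1)ᵀ = S₀.1 from S₀.2, Matrix.mul_assoc]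
      refine ⟨h, fun h0 => hΦ₀ ?_⟩
      have he := hcongr A (↑hA.unit⁻¹) hA.mul_val_inv ⟨_, h⟩ S₀ rfl
      rw [h0, mul_zero] at he
      have hu : IsUnit (σ (levi A (↑hA.unit⁻¹) hA.mul_val_inv)) := (Group.isUnit _).map σ
      exact hu.mul_left_eq_zero.mp he.symm
    choose hsymm hΦne using hne
    have hx : ∀ S : Sset, ∃ x, Φ ⟨S.1, hsymm _ S.2⟩ x ≠ 0 := fun S => by
      by_contra hc
      push Not at hc
      exact hΦne _ S.2 (LinearMap.ext hc)
    choose x hx using hx
    have hli : LinearIndependent ℂ fun S : Sset => Φ ⟨S.1, hsymm _ S.2⟩ (x S) := by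
      rw [Fintype.linearIndependent_iff]
      intro c hc S
      have h := congrArg (Φ ⟨S.1, hsymm _ S.2⟩) hc
      rw [map_sum, map_zero, Fintype.sum_eq_single S] at h
      · rw [map_smul, ← Module.End.mul_apply, hself, LinearMap.smul_apply] at h
        rcases smul_eq_zero.mp h with h1 | h1
        · exact h1
        · exact absurd ((smul_eq_zero.mp h1).resolve_left hN) (hx S)
      · intro T hT
        rw [map_smul, ← Module.End.mul_apply, horth _ _ (fun e => hT
          (Subtype.ext (congrArg Subtype.val e).symm)), LinearMap.zero_apply, smul_zero]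
    have h1 := hli.fintype_card_le_finrank
    rw [Fintype.card_coe] at h1
    have h3 := card_orbit hodd h2 S₀.2 (fun h => hS₀ (Subtype.ext h))
    change (orbit S₀.1).card ≤ _ at h1
    omega

end Cfsg.Agent.SpOddMinDegree50
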