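import Mathlib
import Cfsg.Agent.Lib.SpOddMinDegree50

/-!
In characteristic two the `GL_n`-orbit of a quadratic form with non-zero polar form has at least
`(q^n - 1)(q^n - q) / (2(q + 1))` elements, by double counting forms against pairs of vectors.
-/

set_option autoImplicit false

open Matrix Finset

namespace Cfsg.Agent.SpEvenQuadOrbit50

open Cfsg.Agent.SpOddMinDegree50 (exists_dot_one_ne isUnit_rankOne)

variable {F : Type*} [Field F] {n : ℕ}

/-- The quadratic form of a matrix. -/
def quad (M : Matrix (Fin n) (Fin n) F) (v : Fin n → F) : F := v ⬝ᵥ (M *ᵥ v)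

/-- Its polar form. -/
def bil (M : Matrix (Fin n) (Fin n) F) (v : Fin n → F) : (Fin n → F) →ₗ[F] F where
  toFun w := v ⬝ᵥ ((M + Mᵀ) *ᵥ w)
  map_add' a b := by rw [Matrix.mulVec_add, dotProduct_add]
  map_smul' c a := by rw [Matrix.mulVec_smul, dotProduct_smul, RingHom.id_apply]

theorem bil_comm (M : Matrix (Fin n) (Fin n) F) (v w : Fin n → F) : bil M v w = bil M w v := by
  change v ⬝ᵥ ((M + Mᵀ) *ᵥ w) = w ⬝ᵥ ((M + Mᵀ) *ᵥ v)
  rw [Matrix.dotProduct_mulVec, ← Matrix.mulVec_transpose, dotProduct_comm, Matrix.transpose_add,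
    Matrix.transpose_transpose, add_comm Mᵀ M]

theorem bil_smul_left (M : Matrix (Fin n) (Fin n) F) (c : F) (v w : Fin n → F) :
    bil M (c • v) w = c * bil M v w := by
  rw [bil_comm, map_smul, bil_comm, smul_eq_mul]

theorem bil_add_left (M : Matrix (Fin n) (Fin n) F) (u v w : Fin n → F) :
    bil M (u + v) w = bil M u w + bil M v w := by
  rw [bil_comm, map_add, bil_comm M w u, bil_comm M w v]

theorem quad_add (M : Matrix (Fin n) (Fin n) F) (v w : Fin n → F) :
    quad M (v + w) = quad M v + quad M w + bil M v w := by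
  have h : v ⬝ᵥ (Mᵀ *ᵥ w) = w ⬝ᵥ (M *ᵥ v) := by
    rw [Matrix.dotProduct_mulVec, Matrix.vecMul_transpose, dotProduct_comm]
  change (v + w) ⬝ᵥ (M *ᵥ (v + w)) =
    v ⬝ᵥ (M *ᵥ v) + w ⬝ᵥ (M *ᵥ w) + v ⬝ᵥ ((M + Mᵀ) *ᵥ w)
  rw [Matrix.mulVec_add, Matrix.add_mulVec, dotProduct_add, dotProduct_add, add_dotProduct,
    add_dotProduct, h]
  ring

theorem quad_smul (M : Matrix (Fin n) (Fin n) F) (c : F) (v : Fin n → F) :
    quad M (c • v) = c ^ 2 * quad M v := by
  simp only [quad, Matrix.mulVec_smul, dotProduct_smul, smul_dotProduct, smul_eq_mul]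
  ring

theorem bil_self [CharP F 2] (M : Matrix (Fin n) (Fin n) F) (v : Fin n → F) : bil M v v = 0 := by
  have h := quad_add M v v
  rw [← two_smul F v, quad_smul] at h
  have h2 : (2 : F) = 0 := CharTwo.two_eq_zero
  linear_combination -h + (2 * quad M v - quad M v) * h2

theorem quad_add_smul [CharP F 2] (M : Matrix (Fin n) (Fin n) F) (v w : Fin n → F) (t : F) :
    quad M (w + t • v) = quad M w + t ^ 2 * quad M v + t * bil M v w := by
  rw [quad_add, quad_smul, bil_comm, bil_smul_left]

/-- The polar form of a function. -/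
def polf (g : (Fin n → F) → F) (v w : Fin n → F) : F := g (v + w) - g v - g w

theorem polf_quad (M A : Matrix (Fin n) (Fin n) F) (v w : Fin n → F) :
    polf (fun x => quad M (A *ᵥ x)) v w = bil M (A *ᵥ v) (A *ᵥ w) := by
  simp only [polf, Matrix.mulVec_add, quad_add]
  ring

theorem exists_unit_two {m : ℕ} {v w : Fin (m + 2) → F} (hv : v ≠ 0) (hw : ∀ c : F, w ≠ c • v) :
    ∃ A : Matrix (Fin (m + 2)) (Fin (m + 2)) F, IsUnit A ∧ A *ᵥ Pi.single 0 1 = v ∧
      A *ᵥ Pi.single 1 1 = w := by
  set e : Fin (m + 2) → F := Pi.single 0 1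
  have he : e ≠ 0 := by simp [e]
  obtain ⟨f, hf1, hf2⟩ := exists_dot_one_ne (u := e) (w := v) he hv
  set A1 : Matrix (Fin (m + 2)) (Fin (m + 2)) F := 1 + vecMulVec (v - e) f with hA1
  have hu1 : IsUnit A1 := isUnit_rankOne (by
    rw [dotProduct_sub, dotProduct_comm f v, dotProduct_comm f e, hf1, add_sub_cancel]
    exact hf2)
  have hA1e : A1 *ᵥ e = v := by
    rw [hA1, Matrix.add_mulVec, Matrix.one_mulVec, Matrix.vecMulVec_mulVec, op_smul_eq_smul,
      dotProduct_comm, hf1, one_smul, add_sub_cancel]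
  obtain ⟨w', hw'⟩ := (Matrix.mulVec_surjective_iff_isUnit.mpr hu1) w
  set e1 : Fin (m + 2) → F := Pi.single 1 1
  have hz : ∃ z : Fin (m + 2) → F, z ⬝ᵥ e = 0 ∧ z ⬝ᵥ e1 = 1 ∧ z ⬝ᵥ w' ≠ 0 := by
    by_cases h1 : w' 1 = 0
    · have hi : ∃ i, i ≠ 0 ∧ w' i ≠ 0 := by
        by_contra hc
        push Not at hc
        refine hw (w' 0) ?_
        rw [← hw', ← hA1e, ← Matrix.mulVec_smul]
        congr 1
        funext i
        by_cases hi : i = 0
        · subst hi; simp [e]
        · simp [e, hi, hc i hi]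
      obtain ⟨i, hi0, hi⟩ := hi
      have hi1 : i ≠ 1 := fun h => hi (h ▸ h1)
      refine ⟨Pi.single 1 1 + Pi.single i 1, ?_, ?_, ?_⟩
      · simp [e, hi0, hi0.symm, add_dotProduct]
      · simp [e1, hi1, hi1.symm, add_dotProduct]
      · simpa [add_dotProduct, h1] using hi
    · exact ⟨Pi.single 1 1, by simp [e], by simp [e1], by simpa using h1⟩
  obtain ⟨z, hz0, hz1, hz2⟩ := hz
  have hu2 : IsUnit (1 + vecMulVec (w' - e1) z) := isUnit_rankOne (by
    rw [dotProduct_sub, hz1, add_sub_cancel]; exact hz2)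
  refine ⟨A1 * (1 + vecMulVec (w' - e1) z), hu1.mul hu2, ?_, ?_⟩
  · rw [← Matrix.mulVec_mulVec, show (1 + vecMulVec (w' - e1) z) *ᵥ e = e by
      rw [Matrix.add_mulVec, Matrix.one_mulVec, Matrix.vecMulVec_mulVec, op_smul_eq_smul, hz0,
        zero_smul, add_zero], hA1e]
  · rw [← Matrix.mulVec_mulVec, show (1 + vecMulVec (w' - e1) z) *ᵥ e1 = w' by
      rw [Matrix.add_mulVec, Matrix.one_mulVec, Matrix.vecMulVec_mulVec, op_smul_eq_smul, hz1,
        one_smul, add_sub_cancel]]
    exact hw'

/-- A basis starting with a non-degenerate pair, with prescribed pairings against the pair. -/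
theorem exists_unit_data [CharP F 2] {m : ℕ} (M : Matrix (Fin (m + 2)) (Fin (m + 2)) F)
    {v w : Fin (m + 2) → F} {c : F} (hc : bil M v w = c) (hc0 : c ≠ 0) (r s : Fin m → F) :
    ∃ A : Matrix (Fin (m + 2)) (Fin (m + 2)) F, IsUnit A ∧ A *ᵥ Pi.single 0 1 = v ∧
      A *ᵥ Pi.single 1 1 = w ∧ (∀ j, bil M v (A *ᵥ Pi.single j.succ.succ 1) = r j) ∧
      ∀ j, bil M w (A *ᵥ Pi.single j.succ.succ 1) = s j := by
  classical
  have hwv : bil M w v = c := by rw [bil_comm, hc]
  set Ψ : (Fin (m + 2) → F) →ₗ[F] F × F := (bil M v).prod (bil M w) with hΨ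
  have hsurj : Function.Surjective Ψ := fun ⟨x, y⟩ =>
    ⟨(y / c) • v + (x / c) • w, by
      simp [hΨ, bil_self, hc, hwv, div_mul_cancel₀ _ hc0]⟩
  have hK : Module.finrank F (LinearMap.ker Ψ) = m := by
    have := LinearMap.finrank_range_add_finrank_ker Ψ
    rw [LinearMap.range_eq_top.mpr hsurj, finrank_top, Module.finrank_prod, Module.finrank_self,
      Module.finrank_fin_fun] at this
    omega
  let κ : (Fin m → F) ≃ₗ[F] LinearMap.ker Ψ :=
    (Module.finBasisOfFinrankEq F (LinearMap.ker Ψ) hK).equivFun.symm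
  let rest : (Fin (m + 2) → F) →ₗ[F] (Fin m → F) := LinearMap.funLeft F F fun j => j.succ.succ
  let la : (Fin (m + 2) → F) →ₗ[F] F :=
    LinearMap.proj 0 + ∑ j : Fin m, (s j / c) • LinearMap.proj j.succ.succ
  let lb : (Fin (m + 2) → F) →ₗ[F] F :=
    LinearMap.proj 1 + ∑ j : Fin m, (r j / c) • LinearMap.proj j.succ.succ
  let L : (Fin (m + 2) → F) →ₗ[F] (Fin (m + 2) → F) :=
    la.smulRight v + lb.smulRight w +
      (LinearMap.ker Ψ).subtype.comp (κ.toLinearMap.comp rest)
  have hker : ∀ z, bil M v (κ z : Fin (m + 2) → F) = 0 ∧ bil M w (κ z : Fin (m + 2) → F) = 0 :=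
    fun z => by
      have := LinearMap.mem_ker.mp (κ z).2
      exact ⟨congrArg Prod.fst this, congrArg Prod.snd this⟩
  have hL : ∀ z, L z = la z • v + lb z • w + (κ (rest z) : Fin (m + 2) → F) := fun z => rfl
  have hbv : ∀ z, bil M v (L z) = lb z * c := fun z => by
    simp [hL, bil_self, hc, (hker _).1]
  have hbw : ∀ z, bil M w (L z) = la z * c := fun z => by
    simp [hL, bil_self, hwv, (hker _).2]
  have hinj : Function.Injective L := by
    rw [← LinearMap.ker_eq_bot, LinearMap.ker_eq_bot']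
    intro z hz
    have ha : la z = 0 := by
      have := hbw z; rw [hz, map_zero] at this
      exact (mul_eq_zero.mp this.symm).resolve_right hc0
    have hb : lb z = 0 := by
      have := hbv z; rw [hz, map_zero] at this
      exact (mul_eq_zero.mp this.symm).resolve_right hc0
    rw [hL, ha, hb, zero_smul, zero_smul, zero_add, zero_add, Submodule.coe_eq_zero,
      LinearEquiv.map_eq_zero_iff] at hz
    have hz' : ∀ j : Fin m, z j.succ.succ = 0 := fun j => congrFun hz j
    funext i
    refine Fin.cases ?_ (fun i' => Fin.cases ?_ (fun j => hz' j) i') i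
    · simpa [la, hz'] using ha
    · simpa [lb, hz'] using hb
  refine ⟨LinearMap.toMatrix' L, ?_, ?_, ?_, ?_, ?_⟩
  · rw [← Matrix.mulVec_injective_iff_isUnit]
    intro a b hab
    apply hinj
    simpa [LinearMap.toMatrix'_mulVec] using hab
  all_goals simp only [LinearMap.toMatrix'_mulVec]
  · have h0 : rest (Pi.single 0 1) = 0 := by funext j; simp [rest, Fin.succ_ne_zero]
    rw [hL, h0, map_zero]
    simp [la, lb]
  · have h0 : rest (Pi.single 1 1) = 0 := by
      funext j; simp [rest, Fin.ext_iff]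
    rw [hL, h0, map_zero]
    simp [la, lb, Fin.ext_iff]
  · intro j
    rw [hbv]
    simp [lb, Fin.ext_iff, Pi.single_apply]
    simp [Fin.val_inj, div_mul_cancel₀ _ hc0]
  · intro j
    rw [hbw]
    simp [la, Fin.ext_iff, Pi.single_apply]
    simp [Fin.val_inj, div_mul_cancel₀ _ hc0]

variable [Fintype F] [DecidableEq F]

omit [Fintype F] [DecidableEq F] in
theorem card_submodule {V : Type*} [AddCommGroup V] [Module F V] [Fintype F] [Finite V] :
    Nat.card V = Fintype.card F ^ Module.finrank F V := by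
  rw [Module.natCard_eq_pow_finrank (K := F), Nat.card_eq_fintype_card]

/-- Orbit of a quadratic form. -/
noncomputable def orbit (M : Matrix (Fin n) (Fin n) F) : Finset ((Fin n → F) → F) := by
  classical
  exact (univ.filter fun A : Matrix (Fin n) (Fin n) F => IsUnit A).image
    fun A v => quad M (A *ᵥ v)

theorem mem_orbit {M : Matrix (Fin n) (Fin n) F} {g : (Fin n → F) → F} :
    g ∈ orbit M ↔ ∃ A, IsUnit A ∧ (fun v => quad M (A *ᵥ v)) = g := by
  classical
  simp [orbit]

theorem card_orbit_ge [CharP F 2] (hn : 2 ≤ n) (M : Matrix (Fin n) (Fin n) F)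
    (hM : ∃ v w, bil M v w ≠ 0) :
    (Fintype.card F ^ n - 1) * (Fintype.card F ^ n - Fintype.card F) ≤
      2 * (Fintype.card F + 1) * (orbit M).card := by
  classical
  obtain ⟨m, rfl⟩ : ∃ m, n = m + 2 := ⟨n - 2, by omega⟩
  set q := Fintype.card F with hq
  have hq1 : 1 < q := Fintype.one_lt_card
  have hsq : ∀ x : F, ∃ a, a ^ 2 = x := fun x => (FiniteField.isSquare_of_char_two
    (ringChar.eq_iff.mpr inferInstance) x).elim fun a ha => ⟨a, by rw [ha, sq]⟩
  -- a non-degenerate pair with non-singular first vector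
  obtain ⟨v₀, w₀, hb₀, hf₀⟩ : ∃ v w, bil M v w = 1 ∧ quad M v ≠ 0 := by
    obtain ⟨v, w, hvw⟩ := hM
    set w' := (bil M v w)⁻¹ • w with hw'
    have h1 : bil M v w' = 1 := by rw [hw', map_smul, smul_eq_mul, inv_mul_cancel₀ hvw]
    by_cases hv : quad M v = 0
    · by_cases hw : quad M w' = 0
      · exact ⟨v + w', w', by rw [bil_add_left, h1, bil_self, add_zero],
          by rw [quad_add, hv, hw, h1, add_zero, zero_add]; exact one_ne_zero⟩
      · exact ⟨w', v, by rw [bil_comm, h1], hw⟩
    · exact ⟨v, w', h1, hv⟩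
  let Y : F → F → Finset F := fun c x =>
    univ.filter fun y => ∃ v w, bil M v w = c ∧ quad M v = x ∧ quad M w = y
  have hY : ∀ c x : F, c ≠ 0 → x ≠ 0 → q ≤ 2 * (Y c x).card := by
    intro c x hc hx
    obtain ⟨a, ha⟩ := hsq (x / quad M v₀)
    have ha0 : a ≠ 0 := fun h => by
      rw [h, zero_pow two_ne_zero] at ha
      exact div_ne_zero hx hf₀ ha.symm
    set v := a • v₀ with hv
    have hfv : quad M v = x := by rw [hv, quad_smul, ha, div_mul_cancel₀ _ hf₀]
    set w := (c / a) • w₀ with hw
    have hbw : bil M v w = c := by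
      rw [hv, hw, bil_smul_left, map_smul, hb₀, smul_eq_mul, mul_one, mul_div_cancel₀ _ ha0]
    have hsub : (univ : Finset F).image (fun t => quad M (w + t • v)) ⊆ Y c x := by
      intro y hy
      obtain ⟨t, -, rfl⟩ := Finset.mem_image.mp hy
      exact Finset.mem_filter.mpr ⟨mem_univ _, v, w + t • v, by
        simp only [map_add, map_smul, bil_self, smul_zero, add_zero, hbw], hfv, rfl⟩
    have hfib : ∀ y ∈ (univ : Finset F).image (fun t => quad M (w + t • v)),
        ((univ : Finset F).filter fun t => quad M (w + t • v) = y).card ≤ 2 := by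
      intro y hy
      obtain ⟨t, -, rfl⟩ := Finset.mem_image.mp hy
      refine le_trans (Finset.card_le_card (t := {t, -(t + c / x)}) fun t' ht' => ?_)
        Finset.card_le_two
      have h := (Finset.mem_filter.mp ht').2
      rw [quad_add_smul, quad_add_smul, hfv, hbw] at h
      rw [Finset.mem_insert, Finset.mem_singleton]
      by_cases htt : t' = t
      · exact Or.inl htt
      · right
        have h1 : (t' + t) * x + c = 0 :=
          (mul_eq_zero.mp (show (t' - t) * ((t' + t) * x + c) = 0 by linear_combination h)).resolve_left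
            (sub_ne_zero.mpr htt)
        field_simp
        linear_combination h1
    have h1 := Finset.card_le_mul_card_image _ 2 hfib
    rw [card_univ, ← hq] at h1
    have h2 := Finset.card_le_card hsub
    omega
  let T3 : Finset (F × F × F) :=
    univ.filter fun t => t.1 ≠ 0 ∧ ∃ v w, bil M v w = t.1 ∧ quad M v = t.2.1 ∧ quad M w = t.2.2
  have hT3 : T3.card = ∑ c ∈ univ.erase (0 : F), ∑ x, (Y c x).card := by
    simp only [T3, Y, Finset.card_filter, Fintype.sum_prod_type]
    rw [← Finset.add_sum_erase _ _ (mem_univ (0 : F))]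
    simp only [ne_eq, not_true_eq_false, false_and, if_false, Finset.sum_const_zero, zero_add]
    refine Finset.sum_congr rfl fun c hc => ?_
    simp [(Finset.mem_erase.mp hc).1]
  -- the orbit forms seen at a pair
  set O := orbit M with hO
  set e0 : Fin (m + 2) → F := Pi.single 0 1
  set e1 : Fin (m + 2) → F := Pi.single 1 1
  set E := (O.filter fun g => polf g e0 e1 ≠ 0).card with hEdef
  have hE : T3.card * (q ^ m * q ^ m) ≤ E := by
    let Φ : ((Fin (m + 2) → F) → F) → (F × F × F) × (Fin m → F) × (Fin m → F) := fun g =>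
      ((polf g e0 e1, g e0, g e1), fun j => polf g e0 (Pi.single j.succ.succ 1),
        fun j => polf g e1 (Pi.single j.succ.succ 1))
    have hsub : T3 ×ˢ ((univ : Finset (Fin m → F)) ×ˢ (univ : Finset (Fin m → F))) ⊆
        (O.filter fun g => polf g e0 e1 ≠ 0).image Φ := by
      rintro ⟨⟨c, x, y⟩, r, s⟩ h
      obtain ⟨hc, v, w, hvw, hx, hy⟩ := (Finset.mem_filter.mp (Finset.mem_product.mp h).1).2
      obtain ⟨A, hA, hA0, hA1, hr, hs⟩ := exists_unit_data M hvw hc r s
      refine Finset.mem_image.mpr ⟨fun u => quad M (A *ᵥ u),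
        Finset.mem_filter.mpr ⟨mem_orbit.mpr ⟨A, hA, rfl⟩, ?_⟩, ?_⟩
      · rw [polf_quad, hA0, hA1, hvw]; exact hc
      · simp only [Φ, polf_quad, e0, e1, hA0, hA1, hvw, hr, hs]
        simp only [hx, hy]
    have h1 := le_trans (Finset.card_le_card hsub) Finset.card_image_le
    rw [Finset.card_product, Finset.card_product, card_univ, Fintype.card_fun, Fintype.card_fin,
      ← hq] at h1
    exact h1
  -- double counting
  set P := (univ : Finset ((Fin (m + 2) → F) × (Fin (m + 2) → F))).filter
    fun p => p.1 ≠ 0 ∧ ∀ c : F, p.2 ≠ c • p.1 with hP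
  have hI : (q ^ (m + 2) - 1) * (q ^ (m + 2) - q) ≤ P.card := by
    have : P.card = ∑ v ∈ (univ : Finset (Fin (m + 2) → F)).erase 0,
        (univ.filter fun w : Fin (m + 2) → F => ∀ c : F, w ≠ c • v).card := by
      simp only [hP, Finset.card_filter, Fintype.sum_prod_type]
      rw [← Finset.add_sum_erase _ _ (mem_univ (0 : Fin (m + 2) → F))]
      simp only [ne_eq, not_true_eq_false, false_and, if_false, Finset.sum_const_zero, zero_add]
      refine Finset.sum_congr rfl fun v hv => ?_
      simp [(Finset.mem_erase.mp hv).1]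
    rw [this]
    refine le_trans (le_of_eq ?_) (Finset.card_nsmul_le_sum _ _ (q ^ (m + 2) - q) fun v _ => ?_)
    · rw [card_erase_of_mem (mem_univ _), card_univ, Fintype.card_fun, Fintype.card_fin, smul_eq_mul]
    · have h1 : ((univ : Finset (Fin (m + 2) → F)) \ (univ : Finset F).image (fun c => c • v)) ⊆
          univ.filter fun w : Fin (m + 2) → F => ∀ c : F, w ≠ c • v := by
        intro w hw
        simp only [mem_sdiff, mem_univ, mem_image, true_and, not_exists] at hw
        simp only [mem_filter, mem_univ, true_and]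
        exact fun c h => hw c h.symm
      refine le_trans ?_ (Finset.card_le_card h1)
      have h2 := Finset.le_card_sdiff ((univ : Finset F).image fun c => c • v)
        (univ : Finset (Fin (m + 2) → F))
      have h3 : ((univ : Finset F).image fun c => c • v).card ≤ q := card_image_le
      rw [card_univ, Fintype.card_fun, Fintype.card_fin, ← hq] at h2
      omega
  set R := (univ : Finset (Fin (m + 2) → F)).filter fun v => ∀ w, bil M v w = 0 with hR
  have hD : ∀ g ∈ O, (univ.filter fun p : (Fin (m + 2) → F) × (Fin (m + 2) → F) =>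
      polf g p.1 p.2 ≠ 0).card ≤ (q ^ (m + 2) - R.card) * (q ^ (m + 1) * (q - 1)) := by
    intro g hg
    obtain ⟨A, hA, rfl⟩ := mem_orbit.mp hg
    refine le_trans (Finset.card_le_card_of_injOn (fun p => (A *ᵥ p.1, A *ᵥ p.2))
      (t := univ.filter fun p : (Fin (m + 2) → F) × (Fin (m + 2) → F) => bil M p.1 p.2 ≠ 0)
      (fun p hp => ?_) fun p _ p' _ h => ?_) ?_
    · simpa [polf_quad] using hp
    · exact Prod.ext (Matrix.mulVec_injective_of_isUnit hA (congrArg Prod.fst h))
        (Matrix.mulVec_injective_of_isUnit hA (congrArg Prod.snd h))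
    rw [Finset.card_filter, Fintype.sum_prod_type, ← Finset.sum_sdiff (Finset.subset_univ R)]
    have h0 : ∑ v ∈ R, ∑ w, (if bil M v w ≠ 0 then 1 else 0) = 0 := by
      refine Finset.sum_eq_zero fun v hv => Finset.sum_eq_zero fun w _ => ?_
      rw [if_neg (not_not.mpr ((Finset.mem_filter.mp hv).2 w))]
    rw [h0, add_zero]
    refine le_trans (Finset.sum_le_card_nsmul _ _ (q ^ (m + 1) * (q - 1)) fun v hv => le_of_eq ?_) ?_
    · have hv0 : bil M v ≠ 0 := by
        intro h
        rw [mem_sdiff, hR, mem_filter] at hv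
        exact hv.2 ⟨mem_univ _, fun w => LinearMap.congr_fun h w⟩
      dsimp only
      rw [← Finset.card_filter]
      have hk : (univ.filter fun w => bil M v w = 0).card = q ^ (m + 1) := by
        rw [← Fintype.card_subtype, ← Nat.card_eq_fintype_card]
        change Nat.card (LinearMap.ker (bil M v)) = _
        rw [card_submodule (F := F), hq]
        congr 1
        have := LinearMap.finrank_range_add_finrank_ker (bil M v)
        rw [LinearMap.range_eq_top.mpr (LinearMap.surjective hv0), finrank_top, Module.finrank_self,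
          Module.finrank_fin_fun] at this
        omega
      have := Finset.card_filter_add_card_filter_not (s := (univ : Finset (Fin (m + 2) → F)))
        (fun w => bil M v w = 0)
      rw [hk, card_univ, Fintype.card_fun, Fintype.card_fin, ← hq, pow_succ _ (m + 1)] at this
      rw [Nat.mul_sub_one]
      simp only [ne_eq] at this ⊢
      omega
    · rw [smul_eq_mul, card_sdiff_of_subset (subset_univ R), card_univ, Fintype.card_fun,
        Fintype.card_fin]
  have hcount : P.card * E ≤ O.card * ((q ^ (m + 2) - R.card) * (q ^ (m + 1) * (q - 1))) := by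
    calc P.card * E ≤ ∑ p ∈ P, (O.filter fun g => polf g p.1 p.2 ≠ 0).card := by
          rw [← smul_eq_mul]
          refine Finset.card_nsmul_le_sum _ _ _ fun p hp => ?_
          obtain ⟨hp1, hp2⟩ := (Finset.mem_filter.mp hp).2
          obtain ⟨B, hB, hB0, hB1⟩ := exists_unit_two hp1 hp2
          obtain ⟨b, rfl⟩ := hB
          refine Finset.card_le_card_of_injOn
            (fun g x => g ((↑b⁻¹ : Matrix (Fin (m + 2)) (Fin (m + 2)) F) *ᵥ x)) (fun g hg => ?_)
            fun g _ g' _ h => ?_
          · obtain ⟨hg1, hg2⟩ := Finset.mem_filter.mp hg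
            obtain ⟨A, hA, rfl⟩ := mem_orbit.mp hg1
            refine Finset.mem_filter.mpr ⟨mem_orbit.mpr
              ⟨A * ↑b⁻¹, hA.mul (Units.isUnit _), funext fun x => by rw [← Matrix.mulVec_mulVec]⟩, ?_⟩
            have hi : ∀ u, (↑b⁻¹ : Matrix (Fin (m + 2)) (Fin (m + 2)) F) *ᵥ
                ((↑b : Matrix (Fin (m + 2)) (Fin (m + 2)) F) *ᵥ u) = u := fun u => by
              rw [Matrix.mulVec_mulVec, Units.inv_mul, Matrix.one_mulVec]
            simp only [polf] at hg2 ⊢
            rw [← hB0, ← hB1, ← Matrix.mulVec_add]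
            simpa only [hi] using hg2
          · funext x
            have := congrFun h ((↑b : Matrix (Fin (m + 2)) (Fin (m + 2)) F) *ᵥ x)
            simpa [Matrix.mulVec_mulVec] using this
      _ ≤ ∑ p : (Fin (m + 2) → F) × (Fin (m + 2) → F),
            (O.filter fun g => polf g p.1 p.2 ≠ 0).card :=
          Finset.sum_le_sum_of_subset (subset_univ P)
      _ = ∑ g ∈ O, (univ.filter fun p : (Fin (m + 2) → F) × (Fin (m + 2) → F) =>
            polf g p.1 p.2 ≠ 0).card := by
          simp only [Finset.card_filter]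
          exact Finset.sum_comm
      _ ≤ _ := by
          rw [← smul_eq_mul]
          exact Finset.sum_le_card_nsmul _ _ _ hD
  -- the two cases
  set Q := q ^ m with hQ
  have hQ0 : 0 < Q := pow_pos (by omega) m
  have hp2 : q ^ (m + 2) = Q * (q * q) := by rw [pow_add, hQ, sq]
  have hp1 : q ^ (m + 1) = Q * q := by rw [pow_succ]
  rw [hp2, hp1] at hcount
  refine le_trans hI ?_
  obtain ⟨p, hp⟩ : ∃ p, q = p + 2 := ⟨q - 2, by omega⟩
  have herase : ((univ : Finset F).erase 0).card = q - 1 := by
    rw [card_erase_of_mem (mem_univ _), card_univ]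
  by_cases hsing : ∃ s, quad M s = 0 ∧ bil M s ≠ 0
  · obtain ⟨s, hs, hs0⟩ := hsing
    have hY0 : ∀ c : F, c ≠ 0 → (Y c 0).card = q := by
      intro c hc
      obtain ⟨w, hw⟩ := LinearMap.surjective hs0 c
      rw [hq, ← card_univ]
      congr 1
      refine Finset.eq_univ_of_forall fun y => Finset.mem_filter.mpr
        ⟨mem_univ _, s, w + ((y - quad M w) / c) • s, ?_, hs, ?_⟩
      · rw [map_add, map_smul, bil_self, smul_zero, add_zero, hw]
      · rw [quad_add_smul, hs, hw, mul_zero, add_zero, div_mul_cancel₀ _ hc, add_sub_cancel]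
    have h2T : (q - 1) * (q * (q + 1)) ≤ 2 * T3.card := by
      rw [hT3, Finset.mul_sum, ← herase, ← smul_eq_mul]
      refine Finset.card_nsmul_le_sum _ _ _ fun c hc => ?_
      have hc0 := (Finset.mem_erase.mp hc).1
      rw [Finset.mul_sum, ← Finset.add_sum_erase _ _ (mem_univ (0 : F)), hY0 c hc0]
      have h := Finset.card_nsmul_le_sum (univ.erase (0 : F)) (fun x => 2 * (Y c x).card) q
        fun x hx => hY c x hc0 (Finset.mem_erase.mp hx).1
      rw [herase, smul_eq_mul] at h
      rw [hp, show p + 2 - 1 = p + 1 from rfl] at h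
      rw [hp]
      nlinarith [h]
    have h4 : P.card * (T3.card * (Q * Q)) ≤ O.card * (Q * (q * q) * (Q * q * (q - 1))) :=
      le_trans (le_trans (Nat.mul_le_mul_left _ hE) hcount)
        (Nat.mul_le_mul_left _ (Nat.mul_le_mul_right _ (Nat.sub_le _ _)))
    rw [hp, show p + 2 - 1 = p + 1 from rfl] at h2T h4
    rw [hp]
    refine Nat.le_of_mul_le_mul_right
      (?_ : _ * (Q * Q * ((p + 1) * ((p + 2) * (p + 3)))) ≤
        _ * (Q * Q * ((p + 1) * ((p + 2) * (p + 3))))) (by positivity)
    calc P.card * (Q * Q * ((p + 1) * ((p + 2) * (p + 3))))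
        = P.card * (Q * Q) * ((p + 1) * ((p + 2) * (p + 2 + 1))) := by ring
      _ ≤ P.card * (Q * Q) * (2 * T3.card) := Nat.mul_le_mul_left _ h2T
      _ = 2 * (P.card * (T3.card * (Q * Q))) := by ring
      _ ≤ 2 * (O.card * (Q * ((p + 2) * (p + 2)) * (Q * (p + 2) * (p + 1)))) :=
          Nat.mul_le_mul_left _ h4
      _ = 2 * O.card * (Q * Q) * (p + 1) * (p + 2) * ((p + 2) * (p + 2)) := by ring
      _ ≤ 2 * O.card * (Q * Q) * (p + 1) * (p + 2) * ((p + 3) * (p + 3)) :=
          Nat.mul_le_mul_left _ (Nat.mul_le_mul (by omega) (by omega))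
      _ = 2 * (p + 2 + 1) * O.card * (Q * Q * ((p + 1) * ((p + 2) * (p + 3)))) := by ring
  · push Not at hsing
    have hRQ : Q ≤ R.card := by
      set Ψ : (Fin (m + 2) → F) →ₗ[F] F × F := (bil M v₀).prod (bil M w₀) with hΨ
      have hKR : (univ.filter fun u => Ψ u = 0) ⊆ R := by
        intro u hu
        have hu' : Ψ u = 0 := (Finset.mem_filter.mp hu).2
        have hu1 : bil M v₀ u = 0 := congrArg Prod.fst hu'
        have hu2 : bil M w₀ u = 0 := congrArg Prod.snd hu'
        refine Finset.mem_filter.mpr ⟨mem_univ _, fun z => ?_⟩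
        by_contra hz
        have hfu : quad M u ≠ 0 := fun h => hz (by rw [hsing u h, LinearMap.zero_apply])
        obtain ⟨a, ha⟩ := hsq (quad M u / quad M v₀)
        have ha0 : a ≠ 0 := fun h => by
          rw [h, zero_pow two_ne_zero] at ha
          exact div_ne_zero hfu hf₀ ha.symm
        have hs : quad M (u + a • v₀) = 0 := by
          rw [quad_add_smul, ha, div_mul_cancel₀ _ hf₀, hu1, mul_zero, add_zero, CharTwo.add_self_eq_zero]
        have := LinearMap.congr_fun (hsing _ hs) w₀
        rw [bil_add_left, bil_smul_left, hb₀, bil_comm M u w₀, hu2, zero_add, mul_one,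
          LinearMap.zero_apply] at this
        exact ha0 this
      refine le_trans (le_of_eq ?_) (Finset.card_le_card hKR)
      rw [← Fintype.card_subtype, ← Nat.card_eq_fintype_card]
      change Q = Nat.card (LinearMap.ker Ψ)
      rw [card_submodule (F := F), hQ, hq]
      congr 1
      have hsurj : Function.Surjective Ψ := fun ⟨x, y⟩ =>
        ⟨y • v₀ + x • w₀, by simp [hΨ, bil_self, hb₀, bil_comm M w₀ v₀]⟩
      have := LinearMap.finrank_range_add_finrank_ker Ψ
      rw [LinearMap.range_eq_top.mpr hsurj, finrank_top, Module.finrank_prod, Module.finrank_self,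
        Module.finrank_fin_fun] at this
      omega
    have h2T : (q - 1) * ((q - 1) * q) ≤ 2 * T3.card := by
      rw [hT3, Finset.mul_sum]
      refine le_trans (le_of_eq (by rw [herase, smul_eq_mul]))
        (Finset.card_nsmul_le_sum _ _ ((q - 1) * q) fun c hc => ?_)
      have hc0 := (Finset.mem_erase.mp hc).1
      rw [Finset.mul_sum, ← Finset.add_sum_erase _ _ (mem_univ (0 : F))]
      have h := Finset.card_nsmul_le_sum (univ.erase (0 : F)) (fun x => 2 * (Y c x).card) q
        fun x hx => hY c x hc0 (Finset.mem_erase.mp hx).1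
      rw [herase, smul_eq_mul] at h
      omega
    have h5 : Q * (q * q) - R.card ≤ Q * ((q - 1) * (q + 1)) := by
      have : Q * (q * q) = Q * ((q - 1) * (q + 1)) + Q := by
        rw [hp, show p + 2 - 1 = p + 1 from rfl]; ring
      omega
    have h4 : P.card * (T3.card * (Q * Q)) ≤
        O.card * (Q * ((q - 1) * (q + 1)) * (Q * q * (q - 1))) :=
      le_trans (le_trans (Nat.mul_le_mul_left _ hE) hcount)
        (Nat.mul_le_mul_left _ (Nat.mul_le_mul_right _ h5))
    rw [hp, show p + 2 - 1 = p + 1 from rfl] at h2T h4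
    rw [hp]
    refine Nat.le_of_mul_le_mul_right
      (?_ : _ * (Q * Q * ((p + 1) * ((p + 1) * (p + 2)))) ≤
        _ * (Q * Q * ((p + 1) * ((p + 1) * (p + 2))))) (by positivity)
    calc P.card * (Q * Q * ((p + 1) * ((p + 1) * (p + 2))))
        ≤ P.card * (Q * Q * (2 * T3.card)) :=
          Nat.mul_le_mul_left _ (Nat.mul_le_mul_left _ h2T)
      _ = 2 * (P.card * (T3.card * (Q * Q))) := by ring
      _ ≤ 2 * (O.card * (Q * ((p + 1) * (p + 2 + 1)) * (Q * (p + 2) * (p + 1)))) :=
          Nat.mul_le_mul_left _ h4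
      _ = 2 * (p + 2 + 1) * O.card * (Q * Q * ((p + 1) * ((p + 1) * (p + 2)))) := by ring

end Cfsg.Agent.SpEvenQuadOrbit50
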