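import Mathlib
import Cfsg.Agent.Lib.SymplecticBasic
import Cfsg.Agent.Lib.SymplecticSimple

/-!
The eight root subgroups of the symplectic group of rank two: generation, transitivity and
perfectness over an arbitrary field with more than two elements.
-/

set_option autoImplicit false
set_option linter.unusedSectionVars false

open Matrix Cfsg.Agent.SymplecticBasic Cfsg.Agent.SymplecticSimple

namespace Cfsg.Agent.SpFourRoots

/-- The index set of four coordinates. -/
abbrev I4 : Type := Fin 2 ⊕ Fin 2

/-- The root vectors of `sp_4`, numbered as the roots of the table of type `B_2`. -/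
def rootM : Fin 8 → Matrix I4 I4 ℤ :=
  ![fromBlocks 0 0 !![-1, 0; 0, 0] 0,
    fromBlocks 0 0 !![0, -1; -1, 0] 0,
    fromBlocks !![0, 0; 1, 0] 0 0 !![0, -1; 0, 0],
    fromBlocks 0 0 !![0, 0; 0, 1] 0,
    fromBlocks 0 !![0, 0; 0, 1] 0 0,
    fromBlocks !![0, 1; 0, 0] 0 0 !![0, 0; -1, 0],
    fromBlocks 0 !![0, -1; -1, 0] 0 0,
    fromBlocks 0 !![-1, 0; 0, 0] 0 0]

theorem rootM_facts : ∀ r : Fin 8, rootM r * J (Fin 2) ℤ + J (Fin 2) ℤ * (rootM r)ᵀ = 0 ∧
    rootM r * J (Fin 2) ℤ * (rootM r)ᵀ = 0 ∧ rootM r * rootM r = 0 := by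
  decide +kernel

variable (F : Type*) [Field F]

/-- The root vectors over a field. -/
def rootF (r : Fin 8) : Matrix I4 I4 F := (rootM r).map (Int.castRingHom F)

theorem rootF_sq (r : Fin 8) : rootF F r * rootF F r = 0 := by
  rw [rootF, ← Matrix.map_mul, (rootM_facts r).2.2, Matrix.map_zero _ (map_zero _)]

theorem map_J : (J (Fin 2) ℤ).map (Int.castRingHom F) = J (Fin 2) F := by
  simp [J, fromBlocks_map, Matrix.map_neg]

variable {F}

theorem root_mem (r : Fin 8) (t : F) : 1 + t • rootF F r ∈ symplecticGroup (Fin 2) F := by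
  rw [SymplecticGroup.mem_iff]
  have h := rootM_facts r
  have h1 := congrArg (fun M : Matrix I4 I4 ℤ => M.map (Int.castRingHom F)) h.1
  have h2 := congrArg (fun M : Matrix I4 I4 ℤ => M.map (Int.castRingHom F)) h.2.1
  simp only [Matrix.map_add _ (map_add (Int.castRingHom F)), Matrix.map_mul, Matrix.map_zero _ (map_zero (Int.castRingHom F)), map_J, transpose_map] at h1 h2
  rw [rootF, transpose_add, transpose_one, transpose_smul]
  simp only [add_mul, mul_add, one_mul, mul_one, Matrix.smul_mul, Matrix.mul_smul, h2, smul_zero]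
  rw [add_zero, add_assoc, ← smul_add, h1, smul_zero, add_zero]

/-- The root elements. -/
def root (r : Fin 8) (t : F) : symplecticGroup (Fin 2) F := ⟨1 + t • rootF F r, root_mem r t⟩

theorem coe_root (r : Fin 8) (t : F) : (root r t : Matrix I4 I4 F) = 1 + t • rootF F r := rfl

theorem root_inv (r : Fin 8) (t : F) : (root r t)⁻¹ = root r (-t) := by
  refine inv_eq_of_mul_eq_one_right (Subtype.ext ?_)
  show (1 + t • rootF F r) * (1 + (-t) • rootF F r) = 1
  simp only [add_mul, mul_add, one_mul, mul_one, Matrix.smul_mul, Matrix.mul_smul, rootF_sq, smul_zero]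
  module

/-- The subgroup generated by the root elements. -/
def rootClosure (F : Type*) [Field F] : Subgroup (symplecticGroup (Fin 2) F) :=
  Subgroup.closure (Set.range fun p : Fin 8 × F => root p.1 p.2)

theorem root_mem_closure (r : Fin 8) (t : F) : root r t ∈ rootClosure F :=
  Subgroup.subset_closure ⟨(r, t), rfl⟩

/-- A vector by its four coordinates. -/
def vec (a b c d : F) : I4 → F := Sum.elim ![a, b] ![c, d]

theorem vec_eq (v : I4 → F) :
    v = vec (v (.inl 0)) (v (.inl 1)) (v (.inr 0)) (v (.inr 1)) := by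
  funext i
  rcases i with i | i <;> fin_cases i <;> simp [vec]

set_option maxHeartbeats 1000000 in
theorem root_smul (r : Fin 8) (t : F) (a b c d : F) :
    root r t • vec a b c d =
      ![vec a b (c - t * a) d, vec a b (c - t * b) (d - t * a),
        vec a (b + t * a) (c - t * d) d, vec a b c (d + t * b), vec a (b + t * d) c d,
        vec (a + t * b) b c (d - t * c), vec (a - t * d) (b - t * c) c d,
        vec (a - t * c) b c d] r := by
  funext i
  fin_cases r <;> rcases i with i | i <;> fin_cases i <;>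
    simp [smul_def, coe_root, rootF, rootM, vec, Matrix.mulVec, dotProduct, Fintype.sum_sum_type,
      Fin.sum_univ_two, Matrix.one_apply, sub_eq_add_neg] <;>
    ring

theorem exists_closure_smul {v : I4 → F} (hv : v ≠ 0) :
    ∃ g ∈ rootClosure F, g • v = vec 1 0 0 0 := by
  suffices H : ∀ a b c d : F, a ≠ 0 → ∃ g ∈ rootClosure F, g • vec a b c d = vec 1 0 0 0 by
    obtain ⟨a, b, c, d, rfl⟩ : ∃ a b c d, v = vec a b c d := ⟨_, _, _, _, vec_eq v⟩
    have key : ∀ r : Fin 8, (root r (1 : F) • vec a b c d) (.inl 0) ≠ 0 →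
        ∃ g ∈ rootClosure F, g • vec a b c d = vec 1 0 0 0 := by
      intro r h
      obtain ⟨g, hg, hgv⟩ := H _ ((root r (1 : F) • vec a b c d) (.inl 1))
        ((root r (1 : F) • vec a b c d) (.inr 0)) ((root r (1 : F) • vec a b c d) (.inr 1)) h
      exact ⟨g * root r 1, mul_mem hg (root_mem_closure _ _), by
        rw [mul_smul, vec_eq (root r (1 : F) • vec a b c d), hgv]⟩
    by_cases ha : a = 0
    · subst ha
      by_cases hb : b = 0
      · subst hb
        by_cases hc : c = 0
        · subst hc
          have hd : d ≠ 0 := fun h => hv (by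
            subst h; funext i; rcases i with i | i <;> fin_cases i <;> simp [vec])
          exact key 6 (by rw [root_smul]; simpa [vec] using hd)
        · exact key 7 (by rw [root_smul]; simpa [vec] using hc)
      · exact key 5 (by rw [root_smul]; simpa [vec] using hb)
    · exact H _ _ _ _ ha
  intro a b c d ha
  have s1 : ∃ g ∈ rootClosure F, g • vec a b c d = vec a 0 0 0 := by
    refine ⟨root 0 ((c + b / a * d) / a) * (root 1 (d / a) * root 2 (-b / a)),
      mul_mem (root_mem_closure _ _) (mul_mem (root_mem_closure _ _) (root_mem_closure _ _)), ?_⟩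
    rw [mul_smul, mul_smul, root_smul]
    simp only [Matrix.cons_val]
    have e : b + -b / a * a = 0 := by field_simp; ring
    rw [e, root_smul]
    simp only [Matrix.cons_val]
    rw [root_smul]
    simp only [Matrix.cons_val]
    congr 1 <;> field_simp <;> ring
  have s2 : ∃ g ∈ rootClosure F, g • vec a 0 0 0 = vec 1 0 0 0 := by
    refine ⟨root 2 (-a) * (root 5 ((1 - a) / a) * root 2 1),
      mul_mem (root_mem_closure _ _) (mul_mem (root_mem_closure _ _) (root_mem_closure _ _)), ?_⟩
    rw [mul_smul, mul_smul, root_smul]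
    simp only [Matrix.cons_val]
    rw [root_smul]
    simp only [Matrix.cons_val]
    rw [root_smul]
    simp only [Matrix.cons_val]
    congr 1 <;> field_simp <;> ring
  obtain ⟨g, hg, e1⟩ := s1
  obtain ⟨h, hh, e2⟩ := s2
  exact ⟨h * g, mul_mem hh hg, by rw [mul_smul, e1, e2]⟩

theorem transv_eq_root (c : F) : transv (vec 1 0 0 0) c = root 7 (-c) := by
  refine ext_smul fun x => ?_
  rw [transv_smul]
  conv_rhs => rw [vec_eq x, root_smul]
  funext i
  rcases i with i | i <;> fin_cases i <;>
    simp [sympForm, J, vec, dotProduct, Matrix.mulVec, Fintype.sum_sum_type, Fin.sum_univ_two,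
      Matrix.one_apply, sub_eq_add_neg]

theorem rootClosure_eq_top : rootClosure F = ⊤ := by
  refine eq_top_of_transv fun v c => ?_
  by_cases hv : v = 0
  · rw [hv, transv_vec_zero]; exact one_mem _
  · obtain ⟨g, hg, hgv⟩ := exists_closure_smul hv
    have h : transv v c = g⁻¹ * transv (g • v) c * g := by
      rw [← transv_conj]; group
    rw [h, hgv, transv_eq_root]
    exact mul_mem (mul_mem (inv_mem hg) (root_mem_closure _ _)) hg

theorem perfect_of_ne (hF : ∃ a : F, a ≠ 0 ∧ a ≠ 1) :
    commutator (symplecticGroup (Fin 2) F) = ⊤ := by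
  classical
  by_cases h : ∃ a : F, a ≠ 0 ∧ a ^ 2 ≠ 1
  · obtain ⟨a, ha0, ha1⟩ := h
    refine eq_top_of_transv fun v c => ?_
    by_cases hv : v = 0
    · rw [hv, transv_vec_zero]; exact one_mem _
    obtain ⟨g, hg⟩ := exists_smul_eq hv (smul_ne_zero ha0 hv)
    have h2 : a ^ 2 - 1 ≠ 0 := sub_ne_zero.mpr ha1
    have h1 : g * transv v (c / (a ^ 2 - 1)) * g⁻¹ * (transv v (c / (a ^ 2 - 1)))⁻¹ = transv v c := by
      rw [transv_conj, hg, transv_scale, transv_inv, transv_add]
      congr 1
      field_simp
      ring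
    rw [← h1, ← commutatorElement_def]
    exact Subgroup.commutator_mem_commutator (Subgroup.mem_top _) (Subgroup.mem_top _)
  · push Not at h
    have hsub : ∀ x : F, x = 0 ∨ x = 1 ∨ x = -1 := fun x => by
      by_cases hx : x = 0
      · exact Or.inl hx
      · exact Or.inr (sq_eq_one_iff.mp (h x hx))
    let _inst : Fintype F := ⟨{0, 1, -1}, fun x => by simp [hsub x]⟩
    obtain ⟨a, ha0, ha1⟩ := hF
    refine SymplecticSimple.perfect 2 (Or.inr (Or.inl ⟨rfl, ?_⟩))
    calc 3 = ({0, 1, a} : Finset F).card := by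
          rw [Finset.card_insert_of_notMem (by simp [ha0.symm]), Finset.card_pair ha1.symm]
      _ ≤ _ := Finset.card_le_univ _

/-- A homomorphism that does not kill a root element has central kernel. -/
theorem ker_le_center {K : Type*} [Group K] (hF : ∃ a : F, a ≠ 0 ∧ a ≠ 1)
    (φ : symplecticGroup (Fin 2) F →* K) {r : Fin 8} {t : F} (h : φ (root r t) ≠ 1) :
    φ.ker ≤ Subgroup.center (symplecticGroup (Fin 2) F) := by
  by_contra hle
  have h1 := commutator_le_of_normal le_rfl φ.ker hle
  rw [perfect_of_ne hF] at h1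
  exact h (h1 (Subgroup.mem_top _))

end Cfsg.Agent.SpFourRoots
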