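import Mathlib
import Cfsg.Prelude.Def_ChevB2
import Cfsg.Agent.Lib.ChevalleyCore
import Cfsg.Agent.Lib.ChevalleyDataB2
import Cfsg.Agent.Lib.SpFourRoots

/-!
The Chevalley group of type `B_2` is the adjoint image of the symplectic group of rank two.
-/

set_option autoImplicit false
set_option linter.unusedSectionVars false

open Matrix Cfsg.Lie Cfsg.Agent.SymplecticBasic Cfsg.Agent.SymplecticSimple Cfsg.Agent.SpFourRoots

namespace Cfsg.Agent.SpFourChevalley

/-- The index set of the adjoint module. -/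
abbrev I10 : Type := Fin 2 ⊕ Fin 8

/-- The coordinates of an element of `sp_4` on its Chevalley basis. -/
def coordFun {R : Type*} [CommRing R] (X : Matrix I4 I4 R) : I10 → R :=
  Sum.elim ![X (.inl 0) (.inl 0), X (.inl 0) (.inl 0) + X (.inl 1) (.inl 1)]
    ![-X (.inr 0) (.inl 0), -X (.inr 1) (.inl 0), X (.inl 1) (.inl 0), X (.inr 1) (.inl 1),
      X (.inl 1) (.inr 1), X (.inl 0) (.inl 1), -X (.inl 0) (.inr 1), -X (.inl 0) (.inr 0)]

/-- The Chevalley basis of `sp_4`. -/
def bas : I10 → Matrix I4 I4 ℤ :=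
  Sum.elim ![fromBlocks !![1, 0; 0, -1] 0 0 !![-1, 0; 0, 1],
    fromBlocks !![0, 0; 0, 1] 0 0 !![0, 0; 0, -1]] rootM

/-- The tables of the datum, with the index set unfolded. -/
def xmB (k r : ℕ) (i j : I10) : ℤ := ChevalleyEngine.xm chevB2 k r i j

theorem table : ∀ (r : Fin 8) (i j : I10),
    coordFun (bas j) i = (if i = j then 1 else 0) ∧
      coordFun (rootM r * bas j - bas j * rootM r) i = xmB 1 r.val i j ∧
      coordFun (-(rootM r * bas j * rootM r)) i = xmB 2 r.val i j ∧
      xmB 3 r.val i j = 0 := by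
  decide +kernel

theorem bas_sp : ∀ j : I10, (J (Fin 2) ℤ * bas j)ᵀ = J (Fin 2) ℤ * bas j := by decide +kernel

variable {F : Type*} [Field F]

theorem coordFun_map {R S : Type*} [CommRing R] [CommRing S] (f : R →+* S) (X : Matrix I4 I4 R)
    (i : I10) : coordFun (X.map f) i = f (coordFun X i) := by
  rcases i with i | i <;> fin_cases i <;> simp [coordFun]

/-- The coordinates, as a linear map. -/
def coord : Matrix I4 I4 F →ₗ[F] (I10 → F) where
  toFun := coordFun
  map_add' X Y := by
    funext i
    rcases i with i | i <;> fin_cases i <;> simp [coordFun] <;> ring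
  map_smul' c X := by
    funext i
    rcases i with i | i <;> fin_cases i <;> simp [coordFun] <;> ring

theorem coord_apply (X : Matrix I4 I4 F) : coord X = coordFun X := rfl

/-- The Chevalley basis over a field. -/
def basF (F : Type*) [Field F] (j : I10) : Matrix I4 I4 F := (bas j).map (Int.castRingHom F)

/-- Membership of `sp_4`. -/
def IsHam (X : Matrix I4 I4 F) : Prop := (J (Fin 2) F * X)ᵀ = J (Fin 2) F * X

theorem isHam_basF (j : I10) : IsHam (basF F j) := by
  rw [IsHam, basF, ← SpFourRoots.map_J, ← Matrix.map_mul, ← transpose_map, bas_sp]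

theorem isHam_conj {X : Matrix I4 I4 F} (hX : IsHam X) (g : symplecticGroup (Fin 2) F) :
    IsHam (g.1 * X * (g⁻¹).1) := by
  have h : J (Fin 2) F * g.1 = ((g⁻¹).1)ᵀ * J (Fin 2) F := by
    have h1 : (g.1)ᵀ * J (Fin 2) F * g.1 = J (Fin 2) F := SymplecticGroup.mem_iff'.mp g.2
    have h2 : ((g⁻¹).1)ᵀ * (g.1)ᵀ = 1 := by
      rw [← transpose_mul, show g.1 * (g⁻¹).1 = 1 from congrArg Subtype.val (mul_inv_cancel g),
        transpose_one]
    conv_rhs => rw [← h1, ← Matrix.mul_assoc, ← Matrix.mul_assoc, h2, Matrix.one_mul]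
  have e : J (Fin 2) F * (g.1 * X * (g⁻¹).1)
      = ((g⁻¹).1)ᵀ * (J (Fin 2) F * X) * (g⁻¹).1 := by
    rw [← Matrix.mul_assoc, ← Matrix.mul_assoc, h]
    simp only [Matrix.mul_assoc]
  rw [IsHam, e, transpose_mul, transpose_mul, transpose_transpose,
    show (J (Fin 2) F * X)ᵀ = J (Fin 2) F * X from hX]
  simp only [Matrix.mul_assoc]

theorem recon {X : Matrix I4 I4 F} (hX : IsHam X) : ∑ j, coord X j • basF F j = X := by
  have h : ∀ a b, (J (Fin 2) F * X) b a = (J (Fin 2) F * X) a b := fun a b =>
    congrFun (congrFun hX a) b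
  have h1 := h (.inl 0) (.inl 1)
  have h2 := h (.inl 0) (.inr 0)
  have h3 := h (.inl 0) (.inr 1)
  have h4 := h (.inl 1) (.inr 0)
  have h5 := h (.inl 1) (.inr 1)
  have h6 := h (.inr 0) (.inr 1)
  simp [J, Matrix.mul_apply, Fintype.sum_sum_type, Matrix.one_apply] at h1 h2 h3 h4 h5 h6
  simp only [coord_apply, Fintype.sum_sum_type]
  erw [Fin.sum_univ_two, Fin.sum_univ_eight]
  ext a b
  rcases a with a | a <;> rcases b with b | b <;> fin_cases a <;> fin_cases b <;>
    simp [coordFun, basF, bas, rootM] <;>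
    first
      | ring1
      | linear_combination h1 | linear_combination -h1 | linear_combination h2
      | linear_combination -h2 | linear_combination h3 | linear_combination -h3
      | linear_combination h4 | linear_combination -h4 | linear_combination h5
      | linear_combination -h5 | linear_combination h6 | linear_combination -h6

/-- The adjoint representation. -/
def adM (g : symplecticGroup (Fin 2) F) : Matrix I10 I10 F :=
  Matrix.of fun i j => coord (g.1 * basF F j * (g⁻¹).1) i

theorem adM_root (r : Fin 8) (t : F) : adM (root r t) = chevB2.xMat F r t := by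
  have hx : chevB2.x F r.val t = chevB2.xMat F r t := by
    exact dif_pos (show r.val < chevB2.nroots from r.isLt)
  rw [← hx, ChevalleyCore.x_eq_xR ChevalleyDataB2.cert r.isLt, ChevalleyExp.xR]
  ext i j
  obtain ⟨e0, e1, e2, e3⟩ := table r i j
  replace e3 : ChevalleyEngine.xm chevB2 3 r.val i j = 0 := e3
  have k0 : coord (basF F j) i = (1 : Matrix I10 I10 F) i j := by
    rw [coord_apply, basF, coordFun_map, e0, Matrix.one_apply]
    split_ifs <;> simp
  have k1 : coord (rootF F r * basF F j - basF F j * rootF F r) i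
      = ((ChevalleyEngine.xm chevB2 1 r.val i j : ℤ) : F) := by
    rw [coord_apply, rootF, basF, ← Matrix.map_mul, ← Matrix.map_mul,
      ← Matrix.map_sub _ (map_sub (Int.castRingHom F)), coordFun_map, e1]
    rfl
  have k2 : coord (rootF F r * basF F j * rootF F r) i
      = -((ChevalleyEngine.xm chevB2 2 r.val i j : ℤ) : F) := by
    rw [coord_apply, rootF, basF, ← Matrix.map_mul, ← Matrix.map_mul, coordFun_map, show ChevalleyEngine.xm chevB2 2 r.val i j = _ from e2.symm]
    simp only [eq_intCast]
    congr 1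
    rcases i with i | i <;> fin_cases i <;> simp [coordFun]
    ring
  have e : (root r t).1 * basF F j * ((root r t)⁻¹).1
      = basF F j + t • (rootF F r * basF F j - basF F j * rootF F r)
        - t ^ 2 • (rootF F r * basF F j * rootF F r) := by
    rw [root_inv, coe_root, coe_root]
    simp only [add_mul, mul_add, one_mul, mul_one, Matrix.smul_mul, Matrix.mul_smul, smul_sub]
    module
  rw [adM, Matrix.of_apply, e, map_sub, map_add, map_smul, map_smul]
  show _ = (1 : Matrix I10 I10 F) i j + t * ((ChevalleyEngine.xm chevB2 1 r.val i j : ℤ) : F)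
    + t ^ 2 * ((ChevalleyEngine.xm chevB2 2 r.val i j : ℤ) : F)
    + t ^ 3 * ((ChevalleyEngine.xm chevB2 3 r.val i j : ℤ) : F)
  rw [e3]
  simp only [Pi.sub_apply, Pi.add_apply, Pi.smul_apply, k0, k1, k2, smul_eq_mul]
  push_cast
  ring

theorem adM_one : adM (1 : symplecticGroup (Fin 2) F) = 1 := by
  ext i j
  rw [adM, Matrix.of_apply, inv_one, OneMemClass.coe_one, Matrix.one_mul, Matrix.mul_one,
    coord_apply, basF, coordFun_map, (table 0 i j).1, Matrix.one_apply]
  split_ifs <;> simp

theorem adM_mul (g h : symplecticGroup (Fin 2) F) : adM (g * h) = adM g * adM h := by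
  ext i j
  have e : (g * h).1 * basF F j * ((g * h)⁻¹).1
      = g.1 * (∑ k, coord (h.1 * basF F j * (h⁻¹).1) k • basF F k) * (g⁻¹).1 := by
    rw [recon (isHam_conj (isHam_basF j) h), _root_.mul_inv_rev, Submonoid.coe_mul,
      Submonoid.coe_mul]
    simp only [Matrix.mul_assoc]
  rw [adM, Matrix.of_apply, e, Matrix.mul_sum, Matrix.sum_mul, map_sum, Finset.sum_apply,
    Matrix.mul_apply]
  refine Finset.sum_congr rfl fun k _ => ?_
  rw [Matrix.mul_smul, Matrix.smul_mul, map_smul, Pi.smul_apply, smul_eq_mul, adM, adM,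
    Matrix.of_apply, Matrix.of_apply]
  ring

/-- The adjoint representation as a homomorphism into the invertible matrices. -/
def adHom : symplecticGroup (Fin 2) F →* GL I10 F :=
  MonoidHom.toHomUnits
    { toFun := adM
      map_one' := adM_one
      map_mul' := adM_mul }

theorem coe_adHom (g : symplecticGroup (Fin 2) F) :
    ((adHom g : GL I10 F) : Matrix I10 I10 F) = adM g := rfl

theorem range_adHom : (adHom (F := F)).range = chevB2.group F := by
  rw [MonoidHom.range_eq_map, ← rootClosure_eq_top, rootClosure, MonoidHom.map_closure,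
    ChevalleyDatum.group]
  refine congrArg Subgroup.closure (Set.ext fun x => ⟨?_, ?_⟩)
  · rintro ⟨_, ⟨p, rfl⟩, rfl⟩
    exact ⟨p.1, p.2, (coe_adHom _).trans (adM_root _ _)⟩
  · rintro ⟨r, t, hx⟩
    exact ⟨root r t, ⟨(r, t), rfl⟩, Units.ext ((coe_adHom _).trans ((adM_root r t).trans hx.symm))⟩

theorem ker_adHom (hF : ∃ a : F, a ≠ 0 ∧ a ≠ 1) :
    (adHom (F := F)).ker = Subgroup.center (symplecticGroup (Fin 2) F) := by
  refine le_antisymm (ker_le_center hF _ (r := 7) (t := 1) fun h => ?_) fun g hg => ?_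
  · have h1 := congrArg (fun u : GL I10 F => (u : Matrix I10 I10 F) (.inr 7) (.inr 0)) h
    simp only [coe_adHom, Units.val_one] at h1
    simp [adM, coord_apply, coordFun, root_inv, coe_root, rootF, basF, bas, rootM,
      Matrix.mul_apply, Fintype.sum_sum_type, Fin.sum_univ_two, Matrix.one_apply] at h1
  · obtain ⟨a, ha⟩ := center_scalar (by norm_num) hg
    have hm : g.1 = a • (1 : Matrix I4 I4 F) := by
      refine Matrix.mulVec_injective (funext fun v => ?_)
      rw [Matrix.smul_mulVec, Matrix.one_mulVec]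
      exact ha v
    rw [MonoidHom.mem_ker]
    refine Units.ext (Matrix.ext fun i j => ?_)
    rw [coe_adHom, Units.val_one, adM, Matrix.of_apply]
    have e : g.1 * basF F j * (g⁻¹).1 = basF F j := by
      rw [show g.1 * basF F j = basF F j * g.1 by rw [hm]; simp, Matrix.mul_assoc,
        show g.1 * (g⁻¹).1 = 1 from congrArg Subtype.val (mul_inv_cancel g), Matrix.mul_one]
    rw [e, coord_apply, basF, coordFun_map, (table 0 i j).1, Matrix.one_apply]
    split_ifs <;> simp

/-- `B_2(F) ≅ PSp_4(F)`. -/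
theorem nonempty_equiv_psp (hF : ∃ a : F, a ≠ 0 ∧ a ≠ 1) :
    Nonempty (↥(chevB2.group F) ≃* Cfsg.PSp 2 F) := by
  obtain ⟨e⟩ : Nonempty (↥(adHom (F := F)).range ≃* Cfsg.PSp 2 F) :=
    ⟨(QuotientGroup.quotientKerEquivRange (adHom (F := F))).symm.trans
      (QuotientGroup.quotientMulEquivOfEq (ker_adHom hF))⟩
  rw [← range_adHom]
  exact ⟨e⟩

end Cfsg.Agent.SpFourChevalley
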