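import Mathlib
import Cfsg.Prelude.Def_Classical
import Cfsg.Agent.Lib.OrthUnitaryFive
import Cfsg.Agent.Lib.OrthUnitaryIsoCore
import Cfsg.Agent.Lib.SpFourRoots

/-!
The symplectic group of rank two maps onto the commutator subgroup of the five-dimensional
orthogonal group, over an arbitrary field with more than two elements.
-/

set_option autoImplicit false
set_option linter.unusedSectionVars false
set_option linter.unusedSimpArgs false
set_option linter.unusedTactic false
set_option linter.unreachableTactic false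
set_option linter.unnecessarySeqFocus false

open Matrix Cfsg.Agent.SymplecticBasic Cfsg.Agent.SymplecticSimple Cfsg.Agent.SpFourRoots
open Cfsg.Agent.OrthUnitaryFive Cfsg.Agent.OrthUnitaryKlein

namespace Cfsg.Agent.SpFourOmega

variable {F : Type*} [Field F]

/-- The index set of five coordinates. -/
abbrev I5 : Type := Unit ⊕ (Fin 2 ⊕ Fin 2)

/-- The form. -/
abbrev q5 (F : Type*) [Field F] : (I5 → F) → F := quadFormOdd 2 F

/-- A vector by its five coordinates. -/
def vec5 (x a b c d : F) : I5 → F := Sum.elim (fun _ => x) (Sum.elim ![a, b] ![c, d])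

theorem vec5_eq (v : I5 → F) : v = vec5 (v (.inl ())) (v (.inr (.inl 0))) (v (.inr (.inl 1)))
    (v (.inr (.inr 0))) (v (.inr (.inr 1))) := by
  funext i
  rcases i with ⟨⟩ | i | i
  · rfl
  all_goals fin_cases i <;> simp [vec5]

theorem q5_vec5 (x a b c d : F) : q5 F (vec5 x a b c d) = x ^ 2 + (a * c + b * d) := by
  simp [q5, quadFormOdd, vec5, Fin.sum_univ_two]

/-- The matrix of the action of the symplectic group. -/
def mat5 : symplecticGroup (Fin 2) F →* Matrix I5 I5 F where
  toFun A := LinearMap.toMatrix' (act5 A)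
  map_one' := by
    rw [show act5 (1 : symplecticGroup (Fin 2) F) = LinearMap.id from LinearMap.ext act5_one,
      LinearMap.toMatrix'_id]
  map_mul' A B := by
    rw [← LinearMap.toMatrix'_comp,
      show act5 (A * B) = (act5 A).comp (act5 B) from LinearMap.ext (act5_mul A B)]

theorem mat5_mulVec (A : symplecticGroup (Fin 2) F) (v : I5 → F) : mat5 A *ᵥ v = act5 A v := by
  show LinearMap.toMatrix' (act5 A) *ᵥ v = _
  rw [LinearMap.toMatrix'_mulVec]

theorem toHomUnits_mem (A : symplecticGroup (Fin 2) F) :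
    (mat5 (F := F)).toHomUnits A ∈ isometryGroup F (q5 F) := fun u _ => by
  show q5 F (mat5 A *ᵥ u) = q5 F u
  rw [mat5_mulVec]
  exact act5_map A u

/-- The homomorphism into the isometry group. -/
def phi : symplecticGroup (Fin 2) F →* isometryGroup F (q5 F) :=
  (mat5 (F := F)).toHomUnits.codRestrict _ toHomUnits_mem

/-- The action of an isometry on vectors. -/
abbrev ap (g : isometryGroup F (q5 F)) (v : I5 → F) : I5 → F :=
  ((g : GL I5 F) : Matrix I5 I5 F) *ᵥ v

theorem ap_mul (g h : isometryGroup F (q5 F)) (v : I5 → F) : ap (g * h) v = ap g (ap h v) := by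
  simp [ap, Matrix.mulVec_mulVec]

theorem ap_q (g : isometryGroup F (q5 F)) (v : I5 → F) : q5 F (ap g v) = q5 F v := g.2 v v

theorem ap_ext {g h : isometryGroup F (q5 F)} (e : ∀ v, ap g v = ap h v) : g = h :=
  Subtype.ext (Units.ext (Matrix.mulVec_injective (funext e)))

theorem ap_phi (A : symplecticGroup (Fin 2) F) (v : I5 → F) : ap (phi A) v = act5 A v :=
  mat5_mulVec A v

/-- The images of the root elements on coordinates. -/
def rootAct (r : Fin 8) (t x a b c d : F) : I5 → F :=
  ![vec5 x a b (c - t * b) (d + t * a),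
    vec5 (x - t * a) a b (c + 2 * t * x - t ^ 2 * a) d,
    vec5 (x - t * b) a b c (d + 2 * t * x - t ^ 2 * b),
    vec5 x a (b + t * a) (c - t * d) d,
    vec5 x (a + t * b) b c (d - t * c),
    vec5 (x + t * d) a (b - 2 * t * x - t ^ 2 * d) c d,
    vec5 (x + t * c) (a - 2 * t * x - t ^ 2 * c) b c d,
    vec5 x (a + t * d) (b - t * c) c d] r

set_option maxHeartbeats 4000000 in
theorem act5_root (r : Fin 8) (t x a b c d : F) :
    act5 (root r t) (vec5 x a b c d) = rootAct r t x a b c d := by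
  have e : ∀ M : Matrix (Fin 2 ⊕ Fin 2) (Fin 2 ⊕ Fin 2) F, Matrix.reindex idx idx M =
      !![M (.inl 0) (.inl 0), M (.inl 0) (.inl 1), M (.inl 0) (.inr 0), M (.inl 0) (.inr 1);
         M (.inl 1) (.inl 0), M (.inl 1) (.inl 1), M (.inl 1) (.inr 0), M (.inl 1) (.inr 1);
         M (.inr 0) (.inl 0), M (.inr 0) (.inl 1), M (.inr 0) (.inr 0), M (.inr 0) (.inr 1);
         M (.inr 1) (.inl 0), M (.inr 1) (.inl 1), M (.inr 1) (.inr 0), M (.inr 1) (.inr 1)] := by
    intro M
    ext i j
    obtain ⟨i, rfl⟩ := idx.surjective i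
    obtain ⟨j, rfl⟩ := idx.surjective j
    rw [Matrix.reindex_apply, Matrix.submatrix_apply, Equiv.symm_apply_apply,
      Equiv.symm_apply_apply]
    rcases i with i | i <;> rcases j with j | j <;> fin_cases i <;> fin_cases j <;>
      simp [idx, finSumFinEquiv, Fin.castAdd, Fin.natAdd]
  rw [act5_apply, act_apply, show (toSL (root r t)).1 = Matrix.reindex idx idx (root r t).1 from rfl,
    e, coe_root]
  funext i
  fin_cases r <;> rcases i with ⟨⟩ | i | i <;> (try fin_cases i) <;>
    simp [rootAct, vec5, proj5, emb5, toAlt, ofAlt, rootF, rootM, Matrix.mul_apply,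
      Matrix.vecMul, dotProduct, Fin.sum_univ_four, Matrix.one_apply, Matrix.transpose_apply] <;> ring

/-- A root element as an isometry. -/
abbrev proot (r : Fin 8) (t : F) : isometryGroup F (q5 F) := phi (root r t)

theorem ap_proot (r : Fin 8) (t x a b c d : F) :
    ap (proot r t) (vec5 x a b c d) = rootAct r t x a b c d := by
  rw [ap_phi, act5_root]

theorem proot_mem (r : Fin 8) (t : F) : proot r t ∈ (phi (F := F)).range := ⟨_, rfl⟩

/-- Transport a vector by a root element. -/
theorem step {E : Subgroup (isometryGroup F (q5 F))} (hE : ∀ r t, proot r t ∈ E) (r : Fin 8) (t : F)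
    {x a b c d x' a' b' c' d' : F} (h : rootAct r t x a b c d = vec5 x' a' b' c' d')
    {w : I5 → F} (hw : ∃ g ∈ E, ap g (vec5 x' a' b' c' d') = w) :
    ∃ g ∈ E, ap g (vec5 x a b c d) = w := by
  obtain ⟨g, hg, hgw⟩ := hw
  exact ⟨g * proot r t, mul_mem hg (hE r t), by rw [ap_mul, ap_proot, h, hgw]⟩

theorem exists_to_first {x a b c d : F} (hq : x ^ 2 + (a * c + b * d) = 0)
    (hne : vec5 x a b c d ≠ 0) :
    ∃ g ∈ (phi (F := F)).range, ap g (vec5 x a b c d) = vec5 0 1 0 0 0 := by
  have hs := step (E := (phi (F := F)).range) proot_mem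
  have main : ∀ x a b c d : F, a ≠ 0 → x ^ 2 + (a * c + b * d) = 0 →
      ∃ g ∈ (phi (F := F)).range, ap g (vec5 x a b c d) = vec5 0 1 0 0 0 := by
    intro x a b c d ha hq
    refine hs 3 (-(b / a)) (x' := x) (a' := a) (b' := 0) (c' := c + b / a * d) (d' := d) ?_ ?_
    · simp [rootAct]; congr 1 <;> field_simp <;> ring
    refine hs 0 (-(d / a)) (x' := x) (a' := a) (b' := 0) (c' := c + b / a * d) (d' := 0) ?_ ?_
    · simp [rootAct]; congr 1 <;> field_simp <;> ring
    refine hs 1 (x / a) (x' := 0) (a' := a) (b' := 0) (c' := 0) (d' := 0) ?_ ?_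
    · simp [rootAct]; congr 1 <;> field_simp <;> first | ring1 | linear_combination hq
    refine hs 3 1 (x' := 0) (a' := a) (b' := a) (c' := 0) (d' := 0) ?_ ?_
    · simp [rootAct]
    refine hs 4 ((1 - a) / a) (x' := 0) (a' := 1) (b' := a) (c' := 0) (d' := 0) ?_ ?_
    · simp [rootAct]; congr 1 <;> field_simp <;> ring
    refine hs 3 (-a) (x' := 0) (a' := 1) (b' := 0) (c' := 0) (d' := 0) ?_ ?_
    · simp [rootAct]
    exact ⟨1, one_mem _, by simp [ap]⟩
  by_cases ha : a = 0
  · subst ha
    by_cases hb : b = 0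
    · subst hb
      have hx : x = 0 := by simpa using hq
      subst hx
      by_cases hd : d = 0
      · subst hd
        have hc : c ≠ 0 := fun h => hne (by
          subst h; funext i; rcases i with ⟨⟩ | i | i <;> (try fin_cases i) <;> simp [vec5])
        refine hs 6 1 (x' := c) (a' := -c) (b' := 0) (c' := c) (d' := 0) ?_
          (main _ _ _ _ _ (neg_ne_zero.mpr hc) (by ring))
        simp [rootAct]
      · refine hs 7 1 (x' := 0) (a' := d) (b' := -c) (c' := c) (d' := d) ?_
          (main _ _ _ _ _ hd (by ring))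
        simp [rootAct]
    · refine hs 4 1 (x' := x) (a' := b) (b' := b) (c' := c) (d' := d - c) ?_
        (main _ _ _ _ _ hb (by linear_combination hq))
      simp [rootAct]
  · exact main _ _ _ _ _ ha hq

theorem q_polar (u v : I5 → F) (g : isometryGroup F (q5 F)) :
    q5 F (ap g u + ap g v) = q5 F (u + v) := by
  rw [← Matrix.mulVec_add]
  exact ap_q g _

/-- The five basis vectors. -/
def bx (F : Type*) [Field F] : I5 → F := vec5 1 0 0 0 0
/-- First positive basis vector. -/
def be (F : Type*) [Field F] : I5 → F := vec5 0 1 0 0 0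
/-- First negative basis vector. -/
def bf (F : Type*) [Field F] : I5 → F := vec5 0 0 0 1 0
/-- Second positive basis vector. -/
def be' (F : Type*) [Field F] : I5 → F := vec5 0 0 1 0 0
/-- Second negative basis vector. -/
def bf' (F : Type*) [Field F] : I5 → F := vec5 0 0 0 0 1

theorem vec5_expand (x a b c d : F) :
    vec5 x a b c d = x • bx F + a • be F + b • be' F + c • bf F + d • bf' F := by
  funext i
  rcases i with ⟨⟩ | i | i <;> (try fin_cases i) <;> simp [vec5, bx, be, bf, be', bf']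

/-- The diagonal isometries. -/
def IsTorus (lam s : F) (g : isometryGroup F (q5 F)) : Prop :=
  s * s = 1 ∧ lam ≠ 0 ∧ ∀ x a b c d : F,
    ap g (vec5 x a b c d) = vec5 (s * x) a (lam * b) c (lam⁻¹ * d)

theorem torus_reduce (g : isometryGroup F (q5 F)) :
    ∃ e ∈ (phi (F := F)).range, ∃ lam s : F, IsTorus lam s (e * g) := by
  set E := (phi (F := F)).range
  have hne : ∀ {v : I5 → F} (g : isometryGroup F (q5 F)), v ≠ 0 → ap g v ≠ 0 := by
    intro v g hv h
    apply hv
    have := congrArg (ap g⁻¹) h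
    rw [← ap_mul, inv_mul_cancel] at this
    simpa [ap] using this
  have fixp : ∀ (r : Fin 8) (t : F) (k : isometryGroup F (q5 F)) (v : I5 → F) (x a b c d : F),
      ap k v = vec5 x a b c d → ap (proot r t * k) v = rootAct r t x a b c d := by
    intro r t k v x a b c d h
    rw [ap_mul, h, ap_proot]
  have qv : ∀ (k : isometryGroup F (q5 F)) (v : I5 → F) (x a b c d : F), ap k v = vec5 x a b c d →
      x ^ 2 + (a * c + b * d) = q5 F v := fun k v x a b c d h => by
    rw [← q5_vec5, ← h, ap_q]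
  have qpol : ∀ (k : isometryGroup F (q5 F)) (u v : I5 → F) (x a b c d x' a' b' c' d' : F),
      ap k u = vec5 x a b c d → ap k v = vec5 x' a' b' c' d' →
      (x + x') ^ 2 + ((a + a') * (c + c') + (b + b') * (d + d')) = q5 F (u + v) := by
    intro k u v x a b c d x' a' b' c' d' hu hv
    rw [← q_polar u v k, hu, hv]
    simp [q5, quadFormOdd, vec5, Fin.sum_univ_two]
  -- first vector
  obtain ⟨e₁, he₁, h1⟩ : ∃ e ∈ E, ap (e * g) (be F) = be F := by
    obtain ⟨x, a, b, c, d, h⟩ : ∃ x a b c d, ap g (be F) = vec5 x a b c d :=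
      ⟨_, _, _, _, _, vec5_eq _⟩
    obtain ⟨e, he, heq⟩ := exists_to_first (x := x) (a := a) (b := b) (c := c) (d := d)
      (by rw [qv g _ _ _ _ _ _ h, be, q5_vec5]; ring)
      (by rw [← h]; exact hne g (fun h0 => one_ne_zero (congrFun h0 (.inr (.inl 0)) : (1 : F) = 0)))
    exact ⟨e, he, by rw [ap_mul, h, heq]; rfl⟩
  -- second vector
  obtain ⟨e₂, he₂, h2a, h2b⟩ : ∃ e ∈ E, ap (e * g) (be F) = be F ∧ ap (e * g) (bf F) = bf F := by
    obtain ⟨x, a, b, c, d, h⟩ : ∃ x a b c d, ap (e₁ * g) (bf F) = vec5 x a b c d :=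
      ⟨_, _, _, _, _, vec5_eq _⟩
    have hq := qv _ _ _ _ _ _ _ h
    have hp := qpol _ _ _ _ _ _ _ _ _ _ _ _ _ (h1.trans rfl) h
    simp [bf, be, q5, quadFormOdd, vec5, Fin.sum_univ_two] at hq hp
    have hc : c = 1 := by linear_combination hp - hq
    subst hc
    refine ⟨proot 6 (-x) * (proot 7 b * (proot 4 d * e₁)),
      mul_mem (proot_mem _ _) (mul_mem (proot_mem _ _) (mul_mem (proot_mem _ _) he₁)), ?_, ?_⟩
    · rw [mul_assoc, mul_assoc, mul_assoc]
      have k1 := fixp 4 d _ _ _ _ _ _ _ (h1.trans rfl)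
      simp [rootAct] at k1
      have k2 := fixp 7 b _ _ _ _ _ _ _ k1
      simp [rootAct] at k2
      have k3 := fixp 6 (-x) _ _ _ _ _ _ _ k2
      simp [rootAct] at k3
      exact k3
    · rw [mul_assoc, mul_assoc, mul_assoc]
      have k1 := fixp 4 d _ _ _ _ _ _ _ h
      simp [rootAct] at k1
      have k2 := fixp 7 b _ _ _ _ _ _ _ k1
      simp [rootAct] at k2
      have k3 := fixp 6 (-x) _ _ _ _ _ _ _ k2
      simp [rootAct] at k3
      rw [k3, bf]
      congr 1
      linear_combination hq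
  -- third vector
  obtain ⟨e₃, he₃, lam, hlam, h3a, h3b, h3c⟩ : ∃ e ∈ E, ∃ lam : F, lam ≠ 0 ∧
      ap (e * g) (be F) = be F ∧ ap (e * g) (bf F) = bf F ∧
      ap (e * g) (be' F) = vec5 0 0 lam 0 0 := by
    obtain ⟨x, a, b, c, d, h⟩ : ∃ x a b c d, ap (e₂ * g) (be' F) = vec5 x a b c d :=
      ⟨_, _, _, _, _, vec5_eq _⟩
    have hq := qv _ _ _ _ _ _ _ h
    have hp := qpol _ _ _ _ _ _ _ _ _ _ _ _ _ (h2a.trans rfl) h
    have hp' := qpol _ _ _ _ _ _ _ _ _ _ _ _ _ (h2b.trans rfl) h
    simp [bf, be, be', q5, quadFormOdd, vec5, Fin.sum_univ_two] at hq hp hp'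
    have hc : c = 0 := by linear_combination hp - hq
    have ha : a = 0 := by linear_combination hp' - hq
    subst hc ha
    -- make the coefficient non-zero
    obtain ⟨e, he, hA, hB, x, b, d, hC, hb⟩ : ∃ e ∈ E, ap (e * g) (be F) = be F ∧
        ap (e * g) (bf F) = bf F ∧ ∃ x b d, ap (e * g) (be' F) = vec5 x 0 b 0 d ∧ b ≠ 0 := by
      by_cases hb : b = 0
      · subst hb
        have hx : x = 0 := by simpa using hq
        subst hx
        refine ⟨proot 5 1 * e₂, mul_mem (proot_mem _ _) he₂, ?_, ?_, d, -d, d, ?_, ?_⟩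
        · rw [mul_assoc]
          have k1 := fixp 5 1 _ _ _ _ _ _ _ (h2a.trans rfl)
          simp [rootAct] at k1
          exact k1
        · rw [mul_assoc]
          have k1 := fixp 5 1 _ _ _ _ _ _ _ (h2b.trans rfl)
          simp [rootAct] at k1
          exact k1
        · rw [mul_assoc]
          have k1 := fixp 5 1 _ _ _ _ _ _ _ h
          simp [rootAct] at k1
          exact k1
        · intro hd
          have hd0 : d = 0 := by linear_combination -hd
          refine hne (e₂ * g) (v := be' F)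
            (fun h0 => one_ne_zero (congrFun h0 (.inr (.inl 1)) : (1 : F) = 0)) ?_
          rw [h, hd0]
          funext i
          rcases i with ⟨⟩ | i | i <;> (try fin_cases i) <;> simp [vec5]
      · exact ⟨e₂, he₂, h2a, h2b, x, b, d, h, hb⟩
    have hq' := qv _ _ _ _ _ _ _ hC
    simp [be', q5, quadFormOdd, vec5, Fin.sum_univ_two] at hq'
    refine ⟨proot 2 (x / b) * e, mul_mem (proot_mem _ _) he, b, hb, ?_, ?_, ?_⟩
    · rw [mul_assoc]
      have k1 := fixp 2 (x / b) _ _ _ _ _ _ _ (hA.trans rfl)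
      simp [rootAct] at k1
      exact k1
    · rw [mul_assoc]
      have k1 := fixp 2 (x / b) _ _ _ _ _ _ _ (hB.trans rfl)
      simp [rootAct] at k1
      exact k1
    · rw [mul_assoc, fixp 2 (x / b) _ _ _ _ _ _ _ hC]
      simp [rootAct]
      congr 1 <;> field_simp <;> first | ring1 | linear_combination hq'
  -- fourth vector
  obtain ⟨e₄, he₄, h4a, h4b, h4c, h4d⟩ : ∃ e ∈ E, ap (e * g) (be F) = be F ∧
      ap (e * g) (bf F) = bf F ∧ ap (e * g) (be' F) = vec5 0 0 lam 0 0 ∧
      ap (e * g) (bf' F) = vec5 0 0 0 0 lam⁻¹ := by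
    obtain ⟨x, a, b, c, d, h⟩ : ∃ x a b c d, ap (e₃ * g) (bf' F) = vec5 x a b c d :=
      ⟨_, _, _, _, _, vec5_eq _⟩
    have hq := qv _ _ _ _ _ _ _ h
    have hp := qpol _ _ _ _ _ _ _ _ _ _ _ _ _ (h3a.trans rfl) h
    have hp' := qpol _ _ _ _ _ _ _ _ _ _ _ _ _ (h3b.trans rfl) h
    have hp'' := qpol _ _ _ _ _ _ _ _ _ _ _ _ _ h3c h
    simp [bf, be, be', bf', q5, quadFormOdd, vec5, Fin.sum_univ_two] at hq hp hp' hp''
    have hc : c = 0 := by linear_combination hp - hq
    have ha : a = 0 := by linear_combination hp' - hq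
    subst hc ha
    have hd : d = lam⁻¹ := by
      field_simp
      linear_combination hp'' - hq
    subst hd
    refine ⟨proot 5 (-(x * lam)) * e₃, mul_mem (proot_mem _ _) he₃, ?_, ?_, ?_, ?_⟩
    · rw [mul_assoc]
      have k1 := fixp 5 (-(x * lam)) _ _ _ _ _ _ _ (h3a.trans rfl)
      simp [rootAct] at k1
      exact k1
    · rw [mul_assoc]
      have k1 := fixp 5 (-(x * lam)) _ _ _ _ _ _ _ (h3b.trans rfl)
      simp [rootAct] at k1
      exact k1
    · rw [mul_assoc, fixp 5 (-(x * lam)) _ _ _ _ _ _ _ h3c]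
      simp [rootAct]
    · rw [mul_assoc, fixp 5 (-(x * lam)) _ _ _ _ _ _ _ h]
      simp [rootAct]
      field_simp at hq
      congr 1 <;> field_simp <;> first | ring1 | linear_combination hq
  -- last vector
  obtain ⟨x, a, b, c, d, h⟩ : ∃ x a b c d, ap (e₄ * g) (bx F) = vec5 x a b c d :=
    ⟨_, _, _, _, _, vec5_eq _⟩
  have hq := qv _ _ _ _ _ _ _ h
  have hp1 := qpol _ _ _ _ _ _ _ _ _ _ _ _ _ (h4a.trans rfl) h
  have hp2 := qpol _ _ _ _ _ _ _ _ _ _ _ _ _ (h4b.trans rfl) h
  have hp3 := qpol _ _ _ _ _ _ _ _ _ _ _ _ _ h4c h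
  have hp4 := qpol _ _ _ _ _ _ _ _ _ _ _ _ _ h4d h
  simp [bf, be, be', bf', bx, q5, quadFormOdd, vec5, Fin.sum_univ_two] at hq hp1 hp2 hp3 hp4
  have hc : c = 0 := by linear_combination hp1 - hq
  have ha : a = 0 := by linear_combination hp2 - hq
  have hd : d = 0 := by
    have : lam * d = 0 := by linear_combination hp3 - hq
    exact (mul_eq_zero.mp this).resolve_left hlam
  have hb : b = 0 := by
    have : lam⁻¹ * b = 0 := by linear_combination hp4 - hq
    exact (mul_eq_zero.mp this).resolve_left (inv_ne_zero hlam)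
  subst hc ha hd hb
  refine ⟨e₄, he₄, lam, x, by simpa [sq] using hq, hlam, fun x' a' b' c' d' => ?_⟩
  rw [vec5_expand, ap, Matrix.mulVec_add, Matrix.mulVec_add, Matrix.mulVec_add, Matrix.mulVec_add,
    Matrix.mulVec_smul, Matrix.mulVec_smul, Matrix.mulVec_smul, Matrix.mulVec_smul,
    Matrix.mulVec_smul]
  simp only [ap] at h h4a h4b h4c h4d
  rw [h, h4a, h4b, h4c, h4d]
  funext i
  rcases i with ⟨⟩ | i | i <;> (try fin_cases i) <;> simp [vec5, be, bf, mul_comm]

/-- The scalars by which a diagonal isometry moves the root parameters. -/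
def scal (lam s : F) : Fin 8 → F := ![lam⁻¹, s, s * lam⁻¹, lam, lam⁻¹, s * lam, s, lam]

theorem torus_conj {lam s : F} {k : isometryGroup F (q5 F)} (hk : IsTorus lam s k) (r : Fin 8)
    (t : F) : k * proot r t = proot r (scal lam s r * t) * k := by
  obtain ⟨hs, hl, hk⟩ := hk
  refine ap_ext fun v => ?_
  rw [vec5_eq v, ap_mul, ap_mul, ap_proot, hk, ap_proot]
  have hs' : s ^ 2 = 1 := by rw [sq]; exact hs
  funext i
  fin_cases r <;> simp [rootAct, scal, hk] <;>
    (congr 1) <;> first
      | rfl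
      | (field_simp <;> ring_nf <;> simp [hs'])

theorem torus_commute {l s l' s' : F} {k k' : isometryGroup F (q5 F)} (hk : IsTorus l s k)
    (hk' : IsTorus l' s' k') : k * k' = k' * k := by
  refine ap_ext fun v => ?_
  rw [vec5_eq v, ap_mul, ap_mul, hk'.2.2, hk.2.2, hk.2.2, hk'.2.2]
  congr 1 <;> ring

theorem range_eq_closure :
    (phi (F := F)).range = Subgroup.closure (Set.range fun p : Fin 8 × F => proot p.1 p.2) := by
  rw [MonoidHom.range_eq_map, ← rootClosure_eq_top, rootClosure, MonoidHom.map_closure,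
    ← Set.range_comp]
  rfl

theorem range_eq_commutator (hF : ∃ a : F, a ≠ 0 ∧ a ≠ 1) :
    (phi (F := F)).range = commutator (isometryGroup F (q5 F)) := by
  refine le_antisymm ?_ ?_
  · rw [MonoidHom.range_eq_map, ← perfect_of_ne hF, commutator_def, Subgroup.map_commutator]
    exact Subgroup.commutator_mono le_top le_top
  · have hclosed : ∀ lam s : F, ∀ k : isometryGroup F (q5 F), IsTorus lam s k →
        ∀ y ∈ (phi (F := F)).range, k * y * k⁻¹ ∈ (phi (F := F)).range := by
      intro lam s k hk y hy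
      rw [range_eq_closure] at hy
      induction hy using Subgroup.closure_induction with
      | mem y hy =>
        obtain ⟨p, rfl⟩ := hy
        rw [torus_conj hk, mul_inv_cancel_right]
        exact proot_mem _ _
      | one => simp
      | mul y z _ _ h1 h2 =>
        have := mul_mem h1 h2
        rwa [show k * y * k⁻¹ * (k * z * k⁻¹) = k * (y * z) * k⁻¹ by group] at this
      | inv y _ h1 =>
        have := inv_mem h1
        rwa [show (k * y * k⁻¹)⁻¹ = k * y⁻¹ * k⁻¹ by group] at this
    have hnorm : (phi (F := F)).range.Normal := by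
      refine ⟨fun y hy g => ?_⟩
      obtain ⟨e, he, lam, s, hk⟩ := torus_reduce g
      have h1 := hclosed lam s _ hk y hy
      have h2 := mul_mem (mul_mem (inv_mem he) h1) he
      rwa [show e⁻¹ * (e * g * y * (e * g)⁻¹) * e = g * y * g⁻¹ by group] at h2
    rw [commutator_def, Subgroup.commutator_le]
    intro g _ h _
    rw [← QuotientGroup.eq_one_iff (N := (phi (F := F)).range), commutatorElement_def]
    obtain ⟨e, he, lam, s, hk⟩ := torus_reduce g
    obtain ⟨e', he', lam', s', hk'⟩ := torus_reduce h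
    have hg : ((g : isometryGroup F (q5 F)) : isometryGroup F (q5 F) ⧸ (phi (F := F)).range)
        = ((e * g : isometryGroup F (q5 F)) : isometryGroup F (q5 F) ⧸ (phi (F := F)).range) := by
      rw [QuotientGroup.mk_mul, (QuotientGroup.eq_one_iff e).mpr he, one_mul]
    have hh : ((h : isometryGroup F (q5 F)) : isometryGroup F (q5 F) ⧸ (phi (F := F)).range)
        = ((e' * h : isometryGroup F (q5 F)) : isometryGroup F (q5 F) ⧸ (phi (F := F)).range) := by
      rw [QuotientGroup.mk_mul, (QuotientGroup.eq_one_iff e').mpr he', one_mul]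
    simp only [QuotientGroup.mk_mul, QuotientGroup.mk_inv]
    rw [hg, hh, ← QuotientGroup.mk_inv, ← QuotientGroup.mk_inv, ← QuotientGroup.mk_mul,
      ← QuotientGroup.mk_mul, ← QuotientGroup.mk_mul, torus_commute hk hk', mul_inv_cancel_right,
      mul_inv_cancel, QuotientGroup.mk_one]

theorem ker_phi_le (hF : ∃ a : F, a ≠ 0 ∧ a ≠ 1) :
    (phi (F := F)).ker ≤ Subgroup.center (symplecticGroup (Fin 2) F) :=
  ker_le_center hF _ (r := 7) (t := 1) fun h => by
    have h1 := congrArg (fun u : isometryGroup F (q5 F) => ap u (vec5 0 0 0 0 1) (.inr (.inl 0))) h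
    simp only [ap_proot] at h1
    simp [ap, rootAct, vec5] at h1

/-- `PΩ_5(F) ≅ PSp_4(F)`. -/
theorem nonempty_equiv_psp (hF : ∃ a : F, a ≠ 0 ∧ a ≠ 1) :
    Nonempty (POmega F (q5 F) ≃* Cfsg.PSp 2 F) := by
  have hr := range_eq_commutator hF
  let ψ := (phi (F := F)).codRestrict (commutator (isometryGroup F (q5 F)))
    fun x => hr.le ⟨x, rfl⟩
  have hsurj : Function.Surjective ψ := fun c => by
    obtain ⟨x, hx⟩ := hr.ge c.2
    exact ⟨x, Subtype.ext hx⟩
  have hker : ψ.ker = (phi (F := F)).ker := by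
    ext x
    exact ⟨fun h => congrArg Subtype.val (MonoidHom.mem_ker.1 h),
      fun h => Subtype.ext (MonoidHom.mem_ker.1 h)⟩
  obtain ⟨e⟩ := OrthUnitaryIsoCore.nonempty_equiv_central_quotient ψ hsurj
    (hker.trans_le (ker_phi_le hF))
    (fun x hx => OrthUnitaryIsoCore.center_of_perfect (perfect_of_ne hF) x
      fun y => hker.trans_le (ker_phi_le hF) (hx y))
  exact ⟨e.symm⟩

end Cfsg.Agent.SpFourOmega
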