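import Mathlib
import Cfsg.Agent.Lib.SpOddMinDegree50

/-!
Congruence classes of symmetric matrices of rank at least two over a finite field of odd order
have at least `(q^n - 1)(q^n - q) / (2(q + 1))` members.
-/

set_option autoImplicit false

open Matrix

namespace Cfsg.Agent.SpGap32Orbit

open Cfsg.Agent.SpOddMinDegree50

variable {F : Type*} [Field F] {n : ℕ}

/-- The rank of `S` is at most one. -/
def RankLeOne (S : Matrix (Fin n) (Fin n) F) : Prop :=
  ∃ (a : F) (w : Fin n → F), S = a • vecMulVec w w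

theorem sym_dot {S : Matrix (Fin n) (Fin n) F} (hS : Sᵀ = S) (x y : Fin n → F) :
    (S *ᵥ x) ⬝ᵥ y = x ⬝ᵥ (S *ᵥ y) := by
  rw [Matrix.dotProduct_mulVec, ← Matrix.mulVec_transpose, hS]

/-- Subtracting the rank one part at an anisotropic vector. -/
theorem peel (h2 : (2 : F) ≠ 0) {S : Matrix (Fin n) (Fin n) F} (hS : Sᵀ = S) {v : Fin n → F}
    (hv : v ⬝ᵥ (S *ᵥ v) ≠ 0)
    (hne : S - (v ⬝ᵥ (S *ᵥ v))⁻¹ • vecMulVec (S *ᵥ v) (S *ᵥ v) ≠ 0) :
    ∃ y, v ⬝ᵥ (S *ᵥ y) = 0 ∧ y ⬝ᵥ (S *ᵥ y) ≠ 0 := by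
  set a := v ⬝ᵥ (S *ᵥ v) with ha
  set u := S *ᵥ v with hu
  have hS1 : (S - a⁻¹ • vecMulVec u u)ᵀ = S - a⁻¹ • vecMulVec u u := by
    rw [Matrix.transpose_sub, Matrix.transpose_smul, Matrix.transpose_vecMulVec, hS]
  obtain ⟨z, hz⟩ := exists_quad_ne_zero h2 hS1 hne
  refine ⟨z - ((u ⬝ᵥ z) / a) • v, ?_, ?_⟩
  · rw [Matrix.mulVec_sub, Matrix.mulVec_smul, dotProduct_sub, dotProduct_smul, smul_eq_mul, ← ha,
      ← sym_dot hS v z, ← hu, div_mul_cancel₀ _ hv, sub_self]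
  · intro h0
    apply hz
    have hzv : z ⬝ᵥ (S *ᵥ v) = u ⬝ᵥ z := by rw [← hu, dotProduct_comm]
    have hvz : v ⬝ᵥ (S *ᵥ z) = u ⬝ᵥ z := by rw [← sym_dot hS v z]
    rw [Matrix.mulVec_sub, Matrix.mulVec_smul, sub_dotProduct, dotProduct_sub, dotProduct_sub,
      dotProduct_smul, dotProduct_smul, smul_dotProduct, smul_dotProduct, ← ha, hzv, hvz] at h0
    rw [Matrix.sub_mulVec, Matrix.smul_mulVec, Matrix.vecMulVec_mulVec, op_smul_eq_smul,
      dotProduct_sub, dotProduct_smul, dotProduct_smul, dotProduct_comm z u]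
    simp only [smul_eq_mul] at h0 ⊢
    field_simp at h0 ⊢
    linear_combination h0

/-- A symmetric matrix has rank at most one, exactly two, or an orthogonal anisotropic triple. -/
theorem cases (h2 : (2 : F) ≠ 0) {S : Matrix (Fin n) (Fin n) F} (hS : Sᵀ = S)
    (h1 : ¬ RankLeOne S) :
    (∃ (a b : F) (u v x y : Fin n → F), a ≠ 0 ∧ b ≠ 0 ∧ u ⬝ᵥ x = 1 ∧ u ⬝ᵥ y = 0 ∧ v ⬝ᵥ x = 0 ∧
      v ⬝ᵥ y = 1 ∧ S = a • vecMulVec u u + b • vecMulVec v v) ∨
    (∃ v₁ v₂ v₃ : Fin n → F, v₁ ⬝ᵥ (S *ᵥ v₂) = 0 ∧ v₁ ⬝ᵥ (S *ᵥ v₃) = 0 ∧ v₂ ⬝ᵥ (S *ᵥ v₃) = 0 ∧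
      v₁ ⬝ᵥ (S *ᵥ v₁) ≠ 0 ∧ v₂ ⬝ᵥ (S *ᵥ v₂) ≠ 0 ∧ v₃ ⬝ᵥ (S *ᵥ v₃) ≠ 0) := by
  have h0 : S ≠ 0 := fun h => h1 ⟨0, 0, by simp [h]⟩
  obtain ⟨v, hv⟩ := exists_quad_ne_zero h2 hS h0
  set a := v ⬝ᵥ (S *ᵥ v) with ha
  obtain ⟨y, hvy, hy⟩ := peel h2 hS hv (fun h => h1 ⟨a⁻¹, S *ᵥ v, sub_eq_zero.mp h⟩)
  set b := y ⬝ᵥ (S *ᵥ y) with hb
  set T := S - a⁻¹ • vecMulVec (S *ᵥ v) (S *ᵥ v) with hT
  have hTS : Tᵀ = T := by
    rw [hT, Matrix.transpose_sub, Matrix.transpose_smul, Matrix.transpose_vecMulVec, hS]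
  have hTx : ∀ x, T *ᵥ x = S *ᵥ x - (a⁻¹ * (v ⬝ᵥ (S *ᵥ x))) • (S *ᵥ v) := by
    intro x
    rw [hT, Matrix.sub_mulVec, Matrix.smul_mulVec, Matrix.vecMulVec_mulVec, op_smul_eq_smul,
      smul_smul, sym_dot hS]
  have hTy : T *ᵥ y = S *ᵥ y := by rw [hTx, hvy, mul_zero, zero_smul, sub_zero]
  have hTv : T *ᵥ v = 0 := by rw [hTx, ← ha, inv_mul_cancel₀ hv, one_smul, sub_self]
  by_cases h : T - b⁻¹ • vecMulVec (S *ᵥ y) (S *ᵥ y) = 0
  · refine Or.inl ⟨a⁻¹, b⁻¹, S *ᵥ v, S *ᵥ y, a⁻¹ • v, b⁻¹ • y, inv_ne_zero hv, inv_ne_zero hy,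
      ?_, ?_, ?_, ?_, ?_⟩
    · rw [dotProduct_smul, smul_eq_mul, dotProduct_comm, ← ha, inv_mul_cancel₀ hv]
    · rw [dotProduct_smul, sym_dot hS, hvy, smul_zero]
    · rw [dotProduct_smul, dotProduct_comm, hvy, smul_zero]
    · rw [dotProduct_smul, smul_eq_mul, dotProduct_comm, ← hb, inv_mul_cancel₀ hy]
    · rw [hT, sub_sub, sub_eq_zero] at h
      exact h
  · have hy' : y ⬝ᵥ (T *ᵥ y) ≠ 0 := by rwa [hTy]
    obtain ⟨z, hyz, hz⟩ := peel h2 hTS hy' (by rw [hTy]; exact h)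
    set w := z - (a⁻¹ * (v ⬝ᵥ (S *ᵥ z))) • v with hw
    have hvw : v ⬝ᵥ (S *ᵥ w) = 0 := by
      rw [hw, Matrix.mulVec_sub, Matrix.mulVec_smul, dotProduct_sub, dotProduct_smul, smul_eq_mul,
        ← ha]
      field_simp
      ring
    have hSw : S *ᵥ w = T *ᵥ z := by
      have : T *ᵥ w = T *ᵥ z := by
        rw [hw, Matrix.mulVec_sub, Matrix.mulVec_smul, hTv, smul_zero, sub_zero]
      rw [← this, hTx, hvw, mul_zero, zero_smul, sub_zero]
    refine Or.inr ⟨v, y, w, hvy, hvw, by rw [hSw]; exact hyz, hv, hy, ?_⟩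
    rw [hSw, hw, sub_dotProduct, smul_dotProduct, ← sym_dot hTS v z, hTv, zero_dotProduct,
      smul_zero, sub_zero]
    exact hz

theorem quad_two {S : Matrix (Fin n) (Fin n) F} (hS : Sᵀ = S) {v w : Fin n → F}
    (h : v ⬝ᵥ (S *ᵥ w) = 0) (x y : F) :
    (x • v + y • w) ⬝ᵥ (S *ᵥ (x • v + y • w)) =
      x ^ 2 * (v ⬝ᵥ (S *ᵥ v)) + y ^ 2 * (w ⬝ᵥ (S *ᵥ w)) := by
  rw [quad_add hS, sym_dot hS, h]
  ring

theorem represent [Fintype F] (hodd : Odd (Fintype.card F)) {a b : F} (ha : a ≠ 0) (hb : b ≠ 0)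
    (c : F) : ∃ x y : F, x ^ 2 * a + y ^ 2 * b = c := by
  obtain ⟨x, y, hxy⟩ := FiniteField.exists_root_sum_quadratic
    (f := Polynomial.C a * Polynomial.X ^ 2)
    (g := Polynomial.C b * Polynomial.X ^ 2 - Polynomial.C c)
    (Polynomial.degree_C_mul_X_pow 2 ha)
    (by
      rw [Polynomial.degree_sub_eq_left_of_degree_lt, Polynomial.degree_C_mul_X_pow 2 hb]
      · rfl
      · rw [Polynomial.degree_C_mul_X_pow 2 hb]
        exact lt_of_le_of_lt Polynomial.degree_C_le (by decide))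
    (Nat.odd_iff.mp hodd)
  simp only [Polynomial.eval_sub, Polynomial.eval_mul, Polynomial.eval_C, Polynomial.eval_pow,
    Polynomial.eval_X] at hxy
  exact ⟨x, y, by linear_combination hxy⟩

/-- The pairing of `x` with two given vectors. -/
def pairMap (u v : Fin n → F) : (Fin n → F) →ₗ[F] F × F where
  toFun x := (u ⬝ᵥ x, v ⬝ᵥ x)
  map_add' x y := by simp [dotProduct_add]
  map_smul' c x := by simp [dotProduct_smul]

theorem finrank_ker_pairMap {u v : Fin n → F} (h : Function.Surjective (pairMap u v)) :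
    Module.finrank F (LinearMap.ker (pairMap u v)) + 2 = n := by
  have h1 := LinearMap.finrank_range_add_finrank_ker (pairMap u v)
  rw [LinearMap.range_eq_top.mpr h, finrank_top, Module.finrank_prod, Module.finrank_self,
    Module.finrank_fin_fun] at h1
  omega

/-- An invertible matrix with two prescribed pairs of images, given matching pairings. -/
theorem exists_frame {u v x y w₁ w₂ e f : Fin n → F}
    (hu : Function.Surjective (pairMap u v)) (hxy : Function.Injective fun p : F × F =>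
      pairMap u v (p.1 • x + p.2 • y))
    (h11 : u ⬝ᵥ x = w₁ ⬝ᵥ e) (h12 : u ⬝ᵥ y = w₁ ⬝ᵥ f)
    (h21 : v ⬝ᵥ x = w₂ ⬝ᵥ e) (h22 : v ⬝ᵥ y = w₂ ⬝ᵥ f) :
    ∃ A : Matrix (Fin n) (Fin n) F, IsUnit A ∧ A *ᵥ e = x ∧ A *ᵥ f = y ∧
      Aᵀ *ᵥ u = w₁ ∧ Aᵀ *ᵥ v = w₂ := by
  classical
  have hinj' : Function.Injective fun p : F × F => pairMap w₁ w₂ (p.1 • e + p.2 • f) := by
    have : ∀ p : F × F, pairMap w₁ w₂ (p.1 • e + p.2 • f) = pairMap u v (p.1 • x + p.2 • y) := by
      intro p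
      simp [pairMap, dotProduct_add, dotProduct_smul, h11, h12, h21, h22]
    simp only [this]
    exact hxy
  let Φ : F × F →ₗ[F] (Fin n → F) :=
    (LinearMap.toSpanSingleton F (Fin n → F) x).coprod (LinearMap.toSpanSingleton F (Fin n → F) y)
  let Φ' : F × F →ₗ[F] (Fin n → F) :=
    (LinearMap.toSpanSingleton F (Fin n → F) e).coprod (LinearMap.toSpanSingleton F (Fin n → F) f)
  have hbij : Function.Bijective ((pairMap u v).comp Φ) :=
    ⟨hxy, LinearMap.injective_iff_surjective.mp hxy⟩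
  have hbij' : Function.Bijective ((pairMap w₁ w₂).comp Φ') :=
    ⟨hinj', LinearMap.injective_iff_surjective.mp hinj'⟩
  have hu' : Function.Surjective (pairMap w₁ w₂) := fun p => by
    obtain ⟨q, hq⟩ := hbij'.2 p
    exact ⟨Φ' q, hq⟩
  let ι : LinearMap.ker (pairMap w₁ w₂) ≃ₗ[F] LinearMap.ker (pairMap u v) :=
    LinearEquiv.ofFinrankEq _ _ (by
      have := finrank_ker_pairMap hu
      have := finrank_ker_pairMap hu'
      omega)
  let E' := LinearEquiv.ofBijective _ hbij'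
  let coord : (Fin n → F) →ₗ[F] F × F := E'.symm.toLinearMap.comp (pairMap w₁ w₂)
  have hcoord : ∀ z, pairMap w₁ w₂ (Φ' (coord z)) = pairMap w₁ w₂ z := fun z =>
    E'.apply_symm_apply _
  let rest : (Fin n → F) →ₗ[F] LinearMap.ker (pairMap w₁ w₂) :=
    (LinearMap.id - Φ'.comp coord).codRestrict _ (fun z => by
      simp [LinearMap.mem_ker, map_sub, hcoord])
  let L : (Fin n → F) →ₗ[F] (Fin n → F) :=
    Φ.comp coord + (Submodule.subtype _).comp (ι.toLinearMap.comp rest)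
  have hpair : ∀ z, pairMap u v (L z) = pairMap w₁ w₂ z := by
    intro z
    have h0 : pairMap u v ((ι (rest z) : Fin n → F)) = 0 := (ι (rest z)).2
    have h1 : pairMap u v (Φ (coord z)) = pairMap w₁ w₂ (Φ' (coord z)) := by
      simp [Φ, Φ', pairMap, dotProduct_add, dotProduct_smul, h11, h12, h21, h22]
    show pairMap u v (Φ (coord z) + (ι (rest z) : Fin n → F)) = _
    rw [map_add, h0, add_zero, h1, hcoord]
  have hLΦ : ∀ p, L (Φ' p) = Φ p := by
    intro p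
    have hc : coord (Φ' p) = p := E'.symm_apply_apply p
    have hr : rest (Φ' p) = 0 := Subtype.ext (by simp [rest, hc])
    simp [L, hc, hr]
  have hLinj : Function.Injective L := by
    rw [← LinearMap.ker_eq_bot, LinearMap.ker_eq_bot']
    intro z hz
    have hc : coord z = 0 := by
      show E'.symm (pairMap w₁ w₂ z) = 0
      rw [← hpair, hz, map_zero, map_zero]
    have hr : rest z = 0 := by
      apply ι.injective
      apply Subtype.ext
      have : L z = (ι (rest z) : Fin n → F) := by simp [L, hc]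
      rw [map_zero, ← this, hz]
      rfl
    have := congrArg Subtype.val hr
    simpa [rest, hc] using this
  have hdot : ∀ z, u ⬝ᵥ L z = w₁ ⬝ᵥ z ∧ v ⬝ᵥ L z = w₂ ⬝ᵥ z := fun z =>
    ⟨congrArg Prod.fst (hpair z), congrArg Prod.snd (hpair z)⟩
  refine ⟨LinearMap.toMatrix' L, ?_, ?_, ?_, ?_, ?_⟩
  · rw [← Matrix.mulVec_injective_iff_isUnit]
    intro p q hpq
    simp only [LinearMap.toMatrix'_mulVec] at hpq
    exact hLinj hpq
  · rw [LinearMap.toMatrix'_mulVec]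
    simpa [Φ, Φ'] using hLΦ (1, 0)
  · rw [LinearMap.toMatrix'_mulVec]
    simpa [Φ, Φ'] using hLΦ (0, 1)
  · refine dotProduct_eq _ _ fun z => ?_
    rw [Matrix.mulVec_transpose, ← Matrix.dotProduct_mulVec, LinearMap.toMatrix'_mulVec]
    exact (hdot z).1
  · refine dotProduct_eq _ _ fun z => ?_
    rw [Matrix.mulVec_transpose, ← Matrix.dotProduct_mulVec, LinearMap.toMatrix'_mulVec]
    exact (hdot z).2

theorem orbit_rank_three [Fintype F] (hodd : Odd (Fintype.card F)) {m : ℕ}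
    {S : Matrix (Fin (m + 2)) (Fin (m + 2)) F} (hS : Sᵀ = S) {v₁ v₂ v₃ : Fin (m + 2) → F}
    (h12 : v₁ ⬝ᵥ (S *ᵥ v₂) = 0) (h13 : v₁ ⬝ᵥ (S *ᵥ v₃) = 0) (h23 : v₂ ⬝ᵥ (S *ᵥ v₃) = 0)
    (h1 : v₁ ⬝ᵥ (S *ᵥ v₁) ≠ 0) (h2 : v₂ ⬝ᵥ (S *ᵥ v₂) ≠ 0) (h3 : v₃ ⬝ᵥ (S *ᵥ v₃) ≠ 0) :
    (Fintype.card F - 1) ^ 2 * Fintype.card F * Fintype.card F ^ (2 * m) ≤ (orbit S).card := by
  classical
  let α := {a : F // a ≠ 0} × F × {a : F // a ≠ 0} × (Fin m → F) × (Fin m → F)
  let img : α → (Fin (m + 2) → F) × (Fin (m + 2) → F) := fun p =>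
    (Fin.cons p.1.1 (Fin.cons p.2.1 p.2.2.2.1),
     Fin.cons p.2.1 (Fin.cons (p.2.2.1.1 + p.2.1 ^ 2 / p.1.1) p.2.2.2.2))
  have himg : Function.Injective img := by
    rintro ⟨⟨a, ha⟩, b, ⟨c, hc⟩, t, t'⟩ ⟨⟨a', ha'⟩, b', ⟨c', hc'⟩, u, u'⟩ h
    simp only [img, Prod.mk.injEq, Fin.cons_inj] at h
    obtain ⟨⟨rfl, rfl, rfl⟩, -, hcc, rfl⟩ := h
    have : c = c' := add_right_cancel hcc
    subst this
    rfl
  have hmem : Finset.univ.image img ⊆
      (orbit S).image (fun S' => (S' *ᵥ Pi.single 0 1, S' *ᵥ Pi.single 1 1)) := by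
    intro p hp
    obtain ⟨⟨⟨a, ha⟩, b, ⟨c, hc⟩, t, t'⟩, -, rfl⟩ := Finset.mem_image.mp hp
    obtain ⟨p, r, hpr⟩ := represent hodd h1 h2 a
    set x₁ := p • v₁ + r • v₂ with hx₁
    set y₂ := (-(r * (v₂ ⬝ᵥ (S *ᵥ v₂)))) • v₁ + (p * (v₁ ⬝ᵥ (S *ᵥ v₁))) • v₂ with hy₂
    have hQ₁ : x₁ ⬝ᵥ (S *ᵥ x₁) = a := by rw [hx₁, quad_two hS h12, hpr]
    have h21 : v₂ ⬝ᵥ (S *ᵥ v₁) = 0 := by rw [← sym_dot hS, dotProduct_comm]; exact h12
    have hxy : x₁ ⬝ᵥ (S *ᵥ y₂) = 0 := by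
      simp only [hx₁, hy₂, Matrix.mulVec_add, Matrix.mulVec_smul, dotProduct_add, add_dotProduct,
        dotProduct_smul, smul_dotProduct, smul_eq_mul, h12, h21]
      ring
    have hx3 : x₁ ⬝ᵥ (S *ᵥ v₃) = 0 := by
      simp only [hx₁, add_dotProduct, smul_dotProduct, h13, h23, smul_zero, add_zero]
    have hy3 : y₂ ⬝ᵥ (S *ᵥ v₃) = 0 := by
      simp only [hy₂, add_dotProduct, smul_dotProduct, h13, h23, smul_zero, add_zero]
    have hQy : y₂ ⬝ᵥ (S *ᵥ y₂) ≠ 0 := by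
      rw [hy₂, quad_two hS h12, show (-(r * (v₂ ⬝ᵥ (S *ᵥ v₂)))) ^ 2 * (v₁ ⬝ᵥ (S *ᵥ v₁)) +
        (p * (v₁ ⬝ᵥ (S *ᵥ v₁))) ^ 2 * (v₂ ⬝ᵥ (S *ᵥ v₂)) =
          (v₁ ⬝ᵥ (S *ᵥ v₁)) * (v₂ ⬝ᵥ (S *ᵥ v₂)) * a by rw [← hpr]; ring]
      exact mul_ne_zero (mul_ne_zero h1 h2) ha
    obtain ⟨s, s', hss⟩ := represent hodd hQy h3 c
    set y := s • y₂ + s' • v₃ with hy
    have hxy' : x₁ ⬝ᵥ (S *ᵥ y) = 0 := by
      simp only [hy, Matrix.mulVec_add, Matrix.mulVec_smul, dotProduct_add, dotProduct_smul, hxy,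
        hx3, smul_zero, add_zero]
    set x₂ := (b / a) • x₁ + (1 : F) • y with hx₂
    have hQy' : y ⬝ᵥ (S *ᵥ y) = c := by rw [hy, quad_two hS hy3, hss]
    have hQ₁₂ : x₁ ⬝ᵥ (S *ᵥ x₂) = b := by
      simp only [hx₂, Matrix.mulVec_add, Matrix.mulVec_smul, dotProduct_add, dotProduct_smul, hxy',
        hQ₁, smul_eq_mul, mul_zero, add_zero]
      field_simp
    have hQ₂₁ : x₂ ⬝ᵥ (S *ᵥ x₁) = b := by rw [← sym_dot hS, dotProduct_comm]; exact hQ₁₂
    have hQ₂ : x₂ ⬝ᵥ (S *ᵥ x₂) = c + b ^ 2 / a := by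
      rw [hx₂, quad_two hS hxy', hQ₁, hQy']
      field_simp
      ring
    set w₁ : Fin (m + 2) → F := Fin.cons a (Fin.cons b t)
    set w₂ : Fin (m + 2) → F := Fin.cons b (Fin.cons (c + b ^ 2 / a) t')
    have e11 : (S *ᵥ x₁) ⬝ᵥ x₁ = w₁ ⬝ᵥ Pi.single 0 1 := by
      rw [dotProduct_comm, hQ₁]; simp [w₁]
    have e12 : (S *ᵥ x₁) ⬝ᵥ x₂ = w₁ ⬝ᵥ Pi.single 1 1 := by
      rw [dotProduct_comm, hQ₂₁]; simp [w₁]
    have e21 : (S *ᵥ x₂) ⬝ᵥ x₁ = w₂ ⬝ᵥ Pi.single 0 1 := by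
      rw [dotProduct_comm, hQ₁₂]; simp [w₂]
    have e22 : (S *ᵥ x₂) ⬝ᵥ x₂ = w₂ ⬝ᵥ Pi.single 1 1 := by
      rw [dotProduct_comm, hQ₂]; simp [w₂]
    have hinj : Function.Injective fun q : F × F =>
        pairMap (S *ᵥ x₁) (S *ᵥ x₂) (q.1 • x₁ + q.2 • x₂) := by
      rintro ⟨q1, q2⟩ ⟨q1', q2'⟩ hq
      simp only [pairMap, LinearMap.coe_mk, AddHom.coe_mk, dotProduct_add, dotProduct_smul,
        smul_eq_mul, dotProduct_comm _ x₁, dotProduct_comm _ x₂, hQ₁, hQ₁₂, hQ₂₁, hQ₂,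
        Prod.mk.injEq] at hq
      obtain ⟨hq1, hq2⟩ := hq
      have e2 : q2 = q2' := by
        have h' : (q2 - q2') * c = 0 := by
          field_simp at hq2
          have := mul_right_cancel₀ ha (show (q2 - q2') * c * a = 0 * a by
            linear_combination hq2 - b * hq1)
          exact this
        exact sub_eq_zero.mp ((mul_eq_zero.mp h').resolve_right hc)
      subst e2
      exact Prod.ext (mul_right_cancel₀ ha (by linear_combination hq1)) rfl
    have hsurj : Function.Surjective (pairMap (S *ᵥ x₁) (S *ᵥ x₂)) := fun q => by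
      obtain ⟨r', hr'⟩ := (LinearMap.injective_iff_surjective (f :=
        (pairMap (S *ᵥ x₁) (S *ᵥ x₂)).comp ((LinearMap.toSpanSingleton F _ x₁).coprod
          (LinearMap.toSpanSingleton F _ x₂)))).mp hinj q
      exact ⟨_, hr'⟩
    obtain ⟨A, hA, hA1, hA2, hu, hv⟩ := exists_frame hsurj hinj e11 e12 e21 e22
    refine Finset.mem_image.mpr ⟨Aᵀ * S * A, mem_orbit.mpr ⟨A, hA, rfl⟩, ?_⟩
    refine Prod.ext ?_ ?_
    · show (Aᵀ * S * A) *ᵥ Pi.single 0 1 = w₁
      rw [← Matrix.mulVec_mulVec, hA1, ← Matrix.mulVec_mulVec, hu]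
    · show (Aᵀ * S * A) *ᵥ Pi.single 1 1 = w₂
      rw [← Matrix.mulVec_mulVec, hA2, ← Matrix.mulVec_mulVec, hv]
  have hcard := le_trans (Finset.card_le_card hmem) Finset.card_image_le
  rw [Finset.card_image_of_injective _ himg, Finset.card_univ] at hcard
  refine le_trans (le_of_eq ?_) hcard
  have hne : Fintype.card {a : F // a ≠ 0} = Fintype.card F - 1 := by
    rw [Fintype.card_subtype_compl, Fintype.card_subtype_eq]
  simp only [α, Fintype.card_prod, hne, Fintype.card_fun, Fintype.card_fin]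
  ring

theorem card_conic [Fintype F] (h2 : (2 : F) ≠ 0) {a b : F} (ha : a ≠ 0) :
    Nat.card {p : F × F // a * p.1 ^ 2 + b * p.2 ^ 2 = a ∧ (b = 0 → False)} ≤
      Fintype.card F + 1 := by
  classical
  rw [← Fintype.card_option, ← Nat.card_eq_fintype_card]
  refine Nat.card_le_card_of_injective
    (fun p => if p.1.1 = 1 then none else some (p.1.2 / (p.1.1 - 1))) ?_
  intro p p' he
  obtain ⟨⟨x, y⟩, h, hb⟩ := p
  obtain ⟨⟨x', y'⟩, h', hb'⟩ := p'
  simp only at h h' he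
  have hb0 : b ≠ 0 := fun e => hb e
  by_cases hx : x = 1 <;> by_cases hx' : x' = 1
  · subst hx hx'
    have hy : y = 0 := by
      have : b * y ^ 2 = 0 := by linear_combination h
      simpa using (mul_eq_zero.mp this).resolve_left hb0
    have hy' : y' = 0 := by
      have : b * y' ^ 2 = 0 := by linear_combination h'
      simpa using (mul_eq_zero.mp this).resolve_left hb0
    simp [hy, hy']
  · simp [hx, hx'] at he
  · simp [hx, hx'] at he
  · rw [if_neg hx, if_neg hx', Option.some.injEq] at he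
    set t := y / (x - 1) with ht
    have hx1 := sub_ne_zero.mpr hx
    have hx1' := sub_ne_zero.mpr hx'
    have hy : y = t * (x - 1) := by rw [ht, div_mul_cancel₀ _ hx1]
    have hy' : y' = t * (x' - 1) := by rw [he, div_mul_cancel₀ _ hx1']
    rw [hy] at h
    rw [hy'] at h'
    have k : a * (x + 1) + b * t ^ 2 * (x - 1) = 0 :=
      (mul_eq_zero.mp (show (x - 1) * (a * (x + 1) + b * t ^ 2 * (x - 1)) = 0 by
        linear_combination h)).resolve_left hx1
    have k' : a * (x' + 1) + b * t ^ 2 * (x' - 1) = 0 :=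
      (mul_eq_zero.mp (show (x' - 1) * (a * (x' + 1) + b * t ^ 2 * (x' - 1)) = 0 by
        linear_combination h')).resolve_left hx1'
    have hne : a + b * t ^ 2 ≠ 0 := fun e => by
      apply mul_ne_zero h2 ha
      linear_combination k - (x - 1) * e
    have hxx : x = x' := mul_left_cancel₀ hne (by linear_combination k - k')
    subst hxx
    exact Subtype.ext (Prod.ext rfl (hy.trans hy'.symm))

theorem orbit_rank_two [Fintype F] (h2 : (2 : F) ≠ 0) {S : Matrix (Fin n) (Fin n) F}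
    {a b : F} {u v x y : Fin n → F} (ha : a ≠ 0) (hb : b ≠ 0) (hux : u ⬝ᵥ x = 1)
    (huy : u ⬝ᵥ y = 0) (hvx : v ⬝ᵥ x = 0) (hvy : v ⬝ᵥ y = 1)
    (hS : S = a • vecMulVec u u + b • vecMulVec v v) :
    (Fintype.card F ^ n - 1) * (Fintype.card F ^ n - Fintype.card F) ≤
      (orbit S).card * (2 * (Fintype.card F + 1)) := by
  classical
  let Pairs : Finset ((Fin n → F) × (Fin n → F)) :=
    Finset.univ.filter fun p => LinearIndependent F ![p.1, p.2]
  let f : (Fin n → F) × (Fin n → F) → Matrix (Fin n) (Fin n) F := fun p =>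
    a • vecMulVec p.1 p.1 + b • vecMulVec p.2 p.2
  have hcount : Pairs.card = (Fintype.card F ^ n - 1) * (Fintype.card F ^ n - Fintype.card F) := by
    rcases Nat.lt_or_ge n 2 with hn | hn
    · exfalso
      rcases (show n = 0 ∨ n = 1 by omega) with rfl | rfl
      · simp at hux
      · simp only [dotProduct, Fin.sum_univ_one] at hux huy hvy
        rcases mul_eq_zero.mp huy with h | h
        · simp [h] at hux
        · simp [h] at hvy
    have h := card_linearIndependent (K := F) (V := Fin n → F) (k := 2)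
      (by rw [Module.finrank_fin_fun]; exact hn)
    rw [Fin.prod_univ_two, Module.finrank_fin_fun] at h
    simp only [Fin.val_zero, Fin.val_one, pow_zero, pow_one] at h
    rw [← h, Nat.card_eq_fintype_card, ← Fintype.card_coe]
    refine Fintype.card_congr
      { toFun := fun p => ⟨![p.1.1, p.1.2], (Finset.mem_filter.mp p.2).2⟩
        invFun := fun s => ⟨(s.1 0, s.1 1), Finset.mem_filter.mpr ⟨Finset.mem_univ _, by
          have : ![s.1 0, s.1 1] = s.1 := by ext i : 1; fin_cases i <;> rfl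
          rw [this]; exact s.2⟩⟩
        left_inv := fun p => rfl
        right_inv := fun s => Subtype.ext (by ext i : 1; fin_cases i <;> rfl) }
  have himg : Pairs.image f ⊆ orbit S := by
    intro T hT
    obtain ⟨⟨w₁, w₂⟩, hw, rfl⟩ := Finset.mem_image.mp hT
    have hli := (Finset.mem_filter.mp hw).2
    obtain ⟨hw1, hw2⟩ : (∀ s : F, s • w₁ ≠ w₂) ∧ w₁ ≠ 0 := by
      rw [linearIndependent_fin2] at hli
      simp only [Matrix.cons_val_zero, Matrix.cons_val_one] at hli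
      refine ⟨fun s hs => ?_, fun h0 => hli.2 0 (by rw [h0, zero_smul])⟩
      rcases eq_or_ne s 0 with rfl | hs0
      · exact hli.1 (by rw [← hs, zero_smul])
      · exact hli.2 s⁻¹ (by rw [← hs, smul_smul, inv_mul_cancel₀ hs0, one_smul])
    have hw2' : w₁ ∉ Submodule.span F {w₂} := fun h => by
      obtain ⟨s, hs⟩ := Submodule.mem_span_singleton.mp h
      rw [linearIndependent_fin2] at hli
      exact hli.2 s hs
    have hw1' : w₂ ∉ Submodule.span F {w₁} := fun h => by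
      obtain ⟨s, hs⟩ := Submodule.mem_span_singleton.mp h
      exact hw1 s hs
    have hsurj : Function.Surjective (pairMap w₁ w₂) := by
      rw [← LinearMap.range_eq_top]
      refine Subspace.dualAnnihilator_inj.mp ?_
      rw [Submodule.dualAnnihilator_top, Submodule.eq_bot_iff]
      intro φ hφ
      rw [Submodule.mem_dualAnnihilator] at hφ
      have h1 : φ (1, 0) • w₁ + φ (0, 1) • w₂ = 0 := by
        refine dotProduct_eq_zero _ fun z => ?_
        have h := hφ _ (LinearMap.mem_range_self (pairMap w₁ w₂) z)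
        have e : pairMap w₁ w₂ z = (w₁ ⬝ᵥ z) • ((1 : F), (0 : F)) + (w₂ ⬝ᵥ z) • ((0 : F), (1 : F)) := by
          simp [pairMap]
        rw [e, map_add, map_smul, map_smul, smul_eq_mul, smul_eq_mul] at h
        rw [add_dotProduct, smul_dotProduct, smul_dotProduct, smul_eq_mul, smul_eq_mul]
        linear_combination h
      obtain ⟨e1, e2⟩ := LinearIndependent.eq_zero_of_pair hli h1
      refine LinearMap.ext fun z => ?_
      have : z = z.1 • ((1 : F), (0 : F)) + z.2 • ((0 : F), (1 : F)) := by simp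
      rw [this, map_add, map_smul, map_smul, e1, e2]
      simp
    obtain ⟨e, he⟩ := hsurj (1, 0)
    obtain ⟨e', he'⟩ := hsurj (0, 1)
    simp only [pairMap, LinearMap.coe_mk, AddHom.coe_mk, Prod.mk.injEq] at he he'
    obtain ⟨A, hA, -, -, hu, hv⟩ := exists_frame (u := u) (v := v) (x := x) (y := y) (w₁ := w₁)
      (w₂ := w₂) (e := e) (f := e')
      (fun q => ⟨q.1 • x + q.2 • y, by
        simp [pairMap, dotProduct_add, dotProduct_smul, hux, huy, hvx, hvy]⟩)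
      (fun q q' hq => by
        simpa [pairMap, dotProduct_add, dotProduct_smul, hux, huy, hvx, hvy] using hq)
      (by rw [hux, he.1]) (by rw [huy, he'.1]) (by rw [hvx, he.2]) (by rw [hvy, he'.2])
    refine mem_orbit.mpr ⟨A, hA, ?_⟩
    rw [hS, Matrix.mul_add, Matrix.add_mul, congr_rankOne, congr_rankOne, hu, hv]
  have hfib : ∀ T ∈ Pairs.image f, (Pairs.filter fun p => f p = T).card ≤
      2 * (Fintype.card F + 1) := by
    intro T hT
    obtain ⟨⟨u₀, v₀⟩, hp₀, rfl⟩ := Finset.mem_image.mp hT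
    have hli := (Finset.mem_filter.mp hp₀).2
    obtain ⟨x₀, hx₀⟩ : ∃ z, pairMap u₀ v₀ z = (1, 0) := by
      have h2' := hli
      rw [linearIndependent_fin2] at h2'
      simp only [Matrix.cons_val_zero, Matrix.cons_val_one] at h2'
      obtain ⟨z, hz⟩ := not_forall.mp (show ¬ ∀ z, v₀ ⬝ᵥ z = 0 → u₀ ⬝ᵥ z = 0 from by
        intro hall
        obtain ⟨y₀, hy₀⟩ := exists_dot_eq_one h2'.1
        refine h2'.2 (u₀ ⬝ᵥ y₀) (dotProduct_eq _ _ fun z => ?_)
        have h := hall (z - (v₀ ⬝ᵥ z) • y₀)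
          (by rw [dotProduct_sub, dotProduct_smul, hy₀, smul_eq_mul, mul_one, sub_self])
        rw [dotProduct_sub, dotProduct_smul, sub_eq_zero] at h
        rw [smul_dotProduct, h, smul_eq_mul, smul_eq_mul, mul_comm])
      obtain ⟨hz1, hz2⟩ := Classical.not_imp.mp hz
      refine ⟨(u₀ ⬝ᵥ z)⁻¹ • z, ?_⟩
      simp [pairMap, dotProduct_smul, hz1, inv_mul_cancel₀ hz2]
    obtain ⟨y₀, hy₀⟩ : ∃ z, pairMap u₀ v₀ z = (0, 1) := by
      have h2' := hli
      rw [linearIndependent_fin2] at h2'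
      simp only [Matrix.cons_val_zero, Matrix.cons_val_one] at h2'
      obtain ⟨z, hz⟩ := exists_dot_eq_one h2'.1
      refine ⟨z - (u₀ ⬝ᵥ z) • x₀, ?_⟩
      simp only [pairMap, LinearMap.coe_mk, AddHom.coe_mk, Prod.mk.injEq] at hx₀ ⊢
      simp [dotProduct_sub, dotProduct_smul, hx₀.1, hx₀.2, hz]
    simp only [pairMap, LinearMap.coe_mk, AddHom.coe_mk, Prod.mk.injEq] at hx₀ hy₀
    have key : ∀ p : (Fin n → F) × (Fin n → F), f p = f (u₀, v₀) →
        a * (p.1 ⬝ᵥ x₀) ^ 2 + b * (p.2 ⬝ᵥ x₀) ^ 2 = a ∧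
        a * (p.1 ⬝ᵥ x₀) * (p.1 ⬝ᵥ y₀) + b * (p.2 ⬝ᵥ x₀) * (p.2 ⬝ᵥ y₀) = 0 ∧
        a * (p.1 ⬝ᵥ y₀) ^ 2 + b * (p.2 ⬝ᵥ y₀) ^ 2 = b ∧
        (a * (p.1 ⬝ᵥ x₀)) • p.1 + (b * (p.2 ⬝ᵥ x₀)) • p.2 = a • u₀ ∧
        (a * (p.1 ⬝ᵥ y₀)) • p.1 + (b * (p.2 ⬝ᵥ y₀)) • p.2 = b • v₀ := by
      intro p hp
      have hv : ∀ z, (a * (p.1 ⬝ᵥ z)) • p.1 + (b * (p.2 ⬝ᵥ z)) • p.2 =
          (a * (u₀ ⬝ᵥ z)) • u₀ + (b * (v₀ ⬝ᵥ z)) • v₀ := by
        intro z
        have := congrArg (fun M => M *ᵥ z) hp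
        simpa [f, Matrix.add_mulVec, Matrix.smul_mulVec, Matrix.vecMulVec_mulVec, op_smul_eq_smul,
          smul_smul] using this
      have hx := hv x₀
      have hy := hv y₀
      rw [hx₀.1, hx₀.2] at hx
      rw [hy₀.1, hy₀.2] at hy
      simp only [mul_one, mul_zero, zero_smul, add_zero, zero_add] at hx hy
      refine ⟨?_, ?_, ?_, hx, hy⟩
      · have := congrArg (fun w => w ⬝ᵥ x₀) hx
        simp only [add_dotProduct, smul_dotProduct, smul_eq_mul, hx₀.1, mul_one] at this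
        linear_combination this
      · have := congrArg (fun w => w ⬝ᵥ y₀) hx
        simp only [add_dotProduct, smul_dotProduct, smul_eq_mul, hy₀.1, mul_zero] at this
        linear_combination this
      · have := congrArg (fun w => w ⬝ᵥ y₀) hy
        simp only [add_dotProduct, smul_dotProduct, smul_eq_mul, hy₀.2, mul_one] at this
        linear_combination this
    have hsign : ∀ p : (Fin n → F) × (Fin n → F), f p = f (u₀, v₀) →
        ∃ e : Bool, p.1 ⬝ᵥ y₀ = (if e then (1 : F) else -1) * (-(b * (p.2 ⬝ᵥ x₀) / a)) ∧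
          p.2 ⬝ᵥ y₀ = (if e then (1 : F) else -1) * (p.1 ⬝ᵥ x₀) := by
      intro p hp
      obtain ⟨k1, k2, k3, -, -⟩ := key p hp
      set P := p.1 ⬝ᵥ x₀
      set R := p.2 ⬝ᵥ x₀
      set s := p.1 ⬝ᵥ y₀
      set t := p.2 ⬝ᵥ y₀
      -- the second row is a multiple of the vector orthogonal to the first one
      set l := P * t - R * s
      have hs : a * s = -(b * R) * l := by
        linear_combination (-s) * k1 + P * k2
      have ht : a * t = a * P * l := by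
        linear_combination (-t) * k1 + R * k2
      have hl : l * l = 1 := by
        have : a * a * b * (l * l - 1) = 0 := by
          linear_combination (-(b * a * l * l)) * k1 + a * a * k3
            - a * (a * s - b * R * l) * hs - b * (a * t + a * P * l) * ht
        exact sub_eq_zero.mp ((mul_eq_zero.mp this).resolve_left
          (mul_ne_zero (mul_ne_zero ha ha) hb))
      have ht' : t = P * l := mul_left_cancel₀ ha (by linear_combination ht)
      rcases mul_self_eq_one_iff.mp hl with h | h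
      · refine ⟨true, ?_, by simp [ht', h]⟩
        rw [h] at hs
        simp only [if_true, one_mul]
        field_simp
        linear_combination hs
      · refine ⟨false, ?_, by simp [ht', h]⟩
        rw [h] at hs
        simp only [Bool.false_eq_true, if_false]
        field_simp
        linear_combination hs
    choose sg hsg using hsign
    let C := {p : F × F // a * p.1 ^ 2 + b * p.2 ^ 2 = a ∧ (b = 0 → False)}
    let g : (Pairs.filter fun p => f p = f (u₀, v₀)) → C × Bool := fun p =>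
      (⟨(p.1.1 ⬝ᵥ x₀, p.1.2 ⬝ᵥ x₀), (key p.1 (Finset.mem_filter.mp p.2).2).1, hb⟩,
        sg p.1 (Finset.mem_filter.mp p.2).2)
    have hg : Function.Injective g := by
      rintro ⟨p, hp⟩ ⟨p', hp'⟩ he
      simp only [g, Prod.mk.injEq] at he
      have eP := congrArg (fun c : C => c.1.1) he.1
      have eR := congrArg (fun c : C => c.1.2) he.1
      simp only at eP eR
      have ee := he.2
      have hfp := (Finset.mem_filter.mp hp).2
      have hfp' := (Finset.mem_filter.mp hp').2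
      obtain ⟨s1, t1⟩ := hsg p hfp
      obtain ⟨s2, t2⟩ := hsg p' hfp'
      rw [← ee, ← eR, ← s1] at s2
      rw [← ee, ← eP, ← t1] at t2
      obtain ⟨k1, k2, k3, X, Y⟩ := key p hfp
      obtain ⟨-, -, -, X', Y'⟩ := key p' hfp'
      rw [← eP, ← eR, ← X] at X'
      rw [s2, t2, ← Y] at Y'
      set P := p.1 ⬝ᵥ x₀
      set R := p.2 ⬝ᵥ x₀
      set s := p.1 ⬝ᵥ y₀
      set t := p.2 ⬝ᵥ y₀
      have hdet : P * t - R * s ≠ 0 := fun h0 => by
        apply mul_ne_zero ha hb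
        linear_combination (-b) * k1 - (a * P ^ 2 + b * R ^ 2) * k3 +
          (a * P * s + b * R * t) * k2 + a * b * (P * t - R * s) * h0
      refine Subtype.ext (Prod.ext (funext fun i => ?_) (funext fun i => ?_))
      · have e1 := congrFun X' i
        have e2 := congrFun Y' i
        simp only [Pi.add_apply, Pi.smul_apply, smul_eq_mul] at e1 e2
        refine mul_left_cancel₀ (mul_ne_zero (mul_ne_zero ha hb) hdet) ?_
        linear_combination (-(b * t)) * e1 + b * R * e2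
      · have e1 := congrFun X' i
        have e2 := congrFun Y' i
        simp only [Pi.add_apply, Pi.smul_apply, smul_eq_mul] at e1 e2
        refine mul_left_cancel₀ (mul_ne_zero (mul_ne_zero ha hb) hdet) ?_
        linear_combination (a * s) * e1 - a * P * e2
    have hle := Nat.card_le_card_of_injective g hg
    rw [Nat.card_eq_fintype_card, Fintype.card_coe, Nat.card_prod, Nat.card_eq_fintype_card (α := Bool),
      Fintype.card_bool] at hle
    have hC := card_conic (F := F) h2 (b := b) ha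
    exact le_trans hle (by rw [mul_comm]; exact Nat.mul_le_mul_left _ hC)
  have h := Finset.card_le_mul_card_image Pairs _ hfib
  rw [hcount] at h
  exact le_trans h (by rw [mul_comm]; exact Nat.mul_le_mul_right _ (Finset.card_le_card himg))

theorem orbit_bound [Fintype F] (hodd : Odd (Fintype.card F)) (hn : 2 ≤ n)
    {S : Matrix (Fin n) (Fin n) F} (hS : Sᵀ = S) (h1 : ¬ RankLeOne S) :
    (Fintype.card F ^ n - 1) * (Fintype.card F ^ n - Fintype.card F) ≤
      (orbit S).card * (2 * (Fintype.card F + 1)) := by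
  have h2 := two_ne_zero_of_odd hodd
  rcases cases h2 hS h1 with ⟨a, b, u, v, x, y, ha, hb, e1, e2, e3, e4, e⟩ |
    ⟨v₁, v₂, v₃, e1, e2, e3, e4, e5, e6⟩
  · exact orbit_rank_two h2 ha hb e1 e2 e3 e4 e
  · obtain ⟨m, rfl⟩ : ∃ m, n = m + 2 := ⟨n - 2, by omega⟩
    have h := orbit_rank_three hodd hS e1 e2 e3 e4 e5 e6
    have hq : 3 ≤ Fintype.card F := by
      have := Fintype.one_lt_card (α := F)
      obtain ⟨k, hk⟩ := hodd
      omega
    obtain ⟨r, hr⟩ := Nat.exists_eq_add_of_le hq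
    refine le_trans ?_ (Nat.mul_le_mul_right _ h)
    rw [show Fintype.card F - 1 = r + 2 by omega, hr]
    calc ((3 + r) ^ (m + 2) - 1) * ((3 + r) ^ (m + 2) - (3 + r))
        ≤ (3 + r) ^ (m + 2) * (3 + r) ^ (m + 2) := Nat.mul_le_mul (Nat.sub_le _ _) (Nat.sub_le _ _)
      _ = (3 + r) ^ 3 * ((3 + r) * (3 + r) ^ (2 * m)) := by ring
      _ ≤ (r + 2) ^ 2 * (2 * (3 + r + 1)) * ((3 + r) * (3 + r) ^ (2 * m)) :=
          Nat.mul_le_mul_right _ (by nlinarith [sq_nonneg r, Nat.zero_le (r ^ 3)])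
      _ = _ := by ring

end Cfsg.Agent.SpGap32Orbit
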