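import Mathlib
import Cfsg.Agent.Lib.SpGap32Orbit

/-!
Spectral projections of the Siegel group in a complex representation of the symplectic group.
-/

set_option autoImplicit false

open Matrix

namespace Cfsg.Agent.SpGap32Spec

open Cfsg.Agent.SymplecticBasic Cfsg.Agent.SymplecticSimple Cfsg.Agent.SpOddMinDegree50
  Cfsg.Agent.SpGap32Orbit

variable {F : Type*} [Field F] [Fintype F] {n : ℕ}

noncomputable instance : Fintype (symM F n) := Fintype.ofFinite _

variable {V : Type*} [AddCommGroup V] [Module ℂ V]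

/-- The projection onto the `S`-eigenspace of the Siegel group. -/
noncomputable def pr (ψ : AddChar F ℂ) (σ : symplecticGroup (Fin n) F →* Module.End ℂ V)
    (S : symM F n) : Module.End ℂ V :=
  (Fintype.card (symM F n) : ℂ)⁻¹ • ∑ B : symM F n, ψ (-Matrix.trace (S.1 * B.1)) • σ (siegel B)

variable {ψ : AddChar F ℂ} (σ : symplecticGroup (Fin n) F →* Module.End ℂ V)

theorem siegel_mul_pr (S C : symM F n) :
    σ (siegel C) * pr ψ σ S = ψ (Matrix.trace (S.1 * C.1)) • pr ψ σ S := by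
  simp only [pr, mul_smul_comm, Finset.mul_sum]
  rw [smul_comm]
  congr 1
  simp only [Finset.smul_sum, smul_smul]
  refine Fintype.sum_equiv (Equiv.addLeft C) _ _ fun B => ?_
  rw [Equiv.coe_addLeft, siegel_add, map_mul, ← AddChar.map_add_eq_mul]
  congr 2
  rw [AddSubgroup.coe_add, Matrix.mul_add, Matrix.trace_add]
  ring

theorem pr_mul_siegel (S C : symM F n) :
    pr ψ σ S * σ (siegel C) = ψ (Matrix.trace (S.1 * C.1)) • pr ψ σ S := by
  simp only [pr, smul_mul_assoc, Finset.sum_mul]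
  rw [smul_comm]
  congr 1
  simp only [Finset.smul_sum, smul_smul]
  refine Fintype.sum_equiv (Equiv.addRight C) _ _ fun B => ?_
  rw [Equiv.coe_addRight, siegel_add, map_mul, ← AddChar.map_add_eq_mul]
  congr 2
  rw [AddSubgroup.coe_add, Matrix.mul_add, Matrix.trace_add]
  ring

variable {t : F}

theorem sum_char (h2 : (2 : F) ≠ 0) (hψ : ψ t ≠ 1) {D : symM F n} (hD : D ≠ 0) :
    ∑ C : symM F n, ψ (Matrix.trace (D.1 * C.1)) = 0 := by
  let φ : symM F n →+ F :=
    { toFun := fun C => Matrix.trace (D.1 * C.1)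
      map_zero' := by simp
      map_add' := fun a b => by simp [Matrix.mul_add] }
  obtain ⟨C, hC⟩ := exists_trace_eq h2 D.2 (fun h => hD (Subtype.ext h)) t
  have : ψ.compAddMonoidHom φ ≠ 1 := by
    intro h
    apply hψ
    have := DFunLike.congr_fun h C
    simpa [φ, hC] using this
  exact AddChar.sum_eq_zero_of_ne_one this

theorem card_ne : (Fintype.card (symM F n) : ℂ) ≠ 0 := Nat.cast_ne_zero.mpr Fintype.card_ne_zero

theorem pr_sq (S : symM F n) : pr ψ σ S * pr ψ σ S = pr ψ σ S := by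
  conv_lhs => arg 1; rw [pr]
  simp only [smul_mul_assoc, Finset.sum_mul, siegel_mul_pr, smul_smul, ← AddChar.map_add_eq_mul,
    neg_add_cancel, AddChar.map_zero_eq_one, one_smul, Finset.sum_const, Finset.card_univ]
  rw [← Nat.cast_smul_eq_nsmul ℂ, smul_smul, inv_mul_cancel₀ card_ne, one_smul]

theorem pr_mul_pr (h2 : (2 : F) ≠ 0) (hψ : ψ t ≠ 1) {S S' : symM F n} (hne : S ≠ S') :
    pr ψ σ S * pr ψ σ S' = 0 := by
  conv_lhs => arg 1; rw [pr]
  simp only [smul_mul_assoc, Finset.sum_mul, siegel_mul_pr, smul_smul, ← AddChar.map_add_eq_mul]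
  rw [← Finset.sum_smul, Finset.sum_congr rfl (g := fun C : symM F n =>
    ψ (Matrix.trace ((S' - S).1 * C.1))) (fun C _ => by
      rw [AddSubgroup.coe_sub, Matrix.sub_mul, Matrix.trace_sub]; ring_nf),
    sum_char h2 hψ (sub_ne_zero.mpr (Ne.symm hne)), zero_smul, smul_zero]

theorem sum_pr (h2 : (2 : F) ≠ 0) (hψ : ψ t ≠ 1) : ∑ S, pr ψ σ S = 1 := by
  simp only [pr, ← Finset.smul_sum]
  rw [Finset.sum_comm, Fintype.sum_eq_single (0 : symM F n)]
  · simp [siegel_zero, Finset.sum_const, ← Nat.cast_smul_eq_nsmul ℂ, smul_smul]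
  · intro B hB
    rw [← Finset.sum_smul]
    have := sum_char h2 hψ (neg_ne_zero.mpr hB)
    rw [Finset.sum_congr rfl fun C _ => show ψ (-Matrix.trace (C.1 * B.1)) =
      ψ (Matrix.trace ((-B).1 * C.1)) by
        rw [AddSubgroup.coe_neg, Matrix.neg_mul, Matrix.trace_neg, Matrix.trace_mul_comm],
      this, zero_smul]

theorem levi_mul_pr (A A' : Matrix (Fin n) (Fin n) F) (h : A * A' = 1) (S S' : symM F n)
    (hS : S.1 = Aᵀ * S'.1 * A) :
    σ (levi A A' h) * pr ψ σ S = pr ψ σ S' * σ (levi A A' h) := by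
  simp only [pr, mul_smul_comm, smul_mul_assoc, Finset.mul_sum, Finset.sum_mul]
  congr 1
  refine Fintype.sum_bijective (congrSym A) ?_ _ _ fun B => ?_
  · refine (Finite.injective_iff_bijective).mp fun B C hBC => Subtype.ext ?_
    have hu : IsUnit A := IsUnit.of_mul_eq_one A' h
    exact hu.mul_right_injective (((Matrix.isUnit_transpose _).mpr hu).mul_left_injective
      (congrArg Subtype.val hBC))
  · rw [← map_mul, ← map_mul, levi_siegel]
    congr 3
    simp only [hS, congrSym, Matrix.mul_assoc]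
    rw [Matrix.trace_mul_comm]
    simp only [Matrix.mul_assoc]

theorem orbit_le_finrank [FiniteDimensional ℂ V] (h2 : (2 : F) ≠ 0) (hψ : ψ t ≠ 1) {S₀ : symM F n}
    (h0 : pr ψ σ S₀ ≠ 0) : (orbit S₀.1).card ≤ Module.finrank ℂ V := by
  classical
  have hne : ∀ S' ∈ orbit S₀.1, ∃ h : S'ᵀ = S', pr ψ σ ⟨S', h⟩ ≠ 0 := by
    intro S' hS'
    obtain ⟨A, hA, rfl⟩ := mem_orbit.mp hS'
    have h : (Aᵀ * S₀.1 * A)ᵀ = Aᵀ * S₀.1 * A := by
      rw [Matrix.transpose_mul, Matrix.transpose_mul, Matrix.transpose_transpose,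
        show (S₀.1)ᵀ = S₀.1 from S₀.2, Matrix.mul_assoc]
    refine ⟨h, fun hz => h0 ?_⟩
    have he := levi_mul_pr (ψ := ψ) σ A (↑hA.unit⁻¹) hA.mul_val_inv ⟨_, h⟩ S₀ rfl
    rw [hz, mul_zero] at he
    have hu : IsUnit (σ (levi A (↑hA.unit⁻¹) hA.mul_val_inv)) := (Group.isUnit _).map σ
    exact hu.mul_left_eq_zero.mp he.symm
  choose hsymm hne using hne
  have hx : ∀ S : orbit S₀.1, ∃ x, pr ψ σ ⟨S.1, hsymm _ S.2⟩ x ≠ 0 := fun S => by
    by_contra hc
    push Not at hc
    exact hne _ S.2 (LinearMap.ext hc)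
  choose x hx using hx
  have hli : LinearIndependent ℂ fun S : orbit S₀.1 => pr ψ σ ⟨S.1, hsymm _ S.2⟩ (x S) := by
    rw [Fintype.linearIndependent_iff]
    intro c hc S
    have h := congrArg (pr ψ σ ⟨S.1, hsymm _ S.2⟩) hc
    rw [map_sum, map_zero, Fintype.sum_eq_single S] at h
    · rw [map_smul, ← Module.End.mul_apply, pr_sq] at h
      exact (smul_eq_zero.mp h).resolve_right (hx S)
    · intro T hT
      rw [map_smul, ← Module.End.mul_apply, pr_mul_pr _ h2 hψ (fun e => hT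
        (Subtype.ext (congrArg Subtype.val e).symm)), LinearMap.zero_apply, smul_zero]
  have h1 := hli.fintype_card_le_finrank
  rwa [Fintype.card_coe] at h1

theorem eq_one_of_pr_zero (hodd : Odd (Fintype.card F)) (hn : 2 ≤ n) (hψ : ψ t ≠ 1)
    (hall : ∀ S, S ≠ 0 → pr ψ σ S = 0) : σ = 1 := by
  classical
  have h2 := two_ne_zero_of_odd hodd
  have htot := sum_pr σ h2 hψ
  rw [Fintype.sum_eq_single 0 hall] at htot
  have htriv : ∀ C, σ (siegel C) = 1 := by
    intro C
    have h := siegel_mul_pr σ (ψ := ψ) 0 C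
    rw [htot] at h
    simpa using h
  let i₀ : Fin n := ⟨0, by omega⟩
  let B₀ : symM F n := ⟨Matrix.single i₀ i₀ 1, Matrix.transpose_single _ _ _⟩
  have hnot : ¬ σ.ker ≤ Subgroup.center (symplecticGroup (Fin n) F) := by
    intro hle
    obtain ⟨a, ha⟩ := center_scalar (by omega) (hle (htriv B₀ : siegel B₀ ∈ σ.ker))
    have h := congrFun (ha (Pi.single (Sum.inr i₀) 1)) (Sum.inl i₀)
    simp [siegel, B₀] at h
  have htop : σ.ker = ⊤ := top_le_iff.mp (le_of_eq_of_le
    (perfect n (by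
      have := Fintype.one_lt_card (α := F)
      obtain ⟨k, hk⟩ := hodd
      rcases (show n = 2 ∨ 3 ≤ n by omega) with h | h
      · exact Or.inr (Or.inl ⟨h, by omega⟩)
      · exact Or.inl h)).symm (commutator_le_of_normal hn _ hnot))
  exact MonoidHom.ext fun g => (htop ▸ Subgroup.mem_top g : g ∈ σ.ker)

/-- Only characters of rank at most one occur on the Siegel group. -/
def LowRank (ψ : AddChar F ℂ) (σ : symplecticGroup (Fin n) F →* Module.End ℂ V) : Prop :=
  ∀ S : symM F n, pr ψ σ S ≠ 0 → RankLeOne S.1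

theorem bound_or_lowRank [FiniteDimensional ℂ V] (hodd : Odd (Fintype.card F)) (hn : 2 ≤ n)
    (hψ : ψ t ≠ 1) :
    LowRank ψ σ ∨ (Fintype.card F ^ n - 1) * (Fintype.card F ^ n - Fintype.card F) ≤
      Module.finrank ℂ V * (2 * (Fintype.card F + 1)) := by
  by_cases h : LowRank ψ σ
  · exact Or.inl h
  · obtain ⟨S, hS, h1⟩ : ∃ S, pr ψ σ S ≠ 0 ∧ ¬ RankLeOne S.1 := by
      simpa [LowRank] using h
    exact Or.inr (le_trans (orbit_bound hodd hn S.2 h1)
      (Nat.mul_le_mul_right _ (orbit_le_finrank σ (two_ne_zero_of_odd hodd) hψ hS)))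

end Cfsg.Agent.SpGap32Spec
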