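import Mathlib
import Cfsg.Agent.Lib.SymplecticSimple

/-!
The odd part of the Weil representation of `Sp_2n(q)`, `q` odd, built from the Schrödinger
representation of the Heisenberg group.
-/

set_option autoImplicit false

open Matrix Cfsg

namespace Cfsg.Agent.SpWeilOdd50

open Cfsg.Agent.SymplecticBasic Cfsg.Agent.SymplecticSimple

variable {F : Type*} [Field F] {n : ℕ}

theorem form_eq_dot (v w : Fin n ⊕ Fin n → F) :
    sympForm n F v w = (v ∘ Sum.inr) ⬝ᵥ (w ∘ Sum.inl) - (v ∘ Sum.inl) ⬝ᵥ (w ∘ Sum.inr) := by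
  rw [form_eq_sum, Finset.sum_sub_distrib]
  rfl

theorem smul_add' (g : symplecticGroup (Fin n) F) (u w : Fin n ⊕ Fin n → F) :
    g • (u + w) = g • u + g • w := Matrix.mulVec_add _ _ _

theorem smul_neg' (g : symplecticGroup (Fin n) F) (u : Fin n ⊕ Fin n → F) :
    g • (-u) = -(g • u) := Matrix.mulVec_neg _ _

theorem smul_eq_zero' (g : symplecticGroup (Fin n) F) {u : Fin n ⊕ Fin n → F} (h : g • u = 0) :
    u = 0 := by
  have := congrArg (g⁻¹ • ·) h
  simp only [inv_smul_smul] at this
  rw [this, smul_def, Matrix.mulVec_zero]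

/-- The Schrödinger operator of a phase space vector. -/
noncomputable def op (ψ : AddChar F ℂ) (v : Fin n ⊕ Fin n → F) :
    Module.End ℂ ((Fin n → F) → ℂ) where
  toFun f x := ψ ((v ∘ Sum.inr) ⬝ᵥ x + 2⁻¹ * ((v ∘ Sum.inl) ⬝ᵥ (v ∘ Sum.inr))) *
    f (x + v ∘ Sum.inl)
  map_add' f g := by funext x; simp only [Pi.add_apply]; ring
  map_smul' c f := by funext x; simp only [Pi.smul_apply, smul_eq_mul, RingHom.id_apply]; ring

theorem op_apply (ψ : AddChar F ℂ) (v : Fin n ⊕ Fin n → F) (f : (Fin n → F) → ℂ) (x : Fin n → F) :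
    op ψ v f x = ψ ((v ∘ Sum.inr) ⬝ᵥ x + 2⁻¹ * ((v ∘ Sum.inl) ⬝ᵥ (v ∘ Sum.inr))) *
      f (x + v ∘ Sum.inl) := rfl

theorem op_zero (ψ : AddChar F ℂ) : op ψ (0 : Fin n ⊕ Fin n → F) = 1 := by
  refine LinearMap.ext fun f => funext fun x => ?_
  rw [op_apply]
  simp

theorem op_mul (h2 : (2 : F) ≠ 0) (ψ : AddChar F ℂ) (v w : Fin n ⊕ Fin n → F) :
    op ψ v * op ψ w = ψ (-(2⁻¹ * sympForm n F v w)) • op ψ (v + w) := by
  refine LinearMap.ext fun f => funext fun x => ?_
  simp only [Module.End.mul_apply, LinearMap.smul_apply, Pi.smul_apply, smul_eq_mul, op_apply,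
    ← mul_assoc, ← AddChar.map_add_eq_mul, form_eq_dot, Pi.add_comp, add_assoc x]
  congr 2
  simp only [dotProduct_add, add_dotProduct, dotProduct_comm (w ∘ Sum.inl) (v ∘ Sum.inr),
    dotProduct_comm (w ∘ Sum.inr) (v ∘ Sum.inl)]
  linear_combination (-((v ∘ Sum.inl) ⬝ᵥ (w ∘ Sum.inr))) * mul_inv_cancel₀ h2

theorem form_neg_right (v w : Fin n ⊕ Fin n → F) : sympForm n F v (-w) = -sympForm n F v w := by
  rw [← neg_one_smul F w, form_smul_right, neg_one_mul]

theorem form_neg_left (v w : Fin n ⊕ Fin n → F) : sympForm n F (-v) w = -sympForm n F v w := by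
  rw [← neg_one_smul F v, form_smul_left, neg_one_mul]

theorem op_conj (h2 : (2 : F) ≠ 0) (ψ : AddChar F ℂ) (w v : Fin n ⊕ Fin n → F) :
    op ψ w * op ψ v * op ψ (-w) = ψ (sympForm n F v w) • op ψ v := by
  rw [op_mul h2, smul_mul_assoc, op_mul h2, smul_smul, ← AddChar.map_add_eq_mul,
    add_neg_cancel_comm]
  congr 2
  rw [form_add_left, form_neg_right, form_neg_right, form_self, form_swap v w]
  linear_combination sympForm n F v w * mul_inv_cancel₀ h2

theorem sum_char_form [Fintype F] {ψ : AddChar F ℂ} {t : F} (hψ : ψ t ≠ 1)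
    {v : Fin n ⊕ Fin n → F} (hv : v ≠ 0) : ∑ w, ψ (sympForm n F v w) = 0 := by
  classical
  let φ : (Fin n ⊕ Fin n → F) →+ F :=
    { toFun := fun w => sympForm n F v w
      map_zero' := by rw [form_eq_dot]; simp
      map_add' := fun a b => form_add_right v a b }
  have h1 : ψ.compAddMonoidHom φ ≠ 1 := by
    intro h
    obtain ⟨z, hz⟩ := exists_form_eq_one hv
    apply hψ
    have := DFunLike.congr_fun h (t • z)
    simpa [φ, form_smul_right, hz] using this
  exact AddChar.sum_eq_zero_of_ne_one h1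

/-- The parity operator. -/
def par (F : Type*) [Field F] (n : ℕ) : Module.End ℂ ((Fin n → F) → ℂ) where
  toFun f x := f (-x)
  map_add' _ _ := rfl
  map_smul' _ _ := rfl

theorem par_apply (f : (Fin n → F) → ℂ) (x : Fin n → F) : par F n f x = f (-x) := rfl

theorem par_sq : par F n * par F n = 1 :=
  LinearMap.ext fun f => funext fun x => by simp [par_apply]

theorem par_op (ψ : AddChar F ℂ) (v : Fin n ⊕ Fin n → F) :
    par F n * op ψ v = op ψ (-v) * par F n := by
  refine LinearMap.ext fun f => funext fun x => ?_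
  simp only [Module.End.mul_apply, op_apply, par_apply, Pi.neg_comp, dotProduct_neg,
    neg_dotProduct, neg_neg, neg_add]

/-- `T` intertwines the Schrödinger representation with its twist by `g`. -/
def Intw (ψ : AddChar F ℂ) (g : symplecticGroup (Fin n) F)
    (T : Module.End ℂ ((Fin n → F) → ℂ)) : Prop :=
  ∀ v : Fin n ⊕ Fin n → F, T * op ψ v = op ψ (g • v) * T

theorem Intw.mul {ψ : AddChar F ℂ} {g h : symplecticGroup (Fin n) F}
    {S T : Module.End ℂ ((Fin n → F) → ℂ)} (hS : Intw ψ g S) (hT : Intw ψ h T) :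
    Intw ψ (g * h) (S * T) := fun v => by
  rw [mul_assoc, hT v, ← mul_assoc, hS, mul_assoc, mul_smul]

theorem intw_one (ψ : AddChar F ℂ) : Intw (n := n) ψ 1 1 := fun v => by
  rw [one_smul, one_mul, mul_one]

variable [Fintype F]

theorem avg_op (h2 : (2 : F) ≠ 0) {ψ : AddChar F ℂ} {t : F} (hψ : ψ t ≠ 1)
    (v : Fin n ⊕ Fin n → F) [Decidable (v = 0)] :
    ∑ w, op ψ w * op ψ v * op ψ (-w) =
      if v = 0 then (Fintype.card (Fin n ⊕ Fin n → F) : ℂ) • (1 : Module.End ℂ ((Fin n → F) → ℂ))
      else 0 := by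
  classical
  simp only [op_conj h2, ← Finset.sum_smul]
  split_ifs with hv
  · subst hv
    simp [form_eq_dot, op_zero]
  · rw [sum_char_form hψ hv, zero_smul]

theorem op_independent (h2 : (2 : F) ≠ 0) {ψ : AddChar F ℂ} {t : F} (hψ : ψ t ≠ 1) :
    LinearIndependent ℂ (op (n := n) ψ) := by
  classical
  rw [Fintype.linearIndependent_iff]
  intro c hc u
  have h := congrArg (fun T => ∑ w, op ψ w * (T * op ψ (-u)) * op ψ (-w)) hc
  simp only [zero_mul, mul_zero, Finset.sum_const_zero, Finset.sum_mul, Finset.mul_sum,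
    smul_mul_assoc, mul_smul_comm, op_mul h2 ψ _ (-u), smul_smul] at h
  rw [Finset.sum_comm] at h
  simp only [← Finset.smul_sum, avg_op h2 hψ] at h
  rw [Fintype.sum_eq_single u] at h
  · rw [if_pos (add_neg_cancel u), form_neg_right, form_self, smul_smul] at h
    simp only [neg_zero, mul_zero, AddChar.map_zero_eq_one, mul_one] at h
    have h1 := congrFun (LinearMap.congr_fun h (fun _ => 1)) 0
    simpa [Nat.cast_ne_zero.mpr Fintype.card_ne_zero] using h1
  · intro v hv
    rw [if_neg (fun e => hv (eq_of_sub_eq_zero (by rwa [sub_eq_add_neg]))), smul_zero]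

theorem span_op (h2 : (2 : F) ≠ 0) {ψ : AddChar F ℂ} {t : F} (hψ : ψ t ≠ 1) :
    Submodule.span ℂ (Set.range (op (n := n) ψ)) = ⊤ := by
  classical
  refine (op_independent h2 hψ).span_eq_top_of_card_eq_finrank ?_
  rw [Module.finrank_linearMap, Module.finrank_fintype_fun_eq_card, Fintype.card_fun,
    Fintype.card_fun, Fintype.card_sum, Fintype.card_fin, pow_add]

theorem eq_smul_one (h2 : (2 : F) ≠ 0) {ψ : AddChar F ℂ} {t : F} (hψ : ψ t ≠ 1)
    {T : Module.End ℂ ((Fin n → F) → ℂ)} (hT : ∀ v, T * op ψ v = op ψ v * T) :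
    ∃ c : ℂ, T = c • 1 := by
  classical
  have h : LinearMap.mulLeft ℂ T = LinearMap.mulRight ℂ T :=
    LinearMap.ext_on (span_op h2 hψ) fun _ ⟨v, hv⟩ => by subst hv; exact hT v
  refine ⟨T (Pi.single 0 1) 0, LinearMap.ext fun g => ?_⟩
  have h1 := LinearMap.congr_fun (LinearMap.congr_fun h
    ((LinearMap.proj (0 : Fin n → F) : ((Fin n → F) → ℂ) →ₗ[ℂ] ℂ).smulRight g))
    (Pi.single 0 1)
  simpa [Module.End.mul_apply] using h1

theorem Intw.isUnit (h2 : (2 : F) ≠ 0) {ψ : AddChar F ℂ} {t : F} (hψ : ψ t ≠ 1)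
    {g : symplecticGroup (Fin n) F} {T : Module.End ℂ ((Fin n → F) → ℂ)} (hT : Intw ψ g T)
    (hne : T ≠ 0) : IsUnit T := by
  classical
  have hinj : Function.Injective T := by
    rw [← LinearMap.ker_eq_bot, LinearMap.ker_eq_bot']
    intro f hf
    by_contra hf0
    obtain ⟨y, hy⟩ := Function.ne_iff.mp hf0
    have hL : T.comp (LinearMap.applyₗ (R := ℂ) f) =
        (0 : Module.End ℂ ((Fin n → F) → ℂ) →ₗ[ℂ] (Fin n → F) → ℂ) := by
      refine LinearMap.ext_on (span_op h2 hψ) fun M ⟨v, hv⟩ => ?_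
      subst hv
      have := LinearMap.congr_fun (hT v) f
      simp only [Module.End.mul_apply, hf, map_zero] at this
      simpa using this
    refine hne (LinearMap.ext fun g' => ?_)
    have := LinearMap.congr_fun hL
      ((LinearMap.proj y : ((Fin n → F) → ℂ) →ₗ[ℂ] ℂ).smulRight g')
    have hy' : f y ≠ 0 := hy
    simpa [hy'] using this
  exact (Module.End.isUnit_iff _).mpr ⟨hinj, LinearMap.injective_iff_surjective.mp hinj⟩

theorem exists_intw (h2 : (2 : F) ≠ 0) {ψ : AddChar F ℂ} {t : F} (hψ : ψ t ≠ 1)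
    (g : symplecticGroup (Fin n) F) :
    ∃ T, IsUnit T ∧ Intw ψ g T := by
  classical
  let avg : Module.End ℂ ((Fin n → F) → ℂ) → Module.End ℂ ((Fin n → F) → ℂ) := fun X =>
    ∑ v, op ψ (g • v) * X * op ψ (-v)
  have hint : ∀ X, Intw ψ g (avg X) := by
    intro X w
    simp only [avg, Finset.sum_mul, Finset.mul_sum]
    refine Fintype.sum_equiv (Equiv.subRight w) _ _ fun v => ?_
    simp only [Equiv.subRight_apply, mul_assoc, op_mul h2, mul_smul_comm]
    simp only [← mul_assoc, op_mul h2, smul_mul_assoc, ← smul_add', add_sub_cancel, neg_sub,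
      form_map, ← sub_eq_neg_add]
    congr 2
    rw [form_neg_left, form_sub_right, form_self, form_swap w v]
    ring
  by_cases hall : ∀ X, avg X = 0
  · exfalso
    have hc : ∀ x y : Fin n → F, ∀ v, op ψ (g • (-v)) (Pi.single y 1) x = 0 := by
      intro x y v
      refine Fintype.linearIndependent_iff.mp (op_independent h2 hψ)
        (fun v => op ψ (g • (-v)) (Pi.single y 1) x) (LinearMap.ext fun f => funext fun z => ?_) v
      have h := congrFun (LinearMap.congr_fun (hall
        ((LinearMap.proj z : ((Fin n → F) → ℂ) →ₗ[ℂ] ℂ).smulRight (Pi.single y 1))) f) x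
      simp only [avg, LinearMap.coe_sum, Finset.sum_apply, Module.End.mul_apply,
        LinearMap.smulRight_apply, map_smul, Pi.smul_apply, smul_eq_mul, LinearMap.coe_proj,
        Function.eval, LinearMap.zero_apply, Pi.zero_apply] at h
      simp only [LinearMap.coe_sum, Finset.sum_apply, LinearMap.smul_apply, Pi.smul_apply,
        smul_eq_mul, LinearMap.zero_apply, Pi.zero_apply]
      rw [← h]
      refine Fintype.sum_equiv (Equiv.neg _) _ _ fun v => ?_
      simp [mul_comm]
    have := hc 0 0 0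
    simp [op_apply] at this
  · push Not at hall
    obtain ⟨X, hX⟩ := hall
    exact ⟨avg X, (hint X).isUnit h2 hψ hX, hint X⟩

theorem Intw.eq_smul (h2 : (2 : F) ≠ 0) {ψ : AddChar F ℂ} {t : F} (hψ : ψ t ≠ 1)
    {g : symplecticGroup (Fin n) F} {T T' : Module.End ℂ ((Fin n → F) → ℂ)} (hu : IsUnit T)
    (hT : Intw ψ g T) (hT' : Intw ψ g T') : ∃ c : ℂ, T' = c • T := by
  obtain ⟨u, rfl⟩ := hu
  obtain ⟨c, hc⟩ := eq_smul_one h2 hψ (T := (↑u⁻¹ : Module.End ℂ ((Fin n → F) → ℂ)) * T') fun v => by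
    rw [mul_assoc, hT' v, ← mul_assoc, ← mul_assoc]
    congr 1
    rw [Units.inv_mul_eq_iff_eq_mul, ← mul_assoc, hT v, mul_assoc, Units.mul_inv, mul_one]
  refine ⟨c, ?_⟩
  have := congrArg (fun S => (↑u : Module.End ℂ ((Fin n → F) → ℂ)) * S) hc
  simpa [← mul_assoc] using this

theorem trace_par (h2 : (2 : F) ≠ 0) :
    LinearMap.trace ℂ ((Fin n → F) → ℂ) (par F n) = 1 := by
  classical
  rw [LinearMap.trace_eq_matrix_trace ℂ (Pi.basisFun ℂ (Fin n → F)), Matrix.trace,
    Fintype.sum_eq_single 0]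
  · simp [par_apply]
  · intro x hx
    have : -x ≠ x := fun h => hx (by
      funext i
      have hi := congrFun h i
      rw [Pi.neg_apply] at hi
      exact (mul_eq_zero.mp (show (2 : F) * x i = 0 by linear_combination -hi)).resolve_left h2)
    simp [par_apply, this]

theorem Intw.commute_par (h2 : (2 : F) ≠ 0) {ψ : AddChar F ℂ} {t : F} (hψ : ψ t ≠ 1)
    {g : symplecticGroup (Fin n) F} {T : Module.End ℂ ((Fin n → F) → ℂ)} (hu : IsUnit T)
    (hT : Intw ψ g T) : Commute T (par F n) := by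
  set P := par F n with hP
  have h' : Intw ψ g (P * T * P) := fun v => by
    rw [mul_assoc, par_op, ← mul_assoc, mul_assoc P T, hT, ← mul_assoc, par_op, smul_neg', neg_neg]
    simp only [mul_assoc, hP]
  obtain ⟨c, hc⟩ := hT.eq_smul h2 hψ hu h'
  obtain ⟨u, rfl⟩ := hu
  have h1 : (↑u : Module.End ℂ ((Fin n → F) → ℂ)) * P = c • (P * (↑u : Module.End ℂ ((Fin n → F) → ℂ))) := by
    have := congrArg (P * ·) hc
    simpa [← mul_assoc, hP, par_sq] using this
  have h3 : LinearMap.trace ℂ _ ((↑u : Module.End ℂ ((Fin n → F) → ℂ)) * P *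
      (↑u⁻¹ : Module.End ℂ ((Fin n → F) → ℂ))) = LinearMap.trace ℂ _ P := by
    rw [LinearMap.trace_mul_comm, ← mul_assoc, Units.inv_mul, one_mul]
  rw [h1, smul_mul_assoc, mul_assoc, Units.mul_inv, mul_one, map_smul, hP, trace_par h2,
    smul_eq_mul, mul_one] at h3
  rw [h3, one_smul] at h1
  exact h1

/-- Eigenspace of the parity. -/
def parSpace (F : Type*) [Field F] (n : ℕ) (s : ℂ) : Submodule ℂ ((Fin n → F) → ℂ) :=
  LinearMap.ker (par F n - s • 1)

omit [Fintype F] in
theorem mem_parSpace {s : ℂ} {f : (Fin n → F) → ℂ} :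
    f ∈ parSpace F n s ↔ par F n f = s • f := by
  simp [parSpace, sub_eq_zero]

theorem finrank_parSpace (h2 : (2 : F) ≠ 0) {s : ℂ} (hs : s * s = 1) :
    2 * (Module.finrank ℂ (parSpace F n s) : ℂ) = (Fintype.card F : ℂ) ^ n + s := by
  classical
  have hproj : LinearMap.IsProj (parSpace F n s) ((2 : ℂ)⁻¹ • (1 + s • par F n)) := by
    constructor
    · intro f
      rw [mem_parSpace]
      funext x
      simp only [par_apply, LinearMap.smul_apply, LinearMap.add_apply, Module.End.one_apply,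
        Pi.smul_apply, Pi.add_apply, smul_eq_mul, neg_neg]
      linear_combination (-(2 : ℂ)⁻¹ * f (-x)) * hs
    · intro f hf
      rw [mem_parSpace] at hf
      simp only [LinearMap.smul_apply, LinearMap.add_apply, Module.End.one_apply, hf, smul_smul, hs,
        one_smul, ← two_smul ℂ f]
      norm_num
  have h := hproj.trace
  rw [map_smul, map_add, map_smul, trace_par h2, LinearMap.trace_one,
    Module.finrank_fintype_fun_eq_card, Fintype.card_fun, Fintype.card_fin] at h
  rw [← h]
  push_cast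
  simp only [smul_eq_mul]
  ring

/-- Operators commuting with the parity. -/
def parCentralizer (F : Type*) [Field F] (n : ℕ) :
    Subalgebra ℂ (Module.End ℂ ((Fin n → F) → ℂ)) :=
  Subalgebra.centralizer ℂ {par F n}

omit [Fintype F] in
theorem mem_parCentralizer {T : Module.End ℂ ((Fin n → F) → ℂ)} :
    T ∈ parCentralizer F n ↔ Commute T (par F n) := by
  simp [parCentralizer, Subalgebra.mem_centralizer_iff, Commute, SemiconjBy, eq_comm]

/-- Restriction to an eigenspace of the parity. -/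
def res (s : ℂ) : parCentralizer F n →* Module.End ℂ (parSpace F n s) where
  toFun T := (T.1).restrict fun f hf => by
    rw [mem_parSpace] at hf ⊢
    rw [← Module.End.mul_apply, ← (mem_parCentralizer.mp T.2).eq, Module.End.mul_apply, hf,
      map_smul]
  map_one' := LinearMap.ext fun _ => Subtype.ext rfl
  map_mul' _ _ := LinearMap.ext fun _ => Subtype.ext rfl

omit [Fintype F] in
theorem coe_res (s : ℂ) (T : parCentralizer F n) (f : parSpace F n s) :
    (res s T f : (Fin n → F) → ℂ) = T.1 f := rfl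

omit [Fintype F] in
theorem res_smul (s c : ℂ) (T : parCentralizer F n) : res s (c • T) = c • res s T :=
  LinearMap.ext fun _ => Subtype.ext rfl

/-- The normalised odd part of an operator commuting with the parity. -/
noncomputable def normOdd (T : parCentralizer F n) : Module.End ℂ (parSpace F n (-1)) :=
  (LinearMap.det (res (-1) T) / LinearMap.det (res 1 T)) • res (-1) T

omit [Fintype F] in
theorem normOdd_one : normOdd (1 : parCentralizer F n) = 1 := by
  simp [normOdd, map_one]

omit [Fintype F] in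
theorem normOdd_mul (S T : parCentralizer F n) : normOdd (S * T) = normOdd S * normOdd T := by
  simp only [normOdd, map_mul, smul_mul_smul_comm, mul_div_mul_comm]

theorem finrank_odd (h2 : (2 : F) ≠ 0) :
    2 * Module.finrank ℂ (parSpace F n (-1)) + 1 = Fintype.card F ^ n := by
  have h := finrank_parSpace (F := F) (n := n) h2 (s := -1) (by norm_num)
  apply Nat.cast_injective (R := ℂ)
  push_cast
  linear_combination h

theorem finrank_even (h2 : (2 : F) ≠ 0) :
    Module.finrank ℂ (parSpace F n 1) = Module.finrank ℂ (parSpace F n (-1)) + 1 := by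
  have h := finrank_parSpace (F := F) (n := n) h2 (s := 1) (by norm_num)
  have h' := finrank_parSpace (F := F) (n := n) h2 (s := -1) (by norm_num)
  apply Nat.cast_injective (R := ℂ)
  push_cast
  linear_combination (1 / 2 : ℂ) * h - (1 / 2 : ℂ) * h'

theorem normOdd_smul (h2 : (2 : F) ≠ 0) {c : ℂ} (hc : c ≠ 0) (T : parCentralizer F n) :
    normOdd (c • T) = normOdd T := by
  simp only [normOdd, res_smul, LinearMap.det_smul, finrank_even h2, smul_smul, pow_succ]
  congr 1
  rw [mul_assoc, mul_div_mul_left _ _ (pow_ne_zero _ hc), div_mul_eq_mul_div, mul_comm _ c,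
    mul_div_mul_left _ _ hc]

/-- A chosen intertwiner. -/
noncomputable def weilOp (h2 : (2 : F) ≠ 0) {ψ : AddChar F ℂ} {t : F} (hψ : ψ t ≠ 1)
    (g : symplecticGroup (Fin n) F) : parCentralizer F n :=
  ⟨(exists_intw h2 hψ g).choose, mem_parCentralizer.mpr
    ((exists_intw h2 hψ g).choose_spec.2.commute_par h2 hψ (exists_intw h2 hψ g).choose_spec.1)⟩

theorem normOdd_eq (h2 : (2 : F) ≠ 0) {ψ : AddChar F ℂ} {t : F} (hψ : ψ t ≠ 1)
    {g : symplecticGroup (Fin n) F} (T : parCentralizer F n) (hu : IsUnit T.1)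
    (hT : Intw ψ g T.1) : normOdd (weilOp h2 hψ g) = normOdd T := by
  have hs := (exists_intw h2 hψ g).choose_spec
  obtain ⟨c, hc⟩ := hs.2.eq_smul h2 hψ hs.1 hT
  have : T = c • weilOp h2 hψ g := Subtype.ext hc
  rw [this, normOdd_smul h2]
  rintro rfl
  rw [zero_smul] at hc
  exact hu.ne_zero hc

/-- The odd part of the Weil representation. -/
noncomputable def weil (h2 : (2 : F) ≠ 0) {ψ : AddChar F ℂ} {t : F} (hψ : ψ t ≠ 1) :
    symplecticGroup (Fin n) F →* Module.End ℂ (parSpace F n (-1)) where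
  toFun g := normOdd (weilOp h2 hψ g)
  map_one' := by rw [normOdd_eq h2 hψ 1 isUnit_one (intw_one ψ), normOdd_one]
  map_mul' g h := by
    have hg := (exists_intw h2 hψ g).choose_spec
    have hh := (exists_intw h2 hψ h).choose_spec
    rw [← normOdd_mul, normOdd_eq h2 hψ (weilOp h2 hψ g * weilOp h2 hψ h) (hg.1.mul hh.1)
      (hg.2.mul hh.2)]

/-- Multiplication by a quadratic character. -/
noncomputable def mulQuad (ψ : AddChar F ℂ) (i : Fin n) (s : F) :
    Module.End ℂ ((Fin n → F) → ℂ) where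
  toFun f x := ψ (s * x i ^ 2) * f x
  map_add' f g := by funext x; simp only [Pi.add_apply]; ring
  map_smul' c f := by funext x; simp only [Pi.smul_apply, smul_eq_mul, RingHom.id_apply]; ring

omit [Fintype F] in
theorem mulQuad_apply (ψ : AddChar F ℂ) (i : Fin n) (s : F) (f : (Fin n → F) → ℂ)
    (x : Fin n → F) : mulQuad ψ i s f x = ψ (s * x i ^ 2) * f x := rfl

omit [Fintype F] in
theorem intw_mulQuad (h2 : (2 : F) ≠ 0) (ψ : AddChar F ℂ) (i : Fin n) (s : F) :
    Intw ψ (transv (Pi.single (Sum.inr i) 1) (2 * s)) (mulQuad ψ i s) := by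
  classical
  intro v
  rw [transv_smul, form_single_inr_right]
  refine LinearMap.ext fun f => funext fun x => ?_
  have ha : (v + (2 * s * -v (Sum.inl i)) • Pi.single (Sum.inr i) (1 : F)) ∘ Sum.inl =
      v ∘ Sum.inl := by
    funext j; simp
  have hb : (v + (2 * s * -v (Sum.inl i)) • Pi.single (Sum.inr i) (1 : F)) ∘ Sum.inr =
      v ∘ Sum.inr + Pi.single i (-(2 * s * v (Sum.inl i))) := by
    funext j
    by_cases hj : j = i <;> simp [hj, Sum.inr.injEq]
  simp only [Module.End.mul_apply, op_apply, mulQuad_apply, ha, hb, ← mul_assoc,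
    ← AddChar.map_add_eq_mul, add_dotProduct, single_dotProduct, dotProduct_add, dotProduct_single,
    Pi.add_apply, Function.comp_apply]
  congr 2
  linear_combination (s * v (Sum.inl i) * v (Sum.inl i)) * mul_inv_cancel₀ h2

theorem weil_ne_one (hn : 2 ≤ n) (h2 : (2 : F) ≠ 0) {ψ : AddChar F ℂ} {t : F} (hψ : ψ t ≠ 1) :
    weil (n := n) h2 hψ ≠ 1 := by
  classical
  intro h1
  let i : Fin n := ⟨0, by omega⟩
  let j : Fin n := ⟨1, by omega⟩
  have hint := intw_mulQuad h2 ψ i t
  have hne : mulQuad ψ i t ≠ 0 := fun h => by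
    have := congrFun (LinearMap.congr_fun h (fun _ => 1)) 0
    simp [mulQuad_apply] at this
  have hu := hint.isUnit h2 hψ hne
  let M : parCentralizer F n :=
    ⟨mulQuad ψ i t, mem_parCentralizer.mpr (hint.commute_par h2 hψ hu)⟩
  have h := DFunLike.congr_fun h1 (transv (Pi.single (Sum.inr i) 1) (2 * t))
  change normOdd (weilOp h2 hψ _) = 1 at h
  rw [normOdd_eq h2 hψ M hu hint] at h
  set k := LinearMap.det (res (-1) M) / LinearMap.det (res 1 M) with hk
  have hval : ∀ l : Fin n, k * ψ (t * ((Pi.single l 1 : Fin n → F) i) ^ 2) = 1 := by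
    intro l
    set e : Fin n → F := Pi.single l 1
    have he : -e ≠ e := fun hh => h2 (by
      have := congrFun hh l
      simp [e] at this
      linear_combination -this)
    let f : parSpace F n (-1) := ⟨Pi.single e 1 - Pi.single (-e) 1, mem_parSpace.mpr (by
      funext x
      simp only [par_apply, Pi.sub_apply, Pi.smul_apply, smul_eq_mul, Pi.single_apply, neg_inj]
      simp only [neg_eq_iff_eq_neg]
      ring)⟩
    have h3 := congrFun (congrArg Subtype.val (LinearMap.congr_fun h f)) e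
    simpa [normOdd, ← hk, coe_res, M, mulQuad_apply, f, Pi.single_eq_of_ne he.symm] using h3
  have hi := hval i
  have hj := hval j
  simp only [Pi.single_eq_same, one_pow, mul_one] at hi
  rw [Pi.single_eq_of_ne (by simp [i, j, Fin.ext_iff])] at hj
  simp only [ne_eq, OfNat.ofNat_ne_zero, not_false_eq_true, zero_pow, mul_zero,
    AddChar.map_zero_eq_one, mul_one] at hj
  rw [hj, one_mul] at hi
  exact hψ hi

end Cfsg.Agent.SpWeilOdd50
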