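import Mathlib
import Cfsg.Agent.Lib.SpGap32Spec
import Cfsg.Agent.Lib.SpWeilOdd50

/-!
Elements of `Sp_2(k+1)(q)`: Levi elements, the Heisenberg group at the first basis vector and the
embedded `Sp_2k(q)`.
-/

set_option autoImplicit false

open Matrix Cfsg

namespace Cfsg.Agent.SpGap32Elements

open Cfsg.Agent.SymplecticBasic Cfsg.Agent.SpOddMinDegree50

variable {F : Type*} [Field F] {k : ℕ}

theorem elim_eta {α β γ : Type*} (x : α ⊕ β → γ) :
    Sum.elim (x ∘ Sum.inl) (x ∘ Sum.inr) = x := by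
  funext i; rcases i with i | i <;> rfl

theorem fromBlocks_smul {n : ℕ} (g : symplecticGroup (Fin n) F) {A B C D : Matrix (Fin n) (Fin n) F}
    (hg : (g : Matrix (Fin n ⊕ Fin n) (Fin n ⊕ Fin n) F) = fromBlocks A B C D)
    (x : Fin n ⊕ Fin n → F) :
    g • x = Sum.elim (A *ᵥ (x ∘ Sum.inl) + B *ᵥ (x ∘ Sum.inr))
      (C *ᵥ (x ∘ Sum.inl) + D *ᵥ (x ∘ Sum.inr)) := by
  rw [smul_def, hg, Matrix.fromBlocks_mulVec]

theorem siegel_smul {n : ℕ} (B : symM F n) (x : Fin n ⊕ Fin n → F) :
    siegel B • x = Sum.elim (x ∘ Sum.inl + B.1 *ᵥ (x ∘ Sum.inr)) (x ∘ Sum.inr) := by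
  rw [fromBlocks_smul (siegel B) rfl, Matrix.one_mulVec, Matrix.zero_mulVec, zero_add,
    Matrix.one_mulVec]

/-- Levi elements, acting on the second half of the coordinates by `M`. -/
def lv {n : ℕ} : GL (Fin n) F →* symplecticGroup (Fin n) F where
  toFun M := levi ((M⁻¹ : GL (Fin n) F).1)ᵀ M.1ᵀ
    (by rw [← Matrix.transpose_mul, ← Units.val_mul, mul_inv_cancel, Units.val_one,
      Matrix.transpose_one])
  map_one' := Subtype.ext (by simp [levi])
  map_mul' M N := Subtype.ext (by simp [levi, fromBlocks_multiply, Matrix.transpose_mul])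

theorem lv_coe {n : ℕ} (M : GL (Fin n) F) :
    (lv M : Matrix (Fin n ⊕ Fin n) (Fin n ⊕ Fin n) F) =
      fromBlocks ((M⁻¹ : GL (Fin n) F).1)ᵀ 0 0 M.1 := by
  simp [lv, levi]

theorem lv_smul {n : ℕ} (M : GL (Fin n) F) (x : Fin n ⊕ Fin n → F) :
    lv M • x = Sum.elim (((M⁻¹ : GL (Fin n) F).1)ᵀ *ᵥ (x ∘ Sum.inl)) (M.1 *ᵥ (x ∘ Sum.inr)) := by
  rw [fromBlocks_smul (lv M) (lv_coe M), Matrix.zero_mulVec, Matrix.zero_mulVec, add_zero, zero_add]

/-- The rank one symmetric matrix `c w wᵀ`. -/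
def symOf {n : ℕ} (c : F) (w : Fin n → F) : symM F n :=
  ⟨c • vecMulVec w w, by
    show (c • vecMulVec w w)ᵀ = _
    rw [Matrix.transpose_smul, Matrix.transpose_vecMulVec]⟩

theorem trace_symOf {n : ℕ} (c : F) (w : Fin n → F) (B : Matrix (Fin n) (Fin n) F) :
    Matrix.trace ((symOf c w).1 * B) = c * (w ⬝ᵥ (B *ᵥ w)) := by
  show Matrix.trace ((c • vecMulVec w w) * B) = _
  rw [Matrix.smul_mul, Matrix.trace_smul, Matrix.vecMulVec_mul, Matrix.trace_vecMulVec, smul_eq_mul,
    Matrix.dotProduct_mulVec, dotProduct_comm]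

/-- The first basis vector. -/
def e0 : Fin (k + 1) → F := Pi.single 0 1

theorem cons_dot (a b : F) (x y : Fin k → F) :
    (Fin.cons a x : Fin (k + 1) → F) ⬝ᵥ Fin.cons b y = a * b + x ⬝ᵥ y := by
  simp [dotProduct, Fin.sum_univ_succ]

/-- The matrix of `w ↦ w + w₀ (0, y)`. -/
def shearM (y : Fin k → F) : Matrix (Fin (k + 1)) (Fin (k + 1)) F :=
  1 + vecMulVec (Fin.cons 0 y) (e0 : Fin (k + 1) → F)

theorem shearM_mul (y z : Fin k → F) : shearM y * shearM z = shearM (y + z) := by
  have h : vecMulVec (Fin.cons 0 y : Fin (k + 1) → F) (e0 : Fin (k + 1) → F) *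
      vecMulVec (Fin.cons 0 z : Fin (k + 1) → F) (e0 : Fin (k + 1) → F) = 0 := by
    rw [Matrix.vecMulVec_mul_vecMulVec]
    simp [e0]
  have e : (Fin.cons 0 (y + z) : Fin (k + 1) → F) = Fin.cons 0 y + Fin.cons 0 z := by
    funext i; refine Fin.cases ?_ ?_ i <;> simp
  simp only [shearM, Matrix.add_mul, Matrix.mul_add, Matrix.one_mul, Matrix.mul_one, h, e,
    Matrix.add_vecMulVec]
  abel

theorem shearM_zero : shearM (0 : Fin k → F) = 1 := by
  have e : (Fin.cons 0 (0 : Fin k → F) : Fin (k + 1) → F) = 0 := by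
    funext i; refine Fin.cases ?_ ?_ i <;> simp
  simp [shearM, e]

/-- `shearM` as an invertible matrix. -/
def shear (y : Fin k → F) : GL (Fin (k + 1)) F where
  val := shearM y
  inv := shearM (-y)
  val_inv := by rw [shearM_mul, add_neg_cancel, shearM_zero]
  inv_val := by rw [shearM_mul, neg_add_cancel, shearM_zero]

theorem shear_mul (y z : Fin k → F) : shear y * shear z = shear (y + z) :=
  Units.ext (shearM_mul y z)

theorem shear_zero : shear (0 : Fin k → F) = 1 := Units.ext shearM_zero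

theorem shear_inv (y : Fin k → F) : (shear y)⁻¹ = shear (-y) :=
  inv_eq_of_mul_eq_one_right (by rw [shear_mul, add_neg_cancel, shear_zero])

theorem shearM_mulVec (y : Fin k → F) (r : Fin (k + 1) → F) :
    shearM y *ᵥ r = r + r 0 • Fin.cons 0 y := by
  rw [shearM, Matrix.add_mulVec, Matrix.one_mulVec, Matrix.vecMulVec_mulVec, op_smul_eq_smul]
  simp [e0]

theorem shearM_e0 (y : Fin k → F) : shearM y *ᵥ e0 = Fin.cons 1 y := by
  rw [shearM_mulVec]
  funext i
  refine Fin.cases ?_ ?_ i <;> simp [e0, Fin.succ_ne_zero]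

theorem shearM_transpose_mulVec (y : Fin k → F) (p : Fin (k + 1) → F) :
    (shearM y)ᵀ *ᵥ p = p + ((Fin.cons 0 y : Fin (k + 1) → F) ⬝ᵥ p) • e0 := by
  rw [shearM, Matrix.transpose_add, Matrix.transpose_one, Matrix.transpose_vecMulVec,
    Matrix.add_mulVec, Matrix.one_mulVec, Matrix.vecMulVec_mulVec, op_smul_eq_smul]

/-- The first basis vector of the symplectic space, fixed by the Jacobi group. -/
def v1 : Fin (k + 1) ⊕ Fin (k + 1) → F := Pi.single (Sum.inl 0) 1

/-- Its partner. -/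
def w1 : Fin (k + 1) ⊕ Fin (k + 1) → F := Pi.single (Sum.inr 0) 1

/-- Inclusion of the orthogonal complement of the first pair. -/
def incl (z : Fin k ⊕ Fin k → F) : Fin (k + 1) ⊕ Fin (k + 1) → F :=
  Sum.elim (Fin.cons 0 (z ∘ Sum.inl)) (Fin.cons 0 (z ∘ Sum.inr))

/-- The coordinates off the first pair. -/
def rest (x : Fin (k + 1) ⊕ Fin (k + 1) → F) : Fin k ⊕ Fin k → F :=
  Sum.elim (fun i => x (Sum.inl i.succ)) (fun i => x (Sum.inr i.succ))

theorem form_split (x y : Fin (k + 1) ⊕ Fin (k + 1) → F) :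
    sympForm (k + 1) F x y = x (Sum.inr 0) * y (Sum.inl 0) - x (Sum.inl 0) * y (Sum.inr 0) +
      sympForm k F (rest x) (rest y) := by
  rw [form_eq_sum, form_eq_sum, Fin.sum_univ_succ]
  rfl

theorem form_incl (x : Fin (k + 1) ⊕ Fin (k + 1) → F) (z : Fin k ⊕ Fin k → F) :
    sympForm (k + 1) F x (incl z) = sympForm k F (rest x) z := by
  rw [form_split]
  have : rest (incl z) = z := by funext i; rcases i with i | i <;> simp [rest, incl]
  rw [this]
  simp [incl]

theorem form_v1 (x : Fin (k + 1) ⊕ Fin (k + 1) → F) :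
    sympForm (k + 1) F x v1 = x (Sum.inr 0) := form_single_inl_right x 0

theorem form_w1 (x : Fin (k + 1) ⊕ Fin (k + 1) → F) :
    sympForm (k + 1) F x w1 = -x (Sum.inl 0) := form_single_inr_right x 0

theorem rest_incl (z : Fin k ⊕ Fin k → F) : rest (incl z) = z := by
  funext i; rcases i with i | i <;> simp [rest, incl]

theorem decomp (x : Fin (k + 1) ⊕ Fin (k + 1) → F) :
    x = x (Sum.inl 0) • v1 + x (Sum.inr 0) • w1 + incl (rest x) := by
  funext i
  rcases i with i | i <;> refine Fin.cases ?_ ?_ i <;>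
    simp [v1, w1, incl, rest, Fin.succ_ne_zero]

/-- The symmetric matrix with first row `(γ, b)` and zero elsewhere. -/
def rowM (γ : F) (b : Fin k → F) : symM F (k + 1) :=
  ⟨vecMulVec e0 (Fin.cons (2⁻¹ * γ) b) + vecMulVec (Fin.cons (2⁻¹ * γ) b) e0, by
    show (_ : Matrix _ _ F)ᵀ = _
    rw [Matrix.transpose_add, Matrix.transpose_vecMulVec, Matrix.transpose_vecMulVec]
    exact add_comm _ _⟩

theorem rowM_mulVec (γ : F) (b : Fin k → F) (r : Fin (k + 1) → F) :
    (rowM γ b).1 *ᵥ r = ((Fin.cons (2⁻¹ * γ) b : Fin (k + 1) → F) ⬝ᵥ r) • e0 +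
      r 0 • (Fin.cons (2⁻¹ * γ) b : Fin (k + 1) → F) := by
  show (_ + _ : Matrix _ _ F) *ᵥ r = _
  rw [Matrix.add_mulVec, Matrix.vecMulVec_mulVec, Matrix.vecMulVec_mulVec, op_smul_eq_smul,
    op_smul_eq_smul]
  simp [e0]

/-- A Heisenberg element. -/
def qv (v : Fin k ⊕ Fin k → F) : symplecticGroup (Fin (k + 1)) F :=
  lv (shear (-(v ∘ Sum.inl))) *
    siegel (rowM (-((v ∘ Sum.inl) ⬝ᵥ (v ∘ Sum.inr))) (v ∘ Sum.inr))

/-- The quarter turn of a symplectic space. -/
def rot (F : Type*) [Field F] (k : ℕ) : symplecticGroup (Fin k) F :=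
  ⟨fromBlocks 0 1 (-1) 0, by
    rw [SymplecticGroup.mem_iff, Matrix.J, fromBlocks_multiply, fromBlocks_transpose,
      fromBlocks_multiply]
    simp⟩

theorem rot_smul (v : Fin k ⊕ Fin k → F) :
    rot F k • v = Sum.elim (v ∘ Sum.inr) (-(v ∘ Sum.inl)) := by
  rw [fromBlocks_smul (rot F k) rfl, Matrix.zero_mulVec, zero_add, Matrix.one_mulVec,
    Matrix.neg_mulVec, Matrix.one_mulVec, Matrix.zero_mulVec, add_zero]

theorem qv_smul (h2 : (2 : F) ≠ 0) (v : Fin k ⊕ Fin k → F)
    (x : Fin (k + 1) ⊕ Fin (k + 1) → F) :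
    qv v • x = x + sympForm (k + 1) F x v1 • incl (rot F k • v) +
      sympForm (k + 1) F x (incl (rot F k • v)) • v1 := by
  set a := v ∘ Sum.inl with ha
  set b := v ∘ Sum.inr with hb
  rw [form_v1, form_incl, rot_smul, qv, mul_smul, lv_smul, siegel_smul]
  rw [show ((shear (-a))⁻¹ : GL (Fin (k + 1)) F).1 = shearM a from by
    rw [shear_inv, neg_neg]; rfl]
  simp only [Sum.elim_comp_inl, Sum.elim_comp_inr, ← ha, ← hb]
  rw [show (shear (-a)).1 = shearM (-a) from rfl, shearM_mulVec, shearM_transpose_mulVec,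
    rowM_mulVec]
  set r := x ∘ Sum.inr with hr
  set p := x ∘ Sum.inl with hp
  have hf : sympForm k F (rest x) (Sum.elim b (-a)) =
      (fun i => r (Fin.succ i)) ⬝ᵥ b + (fun i => p (Fin.succ i)) ⬝ᵥ a := by
    simp [form_eq_sum, rest, hr, hp, dotProduct, Finset.sum_add_distrib]
  have hcr : (Fin.cons (2⁻¹ * -(a ⬝ᵥ b)) b : Fin (k + 1) → F) ⬝ᵥ r =
      2⁻¹ * -(a ⬝ᵥ b) * r 0 + (fun i => r (Fin.succ i)) ⬝ᵥ b := by
    rw [← Fin.cons_self_tail r, cons_dot, dotProduct_comm b]
    rfl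
  have hca : ∀ y : Fin (k + 1) → F, (Fin.cons 0 a : Fin (k + 1) → F) ⬝ᵥ y =
      (fun i => y (Fin.succ i)) ⬝ᵥ a := by
    intro y
    rw [← Fin.cons_self_tail y, cons_dot, dotProduct_comm a]
    simp [Fin.tail]
    rfl
  rw [hf, hcr, hca]
  funext i
  rcases i with i | i <;> refine Fin.cases ?_ ?_ i
  · simp [v1, incl, e0, hp, hr, Fin.succ_ne_zero, add_dotProduct, dotProduct]
    simp only [add_mul, Finset.sum_add_distrib, mul_assoc, ← Finset.mul_sum,
      mul_comm (b _) (a _)]
    linear_combination (-(x (Sum.inr 0) * ∑ j, a j * b j)) * mul_inv_cancel₀ h2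
  · intro j
    simp [v1, incl, e0, hp, hr, Fin.succ_ne_zero]
  · simp [v1, incl, e0, hp, hr]
  · intro j
    simp [v1, incl, e0, hp, hr, Fin.succ_ne_zero]

/-- The linear map extending `h` by the identity on the first pair. -/
def embLin (h : symplecticGroup (Fin k) F) :
    (Fin (k + 1) ⊕ Fin (k + 1) → F) →ₗ[F] (Fin (k + 1) ⊕ Fin (k + 1) → F) where
  toFun x := x (Sum.inl 0) • v1 + x (Sum.inr 0) • w1 + incl (h • rest x)
  map_add' x y := by
    have : rest (x + y) = rest x + rest y := by funext i; rcases i with i | i <;> rfl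
    rw [this, SpWeilOdd50.smul_add']
    funext i
    rcases i with i | i <;> refine Fin.cases ?_ ?_ i <;>
      simp [incl, v1, w1, add_mul, Fin.succ_ne_zero]
  map_smul' c x := by
    have : rest (c • x) = c • rest x := by funext i; rcases i with i | i <;> rfl
    rw [this, SymplecticSimple.scalar_smul]
    funext i
    rcases i with i | i <;> refine Fin.cases ?_ ?_ i <;>
      simp [incl, v1, w1, Fin.succ_ne_zero]

theorem form_embLin (h : symplecticGroup (Fin k) F) (x y : Fin (k + 1) ⊕ Fin (k + 1) → F) :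
    sympForm (k + 1) F (embLin h x) (embLin h y) = sympForm (k + 1) F x y := by
  have hr : ∀ z, rest (embLin h z) = h • rest z := fun z => by
    funext i; rcases i with i | i <;> simp [embLin, rest, incl, v1, w1, Fin.succ_ne_zero]
  rw [form_split, form_split x y, hr, hr, form_map]
  simp [embLin, incl, v1, w1]

/-- The embedding of `Sp_2k` fixing the first pair. -/
noncomputable def emb : symplecticGroup (Fin k) F →* symplecticGroup (Fin (k + 1)) F where
  toFun h := ⟨LinearMap.toMatrix' (embLin h), mem_sp_iff_form.mpr fun u v => by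
    rw [LinearMap.toMatrix'_mulVec, LinearMap.toMatrix'_mulVec]
    exact form_embLin h u v⟩
  map_one' := ext_smul fun x => by
    rw [smul_def, one_smul]
    show LinearMap.toMatrix' _ *ᵥ x = x
    rw [LinearMap.toMatrix'_mulVec]
    show x (Sum.inl 0) • v1 + x (Sum.inr 0) • w1 + incl ((1 : symplecticGroup (Fin k) F) • rest x) = x
    rw [one_smul, ← decomp]
  map_mul' g h := ext_smul fun x => by
    rw [mul_smul, smul_def, smul_def, smul_def]
    show LinearMap.toMatrix' _ *ᵥ x = LinearMap.toMatrix' _ *ᵥ (LinearMap.toMatrix' _ *ᵥ x)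
    rw [LinearMap.toMatrix'_mulVec, LinearMap.toMatrix'_mulVec, LinearMap.toMatrix'_mulVec]
    have hr : rest (embLin h x) = h • rest x := by
      funext i; rcases i with i | i <;> simp [embLin, rest, incl, v1, w1, Fin.succ_ne_zero]
    have h1 : embLin h x (Sum.inl 0) = x (Sum.inl 0) := by simp [embLin, incl, v1, w1]
    have h2 : embLin h x (Sum.inr 0) = x (Sum.inr 0) := by simp [embLin, incl, v1, w1]
    show _ = (embLin h x) (Sum.inl 0) • v1 + (embLin h x) (Sum.inr 0) • w1 +
      incl (g • rest (embLin h x))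
    rw [hr, h1, h2, ← mul_smul]
    rfl

theorem emb_smul (h : symplecticGroup (Fin k) F) (x : Fin (k + 1) ⊕ Fin (k + 1) → F) :
    emb h • x = x (Sum.inl 0) • v1 + x (Sum.inr 0) • w1 + incl (h • rest x) := by
  rw [smul_def]
  show LinearMap.toMatrix' _ *ᵥ x = _
  rw [LinearMap.toMatrix'_mulVec]
  rfl

theorem emb_incl (h : symplecticGroup (Fin k) F) (z : Fin k ⊕ Fin k → F) :
    emb h • incl z = incl (h • z) := by
  rw [emb_smul, rest_incl]
  simp [incl]

theorem emb_v1 (h : symplecticGroup (Fin k) F) :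
    emb h • (v1 : Fin (k + 1) ⊕ Fin (k + 1) → F) = v1 := by
  rw [emb_smul]
  have : rest (v1 : Fin (k + 1) ⊕ Fin (k + 1) → F) = 0 := by
    funext i; rcases i with i | i <;> simp [rest, v1, Fin.succ_ne_zero]
  rw [this, smul_def, Matrix.mulVec_zero]
  funext i
  rcases i with i | i <;> refine Fin.cases ?_ ?_ i <;> simp [incl, v1, w1, Fin.succ_ne_zero]

theorem emb_transv (z : Fin k ⊕ Fin k → F) (c : F) : emb (transv z c) = transv (incl z) c := by
  refine ext_smul fun x => ?_
  rw [emb_smul, transv_smul, transv_smul, form_incl]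
  conv_rhs => rw [decomp x]
  funext i
  rcases i with i | i <;> refine Fin.cases ?_ ?_ i <;>
    simp [incl, v1, w1, rest, Fin.succ_ne_zero]

theorem exists_emb {g : symplecticGroup (Fin (k + 1)) F} (hv : g • (v1 : Fin (k + 1) ⊕ Fin (k + 1) → F) = v1) (hw : g • (w1 : Fin (k + 1) ⊕ Fin (k + 1) → F) = w1) :
    ∃ h, emb h = g := by
  have h0 : ∀ z : Fin k ⊕ Fin k → F, (g • incl z) (Sum.inl 0) = 0 ∧ (g • incl z) (Sum.inr 0) = 0 := by
    intro z
    have e1 := form_map g (incl z) v1
    have e2 := form_map g (incl z) w1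
    rw [hv, form_v1, form_v1] at e1
    rw [hw, form_w1, form_w1, neg_inj] at e2
    exact ⟨by rw [e2]; simp [incl], by rw [e1]; simp [incl]⟩
  let L : (Fin k ⊕ Fin k → F) →ₗ[F] (Fin k ⊕ Fin k → F) :=
    { toFun := fun z => rest (g • incl z)
      map_add' := fun a b => by
        have : incl (a + b) = incl a + incl b := by
          funext i; rcases i with i | i <;> refine Fin.cases ?_ ?_ i <;> simp [incl]
        rw [this, SpWeilOdd50.smul_add']
        funext i; rcases i with i | i <;> rfl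
      map_smul' := fun c a => by
        have : incl (c • a) = c • incl a := by
          funext i; rcases i with i | i <;> refine Fin.cases ?_ ?_ i <;> simp [incl]
        rw [this, SymplecticSimple.scalar_smul]
        funext i; rcases i with i | i <;> rfl }
  have hL : ∀ z, incl (L z) = g • incl z := fun z => by
    conv_rhs => rw [decomp (g • incl z), (h0 z).1, (h0 z).2, zero_smul, zero_smul, zero_add, zero_add]
    rfl
  let h : symplecticGroup (Fin k) F := ⟨LinearMap.toMatrix' L, mem_sp_iff_form.mpr fun u v => by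
    rw [LinearMap.toMatrix'_mulVec, LinearMap.toMatrix'_mulVec]
    have e := form_map g (incl u) (incl v)
    rw [← hL, ← hL, form_incl, form_incl, rest_incl, rest_incl] at e
    exact e⟩
  refine ⟨h, ext_smul fun x => ?_⟩
  rw [emb_smul, show h • rest x = L (rest x) from LinearMap.toMatrix'_mulVec _ _, hL]
  conv_rhs => rw [decomp x]
  rw [SpWeilOdd50.smul_add', SpWeilOdd50.smul_add', SymplecticSimple.scalar_smul,
    SymplecticSimple.scalar_smul, hv, hw]

/-- The conjugate embedding, matching the Schrödinger model. -/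
noncomputable def embT : symplecticGroup (Fin k) F →* symplecticGroup (Fin (k + 1)) F :=
  emb.comp (MulAut.conj (rot F k)).toMonoidHom

theorem embT_apply (h : symplecticGroup (Fin k) F) :
    embT h = emb (rot F k * h * (rot F k)⁻¹) := rfl

theorem embT_qv (h2 : (2 : F) ≠ 0) (h : symplecticGroup (Fin k) F) (v : Fin k ⊕ Fin k → F) :
    embT h * qv v = qv (h • v) * embT h := by
  refine ext_smul fun x => ?_
  rw [mul_smul, mul_smul, qv_smul h2, qv_smul h2, embT_apply]
  set g := rot F k * h * (rot F k)⁻¹ with hg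
  have hz : g • (rot F k • v) = rot F k • (h • v) := by
    rw [hg, ← mul_smul, ← mul_smul, inv_mul_cancel_right]
  have e1 : sympForm (k + 1) F (emb g • x) v1 = sympForm (k + 1) F x v1 := by
    conv_rhs => rw [← form_map (emb g) x v1, emb_v1]
  have e2 : sympForm (k + 1) F (emb g • x) (incl (rot F k • (h • v))) =
      sympForm (k + 1) F x (incl (rot F k • v)) := by
    conv_rhs => rw [← form_map (emb g) x, emb_incl, hz]
  rw [SpWeilOdd50.smul_add', SpWeilOdd50.smul_add', SymplecticSimple.scalar_smul,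
    SymplecticSimple.scalar_smul, emb_v1, emb_incl, hz, e1, e2]

/-- The elements in the centre of the Heisenberg group. -/
def zel (γ : F) : symplecticGroup (Fin (k + 1)) F := siegel (symOf γ e0)

theorem zel_smul (γ : F) (x : Fin (k + 1) ⊕ Fin (k + 1) → F) :
    zel (k := k) γ • x = x + (γ * x (Sum.inr 0)) • (v1 : Fin (k + 1) ⊕ Fin (k + 1) → F) := by
  rw [zel, siegel_smul]
  show Sum.elim (x ∘ Sum.inl + (γ • vecMulVec e0 e0) *ᵥ (x ∘ Sum.inr)) (x ∘ Sum.inr) = _
  rw [Matrix.smul_mulVec, Matrix.vecMulVec_mulVec, op_smul_eq_smul]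
  funext i
  rcases i with i | i <;> refine Fin.cases ?_ ?_ i <;> simp [e0, v1, Fin.succ_ne_zero]

theorem zel_eq_transv (γ : F) : zel (k := k) γ = transv (v1 : Fin (k + 1) ⊕ Fin (k + 1) → F) γ :=
  ext_smul fun x => by rw [zel_smul, transv_smul, form_v1]

theorem commute_zel {g : symplecticGroup (Fin (k + 1)) F} (hg : g • (v1 : Fin (k + 1) ⊕ Fin (k + 1) → F) = v1) (γ : F) :
    g * zel γ = zel γ * g := by
  rw [zel_eq_transv, ← mul_inv_eq_iff_eq_mul, transv_conj, hg]

theorem exists_jacobi (h2 : (2 : F) ≠ 0) {g : symplecticGroup (Fin (k + 1)) F} (hg : g • (v1 : Fin (k + 1) ⊕ Fin (k + 1) → F) = v1) :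
    ∃ (v : Fin k ⊕ Fin k → F) (γ : F) (h : symplecticGroup (Fin k) F),
      g = qv v * zel γ * embT h := by
  set u := g • (w1 : Fin (k + 1) ⊕ Fin (k + 1) → F) with hu
  have h1 : u (Sum.inr 0) = 1 := by
    have e := form_map g w1 v1
    rw [hg, form_v1, form_v1] at e
    rw [hu, e]; simp [w1]
  set v := (rot F k)⁻¹ • rest u with hv
  set γ := u (Sum.inl 0) with hγ
  have hq : qv v • (v1 : Fin (k + 1) ⊕ Fin (k + 1) → F) = v1 := by
    rw [qv_smul h2, form_v1, form_incl]
    have : rest (v1 : Fin (k + 1) ⊕ Fin (k + 1) → F) = 0 := by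
      funext i; rcases i with i | i <;> simp [rest, v1, Fin.succ_ne_zero]
    rw [this, form_zero_left]; simp [v1]
  have hz : zel (k := k) γ • (v1 : Fin (k + 1) ⊕ Fin (k + 1) → F) = v1 := by
    rw [zel_smul]; simp [v1]
  have hw : (qv v * zel γ) • (w1 : Fin (k + 1) ⊕ Fin (k + 1) → F) = u := by
    rw [mul_smul, zel_smul, SpWeilOdd50.smul_add', SymplecticSimple.scalar_smul, hq, qv_smul h2,
      form_v1, form_incl, hv, smul_inv_smul]
    have : rest (w1 : Fin (k + 1) ⊕ Fin (k + 1) → F) = 0 := by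
      funext i; rcases i with i | i <;> simp [rest, w1, Fin.succ_ne_zero]
    rw [this, form_zero_left, zero_smul, add_zero]
    conv_rhs => rw [decomp u, h1, ← hγ]
    simp [w1]
    abel
  obtain ⟨h, hh⟩ := exists_emb (g := (qv v * zel γ)⁻¹ * g)
    (by rw [mul_smul, hg, inv_smul_eq_iff, mul_smul, hz, hq])
    (by rw [mul_smul, ← hu, inv_smul_eq_iff, hw])
  refine ⟨v, γ, (rot F k)⁻¹ * h * rot F k, ?_⟩
  rw [embT_apply]
  simp only [mul_assoc, mul_inv_cancel, mul_one]
  rw [← mul_assoc (rot F k), mul_inv_cancel, one_mul, hh, ← mul_assoc, ← mul_assoc, mul_inv_cancel,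
    one_mul]

end Cfsg.Agent.SpGap32Elements
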