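import Mathlib
import Cfsg.Agent.Lib.SpGap32Elements

/-!
In a representation with only characters of rank at most one on the Siegel group, the stabiliser of a
vector acts on the corresponding eigenspaces through the Schrödinger model, in a way not depending
on the representation.
-/

set_option autoImplicit false

open Matrix Cfsg

namespace Cfsg.Agent.SpGap32Model

open Cfsg.Agent.SymplecticBasic Cfsg.Agent.SpOddMinDegree50 Cfsg.Agent.SpGap32Spec
  Cfsg.Agent.SpGap32Elements Cfsg.Agent.SpWeilOdd50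

variable {F : Type*} [Field F] [Fintype F] {k : ℕ}

/-- The central involution. -/
def negOne : symplecticGroup (Fin (k + 1)) F := lv (-1)

/-- The representations under comparison. -/
structure Cls (ψ : AddChar F ℂ) (ε : ℂ) {V : Type*} [AddCommGroup V] [Module ℂ V]
    (σ : symplecticGroup (Fin (k + 1)) F →* Module.End ℂ V) : Prop where
  low : LowRank ψ σ
  neg : σ negOne = ε • 1

section

variable {V : Type*} [AddCommGroup V] [Module ℂ V] {ψ : AddChar F ℂ} {t c : F}
  (σ : symplecticGroup (Fin (k + 1)) F →* Module.End ℂ V)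

/-- The eigenprojection at `c w wᵀ`. -/
noncomputable def proj (ψ : AddChar F ℂ) (c : F)
    (σ : symplecticGroup (Fin (k + 1)) F →* Module.End ℂ V) (w : Fin (k + 1) → F) :
    Module.End ℂ V :=
  pr ψ σ (symOf c w)

theorem lv_mul_proj (M : GL (Fin (k + 1)) F) (w : Fin (k + 1) → F) :
    σ (lv M) * proj ψ c σ w = proj ψ c σ (M.1 *ᵥ w) * σ (lv M) := by
  refine levi_mul_pr (ψ := ψ) σ ((M⁻¹ : GL (Fin (k + 1)) F).1)ᵀ M.1ᵀ
    (by rw [← Matrix.transpose_mul, ← Units.val_mul, mul_inv_cancel, Units.val_one,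
      Matrix.transpose_one]) _ _ ?_
  show c • vecMulVec w w =
    ((M⁻¹ : GL (Fin (k + 1)) F).1ᵀ)ᵀ * (c • vecMulVec (M.1 *ᵥ w) (M.1 *ᵥ w)) *
      (M⁻¹ : GL (Fin (k + 1)) F).1ᵀ
  rw [Matrix.transpose_transpose, Matrix.mul_smul, Matrix.smul_mul, Matrix.mul_vecMulVec,
    Matrix.vecMulVec_mul, Matrix.vecMul_transpose]
  simp [Matrix.mulVec_mulVec, ← Units.val_mul]

theorem rho_cancel {G : Type*} [Group G] (ρ : G →* Module.End ℂ V) (g : G)
    (X : Module.End ℂ V) : ρ g * (ρ g⁻¹ * X) = X := by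
  rw [← mul_assoc, ← map_mul, mul_inv_cancel, map_one, one_mul]

/-- Translation by `x` of the base eigenspace. -/
noncomputable def shE (σ : symplecticGroup (Fin (k + 1)) F →* Module.End ℂ V) (x : Fin k → F) :
    Module.End ℂ V :=
  σ (lv (shear x))

theorem shE_mul (x y : Fin k → F) : shE σ x * shE σ y = shE σ (x + y) := by
  rw [shE, shE, shE, ← map_mul, ← map_mul, shear_mul]

theorem shE_zero : shE σ (0 : Fin k → F) = 1 := by rw [shE, shear_zero, map_one, map_one]

theorem shE_proj (x : Fin k → F) :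
    shE σ x * proj ψ c σ e0 = proj ψ c σ (Fin.cons 1 x) * shE σ x := by
  rw [shE, lv_mul_proj, show (shear x).1 = shearM x from rfl, shearM_e0]

theorem proj_shift (x : Fin k → F) :
    proj ψ c σ (Fin.cons 1 x) = shE σ x * proj ψ c σ e0 * shE σ (-x) := by
  rw [shE_proj, mul_assoc, shE_mul, add_neg_cancel, shE_zero, mul_one]

theorem symOf_cons_injective (hc : c ≠ 0) :
    Function.Injective fun x : Fin k → F => symOf c (Fin.cons (1 : F) x : Fin (k + 1) → F) := by
  intro x y h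
  funext i
  have h' := congrFun (congrFun (congrArg Subtype.val h) 0) i.succ
  simpa [symOf, vecMulVec_apply, hc] using h'

theorem proj_mul_proj (h2 : (2 : F) ≠ 0) (hψ : ψ t ≠ 1) (hc : c ≠ 0) (x y : Fin k → F)
    [Decidable (x = y)] :
    proj ψ c σ (Fin.cons 1 x) * proj ψ c σ (Fin.cons 1 y) =
      if x = y then proj ψ c σ (Fin.cons 1 x) else 0 := by
  split_ifs with h
  · subst h; exact pr_sq σ _
  · exact pr_mul_pr σ h2 hψ fun e => h (symOf_cons_injective hc e)

theorem e0_eq_cons : (e0 : Fin (k + 1) → F) = Fin.cons 1 0 := by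
  funext i
  refine Fin.cases ?_ ?_ i <;> simp [e0, Fin.succ_ne_zero]

theorem proj_e0_sq : proj ψ c σ e0 * proj ψ c σ e0 = proj ψ c σ e0 := pr_sq σ _

theorem coord_shE (h2 : (2 : F) ≠ 0) (hψ : ψ t ≠ 1) (hc : c ≠ 0) (x y : Fin k → F)
    [Decidable (x = y)] :
    proj ψ c σ e0 * shE σ (-x) * (shE σ y * proj ψ c σ e0) =
      if x = y then proj ψ c σ e0 else 0 := by
  classical
  have h := proj_mul_proj σ h2 hψ hc (0 : Fin k → F) (-x + y)
  rw [← e0_eq_cons] at h
  calc proj ψ c σ e0 * shE σ (-x) * (shE σ y * proj ψ c σ e0)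
      = proj ψ c σ e0 * (shE σ (-x + y) * proj ψ c σ e0) := by
        rw [mul_assoc, ← mul_assoc (shE σ (-x)), shE_mul]
    _ = proj ψ c σ e0 * proj ψ c σ (Fin.cons 1 (-x + y)) * shE σ (-x + y) := by
        rw [shE_proj, mul_assoc]
    _ = _ := by
        rw [h]
        by_cases hxy : x = y
        · subst hxy
          rw [neg_add_cancel, if_pos rfl, if_pos rfl, shE_zero, mul_one]
        · rw [if_neg hxy, if_neg, zero_mul]
          intro e
          exact hxy (neg_add_eq_zero.mp e.symm)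

/-- The projection onto the eigenspace of the centre of the Heisenberg group. -/
theorem pr_corner (hψ : ψ t ≠ 1) (h2 : (2 : F) ≠ 0) (hc : c ≠ 0)
    (hlow : LowRank ψ σ) {S : symM F (k + 1)} (hS : pr ψ σ S ≠ 0) (h00 : S.1 0 0 = c) :
    ∃ x : Fin k → F, S = symOf c (Fin.cons 1 x) := by
  obtain ⟨a, w, hw⟩ := hlow S hS
  have h0 : a * (w 0 * w 0) = c := by
    rw [← h00, hw]; simp [vecMulVec_apply]
  have hw0 : w 0 ≠ 0 := fun e => hc (by rw [← h0, e]; ring)
  refine ⟨fun i => w i.succ / w 0, Subtype.ext (Matrix.ext fun i j => ?_)⟩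
  have hcons : ∀ l, (Fin.cons 1 (fun i => w (Fin.succ i) / w 0) : Fin (k + 1) → F) l = w l / w 0 := by
    intro l
    refine Fin.cases ?_ ?_ l <;> simp [hw0]
  show S.1 i j = c * (_ * _)
  rw [hw, hcons, hcons]
  show a * (w i * w j) = _
  rw [← h0]
  field_simp

theorem zel_mul_pr (γ : F) (S : symM F (k + 1)) :
    σ (zel γ) * pr ψ σ S = ψ (γ * S.1 0 0) • pr ψ σ S := by
  rw [zel, siegel_mul_pr]
  congr 2
  show Matrix.trace (S.1 * (γ • vecMulVec e0 e0)) = _
  rw [Matrix.mul_smul, Matrix.trace_smul, Matrix.mul_vecMulVec, Matrix.trace_vecMulVec, smul_eq_mul]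
  simp [e0]

theorem pr_mul_zel (γ : F) (S : symM F (k + 1)) :
    pr ψ σ S * σ (zel γ) = ψ (γ * S.1 0 0) • pr ψ σ S := by
  rw [zel, pr_mul_siegel]
  congr 2
  show Matrix.trace (S.1 * (γ • vecMulVec e0 e0)) = _
  rw [Matrix.mul_smul, Matrix.trace_smul, Matrix.mul_vecMulVec, Matrix.trace_vecMulVec, smul_eq_mul]
  simp [e0]

theorem eq_of_char_eq (hψ : ψ t ≠ 1) {a b : F} (h : ∀ γ, ψ (γ * a) = ψ (γ * b)) : a = b := by
  by_contra hne
  apply hψ
  have h1 := h (t / (a - b))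
  have e : t / (a - b) * a = t + t / (a - b) * b := by
    field_simp [sub_ne_zero.mpr hne]
    ring
  rw [e, AddChar.map_add_eq_mul] at h1
  exact (mul_left_eq_self₀.mp h1).resolve_right fun h0 => by
    have := ψ.map_add_eq_mul (t / (a - b) * b) (-(t / (a - b) * b))
    rw [add_neg_cancel, AddChar.map_zero_eq_one, h0, zero_mul] at this
    exact one_ne_zero this

theorem proj_zel (γ : F) : σ (zel γ) * proj ψ c σ e0 = ψ (γ * c) • proj ψ c σ e0 := by
  rw [proj, zel_mul_pr]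
  congr 2
  simp [symOf, e0, vecMulVec_apply]

theorem proj_zel' (γ : F) : proj ψ c σ e0 * σ (zel γ) = ψ (γ * c) • proj ψ c σ e0 := by
  rw [proj, pr_mul_zel]
  congr 2
  simp [symOf, e0, vecMulVec_apply]

theorem sum_right (h2 : (2 : F) ≠ 0) (hψ : ψ t ≠ 1) (hc : c ≠ 0) (hlow : LowRank ψ σ)
    (g : symplecticGroup (Fin (k + 1)) F) (hg : g • (v1 : Fin (k + 1) ⊕ Fin (k + 1) → F) = v1) :
    σ g * proj ψ c σ e0 =
      ∑ x, shE σ x * proj ψ c σ e0 * (proj ψ c σ e0 * shE σ (-x) * (σ g * proj ψ c σ e0)) := by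
  classical
  conv_lhs => rw [← one_mul (σ g * proj ψ c σ e0), ← sum_pr σ h2 hψ, Finset.sum_mul]
  rw [← Finset.sum_subset (Finset.subset_univ (Finset.univ.image fun x : Fin k → F =>
    symOf c (Fin.cons (1 : F) x : Fin (k + 1) → F))) ?_]
  · rw [Finset.sum_image fun x _ y _ h => symOf_cons_injective hc h]
    refine Finset.sum_congr rfl fun x _ => ?_
    show proj ψ c σ (Fin.cons 1 x) * _ = _
    rw [proj_shift]
    simp only [← mul_assoc]
    rw [mul_assoc (shE σ x) (proj ψ c σ e0) (proj ψ c σ e0), proj_e0_sq]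
  · intro S _ hS
    by_contra hne
    have hS0 : pr ψ σ S ≠ 0 := fun e => hne (by rw [e, zero_mul])
    refine hS ?_
    have key : ∀ γ, ψ (γ * S.1 0 0) = ψ (γ * c) := by
      intro γ
      have e : (pr ψ σ S * σ (zel γ)) * (σ g * proj ψ c σ e0) =
          pr ψ σ S * (σ g * (σ (zel γ) * proj ψ c σ e0)) := by
        simp only [← mul_assoc]
        rw [mul_assoc (pr ψ σ S) (σ g) (σ (zel γ)), ← map_mul, commute_zel hg, map_mul]
        simp only [← mul_assoc]
      rw [pr_mul_zel, proj_zel, smul_mul_assoc, mul_smul_comm, mul_smul_comm] at e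
      exact smul_left_injective ℂ hne e
    obtain ⟨x, hx⟩ := pr_corner σ hψ h2 hc hlow hS0 (eq_of_char_eq hψ key)
    exact Finset.mem_image.mpr ⟨x, Finset.mem_univ _, hx.symm⟩

theorem sum_left (h2 : (2 : F) ≠ 0) (hψ : ψ t ≠ 1) (hc : c ≠ 0) (hlow : LowRank ψ σ)
    (g : symplecticGroup (Fin (k + 1)) F) (hg : g • (v1 : Fin (k + 1) ⊕ Fin (k + 1) → F) = v1) :
    proj ψ c σ e0 * σ g =
      ∑ x, (proj ψ c σ e0 * σ g * (shE σ x * proj ψ c σ e0)) * (proj ψ c σ e0 * shE σ (-x)) := by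
  classical
  conv_lhs => rw [← mul_one (proj ψ c σ e0 * σ g), ← sum_pr σ h2 hψ, Finset.mul_sum]
  rw [← Finset.sum_subset (Finset.subset_univ (Finset.univ.image fun x : Fin k → F =>
    symOf c (Fin.cons (1 : F) x : Fin (k + 1) → F))) ?_]
  · rw [Finset.sum_image fun x _ y _ h => symOf_cons_injective hc h]
    refine Finset.sum_congr rfl fun x _ => ?_
    show _ * proj ψ c σ (Fin.cons 1 x) = _
    rw [proj_shift]
    simp only [← mul_assoc]
    rw [mul_assoc _ (proj ψ c σ e0) (proj ψ c σ e0), proj_e0_sq]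
  · intro S _ hS
    by_contra hne
    have hS0 : pr ψ σ S ≠ 0 := fun e => hne (by rw [e, mul_zero])
    refine hS ?_
    have key : ∀ γ, ψ (γ * S.1 0 0) = ψ (γ * c) := by
      intro γ
      have e : proj ψ c σ e0 * σ g * (σ (zel γ) * pr ψ σ S) =
          proj ψ c σ e0 * σ (zel γ) * σ g * pr ψ σ S := by
        rw [← mul_assoc, mul_assoc (proj ψ c σ e0) (σ g), ← map_mul, commute_zel hg, map_mul]
        simp only [mul_assoc]
      rw [zel_mul_pr, proj_zel', mul_smul_comm, smul_mul_assoc, smul_mul_assoc] at e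
      exact smul_left_injective ℂ hne e
    obtain ⟨x, hx⟩ := pr_corner σ hψ h2 hc hlow hS0 (eq_of_char_eq hψ key)
    exact Finset.mem_image.mpr ⟨x, Finset.mem_univ _, hx.symm⟩

/-- The map from the Schrödinger model. -/
noncomputable def Θ (ψ : AddChar F ℂ) (c : F)
    (σ : symplecticGroup (Fin (k + 1)) F →* Module.End ℂ V) (f : (Fin k → F) → ℂ) :
    Module.End ℂ V :=
  ∑ x, f x • (shE σ x * proj ψ c σ e0)

theorem coord_Θ (h2 : (2 : F) ≠ 0) (hψ : ψ t ≠ 1) (hc : c ≠ 0) (f : (Fin k → F) → ℂ)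
    (x : Fin k → F) :
    proj ψ c σ e0 * shE σ (-x) * Θ ψ c σ f = f x • proj ψ c σ e0 := by
  classical
  simp only [Θ, Finset.mul_sum, mul_smul_comm, coord_shE σ h2 hψ hc, smul_ite, smul_zero,
    Finset.sum_ite_eq, Finset.mem_univ, if_true]

theorem Θ_smul (a : ℂ) (f : (Fin k → F) → ℂ) : Θ ψ c σ (a • f) = a • Θ ψ c σ f := by
  simp [Θ, Finset.smul_sum, smul_smul]

theorem Θ_mul_proj (f : (Fin k → F) → ℂ) : Θ ψ c σ f * proj ψ c σ e0 = Θ ψ c σ f := by
  simp only [Θ, Finset.sum_mul, smul_mul_assoc, mul_assoc, proj_e0_sq]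

theorem Θ_single [DecidableEq (Fin k → F)] (x : Fin k → F) :
    Θ ψ c σ (Pi.single x 1) = shE σ x * proj ψ c σ e0 := by
  simp [Θ, Pi.single_apply]

theorem trace_rowM (h2 : (2 : F) ≠ 0) (γ : F) (b x : Fin k → F) :
    Matrix.trace ((symOf c (Fin.cons (1 : F) x : Fin (k + 1) → F)).1 * (rowM γ b).1) =
      c * (γ + 2 * (b ⬝ᵥ x)) := by
  rw [trace_symOf, rowM_mulVec, cons_dot, dotProduct_add, dotProduct_smul, dotProduct_smul,
    cons_dot, e0_eq_cons, cons_dot]
  simp only [smul_eq_mul, dotProduct_zero, mul_one, one_mul, add_zero, Fin.cons_zero,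
    dotProduct_comm x b]
  field_simp
  ring

theorem qv_Θ (h2 : (2 : F) ≠ 0) (v : Fin k ⊕ Fin k → F) (f : (Fin k → F) → ℂ) :
    σ (qv v) * Θ ψ c σ f = Θ ψ c σ (op (ψ.mulShift (2 * c)) v f) := by
  simp only [Θ, Finset.mul_sum, mul_smul_comm]
  refine Fintype.sum_equiv (Equiv.subRight (v ∘ Sum.inl)) _ _ fun x => ?_
  have e : σ (qv v) * (shE σ x * proj ψ c σ e0) =
      ψ (c * (-((v ∘ Sum.inl) ⬝ᵥ (v ∘ Sum.inr)) + 2 * ((v ∘ Sum.inr) ⬝ᵥ x))) •
        (shE σ (x - v ∘ Sum.inl) * proj ψ c σ e0) := by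
    rw [shE_proj, qv, map_mul, mul_assoc, ← mul_assoc (σ (siegel _)),
      proj, siegel_mul_pr, trace_rowM h2, smul_mul_assoc, mul_smul_comm]
    congr 1
    rw [← proj, ← shE_proj, ← mul_assoc, show σ (lv (shear (-(v ∘ Sum.inl)))) = shE σ (-(v ∘ Sum.inl))
      from rfl, shE_mul, ← sub_eq_neg_add]
  rw [e, smul_smul, Equiv.subRight_apply, op_apply, sub_add_cancel, AddChar.mulShift_apply,
    mul_comm (f x)]
  congr 3
  rw [dotProduct_sub, dotProduct_comm (v ∘ Sum.inr) (v ∘ Sum.inl)]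
  field_simp
  ring

theorem zel_Θ (γ : F) (f : (Fin k → F) → ℂ) :
    σ (zel γ) * Θ ψ c σ f = ψ (γ * c) • Θ ψ c σ f := by
  simp only [Θ, Finset.mul_sum, Finset.smul_sum, mul_smul_comm]
  refine Finset.sum_congr rfl fun x _ => ?_
  have hfix : lv (shear x) • (v1 : Fin (k + 1) ⊕ Fin (k + 1) → F) = v1 := by
    rw [lv_smul, show ((shear x)⁻¹ : GL (Fin (k + 1)) F).1 = shearM (-x) from rfl,
      shearM_transpose_mulVec]
    funext i
    rcases i with i | i <;> refine Fin.cases ?_ ?_ i <;>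
      simp [v1, e0, Fin.succ_ne_zero, dotProduct, Fin.sum_univ_succ, Matrix.mulVec]
  rw [← mul_assoc, shE, ← map_mul, ← commute_zel hfix, map_mul, mul_assoc, proj_zel, mul_smul_comm,
    smul_smul, smul_smul, mul_comm]

end

/-- An element acts on the model in a way not depending on the representation. -/
def Model.{u} {F : Type u} [Field F] [Fintype F] {k : ℕ} (ψ : AddChar F ℂ) (c : F) (ε : ℂ)
    (g : symplecticGroup (Fin (k + 1)) F) : Prop :=
  ∃ K : Module.End ℂ ((Fin k → F) → ℂ), ∀ (d : ℕ)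
    (σ : symplecticGroup (Fin (k + 1)) F →* Module.End ℂ (Fin d → ℂ)), Cls ψ ε σ →
      ∀ f, σ g * Θ ψ c σ f = Θ ψ c σ (K f)

variable {ψ : AddChar F ℂ} {t c : F} {ε : ℂ}

theorem Model.mul {g h : symplecticGroup (Fin (k + 1)) F} (hg : Model ψ c ε g)
    (hh : Model ψ c ε h) : Model ψ c ε (g * h) := by
  obtain ⟨K, hK⟩ := hg
  obtain ⟨L, hL⟩ := hh
  exact ⟨K * L, fun d σ hσ f => by rw [map_mul, mul_assoc, hL d σ hσ, hK d σ hσ]; rfl⟩

theorem model_qv (h2 : (2 : F) ≠ 0) (v : Fin k ⊕ Fin k → F) : Model ψ c ε (qv v) :=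
  ⟨op (ψ.mulShift (2 * c)) v, fun _ σ _ f => qv_Θ σ h2 v f⟩

theorem model_zel (γ : F) : Model (k := k) ψ c ε (zel γ) :=
  ⟨ψ (γ * c) • 1, fun _ σ _ f => by
    rw [zel_Θ, ← Θ_smul]; rfl⟩

theorem model_negOne : Model (k := k) ψ c ε negOne :=
  ⟨ε • 1, fun _ σ hσ f => by rw [hσ.neg, smul_mul_assoc, one_mul, ← Θ_smul]; rfl⟩

theorem shift_ne (h2 : (2 : F) ≠ 0) (hψ : ψ t ≠ 1) (hc : c ≠ 0) :
    ψ.mulShift (2 * c) (t / (2 * c)) ≠ 1 := by
  rwa [AddChar.mulShift_apply, mul_div_cancel₀ _ (mul_ne_zero h2 hc)]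

/-- The embedded symplectic group acts through an intertwiner times an operator. -/
theorem embT_tensor (h2 : (2 : F) ≠ 0) (hψ : ψ t ≠ 1) (hc : c ≠ 0) {d : ℕ}
    (σ : symplecticGroup (Fin (k + 1)) F →* Module.End ℂ (Fin d → ℂ)) (hσ : LowRank ψ σ)
    (h : symplecticGroup (Fin k) F) {T : Module.End ℂ ((Fin k → F) → ℂ)} (hu : IsUnit T)
    (hT : Intw (ψ.mulShift (2 * c)) h T) :
    ∃ τ : Module.End ℂ (Fin d → ℂ), proj ψ c σ e0 * τ = τ ∧
      ∀ f, σ (embT h) * Θ ψ c σ f = Θ ψ c σ (T f) * τ := by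
  classical
  have hψ' := shift_ne h2 hψ hc
  have hfix : embT h • (v1 : Fin (k + 1) ⊕ Fin (k + 1) → F) = v1 := emb_v1 _
  set C : (Fin k → F) → Module.End ℂ (Fin d → ℂ) → Module.End ℂ (Fin d → ℂ) := fun x X =>
    proj ψ c σ e0 * shE σ (-x) * X with hC
  have hcov : ∀ f v x, C x (σ (embT h) * Θ ψ c σ (op (ψ.mulShift (2 * c)) v f)) =
      (ψ.mulShift (2 * c)) (((h • v) ∘ Sum.inr) ⬝ᵥ x +
          2⁻¹ * (((h • v) ∘ Sum.inl) ⬝ᵥ ((h • v) ∘ Sum.inr))) •
        C (x + (h • v) ∘ Sum.inl) (σ (embT h) * Θ ψ c σ f) := by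
    intro f v x
    rw [← qv_Θ σ h2, ← mul_assoc, ← map_mul, embT_qv h2, map_mul, mul_assoc]
    have hP : σ (embT h) * Θ ψ c σ f =
        Θ ψ c σ (fun _ => 0) + ∑ y, shE σ y * proj ψ c σ e0 * C y (σ (embT h) * Θ ψ c σ f) := by
      have h0 : Θ ψ c σ (fun _ => (0 : ℂ)) = 0 := by simp [Θ]
      rw [h0, zero_add]
      have hrs : ∀ g : symplecticGroup (Fin (k + 1)) F,
          g • (v1 : Fin (k + 1) ⊕ Fin (k + 1) → F) = v1 → ∀ Y,
          σ g * proj ψ c σ e0 * Y = ∑ y, shE σ y * proj ψ c σ e0 * C y (σ g * proj ψ c σ e0 * Y) := by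
        intro g hg Y
        conv_lhs => rw [sum_right σ h2 hψ hc hσ g hg, Finset.sum_mul]
        simp only [hC, mul_assoc]
      have hfix' : ∀ z : Fin k → F, (embT h * lv (shear z)) •
          (v1 : Fin (k + 1) ⊕ Fin (k + 1) → F) = v1 := by
        intro z
        rw [mul_smul, lv_smul, show ((shear z)⁻¹ : GL (Fin (k + 1)) F).1 = shearM (-z) from rfl,
          shearM_transpose_mulVec]
        conv_rhs => rw [← hfix]
        congr 1
        funext i
        rcases i with i | i <;> refine Fin.cases ?_ ?_ i <;>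
          simp [v1, e0, Fin.succ_ne_zero, dotProduct, Fin.sum_univ_succ, Matrix.mulVec]
      simp only [Θ, Finset.mul_sum, mul_smul_comm, hC]
      rw [Finset.sum_comm]
      refine Finset.sum_congr rfl fun z _ => ?_
      rw [← Finset.smul_sum]
      congr 1
      have := hrs _ (hfix' z) 1
      simp only [mul_one, map_mul, hC, mul_assoc] at this
      simp only [mul_assoc]
      exact this
    conv_lhs => rw [hP, mul_add, Finset.mul_sum]
    have h0 : Θ ψ c σ (fun _ => (0 : ℂ)) = 0 := by simp [Θ]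
    rw [h0, mul_zero, zero_add]
    have hterm : ∀ y, σ (qv (h • v)) * (shE σ y * proj ψ c σ e0 * C y (σ (embT h) * Θ ψ c σ f)) =
        Θ ψ c σ (op (ψ.mulShift (2 * c)) (h • v) (Pi.single y 1)) *
          C y (σ (embT h) * Θ ψ c σ f) := by
      intro y
      rw [← mul_assoc, ← Θ_single, qv_Θ σ h2]
    rw [Finset.sum_congr rfl fun y _ => hterm y]
    simp only [hC, Finset.mul_sum]
    simp only [← mul_assoc, coord_Θ σ h2 hψ hc]
    rw [Fintype.sum_eq_single (x + (h • v) ∘ Sum.inl)]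
    · simp only [op_apply, Pi.single_eq_same, mul_one, smul_mul_assoc, ← mul_assoc, proj_e0_sq]
    · intro y hy
      simp only [op_apply, Pi.single_eq_of_ne (Ne.symm hy), mul_zero, zero_smul, zero_mul]
  have hlam : ∀ lam : Module.End ℂ (Fin d → ℂ) →ₗ[ℂ] ℂ, ∃ a : ℂ, ∀ f x,
      lam (C x (σ (embT h) * Θ ψ c σ f)) = a * T f x := by
    intro lam
    let S : Module.End ℂ ((Fin k → F) → ℂ) :=
      { toFun := fun f x => lam (C x (σ (embT h) * Θ ψ c σ f))
        map_add' := fun f g => funext fun x => by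
          show lam (C x (σ (embT h) * Θ ψ c σ (f + g))) = _ + _
          rw [← map_add]
          simp [hC, Θ, add_smul, Finset.sum_add_distrib, mul_add]
        map_smul' := fun a f => funext fun x => by
          show lam (C x (σ (embT h) * Θ ψ c σ (a • f))) = a • _
          rw [Θ_smul, hC]
          simp [map_smul] }
    have hS : Intw (ψ.mulShift (2 * c)) h S := fun v => LinearMap.ext fun f => funext fun x => by
      show lam (C x (σ (embT h) * Θ ψ c σ (op _ v f))) = op _ (h • v) (S f) x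
      rw [hcov, map_smul, op_apply]
      rfl
    obtain ⟨a, ha⟩ := hT.eq_smul h2 hψ' hu hS
    exact ⟨a, fun f x => congrFun (LinearMap.congr_fun ha f) x⟩
  obtain ⟨f₀, x₀, hne⟩ : ∃ f x, T f x ≠ 0 := by
    by_contra hc'
    push Not at hc'
    exact hu.ne_zero (LinearMap.ext fun f => funext fun x => hc' f x)
  have hCe : ∀ x X, proj ψ c σ e0 * C x X = C x X := fun x X => by
    simp only [hC, ← mul_assoc, proj_e0_sq]
  refine ⟨(T f₀ x₀)⁻¹ • C x₀ (σ (embT h) * Θ ψ c σ f₀), by rw [mul_smul_comm, hCe], fun f => ?_⟩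
  have hval : ∀ x, C x (σ (embT h) * Θ ψ c σ f) =
      T f x • ((T f₀ x₀)⁻¹ • C x₀ (σ (embT h) * Θ ψ c σ f₀)) := by
    intro x
    rw [← sub_eq_zero]
    refine (Module.forall_dual_apply_eq_zero_iff ℂ _).mp fun lam => ?_
    obtain ⟨a, ha⟩ := hlam lam
    rw [map_sub, map_smul, map_smul, ha, ha, smul_eq_mul, smul_eq_mul]
    field_simp
    ring
  have hfix' : ∀ z : Fin k → F, (embT h * lv (shear z)) •
      (v1 : Fin (k + 1) ⊕ Fin (k + 1) → F) = v1 := by
    intro z
    rw [mul_smul, lv_smul, show ((shear z)⁻¹ : GL (Fin (k + 1)) F).1 = shearM (-z) from rfl,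
      shearM_transpose_mulVec]
    conv_rhs => rw [← hfix]
    congr 1
    funext i
    rcases i with i | i <;> refine Fin.cases ?_ ?_ i <;>
      simp [v1, e0, Fin.succ_ne_zero, dotProduct, Fin.sum_univ_succ, Matrix.mulVec]
  have hexp : σ (embT h) * Θ ψ c σ f =
      ∑ x, shE σ x * proj ψ c σ e0 * C x (σ (embT h) * Θ ψ c σ f) := by
    simp only [Θ, Finset.mul_sum, mul_smul_comm, hC]
    rw [Finset.sum_comm]
    refine Finset.sum_congr rfl fun z _ => ?_
    rw [← Finset.smul_sum]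
    congr 1
    have := sum_right σ h2 hψ hc hσ _ (hfix' z)
    simp only [map_mul, mul_assoc] at this
    simp only [mul_assoc]
    exact this
  rw [hexp]
  simp only [hval]
  simp only [mul_smul_comm, Θ, Finset.sum_mul, smul_mul_assoc]
  rw [Finset.smul_sum]
  exact Finset.sum_congr rfl fun x _ => smul_comm _ _ _

theorem model_embT (hk : 1 ≤ k) (h2 : (2 : F) ≠ 0) (hψ : ψ t ≠ 1) (hc : c ≠ 0)
    (h : symplecticGroup (Fin k) F) : Model ψ c ε (embT h) := by
  classical
  have hψ' := shift_ne h2 hψ hc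
  let G : Subgroup (symplecticGroup (Fin k) F) :=
    { carrier := {h | Model (k := k) ψ c ε (embT h) ∧ Model (k := k) ψ c ε (embT h⁻¹)}
      mul_mem' := fun {a b} ha hb => ⟨by rw [map_mul]; exact ha.1.mul hb.1,
        by rw [_root_.mul_inv_rev, map_mul]; exact hb.2.mul ha.2⟩
      one_mem' := by
        constructor <;> exact ⟨1, fun d σ _ f => by
          simp only [inv_one, map_one, one_mul, Module.End.one_apply]⟩
      inv_mem' := fun {a} ha => ⟨ha.2, by rw [inv_inv]; exact ha.1⟩ }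
  have hconj : ∀ g u, Model (k := k) ψ c ε (embT u) → Model (k := k) ψ c ε (embT (g * u * g⁻¹)) := by
    intro g u ⟨K, hK⟩
    obtain ⟨T, hTu, hT⟩ := exists_intw h2 hψ' g
    obtain ⟨T', hTu', hT'⟩ := exists_intw h2 hψ' g⁻¹
    obtain ⟨z, hz⟩ := (show Intw (ψ.mulShift (2 * c)) 1 (T * T') by
      simpa using hT.mul hT') |> (intw_one (ψ.mulShift (2 * c))).eq_smul h2 hψ' isUnit_one
    have hz0 : z ≠ 0 := fun e => (hTu.mul hTu').ne_zero (by rw [hz, e, zero_smul])
    refine ⟨z⁻¹ • (T * K * T'), fun d σ hσ f => ?_⟩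
    obtain ⟨τ, hτe, hτ⟩ := embT_tensor h2 hψ hc σ hσ.low g hTu hT
    obtain ⟨τ', hτe', hτ'⟩ := embT_tensor h2 hψ hc σ hσ.low g⁻¹ hTu' hT'
    have hE : z • (τ * τ') = proj ψ c σ e0 := by
      have e1 := hτ' (Pi.single 0 1)
      have e2 : σ (embT g) * (σ (embT g⁻¹) * Θ ψ c σ (Pi.single 0 1)) =
          Θ ψ c σ (Pi.single 0 1) := by rw [map_inv]; exact rho_cancel σ _ _
      rw [e1, ← mul_assoc, hτ] at e2
      have e3 := congrArg (fun X => proj ψ c σ e0 * shE σ (-(0 : Fin k → F)) * X) e2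
      simp only [← mul_assoc, coord_Θ σ h2 hψ hc] at e3
      rw [show T (T' (Pi.single 0 1)) = (T * T') (Pi.single 0 1) from rfl, hz] at e3
      simp only [LinearMap.smul_apply, Module.End.one_apply, Pi.smul_apply, Pi.single_eq_same,
        smul_eq_mul, mul_one, one_smul, smul_mul_assoc, hτe] at e3
      exact e3
    rw [map_mul, map_mul, map_mul, map_mul, mul_assoc, hτ', ← mul_assoc, mul_assoc (σ (embT g)),
      hK d σ hσ, hτ, mul_assoc, LinearMap.smul_apply, Θ_smul,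
      show τ * τ' = z⁻¹ • proj ψ c σ e0 by rw [← hE, smul_smul, inv_mul_cancel₀ hz0, one_smul],
      mul_smul_comm, Θ_mul_proj]
    rfl
  have hgen : ∀ (j : Fin k) (s : F), Model (k := k) ψ c ε
      (embT (transv (Pi.single (Sum.inr j) 1) (2 * s))) := by
    intro j s
    refine ⟨mulQuad (ψ.mulShift (2 * c)) j s, fun d σ _ f => ?_⟩
    have hrot : rot F k • (Pi.single (Sum.inr j) (1 : F) : Fin k ⊕ Fin k → F) =
        Pi.single (Sum.inl j) 1 := by
      rw [rot_smul]; funext i; rcases i with i | i <;> simp [Pi.single_apply]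
    have he : embT (transv (Pi.single (Sum.inr j) 1) (2 * s)) =
        siegel (symOf (2 * s) (Pi.single j.succ 1 : Fin (k + 1) → F)) := by
      rw [embT_apply, transv_conj, hrot, emb_transv]
      refine ext_smul fun x => ?_
      rw [transv_smul, form_incl, form_single_inl_right, siegel_smul]
      show _ = Sum.elim (x ∘ Sum.inl + ((2 * s) • vecMulVec (Pi.single j.succ (1 : F))
        (Pi.single j.succ (1 : F))) *ᵥ (x ∘ Sum.inr)) (x ∘ Sum.inr)
      rw [Matrix.smul_mulVec, Matrix.vecMulVec_mulVec, op_smul_eq_smul, single_dotProduct]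
      funext i
      rcases i with i | i <;> refine Fin.cases ?_ ?_ i <;>
        simp [rest, incl, Pi.single_apply, Fin.succ_ne_zero, Fin.succ_inj]
    rw [he]
    simp only [Θ, Finset.mul_sum, mul_smul_comm]
    refine Finset.sum_congr rfl fun x _ => ?_
    rw [shE_proj, ← mul_assoc, proj, siegel_mul_pr, smul_mul_assoc, ← proj, ← shE_proj, smul_smul,
      mulQuad_apply, mul_comm (f x), AddChar.mulShift_apply, trace_symOf]
    congr 3
    show c * ((Fin.cons 1 x : Fin (k + 1) → F) ⬝ᵥ (((2 * s) • vecMulVec (Pi.single j.succ (1 : F))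
      (Pi.single j.succ (1 : F))) *ᵥ (Fin.cons 1 x : Fin (k + 1) → F))) = _
    rw [Matrix.smul_mulVec, Matrix.vecMulVec_mulVec, op_smul_eq_smul, single_dotProduct,
      dotProduct_smul, dotProduct_smul, dotProduct_single]
    simp only [one_mul, mul_one, smul_eq_mul, Fin.cons_succ]
    ring
  have hmem : ∀ g, (∀ j, ∀ s : F, g * transv (Pi.single (Sum.inr j) 1) (2 * s) * g⁻¹ ∈ G) :=
    fun g j s => ⟨hconj _ _ (hgen j s), by
      rw [show (g * transv (Pi.single (Sum.inr j) 1) (2 * s) * g⁻¹)⁻¹ =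
        g * transv (Pi.single (Sum.inr j) 1) (2 * (-s)) * g⁻¹ by
          rw [mul_neg, ← transv_inv]; group]
      exact hconj _ _ (hgen j (-s))⟩
  have htop : G = ⊤ := eq_top_of_transv fun v s => by
    rcases eq_or_ne v 0 with rfl | hv
    · rw [transv_vec_zero]; exact one_mem G
    let j : Fin k := ⟨0, hk⟩
    obtain ⟨g, hg⟩ := exists_smul_eq (u := (Pi.single (Sum.inr j) 1 : Fin k ⊕ Fin k → F))
      (fun e => by simpa using congrFun e (Sum.inr j)) hv
    have := hmem g j (s / 2)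
    rwa [transv_conj, hg, mul_div_cancel₀ _ h2] at this
  exact ((htop ▸ Subgroup.mem_top h : h ∈ G)).1

theorem model_of_fix (hk : 1 ≤ k) (h2 : (2 : F) ≠ 0) (hψ : ψ t ≠ 1) (hc : c ≠ 0)
    {g : symplecticGroup (Fin (k + 1)) F} (hg : g • (v1 : Fin (k + 1) ⊕ Fin (k + 1) → F) = v1) :
    Model ψ c ε g := by
  obtain ⟨v, γ, h, rfl⟩ := exists_jacobi h2 hg
  exact ((model_qv h2 v).mul (model_zel γ)).mul (model_embT hk h2 hψ hc h)

end Cfsg.Agent.SpGap32Model
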