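import Mathlib
import Cfsg.Agent.Lib.SpGap32Model
import Cfsg.Agent.Lib.CharBasic

/-!
The coefficient of a group element on the base eigenspace does not depend on the representation, so
a small irreducible representation of `Sp_2n(q)` is determined by its class and central sign.
-/

set_option autoImplicit false

open Matrix Cfsg

namespace Cfsg.Agent.SpGap32Coef

open Cfsg.Agent.SymplecticBasic Cfsg.Agent.SpOddMinDegree50 Cfsg.Agent.SpGap32Spec
  Cfsg.Agent.SpGap32Elements Cfsg.Agent.SpGap32Model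

universe u

variable {F : Type u} [Field F] [Fintype F] {k : ℕ}

/-- The compression of `g` to the base eigenspace is a scalar not depending on the representation. -/
def Coef (ψ : AddChar F ℂ) (c : F) (ε : ℂ) (g : symplecticGroup (Fin (k + 1)) F) : Prop :=
  ∃ κ : ℂ, ∀ (d : ℕ) (σ : symplecticGroup (Fin (k + 1)) F →* Module.End ℂ (Fin d → ℂ)),
    Cls ψ ε σ → proj ψ c σ e0 * σ g * proj ψ c σ e0 = κ • proj ψ c σ e0

/-- `g` is a scalar on the base eigenspace, on both sides. -/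
def Scal (ψ : AddChar F ℂ) (c : F) (ε : ℂ) (g : symplecticGroup (Fin (k + 1)) F) : Prop :=
  ∃ κ : ℂ, ∀ (d : ℕ) (σ : symplecticGroup (Fin (k + 1)) F →* Module.End ℂ (Fin d → ℂ)),
    Cls ψ ε σ → σ g * proj ψ c σ e0 = κ • proj ψ c σ e0 ∧ proj ψ c σ e0 * σ g = κ • proj ψ c σ e0

variable {ψ : AddChar F ℂ} {t c : F} {ε : ℂ}

theorem Scal.mul {a b : symplecticGroup (Fin (k + 1)) F} (ha : Scal ψ c ε a) (hb : Scal ψ c ε b) :
    Scal ψ c ε (a * b) := by
  obtain ⟨x, hx⟩ := ha
  obtain ⟨y, hy⟩ := hb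
  refine ⟨x * y, fun d σ hσ => ⟨?_, ?_⟩⟩
  · rw [map_mul, mul_assoc, (hy d σ hσ).1, mul_smul_comm, (hx d σ hσ).1, smul_smul, mul_comm]
  · rw [map_mul, ← mul_assoc, (hx d σ hσ).2, smul_mul_assoc, (hy d σ hσ).2, smul_smul]

theorem Coef.scal_mul {a g b : symplecticGroup (Fin (k + 1)) F} (ha : Scal ψ c ε a)
    (hg : Coef ψ c ε g) (hb : Scal ψ c ε b) : Coef ψ c ε (a * g * b) := by
  obtain ⟨x, hx⟩ := ha
  obtain ⟨z, hz⟩ := hg
  obtain ⟨y, hy⟩ := hb
  refine ⟨x * y * z, fun d σ hσ => ?_⟩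
  rw [map_mul, map_mul, ← mul_assoc, ← mul_assoc, (hx d σ hσ).2, mul_assoc _ (σ b), (hy d σ hσ).1,
    smul_mul_assoc, smul_mul_assoc, mul_smul_comm, hz d σ hσ, smul_smul, smul_smul]

theorem scal_one : Scal ψ c ε (1 : symplecticGroup (Fin (k + 1)) F) :=
  ⟨1, fun d σ _ => by rw [map_one, one_mul, mul_one, one_smul]; exact ⟨rfl, rfl⟩⟩

theorem scal_negOne : Scal (k := k) ψ c ε negOne :=
  ⟨ε, fun d σ hσ => by
    rw [hσ.neg, smul_mul_assoc, mul_smul_comm, one_mul, mul_one]; exact ⟨rfl, rfl⟩⟩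

theorem lv_fix_v1 (M : GL (Fin (k + 1)) F) (h : M.1ᵀ *ᵥ e0 = e0) :
    lv M • (v1 : Fin (k + 1) ⊕ Fin (k + 1) → F) = v1 := by
  have h' : ((M⁻¹ : GL (Fin (k + 1)) F).1)ᵀ *ᵥ e0 = e0 := by
    conv_lhs => rw [← h]
    rw [Matrix.mulVec_mulVec, ← Matrix.transpose_mul, ← Units.val_mul, mul_inv_cancel,
      Units.val_one, Matrix.transpose_one, Matrix.one_mulVec]
  rw [lv_smul]
  have e1 : (v1 : Fin (k + 1) ⊕ Fin (k + 1) → F) ∘ Sum.inl = e0 := by
    funext i; simp [v1, e0, Pi.single_apply]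
  have e2 : (v1 : Fin (k + 1) ⊕ Fin (k + 1) → F) ∘ Sum.inr = 0 := by
    funext i; simp [v1]
  rw [e1, e2, h', Matrix.mulVec_zero, ← e1, ← e2, elim_eta]

theorem shear_fix (x : Fin k → F) :
    lv (shear x) • (v1 : Fin (k + 1) ⊕ Fin (k + 1) → F) = v1 :=
  lv_fix_v1 _ (by
    rw [show (shear x).1 = shearM x from rfl, shearM_transpose_mulVec, e0_eq_cons, cons_dot]
    simp)

/-- The matrix `1 + e₀ (0, r)`. -/
def rowShear (r : Fin k → F) : GL (Fin (k + 1)) F where
  val := (shearM r)ᵀ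
  inv := (shearM (-r))ᵀ
  val_inv := by rw [← Matrix.transpose_mul, shearM_mul, neg_add_cancel, shearM_zero,
    Matrix.transpose_one]
  inv_val := by rw [← Matrix.transpose_mul, shearM_mul, add_neg_cancel, shearM_zero,
    Matrix.transpose_one]

theorem rowShear_mul (r s : Fin k → F) : rowShear r * rowShear s = rowShear (r + s) :=
  Units.ext (show (shearM r)ᵀ * (shearM s)ᵀ = (shearM (r + s))ᵀ by
    rw [← Matrix.transpose_mul, shearM_mul]
    exact congrArg _ (congrArg shearM (add_comm s r)))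

theorem rowShear_e0 (r : Fin k → F) : (rowShear r).1 *ᵥ e0 = e0 := by
  show (shearM r)ᵀ *ᵥ e0 = e0
  rw [shearM_transpose_mulVec, e0_eq_cons, cons_dot]
  simp

/-- The diagonal matrix fixing `e₀` and scaling by `a` elsewhere. -/
noncomputable def scaleOff (a : F) (ha : a ≠ 0) : GL (Fin (k + 1)) F where
  val := Matrix.diagonal (Fin.cons 1 fun _ => a)
  inv := Matrix.diagonal (Fin.cons 1 fun _ => a⁻¹)
  val_inv := by
    rw [Matrix.diagonal_mul_diagonal, ← Matrix.diagonal_one]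
    congr 1; funext i; refine Fin.cases ?_ ?_ i <;> simp [ha]
  inv_val := by
    rw [Matrix.diagonal_mul_diagonal, ← Matrix.diagonal_one]
    congr 1; funext i; refine Fin.cases ?_ ?_ i <;> simp [ha]

theorem commute_proj {V : Type*} [AddCommGroup V] [Module ℂ V]
    (σ : symplecticGroup (Fin (k + 1)) F →* Module.End ℂ V) {M : GL (Fin (k + 1)) F}
    (hM : M.1 *ᵥ e0 = e0) : σ (lv M) * proj ψ c σ e0 = proj ψ c σ e0 * σ (lv M) := by
  rw [lv_mul_proj, hM]

theorem scal_of_model {M : GL (Fin (k + 1)) F} (hM : M.1 *ᵥ e0 = e0)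
    (h2 : (2 : F) ≠ 0) (hψ : ψ t ≠ 1) (hc : c ≠ 0) (h : Model ψ c ε (lv M)) :
    Scal ψ c ε (lv M) := by
  classical
  obtain ⟨K, hK⟩ := h
  refine ⟨K (Pi.single (0 : Fin k → F) (1 : ℂ)) (0 : Fin k → F), fun d σ hσ => ?_⟩
  have hE : proj ψ c σ e0 = shE σ 0 * proj ψ c σ e0 := by rw [shE_zero, one_mul]
  have h1 : σ (lv M) * proj ψ c σ e0 = K (Pi.single 0 1) 0 • proj ψ c σ e0 := by
    have e := hK d σ hσ (Pi.single 0 1)
    rw [Θ_single, ← hE] at e
    calc σ (lv M) * proj ψ c σ e0 = proj ψ c σ e0 * (σ (lv M) * proj ψ c σ e0) := by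
          rw [← mul_assoc, ← commute_proj σ hM, mul_assoc, proj_e0_sq]
      _ = proj ψ c σ e0 * shE σ (-(0 : Fin k → F)) * Θ ψ c σ (K (Pi.single 0 1)) := by
          rw [e, neg_zero, shE_zero, mul_one]
      _ = _ := coord_Θ σ h2 hψ hc _ _
  exact ⟨h1, by rw [← commute_proj σ hM, h1]⟩

theorem scal_of_fix_e0 (hk : 1 ≤ k) (h2 : (2 : F) ≠ 0) (hψ : ψ t ≠ 1) (hc : c ≠ 0)
    {M : GL (Fin (k + 1)) F} (hM : M.1 *ᵥ e0 = e0) : Scal ψ c ε (lv M) := by
  classical
  have hstab : ∀ N : GL (Fin (k + 1)) F, N.1 *ᵥ e0 = e0 → N.1ᵀ *ᵥ e0 = e0 → Scal ψ c ε (lv N) :=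
    fun N a b => scal_of_model a h2 hψ hc (model_of_fix hk h2 hψ hc (lv_fix_v1 N b))
  have hrow : ∀ r : Fin k → F, Scal ψ c ε (lv (rowShear r)) := by
    intro r
    have hd : ∀ (a : F) (ha : a ≠ 0), (scaleOff (k := k) a ha).1 *ᵥ e0 = e0 ∧
        (scaleOff (k := k) a ha).1ᵀ *ᵥ e0 = e0 := by
      intro a ha
      constructor <;>
        (funext i; refine Fin.cases ?_ ?_ i <;>
          simp [scaleOff, e0, Matrix.mulVec_diagonal, Fin.succ_ne_zero])
    obtain ⟨κ, hκ⟩ := hstab _ (hd 2 h2).1 (hd 2 h2).2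
    refine ⟨1, fun d σ hσ => ?_⟩
    have hconj : rowShear r * scaleOff 2 h2 = scaleOff 2 h2 * rowShear (r + r) := by
      refine Units.ext ?_
      show (shearM r)ᵀ * Matrix.diagonal (Fin.cons 1 fun _ => (2 : F)) =
        Matrix.diagonal (Fin.cons 1 fun _ => (2 : F)) * (shearM (r + r))ᵀ
      ext i j
      rw [Matrix.mul_diagonal, Matrix.diagonal_mul]
      refine Fin.cases ?_ ?_ i <;> refine Fin.cases ?_ ?_ j <;> intros <;>
        simp [shearM, e0, vecMulVec_apply, Fin.succ_ne_zero, Matrix.one_apply, Fin.succ_inj,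
          two_mul, mul_add, add_mul, eq_comm]
      ring
    have e1 : σ (lv (rowShear r)) * proj ψ c σ e0 = proj ψ c σ e0 := by
      have hc1 := commute_proj (ψ := ψ) (c := c) σ (rowShear_e0 r)
      have h := congrArg (fun X => proj ψ c σ e0 * σ (lv X)) hconj
      simp only [map_mul] at h
      rw [← mul_assoc, ← mul_assoc, (hκ d σ hσ).2] at h
      have h' := congrArg (fun X => X * proj ψ c σ e0) h
      simp only [smul_mul_assoc] at h'
      rw [mul_assoc _ (σ (lv (scaleOff 2 h2))), (hκ d σ hσ).1, mul_smul_comm] at h'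
      have hκ0 : proj ψ c σ e0 = 0 ∨ κ ≠ 0 := by
        by_cases hE : proj ψ c σ e0 = 0
        · exact Or.inl hE
        · refine Or.inr fun h0 => hE ?_
          have e := (hκ d σ hσ).1
          rw [h0, zero_smul] at e
          exact ((Group.isUnit (lv (scaleOff (k := k) 2 h2))).map σ).mul_right_eq_zero.mp e
      rcases hκ0 with hE | hκ0
      · rw [hE, mul_zero]
      have h3 := (smul_right_injective _ hκ0 h').symm
      rw [mul_assoc, mul_assoc (proj ψ c σ e0), commute_proj σ (rowShear_e0 _), hc1, ← mul_assoc,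
        ← mul_assoc, proj_e0_sq, ← commute_proj σ (rowShear_e0 _), ← hc1, ← rowShear_mul, map_mul,
        map_mul, mul_assoc] at h3
      exact ((Group.isUnit (lv (rowShear r))).map σ).mul_left_cancel h3
    exact ⟨by rw [one_smul, e1], by rw [one_smul, ← commute_proj σ (rowShear_e0 r), e1]⟩
  set s : Fin k → F := fun i => M.1 0 i.succ with hs
  set D := M * rowShear (-s) with hD
  have hDe : D.1 *ᵥ e0 = e0 := by
    rw [hD, Units.val_mul, ← Matrix.mulVec_mulVec, rowShear_e0, hM]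
  have h00 : M.1 0 0 = 1 := by
    have := congrFun hM 0
    simpa [e0] using this
  have hDrow : D.1ᵀ *ᵥ e0 = e0 := by
    rw [hD, Units.val_mul, Matrix.transpose_mul, ← Matrix.mulVec_mulVec]
    show (shearM (-s))ᵀᵀ *ᵥ _ = _
    rw [Matrix.transpose_transpose, shearM_mulVec]
    funext i
    refine Fin.cases ?_ ?_ i <;> simp [e0, h00, hs, Fin.succ_ne_zero]
  have hMD : M = D * rowShear s := by
    rw [hD, mul_assoc, rowShear_mul, neg_add_cancel]
    have : rowShear (0 : Fin k → F) = 1 := Units.ext (show (shearM 0)ᵀ = 1 by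
      rw [shearM_zero, Matrix.transpose_one])
    rw [this, mul_one]
  rw [hMD, map_mul]
  exact (hstab D hDe hDrow).mul (hrow s)

theorem coef_of_scal {g : symplecticGroup (Fin (k + 1)) F} (h : Scal ψ c ε g) : Coef ψ c ε g := by
  obtain ⟨κ, hκ⟩ := h
  exact ⟨κ, fun d σ hσ => by rw [(hκ d σ hσ).2, smul_mul_assoc, proj_e0_sq]⟩

theorem symOf_eq {w : Fin (k + 1) → F} (hc : c ≠ 0) (h : symOf c w = symOf c e0) :
    w = e0 ∨ w = -e0 := by
  have h' : ∀ i j, w i * w j = e0 i * e0 j := fun i j => by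
    simpa [symOf, vecMulVec_apply, hc] using congrFun (congrFun (congrArg Subtype.val h) i) j
  have h00 : w 0 * w 0 = 1 := by rw [h']; simp [e0]
  have hrest : ∀ i : Fin k, w i.succ = 0 := fun i => by
    have := h' i.succ i.succ
    simpa [e0, Fin.succ_ne_zero] using this
  rcases mul_self_eq_one_iff.mp h00 with h0 | h0
  · left; funext i; refine Fin.cases ?_ ?_ i <;> simp [e0, h0, hrest, Fin.succ_ne_zero]
  · right; funext i; refine Fin.cases ?_ ?_ i <;> simp [e0, h0, hrest, Fin.succ_ne_zero]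

theorem coef_lv (hk : 1 ≤ k) (h2 : (2 : F) ≠ 0) (hψ : ψ t ≠ 1) (hc : c ≠ 0)
    (M : GL (Fin (k + 1)) F) : Coef ψ c ε (lv M) := by
  classical
  by_cases h : symOf c (M.1 *ᵥ e0) = symOf c e0
  · rcases symOf_eq hc h with h1 | h1
    · exact coef_of_scal (scal_of_fix_e0 hk h2 hψ hc h1)
    · have e : lv M = negOne * lv (-M) := by
        rw [negOne, ← map_mul, neg_mul_neg, one_mul]
      rw [e]
      exact coef_of_scal (scal_negOne.mul (scal_of_fix_e0 hk h2 hψ hc
        (by rw [Units.val_neg, Matrix.neg_mulVec, h1, neg_neg])))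
  · refine ⟨0, fun d σ _ => ?_⟩
    rw [mul_assoc, lv_mul_proj, ← mul_assoc, proj, proj, pr_mul_pr σ h2 hψ (Ne.symm h), zero_mul,
      zero_smul]

theorem coef_right (g : symplecticGroup (Fin (k + 1)) F) {j : symplecticGroup (Fin (k + 1)) F}
    (hj : Model ψ c ε j) (h : ∀ y, Coef ψ c ε (g * lv (shear y))) : Coef ψ c ε (g * j) := by
  classical
  obtain ⟨K, hK⟩ := hj
  choose κ hκ using h
  refine ⟨∑ y, K (Pi.single 0 1) y * κ y, fun d σ hσ => ?_⟩
  have e := hK d σ hσ (Pi.single 0 1)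
  rw [Θ_single, shE_zero, one_mul] at e
  rw [map_mul, mul_assoc, mul_assoc (σ g), e, Θ, Finset.sum_smul, Finset.mul_sum, Finset.mul_sum]
  refine Finset.sum_congr rfl fun y _ => ?_
  rw [mul_smul_comm, mul_smul_comm, ← smul_smul]
  congr 1
  have := hκ y d σ hσ
  rw [map_mul] at this
  simp only [shE, ← mul_assoc] at this ⊢
  exact this

theorem coef_left (h2 : (2 : F) ≠ 0) (hψ : ψ t ≠ 1) (hc : c ≠ 0)
    (g : symplecticGroup (Fin (k + 1)) F) {j : symplecticGroup (Fin (k + 1)) F}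
    (hj : Model ψ c ε j) (hfix : j • (v1 : Fin (k + 1) ⊕ Fin (k + 1) → F) = v1)
    (h : ∀ x, Coef ψ c ε (lv (shear (-x)) * g)) : Coef ψ c ε (j * g) := by
  classical
  obtain ⟨K, hK⟩ := hj
  choose κ hκ using h
  refine ⟨∑ x, K (Pi.single x 1) 0 * κ x, fun d σ hσ => ?_⟩
  rw [map_mul, ← mul_assoc, sum_left σ h2 hψ hc hσ.low j hfix, Finset.sum_mul, Finset.sum_mul,
    Finset.sum_smul]
  refine Finset.sum_congr rfl fun x _ => ?_
  have e : proj ψ c σ e0 * σ j * (shE σ x * proj ψ c σ e0) =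
      K (Pi.single x 1) 0 • proj ψ c σ e0 := by
    rw [mul_assoc, ← Θ_single, hK d σ hσ]
    have h0 := coord_Θ σ h2 hψ hc (K (Pi.single x 1)) (0 : Fin k → F)
    rwa [neg_zero, shE_zero, mul_one] at h0
  have e' := hκ x d σ hσ
  rw [map_mul] at e'
  rw [e, smul_mul_assoc, smul_mul_assoc, smul_mul_assoc, ← smul_smul]
  congr 1
  rw [← e']
  simp only [← mul_assoc, shE, proj_e0_sq]

/-- The reflection exchanging the first two coordinates. -/
def swapVec (i : Fin k) : Fin (k + 1) → F := Pi.single 0 1 - Pi.single i.succ 1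

theorem swap_sq (i : Fin k) :
    (1 - vecMulVec (swapVec i : Fin (k + 1) → F) (swapVec i : Fin (k + 1) → F)) *
      (1 - vecMulVec (swapVec i : Fin (k + 1) → F) (swapVec i : Fin (k + 1) → F)) = 1 := by
  have h : (swapVec (F := F) i) ⬝ᵥ swapVec i = 2 := by
    simp [swapVec, dotProduct_sub, Fin.succ_ne_zero, (Fin.succ_ne_zero i).symm]
    norm_num
  simp only [Matrix.sub_mul, Matrix.mul_sub, Matrix.one_mul, Matrix.mul_one,
    Matrix.vecMulVec_mul_vecMulVec, h]
  ext a b
  simp [vecMulVec_apply]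
  ring

/-- The exchange of the first two coordinates. -/
def swap (i : Fin k) : GL (Fin (k + 1)) F :=
  ⟨1 - vecMulVec (swapVec i : Fin (k + 1) → F) (swapVec i),
    1 - vecMulVec (swapVec i : Fin (k + 1) → F) (swapVec i), swap_sq i, swap_sq i⟩

theorem swap_mulVec (i : Fin k) (r : Fin (k + 1) → F) :
    (swap i).1 *ᵥ r = r - (r 0 - r i.succ) • swapVec i := by
  show (1 - vecMulVec (swapVec i : Fin (k + 1) → F) (swapVec i)) *ᵥ r = _
  rw [Matrix.sub_mulVec, Matrix.one_mulVec, Matrix.vecMulVec_mulVec, op_smul_eq_smul]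
  simp [swapVec, sub_dotProduct]

theorem lv_swap_smul (i : Fin k) (x : Fin (k + 1) ⊕ Fin (k + 1) → F) :
    lv (swap (F := F) i) • x = Sum.elim ((swap i).1 *ᵥ (x ∘ Sum.inl)) ((swap i).1 *ᵥ (x ∘ Sum.inr)) := by
  rw [lv_smul]
  have : (((swap i)⁻¹ : GL (Fin (k + 1)) F).1)ᵀ = (swap (F := F) i).1 := by
    show (1 - vecMulVec (swapVec i : Fin (k + 1) → F) (swapVec i))ᵀ =
      1 - vecMulVec (swapVec i : Fin (k + 1) → F) (swapVec i)
    rw [Matrix.transpose_sub, Matrix.transpose_one, Matrix.transpose_vecMulVec]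
  rw [this]

theorem swap_mul_swap (i : Fin k) : swap (F := F) i * swap i = 1 := Units.ext (swap_sq i)

/-- Block diagonal matrices fixing `e₀`. -/
noncomputable def blockGL (A : GL (Fin k) F) : GL (Fin (k + 1)) F :=
  Matrix.GeneralLinearGroup.mk'' (Matrix.of fun i j => Fin.cases (Fin.cases 1 (fun _ => 0) j)
    (fun a => Fin.cases 0 (fun b => A.1 a b) j) i) (by
      refine (Matrix.isUnit_iff_isUnit_det _).mp (Matrix.mulVec_injective_iff_isUnit.mp ?_)
      intro x y hxy
      have h0 := congrFun hxy 0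
      have hr : A.1 *ᵥ (fun b => x b.succ) = A.1 *ᵥ (fun b => y b.succ) := by
        funext a
        have := congrFun hxy a.succ
        simpa [Matrix.mulVec, dotProduct, Fin.sum_univ_succ] using this
      have hr' := Matrix.mulVec_injective_of_isUnit A.isUnit hr
      funext i
      refine Fin.cases ?_ (fun b => congrFun hr' b) i
      simpa [Matrix.mulVec, dotProduct, Fin.sum_univ_succ] using h0)

theorem blockGL_mulVec (A : GL (Fin k) F) (r : Fin (k + 1) → F) :
    (blockGL A).1 *ᵥ r = Fin.cons (r 0) (A.1 *ᵥ fun b => r b.succ) := by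
  funext i
  refine Fin.cases ?_ ?_ i <;>
    simp [blockGL, Matrix.GeneralLinearGroup.mk'', Matrix.nonsingInvUnit, Matrix.mulVec,
      dotProduct, Fin.sum_univ_succ]

theorem blockGL_transpose_mulVec (A : GL (Fin k) F) :
    (blockGL A).1ᵀ *ᵥ (e0 : Fin (k + 1) → F) = e0 := by
  funext i
  refine Fin.cases ?_ ?_ i <;>
    simp [blockGL, Matrix.GeneralLinearGroup.mk'', Matrix.nonsingInvUnit, Matrix.mulVec,
      dotProduct, Fin.sum_univ_succ, e0, Fin.succ_ne_zero]

theorem blockGL_e0 (A : GL (Fin k) F) : (blockGL A).1 *ᵥ (e0 : Fin (k + 1) → F) = e0 := by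
  rw [blockGL_mulVec]
  have : (fun b : Fin k => (e0 : Fin (k + 1) → F) b.succ) = 0 := by
    funext b; simp [e0, Fin.succ_ne_zero]
  rw [this, Matrix.mulVec_zero, ← show (Fin.cons 1 0 : Fin (k + 1) → F) = e0 from e0_eq_cons.symm]
  simp

theorem blockGL_shear (A : GL (Fin k) F) (x : Fin k → F) :
    blockGL A * shear x = shear (A.1 *ᵥ x) * blockGL A := by
  refine Units.ext (Matrix.ext_iff_mulVec.mpr fun r => ?_)
  rw [Units.val_mul, Units.val_mul, ← Matrix.mulVec_mulVec, ← Matrix.mulVec_mulVec,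
    show (shear x).1 = shearM x from rfl,
    show (shear (A.1 *ᵥ x)).1 = shearM (A.1 *ᵥ x) from rfl,
    shearM_mulVec, shearM_mulVec, blockGL_mulVec, blockGL_mulVec]
  funext i
  refine Fin.cases ?_ ?_ i
  · simp
  · intro b
    simp only [Fin.cons_succ, Fin.cons_zero, Pi.add_apply, Pi.smul_apply, smul_eq_mul]
    have : (fun b : Fin k => r b.succ + r 0 * x b) = (fun b => r b.succ) + r 0 • x := rfl
    rw [this, Matrix.mulVec_add, Matrix.mulVec_smul]
    rfl

theorem exists_map {x : Fin k → F} (hx : x ≠ 0) (i : Fin k) :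
    ∃ A : GL (Fin k) F, A.1 *ᵥ x = Pi.single i 1 := by
  obtain ⟨w, hw⟩ := exists_dot_eq_one hx
  obtain ⟨A, hA, hAx, -⟩ := exists_unit_pair (u := Pi.single i (1 : F)) (v := Pi.single i (1 : F))
    (e := x) (w := w) (fun e => by simpa using congrFun e i) (fun e => by simpa using congrFun e i)
    hx (fun e => by simp [e] at hw) (by rw [dotProduct_comm w, hw]; simp)
  exact ⟨hA.unit, hAx⟩

/-- Away from the first pair everything is universal. -/
theorem coef_pair (hk : 1 ≤ k) (h2 : (2 : F) ≠ 0) (hψ : ψ t ≠ 1) (hc : c ≠ 0)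
    (i : Fin k) {d : symplecticGroup (Fin (k + 1)) F}
    (hcomm : ∀ A : GL (Fin k) F, lv (blockGL A) * d = d * lv (blockGL A))
    (hd : (lv (swap i) * d * lv (swap i)) • (v1 : Fin (k + 1) ⊕ Fin (k + 1) → F) = v1)
    (x y : Fin k → F) (hxy : x ≠ 0 ∨ y ≠ 0) :
    Coef ψ c ε (lv (shear (-x)) * d * lv (shear y)) := by
  set π := lv (swap (F := F) i) with hπ
  have hππ : π * π = 1 := by rw [hπ, ← map_mul, swap_mul_swap, map_one]
  have hj := model_of_fix (ε := ε) hk h2 hψ hc hd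
  have hfixed : (swap i).1 *ᵥ (Fin.cons 1 (Pi.single i 1) : Fin (k + 1) → F) =
      Fin.cons 1 (Pi.single i 1) := by
    rw [swap_mulVec]; simp
  have hs : Scal ψ c ε (lv (shear (-Pi.single i 1)) * π * lv (shear (Pi.single i 1))) := by
    rw [hπ, ← map_mul, ← map_mul]
    refine scal_of_fix_e0 hk h2 hψ hc ?_
    rw [Units.val_mul, Units.val_mul, ← Matrix.mulVec_mulVec, ← Matrix.mulVec_mulVec,
      show (shear (Pi.single i (1 : F))).1 = shearM (Pi.single i 1) from rfl, shearM_e0, hfixed,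
      ← shearM_e0, Matrix.mulVec_mulVec,
      show (shear (-Pi.single i (1 : F))).1 = shearM (-Pi.single i 1) from rfl, shearM_mul,
      neg_add_cancel, shearM_zero, Matrix.one_mulVec]
  have hblk : ∀ A : GL (Fin k) F, Scal ψ c ε (lv (blockGL A)) := fun A =>
    scal_of_fix_e0 hk h2 hψ hc (blockGL_e0 A)
  have key : ∀ A : GL (Fin k) F, lv (shear (-x)) * d * lv (shear y) =
      lv (blockGL A)⁻¹ * (lv (shear (-(A.1 *ᵥ x))) * d * lv (shear (A.1 *ᵥ y))) * lv (blockGL A) := by
    intro A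
    have e : ∀ z, lv (shear (A.1 *ᵥ z)) * lv (blockGL A) = lv (blockGL A) * lv (shear z) :=
      fun z => by rw [← map_mul, ← map_mul, blockGL_shear]
    rw [map_inv]
    simp only [mul_assoc]
    rw [e y, ← mul_assoc d, ← hcomm A, ← Matrix.mulVec_neg]
    simp only [← mul_assoc]
    rw [mul_assoc _ (lv (shear (A.1 *ᵥ (-x)))) (lv (blockGL A)), e (-x)]
    simp only [← mul_assoc, inv_mul_cancel, one_mul]
  have hblk' : ∀ A : GL (Fin k) F, Scal ψ c ε (lv (blockGL A)⁻¹) := fun A =>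
    scal_of_fix_e0 hk h2 hψ hc (by
      conv_lhs => rw [← blockGL_e0 A]
      rw [Matrix.mulVec_mulVec, ← Units.val_mul, inv_mul_cancel, Units.val_one, Matrix.one_mulVec])
  by_cases hx : x = 0
  · have hy : y ≠ 0 := hxy.resolve_left (fun h => h hx)
    obtain ⟨A, hA⟩ := exists_map hy i
    rw [key A, hA, hx, Matrix.mulVec_zero, neg_zero]
    refine Coef.scal_mul (hblk' A) ?_ (hblk A)
    have e : lv (shear (0 : Fin k → F)) * d * lv (shear (Pi.single i 1)) =
        1 * (π * (π * d * π * lv (shear (Pi.single i 1)))) *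
          (lv (shear (-Pi.single i 1)) * π * lv (shear (Pi.single i 1))) := by
      rw [shear_zero, map_one, ← shear_inv, map_inv]
      simp only [one_mul, mul_assoc]
      rw [mul_inv_cancel_left, ← mul_assoc π π, hππ, one_mul, ← mul_assoc π π (lv (shear _)), hππ,
        one_mul]
    rw [e]
    refine Coef.scal_mul scal_one ?_ hs
    refine coef_right _ (hj.mul (model_of_fix hk h2 hψ hc (shear_fix _))) fun z => ?_
    rw [hπ, ← map_mul]
    exact coef_lv hk h2 hψ hc _
  · obtain ⟨A, hA⟩ := exists_map hx i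
    rw [key A, hA]
    refine Coef.scal_mul (hblk' A) ?_ (hblk A)
    have e : lv (shear (-Pi.single i 1)) * d * lv (shear (A.1 *ᵥ y)) =
        (lv (shear (-Pi.single i 1)) * π * lv (shear (Pi.single i 1))) *
          ((lv (shear (-Pi.single i 1)) * (π * d * π)) * (π * lv (shear (A.1 *ᵥ y)))) * 1 := by
      rw [← shear_inv, map_inv]
      simp only [mul_assoc, mul_one]
      rw [mul_inv_cancel_left, ← mul_assoc π π, hππ, one_mul, ← mul_assoc π π (lv (shear _)), hππ,
        one_mul]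
    rw [e]
    refine Coef.scal_mul hs ?_ scal_one
    refine coef_left h2 hψ hc _ ((model_of_fix hk h2 hψ hc (shear_fix _)).mul hj)
      (by rw [mul_smul, hd, shear_fix]) fun z => ?_
    rw [hπ, ← map_mul, ← map_mul]
    exact coef_lv hk h2 hψ hc _

open Classical in
theorem exists_moving (hk : 1 ≤ k) (h2 : (2 : F) ≠ 0) (hψ : ψ t ≠ 1) (hc : c ≠ 0) :
    ∃ (h : symplecticGroup (Fin k) F) (T : Module.End ℂ ((Fin k → F) → ℂ)) (x : Fin k → F),
      IsUnit T ∧ SpWeilOdd50.Intw (ψ.mulShift (2 * c)) h T ∧ x ≠ 0 ∧ T (Pi.single 0 1) x ≠ 0 := by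
  classical
  let j : Fin k := ⟨0, hk⟩
  have hψ' := shift_ne h2 hψ hc
  set v : Fin k ⊕ Fin k → F := Pi.single (Sum.inr j) 1
  obtain ⟨h, hh⟩ := exists_smul_eq (u := v) (w := (Pi.single (Sum.inl j) 1 : Fin k ⊕ Fin k → F))
    (fun e => by simpa [v] using congrFun e (Sum.inr j))
    (fun e => by simpa using congrFun e (Sum.inl j))
  obtain ⟨T, hu, hT⟩ := SpWeilOdd50.exists_intw h2 hψ' h
  refine ⟨h, T, ?_⟩
  by_contra hc'
  push Not at hc'
  have hop : SpWeilOdd50.op (ψ.mulShift (2 * c)) v (Pi.single 0 1) = Pi.single 0 1 := by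
    funext x
    rw [SpWeilOdd50.op_apply]
    have : v ∘ Sum.inl = 0 := by funext l; simp [v]
    rw [this, add_zero, zero_dotProduct]
    by_cases hx : x = 0
    · subst hx; simp
    · simp [Pi.single_eq_of_ne hx]
  have e := congrFun (LinearMap.congr_fun (hT v) (Pi.single 0 1)) 0
  rw [Module.End.mul_apply, hop, Module.End.mul_apply, hh, SpWeilOdd50.op_apply, zero_add] at e
  have hsup : ∀ x, x ≠ 0 → T (Pi.single 0 1) x = 0 := fun x hx => hc' x hu hT hx
  have hne : ((Pi.single (Sum.inl j) 1 : Fin k ⊕ Fin k → F) ∘ Sum.inl) ≠ 0 := fun h0 => by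
    simpa using congrFun h0 j
  rw [hsup _ hne, mul_zero] at e
  have hT0 : T (Pi.single 0 1) = 0 := funext fun x => by
    by_cases hx : x = 0
    · rw [hx, e]; rfl
    · exact hsup x hx
  have := (Module.End.isUnit_iff _).mp hu |>.1 (hT0.trans (map_zero T).symm)
  simpa using congrFun this 0

/-- The coefficient of an element moving the first vector to its partner. -/
theorem coef_core (hk : 1 ≤ k) (h2 : (2 : F) ≠ 0) (hψ : ψ t ≠ 1) (hc : c ≠ 0)
    {d : symplecticGroup (Fin (k + 1)) F}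
    (hcomm : ∀ h : symplecticGroup (Fin k) F, embT h * d = d * embT h)
    (hoff : ∀ x y : Fin k → F, x ≠ 0 ∨ y ≠ 0 → Coef ψ c ε (lv (shear (-x)) * d * lv (shear y))) :
    Coef ψ c ε d := by
  classical
  by_cases hex : ∃ (m : ℕ) (σ : symplecticGroup (Fin (k + 1)) F →* Module.End ℂ (Fin m → ℂ)),
      Cls ψ ε σ ∧ proj ψ c σ e0 ≠ 0
  · obtain ⟨h, T, x, hu, hT, hx, hTx⟩ := exists_moving hk h2 hψ hc
    obtain ⟨K, hK⟩ := model_embT (ε := ε) hk h2 hψ hc h
    have hKx : K (Pi.single 0 1) x ≠ 0 := by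
      obtain ⟨m, σ, hσ, hE⟩ := hex
      obtain ⟨τ, hτe, hτ⟩ := embT_tensor h2 hψ hc σ hσ.low h hu hT
      intro h0
      apply hE
      have e1 := hτ (Pi.single 0 1)
      have e := congrArg (fun X => proj ψ c σ e0 * shE σ (-x) * X)
        ((hK m σ hσ (Pi.single 0 1)).symm.trans e1)
      simp only [← mul_assoc, coord_Θ σ h2 hψ hc] at e
      rw [h0, zero_smul, smul_mul_assoc, hτe] at e
      have hτ0 : τ = 0 := (smul_eq_zero.mp e.symm).resolve_left hTx
      rw [hτ0, mul_zero, Θ_single, shE_zero, one_mul] at e1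
      exact ((Group.isUnit (embT h)).map σ).mul_right_eq_zero.mp e1
    have hoff' : ∀ a b : Fin k → F, ∃ κ : ℂ, (a ≠ 0 ∨ b ≠ 0) →
        ∀ (m : ℕ) (σ : symplecticGroup (Fin (k + 1)) F →* Module.End ℂ (Fin m → ℂ)), Cls ψ ε σ →
          proj ψ c σ e0 * shE σ (-a) * σ d * (shE σ b * proj ψ c σ e0) = κ • proj ψ c σ e0 := by
      intro a b
      by_cases hab : a ≠ 0 ∨ b ≠ 0
      · obtain ⟨κ, hκ⟩ := hoff a b hab
        refine ⟨κ, fun _ m σ hσ => ?_⟩
        rw [← hκ m σ hσ]
        simp only [map_mul, shE, mul_assoc]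
      · exact ⟨0, fun h' => absurd h' hab⟩
    choose X hX using hoff'
    refine ⟨(K (Pi.single 0 1) x)⁻¹ * (∑ y, K (Pi.single 0 1) y * X x y -
      ∑ z ∈ Finset.univ.erase 0, K (Pi.single z 1) x * X z 0), fun m σ hσ => ?_⟩
    set E := proj ψ c σ e0
    have hfix : (lv (shear (-x)) * embT h) • (v1 : Fin (k + 1) ⊕ Fin (k + 1) → F) = v1 := by
      rw [mul_smul, embT_apply, emb_v1, shear_fix]
    have hA : E * shE σ (-x) * σ d * (σ (embT h) * E) =
        (∑ y, K (Pi.single 0 1) y * X x y) • E := by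
      have e := hK m σ hσ (Pi.single 0 1)
      rw [Θ_single, shE_zero, one_mul] at e
      rw [e, Θ, Finset.mul_sum, Finset.sum_smul]
      refine Finset.sum_congr rfl fun y _ => ?_
      rw [mul_smul_comm, hX x y (Or.inl hx) m σ hσ, smul_smul]
    have hB : E * shE σ (-x) * σ d * (σ (embT h) * E) =
        ∑ z, K (Pi.single z 1) x • (E * shE σ (-z) * σ d * E) := by
      have e1 : E * shE σ (-x) * σ d * (σ (embT h) * E) =
          E * σ (lv (shear (-x)) * embT h) * (σ d * E) := by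
        simp only [map_mul, shE, mul_assoc]
        rw [← mul_assoc (σ d), ← map_mul, ← hcomm, map_mul, mul_assoc]
      rw [e1, sum_left σ h2 hψ hc hσ.low _ hfix, Finset.sum_mul]
      refine Finset.sum_congr rfl fun z _ => ?_
      have e2 : E * σ (lv (shear (-x)) * embT h) * (shE σ z * E) =
          K (Pi.single z 1) x • E := by
        calc E * σ (lv (shear (-x)) * embT h) * (shE σ z * E)
            = E * shE σ (-x) * (σ (embT h) * Θ ψ c σ (Pi.single z 1)) := by
              rw [Θ_single]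
              simp only [E, map_mul, shE, mul_assoc]
          _ = E * shE σ (-x) * Θ ψ c σ (K (Pi.single z 1)) := by rw [hK m σ hσ]
          _ = _ := coord_Θ σ h2 hψ hc _ _
      rw [e2, smul_mul_assoc, smul_mul_assoc]
      congr 1
      simp only [← mul_assoc]
      rw [show E * E = E from proj_e0_sq σ]
    rw [hA] at hB
    rw [← Finset.add_sum_erase Finset.univ (fun z => K (Pi.single z 1) x • (E * shE σ (-z) * σ d * E))
        (Finset.mem_univ (0 : Fin k → F)), neg_zero, shE_zero, mul_one,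
      Finset.sum_congr rfl (g := fun z => (K (Pi.single z 1) x * X z 0) • E) (fun z hz => by
        have := hX z 0 (Or.inl (Finset.mem_erase.mp hz).1) m σ hσ
        rw [shE_zero, one_mul] at this
        rw [this, smul_smul]), ← Finset.sum_smul, ← sub_eq_iff_eq_add] at hB
    rw [mul_smul, sub_smul, hB, smul_smul, inv_mul_cancel₀ hKx, one_smul]
  · push Not at hex
    exact ⟨0, fun m σ hσ => by rw [hex m σ hσ, mul_zero, zero_smul]⟩

theorem emb_w1 (h : symplecticGroup (Fin k) F) :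
    emb h • (w1 : Fin (k + 1) ⊕ Fin (k + 1) → F) = w1 := by
  have hrest : rest (w1 : Fin (k + 1) ⊕ Fin (k + 1) → F) = 0 := by
    funext i; rcases i with i | i <;> simp [rest, w1, Fin.succ_ne_zero]
  rw [emb_smul, hrest, smul_def, Matrix.mulVec_zero]
  funext i
  rcases i with i | i <;> refine Fin.cases ?_ ?_ i <;> simp [incl, v1, w1, Fin.succ_ne_zero]

theorem commute_transv_pair {g : symplecticGroup (Fin (k + 1)) F}
    (hv : g • (v1 : Fin (k + 1) ⊕ Fin (k + 1) → F) = v1)
    (hw : g • (w1 : Fin (k + 1) ⊕ Fin (k + 1) → F) = w1) (a r : F) :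
    g * transv (a • w1 - v1) r = transv (a • w1 - v1) r * g := by
  rw [← mul_inv_eq_iff_eq_mul, transv_conj, sub_eq_add_neg, SpWeilOdd50.smul_add',
    SpWeilOdd50.smul_neg', SymplecticSimple.scalar_smul, hv, hw]

theorem coef_all (hk : 1 ≤ k) (h2 : (2 : F) ≠ 0) (hψ : ψ t ≠ 1) (hc : c ≠ 0)
    (g : symplecticGroup (Fin (k + 1)) F) : Coef ψ c ε g := by
  classical
  set u := g • (v1 : Fin (k + 1) ⊕ Fin (k + 1) → F) with hu
  have hv0 : (v1 : Fin (k + 1) ⊕ Fin (k + 1) → F) ≠ 0 := fun e => by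
    simpa [v1] using congrFun e (Sum.inl 0)
  have hu0 : u ≠ 0 := fun e => hv0 (SpWeilOdd50.smul_eq_zero' g e)
  have hsplit : ∀ j d : symplecticGroup (Fin (k + 1)) F, j • (v1 : Fin (k + 1) ⊕ Fin (k + 1) → F) = v1 →
      (j * d) • (v1 : Fin (k + 1) ⊕ Fin (k + 1) → F) = u →
      (∀ x y, Coef ψ c ε (lv (shear (-x)) * d * lv (shear y))) → Coef ψ c ε g := by
    intro j d hj hd h
    have hj' : ((j * d)⁻¹ * g) • (v1 : Fin (k + 1) ⊕ Fin (k + 1) → F) = v1 := by
      rw [mul_smul, ← hu, inv_smul_eq_iff, hd]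
    have e : g = j * (d * ((j * d)⁻¹ * g)) := by
      rw [← mul_assoc, mul_inv_cancel_left]
    rw [e]
    refine coef_left h2 hψ hc _ (model_of_fix hk h2 hψ hc hj) hj fun x => ?_
    rw [← mul_assoc]
    exact coef_right _ (model_of_fix hk h2 hψ hc hj') (h x)
  by_cases hpar : ∃ a : F, u = a • v1
  · obtain ⟨a, ha⟩ := hpar
    have ha0 : a ≠ 0 := fun e => hu0 (by rw [ha, e, zero_smul])
    let D : GL (Fin (k + 1)) F :=
      ⟨Matrix.diagonal (Fin.cons a⁻¹ fun _ => 1), Matrix.diagonal (Fin.cons a fun _ => 1), by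
        rw [Matrix.diagonal_mul_diagonal, ← Matrix.diagonal_one]
        congr 1; funext i; refine Fin.cases ?_ ?_ i <;> simp [ha0], by
        rw [Matrix.diagonal_mul_diagonal, ← Matrix.diagonal_one]
        congr 1; funext i; refine Fin.cases ?_ ?_ i <;> simp [ha0]⟩
    refine hsplit 1 (lv D) (one_smul _ _) ?_ fun x y => ?_
    · rw [one_mul, ha, lv_smul]
      funext i
      rcases i with i | i <;> refine Fin.cases ?_ ?_ i <;>
        simp [D, v1, Matrix.mulVec_diagonal, Fin.succ_ne_zero]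
    · rw [← map_mul, ← map_mul]
      exact coef_lv hk h2 hψ hc _
  push Not at hpar
  let i : Fin k := ⟨0, hk⟩
  by_cases horth : sympForm (k + 1) F v1 u = 0
  · set π := lv (swap (F := F) i) with hπ
    have hπv : π • (v1 : Fin (k + 1) ⊕ Fin (k + 1) → F) = Pi.single (Sum.inl i.succ) 1 := by
      rw [hπ, lv_swap_smul, swap_mulVec, swap_mulVec]
      funext l
      rcases l with l | l <;> refine Fin.cases ?_ ?_ l <;>
        simp [v1, swapVec, Pi.single_apply, Fin.succ_ne_zero, eq_comm]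
    obtain ⟨j, hj1, hj2⟩ := SymplecticSimple.exists_map_perp hv0
      (v := π • (v1 : Fin (k + 1) ⊕ Fin (k + 1) → F)) (v' := u)
      (fun a e => by rw [hπv] at e; simpa [v1, Fin.succ_ne_zero] using congrFun e (Sum.inl i.succ)) hpar
      (by rw [form_swap, form_v1, hπv]; simp) horth
    refine hsplit j π hj1 (by rw [mul_smul, hj2]) fun x y => ?_
    rw [hπ, ← map_mul, ← map_mul]
    exact coef_lv hk h2 hψ hc _
  · set a := sympForm (k + 1) F u v1 with ha
    have ha0 : a ≠ 0 := fun e => horth (form_eq_zero_comm.mp e)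
    obtain ⟨j, hj1, hj2⟩ := exists_smul_pair
      (u := (w1 : Fin (k + 1) ⊕ Fin (k + 1) → F)) (v := v1) (u' := a⁻¹ • u) (v' := v1)
      (by rw [form_v1]; simp [w1]) (by rw [form_smul_left, ← ha, inv_mul_cancel₀ ha0])
    set r := (sympForm (k + 1) F (v1 : Fin (k + 1) ⊕ Fin (k + 1) → F) (a • w1))⁻¹
    set d := transv (a • w1 - (v1 : Fin (k + 1) ⊕ Fin (k + 1) → F)) r with hd
    have hne : sympForm (k + 1) F (v1 : Fin (k + 1) ⊕ Fin (k + 1) → F) (a • w1) ≠ 0 := by
      rw [form_smul_right, form_w1]; simpa [v1] using ha0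
    have hdv : d • (v1 : Fin (k + 1) ⊕ Fin (k + 1) → F) = a • w1 := transv_sub_smul hne
    have hblock : ∀ A : GL (Fin k) F, lv (blockGL A) * d = d * lv (blockGL A) := by
      intro A
      refine commute_transv_pair (lv_fix_v1 _ (blockGL_transpose_mulVec A)) ?_ a r
      rw [lv_smul]
      have e1 : (w1 : Fin (k + 1) ⊕ Fin (k + 1) → F) ∘ Sum.inr = e0 := by
        funext l; simp [w1, e0, Pi.single_apply]
      have e2 : (w1 : Fin (k + 1) ⊕ Fin (k + 1) → F) ∘ Sum.inl = 0 := by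
        funext l; simp [w1]
      rw [e1, e2, Matrix.mulVec_zero, blockGL_e0, ← e1, ← e2, elim_eta]
    have hswap : (lv (swap i) * d * lv (swap i)) • (v1 : Fin (k + 1) ⊕ Fin (k + 1) → F) = v1 := by
      have hinv : (lv (swap i) : symplecticGroup (Fin (k + 1)) F)⁻¹ = lv (swap i) :=
        inv_eq_of_mul_eq_one_right (by rw [← map_mul, swap_mul_swap, map_one])
      conv_lhs => arg 1; arg 2; rw [← hinv]
      rw [transv_conj, transv_smul, form_swap, form_v1, lv_swap_smul]
      simp [swap_mulVec, swapVec, v1, w1, Fin.succ_ne_zero, (Fin.succ_ne_zero i).symm]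
    have hoff := fun x y hxy => coef_pair (ε := ε) hk h2 hψ hc i hblock hswap x y hxy
    have h0 := coef_core hk h2 hψ hc
      (fun h => commute_transv_pair (emb_v1 _) (emb_w1 _) a r) hoff
    refine hsplit j d hj2 ?_ fun x y => ?_
    · rw [mul_smul, hdv, SymplecticSimple.scalar_smul, hj1, smul_smul, mul_inv_cancel₀ ha0,
        one_smul]
    · by_cases hxy : x ≠ 0 ∨ y ≠ 0
      · exact hoff x y hxy
      · push Not at hxy
        rw [hxy.1, hxy.2, neg_zero, shear_zero, map_one, one_mul, mul_one]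
        exact h0

theorem char_eq_of_intertwiner {G V W : Type*} [Group G] [AddCommGroup V] [Module ℂ V]
    [AddCommGroup W] [Module ℂ W] (σ : Representation ℂ G V) (ρ : Representation ℂ G W)
    [σ.IsIrreducible] [ρ.IsIrreducible] (X : V →ₗ[ℂ] W) (hX : X ≠ 0)
    (hcomm : ∀ g, X ∘ₗ σ g = ρ g ∘ₗ X) : σ.character = ρ.character := by
  have hker : LinearMap.ker X = ⊥ := by
    let S : Subrepresentation σ := ⟨LinearMap.ker X, fun g v hv => by
      rw [LinearMap.mem_ker] at hv ⊢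
      have := LinearMap.congr_fun (hcomm g) v
      simp only [LinearMap.comp_apply] at this
      rw [this, hv, map_zero]⟩
    rcases IsSimpleOrder.eq_bot_or_eq_top S with h | h
    · exact congrArg Subrepresentation.toSubmodule h
    · exact absurd (LinearMap.ker_eq_top.mp (congrArg Subrepresentation.toSubmodule h)) hX
  have hran : LinearMap.range X = ⊤ := by
    let S : Subrepresentation ρ := ⟨LinearMap.range X, fun g w hw => by
      obtain ⟨v, rfl⟩ := hw
      exact ⟨σ g v, LinearMap.congr_fun (hcomm g) v⟩⟩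
    rcases IsSimpleOrder.eq_bot_or_eq_top S with h | h
    · exact absurd (LinearMap.range_eq_bot.mp (congrArg Subrepresentation.toSubmodule h)) hX
    · exact congrArg Subrepresentation.toSubmodule h
  let e : V ≃ₗ[ℂ] W :=
    LinearEquiv.ofBijective X ⟨LinearMap.ker_eq_bot.mp hker, LinearMap.range_eq_top.mp hran⟩
  funext g
  have : ρ g = e.conj (σ g) := LinearMap.ext fun w => by
    rw [LinearEquiv.conj_apply_apply]
    have := LinearMap.congr_fun (hcomm g) (e.symm w)
    simp only [LinearMap.comp_apply] at this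
    rw [show e (σ g (e.symm w)) = X (σ g (e.symm w)) from rfl, this]
    exact congrArg _ (e.apply_symm_apply w).symm
  show LinearMap.trace ℂ V (σ g) = LinearMap.trace ℂ W (ρ g)
  rw [this, LinearMap.trace_conj']

theorem average_comm {G V W : Type*} [Group G] [Fintype G] [AddCommGroup V] [Module ℂ V]
    [AddCommGroup W] [Module ℂ W] (σ : Representation ℂ G V) (ρ : Representation ℂ G W)
    (f : V →ₗ[ℂ] W) (h : G) :
    (∑ g, ρ g ∘ₗ f ∘ₗ σ g⁻¹) ∘ₗ σ h = ρ h ∘ₗ (∑ g, ρ g ∘ₗ f ∘ₗ σ g⁻¹) := by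
  refine LinearMap.ext fun v => ?_
  simp only [LinearMap.comp_apply, LinearMap.coe_sum, Finset.sum_apply, map_sum]
  refine Fintype.sum_equiv (Equiv.mulLeft h⁻¹) _ _ fun g => ?_
  simp only [Equiv.coe_mulLeft, ← Module.End.mul_apply, ← map_mul, _root_.mul_inv_rev, inv_inv]
  rw [mul_inv_cancel_left]

/-- Two irreducible representations with the same class and central sign have the same character. -/
theorem char_eq (hk : 1 ≤ k) (h2 : (2 : F) ≠ 0) (hψ : ψ t ≠ 1) (hc : c ≠ 0) {m n : ℕ}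
    (σ : Representation ℂ (symplecticGroup (Fin (k + 1)) F) (Fin m → ℂ))
    (ρ : Representation ℂ (symplecticGroup (Fin (k + 1)) F) (Fin n → ℂ))
    [σ.IsIrreducible] [ρ.IsIrreducible] (hσ : Cls ψ ε σ) (hρ : Cls ψ ε ρ)
    (hσ0 : proj ψ c σ e0 ≠ 0) (hρ0 : proj ψ c ρ e0 ≠ 0) : σ.character = ρ.character := by
  classical
  haveI : Fintype (symplecticGroup (Fin (k + 1)) F) := Fintype.ofFinite _
  choose κ hκ using fun g => coef_all (ε := ε) hk h2 hψ hc g
  set s : ℂ := ∑ g, κ g * κ g⁻¹ with hs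
  set Eσ := proj ψ c σ e0 with hEσ
  set Eρ := proj ψ c ρ e0 with hEρ
  -- the sum is non-zero
  have hs0 : s ≠ 0 := by
    set X : Module.End ℂ (Fin m → ℂ) := ∑ g, σ g * Eσ * σ g⁻¹ with hX
    obtain ⟨a, ha', -⟩ := CharBasic.exists_scalar_of_commute σ X fun g => by
      have := average_comm σ σ Eσ g
      intro v
      simp only [hX, Module.End.mul_eq_comp, LinearMap.comp_assoc]
      exact LinearMap.congr_fun this v
    have ha : X = a • (1 : Module.End ℂ (Fin m → ℂ)) := by rw [ha']; rfl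
    have htr : LinearMap.trace ℂ _ X =
        (Fintype.card (symplecticGroup (Fin (k + 1)) F) : ℂ) * LinearMap.trace ℂ _ Eσ := by
      rw [hX, map_sum]
      rw [Finset.sum_congr rfl (g := fun _ => LinearMap.trace ℂ _ Eσ) (fun g _ => by
        rw [LinearMap.trace_mul_comm, ← mul_assoc, ← map_mul, inv_mul_cancel, map_one, one_mul]),
        Finset.sum_const, Finset.card_univ, nsmul_eq_mul]
    have hproj : LinearMap.IsProj (LinearMap.range Eσ) Eσ :=
      ⟨fun v => LinearMap.mem_range_self _ v, fun v hv => by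
        obtain ⟨w, rfl⟩ := hv
        rw [← Module.End.mul_apply, hEσ, proj_e0_sq]⟩
    have hsum : Eσ * X * Eσ = s • Eσ := by
      rw [hX, Finset.mul_sum, Finset.sum_mul, hs, Finset.sum_smul]
      refine Finset.sum_congr rfl fun g _ => ?_
      calc Eσ * (σ g * Eσ * σ g⁻¹) * Eσ = (Eσ * σ g * Eσ) * (Eσ * σ g⁻¹ * Eσ) := by
            simp only [← mul_assoc]
            rw [mul_assoc _ Eσ Eσ, proj_e0_sq]
        _ = _ := by
            rw [hκ g m σ hσ, hκ g⁻¹ m σ hσ, smul_mul_assoc, mul_smul_comm, smul_smul, proj_e0_sq]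
    intro h0
    rw [h0, zero_smul, ha, mul_smul_comm, smul_mul_assoc, mul_one, proj_e0_sq] at hsum
    have ha0 : a = 0 := (smul_eq_zero.mp hsum).resolve_right hσ0
    rw [ha, ha0, zero_smul, map_zero, hproj.trace] at htr
    rcases mul_eq_zero.mp htr.symm with h' | h'
    · exact Fintype.card_ne_zero (by exact_mod_cast h')
    · have : LinearMap.range Eσ = ⊥ := Submodule.finrank_eq_zero.mp (by exact_mod_cast h')
      exact hσ0 (LinearMap.range_eq_bot.mp this)
  -- a non-zero intertwiner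
  obtain ⟨v, hv⟩ : ∃ v, Eσ v ≠ 0 := by
    by_contra hc'
    push Not at hc'
    exact hσ0 (LinearMap.ext hc')
  obtain ⟨w, hw⟩ : ∃ w, Eρ w ≠ 0 := by
    by_contra hc'
    push Not at hc'
    exact hρ0 (LinearMap.ext hc')
  obtain ⟨lam, hlam⟩ : ∃ lam : (Fin m → ℂ) →ₗ[ℂ] ℂ, lam (Eσ v) ≠ 0 := by
    by_contra hc'
    push Not at hc'
    exact hv ((Module.forall_dual_apply_eq_zero_iff ℂ _).mp hc')
  set f : (Fin m → ℂ) →ₗ[ℂ] (Fin n → ℂ) := Eρ ∘ₗ lam.smulRight w ∘ₗ Eσ with hf
  set Z := ∑ g, ρ g ∘ₗ f ∘ₗ σ g⁻¹ with hZ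
  refine char_eq_of_intertwiner σ ρ Z (fun h0 => ?_) (average_comm σ ρ f)
  have hval : Eρ (Z (Eσ v)) = (s * lam (Eσ v)) • Eρ w := by
    simp only [hZ, hs, Finset.sum_mul, Finset.sum_smul, LinearMap.coe_sum, Finset.sum_apply,
      map_sum, hf, LinearMap.comp_apply, LinearMap.smulRight_apply]
    refine Finset.sum_congr rfl fun g _ => ?_
    have e1 := LinearMap.congr_fun (hκ g⁻¹ m σ hσ) v
    have e2 := LinearMap.congr_fun (hκ g n ρ hρ) w
    simp only [Module.End.mul_apply, LinearMap.smul_apply] at e1 e2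
    rw [e1, map_smul, map_smul, map_smul, map_smul, e2, smul_eq_mul, smul_smul]
    congr 1
    ring
  rw [h0, LinearMap.zero_apply, map_zero] at hval
  exact (smul_ne_zero (mul_ne_zero hs0 hlam) hw) hval.symm

end Cfsg.Agent.SpGap32Coef
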