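import Mathlib
import Cfsg.Agent.Lib.SpGap32Coef

/-!
Both halves of the Weil representation of `Sp_2n(q)`, in a model diagonalising the Siegel group.
-/

set_option autoImplicit false

open Matrix Cfsg

namespace Cfsg.Agent.SpGap32Weil

open Cfsg.Agent.SymplecticBasic Cfsg.Agent.SpOddMinDegree50 Cfsg.Agent.SpWeilOdd50
  Cfsg.Agent.SpGap32Orbit Cfsg.Agent.SpGap32Spec Cfsg.Agent.SpGap32Elements
  Cfsg.Agent.SpGap32Model Cfsg.Agent.SpGap32Coef

universe u

variable {F : Type u} [Field F] [Fintype F] {n : ℕ}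

/-- Multiplication by a function. -/
def mulFun (m : (Fin n → F) → ℂ) : Module.End ℂ ((Fin n → F) → ℂ) where
  toFun f x := m x * f x
  map_add' f g := by funext x; exact mul_add _ _ _
  map_smul' c f := by funext x; exact mul_left_comm _ _ _

omit [Fintype F] in
theorem mulFun_apply (m f : (Fin n → F) → ℂ) (x : Fin n → F) : mulFun m f x = m x * f x := rfl

omit [Fintype F] in
theorem commute_mulFun {m : (Fin n → F) → ℂ} (hm : ∀ x, m (-x) = m x) :
    Commute (mulFun m) (par F n) :=
  LinearMap.ext fun f => funext fun x => by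
    simp only [Module.End.mul_apply, mulFun_apply, par_apply, hm]

theorem exists_sign (h2 : (2 : F) ≠ 0) :
    ∃ s : (Fin n → F) → ℂ, (∀ x, x ≠ 0 → s (-x) = -s x) ∧ ∀ x, s x * s x = 1 := by
  classical
  let e := Fintype.equivFin (Fin n → F)
  refine ⟨fun x => if e x < e (-x) then 1 else -1, fun x hx => ?_, fun x => ?_⟩
  · have hne : e x ≠ e (-x) := fun h => hx (by
      funext i
      have hi : x i = -x i := congrFun (e.injective h) i
      exact (mul_eq_zero.mp (show (2 : F) * x i = 0 by linear_combination hi)).resolve_left h2)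
    rcases lt_or_gt_of_ne hne with h | h
    · simp [h, not_lt.mpr h.le]
    · simp [h, not_lt.mpr h.le]
  · dsimp only
    split_ifs <;> norm_num

/-- An even function with value `1` at the origin has the same determinant on both halves. -/
theorem det_mulFun (h2 : (2 : F) ≠ 0) {m : (Fin n → F) → ℂ} (hm : ∀ x, m (-x) = m x) (h0 : m 0 = 1)
    (M : parCentralizer F n) (hM : M.1 = mulFun m) :
    LinearMap.det (res 1 M) = LinearMap.det (res (-1) M) := by
  classical
  obtain ⟨s, hs, hss⟩ := exists_sign (n := n) (F := F) h2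
  have hodd : ∀ (f : parSpace F n (-1)) (x : Fin n → F), f.1 (-x) = -f.1 x := fun f x => by
    have := congrFun (mem_parSpace.mp f.2) x
    simpa [par_apply] using this
  have heven : ∀ (f : parSpace F n 1) (x : Fin n → F), f.1 (-x) = f.1 x := fun f x => by
    have := congrFun (mem_parSpace.mp f.2) x
    simpa [par_apply] using this
  have hzero : ∀ f : parSpace F n (-1), f.1 0 = 0 := fun f => by
    have := hodd f 0
    rw [neg_zero] at this
    exact CharZero.eq_neg_self_iff.mp this
  let e : (parSpace F n (-1) × ℂ) ≃ₗ[ℂ] parSpace F n 1 :=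
    { toFun := fun p => ⟨fun x => if x = 0 then p.2 else s x * p.1.1 x, mem_parSpace.mpr <| by
        funext x
        simp only [par_apply, one_smul, neg_eq_zero]
        split_ifs with hx
        · rfl
        · rw [hs x hx, hodd]; ring⟩
      map_add' := fun p q => by
        refine Subtype.ext (funext fun x => ?_)
        show _ = (_ : ℂ) + _
        dsimp
        split_ifs <;> ring
      map_smul' := fun c p => by
        refine Subtype.ext (funext fun x => ?_)
        show _ = c * (_ : ℂ)
        dsimp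
        split_ifs <;> ring
      invFun := fun f => (⟨fun x => if x = 0 then 0 else s x * f.1 x, mem_parSpace.mpr <| by
        funext x
        simp only [par_apply, neg_smul, one_smul, neg_eq_zero, Pi.neg_apply]
        split_ifs with hx
        · simp
        · rw [hs x hx, heven]; ring⟩, f.1 0)
      left_inv := fun p => by
        refine Prod.ext (Subtype.ext (funext fun x => ?_)) (by simp)
        by_cases hx : x = 0
        · subst hx; simp [hzero]
        · simp [hx, ← mul_assoc, hss]
      right_inv := fun f => by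
        refine Subtype.ext (funext fun x => ?_)
        by_cases hx : x = 0
        · subst hx; simp
        · simp [hx, ← mul_assoc, hss] }
  have key : res 1 M = e.toLinearMap ∘ₗ
      ((res (-1) M).prodMap (LinearMap.id : ℂ →ₗ[ℂ] ℂ)) ∘ₗ e.symm.toLinearMap := by
    refine LinearMap.ext fun f => Subtype.ext (funext fun x => ?_)
    rw [coe_res, hM, mulFun_apply]
    show _ = if x = 0 then f.1 0 else s x *
      ((res (-1) M) (e.symm f).1 : (Fin n → F) → ℂ) x
    rw [coe_res, hM, mulFun_apply]
    show _ = if x = 0 then f.1 0 else s x * (m x * (if x = 0 then 0 else s x * f.1 x))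
    split_ifs with hx
    · subst hx; rw [h0, one_mul]
    · linear_combination (-(m x * f.1 x)) * hss x
  rw [key, LinearMap.det_conj, LinearMap.det_prodMap, LinearMap.det_id, mul_one]

/-- The normalising factor. -/
noncomputable def kap (T : parCentralizer F n) : ℂ :=
  LinearMap.det (res (-1) T) / LinearMap.det (res 1 T)

/-- A half of an operator, normalised. -/
noncomputable def normPar (s : ℂ) (T : parCentralizer F n) : Module.End ℂ (parSpace F n s) :=
  kap T • res s T

theorem normPar_smul (h2 : (2 : F) ≠ 0) (s : ℂ) {c : ℂ} (hc : c ≠ 0) (T : parCentralizer F n) :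
    normPar s (c • T) = normPar s T := by
  simp only [normPar, kap, res_smul, LinearMap.det_smul, finrank_even h2, smul_smul, pow_succ]
  congr 1
  rw [mul_assoc, mul_div_mul_left _ _ (pow_ne_zero _ hc), div_mul_eq_mul_div, mul_comm _ c,
    mul_div_mul_left _ _ hc]

theorem normPar_eq (h2 : (2 : F) ≠ 0) (s : ℂ) {ψ : AddChar F ℂ} {t : F} (hψ : ψ t ≠ 1)
    {g : symplecticGroup (Fin n) F} (T : parCentralizer F n) (hu : IsUnit T.1)
    (hT : Intw ψ g T.1) : normPar s (weilOp h2 hψ g) = normPar s T := by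
  have hs := (exists_intw h2 hψ g).choose_spec
  obtain ⟨c, hc⟩ := hs.2.eq_smul h2 hψ hs.1 hT
  have : T = c • weilOp h2 hψ g := Subtype.ext hc
  rw [this, normPar_smul h2]
  rintro rfl
  rw [zero_smul] at hc
  exact hu.ne_zero hc

/-- A half of the Weil representation, twisted by the quarter turn. -/
noncomputable def weilPar (h2 : (2 : F) ≠ 0) (s : ℂ) {ψ : AddChar F ℂ} {t : F} (hψ : ψ t ≠ 1) :
    Representation ℂ (symplecticGroup (Fin n) F) (parSpace F n s) where
  toFun g := normPar s (weilOp h2 hψ ((rot F n)⁻¹ * g * rot F n))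
  map_one' := by
    rw [mul_one, inv_mul_cancel, normPar_eq h2 s hψ 1 isUnit_one (intw_one ψ)]
    simp [normPar, kap]
  map_mul' g h := by
    have hg := (exists_intw h2 hψ ((rot F n)⁻¹ * g * rot F n)).choose_spec
    have hh := (exists_intw h2 hψ ((rot F n)⁻¹ * h * rot F n)).choose_spec
    have e : (rot F n)⁻¹ * (g * h) * rot F n =
        ((rot F n)⁻¹ * g * rot F n) * ((rot F n)⁻¹ * h * rot F n) := by group
    rw [e, normPar_eq h2 s hψ
      (weilOp h2 hψ ((rot F n)⁻¹ * g * rot F n) * weilOp h2 hψ ((rot F n)⁻¹ * h * rot F n))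
      (hg.1.mul hh.1) (hg.2.mul hh.2)]
    simp only [normPar, kap, map_mul, smul_mul_smul_comm, mul_div_mul_comm]

variable {ψ : AddChar F ℂ} {t c : F}

theorem trace_symOf_diag (c : F) (x : Fin n → F) (B : symM F n) :
    Matrix.trace ((symOf c x).1 * B.1) = c * (x ⬝ᵥ (B.1 *ᵥ x)) := trace_symOf c x B.1

/-- The operator of a Siegel element. -/
noncomputable def quad (ψ : AddChar F ℂ) (c : F) (B : symM F n) :
    Module.End ℂ ((Fin n → F) → ℂ) :=
  mulFun fun x => ψ (c * (x ⬝ᵥ (B.1 *ᵥ x)))

omit [Fintype F] in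
theorem conj_siegel_smul (B : symM F n) (v : Fin n ⊕ Fin n → F) :
    ((rot F n)⁻¹ * siegel B * rot F n) • v =
      Sum.elim (v ∘ Sum.inl) (v ∘ Sum.inr - B.1 *ᵥ (v ∘ Sum.inl)) := by
  rw [mul_smul, mul_smul, inv_smul_eq_iff, rot_smul, rot_smul, siegel_smul]
  simp only [Sum.elim_comp_inl, Sum.elim_comp_inr, Matrix.mulVec_neg, ← sub_eq_add_neg]

omit [Fintype F] in
theorem intw_quad (h2 : (2 : F) ≠ 0) (ψ : AddChar F ℂ) (c : F) (B : symM F n) :
    Intw (ψ.mulShift (2 * c)) ((rot F n)⁻¹ * siegel B * rot F n) (quad ψ c B) := by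
  intro v
  rw [conj_siegel_smul]
  refine LinearMap.ext fun f => funext fun x => ?_
  simp only [Module.End.mul_apply, op_apply, quad, mulFun_apply, Sum.elim_comp_inl,
    Sum.elim_comp_inr, AddChar.mulShift_apply, ← mul_assoc, ← AddChar.map_add_eq_mul]
  set a := v ∘ Sum.inl with ha
  set b := v ∘ Sum.inr with hb
  have hs : ∀ p r : Fin n → F, p ⬝ᵥ (B.1 *ᵥ r) = (B.1 *ᵥ p) ⬝ᵥ r := fun p r =>
    (sym_dot B.2 p r).symm
  congr 2
  simp only [sub_dotProduct, dotProduct_sub, Matrix.mulVec_add, add_dotProduct, dotProduct_add, hs,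
    dotProduct_comm (B.1 *ᵥ x) a]
  linear_combination (c * ((B.1 *ᵥ a) ⬝ᵥ a)) * mul_inv_cancel₀ h2

theorem weilPar_siegel (h2 : (2 : F) ≠ 0) (s : ℂ) {t' : F}
    (hψ' : ψ.mulShift (2 * c) t' ≠ 1) (B : symM F n) (f : parSpace F n s) (x : Fin n → F) :
    (weilPar h2 s hψ' (siegel B) f).1 x = ψ (c * (x ⬝ᵥ (B.1 *ᵥ x))) * f.1 x := by
  have hint := intw_quad h2 ψ c B
  have hne : quad ψ c B ≠ 0 := fun h => by
    have := congrFun (LinearMap.congr_fun h (fun _ => 1)) 0
    simp [quad, mulFun_apply] at this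
  have hm : ∀ y : Fin n → F, ψ (c * (-y ⬝ᵥ (B.1 *ᵥ -y))) = ψ (c * (y ⬝ᵥ (B.1 *ᵥ y))) := fun y => by
    rw [Matrix.mulVec_neg, neg_dotProduct_neg]
  let M : parCentralizer F n := ⟨quad ψ c B, mem_parCentralizer.mpr (commute_mulFun hm)⟩
  have hu : IsUnit M.1 := hint.isUnit h2 hψ' hne
  show (normPar s (weilOp h2 hψ' _) f).1 x = _
  rw [normPar_eq h2 s hψ' M hu hint, normPar, kap,
    det_mulFun h2 hm (by simp) M rfl]
  have hu' : LinearMap.det (res (-1) M) ≠ 0 := by
    have h1 := det_mulFun h2 hm (by simp) M rfl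
    let M' : parCentralizer F n := ⟨quad ψ c (-B), mem_parCentralizer.mpr (commute_mulFun fun y => by
      rw [Matrix.mulVec_neg, neg_dotProduct_neg])⟩
    have : M * M' = 1 := Subtype.ext (LinearMap.ext fun g => funext fun y => by
      show ψ _ * (ψ _ * g y) = g y
      rw [← mul_assoc, ← AddChar.map_add_eq_mul, AddSubgroup.coe_neg, Matrix.neg_mulVec,
        dotProduct_neg, mul_neg, add_neg_cancel, AddChar.map_zero_eq_one, one_mul])
    intro h0
    have e := congrArg (fun T => LinearMap.det (res (-1) T)) this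
    simp only [map_mul, map_one, h0, zero_mul] at e
    exact zero_ne_one e
  rw [div_self hu', one_smul, coe_res]
  rfl

theorem pr_weilPar (h2 : (2 : F) ≠ 0) (hψ : ψ t ≠ 1) (s : ℂ) {t' : F}
    (hψ' : ψ.mulShift (2 * c) t' ≠ 1) (S : symM F n) (f : parSpace F n s) (x : Fin n → F)
    [Decidable (S = symOf c x)] :
    (pr ψ (weilPar h2 s hψ') S f).1 x = if S = symOf c x then f.1 x else 0 := by
  classical
  simp only [pr, LinearMap.smul_apply, LinearMap.coe_sum, Finset.sum_apply,
    Submodule.coe_smul, Submodule.coe_sum, Pi.smul_apply, smul_eq_mul, weilPar_siegel h2 s hψ']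
  simp only [← trace_symOf_diag, ← mul_assoc, ← AddChar.map_add_eq_mul]
  rw [← Finset.sum_mul]
  split_ifs with h
  · subst h
    simp only [neg_add_cancel, AddChar.map_zero_eq_one, Finset.sum_const, Finset.card_univ,
      nsmul_eq_mul, mul_one]
    rw [← mul_assoc, inv_mul_cancel₀ card_ne, one_mul]
  · rw [Finset.sum_congr rfl (g := fun B : symM F n =>
      ψ (Matrix.trace ((symOf c x - S).1 * B.1))) (fun B _ => by
        rw [AddSubgroup.coe_sub, Matrix.sub_mul, Matrix.trace_sub]; ring_nf),
      sum_char h2 hψ (sub_ne_zero.mpr (Ne.symm h)), zero_mul, mul_zero]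

theorem rankLeOne_of_pr (h2 : (2 : F) ≠ 0) (hψ : ψ t ≠ 1) (s : ℂ) {t' : F}
    (hψ' : ψ.mulShift (2 * c) t' ≠ 1) :
    LowRank ψ (weilPar (n := n) h2 s hψ') := by
  classical
  intro S hS
  by_contra h1
  refine hS (LinearMap.ext fun f => Subtype.ext (funext fun x => ?_))
  rw [pr_weilPar h2 hψ, if_neg fun e => h1 (by rw [e]; exact ⟨c, x, rfl⟩)]
  rfl

theorem proj_weilPar_ne {k : ℕ} (h2 : (2 : F) ≠ 0) (hψ : ψ t ≠ 1) {s : ℂ} (hs : s * s = 1)
    {t' : F} (hψ' : ψ.mulShift (2 * c) t' ≠ 1) :
    proj ψ c (weilPar (n := k + 1) h2 s hψ') e0 ≠ 0 := by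
  classical
  set e : Fin (k + 1) → F := e0
  have he : e ≠ -e := fun h => h2 (by
    have := congrFun h 0
    simp [e, e0] at this
    linear_combination this)
  let f : parSpace F (k + 1) s := ⟨Pi.single e 1 + s • Pi.single (-e) 1, mem_parSpace.mpr (by
    funext x
    simp only [par_apply, Pi.add_apply, Pi.smul_apply, smul_eq_mul, Pi.single_apply, neg_inj,
      neg_eq_iff_eq_neg, neg_neg]
    rw [mul_add, ← mul_assoc, hs, one_mul, add_comm])⟩
  intro h
  have := congrFun (congrArg Subtype.val (LinearMap.congr_fun h f)) e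
  rw [proj, pr_weilPar h2 hψ, if_pos rfl] at this
  simp [f, Pi.single_eq_of_ne he] at this

theorem proj_weilPar_eq_zero {k : ℕ} (h2 : (2 : F) ≠ 0) (hψ : ψ t ≠ 1) (s : ℂ)
    {t' : F} (hψ' : ψ.mulShift (2 * c) t' ≠ 1) {c' : F} (hc : c ≠ 0) (hsq : ¬ IsSquare (c' / c)) :
    proj ψ c' (weilPar (n := k + 1) h2 s hψ') e0 = 0 := by
  classical
  refine LinearMap.ext fun f => Subtype.ext (funext fun x => ?_)
  rw [proj, pr_weilPar h2 hψ, if_neg]
  · rfl
  intro e
  refine hsq ⟨x 0, ?_⟩
  have h := congrFun (congrFun (congrArg Subtype.val e) 0) 0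
  simp [symOf, vecMulVec_apply, e0] at h
  rw [h]
  field_simp

/-! ### Irreducibility -/

/-- A small representation with no fixed vector is irreducible. -/
theorem irreducible_of_no_fixed (hodd : Odd (Fintype.card F)) (hn : 2 ≤ n) {V : Type*}
    [AddCommGroup V] [Module ℂ V] [FiniteDimensional ℂ V] [Nontrivial V]
    (σ : Representation ℂ (symplecticGroup (Fin n) F) V)
    (hdim : 2 * Module.finrank ℂ V ≤ Fintype.card F ^ n + 1)
    (hfix : ∀ v, (∀ g, σ g v = v) → v = 0) : σ.IsIrreducible := by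
  classical
  haveI : Fintype (symplecticGroup (Fin n) F) := Fintype.ofFinite _
  have hq : 9 ≤ Fintype.card F ^ n := by
    have h3 : 3 ≤ Fintype.card F := by
      have := Fintype.one_lt_card (α := F)
      obtain ⟨k, hk⟩ := hodd
      omega
    calc 9 ≤ Fintype.card F ^ 2 := Nat.pow_le_pow_left h3 2
      _ ≤ _ := Nat.pow_le_pow_right (by omega) hn
  have key : ∀ W : Subrepresentation σ, W.toSubmodule = ⊥ ∨ W.toSubmodule = ⊤ := by
    intro W
    by_contra hc
    push Not at hc
    obtain ⟨hbot, htop⟩ := hc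
    have h1 := Submodule.finrank_quotient_add_finrank W.toSubmodule
    have hlt := Submodule.finrank_lt htop
    by_cases hsmall : 2 * Module.finrank ℂ W.toSubmodule + 1 < Fintype.card F ^ n
    · have hsub := trivial_of_small hodd hn (V := W.toSubmodule) W.toRepresentation hsmall
      refine hbot (Submodule.eq_bot_iff _ |>.mpr fun v hv => hfix v fun g => ?_)
      exact congrArg Subtype.val (LinearMap.congr_fun (DFunLike.congr_fun hsub g) ⟨v, hv⟩)
    · let σq : symplecticGroup (Fin n) F →* Module.End ℂ (V ⧸ W.toSubmodule) :=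
        { toFun := fun g => W.toSubmodule.mapQ W.toSubmodule (σ g)
            (fun v hv => W.apply_mem_toSubmodule g hv)
          map_one' := by ext; simp
          map_mul' := fun g h => by ext; simp }
      have hquot := trivial_of_small hodd hn σq (by omega)
      obtain ⟨v, hv⟩ : ∃ v, v ∉ W.toSubmodule := by
        by_contra hc'
        push Not at hc'
        exact htop (Submodule.eq_top_iff'.mpr hc')
      have hu : (∑ g, σ g v) = 0 := hfix _ fun h => by
        rw [map_sum]
        refine Fintype.sum_equiv (Equiv.mulLeft h) _ _ fun g => ?_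
        rw [Equiv.coe_mulLeft, map_mul]
        rfl
      refine hv ?_
      have hD : ∀ g, Submodule.Quotient.mk (p := W.toSubmodule) (σ g v) =
          Submodule.Quotient.mk v := fun g =>
        LinearMap.congr_fun (DFunLike.congr_fun hquot g) (Submodule.Quotient.mk v)
      have e := congrArg W.toSubmodule.mkQ hu
      simp only [map_sum, map_zero, Submodule.mkQ_apply, hD, Finset.sum_const] at e
      rw [← Nat.cast_smul_eq_nsmul ℂ, smul_eq_zero, Submodule.Quotient.mk_eq_zero] at e
      exact e.resolve_left (Nat.cast_ne_zero.mpr Fintype.card_ne_zero)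
  exact {
    exists_pair_ne := ⟨⊥, ⊤, fun h => bot_ne_top (congrArg Subrepresentation.toSubmodule h)⟩
    eq_bot_or_eq_top := fun W => (key W).imp (fun h => Subrepresentation.ext h)
      (fun h => Subrepresentation.ext h) }

theorem no_fixed (hn : 1 ≤ n) (h2 : (2 : F) ≠ 0) (hψ : ψ t ≠ 1) (hc : c ≠ 0) {s : ℂ}
    {t' : F} (hψ' : ψ.mulShift (2 * c) t' ≠ 1) (f : parSpace F n s)
    (hf : ∀ g, weilPar h2 s hψ' g f = f) : f = 0 := by
  classical
  have hsupp : ∀ x, x ≠ 0 → f.1 x = 0 := by
    intro x hx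
    by_contra hne
    obtain ⟨B, hB⟩ := exists_trace_eq h2 (symOf c x).2
      (fun e => hx (by
        funext i
        have := congrFun (congrFun e i) i
        simpa [symOf, vecMulVec_apply, hc] using this)) t
    have e := congrFun (congrArg Subtype.val (hf (siegel B))) x
    rw [weilPar_siegel, ← trace_symOf_diag, hB] at e
    exact hψ ((mul_eq_right₀ hne).mp e)
  have hf' : f.1 = f.1 0 • Pi.single 0 1 := by
    funext x
    by_cases hx : x = 0
    · subst hx; simp
    · simp [hx, hsupp x hx]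
  obtain ⟨h, T, x, hu, hT, hx, hTx⟩ := exists_moving (ψ := ψ) hn h2 hψ hc
  let M : parCentralizer F n := ⟨T, mem_parCentralizer.mpr (hT.commute_par h2 hψ' hu)⟩
  have hres : ∀ s' : ℂ, LinearMap.det (res s' M) ≠ 0 := by
    intro s' h0
    obtain ⟨T', hu', hT'⟩ := exists_intw h2 hψ' h⁻¹
    let M' : parCentralizer F n := ⟨T', mem_parCentralizer.mpr (hT'.commute_par h2 hψ' hu')⟩
    have h1 := hT.mul hT'
    rw [mul_inv_cancel] at h1
    obtain ⟨a, ha⟩ := (intw_one (n := n) (ψ.mulShift (2 * c))).eq_smul h2 hψ' isUnit_one h1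
    have hMM : M * M' = a • 1 := Subtype.ext ha
    have e := congrArg (fun X => LinearMap.det (res s' X)) hMM
    simp only [map_mul, h0, zero_mul, res_smul, map_one, LinearMap.det_smul, mul_one] at e
    have ha0 : a = 0 := eq_zero_of_pow_eq_zero e.symm
    rw [ha0, zero_smul] at ha
    exact (hu.mul hu').ne_zero ha
  have e := congrFun (congrArg Subtype.val (hf (rot F n * h * (rot F n)⁻¹))) x
  change ((normPar s (weilOp h2 hψ' ((rot F n)⁻¹ * (rot F n * h * (rot F n)⁻¹) * rot F n)) f).1) x
    = _ at e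
  rw [show (rot F n)⁻¹ * (rot F n * h * (rot F n)⁻¹) * rot F n = h by group,
    normPar_eq h2 s hψ' M hu hT, normPar, LinearMap.smul_apply, Submodule.coe_smul, Pi.smul_apply,
    coe_res, hsupp x hx, hf', map_smul, Pi.smul_apply] at e
  simp only [smul_eq_mul, mul_eq_zero] at e
  have hk : kap M ≠ 0 := div_ne_zero (hres _) (hres _)
  have h0 : f.1 0 = 0 := (e.resolve_left hk).resolve_right hTx
  refine Subtype.ext (funext fun y => ?_)
  by_cases hy : y = 0
  · rw [hy, h0]; rfl
  · exact hsupp y hy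

theorem pr_repConj {V W : Type*} [AddCommGroup V] [Module ℂ V] [AddCommGroup W] [Module ℂ W]
    (e : V ≃ₗ[ℂ] W) (ρ : Representation ℂ (symplecticGroup (Fin n) F) V) (S : symM F n) :
    pr ψ (CharBasic.repConj e ρ) S = e.conj (pr ψ ρ S) := by
  refine LinearMap.ext fun w => ?_
  simp [pr, LinearEquiv.conj_apply_apply, map_sum]

/-- The Weil representations. -/
theorem exists_weil {k : ℕ} (hk : 1 ≤ k) (hodd : Odd (Fintype.card F)) (hψ : ψ t ≠ 1)
    (hc : c ≠ 0) {s : ℂ} (hs : s * s = 1) :
    ∃ (d : ℕ) (σ : Representation ℂ (symplecticGroup (Fin (k + 1)) F) (Fin d → ℂ)),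
      σ.IsIrreducible ∧ LowRank ψ σ ∧ 2 * (d : ℂ) = (Fintype.card F : ℂ) ^ (k + 1) + s ∧
      proj ψ c σ e0 ≠ 0 ∧
      ∀ c' : F, ¬ IsSquare (c' / c) → proj ψ c' σ e0 = 0 := by
  classical
  have h2 := two_ne_zero_of_odd hodd
  have hψ' := shift_ne h2 hψ hc
  let ρ := weilPar (n := k + 1) h2 s hψ'
  let e : parSpace F (k + 1) s ≃ₗ[ℂ] (Fin (Module.finrank ℂ (parSpace F (k + 1) s)) → ℂ) :=
    (Module.finBasis ℂ (parSpace F (k + 1) s)).equivFun
  have hd : 2 * (Module.finrank ℂ (parSpace F (k + 1) s) : ℂ) =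
      (Fintype.card F : ℂ) ^ (k + 1) + s :=
    finrank_parSpace h2 hs
  have hne : proj ψ c ρ e0 ≠ 0 := proj_weilPar_ne h2 hψ hs hψ'
  refine ⟨_, CharBasic.repConj e ρ, ?_, fun S hS => ?_, hd, ?_, fun c' hc' => ?_⟩
  · haveI : Nontrivial (parSpace F (k + 1) s) := by
      by_contra hc'
      rw [not_nontrivial_iff_subsingleton] at hc'
      exact hne (LinearMap.ext fun v => Subsingleton.elim _ _)
    haveI : Nontrivial (Fin (Module.finrank ℂ (parSpace F (k + 1) s)) → ℂ) := e.symm.toEquiv.nontrivial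
    refine irreducible_of_no_fixed hodd (by omega) _ ?_ fun v hv => ?_
    · rw [Module.finrank_fin_fun]
      rcases mul_self_eq_one_iff.mp hs with rfl | rfl
      · have : 2 * Module.finrank ℂ (parSpace F (k + 1) (1 : ℂ)) = Fintype.card F ^ (k + 1) + 1 := by
          exact_mod_cast hd
        omega
      · have := finrank_odd (F := F) (n := k + 1) h2
        change 2 * Module.finrank ℂ (parSpace F (k + 1) (-1)) ≤ _
        omega
    · have := no_fixed (f := e.symm v) (by omega) h2 hψ hc hψ' fun g => by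
        apply e.injective
        have := hv g
        rw [CharBasic.repConj_apply] at this
        rw [this, LinearEquiv.apply_symm_apply]
      simpa using congrArg e this
  · refine rankLeOne_of_pr h2 hψ s hψ' S fun h => hS ?_
    rw [pr_repConj, h, map_zero]
  · intro h
    rw [proj, pr_repConj] at h
    exact hne (e.conj.injective (h.trans (map_zero _).symm))
  · rw [proj, pr_repConj, show pr ψ ρ _ = 0 from proj_weilPar_eq_zero h2 hψ s hψ' hc hc', map_zero]

end Cfsg.Agent.SpGap32Weil
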