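import Cfsg.Agent.Lib.TransvectionMax

/-!
Symplectic groups in characteristic two: the elements of the radical of a point stabiliser, and subgroups containing
a large part of one radical.
-/

set_option autoImplicit false
set_option linter.unusedSectionVars false
set_option linter.unusedSimpArgs false
set_option linter.unnecessarySeqFocus false
set_option linter.unreachableTactic false
set_option linter.unusedTactic false

namespace Cfsg.Agent.SpTwoRad

open Cfsg.Agent.TransvectionMax
open scoped MatrixGroups Matrix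

variable {ι : Type} [Fintype ι] [DecidableEq ι] {F : Type*} [Field F] [CharP F 2]

/-- The action on vectors. -/
abbrev ac (g : GL ι F) (x : ι → F) : ι → F := (g : Matrix ι ι F) *ᵥ x

/-- The element `(u, χ)` of the radical at `a`. -/
noncomputable def S (f : (ι → F) → (ι → F) → F) (a u : ι → F) (χ : F) : GL ι F :=
  st f (a + u) 1 * st f a (1 + χ) * st f u 1

/-- `p` spans a point in the orbit of `a`. -/
def Pt (L : Subgroup (GL ι F)) (a p : ι → F) : Prop := ∃ g ∈ L, ∃ c : F, c ≠ 0 ∧ ac g a = c • p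

/-- The standing hypotheses. -/
structure Ctx (f : (ι → F) → (ι → F) → F) (L : Subgroup (GL ι F)) (a : ι → F) : Prop where
  sf : Cfsg.Geo.IsSymplecticForm f
  ne : a ≠ 0
  iso : ∀ g ∈ L, ∀ x y, f (ac g x) (ac g y) = f x y
  irr : ∀ W : Submodule F (ι → F), (∀ g ∈ L, ∀ w ∈ W, ac g w ∈ W) → W = ⊥ ∨ W = ⊤
  graph : ∀ u, f u a = 0 → ∃ χ, S f a u χ ∈ L

variable {f : (ι → F) → (ι → F) → F}

section Form

variable (hf : Cfsg.Geo.IsSymplecticForm f)
include hf

lemma symm (x y : ι → F) : f x y = f y x := by rw [hf.skew x y, CharTwo.neg_eq]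

lemma vadd_self (x : ι → F) : x + x = 0 := by
  rw [← two_smul F x, CharTwo.two_eq_zero, zero_smul]

lemma ac_mul (g h : GL ι F) (x : ι → F) : ac (g * h) x = ac g (ac h x) := mul_act g h x

theorem S_act {a u : ι → F} (h : f u a = 0) (χ : F) (x : ι → F) :
    ac (S f a u χ) x = x + f x a • u + f x u • a + (χ * f x a) • a := by
  have h' : f a u = 0 := by rw [symm hf, h]
  have := CharTwo.two_eq_zero (R := F)
  simp only [ac, S, mul_act, st_act hf, hf.bilinear.add_left, hf.bilinear.add_right, hf.bilinear.smul_left,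
    hf.bilinear.smul_right, hf.alternating, h, h', mul_zero, add_zero, zero_add, one_mul]
  match_scalars <;> ring_nf <;> simp [this]

theorem S_congr {a u : ι → F} (h : f u a = 0) (χ κ : F) : S f a (u + κ • a) χ = S f a u χ := by
  have := CharTwo.two_eq_zero (R := F)
  refine gl_ext fun x => ?_
  change ac _ _ = ac _ _
  rw [S_act hf h, S_act hf (by simp [hf.bilinear.add_left, hf.bilinear.smul_left, h, hf.alternating])]
  simp only [hf.bilinear.add_right, hf.bilinear.smul_right]
  match_scalars <;> ring_nf <;> simp [this]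

theorem S_mul {a u u' : ι → F} (h : f u a = 0) (h' : f u' a = 0) (χ χ' : F) :
    S f a u χ * S f a u' χ' = S f a (u + u') (χ + χ' + f u u') := by
  have := CharTwo.two_eq_zero (R := F)
  refine gl_ext fun x => ?_
  change ac _ _ = ac _ _
  rw [ac_mul hf, S_act hf h', S_act hf h, S_act hf (by rw [hf.bilinear.add_left, h, h', add_zero])]
  simp only [hf.bilinear.add_left, hf.bilinear.add_right, hf.bilinear.smul_left, hf.alternating, h', symm hf a u, h,
    symm hf u' u, mul_zero, add_zero]
  match_scalars <;> ring_nf <;> simp [this]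

theorem S_transv (a : ι → F) (χ : F) : S f a 0 χ = st f a χ := by
  refine gl_ext fun x => ?_
  change ac _ _ = _
  rw [S_act hf (zero_left hf.bilinear a), st_act hf, zero_right hf.bilinear]
  simp

theorem S_one (a : ι → F) : S f a 0 0 = 1 := by rw [S_transv hf, st_zero hf]

theorem S_smul {a u : ι → F} (h : f u a = 0) (c χ : F) : S f (c • a) u χ = S f a (c • u) (c ^ 2 * χ) := by
  refine gl_ext fun x => ?_
  change ac _ _ = ac _ _
  rw [S_act hf (by rw [hf.bilinear.smul_right, h, mul_zero]), S_act hf (by rw [hf.bilinear.smul_left, h, mul_zero])]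
  simp only [hf.bilinear.smul_right]
  match_scalars <;> ring

theorem S_self {a : ι → F} (κ χ : F) : S f a (κ • a) χ = S f a 0 χ := by
  rw [← S_congr hf (zero_left hf.bilinear a) χ κ, zero_add]

theorem S_swap {a u : ι → F} (h : f u a = 0) : S f a u 0 = S f u a 0 := by
  refine gl_ext fun x => ?_
  change ac _ _ = ac _ _
  rw [S_act hf h, S_act hf (by rw [symm hf, h])]
  match_scalars <;> ring

theorem S_conj {g : GL ι F} (hg : ∀ x y, f (ac g x) (ac g y) = f x y) (a u : ι → F) (χ : F) :
    g * S f a u χ * g⁻¹ = S f (ac g a) (ac g u) χ := by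
  have e : g * S f a u χ * g⁻¹ =
      (g * st f (a + u) 1 * g⁻¹) * (g * st f a (1 + χ) * g⁻¹) * (g * st f u 1 * g⁻¹) := by
    rw [S]; group
  rw [e, st_conj hf hg, st_conj hf hg, st_conj hf hg, S]
  simp only [ac, Matrix.mulVec_add]

theorem S_preserves (a u : ι → F) (χ : F) (x y : ι → F) : f (ac (S f a u χ) x) (ac (S f a u χ) y) = f x y := by
  simp only [ac, S, mul_act, st_preserves hf]

/-- The projection to the perpendicular of a hyperbolic pair. -/
def proj (f : (ι → F) → (ι → F) → F) (a b v : ι → F) : ι → F := v + f v b • a + f v a • b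

omit hf in
theorem decomp (a b v : ι → F) : v = f v b • a + f v a • b + proj f a b v := by
  have := CharTwo.two_eq_zero (R := F)
  rw [proj]
  match_scalars <;> ring_nf <;> simp [this]

theorem proj_perp {a b : ι → F} (hab : f a b = 1) (v : ι → F) :
    f (proj f a b v) a = 0 ∧ f (proj f a b v) b = 0 := by
  have hba : f b a = 1 := by rw [symm hf, hab]
  simp [proj, hf.bilinear.add_left, hf.bilinear.smul_left, hf.alternating, hab, hba, CharTwo.add_self_eq_zero]

theorem pair_ne {p q : ι → F} (h : f p q ≠ 0) : p ≠ 0 ∧ q ≠ 0 :=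
  ⟨fun h0 => h (by rw [h0, zero_left hf.bilinear]), fun h0 => h (by rw [h0, zero_right hf.bilinear])⟩

end Form

namespace Ctx

variable {L : Subgroup (GL ι F)} {a : ι → F} (hC : Ctx f L a)
include hC

theorem pt_self : Pt L a a := ⟨1, L.one_mem, 1, one_ne_zero, by simp [ac]⟩

theorem pt_smul {p : ι → F} (hp : Pt L a p) {c : F} (hc : c ≠ 0) : Pt L a (c • p) := by
  obtain ⟨g, hg, d, hd, h⟩ := hp
  exact ⟨g, hg, d / c, div_ne_zero hd hc, by rw [h, smul_smul, div_mul_cancel₀ _ hc]⟩

theorem pt_ac {p : ι → F} (hp : Pt L a p) {g : GL ι F} (hg : g ∈ L) : Pt L a (ac g p) := by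
  obtain ⟨h, hh, d, hd, e⟩ := hp
  exact ⟨g * h, mul_mem hg hh, d, hd, by rw [ac_mul hC.sf, e]; exact Matrix.mulVec_smul _ _ _⟩

theorem pt_ne {p : ι → F} (hp : Pt L a p) : p ≠ 0 := by
  obtain ⟨g, -, d, -, e⟩ := hp
  rintro rfl
  rw [smul_zero] at e
  exact act_ne_zero g hC.ne e

/-- Moving a point to another. -/
theorem exists_map {p q : ι → F} (hp : Pt L a p) (hq : Pt L a q) :
    ∃ g ∈ L, ∃ c : F, c ≠ 0 ∧ ac g p = c • q := by
  obtain ⟨g, hg, d, hd, e⟩ := hp
  obtain ⟨h, hh, d', hd', e'⟩ := hq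
  refine ⟨h * g⁻¹, mul_mem hh (inv_mem hg), d' / d, div_ne_zero hd' hd, ?_⟩
  have : p = d⁻¹ • ac g a := by rw [e, smul_smul, inv_mul_cancel₀ hd, one_smul]
  rw [this, ac_mul hC.sf]
  simp only [ac, Matrix.mulVec_smul, inv_act_act]
  rw [show (h : Matrix ι ι F) *ᵥ a = d' • q from e', smul_smul, inv_mul_eq_div]

/-- Every point carries a radical graph. -/
theorem pt_graph {p u : ι → F} (hp : Pt L a p) (hu : f u p = 0) : ∃ χ, S f p u χ ∈ L := by
  obtain ⟨g, hg, d, hd, e⟩ := hp
  have hiso := hC.iso g hg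
  have h0 : f (ac g⁻¹ u) a = 0 := by
    rw [← hiso, show ac g (ac g⁻¹ u) = u from act_inv_act g u, e, hC.sf.bilinear.smul_right, hu, mul_zero]
  have h1 : f (d⁻¹ • ac g⁻¹ u) a = 0 := by rw [hC.sf.bilinear.smul_left, h0, mul_zero]
  obtain ⟨χ, hχ⟩ := hC.graph _ h1
  refine ⟨d ^ 2 * χ, ?_⟩
  have hm := mul_mem (mul_mem hg hχ) (inv_mem hg)
  have hgu : ac g (d⁻¹ • ac g⁻¹ u) = d⁻¹ • u := by simp only [ac, Matrix.mulVec_smul, act_inv_act]
  rw [S_conj hC.sf hiso, e, hgu, S_smul hC.sf (by rw [hC.sf.bilinear.smul_left, hu, mul_zero]), smul_smul,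
    mul_inv_cancel₀ hd, one_smul] at hm
  exact hm

theorem exists_partner {p : ι → F} (hp : Pt L a p) : ∃ q, Pt L a q ∧ f p q = 1 := by
  have key : ∃ q, Pt L a q ∧ f p q ≠ 0 := by
    by_contra hcon
    push Not at hcon
    let W : Submodule F (ι → F) := Submodule.span F {q | Pt L a q}
    have hW : ∀ g ∈ L, ∀ w ∈ W, ac g w ∈ W := by
      intro g hg w hw
      induction hw using Submodule.span_induction with
      | mem x hx => exact Submodule.subset_span (hC.pt_ac hx hg)
      | zero => simp [ac]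
      | add x y _ _ hx hy => simp only [ac, Matrix.mulVec_add]; exact add_mem hx hy
      | smul c x _ hx => simp only [ac, Matrix.mulVec_smul]; exact W.smul_mem c hx
    rcases hC.irr W hW with h | h
    · have : a ∈ W := Submodule.subset_span hC.pt_self
      rw [h, Submodule.mem_bot] at this
      exact hC.ne this
    · obtain ⟨y, hy⟩ := (hC.sf.nondegenerate p (hC.pt_ne hp)).2
      apply hy
      have hyW : y ∈ W := h ▸ Submodule.mem_top
      clear hy
      induction hyW using Submodule.span_induction with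
      | mem x hx => exact hcon x hx
      | zero => exact zero_right hC.sf.bilinear p
      | add x y _ _ hx hy => rw [hC.sf.bilinear.add_right, hx, hy, add_zero]
      | smul c x _ hx => rw [hC.sf.bilinear.smul_right, hx, mul_zero]
  obtain ⟨q, hq, hpq⟩ := key
  exact ⟨(f p q)⁻¹ • q, hC.pt_smul hq (inv_ne_zero hpq),
    by rw [hC.sf.bilinear.smul_right, inv_mul_cancel₀ hpq]⟩

end Ctx

end Cfsg.Agent.SpTwoRad
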