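import Cfsg.Agent.Lib.SpTwoRadPhi

/-!
When the graph functions vanish on perpendicular points the orbit is the set of singular points of a quadratic form.
-/

set_option autoImplicit false
set_option linter.unusedSectionVars false
set_option linter.unusedSimpArgs false
set_option linter.unnecessarySeqFocus false
set_option linter.unreachableTactic false
set_option linter.unusedTactic false

namespace Cfsg.Agent.SpTwoRad

open Cfsg.Agent.TransvectionMax
open scoped MatrixGroups Matrix

variable {ι : Type} [Fintype ι] [DecidableEq ι] {F : Type*} [Field F] [CharP F 2] [Fintype F]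
  {f : (ι → F) → (ι → F) → F} {L : Subgroup (GL ι F)} {a : ι → F}

namespace Ctx

variable (hC : Ctx f L a) (hN : NoTr f L a) (hG : Good f L a)
include hC hN hG

omit hN hG in
/-- The image of the partner under a radical element. -/
theorem move_partner {p q u : ι → F} (hp : Pt L a p) (hq : Pt L a q) (hpq : f p q = 1) (hu : f u p = 0)
    (huq : f u q = 0) : Pt L a (q + u + phi f L p u • p) := by
  have h := hC.pt_ac hq (hC.phi_spec hp hu)
  rwa [S_act hC.sf hu, symm hC.sf q p, hpq, symm hC.sf q u, huq, one_smul, zero_smul, add_zero, mul_one] at h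

theorem zero_line {p q u : ι → F} (hp : Pt L a p) (hq : Pt L a q) (hpq : f p q = 1) (hu : f u p = 0)
    (huq : f u q = 0) (h0 : phi f L p u = 0) (γ : F) : phi f L q (γ • u) = 0 := by
  have hm := hC.move_partner hp hq hpq hu huq
  rw [h0, zero_smul, add_zero] at hm
  have h := hG q (q + u) hq hm (by rw [hC.sf.bilinear.add_left, hC.sf.alternating, huq, add_zero]) γ
  rwa [smul_add, add_comm, hC.phi_shift hN hq (by rw [hC.sf.bilinear.smul_left, huq, mul_zero])] at h

theorem zero_line_self {p q u : ι → F} (hp : Pt L a p) (hq : Pt L a q) (hpq : f p q = 1) (hu : f u p = 0)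
    (huq : f u q = 0) (h0 : phi f L p u = 0) (γ : F) : phi f L p (γ • u) = 0 :=
  hC.zero_line hN hG hq hp (by rw [symm hC.sf, hpq]) huq hu
    (by simpa using hC.zero_line hN hG hp hq hpq hu huq h0 1) γ

omit hG in
theorem surj_of_zero_free {p w : ι → F} (hp : Pt L a p) (hw : f w p = 0)
    (hfree : ∀ x : F, phi f L p (x • w) = 0 → x = 0) (s : F) : ∃ x : F, phi f L p (x • w) = s := by
  have hl : ∀ x : F, f (x • w) p = 0 := fun x => by rw [hC.sf.bilinear.smul_left, hw, mul_zero]
  have hinj : Function.Injective fun x : F => phi f L p (x • w) := by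
    intro x y hxy
    refine CharTwo.add_eq_zero.1 (hfree (x + y) ?_)
    simp only at hxy
    rw [add_smul, hC.phi_add hN hp (hl x) (hl y), hxy, CharTwo.add_self_eq_zero, zero_add, hC.sf.bilinear.smul_left,
      hC.sf.bilinear.smul_right, hC.sf.alternating, mul_zero, mul_zero]
  exact (Finite.injective_iff_surjective.1 hinj) s

omit hN hG in
theorem exists_nonperp {p q e : ι → F} (hpq : f p q = 1) (hep : f e p = 0) (heq : f e q = 0) (he : e ≠ 0) :
    ∃ w, f w p = 0 ∧ f w q = 0 ∧ f w e ≠ 0 := by
  have hf := hC.sf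
  obtain ⟨y, hy⟩ := (hf.nondegenerate e he).1
  refine ⟨proj f p q y, (proj_perp hf hpq y).1, (proj_perp hf hpq y).2, ?_⟩
  simp only [proj, hf.bilinear.add_left, hf.bilinear.smul_left, symm hf p e, hep, symm hf q e, heq, mul_zero,
    add_zero]
  exact hy

theorem surj {p q : ι → F} (hdim : 4 ≤ Fintype.card ι) (hp : Pt L a p) (hq : Pt L a q) (hpq : f p q = 1) (s : F) :
    ∃ w, f w p = 0 ∧ f w q = 0 ∧ phi f L p w = s := by
  have hf := hC.sf
  obtain ⟨e, he0, hep, heq⟩ := exists_perp_pair hf hdim p q
  by_cases hfree : ∀ x : F, phi f L p (x • e) = 0 → x = 0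
  · obtain ⟨x, hx⟩ := hC.surj_of_zero_free hN hp hep hfree s
    exact ⟨x • e, by rw [hf.bilinear.smul_left, hep, mul_zero], by rw [hf.bilinear.smul_left, heq, mul_zero], hx⟩
  push Not at hfree
  obtain ⟨x, hx, hx0⟩ := hfree
  set e' := x • e with he'
  have hep' : f e' p = 0 := by rw [he', hf.bilinear.smul_left, hep, mul_zero]
  have heq' : f e' q = 0 := by rw [he', hf.bilinear.smul_left, heq, mul_zero]
  obtain ⟨w, hwp, hwq, hwe⟩ := hC.exists_nonperp hpq hep' heq' (smul_ne_zero hx0 he0)
  set k := (s + phi f L p w) / f w e' with hk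
  refine ⟨w + k • e', by simp [hf.bilinear.add_left, hf.bilinear.smul_left, hwp, hep'],
    by simp [hf.bilinear.add_left, hf.bilinear.smul_left, hwq, heq'], ?_⟩
  rw [hC.phi_add hN hp hwp (by rw [hf.bilinear.smul_left, hep', mul_zero]),
    hC.zero_line_self hN hG hp hq hpq hep' heq' hx, hf.bilinear.smul_right, hk, div_mul_cancel₀ _ hwe]
  linear_combination (phi f L p w) * CharTwo.two_eq_zero (R := F)

/-- Each coset meets the orbit once. -/
theorem unique_point {p q : ι → F} (hdim : 4 ≤ Fintype.card ι) (hp : Pt L a p) (hq : Pt L a q) (hpq : f p q = 1)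
    {t : F} (h : Pt L a (q + t • p)) : t = 0 := by
  have hf := hC.sf
  by_contra ht
  have hqp : f q p = 1 := by rw [symm hf, hpq]
  obtain ⟨w, hwq, hwp, hw⟩ := hC.surj hN hG hdim hq hp hqp t⁻¹
  have h1 := hC.pt_ac h (hC.phi_spec hq hwq)
  have e : ac (S f q w (phi f L q w)) (q + t • p) = t • p + t • w := by
    rw [S_act hf hwq, hw]
    simp only [hf.bilinear.add_left, hf.bilinear.smul_left, hf.alternating, hpq, symm hf q w, hwq, symm hf p w, hwp,
      mul_zero, mul_one, zero_add, add_zero, zero_smul, inv_mul_cancel₀ ht, one_smul]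
    have := CharTwo.two_eq_zero (R := F)
    match_scalars <;> ring_nf <;> simp [this]
  rw [e] at h1
  have h2 := hC.pt_smul h1 (inv_ne_zero ht)
  rw [smul_add, smul_smul, smul_smul, inv_mul_cancel₀ ht, one_smul, one_smul] at h2
  have h3 := hG p (p + w) hp h2 (by rw [hf.bilinear.add_left, hf.alternating, hwp, add_zero]) 1
  rw [one_smul] at h3
  have hw0 : phi f L p w = 0 := by
    rw [hC.phi_add hN hp (hf.alternating p) hwp, symm hf p w, hwp, add_zero] at h3
    have := hC.phi_self hN hp 1
    rw [one_smul] at this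
    rwa [this, zero_add] at h3
  have h4 := hC.zero_line hN hG hp hq hpq hwp hwq hw0 1
  rw [one_smul, hw] at h4
  exact inv_ne_zero ht h4

/-- Opposite graphs at a non-zero value. -/
theorem opposite {p q u : ι → F} (hdim : 4 ≤ Fintype.card ι) (hp : Pt L a p) (hq : Pt L a q) (hpq : f p q = 1)
    (hu : f u p = 0) (huq : f u q = 0) (hs : phi f L p u ≠ 0) :
    phi f L q ((phi f L p u)⁻¹ • u) = (phi f L p u)⁻¹ := by
  have hf := hC.sf
  set s := phi f L p u with hsd
  set u' := s⁻¹ • u with hu'
  set ψ := phi f L q u' with hψ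
  have hqp : f q p = 1 := by rw [symm hf, hpq]
  have h1 := hC.pt_smul (hC.move_partner hp hq hpq hu huq) (inv_ne_zero hs)
  rw [smul_add, smul_add, smul_smul, ← hsd, inv_mul_cancel₀ hs, one_smul] at h1
  have h2 := hC.move_partner hq hp hqp (u := u') (by rw [hu', hf.bilinear.smul_left, huq, mul_zero])
    (by rw [hu', hf.bilinear.smul_left, hu, mul_zero])
  rw [← hψ] at h2
  have e : p + u' + ψ • q = (s⁻¹ • q + u' + p) + (ψ + s⁻¹) • q := by
    have := CharTwo.two_eq_zero (R := F)
    match_scalars <;> ring_nf <;> simp [this]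
  rw [e] at h2
  have h3 := hC.unique_point hN hG hdim hq h1 (by
    simp [hf.bilinear.add_right, hf.bilinear.smul_right, hf.alternating, hqp, hu', symm hf q u, huq]) h2
  exact CharTwo.add_eq_zero.1 h3

theorem phi_sq {p q u : ι → F} (hdim : 4 ≤ Fintype.card ι) (hp : Pt L a p) (hq : Pt L a q) (hpq : f p q = 1)
    (hu : f u p = 0) (huq : f u q = 0) (c : F) : phi f L p (c • u) = c ^ 2 * phi f L p u := by
  have hf := hC.sf
  have hl : ∀ {w : ι → F}, f w p = 0 → ∀ x : F, f (x • w) p = 0 := fun h x => by
    rw [hf.bilinear.smul_left, h, mul_zero]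
  by_cases hex : ∃ e, e ≠ 0 ∧ f e p = 0 ∧ f e q = 0 ∧ phi f L p e = 0
  · obtain ⟨e, he0, hep, heq, he⟩ := hex
    have main : ∀ w, f w p = 0 → f w q = 0 → f w e ≠ 0 → phi f L p (c • w) = c ^ 2 * phi f L p w := by
      intro w hwp hwq hwe
      set k := phi f L p w / f w e with hk
      have hz : phi f L p (w + k • e) = 0 := by
        rw [hC.phi_add hN hp hwp (hl hep k), hC.zero_line_self hN hG hp hq hpq hep heq he, hf.bilinear.smul_right, hk,
          div_mul_cancel₀ _ hwe, add_zero, CharTwo.add_self_eq_zero]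
      have hwk : f (w + k • e) p = 0 := by rw [hf.bilinear.add_left, hwp, hl hep, add_zero]
      have hz' := hC.zero_line_self hN hG hp hq hpq hwk
        (by rw [hf.bilinear.add_left, hwq, hf.bilinear.smul_left, heq, mul_zero, add_zero]) hz c
      rw [smul_add, smul_smul, hC.phi_add hN hp (hl hwp c) (hl hep _),
        hC.zero_line_self hN hG hp hq hpq hep heq he, hf.bilinear.smul_left, hf.bilinear.smul_right, hk,
        mul_assoc c, div_mul_cancel₀ _ hwe, add_zero] at hz'
      rw [CharTwo.add_eq_zero.1 hz']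
      ring
    by_cases hue : f u e = 0
    swap
    · exact main u hu huq hue
    obtain ⟨w, hwp, hwq, hwe⟩ := hC.exists_nonperp hpq hep heq he0
    have h1 := main w hwp hwq hwe
    have h2 := main (u + w) (by rw [hf.bilinear.add_left, hu, hwp, add_zero])
      (by rw [hf.bilinear.add_left, huq, hwq, add_zero]) (by rw [hf.bilinear.add_left, hue, zero_add]; exact hwe)
    rw [smul_add, hC.phi_add hN hp (hl hu c) (hl hwp c), hC.phi_add hN hp hu hwp, h1, hf.bilinear.smul_left,
      hf.bilinear.smul_right] at h2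
    linear_combination h2
  push Not at hex
  by_cases hu0 : u = 0
  · rw [hu0, smul_zero, hC.phi_zero hN hp, mul_zero]
  by_cases hc : c = 0
  · rw [hc, zero_smul, hC.phi_zero hN hp]; ring
  have hqp : f q p = 1 := by rw [symm hf, hpq]
  -- the swaps
  have swap : ∀ x : F, x ≠ 0 → ∃ g ∈ L, ∀ s, s = phi f L p (x • u) → s ≠ 0 ∧ ac g p = s⁻¹ • q ∧ ac g q = s • p ∧
      ac g u = u := by
    intro x hx
    have hxp : f (x • u) p = 0 := hl hu x
    have hxq : f (x • u) q = 0 := by rw [hf.bilinear.smul_left, huq, mul_zero]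
    have hs : phi f L p (x • u) ≠ 0 := hex _ (smul_ne_zero hx hu0) hxp hxq
    have hx' := hC.opposite hN hG hdim hp hq hpq hxp hxq hs
    set s := phi f L p (x • u) with hsd
    have hS := hC.phi_spec hp hxp
    have hT := hC.phi_spec hq (u := s⁻¹ • x • u) (by rw [hf.bilinear.smul_left, hxq, mul_zero])
    rw [← hsd] at hS
    rw [hx'] at hT
    refine ⟨_, mul_mem (mul_mem hS hT) hS, fun s' hs' => ?_⟩
    subst hs'
    have := CharTwo.two_eq_zero (R := F)
    refine ⟨hs, ?_, ?_, ?_⟩ <;>
      simp only [ac_mul hf, S_act hf hxp, S_act hf (show f (s⁻¹ • x • u) q = 0 by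
          rw [hf.bilinear.smul_left, hxq, mul_zero]), hf.bilinear.add_left, hf.bilinear.smul_left,
          hf.bilinear.smul_right, hf.alternating, hpq, hqp, hu, huq, symm hf p u, symm hf q u] <;>
      match_scalars <;> field_simp <;> ring_nf <;>
      simp [this, show (4 : F) = 0 by linear_combination (2 : F) * this, show (3 : F) = 1 by linear_combination this]
  set s₁ := phi f L p u with hs₁
  have hs₁0 : s₁ ≠ 0 := hex u hu0 hu huq
  obtain ⟨x, hx⟩ := hC.surj_of_zero_free hN hp hu (fun y hy => by
    by_contra hy0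
    exact hex _ (smul_ne_zero hy0 hu0) (hl hu y) (by rw [hf.bilinear.smul_left, huq, mul_zero]) hy) (c * s₁)
  have hx0 : x ≠ 0 := fun h => mul_ne_zero hc hs₁0 (by rw [← hx, h, zero_smul, hC.phi_zero hN hp])
  obtain ⟨g₁, hg₁, h₁⟩ := swap 1 one_ne_zero
  obtain ⟨g₂, hg₂, h₂⟩ := swap x hx0
  obtain ⟨-, h₁p, h₁q, h₁u⟩ := h₁ s₁ (by rw [one_smul])
  obtain ⟨-, h₂p, h₂q, h₂u⟩ := h₂ (c * s₁) hx.symm
  have hgp : ac (g₂ * g₁) p = c • p := by
    rw [ac_mul hf, h₁p]
    simp only [ac] at h₂q ⊢
    rw [Matrix.mulVec_smul, h₂q, smul_smul]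
    congr 1
    field_simp
  have h := hC.phi_conj hN hp hu (mul_mem hg₂ hg₁)
  rw [hgp, ac_mul hf, h₁u, h₂u] at h
  rw [hC.phi_scale hN hp hu hc, h]

theorem phi_swap {p q u : ι → F} (hdim : 4 ≤ Fintype.card ι) (hp : Pt L a p) (hq : Pt L a q) (hpq : f p q = 1)
    (hu : f u p = 0) (huq : f u q = 0) : phi f L q u = phi f L p u := by
  by_cases hs : phi f L p u = 0
  · rw [hs]
    simpa using hC.zero_line hN hG hp hq hpq hu huq hs 1
  have h := hC.opposite hN hG hdim hp hq hpq hu huq hs
  rw [hC.phi_sq hN hG hdim hq hp (by rw [symm hC.sf, hpq]) huq hu] at h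
  field_simp at h
  exact h

/-- The quadratic form. -/
theorem exists_form (hdim : 4 ≤ Fintype.card ι) :
    ∃ Q : QuadraticForm F (ι → F), (∀ u v, QuadraticMap.polar (⇑Q) u v = f u v) ∧
      (∀ g ∈ L, ∀ v, Q (ac g v) = Q v) ∧ (∀ p u, Q p = 0 → f u p = 0 → S f p u (Q u) ∈ L) := by
  classical
  have hf := hC.sf
  have ha := hC.pt_self
  obtain ⟨b, hb, hab⟩ := hC.exists_partner ha
  have hba : f b a = 1 := by rw [symm hf, hab]
  have hπ := fun v => proj_perp hf hab v
  let Qf : (ι → F) → F := fun v => f v b * f v a + phi f L a (proj f a b v)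
  have hπadd : ∀ v w, proj f a b (v + w) = proj f a b v + proj f a b w := fun v w => by
    simp only [proj, hf.bilinear.add_left]; module
  have hπsmul : ∀ (c : F) v, proj f a b (c • v) = c • proj f a b v := fun c v => by
    simp only [proj, hf.bilinear.smul_left]; module
  have hsmul : ∀ (c : F) v, Qf (c • v) = c * c * Qf v := fun c v => by
    simp only [Qf, hπsmul, hf.bilinear.smul_left, hC.phi_sq hN hG hdim ha hb hab (hπ v).1 (hπ v).2]
    ring
  have hadd : ∀ v w, Qf (v + w) = Qf v + Qf w + f v w := fun v w => by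
    have e : f v w = f v b * f w a + f v a * f w b + f (proj f a b v) (proj f a b w) := by
      have := CharTwo.two_eq_zero (R := F)
      simp only [proj, hf.bilinear.add_left, hf.bilinear.add_right, hf.bilinear.smul_left, hf.bilinear.smul_right,
        hf.alternating, hab, hba, symm hf a w, symm hf b w]
      ring_nf
      simp [this, show (4 : F) = 0 by linear_combination (2 : F) * this]
    simp only [Qf, hπadd, hC.phi_add hN ha (hπ v).1 (hπ w).1, hf.bilinear.add_left]
    rw [e]
    ring
  have hpol : ∀ v w, QuadraticMap.polar Qf v w = f v w := fun v w => by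
    rw [QuadraticMap.polar, hadd]; ring
  let Q : QuadraticForm F (ι → F) := QuadraticMap.ofPolar Qf hsmul
    (fun x x' y => by simp only [hpol]; exact hf.bilinear.add_left x x' y)
    (fun c x y => by simp only [hpol]; exact hf.bilinear.smul_left c x y)
  have hQ : ∀ v, Q v = Qf v := fun _ => rfl
  have hQa : Qf a = 0 := by
    have : proj f a b a = 0 := by simp [proj, hf.alternating, hab, vadd_self hf]
    simp [Qf, this, hf.alternating, hC.phi_zero hN ha]
  have hQb : Qf b = 0 := by
    have : proj f a b b = 0 := by simp [proj, hf.alternating, hba, vadd_self hf]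
    simp [Qf, this, hf.alternating, hC.phi_zero hN ha]
  -- the radical elements at a and b preserve the form
  have hrad : ∀ u, f u a = 0 → f u b = 0 → ∀ v, Qf (ac (S f a u (phi f L a u)) v) = Qf v := by
    intro u hua hub v
    have hu : Qf u = phi f L a u := by
      have : proj f a b u = u := by simp [proj, hua, hub]
      simp [Qf, this, hua, hub]
    rw [S_act hf hua, hadd, hadd, hadd, hsmul, hsmul, hsmul, hQa, hu]
    simp only [hf.bilinear.add_left, hf.bilinear.smul_left, hf.bilinear.smul_right, hf.alternating, hua, symm hf a u]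
    linear_combination (phi f L a u * f v a * f v a + f v a * f v u) * CharTwo.two_eq_zero (R := F)
  -- points are singular
  have hsingA : ∀ v, Pt L a v → f v a ≠ 0 → Qf v = 0 := by
    intro v hv hva
    obtain ⟨v', hv'⟩ : ∃ v', v' = (f v a)⁻¹ • v := ⟨_, rfl⟩
    have hv'a : f v' a = 1 := by rw [hv', hf.bilinear.smul_left, inv_mul_cancel₀ hva]
    set u := proj f a b v' with hu
    have hua := hπ v'
    rw [← hu] at hua
    have hm := hC.move_partner ha hb hab hua.1 hua.2
    have e : v' = (b + u + phi f L a u • a) + (f v' b + phi f L a u) • a := by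
      conv_lhs => rw [decomp (f := f) a b v', hv'a, ← hu]
      have := CharTwo.two_eq_zero (R := F)
      match_scalars <;> ring_nf <;> simp [this]
    have h0 := hC.unique_point hN hG hdim ha hm (by
      simp [hf.bilinear.add_right, hf.bilinear.smul_right, hf.alternating, hab, symm hf a u, hua.1])
      (by rw [← e, hv']; exact hC.pt_smul hv (inv_ne_zero hva))
    have : Qf v' = 0 := by
      simp only [Qf, hv'a, mul_one, ← hu]
      exact h0
    rw [hv', hsmul, mul_eq_zero] at this
    exact this.resolve_left (mul_ne_zero (inv_ne_zero hva) (inv_ne_zero hva))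
  have hsingB : ∀ v, Pt L a v → f v b ≠ 0 → Qf v = 0 := by
    intro v hv hvb
    obtain ⟨v', hv'⟩ : ∃ v', v' = (f v b)⁻¹ • v := ⟨_, rfl⟩
    have hv'b : f v' b = 1 := by rw [hv', hf.bilinear.smul_left, inv_mul_cancel₀ hvb]
    set u := proj f a b v' with hu
    have hua := hπ v'
    rw [← hu] at hua
    have hm := hC.move_partner hb ha hba hua.2 hua.1
    rw [hC.phi_swap hN hG hdim ha hb hab hua.1 hua.2] at hm
    have e : v' = (a + u + phi f L a u • b) + (f v' a + phi f L a u) • b := by
      conv_lhs => rw [decomp (f := f) a b v', hv'b, ← hu]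
      have := CharTwo.two_eq_zero (R := F)
      match_scalars <;> ring_nf <;> simp [this]
    have h0 := hC.unique_point hN hG hdim hb hm (by
      simp [hf.bilinear.add_right, hf.bilinear.smul_right, hf.alternating, hba, symm hf b u, hua.2])
      (by rw [← e, hv']; exact hC.pt_smul hv (inv_ne_zero hvb))
    have : Qf v' = 0 := by
      simp only [Qf, hv'b, one_mul, ← hu]
      exact h0
    rw [hv', hsmul, mul_eq_zero] at this
    exact this.resolve_left (mul_ne_zero (inv_ne_zero hvb) (inv_ne_zero hvb))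
  have hsing : ∀ v, Pt L a v → Qf v = 0 := by
    intro v hv
    by_cases h1 : f v a = 0
    swap
    · exact hsingA v hv h1
    by_cases h2 : f v b = 0
    swap
    · exact hsingB v hv h2
    have := hG a v ha hv h1 1
    rw [one_smul] at this
    simpa [Qf, proj, h1, h2] using this
  -- singular vectors are points
  have hptA : ∀ v, f v a ≠ 0 → Qf v = 0 → Pt L a v := by
    intro v hva hQv
    obtain ⟨v', hv'⟩ : ∃ v', v' = (f v a)⁻¹ • v := ⟨_, rfl⟩
    have hv'a : f v' a = 1 := by rw [hv', hf.bilinear.smul_left, inv_mul_cancel₀ hva]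
    have hQv' : Qf v' = 0 := by rw [hv', hsmul, hQv, mul_zero]
    simp only [Qf, hv'a, mul_one] at hQv'
    have hua := hπ v'
    have hm := hC.move_partner ha hb hab hua.1 hua.2
    have e : v' = b + proj f a b v' + phi f L a (proj f a b v') • a := by
      conv_lhs => rw [decomp (f := f) a b v', hv'a, CharTwo.add_eq_zero.1 hQv', one_smul]
      module
    rw [← e] at hm
    have := hC.pt_smul hm hva
    rwa [hv', smul_smul, mul_inv_cancel₀ hva, one_smul] at this
  have hptB : ∀ v, f v b ≠ 0 → Qf v = 0 → Pt L a v := by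
    intro v hvb hQv
    obtain ⟨v', hv'⟩ : ∃ v', v' = (f v b)⁻¹ • v := ⟨_, rfl⟩
    have hv'b : f v' b = 1 := by rw [hv', hf.bilinear.smul_left, inv_mul_cancel₀ hvb]
    have hQv' : Qf v' = 0 := by rw [hv', hsmul, hQv, mul_zero]
    simp only [Qf, hv'b, one_mul] at hQv'
    have hua := hπ v'
    have hm := hC.move_partner hb ha hba hua.2 hua.1
    rw [hC.phi_swap hN hG hdim ha hb hab hua.1 hua.2] at hm
    have e : v' = a + proj f a b v' + phi f L a (proj f a b v') • b := by
      conv_lhs => rw [decomp (f := f) a b v', hv'b, CharTwo.add_eq_zero.1 hQv', one_smul]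
      module
    rw [← e] at hm
    have := hC.pt_smul hm hvb
    rwa [hv', smul_smul, mul_inv_cancel₀ hvb, one_smul] at this
  have hpt : ∀ v, v ≠ 0 → Qf v = 0 → Pt L a v := by
    intro v hv hQv
    by_cases h1 : f v a = 0
    swap
    · exact hptA v h1 hQv
    by_cases h2 : f v b = 0
    swap
    · exact hptB v h2 hQv
    obtain ⟨u, hua, hub, huv⟩ := hC.exists_nonperp hab h1 h2 hv
    have hS := hC.phi_spec ha hua
    set x := ac (S f a u (phi f L a u)) v with hx
    have hxb : f x b ≠ 0 := by
      rw [hx, S_act hf hua]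
      simp [hf.bilinear.add_left, hf.bilinear.smul_left, h1, h2, hub, hab, symm hf v u, huv]
    have hp := hC.pt_ac (hptB x hxb (by rw [hx, hrad u hua hub, hQv])) (inv_mem hS)
    rw [hx, ← ac_mul hf, inv_mul_cancel] at hp
    simpa [ac] using hp
  have hinv : ∀ g ∈ L, ∀ v, Qf (ac g v) = Qf v := by
    intro g hg v
    have hiso := hC.iso g hg
    let D : (ι → F) → F := fun v => Qf (ac g v) + Qf v
    have hDadd : ∀ v w, D (v + w) = D v + D w := fun v w => by
      simp only [D, ac, Matrix.mulVec_add, hadd]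
      linear_combination hiso v w + f v w * CharTwo.two_eq_zero (R := F)
    have hDsmul : ∀ (c : F) v, D (c • v) = c * c * D v := fun c v => by
      simp only [D, ac, Matrix.mulVec_smul, hsmul]; ring
    have hDpt : ∀ v, Pt L a v → D v = 0 := fun v hv => by
      simp only [D]; rw [hsing v hv, hsing _ (hC.pt_ac hv hg), add_zero]
    have hm := hC.move_partner ha hb hab (hπ v).1 (hπ v).2
    have hDw : D (proj f a b v) = 0 := by
      have := hDpt _ hm
      rwa [hDadd, hDadd, hDsmul, hDpt a ha, hDpt b hb, mul_zero, add_zero, zero_add] at this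
    have : D v = 0 := by
      rw [decomp (f := f) a b v, hDadd, hDadd, hDsmul, hDsmul, hDpt a ha, hDpt b hb, hDw]
      simp
    exact CharTwo.add_eq_zero.1 this
  refine ⟨Q, fun u v => hpol u v, fun g hg v => hinv g hg v, fun p u hp hu => ?_⟩
  rw [hQ] at hp ⊢
  by_cases hp0 : p = 0
  · have : S f p u (Qf u) = 1 := gl_ext fun x => by
      change ac _ _ = _
      rw [S_act hf hu, one_act, hp0]
      simp [zero_right hf.bilinear]
    rw [this]; exact L.one_mem
  have hpp := hpt p hp0 hp
  obtain ⟨g, hg, c, hc, e⟩ := hC.exists_map hpp ha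
  have hgua : f (ac g u) a = 0 := by
    have hgu : f (ac g u) (c • a) = 0 := by rw [← e, hC.iso g hg, hu]
    rw [hf.bilinear.smul_right] at hgu
    exact (mul_eq_zero.1 hgu).resolve_left hc
  have hφ : ∀ z, f z a = 0 → phi f L a z = Qf z := by
    intro z hz
    conv_lhs => rw [decomp (f := f) a b z, hz, zero_smul, add_zero, add_comm]
    rw [hC.phi_shift hN ha (hπ z).1]
    simp [Qf, hz]
  have h2 := hC.phi_scale hN ha hgua hc
  rw [hφ _ (by rw [hf.bilinear.smul_left, hgua, mul_zero]), hsmul, hinv g hg, ← e, hC.phi_conj hN hpp hu hg,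
    sq] at h2
  rw [mul_left_cancel₀ (mul_ne_zero hc hc) h2]
  exact hC.phi_spec hpp hu

end Ctx

end Cfsg.Agent.SpTwoRad
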