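import Cfsg.Agent.Lib.SpTwoRadBasic
import Cfsg.Agent.Lib.OmegaMaxGlue
import Cfsg.Agent.Lib.OrthCharTwo
import Cfsg.Agent.Lib.OrthUnitarySimple

/-!
Characteristic two: the isometries of even rank are products of Siegel transformations.
-/

set_option autoImplicit false
set_option linter.unusedSectionVars false
set_option linter.unusedSimpArgs false
set_option linter.unnecessarySeqFocus false
set_option linter.unreachableTactic false
set_option linter.unusedTactic false

namespace Cfsg.Agent.SpTwoRad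

open QuadraticMap Module
open Cfsg.Agent.OrthUnitaryQuad Cfsg.Agent.OrthUnitaryRefl Cfsg.Agent.OrthCharTwo
open scoped MatrixGroups Matrix

section Abstract

variable {F V : Type*} [Field F] [Fintype F] [CharP F 2] [AddCommGroup V] [Module F V] [FiniteDimensional F V]
  {Q : QuadraticForm F V}

/-- The subgroup generated by the Siegel transformations. -/
def siegGroup (Q : QuadraticForm F V) : Subgroup (orth Q) :=
  Subgroup.closure {g | ∃ u w hu hw, g = siegel Q u w hu hw}

theorem siegel_mem {u w : V} (hu : Q u = 0) (hw : polar Q u w = 0) : siegel Q u w hu hw ∈ siegGroup Q :=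
  Subgroup.subset_closure ⟨u, w, hu, hw, rfl⟩

theorem conj_mem (g : orth Q) {k : orth Q} (hk : k ∈ siegGroup Q) : g * k * g⁻¹ ∈ siegGroup Q := by
  induction hk using Subgroup.closure_induction with
  | mem x hx =>
    obtain ⟨u, w, hu, hw, rfl⟩ := hx
    rw [OrthUnitarySimple.conj_siegel]
    exact siegel_mem _ _
  | one => rw [mul_one, mul_inv_cancel]; exact one_mem _
  | mul x y _ _ hx hy =>
    rw [show g * (x * y) * g⁻¹ = g * x * g⁻¹ * (g * y * g⁻¹) by group]
    exact mul_mem hx hy
  | inv x _ hx =>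
    rw [show g * x⁻¹ * g⁻¹ = (g * x * g⁻¹)⁻¹ by group]
    exact inv_mem hx

theorem refl_mul_refl_mem (hnd : (polarBilin Q).Nondegenerate) (hdim : 4 ≤ finrank F V) {v v' : V} (hv : Q v ≠ 0)
    (hv' : Q v' ≠ 0) : refl Q v hv * refl Q v' hv' ∈ siegGroup Q := by
  have h2 := CharTwo.two_eq_zero (R := F)
  -- unit vectors
  have unit : ∀ {x : V}, Q x ≠ 0 → ∃ y, ∃ hy : Q y ≠ 0, Q y = 1 ∧ ∀ hx : Q x ≠ 0, refl Q x hx = refl Q y hy := by
    intro x hx
    obtain ⟨r, hr⟩ := FiniteField.isSquare_of_char_two (ringChar.eq F 2) (Q x)⁻¹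
    have hr0 : r ≠ 0 := fun h => inv_ne_zero hx (by rw [hr, h, mul_zero])
    have hQ : Q (r • x) = 1 := by rw [QuadraticMap.map_smul, smul_eq_mul, ← hr, inv_mul_cancel₀ hx]
    exact ⟨r • x, by rw [hQ]; exact one_ne_zero, hQ, fun hx => (refl_smul x hx hr0).symm⟩
  obtain ⟨y, hy, hy1, hyr⟩ := unit hv
  obtain ⟨y', hy', hy1', hyr'⟩ := unit hv'
  rw [hyr hv, hyr' hv']
  -- perpendicular unit vectors
  have perpCase : ∀ {x z : V} (hx : Q x ≠ 0) (hz : Q z ≠ 0), Q x = 1 → Q z = 1 → polar Q x z = 0 →
      refl Q x hx * refl Q z hz ∈ siegGroup Q := by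
    intro x z hx hz hx1 hz1 hxz
    have hp : Q (x + z) = 0 := by
      rw [QuadraticMap.map_add (⇑Q), hx1, hz1, hxz, add_zero, CharTwo.add_self_eq_zero]
    have hpx : polar Q (x + z) x = 0 := by
      rw [polar_add_left, polar_self_zero, polar_comm Q z x, hxz, add_zero]
    have e : x + Q x • (x + z) = z := by
      rw [hx1, one_smul, ← add_assoc, ← two_smul F x, h2, zero_smul, zero_add]
    have h := siegel_mem hp hpx
    rw [siegel_eq_refl_mul hp hpx hx] at h
    convert h using 3
    exact e.symm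
  by_cases hyy : polar Q y y' = 0
  · exact perpCase hy hy' hy1 hy1' hyy
  obtain ⟨z, hzp, hzQ⟩ : ∃ z ∈ perp Q (Submodule.span F {y, y'}), Q z ≠ 0 := by
    by_contra hcon
    push Not at hcon
    set W := perp Q (Submodule.span F {y, y'})
    have hW2 : 2 ≤ finrank F W := by
      have h1 : finrank F W + finrank F (Submodule.span F ({y, y'} : Set V)) = finrank F V :=
        finrank_perp hnd (Submodule.span F {y, y'})
      have h4 : finrank F (Submodule.span F ({y, y'} : Set V)) ≤ 2 := by
        classical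
        have := finrank_span_finset_le_card (R := F) ({y, y'} : Finset V)
        rw [Finset.coe_pair] at this
        exact this.trans Finset.card_le_two
      omega
    obtain ⟨z, hz, hz0⟩ := (Submodule.ne_bot_iff W).1 fun h => by rw [h, finrank_bot] at hW2; omega
    refine hz0 (hnd.1 z fun x => ?_)
    -- split x along the plane
    set k := polar Q y y'
    set w := x - ((polar Q y' x) / k) • y - ((polar Q y x) / k) • y' with hw
    have hwW : w ∈ W := by
      intro s hs
      obtain ⟨c, d, rfl⟩ := Submodule.mem_span_pair.1 hs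
      show polar Q (c • y + d • y') w = 0
      simp only [hw, polar_add_left, polar_smul_left, polar_sub_right, polar_smul_right, polar_self_zero,
        polar_comm Q y' y, smul_eq_mul]
      field_simp
      ring
    have hzy : polar Q z y = 0 := by
      rw [polar_comm]; exact hz y (Submodule.subset_span (by simp))
    have hzy' : polar Q z y' = 0 := by
      rw [polar_comm]; exact hz y' (Submodule.subset_span (by simp))
    have hzw : polar Q z w = 0 := by
      rw [polar, hcon _ (add_mem hz hwW), hcon _ hz, hcon _ hwW]; simp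
    simp only [hw, polar_sub_right, polar_smul_right, hzy, hzy', smul_zero, sub_zero] at hzw
    exact hzw
  obtain ⟨z', hz', hz1, -⟩ := unit hzQ
  obtain ⟨r, hr⟩ := FiniteField.isSquare_of_char_two (ringChar.eq F 2) (Q z)⁻¹
  set t := r • z
  have htQ : Q t = 1 := by rw [QuadraticMap.map_smul, smul_eq_mul, ← hr, inv_mul_cancel₀ hzQ]
  have ht : Q t ≠ 0 := by rw [htQ]; exact one_ne_zero
  have h1 : polar Q y t = 0 := by
    rw [polar_smul_right, show polar Q y z = 0 from hzp y (Submodule.subset_span (by simp)), smul_zero]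
  have h3 : polar Q t y' = 0 := by
    rw [polar_comm, polar_smul_right, show polar Q y' z = 0 from hzp y' (Submodule.subset_span (by simp)), smul_zero]
  have := mul_mem (perpCase hy ht hy1 htQ h1) (perpCase ht hy' htQ hy1' h3)
  rwa [mul_assoc, ← mul_assoc (refl Q t ht), refl_sq t ht, one_mul] at this

theorem sieg_or_refl (hnd : (polarBilin Q).Nondegenerate) (hdim : 4 ≤ finrank F V) {v₀ : V} (hv₀ : Q v₀ ≠ 0)
    (g : orth Q) : g ∈ siegGroup Q ∨ refl Q v₀ hv₀ * g ∈ siegGroup Q := by
  have hg : g ∈ bigGroup Q := by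
    rw [bigGroup_eq_top (OrthUnitaryOmega.isReg_of_nondegenerate hnd)]; trivial
  have hnorm : ∀ {k : orth Q}, k ∈ siegGroup Q →
      refl Q v₀ hv₀ * k * refl Q v₀ hv₀ ∈ siegGroup Q := fun {k} hk => by
    have := conj_mem (refl Q v₀ hv₀) hk
    rwa [inv_eq_of_mul_eq_one_right (refl_sq v₀ hv₀)] at this
  have step : ∀ {v : V} (hv : Q v ≠ 0) {y : orth Q}, (y ∈ siegGroup Q ∨ refl Q v₀ hv₀ * y ∈ siegGroup Q) →
      (refl Q v hv * y ∈ siegGroup Q ∨ refl Q v₀ hv₀ * (refl Q v hv * y) ∈ siegGroup Q) := by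
    intro v hv y hy
    have h := refl_mul_refl_mem hnd hdim hv₀ hv
    rcases hy with hy | hy
    · right
      rw [← mul_assoc]
      exact mul_mem h hy
    · left
      have h' := mul_mem (hnorm h) hy
      have e : refl Q v₀ hv₀ * (refl Q v₀ hv₀ * refl Q v hv) * refl Q v₀ hv₀ * (refl Q v₀ hv₀ * y) =
          refl Q v hv * y := by
        rw [← mul_assoc (refl Q v₀ hv₀) (refl Q v₀ hv₀), refl_sq v₀ hv₀, one_mul, mul_assoc,
          ← mul_assoc (refl Q v₀ hv₀), refl_sq v₀ hv₀, one_mul]
      rwa [e] at h'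
  have stepS : ∀ {k : orth Q}, k ∈ siegGroup Q → ∀ {y : orth Q},
      (y ∈ siegGroup Q ∨ refl Q v₀ hv₀ * y ∈ siegGroup Q) →
      (k * y ∈ siegGroup Q ∨ refl Q v₀ hv₀ * (k * y) ∈ siegGroup Q) := by
    intro k hk y hy
    rcases hy with hy | hy
    · exact Or.inl (mul_mem hk hy)
    · right
      have h' := mul_mem (hnorm hk) hy
      rwa [mul_assoc, ← mul_assoc (refl Q v₀ hv₀) (refl Q v₀ hv₀), refl_sq v₀ hv₀, one_mul, mul_assoc] at h'
  induction hg using Subgroup.closure_induction_left with
  | one => exact Or.inl (one_mem _)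
  | mul_left x hx y _ ih =>
    rcases hx with ⟨v, hv, rfl⟩ | ⟨u, w, hu, hw, rfl⟩
    · exact step hv ih
    · exact stepS (siegel_mem hu hw) ih
  | inv_mul_cancel x hx y _ ih =>
    rcases hx with ⟨v, hv, rfl⟩ | ⟨u, w, hu, hw, rfl⟩
    · rw [inv_eq_of_mul_eq_one_right (refl_sq v hv)]
      exact step hv ih
    · exact stepS (inv_mem (siegel_mem hu hw)) ih

theorem hypExt_nondeg (hnd : (polarBilin Q).Nondegenerate) : (polarBilin (hypExt Q)).Nondegenerate := by
  have key : ∀ x, (∀ y, polar (hypExt Q) x y = 0) → x = 0 := by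
    rintro ⟨⟨a, b⟩, x⟩ h
    have ha : a = 0 := by simpa [polar_hypExt] using h ((0, 1), 0)
    have hb : b = 0 := by simpa [polar_hypExt] using h ((1, 0), 0)
    subst ha hb
    rw [hnd.1 x (fun y => by simpa [polar_hypExt] using h ((0, 0), y))]
    rfl
  exact ⟨fun x hx => key x hx, fun y hy => key y fun x => by rw [polar_comm]; exact hy x⟩

/-- The parity of the rank is a homomorphism killing the Siegel transformations. -/
theorem exists_parity (hnd : (polarBilin Q).Nondegenerate) (hdim : 4 ≤ finrank F V) :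
    ∃ D : orth Q →* Multiplicative F, (∀ g : orth Q, (D g = 1 ↔ Even (finrank F (LinearMap.range (dif g))))) ∧
      (∀ g ∈ siegGroup Q, D g = 1) ∧ ∀ v hv, D (refl Q v hv) ≠ 1 := by
  classical
  have h2 := CharTwo.two_eq_zero (R := F)
  have hnd' := hypExt_nondeg hnd
  have hrk : finrank F ((F × F) × V) = 2 + finrank F V := by
    rw [Module.finrank_prod, Module.finrank_prod, Module.finrank_self]
  have hgen : reflGroup (hypExt Q) = ⊤ := reflGroup_eq_top (OrthUnitaryOmega.isReg_of_nondegenerate hnd')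
    (Or.inr (by rw [hrk]; omega))
  obtain ⟨D, hD⟩ := OrthUnitaryOmega.exists_dickson (Q := hypExt Q) h2 hnd'
  have hDr : ∀ v hv, D.comp (hypLift Q) (refl Q v hv) ≠ 1 := fun v hv => by
    rw [MonoidHom.comp_apply, hypLift_refl, hD]
    exact fun h => one_ne_zero (α := F) (by simpa using h)
  refine ⟨D.comp (hypLift Q), fun g => ?_, fun g hg => ?_, hDr⟩
  · rw [MonoidHom.comp_apply, dickson_eq_rank hnd' hgen D hD, ← ofAdd_zero, Multiplicative.ofAdd.injective.eq_iff,
      CharP.cast_eq_zero_iff F 2, ← even_iff_two_dvd]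
    have e : finrank F (LinearMap.range (dif (hypLift Q g))) = finrank F (LinearMap.range (dif g)) := by
      have hr : LinearMap.range (dif (hypLift Q g)) = (LinearMap.range (dif g)).map (LinearMap.inr F (F × F) V) := by
        rw [← LinearMap.range_comp]
        ext x
        simp only [LinearMap.mem_range]
        constructor
        · rintro ⟨⟨p, y⟩, rfl⟩
          exact ⟨y, by simp [dif_apply, hypLift]⟩
        · rintro ⟨y, rfl⟩
          exact ⟨(0, y), by simp [dif_apply, hypLift]⟩
      rw [hr]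
      exact (Submodule.equivMapOfInjective _ (LinearMap.inr_injective) _).finrank_eq.symm
    rw [e]
  · induction hg using Subgroup.closure_induction with
    | mem x hx =>
      obtain ⟨u, w, hu, hw, rfl⟩ := hx
      rw [MonoidHom.comp_apply, hypLift_siegel]
      have hU : hypExt Q ((0, 0), u) = 0 := by simpa [hypExt_apply] using hu
      have hZ : polar (hypExt Q) ((0, 0), u) ((1, 1), 0) = 0 := by simp [polar_hypExt, polar_zero_right]
      have hWZ : polar (hypExt Q) ((0, 0), u) ((1, 1), w) = 0 := by simp [polar_hypExt, hw]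
      have two : ∀ {z : (F × F) × V} (hz : polar (hypExt Q) ((0, 0), u) z = 0), hypExt Q z ≠ 0 →
          D (siegel (hypExt Q) ((0, 0), u) z hU hz) = 1 := fun {z} hz hne => by
        rw [siegel_eq_refl_mul hU hz hne, map_mul, hD, hD, ← ofAdd_add, CharTwo.add_self_eq_zero, ofAdd_zero]
      by_cases hQw : Q w = 0
      · have h1 : hypExt Q ((1, 1), 0) ≠ 0 := by simp [hypExt_apply]
        have h3 : hypExt Q ((1, 1), w) ≠ 0 := by simp [hypExt_apply, hQw]
        have e := congrArg D (siegel_mul hU hZ hWZ)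
        rw [map_mul, two hZ h1, two hWZ h3, one_mul] at e
        convert e.symm using 3
        simp [CharTwo.add_self_eq_zero]
      · exact two _ (by simpa [hypExt_apply] using hQw)
    | one => exact map_one _
    | mul x y _ _ hx hy => rw [map_mul, hx, hy, one_mul]
    | inv x _ hx => rw [map_inv, hx, inv_one]

end Abstract

variable {ι : Type} [Fintype ι] [DecidableEq ι] {F : Type*} [Field F] [CharP F 2] [Fintype F]
  {f : (ι → F) → (ι → F) → F}

open Cfsg.Agent.OmegaGeo Cfsg.Agent.OmegaMaxGlue in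
/-- A group of isometries containing all Siegel elements. -/
theorem orth_cases (hf : Cfsg.Geo.IsSymplecticForm f) (hdim : 4 ≤ Fintype.card ι) {L : Subgroup (GL ι F)}
    (Q : QuadraticForm F (ι → F)) (hpol : ∀ u v, polar (⇑Q) u v = f u v) (hinv : ∀ g ∈ L, ∀ v, Q (ac g v) = Q v)
    (hS : ∀ p u, Q p = 0 → f u p = 0 → S f p u (Q u) ∈ L) :
    L = Cfsg.isometryGroup F ⇑Q ∨
      ∀ g : GL ι F, g ∈ L ↔ (g ∈ Cfsg.isometryGroup F ⇑Q ∧ Even ((g : Matrix ι ι F) - 1).rank) := by
  classical
  have hnd : (polarBilin Q).Nondegenerate := by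
    constructor <;> intro v hv <;> by_contra h0
    · obtain ⟨x, hx⟩ := (hf.nondegenerate v h0).2
      exact hx (by rw [← hpol]; exact hv x)
    · obtain ⟨x, hx⟩ := (hf.nondegenerate v h0).1
      exact hx (by rw [← hpol]; exact hv x)
  have hd : 4 ≤ finrank F (ι → F) := by rwa [Module.finrank_fintype_fun_eq_card]
  have hLle : ∀ g ∈ L, g ∈ Cfsg.isometryGroup F ⇑Q := fun g hg u _ => hinv g hg u
  have hof : ∀ g ∈ Cfsg.isometryGroup F ⇑Q, ∃ k : orth Q, glHom Q k = g := fun g hg =>
    ⟨OrthUnitaryPrelude.iso Q ⟨g, hg⟩, by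
      simp [glHom]⟩
  have hmem : ∀ k : orth Q, glHom Q k ∈ Cfsg.isometryGroup F ⇑Q := fun k u _ => by
    rw [glHom_apply]
    show Q ((toGL Q k : Matrix ι ι F) *ᵥ u) = _
    rw [toGL_mulVec, map_orth k]
  have hsieg : ∀ k ∈ siegGroup Q, glHom Q k ∈ L := by
    intro k hk
    induction hk using Subgroup.closure_induction with
    | mem x hx =>
      obtain ⟨u, w, hu, hw, rfl⟩ := hx
      have hwu : f w u = 0 := by rw [symm hf, ← hpol]; exact hw
      have : glHom Q (siegel Q u w hu hw) = S f u w (Q w) := TransvectionMax.gl_ext fun y => by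
        change _ = ac _ _
        rw [glHom_apply, toGL_mulVec, siegel_apply, S_act hf hwu]
        simp only [hpol, symm hf u y, symm hf w y]
        have := CharTwo.two_eq_zero (R := F)
        match_scalars <;> first | ring1 | linear_combination (-(f y w + Q w * f y u)) * this
      rw [this]
      exact hS u w hu hwu
    | one => rw [map_one]; exact L.one_mem
    | mul x y _ _ hx hy => rw [map_mul]; exact mul_mem hx hy
    | inv x _ hx => rw [map_inv]; exact inv_mem hx
  obtain ⟨D, hDeven, hDsieg, hDrefl⟩ := exists_parity hnd hd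
  have hrank : ∀ k : orth Q, ((glHom Q k : Matrix ι ι F) - 1).rank = finrank F (LinearMap.range (dif k)) := by
    intro k
    have e : ((glHom Q k : Matrix ι ι F) - 1).mulVecLin = dif k := LinearMap.ext fun y => by
      rw [Matrix.mulVecLin_apply, Matrix.sub_mulVec, Matrix.one_mulVec, dif_apply, glHom_apply, toGL_mulVec]
    rw [Matrix.rank, e]
  obtain ⟨v₀, hv₀⟩ : ∃ v, Q v ≠ 0 :=
    exists_map_ne_zero (OrthUnitaryOmega.isReg_of_nondegenerate hnd) (by omega)
  by_cases hodd : ∃ k : orth Q, glHom Q k ∈ L ∧ D k ≠ 1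
  · obtain ⟨k, hk, hkD⟩ := hodd
    have hr : glHom Q (refl Q v₀ hv₀) ∈ L := by
      rcases sieg_or_refl hnd hd hv₀ k with h | h
      · exact absurd (hDsieg k h) hkD
      · have h' := mul_mem (hsieg _ h) (inv_mem hk)
        rwa [map_mul, mul_inv_cancel_right] at h'
    refine Or.inl (le_antisymm hLle fun g hg => ?_)
    obtain ⟨k, rfl⟩ := hof g hg
    rcases sieg_or_refl hnd hd hv₀ k with h | h
    · exact hsieg k h
    · have h' := mul_mem (inv_mem hr) (hsieg _ h)
      rwa [map_mul, inv_mul_cancel_left] at h'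
  · push Not at hodd
    refine Or.inr fun g => ⟨fun hg => ?_, fun ⟨hg, hev⟩ => ?_⟩
    · obtain ⟨k, rfl⟩ := hof g (hLle g hg)
      exact ⟨hmem k, by rw [hrank]; exact (hDeven k).1 (hodd k hg)⟩
    · obtain ⟨k, rfl⟩ := hof g hg
      rw [hrank] at hev
      have hk := (hDeven k).2 hev
      rcases sieg_or_refl hnd hd hv₀ k with h | h
      · exact hsieg k h
      · have := hDsieg _ h
        rw [map_mul, hk, mul_one] at this
        exact absurd this (hDrefl v₀ hv₀)

end Cfsg.Agent.SpTwoRad
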