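import Cfsg.Agent.Lib.SpTwoRadPhi

/-!
The exceptional groups in `Sp_4(2)`.
-/

set_option autoImplicit false
set_option linter.unusedSectionVars false
set_option linter.unusedSimpArgs false
set_option linter.unnecessarySeqFocus false
set_option linter.unreachableTactic false
set_option linter.unusedTactic false

namespace Cfsg.Agent.SpTwoRad

open Cfsg.Agent.TransvectionMax
open scoped MatrixGroups Matrix

variable {ι : Type} [Fintype ι] [DecidableEq ι] {F : Type*} [Field F] [CharP F 2] [Fintype F]
  {f : (ι → F) → (ι → F) → F} {L : Subgroup (GL ι F)} {a : ι → F}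

theorem eq_one_of_card_two (hq : Fintype.card F = 2) {x : F} (hx : x ≠ 0) : x = 1 := by
  classical
  by_contra h
  have : ({0, 1, x} : Finset F).card ≤ Fintype.card F := Finset.card_le_univ _
  rw [hq, Finset.card_insert_of_notMem (by simp [hx.symm]), Finset.card_pair (Ne.symm h)] at this
  omega

/-- An element fixing a point and the classes over it lies in the radical. -/
theorem exists_eq_S (hf : Cfsg.Geo.IsSymplecticForm f) {a b : ι → F} (hab : f a b = 1) {g : GL ι F}
    (hg : ∀ x y, f (ac g x) (ac g y) = f x y) (hga : ac g a = a)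
    (hcls : ∀ u, f u a = 0 → ∃ c : F, ac g u = u + c • a) :
    ∃ u χ, f u a = 0 ∧ g = S f a u χ := by
  have hba : f b a = 1 := by rw [symm hf, hab]
  set u := ac g b + b with hu
  have hgb : ac g b = b + u := by rw [hu, add_left_comm, vadd_self hf, add_zero]
  have hua : f u a = 0 := by
    have h := hg b a
    rw [hga] at h
    rw [hu, hf.bilinear.add_left, h, CharTwo.add_self_eq_zero]
  refine ⟨u, f b u, hua, gl_ext fun x => ?_⟩
  change ac g x = ac _ _
  obtain ⟨w, k, hw, hx⟩ : ∃ (w : ι → F) (k : F), f w a = 0 ∧ x = w + k • b :=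
    ⟨x + f x a • b, f x a,
      by rw [hf.bilinear.add_left, hf.bilinear.smul_left, hba, mul_one, CharTwo.add_self_eq_zero],
      by rw [add_assoc, vadd_self hf, add_zero]⟩
  subst hx
  obtain ⟨c, hc⟩ := hcls w hw
  have hcv : c = f w u := by
    have h := hg w b
    rw [hc, hgb] at h
    simp only [hf.bilinear.add_left, hf.bilinear.add_right, hf.bilinear.smul_left, hab, symm hf a u, hua,
      mul_one, mul_zero, add_zero] at h
    have : f w u + c = 0 := by linear_combination h
    exact (CharTwo.add_eq_zero.1 this).symm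
  simp only [ac] at hc hgb ⊢
  rw [Matrix.mulVec_add, Matrix.mulVec_smul, hc, hgb, Matrix.mulVec_add, Matrix.mulVec_smul]
  change _ = ac (S f a u (f b u)) w + _ • ac (S f a u (f b u)) b
  rw [S_act hf hua, S_act hf hua, hw, hba, hcv]
  have := CharTwo.two_eq_zero (R := F)
  match_scalars <;> ring_nf <;> simp [this]

namespace Ctx

variable (hC : Ctx f L a) (hN : NoTr f L a)
include hC hN

theorem step_add (hq : Fintype.card F = 2) {p v : ι → F} (hp : Pt L a p) (hv : Pt L a v) (hvp : f v p = 0)
    (hne : v ≠ p) : Pt L a (v + p) := by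
  have hf := hC.sf
  obtain ⟨w, hwp, hwv⟩ : ∃ w, f w p = 0 ∧ f w v ≠ 0 := by
    by_contra hcon
    push Not at hcon
    obtain ⟨x, hx⟩ := eq_smul_of_perp_le hf (hC.pt_ne hp) hcon
    have hx0 : x ≠ 0 := fun h => hC.pt_ne hv (by rw [hx, h, zero_smul])
    exact hne (by rw [hx, eq_one_of_card_two hq hx0, one_smul])
  have h := hC.pt_ac hv (hC.phi_spec hp hwp)
  rwa [S_act hf hwp, hvp, symm hf v w, eq_one_of_card_two hq hwv, zero_smul, add_zero, mul_zero, zero_smul, add_zero,
    one_smul] at h

theorem pt_all (hq : Fintype.card F = 2) {b u₀ : ι → F} (hb : Pt L a b) (hab : f a b = 1) (hu : Pt L a u₀)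
    (hua : f u₀ a = 0) (hub : f u₀ b = 0) (hφ : phi f L a u₀ = 1) (v : ι → F) (hv : v ≠ 0) : Pt L a v := by
  have hf := hC.sf
  have hba : f b a = 1 := by rw [symm hf, hab]
  have hub' : u₀ ≠ b := fun h => by rw [h, hba] at hua; exact one_ne_zero hua
  have hab' : Pt L a (a + b) := by
    have h := hC.pt_ac (hC.step_add hN hq hb hu hub hub') (hC.phi_spec hC.pt_self hua)
    rw [S_act hf hua, hφ] at h
    simp only [hf.bilinear.add_left, hua, hba, symm hf b u₀, hub, hf.alternating, zero_add, add_zero, one_smul,
      zero_smul, one_mul] at h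
    rw [add_comm u₀ b, add_assoc b, vadd_self hf, add_zero, add_comm] at h
    exact h
  have hA : ∀ x, f x a ≠ 0 → Pt L a x := by
    intro x hx
    have hx1 := eq_one_of_card_two hq hx
    have hua' : f (x + b) a = 0 := by rw [hf.bilinear.add_left, hx1, hba, CharTwo.add_self_eq_zero]
    have hS := hC.phi_spec hC.pt_self hua'
    set k := f b (x + b) + phi f L a (x + b) with hk
    have hb1 : ac (S f a (x + b) (phi f L a (x + b))) b = x + k • a := by
      rw [S_act hf hua', hba, hk]
      have := CharTwo.two_eq_zero (R := F)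
      match_scalars <;> ring_nf <;> simp [this]
    by_cases hk0 : k = 0
    · have := hC.pt_ac hb hS
      rwa [hb1, hk0, zero_smul, add_zero] at this
    · have h := hC.pt_ac hab' hS
      simp only [ac, Matrix.mulVec_add] at h hb1
      rw [hb1, eq_one_of_card_two hq hk0, one_smul, show ((S f a (x + b) (phi f L a (x + b))) : Matrix ι ι F) *ᵥ a = a
        from by
          change ac _ a = a
          rw [S_act hf hua', hf.alternating, symm hf a (x + b), hua']; simp] at h
      rwa [add_left_comm, vadd_self hf, add_zero] at h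
  obtain ⟨z, hza, hzv⟩ := exists_common hf hC.ne hv
  obtain ⟨g, hg, c, hc, e⟩ := hC.exists_map (hA z hza) hC.pt_self
  have h1 : f (ac g v) a ≠ 0 := by
    intro h
    apply hzv
    rw [← hC.iso g hg, e, hf.bilinear.smul_left, symm hf, h, mul_zero]
  have h2 := hC.pt_ac (hA _ h1) (inv_mem hg)
  simpa [ac] using h2

theorem card_cases (hdim : Fintype.card ι = 4) (hnG : ¬ Good f L a) :
    Fintype.card F = 2 ∧ (Nat.card L = 120 ∨ Nat.card L = 360) := by
  classical
  have hf := hC.sf
  have hq : Fintype.card F = 2 := by
    by_contra h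
    exact hnG (hC.good_of hN (Or.inl h))
  refine ⟨hq, ?_⟩
  have one : ∀ {x : F}, x ≠ 0 → x = 1 := fun hx => eq_one_of_card_two hq hx
  simp only [Good, not_forall] at hnG
  obtain ⟨p, c, hp, hc, hcp, γ, hγ⟩ := hnG
  have hγ1 : γ = 1 := one fun h => hγ (by rw [h, zero_smul, hC.phi_zero hN hp])
  rw [hγ1, one_smul] at hγ
  obtain ⟨g, hg, k, hk, e⟩ := hC.exists_map hp hC.pt_self
  rw [one hk, one_smul] at e
  set c' := ac g c with hc'
  have hca : f c' a = 0 := by rw [← e, hC.iso g hg, hcp]
  have hφ' : phi f L a c' = 1 := one (by rw [← e, hC.phi_conj hN hp hcp hg]; exact hγ)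
  have hc'pt : Pt L a c' := hC.pt_ac hc hg
  obtain ⟨b, hb, hab⟩ := hC.exists_partner hC.pt_self
  have hba : f b a = 1 := by rw [symm hf, hab]
  obtain ⟨u₀, hu₀, hua, hub, hφ⟩ : ∃ u, Pt L a u ∧ f u a = 0 ∧ f u b = 0 ∧ phi f L a u = 1 := by
    by_cases h : f c' b = 0
    · exact ⟨c', hc'pt, hca, h, hφ'⟩
    have hne : c' ≠ a := fun h' => by
      rw [h'] at hφ'
      have := hC.phi_self hN hC.pt_self 1
      rw [one_smul, hφ'] at this
      exact one_ne_zero this
    refine ⟨c' + a, hC.step_add hN hq hC.pt_self hc'pt hca hne, by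
      rw [hf.bilinear.add_left, hca, hf.alternating, add_zero], by
      rw [hf.bilinear.add_left, one h, hab, CharTwo.add_self_eq_zero], ?_⟩
    have := hC.phi_shift hN hC.pt_self hca 1
    rw [one_smul] at this
    rw [this, hφ']
  have hall := hC.pt_all hN hq hb hab hu₀ hua hub hφ
  -- the orbit
  letI act : MulAction L (ι → F) :=
    { smul := fun g x => ac (g : GL ι F) x
      one_smul := fun x => by show ac ((1 : L) : GL ι F) x = x; simp [ac]
      mul_smul := fun g h x => ac_mul hf (g : GL ι F) (h : GL ι F) x }
  have horb : MulAction.orbit L a = {v | v ≠ 0} := by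
    ext v
    constructor
    · rintro ⟨g, rfl⟩
      exact act_ne_zero (g : GL ι F) hC.ne
    · intro hv
      obtain ⟨g, hg, k, hk, e⟩ := hall v hv
      exact ⟨⟨g, hg⟩, by rw [one hk, one_smul] at e; exact e⟩
  have horb15 : Nat.card (MulAction.orbit L a) = 15 := by
    have h16 : Fintype.card (ι → F) = 16 := by rw [Fintype.card_fun, hq, hdim]; norm_num
    have : Nat.card {v : ι → F // v ≠ 0} = 15 := by
      rw [Nat.card_eq_fintype_card, Fintype.card_subtype_compl, h16, Fintype.card_subtype_eq]
    rw [horb]
    exact this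
  -- the action of the stabiliser on the classes
  let W := {w : ι → F // f w a = 0 ∧ f w b = 0 ∧ w ≠ 0}
  have hWcard : Nat.card W = 3 := by
    let T := (fLeft hf.bilinear a).prod (fLeft hf.bilinear b)
    have hT : LinearMap.range T = ⊤ := by
      rw [LinearMap.range_eq_top]
      rintro ⟨x, y⟩
      exact ⟨x • b + y • a, by
        simp [T, fLeft, hf.bilinear.add_left, hf.bilinear.smul_left, hf.alternating, hab, hba]⟩
    have h1 := LinearMap.finrank_range_add_finrank_ker T
    rw [hT, finrank_top, Module.finrank_prod, Module.finrank_self, Module.finrank_fintype_fun_eq_card, hdim] at h1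
    have h2 : Fintype.card (LinearMap.ker T) = 4 := by
      rw [Module.card_eq_pow_finrank (K := F), hq, show Module.finrank F (LinearMap.ker T) = 2 by omega]; norm_num
    have e : W ≃ {w : LinearMap.ker T // w ≠ 0} :=
      { toFun := fun w => ⟨⟨w.1, by simp [T, fLeft, w.2.1, w.2.2.1]⟩, fun h => w.2.2.2 (congrArg Subtype.val h)⟩
        invFun := fun w => ⟨w.1.1, by
          have := w.1.2
          simp [T, fLeft] at this
          exact ⟨this.1, this.2, fun h => w.2 (Subtype.ext h)⟩⟩
        left_inv := fun w => rfl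
        right_inv := fun w => rfl }
    rw [Nat.card_congr e, Nat.card_eq_fintype_card, Fintype.card_subtype_compl, h2, Fintype.card_subtype_eq]
  let St : Subgroup L := MulAction.stabilizer L a
  have hstab : ∀ g : St, ac ((g : L) : GL ι F) a = a := fun g => g.2
  have hπ : ∀ (g : St) (v : ι → F), f v a = 0 →
      proj f a b (ac ((g : L) : GL ι F) (proj f a b v)) = proj f a b (ac ((g : L) : GL ι F) v) := by
    intro g v hv
    have e : proj f a b v = v + f v b • a := by rw [proj, hv, zero_smul, add_zero]
    rw [e]
    simp only [ac, Matrix.mulVec_add, Matrix.mulVec_smul]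
    rw [show ((g : L) : GL ι F).1 *ᵥ a = a from hstab g]
    simp only [proj, hf.bilinear.add_left, hf.bilinear.smul_left, hab, hf.alternating, mul_one, mul_zero, add_zero]
    have := CharTwo.two_eq_zero (R := F)
    match_scalars <;> ring_nf <;> simp [this]
  have hperp : ∀ (g : St) (v : ι → F), f v a = 0 → f (ac ((g : L) : GL ι F) v) a = 0 := by
    intro g v hv
    conv_lhs => rw [← hstab g]
    rw [hC.iso _ (g : L).2, hv]
  have hne0 : ∀ (g : St) (w : W), proj f a b (ac ((g : L) : GL ι F) w.1) ≠ 0 := by
    intro g w h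
    have := hπ g⁻¹ _ (hperp g w.1 w.2.1)
    rw [h] at this
    simp only [ac, Matrix.mulVec_zero] at this
    have e : ((g⁻¹ : St) : L).1.1 *ᵥ (((g : L) : GL ι F).1 *ᵥ w.1) = w.1 := by
      simp
    rw [e] at this
    simp [proj, w.2.1, w.2.2.1, zero_left hf.bilinear] at this
    exact w.2.2.2 this.symm
  letI actW : MulAction St W :=
    { smul := fun g w => ⟨proj f a b (ac ((g : L) : GL ι F) w.1),
        (proj_perp hf hab _).1, (proj_perp hf hab _).2, hne0 g w⟩
      one_smul := fun w => Subtype.ext (by
        show proj f a b (ac (((1 : St) : L) : GL ι F) w.1) = w.1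
        simp [ac, proj, w.2.1, w.2.2.1])
      mul_smul := fun g h w => Subtype.ext (by
        show proj f a b (ac (((g * h : St) : L) : GL ι F) w.1) =
          proj f a b (ac ((g : L) : GL ι F) (proj f a b (ac ((h : L) : GL ι F) w.1)))
        rw [hπ g _ (hperp h w.1 w.2.1), ← ac_mul hf]
        rfl) }
  let θ : St →* Equiv.Perm W := MulAction.toPermHom St W
  -- kernel
  have hker : Nat.card θ.ker = 4 := by
    let T := (fLeft hf.bilinear a).prod (fLeft hf.bilinear b)
    have hU : ∀ u : LinearMap.ker T, f u.1 a = 0 ∧ f u.1 b = 0 := fun u => by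
      have := u.2
      simp [T, fLeft] at this
      exact this
    have hSfix : ∀ u : LinearMap.ker T, ac (S f a u.1 (phi f L a u.1)) a = a := fun u => by
      rw [S_act hf (hU u).1, hf.alternating, symm hf a u.1, (hU u).1]; simp
    let η : LinearMap.ker T → St := fun u =>
      ⟨⟨S f a u.1 (phi f L a u.1), hC.phi_spec hC.pt_self (hU u).1⟩, hSfix u⟩
    have hηker : ∀ u, η u ∈ θ.ker := by
      intro u
      rw [MonoidHom.mem_ker]
      ext1 w
      apply Subtype.ext
      show proj f a b (ac (S f a u.1 (phi f L a u.1)) w.1) = w.1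
      rw [S_act hf (hU u).1, w.2.1]
      simp only [proj, hf.bilinear.add_left, hf.bilinear.smul_left, w.2.1, w.2.2.1, hab, hf.alternating]
      have := CharTwo.two_eq_zero (R := F)
      match_scalars <;> ring_nf <;> simp [this]
    have hbij : Function.Bijective fun u => (⟨η u, hηker u⟩ : θ.ker) := by
      constructor
      · intro u u' h
        have h' : S f a u.1 (phi f L a u.1) = S f a u'.1 (phi f L a u'.1) :=
          congrArg (fun z : θ.ker => (((z : St) : L) : GL ι F)) h
        have h'' := congrArg (fun z => proj f a b (ac z b)) h'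
        simp only [S_act hf (hU u).1, S_act hf (hU u').1] at h''
        simp only [proj, hf.bilinear.add_left, hf.bilinear.smul_left, hba, hab, hf.alternating, (hU u).1, (hU u).2,
          (hU u').1, (hU u').2, symm hf b u.1, symm hf b u'.1, one_smul, mul_one, mul_zero, zero_smul, add_zero,
          zero_add] at h''
        apply Subtype.ext
        have := CharTwo.two_eq_zero (R := F)
        linear_combination (norm := (match_scalars <;> ring_nf <;> simp [this])) h''
      · rintro ⟨⟨⟨g, hgL⟩, hga⟩, hgk⟩
        have hga' : ac g a = a := hga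
        have hgiso := hC.iso g hgL
        have hcls : ∀ u, f u a = 0 → ∃ c : F, ac g u = u + c • a := by
          intro u hu
          have e2 : proj f a b (ac g u) = proj f a b u := by
            by_cases h0 : proj f a b u = 0
            · have h1 := hπ ⟨⟨g, hgL⟩, hga⟩ u hu
              rw [h0] at h1
              simp only [ac, Matrix.mulVec_zero] at h1
              rw [h0]
              simp only [ac]
              rw [← h1]
              simp [proj, zero_left hf.bilinear]
            · have h1 := congrArg Subtype.val (Equiv.ext_iff.1 (MonoidHom.mem_ker.1 hgk)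
                (⟨proj f a b u, (proj_perp hf hab u).1, (proj_perp hf hab u).2, h0⟩ : W))
              exact (hπ ⟨⟨g, hgL⟩, hga⟩ u hu).symm.trans h1
          refine ⟨f (ac g u) b + f u b, ?_⟩
          have h3 := hperp ⟨⟨g, hgL⟩, hga⟩ u hu
          simp only [proj, hu] at e2
          rw [show f (ac g u) a = 0 from h3] at e2
          simp only [zero_smul, add_zero] at e2
          have := CharTwo.two_eq_zero (R := F)
          linear_combination (norm := (match_scalars <;> ring_nf <;> simp [this])) e2
        obtain ⟨u, χ, huA, hgS⟩ := exists_eq_S hf hab hgiso hga' hcls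
        have hu' : proj f a b u = u + f u b • a := by rw [proj, huA, zero_smul, add_zero]
        refine ⟨⟨proj f a b u, by simp [T, fLeft, (proj_perp hf hab u).1, (proj_perp hf hab u).2]⟩, ?_⟩
        apply Subtype.ext; apply Subtype.ext; apply Subtype.ext
        show S f a (proj f a b u) (phi f L a (proj f a b u)) = g
        rw [hu', hC.phi_shift hN hC.pt_self huA, S_congr hf huA, hgS,
          hC.phi_eq hN hC.pt_self huA (χ := χ) (hgS ▸ hgL)]
    rw [← Nat.card_congr (Equiv.ofBijective _ hbij), Nat.card_eq_fintype_card, Module.card_eq_pow_finrank (K := F), hq]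
    have h1 := LinearMap.finrank_range_add_finrank_ker T
    have hT : LinearMap.range T = ⊤ := by
      rw [LinearMap.range_eq_top]
      rintro ⟨x, y⟩
      exact ⟨x • b + y • a, by
        simp [T, fLeft, hf.bilinear.add_left, hf.bilinear.smul_left, hf.alternating, hab, hba]⟩
    rw [hT, finrank_top, Module.finrank_prod, Module.finrank_self, Module.finrank_fintype_fun_eq_card, hdim] at h1
    rw [show Module.finrank F (LinearMap.ker T) = 2 by omega]
    norm_num
  -- image
  have himg : Nat.card θ.range ∣ 6 ∧ 2 ∣ Nat.card θ.range := by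
    refine ⟨?_, ?_⟩
    · have := Subgroup.card_subgroup_dvd_card θ.range
      rwa [Nat.card_perm, hWcard] at this
    · have hne : ∀ x : F, a ≠ x • u₀ := fun x h => by
        have := congrArg (fun v => f v b) h
        simp [hab, hf.bilinear.smul_left, hub] at this
      have hau : f a u₀ = 0 := by rw [symm hf, hua]
      have hφ₂ : phi f L u₀ a = 1 := by
        have := hC.inv_self hN hu₀ hC.pt_self hau hne 1 1
        rwa [one_smul, hφ, one_mul, one_smul, one_pow, mul_one] at this
      have hS : S f u₀ a 1 ∈ L := hφ₂ ▸ hC.phi_spec hu₀ hau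
      have hSa : ac (S f u₀ a 1) a = a := by rw [S_act hf hau, hf.alternating, hau]; simp
      let τ : St := ⟨⟨S f u₀ a 1, hS⟩, hSa⟩
      obtain ⟨w₀, hwa, hwb, hwu⟩ : ∃ w, f w a = 0 ∧ f w b = 0 ∧ f w u₀ = 1 := by
        obtain ⟨y, hy⟩ := (hf.nondegenerate u₀ (hC.pt_ne hu₀)).1
        refine ⟨proj f a b y, (proj_perp hf hab y).1, (proj_perp hf hab y).2, one ?_⟩
        simp only [proj, hf.bilinear.add_left, hf.bilinear.smul_left, hau, symm hf b u₀, hub, mul_zero, add_zero]
        exact hy
      have hw0 : w₀ ≠ 0 := fun h => by rw [h, zero_left hf.bilinear] at hwu; exact zero_ne_one hwu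
      have hτ : θ τ ≠ 1 := by
        intro h
        have h1 := congrArg Subtype.val (Equiv.ext_iff.1 h (⟨w₀, hwa, hwb, hw0⟩ : W))
        change proj f a b (ac (S f u₀ a 1) w₀) = w₀ at h1
        rw [S_act hf hau, hwu, hwa] at h1
        simp only [proj, hf.bilinear.add_left, hf.bilinear.smul_left, hwa, hwb, hua, hub, hab, hf.alternating,
          one_smul, zero_smul, one_mul, mul_zero, add_zero, zero_add] at h1
        have e : w₀ + a + u₀ + a = w₀ + u₀ := by
          rw [add_assoc, add_assoc, add_comm u₀ a, ← add_assoc a a, vadd_self hf, zero_add]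
        rw [e, add_eq_left] at h1
        exact hC.pt_ne hu₀ h1
      have hsq : τ * τ = 1 := by
        apply Subtype.ext; apply Subtype.ext
        show S f u₀ a 1 * S f u₀ a 1 = 1
        rw [S_mul hf hau hau, vadd_self hf, CharTwo.add_self_eq_zero, hf.alternating, add_zero, S_one hf]
      have : orderOf (θ.rangeRestrict τ) = 2 := orderOf_eq_prime (by
          rw [pow_two, ← map_mul, hsq, map_one]) fun h => hτ (congrArg Subtype.val h)
      exact this ▸ orderOf_dvd_natCard _
  have hSt : Nat.card St = 4 * Nat.card θ.range := by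
    rw [← Subgroup.card_mul_index θ.ker, Subgroup.index_ker, hker]
  have hL : Nat.card L = 15 * Nat.card St := by
    rw [← horb15, ← Nat.card_prod]
    exact Nat.card_congr (MulAction.orbitProdStabilizerEquivGroup L a).symm
  obtain ⟨h6, h2⟩ := himg
  have hle := Nat.le_of_dvd (by norm_num) h6
  rw [hL, hSt]
  interval_cases h : Nat.card θ.range <;> omega

end Ctx

end Cfsg.Agent.SpTwoRad
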