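import Cfsg.Agent.Lib.SpTwoRadForm
import Cfsg.Agent.Lib.SpTwoRadOmega
import Cfsg.Agent.Lib.SpTwoRadSmall
import Cfsg.Prelude.Def_Solvable

/-!
From the 2-core of a vector stabiliser to a radical graph.
-/

set_option autoImplicit false
set_option linter.unusedSectionVars false
set_option linter.unusedSimpArgs false
set_option linter.unnecessarySeqFocus false
set_option linter.unreachableTactic false
set_option linter.unusedTactic false

namespace Cfsg.Agent.SpTwoRad

open Cfsg.Agent.TransvectionMax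
open scoped MatrixGroups Matrix

variable {ι : Type} [Fintype ι] [DecidableEq ι] {F : Type*} [Field F] [CharP F 2] [Fintype F]
  {f : (ι → F) → (ι → F) → F}

/-- The core of a point stabiliser fixes every class over the point. -/
theorem core_cls (hf : Cfsg.Geo.IsSymplecticForm f) (hdim : 4 ≤ Fintype.card ι) {a : ι → F} (ha : a ≠ 0)
    (H : Subgroup (GL ι F)) (hH : ∀ g, g ∈ H ↔ ((∀ x y, f (ac g x) (ac g y) = f x y) ∧ ac g a = a))
    {g : GL ι F} (hg : g ∈ (Cfsg.pCore 2 ↥H).map H.subtype) :
    ∀ u, f u a = 0 → ∃ c : F, ac g u = u + c • a := by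
  classical
  obtain ⟨b, hab⟩ : ∃ b, f a b = 1 := by
    obtain ⟨y, hy⟩ := (hf.nondegenerate a ha).2
    exact ⟨(f a y)⁻¹ • y, by rw [hf.bilinear.smul_right, inv_mul_cancel₀ hy]⟩
  have hba : f b a = 1 := by rw [symm hf, hab]
  -- the normal 2-subgroups
  have key : ∀ (N : Subgroup H), N.Normal → IsPGroup 2 N → ∀ (g : H), g ∈ N → ∀ u, f u a = 0 →
      ∃ c : F, ac (g : GL ι F) u = u + c • a := by
    intro N hNn hN
    let W := {w : ι → F // f w a = 0 ∧ f w b = 0}
    have hfix : ∀ g : N, ac ((g : H) : GL ι F) a = a := fun g => ((hH _).1 (g : H).2).2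
    have hperp : ∀ (g : N) (v : ι → F), f v a = 0 → f (ac ((g : H) : GL ι F) v) a = 0 := by
      intro g v hv
      conv_lhs => rw [← hfix g]
      rw [((hH _).1 (g : H).2).1, hv]
    have hπ : ∀ (g : N) (v : ι → F), f v a = 0 →
        proj f a b (ac ((g : H) : GL ι F) (proj f a b v)) = proj f a b (ac ((g : H) : GL ι F) v) := by
      intro g v hv
      rw [show proj f a b v = v + f v b • a by rw [proj, hv, zero_smul, add_zero]]
      simp only [ac, Matrix.mulVec_add, Matrix.mulVec_smul]
      rw [show ((g : H) : GL ι F).1 *ᵥ a = a from hfix g]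
      simp only [proj, hf.bilinear.add_left, hf.bilinear.smul_left, hab, hf.alternating, mul_one, mul_zero, add_zero]
      have := CharTwo.two_eq_zero (R := F)
      match_scalars <;> ring_nf <;> simp [this]
    letI actW : MulAction N W :=
      { smul := fun g w => ⟨proj f a b (ac ((g : H) : GL ι F) w.1), (proj_perp hf hab _).1, (proj_perp hf hab _).2⟩
        one_smul := fun w => Subtype.ext (by
          show proj f a b (ac (((1 : N) : H) : GL ι F) w.1) = w.1
          simp [ac, proj, w.2.1, w.2.2])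
        mul_smul := fun g h w => Subtype.ext (by
          show proj f a b (ac (((g * h : N) : H) : GL ι F) w.1) =
            proj f a b (ac ((g : H) : GL ι F) (proj f a b (ac ((h : H) : GL ι F) w.1)))
          rw [hπ g _ (hperp h w.1 w.2.1), ← ac_mul hf]
          rfl) }
    have hdvd : 2 ∣ Nat.card W := by
      let T := (fLeft hf.bilinear a).prod (fLeft hf.bilinear b)
      have e : W ≃ LinearMap.ker T :=
        { toFun := fun w => ⟨w.1, by simp [T, fLeft, w.2.1, w.2.2]⟩
          invFun := fun w => ⟨w.1, by have := w.2; simp [T, fLeft] at this; exact this⟩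
          left_inv := fun w => rfl
          right_inv := fun w => rfl }
      rw [Nat.card_congr e, Nat.card_eq_fintype_card, Module.card_eq_pow_finrank (K := F)]
      have h1 := LinearMap.finrank_range_add_finrank_ker T
      have h2 := Submodule.finrank_le (LinearMap.range T)
      rw [Module.finrank_prod, Module.finrank_self] at h2
      rw [Module.finrank_fintype_fun_eq_card] at h1
      refine dvd_pow ?_ (by omega)
      obtain ⟨n, -, hn⟩ := FiniteField.card F 2
      rw [hn]
      exact dvd_pow_self 2 n.ne_zero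
    let z : W := ⟨0, zero_left hf.bilinear a, zero_left hf.bilinear b⟩
    have hz : z ∈ MulAction.fixedPoints N W := fun g => Subtype.ext (by
      show proj f a b (ac ((g : H) : GL ι F) 0) = 0
      simp [ac, proj, zero_left hf.bilinear])
    obtain ⟨w₁, hw₁, hw₁z⟩ := hN.exists_fixed_point_of_prime_dvd_card_of_fixed_point W hdvd hz
    let Fix : (ι → F) → Prop := fun u => f u a = 0 ∧ ∀ g : N, ∃ c : F, ac ((g : H) : GL ι F) u = u + c • a
    have hw₁0 : ∀ x : F, w₁.1 ≠ x • a := by
      intro x h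
      have := w₁.2.2
      rw [h, hf.bilinear.smul_left, hab, mul_one] at this
      apply hw₁z
      apply Subtype.ext
      show 0 = w₁.1
      rw [h, this, zero_smul]
    have hFix₁ : Fix w₁.1 := by
      refine ⟨w₁.2.1, fun g => ?_⟩
      have h1 : proj f a b (ac ((g : H) : GL ι F) w₁.1) = w₁.1 := congrArg Subtype.val (hw₁ g)
      refine ⟨f (ac ((g : H) : GL ι F) w₁.1) b, ?_⟩
      rw [proj, hperp g _ w₁.2.1, zero_smul, add_zero] at h1
      calc ac ((g : H) : GL ι F) w₁.1 = ac ((g : H) : GL ι F) w₁.1 + f (ac ((g : H) : GL ι F) w₁.1) b • a +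
            f (ac ((g : H) : GL ι F) w₁.1) b • a := by rw [add_assoc, vadd_self hf, add_zero]
        _ = w₁.1 + f (ac ((g : H) : GL ι F) w₁.1) b • a := by rw [h1]
    -- the fixed classes form an invariant space
    have step : ∀ {x y : ι → F}, Fix x → f y a = 0 → f x y ≠ 0 → Fix y := by
      intro x y hx hy hxy
      have hxyA : f (y - x) a = 0 := by rw [sub_left hf.bilinear, hy, hx.1, sub_zero]
      have hh : st f (y - x) (f x y)⁻¹ ∈ H := (hH _).2
        ⟨fun p r => st_preserves hf _ _ p r, st_fix hf _ _ (by rw [symm hf, hxyA])⟩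
      set h : H := ⟨_, hh⟩ with hhd
      have hhx : ac (h : GL ι F) x = y := st_move hf hxy
      have hha : ac (h : GL ι F) a = a := st_fix hf _ _ (by rw [symm hf, hxyA])
      refine ⟨hy, fun g => ?_⟩
      obtain ⟨c, hc⟩ := hx.2 ⟨h⁻¹ * (g : H) * h, hNn.conj_mem' _ g.2 h⟩
      refine ⟨c, ?_⟩
      have h2 := congrArg (ac (h : GL ι F)) hc
      simp only [Subgroup.coe_mul, Subgroup.coe_inv, ac, Matrix.mulVec_add, Matrix.mulVec_smul] at h2
      rw [mul_act, mul_act, act_inv_act] at h2
      rw [show (h : GL ι F).1 *ᵥ x = y from hhx, show (h : GL ι F).1 *ᵥ a = a from hha] at h2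
      exact h2
    intro g hg u hu
    by_cases hind : ∀ x : F, u ≠ x • a
    swap
    · push Not at hind
      obtain ⟨x, rfl⟩ := hind
      exact ⟨0, by rw [zero_smul, add_zero]; simp only [ac, Matrix.mulVec_smul]; rw [show (g : GL ι F).1 *ᵥ a = a from
        hfix ⟨g, hg⟩]⟩
    suffices Fix u from this.2 ⟨g, hg⟩
    by_cases h : f w₁.1 u = 0
    swap
    · exact step hFix₁ hu h
    have hsep : ∀ {x : ι → F}, (∀ k : F, x ≠ k • a) → ∃ y, f y a = 0 ∧ f y x ≠ 0 := by
      intro x hx
      by_contra hcon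
      push Not at hcon
      obtain ⟨k, hk⟩ := eq_smul_of_perp_le hf ha hcon
      exact hx k hk
    obtain ⟨y₁, hy₁, hy₁'⟩ := hsep hw₁0
    obtain ⟨y₂, hy₂, hy₂'⟩ := hsep hind
    obtain ⟨z', hz', hz₁, hz₂⟩ : ∃ z', f z' a = 0 ∧ f z' w₁.1 ≠ 0 ∧ f z' u ≠ 0 := by
      by_cases h1 : f y₁ u = 0
      · by_cases h2 : f y₂ w₁.1 = 0
        · exact ⟨y₁ + y₂, by rw [hf.bilinear.add_left, hy₁, hy₂, add_zero],
            by rwa [hf.bilinear.add_left, h2, add_zero], by rwa [hf.bilinear.add_left, h1, zero_add]⟩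
        · exact ⟨y₂, hy₂, h2, hy₂'⟩
      · exact ⟨y₁, hy₁, hy₁', h1⟩
    exact step (step hFix₁ hz' (by rwa [symm hf])) hu hz₂
  obtain ⟨g', hg', rfl⟩ := hg
  let K : Subgroup H :=
    { carrier := {g | ∀ u, f u a = 0 → ∃ c : F, ac (g : GL ι F) u = u + c • a}
      one_mem' := fun u _ => ⟨0, by simp [ac]⟩
      mul_mem' := by
        intro x y hx hy u hu
        obtain ⟨c, hc⟩ := hy u hu
        obtain ⟨d, hd⟩ := hx u hu
        refine ⟨d + c, ?_⟩
        rw [Subgroup.coe_mul, ac_mul hf, hc]
        simp only [ac, Matrix.mulVec_add, Matrix.mulVec_smul] at hd ⊢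
        rw [hd, show (x : GL ι F).1 *ᵥ a = a from ((hH _).1 x.2).2, add_smul, add_assoc]
      inv_mem' := by
        intro x hx u hu
        obtain ⟨c, hc⟩ := hx u hu
        refine ⟨c, ?_⟩
        have h := congrArg (ac ((x : GL ι F)⁻¹)) hc
        simp only [ac, inv_act_act, Matrix.mulVec_add, Matrix.mulVec_smul] at h
        have hxa : ((x : GL ι F)⁻¹ : GL ι F).1 *ᵥ a = a := by
          conv_lhs => rw [← show (x : GL ι F).1 *ᵥ a = a from ((hH _).1 x.2).2]
          rw [inv_act_act]
        rw [hxa] at h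
        rw [Subgroup.coe_inv]
        simp only [ac]
        conv_rhs => rw [h]
        rw [add_assoc, ← add_smul, CharTwo.add_self_eq_zero, zero_smul, add_zero] }
  have hle : Cfsg.pCore 2 H ≤ K := sSup_le fun N hN g hg u hu => key N hN.1 hN.2 g hg u hu
  exact hle hg'

/-- A large transvection-free subgroup of the core gives a full graph. -/
theorem graph_of_core (hf : Cfsg.Geo.IsSymplecticForm f) (hdim : 4 ≤ Fintype.card ι) {a : ι → F} (ha : a ≠ 0)
    (X L : Subgroup (GL ι F)) (hXL : X ≤ L)
    (hiso : ∀ g ∈ X, ∀ x y, f (ac g x) (ac g y) = f x y)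
    (hfix : ∀ g ∈ X, ac g a = a) (hcls : ∀ g ∈ X, ∀ u, f u a = 0 → ∃ c : F, ac g u = u + c • a)
    (hcard : Nat.card X = Fintype.card F ^ (Fintype.card ι - 2))
    (hntv : ∀ x ∈ X, ((x : Matrix ι ι F) - 1).rank ≠ 1) :
    ∀ u, f u a = 0 → ∃ χ, S f a u χ ∈ L := by
  classical
  obtain ⟨b, hab⟩ : ∃ b, f a b = 1 := by
    obtain ⟨y, hy⟩ := (hf.nondegenerate a ha).2
    exact ⟨(f a y)⁻¹ • y, by rw [hf.bilinear.smul_right, inv_mul_cancel₀ hy]⟩
  have hba : f b a = 1 := by rw [symm hf, hab]
  let T := (fLeft hf.bilinear a).prod (fLeft hf.bilinear b)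
  choose U χ hU hX using fun g : X => exists_eq_S hf hab (hiso g g.2) (hfix g g.2) (hcls g g.2)
  have hinj : Function.Injective fun g : X =>
      (⟨proj f a b (U g), by simp [T, fLeft, (proj_perp hf hab _).1, (proj_perp hf hab _).2]⟩ : LinearMap.ker T) := by
    intro g g' h
    have e : proj f a b (U g) = proj f a b (U g') := congrArg Subtype.val h
    rw [proj, proj, hU, hU, zero_smul, add_zero, add_zero] at e
    have hd : U g + U g' = (f (U g) b + f (U g') b) • a := by
      have := CharTwo.two_eq_zero (R := F)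
      linear_combination (norm := (match_scalars <;> ring_nf <;> simp [this])) e
    have hprod : ((g * g' : X) : GL ι F) = st f a (χ g + χ g' + f (U g) (U g')) := by
      rw [Subgroup.coe_mul, hX, hX, S_mul hf (hU g) (hU g'), hd, S_self hf, S_transv hf]
    set c := χ g + χ g' + f (U g) (U g')
    have hc : c = 0 := by
      by_contra hc
      refine hntv _ (g * g' : X).2 ?_
      rw [hprod]
      have e : ((st f a c : GL ι F) : Matrix ι ι F) - 1 = Matrix.vecMulVec a (c • row f a) := by
        refine Matrix.ext_iff_mulVec.mpr fun x => ?_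
        rw [Matrix.sub_mulVec, Matrix.one_mulVec, st_act hf, add_sub_cancel_left, Matrix.vecMulVec_mulVec,
          op_smul_eq_smul, smul_dotProduct, row_dot hf.bilinear, smul_eq_mul]
      rw [e, Matrix.rank]
      refine finrank_eq_one_iff'.2 ⟨⟨a, ?_⟩, fun h => ha (congrArg Subtype.val h), ?_⟩
      · refine ⟨c⁻¹ • b, ?_⟩
        rw [Matrix.mulVecLin_apply, Matrix.vecMulVec_mulVec, op_smul_eq_smul, smul_dotProduct, dotProduct_smul,
          row_dot hf.bilinear, hba]
        simp [hc]
      · rintro ⟨v, x, rfl⟩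
        refine ⟨(c • row f a) ⬝ᵥ x, Subtype.ext ?_⟩
        show ((c • row f a) ⬝ᵥ x) • a = (Matrix.vecMulVec a (c • row f a)).mulVecLin x
        rw [Matrix.mulVecLin_apply, Matrix.vecMulVec_mulVec, op_smul_eq_smul]
    rw [hc, st_zero hf] at hprod
    have h1 : g * g' = 1 := Subtype.ext hprod
    have h2 : g' * g' = 1 := Subtype.ext (by
      rw [Subgroup.coe_mul, hX, S_mul hf (hU g') (hU g'), vadd_self hf, CharTwo.add_self_eq_zero, hf.alternating,
        add_zero, S_one hf]
      rfl)
    calc g = g * g' * g' := by rw [mul_assoc, h2, mul_one]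
      _ = g' := by rw [h1, one_mul]
  have hk : Fintype.card (LinearMap.ker T) = Fintype.card X := by
    rw [← Nat.card_eq_fintype_card (α := X), hcard, Module.card_eq_pow_finrank (K := F)]
    congr 1
    have h1 := LinearMap.finrank_range_add_finrank_ker T
    have hT : LinearMap.range T = ⊤ := by
      rw [LinearMap.range_eq_top]
      rintro ⟨x, y⟩
      exact ⟨x • b + y • a, by
        simp [T, fLeft, hf.bilinear.add_left, hf.bilinear.smul_left, hf.alternating, hab, hba]⟩
    rw [hT, finrank_top, Module.finrank_prod, Module.finrank_self, Module.finrank_fintype_fun_eq_card] at h1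
    omega
  have hsurj := ((Fintype.bijective_iff_injective_and_card _).2 ⟨hinj, hk.symm⟩).2
  intro u hu
  obtain ⟨g, hg⟩ := hsurj ⟨proj f a b u, by simp [T, fLeft, (proj_perp hf hab u).1, (proj_perp hf hab u).2]⟩
  refine ⟨χ g, ?_⟩
  have e : proj f a b (U g) = proj f a b u := congrArg Subtype.val hg
  rw [proj, proj, hU, hu, zero_smul, add_zero, add_zero] at e
  have hd : u = U g + (f (U g) b + f u b) • a := by
    have := CharTwo.two_eq_zero (R := F)
    linear_combination (norm := (match_scalars <;> ring_nf <;> simp [this])) e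
  rw [hd, S_congr hf (hU g), ← hX g]
  exact hXL g.2

/-- The alternatives for a group with a radical graph. -/
theorem Ctx.main {L : Subgroup (GL ι F)} {a : ι → F} (hC : Ctx f L a) (hdim : 4 ≤ Fintype.card ι) :
    (∀ g : GL ι F, (∀ x y, f (ac g x) (ac g y) = f x y) → g ∈ L) ∨
    (∃ Q : QuadraticForm F (ι → F), (∀ u v, QuadraticMap.polar (⇑Q) u v = f u v) ∧
      (L = Cfsg.isometryGroup F ⇑Q ∨
        ∀ g : GL ι F, g ∈ L ↔ (g ∈ Cfsg.isometryGroup F ⇑Q ∧ Even ((g : Matrix ι ι F) - 1).rank))) ∨
    (Fintype.card F = 2 ∧ Fintype.card ι = 4 ∧ (Nat.card L = 120 ∨ Nat.card L = 360)) := by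
  by_cases hN : NoTr f L a
  swap
  · simp only [NoTr, not_forall] at hN
    obtain ⟨c, hc, hc0⟩ := hN
    exact Or.inl (hC.mem_of_transv hc0 hc hdim)
  by_cases hG : Good f L a
  · obtain ⟨Q, hpol, hinv, hS⟩ := hC.exists_form hN hG hdim
    exact Or.inr (Or.inl ⟨Q, hpol, orth_cases hC.sf hdim Q hpol hinv hS⟩)
  · have h4 : Fintype.card ι = 4 := by
      by_contra h
      exact hG (hC.good_of hN (Or.inr (by omega)))
    exact Or.inr (Or.inr ⟨(hC.card_cases hN h4 hG).1, h4, (hC.card_cases hN h4 hG).2⟩)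

end Cfsg.Agent.SpTwoRad
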