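import Cfsg.Agent.Lib.SpTwoRadTransv

/-!
Without transvections on the orbit every radical graph is unique: the graph functions and their invariance.
-/

set_option autoImplicit false
set_option linter.unusedSectionVars false
set_option linter.unusedSimpArgs false
set_option linter.unnecessarySeqFocus false
set_option linter.unreachableTactic false
set_option linter.unusedTactic false

namespace Cfsg.Agent.SpTwoRad

open Cfsg.Agent.TransvectionMax
open scoped MatrixGroups Matrix

variable {ι : Type} [Fintype ι] [DecidableEq ι] {F : Type*} [Field F] [CharP F 2] [Fintype F]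
  {f : (ι → F) → (ι → F) → F} {L : Subgroup (GL ι F)} {a : ι → F}

open Classical in
/-- The graph function at `p`. -/
noncomputable def phi (f : (ι → F) → (ι → F) → F) (L : Subgroup (GL ι F)) (p u : ι → F) : F :=
  if h : ∃ χ, S f p u χ ∈ L then h.choose else 0

/-- No transvection is centred at `a`. -/
def NoTr (f : (ι → F) → (ι → F) → F) (L : Subgroup (GL ι F)) (a : ι → F) : Prop :=
  ∀ c, st f a c ∈ L → c = 0

/-- The graph functions vanish on perpendicular points. -/
def Good (f : (ι → F) → (ι → F) → F) (L : Subgroup (GL ι F)) (a : ι → F) : Prop :=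
  ∀ p c, Pt L a p → Pt L a c → f c p = 0 → ∀ γ : F, phi f L p (γ • c) = 0

namespace Ctx

variable (hC : Ctx f L a) (hN : NoTr f L a)
include hC hN

theorem noTr_all {p : ι → F} (hp : Pt L a p) {c : F} (h : st f p c ∈ L) : c = 0 := by
  obtain ⟨g, hg, d, hd, e⟩ := hC.exists_map hp hC.pt_self
  have := hN _ (hC.st_transport hg h e)
  simpa [hd] using this

omit hN in
theorem phi_spec {p u : ι → F} (hp : Pt L a p) (hu : f u p = 0) : S f p u (phi f L p u) ∈ L := by
  rw [phi, dif_pos (hC.pt_graph hp hu)]
  exact (hC.pt_graph hp hu).choose_spec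

theorem phi_eq {p u : ι → F} (hp : Pt L a p) (hu : f u p = 0) {χ : F} (h : S f p u χ ∈ L) : phi f L p u = χ := by
  have := mul_mem (hC.phi_spec hp hu) h
  rw [S_mul hC.sf hu hu, vadd_self hC.sf, hC.sf.alternating, add_zero, S_transv hC.sf] at this
  exact CharTwo.add_eq_zero.1 (hC.noTr_all hN hp this)

theorem phi_add {p u u' : ι → F} (hp : Pt L a p) (hu : f u p = 0) (hu' : f u' p = 0) :
    phi f L p (u + u') = phi f L p u + phi f L p u' + f u u' := by
  refine hC.phi_eq hN hp (by rw [hC.sf.bilinear.add_left, hu, hu', add_zero]) ?_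
  rw [← S_mul hC.sf hu hu']
  exact mul_mem (hC.phi_spec hp hu) (hC.phi_spec hp hu')

theorem phi_shift {p u : ι → F} (hp : Pt L a p) (hu : f u p = 0) (κ : F) :
    phi f L p (u + κ • p) = phi f L p u := by
  refine hC.phi_eq hN hp (by simp [hC.sf.bilinear.add_left, hC.sf.bilinear.smul_left, hu, hC.sf.alternating]) ?_
  rw [S_congr hC.sf hu]
  exact hC.phi_spec hp hu

theorem phi_zero {p : ι → F} (hp : Pt L a p) : phi f L p 0 = 0 :=
  hC.phi_eq hN hp (zero_left hC.sf.bilinear p) (by rw [S_one hC.sf]; exact L.one_mem)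

theorem phi_self {p : ι → F} (hp : Pt L a p) (κ : F) : phi f L p (κ • p) = 0 := by
  rw [← zero_add (κ • p), hC.phi_shift hN hp (zero_left hC.sf.bilinear p), hC.phi_zero hN hp]

theorem phi_scale {p u : ι → F} (hp : Pt L a p) (hu : f u p = 0) {c : F} (hc : c ≠ 0) :
    phi f L p (c • u) = c ^ 2 * phi f L (c • p) u := by
  refine hC.phi_eq hN hp (by rw [hC.sf.bilinear.smul_left, hu, mul_zero]) ?_
  rw [← S_smul hC.sf hu]
  exact hC.phi_spec (hC.pt_smul hp hc) (by rw [hC.sf.bilinear.smul_right, hu, mul_zero])

theorem phi_conj {p u : ι → F} (hp : Pt L a p) (hu : f u p = 0) {g : GL ι F} (hg : g ∈ L) :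
    phi f L (ac g p) (ac g u) = phi f L p u := by
  refine hC.phi_eq hN (hC.pt_ac hp hg) (by rw [hC.iso g hg, hu]) ?_
  rw [← S_conj hC.sf (hC.iso g hg)]
  exact mul_mem (mul_mem hg (hC.phi_spec hp hu)) (inv_mem hg)

/-- Invariance of the graph function under the part of a perpendicular radical fixing `p`. -/
theorem inv {p c : ι → F} (hp : Pt L a p) (hc : Pt L a c) (hcp : f c p = 0) {u v : ι → F} (hup : f u p = 0)
    (huc : f u c = 0) (hvp : f v p = 0) :
    phi f L p (f v c • u + (f v u + phi f L c u * f v c) • c) = phi f L c u * f v c ^ 2 := by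
  have hf := hC.sf
  set χ := phi f L c u with hχ
  have hS := hC.phi_spec hc huc
  rw [← hχ] at hS
  set δ := f v c • u + (f v u + χ * f v c) • c with hδ
  have hδp : f δ p = 0 := by simp [hδ, hf.bilinear.add_left, hf.bilinear.smul_left, hup, hcp]
  have e1 : ac (S f c u χ) p = p := by
    rw [S_act hf huc, symm hf p c, hcp, symm hf p u, hup]
    simp
  have e2 : ac (S f c u χ) v = v + δ := by
    rw [S_act hf huc, hδ, add_smul, add_assoc, add_assoc]
  have h := hC.phi_conj hN hp hvp hS
  rw [e1, e2, hC.phi_add hN hp hvp hδp] at h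
  have h2 : f v δ = χ * f v c ^ 2 := by
    simp only [hδ, hf.bilinear.add_right, hf.bilinear.smul_right]
    linear_combination (f v u * f v c) * CharTwo.two_eq_zero (R := F)
  rw [h2] at h
  linear_combination h - (χ * f v c ^ 2) * CharTwo.two_eq_zero (R := F)

/-- For perpendicular independent points the graph function is constant on the line. -/
theorem inv_self {p c : ι → F} (hp : Pt L a p) (hc : Pt L a c) (hcp : f c p = 0) (hind : ∀ x : F, c ≠ x • p)
    (κ α : F) : phi f L p ((phi f L c (κ • p) * α) • c) = phi f L c (κ • p) * α ^ 2 := by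
  have hf := hC.sf
  obtain ⟨v₀, hv₀, hv₀c⟩ : ∃ u, f u p = 0 ∧ f u c ≠ 0 := by
    by_contra hcon
    push Not at hcon
    obtain ⟨x, hx⟩ := eq_smul_of_perp_le hf (hC.pt_ne hp) hcon
    exact hind x hx
  set v := (α / f v₀ c) • v₀ with hv
  have hvp : f v p = 0 := by rw [hv, hf.bilinear.smul_left, hv₀, mul_zero]
  have hvc : f v c = α := by rw [hv, hf.bilinear.smul_left, div_mul_cancel₀ _ hv₀c]
  have h := hC.inv hN hp hc hcp (u := κ • p) (by rw [hf.bilinear.smul_left, hf.alternating, mul_zero])
    (by rw [hf.bilinear.smul_left, symm hf p c, hcp, mul_zero]) hvp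
  rw [hvc, hf.bilinear.smul_right, hvp, mul_zero, zero_add, smul_smul, add_comm,
    hC.phi_shift hN hp (by rw [hf.bilinear.smul_left, hcp, mul_zero])] at h
  exact h

/-- Outside `q = 2, dim = 4` the graph functions vanish on perpendicular points. -/
theorem good_of (hbig : Fintype.card F ≠ 2 ∨ 5 ≤ Fintype.card ι) : Good f L a := by
  classical
  have hf := hC.sf
  intro p c hp hc hcp γ
  by_cases hind : ∀ x : F, c ≠ x • p
  swap
  · push Not at hind
    obtain ⟨x, rfl⟩ := hind
    rw [smul_smul]
    exact hC.phi_self hN hp _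
  rcases hbig with hq | hdim
  · by_contra hne
    have hpc : f p c = 0 := by rw [symm hf, hcp]
    have hind' : ∀ x : F, p ≠ x • c := by
      intro x hx
      by_cases hx0 : x = 0
      · exact hC.pt_ne hp (by rw [hx, hx0, zero_smul])
      · exact hind x⁻¹ (by rw [hx, smul_smul, inv_mul_cancel₀ hx0, one_smul])
    set s := phi f L p (γ • c) with hs
    have hκ : ∀ κ : F, phi f L c (κ • p) = κ ^ 2 / s := by
      intro κ
      have := hC.inv_self hN hc hp hpc hind' γ (κ / s)
      rw [← hs, mul_div_cancel₀ _ hne] at this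
      rw [this]
      field_simp
    have hall : ∀ κ : F, κ ≠ 0 → ∀ μ : F, phi f L p (μ • c) = μ ^ 2 * s / κ ^ 2 := by
      intro κ hκ0 μ
      have := hC.inv_self hN hp hc hcp hind κ (μ * s / κ ^ 2)
      rw [hκ, show κ ^ 2 / s * (μ * s / κ ^ 2) = μ by field_simp] at this
      rw [this]
      field_simp
    obtain ⟨e⟩ : Nonempty (F ≃ Bool) := by
      refine ⟨{ toFun := fun x => decide (x = 1), invFun := fun b => if b then 1 else 0,
                left_inv := fun x => ?_, right_inv := fun b => by cases b <;> simp }⟩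
      by_cases hx : x = 0
      · simp [hx]
      · have h1 := hall 1 one_ne_zero 1
        rw [hall x hx 1] at h1
        have : x ^ 2 = 1 := by
          field_simp at h1
          linear_combination -h1
        simp [eq_one_of_sq this]
    exact hq (by rw [Fintype.card_congr e, Fintype.card_bool])
  · have hex : ∃ u, f u p = 0 ∧ f u c = 0 ∧ ∀ x y : F, u ≠ x • p + y • c := by
      by_contra hcon
      push Not at hcon
      let T := (fLeft hf.bilinear p).prod (fLeft hf.bilinear c)
      have hle : LinearMap.ker T ≤ Submodule.span F {p, c} := by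
        intro u hu
        simp only [T, LinearMap.mem_ker, LinearMap.prod_apply, Function.prod_apply, Prod.mk_eq_zero] at hu
        obtain ⟨x, y, rfl⟩ := hcon u hu.1 hu.2
        exact Submodule.mem_span_pair.2 ⟨x, y, rfl⟩
      have h1 := LinearMap.finrank_range_add_finrank_ker T
      have h2 := Submodule.finrank_le (LinearMap.range T)
      have h3 := Submodule.finrank_mono hle
      have h4 : Module.finrank F (Submodule.span F ({p, c} : Set (ι → F))) ≤ 2 := by
        have := finrank_span_finset_le_card (R := F) ({p, c} : Finset (ι → F))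
        rw [Finset.coe_pair] at this
        exact this.trans Finset.card_le_two
      rw [Module.finrank_prod, Module.finrank_self] at h2
      rw [Module.finrank_fintype_fun_eq_card] at h1
      omega
    obtain ⟨u, hup, huc, hu⟩ := hex
    obtain ⟨v, hvp, hvc, hvu⟩ : ∃ v, f v p = 0 ∧ f v c = 0 ∧ f v u ≠ 0 := by
      by_contra hcon
      push Not at hcon
      obtain ⟨v₀, hv₀, hv₀c⟩ : ∃ v, f v p = 0 ∧ f v c ≠ 0 := by
        by_contra hcon'
        push Not at hcon'
        obtain ⟨x, hx⟩ := eq_smul_of_perp_le hf (hC.pt_ne hp) hcon'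
        exact hind x hx
      obtain ⟨y, hy⟩ : ∃ y : F, y = f v₀ u / f v₀ c := ⟨_, rfl⟩
      obtain ⟨x, hx⟩ := eq_smul_of_perp_le hf (hC.pt_ne hp) (a := u + y • c) (fun b hb => by
        set b' := b + (f b c / f v₀ c) • v₀ with hb'
        have h1 : f b' p = 0 := by simp [hb', hf.bilinear.add_left, hf.bilinear.smul_left, hb, hv₀]
        have h2 : f b' c = 0 := by
          simp [hb', hf.bilinear.add_left, hf.bilinear.smul_left, div_mul_cancel₀ _ hv₀c, CharTwo.add_self_eq_zero]
        have h3 := hcon b' h1 h2
        simp only [hb', hf.bilinear.add_left, hf.bilinear.smul_left] at h3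
        rw [hf.bilinear.add_right, hf.bilinear.smul_right, hy]
        field_simp at h3 ⊢
        linear_combination h3)
      refine hu x y ?_
      rw [← hx, add_assoc, vadd_self hf, add_zero]
    have h := hC.inv hN hp hc hcp hup huc (v := (γ / f v u) • v) (by rw [hf.bilinear.smul_left, hvp, mul_zero])
    simp only [hf.bilinear.smul_left, hvc, mul_zero, zero_smul, zero_add, add_zero, div_mul_cancel₀ _ hvu] at h
    simpa using h

end Ctx

end Cfsg.Agent.SpTwoRad
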