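import Cfsg.Agent.Lib.SpTwoRadBasic

/-!
If one transvection is centred on the orbit, the group is the whole symplectic group.
-/

set_option autoImplicit false
set_option linter.unusedSectionVars false
set_option linter.unusedSimpArgs false
set_option linter.unnecessarySeqFocus false
set_option linter.unreachableTactic false
set_option linter.unusedTactic false

namespace Cfsg.Agent.SpTwoRad

open Cfsg.Agent.TransvectionMax
open scoped MatrixGroups Matrix

variable {ι : Type} [Fintype ι] [DecidableEq ι] {F : Type*} [Field F] [CharP F 2] [Fintype F]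
  {f : (ι → F) → (ι → F) → F} {L : Subgroup (GL ι F)} {a : ι → F}

theorem exists_perp_pair (hf : Cfsg.Geo.IsSymplecticForm f) (hdim : 4 ≤ Fintype.card ι) (p q : ι → F) :
    ∃ w, w ≠ 0 ∧ f w p = 0 ∧ f w q = 0 := by
  have h : LinearMap.ker ((fLeft hf.bilinear p).prod (fLeft hf.bilinear q)) ≠ ⊥ := by
    intro h0
    have h1 := LinearMap.finrank_range_add_finrank_ker ((fLeft hf.bilinear p).prod (fLeft hf.bilinear q))
    have h2 := Submodule.finrank_le (LinearMap.range ((fLeft hf.bilinear p).prod (fLeft hf.bilinear q)))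
    rw [h0, finrank_bot] at h1
    rw [Module.finrank_prod, Module.finrank_self] at h2
    rw [Module.finrank_fintype_fun_eq_card] at h1
    omega
  obtain ⟨w, hw, hw0⟩ := (Submodule.ne_bot_iff _).1 h
  simp only [LinearMap.mem_ker, LinearMap.prod_apply, Function.prod_apply, Prod.mk_eq_zero] at hw
  exact ⟨w, hw0, hw⟩

theorem exists_sqrt (x : F) : ∃ y : F, y ^ 2 = x := by
  obtain ⟨y, hy⟩ := FiniteField.isSquare_of_char_two (ringChar.eq F 2) x
  exact ⟨y, by rw [hy, sq]⟩

theorem eq_one_of_sq {x : F} (h : x ^ 2 = 1) : x = 1 := by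
  have := CharTwo.two_eq_zero (R := F)
  have h1 : (x - 1) ^ 2 = 0 := by linear_combination h + (1 - x) * this
  exact sub_eq_zero.1 (pow_eq_zero_iff two_ne_zero |>.1 h1)

/-- All transvections at `p`. -/
def FullAt (f : (ι → F) → (ι → F) → F) (L : Subgroup (GL ι F)) (p : ι → F) : Prop := ∀ χ, st f p χ ∈ L

namespace Ctx

variable (hC : Ctx f L a)
include hC

theorem st_transport {p q : ι → F} {g : GL ι F} (hg : g ∈ L) {c χ : F} (h : st f p χ ∈ L) (e : ac g p = c • q) :
    st f q (χ * c ^ 2) ∈ L := by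
  have := mul_mem (mul_mem hg h) (inv_mem hg)
  rwa [st_conj hC.sf (hC.iso g hg), show (g : Matrix ι ι F) *ᵥ p = c • q from e, st_smul hC.sf] at this

theorem fullAt_all {p q : ι → F} (hp : Pt L a p) (hq : Pt L a q) (h : FullAt f L p) : FullAt f L q := by
  obtain ⟨g, hg, c, hc, e⟩ := hC.exists_map hp hq
  intro χ
  have := hC.st_transport hg (h (χ / c ^ 2)) e
  rwa [div_mul_cancel₀ _ (pow_ne_zero 2 hc)] at this

variable {c₀ : F} (hc₀ : c₀ ≠ 0) (htr : st f a c₀ ∈ L)
include hc₀ htr

theorem exists_transv {p : ι → F} (hp : Pt L a p) : ∃ c, c ≠ 0 ∧ st f p c ∈ L := by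
  obtain ⟨g, hg, c, hc, e⟩ := hC.exists_map hC.pt_self hp
  exact ⟨_, mul_ne_zero hc₀ (pow_ne_zero 2 hc), hC.st_transport hg htr e⟩

theorem exists_level (hdim : 4 ≤ Fintype.card ι) {p q : ι → F} (hq : Pt L a q) :
    ∃ w, w ≠ 0 ∧ f w p = 0 ∧ f w q = 0 ∧ S f q w 0 ∈ L := by
  classical
  have hf := hC.sf
  obtain ⟨w, hw0, hwp, hwq⟩ := exists_perp_pair hf hdim p q
  have hl : ∀ x : F, f (x • w) q = 0 := fun x => by rw [hf.bilinear.smul_left, hwq, mul_zero]
  have hxy : ∀ x y : F, f (x • w) (y • w) = 0 := fun x y => by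
    rw [hf.bilinear.smul_left, hf.bilinear.smul_right, hf.alternating, mul_zero, mul_zero]
  choose χ hχ using fun x : F => hC.pt_graph hq (hl x)
  let η : F → F := fun x => if x = 0 then 0 else χ x
  have hη : ∀ x, S f q (x • w) (η x) ∈ L := by
    intro x
    by_cases h : x = 0
    · simp only [η, h, if_true, zero_smul, S_one hf]
      exact L.one_mem
    · simp only [η, if_neg h]
      exact hχ x
  suffices ∃ x : F, x ≠ 0 ∧ S f q (x • w) 0 ∈ L by
    obtain ⟨x, hx, h⟩ := this
    exact ⟨x • w, smul_ne_zero hx hw0, by rw [hf.bilinear.smul_left, hwp, mul_zero], hl x, h⟩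
  by_cases hinj : Function.Injective η
  · obtain ⟨c, hc, hct⟩ := hC.exists_transv hc₀ htr hq
    obtain ⟨x, hx⟩ := (Finite.injective_iff_surjective.1 hinj) c
    refine ⟨x, fun h => hc (by rw [← hx]; simp [η, h]), ?_⟩
    have := mul_mem (hη x) hct
    rwa [← S_transv hf, S_mul hf (hl x) (zero_left hf.bilinear q), hx, zero_right hf.bilinear, add_zero, add_zero,
      CharTwo.add_self_eq_zero] at this
  · simp only [Function.Injective, not_forall] at hinj
    obtain ⟨x, y, hxy', hne⟩ := hinj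
    refine ⟨x + y, fun h => hne (CharTwo.add_eq_zero.1 h), ?_⟩
    have := mul_mem (hη x) (hη y)
    rwa [S_mul hf (hl x) (hl y), hxy, add_zero, hxy', CharTwo.add_self_eq_zero, ← add_smul] at this

omit hc₀ htr in
/-- A transvection at a perpendicular point gives a line in the radical. -/
theorem line {p c : ι → F} (hp : Pt L a p) (hcp : f c p = 0) (hind : ∀ x : F, c ≠ x • p) {d : F} (hd : d ≠ 0)
    (ht : st f c d ∈ L) (μ : F) : S f p (μ • c) (μ ^ 2 / d) ∈ L := by
  have hf := hC.sf
  obtain ⟨u₀, hu₀, hu₀c⟩ : ∃ u, f u p = 0 ∧ f u c ≠ 0 := by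
    by_contra hcon
    push Not at hcon
    obtain ⟨x, hx⟩ := eq_smul_of_perp_le hf (hC.pt_ne hp) hcon
    exact hind x hx
  obtain ⟨k, hk⟩ : ∃ k : F, k = μ / d := ⟨_, rfl⟩
  set u := (k / f u₀ c) • u₀ with hu
  have hup : f u p = 0 := by rw [hu, hf.bilinear.smul_left, hu₀, mul_zero]
  have huc : f u c = k := by rw [hu, hf.bilinear.smul_left, div_mul_cancel₀ _ hu₀c]
  obtain ⟨χ, hx⟩ := hC.pt_graph hp hup
  have hxc : ac (S f p u χ) c = c + k • p := by
    rw [S_act hf hup, hcp, symm hf c u, huc]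
    simp
  have hm := mul_mem (mul_mem (mul_mem hx ht) (inv_mem hx)) ht
  rw [st_conj hf (S_preserves hf p u χ), show (S f p u χ : Matrix ι ι F) *ᵥ c = c + k • p from hxc] at hm
  have e : st f (c + k • p) d * st f c d = S f p (μ • c) (μ ^ 2 / d) := by
    refine gl_ext fun v => ?_
    change ac _ _ = ac _ _
    rw [ac_mul hf, S_act hf (by rw [hf.bilinear.smul_left, hcp, mul_zero])]
    simp only [ac, st_act hf, hf.bilinear.add_left, hf.bilinear.add_right, hf.bilinear.smul_left,
      hf.bilinear.smul_right, hf.alternating, hcp, symm hf p c, hk]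
    have := CharTwo.two_eq_zero (R := F)
    match_scalars <;> field_simp <;> ring_nf <;> simp [this]
  rwa [e] at hm

theorem fullAt_self (hdim : 4 ≤ Fintype.card ι) : FullAt f L a := by
  classical
  have hf := hC.sf
  by_contra hnot
  have hno : ∀ p, Pt L a p → ¬ FullAt f L p := fun p hp h => hnot (hC.fullAt_all hp hC.pt_self h)
  -- a non-trivial line of transvection values fills the root group
  have hfill : ∀ p, Pt L a p → ∀ k : F, (∀ x : F, st f p (x ^ 2 * k) ∈ L) → k = 0 := by
    intro p hp k h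
    by_contra hk
    refine hno p hp fun χ => ?_
    obtain ⟨x, hx⟩ := exists_sqrt (χ / k)
    have := h x
    rwa [hx, div_mul_cancel₀ _ hk] at this
  -- the value is unique
  have huniq : ∀ c, Pt L a c → ∀ d d' : F, d ≠ 0 → d' ≠ 0 → st f c d ∈ L → st f c d' ∈ L → d = d' := by
    intro c hc d d' hd hd' h h'
    obtain ⟨q, hq, hcq⟩ := hC.exists_partner hc
    obtain ⟨w, hw0, hwc, hwq, hw⟩ := hC.exists_level hc₀ htr hdim (p := c) hq
    have hp : Pt L a (c + w) := by
      have := hC.pt_ac hc hw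
      rwa [S_act hf hwq, hcq, symm hf c w, hwc, zero_smul, add_zero, zero_mul, zero_smul, add_zero, one_smul] at this
    have hperp : f c (c + w) = 0 := by rw [hf.bilinear.add_right, hf.alternating, symm hf c w, hwc, add_zero]
    have hind : ∀ x : F, c ≠ x • (c + w) := by
      intro x hx
      have h1 := congrArg (fun v => f v q) hx
      simp only [hf.bilinear.smul_left, hf.bilinear.add_left, hcq, hwq, add_zero, mul_one] at h1
      rw [← h1, one_smul, left_eq_add] at hx
      exact hw0 hx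
    have hk := hfill _ hp (d⁻¹ + d'⁻¹) fun x => by
      have := mul_mem (hC.line hp hperp hind hd h x) (hC.line hp hperp hind hd' h' x)
      have hxc : f (x • c) (c + w) = 0 := by rw [hf.bilinear.smul_left, hperp, mul_zero]
      rw [S_mul hf hxc hxc, vadd_self hf, hf.alternating, add_zero, S_transv hf] at this
      rwa [mul_add, ← div_eq_mul_inv, ← div_eq_mul_inv]
    exact inv_inj.1 (CharTwo.add_eq_zero.1 hk)
  -- products of values over hyperbolic pairs
  have hpair : ∀ p q, Pt L a p → Pt L a q → f p q = 1 → ∀ d d' : F, d ≠ 0 → d' ≠ 0 → st f p d ∈ L →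
      st f q d' ∈ L → d * d' = 1 ∧ ∃ w κ, κ ≠ 0 ∧ f w p = 0 ∧ f w q = 0 ∧
        ∀ μ : F, S f p (μ • w) (μ ^ 2 * κ) ∈ L := by
    intro p q hp hq hpq d d' hd hd' ht ht'
    have hqp : f q p = 1 := by rw [symm hf, hpq]
    obtain ⟨w, hw0, hwp, hwq, hw⟩ := hC.exists_level hc₀ htr hdim (p := p) hq
    have hmov : ∀ {x y : ι → F}, f x y = 0 → f w x = 0 → f w y = 0 → ∀ k : F, f (x + k • w) x = 0 := by
      intro x y _ h1 _ k
      rw [hf.bilinear.add_left, hf.alternating, hf.bilinear.smul_left, h1, mul_zero, add_zero]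
    have hsh : ∀ {x y : ι → F} {k : F}, f y x = 1 → f w x = 0 → f w y = 0 → S f x (k • w) 0 ∈ L → Pt L a y →
        Pt L a (y + k • w) ∧ f (y + k • w) y = 0 ∧
        (∀ e : F, st f y e ∈ L → st f (y + k • w) e ∈ L) := by
      intro x y k hyx hwx hwy hS hy
      have e : ac (S f x (k • w) 0) y = y + k • w := by
        rw [S_act hf (by rw [hf.bilinear.smul_left, hwx, mul_zero]), hyx, hf.bilinear.smul_right, symm hf y w, hwy]
        simp
      refine ⟨e ▸ hC.pt_ac hy hS, by rw [hf.bilinear.add_left, hf.alternating, hf.bilinear.smul_left, hwy, mul_zero,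
        add_zero], fun t ht => ?_⟩
      have := mul_mem (mul_mem hS ht) (inv_mem hS)
      rwa [st_conj hf (S_preserves hf _ _ _), show (S f x (k • w) 0 : Matrix ι ι F) *ᵥ y = _ from e] at this
    have hlin : ∀ {x y : ι → F} {k : F}, f y x = 1 → f w x = 0 → f w y = 0 → k ≠ 0 →
        ∀ {e : F}, e ≠ 0 → Pt L a y → f (y + k • w) y = 0 → st f (y + k • w) e ∈ L →
        ∀ μ : F, S f y ((μ * k) • w) (μ ^ 2 / e) ∈ L := by
      intro x y k hyx hwx hwy hk e he hy hperp hte μ
      have := hC.line hy hperp (fun z hz => by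
        have h1 := congrArg (fun v => f v x) hz
        simp only [hf.bilinear.smul_left, hf.bilinear.add_left, hwx, mul_zero, add_zero, hyx, mul_one] at h1
        rw [← h1, one_smul, add_eq_left] at hz
        exact smul_ne_zero hk (by assumption) hz) he hte μ
      rwa [smul_add, smul_smul, add_comm, S_congr hf (by rw [hf.bilinear.smul_left, hwy, mul_zero])] at this
    -- first line
    obtain ⟨hp1, hperp1, hpush1⟩ := hsh (k := 1) hpq hwq hwp (by rwa [one_smul]) hp
    have hκ : ∀ μ : F, S f p (μ • w) (μ ^ 2 * d⁻¹) ∈ L := fun μ => by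
      have := hlin (x := q) hpq hwq hwp one_ne_zero hd hp hperp1 (hpush1 d ht) μ
      rwa [mul_one, div_eq_mul_inv] at this
    refine ⟨?_, w, d⁻¹, inv_ne_zero hd, hwp, hwq, hκ⟩
    -- a level element at p
    obtain ⟨μ₀, hμ₀⟩ := exists_sqrt (d * d)
    have hμ₀0 : μ₀ ≠ 0 := fun h => mul_ne_zero hd hd (by rw [← hμ₀, h]; ring)
    have hlev : S f p (μ₀ • w) 0 ∈ L := by
      have := mul_mem (hκ μ₀) ht
      rwa [← S_transv hf p, S_mul hf (by rw [hf.bilinear.smul_left, hwp, mul_zero]) (zero_left hf.bilinear p), add_zero,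
        zero_right hf.bilinear, add_zero, hμ₀, mul_assoc, mul_inv_cancel₀ hd, mul_one,
        CharTwo.add_self_eq_zero] at this
    obtain ⟨hq1, hperp2, hpush2⟩ := hsh hqp hwp hwq hlev hq
    have hκ' := hlin (x := p) hqp hwp hwq hμ₀0 hd' hq hperp2 (hpush2 d' ht')
    have hlev' : S f q ((d' * μ₀) • w) 0 ∈ L := by
      have := mul_mem (hκ' d') ht'
      rwa [← S_transv hf q, S_mul hf (by rw [hf.bilinear.smul_left, hwq, mul_zero]) (zero_left hf.bilinear q), add_zero,
        zero_right hf.bilinear, add_zero, sq, mul_div_assoc, div_self hd', mul_one,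
        CharTwo.add_self_eq_zero] at this
    obtain ⟨hp2, hperp3, hpush3⟩ := hsh hpq hwq hwp hlev' hp
    have hκ'' := hlin (x := q) hpq hwq hwp (mul_ne_zero hd' hμ₀0) hd hp hperp3 (hpush3 d ht)
    have hk := hfill p hp ((d' * μ₀) ^ 2 * d⁻¹ + d⁻¹) fun x => by
      have := mul_mem (hκ (x * (d' * μ₀))) (hκ'' x)
      have hxw : f ((x * (d' * μ₀)) • w) p = 0 := by rw [hf.bilinear.smul_left, hwp, mul_zero]
      rw [S_mul hf hxw hxw, vadd_self hf, hf.alternating, add_zero, S_transv hf] at this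
      convert this using 2
      ring
    have hk' := CharTwo.add_eq_zero.1 hk
    apply eq_one_of_sq
    field_simp at hk'
    linear_combination hk' - d' ^ 2 * hμ₀
  obtain ⟨q, hq, haq⟩ := hC.exists_partner hC.pt_self
  obtain ⟨d, hd, ht⟩ := hC.exists_transv hc₀ htr hC.pt_self
  obtain ⟨d', hd', ht'⟩ := hC.exists_transv hc₀ htr hq
  obtain ⟨-, w, κ, hκ0, hwa, hwq, hκ⟩ := hpair a q hC.pt_self hq haq d d' hd hd' ht ht'
  have hqa : f q a = 1 := by rw [symm hf, haq]
  have key : ∀ μ : F, μ ≠ 0 → d' * (μ ^ 2 * κ) = 1 := by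
    intro μ hμ
    have hne : μ ^ 2 * κ ≠ 0 := mul_ne_zero (pow_ne_zero 2 hμ) hκ0
    set s := μ ^ 2 * κ with hs
    have hS : S f a (μ • w) s ∈ L := hκ μ
    set y := ac (S f a (μ • w) s) q with hy
    have hfy : f q y = s := by
      rw [hy, S_act hf (by rw [hf.bilinear.smul_left, hwa, mul_zero])]
      simp [hf.bilinear.add_right, hf.bilinear.smul_right, hf.bilinear.smul_left, hf.alternating, hqa, symm hf q w, hwq]
    have hyt : st f y d' ∈ L := by
      have := mul_mem (mul_mem hS ht') (inv_mem hS)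
      rwa [st_conj hf (S_preserves hf _ _ _)] at this
    have hyt' : st f (s⁻¹ • y) (d' * s ^ 2) ∈ L := by
      rw [st_smul hf]
      convert hyt using 2
      field_simp
    obtain ⟨h, -⟩ := hpair q (s⁻¹ • y) hq (hC.pt_smul (hC.pt_ac hq hS) (inv_ne_zero hne))
      (by rw [hf.bilinear.smul_right, hfy, inv_mul_cancel₀ hne]) d' (d' * s ^ 2) hd'
      (mul_ne_zero hd' (pow_ne_zero 2 hne)) ht' hyt'
    exact eq_one_of_sq (by linear_combination h)
  apply hnot
  intro χ
  by_cases hχ : χ = 0
  · rw [hχ, st_zero hf]; exact L.one_mem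
  suffices χ = d by rw [this]; exact ht
  by_contra hne
  obtain ⟨x, hx⟩ := exists_sqrt (χ / d)
  have hx0 : x ≠ 0 := fun h => div_ne_zero hχ hd (by rw [← hx, h]; ring)
  have h1 := key x hx0
  have h2 := key 1 one_ne_zero
  rw [one_pow, one_mul] at h2
  rw [mul_left_comm, h2, mul_one, hx, div_eq_one_iff_eq hd] at h1
  exact hne h1

/-- A group with a transvection on the orbit contains all isometries. -/
theorem mem_of_transv (hdim : 4 ≤ Fintype.card ι) (g : GL ι F) (hg : ∀ x y, f (ac g x) (ac g y) = f x y) : g ∈ L := by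
  have hf := hC.sf
  have hfull := fun p hp => hC.fullAt_all hC.pt_self hp (hC.fullAt_self hc₀ htr hdim) (q := p)
  have hnear : ∀ p, Pt L a p → ∀ v, f v p ≠ 0 → Pt L a v := by
    intro p hp v hv
    obtain ⟨q, hq, hpq⟩ := hC.exists_partner hp
    have hqp : f q p = 1 := by rw [symm hf, hpq]
    set v' := (f v p)⁻¹ • v with hv'
    set u := v' + q with hu
    have hup : f u p = 0 := by
      rw [hu, hv', hf.bilinear.add_left, hf.bilinear.smul_left, inv_mul_cancel₀ hv, hqp, CharTwo.add_self_eq_zero]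
    obtain ⟨χ, hχ⟩ := hC.pt_graph hp hup
    have hS : S f p u (f q u) ∈ L := by
      have := mul_mem hχ (hfull p hp (χ + f q u))
      rwa [← S_transv hf p, S_mul hf hup (zero_left hf.bilinear p), add_zero, zero_right hf.bilinear, add_zero,
        ← add_assoc, CharTwo.add_self_eq_zero, zero_add] at this
    have h := hC.pt_ac hq hS
    rw [S_act hf hup, hqp, one_smul, mul_one, add_assoc, ← add_smul, CharTwo.add_self_eq_zero, zero_smul, add_zero,
      hu, add_left_comm, vadd_self hf, add_zero] at h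
    have := hC.pt_smul h hv
    rwa [hv', smul_smul, mul_inv_cancel₀ hv, one_smul] at this
  refine isometry_mem hf (fun v χ => ?_) g hg
  by_cases hv : v = 0
  · have : st f v χ = 1 := gl_ext fun x => by rw [st_act hf, hv, one_act]; simp
    rw [this]; exact L.one_mem
  obtain ⟨z, hza, hzv⟩ := exists_common hf hC.ne hv
  exact hfull v (hnear z (hnear a hC.pt_self z hza) v (by rwa [symm hf])) χ

end Ctx

end Cfsg.Agent.SpTwoRad
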