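import Mathlib
import Cfsg.Prelude.Def_Exceptional
import Cfsg.Agent.Lib.PSLCard
import Cfsg.Agent.Lib.PSL2Proj52

/-!
Groups all of whose non-trivial elements have order a power of `2` or an odd prime other than `5`:
the arithmetic part, ruling out the simple candidates other than `PSL(2,7)`.
-/

set_option autoImplicit false

namespace Cfsg.Agent.SpecPrimes5Arith

open scoped MatrixGroups

universe u

/-- Every non-trivial element has order a power of two or a prime different from five. -/
def Spec (G : Type u) [Group G] : Prop :=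
  ∀ g : G, g ≠ 1 → (∃ k : ℕ, orderOf g = 2 ^ k) ∨ ((orderOf g).Prime ∧ orderOf g ≠ 5)

variable {G : Type u} [Group G]

theorem Spec.no_pq (h : Spec G) {p q : ℕ} (hp : p.Prime) (hq : q.Prime) (hne : p ≠ q) {g : G}
    (h1 : p ∣ orderOf g) (h2 : q ∣ orderOf g) : False := by
  have hg : g ≠ 1 := fun e => hp.not_dvd_one (by rwa [e, orderOf_one] at h1)
  rcases h g hg with ⟨k, hk⟩ | ⟨hpr, -⟩
  · rw [hk] at h1 h2
    exact hne (((Nat.prime_dvd_prime_iff_eq hp Nat.prime_two).1 (hp.dvd_of_dvd_pow h1)).trans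
      ((Nat.prime_dvd_prime_iff_eq hq Nat.prime_two).1 (hq.dvd_of_dvd_pow h2)).symm)
  · exact hne (((Nat.prime_dvd_prime_iff_eq hp hpr).1 h1).trans
      ((Nat.prime_dvd_prime_iff_eq hq hpr).1 h2).symm)

theorem Spec.no_five (h : Spec G) [Finite G] (h5 : 5 ∣ Nat.card G) : False := by
  haveI : Fact (Nat.Prime 5) := ⟨by norm_num⟩
  obtain ⟨g, hg⟩ := exists_prime_orderOf_dvd_card' 5 h5
  rcases h g (fun e => by rw [e, orderOf_one] at hg; norm_num at hg) with ⟨k, hk⟩ | ⟨-, hne⟩
  · have : 5 ∣ 2 ^ k := by rw [← hk, hg]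
    exact absurd (Nat.Prime.dvd_of_dvd_pow (by norm_num) this) (by norm_num)
  · exact hne hg

theorem Spec.no_comm (h : Spec G) [Finite G] {a b : G} (hc : Commute a b) {p q : ℕ} (hp : p.Prime)
    (hq : q.Prime) (hne : p ≠ q) (h1 : p ∣ orderOf a) (h2 : q ∣ orderOf b) : False := by
  have ha : orderOf (a ^ (orderOf a / p)) = p :=
    orderOf_pow_orderOf_div (orderOf_pos a).ne' h1
  have hb : orderOf (b ^ (orderOf b / q)) = q :=
    orderOf_pow_orderOf_div (orderOf_pos b).ne' h2
  have hab := (hc.pow_pow (orderOf a / p) (orderOf b / q)).orderOf_mul_eq_mul_orderOf_of_coprime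
    (by rw [ha, hb]; exact (Nat.coprime_primes hp hq).2 hne)
  rw [ha, hb] at hab
  exact h.no_pq hp hq hne ((dvd_mul_right p q).trans (dvd_of_eq hab.symm))
    ((dvd_mul_left q p).trans (dvd_of_eq hab.symm))

theorem Spec.of_hom_injective (h : Spec G) {H : Type u} [Group H] (f : H →* G)
    (hf : Function.Injective f) : Spec H := by
  intro x hx
  have := h (f x) (fun e => hx (hf (by rw [e, map_one])))
  rwa [orderOf_injective f hf] at this

theorem Spec.quotient (h : Spec G) (N : Subgroup G) [N.Normal] : Spec (G ⧸ N) := by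
  intro x hx
  obtain ⟨g, rfl⟩ := QuotientGroup.mk'_surjective N x
  have hd := orderOf_map_dvd (QuotientGroup.mk' N) g
  rcases h g (fun e => hx (by rw [e, map_one])) with ⟨k, hk⟩ | ⟨hp, h5⟩
  · rw [hk] at hd
    obtain ⟨j, -, hj⟩ := (Nat.dvd_prime_pow Nat.prime_two).1 hd
    exact Or.inl ⟨j, hj⟩
  · rcases hp.eq_one_or_self_of_dvd _ hd with h1 | h1
    · exact absurd (orderOf_eq_one_iff.1 h1) hx
    · exact Or.inr ⟨by rwa [h1], by rwa [h1]⟩

/-- An odd element order divisible by three is three. -/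
theorem Spec.eq_three (h : Spec G) {g : G} {m : ℕ} (hg : orderOf g = m) (hm : Odd m) (h3 : 3 ∣ m) :
    m = 3 := by
  have hg1 : g ≠ 1 := fun e => by
    rw [← hg, e, orderOf_one] at h3
    norm_num at h3
  rcases h g hg1 with ⟨k, hk⟩ | ⟨hp, -⟩
  · rw [hg] at hk
    rw [hk] at h3
    exact absurd (Nat.Prime.dvd_of_dvd_pow Nat.prime_three h3) (by norm_num)
  · rw [hg] at hp
    exact ((Nat.prime_dvd_prime_iff_eq Nat.prime_three hp).1 h3).symm

variable {F : Type} [Field F] [Finite F]

theorem exists_orders :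
    (∃ g : Matrix.ProjectiveSpecialLinearGroup (Fin 2) F,
      orderOf g = (Nat.card F - 1) / Nat.gcd 2 (Nat.card F - 1)) ∧
    (∃ g : Matrix.ProjectiveSpecialLinearGroup (Fin 2) F,
      orderOf g = (Nat.card F + 1) / Nat.gcd 2 (Nat.card F - 1)) := by
  obtain ⟨a, ha⟩ := PSL2Proj52.exists_orderOf_card_sub_one (F := F)
  obtain ⟨A, hA⟩ := PSL2Proj52.exists_orderOf_card_add_one (F := F)
  exact ⟨⟨_, PSL2Proj52.orderOf_π PSL2Proj52.gcd_dvd.1 ha⟩,
    ⟨_, PSL2Proj52.orderOf_π PSL2Proj52.gcd_dvd.2 hA⟩⟩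

/-- `PSL(2,F)` with three prime divisors and this spectrum, in the list of the classification, has
seven points in the field. -/
theorem card_field [Finite G]
    (hF : Nat.card F = 9 ∨ (∃ n : ℕ, Nat.card F = 2 ^ n) ∨
      ((Nat.card F).Prime ∧ ∃ k : ℕ, Nat.card F = 2 ^ k + 1 ∨ Nat.card F + 1 = 2 ^ k))
    (e : G ≃* Matrix.ProjectiveSpecialLinearGroup (Fin 2) F) (h : Spec G)
    (h3 : 3 ≤ (Nat.card G).primeFactors.card) : Nat.card F = 7 := by
  have hT : Spec (Matrix.ProjectiveSpecialLinearGroup (Fin 2) F) := by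
    intro x hx
    have := h (e.symm x) (fun e' => hx (by simpa using congrArg e e'))
    rwa [MulEquiv.orderOf_eq] at this
  obtain ⟨⟨g1, hg1⟩, ⟨g2, hg2⟩⟩ := exists_orders (F := F)
  have hq1 := PSLCard.one_lt_card F
  have hcard := PSLCard.card_PSL2_mul (F := F)
  rw [← Nat.card_congr e.toEquiv] at hcard
  have hsmall : Nat.card F = 2 ∨ Nat.card F = 3 → False := by
    rintro (h' | h') <;> rw [h'] at hcard <;> norm_num at hcard
    · rw [hcard] at h3
      have : (6 : ℕ).primeFactors ⊆ {2, 3} := fun p hp => by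
        obtain ⟨hp, hd, -⟩ := Nat.mem_primeFactors.1 hp
        have := Nat.le_of_dvd (by norm_num) hd
        interval_cases p <;> simp_all (config := { decide := true })
      have := (Finset.card_le_card this).trans Finset.card_le_two
      omega
    · have h12 : Nat.card G = 12 := by omega
      rw [h12] at h3
      have : (12 : ℕ).primeFactors ⊆ {2, 3} := fun p hp => by
        obtain ⟨hp, hd, -⟩ := Nat.mem_primeFactors.1 hp
        have := Nat.le_of_dvd (by norm_num) hd
        interval_cases p <;> simp_all (config := { decide := true })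
      have := (Finset.card_le_card this).trans Finset.card_le_two
      omega
  have hno5 : ∀ g : Matrix.ProjectiveSpecialLinearGroup (Fin 2) F, orderOf g = 5 → False :=
    fun g hg => hT.no_five (hg ▸ orderOf_dvd_natCard g)
  rcases hF with h9 | ⟨n, hn⟩ | ⟨hp, k, hk⟩
  · exfalso
    apply hno5 g2
    rw [hg2, h9]
    norm_num
  · exfalso
    have hn0 : n ≠ 0 := fun e => by subst e; simp at hn; omega
    have hev : Even (Nat.card F) := by rw [hn]; exact even_two.pow_of_ne_zero hn0
    rcases PSL2Proj52.gcd_eq (F := F) with ⟨ho, -⟩ | ⟨-, hgcd⟩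
    · exact Nat.not_even_iff_odd.2 ho hev
    rw [hgcd, Nat.div_one] at hg1 hg2
    have hq3 : ¬ 3 ∣ Nat.card F := fun h' => by
      rw [hn] at h'
      exact absurd (Nat.Prime.dvd_of_dvd_pow Nat.prime_three h') (by norm_num)
    obtain ⟨c, hc⟩ := hev
    rcases (show 3 ∣ Nat.card F - 1 ∨ 3 ∣ Nat.card F + 1 by
        rcases (show Nat.card F % 3 = 1 ∨ Nat.card F % 3 = 2 by omega) with h' | h'
        · left; omega
        · right; omega) with h' | h'
    · have := hT.eq_three hg1 ⟨c - 1, by omega⟩ h'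
      exact hno5 g2 (by omega)
    · have := hT.eq_three hg2 ⟨c, by omega⟩ h'
      exact hsmall (Or.inl (by omega))
  · rcases hp.eq_two_or_odd' with h2 | hodd
    · exact (hsmall (Or.inl h2)).elim
    have hq3 : Nat.card F ≠ 3 := fun h' => hsmall (Or.inr h')
    have hgcd : Nat.gcd 2 (Nat.card F - 1) = 2 := by
      rcases PSL2Proj52.gcd_eq (F := F) with ⟨-, hgcd⟩ | ⟨he, -⟩
      · exact hgcd
      · exact absurd he (Nat.not_even_iff_odd.2 hodd)
    rw [hgcd] at hg1 hg2 hcard
    obtain ⟨c, hc⟩ := hodd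
    have h3q : ¬ 3 ∣ Nat.card F := fun h' =>
      hq3 ((Nat.prime_dvd_prime_iff_eq Nat.prime_three hp).1 h').symm
    have h5 : Nat.card F ≠ 5 := fun h' => by
      rw [h'] at hcard
      norm_num at hcard
      exact h.no_five ⟨12, by omega⟩
    have hk2 : 2 ≤ k := by
      rcases k with _ | _ | k
      · rcases hk with hk | hk <;> simp at hk <;> omega
      · rcases hk with hk | hk <;> simp at hk <;> omega
      · omega
    obtain ⟨j, rfl⟩ : ∃ j, k = j + 2 := ⟨k - 2, by omega⟩
    rw [pow_add] at hk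
    rcases hk with hk | hk
    · -- `q = 2^k + 1`
      have hm : Odd ((Nat.card F + 1) / 2) := ⟨2 ^ j, by omega⟩
      rcases (show 3 ∣ (Nat.card F - 1) / 2 ∨ 3 ∣ (Nat.card F + 1) / 2 by
          rcases (show Nat.card F % 3 = 1 ∨ Nat.card F % 3 = 2 by omega) with h' | h'
          · left; omega
          · right; omega) with h' | h'
      · have h'' : 3 ∣ 2 ^ (j + 1) := by
          rw [pow_succ]
          have : (Nat.card F - 1) / 2 = 2 ^ j * 2 := by omega
          rwa [this] at h'
        exact absurd (Nat.Prime.dvd_of_dvd_pow Nat.prime_three h'') (by norm_num)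
      · have := hT.eq_three hg2 hm h'
        omega
    · -- `q = 2^k - 1`
      have hm : Odd ((Nat.card F - 1) / 2) := ⟨2 ^ j - 1, by have := Nat.one_le_two_pow (n := j); omega⟩
      rcases (show 3 ∣ (Nat.card F - 1) / 2 ∨ 3 ∣ (Nat.card F + 1) / 2 by
          rcases (show Nat.card F % 3 = 1 ∨ Nat.card F % 3 = 2 by omega) with h' | h'
          · left; omega
          · right; omega) with h' | h'
      · have := hT.eq_three hg1 hm h'
        omega
      · have h'' : 3 ∣ 2 ^ (j + 1) := by
          rw [pow_succ]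
          have : (Nat.card F + 1) / 2 = 2 ^ j * 2 := by omega
          rwa [this] at h'
        exact absurd (Nat.Prime.dvd_of_dvd_pow Nat.prime_three h'') (by norm_num)

theorem five_dvd_psl3 {K : Type} [Field K] [Finite K] (hK : Nat.card K = 4) :
    5 ∣ Nat.card (Matrix.ProjectiveSpecialLinearGroup (Fin 3) K) := by
  have h1 := PSLCard.card_SL (F := K) 3
  have h2 := PSLCard.card_PSL_mul (F := K) 3
  rw [hK] at h1 h2
  rw [Fin.prod_univ_three] at h1
  norm_num at h1 h2
  omega

theorem five_dvd_suzuki [Finite G] (h : Cfsg.IsSuzuki G) : 5 ∣ Nat.card G := by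
  obtain ⟨-, m, -, hm⟩ := h
  rw [hm]
  refine Dvd.dvd.mul_right (Dvd.dvd.mul_left ?_ _) _
  have h4 : ∀ i : ℕ, (2 ^ (2 * i + 1)) ^ 2 % 5 = 4 := by
    intro i
    induction i with
    | zero => norm_num
    | succ i ih =>
      rw [show (2 ^ (2 * (i + 1) + 1)) ^ 2 = (2 ^ (2 * i + 1)) ^ 2 * 16 by ring, Nat.mul_mod, ih]
  have := h4 m
  omega

end Cfsg.Agent.SpecPrimes5Arith
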