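import Cfsg.Agent.Lib.SpecPrimes5Arith
import Cfsg.Agent.Lib.Simple168Classes
import Cfsg.Agent.Lib.FrobeniusFixedPoints
import Cfsg.Agent.Lib.FrobeniusBasic
import Cfsg.Agent.Lib.PrimeGraphSolvable
import Cfsg.Agent.Lib.CharInducedBurnside
import Cfsg.Agent.Lib.CIT21Main
import Cfsg.Agent.Lib.CIT21Frobenius

/-!
A non-solvable group all of whose non-trivial elements have order a power of `2` or an odd prime
other than `5` is simple of order `168`.
-/

set_option autoImplicit false
set_option linter.style.haveILetI false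

namespace Cfsg.Agent.SpecPrimes5Main

open Cfsg.Agent.SpecPrimes5Arith

universe u

variable {G : Type u} [Group G] [Finite G]

/-- Burnside, stated with the set of prime divisors. -/
theorem three_primes (hns : ¬ Group.IsSolvable G) : 3 ≤ (Nat.card G).primeFactors.card := by
  by_contra h
  have hG0 : Nat.card G ≠ 0 := Nat.card_pos.ne'
  obtain ⟨s, hsub, hs2, hsp⟩ : ∃ s : Finset ℕ, (Nat.card G).primeFactors ⊆ s ∧ s.card ≤ 2 ∧
      ∀ q ∈ s, q.Prime :=
    ⟨_, Finset.Subset.rfl, by omega, fun q hq => Nat.prime_of_mem_primeFactors hq⟩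
  have hprod : Nat.card G = ∏ q ∈ s, q ^ (Nat.card G).factorization q := by
    refine (Nat.prod_factorization_pow_eq_self hG0).symm.trans ?_
    refine Finset.prod_subset (by rwa [Nat.support_factorization]) (fun q _ hq => ?_)
    simp [Finsupp.notMem_support_iff.1 hq]
  apply hns
  rcases (show s.card = 0 ∨ s.card = 1 ∨ s.card = 2 by omega) with h0 | h1 | h1
  · rw [Finset.card_eq_zero.1 h0, Finset.prod_empty] at hprod
    exact CharInduced.solvable_of_card_two_primes 2 3 0 0 Nat.prime_two Nat.prime_three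
      (by simpa using hprod)
  · obtain ⟨q, rfl⟩ := Finset.card_eq_one.1 h1
    exact CharInduced.solvable_of_card_two_primes q q ((Nat.card G).factorization q) 0
      (hsp q (by simp)) (hsp q (by simp)) (by rw [pow_zero, mul_one]; simpa using hprod)
  · obtain ⟨q, r, hqr, rfl⟩ := Finset.card_eq_two.1 h1
    exact CharInduced.solvable_of_card_two_primes q r ((Nat.card G).factorization q)
      ((Nat.card G).factorization r) (hsp q (by simp)) (hsp r (by simp))
      (by rwa [Finset.prod_pair hqr] at hprod)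

/-- A non-trivial solvable normal subgroup contains an elementary abelian one. -/
theorem exists_elementary {M : Subgroup G} [M.Normal] (hsol : Group.IsSolvable M) (hM : M ≠ ⊥) :
    ∃ (q : ℕ) (V : Subgroup G), q.Prime ∧ V.Normal ∧ V ≠ ⊥ ∧
      (∀ x ∈ V, ∀ y ∈ V, x * y = y * x) ∧ ∀ x ∈ V, x ^ q = 1 := by
  classical
  have hex : ∃ n, ∃ V : Subgroup G, V.Normal ∧ V ≠ ⊥ ∧ V ≤ M ∧ Nat.card V = n :=
    ⟨_, M, inferInstance, hM, le_rfl, rfl⟩
  obtain ⟨V, hVn, hV1, hVM, hVc⟩ := Nat.find_spec hex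
  have hVs : Group.IsSolvable V :=
    haveI := hsol
    Group.isSolvable_of_isSolvable_injective (Subgroup.inclusion_injective hVM)
  have hab : ⁅V, V⁆ = ⊥ := by
    by_contra hne
    have hle : ⁅V, V⁆ ≤ V := Subgroup.commutator_le_left V V
    have heq : ⁅V, V⁆ = V := Subgroup.eq_of_le_of_card_ge hle (by
      rw [hVc]
      exact Nat.find_min' hex ⟨_, inferInstance, hne, hle.trans hVM, rfl⟩)
    haveI : Nontrivial V := (Subgroup.nontrivial_iff_ne_bot V).2 hV1
    haveI := hVs
    have hlt := Group.IsSolvable.commutator_lt_top_of_nontrivial (G := V)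
    apply hlt.ne
    apply Subgroup.map_injective V.subtype_injective
    rw [Subgroup.map_subtype_commutator, heq, ← MonoidHom.range_eq_map, Subgroup.range_subtype]
  have hcomm : ∀ x ∈ V, ∀ y ∈ V, x * y = y * x := fun x hx y hy =>
    (Subgroup.mem_centralizer_iff.1
      ((Subgroup.commutator_eq_bot_iff_le_centralizer.1 hab) hx) y hy).symm
  obtain ⟨q, hq, hqd⟩ := Nat.exists_prime_and_dvd
    (fun h => hV1 (Subgroup.card_eq_one.1 h) : Nat.card V ≠ 1)
  haveI : Fact q.Prime := ⟨hq⟩
  let W : Subgroup G :=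
    { carrier := {x | x ∈ V ∧ x ^ q = 1}
      one_mem' := ⟨V.one_mem, one_pow q⟩
      mul_mem' := fun {x y} hx hy => ⟨V.mul_mem hx.1 hy.1, by
        rw [(show Commute x y from hcomm x hx.1 y hy.1).mul_pow, hx.2, hy.2, mul_one]⟩
      inv_mem' := fun {x} hx => ⟨V.inv_mem hx.1, by rw [inv_pow, hx.2, inv_one]⟩ }
  have hWn : W.Normal := ⟨fun x (hx : x ∈ V ∧ x ^ q = 1) g =>
    ⟨hVn.conj_mem x hx.1 g, by rw [conj_pow, hx.2]; group⟩⟩
  refine ⟨q, W, hq, hWn, ?_, fun x hx y hy => hcomm x hx.1 y hy.1, fun x hx => hx.2⟩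
  obtain ⟨x, hx⟩ := exists_prime_orderOf_dvd_card' q hqd
  intro hbot
  have h2 : (x : G) ∈ W :=
    ⟨x.2, orderOf_dvd_iff_pow_eq_one.1 (by rw [Subgroup.orderOf_coe, hx])⟩
  rw [hbot, Subgroup.mem_bot] at h2
  exact hq.one_lt.ne (by rw [← hx, (show x = 1 from Subtype.ext h2), orderOf_one])

/-- The simple case: the classification of CIT groups leaves `168`. -/
theorem simple_case [IsSimpleGroup G] (hS : Spec G) (hns : ¬ Group.IsSolvable G) :
    Nat.card G = 168 := by
  have hna : ∃ a b : G, a * b ≠ b * a := by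
    by_contra h
    refine hns (IsSimpleGroup.comm_iff_isSolvable.1 fun a b => ?_)
    by_contra hab
    exact h ⟨a, b, hab⟩
  have hCIT : CIT21.IsCIT G := by
    intro t ht
    haveI := Fact.mk Nat.prime_two
    refine IsPGroup.iff_orderOf.2 fun c => ?_
    refine ⟨_, Nat.eq_prime_pow_of_unique_prime_dvd (orderOf_pos c).ne' fun {d} hd hdd => ?_⟩
    by_contra hne
    exact hS.no_comm (Subgroup.mem_centralizer_singleton_iff.1 c.2 : Commute (c : G) t) hd
      Nat.prime_two hne (by rwa [Subgroup.orderOf_coe]) (by rw [ht])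
  have h3 := three_primes hns
  rcases CIT21.classification CIT21.frobenius inferInstance hna hCIT with
    ⟨F, i, i', hF, ⟨e⟩⟩ | ⟨K, i, i', hK, ⟨e⟩⟩ | h
  · letI := i
    letI := i'
    have h7 : Nat.card F = 7 := card_field (by simpa [Nat.card_eq_fintype_card] using hF) e hS h3
    rw [Nat.card_congr e.toEquiv, PSLCard.card_PSL2_odd (by rw [h7]; decide), h7]
    norm_num
  · exfalso
    letI := i
    letI := i'
    exact hS.no_five (Nat.card_congr e.toEquiv ▸ five_dvd_psl3 (by rwa [Nat.card_eq_fintype_card]))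
  · exact (hS.no_five (five_dvd_suzuki h)).elim

/-- A group of order `2^k · 168` with this spectrum has an element of order `3` normalising a
subgroup of order `7`. -/
theorem exists_seven_three (hS : Spec G) {k : ℕ} (hG : Nat.card G = 2 ^ k * 168) :
    ∃ (P : Subgroup G) (x : G), Nat.card P = 7 ∧ orderOf x = 3 ∧
      x ∈ Subgroup.normalizer (P : Set G) := by
  haveI : Fact (Nat.Prime 7) := ⟨by norm_num⟩
  haveI : Fact (Nat.Prime 3) := ⟨by norm_num⟩
  obtain ⟨P⟩ := (inferInstance : Nonempty (Sylow 7 G))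
  have hnot : ¬ 7 ∣ 2 ^ (k + 3) * 3 := by
    intro h
    rcases (Nat.Prime.dvd_mul (by norm_num)).1 h with h | h
    · exact absurd (Nat.Prime.dvd_of_dvd_pow (by norm_num) h) (by norm_num)
    · norm_num at h
  have hG' : Nat.card G = 7 ^ 1 * (2 ^ (k + 3) * 3) := by rw [hG]; ring
  have hP : Nat.card (P : Subgroup G) = 7 := by
    rw [P.card_eq_multiplicity, hG', Nat.factorization_mul (by norm_num) (by positivity),
      Finsupp.add_apply, Nat.Prime.factorization_pow (by norm_num), Finsupp.single_eq_same,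
      Nat.factorization_eq_zero_of_not_dvd hnot]
    norm_num
  by_cases h3 : 3 ∣ Nat.card (Subgroup.normalizer ((P : Subgroup G) : Set G))
  · obtain ⟨x, hx⟩ := exists_prime_orderOf_dvd_card' 3 h3
    exact ⟨P, x, hP, by rw [Subgroup.orderOf_coe, hx], x.2⟩
  exfalso
  have hn7 := card_sylow_modEq_one 7 G
  have hmul : Nat.card (Sylow 7 G) * Nat.card (Subgroup.normalizer ((P : Subgroup G) : Set G)) =
      Nat.card G := by
    rw [P.card_eq_index_normalizer, mul_comm]
    exact Subgroup.card_mul_index _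
  have h7n : 7 ∣ Nat.card (Subgroup.normalizer ((P : Subgroup G) : Set G)) :=
    by
      have := Subgroup.card_dvd_of_le (Subgroup.le_normalizer (H := (P : Subgroup G)))
      rwa [hP] at this
  obtain ⟨m, hm⟩ := h7n
  rw [hm, hG', show Nat.card (Sylow 7 G) * (7 * m) = 7 * (Nat.card (Sylow 7 G) * m) by ring,
    pow_one] at hmul
  have hmul' := Nat.eq_of_mul_eq_mul_left (by norm_num : 0 < 7) hmul
  have h3n : 3 ∣ Nat.card (Sylow 7 G) := by
    have h' : 3 ∣ Nat.card (Sylow 7 G) * m := by rw [hmul']; exact dvd_mul_left 3 _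
    rcases (Nat.Prime.dvd_mul Nat.prime_three).1 h' with h | h
    · exact h
    · exact absurd (by rw [hm]; exact h.mul_left 7) h3
  obtain ⟨d, hd⟩ := h3n
  have hd2 : d ∣ 2 ^ (k + 3) := ⟨m, by
    refine Nat.eq_of_mul_eq_mul_left (by norm_num : 0 < 3) ?_
    rw [← mul_assoc, ← hd, hmul', mul_comm]⟩
  obtain ⟨j, -, hj⟩ := (Nat.dvd_prime_pow Nat.prime_two).1 hd2
  have hper : ∀ i, 2 ^ i % 7 = 1 ∨ 2 ^ i % 7 = 2 ∨ 2 ^ i % 7 = 4 := by
    intro i
    induction i with
    | zero => simp
    | succ i ih => rw [pow_succ]; omega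
  rw [Nat.ModEq, hd, hj] at hn7
  have := hper j
  omega

theorem solvable_elim (hS : Spec G) {V : Subgroup G} [V.Normal] {q : ℕ} (hq : q.Prime)
    (hV1 : V ≠ ⊥) (hVc : ∀ x ∈ V, ∀ y ∈ V, x * y = y * x) (hVq : ∀ x ∈ V, x ^ q = 1)
    [IsSimpleGroup (G ⧸ V)] (hQ : Nat.card (G ⧸ V) = 168) : False := by
  haveI := Fact.mk hq
  have hord : ∀ v ∈ V, v ≠ 1 → orderOf v = q := fun v hv hv1 =>
    orderOf_eq_prime (hVq v hv) hv1
  obtain ⟨v₀, hv₀, hv₀1⟩ := V.bot_or_exists_ne_one.resolve_left hV1
  have hGc : Nat.card G = 168 * Nat.card V := by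
    rw [V.card_eq_card_quotient_mul_card_subgroup, hQ]
  by_cases hq2 : q = 2
  · subst hq2
    have hVp : IsPGroup 2 V := fun v => ⟨1, Subtype.ext (by simpa using hVq v v.2)⟩
    obtain ⟨k, hk⟩ := hVp.exists_card_eq
    obtain ⟨P, x, hP, hx, hxP⟩ := exists_seven_three hS (k := k) (by rw [hGc, hk, mul_comm])
    haveI : Fact (Nat.Prime 7) := ⟨by norm_num⟩
    haveI : Fact (Nat.Prime 3) := ⟨by norm_num⟩
    have hPo : ∀ y ∈ P, y ≠ 1 → orderOf y = 7 := fun y hy hy1 => orderOf_eq_prime
      (by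
        have := orderOf_dvd_iff_pow_eq_one.1 (hP ▸ Subgroup.orderOf_dvd_natCard P hy)
        exact this) hy1
    have hxo : ∀ e ∈ Subgroup.zpowers x, e ≠ 1 → orderOf e = 3 := fun e he he1 => orderOf_eq_prime
      (by
        have := Subgroup.orderOf_dvd_natCard _ he
        rw [Nat.card_zpowers, hx] at this
        exact orderOf_dvd_iff_pow_eq_one.1 this) he1
    have hCE : V ⊓ Subgroup.centralizer ((Subgroup.zpowers x) : Set G) = ⊥ := by
      rw [Subgroup.eq_bot_iff_forall]
      rintro v ⟨hv, hvc⟩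
      by_contra hv1
      exact hS.no_comm (Subgroup.mem_centralizer_iff.1 hvc x (Subgroup.mem_zpowers x) :
        Commute x v) Nat.prime_three Nat.prime_two (by norm_num) (by rw [hx]) (by rw [hord v hv hv1])
    have hfix := FrobeniusFixedPoints.card_of_fixedPointFree (U := P) (E := Subgroup.zpowers x)
      (V := V) (Subgroup.zpowers_le.2 hxP) (fun e he he1 y hy hc => by
        by_contra hy1
        exact hS.no_comm (hc : Commute e y) Nat.prime_three (by norm_num : Nat.Prime 7)
          (by norm_num) (by rw [hxo e he he1]) (by rw [hPo y hy hy1]))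
      ((IsPGroup.of_card (p := 7) (n := 1) (by rw [hP, pow_one])).isNilpotent) Nat.prime_two hVc hVq
      (le_top.trans_eq (Subgroup.normalizer_eq_top V).symm)
      (le_top.trans_eq (Subgroup.normalizer_eq_top V).symm) (by rw [hP]; norm_num) (by
        rw [Subgroup.eq_bot_iff_forall]
        rintro v ⟨hv, hvc⟩
        by_contra hv1
        obtain ⟨y, hy⟩ := exists_prime_orderOf_dvd_card' (G := P) 7 (by rw [hP])
        exact hS.no_comm (Subgroup.mem_centralizer_iff.1 hvc y y.2 : Commute (y : G) v)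
          (by norm_num : Nat.Prime 7) Nat.prime_two (by norm_num)
          (by rw [Subgroup.orderOf_coe, hy]) (by rw [hord v hv hv1]))
    rw [hCE, Subgroup.card_bot, one_pow] at hfix
    exact hV1 (Subgroup.card_eq_one.1 hfix)
  -- odd exponent: every involution inverts `V`
  haveI := Fact.mk Nat.prime_two
  obtain ⟨z, hz⟩ := exists_prime_orderOf_dvd_card' (G := G) 2 (hGc ▸ ⟨84 * Nat.card V, by ring⟩)
  have hzz : z * z = 1 := by rw [← sq, ← hz, pow_orderOf_eq_one]
  have hinv : ∀ y : G, orderOf y = 2 → ∀ v ∈ V, y * v * y⁻¹ = v⁻¹ := by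
    intro y hy v hv
    have hm : y * v * y⁻¹ ∈ V := (inferInstance : V.Normal).conj_mem v hv y
    have hyy : y * y = 1 := by rw [← sq, ← hy, pow_orderOf_eq_one]
    have hc : Commute y (v * (y * v * y⁻¹)) := by
      show y * (v * (y * v * y⁻¹)) = v * (y * v * y⁻¹) * y
      calc y * (v * (y * v * y⁻¹)) = (y * v * y⁻¹) * (y * y * v * (y * y)⁻¹) * y := by group
        _ = (y * v * y⁻¹) * v * y := by rw [hyy, one_mul, inv_one, mul_one]
        _ = v * (y * v * y⁻¹) * y := by rw [hVc _ hm v hv]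
    refine eq_inv_of_mul_eq_one_right ?_
    by_contra hne
    exact hS.no_comm hc Nat.prime_two hq (Ne.symm hq2) (by rw [hy])
      (by rw [hord _ (V.mul_mem hv hm) hne])
  set C := Subgroup.centralizer (V : Set G) with hC
  haveI : C.Normal := Subgroup.normal_centralizer
  have hVC : V ≤ C := fun a ha => Subgroup.mem_centralizer_iff.2 fun b hb => hVc b hb a ha
  have hzC : z ∉ C := fun h => hS.no_comm (Subgroup.mem_centralizer_iff.1 h v₀ hv₀).symm
    Nat.prime_two hq (Ne.symm hq2) (by rw [hz]) (by rw [hord v₀ hv₀ hv₀1])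
  have hmap : ∀ g ∈ C, (g : G ⧸ V) = 1 := by
    rcases ((inferInstance : C.Normal).map (QuotientGroup.mk' V)
        (QuotientGroup.mk'_surjective V)).eq_bot_or_eq_top with h | h
    · exact fun g hg => (Subgroup.eq_bot_iff_forall _).1 h _ ⟨g, hg, rfl⟩
    · exfalso
      obtain ⟨g, hg, hgz⟩ : (z : G ⧸ V) ∈ C.map (QuotientGroup.mk' V) := h ▸ Subgroup.mem_top _
      have := C.mul_mem hg (hVC (QuotientGroup.eq.1 hgz))
      exact hzC (by rwa [mul_inv_cancel_left] at this)
  have hcen : (z : G ⧸ V) ∈ Subgroup.center (G ⧸ V) := by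
    refine Subgroup.mem_center_iff.2 fun b => ?_
    induction b using QuotientGroup.induction_on with
    | H g =>
      have hmem : g * z * g⁻¹ * z⁻¹ ∈ C := by
        refine Subgroup.mem_centralizer_iff.2 fun v hv => ?_
        have h1 := hinv _ ((orderOf_injective (MulAut.conj g).toMonoidHom
          (MulAut.conj g).injective z).trans hz) v⁻¹ (V.inv_mem hv)
        have h2 := hinv z hz v hv
        rw [inv_inv] at h1
        have h3 : g * z * g⁻¹ * v⁻¹ * (g * z * g⁻¹)⁻¹ = v := h1
        have h4 : z⁻¹ * v * z = v⁻¹ := by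
          rw [inv_eq_of_mul_eq_one_left hzz]
          rwa [inv_eq_of_mul_eq_one_left hzz] at h2
        calc v * (g * z * g⁻¹ * z⁻¹)
            = g * z * g⁻¹ * v⁻¹ * (g * z * g⁻¹)⁻¹ * (g * z * g⁻¹ * z⁻¹) := by rw [h3]
          _ = g * z * g⁻¹ * (z⁻¹ * v * z) * z⁻¹ := by rw [h4]; group
          _ = g * z * g⁻¹ * z⁻¹ * v := by group
      have h5 := hmap _ hmem
      rw [QuotientGroup.mk_mul, QuotientGroup.mk_mul, QuotientGroup.mk_mul, QuotientGroup.mk_inv,
        QuotientGroup.mk_inv, mul_inv_eq_one, mul_inv_eq_iff_eq_mul] at h5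
      exact h5
  rcases (inferInstance : (Subgroup.center (G ⧸ V)).Normal).eq_bot_or_eq_top with h | h
  · rw [h, Subgroup.mem_bot, QuotientGroup.eq_one_iff] at hcen
    exact hzC (hVC hcen)
  · exact Simple168.not_comm hQ ⟨⟨fun a b =>
      ((Subgroup.mem_center_iff.1 (h ▸ Subgroup.mem_top a)) b).symm⟩⟩

theorem nonsolvable_elim (hS : Spec G) {V : Subgroup G} [V.Normal] [IsSimpleGroup V]
    (hV : Nat.card V = 168) (hne : V ≠ ⊤) : False := by
  haveI := Fact.mk Nat.prime_three
  haveI := Fact.mk Nat.prime_two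
  obtain ⟨Q⟩ := (inferInstance : Nonempty (Sylow 3 V))
  obtain ⟨hQ, hNQ, hCQ⟩ := Simple168.card_three_data hV Q
  obtain ⟨w, hw⟩ := exists_prime_orderOf_dvd_card' (G := (Q : Subgroup V)) 3 (by rw [hQ])
  have hwo : orderOf ((w : V) : G) = 3 := by rw [Subgroup.orderOf_coe, Subgroup.orderOf_coe, hw]
  have hgen : ∀ a ∈ (Q : Subgroup V), a ∈ Subgroup.zpowers (w : V) := by
    have : Subgroup.zpowers (w : V) = (Q : Subgroup V) := Subgroup.eq_of_le_of_card_ge
      (Subgroup.zpowers_le.2 w.2) (by rw [Nat.card_zpowers, Subgroup.orderOf_coe, hw, hQ])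
    exact fun a ha => this.symm ▸ ha
  -- the centraliser of `w`
  set R := Subgroup.centralizer ({((w : V) : G)} : Set G) with hR
  have hR3 : IsPGroup 3 R := IsPGroup.iff_orderOf.2 fun c =>
    ⟨_, Nat.eq_prime_pow_of_unique_prime_dvd (orderOf_pos c).ne' fun {d} hd hdd => by
      by_contra hd3
      exact hS.no_comm (Subgroup.mem_centralizer_singleton_iff.1 c.2 : Commute (c : G) (w : V)) hd
        Nat.prime_three hd3 (by rwa [Subgroup.orderOf_coe]) (by rw [hwo])⟩
  let act : MulAction R {v : V // orderOf v = 2} :=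
    { smul := fun r v => ⟨⟨(r : G) * (v.1 : G) * (r : G)⁻¹,
          (inferInstance : V.Normal).conj_mem _ v.1.2 _⟩, by
        rw [← Subgroup.orderOf_coe]
        exact (orderOf_injective (MulAut.conj (r : G)).toMonoidHom (MulAut.conj (r : G)).injective
          (v.1 : G)).trans (by rw [Subgroup.orderOf_coe]; exact v.2)⟩
      one_smul := fun v => Subtype.ext (Subtype.ext (by
        show (1 : G) * (v.1 : G) * (1 : G)⁻¹ = v.1
        rw [one_mul, inv_one, mul_one]))
      mul_smul := fun a b v => Subtype.ext (Subtype.ext (by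
        show (a : G) * b * (v.1 : G) * ((a : G) * b)⁻¹ = a * (b * v.1 * (b : G)⁻¹) * (a : G)⁻¹
        group)) }
  have hdvd := @FrobeniusBasic.card_dvd_of_free R {v : V // orderOf v = 2} _ act _
    fun (r : R) (v : {v : V // orderOf v = 2}) h => by
    by_contra hr
    have hc : (r : G) * (v.1 : G) * (r : G)⁻¹ = v.1 := congrArg (fun a => ((a.1 : V) : G)) h
    obtain ⟨d, hd, hdd⟩ := Nat.exists_prime_and_dvd (fun e => hr (orderOf_eq_one_iff.1 e))
    obtain ⟨i, hi⟩ := IsPGroup.iff_orderOf.1 hR3 r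
    have hd3 : d = 3 :=
      (Nat.prime_dvd_prime_iff_eq hd Nat.prime_three).1 (hd.dvd_of_dvd_pow (hi ▸ hdd))
    exact hS.no_comm (mul_inv_eq_iff_eq_mul.1 hc : Commute (r : G) (v.1 : G)) hd Nat.prime_two
      (by omega) (by rwa [Subgroup.orderOf_coe]) (by rw [Subgroup.orderOf_coe, (v.2 : orderOf v.1 = 2)])
  obtain ⟨h21, -⟩ := Simple168Classes.two_four (G := V) hV
  rw [h21] at hdvd
  obtain ⟨i, hi⟩ := hR3.exists_card_eq
  have hi1 : i ≤ 1 := by
    by_contra h
    have : 3 ^ 2 ∣ 21 := (pow_dvd_pow 3 (by omega)).trans (hi ▸ hdvd)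
    norm_num at this
  have hRV : R ≤ V := by
    have e : Subgroup.zpowers ((w : V) : G) = R := by
      refine Subgroup.eq_of_le_of_card_ge (Subgroup.zpowers_le.2 ?_) ?_
      · exact Subgroup.mem_centralizer_singleton_iff.2 rfl
      · rw [Nat.card_zpowers, hwo, hi]
        calc 3 ^ i ≤ 3 ^ 1 := Nat.pow_le_pow_right (by norm_num) hi1
          _ = 3 := by norm_num
    exact e ▸ Subgroup.zpowers_le.2 (w : V).2
  -- an element of `V` inverting `w`
  obtain ⟨s, hs⟩ := exists_prime_orderOf_dvd_card'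
    (G := Subgroup.normalizer ((Q : Subgroup V) : Set V)) 2 (by rw [hNQ]; norm_num)
  have hconj : ∀ n : G, n ∈ Subgroup.normalizer (((Q : Subgroup V).map V.subtype : Subgroup G) : Set G) →
      n * ((w : V) : G) * n⁻¹ = (w : V) ∨ n * ((w : V) : G) * n⁻¹ = ((w : V) : G) ^ 2 := by
    intro n hn
    have hmem := (Subgroup.mem_normalizer_iff.1 hn ((w : V) : G)).1 ⟨w, w.2, rfl⟩
    obtain ⟨a, ha, hae⟩ := hmem
    have hho : orderOf (n * ((w : V) : G) * n⁻¹) = 3 :=
      (orderOf_injective (MulAut.conj n).toMonoidHom (MulAut.conj n).injective _).trans hwo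
    obtain ⟨j₀, rfl⟩ : ∃ k : ℕ, (w : V) ^ k = a := mem_powers_iff_mem_zpowers.2 (hgen a ha)
    rw [← pow_mod_orderOf, Subgroup.orderOf_coe, hw, Subgroup.coe_subtype,
      SubmonoidClass.coe_pow] at hae
    have hj : j₀ % 3 < 3 := Nat.mod_lt _ (by norm_num)
    generalize j₀ % 3 = j at hae hj
    interval_cases j
    · rw [pow_zero] at hae
      rw [← hae, orderOf_one] at hho
      norm_num at hho
    · exact Or.inl (by rw [← hae, pow_one])
    · exact Or.inr hae.symm
  have hw3 : ((w : V) : G) ^ 3 = 1 := by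
    have h := pow_orderOf_eq_one ((w : V) : G)
    rwa [hwo] at h
  have hsn : ((s : V) : G) ∈
      Subgroup.normalizer (((Q : Subgroup V).map V.subtype : Subgroup G) : Set G) :=
    Subgroup.le_normalizer_map V.subtype ⟨s, s.2, rfl⟩
  have hsw : ((s : V) : G) * ((w : V) : G) * ((s : V) : G)⁻¹ = ((w : V) : G) ^ 2 := by
    refine (hconj _ hsn).resolve_left fun h => ?_
    exact hS.no_comm (mul_inv_eq_iff_eq_mul.1 h : Commute ((s : V) : G) ((w : V) : G))
      Nat.prime_two Nat.prime_three (by norm_num)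
      (by rw [Subgroup.orderOf_coe, Subgroup.orderOf_coe, hs]) (by rw [hwo])
  have hN : Subgroup.normalizer (((Q : Subgroup V).map V.subtype : Subgroup G) : Set G) ≤ V := by
    intro n hn
    rcases hconj n hn with h | h
    · exact hRV (Subgroup.mem_centralizer_singleton_iff.2 (mul_inv_eq_iff_eq_mul.1 h))
    · have : ((s : V) : G) * n ∈ R := Subgroup.mem_centralizer_singleton_iff.2
        (mul_inv_eq_iff_eq_mul.1 (by
          calc ((s : V) : G) * n * ((w : V) : G) * (((s : V) : G) * n)⁻¹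
              = ((s : V) : G) * (n * ((w : V) : G) * n⁻¹) * ((s : V) : G)⁻¹ := by group
            _ = ((w : V) : G) := by
              rw [h, ← conj_pow, hsw, ← pow_mul, show 2 * 2 = 3 + 1 from rfl, pow_succ, hw3,
                one_mul]))
      exact (Subgroup.mul_mem_cancel_left V (s : V).2).1 (hRV this)
  exact hne (top_le_iff.1 (Sylow.normalizer_sup_eq_top Q ▸ sup_le hN le_rfl))

/-- The main induction. -/
theorem main : ∀ (n : ℕ) (G : Type u) [Group G] [Finite G], Nat.card G = n → Spec G →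
    ¬ Group.IsSolvable G → IsSimpleGroup G ∧ Nat.card G = 168 := by
  intro n
  induction n using Nat.strong_induction_on with
  | _ n ih =>
    intro G _ _ hn hS hns
    haveI : Nontrivial G := by
      by_contra h
      rw [not_nontrivial_iff_subsingleton] at h
      exact hns inferInstance
    by_cases hs : IsSimpleGroup G
    · exact ⟨hs, simple_case hS hns⟩
    exfalso
    obtain ⟨V, hVn, hV1, hVt⟩ : ∃ V : Subgroup G, V.Normal ∧ V ≠ ⊥ ∧ V ≠ ⊤ := by
      by_contra h
      refine hs ⟨fun V hV => ?_⟩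
      by_contra h'
      exact h ⟨V, hV, fun e => h' (Or.inl e), fun e => h' (Or.inr e)⟩
    haveI := hVn
    by_cases hVs : Group.IsSolvable V
    · obtain ⟨q, W, hq, hWn, hW1, hWc, hWq⟩ := exists_elementary hVs hV1
      haveI := hWn
      have hlt : Nat.card (G ⧸ W) < n := by
        rw [← hn, W.card_eq_card_quotient_mul_card_subgroup]
        exact lt_mul_of_one_lt_right Nat.card_pos
          ((Nat.one_lt_iff_ne_zero_and_ne_one).2
            ⟨Nat.card_pos.ne', fun h => hW1 (Subgroup.card_eq_one.1 h)⟩)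
      obtain ⟨hQs, hQc⟩ := ih _ hlt (G ⧸ W) rfl (hS.quotient W) (fun h => hns (by
        haveI := h
        haveI : Group.IsSolvable W := by
          refine Group.isSolvable_of_comm fun a b => ?_
          exact Subtype.ext (hWc a a.2 b b.2)
        exact Group.isSolvable_of_ker_le_range W.subtype (QuotientGroup.mk' W) (by simp)))
      exact solvable_elim hS hq hW1 hWc hWq hQc
    · have hlt : Nat.card V < n := hn ▸ lt_of_le_of_ne
        (Nat.le_of_dvd Nat.card_pos (Subgroup.card_subgroup_dvd_card V))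
        (fun h => hVt (Subgroup.eq_top_of_card_eq V h))
      obtain ⟨hVsimp, hVc⟩ := ih _ hlt V rfl
        (hS.of_hom_injective V.subtype V.subtype_injective) hVs
      exact nonsolvable_elim hS hVc hVt

theorem card_of_three_primes (hS : Spec G) (h3 : 3 ≤ (Nat.card G).primeFactors.card) :
    IsSimpleGroup G ∧ Nat.card G = 168 := by
  refine main _ G rfl hS fun hsol => ?_
  obtain ⟨a, b, c, ha, hb, hc, hab, hac, hbc⟩ := Finset.two_lt_card_iff.1 h3
  have he : ∀ s t : ℕ, s.Prime → t.Prime → s ≠ t → PrimeGraphSolvable.NoEdge G s t :=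
    fun s t hs ht hst x hx => hS.no_pq hs ht hst (hx ▸ dvd_mul_right s t) (hx ▸ dvd_mul_left t s)
  haveI := hsol
  have p := fun q (hq : q ∈ (Nat.card G).primeFactors) => Nat.prime_of_mem_primeFactors hq
  exact PrimeGraphSolvable.no_three_coclique (p a ha) (p b hb) (p c hc) hab hac hbc
    (Nat.dvd_of_mem_primeFactors ha) (Nat.dvd_of_mem_primeFactors hb) (Nat.dvd_of_mem_primeFactors hc)
    (he a b (p a ha) (p b hb) hab) (he a c (p a ha) (p c hc) hac) (he b c (p b hb) (p c hc) hbc)

end Cfsg.Agent.SpecPrimes5Main
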