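import Mathlib
import Cfsg.Agent.Lib.OmegaClasses
import Cfsg.Agent.Lib.OrthTypeCount73
import Cfsg.Agent.Lib.OrthPrimeOrderClasses73
import Cfsg.Agent.Lib.OrthDerange84
import Cfsg.Agent.Lib.OrthUnitaryCentre

/-!
Orthogonal spaces over a finite field of odd order: types through fibre counts, determinant and
spinor character on orthogonal sums, and element orders of a split extension by the natural module.
-/

set_option autoImplicit false
set_option linter.unusedSectionVars false
set_option linter.style.haveILetI false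

namespace Cfsg.Agent.Spectrum85Core

open QuadraticMap Module
open Cfsg.Agent.OrthUnitaryQuad
open Cfsg.Agent.OrthUnitaryRefl
open Cfsg.Agent.OrthUnitaryOmega
open Cfsg.Agent.OrthUnitaryCentre
open Cfsg.Agent.OrthTypeCount73

variable {F : Type*} [Field F] [Fintype F]
variable {V : Type*} [AddCommGroup V] [Module F V] [FiniteDimensional F V]
variable {W : Type*} [AddCommGroup W] [Module F W] [FiniteDimensional F W]
variable {Q : QuadraticForm F V} {R : QuadraticForm F W}

/-- The polar form is non-degenerate. -/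
abbrev Nd (Q : QuadraticForm F V) : Prop := (polarBilin Q).Nondegenerate

theorem Nd.reg (h : Nd Q) : IsReg Q := isReg_of_nondegenerate h

theorem finite_space (F : Type*) [Field F] [Fintype F] (V : Type*) [AddCommGroup V] [Module F V]
    [FiniteDimensional F V] : Finite V :=
  Module.finite_of_finite F

/-! ### Transport and sums -/

theorem nd_map (h : Nd Q) (e : V ≃ₗ[F] W) {c : F} (hc : c ≠ 0) (he : ∀ v, R (e v) = c * Q v) :
    Nd R := by
  have hp : ∀ a b, polar R (e a) (e b) = c * polar Q a b := fun a b => by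
    simp [polar, ← map_add, he]; ring
  constructor <;> intro x hx <;> obtain ⟨x, rfl⟩ := e.surjective x
  · have h0 : x = 0 := h.1 x fun y => by
      have := hx (e y)
      rw [polarBilin_apply_apply, hp, mul_eq_zero] at this
      exact this.resolve_left hc
    rw [h0, map_zero]
  · have h0 : x = 0 := h.2 x fun y => by
      have := hx (e y)
      rw [polarBilin_apply_apply, hp, mul_eq_zero] at this
      exact this.resolve_left hc
    rw [h0, map_zero]

theorem polar_prod (Q : QuadraticForm F V) (R : QuadraticForm F W) (a b : V × W) :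
    polar (Q.prod R) a b = polar Q a.1 b.1 + polar R a.2 b.2 := by
  simp [polar, QuadraticMap.prod_apply]; ring

theorem nd_prod (h : Nd Q) (h' : Nd R) : Nd (Q.prod R) := by
  constructor <;> intro x hx <;> refine Prod.ext ?_ ?_
  · exact h.1 _ fun y => by simpa [polar_prod] using hx (y, 0)
  · exact h'.1 _ fun y => by simpa [polar_prod] using hx (0, y)
  · exact h.2 _ fun y => by simpa [polar_prod] using hx (y, 0)
  · exact h'.2 _ fun y => by simpa [polar_prod] using hx (0, y)

/-- A space with a complementary pair of orthogonal subspaces is their orthogonal sum. -/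
theorem exists_splitEquiv {A B : Submodule F V} (h : IsCompl A B)
    (ho : ∀ a ∈ A, ∀ b ∈ B, polar Q a b = 0) :
    ∃ e : (A × B) ≃ₗ[F] V, (∀ x, e x = (x.1 : V) + x.2) ∧
      ∀ x, Q (e x) = (Q.comp A.subtype).prod (Q.comp B.subtype) x := by
  refine ⟨Submodule.prodEquivOfIsCompl A B h, fun x => rfl, fun x => ?_⟩
  show Q ((x.1 : V) + x.2) = _
  rw [QuadraticMap.map_add (⇑Q), ho _ x.1.2 _ x.2.2, add_zero]
  rfl

theorem nd_of_split {A B : Submodule F V} (hQ : Nd Q) (hAB : A ⊔ B = ⊤)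
    (ho : ∀ a ∈ A, ∀ b ∈ B, polar Q a b = 0) : Nd (Q.comp A.subtype) := by
  have key : ∀ a : A, (∀ a' : A, polar Q (a : V) a' = 0) → a = 0 := fun a ha => Subtype.ext (hQ.1 _
    fun z => by
      obtain ⟨x, hx, y, hy, rfl⟩ := Submodule.mem_sup.1 (hAB ▸ Submodule.mem_top (x := z))
      rw [polarBilin_apply_apply, polar_add_right, ha ⟨x, hx⟩, ho _ a.2 y hy, add_zero])
  constructor
  · intro a ha
    refine key a fun a' => ?_
    simpa [polar] using ha a'
  · intro a ha
    refine key a fun a' => ?_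
    rw [polar_comm]
    simpa [polar] using ha a'

/-! ### Types -/

/-- `Q` has dimension `2m` and type `σ = ±1`. -/
structure Typ (Q : QuadraticForm F V) (m : ℕ) (σ : ℤ) : Prop where
  dim : finrank F V = 2 * m
  nd : Nd Q
  prof : ∃ N, Prof ⇑Q N (σ * (Fintype.card F : ℤ) ^ m)
  sign : σ = 1 ∨ σ = -1

variable {m k : ℕ} {σ τ : ℤ}

theorem Typ.reg (h : Typ Q m σ) : IsReg Q := h.nd.reg

theorem Typ.unique (h : Typ Q m σ) (h' : Typ Q k τ) : m = k ∧ σ = τ := by
  have hmk : m = k := by have := h.dim.symm.trans h'.dim; omega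
  subst hmk
  obtain ⟨N, hN⟩ := h.prof
  obtain ⟨M, hM⟩ := h'.prof
  refine ⟨rfl, mul_right_cancel₀ ?_ (hN.unique hM)⟩
  exact pow_ne_zero _ (by exact_mod_cast Fintype.card_pos.ne')

theorem Typ.prod (h : Typ Q m σ) (h' : Typ R k τ) : Typ (Q.prod R) (m + k) (σ * τ) := by
  haveI := finite_space F V
  haveI := finite_space F W
  obtain ⟨N, hN⟩ := h.prof
  obtain ⟨M, hM⟩ := h'.prof
  refine ⟨by rw [Module.finrank_prod, h.dim, h'.dim]; ring, nd_prod h.nd h'.nd, ?_, ?_⟩
  · obtain ⟨L, hL⟩ : ∃ L, Prof (⇑(Q.prod R)) L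
        (σ * (Fintype.card F : ℤ) ^ m * (τ * (Fintype.card F : ℤ) ^ k)) :=
      ⟨_, (hN.prod hM).map (Equiv.refl _) fun p => by simp [QuadraticMap.prod_apply]⟩
    refine ⟨L, ?_⟩
    convert hL using 1
    ring
  · rcases h.sign with rfl | rfl <;> rcases h'.sign with rfl | rfl <;> simp

theorem Typ.map (h : Typ Q m σ) (e : V ≃ₗ[F] W) (he : ∀ v, R (e v) = Q v) : Typ R m σ := by
  obtain ⟨N, hN⟩ := h.prof
  exact ⟨by rw [← e.finrank_eq, h.dim], nd_map h.nd e one_ne_zero fun v => by rw [he, one_mul],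
    ⟨N, hN.map e.toEquiv fun v => he v⟩, h.sign⟩

theorem exists_typ (hQ : Nd Q) (hdim : finrank F V = 2 * m) : ∃ σ, Typ Q m σ := by
  obtain ⟨N, h | h⟩ := exists_prof Q hQ hdim
  · exact ⟨1, hdim, hQ, ⟨N, by rwa [one_mul]⟩, Or.inl rfl⟩
  · exact ⟨-1, hdim, hQ, ⟨N, by rwa [neg_one_mul]⟩, Or.inr rfl⟩

theorem typ_qPlus (m : ℕ) : Typ (QuadClassify.qPlus m F) m 1 := by
  refine ⟨OmegaStd.finrank_plus, OmegaStd.nondeg_plus, ?_, Or.inl rfl⟩
  obtain ⟨N, hN⟩ := prof_qPlus (F := F) m
  exact ⟨N, by rw [one_mul]; exact hN.map (Equiv.refl _) fun v => (QuadClassify.qPlus_apply m v)⟩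

/-- Existence of spaces of either type. -/
theorem exists_space (m : ℕ) (hσ : σ = 1 ∨ σ = -1) (hm : σ = -1 → 1 ≤ m) :
    ∃ (ι : Type) (_ : Fintype ι) (Q : QuadraticForm F (ι → F)), Typ Q m σ := by
  rcases hσ with rfl | rfl
  · exact ⟨_, inferInstance, _, typ_qPlus m⟩
  · obtain ⟨a, b, hab⟩ := OrthDerange84.exists_aniso_pair (F := F)
    have hm := hm rfl
    obtain ⟨N, hN⟩ := prof_qMinus (F := F) (m - 1) hab
    refine ⟨_, inferInstance, QuadClassify.qMinus (m - 1) F a b, ?_, ?_, ?_, Or.inr rfl⟩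
    · rw [Module.finrank_fintype_fun_eq_card]; simp; omega
    · exact OrthPrimeOrderClasses73.nd_minus (m - 1) hab
    · refine ⟨N, ?_⟩
      rw [neg_one_mul]
      have := hN.map (Equiv.refl _) (g := ⇑(QuadClassify.qMinus (m - 1) F a b)) fun v => QuadClassify.qMinus_apply (m - 1) a b v
      rwa [show m - 1 + 1 = m by omega] at this

/-! ### Determinant and spinor character -/

theorem theta_cases {Q : QuadraticForm F V} [Finite V] (g : orth Q) :
    theta Q g = 1 ∨ theta Q g = -1 :=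
  Int.units_eq_one_or _

theorem mem_Om_iff [Finite V] (h2 : (2 : F) ≠ 0) (hQ : Nd Q) (g : orth Q) :
    g ∈ commutator (orth Q) ↔ detHom Q g = 1 ∧ theta Q g = 1 :=
  (odd_main h2 hQ.reg).1 g

theorem det_sq [Finite V] (h2 : (2 : F) ≠ 0) (hQ : Nd Q) (g : orth Q) :
    detHom Q g * detHom Q g = 1 := by
  obtain ⟨vs, hvs, rfl⟩ := OmegaClasses.exists_rprod (reflGroup_top_of_two_ne_zero h2 hQ.reg) g
  rw [OmegaClasses.detHom_rprod hvs, ← mul_pow, neg_one_mul, neg_neg, one_pow]

theorem det_pow_odd [Finite V] (h2 : (2 : F) ≠ 0) (hQ : Nd Q) (g : orth Q) {k : ℕ} (hk : Odd k) :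
    detHom Q (g ^ k) = detHom Q g ∧ theta Q (g ^ k) = theta Q g := by
  obtain ⟨j, rfl⟩ := hk
  constructor
  · rw [map_pow, pow_succ, pow_mul, pow_two, det_sq h2 hQ, one_pow, one_mul]
  · rw [map_pow, pow_succ, pow_mul, Int.units_sq, one_pow, one_mul]

/-- Elements of odd order are in the commutator subgroup. -/
theorem mem_Om_of_odd [Finite V] (h2 : (2 : F) ≠ 0) (hQ : Nd Q) (g : orth Q) {k : ℕ} (hk : Odd k)
    (hg : g ^ k = 1) : detHom Q g = 1 ∧ theta Q g = 1 := by
  obtain ⟨h1, h1'⟩ := det_pow_odd h2 hQ g hk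
  rw [hg] at h1 h1'
  exact ⟨h1.symm.trans (map_one _), h1'.symm.trans (map_one _)⟩

/-- Orthogonal sums of isometries. -/
noncomputable def prodOrth (Q : QuadraticForm F V) (R : QuadraticForm F W) :
    orth Q × orth R →* orth (Q.prod R) where
  toFun g := ⟨g.1.1.prodCongr g.2.1, fun x => by
    rw [QuadraticMap.prod_apply, QuadraticMap.prod_apply]
    exact congrArg₂ (· + ·) (map_orth g.1 x.1) (map_orth g.2 x.2)⟩
  map_one' := orth_ext fun x => rfl
  map_mul' a b := orth_ext fun x => rfl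

theorem prodOrth_apply (a : orth Q) (b : orth R) (x : V × W) :
    (prodOrth Q R (a, b)).1 x = (a.1 x.1, b.1 x.2) := rfl

theorem prodOrth_injective : Function.Injective (prodOrth Q R) := by
  rintro ⟨a, b⟩ ⟨a', b'⟩ h
  refine Prod.ext (orth_ext fun x => ?_) (orth_ext fun x => ?_)
  · exact congrArg (fun g : orth (Q.prod R) => (g.1 (x, 0)).1) h
  · exact congrArg (fun g : orth (Q.prod R) => (g.1 (0, x)).2) h

theorem orderOf_prodOrth (a : orth Q) (b : orth R) :
    orderOf (prodOrth Q R (a, b)) = Nat.lcm (orderOf a) (orderOf b) := by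
  rw [orderOf_injective _ prodOrth_injective, Prod.orderOf_mk]

theorem prodOrth_refl_left (v : V) (hv : Q v ≠ 0) :
    prodOrth Q R (refl Q v hv, 1) = refl (Q.prod R) (v, 0) (by simpa using hv) := by
  refine orth_ext fun x => ?_
  rw [prodOrth_apply, refl_apply, refl_apply, polar_prod]
  simp [QuadraticMap.prod_apply, polar, Prod.ext_iff]

theorem prodOrth_refl_right (v : W) (hv : R v ≠ 0) :
    prodOrth Q R (1, refl R v hv) = refl (Q.prod R) (0, v) (by simpa using hv) := by
  refine orth_ext fun x => ?_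
  rw [prodOrth_apply, refl_apply, refl_apply, polar_prod]
  simp [QuadraticMap.prod_apply, polar, Prod.ext_iff]

/-- Both characters are multiplicative on orthogonal sums. -/
theorem chars_prodOrth [Finite V] [Finite W] (h2 : (2 : F) ≠ 0) (hQ : Nd Q) (hR : Nd R)
    (a : orth Q) (b : orth R) :
    detHom (Q.prod R) (prodOrth Q R (a, b)) = detHom Q a * detHom R b ∧
      theta (Q.prod R) (prodOrth Q R (a, b)) = theta Q a * theta R b := by
  classical
  haveI := finite_space F (V × W)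
  have gQ := reflGroup_top_of_two_ne_zero h2 hQ.reg
  have gR := reflGroup_top_of_two_ne_zero h2 hR.reg
  have hab : prodOrth Q R (a, b) = prodOrth Q R (a, 1) * prodOrth Q R (1, b) := by
    rw [← map_mul, Prod.mk_mul_mk, mul_one, one_mul]
  have d1 : detHom (Q.prod R) (prodOrth Q R (a, 1)) = detHom Q a :=
    DFunLike.congr_fun (hom_ext gQ ((detHom (Q.prod R)).comp ((prodOrth Q R).comp
      (MonoidHom.inl _ _))) (detHom Q) fun v hv => by
        simp [prodOrth_refl_left, detHom_refl]) a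
  have d2 : detHom (Q.prod R) (prodOrth Q R (1, b)) = detHom R b :=
    DFunLike.congr_fun (hom_ext gR ((detHom (Q.prod R)).comp ((prodOrth Q R).comp
      (MonoidHom.inr _ _))) (detHom R) fun v hv => by
        simp [prodOrth_refl_right, detHom_refl]) b
  have t1 : theta (Q.prod R) (prodOrth Q R (a, 1)) = theta Q a :=
    DFunLike.congr_fun (hom_ext gQ ((theta (Q.prod R)).comp ((prodOrth Q R).comp
      (MonoidHom.inl _ _))) (theta Q) fun v hv => by
        simp [prodOrth_refl_left, theta_refl h2]) a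
  have t2 : theta (Q.prod R) (prodOrth Q R (1, b)) = theta R b :=
    DFunLike.congr_fun (hom_ext gR ((theta (Q.prod R)).comp ((prodOrth Q R).comp
      (MonoidHom.inr _ _))) (theta R) fun v hv => by
        simp [prodOrth_refl_right, theta_refl h2]) b
  rw [hab, map_mul, map_mul, d1, d2, t1, t2]
  exact ⟨rfl, rfl⟩

theorem prodOrth_mem [Finite V] [Finite W] (h2 : (2 : F) ≠ 0) (hQ : Nd Q) (hR : Nd R)
    {a : orth Q} {b : orth R} (hd : detHom Q a = detHom R b) (ht : theta Q a = theta R b) :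
    prodOrth Q R (a, b) ∈ commutator (orth (Q.prod R)) := by
  haveI := finite_space F (V × W)
  obtain ⟨h1, h1'⟩ := chars_prodOrth h2 hQ hR a b
  rw [mem_Om_iff h2 (nd_prod hQ hR), h1, h1', hd, ht, det_sq h2 hR, Int.units_mul_self]
  exact ⟨rfl, rfl⟩

theorem orthCongr_mem (e : V ≃ₗ[F] W)
    (he : ∀ v, R (e v) = Q v) {g : orth Q} (hg : g ∈ commutator (orth Q)) :
    orthCongr e he g ∈ commutator (orth R) :=
  (mem_commutator_iff (orthCongr e he) g).1 hg

/-! ### Orders in the split extension -/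

/-- The sum of the powers of `g` up to its order. -/
noncomputable def orderSum (g : orth Q) : Module.End F V :=
  ∑ i ∈ Finset.range (orderOf g), ((g.1 : V →ₗ[F] V) : Module.End F V) ^ i

/-- `V ⋊ Ω(Q)` has an element of order a multiple of `n`. -/
def HasOrd (p : ℕ) (Q : QuadraticForm F V) (n : ℕ) : Prop :=
  ∃ g : orth Q, g ∈ commutator (orth Q) ∧
    (n ∣ orderOf g ∨ n ∣ p * orderOf g ∧ ∃ v, orderSum g v ≠ 0)

theorem coe_pow (g : orth Q) (k : ℕ) :
    (((g ^ k : orth Q).1 : V →ₗ[F] V) : Module.End F V) =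
      ((g.1 : V →ₗ[F] V) : Module.End F V) ^ k := by
  induction k with
  | zero => rfl
  | succ k ih => rw [pow_succ, pow_succ, ← ih]; rfl

theorem HasOrd.mono {p n n' : ℕ} (h : HasOrd p Q n) (hn : n' ∣ n) : HasOrd p Q n' := by
  obtain ⟨g, hg, h | ⟨h, hv⟩⟩ := h
  · exact ⟨g, hg, Or.inl (hn.trans h)⟩
  · exact ⟨g, hg, Or.inr ⟨hn.trans h, hv⟩⟩

theorem HasOrd.map {p n : ℕ} (e : V ≃ₗ[F] W)
    (he : ∀ v, R (e v) = Q v) (h : HasOrd p Q n) : HasOrd p R n := by
  obtain ⟨g, hg, hn⟩ := h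
  refine ⟨orthCongr e he g, orthCongr_mem e he hg, ?_⟩
  have ho : orderOf (orthCongr e he g) = orderOf g := (orthCongr e he).orderOf_eq g
  rw [ho]
  refine hn.imp_right fun ⟨h, v, hv⟩ => ⟨h, e v, fun hz => hv (e.injective ?_)⟩
  rw [map_zero, ← hz, orderSum, orderSum, ho, LinearMap.sum_apply, LinearMap.sum_apply, map_sum]
  refine Finset.sum_congr rfl fun i _ => ?_
  have h1 : (((orthCongr e he g) ^ i : orth R)).1 (e v) = e ((g ^ i : orth Q).1 v) := by
    rw [← map_pow]
    show e ((g ^ i : orth Q).1 (e.symm (e v))) = _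
    rw [e.symm_apply_apply]
  rw [← coe_pow, ← coe_pow]
  exact h1.symm

theorem HasOrd.of_mem {p n : ℕ} {g : orth Q} (hg : g ∈ commutator (orth Q)) (h : n ∣ orderOf g) :
    HasOrd p Q n :=
  ⟨g, hg, Or.inl h⟩

/-- A unipotent map whose partial power sum does not vanish. -/
theorem geom_ne_zero {p : ℕ} [Fact p.Prime] [CharP F p] (T : Module.End F W) {j c : ℕ}
    (hT : T ^ p ^ j = 1) (hne : (T - 1) ^ (p ^ j - 1) ≠ 0) (hc : ¬ p ∣ c) :
    ∑ i ∈ Finset.range (c * p ^ j), T ^ i ≠ 0 := by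
  have hp := (Fact.out : p.Prime)
  have hsum : ∀ P, T ^ P = 1 → ∀ c : ℕ,
      ∑ i ∈ Finset.range (c * P), T ^ i = c • ∑ i ∈ Finset.range P, T ^ i := by
    intro P hP c
    induction c with
    | zero => simp
    | succ c ih =>
      rw [Nat.succ_mul, Finset.sum_range_add, ih, succ_nsmul]
      congr 1
      refine Finset.sum_congr rfl fun i _ => ?_
      rw [pow_add, mul_comm c P, pow_mul, hP, one_pow, one_mul]
  have hpoly : (∑ i ∈ Finset.range (p ^ j), (Polynomial.X : Polynomial F) ^ i) =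
      (Polynomial.X - 1) ^ (p ^ j - 1) := by
    refine mul_left_cancel₀ (Polynomial.X_sub_C_ne_zero (1 : F)) ?_
    rw [map_one, mul_geom_sum, ← pow_succ', Nat.sub_add_cancel (Nat.one_le_pow _ _ hp.pos),
      sub_pow_char_pow, one_pow]
  have := congrArg (Polynomial.aeval T) hpoly
  simp only [map_sum, map_pow, map_sub, map_one, Polynomial.aeval_X] at this
  rw [hsum _ hT, this, ← Nat.cast_smul_eq_nsmul F]
  intro h
  rcases smul_eq_zero.1 h with h | h
  · exact hc ((CharP.cast_eq_zero_iff F p c).1 h)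
  · exact hne h

/-- An element `a ⊕ b` with `b` unipotent of largest possible `p`-part gains a factor `p`. -/
theorem HasOrd.of_gain [Finite V] [Finite W] (h2 : (2 : F) ≠ 0) (hQ : Nd Q) (hR : Nd R)
    {p : ℕ} [Fact p.Prime] [CharP F p] {a : orth Q} {b : orth R} (hd : detHom Q a = detHom R b)
    (ht : theta Q a = theta R b) {j c n : ℕ} (hb : b ^ p ^ j = 1)
    (hne : ((b.1 : W →ₗ[F] W) - 1 : Module.End F W) ^ (p ^ j - 1) ≠ 0)
    (hlcm : Nat.lcm (orderOf a) (orderOf b) = c * p ^ j) (hc : ¬ p ∣ c)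
    (hn : n ∣ p * (c * p ^ j)) : HasOrd p (Q.prod R) n := by
  set g := prodOrth Q R (a, b)
  have ho : orderOf g = c * p ^ j := (orderOf_prodOrth a b).trans hlcm
  refine ⟨g, prodOrth_mem h2 hQ hR hd ht, Or.inr ⟨ho ▸ hn, ?_⟩⟩
  have hbT : ((b.1 : W →ₗ[F] W) : Module.End F W) ^ p ^ j = 1 := by rw [← coe_pow, hb]; rfl
  obtain ⟨w, hw⟩ : ∃ w, (∑ i ∈ Finset.range (c * p ^ j), ((b.1 : W →ₗ[F] W) : Module.End F W) ^ i) w ≠ 0 := by
    by_contra h
    push Not at h
    exact geom_ne_zero _ hbT hne hc (LinearMap.ext fun w => by simpa using h w)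
  refine ⟨(0, w), fun hz => hw ?_⟩
  have := congrArg Prod.snd hz
  rw [orderSum, ho, LinearMap.sum_apply, Prod.snd_sum] at this
  rw [LinearMap.sum_apply]
  refine Eq.trans (Finset.sum_congr rfl fun i _ => ?_) this
  rw [← coe_pow, ← coe_pow, ← map_pow]
  rfl

end Cfsg.Agent.Spectrum85Core
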