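import Mathlib
import Cfsg.Agent.Lib.Spectrum85Core

/-!
Model elements: the tori of orders `q^m ∓ 1`, regular unipotent isometries, special isometries of
prescribed spinor sign, and the spinor sign of `-1` on a plane.
-/

set_option autoImplicit false
set_option linter.unusedSectionVars false
set_option linter.style.haveILetI false

namespace Cfsg.Agent.Spectrum85Models

open QuadraticMap Module
open Cfsg.Agent.OrthUnitaryQuad
open Cfsg.Agent.OrthUnitaryRefl
open Cfsg.Agent.OrthUnitaryOmega
open Cfsg.Agent.OrthUnitaryCentre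
open Cfsg.Agent.OrthTypeCount73
open Cfsg.Agent.Spectrum85Core

variable {F : Type*} [Field F] [Fintype F]
variable {V : Type*} [AddCommGroup V] [Module F V] [FiniteDimensional F V]
variable {W : Type*} [AddCommGroup W] [Module F W] [FiniteDimensional F W]
variable {Q : QuadraticForm F V} {m : ℕ} {σ : ℤ}

local notation "q" => Fintype.card F

/-- A totally singular subspace of half the dimension forces plus type. -/
theorem typ_plus_of_lagr (hQ : Nd Q) (hdim : finrank F V = 2 * m) {U : Submodule F V}
    (hU : ∀ u ∈ U, Q u = 0) (hUd : finrank F U = m) : Typ Q m 1 := by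
  classical
  haveI := finite_space F V
  haveI := Fintype.ofFinite V
  obtain ⟨C, hC⟩ := Submodule.exists_isCompl U
  have hCd : finrank F C = m := by
    have := Submodule.finrank_add_eq_of_isCompl hC; omega
  let e := Submodule.prodEquivOfIsCompl U C hC
  have he : ∀ x : U × C, Q (e x) = polar Q (x.1 : V) x.2 + Q x.2 := fun x => by
    show Q ((x.1 : V) + x.2) = _
    rw [QuadraticMap.map_add (⇑Q), hU _ x.1.2]; ring
  have hfib : ∀ c : F, c ≠ 0 → ∀ w : C,
      Nat.card {u : U // Q (e (u, w)) = c} = if w = 0 then 0 else q ^ (m - 1) := by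
    intro c hc w
    split_ifs with hw
    · subst hw
      haveI : IsEmpty {u : U // Q (e (u, (0 : C))) = c} := ⟨fun u => hc (by
        rw [← u.2, he]; simp)⟩
      exact Nat.card_of_isEmpty
    · let ℓ : U →ₗ[F] F := ((polarBilin Q).flip (w : V)).comp U.subtype
      have hℓ : ℓ ≠ 0 := fun h => by
        have hw' : (w : V) ∈ U := OmegaClasses.mem_of_orth hQ ⟨hU, by rw [hUd, hdim]⟩ fun u hu => by
          have := LinearMap.congr_fun h ⟨u, hu⟩
          simpa [ℓ] using this
        exact hw (Subtype.ext (Submodule.disjoint_def.1 hC.disjoint _ hw' w.2))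
      obtain ⟨u0, hu0⟩ := (LinearMap.surjective hℓ) (c - Q (w : V))
      have hker : finrank F (LinearMap.ker ℓ) = m - 1 := by
        have h1 := LinearMap.finrank_range_add_finrank_ker ℓ
        rw [LinearMap.range_eq_top.2 (LinearMap.surjective hℓ), finrank_top, finrank_self, hUd] at h1
        omega
      have hcard : Nat.card {u : U // Q (e (u, w)) = c} = Nat.card (LinearMap.ker ℓ) :=
        Nat.card_congr
          { toFun := fun u => ⟨u.1 - u0, by
              have h1 := u.2
              rw [he] at h1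
              rw [LinearMap.mem_ker, map_sub, hu0]
              show polar Q (u.1 : V) w - _ = 0
              linear_combination h1⟩
            invFun := fun k => ⟨k.1 + u0, by
              rw [he]
              have h1 : ℓ (k.1 + u0) = c - Q (w : V) := by
                rw [map_add, LinearMap.mem_ker.1 k.2, hu0, zero_add]
              have h2 : polar Q ((k.1 + u0 : U) : V) w = c - Q (w : V) := h1
              rw [h2]; ring⟩
            left_inv := fun u => Subtype.ext (sub_add_cancel _ _)
            right_inv := fun k => Subtype.ext (add_sub_cancel_right _ _) }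
      rw [hcard, Module.natCard_eq_pow_finrank (K := F), hker, Nat.card_eq_fintype_card]
  have hN : ∀ c : F, c ≠ 0 → (Nat.card {v // Q v = c} : ℤ) =
      ((q : ℤ) ^ m - 1) * (q : ℤ) ^ (m - 1) := by
    intro c hc
    haveI := Fintype.ofFinite C
    let E : {v // Q v = c} ≃ Σ w : C, {u : U // Q (e (u, w)) = c} :=
      { toFun := fun v => ⟨(e.symm v.1).2, (e.symm v.1).1, by rw [Prod.mk.eta, e.apply_symm_apply]; exact v.2⟩
        invFun := fun x => ⟨e (x.2.1, x.1), x.2.2⟩
        left_inv := fun v => Subtype.ext (e.apply_symm_apply v.1)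
        right_inv := fun x => by
          obtain ⟨w, u, hu⟩ := x
          apply Sigma.subtype_ext <;> simp }
    rw [Nat.card_congr E, Nat.card_sigma, Finset.sum_congr rfl fun w _ => hfib c hc w,
      Finset.sum_ite, Finset.sum_const_zero, zero_add, Finset.sum_const, smul_eq_mul,
      Finset.filter_ne', Finset.card_erase_of_mem (Finset.mem_univ _), Finset.card_univ,
      Module.card_eq_pow_finrank (K := F), hCd]
    push_cast [Nat.one_le_pow m q Fintype.card_pos]
    ring
  have h := prof_of_const (f := ⇑Q) _ hN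
  refine ⟨hdim, hQ, ⟨((q : ℤ) ^ m - 1) * (q : ℤ) ^ (m - 1), ?_⟩, Or.inl rfl⟩
  convert h using 1
  rw [Module.natCard_eq_pow_finrank (K := F), Nat.card_eq_fintype_card, hdim]
  push_cast
  rcases Nat.eq_zero_or_pos m with rfl | hm
  · simp
  · obtain ⟨k, rfl⟩ : ∃ k, m = k + 1 := ⟨m - 1, by omega⟩
    rw [Nat.add_sub_cancel]; ring

/-- A semiregular isometry of order dividing `q^m + 1` on a plus space has order dividing four. -/
theorem dvd_four_of_free (hT : Typ Q m 1) (hm : 1 ≤ m) (g : orth Q)
    (hfree : ∀ k : ℕ, ∀ v : V, v ≠ 0 → (g ^ k).1 v = v → g ^ k = 1)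
    (hdvd : orderOf g ∣ q ^ m + 1) : orderOf g ∣ 4 := by
  classical
  haveI := finite_space F V
  haveI := finite_orth Q
  let S := {v : V // v ≠ 0 ∧ Q v = 0}
  letI : MulAction (Subgroup.zpowers g) S :=
    { smul := fun h v => ⟨h.1.1 v.1, fun h0 => v.2.1 (h.1.1.injective (h0.trans (map_zero _).symm)),
        (map_orth h.1 v.1).trans v.2.2⟩
      one_smul := fun v => rfl
      mul_smul := fun a b v => rfl }
  have hS : orderOf g ∣ Nat.card S := by
    rw [Nat.card_congr (MulAction.selfEquivSigmaOrbitsQuotientStabilizer (Subgroup.zpowers g) S)]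
    haveI := Fintype.ofFinite (MulAction.orbitRel.Quotient (Subgroup.zpowers g) S)
    rw [Nat.card_sigma]
    refine Finset.dvd_sum fun ω _ => ?_
    have hbot : MulAction.stabilizer (Subgroup.zpowers g) ω.out = ⊥ := by
      rw [Subgroup.eq_bot_iff_forall]
      rintro ⟨h, hh⟩ hst
      obtain ⟨k, rfl⟩ := (Submonoid.mem_powers_iff h g).1
        ((isOfFinOrder_of_finite g).mem_powers_iff_mem_zpowers.2 hh)
      have hfix : (g ^ k).1 ω.out.1 = ω.out.1 := congrArg Subtype.val (MulAction.mem_stabilizer_iff.1 hst)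
      exact Subtype.ext (hfree k _ ω.out.2.1 hfix)
    rw [hbot, ← Nat.card_zpowers]
    exact dvd_of_eq (Nat.card_congr (QuotientGroup.quotientBot (G := Subgroup.zpowers g)).toEquiv).symm
  have hcardS : (Nat.card S : ℤ) + 1 = Nat.card {v // Q v = 0} := by
    let E : Option S ≃ {v // Q v = 0} :=
      { toFun := fun o => o.elim ⟨0, QuadraticMap.map_zero Q⟩ fun v => ⟨v.1, v.2.2⟩
        invFun := fun v => if h : v.1 = 0 then none else some ⟨v.1, h, v.2⟩
        left_inv := by
          rintro (_ | ⟨v, hv, hv'⟩)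
          · simp
          · simp [hv]
        right_inv := by
          rintro ⟨v, hv⟩
          by_cases h : v = 0
          · simp [h]
          · simp [h] }
    rw [← Nat.card_congr E, Finite.card_option]; push_cast; ring
  obtain ⟨N, hN⟩ := hT.prof
  obtain ⟨j, rfl⟩ : ∃ j, m = j + 1 := ⟨m - 1, by omega⟩
  have htot : (Nat.card V : ℤ) = (q : ℤ) * N + (q : ℤ) ^ (j + 1) := by
    have h := prof_of_const (f := ⇑Q) N hN.1
    have := h.unique hN
    linear_combination this
  rw [Module.natCard_eq_pow_finrank (K := F), Nat.card_eq_fintype_card, hT.dim] at htot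
  push_cast at htot
  have hq0 : (q : ℤ) ≠ 0 := by exact_mod_cast Fintype.card_pos.ne'
  have hNval : N = (q : ℤ) ^ j * ((q : ℤ) ^ (j + 1) - 1) := by
    apply mul_left_cancel₀ hq0
    linear_combination -htot
  rw [hN.2, one_mul, hNval] at hcardS
  have hSval : (Nat.card S : ℤ) = ((q : ℤ) ^ (j + 1) - 1) * ((q : ℤ) ^ j + 1) := by
    linear_combination hcardS
  set o : ℤ := (orderOf g : ℤ)
  set Qm : ℤ := (q : ℤ) ^ (j + 1) with hQm
  have hA : o ∣ Qm + 1 := by
    have h := Int.natCast_dvd_natCast.2 hdvd
    push_cast at h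
    exact h
  have hB : o ∣ (Qm - 1) * ((q : ℤ) ^ j + 1) := hSval ▸ Int.natCast_dvd_natCast.2 hS
  have h1 : o ∣ 2 * ((q : ℤ) ^ j + 1) := by
    have := dvd_sub (hA.mul_right ((q : ℤ) ^ j + 1)) hB
    rwa [show (Qm + 1) * ((q : ℤ) ^ j + 1) - (Qm - 1) * ((q : ℤ) ^ j + 1) =
      2 * ((q : ℤ) ^ j + 1) by ring] at this
  have h2 : o ∣ 2 * ((q : ℤ) - 1) := by
    have := dvd_sub (h1.mul_left (q : ℤ)) (hA.mul_left 2)
    rwa [show (q : ℤ) * (2 * ((q : ℤ) ^ j + 1)) - 2 * (Qm + 1) = 2 * ((q : ℤ) - 1) by
      rw [hQm]; ring] at this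
  have h3 : o ∣ 2 * (Qm - 1) := h2.trans (mul_dvd_mul_left 2 (sub_one_dvd_pow_sub_one _ _))
  have h4 := dvd_sub (hA.mul_left 2) h3
  rw [show 2 * (Qm + 1) - 2 * (Qm - 1) = ((4 : ℕ) : ℤ) by push_cast; ring] at h4
  exact Int.natCast_dvd_natCast.1 h4

/-- An anisotropic plane has minus type. -/
theorem typ_minus_of_aniso (hQ : Nd Q) (hdim : finrank F V = 2) (han : ∀ v, Q v = 0 → v = 0) :
    Typ Q 1 (-1) := by
  obtain ⟨σ, hT⟩ := exists_typ (m := 1) hQ (by omega)
  rcases hT.sign with rfl | rfl
  · exfalso
    obtain ⟨N, hN⟩ := hT.prof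
    obtain ⟨g, hg⟩ := iso_plus_of_prof Q hQ (m := 1) (by omega) (by rwa [one_mul] at hN)
    have h0 := han (g.symm (Pi.single (Sum.inl 0) 1)) (by
      rw [← hg, g.apply_symm_apply]; simp [Cfsg.quadFormPlus])
    rw [LinearEquiv.map_eq_zero_iff, Pi.single_eq_zero_iff] at h0
    exact one_ne_zero h0
  · exact hT

/-- Two spaces of the same type are isometric. -/
theorem typ_iso {R : QuadraticForm F W} (h : Typ Q m σ) (h' : Typ R m σ) :
    ∃ e : V ≃ₗ[F] W, ∀ v, R (e v) = Q v := by
  obtain ⟨N, hN⟩ := h.prof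
  obtain ⟨M, hM⟩ := h'.prof
  rcases h.sign with rfl | rfl
  · rw [one_mul] at hN hM
    obtain ⟨g, hg⟩ := iso_plus_of_prof Q h.nd h.dim hN
    obtain ⟨g', hg'⟩ := iso_plus_of_prof R h'.nd h'.dim hM
    exact ⟨g.trans g'.symm, fun v => by rw [← hg', ← hg]; simp⟩
  · rw [neg_one_mul] at hN hM
    obtain ⟨a, b, hab⟩ := OrthDerange84.exists_aniso_pair (F := F)
    obtain ⟨g, hg⟩ := iso_minus_of_prof Q h.nd h.dim hN hab
    obtain ⟨g', hg'⟩ := iso_minus_of_prof R h'.nd h'.dim hM hab
    exact ⟨g.trans g'.symm, fun v => by rw [← hg', ← hg]; simp⟩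

/-! ### Tori -/

theorem det_units (g : orth Q) : ((detHom Q g : Fˣ) : F) = LinearMap.det (g.1 : V →ₗ[F] V) := by
  simp [detHom, LinearEquiv.coe_det]

/-- An element of order `q^m - 1` in the special orthogonal group of plus type. -/
theorem exists_torus_plus (hm : 1 ≤ m) :
    ∃ (T : Type) (_ : AddCommGroup T) (_ : Module F T) (_ : FiniteDimensional F T)
      (R : QuadraticForm F T) (y : orth R),
      Typ R m 1 ∧ detHom R y = 1 ∧ orderOf y = q ^ m - 1 := by
  classical
  let p := ringChar F
  haveI : Fact p.Prime := ⟨CharP.char_is_prime F p⟩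
  haveI : NeZero m := ⟨by omega⟩
  letI := ZMod.algebra F p
  let K := FiniteField.Extension F p m
  have hK : finrank F K = m := FiniteField.finrank_extension F p m
  haveI : Fintype K := Fintype.ofFinite K
  haveI : Algebra.IsSeparable F K := inferInstance
  let B : LinearMap.BilinForm F (K × K) :=
    LinearMap.compl₂ (LinearMap.comp (Algebra.traceForm F K) (LinearMap.fst F K K)) (LinearMap.snd F K K)
  let R : QuadraticForm F (K × K) := B.toQuadraticMap
  have hR : ∀ x : K × K, R x = Algebra.trace F K (x.1 * x.2) := fun x => by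
    simp [R, B, Algebra.traceForm_apply]
  have hp : ∀ x y : K × K, polar R x y = Algebra.trace F K (x.1 * y.2 + y.1 * x.2) := fun x y => by
    rw [polar, hR, hR, hR, ← map_sub, ← map_sub]
    congr 1
    show (x.1 + y.1) * (x.2 + y.2) - x.1 * x.2 - y.1 * y.2 = _
    ring
  have htr := traceForm_nondegenerate F K
  have hnd : Nd R := by
    have key : ∀ x : K × K, (∀ y, polar R x y = 0) → x = 0 := fun x hx => Prod.ext
      (htr.1 _ fun z => by simpa [hp, Algebra.traceForm_apply] using hx (0, z))
      (htr.1 _ fun z => by simpa [hp, Algebra.traceForm_apply, mul_comm] using hx (z, 0))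
    exact ⟨fun x hx => key x fun y => hx y, fun x hx => key x fun y => by
      rw [polar_comm]; exact hx y⟩
  have hT : Typ R m 1 := by
    refine typ_plus_of_lagr hnd (by rw [Module.finrank_prod, hK]; ring)
      (U := LinearMap.range (LinearMap.inl F K K)) ?_ ?_
    · rintro _ ⟨a, rfl⟩
      simp [hR]
    · rw [LinearMap.finrank_range_of_inj LinearMap.inl_injective, hK]
  obtain ⟨z, hz⟩ := IsCyclic.exists_ofOrder_eq_natCard (α := Kˣ)
  have hz' : orderOf z = q ^ m - 1 := by
    rw [hz, Nat.card_units, FiniteField.natCard_extension, Nat.card_eq_fintype_card]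
  let mk : Kˣ →* orth R :=
    { toFun := fun z => ⟨(LinearEquiv.smulOfUnit z : K ≃ₗ[K] K).restrictScalars F |>.prodCongr
        ((LinearEquiv.smulOfUnit z⁻¹ : K ≃ₗ[K] K).restrictScalars F), fun x => by
        rw [hR, hR]
        congr 1
        show ((z : K) * x.1) * (((z⁻¹ : Kˣ) : K) * x.2) = _
        rw [mul_mul_mul_comm, Units.mul_inv, one_mul]⟩
      map_one' := orth_ext fun x => by
        show (((1 : Kˣ) : K) * x.1, (((1 : Kˣ)⁻¹ : Kˣ) : K) * x.2) = x
        simp
      map_mul' := fun a b => orth_ext fun x => by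
        show (((a * b : Kˣ) : K) * x.1, (((a * b)⁻¹ : Kˣ) : K) * x.2) =
          ((a : K) * ((b : K) * x.1), ((a⁻¹ : Kˣ) : K) * (((b⁻¹ : Kˣ) : K) * x.2))
        rw [mul_inv, Units.val_mul, Units.val_mul, mul_assoc, mul_assoc] }
  have hmk : Function.Injective mk := fun a b h => Units.ext (by
    have := congrArg (fun g : orth R => (g.1 ((1 : K), (0 : K))).1) h
    change (a : K) * 1 = (b : K) * 1 at this
    simpa using this)
  refine ⟨K × K, inferInstance, inferInstance, inferInstance, R, mk z, hT, ?_,
    by rw [orderOf_injective mk hmk, hz']⟩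
  refine Units.ext ?_
  rw [det_units]
  show LinearMap.det ((Algebra.lmul F K (z : K)).prodMap (Algebra.lmul F K ((z⁻¹ : Kˣ) : K))) = 1
  rw [LinearMap.det_prodMap, ← map_mul, ← map_mul, Units.mul_inv, map_one, map_one]

/-- An element of order `q^m + 1` in the special orthogonal group of minus type. -/
theorem exists_torus_minus (h2 : (2 : F) ≠ 0) (hm : 1 ≤ m) :
    ∃ (T : Type) (_ : AddCommGroup T) (_ : Module F T) (_ : FiniteDimensional F T)
      (R : QuadraticForm F T) (y : orth R),
      Typ R m (-1) ∧ detHom R y = 1 ∧ orderOf y = q ^ m + 1 := by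
  classical
  let p := ringChar F
  haveI : Fact p.Prime := ⟨CharP.char_is_prime F p⟩
  haveI : NeZero (2 * m) := ⟨by omega⟩
  letI := ZMod.algebra F p
  let K := FiniteField.Extension F p (2 * m)
  have hK : finrank F K = 2 * m := FiniteField.finrank_extension F p (2 * m)
  haveI : Fintype K := Fintype.ofFinite K
  have hcard : Fintype.card K = q ^ (2 * m) := by
    rw [← Nat.card_eq_fintype_card, FiniteField.natCard_extension, Nat.card_eq_fintype_card]
  let s : K ≃ₐ[F] K := FiniteField.Extension.frob F p (2 * m) ^ m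
  have hs : ∀ x, s x = x ^ q ^ m := fun x => by
    show (FiniteField.Extension.frob F p (2 * m) ^ m) x = _
    rw [FiniteField.Extension.frob_iterate_apply, Nat.card_eq_fintype_card]
  have hss : ∀ x, s (s x) = x := fun x => by
    rw [hs, hs, ← pow_mul, ← pow_add, ← two_mul, ← hcard, FiniteField.pow_card]
  let B : LinearMap.BilinForm F K := (Algebra.traceForm F K).compl₂ s.toLinearMap
  let R : QuadraticForm F K := B.toQuadraticMap
  have hR : ∀ x, R x = Algebra.trace F K (x * s x) := fun x => by
    simp [R, B, Algebra.traceForm_apply]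
  have hp : ∀ x y, polar R x y = 2 * Algebra.trace F K (x * s y) := fun x y => by
    rw [polar, hR, hR, hR, map_add, two_mul (Algebra.trace F K (x * s y))]
    have hflip : Algebra.trace F K (y * s x) = Algebra.trace F K (x * s y) := by
      rw [← Algebra.trace_eq_of_algEquiv s (x * s y), map_mul s, hss, mul_comm (s x) y]
    simp only [mul_add, add_mul, map_add, hflip]
    ring
  have htr := traceForm_nondegenerate F K
  have hnd : Nd R := by
    have key : ∀ x, (∀ y, polar R x y = 0) → x = 0 := fun x hx => htr.1 x fun z => by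
      have := hx (s z)
      rw [hp, hss, mul_eq_zero] at this
      exact this.resolve_left h2
    exact ⟨fun x hx => key x fun y => hx y, fun x hx => key x fun y => by
      rw [polar_comm]; exact hx y⟩
  obtain ⟨w, hw⟩ := IsCyclic.exists_ofOrder_eq_natCard (α := Kˣ)
  have hQm : 1 ≤ q ^ m := Nat.one_le_pow _ _ Fintype.card_pos
  have hfac : q ^ (2 * m) - 1 = (q ^ m + 1) * (q ^ m - 1) := by
    rw [← Nat.sq_sub_sq, one_pow, ← pow_mul, mul_comm m]
  have hw' : orderOf w = (q ^ m + 1) * (q ^ m - 1) := by
    rw [hw, Nat.card_units, Nat.card_eq_fintype_card, hcard, hfac]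
  set z : Kˣ := w ^ (q ^ m - 1) with hzdef
  have hz1 : 1 < q ^ m := Nat.one_lt_pow (by omega) Fintype.one_lt_card
  have hz : orderOf z = q ^ m + 1 := by
    rw [hzdef, orderOf_pow' _ (by omega), hw', Nat.gcd_mul_left_left, Nat.mul_div_cancel _ (by omega)]
  have hzs : (z : K) * s (z : K) = 1 := by
    rw [hs, ← pow_succ', ← hz, ← Units.val_pow_eq_pow_val, pow_orderOf_eq_one, Units.val_one]
  let y : orth R := ⟨(LinearEquiv.smulOfUnit z : K ≃ₗ[K] K).restrictScalars F, fun x => by
    rw [hR, hR]
    show Algebra.trace F K ((z : K) * x * s ((z : K) * x)) = _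
    rw [map_mul s, mul_mul_mul_comm, hzs, one_mul]⟩
  have hyk : ∀ (k : ℕ) (x : K), (y ^ k).1 x = (z : K) ^ k * x := by
    intro k
    induction k with
    | zero => intro x; simp
    | succ k ih =>
      intro x
      rw [pow_succ, orth_mul_apply, ih]
      show (z : K) ^ k * ((z : K) * x) = _
      rw [pow_succ, mul_assoc]
  have hyz : ∀ k : ℕ, y ^ k = 1 ↔ z ^ k = 1 := fun k => by
    constructor
    · intro h
      apply Units.ext
      have := hyk k 1
      rw [h] at this
      simpa using this.symm
    · intro h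
      refine orth_ext fun x => ?_
      rw [hyk, ← Units.val_pow_eq_pow_val, h]; simp
  have hoy : orderOf y = q ^ m + 1 := by
    rw [← hz, orderOf_eq_orderOf_iff]; exact hyz
  have hfree : ∀ k : ℕ, ∀ v : K, v ≠ 0 → (y ^ k).1 v = v → y ^ k = 1 := fun k v hv h => by
    rw [hyk] at h
    exact (hyz k).2 (Units.ext (by simpa using mul_right_cancel₀ hv (h.trans (one_mul v).symm)))
  have hdet : detHom R y = 1 := by
    refine Units.ext ?_
    rw [det_units]
    show LinearMap.det (Algebra.lmul F K (z : K)) = 1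
    rw [hzdef, Units.val_pow_eq_pow_val, map_pow, map_pow]
    obtain ⟨i, hi⟩ := Nat.sub_dvd_pow_sub_pow q 1 m
    rw [one_pow] at hi
    rw [hi, pow_mul, FiniteField.pow_card_sub_one_eq_one, one_pow]
    exact ((w.isUnit.map (Algebra.lmul F K)).map LinearMap.det).ne_zero
  obtain ⟨σ, hT⟩ := exists_typ (Q := R) (m := m) hnd hK
  refine ⟨K, inferInstance, inferInstance, inferInstance, R, y, ?_, hdet, hoy⟩
  rcases Nat.lt_or_ge m 2 with hm1 | hm2
  · obtain rfl : m = 1 := by omega
    refine typ_minus_of_aniso hnd (by omega) fun v hv => ?_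
    by_contra hv0
    rw [hR] at hv
    have hfix : s (v * s v) = v * s v := by rw [map_mul s, hss, mul_comm]
    obtain ⟨c, hc⟩ : ∃ c : F, algebraMap F K c = v * s v := by
      have hmem : v * s v ∈ IntermediateField.fixedField (⊤ : Subgroup (K ≃ₐ[F] K)) := by
        have hfr : ∀ i : ℕ, (FiniteField.Extension.frob F p (2 * 1) ^ i) (v * s v) = v * s v := by
          intro i
          induction i with
          | zero => rfl
          | succ i ih =>
            have h1 : FiniteField.Extension.frob F p (2 * 1) (v * s v) = v * s v := by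
              have h := hfix
              simp only [s, pow_one] at h
              simp only [s, pow_one]
              exact h
            rw [pow_succ, AlgEquiv.mul_apply, h1, ih]
        rintro ⟨g, -⟩
        obtain ⟨i, -, rfl⟩ := FiniteField.Extension.exists_frob_pow_eq F p (2 * 1) g
        exact hfr i
      rwa [IsGalois.fixedField_top, IntermediateField.mem_bot] at hmem
    rw [← hc, Algebra.trace_algebraMap, hK, nsmul_eq_mul, mul_eq_zero] at hv
    rcases hv with h | h
    · exact h2 (by simpa using h)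
    · rw [h, map_zero, eq_comm, mul_eq_zero] at hc
      exact hc.elim hv0 fun h' => hv0 (by simpa using congrArg s h')
  · rcases hT.sign with rfl | rfl
    · exfalso
      have h4 := Nat.le_of_dvd (by norm_num) (dvd_four_of_free hT (by omega) y hfree (hoy ▸ dvd_rfl))
      rw [hoy] at h4
      have : 2 ^ 2 ≤ q ^ m :=
        le_trans (Nat.pow_le_pow_left Fintype.one_lt_card 2) (Nat.pow_le_pow_right Fintype.card_pos hm2)
      omega
    · exact hT

/-! ### Elements of prescribed spinor sign and `-1` on planes -/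

theorem orderOf_pow_coprime {G : Type*} [Group G] [Finite G] {p : ℕ} [Fact p.Prime] (a : G) :
    ∃ k : ℕ, ¬ p ∣ orderOf (a ^ p ^ k) := by
  have hp := (Fact.out : p.Prime)
  refine ⟨(orderOf a).factorization p, ?_⟩
  rw [orderOf_pow' _ (pow_ne_zero _ hp.ne_zero),
    Nat.gcd_eq_right (Nat.ordProj_dvd _ _)]
  exact Nat.not_dvd_ordCompl hp (orderOf_pos a).ne'

/-- Special isometries of either spinor sign with order prime to the characteristic. -/
theorem exists_sign [Finite V] (h2 : (2 : F) ≠ 0) (hQ : Nd Q) (hn : 2 ≤ finrank F V) {p : ℕ}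
    [Fact p.Prime] (hp : Odd p) (t : ℤˣ) :
    ∃ g : orth Q, detHom Q g = 1 ∧ theta Q g = t ∧ ¬ p ∣ orderOf g := by
  classical
  haveI := finite_orth Q
  obtain ⟨u, hu⟩ := exists_map_eq hQ.reg hn 1
  obtain ⟨c, hc⟩ := FiniteField.exists_nonsquare (F := F) (ringChar_ne_two h2)
  obtain ⟨v, hv⟩ := exists_map_eq hQ.reg hn c
  have hu0 : Q u ≠ 0 := by rw [hu]; exact one_ne_zero
  have hv0 : Q v ≠ 0 := by rw [hv]; exact fun h => hc (h ▸ IsSquare.zero)
  obtain ⟨g, hd, ht⟩ : ∃ g : orth Q, detHom Q g = 1 ∧ theta Q g = t := by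
    rcases Int.units_eq_one_or t with rfl | rfl
    · exact ⟨1, map_one _, map_one _⟩
    · refine ⟨refl Q u hu0 * refl Q v hv0, ?_, ?_⟩
      · rw [map_mul, detHom_refl, detHom_refl, neg_one_mul, neg_neg]
      · rw [map_mul, theta_refl h2, theta_refl h2, if_pos (by rw [hu]; exact IsSquare.one),
          if_neg (by rw [hv]; exact hc), mul_one]
  obtain ⟨k, hk⟩ := orderOf_pow_coprime (p := p) g
  obtain ⟨h1, h1'⟩ := det_pow_odd h2 hQ g (hp.pow (n := k))
  exact ⟨g ^ p ^ k, by rw [h1, hd], by rw [h1', ht], hk⟩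

/-- The spinor sign of `-1` on a plane. -/
theorem negOne_plane [DecidableEq F] [Finite V] (h2 : (2 : F) ≠ 0) (hT : Typ Q 1 σ) :
    detHom Q (negOne Q) = 1 ∧
      ((theta Q (negOne Q) : ℤˣ) : ℤ) = σ * quadraticChar F (-1 : F) := by
  classical
  have hdim : finrank F V = 2 := hT.dim
  obtain ⟨u, hu⟩ := exists_map_eq hT.reg (by omega) 1
  have hu0 : Q u ≠ 0 := by rw [hu]; exact one_ne_zero
  have hpu : polar Q u u ≠ 0 := by rw [polar_self_mul, hu, mul_one]; exact h2
  obtain ⟨v, hv, hv0⟩ : ∃ v, polar Q u v = 0 ∧ v ≠ 0 := by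
    have h1 := LinearMap.finrank_range_add_finrank_ker (polarBilin Q u)
    have h3 : finrank F (LinearMap.range (polarBilin Q u)) ≤ 1 :=
      (Submodule.finrank_le _).trans (finrank_self F).le
    have hne : LinearMap.ker (polarBilin Q u) ≠ ⊥ := fun h => by rw [h, finrank_bot] at h1; omega
    obtain ⟨v, hv, hv0⟩ := Submodule.exists_mem_ne_zero_of_ne_bot hne
    exact ⟨v, hv, hv0⟩
  have hli : LinearIndependent F ![u, v] := by
    refine LinearIndependent.pair_iff.2 fun s t hst => ?_
    have hs : s = 0 := by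
      have := congrArg (polar Q u) hst
      simpa [polar_add_right, polar_smul_right, hv, hpu, h2, hu] using this
    subst hs
    simpa [hv0] using hst
  have hspan : ∀ x, ∃ s t : F, s • u + t • v = x := fun x => by
    have hx : x ∈ Submodule.span F (Set.range ![u, v]) := by
      rw [hli.span_eq_top_of_card_eq_finrank (by simp [hdim])]; trivial
    rw [Matrix.range_cons, Matrix.range_cons, Matrix.range_empty, Set.union_empty,
      Set.singleton_union, Submodule.mem_span_pair] at hx
    exact hx
  have hQv : Q v ≠ 0 := fun h0 => hv0 (hT.nd.1 v fun z => by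
    obtain ⟨s, t, rfl⟩ := hspan z
    simp [polar_add_right, polar_smul_right, polar_comm _ v u, hv, polar_self_mul, h0])
  have hneg : negOne Q = refl Q u hu0 * refl Q v hQv := orth_ext fun x => by
    obtain ⟨s, t, rfl⟩ := hspan x
    have e1 : (refl Q v hQv).1 u = u := by
      rw [refl_apply, polar_comm _ v u, hv, mul_zero, zero_smul, sub_zero]
    have e2 : (refl Q v hQv).1 v = -v := by
      rw [refl_apply, polar_self_mul, mul_comm 2, ← mul_assoc, inv_mul_cancel₀ hQv, one_mul, two_smul]
      abel
    have e3 : (refl Q u hu0).1 u = -u := by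
      rw [refl_apply, polar_self_mul, mul_comm 2, ← mul_assoc, inv_mul_cancel₀ hu0, one_mul, two_smul]
      abel
    have e4 : (refl Q u hu0).1 v = v := by
      rw [refl_apply, hv, mul_zero, zero_smul, sub_zero]
    rw [negOne_apply, orth_mul_apply]
    simp only [map_add, map_smul, map_neg, e1, e2, e3, e4, smul_neg]
    abel
  refine ⟨by rw [hneg, map_mul, detHom_refl, detHom_refl, neg_one_mul, neg_neg], ?_⟩
  have hθ : ((theta Q (negOne Q) : ℤˣ) : ℤ) = quadraticChar F (Q v) := by
    rw [hneg, map_mul, theta_refl h2, theta_refl h2, if_pos (by rw [hu]; exact IsSquare.one)]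
    split_ifs with hs
    · rw [(quadraticChar_one_iff_isSquare hQv).2 hs]; rfl
    · rw [quadraticChar_neg_one_iff_not_isSquare.2 hs]; rfl
  rw [hθ]
  have hm1 : (-1 : F) ≠ 0 := neg_ne_zero.2 one_ne_zero
  have hval : ∀ s t : F, Q (s • u + t • v) = s * s + t * t * Q v := fun s t => by
    rw [QuadraticMap.map_add (⇑Q), QuadraticMap.map_smul, QuadraticMap.map_smul, polar_smul_left,
      polar_smul_right, hv, hu]
    simp
  have hsq : quadraticChar F (Q v) = quadraticChar F (-1 : F) * quadraticChar F (-Q v) := by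
    rw [← map_mul]; congr 1; ring
  rw [hsq, mul_comm σ]
  congr 1
  by_cases hs : IsSquare (-Q v)
  · rw [(quadraticChar_one_iff_isSquare (neg_ne_zero.2 hQv)).2 hs]
    rcases hT.sign with rfl | rfl
    · rfl
    · exfalso
      obtain ⟨r, hr⟩ := hs
      obtain ⟨N, hN⟩ := hT.prof
      rw [neg_one_mul] at hN
      obtain ⟨a, b, hab⟩ := OrthDerange84.exists_aniso_pair (F := F)
      obtain ⟨g, hg⟩ := iso_minus_of_prof Q hT.nd (m := 1) (by omega) hN hab
      have h0 : Q (r • u + (1 : F) • v) = 0 := by rw [hval]; linear_combination -hr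
      rw [← hg] at h0
      have h1 : g (r • u + (1 : F) • v) = 0 := by
        simp [Cfsg.quadFormMinus] at h0
        obtain ⟨h1, h1'⟩ := hab _ _ h0
        funext i
        rcases i with (i | i) | i
        · exact i.elim0
        · exact i.elim0
        · fin_cases i <;> simpa using by first | exact h1 | exact h1'
      rw [LinearEquiv.map_eq_zero_iff] at h1
      exact one_ne_zero (LinearIndependent.pair_iff.1 hli r 1 h1).2
  · rw [quadraticChar_neg_one_iff_not_isSquare.2 hs]
    rcases hT.sign with rfl | rfl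
    · exfalso
      apply hs
      obtain ⟨N, hN⟩ := hT.prof
      rw [one_mul] at hN
      obtain ⟨g, hg⟩ := iso_plus_of_prof Q hT.nd (m := 1) (by omega) hN
      obtain ⟨s, t, hst⟩ := hspan (g.symm (Pi.single (Sum.inl 0) 1))
      have h0 : Q (s • u + t • v) = 0 := by
        rw [hst, ← hg, g.apply_symm_apply]; simp [Cfsg.quadFormPlus]
      rw [hval] at h0
      by_cases ht : t = 0
      · exfalso
        subst ht
        simp at h0
        subst h0
        simp at hst
        have := congrArg g hst
        rw [g.apply_symm_apply, map_zero, eq_comm, Pi.single_eq_zero_iff] at this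
        exact one_ne_zero this
      · exact ⟨s / t, by field_simp; linear_combination -h0⟩
    · rfl

/-! ### Regular unipotent isometries -/

theorem pow_eq_one_of_unip {p j n : ℕ} [Fact p.Prime] [CharP F p] {T : Module.End F V}
    (hT : (T - 1) ^ n = 0) (hn : n ≤ p ^ j) : T ^ p ^ j = 1 := by
  have h : (Polynomial.X - 1 : Polynomial F) ^ p ^ j = Polynomial.X ^ p ^ j - 1 := by
    rw [sub_pow_char_pow, one_pow]
  have h' := congrArg (Polynomial.aeval T) h
  simp only [map_pow, map_sub, map_one, Polynomial.aeval_X] at h'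
  rw [pow_eq_zero_of_le hn hT] at h'
  exact sub_eq_zero.1 h'.symm

theorem unip_of_pow_eq_one {p j : ℕ} [Fact p.Prime] [CharP F p] {T : Module.End F V}
    (hT : T ^ p ^ j = 1) : (T - 1) ^ p ^ j = 0 := by
  have h : (Polynomial.X - 1 : Polynomial F) ^ p ^ j = Polynomial.X ^ p ^ j - 1 := by
    rw [sub_pow_char_pow, one_pow]
  have h' := congrArg (Polynomial.aeval T) h
  simp only [map_pow, map_sub, map_one, Polynomial.aeval_X] at h'
  rw [h', hT, sub_self]

/-- A regular unipotent isometry in odd dimension. -/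
theorem exists_regular (h2 : (2 : F) ≠ 0) {k : ℕ} (hQ : Nd Q) (hdim : finrank F V = 2 * k + 1) :
    ∃ g : orth Q, ((g.1 : V →ₗ[F] V) - 1 : Module.End F V) ^ (2 * k) ≠ 0 ∧
      ((g.1 : V →ₗ[F] V) - 1 : Module.End F V) ^ (2 * k + 1) = 0 := by
  classical
  let B : LinearMap.BilinForm F (Fin (2 * k + 1) → F) :=
    LinearMap.mk₂ F (fun v w => ∑ i : Fin (2 * k + 1), (-1 : F) ^ (i : ℕ) * (v i * w i.rev))
      (fun a b c => by simp [add_mul, mul_add, Finset.sum_add_distrib])
      (fun c a b => by simp [Finset.mul_sum]; exact Finset.sum_congr rfl fun i _ => by ring)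
      (fun a b c => by simp [mul_add, Finset.sum_add_distrib])
      (fun c a b => by simp [Finset.mul_sum]; exact Finset.sum_congr rfl fun i _ => by ring)
  have hB : ∀ v w, B v w = ∑ i : Fin (2 * k + 1), (-1 : F) ^ (i : ℕ) * (v i * w i.rev) := fun v w => rfl
  have hsym : ∀ v w, B v w = B w v := fun v w => by
    rw [hB, hB, ← Equiv.sum_comp Fin.revPerm]
    refine Finset.sum_congr rfl fun i _ => ?_
    rw [Fin.revPerm_apply, Fin.rev_rev, mul_comm (v i.rev)]
    congr 1
    have hi := i.isLt
    rw [Fin.val_rev, neg_one_pow_eq_pow_mod_two, neg_one_pow_eq_pow_mod_two (n := (i : ℕ))]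
    congr 1
    omega
  let R : QuadraticForm F (Fin (2 * k + 1) → F) := B.toQuadraticMap
  have hR : ∀ v, R v = B v v := fun v => rfl
  have hndR : Nd R := by
    have key : ∀ x, (∀ y, polar R x y = 0) → x = 0 := fun x hx => funext fun j => by
      have := hx (Pi.single j.rev 1)
      have hp : polar R x (Pi.single j.rev 1) = 2 * B x (Pi.single j.rev 1) := by
        rw [polar, hR, hR, hR]
        simp only [map_add, LinearMap.add_apply]
        rw [hsym (Pi.single j.rev 1) x]; ring
      rw [hp, mul_eq_zero, or_iff_right h2, hB, Finset.sum_eq_single j (fun b _ hb => by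
        simp [Pi.single_apply, hb, Fin.rev_inj]) (by simp)] at this
      simpa using this
    exact ⟨fun x hx => key x fun y => hx y, fun x hx => key x fun y => by
      rw [polar_comm]; exact hx y⟩
  let N : Module.End F (Fin (2 * k + 1) → F) :=
    { toFun := fun v i => Fin.cases 0 (fun j => v j.castSucc) i
      map_add' := fun a b => funext fun i => Fin.cases (by simp) (fun j => by simp) i
      map_smul' := fun c a => funext fun i => Fin.cases (by simp) (fun j => by simp) i }
  have hN0 : ∀ v, N v 0 = 0 := fun v => rfl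
  have hNs : ∀ v (j : Fin (2 * k)), N v j.succ = v j.castSucc := fun v j => rfl
  have hskew : ∀ v w, B (N v) w + B v (N w) = 0 := fun v w => by
    rw [hB, hB, Fin.sum_univ_succ, Fin.sum_univ_castSucc]
    have hlast : N w (Fin.last (2 * k)).rev = 0 := by rw [Fin.rev_last, hN0]
    rw [hN0, hlast, zero_mul, mul_zero, mul_zero, mul_zero, zero_add, add_zero,
      ← Finset.sum_add_distrib]
    refine Finset.sum_eq_zero fun j _ => ?_
    rw [hNs, Fin.rev_succ, Fin.rev_castSucc, hNs, Fin.val_succ, Fin.val_castSucc, pow_succ]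
    ring
  have hlow : ∀ a v (i : Fin (2 * k + 1)), (i : ℕ) < a → (N ^ a) v i = 0 := by
    intro a
    induction a with
    | zero => intro v i hi; omega
    | succ a ih =>
      intro v i hi
      rw [pow_succ', Module.End.mul_apply]
      induction i using Fin.cases with
      | zero => exact hN0 _
      | succ j => rw [hNs]; exact ih v _ (by simp at hi ⊢; omega)
  have hNn : N ^ (2 * k + 1) = 0 := LinearMap.ext fun v => funext fun i => hlow _ v i i.isLt
  have hdiag : ∀ a : ℕ, ∀ i : Fin (2 * k + 1), (i : ℕ) = a → (N ^ a) (Pi.single 0 1) i = 1 := by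
    intro a
    induction a with
    | zero =>
      intro i hi
      obtain rfl : i = 0 := Fin.ext hi
      simp
    | succ a ih =>
      intro i hi
      induction i using Fin.cases with
      | zero => simp at hi
      | succ j =>
        rw [pow_succ', Module.End.mul_apply, hNs]
        exact ih _ (by simp at hi ⊢; omega)
  have hN2k : N ^ (2 * k) ≠ 0 := fun h => by
    have := hdiag (2 * k) (Fin.last _) (by simp)
    rw [h] at this
    exact zero_ne_one this
  obtain ⟨U, hU⟩ := (show IsNilpotent N from ⟨_, hNn⟩).isUnit_one_sub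
  set M : Module.End F (Fin (2 * k + 1) → F) := (1 + N) * ↑U⁻¹ with hM
  have hMpres : ∀ w, R (M w) = R w := fun w => by
    obtain ⟨x, rfl⟩ : ∃ x, (U : Module.End F (Fin (2 * k + 1) → F)) x = w :=
      ⟨(↑U⁻¹ : Module.End F (Fin (2 * k + 1) → F)) w, by
        rw [← Module.End.mul_apply, Units.mul_inv, Module.End.one_apply]⟩
    rw [hM, ← Module.End.mul_apply, mul_assoc, Units.inv_mul, mul_one, hU, hR, hR]
    simp only [LinearMap.add_apply, LinearMap.sub_apply, Module.End.one_apply, map_add, map_sub,
      LinearMap.add_apply, LinearMap.sub_apply]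
    linear_combination 2 * hskew x x
  have hM1 : M - 1 = (2 : F) • (N * ↑U⁻¹) := by
    rw [hM]
    calc (1 + N) * ↑U⁻¹ - 1 = (1 + N) * ↑U⁻¹ - ↑U * ↑U⁻¹ := by rw [Units.mul_inv]
      _ = ((1 + N) - ↑U) * ↑U⁻¹ := by rw [sub_mul]
      _ = _ := by rw [hU, two_smul, add_sub_sub_cancel, ← add_mul]
  have hNU : Commute N (↑U⁻¹ : Module.End F (Fin (2 * k + 1) → F)) :=
    (show Commute N (U : Module.End F (Fin (2 * k + 1) → F)) by
      rw [hU]; exact (Commute.one_right N).sub_right (Commute.refl N)).units_inv_right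
  have hpowM : ∀ a, (M - 1) ^ a = (2 : F) ^ a • (N ^ a * (↑U⁻¹ : Module.End F _) ^ a) := fun a => by
    rw [hM1, smul_pow, hNU.mul_pow]
  have hbij : Function.Bijective M := by
    rw [Module.End.isUnit_iff M |>.symm]
    exact IsUnit.mul ((show IsNilpotent N from ⟨_, hNn⟩).isUnit_one_add) (Units.isUnit _)
  let gM : orth R := ⟨LinearEquiv.ofBijective M hbij, hMpres⟩
  obtain ⟨c, e, hc, he⟩ := iso_odd Q hQ hdim
  obtain ⟨c', e', hc', he'⟩ := iso_odd R hndR (m := k) (by simp)
  let E : (Fin (2 * k + 1) → F) ≃ₗ[F] V := e'.trans e.symm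
  have hE : ∀ x, c * Q (E x) = c' * R x := fun x => by rw [← he, ← he']; simp [E]
  let g : orth Q := ⟨E.symm.trans (gM.1.trans E), fun y => by
    apply mul_left_cancel₀ hc
    obtain ⟨x, rfl⟩ := E.surjective y
    rw [LinearEquiv.trans_apply, LinearEquiv.trans_apply, LinearEquiv.symm_apply_apply, hE, hE]
    exact congrArg (c' * ·) (hMpres x)⟩
  have hgp : ∀ a x, (((g.1 : V →ₗ[F] V) - 1 : Module.End F V) ^ a) (E x) = E (((M - 1) ^ a) x) := by
    intro a
    induction a with
    | zero => intro x; simp
    | succ a ih =>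
      intro x
      rw [pow_succ', Module.End.mul_apply, ih, pow_succ', Module.End.mul_apply]
      show E (M (E.symm (E _))) - E _ = E (M _ - _)
      rw [LinearEquiv.symm_apply_apply, map_sub]
      rfl
  refine ⟨g, fun h => ?_, LinearMap.ext fun y => ?_⟩
  · have h' : (M - 1) ^ (2 * k) = 0 := LinearMap.ext fun x => E.injective (by
      rw [← hgp, h, LinearMap.zero_apply, LinearMap.zero_apply, map_zero])
    rw [hpowM, smul_eq_zero, or_iff_right (pow_ne_zero _ h2),
      IsUnit.mul_left_eq_zero ((Units.isUnit U⁻¹).pow _)] at h'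
    exact hN2k h'
  · obtain ⟨x, rfl⟩ := E.surjective y
    rw [hgp, hpowM, hNn, zero_mul, smul_zero, LinearMap.zero_apply, map_zero, LinearMap.zero_apply]

/-- In dimension `2m` a unipotent isometry with a block of size `2m - 1`. -/
theorem exists_block (h2 : (2 : F) ≠ 0) (hQ : Nd Q) {k : ℕ} (hdim : finrank F V = 2 * k + 2) :
    ∃ g : orth Q, ((g.1 : V →ₗ[F] V) - 1 : Module.End F V) ^ (2 * k) ≠ 0 ∧
      ((g.1 : V →ₗ[F] V) - 1 : Module.End F V) ^ (2 * k + 1) = 0 := by
  classical
  obtain ⟨u, hu⟩ := exists_map_eq hQ.reg (by omega) 1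
  have hpu : polar Q u u ≠ 0 := by rw [polar_self_mul, hu, mul_one]; exact h2
  set A : Submodule F V := Submodule.span F {u}
  set H : Submodule F V := LinearMap.ker (polarBilin Q u)
  have ho : ∀ a ∈ A, ∀ b ∈ H, polar Q a b = 0 := by
    intro a ha b hb
    obtain ⟨s, rfl⟩ := Submodule.mem_span_singleton.1 ha
    rw [polar_smul_left, show polar Q u b = 0 from hb, smul_zero]
  have hAH : IsCompl A H := by
    have hd : Disjoint A H := Submodule.disjoint_def.2 fun x hx hx' => by
      obtain ⟨s, rfl⟩ := Submodule.mem_span_singleton.1 hx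
      have : s * polar Q u u = 0 := by
        have h := hx'
        rwa [LinearMap.mem_ker, polarBilin_apply_apply, polar_smul_right, smul_eq_mul] at h
      rw [(mul_eq_zero.1 this).resolve_right hpu, zero_smul]
    refine ⟨hd, codisjoint_iff.2 (Submodule.eq_top_of_finrank_eq ?_)⟩
    have h1 := Submodule.finrank_sup_add_finrank_inf_eq A H
    rw [hd.eq_bot, finrank_bot] at h1
    have h3 := LinearMap.finrank_range_add_finrank_ker (polarBilin Q u)
    have h4 : finrank F (LinearMap.range (polarBilin Q u)) ≤ 1 :=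
      (Submodule.finrank_le _).trans (finrank_self F).le
    have h5 : finrank F A = 1 := finrank_span_singleton fun h => hpu (by simp [h])
    have h6 := Submodule.finrank_le (A ⊔ H)
    change _ + finrank F H = _ at h3
    omega
  obtain ⟨e, he, hQe⟩ := exists_splitEquiv hAH ho
  have hH : Nd (Q.comp H.subtype) := nd_of_split hQ (by rw [sup_comm]; exact hAH.sup_eq_top)
    fun a ha b hb => by rw [polar_comm]; exact ho b hb a ha
  have hHd : finrank F H = 2 * k + 1 := by
    have h1 := Submodule.finrank_add_eq_of_isCompl hAH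
    have h5 : finrank F A = 1 := finrank_span_singleton fun h => hpu (by simp [h])
    omega
  obtain ⟨b, hb1, hb2⟩ := exists_regular h2 hH hHd
  let P := prodOrth (Q.comp A.subtype) (Q.comp H.subtype) (1, b)
  let g := orthCongr e hQe P
  have hgp : ∀ a x, (((g.1 : V →ₗ[F] V) - 1 : Module.End F V) ^ (a + 1)) (e x) =
      e (0, (((b.1 : H →ₗ[F] H) - 1 : Module.End F H) ^ (a + 1)) x.2) := by
    intro a
    induction a with
    | zero =>
      intro x
      rw [zero_add, pow_one, pow_one]
      show e (P.1 (e.symm (e x))) - e x = _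
      rw [e.symm_apply_apply, ← map_sub]
      congr 1
      refine Prod.ext ?_ rfl
      exact sub_self x.1
    | succ a ih =>
      intro x
      rw [pow_succ', Module.End.mul_apply, ih, pow_succ' (_ : Module.End F H), Module.End.mul_apply]
      show e (P.1 (e.symm (e _))) - e _ = _
      rw [e.symm_apply_apply, ← map_sub]
      congr 1
      refine Prod.ext ?_ (by rw [pow_succ' _ (a + 1), pow_succ' _ a, Module.End.mul_apply]; rfl)
      exact sub_self (0 : A)
  refine ⟨g, fun h => ?_, LinearMap.ext fun y => ?_⟩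
  · rcases Nat.eq_zero_or_pos k with rfl | hk
    · haveI : Nontrivial V := Module.nontrivial_of_finrank_pos (R := F) (by omega)
      rw [mul_zero, pow_zero] at h
      exact one_ne_zero h
    · obtain ⟨a, ha⟩ : ∃ a, 2 * k = a + 1 := ⟨2 * k - 1, by omega⟩
      rw [ha] at h hb1
      refine hb1 (LinearMap.ext fun x => ?_)
      have := hgp a (0, x)
      rw [h, LinearMap.zero_apply, eq_comm, LinearEquiv.map_eq_zero_iff] at this
      exact congrArg Prod.snd this
  · obtain ⟨x, rfl⟩ := e.surjective y
    rw [hgp, hb2]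
    simp

end Cfsg.Agent.Spectrum85Models
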