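import Mathlib
import Cfsg.Agent.Lib.Spectrum85Models
import Cfsg.Agent.Lib.SelfReciprocalFactors
import Cfsg.Agent.Lib.PrimeOrderModule84
import Cfsg.Agent.Lib.OrthSemisimpleSpinor

/-!
Decomposition of an isometry without fixed vectors along a factor of its minimal polynomial, with
bounds on the order of each piece and its type.
-/

set_option autoImplicit false
set_option linter.unusedSectionVars false
set_option linter.style.haveILetI false

namespace Cfsg.Agent.Spectrum85Peel

open QuadraticMap Module Polynomial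
open Cfsg.Agent.OrthUnitaryQuad
open Cfsg.Agent.OrthUnitaryRefl
open Cfsg.Agent.OrthUnitaryOmega
open Cfsg.Agent.OrthUnitaryCentre
open Cfsg.Agent.Spectrum85Core
open Cfsg.Agent.Spectrum85Models

variable {F : Type*} [Field F] [Fintype F]
variable {V : Type*} [AddCommGroup V] [Module F V] [FiniteDimensional F V]
variable {Q : QuadraticForm F V} {m i : ℕ} {σ : ℤ}

local notation "q" => Fintype.card F

/-- The underlying endomorphism. -/
abbrev lin (g : orth Q) : Module.End F V := (g.1 : V →ₗ[F] V)

theorem lin_mul (g h : orth Q) : lin (g * h) = lin g * lin h := rfl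

theorem lin_one : lin (1 : orth Q) = 1 := rfl

theorem lin_pow (g : orth Q) (k : ℕ) : lin (g ^ k) = lin g ^ k := coe_pow g k

theorem lin_inj {g h : orth Q} (e : lin g = lin h) : g = h :=
  orth_ext fun x => congrArg (fun T : Module.End F V => T x) e

theorem pow_eq_one_iff {g : orth Q} {k : ℕ} : g ^ k = 1 ↔ lin g ^ k = 1 := by
  rw [← lin_pow]
  exact ⟨fun h => by rw [h]; rfl, fun h => lin_inj h⟩

theorem lin_mul_inv (g : orth Q) : lin g * lin g⁻¹ = 1 := by rw [← lin_mul, mul_inv_cancel]; rfl

theorem lin_inv_mul (g : orth Q) : lin g⁻¹ * lin g = 1 := by rw [← lin_mul, inv_mul_cancel]; rfl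

theorem lin_comm (g : orth Q) : Commute (lin g) (lin g⁻¹) :=
  (lin_mul_inv g).trans (lin_inv_mul g).symm

/-- The adjoint of `P(g)` is `P(g⁻¹)`. -/
theorem polar_aeval (g : orth Q) (P : F[X]) (a b : V) :
    polar Q (aeval (lin g) P a) b = polar Q a (aeval (lin g⁻¹) P b) := by
  have hstep : ∀ (k : ℕ) (a b : V), polar Q ((lin g ^ k) a) b = polar Q a ((lin g⁻¹ ^ k) b) := by
    intro k
    induction k with
    | zero => intro a b; rfl
    | succ k ih =>
      intro a b
      rw [pow_succ, Module.End.mul_apply, ih, pow_succ', Module.End.mul_apply]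
      have h := polar_orth g a (lin g⁻¹ ((lin g⁻¹ ^ k) b))
      rw [show g.1 (lin g⁻¹ ((lin g⁻¹ ^ k) b)) = (lin g⁻¹ ^ k) b from
        congrArg (fun T : Module.End F V => T ((lin g⁻¹ ^ k) b)) (lin_mul_inv g)] at h
      exact h
  induction P using Polynomial.induction_on' with
  | add P R hP hR =>
    rw [map_add, map_add, LinearMap.add_apply, LinearMap.add_apply, polar_add_left, polar_add_right,
      hP, hR]
  | monomial k c =>
    simp only [aeval_monomial, Module.End.mul_apply, Module.algebraMap_end_apply, polar_smul_left,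
      polar_smul_right, hstep]

theorem polar_aeval_pow (g : orth Q) (P : F[X]) (n : ℕ) (a b : V) :
    polar Q ((aeval (lin g) P ^ n) a) b = polar Q a ((aeval (lin g⁻¹) P ^ n) b) := by
  rw [← map_pow, ← map_pow, polar_aeval]

/-- `P(g⁻¹)` is `P*(g)` up to a unit. -/
theorem aeval_inv_eq (g : orth Q) (P : F[X]) :
    aeval (lin g⁻¹) P = lin g⁻¹ ^ P.natDegree * aeval (lin g) P.reverse := by
  have hc := lin_comm g
  have hrev : aeval (lin g) P.reverse = lin g ^ P.natDegree * aeval (lin g⁻¹) P := by
    rw [aeval_eq_sum_range' (show P.reverse.natDegree < P.natDegree + 1 from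
      Nat.lt_succ_of_le (reverse_natDegree_le _)), aeval_eq_sum_range, Finset.mul_sum,
      ← Finset.sum_range_reflect]
    refine Finset.sum_congr rfl fun j hj => ?_
    rw [Finset.mem_range] at hj
    rw [coeff_reverse, revAt_le (by omega), show P.natDegree - (P.natDegree + 1 - 1 - j) = j by omega,
      mul_smul_comm]
    congr 1
    have e : lin g ^ P.natDegree = lin g ^ (P.natDegree - j) * lin g ^ j := by
      rw [← pow_add, Nat.sub_add_cancel (by omega)]
    rw [e, mul_assoc, ← hc.mul_pow, lin_mul_inv, one_pow, mul_one,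
      show P.natDegree + 1 - 1 - j = P.natDegree - j by omega]
  rw [hrev, ← mul_assoc, ← hc.symm.mul_pow, lin_inv_mul, one_pow, one_mul]

/-- If the reversed polynomial divides a power acting as zero, so does the adjoint. -/
theorem adj_zero (g : orth Q) {P R : F[X]} (hPR : R ∣ P.reverse) {n : ℕ} {a : V}
    (ha : (aeval (lin g) R ^ n) a = 0) : (aeval (lin g⁻¹) P ^ n) a = 0 := by
  obtain ⟨S, hS⟩ := hPR
  have hc : Commute (lin g⁻¹ ^ P.natDegree) (aeval (lin g) P.reverse) :=
    Commute.pow_left (by
      rw [aeval_eq_sum_range]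
      exact Commute.sum_right _ _ _ fun j _ => ((lin_comm g).symm.pow_right j).smul_right _) _
  rw [aeval_inv_eq, hc.mul_pow, hS, mul_comm R S, map_mul,
    ((Commute.all S R).map (aeval (lin g))).mul_pow, Module.End.mul_apply, Module.End.mul_apply, ha,
    map_zero, map_zero]

/-- The kernel and range of a large power are complementary. -/
theorem fitting (A : Module.End F V) {n : ℕ} (hn : finrank F V ≤ n) :
    IsCompl (LinearMap.ker (A ^ n)) (LinearMap.range (A ^ n)) := by
  have hd : Disjoint (LinearMap.ker (A ^ n)) (LinearMap.range (A ^ n)) := by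
    refine Submodule.disjoint_def.2 fun x hx hx' => ?_
    obtain ⟨y, rfl⟩ := hx'
    have h2n : y ∈ LinearMap.ker (A ^ (n + n)) := by
      rw [LinearMap.mem_ker, pow_add, Module.End.mul_apply]; exact hx
    rw [Module.End.ker_pow_eq_ker_pow_finrank_of_le (by omega : finrank F V ≤ n + n),
      ← Module.End.ker_pow_eq_ker_pow_finrank_of_le hn] at h2n
    exact h2n
  refine ⟨hd, codisjoint_iff.2 (Submodule.eq_top_of_finrank_eq ?_)⟩
  have h1 := Submodule.finrank_sup_add_finrank_inf_eq (LinearMap.ker (A ^ n)) (LinearMap.range (A ^ n))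
  rw [hd.eq_bot, finrank_bot] at h1
  have h2 := LinearMap.finrank_range_add_finrank_ker (A ^ n)
  omega

/-- Restriction to an invariant subspace. -/
theorem exists_restrict (g : orth Q) (A : Submodule F V) (hA : ∀ x ∈ A, lin g x ∈ A) :
    ∃ a : orth (Q.comp A.subtype), ∀ x : A, ((a.1 x : A) : V) = g.1 x := by
  have hinj : Function.Injective ((lin g).restrict hA) := fun x y h =>
    Subtype.ext (g.1.injective (congrArg Subtype.val h))
  exact ⟨⟨LinearEquiv.ofBijective _ ⟨hinj, LinearMap.surjective_of_injective hinj⟩,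
    fun x => map_orth g (x : V)⟩, fun x => rfl⟩

theorem lin_restrict_pow {g : orth Q} {A : Submodule F V} {a : orth (Q.comp A.subtype)}
    (ha : ∀ x : A, ((a.1 x : A) : V) = g.1 x) (k : ℕ) (x : A) :
    (((lin a ^ k) x : A) : V) = (lin g ^ k) x := by
  induction k with
  | zero => rfl
  | succ k ih =>
    rw [pow_succ', pow_succ', Module.End.mul_apply, Module.End.mul_apply]
    exact (ha _).trans (congrArg g.1 ih)

theorem aeval_restrict {g : orth Q} {A : Submodule F V} {a : orth (Q.comp A.subtype)}
    (ha : ∀ x : A, ((a.1 x : A) : V) = g.1 x) (P : F[X]) (x : A) :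
    ((aeval (lin a) P x : A) : V) = aeval (lin g) P x := by
  induction P using Polynomial.induction_on' with
  | add P R hP hR => simp [hP, hR]
  | monomial k c => simp [aeval_monomial, Module.algebraMap_end_apply, lin_restrict_pow ha]

/-- An orthogonal invariant splitting writes an isometry as a sum. -/
theorem exists_split (hQ : Nd Q) (g : orth Q) {A B : Submodule F V} (h : IsCompl A B)
    (ho : ∀ a ∈ A, ∀ b ∈ B, polar Q a b = 0) (hA : ∀ x ∈ A, lin g x ∈ A)
    (hB : ∀ x ∈ B, lin g x ∈ B) :
    Nd (Q.comp A.subtype) ∧ Nd (Q.comp B.subtype) ∧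
    ∃ (e : (A × B) ≃ₗ[F] V) (he : ∀ x, Q (e x) = (Q.comp A.subtype).prod (Q.comp B.subtype) x)
      (a : orth (Q.comp A.subtype)) (b : orth (Q.comp B.subtype)),
      (∀ x, e x = (x.1 : V) + x.2) ∧
      (∀ x : A, ((a.1 x : A) : V) = g.1 x) ∧ (∀ x : B, ((b.1 x : B) : V) = g.1 x) ∧
      g = orthCongr e he (prodOrth _ _ (a, b)) := by
  refine ⟨nd_of_split hQ h.sup_eq_top ho, nd_of_split hQ (by rw [sup_comm]; exact h.sup_eq_top)
    fun b hb a ha => by rw [polar_comm]; exact ho a ha b hb, ?_⟩
  obtain ⟨e, he', he⟩ := exists_splitEquiv h ho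
  obtain ⟨a, ha⟩ := exists_restrict g A hA
  obtain ⟨b, hb⟩ := exists_restrict g B hB
  refine ⟨e, he, a, b, he', ha, hb, orth_ext fun y => ?_⟩
  obtain ⟨x, rfl⟩ := e.surjective y
  show g.1 (e x) = e ((prodOrth _ _ (a, b)).1 (e.symm (e x)))
  rw [e.symm_apply_apply, prodOrth_apply, he', he', ha, hb, map_add]

theorem split_facts [Finite V] (h2 : (2 : F) ≠ 0) {W : Type*} [AddCommGroup W] [Module F W]
    [FiniteDimensional F W] [Finite W] {R : QuadraticForm F W} {U : Type*} [AddCommGroup U]
    [Module F U] [FiniteDimensional F U] [Finite U] {S : QuadraticForm F U} (hR : Nd R) (hS : Nd S)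
    {e : (W × U) ≃ₗ[F] V} {he : ∀ x, Q (e x) = R.prod S x} {g : orth Q} {a : orth R} {b : orth S}
    (hg : g = orthCongr e he (prodOrth R S (a, b))) :
    orderOf g = Nat.lcm (orderOf a) (orderOf b) ∧ detHom Q g = detHom R a * detHom S b ∧
      theta Q g = theta R a * theta S b := by
  haveI := finite_space F (W × U)
  subst hg
  obtain ⟨h1, h1'⟩ := chars_prodOrth h2 hR hS a b
  obtain ⟨h3, h3'⟩ := detHom_theta_orthCongr h2 (nd_prod hR hS).reg e he (prodOrth R S (a, b))
  exact ⟨by rw [(orthCongr e he).orderOf_eq, orderOf_prodOrth], h3.trans h1, h3'.trans h1'⟩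

/-- The algebra map from `F[X]/(f)` for an annihilating polynomial. -/
theorem exists_hom {W : Type*} [AddCommGroup W] [Module F W] {T : Module.End F W} {f : F[X]}
    (h0 : aeval T f = 0) :
    ∃ φ : AdjoinRoot f →ₐ[F] Module.End F W, φ (AdjoinRoot.root f) = T := by
  let L := Algebra.adjoin F ({T} : Set (Module.End F W))
  let x : L := ⟨T, Algebra.self_mem_adjoin_singleton F T⟩
  have hx : f.eval₂ (Algebra.ofId F L : F →+* L) x = 0 := by
    show aeval x f = 0
    refine Subtype.ext ?_
    show L.val (aeval x f) = _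
    rw [← aeval_algHom_apply]
    exact h0
  refine ⟨L.val.comp (AdjoinRoot.liftAlgHom f (Algebra.ofId F L) x hx), ?_⟩
  show L.val (AdjoinRoot.liftAlgHom f (Algebra.ofId F L) x hx (AdjoinRoot.root f)) = T
  rw [AdjoinRoot.liftAlgHom_root]
  rfl

/-- An endomorphism killed by a power of an irreducible polynomial. -/
theorem primary_struct {f : F[X]} (hf : Irreducible f) :
    ∀ (n : ℕ) (W : Submodule F V) (T : Module.End F V), finrank F W ≤ n →
      (∀ x ∈ W, T x ∈ W) → (∀ x ∈ W, (aeval T f ^ finrank F V) x = 0) →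
      f.natDegree ∣ finrank F W ∧ ∀ x ∈ W, (aeval T f ^ (finrank F W / f.natDegree)) x = 0 := by
  intro n
  induction n using Nat.strong_induction_on with
  | _ n ih =>
    intro W T hn hW hnil
    have hd := hf.natDegree_pos
    set A := aeval T f with hA
    have hAW : ∀ x ∈ W, A x ∈ W := fun x hx =>
      PrimeOrderModule84.aeval_mem (PrimeOrderModule84.map_le_iff'.2 hW) f hx
    set W' := W.map A with hW'
    have hle : W' ≤ W := by rintro _ ⟨x, hx, rfl⟩; exact hAW x hx
    rcases eq_or_ne W ⊥ with hbot | hbot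
    · subst hbot
      simp
    have hlt : W' < W := by
      refine lt_of_le_of_ne hle fun he => hbot ?_
      have hk : ∀ k, W.map (A ^ k) = W := by
        intro k
        induction k with
        | zero => rw [pow_zero, Module.End.one_eq_id, Submodule.map_id]
        | succ k ihk => rw [pow_succ, Module.End.mul_eq_comp, Submodule.map_comp, ← hW', he, ihk]
      rw [← hk (finrank F V), Submodule.eq_bot_iff]
      rintro _ ⟨x, hx, rfl⟩
      exact hnil x hx
    have hlt' := Submodule.finrank_lt_finrank_of_lt hlt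
    obtain ⟨hdvd, hpow⟩ := ih (finrank F W') (by omega) W' T le_rfl (by
      rintro _ ⟨x, hx, rfl⟩
      refine ⟨T x, hW x hx, ?_⟩
      rw [hA]
      have := congrArg (fun P => aeval T P x) (mul_comm f X)
      simpa using this) (fun x hx => hnil x (hle hx))
    -- the kernel is a vector space over `F[X]/(f)`
    haveI := Fact.mk hf
    set K := W ⊓ LinearMap.ker A with hK
    have hKT : ∀ x ∈ K, T x ∈ K := fun x hx => ⟨hW x hx.1, by
      rw [SetLike.mem_coe, LinearMap.mem_ker, hA]
      have h1 : aeval T f * T = T * aeval T f := by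
        have := congrArg (aeval T) (mul_comm f X)
        rwa [map_mul, map_mul, aeval_X] at this
      rw [← Module.End.mul_apply, h1, Module.End.mul_apply, ← hA, LinearMap.mem_ker.1 hx.2, map_zero]⟩
    let TK : Module.End F K := T.restrict hKT
    have hres : ∀ (P : F[X]) (x : K), ((aeval TK P x : K) : V) = aeval T P x := by
      intro P x
      induction P using Polynomial.induction_on' with
      | add P R hP hR => simp [hP, hR]
      | monomial k c =>
        simp only [aeval_monomial, Module.End.mul_apply, Module.algebraMap_end_apply]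
        rw [Submodule.coe_smul]
        congr 1
        induction k with
        | zero => rfl
        | succ k ihk => rw [pow_succ', pow_succ', Module.End.mul_apply, Module.End.mul_apply, ← ihk]; rfl
    have hzero : aeval TK f = 0 := LinearMap.ext fun x => Subtype.ext (by
      rw [hres, ← hA]; exact LinearMap.mem_ker.1 x.2.2)
    obtain ⟨φa, -⟩ := exists_hom hzero
    let φ : AdjoinRoot f →+* Module.End F K := φa.toRingHom
    letI : Module (AdjoinRoot f) K := Module.compHom K φ
    haveI : IsScalarTower F (AdjoinRoot f) K := IsScalarTower.of_algebraMap_smul fun c x => by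
      show φ (algebraMap F (AdjoinRoot f) c) x = c • x
      rw [show φ (algebraMap F (AdjoinRoot f) c) = algebraMap F (Module.End F K) c from
        φa.commutes c, Module.algebraMap_end_apply]
    haveI : FiniteDimensional F (AdjoinRoot f) := (AdjoinRoot.powerBasis hf.ne_zero).finite
    haveI : Module.Finite (AdjoinRoot f) K := Module.Finite.of_restrictScalars_finite F _ _
    have hKd : f.natDegree ∣ finrank F K := by
      rw [← Module.finrank_mul_finrank F (AdjoinRoot f) K, (AdjoinRoot.powerBasis hf.ne_zero).finrank,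
        AdjoinRoot.powerBasis_dim]
      exact dvd_mul_right _ _
    have hsum : finrank F W' + finrank F K = finrank F W := by
      have h := LinearMap.finrank_range_add_finrank_ker (A.domRestrict W)
      rw [LinearMap.range_domRestrict, ← hW'] at h
      have hker : finrank F (LinearMap.ker (A.domRestrict W)) = finrank F K := by
        rw [LinearMap.ker_domRestrict, ← (Submodule.comapSubtypeEquivOfLe (inf_le_left : K ≤ W)).finrank_eq,
          Submodule.comap_inf, Submodule.comap_subtype_self, top_inf_eq]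
      omega
    refine ⟨hsum ▸ dvd_add hdvd hKd, fun x hx => ?_⟩
    have hK0 : f.natDegree ≤ finrank F K := Nat.le_of_dvd (by omega) hKd
    have hge : finrank F W' / f.natDegree + 1 ≤ finrank F W / f.natDegree := by
      rw [Nat.le_div_iff_mul_le hd, Nat.add_mul, Nat.div_mul_cancel hdvd, one_mul]
      omega
    obtain ⟨t, ht⟩ := Nat.exists_eq_add_of_le hge
    rw [ht, add_comm _ t, ← add_assoc, pow_succ, Module.End.mul_apply, pow_add, Module.End.mul_apply]
    rw [hpow _ ⟨x, hx, rfl⟩, map_zero]

/-- A single endomorphism killed by a power of an irreducible polynomial. -/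
theorem primary_top {f : F[X]} (hf : Irreducible f) (T : Module.End F V)
    (h : aeval T f ^ finrank F V = 0) :
    f.natDegree ∣ finrank F V ∧ aeval T f ^ (finrank F V / f.natDegree) = 0 := by
  obtain ⟨h1, h2⟩ := primary_struct hf (finrank F V) ⊤ T (Submodule.finrank_le _)
    (fun x _ => trivial) fun x _ => by rw [h]; rfl
  rw [finrank_top] at h1 h2
  exact ⟨h1, LinearMap.ext fun x => h2 x trivial⟩

theorem aeval_dvd_pow {T : Module.End F V} {f : F[X]} {L : ℕ} (hL : f ∣ X ^ L - 1) {n : ℕ}
    (h : aeval T f ^ n = 0) : (T ^ L - 1) ^ n = 0 := by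
  obtain ⟨r, hr⟩ := hL
  have : T ^ L - 1 = aeval T r * aeval T f := by
    rw [← map_mul, mul_comm, ← hr]; simp
  rw [this, ((Commute.all r f).map (aeval T)).mul_pow, h, mul_zero]

/-- If `f(T) = 0` with `f` irreducible, a power fixing a non-zero vector is trivial. -/
theorem semiregular {T : Module.End F V} {f : F[X]} (hf : Irreducible f) (h0 : aeval T f = 0)
    {k : ℕ} {v : V} (hv : v ≠ 0) (hk : (T ^ k) v = v) : T ^ k = 1 ∧ f ∣ X ^ k - 1 := by
  by_cases hd : f ∣ X ^ k - 1
  · obtain ⟨r, hr⟩ := hd
    refine ⟨sub_eq_zero.1 ?_, ⟨r, hr⟩⟩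
    rw [show T ^ k - 1 = aeval T (X ^ k - 1 : F[X]) by simp, hr, map_mul, h0, zero_mul]
  · exfalso
    obtain ⟨s, t, hst⟩ := (hf.coprime_iff_not_dvd).2 hd
    have := congrArg (fun P => aeval T P v) hst
    simp [h0, hk] at this
    exact hv this.symm

/-- The exponent of the torus of sign `σ`. -/
def tor (qq i : ℕ) (σ : ℤ) : ℕ := if σ = 1 then qq ^ i - 1 else qq ^ i + 1

theorem tor_plus (qq i : ℕ) : tor qq i 1 = qq ^ i - 1 := if_pos rfl

theorem tor_minus (qq i : ℕ) : tor qq i (-1) = qq ^ i + 1 := if_neg (by norm_num)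

theorem root_ne_zero {f : F[X]} [Fact (Irreducible f)] (hc : f.coeff 0 ≠ 0) :
    AdjoinRoot.root f ≠ 0 := fun h => by
  have h0 := AdjoinRoot.eval₂_root f
  rw [h, eval₂_at_zero] at h0
  exact hc ((AdjoinRoot.of f).injective (by rw [h0, map_zero]))

theorem dvd_iff_root {f : F[X]} (k : ℕ) : f ∣ X ^ k - 1 ↔ AdjoinRoot.root f ^ k = 1 := by
  rw [← AdjoinRoot.mk_eq_zero, map_sub, map_pow, map_one, AdjoinRoot.mk_X, sub_eq_zero]

theorem card_root {f : F[X]} (hf : Irreducible f) [Fintype (AdjoinRoot f)] :
    Fintype.card (AdjoinRoot f) = q ^ f.natDegree := by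
  haveI := Fact.mk hf
  haveI : FiniteDimensional F (AdjoinRoot f) := (AdjoinRoot.powerBasis hf.ne_zero).finite
  rw [Module.card_eq_pow_finrank (K := F), (AdjoinRoot.powerBasis hf.ne_zero).finrank,
    AdjoinRoot.powerBasis_dim]

theorem dvd_pair {f : F[X]} (hf : Irreducible f) (hc : f.coeff 0 ≠ 0) :
    f ∣ X ^ tor q f.natDegree 1 - 1 := by
  haveI := Fact.mk hf
  haveI : FiniteDimensional F (AdjoinRoot f) := (AdjoinRoot.powerBasis hf.ne_zero).finite
  haveI : Finite (AdjoinRoot f) := Module.finite_of_finite F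
  haveI := Fintype.ofFinite (AdjoinRoot f)
  rw [dvd_iff_root, tor_plus, ← card_root hf]
  exact FiniteField.pow_card_sub_one_eq_one _ (root_ne_zero hc)

/-- A self-reciprocal irreducible other than `X ∓ 1` has even degree `2i` and divides
`X ^ (q ^ i + 1) - 1`. -/
theorem self_recip {f : F[X]} (hf : Irreducible f) (hc : f.coeff 0 ≠ 0) (hrev : f ∣ f.reverse)
    (h1 : ¬ f ∣ X ^ 2 - 1) :
    ∃ i, 1 ≤ i ∧ f.natDegree = 2 * i ∧ f ∣ X ^ tor q i (-1) - 1 ∧
      ∀ k, f ∣ X ^ k - 1 → k ∣ 4 → i = 1 := by
  haveI := Fact.mk hf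
  haveI : FiniteDimensional F (AdjoinRoot f) := (AdjoinRoot.powerBasis hf.ne_zero).finite
  haveI : Finite (AdjoinRoot f) := Module.finite_of_finite F
  set K := AdjoinRoot f
  set r : K := AdjoinRoot.root f
  have hr0 : r ≠ 0 := root_ne_zero hc
  letI := invertibleOfNonzero (inv_ne_zero hr0)
  have hinv : aeval r⁻¹ f = 0 := by
    rw [aeval_def, ← eval₂_reverse_eq_zero_iff, invOf_eq_inv, inv_inv, ← aeval_def,
      AdjoinRoot.aeval_eq, AdjoinRoot.mk_eq_zero]
    exact hrev
  let pb := AdjoinRoot.powerBasis hf.ne_zero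
  have hmin : aeval r⁻¹ (minpoly F pb.gen) = 0 := by
    rw [AdjoinRoot.powerBasis_gen hf.ne_zero, AdjoinRoot.minpoly_root hf.ne_zero, map_mul, hinv,
      zero_mul]
  let s : K →ₐ[F] K := pb.lift r⁻¹ hmin
  have hs : s r = r⁻¹ := by
    show s (AdjoinRoot.root f) = _
    rw [← AdjoinRoot.powerBasis_gen hf.ne_zero]; exact pb.lift_gen _ _
  let τ : K ≃ₐ[F] K := AlgEquiv.ofBijective s
    ⟨s.toRingHom.injective, Finite.injective_iff_surjective.1 s.toRingHom.injective⟩
  let p := ringChar F
  haveI : Fact p.Prime := ⟨CharP.char_is_prime F p⟩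
  obtain ⟨j, hj⟩ := FiniteField.exists_forall_apply_eq_pow F p K τ
  have hj' : r ^ q ^ j = r⁻¹ := by rw [← Nat.card_eq_fintype_card, ← hj r]; exact hs
  have hj2 : r ^ q ^ (2 * j) = r := by
    rw [two_mul, pow_add, pow_mul, hj', inv_pow, hj', inv_inv]
  have hnat : ∀ n, f.natDegree ∣ n ↔ r ^ q ^ n = r := fun n => by
    rw [hf.natDegree_dvd_iff_dvd_X_pow_card_pow_sub_X, ← AdjoinRoot.mk_eq_zero, map_sub, map_pow,
      AdjoinRoot.mk_X, sub_eq_zero, Nat.card_eq_fintype_card]
  have hd2 : f.natDegree ∣ 2 * j := (hnat _).2 hj2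
  have hsq : r ^ 2 ≠ 1 := fun h => h1 ((dvd_iff_root 2).2 h)
  have hdj : ¬ f.natDegree ∣ j := fun h => hsq (by
    have := (hnat j).1 h
    rw [hj'] at this
    rw [pow_two]; nth_rw 1 [← this]; exact inv_mul_cancel₀ hr0)
  obtain ⟨i, hi⟩ : 2 ∣ f.natDegree := by
    by_contra h
    exact hdj ((Nat.prime_two.coprime_iff_not_dvd.2 h).symm.dvd_of_dvd_mul_left hd2)
  have hi0 : 1 ≤ i := by have := hf.natDegree_pos; omega
  have hri : r ^ q ^ i = r⁻¹ := by
    have hij : i ∣ j := by
      rw [hi] at hd2
      exact Nat.dvd_of_mul_dvd_mul_left two_pos hd2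
    obtain ⟨t, rfl⟩ := hij
    obtain ⟨u, rfl⟩ : ∃ u, t = 2 * u + 1 := by
      rcases Nat.even_or_odd t with ⟨u, hu⟩ | ho
      · exfalso; exact hdj ⟨u, by rw [hi, hu]; ring⟩
      · exact ho
    have hper : r ^ q ^ (2 * i * u) = r := (hnat _).1 ⟨u, by rw [hi]⟩
    rw [show i * (2 * u + 1) = 2 * i * u + i by ring, pow_add, pow_mul, hper] at hj'
    exact hj'
  refine ⟨i, hi0, hi, (dvd_iff_root _).2 (by rw [tor_minus, pow_succ, hri, inv_mul_cancel₀ hr0]),
    fun k hk hk4 => ?_⟩
  have h4 : r ^ 4 = 1 := by
    obtain ⟨t, ht⟩ := hk4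
    rw [ht, pow_mul, (dvd_iff_root k).1 hk, one_pow]
  have hq : q % 2 = 1 := by
    rcases Nat.mod_two_eq_zero_or_one q with h | h
    · exfalso
      have h2' : (2 : F) = 0 := by
        have := FiniteField.even_card_iff_char_two.2 h
        haveI : CharP F 2 := this ▸ ringChar.charP F
        exact CharTwo.two_eq_zero
      haveI : CharP K 2 := by
        haveI : CharP F 2 := (FiniteField.even_card_iff_char_two.2 h) ▸ ringChar.charP F
        exact charP_of_injective_algebraMap (algebraMap F K).injective 2
      apply hsq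
      have : (r ^ 2 - 1) ^ 2 = 0 := by
        rw [sub_pow_char, ← pow_mul, h4, one_pow, sub_self]
      exact sub_eq_zero.1 (eq_zero_of_pow_eq_zero this)
    · exact h
  have h24 : r ^ q ^ 2 = r := by
    obtain ⟨t, ht⟩ : ∃ t, q ^ 2 = 4 * t + 1 := by
      obtain ⟨u, hu⟩ : ∃ u, q = 2 * u + 1 := ⟨q / 2, by omega⟩
      exact ⟨u * u + u, by rw [hu]; ring⟩
    rw [ht, pow_succ, pow_mul, h4, one_pow, one_mul]
  have := Nat.le_of_dvd two_pos (hi ▸ (hnat 2).2 h24)
  omega

/-- A semiregular plane isometry with irreducible minimal polynomial has minus type. -/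
theorem plane_minus (g : orth Q) (hT : Typ Q 1 σ) {f : F[X]} (hf : Irreducible f)
    (hd : f.natDegree = 2) (h0 : aeval (lin g) f = 0) (h1 : ¬ f ∣ X ^ 2 - 1) : σ = -1 := by
  rcases hT.sign with rfl | h
  swap
  · exact h
  exfalso
  obtain ⟨N, hN⟩ := hT.prof
  obtain ⟨e, he⟩ := OrthTypeCount73.iso_plus_of_prof Q hT.nd hT.dim (by rwa [one_mul] at hN)
  set u := e.symm (Pi.single (Sum.inl 0) 1)
  have hu : Q u = 0 := by rw [← he, e.apply_symm_apply]; simp [Cfsg.quadFormPlus]
  have hu0 : u ≠ 0 := fun h => by
    have := congrArg e h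
    rw [e.apply_symm_apply, map_zero, Pi.single_eq_zero_iff] at this
    exact one_ne_zero this
  set w := g.1 u
  have hw : Q w = 0 := (map_orth g u).trans hu
  have hli : LinearIndependent F ![u, w] := by
    rw [LinearIndependent.pair_iff' hu0]
    intro c hcw
    have hc : aeval (lin g) (X - C c) u = 0 := by
      simp [aeval_X, Module.algebraMap_end_apply]
      exact sub_eq_zero.2 hcw.symm
    obtain ⟨s, t, hst⟩ := hf.coprime_iff_not_dvd.2 (fun hdv => by
      have := natDegree_le_of_dvd hdv (X_sub_C_ne_zero c)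
      rw [natDegree_X_sub_C, hd] at this; omega : ¬ f ∣ X - C c)
    have h := congrArg (fun P => aeval (lin g) P u) hst
    simp only [map_add, map_mul, LinearMap.add_apply, Module.End.mul_apply, hc, h0, map_zero,
      LinearMap.zero_apply, add_zero, map_one, Module.End.one_apply] at h
    exact hu0 h.symm
  have hspan : ∀ x, ∃ s t : F, s • u + t • w = x := fun x => by
    have hx : x ∈ Submodule.span F (Set.range ![u, w]) := by
      rw [hli.span_eq_top_of_card_eq_finrank (by simp [hT.dim])]; trivial
    rw [Matrix.range_cons, Matrix.range_cons, Matrix.range_empty, Set.union_empty,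
      Set.singleton_union, Submodule.mem_span_pair] at hx
    exact hx
  have hP : polar Q u w ≠ 0 := fun hP => hu0 (hT.nd.1 u fun z => by
    obtain ⟨s, t, rfl⟩ := hspan z
    simp [polar_add_right, polar_smul_right, polar_self_mul, hu, hP])
  obtain ⟨α, β, hαβ⟩ := hspan (g.1 w)
  have hgw : Q (g.1 w) = 0 := (map_orth g w).trans hw
  have h3 : polar Q w (g.1 w) = polar Q u w := polar_orth g u w
  rw [← hαβ] at hgw h3
  rw [QuadraticMap.map_add (⇑Q), QuadraticMap.map_smul, QuadraticMap.map_smul, hu, hw,
    polar_smul_left, polar_smul_right] at hgw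
  rw [polar_add_right, polar_smul_right, polar_smul_right, polar_self_mul, hw, polar_comm Q w u] at h3
  have hα : α = 1 := by
    simp at h3
    exact mul_right_cancel₀ hP (h3.trans (one_mul _).symm)
  have hβ : β = 0 := by
    simp [hα, hP] at hgw
    exact hgw
  rw [hα, hβ, one_smul, zero_smul, add_zero] at hαβ
  exact h1 (semiregular hf h0 (k := 2) hu0 (by
    rw [pow_two, Module.End.mul_apply]; exact hαβ.symm)).2

/-- The spinor sign of an element stabilising complementary totally singular subspaces. -/
theorem theta_lagr [DecidableEq F] [Finite V] (h2 : (2 : F) ≠ 0) (hQ : Nd Q) (g : orth Q)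
    {A B : Submodule F V} (hAB : IsCompl A B) (hA : ∀ x ∈ A, Q x = 0) (hB : ∀ x ∈ B, Q x = 0)
    (hgA : ∀ x ∈ A, lin g x ∈ A) (hgB : ∀ x ∈ B, lin g x ∈ B) :
    ((theta Q g : ℤˣ) : ℤ) = quadraticChar F (LinearMap.det ((lin g).restrict hgA)) := by
  classical
  set d := finrank F A
  let b : Basis (Fin d) F A := Module.finBasis F A
  -- the dual vectors
  have hpair : ∀ z : B, (∀ j, polar Q (b j : V) z = 0) → z = 0 := fun z hz => Subtype.ext (hQ.2 _
    fun x => by
      obtain ⟨x₁, h₁, x₂, h₂, rfl⟩ := Submodule.mem_sup.1 (hAB.sup_eq_top ▸ Submodule.mem_top (x := x))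
      rw [polarBilin_apply_apply, polar_add_left, OmegaClasses.polar_of_sing hB h₂ z.2, add_zero]
      have : ((⟨x₁, h₁⟩ : A) : V) = x₁ := rfl
      rw [← this, ← b.sum_repr ⟨x₁, h₁⟩, AddSubmonoidClass.coe_finset_sum, ← polarBilin_apply_apply,
        map_sum, LinearMap.sum_apply]
      exact Finset.sum_eq_zero fun j _ => by simp [hz j])
  let ℓ : B →ₗ[F] (Fin d → F) :=
    LinearMap.pi fun j => (polarBilin Q (b j : V)).comp B.subtype
  have hinj : Function.Injective ℓ := by
    rw [← LinearMap.ker_eq_bot, LinearMap.ker_eq_bot']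
    exact fun z hz => hpair z fun j => congrFun hz j
  have hBd : finrank F B = d := by
    have h1 := Submodule.finrank_add_eq_of_isCompl hAB
    have h3 := OmegaClasses.two_finrank_le hQ hA
    have h4 := OmegaClasses.two_finrank_le hQ hB
    omega
  let ℓe : B ≃ₗ[F] (Fin d → F) :=
    LinearEquiv.ofInjectiveOfFinrankEq ℓ hinj (by simp [hBd])
  let E : V ≃ₗ[F] (Fin d → F) × (Fin d → F) :=
    (Submodule.prodEquivOfIsCompl A B hAB).symm.trans (b.equivFun.prodCongr ℓe)
  let R : QuadraticForm F ((Fin d → F) × (Fin d → F)) :=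
    LinearMap.BilinMap.toQuadraticMap (LinearMap.mk₂ F (fun x y => x.1 ⬝ᵥ y.2)
      (fun a b c => add_dotProduct _ _ _) (fun c a b => smul_dotProduct _ _ _)
      (fun a b c => dotProduct_add _ _ _) (fun c a b => dotProduct_smul _ _ _))
  have hR : ∀ x, R x = x.1 ⬝ᵥ x.2 := fun x => rfl
  have hE : ∀ v, R (E v) = Q v := fun v => by
    obtain ⟨⟨x, y⟩, rfl⟩ := (Submodule.prodEquivOfIsCompl A B hAB).surjective v
    simp only [E, LinearEquiv.trans_apply, LinearEquiv.symm_apply_apply, hR]
    show b.equivFun x ⬝ᵥ ℓ y = Q ((x : V) + y)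
    rw [QuadraticMap.map_add (⇑Q), hA _ x.2, hB _ y.2, zero_add, zero_add]
    conv_rhs => rw [← b.sum_repr x, AddSubmonoidClass.coe_finset_sum, ← polarBilin_apply_apply,
      map_sum, LinearMap.sum_apply]
    refine Finset.sum_congr rfl fun j _ => ?_
    simp [ℓ, Module.Basis.equivFun_apply]
  have hRnd : Nd R := nd_map hQ E one_ne_zero fun v => by rw [hE, one_mul]
  haveI := finite_space F ((Fin d → F) × (Fin d → F))
  have hpol : ∀ x y, polar R x y = x.1 ⬝ᵥ y.2 + y.1 ⬝ᵥ x.2 := fun x y => by
    simp only [polar, hR, Prod.fst_add, Prod.snd_add, add_dotProduct, dotProduct_add]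
    ring
  -- the Levi subgroup
  let Ψ : GL (Fin d) F →* orth R :=
    { toFun := fun M => ⟨(Matrix.GeneralLinearGroup.toLin M).toLinearEquiv.prodCongr
        (Matrix.GeneralLinearGroup.toLin (Matrix.GeneralLinearGroup.mkOfDetNeZero
          ((M⁻¹ : GL (Fin d) F) : Matrix (Fin d) (Fin d) F).transpose (by
            rw [Matrix.det_transpose]; exact ((Matrix.isUnit_iff_isUnit_det _).1 (Units.isUnit _)).ne_zero))).toLinearEquiv,
        fun x => by
          rw [hR, hR]
          show ((M : Matrix (Fin d) (Fin d) F).mulVec x.1) ⬝ᵥ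
            (((M⁻¹ : GL (Fin d) F) : Matrix (Fin d) (Fin d) F).transpose.mulVec x.2) = _
          rw [Matrix.dotProduct_mulVec, Matrix.vecMul_transpose, Matrix.mulVec_mulVec, ← Units.val_mul,
            inv_mul_cancel, Units.val_one, Matrix.one_mulVec]⟩
      map_one' := orth_ext fun x => by
        show (((1 : GL (Fin d) F) : Matrix (Fin d) (Fin d) F).mulVec x.1,
          (((1 : GL (Fin d) F)⁻¹ : GL (Fin d) F) : Matrix (Fin d) (Fin d) F).transpose.mulVec x.2) = x
        simp
      map_mul' := fun M M' => orth_ext fun x => by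
        show (((M * M' : GL (Fin d) F) : Matrix (Fin d) (Fin d) F).mulVec x.1,
            (((M * M')⁻¹ : GL (Fin d) F) : Matrix (Fin d) (Fin d) F).transpose.mulVec x.2) =
          ((M : Matrix (Fin d) (Fin d) F).mulVec ((M' : Matrix (Fin d) (Fin d) F).mulVec x.1),
            ((M⁻¹ : GL (Fin d) F) : Matrix (Fin d) (Fin d) F).transpose.mulVec
              (((M'⁻¹ : GL (Fin d) F) : Matrix (Fin d) (Fin d) F).transpose.mulVec x.2))
        rw [mul_inv_rev, Units.val_mul, Units.val_mul, Matrix.transpose_mul, Matrix.mulVec_mulVec,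
          Matrix.mulVec_mulVec] }
  have hΨ : ∀ (M : GL (Fin d) F) x, (Ψ M).1 x = ((M : Matrix (Fin d) (Fin d) F).mulVec x.1,
      ((M⁻¹ : GL (Fin d) F) : Matrix (Fin d) (Fin d) F).transpose.mulVec x.2) := fun M x => rfl
  have hp2 : ringChar F ≠ 2 := ringChar_ne_two h2
  let χ : GL (Fin d) F →* ℤˣ := (theta R).comp Ψ
  have key : ∀ N : Matrix (Fin d) (Fin d) F, (hN : N.det ≠ 0) →
      ((χ (Matrix.GeneralLinearGroup.mkOfDetNeZero N hN) : ℤˣ) : ℤ) = quadraticChar F N.det := by
    intro N hN
    refine Matrix.diagonal_transvection_induction_of_det_ne_zero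
      (fun N => ∀ hN : N.det ≠ 0, ((χ (Matrix.GeneralLinearGroup.mkOfDetNeZero N hN) : ℤˣ) : ℤ) =
        quadraticChar F N.det) N hN ?_ ?_ ?_ hN
    · intro D _ hD
      have hD' : ∀ j, D j ≠ 0 := fun j hj => hD (by
        rw [Matrix.det_diagonal]; exact Finset.prod_eq_zero (Finset.mem_univ j) hj)
      let dg : (Fin d → Fˣ) →* GL (Fin d) F :=
        { toFun := fun u => ⟨Matrix.diagonal fun j => (u j : F), Matrix.diagonal fun j => ((u j)⁻¹ : Fˣ),
            by simp, by simp⟩
          map_one' := Units.ext (by simp)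
          map_mul' := fun u v => Units.ext (by simp) }
      let u : Fin d → Fˣ := fun j => Units.mk0 (D j) (hD' j)
      have hu : Matrix.GeneralLinearGroup.mkOfDetNeZero (Matrix.diagonal D) hD = dg u :=
        Units.ext rfl
      have hone : ∀ (j : Fin d) (c : Fˣ),
          ((χ (dg (Pi.mulSingle j c)) : ℤˣ) : ℤ) = quadraticChar F (c : F) := by
        intro j c
        set e : (Fin d → F) × (Fin d → F) := (Pi.single j 1, 0)
        set f : (Fin d → F) × (Fin d → F) := (0, Pi.single j 1)
        have he : R e = 0 := by simp [hR, e]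
        have hf' : R f = 0 := by simp [hR, f]
        have hef : polar R e f = 1 := by simp [hpol, e, f]
        obtain ⟨hns, hprod, hact⟩ := OmegaClasses.scale_apply he hf' hef c.ne_zero
        have heq : Ψ (dg (Pi.mulSingle j c)) =
            OmegaClasses.rprod R [e - f, e - (c : F) • f] := orth_ext fun x => by
          rw [hΨ, hact, hpol, hpol]
          refine Prod.ext (funext fun k => ?_) (funext fun k => ?_)
          · simp [dg, e, f, Matrix.mulVec_diagonal]
            by_cases hk : k = j
            · subst hk; simp; ring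
            · simp [Pi.mulSingle, Pi.single_apply, Function.update, hk]
          · simp [dg, e, f, Matrix.mulVec_diagonal]
            by_cases hk : k = j
            · subst hk; simp; ring
            · simp [Pi.mulSingle, Pi.single_apply, Function.update, hk]
        have hne1 : R (e - f) ≠ 0 := hns.head
        have hne2 : R (e - (c : F) • f) ≠ 0 := hns.tail.head
        show ((theta R (Ψ (dg (Pi.mulSingle j c))) : ℤˣ) : ℤ) = _
        rw [heq, OmegaClasses.rprod_cons hne1, OmegaClasses.rprod_singleton hne2, map_mul,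
          theta_refl h2, theta_refl h2]
        simp only [List.map_cons, List.map_nil, List.prod_cons, List.prod_nil, mul_one] at hprod
        conv_rhs => rw [← hprod, map_mul]
        split_ifs with hs1 hs2 hs2
        · rw [(quadraticChar_one_iff_isSquare hne1).2 hs1, (quadraticChar_one_iff_isSquare hne2).2 hs2]
          rfl
        · rw [(quadraticChar_one_iff_isSquare hne1).2 hs1, quadraticChar_neg_one_iff_not_isSquare.2 hs2]
          rfl
        · rw [quadraticChar_neg_one_iff_not_isSquare.2 hs1, (quadraticChar_one_iff_isSquare hne2).2 hs2]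
          rfl
        · rw [quadraticChar_neg_one_iff_not_isSquare.2 hs1, quadraticChar_neg_one_iff_not_isSquare.2 hs2]
          rfl
      rw [hu]
      show (((χ.comp dg) u : ℤˣ) : ℤ) = _
      rw [← Finset.univ_prod_mulSingle u, map_prod, Units.coe_prod]
      simp only [MonoidHom.comp_apply]
      rw [Finset.prod_congr rfl fun j _ => hone j (u j), ← map_prod, Matrix.det_diagonal]
      rfl
    · intro t hN
      have h1 : (Matrix.GeneralLinearGroup.mkOfDetNeZero t.toMatrix hN) ^ ringChar F = 1 := by
        refine Units.ext ?_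
        rw [Units.val_pow_eq_pow_val, Units.val_one]
        show t.toMatrix ^ ringChar F = 1
        have hpow : ∀ k : ℕ, t.toMatrix ^ k = Matrix.transvection t.i t.j ((k : F) * t.c) := by
          intro k
          induction k with
          | zero => simp [Matrix.transvection]
          | succ k ih =>
            rw [pow_succ, ih, Matrix.TransvectionStruct.toMatrix,
              Matrix.transvection_mul_transvection_same _ _ t.hij]
            push_cast; rw [add_mul, one_mul]
        rw [hpow, CharP.cast_eq_zero, zero_mul, Matrix.transvection_zero]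
      have hodd : Odd (ringChar F) :=
        (CharP.char_is_prime F (ringChar F)).odd_of_ne_two hp2
      have h2' := congrArg χ h1
      rw [map_pow, map_one] at h2'
      obtain ⟨k, hk⟩ := hodd
      rw [hk, pow_succ, pow_mul, Int.units_sq, one_pow, one_mul] at h2'
      rw [h2', Matrix.TransvectionStruct.det, map_one]; rfl
    · intro M M' hM hM' ihM ihM' hMM'
      rw [show Matrix.GeneralLinearGroup.mkOfDetNeZero (M * M') hMM' =
          Matrix.GeneralLinearGroup.mkOfDetNeZero M hM * Matrix.GeneralLinearGroup.mkOfDetNeZero M' hM'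
          from Units.ext rfl, map_mul, Units.val_mul, ihM hM, ihM' hM', Matrix.det_mul, map_mul]
  -- identify the element
  set MA := LinearMap.toMatrix b b ((lin g).restrict hgA) with hMA
  have hdet : MA.det ≠ 0 := by
    rw [hMA, LinearMap.det_toMatrix]
    refine (LinearMap.isUnit_det _ ?_).ne_zero
    rw [Module.End.isUnit_iff]
    have hi : Function.Injective ((lin g).restrict hgA) := fun x y h =>
      Subtype.ext (g.1.injective (congrArg Subtype.val h))
    exact ⟨hi, LinearMap.surjective_of_injective hi⟩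
  set MG := Matrix.GeneralLinearGroup.mkOfDetNeZero MA hdet with hMG
  have hid : orthCongr E hE g = Ψ MG := orth_ext fun y => by
    obtain ⟨v, rfl⟩ := E.surjective y
    show E (g.1 (E.symm (E v))) = _
    rw [E.symm_apply_apply]
    obtain ⟨⟨x, z⟩, rfl⟩ := (Submodule.prodEquivOfIsCompl A B hAB).surjective v
    have hsplit : g.1 ((Submodule.prodEquivOfIsCompl A B hAB) (x, z)) =
        (Submodule.prodEquivOfIsCompl A B hAB) ((lin g).restrict hgA x, (lin g).restrict hgB z) :=
      g.1.map_add _ _
    rw [hsplit, hΨ]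
    simp only [E, LinearEquiv.trans_apply, LinearEquiv.symm_apply_apply, LinearEquiv.prodCongr_apply]
    refine Prod.ext ?_ ?_
    · show b.equivFun _ = MA.mulVec (b.equivFun x)
      rw [hMA, Module.Basis.equivFun_apply, Module.Basis.equivFun_apply]
      exact (LinearMap.toMatrix_mulVec_repr b b _ x).symm
    · have hkey : MA.transpose.mulVec (ℓ ((lin g).restrict hgB z)) = ℓ z := funext fun j => by
        show ∑ k, MA k j * polar Q (b k : V) (g.1 (z : V)) = polar Q (b j : V) z
        rw [← polar_orth g (b j : V) (z : V)]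
        conv_rhs => rw [show g.1 (b j : V) = (((lin g).restrict hgA (b j) : A) : V) from rfl,
          ← b.sum_repr ((lin g).restrict hgA (b j)), AddSubmonoidClass.coe_finset_sum,
          ← polarBilin_apply_apply, map_sum, LinearMap.sum_apply]
        refine Finset.sum_congr rfl fun k _ => ?_
        simp [hMA, LinearMap.toMatrix_apply]
      show ℓ _ = _
      conv_rhs => rw [show ℓe z = ℓ z from rfl, ← hkey, Matrix.mulVec_mulVec, ← Matrix.transpose_mul]
      rw [show MA = ((MG : GL (Fin d) F) : Matrix (Fin d) (Fin d) F) from rfl, ← Units.val_mul,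
        mul_inv_cancel, Units.val_one, Matrix.transpose_one, Matrix.one_mulVec]
  rw [← (detHom_theta_orthCongr h2 hQ.reg E hE g).2, hid]
  exact (key MA hdet).trans (by rw [hMA, LinearMap.det_toMatrix])

/-- The determinant of an endomorphism with irreducible annihilator of full degree. -/
theorem det_irred {W : Type*} [AddCommGroup W] [Module F W] [FiniteDimensional F W]
    {T : Module.End F W} {f : F[X]} (hf : Irreducible f) (h0 : aeval T f = 0)
    (hd : finrank F W = f.natDegree) (hsq : IsSquare (LinearMap.det T)) (hdet : LinearMap.det T ≠ 0)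
    (h2 : (2 : F) ≠ 0) : f ∣ X ^ ((q ^ f.natDegree - 1) / 2) - 1 := by
  haveI := Fact.mk hf
  haveI : FiniteDimensional F (AdjoinRoot f) := (AdjoinRoot.powerBasis hf.ne_zero).finite
  haveI : Finite (AdjoinRoot f) := Module.finite_of_finite F
  haveI := Fintype.ofFinite (AdjoinRoot f)
  set K := AdjoinRoot f
  obtain ⟨φ, hφr⟩ := exists_hom (T := T) h0
  haveI : Nontrivial W := Module.nontrivial_of_finrank_pos (R := F) (hd ▸ hf.natDegree_pos)
  obtain ⟨v, hv⟩ := exists_ne (0 : W)
  let ev : K →ₗ[F] W := (LinearMap.applyₗ v).comp φ.toLinearMap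
  have hev : ∀ x, ev x = φ x v := fun x => rfl
  have hinj : Function.Injective ev := by
    rw [← LinearMap.ker_eq_bot, LinearMap.ker_eq_bot']
    intro x hx
    by_contra hx0
    have h : φ (x⁻¹ * x) v = 0 := by rw [map_mul, Module.End.mul_apply]; rw [hev] at hx; rw [hx, map_zero]
    rw [inv_mul_cancel₀ hx0, map_one] at h
    exact hv h
  let E : K ≃ₗ[F] W := LinearEquiv.ofInjectiveOfFinrankEq ev hinj (by
    rw [(AdjoinRoot.powerBasis hf.ne_zero).finrank, AdjoinRoot.powerBasis_dim, hd])
  have hdetT : LinearMap.det T = Algebra.norm F (AdjoinRoot.root f) := by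
    rw [Algebra.norm_apply, ← LinearMap.det_conj (Algebra.lmul F K (AdjoinRoot.root f)) E]
    congr 1
    refine LinearMap.ext fun w => ?_
    obtain ⟨x, rfl⟩ := E.surjective w
    simp only [LinearMap.coe_comp, LinearEquiv.coe_coe, Function.comp_apply,
      LinearEquiv.symm_apply_apply]
    show T (ev x) = ev (AdjoinRoot.root f * x)
    rw [hev, hev, map_mul, Module.End.mul_apply]
    rw [hφr]
  rw [dvd_iff_root]
  have hc2 := ringChar_ne_two h2
  have hhalf : LinearMap.det T ^ (q / 2) = 1 := (FiniteField.isSquare_iff hc2 hdet).1 hsq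
  have h := congrArg (algebraMap F K) hhalf
  rw [map_pow, map_one, hdetT, FiniteField.algebraMap_norm_eq_pow, Nat.card_eq_fintype_card,
    Nat.card_eq_fintype_card, card_root hf, ← pow_mul] at h
  convert h using 2
  obtain ⟨k, hk⟩ := Nat.sub_dvd_pow_sub_pow q 1 f.natDegree
  rw [one_pow] at hk
  have hq1 : 0 < q - 1 := Nat.sub_pos_of_lt Fintype.one_lt_card
  have hodd := card_mod_two (F := F) h2
  rw [hk, Nat.mul_div_cancel_left _ hq1, show q - 1 = 2 * (q / 2) by omega, mul_assoc,
    Nat.mul_div_cancel_left _ two_pos, mul_comm]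

/-- One primary piece of an isometry without fixed vectors, split off orthogonally. -/
theorem exists_piece [Finite V] (h2 : (2 : F) ≠ 0) {p : ℕ} [Fact p.Prime] [CharP F p] (hQ : Nd Q)
    (g : orth Q) (hfix : ∀ v, g.1 v = v → v = 0)
    (hneg : (lin g + 1) ^ finrank F V ≠ 0) :
    ∃ (A B : Submodule F V) (a : orth (Q.comp A.subtype)) (b : orth (Q.comp B.subtype))
      (i m : ℕ) (σ : ℤ), (σ = 1 ∨ σ = -1) ∧
      IsCompl A B ∧ (∀ x ∈ A, ∀ y ∈ B, polar Q x y = 0) ∧
      (∃ (e : (A × B) ≃ₗ[F] V) (he : ∀ x, Q (e x) = (Q.comp A.subtype).prod (Q.comp B.subtype) x),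
        g = orthCongr e he (prodOrth _ _ (a, b))) ∧
      (∀ v, b.1 v = v → v = 0) ∧ 1 ≤ i ∧ 1 ≤ m ∧ finrank F A = 2 * (i * m) ∧
      (∀ j, m ≤ p ^ j → orderOf a ∣ p ^ j * tor q i σ) ∧
      (m = 1 → Typ (Q.comp A.subtype) i σ ∧
        (σ = 1 → theta (Q.comp A.subtype) a = 1 → orderOf a ∣ (q ^ i - 1) / 2)) := by
  classical
  set T := lin g with hT
  set n := finrank F V with hn
  -- a factor of the minimal polynomial
  have hint : IsIntegral F T := Algebra.IsIntegral.isIntegral T
  obtain ⟨f, hfm, hf, hfd, hf1⟩ : ∃ f : F[X], f.Monic ∧ Irreducible f ∧ f ∣ minpoly F T ∧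
      f ≠ X + 1 := by
    by_contra hno
    push Not at hno
    apply hneg
    have hall : ∀ f ∈ UniqueFactorizationMonoid.normalizedFactors (minpoly F T), f = X + 1 := by
      intro f hf
      have hirr := UniqueFactorizationMonoid.irreducible_of_normalized_factor f hf
      have hmon : f.Monic := by
        rw [← UniqueFactorizationMonoid.normalize_normalized_factor f hf]
        exact monic_normalize hirr.ne_zero
      exact hno f hmon hirr (UniqueFactorizationMonoid.dvd_of_mem_normalizedFactors hf)
    set s := UniqueFactorizationMonoid.normalizedFactors (minpoly F T)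
    have hs : s = Multiset.replicate s.card (X + 1) := Multiset.eq_replicate_card.2 hall
    have ha := UniqueFactorizationMonoid.prod_normalizedFactors (minpoly.ne_zero hint)
    change Associated s.prod _ at ha
    rw [hs, Multiset.prod_replicate] at ha
    have hdeg : s.card ≤ n := by
      have h1 := degree_eq_degree_of_associated ha
      have h4 : ((X + 1 : F[X]) ^ s.card).natDegree = s.card := by
        rw [natDegree_pow, ← map_one C, natDegree_X_add_C, mul_one]
      have h5 := natDegree_eq_of_degree_eq h1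
      rw [h4] at h5
      have h6 := natDegree_le_of_dvd (LinearMap.minpoly_dvd_charpoly T) T.charpoly_monic.ne_zero
      rw [LinearMap.charpoly_natDegree] at h6
      omega
    obtain ⟨u, hu⟩ := ha
    have h0 : aeval T ((X + 1 : F[X]) ^ s.card) = 0 := by
      obtain ⟨w, hw⟩ : minpoly F T ∣ (X + 1 : F[X]) ^ s.card := Associated.dvd (Associated.symm ⟨u, hu⟩)
      rw [hw, map_mul, minpoly.aeval, zero_mul]
    simp only [map_pow, map_add, aeval_X, map_one] at h0
    rw [← Nat.sub_add_cancel hdeg, pow_add, h0, mul_zero]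
  -- `f(T)` is singular
  obtain ⟨v0, hv0, hfv0⟩ : ∃ v, v ≠ 0 ∧ aeval T f v = 0 := by
    by_contra hno
    push Not at hno
    obtain ⟨c, hc⟩ := hfd
    have hc0 : c ≠ 0 := fun h => minpoly.ne_zero hint (by rw [hc, h, mul_zero])
    have h0 : aeval T c = 0 := LinearMap.ext fun v => by
      by_contra hv
      refine hno _ hv ?_
      rw [← Module.End.mul_apply, ← map_mul, ← hc, minpoly.aeval]; rfl
    have := natDegree_le_of_dvd (minpoly.dvd F T h0) hc0
    rw [hc, natDegree_mul hf.ne_zero hc0] at this
    have := hf.natDegree_pos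
    omega
  have hgc : f.coeff 0 ≠ 0 := by
    intro hc
    have hX : X ∣ f := X_dvd_iff.2 hc
    have := eq_of_monic_of_associated monic_X hfm (irreducible_X.associated_of_dvd hf hX)
    rw [← this, aeval_X] at hfv0
    exact hv0 (g.1.injective (hfv0.trans (map_zero _).symm))
  have hsr : ¬ f ∣ X ^ 2 - 1 := by
    intro h
    have h12 : (X ^ 2 - 1 : F[X]) = (X - C 1) * (X + 1) := by rw [map_one]; ring
    rw [h12] at h
    rcases hf.prime.dvd_or_dvd h with h | h
    · have := eq_of_monic_of_associated hfm (monic_X_sub_C 1)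
        (hf.associated_of_dvd (irreducible_X_sub_C 1) h)
      rw [this, map_sub, aeval_X, aeval_C, map_one, LinearMap.sub_apply, Module.End.one_apply,
        sub_eq_zero] at hfv0
      exact hv0 (hfix _ hfv0)
    · refine hf1 (eq_of_monic_of_associated hfm (by rw [← map_one C]; exact monic_X_add_C 1)
        (hf.associated_of_dvd ?_ h))
      rw [← map_one C, ← sub_neg_eq_add, ← map_neg]
      exact irreducible_X_sub_C _
  have hrevdeg : f.reverse.natDegree = f.natDegree := by
    rw [reverse_natDegree, natTrailingDegree_eq_zero.2 (Or.inr hgc), Nat.sub_zero]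
  have hrevirr : Irreducible f.reverse := by
    have := SelfReciprocalFactors.mirror_irreducible hf
    rwa [Polynomial.mirror, natTrailingDegree_eq_zero.2 (Or.inr hgc), pow_zero, mul_one] at this
  have hrevrev : f.reverse.reverse = f := by
    have h := f.mirror_mirror
    rw [Polynomial.mirror, Polynomial.mirror, natTrailingDegree_eq_zero.2 (Or.inr hgc), pow_zero,
      mul_one, natTrailingDegree_eq_zero.2 (Or.inr (by
        rw [coeff_zero_reverse]; exact leadingCoeff_ne_zero.2 hf.ne_zero)), pow_zero, mul_one] at h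
    exact h
  -- the symmetric polynomial
  by_cases hself : f ∣ f.reverse
  · -- self-reciprocal
    obtain ⟨i, hi, hdi, hfL, hfour⟩ := self_recip hf hgc hself hsr
    set A := LinearMap.ker (aeval T f ^ n)
    set B := LinearMap.range (aeval T f ^ n)
    have hAB : IsCompl A B := fitting (aeval T f) le_rfl
    have hcom : ∀ x, aeval T f (T x) = T (aeval T f x) := fun x => by
      have := congrArg (fun P => aeval T P x) (mul_comm f X)
      simpa using this
    have hcomn : ∀ (k : ℕ) x, (aeval T f ^ k) (T x) = T ((aeval T f ^ k) x) := by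
      intro k
      induction k with
      | zero => intro x; rfl
      | succ k ih => intro x; rw [pow_succ, Module.End.mul_apply, hcom, ih, Module.End.mul_apply]
    have ho : ∀ x ∈ A, ∀ y ∈ B, polar Q x y = 0 := by
      rintro x hx _ ⟨z, rfl⟩
      rw [polar_comm, polar_aeval_pow, adj_zero g hself hx, polar_zero_right]
    have hA : ∀ x ∈ A, T x ∈ A := fun x hx => by
      rw [LinearMap.mem_ker, hcomn, LinearMap.mem_ker.1 hx, map_zero]
    have hB : ∀ x ∈ B, T x ∈ B := by
      rintro _ ⟨x, rfl⟩; exact ⟨T x, hcomn n x⟩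
    obtain ⟨hndA, hndB, e, he, a, b, -, ha, hb, hg⟩ := exists_split hQ g hAB ho hA hB
    have hnil : aeval (lin a) f ^ n = 0 := LinearMap.ext fun x => Subtype.ext (by
      rw [← map_pow, aeval_restrict ha, map_pow]; exact x.2)
    have hA0 : v0 ∈ A := by
      rw [LinearMap.mem_ker, ← Nat.sub_add_cancel (show 1 ≤ n from
        Module.finrank_pos_iff_exists_ne_zero.2 ⟨v0, hv0⟩), pow_succ, Module.End.mul_apply, hfv0,
        map_zero]
    have hApos : 0 < finrank F A :=
      Module.finrank_pos_iff_exists_ne_zero.2 ⟨⟨v0, hA0⟩, fun h => hv0 (congrArg Subtype.val h)⟩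
    obtain ⟨hdvd, hpow⟩ := primary_top hf (lin a) (by
      have hle : finrank F A ≤ n := Submodule.finrank_le A
      rw [← (LinearMap.ker_eq_top (f := aeval (lin a) f ^ finrank F A))]
      rw [← Module.End.ker_pow_eq_ker_pow_finrank_of_le hle, LinearMap.ker_eq_top, hnil])
    obtain ⟨m, hm⟩ := hdvd
    rw [hm, Nat.mul_div_cancel_left _ hf.natDegree_pos] at hpow
    have hord : ∀ j, m ≤ p ^ j → orderOf a ∣ p ^ j * tor q i (-1) := fun j hj => by
      refine orderOf_dvd_of_pow_eq_one (pow_eq_one_iff.2 ?_)
      rw [mul_comm, pow_mul]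
      exact pow_eq_one_of_unip (aeval_dvd_pow hfL hpow) hj
    refine ⟨A, B, a, b, i, m, -1, Or.inr rfl, hAB, ho, ⟨e, he, hg⟩, fun v hv => ?_, hi, ?_, ?_,
      hord, fun hm1 => ⟨?_, fun h => absurd h (by norm_num)⟩⟩
    · exact Subtype.ext (hfix v.1 ((hb v).symm.trans (congrArg Subtype.val hv)))
    · rcases Nat.eq_zero_or_pos m with h0 | h0
      · rw [h0, mul_zero] at hm; omega
      · exact h0
    · rw [hm, hdi]; ring
    · subst hm1
      rw [mul_one, hdi] at hm
      rw [pow_one] at hpow
      obtain ⟨σ, hTA⟩ := exists_typ (m := i) hndA hm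
      rcases hTA.sign with rfl | rfl
      · exfalso
        rcases Nat.lt_or_ge i 2 with hi1 | hi2
        · obtain rfl : i = 1 := by omega
          exact absurd (plane_minus a hTA hf hdi hpow hsr) (by norm_num)
        · have hdv : orderOf a ∣ q ^ i + 1 := by
            simpa [tor_minus] using hord 0 (by simp)
          have hfree : ∀ k : ℕ, ∀ v : A, v ≠ 0 → (a ^ k).1 v = v → a ^ k = 1 := fun k v hv h =>
            pow_eq_one_iff.2 (semiregular hf hpow hv (by rw [← lin_pow]; exact h)).1
          have h4 := dvd_four_of_free hTA hi a hfree hdv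
          haveI : Nontrivial A := Module.nontrivial_of_finrank_pos (R := F) hApos
          obtain ⟨w, hw⟩ := exists_ne (0 : A)
          have := hfour _ (semiregular hf hpow hw (by
            rw [← lin_pow, pow_orderOf_eq_one]; rfl)).2 h4
          omega
      · exact hTA
  · -- a pair
    set i := f.natDegree with hi
    have hfL := dvd_pair hf hgc
    have hrc : f.reverse.coeff 0 ≠ 0 := by
      rw [coeff_zero_reverse]; exact leadingCoeff_ne_zero.2 hf.ne_zero
    have hrL := dvd_pair hrevirr hrc
    rw [hrevdeg] at hrL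
    have hcop : IsCoprime f f.reverse := hf.coprime_iff_not_dvd.2 hself
    set P := f * f.reverse with hP
    have hPrev : P ∣ P.reverse := by
      rw [hP, reverse_mul_of_domain, hrevrev, mul_comm]
    set A := LinearMap.ker (aeval T P ^ n)
    set B := LinearMap.range (aeval T P ^ n)
    have hAB : IsCompl A B := fitting (aeval T P) le_rfl
    have hcomn : ∀ (R : F[X]) (k : ℕ) x, (aeval T R ^ k) (T x) = T ((aeval T R ^ k) x) := fun R k x => by
      have := congrArg (fun S => aeval T S x) (mul_comm (R ^ k) X)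
      simpa using this
    have ho : ∀ x ∈ A, ∀ y ∈ B, polar Q x y = 0 := by
      rintro x hx _ ⟨z, rfl⟩
      rw [polar_comm, polar_aeval_pow, adj_zero g hPrev hx, polar_zero_right]
    have hA : ∀ x ∈ A, T x ∈ A := fun x hx => by
      rw [LinearMap.mem_ker, hcomn, LinearMap.mem_ker.1 hx, map_zero]
    have hB : ∀ x ∈ B, T x ∈ B := by
      rintro _ ⟨x, rfl⟩; exact ⟨T x, hcomn P n x⟩
    obtain ⟨hndA, hndB, e, he, a, b, -, ha, hb, hg⟩ := exists_split hQ g hAB ho hA hB
    haveI := finite_space F A
    have hkA : ∀ x : A, (aeval (lin a) P ^ n) x = 0 := fun x => Subtype.ext (by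
      rw [← map_pow, aeval_restrict ha, map_pow]; exact x.2)
    set C := LinearMap.ker (aeval (lin a) f ^ n) with hC
    set D := LinearMap.ker (aeval (lin a) f.reverse ^ n) with hD
    obtain ⟨s, t, hst⟩ := hcop.pow (m := n) (n := n)
    have hbez : ∀ x : A, aeval (lin a) (s * f ^ n) x + aeval (lin a) (t * f.reverse ^ n) x = x :=
      fun x => by
        rw [← LinearMap.add_apply, ← map_add, hst, map_one]; rfl
    have hCD : IsCompl C D := by
      constructor
      · refine Submodule.disjoint_def.2 fun x hx hx' => ?_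
        rw [← hbez x, map_mul, map_mul, Module.End.mul_apply, Module.End.mul_apply, map_pow, map_pow,
          LinearMap.mem_ker.1 hx, LinearMap.mem_ker.1 hx', map_zero, map_zero, add_zero]
      · refine codisjoint_iff.2 (Submodule.eq_top_iff'.2 fun x => ?_)
        rw [← hbez x, add_comm]
        refine Submodule.add_mem_sup ?_ ?_
        · rw [LinearMap.mem_ker, ← map_pow, ← Module.End.mul_apply, ← map_mul,
            show f ^ n * (t * f.reverse ^ n) = t * P ^ n by rw [hP, mul_pow]; ring, map_mul,
            Module.End.mul_apply, map_pow, hkA, map_zero]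
        · rw [LinearMap.mem_ker, ← map_pow, ← Module.End.mul_apply, ← map_mul,
            show f.reverse ^ n * (s * f ^ n) = s * P ^ n by rw [hP, mul_pow]; ring, map_mul,
            Module.End.mul_apply, map_pow, hkA, map_zero]
    have hsing : ∀ {R R' : F[X]}, IsCoprime (R' ^ n) (R ^ n) → R' ∣ R.reverse →
        ∀ x y : A, (aeval (lin a) R' ^ n) x = 0 → (aeval (lin a) R' ^ n) y = 0 →
          polar (Q.comp A.subtype) x y = 0 := by
      intro R R' hco hR x y hx hy
      obtain ⟨s, t, hst⟩ := hco
      have hx' : x = (aeval (lin a) R ^ n) (aeval (lin a) t x) := by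
        have h := congrArg (fun S => aeval (lin a) S x) hst
        rw [map_add, LinearMap.add_apply, map_mul, Module.End.mul_apply, map_pow, hx, map_zero,
          zero_add, mul_comm t, map_mul, Module.End.mul_apply, map_one, map_pow] at h
        exact h.symm
      rw [hx', polar_aeval_pow, adj_zero a hR hy, polar_zero_right]
    have hpolQ : ∀ x : A, polar (Q.comp A.subtype) x x = 0 → Q.comp A.subtype x = 0 := fun x h => by
      rw [polar_self_mul] at h
      exact (mul_eq_zero.1 h).resolve_left h2
    have hCs : ∀ x ∈ C, Q.comp A.subtype x = 0 := fun x hx => hpolQ x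
      (hsing (R := f.reverse) hcop.pow (by rw [hrevrev]) x x hx hx)
    have hDs : ∀ x ∈ D, Q.comp A.subtype x = 0 := fun x hx => hpolQ x
      (hsing (R := f) hcop.pow.symm dvd_rfl x x hx hx)
    have hdims := Submodule.finrank_add_eq_of_isCompl hCD
    have hC2 := OmegaClasses.two_finrank_le hndA hCs
    have hD2 := OmegaClasses.two_finrank_le hndA hDs
    have haC : ∀ (R : F[X]), ∀ x ∈ LinearMap.ker (aeval (lin a) R ^ n),
        lin a x ∈ LinearMap.ker (aeval (lin a) R ^ n) := fun R x hx => by
      rw [LinearMap.mem_ker]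
      have := congrArg (fun S => aeval (lin a) S x) (mul_comm (R ^ n) X)
      simp [LinearMap.mem_ker.1 hx] at this
      exact this
    have hA0 : v0 ∈ A := by
      rw [LinearMap.mem_ker, ← Nat.sub_add_cancel (show 1 ≤ n from
        Module.finrank_pos_iff_exists_ne_zero.2 ⟨v0, hv0⟩), pow_succ, Module.End.mul_apply, hP,
        mul_comm f, map_mul, Module.End.mul_apply, hfv0, map_zero, map_zero]
    have hv0C : (⟨v0, hA0⟩ : A) ∈ C := by
      rw [LinearMap.mem_ker, ← map_pow]
      refine Subtype.ext ?_
      rw [aeval_restrict ha, ← Nat.sub_add_cancel (show 1 ≤ n from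
        Module.finrank_pos_iff_exists_ne_zero.2 ⟨v0, hv0⟩), pow_succ, map_mul, Module.End.mul_apply,
        hfv0, map_zero]
      rfl
    have hCpos : 0 < finrank F C := Module.finrank_pos_iff_exists_ne_zero.2
      ⟨⟨_, hv0C⟩, fun h => hv0 (congrArg (fun z : C => ((z : A) : V)) h)⟩
    have hAle : finrank F A ≤ n := Submodule.finrank_le A
    have hprim : ∀ {R : F[X]}, Irreducible R → R.natDegree = i →
        finrank F (LinearMap.ker (aeval (lin a) R ^ n)) = finrank F C →
        i ∣ finrank F C ∧ ∀ x ∈ LinearMap.ker (aeval (lin a) R ^ n),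
          (aeval (lin a) R ^ (finrank F C / i)) x = 0 := by
      intro R hR hRd hRC
      have h := primary_struct hR _ (LinearMap.ker (aeval (lin a) R ^ n)) (lin a) le_rfl (haC R)
        fun x hx => by
          have := Module.End.ker_pow_eq_ker_pow_finrank_of_le (f := aeval (lin a) R) hAle
          rw [this] at hx; exact hx
      rwa [hRd, hRC] at h
    obtain ⟨hdvd, hpC⟩ := hprim hf rfl rfl
    obtain ⟨-, hpD⟩ := hprim hrevirr hrevdeg (by show finrank F D = _; omega)
    obtain ⟨m, hm⟩ := hdvd
    rw [hm, Nat.mul_div_cancel_left _ hf.natDegree_pos] at hpC hpD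
    have hm1 : 1 ≤ m := by
      rcases Nat.eq_zero_or_pos m with h0 | h0
      · rw [h0, mul_zero] at hm; omega
      · exact h0
    have hdimA : finrank F A = 2 * (i * m) := by rw [← hm]; omega
    have hord : ∀ j, m ≤ p ^ j → orderOf a ∣ p ^ j * tor q i 1 := fun j hj => by
      refine orderOf_dvd_of_pow_eq_one (pow_eq_one_iff.2 ?_)
      rw [mul_comm, pow_mul]
      refine pow_eq_one_of_unip (n := m) (LinearMap.ext fun x => ?_) hj
      obtain ⟨x1, h1, x2, h2', rfl⟩ := Submodule.mem_sup.1 (hCD.sup_eq_top ▸ Submodule.mem_top (x := x))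
      have hz : ∀ {R : F[X]}, R ∣ X ^ tor q i 1 - 1 → ∀ x, (aeval (lin a) R ^ m) x = 0 →
          ((lin a ^ tor q i 1 - 1) ^ m) x = 0 := by
        rintro R ⟨r, hr⟩ x hx
        have : lin a ^ tor q i 1 - 1 = aeval (lin a) r * aeval (lin a) R := by
          rw [← map_mul, mul_comm, ← hr]; simp
        rw [this, ((Commute.all r R).map (aeval (lin a))).mul_pow, Module.End.mul_apply, hx, map_zero]
      rw [map_add, hz hfL x1 (hpC x1 h1), hz hrL x2 (hpD x2 h2'), add_zero]; rfl
    refine ⟨A, B, a, b, i, m, 1, Or.inl rfl, hAB, ho, ⟨e, he, hg⟩, fun v hv => ?_, hf.natDegree_pos,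
      hm1, hdimA, hord, fun hm' => ?_⟩
    · exact Subtype.ext (hfix v.1 ((hb v).symm.trans (congrArg Subtype.val hv)))
    subst hm'
    rw [mul_one] at hm hdimA
    refine ⟨typ_plus_of_lagr hndA hdimA hCs hm, fun _ hθ => ?_⟩
    have hth := theta_lagr h2 hndA a hCD hCs hDs (haC f) (haC f.reverse)
    rw [hθ, Units.val_one, eq_comm] at hth
    set TC := (lin a).restrict (haC f)
    have hres : ∀ (S : F[X]) (x : C), ((aeval TC S x : C) : A) = aeval (lin a) S x := fun S x =>
      OrthSemisimpleSpinor.aeval_restrict (haC f) S x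
    have h0 : aeval TC f = 0 := LinearMap.ext fun x => Subtype.ext (by
      rw [hres]; simpa using hpC x x.2)
    have hdne : LinearMap.det TC ≠ 0 := by
      intro hd
      rw [hd] at hth
      simp at hth
    have hhalf := det_irred hf h0 hm ((quadraticChar_one_iff_isSquare hdne).1 hth) hdne h2
    rw [← hi] at hhalf
    refine orderOf_dvd_of_pow_eq_one (pow_eq_one_iff.2 ?_)
    set L := (q ^ i - 1) / 2
    have hLC : ∀ x ∈ C, (lin a ^ L) x = x := by
      intro x hx
      obtain ⟨r, hr⟩ := hhalf
      have : lin a ^ L - 1 = aeval (lin a) r * aeval (lin a) f := by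
        rw [← map_mul, mul_comm, ← hr]; simp
      have hx' : aeval (lin a) f x = 0 := by simpa using hpC x hx
      have h := congrArg (fun S : Module.End F A => S x) this
      rw [LinearMap.sub_apply, Module.End.one_apply, Module.End.mul_apply, hx', map_zero, sub_eq_zero] at h
      exact h
    have hfix' : ∀ y ∈ D, (lin a ^ L) y = y := by
      intro y hy
      rw [← sub_eq_zero]
      set w := (lin a ^ L) y - y
      have hyD : (lin a ^ L) y ∈ D := by
        have : ∀ k, (lin a ^ k) y ∈ D := by
          intro k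
          induction k with
          | zero => exact hy
          | succ k ih => rw [pow_succ', Module.End.mul_apply]; exact haC _ _ ih
        exact this L
      have hwD : w ∈ D := D.sub_mem hyD hy
      refine hndA.1 w fun z => ?_
      obtain ⟨z1, h1, z2, h2', rfl⟩ := Submodule.mem_sup.1 (hCD.sup_eq_top ▸ Submodule.mem_top (x := z))
      rw [polarBilin_apply_apply, polar_add_right, OmegaClasses.polar_of_sing hDs hwD h2', add_zero]
      have h3 := polar_orth (a ^ L) y z1
      change polar _ (lin (a ^ L) y) (lin (a ^ L) z1) = _ at h3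
      rw [lin_pow, hLC z1 h1] at h3
      show polar _ ((lin a ^ L) y - y) z1 = 0
      rw [polar_sub_left, h3, sub_self]
    refine LinearMap.ext fun x => ?_
    obtain ⟨x1, h1, x2, h2', rfl⟩ := Submodule.mem_sup.1 (hCD.sup_eq_top ▸ Submodule.mem_top (x := x))
    rw [map_add, hLC x1 h1, hfix' x2 h2']; rfl

/-- A unipotent isometry of an even-dimensional space has no block of full size. -/
theorem unip_even (h2 : (2 : F) ≠ 0) (hQ : Nd Q) (g : orth Q) {k : ℕ}
    (hdim : finrank F V = 2 * k + 2) (hu : (lin g - 1) ^ (2 * k + 2) = 0) :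
    (lin g - 1) ^ (2 * k + 1) = 0 := by
  set N := lin g - 1 with hN
  have hfix : ∀ z, (N ^ (2 * k + 2)) z = 0 := fun z => by rw [hu]; rfl
  have hadj : ∀ (j : ℕ) (x y : V), polar Q ((N ^ j) x) y = polar Q x ((((-1 : Module.End F V) * lin g⁻¹) ^ j) ((N ^ j) y)) := by
    intro j x y
    have hN' : lin g⁻¹ - 1 = (-1 : Module.End F V) * lin g⁻¹ * N := by
      rw [hN, neg_one_mul, neg_mul, mul_sub, lin_inv_mul, mul_one, neg_sub]
    have hc : Commute ((-1 : Module.End F V) * lin g⁻¹) N := by
      rw [hN]
      exact (Commute.neg_one_left _).mul_left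
        (((lin_comm g).symm).sub_right (Commute.one_right _))
    have hP : aeval (lin g) ((X - 1 : F[X]) ^ j) = N ^ j := by simp [hN]
    have hP' : aeval (lin g⁻¹) ((X - 1 : F[X]) ^ j) = (lin g⁻¹ - 1) ^ j := by simp
    rw [← hP, polar_aeval, hP', hN', hc.mul_pow, Module.End.mul_apply, hP]
  by_contra hne
  obtain ⟨w, hw⟩ : ∃ w, (N ^ (2 * k + 1)) w ≠ 0 := by
    by_contra h
    push Not at h
    exact hne (LinearMap.ext fun z => by simpa using h z)
  set z0 := (N ^ (2 * k + 1)) w with hz0
  have hgz : g.1 z0 = z0 := by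
    have h1 : N z0 = 0 := by rw [hz0, ← Module.End.mul_apply, ← pow_succ']; exact hfix w
    rw [hN, LinearMap.sub_apply, Module.End.one_apply, sub_eq_zero] at h1
    exact h1
  have hgi : lin g⁻¹ z0 = z0 := by
    conv_lhs => rw [← hgz]
    exact congrArg (fun T : Module.End F V => T z0) (lin_inv_mul g)
  have hpw : ∀ j, ((((-1 : Module.End F V) * lin g⁻¹) ^ j)) z0 = (-1 : F) ^ j • z0 := by
    intro j
    induction j with
    | zero => simp
    | succ j ih =>
      rw [pow_succ', Module.End.mul_apply, ih, map_smul]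
      simp [hgi, pow_succ]
  -- `z0` is orthogonal to the range of `N`
  have hperp : ∀ x, polar Q z0 (N x) = 0 := fun x => by
    rw [polar_comm]
    have h := hadj 1 x z0
    rw [pow_one, pow_one, show N z0 = 0 from by
      show N ((N ^ (2 * k + 1)) w) = 0
      rw [← Module.End.mul_apply, ← pow_succ']; exact hfix w, map_zero, polar_zero_right] at h
    exact h
  have hself : polar Q z0 w = 0 := by
    have h := hadj (2 * k + 1) w w
    rw [← hz0, hpw, polar_smul_right, (Odd.neg_one_pow ⟨k, rfl⟩ : (-1 : F) ^ (2 * k + 1) = -1),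
      polar_comm Q w z0, neg_one_smul] at h
    have : (2 : F) * polar Q z0 w = 0 := by linear_combination h
    exact (mul_eq_zero.1 this).resolve_left h2
  -- cyclic vector
  have hgen : ∀ y, ∃ c : F, ∃ x, y = c • w + N x := by
    intro y
    have hwR : w ∉ LinearMap.range N := by
      rintro ⟨x, rfl⟩
      apply hw
      show (N ^ (2 * k + 1)) (N x) = 0
      rw [← Module.End.mul_apply, ← pow_succ]
      exact hfix x
    have hker : finrank F (LinearMap.ker N) ≤ 1 := by
      by_contra hlt
      push Not at hlt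
      have hgrow : ∀ j, j ≤ 2 * k + 1 → finrank F (LinearMap.ker (N ^ (j + 1))) ≥ j + 2 := by
        intro j
        induction j with
        | zero => intro _; rw [zero_add, pow_one]; omega
        | succ j ih =>
          intro hj
          have h1 := ih (by omega)
          have hlt' : LinearMap.ker (N ^ (j + 1)) < LinearMap.ker (N ^ (j + 1 + 1)) := by
            refine lt_of_le_of_ne (fun z hz => ?_) fun he => hw ?_
            · rw [LinearMap.mem_ker] at hz ⊢
              rw [pow_succ', Module.End.mul_apply, hz, map_zero]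
            · have hstable : ∀ t, LinearMap.ker (N ^ (j + 1 + t)) = LinearMap.ker (N ^ (j + 1)) := by
                intro t
                induction t with
                | zero => rfl
                | succ t iht =>
                  ext z
                  rw [← add_assoc, LinearMap.mem_ker, pow_succ, Module.End.mul_apply, ← LinearMap.mem_ker,
                    iht, LinearMap.mem_ker, ← Module.End.mul_apply, ← pow_succ, ← LinearMap.mem_ker, ← he]
              have := hstable (2 * k + 1 - j)
              rw [show j + 1 + (2 * k + 1 - j) = 2 * k + 2 by omega, hu, LinearMap.ker_zero] at this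
              obtain ⟨t, ht⟩ : ∃ t, 2 * k + 1 = j + 1 + t := ⟨2 * k - j, by omega⟩
              rw [← LinearMap.mem_ker, ht, hstable t, ← this]; trivial
          have := Submodule.finrank_lt_finrank_of_lt hlt'
          omega
      have := hgrow (2 * k + 1) le_rfl
      have := Submodule.finrank_le (LinearMap.ker (N ^ (2 * k + 1 + 1)))
      omega
    have hsup : Submodule.span F {w} ⊔ LinearMap.range N = ⊤ := by
      refine Submodule.eq_top_of_finrank_eq ?_
      have h1 := LinearMap.finrank_range_add_finrank_ker N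
      have hlt : LinearMap.range N < Submodule.span F {w} ⊔ LinearMap.range N :=
        lt_of_le_of_ne le_sup_right fun h => hwR (h ▸ Submodule.mem_sup_left
          (Submodule.mem_span_singleton_self w))
      have := Submodule.finrank_lt_finrank_of_lt hlt
      have := Submodule.finrank_le (Submodule.span F {w} ⊔ LinearMap.range N)
      omega
    obtain ⟨x1, h1, x2, ⟨x, rfl⟩, rfl⟩ := Submodule.mem_sup.1 (hsup ▸ Submodule.mem_top (x := y))
    obtain ⟨c, rfl⟩ := Submodule.mem_span_singleton.1 h1
    exact ⟨c, x, rfl⟩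
  refine hw (hQ.1 z0 fun y => ?_)
  obtain ⟨c, x, rfl⟩ := hgen y
  rw [polarBilin_apply_apply, polar_add_right, polar_smul_right, hself, hperp, smul_zero, add_zero]

end Cfsg.Agent.Spectrum85Peel
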