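import Mathlib
import Cfsg.Agent.Lib.Spectrum85Peel

/-!
Bounds on the orders of isometries without fixed vectors in dimensions two to eight.
-/

set_option autoImplicit false
set_option linter.unusedSectionVars false
set_option linter.style.haveILetI false

namespace Cfsg.Agent.Spectrum85Bounds

open QuadraticMap Module
open Cfsg.Agent.OrthUnitaryQuad
open Cfsg.Agent.OrthUnitaryRefl
open Cfsg.Agent.OrthUnitaryOmega
open Cfsg.Agent.OrthUnitaryCentre
open Cfsg.Agent.Spectrum85Core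
open Cfsg.Agent.Spectrum85Models
open Cfsg.Agent.Spectrum85Peel

variable {F : Type*} [Field F] [Fintype F]
variable {V : Type*} [AddCommGroup V] [Module F V] [FiniteDimensional F V]
variable {Q : QuadraticForm F V} {p m i k : ℕ} {σ : ℤ}

local notation "q" => Fintype.card F

theorem odd_card (h2 : (2 : F) ≠ 0) : Odd q := Nat.odd_iff.2 (card_mod_two h2)

theorem char_ge (h2 : (2 : F) ≠ 0) [Fact p.Prime] [CharP F p] : 3 ≤ p ∧ Odd p ∧ (p = 3 ∨ p = 5 ∨ 7 ≤ p) := by
  have hp := (Fact.out : p.Prime)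
  have hp2 : p ≠ 2 := by
    rintro rfl
    exact h2 CharTwo.two_eq_zero
  have h4 : p ≠ 4 := by rintro rfl; exact absurd hp (by decide)
  have h6 : p ≠ 6 := by rintro rfl; exact absurd hp (by decide)
  have := hp.two_le
  exact ⟨by omega, hp.odd_of_ne_two hp2, by omega⟩

theorem two_dvd_tor (h2 : (2 : F) ≠ 0) (i : ℕ) (σ : ℤ) : 2 ∣ tor q i σ := by
  rw [tor]
  split_ifs
  · exact even_iff_two_dvd.1 (Nat.Odd.sub_odd ((odd_card h2).pow) odd_one)
  · exact even_iff_two_dvd.1 (((odd_card h2).pow).add_one)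

theorem tor_one_dvd_sq (hσ : σ = 1 ∨ σ = -1) : tor q 1 σ ∣ q ^ 2 - 1 := by
  have h := Nat.sq_sub_sq q 1
  rw [one_pow] at h
  rcases hσ with rfl | rfl
  · rw [tor_plus, pow_one, h]; exact dvd_mul_left _ _
  · rw [tor_minus, pow_one, h]; exact dvd_mul_right _ _

theorem four_eq : q ^ 4 - 1 = (q ^ 2 + 1) * (q ^ 2 - 1) := by
  have h := Nat.sq_sub_sq (q ^ 2) 1
  rwa [one_pow, ← pow_mul] at h

theorem tor_two_dvd (h2 : (2 : F) ≠ 0) (hσ : σ = 1 ∨ σ = -1) : tor q 2 σ ∣ (q ^ 4 - 1) / 2 := by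
  have he : 2 ∣ q ^ 2 - 1 := by
    have := two_dvd_tor (F := F) h2 2 1; rwa [tor_plus] at this
  have he' : 2 ∣ q ^ 2 + 1 := by
    have := two_dvd_tor (F := F) h2 2 (-1); rwa [tor_minus] at this
  rcases hσ with rfl | rfl
  · rw [tor_plus, four_eq, mul_comm, Nat.mul_div_assoc _ he']; exact dvd_mul_right _ _
  · rw [tor_minus, four_eq, Nat.mul_div_assoc _ he]; exact dvd_mul_right _ _

theorem tor_one_dvd_half (h2 : (2 : F) ≠ 0) (hσ : σ = 1 ∨ σ = -1) :
    tor q 1 σ ∣ (q ^ 4 - 1) / 2 :=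
  (tor_one_dvd_sq hσ).trans (by rw [← tor_plus]; exact tor_two_dvd h2 (Or.inl rfl))

theorem tor_one_dvd_three (hσ : σ = 1 ∨ σ = -1) : tor q 1 σ ∣ tor q 3 σ := by
  rcases hσ with rfl | rfl
  · rw [tor_plus, tor_plus, pow_one]
    simpa using Nat.sub_dvd_pow_sub_pow q 1 3
  · rw [tor_minus, tor_minus, pow_one]
    have : Odd 3 := by decide
    simpa using this.nat_add_dvd_pow_add_pow q 1

theorem typ_zero (hQ : Nd Q) (h : finrank F V = 0) : Typ Q 0 1 :=
  typ_plus_of_lagr hQ (by omega) (U := ⊥) (fun u hu => by simp [(Submodule.mem_bot F).1 hu]) (finrank_bot F V)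

theorem eq_one_of_zero (h : finrank F V = 0) (g : orth Q) : g = 1 := by
  haveI : Subsingleton V := Module.finrank_zero_iff.1 h
  exact orth_ext fun x => Subsingleton.elim _ _

theorem step [Finite V] (h2 : (2 : F) ≠ 0) [Fact p.Prime] [CharP F p] (hQ : Nd Q) (g : orth Q)
    (hfix : ∀ v, g.1 v = v → v = 0) (hdim : finrank F V = 2 * k + 2) :
    (∀ j, 2 * k + 1 ≤ p ^ j → orderOf g ∣ 2 * p ^ j) ∨
    ∃ (B : Submodule F V) (b : orth (Q.comp B.subtype)) (i m l oa : ℕ) (σ : ℤ),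
      1 ≤ i ∧ 1 ≤ m ∧ i * m + l = k + 1 ∧ finrank F B = 2 * l ∧ Nd (Q.comp B.subtype) ∧
      (∀ v, b.1 v = v → v = 0) ∧ (σ = 1 ∨ σ = -1) ∧ orderOf g = Nat.lcm oa (orderOf b) ∧
      (∀ j, m ≤ p ^ j → oa ∣ p ^ j * tor q i σ) ∧
      (m = 1 → (∀ τ, Typ (Q.comp B.subtype) l τ → Typ Q (i + l) (σ * τ)) ∧
        (σ = 1 → l = 0 → theta Q g = 1 → orderOf g ∣ (q ^ i - 1) / 2)) := by
  by_cases hneg : (lin g + 1) ^ finrank F V = 0
  · left
    intro j hj
    set u := negOne Q * g with hu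
    have hlu : lin u = -lin g := by
      ext x; rfl
    have hu1 : lin u - 1 = -(lin g + 1) := by rw [hlu]; abel
    have hz : (lin u - 1) ^ (2 * k + 2) = 0 := by rw [hu1, neg_pow, ← hdim, hneg, mul_zero]
    have hpow := pow_eq_one_of_unip (p := p) (unip_even h2 hQ u hdim hz) hj
    refine orderOf_dvd_of_pow_eq_one (Spectrum85Peel.pow_eq_one_iff.2 ?_)
    rw [mul_comm, pow_mul]
    have hodd : Odd (p ^ j) := (char_ge (p := p) h2).2.1.pow
    have : lin g ^ p ^ j = -1 := by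
      rw [hlu, hodd.neg_pow] at hpow
      exact neg_eq_iff_eq_neg.1 hpow
    rw [this, neg_one_sq]
  · right
    obtain ⟨A, B, a, b, i, m, σ, hσ, hAB, ho, ⟨e, he, hg⟩, hbfix, hi, hm, hdA, hord, hone⟩ :=
      exists_piece (p := p) h2 hQ g hfix hneg
    haveI := finite_space F A
    haveI := finite_space F B
    have hA := nd_of_split hQ hAB.sup_eq_top ho
    have hB := nd_of_split hQ (by rw [sup_comm]; exact hAB.sup_eq_top) fun b hb a ha => by
      rw [polar_comm]; exact ho a ha b hb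
    obtain ⟨hordg, -, hθ⟩ := split_facts h2 hA hB hg
    have hsum := Submodule.finrank_add_eq_of_isCompl hAB
    refine ⟨B, b, i, m, k + 1 - i * m, orderOf a, σ, hi, hm, by omega, by omega, hB, hbfix, hσ,
      hordg, hord, fun hm1 => ?_⟩
    obtain ⟨hTA, hth⟩ := hone hm1
    refine ⟨fun τ hτ => (hTA.prod hτ).map e he, fun h1 hl hθg => ?_⟩
    have hb1 : b = 1 := eq_one_of_zero (by omega) b
    rw [hb1, map_one, mul_one, hθg] at hθ
    rw [hordg, hb1, orderOf_one, Nat.lcm_one_right]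
    exact hth h1 hθ.symm

theorem cases_one (h : i * m = 1) : i = 1 ∧ m = 1 := mul_eq_one.1 h

theorem cases_prime {c : ℕ} (hc : c.Prime) (h : i * m = c) :
    (i = 1 ∧ m = c) ∨ (i = c ∧ m = 1) := by
  rcases (Nat.dvd_prime hc).1 ⟨m, h.symm⟩ with rfl | rfl
  · exact Or.inl ⟨rfl, by simpa using h⟩
  · exact Or.inr ⟨rfl, mul_left_cancel₀ hc.ne_zero (h.trans (mul_one _).symm)⟩

theorem good2 [Finite V] (h2 : (2 : F) ≠ 0) [Fact p.Prime] [CharP F p] (hQ : Nd Q) (g : orth Q)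
    (hfix : ∀ v, g.1 v = v → v = 0) (hdim : finrank F V = 2) :
    ∃ σ, Typ Q 1 σ ∧ orderOf g ∣ tor q 1 σ := by
  rcases step (k := 0) (p := p) h2 hQ g hfix hdim with h | ⟨B, b, i, m, l, oa, σ, hi, hm, hsum, hB, hBn, -, -, ho, hoa, hone⟩
  · obtain ⟨σ, hT⟩ := exists_typ (m := 1) hQ hdim
    exact ⟨σ, hT, (h 0 (by simp)).trans (by simpa using two_dvd_tor h2 1 σ)⟩
  · have him : i * m = 1 := by
      have : 0 < i * m := Nat.mul_pos hi hm
      omega
    obtain ⟨rfl, rfl⟩ := cases_one him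
    obtain rfl : l = 0 := by omega
    refine ⟨σ, by simpa using (hone rfl).1 1 (typ_zero hBn hB), ?_⟩
    rw [ho, eq_one_of_zero hB b, orderOf_one, Nat.lcm_one_right]
    simpa using hoa 0 (by simp)

theorem good4 [Finite V] (h2 : (2 : F) ≠ 0) [Fact p.Prime] [CharP F p] (hQ : Nd Q) (g : orth Q)
    (hfix : ∀ v, g.1 v = v → v = 0) (hdim : finrank F V = 4) :
    ∃ σ, (σ = 1 ∨ σ = -1) ∧ (orderOf g ∣ tor q 2 σ ∨ orderOf g ∣ p * tor q 1 σ) := by
  have hp := (char_ge (p := p) (F := F) h2).1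
  rcases step (k := 1) (p := p) h2 hQ g hfix hdim with h | ⟨B, b, i, m, l, oa, σ, hi, hm, hsum, hB, hBn, hbf, hσ, ho, hoa, -⟩
  · refine ⟨1, Or.inl rfl, Or.inr ((h 1 (by rw [pow_one]; omega)).trans ?_)⟩
    rw [pow_one, mul_comm]
    exact Nat.mul_dvd_mul_left p (two_dvd_tor h2 1 1)
  · have : 0 < i * m := Nat.mul_pos hi hm
    rcases (show i * m = 1 ∨ i * m = 2 by omega) with him | him
    · obtain ⟨rfl, rfl⟩ := cases_one him
      haveI := finite_space F B
      obtain ⟨τ, hTB, hb⟩ := good2 (p := p) h2 hBn b hbf (by omega)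
      refine ⟨1, Or.inl rfl, Or.inl ?_⟩
      rw [ho, tor_plus]
      exact Nat.lcm_dvd ((by simpa using hoa 0 (by simp) : oa ∣ tor q 1 σ).trans (tor_one_dvd_sq hσ))
        (hb.trans (tor_one_dvd_sq hTB.sign))
    · refine ⟨σ, hσ, ?_⟩
      rw [ho, eq_one_of_zero (by omega) b, orderOf_one, Nat.lcm_one_right]
      rcases cases_prime Nat.prime_two him with ⟨rfl, rfl⟩ | ⟨rfl, rfl⟩
      · right; simpa using hoa 1 (by rw [pow_one]; omega)
      · left; simpa using hoa 0 (by simp)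

theorem good6 [Finite V] (h2 : (2 : F) ≠ 0) [Fact p.Prime] [CharP F p] (hQ : Nd Q) (g : orth Q)
    (hfix : ∀ v, g.1 v = v → v = 0) (hdim : finrank F V = 6) :
    (∃ σ, Typ Q 3 σ ∧ orderOf g ∣ tor q 3 σ) ∨ orderOf g ∣ (q ^ 4 - 1) / 2 ∨
      orderOf g ∣ p * (q ^ 2 - 1) ∨ (p = 3 ∧ orderOf g ∣ 18) := by
  obtain ⟨hp, -, hp3⟩ := char_ge (p := p) (F := F) h2
  have h2sq : 2 ∣ q ^ 2 - 1 := by
    have := two_dvd_tor (F := F) h2 2 1; rwa [tor_plus] at this
  rcases step (k := 2) (p := p) h2 hQ g hfix hdim with h | ⟨B, b, i, m, l, oa, σ, hi, hm, hsum, hB, hBn, hbf, hσ, ho, hoa, hone⟩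
  · by_cases hp' : p = 3
    · subst hp'
      exact Or.inr (Or.inr (Or.inr ⟨rfl, h 2 (by norm_num)⟩))
    · refine Or.inr (Or.inr (Or.inl ((h 1 (by rw [pow_one]; omega)).trans ?_)))
      rw [pow_one, mul_comm]
      exact Nat.mul_dvd_mul_left p h2sq
  · haveI := finite_space F B
    have : 0 < i * m := Nat.mul_pos hi hm
    rcases (show i * m = 1 ∨ i * m = 2 ∨ i * m = 3 by omega) with him | him | him
    · obtain ⟨rfl, rfl⟩ := cases_one him
      have ha : oa ∣ tor q 1 σ := by simpa using hoa 0 (by simp)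
      obtain ⟨τ, hτ, hb | hb⟩ := good4 (p := p) h2 hBn b hbf (by omega)
      · refine Or.inr (Or.inl ?_)
        rw [ho]
        exact Nat.lcm_dvd (ha.trans (tor_one_dvd_half h2 hσ)) (hb.trans (tor_two_dvd h2 hτ))
      · refine Or.inr (Or.inr (Or.inl ?_))
        rw [ho]
        exact Nat.lcm_dvd ((ha.trans (tor_one_dvd_sq hσ)).trans (dvd_mul_left _ _))
          (hb.trans (Nat.mul_dvd_mul_left p (tor_one_dvd_sq hτ)))
    · obtain ⟨τ, hTB, hb⟩ := good2 (p := p) h2 hBn b hbf (by omega)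
      rcases cases_prime Nat.prime_two him with ⟨rfl, rfl⟩ | ⟨rfl, rfl⟩
      · refine Or.inr (Or.inr (Or.inl ?_))
        have ha : oa ∣ p * tor q 1 σ := by simpa using hoa 1 (by rw [pow_one]; omega)
        rw [ho]
        exact Nat.lcm_dvd (ha.trans (Nat.mul_dvd_mul_left p (tor_one_dvd_sq hσ)))
          ((hb.trans (tor_one_dvd_sq hTB.sign)).trans (dvd_mul_left _ _))
      · refine Or.inr (Or.inl ?_)
        have ha : oa ∣ tor q 2 σ := by simpa using hoa 0 (by simp)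
        rw [ho]
        exact Nat.lcm_dvd (ha.trans (tor_two_dvd h2 hσ)) (hb.trans (tor_one_dvd_half h2 hTB.sign))
    · obtain rfl : l = 0 := by omega
      rw [ho, eq_one_of_zero (by omega) b, orderOf_one, Nat.lcm_one_right]
      rcases cases_prime Nat.prime_three him with ⟨rfl, rfl⟩ | ⟨rfl, rfl⟩
      · refine Or.inr (Or.inr (Or.inl ?_))
        have ha : oa ∣ p * tor q 1 σ := by simpa using hoa 1 (by rw [pow_one]; omega)
        exact ha.trans (Nat.mul_dvd_mul_left p (tor_one_dvd_sq hσ))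
      · refine Or.inl ⟨σ, ?_, by simpa using hoa 0 (by simp)⟩
        simpa using (hone rfl).1 1 (typ_zero hBn hB)

/-- The list of exponents in dimension eight. -/
def InList (F : Type*) [Fintype F] (p o : ℕ) : Prop :=
  o ∣ (Fintype.card F ^ 4 - 1) / 2 ∨
  (∃ σ : ℤ, (σ = 1 ∨ σ = -1) ∧ o ∣ tor (Fintype.card F) 3 σ) ∨
  (∃ σ : ℤ, (σ = 1 ∨ σ = -1) ∧
    o ∣ p * Nat.lcm (Fintype.card F ^ 2 + 1) (tor (Fintype.card F) 1 σ)) ∨
  o ∣ p * (Fintype.card F ^ 2 - 1) ∨
  (p = 3 ∧ ∃ σ : ℤ, (σ = 1 ∨ σ = -1) ∧ o ∣ 9 * tor (Fintype.card F) 1 σ) ∨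
  (p = 5 ∧ o ∣ 50)

theorem mixed {x y : ℕ} {τ : ℤ} (hσ : σ = 1 ∨ σ = -1) (hτ : τ = 1 ∨ τ = -1) (hx : x ∣ tor q 2 σ)
    (hy : y ∣ p * tor q 1 τ) : InList F p (Nat.lcm x y) := by
  rcases hσ with rfl | rfl
  · rw [tor_plus] at hx
    exact Or.inr (Or.inr (Or.inr (Or.inl (Nat.lcm_dvd (hx.trans (dvd_mul_left _ _))
      (hy.trans (Nat.mul_dvd_mul_left p (tor_one_dvd_sq hτ)))))))
  · rw [tor_minus] at hx
    exact Or.inr (Or.inr (Or.inl ⟨τ, hτ, Nat.lcm_dvd
      ((hx.trans (Nat.dvd_lcm_left _ _)).trans (dvd_mul_left _ _))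
      (hy.trans (Nat.mul_dvd_mul_left p (Nat.dvd_lcm_right _ _)))⟩))

theorem good8 [Finite V] (h2 : (2 : F) ≠ 0) [Fact p.Prime] [CharP F p] (hT : Typ Q 4 1) (g : orth Q)
    (hfix : ∀ v, g.1 v = v → v = 0) (hθ : theta Q g = 1) : InList F p (orderOf g) := by
  obtain ⟨hp, -, hp3⟩ := char_ge (p := p) (F := F) h2
  have h2sq : 2 ∣ q ^ 2 - 1 := by
    have := two_dvd_tor (F := F) h2 2 1; rwa [tor_plus] at this
  have hdim : finrank F V = 8 := hT.dim
  rcases step (k := 3) (p := p) h2 hT.nd g hfix hdim with h | ⟨B, b, i, m, l, oa, σ, hi, hm, hsum, hB, hBn, hbf, hσ, ho, hoa, hone⟩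
  · rcases hp3 with rfl | rfl | hp7
    · exact Or.inr (Or.inr (Or.inr (Or.inr (Or.inl ⟨rfl, 1, Or.inl rfl, (h 2 (by norm_num)).trans (by
        have := two_dvd_tor (F := F) h2 1 1
        rw [show 2 * 3 ^ 2 = 9 * 2 by norm_num]
        exact Nat.mul_dvd_mul_left 9 this)⟩))))
    · exact Or.inr (Or.inr (Or.inr (Or.inr (Or.inr ⟨rfl, h 2 (by norm_num)⟩))))
    · refine Or.inr (Or.inr (Or.inr (Or.inl ((h 1 (by rw [pow_one]; omega)).trans ?_))))
      rw [pow_one, mul_comm]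
      exact Nat.mul_dvd_mul_left p h2sq
  · haveI := finite_space F B
    have : 0 < i * m := Nat.mul_pos hi hm
    rcases (show i * m = 1 ∨ i * m = 2 ∨ i * m = 3 ∨ i * m = 4 by omega) with him | him | him | him
    · obtain ⟨rfl, rfl⟩ := cases_one him
      obtain rfl : l = 3 := by omega
      have ha : oa ∣ tor q 1 σ := by simpa using hoa 0 (by simp)
      rw [ho]
      rcases good6 (p := p) h2 hBn b hbf (by omega) with ⟨τ, hTB, hb⟩ | hb | hb | ⟨rfl, hb⟩
      · have hsign := (((hone rfl).1 τ hTB).unique hT).2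
        obtain rfl : τ = σ := by
          rcases hσ with rfl | rfl <;> rcases hTB.sign with rfl | rfl <;> simp_all
        exact Or.inr (Or.inl ⟨_, hσ, Nat.lcm_dvd (ha.trans (tor_one_dvd_three hσ)) hb⟩)
      · exact Or.inl (Nat.lcm_dvd (ha.trans (tor_one_dvd_half h2 hσ)) hb)
      · exact Or.inr (Or.inr (Or.inr (Or.inl (Nat.lcm_dvd
          ((ha.trans (tor_one_dvd_sq hσ)).trans (dvd_mul_left _ _)) hb))))
      · refine Or.inr (Or.inr (Or.inr (Or.inr (Or.inl ⟨rfl, σ, hσ, Nat.lcm_dvd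
          (ha.trans (dvd_mul_left _ _)) (hb.trans ?_)⟩))))
        rw [show (18 : ℕ) = 9 * 2 by norm_num]
        exact Nat.mul_dvd_mul_left 9 (two_dvd_tor h2 1 σ)
    · obtain rfl : l = 2 := by omega
      obtain ⟨τ, hτ, hb | hb⟩ := good4 (p := p) h2 hBn b hbf (by omega)
      · rw [ho]
        rcases cases_prime Nat.prime_two him with ⟨rfl, rfl⟩ | ⟨rfl, rfl⟩
        · have ha : oa ∣ p * tor q 1 σ := by simpa using hoa 1 (by rw [pow_one]; omega)
          rw [Nat.lcm_comm]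
          exact mixed hτ hσ hb ha
        · have ha : oa ∣ tor q 2 σ := by simpa using hoa 0 (by simp)
          exact Or.inl (Nat.lcm_dvd (ha.trans (tor_two_dvd h2 hσ)) (hb.trans (tor_two_dvd h2 hτ)))
      · rw [ho]
        rcases cases_prime Nat.prime_two him with ⟨rfl, rfl⟩ | ⟨rfl, rfl⟩
        · have ha : oa ∣ p * tor q 1 σ := by simpa using hoa 1 (by rw [pow_one]; omega)
          exact Or.inr (Or.inr (Or.inr (Or.inl (Nat.lcm_dvd
            (ha.trans (Nat.mul_dvd_mul_left p (tor_one_dvd_sq hσ)))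
            (hb.trans (Nat.mul_dvd_mul_left p (tor_one_dvd_sq hτ)))))))
        · exact mixed hσ hτ (by simpa using hoa 0 (by simp)) hb
    · obtain rfl : l = 1 := by omega
      obtain ⟨τ, hTB, hb⟩ := good2 (p := p) h2 hBn b hbf (by omega)
      rw [ho]
      rcases cases_prime Nat.prime_three him with ⟨rfl, rfl⟩ | ⟨rfl, rfl⟩
      · have ha : oa ∣ p * tor q 1 σ := by simpa using hoa 1 (by rw [pow_one]; omega)
        exact Or.inr (Or.inr (Or.inr (Or.inl (Nat.lcm_dvd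
          (ha.trans (Nat.mul_dvd_mul_left p (tor_one_dvd_sq hσ)))
          ((hb.trans (tor_one_dvd_sq hTB.sign)).trans (dvd_mul_left _ _))))))
      · have hsign := (((hone rfl).1 τ hTB).unique hT).2
        obtain rfl : τ = σ := by
          rcases hσ with rfl | rfl <;> rcases hTB.sign with rfl | rfl <;> simp_all
        exact Or.inr (Or.inl ⟨_, hσ, Nat.lcm_dvd (by simpa using hoa 0 (by simp))
          (hb.trans (tor_one_dvd_three hσ))⟩)
    · obtain rfl : l = 0 := by omega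
      have hb1 := eq_one_of_zero hB b
      rcases (show (i = 1 ∧ m = 4) ∨ (i = 2 ∧ m = 2) ∨ (i = 4 ∧ m = 1) by
        have : i ≤ 4 := by nlinarith
        interval_cases i <;> omega) with ⟨rfl, rfl⟩ | ⟨rfl, rfl⟩ | ⟨rfl, rfl⟩
      · rw [ho, hb1, orderOf_one, Nat.lcm_one_right]
        rcases hp3 with rfl | hp5
        · exact Or.inr (Or.inr (Or.inr (Or.inr (Or.inl ⟨rfl, σ, hσ, by simpa using hoa 2 (by norm_num)⟩))))
        · have ha : oa ∣ p * tor q 1 σ := by simpa using hoa 1 (by rw [pow_one]; omega)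
          exact Or.inr (Or.inr (Or.inr (Or.inl (ha.trans (Nat.mul_dvd_mul_left p (tor_one_dvd_sq hσ))))))
      · rw [ho, hb1, orderOf_one, Nat.lcm_one_right]
        have ha : oa ∣ p * tor q 2 σ := by simpa using hoa 1 (by rw [pow_one]; omega)
        rcases hσ with rfl | rfl
        · rw [tor_plus] at ha
          exact Or.inr (Or.inr (Or.inr (Or.inl ha)))
        · rw [tor_minus] at ha
          exact Or.inr (Or.inr (Or.inl ⟨1, Or.inl rfl,
            ha.trans (Nat.mul_dvd_mul_left p (Nat.dvd_lcm_left _ _))⟩))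
      · obtain ⟨htyp, hhalf⟩ := hone rfl
        have hsign := ((htyp 1 (typ_zero hBn hB)).unique hT).2
        exact Or.inl (hhalf (by simpa using hsign) rfl hθ)

end Cfsg.Agent.Spectrum85Bounds
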