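import Mathlib
import Cfsg.Agent.Lib.Spectrum85Bounds

/-!
Elements of the split extension of a minus space of dimension eight by its commutator orthogonal
group realising each exponent of the list.
-/

set_option autoImplicit false
set_option linter.unusedSectionVars false
set_option linter.style.haveILetI false

namespace Cfsg.Agent.Spectrum85Targets

open QuadraticMap Module
open Cfsg.Agent.OrthUnitaryQuad
open Cfsg.Agent.OrthUnitaryRefl
open Cfsg.Agent.OrthUnitaryOmega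
open Cfsg.Agent.OrthUnitaryCentre
open Cfsg.Agent.Spectrum85Core
open Cfsg.Agent.Spectrum85Models
open Cfsg.Agent.Spectrum85Peel
open Cfsg.Agent.Spectrum85Bounds

variable {F : Type*} [Field F] [Fintype F]
variable {V : Type*} [AddCommGroup V] [Module F V] [FiniteDimensional F V]
variable {Q : QuadraticForm F V} {p n : ℕ} {σ : ℤ}

local notation "q" => Fintype.card F

theorem of_model {W : Type*} [AddCommGroup W] [Module F W] [FiniteDimensional F W]
    {R : QuadraticForm F W} (hQ : Typ Q 4 (-1)) (hR : Typ R 4 (-1)) (h : HasOrd p R n) :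
    HasOrd p Q n := by
  obtain ⟨e, he⟩ := typ_iso hR hQ
  exact h.map e he

theorem p_dvd_q [Fact p.Prime] [CharP F p] : p ∣ q := by
  obtain ⟨n, -, hn⟩ := FiniteField.card F p
  rw [hn]
  exact dvd_pow_self p n.pos.ne'

theorem not_dvd_tor [Fact p.Prime] [CharP F p] {i : ℕ} (hi : 1 ≤ i) (σ : ℤ) : ¬ p ∣ tor q i σ := by
  have hp := (Fact.out : p.Prime)
  have hd : p ∣ q ^ i := (p_dvd_q (F := F) (p := p)).trans (dvd_pow_self _ (by omega))
  rw [tor]
  intro h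
  split_ifs at h
  · exact hp.not_dvd_one (by
      have := Nat.dvd_sub hd h
      rwa [Nat.sub_sub_self (Nat.one_le_pow _ _ Fintype.card_pos)] at this)
  · exact hp.not_dvd_one ((Nat.dvd_add_right hd).1 h)

theorem half_odd (h2 : (2 : F) ≠ 0) : q ^ 2 + 1 = 2 * ((q ^ 2 + 1) / 2) ∧ Odd ((q ^ 2 + 1) / 2) := by
  obtain ⟨u, hu⟩ := odd_card (F := F) h2
  have : q ^ 2 + 1 = 2 * (2 * (u * u + u) + 1) := by rw [hu]; ring
  rw [this, Nat.mul_div_cancel_left _ two_pos]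
  exact ⟨rfl, ⟨u * u + u, rfl⟩⟩

theorem negOne_prod {W : Type*} [AddCommGroup W] [Module F W] (R : QuadraticForm F W)
    [FiniteDimensional F W] :
    prodOrth Q R (negOne Q, negOne R) = negOne (Q.prod R) := orth_ext fun _ => rfl

/-- `-1` has spinor sign `-1` on a minus space of dimension four. -/
theorem negOne_four [Finite V] (h2 : (2 : F) ≠ 0) (hT : Typ Q 2 (-1)) :
    detHom Q (negOne Q) = 1 ∧ theta Q (negOne Q) = -1 := by
  classical
  obtain ⟨ι₁, _, Q₁, h₁⟩ := exists_space (F := F) (σ := 1) 1 (Or.inl rfl) (fun h => le_rfl)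
  obtain ⟨ι₂, _, Q₂, h₂⟩ := exists_space (F := F) (σ := -1) 1 (Or.inr rfl) (fun h => le_rfl)
  obtain ⟨e, he⟩ := typ_iso (by simpa using h₁.prod h₂ : Typ (Q₁.prod Q₂) 2 (-1)) hT
  haveI := finite_space F ((ι₁ → F) × (ι₂ → F))
  obtain ⟨hd1, ht1⟩ := negOne_plane h2 h₁
  obtain ⟨hd2, ht2⟩ := negOne_plane h2 h₂
  obtain ⟨hd, ht⟩ := chars_prodOrth h2 h₁.nd h₂.nd (negOne Q₁) (negOne Q₂)
  rw [negOne_prod] at hd ht
  obtain ⟨hd', ht'⟩ := detHom_theta_orthCongr h2 (nd_prod h₁.nd h₂.nd).reg e he (negOne _)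
  rw [orthCongr_negOne] at hd' ht'
  refine ⟨by rw [hd', hd, hd1, hd2, mul_one], Units.ext ?_⟩
  rw [ht', ht, Units.val_mul, ht1, ht2]
  rcases quadraticChar_dichotomy (F := F) (a := -1) (neg_ne_zero.2 one_ne_zero) with h | h <;>
    rw [h] <;> rfl

/-- Elements of either sign with the odd part of `q ^ 2 + 1` in their order. -/
theorem exists_half (h2 : (2 : F) ≠ 0) [Fact p.Prime] [CharP F p] :
    ∃ (T : Type) (_ : AddCommGroup T) (_ : Module F T) (_ : FiniteDimensional F T) (_ : Finite T)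
      (R : QuadraticForm F T), Typ R 2 (-1) ∧ ∀ t : ℤˣ, ∃ x : orth R, detHom R x = 1 ∧
        theta R x = t ∧ (q ^ 2 + 1) / 2 ∣ orderOf x ∧ ¬ p ∣ orderOf x := by
  obtain ⟨T, _, _, _, R, y, hT, hy, hoy⟩ := exists_torus_minus (F := F) (m := 2) h2 (by norm_num)
  haveI := finite_space F T
  haveI := finite_orth R
  obtain ⟨hhalf, hodd⟩ := half_odd (F := F) h2
  have hp := (Fact.out : p.Prime)
  have hnp : ¬ p ∣ q ^ 2 + 1 := by
    have := not_dvd_tor (F := F) (p := p) (i := 2) (by norm_num) (-1)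
    rwa [tor_minus] at this
  have hy2 : orderOf (y ^ 2) = (q ^ 2 + 1) / 2 := by
    rw [orderOf_pow' y two_ne_zero, hoy, Nat.gcd_eq_right ⟨_, hhalf⟩]
  have hsq : theta R (y ^ 2) = 1 := by rw [map_pow, Int.units_sq]
  obtain ⟨hnd, hnt⟩ := negOne_four h2 hT
  refine ⟨T, inferInstance, inferInstance, inferInstance, inferInstance, R, hT, fun t => ?_⟩
  rcases Int.units_eq_one_or t with rfl | rfl
  · refine ⟨y ^ 2, by rw [map_pow, hy, one_pow], hsq, hy2 ▸ dvd_rfl, fun h => hnp ?_⟩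
    rw [hy2] at h; exact h.trans (Nat.div_dvd_of_dvd ⟨_, hhalf⟩)
  · refine ⟨y ^ 2 * negOne R, by rw [map_mul, map_pow, hy, one_pow, hnd, mul_one],
      by rw [map_mul, hsq, hnt, one_mul], ?_, ?_⟩
    all_goals
      have hc : Commute (y ^ 2) (negOne R) := orth_ext fun x => by
        show (y ^ 2).1 (-x) = -((y ^ 2).1 x)
        rw [map_neg]
      have hn2 : negOne R ^ 2 = 1 := orth_ext fun x => by
        rw [pow_two, orth_mul_apply, negOne_apply, negOne_apply, neg_neg]; rfl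
    · have h := orderOf_pow_dvd (x := y ^ 2 * negOne R) 2
      rw [hc.mul_pow, hn2, mul_one, orderOf_pow' _ two_ne_zero, hy2,
        (Nat.coprime_two_right.2 hodd).gcd_eq_one, Nat.div_one] at h
      exact h
    · have h1 : (y ^ 2 * negOne R) ^ (q ^ 2 + 1) = 1 := by
        rw [hhalf, pow_mul, hc.mul_pow, hn2, mul_one, ← pow_mul, ← pow_mul, mul_comm 2 ((q ^ 2 + 1) / 2),
          ← mul_assoc, mul_comm 2, ← hy2, mul_assoc, ← pow_two, pow_mul]
        rw [← pow_mul, mul_comm (orderOf (y ^ 2)), pow_mul, ← pow_mul y, mul_comm, pow_mul]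
        rw [show (y ^ orderOf (y ^ 2)) ^ (2 ^ 2) = ((y ^ 2) ^ orderOf (y ^ 2)) ^ 2 by
          rw [← pow_mul, ← pow_mul, ← pow_mul]; ring_nf]
        rw [pow_orderOf_eq_one, one_pow]
      exact fun h => hnp (h.trans (orderOf_dvd_of_pow_eq_one h1))

theorem target_A (h2 : (2 : F) ≠ 0) [Fact p.Prime] [CharP F p] (hQ : Typ Q 4 (-1)) :
    HasOrd p Q ((q ^ 4 - 1) / 2) := by
  obtain ⟨S, _, _, _, R, y, hR, hy, hoy⟩ := exists_torus_plus (F := F) (m := 2) (by norm_num)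
  obtain ⟨T, _, _, _, _, R', hR', hx⟩ := exists_half (F := F) (p := p) h2
  haveI := finite_space F S
  haveI := finite_space F T
  obtain ⟨x, hxd, hxt, hxo, -⟩ := hx (theta R y)
  refine of_model hQ (by simpa using hR.prod hR') (HasOrd.of_mem
    (prodOrth_mem h2 hR.nd hR'.nd (hy.trans hxd.symm) hxt.symm) ?_)
  rw [orderOf_prodOrth]
  obtain ⟨hhalf, hodd⟩ := half_odd (F := F) h2
  have hcop : Nat.Coprime ((q ^ 2 + 1) / 2) (q ^ 2 - 1) := by
    refine Nat.coprime_of_dvd fun r hr h1 h2' => ?_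
    have hr1 : r ∣ q ^ 2 + 1 := h1.trans (Nat.div_dvd_of_dvd ⟨_, hhalf⟩)
    have := Nat.dvd_sub hr1 h2'
    rw [show q ^ 2 + 1 - (q ^ 2 - 1) = 2 by
      have := Nat.one_le_pow 2 q Fintype.card_pos; omega] at this
    rw [(Nat.prime_dvd_prime_iff_eq hr Nat.prime_two).1 this] at h1
    exact (Nat.not_even_iff_odd.2 hodd) (even_iff_two_dvd.2 h1)
  have e : (q ^ 4 - 1) / 2 = (q ^ 2 + 1) / 2 * (q ^ 2 - 1) := by
    rw [four_eq]; conv_lhs => rw [hhalf, mul_assoc, Nat.mul_div_cancel_left _ two_pos]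
  rw [e]
  exact hcop.mul_dvd_of_dvd_of_dvd (hxo.trans (Nat.dvd_lcm_right _ _))
    (hoy ▸ Nat.dvd_lcm_left _ _)

theorem exists_torus (h2 : (2 : F) ≠ 0) {i : ℕ} (hi : 1 ≤ i) (hσ : σ = 1 ∨ σ = -1) :
    ∃ (T : Type) (_ : AddCommGroup T) (_ : Module F T) (_ : FiniteDimensional F T)
      (R : QuadraticForm F T) (y : orth R),
      Typ R i σ ∧ detHom R y = 1 ∧ orderOf y = tor q i σ := by
  rcases hσ with rfl | rfl
  · obtain ⟨T, _, _, _, R, y, h1, h2, h3⟩ := exists_torus_plus (F := F) hi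
    exact ⟨T, inferInstance, inferInstance, inferInstance, R, y, h1, h2, by rw [h3, tor_plus]⟩
  · obtain ⟨T, _, _, _, R, y, h1, h2, h3⟩ := exists_torus_minus (F := F) h2 hi
    exact ⟨T, inferInstance, inferInstance, inferInstance, R, y, h1, h2, by rw [h3, tor_minus]⟩

theorem target_B (h2 : (2 : F) ≠ 0) [Fact p.Prime] [CharP F p] (hQ : Typ Q 4 (-1))
    (hσ : σ = 1 ∨ σ = -1) : HasOrd p Q (tor q 3 σ) := by
  obtain ⟨S, _, _, _, R, y, hR, hy, hoy⟩ := exists_torus (F := F) (i := 3) h2 (by norm_num) hσ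
  obtain ⟨ι, _, R', hR'⟩ := exists_space (F := F) (σ := -σ) 1 (by omega) (fun _ => le_rfl)
  haveI := finite_space F S
  obtain ⟨x, hxd, hxt, -⟩ := exists_sign (p := p) h2 hR'.nd (by rw [hR'.dim])
    (char_ge (F := F) h2).2.1 (theta R y)
  refine of_model hQ ?_ (HasOrd.of_mem
    (prodOrth_mem h2 hR.nd hR'.nd (hy.trans hxd.symm) hxt.symm) ?_)
  · have := hR.prod hR'
    rwa [show σ * -σ = -1 by rcases hσ with rfl | rfl <;> simp] at this
  · rw [orderOf_prodOrth]; exact hoy ▸ Nat.dvd_lcm_left _ _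

theorem not_dvd_lcm {p a b : ℕ} (hp : p.Prime) (ha : ¬ p ∣ a) (hb : ¬ p ∣ b) : ¬ p ∣ Nat.lcm a b :=
  fun h => ((hp.dvd_mul).1 (h.trans (Nat.lcm_dvd_mul a b))).elim ha hb

theorem target_C (h2 : (2 : F) ≠ 0) [Fact p.Prime] [CharP F p] (hQ : Typ Q 4 (-1))
    (hσ : σ = 1 ∨ σ = -1) : HasOrd p Q (p * Nat.lcm (q ^ 2 + 1) (tor q 1 σ)) := by
  have hp := (Fact.out : p.Prime)
  obtain ⟨S, _, _, _, R, z, hR, hz, hoz⟩ := exists_torus (F := F) (i := 1) h2 le_rfl hσ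
  obtain ⟨T, _, _, _, _, R', hR', hx⟩ := exists_half (F := F) (p := p) h2
  obtain ⟨ι, _, R₀, hR₀⟩ := exists_space (F := F) (σ := σ) 1 hσ (fun _ => le_rfl)
  haveI := finite_space F S
  haveI := finite_space F T
  haveI := finite_space F (T × S)
  obtain ⟨x, hxd, hxt, hxo, hxp⟩ := hx (theta R z)
  haveI : Nontrivial (ι → F) :=
    Module.nontrivial_of_finrank_pos (R := F) (by rw [hR₀.dim]; norm_num)
  obtain ⟨hd, ht⟩ := chars_prodOrth h2 hR'.nd hR.nd x z
  refine of_model hQ ?_ (HasOrd.of_gain (a := prodOrth R' R (x, z)) (b := (1 : orth R₀))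
    (c := Nat.lcm (orderOf x) (orderOf z)) (j := 0) h2 (nd_prod hR'.nd hR.nd) hR₀.nd
    (by rw [hd, hxd, hz, one_mul, map_one]) (by rw [ht, hxt, Int.units_mul_self, map_one])
    (one_pow _) (by simp) (by rw [orderOf_prodOrth, orderOf_one, Nat.lcm_one_right, pow_zero, mul_one])
    (not_dvd_lcm hp hxp (hoz ▸ not_dvd_tor le_rfl σ)) ?_)
  · have := (hR'.prod hR).prod hR₀
    rwa [show -1 * σ * σ = -1 by rcases hσ with rfl | rfl <;> simp] at this
  · rw [pow_zero, mul_one]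
    refine Nat.mul_dvd_mul_left p (Nat.lcm_dvd ?_ (hoz ▸ Nat.dvd_lcm_right _ _))
    obtain ⟨hhalf, hodd⟩ := half_odd (F := F) h2
    rw [hhalf]
    exact (Nat.coprime_two_left.2 hodd).mul_dvd_of_dvd_of_dvd
      (((two_dvd_tor h2 1 σ).trans hoz.symm.dvd).trans (Nat.dvd_lcm_right _ _))
      (hxo.trans (Nat.dvd_lcm_left _ _))

theorem target_C' (h2 : (2 : F) ≠ 0) [Fact p.Prime] [CharP F p] (hQ : Typ Q 4 (-1)) :
    HasOrd p Q (p * (q ^ 2 - 1)) := by
  have hp := (Fact.out : p.Prime)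
  obtain ⟨S, _, _, _, R, y, hR, hy, hoy⟩ := exists_torus (F := F) (i := 2) (σ := 1) h2 (by norm_num)
    (Or.inl rfl)
  obtain ⟨ι₁, _, R₁, hR₁⟩ := exists_space (F := F) (σ := 1) 1 (Or.inl rfl) (fun _ => le_rfl)
  obtain ⟨ι, _, R₀, hR₀⟩ := exists_space (F := F) (σ := -1) 1 (Or.inr rfl) (fun _ => le_rfl)
  haveI := finite_space F S
  haveI := finite_space F (S × (ι₁ → F))
  haveI : Nontrivial (ι → F) :=
    Module.nontrivial_of_finrank_pos (R := F) (by rw [hR₀.dim]; norm_num)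
  obtain ⟨x, hxd, hxt, hxp⟩ := exists_sign (p := p) h2 hR₁.nd (by rw [hR₁.dim])
    (char_ge (F := F) h2).2.1 (theta R y)
  obtain ⟨hd, ht⟩ := chars_prodOrth h2 hR.nd hR₁.nd y x
  refine of_model hQ (by simpa using (hR.prod hR₁).prod hR₀) (HasOrd.of_gain
    (a := prodOrth R R₁ (y, x)) (b := (1 : orth R₀))
    (c := Nat.lcm (orderOf y) (orderOf x)) (j := 0) h2 (nd_prod hR.nd hR₁.nd) hR₀.nd
    (by rw [hd, hxd, hy, one_mul, map_one]) (by rw [ht, hxt, Int.units_mul_self, map_one])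
    (one_pow _) (by simp) (by rw [orderOf_prodOrth, orderOf_one, Nat.lcm_one_right, pow_zero, mul_one])
    (not_dvd_lcm hp (hoy ▸ not_dvd_tor (by norm_num) 1) hxp) ?_)
  rw [pow_zero, mul_one]
  refine Nat.mul_dvd_mul_left p ?_
  rw [← tor_plus, ← hoy]
  exact Nat.dvd_lcm_left _ _

theorem target_D (h2 : (2 : F) ≠ 0) [Fact p.Prime] [CharP F p] (h3 : p = 3) (hQ : Typ Q 4 (-1))
    (hσ : σ = 1 ∨ σ = -1) : HasOrd p Q (9 * tor q 1 σ) := by
  subst h3
  have hp := (Fact.out : Nat.Prime 3)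
  obtain ⟨S, _, _, _, R, z, hR, hz, hoz⟩ := exists_torus (F := F) (i := 1) h2 le_rfl hσ
  obtain ⟨ι₁, _, R₁, hR₁⟩ := exists_space (F := F) (σ := 1) 1 (Or.inl rfl) (fun _ => le_rfl)
  obtain ⟨ι, _, R₀, hR₀⟩ := exists_space (F := F) (σ := -σ) 2 (by omega) (fun _ => by norm_num)
  haveI := finite_space F S
  haveI := finite_space F (S × (ι₁ → F))
  obtain ⟨b, hb1, hb2⟩ := exists_block h2 hR₀.nd (k := 1) (by rw [hR₀.dim])
  have hb3 : lin b ^ 3 ^ 1 = 1 := pow_eq_one_of_unip (p := 3) hb2 (by norm_num)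
  have hbp : b ^ 3 ^ 1 = 1 := Spectrum85Peel.pow_eq_one_iff.2 hb3
  have hbo : orderOf b = 3 := by
    refine orderOf_eq_prime (by simpa using hbp) fun h => hb1 ?_
    subst h
    show (lin (1 : orth R₀) - 1) ^ (2 * 1) = 0
    rw [lin_one, sub_self, zero_pow (by norm_num)]
  obtain ⟨hbd, hbt⟩ := mem_Om_of_odd h2 hR₀.nd b (Odd.pow (by decide) : Odd (3 ^ 1)) hbp
  obtain ⟨x, hxd, hxt, hxp⟩ := exists_sign (p := 3) h2 hR₁.nd (by rw [hR₁.dim])
    (by decide) (theta R z)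
  obtain ⟨hd, ht⟩ := chars_prodOrth h2 hR.nd hR₁.nd z x
  have hc : ¬ 3 ∣ Nat.lcm (orderOf z) (orderOf x) :=
    not_dvd_lcm hp (hoz ▸ not_dvd_tor le_rfl σ) hxp
  refine of_model hQ ?_ (HasOrd.of_gain (a := prodOrth R R₁ (z, x)) (b := b)
    (c := Nat.lcm (orderOf z) (orderOf x)) (j := 1) h2 (nd_prod hR.nd hR₁.nd) hR₀.nd
    (by rw [hd, hxd, hz, hbd, one_mul]) (by rw [ht, hxt, Int.units_mul_self, hbt])
    hbp (by simpa using hb1) ?_ hc ?_)
  · have := (hR.prod hR₁).prod hR₀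
    rwa [show σ * 1 * -σ = -1 by rcases hσ with rfl | rfl <;> simp] at this
  · rw [orderOf_prodOrth, hbo, pow_one]
    exact ((hp.coprime_iff_not_dvd.2 hc).symm).lcm_eq_mul
  · rw [show 3 * (Nat.lcm (orderOf z) (orderOf x) * 3 ^ 1) = 9 * Nat.lcm (orderOf z) (orderOf x) by ring,
      ← hoz]
    exact Nat.mul_dvd_mul_left 9 (Nat.dvd_lcm_left _ _)

theorem target_E (h2 : (2 : F) ≠ 0) [Fact p.Prime] [CharP F p] (h5 : p = 5) (hQ : Typ Q 4 (-1)) :
    HasOrd p Q 50 := by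
  classical
  subst h5
  obtain ⟨σ, hσ, hχ⟩ : ∃ σ : ℤ, (σ = 1 ∨ σ = -1) ∧ σ * quadraticChar F (-1 : F) = 1 := by
    rcases quadraticChar_dichotomy (F := F) (a := -1) (neg_ne_zero.2 one_ne_zero) with h | h
    · exact ⟨1, Or.inl rfl, by rw [h]; norm_num⟩
    · exact ⟨-1, Or.inr rfl, by rw [h]; norm_num⟩
  obtain ⟨ι₁, _, R₁, hR₁⟩ := exists_space (F := F) (σ := σ) 1 hσ (fun _ => le_rfl)
  obtain ⟨ι, _, R₀, hR₀⟩ := exists_space (F := F) (σ := -σ) 3 (by omega) (fun _ => by norm_num)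
  obtain ⟨hnd, hnt⟩ := negOne_plane h2 hR₁
  rw [hχ] at hnt
  have hn2 : orderOf (negOne R₁) = 2 := by
    refine orderOf_eq_prime (orth_ext fun x => by
      rw [pow_two, orth_mul_apply, negOne_apply, negOne_apply, neg_neg]; rfl) fun h => ?_
    haveI : Nontrivial (ι₁ → F) :=
      Module.nontrivial_of_finrank_pos (R := F) (by rw [hR₁.dim]; norm_num)
    obtain ⟨v, hv⟩ := exists_ne (0 : ι₁ → F)
    have := congrArg (fun g : orth R₁ => g.1 v) h
    change -v = v at this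
    have h' : (2 : F) • v = 0 := by rw [two_smul]; nth_rw 1 [← this]; exact neg_add_cancel v
    exact hv ((smul_eq_zero.1 h').resolve_left h2)
  obtain ⟨b, hb1, hb2⟩ := exists_block h2 hR₀.nd (k := 2) (by rw [hR₀.dim])
  have hbp : b ^ 5 ^ 1 = 1 :=
    Spectrum85Peel.pow_eq_one_iff.2 (pow_eq_one_of_unip (p := 5) hb2 (by norm_num))
  have hbo : orderOf b = 5 := by
    refine orderOf_eq_prime (by simpa using hbp) fun h => hb1 ?_
    subst h
    show (lin (1 : orth R₀) - 1) ^ (2 * 2) = 0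
    rw [lin_one, sub_self, zero_pow (by norm_num)]
  obtain ⟨hbd, hbt⟩ := mem_Om_of_odd h2 hR₀.nd b (Odd.pow (by decide) : Odd (5 ^ 1)) hbp
  refine of_model hQ ?_ (HasOrd.of_gain (a := negOne R₁) (b := b) (c := 2) (j := 1)
    h2 hR₁.nd hR₀.nd (by rw [hnd, hbd]) (by rw [hbt]; exact Units.ext hnt)
    hbp (by simpa using hb1) (by rw [hn2, hbo]; norm_num) (by norm_num) (by norm_num))
  have := hR₁.prod hR₀
  rwa [show σ * -σ = -1 by rcases hσ with rfl | rfl <;> simp] at this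

/-- Every exponent of the list occurs in the extension. -/
theorem hasOrd_of_inList (h2 : (2 : F) ≠ 0) [Fact p.Prime] [CharP F p] (hQ : Typ Q 4 (-1)) {o : ℕ}
    (h : InList F p o) : HasOrd p Q o := by
  rcases h with h | ⟨σ, hσ, h⟩ | ⟨σ, hσ, h⟩ | h | ⟨h3, σ, hσ, h⟩ | ⟨h5, h⟩
  · exact (target_A h2 hQ).mono h
  · exact (target_B h2 hQ hσ).mono h
  · exact (target_C h2 hQ hσ).mono h
  · exact (target_C' h2 hQ).mono h
  · exact (target_D h2 h3 hQ hσ).mono h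
  · exact (target_E h2 h5 hQ).mono h

end Cfsg.Agent.Spectrum85Targets
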