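import Mathlib
import Cfsg.Agent.Lib.Spectrum85Targets

/-!
The commutator orthogonal group in dimension nine and the split extension of a minus space of
dimension eight by its commutator orthogonal group have the same element orders.
-/

set_option autoImplicit false
set_option linter.unusedSectionVars false
set_option linter.style.haveILetI false

namespace Cfsg.Agent.Spectrum85Main

open QuadraticMap Module
open Cfsg.Agent.OrthUnitaryQuad
open Cfsg.Agent.OrthUnitaryRefl
open Cfsg.Agent.OrthUnitaryOmega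
open Cfsg.Agent.OrthUnitaryCentre
open Cfsg.Agent.Spectrum85Core
open Cfsg.Agent.Spectrum85Models
open Cfsg.Agent.Spectrum85Peel
open Cfsg.Agent.Spectrum85Bounds
open Cfsg.Agent.Spectrum85Targets

variable {F : Type*} [Field F] [Fintype F]
variable {V : Type*} [AddCommGroup V] [Module F V] [FiniteDimensional F V]
variable {Q : QuadraticForm F V} {p : ℕ}

theorem det_lin (g : orth Q) : LinearMap.det (lin g) = ((detHom Q g : Fˣ) : F) :=
  (det_units g).symm

/-- A special isometry without fixed vectors lives in even dimension. -/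
theorem even_of_fixfree (h2 : (2 : F) ≠ 0) (hQ : Nd Q) (g : orth Q) (hd : detHom Q g = 1)
    (hfix : ∀ v, g.1 v = v → v = 0) : Even (finrank F V) := by
  classical
  let b := Module.finBasis F V
  set B : LinearMap.BilinForm F V := polarBilin Q
  set M := LinearMap.toMatrix₂ b b B with hM
  have hMdet : M.det ≠ 0 := (LinearMap.separatingLeft_iff_det_ne_zero b).1 hQ.1
  have hadj : B.compl₁₂ (lin g - 1) (LinearMap.id : V →ₗ[F] V) =
      B.compl₁₂ (LinearMap.id : V →ₗ[F] V) (lin g⁻¹ - 1) := by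
    refine LinearMap.ext₂ fun x y => ?_
    show polar Q ((lin g - 1) x) y = polar Q x ((lin g⁻¹ - 1) y)
    have h := polar_aeval g (Polynomial.X - 1) x y
    simpa using h
  have h1 := congrArg (fun C => (LinearMap.toMatrix₂ b b C).det) hadj
  simp only [LinearMap.toMatrix₂_compl₁₂ b b, LinearMap.toMatrix_id, Matrix.transpose_one,
    Matrix.one_mul, Matrix.mul_one, Matrix.det_mul, Matrix.det_transpose, LinearMap.det_toMatrix] at h1
  change LinearMap.det (lin g - 1) * M.det = M.det * LinearMap.det (lin g⁻¹ - 1) at h1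
  have e : lin g⁻¹ - 1 = (-1 : F) • (lin g⁻¹ * (lin g - 1)) := by
    rw [mul_sub, lin_inv_mul, mul_one, neg_one_smul, neg_sub]
  rw [e, LinearMap.det_smul, map_mul, det_lin g⁻¹, map_inv, hd, inv_one, Units.val_one, one_mul,
    mul_comm M.det] at h1
  have hne : LinearMap.det (lin g - 1) ≠ 0 := by
    intro h0
    obtain ⟨v, hv, hv0⟩ := Submodule.exists_mem_ne_zero_of_ne_bot (p := LinearMap.ker (lin g - 1))
      (bot_lt_iff_ne_bot.1 (LinearMap.bot_lt_ker_of_det_eq_zero h0))
    exact hv0 (hfix v (sub_eq_zero.1 hv))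
  have h3 : (-1 : F) ^ finrank F V = 1 := by
    have := mul_right_cancel₀ hMdet h1
    exact mul_right_cancel₀ hne (by rw [one_mul]; exact this.symm)
  rcases Nat.even_or_odd (finrank F V) with h | h
  · exact h
  · exfalso
    rw [h.neg_one_pow] at h3
    exact h2 (by linear_combination -h3)

/-- The sum of powers of a unipotent map up to a prime power. -/
theorem geom_eq [Fact p.Prime] [CharP F p] (T : Module.End F V) (j : ℕ) :
    ∑ i ∈ Finset.range (p ^ j), T ^ i = (T - 1) ^ (p ^ j - 1) := by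
  have hp := (Fact.out : p.Prime)
  have hpoly : (∑ i ∈ Finset.range (p ^ j), (Polynomial.X : Polynomial F) ^ i) =
      (Polynomial.X - 1) ^ (p ^ j - 1) := by
    refine mul_left_cancel₀ (Polynomial.X_sub_C_ne_zero (1 : F)) ?_
    rw [map_one, mul_geom_sum, ← pow_succ', Nat.sub_add_cancel (Nat.one_le_pow _ _ hp.pos),
      sub_pow_char_pow, one_pow]
  have := congrArg (Polynomial.aeval T) hpoly
  simpa [map_sum] using this

theorem geom_mul (T : Module.End F V) {P : ℕ} (hP : T ^ P = 1) (c : ℕ) :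
    ∑ i ∈ Finset.range (c * P), T ^ i = c • ∑ i ∈ Finset.range P, T ^ i := by
  induction c with
  | zero => simp
  | succ c ih =>
    rw [Nat.succ_mul, Finset.sum_range_add, ih, succ_nsmul]
    congr 1
    refine Finset.sum_congr rfl fun i _ => ?_
    rw [pow_add, mul_comm c P, pow_mul, hP, one_pow, one_mul]

theorem nil_bound {T : Module.End F V} {N : ℕ} (h : T ^ N = 0) : T ^ finrank F V = 0 := by
  rcases le_or_gt (finrank F V) N with hle | hlt
  · rw [← LinearMap.ker_eq_top, ← Module.End.ker_pow_eq_ker_pow_finrank_of_le hle,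
      LinearMap.ker_eq_top, h]
  · exact pow_eq_zero_of_le hlt.le h

/-- A unipotent isometry: order a power of `p`, both characters trivial. -/
theorem unip_facts [Finite V] (h2 : (2 : F) ≠ 0) [Fact p.Prime] [CharP F p] (hQ : Nd Q) (a : orth Q)
    {N : ℕ} (hN : (lin a - 1) ^ N = 0) :
    detHom Q a = 1 ∧ theta Q a = 1 ∧ ∃ k, orderOf a = p ^ k ∧ (1 ≤ k → p ^ (k - 1) < finrank F V) := by
  haveI := finite_orth Q
  have hp := (Fact.out : p.Prime)
  have hn := nil_bound hN
  have hj : finrank F V ≤ p ^ finrank F V := (Nat.lt_pow_self hp.one_lt).le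
  have h1 : a ^ p ^ finrank F V = 1 :=
    Spectrum85Peel.pow_eq_one_iff.2 (pow_eq_one_of_unip hn hj)
  obtain ⟨hd, ht⟩ := mem_Om_of_odd h2 hQ a ((char_ge (p := p) (F := F) h2).2.1.pow) h1
  obtain ⟨k, -, hk⟩ := (Nat.dvd_prime_pow hp).1 (orderOf_dvd_of_pow_eq_one h1)
  refine ⟨hd, ht, k, hk, fun h1k => lt_of_not_ge fun hle => ?_⟩
  have h := orderOf_dvd_of_pow_eq_one (Spectrum85Peel.pow_eq_one_iff.2 (pow_eq_one_of_unip hn hle))
  rw [hk] at h
  have := (Nat.pow_dvd_pow_iff_le_right hp.one_lt).1 h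
  omega

/-- Splitting off the unipotent part. -/
theorem exists_fix_split [Finite V] (h2 : (2 : F) ≠ 0) [Fact p.Prime] [CharP F p] (hQ : Nd Q)
    (g : orth Q) (hd : detHom Q g = 1) (ht : theta Q g = 1) :
    ∃ (A B : Submodule F V) (a : orth (Q.comp A.subtype)) (b : orth (Q.comp B.subtype))
      (e : (A × B) ≃ₗ[F] V) (he : ∀ x, Q (e x) = (Q.comp A.subtype).prod (Q.comp B.subtype) x)
      (k : ℕ) (_ : Finite A) (_ : Finite B),
      Nd (Q.comp A.subtype) ∧ Nd (Q.comp B.subtype) ∧
      g = orthCongr e he (prodOrth _ _ (a, b)) ∧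
      finrank F A + finrank F B = finrank F V ∧ Even (finrank F B) ∧
      detHom (Q.comp B.subtype) b = 1 ∧ theta (Q.comp B.subtype) b = 1 ∧
      detHom (Q.comp A.subtype) a = 1 ∧ theta (Q.comp A.subtype) a = 1 ∧
      (∀ v, b.1 v = v → v = 0) ∧ orderOf g = Nat.lcm (orderOf a) (orderOf b) ∧
      orderOf a = p ^ k ∧ (1 ≤ k → p ^ (k - 1) < finrank F A) ∧
      (lin a - 1) ^ finrank F A = 0 := by
  classical
  set n := finrank F V
  set P : Polynomial F := Polynomial.X - 1
  set A := LinearMap.ker (Polynomial.aeval (lin g) P ^ n)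
  set B := LinearMap.range (Polynomial.aeval (lin g) P ^ n)
  have hPT : Polynomial.aeval (lin g) P = lin g - 1 := by simp [P]
  have hrev : P ∣ P.reverse := by
    refine ⟨-1, ?_⟩
    have h1 : P.natDegree = 1 := by
      show (Polynomial.X - 1 : Polynomial F).natDegree = 1
      rw [← map_one Polynomial.C, Polynomial.natDegree_X_sub_C]
    ext j
    rw [Polynomial.coeff_reverse, h1]
    rcases j with _ | _ | j
    · simp [P, Polynomial.coeff_one, Polynomial.revAt_le]
    · simp [P, Polynomial.coeff_one, Polynomial.revAt_le]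
    · rw [Polynomial.revAt_eq_self_of_lt (by omega)]
      simp [P, Polynomial.coeff_one, Polynomial.coeff_X]
  have hAB : IsCompl A B := fitting (Polynomial.aeval (lin g) P) le_rfl
  have hcom : Commute (lin g) (Polynomial.aeval (lin g) P ^ n) := by
    rw [hPT]; exact (((Commute.refl (lin g)).sub_right (Commute.one_right _))).pow_right n
  have ho : ∀ x ∈ A, ∀ y ∈ B, polar Q x y = 0 := by
    rintro x hx _ ⟨z, rfl⟩
    rw [polar_comm, polar_aeval_pow, adj_zero g hrev hx, polar_zero_right]
  have hAi : ∀ x ∈ A, lin g x ∈ A := fun x hx => by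
    rw [LinearMap.mem_ker, ← Module.End.mul_apply, ← hcom.eq, Module.End.mul_apply,
      LinearMap.mem_ker.1 hx, map_zero]
  have hBi : ∀ x ∈ B, lin g x ∈ B := by
    rintro _ ⟨x, rfl⟩
    exact ⟨lin g x, by rw [← Module.End.mul_apply, ← hcom.eq, Module.End.mul_apply]⟩
  obtain ⟨hndA, hndB, e, he, a, b, -, ha, hb, hg⟩ := Spectrum85Peel.exists_split hQ g hAB ho hAi hBi
  haveI := finite_space F A
  haveI := finite_space F B
  have hnil : (lin a - 1) ^ n = 0 := LinearMap.ext fun x => Subtype.ext (by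
    have h := aeval_restrict ha (P ^ n) x
    rw [map_pow, map_pow, hPT] at h
    rw [show Polynomial.aeval (lin a) P = lin a - 1 by simp [P]] at h
    rw [h, ← hPT]; exact x.2)
  obtain ⟨hda, hta, k, hk, hk'⟩ := unip_facts (p := p) h2 hndA a hnil
  obtain ⟨hog, hdg, htg⟩ := split_facts h2 hndA hndB hg
  rw [hd, hda, one_mul] at hdg
  rw [ht, hta, one_mul] at htg
  have hbfix : ∀ v, b.1 v = v → v = 0 := fun v hv => by
    have hv' : g.1 (v : V) = v := (hb v).symm.trans (congrArg Subtype.val hv)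
    refine Subtype.ext (Submodule.disjoint_def.1 hAB.disjoint _ ?_ v.2)
    rw [LinearMap.mem_ker]
    rcases Nat.eq_zero_or_pos n with h0 | h0
    · haveI : Subsingleton V := Module.finrank_zero_iff.1 h0
      exact Subsingleton.elim _ _
    · rw [hPT, ← Nat.sub_add_cancel h0, pow_succ, Module.End.mul_apply,
        show (lin g - 1) (v : V) = 0 by rw [LinearMap.sub_apply, Module.End.one_apply]; exact sub_eq_zero.2 hv',
        map_zero]
  exact ⟨A, B, a, b, e, he, k, inferInstance, inferInstance, hndA, hndB, hg,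
    Submodule.finrank_add_eq_of_isCompl hAB, even_of_fixfree h2 hndB b hdg.symm hbfix,
    hdg.symm, htg.symm, hda, hta, hbfix, hog, hk, hk', nil_bound hnil⟩

theorem lcm_pow {i j c : ℕ} (hp : p.Prime) (hij : i ≤ j) (hc : ¬ p ∣ c) :
    Nat.lcm (p ^ i * c) (p ^ j) = c * p ^ j := by
  refine Nat.dvd_antisymm (Nat.lcm_dvd ?_ (dvd_mul_left _ _)) ?_
  · rw [mul_comm]; exact mul_dvd_mul_left c (Nat.pow_dvd_pow p hij)
  · exact (((hp.coprime_iff_not_dvd.2 hc).pow_left j).symm).mul_dvd_of_dvd_of_dvd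
      ((dvd_mul_left c _).trans (Nat.dvd_lcm_left _ _)) (Nat.dvd_lcm_right _ _)

/-- Orders of the commutator group in dimension nine occur in the extension. -/
theorem nine_to_ext {W : Type*} [AddCommGroup W] [Module F W] [FiniteDimensional F W] [Finite W]
    {R : QuadraticForm F W} (h2 : (2 : F) ≠ 0) [Fact p.Prime] [CharP F p] (hQ : Typ Q 4 (-1))
    (hR : Nd R) (hdim : finrank F W = 9) {h : orth R} (hh : h ∈ commutator (orth R)) :
    HasOrd p Q (orderOf h) := by
  have hp := (Fact.out : p.Prime)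
  obtain ⟨hd, ht⟩ := (mem_Om_iff h2 hR h).1 hh
  obtain ⟨A, B, a, b, e, he, k, _, _, hA, hB, -, hsum, heven, hdb, htb, -, -, hbfix, hord, hoa, hk, -⟩ :=
    exists_fix_split (p := p) h2 hR h hd ht
  obtain ⟨l, hl⟩ := heven
  obtain ⟨σ, hTB⟩ := exists_typ (m := l) hB (by omega)
  haveI := finite_orth (R.comp B.subtype)
  have hpodd := (char_ge (p := p) (F := F) h2).2.1
  by_cases hA1 : finrank F A = 1
  · have hk0 : k = 0 := by
      by_contra hk0
      have := hk (by omega)
      have := Nat.one_le_pow (k - 1) p hp.pos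
      omega
    rw [hord, hoa, hk0, pow_zero, Nat.lcm_one_left]
    obtain rfl : l = 4 := by omega
    rcases hTB.sign with rfl | rfl
    · exact hasOrd_of_inList h2 hQ (good8 h2 hTB b hbfix htb)
    · exact of_model hQ hTB (HasOrd.of_mem ((mem_Om_iff h2 hB b).2 ⟨hdb, htb⟩) dvd_rfl)
  · obtain ⟨e', he'⟩ : ∃ e', finrank F A = 2 * e' + 3 := ⟨(finrank F A - 3) / 2, by omega⟩
    obtain ⟨ι, _, R₀, hR₀⟩ := exists_space (F := F) (σ := -σ) (e' + 1)
      (by rcases hTB.sign with rfl | rfl <;> simp) (fun _ => by omega)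
    haveI := finite_orth R₀
    obtain ⟨u, hu1, hu2⟩ := exists_block h2 hR₀.nd (k := e') (by rw [hR₀.dim]; ring)
    obtain ⟨hud, hut, j, hju, -⟩ := unip_facts (p := p) h2 hR₀.nd u hu2
    have hbig : 2 * e' + 1 ≤ p ^ j := by
      by_contra hlt
      exact hu1 (pow_eq_zero_of_le (by omega) (unip_of_pow_eq_one (p := p) (j := j)
        (Spectrum85Peel.pow_eq_one_iff.1 (by rw [← hju]; exact pow_orderOf_eq_one u))))
    have hlsum : l + (e' + 1) = 4 := by omega
    have hmem := prodOrth_mem h2 hB hR₀.nd (hdb.trans hud.symm) (htb.trans hut.symm)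
    have hprod : Typ ((R.comp B.subtype).prod R₀) 4 (-1) := by
      have := hTB.prod hR₀
      rwa [hlsum, show σ * -σ = -1 by rcases hTB.sign with rfl | rfl <;> simp] at this
    refine of_model hQ hprod ?_
    rw [hord, hoa, Nat.lcm_comm]
    obtain ⟨i, c, hc, hbc⟩ :=
      Nat.exists_eq_pow_mul_and_not_dvd (orderOf_pos b).ne' p hp.ne_one
    by_cases hkj : k ≤ j ∨ k ≤ i
    · refine HasOrd.of_mem hmem ?_
      rw [orderOf_prodOrth, hju]
      refine Nat.lcm_dvd (Nat.dvd_lcm_left _ _) ?_
      rcases hkj with h' | h'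
      · exact (Nat.pow_dvd_pow p h').trans (Nat.dvd_lcm_right _ _)
      · exact ((Nat.pow_dvd_pow p h').trans ⟨c, hbc⟩).trans (Nat.dvd_lcm_left _ _)
    · push Not at hkj
      have hkk := hk (by omega)
      have hoddk : Odd (p ^ (k - 1)) := hpodd.pow
      have hle : p ^ (k - 1) ≤ 2 * e' + 1 := by
        rcases hoddk with ⟨t, ht'⟩; omega
      have hjk : j + 1 = k := by
        have := (Nat.pow_le_pow_iff_right hp.one_lt).1 (hle.trans hbig)
        omega
      have hexact : p ^ j = 2 * e' + 1 := by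
        rw [show k - 1 = j by omega] at hle
        omega
      refine HasOrd.of_gain (a := b) (b := u) (c := c) (j := j) h2 hB hR₀.nd
        (hdb.trans hud.symm) (htb.trans hut.symm) (by rw [← hju]; exact pow_orderOf_eq_one u)
        (by rw [hexact, Nat.add_sub_cancel]; exact hu1) ?_ hc ?_
      · rw [hbc, hju]; exact lcm_pow hp (by omega) hc
      · rw [hbc, lcm_pow hp (by omega) hc, ← hjk, pow_succ]
        exact dvd_of_eq (by ring)

/-- Similitudes transport commutator elements. -/
theorem sim_transport {W W' : Type*} [AddCommGroup W] [Module F W] [AddCommGroup W'] [Module F W']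
    {R : QuadraticForm F W} {R' : QuadraticForm F W'} (e : W ≃ₗ[F] W') {c : F} (hc : c ≠ 0)
    (he : ∀ x, R' (e x) = c * R x) {n : ℕ}
    (h : ∃ g : orth R, g ∈ commutator (orth R) ∧ n ∣ orderOf g) :
    ∃ g : orth R', g ∈ commutator (orth R') ∧ n ∣ orderOf g := by
  obtain ⟨g, hg, hn⟩ := h
  have he' : ∀ x, (c • R) x = c * R x := fun x => rfl
  let φ : orth R ≃* orth (c • R) := MulEquiv.subgroupCongr (by
    ext f
    constructor
    · intro hf x
      rw [he', he', hf x]
    · intro hf x
      have := hf x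
      rw [he', he'] at this
      exact mul_left_cancel₀ hc this)
  let ψ := φ.trans (orthCongr (Q := c • R) (Q' := R') e fun x => by rw [he, he'])
  exact ⟨ψ g, (mem_commutator_iff ψ g).1 hg, by rwa [ψ.orderOf_eq]⟩

/-- The square line. -/
theorem nd_line (h2 : (2 : F) ≠ 0) : Nd (QuadraticMap.sq (R := F) (A := F)) := by
  have key : ∀ x : F, (∀ y, polar (QuadraticMap.sq (R := F) (A := F)) x y = 0) → x = 0 := fun x hx => by
    have := hx 1
    simp [polar] at this
    have h' : (2 : F) * x = 0 := by linear_combination this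
    exact (mul_eq_zero.1 h').resolve_left h2
  exact ⟨fun x hx => key x fun y => hx y, fun x hx => key x fun y => by
    rw [polar_comm]; exact hx y⟩

/-- Orders of the extension occur in the commutator group in dimension nine. -/
theorem ext_to_nine [Finite V] {W : Type*} [AddCommGroup W] [Module F W] [FiniteDimensional F W]
    {R : QuadraticForm F W} (h2 : (2 : F) ≠ 0) [Fact p.Prime] [CharP F p] (hQ : Typ Q 4 (-1))
    (hR : Nd R) (hdim : finrank F W = 9) {g : orth Q} (hg : g ∈ commutator (orth Q)) {n : ℕ}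
    (hn : n = orderOf g ∨ n = p * orderOf g ∧ ∃ v, orderSum g v ≠ 0) :
    ∃ x : orth R, x ∈ commutator (orth R) ∧ n ∣ orderOf x := by
  classical
  have hp := (Fact.out : p.Prime)
  let L : QuadraticForm F F := QuadraticMap.sq
  have hL : Nd L := nd_line h2
  haveI := finite_space F (V × F)
  have hM : Nd (Q.prod L) := nd_prod hQ.nd hL
  have hMd : finrank F (V × F) = 9 := by rw [Module.finrank_prod, hQ.dim, finrank_self]
  suffices h : ∃ x : orth (Q.prod L), x ∈ commutator (orth (Q.prod L)) ∧ n ∣ orderOf x by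
    obtain ⟨c, e, hc, he⟩ := OrthTypeCount73.iso_odd (Q.prod L) hM (m := 4) (by omega)
    obtain ⟨c', e', hc', he'⟩ := OrthTypeCount73.iso_odd R hR (m := 4) (by omega)
    exact sim_transport (e.trans e'.symm) (c := c'⁻¹ * c) (mul_ne_zero (inv_ne_zero hc') hc)
      (fun x => by
        apply mul_left_cancel₀ hc'
        rw [← he', LinearEquiv.trans_apply, LinearEquiv.apply_symm_apply, he, ← mul_assoc, ← mul_assoc,
          mul_inv_cancel₀ hc', one_mul]) h
  obtain ⟨hd, ht⟩ := (mem_Om_iff h2 hQ.nd g).1 hg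
  rcases hn with rfl | ⟨rfl, v, hv⟩
  · refine ⟨prodOrth Q L (g, 1), prodOrth_mem h2 hQ.nd hL (by rw [hd, map_one]) (by rw [ht, map_one]), ?_⟩
    rw [orderOf_prodOrth, orderOf_one, Nat.lcm_one_right]
  obtain ⟨A, B, a, b, e, he, k, _, _, hA, hB, hgeq, hsum, heven, hdb, htb, -, -, hbfix, hord, hoa, -, hnilA⟩ :=
    exists_fix_split (p := p) h2 hQ.nd g hd ht
  haveI := finite_orth (Q.comp A.subtype)
  haveI := finite_orth (Q.comp B.subtype)
  set N := orderOf g with hN
  have hgpow : ∀ (i : ℕ) x, (lin g ^ i) (e x) = e ((lin a ^ i) x.1, (lin b ^ i) x.2) := by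
    intro i x
    rw [← lin_pow g, hgeq, ← map_pow, ← map_pow, Prod.pow_mk, ← lin_pow, ← lin_pow]
    show e ((prodOrth _ _ (a ^ i, b ^ i)).1 (e.symm (e x))) = _
    rw [e.symm_apply_apply]
    rfl
  obtain ⟨x, rfl⟩ := e.surjective v
  have hsumv : orderSum g (e x) = e ((∑ i ∈ Finset.range N, lin a ^ i) x.1,
      (∑ i ∈ Finset.range N, lin b ^ i) x.2) := by
    rw [orderSum, LinearMap.sum_apply, LinearMap.sum_apply, LinearMap.sum_apply,
      Finset.sum_congr rfl fun i _ => hgpow i x, ← map_sum]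
    congr 1
    exact Prod.ext (Prod.fst_sum ..) (Prod.snd_sum ..)
  -- no contribution from the part without fixed vectors
  have hbN : lin b ^ N = 1 := by
    rw [← lin_pow, orderOf_dvd_iff_pow_eq_one.1 (hord ▸ Nat.dvd_lcm_right _ _)]; rfl
  have hbsum : ∑ i ∈ Finset.range N, lin b ^ i = 0 := by
    have h1 : (lin b - 1) * ∑ i ∈ Finset.range N, lin b ^ i = 0 := by
      rw [mul_geom_sum, hbN, sub_self]
    refine LinearMap.ext fun y => hbfix _ ?_
    have := LinearMap.congr_fun h1 y
    rw [Module.End.mul_apply, LinearMap.sub_apply, Module.End.one_apply, LinearMap.zero_apply,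
      sub_eq_zero] at this
    exact this
  have hasum : ∑ i ∈ Finset.range N, lin a ^ i ≠ 0 := fun h0 => hv (by
    rw [hsumv, h0, hbsum, LinearMap.zero_apply, LinearMap.zero_apply]
    exact map_zero e)
  obtain ⟨c, hc⟩ : p ^ k ∣ N := by rw [hord, hoa]; exact Nat.dvd_lcm_left _ _
  have haP : lin a ^ p ^ k = 1 := by rw [← lin_pow, ← hoa, pow_orderOf_eq_one]; rfl
  rw [hc, mul_comm, geom_mul _ haP, geom_eq, ← Nat.cast_smul_eq_nsmul F] at hasum
  have hpc : ¬ p ∣ c := fun h => hasum (by
    rw [(CharP.cast_eq_zero_iff F p c).2 h, zero_smul])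
  have hA0 : p ^ k - 1 < finrank F A := lt_of_not_ge fun hle => hasum (by
    rw [pow_eq_zero_of_le hle hnilA, smul_zero])
  have hAev : Even (finrank F A) := by
    obtain ⟨l, hl⟩ := heven
    have := hQ.dim
    exact ⟨4 - l, by omega⟩
  obtain ⟨d, hd'⟩ := hAev
  let QA := Q.comp A.subtype
  let QB := Q.comp B.subtype
  haveI := finite_space F (A × F)
  obtain ⟨u, hu1, hu2⟩ := exists_regular h2 (nd_prod hA hL) (k := d)
    (by rw [Module.finrank_prod, finrank_self]; omega)
  haveI := finite_orth (QA.prod L)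
  obtain ⟨hud, hut, j, hju, -⟩ := unip_facts (p := p) h2 (nd_prod hA hL) u hu2
  have hkj : k + 1 ≤ j := by
    have hbig : 2 * d + 1 ≤ p ^ j := by
      by_contra hlt
      exact hu1 (pow_eq_zero_of_le (by omega) (unip_of_pow_eq_one (p := p) (j := j)
        (Spectrum85Peel.pow_eq_one_iff.1 (by rw [← hju]; exact pow_orderOf_eq_one u))))
    have h1 : p ^ k < p ^ j := by
      have := Nat.one_le_pow k p hp.pos
      omega
    exact (Nat.pow_lt_pow_iff_right hp.one_lt).1 h1
  let ρ : ((A × F) × B) ≃ₗ[F] V × F :=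
    { toFun := fun y => (e (y.1.1, y.2), y.1.2)
      invFun := fun z => (((e.symm z.1).1, z.2), (e.symm z.1).2)
      map_add' := fun y z => Prod.ext (by
        show e (y.1.1 + z.1.1, y.2 + z.2) = e (y.1.1, y.2) + e (z.1.1, z.2)
        rw [← map_add]; rfl) rfl
      map_smul' := fun r y => Prod.ext (by
        show e (r • y.1.1, r • y.2) = r • e (y.1.1, y.2)
        rw [← map_smul]; rfl) rfl
      left_inv := fun y => by simp
      right_inv := fun z => by simp }
  have hρ : ∀ y, Q.prod L (ρ y) = (QA.prod L).prod QB y := fun y => by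
    show Q (e (y.1.1, y.2)) + L y.1.2 = QA y.1.1 + L y.1.2 + QB y.2
    rw [he]
    show QA y.1.1 + QB y.2 + L y.1.2 = _
    ring
  haveI := finite_space F ((A × F) × B)
  refine ⟨orthCongr ρ hρ (prodOrth _ _ (u, b)), orthCongr_mem ρ hρ
    (prodOrth_mem h2 (nd_prod hA hL) hB (hud.trans hdb.symm) (hut.trans htb.symm)), ?_⟩
  rw [(orthCongr ρ hρ).orderOf_eq, orderOf_prodOrth, hju, hc,
    show p * (p ^ k * c) = p ^ (k + 1) * c by rw [pow_succ]; ring]
  refine (((hp.coprime_iff_not_dvd.2 hpc).pow_left (k + 1))).mul_dvd_of_dvd_of_dvd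
    ((Nat.pow_dvd_pow p hkj).trans (Nat.dvd_lcm_left _ _)) (Dvd.dvd.trans ?_ (Nat.dvd_lcm_right _ _))
  have hcN : c ∣ Nat.lcm (p ^ k) (orderOf b) := by
    rw [← hoa, ← hord, hc]; exact dvd_mul_left _ _
  exact ((hp.coprime_iff_not_dvd.2 hpc).pow_left k).symm.dvd_of_dvd_mul_left
    (hcN.trans (Nat.lcm_dvd_mul _ _))

end Cfsg.Agent.Spectrum85Main
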