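import Mathlib

/-!
The Diophantine problem for groups with element orders at most 5.
-/

set_option autoImplicit false
set_option linter.all false

namespace Cfsg.Agent.SpectrumFive57Arith

/-- One line of the table. -/
def ok (k A B e f : ℕ) : Bool :=
  decide (A < 2) || decide (B < 1) || (decide (3 ≤ A) && decide (3 ≤ B)) ||
  decide ((2 ^ k * 5 ^ B) % e ≠ 0) || decide ((2 ^ k * 3 ^ A) % f ≠ 0) ||
  decide (2 ^ k * 5 ^ B / e ≤ 1) || decide (2 ^ k * 3 ^ A / f ≤ 1) ||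
  decide ((2 ^ k * 5 ^ B / e) % (3 ^ A) ≠ 1) || decide ((2 ^ k * 3 ^ A / f) % (5 ^ B) ≠ 1) ||
  decide (e * f * 3 ^ A * 5 ^ B < 2 ^ k * ((3 ^ A - 1) * f + (5 ^ B - 1) * e)) ||
  decide (k = 3 ∧ A = 2 ∧ B = 1 ∧ e = 4 ∧ f = 2) || decide (k = 4 ∧ A = 2 ∧ B = 1 ∧ e = 8 ∧ f = 4)

theorem check : ((List.range 8).all fun k => (List.range 7).all fun A => (List.range 4).all fun B =>
    [2, 4, 8].all fun e => [2, 4, 8].all fun f => ok k A B e f) = true := by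
  decide +kernel

theorem table : ∀ k ∈ List.range 8, ∀ A ∈ List.range 7, ∀ B ∈ List.range 4, ∀ e ∈ [2, 4, 8],
    ∀ f ∈ [2, 4, 8], 2 ≤ A → 1 ≤ B → ¬ (3 ≤ A ∧ 3 ≤ B) →
    (2 ^ k * 5 ^ B) % e = 0 → (2 ^ k * 3 ^ A) % f = 0 →
    1 < 2 ^ k * 5 ^ B / e → 1 < 2 ^ k * 3 ^ A / f →
    (2 ^ k * 5 ^ B / e) % (3 ^ A) = 1 → (2 ^ k * 3 ^ A / f) % (5 ^ B) = 1 →
    2 ^ k * ((3 ^ A - 1) * f + (5 ^ B - 1) * e) ≤ e * f * 3 ^ A * 5 ^ B →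
    (k = 3 ∧ A = 2 ∧ B = 1 ∧ e = 4 ∧ f = 2) ∨ (k = 4 ∧ A = 2 ∧ B = 1 ∧ e = 8 ∧ f = 4) := by
  intro k hk A hA B hB e he f hf c1 c2 c3 c4 c5 c6 c7 c8 c9 c10
  have h := check
  simp only [List.all_eq_true] at h
  have h := h k hk A hA B hB e he f hf
  simp only [ok, Bool.or_eq_true, Bool.and_eq_true, decide_eq_true_eq] at h
  omega

theorem le_two_pow (B : ℕ) : 9 * 5 ^ B ≤ 2 ^ (3 * B + 4) := by
  induction B with
  | zero => norm_num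
  | succ n ih =>
    calc 9 * 5 ^ (n + 1) = 9 * 5 ^ n * 5 := by ring
      _ ≤ 2 ^ (3 * n + 4) * 2 ^ 3 := Nat.mul_le_mul ih (by norm_num)
      _ = _ := by rw [← pow_add]; congr 1

theorem growth : ∀ B : ℕ, 3 ≤ B → 3 * B + 4 < 2 * 5 ^ (B - 1) := by
  intro B hB
  induction B, hB using Nat.le_induction with
  | base => norm_num
  | succ n hn ih =>
    have : 5 ^ (n + 1 - 1) = 5 * 5 ^ (n - 1) := by rw [← pow_succ']; congr 1; omega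
    omega

/-- `4 ^ j ≡ 1 (mod 5 ^ B)` forces `j` to be large. -/
theorem exponent_large {j B : ℕ} (hj : 1 ≤ j) (hB : 1 ≤ B) (h : ((5 ^ B : ℕ) : ℤ) ∣ 4 ^ j - 1) :
    2 * 5 ^ (B - 1) ≤ j := by
  obtain ⟨m, rfl | rfl⟩ : ∃ m, j = 2 * m ∨ j = 2 * m + 1 := ⟨j / 2, by omega⟩
  · obtain ⟨n, rfl⟩ : ∃ n, B = n + 1 := ⟨B - 1, by omega⟩
    have ho : orderOf (1 + 5 * ((3 : ℤ) : ZMod (5 ^ (n + 1)))) = 5 ^ n := by
      have := ZMod.orderOf_one_add_mul_prime (p := 5) (by norm_num) (by norm_num) (3 : ℤ) (by norm_num) n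
      exact_mod_cast this
    have h1 : (1 + 5 * ((3 : ℤ) : ZMod (5 ^ (n + 1)))) ^ m = 1 := by
      have h0 := (ZMod.intCast_zmod_eq_zero_iff_dvd _ _).2 h
      push_cast at h0
      rw [pow_mul, sub_eq_zero] at h0
      push_cast
      norm_num at h0 ⊢
      exact h0
    have := Nat.le_of_dvd (by omega) (ho ▸ orderOf_dvd_of_pow_eq_one h1)
    simp only [Nat.add_sub_cancel]
    omega
  · exfalso
    have h5 : (5 : ℤ) ∣ 4 ^ (2 * m + 1) - 1 := by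
      refine dvd_trans ?_ h
      exact_mod_cast dvd_pow_self 5 (by omega : B ≠ 0)
    have h0 := (ZMod.intCast_zmod_eq_zero_iff_dvd ((4 : ℤ) ^ (2 * m + 1) - 1) 5).2 (by exact_mod_cast h5)
    push_cast at h0
    rw [pow_succ, pow_mul, show (4 : ZMod 5) ^ 2 = 1 by decide, one_pow, one_mul] at h0
    exact absurd h0 (by decide)

theorem solve {k A B e f n3 n5 : ℕ} (hA : 2 ≤ A) (hB : 1 ≤ B) (he : e = 2 ∨ e = 4 ∨ e = 8)
    (hf : f = 2 ∨ f = 4 ∨ f = 8) (h3 : n3 * e = 2 ^ k * 5 ^ B) (h5 : n5 * f = 2 ^ k * 3 ^ A)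
    (m3 : n3 ≡ 1 [MOD 3 ^ A]) (m5 : n5 ≡ 1 [MOD 5 ^ B]) (g3 : 1 < n3) (g5 : 1 < n5)
    (hineq : n3 * (3 ^ A - 1) * 3 ^ A + n5 * (5 ^ B - 1) * 5 ^ B ≤ (3 ^ A * 5 ^ B) * (3 ^ A * 5 ^ B))
    (hdeg : 3 ≤ A → 3 ≤ B → ∃ i : ℕ, ∃ b : ℤ, 2 ≤ i ∧ i ≤ k ∧ b ≠ 0 ∧ b.natAbs ≤ 2 ∧
      ((5 ^ B : ℕ) : ℤ) ∣ (2 : ℤ) ^ i - b) :
    (k = 3 ∧ A = 2 ∧ B = 1 ∧ e = 4 ∧ f = 2) ∨ (k = 4 ∧ A = 2 ∧ B = 1 ∧ e = 8 ∧ f = 4) := by
  have hP0 : 0 < 3 ^ A := pow_pos (by norm_num) _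
  have hQ0 : 0 < 5 ^ B := pow_pos (by norm_num) _
  have hP9 : 9 ≤ 3 ^ A := (show 9 = 3 ^ 2 by norm_num) ▸ Nat.pow_le_pow_right (by norm_num) hA
  have hQ5 : 5 ≤ 5 ^ B := Nat.le_self_pow (by omega) 5
  have he0 : 0 < e := by omega
  have hf0 : 0 < f := by omega
  have he8 : e ≤ 8 := by omega
  have hf8 : f ≤ 8 := by omega
  -- the inequality without quotients
  have hmain : 2 ^ k * ((3 ^ A - 1) * f + (5 ^ B - 1) * e) ≤ e * f * 3 ^ A * 5 ^ B := by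
    refine Nat.le_of_mul_le_mul_right ?_ (Nat.mul_pos hP0 hQ0)
    calc 2 ^ k * ((3 ^ A - 1) * f + (5 ^ B - 1) * e) * (3 ^ A * 5 ^ B)
        = (2 ^ k * 5 ^ B) * f * ((3 ^ A - 1) * 3 ^ A) + (2 ^ k * 3 ^ A) * e * ((5 ^ B - 1) * 5 ^ B) := by ring
      _ = (n3 * e) * f * ((3 ^ A - 1) * 3 ^ A) + (n5 * f) * e * ((5 ^ B - 1) * 5 ^ B) := by rw [h3, h5]
      _ = e * f * (n3 * (3 ^ A - 1) * 3 ^ A + n5 * (5 ^ B - 1) * 5 ^ B) := by ring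
      _ ≤ e * f * ((3 ^ A * 5 ^ B) * (3 ^ A * 5 ^ B)) := Nat.mul_le_mul_left _ hineq
      _ = e * f * 3 ^ A * 5 ^ B * (3 ^ A * 5 ^ B) := by ring
  have hS3 : 2 ^ k * (3 ^ A - 1) ≤ 8 * 3 ^ A * 5 ^ B := by
    refine Nat.le_of_mul_le_mul_right ?_ hf0
    calc 2 ^ k * (3 ^ A - 1) * f ≤ 2 ^ k * ((3 ^ A - 1) * f + (5 ^ B - 1) * e) := by
          rw [mul_assoc]; exact Nat.mul_le_mul_left _ (Nat.le_add_right _ _)
      _ ≤ e * f * 3 ^ A * 5 ^ B := hmain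
      _ ≤ 8 * f * 3 ^ A * 5 ^ B := by gcongr
      _ = 8 * 3 ^ A * 5 ^ B * f := by ring
  have hS5 : 2 ^ k * (5 ^ B - 1) ≤ 8 * 3 ^ A * 5 ^ B := by
    refine Nat.le_of_mul_le_mul_right ?_ he0
    calc 2 ^ k * (5 ^ B - 1) * e ≤ 2 ^ k * ((3 ^ A - 1) * f + (5 ^ B - 1) * e) := by
          rw [mul_assoc]; exact Nat.mul_le_mul_left _ (Nat.le_add_left _ _)
      _ ≤ e * f * 3 ^ A * 5 ^ B := hmain
      _ ≤ e * 8 * 3 ^ A * 5 ^ B := by gcongr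
      _ = 8 * 3 ^ A * 5 ^ B * e := by ring
  have small : k ≤ 7 → A ≤ 6 → B ≤ 3 → ¬ (3 ≤ A ∧ 3 ≤ B) →
      (k = 3 ∧ A = 2 ∧ B = 1 ∧ e = 4 ∧ f = 2) ∨ (k = 4 ∧ A = 2 ∧ B = 1 ∧ e = 8 ∧ f = 4) := by
    intro hk hA' hB' hAB
    have e3 : 2 ^ k * 5 ^ B / e = n3 := by rw [← h3, Nat.mul_div_cancel _ he0]
    have e5 : 2 ^ k * 3 ^ A / f = n5 := by rw [← h5, Nat.mul_div_cancel _ hf0]
    refine table k (List.mem_range.2 (by omega)) A (List.mem_range.2 (by omega)) B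
      (List.mem_range.2 (by omega)) e (by simp; omega) f (by simp; omega) hA hB hAB
      (by rw [← h3]; exact Nat.mul_mod_left _ _) (by rw [← h5]; exact Nat.mul_mod_left _ _)
      (by rw [e3]; exact g3) (by rw [e5]; exact g5) ?_ ?_ hmain
    · rw [e3, m3]; exact Nat.one_mod_eq_one.2 (by omega)
    · rw [e5, m5]; exact Nat.one_mod_eq_one.2 (by omega)
  rcases (show A = 2 ∨ B ≤ 2 ∨ (3 ≤ A ∧ 3 ≤ B) by omega) with rfl | hB2 | ⟨hA3, hB3⟩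
  · -- `|P| = 9`
    have hk : k ≤ 6 := by
      by_contra h
      have h7 : 2 ^ 7 ≤ 2 ^ k := Nat.pow_le_pow_right (by norm_num) (by omega)
      have : 128 * (5 ^ B - 1) ≤ 8 * 3 ^ 2 * 5 ^ B := (Nat.mul_le_mul_right _ h7).trans hS5
      omega
    refine small (by omega) (by norm_num) ?_ (by omega)
    by_contra h
    have hB4 : 5 ^ 4 ≤ 5 ^ B := Nat.pow_le_pow_right (by norm_num) (by omega)
    have h6 : 2 ^ k ≤ 2 ^ 6 := Nat.pow_le_pow_right (by norm_num) hk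
    have hn : n5 * 2 ≤ 2 ^ k * 3 ^ 2 := h5 ▸ Nat.mul_le_mul_left _ (by omega)
    have := (Nat.modEq_iff_dvd' g5.le).1 m5.symm
    have := Nat.le_of_dvd (by omega) this
    omega
  · -- `|Q| ≤ 25`
    have hQ25 : 5 ^ B ≤ 5 ^ 2 := Nat.pow_le_pow_right (by norm_num) hB2
    have hk : k ≤ 7 := by
      by_contra h
      have h7 : 2 ^ 8 ≤ 2 ^ k := Nat.pow_le_pow_right (by norm_num) (by omega)
      have : 256 * (3 ^ A - 1) ≤ 8 * 3 ^ A * 25 :=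
        ((Nat.mul_le_mul_right _ h7).trans hS3).trans (Nat.mul_le_mul_left _ (by simpa using hQ25))
      omega
    refine small hk ?_ (by omega) (by omega)
    by_contra h
    have hA7 : 3 ^ 7 ≤ 3 ^ A := Nat.pow_le_pow_right (by norm_num) (by omega)
    have h7 : 2 ^ k ≤ 2 ^ 7 := Nat.pow_le_pow_right (by norm_num) hk
    have hn : n3 * 2 ≤ 2 ^ k * 5 ^ B := h3 ▸ Nat.mul_le_mul_left _ (by omega)
    have hn' : 2 ^ k * 5 ^ B ≤ 2 ^ 7 * 5 ^ 2 := Nat.mul_le_mul h7 hQ25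
    have := (Nat.modEq_iff_dvd' g3.le).1 m3.symm
    have := Nat.le_of_dvd (by omega) this
    omega
  · exfalso
    obtain ⟨i, b, hi, hik, hb, hb2, hdvd⟩ := hdeg hA3 hB3
    obtain ⟨j, hj1, hji, hj⟩ : ∃ j, 1 ≤ j ∧ j ≤ i ∧ ((5 ^ B : ℕ) : ℤ) ∣ 4 ^ j - 1 := by
      have hsq : ∀ j : ℕ, ((4 : ℤ) ^ j - 1) = ((2 : ℤ) ^ j - 1) * (2 ^ j + 1) := fun j => by
        rw [show (4 : ℤ) = 2 ^ 2 by norm_num, ← pow_mul, mul_comm 2 j, pow_mul]; ring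
      have hco : IsCoprime ((5 ^ B : ℕ) : ℤ) 2 := by
        rw [Int.isCoprime_iff_nat_coprime]
        simpa using Nat.Coprime.pow_left B (show Nat.Coprime 5 2 by norm_num)
      obtain ⟨i', rfl⟩ : ∃ i', i = i' + 1 := ⟨i - 1, by omega⟩
      rcases (show b = 1 ∨ b = -1 ∨ b = 2 ∨ b = -2 by omega) with rfl | rfl | rfl | rfl
      · exact ⟨i' + 1, by omega, le_rfl, (hsq _) ▸ dvd_mul_of_dvd_left hdvd _⟩
      · exact ⟨i' + 1, by omega, le_rfl, (hsq _) ▸ dvd_mul_of_dvd_right (by simpa using hdvd) _⟩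
      · have h2 : ((5 ^ B : ℕ) : ℤ) ∣ 2 * ((2 : ℤ) ^ i' - 1) := by
          rw [show (2 : ℤ) * ((2 : ℤ) ^ i' - 1) = 2 ^ (i' + 1) - 2 by ring]; exact hdvd
        exact ⟨i', by omega, by omega, (hsq _) ▸ dvd_mul_of_dvd_left (hco.dvd_of_dvd_mul_left h2) _⟩
      · have h2 : ((5 ^ B : ℕ) : ℤ) ∣ 2 * ((2 : ℤ) ^ i' + 1) := by
          rw [show (2 : ℤ) * ((2 : ℤ) ^ i' + 1) = 2 ^ (i' + 1) - -2 by ring]; exact hdvd
        exact ⟨i', by omega, by omega, (hsq _) ▸ dvd_mul_of_dvd_right (hco.dvd_of_dvd_mul_left h2) _⟩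
    have hlarge := exponent_large hj1 hB hj
    have hP27 : 27 ≤ 3 ^ A := (show 27 = 3 ^ 3 by norm_num) ▸ Nat.pow_le_pow_right (by norm_num) hA3
    have hSQ : 2 ^ k < 9 * 5 ^ B := by
      by_contra h
      have h' : 9 * 5 ^ B * (3 ^ A - 1) ≤ 8 * 3 ^ A * 5 ^ B :=
        (Nat.mul_le_mul_right _ (not_lt.1 h)).trans hS3
      have h'' : 9 * (3 ^ A - 1) ≤ 8 * 3 ^ A := by
        refine Nat.le_of_mul_le_mul_right ?_ hQ0
        calc 9 * (3 ^ A - 1) * 5 ^ B = 9 * 5 ^ B * (3 ^ A - 1) := by ring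
          _ ≤ _ := h'
      omega
    have hk : k < 3 * B + 4 :=
      (Nat.pow_lt_pow_iff_right (by norm_num : 1 < 2)).1 (hSQ.trans_le (le_two_pow B))
    have := growth B hB3
    omega

end Cfsg.Agent.SpectrumFive57Arith
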