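import Mathlib
import Cfsg.Agent.Lib.FrobeniusFPF

/-!
Local structure of a finite group all of whose element orders are at most 5: the odd Sylow
subgroups are TI sets containing the centralizers of their non-identity elements, and an
involution normalising one of them inverts it and splits its normalizer.
-/

set_option autoImplicit false
set_option linter.all false

open Subgroup Pointwise

namespace Cfsg.Agent.SpectrumFive57Local

/-- All element orders are at most 5. -/
def Spec (G : Type*) [Group G] : Prop := ∀ g : G, orderOf g ≤ 5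

variable {G : Type*} [Group G] [Finite G]

/-- The two odd primes in question. -/
def IsP (p : ℕ) : Prop := p = 3 ∨ p = 5

theorem IsP.prime {p : ℕ} (hp : IsP p) : p.Prime := by rcases hp with rfl | rfl <;> norm_num

theorem IsP.ne_two {p : ℕ} (hp : IsP p) : p ≠ 2 := by rcases hp with rfl | rfl <;> norm_num

variable (hs : Spec G)
include hs

theorem order_cases (g : G) : orderOf g = 1 ∨ orderOf g = 2 ∨ orderOf g = 3 ∨ orderOf g = 4 ∨
    orderOf g = 5 := by
  have := hs g
  have := orderOf_pos g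
  omega

theorem prime_dvd_cases {g : G} {r : ℕ} (hr : r.Prime) (h : r ∣ orderOf g) :
    r = 2 ∨ r = 3 ∨ r = 5 := by
  have h1 := Nat.le_of_dvd (orderOf_pos g) h
  have := hs g
  have := hr.two_le
  rcases (show r = 2 ∨ r = 3 ∨ r = 4 ∨ r = 5 by omega) with e | e | e | e
  · tauto
  · tauto
  · subst e; exact absurd hr (by norm_num)
  · tauto

theorem order_eq {p : ℕ} (hp : IsP p) {g : G} (h : p ∣ orderOf g) : orderOf g = p := by
  rcases hp with rfl | rfl <;> rcases order_cases hs g with e | e | e | e | e <;> rw [e] at h ⊢ <;>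
    omega

theorem no_commute {r q : ℕ} (hr : r.Prime) (hq : q.Prime) (hne : r ≠ q) {x y : G}
    (hx : orderOf x = r) (hy : orderOf y = q) (hc : Commute x y) : False := by
  have h := hc.orderOf_mul_eq_mul_orderOf_of_coprime
    (by rw [hx, hy]; exact (Nat.coprime_primes hr hq).2 hne)
  have h1 := hs (x * y)
  rw [h, hx, hy] at h1
  have := hr.two_le
  have := hq.two_le
  rcases (show 3 ≤ r ∨ 3 ≤ q by omega) with h3 | h3
  · have : 3 * 2 ≤ r * q := Nat.mul_le_mul h3 hq.two_le
    omega
  · have : 2 * 3 ≤ r * q := Nat.mul_le_mul hr.two_le h3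
    omega

omit [Finite G] hs in
theorem orderOf_sq_one {j : G} (hj : orderOf j = 2) : j * j = 1 := by
  rw [← sq, ← hj, pow_orderOf_eq_one]

theorem isPGroup_centralizer {r : ℕ} (hr : r.Prime) {x : G} (hx : orderOf x = r) :
    IsPGroup r (centralizer ({x} : Set G)) := by
  haveI := Fact.mk hr
  refine IsPGroup.iff_orderOf.2 fun g => ⟨_, Nat.eq_prime_pow_of_unique_prime_dvd
    (orderOf_pos g).ne' fun {q} hq hd => ?_⟩
  rw [← Subgroup.orderOf_coe g] at hd
  by_contra hne
  have hc : Commute (g : G) x := mem_centralizer_singleton_iff.1 g.2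
  exact no_commute hs hr hq (Ne.symm hne) hx
    (orderOf_pow_orderOf_div (orderOf_pos (g : G)).ne' hd) (hc.symm.pow_right _)

theorem pow_eq_one {p : ℕ} (hp : IsP p) {H : Subgroup G} (hH : IsPGroup p H) {g : G} (hg : g ∈ H) :
    g ^ p = 1 := by
  haveI := Fact.mk hp.prime
  obtain ⟨k, hk⟩ := IsPGroup.iff_orderOf.1 hH ⟨g, hg⟩
  rw [Subgroup.orderOf_mk] at hk
  rcases k with _ | k
  · rw [pow_zero, orderOf_eq_one_iff] at hk; rw [hk, one_pow]
  · rw [← order_eq hs hp (g := g) (hk ▸ dvd_pow_self p (Nat.succ_ne_zero k))]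
    exact pow_orderOf_eq_one g

theorem order_of_mem {p : ℕ} (hp : IsP p) {H : Subgroup G} (hH : IsPGroup p H) {g : G} (hg : g ∈ H)
    (hg1 : g ≠ 1) : orderOf g = p :=
  haveI := Fact.mk hp.prime
  orderOf_eq_prime (pow_eq_one hs hp hH hg) hg1

/-- An element of order 2 or a `q`-element cannot centralise a nontrivial element of `H`. -/
theorem fpf {p r : ℕ} (hp : IsP p) (hr : r.Prime) (hne : r ≠ p) {H : Subgroup G} (hH : IsPGroup p H)
    {g u : G} (hg : orderOf g = r) (hu : u ∈ H) (hc : g * u = u * g) : u = 1 := by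
  by_contra h1
  exact no_commute hs hr hp.prime hne hg (order_of_mem hs hp hH hu h1) hc

/-- An involution normalising a `p`-subgroup inverts it. -/
theorem invol_inverts {p : ℕ} (hp : IsP p) {H : Subgroup G} (hH : IsPGroup p H) {j : G}
    (hj : orderOf j = 2) (hn : j ∈ normalizer (H : Set G)) {u : G} (hu : u ∈ H) :
    j * u * j⁻¹ = u⁻¹ := by
  have hjj := orderOf_sq_one hj
  let φ : H →* H :=
    { toFun := fun a => ⟨j * a * j⁻¹, ((mem_normalizer_iff.mp hn) a).mp a.2⟩
      map_one' := Subtype.ext (by simp)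
      map_mul' := fun a b => Subtype.ext (by simp [mul_assoc]) }
  have hfp : MonoidHom.FixedPointFree φ := fun a ha => Subtype.ext
    (fpf hs hp Nat.prime_two (Ne.symm hp.ne_two) hH hj a.2
      (mul_inv_eq_iff_eq_mul.mp (congrArg Subtype.val ha)))
  have hinv : Function.Involutive φ := by
    intro a
    refine Subtype.ext ?_
    show j * (j * (a : G) * j⁻¹) * j⁻¹ = a
    rw [inv_eq_of_mul_eq_one_left hjj]
    calc j * (j * (a : G) * j) * j = (j * j) * a * (j * j) := by group
      _ = a := by rw [hjj, one_mul, mul_one]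
  exact congrArg Subtype.val (congrFun (hfp.coe_eq_inv_of_involutive hinv) ⟨u, hu⟩)

/-- An involution inverting each of two elements: they commute. -/
theorem comm_of_invol {p : ℕ} (hp : IsP p) {H : Subgroup G} (hH : IsPGroup p H) {j : G}
    (hj : orderOf j = 2) (hn : j ∈ normalizer (H : Set G)) {u v : G} (hu : u ∈ H) (hv : v ∈ H) :
    u * v = v * u := by
  have h := invol_inverts hs hp hH hj hn (inv_mem (mul_mem hv hu))
  rw [inv_inv, mul_inv_rev] at h
  calc u * v = (j * u⁻¹ * j⁻¹) * (j * v⁻¹ * j⁻¹) := by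
        rw [invol_inverts hs hp hH hj hn (inv_mem hu), invol_inverts hs hp hH hj hn (inv_mem hv),
          inv_inv, inv_inv]
    _ = j * (u⁻¹ * v⁻¹) * j⁻¹ := by group
    _ = v * u := h

theorem eq_one_of_comm_invol {j g : G} (hj : orderOf j = 2) (hc : Commute g j) : g ^ 4 = 1 := by
  haveI := Fact.mk Nat.prime_two
  obtain ⟨k, hk⟩ := IsPGroup.iff_orderOf.1 (isPGroup_centralizer hs Nat.prime_two hj)
    ⟨g, mem_centralizer_singleton_iff.2 hc⟩
  rw [Subgroup.orderOf_mk] at hk
  have h5 := hs g
  rw [hk] at h5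
  have h4 : orderOf g ∣ 4 := by
    rw [hk, show 4 = 2 ^ 2 by norm_num]
    refine pow_dvd_pow 2 ?_
    by_contra h
    have : 2 ^ 3 ≤ 2 ^ k := Nat.pow_le_pow_right (by norm_num) (by omega)
    omega
  exact orderOf_dvd_iff_pow_eq_one.1 h4

/-- Correct `g` by an element of `H` so that it commutes with the involution `j`. -/
theorem split {p : ℕ} (hp : IsP p) {H : Subgroup G} (hH : IsPGroup p H) {j g : G}
    (hj : orderOf j = 2) (hn : j ∈ normalizer (H : Set G)) (hc : j * (g * j * g⁻¹) ∈ H) :
    ∃ w ∈ H, Commute (w⁻¹ * g) j := by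
  have hjj := orderOf_sq_one hj
  have hji : j⁻¹ = j := inv_eq_of_mul_eq_one_right hjj
  set c := j * (g * j * g⁻¹) with hcdef
  refine ⟨c ^ ((p - 1) / 2), pow_mem hc _, ?_⟩
  set w := c ^ ((p - 1) / 2) with hw
  have hwinv : j * w * j⁻¹ = w⁻¹ := invol_inverts hs hp hH hj hn (pow_mem hc _)
  have hww : w⁻¹ * w⁻¹ = c := by
    rw [← mul_inv_rev, inv_eq_iff_mul_eq_one, hw, ← pow_add, ← pow_succ,
      show (p - 1) / 2 + (p - 1) / 2 + 1 = p by rcases hp with rfl | rfl <;> norm_num]
    exact pow_eq_one hs hp hH hc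
  have hwj : j * w⁻¹ = w * j := by
    calc j * w⁻¹ = j * (j * w * j⁻¹) := by rw [hwinv]
      _ = (j * j) * w * j⁻¹ := by group
      _ = w * j := by rw [hjj, one_mul, hji]
  show w⁻¹ * g * j = j * (w⁻¹ * g)
  calc w⁻¹ * g * j = w⁻¹ * (g * j * g⁻¹) * g := by group
    _ = w⁻¹ * (j * c) * g := by rw [hcdef, ← mul_assoc j, hjj, one_mul]
    _ = w⁻¹ * (j * w⁻¹) * w⁻¹ * g := by rw [← hww]; group
    _ = j * (w⁻¹ * g) := by rw [hwj]; rw [← mul_assoc w⁻¹, inv_mul_cancel, one_mul, mul_assoc]

/-- All elements of order `p` normalising a nontrivial `p`-subgroup lie in one `p`-subgroup. -/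
theorem local_closed {p : ℕ} (hp : IsP p) {D : Subgroup G} (hD : IsPGroup p D) (hD1 : D ≠ ⊥) :
    ∃ R : Subgroup G, IsPGroup p R ∧ ∀ g ∈ normalizer (D : Set G), orderOf g = p → g ∈ R := by
  haveI := Fact.mk hp.prime
  obtain ⟨d, hd, hd1⟩ := D.bot_or_exists_ne_one.resolve_left hD1
  have hdo : orderOf d = p := order_of_mem hs hp hD hd hd1
  by_cases hinv : ∃ j ∈ normalizer (D : Set G), orderOf j = 2
  · obtain ⟨j, hjH, hj⟩ := hinv
    have hC : IsPGroup p (centralizer (D : Set G)) :=
      (isPGroup_centralizer hs hp.prime hdo).to_le (centralizer_le (Set.singleton_subset_iff.2 hd))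
    refine ⟨centralizer (D : Set G), hC, fun g hg hgo => ?_⟩
    have hCn : ∀ a ∈ normalizer (D : Set G), ∀ c ∈ centralizer (D : Set G),
        a * c * a⁻¹ ∈ centralizer (D : Set G) := by
      intro a ha c hc
      refine mem_centralizer_iff.2 fun u hu => ?_
      have h1 : a⁻¹ * u * a ∈ (D : Set G) := by
        have := ((mem_normalizer_iff.1 (inv_mem ha)) u).1 hu
        simpa using this
      have h2 := mem_centralizer_iff.1 hc _ h1
      calc u * (a * c * a⁻¹) = a * ((a⁻¹ * u * a) * c) * a⁻¹ := by group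
        _ = a * (c * (a⁻¹ * u * a)) * a⁻¹ := by rw [h2]
        _ = a * c * a⁻¹ * u := by group
    have hjC : j ∈ normalizer (centralizer (D : Set G) : Set G) := by
      refine mem_normalizer_iff.2 fun c => ⟨hCn j hjH c, fun h => ?_⟩
      have := hCn _ (inv_mem hjH) _ h
      simpa [mul_assoc] using this
    have hgj : orderOf (g * j * g⁻¹) = 2 := by rw [← MulAut.conj_apply, MulEquiv.orderOf_eq, hj]
    have hcmem : j * (g * j * g⁻¹) ∈ centralizer (D : Set G) := by
      refine mem_centralizer_iff.2 fun u hu => ?_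
      have h1 := invol_inverts hs hp hD hgj (mul_mem (mul_mem hg hjH) (inv_mem hg)) hu
      have h2 := invol_inverts hs hp hD hj hjH (inv_mem hu)
      rw [inv_inv] at h2
      set k := g * j * g⁻¹
      calc u * (j * k) = (j * u⁻¹ * j⁻¹) * (j * k) := by rw [h2]
        _ = j * (u⁻¹ * k) := by group
        _ = j * ((k * u * k⁻¹) * k) := by rw [h1]
        _ = j * k * u := by group
    obtain ⟨w, hw, hcomm⟩ := split hs hp hC hj hjC hcmem
    set g' := w⁻¹ * g with hg'
    have hg'H : g' ∈ normalizer (D : Set G) :=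
      mul_mem (inv_mem (centralizer_le_normalizer _ hw)) hg
    have hg4 := eq_one_of_comm_invol hs hj hcomm
    have hind : ∀ n : ℕ, (w * g') ^ n * (g' ^ n)⁻¹ ∈ centralizer (D : Set G) := by
      intro n
      induction n with
      | zero => simp [one_mem]
      | succ n ih =>
        have e : (w * g') ^ (n + 1) * (g' ^ (n + 1))⁻¹ =
            w * (g' * ((w * g') ^ n * (g' ^ n)⁻¹) * g'⁻¹) := by
          rw [pow_succ', pow_succ']; group
        rw [e]; exact mul_mem hw (hCn _ hg'H _ ih)
    have hgp := hind p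
    rw [show w * g' = g by rw [hg', mul_inv_cancel_left], show g ^ p = 1 by rw [← hgo, pow_orderOf_eq_one],
      one_mul, inv_mem_iff] at hgp
    have hp1 : g' ^ p = 1 := by
      have h1 : (g' ^ p) ^ p = 1 := pow_eq_one hs hp hC hgp
      have h2 : (g' ^ p) ^ 4 = 1 := by rw [← pow_mul, mul_comm, pow_mul, hg4, one_pow]
      have h3 := pow_gcd_eq_one.mpr ⟨h1, h2⟩
      rwa [show p.gcd 4 = 1 by rcases hp with rfl | rfl <;> rfl, pow_one] at h3
    have h3 := pow_gcd_eq_one.mpr ⟨hp1, hg4⟩
    rw [show p.gcd 4 = 1 by rcases hp with rfl | rfl <;> rfl, pow_one, hg', inv_mul_eq_one] at h3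
    exact h3 ▸ hw
  · push Not at hinv
    set H := normalizer (D : Set G) with hH
    obtain ⟨q, hq, hqp⟩ : ∃ q, IsP q ∧ q ≠ p := by
      rcases hp with rfl | rfl
      exacts [⟨5, Or.inr rfl, by norm_num⟩, ⟨3, Or.inl rfl, by norm_num⟩]
    haveI := Fact.mk hq.prime
    have hprimes : ∀ r : ℕ, r.Prime → r ∣ Nat.card H → r = p ∨ r = q := by
      intro r hr hd
      haveI := Fact.mk hr
      obtain ⟨a, ha⟩ := exists_prime_orderOf_dvd_card' r hd
      rw [← Subgroup.orderOf_coe] at ha
      rcases prime_dvd_cases hs hr (g := (a : G)) (by rw [ha]) with e | e | e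
      · subst e; exact absurd ha (hinv a a.2)
      all_goals (rcases hp with rfl | rfl <;> rcases hq with rfl | rfl <;> omega)
    -- commuting elements of order `q` in `H` generate the same subgroup
    have hZ : ∀ z ∈ H, ∀ y ∈ H, orderOf z = q → orderOf y = q → Commute y z → y ∈ zpowers z := by
      intro z hz y hy hzo hyo hc
      set A := closure ({z, y} : Set G) with hA
      have hAc : IsMulCommutative A := by
        refine isMulCommutative_closure ?_
        rintro a (rfl | rfl) b (rfl | rfl) <;> first | rfl | exact hc.eq | exact hc.eq.symm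
      have hAH : A ≤ H := (closure_le _).2 (by rintro a (rfl | rfl) <;> assumption)
      have hAq : ∀ a ∈ A, a ^ q = 1 := by
        haveI := hAc
        intro a ha
        induction ha using closure_induction with
        | mem a ha => rcases ha with rfl | rfl <;> [rw [← hzo]; rw [← hyo]] <;> exact pow_orderOf_eq_one _
        | one => exact one_pow _
        | mul a b ha hb iha ihb =>
          rw [(show Commute a b from congrArg Subtype.val (mul_comm' (⟨a, ha⟩ : A) ⟨b, hb⟩)).mul_pow,
            iha, ihb, one_mul]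
        | inv a ha iha => rw [inv_pow, iha, inv_one]
      haveI : Nontrivial D := (Subgroup.nontrivial_iff_ne_bot D).2 hD1
      haveI := hD.center_nontrivial
      set V := (Subgroup.center D).map D.subtype with hV
      have hVc : IsMulCommutative V := by
        refine ⟨⟨?_⟩⟩
        rintro ⟨_, a, ha, rfl⟩ ⟨_, b, hb, rfl⟩
        exact Subtype.ext (congrArg Subtype.val (mem_center_iff.1 hb a) : (a : G) * b = b * a)
      have hV1 : V ≠ ⊥ := by
        rw [hV, Ne, Subgroup.map_eq_bot_iff_of_injective _ D.subtype_injective]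
        exact (Subgroup.nontrivial_iff_ne_bot _).1 inferInstance
      have hAV : A ≤ normalizer (V : Set G) := by
        refine le_trans hAH ?_
        intro a ha
        have hmap : ∀ a ∈ H, ∀ v ∈ V, a * v * a⁻¹ ∈ V := by
          rintro a ha _ ⟨⟨v, hv⟩, hvc, rfl⟩
          refine ⟨⟨a * v * a⁻¹, ((mem_normalizer_iff.1 ha) v).1 hv⟩, mem_center_iff.2 fun u => ?_, rfl⟩
          have hu : a⁻¹ * (u : G) * a ∈ D := by
            have := ((mem_normalizer_iff.1 (inv_mem ha)) u).1 u.2
            simpa using this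
          have h2 : a⁻¹ * (u : G) * a * v = v * (a⁻¹ * (u : G) * a) :=
            congrArg Subtype.val (mem_center_iff.1 hvc ⟨_, hu⟩)
          refine Subtype.ext ?_
          show (u : G) * (a * v * a⁻¹) = a * v * a⁻¹ * u
          calc (u : G) * (a * v * a⁻¹) = a * (a⁻¹ * u * a * v) * a⁻¹ := by group
            _ = a * (v * (a⁻¹ * u * a)) * a⁻¹ := by rw [h2]
            _ = a * v * a⁻¹ * u := by group
        refine mem_normalizer_iff.2 fun v => ⟨hmap a ha v, fun h => ?_⟩
        have := hmap _ (inv_mem ha) _ h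
        simpa [mul_assoc] using this
      have hcyc := FrobeniusFPF.isCyclic_of_fpf A V hVc hV1 hAV (fun a ha ha1 => by
        rw [eq_bot_iff]
        rintro v ⟨hv, hvC⟩
        rw [mem_bot]
        exact fpf hs hp hq.prime hqp hD (orderOf_eq_prime (hAq a ha) ha1)
          (Subgroup.map_subtype_le _ hv) (mem_centralizer_iff.1 hvC a rfl)) (Or.inl hAc)
      obtain ⟨a, ha⟩ := hcyc.exists_generator
      have hcard : Nat.card A ≤ q := by
        rw [← orderOf_eq_card_of_forall_mem_zpowers ha]
        exact orderOf_le_of_pow_eq_one hq.prime.pos (Subtype.ext (by simpa using hAq a a.2))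
      have heq : zpowers z = A := eq_of_le_of_card_ge
        (zpowers_le.2 (subset_closure (Or.inl rfl))) (by rw [Nat.card_zpowers, hzo]; exact hcard)
      rw [heq]
      exact subset_closure (Or.inr rfl)
    obtain ⟨Y⟩ : Nonempty (Sylow q H) := inferInstance
    have hYq : Nat.card (Y : Subgroup H) ∣ q := by
      set Y' := (Y : Subgroup H).map H.subtype with hY'
      have hY'p : IsPGroup q Y' := Y.isPGroup'.map _
      rw [← card_map_of_injective (K := (Y : Subgroup H)) H.subtype_injective, ← hY']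
      rcases eq_or_ne Y' ⊥ with e | e
      · rw [e, card_bot]; exact one_dvd _
      haveI : Nontrivial Y' := (Subgroup.nontrivial_iff_ne_bot _).2 e
      haveI := hY'p.center_nontrivial
      obtain ⟨⟨z, hzc⟩, hz1⟩ := exists_ne (1 : Subgroup.center Y')
      have hz1' : (z : G) ≠ 1 := fun h => hz1 (Subtype.ext (Subtype.ext h))
      have hle : Y' ≤ zpowers (z : G) := by
        intro y hy
        rcases eq_or_ne y 1 with rfl | hy1
        · exact one_mem _
        exact hZ z (map_subtype_le _ z.2) y (map_subtype_le _ hy) (order_of_mem hs hq hY'p z.2 hz1')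
          (order_of_mem hs hq hY'p hy hy1) (congrArg Subtype.val (mem_center_iff.1 hzc ⟨y, hy⟩))
      have := card_dvd_of_le hle
      rwa [Nat.card_zpowers, order_of_mem hs hq hY'p z.2 hz1'] at this
    obtain ⟨R₀⟩ : Nonempty (Sylow p H) := inferInstance
    have hidx : (R₀ : Subgroup H).index ∣ q := by
      have hnd := R₀.not_dvd_index
      have hd : (R₀ : Subgroup H).index ∣ Nat.card H := index_dvd_card _
      have hall : ∀ r : ℕ, r.Prime → r ∣ (R₀ : Subgroup H).index → r = q := fun r hr h =>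
        (hprimes r hr (h.trans hd)).resolve_left (fun e => hnd (e ▸ h))
      have he := Nat.eq_prime_pow_of_unique_prime_dvd (p := q) index_ne_zero_of_finite
        (fun {r} hr h => hall r hr h)
      rw [he] at hd ⊢
      refine dvd_trans ?_ hYq
      exact Sylow.pow_dvd_card_of_pow_dvd_card Y hd
    have huniq : Subsingleton (Sylow p H) := by
      rw [← Finite.card_le_one_iff_subsingleton]
      have h1 := (card_sylow_modEq_one p H)
      have h2 : Nat.card (Sylow p H) ∣ q := R₀.card_dvd_index.trans hidx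
      rcases (Nat.dvd_prime hq.prime).1 h2 with e | e
      · rw [e]
      · rw [e] at h1
        unfold Nat.ModEq at h1
        rcases hp with rfl | rfl <;> rcases hq with rfl | rfl <;> omega
    refine ⟨(R₀ : Subgroup H).map H.subtype, R₀.isPGroup'.map _, fun g hg hgo => ?_⟩
    obtain ⟨R', hR'⟩ := (IsPGroup.of_card (n := 1) (by
      rw [Nat.card_zpowers, Subgroup.orderOf_mk, hgo, pow_one]) :
        IsPGroup p (zpowers (⟨g, hg⟩ : H))).exists_le_sylow
    exact ⟨⟨g, hg⟩, (Subsingleton.elim R' R₀) ▸ hR' (mem_zpowers _), rfl⟩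

/-- Distinct Sylow `p`-subgroups meet trivially. -/
theorem sylow_ti {p : ℕ} [Fact p.Prime] (hp : IsP p) (P P' : Sylow p G)
    (h : (P : Subgroup G) ⊓ P' ≠ ⊥) : P = P' := by
  classical
  by_contra hne
  let S := {D : Subgroup G | ∃ A B : Sylow p G, A ≠ B ∧ D = (A : Subgroup G) ⊓ B ∧ D ≠ ⊥}
  obtain ⟨D, hmax⟩ := (Set.toFinite S).exists_maximal ⟨_, P, P', hne, rfl, h⟩
  obtain ⟨A, B, hAB, rfl, hD⟩ := hmax.1
  obtain ⟨R, hR, hRmem⟩ := local_closed hs hp (A.isPGroup'.to_le inf_le_left) hD
  obtain ⟨T, hT⟩ := hR.exists_le_sylow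
  have key : ∀ C : Sylow p G, (A : Subgroup G) ⊓ B < (C : Subgroup G) → T = C := by
    intro C hlt
    have hNC : Group.IsNilpotent (C : Subgroup G) := C.isPGroup'.isNilpotent
    have hlt' : (((A : Subgroup G) ⊓ B).subgroupOf C) < ⊤ := by
      rw [lt_top_iff_ne_top]
      intro e
      rw [subgroupOf_eq_top] at e
      exact absurd (le_antisymm hlt.le e) hlt.ne
    obtain ⟨c, hc, hcD⟩ := SetLike.exists_of_lt (Group.normalizerCondition_of_isNilpotent _ hlt')
    have hcN : (c : G) ∈ normalizer (((A : Subgroup G) ⊓ B : Subgroup G) : Set G) := by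
      refine mem_normalizer_iff.2 fun u => ⟨fun hu => ?_, fun hu => ?_⟩
      · exact ((mem_normalizer_iff.1 hc) ⟨u, hlt.le hu⟩).1 hu
      · have huC : u ∈ (C : Subgroup G) := by
          have := mul_mem (mul_mem (inv_mem c.2) (hlt.le hu)) c.2
          simpa [mul_assoc] using this
        exact ((mem_normalizer_iff.1 hc) ⟨u, huC⟩).2 hu
    have hc1 : (c : G) ≠ 1 := fun e => hcD (by rw [mem_subgroupOf, e]; exact one_mem _)
    have hcR : (c : G) ∈ (T : Subgroup G) := hT (hRmem _ hcN (order_of_mem hs hp C.isPGroup' c.2 hc1))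
    by_contra hTC
    have hsub : (A : Subgroup G) ⊓ B ≤ (T : Subgroup G) ⊓ C := by
      refine le_inf (fun u hu => ?_) hlt.le
      rcases eq_or_ne u 1 with rfl | hu1
      · exact one_mem _
      exact hT (hRmem u (le_normalizer hu) (order_of_mem hs hp (A.isPGroup'.to_le inf_le_left) hu hu1))
    have hne' : (T : Subgroup G) ⊓ C ≠ ⊥ := fun e => hD (le_bot_iff.1 (e ▸ hsub))
    have := hmax.2 ⟨T, C, hTC, rfl, hne'⟩ hsub
    exact hcD (mem_subgroupOf.2 (this ⟨hcR, c.2⟩))
  have hA : (A : Subgroup G) ⊓ B < (A : Subgroup G) := lt_of_le_of_ne inf_le_left fun e => hAB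
    (Sylow.ext (A.is_maximal' B.isPGroup' (e ▸ inf_le_right)).symm)
  have hB : (A : Subgroup G) ⊓ B < (B : Subgroup G) := lt_of_le_of_ne inf_le_right fun e => hAB
    (Sylow.ext (B.is_maximal' A.isPGroup' (e ▸ inf_le_left)))
  exact hAB ((key A hA).symm.trans (key B hB))

variable {p : ℕ} [Fact p.Prime] (hp : IsP p)
include hp

theorem sylow_unique {P P' : Sylow p G} {u : G} (hu : u ∈ (P : Subgroup G))
    (hu' : u ∈ (P' : Subgroup G)) (h1 : u ≠ 1) : P = P' :=
  sylow_ti hs hp P P' fun e => h1 (mem_bot.1 (e ▸ ⟨hu, hu'⟩ : u ∈ (⊥ : Subgroup G)))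

theorem mem_normalizer_of_conj (P : Sylow p G) {g u : G} (hu : u ∈ (P : Subgroup G)) (h1 : u ≠ 1)
    (hgu : g * u * g⁻¹ ∈ (P : Subgroup G)) : g ∈ normalizer ((P : Subgroup G) : Set G) := by
  refine Sylow.smul_eq_iff_mem_normalizer.mp ?_
  exact sylow_unique hs hp (u := g * u * g⁻¹) ⟨u, hu, rfl⟩ hgu fun e => h1 (conj_eq_one_iff.1 e)

theorem isTISubset (P : Sylow p G) : ∀ g : G, g ∉ normalizer ((P : Subgroup G) : Set G) →
    ∀ u ∈ ((P : Subgroup G) : Set G), g * u * g⁻¹ ∈ ((P : Subgroup G) : Set G) → u = 1 :=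
  fun g hg u hu hgu => by_contra fun h1 => hg (mem_normalizer_of_conj hs hp P hu h1 hgu)

theorem mem_of_normalizer (P : Sylow p G) {g : G} (hg : g ∈ normalizer ((P : Subgroup G) : Set G))
    (hgo : orderOf g = p) : g ∈ (P : Subgroup G) := by
  have hsup : IsPGroup p ((P : Subgroup G) ⊔ zpowers g : Subgroup G) :=
    (P.isPGroup').to_sup_of_normal_left' (IsPGroup.of_card (n := 1) (by rw [Nat.card_zpowers, hgo, pow_one]))
      (zpowers_le.2 hg)
  exact (P.is_maximal' hsup le_sup_left) ▸ mem_sup_right (mem_zpowers g)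

theorem centralizer_le_sylow (P : Sylow p G) {u g : G} (hu : u ∈ (P : Subgroup G)) (h1 : u ≠ 1)
    (hg : g * u = u * g) : g ∈ (P : Subgroup G) := by
  rcases eq_or_ne g 1 with rfl | hg1
  · exact one_mem _
  refine mem_of_normalizer hs hp P (mem_normalizer_of_conj hs hp P hu h1 ?_) ?_
  · rwa [hg, mul_inv_cancel_right]
  · exact order_of_mem hs hp (isPGroup_centralizer hs hp.prime (order_of_mem hs hp P.isPGroup' hu h1))
      (mem_centralizer_singleton_iff.2 hg) hg1

theorem mem_normalizer_of_inverts (P : Sylow p G) {j u : G} (hu : u ∈ (P : Subgroup G)) (h1 : u ≠ 1)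
    (hinv : j * u * j⁻¹ = u⁻¹) : j ∈ normalizer ((P : Subgroup G) : Set G) :=
  mem_normalizer_of_conj hs hp P hu h1 (hinv ▸ inv_mem hu)

/-- The normalizer splits over `P` by the centralizer of an involution of it. -/
theorem normalizer_split (hdvd : p ∣ Nat.card G) (P : Sylow p G) {j g : G} (hj : orderOf j = 2)
    (hjN : j ∈ normalizer ((P : Subgroup G) : Set G)) (hg : g ∈ normalizer ((P : Subgroup G) : Set G)) :
    ∃ w ∈ (P : Subgroup G), Commute (w⁻¹ * g) j := by
  refine split hs hp P.isPGroup' hj hjN ?_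
  have hk : orderOf (g * j * g⁻¹) = 2 := by rw [← MulAut.conj_apply, MulEquiv.orderOf_eq, hj]
  obtain ⟨u, hu, hu1⟩ := (P : Subgroup G).bot_or_exists_ne_one.resolve_left
    (P.ne_bot_of_dvd_card hdvd)
  refine centralizer_le_sylow hs hp P hu hu1 ?_
  have h1 := invol_inverts hs hp P.isPGroup' hk (mul_mem (mul_mem hg hjN) (inv_mem hg)) hu
  have h2 := invol_inverts hs hp P.isPGroup' hj hjN (inv_mem hu)
  rw [inv_inv] at h2
  set k := g * j * g⁻¹
  calc j * k * u = j * ((k * u * k⁻¹) * k) := by group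
    _ = j * (u⁻¹ * k) := by rw [h1]
    _ = (j * u⁻¹ * j⁻¹) * (j * k) := by group
    _ = u * (j * k) := by rw [h2]

end Cfsg.Agent.SpectrumFive57Local
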