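import Mathlib

/-!
# Word identities in the triangle groups (2,3,4) and (2,3,5)

In a group, an involution `a` and an element `b` of order 3 with `a*b` of order dividing 5 force
conjugates of `a` inverting `b` and `a*b`; with `(a*b)^4 = 1` a conjugate of `a` inverts `b`.
Also the key relation excluding non-real elements of order 5.
-/

set_option autoImplicit false

namespace Cfsg.Agent.SpectrumFive57Words

variable {G : Type*} [Group G]

/-- If `a` inverts `h * c * h⁻¹` then `h⁻¹ * a * h` inverts `c`. -/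
theorem inverts_transfer {a c h : G} (H : a * (h * c * h⁻¹) * a⁻¹ = (h * c * h⁻¹)⁻¹) :
    (h⁻¹ * a * h) * c * (h⁻¹ * a * h)⁻¹ = c⁻¹ := by
  calc (h⁻¹ * a * h) * c * (h⁻¹ * a * h)⁻¹ = h⁻¹ * (a * (h * c * h⁻¹) * a⁻¹) * h := by group
    _ = h⁻¹ * (h * c * h⁻¹)⁻¹ * h := by rw [H]
    _ = c⁻¹ := by group

/-- A product of two involutions is inverted by the first one. -/
theorem inverts_mul {a b : G} (ha : a * a = 1) (hb : b * b = 1) :
    a * (a * b) * a⁻¹ = (a * b)⁻¹ := by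
  rw [mul_inv_rev, inv_eq_of_mul_eq_one_right ha, inv_eq_of_mul_eq_one_right hb, ← mul_assoc, ha,
    one_mul]

theorem conj_mul_self {a h : G} (ha : a * a = 1) : (h * a * h⁻¹) * (h * a * h⁻¹) = 1 := by
  rw [show h * a * h⁻¹ * (h * a * h⁻¹) = h * (a * a) * h⁻¹ by group, ha, mul_one, mul_inv_cancel]

/-- (2,3,4): a conjugate of the involution inverts the element of order 3. -/
theorem four_inverts {a b : G} (ha : a * a = 1) (hb : b ^ 3 = 1) (h : (a * b) ^ 4 = 1) :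
    ∃ c : G, (c * a * c⁻¹) * b * (c * a * c⁻¹)⁻¹ = b⁻¹ := by
  have hai := inv_eq_of_mul_eq_one_right ha
  have hbb : b⁻¹ * b⁻¹ = b := by
    rw [← mul_inv_rev, inv_eq_iff_mul_eq_one, ← hb, pow_succ, sq]
  have hR : a * b * a * b = b⁻¹ * a * b⁻¹ * a := by
    calc a * b * a * b = (a * b) ^ 2 := by rw [sq]; group
      _ = ((a * b) ^ 2)⁻¹ := eq_inv_of_mul_eq_one_left (by rw [← pow_add]; exact h)
      _ = _ := by rw [sq, mul_inv_rev, mul_inv_rev, hai]; group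
  have key : a * (b * a * b⁻¹) = (b⁻¹ * a) * b⁻¹ * (b⁻¹ * a)⁻¹ := by
    calc a * (b * a * b⁻¹) = (a * b * a * b) * (b⁻¹ * b⁻¹) := by group
      _ = b⁻¹ * a * b⁻¹ * a * b := by rw [hR, hbb]
      _ = _ := by rw [mul_inv_rev, hai, inv_inv]; group
  have h1 := inverts_mul ha (conj_mul_self (h := b) ha)
  rw [key] at h1
  refine ⟨(b⁻¹ * a)⁻¹, ?_⟩
  have h2 := inverts_transfer h1
  have h3 := congrArg (·⁻¹) h2
  simp only [inv_inv] at h3
  rw [inv_inv ((b⁻¹ * a))]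
  rw [inv_inv] at h2
  calc _ = ((b⁻¹ * a)⁻¹ * a * (b⁻¹ * a) * b⁻¹ * ((b⁻¹ * a)⁻¹ * a * (b⁻¹ * a))⁻¹)⁻¹ := by group
    _ = b⁻¹ := by rw [h2]

/-- (2,3,5): conjugates of the involution invert the element of order 3 and the product. -/
theorem five_inverts {a b : G} (ha : a * a = 1) (hb : b ^ 3 = 1) (h : (a * b) ^ 5 = 1) :
    (∃ c : G, (c * a * c⁻¹) * b * (c * a * c⁻¹)⁻¹ = b⁻¹) ∧
      ∃ c : G, (c * a * c⁻¹) * (a * b) * (c * a * c⁻¹)⁻¹ = (a * b)⁻¹ := by
  have hai := inv_eq_of_mul_eq_one_right ha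
  have hbb : b⁻¹ * b⁻¹ = b := by
    rw [← mul_inv_rev, inv_eq_iff_mul_eq_one, ← hb, pow_succ, sq]
  have hbi : b * b = b⁻¹ := eq_inv_of_mul_eq_one_left (by rw [← hb, pow_succ, sq])
  have hR : a * b * a * b = b⁻¹ * a * b⁻¹ * a * b⁻¹ * a := by
    calc a * b * a * b = (a * b) ^ 2 := by rw [sq]; group
      _ = ((a * b) ^ 3)⁻¹ := eq_inv_of_mul_eq_one_left (by rw [← pow_add]; exact h)
      _ = _ := by
        rw [pow_succ, sq]
        simp only [mul_inv_rev, hai, mul_assoc]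
  have e1 : a * (b * a * b⁻¹) = (b⁻¹ * a * b⁻¹) * (a * b) * (b⁻¹ * a * b⁻¹)⁻¹ := by
    calc a * (b * a * b⁻¹) = (a * b * a * b) * (b⁻¹ * b⁻¹) := by group
      _ = b⁻¹ * a * b⁻¹ * a * b⁻¹ * a * b := by rw [hR, hbb]
      _ = b⁻¹ * a * b⁻¹ * a * (b * b) * a * b := by rw [hbi]
      _ = _ := by simp only [mul_inv_rev, hai, inv_inv, mul_assoc]
  have e2 : a * ((b * a * b) * a * (b * a * b)⁻¹) =
      (b⁻¹ * a * b * a) * b⁻¹ * (b⁻¹ * a * b * a)⁻¹ := by
    calc a * ((b * a * b) * a * (b * a * b)⁻¹) = (a * b * a * b) * a * b⁻¹ * a⁻¹ * b⁻¹ := by group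
      _ = b⁻¹ * a * b⁻¹ * a * b⁻¹ * (a * a) * b⁻¹ * a * b⁻¹ := by rw [hR, hai]; group
      _ = b⁻¹ * a * b⁻¹ * a * (b⁻¹ * b⁻¹) * a * b⁻¹ := by rw [ha]; group
      _ = b⁻¹ * a * b⁻¹ * (a * b * a * b⁻¹) := by rw [hbb]; group
      _ = b⁻¹ * a * b⁻¹ * ((a * b * a * b) * (b⁻¹ * b⁻¹)) := by group
      _ = b⁻¹ * a * (b⁻¹ * b⁻¹) * a * b⁻¹ * a * b⁻¹ * a * (b⁻¹ * b⁻¹) := by rw [hR]; group
      _ = (b⁻¹ * a * b * a) * b⁻¹ * (b⁻¹ * a * b * a)⁻¹ := by
        rw [hbb, mul_inv_rev, mul_inv_rev, mul_inv_rev, hai, inv_inv]; group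
  refine ⟨?_, ?_⟩
  · have h1 := inverts_mul ha (conj_mul_self (h := b * a * b) ha)
    rw [e2] at h1
    refine ⟨(b⁻¹ * a * b * a)⁻¹, ?_⟩
    have h2 := inverts_transfer h1
    rw [inv_inv] at h2
    rw [inv_inv]
    set w := (b⁻¹ * a * b * a)⁻¹ * a * (b⁻¹ * a * b * a)
    calc w * b * w⁻¹ = (w * b⁻¹ * w⁻¹)⁻¹ := by group
      _ = b⁻¹ := by rw [h2]
  · have h1 := inverts_mul ha (conj_mul_self (h := b) ha)
    rw [e1] at h1
    refine ⟨(b⁻¹ * a * b⁻¹)⁻¹, ?_⟩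
    rw [inv_inv]
    exact inverts_transfer h1

/-- The key relation: `k` an involution, `y` of order dividing 5. -/
theorem five_eq_one {k y t v : G} (hk : k * k = 1) (hy : y ^ 5 = 1)
    (h1 : (k * y) ^ 4 = 1) (h2 : (k * (y * y)) ^ 4 = 1)
    (ht : t = k * y * k * y) (hv : v = t * (y⁻¹ * t * y)) (h3 : (v * y) ^ 4 = 1) : y = 1 := by
  have htt : t * t = 1 := by
    rw [← h1, ht]; simp only [pow_succ, pow_zero, one_mul, mul_assoc]
  have hs : (t * (y⁻¹ * t * y)) * (t * (y⁻¹ * t * y)) = 1 := by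
    have e : t * (y⁻¹ * t * y) = k * (y * y) * k * (y * y) := by
      calc t * (y⁻¹ * t * y) = k * y * k * y * y⁻¹ * k * y * k * y * y := by rw [ht]; group
        _ = k * y * (k * k) * y * k * y * y := by group
        _ = _ := by rw [hk, mul_one]; group
    rw [e, ← h2]; simp only [pow_succ, pow_zero, one_mul, mul_assoc]
  -- conjugates of `t` by powers of `y`
  set T : ℤ → G := fun i => y ^ (-i) * t * y ^ i with hT
  have hTT : ∀ i, T i * T i = 1 := fun i => by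
    have : T i * T i = y ^ (-i) * (t * t) * y ^ i := by rw [hT]; group
    rw [this, htt, mul_one, ← zpow_add, neg_add_cancel, zpow_zero]
  have hTc : ∀ i, T i * T (i + 1) = T (i + 1) * T i := by
    intro i
    have h0 : t * (y⁻¹ * t * y) = (y⁻¹ * t * y) * t := by
      have hs1 : (y⁻¹ * t * y) * (y⁻¹ * t * y) = 1 := by
        rw [show y⁻¹ * t * y * (y⁻¹ * t * y) = y⁻¹ * (t * t) * y by group, htt, mul_one,
          inv_mul_cancel]
      calc t * (y⁻¹ * t * y) = (t * (y⁻¹ * t * y))⁻¹ := eq_inv_of_mul_eq_one_left hs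
        _ = (y⁻¹ * t * y) * t := by
          rw [mul_inv_rev, inv_eq_of_mul_eq_one_right hs1, inv_eq_of_mul_eq_one_right htt]
    calc T i * T (i + 1) = y ^ (-i) * (t * (y⁻¹ * t * y)) * y ^ i := by rw [hT]; group
      _ = y ^ (-i) * ((y⁻¹ * t * y) * t) * y ^ i := by rw [h0]
      _ = T (i + 1) * T i := by rw [hT]; group
  have hper : ∀ i, T (i + 5) = T i := by
    intro i
    have h5 : y ^ (5 : ℤ) = 1 := by exact_mod_cast hy
    have h5' : y ^ (-5 : ℤ) = 1 := by rw [zpow_neg, h5, inv_one]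
    calc T (i + 5) = y ^ (-5 : ℤ) * T i * y ^ (5 : ℤ) := by rw [hT]; group
      _ = T i := by rw [h5', h5, one_mul, mul_one]
  have hv0 : v = T 0 * T 1 := by rw [hv, hT]; group
  -- expansion of the fourth power
  have hexp : (v * y) ^ 4 = T 0 * T 1 * (T 4 * T 5) * (T 3 * T 4) * (T 2 * T 3) * y ^ 4 := by
    have q4 : T 4 = T (-1) := by rw [← hper (-1)]; norm_num
    have q5 : T 5 = T 0 := by rw [← hper 0]; norm_num
    have e4 : T 4 * T 5 = y * v * y⁻¹ := by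
      rw [q4, q5, hv0, hT]
      group
    have e3 : T 3 * T 4 = y ^ 2 * v * (y ^ 2)⁻¹ := by
      rw [q4, show T 3 = T (-2) by rw [← hper (-2)]; norm_num, hv0, hT]
      group
    have e2 : T 2 * T 3 = y ^ 3 * v * (y ^ 3)⁻¹ := by
      rw [show T 3 = T (-2) by rw [← hper (-2)]; norm_num, show T 2 = T (-3) by rw [← hper (-3)]; norm_num,
        hv0, hT]
      group
    rw [← hv0, e4, e3, e2]
    simp only [pow_succ, pow_zero, one_mul]
    group
  have hred : T 0 * T 1 * (T 4 * T 5) * (T 3 * T 4) * (T 2 * T 3) = T 1 * T 2 := by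
    have p5 : T 5 = T 0 := by rw [show (5 : ℤ) = 0 + 5 by norm_num, hper]
    have c45 : T 4 * T 0 = T 0 * T 4 := by
      rw [← p5]; exact hTc 4
    have c34 : T 3 * T 4 = T 4 * T 3 := hTc 3
    have c23 : T 2 * T 3 = T 3 * T 2 := hTc 2
    have c01 : T 0 * T 1 = T 1 * T 0 := hTc 0
    calc T 0 * T 1 * (T 4 * T 5) * (T 3 * T 4) * (T 2 * T 3)
        = T 0 * T 1 * (T 0 * T 4) * (T 4 * T 3) * (T 3 * T 2) := by rw [p5, c45, c34, c23]
      _ = (T 0 * T 1) * T 0 * (T 4 * T 4) * (T 3 * T 3) * T 2 := by group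
      _ = T 1 * (T 0 * T 0) * T 2 := by rw [hTT 4, hTT 3, c01, mul_one, mul_one, mul_assoc (T 1)]
      _ = T 1 * T 2 := by rw [hTT 0, mul_one]
  rw [hexp, hred] at h3
  have hy4 : y ^ 4 = y⁻¹ := eq_inv_of_mul_eq_one_left (by rw [← pow_succ]; exact hy)
  rw [hy4, mul_inv_eq_one] at h3
  have hy2 : y ^ 2 = 1 := by
    rw [sq, ← h3]
    calc T 1 * T 2 * (T 1 * T 2) = T 1 * (T 2 * T 1) * T 2 := by group
      _ = T 1 * T 1 * (T 2 * T 2) := by
        have c12 : T 1 * T 2 = T 2 * T 1 := by have := hTc 1; norm_num at this; exact this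
        rw [← c12]; group
      _ = 1 := by rw [hTT, hTT, mul_one]
  calc y = y ^ 5 * (y ^ 2 * y ^ 2)⁻¹ := by group
    _ = 1 := by rw [hy, hy2, mul_one, inv_one, mul_one]

/-- In the situation of `five_eq_one`, `v * y` is a product of two involutions. -/
theorem mul_eq_comm {k y t v : G} (hk : k * k = 1) (hy : y ^ 5 = 1)
    (ht : t = k * y * k * y) (hv : v = t * (y⁻¹ * t * y)) :
    v * y = k * ((y * y) * k * (y * y)⁻¹) := by
  have h3 : y * y * y = (y * y)⁻¹ := eq_inv_of_mul_eq_one_left (by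
    rw [← hy]; simp only [pow_succ, pow_zero, one_mul, mul_assoc])
  calc v * y = k * y * k * y * y⁻¹ * k * y * k * y * y * y := by rw [hv, ht]; group
    _ = k * y * (k * k) * y * k * (y * y * y) := by group
    _ = _ := by rw [hk, h3, mul_one]; group

end Cfsg.Agent.SpectrumFive57Words
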