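import Cfsg.Prelude
import Cfsg.Agent.Lib.CharInducedTI
import Cfsg.Agent.Lib.FrobeniusBasic
import Cfsg.Agent.Lib.CoprimeAction
import Cfsg.Agent.Lib.PGroupsBasic
import Cfsg.Agent.Lib.OddLocalBase

/-!
A TI subgroup with a normal complement in its normaliser, of order coprime to its index there:
it has a normal complement in the whole group and is isomorphic to a Frobenius complement.
-/

set_option autoImplicit false

open scoped Pointwise

namespace Cfsg.Agent.TIHallComplement

open Cfsg Cfsg.Agent.CharBasic Cfsg.Agent.CharBasicOrth Cfsg.Agent.CharBasicDecomp Cfsg.Agent.CharInduced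

universe u

/-- A group partitioned by self-normalising TI subgroups is one of the parts. -/
theorem single_part {X : Type*} [Group X] [Finite X] [Nontrivial X] (P : Subgroup X → Prop)
    (ti : ∀ D, P D → ∀ g x : X, x ∈ D → x ≠ 1 → g⁻¹ * x * g ∈ D → g ∈ D)
    (cover : ∀ x : X, x ≠ 1 → ∃ D, P D ∧ x ∈ D)
    (uniq : ∀ D E, P D → P E → ∀ x : X, x ≠ 1 → x ∈ D → x ∈ E → D = E)
    (hconj : ∀ D, P D → ∀ g : X, P (MulAut.conj g • D)) : P ⊤ := by
  classical
  by_contra htop
  have frob : ∀ D, P D → ∀ x : X, x ≠ 1 → x ∈ D → IsFrobeniusComplement D := fun D hD x hx hxD =>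
    FrobeniusBasic.isFrobeniusComplement_of_ti (fun e => hx (Subgroup.mem_bot.mp (e ▸ hxD)))
      (fun e => htop (e ▸ hD)) (ti D hD)
  obtain ⟨x, hx⟩ := exists_ne (1 : X)
  obtain ⟨D, hD, hxD⟩ := cover x hx
  have hDf := frob D hD x hx hxD
  have h1 := FrobeniusBasic.card_conjClosure_add hDf
  have h2 := FrobeniusBasic.two_mul_index_le hDf.1
  have hidx : 1 < D.index := by
    have h0 : D.index ≠ 0 := Subgroup.index_ne_zero_of_finite
    have h1 : D.index ≠ 1 := fun e => hDf.2.1 (Subgroup.index_eq_one.mp e)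
    omega
  obtain ⟨y, hy1, hyD⟩ : ∃ y : X, y ≠ 1 ∧ y ∉ FrobeniusBasic.conjClosure D := by
    by_contra hno
    push Not at hno
    have hsub : ({1}ᶜ : Set X) ⊆ FrobeniusBasic.conjClosure D := fun y hy => hno y hy
    have := Set.ncard_le_ncard hsub (Set.toFinite _)
    rw [Set.ncard_compl, Set.ncard_singleton] at this
    omega
  obtain ⟨E, hE, hyE⟩ := cover y hy1
  have hEf := frob E hE y hy1 hyE
  have h3 := FrobeniusBasic.card_conjClosure_add hEf
  have h4 := FrobeniusBasic.two_mul_index_le hEf.1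
  have hdisj : Disjoint (FrobeniusBasic.conjClosure D) (FrobeniusBasic.conjClosure E) := by
    rw [Set.disjoint_left]
    rintro z ⟨hz1, g, hg⟩ ⟨-, k, hk⟩
    have e := uniq _ _ (hconj D hD g) (hconj E hE k) z hz1 (FrobeniusBasic.mem_conj_smul_iff.mpr hg)
      (FrobeniusBasic.mem_conj_smul_iff.mpr hk)
    refine hyD ⟨hy1, k⁻¹ * g, ?_⟩
    have hy' : k * y * k⁻¹ ∈ MulAut.conj g • D := by
      rw [e, FrobeniusBasic.mem_conj_smul_iff]; simpa [mul_assoc] using hyE
    rw [FrobeniusBasic.mem_conj_smul_iff] at hy'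
    simpa [mul_assoc] using hy'
  have h5 : (FrobeniusBasic.conjClosure D ∪ FrobeniusBasic.conjClosure E).ncard ≤ ({1}ᶜ : Set X).ncard :=
    Set.ncard_le_ncard (Set.union_subset (fun z hz => hz.1) fun z hz => hz.1) (Set.toFinite _)
  rw [Set.ncard_union_eq hdisj (Set.toFinite _) (Set.toFinite _), Set.ncard_compl, Set.ncard_singleton] at h5
  have hX : 0 < Nat.card X := Nat.card_pos
  omega

variable {G : Type u} [Group G] [Finite G] {H : Subgroup G}

/-- `x ∈ H`, and conjugate into `H` only by elements normalising `H`. -/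
theorem mem_normalizer (hTI : IsTISubset (H : Set G)) {g x : G} (hx : x ∈ H) (hx1 : x ≠ 1)
    (h : g * x * g⁻¹ ∈ H) : g ∈ Subgroup.normalizer (H : Set G) := by
  by_contra hg
  exact hx1 (hTI g hg x hx h)

theorem centralizer_le (hTI : IsTISubset (H : Set G)) {g x : G} (hx : x ∈ H) (hx1 : x ≠ 1)
    (h : Commute g x) : g ∈ Subgroup.normalizer (H : Set G) :=
  mem_normalizer hTI hx hx1 (by rw [h.eq, mul_inv_cancel_right]; exact hx)

/-- Such a subgroup is a Hall subgroup. -/
theorem hall (hTI : IsTISubset (H : Set G))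
    (hHall : (Nat.card H).Coprime (H.subgroupOf (Subgroup.normalizer (H : Set G))).index) :
    (Nat.card H).Coprime H.index := by
  set N := Subgroup.normalizer (H : Set G) with hN
  refine Nat.coprime_of_dvd fun p hp h1 h2 => ?_
  have := Fact.mk hp
  obtain ⟨R⟩ := (inferInstance : Nonempty (Sylow p H))
  have hRH : (R : Subgroup H).map H.subtype ≤ H := Subgroup.map_subtype_le _
  obtain ⟨S, hS⟩ := (R.isPGroup'.map H.subtype).exists_le_sylow
  by_cases hSN : (S : Subgroup G) ≤ N
  · have hdvd : Nat.card (S : Subgroup G) ∣ Nat.card H * (H.subgroupOf N).index := by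
      rw [← Nat.card_congr (Subgroup.subgroupOfEquivOfLe (Subgroup.le_normalizer (H := H))).toEquiv,
        Subgroup.card_mul_index]
      exact Subgroup.card_dvd_of_le hSN
    obtain ⟨k, hk⟩ := S.isPGroup'.exists_card_eq
    rw [hk] at hdvd
    have hcop : (p ^ k).Coprime (H.subgroupOf N).index :=
      ((hHall.coprime_dvd_left h1)).pow_left k
    have hSH : p ^ k ∣ Nat.card H := hcop.dvd_of_dvd_mul_right hdvd
    apply S.not_dvd_index
    have e : Nat.card H * H.index = p ^ k * (S : Subgroup G).index := by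
      rw [← hk, Subgroup.card_mul_index, Subgroup.card_mul_index]
    obtain ⟨m, hm⟩ := hSH
    rw [hm, mul_assoc] at e
    rw [← Nat.eq_of_mul_eq_mul_left (pow_pos hp.pos k) e]
    exact h2.mul_left _
  · set R' := (R : Subgroup H).map H.subtype with hR'
    have hR1 : R' ≠ ⊥ := by
      intro e
      have hc : Nat.card R' = Nat.card (R : Subgroup H) := Subgroup.card_map_of_injective H.subtype_injective
      rw [e, Subgroup.card_bot] at hc
      have := R.dvd_card_of_dvd_card h1
      rw [← hc] at this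
      exact hp.not_dvd_one this
    have hR'N : R'.subgroupOf (S : Subgroup G) ≠ ⊤ := by
      intro e
      exact hSN ((Subgroup.subgroupOf_eq_top.mp e).trans (hRH.trans Subgroup.le_normalizer))
    have := S.isPGroup'.isNilpotent
    obtain ⟨y, hy1, hy2⟩ := SetLike.exists_of_lt
      (normalizerCondition_of_isNilpotent (G := (S : Subgroup G)) _ hR'N.lt_top)
    obtain ⟨x, hx, hx1⟩ : ∃ x ∈ R', x ≠ 1 := by
      rw [Ne, Subgroup.eq_bot_iff_forall] at hR1; push Not at hR1; exact hR1
    have hyx : (y : G) * x * (y : G)⁻¹ ∈ R' := by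
      have := (Subgroup.mem_normalizer_iff.mp hy1 ⟨x, hS hx⟩).mp hx
      exact this
    have hyN : (y : G) ∈ N := mem_normalizer hTI (hRH hx) hx1 (hRH hyx)
    -- `y` lies in the `p`-part of `N`, inside `H`
    obtain ⟨i, hi⟩ := (IsPGroup.iff_orderOf.mp S.isPGroup') y
    have hyH : (y : G) ∈ H := by
      have hq : orderOf (QuotientGroup.mk' (H.subgroupOf N) ⟨y, hyN⟩) = 1 := by
        refine Nat.eq_one_of_dvd_coprimes ?_
          ((orderOf_map_dvd (QuotientGroup.mk' (H.subgroupOf N)) ⟨y, hyN⟩).trans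
            (dvd_of_eq (by rw [Subgroup.orderOf_mk, Subgroup.orderOf_coe, hi]))) ?_ (a := p ^ i)
          (b := (H.subgroupOf N).index)
        · exact (hHall.coprime_dvd_left h1).pow_left i
        · exact orderOf_dvd_natCard _
      exact Subgroup.mem_subgroupOf.mp
        ((QuotientGroup.eq_one_iff (N := H.subgroupOf N) (⟨(y : G), hyN⟩ : N)).mp (orderOf_eq_one_iff.mp hq))
    -- hence in the Sylow subgroup of `H`
    let T : Subgroup H := (Subgroup.zpowers (y : G) ⊔ R').subgroupOf H
    have hTle : Subgroup.zpowers (y : G) ⊔ R' ≤ H :=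
      sup_le (Subgroup.zpowers_le.mpr hyH) hRH
    have hTS : Subgroup.zpowers (y : G) ⊔ R' ≤ S := sup_le (Subgroup.zpowers_le.mpr y.2) hS
    have hTp : IsPGroup p T :=
      (S.isPGroup'.to_le hTS).of_equiv (Subgroup.subgroupOfEquivOfLe hTle).symm
    have hRT : (R : Subgroup H) ≤ T := fun r hr =>
      Subgroup.mem_subgroupOf.mpr (Subgroup.mem_sup_right (Subgroup.mem_map.mpr ⟨r, hr, rfl⟩))
    have hTR := R.is_maximal' hTp hRT
    refine hy2 (Subgroup.mem_subgroupOf.mpr (Subgroup.mem_map.mpr ⟨⟨y, hyH⟩, ?_, rfl⟩))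
    exact hTR ▸ Subgroup.mem_subgroupOf.mpr (Subgroup.mem_sup_left (Subgroup.mem_zpowers _))

variable (hTI : IsTISubset (H : Set G))
  (hHall : (Nat.card H).Coprime (H.subgroupOf (Subgroup.normalizer (H : Set G))).index)
  {K : Subgroup (Subgroup.normalizer (H : Set G))} [hKn : K.Normal]
  (hK : K.IsComplement' (H.subgroupOf (Subgroup.normalizer (H : Set G))))
include hTI hHall hK

omit hTI hHall in
theorem commute_K {k : Subgroup.normalizer (H : Set G)} (hk : k ∈ K) {h : G} (hh : h ∈ H) :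
    Commute (k : G) h := by
  set h' : Subgroup.normalizer (H : Set G) := ⟨h, Subgroup.le_normalizer hh⟩
  have h1 : k * h' * k⁻¹ * h'⁻¹ ∈ K := by
    rw [show k * h' * k⁻¹ * h'⁻¹ = k * (h' * k⁻¹ * h'⁻¹) by group]
    exact mul_mem hk (hKn.conj_mem _ (inv_mem hk) h')
  have h2 : k * h' * k⁻¹ * h'⁻¹ ∈ H.subgroupOf (Subgroup.normalizer (H : Set G)) :=
    Subgroup.mem_subgroupOf.mpr (mul_mem ((Subgroup.mem_normalizer_iff.mp k.2 h).mp hh) (inv_mem hh))
  have := congrArg Subtype.val (Subgroup.disjoint_def.mp hK.disjoint h1 h2)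
  simp only [h', Subgroup.coe_mul, Subgroup.coe_inv, Subgroup.coe_one, mul_inv_eq_one] at this
  exact mul_inv_eq_iff_eq_mul.mp this

omit hTI hHall in
theorem decomp (n : Subgroup.normalizer (H : Set G)) :
    ∃ h ∈ H, ∃ k ∈ K, (n : G) = h * (k : G) := by
  obtain ⟨⟨⟨k, hk⟩, ⟨h, hh⟩⟩, e⟩ := hK.2 n
  refine ⟨h, hh, k, hk, ?_⟩
  have hc := commute_K hK hk (h := (h : G)) hh
  show (n : G) = (h : G) * (k : G)
  rw [← hc.eq, ← e]
  rfl

omit hTI in
/-- The `H`-part of `h k` is a power of it. -/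
theorem exists_exponent : ∃ m : ℕ, ∀ h ∈ H, ∀ k ∈ K, (h * (k : G)) ^ m = h := by
  have hc : (Nat.card H).Coprime (Nat.card K) := by rwa [hK.index_eq_card] at hHall
  obtain ⟨m, hm1, hm2⟩ := Nat.chineseRemainder hc 1 0
  refine ⟨m, fun h hh k hk => ?_⟩
  have hkm : (k : G) ^ m = 1 := orderOf_dvd_iff_pow_eq_one.mp
    ((Subgroup.orderOf_coe k ▸ Subgroup.orderOf_dvd_natCard K hk).trans ((Nat.modEq_zero_iff_dvd).mp hm2))
  rw [(commute_K hK hk hh).symm.mul_pow, hkm, mul_one]
  conv_rhs => rw [← pow_one h]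
  exact pow_eq_pow_iff_modEq.mpr (hm1.of_dvd (Subgroup.orderOf_dvd_natCard H hh))

/-- The elements of `(Subgroup.normalizer (H : Set G))` outside `K` form a TI-set with normaliser `(Subgroup.normalizer (H : Set G))`. -/
theorem ti_compl : ∀ g : G, g ∉ Subgroup.normalizer (H : Set G) →
    ∀ t ∈ {x : G | ∃ hx : x ∈ Subgroup.normalizer (H : Set G), (⟨x, hx⟩ : Subgroup.normalizer (H : Set G)) ∉ K},
    g * t * g⁻¹ ∈ {x : G | ∃ hx : x ∈ Subgroup.normalizer (H : Set G), (⟨x, hx⟩ : Subgroup.normalizer (H : Set G)) ∉ K} →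
      t = 1 := by
  intro g hg t ⟨ht, htK⟩ ⟨hs, hsK⟩
  obtain ⟨h, hh, k, hk, e⟩ := decomp hK ⟨t, ht⟩
  obtain ⟨h', hh', k', hk', e'⟩ := decomp hK ⟨g * t * g⁻¹, hs⟩
  replace e : t = h * (k : G) := e
  replace e' : g * t * g⁻¹ = h' * (k' : G) := e'
  obtain ⟨m, hm⟩ := exists_exponent hHall hK
  have h1 : h ≠ 1 := fun h0 => htK (by
    have : (⟨t, ht⟩ : Subgroup.normalizer (H : Set G)) = k := Subtype.ext (show t = (k : G) by rw [e, h0, one_mul])
    exact (congrArg (· ∈ K) this).mpr hk)
  exfalso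
  refine hg (mem_normalizer hTI hh h1 ?_)
  have : g * h * g⁻¹ = h' := by
    calc g * h * g⁻¹ = (g * t * g⁻¹) ^ m := by rw [conj_pow, e, hm h hh k hk]
      _ = h' := by rw [e', hm h' hh' k' hk']
  rw [this]; exact hh'

/-- Extension of the irreducible characters of `H`. -/
theorem exists_extension [Fintype G] {φ : H → ℂ} (hφ : IsIrrCharacter H φ) :
    ∃ θ : G → ℂ, IsIrrCharacter G θ ∧ (∀ h : H, θ h = φ h) ∧
      ∀ x : G, (∀ g : G, ∀ hx : g⁻¹ * x * g ∈ Subgroup.normalizer (H : Set G),
        (⟨_, hx⟩ : Subgroup.normalizer (H : Set G)) ∈ K) → θ x = φ 1 := by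
  classical
  set T : Set G := {x | ∃ hx : x ∈ (Subgroup.normalizer (H : Set G)), (⟨x, hx⟩ : (Subgroup.normalizer (H : Set G))) ∉ K} with hT
  haveI := Fintype.ofFinite H
  haveI : Fintype (Subgroup.normalizer (H : Set G)) := Fintype.ofFinite _
  obtain ⟨d, -, hd⟩ := isIrrCharacter_apply_one hφ
  by_cases htriv : φ = fun _ => 1
  · subst htriv
    exact ⟨fun _ => 1, isIrrCharacter_one, fun _ => rfl, fun _ _ => rfl⟩
  -- projection onto `H`
  obtain ⟨m, hm⟩ := exists_exponent hHall hK
  have hmH : ∀ n : (Subgroup.normalizer (H : Set G)), (n : G) ^ m ∈ H := fun n => by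
    obtain ⟨h, hh, k, hk, e⟩ := decomp hK n
    rw [e, hm h hh k hk]; exact hh
  let π : (Subgroup.normalizer (H : Set G)) →* H :=
    { toFun := fun n => ⟨(n : G) ^ m, hmH n⟩
      map_one' := Subtype.ext (one_pow m)
      map_mul' := fun a b => Subtype.ext (by
        obtain ⟨h, hh, k, hk, e⟩ := decomp hK a
        obtain ⟨h', hh', k', hk', e'⟩ := decomp hK b
        show ((a : G) * b) ^ m = (a : G) ^ m * (b : G) ^ m
        rw [e, e', hm h hh k hk, hm h' hh' k' hk', show h * (k : G) * (h' * (k' : G)) = (h * h') * ((k * k' : (Subgroup.normalizer (H : Set G))) : G) by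
          rw [Subgroup.coe_mul, mul_assoc h, ← mul_assoc (k : G), (commute_K hK hk hh').eq]; group,
          hm _ (mul_mem hh hh') _ (mul_mem hk hk')]) }
  have hπK : ∀ n : (Subgroup.normalizer (H : Set G)), n ∈ K → π n = 1 := fun n hn => Subtype.ext (by
    have := hm 1 H.one_mem n hn
    rwa [one_mul] at this)
  have hπH : ∀ h : H, π ⟨(h : G), Subgroup.le_normalizer h.2⟩ = h := fun h => Subtype.ext (by
    have := hm (h : G) h.2 1 K.one_mem
    rwa [Subgroup.coe_one, mul_one] at this)
  have hπs : Function.Surjective π := fun h => ⟨_, hπH h⟩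
  set φ' : (Subgroup.normalizer (H : Set G)) → ℂ := φ ∘ π with hφ'
  have hφi : IsIrrCharacter (Subgroup.normalizer (H : Set G)) φ' := isIrrCharacter_comap π hπs hφ
  let one : (Subgroup.normalizer (H : Set G)) → ℂ := fun _ => 1
  let α : (Subgroup.normalizer (H : Set G)) → ℂ := φ' - (d : ℂ) • one
  have hφ'1 : φ' 1 = d := by simp [φ', hd]
  have hφ'ne : φ' ≠ one := fun e => htriv (funext fun h => by
    obtain ⟨n, rfl⟩ := hπs h
    exact congrFun e n)
  have hα1 : α 1 = 0 := by simp [α, one, hφ'1]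
  have hvan : ∀ x : (Subgroup.normalizer (H : Set G)), (x : G) ∉ T → α x = 0 := fun x hx => by
    have : x ∈ K := by
      by_contra hxK
      exact hx ⟨x.2, hxK⟩
    simp [α, one, φ', hπK x this, hd]
  have hφc := CharBasic.isClassFunction_of_isCharacter (isCharacter_of_isIrrCharacter hφi)
  have hαc : IsClassFunction (Subgroup.normalizer (H : Set G)) α := fun a b => by simp [α, one, hφc a b]
  have hαg : IsGeneralizedCharacter (Subgroup.normalizer (H : Set G)) α :=
    ⟨φ', (d : ℂ) • one, isCharacter_of_isIrrCharacter hφi,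
      isCharacter_nsmul CharBasicDecomp.isCharacter_one d, rfl⟩
  let one' : G → ℂ := fun _ => 1
  let θ : G → ℂ := indFun (Subgroup.normalizer (H : Set G)) α + (d : ℂ) • one'
  have hθg : IsGeneralizedCharacter G θ :=
    isGeneralizedCharacter_add (isGenChar_ind (Subgroup.normalizer (H : Set G)) hαg)
      (isGeneralizedCharacter_of_isCharacter
        (isCharacter_nsmul CharBasicDecomp.isCharacter_one d))
  have hti := ti_compl hTI hHall hK
  have hone : classInner one one = 1 := classInner_irr_self isIrrCharacter_one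
  have hφ0 : classInner φ' one = 0 := classInner_irr_ne hφi isIrrCharacter_one hφ'ne
  have hone0 : classInner one φ' = 0 :=
    classInner_irr_ne isIrrCharacter_one hφi (fun h => hφ'ne h.symm)
  have hφφ : classInner φ' φ' = 1 := classInner_irr_self hφi
  have hαα : classInner α α = 1 + (d : ℂ) * d := by
    simp only [α, classInner_sub_left, classInner_sub_right, classInner_smul_left, classInner_smul_right, hφ0,
      hone0, hφφ, hone, Complex.conj_natCast]
    ring
  have hα1' : classInner (indFun (Subgroup.normalizer (H : Set G)) α) one' = - (d : ℂ) := by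
    rw [inner_ind_left (Subgroup.normalizer (H : Set G)) α (fun _ _ => rfl)]
    show classInner α one = _
    simp only [α, classInner_sub_left, classInner_smul_left, hφ0, hone]
    ring
  have h1α : classInner one' (indFun (Subgroup.normalizer (H : Set G)) α) = - (d : ℂ) := by
    rw [← conj_classInner, hα1', map_neg, Complex.conj_natCast]
  have hone' : classInner one' one' = 1 := classInner_irr_self isIrrCharacter_one
  have hnorm : classInner θ θ = 1 := by
    simp only [θ, classInner_add_left, classInner_add_right, classInner_smul_left, classInner_smul_right, hα1', h1α,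
      hone', Complex.conj_natCast, classInner_ind_of_ti T (Subgroup.normalizer (H : Set G)) hti α α hαc hvan hvan hα1, hαα]
    ring
  have hθ1 : θ 1 = (d : ℂ) := by simp [θ, ind_one_apply, hα1, one']
  refine ⟨θ, ?_, fun h => ?_, fun x hx => ?_⟩
  · obtain ⟨χ, hχ, hcase⟩ := eq_or_neg_irr_of_norm_one hθg hnorm
    rcases hcase with h | h
    · rwa [h]
    · exfalso
      obtain ⟨m', hm', hm1⟩ := isIrrCharacter_apply_one hχ
      have h1 := congrFun h 1
      rw [hθ1, Pi.neg_apply, hm1, eq_neg_iff_add_eq_zero, ← Nat.cast_add, Nat.cast_eq_zero] at h1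
      omega
  · by_cases h1 : h = 1
    · subst h1; rw [hd]; exact hθ1
    · have hT' : ((⟨(h : G), Subgroup.le_normalizer h.2⟩ : (Subgroup.normalizer (H : Set G))) : G) ∈ T := ⟨Subgroup.le_normalizer h.2, fun hk =>
        h1 (by rw [← hπH h, hπK _ hk])⟩
      have := ind_eq_of_ti T (Subgroup.normalizer (H : Set G)) hti α hαc hvan _ hT' (fun e => h1 (Subtype.ext (congrArg Subtype.val e :)))
      simp only at this
      simp only [θ, Pi.add_apply, this, Pi.smul_apply, one', smul_eq_mul, α, φ', Pi.sub_apply,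
        Function.comp_apply, hπH, one]
      ring
  · have : indFun (Subgroup.normalizer (H : Set G)) α x = 0 := by
      rw [indFun_apply, Finset.sum_eq_zero, mul_zero]
      intro g _
      by_cases hg : g⁻¹ * x * g ∈ (Subgroup.normalizer (H : Set G))
      · rw [ext_zero_of_mem α hg]
        exact hvan _ fun ⟨h', hh'⟩ => hh' (hx g hg)
      · exact ext_zero_of_not_mem α hg
    simp [θ, this, hd, one']

/-- The normal complement in `G`. -/
theorem exists_normal_complement : ∃ N₀ : Subgroup G, N₀.Normal ∧ N₀.IsComplement' H ∧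
    ∀ x : G, x ∉ N₀ → ∃ (g : G) (hx : g⁻¹ * x * g ∈ Subgroup.normalizer (H : Set G)),
      (⟨_, hx⟩ : Subgroup.normalizer (H : Set G)) ∉ K := by
  classical
  haveI := Fintype.ofFinite G
  choose θ hirr hres hker using fun φ : IrrCharacter H => exists_extension hTI hHall hK φ.2
  choose n ρ hρ hρθ using hirr
  let N₀ : Subgroup G := ⨅ φ, MonoidHom.ker (ρ φ)
  have : N₀.Normal := Subgroup.normal_iInf_normal fun φ => MonoidHom.normal_ker _
  have hmem : ∀ g, g ∈ N₀ ↔ ∀ φ, θ φ g = θ φ 1 := by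
    intro g
    simp only [N₀, Subgroup.mem_iInf, MonoidHom.mem_ker]
    refine forall_congr' fun φ => ?_
    rw [← hρθ φ, Representation.char_one, character_eq_finrank_iff]
    rfl
  have hθ1 : ∀ φ : IrrCharacter H, θ φ 1 = (φ : H → ℂ) 1 := fun φ => by
    rw [← hres φ 1]; rfl
  have hd : Disjoint N₀ H := by
    rw [Subgroup.disjoint_def]
    intro x hxN hxH
    have hconj : IsConj (⟨x, hxH⟩ : H) 1 := by
      rw [isConj_iff_forall_irr]
      intro φ
      rw [← hθ1 φ, ← hres φ ⟨x, hxH⟩]
      exact (hmem x).1 hxN φ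
    rw [isConj_one_left] at hconj
    exact congrArg Subtype.val hconj
  -- the elements conjugate into `(Subgroup.normalizer (H : Set G))` outside `K`
  set T : Set (Subgroup.normalizer (H : Set G)) := {x | x ∉ K} with hT
  set U : Set G := {x | ∀ g : G, ∀ hx : g⁻¹ * x * g ∈ (Subgroup.normalizer (H : Set G)), (⟨_, hx⟩ : (Subgroup.normalizer (H : Set G))) ∈ K} with hU
  have hUN : U ⊆ N₀ := fun x hx => (hmem x).2 fun φ => by rw [hker φ x hx, hθ1]
  refine ⟨N₀, inferInstance, Subgroup.isComplement'_of_card_mul_and_disjoint ?_ hd, fun x hx => ?_⟩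
  swap
  · by_contra hno
    push Not at hno
    exact hx (hUN fun g hg => hno g hg)
  have hle : Nat.card N₀ ≤ H.index := by
    have hi : Set.InjOn (fun x : N₀ => (QuotientGroup.mk (x : G) : G ⧸ H)) Set.univ := by
      intro a _ b _ hab
      have hab' : (a : G)⁻¹ * b ∈ H := QuotientGroup.eq.mp hab
      exact Subtype.ext (inv_mul_eq_one.mp
        (Subgroup.disjoint_def.mp hd (mul_mem (inv_mem a.2) b.2) hab'))
    exact Nat.card_le_card_of_injective _ (fun a b h => hi (Set.mem_univ a) (Set.mem_univ b) h)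
  have hge : H.index ≤ Nat.card N₀ := by
    -- the complement of `U` is covered by `[G : (Subgroup.normalizer (H : Set G))]` translates of `T`
    let f : (G ⧸ (Subgroup.normalizer (H : Set G))) × T → G := fun p => Quotient.out p.1 * (p.2.1 : G) * (Quotient.out p.1)⁻¹
    have hsub : Uᶜ ⊆ Set.range f := by
      intro x hx
      simp only [hU, Set.mem_compl_iff, Set.mem_ofPred_eq, not_forall] at hx
      obtain ⟨g, hg, hgK⟩ := hx
      obtain ⟨c, hc⟩ := QuotientGroup.mk_out_eq_mul (Subgroup.normalizer (H : Set G)) g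
      let v : (Subgroup.normalizer (H : Set G)) := c⁻¹ * ⟨_, hg⟩ * c
      have hv : v ∉ K := fun h => hgK (by
        have := hKn.conj_mem v h c
        simpa [v, mul_assoc] using this)
      refine ⟨(QuotientGroup.mk g, ⟨v, hv⟩), ?_⟩
      simp only [f, hc, v, Subgroup.coe_mul, Subgroup.coe_inv]
      group
    have h1 : (Uᶜ : Set G).ncard ≤ (Subgroup.normalizer (H : Set G)).index * T.ncard := by
      refine le_trans (Set.ncard_le_ncard hsub (Set.toFinite _)) ?_
      rw [← Nat.card_coe_set_eq, ← Nat.card_coe_set_eq T, Subgroup.index_eq_card, ← Nat.card_prod]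
      exact Nat.card_le_card_of_surjective (fun p => (⟨f p, p, rfl⟩ : Set.range f))
        fun ⟨_, p, rfl⟩ => ⟨p, rfl⟩
    have hT' : T.ncard + Nat.card K = Nat.card (Subgroup.normalizer (H : Set G)) := by
      rw [hT, show {x : (Subgroup.normalizer (H : Set G)) | x ∉ K} = ((K : Set (Subgroup.normalizer (H : Set G))))ᶜ from rfl, Set.ncard_compl,
        show (K : Set (Subgroup.normalizer (H : Set G))).ncard = Nat.card K from (Nat.card_coe_set_eq _).symm]
      exact Nat.sub_add_cancel (Nat.le_of_dvd Nat.card_pos (Subgroup.card_subgroup_dvd_card K))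
    have hU' : U.ncard ≤ Nat.card N₀ := by
      rw [show Nat.card N₀ = (N₀ : Set G).ncard from Nat.card_coe_set_eq _]
      exact Set.ncard_le_ncard hUN (Set.toFinite _)
    have hUc : U.ncard + (Uᶜ : Set G).ncard = Nat.card G := Set.ncard_add_ncard_compl U
    have hNK : Nat.card (Subgroup.normalizer (H : Set G)) = Nat.card K * Nat.card H := by
      rw [← hK.card_mul, Nat.card_congr (Subgroup.subgroupOfEquivOfLe (Subgroup.le_normalizer (H := H))).toEquiv]
    have hidx : H.index = (Subgroup.normalizer (H : Set G)).index * Nat.card K := by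
      have e := H.index_mul_card
      rw [← (Subgroup.normalizer (H : Set G)).index_mul_card, hNK, ← mul_assoc] at e
      exact Nat.eq_of_mul_eq_mul_right Nat.card_pos e
    have h2 : (Subgroup.normalizer (H : Set G)).index * (T.ncard + Nat.card K) = Nat.card G := by rw [hT', (Subgroup.normalizer (H : Set G)).index_mul_card]
    rw [hidx]
    nlinarith
  rw [le_antisymm hle hge, H.index_mul_card]

/-- The Frobenius section. -/
theorem exists_frobenius (hn : ¬ H.Normal) :
    ∃ (F : Type u) (_ : Group F) (_ : Finite F) (C : Subgroup F),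
      IsFrobeniusComplement C ∧ Nonempty (H ≃* C) := by
  classical
  obtain ⟨N₀, hN₀, hc, hout⟩ := exists_normal_complement hTI hHall hK
  have hcop : (Nat.card H).Coprime (Nat.card N₀) := by
    rw [← hc.index_eq_card]; exact hall hTI hHall
  have hH1 : H ≠ ⊥ := fun e => hn (e ▸ inferInstance)
  -- fixed points
  have hcent : ∀ x ∈ N₀, ∀ h ∈ H, h ≠ 1 → Commute x h → ∀ h' ∈ H, Commute x h' := by
    intro x hx h hh h1 hxh h' hh'
    have hxN : x ∈ (Subgroup.normalizer (H : Set G)) := centralizer_le hTI hh h1 hxh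
    obtain ⟨a, ha, k, hk, e⟩ := decomp hK ⟨x, hxN⟩
    replace e : x = a * (k : G) := e
    obtain ⟨m, hm⟩ := exists_exponent hHall hK
    have ha1 : a = 1 := Subgroup.disjoint_def.mp hc.disjoint
      (by rw [← hm a ha k hk, ← e]; exact pow_mem hx m) ha
    rw [e, ha1, one_mul]
    exact commute_K hK hk hh'
  -- a prime dividing the index of the fixed points
  set C := N₀ ⊓ Subgroup.centralizer (H : Set G) with hC
  have hCN : C < N₀ := by
    refine lt_of_le_of_ne inf_le_left fun e => hn ?_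
    have hle : N₀ ≤ Subgroup.centralizer (H : Set G) := e ▸ inf_le_right
    rw [← Subgroup.normalizer_eq_top_iff, eq_top_iff, ← hc.sup_eq_top]
    exact sup_le (hle.trans (Subgroup.centralizer_le_normalizer _)) Subgroup.le_normalizer
  obtain ⟨p, hp, hpd⟩ := Nat.exists_prime_and_dvd (n := C.relIndex N₀)
    (fun e => hCN.not_ge (Subgroup.relIndex_eq_one.mp e))
  have := Fact.mk hp
  -- an `H`-invariant Sylow subgroup of `N₀`
  obtain ⟨P⟩ := (inferInstance : Nonempty (Sylow p N₀))
  set P₁ := (P : Subgroup N₀).map N₀.subtype with hP₁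
  set M := Subgroup.normalizer (P₁ : Set G) with hM
  have hfr : M ⊔ N₀ = ⊤ := Sylow.normalizer_sup_eq_top P
  have hidx : (N₀.subgroupOf M).index = Nat.card H := by
    have h1 : N₀.relIndex (M ⊔ N₀) = N₀.relIndex M := Subgroup.relIndex_sup_right M N₀
    rw [hfr, Subgroup.relIndex_top_right, hc.symm.index_eq_card] at h1
    exact h1.symm
  obtain ⟨E, hE⟩ := Subgroup.exists_right_complement'_of_coprime (N := N₀.subgroupOf M) (by
    rw [hidx]
    exact (hcop.coprime_dvd_right (Subgroup.card_comap_dvd_of_injective N₀ M.subtype M.subtype_injective)).symm)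
  set H' := E.map M.subtype with hH'
  have hH'c : Nat.card H' = Nat.card H := by
    rw [hH', Subgroup.card_map_of_injective M.subtype_injective, ← hE.symm.index_eq_card, hidx]
  obtain ⟨m, hm⟩ := exists_exponent hHall hK
  -- elements of `(Subgroup.normalizer (H : Set G))` of order dividing `|H|` lie in `H`
  have hmemH : ∀ w ∈ (Subgroup.normalizer (H : Set G)), orderOf w ∣ Nat.card H → w ∈ H := by
    intro w hw hord
    obtain ⟨a, ha, k, hk, e⟩ := decomp hK ⟨w, hw⟩
    replace e : w = a * (k : G) := e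
    have h1 : w ^ Nat.card H = 1 := orderOf_dvd_iff_pow_eq_one.mp hord
    rw [e, (commute_K hK hk ha).symm.mul_pow, orderOf_dvd_iff_pow_eq_one.mp (Subgroup.orderOf_dvd_natCard H ha),
      one_mul] at h1
    have hcHK : (Nat.card H).Coprime (Nat.card K) := by rwa [hK.index_eq_card] at hHall
    have h2 : orderOf (k : G) = 1 := Nat.eq_one_of_dvd_coprimes hcHK (orderOf_dvd_iff_pow_eq_one.mpr h1)
      (Subgroup.orderOf_coe k ▸ Subgroup.orderOf_dvd_natCard K hk)
    rw [e, orderOf_eq_one_iff.mp h2, mul_one]; exact ha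
  have hordH' : ∀ x ∈ H', ∀ g : G, orderOf (g⁻¹ * x * g) ∣ Nat.card H := fun x hx g => by
    rw [show g⁻¹ * x * g = MulAut.conj g⁻¹ x by simp, MulEquiv.orderOf_eq, ← hH'c]
    exact Subgroup.orderOf_dvd_natCard H' hx
  have hdH' : Disjoint N₀ H' := by
    rw [Subgroup.disjoint_def]
    rintro x hx ⟨e, he, rfl⟩
    exact congrArg Subtype.val (Subgroup.disjoint_def.mp hE.disjoint (Subgroup.mem_subgroupOf.mpr hx) he)
  have hconjH : ∀ x ∈ H', x ≠ 1 → ∃ g : G, x ∈ MulAut.conj g • H := by
    intro x hx hx1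
    obtain ⟨g, hg, -⟩ := hout x fun hxN => hx1 (Subgroup.disjoint_def.mp hdH' hxN hx)
    exact ⟨g, FrobeniusBasic.mem_conj_smul_iff.mpr (hmemH _ hg (hordH' x hx g))⟩
  -- conjugates of `H` meet trivially
  have huniq : ∀ g k z : G, z ≠ 1 → z ∈ MulAut.conj g • H → z ∈ MulAut.conj k • H →
      MulAut.conj g • H = MulAut.conj k • H := by
    intro g k z hz hzg hzk
    rw [FrobeniusBasic.mem_conj_smul_iff] at hzg hzk
    have hw : k⁻¹ * g ∈ (Subgroup.normalizer (H : Set G)) := mem_normalizer hTI hzg (fun e => hz (by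
      simpa [mul_assoc] using congrArg (fun t => g * t * g⁻¹) e)) (by simpa [mul_assoc] using hzk)
    ext x
    rw [FrobeniusBasic.mem_conj_smul_iff, FrobeniusBasic.mem_conj_smul_iff,
      Subgroup.mem_normalizer_iff.mp hw (g⁻¹ * x * g)]
    simp [mul_assoc]
  obtain ⟨g, hg⟩ : ∃ g : G, H' ≤ MulAut.conj g • H := by
    have : Nontrivial H' := Finite.one_lt_card_iff_nontrivial.mp
      (hH'c ▸ (Subgroup.one_lt_card_iff_ne_bot H).mpr hH1)
    obtain ⟨g, hg⟩ := single_part (X := H') (fun D => ∃ g : G, D = (MulAut.conj g • H).subgroupOf H')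
      (by
        rintro _ ⟨g, rfl⟩ y x hx hx1 hyx
        rw [Subgroup.mem_subgroupOf, FrobeniusBasic.mem_conj_smul_iff] at hx hyx ⊢
        refine hmemH _ ?_ (hordH' y y.2 g)
        have hz : g⁻¹ * (x : G) * g ≠ 1 := fun e => hx1 (Subtype.ext (by
          simpa [mul_assoc] using congrArg (fun t => g * t * g⁻¹) e))
        have := mem_normalizer hTI hx hz (g := (g⁻¹ * (y : G) * g)⁻¹) (by
          simpa [mul_assoc] using hyx)
        simpa using inv_mem this)
      (fun x hx1 => by
        obtain ⟨g, hg⟩ := hconjH x x.2 fun e => hx1 (Subtype.ext e)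
        exact ⟨_, ⟨g, rfl⟩, Subgroup.mem_subgroupOf.mpr hg⟩)
      (by
        rintro _ _ ⟨g, rfl⟩ ⟨k, rfl⟩ x hx1 hxg hxk
        rw [huniq g k x (fun e => hx1 (Subtype.ext e)) (Subgroup.mem_subgroupOf.mp hxg)
          (Subgroup.mem_subgroupOf.mp hxk)])
      (by
        rintro _ ⟨g, rfl⟩ y
        refine ⟨(y : G) * g, ?_⟩
        ext x
        simp only [Subgroup.mem_subgroupOf, FrobeniusBasic.mem_conj_smul_iff]
        simp [mul_assoc])
    exact ⟨g, Subgroup.subgroupOf_eq_top.mp hg.symm⟩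
  have hgH : H' = MulAut.conj g • H := Subgroup.eq_of_le_of_card_ge hg
    (by rw [Cfsg.Agent.CoprimeSZ.card_conj_smul]; exact hH'c.ge)
  set P₂ := MulAut.conj g⁻¹ • P₁ with hP₂
  have hP₂N : P₂ ≤ N₀ := by
    intro x hx
    rw [hP₂, FrobeniusBasic.mem_conj_smul_iff, inv_inv] at hx
    have := hN₀.conj_mem _ (Subgroup.map_subtype_le _ hx) g⁻¹
    simpa [mul_assoc] using this
  have hP₂c : Nat.card P₂ = Nat.card (P : Subgroup N₀) := by
    rw [hP₂, Cfsg.Agent.CoprimeSZ.card_conj_smul, hP₁, Subgroup.card_map_of_injective N₀.subtype_injective]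
  have hnorm : ∀ h ∈ H, ∀ x ∈ P₂, h * x * h⁻¹ ∈ P₂ := by
    intro h hh x hx
    rw [hP₂, FrobeniusBasic.mem_conj_smul_iff, inv_inv] at hx ⊢
    have hmM : g * h * g⁻¹ ∈ M := (Subgroup.map_subtype_le E) (hgH ▸
      FrobeniusBasic.mem_conj_smul_iff.mpr (by simpa [mul_assoc] using hh) : g * h * g⁻¹ ∈ H')
    have := (Subgroup.mem_normalizer_iff.mp hmM _).mp hx
    simpa [mul_assoc] using this
  have hPp : IsPGroup p P₂ := by
    obtain ⟨i, hi⟩ := P.isPGroup'.exists_card_eq
    exact IsPGroup.of_card (n := i) (by rw [hP₂c, hi])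
  have hP₂C : ¬ P₂ ≤ C := by
    intro hle
    have h1 : Nat.card (P : Subgroup N₀) ∣ Nat.card C := hP₂c ▸ Subgroup.card_dvd_of_le hle
    refine P.not_dvd_index ?_
    have h2 : Nat.card C * C.relIndex N₀ = Nat.card (P : Subgroup N₀) * (P : Subgroup N₀).index := by
      rw [Subgroup.card_mul_index, ← Nat.card_congr (Subgroup.subgroupOfEquivOfLe hCN.le).toEquiv,
        Subgroup.relIndex, Subgroup.card_mul_index]
    obtain ⟨t, ht⟩ := h1
    rw [ht, mul_assoc] at h2
    rw [← Nat.eq_of_mul_eq_mul_left Nat.card_pos h2]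
    exact hpd.mul_left t
  -- the section
  set D : Subgroup P₂ := (Subgroup.centralizer (H : Set G)).subgroupOf P₂ ⊔ frattini P₂ with hD
  have hDtop : D ≠ ⊤ := fun e => hP₂C fun x hx => ⟨hP₂N hx,
    (Subgroup.subgroupOf_eq_top.mp (frattini_nongenerating e)) hx⟩
  have hDn : D.Normal := PGroupsBasic.normal_of_commutator_le
    ((PGroupsBasic.commutator_le_frattini hPp).trans le_sup_right)
  set D' := D.map P₂.subtype with hD'
  have hHD : H ≤ Subgroup.normalizer (D' : Set G) := by
    have hHP : H ≤ Subgroup.normalizer (P₂ : Set G) :=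
      CoprimeAction.le_normalizer_of_conj_mem fun h hh x hx => hnorm h hh x hx
    have h2 : H ≤ Subgroup.normalizer ((frattini P₂).map P₂.subtype : Set G) :=
      OddLocalBase.le_normalizer_map_characteristic hHP (frattini P₂)
    refine CoprimeAction.le_normalizer_of_conj_mem fun h hh x hx => ?_
    rw [hD', hD, Subgroup.map_sup] at hx ⊢
    refine Subgroup.closure_induction (p := fun y _ => h * y * h⁻¹ ∈ _) ?_ ?_ ?_ ?_
      (by rwa [Subgroup.sup_eq_closure] at hx)
    · intro y hy
      rcases hy with hy | hy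
      · obtain ⟨y, hy, rfl⟩ := hy
        refine Subgroup.mem_sup_left (Subgroup.mem_map.mpr ⟨y, hy, ?_⟩)
        show (y : G) = h * (y : G) * h⁻¹
        have hy' : h * (y : G) = (y : G) * h := Subgroup.mem_centralizer_iff.mp hy h hh
        rw [hy', mul_inv_cancel_right]
      · exact Subgroup.mem_sup_right ((Subgroup.mem_normalizer_iff.mp (h2 hh) _).mp hy)
    · simp
    · intro a b _ _ ha hb
      simpa [mul_assoc] using mul_mem ha hb
    · intro a _ ha
      simpa [mul_assoc] using inv_mem ha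
  set R := P₂ ⊔ H with hR
  set D₀ : Subgroup R := D'.subgroupOf R with hD₀
  have hD'P : D' ≤ P₂ := Subgroup.map_subtype_le _
  have hRn : R ≤ Subgroup.normalizer (D' : Set G) := by
    refine sup_le ?_ hHD
    intro x hx
    refine Subgroup.le_normalizer_map P₂.subtype ⟨⟨x, hx⟩, ?_, rfl⟩
    rw [Subgroup.normalizer_eq_top]; exact Subgroup.mem_top _
  have hD₀n : D₀.Normal := (Subgroup.normal_subgroupOf_iff_le_normalizer (hD'P.trans le_sup_left)).mpr hRn
  let F := R ⧸ D₀
  set q := QuotientGroup.mk' D₀ with hq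
  set C' : Subgroup F := (H.subgroupOf R).map q with hC'
  set V : Subgroup F := (P₂.subgroupOf R).map q with hV
  have hRP : R ≤ Subgroup.normalizer (P₂ : Set G) :=
    sup_le Subgroup.le_normalizer (CoprimeAction.le_normalizer_of_conj_mem fun h hh x hx => hnorm h hh x hx)
  have : (P₂.subgroupOf R).Normal := (Subgroup.normal_subgroupOf_iff_le_normalizer le_sup_left).mpr hRP
  have : V.Normal := Subgroup.Normal.map inferInstance q (QuotientGroup.mk'_surjective _)
  have hinj : ∀ r : R, (r : G) ∈ H → q r = 1 → r = 1 := by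
    intro r hr h1
    have : (r : G) ∈ D' := (QuotientGroup.eq_one_iff r).mp h1
    exact Subtype.ext (Subgroup.disjoint_def.mp hc.disjoint (hP₂N (hD'P this)) hr)
  have hfix : ∀ r : R, (r : G) ∈ H → r ≠ 1 → ∀ v : R, (v : G) ∈ P₂ → Commute (q r) (q v) → q v = 1 := by
    intro r hr hr1 v hv hrv
    have h0 : (v : G)⁻¹ * r * v * (r : G)⁻¹ ∈ D' := by
      have : q (v⁻¹ * r * v * r⁻¹) = 1 := by
        rw [map_mul, map_mul, map_mul, map_inv, map_inv, mul_assoc (q v)⁻¹, hrv.eq]; group
      exact (QuotientGroup.eq_one_iff (v⁻¹ * r * v * r⁻¹)).mp this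
    obtain ⟨c, hc1, hc2⟩ := CoprimeAction.exists_fixed_mem_coset_zpowers (hHD hr)
      ((hcop.coprime_dvd_left (Subgroup.orderOf_dvd_natCard H hr)).coprime_dvd_right
        (Subgroup.card_dvd_of_le (hD'P.trans hP₂N))) (v : G) h0
    have hcP : c ∈ P₂ := by
      have := mul_mem hv (hD'P hc2)
      simpa using this
    have hcH : c ∈ Subgroup.centralizer (H : Set G) := Subgroup.mem_centralizer_iff.mpr fun h' hh' =>
      ((hcent c (hP₂N hcP) r hr (fun e => hr1 (Subtype.ext e)) (Commute.symm hc1)) h' hh').eq.symm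
    have hcD : c ∈ D' := Subgroup.mem_map.mpr ⟨⟨c, hcP⟩, Subgroup.mem_sup_left hcH, rfl⟩
    refine (QuotientGroup.eq_one_iff v).mpr (Subgroup.mem_subgroupOf.mpr ?_)
    have := mul_mem hcD (inv_mem hc2)
    simpa [mul_assoc] using this
  have hV1 : V ≠ ⊥ := by
    intro e
    refine hDtop (eq_top_iff.mpr fun x _ => ?_)
    have : q ⟨(x : G), Subgroup.mem_sup_left x.2⟩ = 1 :=
      Subgroup.mem_bot.mp (e ▸ Subgroup.mem_map_of_mem q (Subgroup.mem_subgroupOf.mpr x.2))
    obtain ⟨y, hy, hyx⟩ : (x : G) ∈ D' := (QuotientGroup.eq_one_iff (N := D₀) _).mp this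
    rwa [show x = y from Subtype.ext hyx.symm]
  have hcompl : Subgroup.IsComplement' V C' := by
    refine Subgroup.isComplement'_of_disjoint_and_mul_eq_univ ?_ ?_
    · rw [Subgroup.disjoint_def]
      rintro _ ⟨v, hv, rfl⟩ ⟨r, hr, e⟩
      have h1 : v⁻¹ * r ∈ D₀ := (QuotientGroup.eq_one_iff _).mp (by
        show q (v⁻¹ * r) = 1
        rw [map_mul, map_inv, e, inv_mul_cancel])
      have hrP : (r : G) ∈ P₂ := by
        have := mul_mem (Subgroup.mem_subgroupOf.mp hv) (hD'P h1)
        simpa using this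
      rw [← e, show r = 1 from Subtype.ext (Subgroup.disjoint_def.mp hc.disjoint (hP₂N hrP) hr), map_one]
    · rw [Set.eq_univ_iff_forall]
      intro f
      obtain ⟨⟨r, hr⟩, rfl⟩ := QuotientGroup.mk'_surjective D₀ f
      have hr' := hr
      rw [hR, ← SetLike.mem_coe, Subgroup.coe_mul_of_right_le_normalizer_left P₂ H
        (CoprimeAction.le_normalizer_of_conj_mem fun h hh x hx => hnorm h hh x hx)] at hr'
      obtain ⟨a, ha, b, hb, e⟩ := hr'
      refine Set.mem_mul.mpr ⟨q ⟨a, Subgroup.mem_sup_left ha⟩, Subgroup.mem_map_of_mem q ha,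
        q ⟨b, Subgroup.mem_sup_right hb⟩, Subgroup.mem_map_of_mem q hb, ?_⟩
      rw [← map_mul]
      exact congrArg q (Subtype.ext e)
  have hiso : Function.Bijective (fun h : H => (⟨q ⟨(h : G), Subgroup.mem_sup_right h.2⟩,
      Subgroup.mem_map_of_mem q (Subgroup.mem_subgroupOf.mpr h.2)⟩ : C')) := by
    constructor
    · intro a b e
      have e' : q ⟨(a : G), Subgroup.mem_sup_right a.2⟩ = q ⟨(b : G), Subgroup.mem_sup_right b.2⟩ :=
        congrArg Subtype.val e
      have := hinj ((⟨(a : G), Subgroup.mem_sup_right a.2⟩ : R)⁻¹ * ⟨(b : G), Subgroup.mem_sup_right b.2⟩)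
        (mul_mem (inv_mem a.2) b.2) (by rw [map_mul, map_inv, e']; exact inv_mul_cancel _)
      exact Subtype.ext (inv_mul_eq_one.mp (congrArg Subtype.val this))
    · rintro ⟨_, r, hr, rfl⟩
      exact ⟨⟨r, hr⟩, rfl⟩
  have hC'1 : C' ≠ ⊥ := by
    intro e
    have h1 := Nat.card_eq_of_bijective _ hiso
    rw [e, Subgroup.card_bot] at h1
    exact hH1 (Subgroup.eq_bot_of_card_eq H h1)
  refine ⟨F, inferInstance, inferInstance, C', FrobeniusBasic.isFrobeniusComplement_of_fpf hcompl hV1 hC'1 ?_,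
    ⟨MulEquiv.ofBijective (MonoidHom.mk' _ fun a b => Subtype.ext (map_mul q ⟨(a : G), Subgroup.mem_sup_right a.2⟩
      ⟨(b : G), Subgroup.mem_sup_right b.2⟩)) hiso⟩⟩
  rintro _ ⟨r, hr, rfl⟩ hr1
  refine eq_bot_iff.mpr ?_
  rintro _ ⟨⟨v, hv, rfl⟩, hcomm⟩
  exact Subgroup.mem_bot.mpr (hfix r hr (fun e => hr1 (by rw [e, map_one])) v hv
    (Subgroup.mem_centralizer_singleton_iff.mp hcomm).symm)

end Cfsg.Agent.TIHallComplement
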