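import Mathlib
import Cfsg.Agent.Lib.SpectrumFive57Local
import Cfsg.Agent.Lib.SpectrumFive57Words
import Cfsg.Agent.Lib.TIHallComplement

/-!
Element orders at most 5: elements of order 3 are real if and only if those of order 5 are; then
all involutions are conjugate when the Sylow 3-subgroup is not cyclic.
-/

set_option autoImplicit false
set_option linter.all false

open Subgroup Pointwise

namespace Cfsg.Agent.SpectrumFive57Real

open SpectrumFive57Local SpectrumFive57Words

variable {G : Type*} [Group G] [Finite G]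

/-- Some involution inverts an element of order `p`. -/
def Real (G : Type*) [Group G] (p : ℕ) : Prop :=
  ∃ j x : G, orderOf j = 2 ∧ orderOf x = p ∧ j * x * j⁻¹ = x⁻¹

omit [Finite G] in
theorem orderOf_two_of_sq {j : G} (h : j * j = 1) (h1 : j ≠ 1) : orderOf j = 2 := by
  haveI := Fact.mk Nat.prime_two
  exact orderOf_eq_prime (by rw [sq, h]) h1

/-- A conjugate of an involution inverting `x` gives reality. -/
theorem real_of_conj {p : ℕ} {a c x : G} (ha : orderOf a = 2) (hx : orderOf x = p)
    (h : (c * a * c⁻¹) * x * (c * a * c⁻¹)⁻¹ = x⁻¹) : Real G p :=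
  ⟨c * a * c⁻¹, x, by rw [← MulAut.conj_apply, MulEquiv.orderOf_eq, ha], hx, h⟩

omit [Finite G] in
theorem exists_sylow_mem {p : ℕ} [Fact p.Prime] {x : G} (hx : orderOf x = p) :
    ∃ P : Sylow p G, x ∈ (P : Subgroup G) := by
  obtain ⟨T, hT⟩ := (IsPGroup.of_card (n := 1) (by rw [Nat.card_zpowers, hx, pow_one]) :
    IsPGroup p (zpowers x)).exists_le_sylow
  exact ⟨T, hT (mem_zpowers x)⟩

/-- A group with only one involution and exponent dividing 4 has order at most 8, and at most 4
when it is abelian. -/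
theorem card_le (E : Subgroup G) (z : G) (hz : z ∈ E) (hz1 : z ≠ 1) (hzz : z * z = 1)
    (h : ∀ s ∈ E, s ≠ 1 → s ≠ z → s * s = z) :
    Nat.card E ≤ 8 ∧ ((∀ a ∈ E, ∀ b ∈ E, a * b = b * a) → Nat.card E ≤ 4) := by
  classical
  have hzc : ∀ s ∈ E, s * z = z * s := by
    intro s hs
    by_cases h1 : s = 1
    · simp [h1]
    by_cases h2 : s = z
    · rw [h2]
    rw [← h s hs h1 h2, mul_assoc]
  have hinv : ∀ a ∈ E, a ≠ 1 → a ≠ z → a⁻¹ = a * z := fun a ha a1 a2 =>
    inv_eq_of_mul_eq_one_right (by rw [← mul_assoc, h a ha a1 a2, hzz])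
  have hsw : ∀ a ∈ E, ∀ b ∈ E, a ≠ 1 → a ≠ z → b ≠ 1 → b ≠ z → a * b ≠ 1 → a * b ≠ z →
      b * a = a * b * z := by
    intro a ha b hb a1 a2 b1 b2 c1 c2
    calc b * a = a⁻¹ * (a * b * (a * b)) * b⁻¹ := by group
      _ = a * z * z * (b * z) := by
        rw [h _ (mul_mem ha hb) c1 c2, hinv a ha a1 a2, hinv b hb b1 b2]
      _ = a * b * z := by rw [mul_assoc a z z, hzz, mul_one, mul_assoc]
  have small : ∀ F : Finset G, (∀ s ∈ E, s ∈ F) → Nat.card E ≤ F.card := by
    intro F hF
    rw [← Fintype.card_coe, ← Nat.card_eq_fintype_card]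
    exact Nat.card_le_card_of_injective (fun s => ⟨s, hF s s.2⟩)
      fun a b hab => Subtype.ext (by simpa using congrArg Subtype.val hab)
  by_cases ha : ∀ s ∈ E, s = 1 ∨ s = z
  · have := (small {1, z} fun s hs => by simpa using ha s hs).trans Finset.card_le_two
    exact ⟨by omega, fun _ => by omega⟩
  push Not at ha
  obtain ⟨a, haE, a1, a2⟩ := ha
  by_cases hb : ∀ s ∈ E, s = 1 ∨ s = z ∨ s = a ∨ s = a * z
  · have := (small {1, z, a, a * z} fun s hs => by simpa using hb s hs).trans Finset.card_le_four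
    exact ⟨by omega, fun _ => by omega⟩
  push Not at hb
  obtain ⟨b, hbE, b1, b2, b3, b4⟩ := hb
  have hab1 : a * b ≠ 1 := fun e => b4 (by rw [← hinv a haE a1 a2, inv_eq_of_mul_eq_one_right e])
  have hab2 : a * b ≠ z := fun e => b3 (mul_left_cancel (e.trans (h a haE a1 a2).symm))
  have hba := hsw a haE b hbE a1 a2 b1 b2 hab1 hab2
  refine ⟨?_, fun hc => ?_⟩
  swap
  · rw [hc b hbE a haE] at hba
    exact absurd (mul_left_cancel ((mul_one (a * b)).trans hba)).symm hz1
  have habE := mul_mem haE hbE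
  refine (small ({1, z, a, a * z} ∪ {b, b * z, a * b, a * b * z}) fun c hcE => ?_).trans
    ((Finset.card_union_le _ _).trans (Nat.add_le_add Finset.card_le_four Finset.card_le_four))
  by_contra hcF
  simp only [Finset.mem_union, Finset.mem_insert, Finset.mem_singleton, not_or] at hcF
  obtain ⟨⟨c1, c2, c3, c4⟩, c5, c6, c7, c8⟩ := hcF
  have hac1 : a * c ≠ 1 := fun e => c4 (by rw [← hinv a haE a1 a2, inv_eq_of_mul_eq_one_right e])
  have hac2 : a * c ≠ z := fun e => c3 (mul_left_cancel (e.trans (h a haE a1 a2).symm))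
  have hbc1 : b * c ≠ 1 := fun e => c6 (by rw [← hinv b hbE b1 b2, inv_eq_of_mul_eq_one_right e])
  have hbc2 : b * c ≠ z := fun e => c5 (mul_left_cancel (e.trans (h b hbE b1 b2).symm))
  have habc1 : a * (b * c) ≠ 1 := fun e => c8 (by
    rw [← hinv (a * b) habE hab1 hab2, inv_eq_of_mul_eq_one_right (by rw [mul_assoc]; exact e)])
  have habc2 : a * (b * c) ≠ z := fun e => c7 (by
    refine mul_left_cancel (a := a * b) ?_
    rw [mul_assoc, e, h (a * b) habE hab1 hab2])
  have hca := hsw a haE c hcE a1 a2 c1 c2 hac1 hac2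
  have h3 := hsw a haE (b * c) (mul_mem hbE hcE) a1 a2 hbc1 hbc2 habc1 habc2
  have h4 : b * c * a = a * (b * c) := by
    calc b * c * a = b * a * c * z := by rw [mul_assoc b c a, hca]; group
      _ = a * b * (c * z) * z := by rw [hba, hzc c hcE]; group
      _ = a * (b * c) := by rw [mul_assoc (a * b), mul_assoc c, hzz, mul_one, mul_assoc]
  rw [h4] at h3
  exact hz1 (mul_left_cancel ((mul_one (a * (b * c))).trans h3)).symm

variable (hs : Spec G)
include hs

/-- Structure of the normalizer of a Sylow `p`-subgroup with an involution. -/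
theorem card_normalizer {p : ℕ} [Fact p.Prime] (hp : IsP p) (hdvd : p ∣ Nat.card G) (P : Sylow p G)
    {j : G} (hj : orderOf j = 2) (hjN : j ∈ normalizer ((P : Subgroup G) : Set G)) :
    let E := normalizer ((P : Subgroup G) : Set G) ⊓ centralizer ({j} : Set G)
    Nat.card (normalizer ((P : Subgroup G) : Set G)) = Nat.card (P : Subgroup G) * Nat.card E ∧
      (Nat.card E = 2 ∨ Nat.card E = 4 ∨ Nat.card E = 8) ∧
      (Nat.card E = 8 → ∃ a ∈ E, ∃ b ∈ E, a * b ≠ b * a) := by
  intro E
  haveI := Fact.mk Nat.prime_two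
  have hjj := orderOf_sq_one hj
  have hj1 : j ≠ 1 := fun e => by rw [e, orderOf_one] at hj; omega
  have hjC : j ∈ centralizer ({j} : Set G) := mem_centralizer_singleton_iff.2 rfl
  have hjE : j ∈ E := ⟨hjN, hjC⟩
  have h4 : ∀ g ∈ E, g ^ 4 = 1 := fun g hg =>
    eq_one_of_comm_invol hs hj (mem_centralizer_singleton_iff.1 hg.2)
  have hPC : ∀ u ∈ (P : Subgroup G), u ∈ centralizer ({j} : Set G) → u = 1 := fun u hu hc =>
    fpf hs hp Nat.prime_two (Ne.symm hp.ne_two) P.isPGroup' hj hu
      (mem_centralizer_singleton_iff.1 hc).symm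
  have hcard : Nat.card (normalizer ((P : Subgroup G) : Set G)) =
      Nat.card (P : Subgroup G) * Nat.card E := by
    rw [← Nat.card_prod]
    refine (Nat.card_congr (Equiv.ofBijective
      (fun x : ↥(P : Subgroup G) × ↥E => (⟨(x.1 : G) * x.2, mul_mem (le_normalizer x.1.2) x.2.2.1⟩ :
        normalizer ((P : Subgroup G) : Set G))) ⟨?_, ?_⟩)).symm
    · rintro ⟨u, g⟩ ⟨u', g'⟩ he
      have he : (u : G) * g = u' * g' := congrArg Subtype.val he
      have h1 : (u' : G)⁻¹ * u = g' * (g : G)⁻¹ := by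
        calc (u' : G)⁻¹ * u = (u' : G)⁻¹ * ((u : G) * g) * (g : G)⁻¹ := by group
          _ = (g' : G) * (g : G)⁻¹ := by rw [he]; group
      have h2 : (u' : G)⁻¹ * u = 1 := hPC _ (mul_mem (inv_mem u'.2) u.2)
        (h1 ▸ (centralizer ({j} : Set G)).mul_mem (mem_inf.1 g'.2).2 ((centralizer ({j} : Set G)).inv_mem (mem_inf.1 g.2).2))
      have h3 : (u : G) = u' := (inv_mul_eq_one.1 h2).symm
      rw [h3] at he
      exact Prod.ext (Subtype.ext h3) (Subtype.ext (mul_left_cancel he))
    · rintro ⟨g, hg⟩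
      obtain ⟨w, hw, hc⟩ := normalizer_split hs hp hdvd P hj hjN hg
      exact ⟨(⟨w, hw⟩, ⟨w⁻¹ * g, (normalizer ((P : Subgroup G) : Set G)).mul_mem
        ((normalizer ((P : Subgroup G) : Set G)).inv_mem (le_normalizer hw)) hg,
        mem_centralizer_singleton_iff.2 hc⟩), Subtype.ext (mul_inv_cancel_left w g)⟩
  have hE2 : IsPGroup 2 E := (isPGroup_centralizer hs Nat.prime_two hj).to_le inf_le_right
  have huniq : ∀ k ∈ E, orderOf k = 2 → k = j := by
    intro k hk hko
    obtain ⟨u, hu, hu1⟩ := (P : Subgroup G).bot_or_exists_ne_one.resolve_left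
      (P.ne_bot_of_dvd_card hdvd)
    have h1 := invol_inverts hs hp P.isPGroup' hko hk.1 hu
    have h2 := invol_inverts hs hp P.isPGroup' hj hjN (inv_mem hu)
    rw [inv_inv] at h2
    have hjk : j * k ∈ (P : Subgroup G) := centralizer_le_sylow hs hp P hu hu1 (by
      calc j * k * u = j * ((k * u * k⁻¹) * k) := by group
        _ = j * (u⁻¹ * k) := by rw [h1]
        _ = (j * u⁻¹ * j⁻¹) * (j * k) := by group
        _ = u * (j * k) := by rw [h2])
    have := hPC _ hjk (mul_mem hjC hk.2)
    calc k = j * (j * k) := by rw [← mul_assoc, hjj, one_mul]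
      _ = j := by rw [this, mul_one]
  have hsq : ∀ s ∈ E, s ≠ 1 → s ≠ j → s * s = j := by
    intro s hsE s1 s2
    refine huniq _ (mul_mem hsE hsE) (orderOf_two_of_sq ?_ fun e => s2 (huniq s hsE (orderOf_two_of_sq e s1)))
    have := h4 s hsE
    rw [← this]; simp only [pow_succ, pow_zero, one_mul, mul_assoc]
  obtain ⟨k, hk⟩ := IsPGroup.iff_card.1 hE2
  obtain ⟨hle, hab⟩ := card_le E j hjE hj1 hjj hsq
  refine ⟨hcard, ?_, fun h8 => ?_⟩
  · have h2d : 2 ∣ Nat.card E := by
      rw [← hj, ← Subgroup.orderOf_mk j hjE]; exact orderOf_dvd_natCard _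
    rw [hk] at hle h2d ⊢
    have hk3 : k ≤ 3 := by
      by_contra h
      have : 2 ^ 4 ≤ 2 ^ k := Nat.pow_le_pow_right (by norm_num) (by omega)
      omega
    rcases (show k = 0 ∨ k = 1 ∨ k = 2 ∨ k = 3 by omega) with rfl | rfl | rfl | rfl <;>
      first | tauto | norm_num at h2d | norm_num
  · by_contra hh
    push Not at hh
    have := hab hh
    omega

/-- An involution normalising `P` exists as soon as some element of order `p` is real. -/
theorem exists_invol {p : ℕ} [Fact p.Prime] (hp : IsP p) (hR : Real G p) (P : Sylow p G) :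
    ∃ j, orderOf j = 2 ∧ j ∈ normalizer ((P : Subgroup G) : Set G) := by
  obtain ⟨j, x, hj, hx, hinv⟩ := hR
  obtain ⟨T, hT⟩ := exists_sylow_mem hx
  obtain ⟨c, hc⟩ := MulAction.exists_smul_eq G T P
  refine ⟨c * j * c⁻¹, by rw [← MulAut.conj_apply, MulEquiv.orderOf_eq, hj], ?_⟩
  have hx1 : x ≠ 1 := fun e => by rw [e, orderOf_one] at hx; exact hp.prime.ne_one hx.symm
  refine mem_normalizer_of_inverts hs hp P (u := c * x * c⁻¹) ?_ (fun e => hx1 (conj_eq_one_iff.1 e)) ?_
  · rw [← hc, Sylow.coe_subgroup_smul]; exact ⟨x, hT, rfl⟩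
  · calc c * j * c⁻¹ * (c * x * c⁻¹) * (c * j * c⁻¹)⁻¹ = c * (j * x * j⁻¹) * c⁻¹ := by group
      _ = (c * x * c⁻¹)⁻¹ := by rw [hinv]; group

/-- If the elements of order `p` are real, the other odd prime does not divide `|N(P)|`. -/
theorem not_dvd_normalizer {p q : ℕ} [Fact p.Prime] (hp : IsP p) (hq : IsP q) (hne : q ≠ p)
    (hdvd : p ∣ Nat.card G) (hR : Real G p) (P : Sylow p G) :
    ¬ q ∣ Nat.card (normalizer ((P : Subgroup G) : Set G)) := by
  obtain ⟨j, hj, hjN⟩ := exists_invol hs hp hR P
  obtain ⟨h1, h2, -⟩ := card_normalizer hs hp hdvd P hj hjN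
  intro hd
  rw [h1] at hd
  obtain ⟨k, hk⟩ := IsPGroup.iff_card.1 P.isPGroup'
  rcases hq.prime.dvd_mul.1 hd with h | h
  · rw [hk] at h
    exact hne ((Nat.prime_dvd_prime_iff_eq hq.prime hp.prime).1 (hq.prime.dvd_of_dvd_pow h))
  · rcases h2 with e | e | e <;> rw [e] at h <;>
      exact hq.ne_two ((Nat.prime_dvd_prime_iff_eq hq.prime Nat.prime_two).1
        (hq.prime.dvd_of_dvd_pow (n := 3) (h.trans (by norm_num))))

theorem real_five_of_three (h5 : ¬ Real G 5) (h3 : Real G 3) {x : G} (hx : orderOf x = 3)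
    [Fact (Nat.Prime 5)] (Q : Sylow 5 G) (hQ : 5 ∣ Nat.card G)
    (hxN : x ∈ normalizer ((Q : Subgroup G) : Set G)) : False := by
  haveI := Fact.mk Nat.prime_three
  obtain ⟨y, hy, hy1⟩ := (Q : Subgroup G).bot_or_exists_ne_one.resolve_left
    (Q.ne_bot_of_dvd_card hQ)
  obtain ⟨P, hP⟩ := exists_sylow_mem hx
  obtain ⟨j, hj, hjN⟩ := exists_invol hs (Or.inl rfl) h3 P
  have hjx := invol_inverts hs (Or.inl rfl) P.isPGroup' hj hjN hP
  have hjj := orderOf_sq_one hj
  set k := j * x with hk
  have hkk : k * k = 1 := by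
    rw [hk]
    calc j * x * (j * x) = (j * x * j⁻¹) * (j * j) * x := by group
      _ = 1 := by rw [hjx, hjj, mul_one, inv_mul_cancel]
  have hk1 : k ≠ 1 := fun e => by
    have : x = j⁻¹ := (inv_eq_of_mul_eq_one_right e).symm
    rw [this, orderOf_inv, hj] at hx
    omega
  have hk2 := orderOf_two_of_sq hkk hk1
  have hy5 : ∀ q ∈ (Q : Subgroup G), q ≠ 1 → orderOf q = 5 := fun q hq hq1 =>
    order_of_mem hs (Or.inr rfl) Q.isPGroup' hq hq1
  -- no conjugate of an involution inverts an element of order 5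
  have key5 : ∀ a b : G, orderOf a = 2 → orderOf b = 3 → orderOf (a * b) = 5 → False := by
    intro a b ha hb hab
    obtain ⟨-, c, hc⟩ := five_inverts (orderOf_sq_one ha) (by rw [← hb, pow_orderOf_eq_one])
      (by rw [← hab, pow_orderOf_eq_one])
    exact h5 (real_of_conj ha hab hc)
  -- `k` times an element of `Q` has order 4
  have hfour : ∀ q ∈ (Q : Subgroup G), q ≠ 1 → orderOf (k * q) = 4 := by
    intro q hq hq1
    have hq5 := hy5 q hq hq1
    have hkkq : k * (k * q) = q := by rw [← mul_assoc, hkk, one_mul]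
    rcases order_cases hs (k * q) with e | e | e | e | e
    · exfalso
      rw [orderOf_eq_one_iff] at e
      rw [← inv_eq_of_mul_eq_one_right e, orderOf_inv] at hq5
      omega
    · exfalso
      refine h5 ⟨k, q, hk2, hq5, ?_⟩
      have := inverts_mul hkk (orderOf_sq_one e)
      rwa [hkkq] at this
    · exfalso
      exact key5 k (k * q) hk2 e (by rw [hkkq, hq5])
    · exact e
    · exfalso
      refine key5 j (x * q) hj ?_ (by rw [← mul_assoc, ← hk, e])
      -- `x * q` has order 3
      have hind : ∀ n : ℕ, (x * q) ^ n * (x ^ n)⁻¹ ∈ (Q : Subgroup G) := by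
        intro n
        induction n with
        | zero => simp [one_mem]
        | succ n ih =>
          have e : (x * q) ^ (n + 1) * (x ^ (n + 1))⁻¹ =
              x * (q * ((x * q) ^ n * (x ^ n)⁻¹)) * x⁻¹ := by
            rw [pow_succ' (x * q), pow_succ' x]; group
          rw [e]
          exact ((mem_normalizer_iff.1 hxN) _).1 (mul_mem hq ih)
      rcases order_cases hs (x * q) with e' | e' | e' | e' | e'
      all_goals first
        | exact e'
        | (exfalso
           have h1 := hind (orderOf (x * q))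
           rw [pow_orderOf_eq_one, one_mul, inv_mem_iff, e'] at h1
           have h6 : (x ^ orderOf (x * q)) ^ 5 = 1 := by
             rw [e']; exact pow_eq_one hs (Or.inr rfl) Q.isPGroup' h1
           rw [← pow_mul, e', ← orderOf_dvd_iff_pow_eq_one, hx] at h6
           omega)
  have hy1' := hy5 y hy hy1
  have hy5' : y ^ 5 = 1 := by rw [← hy1', pow_orderOf_eq_one]
  have hyy1 : y * y ≠ 1 := fun e => by
    rw [orderOf_two_of_sq e hy1] at hy1'
    omega
  set t := k * y * k * y with ht
  set v := t * (y⁻¹ * t * y) with hv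
  have h1 := hfour y hy hy1
  have ht1 : t ≠ 1 := fun e => by
    have h2 : (k * y) ^ 2 = 1 := by rw [sq, ← e, ht]; group
    have := orderOf_le_of_pow_eq_one (by norm_num) h2
    omega
  have hkt : t * t = 1 := by
    have h2 : (k * y) ^ 4 = 1 := by rw [← h1, pow_orderOf_eq_one]
    rw [← h2, ht]; simp only [pow_succ, pow_zero, one_mul, mul_assoc]
  have hv1 : v ≠ 1 := by
    intro e
    have hti : y⁻¹ * t * y = t := by
      rw [hv] at e
      rw [← inv_eq_of_mul_eq_one_right e, inv_eq_of_mul_eq_one_right hkt]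
    have hc : Commute t y := by
      show t * y = y * t
      calc t * y = y * (y⁻¹ * t * y) := by group
        _ = y * t := by rw [hti]
    exact no_commute hs Nat.prime_two (by norm_num) (by norm_num) (orderOf_two_of_sq hkt ht1) hy1' hc
  have hcomm := mul_eq_comm hkk hy5' ht hv
  have hvy : orderOf (v * y) = 4 := by
    have hvv : v * v = 1 := by
      have h2 : (k * (y * y)) ^ 4 = 1 := by
        rw [← hfour _ (mul_mem hy hy) hyy1, pow_orderOf_eq_one]
      have e : v = k * (y * y) * k * (y * y) := by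
        calc v = k * y * k * y * y⁻¹ * k * y * k * y * y := by rw [hv, ht]; group
          _ = k * y * (k * k) * y * k * y * y := by group
          _ = _ := by rw [hkk, mul_one]; group
      rw [e, ← h2]; simp only [pow_succ, pow_zero, one_mul, mul_assoc]
    have hv2 := orderOf_two_of_sq hvv hv1
    have hvvy : v * (v * y) = y := by rw [← mul_assoc, hvv, one_mul]
    rcases order_cases hs (v * y) with e | e | e | e | e
    · exfalso
      rw [orderOf_eq_one_iff] at e
      rw [← inv_eq_of_mul_eq_one_right e, orderOf_inv] at hy1'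
      omega
    · exfalso
      refine h5 ⟨v, y, hv2, hy1', ?_⟩
      have := inverts_mul hvv (orderOf_sq_one e)
      rwa [hvvy] at this
    · exfalso
      exact key5 v (v * y) hv2 e (by rw [hvvy, hy1'])
    · exact e
    · exfalso
      refine h5 ⟨k, v * y, hk2, e, ?_⟩
      rw [hcomm]
      exact inverts_mul hkk (conj_mul_self hkk)
  exact hy1 (five_eq_one hkk hy5' (by rw [← h1, pow_orderOf_eq_one])
    (by rw [← hfour _ (mul_mem hy hy) hyy1, pow_orderOf_eq_one]) ht hv
    (by rw [← hvy, pow_orderOf_eq_one]))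

theorem real_three_of_five (h3 : ¬ Real G 3) (h5 : Real G 5) {y : G} (hy : orderOf y = 5)
    [Fact (Nat.Prime 3)] (P : Sylow 3 G) (hP : 3 ∣ Nat.card G)
    (hyN : y ∈ normalizer ((P : Subgroup G) : Set G)) : False := by
  haveI := Fact.mk (show Nat.Prime 5 by norm_num)
  obtain ⟨x, hx, hx1⟩ := (P : Subgroup G).bot_or_exists_ne_one.resolve_left
    (P.ne_bot_of_dvd_card hP)
  obtain ⟨Q, hQ⟩ := exists_sylow_mem hy
  obtain ⟨j, hj, hjN⟩ := exists_invol hs (Or.inr rfl) h5 Q
  have hjy := invol_inverts hs (Or.inr rfl) Q.isPGroup' hj hjN hQ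
  have hjj := orderOf_sq_one hj
  have hx3 := order_of_mem hs (Or.inl rfl) P.isPGroup' hx hx1
  set k := j * y with hk
  have hkk : k * k = 1 := by
    rw [hk]
    calc j * y * (j * y) = (j * y * j⁻¹) * (j * j) * y := by group
      _ = 1 := by rw [hjy, hjj, mul_one, inv_mul_cancel]
  have hk1 : k ≠ 1 := fun e => by
    rw [← inv_eq_of_mul_eq_one_right (show j * y = 1 from e), orderOf_inv, hj] at hy
    omega
  have hk2 := orderOf_two_of_sq hkk hk1
  have hkkx : k * (k * x) = x := by rw [← mul_assoc, hkk, one_mul]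
  have hyx : orderOf (y * x) = 5 := by
    have hind : ∀ n : ℕ, (y * x) ^ n * (y ^ n)⁻¹ ∈ (P : Subgroup G) := by
      intro n
      induction n with
      | zero => simp [one_mem]
      | succ n ih =>
        have e : (y * x) ^ (n + 1) * (y ^ (n + 1))⁻¹ =
            y * (x * ((y * x) ^ n * (y ^ n)⁻¹)) * y⁻¹ := by
          rw [pow_succ' (y * x), pow_succ' y]; group
        rw [e]
        exact ((mem_normalizer_iff.1 hyN) _).1 (mul_mem hx ih)
    rcases order_cases hs (y * x) with e' | e' | e' | e' | e'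
    all_goals first
      | exact e'
      | (exfalso
         have h1 := hind (orderOf (y * x))
         rw [pow_orderOf_eq_one, one_mul, inv_mem_iff, e'] at h1
         have h6 : (y ^ orderOf (y * x)) ^ 3 = 1 := by
           rw [e']; exact pow_eq_one hs (Or.inl rfl) P.isPGroup' h1
         rw [← pow_mul, e', ← orderOf_dvd_iff_pow_eq_one, hy] at h6
         omega)
  rcases order_cases hs (k * x) with e | e | e | e | e
  · rw [orderOf_eq_one_iff] at e
    rw [← inv_eq_of_mul_eq_one_right e, orderOf_inv] at hx3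
    omega
  · refine h3 ⟨k, x, hk2, hx3, ?_⟩
    have := inverts_mul hkk (orderOf_sq_one e)
    rwa [hkkx] at this
  · obtain ⟨⟨c, hc⟩, -⟩ := five_inverts (a := j) (b := k * x) hjj (by rw [← e, pow_orderOf_eq_one])
      (by
        rw [show j * (k * x) = y * x by rw [hk, ← mul_assoc, ← mul_assoc, hjj, one_mul], ← hyx,
          pow_orderOf_eq_one])
    exact h3 (real_of_conj hj e hc)
  · obtain ⟨c, hc⟩ := four_inverts hkk (by rw [← hx3, pow_orderOf_eq_one]) (b := x)
      (by rw [← e, pow_orderOf_eq_one])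
    exact h3 (real_of_conj hk2 hx3 hc)
  · obtain ⟨⟨c, hc⟩, -⟩ := five_inverts hkk (by rw [← hx3, pow_orderOf_eq_one]) (b := x)
      (by rw [← e, pow_orderOf_eq_one])
    exact h3 (real_of_conj hk2 hx3 hc)

/-- Reality passes from one odd prime to the other. -/
theorem real_other {p q : ℕ} (hp : IsP p) (hq : IsP q) (hne : q ≠ p) (hpd : p ∣ Nat.card G)
    (hqd : q ∣ Nat.card G) (hR : Real G p) : Real G q := by
  by_contra hnq
  haveI := Fact.mk hp.prime
  haveI := Fact.mk hq.prime
  obtain ⟨Q⟩ : Nonempty (Sylow q G) := inferInstance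
  obtain ⟨P⟩ : Nonempty (Sylow p G) := inferInstance
  set N := normalizer ((Q : Subgroup G) : Set G) with hN
  obtain ⟨y, hy, hy1⟩ := (Q : Subgroup G).bot_or_exists_ne_one.resolve_left
    (Q.ne_bot_of_dvd_card hqd)
  by_cases hex : ∃ g ∈ N, orderOf g = p
  · obtain ⟨g, hg, hgo⟩ := hex
    rcases hp with rfl | rfl <;> rcases hq with rfl | rfl
    · exact hne rfl
    · exact real_five_of_three hs hnq hR hgo Q hqd hg
    · exact real_three_of_five hs hnq hR hgo Q hqd hg
    · exact hne rfl
  · push Not at hex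
    -- `Q` is self-normalizing
    have hNQ : N ≤ (Q : Subgroup G) := by
      intro g hg
      rcases eq_or_ne g 1 with rfl | hg1
      · exact one_mem _
      obtain ⟨r, hr, hrd⟩ := Nat.exists_prime_and_dvd (fun e => hg1 (orderOf_eq_one_iff.1 e))
      have hrq : r = q := by
        have hpow : orderOf (g ^ (orderOf g / r)) = r := orderOf_pow_orderOf_div (orderOf_pos g).ne' hrd
        by_contra hrq
        rcases prime_dvd_cases hs hr hrd with e | e | e
        · subst e
          exact hnq ⟨_, y, hpow, order_of_mem hs hq Q.isPGroup' hy hy1,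
            invol_inverts hs hq Q.isPGroup' hpow (pow_mem hg _) hy⟩
        all_goals
          refine hex _ (pow_mem hg _) (hpow.trans ?_)
          rcases hp with rfl | rfl <;> rcases hq with rfl | rfl <;> omega
      exact mem_of_normalizer hs hq Q hg (order_eq hs hq (hrq ▸ hrd))
    have htop : ((Q : Subgroup G).subgroupOf N) = ⊤ := subgroupOf_eq_top.2 hNQ
    have hidx : ((Q : Subgroup G).subgroupOf N).index = 1 := by rw [htop, index_top]
    obtain ⟨K, hK, hKc, -⟩ := TIHallComplement.exists_normal_complement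
      (H := (Q : Subgroup G)) (isTISubset hs hq Q) (by rw [hidx]; exact Nat.coprime_one_right _)
      (K := (⊥ : Subgroup N)) (by rw [htop]; exact isComplement'_bot_top)
    -- `K` contains the Sylow `p`-subgroups
    have hKidx : K.index = Nat.card (Q : Subgroup G) := hKc.symm.index_eq_card
    have hco : (Nat.card (P : Subgroup G)).Coprime K.index := by
      rw [hKidx]
      obtain ⟨a, ha⟩ := IsPGroup.iff_card.1 P.isPGroup'
      obtain ⟨b, hb⟩ := IsPGroup.iff_card.1 Q.isPGroup'
      rw [ha, hb]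
      exact Nat.Coprime.pow _ _ ((Nat.coprime_primes hp.prime hq.prime).2 (Ne.symm hne))
    have hPK : (P : Subgroup G) ≤ K := by
      intro u hu
      rw [← QuotientGroup.eq_one_iff (N := K) u, ← orderOf_eq_one_iff]
      refine Nat.eq_one_of_dvd_coprimes hco ?_ ?_
      · exact (orderOf_map_dvd (QuotientGroup.mk' K) u).trans
          ((Subgroup.orderOf_mk u hu) ▸ orderOf_dvd_natCard (⟨u, hu⟩ : (P : Subgroup G)))
      · rw [Subgroup.index_eq_card]; exact orderOf_dvd_natCard _
    have htop' : normalizer ((P : Subgroup G) : Set G) ⊔ K = ⊤ := by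
      have := (P.subtype hPK).normalizer_sup_eq_top
      rwa [Sylow.coe_subtype, subgroupOf_map_subtype, inf_eq_left.2 hPK] at this
    have hdvd : K.index ∣ Nat.card (normalizer ((P : Subgroup G) : Set G)) := by
      rw [← relIndex_top_right K, ← htop', relIndex_sup_right]
      exact relIndex_dvd_card _ _
    rw [hKidx] at hdvd
    exact not_dvd_normalizer hs hp hq hne hpd hR P ((Q.dvd_card_of_dvd_card hqd).trans hdvd)

/-- When the Sylow 3-subgroup is not cyclic and elements of order 3 are real, there is one class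
of involutions. -/
theorem one_class [Fact (Nat.Prime 3)] (h3 : Real G 3) (P : Sylow 3 G)
    (hP : 9 ≤ Nat.card (P : Subgroup G)) {a b : G} (ha : orderOf a = 2) (hb : orderOf b = 2) :
    IsConj a b := by
  have h3d : 3 ∣ Nat.card G := by
    obtain ⟨k, hk⟩ := IsPGroup.iff_card.1 P.isPGroup'
    rcases k with _ | k
    · rw [hk] at hP; norm_num at hP
    · exact ((dvd_pow_self 3 k.succ_ne_zero).trans hk.symm.dvd).trans (card_subgroup_dvd_card _)
  obtain ⟨j, hj, hjN⟩ := exists_invol hs (Or.inl rfl) h3 P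
  suffices key : ∀ b : G, orderOf b = 2 → IsConj j b from (key a ha).symm.trans (key b hb)
  clear ha hb a b
  intro b hb
  by_contra hbj
  have hjj := orderOf_sq_one hj
  have hbb := orderOf_sq_one hb
  have hbi : b⁻¹ = b := inv_eq_of_mul_eq_one_right hbb
  have hinvol : ∀ k : G, orderOf k = 2 → k ∈ normalizer ((P : Subgroup G) : Set G) → IsConj j k := by
    intro k hk hkN
    obtain ⟨w, hw, hc⟩ := normalizer_split hs (Or.inl rfl) h3d P hj hjN hkN
    have hkj : orderOf (j * k) ∣ 3 := by
      refine orderOf_dvd_of_pow_eq_one (pow_eq_one hs (Or.inl rfl) P.isPGroup' ?_)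
      obtain ⟨u, hu, hu1⟩ := (P : Subgroup G).bot_or_exists_ne_one.resolve_left
        (P.ne_bot_of_dvd_card h3d)
      have h1 := invol_inverts hs (Or.inl rfl) P.isPGroup' hk hkN hu
      have h2 := invol_inverts hs (Or.inl rfl) P.isPGroup' hj hjN (inv_mem hu)
      rw [inv_inv] at h2
      refine centralizer_le_sylow hs (Or.inl rfl) P hu hu1 ?_
      calc j * k * u = j * ((k * u * k⁻¹) * k) := by group
        _ = j * (u⁻¹ * k) := by rw [h1]
        _ = (j * u⁻¹ * j⁻¹) * (j * k) := by group
        _ = u * (j * k) := by rw [h2]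
    have hkk := orderOf_sq_one hk
    have h3' : (j * k) ^ 3 = 1 := orderOf_dvd_iff_pow_eq_one.1 hkj
    refine isConj_iff.2 ⟨j * k, ?_⟩
    rw [mul_inv_rev, inv_eq_of_mul_eq_one_right hjj, inv_eq_of_mul_eq_one_right hkk]
    have : j * k * (j * k * (j * k)) = 1 := by
      rw [← h3']; simp only [pow_succ, pow_zero, one_mul, mul_assoc]
    calc j * k * j * (k * j) = j * k * (j * k * (j * k)) * k⁻¹ := by group
      _ = k := by rw [this, one_mul, inv_eq_of_mul_eq_one_right hkk]
  have hrel : ∀ x ∈ (P : Subgroup G), x ≠ 1 → (b * x) ^ 3 = 1 := by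
    intro x hx hx1
    have hx3 := order_of_mem hs (Or.inl rfl) P.isPGroup' hx hx1
    have hno : ∀ c : G, (c * b * c⁻¹) * x * (c * b * c⁻¹)⁻¹ = x⁻¹ → False := fun c hc => by
      have ho : orderOf (c * b * c⁻¹) = 2 := by rw [← MulAut.conj_apply, MulEquiv.orderOf_eq, hb]
      exact hbj ((hinvol _ ho (mem_normalizer_of_inverts hs (Or.inl rfl) P hx hx1 hc)).trans
        (isConj_iff.2 ⟨c, rfl⟩).symm)
    rcases order_cases hs (b * x) with e | e | e | e | e
    · rw [orderOf_eq_one_iff] at e
      rw [e, one_pow]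
    · exfalso
      refine hno 1 ?_
      have := inverts_mul hbb (orderOf_sq_one e)
      simp only [← mul_assoc, hbb, one_mul] at this
      rwa [inv_one, mul_one, one_mul]
    · rw [← e, pow_orderOf_eq_one]
    · obtain ⟨c, hc⟩ := four_inverts hbb (by rw [← hx3, pow_orderOf_eq_one]) (b := x)
        (by rw [← e, pow_orderOf_eq_one])
      exact (hno c hc).elim
    · obtain ⟨⟨c, hc⟩, -⟩ := five_inverts hbb (by rw [← hx3, pow_orderOf_eq_one]) (b := x)
        (by rw [← e, pow_orderOf_eq_one])
      exact (hno c hc).elim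
  set C : G → G := fun x => x * b * x⁻¹ with hC
  have hCC : ∀ x, C x * C x = 1 := fun x => conj_mul_self hbb
  have hcomm : ∀ u ∈ (P : Subgroup G), ∀ v ∈ (P : Subgroup G), u * v = v * u := fun u hu v hv =>
    comm_of_invol hs (Or.inl rfl) P.isPGroup' hj hjN hu hv
  have hline : ∀ x ∈ (P : Subgroup G), x ≠ 1 → C (x * x) = b * C x ∧ Commute b (C x) := by
    intro x hx hx1
    have hx3 : x * x * x = 1 := by
      rw [← pow_eq_one hs (Or.inl rfl) P.isPGroup' hx]; simp only [pow_succ, pow_zero, one_mul]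
    have e : b * C x * C (x * x) = 1 := by
      calc b * C x * C (x * x) = b * x * b * x * b * x⁻¹ * x⁻¹ := by rw [hC]; group
        _ = b * x * b * x * b * x * (x * x * x)⁻¹ := by group
        _ = 1 := by
          rw [hx3, inv_one, mul_one, ← hrel x hx hx1]
          simp only [pow_succ, pow_zero, one_mul, mul_assoc]
    have e2 : C (x * x) = C x * b := by
      calc C (x * x) = (b * C x)⁻¹ * (b * C x * C (x * x)) := by group
        _ = C x * b := by rw [e, mul_one, mul_inv_rev, hbi, inv_eq_of_mul_eq_one_right (hCC x)]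
    have e3 : C x * b = b * C x := by
      have h1 := hCC (x * x)
      rw [e2] at h1
      calc C x * b = C x * b * (C x * b * C x * b)⁻¹ := by rw [mul_assoc (C x * b), h1, inv_one, mul_one]
        _ = b⁻¹ * (C x)⁻¹ := by group
        _ = b * C x := by rw [hbi, inv_eq_of_mul_eq_one_right (hCC x)]
    exact ⟨e2.trans e3, e3.symm⟩
  have htr : ∀ u x : G, u * C x * u⁻¹ = C (u * x) := fun u x => by rw [hC]; group
  obtain ⟨g, hg, hg1⟩ := (P : Subgroup G).bot_or_exists_ne_one.resolve_left
    (P.ne_bot_of_dvd_card h3d)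
  obtain ⟨h, hh, hhg⟩ : ∃ h ∈ (P : Subgroup G), h ∉ zpowers g := by
    by_contra hh
    push Not at hh
    have := card_le_of_le (show (P : Subgroup G) ≤ zpowers g from hh)
    rw [Nat.card_zpowers, order_of_mem hs (Or.inl rfl) P.isPGroup' hg hg1] at this
    omega
  have hh1 : h ≠ 1 := fun e => hhg (e ▸ one_mem _)
  have hg3 : g * g * g = 1 := by
    rw [← pow_eq_one hs (Or.inl rfl) P.isPGroup' hg]; simp only [pow_succ, pow_zero, one_mul]
  have hne1 : g * h ≠ 1 := fun e => hhg (by
    rw [← inv_eq_of_mul_eq_one_right e]; exact inv_mem (mem_zpowers g))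
  have hne2 : g * g * h ≠ 1 := fun e => hhg (by
    rw [← inv_eq_of_mul_eq_one_right e]; exact inv_mem (mul_mem (mem_zpowers g) (mem_zpowers g)))
  obtain ⟨lg, cg⟩ := hline g hg hg1
  obtain ⟨lh, ch⟩ := hline h hh hh1
  obtain ⟨la, ca⟩ := hline (g * h) (mul_mem hg hh) hne1
  obtain ⟨lb, cb⟩ := hline (g * g * h) (mul_mem (mul_mem hg hg) hh) hne2
  have hgh := hcomm g hg h hh
  -- translates of the line through `1` and `g`
  have t1 : C (g * g * h) = C h * C (g * h) := by
    have := congrArg (fun z => h * z * h⁻¹) lg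
    simp only [show h * (b * C g) * h⁻¹ = (h * b * h⁻¹) * (h * C g * h⁻¹) by group, htr] at this
    rw [show h * (g * g) = g * g * h from hcomm h hh _ (mul_mem hg hg), ← hgh] at this
    exact this
  have t2 : C (g * g * (h * h)) = C (h * h) * C (g * (h * h)) := by
    have := congrArg (fun z => (h * h) * z * (h * h)⁻¹) lg
    simp only [show (h * h) * (b * C g) * (h * h)⁻¹ = ((h * h) * b * (h * h)⁻¹) * ((h * h) * C g * (h * h)⁻¹) by
      group, htr] at this
    rw [hcomm _ (mul_mem hh hh) _ (mul_mem hg hg), hcomm _ (mul_mem hh hh) g hg] at this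
    exact this
  have la' : C (g * g * (h * h)) = b * C (g * h) := by
    rw [← la]; congr 1
    calc g * g * (h * h) = g * (g * h) * h := by group
      _ = g * (h * g) * h := by rw [hgh]
      _ = g * h * (g * h) := by group
  have lb' : C (g * (h * h)) = b * C (g * g * h) := by
    rw [← lb]; congr 1
    calc g * (h * h) = (g * g * g) * g * (h * h) := by rw [hg3, one_mul]
      _ = g * g * (g * (g * h)) * h := by group
      _ = g * g * (g * (h * g)) * h := by rw [hgh]
      _ = g * g * (g * h) * (g * h) := by group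
      _ = g * g * (h * g) * (g * h) := by rw [hgh]
      _ = g * g * h * (g * g * h) := by group
  rw [la', lh, lb', t1] at t2
  have hb1 : b = 1 := by
    have h2 : b * C h * (b * (C h * C (g * h))) = C (g * h) := by
      calc b * C h * (b * (C h * C (g * h))) = b * (C h * b) * C h * C (g * h) := by group
        _ = (b * b) * (C h * C h) * C (g * h) := by rw [← ch.eq]; group
        _ = C (g * h) := by rw [hbb, hCC, one_mul, one_mul]
    exact mul_eq_right.1 (t2.trans h2)
  rw [hb1, orderOf_one] at hb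
  omega

end Cfsg.Agent.SpectrumFive57Real
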