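import Mathlib
import Cfsg.Agent.Lib.SpectrumFive57Real
import Cfsg.Agent.Lib.BlockAbelianSylowMain86
import Cfsg.Agent.Lib.ZStarCount
import Cfsg.Agent.Lib.CharAverage

/-!
Element orders at most 5: an irreducible character whose degree is a power of two congruent to a
small number modulo the order of the Sylow 5-subgroup, when both odd Sylow subgroups are large.
-/

set_option autoImplicit false
set_option linter.all false

open Subgroup Pointwise
open scoped ComplexConjugate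

namespace Cfsg.Agent.SpectrumFive57Chars

open Cfsg Cfsg.Agent.BlockTheoryLocalRing Cfsg.Agent.BlockTheoryCentre Cfsg.Agent.BlockTheoryIdem
  Cfsg.Agent.BlockPrincipal81 Cfsg.Agent.CharBasic Cfsg.Agent.CharBasicOrth
open SpectrumFive57Local SpectrumFive57Real

attribute [local instance] Classical.propDecidable

universe u

variable {G : Type u} [Group G] [Fintype G]

/-- What we use of the principal `p`-block. -/
structure Data (p : ℕ) (P : Subgroup G) where
  X : Finset (IrrCharacter G)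
  Y : Finset (IrrCharacter G)
  a : IrrCharacter G → ℤ
  K : ℂ
  e : ℕ
  he : e = 2 ∨ e = 4 ∨ e = 8
  card_Y : Y.card * e + 1 = Nat.card P
  sum_le : ∑ χ ∈ X, a χ ^ 2 ≤ (e : ℤ)
  one_mem : oneChar G ∈ X
  a_one : a (oneChar G) = 1
  support : ∀ χ : IrrCharacter G, ∀ y ∈ P, y ≠ 1 → (χ : G → ℂ) y ≠ 0 → χ ∈ X ∨ χ ∈ Y
  value : ∀ χ ∈ X, a χ ≠ 0 ∧ ∀ y ∈ P, y ≠ 1 → (χ : G → ℂ) y = (a χ : ℂ)
  agree : ∀ η ∈ Y, ∀ η' ∈ Y, ∀ g : G, ¬ p ∣ orderOf g → (η : G → ℂ) g = (η' : G → ℂ) g
  relation : ∀ η ∈ Y, ∀ g : G, ¬ p ∣ orderOf g →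
    K * (η : G → ℂ) g + ∑ χ ∈ X, (a χ : ℂ) * (χ : G → ℂ) g = 0

theorem exists_data (hs : Spec G) {p : ℕ} [Fact p.Prime] (hp : IsP p) (hR : Real G p)
    (P : Sylow p G) (hP : 9 < Nat.card (P : Subgroup G)) : Nonempty (Data (G := G) p (P : Subgroup G)) := by
  obtain ⟨M, hM⟩ := ZStarCount.exists_isPModular p hp.prime
  have hdvd : p ∣ Nat.card G := by
    obtain ⟨j, x, -, hx, -⟩ := hR
    exact hx ▸ orderOf_dvd_natCard x
  obtain ⟨j, hj, hjN⟩ := exists_invol hs hp hR P
  obtain ⟨hcardN, he, -⟩ := card_normalizer hs hp hdvd P hj hjN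
  have hab : IsMulCommutative (P : Subgroup G) :=
    ⟨⟨fun a b => Subtype.ext (comm_of_invol hs hp P.isPGroup' hj hjN a.2 b.2)⟩⟩
  obtain ⟨u, hu, hu1⟩ := (P : Subgroup G).bot_or_exists_ne_one.resolve_left
    (P.ne_bot_of_dvd_card hdvd)
  have hC : centralizer ((P : Subgroup G) : Set G) = (P : Subgroup G) := by
    refine le_antisymm (fun g hg => centralizer_le_sylow hs hp P hu hu1
      (mem_centralizer_iff.1 hg u hu).symm) fun v hv => mem_centralizer_iff.2 fun w hw => ?_
    exact comm_of_invol hs hp P.isPGroup' hj hjN hw hv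
  have hCy : ∀ y ∈ (P : Subgroup G), y ≠ 1 → centralizer ({y} : Set G) = (P : Subgroup G) := by
    intro y hy hy1
    refine le_antisymm (fun g hg => centralizer_le_sylow hs hp P hy hy1
      (mem_centralizer_singleton_iff.1 hg)) fun v hv => mem_centralizer_singleton_iff.2
        (comm_of_invol hs hp P.isPGroup' hj hjN hv hy)
  have hfree : BlockAbelianSylow86.FreeAction P := fun y hy hy1 => by
    rw [hCy y hy hy1, hC, inf_eq_left]
    exact le_normalizer
  set E := normalizer ((P : Subgroup G) : Set G) ⊓ centralizer ({j} : Set G)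
  have hm : (centralizer ((P : Subgroup G) : Set G)).relIndex
      (normalizer ((P : Subgroup G) : Set G)) = Nat.card E := by
    rw [hC]
    refine Nat.eq_of_mul_eq_mul_left (Nat.card_pos (α := ↥(P : Subgroup G))) ?_
    rw [← hcardN, ← Nat.card_congr (subgroupOfEquivOfLe
      (le_normalizer : (P : Subgroup G) ≤ normalizer ((P : Subgroup G) : Set G))).toEquiv]
    exact Subgroup.card_mul_index _
  have hm2 : Nat.card E + 1 < Nat.card (P : Subgroup G) := by
    rcases he with e | e | e <;> rw [e] <;> omega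
  haveI : Fintype ↥(P : Subgroup G) := Fintype.ofFinite _
  haveI := hab
  haveI : Fintype (↥(P : Subgroup G) →* ℂˣ) := Fintype.ofFinite _
  obtain ⟨X, Y, a, d, δ, ζ, hδ, hdis, hmem, hYc, hY2, hone, ha1, hζY, hYζ, -, hX, -, hsum, hagree,
    hrel⟩ := BlockAbelianSylow86.structure_theorem hab hfree hM (Nat.card E) hm hm2
  have hval : ∀ χ : IrrCharacter G, ∀ y ∈ (P : Subgroup G), y ≠ 1 → (χ : G → ℂ) y ≠ 0 →
      χ ∈ principalBlock M G := by
    intro χ y hy hy1 hχ
    by_contra hχB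
    have hcol := BlockAbelianSylow86.column hab hfree hM hy hy1 hy hy1
    rw [if_pos ⟨1, one_mem _, by group⟩] at hcol
    have hall := sum_irr_mul_conj y y
    rw [if_pos (IsConj.refl y), hCy y hy hy1] at hall
    have hsub : ∑ ψ : IrrCharacter G, (if ψ ∈ principalBlock M G then 0 else
        Complex.normSq ((ψ : G → ℂ) y)) = 0 := by
      have e : ((∑ ψ : IrrCharacter G, (if ψ ∈ principalBlock M G then 0 else
        Complex.normSq ((ψ : G → ℂ) y)) : ℝ) : ℂ) = 0 := by
        rw [Complex.ofReal_sum, ← sub_self (Nat.card (P : Subgroup G) : ℂ)]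
        nth_rw 1 [← hall]
        rw [← hcol, ← Finset.sum_sub_distrib]
        refine Finset.sum_congr rfl fun ψ _ => ?_
        split_ifs
        · simp
        · rw [sub_zero, Complex.mul_conj]
      exact_mod_cast e
    have h0 := (Finset.sum_eq_zero_iff_of_nonneg (fun ψ _ => by
      split_ifs <;> [exact le_rfl; exact Complex.normSq_nonneg _])).1 hsub χ (Finset.mem_univ _)
    rw [if_neg hχB, Complex.normSq_eq_zero] at h0
    exact hχ h0
  refine ⟨⟨X, Y, a, (Y.card : ℂ) * d - δ, Nat.card E, he, hYc, ?_, hone, ha1,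
    fun χ y hy hy1 h => (hmem χ).1 (hval χ y hy hy1 h),
    fun χ hχ => ⟨(hX χ hχ).1, fun y hy hy1 => (hX χ hχ).2 ⟨y, hy⟩ fun h => hy1 (congrArg Subtype.val h)⟩,
    hagree, hrel⟩⟩
  have h1 : 1 ≤ (d - δ) ^ 2 + ((Y.card : ℤ) - 1) * d ^ 2 := by
    rcases eq_or_ne d 0 with rfl | hd
    · rcases hδ with rfl | rfl <;> norm_num
    · have : 1 ≤ d ^ 2 := by
        have : 0 < d ^ 2 := by positivity
        omega
      have h2 : (2 : ℤ) ≤ Y.card := by exact_mod_cast hY2
      nlinarith [sq_nonneg (d - δ)]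
  linarith

/-- The degree is congruent to the constant value modulo the order of the subgroup. -/
theorem deg_congr {P : Subgroup G} (χ : IrrCharacter G) (b : ℤ)
    (hb : ∀ y ∈ P, y ≠ 1 → (χ : G → ℂ) y = (b : ℂ)) :
    (Nat.card P : ℤ) ∣ (charDegree (χ : G → ℂ) : ℤ) - b := by
  haveI : Fintype P := Fintype.ofFinite _
  obtain ⟨m, hm⟩ := ClassAlgebraVal.exists_sum_subgroup (isCharacter_of_isIrrCharacter χ.2) P
  rw [← Finset.add_sum_erase _ _ (Finset.mem_univ (1 : P)),
    Finset.sum_congr rfl (g := fun _ => (b : ℂ)) (fun u hu => by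
      rw [hb u u.2 fun h => (Finset.mem_erase.1 hu).1 (Subtype.ext h), map_intCast]),
    Finset.sum_const, Finset.card_erase_of_mem (Finset.mem_univ _), Finset.card_univ,
    ← Nat.card_eq_fintype_card, OneMemClass.coe_one, ClassAlgebraVal.apply_one_eq_charDegree,
    map_natCast, nsmul_eq_mul, Nat.cast_sub Nat.card_pos, Nat.cast_one] at hm
  refine ⟨(m : ℤ) - b, ?_⟩
  have : (((charDegree (χ : G → ℂ) : ℤ) - b : ℤ) : ℂ) = (((Nat.card P : ℤ) * ((m : ℤ) - b) : ℤ) : ℂ) := by
    push_cast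
    linear_combination hm
  exact_mod_cast this

theorem exists_degree (hs : Spec G) (h3 : Real G 3) (h5 : Real G 5) [Fact (Nat.Prime 3)]
    [Fact (Nat.Prime 5)] (P : Sylow 3 G) (Q : Sylow 5 G) (hP : 27 ≤ Nat.card (P : Subgroup G))
    (hQ : 125 ≤ Nat.card (Q : Subgroup G)) :
    ∃ n : ℕ, ∃ b : ℤ, n ∣ Nat.card G ∧ ¬ 3 ∣ n ∧ ¬ 5 ∣ n ∧ 3 ≤ n ∧ b ≠ 0 ∧ b.natAbs ≤ 2 ∧
      (Nat.card (Q : Subgroup G) : ℤ) ∣ (n : ℤ) - b := by
  obtain ⟨D⟩ := exists_data hs (Or.inl rfl) h3 P (by omega)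
  obtain ⟨F⟩ := exists_data hs (Or.inr rfl) h5 Q (by omega)
  have h3d : 3 ∣ Nat.card G := by
    obtain ⟨j, x, -, hx, -⟩ := h3
    exact hx ▸ orderOf_dvd_natCard x
  have h5d : 5 ∣ Nat.card G := by
    obtain ⟨j, x, -, hx, -⟩ := h5
    exact hx ▸ orderOf_dvd_natCard x
  obtain ⟨x, hx, hx1⟩ := (P : Subgroup G).bot_or_exists_ne_one.resolve_left
    (P.ne_bot_of_dvd_card h3d)
  obtain ⟨y, hy, hy1⟩ := (Q : Subgroup G).bot_or_exists_ne_one.resolve_left
    (Q.ne_bot_of_dvd_card h5d)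
  have hx3 := order_of_mem hs (Or.inl rfl) P.isPGroup' hx hx1
  have hy5 := order_of_mem hs (Or.inr rfl) Q.isPGroup' hy hy1
  have hx' : ¬ 5 ∣ orderOf x := by omega
  have hy' : ¬ 3 ∣ orderOf y := by omega
  have ht3 : 10 ≤ D.Y.card := by
    have hc := D.card_Y
    obtain ⟨k, hk⟩ := IsPGroup.iff_card.1 P.isPGroup'
    rw [hk] at hc hP
    rcases (show k ≤ 3 ∨ 4 ≤ k by omega) with h | h
    · interval_cases k <;> rcases D.he with e | e | e <;> rw [e] at hc <;> omega
    · have : 81 ≤ 3 ^ k := (show 81 = 3 ^ 4 by norm_num) ▸ Nat.pow_le_pow_right (by norm_num) h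
      rcases D.he with e | e | e <;> rw [e] at hc <;> omega
  have ht5 : 10 ≤ F.Y.card := by
    have hc := F.card_Y
    rcases F.he with e | e | e <;> rw [e] at hc <;> omega
  have hXle : ∀ {p : ℕ} {R : Subgroup G} (D : Data p R), D.X.card ≤ 8 := by
    intro p R D
    have h1 : (D.X.card : ℤ) ≤ ∑ χ ∈ D.X, D.a χ ^ 2 := by
      have := Finset.card_nsmul_le_sum D.X (fun χ => D.a χ ^ 2) 1 fun χ hχ => by
        have := (D.value χ hχ).1
        have : 0 < D.a χ ^ 2 := by positivity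
        omega
      simpa using this
    have := D.sum_le
    rcases D.he with e | e | e <;> rw [e] at this <;> push_cast at this <;> omega
  have hsmall : ∀ {p : ℕ} {R : Subgroup G} (D : Data p R) (χ : IrrCharacter G), χ ∈ D.X →
      (D.a χ).natAbs ≤ 2 := by
    intro p R D χ hχ
    have h1 := Finset.single_le_sum (f := fun χ => D.a χ ^ 2) (fun χ _ => sq_nonneg _) hχ
    have := D.sum_le
    by_contra h
    have h9 : (9 : ℤ) ≤ D.a χ ^ 2 := by
      rw [← Int.natAbs_sq]
      have : (3 : ℤ) ≤ ((D.a χ).natAbs : ℤ) := by omega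
      nlinarith
    rcases D.he with e | e | e <;> rw [e] at this <;> push_cast at this <;> omega
  have hboth : ∀ η ∈ D.Y, ∀ η' ∈ D.Y, η ∈ F.Y → η' ∈ F.Y → η = η' := by
    intro η h1 η' h2 h3' h4
    refine Subtype.ext (funext fun g => ?_)
    by_cases hg : 3 ∣ orderOf g
    · exact F.agree η h3' η' h4 g (by rw [order_eq hs (Or.inl rfl) hg]; norm_num)
    · exact D.agree η h1 η' h2 g hg
  have hYY : (D.Y ∩ F.Y).card ≤ 1 := Finset.card_le_one.2 fun η hη η' hη' =>
    hboth η (Finset.mem_inter.1 hη).1 η' (Finset.mem_inter.1 hη').1 (Finset.mem_inter.1 hη).2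
      (Finset.mem_inter.1 hη').2
  -- the exceptional characters for `3` vanish on `y`
  obtain ⟨η, hη⟩ := Finset.card_pos.1 (show 0 < D.Y.card by omega)
  have hη0 : (η : G → ℂ) y = 0 := by
    by_contra h
    have hsub : D.Y ⊆ F.X ∪ (D.Y ∩ F.Y) := by
      intro χ hχ
      have hne : (χ : G → ℂ) y ≠ 0 := by rwa [D.agree χ hχ η hη y hy']
      rcases F.support χ y hy hy1 hne with h' | h'
      · exact Finset.mem_union_left _ h'
      · exact Finset.mem_union_right _ (Finset.mem_inter.2 ⟨hχ, h'⟩)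
    have := (Finset.card_le_card hsub).trans (Finset.card_union_le _ _)
    have := hXle F
    omega
  have hrel := D.relation η hη y hy'
  rw [hη0, mul_zero, zero_add] at hrel
  have hre : ∑ χ ∈ D.X, (D.a χ : ℝ) * ((χ : G → ℂ) y).re = 0 := by
    have := congrArg Complex.re hrel
    simpa using this
  obtain ⟨χ, hχ, hneg⟩ : ∃ χ ∈ D.X, (D.a χ : ℝ) * ((χ : G → ℂ) y).re < 0 := by
    by_contra hh
    push Not at hh
    have := (Finset.sum_eq_zero_iff_of_nonneg hh).1 hre (oneChar G) D.one_mem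
    rw [D.a_one] at this
    simp [oneChar] at this
  have hχy : (χ : G → ℂ) y ≠ 0 := fun h => by rw [h] at hneg; simp at hneg
  have hχX : χ ∈ F.X := by
    refine (F.support χ y hy hy1 hχy).resolve_right fun hY => ?_
    have hsub : F.Y ⊆ D.X ∪ (D.Y ∩ F.Y) := by
      intro ψ hψ
      have hne : (ψ : G → ℂ) x ≠ 0 := by
        rw [F.agree ψ hψ χ hY x hx', (D.value χ hχ).2 x hx hx1]
        exact Int.cast_ne_zero.2 (D.value χ hχ).1
      rcases D.support ψ x hx hx1 hne with h' | h'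
      · exact Finset.mem_union_left _ h'
      · exact Finset.mem_union_right _ (Finset.mem_inter.2 ⟨h', hψ⟩)
    have := (Finset.card_le_card hsub).trans (Finset.card_union_le _ _)
    have := hXle D
    omega
  set a := D.a χ
  set b := F.a χ
  have hab : a * b < 0 := by
    rw [(F.value χ hχX).2 y hy hy1] at hneg
    have : ((a * b : ℤ) : ℝ) < 0 := by simpa using hneg
    exact_mod_cast this
  have ha0 : a ≠ 0 := (D.value χ hχ).1
  have hb0 : b ≠ 0 := (F.value χ hχX).1
  have ha2 : a.natAbs ≤ 2 := hsmall D χ hχ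
  have hb2 : b.natAbs ≤ 2 := hsmall F χ hχX
  have c3 := deg_congr (P := (P : Subgroup G)) χ a (D.value χ hχ).2
  have c5 := deg_congr (P := (Q : Subgroup G)) χ b (F.value χ hχX).2
  set n := charDegree (χ : G → ℂ)
  have hP3 : (3 : ℤ) ∣ (Nat.card (P : Subgroup G) : ℤ) := by
    exact_mod_cast P.dvd_card_of_dvd_card h3d
  have hQ5 : (5 : ℤ) ∣ (Nat.card (Q : Subgroup G) : ℤ) := by
    exact_mod_cast Q.dvd_card_of_dvd_card h5d
  refine ⟨n, b, CharAverage.charDegree_dvd_card χ, ?_, ?_, ?_, hb0, hb2, c5⟩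
  · intro h
    have h' : (3 : ℤ) ∣ (n : ℤ) := by exact_mod_cast h
    have := hP3.trans c3
    omega
  · intro h
    have h' : (5 : ℤ) ∣ (n : ℤ) := by exact_mod_cast h
    have := hQ5.trans c5
    omega
  · by_contra h
    have hn : 0 < n := ClassAlgebraVal.charDegree_pos χ
    have e3 : (n : ℤ) - a = 0 := by
      refine Int.eq_zero_of_dvd_of_natAbs_lt_natAbs c3 ?_
      omega
    have e5 : (n : ℤ) - b = 0 := by
      refine Int.eq_zero_of_dvd_of_natAbs_lt_natAbs c5 ?_
      omega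
    nlinarith

end Cfsg.Agent.SpectrumFive57Chars
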