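import Mathlib
import Cfsg.Agent.Lib.SpectrumFive57Real
import Cfsg.Agent.Lib.CharBasicOrth

/-!
Element orders at most 5: counting of Sylow subgroups, of involutions, and of the products of two
involutions.
-/

set_option autoImplicit false
set_option linter.all false

open Subgroup Pointwise

namespace Cfsg.Agent.SpectrumFive57Count

open SpectrumFive57Local SpectrumFive57Real SpectrumFive57Words

variable {G : Type*} [Group G] [Finite G] (hs : Spec G)
include hs

theorem card_eq (S : Sylow 2 G) [Fact (Nat.Prime 3)] [Fact (Nat.Prime 5)] (P : Sylow 3 G)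
    (Q : Sylow 5 G) :
    Nat.card G = Nat.card (S : Subgroup G) * Nat.card (P : Subgroup G) * Nat.card (Q : Subgroup G) := by
  haveI := Fact.mk Nat.prime_two
  obtain ⟨i, hi⟩ := IsPGroup.iff_card.1 S.isPGroup'
  obtain ⟨a, ha⟩ := IsPGroup.iff_card.1 P.isPGroup'
  obtain ⟨b, hb⟩ := IsPGroup.iff_card.1 Q.isPGroup'
  apply Nat.dvd_antisymm
  · rw [Nat.dvd_iff_prime_pow_dvd_dvd]
    intro r k hr hd
    rcases Nat.eq_zero_or_pos k with rfl | hk
    · exact one_dvd _
    haveI := Fact.mk hr
    obtain ⟨x, hx⟩ := exists_prime_orderOf_dvd_card' r ((dvd_pow_self r hk.ne').trans hd)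
    rcases prime_dvd_cases hs hr (g := x) (by rw [hx]) with rfl | rfl | rfl
    · exact dvd_mul_of_dvd_left (dvd_mul_of_dvd_left (S.pow_dvd_card_of_pow_dvd_card hd) _) _
    · exact dvd_mul_of_dvd_left (dvd_mul_of_dvd_right (P.pow_dvd_card_of_pow_dvd_card hd) _) _
    · exact dvd_mul_of_dvd_right (Q.pow_dvd_card_of_pow_dvd_card hd) _
  · refine Nat.Coprime.mul_dvd_of_dvd_of_dvd ?_ (Nat.Coprime.mul_dvd_of_dvd_of_dvd ?_
      (card_subgroup_dvd_card _) (card_subgroup_dvd_card _)) (card_subgroup_dvd_card _)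
    · rw [hi, ha, hb]
      exact Nat.Coprime.mul_left (Nat.Coprime.pow _ _ (by norm_num)) (Nat.Coprime.pow _ _ (by norm_num))
    · rw [hi, ha]
      exact Nat.Coprime.pow _ _ (by norm_num)

variable {p : ℕ} [Fact p.Prime] (hp : IsP p)
include hp

/-- The number of Sylow `p`-subgroups is `1` modulo their order. -/
theorem card_sylow_modEq (P : Sylow p G) :
    Nat.card (Sylow p G) ≡ 1 [MOD Nat.card (P : Subgroup G)] := by
  classical
  haveI := Fintype.ofFinite (Sylow p G)
  let A := ↥(P : Subgroup G)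
  have hst : ∀ R : Sylow p G, R ≠ P → MulAction.stabilizer A R = ⊥ := by
    intro R hR
    rw [eq_bot_iff_forall]
    intro u hu
    by_contra hu1
    have hu1' : (u : G) ≠ 1 := fun e => hu1 (Subtype.ext e)
    have hn : (u : G) ∈ normalizer ((R : Subgroup G) : Set G) :=
      Sylow.smul_eq_iff_mem_normalizer.mp hu
    exact hR (sylow_unique hs hp
      (mem_of_normalizer hs hp R hn (order_of_mem hs hp P.isPGroup' u.2 hu1')) u.2 hu1')
  have hfix : ∀ u : A, u • P = P := fun u =>
    Sylow.smul_eq_iff_mem_normalizer.mpr (le_normalizer u.2)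
  rw [Nat.card_congr (MulAction.selfEquivSigmaOrbits A (Sylow p G)), Nat.card_sigma]
  rw [← Finset.add_sum_erase Finset.univ _ (Finset.mem_univ
    (Quotient.mk (MulAction.orbitRel A (Sylow p G)) P))]
  have h1 : Nat.card (MulAction.orbit A (Quotient.out (Quotient.mk (MulAction.orbitRel A (Sylow p G)) P))) = 1 := by
    have hmem : Quotient.out (Quotient.mk (MulAction.orbitRel A (Sylow p G)) P) = P := by
      obtain ⟨u, hu⟩ := Quotient.exact (Quotient.out_eq (Quotient.mk (MulAction.orbitRel A (Sylow p G)) P))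
      rw [← hu]; exact hfix u
    rw [hmem]
    have : MulAction.orbit A P = {P} := by
      ext R
      exact ⟨fun ⟨u, hu⟩ => hu ▸ hfix u, fun h => by rw [Set.mem_singleton_iff] at h; rw [h]; exact MulAction.mem_orbit_self P⟩
    rw [this, Nat.card_coe_set_eq, Set.ncard_singleton]
  rw [h1]
  conv_rhs => rw [← Nat.add_zero 1]
  refine Nat.ModEq.add_left 1 ((Nat.modEq_zero_iff_dvd).2 (Finset.dvd_sum fun ω hω => ?_))
  have hne : Quotient.out ω ≠ P := fun e => (Finset.mem_erase.1 hω).1 (by rw [← Quotient.out_eq ω, e])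
  rw [Nat.card_congr (MulAction.orbitEquivQuotientStabilizer A _), hst _ hne,
    ← Subgroup.index_eq_card, index_bot]

/-- The elements of order `p`, Sylow subgroup by Sylow subgroup. -/
theorem card_order (P : Sylow p G) :
    Nat.card {x : G // orderOf x = p} =
      Nat.card (Sylow p G) * (Nat.card (P : Subgroup G) - 1) := by
  classical
  haveI := Fintype.ofFinite (Sylow p G)
  have e : (Σ R : Sylow p G, {u : ↥(R : Subgroup G) // u ≠ 1}) ≃ {x : G // orderOf x = p} :=
    Equiv.ofBijective (fun x => ⟨(x.2.1 : G), order_of_mem hs hp x.1.isPGroup' x.2.1.2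
      fun h => x.2.2 (Subtype.ext h)⟩) (by
      refine ⟨?_, ?_⟩
      · rintro ⟨R, ⟨u, hu⟩, hu1⟩ ⟨R', ⟨u', hu'⟩, hu'1⟩ he
        have he : u = u' := congrArg Subtype.val he
        subst he
        obtain rfl := sylow_unique hs hp hu hu' fun h => hu1 (Subtype.ext h)
        rfl
      · rintro ⟨x, hx⟩
        obtain ⟨R, hR⟩ := SpectrumFive57Real.exists_sylow_mem hx
        exact ⟨⟨R, ⟨x, hR⟩, fun h => hp.prime.ne_one (by
          rw [← hx, show x = 1 from congrArg Subtype.val h, orderOf_one])⟩, rfl⟩)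
  rw [← Nat.card_congr e, Nat.card_sigma, Finset.sum_congr rfl fun R _ => ?_, Finset.sum_const,
    Finset.card_univ, ← Nat.card_eq_fintype_card, smul_eq_mul]
  haveI := Fintype.ofFinite ↥(R : Subgroup G)
  rw [Nat.card_eq_fintype_card, Fintype.card_subtype_compl, Fintype.card_subtype_eq,
    ← Nat.card_eq_fintype_card, Nat.card_congr (R.equiv P).toEquiv]

/-- Each element of order `p` is a product of two involutions in at least `|P|` ways. -/
theorem pairs_le (hR : Real G p) (hdvd : p ∣ Nat.card G) (P : Sylow p G) :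
    ∃ f : {x : G // orderOf x = p} × ↥(P : Subgroup G) →
        {j : G // orderOf j = 2} × {j : G // orderOf j = 2},
      Function.Injective f ∧ ∀ a, orderOf (((f a).1 : G) * (f a).2) = p := by
  classical
  have hR' := fun x : {x : G // orderOf x = p} => SpectrumFive57Real.exists_sylow_mem x.2
  choose R hxR using hR'
  choose j hj hjN using fun x => exists_invol hs hp hR (R x)
  have e : ∀ x, ↥(P : Subgroup G) ≃* ↥(R x : Subgroup G) := fun x => P.equiv (R x)
  have hinv : ∀ x, ∀ u ∈ (R x : Subgroup G), orderOf (j x * u) = 2 := by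
    intro x u hu
    have h1 := invol_inverts hs hp (R x).isPGroup' (hj x) (hjN x) hu
    have hjj := orderOf_sq_one (hj x)
    refine orderOf_two_of_sq ?_ fun h => ?_
    · calc j x * u * (j x * u) = (j x * u * (j x)⁻¹) * (j x * j x) * u := by group
        _ = 1 := by rw [h1, hjj, mul_one, inv_mul_cancel]
    · have h2 : u = (j x)⁻¹ := (inv_eq_of_mul_eq_one_right h).symm
      have h3 : orderOf u = 2 := by rw [h2, orderOf_inv, hj]
      rw [order_of_mem hs hp (R x).isPGroup' hu (fun h => by rw [h, orderOf_one] at h3; omega)] at h3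
      exact hp.ne_two h3
  refine ⟨fun a => (⟨j a.1 * (e a.1 a.2 : G), hinv _ _ (e a.1 a.2).2⟩,
    ⟨j a.1 * ((e a.1 a.2 : G) * a.1), hinv _ _ (mul_mem (e a.1 a.2).2 (hxR a.1))⟩), ?_, ?_⟩
  · rintro ⟨x, u⟩ ⟨x', u'⟩ he
    have h1 := congrArg (fun z => ((z.1 : G), (z.2 : G))) he
    simp only [Prod.mk.injEq] at h1
    have hprod : ∀ (x : {x : G // orderOf x = p}) (u : ↥(P : Subgroup G)),
        (j x * (e x u : G)) * (j x * ((e x u : G) * x)) = x := by
      intro x u
      have hsq := orderOf_sq_one (hinv x _ (e x u).2)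
      calc (j x * (e x u : G)) * (j x * ((e x u : G) * x))
          = (j x * (e x u : G)) * (j x * (e x u : G)) * x := by group
        _ = x := by rw [hsq, one_mul]
    have hx : x = x' := Subtype.ext (by rw [← hprod x u, ← hprod x' u', h1.1, h1.2])
    subst hx
    exact Prod.ext rfl ((e x).injective (Subtype.ext (mul_left_cancel h1.1)))
  · intro a
    have hsq := orderOf_sq_one (hinv a.1 _ (e a.1 a.2).2)
    show orderOf (j a.1 * (e a.1 a.2 : G) * (j a.1 * ((e a.1 a.2 : G) * a.1))) = p
    rw [show j a.1 * (e a.1 a.2 : G) * (j a.1 * ((e a.1 a.2 : G) * (a.1 : G))) =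
      (j a.1 * (e a.1 a.2 : G)) * (j a.1 * (e a.1 a.2 : G)) * (a.1 : G) by group, hsq, one_mul, a.1.2]

omit hp
omit [Fact p.Prime] in
/-- The counting inequality and the number of involutions. -/
theorem count [Fact (Nat.Prime 3)] [Fact (Nat.Prime 5)] (h3 : Real G 3) (h5 : Real G 5)
    (S : Sylow 2 G) (P : Sylow 3 G) (Q : Sylow 5 G) (hP : 9 ≤ Nat.card (P : Subgroup G)) :
    let I := Nat.card {j : G // orderOf j = 2}
    I = Nat.card (P : Subgroup G) * Nat.card (Q : Subgroup G) ∧
      Nat.card (Sylow 3 G) * (Nat.card (P : Subgroup G) - 1) * Nat.card (P : Subgroup G) +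
        Nat.card (Sylow 5 G) * (Nat.card (Q : Subgroup G) - 1) * Nat.card (Q : Subgroup G) ≤ I * I := by
  intro I
  classical
  haveI := Fact.mk Nat.prime_two
  have h3d : 3 ∣ Nat.card G := by
    obtain ⟨j, x, -, hx, -⟩ := h3
    exact hx ▸ orderOf_dvd_natCard x
  have h5d : 5 ∣ Nat.card G := by
    obtain ⟨j, x, -, hx, -⟩ := h5
    exact hx ▸ orderOf_dvd_natCard x
  have h2d : 2 ∣ Nat.card G := by
    obtain ⟨j, x, hj, -, -⟩ := h3
    exact hj ▸ orderOf_dvd_natCard j
  constructor
  · -- all involutions are conjugate to one in the centre of `S`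
    haveI : Nontrivial ↥(S : Subgroup G) := (Subgroup.nontrivial_iff_ne_bot _).2 (S.ne_bot_of_dvd_card h2d)
    haveI := S.isPGroup'.center_nontrivial
    obtain ⟨c, hc⟩ := exists_prime_orderOf_dvd_card' (G := Subgroup.center ↥(S : Subgroup G)) 2 (by
      obtain ⟨k, hk⟩ := IsPGroup.iff_card.1 (S.isPGroup'.to_subgroup (Subgroup.center ↥(S : Subgroup G)))
      rw [hk]
      rcases k with _ | k
      · have := Finite.one_lt_card (α := Subgroup.center ↥(S : Subgroup G))
        rw [hk] at this; norm_num at this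
      · exact dvd_pow_self 2 k.succ_ne_zero)
    set z : G := ((c : ↥(S : Subgroup G)) : G)
    have hz : orderOf z = 2 := by rw [Subgroup.orderOf_coe, Subgroup.orderOf_coe, hc]
    have hC : centralizer ({z} : Set G) = (S : Subgroup G) := by
      refine S.is_maximal' (isPGroup_centralizer hs Nat.prime_two hz) fun s hs => ?_
      exact mem_centralizer_singleton_iff.2
        (congrArg Subtype.val (mem_center_iff.1 c.2 ⟨s, hs⟩))
    have h := CharBasicOrth.card_conj_mul_card_centralizer z
    rw [hC, card_eq hs S P Q] at h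
    have hI : I = Nat.card {x : G // IsConj z x} := Nat.card_congr (Equiv.subtypeEquivRight fun x =>
      ⟨fun hx => one_class hs h3 P hP hz hx, fun hx => by
        obtain ⟨d, rfl⟩ := isConj_iff.1 hx
        rw [← MulAut.conj_apply, MulEquiv.orderOf_eq, hz]⟩)
    rw [hI]
    refine Nat.eq_of_mul_eq_mul_right (Nat.card_pos (α := ↥(S : Subgroup G))) ?_
    rw [h]; ring
  · obtain ⟨f, hf, hf3⟩ := pairs_le hs (Or.inl rfl) h3 h3d P
    obtain ⟨g, hg, hg5⟩ := pairs_le hs (Or.inr rfl) h5 h5d Q
    have hinj : Function.Injective (Sum.elim f g) := by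
      rintro (a | a) (b | b) he
      · rw [hf he]
      · have := congrArg (fun z => orderOf ((z.1 : G) * z.2)) he
        simp only [Sum.elim_inl, Sum.elim_inr, hf3, hg5] at this
        omega
      · have := congrArg (fun z => orderOf ((z.1 : G) * z.2)) he
        simp only [Sum.elim_inl, Sum.elim_inr, hf3, hg5] at this
        omega
      · rw [hg he]
    have := Nat.card_le_card_of_injective _ hinj
    rw [Nat.card_sum, Nat.card_prod, Nat.card_prod, Nat.card_prod,
      card_order hs (Or.inl rfl) P, card_order hs (Or.inr rfl) Q] at this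
    exact this

end Cfsg.Agent.SpectrumFive57Count
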