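import Mathlib

/-!
Signs of permutations of ten points acting semiregularly outside two points.
-/

set_option autoImplicit false
set_option linter.all false

namespace Cfsg.Agent.SpectrumFive57Sign

open Equiv Equiv.Perm

variable {α : Type*} [Fintype α] [DecidableEq α]

/-- Fixing two points, semiregular of order `n` on the other eight: even. -/
theorem sign_eq_one (hα : Fintype.card α = 10) {τ : Perm α} {a b : α} (hab : a ≠ b) {n : ℕ}
    (hn : n = 2 ∨ n = 4) (hτ : τ ^ n = 1) (ha : τ a = a) (hb : τ b = b)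
    (hfree : ∀ x, x ≠ a → x ≠ b → (τ ^ (n / 2)) x ≠ x) : Perm.sign τ = 1 := by
  classical
  have hsupp : τ.support = Finset.univ \ {a, b} := by
    ext x
    simp only [Perm.mem_support, Finset.mem_sdiff, Finset.mem_univ, true_and, Finset.mem_insert,
      Finset.mem_singleton, not_or]
    constructor
    · exact fun h => ⟨fun e => h (e ▸ ha), fun e => h (e ▸ hb)⟩
    · rintro ⟨h1, h2⟩ h
      exact hfree x h1 h2 (Perm.pow_apply_eq_self_of_apply_eq_self h _)
  have hall : ∀ m ∈ τ.cycleType, m = n := by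
    intro m hm
    rw [Perm.cycleType_def, Multiset.mem_map] at hm
    obtain ⟨c, hc, rfl⟩ := hm
    have hc' : c ∈ τ.cycleFactorsFinset := hc
    have hcyc := (Perm.mem_cycleFactorsFinset_iff.1 hc').1
    obtain ⟨x, hx⟩ : c.support.Nonempty := Finset.nonempty_of_ne_empty fun e =>
      hcyc.ne_one (Perm.support_eq_empty_iff.1 e)
    have hxs : x ∈ τ.support := Perm.mem_cycleFactorsFinset_support_le hc' hx
    have hpe : ∀ (k : ℕ) y, y ∈ c.support → (c ^ k) y = (τ ^ k) y := by
      intro k
      induction k with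
      | zero => exact fun y _ => rfl
      | succ k ih =>
        intro y hy
        rw [pow_succ', pow_succ', Perm.mul_apply, Perm.mul_apply, ← ih y hy]
        exact (Perm.mem_cycleFactorsFinset_iff.1 hc').2 _ (Perm.pow_apply_mem_support.2 hy)
    have hdvd : c.support.card ∣ n := by
      rw [← hcyc.orderOf]
      refine orderOf_dvd_of_pow_eq_one ?_
      ext y
      by_cases hy : y ∈ c.support
      · rw [hpe n y hy, hτ]
      · have : c y = y := Perm.notMem_support.1 hy
        rw [Perm.pow_apply_eq_self_of_apply_eq_self this]; rfl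
    have hnd : ¬ c.support.card ∣ n / 2 := by
      intro h
      rw [← hcyc.orderOf] at h
      rw [hsupp] at hxs
      simp only [Finset.mem_sdiff, Finset.mem_insert, Finset.mem_singleton, not_or] at hxs
      refine hfree x hxs.2.1 hxs.2.2 ?_
      rw [← hpe _ x hx, orderOf_dvd_iff_pow_eq_one.1 h]
      rfl
    rcases hn with rfl | rfl
    · rcases (Nat.dvd_prime Nat.prime_two).1 hdvd with e | e
      · rw [e] at hnd; exact absurd (one_dvd _) hnd
      · exact e
    · have := Nat.le_of_dvd (by norm_num) hdvd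
      show c.support.card = 4
      by_contra h4
      apply hnd
      rcases (show c.support.card = 0 ∨ c.support.card = 1 ∨ c.support.card = 2 ∨ c.support.card = 3 by omega)
        with e | e | e | e <;> rw [e] at hdvd ⊢ <;> first | (norm_num at hdvd; done) | norm_num
  have hrep := Multiset.eq_replicate_card.2 hall
  have hsum := Perm.sum_cycleType τ
  rw [hsupp, Finset.card_sdiff_of_subset (Finset.subset_univ _), Finset.card_univ, hα,
    Finset.card_pair hab] at hsum
  rw [Perm.sign_of_cycleType]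
  rw [hsum]
  rw [hrep, Multiset.sum_replicate, smul_eq_mul] at hsum
  rcases hn with rfl | rfl
  · rw [show τ.cycleType.card = 4 by omega]; decide
  · rw [show τ.cycleType.card = 2 by omega]; decide

/-- Swapping two points, semiregular of order four on the other eight: odd. -/
theorem sign_eq_neg_one (hα : Fintype.card α = 10) {σ : Perm α} {a b : α} (hab : a ≠ b)
    (hσ : σ ^ 4 = 1) (ha : σ a = b) (hb : σ b = a)
    (hfree : ∀ x, x ≠ a → x ≠ b → (σ ^ 2) x ≠ x) : Perm.sign σ = -1 := by
  have hstay : ∀ x, x ≠ a → x ≠ b → σ x ≠ a ∧ σ x ≠ b := fun x h1 h2 =>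
    ⟨fun e => h2 (σ.injective (e.trans hb.symm)), fun e => h1 (σ.injective (e.trans ha.symm))⟩
  set τ := Equiv.swap a b * σ with hτ
  have hτa : τ a = a := by rw [hτ, Perm.mul_apply, ha, Equiv.swap_apply_right]
  have hτb : τ b = b := by rw [hτ, Perm.mul_apply, hb, Equiv.swap_apply_left]
  have hτx : ∀ x, x ≠ a → x ≠ b → τ x = σ x := fun x h1 h2 => by
    rw [hτ, Perm.mul_apply, Equiv.swap_apply_of_ne_of_ne (hstay x h1 h2).1 (hstay x h1 h2).2]
  have hpow : ∀ (k : ℕ) x, x ≠ a → x ≠ b → (τ ^ k) x = (σ ^ k) x ∧ (σ ^ k) x ≠ a ∧ (σ ^ k) x ≠ b := by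
    intro k
    induction k with
    | zero => exact fun x h1 h2 => ⟨rfl, h1, h2⟩
    | succ k ih =>
      intro x h1 h2
      obtain ⟨e, h3, h4⟩ := ih x h1 h2
      rw [pow_succ' τ, pow_succ' σ]
      show τ ((τ ^ k) x) = σ ((σ ^ k) x) ∧ σ ((σ ^ k) x) ≠ a ∧ σ ((σ ^ k) x) ≠ b
      rw [e, hτx _ h3 h4]
      exact ⟨rfl, hstay _ h3 h4⟩
  have h4 : τ ^ 4 = 1 := by
    ext x
    rcases eq_or_ne x a with rfl | h1
    · exact Perm.pow_apply_eq_self_of_apply_eq_self hτa 4
    rcases eq_or_ne x b with rfl | h2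
    · exact Perm.pow_apply_eq_self_of_apply_eq_self hτb 4
    rw [(hpow 4 x h1 h2).1, hσ]
  have h := sign_eq_one hα hab (Or.inr rfl) h4 hτa hτb fun x h1 h2 => by
    rw [show (4 : ℕ) / 2 = 2 from rfl, (hpow 2 x h1 h2).1]; exact hfree x h1 h2
  rw [hτ, map_mul, Perm.sign_swap hab, neg_one_mul] at h
  exact neg_eq_iff_eq_neg.1 h

end Cfsg.Agent.SpectrumFive57Sign
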