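import Mathlib
import Cfsg.Agent.Lib.SpectrumFive57Count
import Cfsg.Agent.Lib.SpectrumFive57Chars
import Cfsg.Agent.Lib.SpectrumFive57Arith
import Cfsg.Agent.Lib.SpectrumFive57Sign
import Cfsg.Agent.Lib.BaerSuzuki
import Cfsg.Agent.Lib.Simple360
import Cfsg.Agent.Lib.CharInducedBurnside

/-!
A finite group with element orders at most 5, order divisible by 2, 3 and 5, Sylow 3-subgroup of
order at least 9 and no non-trivial solvable normal subgroup is isomorphic to `A₆`.
-/

set_option autoImplicit false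
set_option linter.all false

open Subgroup Pointwise
open scoped commutatorElement

namespace Cfsg.Agent.SpectrumFive57Main

open SpectrumFive57Local SpectrumFive57Real SpectrumFive57Count SpectrumFive57Words

variable {G : Type*} [Group G] [Finite G] (hs : Spec G)
include hs

theorem isSolvable_of_isPGroup {p : ℕ} [Fact p.Prime] {N : Subgroup G} (h : IsPGroup p N) :
    Group.IsSolvable N := by
  haveI := h.isNilpotent
  infer_instance

variable (hrad : ∀ N : Subgroup G, N.Normal → Group.IsSolvable N → N = ⊥)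
include hrad

theorem exists_real (h2 : 2 ∣ Nat.card G) : Real G 3 ∨ Real G 5 := by
  haveI := Fact.mk Nat.prime_two
  obtain ⟨t, ht⟩ := exists_prime_orderOf_dvd_card' 2 h2
  obtain ⟨h, h1, hodd, hinv⟩ := BaerSuzuki.exists_inverted_odd t ht fun N hN hNp htN => by
    rw [hrad N hN (isSolvable_of_isPGroup hs hNp), mem_bot] at htN
    rw [htN, orderOf_one] at ht
    omega
  rcases order_cases hs h with e | e | e | e | e
  · exact absurd (orderOf_eq_one_iff.1 e) h1
  · rw [e] at hodd; exact absurd hodd (by decide)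
  · exact Or.inl ⟨t, h, ht, e, hinv⟩
  · rw [e] at hodd; exact absurd hodd (by decide)
  · exact Or.inr ⟨t, h, ht, e, hinv⟩

/-- The shape of the order. -/
theorem shape (h2 : 2 ∣ Nat.card G) (h3 : 3 ∣ Nat.card G) (h5 : 5 ∣ Nat.card G)
    [Fact (Nat.Prime 3)] [Fact (Nat.Prime 5)] (P : Sylow 3 G) (Q : Sylow 5 G)
    (hP : 9 ≤ Nat.card (P : Subgroup G)) :
    Real G 3 ∧ Real G 5 ∧ Nat.card (P : Subgroup G) = 9 ∧ Nat.card (Q : Subgroup G) = 5 ∧
      Nat.card {j : G // orderOf j = 2} = 45 ∧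
      ((Nat.card G = 360 ∧ Nat.card (normalizer ((Q : Subgroup G) : Set G)) = 10) ∨
       (Nat.card G = 720 ∧ Nat.card (normalizer ((P : Subgroup G) : Set G)) = 72)) := by
  haveI := Fintype.ofFinite G
  haveI := Fact.mk Nat.prime_two
  have i3 : IsP 3 := Or.inl rfl
  have i5 : IsP 5 := Or.inr rfl
  obtain ⟨r3, r5⟩ : Real G 3 ∧ Real G 5 := by
    rcases exists_real hs hrad h2 with h | h
    · exact ⟨h, real_other hs i3 i5 (by norm_num) h3 h5 h⟩
    · exact ⟨real_other hs i5 i3 (by norm_num) h5 h3 h, h⟩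
  obtain ⟨S⟩ : Nonempty (Sylow 2 G) := inferInstance
  obtain ⟨k, hk⟩ := IsPGroup.iff_card.1 S.isPGroup'
  obtain ⟨A, hA⟩ := IsPGroup.iff_card.1 P.isPGroup'
  obtain ⟨B, hB⟩ := IsPGroup.iff_card.1 Q.isPGroup'
  have hG := card_eq hs S P Q
  rw [hk, hA, hB] at hG
  obtain ⟨j, hj, hjN⟩ := exists_invol hs i3 r3 P
  obtain ⟨j', hj', hjN'⟩ := exists_invol hs i5 r5 Q
  obtain ⟨hNP, he, -⟩ := card_normalizer hs i3 h3 P hj hjN
  obtain ⟨hNQ, hf, -⟩ := card_normalizer hs i5 h5 Q hj' hjN'
  set e := Nat.card ↥(normalizer ((P : Subgroup G) : Set G) ⊓ centralizer ({j} : Set G))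
  set f := Nat.card ↥(normalizer ((Q : Subgroup G) : Set G) ⊓ centralizer ({j'} : Set G))
  have hn3 : Nat.card (Sylow 3 G) * (Nat.card (P : Subgroup G) * e) = Nat.card G := by
    rw [← hNP]
    exact (congrArg (· * _) P.card_eq_index_normalizer).trans (index_mul_card _)
  have hn5 : Nat.card (Sylow 5 G) * (Nat.card (Q : Subgroup G) * f) = Nat.card G := by
    rw [← hNQ]
    exact (congrArg (· * _) Q.card_eq_index_normalizer).trans (index_mul_card _)
  have e3 : Nat.card (Sylow 3 G) * e = 2 ^ k * 5 ^ B := by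
    refine Nat.eq_of_mul_eq_mul_right (show 0 < 3 ^ A by positivity) ?_
    rw [hA, hG] at hn3
    linarith
  have e5 : Nat.card (Sylow 5 G) * f = 2 ^ k * 3 ^ A := by
    refine Nat.eq_of_mul_eq_mul_right (show 0 < 5 ^ B by positivity) ?_
    rw [hB, hG] at hn5
    linarith
  have notone : ∀ {p : ℕ} [Fact p.Prime] (R : Sylow p G), p ∣ Nat.card G → 1 < Nat.card (Sylow p G) := by
    intro p _ R hd
    by_contra h
    have : Subsingleton (Sylow p G) := Finite.card_le_one_iff_subsingleton.1 (not_lt.1 h)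
    exact R.ne_bot_of_dvd_card hd (hrad _ inferInstance (isSolvable_of_isPGroup hs R.isPGroup'))
  have hA2 : 2 ≤ A := by
    by_contra h
    have := Nat.pow_le_pow_right (show 0 < 3 by norm_num) (show A ≤ 1 by omega)
    rw [← hA] at this; omega
  have hB1 : 1 ≤ B := by
    by_contra h
    have h' := Q.dvd_card_of_dvd_card h5
    rw [hB, show B = 0 by omega] at h'
    omega
  obtain ⟨hI, hineq⟩ := count hs r3 r5 S P Q hP
  rw [hI, hA, hB] at hineq
  have hdeg : 3 ≤ A → 3 ≤ B → ∃ i : ℕ, ∃ b : ℤ, 2 ≤ i ∧ i ≤ k ∧ b ≠ 0 ∧ b.natAbs ≤ 2 ∧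
      ((5 ^ B : ℕ) : ℤ) ∣ (2 : ℤ) ^ i - b := by
    intro hA3 hB3
    obtain ⟨n, b, hnG, hn3', hn5', hn, hb, hb2, hd⟩ := SpectrumFive57Chars.exists_degree hs r3 r5 P Q
      (by rw [hA]; exact (show 27 = 3 ^ 3 by norm_num) ▸ Nat.pow_le_pow_right (by norm_num) hA3)
      (by rw [hB]; exact (show 125 = 5 ^ 3 by norm_num) ▸ Nat.pow_le_pow_right (by norm_num) hB3)
    have hn2 : n ∣ 2 ^ k := by
      have c3 : n.Coprime (3 ^ A) := ((Nat.Prime.coprime_iff_not_dvd (by norm_num)).2 hn3').symm.pow_right _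
      have c5 : n.Coprime (5 ^ B) := ((Nat.Prime.coprime_iff_not_dvd (by norm_num)).2 hn5').symm.pow_right _
      rw [hG] at hnG
      exact c3.dvd_of_dvd_mul_right (c5.dvd_of_dvd_mul_right hnG)
    obtain ⟨i, hik, rfl⟩ := (Nat.dvd_prime_pow Nat.prime_two).1 hn2
    refine ⟨i, b, ?_, hik, hb, hb2, ?_⟩
    · by_contra h
      have := Nat.pow_le_pow_right (show 0 < 2 by norm_num) (show i ≤ 1 by omega)
      omega
    · rw [hB] at hd; push_cast at hd ⊢; exact hd
  have m3 := card_sylow_modEq hs i3 P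
  have m5 := card_sylow_modEq hs i5 Q
  rw [hA] at m3
  rw [hB] at m5
  rw [hA, hB] at hI
  refine ⟨r3, r5, ?_⟩
  rcases SpectrumFive57Arith.solve hA2 hB1 he hf e3 e5 m3 m5 (notone P h3) (notone Q h5) hineq hdeg with
    ⟨rfl, rfl, rfl, ee, ff⟩ | ⟨rfl, rfl, rfl, ee, ff⟩
  · refine ⟨by rw [hA]; norm_num, by rw [hB]; norm_num, by rw [hI]; norm_num, Or.inl ⟨by rw [hG]; norm_num, ?_⟩⟩
    rw [hNQ, hB, ff]; norm_num
  · refine ⟨by rw [hA]; norm_num, by rw [hB]; norm_num, by rw [hI]; norm_num, Or.inr ⟨by rw [hG]; norm_num, ?_⟩⟩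
    rw [hNP, hA, ee]; norm_num

omit hrad in
theorem odd_solvable {N : Subgroup G} (h : ¬ 2 ∣ Nat.card N) (h9 : Nat.card G = 360) :
    Group.IsSolvable N := by
  obtain ⟨i, j, hij⟩ : ∃ i j, Nat.card N = 3 ^ i * 5 ^ j := by
    have hd : Nat.card N ∣ 3 ^ 2 * 5 ^ 1 := by
      have hc : (Nat.card N).Coprime 8 := by
        rw [show 8 = 2 ^ 3 by norm_num]
        exact ((Nat.prime_two.coprime_iff_not_dvd).2 h).symm.pow_right 3
      refine hc.dvd_of_dvd_mul_left ?_
      have := card_subgroup_dvd_card N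
      rw [h9] at this
      exact this
    obtain ⟨a, b, ha, hb, hab⟩ := Nat.dvd_mul.1 hd
    obtain ⟨i, -, rfl⟩ := (Nat.dvd_prime_pow (by norm_num : Nat.Prime 3)).1 ha
    obtain ⟨j, -, rfl⟩ := (Nat.dvd_prime_pow (by norm_num : Nat.Prime 5)).1 hb
    exact ⟨i, j, hab.symm⟩
  exact CharInduced.solvable_of_card_two_primes 3 5 i j (by norm_num) (by norm_num) hij

theorem not_720 [Fact (Nat.Prime 3)] (r3 : Real G 3) (P : Sylow 3 G)
    (hP : Nat.card (P : Subgroup G) = 9) (hI : Nat.card {j : G // orderOf j = 2} = 45)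
    (hG : Nat.card G = 720) (hN : Nat.card (normalizer ((P : Subgroup G) : Set G)) = 72) : False := by
  classical
  haveI := Fact.mk Nat.prime_two
  haveI := Fintype.ofFinite (Sylow 3 G)
  have i3 : IsP 3 := Or.inl rfl
  have h3 : 3 ∣ Nat.card G := by rw [hG]; norm_num
  have h10 : Fintype.card (Sylow 3 G) = 10 := by
    have h := index_mul_card (normalizer ((P : Subgroup G) : Set G))
    have h' : Nat.card (Sylow 3 G) * 72 = 720 := by
      rw [← hN, ← hG]; exact (congrArg (· * _) P.card_eq_index_normalizer).trans h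
    rw [Nat.card_eq_fintype_card] at h'
    omega
  obtain ⟨j, hj, hjN⟩ := exists_invol hs i3 r3 P
  obtain ⟨hNP, -, hnab⟩ := card_normalizer hs i3 h3 P hj hjN
  set E := normalizer ((P : Subgroup G) : Set G) ⊓ centralizer ({j} : Set G) with hE
  have hE8 : Nat.card E = 8 := by rw [hN, hP] at hNP; omega
  obtain ⟨a, ha, b, hb, hab⟩ := hnab hE8
  set C := centralizer ({j} : Set G) with hC
  have hcl : ∀ k : G, orderOf k = 2 → IsConj j k := fun k hk =>
    one_class hs r3 P (by rw [hP]) hj hk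
  have hC16 : Nat.card C = 16 := by
    have h := CharBasicOrth.card_conj_mul_card_centralizer j
    have e : Nat.card {x : G // IsConj j x} = 45 := hI ▸ (Nat.card_congr (Equiv.subtypeEquivRight fun x =>
      ⟨fun hx => by
        obtain ⟨d, rfl⟩ := isConj_iff.1 hx
        rw [← MulAut.conj_apply, MulEquiv.orderOf_eq, hj], fun hx => hcl x hx⟩))
    rw [e, hG, ← hC] at h
    omega
  obtain ⟨u, hu, hu1⟩ := (P : Subgroup G).bot_or_exists_ne_one.resolve_left (P.ne_bot_of_dvd_card h3)
  have hmemN : ∀ {g : G}, g • P = P ↔ g ∈ normalizer ((P : Subgroup G) : Set G) :=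
    fun {g} => Sylow.smul_eq_iff_mem_normalizer
  -- the centraliser of `j` is transitive on the fixed points of `j`
  have htrans : ∀ R : Sylow 3 G, j • R = R → ∃ c ∈ C, c • P = R := by
    intro R hR
    obtain ⟨g, hg⟩ := MulAction.exists_smul_eq G P R
    have hk : orderOf (g⁻¹ * j * g) = 2 := by
      rw [show g⁻¹ * j * g = g⁻¹ * j * g⁻¹⁻¹ by rw [inv_inv], ← MulAut.conj_apply, MulEquiv.orderOf_eq, hj]
    have hkN : g⁻¹ * j * g ∈ normalizer ((P : Subgroup G) : Set G) := by
      rw [← hmemN, mul_smul, mul_smul, hg, hR, inv_smul_eq_iff, hg]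
    obtain ⟨w, hw, hwc⟩ := normalizer_split hs i3 h3 P hj hjN hkN
    -- `g⁻¹ j g = j p` with `p ∈ P`, so it is conjugate to `j` under `P`
    have hjk : j * (g⁻¹ * j * g) ∈ (P : Subgroup G) := by
      refine centralizer_le_sylow hs i3 P hu hu1 ?_
      have h1 := invol_inverts hs i3 P.isPGroup' hk hkN hu
      have h2 := invol_inverts hs i3 P.isPGroup' hj hjN (inv_mem hu)
      rw [inv_inv] at h2
      set k := g⁻¹ * j * g
      calc j * k * u = j * ((k * u * k⁻¹) * k) := by group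
        _ = j * (u⁻¹ * k) := by rw [h1]
        _ = (j * u⁻¹ * j⁻¹) * (j * k) := by group
        _ = u * (j * k) := by rw [h2]
    set p₀ := j * (g⁻¹ * j * g) with hp₀
    have hp3 : p₀ * p₀ * p₀ = 1 := by
      rw [← pow_eq_one hs i3 P.isPGroup' hjk]; simp only [pow_succ, pow_zero, one_mul]
    have hjj := orderOf_sq_one hj
    have hji : j⁻¹ = j := inv_eq_of_mul_eq_one_right hjj
    have hinv : j * p₀ * j⁻¹ = p₀⁻¹ := invol_inverts hs i3 P.isPGroup' hj hjN hjk
    have hk' : g⁻¹ * j * g = j * p₀ := by rw [hp₀, ← mul_assoc, hjj, one_mul]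
    -- `p₀ j p₀⁻¹ = j p₀`
    have hpc : p₀ * j * p₀⁻¹ = g⁻¹ * j * g := by
      rw [hk']
      calc p₀ * j * p₀⁻¹ = (j * j) * p₀ * j⁻¹ * p₀⁻¹ := by rw [hjj, one_mul, hji]
        _ = j * (j * p₀ * j⁻¹) * p₀⁻¹ := by group
        _ = j * (p₀⁻¹ * p₀⁻¹) := by rw [hinv, mul_assoc]
        _ = j * p₀ := by
          congr 1
          calc p₀⁻¹ * p₀⁻¹ = (p₀ * p₀ * p₀)⁻¹ * p₀ := by group
            _ = p₀ := by rw [hp3, inv_one, one_mul]
    refine ⟨g * p₀, mem_centralizer_singleton_iff.2 ?_, ?_⟩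
    · calc g * p₀ * j = g * (p₀ * j * p₀⁻¹) * p₀ := by group
        _ = j * (g * p₀) := by rw [hpc]; group
    · rw [mul_smul, hmemN.2 (le_normalizer hjk), hg]
  have hfix : ∀ c ∈ C, j • (c • P) = c • P := fun c hc => by
    rw [smul_smul, ← mem_centralizer_singleton_iff.1 hc, mul_smul, hmemN.2 hjN]
  obtain ⟨c₀, hc₀, hc₀N⟩ : ∃ c ∈ C, c ∉ E := by
    by_contra h
    push Not at h
    have := card_le_of_le (show C ≤ E from h)
    omega
  -- exactly two fixed points
  set P' := c₀ • P with hP'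
  have hPP' : P ≠ P' := fun e => hc₀N ⟨hmemN.1 e.symm, hc₀⟩
  have hidx : ∀ c ∈ C, c ∉ E → c₀⁻¹ * c ∈ E := by
    intro c hc hcE
    have h2 : (E.subgroupOf C).index = 2 := by
      have h := index_mul_card (E.subgroupOf C)
      rw [Nat.card_congr (subgroupOfEquivOfLe (inf_le_right : E ≤ C)).toEquiv, hE8, hC16] at h
      omega
    have := (index_eq_two_iff.1 h2)
    have key := mul_mem_iff_of_index_two h2 (a := (⟨c₀, hc₀⟩ : C)⁻¹) (b := ⟨c, hc⟩)
    rw [inv_mem_iff] at key
    exact mem_subgroupOf.1 (key.2 ⟨fun h => absurd (mem_subgroupOf.1 h) hc₀N,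
      fun h => absurd (mem_subgroupOf.1 h) hcE⟩)
  have htwo : ∀ R : Sylow 3 G, j • R = R → R = P ∨ R = P' := by
    intro R hR
    obtain ⟨c, hc, rfl⟩ := htrans R hR
    by_cases hcE : c ∈ E
    · exact Or.inl (hmemN.2 hcE.1)
    · right
      rw [hP', ← mul_inv_cancel_left c₀ c, mul_smul, hmemN.2 (hidx c hc hcE).1]
  have hCperm : ∀ c ∈ C, ∀ R : Sylow 3 G, j • R = R → j • (c • R) = c • R := fun c hc R hR => by
    rw [smul_smul, ← mem_centralizer_singleton_iff.1 hc, mul_smul, hR]
  have hjP' : j • P' = P' := hfix c₀ hc₀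
  have huniq : ∀ k ∈ E, orderOf k = 2 → k = j := by
    intro k hk hko
    have hjk : j * k ∈ (P : Subgroup G) := by
      refine centralizer_le_sylow hs i3 P hu hu1 ?_
      have h1 := invol_inverts hs i3 P.isPGroup' hko hk.1 hu
      have h2 := invol_inverts hs i3 P.isPGroup' hj hjN (inv_mem hu)
      rw [inv_inv] at h2
      calc j * k * u = j * ((k * u * k⁻¹) * k) := by group
        _ = j * (u⁻¹ * k) := by rw [h1]
        _ = (j * u⁻¹ * j⁻¹) * (j * k) := by group
        _ = u * (j * k) := by rw [h2]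
    have h1 := fpf hs i3 Nat.prime_two (by norm_num) P.isPGroup' hj hjk
      (mem_centralizer_singleton_iff.1 (C.mul_mem (mem_centralizer_singleton_iff.2 rfl) hk.2)).symm
    calc k = j * (j * k) := by rw [← mul_assoc, orderOf_sq_one hj, one_mul]
      _ = j := by rw [h1, mul_one]
  have hE_fix : ∀ s ∈ E, s • P' = P' := by
    intro s hs'
    rcases htwo _ (hCperm s hs'.2 P' hjP') with e | e
    · exfalso
      exact hPP' (MulAction.injective s ((hmemN.2 hs'.1).trans e.symm))
    · exact e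
  -- the sign of the action
  let θ : G →* Equiv.Perm (Sylow 3 G) := MulAction.toPermHom G (Sylow 3 G)
  have hθ : ∀ g R, θ g R = g • R := fun g R => rfl
  let χ : G →* ℤˣ := Equiv.Perm.sign.comp θ
  have hjfree : ∀ R, R ≠ P → R ≠ P' → θ j R ≠ R := fun R h1 h2 e => by
    rcases htwo R e with h | h
    exacts [h1 h, h2 h]
  have hjsq : θ j ^ 2 = 1 := by rw [← map_pow, sq, orderOf_sq_one hj, map_one]
  have hEker : ∀ s ∈ E, χ s = 1 := by
    intro s hs'
    by_cases hs1 : s = 1
    · rw [hs1, map_one]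
    by_cases hsj : s = j
    · subst hsj
      exact SpectrumFive57Sign.sign_eq_one h10 hPP' (Or.inl rfl) hjsq (hmemN.2 hjN) hjP'
        (fun R h1 h2 => by rw [show (2 : ℕ) / 2 = 1 from rfl, pow_one]; exact hjfree R h1 h2)
    · have h4 := eq_one_of_comm_invol hs hj (mem_centralizer_singleton_iff.1 hs'.2)
      have hss : s * s ≠ 1 := fun e => hsj (huniq s hs' (orderOf_two_of_sq e hs1))
      have hsq : s * s = j := huniq _ (E.mul_mem hs' hs') (orderOf_two_of_sq (by
        rw [← h4]; simp only [pow_succ, pow_zero, one_mul, mul_assoc]) hss)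
      refine SpectrumFive57Sign.sign_eq_one h10 hPP' (Or.inr rfl) (by rw [← map_pow, h4, map_one])
        (hmemN.2 hs'.1) (hE_fix s hs') (fun R h1 h2 => ?_)
      rw [show (4 : ℕ) / 2 = 2 from rfl, sq, ← map_mul, hsq]
      exact hjfree R h1 h2
  obtain ⟨c, hc, hcE, hc4⟩ : ∃ c ∈ C, c ∉ E ∧ c * c ≠ 1 := by
    by_contra h
    push Not at h
    refine hab ?_
    have hinv : ∀ s ∈ E, c₀ * s * c₀⁻¹ = s⁻¹ := by
      intro s hs'
      have h1 := h c₀ hc₀ hc₀N
      have h2 := h (c₀ * s) (C.mul_mem hc₀ hs'.2) fun hm =>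
        hc₀N (by simpa using E.mul_mem hm (E.inv_mem hs'))
      rw [inv_eq_of_mul_eq_one_right h1]
      refine eq_inv_of_mul_eq_one_left ?_
      rw [← h2]; group
    have h1 := hinv (a * b) (E.mul_mem ha hb)
    rw [show c₀ * (a * b) * c₀⁻¹ = (c₀ * a * c₀⁻¹) * (c₀ * b * c₀⁻¹) by group, hinv a ha, hinv b hb,
      mul_inv_rev] at h1
    -- `a⁻¹ b⁻¹ = b⁻¹ a⁻¹`
    have h2 := congrArg (·⁻¹) h1
    simp only [mul_inv_rev, inv_inv] at h2
    exact h2.symm
  have hcP : c • P = P' := by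
    rcases htwo _ (hfix c hc) with e | e
    · exact absurd ⟨hmemN.1 e, hc⟩ hcE
    · exact e
  have hcP' : c • P' = P := by
    rcases htwo _ (hCperm c hc P' hjP') with e | e
    · exact e
    · exact absurd (MulAction.injective c (e.trans hcP.symm)) (Ne.symm hPP')
  have hc4' := eq_one_of_comm_invol hs hj (mem_centralizer_singleton_iff.1 hc)
  have hcc : c * c = j := huniq _ ⟨hmemN.1 (by rw [mul_smul, hcP, hcP']), C.mul_mem hc hc⟩
    (orderOf_two_of_sq (by rw [← hc4']; simp only [pow_succ, pow_zero, one_mul, mul_assoc]) hc4)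
  have hχc : χ c = -1 := SpectrumFive57Sign.sign_eq_neg_one h10 hPP' (by rw [← map_pow, hc4', map_one])
    hcP hcP' (fun R h1 h2 => by rw [sq, ← map_mul, hcc]; exact hjfree R h1 h2)
  -- the kernel contains the normalizer of `P`
  have hodd : ∀ x ∈ (P : Subgroup G), χ x = 1 := by
    intro x hx
    have h1 : χ x ^ 3 = 1 := by rw [← map_pow, pow_eq_one hs i3 P.isPGroup' hx, map_one]
    rcases Int.units_eq_one_or (χ x) with e | e
    · exact e
    · rw [e] at h1; exact absurd h1 (by decide)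
  have hPK : (P : Subgroup G) ≤ χ.ker := fun x hx => hodd x hx
  have hNK : normalizer ((P : Subgroup G) : Set G) ≤ χ.ker := by
    intro g hg
    obtain ⟨w, hw, hwc⟩ := normalizer_split hs i3 h3 P hj hjN hg
    have := hEker (w⁻¹ * g) ⟨(normalizer ((P : Subgroup G) : Set G)).mul_mem ((normalizer ((P : Subgroup G) : Set G)).inv_mem (le_normalizer hw)) hg, mem_centralizer_singleton_iff.2 hwc⟩
    show χ g = 1
    rw [← mul_inv_cancel_left w g, map_mul, hodd w hw, this, one_mul]
  have htop := (P.subtype hPK).normalizer_sup_eq_top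
  rw [Sylow.coe_subtype, subgroupOf_map_subtype, inf_eq_left.2 hPK, sup_eq_right.2 hNK] at htop
  have := htop ▸ mem_top c
  rw [MonoidHom.mem_ker, hχc] at this
  exact absurd this (by decide)

end Cfsg.Agent.SpectrumFive57Main

namespace Cfsg.Agent.SpectrumFive57Main

open SpectrumFive57Local SpectrumFive57Real SpectrumFive57Count SpectrumFive57Words

variable {G : Type*} [Group G] [Finite G]

/-- The main theorem for a Sylow 3-subgroup of order at least 9. -/
theorem iso_A6 (hs : Spec G) (hrad : ∀ N : Subgroup G, N.Normal → Group.IsSolvable N → N = ⊥)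
    (h2 : 2 ∣ Nat.card G) (h3 : 3 ∣ Nat.card G) (h5 : 5 ∣ Nat.card G) [Fact (Nat.Prime 3)]
    (P : Sylow 3 G) (hP : 9 ≤ Nat.card (P : Subgroup G)) :
    Nonempty (G ≃* ↥(alternatingGroup (Fin 6))) := by
  haveI := Fact.mk (show Nat.Prime 5 by norm_num)
  haveI := Fact.mk Nat.prime_two
  obtain ⟨Q⟩ : Nonempty (Sylow 5 G) := inferInstance
  obtain ⟨r3, r5, hP9, hQ5, hI, ⟨hG, hNQ⟩ | ⟨hG, hNP⟩⟩ := shape hs hrad h2 h3 h5 P Q hP
  · haveI : IsSimpleGroup G := by
      haveI : Nontrivial G := Finite.one_lt_card_iff_nontrivial.1 (by omega)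
      refine ⟨fun N hN => or_iff_not_imp_left.2 fun hN1 => ?_⟩
      have h2N : 2 ∣ Nat.card N := by
        by_contra h
        exact hN1 (hrad N hN (odd_solvable hs h hG))
      obtain ⟨t, ht⟩ := exists_prime_orderOf_dvd_card' 2 h2N
      rw [← Subgroup.orderOf_coe] at ht
      have hinv : ∀ k : G, orderOf k = 2 → k ∈ N := fun k hk => by
        obtain ⟨d, hd⟩ := isConj_iff.1 (one_class hs r3 P hP ht hk)
        exact hd ▸ hN.conj_mem _ t.2 d
      have hmem : ∀ g : G, orderOf g = 5 → g ∈ N := by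
        intro g hg
        obtain ⟨R, hR⟩ := SpectrumFive57Real.exists_sylow_mem hg
        obtain ⟨j, hj, hjN⟩ := exists_invol hs (Or.inr rfl) r5 R
        have h1 := invol_inverts hs (Or.inr rfl) R.isPGroup' hj hjN hR
        have hjj := orderOf_sq_one hj
        have hk : orderOf (j * g) = 2 := by
          refine orderOf_two_of_sq ?_ fun e => ?_
          · calc j * g * (j * g) = (j * g * j⁻¹) * (j * j) * g := by group
              _ = 1 := by rw [h1, hjj, mul_one, inv_mul_cancel]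
          · rw [← inv_eq_of_mul_eq_one_right e, orderOf_inv, hj] at hg
            omega
        have := N.mul_mem (hinv j hj) (hinv _ hk)
        rwa [← mul_assoc, hjj, one_mul] at this
      have hNQN : normalizer ((Q : Subgroup G) : Set G) ≤ N := by
        intro g hg
        have hd : orderOf g ∣ 10 := hNQ ▸ Subgroup.orderOf_mk g hg ▸ orderOf_dvd_natCard _
        rcases order_cases hs g with e | e | e | e | e
        · rw [orderOf_eq_one_iff.1 e]; exact one_mem _
        · exact hinv g e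
        · rw [e] at hd; norm_num at hd
        · rw [e] at hd; norm_num at hd
        · exact hmem g e
      have hQN : (Q : Subgroup G) ≤ N := le_normalizer.trans hNQN
      have htop := (Q.subtype hQN).normalizer_sup_eq_top
      rw [Sylow.coe_subtype, subgroupOf_map_subtype, inf_eq_left.2 hQN, sup_eq_right.2 hNQN] at htop
      exact htop
    exact Simple360.nonempty_equiv_alternating hG
  · exact (not_720 hs hrad r3 P hP9 hI hG hNP).elim

/-- No nontrivial solvable normal subgroup when the Sylow 3-subgroup has order at least 9. -/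
theorem radical (hs : Spec G) (h2 : 2 ∣ Nat.card G) (h3 : 3 ∣ Nat.card G) (h5 : 5 ∣ Nat.card G)
    [Fact (Nat.Prime 3)] (P : Sylow 3 G) (hP : 9 ≤ Nat.card (P : Subgroup G))
    (N : Subgroup G) (hN : N.Normal) (hsol : Group.IsSolvable N) : N = ⊥ := by
  classical
  by_contra hN1
  haveI : Nontrivial N := (Subgroup.nontrivial_iff_ne_bot N).2 hN1
  obtain ⟨n, hn⟩ := hsol.solvable
  have h0 : derivedSeries N 0 ≠ ⊥ := by
    rw [derivedSeries_zero]; exact top_ne_bot
  have hex : ∃ m, derivedSeries N m ≠ ⊥ ∧ derivedSeries N (m + 1) = ⊥ := by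
    by_contra h
    push Not at h
    have : ∀ m, derivedSeries N m ≠ ⊥ := fun m => Nat.rec h0 (fun m ih => h m ih) m
    exact this n hn
  obtain ⟨m, hm, hm1⟩ := hex
  set A := (derivedSeries N m).map N.subtype with hA
  have hAn : A.Normal := by
    haveI := hN
    haveI : (derivedSeries N m).Characteristic := derivedSeries_characteristic N m
    exact ConjAct.normal_of_characteristic_of_normal
  have hAc : ∀ a ∈ A, ∀ b ∈ A, a * b = b * a := by
    rintro _ ⟨a, ha, rfl⟩ _ ⟨b, hb, rfl⟩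
    have : ⁅a, b⁆ ∈ (⊥ : Subgroup N) := by
      rw [← hm1, derivedSeries_succ]
      exact commutator_mem_commutator ha hb
    rw [← map_mul, ← map_mul]
    exact congrArg _ (commutatorElement_eq_one_iff_mul_comm.1 (mem_bot.1 this))
  have hA1 : A ≠ ⊥ := by
    rw [hA, Ne, map_eq_bot_iff_of_injective _ N.subtype_injective]; exact hm
  haveI : Nontrivial A := (Subgroup.nontrivial_iff_ne_bot A).2 hA1
  obtain ⟨r, hr, hrd⟩ := Nat.exists_prime_and_dvd (show Nat.card A ≠ 1 from
    (Finite.one_lt_card (α := A)).ne')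
  haveI := Fact.mk hr
  let R : Subgroup G :=
    { carrier := {a | a ∈ A ∧ a ^ r = 1}
      one_mem' := ⟨one_mem _, one_pow _⟩
      mul_mem' := fun {a b} ha hb => ⟨mul_mem ha.1 hb.1, by
        rw [(show Commute a b from hAc a ha.1 b hb.1).mul_pow, ha.2, hb.2, one_mul]⟩
      inv_mem' := fun {a} ha => ⟨inv_mem ha.1, by rw [inv_pow, ha.2, inv_one]⟩ }
  have hRn : R.Normal := ⟨fun a ha g => ⟨hAn.conj_mem a ha.1 g, by rw [conj_pow, ha.2]; group⟩⟩
  have hR1 : R ≠ ⊥ := by
    obtain ⟨a, ha⟩ := exists_prime_orderOf_dvd_card' r hrd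
    intro e
    have : (a : G) ∈ R := ⟨a.2, by rw [← ha, ← Subgroup.orderOf_coe, pow_orderOf_eq_one]⟩
    rw [e, mem_bot] at this
    rw [← Subgroup.orderOf_coe, this, orderOf_one] at ha
    exact hr.ne_one ha.symm
  have hRp : IsPGroup r R := fun a => ⟨1, Subtype.ext (by rw [pow_one]; exact a.2.2)⟩
  have i3 : IsP 3 := Or.inl rfl
  by_cases hr3 : r = 3
  · subst hr3
    obtain ⟨u, hu, hu1⟩ := R.bot_or_exists_ne_one.resolve_left hR1
    have hle : ∀ T : Sylow 3 G, R ≤ (T : Subgroup G) := fun T => by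
      obtain ⟨T₀, hT₀⟩ := hRp.exists_le_sylow
      obtain ⟨d, rfl⟩ := MulAction.exists_smul_eq G T₀ T
      intro a ha
      have h1 : d⁻¹ * a * d ∈ (T₀ : Subgroup G) := hT₀ (by simpa using hRn.conj_mem a ha d⁻¹)
      rw [Sylow.coe_subgroup_smul]
      exact ⟨_, h1, by simp [MulAut.conj_apply, mul_assoc]⟩
    have hPn : normalizer ((P : Subgroup G) : Set G) = ⊤ := eq_top_iff.2 fun g _ =>
      Sylow.smul_eq_iff_mem_normalizer.mp
        (sylow_unique hs i3 (hle (g • P) hu) (hle P hu) hu1)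
    haveI := Fact.mk Nat.prime_two
    obtain ⟨t, ht⟩ := exists_prime_orderOf_dvd_card' 2 h2
    obtain ⟨v, hv, hv1⟩ := (P : Subgroup G).bot_or_exists_ne_one.resolve_left (P.ne_bot_of_dvd_card h3)
    have hreal : Real G 3 := ⟨t, v, ht, order_of_mem hs i3 P.isPGroup' hv hv1,
      invol_inverts hs i3 P.isPGroup' ht (by rw [hPn]; exact mem_top _) hv⟩
    refine not_dvd_normalizer hs i3 (q := 5) (Or.inr rfl) (by norm_num) h3 hreal P ?_
    rw [hPn, card_top]; exact h5
  · -- a Sylow 3-subgroup acts fixed-point-freely on `R`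
    haveI : Nontrivial ↥(P : Subgroup G) := (Subgroup.nontrivial_iff_ne_bot _).2 (P.ne_bot_of_dvd_card h3)
    haveI := P.isPGroup'.center_nontrivial
    obtain ⟨⟨⟨z, hz⟩, hzc⟩, hz1⟩ := exists_ne (1 : Subgroup.center ↥(P : Subgroup G))
    have hz1' : z ≠ 1 := fun h => hz1 (Subtype.ext (Subtype.ext h))
    obtain ⟨g, hg, hgz⟩ : ∃ g ∈ (P : Subgroup G), g ∉ zpowers z := by
      by_contra h
      push Not at h
      have := card_le_of_le (show (P : Subgroup G) ≤ zpowers z from h)
      rw [Nat.card_zpowers, order_of_mem hs i3 P.isPGroup' hz hz1'] at this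
      omega
    set B := closure ({z, g} : Set G) with hB
    have hzg : z * g = g * z := (congrArg Subtype.val (mem_center_iff.1 hzc ⟨g, hg⟩)).symm
    have hBc : IsMulCommutative B := by
      refine isMulCommutative_closure ?_
      rintro a (rfl | rfl) b (rfl | rfl) <;> first | rfl | exact hzg | exact hzg.symm
    have hBP : B ≤ (P : Subgroup G) := (closure_le _).2 (by rintro a (rfl | rfl) <;> assumption)
    have hcyc := FrobeniusFPF.isCyclic_of_fpf B R ⟨⟨fun a b => Subtype.ext (hAc a a.2.1 b b.2.1)⟩⟩ hR1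
      (fun b _ => by haveI := hRn; rw [normalizer_eq_top_iff.2 hRn]; exact mem_top b)
      (fun b hb hb1 => by
        rw [eq_bot_iff]
        rintro v ⟨hv, hvC⟩
        rw [mem_bot]
        by_contra hv1
        exact no_commute hs hr (by norm_num) hr3 (orderOf_eq_prime hv.2 hv1)
          (order_of_mem hs i3 P.isPGroup' (hBP hb) hb1)
          (mem_centralizer_iff.1 hvC b rfl).symm) (Or.inl hBc)
    obtain ⟨a, ha⟩ := hcyc.exists_generator
    have hle3 : Nat.card B ≤ 3 := by
      rw [← orderOf_eq_card_of_forall_mem_zpowers ha]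
      exact orderOf_le_of_pow_eq_one (by norm_num) (Subtype.ext (by
        simpa using pow_eq_one hs i3 P.isPGroup' (hBP a.2)))
    have heq : zpowers z = B := eq_of_le_of_card_ge (zpowers_le.2 (subset_closure (Or.inl rfl)))
      (by rw [Nat.card_zpowers, order_of_mem hs i3 P.isPGroup' hz hz1']; exact hle3)
    exact hgz (heq ▸ subset_closure (Or.inr rfl))

end Cfsg.Agent.SpectrumFive57Main
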