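import Cfsg.Agent.Lib.SpectrumPSL61
import Cfsg.Agent.Lib.OrthUnitaryHerm

/-!
Element orders in `PSU(n, q)`: the semisimple part of an element either commutes with a non-trivial
element of order `r ∣ q + 1`, or lies in a cyclic torus realising the full semisimple exponent.
-/

set_option autoImplicit false
set_option linter.style.haveILetI false
set_option linter.unusedSectionVars false

namespace Cfsg.Agent.SpectrumPSU61

open Matrix Cfsg Cfsg.Agent.OrthUnitaryHerm Cfsg.Agent.SpectrumPSL61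

/-- `q ^ n + 1` for odd `n` and `q ^ n - 1` for even `n`. -/
def torusNum (q n : ℕ) : ℕ := if Even n then q ^ n - 1 else q ^ n + 1

/-- The semisimple exponent of `PSU(n, q)`. -/
def torusExp (q n : ℕ) : ℕ := torusNum q n / ((q + 1) * Nat.gcd n (q + 1))

theorem torusNum_cast (q n : ℕ) (hq : 1 ≤ q) : (torusNum q n : ℤ) = |(q : ℤ) ^ n - (-1) ^ n| := by
  unfold torusNum
  by_cases h : Even n
  · have h1 : (1 : ℤ) ≤ (q : ℤ) ^ n := one_le_pow₀ (by exact_mod_cast hq)
    rw [if_pos h, h.neg_one_pow, abs_of_nonneg (by linarith), Nat.cast_sub (Nat.one_le_pow _ _ hq)]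
    push_cast; ring
  · have h1 : (0 : ℤ) ≤ (q : ℤ) ^ n := by positivity
    rw [if_neg h, (Nat.not_even_iff_odd.1 h).neg_one_pow, abs_of_nonneg (by linarith)]
    push_cast; ring

/-- Divisibility used for all tori. -/
theorem dvd_torusNum (q d j : ℕ) (hd : Odd d) (g : ℕ) (hgj : g ∣ j) (hgq : g ∣ q + 1)
    (hq : 1 ≤ q) : (q ^ d + 1) * g ∣ torusNum q (d * j) := by
  rw [← Int.natCast_dvd_natCast, torusNum_cast q _ hq, dvd_abs]
  push_cast
  have h1 := geom_sum₂_mul ((q : ℤ) ^ d) (-1) j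
  rw [pow_mul, pow_mul, hd.neg_one_pow, ← h1, mul_comm]
  refine mul_dvd_mul ?_ (by simp [sub_neg_eq_add])
  rw [← ZMod.intCast_zmod_eq_zero_iff_dvd]
  push_cast
  have hq1 : ((q : ZMod g)) = -1 := by
    rw [eq_neg_iff_add_eq_zero]
    exact_mod_cast (ZMod.natCast_eq_zero_iff _ _).2 hgq
  rw [hq1, hd.neg_one_pow]
  have : ∀ i ∈ Finset.range j, ((-1 : ZMod g)) ^ i * (-1) ^ (j - 1 - i) = (-1) ^ (j - 1) := by
    intro i hi
    rw [← pow_add]; congr 1
    have := Finset.mem_range.1 hi
    omega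
  rw [Finset.sum_congr rfl this, Finset.sum_const, Finset.card_range, nsmul_eq_mul,
    (ZMod.natCast_eq_zero_iff _ _).2 hgj, zero_mul]

theorem dvd_torusNum_self (q n : ℕ) (hq : 1 ≤ q) :
    (q + 1) * Nat.gcd n (q + 1) ∣ torusNum q n := by
  have := dvd_torusNum q 1 n odd_one _ (Nat.gcd_dvd_left n (q + 1)) (Nat.gcd_dvd_right _ _) hq
  simpa using this

theorem torusExp_mul (q n : ℕ) (hq : 1 ≤ q) :
    torusExp q n * (q + 1) = torusNum q n / Nat.gcd n (q + 1) := by
  have h := dvd_torusNum_self q n hq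
  have hc : 0 < Nat.gcd n (q + 1) := Nat.gcd_pos_of_pos_right _ (by omega)
  obtain ⟨t, ht⟩ := h
  rw [torusExp, ht, Nat.mul_div_cancel_left _ (Nat.mul_pos (by omega) hc),
    show (q + 1) * Nat.gcd n (q + 1) * t = Nat.gcd n (q + 1) * (t * (q + 1)) by ring,
    Nat.mul_div_cancel_left _ hc]

variable {F : Type*} [Field F] [Fintype F] {n q : ℕ}

local notation "Mat" => Matrix (Fin n) (Fin n) F
local notation "PU" => Cfsg.PSU n F q

/-- The matrix of an element of `SU`. -/
abbrev mat (g : SU n F q) : Mat := ((g : Matrix.SpecialLinearGroup (Fin n) F) : Mat)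

/-- The conjugate transpose. -/
def adj (q : ℕ) {m k : Type*} (A : Matrix m k F) : Matrix k m F := (A.map (· ^ q))ᵀ

theorem adj_apply {m k : Type*} (A : Matrix m k F) (i : k) (j : m) : adj q A i j = A j i ^ q := rfl

theorem adj_mul (hF : Fintype.card F = q ^ 2) {l m k : Type*} [Fintype m]
    (A : Matrix l m F) (B : Matrix m k F) : adj q (A * B) = adj q B * adj q A := by
  ext i j
  simp only [adj_apply, Matrix.mul_apply, sum_pow_q hF, mul_pow]
  exact Finset.sum_congr rfl fun x _ => mul_comm _ _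

theorem adj_add (hF : Fintype.card F = q ^ 2) {m k : Type*} (A B : Matrix m k F) :
    adj q (A + B) = adj q A + adj q B := by
  ext i j; simp [adj_apply, add_pow_q hF]

theorem adj_sub (hF : Fintype.card F = q ^ 2) {m k : Type*} (A B : Matrix m k F) :
    adj q (A - B) = adj q A - adj q B := by
  ext i j; simp [adj_apply, sub_pow_q hF]

theorem adj_smul {m k : Type*} (c : F) (A : Matrix m k F) : adj q (c • A) = c ^ q • adj q A := by
  ext i j; simp [adj_apply, mul_pow]

theorem adj_adj (hF : Fintype.card F = q ^ 2) {m k : Type*} (A : Matrix m k F) :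
    adj q (adj q A) = A := by
  ext i j; simp [adj_apply, pow_q_q hF]

theorem adj_one (hF : Fintype.card F = q ^ 2) {m : Type*} [DecidableEq m] :
    adj q (1 : Matrix m m F) = 1 := by
  ext i j
  simp only [adj_apply, Matrix.one_apply]
  by_cases h : i = j
  · subst h; simp
  · rw [if_neg h, if_neg (Ne.symm h), zero_pow_q hF]

theorem adj_pow (hF : Fintype.card F = q ^ 2) (A : Mat) (k : ℕ) : adj q (A ^ k) = adj q A ^ k := by
  induction k with
  | zero => simp [adj_one hF]
  | succ k ih => rw [pow_succ, adj_mul hF, ih, ← pow_succ']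

theorem det_adj (hF : Fintype.card F = q ^ 2) {m : Type*} [Fintype m] [DecidableEq m]
    (A : Matrix m m F) : (adj q A).det = A.det ^ q := by
  obtain ⟨σ, hσ⟩ := exists_frobHom hF
  rw [adj, Matrix.det_transpose, show A.map (· ^ q) = σ.mapMatrix A by ext i j; simp [hσ],
    ← RingHom.map_det, hσ]

theorem herm_eq (u v : Fin n → F) : hermForm n F q u v = u ⬝ᵥ fun i => v i ^ q := rfl

theorem isU_iff (hF : Fintype.card F = q ^ 2) (M : Mat) : IsU q M ↔ adj q M * M = 1 := by
  obtain ⟨σ, hσ⟩ := exists_frobHom hF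
  have key : ∀ i j, hermForm n F q (M *ᵥ Pi.single j 1) (M *ᵥ Pi.single i 1) =
      (adj q M * M) i j := by
    intro i j
    simp only [hermForm, Matrix.mulVec_single_one, Matrix.col_apply, Matrix.mul_apply, adj_apply]
    exact Finset.sum_congr rfl fun x _ => mul_comm _ _
  constructor
  · intro h
    ext i j
    rw [← key, h, herm_single_right hF, Matrix.one_apply, Pi.single_apply]
  · intro h u v
    have h1 : Mᵀ * σ.mapMatrix M = 1 := by
      have := congrArg Matrix.transpose h
      rw [Matrix.transpose_mul, Matrix.transpose_one, adj, Matrix.transpose_transpose] at this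
      convert this using 2
      ext i j; simp [hσ]
    rw [herm_eq, herm_eq, show (fun i => (M *ᵥ v) i ^ q) = σ.mapMatrix M *ᵥ (σ ∘ v) by
      funext i; rw [← hσ, RingHom.map_mulVec]; rfl,
      Matrix.dotProduct_mulVec, Matrix.vecMul_mulVec, h1, Matrix.vecMul_one]
    congr 1
    funext i; simp [hσ]

theorem adj_mat_mul (hF : Fintype.card F = q ^ 2) (g : SU n F q) : adj q (mat g) * mat g = 1 :=
  (isU_iff hF _).1 (isU_of_mem_SU g)

theorem central_of_scalar {g : SU n F q} {a : F} (h : mat g = Matrix.scalar (Fin n) a) :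
    ((g : SU n F q) : PU) = 1 := by
  rw [QuotientGroup.eq_one_iff, Subgroup.mem_center_iff]
  intro b
  apply Subtype.ext; apply Subtype.ext
  show mat b * mat g = mat g * mat b
  rw [h]
  exact (Matrix.scalar_commute a (fun r' => Commute.all a r') (mat b)).eq.symm

theorem scalar_of_central (hF : Fintype.card F = q ^ 2) (hn : 2 ≤ n) {g : SU n F q}
    (h : ((g : SU n F q) : PU) = 1) : ∃ a : F, mat g = Matrix.scalar (Fin n) a := by
  rw [QuotientGroup.eq_one_iff] at h
  refine ⟨mat g ⟨0, by omega⟩ ⟨0, by omega⟩, ?_⟩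
  ext i j
  exact (center_SU_scalar hF hn h i j).trans (by simp [Matrix.scalar_apply, Matrix.diagonal_apply])

theorem exists_norm_one_of_order (hF : Fintype.card F = q ^ 2) {r : ℕ} (hr : r.Prime)
    (hrq : r ∣ q + 1) : ∃ x : F, x ^ r = 1 ∧ x ≠ 1 ∧ x ^ (q + 1) = 1 := by
  classical
  haveI := Fact.mk hr
  obtain ⟨u, hu⟩ := exists_prime_orderOf_dvd_card' (G := Fˣ) r (by
    rw [Nat.card_eq_fintype_card, Fintype.card_units, hF]
    refine hrq.trans ⟨q - 1, ?_⟩
    rw [← Nat.sq_sub_sq, one_pow])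
  have h1 : (u : F) ^ r = 1 := by
    rw [← Units.val_pow_eq_pow_val, ← hu, pow_orderOf_eq_one, Units.val_one]
  refine ⟨u, h1, ?_, ?_⟩
  · intro h
    rw [Units.ext h (v := 1), orderOf_one] at hu
    exact hr.one_lt.ne hu
  · obtain ⟨t, ht⟩ := hrq
    rw [ht, pow_mul, h1, one_pow]

/-- A self-adjoint non-trivial idempotent commuting with `g` gives a commuting element of order `r`. -/
theorem exists_commute_order (hF : Fintype.card F = q ^ 2) (hn : 2 ≤ n) {r : ℕ} (hr : r.Prime)
    (hrq : r ∣ q + 1) (hrn : ¬ r ∣ n) (g : SU n F q) (E : Mat) (hE : E * E = E) (h0 : E ≠ 0)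
    (h1 : E ≠ 1) (hadj : adj q E = E) (hc : Commute E (mat g)) :
    ∃ s : SU n F q, Commute s g ∧ orderOf ((s : SU n F q) : PU) = r := by
  classical
  haveI := Fact.mk hr
  obtain ⟨x, hxr, hx1, hxq⟩ := exists_norm_one_of_order hF hr hrq
  have hxn : x ^ n ≠ 1 := fun h => hx1 (by
    have := pow_gcd_eq_one.mpr ⟨h, hxr⟩
    rwa [((hr.coprime_iff_not_dvd).2 hrn).symm.gcd_eq_one, pow_one] at this)
  have hEF : E * (1 - E) = 0 := by rw [mul_sub, mul_one, hE, sub_self]
  have hFE : (1 - E) * E = 0 := by rw [sub_mul, one_mul, hE, sub_self]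
  have hFF : (1 - E) * (1 - E) = 1 - E := by rw [mul_sub, mul_one, hFE, sub_zero]
  let φ : F → Mat := fun a => a • E + (1 - E)
  have hφmul : ∀ a b, φ a * φ b = φ (a * b) := fun a b => by
    simp only [φ, add_mul, mul_add, smul_mul_assoc, mul_smul_comm, smul_smul, hE, hEF, hFE, hFF,
      smul_zero, add_zero, zero_add]
    rw [mul_comm b a]
  have hφpow : ∀ a k, φ a ^ k = φ (a ^ k) := fun a k => by
    induction k with
    | zero => simp [φ]
    | succ k ih => rw [pow_succ, ih, hφmul, pow_succ]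
  have hφr : φ x ^ r = 1 := by rw [hφpow, hxr]; simp [φ]
  have hφU : adj q (φ x) * φ x = 1 := by
    rw [show adj q (φ x) = φ (x ^ q) by
      simp only [φ, adj_add hF, adj_smul, adj_sub hF, adj_one hF, hadj], hφmul, ← pow_succ, hxq]
    simp [φ]
  set δ := (φ x).det with hδdef
  have hδr : δ ^ r = 1 := by rw [hδdef, ← Matrix.det_pow, hφr, Matrix.det_one]
  have hδ0 : δ ≠ 0 := fun h => by rw [h, zero_pow hr.ne_zero] at hδr; exact zero_ne_one hδr
  have hδq : δ⁻¹ ^ q * δ⁻¹ = 1 := by
    obtain ⟨t, ht⟩ := hrq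
    rw [← pow_succ, ht, pow_mul, inv_pow, hδr, inv_one, one_pow]
  have hdet : (δ⁻¹ • φ x ^ n).det = 1 := by
    rw [Matrix.det_smul, Fintype.card_fin, Matrix.det_pow, ← mul_pow, inv_mul_cancel₀ hδ0, one_pow]
  have hU : IsU q (δ⁻¹ • φ x ^ n) := by
    rw [isU_iff hF, adj_smul, adj_pow hF, smul_mul_smul_comm, hδq, one_smul]
    have hcm : Commute (adj q (φ x)) (φ x) := by
      show _ * _ = _ * _
      rw [hφU, mul_eq_one_comm.1 hφU]
    rw [← hcm.mul_pow, hφU, one_pow]
  let s : SU n F q := mkSU _ hdet hU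
  have hsg : Commute s g := by
    apply Subtype.ext; apply Subtype.ext
    show (δ⁻¹ • φ x ^ n) * mat g = mat g * (δ⁻¹ • φ x ^ n)
    exact ((((hc.smul_left x).add_left ((Commute.one_left _).sub_left hc)).pow_left n).smul_left δ⁻¹).eq
  have hsr : s ^ r = 1 := by
    apply Subtype.ext; apply Subtype.ext
    rw [SubmonoidClass.coe_pow, Matrix.SpecialLinearGroup.coe_pow]
    show (δ⁻¹ • φ x ^ n) ^ r = 1
    rw [_root_.smul_pow, ← pow_mul, mul_comm n r, pow_mul, hφr, one_pow, inv_pow, hδr, inv_one, one_smul]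
  refine ⟨s, hsg, orderOf_eq_prime ?_ ?_⟩
  · rw [← QuotientGroup.mk_pow, hsr]; rfl
  · intro h
    obtain ⟨a, ha⟩ := scalar_of_central hF hn h
    have ha' : δ⁻¹ • φ x ^ n = Matrix.scalar (Fin n) a := ha
    have hs : (δ * a) • (1 : Mat) = φ (x ^ n) := by
      rw [← hφpow, ← smul_smul]
      rw [show (a • (1 : Mat)) = δ⁻¹ • φ x ^ n by
        rw [ha', Matrix.scalar_apply, Matrix.smul_one_eq_diagonal]]
      rw [smul_smul, mul_inv_cancel₀ hδ0, one_smul]
    have e1 : (δ * a) • E = x ^ n • E := by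
      have := congrArg (· * E) hs
      simpa [φ, smul_mul_assoc, add_mul, hE, hFE] using this
    have e2 : (δ * a) • (1 - E) = 1 - E := by
      have := congrArg (· * (1 - E)) hs
      simpa [φ, smul_mul_assoc, add_mul, hEF, hFF] using this
    have f1 : δ * a = x ^ n := by
      have : (δ * a - x ^ n) • E = 0 := by rw [sub_smul, e1, sub_self]
      exact sub_eq_zero.1 ((smul_eq_zero.1 this).resolve_right h0)
    have f2 : δ * a = 1 := by
      have : (δ * a - 1) • (1 - E) = 0 := by rw [sub_smul, e2, one_smul, sub_self]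
      exact sub_eq_zero.1 ((smul_eq_zero.1 this).resolve_right (sub_ne_zero.2 (Ne.symm h1)))
    exact hxn (f1.symm.trans f2)

/-- The orthogonal projection on an invariant non-degenerate cyclic subspace. -/
theorem exists_projection (hF : Fintype.card F = q ^ 2) (σ : Mat) (S : Subalgebra F Mat)
    (hσ : σ ∈ S) (hS : ∀ z ∈ S, adj q z ∈ S) (v : Fin n → F)
    (hrad : ∀ z ∈ S, (∀ w ∈ S, hermForm n F q (w *ᵥ v) (z *ᵥ v) = 0) → z *ᵥ v = 0)
    (hv : v ≠ 0) (hnot : ∃ y, ∀ z ∈ S, z *ᵥ v ≠ y) :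
    ∃ E : Mat, E * E = E ∧ adj q E = E ∧ E ≠ 0 ∧ E ≠ 1 ∧ Commute E σ := by
  classical
  let ev : S →ₗ[F] (Fin n → F) :=
    { toFun := fun z => (z : Mat) *ᵥ v
      map_add' := fun a b => Matrix.add_mulVec _ _ _
      map_smul' := fun c a => Matrix.smul_mulVec c _ _ }
  let W := LinearMap.range ev
  let k := Module.finrank F W
  let b := Module.finBasis F W
  let P : Matrix (Fin n) (Fin k) F := Matrix.of fun i j => ((b j : W) : Fin n → F) i
  have hPmem : ∀ c, P *ᵥ c ∈ W := by
    intro c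
    have : P *ᵥ c = ((∑ j, c j • b j : W) : Fin n → F) := by
      funext i
      simp [P, Matrix.mulVec, dotProduct, mul_comm]
    rw [this]; exact Submodule.coe_mem _
  have hPsurj : ∀ w ∈ W, ∃ c, P *ᵥ c = w := by
    intro w hw
    refine ⟨b.repr ⟨w, hw⟩, ?_⟩
    have h2 := congrArg Subtype.val (b.sum_repr ⟨w, hw⟩)
    rw [Submodule.coe_sum] at h2
    funext i
    simpa [P, Matrix.mulVec, dotProduct, Finset.sum_apply, mul_comm] using congrFun h2 i
  have hPinj : ∀ c, P *ᵥ c = 0 → c = 0 := by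
    intro c hc
    have h2 : (∑ j, c j • b j : W) = 0 := by
      apply Subtype.ext
      rw [Submodule.coe_zero, ← hc]
      funext i
      simp [P, Matrix.mulVec, dotProduct, mul_comm]
    funext j
    exact Fintype.linearIndependent_iff.1 b.linearIndependent c h2 j
  have hinv : ∀ z ∈ S, ∃ C : Matrix (Fin k) (Fin k) F, z * P = P * C := by
    intro z hz
    have h : ∀ j, ∃ c, P *ᵥ c = (z * P).col j := by
      intro j
      apply hPsurj
      obtain ⟨y, hy⟩ := (b j).2
      refine ⟨⟨z, hz⟩ * y, ?_⟩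
      show (z * (y : Mat)) *ᵥ v = _
      rw [← Matrix.mulVec_mulVec, show (y : Mat) *ᵥ v = ((b j : W) : Fin n → F) from hy]
      rfl
    choose c hc using h
    refine ⟨Matrix.of fun i j => c j i, ?_⟩
    ext i j
    exact (congrFun (hc j) i).symm
  let G := adj q P * P
  have hG : IsUnit G := by
    rw [← Matrix.mulVec_injective_iff_isUnit]
    intro x y hxy
    rw [← sub_eq_zero]
    apply hPinj
    obtain ⟨z, hz⟩ := hPmem (x - y)
    have h0 : G *ᵥ (x - y) = 0 := by rw [Matrix.mulVec_sub, hxy, sub_self]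
    rw [← hz]
    refine hrad z z.2 fun w hw => ?_
    obtain ⟨c, hc⟩ := hPsurj _ ⟨⟨w, hw⟩, rfl⟩
    rw [← show P *ᵥ c = w *ᵥ v from hc, show (z : Mat) *ᵥ v = P *ᵥ (x - y) from hz, herm_conj hF]
    have : hermForm n F q (P *ᵥ (x - y)) (P *ᵥ c) = (fun i => c i ^ q) ⬝ᵥ (G *ᵥ (x - y)) := by
      rw [herm_eq, dotProduct_comm,
        show (fun i => (P *ᵥ c) i ^ q) = Matrix.vecMul (fun i => c i ^ q) (adj q P) by
          funext i
          simp only [Matrix.vecMul, dotProduct, Matrix.mulVec, adj_apply, sum_pow_q hF, mul_pow]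
          exact Finset.sum_congr rfl fun _ _ => mul_comm _ _,
        ← Matrix.dotProduct_mulVec, Matrix.mulVec_mulVec]
    rw [this, h0, dotProduct_zero, zero_pow_q hF]
  obtain ⟨u, hu⟩ := hG
  have hGinv1 : G * (↑u⁻¹ : Matrix (Fin k) (Fin k) F) = 1 := by rw [← hu]; exact u.mul_inv
  have hGinv2 : (↑u⁻¹ : Matrix (Fin k) (Fin k) F) * G = 1 := by rw [← hu]; exact u.inv_mul
  set H := (↑u⁻¹ : Matrix (Fin k) (Fin k) F)
  have hGadj : adj q G = G := by simp only [G]; rw [adj_mul hF, adj_adj hF]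
  have hHadj : adj q H = H := by
    have h1 : adj q H * G = 1 := by rw [← hGadj, ← adj_mul hF, hGinv1, adj_one hF]
    exact left_inv_eq_right_inv h1 hGinv1
  let E : Mat := P * H * adj q P
  have hEP : E * P = P := by
    show P * H * adj q P * P = P
    rw [Matrix.mul_assoc _ (adj q P) P, Matrix.mul_assoc, hGinv2, Matrix.mul_one]
  refine ⟨E, ?_, ?_, ?_, ?_, ?_⟩
  · show E * (P * H * adj q P) = _
    rw [← Matrix.mul_assoc, ← Matrix.mul_assoc, hEP]
  · show adj q (P * H * adj q P) = P * H * adj q P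
    rw [adj_mul hF, adj_mul hF, adj_adj hF, hHadj, Matrix.mul_assoc]
  · intro h
    obtain ⟨c, hc⟩ := hPsurj v ⟨1, by show ((1 : S) : Mat) *ᵥ v = v; simp⟩
    apply hv
    rw [← hc, ← hEP, h, Matrix.zero_mul, Matrix.zero_mulVec]
  · intro h
    obtain ⟨y, hy⟩ := hnot
    obtain ⟨z, hz⟩ := hPmem ((H * adj q P) *ᵥ y)
    apply hy z z.2
    rw [show (z : Mat) *ᵥ v = P *ᵥ ((H * adj q P) *ᵥ y) from hz, Matrix.mulVec_mulVec, ← Matrix.mul_assoc]
    show E *ᵥ y = y
    rw [h, Matrix.one_mulVec]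
  · obtain ⟨C, hC⟩ := hinv σ hσ
    obtain ⟨C', hC'⟩ := hinv (adj q σ) (hS σ hσ)
    have h1 : adj q P * σ = adj q C' * adj q P := by
      rw [← adj_mul hF, ← hC', adj_mul hF, adj_adj hF]
    have h2 : G * C = adj q C' * G := by
      simp only [G]
      rw [Matrix.mul_assoc, ← hC, ← Matrix.mul_assoc, h1, Matrix.mul_assoc]
    have h3 : C * H = H * adj q C' := by
      calc C * H = (H * G) * C * H := by rw [hGinv2, Matrix.one_mul]
        _ = H * (G * C) * H := by rw [Matrix.mul_assoc H G C]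
        _ = H * adj q C' * (G * H) := by rw [h2]; simp only [Matrix.mul_assoc]
        _ = H * adj q C' := by rw [hGinv1, Matrix.mul_one]
    show P * H * adj q P * σ = σ * (P * H * adj q P)
    rw [Matrix.mul_assoc, h1, ← Matrix.mul_assoc, Matrix.mul_assoc P H, ← h3, ← Matrix.mul_assoc,
      ← hC]
    simp only [Matrix.mul_assoc]


theorem herm_mulVec_left (hF : Fintype.card F = q ^ 2) (A : Mat) (u v : Fin n → F) :
    hermForm n F q (A *ᵥ u) v = hermForm n F q u (adj q A *ᵥ v) := by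
  simp only [hermForm, Matrix.mulVec, dotProduct, sum_pow_q hF, mul_pow, Finset.sum_mul,
    Finset.mul_sum, adj_apply, pow_q_q hF]
  rw [Finset.sum_comm]
  exact Finset.sum_congr rfl fun i _ => Finset.sum_congr rfl fun j _ => by ring

theorem algebraMap_of_pow (hF : Fintype.card F = q ^ 2) {K : Type*} [Field K] [Algebra F K] {x : K}
    (hx : x ^ (q + 1) = 1) : ∃ a : F, algebraMap F K a = x ∧ a ^ (q + 1) = 1 := by
  classical
  have hq2 : 2 ≤ q ^ 2 := hF ▸ Fintype.one_lt_card
  obtain ⟨a, ha⟩ : ∃ a : F, algebraMap F K a = x := by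
    by_contra hno
    push Not at hno
    let P : Polynomial K := Polynomial.X ^ (q ^ 2) - Polynomial.X
    have hP : P.natDegree = q ^ 2 := FiniteField.X_pow_card_sub_X_natDegree_eq K (by omega)
    have hP0 : P ≠ 0 := fun h => by rw [h, Polynomial.natDegree_zero] at hP; omega
    have hxq : x ^ (q ^ 2) = x := by
      rw [show q ^ 2 = 1 + (q + 1) * (q - 1) by rw [← Nat.sq_sub_sq, one_pow]; omega,
        pow_add, pow_mul, hx, one_pow, pow_one, mul_one]
    have hsub : (insert x (Finset.univ.image (algebraMap F K))) ⊆ P.roots.toFinset := by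
      intro z hz
      rw [Multiset.mem_toFinset, Polynomial.mem_roots hP0]
      simp only [Finset.mem_insert, Finset.mem_image, Finset.mem_univ, true_and] at hz
      rcases hz with rfl | ⟨a, rfl⟩
      · simp [P, Polynomial.IsRoot, hxq]
      · simp [P, Polynomial.IsRoot, ← map_pow, ← hF, FiniteField.pow_card]
    have := (Finset.card_le_card hsub).trans
      ((Multiset.toFinset_card_le _).trans (Polynomial.card_roots' P))
    rw [Finset.card_insert_of_notMem (by simpa using hno), Finset.card_image_of_injective _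
      (algebraMap F K).injective, Finset.card_univ, hP, hF] at this
    omega
  refine ⟨a, ha, (algebraMap F K).injective ?_⟩
  rw [map_pow, ha, hx, map_one]

/-- The determinant in a module over a subfield. -/
theorem field_det (hF : Fintype.card F = q ^ 2) {K : Type*} [Field K] [Algebra F K] [Finite K]
    {V : Type*} [AddCommGroup V] [Module F V] [FiniteDimensional F V] [Nontrivial V]
    (Φ : K →ₐ[F] Module.End F V) :
    ∃ d j : ℕ, d = Module.finrank F K ∧ 1 ≤ d ∧ 1 ≤ j ∧ d * j = Module.finrank F V ∧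
      Nat.card K = (q ^ 2) ^ d ∧
      ∀ x : K, algebraMap F K (LinearMap.det (Φ x)) = x ^ (geom (q ^ 2) d * j) := by
  letI : Module K V := Module.compHom V Φ.toRingHom
  haveI : IsScalarTower F K V := ⟨fun c z v => by
    show Φ (c • z) v = c • Φ z v
    rw [map_smul]; rfl⟩
  haveI : FiniteDimensional F K := inferInstance
  haveI : FiniteDimensional K V := Module.Finite.of_restrictScalars_finite F K V
  have hcard : Nat.card K = (q ^ 2) ^ Module.finrank F K := by
    rw [Module.natCard_eq_pow_finrank (K := F), Nat.card_eq_fintype_card, hF]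
  refine ⟨_, Module.finrank K V, rfl, Module.finrank_pos, Module.finrank_pos,
    Module.finrank_mul_finrank F K V, hcard, fun x => ?_⟩
  have h1 : ((x • (LinearMap.id : V →ₗ[K] V)).restrictScalars F).det = LinearMap.det (Φ x) :=
    congrArg LinearMap.det (LinearMap.ext fun v => rfl)
  rw [← h1, LinearMap.det_restrictScalars, LinearMap.det_smul, LinearMap.det_id, mul_one, map_pow,
    map_pow, FiniteField.algebraMap_norm_eq_pow, ← pow_mul, hcard, Nat.card_eq_fintype_card, hF]
  congr 1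
  have h := geom_mul_add (q ^ 2) (Module.finrank F K) (Nat.one_le_pow _ _ (by
    rcases Nat.eq_zero_or_pos q with h | h
    · exact absurd h (q_ne_zero hF)
    · exact h))
  rw [show ((q ^ 2) ^ Module.finrank F K - 1) = geom (q ^ 2) (Module.finrank F K) * (q ^ 2 - 1) by omega,
    Nat.mul_div_cancel _ (by have := two_le_q hF; have : q ≤ q ^ 2 := Nat.le_self_pow (by norm_num) q; omega)]

/-- The semisimple algebra of an element. -/
theorem exists_algebra (hF : Fintype.card F = q ^ 2) {p e : ℕ} [Fact p.Prime] [CharP F p]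
    (hpe : n ≤ p ^ e) (hn : 1 ≤ n) (g : SU n F q) :
    ∃ S : Subalgebra F Mat, mat g ^ p ^ e ∈ S ∧ (∀ x ∈ S, ∀ y ∈ S, Commute x y) ∧
      (∀ z ∈ S, Commute z (mat g)) ∧ (∀ z ∈ S, adj q z ∈ S) ∧
      ∀ z ∈ S, ∃ N : ℕ, 1 ≤ N ∧ z ^ (N + 1) = z := by
  classical
  haveI : Nonempty (Fin n) := ⟨⟨0, hn⟩⟩
  haveI : CharP Mat p := charP_of_injective_algebraMap (algebraMap F Mat).injective p
  let R := Algebra.adjoin F {mat g}
  have hRc : ∀ x ∈ R, ∀ y ∈ R, Commute x y := by
    intro x hx y hy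
    exact congrArg Subtype.val ((IsMulCommutative.is_comm).comm (⟨x, hx⟩ : R) ⟨y, hy⟩)
  have hgR : mat g ∈ R := Algebra.self_mem_adjoin_singleton F _
  have hadjg : adj q (mat g) ∈ R := by
    obtain ⟨k, hk⟩ : ∃ k : ℕ, g⁻¹ = g ^ k :=
      ⟨orderOf g - 1, (eq_inv_of_mul_eq_one_left (by
        rw [← pow_succ, Nat.sub_add_cancel (orderOf_pos g), pow_orderOf_eq_one])).symm⟩
    have h1 : mat g * mat g⁻¹ = 1 :=
      congrArg (fun x : SU n F q => mat x) (mul_inv_cancel g)
    rw [left_inv_eq_right_inv (adj_mat_mul hF g) h1, hk]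
    have : mat (g ^ k) = mat g ^ k := by
      rw [mat, SubmonoidClass.coe_pow, Matrix.SpecialLinearGroup.coe_pow]
    rw [this]
    exact R.pow_mem hgR k
  have hRadj : ∀ y ∈ R, adj q y ∈ R := by
    intro y hy
    induction hy using Algebra.adjoin_induction with
    | mem x hx => rw [Set.mem_singleton_iff.1 hx]; exact hadjg
    | algebraMap c =>
      rw [Algebra.algebraMap_eq_smul_one, adj_smul, adj_one hF]
      exact R.smul_mem R.one_mem _
    | add x y _ _ hx hy => rw [adj_add hF]; exact R.add_mem hx hy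
    | mul x y _ _ hx hy => rw [adj_mul hF]; exact R.mul_mem hy hx
  let S : Subalgebra F Mat :=
    { carrier := {z | ∃ y ∈ R, y ^ p ^ e = z}
      mul_mem' := by
        rintro _ _ ⟨a, ha, rfl⟩ ⟨b, hb, rfl⟩
        exact ⟨a * b, R.mul_mem ha hb, (hRc a ha b hb).mul_pow _⟩
      one_mem' := ⟨1, R.one_mem, one_pow _⟩
      add_mem' := by
        rintro _ _ ⟨a, ha, rfl⟩ ⟨b, hb, rfl⟩
        exact ⟨a + b, R.add_mem ha hb, add_pow_char_pow_of_commute _ _ (hRc a ha b hb)⟩
      zero_mem' := ⟨0, R.zero_mem, zero_pow (pow_ne_zero _ (Fact.out : p.Prime).ne_zero)⟩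
      algebraMap_mem' := fun c => by
        obtain ⟨c', hc'⟩ := (bijective_frobenius F p).surjective.iterate e c
        refine ⟨algebraMap F Mat c', R.algebraMap_mem c', ?_⟩
        rw [← map_pow, ← iterate_frobenius, hc'] }
  have hSc : ∀ x ∈ S, ∀ y ∈ S, Commute x y := by
    rintro _ ⟨a, ha, rfl⟩ _ ⟨b, hb, rfl⟩
    exact (hRc a ha b hb).pow_pow _ _
  refine ⟨S, ⟨_, hgR, rfl⟩, hSc, ?_, ?_, ?_⟩
  · rintro _ ⟨y, hy, rfl⟩
    exact (hRc y hy _ hgR).pow_left _
  · rintro _ ⟨y, hy, rfl⟩
    exact ⟨adj q y, hRadj y hy, (adj_pow hF y _).symm⟩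
  intro z hz
  obtain ⟨i, j, hij, hzij⟩ : ∃ i j : ℕ, i < j ∧ z ^ i = z ^ j := by
    obtain ⟨i, j, hne, h⟩ := Finite.exists_ne_map_eq_of_infinite (fun k : ℕ => z ^ k)
    rcases lt_or_gt_of_ne hne with hl | hl
    · exact ⟨i, j, hl, h⟩
    · exact ⟨j, i, hl, h.symm⟩
  set d := j - i
  have hper : ∀ k, i ≤ k → ∀ t, z ^ (k + t * d) = z ^ k := by
    intro k hk t
    induction t with
    | zero => simp
    | succ t ih =>
      rw [show k + (t + 1) * d = (k + t * d - i) + j by
        rw [Nat.succ_mul]; omega, pow_add, ← hzij, ← pow_add,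
        show k + t * d - i + i = k + t * d by omega, ih]
  set N := (i + 1) * d with hN
  have hN1 : i + 1 ≤ N := Nat.le_mul_of_pos_right _ (by omega)
  refine ⟨N, by omega, ?_⟩
  have hdz : z ^ (N + 1) - z ∈ S := S.sub_mem (S.pow_mem hz _) hz
  obtain ⟨y, hy, hyz⟩ := hdz
  have hnil : (z ^ (N + 1) - z) ^ (i + 1) = 0 := by
    have hfac : z ^ (N + 1) - z = z * (z ^ N - 1) := by rw [mul_sub, mul_one, pow_succ']
    have hcm : Commute z (z ^ N - 1) := (Commute.self_pow z N).sub_right (Commute.one_right z)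
    rw [hfac, hcm.mul_pow, pow_succ' (z ^ N - 1), ← mul_assoc, mul_sub, mul_one, ← pow_add,
      show i + 1 + N = i + 1 + (i + 1) * d from rfl, hper _ (by omega), sub_self, zero_mul]
  have h1 : IsNilpotent y := ⟨p ^ e * (i + 1), by rw [pow_mul, hyz, hnil]⟩
  have h2 : y ^ n = 0 := by
    have := (Matrix.isNilpotent_toLin'_iff y).2 h1
    have h3 : (Matrix.toLin' y) ^ n = 0 := by
      have h4 := (LinearMap.charpoly_nilpotent_tfae (Matrix.toLin' y)).out 0 1
      have h5 : (Matrix.toLin' y).charpoly = Polynomial.X ^ n := by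
        rw [h4.1 this, Module.finrank_fin_fun]
      have h6 := LinearMap.aeval_self_charpoly (Matrix.toLin' y)
      rwa [h5, map_pow, Polynomial.aeval_X] at h6
    apply Matrix.toLin'.injective
    rw [Matrix.toLin'_pow, h3, map_zero]
  rw [← sub_eq_zero, ← hyz]
  exact pow_eq_zero_of_le hpe h2

theorem corner_inverse (S : Subalgebra F Mat) (hSc : ∀ x ∈ S, ∀ y ∈ S, Commute x y)
    (hper : ∀ z ∈ S, ∃ N : ℕ, 1 ≤ N ∧ z ^ (N + 1) = z) {E : Mat} (hES : E ∈ S) (hE : E * E = E)
    (hprim : ∀ G ∈ S, G * G = G → G * E = G → G = 0 ∨ G = E) {z : Mat} (hz : z ∈ S)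
    (hne : z * E ≠ 0) : ∃ z' ∈ S, z' * z * E = E := by
  obtain ⟨N, hN, hzN⟩ := hper z hz
  have hcE : Commute (z ^ N) E := hSc _ (S.pow_mem hz N) _ hES
  have hid : z ^ N * z ^ N = z ^ N := by
    rw [← pow_add, show N + N = (N + 1) + (N - 1) by omega, pow_add, hzN, ← pow_succ',
      Nat.sub_add_cancel hN]
  rcases hprim (z ^ N * E) (S.mul_mem (S.pow_mem hz N) hES)
      (by rw [Matrix.mul_assoc, ← Matrix.mul_assoc E, ← hcE.eq, Matrix.mul_assoc _ E E, hE, ← Matrix.mul_assoc, hid])
      (by rw [Matrix.mul_assoc, hE]) with h | h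
  · exfalso
    apply hne
    rw [← hzN, pow_succ', Matrix.mul_assoc, h, Matrix.mul_zero]
  · refine ⟨z ^ (N - 1), S.pow_mem hz _, ?_⟩
    rw [← pow_succ, Nat.sub_add_cancel hN, h]

theorem exponent_field (hq : 2 ≤ q) (d j : ℕ) (hd : Odd d) {M : Type*} [Monoid M] {σ : M}
    (h1 : σ ^ (q ^ d + 1) = 1) (h2 : σ ^ (geom (q ^ 2) d * j) = 1) :
    σ ^ (torusExp q (d * j) * (q + 1)) = 1 := by
  obtain ⟨D, hD⟩ : q + 1 ∣ q ^ d + 1 := by
    simpa using hd.nat_add_dvd_pow_add_pow q 1
  have hE : geom (q ^ 2) d = D * geom q d := by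
    have e1 := geom_mul_add (q ^ 2) d (Nat.one_le_pow _ _ (by omega))
    have e2 := geom_mul_add q d (by omega)
    have e3 : ((q ^ 2) ^ d - 1) = (q ^ d + 1) * (q ^ d - 1) := by
      rw [← Nat.sq_sub_sq, one_pow, ← pow_mul, ← pow_mul, mul_comm 2 d]
    have e4 : q ^ 2 - 1 = (q + 1) * (q - 1) := by rw [← Nat.sq_sub_sq, one_pow]
    have e5 : q ^ d - 1 = geom q d * (q - 1) := by omega
    rw [hD, e5, show (q ^ 2) ^ d - 1 = geom (q ^ 2) d * (q ^ 2 - 1) by omega, e4] at e3
    exact Nat.eq_of_mul_eq_mul_right (show 0 < (q + 1) * (q - 1) from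
      Nat.mul_pos (by omega) (by omega)) (by rw [e3]; ring)
  have hEcop : Nat.Coprime (geom q d) (q + 1) := by
    have : ((geom q d : ℕ) : ZMod (q + 1)) = 1 := by
      simp only [geom, Nat.cast_sum, Nat.cast_pow]
      rw [show ((q : ZMod (q + 1))) = -1 by
        rw [eq_neg_iff_add_eq_zero]; exact_mod_cast ZMod.natCast_self (q + 1), neg_one_geom_sum,
        if_neg (Nat.not_even_iff_odd.2 hd)]
    exact (ZMod.isUnit_iff_coprime _ _).1 (this ▸ isUnit_one)
  have h3 : σ ^ (D * Nat.gcd (q + 1) j) = 1 := by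
    have := pow_gcd_eq_one.mpr ⟨h1, h2⟩
    rwa [hD, hE, mul_comm (q + 1) D, mul_assoc, Nat.gcd_mul_left, Nat.Coprime.gcd_mul_left_cancel_right]
      at this
    exact hEcop
  rw [torusExp_mul q _ (by omega)]
  obtain ⟨t, ht⟩ : D * Nat.gcd (q + 1) j * Nat.gcd (d * j) (q + 1) ∣ torusNum q (d * j) := by
    refine dvd_trans ?_ (dvd_torusNum q d j hd _ (Nat.gcd_dvd_right (q + 1) j) (Nat.gcd_dvd_left _ _)
      (by omega))
    rw [hD]
    obtain ⟨c, hc⟩ := Nat.gcd_dvd_right (d * j) (q + 1)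
    generalize Nat.gcd (d * j) (q + 1) = G0, Nat.gcd (q + 1) j = G1 at hc ⊢
    exact ⟨c, by rw [hc]; ring⟩
  rw [ht, show D * Nat.gcd (q + 1) j * Nat.gcd (d * j) (q + 1) * t =
    D * Nat.gcd (q + 1) j * t * Nat.gcd (d * j) (q + 1) by ring,
    Nat.mul_div_cancel _ (Nat.gcd_pos_of_pos_right _ (by omega)), pow_mul, h3, one_pow]

theorem exponent_split (hq : 2 ≤ q) (d j : ℕ) {M : Type*} [Monoid M] {σ : M}
    (h1 : σ ^ ((q ^ 2) ^ d - 1) = 1) (h2 : σ ^ (geom (q ^ 2) d * j * (q - 1)) = 1) :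
    σ ^ (torusExp q (2 * (d * j)) * (q + 1)) = 1 := by
  have e1 := geom_mul_add (q ^ 2) d (Nat.one_le_pow _ _ (by omega))
  have e4 : q ^ 2 - 1 = (q + 1) * (q - 1) := by rw [← Nat.sq_sub_sq, one_pow]
  have e5 : (q ^ 2) ^ d - 1 = geom (q ^ 2) d * ((q + 1) * (q - 1)) := by rw [← e4]; omega
  have h3 : σ ^ (geom (q ^ 2) d * ((q - 1) * Nat.gcd (q + 1) j)) = 1 := by
    have := pow_gcd_eq_one.mpr ⟨h1, h2⟩
    rwa [e5, mul_assoc, Nat.gcd_mul_left, mul_comm (q + 1), mul_comm j, Nat.gcd_mul_left] at this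
  rw [torusExp_mul q _ (by omega)]
  obtain ⟨t, ht⟩ : geom (q ^ 2) d * ((q - 1) * Nat.gcd (q + 1) j) * Nat.gcd (2 * (d * j)) (q + 1)
      ∣ torusNum q (2 * (d * j)) := by
    have hM : torusNum q (2 * (d * j)) = ((q ^ 2) ^ d - 1) * geom ((q ^ 2) ^ d) j := by
      rw [torusNum, if_pos (even_two_mul _)]
      have := geom_mul_add ((q ^ 2) ^ d) j (Nat.one_le_pow _ _ (Nat.pow_pos (by omega)))
      rw [show q ^ (2 * (d * j)) = ((q ^ 2) ^ d) ^ j by rw [← pow_mul, ← pow_mul], mul_comm ((q ^ 2) ^ d - 1)]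
      omega
    rw [hM, e5]
    have hT : Nat.gcd (q + 1) j ∣ geom ((q ^ 2) ^ d) j := by
      refine (Nat.modEq_zero_iff_dvd).1 ((geom_modEq _ _ j ?_).trans
        (Nat.modEq_zero_iff_dvd.2 (Nat.gcd_dvd_right _ _)))
      have h : q ^ 2 ≡ 1 [MOD Nat.gcd (q + 1) j] := by
        rw [Nat.ModEq.comm, Nat.modEq_iff_dvd' (Nat.one_le_pow _ _ (by omega)), e4]
        exact (Nat.gcd_dvd_left _ _).trans (dvd_mul_right _ _)
      simpa using h.pow d
    obtain ⟨a, ha⟩ := hT
    obtain ⟨c, hc⟩ := Nat.gcd_dvd_right (2 * (d * j)) (q + 1)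
    generalize Nat.gcd (2 * (d * j)) (q + 1) = G0, Nat.gcd (q + 1) j = G1 at hc ha ⊢
    exact ⟨c * a, by rw [ha, hc]; ring⟩
  rw [ht, show ∀ a c : ℕ, a * c * t = a * t * c from fun a c => by ring,
    Nat.mul_div_cancel _ (Nat.gcd_pos_of_pos_right _ (by omega)), pow_mul, h3, one_pow]

/-- An idempotent factors through its range. -/
theorem exists_factor (E : Mat) (hE : E * E = E) :
    ∃ (k : ℕ) (P : Matrix (Fin n) (Fin k) F) (Q : Matrix (Fin k) (Fin n) F),
      Q * P = 1 ∧ P * Q = E := by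
  classical
  let f := Matrix.toLin' E
  let b := Module.finBasis F (LinearMap.range f)
  let Pl : (Fin (Module.finrank F (LinearMap.range f)) → F) →ₗ[F] (Fin n → F) :=
    (LinearMap.range f).subtype ∘ₗ b.equivFun.symm.toLinearMap
  let Ql : (Fin n → F) →ₗ[F] (Fin (Module.finrank F (LinearMap.range f)) → F) :=
    b.equivFun.toLinearMap ∘ₗ f.rangeRestrict
  refine ⟨_, LinearMap.toMatrix' Pl, LinearMap.toMatrix' Ql, ?_, ?_⟩
  · rw [← LinearMap.toMatrix'_comp, ← LinearMap.toMatrix'_id]
    congr 1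
    refine LinearMap.ext fun x => ?_
    have h : f.rangeRestrict (b.equivFun.symm x : Fin n → F) = b.equivFun.symm x := by
      obtain ⟨y, hy⟩ := (b.equivFun.symm x).2
      apply Subtype.ext
      rw [LinearMap.codRestrict_apply, ← hy]
      show Matrix.toLin' E (Matrix.toLin' E y) = Matrix.toLin' E y
      rw [← LinearMap.comp_apply, ← Matrix.toLin'_mul, hE]
    show b.equivFun (f.rangeRestrict (b.equivFun.symm x : Fin n → F)) = x
    rw [h, LinearEquiv.apply_symm_apply]
  · rw [← LinearMap.toMatrix'_comp]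
    apply Matrix.toLin'.injective
    rw [Matrix.toLin'_toMatrix']
    refine LinearMap.ext fun x => ?_
    show ((b.equivFun.symm (b.equivFun (f.rangeRestrict x)) : LinearMap.range f) : Fin n → F) = _
    rw [LinearEquiv.symm_apply_apply]
    rfl

/-- An involutive field automorphism extending `x ↦ x ^ q`. -/
theorem frob_of_involution (hF : Fintype.card F = q ^ 2) {K : Type*} [Field K] [Algebra F K]
    [Finite K] (φ : K →+* K) (hφ : ∀ a : F, φ (algebraMap F K a) = algebraMap F K (a ^ q))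
    (hinv : ∀ x, φ (φ x) = x) :
    Odd (Module.finrank F K) ∧ ∀ x, φ x = x ^ q ^ Module.finrank F K := by
  classical
  haveI : FiniteDimensional F K := inferInstance
  obtain ⟨p, f, hp, hc, -, hqp⟩ := exists_prime_pow hF
  haveI := Fact.mk hp
  haveI : CharP K p := charP_of_injective_algebraMap (algebraMap F K).injective p
  haveI := Fintype.ofFinite K
  set d := Module.finrank F K with hd
  have hd1 : 1 ≤ d := Module.finrank_pos
  have hcard : Fintype.card K = q ^ (2 * d) := by
    rw [← Nat.card_eq_fintype_card, Module.natCard_eq_pow_finrank (K := F),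
      Nat.card_eq_fintype_card, hF, ← pow_mul]
  have hfix : ∀ x : K, x ^ q ^ (2 * d) = x := fun x => by rw [← hcard]; exact FiniteField.pow_card x
  let ψ : K →ₐ[F] K :=
    { toRingHom := (iterateFrobenius K p f).comp φ
      commutes' := fun a => by
        show iterateFrobenius K p f (φ (algebraMap F K a)) = _
        rw [hφ, iterateFrobenius_def, ← map_pow, ← hqp, pow_q_q hF] }
  obtain ⟨⟨t, ht⟩, hψ⟩ := (FiniteField.bijective_frobeniusAlgHom_pow F K).2 ψ
  have hψx : ∀ x, φ x ^ q = x ^ q ^ (2 * t) := fun x => by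
    have h1 : (FiniteField.frobeniusAlgHom F K ^ t) x = ψ x := by rw [← hψ]
    rw [AlgHom.coe_pow, FiniteField.coe_frobeniusAlgHom, pow_iterate, hF, ← pow_mul] at h1
    rw [show x ^ q ^ (2 * t) = ψ x from h1, hqp]
    exact (iterateFrobenius_def p f (φ x)).symm
  set m := 2 * t + (2 * d - 1) with hm
  have hφx : ∀ x, φ x = x ^ q ^ m := fun x => by
    conv_lhs => rw [← hfix (φ x)]
    rw [show 2 * d = 1 + (2 * d - 1) by omega, pow_add, pow_one, pow_mul, hψx, ← pow_mul,
      ← pow_add]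
  obtain ⟨g, hg⟩ := IsCyclic.exists_ofOrder_eq_natCard (α := Kˣ)
  have hgo : orderOf g = q ^ (2 * d) - 1 := by
    rw [hg, Nat.card_units, Nat.card_eq_fintype_card, hcard]
  have hdvd : q ^ (2 * d) - 1 ∣ q ^ (2 * m) - 1 := by
    rw [← hgo]
    refine orderOf_dvd_of_pow_eq_one (Units.ext ?_)
    have h := hinv (g : K)
    rw [hφx, hφx, ← pow_mul, ← pow_add, ← two_mul] at h
    rw [Units.val_pow_eq_pow_val, Units.val_one]
    refine mul_left_cancel₀ g.ne_zero ?_
    rw [← pow_succ', mul_one, Nat.sub_add_cancel (Nat.one_le_pow _ _ (by have := two_le_q hF; omega))]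
    exact h
  have hdm : 2 * d ∣ 2 * m := by
    have h1 := (Nat.pow_sub_one_gcd_pow_sub_one q (2 * d) (2 * m))
    rw [Nat.gcd_eq_left hdvd] at h1
    have hq := two_le_q hF
    have h2 : q ^ (2 * d) = q ^ Nat.gcd (2 * d) (2 * m) := by
      have := Nat.one_le_pow (2 * d) q (by omega)
      have := Nat.one_le_pow (Nat.gcd (2 * d) (2 * m)) q (by omega)
      omega
    rw [Nat.pow_right_injective hq h2]
    exact Nat.gcd_dvd_right _ _
  obtain ⟨i, hi⟩ := (Nat.mul_dvd_mul_iff_left (show 0 < 2 by omega)).1 hdm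
  have hmo : Odd m := ⟨t + d - 1, by omega⟩
  have hdo : Odd d := Odd.of_dvd_nat hmo ⟨i, hi⟩
  have hio : Odd i := Odd.of_dvd_nat hmo ⟨d, by rw [hi, mul_comm]⟩
  refine ⟨hdo, fun x => ?_⟩
  obtain ⟨i', rfl⟩ := hio
  have hper : ∀ k, x ^ q ^ (2 * d * k) = x := by
    intro k
    induction k with
    | zero => simp
    | succ k ih => rw [Nat.mul_succ, pow_add, pow_mul, ih, hfix]
  rw [hφx, hi, show d * (2 * i' + 1) = 2 * d * i' + d by ring, pow_add, pow_mul, hper]

/-- All that is needed about the field cut out by a primitive idempotent. -/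
theorem corner (hF : Fintype.card F = q ^ 2) (S : Subalgebra F Mat)
    (hSc : ∀ x ∈ S, ∀ y ∈ S, Commute x y) (hper : ∀ z ∈ S, ∃ N : ℕ, 1 ≤ N ∧ z ^ (N + 1) = z)
    (hadjS : ∀ z ∈ S, adj q z ∈ S) {E : Mat} (hES : E ∈ S) (hE : E * E = E) (h0 : E ≠ 0)
    (hprim : ∀ G ∈ S, G * G = G → G * E = G → G = 0 ∨ G = E) :
    ∃ d j k : ℕ, 1 ≤ d ∧ 1 ≤ j ∧ d * j = k ∧
      (∃ (P : Matrix (Fin n) (Fin k) F) (Q : Matrix (Fin k) (Fin n) F), Q * P = 1 ∧ P * Q = E) ∧
      Nat.card {y : Mat // ∃ x ∈ S, x * E = y} ≤ (q ^ 2) ^ d ∧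
      (∀ x ∈ S, x ^ (geom (q ^ 2) d * j) * E = (x * E + (1 - E)).det • E) ∧
      (∀ x ∈ S, x * E ≠ 0 → x ^ ((q ^ 2) ^ d - 1) * E = E) ∧
      (∀ x ∈ S, x ^ (q + 1) * E = E → ∃ a : F, a ^ (q + 1) = 1 ∧ x * E = a • E) ∧
      (∃ z ∈ S, z * E ≠ 0 ∧ ∀ m, z ^ m * E = E → (q ^ 2) ^ d - 1 ∣ m) ∧
      (adj q E = E → Odd d ∧ ∀ x ∈ S, adj q x * E = x ^ q ^ d * E) := by
  classical
  obtain ⟨k, P, Q, hQP, hPQ⟩ := exists_factor E hE
  have hk : 0 < k := by
    rcases Nat.eq_zero_or_pos k with rfl | h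
    · exfalso; apply h0; rw [← hPQ]; ext i j; simp [Matrix.mul_apply]
    · exact h
  haveI : Nonempty (Fin k) := ⟨⟨0, hk⟩⟩
  have hEP : E * P = P := by rw [← hPQ, Matrix.mul_assoc, hQP, Matrix.mul_one]
  have hQE : Q * E = Q := by rw [← hPQ, ← Matrix.mul_assoc, hQP, Matrix.one_mul]
  let π : S →ₐ[F] Matrix (Fin k) (Fin k) F := AlgHom.ofLinearMap
    { toFun := fun x => Q * (x : Mat) * P
      map_add' := fun x y => by simp [Matrix.mul_add, Matrix.add_mul]
      map_smul' := fun c x => by simp }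
    (by simp [hQP])
    (fun x y => by
      show Q * ((x : Mat) * (y : Mat)) * P = Q * (x : Mat) * P * (Q * (y : Mat) * P)
      rw [show Q * (x : Mat) * P * (Q * (y : Mat) * P) = Q * ((x : Mat) * (P * Q)) * (y : Mat) * P by
        simp only [Matrix.mul_assoc], hPQ, (hSc _ x.2 _ hES).eq, ← Matrix.mul_assoc Q E, hQE]
      simp only [Matrix.mul_assoc])
  have hπ : ∀ x : S, π x = Q * (x : Mat) * P := fun _ => rfl
  have hlift : ∀ x : S, P * π x * Q = (x : Mat) * E := fun x => by
    rw [hπ, show P * (Q * (x : Mat) * P) * Q = (P * Q) * (x : Mat) * (P * Q) by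
      simp only [Matrix.mul_assoc], hPQ, (hSc _ hES _ x.2).eq, Matrix.mul_assoc, hE]
  let K := π.range
  let ρ : S →ₐ[F] K := π.rangeRestrict
  have hρs : Function.Surjective ρ := π.rangeRestrict_surjective
  have hρ : ∀ x : S, ((ρ x : K) : Matrix (Fin k) (Fin k) F) = π x := fun _ => rfl
  have hρe : ∀ x y : S, ρ x = ρ y ↔ (x : Mat) * E = (y : Mat) * E := by
    intro x y
    rw [Subtype.ext_iff, hρ, hρ]
    constructor
    · intro h; rw [← hlift, h, hlift]
    · intro h
      rw [hπ, hπ, ← hEP, Matrix.mul_assoc Q, ← Matrix.mul_assoc _ E, h]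
      simp only [Matrix.mul_assoc]
  have hρ1 : ∀ x : S, ρ x = 1 ↔ (x : Mat) * E = E := fun x => by
    rw [← map_one ρ, hρe]; simp
  have hρ0 : ∀ x : S, ρ x = 0 ↔ (x : Mat) * E = 0 := fun x => by
    rw [← map_zero ρ, hρe]; simp
  have hfield : IsField K :=
    { exists_pair_ne := ⟨0, 1, fun h => zero_ne_one (α := Matrix (Fin k) (Fin k) F) (congrArg Subtype.val h)⟩
      mul_comm := fun a b => by
        obtain ⟨x, rfl⟩ := hρs a
        obtain ⟨y, rfl⟩ := hρs b
        rw [← map_mul, ← map_mul, show x * y = y * x from Subtype.ext (hSc _ x.2 _ y.2).eq]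
      mul_inv_cancel := fun {a} ha => by
        obtain ⟨x, rfl⟩ := hρs a
        obtain ⟨z, hz, hzx⟩ := corner_inverse S hSc hper hES hE hprim x.2
          (fun h => ha ((hρ0 x).2 h))
        refine ⟨ρ ⟨z, hz⟩, ?_⟩
        rw [← map_mul, hρ1]
        show (x : Mat) * z * E = E
        rw [(hSc _ x.2 _ hz).eq, hzx] }
  letI : Field K := hfield.toField
  letI : Nontrivial K := hfield.nontrivial
  obtain ⟨d, j, hdK, hd1, hj1, hdj, hcard, hdet⟩ := field_det hF
    ((Matrix.toLinAlgEquiv' : Matrix (Fin k) (Fin k) F ≃ₐ[F] _).toAlgHom.comp K.val)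
  rw [Module.finrank_fin_fun] at hdj
  haveI := Fintype.ofFinite K
  refine ⟨d, j, k, hd1, hj1, hdj, ⟨P, Q, hQP, hPQ⟩, ?_, ?_, ?_, ?_, ?_, ?_⟩
  · refine le_of_le_of_eq (Nat.card_le_card_of_surjective
      (fun t : K => (⟨P * (t : Matrix (Fin k) (Fin k) F) * Q, by
        obtain ⟨x, rfl⟩ := hρs t
        exact ⟨x, x.2, (hlift x).symm⟩⟩ : {y : Mat // ∃ x ∈ S, x * E = y})) ?_) hcard
    rintro ⟨y, x, hx, rfl⟩
    exact ⟨ρ ⟨x, hx⟩, Subtype.ext (hlift ⟨x, hx⟩)⟩
  · intro x hx
    have h1 : LinearMap.det (Matrix.toLin' (π ⟨x, hx⟩)) = (x * E + (1 - E)).det := by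
      rw [LinearMap.det_toLin', show x * E + (1 - E) = 1 + ((x - 1) * P) * Q by
        rw [Matrix.mul_assoc, hPQ, sub_mul, one_mul]; abel,
        Matrix.det_one_add_mul_comm, hπ]
      congr 1
      rw [Matrix.sub_mul, Matrix.one_mul, Matrix.mul_sub, hQP, ← Matrix.mul_assoc]
      abel
    have h2 := hdet (ρ ⟨x, hx⟩)
    change algebraMap F K (LinearMap.det (Matrix.toLin' (π ⟨x, hx⟩))) = _ at h2
    rw [h1, ← map_pow, ← AlgHom.commutes ρ, hρe] at h2
    rw [SubmonoidClass.coe_pow] at h2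
    rw [← h2, Subalgebra.coe_algebraMap, Algebra.algebraMap_eq_smul_one, smul_mul_assoc, one_mul]
  · intro x hx hne
    have h : ρ ⟨x, hx⟩ ^ ((q ^ 2) ^ d - 1) = 1 := by
      rw [← hcard, Nat.card_eq_fintype_card]
      exact FiniteField.pow_card_sub_one_eq_one _ fun h => hne ((hρ0 _).1 h)
    rwa [← map_pow, hρ1, SubmonoidClass.coe_pow] at h
  · intro x hx h
    obtain ⟨a, ha, ha1⟩ := algebraMap_of_pow hF (x := ρ ⟨x, hx⟩) (by
      rwa [← map_pow, hρ1, SubmonoidClass.coe_pow])
    refine ⟨a, ha1, ?_⟩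
    rw [← AlgHom.commutes ρ, hρe, Subalgebra.coe_algebraMap, Algebra.algebraMap_eq_smul_one,
      smul_mul_assoc, one_mul] at ha
    exact ha.symm
  · obtain ⟨g, hg⟩ := IsCyclic.exists_ofOrder_eq_natCard (α := Kˣ)
    obtain ⟨z, hz⟩ := hρs (g : K)
    refine ⟨z, z.2, fun h => g.ne_zero (hz ▸ (hρ0 z).2 h), fun m hm => ?_⟩
    rw [← hcard, ← Nat.card_units, ← hg]
    refine orderOf_dvd_of_pow_eq_one (Units.ext ?_)
    rw [Units.val_pow_eq_pow_val, ← hz, ← map_pow, Units.val_one, hρ1, SubmonoidClass.coe_pow]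
    exact hm
  · intro hadj
    have hcE : ∀ x ∈ S, adj q (x * E) = adj q x * E := fun x hx => by
      rw [adj_mul hF, hadj, (hSc _ hES _ (hadjS x hx)).eq]
    have hwd : ∀ x y : S, ρ x = ρ y → ρ ⟨adj q x, hadjS _ x.2⟩ = ρ ⟨adj q y, hadjS _ y.2⟩ := by
      intro x y h
      rw [hρe] at h ⊢
      rw [← hcE _ x.2, ← hcE _ y.2, h]
    let s := Function.surjInv hρs
    have hs : ∀ t, ρ (s t) = t := Function.surjInv_eq hρs
    let φ₀ : K → K := fun t => ρ ⟨adj q (s t : Mat), hadjS _ (s t).2⟩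
    have hφρ : ∀ x : S, φ₀ (ρ x) = ρ ⟨adj q x, hadjS _ x.2⟩ := fun x => hwd _ _ (hs _)
    let φ : K →+* K :=
      { toFun := φ₀
        map_one' := by
          rw [← map_one ρ, hφρ]
          exact congrArg ρ (Subtype.ext (adj_one hF))
        map_mul' := fun a b => by
          rw [← hs a, ← hs b, ← map_mul, hφρ, hφρ, hφρ, ← map_mul]
          refine congrArg ρ (Subtype.ext ?_)
          show adj q ((s a : Mat) * (s b : Mat)) = adj q (s a : Mat) * adj q (s b : Mat)
          rw [adj_mul hF]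
          exact (hSc _ (hadjS _ (s b).2) _ (hadjS _ (s a).2)).eq
        map_zero' := by
          rw [← map_zero ρ, hφρ]
          exact congrArg ρ (Subtype.ext (by simp [adj, zero_pow (q_ne_zero hF)]))
        map_add' := fun a b => by
          rw [← hs a, ← hs b, ← map_add, hφρ, hφρ, hφρ, ← map_add]
          exact congrArg ρ (Subtype.ext (adj_add hF _ _)) }
    obtain ⟨hodd, hpow⟩ := frob_of_involution hF φ
      (fun a => by
        show φ₀ _ = _
        rw [← AlgHom.commutes ρ, hφρ, ← AlgHom.commutes ρ]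
        refine congrArg ρ (Subtype.ext ?_)
        simp [Algebra.algebraMap_eq_smul_one, adj_smul, adj_one hF])
      (fun t => by
        obtain ⟨x, rfl⟩ := hρs t
        exact (congrArg φ₀ (hφρ x)).trans ((hφρ _).trans (congrArg ρ (Subtype.ext (adj_adj hF _)))))
    rw [← hdK] at hodd hpow
    refine ⟨hodd, fun x hx => ?_⟩
    have := hpow (ρ ⟨x, hx⟩)
    rw [show φ (ρ ⟨x, hx⟩) = _ from hφρ _, ← map_pow, hρe, SubmonoidClass.coe_pow] at this
    exact this

theorem herm_single_mulVec (hF : Fintype.card F = q ^ 2) (A B : Mat) (i : Fin n) :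
    hermForm n F q (A *ᵥ Pi.single i 1) (B *ᵥ Pi.single i 1) = (adj q B * A) i i := by
  simp only [hermForm, Matrix.mulVec_single_one, Matrix.col_apply, Matrix.mul_apply, adj_apply]
  exact Finset.sum_congr rfl fun x _ => mul_comm _ _

theorem hom_pow {E : Mat} (hE : E * E = E) {x : Mat} (hc : Commute x E) :
    ∀ m : ℕ, (x * E + (1 - E)) ^ m = x ^ m * E + (1 - E) := by
  intro m
  have hEF : E * (1 - E) = 0 := by rw [mul_sub, mul_one, hE, sub_self]
  have hFE : (1 - E) * E = 0 := by rw [sub_mul, one_mul, hE, sub_self]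
  have hFF : (1 - E) * (1 - E) = 1 - E := by rw [mul_sub, mul_one, hFE, sub_zero]
  induction m with
  | zero => simp
  | succ m ih =>
    have h1 : x ^ m * E * (x * E) = x ^ (m + 1) * E := by
      rw [Matrix.mul_assoc, ← Matrix.mul_assoc E, ← hc.eq, Matrix.mul_assoc x E E, hE,
        ← Matrix.mul_assoc, ← pow_succ]
    rw [pow_succ, ih, add_mul, mul_add, mul_add, h1, Matrix.mul_assoc _ E (1 - E), hEF,
      Matrix.mul_zero, hc.eq, ← Matrix.mul_assoc (1 - E) E, hFE, Matrix.zero_mul, hFF, add_zero,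
      zero_add]

theorem hom_mul {E : Mat} (hE : E * E = E) {x y : Mat} (hy : Commute y E) :
    (x * E + (1 - E)) * (y * E + (1 - E)) = x * y * E + (1 - E) := by
  have hEF : E * (1 - E) = 0 := by rw [mul_sub, mul_one, hE, sub_self]
  have hFE : (1 - E) * E = 0 := by rw [sub_mul, one_mul, hE, sub_self]
  have hFF : (1 - E) * (1 - E) = 1 - E := by rw [mul_sub, mul_one, hFE, sub_zero]
  have h1 : x * E * (y * E) = x * y * E := by
    rw [Matrix.mul_assoc, ← Matrix.mul_assoc E, ← hy.eq, Matrix.mul_assoc y E E, hE,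
      ← Matrix.mul_assoc]
  rw [add_mul, mul_add, mul_add, h1, Matrix.mul_assoc _ E (1 - E), hEF, Matrix.mul_zero,
    hy.eq, ← Matrix.mul_assoc (1 - E) E, hFE, Matrix.zero_mul, hFF, add_zero, zero_add]

theorem mat_pow (g : SU n F q) (m : ℕ) : mat (g ^ m) = mat g ^ m := by
  rw [mat, SubmonoidClass.coe_pow, Matrix.SpecialLinearGroup.coe_pow]

/-- A torus element. -/
theorem torus_order (hF : Fintype.card F = q ^ 2) (hn : 2 ≤ n) (y : Mat) (E : Mat) (h0 : E ≠ 0)
    (hU : adj q y * y = 1) (hdet : (y ^ (q + 1)).det = 1) (N : ℕ)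
    (hN : ∀ m, y ^ m * E = E → N ∣ m) (hNt : torusNum q n ∣ N) :
    ∃ u : SU n F q, torusExp q n ∣ orderOf ((u : SU n F q) : PU) := by
  have hUu : IsU q (y ^ (q + 1)) := by
    rw [isU_iff hF, adj_pow hF]
    have hcm : Commute (adj q y) y := by
      show _ * _ = _ * _
      rw [hU, mul_eq_one_comm.1 hU]
    rw [← hcm.mul_pow, hU, one_pow]
  refine ⟨mkSU _ hdet hUu, ?_⟩
  set u : SU n F q := mkSU _ hdet hUu
  set m := orderOf ((u : SU n F q) : PU) with hm
  have h : (((u ^ m) : SU n F q) : PU) = 1 := by rw [QuotientGroup.mk_pow, hm, pow_orderOf_eq_one]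
  obtain ⟨a, ha⟩ := scalar_of_central hF hn h
  have ha' : y ^ ((q + 1) * m) = Matrix.scalar (Fin n) a := by
    rw [← ha, mat_pow, pow_mul]; rfl
  have han : a ^ n = 1 := by
    have := congrArg Matrix.det ha'
    rw [pow_mul, Matrix.det_pow, hdet, one_pow] at this
    simpa [Matrix.scalar_apply] using this.symm
  have haq : a ^ (q + 1) = 1 := by
    have h1 := adj_mat_mul hF (u ^ m)
    rw [ha, Matrix.scalar_apply, ← Matrix.smul_one_eq_diagonal, adj_smul, adj_one hF,
      smul_mul_smul_comm, one_mul, ← pow_succ] at h1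
    have := congrFun (congrFun h1 ⟨0, by omega⟩) ⟨0, by omega⟩
    simpa using this
  have hac : a ^ Nat.gcd n (q + 1) = 1 := pow_gcd_eq_one.mpr ⟨han, haq⟩
  have hd : N ∣ (q + 1) * m * Nat.gcd n (q + 1) := hN _ (by
    rw [pow_mul, ha', ← map_pow, hac, map_one, one_mul])
  have hq1 : 1 ≤ q := by have := two_le_q hF; omega
  rw [torusExp, Nat.div_dvd_iff_dvd_mul (dvd_torusNum_self q n hq1)
    (Nat.mul_pos (by omega) (Nat.gcd_pos_of_pos_right _ (by omega)))]
  refine hNt.trans (hd.trans (dvd_of_eq ?_))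
  ring

/-- The main dichotomy. -/
theorem dichotomy (hF : Fintype.card F = q ^ 2) (hn : 2 ≤ n) {r p e : ℕ} [Fact p.Prime] [CharP F p]
    (hpe : n ≤ p ^ e) (hr : r.Prime) (hrq : r ∣ q + 1) (hrn : ¬ r ∣ n) (g : SU n F q) :
    (∃ s : SU n F q, Commute s g ∧ orderOf ((s : SU n F q) : PU) = r) ∨
      (((g : SU n F q) : PU) ^ (p ^ e * torusExp q n) = 1 ∧
        ((∃ s : SU n F q, Commute s (g ^ p ^ e) ∧ orderOf ((s : SU n F q) : PU) = r) ∨
          ∃ u : SU n F q, torusExp q n ∣ orderOf ((u : SU n F q) : PU))) := by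
  classical
  haveI : Nonempty (Fin n) := ⟨⟨0, by omega⟩⟩
  obtain ⟨S, hσS, hSc, hSg, hSadj, hper⟩ := exists_algebra hF hpe (by omega) g
  by_cases hid : ∃ E ∈ S, E * E = E ∧ adj q E = E ∧ E ≠ 0 ∧ E ≠ 1
  · obtain ⟨E, hES, hE, hadj, h0, h1⟩ := hid
    exact Or.inl (exists_commute_order hF hn hr hrq hrn g E hE h0 h1 hadj (hSg E hES))
  right
  have hq2 := two_le_q hF
  set σ := mat g ^ p ^ e with hσdef
  set A := torusExp q n with hA
  have hσadj : adj q σ * σ = 1 := by rw [hσdef, ← mat_pow]; exact adj_mat_mul hF _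
  have hσdet : σ.det = 1 := by
    rw [hσdef, Matrix.det_pow, (g : Matrix.SpecialLinearGroup (Fin n) F).2, one_pow]
  suffices H : (∃ a : F, σ ^ A = a • (1 : Mat)) ∧
      ((∀ y : Fin n → F, ∃ z ∈ S, z *ᵥ Pi.single ⟨0, by omega⟩ 1 = y) →
        ∃ u : SU n F q, torusExp q n ∣ orderOf ((u : SU n F q) : PU)) ∧
      (∀ z ∈ S, (∀ w ∈ S, (adj q w * z) (⟨0, by omega⟩ : Fin n) ⟨0, by omega⟩ = 0) → z = 0) by
    obtain ⟨⟨a, ha⟩, htor, hrad⟩ := H
    refine ⟨?_, ?_⟩
    · rw [← QuotientGroup.mk_pow]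
      refine central_of_scalar (a := a) ?_
      rw [mat_pow, pow_mul, ← hσdef, ha, Matrix.scalar_apply, Matrix.smul_one_eq_diagonal]
    by_cases htop : ∀ y : Fin n → F, ∃ z ∈ S, z *ᵥ Pi.single ⟨0, by omega⟩ 1 = y
    · exact Or.inr (htor htop)
    push Not at htop
    left
    set v : Fin n → F := Pi.single ⟨0, by omega⟩ 1
    obtain ⟨E, hE, hadj, h0, h1, hc⟩ := exists_projection hF σ S hσS hSadj v
      (fun z hz h => by
        rw [hrad z hz (fun w hw => ?_), Matrix.zero_mulVec]
        rw [← herm_single_mulVec hF, herm_conj hF, h w hw, zero_pow_q hF])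
      (fun h => by simpa [v] using congrFun h ⟨0, by omega⟩) htop
    exact exists_commute_order hF hn hr hrq hrn (g ^ p ^ e) E hE h0 h1 hadj
      (by rwa [mat_pow])
  by_cases hnt : ∃ E ∈ S, E * E = E ∧ E ≠ 0 ∧ E ≠ 1
  swap
  · -- a field
    push Not at hnt
    have hprim : ∀ G ∈ S, G * G = G → G * 1 = G → G = 0 ∨ G = 1 := fun G hG hGG _ => by
      by_cases h : G = 0
      · exact Or.inl h
      · exact Or.inr (hnt G hG hGG h)
    obtain ⟨d, j, k, hd1, hj1, hdj, ⟨P, Q, hQP, hPQ⟩, hcard, hDet, hOrd, hU, ⟨z, hz, hz0, hzgen⟩, hadjc⟩ :=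
      corner hF S hSc hper hSadj S.one_mem (one_mul 1) one_ne_zero hprim
    simp only [Matrix.mul_one] at hcard hDet hOrd hU hz0 hzgen hadjc
    obtain ⟨hodd, hpow⟩ := hadjc (adj_one hF)
    have hkn : k = n := by
      have h1 := congrArg Matrix.trace hQP
      let e : (Fin n → F) ≃ₗ[F] (Fin k → F) := LinearEquiv.ofLinear (Matrix.toLin' Q)
        (Matrix.toLin' P) (by rw [← Matrix.toLin'_mul, hQP, Matrix.toLin'_one])
        (by rw [← Matrix.toLin'_mul, hPQ, Matrix.toLin'_one])
      simpa using (LinearEquiv.finrank_eq e).symm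
    have hqd1 : σ ^ (q ^ d + 1) = 1 := by rw [pow_succ, ← hpow σ hσS, hσadj]
    have hdet1 : σ ^ (geom (q ^ 2) d * j) = 1 := by
      rw [hDet σ hσS, sub_self, add_zero, hσdet, one_smul]
    have hexp := exponent_field hq2 d j hodd hqd1 hdet1
    rw [hdj, hkn, ← hA, pow_mul] at hexp
    obtain ⟨a, -, ha⟩ := hU (σ ^ A) (S.pow_mem hσS _) hexp
    refine ⟨⟨a, ha⟩, ?_, ?_⟩
    · intro htop
      have hnd : n ≤ d := by
        have h1 : Nat.card (Fin n → F) ≤ (q ^ 2) ^ d := by
          refine le_trans (Nat.card_le_card_of_surjective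
            (fun y : {y : Mat // ∃ x ∈ S, x = y} => (y : Mat) *ᵥ Pi.single ⟨0, by omega⟩ 1) ?_) hcard
          intro y
          obtain ⟨x, hx, rfl⟩ := htop y
          exact ⟨⟨x, x, hx, rfl⟩, rfl⟩
        rw [Nat.card_eq_fintype_card, Fintype.card_fun, hF, Fintype.card_fin] at h1
        exact (Nat.pow_le_pow_iff_right (by nlinarith)).1 h1
      have hj : j = 1 := by
        by_contra hne
        have : d * 2 ≤ d * j := Nat.mul_le_mul_left _ (by omega)
        omega
      subst hj
      rw [mul_one] at hdj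
      have hdn : d = n := hdj.trans hkn
      subst hdn
      have e3 : ((q ^ 2) ^ d - 1) = (q ^ d + 1) * (q ^ d - 1) := by
        rw [← Nat.sq_sub_sq, one_pow, ← pow_mul, ← pow_mul, mul_comm 2 d]
      have hqd : 2 ≤ q ^ d := hq2.trans (Nat.le_self_pow (by omega) q)
      set y := z ^ (q ^ d - 1) with hy
      have hyS : y ∈ S := S.pow_mem hz _
      have hz1 : z ^ ((q ^ 2) ^ d - 1) = 1 := hOrd z hz hz0
      have hyq : y ^ (q ^ d + 1) = 1 := by rw [hy, ← pow_mul, mul_comm, ← e3, hz1]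
      refine torus_order hF hn y 1 one_ne_zero (by rw [hpow y hyS, ← pow_succ, hyq]) ?_ (q ^ d + 1)
        (fun m hm => ?_) (by rw [torusNum, if_neg (Nat.not_even_iff_odd.2 hodd)])
      · have h := hDet (y ^ (q + 1)) (S.pow_mem hyS _)
        rw [sub_self, add_zero, mul_one] at h
        obtain ⟨D, hD⟩ : q + 1 ∣ q ^ d + 1 := by simpa using hodd.nat_add_dvd_pow_add_pow q 1
        have e1 := geom_mul_add (q ^ 2) d (Nat.one_le_pow _ _ (by omega))
        have e2 := geom_mul_add q d (by omega)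
        have e4 : q ^ 2 - 1 = (q + 1) * (q - 1) := by rw [← Nat.sq_sub_sq, one_pow]
        have e5 : (q + 1) * geom (q ^ 2) d = (q ^ d + 1) * geom q d := by
          refine Nat.eq_of_mul_eq_mul_right (show 0 < q - 1 by omega) ?_
          rw [mul_assoc, mul_comm (q + 1), mul_assoc, mul_comm (q - 1), ← e4,
            show geom (q ^ 2) d * (q ^ 2 - 1) = (q ^ 2) ^ d - 1 by omega, e3,
            show q ^ d - 1 = geom q d * (q - 1) by omega, mul_assoc]
        rw [← pow_mul, e5, pow_mul, hyq, one_pow] at h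
        have := congrFun (congrFun h ⟨0, by omega⟩) ⟨0, by omega⟩
        simpa using this.symm
      · rw [mul_one, hy, ← pow_mul] at hm
        have h := hzgen _ hm
        rw [e3, mul_comm (q ^ d - 1) m] at h
        exact Nat.dvd_of_mul_dvd_mul_right (by omega) h
    · intro x hx h
      by_contra hne
      obtain ⟨x', hx', hxx⟩ := corner_inverse S hSc hper S.one_mem (one_mul 1) hprim hx
        (by rwa [Matrix.mul_one])
      have := h (adj q x') (hSadj _ hx')
      rw [adj_adj hF, ← Matrix.mul_one (x' * x), hxx] at this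
      simp at this
  · -- two swapped fields
    obtain ⟨E, hES, hE, h0, h1⟩ := hnt
    have hcase : ∀ G ∈ S, G * G = G → G = 0 ∨ G = 1 ∨ (adj q G * G = 0 ∧ adj q G + G = 1) := by
      intro G hG hGG
      have hc := hSc _ (hSadj G hG) _ hG
      have hGa : adj q G * adj q G = adj q G := by rw [← adj_mul hF, hGG]
      have hP : (adj q G * G) * (adj q G * G) = adj q G * G := by
        rw [Matrix.mul_assoc, ← Matrix.mul_assoc G, ← hc.eq, Matrix.mul_assoc (adj q G) G G, hGG,
          ← Matrix.mul_assoc, hGa]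
      have hPadj : adj q (adj q G * G) = adj q G * G := by rw [adj_mul hF, adj_adj hF]
      rcases em (adj q G * G = 0) with hz | hz
      · rcases em (adj q G + G = 0) with hs | hs
        · left
          rw [← hGG]
          nth_rewrite 1 [eq_neg_of_add_eq_zero_right hs]
          rw [Matrix.neg_mul, hz, neg_zero]
        right
        by_cases hs1 : adj q G + G = 1
        · exact Or.inr ⟨hz, hs1⟩
        exact absurd ⟨adj q G + G, S.add_mem (hSadj G hG) hG, by
            rw [add_mul, mul_add, mul_add, hGa, hGG, hz, ← hc.eq, hz, add_zero, zero_add], by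
            rw [adj_add hF, adj_adj hF, add_comm], hs, hs1⟩ hid
      · by_cases hP1 : adj q G * G = 1
        · right; left
          calc G = 1 * G := (Matrix.one_mul G).symm
            _ = 1 := by rw [← hP1, Matrix.mul_assoc, hGG]
        exact absurd ⟨_, S.mul_mem (hSadj G hG) hG, hP, hPadj, hz, hP1⟩ hid
    obtain ⟨hEE, hsum⟩ : adj q E * E = 0 ∧ adj q E + E = 1 := by
      rcases hcase E hES hE with h | h | h
      · exact absurd h h0
      · exact absurd h h1
      · exact h
    have hE' : adj q E = 1 - E := eq_sub_of_add_eq hsum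
    have hE'S : 1 - E ∈ S := S.sub_mem S.one_mem hES
    have hE'i : (1 - E) * (1 - E) = 1 - E := by rw [← hE', ← adj_mul hF, hE]
    have hprim : ∀ {E₀ : Mat}, E₀ ∈ S → E₀ * E₀ = E₀ → E₀ ≠ 0 → E₀ ≠ 1 →
        ∀ G ∈ S, G * G = G → G * E₀ = G → G = 0 ∨ G = E₀ := by
      intro E₀ hE₀S hE₀ h00 h01 G hG hGG hGE
      rcases hcase G hG hGG with h | h | ⟨-, hs⟩
      · exact Or.inl h
      · rw [h, Matrix.one_mul] at hGE
        exact absurd hGE h01
      right
      rcases hcase E₀ hE₀S hE₀ with h | h | ⟨hz0, -⟩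
      · exact absurd h h00
      · exact absurd h h01
      have h2 : adj q G * E₀ = 0 := by
        rw [← hGE, adj_mul hF, (hSc _ (hSadj _ hE₀S) _ (hSadj _ hG)).eq, Matrix.mul_assoc, hz0,
          Matrix.mul_zero]
      calc G = adj q G * E₀ + G * E₀ := by rw [h2, zero_add, hGE]
        _ = E₀ := by rw [← add_mul, hs, Matrix.one_mul]
    obtain ⟨d, j, k, hd1, hj1, hdj, ⟨P, Q, hQP, hPQ⟩, hcard, hDet, hOrd, hU, ⟨z, hz, hz0, hzgen⟩, -⟩ :=
      corner hF S hSc hper hSadj hES hE h0 (hprim hES hE h0 h1)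
    have hn2k : n = 2 * k := by
      have hPQ' : adj q Q * adj q P = 1 - E := by rw [← adj_mul hF, hPQ, hE']
      have hQP' : adj q P * adj q Q = 1 := by rw [← adj_mul hF, hQP, adj_one hF]
      have hQE : Q * E = Q := by rw [← hPQ, ← Matrix.mul_assoc, hQP, Matrix.one_mul]
      have hEP : E * P = P := by rw [← hPQ, Matrix.mul_assoc, hQP, Matrix.mul_one]
      have hFQ : (1 - E) * adj q Q = adj q Q := by rw [← hE', ← adj_mul hF, hQE]
      have hPF : adj q P * (1 - E) = adj q P := by rw [← hE', ← adj_mul hF, hEP]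
      have hz1 : Q * adj q Q = 0 := by
        rw [show Q * adj q Q = (Q * E) * ((1 - E) * adj q Q) by rw [hQE, hFQ], Matrix.mul_assoc,
          ← Matrix.mul_assoc E, mul_sub, mul_one, hE, sub_self, Matrix.zero_mul, Matrix.mul_zero]
      have hz2 : adj q P * P = 0 := by
        rw [show adj q P * P = (adj q P * (1 - E)) * (E * P) by rw [hPF, hEP], Matrix.mul_assoc,
          ← Matrix.mul_assoc (1 - E), sub_mul, one_mul, hE, sub_self, Matrix.zero_mul, Matrix.mul_zero]
      let e : (Fin n → F) ≃ₗ[F] (Fin k → F) × (Fin k → F) := LinearEquiv.ofLinear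
        ((Matrix.toLin' Q).prod (Matrix.toLin' (adj q P)))
        ((Matrix.toLin' P).coprod (Matrix.toLin' (adj q Q)))
        (by
          refine LinearMap.ext fun v => ?_
          simp [Matrix.mulVec_add, Matrix.mulVec_mulVec, hQP, hQP', hz1, hz2])
        (by
          refine LinearMap.ext fun v => ?_
          simp [Matrix.mulVec_mulVec, hPQ, hPQ', ← Matrix.add_mulVec])
      have := LinearEquiv.finrank_eq e
      rw [Module.finrank_prod, Module.finrank_fin_fun, Module.finrank_fin_fun] at this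
      omega
    have hcomm : ∀ x ∈ S, Commute x E := fun x hx => hSc x hx E hES
    -- the determinant on the second block
    have hsplit : ∀ x ∈ S, x = (x * E + (1 - E)) * (E + x * (1 - E)) := fun x hx => by
      have hEF : E * (1 - E) = 0 := by rw [mul_sub, mul_one, hE, sub_self]
      have hFE : (1 - E) * E = 0 := by rw [sub_mul, one_mul, hE, sub_self]
      have t1 : x * E * E = x * E := by rw [Matrix.mul_assoc, hE]
      have t2 : x * E * (x * (1 - E)) = 0 := by
        rw [Matrix.mul_assoc, ← Matrix.mul_assoc E, ← (hcomm x hx).eq, Matrix.mul_assoc x E, hEF,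
          Matrix.mul_zero, Matrix.mul_zero]
      have t3 : (1 - E) * (x * (1 - E)) = x * (1 - E) := by
        rw [← Matrix.mul_assoc, (hSc _ hE'S _ hx).eq, Matrix.mul_assoc, hE'i]
      rw [add_mul, mul_add, mul_add, t1, t2, hFE, t3, add_zero, zero_add, ← mul_add, add_sub_cancel,
        mul_one]
    have hdetconj : ∀ x ∈ S, (E + adj q x * (1 - E)).det = (x * E + (1 - E)).det ^ q := fun x hx => by
      rw [← det_adj hF, adj_add hF, adj_mul hF, adj_sub hF, adj_one hF, hE', sub_sub_cancel]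
      congr 1
      rw [add_comm]
      congr 1
      exact ((hSc _ (hSadj x hx) _ hE'S)).eq
    set δ := (σ * E + (1 - E)).det with hδ
    have hδ0 : δ ≠ 0 ∧ δ ^ (q - 1) = 1 := by
      have h1 : δ * (E + σ * (1 - E)).det = 1 := by rw [hδ, ← Matrix.det_mul, ← hsplit σ hσS, hσdet]
      have h2 : (E + adj q σ * (1 - E)).det * (E + σ * (1 - E)).det = 1 := by
        have h3 : ∀ M : Mat, E + M = M + (1 - (1 - E)) := fun M => by rw [sub_sub_cancel, add_comm]
        rw [← Matrix.det_mul, h3, h3, hom_mul hE'i (hSc σ hσS _ hE'S), hσadj, Matrix.one_mul, add_sub_cancel, Matrix.det_one]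
      rw [hdetconj σ hσS, ← hδ] at h2
      have hne : δ ≠ 0 := left_ne_zero_of_mul (h1.trans_ne one_ne_zero)
      refine ⟨hne, mul_left_cancel₀ hne (mul_right_cancel₀ (right_ne_zero_of_mul (h1.trans_ne one_ne_zero)) ?_)⟩
      rw [← pow_succ', Nat.sub_add_cancel (by omega), mul_one, h2, h1]
    have hσ0 : σ * E ≠ 0 := fun h => h0 (by
      rw [← Matrix.one_mul E, ← hσadj, Matrix.mul_assoc, h, Matrix.mul_zero])
    have hr1 : (σ * E + (1 - E)) ^ ((q ^ 2) ^ d - 1) = 1 := by
      rw [hom_pow hE (hcomm σ hσS), hOrd σ hσS hσ0, add_sub_cancel]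
    have hr2 : (σ * E + (1 - E)) ^ (geom (q ^ 2) d * j * (q - 1)) = 1 := by
      rw [hom_pow hE (hcomm σ hσS), pow_mul]
      have h := hDet σ hσS
      have h' : (σ ^ (geom (q ^ 2) d * j) * E + (1 - E)) ^ (q - 1) = 1 := by
        rw [h, ← hδ, show δ • E = (δ • (1 : Mat)) * E by rw [smul_mul_assoc, one_mul],
          hom_pow hE ((Commute.one_left E).smul_left δ), _root_.smul_pow, one_pow, hδ0.2, one_smul,
          one_mul, add_sub_cancel]
      rwa [hom_pow hE ((hcomm σ hσS).pow_left _)] at h'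
    have hexp := exponent_split hq2 d j hr1 hr2
    rw [hom_pow hE (hcomm σ hσS), hdj, ← hn2k, ← hA, pow_mul] at hexp
    obtain ⟨a, ha1, ha⟩ := hU (σ ^ A) (S.pow_mem hσS _) (by
      have := eq_sub_of_add_eq hexp
      rwa [sub_sub_cancel] at this)
    refine ⟨⟨a, ?_⟩, ?_, ?_⟩
    · have hadjA : adj q (σ ^ A) * σ ^ A = 1 := by
        rw [adj_pow hF]
        have hcm : Commute (adj q σ) σ := hSc _ (hSadj _ hσS) _ hσS
        rw [← hcm.mul_pow, hσadj, one_pow]
      have hFa : (1 - E) * adj q (σ ^ A) = a ^ q • (1 - E) := by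
        rw [← hE', ← adj_mul hF, ha, adj_smul]
      have hF1 : a ^ q • ((1 - E) * σ ^ A) = 1 - E := by
        rw [← smul_mul_assoc, ← hFa, Matrix.mul_assoc, hadjA, Matrix.mul_one]
      have hF2 : (1 - E) * σ ^ A = a • (1 - E) := by
        conv_rhs => rw [← hF1]
        rw [smul_smul, mul_comm a, ← pow_succ, ha1, one_smul]
      calc σ ^ A = σ ^ A * E + (1 - E) * σ ^ A := by
            rw [(hcomm _ (S.pow_mem hσS A)).eq, ← add_mul, add_sub_cancel, one_mul]
        _ = a • (1 : Mat) := by rw [ha, hF2, ← smul_add, add_sub_cancel]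
    · intro htop
      have hnd : n ≤ 2 * d := by
        let T := {y : Mat // ∃ x ∈ S, x * E = y}
        have h1 : Nat.card (Fin n → F) ≤ (q ^ 2) ^ d * (q ^ 2) ^ d := by
          refine le_trans (Nat.card_le_card_of_surjective
            (fun y : T × T => ((y.1 : Mat) + adj q (y.2 : Mat)) *ᵥ Pi.single ⟨0, by omega⟩ 1) ?_)
            (by rw [Nat.card_prod]; exact Nat.mul_le_mul hcard hcard)
          intro y
          obtain ⟨x, hx, rfl⟩ := htop y
          refine ⟨(⟨x * E, x, hx, rfl⟩, ⟨adj q x * E, _, hSadj x hx, rfl⟩), ?_⟩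
          show (x * E + adj q (adj q x * E)) *ᵥ _ = _
          rw [adj_mul hF, adj_adj hF, hE', (hSc _ hE'S _ hx).eq, ← mul_add, add_sub_cancel, mul_one]
        rw [Nat.card_eq_fintype_card, Fintype.card_fun, hF, Fintype.card_fin, ← pow_add] at h1
        have := (Nat.pow_le_pow_iff_right (show 1 < q ^ 2 by nlinarith)).1 h1
        omega
      have hj : j = 1 := by
        by_contra hne
        have : d * 2 ≤ d * j := Nat.mul_le_mul_left _ (by omega)
        omega
      subst hj
      rw [mul_one] at hdj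
      subst hdj
      obtain ⟨z', hz', hzz⟩ := corner_inverse S hSc hper hES hE (hprim hES hE h0 h1) hz hz0
      set Y := z * E + adj q z' * (1 - E)
      have hYE : Y * E = z * E := by
        rw [add_mul, Matrix.mul_assoc, hE, Matrix.mul_assoc, sub_mul, one_mul, hE, sub_self,
          Matrix.mul_zero, add_zero]
      have hYF : Y * (1 - E) = adj q z' * (1 - E) := by
        rw [add_mul, Matrix.mul_assoc, mul_sub E, mul_one, hE, sub_self, Matrix.mul_zero, zero_add,
          Matrix.mul_assoc, hE'i]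
      have hYS : Y ∈ S := S.add_mem (S.mul_mem hz hES) (S.mul_mem (hSadj _ hz') hE'S)
      have hYU : adj q Y * Y = 1 := by
        have hb : adj q Y * Y * E = E := by
          rw [Matrix.mul_assoc, hYE, ← Matrix.mul_assoc, (hSc _ (S.mul_mem (hSadj _ hYS) hz) _ hES).eq,
            ← Matrix.mul_assoc, show E * adj q Y = adj q (Y * (1 - E)) by
              rw [adj_mul hF, adj_sub hF, adj_one hF, hE', sub_sub_cancel],
            hYF, adj_mul hF, adj_adj hF, adj_sub hF, adj_one hF, hE', sub_sub_cancel,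
            (hSc _ hES _ hz').eq, Matrix.mul_assoc, (hSc _ hES _ hz).eq, ← Matrix.mul_assoc, hzz]
        have hb' : adj q Y * Y * (1 - E) = 1 - E := by
          conv_rhs => rw [← hE', ← hb, adj_mul hF, adj_mul hF, adj_adj hF, hE']
          exact (hSc _ (S.mul_mem (hSadj _ hYS) hYS) _ hE'S).eq
        calc adj q Y * Y = adj q Y * Y * E + adj q Y * Y * (1 - E) := by
              rw [← mul_add, add_sub_cancel, mul_one]
          _ = 1 := by rw [hb, hb', add_sub_cancel]
      set δz := (z * E + (1 - E)).det with hδz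
      have hinvdet : δz * (z' * E + (1 - E)).det = 1 := by
        rw [hδz, ← Matrix.det_mul, hom_mul hE (hcomm z' hz'), (hSc _ hz _ hz').eq, hzz,
          add_sub_cancel, Matrix.det_one]
      have hdetY : Y.det = δz * (z' * E + (1 - E)).det ^ q := by
        rw [hδz, ← hdetconj z' hz', ← Matrix.det_mul]
        congr 1
        rw [hsplit Y hYS, hYE]
        congr 2
      refine torus_order hF hn Y E h0 hYU ?_ ((q ^ 2) ^ d - 1) (fun m hm => ?_) ?_
      · have hne : δz ≠ 0 := left_ne_zero_of_mul (hinvdet.trans_ne one_ne_zero)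
        rw [Matrix.det_pow, hdetY, eq_inv_of_mul_eq_one_right hinvdet, mul_pow]
        have hu : δz ^ (q ^ 2 - 1) = 1 := by rw [← hF]; exact FiniteField.pow_card_sub_one_eq_one δz hne
        rw [← pow_mul, inv_pow, ← div_eq_mul_inv, div_eq_one_iff_eq (pow_ne_zero _ hne),
          show q * (q + 1) = (q + 1) + (q ^ 2 - 1) by
            have : q ^ 2 = q * q := sq q
            have : 1 ≤ q * q := Nat.mul_pos (by omega) (by omega)
            rw [mul_add, mul_one]; omega,
          pow_add _ (q + 1), hu, mul_one]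
      · refine hzgen m ?_
        have h : (Y * E + (1 - E)) ^ m = (z * E + (1 - E)) ^ m := by rw [hYE]
        rw [hom_pow hE (hcomm Y hYS), hom_pow hE (hcomm z hz), hm] at h
        exact (add_right_cancel h).symm
      · rw [hn2k, torusNum, if_pos (even_two_mul _), pow_mul]
    · intro x hx h
      have hz0' : ∀ (E₀ : Mat), E₀ ∈ S → E₀ * E₀ = E₀ → E₀ ≠ 0 → E₀ ≠ 1 →
          E₀ ⟨0, by omega⟩ ⟨0, by omega⟩ ≠ (0 : F) → x * E₀ = 0 := by
        intro E₀ hS₀ hi h00 h01 hentry
        by_contra hne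
        obtain ⟨x', hx', hxx⟩ := corner_inverse S hSc hper hS₀ hi (hprim hS₀ hi h00 h01) hx hne
        have := h (adj q (x' * E₀)) (hSadj _ (S.mul_mem hx' hS₀))
        rw [adj_adj hF, Matrix.mul_assoc, (hSc _ hS₀ _ hx).eq, ← Matrix.mul_assoc, hxx] at this
        exact hentry this
      have hEsum : E ⟨0, by omega⟩ ⟨0, by omega⟩ ^ q + E ⟨0, by omega⟩ ⟨0, by omega⟩ = 1 := by
        have := congrFun (congrFun hsum (⟨0, by omega⟩ : Fin n)) ⟨0, by omega⟩
        rwa [Matrix.add_apply, adj_apply, Matrix.one_apply_eq] at this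
      have hEne : E ⟨0, by omega⟩ ⟨0, by omega⟩ ≠ 0 := fun h' => by
        rw [h', zero_pow_q hF, add_zero] at hEsum
        exact zero_ne_one hEsum
      calc x = x * E + x * (1 - E) := by rw [← mul_add, add_sub_cancel, mul_one]
        _ = 0 := by
          rw [hz0' E hES hE h0 h1 hEne, hz0' (1 - E) hE'S hE'i (sub_ne_zero.2 (Ne.symm h1))
            (fun e => h0 (by rw [← sub_sub_cancel 1 E, e, sub_self]))
            (by rw [← hE', adj_apply]; exact pow_ne_zero _ hEne), add_zero]

/-- An element of order `p ^ e * r` as soon as `n - 1` is not a power of `p`. -/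
theorem exists_unipotent_mul (hF : Fintype.card F = q ^ 2) (hn : 3 ≤ n) {r p e : ℕ} [Fact p.Prime]
    [CharP F p] (hpe : n ≤ p ^ e) (he1 : 1 ≤ e) (he : p ^ (e - 1) < n - 1) (hr : r.Prime)
    (hrq : r ∣ q + 1) (hrn : ¬ r ∣ n) (hrp : r ≠ p) :
    ∃ x : SU n F q, p ^ e * r ∣ orderOf ((x : SU n F q) : PU) := by
  classical
  have hp := (Fact.out : p.Prime)
  haveI : Nonempty (Fin n) := ⟨⟨0, by omega⟩⟩
  haveI : CharP Mat p := charP_of_injective_algebraMap (algebraMap F Mat).injective p
  obtain ⟨σ, hσ⟩ := exists_frobHom hF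
  obtain ⟨t, ht⟩ := exists_norm_eq hF (a := (-1 : F)) (by rw [neg_pow_q hF, one_pow])
  obtain ⟨α, hα⟩ : ∃ α : F, α ^ q ≠ α := by
    by_contra hno
    push Not at hno
    have hq := two_le_q hF
    let Pq : Polynomial F := Polynomial.X ^ q - Polynomial.X
    have hP : Pq.natDegree = q := FiniteField.X_pow_card_sub_X_natDegree_eq F (by omega)
    have hP0 : Pq ≠ 0 := fun h => by rw [h, Polynomial.natDegree_zero] at hP; omega
    have hsub : (Finset.univ : Finset F) ⊆ Pq.roots.toFinset := fun x _ => by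
      rw [Multiset.mem_toFinset, Polynomial.mem_roots hP0]
      simp [Pq, hno x]
    have h := (Finset.card_le_card hsub).trans
      ((Multiset.toFinset_card_le _).trans (Polynomial.card_roots' Pq))
    rw [Finset.card_univ, hF, hP] at h
    nlinarith
  -- `θ + θ ^ q = 1`
  obtain ⟨θ, hθ⟩ : ∃ θ : F, θ + θ ^ q = 1 := by
    have hne : α - α ^ q ≠ 0 := sub_ne_zero.2 (Ne.symm hα)
    refine ⟨α / (α - α ^ q), ?_⟩
    rw [div_pow, sub_pow_q hF, pow_q_q hF, ← neg_sub α (α ^ q), div_neg, ← sub_eq_add_neg,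
      ← sub_div, div_self hne]
  let rv : Fin n → Fin n := fun i => if h : (i : ℕ) < n - 1 then ⟨n - 2 - i, by omega⟩ else i
  have hrv : ∀ i, ((rv i : Fin n) : ℕ) = if (i : ℕ) < n - 1 then n - 2 - i else i := fun i => by
    simp only [rv]; split_ifs <;> rfl
  have hrr : ∀ i, rv (rv i) = i := fun i => by
    apply Fin.ext; rw [hrv, hrv]; split_ifs <;> omega
  let J : Mat := Matrix.of fun i j => if rv i = j then 1 else 0
  have hJM : ∀ (M : Mat) i j, (J * M) i j = M (rv i) j := fun M i j => by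
    simp [J, Matrix.mul_apply]
  have hJJ : J * J = 1 := by
    ext i j
    rw [hJM]
    simp [J, hrr, Matrix.one_apply]
  let P : Mat := Matrix.of fun l j =>
    if (j : ℕ) < rv j then (if l = j then 1 else 0) + (if l = rv j then t else 0)
    else if (rv j : ℕ) < j then (if l = rv j then 1 - θ else 0) + (if l = j then -(θ * t) else 0)
    else if l = j then 1 else 0
  have ht' : (1 : F) + t * t ^ q = 0 := by rw [← pow_succ', ht, add_neg_cancel]
  have hPP : adj q P * P = J := by
    ext i j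
    simp only [Matrix.mul_apply, adj_apply, P, Matrix.of_apply, J]
    split_ifs with h1 h2 h3 h4 h5 h6 h7 h8 h9 <;>
      simp only [add_pow_q hF, ite_pow, one_pow, zero_pow_q hF, add_mul, mul_add, ite_mul, mul_ite,
        zero_mul, mul_zero, one_mul, mul_one, Finset.sum_add_distrib, Finset.sum_ite_eq',
        Finset.mem_univ, if_true, sub_pow_q hF, neg_pow_q hF, mul_pow]
    all_goals
      have f1 : rv j = rv i ↔ j = i := ⟨fun h => by rw [← hrr j, h, hrr], fun h => h ▸ rfl⟩
      have f2 : rv j = i ↔ j = rv i := ⟨fun h => by rw [← h, hrr], fun h => by rw [h, hrr]⟩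
      have f3 : rv i = j ↔ j = rv i := eq_comm
      simp only [f1, f2, f3] at *
      rcases eq_or_ne j i with rfl | e1
      on_goal 1 => rcases eq_or_ne j (rv j) with e2 | e2
      on_goal 3 => rcases eq_or_ne j (rv i) with rfl | e2
      all_goals try (have := congrArg Fin.val e2)
      all_goals try omega
      all_goals try simp only [hrr] at *
      all_goals try simp only [if_true, if_false, ← e2, add_zero, zero_add] at *
      all_goals try simp only [e2, e2.symm, if_true, if_false, add_zero, zero_add] at *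
      all_goals try simp only [e1, e1.symm, if_true, if_false, add_zero, zero_add] at *
      all_goals first
        | omega
        | trivial
        | (have := congrArg Fin.val e2; omega)
        | linear_combination ht'
        | linear_combination (-θ) * ht'
        | linear_combination (-(θ ^ q)) * ht'
        | linear_combination (θ * θ ^ q) * ht' - hθ
  let N : Mat := shift (n - 1)
  have hN : ∀ i j : Fin n, N i j = if (i : ℕ) + 1 = j ∧ (j : ℕ) < n - 1 then 1 else 0 := fun _ _ => rfl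
  have hJN : J * N = Nᵀ * J := by
    ext i j
    rw [hJM, hN, Matrix.mul_apply, Finset.sum_eq_single (rv j)]
    · simp only [J, Matrix.of_apply, hrr, if_true, mul_one, Matrix.transpose_apply, hN, hrv]
      refine if_congr ?_ rfl rfl
      split_ifs <;> omega
    · intro l _ hl
      simp only [J, Matrix.of_apply]
      rw [if_neg, mul_zero]
      exact fun h => hl (by rw [← h, hrr])
    · exact fun h => absurd (Finset.mem_univ _) h
  have hNJ : J * Nᵀ = N * J := by
    calc J * Nᵀ = J * (Nᵀ * J) * J := by rw [Matrix.mul_assoc J _ J, Matrix.mul_assoc Nᵀ, hJJ, Matrix.mul_one]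
      _ = N * J := by rw [← hJN, ← Matrix.mul_assoc J J, hJJ, Matrix.one_mul]
  have hPinv : J * adj q P * P = 1 := by rw [Matrix.mul_assoc, hPP, hJJ]
  have hPinv' : P * (J * adj q P) = 1 := mul_eq_one_comm.1 hPinv
  let H : Mat := P * N * (J * adj q P)
  have hHpow : ∀ k, H ^ k = P * N ^ k * (J * adj q P) := by
    intro k
    induction k with
    | zero => rw [pow_zero, pow_zero, Matrix.mul_one, hPinv']
    | succ k ih =>
      rw [pow_succ, ih, pow_succ]
      simp only [H, ← Matrix.mul_assoc]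
      rw [Matrix.mul_assoc (P * N ^ k) J, Matrix.mul_assoc (P * N ^ k) _ P, hPinv, Matrix.mul_one]
  have hJadj : adj q J = J := by
    ext i j
    simp only [adj_apply, J, Matrix.of_apply, ite_pow, one_pow, zero_pow_q hF]
    refine if_congr ?_ rfl rfl
    constructor <;> intro h <;> rw [← h, hrr]
  have hNadj : adj q N = Nᵀ := by
    ext i j
    simp only [adj_apply, hN, Matrix.transpose_apply, ite_pow, one_pow, zero_pow_q hF]
  have hHadj : adj q H = H := by
    simp only [H]
    rw [adj_mul hF, adj_mul hF, adj_mul hF, adj_adj hF, hJadj, hNadj, Matrix.mul_assoc P J,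
      ← Matrix.mul_assoc J, hNJ]
    simp only [Matrix.mul_assoc]
  have hHn : H ^ p ^ e = 0 := by
    rw [hHpow, shift_pow _ _ (Nat.one_le_pow _ _ hp.pos)]
    have h0 : (Matrix.of fun i j : Fin n => if (i : ℕ) + p ^ e = j ∧ (j : ℕ) < n - 1 then (1 : F) else 0) = 0 := by
      ext i j
      simp only [Matrix.of_apply, Matrix.zero_apply]
      rw [if_neg]
      intro h; omega
    rw [h0, Matrix.mul_zero, Matrix.zero_mul]
  have hHne : H ^ p ^ (e - 1) ≠ 0 := by
    intro h
    have h1 : N ^ p ^ (e - 1) = 0 := by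
      have := congrArg (fun M => J * adj q P * M * P) h
      simp only [hHpow, Matrix.mul_zero, Matrix.zero_mul, ← Matrix.mul_assoc] at this
      rwa [hPinv, Matrix.one_mul, Matrix.mul_assoc (N ^ p ^ (e - 1)) J, Matrix.mul_assoc _ (J * adj q P),
        hPinv, Matrix.mul_one] at this
    rw [shift_pow _ _ (Nat.one_le_pow _ _ hp.pos)] at h1
    have := congrFun (congrFun h1 ⟨0, by omega⟩) ⟨p ^ (e - 1), by omega⟩
    simp [he] at this
  let E : Mat := Matrix.diagonal fun i => if (i : ℕ) = n - 1 then 1 else 0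
  have hEN : N * E = 0 ∧ E * N = 0 := by
    constructor <;> ext i j <;> simp only [E, Matrix.mul_diagonal, Matrix.diagonal_mul, hN,
      Matrix.zero_apply] <;> split_ifs <;> first | omega | simp
  have hEP : E * P = P * E := by
    ext i j
    simp only [E, Matrix.mul_diagonal, Matrix.diagonal_mul]
    by_cases h : ((i : ℕ) = n - 1) ↔ ((j : ℕ) = n - 1)
    · simp only [h]; exact mul_comm _ _
    · have hv := hrv j
      have := i.2
      have := j.2
      have h1 : i ≠ j := fun e => h (by rw [e])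
      have h2 : i ≠ rv j := fun e => h (by subst e; split_ifs at hv <;> omega)
      have hz : P i j = 0 := by simp [P, h1, h2]
      rw [hz, mul_zero, zero_mul]
  have hEJ : J * E = E * J := by
    ext i j
    simp only [E, hJM, Matrix.diagonal_mul, Matrix.diagonal_apply, J, Matrix.of_apply]
    by_cases h : rv i = j
    · subst h
      have hv := hrv i
      have := i.2
      simp only [if_true, mul_one]
      refine if_congr ?_ rfl rfl
      split_ifs at hv <;> omega
    · rw [if_neg h, if_neg h, mul_zero]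
  have hE2 : E * E = E := by
    rw [Matrix.diagonal_mul_diagonal]; congr 1; ext i; split_ifs <;> simp
  have hEadj : adj q E = E := by
    ext i j
    simp only [adj_apply, E, Matrix.diagonal_apply]
    by_cases h : i = j
    · subst h; simp [zero_pow_q hF]
    · simp [h, Ne.symm h, zero_pow_q hF]
  have hEaP : E * adj q P = adj q P * E := by
    calc E * adj q P = adj q (P * E) := by rw [adj_mul hF, hEadj]
      _ = adj q P * E := by rw [← hEP, adj_mul hF, hEadj]
  have hEH : E * H = 0 ∧ H * E = 0 := by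
    constructor
    · simp only [H]
      rw [← Matrix.mul_assoc, ← Matrix.mul_assoc E P N, hEP, Matrix.mul_assoc P E, hEN.2, Matrix.mul_zero,
        Matrix.zero_mul]
    · simp only [H]
      rw [Matrix.mul_assoc, Matrix.mul_assoc J, ← hEaP, ← Matrix.mul_assoc J, hEJ, Matrix.mul_assoc E,
        ← Matrix.mul_assoc (P * N), Matrix.mul_assoc P N E, hEN.1, Matrix.mul_zero, Matrix.zero_mul]
  have hcomm : ∀ a b : F, Commute (1 + a • H) (1 + b • H) := fun a b =>
    (Commute.one_right _).add_right (((Commute.one_left H).add_left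
      ((Commute.refl H).smul_left a)).smul_right b)
  have hfr : ∀ (a : F) i, (1 + a • H) ^ p ^ i = 1 + a ^ p ^ i • H ^ p ^ i := fun a i => by
    rw [add_pow_char_pow_of_commute _ _ (Commute.one_left _), one_pow, _root_.smul_pow]
  have hpe1 : 1 ≤ p ^ e := Nat.one_le_pow _ _ hp.pos
  set U : Mat := (1 + α • H) * (1 + α ^ q • H) ^ (p ^ e - 1) with hUdef
  have hUU : adj q U * U = 1 := by
    rw [hUdef, adj_mul hF, adj_pow hF, adj_add hF, adj_add hF, adj_one hF, adj_smul, adj_smul,
      pow_q_q hF, hHadj]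
    calc (1 + α • H) ^ (p ^ e - 1) * (1 + α ^ q • H) * ((1 + α • H) * (1 + α ^ q • H) ^ (p ^ e - 1))
        = ((1 + α • H) ^ (p ^ e - 1) * (1 + α • H)) * ((1 + α ^ q • H) * (1 + α ^ q • H) ^ (p ^ e - 1)) :=
          (hcomm (α ^ q) α).mul_mul_mul_comm _ _
      _ = 1 := by
          rw [← pow_succ, ← pow_succ', Nat.sub_add_cancel hpe1, hfr, hfr, hHn, smul_zero, smul_zero,
            add_zero, one_mul]
  have hUpe : U ^ p ^ e = 1 := by
    rw [hUdef, ((hcomm α (α ^ q)).pow_right _).mul_pow, ← pow_mul, mul_comm (p ^ e - 1), pow_mul,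
      hfr, hfr, hHn, smul_zero, smul_zero, add_zero, one_pow, one_mul]
  have hdet : U.det = 1 := by
    haveI : ExpChar F p := ExpChar.prime hp
    have h : U.det ^ p ^ e = 1 := by rw [← Matrix.det_pow, hUpe, Matrix.det_one]
    exact iterateFrobenius_inj F p e (by simpa [iterateFrobenius_def] using h)
  let u : SU n F q := mkSU U hdet ((isU_iff hF U).2 hUU)
  have humat : mat u = U := rfl
  have huo : orderOf ((u : SU n F q) : PU) = p ^ e := by
    obtain ⟨e', rfl⟩ : ∃ e', e = e' + 1 := ⟨e - 1, by omega⟩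
    refine orderOf_eq_prime_pow ?_ ?_
    · rw [← QuotientGroup.mk_pow]
      intro h
      obtain ⟨a, ha⟩ := scalar_of_central hF (by omega) h
      rw [mat_pow, humat, Matrix.scalar_apply, ← Matrix.smul_one_eq_diagonal] at ha
      rw [Nat.add_sub_cancel] at hHne
      set x := H ^ p ^ e' with hx
      have hxE : x * E = 0 := by
        rw [hx, show p ^ e' = (p ^ e' - 1) + 1 by have := Nat.one_le_pow e' p hp.pos; omega, pow_succ,
          Matrix.mul_assoc, hEH.2, Matrix.mul_zero]
      have h1 : a • (1 + α ^ q • H) ^ p ^ e' = (1 + α • H) ^ p ^ e' := by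
        have hrw : U * (1 + α ^ q • H) = 1 + α • H := by
          rw [hUdef, Matrix.mul_assoc, ← pow_succ, Nat.sub_add_cancel hpe1, hfr, hHn, smul_zero,
            add_zero, Matrix.mul_one]
        have hc : Commute U (1 + α ^ q • H) :=
          (hcomm α (α ^ q)).mul_left ((Commute.refl _).pow_left _)
        rw [← hrw, hc.mul_pow, ha, smul_mul_assoc, one_mul]
      rw [hfr, hfr, ← hx] at h1
      have h2 := congrArg (· * E) h1
      simp only [add_mul, one_mul, smul_mul_assoc, hxE, smul_zero, add_zero] at h2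
      have ha1 : a = 1 := by
        have := congrFun (congrFun h2 ⟨n - 1, by omega⟩) ⟨n - 1, by omega⟩
        simpa [E] using this
      rw [ha1, one_smul, add_right_inj] at h1
      have h3 : ((α ^ q) ^ p ^ e' - α ^ p ^ e') • x = 0 := by rw [sub_smul, h1, sub_self]
      rcases smul_eq_zero.1 h3 with h4 | h4
      · haveI : ExpChar F p := ExpChar.prime hp
        exact hα (iterateFrobenius_inj F p e' (by simpa [iterateFrobenius_def] using sub_eq_zero.1 h4))
      · exact hHne h4
    · rw [← QuotientGroup.mk_pow, show u ^ p ^ (e' + 1) = 1 from Subtype.ext (Subtype.ext (by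
        show mat (u ^ p ^ (e' + 1)) = 1
        rw [mat_pow, humat, hUpe]))]
      rfl
  obtain ⟨s, hs, hso⟩ := exists_commute_order hF (by omega) hr hrq hrn u E hE2
    (fun h => by
      have := congrFun (congrFun h ⟨n - 1, by omega⟩) ⟨n - 1, by omega⟩
      simp [E] at this)
    (fun h => by
      have := congrFun (congrFun h ⟨0, by omega⟩) ⟨0, by omega⟩
      simp [E, show (0 : ℕ) ≠ n - 1 by omega] at this)
    hEadj (by
      rw [humat, hUdef]
      have h : ∀ a : F, Commute E (1 + a • H) := fun a =>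
        (Commute.one_right E).add_right (Commute.smul_right (show Commute E H from hEH.1.trans hEH.2.symm) a)
      exact (h α).mul_right ((h _).pow_right _))
  refine ⟨u * s, ?_⟩
  rw [QuotientGroup.mk_mul,
    (show Commute ((u : SU n F q) : PU) ((s : SU n F q) : PU) from
      hs.symm.map (QuotientGroup.mk' _)).orderOf_mul_eq_mul_orderOf_of_coprime
      (by rw [huo, hso]; exact Nat.Coprime.pow_left _ ((Nat.coprime_primes (Fact.out) hr).2 (Ne.symm hrp))),
    huo, hso]

end Cfsg.Agent.SpectrumPSU61
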