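import Mathlib
import Cfsg.Agent.Lib.RegularCentralizer

/-!
Regular unipotent elements of symplectic groups in odd characteristic.
-/

set_option autoImplicit false

open Matrix

namespace Cfsg.Agent.SymplecticRegular

open Cfsg.Agent.RegularNilpotent Cfsg.Agent.RegularCentralizer

variable {F : Type*} [Field F] {m : ℕ}

/-- The adjoint with respect to the standard alternating form. -/
def adj (X : Matrix (Fin m ⊕ Fin m) (Fin m ⊕ Fin m) F) : Matrix (Fin m ⊕ Fin m) (Fin m ⊕ Fin m) F :=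
  -(Matrix.J (Fin m) F * X.transpose * Matrix.J (Fin m) F)

theorem J_mul_J_mul (Z : Matrix (Fin m ⊕ Fin m) (Fin m ⊕ Fin m) F) :
    Matrix.J (Fin m) F * (Matrix.J (Fin m) F * Z) = -Z := by
  rw [← mul_assoc, Matrix.J_squared, neg_one_mul]

theorem adj_mul (X Y : Matrix (Fin m ⊕ Fin m) (Fin m ⊕ Fin m) F) : adj (X * Y) = adj Y * adj X := by
  simp only [adj, Matrix.transpose_mul, neg_mul, mul_neg, neg_neg, mul_assoc, J_mul_J_mul]

theorem adj_adj (X : Matrix (Fin m ⊕ Fin m) (Fin m ⊕ Fin m) F) : adj (adj X) = X := by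
  simp only [adj, Matrix.transpose_neg, Matrix.transpose_mul, Matrix.J_transpose, Matrix.transpose_transpose,
    neg_mul, mul_neg, neg_neg, mul_assoc, J_mul_J_mul, Matrix.J_squared, mul_one]

theorem adj_add (X Y : Matrix (Fin m ⊕ Fin m) (Fin m ⊕ Fin m) F) : adj (X + Y) = adj X + adj Y := by
  simp only [adj, Matrix.transpose_add, mul_add, add_mul, neg_add]

theorem adj_smul (c : F) (X : Matrix (Fin m ⊕ Fin m) (Fin m ⊕ Fin m) F) : adj (c • X) = c • adj X := by
  simp only [adj, Matrix.transpose_smul, Matrix.mul_smul, Matrix.smul_mul, smul_neg]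

theorem adj_zero : adj (0 : Matrix (Fin m ⊕ Fin m) (Fin m ⊕ Fin m) F) = 0 := by
  simp [adj]

theorem adj_one : adj (1 : Matrix (Fin m ⊕ Fin m) (Fin m ⊕ Fin m) F) = 1 := by
  simp [adj, Matrix.J_squared]

theorem adj_sub (X Y : Matrix (Fin m ⊕ Fin m) (Fin m ⊕ Fin m) F) : adj (X - Y) = adj X - adj Y := by
  rw [sub_eq_add_neg, sub_eq_add_neg, adj_add, ← neg_one_smul F Y, adj_smul, neg_one_smul]

theorem mem_iff_adj (X : Matrix (Fin m ⊕ Fin m) (Fin m ⊕ Fin m) F) :
    X ∈ Matrix.symplecticGroup (Fin m) F ↔ adj X * X = 1 := by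
  rw [SymplecticGroup.mem_iff']
  constructor
  · intro h
    simp only [adj, neg_mul, mul_assoc] at *
    rw [h, Matrix.J_squared, neg_neg]
  · intro h
    have := congrArg (Matrix.J (Fin m) F * ·) h
    simp only [adj, neg_mul, mul_neg, mul_assoc, J_mul_J_mul, neg_neg, mul_one] at this ⊢
    exact this

theorem coe_inv_eq_adj (u : Matrix.symplecticGroup (Fin m) F) :
    ((u⁻¹ : Matrix.symplecticGroup (Fin m) F) : Matrix (Fin m ⊕ Fin m) (Fin m ⊕ Fin m) F) = adj u.1 := by
  rw [SymplecticGroup.coe_inv, adj, neg_mul, neg_mul]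

/-- The adjoint of an invertible matrix. -/
def adjU (g : GL (Fin m ⊕ Fin m) F) : GL (Fin m ⊕ Fin m) F where
  val := adj g.1
  inv := adj (g⁻¹).1
  val_inv := by rw [← adj_mul, Units.inv_mul, adj_one]
  inv_val := by rw [← adj_mul, Units.mul_inv, adj_one]

theorem adjU_mul (g h : GL (Fin m ⊕ Fin m) F) : adjU (g * h) = adjU h * adjU g :=
  Units.ext (adj_mul g.1 h.1)

theorem adjU_adjU (g : GL (Fin m ⊕ Fin m) F) : adjU (adjU g) = g := Units.ext (adj_adj g.1)

variable {M : Matrix (Fin m ⊕ Fin m) (Fin m ⊕ Fin m) F}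

theorem card_index : Fintype.card (Fin m ⊕ Fin m) = 2 * m := by simp [two_mul]

theorem adj_pow (hM : adj M = -M) (k : ℕ) : adj (M ^ k) = (-1 : F) ^ k • M ^ k := by
  induction k with
  | zero => simp [adj_one]
  | succ k ih =>
    rw [pow_succ, adj_mul, ih, hM, mul_smul_comm, neg_mul, ← pow_succ', ← pow_succ, smul_neg, ← neg_smul,
      pow_succ (-1 : F), mul_neg_one]

theorem adj_mpoly (hM : adj M = -M) {n : ℕ} (c : Fin n → F) :
    adj (mpoly n M c) = mpoly n M (fun i => (-1 : F) ^ (i : ℕ) * c i) := by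
  rw [mpoly_apply, mpoly_apply]
  induction (Finset.univ : Finset (Fin n)) using Finset.induction_on with
  | empty => simp [adj_zero]
  | insert a s ha ih =>
    rw [Finset.sum_insert ha, Finset.sum_insert ha, adj_add, ih, adj_smul, adj_pow hM, smul_smul, mul_comm]

theorem adjU_mem_cent (hM : adj M = -M) {g : GL (Fin m ⊕ Fin m) F} (hg : g ∈ cent M) : adjU g ∈ cent M := by
  have h := congrArg adj (mem_cent.1 hg).eq
  rw [adj_mul, adj_mul, hM, mul_neg, neg_mul, neg_inj] at h
  exact h.symm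

theorem even_card [Fintype F] (hm : 1 ≤ m) (h2 : (2 : F) ≠ 0) (hM : M ^ (2 * m) = 0) (hr : M.rank = 2 * m - 1)
    (hskew : adj M = -M) :
    Nat.card {x : cent M // adjU (x : GL (Fin m ⊕ Fin m) F) = x} = (Fintype.card F - 1) * Fintype.card F ^ (m - 1) := by
  classical
  have hpos : 0 < 2 * m := by omega
  let E := centEquiv card_index hM hr hpos
  have hev : ∀ c : {c : Fin (2 * m) → F // c ⟨0, hpos⟩ ≠ 0},
      adjU ((E c : cent M) : GL (Fin m ⊕ Fin m) F) = E c ↔ ∀ i : Fin (2 * m), Odd (i : ℕ) → c.1 i = 0 := by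
    intro c
    rw [Units.ext_iff]
    show adj (mpoly (2 * m) M c.1) = mpoly (2 * m) M c.1 ↔ _
    rw [adj_mpoly hskew, (mpoly_injective card_index hM hr).eq_iff, funext_iff]
    refine forall_congr' fun i => ?_
    rcases Nat.even_or_odd (i : ℕ) with he | ho
    · simp [he.neg_one_pow, Nat.not_odd_iff_even.2 he]
    · rw [ho.neg_one_pow]
      constructor
      · intro h _
        have h' : (2 : F) * c.1 i = 0 := by linear_combination -h
        exact (mul_eq_zero.1 h').resolve_left h2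
      · intro h
        rw [h ho, mul_zero]
  rw [← Nat.card_congr (E.subtypeEquiv (p := fun c => ∀ i : Fin (2 * m), Odd (i : ℕ) → c.1 i = 0)
    (fun c => (hev c).symm)), ← card_units_coeff (K := F) (n := m) (by omega)]
  refine Nat.card_congr ⟨fun c => ⟨fun i => c.1.1 ⟨2 * (i : ℕ), by omega⟩, c.1.2⟩,
    fun d => ⟨⟨fun i => if Even (i : ℕ) then d.1 ⟨(i : ℕ) / 2, by omega⟩ else 0, by simp; exact d.2⟩,
      fun i hi => by simp [Nat.not_even_iff_odd.2 hi]⟩, ?_, ?_⟩
  · intro c
    apply Subtype.ext; apply Subtype.ext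
    funext i
    rcases Nat.even_or_odd (i : ℕ) with he | ho
    · simp only [he, if_true]
      exact congrArg c.1.1 (Fin.ext (by obtain ⟨k, hk⟩ := he; simp; omega))
    · simp [Nat.not_even_iff_odd.2 ho, c.2 i ho]
  · intro d
    apply Subtype.ext
    funext i
    simp only [even_two_mul, if_true]
    exact congrArg d.1 (Fin.ext (by simp))

/-- Adjunction on the centraliser. -/
def adjHom (hM : M ^ (2 * m) = 0) (hr : M.rank = 2 * m - 1) (hskew : adj M = -M) : cent M →* cent M :=
  MonoidHom.mk' (fun x => ⟨adjU x.1, adjU_mem_cent hskew x.2⟩) fun x y => Subtype.ext (by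
    show adjU (x.1 * y.1) = adjU x.1 * adjU y.1
    rw [adjU_mul, cent_comm card_index hM hr (adjU_mem_cent hskew y.2) (adjU_mem_cent hskew x.2)])

theorem lead_adj (hm : 1 ≤ m) (hM : M ^ (2 * m) = 0) (hr : M.rank = 2 * m - 1) (hskew : adj M = -M)
    (χ : cent M →* Fˣ) (hχ : ∀ x : cent M, ((x : GL (Fin m ⊕ Fin m) F) : Matrix (Fin m ⊕ Fin m) (Fin m ⊕ Fin m) F) * M ^ (2 * m - 1) = (χ x : F) • M ^ (2 * m - 1))
    (x : cent M) : χ (adjHom hM hr hskew x) = χ x := by
  have hpos : 0 < 2 * m := by omega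
  obtain ⟨c, hc⟩ := eq_mpoly_of_commute card_index hM hr _ x.2
  apply Units.ext
  rw [lead_mpoly card_index hM hr hpos χ hχ x c hc,
    lead_mpoly card_index hM hr hpos χ hχ (adjHom hM hr hskew x) _ (show adj _ = _ by rw [hc, adj_mpoly hskew])]
  simp

section Finite

variable [Fintype F]

/-- Facts about the norm `x ↦ adj x * x` on the centraliser. -/
theorem norm_facts (hm : 1 ≤ m) (hodd : Odd (Fintype.card F)) (hM : M ^ (2 * m) = 0)
    (hr : M.rank = 2 * m - 1) (hskew : adj M = -M) :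
    Nat.card {x : cent M // adj ((x : GL (Fin m ⊕ Fin m) F) : Matrix (Fin m ⊕ Fin m) (Fin m ⊕ Fin m) F) * ((x : GL (Fin m ⊕ Fin m) F) : Matrix (Fin m ⊕ Fin m) (Fin m ⊕ Fin m) F) = 1}
        = 2 * Fintype.card F ^ m ∧
    ∀ (χ : cent M →* Fˣ), (∀ x : cent M, ((x : GL (Fin m ⊕ Fin m) F) : Matrix (Fin m ⊕ Fin m) (Fin m ⊕ Fin m) F) * M ^ (2 * m - 1) = (χ x : F) • M ^ (2 * m - 1)) →
      ∀ e : cent M, adjHom hM hr hskew e = e → (∃ b : Fˣ, χ e = b ^ 2) →
        ∃ x : cent M, adjHom hM hr hskew x * x = e := by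
  classical
  have h2 : (2 : F) ≠ 0 := by
    intro h
    have hc : ringChar F = 2 := by
      haveI := Fact.mk Nat.prime_two
      exact (CharP.ringChar_of_prime_eq_zero Nat.prime_two (by exact_mod_cast h))
    have := FiniteField.even_card_of_char_two hc
    rw [Nat.odd_iff] at hodd
    omega
  have hq : 1 < Fintype.card F := Fintype.one_lt_card
  have hpos : 0 < 2 * m := by omega
  let τ := adjHom hM hr hskew
  have hττ : ∀ x, τ (τ x) = x := fun x => Subtype.ext (adjU_adjU x.1)
  letI : CommGroup (cent M) :=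
    { (inferInstance : Group (cent M)) with mul_comm := fun a b => Subtype.ext (cent_comm card_index hM hr a.2 b.2) }
  obtain ⟨χ, hχ⟩ := exists_lead card_index hM hr hpos
  let Ev : Subgroup (cent M) :=
    { carrier := {x | τ x = x}
      mul_mem' := fun {a b} (ha : τ a = a) (hb : τ b = b) => show τ (a * b) = a * b by rw [map_mul, ha, hb]
      one_mem' := map_one τ
      inv_mem' := fun {a} (ha : τ a = a) => show τ a⁻¹ = a⁻¹ by rw [map_inv, ha] }
  have hEv : Nat.card Ev = (Fintype.card F - 1) * Fintype.card F ^ (m - 1) := by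
    rw [← even_card hm h2 hM hr hskew]
    exact Nat.card_congr (Equiv.subtypeEquivRight fun x => (Subtype.ext_iff (a1 := τ x) (a2 := x)))
  -- scalars
  let sc : Fˣ →* cent M := MonoidHom.mk'
    (fun a => ⟨Matrix.GeneralLinearGroup.scalar (Fin m ⊕ Fin m) a,
      (Matrix.scalar_commute (a : F) (fun r => mul_comm _ r) M).symm⟩)
    fun a b => Subtype.ext (map_mul _ a b)
  have hscval : ∀ a : Fˣ, ((sc a : GL (Fin m ⊕ Fin m) F) : Matrix (Fin m ⊕ Fin m) (Fin m ⊕ Fin m) F) = (a : F) • 1 := by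
    intro a
    rw [Matrix.smul_one_eq_diagonal]
    rfl
  have hsc : ∀ a, τ (sc a) = sc a := by
    intro a
    apply Subtype.ext; apply Units.ext
    show adj _ = _
    rw [hscval, adj_smul, adj_one]
  have hlead : ∀ a, χ (sc a) = a := by
    intro a
    apply Units.ext
    have h := hχ (sc a)
    rw [hscval, smul_mul_assoc, one_mul] at h
    refine (smul_left_injective F ?_ h).symm
    intro h0
    apply RegularNilpotent.pow_pred_ne_zero (N := Matrix.toLinAlgEquiv' M)
      (by rw [Module.finrank_pi, card_index]) (toEnd_hyps hM hr).1 (toEnd_hyps hM hr).2 hpos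
    rw [← map_pow, h0, map_zero]
  let χE : Ev →* Fˣ := χ.comp Ev.subtype
  have hK1 : Nat.card χE.ker = Fintype.card F ^ (m - 1) := by
    have h := χE.ker.card_mul_index
    rw [Subgroup.index_ker, MonoidHom.range_eq_top.2 (fun a => ⟨⟨sc a, hsc a⟩, hlead a⟩),
      Subgroup.card_top, hEv, Nat.card_units, Nat.card_eq_fintype_card (α := F), mul_comm] at h
    exact Nat.eq_of_mul_eq_mul_left (by omega) h
  have hsqrt : ∀ e : Ev, (∃ b : Fˣ, χE e = b ^ 2) → ∃ x : Ev, x ^ 2 = e := by
    rintro e ⟨b, hb⟩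
    let s : Ev := ⟨sc b, hsc b⟩
    have hk : e * (s ^ 2)⁻¹ ∈ χE.ker := by
      rw [MonoidHom.mem_ker, map_mul, map_inv, map_pow, show χE s = b from hlead b, hb, mul_inv_cancel]
    have hpow : (e * (s ^ 2)⁻¹) ^ (Fintype.card F ^ (m - 1)) = 1 := by
      have := pow_card_eq_one' (x := (⟨_, hk⟩ : χE.ker))
      rw [hK1] at this
      exact congrArg Subtype.val this
    obtain ⟨t, ht⟩ := (hodd.pow (n := m - 1))
    refine ⟨(e * (s ^ 2)⁻¹) ^ (t + 1) * s, ?_⟩
    rw [mul_pow, ← pow_mul, show (t + 1) * 2 = Fintype.card F ^ (m - 1) + 1 by omega, pow_succ, hpow, one_mul,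
      inv_mul_cancel_right]
  let Nm : cent M →* cent M := τ * MonoidHom.id _
  have hNm : ∀ x, Nm x = τ x * x := fun x => rfl
  constructor
  · have hker : Nat.card {x : cent M // adj ((x : GL (Fin m ⊕ Fin m) F) : Matrix (Fin m ⊕ Fin m) (Fin m ⊕ Fin m) F) * ((x : GL (Fin m ⊕ Fin m) F) : Matrix (Fin m ⊕ Fin m) (Fin m ⊕ Fin m) F) = 1}
        = Nat.card Nm.ker := by
      refine Nat.card_congr (Equiv.subtypeEquivRight fun x => ?_)
      rw [MonoidHom.mem_ker, hNm, Subtype.ext_iff, Units.ext_iff]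
      exact Iff.rfl
    let sq : Ev →* Ev := powMonoidHom 2
    have hrange : Nm.range = sq.range.map Ev.subtype := by
      ext z
      constructor
      · rintro ⟨x, rfl⟩
        have hfix : τ (Nm x) = Nm x := by rw [hNm, map_mul, hττ, mul_comm]
        obtain ⟨y, hy⟩ := hsqrt ⟨Nm x, hfix⟩ ⟨χ x, by
          show χ (Nm x) = _
          rw [hNm, map_mul, lead_adj hm hM hr hskew χ hχ, _root_.sq]⟩
        exact ⟨⟨Nm x, hfix⟩, ⟨y, hy⟩, rfl⟩
      · rintro ⟨_, ⟨y, rfl⟩, rfl⟩
        refine ⟨y.1, ?_⟩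
        rw [hNm, show τ y.1 = y.1 from y.2]
        show y.1 * y.1 = ((y ^ 2 : Ev) : cent M)
        rw [SubgroupClass.coe_pow, _root_.sq]
    have hsq2 : Nat.card sq.ker = 2 := by
      let neg : Ev := ⟨sc (-1), hsc _⟩
      rw [Nat.card_eq_two_iff]
      have hneg : neg ^ 2 = 1 := Subtype.ext (show sc (-1) ^ 2 = 1 by rw [← map_pow, neg_one_sq, map_one])
      refine ⟨1, ⟨neg, hneg⟩, ?_, ?_⟩
      · intro h
        have h' := congrArg (fun z : sq.ker => (χE z.1 : F)) h
        simp only [OneMemClass.coe_one, map_one, Units.val_one] at h'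
        rw [show χE neg = -1 from hlead _, Units.val_neg, Units.val_one] at h'
        exact h2 (by linear_combination h')
      · refine Set.eq_univ_of_forall fun z => ?_
        have hz : z.1 ^ 2 = 1 := z.2
        have hχz : ((χE z.1 : Fˣ) : F) ^ 2 = 1 := by rw [← Units.val_pow_eq_pow_val, ← map_pow, hz, map_one, Units.val_one]
        have hkey : ∀ w : Ev, w ^ 2 = 1 → χE w = 1 → w = 1 := by
          intro w hw hw1
          have hpw : w ^ Fintype.card F ^ (m - 1) = 1 := by
            have := pow_card_eq_one' (x := (⟨w, hw1⟩ : χE.ker))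
            rw [hK1] at this
            exact congrArg Subtype.val this
          have := pow_gcd_eq_one.2 ⟨hpw, hw⟩
          rwa [Nat.Coprime.gcd_eq_one (Nat.coprime_two_right.2 hodd.pow), pow_one] at this
        rcases sq_eq_one_iff.1 hχz with h | h
        · left
          exact Subtype.ext (hkey _ hz (Units.ext h))
        · right
          rw [Set.mem_singleton_iff]
          apply Subtype.ext
          have h1 : z.1 * neg = 1 := by
            refine hkey _ (by rw [mul_pow, hz, hneg, one_mul]) (Units.ext ?_)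
            rw [map_mul, Units.val_mul, h, show χE neg = -1 from hlead _]
            simp
          show z.1 = neg
          rw [mul_eq_one_iff_eq_inv.1 h1, inv_eq_iff_mul_eq_one, ← _root_.sq, hneg]
    have hc1 := sq.ker.card_mul_index
    have hc2 := Nm.ker.card_mul_index
    rw [Subgroup.index_ker, hsq2, hEv] at hc1
    rw [Subgroup.index_ker, hrange, Subgroup.card_map_of_injective Ev.subtype_injective,
      card_cent card_index hM hr hpos] at hc2
    rw [hker]
    have hpow : Fintype.card F ^ (2 * m - 1) = Fintype.card F ^ (m - 1) * Fintype.card F ^ m := by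
      rw [← pow_add]; congr 1; omega
    rw [hpow, ← mul_assoc, ← hc1] at hc2
    exact Nat.eq_of_mul_eq_mul_right Nat.card_pos (hc2.trans (by ring))
  · intro χ' hχ' e he ⟨b, hb⟩
    have hχeq : χ' e = χ e := by
      obtain ⟨c, hc⟩ := eq_mpoly_of_commute card_index hM hr _ e.2
      exact Units.ext ((lead_mpoly card_index hM hr hpos χ' hχ' e c hc).trans
        (lead_mpoly card_index hM hr hpos χ hχ e c hc).symm)
    obtain ⟨y, hy⟩ := hsqrt ⟨e, he⟩ ⟨b, show χ e = b ^ 2 by rw [← hχeq, hb]⟩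
    refine ⟨y.1, ?_⟩
    rw [show adjHom hM hr hskew y.1 = y.1 from y.2, ← _root_.sq]
    exact congrArg Subtype.val hy

end Finite

/-- Cayley transform of a regular unipotent symplectic matrix. -/
theorem exists_cayley (h2 : (2 : F) ≠ 0) (u : Matrix.symplecticGroup (Fin m) F)
    (hnil : ((u : Matrix (Fin m ⊕ Fin m) (Fin m ⊕ Fin m) F) - 1) ^ (2 * m) = 0)
    (hreg : ((u : Matrix (Fin m ⊕ Fin m) (Fin m ⊕ Fin m) F) - 1).rank = 2 * m - 1) :
    ∃ M, M ^ (2 * m) = 0 ∧ M.rank = 2 * m - 1 ∧ adj M = -M ∧ u.1 * (1 - M) = 1 + M ∧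
      ∀ X, Commute u.1 X ↔ Commute M X := by
  let U : Matrix (Fin m ⊕ Fin m) (Fin m ⊕ Fin m) F := u.1
  let Ui := ((u⁻¹ : Matrix.symplecticGroup (Fin m) F) : Matrix (Fin m ⊕ Fin m) (Fin m ⊕ Fin m) F)
  have hUi : U * Ui = 1 := congrArg Subtype.val (mul_inv_cancel u)
  have hiU : Ui * U = 1 := congrArg Subtype.val (inv_mul_cancel u)
  let N := U - 1
  have hV : IsUnit (U + 1) := by
    have : U + 1 = algebraMap F _ 2 + N := by
      rw [map_ofNat, show (2 : Matrix (Fin m ⊕ Fin m) (Fin m ⊕ Fin m) F) = 1 + 1 from one_add_one_eq_two.symm]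
      simp only [N]
      abel
    rw [this]
    exact IsNilpotent.isUnit_add_left_of_commute ⟨_, hnil⟩ ((Ne.isUnit h2).map _) (Algebra.commutes _ _).symm
  obtain ⟨V, hV⟩ := hV
  have hNV : Commute N (V : Matrix (Fin m ⊕ Fin m) (Fin m ⊕ Fin m) F) := by
    rw [hV]; exact ((Commute.refl U).add_right (Commute.one_right U)).sub_left (Commute.one_left _)
  obtain ⟨hMn, hMr⟩ := regular_mul_unit (V⁻¹).isUnit hNV.units_inv_right hnil hreg
  let Vi := ((V⁻¹ : (Matrix (Fin m ⊕ Fin m) (Fin m ⊕ Fin m) F)ˣ) : Matrix (Fin m ⊕ Fin m) (Fin m ⊕ Fin m) F)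
  have hViU : Commute Vi U := by
    refine Commute.units_inv_left ?_
    rw [hV]; exact (Commute.refl U).add_left (Commute.one_left U)
  have hadjN : adj N = Ui - 1 := by rw [adj_sub, adj_one, ← coe_inv_eq_adj]
  have hadjV : adj Vi = Vi * U := by
    have h1 : adj Vi * adj (V : Matrix (Fin m ⊕ Fin m) (Fin m ⊕ Fin m) F) = 1 := by rw [← adj_mul, Units.mul_inv, adj_one]
    have h2 : adj (V : Matrix (Fin m ⊕ Fin m) (Fin m ⊕ Fin m) F) = Ui * V := by
      rw [hV, adj_add, adj_one, ← coe_inv_eq_adj, mul_add, mul_one, hiU, add_comm]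
    rw [h2, ← mul_assoc] at h1
    have h3 : adj Vi * Ui = Vi := (Units.eq_inv_of_mul_eq_one_right (u := V) h1).trans rfl
    calc adj Vi = adj Vi * (Ui * U) := by rw [hiU, mul_one]
      _ = _ := by rw [← mul_assoc, h3]
  have hskew : adj (N * Vi) = -(N * Vi) := by
    rw [adj_mul, hadjN, hadjV, mul_assoc, mul_sub, hUi, mul_one, ← neg_sub, mul_neg,
      (hViU.sub_right (Commute.one_right _)).eq]
  have hcay : U * (1 - N * Vi) = 1 + N * Vi := by
    apply V.isUnit.mul_right_cancel
    rw [mul_assoc, sub_mul, add_mul, one_mul, mul_assoc, Units.inv_mul, mul_one, hV]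
    simp only [N]
    noncomm_ring
  refine ⟨N * Vi, hMn, hMr, hskew, hcay, fun X => ⟨fun h => ?_, fun h => ?_⟩⟩
  · refine (h.sub_left (Commute.one_left X)).mul_left (Commute.units_inv_left ?_)
    rw [hV]; exact h.add_left (Commute.one_left X)
  · obtain ⟨c, rfl⟩ := eq_mpoly_of_commute card_index hMn hMr X h
    rw [mpoly_apply]
    refine Commute.sum_right _ _ _ fun (i : Fin (2 * m)) _ => ((?_ : Commute U (N * Vi)).pow_right (i : ℕ)).smul_right (c i)
    exact ((Commute.refl U).sub_right (Commute.one_right U)).mul_right hViU.symm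

/-- The standard regular nilpotent element of the symplectic Lie algebra. -/
def stdM (F : Type*) [Field F] (m : ℕ) : Matrix (Fin m ⊕ Fin m) (Fin m ⊕ Fin m) F :=
  Matrix.fromBlocks (Matrix.of fun i j : Fin m => if (j : ℕ) = i + 1 then 1 else 0)
    (Matrix.of fun i j : Fin m => if (i : ℕ) + 1 = m ∧ (j : ℕ) + 1 = m then 1 else 0) 0
    (-(Matrix.of fun i j : Fin m => if (i : ℕ) = j + 1 then 1 else 0))

theorem stdM_skew : adj (stdM F m) = -stdM F m := by
  simp only [stdM, adj, Matrix.J, Matrix.fromBlocks_transpose, Matrix.fromBlocks_multiply, Matrix.fromBlocks_neg,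
    Matrix.transpose_zero, Matrix.transpose_neg, mul_zero, zero_mul, Matrix.mul_zero, Matrix.zero_mul, add_zero,
    zero_add, Matrix.neg_mul, Matrix.mul_neg, Matrix.one_mul, Matrix.mul_one, neg_neg, neg_zero, Matrix.fromBlocks_inj]
  refine ⟨?_, ?_, trivial, ?_⟩
  all_goals first
    | rfl
    | (ext i j; simp [and_comm])

theorem stdM_regular : stdM F m ^ (2 * m) = 0 ∧ (stdM F m).rank = 2 * m - 1 := by
  let f : Fin m ⊕ Fin m ≃ Fin (2 * m) :=
    { toFun := Sum.elim (fun i => ⟨i, by omega⟩) (fun i => ⟨2 * m - 1 - i, by omega⟩)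
      invFun := fun x => if h : (x : ℕ) < m then .inl ⟨x, h⟩ else .inr ⟨2 * m - 1 - x, by omega⟩
      left_inv := by
        rintro (i | i)
        · simp
        · have : ¬ 2 * m - 1 - (i : ℕ) < m := by omega
          simp [this]
          exact Fin.ext (by simp; omega)
      right_inv := fun x => by
        apply Fin.ext
        by_cases h : (x : ℕ) < m <;> simp [h]
        omega }
  refine regular_of_order f _ ?_ ?_
  all_goals
    rintro (i | i) (j | j) h
    all_goals simp [f, stdM, Matrix.fromBlocks, neg_eq_zero] at h ⊢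
    all_goals omega

/-- The diagonal similitude with multiplier `a`. -/
def simil (m : ℕ) (a : Fˣ) : GL (Fin m ⊕ Fin m) F where
  val := Matrix.fromBlocks ((a : F) • 1) 0 0 1
  inv := Matrix.fromBlocks (((a⁻¹ : Fˣ) : F) • 1) 0 0 1
  val_inv := by simp [Matrix.fromBlocks_multiply, smul_smul, Matrix.fromBlocks_one]
  inv_val := by simp [Matrix.fromBlocks_multiply, smul_smul, Matrix.fromBlocks_one]

theorem adj_simil_mul (a : Fˣ) :
    adj (simil m a).1 * (simil m a).1 = (a : F) • (1 : Matrix (Fin m ⊕ Fin m) (Fin m ⊕ Fin m) F) := by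
  show adj (Matrix.fromBlocks ((a : F) • (1 : Matrix (Fin m) (Fin m) F)) 0 0 1) * Matrix.fromBlocks ((a : F) • (1 : Matrix (Fin m) (Fin m) F)) 0 0 1 = _
  rw [← Matrix.fromBlocks_one, Matrix.fromBlocks_smul]
  simp only [adj, Matrix.J, Matrix.fromBlocks_transpose, Matrix.fromBlocks_multiply, Matrix.fromBlocks_neg]
  simp [Matrix.fromBlocks_multiply]

end Cfsg.Agent.SymplecticRegular
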