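import Cfsg.Prelude.Def_Classical
import Cfsg.Agent.Lib.SymplecticRegular
import Cfsg.Agent.Lib.SymplecticSimple
import Cfsg.Agent.Lib.SymplecticDecomp
import Cfsg.Agent.Lib.RegularNilpotent

/-!
Element orders in `PSp(2n, q)`, `q` odd: the dichotomy for the semisimple part, tori and unipotents.
-/

set_option autoImplicit false
set_option linter.style.haveILetI false
set_option linter.unusedSectionVars false

namespace Cfsg.Agent.SpectrumPSp61

open Matrix Cfsg Cfsg.Agent.SymplecticRegular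

/-- Half the order of a maximal torus element: `(q ^ d ± 1) / 2`. -/
def halfTorus (b : Bool) (q d : ℕ) : ℕ := if b then (q ^ d + 1) / 2 else (q ^ d - 1) / 2

theorem two_mul_halfTorus (b : Bool) {q d : ℕ} (hq : Odd q) :
    2 * halfTorus b q d = if b then q ^ d + 1 else q ^ d - 1 := by
  have h : q ^ d % 2 = 1 := Nat.odd_iff.1 hq.pow
  cases b <;> simp only [halfTorus, Bool.false_eq_true, if_true, if_false] <;> omega

variable {F : Type*} [Field F] [Fintype F] {n : ℕ}

local notation "Mat" => Matrix (Fin n ⊕ Fin n) (Fin n ⊕ Fin n) F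
local notation "Sp'" => Matrix.symplecticGroup (Fin n) F

theorem two_ne_zero' (hodd : Odd (Fintype.card F)) : (2 : F) ≠ 0 :=
  Ring.two_ne_zero fun h => by
    have := FiniteField.even_card_of_char_two h
    rw [Nat.odd_iff] at hodd
    omega

theorem central_of_scalar {g : Sp'} {a : F} (h : (g : Mat) = a • (1 : Mat)) :
    ((g : Sp') : PSp n F) = 1 := by
  rw [QuotientGroup.eq_one_iff]
  refine SymplecticSimple.mem_center_of_scalar (a := a) fun v => ?_
  rw [SymplecticBasic.smul_def, h, Matrix.smul_mulVec, Matrix.one_mulVec]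

theorem scalar_of_central (hn : 1 ≤ n) {g : Sp'} (h : ((g : Sp') : PSp n F) = 1) :
    ∃ a : F, a * a = 1 ∧ (g : Mat) = a • (1 : Mat) := by
  rw [QuotientGroup.eq_one_iff] at h
  obtain ⟨a, ha2, ha⟩ := (SymplecticSimple.mem_center_iff hn).1 h
  refine ⟨a, by rw [← sq, ha2], Matrix.mulVec_injective (funext fun v => ?_)⟩
  rw [Matrix.smul_mulVec, Matrix.one_mulVec, ← ha v, SymplecticBasic.smul_def]

theorem adj_coe_mul (g : Sp') : adj (g : Mat) * (g : Mat) = 1 := (mem_iff_adj _).1 g.2

theorem exists_factor (E : Mat) (hE : E * E = E) :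
    ∃ (k : ℕ) (P : Matrix (Fin n ⊕ Fin n) (Fin k) F) (Q : Matrix (Fin k) (Fin n ⊕ Fin n) F),
      Q * P = 1 ∧ P * Q = E := by
  classical
  let f := Matrix.toLin' E
  let b := Module.finBasis F (LinearMap.range f)
  let Pl : (Fin (Module.finrank F (LinearMap.range f)) → F) →ₗ[F] (Fin n ⊕ Fin n → F) :=
    (LinearMap.range f).subtype ∘ₗ b.equivFun.symm.toLinearMap
  let Ql : (Fin n ⊕ Fin n → F) →ₗ[F] (Fin (Module.finrank F (LinearMap.range f)) → F) :=
    b.equivFun.toLinearMap ∘ₗ f.rangeRestrict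
  refine ⟨_, LinearMap.toMatrix' Pl, LinearMap.toMatrix' Ql, ?_, ?_⟩
  · rw [← LinearMap.toMatrix'_comp, ← LinearMap.toMatrix'_id]
    congr 1
    refine LinearMap.ext fun x => ?_
    have h : f.rangeRestrict (b.equivFun.symm x : Fin n ⊕ Fin n → F) = b.equivFun.symm x := by
      obtain ⟨y, hy⟩ := (b.equivFun.symm x).2
      apply Subtype.ext
      rw [LinearMap.codRestrict_apply, ← hy]
      show Matrix.toLin' E (Matrix.toLin' E y) = Matrix.toLin' E y
      rw [← LinearMap.comp_apply, ← Matrix.toLin'_mul, hE]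
    show b.equivFun (f.rangeRestrict (b.equivFun.symm x : Fin n ⊕ Fin n → F)) = x
    rw [h, LinearEquiv.apply_symm_apply]
  · rw [← LinearMap.toMatrix'_comp]
    apply Matrix.toLin'.injective
    rw [Matrix.toLin'_toMatrix']
    refine LinearMap.ext fun x => ?_
    show ((b.equivFun.symm (b.equivFun (f.rangeRestrict x)) : LinearMap.range f) :
      Fin n ⊕ Fin n → F) = _
    rw [LinearEquiv.symm_apply_apply]
    rfl

theorem pow_eq_zero_of_isNilpotent {K V : Type*} [Field K] [AddCommGroup V] [Module K V]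
    [FiniteDimensional K V] (f : Module.End K V) (hf : IsNilpotent f) :
    f ^ Module.finrank K V = 0 := by
  have h4 := (LinearMap.charpoly_nilpotent_tfae f).out 0 1
  have h6 := LinearMap.aeval_self_charpoly f
  rwa [h4.1 hf, map_pow, Polynomial.aeval_X] at h6

/-- The semisimple algebra of an element. -/
theorem exists_algebra {p e : ℕ} [Fact p.Prime] [CharP F p] (hpe : 2 * n ≤ p ^ e) (hn : 1 ≤ n)
    (g : Sp') :
    ∃ S : Subalgebra F Mat, (g : Mat) ^ p ^ e ∈ S ∧ (∀ x ∈ S, ∀ y ∈ S, Commute x y) ∧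
      (∀ z ∈ S, Commute z (g : Mat)) ∧ (∀ z ∈ S, adj z ∈ S) ∧
      ∀ z ∈ S, ∃ N : ℕ, 1 ≤ N ∧ z ^ (N + 1) = z := by
  classical
  haveI : Nonempty (Fin n) := ⟨⟨0, hn⟩⟩
  haveI : CharP Mat p := charP_of_injective_algebraMap (algebraMap F Mat).injective p
  let R := Algebra.adjoin F {(g : Mat)}
  have hRc : ∀ x ∈ R, ∀ y ∈ R, Commute x y := by
    intro x hx y hy
    exact congrArg Subtype.val ((IsMulCommutative.is_comm).comm (⟨x, hx⟩ : R) ⟨y, hy⟩)
  have hgR : (g : Mat) ∈ R := Algebra.self_mem_adjoin_singleton F _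
  have hadjg : adj (g : Mat) ∈ R := by
    obtain ⟨k, hk⟩ : ∃ k : ℕ, g⁻¹ = g ^ k :=
      ⟨orderOf g - 1, (eq_inv_of_mul_eq_one_left (by
        rw [← pow_succ, Nat.sub_add_cancel (orderOf_pos g), pow_orderOf_eq_one])).symm⟩
    rw [← coe_inv_eq_adj, hk, SubmonoidClass.coe_pow]
    exact R.pow_mem hgR k
  have hpowadj : ∀ (y : Mat) (k : ℕ), adj (y ^ k) = adj y ^ k := fun y k => by
    induction k with
    | zero => simp [adj_one]
    | succ k ih => rw [pow_succ, adj_mul, ih, ← pow_succ']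
  have hRadj : ∀ y ∈ R, adj y ∈ R := by
    intro y hy
    induction hy using Algebra.adjoin_induction with
    | mem x hx => rw [Set.mem_singleton_iff.1 hx]; exact hadjg
    | algebraMap c =>
      rw [Algebra.algebraMap_eq_smul_one, adj_smul, adj_one]
      exact R.smul_mem R.one_mem _
    | add x y _ _ hx hy => rw [adj_add]; exact R.add_mem hx hy
    | mul x y _ _ hx hy => rw [adj_mul]; exact R.mul_mem hy hx
  let S : Subalgebra F Mat :=
    { carrier := {z | ∃ y ∈ R, y ^ p ^ e = z}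
      mul_mem' := by
        rintro _ _ ⟨a, ha, rfl⟩ ⟨b, hb, rfl⟩
        exact ⟨a * b, R.mul_mem ha hb, (hRc a ha b hb).mul_pow _⟩
      one_mem' := ⟨1, R.one_mem, one_pow _⟩
      add_mem' := by
        rintro _ _ ⟨a, ha, rfl⟩ ⟨b, hb, rfl⟩
        exact ⟨a + b, R.add_mem ha hb, add_pow_char_pow_of_commute _ _ (hRc a ha b hb)⟩
      zero_mem' := ⟨0, R.zero_mem, zero_pow (pow_ne_zero _ (Fact.out : p.Prime).ne_zero)⟩
      algebraMap_mem' := fun c => by
        obtain ⟨c', hc'⟩ := (bijective_frobenius F p).surjective.iterate e c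
        refine ⟨algebraMap F Mat c', R.algebraMap_mem c', ?_⟩
        rw [← map_pow, ← iterate_frobenius, hc'] }
  refine ⟨S, ⟨_, hgR, rfl⟩, ?_, ?_, ?_, ?_⟩
  · rintro _ ⟨a, ha, rfl⟩ _ ⟨b, hb, rfl⟩
    exact (hRc a ha b hb).pow_pow _ _
  · rintro _ ⟨y, hy, rfl⟩
    exact (hRc y hy _ hgR).pow_left _
  · rintro _ ⟨y, hy, rfl⟩
    exact ⟨adj y, hRadj y hy, (hpowadj y _).symm⟩
  intro z hz
  obtain ⟨i, j, hij, hzij⟩ : ∃ i j : ℕ, i < j ∧ z ^ i = z ^ j := by
    obtain ⟨i, j, hne, h⟩ := Finite.exists_ne_map_eq_of_infinite (fun k : ℕ => z ^ k)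
    rcases lt_or_gt_of_ne hne with hl | hl
    · exact ⟨i, j, hl, h⟩
    · exact ⟨j, i, hl, h.symm⟩
  set d := j - i
  have hper : ∀ k, i ≤ k → ∀ t, z ^ (k + t * d) = z ^ k := by
    intro k hk t
    induction t with
    | zero => simp
    | succ t ih =>
      rw [show k + (t + 1) * d = (k + t * d - i) + j by
        rw [Nat.succ_mul]; omega, pow_add, ← hzij, ← pow_add,
        show k + t * d - i + i = k + t * d by omega, ih]
  set N := (i + 1) * d with hN
  have hN1 : i + 1 ≤ N := Nat.le_mul_of_pos_right _ (by omega)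
  refine ⟨N, by omega, ?_⟩
  obtain ⟨y, hy, hyz⟩ : z ^ (N + 1) - z ∈ S := S.sub_mem (S.pow_mem hz _) hz
  have hnil : (z ^ (N + 1) - z) ^ (i + 1) = 0 := by
    have hfac : z ^ (N + 1) - z = z * (z ^ N - 1) := by rw [mul_sub, mul_one, pow_succ']
    have hcm : Commute z (z ^ N - 1) := (Commute.self_pow z N).sub_right (Commute.one_right z)
    rw [hfac, hcm.mul_pow, pow_succ' (z ^ N - 1), ← mul_assoc, mul_sub, mul_one, ← pow_add,
      show i + 1 + N = i + 1 + (i + 1) * d from rfl, hper _ (by omega), sub_self, zero_mul]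
  have h1 : IsNilpotent y := ⟨p ^ e * (i + 1), by rw [pow_mul, hyz, hnil]⟩
  have h2 : y ^ (2 * n) = 0 := by
    have h3 := pow_eq_zero_of_isNilpotent _ (h1.map (Matrix.toLinAlgEquiv' (R := F) (n := Fin n ⊕ Fin n)))
    rw [Module.finrank_pi, Fintype.card_sum, Fintype.card_fin, ← two_mul, ← map_pow] at h3
    exact (map_eq_zero_iff _ Matrix.toLinAlgEquiv'.injective).1 h3
  rw [← sub_eq_zero, ← hyz]
  exact pow_eq_zero_of_le hpe h2

theorem corner_inverse (S : Subalgebra F Mat) (hSc : ∀ x ∈ S, ∀ y ∈ S, Commute x y)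
    (hper : ∀ z ∈ S, ∃ N : ℕ, 1 ≤ N ∧ z ^ (N + 1) = z) {E : Mat} (hES : E ∈ S) (hE : E * E = E)
    (hprim : ∀ G ∈ S, G * G = G → G * E = G → G = 0 ∨ G = E) {z : Mat} (hz : z ∈ S)
    (hne : z * E ≠ 0) : ∃ z' ∈ S, z' * z * E = E := by
  obtain ⟨N, hN, hzN⟩ := hper z hz
  have hcE : Commute (z ^ N) E := hSc _ (S.pow_mem hz N) _ hES
  have hid : z ^ N * z ^ N = z ^ N := by
    rw [← pow_add, show N + N = (N + 1) + (N - 1) by omega, pow_add, hzN, ← pow_succ',
      Nat.sub_add_cancel hN]
  rcases hprim (z ^ N * E) (S.mul_mem (S.pow_mem hz N) hES)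
      (by rw [Matrix.mul_assoc, ← Matrix.mul_assoc E, ← hcE.eq, Matrix.mul_assoc _ E E, hE,
        ← Matrix.mul_assoc, hid])
      (by rw [Matrix.mul_assoc, hE]) with h | h
  · exfalso
    apply hne
    rw [← hzN, pow_succ', Matrix.mul_assoc, h, Matrix.mul_zero]
  · refine ⟨z ^ (N - 1), S.pow_mem hz _, ?_⟩
    rw [← pow_succ, Nat.sub_add_cancel hN, h]

/-- Nilpotent endomorphisms commuting with a subfield. -/
theorem field_nilp {K : Type*} [Field K] [Algebra F K] [Finite K] {V : Type*} [AddCommGroup V]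
    [Module F V] [FiniteDimensional F V] [Nontrivial V] (Φ : K →ₐ[F] Module.End F V) :
    ∃ j : ℕ, 1 ≤ j ∧ Module.finrank F K * j = Module.finrank F V ∧
      ∀ f : Module.End F V, (∀ x, Commute f (Φ x)) → IsNilpotent f → f ^ j = 0 := by
  letI : Module K V := Module.compHom V Φ.toRingHom
  haveI : IsScalarTower F K V := ⟨fun c z v => by
    show Φ (c • z) v = c • Φ z v
    rw [map_smul]; rfl⟩
  haveI : FiniteDimensional K V := Module.Finite.of_restrictScalars_finite F K V
  refine ⟨Module.finrank K V, Module.finrank_pos, Module.finrank_mul_finrank F K V,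
    fun f hf hnil => ?_⟩
  let g : Module.End K V :=
    { toFun := f
      map_add' := f.map_add
      map_smul' := fun c v => LinearMap.congr_fun (hf c).eq v }
  have hgf : ∀ (i : ℕ) v, (g ^ i) v = (f ^ i) v := by
    intro i
    induction i with
    | zero => intro v; rfl
    | succ i ih =>
      intro v
      rw [pow_succ, pow_succ, Module.End.mul_apply, Module.End.mul_apply, ih]
      rfl
  have hg : IsNilpotent g := by
    obtain ⟨i, hi⟩ := hnil
    exact ⟨i, LinearMap.ext fun v => by rw [hgf, hi]; rfl⟩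
  exact LinearMap.ext fun v => by rw [← hgf, pow_eq_zero_of_isNilpotent g hg]; rfl

/-- All that is needed about the field cut out by a primitive idempotent. -/
theorem corner (S : Subalgebra F Mat) (hSc : ∀ x ∈ S, ∀ y ∈ S, Commute x y)
    (hper : ∀ z ∈ S, ∃ N : ℕ, 1 ≤ N ∧ z ^ (N + 1) = z) (hadjS : ∀ z ∈ S, adj z ∈ S)
    {E : Mat} (hES : E ∈ S) (hE : E * E = E) (h0 : E ≠ 0)
    (hprim : ∀ G ∈ S, G * G = G → G * E = G → G = 0 ∨ G = E) :
    ∃ d j k : ℕ, 1 ≤ d ∧ 1 ≤ j ∧ d * j = k ∧
      (∃ (P : Matrix (Fin n ⊕ Fin n) (Fin k) F) (Q : Matrix (Fin k) (Fin n ⊕ Fin n) F),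
        Q * P = 1 ∧ P * Q = E) ∧
      (∀ x ∈ S, x * E ≠ 0 → x ^ (Fintype.card F ^ d - 1) * E = E) ∧
      (∀ y : Mat, (∀ z ∈ S, Commute y z) → IsNilpotent (y * E) → ∀ N, j ≤ N → y ^ N * E = 0) ∧
      (adj E = E → (∀ x ∈ S, adj x * E = x * E) ∨
        ∃ d', d = 2 * d' ∧ ∀ x ∈ S, adj x * E = x ^ Fintype.card F ^ d' * E) := by
  classical
  obtain ⟨k, P, Q, hQP, hPQ⟩ := exists_factor E hE
  have hk : 0 < k := by
    rcases Nat.eq_zero_or_pos k with rfl | h
    · exfalso; apply h0; rw [← hPQ]; ext i j; simp [Matrix.mul_apply]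
    · exact h
  haveI : Nonempty (Fin k) := ⟨⟨0, hk⟩⟩
  have hEP : E * P = P := by rw [← hPQ, Matrix.mul_assoc, hQP, Matrix.mul_one]
  have hQE : Q * E = Q := by rw [← hPQ, ← Matrix.mul_assoc, hQP, Matrix.one_mul]
  have hmul : ∀ x y : Mat, Commute x E → Q * x * P * (Q * y * P) = Q * (x * y) * P := fun x y hc => by
    rw [show Q * x * P * (Q * y * P) = Q * (x * (P * Q)) * y * P by simp only [Matrix.mul_assoc],
      hPQ, hc.eq, ← Matrix.mul_assoc Q E, hQE]
    simp only [Matrix.mul_assoc]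
  let π : S →ₐ[F] Matrix (Fin k) (Fin k) F := AlgHom.ofLinearMap
    { toFun := fun x => Q * (x : Mat) * P
      map_add' := fun x y => by simp [Matrix.mul_add, Matrix.add_mul]
      map_smul' := fun c x => by simp }
    (by simp [hQP])
    (fun x y => (hmul _ _ (hSc _ x.2 _ hES)).symm)
  have hπ : ∀ x : S, π x = Q * (x : Mat) * P := fun _ => rfl
  have hlift : ∀ x : S, P * π x * Q = (x : Mat) * E := fun x => by
    rw [hπ, show P * (Q * (x : Mat) * P) * Q = (P * Q) * (x : Mat) * (P * Q) by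
      simp only [Matrix.mul_assoc], hPQ, (hSc _ hES _ x.2).eq, Matrix.mul_assoc, hE]
  let K := π.range
  let ρ : S →ₐ[F] K := π.rangeRestrict
  have hρs : Function.Surjective ρ := π.rangeRestrict_surjective
  have hρ : ∀ x : S, ((ρ x : K) : Matrix (Fin k) (Fin k) F) = π x := fun _ => rfl
  have hρe : ∀ x y : S, ρ x = ρ y ↔ (x : Mat) * E = (y : Mat) * E := by
    intro x y
    rw [Subtype.ext_iff, hρ, hρ]
    constructor
    · intro h; rw [← hlift, h, hlift]
    · intro h
      rw [hπ, hπ, ← hEP, Matrix.mul_assoc Q, ← Matrix.mul_assoc _ E, h]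
      simp only [Matrix.mul_assoc]
  have hρ1 : ∀ x : S, ρ x = 1 ↔ (x : Mat) * E = E := fun x => by
    rw [← map_one ρ, hρe]; simp
  have hρ0 : ∀ x : S, ρ x = 0 ↔ (x : Mat) * E = 0 := fun x => by
    rw [← map_zero ρ, hρe]; simp
  have hfield : IsField K :=
    { exists_pair_ne := ⟨0, 1, fun h => zero_ne_one (α := Matrix (Fin k) (Fin k) F) (congrArg Subtype.val h)⟩
      mul_comm := fun a b => by
        obtain ⟨x, rfl⟩ := hρs a
        obtain ⟨y, rfl⟩ := hρs b
        rw [← map_mul, ← map_mul, show x * y = y * x from Subtype.ext (hSc _ x.2 _ y.2).eq]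
      mul_inv_cancel := fun {a} ha => by
        obtain ⟨x, rfl⟩ := hρs a
        obtain ⟨z, hz, hzx⟩ := corner_inverse S hSc hper hES hE hprim x.2
          (fun h => ha ((hρ0 x).2 h))
        refine ⟨ρ ⟨z, hz⟩, ?_⟩
        rw [← map_mul, hρ1]
        show (x : Mat) * z * E = E
        rw [(hSc _ x.2 _ hz).eq, hzx] }
  letI : Field K := hfield.toField
  letI : Nontrivial K := hfield.nontrivial
  haveI : FiniteDimensional F K := inferInstance
  obtain ⟨j, hj1, hdj, hnilj⟩ := field_nilp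
    ((Matrix.toLinAlgEquiv' : Matrix (Fin k) (Fin k) F ≃ₐ[F] _).toAlgHom.comp K.val)
  rw [Module.finrank_fin_fun] at hdj
  set d := Module.finrank F K with hd
  have hd1 : 1 ≤ d := Module.finrank_pos
  haveI := Fintype.ofFinite K
  have hcard : Fintype.card K = Fintype.card F ^ d := by
    rw [← Nat.card_eq_fintype_card, Module.natCard_eq_pow_finrank (K := F), Nat.card_eq_fintype_card]
  refine ⟨d, j, k, hd1, hj1, hdj, ⟨P, Q, hQP, hPQ⟩, ?_, ?_, ?_⟩
  · intro x hx hne
    have h : ρ ⟨x, hx⟩ ^ (Fintype.card F ^ d - 1) = 1 := by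
      rw [← hcard]
      exact FiniteField.pow_card_sub_one_eq_one _ fun h => hne ((hρ0 _).1 h)
    rwa [← map_pow, hρ1, SubmonoidClass.coe_pow] at h
  · intro y hy hnil N hN
    have hyE : Commute y E := hy E hES
    have hQy : ∀ i : ℕ, (Q * y * P) ^ i = Q * y ^ i * P := by
      intro i
      induction i with
      | zero => simp [hQP]
      | succ i ih => rw [pow_succ, ih, hmul _ _ (hyE.pow_left i), ← pow_succ]
    have hcomm : ∀ t : K, Commute (Q * y * P) (t : Matrix (Fin k) (Fin k) F) := fun t => by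
      obtain ⟨x, rfl⟩ := hρs t
      show Q * y * P * π x = π x * (Q * y * P)
      rw [hπ, hmul _ _ hyE, hmul _ _ (hSc _ x.2 _ hES), (hy _ x.2).eq]
    have hfn : IsNilpotent (Q * y * P) := by
      obtain ⟨i, hi⟩ := hnil
      refine ⟨i + 1, ?_⟩
      rw [hQy, show Q * y ^ (i + 1) * P = Q * (y ^ (i + 1) * E) * P by
        rw [Matrix.mul_assoc Q (y ^ (i + 1) * E) P, Matrix.mul_assoc (y ^ (i + 1)) E P, hEP,
          Matrix.mul_assoc]]
      have h : y ^ (i + 1) * E = 0 := by
        have h2 := hyE.mul_pow (i + 1)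
        rw [(show IsIdempotentElem E from hE).pow_succ_eq, pow_succ (y * E), hi, Matrix.zero_mul] at h2
        exact h2.symm
      rw [h, Matrix.mul_zero, Matrix.zero_mul]
    have hz : (Q * y * P) ^ j = 0 := by
      have h := hnilj (Matrix.toLinAlgEquiv' (Q * y * P))
        (fun t => (hcomm t).map Matrix.toLinAlgEquiv') (hfn.map Matrix.toLinAlgEquiv')
      rw [← map_pow] at h
      exact (map_eq_zero_iff _ Matrix.toLinAlgEquiv'.injective).1 h
    have hQ : Q * y ^ N * P = 0 := by rw [← hQy]; exact pow_eq_zero_of_le hN hz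
    calc y ^ N * E = E * (y ^ N * E) := by
          rw [← Matrix.mul_assoc, ← (hyE.pow_left N).eq, Matrix.mul_assoc, hE]
      _ = P * (Q * y ^ N * P) * Q := by
          rw [← hPQ]; simp only [Matrix.mul_assoc]
      _ = 0 := by rw [hQ, Matrix.mul_zero, Matrix.zero_mul]
  · intro hadj
    have hcE : ∀ x ∈ S, adj (x * E) = adj x * E := fun x hx => by
      rw [adj_mul, hadj, (hSc _ hES _ (hadjS x hx)).eq]
    have hwd : ∀ x y : S, ρ x = ρ y → ρ ⟨adj x, hadjS _ x.2⟩ = ρ ⟨adj y, hadjS _ y.2⟩ := by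
      intro x y h
      rw [hρe] at h ⊢
      rw [← hcE _ x.2, ← hcE _ y.2, h]
    let s := Function.surjInv hρs
    have hs : ∀ t, ρ (s t) = t := Function.surjInv_eq hρs
    let φ₀ : K → K := fun t => ρ ⟨adj (s t : Mat), hadjS _ (s t).2⟩
    have hφρ : ∀ x : S, φ₀ (ρ x) = ρ ⟨adj x, hadjS _ x.2⟩ := fun x => hwd _ _ (hs _)
    let φ : K →ₐ[F] K :=
      { toFun := φ₀
        map_one' := by
          rw [← map_one ρ, hφρ]
          exact congrArg ρ (Subtype.ext adj_one)
        map_mul' := fun a b => by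
          rw [← hs a, ← hs b, ← map_mul, hφρ, hφρ, hφρ, ← map_mul]
          refine congrArg ρ (Subtype.ext ?_)
          show adj ((s a : Mat) * (s b : Mat)) = adj (s a : Mat) * adj (s b : Mat)
          rw [adj_mul]
          exact (hSc _ (hadjS _ (s b).2) _ (hadjS _ (s a).2)).eq
        map_zero' := by
          rw [← map_zero ρ, hφρ]
          exact congrArg ρ (Subtype.ext adj_zero)
        map_add' := fun a b => by
          rw [← hs a, ← hs b, ← map_add, hφρ, hφρ, hφρ, ← map_add]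
          exact congrArg ρ (Subtype.ext (adj_add _ _))
        commutes' := fun a => by
          show φ₀ _ = _
          rw [← AlgHom.commutes ρ, hφρ]
          refine congrArg ρ (Subtype.ext ?_)
          simp [Algebra.algebraMap_eq_smul_one, adj_smul, adj_one] }
    obtain ⟨⟨t, ht⟩, htφ⟩ := (FiniteField.bijective_frobeniusAlgHom_pow F K).2 φ
    have hφx : ∀ c, φ c = c ^ Fintype.card F ^ t := fun c => by
      rw [← htφ]
      simp [AlgHom.coe_pow, FiniteField.coe_frobeniusAlgHom, pow_iterate]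
    have hmain : ∀ x : S, adj (x : Mat) * E = (x : Mat) ^ Fintype.card F ^ t * E := fun x => by
      have h := hφx (ρ x)
      rw [show φ (ρ x) = _ from hφρ x, ← map_pow, hρe, SubmonoidClass.coe_pow] at h
      exact h
    have hd2 : d ∣ 2 * t := by
      rw [hd, ← FiniteField.orderOf_frobeniusAlgHom F K]
      refine orderOf_dvd_of_pow_eq_one ?_
      rw [two_mul, pow_add, show FiniteField.frobeniusAlgHom F K ^ t = φ from htφ]
      refine AlgHom.ext fun c => ?_
      obtain ⟨x, rfl⟩ := hρs c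
      exact (congrArg φ₀ (hφρ x)).trans ((hφρ _).trans (congrArg ρ (Subtype.ext (adj_adj _))))
    rcases Nat.eq_zero_or_pos t with rfl | ht0
    · exact Or.inl fun x hx => by simpa using hmain ⟨x, hx⟩
    · refine Or.inr ⟨t, ?_, fun x hx => hmain ⟨x, hx⟩⟩
      obtain ⟨c, hc⟩ := hd2
      rcases c with _ | _ | c
      · omega
      · omega
      · rw [mul_add, mul_add] at hc; omega

theorem eq_of_mul_idem {E : Mat} {y : Mat} (hsum : adj E + E = 1) (hEy : Commute y E)
    (hy : adj y * y = 1) {ε : F} (hε : ε * ε = 1) (h : y * E = ε • E) : y = ε • (1 : Mat) := by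
  have hE' : adj E = 1 - E := eq_sub_of_add_eq hsum
  have hF : (1 - E) * adj y = ε • (1 - E) := by rw [← hE', ← adj_mul, h, adj_smul]
  have hF1 : ε • ((1 - E) * y) = 1 - E := by
    rw [← smul_mul_assoc, ← hF, Matrix.mul_assoc, hy, Matrix.mul_one]
  have hF2 : (1 - E) * y = ε • (1 - E) := by
    conv_rhs => rw [← hF1]
    rw [smul_smul, hε, one_smul]
  calc y = y * E + (1 - E) * y := by rw [hEy.eq, ← add_mul, add_sub_cancel, one_mul]
    _ = ε • (1 : Mat) := by rw [h, hF2, ← smul_add, add_sub_cancel]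

/-- A self-adjoint idempotent gives a commuting involution. -/
theorem exists_commute_involution (hodd : Odd (Fintype.card F)) (hn : 1 ≤ n) (g : Sp') (E : Mat)
    (hE : E * E = E) (h0 : E ≠ 0) (h1 : E ≠ 1) (hadj : adj E = E) (hc : Commute E (g : Mat)) :
    ∃ s : Sp', Commute s g ∧ orderOf ((s : Sp') : PSp n F) = 2 := by
  haveI := Fact.mk Nat.prime_two
  have h2 := two_ne_zero' hodd
  have hss : (E + E - 1) * (E + E - 1) = 1 := by
    simp only [sub_mul, mul_sub, add_mul, mul_add, hE, one_mul, mul_one]; abel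
  have hmem : E + E - 1 ∈ Matrix.symplecticGroup (Fin n) F := by
    rw [mem_iff_adj, adj_sub, adj_add, hadj, adj_one, hss]
  refine ⟨⟨_, hmem⟩, Subtype.ext (((hc.add_left hc).sub_left (Commute.one_left _)).eq),
    orderOf_eq_prime ?_ ?_⟩
  · rw [← QuotientGroup.mk_pow, sq]
    refine (QuotientGroup.eq_one_iff _).2 ?_
    rw [show (⟨_, hmem⟩ : Sp') * ⟨_, hmem⟩ = 1 from Subtype.ext hss]
    exact one_mem _
  · intro h
    obtain ⟨a, ha2, ha⟩ := scalar_of_central hn h
    have ha' : E + E - 1 = a • (1 : Mat) := ha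
    have hE2 : (2 : F) • E = (a + 1) • (1 : Mat) := by
      rw [add_smul, one_smul, ← ha', two_smul]; abel
    rcases mul_self_eq_one_iff.1 ha2 with rfl | rfl
    · apply h1
      rw [← one_add_one_eq_two] at hE2
      exact smul_right_injective Mat (show (1 + 1 : F) ≠ 0 by rwa [one_add_one_eq_two]) hE2
    · rw [neg_add_cancel, zero_smul] at hE2
      exact h0 ((smul_eq_zero.1 hE2).resolve_left h2)

/-- The dichotomy. -/
theorem dichotomy (hodd : Odd (Fintype.card F)) (hn : 1 ≤ n) {p e : ℕ} [Fact p.Prime] [CharP F p]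
    (hpe : 2 * n ≤ p ^ e) (g : Sp') :
    (∃ s : Sp', Commute s g ∧ orderOf ((s : Sp') : PSp n F) = 2) ∨
      ((g : Sp') : PSp n F) ^ p ^ e = 1 ∨
      ∃ (b : Bool) (d j : ℕ), 1 ≤ d ∧ 1 ≤ j ∧ d * j = n ∧ ∀ f, j ≤ p ^ f →
        ((g : Sp') : PSp n F) ^ (halfTorus b (Fintype.card F) d * p ^ f) = 1 := by
  classical
  have h2 := two_ne_zero' hodd
  haveI : Nonempty (Fin n) := ⟨⟨0, hn⟩⟩
  haveI : CharP Mat p := charP_of_injective_algebraMap (algebraMap F Mat).injective p
  obtain ⟨S, hσS, hSc, hSg, hSadj, hper⟩ := exists_algebra hpe hn g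
  by_cases hid : ∃ E ∈ S, E * E = E ∧ adj E = E ∧ E ≠ 0 ∧ E ≠ 1
  · obtain ⟨E, hES, hE, hadj, h0, h1⟩ := hid
    exact Or.inl (exists_commute_involution hodd hn g E hE h0 h1 hadj (hSg E hES))
  right
  have hp := (Fact.out : p.Prime)
  have hpodd : Odd p := by
    refine hp.odd_of_ne_two ?_
    rintro rfl
    exact h2 (CharTwo.two_eq_zero)
  set σ := (g : Mat) ^ p ^ e with hσdef
  have hσadj : adj σ * σ = 1 := by rw [hσdef, ← SubmonoidClass.coe_pow]; exact adj_coe_mul _
  have hsign : ∀ {E : Mat}, E ∈ S → E * E = E → (∀ G ∈ S, G * G = G → G * E = G → G = 0 ∨ G = E) →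
      ∀ x ∈ S, x * x * E = E → x * E = E ∨ x * E = (-1 : F) • E := by
    intro E hES hE hprim x hx hxx
    by_cases h : (x - 1) * E = 0
    · left; rwa [sub_mul, one_mul, sub_eq_zero] at h
    · right
      obtain ⟨z, hz, hzz⟩ := corner_inverse S hSc hper hES hE hprim (S.sub_mem hx S.one_mem) h
      have h3 : (x + 1) * E = 0 := by
        calc (x + 1) * E = (x + 1) * (z * (x - 1) * E) := by rw [hzz]
          _ = z * ((x + 1) * (x - 1) * E) := by
              rw [← Matrix.mul_assoc (x + 1), ← Matrix.mul_assoc (x + 1) z,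
                (hSc _ (S.add_mem hx S.one_mem) _ hz).eq]
              simp only [Matrix.mul_assoc]
          _ = 0 := by
              rw [show (x + 1) * (x - 1) = x * x - 1 by noncomm_ring, sub_mul, hxx, one_mul,
                sub_self, Matrix.mul_zero]
      rw [add_mul, one_mul] at h3
      rw [neg_one_smul]; exact eq_neg_of_add_eq_zero_left h3
  -- from a scalar power to the refined exponent
  have hfin : ∀ (T j : ℕ) (E : Mat), E ∈ S → E * E = E →
      (∀ y : Mat, Commute y E → adj y * y = 1 → ∀ ε : F, ε * ε = 1 → y * E = ε • E → y = ε • (1 : Mat)) →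
      (∀ y : Mat, (∀ z ∈ S, Commute y z) → IsNilpotent (y * E) → ∀ N, j ≤ N → y ^ N * E = 0) →
      (∃ ε : F, ε * ε = 1 ∧ σ ^ T = ε • (1 : Mat)) → ∀ f, j ≤ p ^ f →
        ((g : Sp') : PSp n F) ^ (T * p ^ f) = 1 := by
    rintro T j E hES hE hup hN ⟨ε, hε, hσT⟩ f hf
    set h := (g : Mat) ^ (T + T) with hh
    have hhp : h ^ p ^ e = 1 := by
      rw [hh, ← pow_mul, mul_comm, pow_mul, ← hσdef, pow_add, hσT, smul_mul_smul_comm, hε, one_smul,
        one_mul]
    have hnil : IsNilpotent ((h - 1) * E) := ⟨p ^ e, by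
      rw [((((hSg E hES).pow_right (T + T)).symm.sub_left
        (Commute.one_left E)) : Commute (h - 1) E).mul_pow,
        sub_pow_char_pow_of_commute _ _ (Commute.one_right h), hhp, one_pow, sub_self,
        Matrix.zero_mul]⟩
    have h1 := hN (h - 1) (fun z hz => (((hSg z hz).pow_right (T + T)).symm.sub_left
      (Commute.one_left z))) hnil _ hf
    rw [sub_pow_char_pow_of_commute _ _ (Commute.one_right h), one_pow, sub_mul, one_mul,
      sub_eq_zero] at h1
    have hh1 : h ^ p ^ f = (1 : F) • (1 : Mat) := by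
      refine hup _ (((hSg E hES).pow_right (T + T)).symm.pow_left _) ?_ 1 (one_mul 1) (by rw [h1, one_smul])
      rw [← pow_mul, ← SubmonoidClass.coe_pow]
      exact adj_coe_mul _
    rw [one_smul] at hh1
    set w := g ^ (T * p ^ f) with hw
    have hww : (w : Mat) * (w : Mat) = 1 := by
      rw [hw, SubmonoidClass.coe_pow, ← pow_add, ← add_mul, pow_mul, ← hh, hh1]
    have hwpe : (w : Mat) ^ p ^ e = (w : Mat) := by
      obtain ⟨c, hc⟩ := hpodd.pow (n := e)
      rw [hc, pow_succ, pow_mul, sq, hww, one_pow, one_mul]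
    rw [← QuotientGroup.mk_pow, ← hw]
    refine central_of_scalar (a := ε ^ p ^ f) ?_
    rw [← hwpe, hw, SubmonoidClass.coe_pow, ← pow_mul, mul_comm, ← mul_assoc, pow_mul, pow_mul, ← hσdef,
      hσT, _root_.smul_pow, one_pow]
  by_cases hnt : ∃ E ∈ S, E * E = E ∧ E ≠ 0 ∧ E ≠ 1
  swap
  · -- a field
    push Not at hnt
    have hprim : ∀ G ∈ S, G * G = G → G * 1 = G → G = 0 ∨ G = 1 := fun G hG hGG _ => by
      by_cases h : G = 0
      · exact Or.inl h
      · exact Or.inr (hnt G hG hGG h)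
    obtain ⟨d, j, k, hd1, hj1, hdj, ⟨P, Q, hQP, hPQ⟩, hOrd, hNil, hadjc⟩ :=
      corner S hSc hper hSadj S.one_mem (one_mul 1) one_ne_zero hprim
    have hsq : ∀ x ∈ S, x * x = 1 → ∃ ε : F, ε * ε = 1 ∧ x = ε • (1 : Mat) := fun x hx hxx => by
      rcases hsign S.one_mem (one_mul 1) hprim x hx (by rw [hxx, one_mul]) with h | h <;>
        rw [Matrix.mul_one] at h
      · exact ⟨1, one_mul 1, by rw [h, one_smul]⟩
      · exact ⟨-1, by norm_num, h⟩
    rcases hadjc adj_one with htriv | ⟨d', hdd, hpow⟩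
    · left
      have h := htriv σ hσS
      rw [Matrix.mul_one, Matrix.mul_one] at h
      obtain ⟨ε, -, hε⟩ := hsq σ hσS (by rw [show σ * σ = adj σ * σ by rw [h], hσadj])
      rw [← QuotientGroup.mk_pow]
      exact central_of_scalar (a := ε) (by rw [SubmonoidClass.coe_pow, ← hσdef, hε])
    right
    have hk : k = 2 * n := by
      let e' : (Fin n ⊕ Fin n → F) ≃ₗ[F] (Fin k → F) := LinearEquiv.ofLinear (Matrix.toLin' Q)
        (Matrix.toLin' P) (by rw [← Matrix.toLin'_mul, hQP, Matrix.toLin'_one])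
        (by rw [← Matrix.toLin'_mul, hPQ, Matrix.toLin'_one])
      have := LinearEquiv.finrank_eq e'
      rw [Module.finrank_pi, Module.finrank_fin_fun, Fintype.card_sum, Fintype.card_fin] at this
      omega
    refine ⟨true, d', j, by omega, hj1, ?_, ?_⟩
    · rw [hdd, hk, mul_assoc] at hdj; omega
    refine hfin _ j 1 S.one_mem (one_mul 1) (fun y _ _ ε _ h => by rwa [Matrix.mul_one] at h) hNil
      (hsq _ (S.pow_mem hσS _) ?_)
    have h := hpow σ hσS
    rw [Matrix.mul_one, Matrix.mul_one] at h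
    rw [← pow_add, ← two_mul, two_mul_halfTorus _ hodd, if_pos rfl, pow_succ, ← h, hσadj]
  · -- two swapped fields
    obtain ⟨E, hES, hE, h0, h1⟩ := hnt
    have hcase : ∀ G ∈ S, G * G = G → G = 0 ∨ G = 1 ∨ (adj G * G = 0 ∧ adj G + G = 1) := by
      intro G hG hGG
      have hc := hSc _ (hSadj G hG) _ hG
      have hGa : adj G * adj G = adj G := by rw [← adj_mul, hGG]
      have hP : (adj G * G) * (adj G * G) = adj G * G := by
        rw [Matrix.mul_assoc, ← Matrix.mul_assoc G, ← hc.eq, Matrix.mul_assoc (adj G) G G, hGG,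
          ← Matrix.mul_assoc, hGa]
      have hPadj : adj (adj G * G) = adj G * G := by rw [adj_mul, adj_adj]
      rcases em (adj G * G = 0) with hz | hz
      · rcases em (adj G + G = 0) with hs | hs
        · left
          rw [← hGG]
          nth_rewrite 1 [eq_neg_of_add_eq_zero_right hs]
          rw [Matrix.neg_mul, hz, neg_zero]
        right
        by_cases hs1 : adj G + G = 1
        · exact Or.inr ⟨hz, hs1⟩
        exact absurd ⟨adj G + G, S.add_mem (hSadj G hG) hG, by
            rw [add_mul, mul_add, mul_add, hGa, hGG, hz, ← hc.eq, hz, add_zero, zero_add], by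
            rw [adj_add, adj_adj, add_comm], hs, hs1⟩ hid
      · by_cases hP1 : adj G * G = 1
        · right; left
          calc G = 1 * G := (Matrix.one_mul G).symm
            _ = 1 := by rw [← hP1, Matrix.mul_assoc, hGG]
        exact absurd ⟨_, S.mul_mem (hSadj G hG) hG, hP, hPadj, hz, hP1⟩ hid
    obtain ⟨hEE, hsum⟩ : adj E * E = 0 ∧ adj E + E = 1 := by
      rcases hcase E hES hE with h | h | h
      · exact absurd h h0
      · exact absurd h h1
      · exact h
    have hE' : adj E = 1 - E := eq_sub_of_add_eq hsum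
    have hprim : ∀ G ∈ S, G * G = G → G * E = G → G = 0 ∨ G = E := by
      intro G hG hGG hGE
      rcases hcase G hG hGG with h | h | ⟨-, hs⟩
      · exact Or.inl h
      · rw [h, Matrix.one_mul] at hGE
        exact absurd hGE h1
      right
      have h2 : adj G * E = 0 := by
        rw [← hGE, adj_mul, (hSc _ (hSadj _ hES) _ (hSadj _ hG)).eq, Matrix.mul_assoc, hEE,
          Matrix.mul_zero]
      calc G = adj G * E + G * E := by rw [h2, zero_add, hGE]
        _ = E := by rw [← add_mul, hs, Matrix.one_mul]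
    obtain ⟨d, j, k, hd1, hj1, hdj, ⟨P, Q, hQP, hPQ⟩, hOrd, hNil, -⟩ :=
      corner S hSc hper hSadj hES hE h0 hprim
    have hnk : n = k := by
      have hQE : Q * E = Q := by rw [← hPQ, ← Matrix.mul_assoc, hQP, Matrix.one_mul]
      have hEP : E * P = P := by rw [← hPQ, Matrix.mul_assoc, hQP, Matrix.mul_one]
      let P' : Matrix (Fin n ⊕ Fin n) (Fin k) F := Matrix.J (Fin n) F * Qᵀ
      let Q' : Matrix (Fin k) (Fin n ⊕ Fin n) F := -(Pᵀ * Matrix.J (Fin n) F)
      have hPQ' : P' * Q' = 1 - E := by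
        rw [← hE', ← hPQ]
        simp only [P', Q', adj, Matrix.mul_neg, Matrix.transpose_mul, Matrix.mul_assoc]
      have hQP' : Q' * P' = 1 := by
        simp only [P', Q', Matrix.neg_mul, Matrix.mul_assoc]
        rw [← Matrix.mul_assoc (Matrix.J (Fin n) F), Matrix.J_squared, Matrix.neg_mul, Matrix.one_mul,
          Matrix.mul_neg, neg_neg, ← Matrix.transpose_mul, hQP, Matrix.transpose_one]
      have hFQ : (1 - E) * P' = P' := by rw [← hPQ', Matrix.mul_assoc, hQP', Matrix.mul_one]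
      have hPF : Q' * (1 - E) = Q' := by rw [← hPQ', ← Matrix.mul_assoc, hQP', Matrix.one_mul]
      have hz1 : Q * P' = 0 := by
        rw [show Q * P' = (Q * E) * ((1 - E) * P') by rw [hQE, hFQ], Matrix.mul_assoc,
          ← Matrix.mul_assoc E, mul_sub, mul_one, hE, sub_self, Matrix.zero_mul, Matrix.mul_zero]
      have hz2 : Q' * P = 0 := by
        rw [show Q' * P = (Q' * (1 - E)) * (E * P) by rw [hPF, hEP], Matrix.mul_assoc,
          ← Matrix.mul_assoc (1 - E), sub_mul, one_mul, hE, sub_self, Matrix.zero_mul, Matrix.mul_zero]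
      let e' : (Fin n ⊕ Fin n → F) ≃ₗ[F] (Fin k → F) × (Fin k → F) := LinearEquiv.ofLinear
        ((Matrix.toLin' Q).prod (Matrix.toLin' Q'))
        ((Matrix.toLin' P).coprod (Matrix.toLin' P'))
        (by
          refine LinearMap.ext fun v => ?_
          simp [Matrix.mulVec_add, Matrix.mulVec_mulVec, hQP, hQP', hz1, hz2])
        (by
          refine LinearMap.ext fun v => ?_
          simp [Matrix.mulVec_mulVec, hPQ, hPQ', ← Matrix.add_mulVec])
      have := LinearEquiv.finrank_eq e'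
      rw [Module.finrank_prod, Module.finrank_pi, Module.finrank_fin_fun, Fintype.card_sum,
        Fintype.card_fin] at this
      omega
    refine Or.inr ⟨false, d, j, hd1, hj1, by rw [hdj, hnk], ?_⟩
    have hup : ∀ y : Mat, Commute y E → adj y * y = 1 → ∀ ε : F, ε * ε = 1 → y * E = ε • E →
        y = ε • (1 : Mat) := fun y hc hy ε hε h => eq_of_mul_idem hsum hc hy hε h
    refine hfin _ j E hES hE hup hNil ?_
    set T := halfTorus false (Fintype.card F) d with hT
    have hσ0 : σ * E ≠ 0 := fun h => h0 (by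
      rw [← Matrix.one_mul E, ← hσadj, Matrix.mul_assoc, h, Matrix.mul_zero])
    have hxx : σ ^ T * σ ^ T * E = E := by
      rw [← pow_add, ← two_mul, hT, two_mul_halfTorus _ hodd]
      exact hOrd σ hσS hσ0
    have hadjT : adj (σ ^ T) * σ ^ T = 1 := by
      rw [hσdef, ← pow_mul, ← SubmonoidClass.coe_pow]
      exact adj_coe_mul _
    have hcT : Commute (σ ^ T) E := hSc _ (S.pow_mem hσS _) _ hES
    rcases hsign hES hE hprim _ (S.pow_mem hσS _) hxx with h | h
    · exact ⟨1, one_mul 1, hup _ hcT hadjT 1 (one_mul 1) (by rw [h, one_smul])⟩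
    · exact ⟨-1, by norm_num, hup _ hcT hadjT (-1) (by norm_num) h⟩

/-- The embedding of the determinant one matrices of the extension field. -/
theorem exists_torus (hodd : Odd (Fintype.card F)) {d : ℕ} (hd : 1 ≤ d) {p : ℕ} [Fact p.Prime]
    [CharP F p] (b : Bool) :
    ∃ τ : Matrix.symplecticGroup (Fin d) F, orderOf τ = 2 * halfTorus b (Fintype.card F) d := by
  classical
  haveI : NeZero d := ⟨by omega⟩
  let L := FiniteField.Extension F p d
  haveI : Finite L := Module.finite_of_finite F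
  haveI := Fintype.ofFinite L
  haveI : CharP L p := charP_of_injective_algebraMap (algebraMap F L).injective p
  have hcard : Fintype.card L = Fintype.card F ^ d := by
    rw [← Nat.card_eq_fintype_card, FiniteField.natCard_extension, Nat.card_eq_fintype_card]
  have hLodd : Odd (Fintype.card L) := hcard ▸ hodd.pow
  obtain ⟨A, hAdet, hA⟩ : ∃ A : Matrix (Fin 2) (Fin 2) L, A.det = 1 ∧
      orderOf A = if b then Fintype.card L + 1 else Fintype.card L - 1 := by
    cases b with
    | false =>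
      obtain ⟨x, hx⟩ := IsCyclic.exists_ofOrder_eq_natCard (α := Lˣ)
      let φ : Lˣ →* Matrix (Fin 2) (Fin 2) L :=
        { toFun := fun u => Matrix.diagonal ![(u : L), ((u⁻¹ : Lˣ) : L)]
          map_one' := by
            ext i j
            fin_cases i <;> fin_cases j <;> simp
          map_mul' := fun u v => by
            rw [Matrix.diagonal_mul_diagonal]
            congr 1
            funext i
            fin_cases i <;> simp [mul_comm] }
      refine ⟨φ x, by simp [φ, Matrix.det_diagonal], ?_⟩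
      have hinj : Function.Injective φ := fun u v h => Units.ext (by
        have := congrFun (congrFun h 0) 0
        simpa [φ] using this)
      rw [orderOf_injective φ hinj, hx, Nat.card_units, Nat.card_eq_fintype_card]
      rfl
    | true =>
      haveI : NeZero 2 := ⟨by norm_num⟩
      let L2 := FiniteField.Extension L p 2
      haveI : Finite L2 := Module.finite_of_finite L
      have c := Module.finBasisOfFinrankEq L L2 (FiniteField.finrank_extension L p 2)
      obtain ⟨x, hx⟩ := IsCyclic.exists_ofOrder_eq_natCard (α := L2ˣ)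
      have hQ : 1 ≤ Fintype.card L := Fintype.card_pos
      have hxo : orderOf x = (Fintype.card L + 1) * (Fintype.card L - 1) := by
        rw [hx, Nat.card_units, FiniteField.natCard_extension, Nat.card_eq_fintype_card, ← Nat.sq_sub_sq,
          one_pow]
      let y := x ^ (Fintype.card L - 1)
      have hy : orderOf y = Fintype.card L + 1 := by
        have : 2 ≤ Fintype.card L := Fintype.one_lt_card
        rw [orderOf_pow' x (by omega : Fintype.card L - 1 ≠ 0), hxo, Nat.gcd_mul_left_left,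
          Nat.mul_div_cancel _ (by omega)]
      refine ⟨Algebra.leftMulMatrix c (y : L2), ?_, ?_⟩
      · rw [← Algebra.norm_eq_matrix_det c, Units.val_pow_eq_pow_val, map_pow]
        exact FiniteField.pow_card_sub_one_eq_one _ (Algebra.norm_ne_zero_iff.2 x.ne_zero)
      · rw [show orderOf (Algebra.leftMulMatrix c (y : L2)) = orderOf (y : L2) from
          orderOf_injective (Algebra.leftMulMatrix c).toMonoidHom (Algebra.leftMulMatrix_injective c) _,
          orderOf_units, hy]
        rfl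
  -- restriction of scalars
  let B := Module.finBasisOfFinrankEq F L (FiniteField.finrank_extension F p d)
  let R := Algebra.leftMulMatrix B
  let G := Algebra.traceMatrix F B
  have hG : IsUnit G.det := (show G.det ≠ 0 by simpa [G, Algebra.traceMatrix_of_basis] using det_traceForm_ne_zero (K := F) (L := L) B).isUnit
  let Gi := G⁻¹
  have hGG : G * Gi = 1 := Matrix.mul_nonsing_inv _ hG
  have hGG' : Gi * G = 1 := Matrix.nonsing_inv_mul _ hG
  have hGsym : Gᵀ = G := by
    ext i j
    simp [G, Algebra.traceMatrix, Algebra.traceForm_apply, mul_comm]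
  have hGisym : Giᵀ = Gi := by rw [Matrix.transpose_nonsing_inv, hGsym]
  have hentry : ∀ (x : L) i j, (G * R x) i j = Algebra.trace F L (B i * (x * B j)) := fun x i j => by
    rw [Matrix.mul_apply]
    simp only [G, R, Algebra.traceMatrix, Matrix.of_apply, Algebra.traceForm_apply,
      Algebra.leftMulMatrix_eq_repr_mul]
    conv_rhs => rw [← B.sum_repr (x * B j), Finset.mul_sum, map_sum]
    refine Finset.sum_congr rfl fun l _ => ?_
    rw [mul_smul_comm, map_smul, smul_eq_mul, mul_comm]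
  have hGR : ∀ x : L, (R x)ᵀ * G = G * R x := fun x => by
    ext i j
    rw [← hGsym, ← Matrix.transpose_mul, Matrix.transpose_apply, hGsym, hentry, hentry]
    congr 1
    ring
  have hT1 : ∀ x : L, (R x)ᵀ = G * R x * Gi := fun x => by
    rw [← hGR, Matrix.mul_assoc, hGG, Matrix.mul_one]
  let Φ : Matrix (Fin 2) (Fin 2) L →* Matrix (Fin d ⊕ Fin d) (Fin d ⊕ Fin d) F :=
    { toFun := fun M => Matrix.fromBlocks (R (M 0 0)) (R (M 0 1) * Gi) (G * R (M 1 0))
        (G * R (M 1 1) * Gi)
      map_one' := by simp [hGG, Matrix.fromBlocks_one]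
      map_mul' := fun M N => by
        rw [Matrix.fromBlocks_multiply]
        simp only [Matrix.mul_apply, Fin.sum_univ_two, map_add, map_mul, Matrix.add_mul,
          Matrix.mul_add]
        have hr : ∀ X : Matrix (Fin d) (Fin d) F, Gi * (G * X) = X := fun X => by
          rw [← Matrix.mul_assoc, hGG', Matrix.one_mul]
        simp only [Matrix.mul_assoc, hr] }
  have hcancel : ∀ X : Matrix (Fin d) (Fin d) F, Gi * (G * X) = X := fun X => by
    rw [← Matrix.mul_assoc, hGG', Matrix.one_mul]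
  have hcancel' : ∀ X : Matrix (Fin d) (Fin d) F, G * (Gi * X) = X := fun X => by
    rw [← Matrix.mul_assoc, hGG, Matrix.one_mul]
  have hmem : Φ A ∈ Matrix.symplecticGroup (Fin d) F := by
    have hd' : A 0 0 * A 1 1 - A 0 1 * A 1 0 = 1 := by rw [← Matrix.det_fin_two]; exact hAdet
    have hR1 : R (A 0 0) * R (A 1 1) - R (A 0 1) * R (A 1 0) = 1 := by
      rw [← map_mul, ← map_mul, ← map_sub, hd', map_one]
    have hRc : ∀ x y : L, R x * R y = R y * R x := fun x y => by rw [← map_mul, mul_comm, map_mul]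
    rw [SymplecticGroup.mem_iff]
    show Matrix.fromBlocks (R (A 0 0)) (R (A 0 1) * Gi) (G * R (A 1 0)) (G * R (A 1 1) * Gi) *
      Matrix.J (Fin d) F *
      (Matrix.fromBlocks (R (A 0 0)) (R (A 0 1) * Gi) (G * R (A 1 0)) (G * R (A 1 1) * Gi))ᵀ = _
    rw [Matrix.J, Matrix.fromBlocks_transpose, Matrix.fromBlocks_multiply, Matrix.fromBlocks_multiply]
    simp only [Matrix.mul_zero, Matrix.mul_one, zero_add, add_zero, Matrix.mul_neg, Matrix.neg_mul,
      Matrix.transpose_mul, hT1, hGisym, hGsym, Matrix.mul_assoc, hcancel, hcancel', hGG, hGG']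
    refine Matrix.fromBlocks_inj.2 ⟨?_, ?_, ?_, ?_⟩
    · rw [← Matrix.mul_assoc (R (A 0 1)), hRc, Matrix.mul_assoc, add_neg_cancel]
    · rw [← hR1, neg_sub, sub_eq_add_neg]
    · rw [← Matrix.mul_assoc (R (A 1 1)), ← Matrix.mul_assoc (R (A 1 0)), hRc (A 1 0), ← sub_eq_add_neg,
        ← Matrix.mul_sub, hRc (A 1 1), ← Matrix.sub_mul, hR1, Matrix.one_mul, hGG]
    · rw [hRc (A 1 1), add_neg_cancel]
  have hΦinj : Function.Injective Φ := fun M N h => by
    obtain ⟨h00, h01, h10, h11⟩ := Matrix.fromBlocks_inj.1 h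
    have hRinj := Algebra.leftMulMatrix_injective B
    have e01 := hRinj (by simpa [Matrix.mul_assoc, hGG'] using congrArg (· * G) h01)
    have e10 := hRinj (by simpa [← Matrix.mul_assoc, hGG'] using congrArg (Gi * ·) h10)
    have e11 := hRinj (by simpa [Matrix.mul_assoc, hGG', hcancel] using congrArg (fun X => Gi * X * G) h11)
    ext i j
    fin_cases i <;> fin_cases j
    · exact hRinj h00
    · exact e01
    · exact e10
    · exact e11
  refine ⟨⟨Φ A, hmem⟩, ?_⟩
  rw [← orderOf_injective (Matrix.symplecticGroup (Fin d) F).subtype Subtype.val_injective]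
  show orderOf (Φ A) = _
  rw [orderOf_injective Φ hΦinj, hA, two_mul_halfTorus _ hodd, hcard]

/-- A unipotent element whose order is divisible by `p ^ f`. -/
theorem exists_unipotent (hodd : Odd (Fintype.card F)) {m p f : ℕ} [Fact p.Prime] [CharP F p]
    (hm : 1 ≤ m) (hf : p ^ (f - 1) < 2 * m) :
    ∃ u : Matrix.symplecticGroup (Fin m) F, ∃ c, p ^ f ∣ orderOf u ∧ orderOf u = p ^ c := by
  classical
  have h2 := two_ne_zero' hodd
  have hp := (Fact.out : p.Prime)
  haveI : Nonempty (Fin m) := ⟨⟨0, hm⟩⟩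
  haveI : CharP (Matrix (Fin m ⊕ Fin m) (Fin m ⊕ Fin m) F) p :=
    charP_of_injective_algebraMap (algebraMap F (Matrix (Fin m ⊕ Fin m) (Fin m ⊕ Fin m) F)).injective p
  have hpodd : Odd p := by
    refine hp.odd_of_ne_two ?_
    rintro rfl
    exact h2 (CharTwo.two_eq_zero)
  set M := stdM F m with hM
  obtain ⟨hM0, hMr⟩ := stdM_regular (F := F) (m := m)
  have hMne : M ^ (2 * m - 1) ≠ 0 := by
    intro h
    obtain ⟨hN, hr⟩ := RegularNilpotent.toEnd_hyps hM0 hMr
    refine RegularNilpotent.pow_pred_ne_zero (by rw [Module.finrank_pi, card_index]) hN hr (by omega) ?_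
    rw [← map_pow, h, map_zero]
  obtain ⟨c, hc⟩ : ∃ c, 2 * m ≤ p ^ c := ⟨_, Nat.le_pow_clog hp.one_lt _⟩
  have hMc : M ^ p ^ c = 0 := pow_eq_zero_of_le hc hM0
  have hadd : ∀ i, (1 + M) ^ p ^ i = 1 + M ^ p ^ i := fun i => by
    rw [add_pow_char_pow_of_commute _ _ (Commute.one_left M), one_pow]
  have hsub : ∀ i, (1 - M) ^ p ^ i = 1 - M ^ p ^ i := fun i => by
    rw [sub_pow_char_pow_of_commute _ _ (Commute.one_left M), one_pow]
  have hc1 : Commute (1 + M) (1 - M) :=
    (Commute.one_left _).add_left ((Commute.one_right M).sub_right (Commute.refl M))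
  have hpc : 1 ≤ p ^ c := Nat.one_le_pow _ _ hp.pos
  set U := (1 + M) * (1 - M) ^ (p ^ c - 1) with hU
  have hadjU : adj U = (1 + M) ^ (p ^ c - 1) * (1 - M) := by
    have hpw : ∀ (y : Matrix (Fin m ⊕ Fin m) (Fin m ⊕ Fin m) F) (k : ℕ), adj (y ^ k) = adj y ^ k :=
      fun y k => by
        induction k with
        | zero => simp [adj_one]
        | succ k ih => rw [pow_succ, SymplecticRegular.adj_mul, ih, ← pow_succ']
    rw [hU, SymplecticRegular.adj_mul, hpw, adj_sub, SymplecticRegular.adj_add, adj_one, stdM_skew,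
      sub_neg_eq_add, ← sub_eq_add_neg]
  have hUU : adj U * U = 1 := by
    rw [hadjU, hU]
    calc (1 + M) ^ (p ^ c - 1) * (1 - M) * ((1 + M) * (1 - M) ^ (p ^ c - 1))
        = (1 + M) ^ (p ^ c - 1) * (1 + M) * ((1 - M) * (1 - M) ^ (p ^ c - 1)) :=
          hc1.symm.mul_mul_mul_comm _ _
      _ = 1 := by
          rw [← pow_succ, ← pow_succ', Nat.sub_add_cancel hpc, hadd, hsub, hMc, add_zero, sub_zero,
            one_mul]
  let u : Matrix.symplecticGroup (Fin m) F := ⟨U, (mem_iff_adj U).2 hUU⟩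
  have hu1 : u ^ p ^ c = 1 := Subtype.ext (by
    rw [SubmonoidClass.coe_pow]
    show U ^ p ^ c = 1
    rw [hU, (hc1.pow_right _).mul_pow, ← pow_mul, mul_comm (p ^ c - 1), pow_mul, hadd, hsub, hMc,
      add_zero, sub_zero, one_pow, one_mul])
  obtain ⟨c', -, hc'⟩ := (Nat.dvd_prime_pow hp).1 (orderOf_dvd_of_pow_eq_one hu1)
  refine ⟨u, c', ?_, hc'⟩
  rw [hc']
  refine pow_dvd_pow p ?_
  by_contra hlt
  push Not at hlt
  have hu2 : U ^ p ^ (f - 1) = 1 := by
    have h : u ^ p ^ (f - 1) = 1 :=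
      orderOf_dvd_iff_pow_eq_one.1 (hc' ▸ pow_dvd_pow p (by omega : c' ≤ f - 1))
    have := congrArg Subtype.val h
    rwa [SubmonoidClass.coe_pow] at this
  have hrw : U * (1 - M) = 1 + M := by
    rw [hU, Matrix.mul_assoc, ← pow_succ, Nat.sub_add_cancel hpc, hsub, hMc, sub_zero, Matrix.mul_one]
  have hcU : Commute U (1 - M) := hc1.mul_left ((Commute.refl _).pow_left _)
  have h3 : (1 - M) ^ p ^ (f - 1) = (1 + M) ^ p ^ (f - 1) := by
    rw [← hrw, hcU.mul_pow, hu2, one_mul]
  rw [hadd, hsub] at h3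
  have h4 : (2 : F) • M ^ p ^ (f - 1) = 0 := by
    rw [two_smul]
    have h5 : (1 + M ^ p ^ (f - 1)) - (1 - M ^ p ^ (f - 1)) = 0 := by rw [h3, sub_self]
    rw [← h5]; abel
  have h6 := (smul_eq_zero.1 h4).resolve_left h2
  exact hMne (pow_eq_zero_of_le (by omega) h6)

/-- An element of `PSp` whose order is divisible by `2 · halfTorus · p ^ f`. -/
theorem exists_pair (hodd : Odd (Fintype.card F)) {d m p f : ℕ} [Fact p.Prime] [CharP F p] (hd : 1 ≤ d)
    (hdm : d + m = n) (hm : 1 ≤ m) (hf : p ^ (f - 1) < 2 * m) (b : Bool) :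
    ∃ x : PSp n F, 2 * halfTorus b (Fintype.card F) d * p ^ f ∣ orderOf x := by
  classical
  subst hdm
  have hp := (Fact.out : p.Prime)
  have hpodd : Odd p := by
    refine hp.odd_of_ne_two ?_
    rintro rfl
    exact two_ne_zero' hodd (CharTwo.two_eq_zero)
  obtain ⟨τ, hτ⟩ := exists_torus (F := F) hodd hd (p := p) b
  obtain ⟨u, c, hfu, hu⟩ := exists_unipotent (F := F) hodd hm hf
  set w := SymplecticDecomp.blockHom F d m (τ, u)
  refine ⟨(w : PSp (d + m) F), ?_⟩
  set k := orderOf (w : PSp (d + m) F) with hk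
  have h : (((w ^ k) : Matrix.symplecticGroup (Fin (d + m)) F) : PSp (d + m) F) = 1 := by
    rw [QuotientGroup.mk_pow, hk, pow_orderOf_eq_one]
  obtain ⟨a, ha2, ha⟩ := scalar_of_central (by omega) h
  rw [← map_pow, SymplecticDecomp.blockHom_coe, Prod.pow_mk] at ha
  have hblk : Matrix.fromBlocks (τ ^ k).1 0 0 (u ^ k).1 = a • (1 : Matrix ((Fin d ⊕ Fin d) ⊕ (Fin m ⊕ Fin m)) ((Fin d ⊕ Fin d) ⊕ (Fin m ⊕ Fin m)) F) := by
    ext i j
    have h' := congrFun (congrFun ha (SymplecticDecomp.splitIdx d m i)) (SymplecticDecomp.splitIdx d m j)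
    simpa [SymplecticDecomp.blockMat, Matrix.smul_apply, Matrix.one_apply] using h'
  rw [← Matrix.fromBlocks_one, Matrix.fromBlocks_smul, Matrix.fromBlocks_inj] at hblk
  obtain ⟨hτk, -, -, huk⟩ := hblk
  have ha1 : a = 1 := by
    have h1 : ((u ^ k) ^ p ^ c : Matrix.symplecticGroup (Fin m) F) = 1 := by
      rw [← pow_mul, mul_comm, pow_mul, ← hu, pow_orderOf_eq_one, one_pow]
    have h2 := congrArg Subtype.val h1
    rw [SubmonoidClass.coe_pow, huk, _root_.smul_pow, one_pow] at h2
    have h3 := congrFun (congrFun h2 (Sum.inl ⟨0, hm⟩)) (Sum.inl ⟨0, hm⟩)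
    simp at h3
    obtain ⟨i, hi⟩ := hpodd.pow (n := c)
    rw [hi, pow_succ, pow_mul, sq, ha2, one_pow, one_mul] at h3
    exact h3
  rw [ha1, one_smul] at hτk huk
  have e1 : 2 * halfTorus b (Fintype.card F) d ∣ k :=
    hτ ▸ orderOf_dvd_of_pow_eq_one (Subtype.ext hτk)
  have e2 : p ^ f ∣ k := hfu.trans (orderOf_dvd_of_pow_eq_one (Subtype.ext huk))
  refine Nat.Coprime.mul_dvd_of_dvd_of_dvd (Nat.Coprime.pow_right _ ?_) e1 e2
  rw [two_mul_halfTorus _ hodd]
  refine (hp.coprime_iff_not_dvd.2 ?_).symm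
  intro hdvd
  obtain ⟨i, -, hFc⟩ := FiniteField.card F p
  have hpq : p ∣ Fintype.card F ^ d := by
    rw [hFc]; exact (dvd_pow_self p i.pos.ne').trans (dvd_pow_self _ (by omega))
  split_ifs at hdvd
  · exact hp.not_dvd_one ((Nat.dvd_add_right hpq).1 hdvd)
  · have := Nat.dvd_sub hpq hdvd
    rw [Nat.sub_sub_self (Nat.one_le_pow _ _ Fintype.card_pos)] at this
    exact hp.not_dvd_one this

/-- A torus element of `PSp`. -/
theorem exists_torus_psp (hodd : Odd (Fintype.card F)) {p : ℕ} [Fact p.Prime] [CharP F p]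
    (hn : 1 ≤ n) (b : Bool) :
    ∃ x : PSp n F, halfTorus b (Fintype.card F) n ∣ orderOf x := by
  obtain ⟨τ, hτ⟩ := exists_torus (F := F) hodd hn (p := p) b
  refine ⟨(τ : PSp n F), ?_⟩
  set k := orderOf (τ : PSp n F) with hk
  have h : (((τ ^ k) : Matrix.symplecticGroup (Fin n) F) : PSp n F) = 1 := by
    rw [QuotientGroup.mk_pow, hk, pow_orderOf_eq_one]
  obtain ⟨a, ha2, ha⟩ := scalar_of_central hn h
  have h2 : τ ^ (2 * k) = 1 := Subtype.ext (by
    rw [mul_comm, pow_mul, sq, Submonoid.coe_mul, ha, smul_mul_smul_comm, ha2, one_smul, one_mul]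
    rfl)
  exact Nat.dvd_of_mul_dvd_mul_left two_pos (hτ ▸ orderOf_dvd_of_pow_eq_one h2)

/-- A unipotent element of `PSp`. -/
theorem exists_unipotent_psp (hodd : Odd (Fintype.card F)) {p f : ℕ} [Fact p.Prime] [CharP F p]
    (hn : 1 ≤ n) (hf : p ^ (f - 1) < 2 * n) :
    ∃ x : PSp n F, p ^ f ∣ orderOf x := by
  have hp := (Fact.out : p.Prime)
  have hpodd : Odd p := by
    refine hp.odd_of_ne_two ?_
    rintro rfl
    exact two_ne_zero' hodd (CharTwo.two_eq_zero)
  obtain ⟨u, c, hfu, hu⟩ := exists_unipotent (F := F) hodd hn hf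
  refine ⟨(u : PSp n F), ?_⟩
  set k := orderOf (u : PSp n F) with hk
  have h : (((u ^ k) : Matrix.symplecticGroup (Fin n) F) : PSp n F) = 1 := by
    rw [QuotientGroup.mk_pow, hk, pow_orderOf_eq_one]
  obtain ⟨a, ha2, ha⟩ := scalar_of_central hn h
  have h2 : u ^ (2 * k) = 1 := Subtype.ext (by
    rw [mul_comm, pow_mul, sq, Submonoid.coe_mul, ha, smul_mul_smul_comm, ha2, one_smul, one_mul]
    rfl)
  have h3 : p ^ f ∣ 2 * k := hfu.trans (orderOf_dvd_of_pow_eq_one h2)
  exact (Nat.Coprime.pow_left _ (Nat.coprime_two_right.2 hpodd)).dvd_of_dvd_mul_left h3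

end Cfsg.Agent.SpectrumPSp61
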