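import Mathlib

set_option autoImplicit false

/-!
A solvable group with element orders exactly the divisors of `5`, `9`, `12`: a `3`-group of order
`81 ^ 7` and exponent `9` extended by a Frobenius group of order `20`.
-/

namespace Cfsg.Agent.SpectrumPSpFourThree59

/-- A pattern group of unipotent `6 × 6` matrices: two paths of length three with tied entries. -/
@[ext] structure Pat (K : Type) : Type where
  x : K
  u : K
  a : K
  b : K
  c : K
  e : K
  z : K

variable {K : Type} [Field K] [CharP K 3]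

lemma add3 (a b : K) : (a + b) ^ 3 = a ^ 3 + b ^ 3 := add_pow_char a b 3
lemma add9 (a b : K) : (a + b) ^ 9 = a ^ 9 + b ^ 9 := add_pow_char_pow a b 3 2
lemma add27 (a b : K) : (a + b) ^ 27 = a ^ 27 + b ^ 27 := add_pow_char_pow a b 3 3
lemma three_eq_zero : (3 : K) = 0 := by exact_mod_cast CharP.cast_eq_zero K 3

instance : Mul (Pat K) := ⟨fun P Q =>
  ⟨P.x + Q.x, P.u + Q.u, P.a + Q.a + P.x * Q.u, P.b + Q.b + P.u * Q.u ^ 3,
    P.c + Q.c - P.x ^ 9 * Q.u, P.e + Q.e + P.u * Q.u ^ 27,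
    P.z + Q.z + P.x * Q.b + P.a * Q.u ^ 3 - P.x ^ 9 * Q.e + P.c * Q.u ^ 27⟩⟩

instance : One (Pat K) := ⟨⟨0, 0, 0, 0, 0, 0, 0⟩⟩

instance : Inv (Pat K) := ⟨fun P =>
  ⟨-P.x, -P.u, -P.a + P.x * P.u, -P.b + P.u ^ 4, -P.c - P.x ^ 9 * P.u, -P.e + P.u ^ 28,
    -P.z + P.x * P.b - (-P.a + P.x * P.u) * P.u ^ 3 - P.x ^ 9 * P.e -
      (-P.c - P.x ^ 9 * P.u) * P.u ^ 27⟩⟩

lemma one_def : (1 : Pat K) = ⟨0, 0, 0, 0, 0, 0, 0⟩ := rfl

lemma mul_def (P Q : Pat K) : P * Q =
    ⟨P.x + Q.x, P.u + Q.u, P.a + Q.a + P.x * Q.u, P.b + Q.b + P.u * Q.u ^ 3,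
    P.c + Q.c - P.x ^ 9 * Q.u, P.e + Q.e + P.u * Q.u ^ 27,
    P.z + Q.z + P.x * Q.b + P.a * Q.u ^ 3 - P.x ^ 9 * Q.e + P.c * Q.u ^ 27⟩ := rfl

instance : Group (Pat K) where
  mul_assoc P Q R := by
    ext <;> simp only [mul_def, add3, add9, add27] <;> ring
  one_mul P := by ext <;> simp [mul_def, one_def]
  mul_one P := by ext <;> simp [mul_def, one_def]
  inv_mul_cancel P := by
    ext <;> simp [mul_def, one_def, Inv.inv] <;> ring

instance [Finite K] : Finite (Pat K) :=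
  Finite.of_injective (fun P => (P.x, P.u, P.a, P.b, P.c, P.e, P.z)) fun P Q h => by
    simp only [Prod.mk.injEq] at h
    obtain ⟨h1, h2, h3, h4, h5, h6, h7⟩ := h
    ext <;> assumption

/-- The cube only has a corner entry. -/
lemma cube (P : Pat K) :
    P * P * P = ⟨0, 0, 0, 0, 0, 0, P.x * P.u * P.u ^ 3 - P.x ^ 9 * P.u * P.u ^ 27⟩ := by
  have h := three_eq_zero (K := K)
  ext <;> simp only [mul_def]
  · linear_combination P.x * h
  · linear_combination P.u * h
  · linear_combination (P.a + P.x * P.u) * h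
  · linear_combination (P.b + P.u * P.u ^ 3) * h
  · simp only [add9]; linear_combination (P.c - P.x ^ 9 * P.u) * h
  · linear_combination (P.e + P.u * P.u ^ 27) * h
  · simp only [add9]
    linear_combination (P.z + P.x * P.b + P.a * P.u ^ 3 - P.x ^ 9 * P.e + P.c * P.u ^ 27) * h

lemma pow_three_central (z : K) : (⟨0, 0, 0, 0, 0, 0, z⟩ : Pat K) ^ 3 = 1 := by
  rw [pow_succ, pow_two, cube]
  ext <;> simp [one_def]

lemma pow_nine (P : Pat K) : P ^ 9 = 1 := by
  rw [show (9 : ℕ) = 3 * 3 from rfl, pow_mul, pow_succ P 2, pow_two P, cube, pow_three_central]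

/-- The twists: a scaling by a fifth root of unity after a power of the Frobenius map. -/
def twist (r : K) (j : ℕ) (P : Pat K) : Pat K :=
  ⟨r * P.x ^ 3 ^ j, r ^ 3 * P.u ^ 3 ^ j, r ^ 4 * P.a ^ 3 ^ j, r ^ 2 * P.b ^ 3 ^ j,
    r ^ 2 * P.c ^ 3 ^ j, r ^ 4 * P.e ^ 3 ^ j, r ^ 3 * P.z ^ 3 ^ j⟩

lemma twist_mul {r : K} (hr : r ^ 5 = 1) (j : ℕ) (P Q : Pat K) :
    twist r j (P * Q) = twist r j P * twist r j Q := by
  have hsum : ∀ s t : K, (s + t) ^ 3 ^ j = s ^ 3 ^ j + t ^ 3 ^ j := fun s t => add_pow_char_pow s t 3 j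
  have hdiff : ∀ s t : K, (s - t) ^ 3 ^ j = s ^ 3 ^ j - t ^ 3 ^ j := fun s t => sub_pow_char_pow s t j
  ext <;> simp only [mul_def, twist, hsum, hdiff, mul_pow, ← pow_mul, mul_comm (3 ^ j)]
  · ring
  · ring
  · ring
  · linear_combination (-(r ^ 2 * r ^ 5) - r ^ 2) * (P.u ^ 3 ^ j * Q.u ^ (3 * 3 ^ j)) * hr
  · linear_combination (r ^ 7 + r ^ 2) * (P.x ^ (9 * 3 ^ j) * Q.u ^ 3 ^ j) * hr
  · linear_combination (-(r ^ 4)) * (r ^ 75 + r ^ 70 + r ^ 65 + r ^ 60 + r ^ 55 + r ^ 50 + r ^ 45 +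
      r ^ 40 + r ^ 35 + r ^ 30 + r ^ 25 + r ^ 20 + r ^ 15 + r ^ 10 + r ^ 5 + 1) *
      (P.u ^ 3 ^ j * Q.u ^ (27 * 3 ^ j)) * hr
  · linear_combination (-(r ^ 3)) * (P.x ^ 3 ^ j * Q.b ^ 3 ^ j * 0 +
      P.a ^ 3 ^ j * Q.u ^ (3 * 3 ^ j) * (r ^ 5 + 1) -
      P.x ^ (9 * 3 ^ j) * Q.e ^ 3 ^ j * (r ^ 5 + 1) +
      P.c ^ 3 ^ j * Q.u ^ (27 * 3 ^ j) * (r ^ 75 + r ^ 70 + r ^ 65 + r ^ 60 + r ^ 55 + r ^ 50 +
        r ^ 45 + r ^ 40 + r ^ 35 + r ^ 30 + r ^ 25 + r ^ 20 + r ^ 15 + r ^ 10 + r ^ 5 + 1)) * hr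

lemma pow_pow_add (s : K) (i j : ℕ) : (s ^ 3 ^ i) ^ 3 ^ j = s ^ 3 ^ (i + j) := by
  rw [← pow_mul, ← pow_add]

lemma twist_twist (r r' : K) (i j : ℕ) (P : Pat K) :
    twist r i (twist r' j P) = twist (r * r' ^ 3 ^ i) (i + j) P := by
  ext <;>
    simp only [twist, mul_pow, pow_pow_add, add_comm j i, ← pow_mul, mul_comm (3 ^ i)] <;> ring

lemma twist_zero (P : Pat K) : twist 1 0 P = P := by ext <;> simp [twist]

variable (h81 : ∀ s : K, s ^ 81 = s)
include h81

lemma frob_periodic (s : K) (i k : ℕ) : s ^ 3 ^ (i + 4 * k) = s ^ 3 ^ i := by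
  induction k with
  | zero => rw [Nat.mul_zero, Nat.add_zero]
  | succ k ih =>
    rw [show i + 4 * (k + 1) = 4 + (i + 4 * k) by ring, ← pow_pow_add,
      show (3 : ℕ) ^ 4 = 81 from rfl, h81, ih]

lemma twist_periodic (r : K) (i k : ℕ) (P : Pat K) : twist r (i + 4 * k) P = twist r i P := by
  ext <;> simp only [twist, frob_periodic h81]

/-- The automorphisms acting as twists. -/
def top : Subgroup (MulAut (Pat K)) where
  carrier := {f | ∃ (r : K) (j : ℕ), r ^ 5 = 1 ∧ ∀ P, f P = twist r j P}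
  mul_mem' := by
    rintro f g ⟨r, j, hr, hf⟩ ⟨r', j', hr', hg⟩
    refine ⟨r * r' ^ 3 ^ j, j + j', ?_, fun P => ?_⟩
    · rw [mul_pow, hr, one_mul, ← pow_mul, mul_comm (3 ^ j), pow_mul, hr', one_pow]
    · rw [MulAut.mul_apply, hg, hf, twist_twist]
  one_mem' := ⟨1, 0, one_pow 5, fun P => (twist_zero P).symm⟩
  inv_mem' := by
    rintro f ⟨r, j, hr, hf⟩
    refine ⟨r ^ (4 * 3 ^ (3 * j)), 3 * j, ?_, fun P => f.injective ?_⟩
    · rw [← pow_mul, mul_comm, pow_mul, hr, one_pow]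
    · rw [MulAut.apply_inv_self, hf, twist_twist, ← pow_mul,
        show j + 3 * j = 0 + 4 * j by ring, twist_periodic h81,
        show 4 * 3 ^ (3 * j) * 3 ^ j = 4 * (3 ^ (0 + 4 * j)) by rw [mul_assoc, ← pow_add]; ring_nf,
        pow_mul, frob_periodic h81, pow_zero, pow_one,
        show r * r ^ 4 = r ^ 5 by ring, hr, twist_zero]

lemma commute_zero {f g : MulAut (Pat K)} {r r' : K} (hf : ∀ P, f P = twist r 0 P)
    (hg : ∀ P, g P = twist r' 0 P) : f * g = g * f := by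
  refine MulEquiv.ext fun P => ?_
  rw [MulAut.mul_apply, MulAut.mul_apply, hg, hf, hf, hg, twist_twist, twist_twist]
  simp [mul_comm r]

lemma top_solvable : Group.IsSolvable ↥(top h81) := by
  set N : Set ↥(top h81) := {f | ∃ r : K, ∀ P, f.1 P = twist r 0 P}
  have hN : commutator ↥(top h81) ≤ Subgroup.closure N := by
    rw [commutator_def, Subgroup.commutator_le]
    rintro ⟨f, r, j, hr, hf⟩ - ⟨g, r', j', hr', hg⟩ -
    obtain ⟨s, i, hs, hfi⟩ := (top h81).inv_mem ⟨r, j, hr, hf⟩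
    obtain ⟨s', i', hs', hgi⟩ := (top h81).inv_mem ⟨r', j', hr', hg⟩
    have hper : ∀ (a : MulAut (Pat K)) (q q' : K) (m m' : ℕ), (∀ P, a P = twist q m P) →
        (∀ P, a⁻¹ P = twist q' m' P) → ∀ t : K, t ^ 3 ^ (m + m') = t := by
      intro a q q' m m' ha ha' t
      have h := fun t : K => congrArg Pat.x (MulAut.apply_inv_self (M := Pat K) a (⟨t, 0, 0, 0, 0, 0, 0⟩ : Pat K))
      simp only [ha', ha, twist_twist] at h
      simp only [twist] at h
      have h1 := h 1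
      rw [one_pow, mul_one] at h1
      have := h t
      rwa [h1, one_mul] at this
    refine Subgroup.subset_closure ⟨r * (r' * (s * s' ^ 3 ^ i) ^ 3 ^ j') ^ 3 ^ j, fun P => ?_⟩
    change (f * g * f⁻¹ * g⁻¹) P = _
    rw [MulAut.mul_apply, MulAut.mul_apply, MulAut.mul_apply, hgi, hfi, hg, hf, twist_twist,
      twist_twist, twist_twist]
    have e : ∀ t : K, t ^ 3 ^ (j + j' + i + i') = t ^ 3 ^ 0 := fun t => by
      rw [show j + j' + i + i' = (j + i) + (j' + i') by ring, ← pow_pow_add,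
        hper f r s j i hf hfi, hper g r' s' j' i' hg hgi, pow_zero, pow_one]
    ext <;> simp only [twist, e, mul_pow, pow_pow_add, pow_zero, pow_one, ← pow_mul, ← pow_add] <;> ring
  have hcomm : ∀ f ∈ Subgroup.closure N, ∀ g ∈ Subgroup.closure N, f * g = g * f := by
    have : IsMulCommutative ↥(Subgroup.closure N) := Subgroup.isMulCommutative_closure (by
      rintro f ⟨r, hf⟩ g ⟨r', hg⟩
      exact Subtype.ext (commute_zero h81 hf hg))
    exact fun f hf g hg => congrArg Subtype.val (this.is_comm.comm ⟨f, hf⟩ ⟨g, hg⟩)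
  refine ⟨⟨2, ?_⟩⟩
  rw [eq_bot_iff, show (2 : ℕ) = 1 + 1 from rfl, derivedSeries_succ, derivedSeries_one,
    Subgroup.commutator_le]
  intro f hf g hg
  rw [Subgroup.mem_bot, commutatorElement_eq_one_iff_mul_comm]
  exact hcomm f (hN hf) g (hN hg)

/-- The group. -/
abbrev Grp : Type := SemidirectProduct (Pat K) ↥(top h81) (top h81).subtype

lemma grp_solvable [Finite K] : Group.IsSolvable (Grp h81) := by
  haveI := top_solvable h81
  haveI : Fact (Nat.Prime 3) := ⟨Nat.prime_three⟩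
  haveI : Group.IsNilpotent (Pat K) :=
    IsPGroup.isNilpotent (p := 3) fun P => ⟨2, pow_nine P⟩
  exact Group.isSolvable_of_ker_le_range (SemidirectProduct.inl : Pat K →* Grp h81)
    SemidirectProduct.rightHom (le_of_eq SemidirectProduct.range_inl_eq_ker_rightHom.symm)

omit h81 in
lemma eq_zero_of_fixed {s y : K} (hs : s ≠ 1) (h : s * y = y) : y = 0 :=
  (mul_left_eq_self₀.1 h).resolve_left hs

lemma six_eq_one {g : Grp h81} {r : K} {j : ℕ} (hr : r ^ 5 = 1)
    (hf : ∀ P, g.right.1 P = twist r (2 + 4 * j) P) : g ^ 6 = 1 := by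
  simp only [twist_periodic h81] at hf
  have hf2 : g.right ^ 2 = 1 := Subtype.ext (MulEquiv.ext fun P => by
    rw [SubgroupClass.coe_pow, pow_two, MulAut.mul_apply, hf, hf, twist_twist,
      show r * r ^ 3 ^ 2 = (r ^ 5) ^ 2 by ring, hr, one_pow,
      show (2 + 2 : ℕ) = 0 + 4 * 1 from rfl, twist_periodic h81, twist_zero]
    rfl)
  set Y := (g ^ 2).left
  have hY : g ^ 2 = SemidirectProduct.inl Y := SemidirectProduct.ext rfl (by
    rw [SemidirectProduct.right_inl, ← hf2]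
    exact map_pow SemidirectProduct.rightHom g 2)
  have hc : g.left * g.right.1 Y = Y * g.left := by
    have h := congrArg SemidirectProduct.left ((Commute.self_pow g 2).eq)
    rw [hY] at h
    simpa using h
  rw [hf] at hc
  have hx : r * Y.x ^ 9 = Y.x := by
    have h := congrArg Pat.x hc
    simp only [mul_def, twist] at h
    linear_combination h
  have hu : r ^ 3 * Y.u ^ 9 = Y.u := by
    have h := congrArg Pat.u hc
    simp only [mul_def, twist] at h
    linear_combination h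
  have hu3 : r ^ 9 * Y.u ^ 27 = Y.u ^ 3 := by
    conv_rhs => rw [← hu]
    ring
  have hr0 : r ≠ 0 := by rintro rfl; norm_num at hr
  have hz : Y.x * Y.u * Y.u ^ 3 - Y.x ^ 9 * Y.u * Y.u ^ 27 = 0 := by
    have h10 : r ^ 10 = 1 := by rw [show (10 : ℕ) = 5 * 2 from rfl, pow_mul, hr, one_pow]
    have h : r ^ 10 * (Y.x ^ 9 * Y.u * Y.u ^ 27) = Y.x * Y.u * Y.u ^ 3 :=
      calc r ^ 10 * (Y.x ^ 9 * Y.u * Y.u ^ 27) = (r * Y.x ^ 9) * Y.u * (r ^ 9 * Y.u ^ 27) := by ring
        _ = _ := by rw [hx, hu3]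
    rw [h10, one_mul] at h
    rw [h, sub_self]
  rw [show (6 : ℕ) = 2 * 3 from rfl, pow_mul, hY, ← map_pow, pow_succ, pow_two, cube, hz]
  exact map_one _

lemma order_cases (g : Grp h81) : g ^ 5 = 1 ∨ g ^ 9 = 1 ∨ g ^ 12 = 1 := by
  obtain ⟨r, j, hr, hf⟩ := g.right.2
  rcases (show j % 4 = 0 ∨ j % 4 = 2 ∨ j % 2 = 1 by omega) with h | h | h
  · obtain ⟨k, rfl⟩ : ∃ k, j = 0 + 4 * k := ⟨j / 4, by omega⟩
    simp only [twist_periodic h81] at hf
    by_cases hr1 : r = 1
    · subst hr1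
      refine Or.inr (Or.inl ?_)
      have hg : g = SemidirectProduct.inl g.left := SemidirectProduct.ext rfl (Subtype.ext
        (MulEquiv.ext fun P => (hf P).trans (twist_zero P)))
      rw [hg, ← map_pow, pow_nine, map_one]
    refine Or.inl ?_
    have hne : ∀ m, 0 < m → m < 5 → r ^ m ≠ 1 := fun m h0 h5 h => by
      haveI : Fact (Nat.Prime 5) := ⟨Nat.prime_five⟩
      have := Nat.le_of_dvd h0 (orderOf_dvd_of_pow_eq_one h)
      rw [orderOf_eq_prime hr hr1] at this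
      omega
    have hpow : ∀ (n : ℕ) (P : Pat K), (g.right ^ n).1 P = twist (r ^ n) 0 P := by
      intro n
      induction n with
      | zero => exact fun P => (twist_zero P).symm.trans (by rw [pow_zero])
      | succ n ih =>
        intro P
        rw [pow_succ', Subgroup.coe_mul, MulAut.mul_apply, ih, hf, twist_twist, pow_zero, pow_one,
          ← pow_succ']
    set Y := (g ^ 5).left
    have hY : g ^ 5 = SemidirectProduct.inl Y := SemidirectProduct.ext rfl (by
      rw [SemidirectProduct.right_inl]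
      refine (map_pow SemidirectProduct.rightHom g 5).trans (Subtype.ext (MulEquiv.ext fun P => ?_))
      rw [SemidirectProduct.rightHom_eq_right, hpow 5 P, hr, twist_zero]
      rfl)
    have hc : g.left * g.right.1 Y = Y * g.left := by
      have h := congrArg SemidirectProduct.left ((Commute.self_pow g 5).eq)
      rw [hY] at h
      simpa using h
    simp only [hf, mul_def, twist, pow_zero, pow_one, Pat.mk.injEq] at hc
    obtain ⟨e1, e2, e3, e4, e5, e6, e7⟩ := hc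
    have y1 : Y.x = 0 := eq_zero_of_fixed hr1 (by linear_combination e1)
    have y2 : Y.u = 0 := eq_zero_of_fixed (hne 3 (by norm_num) (by norm_num)) (by linear_combination e2)
    simp only [y1, y2, mul_zero, zero_mul, add_zero, zero_add, sub_zero,
      zero_pow (by norm_num : (3 : ℕ) ≠ 0), zero_pow (by norm_num : (9 : ℕ) ≠ 0),
      zero_pow (by norm_num : (27 : ℕ) ≠ 0)] at e3 e4 e5 e6 e7
    have y3 : Y.a = 0 := eq_zero_of_fixed (hne 4 (by norm_num) (by norm_num)) (by linear_combination e3)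
    have y4 : Y.b = 0 := eq_zero_of_fixed (hne 2 (by norm_num) (by norm_num)) (by linear_combination e4)
    have y5 : Y.c = 0 := eq_zero_of_fixed (hne 2 (by norm_num) (by norm_num)) (by linear_combination e5)
    have y6 : Y.e = 0 := eq_zero_of_fixed (hne 4 (by norm_num) (by norm_num)) (by linear_combination e6)
    simp only [y3, y4, y5, y6, mul_zero, zero_mul, add_zero, zero_add, sub_zero] at e7
    have y7 : Y.z = 0 := eq_zero_of_fixed (hne 3 (by norm_num) (by norm_num)) (by linear_combination e7)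
    rw [hY, show Y = 1 from Pat.ext y1 y2 y3 y4 y5 y6 y7, map_one]
  · obtain ⟨k, rfl⟩ : ∃ k, j = 2 + 4 * k := ⟨j / 4, by omega⟩
    exact Or.inr (Or.inr (by rw [show (12 : ℕ) = 6 * 2 from rfl, pow_mul, six_eq_one h81 hr hf, one_pow]))
  · obtain ⟨k, hk⟩ : ∃ k, j + j = 2 + 4 * k := ⟨(j - 1) / 2, by omega⟩
    refine Or.inr (Or.inr ?_)
    rw [show (12 : ℕ) = 2 * 6 from rfl, pow_mul]
    refine six_eq_one h81 (r := r * r ^ 3 ^ j) (j := k) ?_ fun P => ?_
    · rw [mul_pow, hr, one_mul, ← pow_mul, mul_comm, pow_mul, hr, one_pow]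
    · rw [← hk, ← twist_twist, pow_two, SemidirectProduct.mul_right, Subgroup.coe_mul,
        MulAut.mul_apply, hf, hf]

lemma exists_orders [Finite K] (ζ : K) (hζ : ζ ^ 5 = 1) (hζ1 : ζ ≠ 1) :
    (∃ g : Grp h81, orderOf g = 5) ∧ (∃ g : Grp h81, orderOf g = 9) ∧
      ∃ g : Grp h81, orderOf g = 12 := by
  haveI : Fact (Nat.Prime 5) := ⟨Nat.prime_five⟩
  haveI : Fact (Nat.Prime 3) := ⟨Nat.prime_three⟩
  haveI : Fact (Nat.Prime 2) := ⟨Nat.prime_two⟩
  have mk : ∀ (r : K) (j : ℕ), r ^ 5 = 1 → ∃ f : ↥(top h81), ∀ P, f.1 P = twist r j P := by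
    intro r j hr
    have hr0 : r ≠ 0 := by rintro rfl; norm_num at hr
    have hinj : Function.Injective (twist r j) := by
      intro P Q h
      have hi : ∀ {m : ℕ} {s t : K}, r ^ m * s ^ 3 ^ j = r ^ m * t ^ 3 ^ j → s = t := fun h =>
        sub_eq_zero.1 (pow_eq_zero_iff (pow_ne_zero j (by norm_num : (3 : ℕ) ≠ 0)) |>.1
          (by rw [sub_pow_char_pow, mul_left_cancel₀ (pow_ne_zero _ hr0) h, sub_self]))
      have h1 := congrArg Pat.x h
      simp only [twist] at h1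
      refine Pat.ext (hi (m := 1) (by rwa [pow_one])) (hi (congrArg Pat.u h)) (hi (congrArg Pat.a h))
        (hi (congrArg Pat.b h)) (hi (congrArg Pat.c h)) (hi (congrArg Pat.e h)) (hi (congrArg Pat.z h))
    exact ⟨⟨MulEquiv.ofBijective (MonoidHom.mk' (twist r j) (twist_mul hr j))
      (Finite.injective_iff_bijective.1 hinj), r, j, hr, fun P => rfl⟩, fun P => rfl⟩
  have hne9 : ζ ^ 9 ≠ ζ := by
    intro h
    have h4 : ζ ^ 4 = ζ := by rwa [show (9 : ℕ) = 5 + 4 from rfl, pow_add, hζ, one_mul] at h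
    have hζ0 : ζ ≠ 0 := by rintro rfl; norm_num at hζ
    have h3 : ζ ^ 3 = 1 := mul_left_cancel₀ hζ0 (by rw [← pow_succ', h4, mul_one])
    have := orderOf_dvd_of_pow_eq_one h3
    rw [orderOf_eq_prime hζ hζ1] at this
    norm_num at this
  refine ⟨?_, ?_, ?_⟩
  · obtain ⟨f, hf⟩ := mk ζ 0 hζ
    refine ⟨SemidirectProduct.inr f, ?_⟩
    rw [orderOf_injective _ SemidirectProduct.inr_injective]
    refine orderOf_eq_prime (Subtype.ext (MulEquiv.ext fun P => ?_)) fun h => hζ1 ?_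
    · simp only [pow_succ, pow_zero, one_mul, Subgroup.coe_mul, MulAut.mul_apply, hf,
        twist_twist, pow_one, Nat.add_zero, OneMemClass.coe_one, MulAut.one_apply]
      rw [show ζ * (ζ * (ζ * (ζ * ζ))) = ζ ^ 5 by ring, hζ, twist_zero]
    · have := congrArg Pat.x ((hf ⟨1, 0, 0, 0, 0, 0, 0⟩).symm.trans (by rw [h]))
      simpa [twist] using this
  · refine ⟨SemidirectProduct.inl ⟨ζ, 1, 0, 0, 0, 0, 0⟩, ?_⟩
    rw [orderOf_injective _ SemidirectProduct.inl_injective]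
    refine orderOf_eq_prime_pow (p := 3) (n := 1) ?_ (pow_nine _)
    rw [pow_one, pow_succ, pow_two, cube]
    intro h
    have := congrArg Pat.z h
    simp only [one_def, one_pow, mul_one, sub_eq_zero] at this
    exact hne9 this.symm
  · obtain ⟨f, hf⟩ := mk 1 1 (one_pow 5)
    set Z : Pat K := ⟨0, 0, 0, 0, 0, 0, 1⟩
    have hfix : f.1 Z = Z := by rw [hf]; ext <;> simp [twist, Z]
    refine ⟨SemidirectProduct.inl Z * SemidirectProduct.inr f, ?_⟩
    have hcomm : Commute (SemidirectProduct.inl Z : Grp h81) (SemidirectProduct.inr f) := by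
      refine SemidirectProduct.ext ?_ ?_ <;> simp [hfix]
    have hZ : orderOf (SemidirectProduct.inl Z : Grp h81) = 3 := by
      rw [orderOf_injective _ SemidirectProduct.inl_injective]
      refine orderOf_eq_prime (pow_three_central 1) fun h => ?_
      simpa [one_def, Z] using congrArg Pat.z h
    have hfo : orderOf (SemidirectProduct.inr f : Grp h81) = 4 := by
      rw [orderOf_injective _ SemidirectProduct.inr_injective]
      refine orderOf_eq_prime_pow (p := 2) (n := 1) (fun h => hne9 ?_)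
        (Subtype.ext (MulEquiv.ext fun P => ?_))
      · have := congrArg (fun F : ↥(top h81) => (F.1 ⟨ζ, 0, 0, 0, 0, 0, 0⟩).x) h
        simpa [pow_two, hf, twist_twist, twist, ← pow_mul] using this
      · simp only [show (2 : ℕ) ^ (1 + 1) = 4 from rfl, pow_succ, pow_zero, one_mul,
          Subgroup.coe_mul, MulAut.mul_apply, hf, twist_twist, one_pow, mul_one, OneMemClass.coe_one,
          MulAut.one_apply]
        rw [show 1 + (1 + (1 + 1)) = 0 + 4 * 1 from rfl, twist_periodic h81, twist_zero]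
    rw [hcomm.orderOf_mul_eq_mul_orderOf_of_coprime (by rw [hZ, hfo]; norm_num), hZ, hfo]

end Cfsg.Agent.SpectrumPSpFourThree59
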