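import Mathlib

/-!
Two small group lemmas for the Y555 presentation: symmetry of the spider relation, and the affine plane
of order three has no binary embedding.
-/

set_option autoImplicit false

namespace Cfsg.Agent.SpiderKill78

variable {K : Type*} [Group K]

theorem pow_rot {x y : K} {n : ℕ} (h : (x * y) ^ n = 1) : (y * x) ^ n = 1 := by
  have : y * x = x⁻¹ * (x * y) * (x⁻¹)⁻¹ := by group
  rw [this, conj_pow, h, mul_one, inv_inv, inv_mul_cancel]

/-- The spider relation does not depend on the cyclic order of the legs. -/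
theorem spider_swap {a b1 c1 b2 c2 b3 c3 : K} (ha : a * a = 1)
    (hb1 : b1 * b1 = 1) (hc1 : c1 * c1 = 1) (hb2 : b2 * b2 = 1) (hc2 : c2 * c2 = 1)
    (hb3 : b3 * b3 = 1) (hc3 : c3 * c3 = 1)
    (a1 : Commute c1 a) (a2 : Commute c2 a) (a3 : Commute c3 a)
    (c12 : Commute c1 c2) (c13 : Commute c1 c3) (c23 : Commute c2 c3)
    (d12 : Commute c1 b2) (d13 : Commute c1 b3) (d21 : Commute c2 b1) (d23 : Commute c2 b3)
    (d31 : Commute c3 b1) (d32 : Commute c3 b2) {n : ℕ}
    (h : (a * b1 * c1 * a * b2 * c2 * a * b3 * c3) ^ n = 1) :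
    (a * b2 * c2 * a * b1 * c1 * a * b3 * c3) ^ n = 1 := by
  have iv : ∀ {x : K}, x * x = 1 → x⁻¹ = x := fun hx => (eq_inv_of_mul_eq_one_left hx).symm
  have h1 : (c3 * b3 * a * (c2 * b2) * a * (c1 * b1) * a) ^ n = 1 := by
    have e : c3 * b3 * a * (c2 * b2) * a * (c1 * b1) * a =
        (a * b1 * c1 * a * b2 * c2 * a * b3 * c3)⁻¹ := by
      simp only [mul_inv_rev, iv ha, iv hb1, iv hc1, iv hb2, iv hc2, iv hb3, iv hc3, mul_assoc]
    rw [e, inv_pow, h, inv_one]
  let f := (MulAut.conj (c1 * c2 * c3)).toMonoidHom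
  have fix : ∀ {y : K}, Commute c1 y → Commute c2 y → Commute c3 y → f y = y := by
    intro y h1 h2 h3
    show c1 * c2 * c3 * y * (c1 * c2 * c3)⁻¹ = y
    rw [((h1.mul_left h2).mul_left h3).eq, mul_inv_cancel_right]
  have leg : ∀ {c c' c'' b : K}, c * c = 1 → c1 * c2 * c3 = c * (c' * c'') →
      Commute c' c → Commute c'' c → Commute c' b → Commute c'' b → f (c * b) = b * c := by
    intro c c' c'' b hc e h1 h2 h3 h4
    show c1 * c2 * c3 * (c * b) * (c1 * c2 * c3)⁻¹ = b * c
    have hm : Commute (c' * c'') (c * b) := (h1.mul_left h2).mul_right (h3.mul_left h4)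
    rw [e, mul_inv_rev, mul_assoc c, hm.eq, iv hc]
    calc c * (c * b * (c' * c'')) * ((c' * c'')⁻¹ * c) = c * c * b * c := by group
      _ = b * c := by rw [hc, one_mul]
  have hf := congrArg f h1
  rw [map_pow, map_one] at hf
  rw [map_mul, map_mul, map_mul, map_mul, map_mul,
    leg hc3 (c' := c1) (c'' := c2) (by rw [mul_assoc, ← mul_assoc c3, (c13.symm).eq, mul_assoc c1, c23.symm.eq])
      c13 c23 d13 d23,
    leg hc2 (c' := c1) (c'' := c3) (by rw [c12.eq, mul_assoc]) c12 c23.symm d12 d32,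
    leg hc1 (c' := c2) (c'' := c3) (by rw [mul_assoc]) c12.symm c13.symm d21 d31,
    fix a1 a2 a3] at hf
  have r1 : (a * (b3 * c3) * a * (b2 * c2) * a * (b1 * c1)) ^ n = 1 := by
    have := pow_rot (x := b3 * c3 * a * (b2 * c2) * a * (b1 * c1)) (y := a) hf
    simpa only [mul_assoc] using this
  have r2 := pow_rot (x := a * (b3 * c3)) (y := a * (b2 * c2) * a * (b1 * c1))
    (by simpa only [mul_assoc] using r1)
  simpa only [mul_assoc] using r2

/-- An element carrying a binary embedding of an affine plane of order three is trivial. -/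
theorem plane_kill {u A B c : K} (hu : u * u = 1) (hA : A ^ 3 = 1) (hB : B ^ 3 = 1)
    (hcA : Commute c A) (hcB : Commute c B) (hcu : Commute c u) (hAB : A * B = c * (B * A))
    (lA : (u * A) ^ 3 = 1) (lB : (u * B) ^ 3 = 1)
    (lC : (u * (A * B * c)) ^ 3 = 1) (lD : (u * (A * B⁻¹ * c ^ 2)) ^ 3 = 1)
    (hC : (A * B * c) ^ 3 = 1) (hD : (A * B⁻¹ * c ^ 2) ^ 3 = 1) : u = 1 := by
  -- the translates
  let P : K → K := fun g => g * u * g⁻¹
  have Pmul : ∀ g h, P (g * h) = g * P h * g⁻¹ := fun g h => by simp only [P]; group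
  have Pc : ∀ g h, Commute h u → P (g * h) = P g := fun g h hh => by
    simp only [P, mul_inv_rev]
    rw [mul_assoc g h u, hh.eq]
    group
  have Psq : ∀ g, P g * P g = 1 := fun g => by
    simp only [P]
    calc g * u * g⁻¹ * (g * u * g⁻¹) = g * (u * u) * g⁻¹ := by group
      _ = 1 := by rw [hu, mul_one, mul_inv_cancel]
  have line : ∀ {D : K}, D ^ 3 = 1 → (u * D) ^ 3 = 1 → ∀ g,
      P g * P (g * D) * P (g * (D * D)) = 1 := by
    intro D hD hl g
    simp only [P]
    calc g * u * g⁻¹ * (g * D * u * (g * D)⁻¹) * (g * (D * D) * u * (g * (D * D))⁻¹)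
        = g * ((u * D) ^ 3 * (D ^ 3)⁻¹) * g⁻¹ := by simp only [pow_succ, pow_zero]; group
      _ = 1 := by rw [hl, hD, inv_one, mul_one, mul_one, mul_inv_cancel]
  have comm3 : ∀ {x y z : K}, x * x = 1 → y * y = 1 → z * z = 1 → x * y * z = 1 →
      Commute x y ∧ z = x * y := by
    intro x y z hx hy hz h
    have e : z = x * y :=
      ((eq_inv_of_mul_eq_one_left h).trans (eq_inv_of_mul_eq_one_left hz).symm).symm
    refine ⟨?_, e⟩
    have h2 : (x * y) * (x * y) = 1 := e ▸ hz
    show x * y = y * x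
    calc x * y = x * (x * y * (x * y)) * y := by rw [h2, mul_one]
      _ = (x * x) * (y * x) * (y * y) := by group
      _ = y * x := by rw [hx, hy, one_mul, mul_one]
  have cAB : Commute c (A * B) := hcA.mul_right hcB
  have eBA : B * A = A * B * c⁻¹ := by
    rw [← (cAB.inv_left).eq, hAB, inv_mul_cancel_left]
  have A2 : A * A = A⁻¹ := eq_inv_of_mul_eq_one_left (by rw [← hA]; simp [pow_succ])
  have B2 : B * B = B⁻¹ := eq_inv_of_mul_eq_one_left (by rw [← hB]; simp [pow_succ])
  have hcu' : Commute c⁻¹ u := hcu.inv_left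
  -- lines
  have L0 := line hB lB 1
  have LC := line hC lC 1
  have LD := line hD lD 1
  have LA1 := line hA lA B
  have LA2 := line hA lA (B * B)
  have LB1 := line hB lB A
  have LD2 := line hD lD (B * B)
  simp only [one_mul] at L0 LC LD
  -- the nine points
  have e1 : P (1 : K) = u := by simp [P]
  have eAB : P (A * B * c) = P (A * B) := Pc _ _ hcu
  have eBA' : P (B * A) = P (A * B) := by rw [eBA]; exact Pc _ _ hcu'
  have eBAA : P (B * (A * A)) = P (A * A * B) := by
    have : B * (A * A) = A * A * B * (c⁻¹ * c⁻¹) := by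
      calc B * (A * A) = (B * A) * A := by group
        _ = A * B * c⁻¹ * A := by rw [eBA]
        _ = A * (B * A) * c⁻¹ := by rw [mul_assoc (A * B), hcA.inv_left.eq]; group
        _ = A * (A * B * c⁻¹) * c⁻¹ := by rw [eBA]
        _ = _ := by group
    rw [this]
    exact Pc _ _ (hcu'.mul_left hcu')
  have eBBA : P (B * B * A) = P (A * (B * B)) := by
    have : B * B * A = A * (B * B) * (c⁻¹ * c⁻¹) := by
      calc B * B * A = B * (B * A) := by group
        _ = B * (A * B * c⁻¹) := by rw [eBA]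
        _ = (B * A) * B * c⁻¹ := by group
        _ = A * B * c⁻¹ * B * c⁻¹ := by rw [eBA]
        _ = _ := by rw [mul_assoc (A * B), hcB.inv_left.eq]; group
    rw [this]
    exact Pc _ _ (hcu'.mul_left hcu')
  have eBBAA : P (B * B * (A * A)) = P (A * A * (B * B)) := by
    have : B * B * (A * A) = A * A * (B * B) * (c⁻¹ * c⁻¹ * (c⁻¹ * c⁻¹)) := by
      have h1 : B * B * A = A * (B * B) * (c⁻¹ * c⁻¹) := by
        calc B * B * A = B * (B * A) := by group
          _ = B * (A * B * c⁻¹) := by rw [eBA]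
          _ = (B * A) * B * c⁻¹ := by group
          _ = A * B * c⁻¹ * B * c⁻¹ := by rw [eBA]
          _ = _ := by rw [mul_assoc (A * B), hcB.inv_left.eq]; group
      calc B * B * (A * A) = (B * B * A) * A := by group
        _ = A * (B * B) * (c⁻¹ * c⁻¹) * A := by rw [h1]
        _ = A * (B * B * A) * (c⁻¹ * c⁻¹) := by
            rw [mul_assoc (A * (B * B)), (hcA.inv_left.mul_left hcA.inv_left).eq]; group
        _ = A * (A * (B * B) * (c⁻¹ * c⁻¹)) * (c⁻¹ * c⁻¹) := by rw [h1]
        _ = _ := by group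
    rw [this]
    exact Pc _ _ ((hcu'.mul_left hcu').mul_left (hcu'.mul_left hcu'))
  have eC2 : P (A * B * c * (A * B * c)) = P (A * A * (B * B)) := by
    have : A * B * c * (A * B * c) = A * A * (B * B) * (c⁻¹ * (c * c)) := by
      calc A * B * c * (A * B * c) = A * B * (A * B) * (c * c) := by
            rw [mul_assoc (A * B) c, ← mul_assoc c (A * B) c, cAB.eq]; group
        _ = A * (B * A) * B * (c * c) := by group
        _ = A * (A * B * c⁻¹) * B * (c * c) := by rw [eBA]
        _ = A * A * B * (c⁻¹ * B) * (c * c) := by group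
        _ = _ := by rw [hcB.inv_left.eq]; group
    rw [this]
    exact Pc _ _ (hcu'.mul_left (hcu.mul_left hcu))
  have cD : Commute c (A * B⁻¹) := hcA.mul_right hcB.inv_right
  have eD1 : P (A * B⁻¹ * c ^ 2) = P (A * (B * B)) := by
    rw [B2]; exact Pc _ _ (hcu.pow_left 2)
  have eBinvA : B⁻¹ * A = A * B⁻¹ * c := by
    calc B⁻¹ * A = B⁻¹ * (A * B) * B⁻¹ := by group
      _ = B⁻¹ * (c * (B * A)) * B⁻¹ := by rw [hAB]
      _ = (B⁻¹ * c) * B * A * B⁻¹ := by group
      _ = c * A * B⁻¹ := by rw [← hcB.inv_right.eq]; group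
      _ = A * B⁻¹ * c := by rw [mul_assoc, cD.eq]
  have eD2 : P (A * B⁻¹ * c ^ 2 * (A * B⁻¹ * c ^ 2)) = P (A * A * B) := by
    have : A * B⁻¹ * c ^ 2 * (A * B⁻¹ * c ^ 2) = A * A * B * (c * (c ^ 2 * c ^ 2)) := by
      calc A * B⁻¹ * c ^ 2 * (A * B⁻¹ * c ^ 2) = A * B⁻¹ * (A * B⁻¹) * (c ^ 2 * c ^ 2) := by
            rw [mul_assoc (A * B⁻¹) (c ^ 2), ← mul_assoc (c ^ 2) (A * B⁻¹), (cD.pow_left 2).eq]
            group
        _ = A * (B⁻¹ * A) * B⁻¹ * (c ^ 2 * c ^ 2) := by group
        _ = A * A * B⁻¹ * (c * B⁻¹) * (c ^ 2 * c ^ 2) := by rw [eBinvA]; group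
        _ = A * A * (B⁻¹ * B⁻¹) * (c * (c ^ 2 * c ^ 2)) := by rw [hcB.inv_right.eq]; group
        _ = _ := by rw [← mul_inv_rev, B2, inv_inv]
    rw [this]
    exact Pc _ _ (hcu.mul_left ((hcu.pow_left 2).mul_left (hcu.pow_left 2)))
  rw [e1] at L0 LC LD
  rw [eAB, eC2] at LC
  rw [eD1, eD2] at LD
  rw [eBA', eBAA] at LA1
  rw [eBBA, eBBAA] at LA2
  have c0 := comm3 hu (Psq B) (Psq (B * B)) L0
  have c1 := comm3 hu (Psq _) (Psq _) LC
  have c2 := comm3 hu (Psq _) (Psq _) LD
  have c3 := comm3 (Psq _) (Psq _) (Psq _) LA1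
  have c4 := comm3 (Psq _) (Psq _) (Psq _) LA2
  have c5 := comm3 (Psq A) (Psq _) (Psq _) LB1
  set p01 := P B
  set p02 := P (B * B)
  set p11 := P (A * B)
  set p12 := P (A * (B * B))
  -- commutations not on the previous lines
  have k0 : Commute p01 p02 := by
    have h := L0
    have hz : p02 = u * p01 := c0.2
    rw [hz]
    exact (Commute.mul_right c0.1.symm (Commute.refl _))
  have k5 : Commute p11 p12 := by
    have hz : p12 = P A * p11 := c5.2
    rw [hz]
    exact (Commute.mul_right c5.1.symm (Commute.refl _))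
  have k9 : Commute p02 p11 := by
    have hl := LD2
    have e2 : P (B * B * (A * B⁻¹ * c ^ 2)) = p11 := by
      have : B * B * (A * B⁻¹ * c ^ 2) = A * B * (c⁻¹ * c⁻¹ * c ^ 2) := by
        have h1 : B * B * A = A * (B * B) * (c⁻¹ * c⁻¹) := by
          calc B * B * A = B * (B * A) := by group
            _ = B * (A * B * c⁻¹) := by rw [eBA]
            _ = (B * A) * B * c⁻¹ := by group
            _ = A * B * c⁻¹ * B * c⁻¹ := by rw [eBA]
            _ = _ := by rw [mul_assoc (A * B), hcB.inv_left.eq]; group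
        calc B * B * (A * B⁻¹ * c ^ 2) = (B * B * A) * B⁻¹ * c ^ 2 := by group
          _ = A * (B * B) * (c⁻¹ * c⁻¹) * B⁻¹ * c ^ 2 := by rw [h1]
          _ = _ := by
            rw [mul_assoc (A * (B * B)) (c⁻¹ * c⁻¹),
              ((hcB.inv_left.mul_left hcB.inv_left).inv_right).eq]
            group
      rw [this]
      exact Pc _ _ ((hcu'.mul_left hcu').mul_left (hcu.pow_left 2))
    rw [e2] at hl
    exact (comm3 (Psq _) (Psq _) (Psq _) hl).1
  -- u = p01 p02 = p11 p02 p12 = p12 p01 p11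
  have u0 : u = p01 * p02 := by rw [c0.2, ← mul_assoc, ← c0.1.eq, mul_assoc, Psq B, mul_one]
  have u1 : u = p11 * (p02 * p12) := by
    rw [← c4.2, c1.2, ← mul_assoc, ← c1.1.eq, mul_assoc, Psq, mul_one]
  have u2 : u = p12 * (p01 * p11) := by
    rw [← c3.2, c2.2, ← mul_assoc, ← c2.1.eq, mul_assoc, Psq, mul_one]
  have h01 : p01 = p11 * p12 := by
    have h := u0.symm.trans u1
    have h2 : p11 * (p02 * p12) = p02 * (p11 * p12) := by
      rw [← mul_assoc p11 p02 p12, ← k9.eq, mul_assoc p02 p11 p12]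
    rw [h2, k0.eq] at h
    exact mul_left_cancel h
  calc u = p12 * (p01 * p11) := u2
    _ = p12 * (p11 * p12 * p11) := by rw [h01]
    _ = p12 * p12 * (p11 * p11) := by rw [k5.eq]; group
    _ = 1 := by rw [Psq, Psq, one_mul]

end Cfsg.Agent.SpiderKill78
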