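import Mathlib
import Cfsg.Prelude.Def_KGroupFacts
import Cfsg.Agent.Lib.StemBasic

/-!
Central extensions split over cyclic coefficient groups: transfer criteria and the voltage
criterion attached to the cosets of a subgroup.
-/

set_option autoImplicit false

namespace Cfsg.Agent.SplitVoltage

open Subgroup
open scoped commutatorElement

universe u w u'

/-- every character of the kernel of a finite central extension of `G`, with values in a cyclic
group of order `m`, extends to the extension -/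
def CenSplit (m : ℕ) (G : Type u) [Group G] : Prop :=
  ∀ (Γ : Type u) [Group Γ] [Finite Γ] (σ : Γ →* G), Function.Surjective σ →
    σ.ker ≤ center Γ → ∀ χ : σ.ker →* Multiplicative (ZMod m),
    ∃ ψ : Γ →* Multiplicative (ZMod m), ∀ z : σ.ker, ψ z = χ z

theorem censplit_of_equiv {m : ℕ} {G : Type u} {G' : Type u} [Group G] [Group G'] (e : G ≃* G')
    (h : CenSplit m G) : CenSplit m G' := by
  intro Γ _ _ σ hs hc χ
  have hk : ((e.symm.toMonoidHom).comp σ).ker = σ.ker := by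
    ext x; simp [MonoidHom.mem_ker]
  obtain ⟨ψ, hψ⟩ := h Γ ((e.symm.toMonoidHom).comp σ) (e.symm.surjective.comp hs) (hk ▸ hc)
    (χ.comp (MulEquiv.subgroupCongr hk).toMonoidHom)
  refine ⟨ψ, fun z => ?_⟩
  exact (hψ ⟨z, hk.symm ▸ z.2⟩).trans (congrArg χ (Subtype.ext rfl))

theorem exists_mul_mod_one {m o : ℕ} [NeZero m] (h : Nat.Coprime o m) :
    ∃ k : ℕ, ((o * k : ℕ) : ZMod m) = -1 := by
  refine ⟨(-((o : ZMod m)⁻¹)).val, ?_⟩
  rw [Nat.cast_mul, ZMod.natCast_zmod_val, mul_neg, ZMod.coe_mul_inv_eq_one o h]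

theorem censplit_of_coprime {m : ℕ} [NeZero m] {G : Type u} [Group G]
    (h : Nat.Coprime (Nat.card G) m) : CenSplit m G := by
  intro Γ _ _ σ hs hc χ
  have key : ∀ z : σ.ker, ∀ (k : ℕ) (g : Γ), g⁻¹ * (z : Γ) ^ k * g = (z : Γ) ^ k := fun z k g => by
    rw [mul_assoc, ← Subgroup.mem_center_iff.1 (pow_mem (hc z.2) k) g, inv_mul_cancel_left]
  have hV : ∀ z : σ.ker, MonoidHom.transfer χ (z : Γ) = χ z ^ σ.ker.index := by
    intro z
    rw [MonoidHom.transfer_eq_pow χ (z : Γ) (fun k g hk => by rw [key] at hk; exact key z k g),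
      ← map_pow]
    exact congrArg χ (Subtype.ext rfl)
  have hidx : σ.ker.index = Nat.card G := by
    rw [Subgroup.index_ker, MonoidHom.range_eq_top.2 hs, Subgroup.card_top]
  obtain ⟨k, hk⟩ := exists_mul_mod_one h
  refine ⟨((MonoidHom.transfer χ) ^ k)⁻¹, fun z => ?_⟩
  rw [MonoidHom.inv_apply, MonoidHom.pow_apply, hV, hidx, ← pow_mul]
  apply Multiplicative.toAdd.injective
  rw [toAdd_inv, toAdd_pow, nsmul_eq_mul, hk, neg_one_mul, neg_neg]

theorem eq_one_of_mem_commutator {Γ A : Type*} [Group Γ] [CommGroup A] (ψ : Γ →* A) {z : Γ}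
    (hz : z ∈ commutator Γ) : ψ z = 1 :=
  MonoidHom.mem_ker.1 (Abelianization.commutator_subset_ker ψ hz)

/-- A finite group has trivial multiplier once, for each prime, either characters with values
modulo that prime extend or its square does not divide the order. -/
theorem trivial_multiplier {G : Type u} [Group G] [Finite G]
    (h : ∀ p : ℕ, p.Prime → p ^ 2 ∣ Nat.card G → CenSplit p G) :
    Cfsg.HasCyclicSchurMultiplier G 1 := by
  have hbot : ∀ {Γ : Type u} [Group Γ] [Finite Γ] (σ : Γ →* G),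
      Cfsg.IsStemExtension σ → σ.ker = ⊥ := by
    intro Γ _ _ σ hσ
    refine StemBasic.ker_eq_bot_of_primes fun p hp z hz hzo => ?_
    haveI := Fact.mk hp
    have hsplit : p ^ 2 ∣ Nat.card G ∨ ¬ p ∣ Nat.card G → CenSplit p G := by
      rintro (h2 | h1)
      · exact h p hp h2
      · exact censplit_of_coprime ((Nat.Coprime.symm) ((hp.coprime_iff_not_dvd).2 h1))
    by_cases h2 : p ^ 2 ∣ Nat.card G ∨ ¬ p ∣ Nat.card G
    · obtain ⟨M, hM⟩ : ∃ M : Subgroup σ.ker, M.index = p := by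
        have hp1 : p ∣ Nat.card σ.ker := hzo ▸ StemBasic.orderOf_dvd_card_ker hz
        exact exists_index_eq_prime hσ.2.1 hp1
      have hMn : M.Normal := by
        constructor
        intro a ha g
        have : g * a = a * g := Subtype.ext (mem_center_iff.1 (hσ.2.1 a.2) g)
        rwa [this, mul_inv_cancel_right]
      have hcard : Nat.card (σ.ker ⧸ M) = p := hM
      haveI : IsCyclic (σ.ker ⧸ M) := isCyclic_of_prime_card hcard
      let e : σ.ker ⧸ M ≃* Multiplicative (ZMod p) :=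
        mulEquivOfCyclicCardEq (by simp [hcard])
      obtain ⟨ψ, hψ⟩ := hsplit h2 Γ σ hσ.1 hσ.2.1 (e.toMonoidHom.comp (QuotientGroup.mk' M))
      have htop : M = ⊤ := by
        rw [Subgroup.eq_top_iff']
        intro w
        have := hψ w
        rw [eq_one_of_mem_commutator ψ (hσ.2.2 w.2)] at this
        have h1 : QuotientGroup.mk' M w = 1 := e.injective (by simpa using this.symm)
        exact (QuotientGroup.eq_one_iff w).1 h1
      rw [htop, Subgroup.index_top] at hM
      exact hp.one_lt.ne hM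
    · rw [not_or, not_not] at h2
      obtain ⟨a, ha⟩ := exists_prime_orderOf_dvd_card' p h2.2
      have hcop : Nat.Coprime (orderOf z) (zpowers a).index := by
        rw [hzo, hp.coprime_iff_not_dvd]
        rintro ⟨k, hk⟩
        refine h2.1 ⟨k, ?_⟩
        rw [← Subgroup.card_mul_index (zpowers a), Nat.card_zpowers, ha, hk]
        ring
      have h1 := StemBasic.eq_one_of_kerFree hσ (StemBasic.kerFree_zpowers σ hσ.2.1 a) hz hcop
      rw [h1, orderOf_one] at hzo
      exact hp.one_lt.ne hzo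
  constructor
  · refine ⟨G, inferInstance, inferInstance, MonoidHom.id G, ⟨fun x => ⟨x, rfl⟩, ?_, ?_⟩, ?_⟩
    · rw [MonoidHom.ker_id]; exact bot_le
    · rw [MonoidHom.ker_id]; exact bot_le
    · haveI : Subsingleton (MonoidHom.id G).ker := by rw [MonoidHom.ker_id]; infer_instance
      haveI : Unique (MonoidHom.id G).ker := uniqueOfSubsingleton 1
      haveI : Unique (Multiplicative (ZMod 1)) := uniqueOfSubsingleton 1
      exact ⟨MulEquiv.ofUnique⟩
  · intro Γ _ _ σ hσ
    haveI : Subsingleton σ.ker := by rw [hbot σ hσ]; infer_instance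
    exact ⟨1, fun x => ⟨1, Subsingleton.elim _ _⟩⟩
where
  exists_index_eq_prime {Γ : Type u} [Group Γ] [Finite Γ] {σ : Γ →* G} (hc : σ.ker ≤ center Γ)
      {p : ℕ} [hp : Fact p.Prime] (hdvd : p ∣ Nat.card σ.ker) : ∃ M : Subgroup σ.ker, M.index = p := by
    letI : CommGroup σ.ker :=
      { (inferInstance : Group σ.ker) with
        mul_comm := fun a b => Subtype.ext (mem_center_iff.1 (hc b.2) a) }
    -- a subgroup of index `p` exists in a finite abelian group of order divisible by `p`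
    let f : σ.ker →* σ.ker := powMonoidHom p
    obtain ⟨a, ha⟩ := exists_prime_orderOf_dvd_card' p hdvd
    have hne : ¬ Function.Injective f := by
      intro hf
      have : f a = f 1 := by simp [f, ← ha, pow_orderOf_eq_one]
      rw [hf this, orderOf_one] at ha
      exact hp.out.one_lt.ne ha
    have hpg : IsPGroup p (σ.ker ⧸ f.range) := by
      intro x
      obtain ⟨y, rfl⟩ := QuotientGroup.mk_surjective x
      exact ⟨1, by rw [pow_one, ← QuotientGroup.mk_pow, QuotientGroup.eq_one_iff]; exact ⟨y, rfl⟩⟩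
    obtain ⟨n, hn⟩ := hpg.exists_card_eq
    obtain ⟨k, rfl⟩ : ∃ k, n = k + 1 := by
      refine ⟨n - 1, (Nat.sub_add_cancel (Nat.pos_of_ne_zero ?_)).symm⟩
      rintro rfl
      apply hne
      rw [Finite.injective_iff_surjective, ← MonoidHom.range_eq_top, ← Subgroup.index_eq_one]
      simpa [Subgroup.index] using hn
    obtain ⟨K, hK⟩ := Sylow.exists_subgroup_card_pow_prime (G := σ.ker ⧸ f.range) p (n := k)
      (by rw [hn]; exact pow_dvd_pow p (Nat.le_succ k))
    refine ⟨K.comap (QuotientGroup.mk' f.range), ?_⟩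
    rw [Subgroup.index_comap_of_surjective _ (QuotientGroup.mk'_surjective _)]
    have := K.card_mul_index
    rw [hK, hn, pow_succ] at this
    exact Nat.eq_of_mul_eq_mul_left (pow_pos hp.out.pos k) this

/-! ### words and walks -/

/-- the product of a word, first letter rightmost -/
def wprod {Γ : Type*} [Group Γ] (x : ℕ → Γ) : List (ℕ × Bool) → Γ
  | [] => 1
  | (i, b) :: l => wprod x l * (if b then x i else (x i)⁻¹)

theorem map_wprod {Γ G : Type*} [Group Γ] [Group G] (σ : Γ →* G) (y : ℕ → Γ) (x : ℕ → G)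
    {n : ℕ} (h : ∀ i < n, σ (y i) = x i) :
    ∀ l : List (ℕ × Bool), (∀ t ∈ l, t.1 < n) → σ (wprod y l) = wprod x l
  | [], _ => map_one σ
  | (i, b) :: l, hl => by
    rw [wprod, wprod, map_mul, map_wprod σ y x h l fun t ht => hl t (List.mem_cons_of_mem _ ht)]
    cases b <;> simp [h i (hl (i, _) List.mem_cons_self)]

theorem wprod_replicate {Γ : Type*} [Group Γ] (x : ℕ → Γ) (i : ℕ) :
    ∀ o : ℕ, wprod x (List.replicate o (i, true)) = x i ^ o
  | 0 => by simp [wprod]
  | o + 1 => by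
    rw [List.replicate_succ, wprod, wprod_replicate x i o, if_pos rfl, ← pow_succ]

/-- the section along a tree -/
noncomputable def sec {Γ : Type*} [Group Γ] (L : ℕ → Γ) (par : ℕ → ℕ × ℕ) : ℕ → Γ
  | c => if _h : (par c).2 < c then L (par c).1 * sec L par (par c).2 else 1
termination_by c => c

theorem wprod_append {Γ : Type*} [Group Γ] (x : ℕ → Γ) :
    ∀ l l' : List (ℕ × Bool), wprod x (l ++ l') = wprod x l' * wprod x l
  | [], l' => by simp [wprod]
  | t :: l, l' => by
    obtain ⟨i, b⟩ := t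
    rw [List.cons_append, wprod, wprod, wprod_append x l l', mul_assoc]

/-- end point of a walk -/
def wend (nx pv : ℕ → ℕ → ℕ) : ℕ → List (ℕ × Bool) → ℕ
  | c, [] => c
  | c, (i, b) :: l => wend nx pv (if b then nx i c else pv i c) l

/-- voltage along a walk -/
def wsum {A : Type*} [AddCommGroup A] (nx pv : ℕ → ℕ → ℕ) (v : ℕ → ℕ → A) :
    ℕ → List (ℕ × Bool) → A
  | _, [] => 0
  | c, (i, b) :: l =>
    (if b then v i c else -v i (pv i c)) + wsum nx pv v (if b then nx i c else pv i c) l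

variable {m : ℕ} [NeZero m] {G : Type u} [Group G] {α : Type w} [MulAction G α]

/-- The condition on the stabiliser from an extension property of all its central extensions. -/
theorem hH_of_forall {α : Type w} [MulAction G α] (a : α) {Γ : Type u} [Group Γ] {A : Type u'}
    [CommGroup A] (σ : Γ →* G) (hs : Function.Surjective σ) (hc : σ.ker ≤ center Γ)
    (χ : σ.ker →* A)
    (hH : ∀ σH : (MulAction.stabilizer G a).comap σ →* MulAction.stabilizer G a,
      Function.Surjective σH → σH.ker ≤ center _ → ∀ χH : σH.ker →* A,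
      ∃ ψ : (MulAction.stabilizer G a).comap σ →* A, ∀ z : σH.ker, ψ z = χH z) :
    ∃ ψ : (MulAction.stabilizer G a).comap σ →* A,
      ∀ w : (MulAction.stabilizer G a).comap σ, ∀ hw : σ w = 1, ψ w = χ ⟨w, hw⟩ := by
  set H := MulAction.stabilizer G a
  let σH : H.comap σ →* H := (σ.comp (H.comap σ).subtype).codRestrict H fun w => w.2
  have hσHs : Function.Surjective σH := fun h => by
    obtain ⟨g, hg⟩ := hs h
    exact ⟨⟨g, by rw [Subgroup.mem_comap, hg]; exact h.2⟩, Subtype.ext hg⟩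
  have hkH : ∀ w : H.comap σ, w ∈ σH.ker ↔ σ w = 1 := fun w => by
    rw [MonoidHom.mem_ker, Subtype.ext_iff]; rfl
  let χH : σH.ker →* A :=
    χ.comp
      { toFun := fun w => ⟨(w : H.comap σ), (hkH _).1 w.2⟩
        map_one' := rfl
        map_mul' := fun _ _ => rfl }
  obtain ⟨ψH, hψH⟩ := hH σH hσHs (fun w hw => mem_center_iff.2 fun g => Subtype.ext
    (mem_center_iff.1 (hc (MonoidHom.mem_ker.2 ((hkH w).1 hw))) g)) χH
  exact ⟨ψH, fun w hw => hψH ⟨w, (hkH w).2 hw⟩⟩


/-- The general voltage bound. -/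
theorem voltage_main_sq [Finite G] (n N : ℕ) (hN : 0 < N) (x : ℕ → G) (nx pv : ℕ → ℕ → ℕ)
    (obj : ℕ → α) (par : ℕ → ℕ × ℕ) (rels : List (List (ℕ × Bool))) (npow : ℕ)
    (hgen : Subgroup.closure (x '' Set.Iio n) = ⊤)
    (hinj : ∀ c < N, ∀ d < N, obj c = obj d → c = d)
    (hnx : ∀ i < n, ∀ c < N, nx i c < N ∧ x i • obj c = obj (nx i c))
    (hpv : ∀ i < n, ∀ c < N, pv i c < N ∧ nx i (pv i c) = c)
    (hpar : ∀ c < N, 0 < c → (par c).2 < c ∧ (par c).1 < n ∧ nx (par c).1 (par c).2 = c)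
    (hrel : ∀ l ∈ rels, (∀ t ∈ l, t.1 < n) ∧ wprod x l = 1)
    (hcop : ∀ i < n, Nat.Coprime (orderOf (x i)) m)
    {Γ : Type u} [Group Γ] [Finite Γ] (σ : Γ →* G) (hs : Function.Surjective σ)
    (hc : σ.ker ≤ center Γ) {A : Type u'} [CommGroup A] (hA : ∀ a : A, a ^ m = 1)
    (χ : σ.ker →* A)
    (hpow : ∀ r < npow, (∃ o i : ℕ, rels.getD r [] = List.replicate o (i, true) ∧
      x i ^ o = 1 ∧ orderOf (x i) = o) ∨ ∃ w : List (ℕ × Bool), rels.getD r [] = w ++ w ∧
        ∀ (y : Γ) (hy : σ (y * y) = 1), σ y = wprod x w → χ ⟨y * y, hy⟩ = 1)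
    (hH : ∃ ψ : (MulAction.stabilizer G (obj 0)).comap σ →* A,
      ∀ w : (MulAction.stabilizer G (obj 0)).comap σ, ∀ hw : σ w = 1, ψ w = χ ⟨w, hw⟩)
    (t : ℕ)
    (hzero : ∀ (v : ℕ → ℕ → Additive A) (e : ℕ → Additive A),
      (∀ c < N, 0 < c → v (par c).1 (par c).2 = 0) →
      (∀ r < rels.length, ∀ c < N, wsum nx pv v c (rels.getD r []) = e r) →
      (∀ r < npow, e r = 0) →
      ∃ u : Additive A, t • u = 0 ∧ ∀ i < n, ∀ c < N, v i c ∈ AddSubgroup.zmultiples u) :
    ∃ u : A, u ^ t = 1 ∧ ∃ U : Subgroup Γ, (∀ g : Γ, ∃ z : σ.ker, g * (z : Γ)⁻¹ ∈ U) ∧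
      ∀ z : σ.ker, (z : Γ) ∈ U → χ z ∈ Subgroup.zpowers u := by
  classical
  have hend : ∀ l : List (ℕ × Bool), (∀ t ∈ l, t.1 < n) → ∀ c < N,
      wend nx pv c l < N ∧ obj (wend nx pv c l) = wprod x l • obj c := by
    intro l
    induction l with
    | nil => intro _ c hcN; exact ⟨hcN, (one_smul G _).symm⟩
    | cons t l ih =>
      intro hl c hcN
      obtain ⟨i, b⟩ := t
      have hi : i < n := hl (i, b) List.mem_cons_self
      have hl' : ∀ t ∈ l, t.1 < n := fun t ht => hl t (List.mem_cons_of_mem _ ht)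
      cases b with
      | true =>
        obtain ⟨h1, h2⟩ := ih hl' (nx i c) (hnx i hi c hcN).1
        simp only [wend, wprod, if_pos]
        exact ⟨h1, by rw [mul_smul, (hnx i hi c hcN).2, h2]⟩
      | false =>
        obtain ⟨hd, hd'⟩ := hpv i hi c hcN
        obtain ⟨h1, h2⟩ := ih hl' (pv i c) hd
        simp only [wend, wprod, Bool.false_eq_true, if_false]
        refine ⟨h1, ?_⟩
        have h3 := (hnx i hi _ hd).2
        rw [hd'] at h3
        rw [mul_smul, ← h3, inv_smul_smul, h2]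
  -- lifts whose power character vanishes
  have hlift : ∀ i, ∃ y : Γ, σ y = x i ∧ (i < n → ∀ hy : σ (y ^ orderOf (x i)) = 1,
      χ ⟨y ^ orderOf (x i), hy⟩ = 1) := by
    intro i
    obtain ⟨g, hg⟩ := hs (x i)
    by_cases hi : i < n
    swap
    · exact ⟨g, hg, fun h => absurd h hi⟩
    obtain ⟨k, hk⟩ := exists_mul_mod_one (hcop i hi)
    set o := orderOf (x i)
    have hgo : σ (g ^ o) = 1 := by rw [map_pow, hg, pow_orderOf_eq_one]
    refine ⟨g * (g ^ o) ^ k, ?_, fun _ hy => ?_⟩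
    · rw [map_mul, map_pow σ (g ^ o), hgo, one_pow, mul_one, hg]
    · have he : (g * (g ^ o) ^ k) ^ o = (g ^ o) ^ (1 + o * k) := by
        rw [← pow_mul, ← pow_succ', ← pow_mul, ← pow_mul]
        congr 1
        ring
      have : (⟨_, hy⟩ : σ.ker) = (⟨g ^ o, hgo⟩ : σ.ker) ^ (1 + o * k) := Subtype.ext (by simpa using he)
      rw [this, map_pow]
      obtain ⟨j, hj⟩ : m ∣ 1 + o * k := (ZMod.natCast_eq_zero_iff _ _).1 (by
        rw [Nat.cast_add, Nat.cast_one, hk, add_neg_cancel])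
      rw [hj, pow_mul, hA, one_pow]
  choose L hLσ hLpow using hlift
  -- the section along the tree
  let s : ℕ → Γ := sec L par
  have hs0 : s 0 = 1 := by
    show sec L par 0 = 1
    rw [sec, dif_neg (Nat.not_lt_zero _)]
  have hsucc : ∀ c < N, 0 < c → s c = L (par c).1 * s (par c).2 := by
    intro c hcN hc0
    show sec L par c = L (par c).1 * sec L par (par c).2
    rw [sec, dif_pos (hpar c hcN hc0).1]
  have hobj : ∀ c, c < N → σ (s c) • obj 0 = obj c := by
    intro c
    induction c using Nat.strong_induction_on with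
    | _ c ih =>
      intro hcN
      rcases Nat.eq_zero_or_pos c with rfl | hc0
      · rw [hs0, map_one, one_smul]
      · obtain ⟨h1, h2, h3⟩ := hpar c hcN hc0
        rw [hsucc c hcN hc0, map_mul, hLσ, mul_smul, ih _ h1 (h1.trans hcN),
          (hnx _ h2 _ (h1.trans hcN)).2, h3]
  -- characters on the preimage of the stabiliser
  set H := MulAction.stabilizer G (obj 0)
  obtain ⟨ψH, hψH⟩ := hH
  let φ : Γ → Additive A := fun g =>
    if h : g ∈ H.comap σ then Additive.ofMul (ψH ⟨g, h⟩) else 0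
  have hφmul : ∀ a ∈ H.comap σ, ∀ b ∈ H.comap σ, φ (a * b) = φ a + φ b := by
    intro a ha b hb
    simp only [φ, dif_pos (mul_mem ha hb), dif_pos ha, dif_pos hb]
    rw [show (⟨a * b, mul_mem ha hb⟩ : H.comap σ) = ⟨a, ha⟩ * ⟨b, hb⟩ from rfl, map_mul, ofMul_mul]
  have hφinv : ∀ a ∈ H.comap σ, φ a⁻¹ = -φ a := by
    intro a ha
    simp only [φ, dif_pos (inv_mem ha), dif_pos ha]
    rw [show (⟨a⁻¹, inv_mem ha⟩ : H.comap σ) = (⟨a, ha⟩)⁻¹ from rfl, map_inv, ofMul_inv]
  have hφker : ∀ z : σ.ker, φ z = Additive.ofMul (χ z) := by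
    intro z
    have hzH : (z : Γ) ∈ H.comap σ := by
      rw [Subgroup.mem_comap, MonoidHom.mem_ker.1 z.2]; exact one_mem _
    simp only [φ, dif_pos hzH]
    exact congrArg Additive.ofMul (hψH ⟨_, hzH⟩ (MonoidHom.mem_ker.1 z.2))
  let v : ℕ → ℕ → Additive A := fun i c => φ ((s (nx i c))⁻¹ * L i * s c)
  have hmem : ∀ i < n, ∀ c < N, (s (nx i c))⁻¹ * L i * s c ∈ H.comap σ := by
    intro i hi c hcN
    rw [Subgroup.mem_comap, MulAction.mem_stabilizer_iff, map_mul, map_mul, map_inv, hLσ, mul_smul,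
      mul_smul, hobj c hcN, (hnx i hi c hcN).2, inv_smul_eq_iff, hobj _ (hnx i hi c hcN).1]
  have hwalk : ∀ l : List (ℕ × Bool), (∀ t ∈ l, t.1 < n) → ∀ c < N,
      wend nx pv c l < N ∧ (s (wend nx pv c l))⁻¹ * wprod L l * s c ∈ H.comap σ ∧
        φ ((s (wend nx pv c l))⁻¹ * wprod L l * s c) = wsum nx pv v c l := by
    intro l
    induction l with
    | nil =>
      intro _ c hcN
      refine ⟨hcN, ?_⟩
      simp only [wend, wprod, wsum, mul_one, inv_mul_cancel]
      refine ⟨one_mem _, ?_⟩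
      have := hφker 1
      simpa using this
    | cons t l ih =>
      intro hl c hcN
      obtain ⟨i, b⟩ := t
      have hi : i < n := hl (i, b) List.mem_cons_self
      have hl' : ∀ t ∈ l, t.1 < n := fun t ht => hl t (List.mem_cons_of_mem _ ht)
      cases b with
      | true =>
        obtain ⟨h1, h2, h3⟩ := ih hl' (nx i c) (hnx i hi c hcN).1
        simp only [wend, wprod, wsum, if_pos]
        have e : (s (wend nx pv (nx i c) l))⁻¹ * (wprod L l * L i) * s c =
            ((s (wend nx pv (nx i c) l))⁻¹ * wprod L l * s (nx i c)) *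
              ((s (nx i c))⁻¹ * L i * s c) := by group
        rw [e]
        exact ⟨h1, mul_mem h2 (hmem i hi c hcN),
          by rw [hφmul _ h2 _ (hmem i hi c hcN), h3, add_comm]⟩
      | false =>
        obtain ⟨hd, hd'⟩ := hpv i hi c hcN
        obtain ⟨h1, h2, h3⟩ := ih hl' (pv i c) hd
        simp only [wend, wprod, wsum, Bool.false_eq_true, if_false]
        have hm := hmem i hi _ hd
        have hv : v i (pv i c) = φ ((s c)⁻¹ * L i * s (pv i c)) := by simp only [v, hd']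
        rw [hd'] at hm
        have e : (s (wend nx pv (pv i c) l))⁻¹ * (wprod L l * (L i)⁻¹) * s c =
            ((s (wend nx pv (pv i c) l))⁻¹ * wprod L l * s (pv i c)) *
              ((s c)⁻¹ * L i * s (pv i c))⁻¹ := by group
        rw [e]
        exact ⟨h1, mul_mem h2 (inv_mem hm),
          by rw [hφmul _ h2 _ (inv_mem hm), h3, hφinv _ hm, hv, add_comm]⟩
  let e : ℕ → Additive A := fun r => φ (wprod L (rels.getD r []))
  obtain ⟨u, hu, hv0⟩ : ∃ u : Additive A, t • u = 0 ∧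
      ∀ i < n, ∀ c < N, v i c ∈ AddSubgroup.zmultiples u := by
    refine hzero v e ?_ ?_ ?_
    · intro c hcN hc0
      obtain ⟨_, _, h3⟩ := hpar c hcN hc0
      simp only [v, h3, hsucc c hcN hc0, mul_inv_rev, mul_assoc, inv_mul_cancel_left, inv_mul_cancel]
      simpa using hφker 1
    · intro r hr c hcN
      have hl : rels.getD r [] ∈ rels := by
        rw [List.getD_eq_getElem (hn := hr)]; exact List.getElem_mem hr
      obtain ⟨hln, hl1⟩ := hrel _ hl
      obtain ⟨hlt, hle⟩ := hend _ hln c hcN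
      rw [hl1, one_smul] at hle
      have hlc := hinj _ hlt c hcN hle
      obtain ⟨-, -, h3⟩ := hwalk _ hln c hcN
      rw [hlc] at h3
      have hz : σ (wprod L (rels.getD r [])) = 1 := by
        rw [map_wprod σ L x (fun i _ => hLσ i) _ hln, hl1]
      rw [← h3, mul_assoc, ← mem_center_iff.1 (hc hz) (s c), inv_mul_cancel_left]
    · intro r hr
      show φ (wprod L (rels.getD r [])) = 0
      rcases hpow r hr with ⟨o, i, hl, ho, horder⟩ | ⟨w, hl, hw⟩
      swap
      · have hlen : r < rels.length ∨ w = [] := by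
          by_contra h
          rw [not_or, not_lt] at h
          rw [List.getD_eq_default _ _ h.1] at hl
          exact h.2 (List.append_eq_nil_iff.1 hl.symm).1
        rcases hlen with hlen | rfl
        swap
        · rw [hl]; simpa [wprod] using hφker 1
        have hl' : rels.getD r [] ∈ rels := by
          rw [List.getD_eq_getElem (hn := hlen)]; exact List.getElem_mem hlen
        obtain ⟨hlt, hl1⟩ := hrel _ hl'
        have hwt : ∀ t ∈ w, t.1 < n := fun t ht => hlt t (hl ▸ List.mem_append_left _ ht)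
        have hz : σ (wprod L w * wprod L w) = 1 := by
          rw [← wprod_append, ← hl, map_wprod σ L x (fun i _ => hLσ i) _ hlt, hl1]
        rw [hl, wprod_append, hφker ⟨_, hz⟩,
          hw _ hz (map_wprod σ L x (fun i _ => hLσ i) _ hwt), ofMul_one]
      rw [hl, wprod_replicate]
      rcases Nat.eq_zero_or_pos o with rfl | hopos
      · rw [pow_zero]; simpa using hφker 1
      · have hz : σ (L i ^ o) = 1 := by rw [map_pow, hLσ, ho]
        have hi : i < n := by
          have hlen : r < rels.length := by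
            by_contra hlt
            rw [List.getD_eq_default _ _ (not_lt.1 hlt)] at hl
            have := congrArg List.length hl
            simp at this; omega
          have hl' : rels.getD r [] ∈ rels := by
            rw [List.getD_eq_getElem (hn := hlen)]; exact List.getElem_mem hlen
          exact (hrel _ hl').1 (i, true) (by rw [hl]; exact List.mem_replicate.2 ⟨hopos.ne', rfl⟩)
        subst horder
        rw [hφker ⟨_, hz⟩, hLpow i hi hz, ofMul_one]
  -- elements of vanishing voltage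
  let US : Submonoid Γ :=
    { carrier := {g | ∀ c < N, ∃ c' < N, (s c')⁻¹ * g * s c ∈ H.comap σ ∧
        φ ((s c')⁻¹ * g * s c) ∈ AddSubgroup.zmultiples u}
      one_mem' := fun c hcN => ⟨c, hcN, by simp, by
        have h1 : φ 1 = 0 := by simpa using hφker 1
        simp [h1]⟩
      mul_mem' := by
        intro a b ha hb c hcN
        obtain ⟨c1, hc1, hb1, hb2⟩ := hb c hcN
        obtain ⟨c2, hc2, ha1, ha2⟩ := ha c1 hc1
        have e : (s c2)⁻¹ * (a * b) * s c =
            ((s c2)⁻¹ * a * s c1) * ((s c1)⁻¹ * b * s c) := by group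
        exact ⟨c2, hc2, by rw [e]; exact mul_mem ha1 hb1,
          by rw [e, hφmul _ ha1 _ hb1]; exact add_mem ha2 hb2⟩ }
  let U : Subgroup Γ :=
    { US with
      inv_mem' := fun {a} ha => by
        obtain ⟨k, hk⟩ : ∃ k : ℕ, a⁻¹ = a ^ k := ⟨orderOf a - 1, by
          rw [inv_eq_iff_mul_eq_one, ← pow_succ', Nat.sub_add_cancel (orderOf_pos a),
            pow_orderOf_eq_one]⟩
        exact hk ▸ US.pow_mem ha k }
  have hUL : ∀ i < n, L i ∈ U := fun i hi c hcN =>
    ⟨nx i c, (hnx i hi c hcN).1, hmem i hi c hcN, hv0 i hi c hcN⟩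
  refine ⟨u.toMul, by rw [← toMul_nsmul, hu, toMul_zero], U, ?_, ?_⟩
  · intro g
    have : σ g ∈ U.map σ := by
      refine (Subgroup.closure_le _).2 ?_ (hgen ▸ Subgroup.mem_top (σ g))
      rintro _ ⟨i, hi, rfl⟩
      exact ⟨L i, hUL i hi, hLσ i⟩
    obtain ⟨g0, hg0, hg0e⟩ := this
    refine ⟨⟨g0⁻¹ * g, by rw [MonoidHom.mem_ker, map_mul, map_inv, hg0e, inv_mul_cancel]⟩, ?_⟩
    simpa [mul_assoc] using hg0
  · intro z hz
    obtain ⟨c', hc', h1, h2⟩ := hz 0 hN
    have hc0 : c' = 0 := by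
      rw [Subgroup.mem_comap, hs0, mul_one, map_mul, map_inv, MonoidHom.mem_ker.1 z.2, mul_one,
        MulAction.mem_stabilizer_iff, inv_smul_eq_iff, hobj c' hc'] at h1
      exact (hinj 0 hN c' hc' h1).symm
    subst hc0
    rw [hs0, inv_one, one_mul, mul_one, hφker] at h2
    obtain ⟨j, hj⟩ := AddSubgroup.mem_zmultiples_iff.1 h2
    exact ⟨j, by simpa using congrArg Additive.toMul hj⟩

/-- The voltage bound with power relations and extensions from all central covers of the stabiliser. -/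
theorem voltage_main [Finite G] (n N : ℕ) (hN : 0 < N) (x : ℕ → G) (nx pv : ℕ → ℕ → ℕ)
    (obj : ℕ → α) (par : ℕ → ℕ × ℕ) (rels : List (List (ℕ × Bool))) (npow : ℕ)
    (hgen : Subgroup.closure (x '' Set.Iio n) = ⊤)
    (hinj : ∀ c < N, ∀ d < N, obj c = obj d → c = d)
    (hnx : ∀ i < n, ∀ c < N, nx i c < N ∧ x i • obj c = obj (nx i c))
    (hpv : ∀ i < n, ∀ c < N, pv i c < N ∧ nx i (pv i c) = c)
    (hpar : ∀ c < N, 0 < c → (par c).2 < c ∧ (par c).1 < n ∧ nx (par c).1 (par c).2 = c)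
    (hrel : ∀ l ∈ rels, (∀ t ∈ l, t.1 < n) ∧ wprod x l = 1)
    (hpow : ∀ r < npow, ∃ o i : ℕ, rels.getD r [] = List.replicate o (i, true) ∧
      x i ^ o = 1 ∧ orderOf (x i) = o)
    (hcop : ∀ i < n, Nat.Coprime (orderOf (x i)) m)
    {Γ : Type u} [Group Γ] [Finite Γ] (σ : Γ →* G) (hs : Function.Surjective σ)
    (hc : σ.ker ≤ center Γ) {A : Type u'} [CommGroup A] (hA : ∀ a : A, a ^ m = 1)
    (χ : σ.ker →* A)
    (hH : ∀ σH : (MulAction.stabilizer G (obj 0)).comap σ →* MulAction.stabilizer G (obj 0),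
      Function.Surjective σH → σH.ker ≤ center _ → ∀ χH : σH.ker →* A,
      ∃ ψ : (MulAction.stabilizer G (obj 0)).comap σ →* A, ∀ z : σH.ker, ψ z = χH z)
    (t : ℕ)
    (hzero : ∀ (v : ℕ → ℕ → Additive A) (e : ℕ → Additive A),
      (∀ c < N, 0 < c → v (par c).1 (par c).2 = 0) →
      (∀ r < rels.length, ∀ c < N, wsum nx pv v c (rels.getD r []) = e r) →
      (∀ r < npow, e r = 0) →
      ∃ u : Additive A, t • u = 0 ∧ ∀ i < n, ∀ c < N, v i c ∈ AddSubgroup.zmultiples u) :
    ∃ u : A, u ^ t = 1 ∧ ∃ U : Subgroup Γ, (∀ g : Γ, ∃ z : σ.ker, g * (z : Γ)⁻¹ ∈ U) ∧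
      ∀ z : σ.ker, (z : Γ) ∈ U → χ z ∈ Subgroup.zpowers u :=
  voltage_main_sq n N hN x nx pv obj par rels npow hgen hinj hnx hpv hpar hrel hcop σ hs hc hA χ
    (fun r hr => Or.inl (hpow r hr)) (hH_of_forall (obj 0) σ hs hc χ hH) t hzero

/-- The voltage criterion. -/
theorem censplit_of_voltage [Finite G] (n N : ℕ) (hN : 0 < N) (x : ℕ → G) (nx pv : ℕ → ℕ → ℕ)
    (obj : ℕ → α) (par : ℕ → ℕ × ℕ) (rels : List (List (ℕ × Bool))) (npow : ℕ)
    (hgen : Subgroup.closure (x '' Set.Iio n) = ⊤)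
    (hinj : ∀ c < N, ∀ d < N, obj c = obj d → c = d)
    (hnx : ∀ i < n, ∀ c < N, nx i c < N ∧ x i • obj c = obj (nx i c))
    (hpv : ∀ i < n, ∀ c < N, pv i c < N ∧ nx i (pv i c) = c)
    (hpar : ∀ c < N, 0 < c → (par c).2 < c ∧ (par c).1 < n ∧ nx (par c).1 (par c).2 = c)
    (hrel : ∀ l ∈ rels, (∀ t ∈ l, t.1 < n) ∧ wprod x l = 1)
    (hpow : ∀ r < npow, ∃ o i : ℕ, rels.getD r [] = List.replicate o (i, true) ∧
      x i ^ o = 1 ∧ orderOf (x i) = o)
    (hcop : ∀ i < n, Nat.Coprime (orderOf (x i)) m)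
    (hH : CenSplit m (MulAction.stabilizer G (obj 0)))
    (hzero : ∀ (v : ℕ → ℕ → ZMod m) (e : ℕ → ZMod m),
      (∀ c < N, 0 < c → v (par c).1 (par c).2 = 0) →
      (∀ r < rels.length, ∀ c < N, wsum nx pv v c (rels.getD r []) = e r) →
      (∀ r < npow, e r = 0) → ∀ i < n, ∀ c < N, v i c = 0) :
    CenSplit m G := by
  classical
  intro Γ _ _ σ hs hc χ
  obtain ⟨u, hu, U, hall, hUker'⟩ := voltage_main_sq n N hN x nx pv obj par rels npow hgen hinj hnx
    hpv hpar hrel hcop σ hs hc (A := Multiplicative (ZMod m))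
    (fun a => Multiplicative.toAdd.injective (by simp)) χ (fun r hr => Or.inl (hpow r hr))
    (hH_of_forall (obj 0) σ hs hc χ (hH _)) 1
    (fun v e h1 h2 h3 => ⟨0, by simp, fun i hi c hc' => by
      have := hzero v e h1 h2 h3 i hi c hc'
      rw [show v i c = 0 from this]; exact zero_mem _⟩)
  rw [pow_one] at hu
  have hUker : ∀ z : σ.ker, (z : Γ) ∈ U → χ z = 1 := fun z hz => by
    simpa [hu] using hUker' z hz
  choose zf hzf using hall
  refine ⟨MonoidHom.mk' (fun g => χ (zf g)) fun a b => ?_, fun z => ?_⟩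
  · have h1 : (((zf a * zf b)⁻¹ * zf (a * b) : σ.ker) : Γ) ∈ U := by
      have hp := mul_mem (inv_mem (mul_mem (hzf a) (hzf b))) (hzf (a * b))
      have hab : a * (zf a : Γ)⁻¹ * (b * (zf b : Γ)⁻¹) = a * b * ((zf a : Γ) * (zf b : Γ))⁻¹ := by
        have haz : b * (zf a : Γ)⁻¹ = (zf a : Γ)⁻¹ * b :=
          mem_center_iff.1 (inv_mem (hc (zf a).2)) b
        have hzz : (zf b : Γ)⁻¹ * (zf a : Γ)⁻¹ = (zf a : Γ)⁻¹ * (zf b : Γ)⁻¹ :=
          mem_center_iff.1 (inv_mem (hc (zf a).2)) _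
        calc a * (zf a : Γ)⁻¹ * (b * (zf b : Γ)⁻¹)
            = a * ((zf a : Γ)⁻¹ * b) * (zf b : Γ)⁻¹ := by group
          _ = a * b * ((zf a : Γ)⁻¹ * (zf b : Γ)⁻¹) := by rw [← haz]; group
          _ = _ := by rw [mul_inv_rev, hzz]
      rw [hab] at hp
      have hcen : ((zf a : Γ) * (zf b : Γ))⁻¹ * (zf (a * b) : Γ) ∈ center Γ :=
        mul_mem (inv_mem (mul_mem (hc (zf a).2) (hc (zf b).2))) (hc (zf (a * b)).2)
      have : (a * b * ((zf a : Γ) * (zf b : Γ))⁻¹)⁻¹ * (a * b * (zf (a * b) : Γ)⁻¹) =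
          ((((zf a : Γ) * (zf b : Γ))⁻¹) * (zf (a * b) : Γ))⁻¹ := by
        rw [mul_inv_rev, mul_inv_rev (_ : Γ)⁻¹, inv_inv, mul_assoc, inv_mul_cancel_left]
        exact mem_center_iff.1 (inv_mem (hc (zf (a * b)).2)) _
      rw [this, inv_mem_iff] at hp
      exact hp
    have := hUker _ h1
    rw [map_mul, map_inv, map_mul, inv_mul_eq_one] at this
    exact this.symm
  · show χ (zf (z : Γ)) = χ z
    have h1 : ((z * (zf (z : Γ))⁻¹ : σ.ker) : Γ) ∈ U := hzf z
    have := hUker _ h1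
    rw [map_mul, map_inv, mul_inv_eq_one] at this
    exact this.symm

/-- For a stem extension the bound confines the values of the character. -/
theorem mem_zpowers_of_stem {Γ G A : Type*} [Group Γ] [Group G] [CommGroup A] {σ : Γ →* G}
    (hσ : Cfsg.IsStemExtension σ) {χ : σ.ker →* A} {u : A} {U : Subgroup Γ}
    (hall : ∀ g : Γ, ∃ z : σ.ker, g * (z : Γ)⁻¹ ∈ U)
    (hU : ∀ z : σ.ker, (z : Γ) ∈ U → χ z ∈ Subgroup.zpowers u) (z : σ.ker) :
    χ z ∈ Subgroup.zpowers u := by
  refine hU z ((?_ : commutator Γ ≤ U) (hσ.2.2 z.2))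
  rw [commutator_def, Subgroup.commutator_le]
  intro a _ b _
  obtain ⟨za, ha⟩ := hall a
  obtain ⟨zb, hb⟩ := hall b
  have hcen : ∀ (w : σ.ker) (g : Γ), g * (w : Γ) = (w : Γ) * g := fun w g =>
    mem_center_iff.1 (hσ.2.1 w.2) g
  have ea : a = a * (za : Γ)⁻¹ * za := by rw [inv_mul_cancel_right]
  have eb : b = b * (zb : Γ)⁻¹ * zb := by rw [inv_mul_cancel_right]
  generalize a * (za : Γ)⁻¹ = a' at ha ea
  generalize b * (zb : Γ)⁻¹ = b' at hb eb
  subst ea eb
  have h1 : ⁅a' * (za : Γ), b' * (zb : Γ)⁆ = ⁅a', b'⁆ := by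
    simp only [commutatorElement_def, mul_inv_rev]
    have hza : ∀ g : Γ, (za : Γ)⁻¹ * g = g * (za : Γ)⁻¹ := fun g =>
      (mem_center_iff.1 (inv_mem (hσ.2.1 za.2)) g).symm
    have hzb : ∀ g : Γ, (zb : Γ)⁻¹ * g = g * (zb : Γ)⁻¹ := fun g =>
      (mem_center_iff.1 (inv_mem (hσ.2.1 zb.2)) g).symm
    rw [hza a'⁻¹, hzb b'⁻¹]
    calc a' * (za : Γ) * (b' * zb) * (a'⁻¹ * (za : Γ)⁻¹) * (b'⁻¹ * (zb : Γ)⁻¹)
        = a' * ((za : Γ) * (b' * zb * a'⁻¹)) * (za : Γ)⁻¹ * (b'⁻¹ * (zb : Γ)⁻¹) := by group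
      _ = a' * (b' * zb * a'⁻¹ * za) * (za : Γ)⁻¹ * (b'⁻¹ * (zb : Γ)⁻¹) := by rw [← hcen za]
      _ = a' * b' * ((zb : Γ) * (a'⁻¹ * b'⁻¹)) * (zb : Γ)⁻¹ := by group
      _ = a' * b' * ((a'⁻¹ * b'⁻¹) * zb) * (zb : Γ)⁻¹ := by rw [← hcen zb]
      _ = _ := by group
  rw [h1, commutatorElement_def]
  exact mul_mem (mul_mem (mul_mem ha hb) (inv_mem ha)) (inv_mem hb)

end Cfsg.Agent.SplitVoltage
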