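import Cfsg.Agent.Lib.SplitVoltageCert

/-!
Certificate data: voltages A7D.
-/

set_option autoImplicit false
set_option maxRecDepth 100000

namespace Cfsg.Agent.SplitVoltageA7DData

open Cfsg.Agent.SplitVoltageCert

/-- table part -/
def nxT_1 : Tr :=
  .nd (.nd (.nd (.nd (.nd (.nd (.lf 0) (.lf 311)) (.nd (.lf 104) (.lf 0))) (.nd (.nd (.lf 105) (.lf 125)) (.nd (.lf 263) (.lf 0)))) (.nd (.nd (.nd (.lf 40) (.lf 273)) (.nd (.lf 208) (.lf 0))) (.nd (.nd (.lf 38) (.lf 88)) (.nd (.lf 139) (.lf 0))))) (.nd (.nd (.nd (.nd (.lf 29) (.lf 324)) (.nd (.lf 90) (.lf 0))) (.nd (.nd (.lf 124) (.lf 288)) (.nd (.lf 276) (.lf 0)))) (.nd (.nd (.nd (.lf 82) (.lf 278)) (.nd (.lf 197) (.lf 0))) (.nd (.nd (.lf 165) (.lf 0)) (.nd (.lf 261) (.lf 0)))))) (.nd (.nd (.nd (.nd (.nd (.lf 15) (.lf 319)) (.nd (.lf 198) (.lf 0))) (.nd (.nd (.lf 21) (.lf 356)) (.nd (.lf 221) (.lf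 0)))) (.nd (.nd (.nd (.lf 11) (.lf 335)) (.nd (.lf 240) (.lf 0))) (.nd (.nd (.lf 81) (.lf 0)) (.nd (.lf 295) (.lf 0))))) (.nd (.nd (.nd (.nd (.lf 45) (.lf 212)) (.nd (.lf 218) (.lf 0))) (.nd (.nd (.lf 135) (.lf 344)) (.nd (.lf 175) (.lf 0)))) (.nd (.nd (.nd (.lf 93) (.lf 70)) (.nd (.lf 169) (.lf 0))) (.nd (.nd (.lf 176) (.lf 0)) (.nd (.lf 171) (.lf 0))))))

/-- table part -/
def nxT_2 : Tr :=
  .nd (.nd (.nd (.nd (.nd (.nd (.lf 8) (.lf 315)) (.nd (.lf 108) (.lf 0))) (.nd (.nd (.lf 109) (.lf 342)) (.nd (.lf 267) (.lf 0)))) (.nd (.nd (.nd (.lf 65) (.lf 194)) (.nd (.lf 57) (.lf 0))) (.nd (.nd (.lf 154) (.lf 251)) (.nd (.lf 119) (.lf 0))))) (.nd (.nd (.nd (.nd (.lf 37) (.lf 325)) (.nd (.lf 213) (.lf 0))) (.nd (.nd (.lf 72) (.lf 359)) (.nd (.lf 164) (.lf 0)))) (.nd (.nd (.nd (.lf 87) (.lf 253)) (.nd (.lf 244) (.lf 0))) (.nd (.nd (.lf 28) (.lf 0)) (.nd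 (.lf 159) (.lf 0)))))) (.nd (.nd (.nd (.nd (.nd (.lf 7) (.lf 246)) (.nd (.lf 205) (.lf 0))) (.nd (.nd (.lf 36) (.lf 199)) (.nd (.lf 132) (.lf 0)))) (.nd (.nd (.nd (.lf 1) (.lf 334)) (.nd (.lf 245) (.lf 0))) (.nd (.nd (.lf 161) (.lf 0)) (.nd (.lf 179) (.lf 0))))) (.nd (.nd (.nd (.nd (.lf 51) (.lf 285)) (.nd (.lf 223) (.lf 0))) (.nd (.nd (.lf 142) (.lf 339)) (.nd (.lf 249) (.lf 0)))) (.nd (.nd (.nd (.lf 99) (.lf 345)) (.nd (.lf 75) (.lf 0))) (.nd (.nd (.lf 141) (.lf 0)) (.nd (.lf 304) (.lf 0))))))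

/-- table part -/
def nxT_3 : Tr :=
  .nd nxT_1 nxT_2

/-- table part -/
def nxT_4 : Tr :=
  .nd (.nd (.nd (.nd (.nd (.nd (.lf 4) (.lf 313)) (.nd (.lf 112) (.lf 0))) (.nd (.nd (.lf 22) (.lf 350)) (.nd (.lf 219) (.lf 0)))) (.nd (.nd (.nd (.lf 61) (.lf 282)) (.nd (.lf 232) (.lf 0))) (.nd (.nd (.lf 151) (.lf 343)) (.nd (.lf 114) (.lf 0))))) (.nd (.nd (.nd (.nd (.lf 33) (.lf 286)) (.nd (.lf 211) (.lf 0))) (.nd (.nd (.lf 127) (.lf 353)) (.nd (.lf 214) (.lf 0)))) (.nd (.nd (.nd (.lf 58) (.lf 341)) (.nd (.lf 239) (.lf 0))) (.nd (.nd (.lf 168) (.lf 0)) (.nd (.lf 222) (.lf 0)))))) (.nd (.nd (.nd (.nd (.nd (.lf 19) (.lf 321)) (.nd (.lf 202) (.lf 0))) (.nd (.nd (.lf 116) (.lf 275)) (.nd (.lf 271) (.lf 0)))) (.nd (.nd (.nd (.lf 74) (.lf 337)) (.nd (.lf 243) (.lf 0))) (.nd (.nd (.lf 13) (.lf 0)) (.nd (.lf 269) (.lf 0))))) (.nd (.nd (.nd (.nd (.lf 49) (.lf 167))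 (.nd (.lf 220) (.lf 0))) (.nd (.nd (.lf 138) (.lf 355)) (.nd (.lf 207) (.lf 0)))) (.nd (.nd (.nd (.lf 77) (.lf 336)) (.nd (.lf 53) (.lf 0))) (.nd (.nd (.lf 180) (.lf 0)) (.nd (.lf 302) (.lf 0))))))

/-- table part -/
def nxT_5 : Tr :=
  .nd (.nd (.nd (.nd (.nd (.nd (.lf 12) (.lf 317)) (.nd (.lf 195) (.lf 0))) (.nd (.nd (.lf 111) (.lf 354)) (.nd (.lf 268) (.lf 0)))) (.nd (.nd (.nd (.lf 69) (.lf 333)) (.nd (.lf 236) (.lf 0))) (.nd (.nd (.lf 118) (.lf 308)) (.nd (.lf 224) (.lf 0))))) (.nd (.nd (.nd (.nd (.lf 41) (.lf 327)) (.nd (.lf 192) (.lf 0))) (.nd (.nd (.lf 92) (.lf 173)) (.nd (.lf 284) (.lf 0)))) (.nd (.nd (.nd (.lf 5) (.lf 257)) (.nd (.lf 254) (.lf 0))) (.nd (.nd (.lf 174) (.lf 0)) (.nd (.lf 183) (.lf 0)))))) (.nd (.nd (.nd (.nd (.nd (.lf 25) (.lf 258)) (.nd (.lf 55) (.lf 0))) (.nd (.nd (.lf 120) (.lf 148)) (.nd (.lf 272) (.lf 0)))) (.nd (.nd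 (.nd (.lf 80) (.lf 89)) (.nd (.lf 247) (.lf 0))) (.nd (.nd (.lf 163) (.lf 0)) (.nd (.lf 237) (.lf 0))))) (.nd (.nd (.nd (.nd (.lf 54) (.lf 60)) (.nd (.lf 34) (.lf 0))) (.nd (.nd (.lf 145) (.lf 352)) (.nd (.lf 290) (.lf 0)))) (.nd (.nd (.nd (.lf 103) (.lf 187)) (.nd (.lf 121) (.lf 0))) (.nd (.nd (.lf 184) (.lf 0)) (.nd (.lf 79) (.lf 0))))))

/-- table part -/
def nxT_6 : Tr :=
  .nd nxT_4 nxT_5

/-- table part -/
def nxT_7 : Tr :=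
  .nd nxT_3 nxT_6

/-- table part -/
def nxT_8 : Tr :=
  .nd (.nd (.nd (.nd (.nd (.nd (.lf 2) (.lf 300)) (.nd (.lf 188) (.lf 0))) (.nd (.nd (.lf 106) (.lf 348)) (.nd (.lf 203) (.lf 0)))) (.nd (.nd (.nd (.lf 59) (.lf 331)) (.nd (.lf 230) (.lf 0))) (.nd (.nd (.lf 149) (.lf 100)) (.nd (.lf 96) (.lf 0))))) (.nd (.nd (.nd (.nd (.lf 31) (.lf 318)) (.nd (.lf 209) (.lf 0))) (.nd (.nd (.lf 126) (.lf 281)) (.nd (.lf 277) (.lf 0)))) (.nd (.nd (.nd (.lf 84) (.lf 340)) (.nd (.lf 144) (.lf 0))) (.nd (.nd (.lf 166) (.lf 0)) (.nd (.lf 128) (.lf 0)))))) (.nd (.nd (.nd (.nd (.nd (.lf 17) (.lf 320)) (.nd (.lf 200) (.lf 0))) (.nd (.nd (.lf 115) (.lf 329)) (.nd (.lf 24) (.lf 0)))) (.nd (.nd (.nd (.lf 73) (.lf 206)) (.nd (.lf 241) (.lf 0))) (.nd (.nd (.lf 158) (.lf 0)) (.nd (.lf 297) (.lf 0))))) (.nd (.nd (.nd (.nd (.lf 47) (.lf 190)) (.nd (.lf 9) (.lf 0))) (.nd (.nd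 (.lf 113) (.lf 226)) (.nd (.lf 265) (.lf 0)))) (.nd (.nd (.nd (.lf 95) (.lf 294)) (.nd (.lf 177) (.lf 0))) (.nd (.nd (.lf 178) (.lf 0)) (.nd (.lf 299) (.lf 0))))))

/-- table part -/
def nxT_9 : Tr :=
  .nd (.nd (.nd (.nd (.nd (.nd (.lf 10) (.lf 316)) (.nd (.lf 193) (.lf 0))) (.nd (.nd (.lf 110) (.lf 97)) (.nd (.lf 201) (.lf 0)))) (.nd (.nd (.nd (.lf 67) (.lf 130)) (.nd (.lf 189) (.lf 0))) (.nd (.nd (.lf 155) (.lf 346)) (.nd (.lf 293) (.lf 0))))) (.nd (.nd (.nd (.nd (.lf 39) (.lf 326)) (.nd (.lf 215) (.lf 0))) (.nd (.nd (.lf 131) (.lf 296)) (.nd (.lf 283) (.lf 0)))) (.nd (.nd (.nd (.lf 62) (.lf 136)) (.nd (.lf 252) (.lf 0))) (.nd (.nd (.lf 172) (.lf 0)) (.nd (.lf 83) (.lf 0)))))) (.nd (.nd (.nd (.nd (.nd (.lf 23) (.lf 323)) (.nd (.lf 50) (.lf 0))) (.nd (.nd (.lf 46) (.lf 332)) (.nd (.lf 86) (.lf 0)))) (.nd (.nd (.nd (.lf 78) (.lf 305)) (.nd (.lf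 233) (.lf 0))) (.nd (.nd (.lf 162) (.lf 0)) (.nd (.lf 242) (.lf 0))))) (.nd (.nd (.nd (.nd (.lf 52) (.lf 191)) (.nd (.lf 225) (.lf 0))) (.nd (.nd (.lf 143) (.lf 134)) (.nd (.lf 217) (.lf 0)))) (.nd (.nd (.nd (.lf 101) (.lf 210)) (.nd (.lf 231) (.lf 0))) (.nd (.nd (.lf 137) (.lf 0)) (.nd (.lf 306) (.lf 0))))))

/-- table part -/
def nxT_10 : Tr :=
  .nd nxT_8 nxT_9

/-- table part -/
def nxT_11 : Tr :=
  .nd (.nd (.nd (.nd (.nd (.nd (.lf 6) (.lf 314)) (.nd (.lf 42) (.lf 0))) (.nd (.nd (.lf 107) (.lf 351)) (.nd (.lf 266) (.lf 0)))) (.nd (.nd (.nd (.lf 63) (.lf 328)) (.nd (.lf 157) (.lf 0))) (.nd (.nd (.lf 152) (.lf 234)) (.nd (.lf 292) (.lf 0))))) (.nd (.nd (.nd (.nd (.lf 35) (.lf 227)) (.nd (.lf 150) (.lf 0))) (.nd (.nd (.lf 129) (.lf 349)) (.nd (.lf 280) (.lf 0)))) (.nd (.nd (.nd (.lf 85) (.lf 123)) (.nd (.lf 250) (.lf 0))) (.nd (.nd (.lf 170) (.lf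 0)) (.nd (.lf 66) (.lf 0)))))) (.nd (.nd (.nd (.nd (.nd (.lf 20) (.lf 322)) (.nd (.lf 204) (.lf 0))) (.nd (.nd (.lf 117) (.lf 301)) (.nd (.lf 16) (.lf 0)))) (.nd (.nd (.nd (.lf 76) (.lf 338)) (.nd (.lf 156) (.lf 0))) (.nd (.nd (.lf 32) (.lf 0)) (.nd (.lf 256) (.lf 0))))) (.nd (.nd (.nd (.nd (.lf 44) (.lf 310)) (.nd (.lf 64) (.lf 0))) (.nd (.nd (.lf 140) (.lf 102)) (.nd (.lf 287) (.lf 0)))) (.nd (.nd (.nd (.lf 98) (.lf 291)) (.nd (.lf 259) (.lf 0))) (.nd (.nd (.lf 181) (.lf 0)) (.nd (.lf 303) (.lf 0))))))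

/-- table part -/
def nxT_12 : Tr :=
  .nd (.nd (.nd (.nd (.nd (.nd (.lf 14) (.lf 312)) (.nd (.lf 196) (.lf 0))) (.nd (.nd (.lf 26) (.lf 307)) (.nd (.lf 270) (.lf 0)))) (.nd (.nd (.nd (.lf 71) (.lf 228)) (.nd (.lf 238) (.lf 0))) (.nd (.nd (.lf 48) (.lf 279)) (.nd (.lf 229) (.lf 0))))) (.nd (.nd (.nd (.nd (.lf 43) (.lf 289)) (.nd (.lf 216) (.lf 0))) (.nd (.nd (.lf 133) (.lf 94)) (.nd (.lf 160) (.lf 0)))) (.nd (.nd (.nd (.lf 91) (.lf 248)) (.nd (.lf 255) (.lf 0))) (.nd (.nd (.lf 68) (.lf 0)) (.nd (.lf 264) (.lf 0)))))) (.nd (.nd (.nd (.nd (.nd (.lf 27) (.lf 185)) (.nd (.lf 153) (.lf 0))) (.nd (.nd (.lf 122) (.lf 358)) (.nd (.lf 274) (.lf 0)))) (.nd (.nd (.nd (.lf 3) (.lf 260)) (.nd (.lf 18) (.lf 0))) (.nd (.nd (.lf 147) (.lf 0)) (.nd (.lf 298) (.lf 0))))) (.nd (.nd (.nd (.nd (.lf 56) (.lf 330)) (.nd (.lf 182) (.lf 0))) (.nd (.nd (.lf 146) (.lf 357))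 (.nd (.lf 235) (.lf 0)))) (.nd (.nd (.nd (.lf 30) (.lf 347)) (.nd (.lf 262) (.lf 0))) (.nd (.nd (.lf 186) (.lf 0)) (.nd (.lf 309) (.lf 0))))))

/-- table part -/
def nxT_13 : Tr :=
  .nd nxT_11 nxT_12

/-- table part -/
def nxT_14 : Tr :=
  .nd nxT_10 nxT_13

/-- table part -/
def nxT_15 : Tr :=
  .nd nxT_7 nxT_14

/-- table part -/
def nxT_16 : Tr :=
  .nd (.nd (.nd (.nd (.nd (.nd (.lf 1) (.lf 312)) (.nd (.lf 151) (.lf 0))) (.nd (.nd (.lf 67) (.lf 323)) (.nd (.lf 264) (.lf 0)))) (.nd (.nd (.nd (.lf 58) (.lf 110)) (.nd (.lf 229) (.lf 0))) (.nd (.nd (.lf 148) (.lf 359)) (.nd (.lf 195) (.lf 0))))) (.nd (.nd (.nd (.nd (.lf 30) (.lf 243)) (.nd (.lf 208) (.lf 0))) (.nd (.nd (.lf 125) (.lf 331)) (.nd (.lf 155) (.lf 0)))) (.nd (.nd (.nd (.lf 83) (.lf 135)) (.nd (.lf 249) (.lf 0))) (.nd (.nd (.lf 116) (.lf 0)) (.nd (.lf 238) (.lf 0)))))) (.nd (.nd (.nd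 (.nd (.nd (.lf 16) (.lf 302)) (.nd (.lf 199) (.lf 0))) (.nd (.nd (.lf 114) (.lf 347)) (.nd (.lf 247) (.lf 0)))) (.nd (.nd (.nd (.lf 2) (.lf 165)) (.nd (.lf 198) (.lf 0))) (.nd (.nd (.lf 14) (.lf 0)) (.nd (.lf 296) (.lf 0))))) (.nd (.nd (.nd (.nd (.lf 46) (.lf 215)) (.nd (.lf 41) (.lf 0))) (.nd (.nd (.lf 136) (.lf 330)) (.nd (.lf 285) (.lf 0)))) (.nd (.nd (.nd (.lf 94) (.lf 105)) (.nd (.lf 257) (.lf 0))) (.nd (.nd (.lf 177) (.lf 0)) (.nd (.lf 181) (.lf 0))))))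

/-- table part -/
def nxT_17 : Tr :=
  .nd (.nd (.nd (.nd (.nd (.nd (.lf 9) (.lf 309)) (.nd (.lf 192) (.lf 0))) (.nd (.nd (.lf 107) (.lf 353)) (.nd (.lf 154) (.lf 0)))) (.nd (.nd (.nd (.lf 66) (.lf 263)) (.nd (.lf 234) (.lf 0))) (.nd (.nd (.lf 152) (.lf 315)) (.nd (.lf 162) (.lf 0))))) (.nd (.nd (.nd (.nd (.lf 38) (.lf 78)) (.nd (.lf 214) (.lf 0))) (.nd (.nd (.lf 130) (.lf 311)) (.nd (.lf 282) (.lf 0)))) (.nd (.nd (.nd (.lf 88) (.lf 283)) (.nd (.lf 216) (.lf 0))) (.nd (.nd (.lf 20) (.lf 0)) (.nd (.lf 299) (.lf 0)))))) (.nd (.nd (.nd (.nd (.nd (.lf 22) (.lf 84)) (.nd (.lf 206) (.lf 0))) (.nd (.nd (.lf 118) (.lf 357)) (.nd (.lf 56) (.lf 0)))) (.nd (.nd (.nd (.lf 51) (.lf 170)) (.nd (.lf 209) (.lf 0))) (.nd (.nd (.lf 27) (.lf 0)) (.nd (.lf 277) (.lf 0))))) (.nd (.nd (.nd (.nd (.lf 49) (.lf 232)) (.nd (.lf 224) (.lf 0))) (.nd (.nd (.lf 8) (.lf 340))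 (.nd (.lf 252) (.lf 0)))) (.nd (.nd (.nd (.lf 100) (.lf 146)) (.nd (.lf 45) (.lf 0))) (.nd (.nd (.lf 183) (.lf 0)) (.nd (.lf 305) (.lf 0))))))

/-- table part -/
def nxT_18 : Tr :=
  .nd nxT_16 nxT_17

/-- table part -/
def nxT_19 : Tr :=
  .nd (.nd (.nd (.nd (.nd (.nd (.lf 5) (.lf 202)) (.nd (.lf 190) (.lf 0))) (.nd (.nd (.lf 91) (.lf 270)) (.nd (.lf 265) (.lf 0)))) (.nd (.nd (.nd (.lf 62) (.lf 332)) (.nd (.lf 122) (.lf 0))) (.nd (.nd (.lf 23) (.lf 200)) (.nd (.lf 161) (.lf 0))))) (.nd (.nd (.nd (.nd (.lf 34) (.lf 142)) (.nd (.lf 212) (.lf 0))) (.nd (.nd (.lf 128) (.lf 220)) (.nd (.lf 279) (.lf 0)))) (.nd (.nd (.nd (.lf 63) (.lf 254)) (.nd (.lf 129) (.lf 0))) (.nd (.nd (.lf 169) (.lf 0)) (.nd (.lf 39) (.lf 0)))))) (.nd (.nd (.nd (.nd (.nd (.lf 0) (.lf 133)) (.nd (.lf 203) (.lf 0))) (.nd (.nd (.lf 76) (.lf 321)) (.nd (.lf 240) (.lf 0)))) (.nd (.nd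 (.nd (.lf 75) (.lf 280)) (.nd (.lf 244) (.lf 0))) (.nd (.nd (.lf 159) (.lf 0)) (.nd (.lf 166) (.lf 0))))) (.nd (.nd (.nd (.nd (.lf 50) (.lf 329)) (.nd (.lf 221) (.lf 0))) (.nd (.nd (.lf 139) (.lf 351)) (.nd (.lf 272) (.lf 0)))) (.nd (.nd (.nd (.lf 97) (.lf 344)) (.nd (.lf 258) (.lf 0))) (.nd (.nd (.lf 106) (.lf 0)) (.nd (.lf 293) (.lf 0))))))

/-- table part -/
def nxT_20 : Tr :=
  .nd (.nd (.nd (.nd (.nd (.nd (.lf 13) (.lf 250)) (.nd (.lf 140) (.lf 0))) (.nd (.nd (.lf 112) (.lf 355)) (.nd (.lf 269) (.lf 0)))) (.nd (.nd (.nd (.lf 70) (.lf 236)) (.nd (.lf 237) (.lf 0))) (.nd (.nd (.lf 156) (.lf 356)) (.nd (.lf 294) (.lf 0))))) (.nd (.nd (.nd (.nd (.lf 42) (.lf 328)) (.nd (.lf 17) (.lf 0))) (.nd (.nd (.lf 98) (.lf 350)) (.nd (.lf 31) (.lf 0)))) (.nd (.nd (.nd (.lf 90) (.lf 298)) (.nd (.lf 188) (.lf 0))) (.nd (.nd (.lf 175) (.lf 0)) (.nd (.lf 138)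 (.lf 0)))))) (.nd (.nd (.nd (.nd (.nd (.lf 26) (.lf 303)) (.nd (.lf 207) (.lf 0))) (.nd (.nd (.lf 121) (.lf 319)) (.nd (.lf 273) (.lf 0)))) (.nd (.nd (.nd (.lf 59) (.lf 85)) (.nd (.lf 248) (.lf 0))) (.nd (.nd (.lf 99) (.lf 0)) (.nd (.lf 186) (.lf 0))))) (.nd (.nd (.nd (.nd (.lf 55) (.lf 82)) (.nd (.lf 227) (.lf 0))) (.nd (.nd (.lf 127) (.lf 348)) (.nd (.lf 93) (.lf 0)))) (.nd (.nd (.nd (.lf 4) (.lf 346)) (.nd (.lf 261) (.lf 0))) (.nd (.nd (.lf 185) (.lf 0)) (.nd (.lf 308) (.lf 0))))))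

/-- table part -/
def nxT_21 : Tr :=
  .nd nxT_19 nxT_20

/-- table part -/
def nxT_22 : Tr :=
  .nd nxT_18 nxT_21

/-- table part -/
def nxT_23 : Tr :=
  .nd (.nd (.nd (.nd (.nd (.nd (.lf 3) (.lf 80)) (.nd (.lf 189) (.lf 0))) (.nd (.nd (.lf 12) (.lf 349)) (.nd (.lf 230) (.lf 0)))) (.nd (.nd (.nd (.lf 60) (.lf 213)) (.nd (.lf 231) (.lf 0))) (.nd (.nd (.lf 150) (.lf 145)) (.nd (.lf 158) (.lf 0))))) (.nd (.nd (.nd (.nd (.lf 32) (.lf 87)) (.nd (.lf 210) (.lf 0))) (.nd (.nd (.lf 15) (.lf 358)) (.nd (.lf 278) (.lf 0)))) (.nd (.nd (.nd (.lf 47) (.lf 327)) (.nd (.lf 25) (.lf 0))) (.nd (.nd (.lf 167) (.lf 0)) (.nd (.lf 163) (.lf 0)))))) (.nd (.nd (.nd (.nd (.nd (.lf 18) (.lf 205)) (.nd (.lf 201) (.lf 0))) (.nd (.nd (.lf 69) (.lf 316)) (.nd (.lf 29) (.lf 0)))) (.nd (.nd (.nd (.lf 33) (.lf 336)) (.nd (.lf 242) (.lf 0))) (.nd (.nd (.lf 124) (.lf 0)) (.nd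 (.lf 131) (.lf 0))))) (.nd (.nd (.nd (.nd (.lf 48) (.lf 262)) (.nd (.lf 219) (.lf 0))) (.nd (.nd (.lf 137) (.lf 290)) (.nd (.lf 286) (.lf 0)))) (.nd (.nd (.nd (.lf 96) (.lf 343)) (.nd (.lf 218) (.lf 0))) (.nd (.nd (.lf 179) (.lf 0)) (.nd (.lf 180) (.lf 0))))))

/-- table part -/
def nxT_24 : Tr :=
  .nd (.nd (.nd (.nd (.nd (.nd (.lf 11) (.lf 268)) (.nd (.lf 194) (.lf 0))) (.nd (.nd (.lf 54) (.lf 335)) (.nd (.lf 223) (.lf 0)))) (.nd (.nd (.nd (.lf 68) (.lf 211)) (.nd (.lf 235) (.lf 0))) (.nd (.nd (.lf 52) (.lf 333)) (.nd (.lf 37) (.lf 0))))) (.nd (.nd (.nd (.nd (.lf 40) (.lf 193)) (.nd (.lf 71) (.lf 0))) (.nd (.nd (.lf 132) (.lf 337)) (.nd (.lf 196) (.lf 0)))) (.nd (.nd (.nd (.lf 89) (.lf 178)) (.nd (.lf 253) (.lf 0))) (.nd (.nd (.lf 173) (.lf 0)) (.nd (.lf 300) (.lf 0)))))) (.nd (.nd (.nd (.nd (.nd (.lf 24) (.lf 95)) (.nd (.lf 19) (.lf 0))) (.nd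 (.nd (.lf 119) (.lf 345)) (.nd (.lf 266) (.lf 0)))) (.nd (.nd (.nd (.lf 79) (.lf 339)) (.nd (.lf 246) (.lf 0))) (.nd (.nd (.lf 74) (.lf 0)) (.nd (.lf 111) (.lf 0))))) (.nd (.nd (.nd (.nd (.lf 53) (.lf 176)) (.nd (.lf 226) (.lf 0))) (.nd (.nd (.lf 144) (.lf 314)) (.nd (.lf 289) (.lf 0)))) (.nd (.nd (.nd (.lf 102) (.lf 306)) (.nd (.lf 260) (.lf 0))) (.nd (.nd (.lf 143) (.lf 0)) (.nd (.lf 307) (.lf 0))))))

/-- table part -/
def nxT_25 : Tr :=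
  .nd nxT_23 nxT_24

/-- table part -/
def nxT_26 : Tr :=
  .nd (.nd (.nd (.nd (.nd (.nd (.lf 7) (.lf 274)) (.nd (.lf 191) (.lf 0))) (.nd (.nd (.lf 108) (.lf 352)) (.nd (.lf 61) (.lf 0)))) (.nd (.nd (.nd (.lf 64) (.lf 304)) (.nd (.lf 233) (.lf 0))) (.nd (.nd (.lf 153) (.lf 297)) (.nd (.lf 271) (.lf 0))))) (.nd (.nd (.nd (.nd (.lf 36) (.lf 259)) (.nd (.lf 168) (.lf 0))) (.nd (.nd (.lf 120) (.lf 354)) (.nd (.lf 281) (.lf 0)))) (.nd (.nd (.nd (.lf 86) (.lf 174)) (.nd (.lf 251) (.lf 0))) (.nd (.nd (.lf 171) (.lf 0)) (.nd (.lf 126) (.lf 0)))))) (.nd (.nd (.nd (.nd (.nd (.lf 21) (.lf 225)) (.nd (.lf 73) (.lf 0))) (.nd (.nd (.lf 65) (.lf 326)) (.nd (.lf 117) (.lf 0)))) (.nd (.nd (.nd (.lf 77) (.lf 245)) (.nd (.lf 43) (.lf 0))) (.nd (.nd (.lf 160) (.lf 0)) (.nd (.lf 284) (.lf 0))))) (.nd (.nd (.nd (.nd (.lf 35) (.lf 317)) (.nd (.lf 222) (.lf 0))) (.nd (.nd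 (.lf 141) (.lf 172)) (.nd (.lf 288) (.lf 0)))) (.nd (.nd (.nd (.lf 6) (.lf 341)) (.nd (.lf 204) (.lf 0))) (.nd (.nd (.lf 182) (.lf 0)) (.nd (.lf 276) (.lf 0))))))

/-- table part -/
def nxT_27 : Tr :=
  .nd (.nd (.nd (.nd (.nd (.nd (.lf 10) (.lf 318)) (.nd (.lf 197) (.lf 0))) (.nd (.nd (.lf 113) (.lf 338)) (.nd (.lf 101) (.lf 0)))) (.nd (.nd (.nd (.lf 72) (.lf 334)) (.nd (.lf 239) (.lf 0))) (.nd (.nd (.lf 157) (.lf 287)) (.nd (.lf 103) (.lf 0))))) (.nd (.nd (.nd (.nd (.lf 44) (.lf 324)) (.nd (.lf 217) (.lf 0))) (.nd (.nd (.lf 134) (.lf 322)) (.nd (.lf 255) (.lf 0)))) (.nd (.nd (.nd (.lf 92) (.lf 342)) (.nd (.lf 256) (.lf 0))) (.nd (.nd (.lf 115) (.lf 0)) (.nd (.lf 301) (.lf 0)))))) (.nd (.nd (.nd (.nd (.nd (.lf 28) (.lf 267)) (.nd (.lf 184) (.lf 0))) (.nd (.nd (.lf 123) (.lf 295)) (.nd (.lf 275) (.lf 0)))) (.nd (.nd (.nd (.lf 81) (.lf 313)) (.nd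 (.lf 109) (.lf 0))) (.nd (.nd (.lf 164) (.lf 0)) (.nd (.lf 149) (.lf 0))))) (.nd (.nd (.nd (.nd (.lf 57) (.lf 320)) (.nd (.lf 228) (.lf 0))) (.nd (.nd (.lf 147) (.lf 292)) (.nd (.lf 291) (.lf 0)))) (.nd (.nd (.nd (.lf 104) (.lf 325)) (.nd (.lf 241) (.lf 0))) (.nd (.nd (.lf 187) (.lf 0)) (.nd (.lf 310) (.lf 0))))))

/-- table part -/
def nxT_28 : Tr :=
  .nd nxT_26 nxT_27

/-- table part -/
def nxT_29 : Tr :=
  .nd nxT_25 nxT_28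

/-- table part -/
def nxT_30 : Tr :=
  .nd nxT_22 nxT_29

/-- table part -/
def nxT_31 : Tr :=
  .nd nxT_15 nxT_30

/-- table -/
def nxT : Tr :=
  nxT_31

/-- table part -/
def pvT_1 : Tr :=
  .nd (.nd (.nd (.nd (.nd (.nd (.lf 0) (.lf 235)) (.nd (.lf 241) (.lf 0))) (.nd (.nd (.lf 155) (.lf 265)) (.nd (.lf 150) (.lf 0)))) (.nd (.nd (.nd (.lf 107) (.lf 336)) (.nd (.lf 215) (.lf 0))) (.nd (.nd (.lf 225) (.lf 350)) (.nd (.lf 230) (.lf 0))))) (.nd (.nd (.nd (.nd (.lf 203) (.lf 206)) (.nd (.lf 177) (.lf 0))) (.nd (.nd (.lf 46) (.lf 314)) (.nd (.lf 160) (.lf 0)))) (.nd (.nd (.nd (.lf 103) (.lf 252)) (.nd (.lf 120) (.lf 0))) (.nd (.nd (.lf 130) (.lf 0)) (.nd (.lf 168) (.lf 0)))))) (.nd (.nd (.nd (.nd (.nd (.lf 4) (.lf 247)) (.nd (.lf 309) (.lf 0))) (.nd (.nd (.lf 84) (.lf 291)) (.nd (.lf 137) (.lf 0)))) (.nd (.nd (.nd (.lf 32) (.lf 341)) (.nd (.lf 114)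 (.lf 0))) (.nd (.nd (.lf 128) (.lf 0)) (.nd (.lf 162) (.lf 0))))) (.nd (.nd (.nd (.nd (.lf 201) (.lf 211)) (.nd (.lf 99) (.lf 0))) (.nd (.nd (.lf 352) (.lf 344)) (.nd (.lf 151) (.lf 0)))) (.nd (.nd (.nd (.lf 31) (.lf 263)) (.nd (.lf 126) (.lf 0))) (.nd (.nd (.lf 78) (.lf 0)) (.nd (.lf 311) (.lf 0))))))

/-- table part -/
def pvT_2 : Tr :=
  .nd (.nd (.nd (.nd (.nd (.nd (.lf 2) (.lf 303)) (.nd (.lf 204) (.lf 0))) (.nd (.nd (.lf 119) (.lf 272)) (.nd (.lf 135) (.lf 0)))) (.nd (.nd (.nd (.lf 76) (.lf 227)) (.nd (.lf 212) (.lf 0))) (.nd (.nd (.lf 353) (.lf 328)) (.nd (.lf 295) (.lf 0))))) (.nd (.nd (.nd (.nd (.lf 11) (.lf 208)) (.nd (.lf 334) (.lf 0))) (.nd (.nd (.lf 49) (.lf 305)) (.nd (.lf 280) (.lf 0)))) (.nd (.nd (.nd (.lf 29) (.lf 358)) (.nd (.lf 122) (.lf 0))) (.nd (.nd (.lf 74) (.lf 0)) (.nd (.lf 180) (.lf 0)))))) (.nd (.nd (.nd (.nd (.nd (.lf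 6) (.lf 198)) (.nd (.lf 91) (.lf 0))) (.nd (.nd (.lf 43) (.lf 333)) (.nd (.lf 139) (.lf 0)))) (.nd (.nd (.nd (.lf 27) (.lf 257)) (.nd (.lf 117) (.lf 0))) (.nd (.nd (.lf 132) (.lf 0)) (.nd (.lf 166) (.lf 0))))) (.nd (.nd (.nd (.nd (.lf 116) (.lf 214)) (.nd (.lf 171) (.lf 0))) (.nd (.nd (.lf 86) (.lf 321)) (.nd (.lf 154) (.lf 0)))) (.nd (.nd (.nd (.lf 286) (.lf 261)) (.nd (.lf 129) (.lf 0))) (.nd (.nd (.lf 80) (.lf 0)) (.nd (.lf 181) (.lf 0))))))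

/-- table part -/
def pvT_3 : Tr :=
  .nd pvT_1 pvT_2

/-- table part -/
def pvT_4 : Tr :=
  .nd (.nd (.nd (.nd (.nd (.nd (.lf 1) (.lf 270)) (.nd (.lf 293) (.lf 0))) (.nd (.nd (.lf 243) (.lf 267)) (.nd (.lf 292) (.lf 0)))) (.nd (.nd (.nd (.lf 158) (.lf 222)) (.nd (.lf 109) (.lf 0))) (.nd (.nd (.lf 59) (.lf 326)) (.nd (.lf 345) (.lf 0))))) (.nd (.nd (.nd (.nd (.lf 175) (.lf 207)) (.nd (.lf 95) (.lf 0))) (.nd (.nd (.lf 48) (.lf 299)) (.nd (.lf 317) (.lf 0)))) (.nd (.nd (.nd (.lf 141) (.lf 253)) (.nd (.lf 121) (.lf 0))) (.nd (.nd (.lf 226) (.lf 0)) (.nd (.lf 237) (.lf 0)))))) (.nd (.nd (.nd (.nd (.nd (.lf 5) (.lf 195)) (.nd (.lf 90) (.lf 0))) (.nd (.nd (.lf 42) (.lf 287)) (.nd (.lf 138) (.lf 0)))) (.nd (.nd (.nd (.lf 131) (.lf 239)) (.nd (.lf 115) (.lf 0))) (.nd (.nd (.lf 65) (.lf 0)) (.nd (.lf 355) (.lf 0))))) (.nd (.nd (.nd (.nd (.lf 71) (.lf 290))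 (.nd (.lf 100) (.lf 0))) (.nd (.nd (.lf 144) (.lf 357)) (.nd (.lf 152) (.lf 0)))) (.nd (.nd (.nd (.lf 50) (.lf 259)) (.nd (.lf 127) (.lf 0))) (.nd (.nd (.lf 79) (.lf 0)) (.nd (.lf 179) (.lf 0))))))

/-- table part -/
def pvT_5 : Tr :=
  .nd (.nd (.nd (.nd (.nd (.nd (.lf 3) (.lf 191)) (.nd (.lf 349) (.lf 0))) (.nd (.nd (.lf 312) (.lf 277)) (.nd (.lf 136) (.lf 0)))) (.nd (.nd (.nd (.lf 96) (.lf 313)) (.nd (.lf 113) (.lf 0))) (.nd (.nd (.lf 347) (.lf 335)) (.nd (.lf 161) (.lf 0))))) (.nd (.nd (.nd (.nd (.lf 66) (.lf 304)) (.nd (.lf 147) (.lf 0))) (.nd (.nd (.lf 205) (.lf 324)) (.nd (.lf 210) (.lf 0)))) (.nd (.nd (.nd (.lf 30) (.lf 283)) (.nd (.lf 159) (.lf 0))) (.nd (.nd (.lf 102) (.lf 0)) (.nd (.lf 268) (.lf 0)))))) (.nd (.nd (.nd (.nd (.nd (.lf 7) (.lf 199)) (.nd (.lf 92) (.lf 0))) (.nd (.nd (.lf 45) (.lf 300)) (.nd (.lf 297) (.lf 0)))) (.nd (.nd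 (.nd (.lf 77) (.lf 250)) (.nd (.lf 118) (.lf 0))) (.nd (.nd (.lf 69) (.lf 0)) (.nd (.lf 167) (.lf 0))))) (.nd (.nd (.nd (.nd (.lf 63) (.lf 274)) (.nd (.lf 105) (.lf 0))) (.nd (.nd (.lf 343) (.lf 322)) (.nd (.lf 242) (.lf 0)))) (.nd (.nd (.nd (.lf 53) (.lf 273)) (.nd (.lf 281) (.lf 0))) (.nd (.nd (.lf 81) (.lf 0)) (.nd (.lf 182) (.lf 0))))))

/-- table part -/
def pvT_6 : Tr :=
  .nd pvT_4 pvT_5

/-- table part -/
def pvT_7 : Tr :=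
  .nd pvT_3 pvT_6

/-- table part -/
def pvT_8 : Tr :=
  .nd (.nd (.nd (.nd (.nd (.nd (.lf 44) (.lf 310)) (.nd (.lf 83) (.lf 0))) (.nd (.nd (.lf 36) (.lf 266)) (.nd (.lf 133) (.lf 0)))) (.nd (.nd (.nd (.lf 18) (.lf 279)) (.nd (.lf 108) (.lf 0))) (.nd (.nd (.lf 325) (.lf 338)) (.nd (.lf 157) (.lf 0))))) (.nd (.nd (.nd (.nd (.lf 9) (.lf 288)) (.nd (.lf 94) (.lf 0))) (.nd (.nd (.lf 104) (.lf 298)) (.nd (.lf 145) (.lf 0)))) (.nd (.nd (.nd (.lf 26) (.lf 301)) (.nd (.lf 185) (.lf 0))) (.nd (.nd (.lf 89) (.lf 0)) (.nd (.lf 169) (.lf 0)))))) (.nd (.nd (.nd (.nd (.nd (.lf 153) (.lf 217)) (.nd (.lf 125) (.lf 0))) (.nd (.nd (.lf 41) (.lf 329)) (.nd (.lf 197) (.lf 0)))) (.nd (.nd (.nd (.lf 22) (.lf 233)) (.nd (.lf 184) (.lf 0))) (.nd (.nd (.lf 64) (.lf 0)) (.nd (.lf 173) (.lf 0))))) (.nd (.nd (.nd (.nd (.lf 14) (.lf 337)) (.nd (.lf 143) (.lf 0))) (.nd (.nd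 (.lf 302) (.lf 316)) (.nd (.lf 221) (.lf 0)))) (.nd (.nd (.nd (.lf 164) (.lf 258)) (.nd (.lf 271) (.lf 0))) (.nd (.nd (.lf 190) (.lf 0)) (.nd (.lf 220) (.lf 0))))))

/-- table part -/
def pvT_9 : Tr :=
  .nd (.nd (.nd (.nd (.nd (.nd (.lf 54) (.lf 240)) (.nd (.lf 87) (.lf 0))) (.nd (.nd (.lf 38) (.lf 276)) (.nd (.lf 176) (.lf 0)))) (.nd (.nd (.nd (.lf 20) (.lf 229)) (.nd (.lf 112) (.lf 0))) (.nd (.nd (.lf 61) (.lf 351)) (.nd (.lf 231) (.lf 0))))) (.nd (.nd (.nd (.nd (.lf 72) (.lf 209)) (.nd (.lf 97) (.lf 0))) (.nd (.nd (.lf 51) (.lf 306)) (.nd (.lf 148) (.lf 0)))) (.nd (.nd (.nd (.lf 186) (.lf 255)) (.nd (.lf 123) (.lf 0))) (.nd (.nd (.lf 75) (.lf 0)) (.nd (.lf 172) (.lf 0)))))) (.nd (.nd (.nd (.nd (.nd (.lf 106) (.lf 234)) (.nd (.lf 124) (.lf 0))) (.nd (.nd (.lf 58) (.lf 294)) (.nd (.lf 140) (.lf 0)))) (.nd (.nd (.nd (.lf 24) (.lf 331)) (.nd (.lf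 342) (.lf 0))) (.nd (.nd (.lf 68) (.lf 0)) (.nd (.lf 238) (.lf 0))))) (.nd (.nd (.nd (.nd (.lf 16) (.lf 284)) (.nd (.lf 163) (.lf 0))) (.nd (.nd (.lf 56) (.lf 339)) (.nd (.lf 200) (.lf 0)))) (.nd (.nd (.nd (.lf 34) (.lf 262)) (.nd (.lf 165) (.lf 0))) (.nd (.nd (.lf 320) (.lf 0)) (.nd (.lf 308) (.lf 0))))))

/-- table part -/
def pvT_10 : Tr :=
  .nd pvT_8 pvT_9

/-- table part -/
def pvT_11 : Tr :=
  .nd (.nd (.nd (.nd (.nd (.nd (.lf 47) (.lf 187)) (.nd (.lf 85) (.lf 0))) (.nd (.nd (.lf 37) (.lf 269)) (.nd (.lf 134) (.lf 0)))) (.nd (.nd (.nd (.lf 19) (.lf 315)) (.nd (.lf 110) (.lf 0))) (.nd (.nd (.lf 60) (.lf 346)) (.nd (.lf 275) (.lf 0))))) (.nd (.nd (.nd (.nd (.lf 10) (.lf 330)) (.nd (.lf 111) (.lf 0))) (.nd (.nd (.lf 245) (.lf 348)) (.nd (.lf 146) (.lf 0)))) (.nd (.nd (.nd (.lf 28) (.lf 327)) (.nd (.lf 236) (.lf 0))) (.nd (.nd (.lf 73) (.lf 0))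 (.nd (.lf 170) (.lf 0)))))) (.nd (.nd (.nd (.nd (.nd (.lf 40) (.lf 196)) (.nd (.lf 224) (.lf 0))) (.nd (.nd (.lf 188) (.lf 289)) (.nd (.lf 193) (.lf 0)))) (.nd (.nd (.nd (.lf 23) (.lf 249)) (.nd (.lf 248) (.lf 0))) (.nd (.nd (.lf 67) (.lf 0)) (.nd (.lf 223) (.lf 0))))) (.nd (.nd (.nd (.nd (.lf 15) (.lf 213)) (.nd (.lf 101) (.lf 0))) (.nd (.nd (.lf 55) (.lf 319)) (.nd (.lf 194) (.lf 0)))) (.nd (.nd (.nd (.lf 33) (.lf 260)) (.nd (.lf 318) (.lf 0))) (.nd (.nd (.lf 307) (.lf 0)) (.nd (.lf 356) (.lf 0))))))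

/-- table part -/
def pvT_12 : Tr :=
  .nd (.nd (.nd (.nd (.nd (.nd (.lf 12) (.lf 192)) (.nd (.lf 88) (.lf 0))) (.nd (.nd (.lf 39) (.lf 278)) (.nd (.lf 332) (.lf 0)))) (.nd (.nd (.nd (.lf 21) (.lf 232)) (.nd (.lf 282) (.lf 0))) (.nd (.nd (.lf 62) (.lf 340)) (.nd (.lf 189) (.lf 0))))) (.nd (.nd (.nd (.nd (.lf 13) (.lf 359)) (.nd (.lf 98) (.lf 0))) (.nd (.nd (.lf 52) (.lf 354)) (.nd (.lf 149) (.lf 0)))) (.nd (.nd (.nd (.lf 142) (.lf 256)) (.nd (.lf 246) (.lf 0))) (.nd (.nd (.lf 228) (.lf 0)) (.nd (.lf 174) (.lf 0)))))) (.nd (.nd (.nd (.nd (.nd (.lf 8) (.lf 202)) (.nd (.lf 93) (.lf 0))) (.nd (.nd (.lf 254) (.lf 296)) (.nd (.lf 218) (.lf 0)))) (.nd (.nd (.nd (.lf 25) (.lf 251)) (.nd (.lf 216) (.lf 0))) (.nd (.nd (.lf 70) (.lf 0)) (.nd (.lf 178) (.lf 0))))) (.nd (.nd (.nd (.nd (.lf 17) (.lf 219)) (.nd (.lf 244) (.lf 0))) (.nd (.nd (.lf 57) (.lf 323))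 (.nd (.lf 156) (.lf 0)))) (.nd (.nd (.nd (.lf 35) (.lf 264)) (.nd (.lf 285) (.lf 0))) (.nd (.nd (.lf 82) (.lf 0)) (.nd (.lf 183) (.lf 0))))))

/-- table part -/
def pvT_13 : Tr :=
  .nd pvT_11 pvT_12

/-- table part -/
def pvT_14 : Tr :=
  .nd pvT_10 pvT_13

/-- table part -/
def pvT_15 : Tr :=
  .nd pvT_7 pvT_14

/-- table part -/
def pvT_16 : Tr :=
  .nd (.nd (.nd (.nd (.nd (.nd (.lf 10) (.lf 183)) (.nd (.lf 82) (.lf 0))) (.nd (.nd (.lf 35) (.lf 287)) (.nd (.lf 132) (.lf 0)))) (.nd (.nd (.nd (.lf 17) (.lf 219)) (.nd (.lf 107) (.lf 0))) (.nd (.nd (.lf 57) (.lf 323)) (.nd (.lf 156) (.lf 0))))) (.nd (.nd (.nd (.nd (.lf 8) (.lf 218)) (.nd (.lf 93) (.lf 0))) (.nd (.nd (.lf 257) (.lf 297)) (.nd (.lf 144) (.lf 0)))) (.nd (.nd (.nd (.lf 25) (.lf 291)) (.nd (.lf 285) (.lf 0))) (.nd (.nd (.lf 70) (.lf 0)) (.nd (.lf 202) (.lf 0)))))) (.nd (.nd (.nd (.nd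 (.nd (.lf 92) (.lf 192)) (.nd (.lf 88) (.lf 0))) (.nd (.nd (.lf 39) (.lf 278)) (.nd (.lf 354) (.lf 0)))) (.nd (.nd (.nd (.lf 21) (.lf 232)) (.nd (.lf 147) (.lf 0))) (.nd (.nd (.lf 63) (.lf 0)) (.nd (.lf 284) (.lf 0))))) (.nd (.nd (.nd (.nd (.lf 13) (.lf 298)) (.nd (.lf 100) (.lf 0))) (.nd (.nd (.lf 52) (.lf 314)) (.nd (.lf 180) (.lf 0)))) (.nd (.nd (.nd (.lf 204) (.lf 256)) (.nd (.lf 143) (.lf 0))) (.nd (.nd (.lf 83) (.lf 0)) (.nd (.lf 174) (.lf 0))))))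

/-- table part -/
def pvT_17 : Tr :=
  .nd (.nd (.nd (.nd (.nd (.nd (.lf 62) (.lf 189)) (.nd (.lf 85) (.lf 0))) (.nd (.nd (.lf 37) (.lf 279)) (.nd (.lf 213) (.lf 0)))) (.nd (.nd (.nd (.lf 19) (.lf 351)) (.nd (.lf 111) (.lf 0))) (.nd (.nd (.lf 60) (.lf 358)) (.nd (.lf 159) (.lf 0))))) (.nd (.nd (.nd (.nd (.lf 116) (.lf 251)) (.nd (.lf 96) (.lf 0))) (.nd (.nd (.lf 268) (.lf 348)) (.nd (.lf 146) (.lf 0)))) (.nd (.nd (.nd (.lf 101) (.lf 254)) (.nd (.lf 249) (.lf 0))) (.nd (.nd (.lf 112) (.lf 0)) (.nd (.lf 170) (.lf 0)))))) (.nd (.nd (.nd (.nd (.nd (.lf 65) (.lf 261)) (.nd (.lf 134) (.lf 0))) (.nd (.nd (.lf 74) (.lf 290)) (.nd (.lf 187) (.lf 0)))) (.nd (.nd (.nd (.lf 23) (.lf 245)) (.nd (.lf 347) (.lf 0))) (.nd (.nd (.lf 67) (.lf 0)) (.nd (.lf 294) (.lf 0))))) (.nd (.nd (.nd (.nd (.lf 15) (.lf 235)) (.nd (.lf 102) (.lf 0))) (.nd (.nd (.lf 55) (.lf 350))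 (.nd (.lf 338) (.lf 0)))) (.nd (.nd (.nd (.lf 33) (.lf 329)) (.nd (.lf 182) (.lf 0))) (.nd (.nd (.lf 105) (.lf 0)) (.nd (.lf 220) (.lf 0))))))

/-- table part -/
def pvT_18 : Tr :=
  .nd pvT_16 pvT_17

/-- table part -/
def pvT_19 : Tr :=
  .nd (.nd (.nd (.nd (.nd (.nd (.lf 40) (.lf 186)) (.nd (.lf 84) (.lf 0))) (.nd (.nd (.lf 36) (.lf 343)) (.nd (.lf 133) (.lf 0)))) (.nd (.nd (.nd (.lf 18) (.lf 345)) (.nd (.lf 228) (.lf 0))) (.nd (.nd (.lf 86) (.lf 339)) (.nd (.lf 157) (.lf 0))))) (.nd (.nd (.nd (.nd (.lf 9) (.lf 259)) (.nd (.lf 316) (.lf 0))) (.nd (.nd (.lf 286) (.lf 327)) (.nd (.lf 145) (.lf 0)))) (.nd (.nd (.nd (.lf 26) (.lf 317)) (.nd (.lf 309) (.lf 0))) (.nd (.nd (.lf 72) (.lf 0)) (.nd (.lf 169) (.lf 0)))))) (.nd (.nd (.nd (.nd (.nd (.lf 7) (.lf 205)) (.nd (.lf 246) (.lf 0))) (.nd (.nd (.lf 109) (.lf 344)) (.nd (.lf 258) (.lf 0)))) (.nd (.nd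 (.nd (.lf 22) (.lf 310)) (.nd (.lf 300) (.lf 0))) (.nd (.nd (.lf 122) (.lf 0)) (.nd (.lf 164) (.lf 0))))) (.nd (.nd (.nd (.nd (.lf 14) (.lf 212)) (.nd (.lf 196) (.lf 0))) (.nd (.nd (.lf 54) (.lf 318)) (.nd (.lf 185) (.lf 0)))) (.nd (.nd (.nd (.lf 32) (.lf 349)) (.nd (.lf 238) (.lf 0))) (.nd (.nd (.lf 162) (.lf 0)) (.nd (.lf 262) (.lf 0))))))

/-- table part -/
def pvT_20 : Tr :=
  .nd (.nd (.nd (.nd (.nd (.nd (.lf 59) (.lf 281)) (.nd (.lf 87) (.lf 0))) (.nd (.nd (.lf 38) (.lf 331)) (.nd (.lf 168) (.lf 0)))) (.nd (.nd (.nd (.lf 20) (.lf 230)) (.nd (.lf 234) (.lf 0))) (.nd (.nd (.lf 61) (.lf 337)) (.nd (.lf 193) (.lf 0))))) (.nd (.nd (.nd (.nd (.lf 12) (.lf 209)) (.nd (.lf 97) (.lf 0))) (.nd (.nd (.lf 51) (.lf 311)) (.nd (.lf 148) (.lf 0)))) (.nd (.nd (.nd (.lf 69) (.lf 255)) (.nd (.lf 123) (.lf 0))) (.nd (.nd (.lf 76) (.lf 0)) (.nd (.lf 173) (.lf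 0)))))) (.nd (.nd (.nd (.nd (.nd (.lf 104) (.lf 322)) (.nd (.lf 274) (.lf 0))) (.nd (.nd (.lf 276) (.lf 295)) (.nd (.lf 140) (.lf 0)))) (.nd (.nd (.nd (.lf 24) (.lf 264)) (.nd (.lf 307) (.lf 0))) (.nd (.nd (.lf 288) (.lf 0)) (.nd (.lf 240) (.lf 0))))) (.nd (.nd (.nd (.nd (.lf 16) (.lf 217)) (.nd (.lf 225) (.lf 0))) (.nd (.nd (.lf 56) (.lf 342)) (.nd (.lf 155) (.lf 0)))) (.nd (.nd (.nd (.lf 34) (.lf 263)) (.nd (.lf 130) (.lf 0))) (.nd (.nd (.lf 243) (.lf 0)) (.nd (.lf 306) (.lf 0))))))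

/-- table part -/
def pvT_21 : Tr :=
  .nd pvT_19 pvT_20

/-- table part -/
def pvT_22 : Tr :=
  .nd pvT_18 pvT_21

/-- table part -/
def pvT_23 : Tr :=
  .nd (.nd (.nd (.nd (.nd (.nd (.lf 0) (.lf 184)) (.nd (.lf 178) (.lf 0))) (.nd (.nd (.lf 75) (.lf 330)) (.nd (.lf 277) (.lf 0)))) (.nd (.nd (.nd (.lf 41) (.lf 221)) (.nd (.lf 226) (.lf 0))) (.nd (.nd (.lf 58) (.lf 324)) (.nd (.lf 267) (.lf 0))))) (.nd (.nd (.nd (.nd (.lf 150) (.lf 206)) (.nd (.lf 353) (.lf 0))) (.nd (.nd (.lf 47) (.lf 341)) (.nd (.lf 172) (.lf 0)))) (.nd (.nd (.nd (.lf 28) (.lf 252)) (.nd (.lf 120) (.lf 0))) (.nd (.nd (.lf 71) (.lf 0)) (.nd (.lf 191) (.lf 0)))))) (.nd (.nd (.nd (.nd (.nd (.lf 4) (.lf 194)) (.nd (.lf 89) (.lf 0))) (.nd (.nd (.lf 139) (.lf 282)) (.nd (.lf 137) (.lf 0)))) (.nd (.nd (.nd (.lf 152) (.lf 355)) (.nd (.lf 114) (.lf 0))) (.nd (.nd (.lf 312) (.lf 0)) (.nd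 (.lf 163) (.lf 0))))) (.nd (.nd (.nd (.nd (.lf 177) (.lf 211)) (.nd (.lf 99) (.lf 0))) (.nd (.nd (.lf 53) (.lf 333)) (.nd (.lf 151) (.lf 0)))) (.nd (.nd (.nd (.lf 31) (.lf 303)) (.nd (.lf 126) (.lf 0))) (.nd (.nd (.lf 78) (.lf 0)) (.nd (.lf 176) (.lf 0))))))

/-- table part -/
def pvT_24 : Tr :=
  .nd (.nd (.nd (.nd (.nd (.nd (.lf 2) (.lf 190)) (.nd (.lf 266) (.lf 0))) (.nd (.nd (.lf 73) (.lf 319)) (.nd (.lf 135) (.lf 0)))) (.nd (.nd (.nd (.lf 229) (.lf 250)) (.nd (.lf 296) (.lf 0))) (.nd (.nd (.lf 199) (.lf 332)) (.nd (.lf 160) (.lf 0))))) (.nd (.nd (.nd (.nd (.lf 11) (.lf 236)) (.nd (.lf 239) (.lf 0))) (.nd (.nd (.lf 302) (.lf 315)) (.nd (.lf 289) (.lf 0)))) (.nd (.nd (.nd (.lf 29) (.lf 260)) (.nd (.lf 248) (.lf 0))) (.nd (.nd (.lf 203) (.lf 0)) (.nd (.lf 299) (.lf 0)))))) (.nd (.nd (.nd (.nd (.nd (.lf 6) (.lf 198)) (.nd (.lf 91) (.lf 0))) (.nd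 (.nd (.lf 43) (.lf 357)) (.nd (.lf 265) (.lf 0)))) (.nd (.nd (.nd (.lf 188) (.lf 247)) (.nd (.lf 117) (.lf 0))) (.nd (.nd (.lf 175) (.lf 0)) (.nd (.lf 166) (.lf 0))))) (.nd (.nd (.nd (.nd (.lf 201) (.lf 216)) (.nd (.lf 103) (.lf 0))) (.nd (.nd (.lf 222) (.lf 321)) (.nd (.lf 154) (.lf 0)))) (.nd (.nd (.nd (.lf 195) (.lf 283)) (.nd (.lf 129) (.lf 0))) (.nd (.nd (.lf 80) (.lf 0)) (.nd (.lf 181) (.lf 0))))))

/-- table part -/
def pvT_25 : Tr :=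
  .nd pvT_23 pvT_24

/-- table part -/
def pvT_26 : Tr :=
  .nd (.nd (.nd (.nd (.nd (.nd (.lf 1) (.lf 275)) (.nd (.lf 233) (.lf 0))) (.nd (.nd (.lf 64) (.lf 320)) (.nd (.lf 224) (.lf 0)))) (.nd (.nd (.nd (.lf 27) (.lf 223)) (.nd (.lf 241) (.lf 0))) (.nd (.nd (.lf 110) (.lf 326)) (.nd (.lf 158) (.lf 0))))) (.nd (.nd (.nd (.nd (.lf 141) (.lf 207)) (.nd (.lf 95) (.lf 0))) (.nd (.nd (.lf 48) (.lf 301)) (.nd (.lf 293) (.lf 0)))) (.nd (.nd (.nd (.lf 44) (.lf 253)) (.nd (.lf 121) (.lf 0))) (.nd (.nd (.lf 119) (.lf 0)) (.nd (.lf 272) (.lf 0)))))) (.nd (.nd (.nd (.nd (.nd (.lf 5) (.lf 271)) (.nd (.lf 90) (.lf 0))) (.nd (.nd (.lf 42) (.lf 336)) (.nd (.lf 138) (.lf 0)))) (.nd (.nd (.nd (.lf 171) (.lf 244)) (.nd (.lf 115) (.lf 0))) (.nd (.nd (.lf 68) (.lf 0)) (.nd (.lf 165) (.lf 0))))) (.nd (.nd (.nd (.nd (.lf 108) (.lf 308)) (.nd (.lf 208) (.lf 0))) (.nd (.nd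 (.lf 66) (.lf 328)) (.nd (.lf 153) (.lf 0)))) (.nd (.nd (.nd (.lf 46) (.lf 356)) (.nd (.lf 127) (.lf 0))) (.nd (.nd (.lf 79) (.lf 0)) (.nd (.lf 179) (.lf 0))))))

/-- table part -/
def pvT_27 : Tr :=
  .nd (.nd (.nd (.nd (.nd (.nd (.lf 3) (.lf 292)) (.nd (.lf 304) (.lf 0))) (.nd (.nd (.lf 149) (.lf 305)) (.nd (.lf 136) (.lf 0)))) (.nd (.nd (.nd (.lf 242) (.lf 335)) (.nd (.lf 113) (.lf 0))) (.nd (.nd (.lf 231) (.lf 352)) (.nd (.lf 161) (.lf 0))))) (.nd (.nd (.nd (.nd (.lf 98) (.lf 210)) (.nd (.lf 128) (.lf 0))) (.nd (.nd (.lf 273) (.lf 313)) (.nd (.lf 280) (.lf 0)))) (.nd (.nd (.nd (.lf 30) (.lf 340)) (.nd (.lf 124) (.lf 0))) (.nd (.nd (.lf 77) (.lf 0)) (.nd (.lf 200) (.lf 0)))))) (.nd (.nd (.nd (.nd (.nd (.lf 81) (.lf 227)) (.nd (.lf 125) (.lf 0))) (.nd (.nd (.lf 45) (.lf 325)) (.nd (.lf 142) (.lf 0)))) (.nd (.nd (.nd (.lf 49) (.lf 270)) (.nd (.lf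 118) (.lf 0))) (.nd (.nd (.lf 237) (.lf 0)) (.nd (.lf 167) (.lf 0))))) (.nd (.nd (.nd (.nd (.lf 214) (.lf 359)) (.nd (.lf 106) (.lf 0))) (.nd (.nd (.lf 269) (.lf 346)) (.nd (.lf 197) (.lf 0)))) (.nd (.nd (.nd (.lf 50) (.lf 334)) (.nd (.lf 131) (.lf 0))) (.nd (.nd (.lf 94) (.lf 0)) (.nd (.lf 215) (.lf 0))))))

/-- table part -/
def pvT_28 : Tr :=
  .nd pvT_26 pvT_27

/-- table part -/
def pvT_29 : Tr :=
  .nd pvT_25 pvT_28

/-- table part -/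
def pvT_30 : Tr :=
  .nd pvT_22 pvT_29

/-- table part -/
def pvT_31 : Tr :=
  .nd pvT_15 pvT_30

/-- table -/
def pvT : Tr :=
  pvT_31

/-- table part -/
def parT_1 : Tr :=
  .nd (.nd (.nd (.nd (.nd (.nd (.lf 0) (.lf 367)) (.nd (.lf 165) (.lf 0))) (.nd (.nd (.lf 71) (.lf 530)) (.nd (.lf 265) (.lf 0)))) (.nd (.nd (.nd (.lf 35) (.lf 439)) (.nd (.lf 215) (.lf 0))) (.nd (.nd (.lf 115) (.lf 647)) (.nd (.lf 313) (.lf 0))))) (.nd (.nd (.nd (.nd (.lf 17) (.lf 412)) (.nd (.lf 187) (.lf 0))) (.nd (.nd (.lf 92) (.lf 595)) (.nd (.lf 289) (.lf 0)))) (.nd (.nd (.nd (.lf 51) (.lf 504)) (.nd (.lf 240) (.lf 0))) (.nd (.nd (.lf 141) (.lf 0)) (.nd (.lf 336) (.lf 0)))))) (.nd (.nd (.nd (.nd (.nd (.lf 8) (.lf 385)) (.nd (.lf 177) (.lf 0))) (.nd (.nd (.lf 79) (.lf 557)) (.nd (.lf 274) (.lf 0)))) (.nd (.nd (.nd (.lf 43) (.lf 465)) (.nd (.lf 228) (.lf 0))) (.nd (.nd (.lf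 127) (.lf 0)) (.nd (.lf 324) (.lf 0))))) (.nd (.nd (.nd (.nd (.lf 27) (.lf 422)) (.nd (.lf 198) (.lf 0))) (.nd (.nd (.lf 105) (.lf 629)) (.nd (.lf 302) (.lf 0)))) (.nd (.nd (.nd (.lf 62) (.lf 513)) (.nd (.lf 252) (.lf 0))) (.nd (.nd (.lf 156) (.lf 0)) (.nd (.lf 349) (.lf 0))))))

/-- table part -/
def parT_2 : Tr :=
  .nd (.nd (.nd (.nd (.nd (.nd (.lf 4) (.lf 379)) (.nd (.lf 171) (.lf 0))) (.nd (.nd (.lf 75) (.lf 544)) (.nd (.lf 270) (.lf 0)))) (.nd (.nd (.nd (.lf 39) (.lf 454)) (.nd (.lf 223) (.lf 0))) (.nd (.nd (.lf 121) (.lf 656)) (.nd (.lf 319) (.lf 0))))) (.nd (.nd (.nd (.nd (.lf 22) (.lf 416)) (.nd (.lf 193) (.lf 0))) (.nd (.nd (.lf 98) (.lf 610)) (.nd (.lf 293) (.lf 0)))) (.nd (.nd (.nd (.lf 58) (.lf 509)) (.nd (.lf 244) (.lf 0))) (.nd (.nd (.lf 148) (.lf 0)) (.nd (.lf 341) (.lf 0)))))) (.nd (.nd (.nd (.nd (.nd (.lf 12) (.lf 396)) (.nd (.lf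 182) (.lf 0))) (.nd (.nd (.lf 86) (.lf 581)) (.nd (.lf 278) (.lf 0)))) (.nd (.nd (.nd (.lf 47) (.lf 491)) (.nd (.lf 234) (.lf 0))) (.nd (.nd (.lf 135) (.lf 0)) (.nd (.lf 332) (.lf 0))))) (.nd (.nd (.nd (.nd (.lf 31) (.lf 428)) (.nd (.lf 205) (.lf 0))) (.nd (.nd (.lf 111) (.lf 642)) (.nd (.lf 308) (.lf 0)))) (.nd (.nd (.nd (.lf 67) (.lf 522)) (.nd (.lf 258) (.lf 0))) (.nd (.nd (.lf 160) (.lf 0)) (.nd (.lf 362) (.lf 0))))))

/-- table part -/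
def parT_3 : Tr :=
  .nd parT_1 parT_2

/-- table part -/
def parT_4 : Tr :=
  .nd (.nd (.nd (.nd (.nd (.nd (.lf 2) (.lf 373)) (.nd (.lf 169) (.lf 0))) (.nd (.nd (.lf 73) (.lf 534)) (.nd (.lf 267) (.lf 0)))) (.nd (.nd (.nd (.lf 37) (.lf 444)) (.nd (.lf 218) (.lf 0))) (.nd (.nd (.lf 118) (.lf 652)) (.nd (.lf 315) (.lf 0))))) (.nd (.nd (.nd (.nd (.lf 19) (.lf 414)) (.nd (.lf 190) (.lf 0))) (.nd (.nd (.lf 96) (.lf 598)) (.nd (.lf 291) (.lf 0)))) (.nd (.nd (.nd (.lf 53) (.lf 506)) (.nd (.lf 242) (.lf 0))) (.nd (.nd (.lf 145) (.lf 0)) (.nd (.lf 339) (.lf 0)))))) (.nd (.nd (.nd (.nd (.nd (.lf 10) (.lf 390)) (.nd (.lf 180) (.lf 0))) (.nd (.nd (.lf 84) (.lf 574)) (.nd (.lf 276) (.lf 0)))) (.nd (.nd (.nd (.lf 45) (.lf 478)) (.nd (.lf 230) (.lf 0))) (.nd (.nd (.lf 130) (.lf 0)) (.nd (.lf 329) (.lf 0))))) (.nd (.nd (.nd (.nd (.lf 29) (.lf 425)) (.nd (.lf 200)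 (.lf 0))) (.nd (.nd (.lf 109) (.lf 637)) (.nd (.lf 304) (.lf 0)))) (.nd (.nd (.nd (.lf 65) (.lf 518)) (.nd (.lf 254) (.lf 0))) (.nd (.nd (.lf 158) (.lf 0)) (.nd (.lf 358) (.lf 0))))))

/-- table part -/
def parT_5 : Tr :=
  .nd (.nd (.nd (.nd (.nd (.nd (.lf 6) (.lf 382)) (.nd (.lf 175) (.lf 0))) (.nd (.nd (.lf 77) (.lf 554)) (.nd (.lf 272) (.lf 0)))) (.nd (.nd (.nd (.lf 41) (.lf 461)) (.nd (.lf 226) (.lf 0))) (.nd (.nd (.lf 123) (.lf 670)) (.nd (.lf 322) (.lf 0))))) (.nd (.nd (.nd (.nd (.lf 25) (.lf 419)) (.nd (.lf 195) (.lf 0))) (.nd (.nd (.lf 103) (.lf 623)) (.nd (.lf 297) (.lf 0)))) (.nd (.nd (.nd (.lf 60) (.lf 511)) (.nd (.lf 247) (.lf 0))) (.nd (.nd (.lf 153) (.lf 0)) (.nd (.lf 347) (.lf 0)))))) (.nd (.nd (.nd (.nd (.nd (.lf 14) (.lf 398)) (.nd (.lf 184) (.lf 0))) (.nd (.nd (.lf 90) (.lf 591)) (.nd (.lf 281) (.lf 0)))) (.nd (.nd (.nd (.lf 49)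 (.lf 500)) (.nd (.lf 236) (.lf 0))) (.nd (.nd (.lf 138) (.lf 0)) (.nd (.lf 334) (.lf 0))))) (.nd (.nd (.nd (.nd (.lf 33) (.lf 435)) (.nd (.lf 210) (.lf 0))) (.nd (.nd (.lf 113) (.lf 644)) (.nd (.lf 311) (.lf 0)))) (.nd (.nd (.nd (.lf 69) (.lf 527)) (.nd (.lf 261) (.lf 0))) (.nd (.nd (.lf 162) (.lf 0)) (.nd (.lf 364) (.lf 0))))))

/-- table part -/
def parT_6 : Tr :=
  .nd parT_4 parT_5

/-- table part -/
def parT_7 : Tr :=
  .nd parT_3 parT_6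

/-- table part -/
def parT_8 : Tr :=
  .nd (.nd (.nd (.nd (.nd (.nd (.lf 1) (.lf 369)) (.nd (.lf 166) (.lf 0))) (.nd (.nd (.lf 72) (.lf 532)) (.nd (.lf 266) (.lf 0)))) (.nd (.nd (.nd (.lf 36) (.lf 443)) (.nd (.lf 216) (.lf 0))) (.nd (.nd (.lf 117) (.lf 649)) (.nd (.lf 314) (.lf 0))))) (.nd (.nd (.nd (.nd (.lf 18) (.lf 413)) (.nd (.lf 188) (.lf 0))) (.nd (.nd (.lf 95) (.lf 596)) (.nd (.lf 290) (.lf 0)))) (.nd (.nd (.nd (.lf 52) (.lf 505)) (.nd (.lf 241) (.lf 0))) (.nd (.nd (.lf 143) (.lf 0)) (.nd (.lf 338) (.lf 0)))))) (.nd (.nd (.nd (.nd (.nd (.lf 9) (.lf 389)) (.nd (.lf 179) (.lf 0))) (.nd (.nd (.lf 82) (.lf 565)) (.nd (.lf 275) (.lf 0)))) (.nd (.nd (.nd (.lf 44) (.lf 466)) (.nd (.lf 229) (.lf 0))) (.nd (.nd (.lf 128) (.lf 0)) (.nd (.lf 327) (.lf 0))))) (.nd (.nd (.nd (.nd (.lf 28) (.lf 423)) (.nd (.lf 199) (.lf 0))) (.nd (.nd (.lf 107) (.lf 632))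 (.nd (.lf 303) (.lf 0)))) (.nd (.nd (.nd (.lf 63) (.lf 516)) (.nd (.lf 253) (.lf 0))) (.nd (.nd (.lf 157) (.lf 0)) (.nd (.lf 353) (.lf 0))))))

/-- table part -/
def parT_9 : Tr :=
  .nd (.nd (.nd (.nd (.nd (.nd (.lf 5) (.lf 381)) (.nd (.lf 174) (.lf 0))) (.nd (.nd (.lf 76) (.lf 552)) (.nd (.lf 271) (.lf 0)))) (.nd (.nd (.nd (.lf 40) (.lf 458)) (.nd (.lf 224) (.lf 0))) (.nd (.nd (.lf 122) (.lf 665)) (.nd (.lf 321) (.lf 0))))) (.nd (.nd (.nd (.nd (.lf 23) (.lf 418)) (.nd (.lf 194) (.lf 0))) (.nd (.nd (.lf 102) (.lf 612)) (.nd (.lf 296) (.lf 0)))) (.nd (.nd (.nd (.lf 59) (.lf 510)) (.nd (.lf 246) (.lf 0))) (.nd (.nd (.lf 150) (.lf 0)) (.nd (.lf 344) (.lf 0)))))) (.nd (.nd (.nd (.nd (.nd (.lf 13) (.lf 397)) (.nd (.lf 183) (.lf 0))) (.nd (.nd (.lf 87) (.lf 588)) (.nd (.lf 280) (.lf 0)))) (.nd (.nd (.nd (.lf 48) (.lf 495)) (.nd (.lf 235) (.lf 0))) (.nd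 (.nd (.lf 136) (.lf 0)) (.nd (.lf 333) (.lf 0))))) (.nd (.nd (.nd (.nd (.lf 32) (.lf 433)) (.nd (.lf 207) (.lf 0))) (.nd (.nd (.lf 112) (.lf 643)) (.nd (.lf 309) (.lf 0)))) (.nd (.nd (.nd (.lf 68) (.lf 524)) (.nd (.lf 259) (.lf 0))) (.nd (.nd (.lf 161) (.lf 0)) (.nd (.lf 363) (.lf 0))))))

/-- table part -/
def parT_10 : Tr :=
  .nd parT_8 parT_9

/-- table part -/
def parT_11 : Tr :=
  .nd (.nd (.nd (.nd (.nd (.nd (.lf 3) (.lf 374)) (.nd (.lf 170) (.lf 0))) (.nd (.nd (.lf 74) (.lf 538)) (.nd (.lf 268) (.lf 0)))) (.nd (.nd (.nd (.lf 38) (.lf 447)) (.nd (.lf 220) (.lf 0))) (.nd (.nd (.lf 120) (.lf 653)) (.nd (.lf 317) (.lf 0))))) (.nd (.nd (.nd (.nd (.lf 20) (.lf 415)) (.nd (.lf 191) (.lf 0))) (.nd (.nd (.lf 97) (.lf 603)) (.nd (.lf 292) (.lf 0)))) (.nd (.nd (.nd (.lf 56) (.lf 507)) (.nd (.lf 243) (.lf 0))) (.nd (.nd (.lf 146) (.lf 0)) (.nd (.lf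 340) (.lf 0)))))) (.nd (.nd (.nd (.nd (.nd (.lf 11) (.lf 392)) (.nd (.lf 181) (.lf 0))) (.nd (.nd (.lf 85) (.lf 578)) (.nd (.lf 277) (.lf 0)))) (.nd (.nd (.nd (.lf 46) (.lf 489)) (.nd (.lf 231) (.lf 0))) (.nd (.nd (.lf 134) (.lf 0)) (.nd (.lf 331) (.lf 0))))) (.nd (.nd (.nd (.nd (.lf 30) (.lf 426)) (.nd (.lf 202) (.lf 0))) (.nd (.nd (.lf 110) (.lf 638)) (.nd (.lf 307) (.lf 0)))) (.nd (.nd (.nd (.lf 66) (.lf 520)) (.nd (.lf 255) (.lf 0))) (.nd (.nd (.lf 159) (.lf 0)) (.nd (.lf 359) (.lf 0))))))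

/-- table part -/
def parT_12 : Tr :=
  .nd (.nd (.nd (.nd (.nd (.nd (.lf 7) (.lf 384)) (.nd (.lf 176) (.lf 0))) (.nd (.nd (.lf 78) (.lf 556)) (.nd (.lf 273) (.lf 0)))) (.nd (.nd (.nd (.lf 42) (.lf 464)) (.nd (.lf 227) (.lf 0))) (.nd (.nd (.lf 124) (.lf 680)) (.nd (.lf 323) (.lf 0))))) (.nd (.nd (.nd (.nd (.lf 26) (.lf 421)) (.nd (.lf 196) (.lf 0))) (.nd (.nd (.lf 104) (.lf 627)) (.nd (.lf 298) (.lf 0)))) (.nd (.nd (.nd (.lf 61) (.lf 512)) (.nd (.lf 249) (.lf 0))) (.nd (.nd (.lf 155) (.lf 0)) (.nd (.lf 348) (.lf 0)))))) (.nd (.nd (.nd (.nd (.nd (.lf 16) (.lf 404)) (.nd (.lf 186) (.lf 0))) (.nd (.nd (.lf 91) (.lf 592)) (.nd (.lf 285) (.lf 0)))) (.nd (.nd (.nd (.lf 50) (.lf 502)) (.nd (.lf 237) (.lf 0))) (.nd (.nd (.lf 140) (.lf 0)) (.nd (.lf 335) (.lf 0))))) (.nd (.nd (.nd (.nd (.lf 34) (.lf 438)) (.nd (.lf 213) (.lf 0))) (.nd (.nd (.lf 114) (.lf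 646)) (.nd (.lf 312) (.lf 0)))) (.nd (.nd (.nd (.lf 70) (.lf 528)) (.nd (.lf 263) (.lf 0))) (.nd (.nd (.lf 164) (.lf 0)) (.nd (.lf 366) (.lf 0))))))

/-- table part -/
def parT_13 : Tr :=
  .nd parT_11 parT_12

/-- table part -/
def parT_14 : Tr :=
  .nd parT_10 parT_13

/-- table part -/
def parT_15 : Tr :=
  .nd parT_7 parT_14

/-- table -/
def parT : Tr :=
  parT_15

/-- table part -/
def fmT_1 : Tr :=
  .nd (.nd (.nd (.nd (.nd (.nd (.lf 475368975085586307036357853186) (.lf 0)) (.nd (.lf 79228167236631101938283315201) (.lf 0))) (.nd (.nd (.lf 0) (.lf 475369008142153094498690793475)) (.nd (.lf 0) (.lf 0)))) (.nd (.nd (.nd (.lf 7) (.lf 158456325028530364036981719043)) (.nd (.lf 0) (.lf 0))) (.nd (.nd (.lf 316912683113623011936769671175) (.lf 7)) (.nd (.lf 316912650057059039224136728576) (.lf 0))))) (.nd (.nd (.nd (.nd (.lf 0) (.lf 0)) (.nd (.lf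 33056565661562493206528) (.lf 0))) (.nd (.nd (.lf 0) (.lf 158456325028529519612135473154)) (.nd (.lf 0) (.lf 0)))) (.nd (.nd (.nd (.lf 0) (.lf 316912659501790879063520313345)) (.nd (.lf 1970324836974592) (.lf 0))) (.nd (.nd (.lf 0) (.lf 0)) (.nd (.lf 158456329750896846906677264389) (.lf 0)))))) (.nd (.nd (.nd (.nd (.nd (.lf 0) (.lf 0)) (.nd (.lf 0) (.lf 0))) (.nd (.nd (.lf 844424997240838) (.lf 0)) (.nd (.lf 396140817293688170837432074244) (.lf 0)))) (.nd (.nd (.nd (.lf 1407374950662145) (.lf 0)) (.nd (.lf 0) (.lf 0))) (.nd (.nd (.lf 554597137599850644629784363008) (.lf 0)) (.nd (.lf 0) (.lf 0))))) (.nd (.nd (.nd (.nd (.lf 0) (.lf 554597170656417713567228231684)) (.nd (.lf 0) (.lf 0))) (.nd (.nd (.lf 0) (.lf 237684487542793012780749291525)) (.nd (.lf 4722367890244545544195) (.lf 0)))) (.nd (.nd (.nd (.lf 0) (.lf 475368979807952789906003066883))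 (.nd (.lf 79228162514265744968477835268) (.lf 0))) (.nd (.nd (.lf 0) (.lf 0)) (.nd (.lf 475368975085586025561297256449) (.lf 0))))))

/-- table part -/
def fmT_2 : Tr :=
  .nd (.nd (.nd (.nd (.nd (.nd (.lf 0) (.lf 0)) (.nd (.lf 237684487542794138680622579717) (.lf 0))) (.nd (.nd (.lf 0) (.lf 281474976710657)) (.nd (.lf 0) (.lf 0)))) (.nd (.nd (.nd (.lf 0) (.lf 158456325028530645512042315777)) (.nd (.lf 316912654779425803568691544064) (.lf 0))) (.nd (.nd (.lf 0) (.lf 475369003419786893104039067654)) (.nd (.lf 237684520599360081718058942468) (.lf 0))))) (.nd (.nd (.nd (.nd (.lf 0) (.lf 0)) (.nd (.lf 0) (.lf 0))) (.nd (.nd (.lf 475368975085586588511334563844) (.lf 0)) (.nd (.lf 396140812571322250917706727428) (.lf 0)))) (.nd (.nd (.nd (.lf 0) (.lf 316912668946523563327800475653)) (.nd (.lf 79228162514264619068537438215) (.lf 0))) (.nd (.nd (.lf 396140845627887349530330398724)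 (.lf 0)) (.nd (.lf 316912650057057913324229885956) (.lf 0)))))) (.nd (.nd (.nd (.nd (.nd (.lf 554597137599850363154807652352) (.lf 237684487542793012780665405443)) (.nd (.lf 0) (.lf 0))) (.nd (.nd (.lf 316912650057057631849253175300) (.lf 316912650057058757749160017925)) (.nd (.lf 396140817293688170837364965378) (.lf 0)))) (.nd (.nd (.nd (.lf 7) (.lf 33056565380087566827526)) (.nd (.lf 0) (.lf 0))) (.nd (.nd (.lf 0) (.lf 0)) (.nd (.lf 554597170656416869142314876933) (.lf 0))))) (.nd (.nd (.nd (.nd (.lf 0) (.lf 16777216)) (.nd (.lf 0) (.lf 0))) (.nd (.nd (.lf 0) (.lf 316912678391258217916951166980)) (.nd (.lf 237684520599360081718092496901) (.lf 0)))) (.nd (.nd (.nd (.lf 0) (.lf 0)) (.nd (.lf 237684492265160058600247263237) (.lf 0))) (.nd (.nd (.lf 0) (.lf 0)) (.nd (.lf 0) (.lf 0))))))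

/-- table part -/
def fmT_3 : Tr :=
  .nd fmT_1 fmT_2

/-- table part -/
def fmT_4 : Tr :=
  .nd (.nd (.nd (.nd (.nd (.nd (.lf 0) (.lf 0)) (.nd (.lf 79228162514266026443454545920) (.lf 0))) (.nd (.nd (.lf 396140812571321687967753306116) (.lf 0)) (.nd (.lf 281474976710657) (.lf 0)))) (.nd (.nd (.nd (.lf 0) (.lf 1688849910595590)) (.nd (.lf 0) (.lf 0))) (.nd (.nd (.lf 0) (.lf 396140845627887631005256777730)) (.nd (.lf 1970324904083459) (.lf 0))))) (.nd (.nd (.nd (.nd (.lf 0) (.lf 158456334473262485351392346116)) (.nd (.lf 0) (.lf 0))) (.nd (.nd (.lf 0) (.lf 316912654779424677668851810304)) (.nd (.lf 7) (.lf 0)))) (.nd (.nd (.nd (.lf 475368975085586869986311274501) (.lf 0)) (.nd (.lf 554597137599850363154925092867) (.lf 0))) (.nd (.nd (.lf 0) (.lf 0)) (.nd (.lf 554597170656416306192311123975) (.lf 0)))))) (.nd (.nd (.nd (.nd (.nd (.lf 0) (.lf 0))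 (.nd (.lf 0) (.lf 0))) (.nd (.nd (.lf 0) (.lf 158456334473263329776238592003)) (.nd (.lf 0) (.lf 0)))) (.nd (.nd (.nd (.lf 0) (.lf 0)) (.nd (.lf 0) (.lf 0))) (.nd (.nd (.lf 316912650057059320699046330372) (.lf 0)) (.nd (.lf 237684487542794138680555470848) (.lf 0))))) (.nd (.nd (.nd (.nd (.lf 0) (.lf 158456329750897128381620420609)) (.nd (.lf 0) (.lf 0))) (.nd (.nd (.lf 0) (.lf 396140812571323095342653636608)) (.nd (.lf 1970324836974599) (.lf 0)))) (.nd (.nd (.nd (.lf 475368975085587714411241406466) (.lf 23611834384673079820288)) (.nd (.lf 79228162514264337593661390849) (.lf 0))) (.nd (.nd (.lf 0) (.lf 0)) (.nd (.lf 0) (.lf 0))))))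

/-- table part -/
def fmT_5 : Tr :=
  .nd (.nd (.nd (.nd (.nd (.nd (.lf 0) (.lf 0)) (.nd (.lf 0) (.lf 0))) (.nd (.nd (.lf 0) (.lf 0)) (.nd (.lf 0) (.lf 0)))) (.nd (.nd (.nd (.lf 0) (.lf 0)) (.nd (.lf 0) (.lf 0))) (.nd (.nd (.lf 4722367890244545544194) (.lf 396140845627889038380140331011)) (.nd (.lf 554597137599852052004751802374) (.lf 0))))) (.nd (.nd (.nd (.nd (.lf 0) (.lf 0)) (.nd (.lf 475368975085587714411241406467) (.lf 0))) (.nd (.nd (.lf 7) (.lf 79228167236632227838072717315)) (.nd (.lf 0) (.lf 0)))) (.nd (.nd (.nd (.lf 4722366482869645213696) (.lf 4722367890244595875846)) (.nd (.lf 0) (.lf 0))) (.nd (.nd (.lf 0) (.lf 0)) (.nd (.lf 554597170656416587667254280196) (.lf 0)))))) (.nd (.nd (.nd (.nd (.nd (.lf 0) (.lf 237684487542793857205629091842)) (.nd (.lf 33056565380087533273088) (.lf 0))) (.nd (.nd (.lf 0) (.lf 316912654779423833243854569473))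 (.nd (.lf 0) (.lf 0)))) (.nd (.nd (.nd (.lf 0) (.lf 237684492265159777125320884231)) (.nd (.lf 0) (.lf 0))) (.nd (.nd (.lf 0) (.lf 0)) (.nd (.lf 158456329750896283956723843072) (.lf 0))))) (.nd (.nd (.nd (.nd (.lf 0) (.lf 33056567350412387024903)) (.nd (.lf 316912683113623574886639206402) (.lf 0))) (.nd (.nd (.lf 0) (.lf 1)) (.nd (.lf 0) (.lf 0)))) (.nd (.nd (.nd (.lf 0) (.lf 237684515876992754423483596802)) (.nd (.lf 396140845627887068055303356416) (.lf 0))) (.nd (.nd (.lf 0) (.lf 0)) (.nd (.lf 475369008142152531548787703814) (.lf 0))))))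

/-- table part -/
def fmT_6 : Tr :=
  .nd fmT_4 fmT_5

/-- table part -/
def fmT_7 : Tr :=
  .nd fmT_3 fmT_6

/-- table part -/
def fmT_8 : Tr :=
  .nd (.nd (.nd (.nd (.nd (.nd (.lf 0) (.lf 396140817293689578212265295878)) (.nd (.lf 0) (.lf 0))) (.nd (.nd (.lf 0) (.lf 0)) (.nd (.lf 1) (.lf 0)))) (.nd (.nd (.nd (.lf 0) (.lf 0)) (.nd (.lf 0) (.lf 0))) (.nd (.nd (.lf 0) (.lf 396140822016055779607017684999)) (.nd (.lf 554597147044583328894131634183) (.lf 0))))) (.nd (.nd (.nd (.nd (.lf 0) (.lf 554597147044583891844068278279)) (.nd (.lf 0) (.lf 0))) (.nd (.nd (.lf 0) (.lf 4722367327294676008966)) (.nd (.lf 0) (.lf 0)))) (.nd (.nd (.nd (.lf 0) (.lf 0)) (.nd (.lf 4722368453194549297155) (.lf 0))) (.nd (.nd (.lf 0) (.lf 0)) (.nd (.lf 554597170656416024717401522179) (.lf 0)))))) (.nd (.nd (.nd (.nd (.nd (.lf 0) (.lf 0)) (.nd (.lf 0) (.lf 0))) (.nd (.nd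 (.lf 0) (.lf 554597147044584173319128875009)) (.nd (.lf 281474976710657) (.lf 0)))) (.nd (.nd (.nd (.lf 0) (.lf 79228162514264900543530926080)) (.nd (.lf 0) (.lf 0))) (.nd (.nd (.lf 0) (.lf 0)) (.nd (.lf 0) (.lf 0))))) (.nd (.nd (.nd (.nd (.lf 0) (.lf 316912650057057350374293241863)) (.nd (.lf 7) (.lf 0))) (.nd (.nd (.lf 475368975085586869986311274500) (.lf 475369008142152250073827770368)) (.nd (.lf 0) (.lf 0)))) (.nd (.nd (.nd (.lf 0) (.lf 475368975085587151461204099077)) (.nd (.lf 562950003752961) (.lf 0))) (.nd (.nd (.lf 0) (.lf 0)) (.nd (.lf 0) (.lf 0))))))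

/-- table part -/
def fmT_9 : Tr :=
  .nd (.nd (.nd (.nd (.nd (.nd (.lf 0) (.lf 0)) (.nd (.lf 0) (.lf 0))) (.nd (.nd (.lf 0) (.lf 554597137599851489054781603840)) (.nd (.lf 7) (.lf 0)))) (.nd (.nd (.nd (.lf 0) (.lf 316912683113623574886739869702)) (.nd (.lf 475368975085586025561347588096) (.lf 0))) (.nd (.nd (.lf 0) (.lf 79228171958999273657721683972)) (.nd (.lf 0) (.lf 0))))) (.nd (.nd (.nd (.nd (.lf 0) (.lf 0)) (.nd (.lf 0) (.lf 0))) (.nd (.nd (.lf 0) (.lf 396140831460787900921377980422)) (.nd (.lf 0) (.lf 0)))) (.nd (.nd (.nd (.lf 7) (.lf 4722367608769669496839)) (.nd (.lf 0) (.lf 0))) (.nd (.nd (.lf 0) (.lf 0)) (.nd (.lf 396140845627888756905213952003) (.lf 0)))))) (.nd (.nd (.nd (.nd (.nd (.lf 0) (.lf 0)) (.nd (.lf 79228167236630820463189164039) (.lf 0))) (.nd (.nd (.lf 237684520599360363193018875906) (.lf 237684492265161465975231479810))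 (.nd (.lf 4722366482869762654209) (.lf 0)))) (.nd (.nd (.nd (.lf 0) (.lf 554597170656417150617291587588)) (.nd (.lf 475369008142151405648880861188) (.lf 0))) (.nd (.nd (.lf 0) (.lf 0)) (.nd (.lf 7) (.lf 0))))) (.nd (.nd (.nd (.nd (.lf 0) (.lf 396140812571321687967837192195)) (.nd (.lf 0) (.lf 0))) (.nd (.nd (.lf 0) (.lf 33056566224512480182279)) (.nd (.lf 396140812571322532392666660867) (.lf 0)))) (.nd (.nd (.nd (.lf 0) (.lf 237684487542793012780631851014)) (.nd (.lf 79228162514266026443454545921) (.lf 0))) (.nd (.nd (.lf 1970324836974598) (.lf 0)) (.nd (.lf 0) (.lf 0))))))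

/-- table part -/
def fmT_10 : Tr :=
  .nd fmT_8 fmT_9

/-- table part -/
def fmT_11 : Tr :=
  .nd (.nd (.nd (.nd (.nd (.nd (.lf 0) (.lf 0)) (.nd (.lf 237684492265161465975130816516) (.lf 0))) (.nd (.nd (.lf 0) (.lf 0)) (.nd (.lf 0) (.lf 0)))) (.nd (.nd (.nd (.lf 0) (.lf 554597142322218534874329907203)) (.nd (.lf 1970324836974599) (.lf 0))) (.nd (.nd (.lf 0) (.lf 79228162514264337593661390851)) (.nd (.lf 0) (.lf 0))))) (.nd (.nd (.nd (.nd (.lf 0) (.lf 475368984530318991300654792705)) (.nd (.lf 7) (.lf 0))) (.nd (.nd (.lf 0) (.lf 237684501709892742864594534402)) (.nd (.lf 0) (.lf 0)))) (.nd (.nd (.nd (.lf 0) (.lf 237684487542793012780749291527)) (.nd (.lf 0) (.lf 0))) (.nd (.nd (.lf 0) (.lf 0)) (.nd (.lf 237684487542793012780732514308) (.lf 0)))))) (.nd (.nd (.nd (.nd (.nd (.lf 0) (.lf 0)) (.nd (.lf 0) (.lf 0))) (.nd (.nd (.lf 0) (.lf 396140845627888756905130065921))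 (.nd (.lf 7) (.lf 0)))) (.nd (.nd (.nd (.lf 0) (.lf 0)) (.nd (.lf 554597170656416587667371720710) (.lf 0))) (.nd (.nd (.lf 844424997240832) (.lf 0)) (.nd (.lf 158456358085096025599458148356) (.lf 0))))) (.nd (.nd (.nd (.nd (.lf 1) (.lf 396140836183154383791039971331)) (.nd (.lf 316912654779425240618822008838) (.lf 0))) (.nd (.nd (.lf 0) (.lf 554597170656416587667321389057)) (.nd (.lf 0) (.lf 0)))) (.nd (.nd (.nd (.lf 0) (.lf 158456325028530364036998496257)) (.nd (.lf 0) (.lf 0))) (.nd (.nd (.lf 0) (.lf 0)) (.nd (.lf 0) (.lf 0))))))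

/-- table part -/
def fmT_12 : Tr :=
  .nd (.nd (.nd (.nd (.nd (.nd (.lf 0) (.lf 79228190848463234811532673026)) (.nd (.lf 0) (.lf 0))) (.nd (.nd (.lf 79228162514266026443437768707) (.lf 158456358085095462649555058695)) (.nd (.lf 0) (.lf 0)))) (.nd (.nd (.nd (.lf 0) (.lf 396140840905520866660668407811)) (.nd (.lf 0) (.lf 0))) (.nd (.nd (.lf 554597137599850363154824429568) (.lf 79228171958997584807827865601)) (.nd (.lf 316912654779425522093781942273) (.lf 0))))) (.nd (.nd (.nd (.nd (.lf 0) (.lf 237684487542794701630492114948)) (.nd (.lf 0) (.lf 0))) (.nd (.nd (.lf 0) (.lf 237684492265161184500204437510)) (.nd (.lf 79228162514265463493517901824) (.lf 0)))) (.nd (.nd (.nd (.lf 0) (.lf 396140817293690141162201939970)) (.nd (.lf 0) (.lf 0))) (.nd (.nd (.lf 79228162514266026443471323136) (.lf 0)) (.nd (.lf 475369008142151405648880861184) (.lf 0))))))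 (.nd (.nd (.nd (.nd (.nd (.lf 0) (.lf 1688849877041156)) (.nd (.lf 1) (.lf 0))) (.nd (.nd (.lf 0) (.lf 0)) (.nd (.lf 0) (.lf 0)))) (.nd (.nd (.nd (.lf 79228162514264337593543950336) (.lf 237684487542793857205629091842)) (.nd (.lf 33056566224512564068357) (.lf 0))) (.nd (.nd (.lf 237684492265159777125304107009) (.lf 0)) (.nd (.lf 0) (.lf 0))))) (.nd (.nd (.nd (.nd (.lf 0) (.lf 0)) (.nd (.lf 33056565943037587357696) (.lf 0))) (.nd (.nd (.lf 0) (.lf 281474976710663)) (.nd (.lf 237684487542793857205595537412) (.lf 0)))) (.nd (.nd (.nd (.lf 33056565380087516495872) (.lf 0)) (.nd (.lf 0) (.lf 0))) (.nd (.nd (.lf 0) (.lf 0)) (.nd (.lf 0) (.lf 0))))))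

/-- table part -/
def fmT_13 : Tr :=
  .nd fmT_11 fmT_12

/-- table part -/
def fmT_14 : Tr :=
  .nd fmT_10 fmT_13

/-- table part -/
def fmT_15 : Tr :=
  .nd fmT_7 fmT_14

/-- table part -/
def fmT_16 : Tr :=
  .nd (.nd (.nd (.nd (.nd (.nd (.lf 0) (.lf 0)) (.nd (.lf 237684492265160903025244504069) (.lf 0))) (.nd (.nd (.lf 1688849910595588) (.lf 158456358085095181174544793602)) (.nd (.lf 0) (.lf 0)))) (.nd (.nd (.nd (.lf 0) (.lf 475368975085587432936164032517)) (.nd (.lf 0) (.lf 0))) (.nd (.nd (.lf 0) (.lf 158456325028528675187121455109)) (.nd (.lf 316912650057058757749160017927) (.lf 0))))) (.nd (.nd (.nd (.nd (.lf 0) (.lf 237684492265159495650293841924)) (.nd (.lf 0) (.lf 0))) (.nd (.nd (.lf 0) (.lf 554597137599851207579855224832)) (.nd (.lf 316912683113624137836676513797) (.lf 0)))) (.nd (.nd (.nd (.lf 0) (.lf 79228167236632790788076470274))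 (.nd (.lf 0) (.lf 0))) (.nd (.nd (.lf 79228167236631383413226471429) (.lf 0)) (.nd (.lf 475368979807953071380912668674) (.lf 0)))))) (.nd (.nd (.nd (.nd (.nd (.lf 0) (.lf 316912678391256247592047083523)) (.nd (.lf 0) (.lf 0))) (.nd (.nd (.lf 0) (.lf 158456325028530645511975206915)) (.nd (.lf 396140812571322250917689950211) (.lf 0)))) (.nd (.nd (.nd (.lf 0) (.lf 554597170656416587667254280193)) (.nd (.lf 554597137599851207579737784325) (.lf 0))) (.nd (.nd (.lf 79228162514264337593543950336) (.lf 0)) (.nd (.lf 0) (.lf 0))))) (.nd (.nd (.nd (.nd (.lf 0) (.lf 554597137599850926104761073664)) (.nd (.lf 237684487542794983105485602820) (.lf 0))) (.nd (.nd (.lf 0) (.lf 79228162514265744968494612485)) (.nd (.lf 0) (.lf 0)))) (.nd (.nd (.nd (.lf 0) (.lf 475368979807952508431026356226)) (.nd (.lf 0) (.lf 0))) (.nd (.nd (.lf 0) (.lf 0)) (.nd (.lf 396140812571323376817596792834)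 (.lf 0))))))

/-- table part -/
def fmT_17 : Tr :=
  .nd (.nd (.nd (.nd (.nd (.nd (.lf 0) (.lf 554597170656415743242408034305)) (.nd (.lf 0) (.lf 0))) (.nd (.nd (.lf 316912654779425522093781942274) (.lf 0)) (.nd (.lf 4722368453194549297156) (.lf 0)))) (.nd (.nd (.nd (.lf 0) (.lf 79228167236630820463222718467)) (.nd (.lf 0) (.lf 0))) (.nd (.nd (.lf 237684487542794701630492114945) (.lf 33056565943037469917189)) (.nd (.lf 396140812571323658292623835137) (.lf 0))))) (.nd (.nd (.nd (.nd (.lf 0) (.lf 33056565661562560315396)) (.nd (.lf 0) (.lf 0))) (.nd (.nd (.lf 0) (.lf 475369008142152250073827770371)) (.nd (.lf 0) (.lf 0)))) (.nd (.nd (.nd (.lf 0) (.lf 4722366764344621924355)) (.nd (.lf 79228162514265463493551456259) (.lf 0))) (.nd (.nd (.lf 554597170656417432092234743811) (.lf 0)) (.nd (.lf 0) (.lf 0)))))) (.nd (.nd (.nd (.nd (.nd (.lf 0) (.lf 237684487542793857205578760198))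 (.nd (.lf 0) (.lf 0))) (.nd (.nd (.lf 0) (.lf 0)) (.nd (.lf 4722368453194482188295) (.lf 0)))) (.nd (.nd (.nd (.lf 475368975085586025561381142529) (.lf 237684515876993880323390439428)) (.nd (.lf 1125899940397058) (.lf 0))) (.nd (.nd (.lf 554597137599851489054781603840) (.lf 0)) (.nd (.lf 158456325028528675187104677889) (.lf 0))))) (.nd (.nd (.nd (.nd (.lf 79228162514266307918397702150) (.lf 316912683113622730461792960518)) (.nd (.lf 0) (.lf 0))) (.nd (.nd (.lf 0) (.lf 316912650057058194799156264964)) (.nd (.lf 554597165934049823322649133057) (.lf 0)))) (.nd (.nd (.nd (.lf 0) (.lf 316912650057057350374192578560)) (.nd (.lf 1407375000993794) (.lf 0))) (.nd (.nd (.lf 0) (.lf 0)) (.nd (.lf 0) (.lf 0))))))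

/-- table part -/
def fmT_18 : Tr :=
  .nd fmT_16 fmT_17

/-- table part -/
def fmT_19 : Tr :=
  .nd (.nd (.nd (.nd (.nd (.nd (.lf 0) (.lf 79228162514264337593611059203)) (.nd (.lf 0) (.lf 0))) (.nd (.nd (.lf 158456358085094055274621173767) (.lf 316912650057059039224119951365)) (.nd (.lf 0) (.lf 0)))) (.nd (.nd (.nd (.lf 0) (.lf 0)) (.nd (.lf 554597137599850363154908315652) (.lf 0))) (.nd (.nd (.lf 237684492265161184500254769153) (.lf 33056565661562543538180)) (.nd (.lf 1688849927372802) (.lf 0))))) (.nd (.nd (.nd (.nd (.lf 0) (.lf 4722366482869762654215)) (.nd (.lf 0) (.lf 0))) (.nd (.nd (.lf 0) (.lf 475368989252685474170249674752)) (.nd (.lf 0) (.lf 0)))) (.nd (.nd (.nd (.lf 554597137599850363154807652352) (.lf 158456329750896283956673511425)) (.nd (.lf 79228162514265463493517901824) (.lf 0))) (.nd (.nd (.lf 0) (.lf 0)) (.nd (.lf 0) (.lf 0))))))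 (.nd (.nd (.nd (.nd (.nd (.lf 158456325028530645511941652485) (.lf 316912650057058476274116198402)) (.nd (.lf 0) (.lf 0))) (.nd (.nd (.lf 554597137599852333479644626951) (.lf 475369008142152531548703817735)) (.nd (.lf 79228162514265182018524413952) (.lf 0)))) (.nd (.nd (.nd (.lf 0) (.lf 554597137599850926104777850882)) (.nd (.lf 0) (.lf 0))) (.nd (.nd (.lf 0) (.lf 0)) (.nd (.lf 396140812571321687967719751683) (.lf 0))))) (.nd (.nd (.nd (.nd (.lf 0) (.lf 0)) (.nd (.lf 0) (.lf 0))) (.nd (.nd (.lf 0) (.lf 237684515876992754423550705665)) (.nd (.lf 28334200586067765100551) (.lf 0)))) (.nd (.nd (.nd (.lf 0) (.lf 0)) (.nd (.lf 0) (.lf 0))) (.nd (.nd (.lf 316912650057057631849253175299) (.lf 0)) (.nd (.lf 554597147044584736269065519105) (.lf 0))))))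

/-- table part -/
def fmT_20 : Tr :=
  .nd (.nd (.nd (.nd (.nd (.nd (.lf 0) (.lf 33056567350412403802114)) (.nd (.lf 158456325028530645511958429701) (.lf 0))) (.nd (.nd (.lf 0) (.lf 0)) (.nd (.lf 0) (.lf 0)))) (.nd (.nd (.nd (.lf 0) (.lf 9444734654589150691330)) (.nd (.lf 0) (.lf 0))) (.nd (.nd (.lf 0) (.lf 475369008142152813023781191683)) (.nd (.lf 0) (.lf 0))))) (.nd (.nd (.nd (.nd (.lf 0) (.lf 0)) (.nd (.lf 0) (.lf 0))) (.nd (.nd (.lf 158456325028529238137158762499) (.lf 158456329750896846906610155523)) (.nd (.lf 0) (.lf 0)))) (.nd (.nd (.nd (.lf 0) (.lf 4722366764344722587650)) (.nd (.lf 844424946909190) (.lf 0))) (.nd (.nd (.lf 0) (.lf 0)) (.nd (.lf 396140845627887631005307109381) (.lf 0)))))) (.nd (.nd (.nd (.nd (.nd (.lf 0) (.lf 316912650057057913324196331521)) (.nd (.lf 0) (.lf 0))) (.nd (.nd (.lf 0) (.lf 79228167236632790788059693059))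 (.nd (.lf 0) (.lf 0)))) (.nd (.nd (.nd (.lf 158456325028529519612135473156) (.lf 79228167236631664888169627648)) (.nd (.lf 0) (.lf 0))) (.nd (.nd (.lf 158456325028529519612135473155) (.lf 0)) (.nd (.lf 79228162514265744968461058050) (.lf 0))))) (.nd (.nd (.nd (.nd (.lf 0) (.lf 396140845627887912480216711171)) (.nd (.lf 0) (.lf 0))) (.nd (.nd (.lf 396140845627887631005256777729) (.lf 316912650057058476274166530054)) (.nd (.lf 4722367045819648966663) (.lf 0)))) (.nd (.nd (.nd (.lf 0) (.lf 0)) (.nd (.lf 0) (.lf 0))) (.nd (.nd (.lf 0) (.lf 0)) (.nd (.lf 0) (.lf 0))))))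

/-- table part -/
def fmT_21 : Tr :=
  .nd fmT_19 fmT_20

/-- table part -/
def fmT_22 : Tr :=
  .nd fmT_18 fmT_21

/-- table part -/
def fmT_23 : Tr :=
  .nd (.nd (.nd (.nd (.nd (.nd (.lf 0) (.lf 33056566224512513736705)) (.nd (.lf 0) (.lf 0))) (.nd (.nd (.lf 237684487542794983105485602820) (.lf 0)) (.nd (.lf 79228162514264619068570992640) (.lf 0)))) (.nd (.nd (.nd (.lf 0) (.lf 9444733810164270891013)) (.nd (.lf 0) (.lf 0))) (.nd (.nd (.lf 0) (.lf 396140822016055498132040974342)) (.nd (.lf 316912654779425240618822008837) (.lf 0))))) (.nd (.nd (.nd (.nd (.lf 0) (.lf 475368975085586307036341075971)) (.nd (.lf 0) (.lf 0))) (.nd (.nd (.lf 281475094151171) (.lf 475368984530320680150531833860)) (.nd (.lf 0) (.lf 0)))) (.nd (.nd (.nd (.lf 554597137599850363154807652359) (.lf 316912659501791442013373071366)) (.nd (.lf 158456329750897128381637197824) (.lf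 0))) (.nd (.nd (.lf 0) (.lf 0)) (.nd (.lf 562950020530181) (.lf 0)))))) (.nd (.nd (.nd (.nd (.nd (.lf 0) (.lf 475369008142153094498674016259)) (.nd (.lf 0) (.lf 0))) (.nd (.nd (.lf 33056565661562493206531) (.lf 316912650057057350374293241856)) (.nd (.lf 0) (.lf 0)))) (.nd (.nd (.nd (.lf 158456325028529519612135473155) (.lf 0)) (.nd (.lf 0) (.lf 0))) (.nd (.nd (.lf 158456358085094055274621173766) (.lf 0)) (.nd (.lf 554597137599850644629801140231) (.lf 0))))) (.nd (.nd (.nd (.nd (.lf 0) (.lf 79228195570830280631080976390)) (.nd (.lf 0) (.lf 0))) (.nd (.nd (.lf 0) (.lf 396140840905522555510428008448)) (.nd (.lf 0) (.lf 0)))) (.nd (.nd (.nd (.lf 0) (.lf 0)) (.nd (.lf 4722366764344722587653) (.lf 0))) (.nd (.nd (.lf 0) (.lf 0)) (.nd (.lf 475368984530318991300654792709) (.lf 0))))))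

/-- table part -/
def fmT_24 : Tr :=
  .nd (.nd (.nd (.nd (.nd (.nd (.lf 0) (.lf 396140812571323095342720745474)) (.nd (.lf 0) (.lf 0))) (.nd (.nd (.lf 33056565380087516495879) (.lf 396140826738421699526642368515)) (.nd (.lf 396140845627888193955143090176) (.lf 0)))) (.nd (.nd (.nd (.lf 0) (.lf 562950020530183)) (.nd (.lf 0) (.lf 0))) (.nd (.nd (.lf 316912650057058757749160017926) (.lf 79228167236631383413192916995)) (.nd (.lf 316912683113623293411679272966) (.lf 0))))) (.nd (.nd (.nd (.nd (.lf 0) (.lf 396140845627888756905180397569)) (.nd (.lf 79228162514266307918498365447) (.lf 0))) (.nd (.nd (.lf 0) (.lf 4722367608769652719618)) (.nd (.lf 23611834103198103109639) (.lf 0)))) (.nd (.nd (.nd (.lf 0) (.lf 4722367608769669496839)) (.nd (.lf 0) (.lf 0))) (.nd (.nd (.lf 0) (.lf 0)) (.nd (.lf 0) (.lf 0)))))) (.nd (.nd (.nd (.nd (.nd (.lf 0) (.lf 562950037307395))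 (.nd (.lf 475368979807952508431026356225) (.lf 0))) (.nd (.nd (.lf 0) (.lf 158456329750897128381653975045)) (.nd (.lf 475368979807954197280836288515) (.lf 0)))) (.nd (.nd (.nd (.lf 0) (.lf 0)) (.nd (.lf 0) (.lf 0))) (.nd (.nd (.lf 79228167236631383413226471428) (.lf 0)) (.nd (.lf 237684487542793012780631851013) (.lf 0))))) (.nd (.nd (.nd (.nd (.lf 0) (.lf 237684520599359800243082231810)) (.nd (.lf 0) (.lf 0))) (.nd (.nd (.lf 0) (.lf 79228167236632790788076470276)) (.nd (.lf 0) (.lf 0)))) (.nd (.nd (.nd (.lf 0) (.lf 554597170656417713567161122817)) (.nd (.lf 0) (.lf 0))) (.nd (.nd (.lf 4722368171719572586498) (.lf 0)) (.nd (.lf 0) (.lf 0))))))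

/-- table part -/
def fmT_25 : Tr :=
  .nd fmT_23 fmT_24

/-- table part -/
def fmT_26 : Tr :=
  .nd (.nd (.nd (.nd (.nd (.nd (.lf 0) (.lf 79228195570830280631013867520)) (.nd (.lf 0) (.lf 0))) (.nd (.nd (.lf 0) (.lf 0)) (.nd (.lf 316912650057058194799139487745) (.lf 0)))) (.nd (.nd (.nd (.lf 0) (.lf 158456325028530082562055340038)) (.nd (.lf 0) (.lf 0))) (.nd (.nd (.lf 0) (.lf 396140845627888193955260530690)) (.nd (.lf 237684515876992472948473331717) (.lf 0))))) (.nd (.nd (.nd (.nd (.lf 0) (.lf 554597137599852052004684693505)) (.nd (.lf 79228162514265182018524413952) (.lf 0))) (.nd (.nd (.lf 475369008142151687123824017408) (.lf 237684492265160903025227726849)) (.nd (.lf 0) (.lf 0)))) (.nd (.nd (.nd (.lf 0) (.lf 237684487542793575730702712838)) (.nd (.lf 0) (.lf 0))) (.nd (.nd (.lf 0) (.lf 0)) (.nd (.lf 396140812571321969442813902848) (.lf 0))))))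 (.nd (.nd (.nd (.nd (.nd (.lf 0) (.lf 79228167236631383413226471425)) (.nd (.lf 9444734936064127401990) (.lf 0))) (.nd (.nd (.lf 396140812571321969442813902852) (.lf 9444734091639247601670)) (.nd (.lf 237684492265161184500154105859) (.lf 0)))) (.nd (.nd (.nd (.lf 0) (.lf 396140822016054935182070775812)) (.nd (.lf 158456325028528675187188563974) (.lf 0))) (.nd (.nd (.lf 0) (.lf 0)) (.nd (.lf 396140822016056061081927286785) (.lf 0))))) (.nd (.nd (.nd (.nd (.lf 79228162514266026443420991492) (.lf 158456353362728416829973200896)) (.nd (.lf 0) (.lf 0))) (.nd (.nd (.lf 0) (.lf 475368975085587432936197586947)) (.nd (.lf 0) (.lf 0)))) (.nd (.nd (.nd (.lf 475368975085587432936164032516) (.lf 475368998697419565809480499200)) (.nd (.lf 237684487542794983105535934464) (.lf 0))) (.nd (.nd (.lf 0) (.lf 0)) (.nd (.lf 4722368453194549297156) (.lf 0))))))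

/-- table part -/
def fmT_27 : Tr :=
  .nd (.nd (.nd (.nd (.nd (.nd (.lf 475368975085586307036357853187) (.lf 0)) (.nd (.lf 0) (.lf 0))) (.nd (.nd (.lf 0) (.lf 554597161211683340453054251009)) (.nd (.lf 316912650057058194799139487746) (.lf 0)))) (.nd (.nd (.nd (.lf 0) (.lf 0)) (.nd (.lf 0) (.lf 0))) (.nd (.nd (.lf 0) (.lf 475368975085587151461254430720)) (.nd (.lf 562950020530182) (.lf 0))))) (.nd (.nd (.nd (.nd (.lf 0) (.lf 237684515876993317373420240898)) (.nd (.lf 0) (.lf 0))) (.nd (.nd (.lf 0) (.lf 396140812571322532392700215297)) (.nd (.lf 158456358085094899699551305732) (.lf 0)))) (.nd (.nd (.nd (.lf 0) (.lf 0)) (.nd (.lf 0) (.lf 0))) (.nd (.nd (.lf 79228167236630820463306604551) (.lf 0)) (.nd (.lf 0) (.lf 0)))))) (.nd (.nd (.nd (.nd (.nd (.lf 0) (.lf 1970324887306245)) (.nd (.lf 1970324836974597) (.lf 0))) (.nd (.nd (.lf 0) (.lf 475368984530318991300654792707))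 (.nd (.lf 0) (.lf 0)))) (.nd (.nd (.nd (.lf 0) (.lf 237684487542794420155582513153)) (.nd (.lf 33056567350412403802117) (.lf 0))) (.nd (.nd (.lf 0) (.lf 0)) (.nd (.lf 554597137599850644629801140225) (.lf 0))))) (.nd (.nd (.nd (.nd (.lf 0) (.lf 158456325028529801087011520513)) (.nd (.lf 0) (.lf 0))) (.nd (.nd (.lf 0) (.lf 316912654779425240618822008836)) (.nd (.lf 0) (.lf 0)))) (.nd (.nd (.nd (.lf 0) (.lf 237684487542794701630576001028)) (.nd (.lf 79228162514264900543598034948) (.lf 0))) (.nd (.nd (.lf 0) (.lf 0)) (.nd (.lf 0) (.lf 0))))))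

/-- table part -/
def fmT_28 : Tr :=
  .nd fmT_26 fmT_27

/-- table part -/
def fmT_29 : Tr :=
  .nd fmT_25 fmT_28

/-- table part -/
def fmT_30 : Tr :=
  .nd fmT_22 fmT_29

/-- table part -/
def fmT_31 : Tr :=
  .nd fmT_15 fmT_30

/-- table -/
def fmT : Tr :=
  fmT_31

/-- table part -/
def rkT_1 : Tr :=
  .nd (.nd (.nd (.nd (.nd (.nd (.lf 55) (.lf 0)) (.nd (.lf 45) (.lf 0))) (.nd (.nd (.lf 0) (.lf 229)) (.nd (.lf 0) (.lf 0)))) (.nd (.nd (.nd (.lf 12) (.lf 235)) (.nd (.lf 76) (.lf 0))) (.nd (.nd (.lf 205) (.lf 11)) (.nd (.lf 199) (.lf 0))))) (.nd (.nd (.nd (.nd (.lf 0) (.lf 0)) (.nd (.lf 32) (.lf 0))) (.nd (.nd (.lf 0) (.lf 301)) (.nd (.lf 0) (.lf 0)))) (.nd (.nd (.nd (.lf 0) (.lf 353)) (.nd (.lf 26) (.lf 0))) (.nd (.nd (.lf 0) (.lf 0)) (.nd (.lf 179) (.lf 0)))))) (.nd (.nd (.nd (.nd (.nd (.lf 0) (.lf 0)) (.nd (.lf 0) (.lf 0))) (.nd (.nd (.lf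 69) (.lf 0)) (.nd (.lf 256) (.lf 0)))) (.nd (.nd (.nd (.lf 61) (.lf 0)) (.nd (.lf 0) (.lf 0))) (.nd (.nd (.lf 42) (.lf 0)) (.nd (.lf 0) (.lf 0))))) (.nd (.nd (.nd (.nd (.lf 0) (.lf 240)) (.nd (.lf 0) (.lf 0))) (.nd (.nd (.lf 0) (.lf 339)) (.nd (.lf 124) (.lf 0)))) (.nd (.nd (.nd (.lf 0) (.lf 110)) (.nd (.lf 98) (.lf 0))) (.nd (.nd (.lf 0) (.lf 0)) (.nd (.lf 226) (.lf 0))))))

/-- table part -/
def rkT_2 : Tr :=
  .nd (.nd (.nd (.nd (.nd (.nd (.lf 0) (.lf 0)) (.nd (.lf 150) (.lf 0))) (.nd (.nd (.lf 0) (.lf 111)) (.nd (.lf 0) (.lf 0)))) (.nd (.nd (.nd (.lf 0) (.lf 313)) (.nd (.lf 242) (.lf 0))) (.nd (.nd (.lf 0) (.lf 351)) (.nd (.lf 254) (.lf 0))))) (.nd (.nd (.nd (.nd (.lf 0) (.lf 0)) (.nd (.lf 0) (.lf 0))) (.nd (.nd (.lf 60) (.lf 0)) (.nd (.lf 180) (.lf 0)))) (.nd (.nd (.nd (.lf 0) (.lf 325)) (.nd (.lf 91) (.lf 0))) (.nd (.nd (.lf 78) (.lf 0)) (.nd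 (.lf 92) (.lf 0)))))) (.nd (.nd (.nd (.nd (.nd (.lf 39) (.lf 158)) (.nd (.lf 0) (.lf 0))) (.nd (.nd (.lf 62) (.lf 171)) (.nd (.lf 166) (.lf 0)))) (.nd (.nd (.nd (.lf 8) (.lf 287)) (.nd (.lf 0) (.lf 0))) (.nd (.nd (.lf 0) (.lf 0)) (.nd (.lf 206) (.lf 0))))) (.nd (.nd (.nd (.nd (.lf 0) (.lf 130)) (.nd (.lf 0) (.lf 0))) (.nd (.nd (.lf 0) (.lf 361)) (.nd (.lf 257) (.lf 0)))) (.nd (.nd (.nd (.lf 0) (.lf 0)) (.nd (.lf 162) (.lf 0))) (.nd (.nd (.lf 83) (.lf 0)) (.nd (.lf 0) (.lf 0))))))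

/-- table part -/
def rkT_3 : Tr :=
  .nd rkT_1 rkT_2

/-- table part -/
def rkT_4 : Tr :=
  .nd (.nd (.nd (.nd (.nd (.nd (.lf 0) (.lf 0)) (.nd (.lf 108) (.lf 0))) (.nd (.nd (.lf 72) (.lf 0)) (.nd (.lf 25) (.lf 0)))) (.nd (.nd (.nd (.lf 0) (.lf 278)) (.nd (.lf 0) (.lf 0))) (.nd (.nd (.lf 0) (.lf 326)) (.nd (.lf 122) (.lf 0))))) (.nd (.nd (.nd (.nd (.lf 0) (.lf 230)) (.nd (.lf 0) (.lf 0))) (.nd (.nd (.lf 0) (.lf 246)) (.nd (.lf 17) (.lf 0)))) (.nd (.nd (.nd (.lf 56) (.lf 0)) (.nd (.lf 182) (.lf 0))) (.nd (.nd (.lf 0) (.lf 0)) (.nd (.lf 142) (.lf 0)))))) (.nd (.nd (.nd (.nd (.nd (.lf 0) (.lf 0)) (.nd (.lf 0) (.lf 0))) (.nd (.nd (.lf 0) (.lf 274)) (.nd (.lf 0) (.lf 0)))) (.nd (.nd (.nd (.lf 0) (.lf 0)) (.nd (.lf 0) (.lf 0))) (.nd (.nd (.lf 64) (.lf 0)) (.nd (.lf 159) (.lf 0))))) (.nd (.nd (.nd (.nd (.lf 0) (.lf 285)) (.nd (.lf 0) (.lf 0))) (.nd (.nd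 (.lf 0) (.lf 349)) (.nd (.lf 21) (.lf 0)))) (.nd (.nd (.nd (.lf 66) (.lf 310)) (.nd (.lf 43) (.lf 0))) (.nd (.nd (.lf 0) (.lf 0)) (.nd (.lf 0) (.lf 0))))))

/-- table part -/
def rkT_5 : Tr :=
  .nd (.nd (.nd (.nd (.nd (.nd (.lf 0) (.lf 0)) (.nd (.lf 0) (.lf 0))) (.nd (.nd (.lf 0) (.lf 0)) (.nd (.lf 0) (.lf 0)))) (.nd (.nd (.nd (.lf 0) (.lf 0)) (.nd (.lf 0) (.lf 0))) (.nd (.nd (.lf 125) (.lf 338)) (.nd (.lf 201) (.lf 0))))) (.nd (.nd (.nd (.nd (.lf 0) (.lf 0)) (.nd (.lf 167) (.lf 0))) (.nd (.nd (.lf 14) (.lf 104)) (.nd (.lf 0) (.lf 0)))) (.nd (.nd (.nd (.lf 28) (.lf 136)) (.nd (.lf 0) (.lf 0))) (.nd (.nd (.lf 0) (.lf 0)) (.nd (.lf 94) (.lf 0)))))) (.nd (.nd (.nd (.nd (.nd (.lf 0) (.lf 172)) (.nd (.lf 31) (.lf 0))) (.nd (.nd (.lf 0) (.lf 214)) (.nd (.lf 0) (.lf 0)))) (.nd (.nd (.nd (.lf 0) (.lf 243)) (.nd (.lf 0) (.lf 0))) (.nd (.nd (.lf 0) (.lf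 0)) (.nd (.lf 115) (.lf 0))))) (.nd (.nd (.nd (.nd (.lf 0) (.lf 258)) (.nd (.lf 140) (.lf 0))) (.nd (.nd (.lf 0) (.lf 23)) (.nd (.lf 0) (.lf 0)))) (.nd (.nd (.nd (.lf 0) (.lf 284)) (.nd (.lf 185) (.lf 0))) (.nd (.nd (.lf 0) (.lf 0)) (.nd (.lf 251) (.lf 0))))))

/-- table part -/
def rkT_6 : Tr :=
  .nd rkT_4 rkT_5

/-- table part -/
def rkT_7 : Tr :=
  .nd rkT_3 rkT_6

/-- table part -/
def rkT_8 : Tr :=
  .nd (.nd (.nd (.nd (.nd (.nd (.lf 0) (.lf 211)) (.nd (.lf 0) (.lf 0))) (.nd (.nd (.lf 0) (.lf 0)) (.nd (.lf 22) (.lf 0)))) (.nd (.nd (.nd (.lf 0) (.lf 0)) (.nd (.lf 0) (.lf 0))) (.nd (.nd (.lf 0) (.lf 255)) (.nd (.lf 241) (.lf 0))))) (.nd (.nd (.nd (.nd (.lf 0) (.lf 283)) (.nd (.lf 0) (.lf 0))) (.nd (.nd (.lf 0) (.lf 286)) (.nd (.lf 0) (.lf 0)))) (.nd (.nd (.nd (.lf 0) (.lf 0)) (.nd (.lf 113) (.lf 0))) (.nd (.nd (.lf 0) (.lf 0)) (.nd (.lf 106)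 (.lf 0)))))) (.nd (.nd (.nd (.nd (.nd (.lf 0) (.lf 0)) (.nd (.lf 0) (.lf 0))) (.nd (.nd (.lf 0) (.lf 314)) (.nd (.lf 24) (.lf 0)))) (.nd (.nd (.nd (.lf 0) (.lf 248)) (.nd (.lf 0) (.lf 0))) (.nd (.nd (.lf 0) (.lf 0)) (.nd (.lf 0) (.lf 0))))) (.nd (.nd (.nd (.nd (.lf 0) (.lf 280)) (.nd (.lf 9) (.lf 0))) (.nd (.nd (.lf 75) (.lf 203)) (.nd (.lf 131) (.lf 0)))) (.nd (.nd (.nd (.lf 0) (.lf 271)) (.nd (.lf 119) (.lf 0))) (.nd (.nd (.lf 0) (.lf 0)) (.nd (.lf 102) (.lf 0))))))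

/-- table part -/
def rkT_9 : Tr :=
  .nd (.nd (.nd (.nd (.nd (.nd (.lf 0) (.lf 0)) (.nd (.lf 0) (.lf 0))) (.nd (.nd (.lf 0) (.lf 96)) (.nd (.lf 16) (.lf 0)))) (.nd (.nd (.nd (.lf 0) (.lf 178)) (.nd (.lf 163) (.lf 0))) (.nd (.nd (.lf 0) (.lf 316)) (.nd (.lf 0) (.lf 0))))) (.nd (.nd (.nd (.nd (.lf 0) (.lf 0)) (.nd (.lf 0) (.lf 0))) (.nd (.nd (.lf 0) (.lf 319)) (.nd (.lf 0) (.lf 0)))) (.nd (.nd (.nd (.lf 13) (.lf 147)) (.nd (.lf 0) (.lf 0))) (.nd (.nd (.lf 0) (.lf 0)) (.nd (.lf 183) (.lf 0)))))) (.nd (.nd (.nd (.nd (.nd (.lf 0) (.lf 0)) (.nd (.lf 47) (.lf 0))) (.nd (.nd (.lf 73) (.lf 275)) (.nd (.lf 34) (.lf 0)))) (.nd (.nd (.nd (.lf 0) (.lf 357)) (.nd (.lf 210) (.lf 0))) (.nd (.nd (.lf 0) (.lf 0)) (.nd (.lf 18) (.lf 0))))) (.nd (.nd (.nd (.nd (.lf 0) (.lf 188)) (.nd (.lf 0) (.lf 0))) (.nd (.nd (.lf 0) (.lf 231)) (.nd (.lf 293) (.lf 0)))) (.nd (.nd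 (.nd (.lf 0) (.lf 217)) (.nd (.lf 148) (.lf 0))) (.nd (.nd (.lf 27) (.lf 0)) (.nd (.lf 0) (.lf 0))))))

/-- table part -/
def rkT_10 : Tr :=
  .nd rkT_8 rkT_9

/-- table part -/
def rkT_11 : Tr :=
  .nd (.nd (.nd (.nd (.nd (.nd (.lf 0) (.lf 0)) (.nd (.lf 82) (.lf 0))) (.nd (.nd (.lf 0) (.lf 0)) (.nd (.lf 0) (.lf 0)))) (.nd (.nd (.nd (.lf 0) (.lf 350)) (.nd (.lf 33) (.lf 0))) (.nd (.nd (.lf 0) (.lf 329)) (.nd (.lf 0) (.lf 0))))) (.nd (.nd (.nd (.nd (.lf 0) (.lf 295)) (.nd (.lf 15) (.lf 0))) (.nd (.nd (.lf 0) (.lf 359)) (.nd (.lf 0) (.lf 0)))) (.nd (.nd (.nd (.lf 0) (.lf 333)) (.nd (.lf 0) (.lf 0))) (.nd (.nd (.lf 0) (.lf 0)) (.nd (.lf 79) (.lf 0)))))) (.nd (.nd (.nd (.nd (.nd (.lf 0) (.lf 0)) (.nd (.lf 0) (.lf 0))) (.nd (.nd (.lf 0) (.lf 346)) (.nd (.lf 10) (.lf 0)))) (.nd (.nd (.nd (.lf 0) (.lf 0)) (.nd (.lf 133) (.lf 0))) (.nd (.nd (.lf 68) (.lf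 0)) (.nd (.lf 118) (.lf 0))))) (.nd (.nd (.nd (.nd (.lf 19) (.lf 307)) (.nd (.lf 132) (.lf 0))) (.nd (.nd (.lf 0) (.lf 219)) (.nd (.lf 0) (.lf 0)))) (.nd (.nd (.nd (.lf 0) (.lf 288)) (.nd (.lf 0) (.lf 0))) (.nd (.nd (.lf 0) (.lf 0)) (.nd (.lf 0) (.lf 0))))))

/-- table part -/
def rkT_12 : Tr :=
  .nd (.nd (.nd (.nd (.nd (.nd (.lf 0) (.lf 239)) (.nd (.lf 0) (.lf 0))) (.nd (.nd (.lf 67) (.lf 345)) (.nd (.lf 0) (.lf 0)))) (.nd (.nd (.nd (.lf 0) (.lf 290)) (.nd (.lf 0) (.lf 0))) (.nd (.nd (.lf 41) (.lf 335)) (.nd (.lf 156) (.lf 0))))) (.nd (.nd (.nd (.nd (.lf 0) (.lf 323)) (.nd (.lf 0) (.lf 0))) (.nd (.nd (.lf 0) (.lf 297)) (.nd (.lf 85) (.lf 0)))) (.nd (.nd (.nd (.lf 0) (.lf 264)) (.nd (.lf 0) (.lf 0))) (.nd (.nd (.lf 165) (.lf 0)) (.nd (.lf 190) (.lf 0)))))) (.nd (.nd (.nd (.nd (.nd (.lf 0) (.lf 54)) (.nd (.lf 20) (.lf 0))) (.nd (.nd (.lf 0) (.lf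 0)) (.nd (.lf 0) (.lf 0)))) (.nd (.nd (.nd (.lf 38) (.lf 177)) (.nd (.lf 117) (.lf 0))) (.nd (.nd (.lf 204) (.lf 0)) (.nd (.lf 0) (.lf 0))))) (.nd (.nd (.nd (.nd (.lf 0) (.lf 0)) (.nd (.lf 250) (.lf 0))) (.nd (.nd (.lf 0) (.lf 233)) (.nd (.lf 228) (.lf 0)))) (.nd (.nd (.nd (.lf 29) (.lf 0)) (.nd (.lf 0) (.lf 0))) (.nd (.nd (.lf 0) (.lf 0)) (.nd (.lf 0) (.lf 0))))))

/-- table part -/
def rkT_13 : Tr :=
  .nd rkT_11 rkT_12

/-- table part -/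
def rkT_14 : Tr :=
  .nd rkT_10 rkT_13

/-- table part -/
def rkT_15 : Tr :=
  .nd rkT_7 rkT_14

/-- table part -/
def rkT_16 : Tr :=
  .nd (.nd (.nd (.nd (.nd (.nd (.lf 0) (.lf 0)) (.nd (.lf 192) (.lf 0))) (.nd (.nd (.lf 149) (.lf 269)) (.nd (.lf 0) (.lf 0)))) (.nd (.nd (.nd (.lf 0) (.lf 261)) (.nd (.lf 0) (.lf 0))) (.nd (.nd (.lf 0) (.lf 336)) (.nd (.lf 173) (.lf 0))))) (.nd (.nd (.nd (.nd (.lf 0) (.lf 89)) (.nd (.lf 0) (.lf 0))) (.nd (.nd (.lf 0) (.lf 330)) (.nd (.lf 143) (.lf 0)))) (.nd (.nd (.nd (.lf 0) (.lf 324)) (.nd (.lf 0) (.lf 0))) (.nd (.nd (.lf 99) (.lf 0)) (.nd (.lf 208) (.lf 0)))))) (.nd (.nd (.nd (.nd (.nd (.lf 0) (.lf 253)) (.nd (.lf 0) (.lf 0))) (.nd (.nd (.lf 0) (.lf 327)) (.nd (.lf 266) (.lf 0)))) (.nd (.nd (.nd (.lf 1) (.lf 306)) (.nd (.lf 135) (.lf 0))) (.nd (.nd (.lf 44) (.lf 0)) (.nd (.lf 0) (.lf 0))))) (.nd (.nd (.nd (.nd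 (.lf 0) (.lf 160)) (.nd (.lf 81) (.lf 0))) (.nd (.nd (.lf 0) (.lf 340)) (.nd (.lf 0) (.lf 0)))) (.nd (.nd (.nd (.lf 0) (.lf 103)) (.nd (.lf 0) (.lf 0))) (.nd (.nd (.lf 0) (.lf 0)) (.nd (.lf 265) (.lf 0))))))

/-- table part -/
def rkT_17 : Tr :=
  .nd (.nd (.nd (.nd (.nd (.nd (.lf 0) (.lf 244)) (.nd (.lf 0) (.lf 0))) (.nd (.nd (.lf 164) (.lf 0)) (.nd (.lf 134) (.lf 0)))) (.nd (.nd (.nd (.lf 0) (.lf 281)) (.nd (.lf 0) (.lf 0))) (.nd (.nd (.lf 221) (.lf 352)) (.nd (.lf 263) (.lf 0))))) (.nd (.nd (.nd (.nd (.lf 0) (.lf 105)) (.nd (.lf 0) (.lf 0))) (.nd (.nd (.lf 0) (.lf 305)) (.nd (.lf 0) (.lf 0)))) (.nd (.nd (.nd (.lf 0) (.lf 356)) (.nd (.lf 193) (.lf 0))) (.nd (.nd (.lf 88) (.lf 0)) (.nd (.lf 0) (.lf 0)))))) (.nd (.nd (.nd (.nd (.nd (.lf 0) (.lf 145)) (.nd (.lf 0) (.lf 0))) (.nd (.nd (.lf 0) (.lf 0)) (.nd (.lf 36) (.lf 0)))) (.nd (.nd (.nd (.lf 50)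 (.lf 245)) (.nd (.lf 298) (.lf 0))) (.nd (.nd (.lf 138) (.lf 0)) (.nd (.lf 299) (.lf 0))))) (.nd (.nd (.nd (.nd (.lf 48) (.lf 186)) (.nd (.lf 0) (.lf 0))) (.nd (.nd (.lf 3) (.lf 334)) (.nd (.lf 294) (.lf 0)))) (.nd (.nd (.nd (.lf 0) (.lf 238)) (.nd (.lf 184) (.lf 0))) (.nd (.nd (.lf 0) (.lf 0)) (.nd (.lf 0) (.lf 0))))))

/-- table part -/
def rkT_18 : Tr :=
  .nd rkT_16 rkT_17

/-- table part -/
def rkT_19 : Tr :=
  .nd (.nd (.nd (.nd (.nd (.nd (.lf 0) (.lf 232)) (.nd (.lf 0) (.lf 0))) (.nd (.nd (.lf 65) (.lf 197)) (.nd (.lf 0) (.lf 0)))) (.nd (.nd (.nd (.lf 0) (.lf 0)) (.nd (.lf 225) (.lf 0))) (.nd (.nd (.lf 169) (.lf 348)) (.nd (.lf 129) (.lf 0))))) (.nd (.nd (.nd (.nd (.lf 0) (.lf 35)) (.nd (.lf 0) (.lf 0))) (.nd (.nd (.lf 0) (.lf 289)) (.nd (.lf 0) (.lf 0)))) (.nd (.nd (.nd (.lf 46) (.lf 291)) (.nd (.lf 207) (.lf 0))) (.nd (.nd (.lf 0) (.lf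 0)) (.nd (.lf 7) (.lf 0)))))) (.nd (.nd (.nd (.nd (.nd (.lf 57) (.lf 175)) (.nd (.lf 0) (.lf 0))) (.nd (.nd (.lf 80) (.lf 308)) (.nd (.lf 107) (.lf 0)))) (.nd (.nd (.nd (.lf 0) (.lf 95)) (.nd (.lf 0) (.lf 0))) (.nd (.nd (.lf 0) (.lf 0)) (.nd (.lf 123) (.lf 0))))) (.nd (.nd (.nd (.nd (.lf 0) (.lf 0)) (.nd (.lf 0) (.lf 0))) (.nd (.nd (.lf 0) (.lf 315)) (.nd (.lf 37) (.lf 0)))) (.nd (.nd (.nd (.lf 0) (.lf 0)) (.nd (.lf 0) (.lf 0))) (.nd (.nd (.lf 71) (.lf 0)) (.nd (.lf 213) (.lf 0))))))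

/-- table part -/
def rkT_20 : Tr :=
  .nd (.nd (.nd (.nd (.nd (.nd (.lf 0) (.lf 260)) (.nd (.lf 174) (.lf 0))) (.nd (.nd (.lf 0) (.lf 0)) (.nd (.lf 0) (.lf 0)))) (.nd (.nd (.nd (.lf 0) (.lf 276)) (.nd (.lf 0) (.lf 0))) (.nd (.nd (.lf 0) (.lf 358)) (.nd (.lf 0) (.lf 0))))) (.nd (.nd (.nd (.nd (.lf 0) (.lf 0)) (.nd (.lf 4) (.lf 0))) (.nd (.nd (.lf 170) (.lf 234)) (.nd (.lf 6) (.lf 0)))) (.nd (.nd (.nd (.lf 0) (.lf 146)) (.nd (.lf 212) (.lf 0))) (.nd (.nd (.lf 0) (.lf 0)) (.nd (.lf 77) (.lf 0)))))) (.nd (.nd (.nd (.nd (.nd (.lf 0) (.lf 272)) (.nd (.lf 0) (.lf 0))) (.nd (.nd (.lf 0) (.lf 282)) (.nd (.lf 0) (.lf 0)))) (.nd (.nd (.nd (.lf 152) (.lf 252)) (.nd (.lf 0) (.lf 0))) (.nd (.nd (.lf 224) (.lf 0)) (.nd (.lf 87) (.lf 0))))) (.nd (.nd (.nd (.nd (.lf 0) (.lf 222)) (.nd (.lf 0) (.lf 0))) (.nd (.nd (.lf 259) (.lf 202)) (.nd (.lf 155) (.lf 0)))) (.nd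 (.nd (.nd (.lf 2) (.lf 0)) (.nd (.lf 0) (.lf 0))) (.nd (.nd (.lf 0) (.lf 0)) (.nd (.lf 0) (.lf 0))))))

/-- table part -/
def rkT_21 : Tr :=
  .nd rkT_19 rkT_20

/-- table part -/
def rkT_22 : Tr :=
  .nd rkT_18 rkT_21

/-- table part -/
def rkT_23 : Tr :=
  .nd (.nd (.nd (.nd (.nd (.nd (.lf 0) (.lf 128)) (.nd (.lf 0) (.lf 0))) (.nd (.nd (.lf 58) (.lf 0)) (.nd (.lf 139) (.lf 0)))) (.nd (.nd (.nd (.lf 0) (.lf 331)) (.nd (.lf 0) (.lf 0))) (.nd (.nd (.lf 0) (.lf 292)) (.nd (.lf 151) (.lf 0))))) (.nd (.nd (.nd (.nd (.lf 0) (.lf 200)) (.nd (.lf 0) (.lf 0))) (.nd (.nd (.lf 49) (.lf 337)) (.nd (.lf 0) (.lf 0)))) (.nd (.nd (.nd (.lf 40) (.lf 344)) (.nd (.lf 120) (.lf 0))) (.nd (.nd (.lf 0) (.lf 0)) (.nd (.lf 114) (.lf 0)))))) (.nd (.nd (.nd (.nd (.nd (.lf 0) (.lf 195)) (.nd (.lf 0) (.lf 0))) (.nd (.nd (.lf 215) (.lf 279)) (.nd (.lf 5) (.lf 0)))) (.nd (.nd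 (.nd (.lf 191) (.lf 0)) (.nd (.lf 0) (.lf 0))) (.nd (.nd (.lf 93) (.lf 0)) (.nd (.lf 249) (.lf 0))))) (.nd (.nd (.nd (.nd (.lf 0) (.lf 300)) (.nd (.lf 0) (.lf 0))) (.nd (.nd (.lf 0) (.lf 237)) (.nd (.lf 0) (.lf 0)))) (.nd (.nd (.nd (.lf 0) (.lf 0)) (.nd (.lf 101) (.lf 0))) (.nd (.nd (.lf 0) (.lf 0)) (.nd (.lf 247) (.lf 0))))))

/-- table part -/
def rkT_24 : Tr :=
  .nd (.nd (.nd (.nd (.nd (.nd (.lf 0) (.lf 157)) (.nd (.lf 0) (.lf 0))) (.nd (.nd (.lf 30) (.lf 318)) (.nd (.lf 227) (.lf 0)))) (.nd (.nd (.nd (.lf 0) (.lf 181)) (.nd (.lf 0) (.lf 0))) (.nd (.nd (.lf 141) (.lf 277)) (.nd (.lf 176) (.lf 0))))) (.nd (.nd (.nd (.nd (.lf 0) (.lf 328)) (.nd (.lf 74) (.lf 0))) (.nd (.nd (.lf 0) (.lf 320)) (.nd (.lf 303) (.lf 0)))) (.nd (.nd (.nd (.lf 0) (.lf 161)) (.nd (.lf 0) (.lf 0))) (.nd (.nd (.lf 0) (.lf 0)) (.nd (.lf 0) (.lf 0)))))) (.nd (.nd (.nd (.nd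 (.nd (.lf 0) (.lf 144)) (.nd (.lf 59) (.lf 0))) (.nd (.nd (.lf 0) (.lf 236)) (.nd (.lf 196) (.lf 0)))) (.nd (.nd (.nd (.lf 0) (.lf 0)) (.nd (.lf 0) (.lf 0))) (.nd (.nd (.lf 100) (.lf 0)) (.nd (.lf 116) (.lf 0))))) (.nd (.nd (.nd (.nd (.lf 0) (.lf 218)) (.nd (.lf 0) (.lf 0))) (.nd (.nd (.lf 0) (.lf 311)) (.nd (.lf 0) (.lf 0)))) (.nd (.nd (.nd (.lf 0) (.lf 343)) (.nd (.lf 0) (.lf 0))) (.nd (.nd (.lf 121) (.lf 0)) (.nd (.lf 0) (.lf 0))))))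

/-- table part -/
def rkT_25 : Tr :=
  .nd rkT_23 rkT_24

/-- table part -/
def rkT_26 : Tr :=
  .nd (.nd (.nd (.nd (.nd (.nd (.lf 0) (.lf 270)) (.nd (.lf 0) (.lf 0))) (.nd (.nd (.lf 0) (.lf 0)) (.nd (.lf 154) (.lf 0)))) (.nd (.nd (.nd (.lf 0) (.lf 347)) (.nd (.lf 0) (.lf 0))) (.nd (.nd (.lf 0) (.lf 354)) (.nd (.lf 302) (.lf 0))))) (.nd (.nd (.nd (.nd (.lf 0) (.lf 309)) (.nd (.lf 86) (.lf 0))) (.nd (.nd (.lf 127) (.lf 360)) (.nd (.lf 0) (.lf 0)))) (.nd (.nd (.nd (.lf 0) (.lf 304)) (.nd (.lf 0) (.lf 0))) (.nd (.nd (.lf 0) (.lf 0)) (.nd (.lf 90) (.lf 0)))))) (.nd (.nd (.nd (.nd (.nd (.lf 0) (.lf 262)) (.nd (.lf 187) (.lf 0))) (.nd (.nd (.lf 63) (.lf 355)) (.nd (.lf 70) (.lf 0)))) (.nd (.nd (.nd (.lf 0) (.lf 209)) (.nd (.lf 194) (.lf 0))) (.nd (.nd (.lf 0) (.lf 0)) (.nd (.lf 267) (.lf 0))))) (.nd (.nd (.nd (.nd (.lf 51) (.lf 332)) (.nd (.lf 0) (.lf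 0))) (.nd (.nd (.lf 0) (.lf 220)) (.nd (.lf 0) (.lf 0)))) (.nd (.nd (.nd (.lf 168) (.lf 342)) (.nd (.lf 296) (.lf 0))) (.nd (.nd (.lf 0) (.lf 0)) (.nd (.lf 112) (.lf 0))))))

/-- table part -/
def rkT_27 : Tr :=
  .nd (.nd (.nd (.nd (.nd (.nd (.lf 53) (.lf 0)) (.nd (.lf 0) (.lf 0))) (.nd (.nd (.lf 0) (.lf 322)) (.nd (.lf 153) (.lf 0)))) (.nd (.nd (.nd (.lf 0) (.lf 0)) (.nd (.lf 0) (.lf 0))) (.nd (.nd (.lf 0) (.lf 341)) (.nd (.lf 137) (.lf 0))))) (.nd (.nd (.nd (.nd (.lf 0) (.lf 321)) (.nd (.lf 0) (.lf 0))) (.nd (.nd (.lf 0) (.lf 312)) (.nd (.lf 97) (.lf 0)))) (.nd (.nd (.nd (.lf 0) (.lf 0)) (.nd (.lf 0) (.lf 0))) (.nd (.nd (.lf 216) (.lf 0)) (.nd (.lf 0) (.lf 0)))))) (.nd (.nd (.nd (.nd (.nd (.lf 0) (.lf 126)) (.nd (.lf 52) (.lf 0))) (.nd (.nd (.lf 0) (.lf 317)) (.nd (.lf 0) (.lf 0)))) (.nd (.nd (.nd (.lf 0) (.lf 198)) (.nd (.lf 109) (.lf 0))) (.nd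 (.nd (.lf 0) (.lf 0)) (.nd (.lf 84) (.lf 0))))) (.nd (.nd (.nd (.nd (.lf 0) (.lf 268)) (.nd (.lf 0) (.lf 0))) (.nd (.nd (.lf 0) (.lf 273)) (.nd (.lf 0) (.lf 0)))) (.nd (.nd (.nd (.lf 0) (.lf 189)) (.nd (.lf 223) (.lf 0))) (.nd (.nd (.lf 0) (.lf 0)) (.nd (.lf 0) (.lf 0))))))

/-- table part -/
def rkT_28 : Tr :=
  .nd rkT_26 rkT_27

/-- table part -/
def rkT_29 : Tr :=
  .nd rkT_25 rkT_28

/-- table part -/
def rkT_30 : Tr :=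
  .nd rkT_22 rkT_29

/-- table part -/
def rkT_31 : Tr :=
  .nd rkT_15 rkT_30

/-- table -/
def rkT : Tr :=
  rkT_31

/-- table part -/
def jsT_1 : Tr :=
  .nd (.nd (.nd (.nd (.nd (.nd (.lf 28820) (.lf 0)) (.nd (.lf 14940) (.lf 0))) (.nd (.nd (.lf 0) (.lf 30058)) (.nd (.lf 0) (.lf 0)))) (.nd (.nd (.nd (.lf 3626) (.lf 4476)) (.nd (.lf 14520) (.lf 0))) (.nd (.nd (.lf 16520) (.lf 4966)) (.nd (.lf 23640) (.lf 0))))) (.nd (.nd (.nd (.nd (.lf 0) (.lf 0)) (.nd (.lf 14500) (.lf 0))) (.nd (.nd (.lf 0) (.lf 4706)) (.nd (.lf 0) (.lf 0)))) (.nd (.nd (.nd (.lf 0) (.lf 23540)) (.nd (.lf 14642) (.lf 0))) (.nd (.nd (.lf 0) (.lf 0)) (.nd (.lf 12186) (.lf 0)))))) (.nd (.nd (.nd (.nd (.nd (.lf 0) (.lf 0)) (.nd (.lf 0) (.lf 0))) (.nd (.nd (.lf 11016) (.lf 0)) (.nd (.lf 2220) (.lf 0)))) (.nd (.nd (.nd (.lf 21610) (.lf 0)) (.nd (.lf 0) (.lf 0))) (.nd (.nd (.lf 14460)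 (.lf 0)) (.nd (.lf 0) (.lf 0))))) (.nd (.nd (.nd (.nd (.lf 0) (.lf 15908)) (.nd (.lf 0) (.lf 0))) (.nd (.nd (.lf 0) (.lf 17140)) (.nd (.lf 18182) (.lf 0)))) (.nd (.nd (.nd (.lf 0) (.lf 22150)) (.nd (.lf 14580) (.lf 0))) (.nd (.nd (.lf 0) (.lf 0)) (.nd (.lf 4036) (.lf 0))))))

/-- table part -/
def jsT_2 : Tr :=
  .nd (.nd (.nd (.nd (.nd (.nd (.lf 0) (.lf 0)) (.nd (.lf 3876) (.lf 0))) (.nd (.nd (.lf 0) (.lf 5340)) (.nd (.lf 0) (.lf 0)))) (.nd (.nd (.nd (.lf 0) (.lf 6256)) (.nd (.lf 16330) (.lf 0))) (.nd (.nd (.lf 0) (.lf 31318)) (.nd (.lf 4756) (.lf 0))))) (.nd (.nd (.nd (.nd (.lf 0) (.lf 0)) (.nd (.lf 0) (.lf 0))) (.nd (.nd (.lf 730) (.lf 0)) (.nd (.lf 11756) (.lf 0)))) (.nd (.nd (.nd (.lf 0) (.lf 16210)) (.nd (.lf 18668) (.lf 0))) (.nd (.nd (.lf 290) (.lf 0)) (.nd (.lf 14630) (.lf 0)))))) (.nd (.nd (.nd (.nd (.nd (.lf 7232) (.lf 14908)) (.nd (.lf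 0) (.lf 0))) (.nd (.nd (.lf 370) (.lf 4616)) (.nd (.lf 14728) (.lf 0)))) (.nd (.nd (.nd (.lf 3636) (.lf 5090)) (.nd (.lf 0) (.lf 0))) (.nd (.nd (.lf 0) (.lf 0)) (.nd (.lf 30598) (.lf 0))))) (.nd (.nd (.nd (.nd (.lf 0) (.lf 18188)) (.nd (.lf 0) (.lf 0))) (.nd (.nd (.lf 0) (.lf 3400)) (.nd (.lf 2500) (.lf 0)))) (.nd (.nd (.nd (.lf 0) (.lf 0)) (.nd (.lf 4780) (.lf 0))) (.nd (.nd (.lf 7662) (.lf 0)) (.nd (.lf 0) (.lf 0))))))

/-- table part -/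
def jsT_3 : Tr :=
  .nd jsT_1 jsT_2

/-- table part -/
def jsT_4 : Tr :=
  .nd (.nd (.nd (.nd (.nd (.nd (.lf 0) (.lf 0)) (.nd (.lf 11296) (.lf 0))) (.nd (.nd (.lf 14540) (.lf 0)) (.nd (.lf 14570) (.lf 0)))) (.nd (.nd (.nd (.lf 0) (.lf 16090)) (.nd (.lf 0) (.lf 0))) (.nd (.nd (.lf 0) (.lf 18942)) (.nd (.lf 12436) (.lf 0))))) (.nd (.nd (.nd (.nd (.lf 0) (.lf 23660)) (.nd (.lf 0) (.lf 0))) (.nd (.nd (.lf 0) (.lf 19738)) (.nd (.lf 3916) (.lf 0)))) (.nd (.nd (.nd (.lf 21630) (.lf 0)) (.nd (.lf 5096) (.lf 0))) (.nd (.nd (.lf 0) (.lf 0)) (.nd (.lf 19058) (.lf 0)))))) (.nd (.nd (.nd (.nd (.nd (.lf 0) (.lf 0)) (.nd (.lf 0) (.lf 0))) (.nd (.nd (.lf 0) (.lf 2760)) (.nd (.lf 0) (.lf 0)))) (.nd (.nd (.nd (.lf 0) (.lf 0)) (.nd (.lf 0) (.lf 0))) (.nd (.nd (.lf 18078) (.lf 0)) (.nd (.lf 22450) (.lf 0))))) (.nd (.nd (.nd (.nd (.lf 0) (.lf 5996)) (.nd (.lf 0) (.lf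 0))) (.nd (.nd (.lf 0) (.lf 10538)) (.nd (.lf 2080) (.lf 0)))) (.nd (.nd (.nd (.lf 780) (.lf 20728)) (.nd (.lf 11282) (.lf 0))) (.nd (.nd (.lf 0) (.lf 0)) (.nd (.lf 0) (.lf 0))))))

/-- table part -/
def jsT_5 : Tr :=
  .nd (.nd (.nd (.nd (.nd (.nd (.lf 0) (.lf 0)) (.nd (.lf 0) (.lf 0))) (.nd (.nd (.lf 0) (.lf 0)) (.nd (.lf 0) (.lf 0)))) (.nd (.nd (.nd (.lf 0) (.lf 0)) (.nd (.lf 0) (.lf 0))) (.nd (.nd (.lf 11146) (.lf 3090)) (.nd (.lf 12136) (.lf 0))))) (.nd (.nd (.nd (.nd (.lf 0) (.lf 0)) (.nd (.lf 19618) (.lf 0))) (.nd (.nd (.lf 3686) (.lf 6066)) (.nd (.lf 0) (.lf 0)))) (.nd (.nd (.nd (.lf 1) (.lf 4406)) (.nd (.lf 0) (.lf 0))) (.nd (.nd (.lf 0) (.lf 0)) (.nd (.lf 21800) (.lf 0)))))) (.nd (.nd (.nd (.nd (.nd (.lf 0) (.lf 18628)) (.nd (.lf 18058) (.lf 0))) (.nd (.nd (.lf 0) (.lf 5746)) (.nd (.lf 0) (.lf 0)))) (.nd (.nd (.nd (.lf 0) (.lf 22492))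 (.nd (.lf 0) (.lf 0))) (.nd (.nd (.lf 0) (.lf 0)) (.nd (.lf 15688) (.lf 0))))) (.nd (.nd (.nd (.nd (.lf 0) (.lf 21670)) (.nd (.lf 21942) (.lf 0))) (.nd (.nd (.lf 0) (.lf 18882)) (.nd (.lf 0) (.lf 0)))) (.nd (.nd (.nd (.lf 0) (.lf 15520)) (.nd (.lf 16300) (.lf 0))) (.nd (.nd (.lf 0) (.lf 0)) (.nd (.lf 29598) (.lf 0))))))

/-- table part -/
def jsT_6 : Tr :=
  .nd jsT_4 jsT_5

/-- table part -/
def jsT_7 : Tr :=
  .nd jsT_3 jsT_6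

/-- table part -/
def jsT_8 : Tr :=
  .nd (.nd (.nd (.nd (.nd (.nd (.lf 0) (.lf 22810)) (.nd (.lf 0) (.lf 0))) (.nd (.nd (.lf 0) (.lf 0)) (.nd (.lf 18162) (.lf 0)))) (.nd (.nd (.nd (.lf 0) (.lf 0)) (.nd (.lf 0) (.lf 0))) (.nd (.nd (.lf 0) (.lf 5126)) (.nd (.lf 23080) (.lf 0))))) (.nd (.nd (.nd (.nd (.lf 0) (.lf 22660)) (.nd (.lf 0) (.lf 0))) (.nd (.nd (.lf 0) (.lf 20128)) (.nd (.lf 0) (.lf 0)))) (.nd (.nd (.nd (.lf 0) (.lf 0)) (.nd (.lf 11586) (.lf 0))) (.nd (.nd (.lf 0) (.lf 0)) (.nd (.lf 15212) (.lf 0)))))) (.nd (.nd (.nd (.nd (.nd (.lf 0) (.lf 0)) (.nd (.lf 0) (.lf 0))) (.nd (.nd (.lf 0) (.lf 13706)) (.nd (.lf 22050) (.lf 0)))) (.nd (.nd (.nd (.lf 0) (.lf 8932)) (.nd (.lf 0) (.lf 0))) (.nd (.nd (.lf 0) (.lf 0)) (.nd (.lf 0) (.lf 0))))) (.nd (.nd (.nd (.nd (.lf 0) (.lf 12266)) (.nd (.lf 3786) (.lf 0))) (.nd (.nd (.lf 14890) (.lf 19142)) (.nd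 (.lf 14590) (.lf 0)))) (.nd (.nd (.nd (.lf 0) (.lf 19398)) (.nd (.lf 15302) (.lf 0))) (.nd (.nd (.lf 0) (.lf 0)) (.nd (.lf 14650) (.lf 0))))))

/-- table part -/
def jsT_9 : Tr :=
  .nd (.nd (.nd (.nd (.nd (.nd (.lf 0) (.lf 0)) (.nd (.lf 0) (.lf 0))) (.nd (.nd (.lf 0) (.lf 22572)) (.nd (.lf 3896) (.lf 0)))) (.nd (.nd (.nd (.lf 0) (.lf 1310)) (.nd (.lf 5920) (.lf 0))) (.nd (.nd (.lf 0) (.lf 3470)) (.nd (.lf 0) (.lf 0))))) (.nd (.nd (.nd (.nd (.lf 0) (.lf 0)) (.nd (.lf 0) (.lf 0))) (.nd (.nd (.lf 0) (.lf 20288)) (.nd (.lf 0) (.lf 0)))) (.nd (.nd (.nd (.lf 3646) (.lf 5590)) (.nd (.lf 0) (.lf 0))) (.nd (.nd (.lf 0) (.lf 0)) (.nd (.lf 11552) (.lf 0)))))) (.nd (.nd (.nd (.nd (.nd (.lf 0) (.lf 0)) (.nd (.lf 11356) (.lf 0))) (.nd (.nd (.lf 470) (.lf 27198)) (.nd (.lf 11352) (.lf 0)))) (.nd (.nd (.nd (.lf 0) (.lf 12546)) (.nd (.lf 15240) (.lf 0))) (.nd (.nd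 (.lf 0) (.lf 0)) (.nd (.lf 3996) (.lf 0))))) (.nd (.nd (.nd (.nd (.lf 0) (.lf 1920)) (.nd (.lf 0) (.lf 0))) (.nd (.nd (.lf 0) (.lf 5006)) (.nd (.lf 12052) (.lf 0)))) (.nd (.nd (.nd (.lf 0) (.lf 9112)) (.nd (.lf 11636) (.lf 0))) (.nd (.nd (.lf 11266) (.lf 0)) (.nd (.lf 0) (.lf 0))))))

/-- table part -/
def jsT_10 : Tr :=
  .nd jsT_8 jsT_9

/-- table part -/
def jsT_11 : Tr :=
  .nd (.nd (.nd (.nd (.nd (.nd (.lf 0) (.lf 0)) (.nd (.lf 430) (.lf 0))) (.nd (.nd (.lf 0) (.lf 0)) (.nd (.lf 0) (.lf 0)))) (.nd (.nd (.nd (.lf 0) (.lf 12366)) (.nd (.lf 1580) (.lf 0))) (.nd (.nd (.lf 0) (.lf 5266)) (.nd (.lf 0) (.lf 0))))) (.nd (.nd (.nd (.nd (.lf 0) (.lf 15010)) (.nd (.lf 3776) (.lf 0))) (.nd (.nd (.lf 0) (.lf 6746)) (.nd (.lf 0) (.lf 0)))) (.nd (.nd (.nd (.lf 0) (.lf 15968)) (.nd (.lf 0) (.lf 0))) (.nd (.nd (.lf 0) (.lf 0)) (.nd (.lf 18222) (.lf 0))))))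 (.nd (.nd (.nd (.nd (.nd (.lf 0) (.lf 0)) (.nd (.lf 0) (.lf 0))) (.nd (.nd (.lf 0) (.lf 3020)) (.nd (.lf 3906) (.lf 0)))) (.nd (.nd (.nd (.lf 0) (.lf 0)) (.nd (.lf 15070) (.lf 0))) (.nd (.nd (.lf 14512) (.lf 0)) (.nd (.lf 11926) (.lf 0))))) (.nd (.nd (.nd (.nd (.lf 18012) (.lf 3110)) (.nd (.lf 650) (.lf 0))) (.nd (.nd (.lf 0) (.lf 29828)) (.nd (.lf 0) (.lf 0)))) (.nd (.nd (.nd (.lf 0) (.lf 20568)) (.nd (.lf 0) (.lf 0))) (.nd (.nd (.lf 0) (.lf 0)) (.nd (.lf 0) (.lf 0))))))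

/-- table part -/
def jsT_12 : Tr :=
  .nd (.nd (.nd (.nd (.nd (.nd (.lf 0) (.lf 18702)) (.nd (.lf 0) (.lf 0))) (.nd (.nd (.lf 29068) (.lf 30550)) (.nd (.lf 0) (.lf 0)))) (.nd (.nd (.nd (.lf 0) (.lf 2290)) (.nd (.lf 0) (.lf 0))) (.nd (.nd (.lf 18038) (.lf 31598)) (.nd (.lf 23160) (.lf 0))))) (.nd (.nd (.nd (.nd (.lf 0) (.lf 17260)) (.nd (.lf 0) (.lf 0))) (.nd (.nd (.lf 0) (.lf 4876)) (.nd (.lf 18408) (.lf 0)))) (.nd (.nd (.nd (.lf 0) (.lf 26918)) (.nd (.lf 0) (.lf 0))) (.nd (.nd (.lf 15650) (.lf 0)) (.nd (.lf 2650) (.lf 0)))))) (.nd (.nd (.nd (.nd (.nd (.lf 0) (.lf 1860)) (.nd (.lf 18092) (.lf 0))) (.nd (.nd (.lf 0) (.lf 0)) (.nd (.lf 0) (.lf 0)))) (.nd (.nd (.nd (.lf 3) (.lf 20298)) (.nd (.lf 21930) (.lf 0))) (.nd (.nd (.lf 8328) (.lf 0)) (.nd (.lf 0) (.lf 0))))) (.nd (.nd (.nd (.nd (.lf 0) (.lf 0)) (.nd (.lf 11456) (.lf 0))) (.nd (.nd (.lf 0)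 (.lf 20708)) (.nd (.lf 2360) (.lf 0)))) (.nd (.nd (.nd (.lf 14452) (.lf 0)) (.nd (.lf 0) (.lf 0))) (.nd (.nd (.lf 0) (.lf 0)) (.nd (.lf 0) (.lf 0))))))

/-- table part -/
def jsT_13 : Tr :=
  .nd jsT_11 jsT_12

/-- table part -/
def jsT_14 : Tr :=
  .nd jsT_10 jsT_13

/-- table part -/
def jsT_15 : Tr :=
  .nd jsT_7 jsT_14

/-- table part -/
def jsT_16 : Tr :=
  .nd (.nd (.nd (.nd (.nd (.nd (.lf 0) (.lf 0)) (.nd (.lf 10868) (.lf 0))) (.nd (.nd (.lf 7474) (.lf 22978)) (.nd (.lf 0) (.lf 0)))) (.nd (.nd (.nd (.lf 0) (.lf 11794)) (.nd (.lf 0) (.lf 0))) (.nd (.nd (.lf 0) (.lf 26570)) (.nd (.lf 11414) (.lf 0))))) (.nd (.nd (.nd (.nd (.lf 0) (.lf 8116)) (.nd (.lf 0) (.lf 0))) (.nd (.nd (.lf 0) (.lf 21210)) (.nd (.lf 11780) (.lf 0)))) (.nd (.nd (.nd (.lf 0) (.lf 1356)) (.nd (.lf 0) (.lf 0))) (.nd (.nd (.lf 11004) (.lf 0)) (.nd (.lf 27890) (.lf 0)))))) (.nd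 (.nd (.nd (.nd (.nd (.lf 0) (.lf 28460)) (.nd (.lf 0) (.lf 0))) (.nd (.nd (.lf 0) (.lf 12524)) (.nd (.lf 34880) (.lf 0)))) (.nd (.nd (.nd (.lf 14424) (.lf 16054)) (.nd (.lf 20680) (.lf 0))) (.nd (.nd (.lf 18080) (.lf 0)) (.nd (.lf 0) (.lf 0))))) (.nd (.nd (.nd (.nd (.lf 0) (.lf 16554)) (.nd (.lf 418) (.lf 0))) (.nd (.nd (.lf 0) (.lf 6744)) (.nd (.lf 0) (.lf 0)))) (.nd (.nd (.nd (.lf 0) (.lf 15454)) (.nd (.lf 0) (.lf 0))) (.nd (.nd (.lf 0) (.lf 0)) (.nd (.lf 20450) (.lf 0))))))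

/-- table part -/
def jsT_17 : Tr :=
  .nd (.nd (.nd (.nd (.nd (.nd (.lf 0) (.lf 8494)) (.nd (.lf 0) (.lf 0))) (.nd (.nd (.lf 18350) (.lf 0)) (.nd (.lf 20190) (.lf 0)))) (.nd (.nd (.nd (.lf 0) (.lf 8256)) (.nd (.lf 0) (.lf 0))) (.nd (.nd (.lf 7534) (.lf 35560)) (.nd (.lf 8264) (.lf 0))))) (.nd (.nd (.nd (.nd (.lf 0) (.lf 11268)) (.nd (.lf 0) (.lf 0))) (.nd (.nd (.lf 0) (.lf 9016)) (.nd (.lf 0) (.lf 0)))) (.nd (.nd (.nd (.lf 0) (.lf 2836)) (.nd (.lf 34570) (.lf 0))) (.nd (.nd (.lf 10828) (.lf 0)) (.nd (.lf 0) (.lf 0)))))) (.nd (.nd (.nd (.nd (.nd (.lf 0) (.lf 846)) (.nd (.lf 0) (.lf 0))) (.nd (.nd (.lf 0) (.lf 0)) (.nd (.lf 566) (.lf 0)))) (.nd (.nd (.nd (.lf 25240) (.lf 16104)) (.nd (.lf 22438) (.lf 0))) (.nd (.nd (.lf 19700) (.lf 0)) (.nd (.lf 35180) (.lf 0))))) (.nd (.nd (.nd (.nd (.lf 26070) (.lf 34730)) (.nd (.lf 0) (.lf 0))) (.nd (.nd (.lf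 14484) (.lf 13914)) (.nd (.lf 12628) (.lf 0)))) (.nd (.nd (.nd (.lf 0) (.lf 11950)) (.nd (.lf 11098) (.lf 0))) (.nd (.nd (.lf 0) (.lf 0)) (.nd (.lf 0) (.lf 0))))))

/-- table part -/
def jsT_18 : Tr :=
  .nd jsT_16 jsT_17

/-- table part -/
def jsT_19 : Tr :=
  .nd (.nd (.nd (.nd (.nd (.nd (.lf 0) (.lf 2026)) (.nd (.lf 0) (.lf 0))) (.nd (.nd (.lf 7394) (.lf 11690)) (.nd (.lf 0) (.lf 0)))) (.nd (.nd (.nd (.lf 0) (.lf 0)) (.nd (.lf 15496) (.lf 0))) (.nd (.nd (.lf 236) (.lf 22548)) (.nd (.lf 18410) (.lf 0))))) (.nd (.nd (.nd (.nd (.lf 0) (.lf 8126)) (.nd (.lf 0) (.lf 0))) (.nd (.nd (.lf 0) (.lf 21510)) (.nd (.lf 0) (.lf 0)))) (.nd (.nd (.nd (.lf 7344) (.lf 8436)) (.nd (.lf 26700) (.lf 0))) (.nd (.nd (.lf 0) (.lf 0)) (.nd (.lf 14794) (.lf 0)))))) (.nd (.nd (.nd (.nd (.nd (.lf 14404) (.lf 33740)) (.nd (.lf 0) (.lf 0))) (.nd (.nd (.lf 14826) (.lf 35620))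 (.nd (.lf 12498) (.lf 0)))) (.nd (.nd (.nd (.lf 0) (.lf 35210)) (.nd (.lf 0) (.lf 0))) (.nd (.nd (.lf 0) (.lf 0)) (.nd (.lf 8314) (.lf 0))))) (.nd (.nd (.nd (.nd (.lf 0) (.lf 0)) (.nd (.lf 0) (.lf 0))) (.nd (.nd (.lf 0) (.lf 9834)) (.nd (.lf 18930) (.lf 0)))) (.nd (.nd (.nd (.lf 0) (.lf 0)) (.nd (.lf 0) (.lf 0))) (.nd (.nd (.lf 7446) (.lf 0)) (.nd (.lf 16196) (.lf 0))))))

/-- table part -/
def jsT_20 : Tr :=
  .nd (.nd (.nd (.nd (.nd (.nd (.lf 0) (.lf 34910)) (.nd (.lf 25820) (.lf 0))) (.nd (.nd (.lf 0) (.lf 0)) (.nd (.lf 0) (.lf 0)))) (.nd (.nd (.nd (.lf 0) (.lf 28660)) (.nd (.lf 0) (.lf 0))) (.nd (.nd (.lf 0) (.lf 19240)) (.nd (.lf 0) (.lf 0))))) (.nd (.nd (.nd (.nd (.lf 0) (.lf 0)) (.nd (.lf 14574) (.lf 0))) (.nd (.nd (.lf 19420) (.lf 27670)) (.nd (.lf 14714) (.lf 0)))) (.nd (.nd (.nd (.lf 0) (.lf 26010)) (.nd (.lf 11254) (.lf 0))) (.nd (.nd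 (.lf 0) (.lf 0)) (.nd (.lf 8374) (.lf 0)))))) (.nd (.nd (.nd (.nd (.nd (.lf 0) (.lf 27230)) (.nd (.lf 0) (.lf 0))) (.nd (.nd (.lf 0) (.lf 18710)) (.nd (.lf 0) (.lf 0)))) (.nd (.nd (.nd (.lf 11148) (.lf 33260)) (.nd (.lf 0) (.lf 0))) (.nd (.nd (.lf 19520) (.lf 0)) (.nd (.lf 8096) (.lf 0))))) (.nd (.nd (.nd (.nd (.lf 0) (.lf 15224)) (.nd (.lf 0) (.lf 0))) (.nd (.nd (.lf 27310) (.lf 22488)) (.nd (.lf 936) (.lf 0)))) (.nd (.nd (.nd (.lf 14444) (.lf 0)) (.nd (.lf 0) (.lf 0))) (.nd (.nd (.lf 0) (.lf 0)) (.nd (.lf 0) (.lf 0))))))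

/-- table part -/
def jsT_21 : Tr :=
  .nd jsT_19 jsT_20

/-- table part -/
def jsT_22 : Tr :=
  .nd jsT_18 jsT_21

/-- table part -/
def jsT_23 : Tr :=
  .nd (.nd (.nd (.nd (.nd (.nd (.lf 0) (.lf 15204)) (.nd (.lf 0) (.lf 0))) (.nd (.nd (.lf 7306) (.lf 0)) (.nd (.lf 20410) (.lf 0)))) (.nd (.nd (.nd (.lf 0) (.lf 8744)) (.nd (.lf 0) (.lf 0))) (.nd (.nd (.lf 0) (.lf 19540)) (.nd (.lf 7826) (.lf 0))))) (.nd (.nd (.nd (.nd (.lf 0) (.lf 15274)) (.nd (.lf 0) (.lf 0))) (.nd (.nd (.lf 14554) (.lf 12458)) (.nd (.lf 0) (.lf 0)))) (.nd (.nd (.nd (.lf 7276) (.lf 9404)) (.nd (.lf 10908) (.lf 0))) (.nd (.nd (.lf 0) (.lf 0)) (.nd (.lf 11348) (.lf 0)))))) (.nd (.nd (.nd (.nd (.nd (.lf 0) (.lf 8186)) (.nd (.lf 0) (.lf 0))) (.nd (.nd (.lf 11344) (.lf 12264)) (.nd (.lf 14694) (.lf 0)))) (.nd (.nd (.nd (.lf 7266) (.lf 0)) (.nd (.lf 0) (.lf 0))) (.nd (.nd (.lf 7396)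 (.lf 0)) (.nd (.lf 7956) (.lf 0))))) (.nd (.nd (.nd (.nd (.lf 0) (.lf 5714)) (.nd (.lf 0) (.lf 0))) (.nd (.nd (.lf 0) (.lf 11198)) (.nd (.lf 0) (.lf 0)))) (.nd (.nd (.nd (.lf 0) (.lf 0)) (.nd (.lf 4864) (.lf 0))) (.nd (.nd (.lf 0) (.lf 0)) (.nd (.lf 27660) (.lf 0))))))

/-- table part -/
def jsT_24 : Tr :=
  .nd (.nd (.nd (.nd (.nd (.nd (.lf 0) (.lf 11644)) (.nd (.lf 0) (.lf 0))) (.nd (.nd (.lf 7316) (.lf 19200)) (.nd (.lf 21848) (.lf 0)))) (.nd (.nd (.nd (.lf 0) (.lf 2116)) (.nd (.lf 0) (.lf 0))) (.nd (.nd (.lf 11108) (.lf 10104)) (.nd (.lf 376) (.lf 0))))) (.nd (.nd (.nd (.nd (.lf 0) (.lf 8376)) (.nd (.lf 7706) (.lf 0))) (.nd (.nd (.lf 0) (.lf 35780)) (.nd (.lf 15886) (.lf 0)))) (.nd (.nd (.nd (.lf 0) (.lf 19980)) (.nd (.lf 0) (.lf 0))) (.nd (.nd (.lf 0) (.lf 0)) (.nd (.lf 0) (.lf 0)))))) (.nd (.nd (.nd (.nd (.nd (.lf 0) (.lf 15354)) (.nd (.lf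 18480) (.lf 0))) (.nd (.nd (.lf 0) (.lf 8816)) (.nd (.lf 26190) (.lf 0)))) (.nd (.nd (.nd (.lf 0) (.lf 0)) (.nd (.lf 0) (.lf 0))) (.nd (.nd (.lf 7406) (.lf 0)) (.nd (.lf 25600) (.lf 0))))) (.nd (.nd (.nd (.nd (.lf 0) (.lf 18760)) (.nd (.lf 0) (.lf 0))) (.nd (.nd (.lf 0) (.lf 26610)) (.nd (.lf 0) (.lf 0)))) (.nd (.nd (.nd (.lf 0) (.lf 17026)) (.nd (.lf 0) (.lf 0))) (.nd (.nd (.lf 27220) (.lf 0)) (.nd (.lf 0) (.lf 0))))))

/-- table part -/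
def jsT_25 : Tr :=
  .nd jsT_23 jsT_24

/-- table part -/
def jsT_26 : Tr :=
  .nd (.nd (.nd (.nd (.nd (.nd (.lf 0) (.lf 8026)) (.nd (.lf 0) (.lf 0))) (.nd (.nd (.lf 0) (.lf 0)) (.nd (.lf 7726) (.lf 0)))) (.nd (.nd (.nd (.lf 0) (.lf 12154)) (.nd (.lf 0) (.lf 0))) (.nd (.nd (.lf 0) (.lf 13268)) (.nd (.lf 5184) (.lf 0))))) (.nd (.nd (.nd (.nd (.lf 0) (.lf 8624)) (.nd (.lf 18720) (.lf 0))) (.nd (.nd (.lf 7454) (.lf 12804)) (.nd (.lf 0) (.lf 0)))) (.nd (.nd (.nd (.lf 0) (.lf 16144)) (.nd (.lf 0) (.lf 0))) (.nd (.nd (.lf 0) (.lf 0)) (.nd (.lf 10948) (.lf 0)))))) (.nd (.nd (.nd (.nd (.nd (.lf 0) (.lf 34660)) (.nd (.lf 11228) (.lf 0))) (.nd (.nd (.lf 10924) (.lf 35670)) (.nd (.lf 25510) (.lf 0)))) (.nd (.nd (.nd (.lf 0) (.lf 8406)) (.nd (.lf 19760) (.lf 0))) (.nd (.nd (.lf 0) (.lf 0)) (.nd (.lf 8966) (.lf 0))))) (.nd (.nd (.nd (.nd (.lf 14556) (.lf 35580))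 (.nd (.lf 0) (.lf 0))) (.nd (.nd (.lf 0) (.lf 34130)) (.nd (.lf 0) (.lf 0)))) (.nd (.nd (.nd (.lf 14464) (.lf 8856)) (.nd (.lf 11364) (.lf 0))) (.nd (.nd (.lf 0) (.lf 0)) (.nd (.lf 11584) (.lf 0))))))

/-- table part -/
def jsT_27 : Tr :=
  .nd (.nd (.nd (.nd (.nd (.nd (.lf 18160) (.lf 0)) (.nd (.lf 0) (.lf 0))) (.nd (.nd (.lf 0) (.lf 8656)) (.nd (.lf 11324) (.lf 0)))) (.nd (.nd (.nd (.lf 0) (.lf 0)) (.nd (.lf 0) (.lf 0))) (.nd (.nd (.lf 0) (.lf 35280)) (.nd (.lf 15434) (.lf 0))))) (.nd (.nd (.nd (.nd (.lf 0) (.lf 8654)) (.nd (.lf 0) (.lf 0))) (.nd (.nd (.lf 0) (.lf 13504)) (.nd (.lf 18590) (.lf 0)))) (.nd (.nd (.nd (.lf 0) (.lf 0)) (.nd (.lf 0) (.lf 0))) (.nd (.nd (.lf 19090) (.lf 0)) (.nd (.lf 0) (.lf 0)))))) (.nd (.nd (.nd (.nd (.nd (.lf 0) (.lf 23378)) (.nd (.lf 21698) (.lf 0))) (.nd (.nd (.lf 0) (.lf 8826)) (.nd (.lf 0) (.lf 0)))) (.nd (.nd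 (.nd (.lf 0) (.lf 35540)) (.nd (.lf 11544) (.lf 0))) (.nd (.nd (.lf 0) (.lf 0)) (.nd (.lf 11514) (.lf 0))))) (.nd (.nd (.nd (.nd (.lf 0) (.lf 8636)) (.nd (.lf 0) (.lf 0))) (.nd (.nd (.lf 0) (.lf 19020)) (.nd (.lf 0) (.lf 0)))) (.nd (.nd (.nd (.lf 0) (.lf 8706)) (.nd (.lf 8716) (.lf 0))) (.nd (.nd (.lf 0) (.lf 0)) (.nd (.lf 0) (.lf 0))))))

/-- table part -/
def jsT_28 : Tr :=
  .nd jsT_26 jsT_27

/-- table part -/
def jsT_29 : Tr :=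
  .nd jsT_25 jsT_28

/-- table part -/
def jsT_30 : Tr :=
  .nd jsT_22 jsT_29

/-- table part -/
def jsT_31 : Tr :=
  .nd jsT_15 jsT_30

/-- table -/
def jsT : Tr :=
  jsT_31

/-- relations -/
def rels : List (List (ℕ × Bool)) :=
  [[(0, true), (0, true), (0, true), (0, true), (0, true), (0, true), (0, true)],
   [(1, true), (1, true), (1, true), (1, true), (1, true)],
   [(1, false), (0, false), (1, false), (0, false), (1, false), (0, false)],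
   [(1, false), (0, true), (0, true), (1, false), (0, true), (0, true), (1, false), (0, true), (0, true)],
   [(0, false), (0, false), (0, false), (1, true), (0, true), (1, false), (0, true), (1, false), (0, true), (1, true)]]

/-- parameter edges -/
def pe : List ℕ := [108, 94]

/-- elimination -/
def fin : List (List (ℕ × ℕ × ℕ)) :=
  [[(0, 21, 7), (0, 0, 5)],
   [(0, 0, 4), (0, 21, 5), (0, 79, 5), (0, 38, 2)],
   [(0, 79, 5), (0, 0, 1), (0, 21, 7), (0, 38, 2)],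
   [(0, 38, 1), (0, 21, 5), (0, 0, 7)],
   [(0, 199, 1), (0, 0, 4), (0, 21, 5), (0, 38, 3), (0, 79, 2)]]

/-- the certificate -/
def cert : Cert :=
  ⟨8, 2, 360, 2, 5, rels, nxT, pvT, parT, fmT, rkT, jsT, pe, fin⟩

/-- the parameter left -/
def k0 : ℕ := 4

/-- multiples -/
def cs : List ℕ := [5, 0, 0, 4, 1]

/-- table part -/
def keyT_1 : Tr :=
  .nd (.nd (.nd (.nd (.nd (.nd (.lf 966602006329106089358517068373376352) (.lf 958164610565652621521661394073866592)) (.nd (.lf 967494291333080271347495190592364640) (.lf 0))) (.nd (.nd (.lf 974304941868966590695471752525619552) (.lf 967684483435946941449180326590070976)) (.nd (.lf 975554038240851082549082860215994528) (.lf 0)))) (.nd (.nd (.nd (.lf 979373707142341686965733824280118656) (.lf 973054362816187422305815335733141888)) (.nd (.lf 972625620901019362591090780202514784) (.lf 0))) (.nd (.nd (.lf 973943050427439306564754242567289952)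 (.lf 965868813798339420574187311011866976)) (.nd (.lf 973905628276590526462997158137383296) (.lf 0))))) (.nd (.nd (.nd (.nd (.lf 974209875480873863506383336779403456) (.lf 979165906938557856223904156831073504)) (.nd (.lf 977801916711101628988835194532675680) (.lf 0))) (.nd (.nd (.lf 980914717461493965876451256448366784) (.lf 961445347248796836623381020536088800)) (.nd (.lf 966624681917556312131689289020220576) (.lf 0)))) (.nd (.nd (.nd (.lf 976868789978591296655132645321285856) (.lf 958894539655864495117397398395211136)) (.nd (.lf 974962305360758649841805700838441056) (.lf 0))) (.nd (.nd (.lf 983385564325467743103793298923524192) (.lf 0)) (.nd (.lf 984607401222251478470457107709020256) (.lf 0)))))) (.nd (.nd (.nd (.nd (.nd (.lf 977878930909832861490154012845253984) (.lf 966338038007908257162024444737268096)) (.nd (.lf 979545489884778544855180452368208224)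 (.lf 0))) (.nd (.nd (.lf 979611644005502777405853585887318112) (.lf 974312973367637507490345086033957024)) (.nd (.lf 984358106668450481635214723064911072) (.lf 0)))) (.nd (.nd (.nd (.lf 975433392660410981284147716417770688) (.lf 975402210271638439599702783914386784)) (.nd (.lf 966346715733055394603068104461670592) (.lf 0))) (.nd (.nd (.lf 967945834932264219135473395471263904) (.lf 0)) (.nd (.lf 982733865469424386797029953639583936) (.lf 0))))) (.nd (.nd (.nd (.nd (.lf 982011739152067950624499013421044096) (.lf 975682266816684941837433259998712160)) (.nd (.lf 976543598296422889868606592326359264) (.lf 0))) (.nd (.nd (.lf 979578638701178315698508843090878656) (.lf 978070641550214253584979602880779648)) (.nd (.lf 981518616797320162028052594371379552) (.lf 0)))) (.nd (.nd (.nd (.lf 958354691337605690016776109551751552) (.lf 975566484988072420301594343307070848))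 (.nd (.lf 969030952473171933864874099858246016) (.lf 0))) (.nd (.nd (.lf 984115806095820823337628341968773344) (.lf 0)) (.nd (.lf 973168617262531563377490759361183104) (.lf 0))))))

/-- table part -/
def keyT_2 : Tr :=
  .nd (.nd (.nd (.nd (.nd (.nd (.lf 966584433799271912490073027202361568) (.lf 968472720591947022557818945836075360)) (.nd (.lf 972351958129251139460625875464471648) (.lf 0))) (.nd (.nd (.lf 980155225151265361560520246302058688) (.lf 974192739912474810247767766962579648)) (.nd (.lf 981730148837603798591697242557747392) (.lf 0)))) (.nd (.nd (.nd (.lf 980624260320863946151684354635651296) (.lf 983350904032977517134981269221128288)) (.nd (.lf 975641266433288131673923671029924960) (.lf 0))) (.nd (.nd (.lf 979415280943092394584637442973811936) (.lf 976317342548821134437008938300192128)) (.nd (.lf 961489421123821385179282265061182656) (.lf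 0))))) (.nd (.nd (.nd (.nd (.lf 977980136225267104038947864375973024) (.lf 968470745018560775301722298910975136)) (.nd (.lf 975600938802945827278466342600461536) (.lf 0))) (.nd (.nd (.lf 979378363566749496173664875470802112) (.lf 979535531111728159491014143251954848)) (.nd (.lf 973903179887491182309598929536564384) (.lf 0)))) (.nd (.nd (.nd (.lf 976852174380026334729598567585140896) (.lf 975029525677578335791718262108242144)) (.nd (.lf 980137918702370006181196748061455584) (.lf 0))) (.nd (.nd (.lf 975279762725172293502751645987377344) (.lf 0)) (.nd (.lf 958849821277413054237557767110967520) (.lf 0)))))) (.nd (.nd (.nd (.nd (.nd (.lf 979085924311545777307726961782605184) (.lf 966322625595980859313521026176075872)) (.nd (.lf 965957463146256167356451848382032032) (.lf 0))) (.nd (.nd (.lf 977069046884187250498977508052291744) (.lf 984123519937133786727863242988958816))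 (.nd (.lf 972935328382038320494573539620456640) (.lf 0)))) (.nd (.nd (.nd (.lf 975648168979011390262807925859988672) (.lf 980868125109889281368907498784131168)) (.nd (.lf 977990524961270849071022790701943008) (.lf 0))) (.nd (.nd (.lf 982824195346337591826972403273282944) (.lf 0)) (.nd (.lf 958524040301596833860572708969105504) (.lf 0))))) (.nd (.nd (.nd (.nd (.lf 978208704310994703408118648934709600) (.lf 972910010188327350516969999606943968)) (.nd (.lf 984329836494897437508035044664588672) (.lf 0))) (.nd (.nd (.lf 958851612609287497326210492396718272) (.lf 974176347481624031776261776792044896)) (.nd (.lf 967798772646152943371754562928031968) (.lf 0)))) (.nd (.nd (.nd (.lf 961204413451235921031036054705055968) (.lf 976243781296152211826138323050969184)) (.nd (.lf 982213098412340673282402144666947808) (.lf 0))) (.nd (.nd (.lf 961493355724004177487117410613010528)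 (.lf 0)) (.nd (.lf 980885906845558198177836022536125792) (.lf 0))))))

/-- table part -/
def keyT_3 : Tr :=
  .nd keyT_1 keyT_2

/-- table part -/
def keyT_4 : Tr :=
  .nd (.nd (.nd (.nd (.nd (.nd (.lf 981712498124104627837618240768687296) (.lf 983223542400319391810676186092554400)) (.nd (.lf 972933652512259240643874761073740960) (.lf 0))) (.nd (.nd (.lf 965941543155122902847931578050467040) (.lf 979418888077915000545602371843250272)) (.nd (.lf 979539656996614324471844837906358496) (.lf 0)))) (.nd (.nd (.nd (.lf 981752864922968960603273042068677728) (.lf 982989934668390126283607546084603072)) (.nd (.lf 969274301158923771708135926573282656) (.lf 0))) (.nd (.nd (.lf 977880459480482570918027823912374496) (.lf 980619669217120079027231289936952672)) (.nd (.lf 978931303613579661798974137594956896) (.lf 0))))) (.nd (.nd (.nd (.nd (.lf 975240908696820705715582745318741152)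 (.lf 984327217977294051695171719480627424)) (.nd (.lf 958809930095727326331278823271049312) (.lf 0))) (.nd (.nd (.lf 958608422028981408082976097192760416) (.lf 975195528680779855081260211603809504)) (.nd (.lf 958728641618672974713840916175934816) (.lf 0)))) (.nd (.nd (.nd (.lf 982816261567532771999479697827563872) (.lf 976723109354409939012672804386545856)) (.nd (.lf 961247186556480651235764177516875136) (.lf 0))) (.nd (.nd (.lf 981979529222189234343310048813781152) (.lf 0)) (.nd (.lf 961130762119514550873516737704626272) (.lf 0)))))) (.nd (.nd (.nd (.nd (.nd (.lf 958802177033213705380517817784417664) (.lf 984646954135555724769997089830850912)) (.nd (.lf 982039634534345103302188329416935776) (.lf 0))) (.nd (.nd (.lf 969071318675664695957778173893071200) (.lf 983215535465817443744281070151084416)) (.nd (.lf 961001747726670628760311615264572768) (.lf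 0)))) (.nd (.nd (.nd (.lf 984527559775139865051062246808168544) (.lf 973642403792340362100599823316204640)) (.nd (.lf 976326371845306902223540191704266976) (.lf 0))) (.nd (.nd (.lf 984635261567038466130218555876101344) (.lf 0)) (.nd (.lf 969096863911445940606263868342556864) (.lf 0))))) (.nd (.nd (.nd (.nd (.lf 980421673992632710196907320506792032) (.lf 975236014422288427945674223290335328)) (.nd (.lf 967808983142949992979383083795203168) (.lf 0))) (.nd (.nd (.lf 973938120402555408371154277260167552) (.lf 967694146519044132516820389640483936)) (.nd (.lf 980741442989593134452853988620915808) (.lf 0)))) (.nd (.nd (.nd (.lf 976747056395361412902319021683330400) (.lf 980626715666141563894233469490152608)) (.nd (.lf 982017551424421618200419517699872864) (.lf 0))) (.nd (.nd (.lf 978366960147355417974212607745560800) (.lf 0)) (.nd (.lf 976939754859799062136569437907990688)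 (.lf 0))))))

/-- table part -/
def keyT_5 : Tr :=
  .nd (.nd (.nd (.nd (.nd (.nd (.lf 983294133330522485159629171125012704) (.lf 974460142739951684471020207709855840)) (.nd (.lf 967395455455417286162521382629659840) (.lf 0))) (.nd (.nd (.lf 981973695845631697488874552804366720) (.lf 980438056336210974325471087132070080)) (.nd (.lf 975281711697334740452028158430134656) (.lf 0)))) (.nd (.nd (.nd (.lf 983174693432706504891328151064591712) (.lf 961008988016051347605390364069175488)) (.nd (.lf 961167610386581619321908318603282528) (.lf 0))) (.nd (.nd (.lf 968465473955699151891751807116064928) (.lf 975528463792091321188713521298495840)) (.nd (.lf 967927951299852043857666190289834336) (.lf 0))))) (.nd (.nd (.nd (.nd (.lf 976259881978159311900802779504134528) (.lf 979610319992366562133159375563601248)) (.nd (.lf 977056261566393012835396080834368608) (.lf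 0))) (.nd (.nd (.lf 969080245881974128212974755748623584) (.lf 982086365301059036991813305810080960)) (.nd (.lf 984673523123004706636492928239848608) (.lf 0)))) (.nd (.nd (.nd (.lf 974227856638534260239721311160555872) (.lf 978003429833361564208210096217629856)) (.nd (.lf 973661294733156214734879760058454176) (.lf 0))) (.nd (.nd (.lf 979538034093500520094455493810111712) (.lf 0)) (.nd (.lf 978042243711579795229033214910834784) (.lf 0)))))) (.nd (.nd (.nd (.nd (.nd (.lf 973015745129724260899844998315549056) (.lf 969039363654351887525991637701777568)) (.nd (.lf 983438832676850322833124995323971808) (.lf 0))) (.nd (.nd (.lf 972931331007180175333022266947713216) (.lf 960923143094740048422227130131202208)) (.nd (.lf 966397776904981514653511931392067808) (.lf 0)))) (.nd (.nd (.nd (.lf 967402582352403925786880436127091040) (.lf 966640809021861328128036317405856128))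 (.nd (.lf 961448935960809168612421228539795840) (.lf 0))) (.nd (.nd (.lf 980584092175748278513125365338296704) (.lf 0)) (.nd (.lf 968956730150537002568978649170986080) (.lf 0))))) (.nd (.nd (.nd (.nd (.lf 966595638565022783912584160084199616) (.lf 983337269475035694267147545030646112)) (.nd (.lf 982096357019745304101967784768114848) (.lf 0))) (.nd (.nd (.lf 980921124770747467430727871181836512) (.lf 980748925027854318172607096627122560)) (.nd (.lf 978285790621818748225104641584904576) (.lf 0)))) (.nd (.nd (.nd (.lf 978071615081239719644182101395652960) (.lf 982972503357991925096914364272904576)) (.nd (.lf 982247239325240322203525885176484032) (.lf 0))) (.nd (.nd (.lf 968951101647008384501857525026895232) (.lf 0)) (.nd (.lf 981768949583069075071215609154078880) (.lf 0))))))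

/-- table part -/
def keyT_6 : Tr :=
  .nd keyT_4 keyT_5

/-- table part -/
def keyT_7 : Tr :=
  .nd keyT_3 keyT_6

/-- table part -/
def keyT_8 : Tr :=
  .nd (.nd (.nd (.nd (.nd (.nd (.lf 974308172861032186929447868501973152) (.lf 974472274662336014615030766981293280)) (.nd (.lf 968706513222395512899273631901892704) (.lf 0))) (.nd (.nd (.lf 981727666721874296822894916179181792) (.lf 968992934981516641372034422297281920)) (.nd (.lf 972912034031675580469006847987407008) (.lf 0)))) (.nd (.nd (.nd (.lf 983053514041965416629124219818658016) (.lf 975438481787188690220812733183469920)) (.nd (.lf 973177278507608306102345498957848928) (.lf 0))) (.nd (.nd (.lf 980633639260453454654482561884326048) (.lf 984525299664138254088540162155068608)) (.nd (.lf 966561164403839391077015411083166080) (.lf 0))))) (.nd (.nd (.nd (.nd (.lf 974427269977374815993812747374970048)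 (.lf 983029232956416467287212872393865568)) (.nd (.lf 976542645273595796834442367082936416) (.lf 0))) (.nd (.nd (.lf 967172298156844208116009384473410784) (.lf 984041138880194745015501948662817152)) (.nd (.lf 973074650330805011200253764704451968) (.lf 0)))) (.nd (.nd (.nd (.lf 979524173112197897114798295223746720) (.lf 984277017182054776108797773267450016)) (.nd (.lf 975042081942613960084066910827754656) (.lf 0))) (.nd (.nd (.lf 978004186306580356399523766328273088) (.lf 0)) (.nd (.lf 969196753478407717821505144474482912) (.lf 0)))))) (.nd (.nd (.nd (.nd (.nd (.lf 965870276258874375509371334346987904) (.lf 979667778630007168222883779379770560)) (.nd (.lf 972889238564557989726020754802461792) (.lf 0))) (.nd (.nd (.lf 969233657535987495214533374774528096) (.lf 972990941615600000929996269420946528)) (.nd (.lf 981922919135573831242811929756322016) (.lf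 0)))) (.nd (.nd (.nd (.lf 978037148048134210934134554920801440) (.lf 961362746913578296386989573131314272)) (.nd (.lf 967849508285179841965171589491363936) (.lf 0))) (.nd (.nd (.lf 984714167110882304643822729451219328) (.lf 0)) (.nd (.lf 977800328518651011087453217820497280) (.lf 0))))) (.nd (.nd (.nd (.nd (.lf 978913119439820993127809524135282048) (.lf 980958197123369330208168677707501760)) (.nd (.lf 966554598182485236567713013396033632) (.lf 0))) (.nd (.nd (.lf 958166759853213313909401748024706240) (.lf 958688156470329051058857894334341216)) (.nd (.lf 977636872569303994383488581369910656) (.lf 0)))) (.nd (.nd (.nd (.lf 966682047714508642448972513798372448) (.lf 960998936256044948849091330045233344)) (.nd (.lf 978326434856678475569899222120749152) (.lf 0))) (.nd (.nd (.lf 969185571027010223163596417099075680) (.lf 0)) (.nd (.lf 973071794221793323213303686675964128)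 (.lf 0))))))

/-- table part -/
def keyT_9 : Tr :=
  .nd (.nd (.nd (.nd (.nd (.nd (.lf 961196862910391497068935776923010208) (.lf 967971004152070184193613533760705920)) (.nd (.lf 983033224000153333671697540808297632) (.lf 0))) (.nd (.nd (.lf 958895981819751893522137389386311904) (.lf 968464164952583400694344548620816576)) (.nd (.lf 978361983686403911637495874077106528) (.lf 0)))) (.nd (.nd (.nd (.lf 967414744459266611625137592441485504) (.lf 958160853517970507352943041738624352)) (.nd (.lf 967595354289521757820961861742741664) (.lf 0))) (.nd (.nd (.lf 973041599621743243430555417963799744) (.lf 967780889321590409498832082259293376)) (.nd (.lf 968455443941856624848864561906172096) (.lf 0))))) (.nd (.nd (.nd (.nd (.lf 980639654885018867026068266130057568) (.lf 977635383373373880373959008179325120)) (.nd (.lf 969111804741554870553573192869581184) (.lf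 0))) (.nd (.nd (.lf 981731590915657313844474019263493472) (.lf 976860009701481305561260433625761984)) (.nd (.lf 983375302744298038705783533644135616) (.lf 0)))) (.nd (.nd (.nd (.lf 984602148334379702071430062692029792) (.lf 958166013185564249936761138590365888)) (.nd (.lf 979164304483216030223368123839620480) (.lf 0))) (.nd (.nd (.lf 975515986444510790951638876884616384) (.lf 0)) (.nd (.lf 972363542417921731169759127629177184) (.lf 0)))))) (.nd (.nd (.nd (.nd (.nd (.lf 960960707270678852164558826876483968) (.lf 972666581824279377515803407875789920)) (.nd (.lf 958598198867476469147028473852970336) (.lf 0))) (.nd (.nd (.lf 972924554279200338411217703347115232) (.lf 976869389516335324151352080674830496)) (.nd (.lf 973744630651712942737580973779822784) (.lf 0)))) (.nd (.nd (.nd (.lf 967606198692610575858021995314728288) (.lf 980678132304861036778498613255029920))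 (.nd (.lf 969218122737670726721945080927859872) (.lf 0))) (.nd (.nd (.lf 961162564837944188520097451448945888) (.lf 0)) (.nd (.lf 980470282124177087621361173554155680) (.lf 0))))) (.nd (.nd (.nd (.nd (.lf 982249869210371570058970874298540192) (.lf 979450414083207836485470463623275712)) (.nd (.lf 983476474671570368382019426365656160) (.lf 0))) (.nd (.nd (.lf 979443201684975149411742395467499616) (.lf 981733795592566492720791119674430816)) (.nd (.lf 974110976840599543640910467012377824) (.lf 0)))) (.nd (.nd (.nd (.lf 983319877697194807247878243650742656) (.lf 974945367918332767339067738719377632)) (.nd (.lf 967982454513520007131998537505972384) (.lf 0))) (.nd (.nd (.lf 983465773881614775362278261417822368) (.lf 0)) (.nd (.lf 975610867542660011299767392934234496) (.lf 0))))))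

/-- table part -/
def keyT_10 : Tr :=
  .nd keyT_8 keyT_9

/-- table part -/
def keyT_11 : Tr :=
  .nd (.nd (.nd (.nd (.nd (.nd (.lf 974302966640107453703995526898427104) (.lf 966437906009868688258457763294924896)) (.nd (.lf 982729272830351996372735905769923808) (.lf 0))) (.nd (.nd (.lf 976777535662623351688698188850898112) (.lf 983076290848766265274526327246136416)) (.nd (.lf 967407185983025397357548542614520160) (.lf 0)))) (.nd (.nd (.nd (.lf 976867480426607958891583851058091200) (.lf 958169642865655136931543267055711392)) (.nd (.lf 984775732313669356850747012723818688) (.lf 0))) (.nd (.nd (.lf 973730094242349083474654836917751904) (.lf 974297566476078834066154493590079840)) (.nd (.lf 967159747886881804551167157564789120) (.lf 0))))) (.nd (.nd (.nd (.nd (.lf 973132825845456302699989096662933664) (.lf 966434778733939663965115716200671392)) (.nd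 (.lf 980680694527634041906372256255367264) (.lf 0))) (.nd (.nd (.lf 981931881514394869261122883683393920) (.lf 977989393442969843049161225372096704)) (.nd (.lf 976499831041325684329217610942368864) (.lf 0)))) (.nd (.nd (.nd (.lf 979521750255607727594338512763345248) (.lf 966581228988897336817940187622624608)) (.nd (.lf 979097451414394406432164204367987040) (.lf 0))) (.nd (.nd (.lf 972891746946611528328503833522442464) (.lf 0)) (.nd (.lf 976787422623083827355332062919821664) (.lf 0)))))) (.nd (.nd (.nd (.nd (.nd (.lf 984689005900057063581927057026892992) (.lf 958754942102599213134864424757148864)) (.nd (.lf 960997703194007665262557689168481440) (.lf 0))) (.nd (.nd (.lf 961249927083720716951420865204336992) (.lf 979577698461533068737994945145650336)) (.nd (.lf 981722764156548371674659132861155552) (.lf 0)))) (.nd (.nd (.nd (.lf 961123322911051582830692057422682496)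 (.lf 968711511406530912102230213615723712)) (.nd (.lf 983179840896195439326671024614852768) (.lf 0))) (.nd (.nd (.lf 975190558309206321791418935885938848) (.lf 0)) (.nd (.lf 975693025509361148864224574884200832) (.lf 0))))) (.nd (.nd (.nd (.nd (.lf 984772517194799659504767558340525216) (.lf 973112715756124226297847141973935456)) (.nd (.lf 968466665628953589326417281570485600) (.lf 0))) (.nd (.nd (.lf 972684964028568595523854150625429696) (.lf 982050363538247189538544944691717504)) (.nd (.lf 984733341608884956227080237253792096) (.lf 0)))) (.nd (.nd (.nd (.lf 975409309431019350760264967070787680) (.lf 961000344871018248958476772921524384)) (.nd (.lf 967853160834509048555538972557912224) (.lf 0))) (.nd (.nd (.lf 969278983768676797561183440690252000) (.lf 0)) (.nd (.lf 984494395128725949180921940208372096) (.lf 0))))))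

/-- table part -/
def keyT_12 : Tr :=
  .nd (.nd (.nd (.nd (.nd (.nd (.lf 980468742213796122872247489520510336) (.lf 978281875193975525144401512217597088)) (.nd (.lf 976864636503578166874514343039555808) (.lf 0))) (.nd (.nd (.lf 979664843256569805267925298440243360) (.lf 974311593143071120243826228473281760)) (.nd (.lf 981533711724367355661852506573878368) (.lf 0)))) (.nd (.nd (.nd (.lf 980591500781463372739189716086576480) (.lf 958769246741525990272054565879888096)) (.nd (.lf 982201933186921574301756329105276000) (.lf 0))) (.nd (.nd (.lf 958153060543987043900450821236793504) (.lf 966600481970363759470089989976872160)) (.nd (.lf 980948699960497611136037169945486720) (.lf 0))))) (.nd (.nd (.nd (.nd (.lf 958674050393824023625894246247092384) (.lf 967413399518397859023581514620585184)) (.nd (.lf 968999825788581924874123758590637280) (.lf 0))) (.nd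 (.nd (.lf 978322598297967147432838137000599744) (.lf 966597157096739858047146228650854592)) (.nd (.lf 978183118728263833776715944716243040) (.lf 0)))) (.nd (.nd (.nd (.lf 983434999922604460928096317800175808) (.lf 980641355606696024548897955411834080)) (.nd (.lf 958362454001405808097963922724107424) (.lf 0))) (.nd (.nd (.lf 984356143878254817533982565422109024) (.lf 0)) (.nd (.lf 958734825318971787967399621939990912) (.lf 0)))))) (.nd (.nd (.nd (.nd (.nd (.lf 967783377392466362580731596591124864) (.lf 978005681890480100743303135186079968)) (.nd (.lf 960920419782603679361785089282460896) (.lf 0))) (.nd (.nd (.lf 958534686766058870465142377360507104) (.lf 977028086056996227766019664456694144)) (.nd (.lf 961366513486381374813529310164470112) (.lf 0)))) (.nd (.nd (.nd (.lf 984291808784775406739390301684806752) (.lf 961005232568982629078354934288786784))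 (.nd (.lf 976950038878626440061192351561856384) (.lf 0))) (.nd (.nd (.lf 974419815720228225730802748357787008) (.lf 0)) (.nd (.lf 960953276265994535417870691533737152) (.lf 0))))) (.nd (.nd (.nd (.nd (.lf 966685679406253486640305523081259360) (.lf 972644319938167292133649540911782048)) (.nd (.lf 966320794818040055914317719147695296) (.lf 0))) (.nd (.nd (.lf 984032100736784486808210649673778336) (.lf 977032084351862818333316378392929632)) (.nd (.lf 967476664442673588040738824971996544) (.lf 0)))) (.nd (.nd (.nd (.lf 967410271699687234699424292194860256) (.lf 976494806865309955799915059618154848)) (.nd (.lf 966396751121741805140566451534472352) (.lf 0))) (.nd (.nd (.lf 974094583645689181950953437023750528) (.lf 0)) (.nd (.lf 984473359514808122524869736105656512) (.lf 0))))))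

/-- table part -/
def keyT_13 : Tr :=
  .nd keyT_11 keyT_12

/-- table part -/
def keyT_14 : Tr :=
  .nd keyT_10 keyT_13

/-- table part -/
def keyT_15 : Tr :=
  .nd keyT_7 keyT_14

/-- table -/
def keyT : Tr :=
  keyT_15

/-- table part -/
def posT_1 : Tr :=
  .nd (.nd (.nd (.nd (.nd (.nd (.lf 67) (.lf 2)) (.nd (.lf 81) (.lf 0))) (.nd (.nd (.lf 160) (.lf 84)) (.nd (.lf 184) (.lf 0)))) (.nd (.nd (.nd (.lf 246) (.lf 137)) (.nd (.lf 122) (.lf 0))) (.nd (.nd (.lf 151) (.lf 48)) (.nd (.lf 149) (.lf 0))))) (.nd (.nd (.nd (.nd (.lf 156) (.lf 245)) (.nd (.lf 219) (.lf 0))) (.nd (.nd (.lf 284) (.lf 44)) (.nd (.lf 68) (.lf 0)))) (.nd (.nd (.nd (.lf 208) (.lf 22)) (.nd (.lf 169) (.lf 0))) (.nd (.nd (.lf 331) (.lf 0)) (.nd (.lf 351) (.lf 0)))))) (.nd (.nd (.nd (.nd (.nd (.lf 220) (.lf 54)) (.nd (.lf 257) (.lf 0))) (.nd (.nd (.lf 261) (.lf 163)) (.nd (.lf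 345) (.lf 0)))) (.nd (.nd (.nd (.lf 180) (.lf 178)) (.nd (.lf 55) (.lf 0))) (.nd (.nd (.lf 93) (.lf 0)) (.nd (.lf 313) (.lf 0))))) (.nd (.nd (.nd (.nd (.lf 302) (.lf 190)) (.nd (.lf 199) (.lf 0))) (.nd (.nd (.lf 259) (.lf 230)) (.nd (.lf 288) (.lf 0)))) (.nd (.nd (.nd (.lf 6) (.lf 185)) (.nd (.lf 108) (.lf 0))) (.nd (.nd (.lf 338) (.lf 0)) (.nd (.lf 142) (.lf 0))))))

/-- table part -/
def posT_2 : Tr :=
  .nd (.nd (.nd (.nd (.nd (.nd (.lf 63) (.lf 101)) (.nd (.lf 120) (.lf 0))) (.nd (.nd (.lf 265) (.lf 155)) (.nd (.lf 293) (.lf 0)))) (.nd (.nd (.nd (.lf 273) (.lf 329)) (.nd (.lf 188) (.lf 0))) (.nd (.nd (.lf 248) (.lf 194)) (.nd (.lf 46) (.lf 0))))) (.nd (.nd (.nd (.nd (.lf 222) (.lf 100)) (.nd (.lf 186) (.lf 0))) (.nd (.nd (.lf 247) (.lf 254)) (.nd (.lf 148) (.lf 0)))) (.nd (.nd (.nd (.lf 204) (.lf 170)) (.nd (.lf 264) (.lf 0))) (.nd (.nd (.lf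 176) (.lf 0)) (.nd (.lf 20) (.lf 0)))))) (.nd (.nd (.nd (.nd (.nd (.lf 242) (.lf 53)) (.nd (.lf 51) (.lf 0))) (.nd (.nd (.lf 215) (.lf 339)) (.nd (.lf 133) (.lf 0)))) (.nd (.nd (.nd (.lf 189) (.lf 282)) (.nd (.lf 224) (.lf 0))) (.nd (.nd (.lf 315) (.lf 0)) (.nd (.lf 8) (.lf 0))))) (.nd (.nd (.nd (.nd (.lf 233) (.lf 128)) (.nd (.lf 343) (.lf 0))) (.nd (.nd (.lf 21) (.lf 154)) (.nd (.lf 88) (.lf 0)))) (.nd (.nd (.nd (.lf 39) (.lf 192)) (.nd (.lf 309) (.lf 0))) (.nd (.nd (.lf 47) (.lf 0)) (.nd (.lf 283) (.lf 0))))))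

/-- table part -/
def posT_3 : Tr :=
  .nd posT_1 posT_2

/-- table part -/
def posT_4 : Tr :=
  .nd (.nd (.nd (.nd (.nd (.nd (.lf 290) (.lf 325)) (.nd (.lf 132) (.lf 0))) (.nd (.nd (.lf 50) (.lf 249)) (.nd (.lf 256) (.lf 0)))) (.nd (.nd (.nd (.lf 296) (.lf 317)) (.nd (.lf 118) (.lf 0))) (.nd (.nd (.lf 221) (.lf 272)) (.nd (.lf 241) (.lf 0))))) (.nd (.nd (.nd (.nd (.lf 175) (.lf 342)) (.nd (.lf 19) (.lf 0))) (.nd (.nd (.lf 11) (.lf 173)) (.nd (.lf 14) (.lf 0)))) (.nd (.nd (.nd (.lf 314) (.lf 200)) (.nd (.lf 40) (.lf 0))) (.nd (.nd (.lf 301) (.lf 0)) (.nd (.lf 35) (.lf 0)))))) (.nd (.nd (.nd (.nd (.nd (.lf 18) (.lf 353)) (.nd (.lf 304) (.lf 0))) (.nd (.nd (.lf 110) (.lf 324)) (.nd (.lf 31) (.lf 0)))) (.nd (.nd (.nd (.lf 349) (.lf 144)) (.nd (.lf 195) (.lf 0))) (.nd (.nd (.lf 352) (.lf 0)) (.nd (.lf 112) (.lf 0))))) (.nd (.nd (.nd (.nd (.lf 266)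 (.lf 174)) (.nd (.lf 89) (.lf 0))) (.nd (.nd (.lf 150) (.lf 85)) (.nd (.lf 280) (.lf 0)))) (.nd (.nd (.nd (.lf 201) (.lf 274)) (.nd (.lf 303) (.lf 0))) (.nd (.nd (.lf 239) (.lf 0)) (.nd (.lf 210) (.lf 0))))))

/-- table part -/
def posT_5 : Tr :=
  .nd (.nd (.nd (.nd (.nd (.nd (.lf 326) (.lf 166)) (.nd (.lf 74) (.lf 0))) (.nd (.nd (.lf 300) (.lf 267)) (.nd (.lf 177) (.lf 0)))) (.nd (.nd (.nd (.lf 322) (.lf 33)) (.nd (.lf 37) (.lf 0))) (.nd (.nd (.lf 98) (.lf 183)) (.nd (.lf 92) (.lf 0))))) (.nd (.nd (.nd (.nd (.lf 193) (.lf 260)) (.nd (.lf 214) (.lf 0))) (.nd (.nd (.lf 111) (.lf 306)) (.nd (.lf 354) (.lf 0)))) (.nd (.nd (.nd (.lf 157) (.lf 225)) (.nd (.lf 145) (.lf 0))) (.nd (.nd (.lf 255) (.lf 0)) (.nd (.lf 229) (.lf 0)))))) (.nd (.nd (.nd (.nd (.nd (.lf 135) (.lf 109)) (.nd (.lf 333) (.lf 0))) (.nd (.nd (.lf 131) (.lf 25)) (.nd (.lf 57) (.lf 0))))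 (.nd (.nd (.nd (.lf 75) (.lf 69)) (.nd (.lf 45) (.lf 0))) (.nd (.nd (.lf 270) (.lf 0)) (.nd (.lf 105) (.lf 0))))) (.nd (.nd (.nd (.nd (.lf 64) (.lf 328)) (.nd (.lf 307) (.lf 0))) (.nd (.nd (.lf 285) (.lf 281)) (.nd (.lf 235) (.lf 0)))) (.nd (.nd (.nd (.lf 231) (.lf 316)) (.nd (.lf 310) (.lf 0))) (.nd (.nd (.lf 104) (.lf 0)) (.nd (.lf 297) (.lf 0))))))

/-- table part -/
def posT_6 : Tr :=
  .nd posT_4 posT_5

/-- table part -/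
def posT_7 : Tr :=
  .nd posT_3 posT_6

/-- table part -/
def posT_8 : Tr :=
  .nd (.nd (.nd (.nd (.nd (.nd (.lf 161) (.lf 167)) (.nd (.lf 102) (.lf 0))) (.nd (.nd (.lf 292) (.lf 106)) (.nd (.lf 129) (.lf 0)))) (.nd (.nd (.nd (.lf 320) (.lf 181)) (.nd (.lf 143) (.lf 0))) (.nd (.nd (.lf 275) (.lf 348)) (.nd (.lf 61) (.lf 0))))) (.nd (.nd (.nd (.nd (.lf 165) (.lf 318)) (.nd (.lf 198) (.lf 0))) (.nd (.nd (.lf 73) (.lf 337)) (.nd (.lf 139) (.lf 0)))) (.nd (.nd (.nd (.lf 253) (.lf 340)) (.nd (.lf 171) (.lf 0))) (.nd (.nd (.lf 226) (.lf 0)) (.nd (.lf 115) (.lf 0)))))) (.nd (.nd (.nd (.nd (.nd (.lf 49) (.lf 263)) (.nd (.lf 126) (.lf 0))) (.nd (.nd (.lf 117) (.lf 134)) (.nd (.lf 298) (.lf 0)))) (.nd (.nd (.nd (.lf 228) (.lf 42)) (.nd (.lf 90) (.lf 0))) (.nd (.nd (.lf 356) (.lf 0)) (.nd (.lf 218) (.lf 0))))) (.nd (.nd (.nd (.nd (.lf 240) (.lf 287)) (.nd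 (.lf 60) (.lf 0))) (.nd (.nd (.lf 4) (.lf 13)) (.nd (.lf 217) (.lf 0)))) (.nd (.nd (.nd (.lf 70) (.lf 29)) (.nd (.lf 237) (.lf 0))) (.nd (.nd (.lf 114) (.lf 0)) (.nd (.lf 138) (.lf 0))))))

/-- table part -/
def posT_9 : Tr :=
  .nd (.nd (.nd (.nd (.nd (.nd (.lf 38) (.lf 94)) (.nd (.lf 319) (.lf 0))) (.nd (.nd (.lf 23) (.lf 97)) (.nd (.lf 238) (.lf 0)))) (.nd (.nd (.nd (.lf 79) (.lf 1)) (.nd (.lf 82) (.lf 0))) (.nd (.nd (.lf 136) (.lf 86)) (.nd (.lf 96) (.lf 0))))) (.nd (.nd (.nd (.nd (.lf 276) (.lf 216)) (.nd (.lf 113) (.lf 0))) (.nd (.nd (.lf 294) (.lf 205)) (.nd (.lf 330) (.lf 0)))) (.nd (.nd (.nd (.lf 350) (.lf 3)) (.nd (.lf 244) (.lf 0))) (.nd (.nd (.lf 182) (.lf 0)) (.nd (.lf 121) (.lf 0)))))) (.nd (.nd (.nd (.nd (.nd (.lf 27) (.lf 124)) (.nd (.lf 10) (.lf 0))) (.nd (.nd (.lf 130) (.lf 209)) (.nd (.lf 147) (.lf 0)))) (.nd (.nd (.nd (.lf 83)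 (.lf 278)) (.nd (.lf 116) (.lf 0))) (.nd (.nd (.lf 36) (.lf 0)) (.nd (.lf 269) (.lf 0))))) (.nd (.nd (.nd (.nd (.lf 311) (.lf 251)) (.nd (.lf 335) (.lf 0))) (.nd (.nd (.lf 250) (.lf 295)) (.nd (.lf 153) (.lf 0)))) (.nd (.nd (.nd (.lf 327) (.lf 168)) (.nd (.lf 95) (.lf 0))) (.nd (.nd (.lf 334) (.lf 0)) (.nd (.lf 187) (.lf 0))))))

/-- table part -/
def posT_10 : Tr :=
  .nd posT_8 posT_9

/-- table part -/
def posT_11 : Tr :=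
  .nd (.nd (.nd (.nd (.nd (.nd (.lf 159) (.lf 59)) (.nd (.lf 312) (.lf 0))) (.nd (.nd (.lf 202) (.lf 321)) (.nd (.lf 76) (.lf 0)))) (.nd (.nd (.nd (.lf 207) (.lf 5)) (.nd (.lf 359) (.lf 0))) (.nd (.nd (.lf 146) (.lf 158)) (.nd (.lf 72) (.lf 0))))) (.nd (.nd (.nd (.nd (.lf 141) (.lf 58)) (.nd (.lf 279) (.lf 0))) (.nd (.nd (.lf 299) (.lf 223)) (.nd (.lf 197) (.lf 0)))) (.nd (.nd (.nd (.lf 252) (.lf 62)) (.nd (.lf 243) (.lf 0))) (.nd (.nd (.lf 127) (.lf 0)) (.nd (.lf 203) (.lf 0)))))) (.nd (.nd (.nd (.nd (.nd (.lf 355) (.lf 16)) (.nd (.lf 28) (.lf 0))) (.nd (.nd (.lf 41) (.lf 258)) (.nd (.lf 291) (.lf 0)))) (.nd (.nd (.nd (.lf 34) (.lf 103)) (.nd (.lf 323) (.lf 0))) (.nd (.nd (.lf 172) (.lf 0)) (.nd (.lf 191) (.lf 0))))) (.nd (.nd (.nd (.nd (.lf 358) (.lf 140)) (.nd (.lf 99) (.lf 0))) (.nd (.nd (.lf 125) (.lf 305)) (.nd (.lf 357) (.lf 0)))) (.nd (.nd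 (.nd (.lf 179) (.lf 30)) (.nd (.lf 91) (.lf 0))) (.nd (.nd (.lf 119) (.lf 0)) (.nd (.lf 347) (.lf 0))))))

/-- table part -/
def posT_12 : Tr :=
  .nd (.nd (.nd (.nd (.nd (.nd (.lf 268) (.lf 234)) (.nd (.lf 206) (.lf 0))) (.nd (.nd (.lf 262) (.lf 162)) (.nd (.lf 289) (.lf 0)))) (.nd (.nd (.nd (.lf 271) (.lf 17)) (.nd (.lf 308) (.lf 0))) (.nd (.nd (.lf 0) (.lf 66)) (.nd (.lf 286) (.lf 0))))) (.nd (.nd (.nd (.nd (.lf 12) (.lf 78)) (.nd (.lf 107) (.lf 0))) (.nd (.nd (.lf 236) (.lf 65)) (.nd (.lf 232) (.lf 0)))) (.nd (.nd (.nd (.lf 332) (.lf 277)) (.nd (.lf 7) (.lf 0))) (.nd (.nd (.lf 344) (.lf 0)) (.nd (.lf 15) (.lf 0)))))) (.nd (.nd (.nd (.nd (.nd (.lf 87) (.lf 227)) (.nd (.lf 24) (.lf 0))) (.nd (.nd (.lf 9) (.lf 212)) (.nd (.lf 43) (.lf 0)))) (.nd (.nd (.nd (.lf 341) (.lf 32)) (.nd (.lf 211) (.lf 0))) (.nd (.nd (.lf 164) (.lf 0)) (.nd (.lf 26) (.lf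 0))))) (.nd (.nd (.nd (.nd (.lf 71) (.lf 123)) (.nd (.lf 52) (.lf 0))) (.nd (.nd (.lf 336) (.lf 213)) (.nd (.lf 80) (.lf 0)))) (.nd (.nd (.nd (.lf 77) (.lf 196)) (.nd (.lf 56) (.lf 0))) (.nd (.nd (.lf 152) (.lf 0)) (.nd (.lf 346) (.lf 0))))))

/-- table part -/
def posT_13 : Tr :=
  .nd posT_11 posT_12

/-- table part -/
def posT_14 : Tr :=
  .nd posT_10 posT_13

/-- table part -/
def posT_15 : Tr :=
  .nd posT_7 posT_14

/-- table -/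
def posT : Tr :=
  posT_15

/-- table part -/
def srtT_1 : Tr :=
  .nd (.nd (.nd (.nd (.nd (.nd (.lf 103) (.lf 194)) (.nd (.lf 284) (.lf 0))) (.nd (.nd (.lf 30) (.lf 33)) (.nd (.lf 316) (.lf 0)))) (.nd (.nd (.nd (.lf 303) (.lf 216)) (.nd (.lf 64) (.lf 0))) (.nd (.nd (.lf 229) (.lf 106)) (.nd (.lf 172) (.lf 0))))) (.nd (.nd (.nd (.nd (.lf 267) (.lf 354)) (.nd (.lf 298) (.lf 0))) (.nd (.nd (.lf 223) (.lf 95)) (.nd (.lf 48) (.lf 0)))) (.nd (.nd (.nd (.lf 352) (.lf 138)) (.nd (.lf 116) (.lf 0))) (.nd (.nd (.lf 234) (.lf 0)) (.nd (.lf 25) (.lf 0)))))) (.nd (.nd (.nd (.nd (.nd (.lf 236) (.lf 180)) (.nd (.lf 101) (.lf 0))) (.nd (.nd (.lf 227) (.lf 286)) (.nd (.lf 306) (.lf 0)))) (.nd (.nd (.nd (.lf 178) (.lf 34)) (.nd (.lf 317) (.lf 0))) (.nd (.nd (.lf 126) (.lf 0)) (.nd (.lf 215) (.lf 0))))) (.nd (.nd (.nd (.nd (.lf 143) (.lf 218)) (.nd (.lf 127) (.lf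 0))) (.nd (.nd (.lf 220) (.lf 119)) (.nd (.lf 277) (.lf 0)))) (.nd (.nd (.nd (.lf 191) (.lf 131)) (.nd (.lf 192) (.lf 0))) (.nd (.nd (.lf 132) (.lf 0)) (.nd (.lf 100) (.lf 0))))))

/-- table part -/
def srtT_2 : Tr :=
  .nd (.nd (.nd (.nd (.nd (.nd (.lf 89) (.lf 278)) (.nd (.lf 130) (.lf 0))) (.nd (.nd (.lf 208) (.lf 330)) (.nd (.lf 319) (.lf 0)))) (.nd (.nd (.nd (.lf 109) (.lf 65)) (.nd (.lf 111) (.lf 0))) (.nd (.nd (.lf 276) (.lf 105)) (.nd (.lf 41) (.lf 0))))) (.nd (.nd (.nd (.nd (.lf 244) (.lf 21)) (.nd (.lf 212) (.lf 0))) (.nd (.nd (.lf 320) (.lf 305)) (.nd (.lf 335) (.lf 0)))) (.nd (.nd (.nd (.lf 159) (.lf 167)) (.nd (.lf 40) (.lf 0))) (.nd (.nd (.lf 173) (.lf 0)) (.nd (.lf 181) (.lf 0)))))) (.nd (.nd (.nd (.nd (.nd (.lf 23) (.lf 7)) (.nd (.lf 283) (.lf 0))) (.nd (.nd (.lf 195) (.lf 55)) (.nd (.lf 52) (.lf 0)))) (.nd (.nd (.nd (.lf 336) (.lf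 70)) (.nd (.lf 107) (.lf 0))) (.nd (.nd (.lf 184) (.lf 0)) (.nd (.lf 87) (.lf 0))))) (.nd (.nd (.nd (.nd (.lf 139) (.lf 80)) (.nd (.lf 16) (.lf 0))) (.nd (.nd (.lf 230) (.lf 353)) (.nd (.lf 8) (.lf 0)))) (.nd (.nd (.nd (.lf 153) (.lf 318)) (.nd (.lf 164) (.lf 0))) (.nd (.nd (.lf 269) (.lf 0)) (.nd (.lf 51) (.lf 0))))))

/-- table part -/
def srtT_3 : Tr :=
  .nd srtT_1 srtT_2

/-- table part -/
def srtT_4 : Tr :=
  .nd (.nd (.nd (.nd (.nd (.nd (.lf 256) (.lf 331)) (.nd (.lf 77) (.lf 0))) (.nd (.nd (.lf 359) (.lf 38)) (.nd (.lf 356) (.lf 0)))) (.nd (.nd (.nd (.lf 43) (.lf 2)) (.nd (.lf 327) (.lf 0))) (.nd (.nd (.lf 102) (.lf 214)) (.nd (.lf 113) (.lf 0))))) (.nd (.nd (.nd (.nd (.lf 10) (.lf 314)) (.nd (.lf 99) (.lf 0))) (.nd (.nd (.lf 165) (.lf 120)) (.nd (.lf 250) (.lf 0)))) (.nd (.nd (.nd (.lf 66) (.lf 342)) (.nd (.lf 296) (.lf 0))) (.nd (.nd (.lf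 121) (.lf 0)) (.nd (.lf 12) (.lf 0)))))) (.nd (.nd (.nd (.nd (.nd (.lf 141) (.lf 26)) (.nd (.lf 249) (.lf 0))) (.nd (.nd (.lf 134) (.lf 213)) (.nd (.lf 67) (.lf 0)))) (.nd (.nd (.nd (.lf 297) (.lf 201)) (.nd (.lf 308) (.lf 0))) (.nd (.nd (.lf 321) (.lf 0)) (.nd (.lf 263) (.lf 0))))) (.nd (.nd (.nd (.nd (.lf 239) (.lf 300)) (.nd (.lf 348) (.lf 0))) (.nd (.nd (.lf 169) (.lf 255)) (.nd (.lf 233) (.lf 0)))) (.nd (.nd (.nd (.lf 275) (.lf 50)) (.nd (.lf 148) (.lf 0))) (.nd (.nd (.lf 160) (.lf 0)) (.nd (.lf 93) (.lf 0))))))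

/-- table part -/
def srtT_5 : Tr :=
  .nd (.nd (.nd (.nd (.nd (.nd (.lf 56) (.lf 71)) (.nd (.lf 329) (.lf 0))) (.nd (.nd (.lf 57) (.lf 6)) (.nd (.lf 145) (.lf 0)))) (.nd (.nd (.nd (.lf 5) (.lf 85)) (.nd (.lf 262) (.lf 0))) (.nd (.nd (.lf 129) (.lf 27)) (.nd (.lf 344) (.lf 0))))) (.nd (.nd (.nd (.nd (.lf 304) (.lf 301)) (.nd (.lf 90) (.lf 0))) (.nd (.nd (.lf 357) (.lf 274)) (.nd (.lf 150) (.lf 0)))) (.nd (.nd (.nd (.lf 264) (.lf 190)) (.nd (.lf 117) (.lf 0))) (.nd (.nd (.lf 162) (.lf 0)) (.nd (.lf 32) (.lf 0)))))) (.nd (.nd (.nd (.nd (.nd (.lf 210) (.lf 110)) (.nd (.lf 248) (.lf 0))) (.nd (.nd (.lf 279) (.lf 125)) (.nd (.lf 135) (.lf 0)))) (.nd (.nd (.nd (.lf 228) (.lf 24)) (.nd (.lf 282) (.lf 0))) (.nd (.nd (.lf 74) (.lf 0)) (.nd (.lf 197) (.lf 0))))) (.nd (.nd (.nd (.nd (.lf 315) (.lf 231)) (.nd (.lf 355) (.lf 0))) (.nd (.nd (.lf 261) (.lf 53))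 (.nd (.lf 20) (.lf 0)))) (.nd (.nd (.nd (.lf 307) (.lf 273)) (.nd (.lf 280) (.lf 0))) (.nd (.nd (.lf 137) (.lf 0)) (.nd (.lf 340) (.lf 0))))))

/-- table part -/
def srtT_6 : Tr :=
  .nd srtT_4 srtT_5

/-- table part -/
def srtT_7 : Tr :=
  .nd srtT_3 srtT_6

/-- table part -/
def srtT_8 : Tr :=
  .nd (.nd (.nd (.nd (.nd (.nd (.lf 293) (.lf 136)) (.nd (.lf 193) (.lf 0))) (.nd (.nd (.lf 343) (.lf 323)) (.nd (.lf 22) (.lf 0)))) (.nd (.nd (.nd (.lf 294) (.lf 199)) (.nd (.lf 1) (.lf 0))) (.nd (.nd (.lf 325) (.lf 266)) (.nd (.lf 310) (.lf 0))))) (.nd (.nd (.nd (.nd (.lf 295) (.lf 36)) (.nd (.lf 182) (.lf 0))) (.nd (.nd (.lf 128) (.lf 337)) (.nd (.lf 333) (.lf 0)))) (.nd (.nd (.nd (.lf 9) (.lf 347)) (.nd (.lf 198) (.lf 0))) (.nd (.nd (.lf 149) (.lf 0)) (.nd (.lf 226) (.lf 0)))))) (.nd (.nd (.nd (.nd (.nd (.lf 79) (.lf 68)) (.nd (.lf 288) (.lf 0))) (.nd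 (.nd (.lf 81) (.lf 292)) (.nd (.lf 58) (.lf 0)))) (.nd (.nd (.nd (.lf 75) (.lf 254)) (.nd (.lf 176) (.lf 0))) (.nd (.nd (.lf 238) (.lf 0)) (.nd (.lf 28) (.lf 0))))) (.nd (.nd (.nd (.nd (.lf 334) (.lf 350)) (.nd (.lf 221) (.lf 0))) (.nd (.nd (.lf 154) (.lf 200)) (.nd (.lf 217) (.lf 0)))) (.nd (.nd (.nd (.lf 206) (.lf 232)) (.nd (.lf 312) (.lf 0))) (.nd (.nd (.lf 245) (.lf 0)) (.nd (.lf 322) (.lf 0))))))

/-- table part -/
def srtT_9 : Tr :=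
  .nd (.nd (.nd (.nd (.nd (.nd (.lf 291) (.lf 72)) (.nd (.lf 204) (.lf 0))) (.nd (.nd (.lf 302) (.lf 258)) (.nd (.lf 211) (.lf 0)))) (.nd (.nd (.nd (.lf 166) (.lf 196)) (.nd (.lf 17) (.lf 0))) (.nd (.nd (.lf 260) (.lf 219)) (.nd (.lf 246) (.lf 0))))) (.nd (.nd (.nd (.nd (.lf 92) (.lf 311)) (.nd (.lf 224) (.lf 0))) (.nd (.nd (.lf 346) (.lf 47)) (.nd (.lf 351) (.lf 0)))) (.nd (.nd (.nd (.lf 268) (.lf 188)) (.nd (.lf 289) (.lf 0))) (.nd (.nd (.lf 73) (.lf 0)) (.nd (.lf 272) (.lf 0)))))) (.nd (.nd (.nd (.nd (.nd (.lf 345) (.lf 237)) (.nd (.lf 19) (.lf 0))) (.nd (.nd (.lf 63) (.lf 142)) (.nd (.lf 341) (.lf 0)))) (.nd (.nd (.nd (.lf 174) (.lf 114)) (.nd (.lf 338) (.lf 0))) (.nd (.nd (.lf 270) (.lf 0)) (.nd (.lf 185) (.lf 0))))) (.nd (.nd (.nd (.nd (.lf 313) (.lf 94)) (.nd (.lf 54) (.lf 0))) (.nd (.nd (.lf 104) (.lf 42)) (.nd (.lf 98) (.lf 0)))) (.nd (.nd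 (.nd (.lf 225) (.lf 290)) (.nd (.lf 44) (.lf 0))) (.nd (.nd (.lf 91) (.lf 0)) (.nd (.lf 49) (.lf 0))))))

/-- table part -/
def srtT_10 : Tr :=
  .nd srtT_8 srtT_9

/-- table part -/
def srtT_11 : Tr :=
  .nd (.nd (.nd (.nd (.nd (.nd (.lf 309) (.lf 88)) (.nd (.lf 78) (.lf 0))) (.nd (.nd (.lf 0) (.lf 171)) (.nd (.lf 170) (.lf 0)))) (.nd (.nd (.nd (.lf 242) (.lf 203)) (.nd (.lf 328) (.lf 0))) (.nd (.nd (.lf 155) (.lf 11)) (.nd (.lf 271) (.lf 0))))) (.nd (.nd (.nd (.nd (.lf 146) (.lf 97)) (.nd (.lf 205) (.lf 0))) (.nd (.nd (.lf 45) (.lf 332)) (.nd (.lf 175) (.lf 0)))) (.nd (.nd (.nd (.lf 140) (.lf 158)) (.nd (.lf 59) (.lf 0))) (.nd (.nd (.lf 241) (.lf 0)) (.nd (.lf 179) (.lf 0)))))) (.nd (.nd (.nd (.nd (.nd (.lf 82) (.lf 326)) (.nd (.lf 209) (.lf 0))) (.nd (.nd (.lf 46) (.lf 112)) (.nd (.lf 243) (.lf 0)))) (.nd (.nd (.nd (.lf 207) (.lf 83)) (.nd (.lf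 177) (.lf 0))) (.nd (.nd (.lf 151) (.lf 0)) (.nd (.lf 222) (.lf 0))))) (.nd (.nd (.nd (.nd (.lf 13) (.lf 252)) (.nd (.lf 324) (.lf 0))) (.nd (.nd (.lf 187) (.lf 251)) (.nd (.lf 144) (.lf 0)))) (.nd (.nd (.nd (.lf 259) (.lf 108)) (.nd (.lf 253) (.lf 0))) (.nd (.nd (.lf 287) (.lf 0)) (.nd (.lf 285) (.lf 0))))))

/-- table part -/
def srtT_12 : Tr :=
  .nd (.nd (.nd (.nd (.nd (.nd (.lf 183) (.lf 265)) (.nd (.lf 14) (.lf 0))) (.nd (.nd (.lf 31) (.lf 61)) (.nd (.lf 152) (.lf 0)))) (.nd (.nd (.nd (.lf 60) (.lf 349)) (.nd (.lf 257) (.lf 0))) (.nd (.nd (.lf 299) (.lf 163)) (.nd (.lf 62) (.lf 0))))) (.nd (.nd (.nd (.nd (.lf 69) (.lf 147)) (.nd (.lf 96) (.lf 0))) (.nd (.nd (.lf 15) (.lf 156)) (.nd (.lf 76) (.lf 0)))) (.nd (.nd (.nd (.lf 168) (.lf 29)) (.nd (.lf 358) (.lf 0))) (.nd (.nd (.lf 123) (.lf 0)) (.nd (.lf 84) (.lf 0)))))) (.nd (.nd (.nd (.nd (.nd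 (.lf 247) (.lf 39)) (.nd (.lf 161) (.lf 0))) (.nd (.nd (.lf 37) (.lf 157)) (.nd (.lf 35) (.lf 0)))) (.nd (.nd (.nd (.lf 124) (.lf 186)) (.nd (.lf 18) (.lf 0))) (.nd (.nd (.lf 86) (.lf 0)) (.nd (.lf 122) (.lf 0))))) (.nd (.nd (.nd (.nd (.lf 202) (.lf 281)) (.nd (.lf 3) (.lf 0))) (.nd (.nd (.lf 189) (.lf 240)) (.nd (.lf 339) (.lf 0)))) (.nd (.nd (.nd (.lf 4) (.lf 133)) (.nd (.lf 235) (.lf 0))) (.nd (.nd (.lf 115) (.lf 0)) (.nd (.lf 118) (.lf 0))))))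

/-- table part -/
def srtT_13 : Tr :=
  .nd srtT_11 srtT_12

/-- table part -/
def srtT_14 : Tr :=
  .nd srtT_10 srtT_13

/-- table part -/
def srtT_15 : Tr :=
  .nd srtT_7 srtT_14

/-- table -/
def srtT : Tr :=
  srtT_15

end Cfsg.Agent.SplitVoltageA7DData
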