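import Cfsg.Agent.Lib.SplitVoltageA7SData

/-!
Check of the certificate A7S.
-/

set_option autoImplicit false
set_option maxRecDepth 100000

namespace Cfsg.Agent.SplitVoltageA7S

open Cfsg.Agent.SplitVoltageCert SplitVoltageA7SData

theorem cert_core : cert.Core where
  hm := by decide +kernel
  hn := by decide +kernel
  hN := by decide +kernel
  hnpow := by decide +kernel
  hK := by decide +kernel
  table := by decide +kernel
  tree := by decide +kernel
  rel := by decide +kernel
  edge := by decide +kernel

theorem cert_cyc : cert.finCyc k0 1 cs = true := by decide +kernel

end Cfsg.Agent.SplitVoltageA7S
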