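import Cfsg.Agent.Lib.SplitVoltageCert

/-!
Certificate data: voltages A7S.
-/

set_option autoImplicit false
set_option maxRecDepth 100000

namespace Cfsg.Agent.SplitVoltageA7SData

open Cfsg.Agent.SplitVoltageCert

/-- table part -/
def nxT_1 : Tr :=
  .nd (.nd (.nd (.nd (.nd (.nd (.lf 0) (.lf 311)) (.nd (.lf 104) (.lf 0))) (.nd (.nd (.lf 105) (.lf 125)) (.nd (.lf 263) (.lf 0)))) (.nd (.nd (.nd (.lf 40) (.lf 273)) (.nd (.lf 208) (.lf 0))) (.nd (.nd (.lf 38) (.lf 88)) (.nd (.lf 139) (.lf 0))))) (.nd (.nd (.nd (.nd (.lf 29) (.lf 324)) (.nd (.lf 90) (.lf 0))) (.nd (.nd (.lf 124) (.lf 288)) (.nd (.lf 276) (.lf 0)))) (.nd (.nd (.nd (.lf 82) (.lf 278)) (.nd (.lf 197) (.lf 0))) (.nd (.nd (.lf 165) (.lf 0)) (.nd (.lf 261) (.lf 0)))))) (.nd (.nd (.nd (.nd (.nd (.lf 15) (.lf 319)) (.nd (.lf 198) (.lf 0))) (.nd (.nd (.lf 21) (.lf 356)) (.nd (.lf 221)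 (.lf 0)))) (.nd (.nd (.nd (.lf 11) (.lf 335)) (.nd (.lf 240) (.lf 0))) (.nd (.nd (.lf 81) (.lf 0)) (.nd (.lf 295) (.lf 0))))) (.nd (.nd (.nd (.nd (.lf 45) (.lf 212)) (.nd (.lf 218) (.lf 0))) (.nd (.nd (.lf 135) (.lf 344)) (.nd (.lf 175) (.lf 0)))) (.nd (.nd (.nd (.lf 93) (.lf 70)) (.nd (.lf 169) (.lf 0))) (.nd (.nd (.lf 176) (.lf 0)) (.nd (.lf 171) (.lf 0))))))

/-- table part -/
def nxT_2 : Tr :=
  .nd (.nd (.nd (.nd (.nd (.nd (.lf 8) (.lf 315)) (.nd (.lf 108) (.lf 0))) (.nd (.nd (.lf 109) (.lf 342)) (.nd (.lf 267) (.lf 0)))) (.nd (.nd (.nd (.lf 65) (.lf 194)) (.nd (.lf 57) (.lf 0))) (.nd (.nd (.lf 154) (.lf 251)) (.nd (.lf 119) (.lf 0))))) (.nd (.nd (.nd (.nd (.lf 37) (.lf 325)) (.nd (.lf 213) (.lf 0))) (.nd (.nd (.lf 72) (.lf 359)) (.nd (.lf 164) (.lf 0)))) (.nd (.nd (.nd (.lf 87) (.lf 253)) (.nd (.lf 244) (.lf 0))) (.nd (.nd (.lf 28)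 (.lf 0)) (.nd (.lf 159) (.lf 0)))))) (.nd (.nd (.nd (.nd (.nd (.lf 7) (.lf 246)) (.nd (.lf 205) (.lf 0))) (.nd (.nd (.lf 36) (.lf 199)) (.nd (.lf 132) (.lf 0)))) (.nd (.nd (.nd (.lf 1) (.lf 334)) (.nd (.lf 245) (.lf 0))) (.nd (.nd (.lf 161) (.lf 0)) (.nd (.lf 179) (.lf 0))))) (.nd (.nd (.nd (.nd (.lf 51) (.lf 285)) (.nd (.lf 223) (.lf 0))) (.nd (.nd (.lf 142) (.lf 339)) (.nd (.lf 249) (.lf 0)))) (.nd (.nd (.nd (.lf 99) (.lf 345)) (.nd (.lf 75) (.lf 0))) (.nd (.nd (.lf 141) (.lf 0)) (.nd (.lf 304) (.lf 0))))))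

/-- table part -/
def nxT_3 : Tr :=
  .nd nxT_1 nxT_2

/-- table part -/
def nxT_4 : Tr :=
  .nd (.nd (.nd (.nd (.nd (.nd (.lf 4) (.lf 313)) (.nd (.lf 112) (.lf 0))) (.nd (.nd (.lf 22) (.lf 350)) (.nd (.lf 219) (.lf 0)))) (.nd (.nd (.nd (.lf 61) (.lf 282)) (.nd (.lf 232) (.lf 0))) (.nd (.nd (.lf 151) (.lf 343)) (.nd (.lf 114) (.lf 0))))) (.nd (.nd (.nd (.nd (.lf 33) (.lf 286)) (.nd (.lf 211) (.lf 0))) (.nd (.nd (.lf 127) (.lf 353)) (.nd (.lf 214) (.lf 0)))) (.nd (.nd (.nd (.lf 58) (.lf 341)) (.nd (.lf 239) (.lf 0))) (.nd (.nd (.lf 168) (.lf 0)) (.nd (.lf 222) (.lf 0)))))) (.nd (.nd (.nd (.nd (.nd (.lf 19) (.lf 321)) (.nd (.lf 202) (.lf 0))) (.nd (.nd (.lf 116) (.lf 275)) (.nd (.lf 271) (.lf 0)))) (.nd (.nd (.nd (.lf 74) (.lf 337)) (.nd (.lf 243) (.lf 0))) (.nd (.nd (.lf 13) (.lf 0)) (.nd (.lf 269) (.lf 0))))) (.nd (.nd (.nd (.nd (.lf 49)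 (.lf 167)) (.nd (.lf 220) (.lf 0))) (.nd (.nd (.lf 138) (.lf 355)) (.nd (.lf 207) (.lf 0)))) (.nd (.nd (.nd (.lf 77) (.lf 336)) (.nd (.lf 53) (.lf 0))) (.nd (.nd (.lf 180) (.lf 0)) (.nd (.lf 302) (.lf 0))))))

/-- table part -/
def nxT_5 : Tr :=
  .nd (.nd (.nd (.nd (.nd (.nd (.lf 12) (.lf 317)) (.nd (.lf 195) (.lf 0))) (.nd (.nd (.lf 111) (.lf 354)) (.nd (.lf 268) (.lf 0)))) (.nd (.nd (.nd (.lf 69) (.lf 333)) (.nd (.lf 236) (.lf 0))) (.nd (.nd (.lf 118) (.lf 308)) (.nd (.lf 224) (.lf 0))))) (.nd (.nd (.nd (.nd (.lf 41) (.lf 327)) (.nd (.lf 192) (.lf 0))) (.nd (.nd (.lf 92) (.lf 173)) (.nd (.lf 284) (.lf 0)))) (.nd (.nd (.nd (.lf 5) (.lf 257)) (.nd (.lf 254) (.lf 0))) (.nd (.nd (.lf 174) (.lf 0)) (.nd (.lf 183) (.lf 0)))))) (.nd (.nd (.nd (.nd (.nd (.lf 25) (.lf 258)) (.nd (.lf 55) (.lf 0))) (.nd (.nd (.lf 120) (.lf 148)) (.nd (.lf 272)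 (.lf 0)))) (.nd (.nd (.nd (.lf 80) (.lf 89)) (.nd (.lf 247) (.lf 0))) (.nd (.nd (.lf 163) (.lf 0)) (.nd (.lf 237) (.lf 0))))) (.nd (.nd (.nd (.nd (.lf 54) (.lf 60)) (.nd (.lf 34) (.lf 0))) (.nd (.nd (.lf 145) (.lf 352)) (.nd (.lf 290) (.lf 0)))) (.nd (.nd (.nd (.lf 103) (.lf 187)) (.nd (.lf 121) (.lf 0))) (.nd (.nd (.lf 184) (.lf 0)) (.nd (.lf 79) (.lf 0))))))

/-- table part -/
def nxT_6 : Tr :=
  .nd nxT_4 nxT_5

/-- table part -/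
def nxT_7 : Tr :=
  .nd nxT_3 nxT_6

/-- table part -/
def nxT_8 : Tr :=
  .nd (.nd (.nd (.nd (.nd (.nd (.lf 2) (.lf 300)) (.nd (.lf 188) (.lf 0))) (.nd (.nd (.lf 106) (.lf 348)) (.nd (.lf 203) (.lf 0)))) (.nd (.nd (.nd (.lf 59) (.lf 331)) (.nd (.lf 230) (.lf 0))) (.nd (.nd (.lf 149) (.lf 100)) (.nd (.lf 96) (.lf 0))))) (.nd (.nd (.nd (.nd (.lf 31) (.lf 318)) (.nd (.lf 209) (.lf 0))) (.nd (.nd (.lf 126) (.lf 281)) (.nd (.lf 277) (.lf 0)))) (.nd (.nd (.nd (.lf 84) (.lf 340)) (.nd (.lf 144) (.lf 0))) (.nd (.nd (.lf 166) (.lf 0)) (.nd (.lf 128) (.lf 0)))))) (.nd (.nd (.nd (.nd (.nd (.lf 17) (.lf 320)) (.nd (.lf 200) (.lf 0))) (.nd (.nd (.lf 115) (.lf 329)) (.nd (.lf 24) (.lf 0)))) (.nd (.nd (.nd (.lf 73) (.lf 206)) (.nd (.lf 241) (.lf 0))) (.nd (.nd (.lf 158) (.lf 0)) (.nd (.lf 297) (.lf 0))))) (.nd (.nd (.nd (.nd (.lf 47) (.lf 190)) (.nd (.lf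 9) (.lf 0))) (.nd (.nd (.lf 113) (.lf 226)) (.nd (.lf 265) (.lf 0)))) (.nd (.nd (.nd (.lf 95) (.lf 294)) (.nd (.lf 177) (.lf 0))) (.nd (.nd (.lf 178) (.lf 0)) (.nd (.lf 299) (.lf 0))))))

/-- table part -/
def nxT_9 : Tr :=
  .nd (.nd (.nd (.nd (.nd (.nd (.lf 10) (.lf 316)) (.nd (.lf 193) (.lf 0))) (.nd (.nd (.lf 110) (.lf 97)) (.nd (.lf 201) (.lf 0)))) (.nd (.nd (.nd (.lf 67) (.lf 130)) (.nd (.lf 189) (.lf 0))) (.nd (.nd (.lf 155) (.lf 346)) (.nd (.lf 293) (.lf 0))))) (.nd (.nd (.nd (.nd (.lf 39) (.lf 326)) (.nd (.lf 215) (.lf 0))) (.nd (.nd (.lf 131) (.lf 296)) (.nd (.lf 283) (.lf 0)))) (.nd (.nd (.nd (.lf 62) (.lf 136)) (.nd (.lf 252) (.lf 0))) (.nd (.nd (.lf 172) (.lf 0)) (.nd (.lf 83) (.lf 0)))))) (.nd (.nd (.nd (.nd (.nd (.lf 23) (.lf 323)) (.nd (.lf 50) (.lf 0))) (.nd (.nd (.lf 46) (.lf 332)) (.nd (.lf 86) (.lf 0)))) (.nd (.nd (.nd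 (.lf 78) (.lf 305)) (.nd (.lf 233) (.lf 0))) (.nd (.nd (.lf 162) (.lf 0)) (.nd (.lf 242) (.lf 0))))) (.nd (.nd (.nd (.nd (.lf 52) (.lf 191)) (.nd (.lf 225) (.lf 0))) (.nd (.nd (.lf 143) (.lf 134)) (.nd (.lf 217) (.lf 0)))) (.nd (.nd (.nd (.lf 101) (.lf 210)) (.nd (.lf 231) (.lf 0))) (.nd (.nd (.lf 137) (.lf 0)) (.nd (.lf 306) (.lf 0))))))

/-- table part -/
def nxT_10 : Tr :=
  .nd nxT_8 nxT_9

/-- table part -/
def nxT_11 : Tr :=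
  .nd (.nd (.nd (.nd (.nd (.nd (.lf 6) (.lf 314)) (.nd (.lf 42) (.lf 0))) (.nd (.nd (.lf 107) (.lf 351)) (.nd (.lf 266) (.lf 0)))) (.nd (.nd (.nd (.lf 63) (.lf 328)) (.nd (.lf 157) (.lf 0))) (.nd (.nd (.lf 152) (.lf 234)) (.nd (.lf 292) (.lf 0))))) (.nd (.nd (.nd (.nd (.lf 35) (.lf 227)) (.nd (.lf 150) (.lf 0))) (.nd (.nd (.lf 129) (.lf 349)) (.nd (.lf 280) (.lf 0)))) (.nd (.nd (.nd (.lf 85) (.lf 123)) (.nd (.lf 250) (.lf 0))) (.nd (.nd (.lf 170) (.lf 0)) (.nd (.lf 66) (.lf 0)))))) (.nd (.nd (.nd (.nd (.nd (.lf 20) (.lf 322)) (.nd (.lf 204) (.lf 0))) (.nd (.nd (.lf 117) (.lf 301)) (.nd (.lf 16) (.lf 0)))) (.nd (.nd (.nd (.lf 76) (.lf 338)) (.nd (.lf 156) (.lf 0))) (.nd (.nd (.lf 32) (.lf 0)) (.nd (.lf 256) (.lf 0))))) (.nd (.nd (.nd (.nd (.lf 44) (.lf 310)) (.nd (.lf 64) (.lf 0))) (.nd (.nd (.lf 140) (.lf 102)) (.nd (.lf 287) (.lf 0))))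 (.nd (.nd (.nd (.lf 98) (.lf 291)) (.nd (.lf 259) (.lf 0))) (.nd (.nd (.lf 181) (.lf 0)) (.nd (.lf 303) (.lf 0))))))

/-- table part -/
def nxT_12 : Tr :=
  .nd (.nd (.nd (.nd (.nd (.nd (.lf 14) (.lf 312)) (.nd (.lf 196) (.lf 0))) (.nd (.nd (.lf 26) (.lf 307)) (.nd (.lf 270) (.lf 0)))) (.nd (.nd (.nd (.lf 71) (.lf 228)) (.nd (.lf 238) (.lf 0))) (.nd (.nd (.lf 48) (.lf 279)) (.nd (.lf 229) (.lf 0))))) (.nd (.nd (.nd (.nd (.lf 43) (.lf 289)) (.nd (.lf 216) (.lf 0))) (.nd (.nd (.lf 133) (.lf 94)) (.nd (.lf 160) (.lf 0)))) (.nd (.nd (.nd (.lf 91) (.lf 248)) (.nd (.lf 255) (.lf 0))) (.nd (.nd (.lf 68) (.lf 0)) (.nd (.lf 264) (.lf 0)))))) (.nd (.nd (.nd (.nd (.nd (.lf 27) (.lf 185)) (.nd (.lf 153) (.lf 0))) (.nd (.nd (.lf 122) (.lf 358)) (.nd (.lf 274) (.lf 0)))) (.nd (.nd (.nd (.lf 3) (.lf 260)) (.nd (.lf 18) (.lf 0))) (.nd (.nd (.lf 147) (.lf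 0)) (.nd (.lf 298) (.lf 0))))) (.nd (.nd (.nd (.nd (.lf 56) (.lf 330)) (.nd (.lf 182) (.lf 0))) (.nd (.nd (.lf 146) (.lf 357)) (.nd (.lf 235) (.lf 0)))) (.nd (.nd (.nd (.lf 30) (.lf 347)) (.nd (.lf 262) (.lf 0))) (.nd (.nd (.lf 186) (.lf 0)) (.nd (.lf 309) (.lf 0))))))

/-- table part -/
def nxT_13 : Tr :=
  .nd nxT_11 nxT_12

/-- table part -/
def nxT_14 : Tr :=
  .nd nxT_10 nxT_13

/-- table part -/
def nxT_15 : Tr :=
  .nd nxT_7 nxT_14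

/-- table part -/
def nxT_16 : Tr :=
  .nd (.nd (.nd (.nd (.nd (.nd (.lf 1) (.lf 312)) (.nd (.lf 151) (.lf 0))) (.nd (.nd (.lf 67) (.lf 323)) (.nd (.lf 264) (.lf 0)))) (.nd (.nd (.nd (.lf 58) (.lf 110)) (.nd (.lf 229) (.lf 0))) (.nd (.nd (.lf 148) (.lf 359)) (.nd (.lf 195) (.lf 0))))) (.nd (.nd (.nd (.nd (.lf 30) (.lf 243)) (.nd (.lf 208) (.lf 0))) (.nd (.nd (.lf 125) (.lf 331)) (.nd (.lf 155) (.lf 0)))) (.nd (.nd (.nd (.lf 83) (.lf 135)) (.nd (.lf 249) (.lf 0))) (.nd (.nd (.lf 116) (.lf 0)) (.nd (.lf 238) (.lf 0)))))) (.nd (.nd (.nd (.nd (.nd (.lf 16) (.lf 302)) (.nd (.lf 199) (.lf 0))) (.nd (.nd (.lf 114) (.lf 347)) (.nd (.lf 247) (.lf 0)))) (.nd (.nd (.nd (.lf 2) (.lf 165)) (.nd (.lf 198) (.lf 0))) (.nd (.nd (.lf 14) (.lf 0)) (.nd (.lf 296) (.lf 0))))) (.nd (.nd (.nd (.nd (.lf 46) (.lf 215)) (.nd (.lf 41) (.lf 0))) (.nd (.nd (.lf 136)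 (.lf 330)) (.nd (.lf 285) (.lf 0)))) (.nd (.nd (.nd (.lf 94) (.lf 105)) (.nd (.lf 257) (.lf 0))) (.nd (.nd (.lf 177) (.lf 0)) (.nd (.lf 181) (.lf 0))))))

/-- table part -/
def nxT_17 : Tr :=
  .nd (.nd (.nd (.nd (.nd (.nd (.lf 9) (.lf 309)) (.nd (.lf 192) (.lf 0))) (.nd (.nd (.lf 107) (.lf 353)) (.nd (.lf 154) (.lf 0)))) (.nd (.nd (.nd (.lf 66) (.lf 263)) (.nd (.lf 234) (.lf 0))) (.nd (.nd (.lf 152) (.lf 315)) (.nd (.lf 162) (.lf 0))))) (.nd (.nd (.nd (.nd (.lf 38) (.lf 78)) (.nd (.lf 214) (.lf 0))) (.nd (.nd (.lf 130) (.lf 311)) (.nd (.lf 282) (.lf 0)))) (.nd (.nd (.nd (.lf 88) (.lf 283)) (.nd (.lf 216) (.lf 0))) (.nd (.nd (.lf 20) (.lf 0)) (.nd (.lf 299) (.lf 0)))))) (.nd (.nd (.nd (.nd (.nd (.lf 22) (.lf 84)) (.nd (.lf 206) (.lf 0))) (.nd (.nd (.lf 118) (.lf 357)) (.nd (.lf 56) (.lf 0)))) (.nd (.nd (.nd (.lf 51) (.lf 170)) (.nd (.lf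 209) (.lf 0))) (.nd (.nd (.lf 27) (.lf 0)) (.nd (.lf 277) (.lf 0))))) (.nd (.nd (.nd (.nd (.lf 49) (.lf 232)) (.nd (.lf 224) (.lf 0))) (.nd (.nd (.lf 8) (.lf 340)) (.nd (.lf 252) (.lf 0)))) (.nd (.nd (.nd (.lf 100) (.lf 146)) (.nd (.lf 45) (.lf 0))) (.nd (.nd (.lf 183) (.lf 0)) (.nd (.lf 305) (.lf 0))))))

/-- table part -/
def nxT_18 : Tr :=
  .nd nxT_16 nxT_17

/-- table part -/
def nxT_19 : Tr :=
  .nd (.nd (.nd (.nd (.nd (.nd (.lf 5) (.lf 202)) (.nd (.lf 190) (.lf 0))) (.nd (.nd (.lf 91) (.lf 270)) (.nd (.lf 265) (.lf 0)))) (.nd (.nd (.nd (.lf 62) (.lf 332)) (.nd (.lf 122) (.lf 0))) (.nd (.nd (.lf 23) (.lf 200)) (.nd (.lf 161) (.lf 0))))) (.nd (.nd (.nd (.nd (.lf 34) (.lf 142)) (.nd (.lf 212) (.lf 0))) (.nd (.nd (.lf 128) (.lf 220)) (.nd (.lf 279) (.lf 0)))) (.nd (.nd (.nd (.lf 63) (.lf 254)) (.nd (.lf 129) (.lf 0))) (.nd (.nd (.lf 169)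 (.lf 0)) (.nd (.lf 39) (.lf 0)))))) (.nd (.nd (.nd (.nd (.nd (.lf 0) (.lf 133)) (.nd (.lf 203) (.lf 0))) (.nd (.nd (.lf 76) (.lf 321)) (.nd (.lf 240) (.lf 0)))) (.nd (.nd (.nd (.lf 75) (.lf 280)) (.nd (.lf 244) (.lf 0))) (.nd (.nd (.lf 159) (.lf 0)) (.nd (.lf 166) (.lf 0))))) (.nd (.nd (.nd (.nd (.lf 50) (.lf 329)) (.nd (.lf 221) (.lf 0))) (.nd (.nd (.lf 139) (.lf 351)) (.nd (.lf 272) (.lf 0)))) (.nd (.nd (.nd (.lf 97) (.lf 344)) (.nd (.lf 258) (.lf 0))) (.nd (.nd (.lf 106) (.lf 0)) (.nd (.lf 293) (.lf 0))))))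

/-- table part -/
def nxT_20 : Tr :=
  .nd (.nd (.nd (.nd (.nd (.nd (.lf 13) (.lf 250)) (.nd (.lf 140) (.lf 0))) (.nd (.nd (.lf 112) (.lf 355)) (.nd (.lf 269) (.lf 0)))) (.nd (.nd (.nd (.lf 70) (.lf 236)) (.nd (.lf 237) (.lf 0))) (.nd (.nd (.lf 156) (.lf 356)) (.nd (.lf 294) (.lf 0))))) (.nd (.nd (.nd (.nd (.lf 42) (.lf 328)) (.nd (.lf 17) (.lf 0))) (.nd (.nd (.lf 98) (.lf 350)) (.nd (.lf 31) (.lf 0)))) (.nd (.nd (.nd (.lf 90) (.lf 298)) (.nd (.lf 188) (.lf 0))) (.nd (.nd (.lf 175) (.lf 0)) (.nd (.lf 138) (.lf 0)))))) (.nd (.nd (.nd (.nd (.nd (.lf 26) (.lf 303)) (.nd (.lf 207) (.lf 0))) (.nd (.nd (.lf 121) (.lf 319)) (.nd (.lf 273) (.lf 0)))) (.nd (.nd (.nd (.lf 59) (.lf 85)) (.nd (.lf 248) (.lf 0))) (.nd (.nd (.lf 99) (.lf 0)) (.nd (.lf 186) (.lf 0))))) (.nd (.nd (.nd (.nd (.lf 55) (.lf 82)) (.nd (.lf 227) (.lf 0))) (.nd (.nd (.lf 127)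 (.lf 348)) (.nd (.lf 93) (.lf 0)))) (.nd (.nd (.nd (.lf 4) (.lf 346)) (.nd (.lf 261) (.lf 0))) (.nd (.nd (.lf 185) (.lf 0)) (.nd (.lf 308) (.lf 0))))))

/-- table part -/
def nxT_21 : Tr :=
  .nd nxT_19 nxT_20

/-- table part -/
def nxT_22 : Tr :=
  .nd nxT_18 nxT_21

/-- table part -/
def nxT_23 : Tr :=
  .nd (.nd (.nd (.nd (.nd (.nd (.lf 3) (.lf 80)) (.nd (.lf 189) (.lf 0))) (.nd (.nd (.lf 12) (.lf 349)) (.nd (.lf 230) (.lf 0)))) (.nd (.nd (.nd (.lf 60) (.lf 213)) (.nd (.lf 231) (.lf 0))) (.nd (.nd (.lf 150) (.lf 145)) (.nd (.lf 158) (.lf 0))))) (.nd (.nd (.nd (.nd (.lf 32) (.lf 87)) (.nd (.lf 210) (.lf 0))) (.nd (.nd (.lf 15) (.lf 358)) (.nd (.lf 278) (.lf 0)))) (.nd (.nd (.nd (.lf 47) (.lf 327)) (.nd (.lf 25) (.lf 0))) (.nd (.nd (.lf 167) (.lf 0)) (.nd (.lf 163) (.lf 0)))))) (.nd (.nd (.nd (.nd (.nd (.lf 18) (.lf 205)) (.nd (.lf 201)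 (.lf 0))) (.nd (.nd (.lf 69) (.lf 316)) (.nd (.lf 29) (.lf 0)))) (.nd (.nd (.nd (.lf 33) (.lf 336)) (.nd (.lf 242) (.lf 0))) (.nd (.nd (.lf 124) (.lf 0)) (.nd (.lf 131) (.lf 0))))) (.nd (.nd (.nd (.nd (.lf 48) (.lf 262)) (.nd (.lf 219) (.lf 0))) (.nd (.nd (.lf 137) (.lf 290)) (.nd (.lf 286) (.lf 0)))) (.nd (.nd (.nd (.lf 96) (.lf 343)) (.nd (.lf 218) (.lf 0))) (.nd (.nd (.lf 179) (.lf 0)) (.nd (.lf 180) (.lf 0))))))

/-- table part -/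
def nxT_24 : Tr :=
  .nd (.nd (.nd (.nd (.nd (.nd (.lf 11) (.lf 268)) (.nd (.lf 194) (.lf 0))) (.nd (.nd (.lf 54) (.lf 335)) (.nd (.lf 223) (.lf 0)))) (.nd (.nd (.nd (.lf 68) (.lf 211)) (.nd (.lf 235) (.lf 0))) (.nd (.nd (.lf 52) (.lf 333)) (.nd (.lf 37) (.lf 0))))) (.nd (.nd (.nd (.nd (.lf 40) (.lf 193)) (.nd (.lf 71) (.lf 0))) (.nd (.nd (.lf 132) (.lf 337)) (.nd (.lf 196) (.lf 0)))) (.nd (.nd (.nd (.lf 89) (.lf 178)) (.nd (.lf 253) (.lf 0))) (.nd (.nd (.lf 173) (.lf 0)) (.nd (.lf 300) (.lf 0)))))) (.nd (.nd (.nd (.nd (.nd (.lf 24) (.lf 95)) (.nd (.lf 19) (.lf 0))) (.nd (.nd (.lf 119) (.lf 345)) (.nd (.lf 266) (.lf 0)))) (.nd (.nd (.nd (.lf 79) (.lf 339)) (.nd (.lf 246) (.lf 0))) (.nd (.nd (.lf 74) (.lf 0)) (.nd (.lf 111) (.lf 0))))) (.nd (.nd (.nd (.nd (.lf 53) (.lf 176)) (.nd (.lf 226) (.lf 0))) (.nd (.nd (.lf 144) (.lf 314)) (.nd (.lf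 289) (.lf 0)))) (.nd (.nd (.nd (.lf 102) (.lf 306)) (.nd (.lf 260) (.lf 0))) (.nd (.nd (.lf 143) (.lf 0)) (.nd (.lf 307) (.lf 0))))))

/-- table part -/
def nxT_25 : Tr :=
  .nd nxT_23 nxT_24

/-- table part -/
def nxT_26 : Tr :=
  .nd (.nd (.nd (.nd (.nd (.nd (.lf 7) (.lf 274)) (.nd (.lf 191) (.lf 0))) (.nd (.nd (.lf 108) (.lf 352)) (.nd (.lf 61) (.lf 0)))) (.nd (.nd (.nd (.lf 64) (.lf 304)) (.nd (.lf 233) (.lf 0))) (.nd (.nd (.lf 153) (.lf 297)) (.nd (.lf 271) (.lf 0))))) (.nd (.nd (.nd (.nd (.lf 36) (.lf 259)) (.nd (.lf 168) (.lf 0))) (.nd (.nd (.lf 120) (.lf 354)) (.nd (.lf 281) (.lf 0)))) (.nd (.nd (.nd (.lf 86) (.lf 174)) (.nd (.lf 251) (.lf 0))) (.nd (.nd (.lf 171) (.lf 0)) (.nd (.lf 126) (.lf 0)))))) (.nd (.nd (.nd (.nd (.nd (.lf 21) (.lf 225)) (.nd (.lf 73) (.lf 0))) (.nd (.nd (.lf 65) (.lf 326)) (.nd (.lf 117) (.lf 0)))) (.nd (.nd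 (.nd (.lf 77) (.lf 245)) (.nd (.lf 43) (.lf 0))) (.nd (.nd (.lf 160) (.lf 0)) (.nd (.lf 284) (.lf 0))))) (.nd (.nd (.nd (.nd (.lf 35) (.lf 317)) (.nd (.lf 222) (.lf 0))) (.nd (.nd (.lf 141) (.lf 172)) (.nd (.lf 288) (.lf 0)))) (.nd (.nd (.nd (.lf 6) (.lf 341)) (.nd (.lf 204) (.lf 0))) (.nd (.nd (.lf 182) (.lf 0)) (.nd (.lf 276) (.lf 0))))))

/-- table part -/
def nxT_27 : Tr :=
  .nd (.nd (.nd (.nd (.nd (.nd (.lf 10) (.lf 318)) (.nd (.lf 197) (.lf 0))) (.nd (.nd (.lf 113) (.lf 338)) (.nd (.lf 101) (.lf 0)))) (.nd (.nd (.nd (.lf 72) (.lf 334)) (.nd (.lf 239) (.lf 0))) (.nd (.nd (.lf 157) (.lf 287)) (.nd (.lf 103) (.lf 0))))) (.nd (.nd (.nd (.nd (.lf 44) (.lf 324)) (.nd (.lf 217) (.lf 0))) (.nd (.nd (.lf 134) (.lf 322)) (.nd (.lf 255) (.lf 0)))) (.nd (.nd (.nd (.lf 92) (.lf 342)) (.nd (.lf 256) (.lf 0))) (.nd (.nd (.lf 115) (.lf 0)) (.nd (.lf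 301) (.lf 0)))))) (.nd (.nd (.nd (.nd (.nd (.lf 28) (.lf 267)) (.nd (.lf 184) (.lf 0))) (.nd (.nd (.lf 123) (.lf 295)) (.nd (.lf 275) (.lf 0)))) (.nd (.nd (.nd (.lf 81) (.lf 313)) (.nd (.lf 109) (.lf 0))) (.nd (.nd (.lf 164) (.lf 0)) (.nd (.lf 149) (.lf 0))))) (.nd (.nd (.nd (.nd (.lf 57) (.lf 320)) (.nd (.lf 228) (.lf 0))) (.nd (.nd (.lf 147) (.lf 292)) (.nd (.lf 291) (.lf 0)))) (.nd (.nd (.nd (.lf 104) (.lf 325)) (.nd (.lf 241) (.lf 0))) (.nd (.nd (.lf 187) (.lf 0)) (.nd (.lf 310) (.lf 0))))))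

/-- table part -/
def nxT_28 : Tr :=
  .nd nxT_26 nxT_27

/-- table part -/
def nxT_29 : Tr :=
  .nd nxT_25 nxT_28

/-- table part -/
def nxT_30 : Tr :=
  .nd nxT_22 nxT_29

/-- table part -/
def nxT_31 : Tr :=
  .nd nxT_15 nxT_30

/-- table -/
def nxT : Tr :=
  nxT_31

/-- table part -/
def pvT_1 : Tr :=
  .nd (.nd (.nd (.nd (.nd (.nd (.lf 0) (.lf 235)) (.nd (.lf 241) (.lf 0))) (.nd (.nd (.lf 155) (.lf 265)) (.nd (.lf 150) (.lf 0)))) (.nd (.nd (.nd (.lf 107) (.lf 336)) (.nd (.lf 215) (.lf 0))) (.nd (.nd (.lf 225) (.lf 350)) (.nd (.lf 230) (.lf 0))))) (.nd (.nd (.nd (.nd (.lf 203) (.lf 206)) (.nd (.lf 177) (.lf 0))) (.nd (.nd (.lf 46) (.lf 314)) (.nd (.lf 160) (.lf 0)))) (.nd (.nd (.nd (.lf 103) (.lf 252)) (.nd (.lf 120) (.lf 0))) (.nd (.nd (.lf 130) (.lf 0)) (.nd (.lf 168) (.lf 0)))))) (.nd (.nd (.nd (.nd (.nd (.lf 4) (.lf 247)) (.nd (.lf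 309) (.lf 0))) (.nd (.nd (.lf 84) (.lf 291)) (.nd (.lf 137) (.lf 0)))) (.nd (.nd (.nd (.lf 32) (.lf 341)) (.nd (.lf 114) (.lf 0))) (.nd (.nd (.lf 128) (.lf 0)) (.nd (.lf 162) (.lf 0))))) (.nd (.nd (.nd (.nd (.lf 201) (.lf 211)) (.nd (.lf 99) (.lf 0))) (.nd (.nd (.lf 352) (.lf 344)) (.nd (.lf 151) (.lf 0)))) (.nd (.nd (.nd (.lf 31) (.lf 263)) (.nd (.lf 126) (.lf 0))) (.nd (.nd (.lf 78) (.lf 0)) (.nd (.lf 311) (.lf 0))))))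

/-- table part -/
def pvT_2 : Tr :=
  .nd (.nd (.nd (.nd (.nd (.nd (.lf 2) (.lf 303)) (.nd (.lf 204) (.lf 0))) (.nd (.nd (.lf 119) (.lf 272)) (.nd (.lf 135) (.lf 0)))) (.nd (.nd (.nd (.lf 76) (.lf 227)) (.nd (.lf 212) (.lf 0))) (.nd (.nd (.lf 353) (.lf 328)) (.nd (.lf 295) (.lf 0))))) (.nd (.nd (.nd (.nd (.lf 11) (.lf 208)) (.nd (.lf 334) (.lf 0))) (.nd (.nd (.lf 49) (.lf 305)) (.nd (.lf 280) (.lf 0)))) (.nd (.nd (.nd (.lf 29) (.lf 358)) (.nd (.lf 122) (.lf 0))) (.nd (.nd (.lf 74) (.lf 0)) (.nd (.lf 180) (.lf 0)))))) (.nd (.nd (.nd (.nd (.nd (.lf 6) (.lf 198)) (.nd (.lf 91) (.lf 0))) (.nd (.nd (.lf 43) (.lf 333)) (.nd (.lf 139) (.lf 0)))) (.nd (.nd (.nd (.lf 27) (.lf 257)) (.nd (.lf 117) (.lf 0))) (.nd (.nd (.lf 132) (.lf 0)) (.nd (.lf 166) (.lf 0))))) (.nd (.nd (.nd (.nd (.lf 116) (.lf 214)) (.nd (.lf 171) (.lf 0))) (.nd (.nd (.lf 86)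 (.lf 321)) (.nd (.lf 154) (.lf 0)))) (.nd (.nd (.nd (.lf 286) (.lf 261)) (.nd (.lf 129) (.lf 0))) (.nd (.nd (.lf 80) (.lf 0)) (.nd (.lf 181) (.lf 0))))))

/-- table part -/
def pvT_3 : Tr :=
  .nd pvT_1 pvT_2

/-- table part -/
def pvT_4 : Tr :=
  .nd (.nd (.nd (.nd (.nd (.nd (.lf 1) (.lf 270)) (.nd (.lf 293) (.lf 0))) (.nd (.nd (.lf 243) (.lf 267)) (.nd (.lf 292) (.lf 0)))) (.nd (.nd (.nd (.lf 158) (.lf 222)) (.nd (.lf 109) (.lf 0))) (.nd (.nd (.lf 59) (.lf 326)) (.nd (.lf 345) (.lf 0))))) (.nd (.nd (.nd (.nd (.lf 175) (.lf 207)) (.nd (.lf 95) (.lf 0))) (.nd (.nd (.lf 48) (.lf 299)) (.nd (.lf 317) (.lf 0)))) (.nd (.nd (.nd (.lf 141) (.lf 253)) (.nd (.lf 121) (.lf 0))) (.nd (.nd (.lf 226) (.lf 0)) (.nd (.lf 237) (.lf 0)))))) (.nd (.nd (.nd (.nd (.nd (.lf 5) (.lf 195)) (.nd (.lf 90) (.lf 0))) (.nd (.nd (.lf 42) (.lf 287)) (.nd (.lf 138) (.lf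 0)))) (.nd (.nd (.nd (.lf 131) (.lf 239)) (.nd (.lf 115) (.lf 0))) (.nd (.nd (.lf 65) (.lf 0)) (.nd (.lf 355) (.lf 0))))) (.nd (.nd (.nd (.nd (.lf 71) (.lf 290)) (.nd (.lf 100) (.lf 0))) (.nd (.nd (.lf 144) (.lf 357)) (.nd (.lf 152) (.lf 0)))) (.nd (.nd (.nd (.lf 50) (.lf 259)) (.nd (.lf 127) (.lf 0))) (.nd (.nd (.lf 79) (.lf 0)) (.nd (.lf 179) (.lf 0))))))

/-- table part -/
def pvT_5 : Tr :=
  .nd (.nd (.nd (.nd (.nd (.nd (.lf 3) (.lf 191)) (.nd (.lf 349) (.lf 0))) (.nd (.nd (.lf 312) (.lf 277)) (.nd (.lf 136) (.lf 0)))) (.nd (.nd (.nd (.lf 96) (.lf 313)) (.nd (.lf 113) (.lf 0))) (.nd (.nd (.lf 347) (.lf 335)) (.nd (.lf 161) (.lf 0))))) (.nd (.nd (.nd (.nd (.lf 66) (.lf 304)) (.nd (.lf 147) (.lf 0))) (.nd (.nd (.lf 205) (.lf 324)) (.nd (.lf 210) (.lf 0)))) (.nd (.nd (.nd (.lf 30) (.lf 283)) (.nd (.lf 159) (.lf 0))) (.nd (.nd (.lf 102)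 (.lf 0)) (.nd (.lf 268) (.lf 0)))))) (.nd (.nd (.nd (.nd (.nd (.lf 7) (.lf 199)) (.nd (.lf 92) (.lf 0))) (.nd (.nd (.lf 45) (.lf 300)) (.nd (.lf 297) (.lf 0)))) (.nd (.nd (.nd (.lf 77) (.lf 250)) (.nd (.lf 118) (.lf 0))) (.nd (.nd (.lf 69) (.lf 0)) (.nd (.lf 167) (.lf 0))))) (.nd (.nd (.nd (.nd (.lf 63) (.lf 274)) (.nd (.lf 105) (.lf 0))) (.nd (.nd (.lf 343) (.lf 322)) (.nd (.lf 242) (.lf 0)))) (.nd (.nd (.nd (.lf 53) (.lf 273)) (.nd (.lf 281) (.lf 0))) (.nd (.nd (.lf 81) (.lf 0)) (.nd (.lf 182) (.lf 0))))))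

/-- table part -/
def pvT_6 : Tr :=
  .nd pvT_4 pvT_5

/-- table part -/
def pvT_7 : Tr :=
  .nd pvT_3 pvT_6

/-- table part -/
def pvT_8 : Tr :=
  .nd (.nd (.nd (.nd (.nd (.nd (.lf 44) (.lf 310)) (.nd (.lf 83) (.lf 0))) (.nd (.nd (.lf 36) (.lf 266)) (.nd (.lf 133) (.lf 0)))) (.nd (.nd (.nd (.lf 18) (.lf 279)) (.nd (.lf 108) (.lf 0))) (.nd (.nd (.lf 325) (.lf 338)) (.nd (.lf 157) (.lf 0))))) (.nd (.nd (.nd (.nd (.lf 9) (.lf 288)) (.nd (.lf 94) (.lf 0))) (.nd (.nd (.lf 104) (.lf 298)) (.nd (.lf 145) (.lf 0)))) (.nd (.nd (.nd (.lf 26) (.lf 301)) (.nd (.lf 185) (.lf 0))) (.nd (.nd (.lf 89) (.lf 0)) (.nd (.lf 169) (.lf 0)))))) (.nd (.nd (.nd (.nd (.nd (.lf 153) (.lf 217)) (.nd (.lf 125) (.lf 0))) (.nd (.nd (.lf 41) (.lf 329)) (.nd (.lf 197) (.lf 0)))) (.nd (.nd (.nd (.lf 22) (.lf 233)) (.nd (.lf 184) (.lf 0))) (.nd (.nd (.lf 64) (.lf 0)) (.nd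 (.lf 173) (.lf 0))))) (.nd (.nd (.nd (.nd (.lf 14) (.lf 337)) (.nd (.lf 143) (.lf 0))) (.nd (.nd (.lf 302) (.lf 316)) (.nd (.lf 221) (.lf 0)))) (.nd (.nd (.nd (.lf 164) (.lf 258)) (.nd (.lf 271) (.lf 0))) (.nd (.nd (.lf 190) (.lf 0)) (.nd (.lf 220) (.lf 0))))))

/-- table part -/
def pvT_9 : Tr :=
  .nd (.nd (.nd (.nd (.nd (.nd (.lf 54) (.lf 240)) (.nd (.lf 87) (.lf 0))) (.nd (.nd (.lf 38) (.lf 276)) (.nd (.lf 176) (.lf 0)))) (.nd (.nd (.nd (.lf 20) (.lf 229)) (.nd (.lf 112) (.lf 0))) (.nd (.nd (.lf 61) (.lf 351)) (.nd (.lf 231) (.lf 0))))) (.nd (.nd (.nd (.nd (.lf 72) (.lf 209)) (.nd (.lf 97) (.lf 0))) (.nd (.nd (.lf 51) (.lf 306)) (.nd (.lf 148) (.lf 0)))) (.nd (.nd (.nd (.lf 186) (.lf 255)) (.nd (.lf 123) (.lf 0))) (.nd (.nd (.lf 75) (.lf 0)) (.nd (.lf 172) (.lf 0)))))) (.nd (.nd (.nd (.nd (.nd (.lf 106) (.lf 234)) (.nd (.lf 124) (.lf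 0))) (.nd (.nd (.lf 58) (.lf 294)) (.nd (.lf 140) (.lf 0)))) (.nd (.nd (.nd (.lf 24) (.lf 331)) (.nd (.lf 342) (.lf 0))) (.nd (.nd (.lf 68) (.lf 0)) (.nd (.lf 238) (.lf 0))))) (.nd (.nd (.nd (.nd (.lf 16) (.lf 284)) (.nd (.lf 163) (.lf 0))) (.nd (.nd (.lf 56) (.lf 339)) (.nd (.lf 200) (.lf 0)))) (.nd (.nd (.nd (.lf 34) (.lf 262)) (.nd (.lf 165) (.lf 0))) (.nd (.nd (.lf 320) (.lf 0)) (.nd (.lf 308) (.lf 0))))))

/-- table part -/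
def pvT_10 : Tr :=
  .nd pvT_8 pvT_9

/-- table part -/
def pvT_11 : Tr :=
  .nd (.nd (.nd (.nd (.nd (.nd (.lf 47) (.lf 187)) (.nd (.lf 85) (.lf 0))) (.nd (.nd (.lf 37) (.lf 269)) (.nd (.lf 134) (.lf 0)))) (.nd (.nd (.nd (.lf 19) (.lf 315)) (.nd (.lf 110) (.lf 0))) (.nd (.nd (.lf 60) (.lf 346)) (.nd (.lf 275) (.lf 0))))) (.nd (.nd (.nd (.nd (.lf 10) (.lf 330)) (.nd (.lf 111) (.lf 0))) (.nd (.nd (.lf 245) (.lf 348)) (.nd (.lf 146) (.lf 0)))) (.nd (.nd (.nd (.lf 28) (.lf 327)) (.nd (.lf 236) (.lf 0))) (.nd (.nd (.lf 73) (.lf 0)) (.nd (.lf 170) (.lf 0)))))) (.nd (.nd (.nd (.nd (.nd (.lf 40) (.lf 196)) (.nd (.lf 224) (.lf 0))) (.nd (.nd (.lf 188) (.lf 289)) (.nd (.lf 193) (.lf 0)))) (.nd (.nd (.nd (.lf 23) (.lf 249)) (.nd (.lf 248) (.lf 0))) (.nd (.nd (.lf 67) (.lf 0)) (.nd (.lf 223) (.lf 0))))) (.nd (.nd (.nd (.nd (.lf 15) (.lf 213)) (.nd (.lf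 101) (.lf 0))) (.nd (.nd (.lf 55) (.lf 319)) (.nd (.lf 194) (.lf 0)))) (.nd (.nd (.nd (.lf 33) (.lf 260)) (.nd (.lf 318) (.lf 0))) (.nd (.nd (.lf 307) (.lf 0)) (.nd (.lf 356) (.lf 0))))))

/-- table part -/
def pvT_12 : Tr :=
  .nd (.nd (.nd (.nd (.nd (.nd (.lf 12) (.lf 192)) (.nd (.lf 88) (.lf 0))) (.nd (.nd (.lf 39) (.lf 278)) (.nd (.lf 332) (.lf 0)))) (.nd (.nd (.nd (.lf 21) (.lf 232)) (.nd (.lf 282) (.lf 0))) (.nd (.nd (.lf 62) (.lf 340)) (.nd (.lf 189) (.lf 0))))) (.nd (.nd (.nd (.nd (.lf 13) (.lf 359)) (.nd (.lf 98) (.lf 0))) (.nd (.nd (.lf 52) (.lf 354)) (.nd (.lf 149) (.lf 0)))) (.nd (.nd (.nd (.lf 142) (.lf 256)) (.nd (.lf 246) (.lf 0))) (.nd (.nd (.lf 228) (.lf 0)) (.nd (.lf 174) (.lf 0)))))) (.nd (.nd (.nd (.nd (.nd (.lf 8) (.lf 202)) (.nd (.lf 93) (.lf 0))) (.nd (.nd (.lf 254) (.lf 296)) (.nd (.lf 218) (.lf 0)))) (.nd (.nd (.nd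 (.lf 25) (.lf 251)) (.nd (.lf 216) (.lf 0))) (.nd (.nd (.lf 70) (.lf 0)) (.nd (.lf 178) (.lf 0))))) (.nd (.nd (.nd (.nd (.lf 17) (.lf 219)) (.nd (.lf 244) (.lf 0))) (.nd (.nd (.lf 57) (.lf 323)) (.nd (.lf 156) (.lf 0)))) (.nd (.nd (.nd (.lf 35) (.lf 264)) (.nd (.lf 285) (.lf 0))) (.nd (.nd (.lf 82) (.lf 0)) (.nd (.lf 183) (.lf 0))))))

/-- table part -/
def pvT_13 : Tr :=
  .nd pvT_11 pvT_12

/-- table part -/
def pvT_14 : Tr :=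
  .nd pvT_10 pvT_13

/-- table part -/
def pvT_15 : Tr :=
  .nd pvT_7 pvT_14

/-- table part -/
def pvT_16 : Tr :=
  .nd (.nd (.nd (.nd (.nd (.nd (.lf 10) (.lf 183)) (.nd (.lf 82) (.lf 0))) (.nd (.nd (.lf 35) (.lf 287)) (.nd (.lf 132) (.lf 0)))) (.nd (.nd (.nd (.lf 17) (.lf 219)) (.nd (.lf 107) (.lf 0))) (.nd (.nd (.lf 57) (.lf 323)) (.nd (.lf 156) (.lf 0))))) (.nd (.nd (.nd (.nd (.lf 8) (.lf 218)) (.nd (.lf 93) (.lf 0))) (.nd (.nd (.lf 257) (.lf 297)) (.nd (.lf 144) (.lf 0)))) (.nd (.nd (.nd (.lf 25) (.lf 291)) (.nd (.lf 285) (.lf 0))) (.nd (.nd (.lf 70) (.lf 0)) (.nd (.lf 202) (.lf 0)))))) (.nd (.nd (.nd (.nd (.nd (.lf 92) (.lf 192)) (.nd (.lf 88) (.lf 0))) (.nd (.nd (.lf 39) (.lf 278)) (.nd (.lf 354) (.lf 0)))) (.nd (.nd (.nd (.lf 21) (.lf 232)) (.nd (.lf 147) (.lf 0))) (.nd (.nd (.lf 63) (.lf 0)) (.nd (.lf 284) (.lf 0))))) (.nd (.nd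 (.nd (.nd (.lf 13) (.lf 298)) (.nd (.lf 100) (.lf 0))) (.nd (.nd (.lf 52) (.lf 314)) (.nd (.lf 180) (.lf 0)))) (.nd (.nd (.nd (.lf 204) (.lf 256)) (.nd (.lf 143) (.lf 0))) (.nd (.nd (.lf 83) (.lf 0)) (.nd (.lf 174) (.lf 0))))))

/-- table part -/
def pvT_17 : Tr :=
  .nd (.nd (.nd (.nd (.nd (.nd (.lf 62) (.lf 189)) (.nd (.lf 85) (.lf 0))) (.nd (.nd (.lf 37) (.lf 279)) (.nd (.lf 213) (.lf 0)))) (.nd (.nd (.nd (.lf 19) (.lf 351)) (.nd (.lf 111) (.lf 0))) (.nd (.nd (.lf 60) (.lf 358)) (.nd (.lf 159) (.lf 0))))) (.nd (.nd (.nd (.nd (.lf 116) (.lf 251)) (.nd (.lf 96) (.lf 0))) (.nd (.nd (.lf 268) (.lf 348)) (.nd (.lf 146) (.lf 0)))) (.nd (.nd (.nd (.lf 101) (.lf 254)) (.nd (.lf 249) (.lf 0))) (.nd (.nd (.lf 112) (.lf 0)) (.nd (.lf 170) (.lf 0)))))) (.nd (.nd (.nd (.nd (.nd (.lf 65) (.lf 261)) (.nd (.lf 134) (.lf 0))) (.nd (.nd (.lf 74) (.lf 290))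 (.nd (.lf 187) (.lf 0)))) (.nd (.nd (.nd (.lf 23) (.lf 245)) (.nd (.lf 347) (.lf 0))) (.nd (.nd (.lf 67) (.lf 0)) (.nd (.lf 294) (.lf 0))))) (.nd (.nd (.nd (.nd (.lf 15) (.lf 235)) (.nd (.lf 102) (.lf 0))) (.nd (.nd (.lf 55) (.lf 350)) (.nd (.lf 338) (.lf 0)))) (.nd (.nd (.nd (.lf 33) (.lf 329)) (.nd (.lf 182) (.lf 0))) (.nd (.nd (.lf 105) (.lf 0)) (.nd (.lf 220) (.lf 0))))))

/-- table part -/
def pvT_18 : Tr :=
  .nd pvT_16 pvT_17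

/-- table part -/
def pvT_19 : Tr :=
  .nd (.nd (.nd (.nd (.nd (.nd (.lf 40) (.lf 186)) (.nd (.lf 84) (.lf 0))) (.nd (.nd (.lf 36) (.lf 343)) (.nd (.lf 133) (.lf 0)))) (.nd (.nd (.nd (.lf 18) (.lf 345)) (.nd (.lf 228) (.lf 0))) (.nd (.nd (.lf 86) (.lf 339)) (.nd (.lf 157) (.lf 0))))) (.nd (.nd (.nd (.nd (.lf 9) (.lf 259)) (.nd (.lf 316) (.lf 0))) (.nd (.nd (.lf 286) (.lf 327)) (.nd (.lf 145) (.lf 0)))) (.nd (.nd (.nd (.lf 26) (.lf 317)) (.nd (.lf 309) (.lf 0))) (.nd (.nd (.lf 72) (.lf 0)) (.nd (.lf 169) (.lf 0)))))) (.nd (.nd (.nd (.nd (.nd (.lf 7) (.lf 205)) (.nd (.lf 246) (.lf 0))) (.nd (.nd (.lf 109) (.lf 344)) (.nd (.lf 258) (.lf 0)))) (.nd (.nd (.nd (.lf 22) (.lf 310)) (.nd (.lf 300) (.lf 0))) (.nd (.nd (.lf 122) (.lf 0)) (.nd (.lf 164) (.lf 0))))) (.nd (.nd (.nd (.nd (.lf 14) (.lf 212)) (.nd (.lf 196) (.lf 0))) (.nd (.nd (.lf 54)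 (.lf 318)) (.nd (.lf 185) (.lf 0)))) (.nd (.nd (.nd (.lf 32) (.lf 349)) (.nd (.lf 238) (.lf 0))) (.nd (.nd (.lf 162) (.lf 0)) (.nd (.lf 262) (.lf 0))))))

/-- table part -/
def pvT_20 : Tr :=
  .nd (.nd (.nd (.nd (.nd (.nd (.lf 59) (.lf 281)) (.nd (.lf 87) (.lf 0))) (.nd (.nd (.lf 38) (.lf 331)) (.nd (.lf 168) (.lf 0)))) (.nd (.nd (.nd (.lf 20) (.lf 230)) (.nd (.lf 234) (.lf 0))) (.nd (.nd (.lf 61) (.lf 337)) (.nd (.lf 193) (.lf 0))))) (.nd (.nd (.nd (.nd (.lf 12) (.lf 209)) (.nd (.lf 97) (.lf 0))) (.nd (.nd (.lf 51) (.lf 311)) (.nd (.lf 148) (.lf 0)))) (.nd (.nd (.nd (.lf 69) (.lf 255)) (.nd (.lf 123) (.lf 0))) (.nd (.nd (.lf 76) (.lf 0)) (.nd (.lf 173) (.lf 0)))))) (.nd (.nd (.nd (.nd (.nd (.lf 104) (.lf 322)) (.nd (.lf 274) (.lf 0))) (.nd (.nd (.lf 276) (.lf 295)) (.nd (.lf 140) (.lf 0)))) (.nd (.nd (.nd (.lf 24) (.lf 264)) (.nd (.lf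 307) (.lf 0))) (.nd (.nd (.lf 288) (.lf 0)) (.nd (.lf 240) (.lf 0))))) (.nd (.nd (.nd (.nd (.lf 16) (.lf 217)) (.nd (.lf 225) (.lf 0))) (.nd (.nd (.lf 56) (.lf 342)) (.nd (.lf 155) (.lf 0)))) (.nd (.nd (.nd (.lf 34) (.lf 263)) (.nd (.lf 130) (.lf 0))) (.nd (.nd (.lf 243) (.lf 0)) (.nd (.lf 306) (.lf 0))))))

/-- table part -/
def pvT_21 : Tr :=
  .nd pvT_19 pvT_20

/-- table part -/
def pvT_22 : Tr :=
  .nd pvT_18 pvT_21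

/-- table part -/
def pvT_23 : Tr :=
  .nd (.nd (.nd (.nd (.nd (.nd (.lf 0) (.lf 184)) (.nd (.lf 178) (.lf 0))) (.nd (.nd (.lf 75) (.lf 330)) (.nd (.lf 277) (.lf 0)))) (.nd (.nd (.nd (.lf 41) (.lf 221)) (.nd (.lf 226) (.lf 0))) (.nd (.nd (.lf 58) (.lf 324)) (.nd (.lf 267) (.lf 0))))) (.nd (.nd (.nd (.nd (.lf 150) (.lf 206)) (.nd (.lf 353) (.lf 0))) (.nd (.nd (.lf 47) (.lf 341)) (.nd (.lf 172) (.lf 0)))) (.nd (.nd (.nd (.lf 28) (.lf 252)) (.nd (.lf 120) (.lf 0))) (.nd (.nd (.lf 71) (.lf 0)) (.nd (.lf 191) (.lf 0)))))) (.nd (.nd (.nd (.nd (.nd (.lf 4) (.lf 194)) (.nd (.lf 89) (.lf 0))) (.nd (.nd (.lf 139) (.lf 282)) (.nd (.lf 137) (.lf 0)))) (.nd (.nd (.nd (.lf 152) (.lf 355)) (.nd (.lf 114) (.lf 0))) (.nd (.nd (.lf 312) (.lf 0)) (.nd (.lf 163) (.lf 0))))) (.nd (.nd (.nd (.nd (.lf 177) (.lf 211)) (.nd (.lf 99) (.lf 0))) (.nd (.nd (.lf 53)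 (.lf 333)) (.nd (.lf 151) (.lf 0)))) (.nd (.nd (.nd (.lf 31) (.lf 303)) (.nd (.lf 126) (.lf 0))) (.nd (.nd (.lf 78) (.lf 0)) (.nd (.lf 176) (.lf 0))))))

/-- table part -/
def pvT_24 : Tr :=
  .nd (.nd (.nd (.nd (.nd (.nd (.lf 2) (.lf 190)) (.nd (.lf 266) (.lf 0))) (.nd (.nd (.lf 73) (.lf 319)) (.nd (.lf 135) (.lf 0)))) (.nd (.nd (.nd (.lf 229) (.lf 250)) (.nd (.lf 296) (.lf 0))) (.nd (.nd (.lf 199) (.lf 332)) (.nd (.lf 160) (.lf 0))))) (.nd (.nd (.nd (.nd (.lf 11) (.lf 236)) (.nd (.lf 239) (.lf 0))) (.nd (.nd (.lf 302) (.lf 315)) (.nd (.lf 289) (.lf 0)))) (.nd (.nd (.nd (.lf 29) (.lf 260)) (.nd (.lf 248) (.lf 0))) (.nd (.nd (.lf 203) (.lf 0)) (.nd (.lf 299) (.lf 0)))))) (.nd (.nd (.nd (.nd (.nd (.lf 6) (.lf 198)) (.nd (.lf 91) (.lf 0))) (.nd (.nd (.lf 43) (.lf 357)) (.nd (.lf 265) (.lf 0)))) (.nd (.nd (.nd (.lf 188) (.lf 247)) (.nd (.lf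 117) (.lf 0))) (.nd (.nd (.lf 175) (.lf 0)) (.nd (.lf 166) (.lf 0))))) (.nd (.nd (.nd (.nd (.lf 201) (.lf 216)) (.nd (.lf 103) (.lf 0))) (.nd (.nd (.lf 222) (.lf 321)) (.nd (.lf 154) (.lf 0)))) (.nd (.nd (.nd (.lf 195) (.lf 283)) (.nd (.lf 129) (.lf 0))) (.nd (.nd (.lf 80) (.lf 0)) (.nd (.lf 181) (.lf 0))))))

/-- table part -/
def pvT_25 : Tr :=
  .nd pvT_23 pvT_24

/-- table part -/
def pvT_26 : Tr :=
  .nd (.nd (.nd (.nd (.nd (.nd (.lf 1) (.lf 275)) (.nd (.lf 233) (.lf 0))) (.nd (.nd (.lf 64) (.lf 320)) (.nd (.lf 224) (.lf 0)))) (.nd (.nd (.nd (.lf 27) (.lf 223)) (.nd (.lf 241) (.lf 0))) (.nd (.nd (.lf 110) (.lf 326)) (.nd (.lf 158) (.lf 0))))) (.nd (.nd (.nd (.nd (.lf 141) (.lf 207)) (.nd (.lf 95) (.lf 0))) (.nd (.nd (.lf 48) (.lf 301)) (.nd (.lf 293) (.lf 0)))) (.nd (.nd (.nd (.lf 44) (.lf 253)) (.nd (.lf 121) (.lf 0))) (.nd (.nd (.lf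 119) (.lf 0)) (.nd (.lf 272) (.lf 0)))))) (.nd (.nd (.nd (.nd (.nd (.lf 5) (.lf 271)) (.nd (.lf 90) (.lf 0))) (.nd (.nd (.lf 42) (.lf 336)) (.nd (.lf 138) (.lf 0)))) (.nd (.nd (.nd (.lf 171) (.lf 244)) (.nd (.lf 115) (.lf 0))) (.nd (.nd (.lf 68) (.lf 0)) (.nd (.lf 165) (.lf 0))))) (.nd (.nd (.nd (.nd (.lf 108) (.lf 308)) (.nd (.lf 208) (.lf 0))) (.nd (.nd (.lf 66) (.lf 328)) (.nd (.lf 153) (.lf 0)))) (.nd (.nd (.nd (.lf 46) (.lf 356)) (.nd (.lf 127) (.lf 0))) (.nd (.nd (.lf 79) (.lf 0)) (.nd (.lf 179) (.lf 0))))))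

/-- table part -/
def pvT_27 : Tr :=
  .nd (.nd (.nd (.nd (.nd (.nd (.lf 3) (.lf 292)) (.nd (.lf 304) (.lf 0))) (.nd (.nd (.lf 149) (.lf 305)) (.nd (.lf 136) (.lf 0)))) (.nd (.nd (.nd (.lf 242) (.lf 335)) (.nd (.lf 113) (.lf 0))) (.nd (.nd (.lf 231) (.lf 352)) (.nd (.lf 161) (.lf 0))))) (.nd (.nd (.nd (.nd (.lf 98) (.lf 210)) (.nd (.lf 128) (.lf 0))) (.nd (.nd (.lf 273) (.lf 313)) (.nd (.lf 280) (.lf 0)))) (.nd (.nd (.nd (.lf 30) (.lf 340)) (.nd (.lf 124) (.lf 0))) (.nd (.nd (.lf 77) (.lf 0)) (.nd (.lf 200) (.lf 0)))))) (.nd (.nd (.nd (.nd (.nd (.lf 81) (.lf 227)) (.nd (.lf 125) (.lf 0))) (.nd (.nd (.lf 45) (.lf 325)) (.nd (.lf 142) (.lf 0)))) (.nd (.nd (.nd (.lf 49) (.lf 270)) (.nd (.lf 118) (.lf 0))) (.nd (.nd (.lf 237) (.lf 0)) (.nd (.lf 167) (.lf 0))))) (.nd (.nd (.nd (.nd (.lf 214) (.lf 359)) (.nd (.lf 106) (.lf 0))) (.nd (.nd (.lf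 269) (.lf 346)) (.nd (.lf 197) (.lf 0)))) (.nd (.nd (.nd (.lf 50) (.lf 334)) (.nd (.lf 131) (.lf 0))) (.nd (.nd (.lf 94) (.lf 0)) (.nd (.lf 215) (.lf 0))))))

/-- table part -/
def pvT_28 : Tr :=
  .nd pvT_26 pvT_27

/-- table part -/
def pvT_29 : Tr :=
  .nd pvT_25 pvT_28

/-- table part -/
def pvT_30 : Tr :=
  .nd pvT_22 pvT_29

/-- table part -/
def pvT_31 : Tr :=
  .nd pvT_15 pvT_30

/-- table -/
def pvT : Tr :=
  pvT_31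

/-- table part -/
def parT_1 : Tr :=
  .nd (.nd (.nd (.nd (.nd (.nd (.lf 0) (.lf 367)) (.nd (.lf 165) (.lf 0))) (.nd (.nd (.lf 71) (.lf 530)) (.nd (.lf 265) (.lf 0)))) (.nd (.nd (.nd (.lf 35) (.lf 439)) (.nd (.lf 215) (.lf 0))) (.nd (.nd (.lf 115) (.lf 647)) (.nd (.lf 313) (.lf 0))))) (.nd (.nd (.nd (.nd (.lf 17) (.lf 412)) (.nd (.lf 187) (.lf 0))) (.nd (.nd (.lf 92) (.lf 595)) (.nd (.lf 289) (.lf 0)))) (.nd (.nd (.nd (.lf 51) (.lf 504)) (.nd (.lf 240) (.lf 0))) (.nd (.nd (.lf 141) (.lf 0)) (.nd (.lf 336) (.lf 0)))))) (.nd (.nd (.nd (.nd (.nd (.lf 8) (.lf 385)) (.nd (.lf 177) (.lf 0))) (.nd (.nd (.lf 79) (.lf 557)) (.nd (.lf 274) (.lf 0)))) (.nd (.nd (.nd (.lf 43) (.lf 465)) (.nd (.lf 228) (.lf 0))) (.nd (.nd (.lf 127) (.lf 0)) (.nd (.lf 324) (.lf 0))))) (.nd (.nd (.nd (.nd (.lf 27) (.lf 422)) (.nd (.lf 198) (.lf 0))) (.nd (.nd (.lf 105)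 (.lf 629)) (.nd (.lf 302) (.lf 0)))) (.nd (.nd (.nd (.lf 62) (.lf 513)) (.nd (.lf 252) (.lf 0))) (.nd (.nd (.lf 156) (.lf 0)) (.nd (.lf 349) (.lf 0))))))

/-- table part -/
def parT_2 : Tr :=
  .nd (.nd (.nd (.nd (.nd (.nd (.lf 4) (.lf 379)) (.nd (.lf 171) (.lf 0))) (.nd (.nd (.lf 75) (.lf 544)) (.nd (.lf 270) (.lf 0)))) (.nd (.nd (.nd (.lf 39) (.lf 454)) (.nd (.lf 223) (.lf 0))) (.nd (.nd (.lf 121) (.lf 656)) (.nd (.lf 319) (.lf 0))))) (.nd (.nd (.nd (.nd (.lf 22) (.lf 416)) (.nd (.lf 193) (.lf 0))) (.nd (.nd (.lf 98) (.lf 610)) (.nd (.lf 293) (.lf 0)))) (.nd (.nd (.nd (.lf 58) (.lf 509)) (.nd (.lf 244) (.lf 0))) (.nd (.nd (.lf 148) (.lf 0)) (.nd (.lf 341) (.lf 0)))))) (.nd (.nd (.nd (.nd (.nd (.lf 12) (.lf 396)) (.nd (.lf 182) (.lf 0))) (.nd (.nd (.lf 86) (.lf 581)) (.nd (.lf 278) (.lf 0)))) (.nd (.nd (.nd (.lf 47) (.lf 491)) (.nd (.lf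 234) (.lf 0))) (.nd (.nd (.lf 135) (.lf 0)) (.nd (.lf 332) (.lf 0))))) (.nd (.nd (.nd (.nd (.lf 31) (.lf 428)) (.nd (.lf 205) (.lf 0))) (.nd (.nd (.lf 111) (.lf 642)) (.nd (.lf 308) (.lf 0)))) (.nd (.nd (.nd (.lf 67) (.lf 522)) (.nd (.lf 258) (.lf 0))) (.nd (.nd (.lf 160) (.lf 0)) (.nd (.lf 362) (.lf 0))))))

/-- table part -/
def parT_3 : Tr :=
  .nd parT_1 parT_2

/-- table part -/
def parT_4 : Tr :=
  .nd (.nd (.nd (.nd (.nd (.nd (.lf 2) (.lf 373)) (.nd (.lf 169) (.lf 0))) (.nd (.nd (.lf 73) (.lf 534)) (.nd (.lf 267) (.lf 0)))) (.nd (.nd (.nd (.lf 37) (.lf 444)) (.nd (.lf 218) (.lf 0))) (.nd (.nd (.lf 118) (.lf 652)) (.nd (.lf 315) (.lf 0))))) (.nd (.nd (.nd (.nd (.lf 19) (.lf 414)) (.nd (.lf 190) (.lf 0))) (.nd (.nd (.lf 96) (.lf 598)) (.nd (.lf 291) (.lf 0)))) (.nd (.nd (.nd (.lf 53) (.lf 506)) (.nd (.lf 242) (.lf 0))) (.nd (.nd (.lf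 145) (.lf 0)) (.nd (.lf 339) (.lf 0)))))) (.nd (.nd (.nd (.nd (.nd (.lf 10) (.lf 390)) (.nd (.lf 180) (.lf 0))) (.nd (.nd (.lf 84) (.lf 574)) (.nd (.lf 276) (.lf 0)))) (.nd (.nd (.nd (.lf 45) (.lf 478)) (.nd (.lf 230) (.lf 0))) (.nd (.nd (.lf 130) (.lf 0)) (.nd (.lf 329) (.lf 0))))) (.nd (.nd (.nd (.nd (.lf 29) (.lf 425)) (.nd (.lf 200) (.lf 0))) (.nd (.nd (.lf 109) (.lf 637)) (.nd (.lf 304) (.lf 0)))) (.nd (.nd (.nd (.lf 65) (.lf 518)) (.nd (.lf 254) (.lf 0))) (.nd (.nd (.lf 158) (.lf 0)) (.nd (.lf 358) (.lf 0))))))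

/-- table part -/
def parT_5 : Tr :=
  .nd (.nd (.nd (.nd (.nd (.nd (.lf 6) (.lf 382)) (.nd (.lf 175) (.lf 0))) (.nd (.nd (.lf 77) (.lf 554)) (.nd (.lf 272) (.lf 0)))) (.nd (.nd (.nd (.lf 41) (.lf 461)) (.nd (.lf 226) (.lf 0))) (.nd (.nd (.lf 123) (.lf 670)) (.nd (.lf 322) (.lf 0))))) (.nd (.nd (.nd (.nd (.lf 25) (.lf 419)) (.nd (.lf 195) (.lf 0))) (.nd (.nd (.lf 103) (.lf 623)) (.nd (.lf 297) (.lf 0)))) (.nd (.nd (.nd (.lf 60) (.lf 511)) (.nd (.lf 247) (.lf 0))) (.nd (.nd (.lf 153) (.lf 0)) (.nd (.lf 347) (.lf 0)))))) (.nd (.nd (.nd (.nd (.nd (.lf 14) (.lf 398)) (.nd (.lf 184) (.lf 0))) (.nd (.nd (.lf 90) (.lf 591)) (.nd (.lf 281) (.lf 0)))) (.nd (.nd (.nd (.lf 49) (.lf 500)) (.nd (.lf 236) (.lf 0))) (.nd (.nd (.lf 138) (.lf 0)) (.nd (.lf 334) (.lf 0))))) (.nd (.nd (.nd (.nd (.lf 33) (.lf 435)) (.nd (.lf 210) (.lf 0))) (.nd (.nd (.lf 113)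 (.lf 644)) (.nd (.lf 311) (.lf 0)))) (.nd (.nd (.nd (.lf 69) (.lf 527)) (.nd (.lf 261) (.lf 0))) (.nd (.nd (.lf 162) (.lf 0)) (.nd (.lf 364) (.lf 0))))))

/-- table part -/
def parT_6 : Tr :=
  .nd parT_4 parT_5

/-- table part -/
def parT_7 : Tr :=
  .nd parT_3 parT_6

/-- table part -/
def parT_8 : Tr :=
  .nd (.nd (.nd (.nd (.nd (.nd (.lf 1) (.lf 369)) (.nd (.lf 166) (.lf 0))) (.nd (.nd (.lf 72) (.lf 532)) (.nd (.lf 266) (.lf 0)))) (.nd (.nd (.nd (.lf 36) (.lf 443)) (.nd (.lf 216) (.lf 0))) (.nd (.nd (.lf 117) (.lf 649)) (.nd (.lf 314) (.lf 0))))) (.nd (.nd (.nd (.nd (.lf 18) (.lf 413)) (.nd (.lf 188) (.lf 0))) (.nd (.nd (.lf 95) (.lf 596)) (.nd (.lf 290) (.lf 0)))) (.nd (.nd (.nd (.lf 52) (.lf 505)) (.nd (.lf 241) (.lf 0))) (.nd (.nd (.lf 143) (.lf 0)) (.nd (.lf 338) (.lf 0)))))) (.nd (.nd (.nd (.nd (.nd (.lf 9) (.lf 389)) (.nd (.lf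 179) (.lf 0))) (.nd (.nd (.lf 82) (.lf 565)) (.nd (.lf 275) (.lf 0)))) (.nd (.nd (.nd (.lf 44) (.lf 466)) (.nd (.lf 229) (.lf 0))) (.nd (.nd (.lf 128) (.lf 0)) (.nd (.lf 327) (.lf 0))))) (.nd (.nd (.nd (.nd (.lf 28) (.lf 423)) (.nd (.lf 199) (.lf 0))) (.nd (.nd (.lf 107) (.lf 632)) (.nd (.lf 303) (.lf 0)))) (.nd (.nd (.nd (.lf 63) (.lf 516)) (.nd (.lf 253) (.lf 0))) (.nd (.nd (.lf 157) (.lf 0)) (.nd (.lf 353) (.lf 0))))))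

/-- table part -/
def parT_9 : Tr :=
  .nd (.nd (.nd (.nd (.nd (.nd (.lf 5) (.lf 381)) (.nd (.lf 174) (.lf 0))) (.nd (.nd (.lf 76) (.lf 552)) (.nd (.lf 271) (.lf 0)))) (.nd (.nd (.nd (.lf 40) (.lf 458)) (.nd (.lf 224) (.lf 0))) (.nd (.nd (.lf 122) (.lf 665)) (.nd (.lf 321) (.lf 0))))) (.nd (.nd (.nd (.nd (.lf 23) (.lf 418)) (.nd (.lf 194) (.lf 0))) (.nd (.nd (.lf 102) (.lf 612)) (.nd (.lf 296) (.lf 0)))) (.nd (.nd (.nd (.lf 59) (.lf 510)) (.nd (.lf 246) (.lf 0))) (.nd (.nd (.lf 150) (.lf 0)) (.nd (.lf 344) (.lf 0)))))) (.nd (.nd (.nd (.nd (.nd (.lf 13) (.lf 397)) (.nd (.lf 183) (.lf 0))) (.nd (.nd (.lf 87) (.lf 588)) (.nd (.lf 280) (.lf 0)))) (.nd (.nd (.nd (.lf 48) (.lf 495)) (.nd (.lf 235) (.lf 0))) (.nd (.nd (.lf 136) (.lf 0)) (.nd (.lf 333) (.lf 0))))) (.nd (.nd (.nd (.nd (.lf 32) (.lf 433)) (.nd (.lf 207) (.lf 0))) (.nd (.nd (.lf 112)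 (.lf 643)) (.nd (.lf 309) (.lf 0)))) (.nd (.nd (.nd (.lf 68) (.lf 524)) (.nd (.lf 259) (.lf 0))) (.nd (.nd (.lf 161) (.lf 0)) (.nd (.lf 363) (.lf 0))))))

/-- table part -/
def parT_10 : Tr :=
  .nd parT_8 parT_9

/-- table part -/
def parT_11 : Tr :=
  .nd (.nd (.nd (.nd (.nd (.nd (.lf 3) (.lf 374)) (.nd (.lf 170) (.lf 0))) (.nd (.nd (.lf 74) (.lf 538)) (.nd (.lf 268) (.lf 0)))) (.nd (.nd (.nd (.lf 38) (.lf 447)) (.nd (.lf 220) (.lf 0))) (.nd (.nd (.lf 120) (.lf 653)) (.nd (.lf 317) (.lf 0))))) (.nd (.nd (.nd (.nd (.lf 20) (.lf 415)) (.nd (.lf 191) (.lf 0))) (.nd (.nd (.lf 97) (.lf 603)) (.nd (.lf 292) (.lf 0)))) (.nd (.nd (.nd (.lf 56) (.lf 507)) (.nd (.lf 243) (.lf 0))) (.nd (.nd (.lf 146) (.lf 0)) (.nd (.lf 340) (.lf 0)))))) (.nd (.nd (.nd (.nd (.nd (.lf 11) (.lf 392)) (.nd (.lf 181) (.lf 0))) (.nd (.nd (.lf 85) (.lf 578)) (.nd (.lf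 277) (.lf 0)))) (.nd (.nd (.nd (.lf 46) (.lf 489)) (.nd (.lf 231) (.lf 0))) (.nd (.nd (.lf 134) (.lf 0)) (.nd (.lf 331) (.lf 0))))) (.nd (.nd (.nd (.nd (.lf 30) (.lf 426)) (.nd (.lf 202) (.lf 0))) (.nd (.nd (.lf 110) (.lf 638)) (.nd (.lf 307) (.lf 0)))) (.nd (.nd (.nd (.lf 66) (.lf 520)) (.nd (.lf 255) (.lf 0))) (.nd (.nd (.lf 159) (.lf 0)) (.nd (.lf 359) (.lf 0))))))

/-- table part -/
def parT_12 : Tr :=
  .nd (.nd (.nd (.nd (.nd (.nd (.lf 7) (.lf 384)) (.nd (.lf 176) (.lf 0))) (.nd (.nd (.lf 78) (.lf 556)) (.nd (.lf 273) (.lf 0)))) (.nd (.nd (.nd (.lf 42) (.lf 464)) (.nd (.lf 227) (.lf 0))) (.nd (.nd (.lf 124) (.lf 680)) (.nd (.lf 323) (.lf 0))))) (.nd (.nd (.nd (.nd (.lf 26) (.lf 421)) (.nd (.lf 196) (.lf 0))) (.nd (.nd (.lf 104) (.lf 627)) (.nd (.lf 298) (.lf 0)))) (.nd (.nd (.nd (.lf 61) (.lf 512)) (.nd (.lf 249) (.lf 0))) (.nd (.nd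 (.lf 155) (.lf 0)) (.nd (.lf 348) (.lf 0)))))) (.nd (.nd (.nd (.nd (.nd (.lf 16) (.lf 404)) (.nd (.lf 186) (.lf 0))) (.nd (.nd (.lf 91) (.lf 592)) (.nd (.lf 285) (.lf 0)))) (.nd (.nd (.nd (.lf 50) (.lf 502)) (.nd (.lf 237) (.lf 0))) (.nd (.nd (.lf 140) (.lf 0)) (.nd (.lf 335) (.lf 0))))) (.nd (.nd (.nd (.nd (.lf 34) (.lf 438)) (.nd (.lf 213) (.lf 0))) (.nd (.nd (.lf 114) (.lf 646)) (.nd (.lf 312) (.lf 0)))) (.nd (.nd (.nd (.lf 70) (.lf 528)) (.nd (.lf 263) (.lf 0))) (.nd (.nd (.lf 164) (.lf 0)) (.nd (.lf 366) (.lf 0))))))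

/-- table part -/
def parT_13 : Tr :=
  .nd parT_11 parT_12

/-- table part -/
def parT_14 : Tr :=
  .nd parT_10 parT_13

/-- table part -/
def parT_15 : Tr :=
  .nd parT_7 parT_14

/-- table -/
def parT : Tr :=
  parT_15

/-- table part -/
def fmT_1 : Tr :=
  .nd (.nd (.nd (.nd (.nd (.nd (.lf 4722366482869645213703) (.lf 0)) (.nd (.lf 4722366764344621924359) (.lf 0))) (.nd (.nd (.lf 0) (.lf 16777216)) (.nd (.lf 0) (.lf 0)))) (.nd (.nd (.nd (.lf 7) (.lf 33056565380087516495872)) (.nd (.lf 7) (.lf 0))) (.nd (.nd (.lf 4722366482869661990918) (.lf 7)) (.nd (.lf 9444732965739407867910) (.lf 0))))) (.nd (.nd (.nd (.nd (.lf 0) (.lf 0)) (.nd (.lf 33056565380087533273094) (.lf 0))) (.nd (.nd (.lf 0) (.lf 33056565380087600381957)) (.nd (.lf 0) (.lf 0)))) (.nd (.nd (.nd (.lf 0) (.lf 33056566224512547291137)) (.nd (.lf 117440514) (.lf 0))) (.nd (.nd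 (.lf 0) (.lf 0)) (.nd (.lf 28334200304592805167106) (.lf 0)))))) (.nd (.nd (.nd (.nd (.nd (.lf 0) (.lf 0)) (.nd (.lf 0) (.lf 0))) (.nd (.nd (.lf 281475094151169) (.lf 0)) (.nd (.lf 28334200586067748323331) (.lf 0)))) (.nd (.nd (.nd (.lf 23611832414348242845698) (.lf 0)) (.nd (.lf 0) (.lf 0))) (.nd (.nd (.lf 23611832414348242845697) (.lf 0)) (.nd (.lf 0) (.lf 0))))) (.nd (.nd (.nd (.nd (.lf 0) (.lf 23611834384673130151939)) (.nd (.lf 0) (.lf 0))) (.nd (.nd (.lf 0) (.lf 9444732965739357536256)) (.nd (.lf 9444733528689260625924) (.lf 0)))) (.nd (.nd (.nd (.lf 0) (.lf 23611833821723109621764)) (.nd (.lf 4722367045819598635009) (.lf 0))) (.nd (.nd (.lf 0) (.lf 0)) (.nd (.lf 4722366764344739364869) (.lf 0))))))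

/-- table part -/
def fmT_2 : Tr :=
  .nd (.nd (.nd (.nd (.nd (.nd (.lf 0) (.lf 0)) (.nd (.lf 33056565380087533273094) (.lf 0))) (.nd (.nd (.lf 0) (.lf 4722367045819665743874)) (.nd (.lf 0) (.lf 0)))) (.nd (.nd (.nd (.lf 0) (.lf 18889465931478631186439)) (.nd (.lf 33056565380087633936385) (.lf 0))) (.nd (.nd (.lf 0) (.lf 23611834384673113374722)) (.nd (.lf 9444732965739357536258) (.lf 0))))) (.nd (.nd (.nd (.nd (.lf 0) (.lf 0)) (.nd (.lf 0) (.lf 0))) (.nd (.nd (.lf 4722366482869661990919) (.lf 0)) (.nd (.lf 23611833258773240086531) (.lf 0)))) (.nd (.nd (.nd (.lf 0) (.lf 4722367045819648966657)) (.nd (.lf 33056567350412387024903) (.lf 0))) (.nd (.nd (.lf 1970324836974592) (.lf 0)) (.nd (.lf 23611834384673146929159) (.lf 0)))))) (.nd (.nd (.nd (.nd (.nd (.lf 1970324836974592) (.lf 281475094151169)) (.nd (.lf 0) (.lf 0))) (.nd (.nd (.lf 9444732965739407867911)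 (.lf 9444732965739391090693)) (.nd (.lf 33056565380087516495876) (.lf 0)))) (.nd (.nd (.nd (.lf 7) (.lf 33056565380087617159175)) (.nd (.lf 0) (.lf 0))) (.nd (.nd (.lf 0) (.lf 0)) (.nd (.lf 4722367890244646207495) (.lf 0))))) (.nd (.nd (.nd (.nd (.lf 0) (.lf 16777216)) (.nd (.lf 0) (.lf 0))) (.nd (.nd (.lf 0) (.lf 562950003752964)) (.nd (.lf 9444733528689260625924) (.lf 0)))) (.nd (.nd (.nd (.lf 0) (.lf 0)) (.nd (.lf 281474976710656) (.lf 0))) (.nd (.nd (.lf 33056567068937376759809) (.lf 0)) (.nd (.lf 0) (.lf 0))))))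

/-- table part -/
def fmT_3 : Tr :=
  .nd fmT_1 fmT_2

/-- table part -/
def fmT_4 : Tr :=
  .nd (.nd (.nd (.nd (.nd (.nd (.lf 0) (.lf 0)) (.nd (.lf 18889467901803434606599) (.lf 0))) (.nd (.nd (.lf 28334199178692881547271) (.lf 0)) (.nd (.lf 16777223) (.lf 0)))) (.nd (.nd (.nd (.lf 0) (.lf 9444734654589217800194)) (.nd (.lf 0) (.lf 0))) (.nd (.nd (.lf 0) (.lf 1970324853751809)) (.nd (.lf 4722366764344621924354) (.lf 0))))) (.nd (.nd (.nd (.nd (.lf 0) (.lf 4722366482869645213702)) (.nd (.lf 0) (.lf 0))) (.nd (.nd (.lf 0) (.lf 14167101137458846236673)) (.nd (.lf 7) (.lf 0)))) (.nd (.nd (.nd (.lf 23611832695823320219648) (.lf 0)) (.nd (.lf 33056566505987440115713) (.lf 0))) (.nd (.nd (.lf 0) (.lf 0)) (.nd (.lf 33056567068937393537030) (.lf 0)))))) (.nd (.nd (.nd (.nd (.nd (.lf 0) (.lf 0)) (.nd (.lf 0) (.lf 0))) (.nd (.nd (.lf 0) (.lf 4722366482869745876993))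 (.nd (.lf 0) (.lf 0)))) (.nd (.nd (.nd (.lf 0) (.lf 0)) (.nd (.lf 0) (.lf 0))) (.nd (.nd (.lf 33056565943037486694407) (.lf 0)) (.nd (.lf 14167101137458879791107) (.lf 0))))) (.nd (.nd (.nd (.nd (.lf 0) (.lf 14167099730084029792262)) (.nd (.lf 0) (.lf 0))) (.nd (.nd (.lf 0) (.lf 18889465931478614409217)) (.nd (.lf 117440513) (.lf 0)))) (.nd (.nd (.nd (.lf 9444732965739340759042) (.lf 9444733810164220559367)) (.nd (.lf 281475094151169) (.lf 0))) (.nd (.nd (.lf 0) (.lf 0)) (.nd (.lf 0) (.lf 0))))))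

/-- table part -/
def fmT_5 : Tr :=
  .nd (.nd (.nd (.nd (.nd (.nd (.lf 0) (.lf 0)) (.nd (.lf 0) (.lf 0))) (.nd (.nd (.lf 0) (.lf 0)) (.nd (.lf 0) (.lf 0)))) (.nd (.nd (.nd (.lf 0) (.lf 0)) (.nd (.lf 0) (.lf 0))) (.nd (.nd (.lf 9444733528689260625923) (.lf 18889467901803451383812)) (.nd (.lf 0) (.lf 0))))) (.nd (.nd (.nd (.nd (.lf 0) (.lf 0)) (.nd (.lf 4722366482869645213697) (.lf 0))) (.nd (.nd (.lf 7) (.lf 18889465931478614409221)) (.nd (.lf 0) (.lf 0)))) (.nd (.nd (.nd (.lf 4722366482869645213696) (.lf 23611834103198103109632)) (.nd (.lf 0) (.lf 0))) (.nd (.nd (.lf 0) (.lf 0)) (.nd (.lf 18889465931478681518082) (.lf 0)))))) (.nd (.nd (.nd (.nd (.nd (.lf 0) (.lf 28334200867542775365634)) (.nd (.lf 33056565380087533273088) (.lf 0))) (.nd (.nd (.lf 0) (.lf 28334198897217955168263)) (.nd (.lf 0) (.lf 0)))) (.nd (.nd (.nd (.lf 0) (.lf 117440513))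 (.nd (.lf 0) (.lf 0))) (.nd (.nd (.lf 0) (.lf 0)) (.nd (.lf 1970324853751808) (.lf 0))))) (.nd (.nd (.nd (.nd (.lf 0) (.lf 33056565380087533273089)) (.nd (.lf 23611832414348242845698) (.lf 0))) (.nd (.nd (.lf 0) (.lf 1)) (.nd (.lf 0) (.lf 0)))) (.nd (.nd (.nd (.lf 0) (.lf 9444734936064127401988)) (.nd (.lf 18889466212953675005959) (.lf 0))) (.nd (.nd (.lf 0) (.lf 0)) (.nd (.lf 33056567350412403802119) (.lf 0))))))

/-- table part -/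
def fmT_6 : Tr :=
  .nd fmT_4 fmT_5

/-- table part -/
def fmT_7 : Tr :=
  .nd fmT_3 fmT_6

/-- table part -/
def fmT_8 : Tr :=
  .nd (.nd (.nd (.nd (.nd (.nd (.lf 0) (.lf 9444732965739290427398)) (.nd (.lf 0) (.lf 0))) (.nd (.nd (.lf 0) (.lf 0)) (.nd (.lf 1) (.lf 0)))) (.nd (.nd (.nd (.lf 0) (.lf 0)) (.nd (.lf 0) (.lf 0))) (.nd (.nd (.lf 0) (.lf 14167099448609002749956)) (.nd (.lf 33056565380087600381959) (.lf 0))))) (.nd (.nd (.nd (.nd (.lf 0) (.lf 33056565380087533273091)) (.nd (.lf 0) (.lf 0))) (.nd (.nd (.lf 0) (.lf 14167099730083945906179)) (.nd (.lf 0) (.lf 0)))) (.nd (.nd (.nd (.lf 0) (.lf 0)) (.nd (.lf 4722368453194482188290) (.lf 0))) (.nd (.nd (.lf 0) (.lf 0)) (.nd (.lf 4722367890244646207495) (.lf 0)))))) (.nd (.nd (.nd (.nd (.nd (.lf 0) (.lf 0)) (.nd (.lf 0) (.lf 0))) (.nd (.nd (.lf 0) (.lf 1970324870529030)) (.nd (.lf 16777223)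 (.lf 0)))) (.nd (.nd (.nd (.lf 0) (.lf 33056567350412370247681)) (.nd (.lf 0) (.lf 0))) (.nd (.nd (.lf 0) (.lf 0)) (.nd (.lf 0) (.lf 0))))) (.nd (.nd (.nd (.nd (.lf 0) (.lf 9444733528689344512005)) (.nd (.lf 7) (.lf 0))) (.nd (.nd (.lf 33056566224512480182272) (.lf 18889466212953641451520)) (.nd (.lf 4722367045819598635014) (.lf 0)))) (.nd (.nd (.nd (.lf 0) (.lf 9444733247214317469702)) (.nd (.lf 281474976710663) (.lf 0))) (.nd (.nd (.lf 0) (.lf 0)) (.nd (.lf 7) (.lf 0))))))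

/-- table part -/
def fmT_9 : Tr :=
  .nd (.nd (.nd (.nd (.nd (.nd (.lf 0) (.lf 0)) (.nd (.lf 0) (.lf 0))) (.nd (.nd (.lf 0) (.lf 0)) (.nd (.lf 7) (.lf 0)))) (.nd (.nd (.nd (.lf 0) (.lf 18889467901803451383810)) (.nd (.lf 18889465931478580854791) (.lf 0))) (.nd (.nd (.lf 0) (.lf 33056565380087617159169)) (.nd (.lf 0) (.lf 0))))) (.nd (.nd (.nd (.nd (.lf 0) (.lf 0)) (.nd (.lf 0) (.lf 0))) (.nd (.nd (.lf 0) (.lf 14167101418933822947331)) (.nd (.lf 0) (.lf 0)))) (.nd (.nd (.nd (.lf 7) (.lf 1688849960927234)) (.nd (.lf 0) (.lf 0))) (.nd (.nd (.lf 0) (.lf 0)) (.nd (.lf 1970324836974592) (.lf 0)))))) (.nd (.nd (.nd (.nd (.nd (.lf 0) (.lf 0)) (.nd (.lf 1970324836974599) (.lf 0))) (.nd (.nd (.lf 9444733528689260625922) (.lf 28334198897217921613827)) (.nd (.lf 4722366482869762654209) (.lf 0)))) (.nd (.nd (.nd (.lf 0) (.lf 14167100011558939394048))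 (.nd (.lf 18889467901803434606592) (.lf 0))) (.nd (.nd (.lf 0) (.lf 0)) (.nd (.lf 7) (.lf 0))))) (.nd (.nd (.nd (.nd (.lf 0) (.lf 28334198897217904836614)) (.nd (.lf 0) (.lf 0))) (.nd (.nd (.lf 0) (.lf 33056565380087550050311)) (.nd (.lf 4722366482869762654214) (.lf 0)))) (.nd (.nd (.nd (.lf 0) (.lf 9444732965739374313475)) (.nd (.lf 23611832695823219556352) (.lf 0))) (.nd (.nd (.lf 117440512) (.lf 0)) (.nd (.lf 0) (.lf 0))))))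

/-- table part -/
def fmT_10 : Tr :=
  .nd fmT_8 fmT_9

/-- table part -/
def fmT_11 : Tr :=
  .nd (.nd (.nd (.nd (.nd (.nd (.lf 0) (.lf 0)) (.nd (.lf 281474976710656) (.lf 0))) (.nd (.nd (.lf 0) (.lf 0)) (.nd (.lf 0) (.lf 0)))) (.nd (.nd (.nd (.lf 0) (.lf 14167100293033949659136)) (.nd (.lf 33554435) (.lf 0))) (.nd (.nd (.lf 0) (.lf 23611834384673146929154)) (.nd (.lf 0) (.lf 0))))) (.nd (.nd (.nd (.nd (.lf 0) (.lf 18889466494428634939392)) (.nd (.lf 7) (.lf 0))) (.nd (.nd (.lf 0) (.lf 4722368171719555809285)) (.nd (.lf 0) (.lf 0)))) (.nd (.nd (.nd (.lf 0) (.lf 33056567068937460645894)) (.nd (.lf 0) (.lf 0))) (.nd (.nd (.lf 0) (.lf 0)) (.nd (.lf 9444734936064228065281) (.lf 0)))))) (.nd (.nd (.nd (.nd (.nd (.lf 0) (.lf 0)) (.nd (.lf 0) (.lf 0))) (.nd (.nd (.lf 0) (.lf 18889465931478681518082)) (.nd (.lf 7) (.lf 0)))) (.nd (.nd (.nd (.lf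 0) (.lf 0)) (.nd (.lf 33056567350412387024901) (.lf 0))) (.nd (.nd (.lf 14167099448609053081607) (.lf 0)) (.nd (.lf 14167100293033865773059) (.lf 0))))) (.nd (.nd (.nd (.nd (.lf 1) (.lf 18889466494428601384964)) (.nd (.lf 14167099448609053081606) (.lf 0))) (.nd (.nd (.lf 0) (.lf 33056565380087533273094)) (.nd (.lf 0) (.lf 0)))) (.nd (.nd (.nd (.lf 0) (.lf 4722367608769635942406)) (.nd (.lf 0) (.lf 0))) (.nd (.nd (.lf 0) (.lf 0)) (.nd (.lf 0) (.lf 0))))))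

/-- table part -/
def fmT_12 : Tr :=
  .nd (.nd (.nd (.nd (.nd (.nd (.lf 0) (.lf 14167100574508909592578)) (.nd (.lf 0) (.lf 0))) (.nd (.nd (.lf 33056567350412353470464) (.lf 28334199741642885300229)) (.nd (.lf 0) (.lf 0)))) (.nd (.nd (.nd (.lf 0) (.lf 28334198897217955168262)) (.nd (.lf 0) (.lf 0))) (.nd (.nd (.lf 1970324853751808) (.lf 23611834103198153441284)) (.nd (.lf 14167099448609053081605) (.lf 0))))) (.nd (.nd (.nd (.nd (.lf 0) (.lf 18889467901803484938240)) (.nd (.lf 0) (.lf 0))) (.nd (.nd (.lf 0) (.lf 281475094151175)) (.nd (.lf 1) (.lf 0)))) (.nd (.nd (.nd (.lf 0) (.lf 28334200586067848986631)) (.nd (.lf 0) (.lf 0))) (.nd (.nd (.lf 117440512) (.lf 0)) (.nd (.lf 33056567068937477423111) (.lf 0)))))) (.nd (.nd (.nd (.nd (.nd (.lf 0) (.lf 117440513)) (.nd (.lf 1) (.lf 0))) (.nd (.nd (.lf 0) (.lf 0)) (.nd (.lf 0) (.lf 0)))) (.nd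 (.nd (.nd (.lf 281474976710656) (.lf 18889467338853565071360)) (.nd (.lf 28334200586067848986628) (.lf 0))) (.nd (.nd (.lf 14167099448609053081600) (.lf 0)) (.nd (.lf 0) (.lf 0))))) (.nd (.nd (.nd (.nd (.lf 0) (.lf 0)) (.nd (.lf 562950054084615) (.lf 0))) (.nd (.nd (.lf 0) (.lf 16777221)) (.nd (.lf 33056567350412353470465) (.lf 0)))) (.nd (.nd (.nd (.lf 33056565380087516495872) (.lf 0)) (.nd (.lf 0) (.lf 0))) (.nd (.nd (.lf 0) (.lf 0)) (.nd (.lf 0) (.lf 0))))))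

/-- table part -/
def fmT_13 : Tr :=
  .nd fmT_11 fmT_12

/-- table part -/
def fmT_14 : Tr :=
  .nd fmT_10 fmT_13

/-- table part -/
def fmT_15 : Tr :=
  .nd fmT_7 fmT_14

/-- table part -/
def fmT_16 : Tr :=
  .nd (.nd (.nd (.nd (.nd (.nd (.lf 0) (.lf 0)) (.nd (.lf 281475094151169) (.lf 0))) (.nd (.nd (.lf 23611832414348242845698) (.lf 100663299)) (.nd (.lf 0) (.lf 0)))) (.nd (.nd (.nd (.lf 0) (.lf 4722366482869695545346)) (.nd (.lf 0) (.lf 0))) (.nd (.nd (.lf 0) (.lf 33056565943037486694404)) (.nd (.lf 9444732965739391090695) (.lf 0))))) (.nd (.nd (.nd (.nd (.lf 0) (.lf 281474993487878)) (.nd (.lf 0) (.lf 0))) (.nd (.nd (.lf 0) (.lf 14167101418933789392897)) (.nd (.lf 0) (.lf 0)))) (.nd (.nd (.nd (.lf 0) (.lf 117440514)) (.nd (.lf 0) (.lf 0))) (.nd (.nd (.lf 18889466212953675005959) (.lf 0)) (.nd (.lf 28334199460167858257920) (.lf 0))))))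 (.nd (.nd (.nd (.nd (.nd (.lf 0) (.lf 9444734936064127401984)) (.nd (.lf 0) (.lf 0))) (.nd (.nd (.lf 0) (.lf 28334200304592788389889)) (.nd (.lf 23611834384673113374723) (.lf 0)))) (.nd (.nd (.nd (.lf 0) (.lf 33056567350412470910978)) (.nd (.lf 18889466494428584607749) (.lf 0))) (.nd (.nd (.lf 33056567350412353470464) (.lf 0)) (.nd (.lf 0) (.lf 0))))) (.nd (.nd (.nd (.nd (.lf 0) (.lf 23611832977298296930309)) (.nd (.lf 33056565661562493206528) (.lf 0))) (.nd (.nd (.lf 0) (.lf 23611832695823269888007)) (.nd (.lf 0) (.lf 0)))) (.nd (.nd (.nd (.lf 0) (.lf 4722368171719622918146)) (.nd (.lf 0) (.lf 0))) (.nd (.nd (.lf 0) (.lf 0)) (.nd (.lf 23611832695823320219649) (.lf 0))))))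

/-- table part -/
def fmT_17 : Tr :=
  .nd (.nd (.nd (.nd (.nd (.nd (.lf 0) (.lf 18889466212953658228738)) (.nd (.lf 0) (.lf 0))) (.nd (.nd (.lf 14167099448609053081606) (.lf 0)) (.nd (.lf 28334200586067781877762) (.lf 0)))) (.nd (.nd (.nd (.lf 0) (.lf 18889467620328441118724)) (.nd (.lf 0) (.lf 0))) (.nd (.nd (.lf 33056565380087533273089) (.lf 14167100574508943147013)) (.nd (.lf 33056565943037469917191) (.lf 0))))) (.nd (.nd (.nd (.nd (.lf 0) (.lf 18889466494428584607748)) (.nd (.lf 0) (.lf 0))) (.nd (.nd (.lf 0) (.lf 23611832695823236333575)) (.nd (.lf 0) (.lf 0)))) (.nd (.nd (.nd (.lf 0) (.lf 1970324836974592)) (.nd (.lf 9444734654589217800193) (.lf 0))) (.nd (.nd (.lf 18889467901803434606593) (.lf 0)) (.nd (.lf 0) (.lf 0)))))) (.nd (.nd (.nd (.nd (.nd (.lf 0) (.lf 14167101137458863013891)) (.nd (.lf 0) (.lf 0))) (.nd (.nd (.lf 0) (.lf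 0)) (.nd (.lf 4722366482869762654209) (.lf 0)))) (.nd (.nd (.nd (.lf 4722366482869762654208) (.lf 0)) (.nd (.lf 100663296) (.lf 0))) (.nd (.nd (.lf 0) (.lf 0)) (.nd (.lf 4722368171719555809282) (.lf 0))))) (.nd (.nd (.nd (.nd (.lf 281474976710657) (.lf 9444732965739340759040)) (.nd (.lf 0) (.lf 0))) (.nd (.nd (.lf 0) (.lf 33056565380087516495876)) (.nd (.lf 33056566224512496959489) (.lf 0)))) (.nd (.nd (.nd (.lf 0) (.lf 28334200586067765100546)) (.nd (.lf 4722367045819699298305) (.lf 0))) (.nd (.nd (.lf 0) (.lf 0)) (.nd (.lf 0) (.lf 0))))))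

/-- table part -/
def fmT_18 : Tr :=
  .nd fmT_16 fmT_17

/-- table part -/
def fmT_19 : Tr :=
  .nd (.nd (.nd (.nd (.nd (.nd (.lf 0) (.lf 16777216)) (.nd (.lf 0) (.lf 0))) (.nd (.nd (.lf 28334198897217888059392) (.lf 9444732965739391090691)) (.nd (.lf 0) (.lf 0)))) (.nd (.nd (.nd (.lf 0) (.lf 0)) (.nd (.lf 16777217) (.lf 0))) (.nd (.nd (.lf 1) (.lf 14167100011558956171271)) (.nd (.lf 23611832414348259622913) (.lf 0))))) (.nd (.nd (.nd (.nd (.lf 0) (.lf 4722366482869762654215)) (.nd (.lf 0) (.lf 0))) (.nd (.nd (.lf 0) (.lf 14167101418933806170113)) (.nd (.lf 0) (.lf 0)))) (.nd (.nd (.nd (.lf 4722366764344621924352) (.lf 4722366764344705810432)) (.nd (.lf 33056567068937410314246) (.lf 0))) (.nd (.nd (.lf 0) (.lf 0)) (.nd (.lf 0) (.lf 0)))))) (.nd (.nd (.nd (.nd (.nd (.lf 33056565380087516495872) (.lf 28334198897217921613824)) (.nd (.lf 0)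 (.lf 0))) (.nd (.nd (.lf 1970324954415105) (.lf 14167099448608969195522)) (.nd (.lf 4722367045819699298306) (.lf 0)))) (.nd (.nd (.nd (.lf 0) (.lf 83886086)) (.nd (.lf 0) (.lf 0))) (.nd (.nd (.lf 0) (.lf 0)) (.nd (.lf 9444733810164220559363) (.lf 0))))) (.nd (.nd (.nd (.nd (.lf 0) (.lf 0)) (.nd (.lf 0) (.lf 0))) (.nd (.nd (.lf 0) (.lf 117440515)) (.nd (.lf 9444733247214267138055) (.lf 0)))) (.nd (.nd (.nd (.lf 0) (.lf 0)) (.nd (.lf 0) (.lf 0))) (.nd (.nd (.lf 4722368171719622918144) (.lf 0)) (.nd (.lf 117440518) (.lf 0))))))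

/-- table part -/
def fmT_20 : Tr :=
  .nd (.nd (.nd (.nd (.nd (.nd (.lf 0) (.lf 9444734936064127401991)) (.nd (.lf 33056565380087533273088) (.lf 0))) (.nd (.nd (.lf 0) (.lf 0)) (.nd (.lf 0) (.lf 0)))) (.nd (.nd (.nd (.lf 0) (.lf 9444733528689243848707)) (.nd (.lf 0) (.lf 0))) (.nd (.nd (.lf 0) (.lf 23611832695823236333568)) (.nd (.lf 0) (.lf 0))))) (.nd (.nd (.nd (.nd (.lf 0) (.lf 0)) (.nd (.lf 0) (.lf 0))) (.nd (.nd (.lf 33056565380087533273095) (.lf 9444734936064160956421)) (.nd (.lf 0) (.lf 0)))) (.nd (.nd (.nd (.lf 0) (.lf 33056566224512564068353)) (.nd (.lf 33056567068937410314247) (.lf 0))) (.nd (.nd (.lf 0) (.lf 0)) (.nd (.lf 1970324853751808) (.lf 0)))))) (.nd (.nd (.nd (.nd (.nd (.lf 0) (.lf 4722368453194482188288)) (.nd (.lf 0) (.lf 0))) (.nd (.nd (.lf 0) (.lf 14167101137458863013894)) (.nd (.lf 0) (.lf 0)))) (.nd (.nd (.nd (.lf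 28334200586067848986628) (.lf 28334199178692847992832)) (.nd (.lf 0) (.lf 0))) (.nd (.nd (.lf 33056565380087550050309) (.lf 0)) (.nd (.lf 4722367608769669496838) (.lf 0))))) (.nd (.nd (.nd (.nd (.lf 0) (.lf 1970324853751815)) (.nd (.lf 0) (.lf 0))) (.nd (.nd (.lf 1970324853751808) (.lf 9444732965739357536256)) (.nd (.lf 0) (.lf 0)))) (.nd (.nd (.nd (.lf 0) (.lf 0)) (.nd (.lf 0) (.lf 0))) (.nd (.nd (.lf 0) (.lf 0)) (.nd (.lf 0) (.lf 0))))))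

/-- table part -/
def fmT_21 : Tr :=
  .nd fmT_19 fmT_20

/-- table part -/
def fmT_22 : Tr :=
  .nd fmT_18 fmT_21

/-- table part -/
def fmT_23 : Tr :=
  .nd (.nd (.nd (.nd (.nd (.nd (.lf 0) (.lf 14167100011559006502919)) (.nd (.lf 0) (.lf 0))) (.nd (.nd (.lf 33056565661562493206535) (.lf 0)) (.nd (.lf 117440512) (.lf 0)))) (.nd (.nd (.nd (.lf 0) (.lf 28334198897217938391042)) (.nd (.lf 0) (.lf 0))) (.nd (.nd (.lf 0) (.lf 14167099448608985972741)) (.nd (.lf 14167099448609053081605) (.lf 0))))) (.nd (.nd (.nd (.nd (.lf 0) (.lf 4722366482869762654208)) (.nd (.lf 0) (.lf 0))) (.nd (.nd (.lf 0) (.lf 9444733810164237336581)) (.nd (.lf 0) (.lf 0)))) (.nd (.nd (.nd (.lf 1970324836974599) (.lf 18889467057378504474629)) (.nd (.lf 1970324836974592) (.lf 0))) (.nd (.nd (.lf 0) (.lf 0)) (.nd (.lf 9444734654589251354631) (.lf 0)))))) (.nd (.nd (.nd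 (.nd (.nd (.lf 0) (.lf 33056567068937376759809)) (.nd (.lf 0) (.lf 0))) (.nd (.nd (.lf 9444734936064228065282) (.lf 9444733528689344512006)) (.nd (.lf 0) (.lf 0)))) (.nd (.nd (.nd (.lf 28334200586067848986627) (.lf 0)) (.nd (.lf 0) (.lf 0))) (.nd (.nd (.lf 33056565943037486694406) (.lf 0)) (.nd (.lf 18889465931478698295303) (.lf 0))))) (.nd (.nd (.nd (.nd (.lf 0) (.lf 14167100293033865773058)) (.nd (.lf 0) (.lf 0))) (.nd (.nd (.lf 0) (.lf 18889466212953624674305)) (.nd (.lf 0) (.lf 0)))) (.nd (.nd (.nd (.lf 0) (.lf 0)) (.nd (.lf 4722366482869762654210) (.lf 0))) (.nd (.nd (.lf 0) (.lf 0)) (.nd (.lf 18889465931478631186435) (.lf 0))))))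

/-- table part -/
def fmT_24 : Tr :=
  .nd (.nd (.nd (.nd (.nd (.nd (.lf 0) (.lf 4722366764344739364866)) (.nd (.lf 0) (.lf 0))) (.nd (.nd (.lf 33056565380087516495879) (.lf 9444733528689344512001)) (.nd (.lf 16777217) (.lf 0)))) (.nd (.nd (.nd (.lf 0) (.lf 14167101137458812682241)) (.nd (.lf 0) (.lf 0))) (.nd (.nd (.lf 9444732965739391090694) (.lf 23611832414348276400129)) (.nd (.lf 23611832414348242845698) (.lf 0))))) (.nd (.nd (.nd (.nd (.lf 0) (.lf 1970324887306246)) (.nd (.lf 18889465931478597632007) (.lf 0))) (.nd (.nd (.lf 0) (.lf 9444733528689310957568)) (.nd (.lf 14167099448608952418309) (.lf 0)))) (.nd (.nd (.nd (.lf 0) (.lf 23611832695823202779136)) (.nd (.lf 0) (.lf 0))) (.nd (.nd (.lf 0) (.lf 0)) (.nd (.lf 0) (.lf 0)))))) (.nd (.nd (.nd (.nd (.nd (.lf 0) (.lf 1970324937637889)) (.nd (.lf 9444732965739407867904) (.lf 0))) (.nd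 (.nd (.lf 0) (.lf 33056567350412370247686)) (.nd (.lf 9444732965739374313472) (.lf 0)))) (.nd (.nd (.nd (.lf 0) (.lf 0)) (.nd (.lf 0) (.lf 0))) (.nd (.nd (.lf 18889466212953675005958) (.lf 0)) (.nd (.lf 28334200304592754835461) (.lf 0))))) (.nd (.nd (.nd (.nd (.lf 0) (.lf 9444733528689260625924)) (.nd (.lf 0) (.lf 0))) (.nd (.nd (.lf 0) (.lf 1970324870529031)) (.nd (.lf 0) (.lf 0)))) (.nd (.nd (.nd (.lf 0) (.lf 562949986975746)) (.nd (.lf 0) (.lf 0))) (.nd (.nd (.lf 23611834103198119886849) (.lf 0)) (.nd (.lf 0) (.lf 0))))))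

/-- table part -/
def fmT_25 : Tr :=
  .nd fmT_23 fmT_24

/-- table part -/
def fmT_26 : Tr :=
  .nd (.nd (.nd (.nd (.nd (.nd (.lf 0) (.lf 33056565661562610647042)) (.nd (.lf 0) (.lf 0))) (.nd (.nd (.lf 0) (.lf 0)) (.nd (.lf 28334198897217904836609) (.lf 0)))) (.nd (.nd (.nd (.lf 0) (.lf 5)) (.nd (.lf 0) (.lf 0))) (.nd (.nd (.lf 0) (.lf 28334199178692915101698)) (.nd (.lf 18889465931478614409216) (.lf 0))))) (.nd (.nd (.nd (.nd (.lf 0) (.lf 1970324870529031)) (.nd (.lf 18889466212953658228743) (.lf 0))) (.nd (.nd (.lf 281474976710656) (.lf 1970324853751814)) (.nd (.lf 0) (.lf 0)))) (.nd (.nd (.nd (.lf 0) (.lf 14167101418933890056197)) (.nd (.lf 0) (.lf 0))) (.nd (.nd (.lf 0) (.lf 0)) (.nd (.lf 28334198897217871282177) (.lf 0)))))) (.nd (.nd (.nd (.nd (.nd (.lf 0) (.lf 28334198897217904836611)) (.nd (.lf 33056565661562610647044) (.lf 0)))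 (.nd (.nd (.lf 4722368453194482188289) (.lf 33056565380087566827525)) (.nd (.lf 281475094151168) (.lf 0)))) (.nd (.nd (.nd (.lf 0) (.lf 0)) (.nd (.lf 33056567350412370247682) (.lf 0))) (.nd (.nd (.lf 0) (.lf 0)) (.nd (.lf 844424980463620) (.lf 0))))) (.nd (.nd (.nd (.nd (.lf 14167099448609053081606) (.lf 18889466212953607897090)) (.nd (.lf 0) (.lf 0))) (.nd (.nd (.lf 0) (.lf 9444733810164220559367)) (.nd (.lf 0) (.lf 0)))) (.nd (.nd (.nd (.lf 9444733528689260625924) (.lf 9444733528689344512003)) (.nd (.lf 33056565661562493206535) (.lf 0))) (.nd (.nd (.lf 0) (.lf 0)) (.nd (.lf 18889467620328525004804) (.lf 0))))))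

/-- table part -/
def fmT_27 : Tr :=
  .nd (.nd (.nd (.nd (.nd (.nd (.lf 4722366482869645213696) (.lf 0)) (.nd (.lf 0) (.lf 0))) (.nd (.nd (.lf 0) (.lf 9444733528689277403137)) (.nd (.lf 28334198897217904836610) (.lf 0)))) (.nd (.nd (.nd (.lf 0) (.lf 0)) (.nd (.lf 0) (.lf 0))) (.nd (.nd (.lf 0) (.lf 28334200023117845233668)) (.nd (.lf 14167099448609036304391) (.lf 0))))) (.nd (.nd (.nd (.nd (.lf 0) (.lf 4722368453194566074375)) (.nd (.lf 0) (.lf 0))) (.nd (.nd (.lf 0) (.lf 9444733247214334246918)) (.nd (.lf 14167099730083996237824) (.lf 0)))) (.nd (.nd (.nd (.lf 0) (.lf 0)) (.nd (.lf 0) (.lf 0))) (.nd (.nd (.lf 4722366764344739364870) (.lf 0)) (.nd (.lf 0) (.lf 0)))))) (.nd (.nd (.nd (.nd (.nd (.lf 0) (.lf 281475060596738)) (.nd (.lf 117440512) (.lf 0))) (.nd (.nd (.lf 0) (.lf 14167101137458846236674)) (.nd (.lf 0) (.lf 0)))) (.nd (.nd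 (.nd (.lf 0) (.lf 14167099448609036304391)) (.nd (.lf 18889465931478614409217) (.lf 0))) (.nd (.nd (.lf 0) (.lf 0)) (.nd (.lf 18889465931478698295297) (.lf 0))))) (.nd (.nd (.nd (.nd (.lf 0) (.lf 14167100011558972948485)) (.nd (.lf 0) (.lf 0))) (.nd (.nd (.lf 0) (.lf 18889465931478698295301)) (.nd (.lf 0) (.lf 0)))) (.nd (.nd (.nd (.lf 0) (.lf 33056565380087516495878)) (.nd (.lf 4722367045819598635009) (.lf 0))) (.nd (.nd (.lf 0) (.lf 0)) (.nd (.lf 0) (.lf 0))))))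

/-- table part -/
def fmT_28 : Tr :=
  .nd fmT_26 fmT_27

/-- table part -/
def fmT_29 : Tr :=
  .nd fmT_25 fmT_28

/-- table part -/
def fmT_30 : Tr :=
  .nd fmT_22 fmT_29

/-- table part -/
def fmT_31 : Tr :=
  .nd fmT_15 fmT_30

/-- table -/
def fmT : Tr :=
  fmT_31

/-- table part -/
def rkT_1 : Tr :=
  .nd (.nd (.nd (.nd (.nd (.nd (.lf 58) (.lf 0)) (.nd (.lf 71) (.lf 0))) (.nd (.nd (.lf 0) (.lf 51)) (.nd (.lf 0) (.lf 0)))) (.nd (.nd (.nd (.lf 12) (.lf 196)) (.nd (.lf 102) (.lf 0))) (.nd (.nd (.lf 296) (.lf 11)) (.nd (.lf 204) (.lf 0))))) (.nd (.nd (.nd (.nd (.lf 0) (.lf 0)) (.nd (.lf 123) (.lf 0))) (.nd (.nd (.lf 0) (.lf 298)) (.nd (.lf 0) (.lf 0)))) (.nd (.nd (.nd (.lf 0) (.lf 341)) (.nd (.lf 40) (.lf 0))) (.nd (.nd (.lf 0) (.lf 0)) (.nd (.lf 285) (.lf 0)))))) (.nd (.nd (.nd (.nd (.nd (.lf 0) (.lf 0)) (.nd (.lf 0) (.lf 0))) (.nd (.nd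 (.lf 111) (.lf 0)) (.nd (.lf 317) (.lf 0)))) (.nd (.nd (.nd (.lf 100) (.lf 0)) (.nd (.lf 0) (.lf 0))) (.nd (.nd (.lf 76) (.lf 0)) (.nd (.lf 0) (.lf 0))))) (.nd (.nd (.nd (.nd (.lf 0) (.lf 312)) (.nd (.lf 0) (.lf 0))) (.nd (.nd (.lf 0) (.lf 319)) (.nd (.lf 184) (.lf 0)))) (.nd (.nd (.nd (.lf 0) (.lf 266)) (.nd (.lf 94) (.lf 0))) (.nd (.nd (.lf 0) (.lf 0)) (.nd (.lf 106) (.lf 0))))))

/-- table part -/
def rkT_2 : Tr :=
  .nd (.nd (.nd (.nd (.nd (.nd (.lf 0) (.lf 0)) (.nd (.lf 69) (.lf 0))) (.nd (.nd (.lf 0) (.lf 187)) (.nd (.lf 0) (.lf 0)))) (.nd (.nd (.nd (.lf 0) (.lf 224)) (.nd (.lf 323) (.lf 0))) (.nd (.nd (.lf 0) (.lf 304)) (.nd (.lf 191) (.lf 0))))) (.nd (.nd (.nd (.nd (.lf 0) (.lf 0)) (.nd (.lf 0) (.lf 0))) (.nd (.nd (.lf 95) (.lf 0)) (.nd (.lf 337) (.lf 0)))) (.nd (.nd (.nd (.lf 0) (.lf 327)) (.nd (.lf 131) (.lf 0))) (.nd (.nd (.lf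 41) (.lf 0)) (.nd (.lf 218) (.lf 0)))))) (.nd (.nd (.nd (.nd (.nd (.lf 32) (.lf 227)) (.nd (.lf 0) (.lf 0))) (.nd (.nd (.lf 79) (.lf 151)) (.nd (.lf 80) (.lf 0)))) (.nd (.nd (.nd (.lf 8) (.lf 249)) (.nd (.lf 0) (.lf 0))) (.nd (.nd (.lf 0) (.lf 0)) (.nd (.lf 208) (.lf 0))))) (.nd (.nd (.nd (.nd (.lf 0) (.lf 210)) (.nd (.lf 0) (.lf 0))) (.nd (.nd (.lf 0) (.lf 242)) (.nd (.lf 282) (.lf 0)))) (.nd (.nd (.nd (.lf 0) (.lf 0)) (.nd (.lf 83) (.lf 0))) (.nd (.nd (.lf 84) (.lf 0)) (.nd (.lf 0) (.lf 0))))))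

/-- table part -/
def rkT_3 : Tr :=
  .nd rkT_1 rkT_2

/-- table part -/
def rkT_4 : Tr :=
  .nd (.nd (.nd (.nd (.nd (.nd (.lf 0) (.lf 0)) (.nd (.lf 165) (.lf 0))) (.nd (.nd (.lf 92) (.lf 0)) (.nd (.lf 223) (.lf 0)))) (.nd (.nd (.nd (.lf 0) (.lf 338)) (.nd (.lf 0) (.lf 0))) (.nd (.nd (.lf 0) (.lf 50)) (.nd (.lf 256) (.lf 0))))) (.nd (.nd (.nd (.nd (.lf 0) (.lf 222)) (.nd (.lf 0) (.lf 0))) (.nd (.nd (.lf 0) (.lf 245)) (.nd (.lf 18) (.lf 0)))) (.nd (.nd (.nd (.lf 121) (.lf 0)) (.nd (.lf 236) (.lf 0))) (.nd (.nd (.lf 0) (.lf 0)) (.nd (.lf 110) (.lf 0)))))) (.nd (.nd (.nd (.nd (.nd (.lf 0) (.lf 0)) (.nd (.lf 0) (.lf 0))) (.nd (.nd (.lf 0) (.lf 253)) (.nd (.lf 0) (.lf 0)))) (.nd (.nd (.nd (.lf 0) (.lf 0)) (.nd (.lf 0) (.lf 0))) (.nd (.nd (.lf 73) (.lf 0)) (.nd (.lf 351) (.lf 0))))) (.nd (.nd (.nd (.nd (.lf 0) (.lf 336)) (.nd (.lf 0) (.lf 0)))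 (.nd (.nd (.lf 0) (.lf 335)) (.nd (.lf 251) (.lf 0)))) (.nd (.nd (.nd (.lf 145) (.lf 287)) (.nd (.lf 39) (.lf 0))) (.nd (.nd (.lf 0) (.lf 0)) (.nd (.lf 0) (.lf 0))))))

/-- table part -/
def rkT_5 : Tr :=
  .nd (.nd (.nd (.nd (.nd (.nd (.lf 0) (.lf 0)) (.nd (.lf 0) (.lf 0))) (.nd (.nd (.lf 0) (.lf 0)) (.nd (.lf 0) (.lf 0)))) (.nd (.nd (.nd (.lf 0) (.lf 0)) (.nd (.lf 0) (.lf 0))) (.nd (.nd (.lf 185) (.lf 284)) (.nd (.lf 180) (.lf 0))))) (.nd (.nd (.nd (.nd (.lf 0) (.lf 0)) (.nd (.lf 295) (.lf 0))) (.nd (.nd (.lf 14) (.lf 212)) (.nd (.lf 0) (.lf 0)))) (.nd (.nd (.nd (.lf 52) (.lf 114)) (.nd (.lf 0) (.lf 0))) (.nd (.nd (.lf 0) (.lf 0)) (.nd (.lf 244) (.lf 0)))))) (.nd (.nd (.nd (.nd (.nd (.lf 0) (.lf 152)) (.nd (.lf 56) (.lf 0))) (.nd (.nd (.lf 0) (.lf 274)) (.nd (.lf 0) (.lf 0)))) (.nd (.nd (.nd (.lf 0) (.lf 48)) (.nd (.lf 0) (.lf 0))) (.nd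 (.nd (.lf 0) (.lf 0)) (.nd (.lf 134) (.lf 0))))) (.nd (.nd (.nd (.nd (.lf 0) (.lf 252)) (.nd (.lf 75) (.lf 0))) (.nd (.nd (.lf 0) (.lf 24)) (.nd (.lf 0) (.lf 0)))) (.nd (.nd (.nd (.lf 0) (.lf 148)) (.nd (.lf 213) (.lf 0))) (.nd (.nd (.lf 0) (.lf 0)) (.nd (.lf 235) (.lf 0))))))

/-- table part -/
def rkT_6 : Tr :=
  .nd rkT_4 rkT_5

/-- table part -/
def rkT_7 : Tr :=
  .nd rkT_3 rkT_6

/-- table part -/
def rkT_8 : Tr :=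
  .nd (.nd (.nd (.nd (.nd (.nd (.lf 0) (.lf 155)) (.nd (.lf 0) (.lf 0))) (.nd (.nd (.lf 0) (.lf 0)) (.nd (.lf 23) (.lf 0)))) (.nd (.nd (.nd (.lf 0) (.lf 0)) (.nd (.lf 0) (.lf 0))) (.nd (.nd (.lf 0) (.lf 314)) (.nd (.lf 262) (.lf 0))))) (.nd (.nd (.nd (.nd (.lf 0) (.lf 174)) (.nd (.lf 0) (.lf 0))) (.nd (.nd (.lf 0) (.lf 280)) (.nd (.lf 0) (.lf 0)))) (.nd (.nd (.nd (.lf 0) (.lf 0)) (.nd (.lf 149) (.lf 0))) (.nd (.nd (.lf 0) (.lf 0)) (.nd (.lf 109) (.lf 0)))))) (.nd (.nd (.nd (.nd (.nd (.lf 0) (.lf 0)) (.nd (.lf 0) (.lf 0))) (.nd (.nd (.lf 0) (.lf 352)) (.nd (.lf 43) (.lf 0)))) (.nd (.nd (.nd (.lf 0) (.lf 156)) (.nd (.lf 0) (.lf 0))) (.nd (.nd (.lf 0) (.lf 0)) (.nd (.lf 0) (.lf 0))))) (.nd (.nd (.nd (.nd (.lf 0) (.lf 246)) (.nd (.lf 9) (.lf 0))) (.nd (.nd (.lf 183) (.lf 193)) (.nd (.lf 117) (.lf 0)))) (.nd (.nd (.nd (.lf 0) (.lf 203)) (.nd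 (.lf 37) (.lf 0))) (.nd (.nd (.lf 0) (.lf 0)) (.nd (.lf 182) (.lf 0))))))

/-- table part -/
def rkT_9 : Tr :=
  .nd (.nd (.nd (.nd (.nd (.nd (.lf 0) (.lf 0)) (.nd (.lf 0) (.lf 0))) (.nd (.nd (.lf 0) (.lf 15)) (.nd (.lf 17) (.lf 0)))) (.nd (.nd (.nd (.lf 0) (.lf 164)) (.nd (.lf 166) (.lf 0))) (.nd (.nd (.lf 0) (.lf 350)) (.nd (.lf 0) (.lf 0))))) (.nd (.nd (.nd (.nd (.lf 0) (.lf 0)) (.nd (.lf 0) (.lf 0))) (.nd (.nd (.lf 0) (.lf 302)) (.nd (.lf 0) (.lf 0)))) (.nd (.nd (.nd (.lf 13) (.lf 150)) (.nd (.lf 0) (.lf 0))) (.nd (.nd (.lf 0) (.lf 0)) (.nd (.lf 96) (.lf 0)))))) (.nd (.nd (.nd (.nd (.nd (.lf 0) (.lf 0)) (.nd (.lf 82) (.lf 0))) (.nd (.nd (.lf 139) (.lf 178)) (.nd (.lf 59) (.lf 0)))) (.nd (.nd (.nd (.lf 0) (.lf 360)) (.nd (.lf 167) (.lf 0))) (.nd (.nd (.lf 0) (.lf 0)) (.nd (.lf 19) (.lf 0))))) (.nd (.nd (.nd (.nd (.lf 0) (.lf 162)) (.nd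 (.lf 0) (.lf 0))) (.nd (.nd (.lf 0) (.lf 90)) (.nd (.lf 289) (.lf 0)))) (.nd (.nd (.nd (.lf 0) (.lf 240)) (.nd (.lf 173) (.lf 0))) (.nd (.nd (.lf 49) (.lf 0)) (.nd (.lf 0) (.lf 0))))))

/-- table part -/
def rkT_10 : Tr :=
  .nd rkT_8 rkT_9

/-- table part -/
def rkT_11 : Tr :=
  .nd (.nd (.nd (.nd (.nd (.nd (.lf 0) (.lf 0)) (.nd (.lf 44) (.lf 0))) (.nd (.nd (.lf 0) (.lf 0)) (.nd (.lf 0) (.lf 0)))) (.nd (.nd (.nd (.lf 0) (.lf 321)) (.nd (.lf 230) (.lf 0))) (.nd (.nd (.lf 0) (.lf 345)) (.nd (.lf 0) (.lf 0))))) (.nd (.nd (.nd (.nd (.lf 0) (.lf 255)) (.nd (.lf 16) (.lf 0))) (.nd (.nd (.lf 0) (.lf 211)) (.nd (.lf 0) (.lf 0)))) (.nd (.nd (.nd (.lf 0) (.lf 347)) (.nd (.lf 0) (.lf 0))) (.nd (.nd (.lf 0) (.lf 0)) (.nd (.lf 107) (.lf 0)))))) (.nd (.nd (.nd (.nd (.nd (.lf 0) (.lf 0)) (.nd (.lf 0) (.lf 0))) (.nd (.nd (.lf 0) (.lf 355)) (.nd (.lf 10)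 (.lf 0)))) (.nd (.nd (.nd (.lf 0) (.lf 0)) (.nd (.lf 231) (.lf 0))) (.nd (.nd (.lf 86) (.lf 0)) (.nd (.lf 233) (.lf 0))))) (.nd (.nd (.nd (.nd (.lf 20) (.lf 305)) (.nd (.lf 87) (.lf 0))) (.nd (.nd (.lf 0) (.lf 229)) (.nd (.lf 0) (.lf 0)))) (.nd (.nd (.nd (.lf 0) (.lf 331)) (.nd (.lf 0) (.lf 0))) (.nd (.nd (.lf 0) (.lf 0)) (.nd (.lf 0) (.lf 0))))))

/-- table part -/
def rkT_12 : Tr :=
  .nd (.nd (.nd (.nd (.nd (.nd (.lf 0) (.lf 293)) (.nd (.lf 0) (.lf 0))) (.nd (.nd (.lf 81) (.lf 349)) (.nd (.lf 0) (.lf 0)))) (.nd (.nd (.nd (.lf 0) (.lf 217)) (.nd (.lf 0) (.lf 0))) (.nd (.nd (.lf 35) (.lf 340)) (.nd (.lf 163) (.lf 0))))) (.nd (.nd (.nd (.nd (.lf 0) (.lf 354)) (.nd (.lf 0) (.lf 0))) (.nd (.nd (.lf 0) (.lf 46)) (.nd (.lf 124) (.lf 0)))) (.nd (.nd (.nd (.lf 0) (.lf 160)) (.nd (.lf 0) (.lf 0))) (.nd (.nd (.lf 169) (.lf 0)) (.nd (.lf 258) (.lf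 0)))))) (.nd (.nd (.nd (.nd (.nd (.lf 0) (.lf 175)) (.nd (.lf 22) (.lf 0))) (.nd (.nd (.lf 0) (.lf 0)) (.nd (.lf 0) (.lf 0)))) (.nd (.nd (.nd (.lf 31) (.lf 219)) (.nd (.lf 158) (.lf 0))) (.nd (.nd (.lf 119) (.lf 0)) (.nd (.lf 0) (.lf 0))))) (.nd (.nd (.nd (.nd (.lf 0) (.lf 0)) (.nd (.lf 234) (.lf 0))) (.nd (.nd (.lf 0) (.lf 257)) (.nd (.lf 205) (.lf 0)))) (.nd (.nd (.nd (.lf 53) (.lf 0)) (.nd (.lf 0) (.lf 0))) (.nd (.nd (.lf 0) (.lf 0)) (.nd (.lf 0) (.lf 0))))))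

/-- table part -/
def rkT_13 : Tr :=
  .nd rkT_11 rkT_12

/-- table part -/
def rkT_14 : Tr :=
  .nd rkT_10 rkT_13

/-- table part -/
def rkT_15 : Tr :=
  .nd rkT_7 rkT_14

/-- table part -/
def rkT_16 : Tr :=
  .nd (.nd (.nd (.nd (.nd (.nd (.lf 0) (.lf 0)) (.nd (.lf 140) (.lf 0))) (.nd (.nd (.lf 74) (.lf 344)) (.nd (.lf 0) (.lf 0)))) (.nd (.nd (.nd (.lf 0) (.lf 263)) (.nd (.lf 0) (.lf 0))) (.nd (.nd (.lf 0) (.lf 353)) (.nd (.lf 153) (.lf 0))))) (.nd (.nd (.nd (.nd (.lf 0) (.lf 129)) (.nd (.lf 0) (.lf 0))) (.nd (.nd (.lf 0) (.lf 356)) (.nd (.lf 30) (.lf 0)))) (.nd (.nd (.nd (.lf 0) (.lf 47)) (.nd (.lf 0) (.lf 0))) (.nd (.nd (.lf 142) (.lf 0)) (.nd (.lf 225) (.lf 0)))))) (.nd (.nd (.nd (.nd (.nd (.lf 0) (.lf 237)) (.nd (.lf 0) (.lf 0))) (.nd (.nd (.lf 0) (.lf 294)) (.nd (.lf 275) (.lf 0)))) (.nd (.nd (.nd (.lf 1) (.lf 194)) (.nd (.lf 307)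 (.lf 0))) (.nd (.nd (.lf 63) (.lf 0)) (.nd (.lf 0) (.lf 0))))) (.nd (.nd (.nd (.nd (.lf 0) (.lf 214)) (.nd (.lf 286) (.lf 0))) (.nd (.nd (.lf 0) (.lf 291)) (.nd (.lf 0) (.lf 0)))) (.nd (.nd (.nd (.lf 0) (.lf 115)) (.nd (.lf 0) (.lf 0))) (.nd (.nd (.lf 0) (.lf 0)) (.nd (.lf 328) (.lf 0))))))

/-- table part -/
def rkT_17 : Tr :=
  .nd (.nd (.nd (.nd (.nd (.nd (.lf 0) (.lf 306)) (.nd (.lf 0) (.lf 0))) (.nd (.nd (.lf 118) (.lf 0)) (.nd (.lf 324) (.lf 0)))) (.nd (.nd (.nd (.lf 0) (.lf 318)) (.nd (.lf 0) (.lf 0))) (.nd (.nd (.lf 288) (.lf 333)) (.nd (.lf 215) (.lf 0))))) (.nd (.nd (.nd (.nd (.lf 0) (.lf 170)) (.nd (.lf 0) (.lf 0))) (.nd (.nd (.lf 0) (.lf 348)) (.nd (.lf 0) (.lf 0)))) (.nd (.nd (.nd (.lf 0) (.lf 334)) (.nd (.lf 216) (.lf 0))) (.nd (.nd (.lf 120) (.lf 0)) (.nd (.lf 0) (.lf 0)))))) (.nd (.nd (.nd (.nd (.nd (.lf 0) (.lf 277)) (.nd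 (.lf 0) (.lf 0))) (.nd (.nd (.lf 0) (.lf 0)) (.nd (.lf 101) (.lf 0)))) (.nd (.nd (.nd (.lf 61) (.lf 128)) (.nd (.lf 112) (.lf 0))) (.nd (.nd (.lf 26) (.lf 0)) (.nd (.lf 228) (.lf 0))))) (.nd (.nd (.nd (.nd (.lf 38) (.lf 241)) (.nd (.lf 0) (.lf 0))) (.nd (.nd (.lf 3) (.lf 359)) (.nd (.lf 316) (.lf 0)))) (.nd (.nd (.nd (.lf 0) (.lf 281)) (.nd (.lf 181) (.lf 0))) (.nd (.nd (.lf 0) (.lf 0)) (.nd (.lf 0) (.lf 0))))))

/-- table part -/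
def rkT_18 : Tr :=
  .nd rkT_16 rkT_17

/-- table part -/
def rkT_19 : Tr :=
  .nd (.nd (.nd (.nd (.nd (.nd (.lf 0) (.lf 198)) (.nd (.lf 0) (.lf 0))) (.nd (.nd (.lf 67) (.lf 226)) (.nd (.lf 0) (.lf 0)))) (.nd (.nd (.nd (.lf 0) (.lf 0)) (.nd (.lf 190) (.lf 0))) (.nd (.nd (.lf 21) (.lf 136)) (.nd (.lf 172) (.lf 0))))) (.nd (.nd (.nd (.nd (.lf 0) (.lf 62)) (.nd (.lf 0) (.lf 0))) (.nd (.nd (.lf 0) (.lf 315)) (.nd (.lf 0) (.lf 0)))) (.nd (.nd (.nd (.lf 70) (.lf 267)) (.nd (.lf 207) (.lf 0))) (.nd (.nd (.lf 0) (.lf 0)) (.nd (.lf 7) (.lf 0)))))) (.nd (.nd (.nd (.nd (.nd (.lf 54) (.lf 89)) (.nd (.lf 0) (.lf 0))) (.nd (.nd (.lf 45) (.lf 254)) (.nd (.lf 199) (.lf 0)))) (.nd (.nd (.nd (.lf 0) (.lf 268)) (.nd (.lf 0) (.lf 0))) (.nd (.nd (.lf 0) (.lf 0)) (.nd (.lf 325) (.lf 0))))) (.nd (.nd (.nd (.nd (.lf 0) (.lf 0)) (.nd (.lf 0) (.lf 0))) (.nd (.nd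 (.lf 0) (.lf 358)) (.nd (.lf 186) (.lf 0)))) (.nd (.nd (.nd (.lf 0) (.lf 0)) (.nd (.lf 0) (.lf 0))) (.nd (.nd (.lf 85) (.lf 0)) (.nd (.lf 188) (.lf 0))))))

/-- table part -/
def rkT_20 : Tr :=
  .nd (.nd (.nd (.nd (.nd (.nd (.lf 0) (.lf 239)) (.nd (.lf 66) (.lf 0))) (.nd (.nd (.lf 0) (.lf 0)) (.nd (.lf 0) (.lf 0)))) (.nd (.nd (.nd (.lf 0) (.lf 238)) (.nd (.lf 0) (.lf 0))) (.nd (.nd (.lf 0) (.lf 332)) (.nd (.lf 0) (.lf 0))))) (.nd (.nd (.nd (.nd (.lf 0) (.lf 0)) (.nd (.lf 4) (.lf 0))) (.nd (.nd (.lf 68) (.lf 264)) (.nd (.lf 6) (.lf 0)))) (.nd (.nd (.nd (.lf 0) (.lf 269)) (.nd (.lf 206) (.lf 0))) (.nd (.nd (.lf 0) (.lf 0)) (.nd (.lf 201) (.lf 0)))))) (.nd (.nd (.nd (.nd (.nd (.lf 0) (.lf 303)) (.nd (.lf 0) (.lf 0))) (.nd (.nd (.lf 0) (.lf 259)) (.nd (.lf 0) (.lf 0)))) (.nd (.nd (.nd (.lf 116) (.lf 209)) (.nd (.lf 0) (.lf 0))) (.nd (.nd (.lf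 290) (.lf 0)) (.nd (.lf 157) (.lf 0))))) (.nd (.nd (.nd (.nd (.lf 0) (.lf 161)) (.nd (.lf 0) (.lf 0))) (.nd (.nd (.lf 42) (.lf 104)) (.nd (.lf 27) (.lf 0)))) (.nd (.nd (.nd (.lf 2) (.lf 0)) (.nd (.lf 0) (.lf 0))) (.nd (.nd (.lf 0) (.lf 0)) (.nd (.lf 0) (.lf 0))))))

/-- table part -/
def rkT_21 : Tr :=
  .nd rkT_19 rkT_20

/-- table part -/
def rkT_22 : Tr :=
  .nd rkT_18 rkT_21

/-- table part -/
def rkT_23 : Tr :=
  .nd (.nd (.nd (.nd (.nd (.nd (.lf 0) (.lf 97)) (.nd (.lf 0) (.lf 0))) (.nd (.nd (.lf 64) (.lf 0)) (.nd (.lf 29) (.lf 0)))) (.nd (.nd (.nd (.lf 0) (.lf 342)) (.nd (.lf 0) (.lf 0))) (.nd (.nd (.lf 0) (.lf 279)) (.nd (.lf 88) (.lf 0))))) (.nd (.nd (.nd (.nd (.lf 0) (.lf 77)) (.nd (.lf 0) (.lf 0))) (.nd (.nd (.lf 25) (.lf 311)) (.nd (.lf 0) (.lf 0)))) (.nd (.nd (.nd (.lf 34) (.lf 339)) (.nd (.lf 33) (.lf 0))) (.nd (.nd (.lf 0)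 (.lf 0)) (.nd (.lf 133) (.lf 0)))))) (.nd (.nd (.nd (.nd (.nd (.lf 0) (.lf 99)) (.nd (.lf 0) (.lf 0))) (.nd (.nd (.lf 108) (.lf 313)) (.nd (.lf 5) (.lf 0)))) (.nd (.nd (.nd (.lf 159) (.lf 0)) (.nd (.lf 0) (.lf 0))) (.nd (.nd (.lf 98) (.lf 0)) (.nd (.lf 143) (.lf 0))))) (.nd (.nd (.nd (.nd (.lf 0) (.lf 271)) (.nd (.lf 0) (.lf 0))) (.nd (.nd (.lf 0) (.lf 292)) (.nd (.lf 0) (.lf 0)))) (.nd (.nd (.nd (.lf 0) (.lf 0)) (.nd (.lf 177) (.lf 0))) (.nd (.nd (.lf 0) (.lf 0)) (.nd (.lf 247) (.lf 0))))))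

/-- table part -/
def rkT_24 : Tr :=
  .nd (.nd (.nd (.nd (.nd (.nd (.lf 0) (.lf 250)) (.nd (.lf 0) (.lf 0))) (.nd (.nd (.lf 55) (.lf 283)) (.nd (.lf 265) (.lf 0)))) (.nd (.nd (.nd (.lf 0) (.lf 189)) (.nd (.lf 0) (.lf 0))) (.nd (.nd (.lf 103) (.lf 320)) (.nd (.lf 141) (.lf 0))))) (.nd (.nd (.nd (.nd (.lf 0) (.lf 202)) (.nd (.lf 146) (.lf 0))) (.nd (.nd (.lf 0) (.lf 326)) (.nd (.lf 297) (.lf 0)))) (.nd (.nd (.nd (.lf 0) (.lf 276)) (.nd (.lf 0) (.lf 0))) (.nd (.nd (.lf 0) (.lf 0)) (.nd (.lf 0) (.lf 0)))))) (.nd (.nd (.nd (.nd (.nd (.lf 0) (.lf 308)) (.nd (.lf 60) (.lf 0))) (.nd (.nd (.lf 0) (.lf 220)) (.nd (.lf 78) (.lf 0)))) (.nd (.nd (.nd (.lf 0) (.lf 0)) (.nd (.lf 0) (.lf 0))) (.nd (.nd (.lf 144) (.lf 0)) (.nd (.lf 300) (.lf 0))))) (.nd (.nd (.nd (.nd (.lf 0) (.lf 138)) (.nd (.lf 0) (.lf 0))) (.nd (.nd (.lf 0) (.lf 232)) (.nd (.lf 0) (.lf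 0)))) (.nd (.nd (.nd (.lf 0) (.lf 301)) (.nd (.lf 0) (.lf 0))) (.nd (.nd (.lf 113) (.lf 0)) (.nd (.lf 0) (.lf 0))))))

/-- table part -/
def rkT_25 : Tr :=
  .nd rkT_23 rkT_24

/-- table part -/
def rkT_26 : Tr :=
  .nd (.nd (.nd (.nd (.nd (.nd (.lf 0) (.lf 195)) (.nd (.lf 0) (.lf 0))) (.nd (.nd (.lf 0) (.lf 0)) (.nd (.lf 127) (.lf 0)))) (.nd (.nd (.nd (.lf 0) (.lf 299)) (.nd (.lf 0) (.lf 0))) (.nd (.nd (.lf 0) (.lf 309)) (.nd (.lf 197) (.lf 0))))) (.nd (.nd (.nd (.nd (.lf 0) (.lf 221)) (.nd (.lf 322) (.lf 0))) (.nd (.nd (.lf 36) (.lf 243)) (.nd (.lf 0) (.lf 0)))) (.nd (.nd (.nd (.lf 0) (.lf 346)) (.nd (.lf 0) (.lf 0))) (.nd (.nd (.lf 0) (.lf 0)) (.nd (.lf 130) (.lf 0)))))) (.nd (.nd (.nd (.nd (.nd (.lf 0) (.lf 126)) (.nd (.lf 93) (.lf 0))) (.nd (.nd (.lf 72) (.lf 343)) (.nd (.lf 176) (.lf 0)))) (.nd (.nd (.nd (.lf 0) (.lf 154)) (.nd (.lf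 91) (.lf 0))) (.nd (.nd (.lf 0) (.lf 0)) (.nd (.lf 272) (.lf 0))))) (.nd (.nd (.nd (.nd (.lf 65) (.lf 329)) (.nd (.lf 0) (.lf 0))) (.nd (.nd (.lf 0) (.lf 260)) (.nd (.lf 0) (.lf 0)))) (.nd (.nd (.nd (.lf 137) (.lf 330)) (.nd (.lf 122) (.lf 0))) (.nd (.nd (.lf 0) (.lf 0)) (.nd (.lf 192) (.lf 0))))))

/-- table part -/
def rkT_27 : Tr :=
  .nd (.nd (.nd (.nd (.nd (.nd (.lf 57) (.lf 0)) (.nd (.lf 0) (.lf 0))) (.nd (.nd (.lf 0) (.lf 310)) (.nd (.lf 125) (.lf 0)))) (.nd (.nd (.nd (.lf 0) (.lf 0)) (.nd (.lf 0) (.lf 0))) (.nd (.nd (.lf 0) (.lf 361)) (.nd (.lf 147) (.lf 0))))) (.nd (.nd (.nd (.nd (.lf 0) (.lf 273)) (.nd (.lf 0) (.lf 0))) (.nd (.nd (.lf 0) (.lf 179)) (.nd (.lf 278) (.lf 0)))) (.nd (.nd (.nd (.lf 0) (.lf 0)) (.nd (.lf 0) (.lf 0))) (.nd (.nd (.lf 105) (.lf 0)) (.nd (.lf 0) (.lf 0)))))) (.nd (.nd (.nd (.nd (.nd (.lf 0) (.lf 200)) (.nd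 (.lf 28) (.lf 0))) (.nd (.nd (.lf 0) (.lf 248)) (.nd (.lf 0) (.lf 0)))) (.nd (.nd (.nd (.lf 0) (.lf 270)) (.nd (.lf 168) (.lf 0))) (.nd (.nd (.lf 0) (.lf 0)) (.nd (.lf 171) (.lf 0))))) (.nd (.nd (.nd (.nd (.lf 0) (.lf 135)) (.nd (.lf 0) (.lf 0))) (.nd (.nd (.lf 0) (.lf 357)) (.nd (.lf 0) (.lf 0)))) (.nd (.nd (.nd (.lf 0) (.lf 261)) (.nd (.lf 132) (.lf 0))) (.nd (.nd (.lf 0) (.lf 0)) (.nd (.lf 0) (.lf 0))))))

/-- table part -/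
def rkT_28 : Tr :=
  .nd rkT_26 rkT_27

/-- table part -/
def rkT_29 : Tr :=
  .nd rkT_25 rkT_28

/-- table part -/
def rkT_30 : Tr :=
  .nd rkT_22 rkT_29

/-- table part -/
def rkT_31 : Tr :=
  .nd rkT_15 rkT_30

/-- table -/
def rkT : Tr :=
  rkT_31

/-- table part -/
def jsT_1 : Tr :=
  .nd (.nd (.nd (.nd (.nd (.nd (.lf 18008) (.lf 0)) (.nd (.lf 3748) (.lf 0))) (.nd (.nd (.lf 0) (.lf 12136)) (.nd (.lf 0) (.lf 0)))) (.nd (.nd (.nd (.lf 3628) (.lf 8736)) (.nd (.lf 11478) (.lf 0))) (.nd (.nd (.lf 21982) (.lf 4968)) (.nd (.lf 11882) (.lf 0))))) (.nd (.nd (.nd (.nd (.lf 0) (.lf 0)) (.nd (.lf 11368) (.lf 0))) (.nd (.nd (.lf 0) (.lf 4708)) (.nd (.lf 0) (.lf 0)))) (.nd (.nd (.nd (.lf 0) (.lf 32076)) (.nd (.lf 11286) (.lf 0))) (.nd (.nd (.lf 0) (.lf 0)) (.nd (.lf 12188) (.lf 0)))))) (.nd (.nd (.nd (.nd (.nd (.lf 0) (.lf 0)) (.nd (.lf 0) (.lf 0)))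 (.nd (.nd (.lf 21812) (.lf 0)) (.nd (.lf 9220) (.lf 0)))) (.nd (.nd (.nd (.lf 21712) (.lf 0)) (.nd (.lf 0) (.lf 0))) (.nd (.nd (.lf 3758) (.lf 0)) (.nd (.lf 0) (.lf 0))))) (.nd (.nd (.nd (.nd (.lf 0) (.lf 30930)) (.nd (.lf 0) (.lf 0))) (.nd (.nd (.lf 0) (.lf 13398)) (.nd (.lf 18182) (.lf 0)))) (.nd (.nd (.nd (.lf 0) (.lf 4728)) (.nd (.lf 14896) (.lf 0))) (.nd (.nd (.lf 0) (.lf 0)) (.nd (.lf 4038) (.lf 0))))))

/-- table part -/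
def jsT_2 : Tr :=
  .nd (.nd (.nd (.nd (.nd (.nd (.lf 0) (.lf 0)) (.nd (.lf 3878) (.lf 0))) (.nd (.nd (.lf 0) (.lf 19720)) (.nd (.lf 0) (.lf 0)))) (.nd (.nd (.nd (.lf 0) (.lf 30750)) (.nd (.lf 11508) (.lf 0))) (.nd (.nd (.lf 0) (.lf 12896)) (.nd (.lf 8266) (.lf 0))))) (.nd (.nd (.nd (.nd (.lf 0) (.lf 0)) (.nd (.lf 0) (.lf 0))) (.nd (.nd (.lf 18270) (.lf 0)) (.nd (.lf 19510) (.lf 0)))) (.nd (.nd (.nd (.lf 0) (.lf 24132)) (.nd (.lf 18670) (.lf 0))) (.nd (.nd (.lf 14526) (.lf 0)) (.nd (.lf 11958) (.lf 0)))))) (.nd (.nd (.nd (.nd (.nd (.lf 7232) (.lf 14926)) (.nd (.lf 0) (.lf 0))) (.nd (.nd (.lf 32766) (.lf 4618)) (.nd (.lf 11346) (.lf 0)))) (.nd (.nd (.nd (.lf 3638) (.lf 8010)) (.nd (.lf 0) (.lf 0))) (.nd (.nd (.lf 0) (.lf 0)) (.nd (.lf 11692) (.lf 0))))) (.nd (.nd (.nd (.nd (.lf 0) (.lf 18190)) (.nd (.lf 0) (.lf 0))) (.nd (.nd (.lf 0) (.lf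 15742)) (.nd (.lf 14736) (.lf 0)))) (.nd (.nd (.nd (.lf 0) (.lf 0)) (.nd (.lf 14656) (.lf 0))) (.nd (.nd (.lf 14536) (.lf 0)) (.nd (.lf 0) (.lf 0))))))

/-- table part -/
def jsT_3 : Tr :=
  .nd jsT_1 jsT_2

/-- table part -/
def jsT_4 : Tr :=
  .nd (.nd (.nd (.nd (.nd (.nd (.lf 0) (.lf 0)) (.nd (.lf 11298) (.lf 0))) (.nd (.nd (.lf 4028) (.lf 0)) (.nd (.lf 11678) (.lf 0)))) (.nd (.nd (.nd (.lf 0) (.lf 15546)) (.nd (.lf 0) (.lf 0))) (.nd (.nd (.lf 0) (.lf 18942)) (.nd (.lf 8236) (.lf 0))))) (.nd (.nd (.nd (.nd (.lf 0) (.lf 4428)) (.nd (.lf 0) (.lf 0))) (.nd (.nd (.lf 0) (.lf 19740)) (.nd (.lf 3918) (.lf 0)))) (.nd (.nd (.nd (.lf 18120) (.lf 0)) (.nd (.lf 9000) (.lf 0))) (.nd (.nd (.lf 0) (.lf 0)) (.nd (.lf 4538) (.lf 0)))))) (.nd (.nd (.nd (.nd (.nd (.lf 0) (.lf 0)) (.nd (.lf 0) (.lf 0))) (.nd (.nd (.lf 0) (.lf 31560)) (.nd (.lf 0) (.lf 0))))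 (.nd (.nd (.nd (.lf 0) (.lf 0)) (.nd (.lf 0) (.lf 0))) (.nd (.nd (.lf 18080) (.lf 0)) (.nd (.lf 4558) (.lf 0))))) (.nd (.nd (.nd (.nd (.lf 0) (.lf 5998)) (.nd (.lf 0) (.lf 0))) (.nd (.nd (.lf 0) (.lf 13538)) (.nd (.lf 8466) (.lf 0)))) (.nd (.nd (.nd (.lf 15066) (.lf 20730)) (.nd (.lf 11282) (.lf 0))) (.nd (.nd (.lf 0) (.lf 0)) (.nd (.lf 0) (.lf 0))))))

/-- table part -/
def jsT_5 : Tr :=
  .nd (.nd (.nd (.nd (.nd (.nd (.lf 0) (.lf 0)) (.nd (.lf 0) (.lf 0))) (.nd (.nd (.lf 0) (.lf 0)) (.nd (.lf 0) (.lf 0)))) (.nd (.nd (.nd (.lf 0) (.lf 0)) (.nd (.lf 0) (.lf 0))) (.nd (.nd (.lf 11148) (.lf 19230)) (.nd (.lf 15046) (.lf 0))))) (.nd (.nd (.nd (.nd (.lf 0) (.lf 0)) (.nd (.lf 19508) (.lf 0))) (.nd (.nd (.lf 3688) (.lf 23332)) (.nd (.lf 0) (.lf 0)))) (.nd (.nd (.nd (.lf 3) (.lf 4408)) (.nd (.lf 0) (.lf 0))) (.nd (.nd (.lf 0) (.lf 0)) (.nd (.lf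 20468) (.lf 0)))))) (.nd (.nd (.nd (.nd (.nd (.lf 0) (.lf 18630)) (.nd (.lf 18060) (.lf 0))) (.nd (.nd (.lf 0) (.lf 5748)) (.nd (.lf 0) (.lf 0)))) (.nd (.nd (.nd (.lf 0) (.lf 15186)) (.nd (.lf 0) (.lf 0))) (.nd (.nd (.lf 0) (.lf 0)) (.nd (.lf 11516) (.lf 0))))) (.nd (.nd (.nd (.nd (.lf 0) (.lf 29410)) (.nd (.lf 14676) (.lf 0))) (.nd (.nd (.lf 0) (.lf 18882)) (.nd (.lf 0) (.lf 0)))) (.nd (.nd (.nd (.lf 0) (.lf 12728)) (.nd (.lf 5398) (.lf 0))) (.nd (.nd (.lf 0) (.lf 0)) (.nd (.lf 29600) (.lf 0))))))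

/-- table part -/
def jsT_6 : Tr :=
  .nd jsT_4 jsT_5

/-- table part -/
def jsT_7 : Tr :=
  .nd jsT_3 jsT_6

/-- table part -/
def jsT_8 : Tr :=
  .nd (.nd (.nd (.nd (.nd (.nd (.lf 0) (.lf 12068)) (.nd (.lf 0) (.lf 0))) (.nd (.nd (.lf 0) (.lf 0)) (.nd (.lf 18162) (.lf 0)))) (.nd (.nd (.nd (.lf 0) (.lf 0)) (.nd (.lf 0) (.lf 0))) (.nd (.nd (.lf 0) (.lf 22602)) (.nd (.lf 33366) (.lf 0))))) (.nd (.nd (.nd (.nd (.lf 0) (.lf 14940)) (.nd (.lf 0) (.lf 0))) (.nd (.nd (.lf 0) (.lf 15612)) (.nd (.lf 0) (.lf 0)))) (.nd (.nd (.nd (.lf 0) (.lf 0)) (.nd (.lf 14510) (.lf 0))) (.nd (.nd (.lf 0) (.lf 0)) (.nd (.lf 15212) (.lf 0)))))) (.nd (.nd (.nd (.nd (.nd (.lf 0) (.lf 0)) (.nd (.lf 0) (.lf 0))) (.nd (.nd (.lf 0) (.lf 13708)) (.nd (.lf 21842) (.lf 0)))) (.nd (.nd (.nd (.lf 0) (.lf 13216)) (.nd (.lf 0) (.lf 0))) (.nd (.nd (.lf 0) (.lf 0)) (.nd (.lf 0)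 (.lf 0))))) (.nd (.nd (.nd (.nd (.lf 0) (.lf 26986)) (.nd (.lf 3788) (.lf 0))) (.nd (.nd (.lf 18898) (.lf 15706)) (.nd (.lf 11788) (.lf 0)))) (.nd (.nd (.nd (.lf 0) (.lf 12792)) (.nd (.lf 3858) (.lf 0))) (.nd (.nd (.lf 0) (.lf 0)) (.nd (.lf 12008) (.lf 0))))))

/-- table part -/
def jsT_9 : Tr :=
  .nd (.nd (.nd (.nd (.nd (.nd (.lf 0) (.lf 0)) (.nd (.lf 0) (.lf 0))) (.nd (.nd (.lf 0) (.lf 15336)) (.nd (.lf 3898) (.lf 0)))) (.nd (.nd (.nd (.lf 0) (.lf 18220)) (.nd (.lf 18760) (.lf 0))) (.nd (.nd (.lf 0) (.lf 6940)) (.nd (.lf 0) (.lf 0))))) (.nd (.nd (.nd (.nd (.lf 0) (.lf 0)) (.nd (.lf 0) (.lf 0))) (.nd (.nd (.lf 0) (.lf 20290)) (.nd (.lf 0) (.lf 0)))) (.nd (.nd (.nd (.lf 3648) (.lf 15456)) (.nd (.lf 0) (.lf 0))) (.nd (.nd (.lf 0) (.lf 0)) (.nd (.lf 11552) (.lf 0)))))) (.nd (.nd (.nd (.nd (.nd (.lf 0) (.lf 0)) (.nd (.lf 11358) (.lf 0))) (.nd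 (.nd (.lf 11038) (.lf 12736)) (.nd (.lf 11352) (.lf 0)))) (.nd (.nd (.nd (.lf 0) (.lf 12548)) (.nd (.lf 11558) (.lf 0))) (.nd (.nd (.lf 0) (.lf 0)) (.nd (.lf 3998) (.lf 0))))) (.nd (.nd (.nd (.nd (.lf 0) (.lf 12318)) (.nd (.lf 0) (.lf 0))) (.nd (.nd (.lf 0) (.lf 5008)) (.nd (.lf 11808) (.lf 0)))) (.nd (.nd (.nd (.lf 0) (.lf 9112)) (.nd (.lf 11638) (.lf 0))) (.nd (.nd (.lf 11268) (.lf 0)) (.nd (.lf 0) (.lf 0))))))

/-- table part -/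
def jsT_10 : Tr :=
  .nd jsT_8 jsT_9

/-- table part -/
def jsT_11 : Tr :=
  .nd (.nd (.nd (.nd (.nd (.nd (.lf 0) (.lf 0)) (.nd (.lf 11082) (.lf 0))) (.nd (.nd (.lf 0) (.lf 0)) (.nd (.lf 0) (.lf 0)))) (.nd (.nd (.nd (.lf 0) (.lf 12368)) (.nd (.lf 15796) (.lf 0))) (.nd (.nd (.lf 0) (.lf 5268)) (.nd (.lf 0) (.lf 0))))) (.nd (.nd (.nd (.nd (.lf 0) (.lf 8626)) (.nd (.lf 3778) (.lf 0))) (.nd (.nd (.lf 0) (.lf 27156)) (.nd (.lf 0) (.lf 0)))) (.nd (.nd (.nd (.lf 0) (.lf 5428)) (.nd (.lf 0) (.lf 0))) (.nd (.nd (.lf 0) (.lf 0)) (.nd (.lf 18222) (.lf 0)))))) (.nd (.nd (.nd (.nd (.nd (.lf 0) (.lf 0)) (.nd (.lf 0) (.lf 0))) (.nd (.nd (.lf 0) (.lf 9340)) (.nd (.lf 3908) (.lf 0)))) (.nd (.nd (.nd (.lf 0) (.lf 0)) (.nd (.lf 11538) (.lf 0))) (.nd (.nd (.lf 11156) (.lf 0)) (.nd (.lf 15016) (.lf 0))))) (.nd (.nd (.nd (.nd (.lf 18012) (.lf 8682)) (.nd (.lf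 11142) (.lf 0))) (.nd (.nd (.lf 0) (.lf 33426)) (.nd (.lf 0) (.lf 0)))) (.nd (.nd (.nd (.lf 0) (.lf 35316)) (.nd (.lf 0) (.lf 0))) (.nd (.nd (.lf 0) (.lf 0)) (.nd (.lf 0) (.lf 0))))))

/-- table part -/
def jsT_12 : Tr :=
  .nd (.nd (.nd (.nd (.nd (.nd (.lf 0) (.lf 20490)) (.nd (.lf 0) (.lf 0))) (.nd (.nd (.lf 14456) (.lf 31880)) (.nd (.lf 0) (.lf 0)))) (.nd (.nd (.nd (.lf 0) (.lf 15082)) (.nd (.lf 0) (.lf 0))) (.nd (.nd (.lf 18040) (.lf 16606)) (.nd (.lf 3978) (.lf 0))))) (.nd (.nd (.nd (.nd (.lf 0) (.lf 5738)) (.nd (.lf 0) (.lf 0))) (.nd (.nd (.lf 0) (.lf 4878)) (.nd (.lf 8172) (.lf 0)))) (.nd (.nd (.nd (.lf 0) (.lf 12046)) (.nd (.lf 0) (.lf 0))) (.nd (.nd (.lf 11388) (.lf 0)) (.nd (.lf 11822) (.lf 0)))))) (.nd (.nd (.nd (.nd (.nd (.lf 0) (.lf 11702)) (.nd (.lf 18092) (.lf 0))) (.nd (.nd (.lf 0) (.lf 0)) (.nd (.lf 0) (.lf 0)))) (.nd (.nd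 (.nd (.lf 1) (.lf 20300)) (.nd (.lf 25796) (.lf 0))) (.nd (.nd (.lf 11006) (.lf 0)) (.nd (.lf 0) (.lf 0))))) (.nd (.nd (.nd (.nd (.lf 0) (.lf 0)) (.nd (.lf 11458) (.lf 0))) (.nd (.nd (.lf 0) (.lf 20710)) (.nd (.lf 9450) (.lf 0)))) (.nd (.nd (.nd (.lf 14452) (.lf 0)) (.nd (.lf 0) (.lf 0))) (.nd (.nd (.lf 0) (.lf 0)) (.nd (.lf 0) (.lf 0))))))

/-- table part -/
def jsT_13 : Tr :=
  .nd jsT_11 jsT_12

/-- table part -/
def jsT_14 : Tr :=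
  .nd jsT_10 jsT_13

/-- table part -/
def jsT_15 : Tr :=
  .nd jsT_7 jsT_14

/-- table part -/
def jsT_16 : Tr :=
  .nd (.nd (.nd (.nd (.nd (.nd (.lf 0) (.lf 0)) (.nd (.lf 19256) (.lf 0))) (.nd (.nd (.lf 7474) (.lf 19966)) (.nd (.lf 0) (.lf 0)))) (.nd (.nd (.nd (.lf 0) (.lf 5796)) (.nd (.lf 0) (.lf 0))) (.nd (.nd (.lf 0) (.lf 10448)) (.nd (.lf 11414) (.lf 0))))) (.nd (.nd (.nd (.nd (.lf 0) (.lf 8118)) (.nd (.lf 0) (.lf 0))) (.nd (.nd (.lf 0) (.lf 6574)) (.nd (.lf 8134) (.lf 0)))) (.nd (.nd (.nd (.lf 0) (.lf 18456)) (.nd (.lf 0) (.lf 0))) (.nd (.nd (.lf 11004) (.lf 0)) (.nd (.lf 12664) (.lf 0)))))) (.nd (.nd (.nd (.nd (.nd (.lf 0) (.lf 11654)) (.nd (.lf 0) (.lf 0))) (.nd (.nd (.lf 0) (.lf 12524)) (.nd (.lf 2004) (.lf 0)))) (.nd (.nd (.nd (.lf 14424) (.lf 23896)) (.nd (.lf 8048) (.lf 0))) (.nd (.nd (.lf 21636) (.lf 0)) (.nd (.lf 0) (.lf 0)))))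 (.nd (.nd (.nd (.nd (.lf 0) (.lf 16518)) (.nd (.lf 420) (.lf 0))) (.nd (.nd (.lf 0) (.lf 6744)) (.nd (.lf 0) (.lf 0)))) (.nd (.nd (.nd (.lf 0) (.lf 15454)) (.nd (.lf 0) (.lf 0))) (.nd (.nd (.lf 0) (.lf 0)) (.nd (.lf 2486) (.lf 0))))))

/-- table part -/
def jsT_17 : Tr :=
  .nd (.nd (.nd (.nd (.nd (.nd (.lf 0) (.lf 8494)) (.nd (.lf 0) (.lf 0))) (.nd (.nd (.lf 21716) (.lf 0)) (.nd (.lf 5736) (.lf 0)))) (.nd (.nd (.nd (.lf 0) (.lf 2926)) (.nd (.lf 0) (.lf 0))) (.nd (.nd (.lf 4206) (.lf 24640)) (.nd (.lf 8264) (.lf 0))))) (.nd (.nd (.nd (.nd (.lf 0) (.lf 11270)) (.nd (.lf 0) (.lf 0))) (.nd (.nd (.lf 0) (.lf 9018)) (.nd (.lf 0) (.lf 0)))) (.nd (.nd (.nd (.lf 0) (.lf 6146)) (.nd (.lf 8298) (.lf 0))) (.nd (.nd (.lf 10830) (.lf 0)) (.nd (.lf 0) (.lf 0)))))) (.nd (.nd (.nd (.nd (.nd (.lf 0) (.lf 11310)) (.nd (.lf 0) (.lf 0))) (.nd (.nd (.lf 0) (.lf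 0)) (.nd (.lf 11130) (.lf 0)))) (.nd (.nd (.nd (.lf 446) (.lf 21826)) (.nd (.lf 22440) (.lf 0))) (.nd (.nd (.lf 21626) (.lf 0)) (.nd (.lf 18296) (.lf 0))))) (.nd (.nd (.nd (.nd (.lf 3754) (.lf 11550)) (.nd (.lf 0) (.lf 0))) (.nd (.nd (.lf 14484) (.lf 13914)) (.nd (.lf 12630) (.lf 0)))) (.nd (.nd (.nd (.lf 0) (.lf 1468)) (.nd (.lf 1886) (.lf 0))) (.nd (.nd (.lf 0) (.lf 0)) (.nd (.lf 0) (.lf 0))))))

/-- table part -/
def jsT_18 : Tr :=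
  .nd jsT_16 jsT_17

/-- table part -/
def jsT_19 : Tr :=
  .nd (.nd (.nd (.nd (.nd (.nd (.lf 0) (.lf 23376)) (.nd (.lf 0) (.lf 0))) (.nd (.nd (.lf 7394) (.lf 9228)) (.nd (.lf 0) (.lf 0)))) (.nd (.nd (.nd (.lf 0) (.lf 0)) (.nd (.lf 18436) (.lf 0))) (.nd (.nd (.lf 18046) (.lf 22550)) (.nd (.lf 8234) (.lf 0))))) (.nd (.nd (.nd (.nd (.lf 0) (.lf 8128)) (.nd (.lf 0) (.lf 0))) (.nd (.nd (.lf 0) (.lf 9008)) (.nd (.lf 0) (.lf 0)))) (.nd (.nd (.nd (.lf 7344) (.lf 8438)) (.nd (.lf 7658) (.lf 0))) (.nd (.nd (.lf 0) (.lf 0)) (.nd (.lf 14794) (.lf 0)))))) (.nd (.nd (.nd (.nd (.nd (.lf 18086) (.lf 21766)) (.nd (.lf 0) (.lf 0))) (.nd (.nd (.lf 21890) (.lf 20666)) (.nd (.lf 12500) (.lf 0)))) (.nd (.nd (.nd (.lf 0) (.lf 20766)) (.nd (.lf 0) (.lf 0))) (.nd (.nd (.lf 0) (.lf 0)) (.nd (.lf 8314) (.lf 0))))) (.nd (.nd (.nd (.nd (.lf 0) (.lf 0)) (.nd (.lf 0)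 (.lf 0))) (.nd (.nd (.lf 0) (.lf 11760)) (.nd (.lf 18416) (.lf 0)))) (.nd (.nd (.nd (.lf 0) (.lf 0)) (.nd (.lf 0) (.lf 0))) (.nd (.nd (.lf 7448) (.lf 0)) (.nd (.lf 22500) (.lf 0))))))

/-- table part -/
def jsT_20 : Tr :=
  .nd (.nd (.nd (.nd (.nd (.nd (.lf 0) (.lf 8058)) (.nd (.lf 4476) (.lf 0))) (.nd (.nd (.lf 0) (.lf 0)) (.nd (.lf 0) (.lf 0)))) (.nd (.nd (.nd (.lf 0) (.lf 5906)) (.nd (.lf 0) (.lf 0))) (.nd (.nd (.lf 0) (.lf 9968)) (.nd (.lf 0) (.lf 0))))) (.nd (.nd (.nd (.nd (.lf 0) (.lf 0)) (.nd (.lf 14574) (.lf 0))) (.nd (.nd (.lf 11034) (.lf 13060)) (.nd (.lf 14714) (.lf 0)))) (.nd (.nd (.nd (.lf 0) (.lf 12100)) (.nd (.lf 11254) (.lf 0))) (.nd (.nd (.lf 0) (.lf 0)) (.nd (.lf 8374) (.lf 0)))))) (.nd (.nd (.nd (.nd (.nd (.lf 0) (.lf 2704)) (.nd (.lf 0) (.lf 0))) (.nd (.nd (.lf 0) (.lf 22786)) (.nd (.lf 0) (.lf 0)))) (.nd (.nd (.nd (.lf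 11150) (.lf 11300)) (.nd (.lf 0) (.lf 0))) (.nd (.nd (.lf 11630) (.lf 0)) (.nd (.lf 12090) (.lf 0))))) (.nd (.nd (.nd (.nd (.lf 0) (.lf 15224)) (.nd (.lf 0) (.lf 0))) (.nd (.nd (.lf 4166) (.lf 22490)) (.nd (.lf 21696) (.lf 0)))) (.nd (.nd (.nd (.lf 14444) (.lf 0)) (.nd (.lf 0) (.lf 0))) (.nd (.nd (.lf 0) (.lf 0)) (.nd (.lf 0) (.lf 0))))))

/-- table part -/
def jsT_21 : Tr :=
  .nd jsT_19 jsT_20

/-- table part -/
def jsT_22 : Tr :=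
  .nd jsT_18 jsT_21

/-- table part -/
def jsT_23 : Tr :=
  .nd (.nd (.nd (.nd (.nd (.nd (.lf 0) (.lf 22106)) (.nd (.lf 0) (.lf 0))) (.nd (.nd (.lf 7308) (.lf 0)) (.nd (.lf 21770) (.lf 0)))) (.nd (.nd (.nd (.lf 0) (.lf 5816)) (.nd (.lf 0) (.lf 0))) (.nd (.nd (.lf 0) (.lf 20856)) (.nd (.lf 7828) (.lf 0))))) (.nd (.nd (.nd (.nd (.lf 0) (.lf 15274)) (.nd (.lf 0) (.lf 0))) (.nd (.nd (.lf 21616) (.lf 12460)) (.nd (.lf 0) (.lf 0)))) (.nd (.nd (.nd (.lf 7278) (.lf 9404)) (.nd (.lf 21666) (.lf 0))) (.nd (.nd (.lf 0) (.lf 0)) (.nd (.lf 11350) (.lf 0)))))) (.nd (.nd (.nd (.nd (.nd (.lf 0) (.lf 22860)) (.nd (.lf 0) (.lf 0))) (.nd (.nd (.lf 18196) (.lf 12264)) (.nd (.lf 14694) (.lf 0)))) (.nd (.nd (.nd (.lf 7268) (.lf 0)) (.nd (.lf 0) (.lf 0))) (.nd (.nd (.lf 7398) (.lf 0)) (.nd (.lf 22766) (.lf 0))))) (.nd (.nd (.nd (.nd (.lf 0) (.lf 5714)) (.nd (.lf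 0) (.lf 0))) (.nd (.nd (.lf 0) (.lf 11200)) (.nd (.lf 0) (.lf 0)))) (.nd (.nd (.nd (.lf 0) (.lf 0)) (.nd (.lf 23050) (.lf 0))) (.nd (.nd (.lf 0) (.lf 0)) (.nd (.lf 5364) (.lf 0))))))

/-- table part -/
def jsT_24 : Tr :=
  .nd (.nd (.nd (.nd (.nd (.nd (.lf 0) (.lf 12800)) (.nd (.lf 0) (.lf 0))) (.nd (.nd (.lf 7318) (.lf 18686)) (.nd (.lf 21850) (.lf 0)))) (.nd (.nd (.nd (.lf 0) (.lf 22730)) (.nd (.lf 0) (.lf 0))) (.nd (.nd (.lf 11110) (.lf 10104)) (.nd (.lf 14774) (.lf 0))))) (.nd (.nd (.nd (.nd (.lf 0) (.lf 8378)) (.nd (.lf 7708) (.lf 0))) (.nd (.nd (.lf 0) (.lf 9828)) (.nd (.lf 15888) (.lf 0)))) (.nd (.nd (.nd (.lf 0) (.lf 19176)) (.nd (.lf 0) (.lf 0))) (.nd (.nd (.lf 0) (.lf 0)) (.nd (.lf 0) (.lf 0)))))) (.nd (.nd (.nd (.nd (.nd (.lf 0) (.lf 5586)) (.nd (.lf 21906) (.lf 0))) (.nd (.nd (.lf 0) (.lf 8818)) (.nd (.lf 22530) (.lf 0)))) (.nd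 (.nd (.nd (.lf 0) (.lf 0)) (.nd (.lf 0) (.lf 0))) (.nd (.nd (.lf 7408) (.lf 0)) (.nd (.lf 11860) (.lf 0))))) (.nd (.nd (.nd (.nd (.lf 0) (.lf 21846)) (.nd (.lf 0) (.lf 0))) (.nd (.nd (.lf 0) (.lf 23560)) (.nd (.lf 0) (.lf 0)))) (.nd (.nd (.nd (.lf 0) (.lf 19806)) (.nd (.lf 0) (.lf 0))) (.nd (.nd (.lf 4404) (.lf 0)) (.nd (.lf 0) (.lf 0))))))

/-- table part -/
def jsT_25 : Tr :=
  .nd jsT_23 jsT_24

/-- table part -/
def jsT_26 : Tr :=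
  .nd (.nd (.nd (.nd (.nd (.nd (.lf 0) (.lf 19406)) (.nd (.lf 0) (.lf 0))) (.nd (.nd (.lf 0) (.lf 0)) (.nd (.lf 7728) (.lf 0)))) (.nd (.nd (.nd (.lf 0) (.lf 12154)) (.nd (.lf 0) (.lf 0))) (.nd (.nd (.lf 0) (.lf 24846)) (.nd (.lf 23046) (.lf 0))))) (.nd (.nd (.nd (.nd (.lf 0) (.lf 8624)) (.nd (.lf 12420) (.lf 0))) (.nd (.nd (.lf 7454) (.lf 22950)) (.nd (.lf 0) (.lf 0)))) (.nd (.nd (.nd (.lf 0) (.lf 6136)) (.nd (.lf 0) (.lf 0))) (.nd (.nd (.lf 0) (.lf 0)) (.nd (.lf 10950) (.lf 0)))))) (.nd (.nd (.nd (.nd (.nd (.lf 0) (.lf 19016)) (.nd (.lf 11230) (.lf 0))) (.nd (.nd (.lf 10924) (.lf 9208)) (.nd (.lf 22436) (.lf 0)))) (.nd (.nd (.nd (.lf 0) (.lf 8904)) (.nd (.lf 22256) (.lf 0))) (.nd (.nd (.lf 0) (.lf 0)) (.nd (.lf 5256) (.lf 0))))) (.nd (.nd (.nd (.nd (.lf 10810) (.lf 2836)) (.nd (.lf 0) (.lf 0))) (.nd (.nd (.lf 0) (.lf 11460)) (.nd (.lf 0)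 (.lf 0)))) (.nd (.nd (.nd (.lf 14464) (.lf 8858)) (.nd (.lf 11364) (.lf 0))) (.nd (.nd (.lf 0) (.lf 0)) (.nd (.lf 11584) (.lf 0))))))

/-- table part -/
def jsT_27 : Tr :=
  .nd (.nd (.nd (.nd (.nd (.nd (.lf 10804) (.lf 0)) (.nd (.lf 0) (.lf 0))) (.nd (.nd (.lf 0) (.lf 8658)) (.nd (.lf 11324) (.lf 0)))) (.nd (.nd (.nd (.lf 0) (.lf 0)) (.nd (.lf 0) (.lf 0))) (.nd (.nd (.lf 0) (.lf 17274)) (.nd (.lf 22876) (.lf 0))))) (.nd (.nd (.nd (.nd (.lf 0) (.lf 5706)) (.nd (.lf 0) (.lf 0))) (.nd (.nd (.lf 0) (.lf 22486)) (.nd (.lf 12190) (.lf 0)))) (.nd (.nd (.nd (.lf 0) (.lf 0)) (.nd (.lf 0) (.lf 0))) (.nd (.nd (.lf 7634) (.lf 0)) (.nd (.lf 0) (.lf 0)))))) (.nd (.nd (.nd (.nd (.nd (.lf 0) (.lf 23380)) (.nd (.lf 21700) (.lf 0))) (.nd (.nd (.lf 0) (.lf 8828)) (.nd (.lf 0) (.lf 0)))) (.nd (.nd (.nd (.lf 0) (.lf 9568)) (.nd (.lf 11544) (.lf 0))) (.nd (.nd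 (.lf 0) (.lf 0)) (.nd (.lf 11514) (.lf 0))))) (.nd (.nd (.nd (.nd (.lf 0) (.lf 8638)) (.nd (.lf 0) (.lf 0))) (.nd (.nd (.lf 0) (.lf 9858)) (.nd (.lf 0) (.lf 0)))) (.nd (.nd (.nd (.lf 0) (.lf 22630)) (.nd (.lf 22416) (.lf 0))) (.nd (.nd (.lf 0) (.lf 0)) (.nd (.lf 0) (.lf 0))))))

/-- table part -/
def jsT_28 : Tr :=
  .nd jsT_26 jsT_27

/-- table part -/
def jsT_29 : Tr :=
  .nd jsT_25 jsT_28

/-- table part -/
def jsT_30 : Tr :=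
  .nd jsT_22 jsT_29

/-- table part -/
def jsT_31 : Tr :=
  .nd jsT_15 jsT_30

/-- table -/
def jsT : Tr :=
  jsT_31

/-- relations -/
def rels : List (List (ℕ × Bool)) :=
  [[(0, true), (0, true), (0, true), (0, true), (0, true), (0, true), (0, true)],
   [(1, true), (1, true), (1, true), (1, true), (1, true)],
   [(1, true), (1, true), (0, true), (0, true), (0, true), (1, true), (1, true), (0, true), (0, true), (0, true)],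
   [(1, false), (0, false), (1, false), (0, false), (1, false), (0, false)],
   [(1, false), (0, true), (0, true), (1, false), (0, true), (0, true), (1, false), (0, true), (0, true)]]

/-- parameter edges -/
def pe : List ℕ := [94, 108]

/-- elimination -/
def fin : List (List (ℕ × ℕ × ℕ)) :=
  [[(0, 0, 3), (0, 13, 3), (0, 70, 2), (0, 46, 6)],
   [(0, 46, 3), (0, 0, 4), (0, 13, 4)],
   [(0, 70, 5), (0, 0, 2), (0, 13, 6), (0, 46, 3)],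
   [(0, 13, 3), (0, 0, 2), (0, 70, 2), (0, 46, 6)]]

/-- the certificate -/
def cert : Cert :=
  ⟨8, 2, 360, 3, 4, rels, nxT, pvT, parT, fmT, rkT, jsT, pe, fin⟩

/-- the parameter left -/
def k0 : ℕ := 0

/-- multiples -/
def cs : List ℕ := [1, 0, 0, 0]

/-- table part -/
def keyT_1 : Tr :=
  .nd (.nd (.nd (.nd (.nd (.nd (.lf 966602006329106089358517068373376352) (.lf 958164610565652621521661394073866592)) (.nd (.lf 967494291333080271347495190592364640) (.lf 0))) (.nd (.nd (.lf 974304941868966590695471752525619552) (.lf 967684483435946941449180326590070976)) (.nd (.lf 975554038240851082549082860215994528) (.lf 0)))) (.nd (.nd (.nd (.lf 979373707142341686965733824280118656) (.lf 973054362816187422305815335733141888)) (.nd (.lf 972625620901019362591090780202514784) (.lf 0))) (.nd (.nd (.lf 973943050427439306564754242567289952) (.lf 965868813798339420574187311011866976))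 (.nd (.lf 973905628276590526462997158137383296) (.lf 0))))) (.nd (.nd (.nd (.nd (.lf 974209875480873863506383336779403456) (.lf 979165906938557856223904156831073504)) (.nd (.lf 977801916711101628988835194532675680) (.lf 0))) (.nd (.nd (.lf 980914717461493965876451256448366784) (.lf 961445347248796836623381020536088800)) (.nd (.lf 966624681917556312131689289020220576) (.lf 0)))) (.nd (.nd (.nd (.lf 976868789978591296655132645321285856) (.lf 958894539655864495117397398395211136)) (.nd (.lf 974962305360758649841805700838441056) (.lf 0))) (.nd (.nd (.lf 983385564325467743103793298923524192) (.lf 0)) (.nd (.lf 984607401222251478470457107709020256) (.lf 0)))))) (.nd (.nd (.nd (.nd (.nd (.lf 977878930909832861490154012845253984) (.lf 966338038007908257162024444737268096)) (.nd (.lf 979545489884778544855180452368208224) (.lf 0))) (.nd (.nd (.lf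 979611644005502777405853585887318112) (.lf 974312973367637507490345086033957024)) (.nd (.lf 984358106668450481635214723064911072) (.lf 0)))) (.nd (.nd (.nd (.lf 975433392660410981284147716417770688) (.lf 975402210271638439599702783914386784)) (.nd (.lf 966346715733055394603068104461670592) (.lf 0))) (.nd (.nd (.lf 967945834932264219135473395471263904) (.lf 0)) (.nd (.lf 982733865469424386797029953639583936) (.lf 0))))) (.nd (.nd (.nd (.nd (.lf 982011739152067950624499013421044096) (.lf 975682266816684941837433259998712160)) (.nd (.lf 976543598296422889868606592326359264) (.lf 0))) (.nd (.nd (.lf 979578638701178315698508843090878656) (.lf 978070641550214253584979602880779648)) (.nd (.lf 981518616797320162028052594371379552) (.lf 0)))) (.nd (.nd (.nd (.lf 958354691337605690016776109551751552) (.lf 975566484988072420301594343307070848)) (.nd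 (.lf 969030952473171933864874099858246016) (.lf 0))) (.nd (.nd (.lf 984115806095820823337628341968773344) (.lf 0)) (.nd (.lf 973168617262531563377490759361183104) (.lf 0))))))

/-- table part -/
def keyT_2 : Tr :=
  .nd (.nd (.nd (.nd (.nd (.nd (.lf 966584433799271912490073027202361568) (.lf 968472720591947022557818945836075360)) (.nd (.lf 972351958129251139460625875464471648) (.lf 0))) (.nd (.nd (.lf 980155225151265361560520246302058688) (.lf 974192739912474810247767766962579648)) (.nd (.lf 981730148837603798591697242557747392) (.lf 0)))) (.nd (.nd (.nd (.lf 980624260320863946151684354635651296) (.lf 983350904032977517134981269221128288)) (.nd (.lf 975641266433288131673923671029924960) (.lf 0))) (.nd (.nd (.lf 979415280943092394584637442973811936) (.lf 976317342548821134437008938300192128)) (.nd (.lf 961489421123821385179282265061182656)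 (.lf 0))))) (.nd (.nd (.nd (.nd (.lf 977980136225267104038947864375973024) (.lf 968470745018560775301722298910975136)) (.nd (.lf 975600938802945827278466342600461536) (.lf 0))) (.nd (.nd (.lf 979378363566749496173664875470802112) (.lf 979535531111728159491014143251954848)) (.nd (.lf 973903179887491182309598929536564384) (.lf 0)))) (.nd (.nd (.nd (.lf 976852174380026334729598567585140896) (.lf 975029525677578335791718262108242144)) (.nd (.lf 980137918702370006181196748061455584) (.lf 0))) (.nd (.nd (.lf 975279762725172293502751645987377344) (.lf 0)) (.nd (.lf 958849821277413054237557767110967520) (.lf 0)))))) (.nd (.nd (.nd (.nd (.nd (.lf 979085924311545777307726961782605184) (.lf 966322625595980859313521026176075872)) (.nd (.lf 965957463146256167356451848382032032) (.lf 0))) (.nd (.nd (.lf 977069046884187250498977508052291744) (.lf 984123519937133786727863242988958816))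 (.nd (.lf 972935328382038320494573539620456640) (.lf 0)))) (.nd (.nd (.nd (.lf 975648168979011390262807925859988672) (.lf 980868125109889281368907498784131168)) (.nd (.lf 977990524961270849071022790701943008) (.lf 0))) (.nd (.nd (.lf 982824195346337591826972403273282944) (.lf 0)) (.nd (.lf 958524040301596833860572708969105504) (.lf 0))))) (.nd (.nd (.nd (.nd (.lf 978208704310994703408118648934709600) (.lf 972910010188327350516969999606943968)) (.nd (.lf 984329836494897437508035044664588672) (.lf 0))) (.nd (.nd (.lf 958851612609287497326210492396718272) (.lf 974176347481624031776261776792044896)) (.nd (.lf 967798772646152943371754562928031968) (.lf 0)))) (.nd (.nd (.nd (.lf 961204413451235921031036054705055968) (.lf 976243781296152211826138323050969184)) (.nd (.lf 982213098412340673282402144666947808) (.lf 0))) (.nd (.nd (.lf 961493355724004177487117410613010528)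 (.lf 0)) (.nd (.lf 980885906845558198177836022536125792) (.lf 0))))))

/-- table part -/
def keyT_3 : Tr :=
  .nd keyT_1 keyT_2

/-- table part -/
def keyT_4 : Tr :=
  .nd (.nd (.nd (.nd (.nd (.nd (.lf 981712498124104627837618240768687296) (.lf 983223542400319391810676186092554400)) (.nd (.lf 972933652512259240643874761073740960) (.lf 0))) (.nd (.nd (.lf 965941543155122902847931578050467040) (.lf 979418888077915000545602371843250272)) (.nd (.lf 979539656996614324471844837906358496) (.lf 0)))) (.nd (.nd (.nd (.lf 981752864922968960603273042068677728) (.lf 982989934668390126283607546084603072)) (.nd (.lf 969274301158923771708135926573282656) (.lf 0))) (.nd (.nd (.lf 977880459480482570918027823912374496) (.lf 980619669217120079027231289936952672)) (.nd (.lf 978931303613579661798974137594956896) (.lf 0))))) (.nd (.nd (.nd (.nd (.lf 975240908696820705715582745318741152)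 (.lf 984327217977294051695171719480627424)) (.nd (.lf 958809930095727326331278823271049312) (.lf 0))) (.nd (.nd (.lf 958608422028981408082976097192760416) (.lf 975195528680779855081260211603809504)) (.nd (.lf 958728641618672974713840916175934816) (.lf 0)))) (.nd (.nd (.nd (.lf 982816261567532771999479697827563872) (.lf 976723109354409939012672804386545856)) (.nd (.lf 961247186556480651235764177516875136) (.lf 0))) (.nd (.nd (.lf 981979529222189234343310048813781152) (.lf 0)) (.nd (.lf 961130762119514550873516737704626272) (.lf 0)))))) (.nd (.nd (.nd (.nd (.nd (.lf 958802177033213705380517817784417664) (.lf 984646954135555724769997089830850912)) (.nd (.lf 982039634534345103302188329416935776) (.lf 0))) (.nd (.nd (.lf 969071318675664695957778173893071200) (.lf 983215535465817443744281070151084416)) (.nd (.lf 961001747726670628760311615264572768)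 (.lf 0)))) (.nd (.nd (.nd (.lf 984527559775139865051062246808168544) (.lf 973642403792340362100599823316204640)) (.nd (.lf 976326371845306902223540191704266976) (.lf 0))) (.nd (.nd (.lf 984635261567038466130218555876101344) (.lf 0)) (.nd (.lf 969096863911445940606263868342556864) (.lf 0))))) (.nd (.nd (.nd (.nd (.lf 980421673992632710196907320506792032) (.lf 975236014422288427945674223290335328)) (.nd (.lf 967808983142949992979383083795203168) (.lf 0))) (.nd (.nd (.lf 973938120402555408371154277260167552) (.lf 967694146519044132516820389640483936)) (.nd (.lf 980741442989593134452853988620915808) (.lf 0)))) (.nd (.nd (.nd (.lf 976747056395361412902319021683330400) (.lf 980626715666141563894233469490152608)) (.nd (.lf 982017551424421618200419517699872864) (.lf 0))) (.nd (.nd (.lf 978366960147355417974212607745560800) (.lf 0)) (.nd (.lf 976939754859799062136569437907990688)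 (.lf 0))))))

/-- table part -/
def keyT_5 : Tr :=
  .nd (.nd (.nd (.nd (.nd (.nd (.lf 983294133330522485159629171125012704) (.lf 974460142739951684471020207709855840)) (.nd (.lf 967395455455417286162521382629659840) (.lf 0))) (.nd (.nd (.lf 981973695845631697488874552804366720) (.lf 980438056336210974325471087132070080)) (.nd (.lf 975281711697334740452028158430134656) (.lf 0)))) (.nd (.nd (.nd (.lf 983174693432706504891328151064591712) (.lf 961008988016051347605390364069175488)) (.nd (.lf 961167610386581619321908318603282528) (.lf 0))) (.nd (.nd (.lf 968465473955699151891751807116064928) (.lf 975528463792091321188713521298495840)) (.nd (.lf 967927951299852043857666190289834336) (.lf 0))))) (.nd (.nd (.nd (.nd (.lf 976259881978159311900802779504134528) (.lf 979610319992366562133159375563601248)) (.nd (.lf 977056261566393012835396080834368608)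 (.lf 0))) (.nd (.nd (.lf 969080245881974128212974755748623584) (.lf 982086365301059036991813305810080960)) (.nd (.lf 984673523123004706636492928239848608) (.lf 0)))) (.nd (.nd (.nd (.lf 974227856638534260239721311160555872) (.lf 978003429833361564208210096217629856)) (.nd (.lf 973661294733156214734879760058454176) (.lf 0))) (.nd (.nd (.lf 979538034093500520094455493810111712) (.lf 0)) (.nd (.lf 978042243711579795229033214910834784) (.lf 0)))))) (.nd (.nd (.nd (.nd (.nd (.lf 973015745129724260899844998315549056) (.lf 969039363654351887525991637701777568)) (.nd (.lf 983438832676850322833124995323971808) (.lf 0))) (.nd (.nd (.lf 972931331007180175333022266947713216) (.lf 960923143094740048422227130131202208)) (.nd (.lf 966397776904981514653511931392067808) (.lf 0)))) (.nd (.nd (.nd (.lf 967402582352403925786880436127091040) (.lf 966640809021861328128036317405856128))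 (.nd (.lf 961448935960809168612421228539795840) (.lf 0))) (.nd (.nd (.lf 980584092175748278513125365338296704) (.lf 0)) (.nd (.lf 968956730150537002568978649170986080) (.lf 0))))) (.nd (.nd (.nd (.nd (.lf 966595638565022783912584160084199616) (.lf 983337269475035694267147545030646112)) (.nd (.lf 982096357019745304101967784768114848) (.lf 0))) (.nd (.nd (.lf 980921124770747467430727871181836512) (.lf 980748925027854318172607096627122560)) (.nd (.lf 978285790621818748225104641584904576) (.lf 0)))) (.nd (.nd (.nd (.lf 978071615081239719644182101395652960) (.lf 982972503357991925096914364272904576)) (.nd (.lf 982247239325240322203525885176484032) (.lf 0))) (.nd (.nd (.lf 968951101647008384501857525026895232) (.lf 0)) (.nd (.lf 981768949583069075071215609154078880) (.lf 0))))))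

/-- table part -/
def keyT_6 : Tr :=
  .nd keyT_4 keyT_5

/-- table part -/
def keyT_7 : Tr :=
  .nd keyT_3 keyT_6

/-- table part -/
def keyT_8 : Tr :=
  .nd (.nd (.nd (.nd (.nd (.nd (.lf 974308172861032186929447868501973152) (.lf 974472274662336014615030766981293280)) (.nd (.lf 968706513222395512899273631901892704) (.lf 0))) (.nd (.nd (.lf 981727666721874296822894916179181792) (.lf 968992934981516641372034422297281920)) (.nd (.lf 972912034031675580469006847987407008) (.lf 0)))) (.nd (.nd (.nd (.lf 983053514041965416629124219818658016) (.lf 975438481787188690220812733183469920)) (.nd (.lf 973177278507608306102345498957848928) (.lf 0))) (.nd (.nd (.lf 980633639260453454654482561884326048) (.lf 984525299664138254088540162155068608)) (.nd (.lf 966561164403839391077015411083166080) (.lf 0))))) (.nd (.nd (.nd (.nd (.lf 974427269977374815993812747374970048)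 (.lf 983029232956416467287212872393865568)) (.nd (.lf 976542645273595796834442367082936416) (.lf 0))) (.nd (.nd (.lf 967172298156844208116009384473410784) (.lf 984041138880194745015501948662817152)) (.nd (.lf 973074650330805011200253764704451968) (.lf 0)))) (.nd (.nd (.nd (.lf 979524173112197897114798295223746720) (.lf 984277017182054776108797773267450016)) (.nd (.lf 975042081942613960084066910827754656) (.lf 0))) (.nd (.nd (.lf 978004186306580356399523766328273088) (.lf 0)) (.nd (.lf 969196753478407717821505144474482912) (.lf 0)))))) (.nd (.nd (.nd (.nd (.nd (.lf 965870276258874375509371334346987904) (.lf 979667778630007168222883779379770560)) (.nd (.lf 972889238564557989726020754802461792) (.lf 0))) (.nd (.nd (.lf 969233657535987495214533374774528096) (.lf 972990941615600000929996269420946528)) (.nd (.lf 981922919135573831242811929756322016)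 (.lf 0)))) (.nd (.nd (.nd (.lf 978037148048134210934134554920801440) (.lf 961362746913578296386989573131314272)) (.nd (.lf 967849508285179841965171589491363936) (.lf 0))) (.nd (.nd (.lf 984714167110882304643822729451219328) (.lf 0)) (.nd (.lf 977800328518651011087453217820497280) (.lf 0))))) (.nd (.nd (.nd (.nd (.lf 978913119439820993127809524135282048) (.lf 980958197123369330208168677707501760)) (.nd (.lf 966554598182485236567713013396033632) (.lf 0))) (.nd (.nd (.lf 958166759853213313909401748024706240) (.lf 958688156470329051058857894334341216)) (.nd (.lf 977636872569303994383488581369910656) (.lf 0)))) (.nd (.nd (.nd (.lf 966682047714508642448972513798372448) (.lf 960998936256044948849091330045233344)) (.nd (.lf 978326434856678475569899222120749152) (.lf 0))) (.nd (.nd (.lf 969185571027010223163596417099075680) (.lf 0)) (.nd (.lf 973071794221793323213303686675964128)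 (.lf 0))))))

/-- table part -/
def keyT_9 : Tr :=
  .nd (.nd (.nd (.nd (.nd (.nd (.lf 961196862910391497068935776923010208) (.lf 967971004152070184193613533760705920)) (.nd (.lf 983033224000153333671697540808297632) (.lf 0))) (.nd (.nd (.lf 958895981819751893522137389386311904) (.lf 968464164952583400694344548620816576)) (.nd (.lf 978361983686403911637495874077106528) (.lf 0)))) (.nd (.nd (.nd (.lf 967414744459266611625137592441485504) (.lf 958160853517970507352943041738624352)) (.nd (.lf 967595354289521757820961861742741664) (.lf 0))) (.nd (.nd (.lf 973041599621743243430555417963799744) (.lf 967780889321590409498832082259293376)) (.nd (.lf 968455443941856624848864561906172096) (.lf 0))))) (.nd (.nd (.nd (.nd (.lf 980639654885018867026068266130057568) (.lf 977635383373373880373959008179325120)) (.nd (.lf 969111804741554870553573192869581184)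 (.lf 0))) (.nd (.nd (.lf 981731590915657313844474019263493472) (.lf 976860009701481305561260433625761984)) (.nd (.lf 983375302744298038705783533644135616) (.lf 0)))) (.nd (.nd (.nd (.lf 984602148334379702071430062692029792) (.lf 958166013185564249936761138590365888)) (.nd (.lf 979164304483216030223368123839620480) (.lf 0))) (.nd (.nd (.lf 975515986444510790951638876884616384) (.lf 0)) (.nd (.lf 972363542417921731169759127629177184) (.lf 0)))))) (.nd (.nd (.nd (.nd (.nd (.lf 960960707270678852164558826876483968) (.lf 972666581824279377515803407875789920)) (.nd (.lf 958598198867476469147028473852970336) (.lf 0))) (.nd (.nd (.lf 972924554279200338411217703347115232) (.lf 976869389516335324151352080674830496)) (.nd (.lf 973744630651712942737580973779822784) (.lf 0)))) (.nd (.nd (.nd (.lf 967606198692610575858021995314728288) (.lf 980678132304861036778498613255029920))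 (.nd (.lf 969218122737670726721945080927859872) (.lf 0))) (.nd (.nd (.lf 961162564837944188520097451448945888) (.lf 0)) (.nd (.lf 980470282124177087621361173554155680) (.lf 0))))) (.nd (.nd (.nd (.nd (.lf 982249869210371570058970874298540192) (.lf 979450414083207836485470463623275712)) (.nd (.lf 983476474671570368382019426365656160) (.lf 0))) (.nd (.nd (.lf 979443201684975149411742395467499616) (.lf 981733795592566492720791119674430816)) (.nd (.lf 974110976840599543640910467012377824) (.lf 0)))) (.nd (.nd (.nd (.lf 983319877697194807247878243650742656) (.lf 974945367918332767339067738719377632)) (.nd (.lf 967982454513520007131998537505972384) (.lf 0))) (.nd (.nd (.lf 983465773881614775362278261417822368) (.lf 0)) (.nd (.lf 975610867542660011299767392934234496) (.lf 0))))))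

/-- table part -/
def keyT_10 : Tr :=
  .nd keyT_8 keyT_9

/-- table part -/
def keyT_11 : Tr :=
  .nd (.nd (.nd (.nd (.nd (.nd (.lf 974302966640107453703995526898427104) (.lf 966437906009868688258457763294924896)) (.nd (.lf 982729272830351996372735905769923808) (.lf 0))) (.nd (.nd (.lf 976777535662623351688698188850898112) (.lf 983076290848766265274526327246136416)) (.nd (.lf 967407185983025397357548542614520160) (.lf 0)))) (.nd (.nd (.nd (.lf 976867480426607958891583851058091200) (.lf 958169642865655136931543267055711392)) (.nd (.lf 984775732313669356850747012723818688) (.lf 0))) (.nd (.nd (.lf 973730094242349083474654836917751904) (.lf 974297566476078834066154493590079840)) (.nd (.lf 967159747886881804551167157564789120) (.lf 0))))) (.nd (.nd (.nd (.nd (.lf 973132825845456302699989096662933664) (.lf 966434778733939663965115716200671392))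 (.nd (.lf 980680694527634041906372256255367264) (.lf 0))) (.nd (.nd (.lf 981931881514394869261122883683393920) (.lf 977989393442969843049161225372096704)) (.nd (.lf 976499831041325684329217610942368864) (.lf 0)))) (.nd (.nd (.nd (.lf 979521750255607727594338512763345248) (.lf 966581228988897336817940187622624608)) (.nd (.lf 979097451414394406432164204367987040) (.lf 0))) (.nd (.nd (.lf 972891746946611528328503833522442464) (.lf 0)) (.nd (.lf 976787422623083827355332062919821664) (.lf 0)))))) (.nd (.nd (.nd (.nd (.nd (.lf 984689005900057063581927057026892992) (.lf 958754942102599213134864424757148864)) (.nd (.lf 960997703194007665262557689168481440) (.lf 0))) (.nd (.nd (.lf 961249927083720716951420865204336992) (.lf 979577698461533068737994945145650336)) (.nd (.lf 981722764156548371674659132861155552) (.lf 0)))) (.nd (.nd (.nd (.lf 961123322911051582830692057422682496)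 (.lf 968711511406530912102230213615723712)) (.nd (.lf 983179840896195439326671024614852768) (.lf 0))) (.nd (.nd (.lf 975190558309206321791418935885938848) (.lf 0)) (.nd (.lf 975693025509361148864224574884200832) (.lf 0))))) (.nd (.nd (.nd (.nd (.lf 984772517194799659504767558340525216) (.lf 973112715756124226297847141973935456)) (.nd (.lf 968466665628953589326417281570485600) (.lf 0))) (.nd (.nd (.lf 972684964028568595523854150625429696) (.lf 982050363538247189538544944691717504)) (.nd (.lf 984733341608884956227080237253792096) (.lf 0)))) (.nd (.nd (.nd (.lf 975409309431019350760264967070787680) (.lf 961000344871018248958476772921524384)) (.nd (.lf 967853160834509048555538972557912224) (.lf 0))) (.nd (.nd (.lf 969278983768676797561183440690252000) (.lf 0)) (.nd (.lf 984494395128725949180921940208372096) (.lf 0))))))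

/-- table part -/
def keyT_12 : Tr :=
  .nd (.nd (.nd (.nd (.nd (.nd (.lf 980468742213796122872247489520510336) (.lf 978281875193975525144401512217597088)) (.nd (.lf 976864636503578166874514343039555808) (.lf 0))) (.nd (.nd (.lf 979664843256569805267925298440243360) (.lf 974311593143071120243826228473281760)) (.nd (.lf 981533711724367355661852506573878368) (.lf 0)))) (.nd (.nd (.nd (.lf 980591500781463372739189716086576480) (.lf 958769246741525990272054565879888096)) (.nd (.lf 982201933186921574301756329105276000) (.lf 0))) (.nd (.nd (.lf 958153060543987043900450821236793504) (.lf 966600481970363759470089989976872160)) (.nd (.lf 980948699960497611136037169945486720) (.lf 0))))) (.nd (.nd (.nd (.nd (.lf 958674050393824023625894246247092384) (.lf 967413399518397859023581514620585184)) (.nd (.lf 968999825788581924874123758590637280) (.lf 0)))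 (.nd (.nd (.lf 978322598297967147432838137000599744) (.lf 966597157096739858047146228650854592)) (.nd (.lf 978183118728263833776715944716243040) (.lf 0)))) (.nd (.nd (.nd (.lf 983434999922604460928096317800175808) (.lf 980641355606696024548897955411834080)) (.nd (.lf 958362454001405808097963922724107424) (.lf 0))) (.nd (.nd (.lf 984356143878254817533982565422109024) (.lf 0)) (.nd (.lf 958734825318971787967399621939990912) (.lf 0)))))) (.nd (.nd (.nd (.nd (.nd (.lf 967783377392466362580731596591124864) (.lf 978005681890480100743303135186079968)) (.nd (.lf 960920419782603679361785089282460896) (.lf 0))) (.nd (.nd (.lf 958534686766058870465142377360507104) (.lf 977028086056996227766019664456694144)) (.nd (.lf 961366513486381374813529310164470112) (.lf 0)))) (.nd (.nd (.nd (.lf 984291808784775406739390301684806752) (.lf 961005232568982629078354934288786784))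 (.nd (.lf 976950038878626440061192351561856384) (.lf 0))) (.nd (.nd (.lf 974419815720228225730802748357787008) (.lf 0)) (.nd (.lf 960953276265994535417870691533737152) (.lf 0))))) (.nd (.nd (.nd (.nd (.lf 966685679406253486640305523081259360) (.lf 972644319938167292133649540911782048)) (.nd (.lf 966320794818040055914317719147695296) (.lf 0))) (.nd (.nd (.lf 984032100736784486808210649673778336) (.lf 977032084351862818333316378392929632)) (.nd (.lf 967476664442673588040738824971996544) (.lf 0)))) (.nd (.nd (.nd (.lf 967410271699687234699424292194860256) (.lf 976494806865309955799915059618154848)) (.nd (.lf 966396751121741805140566451534472352) (.lf 0))) (.nd (.nd (.lf 974094583645689181950953437023750528) (.lf 0)) (.nd (.lf 984473359514808122524869736105656512) (.lf 0))))))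

/-- table part -/
def keyT_13 : Tr :=
  .nd keyT_11 keyT_12

/-- table part -/
def keyT_14 : Tr :=
  .nd keyT_10 keyT_13

/-- table part -/
def keyT_15 : Tr :=
  .nd keyT_7 keyT_14

/-- table -/
def keyT : Tr :=
  keyT_15

/-- table part -/
def posT_1 : Tr :=
  .nd (.nd (.nd (.nd (.nd (.nd (.lf 67) (.lf 2)) (.nd (.lf 81) (.lf 0))) (.nd (.nd (.lf 160) (.lf 84)) (.nd (.lf 184) (.lf 0)))) (.nd (.nd (.nd (.lf 246) (.lf 137)) (.nd (.lf 122) (.lf 0))) (.nd (.nd (.lf 151) (.lf 48)) (.nd (.lf 149) (.lf 0))))) (.nd (.nd (.nd (.nd (.lf 156) (.lf 245)) (.nd (.lf 219) (.lf 0))) (.nd (.nd (.lf 284) (.lf 44)) (.nd (.lf 68) (.lf 0)))) (.nd (.nd (.nd (.lf 208) (.lf 22)) (.nd (.lf 169) (.lf 0))) (.nd (.nd (.lf 331) (.lf 0)) (.nd (.lf 351) (.lf 0)))))) (.nd (.nd (.nd (.nd (.nd (.lf 220) (.lf 54)) (.nd (.lf 257) (.lf 0))) (.nd (.nd (.lf 261) (.lf 163)) (.nd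 (.lf 345) (.lf 0)))) (.nd (.nd (.nd (.lf 180) (.lf 178)) (.nd (.lf 55) (.lf 0))) (.nd (.nd (.lf 93) (.lf 0)) (.nd (.lf 313) (.lf 0))))) (.nd (.nd (.nd (.nd (.lf 302) (.lf 190)) (.nd (.lf 199) (.lf 0))) (.nd (.nd (.lf 259) (.lf 230)) (.nd (.lf 288) (.lf 0)))) (.nd (.nd (.nd (.lf 6) (.lf 185)) (.nd (.lf 108) (.lf 0))) (.nd (.nd (.lf 338) (.lf 0)) (.nd (.lf 142) (.lf 0))))))

/-- table part -/
def posT_2 : Tr :=
  .nd (.nd (.nd (.nd (.nd (.nd (.lf 63) (.lf 101)) (.nd (.lf 120) (.lf 0))) (.nd (.nd (.lf 265) (.lf 155)) (.nd (.lf 293) (.lf 0)))) (.nd (.nd (.nd (.lf 273) (.lf 329)) (.nd (.lf 188) (.lf 0))) (.nd (.nd (.lf 248) (.lf 194)) (.nd (.lf 46) (.lf 0))))) (.nd (.nd (.nd (.nd (.lf 222) (.lf 100)) (.nd (.lf 186) (.lf 0))) (.nd (.nd (.lf 247) (.lf 254)) (.nd (.lf 148) (.lf 0)))) (.nd (.nd (.nd (.lf 204) (.lf 170)) (.nd (.lf 264) (.lf 0))) (.nd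 (.nd (.lf 176) (.lf 0)) (.nd (.lf 20) (.lf 0)))))) (.nd (.nd (.nd (.nd (.nd (.lf 242) (.lf 53)) (.nd (.lf 51) (.lf 0))) (.nd (.nd (.lf 215) (.lf 339)) (.nd (.lf 133) (.lf 0)))) (.nd (.nd (.nd (.lf 189) (.lf 282)) (.nd (.lf 224) (.lf 0))) (.nd (.nd (.lf 315) (.lf 0)) (.nd (.lf 8) (.lf 0))))) (.nd (.nd (.nd (.nd (.lf 233) (.lf 128)) (.nd (.lf 343) (.lf 0))) (.nd (.nd (.lf 21) (.lf 154)) (.nd (.lf 88) (.lf 0)))) (.nd (.nd (.nd (.lf 39) (.lf 192)) (.nd (.lf 309) (.lf 0))) (.nd (.nd (.lf 47) (.lf 0)) (.nd (.lf 283) (.lf 0))))))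

/-- table part -/
def posT_3 : Tr :=
  .nd posT_1 posT_2

/-- table part -/
def posT_4 : Tr :=
  .nd (.nd (.nd (.nd (.nd (.nd (.lf 290) (.lf 325)) (.nd (.lf 132) (.lf 0))) (.nd (.nd (.lf 50) (.lf 249)) (.nd (.lf 256) (.lf 0)))) (.nd (.nd (.nd (.lf 296) (.lf 317)) (.nd (.lf 118) (.lf 0))) (.nd (.nd (.lf 221) (.lf 272)) (.nd (.lf 241) (.lf 0))))) (.nd (.nd (.nd (.nd (.lf 175) (.lf 342)) (.nd (.lf 19) (.lf 0))) (.nd (.nd (.lf 11) (.lf 173)) (.nd (.lf 14) (.lf 0)))) (.nd (.nd (.nd (.lf 314) (.lf 200)) (.nd (.lf 40) (.lf 0))) (.nd (.nd (.lf 301) (.lf 0)) (.nd (.lf 35) (.lf 0)))))) (.nd (.nd (.nd (.nd (.nd (.lf 18) (.lf 353)) (.nd (.lf 304) (.lf 0))) (.nd (.nd (.lf 110) (.lf 324)) (.nd (.lf 31) (.lf 0)))) (.nd (.nd (.nd (.lf 349) (.lf 144)) (.nd (.lf 195) (.lf 0))) (.nd (.nd (.lf 352) (.lf 0)) (.nd (.lf 112) (.lf 0))))) (.nd (.nd (.nd (.nd (.lf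 266) (.lf 174)) (.nd (.lf 89) (.lf 0))) (.nd (.nd (.lf 150) (.lf 85)) (.nd (.lf 280) (.lf 0)))) (.nd (.nd (.nd (.lf 201) (.lf 274)) (.nd (.lf 303) (.lf 0))) (.nd (.nd (.lf 239) (.lf 0)) (.nd (.lf 210) (.lf 0))))))

/-- table part -/
def posT_5 : Tr :=
  .nd (.nd (.nd (.nd (.nd (.nd (.lf 326) (.lf 166)) (.nd (.lf 74) (.lf 0))) (.nd (.nd (.lf 300) (.lf 267)) (.nd (.lf 177) (.lf 0)))) (.nd (.nd (.nd (.lf 322) (.lf 33)) (.nd (.lf 37) (.lf 0))) (.nd (.nd (.lf 98) (.lf 183)) (.nd (.lf 92) (.lf 0))))) (.nd (.nd (.nd (.nd (.lf 193) (.lf 260)) (.nd (.lf 214) (.lf 0))) (.nd (.nd (.lf 111) (.lf 306)) (.nd (.lf 354) (.lf 0)))) (.nd (.nd (.nd (.lf 157) (.lf 225)) (.nd (.lf 145) (.lf 0))) (.nd (.nd (.lf 255) (.lf 0)) (.nd (.lf 229) (.lf 0)))))) (.nd (.nd (.nd (.nd (.nd (.lf 135) (.lf 109)) (.nd (.lf 333) (.lf 0))) (.nd (.nd (.lf 131) (.lf 25)) (.nd (.lf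 57) (.lf 0)))) (.nd (.nd (.nd (.lf 75) (.lf 69)) (.nd (.lf 45) (.lf 0))) (.nd (.nd (.lf 270) (.lf 0)) (.nd (.lf 105) (.lf 0))))) (.nd (.nd (.nd (.nd (.lf 64) (.lf 328)) (.nd (.lf 307) (.lf 0))) (.nd (.nd (.lf 285) (.lf 281)) (.nd (.lf 235) (.lf 0)))) (.nd (.nd (.nd (.lf 231) (.lf 316)) (.nd (.lf 310) (.lf 0))) (.nd (.nd (.lf 104) (.lf 0)) (.nd (.lf 297) (.lf 0))))))

/-- table part -/
def posT_6 : Tr :=
  .nd posT_4 posT_5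

/-- table part -/
def posT_7 : Tr :=
  .nd posT_3 posT_6

/-- table part -/
def posT_8 : Tr :=
  .nd (.nd (.nd (.nd (.nd (.nd (.lf 161) (.lf 167)) (.nd (.lf 102) (.lf 0))) (.nd (.nd (.lf 292) (.lf 106)) (.nd (.lf 129) (.lf 0)))) (.nd (.nd (.nd (.lf 320) (.lf 181)) (.nd (.lf 143) (.lf 0))) (.nd (.nd (.lf 275) (.lf 348)) (.nd (.lf 61) (.lf 0))))) (.nd (.nd (.nd (.nd (.lf 165) (.lf 318)) (.nd (.lf 198) (.lf 0))) (.nd (.nd (.lf 73) (.lf 337)) (.nd (.lf 139) (.lf 0)))) (.nd (.nd (.nd (.lf 253) (.lf 340)) (.nd (.lf 171) (.lf 0))) (.nd (.nd (.lf 226) (.lf 0)) (.nd (.lf 115) (.lf 0)))))) (.nd (.nd (.nd (.nd (.nd (.lf 49) (.lf 263)) (.nd (.lf 126) (.lf 0))) (.nd (.nd (.lf 117) (.lf 134)) (.nd (.lf 298) (.lf 0)))) (.nd (.nd (.nd (.lf 228) (.lf 42)) (.nd (.lf 90) (.lf 0))) (.nd (.nd (.lf 356) (.lf 0)) (.nd (.lf 218) (.lf 0))))) (.nd (.nd (.nd (.nd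 (.lf 240) (.lf 287)) (.nd (.lf 60) (.lf 0))) (.nd (.nd (.lf 4) (.lf 13)) (.nd (.lf 217) (.lf 0)))) (.nd (.nd (.nd (.lf 70) (.lf 29)) (.nd (.lf 237) (.lf 0))) (.nd (.nd (.lf 114) (.lf 0)) (.nd (.lf 138) (.lf 0))))))

/-- table part -/
def posT_9 : Tr :=
  .nd (.nd (.nd (.nd (.nd (.nd (.lf 38) (.lf 94)) (.nd (.lf 319) (.lf 0))) (.nd (.nd (.lf 23) (.lf 97)) (.nd (.lf 238) (.lf 0)))) (.nd (.nd (.nd (.lf 79) (.lf 1)) (.nd (.lf 82) (.lf 0))) (.nd (.nd (.lf 136) (.lf 86)) (.nd (.lf 96) (.lf 0))))) (.nd (.nd (.nd (.nd (.lf 276) (.lf 216)) (.nd (.lf 113) (.lf 0))) (.nd (.nd (.lf 294) (.lf 205)) (.nd (.lf 330) (.lf 0)))) (.nd (.nd (.nd (.lf 350) (.lf 3)) (.nd (.lf 244) (.lf 0))) (.nd (.nd (.lf 182) (.lf 0)) (.nd (.lf 121) (.lf 0)))))) (.nd (.nd (.nd (.nd (.nd (.lf 27) (.lf 124)) (.nd (.lf 10) (.lf 0))) (.nd (.nd (.lf 130) (.lf 209)) (.nd (.lf 147)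 (.lf 0)))) (.nd (.nd (.nd (.lf 83) (.lf 278)) (.nd (.lf 116) (.lf 0))) (.nd (.nd (.lf 36) (.lf 0)) (.nd (.lf 269) (.lf 0))))) (.nd (.nd (.nd (.nd (.lf 311) (.lf 251)) (.nd (.lf 335) (.lf 0))) (.nd (.nd (.lf 250) (.lf 295)) (.nd (.lf 153) (.lf 0)))) (.nd (.nd (.nd (.lf 327) (.lf 168)) (.nd (.lf 95) (.lf 0))) (.nd (.nd (.lf 334) (.lf 0)) (.nd (.lf 187) (.lf 0))))))

/-- table part -/
def posT_10 : Tr :=
  .nd posT_8 posT_9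

/-- table part -/
def posT_11 : Tr :=
  .nd (.nd (.nd (.nd (.nd (.nd (.lf 159) (.lf 59)) (.nd (.lf 312) (.lf 0))) (.nd (.nd (.lf 202) (.lf 321)) (.nd (.lf 76) (.lf 0)))) (.nd (.nd (.nd (.lf 207) (.lf 5)) (.nd (.lf 359) (.lf 0))) (.nd (.nd (.lf 146) (.lf 158)) (.nd (.lf 72) (.lf 0))))) (.nd (.nd (.nd (.nd (.lf 141) (.lf 58)) (.nd (.lf 279) (.lf 0))) (.nd (.nd (.lf 299) (.lf 223)) (.nd (.lf 197) (.lf 0)))) (.nd (.nd (.nd (.lf 252) (.lf 62)) (.nd (.lf 243) (.lf 0))) (.nd (.nd (.lf 127) (.lf 0)) (.nd (.lf 203) (.lf 0)))))) (.nd (.nd (.nd (.nd (.nd (.lf 355) (.lf 16)) (.nd (.lf 28) (.lf 0))) (.nd (.nd (.lf 41) (.lf 258)) (.nd (.lf 291) (.lf 0)))) (.nd (.nd (.nd (.lf 34) (.lf 103)) (.nd (.lf 323) (.lf 0))) (.nd (.nd (.lf 172) (.lf 0)) (.nd (.lf 191) (.lf 0))))) (.nd (.nd (.nd (.nd (.lf 358) (.lf 140)) (.nd (.lf 99) (.lf 0))) (.nd (.nd (.lf 125)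 (.lf 305)) (.nd (.lf 357) (.lf 0)))) (.nd (.nd (.nd (.lf 179) (.lf 30)) (.nd (.lf 91) (.lf 0))) (.nd (.nd (.lf 119) (.lf 0)) (.nd (.lf 347) (.lf 0))))))

/-- table part -/
def posT_12 : Tr :=
  .nd (.nd (.nd (.nd (.nd (.nd (.lf 268) (.lf 234)) (.nd (.lf 206) (.lf 0))) (.nd (.nd (.lf 262) (.lf 162)) (.nd (.lf 289) (.lf 0)))) (.nd (.nd (.nd (.lf 271) (.lf 17)) (.nd (.lf 308) (.lf 0))) (.nd (.nd (.lf 0) (.lf 66)) (.nd (.lf 286) (.lf 0))))) (.nd (.nd (.nd (.nd (.lf 12) (.lf 78)) (.nd (.lf 107) (.lf 0))) (.nd (.nd (.lf 236) (.lf 65)) (.nd (.lf 232) (.lf 0)))) (.nd (.nd (.nd (.lf 332) (.lf 277)) (.nd (.lf 7) (.lf 0))) (.nd (.nd (.lf 344) (.lf 0)) (.nd (.lf 15) (.lf 0)))))) (.nd (.nd (.nd (.nd (.nd (.lf 87) (.lf 227)) (.nd (.lf 24) (.lf 0))) (.nd (.nd (.lf 9) (.lf 212)) (.nd (.lf 43) (.lf 0)))) (.nd (.nd (.nd (.lf 341) (.lf 32)) (.nd (.lf 211)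 (.lf 0))) (.nd (.nd (.lf 164) (.lf 0)) (.nd (.lf 26) (.lf 0))))) (.nd (.nd (.nd (.nd (.lf 71) (.lf 123)) (.nd (.lf 52) (.lf 0))) (.nd (.nd (.lf 336) (.lf 213)) (.nd (.lf 80) (.lf 0)))) (.nd (.nd (.nd (.lf 77) (.lf 196)) (.nd (.lf 56) (.lf 0))) (.nd (.nd (.lf 152) (.lf 0)) (.nd (.lf 346) (.lf 0))))))

/-- table part -/
def posT_13 : Tr :=
  .nd posT_11 posT_12

/-- table part -/
def posT_14 : Tr :=
  .nd posT_10 posT_13

/-- table part -/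
def posT_15 : Tr :=
  .nd posT_7 posT_14

/-- table -/
def posT : Tr :=
  posT_15

/-- table part -/
def srtT_1 : Tr :=
  .nd (.nd (.nd (.nd (.nd (.nd (.lf 103) (.lf 194)) (.nd (.lf 284) (.lf 0))) (.nd (.nd (.lf 30) (.lf 33)) (.nd (.lf 316) (.lf 0)))) (.nd (.nd (.nd (.lf 303) (.lf 216)) (.nd (.lf 64) (.lf 0))) (.nd (.nd (.lf 229) (.lf 106)) (.nd (.lf 172) (.lf 0))))) (.nd (.nd (.nd (.nd (.lf 267) (.lf 354)) (.nd (.lf 298) (.lf 0))) (.nd (.nd (.lf 223) (.lf 95)) (.nd (.lf 48) (.lf 0)))) (.nd (.nd (.nd (.lf 352) (.lf 138)) (.nd (.lf 116) (.lf 0))) (.nd (.nd (.lf 234) (.lf 0)) (.nd (.lf 25) (.lf 0)))))) (.nd (.nd (.nd (.nd (.nd (.lf 236) (.lf 180)) (.nd (.lf 101) (.lf 0))) (.nd (.nd (.lf 227) (.lf 286)) (.nd (.lf 306) (.lf 0)))) (.nd (.nd (.nd (.lf 178) (.lf 34)) (.nd (.lf 317) (.lf 0))) (.nd (.nd (.lf 126) (.lf 0)) (.nd (.lf 215) (.lf 0)))))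 (.nd (.nd (.nd (.nd (.lf 143) (.lf 218)) (.nd (.lf 127) (.lf 0))) (.nd (.nd (.lf 220) (.lf 119)) (.nd (.lf 277) (.lf 0)))) (.nd (.nd (.nd (.lf 191) (.lf 131)) (.nd (.lf 192) (.lf 0))) (.nd (.nd (.lf 132) (.lf 0)) (.nd (.lf 100) (.lf 0))))))

/-- table part -/
def srtT_2 : Tr :=
  .nd (.nd (.nd (.nd (.nd (.nd (.lf 89) (.lf 278)) (.nd (.lf 130) (.lf 0))) (.nd (.nd (.lf 208) (.lf 330)) (.nd (.lf 319) (.lf 0)))) (.nd (.nd (.nd (.lf 109) (.lf 65)) (.nd (.lf 111) (.lf 0))) (.nd (.nd (.lf 276) (.lf 105)) (.nd (.lf 41) (.lf 0))))) (.nd (.nd (.nd (.nd (.lf 244) (.lf 21)) (.nd (.lf 212) (.lf 0))) (.nd (.nd (.lf 320) (.lf 305)) (.nd (.lf 335) (.lf 0)))) (.nd (.nd (.nd (.lf 159) (.lf 167)) (.nd (.lf 40) (.lf 0))) (.nd (.nd (.lf 173) (.lf 0)) (.nd (.lf 181) (.lf 0)))))) (.nd (.nd (.nd (.nd (.nd (.lf 23) (.lf 7)) (.nd (.lf 283) (.lf 0))) (.nd (.nd (.lf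 195) (.lf 55)) (.nd (.lf 52) (.lf 0)))) (.nd (.nd (.nd (.lf 336) (.lf 70)) (.nd (.lf 107) (.lf 0))) (.nd (.nd (.lf 184) (.lf 0)) (.nd (.lf 87) (.lf 0))))) (.nd (.nd (.nd (.nd (.lf 139) (.lf 80)) (.nd (.lf 16) (.lf 0))) (.nd (.nd (.lf 230) (.lf 353)) (.nd (.lf 8) (.lf 0)))) (.nd (.nd (.nd (.lf 153) (.lf 318)) (.nd (.lf 164) (.lf 0))) (.nd (.nd (.lf 269) (.lf 0)) (.nd (.lf 51) (.lf 0))))))

/-- table part -/
def srtT_3 : Tr :=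
  .nd srtT_1 srtT_2

/-- table part -/
def srtT_4 : Tr :=
  .nd (.nd (.nd (.nd (.nd (.nd (.lf 256) (.lf 331)) (.nd (.lf 77) (.lf 0))) (.nd (.nd (.lf 359) (.lf 38)) (.nd (.lf 356) (.lf 0)))) (.nd (.nd (.nd (.lf 43) (.lf 2)) (.nd (.lf 327) (.lf 0))) (.nd (.nd (.lf 102) (.lf 214)) (.nd (.lf 113) (.lf 0))))) (.nd (.nd (.nd (.nd (.lf 10) (.lf 314)) (.nd (.lf 99) (.lf 0))) (.nd (.nd (.lf 165) (.lf 120)) (.nd (.lf 250) (.lf 0)))) (.nd (.nd (.nd (.lf 66) (.lf 342)) (.nd (.lf 296) (.lf 0))) (.nd (.nd (.lf 121) (.lf 0)) (.nd (.lf 12) (.lf 0)))))) (.nd (.nd (.nd (.nd (.nd (.lf 141) (.lf 26)) (.nd (.lf 249) (.lf 0))) (.nd (.nd (.lf 134) (.lf 213)) (.nd (.lf 67) (.lf 0)))) (.nd (.nd (.nd (.lf 297) (.lf 201)) (.nd (.lf 308) (.lf 0))) (.nd (.nd (.lf 321) (.lf 0)) (.nd (.lf 263) (.lf 0))))) (.nd (.nd (.nd (.nd (.lf 239) (.lf 300)) (.nd (.lf 348) (.lf 0)))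 (.nd (.nd (.lf 169) (.lf 255)) (.nd (.lf 233) (.lf 0)))) (.nd (.nd (.nd (.lf 275) (.lf 50)) (.nd (.lf 148) (.lf 0))) (.nd (.nd (.lf 160) (.lf 0)) (.nd (.lf 93) (.lf 0))))))

/-- table part -/
def srtT_5 : Tr :=
  .nd (.nd (.nd (.nd (.nd (.nd (.lf 56) (.lf 71)) (.nd (.lf 329) (.lf 0))) (.nd (.nd (.lf 57) (.lf 6)) (.nd (.lf 145) (.lf 0)))) (.nd (.nd (.nd (.lf 5) (.lf 85)) (.nd (.lf 262) (.lf 0))) (.nd (.nd (.lf 129) (.lf 27)) (.nd (.lf 344) (.lf 0))))) (.nd (.nd (.nd (.nd (.lf 304) (.lf 301)) (.nd (.lf 90) (.lf 0))) (.nd (.nd (.lf 357) (.lf 274)) (.nd (.lf 150) (.lf 0)))) (.nd (.nd (.nd (.lf 264) (.lf 190)) (.nd (.lf 117) (.lf 0))) (.nd (.nd (.lf 162) (.lf 0)) (.nd (.lf 32) (.lf 0)))))) (.nd (.nd (.nd (.nd (.nd (.lf 210) (.lf 110)) (.nd (.lf 248) (.lf 0))) (.nd (.nd (.lf 279) (.lf 125)) (.nd (.lf 135) (.lf 0)))) (.nd (.nd (.nd (.lf 228) (.lf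 24)) (.nd (.lf 282) (.lf 0))) (.nd (.nd (.lf 74) (.lf 0)) (.nd (.lf 197) (.lf 0))))) (.nd (.nd (.nd (.nd (.lf 315) (.lf 231)) (.nd (.lf 355) (.lf 0))) (.nd (.nd (.lf 261) (.lf 53)) (.nd (.lf 20) (.lf 0)))) (.nd (.nd (.nd (.lf 307) (.lf 273)) (.nd (.lf 280) (.lf 0))) (.nd (.nd (.lf 137) (.lf 0)) (.nd (.lf 340) (.lf 0))))))

/-- table part -/
def srtT_6 : Tr :=
  .nd srtT_4 srtT_5

/-- table part -/
def srtT_7 : Tr :=
  .nd srtT_3 srtT_6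

/-- table part -/
def srtT_8 : Tr :=
  .nd (.nd (.nd (.nd (.nd (.nd (.lf 293) (.lf 136)) (.nd (.lf 193) (.lf 0))) (.nd (.nd (.lf 343) (.lf 323)) (.nd (.lf 22) (.lf 0)))) (.nd (.nd (.nd (.lf 294) (.lf 199)) (.nd (.lf 1) (.lf 0))) (.nd (.nd (.lf 325) (.lf 266)) (.nd (.lf 310) (.lf 0))))) (.nd (.nd (.nd (.nd (.lf 295) (.lf 36)) (.nd (.lf 182) (.lf 0))) (.nd (.nd (.lf 128) (.lf 337)) (.nd (.lf 333) (.lf 0)))) (.nd (.nd (.nd (.lf 9) (.lf 347)) (.nd (.lf 198) (.lf 0))) (.nd (.nd (.lf 149) (.lf 0)) (.nd (.lf 226) (.lf 0)))))) (.nd (.nd (.nd (.nd (.nd (.lf 79) (.lf 68)) (.nd (.lf 288) (.lf 0))) (.nd (.nd (.lf 81) (.lf 292)) (.nd (.lf 58) (.lf 0)))) (.nd (.nd (.nd (.lf 75) (.lf 254)) (.nd (.lf 176) (.lf 0))) (.nd (.nd (.lf 238) (.lf 0)) (.nd (.lf 28) (.lf 0))))) (.nd (.nd (.nd (.nd (.lf 334) (.lf 350)) (.nd (.lf 221) (.lf 0))) (.nd (.nd (.lf 154)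 (.lf 200)) (.nd (.lf 217) (.lf 0)))) (.nd (.nd (.nd (.lf 206) (.lf 232)) (.nd (.lf 312) (.lf 0))) (.nd (.nd (.lf 245) (.lf 0)) (.nd (.lf 322) (.lf 0))))))

/-- table part -/
def srtT_9 : Tr :=
  .nd (.nd (.nd (.nd (.nd (.nd (.lf 291) (.lf 72)) (.nd (.lf 204) (.lf 0))) (.nd (.nd (.lf 302) (.lf 258)) (.nd (.lf 211) (.lf 0)))) (.nd (.nd (.nd (.lf 166) (.lf 196)) (.nd (.lf 17) (.lf 0))) (.nd (.nd (.lf 260) (.lf 219)) (.nd (.lf 246) (.lf 0))))) (.nd (.nd (.nd (.nd (.lf 92) (.lf 311)) (.nd (.lf 224) (.lf 0))) (.nd (.nd (.lf 346) (.lf 47)) (.nd (.lf 351) (.lf 0)))) (.nd (.nd (.nd (.lf 268) (.lf 188)) (.nd (.lf 289) (.lf 0))) (.nd (.nd (.lf 73) (.lf 0)) (.nd (.lf 272) (.lf 0)))))) (.nd (.nd (.nd (.nd (.nd (.lf 345) (.lf 237)) (.nd (.lf 19) (.lf 0))) (.nd (.nd (.lf 63) (.lf 142)) (.nd (.lf 341) (.lf 0)))) (.nd (.nd (.nd (.lf 174) (.lf 114)) (.nd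 (.lf 338) (.lf 0))) (.nd (.nd (.lf 270) (.lf 0)) (.nd (.lf 185) (.lf 0))))) (.nd (.nd (.nd (.nd (.lf 313) (.lf 94)) (.nd (.lf 54) (.lf 0))) (.nd (.nd (.lf 104) (.lf 42)) (.nd (.lf 98) (.lf 0)))) (.nd (.nd (.nd (.lf 225) (.lf 290)) (.nd (.lf 44) (.lf 0))) (.nd (.nd (.lf 91) (.lf 0)) (.nd (.lf 49) (.lf 0))))))

/-- table part -/
def srtT_10 : Tr :=
  .nd srtT_8 srtT_9

/-- table part -/
def srtT_11 : Tr :=
  .nd (.nd (.nd (.nd (.nd (.nd (.lf 309) (.lf 88)) (.nd (.lf 78) (.lf 0))) (.nd (.nd (.lf 0) (.lf 171)) (.nd (.lf 170) (.lf 0)))) (.nd (.nd (.nd (.lf 242) (.lf 203)) (.nd (.lf 328) (.lf 0))) (.nd (.nd (.lf 155) (.lf 11)) (.nd (.lf 271) (.lf 0))))) (.nd (.nd (.nd (.nd (.lf 146) (.lf 97)) (.nd (.lf 205) (.lf 0))) (.nd (.nd (.lf 45) (.lf 332)) (.nd (.lf 175) (.lf 0)))) (.nd (.nd (.nd (.lf 140) (.lf 158)) (.nd (.lf 59) (.lf 0))) (.nd (.nd (.lf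 241) (.lf 0)) (.nd (.lf 179) (.lf 0)))))) (.nd (.nd (.nd (.nd (.nd (.lf 82) (.lf 326)) (.nd (.lf 209) (.lf 0))) (.nd (.nd (.lf 46) (.lf 112)) (.nd (.lf 243) (.lf 0)))) (.nd (.nd (.nd (.lf 207) (.lf 83)) (.nd (.lf 177) (.lf 0))) (.nd (.nd (.lf 151) (.lf 0)) (.nd (.lf 222) (.lf 0))))) (.nd (.nd (.nd (.nd (.lf 13) (.lf 252)) (.nd (.lf 324) (.lf 0))) (.nd (.nd (.lf 187) (.lf 251)) (.nd (.lf 144) (.lf 0)))) (.nd (.nd (.nd (.lf 259) (.lf 108)) (.nd (.lf 253) (.lf 0))) (.nd (.nd (.lf 287) (.lf 0)) (.nd (.lf 285) (.lf 0))))))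

/-- table part -/
def srtT_12 : Tr :=
  .nd (.nd (.nd (.nd (.nd (.nd (.lf 183) (.lf 265)) (.nd (.lf 14) (.lf 0))) (.nd (.nd (.lf 31) (.lf 61)) (.nd (.lf 152) (.lf 0)))) (.nd (.nd (.nd (.lf 60) (.lf 349)) (.nd (.lf 257) (.lf 0))) (.nd (.nd (.lf 299) (.lf 163)) (.nd (.lf 62) (.lf 0))))) (.nd (.nd (.nd (.nd (.lf 69) (.lf 147)) (.nd (.lf 96) (.lf 0))) (.nd (.nd (.lf 15) (.lf 156)) (.nd (.lf 76) (.lf 0)))) (.nd (.nd (.nd (.lf 168) (.lf 29)) (.nd (.lf 358) (.lf 0))) (.nd (.nd (.lf 123) (.lf 0)) (.nd (.lf 84) (.lf 0)))))) (.nd (.nd (.nd (.nd (.nd (.lf 247) (.lf 39)) (.nd (.lf 161) (.lf 0))) (.nd (.nd (.lf 37) (.lf 157)) (.nd (.lf 35) (.lf 0)))) (.nd (.nd (.nd (.lf 124) (.lf 186)) (.nd (.lf 18) (.lf 0))) (.nd (.nd (.lf 86) (.lf 0)) (.nd (.lf 122) (.lf 0))))) (.nd (.nd (.nd (.nd (.lf 202) (.lf 281)) (.nd (.lf 3) (.lf 0))) (.nd (.nd (.lf 189) (.lf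 240)) (.nd (.lf 339) (.lf 0)))) (.nd (.nd (.nd (.lf 4) (.lf 133)) (.nd (.lf 235) (.lf 0))) (.nd (.nd (.lf 115) (.lf 0)) (.nd (.lf 118) (.lf 0))))))

/-- table part -/
def srtT_13 : Tr :=
  .nd srtT_11 srtT_12

/-- table part -/
def srtT_14 : Tr :=
  .nd srtT_10 srtT_13

/-- table part -/
def srtT_15 : Tr :=
  .nd srtT_7 srtT_14

/-- table -/
def srtT : Tr :=
  srtT_15

end Cfsg.Agent.SplitVoltageA7SData
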