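import Cfsg.Agent.Lib.SplitVoltageCovCore
import Cfsg.Agent.Lib.SplitVoltageCov22AData

/-!
Certificates for a weighted monomial representation.
-/

set_option autoImplicit false
set_option maxRecDepth 100000

namespace Cfsg.Agent.SplitVoltageCov22A

open Cfsg.Agent.SplitVoltageCovCore Cfsg.Agent.SplitVoltageCov22AData

/-- the data -/
noncomputable def mono : Mono :=
  ⟨1232, 4, 1, fun i => cond (Nat.beq i 0) gen0 gen1, rowT, nbT, cntT, parT, rankT⟩

theorem chunk0 : mono.chunkOK 0 77 = true := by decide +kernel

theorem chunk1 : mono.chunkOK 77 77 = true := by decide +kernel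

theorem chunk2 : mono.chunkOK 154 77 = true := by decide +kernel

theorem chunk3 : mono.chunkOK 231 77 = true := by decide +kernel

theorem chunk4 : mono.chunkOK 308 77 = true := by decide +kernel

theorem chunk5 : mono.chunkOK 385 77 = true := by decide +kernel

theorem chunk6 : mono.chunkOK 462 77 = true := by decide +kernel

theorem chunk7 : mono.chunkOK 539 77 = true := by decide +kernel

theorem chunk8 : mono.chunkOK 616 77 = true := by decide +kernel

theorem chunk9 : mono.chunkOK 693 77 = true := by decide +kernel

theorem chunk10 : mono.chunkOK 770 77 = true := by decide +kernel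

theorem chunk11 : mono.chunkOK 847 77 = true := by decide +kernel

theorem chunk12 : mono.chunkOK 924 77 = true := by decide +kernel

theorem chunk13 : mono.chunkOK 1001 77 = true := by decide +kernel

theorem chunk14 : mono.chunkOK 1078 77 = true := by decide +kernel

theorem chunk15 : mono.chunkOK 1155 77 = true := by decide +kernel

theorem chunks : ∀ c < mono.N, ∃ lo len, mono.chunkOK lo len = true ∧ lo ≤ c ∧ c < lo + len := by
  intro c hc
  have hc' : c < 1232 := hc
  by_cases h0 : c < 77
  · exact ⟨0, 77, chunk0, by omega, by omega⟩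
  by_cases h1 : c < 154
  · exact ⟨77, 77, chunk1, by omega, by omega⟩
  by_cases h2 : c < 231
  · exact ⟨154, 77, chunk2, by omega, by omega⟩
  by_cases h3 : c < 308
  · exact ⟨231, 77, chunk3, by omega, by omega⟩
  by_cases h4 : c < 385
  · exact ⟨308, 77, chunk4, by omega, by omega⟩
  by_cases h5 : c < 462
  · exact ⟨385, 77, chunk5, by omega, by omega⟩
  by_cases h6 : c < 539
  · exact ⟨462, 77, chunk6, by omega, by omega⟩
  by_cases h7 : c < 616
  · exact ⟨539, 77, chunk7, by omega, by omega⟩
  by_cases h8 : c < 693
  · exact ⟨616, 77, chunk8, by omega, by omega⟩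
  by_cases h9 : c < 770
  · exact ⟨693, 77, chunk9, by omega, by omega⟩
  by_cases h10 : c < 847
  · exact ⟨770, 77, chunk10, by omega, by omega⟩
  by_cases h11 : c < 924
  · exact ⟨847, 77, chunk11, by omega, by omega⟩
  by_cases h12 : c < 1001
  · exact ⟨924, 77, chunk12, by omega, by omega⟩
  by_cases h13 : c < 1078
  · exact ⟨1001, 77, chunk13, by omega, by omega⟩
  by_cases h14 : c < 1155
  · exact ⟨1078, 77, chunk14, by omega, by omega⟩
  exact ⟨1155, 77, chunk15, by omega, by omega⟩

theorem tree : mono.treeOK = true := by decide +kernel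

end Cfsg.Agent.SplitVoltageCov22A
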