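import Cfsg.Agent.Lib.SplitVoltageCovCore
import Cfsg.Agent.Lib.SplitVoltageCov22BData

/-!
Certificates for a weighted monomial representation.
-/

set_option autoImplicit false
set_option maxRecDepth 100000

namespace Cfsg.Agent.SplitVoltageCov22B

open Cfsg.Agent.SplitVoltageCovCore Cfsg.Agent.SplitVoltageCov22BData

/-- the data -/
noncomputable def mono : Mono :=
  ⟨231, 3, 0, fun i => cond (Nat.beq i 0) gen0 gen1, rowT, nbT, cntT, parT, rankT⟩

theorem chunk0 : mono.chunkOK 0 231 = true := by decide +kernel

theorem chunks : ∀ c < mono.N, ∃ lo len, mono.chunkOK lo len = true ∧ lo ≤ c ∧ c < lo + len := by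
  intro c hc
  have hc' : c < 231 := hc
  exact ⟨0, 231, chunk0, by omega, by omega⟩

theorem tree : mono.treeOK = true := by decide +kernel

end Cfsg.Agent.SplitVoltageCov22B
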