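import Cfsg.Agent.Lib.SplitVoltageCert

/-!
Monomial groups with an invariant weighting of the edges of a connected graph: the only diagonal
elements are the constant shifts.
-/

set_option autoImplicit false

namespace Cfsg.Agent.SplitVoltageCovCore

open Cfsg.Agent.SplitVoltageCert

/-! ### Boolean loops in primitive form -/

/-- all numbers below a bound pass -/
noncomputable def allB (n : ℕ) (f : ℕ → Bool) : Bool :=
  Nat.rec (motive := fun _ => Bool) true (fun k ih => cond (f k) ih false) n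

theorem allB_spec {f : ℕ → Bool} : ∀ {n : ℕ}, allB n f = true → ∀ k < n, f k = true
  | 0, _, k, hk => absurd hk (Nat.not_lt_zero k)
  | n + 1, h, k, hk => by
    change cond (f n) (allB n f) false = true at h
    cases hf : f n with
    | false => simp [hf] at h
    | true =>
      rw [hf] at h
      rcases Nat.lt_succ_iff_lt_or_eq.1 hk with hk | rfl
      · exact allB_spec h k hk
      · exact hf

/-- monomial data with a weighted graph -/
structure Mono where
  N : ℕ
  m : ℕ
  e0 : ℕ
  gen : ℕ → Tr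
  row : Tr
  nb : Tr
  cnt : Tr
  par : Tr
  rank : Tr

namespace Mono

variable (M : Mono)

/-- image of a point -/
noncomputable def piF (i c : ℕ) : ℕ := get (M.gen i) c / 4

/-- voltage at a point -/
noncomputable def vF (i c : ℕ) : ℕ := get (M.gen i) c % 4

/-- weight plus one of an upper edge, zero for none -/
noncomputable def entry (c d : ℕ) : ℕ := Nat.land (Nat.shiftRight (get M.row c) (3 * d)) 7

/-- a listed neighbour -/
noncomputable def item (c k : ℕ) : ℕ := Nat.land (Nat.shiftRight (get M.nb c) (14 * k)) 16383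

/-- the row given by a list -/
noncomputable def rowOf (c n : ℕ) : ℕ :=
  Nat.rec (motive := fun _ => ℕ) 0
    (fun k acc => Nat.lor acc (Nat.shiftLeft (M.item c k % 8) (3 * (M.item c k / 8)))) n

/-- the check of a list -/
noncomputable def listOK (c : ℕ) : Bool :=
  cond (Nat.beq (M.rowOf c (get M.cnt c)) (get M.row c))
    (allB (get M.cnt c) fun k =>
      cond (Nat.blt c (M.item c k / 8))
        (cond (Nat.blt (M.item c k / 8) M.N)
          (Nat.beq (M.entry c (M.item c k / 8)) (M.item c k % 8)) false) false)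
    false

/-- the check of an edge under a generator, from the images and voltages of its first end -/
noncomputable def edgeOK (lab pc vc gd : ℕ) : Bool :=
  cond (Nat.blt pc (gd / 4))
    (cond (Nat.beq (M.entry pc (gd / 4)) 0) false
      (Nat.beq (M.entry pc (gd / 4) % M.m) ((lab + vc + 4 * M.m - gd % 4) % M.m)))
    (cond (Nat.beq (M.entry (gd / 4) pc) 0) false
      (Nat.beq ((M.entry (gd / 4) pc + (lab + vc + 4 * M.m - gd % 4)) % M.m) ((M.e0 + 2) % M.m)))

/-- all edges leaving a point, under one generator -/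
noncomputable def pointEdges (i c : ℕ) : Bool :=
  cond (Nat.blt (M.piF i c) M.N)
    (allB (get M.cnt c) fun k => M.edgeOK (M.item c k % 8) (M.piF i c) (M.vF i c)
      (get (M.gen i) (M.item c k / 8))) false

/-- a block of the checks -/
noncomputable def chunkOK (lo len : ℕ) : Bool :=
  allB len fun j => cond (M.listOK (lo + j))
    (cond (M.pointEdges 0 (lo + j)) (M.pointEdges 1 (lo + j)) false) false

/-- the parent check -/
noncomputable def treeOK : Bool :=
  allB M.N fun c => cond (Nat.beq c 0) true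
    (cond (Nat.blt (get M.par c) M.N)
      (cond (Nat.blt (get M.rank (get M.par c)) (get M.rank c))
        (cond (Nat.blt (get M.par c) c) (cond (Nat.beq (M.entry (get M.par c) c) 0) false true)
          (cond (Nat.beq (M.entry c (get M.par c)) 0) false true)) false) false)

/-- adjacency -/
def Adj (c d : ℕ) : Prop := (c < d ∧ M.entry c d ≠ 0) ∨ (d < c ∧ M.entry d c ≠ 0)

/-- weights -/
noncomputable def W (c d : ℕ) : ZMod M.m :=
  if c < d then (M.entry c d : ZMod M.m) - 1 else (M.e0 : ZMod M.m) - ((M.entry d c : ZMod M.m) - 1)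

theorem exists_item {c d : ℕ} : ∀ {n : ℕ},
    Nat.land (Nat.shiftRight (M.rowOf c n) (3 * d)) 7 ≠ 0 → ∃ k < n, M.item c k / 8 = d
  | 0, h => by simp [rowOf] at h
  | n + 1, h => by
    change ((M.rowOf c n ||| ((M.item c n % 8) <<< (3 * (M.item c n / 8)))) >>> (3 * d)) &&& 7 ≠ 0 at h
    rw [Nat.shiftRight_or_distrib, Nat.and_or_distrib_right] at h
    by_cases h1 : (M.rowOf c n >>> (3 * d)) &&& 7 = 0
    · rw [h1, Nat.zero_or] at h
      refine ⟨n, Nat.lt_succ_self n, ?_⟩
      by_contra hne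
      apply h
      set e := M.item c n / 8
      have hlt : M.item c n % 8 < 2 ^ 3 := Nat.mod_lt _ (by norm_num)
      apply Nat.eq_of_testBit_eq
      intro j
      rw [Nat.testBit_and, Nat.testBit_shiftRight, Nat.testBit_shiftLeft, Nat.zero_testBit,
        show (7 : ℕ) = 2 ^ 3 - 1 from rfl, Nat.testBit_two_pow_sub_one]
      by_cases hj : j < 3
      · by_cases hge : 3 * d + j ≥ 3 * e
        · have : 3 ≤ 3 * d + j - 3 * e := by omega
          rw [Nat.testBit_lt_two_pow (lt_of_lt_of_le hlt (Nat.pow_le_pow_right (by norm_num) this))]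
          simp
        · simp [hge]
      · simp [hj]
    · obtain ⟨k, hk, e⟩ := exists_item h1
      exact ⟨k, hk.trans (Nat.lt_succ_self n), e⟩

variable {M}

theorem upper_spec {lo len : ℕ} (h : M.chunkOK lo len = true) {c d : ℕ} (hlo : lo ≤ c)
    (hhi : c < lo + len) (hne : M.entry c d ≠ 0) :
    d < M.N ∧ c < d ∧ ∀ i < 2, M.piF i c < M.N ∧
      M.edgeOK (M.entry c d) (M.piF i c) (M.vF i c) (get (M.gen i) d) = true := by
  have hj := allB_spec h (c - lo) (by omega)
  rw [Nat.add_sub_cancel' hlo] at hj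
  simp only [Bool.cond_eq_ite, Bool.if_false_right, Bool.and_eq_true, decide_eq_true_eq] at hj
  obtain ⟨hl, he0, he1⟩ := hj
  simp only [listOK, Bool.cond_eq_ite, Bool.if_false_right, Bool.and_eq_true, decide_eq_true_eq,
    Nat.beq_eq] at hl
  obtain ⟨hrow, hl⟩ := hl
  have hne' : Nat.land (Nat.shiftRight (M.rowOf c (get M.cnt c)) (3 * d)) 7 ≠ 0 := by
    rw [hrow]; exact hne
  obtain ⟨k, hk, rfl⟩ := M.exists_item hne'
  have hlk := allB_spec hl k hk
  simp only [Bool.cond_eq_ite, Bool.if_false_right, Bool.and_eq_true, decide_eq_true_eq,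
    Nat.blt_eq, Nat.beq_eq] at hlk
  obtain ⟨hcd, hdN, hval⟩ := hlk
  refine ⟨hdN, hcd, fun i hi => ?_⟩
  have hp : M.pointEdges i c = true := by
    interval_cases i
    · exact he0
    · exact he1
  simp only [pointEdges, Bool.cond_eq_ite, Bool.if_false_right, Bool.and_eq_true, decide_eq_true_eq,
    Nat.blt_eq] at hp
  exact ⟨hp.1, hval ▸ allB_spec hp.2 k hk⟩

theorem adj_lt (hall : ∀ c < M.N, ∃ lo len, M.chunkOK lo len = true ∧ lo ≤ c ∧ c < lo + len)
    {c d : ℕ} (hc : c < M.N) (hd : d < M.N) (h : c < d) (hne : M.entry c d ≠ 0) {i : ℕ} (hi : i < 2)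
    (hinj : M.piF i c ≠ M.piF i d) [NeZero M.m] :
    M.Adj (M.piF i c) (M.piF i d) ∧
      M.W (M.piF i c) (M.piF i d) = M.W c d + (M.vF i c : ZMod M.m) - (M.vF i d : ZMod M.m) := by
  obtain ⟨lo, len, hk, h1, h2⟩ := hall c hc
  obtain ⟨-, -, he⟩ := upper_spec hk h1 h2 hne
  obtain ⟨-, he⟩ := he i hi
  have hge : get (M.gen i) d % 4 ≤ M.entry c d + M.vF i c + 4 * M.m := by
    have := Nat.mod_lt (get (M.gen i) d) (show 4 > 0 by norm_num)
    have := NeZero.one_le (n := M.m)
    omega
  have hcast : ((M.entry c d + M.vF i c + 4 * M.m - get (M.gen i) d % 4 : ℕ) : ZMod M.m) =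
      (M.entry c d : ZMod M.m) + (M.vF i c : ZMod M.m) - (M.vF i d : ZMod M.m) := by
    rw [Nat.cast_sub hge]
    push_cast
    rw [ZMod.natCast_self]
    simp [vF]
  rw [show W M c d = (M.entry c d : ZMod M.m) - 1 from if_pos h]
  simp only [edgeOK, Bool.cond_eq_ite, Bool.if_false_left, Bool.if_false_right, Bool.and_eq_true,
    Bool.not_eq_true', decide_eq_true_eq, decide_eq_false_iff_not, Nat.blt_eq, Nat.beq_eq] at he
  split_ifs at he with hlt
  · simp only [Bool.and_eq_true, Bool.not_eq_true', decide_eq_false_iff_not, Nat.beq_eq,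
      decide_eq_true_eq] at he
    refine ⟨Or.inl ⟨hlt, he.1⟩, ?_⟩
    have e := (ZMod.natCast_eq_natCast_iff' _ _ M.m).2 he.2
    rw [hcast] at e
    rw [W, if_pos (show M.piF i c < M.piF i d from hlt)]
    show ((M.entry (M.piF i c) (get (M.gen i) d / 4) : ℕ) : ZMod M.m) - 1 = _
    rw [e]
    abel
  · simp only [Bool.and_eq_true, Bool.not_eq_true', decide_eq_false_iff_not, Nat.beq_eq,
      decide_eq_true_eq] at he
    have hgt : M.piF i d < M.piF i c := lt_of_le_of_ne (not_lt.1 hlt) hinj.symm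
    refine ⟨Or.inr ⟨hgt, he.1⟩, ?_⟩
    have e := (ZMod.natCast_eq_natCast_iff' _ _ M.m).2 he.2
    rw [Nat.cast_add, hcast] at e
    push_cast at e
    rw [W, if_neg (not_lt.2 hgt.le)]
    show (M.e0 : ZMod M.m) - (((M.entry (get (M.gen i) d / 4) (M.piF i c) : ℕ) : ZMod M.m) - 1) = _
    linear_combination -e

theorem adj_image (hall : ∀ c < M.N, ∃ lo len, M.chunkOK lo len = true ∧ lo ≤ c ∧ c < lo + len)
    {c d : ℕ} (hc : c < M.N) (hd : d < M.N) (h : M.Adj c d) {i : ℕ} (hi : i < 2)
    (hinj : M.piF i c ≠ M.piF i d) [NeZero M.m] :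
    M.Adj (M.piF i c) (M.piF i d) ∧
      M.W (M.piF i c) (M.piF i d) = M.W c d + (M.vF i c : ZMod M.m) - (M.vF i d : ZMod M.m) := by
  rcases h with ⟨hlt, hne⟩ | ⟨hlt, hne⟩
  · exact adj_lt hall hc hd hlt hne hi hinj
  · obtain ⟨ha, hW⟩ := adj_lt hall hd hc hlt hne hi hinj.symm
    refine ⟨ha.symm, ?_⟩
    have sw : ∀ {a b : ℕ}, a ≠ b → M.W a b = (M.e0 : ZMod M.m) - M.W b a := by
      intro a b hab
      unfold W
      rcases Nat.lt_or_gt_of_ne hab with h | h
      · rw [if_pos h, if_neg (not_lt.2 h.le)]; abel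
      · rw [if_neg (not_lt.2 h.le), if_pos h]
    rw [sw hinj, hW, sw (show c ≠ d from (Nat.ne_of_lt hlt).symm)]
    abel

/-! ### the permutations -/

/-- the points -/
abbrev X (M : Mono) : Type := Fin M.N × ZMod M.m

/-- the monomial map of a generator -/
noncomputable def mf (M : Mono) (i : ℕ) (x : M.X) : M.X :=
  (⟨M.piF i x.1 % M.N, Nat.mod_lt _ x.1.pos⟩, x.2 + (M.vF i x.1 : ZMod M.m))

/-- the related pairs -/
def Rel (M : Mono) (x y : M.X) : Prop := M.Adj x.1 y.1 ∧ x.2 - y.2 = M.W x.1 y.1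

/-- pairs of elements with compatible actions keeping the weights -/
def Good (M : Mono) {G α : Type} [SMul G α] (obj : ℕ → α) (g : G) (s : Equiv.Perm M.X) : Prop :=
  (∀ x : M.X, s (x.1, x.2 + 1) = ((s x).1, (s x).2 + 1)) ∧
    (∀ x : M.X, obj (s x).1 = g • obj x.1) ∧ ∀ x y : M.X, M.Rel x y → M.Rel (s x) (s y)

variable {G α : Type} [Group G] [MulAction G α] {obj : ℕ → α}

theorem good_one : M.Good obj (1 : G) 1 :=
  ⟨fun _ => rfl, fun x => (one_smul G (obj x.1)).symm, fun _ _ h => h⟩

theorem good_mul {g h : G} {s t : Equiv.Perm M.X} (h1 : M.Good obj g s) (h2 : M.Good obj h t) :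
    M.Good obj (g * h) (s * t) :=
  ⟨fun x => by rw [Equiv.Perm.mul_apply, Equiv.Perm.mul_apply, h2.1, h1.1],
    fun x => by rw [Equiv.Perm.mul_apply, h1.2.1, h2.2.1, mul_smul],
    fun x y hxy => h1.2.2 _ _ (h2.2.2 _ _ hxy)⟩

theorem good_pow {g : G} {s : Equiv.Perm M.X} (h : M.Good obj g s) :
    ∀ k : ℕ, M.Good obj (g ^ k) (s ^ k)
  | 0 => by simpa using good_one
  | k + 1 => by rw [pow_succ, pow_succ]; exact good_mul (good_pow h k) h

theorem mf_spec [NeZero M.m] (hinj : ∀ c < M.N, ∀ d < M.N, obj c = obj d → c = d) {i : ℕ} (g : G)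
    (hact : ∀ c < M.N, M.piF i c < M.N ∧ g • obj c = obj (M.piF i c)) :
    (∀ c d : Fin M.N, M.piF i c = M.piF i d → c = d) ∧ Function.Bijective (M.mf i) := by
  have h1 : ∀ c d : Fin M.N, M.piF i c = M.piF i d → c = d := fun c d e => Fin.ext <|
    hinj c c.2 d d.2 <| smul_left_cancel g <| by rw [(hact c c.2).2, (hact d d.2).2, e]
  refine ⟨h1, Finite.injective_iff_bijective.1 fun x y e => ?_⟩
  have e1 := congrArg (fun z : M.X => (z.1 : ℕ)) e
  simp only [mf, Nat.mod_eq_of_lt (hact _ x.1.2).1, Nat.mod_eq_of_lt (hact _ y.1.2).1] at e1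
  have ec := h1 _ _ e1
  have e2 := congrArg Prod.snd e
  simp only [mf, ec, add_left_inj] at e2
  exact Prod.ext ec e2

/-- the monomial permutation of a generator -/
noncomputable def perm (M : Mono) (i : ℕ) : Equiv.Perm M.X :=
  open scoped Classical in
  if h : Function.Bijective (M.mf i) then Equiv.ofBijective _ h else 1

theorem perm_apply [NeZero M.m] (hinj : ∀ c < M.N, ∀ d < M.N, obj c = obj d → c = d) {i : ℕ}
    (g : G) (hact : ∀ c < M.N, M.piF i c < M.N ∧ g • obj c = obj (M.piF i c)) (x : M.X) :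
    M.perm i x = M.mf i x := by
  rw [perm, dif_pos (mf_spec hinj g hact).2]
  rfl

theorem good_perm [NeZero M.m] (hinj : ∀ c < M.N, ∀ d < M.N, obj c = obj d → c = d) {i : ℕ}
    (hi : i < 2) (g : G) (hact : ∀ c < M.N, M.piF i c < M.N ∧ g • obj c = obj (M.piF i c))
    (hall : ∀ c < M.N, ∃ lo len, M.chunkOK lo len = true ∧ lo ≤ c ∧ c < lo + len) :
    M.Good obj g (M.perm i) := by
  have hp := perm_apply hinj g hact
  have hv : ∀ c : Fin M.N, M.piF i c % M.N = M.piF i c := fun c => Nat.mod_eq_of_lt (hact c c.2).1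
  refine ⟨fun x => ?_, fun x => ?_, fun x y hxy => ?_⟩
  · rw [hp, hp]
    exact Prod.ext rfl (by simp only [mf]; abel)
  · rw [hp]
    simp only [mf, hv]
    exact (hact x.1 x.1.2).2.symm
  · obtain ⟨hA, hW⟩ := hxy
    have hne : M.piF i x.1 ≠ M.piF i y.1 := fun e => by
      have := (mf_spec hinj g hact).1 x.1 y.1 e
      rw [this] at hA
      rcases hA with h | h <;> exact lt_irrefl _ h.1
    obtain ⟨a, b⟩ := adj_image hall x.1.2 y.1.2 hA hi hne
    refine ⟨?_, ?_⟩
    · simp only [hp, mf, hv]; exact a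
    · simp only [hp, mf, hv]
      rw [b, ← hW]
      abel

/-- over the identity only the constant shifts are good -/
theorem good_ker [NeZero M.m] (hN : 0 < M.N) (hinj : ∀ c < M.N, ∀ d < M.N, obj c = obj d → c = d)
    (htree : M.treeOK = true) {s : Equiv.Perm M.X} (h : M.Good obj (1 : G) s) :
    ∃ k : ZMod M.m, ∀ x : M.X, s x = (x.1, x.2 + k) := by
  have hfix : ∀ x : M.X, (s x).1 = x.1 := fun x => Fin.ext <|
    hinj _ (s x).1.2 _ x.1.2 <| by rw [h.2.1, one_smul]
  have hform : ∀ x : M.X, s x = (x.1, x.2 + (s (x.1, 0)).2) := by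
    intro x
    have key : ∀ k : ℕ, s (x.1, (k : ZMod M.m)) = (x.1, (k : ZMod M.m) + (s (x.1, 0)).2) := by
      intro k
      induction k with
      | zero => rw [Nat.cast_zero, zero_add]; exact Prod.ext (hfix _) rfl
      | succ k ih =>
        rw [Nat.cast_succ, h.1 (x.1, (k : ZMod M.m)), ih]
        exact Prod.ext rfl (by simp only; abel)
    have := key x.2.val
    rwa [ZMod.natCast_zmod_val] at this
  let D : Fin M.N → ZMod M.m := fun c => (s (c, 0)).2
  have hedge : ∀ c d : Fin M.N, M.Adj c d → D c = D d := by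
    intro c d hA
    obtain ⟨-, hW⟩ := h.2.2 (c, M.W c d) (d, 0) ⟨hA, sub_zero _⟩
    rw [hform (c, M.W c d), hform (d, 0)] at hW
    simp only at hW
    have e : D c - D d = 0 := by
      show (s (c, 0)).2 - (s (d, 0)).2 = 0
      linear_combination hW
    exact sub_eq_zero.1 e
  have hconst : ∀ (r : ℕ) (c : Fin M.N), get M.rank c ≤ r → D c = D ⟨0, hN⟩ := by
    intro r
    induction r with
    | zero =>
      intro c hr
      by_cases h0 : (c : ℕ) = 0
      · exact congrArg D (Fin.ext h0)
      · have hc := allB_spec htree c c.2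
        simp only [Bool.cond_eq_ite, Bool.if_true_left, Bool.if_false_right, Bool.or_eq_true,
          Bool.and_eq_true, decide_eq_true_eq, Nat.beq_eq, Nat.blt_eq, h0, false_or] at hc
        omega
    | succ r ih =>
      intro c hr
      by_cases h0 : (c : ℕ) = 0
      · exact congrArg D (Fin.ext h0)
      · have hc := allB_spec htree c c.2
        simp only [Bool.cond_eq_ite, Bool.if_true_left, Bool.if_false_right, Bool.or_eq_true,
          Bool.and_eq_true, decide_eq_true_eq, Nat.beq_eq, Nat.blt_eq, h0, false_or] at hc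
        obtain ⟨hp, hr', he⟩ := hc
        rw [← ih ⟨get M.par c, hp⟩ (by show get M.rank (get M.par c) ≤ r; omega)]
        refine hedge _ _ ?_
        show M.Adj c (get M.par c)
        split_ifs at he with hlt
        · exact Or.inr ⟨hlt, by assumption⟩
        · refine Or.inl ⟨?_, by assumption⟩
          rcases Nat.lt_trichotomy (c : ℕ) (get M.par c) with h' | h' | h'
          · exact h'
          · rw [← h'] at hr'; omega
          · exact absurd h' hlt
  exact ⟨D ⟨0, hN⟩, fun x => (hform x).trans <| Prod.ext rfl <| by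
    show x.2 + D x.1 = x.2 + D ⟨0, hN⟩
    rw [hconst _ x.1 le_rfl]⟩

end Mono

end Cfsg.Agent.SplitVoltageCovCore
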