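import Cfsg.Agent.Lib.SplitVoltageCert
import Cfsg.Agent.Lib.GolayOutConst

/-!
The voltage criterion for groups of permutations of the 24 points.
-/

set_option autoImplicit false

namespace Cfsg.Agent.SplitVoltageGolay

open Cfsg Cfsg.Agent.GolayBasic Cfsg.Agent.GolayPerm Cfsg.Agent.GolayChain Cfsg.Agent.GolayOutTool
open Cfsg.Agent.SplitVoltage Cfsg.Agent.SplitVoltageCert

/-- a word as a list of encoded permutations -/
def wl (P Q : List ℕ) : List (ℕ × Bool) → List ℕ
  | [] => []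
  | (i, b) :: l => wl P Q l ++ [if b then P.getD i 0 else Q.getD i 0]

/-- the checks of generators and relations -/
def gensOK (C : Cert) (P Q ords : List ℕ) : Bool :=
  (List.range C.n).all (fun i =>
    valid (P.getD i 0) && valid (Q.getD i 0) && isId [Q.getD i 0, P.getD i 0] &&
      !isId [P.getD i 0] && (C.rels.getD i [] == List.replicate (ords.getD i 0) (i, true))) &&
    C.rels.all fun l => isId (wl P Q l)

theorem wprod_coe {H : Subgroup (Equiv.Perm GolayPt)} {n : ℕ} {P Q : List ℕ} (x : ℕ → H)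
    (hP : ∀ i < n, (x i : Equiv.Perm GolayPt) = permOf (P.getD i 0))
    (hQ : ∀ i < n, ((x i)⁻¹ : H).1 = permOf (Q.getD i 0)) :
    ∀ l : List (ℕ × Bool), (∀ t ∈ l, t.1 < n) →
      ((wprod x l : H) : Equiv.Perm GolayPt) = ((wl P Q l).map permOf).prod
  | [], _ => by simp [wprod, wl]
  | (i, b) :: l, hl => by
    have hi : i < n := hl (i, b) List.mem_cons_self
    rw [wprod, wl, Subgroup.coe_mul, List.map_append, List.prod_append,
      wprod_coe x hP hQ l fun t ht => hl t (List.mem_cons_of_mem _ ht)]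
    cases b
    · simp only [Bool.false_eq_true, if_false, List.map_cons, List.map_nil, List.prod_cons,
        List.prod_nil, mul_one]
      exact congrArg _ (hQ i hi)
    · simp [hP i hi]

theorem wl_valid {n : ℕ} {P Q : List ℕ}
    (h : ∀ i < n, valid (P.getD i 0) = true ∧ valid (Q.getD i 0) = true) :
    ∀ l : List (ℕ × Bool), (∀ t ∈ l, t.1 < n) → ∀ T ∈ wl P Q l, valid T = true
  | [], _, T, hT => by simp [wl] at hT
  | (i, b) :: l, hl, T, hT => by
    have hi : i < n := hl (i, b) List.mem_cons_self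
    rw [wl, List.mem_append] at hT
    rcases hT with hT | hT
    · exact wl_valid h l (fun t ht => hl t (List.mem_cons_of_mem _ ht)) T hT
    · rw [List.mem_singleton.1 hT]
      cases b
      · exact (h i hi).2
      · exact (h i hi).1

/-- The generators of a certificate, with the hypotheses of the voltage criterion. -/
theorem exists_gens {H : Subgroup (Equiv.Perm GolayPt)} (C : Cert) (h : C.Core)
    (hnn : C.n ≤ C.rels.length) (P Q ords : List ℕ) (hchk : gensOK C P Q ords = true)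
    (hords : ∀ i < C.n, (ords.getD i 0).Prime ∧ Nat.Coprime (ords.getD i 0) C.m)
    (hmem : ∀ i < C.n, permOf (P.getD i 0) ∈ H)
    (hgen : ∀ K : Subgroup H, (∀ i (hi : i < C.n), (⟨_, hmem i hi⟩ : H) ∈ K) → K = ⊤)
    {α : Type*} [MulAction H α] (obj : ℕ → α)
    (hinj : ∀ c < C.N, ∀ d < C.N, obj c = obj d → c = d)
    (hact : ∀ i (hi : i < C.n), ∀ c < C.N, (⟨_, hmem i hi⟩ : H) • obj c = obj (C.nxF i c))
:
    ∃ x : ℕ → H, Subgroup.closure (x '' Set.Iio C.n) = ⊤ ∧
      (∀ i < C.n, ∀ c < C.N, C.nxF i c < C.N ∧ x i • obj c = obj (C.nxF i c)) ∧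
      (∀ l ∈ C.rels, (∀ t ∈ l, t.1 < C.n) ∧ wprod x l = 1) ∧
      (∀ r < C.n, ∃ o i : ℕ, C.rels.getD r [] = List.replicate o (i, true) ∧
        x i ^ o = 1 ∧ orderOf (x i) = o) ∧
      (∀ i < C.n, Nat.Coprime (orderOf (x i)) C.m) ∧
      (∀ i < C.n, (x i : Equiv.Perm GolayPt) = permOf (P.getD i 0)) ∧
      ∀ i < C.n, ((x i)⁻¹ : H).1 = permOf (Q.getD i 0) := by
  simp only [gensOK, Bool.and_eq_true, List.all_eq_true, List.mem_range, beq_iff_eq,
    Bool.not_eq_true'] at hchk
  obtain ⟨hg, hr⟩ := hchk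
  let x : ℕ → H := fun i => if hi : i < C.n then ⟨_, hmem i hi⟩ else 1
  have hxP : ∀ i < C.n, (x i : Equiv.Perm GolayPt) = permOf (P.getD i 0) := fun i hi => by
    simp [x, dif_pos hi]
  have hv : ∀ i < C.n, valid (P.getD i 0) = true ∧ valid (Q.getD i 0) = true := fun i hi =>
    ⟨(hg i hi).1.1.1.1, (hg i hi).1.1.1.2⟩
  have hxQ : ∀ i < C.n, ((x i)⁻¹ : H).1 = permOf (Q.getD i 0) := fun i hi => by
    have := (prod_eq_one_iff (l := [Q.getD i 0, P.getD i 0]) (by
      intro T hT
      rcases List.mem_cons.1 hT with rfl | hT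
      · exact (hv i hi).2
      · rw [List.mem_singleton.1 hT]; exact (hv i hi).1)).2 (hg i hi).1.1.2
    simp only [List.map_cons, List.map_nil, List.prod_cons, List.prod_nil, mul_one] at this
    rw [Subgroup.coe_inv, hxP i hi, inv_eq_of_mul_eq_one_left this]
  have hwp : ∀ l ∈ C.rels, wprod x l = 1 := by
    intro l hl
    have hln := (Cert.rel_spec h hl).1
    apply Subtype.ext
    rw [wprod_coe x hxP hxQ l hln, (prod_eq_one_iff (wl_valid hv l hln)).2 (hr l hl)]
    rfl
  have hord : ∀ i < C.n, x i ^ ords.getD i 0 = 1 ∧ orderOf (x i) = ords.getD i 0 := by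
    intro i hi
    have hl : C.rels.getD i [] ∈ C.rels := by
      rw [List.getD_eq_getElem (hn := by omega)]; exact List.getElem_mem _
    have h1 := hwp _ hl
    rw [(hg i hi).2, wprod_replicate] at h1
    haveI := Fact.mk (hords i hi).1
    refine ⟨h1, orderOf_eq_prime h1 fun e => ?_⟩
    have h2 := (prod_eq_one_iff (l := [P.getD i 0]) (fun T hT => by
      rw [List.mem_singleton.1 hT]; exact (hv i hi).1)).1 (by
        simp only [List.map_cons, List.map_nil, List.prod_cons, List.prod_nil, mul_one]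
        rw [← hxP i hi, e]; rfl)
    rw [(hg i hi).1.2] at h2
    exact Bool.false_ne_true h2
  refine ⟨x, ?_, ?_, fun l hl => ⟨(Cert.rel_spec h hl).1, hwp l hl⟩, ?_, ?_, hxP, hxQ⟩
  · refine hgen _ fun i hi => ?_
    exact Subgroup.subset_closure ⟨i, hi, by simp [x, dif_pos hi]⟩
  · intro i hi c hc
    refine ⟨(Cert.nxF_lt h hi hc).1, ?_⟩
    simp only [x, dif_pos hi]
    exact hact i hi c hc
  · intro r hr'
    exact ⟨_, r, (hg r hr').2, hord r hr'⟩
  · intro i hi
    rw [(hord i hi).2]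
    exact (hords i hi).2

/-- The voltage criterion for a group of permutations of the 24 points. -/
theorem censplit_golay {H : Subgroup (Equiv.Perm GolayPt)} (C : Cert) (h : C.OK)
    (hnp : C.npow = C.n) (P Q ords : List ℕ) (hchk : gensOK C P Q ords = true)
    (hords : ∀ i < C.n, (ords.getD i 0).Prime ∧ Nat.Coprime (ords.getD i 0) C.m)
    (hmem : ∀ i < C.n, permOf (P.getD i 0) ∈ H)
    (hgen : ∀ K : Subgroup H, (∀ i (hi : i < C.n), (⟨_, hmem i hi⟩ : H) ∈ K) → K = ⊤)
    {α : Type*} [MulAction H α] (obj : ℕ → α)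
    (hinj : ∀ c < C.N, ∀ d < C.N, obj c = obj d → c = d)
    (hact : ∀ i (hi : i < C.n), ∀ c < C.N, (⟨_, hmem i hi⟩ : H) • obj c = obj (C.nxF i c))
    (hH : CenSplit C.m (MulAction.stabilizer H (obj 0))) :
    CenSplit C.m H := by
  haveI : NeZero C.m := ⟨by have := h.hm; omega⟩
  obtain ⟨x, h1, h2, h3, h4, h5, -, -⟩ := exists_gens C h.toCore (hnp ▸ h.hnpow) P Q ords hchk hords hmem hgen obj hinj hact
  exact @censplit_of_voltage C.m _ ↥H _ α _ inferInstance C.n C.N h.hN x C.nxF C.pvF obj C.parF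
    C.rels C.npow h1 hinj h2 (fun i hi c hc => (Cert.nxF_lt h.toCore hi hc).2)
    (fun c hc h0 => Cert.parF_spec h.toCore hc h0) h3 (hnp ▸ h4) h5 hH
    (Cert.solution_zero h (fun a => by simp))

/-- The voltage bound for a group of permutations of the 24 points. -/
theorem bound_golay {H : Subgroup (Equiv.Perm GolayPt)} (C : Cert) (h : C.Core)
    (hnp : C.npow = C.n) (P Q ords : List ℕ) (hchk : gensOK C P Q ords = true)
    (hords : ∀ i < C.n, (ords.getD i 0).Prime ∧ Nat.Coprime (ords.getD i 0) C.m)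
    (hmem : ∀ i < C.n, permOf (P.getD i 0) ∈ H)
    (hgen : ∀ K : Subgroup H, (∀ i (hi : i < C.n), (⟨_, hmem i hi⟩ : H) ∈ K) → K = ⊤)
    {α : Type*} [MulAction H α] (obj : ℕ → α)
    (hinj : ∀ c < C.N, ∀ d < C.N, obj c = obj d → c = d)
    (hact : ∀ i (hi : i < C.n), ∀ c < C.N, (⟨_, hmem i hi⟩ : H) • obj c = obj (C.nxF i c))
    {k0 t : ℕ} {cs : List ℕ} (hfin : C.finCyc k0 t cs = true)
    {Γ : Type} [Group Γ] [Finite Γ] (σ : Γ →* H) (hσ : Cfsg.IsStemExtension σ)
    {A : Type*} [CommGroup A] (hA : ∀ a : A, a ^ C.m = 1) (χ : σ.ker →* A)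
    (hH : ∀ σH : (MulAction.stabilizer H (obj 0)).comap σ →* MulAction.stabilizer H (obj 0),
      Function.Surjective σH → σH.ker ≤ Subgroup.center _ → ∀ χH : σH.ker →* A,
      ∃ ψ : (MulAction.stabilizer H (obj 0)).comap σ →* A, ∀ z : σH.ker, ψ z = χH z) :
    ∃ u : A, u ^ t = 1 ∧ ∀ z : σ.ker, χ z ∈ Subgroup.zpowers u := by
  haveI : NeZero C.m := ⟨by have := h.hm; omega⟩
  obtain ⟨x, h1, h2, h3, h4, h5, -, -⟩ := exists_gens C h (hnp ▸ h.hnpow) P Q ords hchk hords hmem hgen obj hinj hact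
  obtain ⟨u, hu, U, hall, hU⟩ := voltage_main_sq (m := C.m) C.n C.N h.hN x C.nxF C.pvF obj C.parF
    C.rels C.npow h1 hinj h2 (fun i hi c hc => (Cert.nxF_lt h hi hc).2)
    (fun c hc h0 => Cert.parF_spec h hc h0) h3 h5 σ hσ.1 hσ.2.1 hA χ
    (fun r hr => Or.inl (h4 r (hnp ▸ hr))) (hH_of_forall (obj 0) σ hσ.1 hσ.2.1 χ hH) t
    (Cert.solution_cyc h hfin (A := Additive A)
      (fun a => Additive.toMul.injective (by rw [toMul_nsmul, toMul_zero]; exact hA a.toMul)))
  exact ⟨u, hu, mem_zpowers_of_stem hσ hall hU⟩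

/-- The voltage bound for any central extension, possibly with squares of lifts known to vanish. -/
theorem bound_golay_sq {H : Subgroup (Equiv.Perm GolayPt)} (C : Cert) (h : C.Core)
    (hnn : C.n ≤ C.rels.length) (P Q ords : List ℕ) (hchk : gensOK C P Q ords = true)
    (hords : ∀ i < C.n, (ords.getD i 0).Prime ∧ Nat.Coprime (ords.getD i 0) C.m)
    (hmem : ∀ i < C.n, permOf (P.getD i 0) ∈ H)
    (hgen : ∀ K : Subgroup H, (∀ i (hi : i < C.n), (⟨_, hmem i hi⟩ : H) ∈ K) → K = ⊤)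
    {α : Type*} [MulAction H α] (obj : ℕ → α)
    (hinj : ∀ c < C.N, ∀ d < C.N, obj c = obj d → c = d)
    (hact : ∀ i (hi : i < C.n), ∀ c < C.N, (⟨_, hmem i hi⟩ : H) • obj c = obj (C.nxF i c))
    {k0 t : ℕ} {cs : List ℕ} (hfin : C.finCyc k0 t cs = true)
    {Γ : Type} [Group Γ] [Finite Γ] (σ : Γ →* H) (hs : Function.Surjective σ)
    (hc : σ.ker ≤ Subgroup.center Γ)
    {A : Type*} [CommGroup A] (hA : ∀ a : A, a ^ C.m = 1) (χ : σ.ker →* A)
    (hsq : ∀ r, C.n ≤ r → r < C.npow → ∃ w : List (ℕ × Bool), C.rels.getD r [] = w ++ w ∧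
      ∀ (y : Γ) (hy : σ (y * y) = 1), (σ y : Equiv.Perm GolayPt) = ((wl P Q w).map permOf).prod →
        χ ⟨y * y, hy⟩ = 1)
    (hH : ∃ ψ : (MulAction.stabilizer H (obj 0)).comap σ →* A,
      ∀ w : (MulAction.stabilizer H (obj 0)).comap σ, ∀ hw : σ w = 1, ψ w = χ ⟨w, hw⟩) :
    ∃ u : A, u ^ t = 1 ∧ ∃ U : Subgroup Γ, (∀ g : Γ, ∃ z : σ.ker, g * (z : Γ)⁻¹ ∈ U) ∧
      ∀ z : σ.ker, (z : Γ) ∈ U → χ z ∈ Subgroup.zpowers u := by
  haveI : NeZero C.m := ⟨by have := h.hm; omega⟩
  obtain ⟨x, h1, h2, h3, h4, h5, hxP, hxQ⟩ :=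
    exists_gens C h hnn P Q ords hchk hords hmem hgen obj hinj hact
  refine voltage_main_sq (m := C.m) C.n C.N h.hN x C.nxF C.pvF obj C.parF
    C.rels C.npow h1 hinj h2 (fun i hi c hc => (Cert.nxF_lt h hi hc).2)
    (fun c hc h0 => Cert.parF_spec h hc h0) h3 h5 σ hs hc hA χ ?_ hH t
    (Cert.solution_cyc h hfin (A := Additive A)
      (fun a => Additive.toMul.injective (by rw [toMul_nsmul, toMul_zero]; exact hA a.toMul)))
  intro r hr
  by_cases hn : r < C.n
  · exact Or.inl (h4 r hn)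
  · obtain ⟨w, hw, hy⟩ := hsq r (not_lt.1 hn) hr
    refine Or.inr ⟨w, hw, fun y h' e => hy y h' ?_⟩
    have hwt : ∀ t ∈ w, t.1 < C.n := by
      intro t ht
      rcases Nat.lt_or_ge r C.rels.length with hlt | hge
      · exact (h3 _ (by rw [List.getD_eq_getElem (hn := hlt)]; exact List.getElem_mem hlt)).1 t
          (hw ▸ List.mem_append_left _ ht)
      · rw [List.getD_eq_default _ _ hge] at hw
        simp [(List.append_eq_nil_iff.1 hw.symm).1] at ht
    rw [e, wprod_coe x hxP hxQ w hwt]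

/-! ### keys -/

/-- rebuild a code from the images of the points -/
def reKey (P : ℕ) : ℕ := pts.foldr (fun i acc => acc + pimg P i * 32 ^ i) 0

theorem key_inj {P R : ℕ} (hP : valid P = true) (hR : valid R = true) (hPk : reKey P = P)
    (hRk : reKey R = R) (h : permOf P = permOf R) : P = R := by
  rw [← hPk, ← hRk]
  have key : ∀ i ∈ pts, pimg P i = pimg R i := fun i hi => by
    have := congrArg (fun g : Equiv.Perm GolayPt => idx (g (pt i))) h
    simpa [idx_permOf hP, idx_permOf hR, idx_pt (mem_pts.1 hi)] using this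
  simp only [reKey, pts, List.foldr_cons, List.foldr_nil]
  simp only [pts, List.forall_mem_cons] at key
  obtain ⟨k0, k1, k2, k3, k4, k5, k6, k7, k8, k9, k10, k11, k12, k13, k14, k15, k16, k17, k18, k19,
    k20, k21, k22, k23, -⟩ := key
  rw [k0, k1, k2, k3, k4, k5, k6, k7, k8, k9, k10, k11, k12, k13, k14, k15, k16, k17, k18, k19,
    k20, k21, k22, k23]

/-- tables of keys are injective: a sorted rearrangement and the positions in it -/
noncomputable def injOK (N : ℕ) (key pos srt : Tr) : Bool :=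
  (List.range N).all fun c => decide (get pos c < N) && (get srt (get pos c) == c) &&
    (decide (c + 1 = N) || decide (get key (get srt c) < get key (get srt (c + 1))))

theorem inj_of_injOK {N : ℕ} {key pos srt : Tr} (h : injOK N key pos srt = true) {c d : ℕ}
    (hc : c < N) (hd : d < N) (e : get key c = get key d) : c = d := by
  simp only [injOK, List.all_eq_true, List.mem_range, Bool.and_eq_true, Bool.or_eq_true,
    beq_iff_eq, decide_eq_true_eq] at h
  have hlt : ∀ b, b < N → ∀ a, a < b → get key (get srt a) < get key (get srt b) := by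
    intro b
    induction b with
    | zero => intro _ a ha; omega
    | succ b ih =>
      intro hb a ha
      have h1 := (h b (by omega)).2.resolve_left (by omega)
      rcases Nat.lt_succ_iff_lt_or_eq.1 ha with ha | rfl
      · exact (ih (by omega) a ha).trans h1
      · exact h1
  obtain ⟨⟨hpc, hsc⟩, -⟩ := h c hc
  obtain ⟨⟨hpd, hsd⟩, -⟩ := h d hd
  rw [← hsc, ← hsd] at e
  rcases Nat.lt_trichotomy (get pos c) (get pos d) with hlt' | heq | hlt'
  · exact absurd e (hlt _ hpd _ hlt').ne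
  · rw [← hsc, ← hsd, heq]
  · exact absurd e (hlt _ hpc _ hlt').ne'

end Cfsg.Agent.SplitVoltageGolay
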