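import Cfsg.Agent.Lib.SplitVoltageCert

/-!
Certificate data: voltages for M11 modulo 2.
-/

set_option autoImplicit false
set_option maxRecDepth 100000

namespace Cfsg.Agent.SplitVoltageM11P2Data

open Cfsg.Agent.SplitVoltageCert

/-- table part -/
def nxT_1 : Tr :=
  .nd (.nd (.nd (.nd (.nd (.nd (.lf 0) (.lf 640)) (.nd (.lf 411) (.lf 0))) (.nd (.nd (.lf 232) (.lf 634)) (.nd (.lf 348) (.lf 0)))) (.nd (.nd (.nd (.lf 127) (.lf 693)) (.nd (.lf 487) (.lf 0))) (.nd (.nd (.lf 334) (.lf 134)) (.nd (.lf 425) (.lf 0))))) (.nd (.nd (.nd (.nd (.lf 64) (.lf 606)) (.nd (.lf 448) (.lf 0))) (.nd (.nd (.lf 287) (.lf 228)) (.nd (.lf 376) (.lf 0)))) (.nd (.nd (.nd (.lf 182) (.lf 429)) (.nd (.lf 527) (.lf 0))) (.nd (.nd (.lf 375) (.lf 0)) (.nd (.lf 636) (.lf 0)))))) (.nd (.nd (.nd (.nd (.nd (.lf 32) (.lf 585)) (.nd (.lf 431) (.lf 0))) (.nd (.nd (.lf 259) (.lf 23)) (.nd (.lf 581) (.lf 0)))) (.nd (.nd (.nd (.lf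 110) (.lf 700)) (.nd (.lf 321) (.lf 0))) (.nd (.nd (.lf 352) (.lf 0)) (.nd (.lf 624) (.lf 0))))) (.nd (.nd (.nd (.nd (.lf 95) (.lf 480)) (.nd (.lf 465) (.lf 0))) (.nd (.nd (.lf 313) (.lf 174)) (.nd (.lf 577) (.lf 0)))) (.nd (.nd (.nd (.lf 201) (.lf 486)) (.nd (.lf 549) (.lf 0))) (.nd (.nd (.lf 172) (.lf 0)) (.nd (.lf 613) (.lf 0))))))

/-- table part -/
def nxT_2 : Tr :=
  .nd (.nd (.nd (.nd (.nd (.nd (.lf 16) (.lf 67)) (.nd (.lf 327) (.lf 0))) (.nd (.nd (.lf 246) (.lf 713)) (.nd (.lf 575) (.lf 0)))) (.nd (.nd (.nd (.lf 142) (.lf 114)) (.nd (.lf 498) (.lf 0))) (.nd (.nd (.lf 342) (.lf 676)) (.nd (.lf 621) (.lf 0))))) (.nd (.nd (.nd (.nd (.lf 79) (.lf 679)) (.nd (.lf 454) (.lf 0))) (.nd (.nd (.lf 302) (.lf 633)) (.nd (.lf 126) (.lf 0)))) (.nd (.nd (.nd (.lf 195) (.lf 678)) (.nd (.lf 537) (.lf 0))) (.nd (.nd (.lf 323) (.lf 0)) (.nd (.lf 615) (.lf 0)))))) (.nd (.nd (.nd (.nd (.nd (.lf 48) (.lf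 520)) (.nd (.lf 176) (.lf 0))) (.nd (.nd (.lf 273) (.lf 607)) (.nd (.lf 591) (.lf 0)))) (.nd (.nd (.nd (.lf 168) (.lf 329)) (.nd (.lf 517) (.lf 0))) (.nd (.nd (.lf 367) (.lf 0)) (.nd (.lf 631) (.lf 0))))) (.nd (.nd (.nd (.nd (.lf 111) (.lf 691)) (.nd (.lf 473) (.lf 0))) (.nd (.nd (.lf 324) (.lf 717)) (.nd (.lf 616) (.lf 0)))) (.nd (.nd (.nd (.lf 220) (.lf 25)) (.nd (.lf 144) (.lf 0))) (.nd (.nd (.lf 78) (.lf 0)) (.nd (.lf 405) (.lf 0))))))

/-- table part -/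
def nxT_3 : Tr :=
  .nd nxT_1 nxT_2

/-- table part -/
def nxT_4 : Tr :=
  .nd (.nd (.nd (.nd (.nd (.nd (.lf 8) (.lf 657)) (.nd (.lf 190) (.lf 0))) (.nd (.nd (.lf 239) (.lf 310)) (.nd (.lf 569) (.lf 0)))) (.nd (.nd (.nd (.lf 135) (.lf 696)) (.nd (.lf 493) (.lf 0))) (.nd (.nd (.lf 143) (.lf 683)) (.nd (.lf 147) (.lf 0))))) (.nd (.nd (.nd (.nd (.lf 72) (.lf 546)) (.nd (.lf 450) (.lf 0))) (.nd (.nd (.lf 295) (.lf 709)) (.nd (.lf 163) (.lf 0)))) (.nd (.nd (.nd (.lf 189) (.lf 350)) (.nd (.lf 531) (.lf 0))) (.nd (.nd (.lf 98) (.lf 0)) (.nd (.lf 622) (.lf 0)))))) (.nd (.nd (.nd (.nd (.nd (.lf 40) (.lf 502)) (.nd (.lf 155) (.lf 0))) (.nd (.nd (.lf 141) (.lf 702)) (.nd (.lf 579) (.lf 0)))) (.nd (.nd (.nd (.lf 162) (.lf 701)) (.nd (.lf 53) (.lf 0))) (.nd (.nd (.lf 360) (.lf 0)) (.nd (.lf 627) (.lf 0))))) (.nd (.nd (.nd (.nd (.lf 103) (.lf 688)) (.nd (.lf 377) (.lf 0))) (.nd (.nd (.lf 318) (.lf 204))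 (.nd (.lf 388) (.lf 0)))) (.nd (.nd (.nd (.lf 214) (.lf 666)) (.nd (.lf 171) (.lf 0))) (.nd (.nd (.lf 395) (.lf 0)) (.nd (.lf 451) (.lf 0))))))

/-- table part -/
def nxT_5 : Tr :=
  .nd (.nd (.nd (.nd (.nd (.nd (.lf 24) (.lf 661)) (.nd (.lf 412) (.lf 0))) (.nd (.nd (.lf 253) (.lf 298)) (.nd (.lf 541) (.lf 0)))) (.nd (.nd (.nd (.lf 148) (.lf 518)) (.nd (.lf 501) (.lf 0))) (.nd (.nd (.lf 347) (.lf 181)) (.nd (.lf 266) (.lf 0))))) (.nd (.nd (.nd (.nd (.lf 87) (.lf 682)) (.nd (.lf 460) (.lf 0))) (.nd (.nd (.lf 308) (.lf 462)) (.nd (.lf 598) (.lf 0)))) (.nd (.nd (.nd (.lf 202) (.lf 65)) (.nd (.lf 490) (.lf 0))) (.nd (.nd (.lf 390) (.lf 0)) (.nd (.lf 386) (.lf 0)))))) (.nd (.nd (.nd (.nd (.nd (.lf 56) (.lf 63)) (.nd (.lf 196) (.lf 0))) (.nd (.nd (.lf 279) (.lf 559)) (.nd (.lf 523) (.lf 0)))) (.nd (.nd (.nd (.lf 175) (.lf 13)) (.nd (.lf 522) (.lf 0))) (.nd (.nd (.lf 370) (.lf 0)) (.nd (.lf 468)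 (.lf 0))))) (.nd (.nd (.nd (.nd (.lf 119) (.lf 178)) (.nd (.lf 481) (.lf 0))) (.nd (.nd (.lf 330) (.lf 669)) (.nd (.lf 3) (.lf 0)))) (.nd (.nd (.nd (.lf 227) (.lf 446)) (.nd (.lf 561) (.lf 0))) (.nd (.nd (.lf 243) (.lf 0)) (.nd (.lf 562) (.lf 0))))))

/-- table part -/
def nxT_6 : Tr :=
  .nd nxT_4 nxT_5

/-- table part -/
def nxT_7 : Tr :=
  .nd nxT_3 nxT_6

/-- table part -/
def nxT_8 : Tr :=
  .nd (.nd (.nd (.nd (.nd (.nd (.lf 4) (.lf 355)) (.nd (.lf 414) (.lf 0))) (.nd (.nd (.lf 236) (.lf 674)) (.nd (.lf 423) (.lf 0)))) (.nd (.nd (.nd (.lf 131) (.lf 532)) (.nd (.lf 489) (.lf 0))) (.nd (.nd (.lf 120) (.lf 276)) (.nd (.lf 216) (.lf 0))))) (.nd (.nd (.nd (.nd (.lf 68) (.lf 426)) (.nd (.lf 359) (.lf 0))) (.nd (.nd (.lf 291) (.lf 37)) (.nd (.lf 601) (.lf 0)))) (.nd (.nd (.nd (.lf 185) (.lf 439)) (.nd (.lf 528) (.lf 0))) (.nd (.nd (.lf 312) (.lf 0)) (.nd (.lf 612) (.lf 0)))))) (.nd (.nd (.nd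 (.nd (.nd (.lf 36) (.lf 564)) (.nd (.lf 433) (.lf 0))) (.nd (.nd (.lf 263) (.lf 692)) (.nd (.lf 584) (.lf 0)))) (.nd (.nd (.nd (.lf 158) (.lf 167)) (.nd (.lf 508) (.lf 0))) (.nd (.nd (.lf 356) (.lf 0)) (.nd (.lf 553) (.lf 0))))) (.nd (.nd (.nd (.nd (.lf 99) (.lf 687)) (.nd (.lf 186) (.lf 0))) (.nd (.nd (.lf 296) (.lf 224)) (.nd (.lf 611) (.lf 0)))) (.nd (.nd (.nd (.lf 211) (.lf 632)) (.nd (.lf 552) (.lf 0))) (.nd (.nd (.lf 393) (.lf 0)) (.nd (.lf 647) (.lf 0))))))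

/-- table part -/
def nxT_9 : Tr :=
  .nd (.nd (.nd (.nd (.nd (.nd (.lf 20) (.lf 658)) (.nd (.lf 422) (.lf 0))) (.nd (.nd (.lf 198) (.lf 653)) (.nd (.lf 576) (.lf 0)))) (.nd (.nd (.nd (.lf 41) (.lf 265)) (.nd (.lf 499) (.lf 0))) (.nd (.nd (.lf 345) (.lf 719)) (.nd (.lf 217) (.lf 0))))) (.nd (.nd (.nd (.nd (.lf 83) (.lf 651)) (.nd (.lf 457) (.lf 0))) (.nd (.nd (.lf 61) (.lf 680)) (.nd (.lf 212) (.lf 0)))) (.nd (.nd (.nd (.lf 17) (.lf 382)) (.nd (.lf 540) (.lf 0))) (.nd (.nd (.lf 387) (.lf 0)) (.nd (.lf 643) (.lf 0)))))) (.nd (.nd (.nd (.nd (.nd (.lf 52) (.lf 226)) (.nd (.lf 443) (.lf 0))) (.nd (.nd (.lf 275) (.lf 59)) (.nd (.lf 47) (.lf 0)))) (.nd (.nd (.nd (.lf 43) (.lf 112)) (.nd (.lf 519) (.lf 0))) (.nd (.nd (.lf 369) (.lf 0)) (.nd (.lf 614) (.lf 0))))) (.nd (.nd (.nd (.nd (.lf 115) (.lf 548)) (.nd (.lf 477) (.lf 0))) (.nd (.nd (.lf 55) (.lf 592)) (.nd (.lf 257) (.lf 0)))) (.nd (.nd (.nd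 (.lf 223) (.lf 708)) (.nd (.lf 560) (.lf 0))) (.nd (.nd (.lf 403) (.lf 0)) (.nd (.lf 551) (.lf 0))))))

/-- table part -/
def nxT_10 : Tr :=
  .nd nxT_8 nxT_9

/-- table part -/
def nxT_11 : Tr :=
  .nd (.nd (.nd (.nd (.nd (.nd (.lf 12) (.lf 618)) (.nd (.lf 122) (.lf 0))) (.nd (.nd (.lf 9) (.lf 157)) (.nd (.lf 571) (.lf 0)))) (.nd (.nd (.nd (.lf 128) (.lf 474)) (.nd (.lf 409) (.lf 0))) (.nd (.nd (.lf 240) (.lf 476)) (.nd (.lf 132) (.lf 0))))) (.nd (.nd (.nd (.nd (.lf 76) (.lf 630)) (.nd (.lf 394) (.lf 0))) (.nd (.nd (.lf 299) (.lf 660)) (.nd (.lf 603) (.lf 0)))) (.nd (.nd (.nd (.lf 102) (.lf 399)) (.nd (.lf 534) (.lf 0))) (.nd (.nd (.lf 145) (.lf 0)) (.nd (.lf 192) (.lf 0)))))) (.nd (.nd (.nd (.nd (.nd (.lf 44) (.lf 652)) (.nd (.lf 440) (.lf 0))) (.nd (.nd (.lf 269) (.lf 252)) (.nd (.lf 149) (.lf 0)))) (.nd (.nd (.nd (.lf 165) (.lf 250)) (.nd (.lf 514) (.lf 0))) (.nd (.nd (.lf 96) (.lf 0))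 (.nd (.lf 437) (.lf 0))))) (.nd (.nd (.nd (.nd (.lf 107) (.lf 86)) (.nd (.lf 357) (.lf 0))) (.nd (.nd (.lf 320) (.lf 642)) (.nd (.lf 524) (.lf 0)))) (.nd (.nd (.nd (.lf 210) (.lf 707)) (.nd (.lf 556) (.lf 0))) (.nd (.nd (.lf 397) (.lf 0)) (.nd (.lf 526) (.lf 0))))))

/-- table part -/
def nxT_12 : Tr :=
  .nd (.nd (.nd (.nd (.nd (.nd (.lf 28) (.lf 315)) (.nd (.lf 428) (.lf 0))) (.nd (.nd (.lf 256) (.lf 254)) (.nd (.lf 580) (.lf 0)))) (.nd (.nd (.nd (.lf 152) (.lf 698)) (.nd (.lf 504) (.lf 0))) (.nd (.nd (.lf 349) (.lf 718)) (.nd (.lf 623) (.lf 0))))) (.nd (.nd (.nd (.nd (.lf 91) (.lf 684)) (.nd (.lf 447) (.lf 0))) (.nd (.nd (.lf 27) (.lf 136)) (.nd (.lf 410) (.lf 0)))) (.nd (.nd (.nd (.lf 205) (.lf 391)) (.nd (.lf 515) (.lf 0))) (.nd (.nd (.lf 153) (.lf 0)) (.nd (.lf 645) (.lf 0)))))) (.nd (.nd (.nd (.nd (.nd (.lf 60) (.lf 672)) (.nd (.lf 116) (.lf 0))) (.nd (.nd (.lf 283) (.lf 567)) (.nd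 (.lf 35) (.lf 0)))) (.nd (.nd (.nd (.lf 179) (.lf 100)) (.nd (.lf 364) (.lf 0))) (.nd (.nd (.lf 372) (.lf 0)) (.nd (.lf 511) (.lf 0))))) (.nd (.nd (.nd (.nd (.lf 123) (.lf 11)) (.nd (.lf 485) (.lf 0))) (.nd (.nd (.lf 331) (.lf 459)) (.nd (.lf 419) (.lf 0)))) (.nd (.nd (.nd (.lf 230) (.lf 49)) (.nd (.lf 464) (.lf 0))) (.nd (.nd (.lf 408) (.lf 0)) (.nd (.lf 482) (.lf 0))))))

/-- table part -/
def nxT_13 : Tr :=
  .nd nxT_11 nxT_12

/-- table part -/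
def nxT_14 : Tr :=
  .nd nxT_10 nxT_13

/-- table part -/
def nxT_15 : Tr :=
  .nd nxT_7 nxT_14

/-- table part -/
def nxT_16 : Tr :=
  .nd (.nd (.nd (.nd (.nd (.nd (.lf 2) (.lf 655)) (.nd (.lf 29) (.lf 0))) (.nd (.nd (.lf 234) (.lf 628)) (.nd (.lf 264) (.lf 0)))) (.nd (.nd (.nd (.lf 129) (.lf 695)) (.nd (.lf 343) (.lf 0))) (.nd (.nd (.lf 336) (.lf 286)) (.nd (.lf 619) (.lf 0))))) (.nd (.nd (.nd (.nd (.lf 66) (.lf 466)) (.nd (.lf 130) (.lf 0))) (.nd (.nd (.lf 289) (.lf 595)) (.nd (.lf 600) (.lf 0)))) (.nd (.nd (.nd (.lf 184) (.lf 663)) (.nd (.lf 75) (.lf 0))) (.nd (.nd (.lf 278) (.lf 0)) (.nd (.lf 434) (.lf 0)))))) (.nd (.nd (.nd (.nd (.nd (.lf 34) (.lf 665)) (.nd (.lf 432) (.lf 0))) (.nd (.nd (.lf 261) (.lf 604)) (.nd (.lf 208) (.lf 0)))) (.nd (.nd (.nd (.lf 156) (.lf 84)) (.nd (.lf 506) (.lf 0))) (.nd (.nd (.lf 354) (.lf 0)) (.nd (.lf 380) (.lf 0))))) (.nd (.nd (.nd (.nd (.lf 97) (.lf 80))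 (.nd (.lf 389) (.lf 0))) (.nd (.nd (.lf 314) (.lf 555)) (.nd (.lf 400) (.lf 0)))) (.nd (.nd (.nd (.lf 209) (.lf 139)) (.nd (.lf 550) (.lf 0))) (.nd (.nd (.lf 282) (.lf 0)) (.nd (.lf 472) (.lf 0))))))

/-- table part -/
def nxT_17 : Tr :=
  .nd (.nd (.nd (.nd (.nd (.nd (.lf 18) (.lf 368)) (.nd (.lf 268) (.lf 0))) (.nd (.nd (.lf 248) (.lf 574)) (.nd (.lf 191) (.lf 0)))) (.nd (.nd (.nd (.lf 82) (.lf 566)) (.nd (.lf 406) (.lf 0))) (.nd (.nd (.lf 344) (.lf 637)) (.nd (.lf 610) (.lf 0))))) (.nd (.nd (.nd (.nd (.lf 81) (.lf 681)) (.nd (.lf 455) (.lf 0))) (.nd (.nd (.lf 304) (.lf 641)) (.nd (.lf 194) (.lf 0)))) (.nd (.nd (.nd (.lf 197) (.lf 694)) (.nd (.lf 51) (.lf 0))) (.nd (.nd (.lf 385) (.lf 0)) (.nd (.lf 353) (.lf 0)))))) (.nd (.nd (.nd (.nd (.nd (.lf 50) (.lf 670)) (.nd (.lf 104) (.lf 0))) (.nd (.nd (.lf 199) (.lf 445)) (.nd (.lf 593) (.lf 0)))) (.nd (.nd (.nd (.lf 170) (.lf 544)) (.nd (.lf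 467) (.lf 0))) (.nd (.nd (.lf 69) (.lf 0)) (.nd (.lf 620) (.lf 0))))) (.nd (.nd (.nd (.nd (.lf 113) (.lf 587)) (.nd (.lf 475) (.lf 0))) (.nd (.nd (.lf 325) (.lf 712)) (.nd (.lf 617) (.lf 0)))) (.nd (.nd (.nd (.lf 222) (.lf 415)) (.nd (.lf 420) (.lf 0))) (.nd (.nd (.lf 401) (.lf 0)) (.nd (.lf 449) (.lf 0))))))

/-- table part -/
def nxT_18 : Tr :=
  .nd nxT_16 nxT_17

/-- table part -/
def nxT_19 : Tr :=
  .nd (.nd (.nd (.nd (.nd (.nd (.lf 10) (.lf 378)) (.nd (.lf 417) (.lf 0))) (.nd (.nd (.lf 241) (.lf 245)) (.nd (.lf 570) (.lf 0)))) (.nd (.nd (.nd (.lf 137) (.lf 667)) (.nd (.lf 495) (.lf 0))) (.nd (.nd (.lf 274) (.lf 644)) (.nd (.lf 108) (.lf 0))))) (.nd (.nd (.nd (.nd (.lf 74) (.lf 677)) (.nd (.lf 452) (.lf 0))) (.nd (.nd (.lf 297) (.lf 384)) (.nd (.lf 332) (.lf 0)))) (.nd (.nd (.nd (.lf 5) (.lf 71)) (.nd (.lf 533) (.lf 0))) (.nd (.nd (.lf 229) (.lf 0)) (.nd (.lf 363) (.lf 0)))))) (.nd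 (.nd (.nd (.nd (.nd (.lf 42) (.lf 668)) (.nd (.lf 438) (.lf 0))) (.nd (.nd (.lf 267) (.lf 710)) (.nd (.lf 588) (.lf 0)))) (.nd (.nd (.nd (.lf 164) (.lf 247)) (.nd (.lf 512) (.lf 0))) (.nd (.nd (.lf 362) (.lf 0)) (.nd (.lf 629) (.lf 0))))) (.nd (.nd (.nd (.nd (.lf 105) (.lf 1)) (.nd (.lf 470) (.lf 0))) (.nd (.nd (.lf 15) (.lf 558)) (.nd (.lf 427) (.lf 0)))) (.nd (.nd (.nd (.lf 215) (.lf 45)) (.nd (.lf 88) (.lf 0))) (.nd (.nd (.lf 106) (.lf 0)) (.nd (.lf 650) (.lf 0))))))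

/-- table part -/
def nxT_20 : Tr :=
  .nd (.nd (.nd (.nd (.nd (.nd (.lf 26) (.lf 662)) (.nd (.lf 339) (.lf 0))) (.nd (.nd (.lf 255) (.lf 714)) (.nd (.lf 578) (.lf 0)))) (.nd (.nd (.nd (.lf 150) (.lf 699)) (.nd (.lf 503) (.lf 0))) (.nd (.nd (.lf 317) (.lf 648)) (.nd (.lf 430) (.lf 0))))) (.nd (.nd (.nd (.nd (.lf 89) (.lf 599)) (.nd (.lf 461) (.lf 0))) (.nd (.nd (.lf 309) (.lf 697)) (.nd (.lf 484) (.lf 0)))) (.nd (.nd (.nd (.lf 203) (.lf 272)) (.nd (.lf 545) (.lf 0))) (.nd (.nd (.lf 183) (.lf 0)) (.nd (.lf 392) (.lf 0)))))) (.nd (.nd (.nd (.nd (.nd (.lf 58) (.lf 671)) (.nd (.lf 161) (.lf 0))) (.nd (.nd (.lf 281) (.lf 496)) (.nd (.lf 596) (.lf 0)))) (.nd (.nd (.nd (.lf 177) (.lf 638)) (.nd (.lf 418) (.lf 0))) (.nd (.nd (.lf 371) (.lf 0)) (.nd (.lf 594) (.lf 0))))) (.nd (.nd (.nd (.nd (.lf 121) (.lf 690)) (.nd (.lf 483) (.lf 0))) (.nd (.nd (.lf 92) (.lf 436)) (.nd (.lf 221) (.lf 0)))) (.nd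 (.nd (.nd (.lf 39) (.lf 500)) (.nd (.lf 563) (.lf 0))) (.nd (.nd (.lf 407) (.lf 0)) (.nd (.lf 213) (.lf 0))))))

/-- table part -/
def nxT_21 : Tr :=
  .nd nxT_19 nxT_20

/-- table part -/
def nxT_22 : Tr :=
  .nd nxT_18 nxT_21

/-- table part -/
def nxT_23 : Tr :=
  .nd (.nd (.nd (.nd (.nd (.nd (.lf 6) (.lf 656)) (.nd (.lf 303) (.lf 0))) (.nd (.nd (.lf 237) (.lf 675)) (.nd (.lf 568) (.lf 0)))) (.nd (.nd (.nd (.lf 133) (.lf 290)) (.nd (.lf 491) (.lf 0))) (.nd (.nd (.lf 338) (.lf 716)) (.nd (.lf 597) (.lf 0))))) (.nd (.nd (.nd (.nd (.lf 70) (.lf 21)) (.nd (.lf 300) (.lf 0))) (.nd (.nd (.lf 293) (.lf 492)) (.nd (.lf 602) (.lf 0)))) (.nd (.nd (.nd (.lf 187) (.lf 442)) (.nd (.lf 530) (.lf 0))) (.nd (.nd (.lf 379) (.lf 0)) (.nd (.lf 639) (.lf 0)))))) (.nd (.nd (.nd (.nd (.nd (.lf 38) (.lf 306)) (.nd (.lf 435) (.lf 0))) (.nd (.nd (.lf 138) (.lf 270)) (.nd (.lf 586) (.lf 0)))) (.nd (.nd (.nd (.lf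 160) (.lf 456)) (.nd (.lf 509) (.lf 0))) (.nd (.nd (.lf 358) (.lf 0)) (.nd (.lf 219) (.lf 0))))) (.nd (.nd (.nd (.nd (.lf 101) (.lf 646)) (.nd (.lf 469) (.lf 0))) (.nd (.nd (.lf 316) (.lf 538)) (.nd (.lf 361) (.lf 0)))) (.nd (.nd (.nd (.lf 94) (.lf 706)) (.nd (.lf 416) (.lf 0))) (.nd (.nd (.lf 7) (.lf 0)) (.nd (.lf 649) (.lf 0))))))

/-- table part -/
def nxT_24 : Tr :=
  .nd (.nd (.nd (.nd (.nd (.nd (.lf 22) (.lf 659)) (.nd (.lf 424) (.lf 0))) (.nd (.nd (.lf 251) (.lf 626)) (.nd (.lf 535) (.lf 0)))) (.nd (.nd (.nd (.lf 146) (.lf 471)) (.nd (.lf 396) (.lf 0))) (.nd (.nd (.lf 346) (.lf 543)) (.nd (.lf 31) (.lf 0))))) (.nd (.nd (.nd (.nd (.lf 85) (.lf 335)) (.nd (.lf 188) (.lf 0))) (.nd (.nd (.lf 307) (.lf 711)) (.nd (.lf 366) (.lf 0)))) (.nd (.nd (.nd (.lf 200) (.lf 705)) (.nd (.lf 542) (.lf 0))) (.nd (.nd (.lf 235) (.lf 0)) (.nd (.lf 284) (.lf 0)))))) (.nd (.nd (.nd (.nd (.nd (.lf 54) (.lf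 513)) (.nd (.lf 444) (.lf 0))) (.nd (.nd (.lf 277) (.lf 151)) (.nd (.lf 488) (.lf 0)))) (.nd (.nd (.nd (.lf 173) (.lf 326)) (.nd (.lf 521) (.lf 0))) (.nd (.nd (.lf 90) (.lf 0)) (.nd (.lf 507) (.lf 0))))) (.nd (.nd (.nd (.nd (.lf 117) (.lf 625)) (.nd (.lf 479) (.lf 0))) (.nd (.nd (.lf 328) (.lf 288)) (.nd (.lf 404) (.lf 0)))) (.nd (.nd (.nd (.lf 225) (.lf 686)) (.nd (.lf 294) (.lf 0))) (.nd (.nd (.lf 159) (.lf 0)) (.nd (.lf 19) (.lf 0))))))

/-- table part -/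
def nxT_25 : Tr :=
  .nd nxT_23 nxT_24

/-- table part -/
def nxT_26 : Tr :=
  .nd (.nd (.nd (.nd (.nd (.nd (.lf 14) (.lf 118)) (.nd (.lf 33) (.lf 0))) (.nd (.nd (.lf 244) (.lf 554)) (.nd (.lf 573) (.lf 0)))) (.nd (.nd (.nd (.lf 140) (.lf 238)) (.nd (.lf 497) (.lf 0))) (.nd (.nd (.lf 341) (.lf 583)) (.nd (.lf 57) (.lf 0))))) (.nd (.nd (.nd (.nd (.lf 77) (.lf 413)) (.nd (.lf 453) (.lf 0))) (.nd (.nd (.lf 301) (.lf 589)) (.nd (.lf 510) (.lf 0)))) (.nd (.nd (.nd (.lf 193) (.lf 704)) (.nd (.lf 536) (.lf 0))) (.nd (.nd (.lf 383) (.lf 0)) (.nd (.lf 505) (.lf 0)))))) (.nd (.nd (.nd (.nd (.nd (.lf 46) (.lf 494)) (.nd (.lf 441) (.lf 0))) (.nd (.nd (.lf 271) (.lf 605)) (.nd (.lf 590) (.lf 0)))) (.nd (.nd (.nd (.lf 166) (.lf 608)) (.nd (.lf 516) (.lf 0))) (.nd (.nd (.lf 365) (.lf 0)) (.nd (.lf 337) (.lf 0))))) (.nd (.nd (.nd (.nd (.lf 109) (.lf 305)) (.nd (.lf 206) (.lf 0))) (.nd (.nd (.lf 322) (.lf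 458)) (.nd (.lf 402) (.lf 0)))) (.nd (.nd (.nd (.lf 218) (.lf 582)) (.nd (.lf 557) (.lf 0))) (.nd (.nd (.lf 398) (.lf 0)) (.nd (.lf 572) (.lf 0))))))

/-- table part -/
def nxT_27 : Tr :=
  .nd (.nd (.nd (.nd (.nd (.nd (.lf 30) (.lf 664)) (.nd (.lf 340) (.lf 0))) (.nd (.nd (.lf 258) (.lf 715)) (.nd (.lf 233) (.lf 0)))) (.nd (.nd (.nd (.lf 154) (.lf 421)) (.nd (.lf 249) (.lf 0))) (.nd (.nd (.lf 351) (.lf 654)) (.nd (.lf 529) (.lf 0))))) (.nd (.nd (.nd (.nd (.lf 93) (.lf 685)) (.nd (.lf 463) (.lf 0))) (.nd (.nd (.lf 311) (.lf 381)) (.nd (.lf 539) (.lf 0)))) (.nd (.nd (.nd (.lf 207) (.lf 124)) (.nd (.lf 547) (.lf 0))) (.nd (.nd (.lf 242) (.lf 0)) (.nd (.lf 180) (.lf 0)))))) (.nd (.nd (.nd (.nd (.nd (.lf 62) (.lf 673)) (.nd (.lf 319) (.lf 0))) (.nd (.nd (.lf 285) (.lf 373)) (.nd (.lf 478) (.lf 0)))) (.nd (.nd (.nd (.lf 73) (.lf 703)) (.nd (.lf 525) (.lf 0))) (.nd (.nd (.lf 374) (.lf 0)) (.nd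 (.lf 635) (.lf 0))))) (.nd (.nd (.nd (.nd (.lf 125) (.lf 609)) (.nd (.lf 292) (.lf 0))) (.nd (.nd (.lf 333) (.lf 689)) (.nd (.lf 260) (.lf 0)))) (.nd (.nd (.nd (.lf 231) (.lf 169)) (.nd (.lf 565) (.lf 0))) (.nd (.nd (.lf 280) (.lf 0)) (.nd (.lf 262) (.lf 0))))))

/-- table part -/
def nxT_28 : Tr :=
  .nd nxT_26 nxT_27

/-- table part -/
def nxT_29 : Tr :=
  .nd nxT_25 nxT_28

/-- table part -/
def nxT_30 : Tr :=
  .nd nxT_22 nxT_29

/-- table part -/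
def nxT_31 : Tr :=
  .nd nxT_15 nxT_30

/-- table part -/
def nxT_32 : Tr :=
  .nd (.nd (.nd (.nd (.nd (.nd (.lf 1) (.lf 654)) (.nd (.lf 412) (.lf 0))) (.nd (.nd (.lf 233) (.lf 46)) (.nd (.lf 566) (.lf 0)))) (.nd (.nd (.nd (.lf 128) (.lf 694)) (.nd (.lf 101) (.lf 0))) (.nd (.nd (.lf 335) (.lf 289)) (.nd (.lf 552) (.lf 0))))) (.nd (.nd (.nd (.nd (.lf 65) (.lf 314)) (.nd (.lf 449) (.lf 0))) (.nd (.nd (.lf 288) (.lf 707)) (.nd (.lf 599) (.lf 0)))) (.nd (.nd (.nd (.lf 183) (.lf 549)) (.nd (.lf 475) (.lf 0))) (.nd (.nd (.lf 376) (.lf 0)) (.nd (.lf 365) (.lf 0)))))) (.nd (.nd (.nd (.nd (.nd (.lf 33) (.lf 666)) (.nd (.lf 244) (.lf 0))) (.nd (.nd (.lf 260) (.lf 700)) (.nd (.lf 582) (.lf 0)))) (.nd (.nd (.nd (.lf 155) (.lf 521)) (.nd (.lf 505) (.lf 0))) (.nd (.nd (.lf 353) (.lf 0)) (.nd (.lf 580) (.lf 0))))) (.nd (.nd (.nd (.nd (.lf 96) (.lf 686)) (.nd (.lf 466) (.lf 0))) (.nd (.nd (.lf 42) (.lf 716))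 (.nd (.lf 610) (.lf 0)))) (.nd (.nd (.nd (.lf 208) (.lf 691)) (.nd (.lf 453) (.lf 0))) (.nd (.nd (.lf 313) (.lf 0)) (.nd (.lf 646) (.lf 0))))))

/-- table part -/
def nxT_33 : Tr :=
  .nd (.nd (.nd (.nd (.nd (.nd (.lf 17) (.lf 569)) (.nd (.lf 420) (.lf 0))) (.nd (.nd (.lf 247) (.lf 443)) (.nd (.lf 556) (.lf 0)))) (.nd (.nd (.nd (.lf 143) (.lf 698)) (.nd (.lf 173) (.lf 0))) (.nd (.nd (.lf 343) (.lf 514)) (.nd (.lf 622) (.lf 0))))) (.nd (.nd (.nd (.nd (.lf 80) (.lf 680)) (.nd (.lf 360) (.lf 0))) (.nd (.nd (.lf 303) (.lf 56)) (.nd (.lf 237) (.lf 0)))) (.nd (.nd (.nd (.lf 196) (.lf 28)) (.nd (.lf 538) (.lf 0))) (.nd (.nd (.lf 358) (.lf 0)) (.nd (.lf 642) (.lf 0)))))) (.nd (.nd (.nd (.nd (.nd (.lf 49) (.lf 517)) (.nd (.lf 223) (.lf 0))) (.nd (.nd (.lf 14) (.lf 636)) (.nd (.lf 592) (.lf 0)))) (.nd (.nd (.nd (.lf 169) (.lf 297)) (.nd (.lf 518) (.lf 0))) (.nd (.nd (.lf 184) (.lf 0)) (.nd (.lf 632)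 (.lf 0))))) (.nd (.nd (.nd (.nd (.lf 112) (.lf 649)) (.nd (.lf 474) (.lf 0))) (.nd (.nd (.lf 185) (.lf 330)) (.nd (.lf 557) (.lf 0)))) (.nd (.nd (.nd (.lf 221) (.lf 664)) (.nd (.lf 559) (.lf 0))) (.nd (.nd (.lf 400) (.lf 0)) (.nd (.lf 651) (.lf 0))))))

/-- table part -/
def nxT_34 : Tr :=
  .nd nxT_32 nxT_33

/-- table part -/
def nxT_35 : Tr :=
  .nd (.nd (.nd (.nd (.nd (.nd (.lf 9) (.lf 336)) (.nd (.lf 2) (.lf 0))) (.nd (.nd (.lf 240) (.lf 165)) (.nd (.lf 533) (.lf 0)))) (.nd (.nd (.nd (.lf 136) (.lf 351)) (.nd (.lf 494) (.lf 0))) (.nd (.nd (.lf 91) (.lf 375)) (.nd (.lf 522) (.lf 0))))) (.nd (.nd (.nd (.nd (.lf 73) (.lf 676)) (.nd (.lf 451) (.lf 0))) (.nd (.nd (.lf 296) (.lf 479)) (.nd (.lf 367) (.lf 0)))) (.nd (.nd (.nd (.lf 190) (.lf 696)) (.nd (.lf 532) (.lf 0))) (.nd (.nd (.lf 380) (.lf 0)) (.nd (.lf 448) (.lf 0)))))) (.nd (.nd (.nd (.nd (.nd (.lf 41) (.lf 667)) (.nd (.lf 437) (.lf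 0))) (.nd (.nd (.lf 266) (.lf 681)) (.nd (.lf 148) (.lf 0)))) (.nd (.nd (.nd (.lf 163) (.lf 347)) (.nd (.lf 511) (.lf 0))) (.nd (.nd (.lf 361) (.lf 0)) (.nd (.lf 628) (.lf 0))))) (.nd (.nd (.nd (.nd (.lf 104) (.lf 689)) (.nd (.lf 308) (.lf 0))) (.nd (.nd (.lf 36) (.lf 717)) (.nd (.lf 613) (.lf 0)))) (.nd (.nd (.nd (.lf 140) (.lf 662)) (.nd (.lf 554) (.lf 0))) (.nd (.nd (.lf 311) (.lf 0)) (.nd (.lf 271) (.lf 0))))))

/-- table part -/
def nxT_36 : Tr :=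
  .nd (.nd (.nd (.nd (.nd (.nd (.lf 25) (.lf 489)) (.nd (.lf 426) (.lf 0))) (.nd (.nd (.lf 254) (.lf 328)) (.nd (.lf 354) (.lf 0)))) (.nd (.nd (.nd (.lf 149) (.lf 519)) (.nd (.lf 502) (.lf 0))) (.nd (.nd (.lf 166) (.lf 207)) (.nd (.lf 214) (.lf 0))))) (.nd (.nd (.nd (.nd (.lf 88) (.lf 460)) (.nd (.lf 44) (.lf 0))) (.nd (.nd (.lf 277) (.lf 83)) (.nd (.lf 452) (.lf 0)))) (.nd (.nd (.nd (.lf 115) (.lf 550)) (.nd (.lf 544) (.lf 0))) (.nd (.nd (.lf 338) (.lf 0)) (.nd (.lf 74) (.lf 0)))))) (.nd (.nd (.nd (.nd (.nd (.lf 57) (.lf 457)) (.nd (.lf 446) (.lf 0))) (.nd (.nd (.lf 280) (.lf 81)) (.nd (.lf 146) (.lf 0)))) (.nd (.nd (.nd (.lf 176) (.lf 545)) (.nd (.lf 523) (.lf 0))) (.nd (.nd (.lf 152) (.lf 0)) (.nd (.lf 324) (.lf 0))))) (.nd (.nd (.nd (.nd (.lf 120) (.lf 657)) (.nd (.lf 482) (.lf 0))) (.nd (.nd (.lf 203) (.lf 588)) (.nd (.lf 189) (.lf 0)))) (.nd (.nd (.nd (.lf 228) (.lf 374)) (.nd (.lf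 562) (.lf 0))) (.nd (.nd (.lf 406) (.lf 0)) (.nd (.lf 653) (.lf 0))))))

/-- table part -/
def nxT_37 : Tr :=
  .nd nxT_35 nxT_36

/-- table part -/
def nxT_38 : Tr :=
  .nd nxT_34 nxT_37

/-- table part -/
def nxT_39 : Tr :=
  .nd (.nd (.nd (.nd (.nd (.nd (.lf 5) (.lf 540)) (.nd (.lf 415) (.lf 0))) (.nd (.nd (.lf 12) (.lf 537)) (.nd (.lf 567) (.lf 0)))) (.nd (.nd (.nd (.lf 132) (.lf 506)) (.nd (.lf 490) (.lf 0))) (.nd (.nd (.lf 337) (.lf 647)) (.nd (.lf 281) (.lf 0))))) (.nd (.nd (.nd (.nd (.lf 69) (.lf 469)) (.nd (.lf 322) (.lf 0))) (.nd (.nd (.lf 292) (.lf 432)) (.nd (.lf 408) (.lf 0)))) (.nd (.nd (.nd (.lf 186) (.lf 225)) (.nd (.lf 529) (.lf 0))) (.nd (.nd (.lf 378) (.lf 0)) (.nd (.lf 638) (.lf 0)))))) (.nd (.nd (.nd (.nd (.nd (.lf 37) (.lf 131)) (.nd (.lf 434) (.lf 0))) (.nd (.nd (.lf 264) (.lf 699)) (.nd (.lf 585) (.lf 0)))) (.nd (.nd (.nd (.lf 159) (.lf 701)) (.nd (.lf 79) (.lf 0)))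 (.nd (.nd (.lf 357) (.lf 0)) (.nd (.lf 424) (.lf 0))))) (.nd (.nd (.nd (.nd (.lf 100) (.lf 623)) (.nd (.lf 468) (.lf 0))) (.nd (.nd (.lf 315) (.lf 175)) (.nd (.lf 612) (.lf 0)))) (.nd (.nd (.nd (.lf 212) (.lf 470)) (.nd (.lf 553) (.lf 0))) (.nd (.nd (.lf 6) (.lf 0)) (.nd (.lf 648) (.lf 0))))))

/-- table part -/
def nxT_40 : Tr :=
  .nd (.nd (.nd (.nd (.nd (.nd (.lf 21) (.lf 491)) (.nd (.lf 423) (.lf 0))) (.nd (.nd (.lf 250) (.lf 650)) (.nd (.lf 259) (.lf 0)))) (.nd (.nd (.nd (.lf 145) (.lf 307)) (.nd (.lf 4) (.lf 0))) (.nd (.nd (.lf 218) (.lf 433)) (.nd (.lf 570) (.lf 0))))) (.nd (.nd (.nd (.nd (.lf 84) (.lf 158)) (.nd (.lf 458) (.lf 0))) (.nd (.nd (.lf 306) (.lf 591)) (.nd (.lf 606) (.lf 0)))) (.nd (.nd (.nd (.lf 199) (.lf 40)) (.nd (.lf 541) (.lf 0))) (.nd (.nd (.lf 388) (.lf 0)) (.nd (.lf 644) (.lf 0)))))) (.nd (.nd (.nd (.nd (.nd (.lf 53) (.lf 438)) (.nd (.lf 150) (.lf 0))) (.nd (.nd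 (.lf 276) (.lf 693)) (.nd (.lf 594) (.lf 0)))) (.nd (.nd (.nd (.lf 172) (.lf 685)) (.nd (.lf 520) (.lf 0))) (.nd (.nd (.lf 341) (.lf 0)) (.nd (.lf 417) (.lf 0))))) (.nd (.nd (.nd (.nd (.lf 116) (.lf 684)) (.nd (.lf 478) (.lf 0))) (.nd (.nd (.lf 327) (.lf 679)) (.nd (.lf 477) (.lf 0)))) (.nd (.nd (.nd (.lf 224) (.lf 703)) (.nd (.lf 121) (.lf 0))) (.nd (.nd (.lf 404) (.lf 0)) (.nd (.lf 64) (.lf 0))))))

/-- table part -/
def nxT_41 : Tr :=
  .nd nxT_39 nxT_40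

/-- table part -/
def nxT_42 : Tr :=
  .nd (.nd (.nd (.nd (.nd (.nd (.lf 13) (.lf 576)) (.nd (.lf 419) (.lf 0))) (.nd (.nd (.lf 243) (.lf 708)) (.nd (.lf 572) (.lf 0)))) (.nd (.nd (.nd (.lf 139) (.lf 697)) (.nd (.lf 496) (.lf 0))) (.nd (.nd (.lf 340) (.lf 705)) (.nd (.lf 563) (.lf 0))))) (.nd (.nd (.nd (.nd (.lf 18) (.lf 119)) (.nd (.lf 393) (.lf 0))) (.nd (.nd (.lf 300) (.lf 414)) (.nd (.lf 422) (.lf 0)))) (.nd (.nd (.nd (.lf 192) (.lf 624)) (.nd (.lf 535) (.lf 0))) (.nd (.nd (.lf 382) (.lf 0)) (.nd (.lf 487) (.lf 0)))))) (.nd (.nd (.nd (.nd (.nd (.lf 45) (.lf 76)) (.nd (.lf 20) (.lf 0))) (.nd (.nd (.lf 270) (.lf 369)) (.nd (.lf 578) (.lf 0)))) (.nd (.nd (.nd (.lf 26) (.lf 441)) (.nd (.lf 515) (.lf 0))) (.nd (.nd (.lf 364) (.lf 0)) (.nd (.lf 109) (.lf 0))))) (.nd (.nd (.nd (.nd (.lf 108) (.lf 690)) (.nd (.lf 129) (.lf 0))) (.nd (.nd (.lf 321) (.lf 401)) (.nd (.lf 614) (.lf 0)))) (.nd (.nd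 (.nd (.lf 217) (.lf 231)) (.nd (.lf 334) (.lf 0))) (.nd (.nd (.lf 95) (.lf 0)) (.nd (.lf 483) (.lf 0))))))

/-- table part -/
def nxT_43 : Tr :=
  .nd (.nd (.nd (.nd (.nd (.nd (.lf 29) (.lf 663)) (.nd (.lf 429) (.lf 0))) (.nd (.nd (.lf 257) (.lf 629)) (.nd (.lf 398) (.lf 0)))) (.nd (.nd (.nd (.lf 153) (.lf 503)) (.nd (.lf 77) (.lf 0))) (.nd (.nd (.lf 350) (.lf 616)) (.nd (.lf 581) (.lf 0))))) (.nd (.nd (.nd (.nd (.lf 92) (.lf 671)) (.nd (.lf 202) (.lf 0))) (.nd (.nd (.lf 310) (.lf 656)) (.nd (.lf 608) (.lf 0)))) (.nd (.nd (.nd (.lf 206) (.lf 695)) (.nd (.lf 546) (.lf 0))) (.nd (.nd (.lf 392) (.lf 0)) (.nd (.lf 333) (.lf 0)))))) (.nd (.nd (.nd (.nd (.nd (.lf 61) (.lf 383)) (.nd (.lf 447) (.lf 0))) (.nd (.nd (.lf 284) (.lf 603)) (.nd (.lf 598) (.lf 0)))) (.nd (.nd (.nd (.lf 180) (.lf 645)) (.nd (.lf 397) (.lf 0))) (.nd (.nd (.lf 373) (.lf 0)) (.nd (.lf 530) (.lf 0))))) (.nd (.nd (.nd (.nd (.lf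 124) (.lf 692)) (.nd (.lf 486) (.lf 0))) (.nd (.nd (.lf 332) (.lf 301)) (.nd (.lf 560) (.lf 0)))) (.nd (.nd (.nd (.lf 111) (.lf 710)) (.nd (.lf 232) (.lf 0))) (.nd (.nd (.lf 409) (.lf 0)) (.nd (.lf 542) (.lf 0))))))

/-- table part -/
def nxT_44 : Tr :=
  .nd nxT_42 nxT_43

/-- table part -/
def nxT_45 : Tr :=
  .nd nxT_41 nxT_44

/-- table part -/
def nxT_46 : Tr :=
  .nd nxT_38 nxT_45

/-- table part -/
def nxT_47 : Tr :=
  .nd (.nd (.nd (.nd (.nd (.nd (.lf 3) (.lf 127)) (.nd (.lf 413) (.lf 0))) (.nd (.nd (.lf 235) (.lf 571)) (.nd (.lf 179) (.lf 0)))) (.nd (.nd (.nd (.lf 130) (.lf 182)) (.nd (.lf 488) (.lf 0))) (.nd (.nd (.lf 177) (.lf 89)) (.nd (.lf 501) (.lf 0))))) (.nd (.nd (.nd (.nd (.lf 67) (.lf 293)) (.nd (.lf 356) (.lf 0))) (.nd (.nd (.lf 290) (.lf 342)) (.nd (.lf 309) (.lf 0)))) (.nd (.nd (.nd (.lf 162) (.lf 295)) (.nd (.lf 385) (.lf 0))) (.nd (.nd (.lf 377) (.lf 0)) (.nd (.lf 637)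 (.lf 0)))))) (.nd (.nd (.nd (.nd (.nd (.lf 35) (.lf 24)) (.nd (.lf 318) (.lf 0))) (.nd (.nd (.lf 262) (.lf 670)) (.nd (.lf 583) (.lf 0)))) (.nd (.nd (.nd (.lf 157) (.lf 461)) (.nd (.lf 507) (.lf 0))) (.nd (.nd (.lf 355) (.lf 0)) (.nd (.lf 625) (.lf 0))))) (.nd (.nd (.nd (.nd (.lf 98) (.lf 602)) (.nd (.lf 467) (.lf 0))) (.nd (.nd (.lf 211) (.lf 344)) (.nd (.lf 504) (.lf 0)))) (.nd (.nd (.nd (.lf 210) (.lf 655)) (.nd (.lf 551) (.lf 0))) (.nd (.nd (.lf 215) (.lf 0)) (.nd (.lf 346) (.lf 0))))))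

/-- table part -/
def nxT_48 : Tr :=
  .nd (.nd (.nd (.nd (.nd (.nd (.lf 19) (.lf 590)) (.nd (.lf 421) (.lf 0))) (.nd (.nd (.lf 249) (.lf 246)) (.nd (.lf 499) (.lf 0)))) (.nd (.nd (.nd (.lf 144) (.lf 316)) (.nd (.lf 8) (.lf 0))) (.nd (.nd (.lf 87) (.lf 719)) (.nd (.lf 534) (.lf 0))))) (.nd (.nd (.nd (.nd (.lf 82) (.lf 455)) (.nd (.lf 456) (.lf 0))) (.nd (.nd (.lf 305) (.lf 320)) (.nd (.lf 605) (.lf 0)))) (.nd (.nd (.nd (.lf 198) (.lf 58)) (.nd (.lf 539) (.lf 0))) (.nd (.nd (.lf 386) (.lf 0)) (.nd (.lf 325) (.lf 0)))))) (.nd (.nd (.nd (.nd (.nd (.lf 51) (.lf 509)) (.nd (.lf 442) (.lf 0))) (.nd (.nd (.lf 274) (.lf 586)) (.nd (.lf 473) (.lf 0)))) (.nd (.nd (.nd (.lf 171) (.lf 661)) (.nd (.lf 234) (.lf 0))) (.nd (.nd (.lf 368) (.lf 0)) (.nd (.lf 633) (.lf 0))))) (.nd (.nd (.nd (.nd (.lf 114) (.lf 444)) (.nd (.lf 476) (.lf 0))) (.nd (.nd (.lf 326) (.lf 431)) (.nd (.lf 170) (.lf 0)))) (.nd (.nd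 (.nd (.lf 103) (.lf 659)) (.nd (.lf 54) (.lf 0))) (.nd (.nd (.lf 402) (.lf 0)) (.nd (.lf 621) (.lf 0))))))

/-- table part -/
def nxT_49 : Tr :=
  .nd nxT_47 nxT_48

/-- table part -/
def nxT_50 : Tr :=
  .nd (.nd (.nd (.nd (.nd (.nd (.lf 11) (.lf 395)) (.nd (.lf 418) (.lf 0))) (.nd (.nd (.lf 242) (.lf 712)) (.nd (.lf 209) (.lf 0)))) (.nd (.nd (.nd (.lf 138) (.lf 619)) (.nd (.lf 255) (.lf 0))) (.nd (.nd (.lf 16) (.lf 261)) (.nd (.lf 495) (.lf 0))))) (.nd (.nd (.nd (.nd (.lf 75) (.lf 672)) (.nd (.lf 34) (.lf 0))) (.nd (.nd (.lf 298) (.lf 677)) (.nd (.lf 403) (.lf 0)))) (.nd (.nd (.nd (.lf 191) (.lf 304)) (.nd (.lf 66) (.lf 0))) (.nd (.nd (.lf 381) (.lf 0)) (.nd (.lf 640) (.lf 0)))))) (.nd (.nd (.nd (.nd (.nd (.lf 43) (.lf 669)) (.nd (.lf 439) (.lf 0))) (.nd (.nd (.lf 268) (.lf 714)) (.nd (.lf 589) (.lf 0)))) (.nd (.nd (.nd (.lf 135) (.lf 573)) (.nd (.lf 513) (.lf 0))) (.nd (.nd (.lf 363) (.lf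 0)) (.nd (.lf 568) (.lf 0))))) (.nd (.nd (.nd (.nd (.lf 106) (.lf 635)) (.nd (.lf 471) (.lf 0))) (.nd (.nd (.lf 319) (.lf 718)) (.nd (.lf 390) (.lf 0)))) (.nd (.nd (.nd (.lf 216) (.lf 682)) (.nd (.lf 555) (.lf 0))) (.nd (.nd (.lf 396) (.lf 0)) (.nd (.lf 561) (.lf 0))))))

/-- table part -/
def nxT_51 : Tr :=
  .nd (.nd (.nd (.nd (.nd (.nd (.lf 27) (.lf 584)) (.nd (.lf 427) (.lf 0))) (.nd (.nd (.lf 107) (.lf 48)) (.nd (.lf 579) (.lf 0)))) (.nd (.nd (.nd (.lf 151) (.lf 10)) (.nd (.lf 113) (.lf 0))) (.nd (.nd (.lf 348) (.lf 275)) (.nd (.lf 239) (.lf 0))))) (.nd (.nd (.nd (.nd (.lf 90) (.lf 683)) (.nd (.lf 462) (.lf 0))) (.nd (.nd (.lf 123) (.lf 593)) (.nd (.lf 525) (.lf 0)))) (.nd (.nd (.nd (.lf 204) (.lf 450)) (.nd (.lf 236) (.lf 0))) (.nd (.nd (.lf 391) (.lf 0)) (.nd (.lf 370) (.lf 0)))))) (.nd (.nd (.nd (.nd (.nd (.lf 59) (.lf 547)) (.nd (.lf 299) (.lf 0))) (.nd (.nd (.lf 282) (.lf 601))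 (.nd (.lf 597) (.lf 0)))) (.nd (.nd (.nd (.lf 178) (.lf 639)) (.nd (.lf 524) (.lf 0))) (.nd (.nd (.lf 93) (.lf 0)) (.nd (.lf 634) (.lf 0))))) (.nd (.nd (.nd (.nd (.lf 122) (.lf 497)) (.nd (.lf 484) (.lf 0))) (.nd (.nd (.lf 142) (.lf 688)) (.nd (.lf 32) (.lf 0)))) (.nd (.nd (.nd (.lf 229) (.lf 105)) (.nd (.lf 564) (.lf 0))) (.nd (.nd (.lf 267) (.lf 0)) (.nd (.lf 371) (.lf 0))))))

/-- table part -/
def nxT_52 : Tr :=
  .nd nxT_50 nxT_51

/-- table part -/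
def nxT_53 : Tr :=
  .nd nxT_49 nxT_52

/-- table part -/
def nxT_54 : Tr :=
  .nd (.nd (.nd (.nd (.nd (.nd (.lf 7) (.lf 164)) (.nd (.lf 416) (.lf 0))) (.nd (.nd (.lf 238) (.lf 440)) (.nd (.lf 253) (.lf 0)))) (.nd (.nd (.nd (.lf 134) (.lf 133)) (.nd (.lf 492) (.lf 0))) (.nd (.nd (.lf 339) (.lf 498)) (.nd (.lf 287) (.lf 0))))) (.nd (.nd (.nd (.nd (.lf 71) (.lf 675)) (.nd (.lf 160) (.lf 0))) (.nd (.nd (.lf 294) (.lf 704)) (.nd (.lf 508) (.lf 0)))) (.nd (.nd (.nd (.lf 188) (.lf 222)) (.nd (.lf 52) (.lf 0))) (.nd (.nd (.lf 193) (.lf 0)) (.nd (.lf 611) (.lf 0)))))) (.nd (.nd (.nd (.nd (.nd (.lf 39) (.lf 154)) (.nd (.lf 436) (.lf 0))) (.nd (.nd (.lf 265) (.lf 706)) (.nd (.lf 587) (.lf 0)))) (.nd (.nd (.nd (.lf 161) (.lf 702)) (.nd (.lf 510) (.lf 0))) (.nd (.nd (.lf 359) (.lf 0)) (.nd (.lf 626) (.lf 0))))) (.nd (.nd (.nd (.nd (.lf 102) (.lf 387)) (.nd (.lf 411) (.lf 0))) (.nd (.nd (.lf 317) (.lf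 673)) (.nd (.lf 516) (.lf 0)))) (.nd (.nd (.nd (.lf 213) (.lf 565)) (.nd (.lf 536) (.lf 0))) (.nd (.nd (.lf 394) (.lf 0)) (.nd (.lf 485) (.lf 0))))))

/-- table part -/
def nxT_55 : Tr :=
  .nd (.nd (.nd (.nd (.nd (.nd (.lf 23) (.lf 660)) (.nd (.lf 425) (.lf 0))) (.nd (.nd (.lf 252) (.lf 345)) (.nd (.lf 577) (.lf 0)))) (.nd (.nd (.nd (.lf 147) (.lf 631)) (.nd (.lf 500) (.lf 0))) (.nd (.nd (.lf 205) (.lf 481)) (.nd (.lf 493) (.lf 0))))) (.nd (.nd (.nd (.nd (.lf 86) (.lf 575)) (.nd (.lf 459) (.lf 0))) (.nd (.nd (.lf 137) (.lf 715)) (.nd (.lf 607) (.lf 0)))) (.nd (.nd (.nd (.lf 201) (.lf 527)) (.nd (.lf 543) (.lf 0))) (.nd (.nd (.lf 389) (.lf 0)) (.nd (.lf 248) (.lf 0)))))) (.nd (.nd (.nd (.nd (.nd (.lf 55) (.lf 528)) (.nd (.lf 445) (.lf 0))) (.nd (.nd (.lf 278) (.lf 713)) (.nd (.lf 595) (.lf 0)))) (.nd (.nd (.nd (.lf 174) (.lf 352)) (.nd (.lf 22) (.lf 0))) (.nd (.nd (.lf 285) (.lf 0)) (.nd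 (.lf 531) (.lf 0))))) (.nd (.nd (.nd (.nd (.lf 118) (.lf 97)) (.nd (.lf 480) (.lf 0))) (.nd (.nd (.lf 329) (.lf 596)) (.nd (.lf 331) (.lf 0)))) (.nd (.nd (.nd (.lf 226) (.lf 709)) (.nd (.lf 465) (.lf 0))) (.nd (.nd (.lf 405) (.lf 0)) (.nd (.lf 652) (.lf 0))))))

/-- table part -/
def nxT_56 : Tr :=
  .nd nxT_54 nxT_55

/-- table part -/
def nxT_57 : Tr :=
  .nd (.nd (.nd (.nd (.nd (.nd (.lf 15) (.lf 372)) (.nd (.lf 220) (.lf 0))) (.nd (.nd (.lf 245) (.lf 617)) (.nd (.lf 574) (.lf 0)))) (.nd (.nd (.nd (.lf 141) (.lf 125)) (.nd (.lf 85) (.lf 0))) (.nd (.nd (.lf 251) (.lf 200)) (.nd (.lf 620) (.lf 0))))) (.nd (.nd (.nd (.nd (.lf 78) (.lf 678)) (.nd (.lf 428) (.lf 0))) (.nd (.nd (.lf 187) (.lf 668)) (.nd (.lf 604) (.lf 0)))) (.nd (.nd (.nd (.lf 194) (.lf 658)) (.nd (.lf 302) (.lf 0))) (.nd (.nd (.lf 384) (.lf 0)) (.nd (.lf 641) (.lf 0)))))) (.nd (.nd (.nd (.nd (.nd (.lf 47) (.lf 30)) (.nd (.lf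 197) (.lf 0))) (.nd (.nd (.lf 272) (.lf 379)) (.nd (.lf 68) (.lf 0)))) (.nd (.nd (.nd (.lf 167) (.lf 279)) (.nd (.lf 454) (.lf 0))) (.nd (.nd (.lf 366) (.lf 0)) (.nd (.lf 630) (.lf 0))))) (.nd (.nd (.nd (.nd (.lf 110) (.lf 70)) (.nd (.lf 472) (.lf 0))) (.nd (.nd (.lf 323) (.lf 62)) (.nd (.lf 615) (.lf 0)))) (.nd (.nd (.nd (.lf 219) (.lf 687)) (.nd (.lf 558) (.lf 0))) (.nd (.nd (.lf 399) (.lf 0)) (.nd (.lf 627) (.lf 0))))))

/-- table part -/
def nxT_58 : Tr :=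
  .nd (.nd (.nd (.nd (.nd (.nd (.lf 31) (.lf 665)) (.nd (.lf 430) (.lf 0))) (.nd (.nd (.lf 0) (.lf 168)) (.nd (.lf 463) (.lf 0)))) (.nd (.nd (.nd (.lf 60) (.lf 407)) (.nd (.lf 283) (.lf 0))) (.nd (.nd (.lf 349) (.lf 362)) (.nd (.lf 512) (.lf 0))))) (.nd (.nd (.nd (.nd (.lf 94) (.lf 230)) (.nd (.lf 464) (.lf 0))) (.nd (.nd (.lf 312) (.lf 38)) (.nd (.lf 609) (.lf 0)))) (.nd (.nd (.nd (.lf 72) (.lf 600)) (.nd (.lf 548) (.lf 0))) (.nd (.nd (.lf 291) (.lf 0)) (.nd (.lf 263) (.lf 0)))))) (.nd (.nd (.nd (.nd (.nd (.lf 63) (.lf 674)) (.nd (.lf 273) (.lf 0))) (.nd (.nd (.lf 286) (.lf 117)) (.nd (.lf 256) (.lf 0)))) (.nd (.nd (.nd (.lf 181) (.lf 156)) (.nd (.lf 526) (.lf 0))) (.nd (.nd (.lf 195) (.lf 0)) (.nd (.lf 258) (.lf 0))))) (.nd (.nd (.nd (.nd (.lf 126) (.lf 50)) (.nd (.lf 241) (.lf 0))) (.nd (.nd (.lf 99) (.lf 435)) (.nd (.lf 618) (.lf 0)))) (.nd (.nd (.nd (.lf 227) (.lf 711)) (.nd (.lf 269)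 (.lf 0))) (.nd (.nd (.lf 410) (.lf 0)) (.nd (.lf 643) (.lf 0))))))

/-- table part -/
def nxT_59 : Tr :=
  .nd nxT_57 nxT_58

/-- table part -/
def nxT_60 : Tr :=
  .nd nxT_56 nxT_59

/-- table part -/
def nxT_61 : Tr :=
  .nd nxT_53 nxT_60

/-- table part -/
def nxT_62 : Tr :=
  .nd nxT_46 nxT_61

/-- table part -/
def nxT_63 : Tr :=
  .nd nxT_31 nxT_62

/-- table -/
def nxT : Tr :=
  nxT_63

/-- table part -/
def pvT_1 : Tr :=
  .nd (.nd (.nd (.nd (.nd (.nd (.lf 0) (.lf 341)) (.nd (.lf 142) (.lf 0))) (.nd (.nd (.lf 70) (.lf 512)) (.nd (.lf 677) (.lf 0)))) (.nd (.nd (.nd (.lf 32) (.lf 394)) (.nd (.lf 182) (.lf 0))) (.nd (.nd (.lf 486) (.lf 615)) (.nd (.lf 288) (.lf 0))))) (.nd (.nd (.nd (.nd (.lf 16) (.lf 601)) (.nd (.lf 699) (.lf 0))) (.nd (.nd (.lf 83) (.lf 542)) (.nd (.lf 371) (.lf 0)))) (.nd (.nd (.nd (.lf 214) (.lf 599)) (.nd (.lf 208) (.lf 0))) (.nd (.nd (.lf 690) (.lf 0)) (.nd (.lf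 560) (.lf 0)))))) (.nd (.nd (.nd (.nd (.nd (.lf 8) (.lf 354)) (.nd (.lf 621) (.lf 0))) (.nd (.nd (.lf 376) (.lf 515)) (.nd (.lf 433) (.lf 0)))) (.nd (.nd (.nd (.lf 561) (.lf 698)) (.nd (.lf 193) (.lf 0))) (.nd (.nd (.lf 401) (.lf 0)) (.nd (.lf 382) (.lf 0))))) (.nd (.nd (.nd (.nd (.lf 24) (.lf 378)) (.nd (.lf 169) (.lf 0))) (.nd (.nd (.lf 280) (.lf 564)) (.nd (.lf 273) (.lf 0)))) (.nd (.nd (.nd (.lf 602) (.lf 464)) (.nd (.lf 521) (.lf 0))) (.nd (.nd (.lf 198) (.lf 0)) (.nd (.lf 669) (.lf 0))))))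

/-- table part -/
def pvT_2 : Tr :=
  .nd (.nd (.nd (.nd (.nd (.nd (.lf 4) (.lf 536)) (.nd (.lf 385) (.lf 0))) (.nd (.nd (.lf 686) (.lf 717)) (.nd (.lf 493) (.lf 0)))) (.nd (.nd (.nd (.lf 36) (.lf 402)) (.nd (.lf 187) (.lf 0))) (.nd (.nd (.lf 107) (.lf 697)) (.nd (.lf 595) (.lf 0))))) (.nd (.nd (.nd (.nd (.lf 20) (.lf 370)) (.nd (.lf 178) (.lf 0))) (.nd (.nd (.lf 88) (.lf 682)) (.nd (.lf 267) (.lf 0)))) (.nd (.nd (.nd (.lf 281) (.lf 440)) (.nd (.lf 212) (.lf 0))) (.nd (.nd (.lf 128) (.lf 0)) (.nd (.lf 411) (.lf 0)))))) (.nd (.nd (.nd (.nd (.nd (.lf 12) (.lf 359)) (.nd (.lf 255) (.lf 0))) (.nd (.nd (.lf 78) (.lf 527)) (.nd (.lf 254) (.lf 0)))) (.nd (.nd (.nd (.lf 373) (.lf 417)) (.nd (.lf 201) (.lf 0))) (.nd (.nd (.lf 450) (.lf 0)) (.nd (.lf 497) (.lf 0))))) (.nd (.nd (.nd (.nd (.lf 28) (.lf 387)) (.nd (.lf 226) (.lf 0))) (.nd (.nd (.lf 97) (.lf 580)) (.nd (.lf 278) (.lf 0)))) (.nd (.nd (.nd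 (.lf 194) (.lf 626)) (.nd (.lf 416) (.lf 0))) (.nd (.nd (.lf 137) (.lf 0)) (.nd (.lf 334) (.lf 0))))))

/-- table part -/
def pvT_3 : Tr :=
  .nd pvT_1 pvT_2

/-- table part -/
def pvT_4 : Tr :=
  .nd (.nd (.nd (.nd (.nd (.nd (.lf 2) (.lf 343)) (.nd (.lf 447) (.lf 0))) (.nd (.nd (.lf 454) (.lf 709)) (.nd (.lf 436) (.lf 0)))) (.nd (.nd (.nd (.lf 34) (.lf 398)) (.nd (.lf 184) (.lf 0))) (.nd (.nd (.lf 284) (.lf 634)) (.nd (.lf 293) (.lf 0))))) (.nd (.nd (.nd (.nd (.lf 18) (.lf 570)) (.nd (.lf 319) (.lf 0))) (.nd (.nd (.lf 85) (.lf 712)) (.nd (.lf 377) (.lf 0)))) (.nd (.nd (.nd (.lf 606) (.lf 482)) (.nd (.lf 210) (.lf 0))) (.nd (.nd (.lf 672) (.lf 0)) (.nd (.lf 429) (.lf 0)))))) (.nd (.nd (.nd (.nd (.nd (.lf 10) (.lf 578)) (.nd (.lf 706) (.lf 0))) (.nd (.nd (.lf 76) (.lf 678)) (.nd (.lf 443) (.lf 0)))) (.nd (.nd (.nd (.lf 593) (.lf 413)) (.nd (.lf 271) (.lf 0))) (.nd (.nd (.lf 426) (.lf 0)) (.nd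 (.lf 476) (.lf 0))))) (.nd (.nd (.nd (.nd (.lf 26) (.lf 530)) (.nd (.lf 172) (.lf 0))) (.nd (.nd (.lf 495) (.lf 658)) (.nd (.lf 701) (.lf 0)))) (.nd (.nd (.nd (.lf 286) (.lf 641)) (.nd (.lf 222) (.lf 0))) (.nd (.nd (.lf 135) (.lf 0)) (.nd (.lf 637) (.lf 0))))))

/-- table part -/
def pvT_5 : Tr :=
  .nd (.nd (.nd (.nd (.nd (.nd (.lf 6) (.lf 438)) (.nd (.lf 265) (.lf 0))) (.nd (.nd (.lf 71) (.lf 534)) (.nd (.lf 331) (.lf 0)))) (.nd (.nd (.nd (.lf 38) (.lf 405)) (.nd (.lf 421) (.lf 0))) (.nd (.nd (.lf 692) (.lf 707)) (.nd (.lf 300) (.lf 0))))) (.nd (.nd (.nd (.nd (.lf 22) (.lf 374)) (.nd (.lf 291) (.lf 0))) (.nd (.nd (.lf 240) (.lf 558)) (.nd (.lf 270) (.lf 0)))) (.nd (.nd (.nd (.lf 453) (.lf 473)) (.nd (.lf 350) (.lf 0))) (.nd (.nd (.lf 130) (.lf 0)) (.nd (.lf 675) (.lf 0)))))) (.nd (.nd (.nd (.nd (.nd (.lf 14) (.lf 362)) (.nd (.lf 491) (.lf 0))) (.nd (.nd (.lf 81) (.lf 533)) (.nd (.lf 268)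 (.lf 0)))) (.nd (.nd (.nd (.lf 189) (.lf 657)) (.nd (.lf 384) (.lf 0))) (.nd (.nd (.lf 120) (.lf 0)) (.nd (.lf 710) (.lf 0))))) (.nd (.nd (.nd (.nd (.lf 30) (.lf 503)) (.nd (.lf 179) (.lf 0))) (.nd (.nd (.lf 299) (.lf 592)) (.nd (.lf 283) (.lf 0)))) (.nd (.nd (.nd (.lf 623) (.lf 480)) (.nd (.lf 465) (.lf 0))) (.nd (.nd (.lf 662) (.lf 0)) (.nd (.lf 338) (.lf 0))))))

/-- table part -/
def pvT_6 : Tr :=
  .nd pvT_4 pvT_5

/-- table part -/
def pvT_7 : Tr :=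
  .nd pvT_3 pvT_6

/-- table part -/
def pvT_8 : Tr :=
  .nd (.nd (.nd (.nd (.nd (.nd (.lf 1) (.lf 342)) (.nd (.lf 143) (.lf 0))) (.nd (.nd (.lf 289) (.lf 694)) (.nd (.lf 492) (.lf 0)))) (.nd (.nd (.nd (.lf 33) (.lf 397)) (.nd (.lf 183) (.lf 0))) (.nd (.nd (.lf 425) (.lf 627)) (.nd (.lf 292) (.lf 0))))) (.nd (.nd (.nd (.nd (.lf 17) (.lf 548)) (.nd (.lf 579) (.lf 0))) (.nd (.nd (.lf 84) (.lf 642)) (.nd (.lf 349) (.lf 0)))) (.nd (.nd (.nd (.lf 228) (.lf 457)) (.nd (.lf 209) (.lf 0))) (.nd (.nd (.lf 538) (.lf 0)) (.nd (.lf 510) (.lf 0)))))) (.nd (.nd (.nd (.nd (.nd (.lf 9) (.lf 355)) (.nd (.lf 197) (.lf 0))) (.nd (.nd (.lf 75) (.lf 522)) (.nd (.lf 439) (.lf 0)))) (.nd (.nd (.nd (.lf 73) (.lf 477)) (.nd (.lf 195) (.lf 0))) (.nd (.nd (.lf 118) (.lf 0)) (.nd (.lf 545) (.lf 0))))) (.nd (.nd (.nd (.nd (.lf 25) (.lf 508)) (.nd (.lf 531) (.lf 0))) (.nd (.nd (.lf 572) (.lf 573)) (.nd (.lf 481) (.lf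 0)))) (.nd (.nd (.nd (.lf 584) (.lf 651)) (.nd (.lf 220) (.lf 0))) (.nd (.nd (.lf 239) (.lf 0)) (.nd (.lf 328) (.lf 0))))))

/-- table part -/
def pvT_9 : Tr :=
  .nd (.nd (.nd (.nd (.nd (.nd (.lf 5) (.lf 348)) (.nd (.lf 460) (.lf 0))) (.nd (.nd (.lf 147) (.lf 501)) (.nd (.lf 294) (.lf 0)))) (.nd (.nd (.nd (.lf 37) (.lf 403)) (.nd (.lf 188) (.lf 0))) (.nd (.nd (.lf 108) (.lf 653)) (.nd (.lf 695) (.lf 0))))) (.nd (.nd (.nd (.nd (.lf 21) (.lf 647)) (.nd (.lf 652) (.lf 0))) (.nd (.nd (.lf 89) (.lf 556)) (.nd (.lf 546) (.lf 0)))) (.nd (.nd (.nd (.lf 245) (.lf 518)) (.nd (.lf 213) (.lf 0))) (.nd (.nd (.lf 129) (.lf 0)) (.nd (.lf 364) (.lf 0)))))) (.nd (.nd (.nd (.nd (.nd (.lf 13) (.lf 691)) (.nd (.lf 241) (.lf 0))) (.nd (.nd (.lf 79) (.lf 628)) (.nd (.lf 430) (.lf 0)))) (.nd (.nd (.nd (.lf 219) (.lf 419)) (.nd (.lf 203) (.lf 0))) (.nd (.nd (.lf 119) (.lf 0)) (.nd (.lf 582) (.lf 0))))) (.nd (.nd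 (.nd (.nd (.lf 29) (.lf 389)) (.nd (.lf 177) (.lf 0))) (.nd (.nd (.lf 306) (.lf 590)) (.nd (.lf 611) (.lf 0)))) (.nd (.nd (.nd (.lf 262) (.lf 640)) (.nd (.lf 517) (.lf 0))) (.nd (.nd (.lf 598) (.lf 0)) (.nd (.lf 337) (.lf 0))))))

/-- table part -/
def pvT_10 : Tr :=
  .nd pvT_8 pvT_9

/-- table part -/
def pvT_11 : Tr :=
  .nd (.nd (.nd (.nd (.nd (.nd (.lf 3) (.lf 588)) (.nd (.lf 511) (.lf 0))) (.nd (.nd (.lf 704) (.lf 563)) (.nd (.lf 236) (.lf 0)))) (.nd (.nd (.nd (.lf 35) (.lf 631)) (.nd (.lf 603) (.lf 0))) (.nd (.nd (.lf 138) (.lf 661)) (.nd (.lf 296) (.lf 0))))) (.nd (.nd (.nd (.nd (.lf 19) (.lf 369)) (.nd (.lf 379) (.lf 0))) (.nd (.nd (.lf 87) (.lf 616)) (.nd (.lf 266) (.lf 0)))) (.nd (.nd (.nd (.lf 102) (.lf 474)) (.nd (.lf 211) (.lf 0))) (.nd (.nd (.lf 126) (.lf 0)) (.nd (.lf 624) (.lf 0)))))) (.nd (.nd (.nd (.nd (.nd (.lf 11) (.lf 358)) (.nd (.lf 225) (.lf 0))) (.nd (.nd (.lf 77)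 (.lf 525)) (.nd (.lf 329) (.lf 0)))) (.nd (.nd (.nd (.lf 566) (.lf 428)) (.nd (.lf 200) (.lf 0))) (.nd (.nd (.lf 116) (.lf 0)) (.nd (.lf 309) (.lf 0))))) (.nd (.nd (.nd (.nd (.lf 27) (.lf 585)) (.nd (.lf 644) (.lf 0))) (.nd (.nd (.lf 96) (.lf 617)) (.nd (.lf 277) (.lf 0)))) (.nd (.nd (.nd (.lf 519) (.lf 550)) (.nd (.lf 223) (.lf 0))) (.nd (.nd (.lf 136) (.lf 0)) (.nd (.lf 532) (.lf 0))))))

/-- table part -/
def pvT_12 : Tr :=
  .nd (.nd (.nd (.nd (.nd (.nd (.lf 7) (.lf 502)) (.nd (.lf 659) (.lf 0))) (.nd (.nd (.lf 72) (.lf 719)) (.nd (.lf 247) (.lf 0)))) (.nd (.nd (.nd (.lf 248) (.lf 407)) (.nd (.lf 192) (.lf 0))) (.nd (.nd (.lf 311) (.lf 718)) (.nd (.lf 684) (.lf 0))))) (.nd (.nd (.nd (.nd (.lf 23) (.lf 693)) (.nd (.lf 168) (.lf 0))) (.nd (.nd (.lf 688) (.lf 635)) (.nd (.lf 461) (.lf 0)))) (.nd (.nd (.nd (.lf 80) (.lf 484)) (.nd (.lf 427) (.lf 0))) (.nd (.nd (.lf 583) (.lf 0)) (.nd (.lf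 535) (.lf 0)))))) (.nd (.nd (.nd (.nd (.nd (.lf 15) (.lf 363)) (.nd (.lf 705) (.lf 0))) (.nd (.nd (.lf 82) (.lf 537)) (.nd (.lf 258) (.lf 0)))) (.nd (.nd (.nd (.lf 115) (.lf 544)) (.nd (.lf 612) (.lf 0))) (.nd (.nd (.lf 121) (.lf 0)) (.nd (.lf 415) (.lf 0))))) (.nd (.nd (.nd (.nd (.lf 31) (.lf 649)) (.nd (.lf 180) (.lf 0))) (.nd (.nd (.lf 260) (.lf 660)) (.nd (.lf 636) (.lf 0)))) (.nd (.nd (.nd (.lf 424) (.lf 605)) (.nd (.lf 618) (.lf 0))) (.nd (.nd (.lf 654) (.lf 0)) (.nd (.lf 423) (.lf 0))))))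

/-- table part -/
def pvT_13 : Tr :=
  .nd pvT_11 pvT_12

/-- table part -/
def pvT_14 : Tr :=
  .nd pvT_10 pvT_13

/-- table part -/
def pvT_15 : Tr :=
  .nd pvT_7 pvT_14

/-- table part -/
def pvT_16 : Tr :=
  .nd (.nd (.nd (.nd (.nd (.nd (.lf 565) (.lf 539)) (.nd (.lf 442) (.lf 0))) (.nd (.nd (.lf 65) (.lf 681)) (.nd (.lf 233) (.lf 0)))) (.nd (.nd (.nd (.lf 620) (.lf 432)) (.nd (.lf 336) (.lf 0))) (.nd (.nd (.lf 103) (.lf 619)) (.nd (.lf 505) (.lf 0))))) (.nd (.nd (.nd (.nd (.lf 263) (.lf 365)) (.nd (.lf 161) (.lf 0))) (.nd (.nd (.lf 285) (.lf 543)) (.nd (.lf 261) (.lf 0)))) (.nd (.nd (.nd (.lf 49) (.lf 575)) (.nd (.lf 489) (.lf 0))) (.nd (.nd (.lf 123) (.lf 0)) (.nd (.lf 316) (.lf 0)))))) (.nd (.nd (.nd (.nd (.nd (.lf 106) (.lf 463)) (.nd (.lf 152) (.lf 0))) (.nd (.nd (.lf 230) (.lf 516)) (.nd (.lf 249) (.lf 0)))) (.nd (.nd (.nd (.lf 41) (.lf 409)) (.nd (.lf 471) (.lf 0))) (.nd (.nd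 (.lf 113) (.lf 0)) (.nd (.lf 304) (.lf 0))))) (.nd (.nd (.nd (.nd (.lf 638) (.lf 380)) (.nd (.lf 567) (.lf 0))) (.nd (.nd (.lf 93) (.lf 703)) (.nd (.lf 274) (.lf 0)))) (.nd (.nd (.nd (.lf 57) (.lf 571)) (.nd (.lf 218) (.lf 0))) (.nd (.nd (.lf 133) (.lf 0)) (.nd (.lf 327) (.lf 0))))))

/-- table part -/
def pvT_17 : Tr :=
  .nd (.nd (.nd (.nd (.nd (.nd (.lf 134) (.lf 347)) (.nd (.lf 586) (.lf 0))) (.nd (.nd (.lf 69) (.lf 499)) (.nd (.lf 242) (.lf 0)))) (.nd (.nd (.nd (.lf 95) (.lf 528)) (.nd (.lf 600) (.lf 0))) (.nd (.nd (.lf 112) (.lf 648)) (.nd (.lf 298) (.lf 0))))) (.nd (.nd (.nd (.nd (.lf 74) (.lf 466)) (.nd (.lf 165) (.lf 0))) (.nd (.nd (.lf 639) (.lf 553)) (.nd (.lf 448) (.lf 0)))) (.nd (.nd (.nd (.lf 53) (.lf 441)) (.nd (.lf 435) (.lf 0))) (.nd (.nd (.lf 399) (.lf 0)) (.nd (.lf 322) (.lf 0)))))) (.nd (.nd (.nd (.nd (.nd (.lf 632) (.lf 360)) (.nd (.lf 157) (.lf 0))) (.nd (.nd (.lf 238)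 (.lf 529)) (.nd (.lf 326) (.lf 0)))) (.nd (.nd (.nd (.lf 45) (.lf 418)) (.nd (.lf 202) (.lf 0))) (.nd (.nd (.lf 458) (.lf 0)) (.nd (.lf 312) (.lf 0))))) (.nd (.nd (.nd (.nd (.lf 455) (.lf 388)) (.nd (.lf 176) (.lf 0))) (.nd (.nd (.lf 98) (.lf 685)) (.nd (.lf 279) (.lf 0)))) (.nd (.nd (.nd (.lf 61) (.lf 680)) (.nd (.lf 308) (.lf 0))) (.nd (.nd (.lf 335) (.lf 0)) (.nd (.lf 487) (.lf 0))))))

/-- table part -/
def pvT_18 : Tr :=
  .nd pvT_16 pvT_17

/-- table part -/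
def pvT_19 : Tr :=
  .nd (.nd (.nd (.nd (.nd (.nd (.lf 101) (.lf 344)) (.nd (.lf 145) (.lf 0))) (.nd (.nd (.lf 67) (.lf 494)) (.nd (.lf 305) (.lf 0)))) (.nd (.nd (.nd (.lf 217) (.lf 400)) (.nd (.lf 185) (.lf 0))) (.nd (.nd (.lf 105) (.lf 676)) (.nd (.lf 295) (.lf 0))))) (.nd (.nd (.nd (.nd (.lf 674) (.lf 368)) (.nd (.lf 163) (.lf 0))) (.nd (.nd (.lf 86) (.lf 549)) (.nd (.lf 591) (.lf 0)))) (.nd (.nd (.nd (.lf 51) (.lf 496)) (.nd (.lf 310) (.lf 0))) (.nd (.nd (.lf 229) (.lf 0)) (.nd (.lf 318) (.lf 0)))))) (.nd (.nd (.nd (.nd (.nd (.lf 547) (.lf 357)) (.nd (.lf 155) (.lf 0))) (.nd (.nd (.lf 406) (.lf 524)) (.nd (.lf 504) (.lf 0)))) (.nd (.nd (.nd (.lf 43) (.lf 451)) (.nd (.lf 199) (.lf 0))) (.nd (.nd (.lf 509) (.lf 0)) (.nd (.lf 307) (.lf 0))))) (.nd (.nd (.nd (.nd (.lf 340) (.lf 383)) (.nd (.lf 173) (.lf 0))) (.nd (.nd (.lf 716) (.lf 576)) (.nd (.lf 470) (.lf 0)))) (.nd (.nd (.nd (.lf 59)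 (.lf 469)) (.nd (.lf 671) (.lf 0))) (.nd (.nd (.lf 645) (.lf 0)) (.nd (.lf 332) (.lf 0))))))

/-- table part -/
def pvT_20 : Tr :=
  .nd (.nd (.nd (.nd (.nd (.nd (.lf 604) (.lf 351)) (.nd (.lf 150) (.lf 0))) (.nd (.nd (.lf 148) (.lf 650)) (.nd (.lf 246) (.lf 0)))) (.nd (.nd (.nd (.lf 39) (.lf 679)) (.nd (.lf 191) (.lf 0))) (.nd (.nd (.lf 110) (.lf 696)) (.nd (.lf 301) (.lf 0))))) (.nd (.nd (.nd (.nd (.lf 629) (.lf 375)) (.nd (.lf 167) (.lf 0))) (.nd (.nd (.lf 91) (.lf 559)) (.nd (.lf 608) (.lf 0)))) (.nd (.nd (.nd (.lf 55) (.lf 456)) (.nd (.lf 215) (.lf 0))) (.nd (.nd (.lf 131) (.lf 0)) (.nd (.lf 324) (.lf 0)))))) (.nd (.nd (.nd (.nd (.nd (.lf 257) (.lf 396)) (.nd (.lf 159) (.lf 0))) (.nd (.nd (.lf 646) (.lf 700)) (.nd (.lf 551) (.lf 0)))) (.nd (.nd (.nd (.lf 47) (.lf 663)) (.nd (.lf 206) (.lf 0))) (.nd (.nd (.lf 445) (.lf 0)) (.nd (.lf 314) (.lf 0))))) (.nd (.nd (.nd (.nd (.lf 170) (.lf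 391)) (.nd (.lf 205) (.lf 0))) (.nd (.nd (.lf 100) (.lf 596)) (.nd (.lf 665) (.lf 0)))) (.nd (.nd (.nd (.lf 63) (.lf 713)) (.nd (.lf 687) (.lf 0))) (.nd (.nd (.lf 140) (.lf 0)) (.nd (.lf 339) (.lf 0))))))

/-- table part -/
def pvT_21 : Tr :=
  .nd pvT_19 pvT_20

/-- table part -/
def pvT_22 : Tr :=
  .nd pvT_18 pvT_21

/-- table part -/
def pvT_23 : Tr :=
  .nd (.nd (.nd (.nd (.nd (.nd (.lf 444) (.lf 366)) (.nd (.lf 144) (.lf 0))) (.nd (.nd (.lf 66) (.lf 490)) (.nd (.lf 234) (.lf 0)))) (.nd (.nd (.nd (.lf 520) (.lf 404)) (.nd (.lf 232) (.lf 0))) (.nd (.nd (.lf 104) (.lf 630)) (.nd (.lf 500) (.lf 0))))) (.nd (.nd (.nd (.nd (.lf 414) (.lf 367)) (.nd (.lf 162) (.lf 0))) (.nd (.nd (.lf 420) (.lf 643)) (.nd (.lf 446) (.lf 0)))) (.nd (.nd (.nd (.lf 50) (.lf 434)) (.nd (.lf 514) (.lf 0))) (.nd (.nd (.lf 124) (.lf 0)) (.nd (.lf 317) (.lf 0)))))) (.nd (.nd (.nd (.nd (.nd (.lf 507) (.lf 356)) (.nd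 (.lf 154) (.lf 0))) (.nd (.nd (.lf 452) (.lf 523)) (.nd (.lf 250) (.lf 0)))) (.nd (.nd (.nd (.lf 42) (.lf 673)) (.nd (.lf 269) (.lf 0))) (.nd (.nd (.lf 114) (.lf 0)) (.nd (.lf 345) (.lf 0))))) (.nd (.nd (.nd (.nd (.lf 361) (.lf 381)) (.nd (.lf 171) (.lf 0))) (.nd (.nd (.lf 94) (.lf 568)) (.nd (.lf 275) (.lf 0)))) (.nd (.nd (.nd (.lf 58) (.lf 468)) (.nd (.lf 221) (.lf 0))) (.nd (.nd (.lf 252) (.lf 0)) (.nd (.lf 330) (.lf 0))))))

/-- table part -/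
def pvT_24 : Tr :=
  .nd (.nd (.nd (.nd (.nd (.nd (.lf 574) (.lf 412)) (.nd (.lf 149) (.lf 0))) (.nd (.nd (.lf 625) (.lf 554)) (.nd (.lf 244) (.lf 0)))) (.nd (.nd (.nd (.lf 353) (.lf 569)) (.nd (.lf 190) (.lf 0))) (.nd (.nd (.lf 109) (.lf 655)) (.nd (.lf 702) (.lf 0))))) (.nd (.nd (.nd (.nd (.lf 90) (.lf 689)) (.nd (.lf 166) (.lf 0))) (.nd (.nd (.lf 372) (.lf 708)) (.nd (.lf 437) (.lf 0)))) (.nd (.nd (.nd (.lf 54) (.lf 449)) (.nd (.lf 485) (.lf 0))) (.nd (.nd (.lf 235) (.lf 0)) (.nd (.lf 323) (.lf 0)))))) (.nd (.nd (.nd (.nd (.nd (.lf 174) (.lf 431)) (.nd (.lf 158) (.lf 0))) (.nd (.nd (.lf 276) (.lf 581)) (.nd (.lf 256) (.lf 0)))) (.nd (.nd (.nd (.lf 46) (.lf 422)) (.nd (.lf 204) (.lf 0))) (.nd (.nd (.lf 467) (.lf 0)) (.nd (.lf 313) (.lf 0))))) (.nd (.nd (.nd (.nd (.lf 666) (.lf 390)) (.nd (.lf 526) (.lf 0))) (.nd (.nd (.lf 99) (.lf 589)) (.nd (.lf 282) (.lf 0)))) (.nd (.nd (.nd (.lf 62)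 (.lf 479)) (.nd (.lf 227) (.lf 0))) (.nd (.nd (.lf 139) (.lf 0)) (.nd (.lf 475) (.lf 0))))))

/-- table part -/
def pvT_25 : Tr :=
  .nd pvT_23 pvT_24

/-- table part -/
def pvT_26 : Tr :=
  .nd (.nd (.nd (.nd (.nd (.nd (.lf 243) (.lf 346)) (.nd (.lf 146) (.lf 0))) (.nd (.nd (.lf 68) (.lf 498)) (.nd (.lf 622) (.lf 0)))) (.nd (.nd (.nd (.lf 613) (.lf 711)) (.nd (.lf 264) (.lf 0))) (.nd (.nd (.lf 153) (.lf 683)) (.nd (.lf 297) (.lf 0))))) (.nd (.nd (.nd (.nd (.lf 125) (.lf 506)) (.nd (.lf 164) (.lf 0))) (.nd (.nd (.lf 594) (.lf 552)) (.nd (.lf 386) (.lf 0)))) (.nd (.nd (.nd (.lf 52) (.lf 488)) (.nd (.lf 290) (.lf 0))) (.nd (.nd (.lf 127) (.lf 0)) (.nd (.lf 320) (.lf 0)))))) (.nd (.nd (.nd (.nd (.nd (.lf 656) (.lf 395)) (.nd (.lf 156) (.lf 0))) (.nd (.nd (.lf 667) (.lf 609)) (.nd (.lf 253) (.lf 0)))) (.nd (.nd (.nd (.lf 44) (.lf 557)) (.nd (.lf 321) (.lf 0))) (.nd (.nd (.lf 117) (.lf 0)) (.nd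 (.lf 587) (.lf 0))))) (.nd (.nd (.nd (.nd (.lf 186) (.lf 670)) (.nd (.lf 175) (.lf 0))) (.nd (.nd (.lf 237) (.lf 577)) (.nd (.lf 610) (.lf 0)))) (.nd (.nd (.nd (.lf 60) (.lf 472)) (.nd (.lf 224) (.lf 0))) (.nd (.nd (.lf 597) (.lf 0)) (.nd (.lf 333) (.lf 0))))))

/-- table part -/
def pvT_27 : Tr :=
  .nd (.nd (.nd (.nd (.nd (.nd (.lf 181) (.lf 352)) (.nd (.lf 151) (.lf 0))) (.nd (.nd (.lf 196) (.lf 513)) (.nd (.lf 614) (.lf 0)))) (.nd (.nd (.nd (.lf 40) (.lf 408)) (.nd (.lf 555) (.lf 0))) (.nd (.nd (.lf 111) (.lf 714)) (.nd (.lf 303) (.lf 0))))) (.nd (.nd (.nd (.nd (.lf 410) (.lf 668)) (.nd (.lf 259) (.lf 0))) (.nd (.nd (.lf 92) (.lf 562)) (.nd (.lf 272) (.lf 0)))) (.nd (.nd (.nd (.lf 56) (.lf 462)) (.nd (.lf 216) (.lf 0))) (.nd (.nd (.lf 132) (.lf 0)) (.nd (.lf 325) (.lf 0)))))) (.nd (.nd (.nd (.nd (.nd (.lf 459) (.lf 715)) (.nd (.lf 160) (.lf 0))) (.nd (.nd (.lf 251) (.lf 541)) (.nd (.lf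 633) (.lf 0)))) (.nd (.nd (.nd (.lf 48) (.lf 664)) (.nd (.lf 207) (.lf 0))) (.nd (.nd (.lf 122) (.lf 0)) (.nd (.lf 315) (.lf 0))))) (.nd (.nd (.nd (.nd (.lf 540) (.lf 392)) (.nd (.lf 287) (.lf 0))) (.nd (.nd (.lf 393) (.lf 607)) (.nd (.lf 302) (.lf 0)))) (.nd (.nd (.nd (.lf 64) (.lf 483)) (.nd (.lf 231) (.lf 0))) (.nd (.nd (.lf 141) (.lf 0)) (.nd (.lf 478) (.lf 0))))))

/-- table part -/
def pvT_28 : Tr :=
  .nd pvT_26 pvT_27

/-- table part -/
def pvT_29 : Tr :=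
  .nd pvT_25 pvT_28

/-- table part -/
def pvT_30 : Tr :=
  .nd pvT_22 pvT_29

/-- table part -/
def pvT_31 : Tr :=
  .nd pvT_15 pvT_30

/-- table part -/
def pvT_32 : Tr :=
  .nd (.nd (.nd (.nd (.nd (.nd (.lf 143) (.lf 463)) (.nd (.lf 415) (.lf 0))) (.nd (.nd (.lf 64) (.lf 485)) (.nd (.lf 231) (.lf 0)))) (.nd (.nd (.nd (.lf 506) (.lf 518)) (.nd (.lf 681) (.lf 0))) (.nd (.nd (.lf 102) (.lf 675)) (.nd (.lf 484) (.lf 0))))) (.nd (.nd (.nd (.nd (.lf 445) (.lf 364)) (.nd (.lf 160) (.lf 0))) (.nd (.nd (.lf 291) (.lf 549)) (.nd (.lf 259) (.lf 0)))) (.nd (.nd (.nd (.lf 48) (.lf 430)) (.nd (.lf 603) (.lf 0))) (.nd (.nd (.lf 122) (.lf 0)) (.nd (.lf 315) (.lf 0)))))) (.nd (.nd (.nd (.nd (.nd (.lf 197) (.lf 539)) (.nd (.lf 151) (.lf 0))) (.nd (.nd (.lf 73) (.lf 686)) (.nd (.lf 248) (.lf 0)))) (.nd (.nd (.nd (.lf 40) (.lf 408)) (.nd (.lf 516) (.lf 0))) (.nd (.nd (.lf 112) (.lf 0)) (.nd (.lf 303) (.lf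 0))))) (.nd (.nd (.nd (.nd (.lf 653) (.lf 446)) (.nd (.lf 613) (.lf 0))) (.nd (.nd (.lf 92) (.lf 701)) (.nd (.lf 674) (.lf 0)))) (.nd (.nd (.nd (.lf 56) (.lf 614)) (.nd (.lf 217) (.lf 0))) (.nd (.nd (.lf 132) (.lf 0)) (.nd (.lf 326) (.lf 0))))))

/-- table part -/
def pvT_33 : Tr :=
  .nd (.nd (.nd (.nd (.nd (.nd (.lf 329) (.lf 346)) (.nd (.lf 146) (.lf 0))) (.nd (.nd (.lf 68) (.lf 498)) (.nd (.lf 238) (.lf 0)))) (.nd (.nd (.nd (.lf 111) (.lf 525)) (.nd (.lf 652) (.lf 0))) (.nd (.nd (.lf 711) (.lf 645)) (.nd (.lf 297) (.lf 0))))) (.nd (.nd (.nd (.nd (.lf 618) (.lf 448)) (.nd (.lf 164) (.lf 0))) (.nd (.nd (.lf 655) (.lf 552)) (.nd (.lf 466) (.lf 0)))) (.nd (.nd (.nd (.lf 52) (.lf 718)) (.nd (.lf 296) (.lf 0))) (.nd (.nd (.lf 382) (.lf 0)) (.nd (.lf 321) (.lf 0)))))) (.nd (.nd (.nd (.nd (.nd (.lf 529) (.lf 371)) (.nd (.lf 156) (.lf 0))) (.nd (.nd (.lf 220) (.lf 632)) (.nd (.lf 418) (.lf 0))))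 (.nd (.nd (.nd (.lf 44) (.lf 623)) (.nd (.lf 689) (.lf 0))) (.nd (.nd (.lf 117) (.lf 0)) (.nd (.lf 311) (.lf 0))))) (.nd (.nd (.nd (.nd (.lf 680) (.lf 469)) (.nd (.lf 175) (.lf 0))) (.nd (.nd (.lf 216) (.lf 612)) (.nd (.lf 643) (.lf 0)))) (.nd (.nd (.nd (.lf 60) (.lf 472)) (.nd (.lf 224) (.lf 0))) (.nd (.nd (.lf 491) (.lf 0)) (.nd (.lf 433) (.lf 0))))))

/-- table part -/
def pvT_34 : Tr :=
  .nd pvT_32 pvT_33

/-- table part -/
def pvT_35 : Tr :=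
  .nd (.nd (.nd (.nd (.nd (.nd (.lf 330) (.lf 435)) (.nd (.lf 144) (.lf 0))) (.nd (.nd (.lf 66) (.lf 490)) (.nd (.lf 234) (.lf 0)))) (.nd (.nd (.nd (.lf 407) (.lf 464)) (.nd (.lf 476) (.lf 0))) (.nd (.nd (.lf 104) (.lf 646)) (.nd (.lf 428) (.lf 0))))) (.nd (.nd (.nd (.nd (.lf 180) (.lf 367)) (.nd (.lf 162) (.lf 0))) (.nd (.nd (.lf 515) (.lf 548)) (.nd (.lf 264) (.lf 0)))) (.nd (.nd (.nd (.lf 50) (.lf 434)) (.nd (.lf 289) (.lf 0))) (.nd (.nd (.lf 124) (.lf 0)) (.nd (.lf 317) (.lf 0)))))) (.nd (.nd (.nd (.nd (.nd (.lf 278) (.lf 356)) (.nd (.lf 154) (.lf 0))) (.nd (.nd (.lf 404) (.lf 523)) (.nd (.lf 250) (.lf 0)))) (.nd (.nd (.nd (.lf 42) (.lf 699)) (.nd (.lf 198) (.lf 0))) (.nd (.nd (.lf 114) (.lf 0)) (.nd (.lf 306) (.lf 0))))) (.nd (.nd (.nd (.nd (.lf 355) (.lf 381)) (.nd (.lf 308) (.lf 0))) (.nd (.nd (.lf 94) (.lf 574)) (.nd (.lf 275) (.lf 0)))) (.nd (.nd (.nd (.lf 58) (.lf 468)) (.nd (.lf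 519) (.lf 0))) (.nd (.nd (.lf 272) (.lf 0)) (.nd (.lf 331) (.lf 0))))))

/-- table part -/
def pvT_36 : Tr :=
  .nd (.nd (.nd (.nd (.nd (.nd (.lf 130) (.lf 349)) (.nd (.lf 149) (.lf 0))) (.nd (.nd (.lf 116) (.lf 507)) (.nd (.lf 245) (.lf 0)))) (.nd (.nd (.nd (.lf 534) (.lf 700)) (.nd (.lf 190) (.lf 0))) (.nd (.nd (.lf 109) (.lf 688)) (.nd (.lf 556) (.lf 0))))) (.nd (.nd (.nd (.nd (.lf 300) (.lf 392)) (.nd (.lf 166) (.lf 0))) (.nd (.nd (.lf 90) (.lf 570)) (.nd (.lf 295) (.lf 0)))) (.nd (.nd (.nd (.lf 54) (.lf 455)) (.nd (.lf 214) (.lf 0))) (.nd (.nd (.lf 365) (.lf 0)) (.nd (.lf 323) (.lf 0)))))) (.nd (.nd (.nd (.nd (.nd (.lf 616) (.lf 514)) (.nd (.lf 158) (.lf 0))) (.nd (.nd (.lf 607) (.lf 679)) (.nd (.lf 256) (.lf 0)))) (.nd (.nd (.nd (.lf 46) (.lf 423)) (.nd (.lf 205) (.lf 0))) (.nd (.nd (.lf 263) (.lf 0)) (.nd (.lf 313) (.lf 0))))) (.nd (.nd (.nd (.nd (.lf 79) (.lf 390)) (.nd (.lf 585)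 (.lf 0))) (.nd (.nd (.lf 99) (.lf 656)) (.nd (.lf 569) (.lf 0)))) (.nd (.nd (.nd (.lf 62) (.lf 664)) (.nd (.lf 228) (.lf 0))) (.nd (.nd (.lf 139) (.lf 0)) (.nd (.lf 419) (.lf 0))))))

/-- table part -/
def pvT_37 : Tr :=
  .nd pvT_35 pvT_36

/-- table part -/
def pvT_38 : Tr :=
  .nd pvT_34 pvT_37

/-- table part -/
def pvT_39 : Tr :=
  .nd (.nd (.nd (.nd (.nd (.nd (.lf 260) (.lf 712)) (.nd (.lf 479) (.lf 0))) (.nd (.nd (.lf 65) (.lf 488)) (.nd (.lf 233) (.lf 0)))) (.nd (.nd (.nd (.lf 357) (.lf 406)) (.nd (.lf 290) (.lf 0))) (.nd (.nd (.lf 103) (.lf 659)) (.nd (.lf 621) (.lf 0))))) (.nd (.nd (.nd (.nd (.lf 293) (.lf 366)) (.nd (.lf 161) (.lf 0))) (.nd (.nd (.lf 97) (.lf 543)) (.nd (.lf 261) (.lf 0)))) (.nd (.nd (.nd (.lf 49) (.lf 432)) (.nd (.lf 396) (.lf 0))) (.nd (.nd (.lf 123) (.lf 0)) (.nd (.lf 316) (.lf 0)))))) (.nd (.nd (.nd (.nd (.nd (.lf 38) (.lf 478)) (.nd (.lf 153) (.lf 0))) (.nd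 (.nd (.lf 412) (.lf 615)) (.nd (.lf 249) (.lf 0)))) (.nd (.nd (.nd (.lf 41) (.lf 410)) (.nd (.lf 236) (.lf 0))) (.nd (.nd (.lf 113) (.lf 0)) (.nd (.lf 304) (.lf 0))))) (.nd (.nd (.nd (.nd (.lf 575) (.lf 380)) (.nd (.lf 170) (.lf 0))) (.nd (.nd (.lf 93) (.lf 566)) (.nd (.lf 274) (.lf 0)))) (.nd (.nd (.nd (.lf 57) (.lf 467)) (.nd (.lf 493) (.lf 0))) (.nd (.nd (.lf 133) (.lf 0)) (.nd (.lf 707) (.lf 0))))))

/-- table part -/
def pvT_40 : Tr :=
  .nd (.nd (.nd (.nd (.nd (.nd (.lf 589) (.lf 452)) (.nd (.lf 148) (.lf 0))) (.nd (.nd (.lf 69) (.lf 650)) (.nd (.lf 243) (.lf 0)))) (.nd (.nd (.nd (.lf 492) (.lf 665)) (.nd (.lf 696) (.lf 0))) (.nd (.nd (.lf 302) (.lf 661)) (.nd (.lf 298) (.lf 0))))) (.nd (.nd (.nd (.nd (.lf 176) (.lf 372)) (.nd (.lf 165) (.lf 0))) (.nd (.nd (.lf 441) (.lf 629)) (.nd (.lf 268) (.lf 0)))) (.nd (.nd (.nd (.lf 53) (.lf 447)) (.nd (.lf 719) (.lf 0))) (.nd (.nd (.lf 345) (.lf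 0)) (.nd (.lf 322) (.lf 0)))))) (.nd (.nd (.nd (.nd (.nd (.lf 86) (.lf 360)) (.nd (.lf 157) (.lf 0))) (.nd (.nd (.lf 531) (.lf 528)) (.nd (.lf 255) (.lf 0)))) (.nd (.nd (.nd (.lf 45) (.lf 561)) (.nd (.lf 497) (.lf 0))) (.nd (.nd (.lf 202) (.lf 0)) (.nd (.lf 312) (.lf 0))))) (.nd (.nd (.nd (.nd (.lf 617) (.lf 458)) (.nd (.lf 544) (.lf 0))) (.nd (.nd (.lf 98) (.lf 584)) (.nd (.lf 281) (.lf 0)))) (.nd (.nd (.nd (.lf 61) (.lf 477)) (.nd (.lf 226) (.lf 0))) (.nd (.nd (.lf 138) (.lf 0)) (.nd (.lf 578) (.lf 0))))))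

/-- table part -/
def pvT_41 : Tr :=
  .nd pvT_39 pvT_40

/-- table part -/
def pvT_42 : Tr :=
  .nd (.nd (.nd (.nd (.nd (.nd (.lf 242) (.lf 344)) (.nd (.lf 145) (.lf 0))) (.nd (.nd (.lf 67) (.lf 496)) (.nd (.lf 437) (.lf 0)))) (.nd (.nd (.nd (.lf 567) (.lf 400)) (.nd (.lf 185) (.lf 0))) (.nd (.nd (.lf 105) (.lf 638)) (.nd (.lf 343) (.lf 0))))) (.nd (.nd (.nd (.nd (.lf 687) (.lf 620)) (.nd (.lf 163) (.lf 0))) (.nd (.nd (.lf 204) (.lf 551)) (.nd (.lf 422) (.lf 0)))) (.nd (.nd (.nd (.lf 51) (.lf 438)) (.nd (.lf 232) (.lf 0))) (.nd (.nd (.lf 559) (.lf 0)) (.nd (.lf 318) (.lf 0)))))) (.nd (.nd (.nd (.nd (.nd (.lf 347) (.lf 457)) (.nd (.lf 155) (.lf 0))) (.nd (.nd (.lf 282) (.lf 628)) (.nd (.lf 252) (.lf 0)))) (.nd (.nd (.nd (.lf 43) (.lf 414)) (.nd (.lf 673) (.lf 0))) (.nd (.nd (.lf 460) (.lf 0)) (.nd (.lf 626) (.lf 0))))) (.nd (.nd (.nd (.nd (.lf 377) (.lf 384)) (.nd (.lf 174) (.lf 0))) (.nd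 (.nd (.lf 577) (.lf 576)) (.nd (.lf 538) (.lf 0)))) (.nd (.nd (.nd (.lf 59) (.lf 471)) (.nd (.lf 636) (.lf 0))) (.nd (.nd (.lf 649) (.lf 0)) (.nd (.lf 332) (.lf 0))))))

/-- table part -/
def pvT_43 : Tr :=
  .nd (.nd (.nd (.nd (.nd (.nd (.lf 152) (.lf 351)) (.nd (.lf 150) (.lf 0))) (.nd (.nd (.lf 189) (.lf 512)) (.nd (.lf 398) (.lf 0)))) (.nd (.nd (.nd (.lf 39) (.lf 521)) (.nd (.lf 374) (.lf 0))) (.nd (.nd (.lf 110) (.lf 693)) (.nd (.lf 301) (.lf 0))))) (.nd (.nd (.nd (.nd (.lf 640) (.lf 375)) (.nd (.lf 359) (.lf 0))) (.nd (.nd (.lf 91) (.lf 560)) (.nd (.lf 271) (.lf 0)))) (.nd (.nd (.nd (.lf 55) (.lf 456)) (.nd (.lf 215) (.lf 0))) (.nd (.nd (.lf 131) (.lf 0)) (.nd (.lf 324) (.lf 0)))))) (.nd (.nd (.nd (.nd (.nd (.lf 535) (.lf 510)) (.nd (.lf 159) (.lf 0))) (.nd (.nd (.lf 554) (.lf 657)) (.nd (.lf 678) (.lf 0)))) (.nd (.nd (.nd (.lf 47) (.lf 426)) (.nd (.lf 206) (.lf 0))) (.nd (.nd (.lf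 611) (.lf 0)) (.nd (.lf 314) (.lf 0))))) (.nd (.nd (.nd (.nd (.lf 695) (.lf 391)) (.nd (.lf 273) (.lf 0))) (.nd (.nd (.lf 100) (.lf 595)) (.nd (.lf 284) (.lf 0)))) (.nd (.nd (.nd (.lf 63) (.lf 482)) (.nd (.lf 230) (.lf 0))) (.nd (.nd (.lf 140) (.lf 0)) (.nd (.lf 339) (.lf 0))))))

/-- table part -/
def pvT_44 : Tr :=
  .nd pvT_42 pvT_43

/-- table part -/
def pvT_45 : Tr :=
  .nd pvT_41 pvT_44

/-- table part -/
def pvT_46 : Tr :=
  .nd pvT_38 pvT_45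

/-- table part -/
def pvT_47 : Tr :=
  .nd (.nd (.nd (.nd (.nd (.nd (.lf 0) (.lf 341)) (.nd (.lf 142) (.lf 0))) (.nd (.nd (.lf 310) (.lf 487)) (.nd (.lf 353) (.lf 0)))) (.nd (.nd (.nd (.lf 32) (.lf 395)) (.nd (.lf 182) (.lf 0))) (.nd (.nd (.lf 227) (.lf 710)) (.nd (.lf 288) (.lf 0))))) (.nd (.nd (.nd (.nd (.lf 16) (.lf 604)) (.nd (.lf 704) (.lf 0))) (.nd (.nd (.lf 83) (.lf 691)) (.nd (.lf 474) (.lf 0)))) (.nd (.nd (.nd (.lf 571) (.lf 431)) (.nd (.lf 208) (.lf 0))) (.nd (.nd (.lf 610) (.lf 0)) (.nd (.lf 715) (.lf 0)))))) (.nd (.nd (.nd (.nd (.nd (.lf 8) (.lf 354)) (.nd (.lf 287) (.lf 0))) (.nd (.nd (.lf 74) (.lf 572)) (.nd (.lf 694) (.lf 0)))) (.nd (.nd (.nd (.lf 668) (.lf 685)) (.nd (.lf 194) (.lf 0))) (.nd (.nd (.lf 389) (.lf 0)) (.nd (.lf 379) (.lf 0))))) (.nd (.nd (.nd (.nd (.lf 24) (.lf 501)) (.nd (.lf 169) (.lf 0))) (.nd (.nd (.lf 193) (.lf 564)) (.nd (.lf 714) (.lf 0)))) (.nd (.nd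 (.nd (.lf 333) (.lf 465)) (.nd (.lf 662) (.lf 0))) (.nd (.nd (.lf 319) (.lf 0)) (.nd (.lf 573) (.lf 0))))))

/-- table part -/
def pvT_48 : Tr :=
  .nd (.nd (.nd (.nd (.nd (.nd (.lf 4) (.lf 592)) (.nd (.lf 147) (.lf 0))) (.nd (.nd (.lf 171) (.lf 568)) (.nd (.lf 294) (.lf 0)))) (.nd (.nd (.nd (.lf 36) (.lf 402)) (.nd (.lf 187) (.lf 0))) (.nd (.nd (.lf 107) (.lf 667)) (.nd (.lf 540) (.lf 0))))) (.nd (.nd (.nd (.nd (.lf 20) (.lf 370)) (.nd (.lf 600) (.lf 0))) (.nd (.nd (.lf 88) (.lf 660)) (.nd (.lf 267) (.lf 0)))) (.nd (.nd (.nd (.lf 637) (.lf 647)) (.nd (.lf 212) (.lf 0))) (.nd (.nd (.lf 128) (.lf 0)) (.nd (.lf 524) (.lf 0)))))) (.nd (.nd (.nd (.nd (.nd (.lf 12) (.lf 642)) (.nd (.lf 450) (.lf 0))) (.nd (.nd (.lf 78) (.lf 527)) (.nd (.lf 254) (.lf 0)))) (.nd (.nd (.nd (.lf 705) (.lf 669)) (.nd (.lf 651) (.lf 0))) (.nd (.nd (.lf 118) (.lf 0)) (.nd (.lf 409) (.lf 0))))) (.nd (.nd (.nd (.nd (.lf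 28) (.lf 520)) (.nd (.lf 240) (.lf 0))) (.nd (.nd (.lf 184) (.lf 582)) (.nd (.lf 598) (.lf 0)))) (.nd (.nd (.nd (.lf 378) (.lf 473)) (.nd (.lf 225) (.lf 0))) (.nd (.nd (.lf 137) (.lf 0)) (.nd (.lf 336) (.lf 0))))))

/-- table part -/
def pvT_49 : Tr :=
  .nd pvT_47 pvT_48

/-- table part -/
def pvT_50 : Tr :=
  .nd (.nd (.nd (.nd (.nd (.nd (.lf 2) (.lf 536)) (.nd (.lf 709) (.lf 0))) (.nd (.nd (.lf 579) (.lf 606)) (.nd (.lf 235) (.lf 0)))) (.nd (.nd (.nd (.lf 34) (.lf 462)) (.nd (.lf 489) (.lf 0))) (.nd (.nd (.lf 279) (.lf 635)) (.nd (.lf 368) (.lf 0))))) (.nd (.nd (.nd (.nd (.lf 18) (.lf 608)) (.nd (.lf 545) (.lf 0))) (.nd (.nd (.lf 644) (.lf 677)) (.nd (.lf 265) (.lf 0)))) (.nd (.nd (.nd (.lf 320) (.lf 436)) (.nd (.lf 210) (.lf 0))) (.nd (.nd (.lf 125) (.lf 0)) (.nd (.lf 499) (.lf 0)))))) (.nd (.nd (.nd (.nd (.nd (.lf 10) (.lf 388)) (.nd (.lf 172) (.lf 0))) (.nd (.nd (.lf 76) (.lf 601))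 (.nd (.lf 251) (.lf 0)))) (.nd (.nd (.nd (.lf 327) (.lf 413)) (.nd (.lf 218) (.lf 0))) (.nd (.nd (.lf 115) (.lf 0)) (.nd (.lf 546) (.lf 0))))) (.nd (.nd (.nd (.nd (.lf 26) (.lf 627)) (.nd (.lf 417) (.lf 0))) (.nd (.nd (.lf 95) (.lf 666)) (.nd (.lf 276) (.lf 0)))) (.nd (.nd (.nd (.lf 671) (.lf 654)) (.nd (.lf 222) (.lf 0))) (.nd (.nd (.lf 135) (.lf 0)) (.nd (.lf 449) (.lf 0))))))

/-- table part -/
def pvT_51 : Tr :=
  .nd (.nd (.nd (.nd (.nd (.nd (.lf 6) (.lf 429)) (.nd (.lf 383) (.lf 0))) (.nd (.nd (.lf 71) (.lf 508)) (.nd (.lf 350) (.lf 0)))) (.nd (.nd (.nd (.lf 334) (.lf 405)) (.nd (.lf 494) (.lf 0))) (.nd (.nd (.lf 203) (.lf 692)) (.nd (.lf 593) (.lf 0))))) (.nd (.nd (.nd (.nd (.lf 22) (.lf 440)) (.nd (.lf 702) (.lf 0))) (.nd (.nd (.lf 328) (.lf 602)) (.nd (.lf 270) (.lf 0)))) (.nd (.nd (.nd (.lf 470) (.lf 505)) (.nd (.lf 480) (.lf 0))) (.nd (.nd (.lf 424) (.lf 0)) (.nd (.lf 459) (.lf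 0)))))) (.nd (.nd (.nd (.nd (.nd (.lf 14) (.lf 362)) (.nd (.lf 219) (.lf 0))) (.nd (.nd (.lf 81) (.lf 533)) (.nd (.lf 257) (.lf 0)))) (.nd (.nd (.nd (.lf 221) (.lf 425)) (.nd (.lf 207) (.lf 0))) (.nd (.nd (.lf 120) (.lf 0)) (.nd (.lf 442) (.lf 0))))) (.nd (.nd (.nd (.nd (.lf 30) (.lf 597)) (.nd (.lf 179) (.lf 0))) (.nd (.nd (.lf 444) (.lf 594)) (.nd (.lf 283) (.lf 0)))) (.nd (.nd (.nd (.lf 583) (.lf 481)) (.nd (.lf 229) (.lf 0))) (.nd (.nd (.lf 387) (.lf 0)) (.nd (.lf 537) (.lf 0))))))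

/-- table part -/
def pvT_52 : Tr :=
  .nd pvT_50 pvT_51

/-- table part -/
def pvT_53 : Tr :=
  .nd pvT_49 pvT_52

/-- table part -/
def pvT_54 : Tr :=
  .nd (.nd (.nd (.nd (.nd (.nd (.lf 1) (.lf 342)) (.nd (.lf 394) (.lf 0))) (.nd (.nd (.lf 530) (.lf 511)) (.nd (.lf 563) (.lf 0)))) (.nd (.nd (.nd (.lf 33) (.lf 397)) (.nd (.lf 183) (.lf 0))) (.nd (.nd (.lf 223) (.lf 672)) (.nd (.lf 292) (.lf 0))))) (.nd (.nd (.nd (.nd (.lf 17) (.lf 541)) (.nd (.lf 239) (.lf 0))) (.nd (.nd (.lf 84) (.lf 547)) (.nd (.lf 262) (.lf 0)))) (.nd (.nd (.nd (.lf 191) (.lf 483)) (.nd (.lf 209) (.lf 0))) (.nd (.nd (.lf 127) (.lf 0)) (.nd (.lf 502) (.lf 0)))))) (.nd (.nd (.nd (.nd (.nd (.lf 9) (.lf 475)) (.nd (.lf 717) (.lf 0))) (.nd (.nd (.lf 75) (.lf 633)) (.nd (.lf 421) (.lf 0)))) (.nd (.nd (.nd (.lf 684) (.lf 411)) (.nd (.lf 195) (.lf 0))) (.nd (.nd (.lf 177) (.lf 0)) (.nd (.lf 305) (.lf 0))))) (.nd (.nd (.nd (.nd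 (.lf 25) (.lf 454)) (.nd (.lf 586) (.lf 0))) (.nd (.nd (.lf 385) (.lf 624)) (.nd (.lf 703) (.lf 0)))) (.nd (.nd (.nd (.lf 108) (.lf 503)) (.nd (.lf 509) (.lf 0))) (.nd (.nd (.lf 134) (.lf 0)) (.nd (.lf 393) (.lf 0))))))

/-- table part -/
def pvT_55 : Tr :=
  .nd (.nd (.nd (.nd (.nd (.nd (.lf 5) (.lf 348)) (.nd (.lf 253) (.lf 0))) (.nd (.nd (.lf 70) (.lf 504)) (.nd (.lf 517) (.lf 0)))) (.nd (.nd (.nd (.lf 37) (.lf 403)) (.nd (.lf 443) (.lf 0))) (.nd (.nd (.lf 188) (.lf 683)) (.nd (.lf 299) (.lf 0))))) (.nd (.nd (.nd (.nd (.lf 21) (.lf 373)) (.nd (.lf 285) (.lf 0))) (.nd (.nd (.lf 89) (.lf 557)) (.nd (.lf 269) (.lf 0)))) (.nd (.nd (.nd (.lf 141) (.lf 581)) (.nd (.lf 213) (.lf 0))) (.nd (.nd (.lf 129) (.lf 0)) (.nd (.lf 522) (.lf 0)))))) (.nd (.nd (.nd (.nd (.nd (.lf 13) (.lf 361)) (.nd (.lf 335) (.lf 0))) (.nd (.nd (.lf 80) (.lf 532)) (.nd (.lf 307) (.lf 0)))) (.nd (.nd (.nd (.lf 196) (.lf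 670)) (.nd (.lf 596) (.lf 0))) (.nd (.nd (.lf 119) (.lf 0)) (.nd (.lf 352) (.lf 0))))) (.nd (.nd (.nd (.nd (.lf 29) (.lf 641)) (.nd (.lf 178) (.lf 0))) (.nd (.nd (.lf 167) (.lf 658)) (.nd (.lf 648) (.lf 0)))) (.nd (.nd (.nd (.lf 173) (.lf 565)) (.nd (.lf 663) (.lf 0))) (.nd (.nd (.lf 199) (.lf 0)) (.nd (.lf 337) (.lf 0))))))

/-- table part -/
def pvT_56 : Tr :=
  .nd pvT_54 pvT_55

/-- table part -/
def pvT_57 : Tr :=
  .nd (.nd (.nd (.nd (.nd (.nd (.lf 3) (.lf 588)) (.nd (.lf 495) (.lf 0))) (.nd (.nd (.lf 85) (.lf 706)) (.nd (.lf 237) (.lf 0)))) (.nd (.nd (.nd (.lf 35) (.lf 401)) (.nd (.lf 186) (.lf 0))) (.nd (.nd (.lf 106) (.lf 639)) (.nd (.lf 553) (.lf 0))))) (.nd (.nd (.nd (.nd (.lf 19) (.lf 369)) (.nd (.lf 609) (.lf 0))) (.nd (.nd (.lf 87) (.lf 698)) (.nd (.lf 266) (.lf 0)))) (.nd (.nd (.nd (.lf 121) (.lf 439)) (.nd (.lf 211) (.lf 0))) (.nd (.nd (.lf 630) (.lf 0)) (.nd (.lf 486) (.lf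 0)))))) (.nd (.nd (.nd (.nd (.nd (.lf 11) (.lf 358)) (.nd (.lf 599) (.lf 0))) (.nd (.nd (.lf 77) (.lf 526)) (.nd (.lf 591) (.lf 0)))) (.nd (.nd (.nd (.lf 201) (.lf 416)) (.nd (.lf 200) (.lf 0))) (.nd (.nd (.lf 241) (.lf 0)) (.nd (.lf 309) (.lf 0))))) (.nd (.nd (.nd (.nd (.lf 27) (.lf 386)) (.nd (.lf 244) (.lf 0))) (.nd (.nd (.lf 96) (.lf 622)) (.nd (.lf 277) (.lf 0)))) (.nd (.nd (.nd (.lf 550) (.lf 587)) (.nd (.lf 708) (.lf 0))) (.nd (.nd (.lf 136) (.lf 0)) (.nd (.lf 590) (.lf 0))))))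

/-- table part -/
def pvT_58 : Tr :=
  .nd (.nd (.nd (.nd (.nd (.nd (.lf 7) (.lf 619)) (.nd (.lf 500) (.lf 0))) (.nd (.nd (.lf 72) (.lf 625)) (.nd (.lf 247) (.lf 0)))) (.nd (.nd (.nd (.lf 338) (.lf 682)) (.nd (.lf 192) (.lf 0))) (.nd (.nd (.lf 716) (.lf 713)) (.nd (.lf 399) (.lf 0))))) (.nd (.nd (.nd (.nd (.lf 23) (.lf 376)) (.nd (.lf 168) (.lf 0))) (.nd (.nd (.lf 690) (.lf 631)) (.nd (.lf 697) (.lf 0)))) (.nd (.nd (.nd (.lf 126) (.lf 562)) (.nd (.lf 420) (.lf 0))) (.nd (.nd (.lf 461) (.lf 0)) (.nd (.lf 453) (.lf 0)))))) (.nd (.nd (.nd (.nd (.nd (.lf 15) (.lf 363)) (.nd (.lf 451) (.lf 0))) (.nd (.nd (.lf 82) (.lf 558)) (.nd (.lf 258) (.lf 0)))) (.nd (.nd (.nd (.lf 246) (.lf 427)) (.nd (.lf 580) (.lf 0))) (.nd (.nd (.lf 280) (.lf 0)) (.nd (.lf 676) (.lf 0))))) (.nd (.nd (.nd (.nd (.lf 31) (.lf 555)) (.nd (.lf 181) (.lf 0))) (.nd (.nd (.lf 101) (.lf 634)) (.nd (.lf 286) (.lf 0)))) (.nd (.nd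 (.nd (.lf 513) (.lf 605)) (.nd (.lf 542) (.lf 0))) (.nd (.nd (.lf 325) (.lf 0)) (.nd (.lf 340) (.lf 0))))))

/-- table part -/
def pvT_59 : Tr :=
  .nd pvT_57 pvT_58

/-- table part -/
def pvT_60 : Tr :=
  .nd pvT_56 pvT_59

/-- table part -/
def pvT_61 : Tr :=
  .nd pvT_53 pvT_60

/-- table part -/
def pvT_62 : Tr :=
  .nd pvT_46 pvT_61

/-- table part -/
def pvT_63 : Tr :=
  .nd pvT_31 pvT_62

/-- table -/
def pvT : Tr :=
  pvT_63

/-- table part -/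
def parT_1 : Tr :=
  .nd (.nd (.nd (.nd (.nd (.nd (.lf 0) (.lf 682)) (.nd (.lf 284) (.lf 0))) (.nd (.nd (.lf 129) (.lf 971)) (.nd (.lf 463) (.lf 0)))) (.nd (.nd (.nd (.lf 64) (.lf 788)) (.nd (.lf 364) (.lf 0))) (.nd (.nd (.lf 205) (.lf 1230)) (.nd (.lf 576) (.lf 0))))) (.nd (.nd (.nd (.nd (.lf 32) (.lf 729)) (.nd (.lf 321) (.lf 0))) (.nd (.nd (.lf 166) (.lf 1084)) (.nd (.lf 519) (.lf 0)))) (.nd (.nd (.nd (.lf 97) (.lf 861)) (.nd (.lf 416) (.lf 0))) (.nd (.nd (.lf 245) (.lf 0)) (.nd (.lf 631) (.lf 0)))))) (.nd (.nd (.nd (.nd (.nd (.lf 16) (.lf 708)) (.nd (.lf 303) (.lf 0))) (.nd (.nd (.lf 147) (.lf 1030)) (.nd (.lf 497) (.lf 0)))) (.nd (.nd (.nd (.lf 81) (.lf 817)) (.nd (.lf 386) (.lf 0))) (.nd (.nd (.lf 225) (.lf 0)) (.nd (.lf 607) (.lf 0))))) (.nd (.nd (.nd (.nd (.lf 48) (.lf 756)) (.nd (.lf 338) (.lf 0))) (.nd (.nd (.lf 185) (.lf 1128)) (.nd (.lf 546) (.lf 0)))) (.nd (.nd (.nd (.lf 113)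 (.lf 928)) (.nd (.lf 435) (.lf 0))) (.nd (.nd (.lf 265) (.lf 0)) (.nd (.lf 653) (.lf 0))))))

/-- table part -/
def parT_2 : Tr :=
  .nd (.nd (.nd (.nd (.nd (.nd (.lf 8) (.lf 693)) (.nd (.lf 293) (.lf 0))) (.nd (.nd (.lf 137) (.lf 997)) (.nd (.lf 477) (.lf 0)))) (.nd (.nd (.nd (.lf 72) (.lf 804)) (.nd (.lf 374) (.lf 0))) (.nd (.nd (.lf 214) (.lf 1291)) (.nd (.lf 595) (.lf 0))))) (.nd (.nd (.nd (.nd (.lf 40) (.lf 740)) (.nd (.lf 329) (.lf 0))) (.nd (.nd (.lf 176) (.lf 1105)) (.nd (.lf 534) (.lf 0)))) (.nd (.nd (.nd (.lf 105) (.lf 880)) (.nd (.lf 424) (.lf 0))) (.nd (.nd (.lf 256) (.lf 0)) (.nd (.lf 643) (.lf 0)))))) (.nd (.nd (.nd (.nd (.nd (.lf 24) (.lf 718)) (.nd (.lf 313) (.lf 0))) (.nd (.nd (.lf 156) (.lf 1054)) (.nd (.lf 508) (.lf 0)))) (.nd (.nd (.nd (.lf 89) (.lf 834)) (.nd (.lf 402) (.lf 0))) (.nd (.nd (.lf 235) (.lf 0)) (.nd (.lf 623) (.lf 0))))) (.nd (.nd (.nd (.nd (.lf 56) (.lf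 774)) (.nd (.lf 351) (.lf 0))) (.nd (.nd (.lf 194) (.lf 1160)) (.nd (.lf 556) (.lf 0)))) (.nd (.nd (.nd (.lf 121) (.lf 945)) (.nd (.lf 449) (.lf 0))) (.nd (.nd (.lf 274) (.lf 0)) (.nd (.lf 668) (.lf 0))))))

/-- table part -/
def parT_3 : Tr :=
  .nd parT_1 parT_2

/-- table part -/
def parT_4 : Tr :=
  .nd (.nd (.nd (.nd (.nd (.nd (.lf 4) (.lf 686)) (.nd (.lf 289) (.lf 0))) (.nd (.nd (.lf 133) (.lf 981)) (.nd (.lf 469) (.lf 0)))) (.nd (.nd (.nd (.lf 68) (.lf 796)) (.nd (.lf 368) (.lf 0))) (.nd (.nd (.lf 209) (.lf 1268)) (.nd (.lf 586) (.lf 0))))) (.nd (.nd (.nd (.nd (.lf 36) (.lf 735)) (.nd (.lf 325) (.lf 0))) (.nd (.nd (.lf 170) (.lf 1097)) (.nd (.lf 529) (.lf 0)))) (.nd (.nd (.nd (.lf 101) (.lf 869)) (.nd (.lf 420) (.lf 0))) (.nd (.nd (.lf 249) (.lf 0)) (.nd (.lf 635) (.lf 0)))))) (.nd (.nd (.nd (.nd (.nd (.lf 20) (.lf 713)) (.nd (.lf 309) (.lf 0))) (.nd (.nd (.lf 152) (.lf 1047)) (.nd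 (.lf 501) (.lf 0)))) (.nd (.nd (.nd (.lf 85) (.lf 826)) (.nd (.lf 397) (.lf 0))) (.nd (.nd (.lf 229) (.lf 0)) (.nd (.lf 613) (.lf 0))))) (.nd (.nd (.nd (.nd (.lf 52) (.lf 763)) (.nd (.lf 344) (.lf 0))) (.nd (.nd (.lf 189) (.lf 1149)) (.nd (.lf 551) (.lf 0)))) (.nd (.nd (.nd (.lf 117) (.lf 937)) (.nd (.lf 444) (.lf 0))) (.nd (.nd (.lf 270) (.lf 0)) (.nd (.lf 663) (.lf 0))))))

/-- table part -/
def parT_5 : Tr :=
  .nd (.nd (.nd (.nd (.nd (.nd (.lf 12) (.lf 699)) (.nd (.lf 299) (.lf 0))) (.nd (.nd (.lf 142) (.lf 1015)) (.nd (.lf 491) (.lf 0)))) (.nd (.nd (.nd (.lf 76) (.lf 810)) (.nd (.lf 381) (.lf 0))) (.nd (.nd (.lf 219) (.lf 1377)) (.nd (.lf 600) (.lf 0))))) (.nd (.nd (.nd (.nd (.lf 44) (.lf 748)) (.nd (.lf 333) (.lf 0))) (.nd (.nd (.lf 181) (.lf 1116)) (.nd (.lf 540) (.lf 0)))) (.nd (.nd (.nd (.lf 109) (.lf 911)) (.nd (.lf 429) (.lf 0))) (.nd (.nd (.lf 260) (.lf 0)) (.nd (.lf 647) (.lf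 0)))))) (.nd (.nd (.nd (.nd (.nd (.lf 28) (.lf 724)) (.nd (.lf 317) (.lf 0))) (.nd (.nd (.lf 162) (.lf 1066)) (.nd (.lf 513) (.lf 0)))) (.nd (.nd (.nd (.lf 93) (.lf 847)) (.nd (.lf 411) (.lf 0))) (.nd (.nd (.lf 240) (.lf 0)) (.nd (.lf 627) (.lf 0))))) (.nd (.nd (.nd (.nd (.lf 60) (.lf 781)) (.nd (.lf 358) (.lf 0))) (.nd (.nd (.lf 199) (.lf 1184)) (.nd (.lf 566) (.lf 0)))) (.nd (.nd (.nd (.lf 125) (.lf 960)) (.nd (.lf 457) (.lf 0))) (.nd (.nd (.lf 279) (.lf 0)) (.nd (.lf 676) (.lf 0))))))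

/-- table part -/
def parT_6 : Tr :=
  .nd parT_4 parT_5

/-- table part -/
def parT_7 : Tr :=
  .nd parT_3 parT_6

/-- table part -/
def parT_8 : Tr :=
  .nd (.nd (.nd (.nd (.nd (.nd (.lf 2) (.lf 684)) (.nd (.lf 286) (.lf 0))) (.nd (.nd (.lf 131) (.lf 977)) (.nd (.lf 467) (.lf 0)))) (.nd (.nd (.nd (.lf 66) (.lf 794)) (.nd (.lf 366) (.lf 0))) (.nd (.nd (.lf 207) (.lf 1254)) (.nd (.lf 584) (.lf 0))))) (.nd (.nd (.nd (.nd (.lf 34) (.lf 733)) (.nd (.lf 323) (.lf 0))) (.nd (.nd (.lf 168) (.lf 1087)) (.nd (.lf 523) (.lf 0)))) (.nd (.nd (.nd (.lf 99) (.lf 865)) (.nd (.lf 418) (.lf 0))) (.nd (.nd (.lf 247) (.lf 0)) (.nd (.lf 633) (.lf 0)))))) (.nd (.nd (.nd (.nd (.nd (.lf 18) (.lf 710)) (.nd (.lf 307) (.lf 0))) (.nd (.nd (.lf 150) (.lf 1044)) (.nd (.lf 499) (.lf 0)))) (.nd (.nd (.nd (.lf 83) (.lf 821)) (.nd (.lf 390) (.lf 0))) (.nd (.nd (.lf 227) (.lf 0)) (.nd (.lf 609) (.lf 0))))) (.nd (.nd (.nd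 (.nd (.lf 50) (.lf 761)) (.nd (.lf 341) (.lf 0))) (.nd (.nd (.lf 187) (.lf 1133)) (.nd (.lf 549) (.lf 0)))) (.nd (.nd (.nd (.lf 115) (.lf 935)) (.nd (.lf 440) (.lf 0))) (.nd (.nd (.lf 267) (.lf 0)) (.nd (.lf 656) (.lf 0))))))

/-- table part -/
def parT_9 : Tr :=
  .nd (.nd (.nd (.nd (.nd (.nd (.lf 10) (.lf 696)) (.nd (.lf 297) (.lf 0))) (.nd (.nd (.lf 139) (.lf 1002)) (.nd (.lf 487) (.lf 0)))) (.nd (.nd (.nd (.lf 74) (.lf 806)) (.nd (.lf 376) (.lf 0))) (.nd (.nd (.lf 216) (.lf 1306)) (.nd (.lf 597) (.lf 0))))) (.nd (.nd (.nd (.nd (.lf 42) (.lf 745)) (.nd (.lf 331) (.lf 0))) (.nd (.nd (.lf 178) (.lf 1112)) (.nd (.lf 537) (.lf 0)))) (.nd (.nd (.nd (.lf 107) (.lf 895)) (.nd (.lf 426) (.lf 0))) (.nd (.nd (.lf 258) (.lf 0)) (.nd (.lf 645) (.lf 0)))))) (.nd (.nd (.nd (.nd (.nd (.lf 26) (.lf 721)) (.nd (.lf 315) (.lf 0))) (.nd (.nd (.lf 158) (.lf 1057)) (.nd (.lf 511) (.lf 0)))) (.nd (.nd (.nd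 (.lf 91) (.lf 838)) (.nd (.lf 406) (.lf 0))) (.nd (.nd (.lf 238) (.lf 0)) (.nd (.lf 625) (.lf 0))))) (.nd (.nd (.nd (.nd (.lf 58) (.lf 778)) (.nd (.lf 354) (.lf 0))) (.nd (.nd (.lf 197) (.lf 1169)) (.nd (.lf 563) (.lf 0)))) (.nd (.nd (.nd (.lf 123) (.lf 955)) (.nd (.lf 453) (.lf 0))) (.nd (.nd (.lf 277) (.lf 0)) (.nd (.lf 674) (.lf 0))))))

/-- table part -/
def parT_10 : Tr :=
  .nd parT_8 parT_9

/-- table part -/
def parT_11 : Tr :=
  .nd (.nd (.nd (.nd (.nd (.nd (.lf 6) (.lf 689)) (.nd (.lf 291) (.lf 0))) (.nd (.nd (.lf 135) (.lf 993)) (.nd (.lf 472) (.lf 0)))) (.nd (.nd (.nd (.lf 70) (.lf 801)) (.nd (.lf 371) (.lf 0))) (.nd (.nd (.lf 211) (.lf 1277)) (.nd (.lf 592) (.lf 0))))) (.nd (.nd (.nd (.nd (.lf 38) (.lf 738)) (.nd (.lf 327) (.lf 0))) (.nd (.nd (.lf 174) (.lf 1103)) (.nd (.lf 532) (.lf 0)))) (.nd (.nd (.nd (.lf 103) (.lf 877)) (.nd (.lf 422) (.lf 0))) (.nd (.nd (.lf 252) (.lf 0))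 (.nd (.lf 637) (.lf 0)))))) (.nd (.nd (.nd (.nd (.nd (.lf 22) (.lf 716)) (.nd (.lf 311) (.lf 0))) (.nd (.nd (.lf 154) (.lf 1050)) (.nd (.lf 505) (.lf 0)))) (.nd (.nd (.nd (.lf 87) (.lf 829)) (.nd (.lf 400) (.lf 0))) (.nd (.nd (.lf 232) (.lf 0)) (.nd (.lf 618) (.lf 0))))) (.nd (.nd (.nd (.nd (.lf 54) (.lf 769)) (.nd (.lf 349) (.lf 0))) (.nd (.nd (.lf 192) (.lf 1153)) (.nd (.lf 554) (.lf 0)))) (.nd (.nd (.nd (.lf 119) (.lf 943)) (.nd (.lf 446) (.lf 0))) (.nd (.nd (.lf 272) (.lf 0)) (.nd (.lf 665) (.lf 0))))))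

/-- table part -/
def parT_12 : Tr :=
  .nd (.nd (.nd (.nd (.nd (.nd (.lf 14) (.lf 703)) (.nd (.lf 301) (.lf 0))) (.nd (.nd (.lf 144) (.lf 1025)) (.nd (.lf 494) (.lf 0)))) (.nd (.nd (.nd (.lf 79) (.lf 814)) (.nd (.lf 384) (.lf 0))) (.nd (.nd (.lf 221) (.lf 1387)) (.nd (.lf 603) (.lf 0))))) (.nd (.nd (.nd (.nd (.lf 46) (.lf 751)) (.nd (.lf 336) (.lf 0))) (.nd (.nd (.lf 183) (.lf 1121)) (.nd (.lf 543) (.lf 0)))) (.nd (.nd (.nd (.lf 111) (.lf 913)) (.nd (.lf 431) (.lf 0))) (.nd (.nd (.lf 263) (.lf 0)) (.nd (.lf 649) (.lf 0)))))) (.nd (.nd (.nd (.nd (.nd (.lf 30) (.lf 726)) (.nd (.lf 319) (.lf 0))) (.nd (.nd (.lf 164) (.lf 1074)) (.nd (.lf 516) (.lf 0)))) (.nd (.nd (.nd (.lf 95) (.lf 853)) (.nd (.lf 413) (.lf 0))) (.nd (.nd (.lf 242) (.lf 0)) (.nd (.lf 629) (.lf 0))))) (.nd (.nd (.nd (.nd (.lf 62) (.lf 783)) (.nd (.lf 360) (.lf 0))) (.nd (.nd (.lf 201) (.lf 1191)) (.nd (.lf 569) (.lf 0)))) (.nd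 (.nd (.nd (.lf 127) (.lf 965)) (.nd (.lf 461) (.lf 0))) (.nd (.nd (.lf 281) (.lf 0)) (.nd (.lf 679) (.lf 0))))))

/-- table part -/
def parT_13 : Tr :=
  .nd parT_11 parT_12

/-- table part -/
def parT_14 : Tr :=
  .nd parT_10 parT_13

/-- table part -/
def parT_15 : Tr :=
  .nd parT_7 parT_14

/-- table part -/
def parT_16 : Tr :=
  .nd (.nd (.nd (.nd (.nd (.nd (.lf 1) (.lf 683)) (.nd (.lf 285) (.lf 0))) (.nd (.nd (.lf 130) (.lf 975)) (.nd (.lf 466) (.lf 0)))) (.nd (.nd (.nd (.lf 65) (.lf 791)) (.nd (.lf 365) (.lf 0))) (.nd (.nd (.lf 206) (.lf 1238)) (.nd (.lf 577) (.lf 0))))) (.nd (.nd (.nd (.nd (.lf 33) (.lf 730)) (.nd (.lf 322) (.lf 0))) (.nd (.nd (.lf 167) (.lf 1086)) (.nd (.lf 522) (.lf 0)))) (.nd (.nd (.nd (.lf 98) (.lf 863)) (.nd (.lf 417) (.lf 0))) (.nd (.nd (.lf 246) (.lf 0)) (.nd (.lf 632) (.lf 0)))))) (.nd (.nd (.nd (.nd (.nd (.lf 17) (.lf 709)) (.nd (.lf 304) (.lf 0))) (.nd (.nd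 (.lf 149) (.lf 1032)) (.nd (.lf 498) (.lf 0)))) (.nd (.nd (.nd (.lf 82) (.lf 818)) (.nd (.lf 389) (.lf 0))) (.nd (.nd (.lf 226) (.lf 0)) (.nd (.lf 608) (.lf 0))))) (.nd (.nd (.nd (.nd (.lf 49) (.lf 760)) (.nd (.lf 339) (.lf 0))) (.nd (.nd (.lf 186) (.lf 1129)) (.nd (.lf 548) (.lf 0)))) (.nd (.nd (.nd (.lf 114) (.lf 931)) (.nd (.lf 436) (.lf 0))) (.nd (.nd (.lf 266) (.lf 0)) (.nd (.lf 654) (.lf 0))))))

/-- table part -/
def parT_17 : Tr :=
  .nd (.nd (.nd (.nd (.nd (.nd (.lf 9) (.lf 694)) (.nd (.lf 295) (.lf 0))) (.nd (.nd (.lf 138) (.lf 998)) (.nd (.lf 484) (.lf 0)))) (.nd (.nd (.nd (.lf 73) (.lf 805)) (.nd (.lf 375) (.lf 0))) (.nd (.nd (.lf 215) (.lf 1296)) (.nd (.lf 596) (.lf 0))))) (.nd (.nd (.nd (.nd (.lf 41) (.lf 741)) (.nd (.lf 330) (.lf 0))) (.nd (.nd (.lf 177) (.lf 1106)) (.nd (.lf 535) (.lf 0)))) (.nd (.nd (.nd (.lf 106) (.lf 882)) (.nd (.lf 425) (.lf 0))) (.nd (.nd (.lf 257) (.lf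 0)) (.nd (.lf 644) (.lf 0)))))) (.nd (.nd (.nd (.nd (.nd (.lf 25) (.lf 720)) (.nd (.lf 314) (.lf 0))) (.nd (.nd (.lf 157) (.lf 1055)) (.nd (.lf 509) (.lf 0)))) (.nd (.nd (.nd (.lf 90) (.lf 836)) (.nd (.lf 404) (.lf 0))) (.nd (.nd (.lf 237) (.lf 0)) (.nd (.lf 624) (.lf 0))))) (.nd (.nd (.nd (.nd (.lf 57) (.lf 776)) (.nd (.lf 352) (.lf 0))) (.nd (.nd (.lf 196) (.lf 1165)) (.nd (.lf 558) (.lf 0)))) (.nd (.nd (.nd (.lf 122) (.lf 947)) (.nd (.lf 451) (.lf 0))) (.nd (.nd (.lf 275) (.lf 0)) (.nd (.lf 673) (.lf 0))))))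

/-- table part -/
def parT_18 : Tr :=
  .nd parT_16 parT_17

/-- table part -/
def parT_19 : Tr :=
  .nd (.nd (.nd (.nd (.nd (.nd (.lf 5) (.lf 688)) (.nd (.lf 290) (.lf 0))) (.nd (.nd (.lf 134) (.lf 988)) (.nd (.lf 471) (.lf 0)))) (.nd (.nd (.nd (.lf 69) (.lf 800)) (.nd (.lf 370) (.lf 0))) (.nd (.nd (.lf 210) (.lf 1271)) (.nd (.lf 590) (.lf 0))))) (.nd (.nd (.nd (.nd (.lf 37) (.lf 736)) (.nd (.lf 326) (.lf 0))) (.nd (.nd (.lf 172) (.lf 1098)) (.nd (.lf 531) (.lf 0)))) (.nd (.nd (.nd (.lf 102) (.lf 873)) (.nd (.lf 421) (.lf 0))) (.nd (.nd (.lf 251) (.lf 0)) (.nd (.lf 636) (.lf 0)))))) (.nd (.nd (.nd (.nd (.nd (.lf 21) (.lf 714)) (.nd (.lf 310) (.lf 0))) (.nd (.nd (.lf 153) (.lf 1048)) (.nd (.lf 503) (.lf 0)))) (.nd (.nd (.nd (.lf 86) (.lf 827)) (.nd (.lf 398) (.lf 0))) (.nd (.nd (.lf 231) (.lf 0)) (.nd (.lf 614) (.lf 0))))) (.nd (.nd (.nd (.nd (.lf 53) (.lf 766)) (.nd (.lf 346) (.lf 0)))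 (.nd (.nd (.lf 191) (.lf 1152)) (.nd (.lf 553) (.lf 0)))) (.nd (.nd (.nd (.lf 118) (.lf 938)) (.nd (.lf 445) (.lf 0))) (.nd (.nd (.lf 271) (.lf 0)) (.nd (.lf 664) (.lf 0))))))

/-- table part -/
def parT_20 : Tr :=
  .nd (.nd (.nd (.nd (.nd (.nd (.lf 13) (.lf 702)) (.nd (.lf 300) (.lf 0))) (.nd (.nd (.lf 143) (.lf 1017)) (.nd (.lf 492) (.lf 0)))) (.nd (.nd (.nd (.lf 78) (.lf 811)) (.nd (.lf 382) (.lf 0))) (.nd (.nd (.lf 220) (.lf 1385)) (.nd (.lf 602) (.lf 0))))) (.nd (.nd (.nd (.nd (.lf 45) (.lf 750)) (.nd (.lf 334) (.lf 0))) (.nd (.nd (.lf 182) (.lf 1118)) (.nd (.lf 541) (.lf 0)))) (.nd (.nd (.nd (.lf 110) (.lf 912)) (.nd (.lf 430) (.lf 0))) (.nd (.nd (.lf 262) (.lf 0)) (.nd (.lf 648) (.lf 0)))))) (.nd (.nd (.nd (.nd (.nd (.lf 29) (.lf 725)) (.nd (.lf 318) (.lf 0))) (.nd (.nd (.lf 163) (.lf 1067)) (.nd (.lf 515) (.lf 0)))) (.nd (.nd (.nd (.lf 94) (.lf 851)) (.nd (.lf 412) (.lf 0))) (.nd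 (.nd (.lf 241) (.lf 0)) (.nd (.lf 628) (.lf 0))))) (.nd (.nd (.nd (.nd (.lf 61) (.lf 782)) (.nd (.lf 359) (.lf 0))) (.nd (.nd (.lf 200) (.lf 1189)) (.nd (.lf 567) (.lf 0)))) (.nd (.nd (.nd (.lf 126) (.lf 963)) (.nd (.lf 459) (.lf 0))) (.nd (.nd (.lf 280) (.lf 0)) (.nd (.lf 678) (.lf 0))))))

/-- table part -/
def parT_21 : Tr :=
  .nd parT_19 parT_20

/-- table part -/
def parT_22 : Tr :=
  .nd parT_18 parT_21

/-- table part -/
def parT_23 : Tr :=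
  .nd (.nd (.nd (.nd (.nd (.nd (.lf 3) (.lf 685)) (.nd (.lf 288) (.lf 0))) (.nd (.nd (.lf 132) (.lf 980)) (.nd (.lf 468) (.lf 0)))) (.nd (.nd (.nd (.lf 67) (.lf 795)) (.nd (.lf 367) (.lf 0))) (.nd (.nd (.lf 208) (.lf 1260)) (.nd (.lf 585) (.lf 0))))) (.nd (.nd (.nd (.nd (.lf 35) (.lf 734)) (.nd (.lf 324) (.lf 0))) (.nd (.nd (.lf 169) (.lf 1095)) (.nd (.lf 525) (.lf 0)))) (.nd (.nd (.nd (.lf 100) (.lf 868)) (.nd (.lf 419) (.lf 0))) (.nd (.nd (.lf 248) (.lf 0)) (.nd (.lf 634) (.lf 0)))))) (.nd (.nd (.nd (.nd (.nd (.lf 19) (.lf 712)) (.nd (.lf 308) (.lf 0))) (.nd (.nd (.lf 151) (.lf 1046)) (.nd (.lf 500) (.lf 0)))) (.nd (.nd (.nd (.lf 84) (.lf 823)) (.nd (.lf 391) (.lf 0))) (.nd (.nd (.lf 228) (.lf 0)) (.nd (.lf 611) (.lf 0))))) (.nd (.nd (.nd (.nd (.lf 51) (.lf 762)) (.nd (.lf 342) (.lf 0))) (.nd (.nd (.lf 188) (.lf 1136)) (.nd (.lf 550) (.lf 0)))) (.nd (.nd (.nd (.lf 116) (.lf 936)) (.nd (.lf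 442) (.lf 0))) (.nd (.nd (.lf 269) (.lf 0)) (.nd (.lf 660) (.lf 0))))))

/-- table part -/
def parT_24 : Tr :=
  .nd (.nd (.nd (.nd (.nd (.nd (.lf 11) (.lf 697)) (.nd (.lf 298) (.lf 0))) (.nd (.nd (.lf 141) (.lf 1009)) (.nd (.lf 488) (.lf 0)))) (.nd (.nd (.nd (.lf 75) (.lf 807)) (.nd (.lf 380) (.lf 0))) (.nd (.nd (.lf 218) (.lf 1310)) (.nd (.lf 599) (.lf 0))))) (.nd (.nd (.nd (.nd (.lf 43) (.lf 747)) (.nd (.lf 332) (.lf 0))) (.nd (.nd (.lf 179) (.lf 1115)) (.nd (.lf 539) (.lf 0)))) (.nd (.nd (.nd (.lf 108) (.lf 898)) (.nd (.lf 427) (.lf 0))) (.nd (.nd (.lf 259) (.lf 0)) (.nd (.lf 646) (.lf 0)))))) (.nd (.nd (.nd (.nd (.nd (.lf 27) (.lf 723)) (.nd (.lf 316) (.lf 0))) (.nd (.nd (.lf 161) (.lf 1065)) (.nd (.lf 512) (.lf 0)))) (.nd (.nd (.nd (.lf 92) (.lf 844)) (.nd (.lf 408) (.lf 0))) (.nd (.nd (.lf 239) (.lf 0)) (.nd (.lf 626) (.lf 0))))) (.nd (.nd (.nd (.nd (.lf 59) (.lf 780)) (.nd (.lf 357)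 (.lf 0))) (.nd (.nd (.lf 198) (.lf 1178)) (.nd (.lf 564) (.lf 0)))) (.nd (.nd (.nd (.lf 124) (.lf 958)) (.nd (.lf 454) (.lf 0))) (.nd (.nd (.lf 278) (.lf 0)) (.nd (.lf 675) (.lf 0))))))

/-- table part -/
def parT_25 : Tr :=
  .nd parT_23 parT_24

/-- table part -/
def parT_26 : Tr :=
  .nd (.nd (.nd (.nd (.nd (.nd (.lf 7) (.lf 692)) (.nd (.lf 292) (.lf 0))) (.nd (.nd (.lf 136) (.lf 996)) (.nd (.lf 475) (.lf 0)))) (.nd (.nd (.nd (.lf 71) (.lf 803)) (.nd (.lf 373) (.lf 0))) (.nd (.nd (.lf 213) (.lf 1279)) (.nd (.lf 594) (.lf 0))))) (.nd (.nd (.nd (.nd (.lf 39) (.lf 739)) (.nd (.lf 328) (.lf 0))) (.nd (.nd (.lf 175) (.lf 1104)) (.nd (.lf 533) (.lf 0)))) (.nd (.nd (.nd (.lf 104) (.lf 879)) (.nd (.lf 423) (.lf 0))) (.nd (.nd (.lf 254) (.lf 0)) (.nd (.lf 640) (.lf 0)))))) (.nd (.nd (.nd (.nd (.nd (.lf 23) (.lf 717)) (.nd (.lf 312) (.lf 0))) (.nd (.nd (.lf 155) (.lf 1053)) (.nd (.lf 506) (.lf 0))))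 (.nd (.nd (.nd (.lf 88) (.lf 833)) (.nd (.lf 401) (.lf 0))) (.nd (.nd (.lf 234) (.lf 0)) (.nd (.lf 619) (.lf 0))))) (.nd (.nd (.nd (.nd (.lf 55) (.lf 773)) (.nd (.lf 350) (.lf 0))) (.nd (.nd (.lf 193) (.lf 1154)) (.nd (.lf 555) (.lf 0)))) (.nd (.nd (.nd (.lf 120) (.lf 944)) (.nd (.lf 448) (.lf 0))) (.nd (.nd (.lf 273) (.lf 0)) (.nd (.lf 666) (.lf 0))))))

/-- table part -/
def parT_27 : Tr :=
  .nd (.nd (.nd (.nd (.nd (.nd (.lf 15) (.lf 704)) (.nd (.lf 302) (.lf 0))) (.nd (.nd (.lf 145) (.lf 1026)) (.nd (.lf 495) (.lf 0)))) (.nd (.nd (.nd (.lf 80) (.lf 816)) (.nd (.lf 385) (.lf 0))) (.nd (.nd (.lf 222) (.lf 1427)) (.nd (.lf 606) (.lf 0))))) (.nd (.nd (.nd (.nd (.lf 47) (.lf 753)) (.nd (.lf 337) (.lf 0))) (.nd (.nd (.lf 184) (.lf 1124)) (.nd (.lf 544) (.lf 0)))) (.nd (.nd (.nd (.lf 112) (.lf 924)) (.nd (.lf 432) (.lf 0))) (.nd (.nd (.lf 264) (.lf 0)) (.nd (.lf 650) (.lf 0)))))) (.nd (.nd (.nd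 (.nd (.nd (.lf 31) (.lf 727)) (.nd (.lf 320) (.lf 0))) (.nd (.nd (.lf 165) (.lf 1082)) (.nd (.lf 517) (.lf 0)))) (.nd (.nd (.nd (.lf 96) (.lf 855)) (.nd (.lf 414) (.lf 0))) (.nd (.nd (.lf 244) (.lf 0)) (.nd (.lf 630) (.lf 0))))) (.nd (.nd (.nd (.nd (.lf 63) (.lf 784)) (.nd (.lf 363) (.lf 0))) (.nd (.nd (.lf 203) (.lf 1214)) (.nd (.lf 573) (.lf 0)))) (.nd (.nd (.nd (.lf 128) (.lf 966)) (.nd (.lf 462) (.lf 0))) (.nd (.nd (.lf 282) (.lf 0)) (.nd (.lf 681) (.lf 0))))))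

/-- table part -/
def parT_28 : Tr :=
  .nd parT_26 parT_27

/-- table part -/
def parT_29 : Tr :=
  .nd parT_25 parT_28

/-- table part -/
def parT_30 : Tr :=
  .nd parT_22 parT_29

/-- table part -/
def parT_31 : Tr :=
  .nd parT_15 parT_30

/-- table -/
def parT : Tr :=
  parT_31

/-- table part -/
def fmT_1 : Tr :=
  .nd (.nd (.nd (.nd (.nd (.nd (.lf 29642774844752946028434172162224104432737861272934686763799374043011716237754368) (.lf 497323266052563253755498367263268244918290344401956754002713279914235923025148279521281)) (.nd (.lf 0) (.lf 0))) (.nd (.nd (.lf 0) (.lf 29642774844752946028434172162224104410437116074404063622268378136846224376987648)) (.nd (.lf 29642776611600116119110170302708303093684062100078819091271813719962983199670273) (.lf 0)))) (.nd (.nd (.nd (.lf 0) (.lf 0)) (.nd (.lf 0) (.lf 0))) (.nd (.nd (.lf 0) (.lf 105312291668557560842359485141345251081138722360178880069805015041))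 (.nd (.lf 497323266052561486908433588872661559885402920719603807867533724805510644312698773307393) (.lf 0))))) (.nd (.nd (.nd (.nd (.lf 0) (.lf 497323266052561486908433588872661559885402920719603807867533724805510644594173733240832)) (.nd (.lf 0) (.lf 0))) (.nd (.nd (.lf 0) (.lf 29642774844753051340725840719410802350765544943366926430736982694268246649995265)) (.nd (.lf 29642774844752946028440449263959491113501698391585890215136071669027585174536192) (.lf 0)))) (.nd (.nd (.nd (.lf 0) (.lf 497323266052561486908433588872661559511258501562893990035386192541292728604970677436417)) (.nd (.lf 0) (.lf 0))) (.nd (.nd (.lf 0) (.lf 0)) (.nd (.lf 0) (.lf 0)))))) (.nd (.nd (.nd (.nd (.nd (.lf 0) (.lf 1766847064778384329583297500742918515827483896875618958121606201292619777)) (.nd (.lf 0) (.lf 0))) (.nd (.nd (.lf 0) (.lf 105312291668557560842359485141345251160366889596809700532994179073)) (.nd (.lf 0)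 (.lf 0)))) (.nd (.nd (.nd (.lf 29642776611600010806818501745895749594813089576706643513351781623883647636471808) (.lf 0)) (.nd (.lf 6277102109531122221293464241969910043061984931804568616960) (.lf 0))) (.nd (.nd (.lf 0) (.lf 0)) (.nd (.lf 0) (.lf 0))))) (.nd (.nd (.nd (.nd (.lf 0) (.lf 497323266052563253755393054971599687731592426374271754342398599902962470388308664909825)) (.nd (.lf 0) (.lf 0))) (.nd (.nd (.lf 0) (.lf 497323266052563253755498367256991143182903641337374436820807458888750493270538559946753)) (.nd (.lf 497323236409786642155487560444766499022540771889612375826692908107617305318551409655808) (.lf 0)))) (.nd (.nd (.nd (.lf 497323266052561486908433588878938661246645160025983251699974932510526274358357530771457) (.lf 497323266052561486908433588872661559511258479262147462276767266089701552149548891111424)) (.nd (.lf 0) (.lf 0))) (.nd (.nd (.lf 497323266052561486908328276580993002324560561234465121072444155914896273328224488914944)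 (.lf 0)) (.nd (.lf 105312297945658922084621092264658386149703051943543686949496684545) (.lf 0))))))

/-- table part -/
def fmT_2 : Tr :=
  .nd (.nd (.nd (.nd (.nd (.nd (.lf 0) (.lf 497323236409788409002552338829096082320041514808129532538506340479934066394219438669825)) (.nd (.lf 1766847064778390606685032887445983098144665802696649165918125155634118656) (.lf 0))) (.nd (.nd (.lf 0) (.lf 0)) (.nd (.lf 0) (.lf 0)))) (.nd (.nd (.nd (.lf 0) (.lf 29642776611600010806818501745521605153355631901887960497882613891969556041170944)) (.nd (.lf 0) (.lf 0))) (.nd (.nd (.lf 0) (.lf 497323236409788409002552338822818980584654834044292413887382117310473071480288667762688)) (.nd (.lf 0) (.lf 0))))) (.nd (.nd (.nd (.nd (.lf 0) (.lf 0)) (.nd (.lf 0) (.lf 0))) (.nd (.nd (.lf 0) (.lf 374144441457457674818841471789473893824934061277185)) (.nd (.lf 105312297945659296229017948231936143744891769980892215160546000897)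 (.lf 0)))) (.nd (.nd (.nd (.lf 0) (.lf 29642776611600116119110170303082447512840771917910966623531309269187841667104768)) (.nd (.lf 0) (.lf 0))) (.nd (.nd (.lf 29642774844753051340732117821520333428385348010547729285871122398240921750601729) (.lf 0)) (.nd (.lf 1766847170090675998140484198683246944696446838912250076943647292103065600) (.lf 0)))))) (.nd (.nd (.nd (.nd (.nd (.lf 0) (.lf 29642774844753051340732117821146189009228635534259590183775158675200548070752256)) (.nd (.lf 1766847064778390606685407031842839062763967247859215151296846928680058881) (.lf 0))) (.nd (.nd (.lf 0) (.lf 497323266052563253755498367263268244544145925245244277714494949665202668612920329371649)) (.nd (.lf 0) (.lf 0)))) (.nd (.nd (.nd (.lf 0) (.lf 29642774844752946028434172162598248829593827221464206939439024223676748456263681)) (.nd (.lf 0) (.lf 0))) (.nd (.nd (.lf 0) (.lf 0)) (.nd (.lf 0) (.lf 0))))) (.nd (.nd (.nd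 (.nd (.lf 0) (.lf 0)) (.nd (.lf 0) (.lf 0))) (.nd (.nd (.lf 0) (.lf 29642774844753051340732117821146189009228636863487585968695753945209003019599873)) (.nd (.lf 0) (.lf 0)))) (.nd (.nd (.nd (.lf 0) (.lf 497323266052561486908328276580993002324560583535208990375071512530019275686656086114304)) (.nd (.lf 29642774844752946028434172162224104432737861272934686763804096409776060859678720) (.lf 0))) (.nd (.nd (.lf 497323236409786642155487560444766499022540771889613705054609464856253578305148500836353) (.lf 0)) (.nd (.lf 497323236409788409002447026537427525133343574479700663575564303844092878151733959720961) (.lf 0))))))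

/-- table part -/
def fmT_3 : Tr :=
  .nd fmT_1 fmT_2

/-- table part -/
def fmT_4 : Tr :=
  .nd (.nd (.nd (.nd (.nd (.nd (.lf 0) (.lf 0)) (.nd (.lf 497323266052563253755393054965322585996205723309692095616484348704500481483474884100096) (.lf 0))) (.nd (.nd (.lf 0) (.lf 6277102109531122221293464242049138210298615752267757780992)) (.nd (.lf 0) (.lf 0)))) (.nd (.nd (.nd (.lf 0) (.lf 0)) (.nd (.lf 0) (.lf 0))) (.nd (.nd (.lf 29642774844752946028434172162224104432737862602162603320552732682481182974148608) (.lf 1766847064778390606685407031842839064093195322872288816098508712859140096)) (.nd (.lf 497323266052561486908433588872661559511258479262147462276767266089701552431023867822081) (.lf 0))))) (.nd (.nd (.nd (.nd (.lf 0) (.lf 497323236409788409002552338822818980958799253201003560947446206318604893410269232889857)) (.nd (.lf 0) (.lf 0))) (.nd (.nd (.lf 0) (.lf 22300745198530702369698232537267430026641408))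 (.nd (.lf 1766847064778390606685407031842839064093195243644131024200653988960403456) (.lf 0)))) (.nd (.nd (.nd (.lf 0) (.lf 4722366764344638701569)) (.nd (.lf 0) (.lf 0))) (.nd (.nd (.lf 29642774844753051340725840719410802350765546272595001443815369862412900474290177) (.lf 0)) (.nd (.lf 29642776611600116119116447404443689774447896560274110200929835069455110852575233) (.lf 0)))))) (.nd (.nd (.nd (.nd (.nd (.lf 0) (.lf 29642776611600116119110170303082447490540026719380343481990868629775135522422784)) (.nd (.lf 497323236409788409002552338822818980958799230900258362416823064782886621043382686842880) (.lf 0))) (.nd (.nd (.lf 29642774844752946028434172162224104432737862602162682548715246946818776518098944) (.lf 1766847064778384329583297500742918517156711892660534831025694736549675008)) (.nd (.lf 105312291668557186697940328430198191017049714228356387139286466561) (.lf 0)))) (.nd (.nd (.nd (.lf 0)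 (.lf 497323236409786642155487560438489397661298510282489062691624343778033940230196724498433)) (.nd (.lf 1) (.lf 0))) (.nd (.nd (.lf 0) (.lf 0)) (.nd (.lf 0) (.lf 0))))) (.nd (.nd (.nd (.nd (.lf 0) (.lf 0)) (.nd (.lf 1766847170090675998140484198660946199497916294998881595301819393769472000) (.lf 0))) (.nd (.nd (.lf 0) (.lf 1766847064778390606685032887423682352946135100326950933380857725624254465)) (.nd (.lf 1766847170090675998140484198660946199497916215770719081037481800242298881) (.lf 0)))) (.nd (.nd (.nd (.lf 0) (.lf 497323266052563253755393054965322585996205723309690766388567791955864208496877792919552)) (.nd (.lf 497323266052561486908328276587270104434091683455757256086418281037362988251574091907073) (.lf 0))) (.nd (.nd (.lf 0) (.lf 0)) (.nd (.lf 29642776611600010806824778847631136253276178838371311481474084700445938806685697) (.lf 0))))))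

/-- table part -/
def fmT_5 : Tr :=
  .nd (.nd (.nd (.nd (.nd (.nd (.lf 0) (.lf 0)) (.nd (.lf 29642774844753051340725840719410802328464801074064378302279651590046013945020417) (.lf 0))) (.nd (.nd (.lf 0) (.lf 1766847064778384329583297500742918517156711971888697345290032330110402561)) (.nd (.lf 105312297945659296229040248975805446293020227311997000343221174273) (.lf 0)))) (.nd (.nd (.nd (.lf 0) (.lf 29642776611600116119110170303082447512840773247139041636604974070568150852698112)) (.nd (.lf 0) (.lf 0))) (.nd (.nd (.lf 0) (.lf 29642774844752946028434172162224104410437117403631980179017014410114296444878848)) (.nd (.lf 1766847064778390606685032887445983098144665802696649165918125155634118657) (.lf 0))))) (.nd (.nd (.nd (.nd (.lf 0) (.lf 0)) (.nd (.lf 0) (.lf 0))) (.nd (.nd (.lf 0) (.lf 29642776611600010806824778847256991834119469020539084721056797253366356457291776)) (.nd (.lf 497323236409786642155487560444766499022540771889612375826613679945103040699482888994816)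 (.lf 0)))) (.nd (.nd (.nd (.lf 0) (.lf 4722366482869645213696)) (.nd (.lf 497323236409786642155487560444766499396685191046323522886836225282985758350470123880448) (.lf 0))) (.nd (.nd (.lf 0) (.lf 0)) (.nd (.lf 29642774844752946028440449264333635510357664340115331162613207584792073878896640) (.lf 0)))))) (.nd (.nd (.nd (.nd (.nd (.lf 0) (.lf 105312291668557560842359485140016023085353806487275073009541447680)) (.nd (.lf 29642776611600010806824778847631136275576925366129930407925675877182835569721344) (.lf 0))) (.nd (.nd (.lf 0) (.lf 6277101735386680763835789423207666420824721927333679726593)) (.nd (.lf 497323266052563253755393054965322585996205745610435964919190933491582481145239282122752) (.lf 0)))) (.nd (.nd (.nd (.lf 0) (.lf 29642774844752946028434172162224104410437116074404063622268378136846224376987648)) (.nd (.lf 0) (.lf 0))) (.nd (.nd (.lf 0) (.lf 0)) (.nd (.lf 497323266052563253755393054971599687357447984916816737979548697949956750660364809535489)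 (.lf 0))))) (.nd (.nd (.nd (.nd (.lf 0) (.lf 497323266052563253755498367263268244544145902944500408411946821203149197626343019249664)) (.nd (.lf 0) (.lf 0))) (.nd (.nd (.lf 0) (.lf 497323236409788409002552338822818980584654834044293743115377902226345975287348948107264)) (.nd (.lf 29642776611600010806818501745895749572512343048948024586895468080663881228222464) (.lf 0)))) (.nd (.nd (.nd (.lf 0) (.lf 29642776611600010806824778847631136275576924036901934623009802973375775289376768)) (.nd (.lf 0) (.lf 0))) (.nd (.nd (.lf 29642774844752946028440449264333635532658409538646033532311440122059503905538048) (.lf 0)) (.nd (.lf 29642774844753051340725840719410802350765546272594922215652855598075306947117057) (.lf 0))))))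

/-- table part -/
def fmT_6 : Tr :=
  .nd fmT_4 fmT_5

/-- table part -/
def fmT_7 : Tr :=
  .nd fmT_3 fmT_6

/-- table part -/
def fmT_8 : Tr :=
  .nd (.nd (.nd (.nd (.nd (.nd (.lf 0) (.lf 497323266052563253755393054965322585622061326453724817858968388153699764057201983881217)) (.nd (.lf 0) (.lf 0))) (.nd (.nd (.lf 0) (.lf 497323266052563253755393054965322585622061326453724817858968388153699763775727023947776)) (.nd (.lf 6277102109531122221292135014053353289703345743812808933376) (.lf 0)))) (.nd (.nd (.nd (.lf 0) (.lf 497323236409786642155487560444766499022540771889613705054688693018767842361267068076032)) (.nd (.lf 0) (.lf 0))) (.nd (.nd (.lf 29642774844752946028434172162224104410437117403631980179017014410114296461656064) (.lf 29642776611600116119110170302708303093684062100078898319429605617817707115184128)) (.nd (.lf 497323266052561486908328276587270104434091683455757256086418281042085354734443737120769)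 (.lf 0))))) (.nd (.nd (.nd (.nd (.lf 0) (.lf 105312291668557186697918027683670432398123262637179931717516918785)) (.nd (.lf 497323266052561486908328276587270104434091661155010728327799354590494177997546974085121) (.lf 0))) (.nd (.nd (.lf 0) (.lf 497323236409788409002447026531150423397956916016608743454983994047835891267096190910464)) (.nd (.lf 0) (.lf 0)))) (.nd (.nd (.nd (.lf 0) (.lf 497323266052561486908328276580993002324560583535210319603067297445892179493716349681664)) (.nd (.lf 0) (.lf 0))) (.nd (.nd (.lf 105312291668557186697918027684999660393908173787717255908152049665) (.lf 0)) (.nd (.lf 29642776611600116119116447404443689774447897889502026757687916075125972274249729) (.lf 0)))))) (.nd (.nd (.nd (.nd (.nd (.lf 0) (.lf 497323236409788409002447026537427525507488015937155679938334977639306700024953916358656)) (.nd (.lf 0) (.lf 0))) (.nd (.nd (.lf 0) (.lf 1766847170090675998140484198683246946025674913925328464111510470933872640))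 (.nd (.lf 0) (.lf 0)))) (.nd (.nd (.nd (.lf 0) (.lf 497323266052561486908328276580993002324560561234463791844527599156815267375888124084225)) (.nd (.lf 0) (.lf 0))) (.nd (.nd (.lf 0) (.lf 0)) (.nd (.lf 497323236409786642155487560444766499396685191046323522886756997120471494012876596707329) (.lf 0))))) (.nd (.nd (.nd (.nd (.lf 0) (.lf 0)) (.nd (.lf 497323266052563253755498367256991142808759244481409817519283068164973216975516591980545) (.lf 0))) (.nd (.nd (.lf 281474976710657) (.lf 29642774844753051340732117821146189031529380732790134097153085049712710684508160)) (.nd (.lf 0) (.lf 0)))) (.nd (.nd (.nd (.lf 0) (.lf 497323266052563253755393054965322585622061304152980948556420259691646292789149697048577)) (.nd (.lf 0) (.lf 0))) (.nd (.nd (.lf 0) (.lf 0)) (.nd (.lf 0) (.lf 0))))))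

/-- table part -/
def fmT_9 : Tr :=
  .nd (.nd (.nd (.nd (.nd (.nd (.lf 0) (.lf 0)) (.nd (.lf 0) (.lf 0))) (.nd (.nd (.lf 105312291668557186697918027684999660393908173787717255908152049665) (.lf 497323266052561486908328276580993002698705002691921466663289842788497263627573246558208)) (.nd (.lf 0) (.lf 0)))) (.nd (.nd (.nd (.lf 29642776611600010806824778847256991834119467691311168164303438613896889704120321) (.lf 497323266052563253755498367263268244544145925245245606942490734576353205655635987791872)) (.nd (.lf 0) (.lf 0))) (.nd (.nd (.lf 0) (.lf 497323266052563253755393054971599687357448007217561936510251067643466920881975237541888)) (.nd (.lf 29642774844753051340732117821520333428385348010547729285866400032039527065321473) (.lf 0))))) (.nd (.nd (.nd (.nd (.lf 0) (.lf 497323236409788409002447026531150423772101312872574691984583397850000335988246959882240)) (.nd (.lf 0) (.lf 0))) (.nd (.nd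 (.lf 29642776611600116119110170303082447512840771917910966623531309269187841667104768) (.lf 497323236409788409002447026537427525507488015937157009166330762559901970314883858694144)) (.nd (.lf 1766847170090682275242593729783167492962158185680757420655649260172214273) (.lf 0)))) (.nd (.nd (.nd (.lf 105312291668557186697918027683670432398123257914813448847871705089) (.lf 1766847064778384329583297500742918515827483896875623680488370545931321345)) (.nd (.lf 0) (.lf 0))) (.nd (.nd (.lf 0) (.lf 0)) (.nd (.lf 0) (.lf 0)))))) (.nd (.nd (.nd (.nd (.nd (.lf 0) (.lf 29642776611600010806818501745521605175656377100418583639418332164899392507084801)) (.nd (.lf 0) (.lf 0))) (.nd (.nd (.lf 0) (.lf 22300746527758618926456313543219766408249345)) (.nd (.lf 105312297945658922084621092265987614145487963094081292615108526080) (.lf 0)))) (.nd (.nd (.nd (.lf 497323236409786642155487560444766499022540749588868506524065551487771936477250167242752)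 (.lf 29642774844752946028434172162598248829593828550692202724354897127202333743120385)) (.nd (.lf 0) (.lf 0))) (.nd (.nd (.lf 0) (.lf 0)) (.nd (.lf 497323236409786642155487560444766499396685191046323522886836225278263391867600495443968) (.lf 0))))) (.nd (.nd (.nd (.nd (.lf 0) (.lf 105312297945658922084598791520789083522346427375808362778642612224)) (.nd (.lf 0) (.lf 0))) (.nd (.nd (.lf 1329227995784915872904088535273832449) (.lf 497323236409786642155487560444766499022540771889612375826613679945103040980957848928257)) (.nd (.lf 29642776611600116119110170303082447512840773247138962408447182172713426970738688) (.lf 0)))) (.nd (.nd (.nd (.lf 0) (.lf 0)) (.nd (.lf 0) (.lf 0))) (.nd (.nd (.lf 0) (.lf 0)) (.nd (.lf 497323266052563253755498367263268244918290322101210226244094353467367113334071098343424) (.lf 0))))))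

/-- table part -/
def fmT_10 : Tr :=
  .nd fmT_8 fmT_9

/-- table part -/
def fmT_11 : Tr :=
  .nd (.nd (.nd (.nd (.nd (.nd (.lf 0) (.lf 29642776611600010806824778847631136275576925366129851179767883979328111654207489)) (.nd (.lf 374144419156712476288218330253755621458047548784640) (.lf 0))) (.nd (.nd (.lf 374144441457457674818762243631681995970210162540545) (.lf 6277102109531122221292135014053353294425711945207460659200)) (.nd (.lf 0) (.lf 0)))) (.nd (.nd (.nd (.lf 29642774844753051340732117821520333450686093209078352427406840671170758216515585) (.lf 105312291668557560842359485141345251081138722360178880069805015040)) (.nd (.lf 497323236409788409002552338822818980584654811743547215356679747612240534212858624344065) (.lf 0))) (.nd (.nd (.lf 29642774844753051340732117821520333428385348010547650057708608134184803183362049) (.lf 29642776611600010806818501745895749594813089576706643513347059257119303014547456))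 (.nd (.lf 29642774844752946028434172162598248829593827221464127711281232325540549564039169) (.lf 0))))) (.nd (.nd (.nd (.nd (.lf 0) (.lf 497323236409788409002552338822818980958799230900258362416902292950123251582370899296257)) (.nd (.lf 497323266052563253755393054965322585996205723309690766388488563793349944440759225679873) (.lf 0))) (.nd (.nd (.lf 0) (.lf 497323236409786642155487560438489397287154091125776586403485241691514949874087375142912)) (.nd (.lf 0) (.lf 0)))) (.nd (.nd (.nd (.lf 497323236409788409002447026531150423772101335173321219743123096139077248106075185479680) (.lf 29642776611600010806818501745895749594813089576706643513351781623883647619694593)) (.nd (.lf 0) (.lf 0))) (.nd (.nd (.lf 29642774844752946028440449264333635510357663010887414605855126579121212490776577) (.lf 0)) (.nd (.lf 105312297945658922084598791520789083522346432098175127123247759360) (.lf 0)))))) (.nd (.nd (.nd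 (.nd (.nd (.lf 0) (.lf 29642774844752946028434172162598248829593827221464127711276509959057679935602689)) (.nd (.lf 0) (.lf 0))) (.nd (.nd (.lf 0) (.lf 29642774844753051340732117821146189031529380732790134097148362683511316032782336)) (.nd (.lf 105312291668557186697940328428868963021264798355452580079006121984) (.lf 0)))) (.nd (.nd (.nd (.lf 0) (.lf 497323266052563253755498367263268244918290322101211555472090138378517650658261733474304)) (.nd (.lf 0) (.lf 0))) (.nd (.nd (.lf 29642776611600116119110170302708303093684060770850902534518455080493516480053249) (.lf 0)) (.nd (.lf 497323266052561486908328276580993002698704980391174938904591688169669456351688287846401) (.lf 0))))) (.nd (.nd (.nd (.nd (.lf 0) (.lf 29642776611600010806818501745895749572512343048948024586895468080945356204933121)) (.nd (.lf 497323266052563253755498367263268244918290344401955424774717495003085385700957644390401) (.lf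 0))) (.nd (.nd (.lf 0) (.lf 497323266052561486908433588878938661620789579182695727988114034601767630915861565407233)) (.nd (.lf 497323236409788409002447026537427525507488015937155679938334977644029066226348584861697) (.lf 0)))) (.nd (.nd (.nd (.lf 1766847170090675998140484198683246946025674834697165949847454352366632961) (.lf 0)) (.nd (.lf 0) (.lf 0))) (.nd (.nd (.lf 0) (.lf 0)) (.nd (.lf 497323266052561486908328276587270104434091661155012057555795139501644715321737625993216) (.lf 0))))))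

/-- table part -/
def fmT_12 : Tr :=
  .nd (.nd (.nd (.nd (.nd (.nd (.lf 0) (.lf 29642776611600010806824778847256991856420212889841712077676642622207657666150401)) (.nd (.lf 0) (.lf 0))) (.nd (.nd (.lf 0) (.lf 497323266052561486908328276580993002698705002691921466663289842788497263627573246558208)) (.nd (.lf 0) (.lf 0)))) (.nd (.nd (.nd (.lf 0) (.lf 29642776611600116119110170302708303093684060770850902534513732713729171841351681)) (.nd (.lf 0) (.lf 0))) (.nd (.nd (.lf 0) (.lf 374144419156711147060143317180090819514788376215552)) (.nd (.lf 0) (.lf 0))))) (.nd (.nd (.nd (.nd (.lf 0) (.lf 0)) (.nd (.lf 374144419156711147060222545337882717369512274952192) (.lf 0))) (.nd (.nd (.lf 497323236409788409002552338829096082320041492507383004779887414023620523174453030420480) (.lf 497323236409788409002447026537427525133343574479700663575564303844092878151733976498177)) (.nd (.lf 497323236409788409002447026531150423772101335173321219743202324306313879208013351354368)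 (.lf 0)))) (.nd (.nd (.nd (.lf 0) (.lf 1766847170090682275242219585341710035287339502665297697657263857820762113)) (.nd (.lf 29642774844752946028440449263959491091200951863827192060521966228234569861038081) (.lf 0))) (.nd (.nd (.lf 22300745198530623141535718272929836482691073) (.lf 0)) (.nd (.lf 0) (.lf 0)))))) (.nd (.nd (.nd (.nd (.nd (.lf 0) (.lf 0)) (.nd (.lf 29642776611600116119110170302708303071383315572320200164815500176743216791420929) (.lf 0))) (.nd (.nd (.lf 0) (.lf 497323236409788409002552338822818980584654811743547215356679747612240534212858641121281)) (.nd (.lf 29642774844752946028434172162224104432737861272934686763799374043011716237754368) (.lf 0)))) (.nd (.nd (.nd (.lf 0) (.lf 497323236409788409002447026531150423397956893715863544924440080674631883237803205591040)) (.nd (.lf 1766847170090682275242219585364010780485870046578670901665293150789304320) (.lf 0))) (.nd (.nd (.lf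 0) (.lf 0)) (.nd (.lf 497323236409788409002552338829096082320041514808128203310589783726575426643277708787713) (.lf 0))))) (.nd (.nd (.nd (.nd (.lf 0) (.lf 497323266052563253755498367256991143182903663638119635351509828586983030537968569810945)) (.nd (.lf 0) (.lf 0))) (.nd (.nd (.lf 0) (.lf 1766847064778384329583671645184375973502302659119250640117576411471937537)) (.nd (.lf 29642776611600116119116447404817834171303862508803551148411693351983944195637248) (.lf 0)))) (.nd (.nd (.nd (.lf 0) (.lf 497323266052561486908328276587270104434091683455757256086497509199877252589167635857408)) (.nd (.lf 29642776611600010806818501745521605153355633231115877054640694898203367399489536) (.lf 0))) (.nd (.nd (.lf 0) (.lf 0)) (.nd (.lf 497323236409788409002552338829096082694185933964839350370653872734707248854733267402752) (.lf 0))))))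

/-- table part -/
def fmT_13 : Tr :=
  .nd fmT_11 fmT_12

/-- table part -/
def fmT_14 : Tr :=
  .nd fmT_10 fmT_13

/-- table part -/
def fmT_15 : Tr :=
  .nd fmT_7 fmT_14

/-- table part -/
def fmT_16 : Tr :=
  .nd (.nd (.nd (.nd (.nd (.nd (.lf 0) (.lf 0)) (.nd (.lf 29642774844753051340725840719410802328464799744836303289196542055418490475511809) (.lf 0))) (.nd (.nd (.lf 0) (.lf 29642774844752946028434172162598248851894572419994750852816950598188911070019584)) (.nd (.lf 497323266052563253755498367256991142808759244481408488291366511411614577506049855586304) (.lf 0)))) (.nd (.nd (.nd (.lf 0) (.lf 0)) (.nd (.lf 497323266052561486908328276580993002698704980391174938904591688169669456351688271069184) (.lf 0))) (.nd (.nd (.lf 0) (.lf 1766847170090682275242219585364010781815098121591749288833719279590309889)) (.nd (.lf 0) (.lf 0))))) (.nd (.nd (.nd (.nd (.lf 0) (.lf 497323236409786642155382248153097942209987250717894653923814960489352671971785803038721))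 (.nd (.lf 497323266052561486908328276580993002324560583535208990375071512530019275686656069337088) (.lf 0))) (.nd (.nd (.lf 0) (.lf 497323236409786642155382248146820840474600592254805392259226220520119126499873909637120)) (.nd (.lf 0) (.lf 0)))) (.nd (.nd (.nd (.lf 0) (.lf 497323236409786642155487560438489397287154091125776586403485241691514949874087375142912)) (.nd (.lf 29642776611600116119116447404443689774447896560274030972772043171600386970615808) (.lf 0))) (.nd (.nd (.lf 1766847170090675998140858343080102910644976438316052241388368442855260160) (.lf 0)) (.nd (.lf 497323266052563253755393054971599687731592404073526555811775458367244197739947158929408) (.lf 0)))))) (.nd (.nd (.nd (.nd (.nd (.lf 0) (.lf 29642774844753051340725840719784946747621512221124521619450297676595063030808577)) (.nd (.lf 0) (.lf 0))) (.nd (.nd (.lf 0) (.lf 497323236409786642155487560438489397287154068825031387872862100155796677225725852385281))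 (.nd (.lf 29642774844753051340725840719410802328464801074064299074112414959225550772633600) (.lf 0)))) (.nd (.nd (.nd (.lf 0) (.lf 497323236409788409002552338822818980584654811743548544584675532528113438019918904688640)) (.nd (.lf 0) (.lf 0))) (.nd (.nd (.lf 0) (.lf 0)) (.nd (.lf 1766847170090675998140858343080102911974204434100968114292175503152381953) (.lf 0))))) (.nd (.nd (.nd (.nd (.lf 0) (.lf 29642776611600116119110170302708303093684060770850902534513732714010646834839552)) (.nd (.lf 1766847170090675998140484198660946199497916215770719081037200325265588225) (.lf 0))) (.nd (.nd (.lf 0) (.lf 22300746527758618926456313542938291431538689)) (.nd (.lf 497323236409788409002552338829096082694185911664095481068026516114861880294907001700352) (.lf 0)))) (.nd (.nd (.nd (.lf 0) (.lf 1766847064778390606685407031842839064093195243644126301833889644338479104)) (.nd (.lf 0) (.lf 0))) (.nd (.nd (.lf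 29642776611600010806824778847631136275576925366129851179763161612563767032283136) (.lf 0)) (.nd (.lf 497323266052561486908328276580993002698705002691920137435214829710110095482919422263296) (.lf 0))))))

/-- table part -/
def fmT_17 : Tr :=
  .nd (.nd (.nd (.nd (.nd (.nd (.lf 0) (.lf 497323266052561486908328276580993002324560561234465121072444155910173907126829820411904)) (.nd (.lf 497323236409786642155382248153097942209987250717894653923894188651866936309379346989057) (.lf 0))) (.nd (.nd (.lf 0) (.lf 374144419156712476288139102091241356838979011346433)) (.nd (.lf 497323236409788409002447026537427525507488015937155679938414205806543330563942145589249) (.lf 0)))) (.nd (.nd (.nd (.lf 1766847064778384329583671645162075226974544040192794326574638120040398848) (.lf 29642776611600116119116447404817834171303863838031546933327566255791004459204609)) (.nd (.lf 29642774844752946028440449263959491091200951863827192060517243861751700199047168)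 (.lf 0))) (.nd (.nd (.lf 0) (.lf 16777217)) (.nd (.lf 29642776611600116119116447404443689752147152690971482844309989700332334650228736) (.lf 0))))) (.nd (.nd (.nd (.nd (.lf 0) (.lf 0)) (.nd (.lf 0) (.lf 0))) (.nd (.nd (.lf 0) (.lf 497323236409788409002447026531150423397956916016610072682979778968431161838501093179393)) (.nd (.lf 374144441457456345590766458715809092444624875683841) (.lf 0)))) (.nd (.nd (.nd (.lf 0) (.lf 1766847170090675998140858343080102910644976438316052241388086967878549505)) (.nd (.lf 29642776611600010806818501745521605175656378429646579424338927435189322449420289) (.lf 0))) (.nd (.nd (.lf 0) (.lf 0)) (.nd (.lf 29642774844753051340725840719784946747621512221124442391292505778740339148849153) (.lf 0)))))) (.nd (.nd (.nd (.nd (.nd (.lf 0) (.lf 0)) (.nd (.lf 29642776611600116119116447404443689774447897889502026757683193708924577588969473) (.lf 0))) (.nd (.nd (.lf 29642774844752946028434172162224104410437117403632059407184251040934759634042880)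 (.lf 29642776611600116119116447404443689752147151361743407831236324898952025464635392)) (.nd (.lf 0) (.lf 0)))) (.nd (.nd (.nd (.lf 0) (.lf 1766847170090682275242219585341710035287339423437130461026443394631598080)) (.nd (.lf 1766847064778384329583671645162075228303772115205872713743064248841404417) (.lf 0))) (.nd (.nd (.lf 497323266052561486908328276580993002698705002691921466663289842788497263627573263335425) (.lf 0)) (.nd (.lf 29642774844752946028434172162598248851894573749222825865895337766615039871025152) (.lf 0))))) (.nd (.nd (.nd (.nd (.lf 0) (.lf 497323236409788409002552338822818980584654834044293743115377902221623608804479286116352)) (.nd (.lf 0) (.lf 0))) (.nd (.nd (.lf 0) (.lf 29642774844752946028440449263959491113501698391585890215131349302544715529322497)) (.nd (.lf 0) (.lf 0)))) (.nd (.nd (.nd (.lf 0) (.lf 497323236409788409002552338822818980584654811743547215356758975774754798550452185071617))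 (.nd (.lf 29642776611600010806824778847631136275576925366129851179767883979328111654207489) (.lf 0))) (.nd (.nd (.lf 0) (.lf 0)) (.nd (.lf 497323266052561486908328276580993002324560561234465121072523384077410537947293009575936) (.lf 0))))))

/-- table part -/
def fmT_18 : Tr :=
  .nd fmT_16 fmT_17

/-- table part -/
def fmT_19 : Tr :=
  .nd (.nd (.nd (.nd (.nd (.nd (.lf 0) (.lf 29642774844753051340725840719784946747621510891896525834534424772506527790530561)) (.nd (.lf 0) (.lf 0))) (.nd (.nd (.lf 0) (.lf 497323266052563253755393054971599687357447984916815408751552913034083846853304512413697)) (.nd (.lf 0) (.lf 0)))) (.nd (.nd (.nd (.lf 0) (.lf 497323266052561486908328276580993002698704980391176268132666701248056624496342095364096)) (.nd (.lf 0) (.lf 0))) (.nd (.nd (.lf 497323236409786642155382248153097941835842853861930034622290569760853029193894173081600) (.lf 105312297945658922084621092264658386228931209735441541673412198400))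 (.nd (.lf 29642774844753051340732117821146189009228635534259510955617366777345824155238400) (.lf 0))))) (.nd (.nd (.nd (.nd (.lf 0) (.lf 0)) (.nd (.lf 0) (.lf 0))) (.nd (.nd (.lf 0) (.lf 29642776611600116119110170303082447512840771917910966623526586902423497028403201)) (.nd (.lf 29642776611600116119110170302708303071383316901548275177898609711370740277706752) (.lf 0)))) (.nd (.nd (.nd (.lf 497323266052561486908328276580993002324560583535210319603067297445892179493716366458880) (.lf 29642774844753051340725840719410802328464799744836303289201264421901360120725505)) (.nd (.lf 0) (.lf 0))) (.nd (.nd (.lf 1329228075013078387168144653841072129) (.lf 0)) (.nd (.lf 497323236409788409002552338829096082694185911664094151840109959366225607308309927297025) (.lf 0)))))) (.nd (.nd (.nd (.nd (.nd (.lf 0) (.lf 0)) (.nd (.lf 0) (.lf 0))) (.nd (.nd (.lf 0) (.lf 1766847064778384329583297500742918517156711892660539553392177606194888705))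 (.nd (.lf 0) (.lf 0)))) (.nd (.nd (.nd (.lf 0) (.lf 6277102109531122221293464241969910047784351696149173764096)) (.nd (.lf 0) (.lf 0))) (.nd (.nd (.lf 0) (.lf 0)) (.nd (.lf 0) (.lf 0))))) (.nd (.nd (.nd (.nd (.lf 0) (.lf 0)) (.nd (.lf 0) (.lf 0))) (.nd (.nd (.lf 29642774844752946028434172162224104410437116074403984394101141506307236164534272) (.lf 6277101735386680763835789423286894578616620063532555173889)) (.nd (.lf 497323236409786642155382248146820840474600592254805392259305448682633390837467453587456) (.lf 0)))) (.nd (.nd (.nd (.lf 0) (.lf 497323236409788409002552338829096082320041492507384334007883198944215793464382955978753)) (.nd (.lf 1766847064778384329583671645184375972173074663334330044847567956506312704) (.lf 0))) (.nd (.nd (.lf 497323236409788409002447026537427525507488015937157009166409990717693867888132780720129) (.lf 0)) (.nd (.lf 0) (.lf 0))))))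

/-- table part -/
def fmT_20 : Tr :=
  .nd (.nd (.nd (.nd (.nd (.nd (.lf 0) (.lf 0)) (.nd (.lf 497323266052563253755498367263268244544145925245245606942490734581075572419980609716224) (.lf 0))) (.nd (.nd (.lf 0) (.lf 0)) (.nd (.lf 0) (.lf 0)))) (.nd (.nd (.nd (.lf 0) (.lf 0)) (.nd (.lf 0) (.lf 0))) (.nd (.nd (.lf 497323266052563253755498367256991142808759222180663289760743369871173938374818704392193) (.lf 1766847064778390606685032887445983096815437727683570778749699026833113088)) (.nd (.lf 6277102109531099920546936483350983596193174959252427505665) (.lf 0))))) (.nd (.nd (.nd (.nd (.lf 0) (.lf 29642774844752946028440449263959491113501698391585810986973557404689991630585856)) (.nd (.lf 0) (.lf 0))) (.nd (.nd (.lf 0) (.lf 29642774844752946028434172162224104410437116074404063622268378136846224376987649)) (.nd (.lf 497323266052561486908433588878938661246645160025983251700054160668318171931606469574657)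 (.lf 0)))) (.nd (.nd (.nd (.lf 0) (.lf 29642776611600116119110170303082447512840773247139041636609696437332495491399681)) (.nd (.lf 0) (.lf 0))) (.nd (.nd (.lf 29642774844752946028440449263959491113501697062357894430215476398737655248977921) (.lf 0)) (.nd (.lf 105312291668557560842337184394817492541440438005632963636247920641) (.lf 0)))))) (.nd (.nd (.nd (.nd (.nd (.lf 0) (.lf 0)) (.nd (.lf 497323236409788409002447026531150423772101335173319890515127311227926710781884550348800) (.lf 0))) (.nd (.nd (.lf 0) (.lf 29642774844752946028434172162598248829593828550692202724359619493685203405111296)) (.nd (.lf 0) (.lf 0)))) (.nd (.nd (.nd (.lf 0) (.lf 497323236409788409002552338822818980584654834044293743115377902221623608523004326182912)) (.nd (.lf 497323236409788409002552338829096082694185933964840679598649657650580152943268507680769) (.lf 0))) (.nd (.nd (.lf 0) (.lf 0)) (.nd (.lf 1766847170090675998140858343080102911974204354872810322394320779236868097)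 (.lf 0))))) (.nd (.nd (.nd (.nd (.lf 0) (.lf 497323236409786642155487560444766499396685191046323522886756997120471493731401603219456)) (.nd (.lf 0) (.lf 0))) (.nd (.nd (.lf 497323236409788409002447026531150423397956916016610072682979778963708795074156454477825) (.lf 497323236409786642155487560438489397287154068825032717100857885071669580751311172796416)) (.nd (.lf 29642776611600116119110170303082447512840773247139041636609696437332495474622464) (.lf 0)))) (.nd (.nd (.nd (.lf 29642774844752946028434172162224104432737862602162603320552732682762657950859264) (.lf 29642774844753051340725840719410802350765544943366926430732260328066851981492224)) (.nd (.lf 0) (.lf 0))) (.nd (.nd (.lf 0) (.lf 0)) (.nd (.lf 1329228075013078387168144653841072128) (.lf 0))))))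

/-- table part -/
def fmT_21 : Tr :=
  .nd fmT_19 fmT_20

/-- table part -/
def fmT_22 : Tr :=
  .nd fmT_18 fmT_21

/-- table part -/
def fmT_23 : Tr :=
  .nd (.nd (.nd (.nd (.nd (.nd (.lf 0) (.lf 0)) (.nd (.lf 29642776611600010806824778847631136253276180167599307266394679971017343692177408) (.lf 0))) (.nd (.nd (.lf 0) (.lf 1766847170090682275242219585341710036616567419222046333929968979918454785)) (.nd (.lf 0) (.lf 0)))) (.nd (.nd (.nd (.lf 0) (.lf 29642774844752946028440449264333635510357663010887335377697334680985013598552065)) (.nd (.lf 0) (.lf 0))) (.nd (.nd (.lf 0) (.lf 105312297945658922084598791520789083601574594612439183241814999040)) (.nd (.lf 497323236409786642155382248153097942209987250717895983151889973567739840116439610556417) (.lf 0))))) (.nd (.nd (.nd (.nd (.lf 0) (.lf 497323266052563253755393054965322585622061304152980948556341031529132028451556153098241)) (.nd (.lf 1766847064778384329583671645162075226974544040192794326574919595017109505)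 (.lf 0))) (.nd (.nd (.lf 0) (.lf 29642774844753051340732117821520333450686091879850277414323731136543234747006977)) (.nd (.lf 0) (.lf 0)))) (.nd (.nd (.nd (.lf 0) (.lf 105312297945658922084598791519459855526561511502904555718362267649)) (.nd (.lf 0) (.lf 0))) (.nd (.nd (.lf 0) (.lf 0)) (.nd (.lf 0) (.lf 0)))))) (.nd (.nd (.nd (.nd (.nd (.lf 0) (.lf 497323236409786642155382248146820840100456173098092915971087118433600136143764543504385)) (.nd (.lf 0) (.lf 0))) (.nd (.nd (.lf 29642774844752946028434172162598248829593828550692123496197105229629084821094400) (.lf 497323236409788409002552338822818980958799253201003560947525434481119157747862760062976)) (.nd (.lf 0) (.lf 0)))) (.nd (.nd (.nd (.lf 0) (.lf 497323236409788409002447026531150423772101335173319890515127311223204344580489898622976)) (.nd (.lf 0) (.lf 0))) (.nd (.nd (.lf 0) (.lf 0)) (.nd (.lf 497323266052561486908328276580993002324560583535210319603067297445892179775191343169537)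 (.lf 0))))) (.nd (.nd (.nd (.nd (.lf 0) (.lf 497323266052563253755498367256991143182903641337375766048803243804623397077598823514113)) (.nd (.lf 0) (.lf 0))) (.nd (.nd (.lf 0) (.lf 1766847170090675998140858343080102910644976438316052241388086967895326720)) (.nd (.lf 497323266052561486908433588878938661246645182326728450230598074041522180523849408315392) (.lf 0)))) (.nd (.nd (.nd (.lf 29642774844753051340732117821520333450686093209078273199239604040068820067418112) (.lf 0)) (.nd (.lf 29642774844753051340732117821146189031529380732790134097153085049712710701285377) (.lf 0))) (.nd (.nd (.lf 105312291668557186697918027683670432398123262637179931717500141569) (.lf 0)) (.nd (.lf 0) (.lf 0))))))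

/-- table part -/
def fmT_24 : Tr :=
  .nd (.nd (.nd (.nd (.nd (.nd (.lf 0) (.lf 0)) (.nd (.lf 0) (.lf 0))) (.nd (.nd (.lf 0) (.lf 497323236409786642155382248146820840474600569954058864500607294068527950044452106534913)) (.nd (.lf 497323236409788409002552338822818980958799253201004890175521219401714428319267662331904) (.lf 0)))) (.nd (.nd (.nd (.lf 0) (.lf 497323266052563253755498367263268244918290322101210226244094353467367113334071115120641)) (.nd (.lf 497323266052563253755393054971599687731592404073527885039771243283117101265532462563328) (.lf 0))) (.nd (.nd (.lf 0) (.lf 497323236409788409002447026537427525133343596780445862106187445384533517001490150981632)) (.nd (.lf 497323266052563253755393054971599687731592404073526555811775458367244197458472165441537) (.lf 0))))) (.nd (.nd (.nd (.nd (.lf 0) (.lf 497323266052563253755393054965322585996205723309692095616484348704500481483474884100096))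 (.nd (.lf 497323266052561486908433588872661559511258501562892660807390407625419824797910397091841) (.lf 0))) (.nd (.nd (.lf 0) (.lf 497323266052563253755498367256991143182903663638119635351430600424468765918900065927169)) (.nd (.lf 497323266052563253755498367263268244544145902944499079183951036287276293537807762194433) (.lf 0)))) (.nd (.nd (.nd (.lf 0) (.lf 0)) (.nd (.lf 0) (.lf 0))) (.nd (.nd (.lf 105312291668557186697940328428868963021264793633086097209360908289) (.lf 0)) (.nd (.lf 29642776611600010806824778847631136253276178838371232253311570436108345245958144) (.lf 0)))))) (.nd (.nd (.nd (.nd (.nd (.lf 0) (.lf 497323266052561486908433588878938661246645182326729779458673087119909348387028239122432)) (.nd (.lf 0) (.lf 0))) (.nd (.nd (.lf 0) (.lf 497323236409786642155487560444766499022540749588868506523986323325257671858181646581761)) (.nd (.lf 1766847064778384329583297500765219261026014520017159398760737432460591104)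 (.lf 0)))) (.nd (.nd (.nd (.lf 0) (.lf 497323266052563253755498367263268244544145925245244277714574177827716932950513890099200)) (.nd (.lf 0) (.lf 0))) (.nd (.nd (.lf 1766847064778390606685032887445983096815437727683575501116463371471814656) (.lf 0)) (.nd (.lf 497323236409788409002447026531150423772101335173319890515127311227926710781884550348801) (.lf 0))))) (.nd (.nd (.nd (.nd (.lf 0) (.lf 29642776611600116119110170303082447512840773247138962408447182172713426953961472)) (.nd (.lf 0) (.lf 0))) (.nd (.nd (.lf 0) (.lf 497323266052561486908328276587270104434091661155010728327878582748286076133745866309633)) (.nd (.lf 497323266052561486908433588878938661246645160025984580927970717426399177883942851182593) (.lf 0)))) (.nd (.nd (.nd (.lf 0) (.lf 6277102109531099920548265711346768507343712283443045859328)) (.nd (.lf 497323236409786642155382248146820840474600592254804063031230435608968589175683257729025)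 (.lf 0))) (.nd (.nd (.lf 1766847064778390606685032887423682352946135100326950933380857725607477248) (.lf 0)) (.nd (.lf 29642774844752946028440449263959491113501698391585810986968835038207122002149377) (.lf 0))))))

/-- table part -/
def fmT_25 : Tr :=
  .nd fmT_23 fmT_24

/-- table part -/
def fmT_26 : Tr :=
  .nd (.nd (.nd (.nd (.nd (.nd (.lf 0) (.lf 497323266052561486908433588872661559511258479262147462276767266089701552431023867822081)) (.nd (.lf 497323266052563253755393054965322585622061326453726147086964173069572667864262281003008) (.lf 0))) (.nd (.nd (.lf 0) (.lf 22300746527758618926451591176455421803102208)) (.nd (.lf 0) (.lf 0)))) (.nd (.nd (.nd (.lf 0) (.lf 497323266052561486908328276580993002698705002691921466663289842783774896863228641411072)) (.nd (.lf 0) (.lf 0))) (.nd (.nd (.lf 0) (.lf 29642776611600010806818501745895749572512344378176099599973855248808535052517377)) (.nd (.lf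 29642774844752946028434172162224104410437116074404063622268378137127699353698304) (.lf 0))))) (.nd (.nd (.nd (.nd (.lf 0) (.lf 29642776611600116119116447404443689752147151361743487059398839163008144015097856)) (.nd (.lf 0) (.lf 0))) (.nd (.nd (.lf 0) (.lf 29642774844753051340732117821520333428385348010547729285866400032039527065321473)) (.nd (.lf 6277102109531122221292135013974125127189081406219248205825) (.lf 0)))) (.nd (.nd (.nd (.lf 0) (.lf 0)) (.nd (.lf 0) (.lf 0))) (.nd (.nd (.lf 0) (.lf 0)) (.nd (.lf 497323266052561486908328276580993002698705002691920137435214829705387729000049777049601) (.lf 0)))))) (.nd (.nd (.nd (.nd (.nd (.lf 0) (.lf 497323266052563253755393054965322585622061304152979619328424474775773388982089399926785)) (.nd (.lf 0) (.lf 0))) (.nd (.nd (.lf 0) (.lf 497323266052561486908328276587270104434091683455755926858422496126212450927383473553408)) (.nd (.lf 0) (.lf 0))))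 (.nd (.nd (.nd (.lf 0) (.lf 497323236409788409002447026537427525133343574479699334347647747090734238682267240103937)) (.nd (.lf 0) (.lf 0))) (.nd (.nd (.lf 0) (.lf 0)) (.nd (.lf 105312297945659296229040248977134674288805138462534324533856305153) (.lf 0))))) (.nd (.nd (.nd (.nd (.lf 0) (.lf 1766847064778384329583671645162075228303772035977710199478726655297454081)) (.nd (.lf 497323236409788409002447026531150423772101312872574691984583397854722702471116588318720) (.lf 0))) (.nd (.nd (.lf 0) (.lf 497323236409788409002552338829096082694185933964840679598649657650580152661793530970112)) (.nd (.lf 29642774844752946028440449263959491091200953193055187845433116765558760496168961) (.lf 0)))) (.nd (.nd (.nd (.lf 0) (.lf 497323236409786642155382248153097942209987273018639852454438102025070944620147292241921)) (.nd (.lf 0) (.lf 0))) (.nd (.nd (.lf 0) (.lf 0)) (.nd (.lf 497323266052563253755393054965322585622061326453724817858968388153699763775727023947777)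 (.lf 0))))))

/-- table part -/
def fmT_27 : Tr :=
  .nd (.nd (.nd (.nd (.nd (.nd (.lf 0) (.lf 0)) (.nd (.lf 497323236409788409002447026537427525507487993636410481407711836108310793859462055591937) (.lf 0))) (.nd (.nd (.lf 0) (.lf 0)) (.nd (.lf 29642774844753051340725840719784946769922256090427069747912351147300165380997120) (.lf 0)))) (.nd (.nd (.nd (.lf 0) (.lf 497323266052561486908433588872661559885402920719605137095608737879175446255957912322048)) (.nd (.lf 29642776611600010806818501745895749594813088247478726956593700617649836278153216) (.lf 0))) (.nd (.nd (.lf 0) (.lf 497323236409788409002447026531150423397956916016608743454983994047835891548571167621120)) (.nd (.lf 29642776611600010806818501745895749572512343048948103815057982345001474755395584) (.lf 0))))) (.nd (.nd (.nd (.nd (.lf 0) (.lf 0)) (.nd (.lf 0) (.lf 0))) (.nd (.nd (.lf 0) (.lf 29642774844753051340732117821146189009228636863487506740528517314388539813658625))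 (.nd (.lf 497323266052561486908328276580993002698705002691921466663210614621260632525635097460737) (.lf 0)))) (.nd (.nd (.nd (.lf 0) (.lf 29642776611600010806824778847631136253276180167599228038232165706679750148227073)) (.nd (.lf 0) (.lf 0))) (.nd (.nd (.lf 29642774844752946028434172162224104432737862602162603320552732682762657967636481) (.lf 0)) (.nd (.lf 497323236409788409002552338829096082694185911664095481068026516119584246777776663691265) (.lf 0)))))) (.nd (.nd (.nd (.nd (.nd (.lf 0) (.lf 0)) (.nd (.lf 29642776611600010806818501745895749594813088247478647728431186353312242734202880) (.lf 0))) (.nd (.nd (.lf 0) (.lf 497323236409788409002447026537427525133343596780445862106187445379811150800095482478593)) (.nd (.lf 497323266052563253755498367256991143182903663638119635351430600419746399717505397424128) (.lf 0)))) (.nd (.nd (.nd (.lf 29642774844752946028434172162224104410437116074403984394101141506025761187823616)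 (.lf 0)) (.nd (.lf 0) (.lf 0))) (.nd (.nd (.lf 0) (.lf 0)) (.nd (.lf 0) (.lf 0))))) (.nd (.nd (.nd (.nd (.lf 0) (.lf 497323266052561486908328276580993002324560561234463791844527599161537633858757769297921)) (.nd (.lf 1766847064778384329583671645162075228303772035977714921844928049965957120) (.lf 0))) (.nd (.nd (.lf 0) (.lf 29642774844752946028434172162598248829593827221464127711276509959339154912313344)) (.nd (.lf 1766847064778384329583297500742918515827483896875618958121606201292619776) (.lf 0)))) (.nd (.nd (.nd (.lf 0) (.lf 497323266052561486908433588872661559511258479262147462276846494256938182970012063498240)) (.nd (.lf 0) (.lf 0))) (.nd (.nd (.lf 105312297945658922084621092265987614145487963094081011140131815424) (.lf 0)) (.nd (.lf 105312291668557186697940328430198191017049709505989904269658030081) (.lf 0))))))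

/-- table part -/
def fmT_28 : Tr :=
  .nd fmT_26 fmT_27

/-- table part -/
def fmT_29 : Tr :=
  .nd fmT_25 fmT_28

/-- table part -/
def fmT_30 : Tr :=
  .nd fmT_22 fmT_29

/-- table part -/
def fmT_31 : Tr :=
  .nd fmT_15 fmT_30

/-- table part -/
def fmT_32 : Tr :=
  .nd (.nd (.nd (.nd (.nd (.nd (.lf 0) (.lf 0)) (.nd (.lf 0) (.lf 0))) (.nd (.nd (.lf 0) (.lf 497323266052563253755393054965322585622061326453726147087043401232086932201855824953345)) (.nd (.lf 0) (.lf 0)))) (.nd (.nd (.nd (.lf 0) (.lf 0)) (.nd (.lf 497323236409788409002447026531150423772101335173321219743123096139077248387550162190336) (.lf 0))) (.nd (.nd (.lf 0) (.lf 497323236409788409002552338822818980958799230900259691644898077861273789188036511137792)) (.nd (.lf 29642776611600010806818501745895749572512343048948024586900190447428225833369601) (.lf 0))))) (.nd (.nd (.nd (.nd (.lf 0) (.lf 29642776611600116119110170302708303071383316901548195949731373080550277088542721))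 (.nd (.lf 0) (.lf 0))) (.nd (.nd (.lf 0) (.lf 29642774844752946028440449263959491113501698391585890215136071668746110214602752)) (.nd (.lf 0) (.lf 0)))) (.nd (.nd (.nd (.lf 0) (.lf 497323236409788409002552338829096082694185911664095481068105744282098510833895214153729)) (.nd (.lf 105312297945658922084621092265987614145487963094081011140131815425) (.lf 0))) (.nd (.nd (.lf 0) (.lf 0)) (.nd (.lf 22300745198530702369702954903750299671855105) (.lf 0)))))) (.nd (.nd (.nd (.nd (.nd (.lf 0) (.lf 0)) (.nd (.lf 497323236409788409002552338829096082694185933964839350370733100901943879956671433277440) (.lf 0))) (.nd (.nd (.lf 0) (.lf 1766847064778384329583671645184375972173074663334334767214050826151526401)) (.nd (.lf 0) (.lf 0)))) (.nd (.nd (.nd (.lf 0) (.lf 29642774844753051340725840719410802328464801074064299074112414959225550772633600)) (.nd (.lf 0) (.lf 0))) (.nd (.nd (.lf 0) (.lf 0)) (.nd (.lf 497323266052563253755498367263268244918290322101210226244015125300130482513607925956608)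 (.lf 0))))) (.nd (.nd (.nd (.nd (.lf 0) (.lf 0)) (.nd (.lf 0) (.lf 0))) (.nd (.nd (.lf 497323266052561486908328276580993002698704980391174938904670916332183720407806855086081) (.lf 0)) (.nd (.lf 0) (.lf 0)))) (.nd (.nd (.nd (.lf 0) (.lf 29642776611600116119116447404443689774447897889502105985845707973262171149697025)) (.nd (.lf 497323236409788409002447026531150423397956893715864874152435865595227153246258154438656) (.lf 0))) (.nd (.nd (.lf 497323236409786642155382248146820840474600569954058864500686522235764580864915312476161) (.lf 0)) (.nd (.lf 0) (.lf 0))))))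

/-- table part -/
def fmT_33 : Tr :=
  .nd (.nd (.nd (.nd (.nd (.nd (.lf 0) (.lf 497323266052561486908328276580993002698705002691920137435294057867901993056168344289280)) (.nd (.lf 0) (.lf 0))) (.nd (.nd (.lf 0) (.lf 29642776611600010806818501745895749572512343048948024586900190447146750873436161)) (.nd (.lf 6277101735386680763835789423286894578616619782057595240448) (.lf 0)))) (.nd (.nd (.nd (.lf 0) (.lf 0)) (.nd (.lf 497323236409788409002447026531150423772101312872576021212579182770595606278176868663296) (.lf 0))) (.nd (.nd (.lf 0) (.lf 29642774844752946028434172162598248829593828550692202724359619493966678381821952)) (.nd (.lf 0) (.lf 0))))) (.nd (.nd (.nd (.nd (.lf 0) (.lf 0)) (.nd (.lf 497323266052561486908433588872661559511258501562892660807469635787934089135503924264961) (.lf 0))) (.nd (.nd (.lf 0) (.lf 79228162514264337593543950336)) (.nd (.lf 22300745198530623141535718272648361505980417)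 (.lf 0)))) (.nd (.nd (.nd (.lf 0) (.lf 29642774844752946028440449264333635532658408209418037747395567218252443625193472)) (.nd (.lf 0) (.lf 0))) (.nd (.nd (.lf 105312297945658922084621092265987614145487963094081292615125303296) (.lf 0)) (.nd (.lf 0) (.lf 0)))))) (.nd (.nd (.nd (.nd (.nd (.lf 0) (.lf 497323236409786642155487560444766499022540749588868506524065551483049569994380522029057)) (.nd (.lf 29642776611600010806824778847631136253276178838371311481474084700445938806685697) (.lf 0))) (.nd (.nd (.lf 497323236409788409002447026531150423772101335173321219743123096139077248387550162190337) (.lf 16777216)) (.nd (.lf 0) (.lf 0)))) (.nd (.nd (.nd (.lf 0) (.lf 29642776611600010806818501745521605153355631901887960497887336258452425669607425)) (.nd (.lf 0) (.lf 0))) (.nd (.nd (.lf 497323266052563253755393054971599687357447984916816737979548697945234383896020170833920) (.lf 0)) (.nd (.lf 0) (.lf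 0))))) (.nd (.nd (.nd (.nd (.lf 0) (.lf 29642774844752946028440449264333635532658409538645954304148925857440435401654273)) (.nd (.lf 0) (.lf 0))) (.nd (.nd (.lf 1329227995784915872903807060297121793) (.lf 497323266052563253755498367263268244544145902944500408411867593040634933007274498588673)) (.nd (.lf 29642774844752946028440449264333635532658408209418037747390844851769573979979776) (.lf 0)))) (.nd (.nd (.nd (.lf 0) (.lf 497323236409786642155487560438489397661298510282489062691545115615519675892603197325312)) (.nd (.lf 0) (.lf 0))) (.nd (.nd (.lf 0) (.lf 0)) (.nd (.lf 0) (.lf 0))))))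

/-- table part -/
def fmT_34 : Tr :=
  .nd fmT_32 fmT_33

/-- table part -/
def fmT_35 : Tr :=
  .nd (.nd (.nd (.nd (.nd (.nd (.lf 0) (.lf 29642776611600010806818501745895749572512344378176099599973855249090010029228033)) (.nd (.lf 6277101735386680763835789423207666416102355444464034512896) (.lf 0))) (.nd (.nd (.lf 0) (.lf 497323236409786642155382248146820840474600569954060193728603078984400854132987380367361)) (.nd (.lf 497323266052563253755498367256991142808759244481408488291366511411614577224574862098432) (.lf 0)))) (.nd (.nd (.nd (.lf 0) (.lf 497323236409786642155487560438489397661298510282489062691545115620242042375472842539009)) (.nd (.lf 0) (.lf 0))) (.nd (.nd (.lf 1329227995784920595270289929925558272) (.lf 497323266052563253755393054971599687357447984916816737979548697945234384177495147544577)) (.nd (.lf 497323266052563253755393054971599687357448007217561936510171839480952656825856670302208)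 (.lf 0))))) (.nd (.nd (.nd (.nd (.lf 0) (.lf 0)) (.nd (.lf 0) (.lf 0))) (.nd (.nd (.lf 0) (.lf 497323266052563253755393054965322585622061304152980948556341031529132028451556153098240)) (.nd (.lf 497323236409788409002552338822818980958799253201004890175441991239200163700199141670913) (.lf 0)))) (.nd (.nd (.nd (.lf 0) (.lf 497323266052563253755498367263268244918290322101210226244094353462644746569726493196288)) (.nd (.lf 0) (.lf 0))) (.nd (.nd (.lf 0) (.lf 0)) (.nd (.lf 29642776611600116119110170302708303093684060770850823306351218449673053290889217) (.lf 0)))))) (.nd (.nd (.nd (.nd (.nd (.lf 0) (.lf 0)) (.nd (.lf 0) (.lf 0))) (.nd (.nd (.lf 0) (.lf 497323236409788409002447026531150423397956893715864874152356637427990522425794965274625)) (.nd (.lf 29642776611600010806818501745895749594813089576706643513351781623883647636471808) (.lf 0)))) (.nd (.nd (.nd (.lf 0) (.lf 497323236409786642155487560438489397287154068825032717100778656909155316695192605556736))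 (.nd (.lf 0) (.lf 0))) (.nd (.nd (.lf 0) (.lf 0)) (.nd (.lf 0) (.lf 0))))) (.nd (.nd (.nd (.nd (.lf 0) (.lf 0)) (.nd (.lf 497323236409786642155487560438489397287154068825032717100778656909155316413717628846081) (.lf 0))) (.nd (.nd (.lf 6277101735386680763835789423207666416102355444464034512896) (.lf 0)) (.nd (.lf 0) (.lf 0)))) (.nd (.nd (.nd (.lf 29642776611600010806818501745895749594813089576706643513351781623602172642983937) (.lf 497323266052563253755393054965322585996205723309690766388488563793349944159284248969216)) (.nd (.lf 0) (.lf 0))) (.nd (.nd (.lf 497323266052561486908433588872661559885402920719603807867533724805510644312698773307393) (.lf 0)) (.nd (.lf 497323236409788409002447026531150423772101335173319890515127311223204344580489881845761) (.lf 0))))))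

/-- table part -/
def fmT_36 : Tr :=
  .nd (.nd (.nd (.nd (.nd (.nd (.lf 0) (.lf 497323236409786642155487560438489397661298487981743864160921974084523769727111319781377)) (.nd (.lf 0) (.lf 0))) (.nd (.nd (.lf 0) (.lf 374144419156712476288218330258477987659442200510464)) (.nd (.lf 6277101735386680763835789423207666420824722208808656437248) (.lf 0)))) (.nd (.nd (.nd (.lf 0) (.lf 497323236409788409002552338822818980958799253201003560947525434481119157747862776840192)) (.nd (.lf 0) (.lf 0))) (.nd (.nd (.lf 497323266052561486908328276580993002698705002691920137435214829710110095201444445552641) (.lf 29642774844752946028440449264333635532658408209417958519233052953633375104532481)) (.nd (.lf 105312291668557186697918027684999660314680011273452918314608099328) (.lf 0))))) (.nd (.nd (.nd (.nd (.lf 0) (.lf 497323266052561486908433588878938661620789601483440926518816404295277801700421963612161)) (.nd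 (.lf 497323236409788409002552338822818980584654834044292413887382117305750704715944045838337) (.lf 0))) (.nd (.nd (.lf 497323236409786642155487560438489397661298487981743864160921974079801402962766714634240) (.lf 1766847064778384329583297500765219261026014520017154676394254562815377408)) (.nd (.lf 29642774844752946028440449263959491113501697062357815202057684500601456373530625) (.lf 0)))) (.nd (.nd (.nd (.lf 497323266052563253755498367263268244544145925245244277714494949665202668331445369438208) (.lf 1766847064778384329583297500742918517156711971888702067656233724778905600)) (.nd (.lf 0) (.lf 0))) (.nd (.nd (.lf 497323236409788409002447026531150423772101312872576021212579182770595606278176885440512) (.lf 0)) (.nd (.lf 105312291668557186697918027683670432398123257914813448847854927872) (.lf 0)))))) (.nd (.nd (.nd (.nd (.nd (.lf 0) (.lf 497323266052563253755498367263268244918290344401956754002634051756444025451899357495296))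 (.nd (.lf 0) (.lf 0))) (.nd (.nd (.lf 0) (.lf 1766847064778384329583671645184375972173074663334334767213769351191592961)) (.nd (.lf 497323266052561486908433588878938661620789601483440926518737176137485903564223088164865) (.lf 0)))) (.nd (.nd (.nd (.lf 0) (.lf 105312297945659296229017948231936143665663607466627877567018827777)) (.nd (.lf 0) (.lf 0))) (.nd (.nd (.lf 79228167236631101938182651904) (.lf 0)) (.nd (.lf 1766847170090682275242593729783167491632930189895846270118606544513794048) (.lf 0))))) (.nd (.nd (.nd (.nd (.lf 0) (.lf 29642776611600010806824778847631136275576924036901934623009802973094300312666113)) (.nd (.lf 0) (.lf 0))) (.nd (.nd (.lf 374144419156712476288218330258477987659442200510465) (.lf 497323266052563253755498367263268244918290344401956754002634051756444025170424380784641)) (.nd (.lf 497323236409786642155382248153097941835842831561184836091667428225134756264057690390529)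 (.lf 0)))) (.nd (.nd (.nd (.lf 0) (.lf 29642774844752946028434172162224104410437116074404063622263655770644829708484609)) (.nd (.lf 0) (.lf 0))) (.nd (.nd (.lf 0) (.lf 0)) (.nd (.lf 0) (.lf 0))))))

/-- table part -/
def fmT_37 : Tr :=
  .nd fmT_35 fmT_36

/-- table part -/
def fmT_38 : Tr :=
  .nd fmT_34 fmT_37

/-- table part -/
def fmT_39 : Tr :=
  .nd (.nd (.nd (.nd (.nd (.nd (.lf 0) (.lf 497323266052563253755498367256991143182903641337374436820807458888750493552013536657409)) (.nd (.lf 0) (.lf 0))) (.nd (.nd (.lf 497323236409788409002447026531150423772101312872574691984583397850000335988246959882240) (.lf 497323236409788409002447026537427525507488015937157009166330762555179603550539219992577)) (.nd (.lf 0) (.lf 0)))) (.nd (.nd (.nd (.lf 0) (.lf 22300746527758618926451591176455421786324993)) (.nd (.lf 0) (.lf 0))) (.nd (.nd (.lf 0) (.lf 497323266052563253755393054971599687357448007217561936510171839485675023027251338805249))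 (.nd (.lf 497323266052563253755498367263268244544145902944499079183871808129484395683083863457793) (.lf 0))))) (.nd (.nd (.nd (.nd (.lf 0) (.lf 497323266052561486908328276587270104059947241998300910495651822326276262571293854924801)) (.nd (.lf 497323236409786642155382248153097941835842853861928705394374013007494389724427436687361) (.lf 0))) (.nd (.nd (.lf 0) (.lf 497323266052563253755393054971599687357448007217560607282176054565079753018796389957632)) (.nd (.lf 1766847170090682275242219585364010780485870125806833415929912219309965313) (.lf 0)))) (.nd (.nd (.nd (.lf 0) (.lf 29642774844752946028434172162224104432737862602162682548715246947100251494809600)) (.nd (.lf 0) (.lf 0))) (.nd (.nd (.lf 0) (.lf 0)) (.nd (.lf 0) (.lf 0)))))) (.nd (.nd (.nd (.nd (.nd (.lf 0) (.lf 105312291668557186697940328428868963021264793633086378684337618944)) (.nd (.lf 0) (.lf 0))) (.nd (.nd (.lf 0) (.lf 6277101735386680763837118651282679499211890353462480732161))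 (.nd (.lf 0) (.lf 0)))) (.nd (.nd (.nd (.lf 0) (.lf 0)) (.nd (.lf 29642776611600010806818501745895749594813089576706643513351781623602172659761152) (.lf 0))) (.nd (.nd (.lf 0) (.lf 0)) (.nd (.lf 497323266052561486908433588872661559511258501562892660807390407625419824797910397091841) (.lf 0))))) (.nd (.nd (.nd (.nd (.lf 0) (.lf 29642776611600116119116447404817834193604607707334253518105203522205554606866433)) (.nd (.lf 0) (.lf 0))) (.nd (.nd (.lf 0) (.lf 105312297945658922084621092264658386228931209735441823148388909057)) (.nd (.lf 0) (.lf 0)))) (.nd (.nd (.nd (.lf 0) (.lf 497323236409786642155487560444766499396685168745579653584129640495903758688705709080577)) (.nd (.lf 0) (.lf 0))) (.nd (.nd (.lf 6277101735386680763837118651203451331975259251524331634688) (.lf 0)) (.nd (.lf 0) (.lf 0))))))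

/-- table part -/
def fmT_40 : Tr :=
  .nd (.nd (.nd (.nd (.nd (.nd (.lf 0) (.lf 29642774844753051340732117821146189009228636863487585968695753945490477979533313)) (.nd (.lf 0) (.lf 0))) (.nd (.nd (.lf 0) (.lf 29642774844753051340725840719784946747621510891896446606371910508450409223290880)) (.nd (.lf 29642774844752946028440449263959491113501698391585890215131349302544715546099712) (.lf 0)))) (.nd (.nd (.nd (.lf 0) (.lf 497323266052563253755498367263268244918290344401956754002713279914235923306623239454721)) (.nd (.lf 374144419156712476288218330253755621176572555296769) (.lf 0))) (.nd (.nd (.lf 29642774844753051340732117821520333428385348010547729285871122398240921733824513) (.lf 29642776611600116119116447404817834171303862508803630376569485249838668094373888)) (.nd (.lf 105312291668557186697940328428868963021264798355452861553982832641) (.lf 0))))) (.nd (.nd (.nd (.nd (.lf 0) (.lf 1766847064778384329583671645162075226974544119420956840839257188561059840))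 (.nd (.lf 0) (.lf 0))) (.nd (.nd (.lf 0) (.lf 497323266052561486908328276587270104059947241998299581267735265577639989584696780521473)) (.nd (.lf 0) (.lf 0)))) (.nd (.nd (.nd (.lf 0) (.lf 374144419156711147060143317175368453031918731001856)) (.nd (.lf 0) (.lf 0))) (.nd (.nd (.lf 0) (.lf 0)) (.nd (.lf 0) (.lf 0)))))) (.nd (.nd (.nd (.nd (.nd (.lf 0) (.lf 497323236409788409002447026531150423772101335173319890515206539390440975400953071009793)) (.nd (.lf 497323236409786642155487560444766499396685168745578324356133855584753221364515090726912) (.lf 0))) (.nd (.nd (.lf 0) (.lf 29642774844752946028440449263959491091200953193055267073600353396097748708622336)) (.nd (.lf 0) (.lf 0)))) (.nd (.nd (.nd (.lf 0) (.lf 105312297945658922084598791519459855605789674017168893311889440769)) (.nd (.lf 0) (.lf 0))) (.nd (.nd (.lf 29642774844753051340725840719784946769922257419655144760990738315444819222069249)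 (.lf 0)) (.nd (.lf 29642774844753051340725840719410802350765544943366926430732260327785377021558785) (.lf 0))))) (.nd (.nd (.nd (.nd (.lf 0) (.lf 497323266052563253755498367256991142808759222180663289760743369875896304576213372895233)) (.nd (.lf 0) (.lf 0))) (.nd (.nd (.lf 0) (.lf 1766847170090682275242593729760866746434399566754310551845676708031102976)) (.nd (.lf 1766847064778390606685032887423682352946135179555118170011678188813418496) (.lf 0)))) (.nd (.nd (.nd (.lf 0) (.lf 29642776611600116119116447404443689774447896560274030972767320804836042348691457)) (.nd (.lf 29642774844752946028434172162224104432737861272934607535641582145438467332505600) (.lf 0))) (.nd (.nd (.lf 0) (.lf 0)) (.nd (.lf 22300746527758698154614105440793015330275329) (.lf 0))))))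

/-- table part -/
def fmT_41 : Tr :=
  .nd fmT_39 fmT_40

/-- table part -/
def fmT_42 : Tr :=
  .nd (.nd (.nd (.nd (.nd (.nd (.lf 0) (.lf 497323236409786642155382248153097942209987273018641181682433886940943848427207589363712)) (.nd (.lf 0) (.lf 0))) (.nd (.nd (.lf 0) (.lf 497323236409788409002447026531150423772101312872574691984504169692208438414998037856256)) (.nd (.lf 0) (.lf 0)))) (.nd (.nd (.nd (.lf 0) (.lf 0)) (.nd (.lf 0) (.lf 0))) (.nd (.nd (.lf 0) (.lf 497323266052563253755498367256991143182903641337374436820807458884028127069143874666496)) (.nd (.lf 497323266052563253755498367263268244544145902944499079183951036291998660020677390630912) (.lf 0))))) (.nd (.nd (.nd (.nd (.lf 1329228075013078387168144653824294912) (.lf 497323266052563253755393054971599687357448007217560607282255282732316383557784585633793)) (.nd (.lf 497323266052561486908433588872661559885402898418858609336910583269792371664337250549760)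 (.lf 0))) (.nd (.nd (.lf 0) (.lf 1766847170090682275242219585341710035287339423437135183392644789300101120)) (.nd (.lf 6277101735386703064582317181905821034930163001824003489792) (.lf 0)))) (.nd (.nd (.nd (.lf 0) (.lf 497323266052563253755498367256991142808759222180664618988739154787046842181878967959553)) (.nd (.lf 0) (.lf 0))) (.nd (.nd (.lf 0) (.lf 0)) (.nd (.lf 497323266052561486908328276587270104434091661155010728327799354585771811514677328871424) (.lf 0)))))) (.nd (.nd (.nd (.nd (.nd (.lf 0) (.lf 497323266052563253755393054971599687731592426374273083570394384818835373913893951766528)) (.nd (.lf 374144419156711147060143317175368453031918731001856) (.lf 0))) (.nd (.nd (.lf 0) (.lf 1329228075013083109534908998446219265)) (.nd (.lf 497323236409788409002447026531150423397956893715864874152356637427990522707269941985281) (.lf 0)))) (.nd (.nd (.nd (.lf 29642776611600010806818501745895749594813088247478726956593700617931311254863872)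 (.lf 1766847170090682275242219585341710035287339502665292975290780988158771201)) (.nd (.lf 0) (.lf 0))) (.nd (.nd (.lf 0) (.lf 0)) (.nd (.lf 105312291668557560842359485141345251081138727082545362939450228736) (.lf 0))))) (.nd (.nd (.nd (.nd (.lf 0) (.lf 0)) (.nd (.lf 105312297945659296229017948230606915749106849385621925230637219840) (.lf 0))) (.nd (.nd (.lf 0) (.lf 374144441457456345590766458715809092163149882195969)) (.nd (.lf 0) (.lf 0)))) (.nd (.nd (.nd (.lf 0) (.lf 29642774844752946028440449264333635532658409538646033532311440121778028945604609)) (.nd (.lf 497323236409788409002447026537427525507488015937155679938334977639306699743478939648001) (.lf 0))) (.nd (.nd (.lf 497323266052563253755393054971599687357448007217561936510251067643466921163450197475329) (.lf 0)) (.nd (.lf 29642774844753051340732117821146189009228635534259510955617366777345824172015616) (.lf 0))))))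

/-- table part -/
def fmT_43 : Tr :=
  .nd (.nd (.nd (.nd (.nd (.nd (.lf 0) (.lf 0)) (.nd (.lf 0) (.lf 0))) (.nd (.nd (.lf 0) (.lf 497323266052561486908328276580993002698705002691920137435214829710110095482919422263296)) (.nd (.lf 497323266052563253755498367263268244918290322101211555472090138378517650376786773540864) (.lf 0)))) (.nd (.nd (.nd (.lf 0) (.lf 105312297945658922084621092265987614145487967816447494009793806337)) (.nd (.lf 497323236409788409002447026531150423772101312872574691984583397850000336269721919815680) (.lf 0))) (.nd (.nd (.lf 0) (.lf 29642774844752946028434172162224104432737861272934607535641582145156992339017728)) (.nd (.lf 1766847170090682275242593729783167491632930269124004062016461268395753473) (.lf 0))))) (.nd (.nd (.nd (.nd (.lf 0) (.lf 497323236409788409002447026537427525507488015937155679938414205806543330563942128812033)) (.nd (.lf 497323236409786642155382248153097942209987273018639852454517330187585208957740852969472)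 (.lf 0))) (.nd (.nd (.lf 0) (.lf 29642774844752946028434172162224104410437116074404063622263655770644829708484608)) (.nd (.lf 0) (.lf 0)))) (.nd (.nd (.nd (.lf 0) (.lf 497323266052563253755498367256991143182903663638120964579426385335619303524565660991488)) (.nd (.lf 0) (.lf 0))) (.nd (.nd (.lf 0) (.lf 0)) (.nd (.lf 105312291668557560842337184396146720457997186641906231708315811841) (.lf 0)))))) (.nd (.nd (.nd (.nd (.nd (.lf 0) (.lf 1329227995784915872903807060280344576)) (.nd (.lf 0) (.lf 0))) (.nd (.nd (.lf 0) (.lf 29642776611600010806818501745521605175656377100418583639418332164899392507084800)) (.nd (.lf 0) (.lf 0)))) (.nd (.nd (.nd (.lf 0) (.lf 105312291668557186697918027683670432398123257914813448847854927872)) (.nd (.lf 374144419156711147060222545342605084133856913653761) (.lf 0))) (.nd (.nd (.lf 0) (.lf 0)) (.nd (.lf 497323266052563253755498367256991143182903641337375766048803243799901030594729178300416)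 (.lf 0))))) (.nd (.nd (.nd (.nd (.lf 0) (.lf 0)) (.nd (.lf 0) (.lf 0))) (.nd (.nd (.lf 0) (.lf 497323236409786642155382248153097941835842831561184836091667428229857122746927335604224)) (.nd (.lf 1766847170090682275242219585364010781815098121591744566467236409961873409) (.lf 0)))) (.nd (.nd (.nd (.lf 105312291668557560842359485140016023164581969001539410603085398016) (.lf 0)) (.nd (.lf 105312291668557186697918027684999660314680015995819682659213246465) (.lf 0))) (.nd (.nd (.lf 0) (.lf 0)) (.nd (.lf 497323236409788409002447026537427525133343596780444532878270888631174877532023397810177) (.lf 0))))))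

/-- table part -/
def fmT_44 : Tr :=
  .nd fmT_42 fmT_43

/-- table part -/
def fmT_45 : Tr :=
  .nd fmT_41 fmT_44

/-- table part -/
def fmT_46 : Tr :=
  .nd fmT_38 fmT_45

/-- table part -/
def fmT_47 : Tr :=
  .nd (.nd (.nd (.nd (.nd (.nd (.lf 0) (.lf 29642774844752946028434172162224104432737862602162603320557455048964052619362305)) (.nd (.lf 0) (.lf 0))) (.nd (.nd (.lf 0) (.lf 497323236409788409002447026531150423772101312872574691984504169687486071650653415931904)) (.nd (.lf 497323266052563253755498367263268244544145925245245606942490734576353205937110981279745) (.lf 0)))) (.nd (.nd (.nd (.lf 0) (.lf 497323236409786642155382248146820840474600569954060193728603078989123220615857025581057)) (.nd (.lf 0) (.lf 0))) (.nd (.nd (.lf 497323236409788409002447026531150423397956916016608743454983994052558257749965836124161) (.lf 497323236409788409002552338822818980584654811743547215356758975770032432349057516568577))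 (.nd (.lf 497323236409786642155487560444766499022540749588867177295990538404662401568251737800705) (.lf 0))))) (.nd (.nd (.nd (.nd (.lf 0) (.lf 497323236409786642155487560444766499396685168745578324356213083747267485702108617900033)) (.nd (.lf 497323236409788409002447026537427525133343596780445862106266673542325415137689009651713) (.lf 0))) (.nd (.nd (.lf 0) (.lf 29642774844752946028434172162598248829593828550692123496192382862864740215947264)) (.nd (.lf 374144441457457674818762243631681996251685156028417) (.lf 0)))) (.nd (.nd (.nd (.lf 29642776611600010806824778847256991834119469020539084721056797253366356440514560) (.lf 105312297945658922084621092264658386228931214457808306018017345536)) (.nd (.lf 497323236409786642155382248146820840474600592254804063031230435604246222974288606003200) (.lf 0))) (.nd (.nd (.lf 0) (.lf 0)) (.nd (.lf 0) (.lf 0)))))) (.nd (.nd (.nd (.nd (.nd (.lf 0) (.lf 79228162514264337593543950336))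 (.nd (.lf 497323236409788409002447026537427525507488015937157009166330762555179603550539236769792) (.lf 0))) (.nd (.nd (.lf 0) (.lf 497323266052561486908328276587270104434091661155012057555874367664158979940806129876993)) (.nd (.lf 0) (.lf 0)))) (.nd (.nd (.nd (.lf 0) (.lf 497323266052563253755393054971599687357448007217561936510171839485675023308726315515904)) (.nd (.lf 0) (.lf 0))) (.nd (.nd (.lf 0) (.lf 0)) (.nd (.lf 0) (.lf 0))))) (.nd (.nd (.nd (.nd (.lf 0) (.lf 374144419156712476288218330258477987940917177221121)) (.nd (.lf 0) (.lf 0))) (.nd (.nd (.lf 29642774844752946028434172162224104432737862602162682548715246947100251494809600) (.lf 497323236409786642155487560444766499396685168745579653584208868663140389509168915021824)) (.nd (.lf 497323236409786642155487560444766499022540771889612375826613679940380674498088203714561) (.lf 0)))) (.nd (.nd (.nd (.lf 0) (.lf 1766847170090675998140484198660946200827144290783792745839143584404602881))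 (.nd (.lf 0) (.lf 0))) (.nd (.nd (.lf 29642774844753051340725840719784946747621510891896446606371910508168934246580225) (.lf 0)) (.nd (.lf 497323236409786642155382248146820840100456150797347717440543205055673761631601896194048) (.lf 0))))))

/-- table part -/
def fmT_48 : Tr :=
  .nd (.nd (.nd (.nd (.nd (.nd (.lf 0) (.lf 497323266052561486908328276580993002324560561234465121072444155910173906845354843701249)) (.nd (.lf 0) (.lf 0))) (.nd (.nd (.lf 0) (.lf 497323266052563253755393054971599687357448007217561936510171839480952656825856653524993)) (.nd (.lf 497323266052563253755498367263268244918290322101210226244094353467367113334071098343425) (.lf 0)))) (.nd (.nd (.nd (.lf 0) (.lf 497323266052563253755498367263268244918290344401955424774717494998363019499562975887360)) (.nd (.lf 79228162514264337593543950336) (.lf 0))) (.nd (.nd (.lf 497323236409788409002552338829096082320041492507383004779966642186134787512046574370816)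 (.lf 0)) (.nd (.lf 29642774844753051340725840719784946747621510891896525834534424772506527790530561) (.lf 0))))) (.nd (.nd (.nd (.nd (.lf 0) (.lf 1766847064778384329583671645184375973502302659119245917751093541809946624)) (.nd (.lf 0) (.lf 0))) (.nd (.nd (.lf 0) (.lf 497323236409788409002447026531150423397956916016608743454983994052558258031440812834817)) (.nd (.lf 0) (.lf 0)))) (.nd (.nd (.nd (.lf 0) (.lf 29642774844752946028440449264333635510357663010887414605859848945322607142502400)) (.nd (.lf 0) (.lf 0))) (.nd (.nd (.lf 0) (.lf 0)) (.nd (.lf 497323236409788409002447026531150423772101312872576021212579182770595606278176885440513) (.lf 0)))))) (.nd (.nd (.nd (.nd (.nd (.lf 0) (.lf 1766847170090675998140858343102403655843506982229430167762880605485793281)) (.nd (.lf 0) (.lf 0))) (.nd (.nd (.lf 0) (.lf 29642774844753051340732117821520333428385346681319733500950527128232466784976896)) (.nd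 (.lf 29642776611600010806824778847256991834119467691311168164303438614178364680830976) (.lf 0)))) (.nd (.nd (.nd (.lf 0) (.lf 497323236409786642155487560444766499396685191046324852114752782031622031337067231838208)) (.nd (.lf 497323236409788409002552338822818980958799253201003560947446206318604893691744192823297) (.lf 0))) (.nd (.nd (.lf 0) (.lf 0)) (.nd (.lf 0) (.lf 0))))) (.nd (.nd (.nd (.nd (.lf 0) (.lf 497323266052561486908433588872661559511258501562893990035386192541292728886445654147073)) (.nd (.lf 0) (.lf 0))) (.nd (.nd (.lf 0) (.lf 29642776611600116119116447404817834193604609036562249303021076426012614903988225)) (.nd (.lf 497323266052561486908433588878938661246645160025984580927970717421676811682548165902336) (.lf 0)))) (.nd (.nd (.nd (.lf 105312291668557560842359485140016023085353811209641555879169884161) (.lf 105312297945658922084621092264658386149703051943543968424490172416))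 (.nd (.lf 29642774844753051340725840719410802350765546272595001443815369862412900474290176) (.lf 0))) (.nd (.nd (.lf 0) (.lf 0)) (.nd (.lf 29642776611600116119116447404817834171303863838031546933327566255509529499271169) (.lf 0))))))

/-- table part -/
def fmT_49 : Tr :=
  .nd fmT_47 fmT_48

/-- table part -/
def fmT_50 : Tr :=
  .nd (.nd (.nd (.nd (.nd (.nd (.lf 0) (.lf 497323236409786642155487560438489397287154091125777915631401798444873589062079134826496)) (.nd (.lf 0) (.lf 0))) (.nd (.nd (.lf 0) (.lf 0)) (.nd (.lf 497323266052563253755498367256991142808759222180663289760743369875896304576213372895232) (.lf 0)))) (.nd (.nd (.nd (.lf 0) (.lf 374144441457457674818841471794196260589278683201536)) (.nd (.lf 497323266052561486908433588872661559885402898418859938564985596343457173326121429630976) (.lf 0))) (.nd (.nd (.lf 29642774844753051340725840719410802350765546272595001443815369862412900474290176)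 (.lf 1766847170090675998140484198660946199497916294998881595301537918792761344)) (.nd (.lf 497323266052563253755498367256991143182903663638119635351509828582260664055098941374464) (.lf 0))))) (.nd (.nd (.nd (.nd (.lf 0) (.lf 29642774844753051340725840719410802328464799744836303289196542055137015515578369)) (.nd (.lf 497323236409786642155487560438489397287154091125776586403485241686792583109742753218560) (.lf 0))) (.nd (.nd (.lf 0) (.lf 1766847064778384329583297500742918517156711892660539553391896131218178049)) (.nd (.lf 29642774844752946028434172162598248829593828550692123496197105229347609844383745) (.lf 0)))) (.nd (.nd (.nd (.lf 0) (.lf 497323266052563253755393054971599687731592404073526555811775458371966563941341827432448)) (.nd (.lf 6277101735386680763837118651203451331975259532999308345344) (.lf 0))) (.nd (.nd (.lf 0) (.lf 0)) (.nd (.lf 0) (.lf 0)))))) (.nd (.nd (.nd (.nd (.nd (.lf 0)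 (.lf 0)) (.nd (.lf 0) (.lf 0))) (.nd (.nd (.lf 0) (.lf 497323266052563253755498367263268244918290344401956754002634051756444025170424364007424)) (.nd (.lf 0) (.lf 0)))) (.nd (.nd (.nd (.lf 105312297945658922084598791520789083522346427375808362778642612224) (.lf 29642776611600010806824778847256991834119467691311088936140924349559296176947201)) (.nd (.lf 0) (.lf 0))) (.nd (.nd (.lf 0) (.lf 0)) (.nd (.lf 29642776611600010806818501745521605175656377100418583639418332164899392523862017) (.lf 0))))) (.nd (.nd (.nd (.nd (.lf 0) (.lf 29642774844753051340732117821146189009228635534259510955612644410862954510024705)) (.nd (.lf 0) (.lf 0))) (.nd (.nd (.lf 0) (.lf 0)) (.nd (.lf 29642776611600116119110170303082447512840771917911045851689101167042565565841408) (.lf 0)))) (.nd (.nd (.nd (.lf 0) (.lf 29642776611600010806824778847631136253276178838371311481478807067210283411832833)) (.nd (.lf 0) (.lf 0)))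 (.nd (.nd (.lf 0) (.lf 0)) (.nd (.lf 497323266052561486908433588878938661246645160025983251700054160673040538414476098011136) (.lf 0))))))

/-- table part -/
def fmT_51 : Tr :=
  .nd (.nd (.nd (.nd (.nd (.nd (.lf 0) (.lf 29642776611600010806818501745895749572512344378176020371811340984470941508567041)) (.nd (.lf 0) (.lf 0))) (.nd (.nd (.lf 29642776611600116119116447404443689774447897889502105985845707972980696156209152) (.lf 79228162514264337593543950336)) (.nd (.lf 0) (.lf 0)))) (.nd (.nd (.nd (.lf 0) (.lf 29642776611600010806824778847256991856420212889841791305834434520343856558374913)) (.nd (.lf 497323236409788409002447026531150423772101335173319890515206539385718608918083425796096) (.lf 0))) (.nd (.nd (.lf 0) (.lf 497323236409786642155382248153097942209987273018641181682433886940943848427207589363712)) (.nd (.lf 29642776611600116119116447404443689752147152690971403616152197802759085728202753)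 (.lf 0))))) (.nd (.nd (.nd (.nd (.lf 0) (.lf 0)) (.nd (.lf 0) (.lf 0))) (.nd (.nd (.lf 497323266052563253755498367256991143182903641337374436820807458884028126787668914733057) (.lf 1766847170090675998140484198683246944696446918140417313574467755292229633)) (.nd (.lf 1766847170090682275242593729783167491632930189895841547751842199891869696) (.lf 0)))) (.nd (.nd (.nd (.lf 0) (.lf 497323266052563253755498367256991143182903663638120964579505613498133567862159221719041)) (.nd (.lf 497323266052563253755498367263268244544145902944500408411867593040634933007274481811456) (.lf 0))) (.nd (.nd (.lf 0) (.lf 0)) (.nd (.lf 105312291668557560842359485140016023085353806487274791534547959809) (.lf 0)))))) (.nd (.nd (.nd (.nd (.nd (.lf 0) (.lf 497323266052563253755393054971599687357448007217561936510251067643466920881975237541889)) (.nd (.lf 497323266052561486908328276587270104059947264299044779798279178950843997613989749063680)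 (.lf 0))) (.nd (.nd (.lf 0) (.lf 29642774844753051340725840719410802328464801074064299074117137325426945441136641)) (.nd (.lf 0) (.lf 0)))) (.nd (.nd (.nd (.lf 0) (.lf 497323236409788409002447026531150423397956893715863544924360852512117618618734668152833)) (.nd (.lf 0) (.lf 0))) (.nd (.nd (.lf 29642774844752946028440449263959491113501698391585890215131349302263240569389057) (.lf 0)) (.nd (.lf 0) (.lf 0))))) (.nd (.nd (.nd (.nd (.lf 0) (.lf 29642774844752946028440449263959491113501698391585890215131349302263240552611840)) (.nd (.lf 0) (.lf 0))) (.nd (.nd (.lf 497323266052563253755393054965322585622061304152980948556341031533854394934425781534720) (.lf 497323266052563253755393054965322585996205723309692095616563576871737112585413033197569)) (.nd (.lf 1766847064778384329583671645162075226974544119420956840838975713584349184) (.lf 0)))) (.nd (.nd (.nd (.lf 0) (.lf 105312291668557186697918027683670432318895095400549392729287688192))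 (.nd (.lf 0) (.lf 0))) (.nd (.nd (.lf 29642774844753051340725840719410802350765546272595001443815369862412900474290177) (.lf 0)) (.nd (.lf 29642774844753051340725840719410802350765546272595001443810647496211505805787137) (.lf 0))))))

/-- table part -/
def fmT_52 : Tr :=
  .nd fmT_50 fmT_51

/-- table part -/
def fmT_53 : Tr :=
  .nd fmT_49 fmT_52

/-- table part -/
def fmT_54 : Tr :=
  .nd (.nd (.nd (.nd (.nd (.nd (.lf 0) (.lf 497323236409788409002552338822818980958799230900258362416902292945400885099501270859777)) (.nd (.lf 0) (.lf 0))) (.nd (.nd (.lf 0) (.lf 497323266052563253755393054971599687731592426374271754342398599907684836589703316635649)) (.nd (.lf 6277101735386680763837118651203451331975259532999291568129) (.lf 0)))) (.nd (.nd (.nd (.lf 0) (.lf 497323266052563253755393054971599687731592426374271754342398599907684836589703316635649)) (.nd (.lf 0) (.lf 0))) (.nd (.nd (.lf 0) (.lf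 29642774844752946028440449263959491091200951863827192060521966227953094884327424)) (.nd (.lf 497323266052563253755393054965322585622061304152979619328424474780495755464959045140480) (.lf 0))))) (.nd (.nd (.nd (.nd (.lf 0) (.lf 0)) (.nd (.lf 29642774844753051340725840719410802350765544943366926430736982694549721643483137) (.lf 0))) (.nd (.nd (.lf 0) (.lf 374144441457456345590845686878323356782218402856960)) (.nd (.lf 105312291668557186697918027683670432318895095400549111254310977536) (.lf 0)))) (.nd (.nd (.nd (.lf 0) (.lf 29642776611600116119110170303082447490540028048608339266911463900065065464758272)) (.nd (.lf 497323236409788409002447026531150423772101335173321219743202324306313879208013351354369) (.lf 0))) (.nd (.nd (.lf 105312291668557560842337184394817492462212270769002143173041979393) (.lf 0)) (.nd (.lf 497323236409788409002552338822818980958799253201004890175441991234477797498804489945088)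 (.lf 0)))))) (.nd (.nd (.nd (.nd (.nd (.lf 0) (.lf 497323266052563253755498367263268244544145925245245606942569962743589836476099176955904)) (.nd (.lf 0) (.lf 0))) (.nd (.nd (.lf 0) (.lf 497323236409788409002447026531150423772101312872576021212579182770595606559651845373952)) (.nd (.lf 0) (.lf 0)))) (.nd (.nd (.nd (.lf 0) (.lf 0)) (.nd (.lf 0) (.lf 0))) (.nd (.nd (.lf 0) (.lf 0)) (.nd (.lf 0) (.lf 0))))) (.nd (.nd (.nd (.nd (.lf 0) (.lf 29642774844752946028440449264333635510357663010887335377692612314783618946826241)) (.nd (.lf 29642776611600116119110170303082447512840771917911045851689101166761090589130753) (.lf 0))) (.nd (.nd (.lf 0) (.lf 497323236409788409002447026537427525507487993636411810635707621019461331183652707500033)) (.nd (.lf 497323236409786642155382248153097941835842853861930034622369797928089660014357362245632) (.lf 0)))) (.nd (.nd (.nd (.lf 0) (.lf 1329227995784915872903807060280344576))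 (.nd (.lf 497323266052561486908433588872661559511258479262147462276767266089701552149548891111424) (.lf 0))) (.nd (.nd (.lf 0) (.lf 0)) (.nd (.lf 497323236409788409002552338829096082694185933964840679598728885817816783763731713622017) (.lf 0))))))

/-- table part -/
def fmT_55 : Tr :=
  .nd (.nd (.nd (.nd (.nd (.nd (.lf 0) (.lf 0)) (.nd (.lf 0) (.lf 0))) (.nd (.nd (.lf 0) (.lf 497323236409788409002552338829096082694185933964839350370733100897221513473801788063745)) (.nd (.lf 0) (.lf 0)))) (.nd (.nd (.nd (.lf 0) (.lf 497323236409786642155382248146820840100456150797347717440463976897881863495403020746752)) (.nd (.lf 0) (.lf 0))) (.nd (.nd (.lf 497323266052563253755393054965322585622061326453724817858968388148977397292857361956865) (.lf 29642776611600010806824778847631136275576925366129930407930398243384230238224385)) (.nd (.lf 497323266052561486908433588872661559511258501562892660807390407630142191280780025528320)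 (.lf 0))))) (.nd (.nd (.nd (.nd (.lf 0) (.lf 29642774844752946028434172162224104432737862602162682548715246946818776518098944)) (.nd (.lf 0) (.lf 0))) (.nd (.nd (.lf 105312297945659296229017948230606915669878686871357869112069980161) (.lf 22300745198530623141535718272929836499468289)) (.nd (.lf 0) (.lf 0)))) (.nd (.nd (.nd (.lf 0) (.lf 497323236409786642155487560438489397287154091125777915631481026607387853681147655487489)) (.nd (.lf 0) (.lf 0))) (.nd (.nd (.lf 0) (.lf 0)) (.nd (.lf 497323236409786642155382248153097941835842853861928705394374013007494389442952476753921) (.lf 0)))))) (.nd (.nd (.nd (.nd (.nd (.lf 0) (.lf 1766847064778384329583297500742918517156711892660539553392177606211665920)) (.nd (.lf 0) (.lf 0))) (.nd (.nd (.lf 0) (.lf 29642776611600010806818501745521605153355633231115877054640694898203367382712321)) (.nd (.lf 0) (.lf 0)))) (.nd (.nd (.nd (.lf 0) (.lf 29642776611600116119116447404443689774447897889502105985850430339463565818200064))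 (.nd (.lf 29642776611600116119110170302708303071383315572320200164815500177024691784908800) (.lf 0))) (.nd (.nd (.lf 29642776611600116119110170303082447512840771917911045851689101167042565549064193) (.lf 0)) (.nd (.lf 497323266052561486908433588872661559885402920719605137095529509716661181918364368371713) (.lf 0))))) (.nd (.nd (.nd (.nd (.lf 0) (.lf 105312291668557186697918027684999660314680011273453199789584809985)) (.nd (.lf 0) (.lf 0))) (.nd (.nd (.lf 0) (.lf 29642774844753051340725840719410802350765544943366926430732260328066851981492224)) (.nd (.lf 29642776611600116119110170302708303071383316901548195949731373080831752048476160) (.lf 0)))) (.nd (.nd (.nd (.lf 0) (.lf 0)) (.nd (.lf 29642776611600116119110170302708303093684062100078819091267091353480113554456577) (.lf 0))) (.nd (.nd (.lf 0) (.lf 0)) (.nd (.lf 0) (.lf 0))))))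

/-- table part -/
def fmT_56 : Tr :=
  .nd fmT_54 fmT_55

/-- table part -/
def fmT_57 : Tr :=
  .nd (.nd (.nd (.nd (.nd (.nd (.lf 0) (.lf 497323236409788409002552338822818980584654811743548544584675532523391071818524252962816)) (.nd (.lf 497323236409788409002552338822818980584654811743547215356679747607518167729988979130369) (.lf 0))) (.nd (.nd (.lf 0) (.lf 1766847064778390606685407031865139807962497950228913383833551408753278977)) (.nd (.lf 0) (.lf 0)))) (.nd (.nd (.nd (.lf 0) (.lf 497323266052561486908433588878938661246645160025983251699974932510526274076882570838017)) (.nd (.lf 29642776611600010806818501745895749594813089576706722741509573521456896558497793) (.lf 0))) (.nd (.nd (.lf 6277102109531099920546936483350983591470808476382765514753) (.lf 29642776611600010806824778847256991834119467691311088936140924349559296160169984)) (.nd (.lf 0) (.lf 0))))) (.nd (.nd (.nd (.nd (.lf 0) (.lf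 0)) (.nd (.lf 1766847170090682275242219585364010781815098042363582052202898816401145857) (.lf 0))) (.nd (.nd (.lf 497323266052561486908328276580993002324560583535210319603146525608406443831309910409216) (.lf 29642774844753051340725840719410802350765544943367005658899496958887315170656256)) (.nd (.lf 0) (.lf 0)))) (.nd (.nd (.nd (.lf 0) (.lf 105312291668557186697940328428868962942036631118821759615833735168)) (.nd (.lf 29642776611600010806824778847256991856420214219069707862587793159813323294769153) (.lf 0))) (.nd (.nd (.lf 0) (.lf 0)) (.nd (.lf 0) (.lf 0)))))) (.nd (.nd (.nd (.nd (.nd (.lf 0) (.lf 29642774844752946028434172162224104410437117403632059407184251040934759634042880)) (.nd (.lf 1766847064778390606685032887423682352946135179555118170011959663790129153) (.lf 0))) (.nd (.nd (.lf 0) (.lf 497323266052561486908433588878938661620789579182694398760118249681172360625931639848961)) (.nd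 (.lf 497323236409788409002552338829096082694185933964839350370733100897221513192326811353089) (.lf 0)))) (.nd (.nd (.nd (.lf 0) (.lf 1766847064778390606685407031842839064093195243644126301834171119331966977)) (.nd (.lf 29642774844752946028440449264333635510357663010887414605859848945604082135990273) (.lf 0))) (.nd (.nd (.lf 0) (.lf 0)) (.nd (.lf 0) (.lf 0))))) (.nd (.nd (.nd (.nd (.lf 0) (.lf 29642774844752946028440449264333635510357664340115331162608485218590679210393600)) (.nd (.lf 0) (.lf 0))) (.nd (.nd (.lf 0) (.lf 497323266052561486908328276580993002324560561234465121072523384072688171182948404428800)) (.nd (.lf 0) (.lf 0)))) (.nd (.nd (.nd (.lf 0) (.lf 497323236409786642155487560438489397661298487981743864160921974084523769445636359847936)) (.nd (.lf 0) (.lf 0))) (.nd (.nd (.lf 0) (.lf 0)) (.nd (.lf 0) (.lf 0))))))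

/-- table part -/
def fmT_58 : Tr :=
  .nd (.nd (.nd (.nd (.nd (.nd (.lf 0) (.lf 0)) (.nd (.lf 0) (.lf 0))) (.nd (.nd (.lf 29642774844752946028434172162224104432737861272934607535636859778674122693804032) (.lf 1766847064778384329583671645162075226974544119420956840839257188544282625)) (.nd (.lf 29642776611600116119110170303082447512840771917911045851693823533525435211055105) (.lf 0)))) (.nd (.nd (.nd (.lf 29642776611600116119110170302708303093684060770850902534518455080493516480053248) (.lf 79228162514264337593560727553)) (.nd (.lf 497323236409786642155382248146820840100456150797347717440463976893159497012533375533056) (.lf 0))) (.nd (.nd (.lf 497323266052563253755393054965322585622061304152979619328345246613259124925970832687105) (.lf 497323236409788409002447026537427525133343574479699334347568518932942340827543324590081)) (.nd (.lf 29642776611600010806818501745895749572512343048948024586900190447146750856658944)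 (.lf 0))))) (.nd (.nd (.nd (.nd (.lf 0) (.lf 29642774844752946028440449263959491113501698391585890215131349302544715546099713)) (.nd (.lf 0) (.lf 0))) (.nd (.nd (.lf 0) (.lf 105312297945658922084621092265987614224716125608345630208669253633)) (.nd (.lf 0) (.lf 0)))) (.nd (.nd (.nd (.lf 29642776611600010806824778847631136275576924036901934623014525339577169957879808) (.lf 497323236409786642155487560444766499396685191046323522886756997115749127248531958005760)) (.nd (.lf 0) (.lf 0))) (.nd (.nd (.lf 497323236409786642155382248146820840474600592254804063031230435608968589457158234439681) (.lf 0)) (.nd (.lf 497323236409788409002552338822818980958799230900258362416902292945400885380976247570433) (.lf 0)))))) (.nd (.nd (.nd (.nd (.nd (.lf 0) (.lf 0)) (.nd (.lf 497323236409786642155382248146820840100456150797349046668459761809032400819593672654848) (.lf 0))) (.nd (.nd (.lf 0) (.lf 497323266052561486908328276580993002324560561234465121072523384072688171464423381139457))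 (.nd (.lf 29642774844752946028434172162224104410437116074404063622263655770363354731773952) (.lf 0)))) (.nd (.nd (.nd (.lf 0) (.lf 497323236409786642155382248146820840100456150797347717440463976897881863776877997457408)) (.nd (.lf 0) (.lf 0))) (.nd (.nd (.lf 29642774844752946028434172162224104410437117403632059407179528674451889988829184) (.lf 0)) (.nd (.lf 29642774844753051340732117821146189009228635534259590183775158675200548053975040) (.lf 0))))) (.nd (.nd (.nd (.nd (.lf 0) (.lf 1329228075013078387168144653824294912)) (.nd (.lf 497323266052563253755393054965322585622061304152979619328345246613259124644495855976449) (.lf 0))) (.nd (.nd (.lf 497323236409788409002447026531150423772101312872576021212499954603358975457713679499264) (.lf 1766847170090675998140484198660946199497916215770714358670717455603597312)) (.nd (.lf 0) (.lf 0)))) (.nd (.nd (.nd (.lf 29642774844752946028434172162598248851894573749222746637732823501995971350364161)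 (.lf 0)) (.nd (.lf 105312291668557186697940328428868962942036635841188523960438882305) (.lf 0))) (.nd (.nd (.lf 0) (.lf 0)) (.nd (.lf 497323236409786642155487560438489397287154068825032717100857885066947214268441510805505) (.lf 0))))))

/-- table part -/
def fmT_59 : Tr :=
  .nd fmT_57 fmT_58

/-- table part -/
def fmT_60 : Tr :=
  .nd fmT_56 fmT_59

/-- table part -/
def fmT_61 : Tr :=
  .nd fmT_53 fmT_60

/-- table part -/
def fmT_62 : Tr :=
  .nd fmT_46 fmT_61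

/-- table part -/
def fmT_63 : Tr :=
  .nd fmT_31 fmT_62

/-- table -/
def fmT : Tr :=
  fmT_63

/-- table part -/
def rkT_1 : Tr :=
  .nd (.nd (.nd (.nd (.nd (.nd (.lf 27) (.lf 396)) (.nd (.lf 0) (.lf 0))) (.nd (.nd (.lf 0) (.lf 397)) (.nd (.lf 371) (.lf 0)))) (.nd (.nd (.nd (.lf 0) (.lf 0)) (.nd (.lf 0) (.lf 0))) (.nd (.nd (.lf 0) (.lf 281)) (.nd (.lf 353) (.lf 0))))) (.nd (.nd (.nd (.nd (.lf 0) (.lf 473)) (.nd (.lf 0) (.lf 0))) (.nd (.nd (.lf 0) (.lf 118)) (.nd (.lf 114) (.lf 0)))) (.nd (.nd (.nd (.lf 0) (.lf 606)) (.nd (.lf 0) (.lf 0))) (.nd (.nd (.lf 0) (.lf 0)) (.nd (.lf 0) (.lf 0)))))) (.nd (.nd (.nd (.nd (.nd (.lf 0) (.lf 684)) (.nd (.lf 0) (.lf 0))) (.nd (.nd (.lf 0) (.lf 410)) (.nd (.lf 0) (.lf 0)))) (.nd (.nd (.nd (.lf 62) (.lf 0)) (.nd (.lf 409) (.lf 0))) (.nd (.nd (.lf 0) (.lf 0)) (.nd (.lf 0) (.lf 0))))) (.nd (.nd (.nd (.nd (.lf 0) (.lf 235)) (.nd (.lf 0) (.lf 0))) (.nd (.nd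 (.lf 0) (.lf 160)) (.nd (.lf 398) (.lf 0)))) (.nd (.nd (.nd (.lf 308) (.lf 399)) (.nd (.lf 0) (.lf 0))) (.nd (.nd (.lf 570) (.lf 0)) (.nd (.lf 579) (.lf 0))))))

/-- table part -/
def rkT_2 : Tr :=
  .nd (.nd (.nd (.nd (.nd (.nd (.lf 0) (.lf 385)) (.nd (.lf 514) (.lf 0))) (.nd (.nd (.lf 0) (.lf 0)) (.nd (.lf 0) (.lf 0)))) (.nd (.nd (.nd (.lf 0) (.lf 707)) (.nd (.lf 0) (.lf 0))) (.nd (.nd (.lf 0) (.lf 662)) (.nd (.lf 0) (.lf 0))))) (.nd (.nd (.nd (.nd (.lf 0) (.lf 0)) (.nd (.lf 0) (.lf 0))) (.nd (.nd (.lf 0) (.lf 256)) (.nd (.lf 209) (.lf 0)))) (.nd (.nd (.nd (.lf 0) (.lf 93)) (.nd (.lf 0) (.lf 0))) (.nd (.nd (.lf 79) (.lf 0)) (.nd (.lf 475) (.lf 0)))))) (.nd (.nd (.nd (.nd (.nd (.lf 0) (.lf 534)) (.nd (.lf 81) (.lf 0))) (.nd (.nd (.lf 0) (.lf 369)) (.nd (.lf 0) (.lf 0)))) (.nd (.nd (.nd (.lf 0) (.lf 319)) (.nd (.lf 0) (.lf 0))) (.nd (.nd (.lf 0) (.lf 0)) (.nd (.lf 0) (.lf 0))))) (.nd (.nd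 (.nd (.nd (.lf 0) (.lf 0)) (.nd (.lf 0) (.lf 0))) (.nd (.nd (.lf 0) (.lf 632)) (.nd (.lf 0) (.lf 0)))) (.nd (.nd (.nd (.lf 0) (.lf 60)) (.nd (.lf 125) (.lf 0))) (.nd (.nd (.lf 479) (.lf 0)) (.nd (.lf 64) (.lf 0))))))

/-- table part -/
def rkT_3 : Tr :=
  .nd rkT_1 rkT_2

/-- table part -/
def rkT_4 : Tr :=
  .nd (.nd (.nd (.nd (.nd (.nd (.lf 0) (.lf 0)) (.nd (.lf 61) (.lf 0))) (.nd (.nd (.lf 0) (.lf 526)) (.nd (.lf 0) (.lf 0)))) (.nd (.nd (.nd (.lf 0) (.lf 0)) (.nd (.lf 0) (.lf 0))) (.nd (.nd (.lf 34) (.lf 545)) (.nd (.lf 481) (.lf 0))))) (.nd (.nd (.nd (.nd (.lf 0) (.lf 647)) (.nd (.lf 0) (.lf 0))) (.nd (.nd (.lf 0) (.lf 661)) (.nd (.lf 623) (.lf 0)))) (.nd (.nd (.nd (.lf 0) (.lf 674)) (.nd (.lf 0) (.lf 0))) (.nd (.nd (.lf 108) (.lf 0)) (.nd (.lf 629) (.lf 0)))))) (.nd (.nd (.nd (.nd (.nd (.lf 0) (.lf 346)) (.nd (.lf 98) (.lf 0))) (.nd (.nd (.lf 40) (.lf 536)) (.nd (.lf 637) (.lf 0))))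 (.nd (.nd (.nd (.lf 0) (.lf 342)) (.nd (.lf 322) (.lf 0))) (.nd (.nd (.lf 0) (.lf 0)) (.nd (.lf 0) (.lf 0))))) (.nd (.nd (.nd (.nd (.lf 0) (.lf 0)) (.nd (.lf 137) (.lf 0))) (.nd (.nd (.lf 0) (.lf 592)) (.nd (.lf 515) (.lf 0)))) (.nd (.nd (.nd (.lf 0) (.lf 298)) (.nd (.lf 633) (.lf 0))) (.nd (.nd (.lf 0) (.lf 0)) (.nd (.lf 667) (.lf 0))))))

/-- table part -/
def rkT_5 : Tr :=
  .nd (.nd (.nd (.nd (.nd (.nd (.lf 0) (.lf 0)) (.nd (.lf 355) (.lf 0))) (.nd (.nd (.lf 0) (.lf 448)) (.nd (.lf 550) (.lf 0)))) (.nd (.nd (.nd (.lf 0) (.lf 437)) (.nd (.lf 0) (.lf 0))) (.nd (.nd (.lf 0) (.lf 184)) (.nd (.lf 211) (.lf 0))))) (.nd (.nd (.nd (.nd (.lf 0) (.lf 0)) (.nd (.lf 0) (.lf 0))) (.nd (.nd (.lf 0) (.lf 584)) (.nd (.lf 261) (.lf 0)))) (.nd (.nd (.nd (.lf 0) (.lf 412)) (.nd (.lf 337) (.lf 0))) (.nd (.nd (.lf 0) (.lf 0)) (.nd (.lf 126) (.lf 0)))))) (.nd (.nd (.nd (.nd (.nd (.lf 0) (.lf 148)) (.nd (.lf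 38) (.lf 0))) (.nd (.nd (.lf 0) (.lf 388)) (.nd (.lf 113) (.lf 0)))) (.nd (.nd (.nd (.lf 0) (.lf 208)) (.nd (.lf 0) (.lf 0))) (.nd (.nd (.lf 0) (.lf 0)) (.nd (.lf 124) (.lf 0))))) (.nd (.nd (.nd (.nd (.lf 0) (.lf 238)) (.nd (.lf 0) (.lf 0))) (.nd (.nd (.lf 0) (.lf 698)) (.nd (.lf 23) (.lf 0)))) (.nd (.nd (.nd (.lf 0) (.lf 42)) (.nd (.lf 0) (.lf 0))) (.nd (.nd (.lf 149) (.lf 0)) (.nd (.lf 100) (.lf 0))))))

/-- table part -/
def rkT_6 : Tr :=
  .nd rkT_4 rkT_5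

/-- table part -/
def rkT_7 : Tr :=
  .nd rkT_3 rkT_6

/-- table part -/
def rkT_8 : Tr :=
  .nd (.nd (.nd (.nd (.nd (.nd (.lf 0) (.lf 292)) (.nd (.lf 0) (.lf 0))) (.nd (.nd (.lf 0) (.lf 299)) (.nd (.lf 169) (.lf 0)))) (.nd (.nd (.nd (.lf 0) (.lf 486)) (.nd (.lf 0) (.lf 0))) (.nd (.nd (.lf 185) (.lf 92)) (.nd (.lf 595) (.lf 0))))) (.nd (.nd (.nd (.nd (.lf 0) (.lf 500)) (.nd (.lf 538) (.lf 0))) (.nd (.nd (.lf 0) (.lf 232)) (.nd (.lf 0) (.lf 0)))) (.nd (.nd (.nd (.lf 0) (.lf 153)) (.nd (.lf 0) (.lf 0))) (.nd (.nd (.lf 202) (.lf 0)) (.nd (.lf 694) (.lf 0)))))) (.nd (.nd (.nd (.nd (.nd (.lf 0) (.lf 226)) (.nd (.lf 0) (.lf 0))) (.nd (.nd (.lf 0) (.lf 599)) (.nd (.lf 0) (.lf 0)))) (.nd (.nd (.nd (.lf 0) (.lf 304)) (.nd (.lf 0) (.lf 0))) (.nd (.nd (.lf 0) (.lf 0)) (.nd (.lf 535) (.lf 0))))) (.nd (.nd (.nd (.nd (.lf 0) (.lf 0)) (.nd (.lf 297) (.lf 0))) (.nd (.nd (.lf 666) (.lf 471)) (.nd (.lf 0)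 (.lf 0)))) (.nd (.nd (.nd (.lf 0) (.lf 72)) (.nd (.lf 0) (.lf 0))) (.nd (.nd (.lf 0) (.lf 0)) (.nd (.lf 0) (.lf 0))))))

/-- table part -/
def rkT_9 : Tr :=
  .nd (.nd (.nd (.nd (.nd (.nd (.lf 0) (.lf 0)) (.nd (.lf 0) (.lf 0))) (.nd (.nd (.lf 453) (.lf 373)) (.nd (.lf 0) (.lf 0)))) (.nd (.nd (.nd (.lf 71) (.lf 640)) (.nd (.lf 0) (.lf 0))) (.nd (.nd (.lf 0) (.lf 383)) (.nd (.lf 679) (.lf 0))))) (.nd (.nd (.nd (.nd (.lf 0) (.lf 57)) (.nd (.lf 0) (.lf 0))) (.nd (.nd (.lf 392) (.lf 215)) (.nd (.lf 496) (.lf 0)))) (.nd (.nd (.nd (.lf 265) (.lf 85)) (.nd (.lf 0) (.lf 0))) (.nd (.nd (.lf 0) (.lf 0)) (.nd (.lf 0) (.lf 0)))))) (.nd (.nd (.nd (.nd (.nd (.lf 0) (.lf 416)) (.nd (.lf 0) (.lf 0))) (.nd (.nd (.lf 0) (.lf 419)) (.nd (.lf 236) (.lf 0)))) (.nd (.nd (.nd (.lf 568) (.lf 216)) (.nd (.lf 0) (.lf 0))) (.nd (.nd (.lf 0) (.lf 0)) (.nd (.lf 336) (.lf 0))))) (.nd (.nd (.nd (.nd (.lf 0) (.lf 594)) (.nd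 (.lf 0) (.lf 0))) (.nd (.nd (.lf 244) (.lf 721)) (.nd (.lf 82) (.lf 0)))) (.nd (.nd (.nd (.lf 0) (.lf 0)) (.nd (.lf 0) (.lf 0))) (.nd (.nd (.lf 0) (.lf 0)) (.nd (.lf 253) (.lf 0))))))

/-- table part -/
def rkT_10 : Tr :=
  .nd rkT_8 rkT_9

/-- table part -/
def rkT_11 : Tr :=
  .nd (.nd (.nd (.nd (.nd (.nd (.lf 0) (.lf 327)) (.nd (.lf 84) (.lf 0))) (.nd (.nd (.lf 219) (.lf 697)) (.nd (.lf 0) (.lf 0)))) (.nd (.nd (.nd (.lf 127) (.lf 449)) (.nd (.lf 541) (.lf 0))) (.nd (.nd (.lf 454) (.lf 696)) (.nd (.lf 562) (.lf 0))))) (.nd (.nd (.nd (.nd (.lf 0) (.lf 162)) (.nd (.lf 586) (.lf 0))) (.nd (.nd (.lf 0) (.lf 470)) (.nd (.lf 0) (.lf 0)))) (.nd (.nd (.nd (.lf 52) (.lf 468)) (.nd (.lf 0) (.lf 0))) (.nd (.nd (.lf 78) (.lf 0)) (.nd (.lf 290) (.lf 0)))))) (.nd (.nd (.nd (.nd (.nd (.lf 0) (.lf 393)) (.nd (.lf 0) (.lf 0))) (.nd (.nd (.lf 0) (.lf 217)) (.nd (.lf 269) (.lf 0)))) (.nd (.nd (.nd (.lf 0)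 (.lf 351)) (.nd (.lf 0) (.lf 0))) (.nd (.nd (.lf 258) (.lf 0)) (.nd (.lf 161) (.lf 0))))) (.nd (.nd (.nd (.nd (.lf 0) (.lf 452)) (.nd (.lf 361) (.lf 0))) (.nd (.nd (.lf 0) (.lf 421)) (.nd (.lf 445) (.lf 0)))) (.nd (.nd (.nd (.lf 447) (.lf 0)) (.nd (.lf 0) (.lf 0))) (.nd (.nd (.lf 0) (.lf 0)) (.nd (.lf 487) (.lf 0))))))

/-- table part -/
def rkT_12 : Tr :=
  .nd (.nd (.nd (.nd (.nd (.nd (.lf 0) (.lf 237)) (.nd (.lf 0) (.lf 0))) (.nd (.nd (.lf 0) (.lf 543)) (.nd (.lf 0) (.lf 0)))) (.nd (.nd (.nd (.lf 0) (.lf 715)) (.nd (.lf 0) (.lf 0))) (.nd (.nd (.lf 0) (.lf 345)) (.nd (.lf 0) (.lf 0))))) (.nd (.nd (.nd (.nd (.lf 0) (.lf 0)) (.nd (.lf 12) (.lf 0))) (.nd (.nd (.lf 196) (.lf 255)) (.nd (.lf 400) (.lf 0)))) (.nd (.nd (.nd (.lf 0) (.lf 634)) (.nd (.lf 554) (.lf 0))) (.nd (.nd (.lf 119) (.lf 0)) (.nd (.lf 0) (.lf 0)))))) (.nd (.nd (.nd (.nd (.nd (.lf 0) (.lf 0)) (.nd (.lf 278) (.lf 0))) (.nd (.nd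 (.lf 0) (.lf 571)) (.nd (.lf 33) (.lf 0)))) (.nd (.nd (.nd (.lf 0) (.lf 357)) (.nd (.lf 542) (.lf 0))) (.nd (.nd (.lf 0) (.lf 0)) (.nd (.lf 323) (.lf 0))))) (.nd (.nd (.nd (.nd (.lf 0) (.lf 505)) (.nd (.lf 0) (.lf 0))) (.nd (.nd (.lf 0) (.lf 588)) (.nd (.lf 41) (.lf 0)))) (.nd (.nd (.nd (.lf 0) (.lf 578)) (.nd (.lf 88) (.lf 0))) (.nd (.nd (.lf 0) (.lf 0)) (.nd (.lf 576) (.lf 0))))))

/-- table part -/
def rkT_13 : Tr :=
  .nd rkT_11 rkT_12

/-- table part -/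
def rkT_14 : Tr :=
  .nd rkT_10 rkT_13

/-- table part -/
def rkT_15 : Tr :=
  .nd rkT_7 rkT_14

/-- table part -/
def rkT_16 : Tr :=
  .nd (.nd (.nd (.nd (.nd (.nd (.lf 0) (.lf 0)) (.nd (.lf 218) (.lf 0))) (.nd (.nd (.lf 0) (.lf 228)) (.nd (.lf 450) (.lf 0)))) (.nd (.nd (.nd (.lf 0) (.lf 0)) (.nd (.lf 618) (.lf 0))) (.nd (.nd (.lf 0) (.lf 530)) (.nd (.lf 0) (.lf 0))))) (.nd (.nd (.nd (.nd (.lf 0) (.lf 522)) (.nd (.lf 49) (.lf 0))) (.nd (.nd (.lf 0) (.lf 627)) (.nd (.lf 0) (.lf 0)))) (.nd (.nd (.nd (.lf 0) (.lf 685)) (.nd (.lf 368) (.lf 0))) (.nd (.nd (.lf 121) (.lf 0)) (.nd (.lf 577) (.lf 0)))))) (.nd (.nd (.nd (.nd (.nd (.lf 0) (.lf 274)) (.nd (.lf 0) (.lf 0))) (.nd (.nd (.lf 0) (.lf 691)) (.nd (.lf 620) (.lf 0)))) (.nd (.nd (.nd (.lf 0) (.lf 498)) (.nd (.lf 0) (.lf 0))) (.nd (.nd (.lf 0) (.lf 0)) (.nd (.lf 97) (.lf 0))))) (.nd (.nd (.nd (.nd (.lf 0) (.lf 91)) (.nd (.lf 212) (.lf 0))) (.nd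 (.nd (.lf 0) (.lf 183)) (.nd (.lf 614) (.lf 0)))) (.nd (.nd (.nd (.lf 0) (.lf 21)) (.nd (.lf 0) (.lf 0))) (.nd (.nd (.lf 283) (.lf 0)) (.nd (.lf 314) (.lf 0))))))

/-- table part -/
def rkT_17 : Tr :=
  .nd (.nd (.nd (.nd (.nd (.nd (.lf 0) (.lf 587)) (.nd (.lf 686) (.lf 0))) (.nd (.nd (.lf 0) (.lf 441)) (.nd (.lf 384) (.lf 0)))) (.nd (.nd (.nd (.lf 18) (.lf 603)) (.nd (.lf 280) (.lf 0))) (.nd (.nd (.lf 0) (.lf 681)) (.nd (.lf 414) (.lf 0))))) (.nd (.nd (.nd (.nd (.lf 0) (.lf 0)) (.nd (.lf 0) (.lf 0))) (.nd (.nd (.lf 0) (.lf 286)) (.nd (.lf 267) (.lf 0)))) (.nd (.nd (.nd (.lf 0) (.lf 484)) (.nd (.lf 413) (.lf 0))) (.nd (.nd (.lf 0) (.lf 0)) (.nd (.lf 275) (.lf 0)))))) (.nd (.nd (.nd (.nd (.nd (.lf 0) (.lf 0)) (.nd (.lf 77) (.lf 0))) (.nd (.nd (.lf 130) (.lf 365)) (.nd (.lf 0) (.lf 0)))) (.nd (.nd (.nd (.lf 0) (.lf 613)) (.nd (.lf 349) (.lf 0))) (.nd (.nd (.lf 605) (.lf 0)) (.nd (.lf 411) (.lf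 0))))) (.nd (.nd (.nd (.nd (.lf 0) (.lf 641)) (.nd (.lf 0) (.lf 0))) (.nd (.nd (.lf 0) (.lf 646)) (.nd (.lf 0) (.lf 0)))) (.nd (.nd (.nd (.lf 0) (.lf 333)) (.nd (.lf 574) (.lf 0))) (.nd (.nd (.lf 0) (.lf 0)) (.nd (.lf 504) (.lf 0))))))

/-- table part -/
def rkT_18 : Tr :=
  .nd rkT_16 rkT_17

/-- table part -/
def rkT_19 : Tr :=
  .nd (.nd (.nd (.nd (.nd (.nd (.lf 0) (.lf 254)) (.nd (.lf 0) (.lf 0))) (.nd (.nd (.lf 0) (.lf 180)) (.nd (.lf 0) (.lf 0)))) (.nd (.nd (.nd (.lf 0) (.lf 630)) (.nd (.lf 0) (.lf 0))) (.nd (.nd (.lf 343) (.lf 652)) (.nd (.lf 672) (.lf 0))))) (.nd (.nd (.nd (.nd (.lf 0) (.lf 0)) (.nd (.lf 0) (.lf 0))) (.nd (.nd (.lf 0) (.lf 702)) (.nd (.lf 657) (.lf 0)))) (.nd (.nd (.nd (.lf 53) (.lf 430)) (.nd (.lf 0) (.lf 0))) (.nd (.nd (.lf 152) (.lf 0)) (.nd (.lf 225) (.lf 0)))))) (.nd (.nd (.nd (.nd (.nd (.lf 0) (.lf 0)) (.nd (.lf 0) (.lf 0))) (.nd (.nd (.lf 0) (.lf 695)) (.nd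 (.lf 0) (.lf 0)))) (.nd (.nd (.nd (.lf 0) (.lf 581)) (.nd (.lf 0) (.lf 0))) (.nd (.nd (.lf 0) (.lf 0)) (.nd (.lf 0) (.lf 0))))) (.nd (.nd (.nd (.nd (.lf 0) (.lf 1)) (.nd (.lf 0) (.lf 0))) (.nd (.nd (.lf 24) (.lf 483)) (.nd (.lf 156) (.lf 0)))) (.nd (.nd (.nd (.lf 0) (.lf 716)) (.nd (.lf 32) (.lf 0))) (.nd (.nd (.lf 150) (.lf 0)) (.nd (.lf 0) (.lf 0))))))

/-- table part -/
def rkT_20 : Tr :=
  .nd (.nd (.nd (.nd (.nd (.nd (.lf 0) (.lf 0)) (.nd (.lf 157) (.lf 0))) (.nd (.nd (.lf 0) (.lf 0)) (.nd (.lf 0) (.lf 0)))) (.nd (.nd (.nd (.lf 0) (.lf 0)) (.nd (.lf 0) (.lf 0))) (.nd (.nd (.lf 424) (.lf 703)) (.nd (.lf 548) (.lf 0))))) (.nd (.nd (.nd (.nd (.lf 0) (.lf 143)) (.nd (.lf 0) (.lf 0))) (.nd (.nd (.lf 0) (.lf 601)) (.nd (.lf 575) (.lf 0)))) (.nd (.nd (.nd (.lf 0) (.lf 608)) (.nd (.lf 0) (.lf 0))) (.nd (.nd (.lf 170) (.lf 0)) (.nd (.lf 173) (.lf 0)))))) (.nd (.nd (.nd (.nd (.nd (.lf 0) (.lf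 0)) (.nd (.lf 107) (.lf 0))) (.nd (.nd (.lf 0) (.lf 443)) (.nd (.lf 0) (.lf 0)))) (.nd (.nd (.nd (.lf 0) (.lf 648)) (.nd (.lf 249) (.lf 0))) (.nd (.nd (.lf 0) (.lf 0)) (.nd (.lf 431) (.lf 0))))) (.nd (.nd (.nd (.nd (.lf 0) (.lf 494)) (.nd (.lf 0) (.lf 0))) (.nd (.nd (.lf 70) (.lf 585)) (.nd (.lf 139) (.lf 0)))) (.nd (.nd (.nd (.lf 120) (.lf 680)) (.nd (.lf 0) (.lf 0))) (.nd (.nd (.lf 0) (.lf 0)) (.nd (.lf 128) (.lf 0))))))

/-- table part -/
def rkT_21 : Tr :=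
  .nd rkT_19 rkT_20

/-- table part -/
def rkT_22 : Tr :=
  .nd rkT_18 rkT_21

/-- table part -/
def rkT_23 : Tr :=
  .nd (.nd (.nd (.nd (.nd (.nd (.lf 0) (.lf 0)) (.nd (.lf 106) (.lf 0))) (.nd (.nd (.lf 0) (.lf 529)) (.nd (.lf 0) (.lf 0)))) (.nd (.nd (.nd (.lf 0) (.lf 615)) (.nd (.lf 0) (.lf 0))) (.nd (.nd (.lf 0) (.lf 195)) (.nd (.lf 699) (.lf 0))))) (.nd (.nd (.nd (.nd (.lf 0) (.lf 528)) (.nd (.lf 525) (.lf 0))) (.nd (.nd (.lf 0) (.lf 523)) (.nd (.lf 0) (.lf 0)))) (.nd (.nd (.nd (.lf 0) (.lf 552)) (.nd (.lf 0) (.lf 0))) (.nd (.nd (.lf 0) (.lf 0)) (.nd (.lf 0) (.lf 0)))))) (.nd (.nd (.nd (.nd (.nd (.lf 0) (.lf 415)) (.nd (.lf 0) (.lf 0))) (.nd (.nd (.lf 604) (.lf 155)) (.nd (.lf 0) (.lf 0)))) (.nd (.nd (.nd (.lf 0) (.lf 636)) (.nd (.lf 0) (.lf 0))) (.nd (.nd (.lf 0) (.lf 0)) (.nd (.lf 347) (.lf 0))))) (.nd (.nd (.nd (.nd (.lf 0) (.lf 673)) (.nd (.lf 0) (.lf 0))) (.nd (.nd (.lf 0) (.lf 563))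 (.nd (.lf 305) (.lf 0)))) (.nd (.nd (.nd (.lf 176) (.lf 0)) (.nd (.lf 116) (.lf 0))) (.nd (.nd (.lf 178) (.lf 0)) (.nd (.lf 0) (.lf 0))))))

/-- table part -/
def rkT_24 : Tr :=
  .nd (.nd (.nd (.nd (.nd (.nd (.lf 0) (.lf 0)) (.nd (.lf 0) (.lf 0))) (.nd (.nd (.lf 0) (.lf 68)) (.nd (.lf 350) (.lf 0)))) (.nd (.nd (.nd (.lf 0) (.lf 491)) (.nd (.lf 67) (.lf 0))) (.nd (.nd (.lf 0) (.lf 190)) (.nd (.lf 326) (.lf 0))))) (.nd (.nd (.nd (.nd (.lf 0) (.lf 47)) (.nd (.lf 438) (.lf 0))) (.nd (.nd (.lf 0) (.lf 233)) (.nd (.lf 520) (.lf 0)))) (.nd (.nd (.nd (.lf 0) (.lf 0)) (.nd (.lf 0) (.lf 0))) (.nd (.nd (.lf 270) (.lf 0)) (.nd (.lf 145) (.lf 0)))))) (.nd (.nd (.nd (.nd (.nd (.lf 0) (.lf 556)) (.nd (.lf 0) (.lf 0))) (.nd (.nd (.lf 0) (.lf 628)) (.nd (.lf 340) (.lf 0)))) (.nd (.nd (.nd (.lf 0) (.lf 589)) (.nd (.lf 0) (.lf 0))) (.nd (.nd (.lf 488) (.lf 0)) (.nd (.lf 321) (.lf 0))))) (.nd (.nd (.nd (.nd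 (.lf 0) (.lf 111)) (.nd (.lf 0) (.lf 0))) (.nd (.nd (.lf 0) (.lf 117)) (.nd (.lf 490) (.lf 0)))) (.nd (.nd (.nd (.lf 0) (.lf 201)) (.nd (.lf 624) (.lf 0))) (.nd (.nd (.lf 19) (.lf 0)) (.nd (.lf 293) (.lf 0))))))

/-- table part -/
def rkT_25 : Tr :=
  .nd rkT_23 rkT_24

/-- table part -/
def rkT_26 : Tr :=
  .nd (.nd (.nd (.nd (.nd (.nd (.lf 0) (.lf 317)) (.nd (.lf 422) (.lf 0))) (.nd (.nd (.lf 0) (.lf 80)) (.nd (.lf 0) (.lf 0)))) (.nd (.nd (.nd (.lf 0) (.lf 713)) (.nd (.lf 0) (.lf 0))) (.nd (.nd (.lf 0) (.lf 714)) (.nd (.lf 296) (.lf 0))))) (.nd (.nd (.nd (.nd (.lf 0) (.lf 260)) (.nd (.lf 0) (.lf 0))) (.nd (.nd (.lf 0) (.lf 221)) (.nd (.lf 207) (.lf 0)))) (.nd (.nd (.nd (.lf 0) (.lf 0)) (.nd (.lf 0) (.lf 0))) (.nd (.nd (.lf 0) (.lf 0)) (.nd (.lf 360) (.lf 0)))))) (.nd (.nd (.nd (.nd (.nd (.lf 0) (.lf 223)) (.nd (.lf 0) (.lf 0))) (.nd (.nd (.lf 0) (.lf 503)) (.nd (.lf 0) (.lf 0)))) (.nd (.nd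 (.nd (.lf 0) (.lf 455)) (.nd (.lf 0) (.lf 0))) (.nd (.nd (.lf 0) (.lf 0)) (.nd (.lf 250) (.lf 0))))) (.nd (.nd (.nd (.nd (.lf 0) (.lf 171)) (.nd (.lf 311) (.lf 0))) (.nd (.nd (.lf 0) (.lf 546)) (.nd (.lf 621) (.lf 0)))) (.nd (.nd (.nd (.lf 0) (.lf 600)) (.nd (.lf 0) (.lf 0))) (.nd (.nd (.lf 0) (.lf 0)) (.nd (.lf 186) (.lf 0))))))

/-- table part -/
def rkT_27 : Tr :=
  .nd (.nd (.nd (.nd (.nd (.nd (.lf 0) (.lf 0)) (.nd (.lf 324) (.lf 0))) (.nd (.nd (.lf 0) (.lf 0)) (.nd (.lf 331) (.lf 0)))) (.nd (.nd (.nd (.lf 0) (.lf 644)) (.nd (.lf 642) (.lf 0))) (.nd (.nd (.lf 0) (.lf 533)) (.nd (.lf 25) (.lf 0))))) (.nd (.nd (.nd (.nd (.lf 0) (.lf 0)) (.nd (.lf 0) (.lf 0))) (.nd (.nd (.lf 0) (.lf 131)) (.nd (.lf 557) (.lf 0)))) (.nd (.nd (.nd (.lf 0) (.lf 432)) (.nd (.lf 0) (.lf 0))) (.nd (.nd (.lf 386) (.lf 0)) (.nd (.lf 288) (.lf 0)))))) (.nd (.nd (.nd (.nd (.nd (.lf 0) (.lf 0)) (.nd (.lf 26) (.lf 0)))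 (.nd (.nd (.lf 0) (.lf 668)) (.nd (.lf 408) (.lf 0)))) (.nd (.nd (.nd (.lf 22) (.lf 0)) (.nd (.lf 0) (.lf 0))) (.nd (.nd (.lf 0) (.lf 0)) (.nd (.lf 0) (.lf 0))))) (.nd (.nd (.nd (.nd (.lf 0) (.lf 645)) (.nd (.lf 650) (.lf 0))) (.nd (.nd (.lf 0) (.lf 239)) (.nd (.lf 17) (.lf 0)))) (.nd (.nd (.nd (.lf 0) (.lf 301)) (.nd (.lf 0) (.lf 0))) (.nd (.nd (.lf 303) (.lf 0)) (.nd (.lf 252) (.lf 0))))))

/-- table part -/
def rkT_28 : Tr :=
  .nd rkT_26 rkT_27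

/-- table part -/
def rkT_29 : Tr :=
  .nd rkT_25 rkT_28

/-- table part -/
def rkT_30 : Tr :=
  .nd rkT_22 rkT_29

/-- table part -/
def rkT_31 : Tr :=
  .nd rkT_15 rkT_30

/-- table part -/
def rkT_32 : Tr :=
  .nd (.nd (.nd (.nd (.nd (.nd (.lf 0) (.lf 0)) (.nd (.lf 0) (.lf 0))) (.nd (.nd (.lf 0) (.lf 289)) (.nd (.lf 0) (.lf 0)))) (.nd (.nd (.nd (.lf 0) (.lf 0)) (.nd (.lf 56) (.lf 0))) (.nd (.nd (.lf 0) (.lf 105)) (.nd (.lf 273) (.lf 0))))) (.nd (.nd (.nd (.nd (.lf 0) (.lf 580)) (.nd (.lf 0) (.lf 0))) (.nd (.nd (.lf 0) (.lf 89)) (.nd (.lf 0) (.lf 0)))) (.nd (.nd (.nd (.lf 0) (.lf 701)) (.nd (.lf 367) (.lf 0))) (.nd (.nd (.lf 0) (.lf 0)) (.nd (.lf 374) (.lf 0)))))) (.nd (.nd (.nd (.nd (.nd (.lf 0) (.lf 0)) (.nd (.lf 457) (.lf 0))) (.nd (.nd (.lf 0) (.lf 683)) (.nd (.lf 0) (.lf 0)))) (.nd (.nd (.nd (.lf 0) (.lf 665)) (.nd (.lf 0) (.lf 0))) (.nd (.nd (.lf 0) (.lf 0)) (.nd (.lf 467) (.lf 0)))))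 (.nd (.nd (.nd (.nd (.lf 0) (.lf 0)) (.nd (.lf 0) (.lf 0))) (.nd (.nd (.lf 76) (.lf 0)) (.nd (.lf 0) (.lf 0)))) (.nd (.nd (.nd (.lf 0) (.lf 527)) (.nd (.lf 704) (.lf 0))) (.nd (.nd (.lf 352) (.lf 0)) (.nd (.lf 0) (.lf 0))))))

/-- table part -/
def rkT_33 : Tr :=
  .nd (.nd (.nd (.nd (.nd (.nd (.lf 0) (.lf 597)) (.nd (.lf 0) (.lf 0))) (.nd (.nd (.lf 0) (.lf 230)) (.nd (.lf 51) (.lf 0)))) (.nd (.nd (.nd (.lf 0) (.lf 0)) (.nd (.lf 159) (.lf 0))) (.nd (.nd (.lf 0) (.lf 224)) (.nd (.lf 0) (.lf 0))))) (.nd (.nd (.nd (.nd (.lf 0) (.lf 0)) (.nd (.lf 564) (.lf 0))) (.nd (.nd (.lf 0) (.lf 5)) (.nd (.lf 129) (.lf 0)))) (.nd (.nd (.nd (.lf 0) (.lf 167)) (.nd (.lf 0) (.lf 0))) (.nd (.nd (.lf 391) (.lf 0)) (.nd (.lf 0) (.lf 0)))))) (.nd (.nd (.nd (.nd (.nd (.lf 0) (.lf 669)) (.nd (.lf 75) (.lf 0))) (.nd (.nd (.lf 181) (.lf 276)) (.nd (.lf 0) (.lf 0)))) (.nd (.nd (.nd (.lf 0) (.lf 248)) (.nd (.lf 0) (.lf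 0))) (.nd (.nd (.lf 442) (.lf 0)) (.nd (.lf 0) (.lf 0))))) (.nd (.nd (.nd (.nd (.lf 0) (.lf 501)) (.nd (.lf 0) (.lf 0))) (.nd (.nd (.lf 313) (.lf 440)) (.nd (.lf 141) (.lf 0)))) (.nd (.nd (.nd (.lf 0) (.lf 366)) (.nd (.lf 0) (.lf 0))) (.nd (.nd (.lf 0) (.lf 0)) (.nd (.lf 0) (.lf 0))))))

/-- table part -/
def rkT_34 : Tr :=
  .nd rkT_32 rkT_33

/-- table part -/
def rkT_35 : Tr :=
  .nd (.nd (.nd (.nd (.nd (.nd (.lf 0) (.lf 712)) (.nd (.lf 14) (.lf 0))) (.nd (.nd (.lf 0) (.lf 537)) (.nd (.lf 506) (.lf 0)))) (.nd (.nd (.nd (.lf 0) (.lf 330)) (.nd (.lf 0) (.lf 0))) (.nd (.nd (.lf 39) (.lf 544)) (.nd (.lf 482) (.lf 0))))) (.nd (.nd (.nd (.nd (.lf 0) (.lf 0)) (.nd (.lf 0) (.lf 0))) (.nd (.nd (.lf 0) (.lf 521)) (.nd (.lf 572) (.lf 0)))) (.nd (.nd (.nd (.lf 0) (.lf 590)) (.nd (.lf 0) (.lf 0))) (.nd (.nd (.lf 0) (.lf 0)) (.nd (.lf 495) (.lf 0)))))) (.nd (.nd (.nd (.nd (.nd (.lf 0) (.lf 0)) (.nd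 (.lf 0) (.lf 0))) (.nd (.nd (.lf 0) (.lf 363)) (.nd (.lf 492) (.lf 0)))) (.nd (.nd (.nd (.lf 0) (.lf 476)) (.nd (.lf 0) (.lf 0))) (.nd (.nd (.lf 0) (.lf 0)) (.nd (.lf 0) (.lf 0))))) (.nd (.nd (.nd (.nd (.lf 0) (.lf 0)) (.nd (.lf 569) (.lf 0))) (.nd (.nd (.lf 13) (.lf 0)) (.nd (.lf 0) (.lf 0)))) (.nd (.nd (.nd (.lf 356) (.lf 372)) (.nd (.lf 0) (.lf 0))) (.nd (.nd (.lf 222) (.lf 0)) (.nd (.lf 456) (.lf 0))))))

/-- table part -/
def rkT_36 : Tr :=
  .nd (.nd (.nd (.nd (.nd (.nd (.lf 0) (.lf 513)) (.nd (.lf 0) (.lf 0))) (.nd (.nd (.lf 0) (.lf 251)) (.nd (.lf 142) (.lf 0)))) (.nd (.nd (.nd (.lf 0) (.lf 318)) (.nd (.lf 0) (.lf 0))) (.nd (.nd (.lf 309) (.lf 242)) (.nd (.lf 339) (.lf 0))))) (.nd (.nd (.nd (.nd (.lf 0) (.lf 524)) (.nd (.lf 376) (.lf 0))) (.nd (.nd (.lf 418) (.lf 625)) (.nd (.lf 344) (.lf 0)))) (.nd (.nd (.nd (.lf 302) (.lf 389)) (.nd (.lf 0) (.lf 0))) (.nd (.nd (.lf 48) (.lf 0))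 (.nd (.lf 16) (.lf 0)))))) (.nd (.nd (.nd (.nd (.nd (.lf 0) (.lf 560)) (.nd (.lf 0) (.lf 0))) (.nd (.nd (.lf 0) (.lf 387)) (.nd (.lf 423) (.lf 0)))) (.nd (.nd (.nd (.lf 0) (.lf 375)) (.nd (.lf 0) (.lf 0))) (.nd (.nd (.lf 154) (.lf 0)) (.nd (.lf 164) (.lf 0))))) (.nd (.nd (.nd (.nd (.lf 0) (.lf 631)) (.nd (.lf 0) (.lf 0))) (.nd (.nd (.lf 243) (.lf 711)) (.nd (.lf 65) (.lf 0)))) (.nd (.nd (.nd (.lf 0) (.lf 43)) (.nd (.lf 0) (.lf 0))) (.nd (.nd (.lf 0) (.lf 0)) (.nd (.lf 0) (.lf 0))))))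

/-- table part -/
def rkT_37 : Tr :=
  .nd rkT_35 rkT_36

/-- table part -/
def rkT_38 : Tr :=
  .nd rkT_34 rkT_37

/-- table part -/
def rkT_39 : Tr :=
  .nd (.nd (.nd (.nd (.nd (.nd (.lf 0) (.lf 402)) (.nd (.lf 0) (.lf 0))) (.nd (.nd (.lf 45) (.lf 420)) (.nd (.lf 0) (.lf 0)))) (.nd (.nd (.nd (.lf 0) (.lf 451)) (.nd (.lf 0) (.lf 0))) (.nd (.nd (.lf 0) (.lf 102)) (.nd (.lf 664) (.lf 0))))) (.nd (.nd (.nd (.nd (.lf 0) (.lf 717)) (.nd (.lf 210) (.lf 0))) (.nd (.nd (.lf 0) (.lf 234)) (.nd (.lf 611) (.lf 0)))) (.nd (.nd (.nd (.lf 0) (.lf 132)) (.nd (.lf 0) (.lf 0))) (.nd (.nd (.lf 0) (.lf 0)) (.nd (.lf 0) (.lf 0)))))) (.nd (.nd (.nd (.nd (.nd (.lf 0) (.lf 294)) (.nd (.lf 0) (.lf 0))) (.nd (.nd (.lf 0) (.lf 74)) (.nd (.lf 0) (.lf 0)))) (.nd (.nd (.nd (.lf 0) (.lf 0)) (.nd (.lf 54) (.lf 0))) (.nd (.nd (.lf 0) (.lf 0)) (.nd (.lf 406) (.lf 0))))) (.nd (.nd (.nd (.nd (.lf 0) (.lf 583)) (.nd (.lf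 0) (.lf 0))) (.nd (.nd (.lf 0) (.lf 335)) (.nd (.lf 0) (.lf 0)))) (.nd (.nd (.nd (.lf 0) (.lf 264)) (.nd (.lf 0) (.lf 0))) (.nd (.nd (.lf 284) (.lf 0)) (.nd (.lf 0) (.lf 0))))))

/-- table part -/
def rkT_40 : Tr :=
  .nd (.nd (.nd (.nd (.nd (.nd (.lf 0) (.lf 316)) (.nd (.lf 0) (.lf 0))) (.nd (.nd (.lf 0) (.lf 519)) (.nd (.lf 177) (.lf 0)))) (.nd (.nd (.nd (.lf 0) (.lf 659)) (.nd (.lf 310) (.lf 0))) (.nd (.nd (.lf 428) (.lf 478)) (.nd (.lf 555) (.lf 0))))) (.nd (.nd (.nd (.nd (.lf 0) (.lf 28)) (.nd (.lf 0) (.lf 0))) (.nd (.nd (.lf 0) (.lf 497)) (.nd (.lf 0) (.lf 0)))) (.nd (.nd (.nd (.lf 0) (.lf 10)) (.nd (.lf 0) (.lf 0))) (.nd (.nd (.lf 0) (.lf 0)) (.nd (.lf 0) (.lf 0)))))) (.nd (.nd (.nd (.nd (.nd (.lf 0) (.lf 558)) (.nd (.lf 189) (.lf 0))) (.nd (.nd (.lf 0) (.lf 511)) (.nd (.lf 0) (.lf 0)))) (.nd (.nd (.nd (.lf 0) (.lf 165)) (.nd (.lf 0) (.lf 0))) (.nd (.nd (.lf 90) (.lf 0)) (.nd (.lf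 257) (.lf 0))))) (.nd (.nd (.nd (.nd (.lf 0) (.lf 626)) (.nd (.lf 0) (.lf 0))) (.nd (.nd (.lf 0) (.lf 708)) (.nd (.lf 407) (.lf 0)))) (.nd (.nd (.nd (.lf 0) (.lf 436)) (.nd (.lf 136) (.lf 0))) (.nd (.nd (.lf 0) (.lf 0)) (.nd (.lf 320) (.lf 0))))))

/-- table part -/
def rkT_41 : Tr :=
  .nd rkT_39 rkT_40

/-- table part -/
def rkT_42 : Tr :=
  .nd (.nd (.nd (.nd (.nd (.nd (.lf 0) (.lf 435)) (.nd (.lf 0) (.lf 0))) (.nd (.nd (.lf 0) (.lf 675)) (.nd (.lf 0) (.lf 0)))) (.nd (.nd (.nd (.lf 0) (.lf 0)) (.nd (.lf 0) (.lf 0))) (.nd (.nd (.lf 0) (.lf 693)) (.nd (.lf 687) (.lf 0))))) (.nd (.nd (.nd (.nd (.lf 35) (.lf 199)) (.nd (.lf 508) (.lf 0))) (.nd (.nd (.lf 0) (.lf 205)) (.nd (.lf 474) (.lf 0)))) (.nd (.nd (.nd (.lf 0) (.lf 103)) (.nd (.lf 0) (.lf 0))) (.nd (.nd (.lf 0) (.lf 0)) (.nd (.lf 341) (.lf 0)))))) (.nd (.nd (.nd (.nd (.nd (.lf 0) (.lf 378)) (.nd (.lf 11) (.lf 0))) (.nd (.nd (.lf 0) (.lf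 277)) (.nd (.lf 332) (.lf 0)))) (.nd (.nd (.nd (.lf 55) (.lf 83)) (.nd (.lf 0) (.lf 0))) (.nd (.nd (.lf 0) (.lf 0)) (.nd (.lf 197) (.lf 0))))) (.nd (.nd (.nd (.nd (.lf 0) (.lf 0)) (.nd (.lf 240) (.lf 0))) (.nd (.nd (.lf 0) (.lf 643)) (.nd (.lf 0) (.lf 0)))) (.nd (.nd (.nd (.lf 0) (.lf 194)) (.nd (.lf 46) (.lf 0))) (.nd (.nd (.lf 329) (.lf 0)) (.nd (.lf 426) (.lf 0))))))

/-- table part -/
def rkT_43 : Tr :=
  .nd (.nd (.nd (.nd (.nd (.nd (.lf 0) (.lf 0)) (.nd (.lf 0) (.lf 0))) (.nd (.nd (.lf 0) (.lf 718)) (.nd (.lf 591) (.lf 0)))) (.nd (.nd (.nd (.lf 0) (.lf 462)) (.nd (.lf 109) (.lf 0))) (.nd (.nd (.lf 0) (.lf 262)) (.nd (.lf 700) (.lf 0))))) (.nd (.nd (.nd (.nd (.lf 0) (.lf 677)) (.nd (.lf 427) (.lf 0))) (.nd (.nd (.lf 0) (.lf 553)) (.nd (.lf 0) (.lf 0)))) (.nd (.nd (.nd (.lf 0) (.lf 489)) (.nd (.lf 0) (.lf 0))) (.nd (.nd (.lf 0) (.lf 0)) (.nd (.lf 138) (.lf 0)))))) (.nd (.nd (.nd (.nd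 (.nd (.lf 0) (.lf 6)) (.nd (.lf 0) (.lf 0))) (.nd (.nd (.lf 0) (.lf 651)) (.nd (.lf 0) (.lf 0)))) (.nd (.nd (.nd (.lf 0) (.lf 499)) (.nd (.lf 464) (.lf 0))) (.nd (.nd (.lf 0) (.lf 0)) (.nd (.lf 295) (.lf 0))))) (.nd (.nd (.nd (.nd (.lf 0) (.lf 0)) (.nd (.lf 0) (.lf 0))) (.nd (.nd (.lf 0) (.lf 671)) (.nd (.lf 163) (.lf 0)))) (.nd (.nd (.nd (.lf 175) (.lf 0)) (.nd (.lf 115) (.lf 0))) (.nd (.nd (.lf 0) (.lf 0)) (.nd (.lf 188) (.lf 0))))))

/-- table part -/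
def rkT_44 : Tr :=
  .nd rkT_42 rkT_43

/-- table part -/
def rkT_45 : Tr :=
  .nd rkT_41 rkT_44

/-- table part -/
def rkT_46 : Tr :=
  .nd rkT_38 rkT_45

/-- table part -/
def rkT_47 : Tr :=
  .nd (.nd (.nd (.nd (.nd (.nd (.lf 0) (.lf 99)) (.nd (.lf 0) (.lf 0))) (.nd (.nd (.lf 0) (.lf 50)) (.nd (.lf 602) (.lf 0)))) (.nd (.nd (.nd (.lf 0) (.lf 465)) (.nd (.lf 0) (.lf 0))) (.nd (.nd (.lf 271) (.lf 540)) (.nd (.lf 381) (.lf 0))))) (.nd (.nd (.nd (.nd (.lf 0) (.lf 622)) (.nd (.lf 379) (.lf 0))) (.nd (.nd (.lf 0) (.lf 404)) (.nd (.lf 198) (.lf 0)))) (.nd (.nd (.nd (.lf 531) (.lf 609)) (.nd (.lf 460) (.lf 0))) (.nd (.nd (.lf 0) (.lf 0)) (.nd (.lf 0) (.lf 0)))))) (.nd (.nd (.nd (.nd (.nd (.lf 0) (.lf 3)) (.nd (.lf 182) (.lf 0))) (.nd (.nd (.lf 0) (.lf 690)) (.nd (.lf 0) (.lf 0)))) (.nd (.nd (.nd (.lf 0) (.lf 612)) (.nd (.lf 0) (.lf 0))) (.nd (.nd (.lf 0) (.lf 0)) (.nd (.lf 0) (.lf 0))))) (.nd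 (.nd (.nd (.nd (.lf 0) (.lf 95)) (.nd (.lf 0) (.lf 0))) (.nd (.nd (.lf 403) (.lf 307)) (.nd (.lf 477) (.lf 0)))) (.nd (.nd (.nd (.lf 0) (.lf 146)) (.nd (.lf 0) (.lf 0))) (.nd (.nd (.lf 382) (.lf 0)) (.nd (.lf 444) (.lf 0))))))

/-- table part -/
def rkT_48 : Tr :=
  .nd (.nd (.nd (.nd (.nd (.nd (.lf 0) (.lf 567)) (.nd (.lf 0) (.lf 0))) (.nd (.nd (.lf 0) (.lf 466)) (.nd (.lf 401) (.lf 0)))) (.nd (.nd (.nd (.lf 0) (.lf 705)) (.nd (.lf 2) (.lf 0))) (.nd (.nd (.lf 241) (.lf 0)) (.nd (.lf 559) (.lf 0))))) (.nd (.nd (.nd (.nd (.lf 0) (.lf 227)) (.nd (.lf 0) (.lf 0))) (.nd (.nd (.lf 0) (.lf 390)) (.nd (.lf 0) (.lf 0)))) (.nd (.nd (.nd (.lf 0) (.lf 203)) (.nd (.lf 0) (.lf 0))) (.nd (.nd (.lf 0) (.lf 0)) (.nd (.lf 394) (.lf 0)))))) (.nd (.nd (.nd (.nd (.nd (.lf 0) (.lf 565)) (.nd (.lf 0) (.lf 0))) (.nd (.nd (.lf 0) (.lf 510)) (.nd (.lf 461) (.lf 0)))) (.nd (.nd (.nd (.lf 0) (.lf 653)) (.nd (.lf 358)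 (.lf 0))) (.nd (.nd (.lf 0) (.lf 0)) (.nd (.lf 0) (.lf 0))))) (.nd (.nd (.nd (.nd (.lf 0) (.lf 502)) (.nd (.lf 0) (.lf 0))) (.nd (.nd (.lf 0) (.lf 607)) (.nd (.lf 517) (.lf 0)))) (.nd (.nd (.nd (.lf 200) (.lf 334)) (.nd (.lf 134) (.lf 0))) (.nd (.nd (.lf 0) (.lf 0)) (.nd (.lf 635) (.lf 0))))))

/-- table part -/
def rkT_49 : Tr :=
  .nd rkT_47 rkT_48

/-- table part -/
def rkT_50 : Tr :=
  .nd (.nd (.nd (.nd (.nd (.nd (.lf 0) (.lf 325)) (.nd (.lf 0) (.lf 0))) (.nd (.nd (.lf 0) (.lf 0)) (.nd (.lf 272) (.lf 0)))) (.nd (.nd (.nd (.lf 0) (.lf 656)) (.nd (.lf 429) (.lf 0))) (.nd (.nd (.lf 147) (.lf 192)) (.nd (.lf 655) (.lf 0))))) (.nd (.nd (.nd (.nd (.lf 0) (.lf 598)) (.nd (.lf 480) (.lf 0))) (.nd (.nd (.lf 0) (.lf 720)) (.nd (.lf 709) (.lf 0)))) (.nd (.nd (.nd (.lf 0) (.lf 561)) (.nd (.lf 266) (.lf 0))) (.nd (.nd (.lf 0) (.lf 0)) (.nd (.lf 0) (.lf 0)))))) (.nd (.nd (.nd (.nd (.nd (.lf 0) (.lf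 0)) (.nd (.lf 0) (.lf 0))) (.nd (.nd (.lf 0) (.lf 654)) (.nd (.lf 0) (.lf 0)))) (.nd (.nd (.nd (.lf 417) (.lf 338)) (.nd (.lf 0) (.lf 0))) (.nd (.nd (.lf 0) (.lf 0)) (.nd (.lf 689) (.lf 0))))) (.nd (.nd (.nd (.nd (.lf 0) (.lf 158)) (.nd (.lf 0) (.lf 0))) (.nd (.nd (.lf 0) (.lf 0)) (.nd (.lf 101) (.lf 0)))) (.nd (.nd (.nd (.lf 0) (.lf 719)) (.nd (.lf 0) (.lf 0))) (.nd (.nd (.lf 0) (.lf 0)) (.nd (.lf 518) (.lf 0))))))

/-- table part -/
def rkT_51 : Tr :=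
  .nd (.nd (.nd (.nd (.nd (.nd (.lf 0) (.lf 706)) (.nd (.lf 0) (.lf 0))) (.nd (.nd (.lf 306) (.lf 4)) (.nd (.lf 0) (.lf 0)))) (.nd (.nd (.nd (.lf 0) (.lf 69)) (.nd (.lf 63) (.lf 0))) (.nd (.nd (.lf 0) (.lf 649)) (.nd (.lf 549) (.lf 0))))) (.nd (.nd (.nd (.nd (.lf 0) (.lf 0)) (.nd (.lf 0) (.lf 0))) (.nd (.nd (.lf 135) (.lf 610)) (.nd (.lf 259) (.lf 0)))) (.nd (.nd (.nd (.lf 0) (.lf 710)) (.nd (.lf 279) (.lf 0))) (.nd (.nd (.lf 0) (.lf 0)) (.nd (.lf 214) (.lf 0)))))) (.nd (.nd (.nd (.nd (.nd (.lf 0) (.lf 596)) (.nd (.lf 459) (.lf 0))) (.nd (.nd (.lf 0) (.lf 616)) (.nd (.lf 0) (.lf 0)))) (.nd (.nd (.nd (.lf 0) (.lf 354)) (.nd (.lf 0) (.lf 0))) (.nd (.nd (.lf 193) (.lf 0)) (.nd (.lf 0) (.lf 0))))) (.nd (.nd (.nd (.nd (.lf 0) (.lf 551)) (.nd (.lf 0) (.lf 0))) (.nd (.nd (.lf 66) (.lf 434)) (.nd (.lf 20) (.lf 0)))) (.nd (.nd (.nd (.lf 0) (.lf 547)) (.nd (.lf 0) (.lf 0))) (.nd (.nd (.lf 268) (.lf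 0)) (.nd (.lf 166) (.lf 0))))))

/-- table part -/
def rkT_52 : Tr :=
  .nd rkT_50 rkT_51

/-- table part -/
def rkT_53 : Tr :=
  .nd rkT_49 rkT_52

/-- table part -/
def rkT_54 : Tr :=
  .nd (.nd (.nd (.nd (.nd (.nd (.lf 0) (.lf 566)) (.nd (.lf 0) (.lf 0))) (.nd (.nd (.lf 0) (.lf 472)) (.nd (.lf 377) (.lf 0)))) (.nd (.nd (.nd (.lf 0) (.lf 469)) (.nd (.lf 0) (.lf 0))) (.nd (.nd (.lf 0) (.lf 86)) (.nd (.lf 663) (.lf 0))))) (.nd (.nd (.nd (.nd (.lf 0) (.lf 0)) (.nd (.lf 364) (.lf 0))) (.nd (.nd (.lf 0) (.lf 380)) (.nd (.lf 15) (.lf 0)))) (.nd (.nd (.nd (.lf 0) (.lf 682)) (.nd (.lf 179) (.lf 0))) (.nd (.nd (.lf 213) (.lf 0)) (.nd (.lf 660) (.lf 0)))))) (.nd (.nd (.nd (.nd (.nd (.lf 0) (.lf 206)) (.nd (.lf 0) (.lf 0))) (.nd (.nd (.lf 0) (.lf 104)) (.nd (.lf 0) (.lf 0)))) (.nd (.nd (.nd (.lf 0) (.lf 0)) (.nd (.lf 0) (.lf 0))) (.nd (.nd (.lf 0) (.lf 0)) (.nd (.lf 0) (.lf 0))))) (.nd (.nd (.nd (.nd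 (.lf 0) (.lf 362)) (.nd (.lf 692) (.lf 0))) (.nd (.nd (.lf 0) (.lf 507)) (.nd (.lf 676) (.lf 0)))) (.nd (.nd (.nd (.lf 0) (.lf 7)) (.nd (.lf 670) (.lf 0))) (.nd (.nd (.lf 0) (.lf 0)) (.nd (.lf 291) (.lf 0))))))

/-- table part -/
def rkT_55 : Tr :=
  .nd (.nd (.nd (.nd (.nd (.nd (.lf 0) (.lf 0)) (.nd (.lf 0) (.lf 0))) (.nd (.nd (.lf 0) (.lf 348)) (.nd (.lf 0) (.lf 0)))) (.nd (.nd (.nd (.lf 0) (.lf 639)) (.nd (.lf 0) (.lf 0))) (.nd (.nd (.lf 245) (.lf 678)) (.nd (.lf 439) (.lf 0))))) (.nd (.nd (.nd (.nd (.lf 0) (.lf 37)) (.nd (.lf 0) (.lf 0))) (.nd (.nd (.lf 658) (.lf 168)) (.nd (.lf 0) (.lf 0)))) (.nd (.nd (.nd (.lf 0) (.lf 516)) (.nd (.lf 0) (.lf 0))) (.nd (.nd (.lf 0) (.lf 0)) (.nd (.lf 493) (.lf 0)))))) (.nd (.nd (.nd (.nd (.nd (.lf 0) (.lf 433)) (.nd (.lf 0) (.lf 0))) (.nd (.nd (.lf 0) (.lf 485)) (.nd (.lf 0) (.lf 0)))) (.nd (.nd (.nd (.lf 0) (.lf 512)) (.nd (.lf 247) (.lf 0))) (.nd (.nd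 (.lf 220) (.lf 0)) (.nd (.lf 263) (.lf 0))))) (.nd (.nd (.nd (.nd (.lf 0) (.lf 122)) (.nd (.lf 0) (.lf 0))) (.nd (.nd (.lf 0) (.lf 446)) (.nd (.lf 231) (.lf 0)))) (.nd (.nd (.nd (.lf 0) (.lf 0)) (.nd (.lf 110) (.lf 0))) (.nd (.nd (.lf 0) (.lf 0)) (.nd (.lf 0) (.lf 0))))))

/-- table part -/
def rkT_56 : Tr :=
  .nd rkT_54 rkT_55

/-- table part -/
def rkT_57 : Tr :=
  .nd (.nd (.nd (.nd (.nd (.nd (.lf 0) (.lf 246)) (.nd (.lf 300) (.lf 0))) (.nd (.nd (.lf 0) (.lf 112)) (.nd (.lf 0) (.lf 0)))) (.nd (.nd (.nd (.lf 0) (.lf 619)) (.nd (.lf 312) (.lf 0))) (.nd (.nd (.lf 73) (.lf 425)) (.nd (.lf 0) (.lf 0))))) (.nd (.nd (.nd (.nd (.lf 0) (.lf 0)) (.nd (.lf 638) (.lf 0))) (.nd (.nd (.lf 59) (.lf 285)) (.nd (.lf 0) (.lf 0)))) (.nd (.nd (.nd (.lf 0) (.lf 573)) (.nd (.lf 539) (.lf 0))) (.nd (.nd (.lf 0) (.lf 0)) (.nd (.lf 0) (.lf 0)))))) (.nd (.nd (.nd (.nd (.nd (.lf 0) (.lf 287)) (.nd (.lf 174) (.lf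 0))) (.nd (.nd (.lf 0) (.lf 359)) (.nd (.lf 328) (.lf 0)))) (.nd (.nd (.nd (.lf 0) (.lf 123)) (.nd (.lf 688) (.lf 0))) (.nd (.nd (.lf 0) (.lf 0)) (.nd (.lf 0) (.lf 0))))) (.nd (.nd (.nd (.nd (.lf 0) (.lf 144)) (.nd (.lf 0) (.lf 0))) (.nd (.nd (.lf 0) (.lf 458)) (.nd (.lf 0) (.lf 0)))) (.nd (.nd (.nd (.lf 0) (.lf 405)) (.nd (.lf 0) (.lf 0))) (.nd (.nd (.lf 0) (.lf 0)) (.nd (.lf 9) (.lf 0))))))

/-- table part -/
def rkT_58 : Tr :=
  .nd (.nd (.nd (.nd (.nd (.nd (.lf 0) (.lf 0)) (.nd (.lf 0) (.lf 0))) (.nd (.nd (.lf 31) (.lf 94)) (.nd (.lf 370) (.lf 0)))) (.nd (.nd (.nd (.lf 87) (.lf 463)) (.nd (.lf 44) (.lf 0))) (.nd (.nd (.lf 315) (.lf 532)) (.nd (.lf 30) (.lf 0))))) (.nd (.nd (.nd (.nd (.lf 0) (.lf 140)) (.nd (.lf 0) (.lf 0))) (.nd (.nd (.lf 0) (.lf 96)) (.nd (.lf 0) (.lf 0)))) (.nd (.nd (.nd (.lf 204) (.lf 582)) (.nd (.lf 0) (.lf 0))) (.nd (.nd (.lf 509) (.lf 0)) (.nd (.lf 395) (.lf 0))))))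 (.nd (.nd (.nd (.nd (.nd (.lf 0) (.lf 0)) (.nd (.lf 151) (.lf 0))) (.nd (.nd (.lf 0) (.lf 593)) (.nd (.lf 36) (.lf 0)))) (.nd (.nd (.nd (.lf 0) (.lf 187)) (.nd (.lf 0) (.lf 0))) (.nd (.nd (.lf 29) (.lf 0)) (.nd (.lf 191) (.lf 0))))) (.nd (.nd (.nd (.nd (.lf 0) (.lf 8)) (.nd (.lf 282) (.lf 0))) (.nd (.nd (.lf 58) (.lf 229)) (.nd (.lf 0) (.lf 0)))) (.nd (.nd (.nd (.lf 172) (.lf 0)) (.nd (.lf 133) (.lf 0))) (.nd (.nd (.lf 0) (.lf 0)) (.nd (.lf 617) (.lf 0))))))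

/-- table part -/
def rkT_59 : Tr :=
  .nd rkT_57 rkT_58

/-- table part -/
def rkT_60 : Tr :=
  .nd rkT_56 rkT_59

/-- table part -/
def rkT_61 : Tr :=
  .nd rkT_53 rkT_60

/-- table part -/
def rkT_62 : Tr :=
  .nd rkT_46 rkT_61

/-- table part -/
def rkT_63 : Tr :=
  .nd rkT_31 rkT_62

/-- table -/
def rkT : Tr :=
  rkT_63

/-- table part -/
def jsT_1 : Tr :=
  .nd (.nd (.nd (.nd (.nd (.nd (.lf 78354) (.lf 130438)) (.nd (.lf 0) (.lf 0))) (.nd (.nd (.lf 0) (.lf 11422)) (.nd (.lf 97378) (.lf 0)))) (.nd (.nd (.nd (.lf 0) (.lf 0)) (.nd (.lf 0) (.lf 0))) (.nd (.nd (.lf 0) (.lf 13134)) (.nd (.lf 105842) (.lf 0))))) (.nd (.nd (.nd (.nd (.lf 0) (.lf 34750)) (.nd (.lf 0) (.lf 0))) (.nd (.nd (.lf 0) (.lf 14738)) (.nd (.lf 31384) (.lf 0)))) (.nd (.nd (.nd (.lf 0) (.lf 98038)) (.nd (.lf 0) (.lf 0))) (.nd (.nd (.lf 0) (.lf 0)) (.nd (.lf 0) (.lf 0)))))) (.nd (.nd (.nd (.nd (.nd (.lf 0) (.lf 35164))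 (.nd (.lf 0) (.lf 0))) (.nd (.nd (.lf 0) (.lf 74354)) (.nd (.lf 0) (.lf 0)))) (.nd (.nd (.nd (.lf 27352) (.lf 0)) (.nd (.lf 5790) (.lf 0))) (.nd (.nd (.lf 0) (.lf 0)) (.nd (.lf 0) (.lf 0))))) (.nd (.nd (.nd (.nd (.lf 0) (.lf 108336)) (.nd (.lf 0) (.lf 0))) (.nd (.nd (.lf 0) (.lf 105906)) (.nd (.lf 10398) (.lf 0)))) (.nd (.nd (.nd (.lf 131176) (.lf 108788)) (.nd (.lf 0) (.lf 0))) (.nd (.nd (.lf 43248) (.lf 0)) (.nd (.lf 93234) (.lf 0))))))

/-- table part -/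
def jsT_2 : Tr :=
  .nd (.nd (.nd (.nd (.nd (.nd (.lf 0) (.lf 111672)) (.nd (.lf 102686) (.lf 0))) (.nd (.nd (.lf 0) (.lf 0)) (.nd (.lf 0) (.lf 0)))) (.nd (.nd (.nd (.lf 0) (.lf 2064)) (.nd (.lf 0) (.lf 0))) (.nd (.nd (.lf 0) (.lf 40800)) (.nd (.lf 0) (.lf 0))))) (.nd (.nd (.nd (.nd (.lf 0) (.lf 0)) (.nd (.lf 0) (.lf 0))) (.nd (.nd (.lf 0) (.lf 11404)) (.nd (.lf 132228) (.lf 0)))) (.nd (.nd (.nd (.lf 0) (.lf 12218)) (.nd (.lf 0) (.lf 0))) (.nd (.nd (.lf 53332) (.lf 0)) (.nd (.lf 90884) (.lf 0)))))) (.nd (.nd (.nd (.nd (.nd (.lf 0) (.lf 120996)) (.nd (.lf 66446) (.lf 0))) (.nd (.nd (.lf 0) (.lf 70910)) (.nd (.lf 0) (.lf 0)))) (.nd (.nd (.nd (.lf 0) (.lf 5932)) (.nd (.lf 0) (.lf 0))) (.nd (.nd (.lf 0) (.lf 0)) (.nd (.lf 0) (.lf 0))))) (.nd (.nd (.nd (.nd (.lf 0) (.lf 0)) (.nd (.lf 0) (.lf 0))) (.nd (.nd (.lf 0) (.lf 48366)) (.nd (.lf 0) (.lf 0)))) (.nd (.nd (.nd (.lf 0) (.lf 13894)) (.nd (.lf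 52018) (.lf 0))) (.nd (.nd (.lf 121586) (.lf 0)) (.nd (.lf 54690) (.lf 0))))))

/-- table part -/
def jsT_3 : Tr :=
  .nd jsT_1 jsT_2

/-- table part -/
def jsT_4 : Tr :=
  .nd (.nd (.nd (.nd (.nd (.nd (.lf 0) (.lf 0)) (.nd (.lf 39618) (.lf 0))) (.nd (.nd (.lf 0) (.lf 15298)) (.nd (.lf 0) (.lf 0)))) (.nd (.nd (.nd (.lf 0) (.lf 0)) (.nd (.lf 0) (.lf 0))) (.nd (.nd (.lf 12976) (.lf 12308)) (.nd (.lf 36694) (.lf 0))))) (.nd (.nd (.nd (.nd (.lf 0) (.lf 113364)) (.nd (.lf 0) (.lf 0))) (.nd (.nd (.lf 0) (.lf 86388)) (.nd (.lf 117262) (.lf 0)))) (.nd (.nd (.nd (.lf 0) (.lf 94026)) (.nd (.lf 0) (.lf 0))) (.nd (.nd (.lf 65672) (.lf 0)) (.nd (.lf 34624) (.lf 0)))))) (.nd (.nd (.nd (.nd (.nd (.lf 0) (.lf 35488)) (.nd (.lf 117014) (.lf 0))) (.nd (.nd (.lf 2552) (.lf 31688)) (.nd (.lf 93430) (.lf 0)))) (.nd (.nd (.nd (.lf 0) (.lf 168156)) (.nd (.lf 964) (.lf 0))) (.nd (.nd (.lf 0) (.lf 0)) (.nd (.lf 0)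 (.lf 0))))) (.nd (.nd (.nd (.nd (.lf 0) (.lf 0)) (.nd (.lf 104052) (.lf 0))) (.nd (.nd (.lf 0) (.lf 117046)) (.nd (.lf 33760) (.lf 0)))) (.nd (.nd (.nd (.lf 0) (.lf 12000)) (.nd (.lf 3090) (.lf 0))) (.nd (.nd (.lf 0) (.lf 0)) (.nd (.lf 33058) (.lf 0))))))

/-- table part -/
def jsT_5 : Tr :=
  .nd (.nd (.nd (.nd (.nd (.nd (.lf 0) (.lf 0)) (.nd (.lf 30736) (.lf 0))) (.nd (.nd (.lf 0) (.lf 31272)) (.nd (.lf 84138) (.lf 0)))) (.nd (.nd (.nd (.lf 0) (.lf 164862)) (.nd (.lf 0) (.lf 0))) (.nd (.nd (.lf 0) (.lf 68938)) (.nd (.lf 137224) (.lf 0))))) (.nd (.nd (.nd (.nd (.lf 0) (.lf 0)) (.nd (.lf 0) (.lf 0))) (.nd (.nd (.lf 0) (.lf 120744)) (.nd (.lf 10778) (.lf 0)))) (.nd (.nd (.nd (.lf 0) (.lf 26956)) (.nd (.lf 27658) (.lf 0))) (.nd (.nd (.lf 0) (.lf 0)) (.nd (.lf 28538) (.lf 0)))))) (.nd (.nd (.nd (.nd (.nd (.lf 0) (.lf 156672)) (.nd (.lf 116650) (.lf 0))) (.nd (.nd (.lf 0) (.lf 36532)) (.nd (.lf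 129358) (.lf 0)))) (.nd (.nd (.nd (.lf 0) (.lf 94262)) (.nd (.lf 0) (.lf 0))) (.nd (.nd (.lf 0) (.lf 0)) (.nd (.lf 101840) (.lf 0))))) (.nd (.nd (.nd (.nd (.lf 0) (.lf 49068)) (.nd (.lf 0) (.lf 0))) (.nd (.nd (.lf 0) (.lf 117936)) (.nd (.lf 129656) (.lf 0)))) (.nd (.nd (.nd (.lf 0) (.lf 105330)) (.nd (.lf 0) (.lf 0))) (.nd (.nd (.lf 30448) (.lf 0)) (.nd (.lf 66130) (.lf 0))))))

/-- table part -/
def jsT_6 : Tr :=
  .nd jsT_4 jsT_5

/-- table part -/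
def jsT_7 : Tr :=
  .nd jsT_3 jsT_6

/-- table part -/
def jsT_8 : Tr :=
  .nd (.nd (.nd (.nd (.nd (.nd (.lf 0) (.lf 65288)) (.nd (.lf 0) (.lf 0))) (.nd (.nd (.lf 0) (.lf 92046)) (.nd (.lf 27188) (.lf 0)))) (.nd (.nd (.nd (.lf 0) (.lf 151614)) (.nd (.lf 0) (.lf 0))) (.nd (.nd (.lf 119386) (.lf 4980)) (.nd (.lf 56446) (.lf 0))))) (.nd (.nd (.nd (.nd (.lf 0) (.lf 91798)) (.nd (.lf 83562) (.lf 0))) (.nd (.nd (.lf 0) (.lf 119260)) (.nd (.lf 0) (.lf 0)))) (.nd (.nd (.nd (.lf 0) (.lf 7912)) (.nd (.lf 0) (.lf 0))) (.nd (.nd (.lf 5626) (.lf 0)) (.nd (.lf 11030) (.lf 0)))))) (.nd (.nd (.nd (.nd (.nd (.lf 0) (.lf 95824)) (.nd (.lf 0) (.lf 0))) (.nd (.nd (.lf 0) (.lf 75122)) (.nd (.lf 0) (.lf 0)))) (.nd (.nd (.nd (.lf 0) (.lf 40566)) (.nd (.lf 0) (.lf 0))) (.nd (.nd (.lf 0) (.lf 0)) (.nd (.lf 45732) (.lf 0))))) (.nd (.nd (.nd (.nd (.lf 0) (.lf 0)) (.nd (.lf 66554) (.lf 0))) (.nd (.nd (.lf 5338) (.lf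 80916)) (.nd (.lf 0) (.lf 0)))) (.nd (.nd (.nd (.lf 0) (.lf 105530)) (.nd (.lf 0) (.lf 0))) (.nd (.nd (.lf 0) (.lf 0)) (.nd (.lf 0) (.lf 0))))))

/-- table part -/
def jsT_9 : Tr :=
  .nd (.nd (.nd (.nd (.nd (.nd (.lf 0) (.lf 0)) (.nd (.lf 0) (.lf 0))) (.nd (.nd (.lf 92644) (.lf 118382)) (.nd (.lf 0) (.lf 0)))) (.nd (.nd (.nd (.lf 67370) (.lf 4782)) (.nd (.lf 0) (.lf 0))) (.nd (.nd (.lf 0) (.lf 12954)) (.nd (.lf 3918) (.lf 0))))) (.nd (.nd (.nd (.nd (.lf 0) (.lf 11728)) (.nd (.lf 0) (.lf 0))) (.nd (.nd (.lf 104786) (.lf 130618)) (.nd (.lf 33346) (.lf 0)))) (.nd (.nd (.nd (.lf 13606) (.lf 78486)) (.nd (.lf 0) (.lf 0))) (.nd (.nd (.lf 0) (.lf 0)) (.nd (.lf 0) (.lf 0)))))) (.nd (.nd (.nd (.nd (.nd (.lf 0) (.lf 70162)) (.nd (.lf 0) (.lf 0))) (.nd (.nd (.lf 0) (.lf 1076)) (.nd (.lf 69460) (.lf 0)))) (.nd (.nd (.nd (.lf 52952) (.lf 27924)) (.nd (.lf 0) (.lf 0))) (.nd (.nd (.lf 0) (.lf 0)) (.nd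 (.lf 140844) (.lf 0))))) (.nd (.nd (.nd (.nd (.lf 0) (.lf 9876)) (.nd (.lf 0) (.lf 0))) (.nd (.nd (.lf 97752) (.lf 102632)) (.nd (.lf 27802) (.lf 0)))) (.nd (.nd (.nd (.lf 0) (.lf 0)) (.nd (.lf 0) (.lf 0))) (.nd (.nd (.lf 0) (.lf 0)) (.nd (.lf 105834) (.lf 0))))))

/-- table part -/
def jsT_10 : Tr :=
  .nd jsT_8 jsT_9

/-- table part -/
def jsT_11 : Tr :=
  .nd (.nd (.nd (.nd (.nd (.nd (.lf 0) (.lf 61934)) (.nd (.lf 35082) (.lf 0))) (.nd (.nd (.lf 79246) (.lf 40170)) (.nd (.lf 0) (.lf 0)))) (.nd (.nd (.nd (.lf 17148) (.lf 91978)) (.nd (.lf 31780) (.lf 0))) (.nd (.nd (.lf 67166) (.lf 18808)) (.nd (.lf 134944) (.lf 0))))) (.nd (.nd (.nd (.nd (.lf 0) (.lf 51102)) (.nd (.lf 91452) (.lf 0))) (.nd (.nd (.lf 0) (.lf 85218)) (.nd (.lf 0) (.lf 0)))) (.nd (.nd (.nd (.lf 65708) (.lf 123598)) (.nd (.lf 0) (.lf 0))) (.nd (.nd (.lf 105168) (.lf 0)) (.nd (.lf 45426) (.lf 0)))))) (.nd (.nd (.nd (.nd (.nd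 (.lf 0) (.lf 39438)) (.nd (.lf 0) (.lf 0))) (.nd (.nd (.lf 0) (.lf 160074)) (.nd (.lf 107838) (.lf 0)))) (.nd (.nd (.nd (.lf 0) (.lf 26560)) (.nd (.lf 0) (.lf 0))) (.nd (.nd (.lf 106950) (.lf 0)) (.nd (.lf 7880) (.lf 0))))) (.nd (.nd (.nd (.nd (.lf 0) (.lf 13444)) (.nd (.lf 68570) (.lf 0))) (.nd (.nd (.lf 0) (.lf 75886)) (.nd (.lf 9446) (.lf 0)))) (.nd (.nd (.nd (.lf 159318) (.lf 0)) (.nd (.lf 0) (.lf 0))) (.nd (.nd (.lf 0) (.lf 0)) (.nd (.lf 128088) (.lf 0))))))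

/-- table part -/
def jsT_12 : Tr :=
  .nd (.nd (.nd (.nd (.nd (.nd (.lf 0) (.lf 95432)) (.nd (.lf 0) (.lf 0))) (.nd (.nd (.lf 0) (.lf 37450)) (.nd (.lf 0) (.lf 0)))) (.nd (.nd (.nd (.lf 0) (.lf 12574)) (.nd (.lf 0) (.lf 0))) (.nd (.nd (.lf 0) (.lf 140700)) (.nd (.lf 0) (.lf 0))))) (.nd (.nd (.nd (.nd (.lf 0) (.lf 0)) (.nd (.lf 117374) (.lf 0))) (.nd (.nd (.lf 118634) (.lf 108102)) (.nd (.lf 150316) (.lf 0)))) (.nd (.nd (.nd (.lf 0) (.lf 55122)) (.nd (.lf 92426) (.lf 0))) (.nd (.nd (.lf 66194) (.lf 0)) (.nd (.lf 0) (.lf 0)))))) (.nd (.nd (.nd (.nd (.nd (.lf 0) (.lf 0)) (.nd (.lf 2098) (.lf 0))) (.nd (.nd (.lf 0) (.lf 66146)) (.nd (.lf 644) (.lf 0)))) (.nd (.nd (.nd (.lf 0) (.lf 90858)) (.nd (.lf 96582) (.lf 0))) (.nd (.nd (.lf 0) (.lf 0)) (.nd (.lf 124192) (.lf 0))))) (.nd (.nd (.nd (.nd (.lf 0) (.lf 13390)) (.nd (.lf 0) (.lf 0))) (.nd (.nd (.lf 0) (.lf 93292)) (.nd (.lf 41466) (.lf 0))))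 (.nd (.nd (.nd (.lf 0) (.lf 92428)) (.nd (.lf 112908) (.lf 0))) (.nd (.nd (.lf 0) (.lf 0)) (.nd (.lf 8688) (.lf 0))))))

/-- table part -/
def jsT_13 : Tr :=
  .nd jsT_11 jsT_12

/-- table part -/
def jsT_14 : Tr :=
  .nd jsT_10 jsT_13

/-- table part -/
def jsT_15 : Tr :=
  .nd jsT_7 jsT_14

/-- table part -/
def jsT_16 : Tr :=
  .nd (.nd (.nd (.nd (.nd (.nd (.lf 0) (.lf 0)) (.nd (.lf 118350) (.lf 0))) (.nd (.nd (.lf 0) (.lf 88044)) (.nd (.lf 107652) (.lf 0)))) (.nd (.nd (.nd (.lf 0) (.lf 0)) (.nd (.lf 6184) (.lf 0))) (.nd (.nd (.lf 0) (.lf 5162)) (.nd (.lf 0) (.lf 0))))) (.nd (.nd (.nd (.nd (.lf 0) (.lf 114942)) (.nd (.lf 70556) (.lf 0))) (.nd (.nd (.lf 0) (.lf 115248)) (.nd (.lf 0) (.lf 0)))) (.nd (.nd (.nd (.lf 0) (.lf 48126)) (.nd (.lf 156888) (.lf 0))) (.nd (.nd (.lf 5018) (.lf 0)) (.nd (.lf 163350) (.lf 0)))))) (.nd (.nd (.nd (.nd (.nd (.lf 0) (.lf 11980)) (.nd (.lf 0) (.lf 0))) (.nd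 (.nd (.lf 0) (.lf 130086)) (.nd (.lf 67550) (.lf 0)))) (.nd (.nd (.nd (.lf 0) (.lf 106590)) (.nd (.lf 0) (.lf 0))) (.nd (.nd (.lf 0) (.lf 0)) (.nd (.lf 131058) (.lf 0))))) (.nd (.nd (.nd (.nd (.lf 0) (.lf 104772)) (.nd (.lf 41400) (.lf 0))) (.nd (.nd (.lf 0) (.lf 92118)) (.nd (.lf 74030) (.lf 0)))) (.nd (.nd (.nd (.lf 0) (.lf 98780)) (.nd (.lf 0) (.lf 0))) (.nd (.nd (.lf 5090) (.lf 0)) (.nd (.lf 68468) (.lf 0))))))

/-- table part -/
def jsT_17 : Tr :=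
  .nd (.nd (.nd (.nd (.nd (.nd (.lf 0) (.lf 6638)) (.nd (.lf 20644) (.lf 0))) (.nd (.nd (.lf 0) (.lf 10346)) (.nd (.lf 72788) (.lf 0)))) (.nd (.nd (.nd (.lf 65528) (.lf 93162)) (.nd (.lf 77910) (.lf 0))) (.nd (.nd (.lf 0) (.lf 131500)) (.nd (.lf 65840) (.lf 0))))) (.nd (.nd (.nd (.nd (.lf 0) (.lf 0)) (.nd (.lf 0) (.lf 0))) (.nd (.nd (.lf 0) (.lf 75416)) (.nd (.lf 55994) (.lf 0)))) (.nd (.nd (.nd (.lf 0) (.lf 116616)) (.nd (.lf 102270) (.lf 0))) (.nd (.nd (.lf 0) (.lf 0)) (.nd (.lf 6368) (.lf 0)))))) (.nd (.nd (.nd (.nd (.nd (.lf 0) (.lf 0)) (.nd (.lf 133138) (.lf 0))) (.nd (.nd (.lf 105980) (.lf 67394)) (.nd (.lf 0) (.lf 0)))) (.nd (.nd (.nd (.lf 0) (.lf 165330)) (.nd (.lf 125114) (.lf 0))) (.nd (.nd (.lf 15460) (.lf 0)) (.nd (.lf 52854) (.lf 0))))) (.nd (.nd (.nd (.nd (.lf 0) (.lf 107852)) (.nd (.lf 0) (.lf 0))) (.nd (.nd (.lf 0) (.lf 34462)) (.nd (.lf 0) (.lf 0)))) (.nd (.nd (.nd (.lf 0)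 (.lf 134218)) (.nd (.lf 30934) (.lf 0))) (.nd (.nd (.lf 0) (.lf 0)) (.nd (.lf 113628) (.lf 0))))))

/-- table part -/
def jsT_18 : Tr :=
  .nd jsT_16 jsT_17

/-- table part -/
def jsT_19 : Tr :=
  .nd (.nd (.nd (.nd (.nd (.nd (.lf 0) (.lf 118508)) (.nd (.lf 0) (.lf 0))) (.nd (.nd (.lf 0) (.lf 108212)) (.nd (.lf 0) (.lf 0)))) (.nd (.nd (.nd (.lf 0) (.lf 12018)) (.nd (.lf 0) (.lf 0))) (.nd (.nd (.lf 33868) (.lf 33452)) (.nd (.lf 146214) (.lf 0))))) (.nd (.nd (.nd (.nd (.lf 0) (.lf 0)) (.nd (.lf 0) (.lf 0))) (.nd (.nd (.lf 0) (.lf 162450)) (.nd (.lf 100218) (.lf 0)))) (.nd (.nd (.nd (.lf 92314) (.lf 92158)) (.nd (.lf 0) (.lf 0))) (.nd (.nd (.lf 52530) (.lf 0)) (.nd (.lf 108536) (.lf 0)))))) (.nd (.nd (.nd (.nd (.nd (.lf 0) (.lf 0)) (.nd (.lf 0) (.lf 0))) (.nd (.nd (.lf 0) (.lf 12794)) (.nd (.lf 0) (.lf 0)))) (.nd (.nd (.nd (.lf 0) (.lf 51510)) (.nd (.lf 0) (.lf 0))) (.nd (.nd (.lf 0) (.lf 0))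 (.nd (.lf 0) (.lf 0))))) (.nd (.nd (.nd (.nd (.lf 0) (.lf 129620)) (.nd (.lf 0) (.lf 0))) (.nd (.nd (.lf 27244) (.lf 35952)) (.nd (.lf 28720) (.lf 0)))) (.nd (.nd (.nd (.lf 0) (.lf 130412)) (.nd (.lf 108378) (.lf 0))) (.nd (.nd (.lf 133194) (.lf 0)) (.nd (.lf 0) (.lf 0))))))

/-- table part -/
def jsT_20 : Tr :=
  .nd (.nd (.nd (.nd (.nd (.nd (.lf 0) (.lf 0)) (.nd (.lf 36100) (.lf 0))) (.nd (.nd (.lf 0) (.lf 0)) (.nd (.lf 0) (.lf 0)))) (.nd (.nd (.nd (.lf 0) (.lf 0)) (.nd (.lf 0) (.lf 0))) (.nd (.nd (.lf 27362) (.lf 29602)) (.nd (.lf 130464) (.lf 0))))) (.nd (.nd (.nd (.nd (.lf 0) (.lf 10796)) (.nd (.lf 0) (.lf 0))) (.nd (.nd (.lf 0) (.lf 111198)) (.nd (.lf 8722) (.lf 0)))) (.nd (.nd (.nd (.lf 0) (.lf 134002)) (.nd (.lf 0) (.lf 0))) (.nd (.nd (.lf 98758) (.lf 0)) (.nd (.lf 152928) (.lf 0)))))) (.nd (.nd (.nd (.nd (.nd (.lf 0) (.lf 0)) (.nd (.lf 131958) (.lf 0))) (.nd (.nd (.lf 0) (.lf 37954))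 (.nd (.lf 0) (.lf 0)))) (.nd (.nd (.nd (.lf 0) (.lf 47268)) (.nd (.lf 109254) (.lf 0))) (.nd (.nd (.lf 0) (.lf 0)) (.nd (.lf 166230) (.lf 0))))) (.nd (.nd (.nd (.nd (.lf 0) (.lf 132760)) (.nd (.lf 0) (.lf 0))) (.nd (.nd (.lf 27564) (.lf 33756)) (.nd (.lf 95756) (.lf 0)))) (.nd (.nd (.nd (.lf 14360) (.lf 79656)) (.nd (.lf 0) (.lf 0))) (.nd (.nd (.lf 0) (.lf 0)) (.nd (.lf 74930) (.lf 0))))))

/-- table part -/
def jsT_21 : Tr :=
  .nd jsT_19 jsT_20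

/-- table part -/
def jsT_22 : Tr :=
  .nd jsT_18 jsT_21

/-- table part -/
def jsT_23 : Tr :=
  .nd (.nd (.nd (.nd (.nd (.nd (.lf 0) (.lf 0)) (.nd (.lf 38934) (.lf 0))) (.nd (.nd (.lf 0) (.lf 66164)) (.nd (.lf 0) (.lf 0)))) (.nd (.nd (.nd (.lf 0) (.lf 80160)) (.nd (.lf 0) (.lf 0))) (.nd (.nd (.lf 0) (.lf 54960)) (.nd (.lf 92442) (.lf 0))))) (.nd (.nd (.nd (.nd (.lf 0) (.lf 80650)) (.nd (.lf 130404) (.lf 0))) (.nd (.nd (.lf 0) (.lf 100544)) (.nd (.lf 0) (.lf 0)))) (.nd (.nd (.nd (.lf 0) (.lf 138196)) (.nd (.lf 0) (.lf 0))) (.nd (.nd (.lf 0) (.lf 0)) (.nd (.lf 0) (.lf 0)))))) (.nd (.nd (.nd (.nd (.nd (.lf 0) (.lf 127958)) (.nd (.lf 0) (.lf 0))) (.nd (.nd (.lf 122770) (.lf 30768)) (.nd (.lf 0) (.lf 0)))) (.nd (.nd (.nd (.lf 0) (.lf 49962)) (.nd (.lf 0) (.lf 0))) (.nd (.nd (.lf 0) (.lf 0)) (.nd (.lf 107630) (.lf 0))))) (.nd (.nd (.nd (.nd (.lf 0) (.lf 30482)) (.nd (.lf 0) (.lf 0))) (.nd (.nd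 (.lf 0) (.lf 65972)) (.nd (.lf 38332) (.lf 0)))) (.nd (.nd (.nd (.lf 78480) (.lf 0)) (.nd (.lf 112044) (.lf 0))) (.nd (.nd (.lf 54088) (.lf 0)) (.nd (.lf 0) (.lf 0))))))

/-- table part -/
def jsT_24 : Tr :=
  .nd (.nd (.nd (.nd (.nd (.nd (.lf 0) (.lf 0)) (.nd (.lf 0) (.lf 0))) (.nd (.nd (.lf 0) (.lf 33220)) (.nd (.lf 65108) (.lf 0)))) (.nd (.nd (.nd (.lf 0) (.lf 93038)) (.nd (.lf 7142) (.lf 0))) (.nd (.nd (.lf 0) (.lf 9788)) (.nd (.lf 97538) (.lf 0))))) (.nd (.nd (.nd (.nd (.lf 0) (.lf 91834)) (.nd (.lf 120344) (.lf 0))) (.nd (.nd (.lf 0) (.lf 12808)) (.nd (.lf 32496) (.lf 0)))) (.nd (.nd (.nd (.lf 0) (.lf 0)) (.nd (.lf 0) (.lf 0))) (.nd (.nd (.lf 136614) (.lf 0)) (.nd (.lf 65432) (.lf 0)))))) (.nd (.nd (.nd (.nd (.nd (.lf 0) (.lf 40710)) (.nd (.lf 0) (.lf 0))) (.nd (.nd (.lf 0) (.lf 28626)) (.nd (.lf 8798) (.lf 0)))) (.nd (.nd (.nd (.lf 0) (.lf 161406)) (.nd (.lf 0) (.lf 0))) (.nd (.nd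 (.lf 91702) (.lf 0)) (.nd (.lf 122558) (.lf 0))))) (.nd (.nd (.nd (.nd (.lf 0) (.lf 113808)) (.nd (.lf 0) (.lf 0))) (.nd (.nd (.lf 0) (.lf 5196)) (.nd (.lf 7284) (.lf 0)))) (.nd (.nd (.nd (.lf 0) (.lf 25948)) (.nd (.lf 104304) (.lf 0))) (.nd (.nd (.lf 51892) (.lf 0)) (.nd (.lf 100884) (.lf 0))))))

/-- table part -/
def jsT_25 : Tr :=
  .nd jsT_23 jsT_24

/-- table part -/
def jsT_26 : Tr :=
  .nd (.nd (.nd (.nd (.nd (.nd (.lf 0) (.lf 65852)) (.nd (.lf 26502) (.lf 0))) (.nd (.nd (.lf 0) (.lf 78212)) (.nd (.lf 0) (.lf 0)))) (.nd (.nd (.nd (.lf 0) (.lf 80016)) (.nd (.lf 0) (.lf 0))) (.nd (.nd (.lf 0) (.lf 131860)) (.nd (.lf 102018) (.lf 0))))) (.nd (.nd (.nd (.nd (.lf 0) (.lf 69416)) (.nd (.lf 0) (.lf 0))) (.nd (.nd (.lf 0) (.lf 39906)) (.nd (.lf 110370) (.lf 0)))) (.nd (.nd (.nd (.lf 0) (.lf 0)) (.nd (.lf 0) (.lf 0))) (.nd (.nd (.lf 0) (.lf 0)) (.nd (.lf 9102) (.lf 0)))))) (.nd (.nd (.nd (.nd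 (.nd (.lf 0) (.lf 97106)) (.nd (.lf 0) (.lf 0))) (.nd (.nd (.lf 0) (.lf 55320)) (.nd (.lf 0) (.lf 0)))) (.nd (.nd (.nd (.lf 0) (.lf 29474)) (.nd (.lf 0) (.lf 0))) (.nd (.nd (.lf 0) (.lf 0)) (.nd (.lf 53988) (.lf 0))))) (.nd (.nd (.nd (.nd (.lf 0) (.lf 82890)) (.nd (.lf 159246) (.lf 0))) (.nd (.nd (.lf 0) (.lf 163782)) (.nd (.lf 162774) (.lf 0)))) (.nd (.nd (.nd (.lf 0) (.lf 77914)) (.nd (.lf 0) (.lf 0))) (.nd (.nd (.lf 0) (.lf 0)) (.nd (.lf 72494) (.lf 0))))))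

/-- table part -/
def jsT_27 : Tr :=
  .nd (.nd (.nd (.nd (.nd (.nd (.lf 0) (.lf 0)) (.nd (.lf 70916) (.lf 0))) (.nd (.nd (.lf 0) (.lf 0)) (.nd (.lf 19924) (.lf 0)))) (.nd (.nd (.nd (.lf 0) (.lf 38170)) (.nd (.lf 30390) (.lf 0))) (.nd (.nd (.lf 0) (.lf 11786)) (.nd (.lf 69494) (.lf 0))))) (.nd (.nd (.nd (.nd (.lf 0) (.lf 0)) (.nd (.lf 0) (.lf 0))) (.nd (.nd (.lf 0) (.lf 26252)) (.nd (.lf 105528) (.lf 0)))) (.nd (.nd (.nd (.lf 0) (.lf 106880)) (.nd (.lf 0) (.lf 0))) (.nd (.nd (.lf 68108) (.lf 0)) (.nd (.lf 40646) (.lf 0)))))) (.nd (.nd (.nd (.nd (.nd (.lf 0) (.lf 0)) (.nd (.lf 161280) (.lf 0))) (.nd (.nd (.lf 0) (.lf 113664)) (.nd (.lf 39522) (.lf 0)))) (.nd (.nd (.nd (.lf 9) (.lf 0)) (.nd (.lf 0) (.lf 0))) (.nd (.nd (.lf 0) (.lf 0)) (.nd (.lf 0) (.lf 0))))) (.nd (.nd (.nd (.nd (.lf 0) (.lf 10974)) (.nd (.lf 82104) (.lf 0))) (.nd (.nd (.lf 0) (.lf 116580)) (.nd (.lf 7) (.lf 0)))) (.nd (.nd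 (.nd (.lf 0) (.lf 28950)) (.nd (.lf 0) (.lf 0))) (.nd (.nd (.lf 5050) (.lf 0)) (.nd (.lf 92586) (.lf 0))))))

/-- table part -/
def jsT_28 : Tr :=
  .nd jsT_26 jsT_27

/-- table part -/
def jsT_29 : Tr :=
  .nd jsT_25 jsT_28

/-- table part -/
def jsT_30 : Tr :=
  .nd jsT_22 jsT_29

/-- table part -/
def jsT_31 : Tr :=
  .nd jsT_15 jsT_30

/-- table part -/
def jsT_32 : Tr :=
  .nd (.nd (.nd (.nd (.nd (.nd (.lf 0) (.lf 0)) (.nd (.lf 0) (.lf 0))) (.nd (.nd (.lf 0) (.lf 836)) (.nd (.lf 0) (.lf 0)))) (.nd (.nd (.nd (.lf 0) (.lf 0)) (.nd (.lf 144388) (.lf 0))) (.nd (.nd (.lf 0) (.lf 82744)) (.nd (.lf 141854) (.lf 0))))) (.nd (.nd (.nd (.nd (.lf 0) (.lf 79464)) (.nd (.lf 0) (.lf 0))) (.nd (.nd (.lf 0) (.lf 64962)) (.nd (.lf 0) (.lf 0)))) (.nd (.nd (.nd (.lf 0) (.lf 152456)) (.nd (.lf 151122) (.lf 0))) (.nd (.nd (.lf 0) (.lf 0)) (.nd (.lf 78844) (.lf 0)))))) (.nd (.nd (.nd (.nd (.nd (.lf 0) (.lf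 0)) (.nd (.lf 4410) (.lf 0))) (.nd (.nd (.lf 0) (.lf 49528)) (.nd (.lf 0) (.lf 0)))) (.nd (.nd (.nd (.lf 0) (.lf 57258)) (.nd (.lf 0) (.lf 0))) (.nd (.nd (.lf 0) (.lf 0)) (.nd (.lf 55108) (.lf 0))))) (.nd (.nd (.nd (.nd (.lf 0) (.lf 0)) (.nd (.lf 0) (.lf 0))) (.nd (.nd (.lf 105496) (.lf 0)) (.nd (.lf 0) (.lf 0)))) (.nd (.nd (.nd (.lf 0) (.lf 56664)) (.nd (.lf 128748) (.lf 0))) (.nd (.nd (.lf 27112) (.lf 0)) (.nd (.lf 0) (.lf 0))))))

/-- table part -/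
def jsT_33 : Tr :=
  .nd (.nd (.nd (.nd (.nd (.nd (.lf 0) (.lf 45856)) (.nd (.lf 0) (.lf 0))) (.nd (.nd (.lf 0) (.lf 43748)) (.nd (.lf 70818) (.lf 0)))) (.nd (.nd (.nd (.lf 0) (.lf 0)) (.nd (.lf 15182) (.lf 0))) (.nd (.nd (.lf 0) (.lf 9270)) (.nd (.lf 0) (.lf 0))))) (.nd (.nd (.nd (.nd (.lf 0) (.lf 0)) (.nd (.lf 73308) (.lf 0))) (.nd (.nd (.lf 0) (.lf 143582)) (.nd (.lf 146836) (.lf 0)))) (.nd (.nd (.nd (.lf 0) (.lf 143076)) (.nd (.lf 0) (.lf 0))) (.nd (.nd (.lf 104224) (.lf 0)) (.nd (.lf 0) (.lf 0)))))) (.nd (.nd (.nd (.nd (.nd (.lf 0) (.lf 100032)) (.nd (.lf 104434) (.lf 0))) (.nd (.nd (.lf 90978) (.lf 136346)) (.nd (.lf 0) (.lf 0)))) (.nd (.nd (.nd (.lf 0) (.lf 147918)) (.nd (.lf 0) (.lf 0))) (.nd (.nd (.lf 53596) (.lf 0)) (.nd (.lf 0) (.lf 0))))) (.nd (.nd (.nd (.nd (.lf 0) (.lf 154252)) (.nd (.lf 0) (.lf 0))) (.nd (.nd (.lf 145900) (.lf 129686)) (.nd (.lf 152598) (.lf 0)))) (.nd (.nd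 (.nd (.lf 0) (.lf 39318)) (.nd (.lf 0) (.lf 0))) (.nd (.nd (.lf 0) (.lf 0)) (.nd (.lf 0) (.lf 0))))))

/-- table part -/
def jsT_34 : Tr :=
  .nd jsT_32 jsT_33

/-- table part -/
def jsT_35 : Tr :=
  .nd (.nd (.nd (.nd (.nd (.nd (.lf 0) (.lf 148618)) (.nd (.lf 129640) (.lf 0))) (.nd (.nd (.lf 0) (.lf 83532)) (.nd (.lf 56088) (.lf 0)))) (.nd (.nd (.nd (.lf 0) (.lf 121102)) (.nd (.lf 0) (.lf 0))) (.nd (.nd (.lf 116652) (.lf 108712)) (.nd (.lf 70914) (.lf 0))))) (.nd (.nd (.nd (.nd (.lf 0) (.lf 0)) (.nd (.lf 0) (.lf 0))) (.nd (.nd (.lf 0) (.lf 84342)) (.nd (.lf 42760) (.lf 0)))) (.nd (.nd (.nd (.lf 0) (.lf 103756)) (.nd (.lf 0) (.lf 0))) (.nd (.nd (.lf 0) (.lf 0)) (.nd (.lf 80958) (.lf 0)))))) (.nd (.nd (.nd (.nd (.nd (.lf 0) (.lf 0)) (.nd (.lf 0) (.lf 0))) (.nd (.nd (.lf 0) (.lf 48826)) (.nd (.lf 145238) (.lf 0)))) (.nd (.nd (.nd (.lf 0) (.lf 67794)) (.nd (.lf 0) (.lf 0))) (.nd (.nd (.lf 0)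 (.lf 0)) (.nd (.lf 0) (.lf 0))))) (.nd (.nd (.nd (.nd (.lf 0) (.lf 0)) (.nd (.lf 69792) (.lf 0))) (.nd (.nd (.lf 3) (.lf 0)) (.nd (.lf 0) (.lf 0)))) (.nd (.nd (.nd (.lf 108322) (.lf 69948)) (.nd (.lf 0) (.lf 0))) (.nd (.nd (.lf 148170) (.lf 0)) (.nd (.lf 79644) (.lf 0))))))

/-- table part -/
def jsT_36 : Tr :=
  .nd (.nd (.nd (.nd (.nd (.nd (.lf 0) (.lf 80382)) (.nd (.lf 0) (.lf 0))) (.nd (.nd (.lf 0) (.lf 53698)) (.nd (.lf 139136) (.lf 0)))) (.nd (.nd (.nd (.lf 0) (.lf 136310)) (.nd (.lf 0) (.lf 0))) (.nd (.nd (.lf 2996) (.lf 3744)) (.nd (.lf 17758) (.lf 0))))) (.nd (.nd (.nd (.nd (.lf 0) (.lf 40472)) (.nd (.lf 30720) (.lf 0))) (.nd (.nd (.lf 40870) (.lf 108604)) (.nd (.lf 124590) (.lf 0)))) (.nd (.nd (.nd (.lf 13936) (.lf 43426)) (.nd (.lf 0) (.lf 0))) (.nd (.nd (.lf 148656) (.lf 0)) (.nd (.lf 52708) (.lf 0)))))) (.nd (.nd (.nd (.nd (.nd (.lf 0) (.lf 39596)) (.nd (.lf 0) (.lf 0))) (.nd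 (.nd (.lf 0) (.lf 1466)) (.nd (.lf 104992) (.lf 0)))) (.nd (.nd (.nd (.lf 0) (.lf 39102)) (.nd (.lf 0) (.lf 0))) (.nd (.nd (.lf 78136) (.lf 0)) (.nd (.lf 64900) (.lf 0))))) (.nd (.nd (.nd (.nd (.lf 0) (.lf 122322)) (.nd (.lf 0) (.lf 0))) (.nd (.nd (.lf 46756) (.lf 81484)) (.nd (.lf 38922) (.lf 0)))) (.nd (.nd (.nd (.lf 0) (.lf 68316)) (.nd (.lf 0) (.lf 0))) (.nd (.nd (.lf 0) (.lf 0)) (.nd (.lf 0) (.lf 0))))))

/-- table part -/
def jsT_37 : Tr :=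
  .nd jsT_35 jsT_36

/-- table part -/
def jsT_38 : Tr :=
  .nd jsT_34 jsT_37

/-- table part -/
def jsT_39 : Tr :=
  .nd (.nd (.nd (.nd (.nd (.nd (.lf 0) (.lf 19360)) (.nd (.lf 0) (.lf 0))) (.nd (.nd (.lf 129820) (.lf 124428)) (.nd (.lf 0) (.lf 0)))) (.nd (.nd (.nd (.lf 0) (.lf 130766)) (.nd (.lf 0) (.lf 0))) (.nd (.nd (.lf 0) (.lf 28722)) (.nd (.lf 57252) (.lf 0))))) (.nd (.nd (.nd (.nd (.lf 0) (.lf 151016)) (.nd (.lf 148370) (.lf 0))) (.nd (.nd (.lf 0) (.lf 150350)) (.nd (.lf 7352) (.lf 0)))) (.nd (.nd (.nd (.lf 0) (.lf 146624)) (.nd (.lf 0) (.lf 0))) (.nd (.nd (.lf 0) (.lf 0)) (.nd (.lf 0) (.lf 0)))))) (.nd (.nd (.nd (.nd (.nd (.lf 0) (.lf 42026)) (.nd (.lf 0) (.lf 0))) (.nd (.nd (.lf 0) (.lf 155152)) (.nd (.lf 0) (.lf 0)))) (.nd (.nd (.nd (.lf 0) (.lf 0)) (.nd (.lf 53334) (.lf 0))) (.nd (.nd (.lf 0) (.lf 0)) (.nd (.lf 62002) (.lf 0))))) (.nd (.nd (.nd (.nd (.lf 0) (.lf 107164)) (.nd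 (.lf 0) (.lf 0))) (.nd (.nd (.lf 0) (.lf 132754)) (.nd (.lf 0) (.lf 0)))) (.nd (.nd (.nd (.lf 0) (.lf 86952)) (.nd (.lf 0) (.lf 0))) (.nd (.nd (.lf 54414) (.lf 0)) (.nd (.lf 0) (.lf 0))))))

/-- table part -/
def jsT_40 : Tr :=
  .nd (.nd (.nd (.nd (.nd (.nd (.lf 0) (.lf 78766)) (.nd (.lf 0) (.lf 0))) (.nd (.nd (.lf 0) (.lf 24724)) (.nd (.lf 67674) (.lf 0)))) (.nd (.nd (.nd (.lf 0) (.lf 41950)) (.nd (.lf 142644) (.lf 0))) (.nd (.nd (.lf 146496) (.lf 150366)) (.nd (.lf 43120) (.lf 0))))) (.nd (.nd (.nd (.nd (.lf 0) (.lf 145418)) (.nd (.lf 0) (.lf 0))) (.nd (.nd (.lf 0) (.lf 117660)) (.nd (.lf 0) (.lf 0)))) (.nd (.nd (.nd (.lf 0) (.lf 1)) (.nd (.lf 0) (.lf 0))) (.nd (.nd (.lf 0) (.lf 0)) (.nd (.lf 0) (.lf 0)))))) (.nd (.nd (.nd (.nd (.nd (.lf 0) (.lf 52218)) (.nd (.lf 79194) (.lf 0))) (.nd (.nd (.lf 0) (.lf 59346)) (.nd (.lf 0) (.lf 0)))) (.nd (.nd (.nd (.lf 0) (.lf 79208)) (.nd (.lf 0) (.lf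 0))) (.nd (.nd (.lf 148708) (.lf 0)) (.nd (.lf 69816) (.lf 0))))) (.nd (.nd (.nd (.nd (.lf 0) (.lf 154884)) (.nd (.lf 0) (.lf 0))) (.nd (.nd (.lf 0) (.lf 60048)) (.nd (.lf 79640) (.lf 0)))) (.nd (.nd (.nd (.lf 0) (.lf 106882)) (.nd (.lf 39970) (.lf 0))) (.nd (.nd (.lf 0) (.lf 0)) (.nd (.lf 143722) (.lf 0))))))

/-- table part -/
def jsT_41 : Tr :=
  .nd jsT_39 jsT_40

/-- table part -/
def jsT_42 : Tr :=
  .nd (.nd (.nd (.nd (.nd (.nd (.lf 0) (.lf 39016)) (.nd (.lf 0) (.lf 0))) (.nd (.nd (.lf 0) (.lf 74874)) (.nd (.lf 0) (.lf 0)))) (.nd (.nd (.nd (.lf 0) (.lf 0)) (.nd (.lf 0) (.lf 0))) (.nd (.nd (.lf 0) (.lf 81606)) (.nd (.lf 41244) (.lf 0))))) (.nd (.nd (.nd (.nd (.lf 77794) (.lf 38658)) (.nd (.lf 43228) (.lf 0))) (.nd (.nd (.lf 0) (.lf 150024)) (.nd (.lf 150168) (.lf 0)))) (.nd (.nd (.nd (.lf 0) (.lf 153806)) (.nd (.lf 0) (.lf 0))) (.nd (.nd (.lf 0) (.lf 0)) (.nd (.lf 8784) (.lf 0))))))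 (.nd (.nd (.nd (.nd (.nd (.lf 0) (.lf 65124)) (.nd (.lf 129964) (.lf 0))) (.nd (.nd (.lf 0) (.lf 43404)) (.nd (.lf 10422) (.lf 0)))) (.nd (.nd (.nd (.lf 39106) (.lf 150512)) (.nd (.lf 0) (.lf 0))) (.nd (.nd (.lf 0) (.lf 0)) (.nd (.lf 92688) (.lf 0))))) (.nd (.nd (.nd (.nd (.lf 0) (.lf 0)) (.nd (.lf 39104) (.lf 0))) (.nd (.nd (.lf 0) (.lf 43354)) (.nd (.lf 0) (.lf 0)))) (.nd (.nd (.nd (.lf 0) (.lf 89418)) (.nd (.lf 43982) (.lf 0))) (.nd (.nd (.lf 132872) (.lf 0)) (.nd (.lf 83226) (.lf 0))))))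

/-- table part -/
def jsT_43 : Tr :=
  .nd (.nd (.nd (.nd (.nd (.nd (.lf 0) (.lf 0)) (.nd (.lf 0) (.lf 0))) (.nd (.nd (.lf 0) (.lf 153896)) (.nd (.lf 78082) (.lf 0)))) (.nd (.nd (.nd (.lf 0) (.lf 151626)) (.nd (.lf 39574) (.lf 0))) (.nd (.nd (.lf 0) (.lf 110788)) (.nd (.lf 153028) (.lf 0))))) (.nd (.nd (.nd (.nd (.lf 0) (.lf 48610)) (.nd (.lf 66876) (.lf 0))) (.nd (.nd (.lf 0) (.lf 105346)) (.nd (.lf 0) (.lf 0)))) (.nd (.nd (.nd (.lf 0) (.lf 48520)) (.nd (.lf 0) (.lf 0))) (.nd (.nd (.lf 0) (.lf 0)) (.nd (.lf 105442) (.lf 0)))))) (.nd (.nd (.nd (.nd (.nd (.lf 0) (.lf 78298)) (.nd (.lf 0) (.lf 0))) (.nd (.nd (.lf 0) (.lf 52518)) (.nd (.lf 0) (.lf 0)))) (.nd (.nd (.nd (.lf 0) (.lf 40668)) (.nd (.lf 42146) (.lf 0))) (.nd (.nd (.lf 0) (.lf 0)) (.nd (.lf 105370) (.lf 0))))) (.nd (.nd (.nd (.nd (.lf 0) (.lf 0)) (.nd (.lf 0) (.lf 0))) (.nd (.nd (.lf 0) (.lf 147988)) (.nd (.lf 66984) (.lf 0)))) (.nd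 (.nd (.nd (.lf 144572) (.lf 0)) (.nd (.lf 21322) (.lf 0))) (.nd (.nd (.lf 0) (.lf 0)) (.nd (.lf 64830) (.lf 0))))))

/-- table part -/
def jsT_44 : Tr :=
  .nd jsT_42 jsT_43

/-- table part -/
def jsT_45 : Tr :=
  .nd jsT_41 jsT_44

/-- table part -/
def jsT_46 : Tr :=
  .nd jsT_38 jsT_45

/-- table part -/
def jsT_47 : Tr :=
  .nd (.nd (.nd (.nd (.nd (.nd (.lf 0) (.lf 119676)) (.nd (.lf 0) (.lf 0))) (.nd (.nd (.lf 0) (.lf 152852)) (.nd (.lf 93948) (.lf 0)))) (.nd (.nd (.nd (.lf 0) (.lf 40600)) (.nd (.lf 0) (.lf 0))) (.nd (.nd (.lf 45568) (.lf 81266)) (.nd (.lf 44848) (.lf 0))))) (.nd (.nd (.nd (.nd (.lf 0) (.lf 52138)) (.nd (.lf 40076) (.lf 0))) (.nd (.nd (.lf 0) (.lf 83878)) (.nd (.lf 110710) (.lf 0)))) (.nd (.nd (.nd (.lf 28816) (.lf 56268)) (.nd (.lf 43066) (.lf 0))) (.nd (.nd (.lf 0) (.lf 0)) (.nd (.lf 0) (.lf 0)))))) (.nd (.nd (.nd (.nd (.nd (.lf 0) (.lf 143006)) (.nd (.lf 40202) (.lf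 0))) (.nd (.nd (.lf 0) (.lf 154630)) (.nd (.lf 0) (.lf 0)))) (.nd (.nd (.nd (.lf 0) (.lf 150870)) (.nd (.lf 0) (.lf 0))) (.nd (.nd (.lf 0) (.lf 0)) (.nd (.lf 0) (.lf 0))))) (.nd (.nd (.nd (.nd (.lf 0) (.lf 40308)) (.nd (.lf 0) (.lf 0))) (.nd (.nd (.lf 104632) (.lf 66372)) (.nd (.lf 151642) (.lf 0)))) (.nd (.nd (.nd (.lf 0) (.lf 67092)) (.nd (.lf 0) (.lf 0))) (.nd (.nd (.lf 119352) (.lf 0)) (.nd (.lf 68496) (.lf 0))))))

/-- table part -/
def jsT_48 : Tr :=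
  .nd (.nd (.nd (.nd (.nd (.nd (.lf 0) (.lf 153190)) (.nd (.lf 0) (.lf 0))) (.nd (.nd (.lf 0) (.lf 131324)) (.nd (.lf 66132) (.lf 0)))) (.nd (.nd (.nd (.lf 0) (.lf 96414)) (.nd (.lf 142718) (.lf 0))) (.nd (.nd (.lf 144140) (.lf 0)) (.nd (.lf 100338) (.lf 0))))) (.nd (.nd (.nd (.nd (.lf 0) (.lf 150764)) (.nd (.lf 0) (.lf 0))) (.nd (.nd (.lf 0) (.lf 126930)) (.nd (.lf 0) (.lf 0)))) (.nd (.nd (.nd (.lf 0) (.lf 39394)) (.nd (.lf 0) (.lf 0))) (.nd (.nd (.lf 0) (.lf 0)) (.nd (.lf 104338) (.lf 0)))))) (.nd (.nd (.nd (.nd (.nd (.lf 0) (.lf 65988)) (.nd (.lf 0) (.lf 0))) (.nd (.nd (.lf 0) (.lf 117228)) (.nd (.lf 44488) (.lf 0)))) (.nd (.nd (.nd (.lf 0) (.lf 154468)) (.nd (.lf 146782) (.lf 0))) (.nd (.nd (.lf 0) (.lf 0)) (.nd (.lf 0) (.lf 0))))) (.nd (.nd (.nd (.nd (.lf 0) (.lf 79720)) (.nd (.lf 0) (.lf 0))) (.nd (.nd (.lf 0) (.lf 44486)) (.nd (.lf 119464) (.lf 0)))) (.nd (.nd (.nd (.lf 1862) (.lf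 62454)) (.nd (.lf 980) (.lf 0))) (.nd (.nd (.lf 0) (.lf 0)) (.nd (.lf 83546) (.lf 0))))))

/-- table part -/
def jsT_49 : Tr :=
  .nd jsT_47 jsT_48

/-- table part -/
def jsT_50 : Tr :=
  .nd (.nd (.nd (.nd (.nd (.nd (.lf 0) (.lf 70404)) (.nd (.lf 0) (.lf 0))) (.nd (.nd (.lf 0) (.lf 0)) (.nd (.lf 60222) (.lf 0)))) (.nd (.nd (.nd (.lf 0) (.lf 54588)) (.nd (.lf 29172) (.lf 0))) (.nd (.nd (.lf 105994) (.lf 39628)) (.nd (.lf 134348) (.lf 0))))) (.nd (.nd (.nd (.nd (.lf 0) (.lf 84004)) (.nd (.lf 91338) (.lf 0))) (.nd (.nd (.lf 0) (.lf 154756)) (.nd (.lf 42454) (.lf 0)))) (.nd (.nd (.nd (.lf 0) (.lf 81120)) (.nd (.lf 79770) (.lf 0))) (.nd (.nd (.lf 0) (.lf 0)) (.nd (.lf 0) (.lf 0)))))) (.nd (.nd (.nd (.nd (.nd (.lf 0) (.lf 0)) (.nd (.lf 0) (.lf 0))) (.nd (.nd (.lf 0) (.lf 65412)) (.nd (.lf 0) (.lf 0)))) (.nd (.nd (.nd (.lf 66852) (.lf 42184)) (.nd (.lf 0) (.lf 0))) (.nd (.nd (.lf 0) (.lf 0)) (.nd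 (.lf 79952) (.lf 0))))) (.nd (.nd (.nd (.nd (.lf 0) (.lf 154002)) (.nd (.lf 0) (.lf 0))) (.nd (.nd (.lf 0) (.lf 0)) (.nd (.lf 40310) (.lf 0)))) (.nd (.nd (.nd (.lf 0) (.lf 154846)) (.nd (.lf 0) (.lf 0))) (.nd (.nd (.lf 0) (.lf 0)) (.nd (.lf 67402) (.lf 0))))))

/-- table part -/
def jsT_51 : Tr :=
  .nd (.nd (.nd (.nd (.nd (.nd (.lf 0) (.lf 153082)) (.nd (.lf 0) (.lf 0))) (.nd (.nd (.lf 51988) (.lf 143438)) (.nd (.lf 0) (.lf 0)))) (.nd (.nd (.nd (.lf 0) (.lf 142754)) (.nd (.lf 79504) (.lf 0))) (.nd (.nd (.lf 0) (.lf 44398)) (.nd (.lf 112672) (.lf 0))))) (.nd (.nd (.nd (.nd (.lf 0) (.lf 0)) (.nd (.lf 0) (.lf 0))) (.nd (.nd (.lf 104050) (.lf 79784)) (.nd (.lf 152024) (.lf 0)))) (.nd (.nd (.nd (.lf 0) (.lf 91494)) (.nd (.lf 135698) (.lf 0))) (.nd (.nd (.lf 0) (.lf 0)) (.nd (.lf 67542) (.lf 0)))))) (.nd (.nd (.nd (.nd (.nd (.lf 0) (.lf 55188)) (.nd (.lf 40030) (.lf 0))) (.nd (.nd (.lf 0) (.lf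 10836)) (.nd (.lf 0) (.lf 0)))) (.nd (.nd (.nd (.lf 0) (.lf 62632)) (.nd (.lf 0) (.lf 0))) (.nd (.nd (.lf 51906) (.lf 0)) (.nd (.lf 0) (.lf 0))))) (.nd (.nd (.nd (.nd (.lf 0) (.lf 80458)) (.nd (.lf 0) (.lf 0))) (.nd (.nd (.lf 145128) (.lf 80774)) (.nd (.lf 143150) (.lf 0)))) (.nd (.nd (.nd (.lf 0) (.lf 144464)) (.nd (.lf 0) (.lf 0))) (.nd (.nd (.lf 81950) (.lf 0)) (.nd (.lf 82492) (.lf 0))))))

/-- table part -/
def jsT_52 : Tr :=
  .nd jsT_50 jsT_51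

/-- table part -/
def jsT_53 : Tr :=
  .nd jsT_49 jsT_52

/-- table part -/
def jsT_54 : Tr :=
  .nd (.nd (.nd (.nd (.nd (.nd (.lf 0) (.lf 2960)) (.nd (.lf 0) (.lf 0))) (.nd (.nd (.lf 0) (.lf 150490)) (.nd (.lf 134420) (.lf 0)))) (.nd (.nd (.nd (.lf 0) (.lf 2402)) (.nd (.lf 0) (.lf 0))) (.nd (.nd (.lf 0) (.lf 79414)) (.nd (.lf 44290) (.lf 0))))) (.nd (.nd (.nd (.nd (.lf 0) (.lf 0)) (.nd (.lf 118168) (.lf 0))) (.nd (.nd (.lf 0) (.lf 107584)) (.nd (.lf 5) (.lf 0)))) (.nd (.nd (.nd (.lf 0) (.lf 66660)) (.nd (.lf 944) (.lf 0))) (.nd (.nd (.lf 146048) (.lf 0)) (.nd (.lf 46684) (.lf 0)))))) (.nd (.nd (.nd (.nd (.nd (.lf 0) (.lf 120436)) (.nd (.lf 0) (.lf 0))) (.nd (.nd (.lf 0) (.lf 79216)) (.nd (.lf 0) (.lf 0)))) (.nd (.nd (.nd (.lf 0) (.lf 0)) (.nd (.lf 0) (.lf 0))) (.nd (.nd (.lf 0) (.lf 0)) (.nd (.lf 0) (.lf 0))))) (.nd (.nd (.nd (.nd (.lf 0) (.lf 149538)) (.nd (.lf 7414) (.lf 0))) (.nd (.nd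 (.lf 0) (.lf 154684)) (.nd (.lf 45046) (.lf 0)))) (.nd (.nd (.nd (.lf 0) (.lf 78586)) (.nd (.lf 106102) (.lf 0))) (.nd (.nd (.lf 0) (.lf 0)) (.nd (.lf 86738) (.lf 0))))))

/-- table part -/
def jsT_55 : Tr :=
  .nd (.nd (.nd (.nd (.nd (.nd (.lf 0) (.lf 0)) (.nd (.lf 0) (.lf 0))) (.nd (.nd (.lf 0) (.lf 125112)) (.nd (.lf 0) (.lf 0)))) (.nd (.nd (.nd (.lf 0) (.lf 47346)) (.nd (.lf 0) (.lf 0))) (.nd (.nd (.lf 59538) (.lf 151232)) (.nd (.lf 105262) (.lf 0))))) (.nd (.nd (.nd (.nd (.lf 0) (.lf 52282)) (.nd (.lf 0) (.lf 0))) (.nd (.nd (.lf 2474) (.lf 44342)) (.nd (.lf 0) (.lf 0)))) (.nd (.nd (.nd (.lf 0) (.lf 78532)) (.nd (.lf 0) (.lf 0))) (.nd (.nd (.lf 0) (.lf 0)) (.nd (.lf 56358) (.lf 0)))))) (.nd (.nd (.nd (.nd (.nd (.lf 0) (.lf 152078)) (.nd (.lf 0) (.lf 0))) (.nd (.nd (.lf 0) (.lf 44846)) (.nd (.lf 0) (.lf 0)))) (.nd (.nd (.nd (.lf 0) (.lf 148906)) (.nd (.lf 412) (.lf 0))) (.nd (.nd (.lf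 147704) (.lf 0)) (.nd (.lf 132386) (.lf 0))))) (.nd (.nd (.nd (.nd (.lf 0) (.lf 92472)) (.nd (.lf 0) (.lf 0))) (.nd (.nd (.lf 0) (.lf 59310)) (.nd (.lf 148530) (.lf 0)))) (.nd (.nd (.nd (.lf 0) (.lf 0)) (.nd (.lf 114526) (.lf 0))) (.nd (.nd (.lf 0) (.lf 0)) (.nd (.lf 0) (.lf 0))))))

/-- table part -/
def jsT_56 : Tr :=
  .nd jsT_54 jsT_55

/-- table part -/
def jsT_57 : Tr :=
  .nd (.nd (.nd (.nd (.nd (.nd (.lf 0) (.lf 139586)) (.nd (.lf 118006) (.lf 0))) (.nd (.nd (.lf 0) (.lf 11124)) (.nd (.lf 0) (.lf 0)))) (.nd (.nd (.nd (.lf 0) (.lf 66216)) (.nd (.lf 39356) (.lf 0))) (.nd (.nd (.lf 90904) (.lf 40454)) (.nd (.lf 0) (.lf 0))))) (.nd (.nd (.nd (.nd (.lf 0) (.lf 0)) (.nd (.lf 110962) (.lf 0))) (.nd (.nd (.lf 145940) (.lf 116832)) (.nd (.lf 0) (.lf 0)))) (.nd (.nd (.nd (.lf 0) (.lf 25560)) (.nd (.lf 5444) (.lf 0))) (.nd (.nd (.lf 0) (.lf 0)) (.nd (.lf 0) (.lf 0)))))) (.nd (.nd (.nd (.nd (.nd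 (.lf 0) (.lf 21862)) (.nd (.lf 13256) (.lf 0))) (.nd (.nd (.lf 0) (.lf 42074)) (.nd (.lf 132062) (.lf 0)))) (.nd (.nd (.nd (.lf 0) (.lf 80616)) (.nd (.lf 88716) (.lf 0))) (.nd (.nd (.lf 0) (.lf 0)) (.nd (.lf 0) (.lf 0))))) (.nd (.nd (.nd (.nd (.lf 0) (.lf 59796)) (.nd (.lf 0) (.lf 0))) (.nd (.nd (.lf 0) (.lf 1132)) (.nd (.lf 0) (.lf 0)))) (.nd (.nd (.nd (.lf 0) (.lf 70722)) (.nd (.lf 0) (.lf 0))) (.nd (.nd (.lf 0) (.lf 0)) (.nd (.lf 38950) (.lf 0))))))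

/-- table part -/
def jsT_58 : Tr :=
  .nd (.nd (.nd (.nd (.nd (.nd (.lf 0) (.lf 0)) (.nd (.lf 0) (.lf 0))) (.nd (.nd (.lf 142574) (.lf 78856)) (.nd (.lf 89220) (.lf 0)))) (.nd (.nd (.nd (.lf 1088) (.lf 43306)) (.nd (.lf 11) (.lf 0))) (.nd (.nd (.lf 42580) (.lf 105958)) (.nd (.lf 117084) (.lf 0))))) (.nd (.nd (.nd (.nd (.lf 0) (.lf 56530)) (.nd (.lf 0) (.lf 0))) (.nd (.nd (.lf 0) (.lf 53292)) (.nd (.lf 0) (.lf 0)))) (.nd (.nd (.nd (.lf 143866) (.lf 41100)) (.nd (.lf 0) (.lf 0))) (.nd (.nd (.lf 56118) (.lf 0)) (.nd (.lf 117300) (.lf 0)))))) (.nd (.nd (.nd (.nd (.nd (.lf 0) (.lf 0)) (.nd (.lf 147486) (.lf 0))) (.nd (.nd (.lf 0) (.lf 52986)) (.nd (.lf 51858) (.lf 0)))) (.nd (.nd (.nd (.lf 0) (.lf 54720)) (.nd (.lf 0) (.lf 0))) (.nd (.nd (.lf 81034) (.lf 0)) (.nd (.lf 64806) (.lf 0))))) (.nd (.nd (.nd (.nd (.lf 0) (.lf 78370)) (.nd (.lf 146910) (.lf 0))) (.nd (.nd (.lf 53694) (.lf 150402)) (.nd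 (.lf 0) (.lf 0)))) (.nd (.nd (.nd (.lf 4094) (.lf 0)) (.nd (.lf 4860) (.lf 0))) (.nd (.nd (.lf 0) (.lf 0)) (.nd (.lf 52586) (.lf 0))))))

/-- table part -/
def jsT_59 : Tr :=
  .nd jsT_57 jsT_58

/-- table part -/
def jsT_60 : Tr :=
  .nd jsT_56 jsT_59

/-- table part -/
def jsT_61 : Tr :=
  .nd jsT_53 jsT_60

/-- table part -/
def jsT_62 : Tr :=
  .nd jsT_46 jsT_61

/-- table part -/
def jsT_63 : Tr :=
  .nd jsT_31 jsT_62

/-- table -/
def jsT : Tr :=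
  jsT_63

/-- relations -/
def rels : List (List (ℕ × Bool)) :=
  [[(0, true), (0, true), (0, true), (0, true), (0, true), (0, true), (0, true), (0, true), (0, true), (0, true), (0, true)],
   [(1, true), (1, true), (1, true), (1, true), (1, true), (1, true), (1, true), (1, true), (1, true), (1, true), (1, true)],
   [(0, false), (1, true), (0, false), (1, true), (0, false), (1, true), (0, false), (1, true)],
   [(1, false), (1, false), (0, true), (1, false), (1, false), (0, true), (1, false), (1, false), (0, true)],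
   [(0, false), (1, true), (0, true), (1, false), (1, false), (1, false), (0, true), (0, true), (1, true), (0, true), (0, true), (1, true)],
   [(0, false), (0, false), (1, true), (0, true), (1, true), (1, true), (1, true), (0, true), (0, true), (1, false), (0, true), (1, true)],
   [(0, false), (0, false), (0, false), (1, true), (0, true), (0, true), (1, true), (0, true), (0, true), (0, true), (1, true), (1, true)],
   [(1, false), (0, false), (1, false), (1, false), (0, false), (0, false), (1, false), (0, false), (1, false), (1, false), (0, false), (0, false)],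
   [(1, false), (1, false), (0, true), (0, true), (1, false), (1, false), (0, false), (1, true), (0, true), (0, true), (0, true), (0, true), (0, true)]]

/-- parameter edges -/
def pe : List ℕ := [1237, 361, 839, 894, 190, 671]

/-- elimination -/
def fin : List (List (ℕ × ℕ × ℕ)) :=
  [[(0, 0, 1), (0, 11, 1), (0, 13, 1), (0, 19, 1), (0, 21, 1), (0, 29, 1)],
   [(0, 5, 1), (0, 7, 1), (0, 13, 1), (0, 19, 1), (0, 23, 1), (0, 29, 1), (0, 31, 1), (0, 39, 1)],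
   [(0, 5, 1), (0, 7, 1), (0, 11, 1), (0, 19, 1), (0, 23, 1), (0, 29, 1), (0, 39, 1)],
   [(0, 0, 1), (0, 7, 1), (0, 11, 1), (0, 13, 1), (0, 19, 1), (0, 23, 1)],
   [(0, 5, 1), (0, 15, 1), (0, 21, 1), (0, 29, 1), (0, 31, 1), (0, 43, 1)],
   [(0, 13, 1), (0, 15, 1), (0, 29, 1), (0, 31, 1)],
   [(0, 11, 1), (0, 13, 1), (0, 15, 1), (0, 19, 1), (0, 43, 1)],
   [(0, 0, 1), (0, 5, 1), (0, 11, 1), (0, 13, 1), (0, 15, 1), (0, 21, 1), (0, 23, 1), (0, 29, 1), (0, 39, 1)],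
   [(0, 5, 1), (0, 7, 1), (0, 11, 1), (0, 19, 1), (0, 21, 1), (0, 39, 1), (0, 43, 1)],
   [(0, 0, 1), (0, 11, 1), (0, 13, 1), (0, 23, 1), (0, 29, 1)],
   [(0, 5, 1), (0, 7, 1), (0, 23, 1), (0, 29, 1), (0, 31, 1), (0, 43, 1)],
   [(0, 0, 1), (0, 5, 1), (0, 11, 1), (0, 13, 1), (0, 19, 1), (0, 21, 1), (0, 29, 1), (0, 31, 1)],
   [(0, 5, 1), (0, 11, 1), (0, 21, 1), (0, 29, 1), (0, 31, 1)]]

/-- the certificate -/
def cert : Cert :=
  ⟨2, 2, 720, 2, 13, rels, nxT, pvT, parT, fmT, rkT, jsT, pe, fin⟩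

end Cfsg.Agent.SplitVoltageM11P2Data
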