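import Cfsg.Agent.Lib.SplitVoltageCert

/-!
Certificate data: voltages for M11 modulo 3.
-/

set_option autoImplicit false
set_option maxRecDepth 100000

namespace Cfsg.Agent.SplitVoltageM11P3Data

open Cfsg.Agent.SplitVoltageCert

/-- table part -/
def nxT_1 : Tr :=
  .nd (.nd (.nd (.nd (.nd (.nd (.lf 0) (.lf 640)) (.nd (.lf 411) (.lf 0))) (.nd (.nd (.lf 232) (.lf 634)) (.nd (.lf 348) (.lf 0)))) (.nd (.nd (.nd (.lf 127) (.lf 693)) (.nd (.lf 487) (.lf 0))) (.nd (.nd (.lf 334) (.lf 134)) (.nd (.lf 425) (.lf 0))))) (.nd (.nd (.nd (.nd (.lf 64) (.lf 606)) (.nd (.lf 448) (.lf 0))) (.nd (.nd (.lf 287) (.lf 228)) (.nd (.lf 376) (.lf 0)))) (.nd (.nd (.nd (.lf 182) (.lf 429)) (.nd (.lf 527) (.lf 0))) (.nd (.nd (.lf 375) (.lf 0)) (.nd (.lf 636) (.lf 0)))))) (.nd (.nd (.nd (.nd (.nd (.lf 32) (.lf 585)) (.nd (.lf 431) (.lf 0))) (.nd (.nd (.lf 259) (.lf 23)) (.nd (.lf 581) (.lf 0)))) (.nd (.nd (.nd (.lf 110)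 (.lf 700)) (.nd (.lf 321) (.lf 0))) (.nd (.nd (.lf 352) (.lf 0)) (.nd (.lf 624) (.lf 0))))) (.nd (.nd (.nd (.nd (.lf 95) (.lf 480)) (.nd (.lf 465) (.lf 0))) (.nd (.nd (.lf 313) (.lf 174)) (.nd (.lf 577) (.lf 0)))) (.nd (.nd (.nd (.lf 201) (.lf 486)) (.nd (.lf 549) (.lf 0))) (.nd (.nd (.lf 172) (.lf 0)) (.nd (.lf 613) (.lf 0))))))

/-- table part -/
def nxT_2 : Tr :=
  .nd (.nd (.nd (.nd (.nd (.nd (.lf 16) (.lf 67)) (.nd (.lf 327) (.lf 0))) (.nd (.nd (.lf 246) (.lf 713)) (.nd (.lf 575) (.lf 0)))) (.nd (.nd (.nd (.lf 142) (.lf 114)) (.nd (.lf 498) (.lf 0))) (.nd (.nd (.lf 342) (.lf 676)) (.nd (.lf 621) (.lf 0))))) (.nd (.nd (.nd (.nd (.lf 79) (.lf 679)) (.nd (.lf 454) (.lf 0))) (.nd (.nd (.lf 302) (.lf 633)) (.nd (.lf 126) (.lf 0)))) (.nd (.nd (.nd (.lf 195) (.lf 678)) (.nd (.lf 537) (.lf 0))) (.nd (.nd (.lf 323) (.lf 0)) (.nd (.lf 615) (.lf 0)))))) (.nd (.nd (.nd (.nd (.nd (.lf 48) (.lf 520)) (.nd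 (.lf 176) (.lf 0))) (.nd (.nd (.lf 273) (.lf 607)) (.nd (.lf 591) (.lf 0)))) (.nd (.nd (.nd (.lf 168) (.lf 329)) (.nd (.lf 517) (.lf 0))) (.nd (.nd (.lf 367) (.lf 0)) (.nd (.lf 631) (.lf 0))))) (.nd (.nd (.nd (.nd (.lf 111) (.lf 691)) (.nd (.lf 473) (.lf 0))) (.nd (.nd (.lf 324) (.lf 717)) (.nd (.lf 616) (.lf 0)))) (.nd (.nd (.nd (.lf 220) (.lf 25)) (.nd (.lf 144) (.lf 0))) (.nd (.nd (.lf 78) (.lf 0)) (.nd (.lf 405) (.lf 0))))))

/-- table part -/
def nxT_3 : Tr :=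
  .nd nxT_1 nxT_2

/-- table part -/
def nxT_4 : Tr :=
  .nd (.nd (.nd (.nd (.nd (.nd (.lf 8) (.lf 657)) (.nd (.lf 190) (.lf 0))) (.nd (.nd (.lf 239) (.lf 310)) (.nd (.lf 569) (.lf 0)))) (.nd (.nd (.nd (.lf 135) (.lf 696)) (.nd (.lf 493) (.lf 0))) (.nd (.nd (.lf 143) (.lf 683)) (.nd (.lf 147) (.lf 0))))) (.nd (.nd (.nd (.nd (.lf 72) (.lf 546)) (.nd (.lf 450) (.lf 0))) (.nd (.nd (.lf 295) (.lf 709)) (.nd (.lf 163) (.lf 0)))) (.nd (.nd (.nd (.lf 189) (.lf 350)) (.nd (.lf 531) (.lf 0))) (.nd (.nd (.lf 98) (.lf 0)) (.nd (.lf 622) (.lf 0)))))) (.nd (.nd (.nd (.nd (.nd (.lf 40) (.lf 502)) (.nd (.lf 155) (.lf 0))) (.nd (.nd (.lf 141) (.lf 702)) (.nd (.lf 579) (.lf 0)))) (.nd (.nd (.nd (.lf 162) (.lf 701)) (.nd (.lf 53) (.lf 0))) (.nd (.nd (.lf 360) (.lf 0)) (.nd (.lf 627) (.lf 0))))) (.nd (.nd (.nd (.nd (.lf 103) (.lf 688)) (.nd (.lf 377) (.lf 0))) (.nd (.nd (.lf 318) (.lf 204)) (.nd (.lf 388) (.lf 0))))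 (.nd (.nd (.nd (.lf 214) (.lf 666)) (.nd (.lf 171) (.lf 0))) (.nd (.nd (.lf 395) (.lf 0)) (.nd (.lf 451) (.lf 0))))))

/-- table part -/
def nxT_5 : Tr :=
  .nd (.nd (.nd (.nd (.nd (.nd (.lf 24) (.lf 661)) (.nd (.lf 412) (.lf 0))) (.nd (.nd (.lf 253) (.lf 298)) (.nd (.lf 541) (.lf 0)))) (.nd (.nd (.nd (.lf 148) (.lf 518)) (.nd (.lf 501) (.lf 0))) (.nd (.nd (.lf 347) (.lf 181)) (.nd (.lf 266) (.lf 0))))) (.nd (.nd (.nd (.nd (.lf 87) (.lf 682)) (.nd (.lf 460) (.lf 0))) (.nd (.nd (.lf 308) (.lf 462)) (.nd (.lf 598) (.lf 0)))) (.nd (.nd (.nd (.lf 202) (.lf 65)) (.nd (.lf 490) (.lf 0))) (.nd (.nd (.lf 390) (.lf 0)) (.nd (.lf 386) (.lf 0)))))) (.nd (.nd (.nd (.nd (.nd (.lf 56) (.lf 63)) (.nd (.lf 196) (.lf 0))) (.nd (.nd (.lf 279) (.lf 559)) (.nd (.lf 523) (.lf 0)))) (.nd (.nd (.nd (.lf 175) (.lf 13)) (.nd (.lf 522) (.lf 0))) (.nd (.nd (.lf 370) (.lf 0)) (.nd (.lf 468) (.lf 0))))) (.nd (.nd (.nd (.nd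 (.lf 119) (.lf 178)) (.nd (.lf 481) (.lf 0))) (.nd (.nd (.lf 330) (.lf 669)) (.nd (.lf 3) (.lf 0)))) (.nd (.nd (.nd (.lf 227) (.lf 446)) (.nd (.lf 561) (.lf 0))) (.nd (.nd (.lf 243) (.lf 0)) (.nd (.lf 562) (.lf 0))))))

/-- table part -/
def nxT_6 : Tr :=
  .nd nxT_4 nxT_5

/-- table part -/
def nxT_7 : Tr :=
  .nd nxT_3 nxT_6

/-- table part -/
def nxT_8 : Tr :=
  .nd (.nd (.nd (.nd (.nd (.nd (.lf 4) (.lf 355)) (.nd (.lf 414) (.lf 0))) (.nd (.nd (.lf 236) (.lf 674)) (.nd (.lf 423) (.lf 0)))) (.nd (.nd (.nd (.lf 131) (.lf 532)) (.nd (.lf 489) (.lf 0))) (.nd (.nd (.lf 120) (.lf 276)) (.nd (.lf 216) (.lf 0))))) (.nd (.nd (.nd (.nd (.lf 68) (.lf 426)) (.nd (.lf 359) (.lf 0))) (.nd (.nd (.lf 291) (.lf 37)) (.nd (.lf 601) (.lf 0)))) (.nd (.nd (.nd (.lf 185) (.lf 439)) (.nd (.lf 528) (.lf 0))) (.nd (.nd (.lf 312) (.lf 0)) (.nd (.lf 612) (.lf 0)))))) (.nd (.nd (.nd (.nd (.nd (.lf 36) (.lf 564)) (.nd (.lf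 433) (.lf 0))) (.nd (.nd (.lf 263) (.lf 692)) (.nd (.lf 584) (.lf 0)))) (.nd (.nd (.nd (.lf 158) (.lf 167)) (.nd (.lf 508) (.lf 0))) (.nd (.nd (.lf 356) (.lf 0)) (.nd (.lf 553) (.lf 0))))) (.nd (.nd (.nd (.nd (.lf 99) (.lf 687)) (.nd (.lf 186) (.lf 0))) (.nd (.nd (.lf 296) (.lf 224)) (.nd (.lf 611) (.lf 0)))) (.nd (.nd (.nd (.lf 211) (.lf 632)) (.nd (.lf 552) (.lf 0))) (.nd (.nd (.lf 393) (.lf 0)) (.nd (.lf 647) (.lf 0))))))

/-- table part -/
def nxT_9 : Tr :=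
  .nd (.nd (.nd (.nd (.nd (.nd (.lf 20) (.lf 658)) (.nd (.lf 422) (.lf 0))) (.nd (.nd (.lf 198) (.lf 653)) (.nd (.lf 576) (.lf 0)))) (.nd (.nd (.nd (.lf 41) (.lf 265)) (.nd (.lf 499) (.lf 0))) (.nd (.nd (.lf 345) (.lf 719)) (.nd (.lf 217) (.lf 0))))) (.nd (.nd (.nd (.nd (.lf 83) (.lf 651)) (.nd (.lf 457) (.lf 0))) (.nd (.nd (.lf 61) (.lf 680)) (.nd (.lf 212) (.lf 0)))) (.nd (.nd (.nd (.lf 17) (.lf 382)) (.nd (.lf 540) (.lf 0))) (.nd (.nd (.lf 387) (.lf 0)) (.nd (.lf 643) (.lf 0)))))) (.nd (.nd (.nd (.nd (.nd (.lf 52) (.lf 226)) (.nd (.lf 443) (.lf 0))) (.nd (.nd (.lf 275) (.lf 59)) (.nd (.lf 47) (.lf 0)))) (.nd (.nd (.nd (.lf 43) (.lf 112)) (.nd (.lf 519) (.lf 0))) (.nd (.nd (.lf 369) (.lf 0)) (.nd (.lf 614) (.lf 0))))) (.nd (.nd (.nd (.nd (.lf 115) (.lf 548)) (.nd (.lf 477) (.lf 0))) (.nd (.nd (.lf 55) (.lf 592)) (.nd (.lf 257) (.lf 0)))) (.nd (.nd (.nd (.lf 223) (.lf 708)) (.nd (.lf 560) (.lf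 0))) (.nd (.nd (.lf 403) (.lf 0)) (.nd (.lf 551) (.lf 0))))))

/-- table part -/
def nxT_10 : Tr :=
  .nd nxT_8 nxT_9

/-- table part -/
def nxT_11 : Tr :=
  .nd (.nd (.nd (.nd (.nd (.nd (.lf 12) (.lf 618)) (.nd (.lf 122) (.lf 0))) (.nd (.nd (.lf 9) (.lf 157)) (.nd (.lf 571) (.lf 0)))) (.nd (.nd (.nd (.lf 128) (.lf 474)) (.nd (.lf 409) (.lf 0))) (.nd (.nd (.lf 240) (.lf 476)) (.nd (.lf 132) (.lf 0))))) (.nd (.nd (.nd (.nd (.lf 76) (.lf 630)) (.nd (.lf 394) (.lf 0))) (.nd (.nd (.lf 299) (.lf 660)) (.nd (.lf 603) (.lf 0)))) (.nd (.nd (.nd (.lf 102) (.lf 399)) (.nd (.lf 534) (.lf 0))) (.nd (.nd (.lf 145) (.lf 0)) (.nd (.lf 192) (.lf 0)))))) (.nd (.nd (.nd (.nd (.nd (.lf 44) (.lf 652)) (.nd (.lf 440) (.lf 0))) (.nd (.nd (.lf 269) (.lf 252)) (.nd (.lf 149) (.lf 0)))) (.nd (.nd (.nd (.lf 165) (.lf 250)) (.nd (.lf 514) (.lf 0))) (.nd (.nd (.lf 96) (.lf 0)) (.nd (.lf 437) (.lf 0))))) (.nd (.nd (.nd (.nd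 (.lf 107) (.lf 86)) (.nd (.lf 357) (.lf 0))) (.nd (.nd (.lf 320) (.lf 642)) (.nd (.lf 524) (.lf 0)))) (.nd (.nd (.nd (.lf 210) (.lf 707)) (.nd (.lf 556) (.lf 0))) (.nd (.nd (.lf 397) (.lf 0)) (.nd (.lf 526) (.lf 0))))))

/-- table part -/
def nxT_12 : Tr :=
  .nd (.nd (.nd (.nd (.nd (.nd (.lf 28) (.lf 315)) (.nd (.lf 428) (.lf 0))) (.nd (.nd (.lf 256) (.lf 254)) (.nd (.lf 580) (.lf 0)))) (.nd (.nd (.nd (.lf 152) (.lf 698)) (.nd (.lf 504) (.lf 0))) (.nd (.nd (.lf 349) (.lf 718)) (.nd (.lf 623) (.lf 0))))) (.nd (.nd (.nd (.nd (.lf 91) (.lf 684)) (.nd (.lf 447) (.lf 0))) (.nd (.nd (.lf 27) (.lf 136)) (.nd (.lf 410) (.lf 0)))) (.nd (.nd (.nd (.lf 205) (.lf 391)) (.nd (.lf 515) (.lf 0))) (.nd (.nd (.lf 153) (.lf 0)) (.nd (.lf 645) (.lf 0)))))) (.nd (.nd (.nd (.nd (.nd (.lf 60) (.lf 672)) (.nd (.lf 116) (.lf 0))) (.nd (.nd (.lf 283) (.lf 567)) (.nd (.lf 35) (.lf 0)))) (.nd (.nd (.nd (.lf 179) (.lf 100))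 (.nd (.lf 364) (.lf 0))) (.nd (.nd (.lf 372) (.lf 0)) (.nd (.lf 511) (.lf 0))))) (.nd (.nd (.nd (.nd (.lf 123) (.lf 11)) (.nd (.lf 485) (.lf 0))) (.nd (.nd (.lf 331) (.lf 459)) (.nd (.lf 419) (.lf 0)))) (.nd (.nd (.nd (.lf 230) (.lf 49)) (.nd (.lf 464) (.lf 0))) (.nd (.nd (.lf 408) (.lf 0)) (.nd (.lf 482) (.lf 0))))))

/-- table part -/
def nxT_13 : Tr :=
  .nd nxT_11 nxT_12

/-- table part -/
def nxT_14 : Tr :=
  .nd nxT_10 nxT_13

/-- table part -/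
def nxT_15 : Tr :=
  .nd nxT_7 nxT_14

/-- table part -/
def nxT_16 : Tr :=
  .nd (.nd (.nd (.nd (.nd (.nd (.lf 2) (.lf 655)) (.nd (.lf 29) (.lf 0))) (.nd (.nd (.lf 234) (.lf 628)) (.nd (.lf 264) (.lf 0)))) (.nd (.nd (.nd (.lf 129) (.lf 695)) (.nd (.lf 343) (.lf 0))) (.nd (.nd (.lf 336) (.lf 286)) (.nd (.lf 619) (.lf 0))))) (.nd (.nd (.nd (.nd (.lf 66) (.lf 466)) (.nd (.lf 130) (.lf 0))) (.nd (.nd (.lf 289) (.lf 595)) (.nd (.lf 600) (.lf 0)))) (.nd (.nd (.nd (.lf 184) (.lf 663)) (.nd (.lf 75) (.lf 0))) (.nd (.nd (.lf 278) (.lf 0)) (.nd (.lf 434) (.lf 0)))))) (.nd (.nd (.nd (.nd (.nd (.lf 34) (.lf 665)) (.nd (.lf 432) (.lf 0))) (.nd (.nd (.lf 261) (.lf 604)) (.nd (.lf 208) (.lf 0)))) (.nd (.nd (.nd (.lf 156) (.lf 84)) (.nd (.lf 506) (.lf 0))) (.nd (.nd (.lf 354) (.lf 0)) (.nd (.lf 380) (.lf 0))))) (.nd (.nd (.nd (.nd (.lf 97) (.lf 80)) (.nd (.lf 389) (.lf 0))) (.nd (.nd (.lf 314) (.lf 555)) (.nd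 (.lf 400) (.lf 0)))) (.nd (.nd (.nd (.lf 209) (.lf 139)) (.nd (.lf 550) (.lf 0))) (.nd (.nd (.lf 282) (.lf 0)) (.nd (.lf 472) (.lf 0))))))

/-- table part -/
def nxT_17 : Tr :=
  .nd (.nd (.nd (.nd (.nd (.nd (.lf 18) (.lf 368)) (.nd (.lf 268) (.lf 0))) (.nd (.nd (.lf 248) (.lf 574)) (.nd (.lf 191) (.lf 0)))) (.nd (.nd (.nd (.lf 82) (.lf 566)) (.nd (.lf 406) (.lf 0))) (.nd (.nd (.lf 344) (.lf 637)) (.nd (.lf 610) (.lf 0))))) (.nd (.nd (.nd (.nd (.lf 81) (.lf 681)) (.nd (.lf 455) (.lf 0))) (.nd (.nd (.lf 304) (.lf 641)) (.nd (.lf 194) (.lf 0)))) (.nd (.nd (.nd (.lf 197) (.lf 694)) (.nd (.lf 51) (.lf 0))) (.nd (.nd (.lf 385) (.lf 0)) (.nd (.lf 353) (.lf 0)))))) (.nd (.nd (.nd (.nd (.nd (.lf 50) (.lf 670)) (.nd (.lf 104) (.lf 0))) (.nd (.nd (.lf 199) (.lf 445)) (.nd (.lf 593) (.lf 0)))) (.nd (.nd (.nd (.lf 170) (.lf 544)) (.nd (.lf 467) (.lf 0))) (.nd (.nd (.lf 69) (.lf 0)) (.nd (.lf 620) (.lf 0)))))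 (.nd (.nd (.nd (.nd (.lf 113) (.lf 587)) (.nd (.lf 475) (.lf 0))) (.nd (.nd (.lf 325) (.lf 712)) (.nd (.lf 617) (.lf 0)))) (.nd (.nd (.nd (.lf 222) (.lf 415)) (.nd (.lf 420) (.lf 0))) (.nd (.nd (.lf 401) (.lf 0)) (.nd (.lf 449) (.lf 0))))))

/-- table part -/
def nxT_18 : Tr :=
  .nd nxT_16 nxT_17

/-- table part -/
def nxT_19 : Tr :=
  .nd (.nd (.nd (.nd (.nd (.nd (.lf 10) (.lf 378)) (.nd (.lf 417) (.lf 0))) (.nd (.nd (.lf 241) (.lf 245)) (.nd (.lf 570) (.lf 0)))) (.nd (.nd (.nd (.lf 137) (.lf 667)) (.nd (.lf 495) (.lf 0))) (.nd (.nd (.lf 274) (.lf 644)) (.nd (.lf 108) (.lf 0))))) (.nd (.nd (.nd (.nd (.lf 74) (.lf 677)) (.nd (.lf 452) (.lf 0))) (.nd (.nd (.lf 297) (.lf 384)) (.nd (.lf 332) (.lf 0)))) (.nd (.nd (.nd (.lf 5) (.lf 71)) (.nd (.lf 533) (.lf 0))) (.nd (.nd (.lf 229) (.lf 0)) (.nd (.lf 363) (.lf 0)))))) (.nd (.nd (.nd (.nd (.nd (.lf 42) (.lf 668)) (.nd (.lf 438) (.lf 0))) (.nd (.nd (.lf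 267) (.lf 710)) (.nd (.lf 588) (.lf 0)))) (.nd (.nd (.nd (.lf 164) (.lf 247)) (.nd (.lf 512) (.lf 0))) (.nd (.nd (.lf 362) (.lf 0)) (.nd (.lf 629) (.lf 0))))) (.nd (.nd (.nd (.nd (.lf 105) (.lf 1)) (.nd (.lf 470) (.lf 0))) (.nd (.nd (.lf 15) (.lf 558)) (.nd (.lf 427) (.lf 0)))) (.nd (.nd (.nd (.lf 215) (.lf 45)) (.nd (.lf 88) (.lf 0))) (.nd (.nd (.lf 106) (.lf 0)) (.nd (.lf 650) (.lf 0))))))

/-- table part -/
def nxT_20 : Tr :=
  .nd (.nd (.nd (.nd (.nd (.nd (.lf 26) (.lf 662)) (.nd (.lf 339) (.lf 0))) (.nd (.nd (.lf 255) (.lf 714)) (.nd (.lf 578) (.lf 0)))) (.nd (.nd (.nd (.lf 150) (.lf 699)) (.nd (.lf 503) (.lf 0))) (.nd (.nd (.lf 317) (.lf 648)) (.nd (.lf 430) (.lf 0))))) (.nd (.nd (.nd (.nd (.lf 89) (.lf 599)) (.nd (.lf 461) (.lf 0))) (.nd (.nd (.lf 309) (.lf 697)) (.nd (.lf 484) (.lf 0)))) (.nd (.nd (.nd (.lf 203) (.lf 272)) (.nd (.lf 545) (.lf 0))) (.nd (.nd (.lf 183) (.lf 0)) (.nd (.lf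 392) (.lf 0)))))) (.nd (.nd (.nd (.nd (.nd (.lf 58) (.lf 671)) (.nd (.lf 161) (.lf 0))) (.nd (.nd (.lf 281) (.lf 496)) (.nd (.lf 596) (.lf 0)))) (.nd (.nd (.nd (.lf 177) (.lf 638)) (.nd (.lf 418) (.lf 0))) (.nd (.nd (.lf 371) (.lf 0)) (.nd (.lf 594) (.lf 0))))) (.nd (.nd (.nd (.nd (.lf 121) (.lf 690)) (.nd (.lf 483) (.lf 0))) (.nd (.nd (.lf 92) (.lf 436)) (.nd (.lf 221) (.lf 0)))) (.nd (.nd (.nd (.lf 39) (.lf 500)) (.nd (.lf 563) (.lf 0))) (.nd (.nd (.lf 407) (.lf 0)) (.nd (.lf 213) (.lf 0))))))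

/-- table part -/
def nxT_21 : Tr :=
  .nd nxT_19 nxT_20

/-- table part -/
def nxT_22 : Tr :=
  .nd nxT_18 nxT_21

/-- table part -/
def nxT_23 : Tr :=
  .nd (.nd (.nd (.nd (.nd (.nd (.lf 6) (.lf 656)) (.nd (.lf 303) (.lf 0))) (.nd (.nd (.lf 237) (.lf 675)) (.nd (.lf 568) (.lf 0)))) (.nd (.nd (.nd (.lf 133) (.lf 290)) (.nd (.lf 491) (.lf 0))) (.nd (.nd (.lf 338) (.lf 716)) (.nd (.lf 597) (.lf 0))))) (.nd (.nd (.nd (.nd (.lf 70) (.lf 21)) (.nd (.lf 300) (.lf 0))) (.nd (.nd (.lf 293) (.lf 492)) (.nd (.lf 602) (.lf 0)))) (.nd (.nd (.nd (.lf 187) (.lf 442)) (.nd (.lf 530) (.lf 0))) (.nd (.nd (.lf 379) (.lf 0)) (.nd (.lf 639) (.lf 0)))))) (.nd (.nd (.nd (.nd (.nd (.lf 38) (.lf 306)) (.nd (.lf 435) (.lf 0))) (.nd (.nd (.lf 138) (.lf 270)) (.nd (.lf 586) (.lf 0)))) (.nd (.nd (.nd (.lf 160) (.lf 456)) (.nd (.lf 509) (.lf 0))) (.nd (.nd (.lf 358) (.lf 0)) (.nd (.lf 219) (.lf 0))))) (.nd (.nd (.nd (.nd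 (.lf 101) (.lf 646)) (.nd (.lf 469) (.lf 0))) (.nd (.nd (.lf 316) (.lf 538)) (.nd (.lf 361) (.lf 0)))) (.nd (.nd (.nd (.lf 94) (.lf 706)) (.nd (.lf 416) (.lf 0))) (.nd (.nd (.lf 7) (.lf 0)) (.nd (.lf 649) (.lf 0))))))

/-- table part -/
def nxT_24 : Tr :=
  .nd (.nd (.nd (.nd (.nd (.nd (.lf 22) (.lf 659)) (.nd (.lf 424) (.lf 0))) (.nd (.nd (.lf 251) (.lf 626)) (.nd (.lf 535) (.lf 0)))) (.nd (.nd (.nd (.lf 146) (.lf 471)) (.nd (.lf 396) (.lf 0))) (.nd (.nd (.lf 346) (.lf 543)) (.nd (.lf 31) (.lf 0))))) (.nd (.nd (.nd (.nd (.lf 85) (.lf 335)) (.nd (.lf 188) (.lf 0))) (.nd (.nd (.lf 307) (.lf 711)) (.nd (.lf 366) (.lf 0)))) (.nd (.nd (.nd (.lf 200) (.lf 705)) (.nd (.lf 542) (.lf 0))) (.nd (.nd (.lf 235) (.lf 0)) (.nd (.lf 284) (.lf 0)))))) (.nd (.nd (.nd (.nd (.nd (.lf 54) (.lf 513)) (.nd (.lf 444) (.lf 0))) (.nd (.nd (.lf 277) (.lf 151)) (.nd (.lf 488) (.lf 0)))) (.nd (.nd (.nd (.lf 173) (.lf 326))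 (.nd (.lf 521) (.lf 0))) (.nd (.nd (.lf 90) (.lf 0)) (.nd (.lf 507) (.lf 0))))) (.nd (.nd (.nd (.nd (.lf 117) (.lf 625)) (.nd (.lf 479) (.lf 0))) (.nd (.nd (.lf 328) (.lf 288)) (.nd (.lf 404) (.lf 0)))) (.nd (.nd (.nd (.lf 225) (.lf 686)) (.nd (.lf 294) (.lf 0))) (.nd (.nd (.lf 159) (.lf 0)) (.nd (.lf 19) (.lf 0))))))

/-- table part -/
def nxT_25 : Tr :=
  .nd nxT_23 nxT_24

/-- table part -/
def nxT_26 : Tr :=
  .nd (.nd (.nd (.nd (.nd (.nd (.lf 14) (.lf 118)) (.nd (.lf 33) (.lf 0))) (.nd (.nd (.lf 244) (.lf 554)) (.nd (.lf 573) (.lf 0)))) (.nd (.nd (.nd (.lf 140) (.lf 238)) (.nd (.lf 497) (.lf 0))) (.nd (.nd (.lf 341) (.lf 583)) (.nd (.lf 57) (.lf 0))))) (.nd (.nd (.nd (.nd (.lf 77) (.lf 413)) (.nd (.lf 453) (.lf 0))) (.nd (.nd (.lf 301) (.lf 589)) (.nd (.lf 510) (.lf 0)))) (.nd (.nd (.nd (.lf 193) (.lf 704)) (.nd (.lf 536) (.lf 0))) (.nd (.nd (.lf 383) (.lf 0)) (.nd (.lf 505) (.lf 0)))))) (.nd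 (.nd (.nd (.nd (.nd (.lf 46) (.lf 494)) (.nd (.lf 441) (.lf 0))) (.nd (.nd (.lf 271) (.lf 605)) (.nd (.lf 590) (.lf 0)))) (.nd (.nd (.nd (.lf 166) (.lf 608)) (.nd (.lf 516) (.lf 0))) (.nd (.nd (.lf 365) (.lf 0)) (.nd (.lf 337) (.lf 0))))) (.nd (.nd (.nd (.nd (.lf 109) (.lf 305)) (.nd (.lf 206) (.lf 0))) (.nd (.nd (.lf 322) (.lf 458)) (.nd (.lf 402) (.lf 0)))) (.nd (.nd (.nd (.lf 218) (.lf 582)) (.nd (.lf 557) (.lf 0))) (.nd (.nd (.lf 398) (.lf 0)) (.nd (.lf 572) (.lf 0))))))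

/-- table part -/
def nxT_27 : Tr :=
  .nd (.nd (.nd (.nd (.nd (.nd (.lf 30) (.lf 664)) (.nd (.lf 340) (.lf 0))) (.nd (.nd (.lf 258) (.lf 715)) (.nd (.lf 233) (.lf 0)))) (.nd (.nd (.nd (.lf 154) (.lf 421)) (.nd (.lf 249) (.lf 0))) (.nd (.nd (.lf 351) (.lf 654)) (.nd (.lf 529) (.lf 0))))) (.nd (.nd (.nd (.nd (.lf 93) (.lf 685)) (.nd (.lf 463) (.lf 0))) (.nd (.nd (.lf 311) (.lf 381)) (.nd (.lf 539) (.lf 0)))) (.nd (.nd (.nd (.lf 207) (.lf 124)) (.nd (.lf 547) (.lf 0))) (.nd (.nd (.lf 242) (.lf 0)) (.nd (.lf 180) (.lf 0)))))) (.nd (.nd (.nd (.nd (.nd (.lf 62) (.lf 673)) (.nd (.lf 319) (.lf 0))) (.nd (.nd (.lf 285) (.lf 373)) (.nd (.lf 478) (.lf 0)))) (.nd (.nd (.nd (.lf 73) (.lf 703)) (.nd (.lf 525) (.lf 0))) (.nd (.nd (.lf 374) (.lf 0)) (.nd (.lf 635) (.lf 0))))) (.nd (.nd (.nd (.nd (.lf 125) (.lf 609)) (.nd (.lf 292) (.lf 0))) (.nd (.nd (.lf 333) (.lf 689)) (.nd (.lf 260) (.lf 0)))) (.nd (.nd (.nd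 (.lf 231) (.lf 169)) (.nd (.lf 565) (.lf 0))) (.nd (.nd (.lf 280) (.lf 0)) (.nd (.lf 262) (.lf 0))))))

/-- table part -/
def nxT_28 : Tr :=
  .nd nxT_26 nxT_27

/-- table part -/
def nxT_29 : Tr :=
  .nd nxT_25 nxT_28

/-- table part -/
def nxT_30 : Tr :=
  .nd nxT_22 nxT_29

/-- table part -/
def nxT_31 : Tr :=
  .nd nxT_15 nxT_30

/-- table part -/
def nxT_32 : Tr :=
  .nd (.nd (.nd (.nd (.nd (.nd (.lf 1) (.lf 654)) (.nd (.lf 412) (.lf 0))) (.nd (.nd (.lf 233) (.lf 46)) (.nd (.lf 566) (.lf 0)))) (.nd (.nd (.nd (.lf 128) (.lf 694)) (.nd (.lf 101) (.lf 0))) (.nd (.nd (.lf 335) (.lf 289)) (.nd (.lf 552) (.lf 0))))) (.nd (.nd (.nd (.nd (.lf 65) (.lf 314)) (.nd (.lf 449) (.lf 0))) (.nd (.nd (.lf 288) (.lf 707)) (.nd (.lf 599) (.lf 0)))) (.nd (.nd (.nd (.lf 183) (.lf 549)) (.nd (.lf 475) (.lf 0))) (.nd (.nd (.lf 376) (.lf 0)) (.nd (.lf 365) (.lf 0)))))) (.nd (.nd (.nd (.nd (.nd (.lf 33) (.lf 666))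 (.nd (.lf 244) (.lf 0))) (.nd (.nd (.lf 260) (.lf 700)) (.nd (.lf 582) (.lf 0)))) (.nd (.nd (.nd (.lf 155) (.lf 521)) (.nd (.lf 505) (.lf 0))) (.nd (.nd (.lf 353) (.lf 0)) (.nd (.lf 580) (.lf 0))))) (.nd (.nd (.nd (.nd (.lf 96) (.lf 686)) (.nd (.lf 466) (.lf 0))) (.nd (.nd (.lf 42) (.lf 716)) (.nd (.lf 610) (.lf 0)))) (.nd (.nd (.nd (.lf 208) (.lf 691)) (.nd (.lf 453) (.lf 0))) (.nd (.nd (.lf 313) (.lf 0)) (.nd (.lf 646) (.lf 0))))))

/-- table part -/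
def nxT_33 : Tr :=
  .nd (.nd (.nd (.nd (.nd (.nd (.lf 17) (.lf 569)) (.nd (.lf 420) (.lf 0))) (.nd (.nd (.lf 247) (.lf 443)) (.nd (.lf 556) (.lf 0)))) (.nd (.nd (.nd (.lf 143) (.lf 698)) (.nd (.lf 173) (.lf 0))) (.nd (.nd (.lf 343) (.lf 514)) (.nd (.lf 622) (.lf 0))))) (.nd (.nd (.nd (.nd (.lf 80) (.lf 680)) (.nd (.lf 360) (.lf 0))) (.nd (.nd (.lf 303) (.lf 56)) (.nd (.lf 237) (.lf 0)))) (.nd (.nd (.nd (.lf 196) (.lf 28)) (.nd (.lf 538) (.lf 0))) (.nd (.nd (.lf 358) (.lf 0)) (.nd (.lf 642) (.lf 0)))))) (.nd (.nd (.nd (.nd (.nd (.lf 49) (.lf 517)) (.nd (.lf 223) (.lf 0))) (.nd (.nd (.lf 14) (.lf 636)) (.nd (.lf 592) (.lf 0)))) (.nd (.nd (.nd (.lf 169) (.lf 297)) (.nd (.lf 518) (.lf 0))) (.nd (.nd (.lf 184) (.lf 0)) (.nd (.lf 632) (.lf 0))))) (.nd (.nd (.nd (.nd (.lf 112) (.lf 649)) (.nd (.lf 474) (.lf 0))) (.nd (.nd (.lf 185) (.lf 330)) (.nd (.lf 557) (.lf 0)))) (.nd (.nd (.nd (.lf 221) (.lf 664))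 (.nd (.lf 559) (.lf 0))) (.nd (.nd (.lf 400) (.lf 0)) (.nd (.lf 651) (.lf 0))))))

/-- table part -/
def nxT_34 : Tr :=
  .nd nxT_32 nxT_33

/-- table part -/
def nxT_35 : Tr :=
  .nd (.nd (.nd (.nd (.nd (.nd (.lf 9) (.lf 336)) (.nd (.lf 2) (.lf 0))) (.nd (.nd (.lf 240) (.lf 165)) (.nd (.lf 533) (.lf 0)))) (.nd (.nd (.nd (.lf 136) (.lf 351)) (.nd (.lf 494) (.lf 0))) (.nd (.nd (.lf 91) (.lf 375)) (.nd (.lf 522) (.lf 0))))) (.nd (.nd (.nd (.nd (.lf 73) (.lf 676)) (.nd (.lf 451) (.lf 0))) (.nd (.nd (.lf 296) (.lf 479)) (.nd (.lf 367) (.lf 0)))) (.nd (.nd (.nd (.lf 190) (.lf 696)) (.nd (.lf 532) (.lf 0))) (.nd (.nd (.lf 380) (.lf 0)) (.nd (.lf 448) (.lf 0)))))) (.nd (.nd (.nd (.nd (.nd (.lf 41) (.lf 667)) (.nd (.lf 437) (.lf 0))) (.nd (.nd (.lf 266) (.lf 681)) (.nd (.lf 148) (.lf 0)))) (.nd (.nd (.nd (.lf 163) (.lf 347)) (.nd (.lf 511) (.lf 0))) (.nd (.nd (.lf 361) (.lf 0)) (.nd (.lf 628) (.lf 0)))))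 (.nd (.nd (.nd (.nd (.lf 104) (.lf 689)) (.nd (.lf 308) (.lf 0))) (.nd (.nd (.lf 36) (.lf 717)) (.nd (.lf 613) (.lf 0)))) (.nd (.nd (.nd (.lf 140) (.lf 662)) (.nd (.lf 554) (.lf 0))) (.nd (.nd (.lf 311) (.lf 0)) (.nd (.lf 271) (.lf 0))))))

/-- table part -/
def nxT_36 : Tr :=
  .nd (.nd (.nd (.nd (.nd (.nd (.lf 25) (.lf 489)) (.nd (.lf 426) (.lf 0))) (.nd (.nd (.lf 254) (.lf 328)) (.nd (.lf 354) (.lf 0)))) (.nd (.nd (.nd (.lf 149) (.lf 519)) (.nd (.lf 502) (.lf 0))) (.nd (.nd (.lf 166) (.lf 207)) (.nd (.lf 214) (.lf 0))))) (.nd (.nd (.nd (.nd (.lf 88) (.lf 460)) (.nd (.lf 44) (.lf 0))) (.nd (.nd (.lf 277) (.lf 83)) (.nd (.lf 452) (.lf 0)))) (.nd (.nd (.nd (.lf 115) (.lf 550)) (.nd (.lf 544) (.lf 0))) (.nd (.nd (.lf 338) (.lf 0)) (.nd (.lf 74) (.lf 0)))))) (.nd (.nd (.nd (.nd (.nd (.lf 57) (.lf 457)) (.nd (.lf 446) (.lf 0))) (.nd (.nd (.lf 280) (.lf 81)) (.nd (.lf 146) (.lf 0)))) (.nd (.nd (.nd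 (.lf 176) (.lf 545)) (.nd (.lf 523) (.lf 0))) (.nd (.nd (.lf 152) (.lf 0)) (.nd (.lf 324) (.lf 0))))) (.nd (.nd (.nd (.nd (.lf 120) (.lf 657)) (.nd (.lf 482) (.lf 0))) (.nd (.nd (.lf 203) (.lf 588)) (.nd (.lf 189) (.lf 0)))) (.nd (.nd (.nd (.lf 228) (.lf 374)) (.nd (.lf 562) (.lf 0))) (.nd (.nd (.lf 406) (.lf 0)) (.nd (.lf 653) (.lf 0))))))

/-- table part -/
def nxT_37 : Tr :=
  .nd nxT_35 nxT_36

/-- table part -/
def nxT_38 : Tr :=
  .nd nxT_34 nxT_37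

/-- table part -/
def nxT_39 : Tr :=
  .nd (.nd (.nd (.nd (.nd (.nd (.lf 5) (.lf 540)) (.nd (.lf 415) (.lf 0))) (.nd (.nd (.lf 12) (.lf 537)) (.nd (.lf 567) (.lf 0)))) (.nd (.nd (.nd (.lf 132) (.lf 506)) (.nd (.lf 490) (.lf 0))) (.nd (.nd (.lf 337) (.lf 647)) (.nd (.lf 281) (.lf 0))))) (.nd (.nd (.nd (.nd (.lf 69) (.lf 469)) (.nd (.lf 322) (.lf 0))) (.nd (.nd (.lf 292) (.lf 432)) (.nd (.lf 408) (.lf 0)))) (.nd (.nd (.nd (.lf 186) (.lf 225)) (.nd (.lf 529) (.lf 0))) (.nd (.nd (.lf 378) (.lf 0)) (.nd (.lf 638) (.lf 0)))))) (.nd (.nd (.nd (.nd (.nd (.lf 37) (.lf 131)) (.nd (.lf 434) (.lf 0))) (.nd (.nd (.lf 264) (.lf 699)) (.nd (.lf 585) (.lf 0)))) (.nd (.nd (.nd (.lf 159) (.lf 701)) (.nd (.lf 79) (.lf 0))) (.nd (.nd (.lf 357) (.lf 0)) (.nd (.lf 424) (.lf 0))))) (.nd (.nd (.nd (.nd (.lf 100) (.lf 623)) (.nd (.lf 468) (.lf 0))) (.nd (.nd (.lf 315) (.lf 175)) (.nd (.lf 612) (.lf 0)))) (.nd (.nd (.nd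 (.lf 212) (.lf 470)) (.nd (.lf 553) (.lf 0))) (.nd (.nd (.lf 6) (.lf 0)) (.nd (.lf 648) (.lf 0))))))

/-- table part -/
def nxT_40 : Tr :=
  .nd (.nd (.nd (.nd (.nd (.nd (.lf 21) (.lf 491)) (.nd (.lf 423) (.lf 0))) (.nd (.nd (.lf 250) (.lf 650)) (.nd (.lf 259) (.lf 0)))) (.nd (.nd (.nd (.lf 145) (.lf 307)) (.nd (.lf 4) (.lf 0))) (.nd (.nd (.lf 218) (.lf 433)) (.nd (.lf 570) (.lf 0))))) (.nd (.nd (.nd (.nd (.lf 84) (.lf 158)) (.nd (.lf 458) (.lf 0))) (.nd (.nd (.lf 306) (.lf 591)) (.nd (.lf 606) (.lf 0)))) (.nd (.nd (.nd (.lf 199) (.lf 40)) (.nd (.lf 541) (.lf 0))) (.nd (.nd (.lf 388) (.lf 0)) (.nd (.lf 644) (.lf 0)))))) (.nd (.nd (.nd (.nd (.nd (.lf 53) (.lf 438)) (.nd (.lf 150) (.lf 0))) (.nd (.nd (.lf 276) (.lf 693)) (.nd (.lf 594) (.lf 0)))) (.nd (.nd (.nd (.lf 172) (.lf 685)) (.nd (.lf 520) (.lf 0))) (.nd (.nd (.lf 341) (.lf 0)) (.nd (.lf 417) (.lf 0))))) (.nd (.nd (.nd (.nd (.lf 116) (.lf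 684)) (.nd (.lf 478) (.lf 0))) (.nd (.nd (.lf 327) (.lf 679)) (.nd (.lf 477) (.lf 0)))) (.nd (.nd (.nd (.lf 224) (.lf 703)) (.nd (.lf 121) (.lf 0))) (.nd (.nd (.lf 404) (.lf 0)) (.nd (.lf 64) (.lf 0))))))

/-- table part -/
def nxT_41 : Tr :=
  .nd nxT_39 nxT_40

/-- table part -/
def nxT_42 : Tr :=
  .nd (.nd (.nd (.nd (.nd (.nd (.lf 13) (.lf 576)) (.nd (.lf 419) (.lf 0))) (.nd (.nd (.lf 243) (.lf 708)) (.nd (.lf 572) (.lf 0)))) (.nd (.nd (.nd (.lf 139) (.lf 697)) (.nd (.lf 496) (.lf 0))) (.nd (.nd (.lf 340) (.lf 705)) (.nd (.lf 563) (.lf 0))))) (.nd (.nd (.nd (.nd (.lf 18) (.lf 119)) (.nd (.lf 393) (.lf 0))) (.nd (.nd (.lf 300) (.lf 414)) (.nd (.lf 422) (.lf 0)))) (.nd (.nd (.nd (.lf 192) (.lf 624)) (.nd (.lf 535) (.lf 0))) (.nd (.nd (.lf 382) (.lf 0)) (.nd (.lf 487) (.lf 0)))))) (.nd (.nd (.nd (.nd (.nd (.lf 45) (.lf 76)) (.nd (.lf 20) (.lf 0))) (.nd (.nd (.lf 270) (.lf 369)) (.nd (.lf 578)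 (.lf 0)))) (.nd (.nd (.nd (.lf 26) (.lf 441)) (.nd (.lf 515) (.lf 0))) (.nd (.nd (.lf 364) (.lf 0)) (.nd (.lf 109) (.lf 0))))) (.nd (.nd (.nd (.nd (.lf 108) (.lf 690)) (.nd (.lf 129) (.lf 0))) (.nd (.nd (.lf 321) (.lf 401)) (.nd (.lf 614) (.lf 0)))) (.nd (.nd (.nd (.lf 217) (.lf 231)) (.nd (.lf 334) (.lf 0))) (.nd (.nd (.lf 95) (.lf 0)) (.nd (.lf 483) (.lf 0))))))

/-- table part -/
def nxT_43 : Tr :=
  .nd (.nd (.nd (.nd (.nd (.nd (.lf 29) (.lf 663)) (.nd (.lf 429) (.lf 0))) (.nd (.nd (.lf 257) (.lf 629)) (.nd (.lf 398) (.lf 0)))) (.nd (.nd (.nd (.lf 153) (.lf 503)) (.nd (.lf 77) (.lf 0))) (.nd (.nd (.lf 350) (.lf 616)) (.nd (.lf 581) (.lf 0))))) (.nd (.nd (.nd (.nd (.lf 92) (.lf 671)) (.nd (.lf 202) (.lf 0))) (.nd (.nd (.lf 310) (.lf 656)) (.nd (.lf 608) (.lf 0)))) (.nd (.nd (.nd (.lf 206) (.lf 695)) (.nd (.lf 546) (.lf 0))) (.nd (.nd (.lf 392) (.lf 0)) (.nd (.lf 333) (.lf 0)))))) (.nd (.nd (.nd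 (.nd (.nd (.lf 61) (.lf 383)) (.nd (.lf 447) (.lf 0))) (.nd (.nd (.lf 284) (.lf 603)) (.nd (.lf 598) (.lf 0)))) (.nd (.nd (.nd (.lf 180) (.lf 645)) (.nd (.lf 397) (.lf 0))) (.nd (.nd (.lf 373) (.lf 0)) (.nd (.lf 530) (.lf 0))))) (.nd (.nd (.nd (.nd (.lf 124) (.lf 692)) (.nd (.lf 486) (.lf 0))) (.nd (.nd (.lf 332) (.lf 301)) (.nd (.lf 560) (.lf 0)))) (.nd (.nd (.nd (.lf 111) (.lf 710)) (.nd (.lf 232) (.lf 0))) (.nd (.nd (.lf 409) (.lf 0)) (.nd (.lf 542) (.lf 0))))))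

/-- table part -/
def nxT_44 : Tr :=
  .nd nxT_42 nxT_43

/-- table part -/
def nxT_45 : Tr :=
  .nd nxT_41 nxT_44

/-- table part -/
def nxT_46 : Tr :=
  .nd nxT_38 nxT_45

/-- table part -/
def nxT_47 : Tr :=
  .nd (.nd (.nd (.nd (.nd (.nd (.lf 3) (.lf 127)) (.nd (.lf 413) (.lf 0))) (.nd (.nd (.lf 235) (.lf 571)) (.nd (.lf 179) (.lf 0)))) (.nd (.nd (.nd (.lf 130) (.lf 182)) (.nd (.lf 488) (.lf 0))) (.nd (.nd (.lf 177) (.lf 89)) (.nd (.lf 501) (.lf 0))))) (.nd (.nd (.nd (.nd (.lf 67) (.lf 293)) (.nd (.lf 356) (.lf 0))) (.nd (.nd (.lf 290) (.lf 342)) (.nd (.lf 309) (.lf 0)))) (.nd (.nd (.nd (.lf 162) (.lf 295)) (.nd (.lf 385) (.lf 0))) (.nd (.nd (.lf 377) (.lf 0)) (.nd (.lf 637) (.lf 0)))))) (.nd (.nd (.nd (.nd (.nd (.lf 35) (.lf 24)) (.nd (.lf 318) (.lf 0))) (.nd (.nd (.lf 262) (.lf 670)) (.nd (.lf 583) (.lf 0)))) (.nd (.nd (.nd (.lf 157) (.lf 461)) (.nd (.lf 507) (.lf 0))) (.nd (.nd (.lf 355)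 (.lf 0)) (.nd (.lf 625) (.lf 0))))) (.nd (.nd (.nd (.nd (.lf 98) (.lf 602)) (.nd (.lf 467) (.lf 0))) (.nd (.nd (.lf 211) (.lf 344)) (.nd (.lf 504) (.lf 0)))) (.nd (.nd (.nd (.lf 210) (.lf 655)) (.nd (.lf 551) (.lf 0))) (.nd (.nd (.lf 215) (.lf 0)) (.nd (.lf 346) (.lf 0))))))

/-- table part -/
def nxT_48 : Tr :=
  .nd (.nd (.nd (.nd (.nd (.nd (.lf 19) (.lf 590)) (.nd (.lf 421) (.lf 0))) (.nd (.nd (.lf 249) (.lf 246)) (.nd (.lf 499) (.lf 0)))) (.nd (.nd (.nd (.lf 144) (.lf 316)) (.nd (.lf 8) (.lf 0))) (.nd (.nd (.lf 87) (.lf 719)) (.nd (.lf 534) (.lf 0))))) (.nd (.nd (.nd (.nd (.lf 82) (.lf 455)) (.nd (.lf 456) (.lf 0))) (.nd (.nd (.lf 305) (.lf 320)) (.nd (.lf 605) (.lf 0)))) (.nd (.nd (.nd (.lf 198) (.lf 58)) (.nd (.lf 539) (.lf 0))) (.nd (.nd (.lf 386) (.lf 0)) (.nd (.lf 325) (.lf 0)))))) (.nd (.nd (.nd (.nd (.nd (.lf 51) (.lf 509)) (.nd (.lf 442) (.lf 0))) (.nd (.nd (.lf 274) (.lf 586)) (.nd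 (.lf 473) (.lf 0)))) (.nd (.nd (.nd (.lf 171) (.lf 661)) (.nd (.lf 234) (.lf 0))) (.nd (.nd (.lf 368) (.lf 0)) (.nd (.lf 633) (.lf 0))))) (.nd (.nd (.nd (.nd (.lf 114) (.lf 444)) (.nd (.lf 476) (.lf 0))) (.nd (.nd (.lf 326) (.lf 431)) (.nd (.lf 170) (.lf 0)))) (.nd (.nd (.nd (.lf 103) (.lf 659)) (.nd (.lf 54) (.lf 0))) (.nd (.nd (.lf 402) (.lf 0)) (.nd (.lf 621) (.lf 0))))))

/-- table part -/
def nxT_49 : Tr :=
  .nd nxT_47 nxT_48

/-- table part -/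
def nxT_50 : Tr :=
  .nd (.nd (.nd (.nd (.nd (.nd (.lf 11) (.lf 395)) (.nd (.lf 418) (.lf 0))) (.nd (.nd (.lf 242) (.lf 712)) (.nd (.lf 209) (.lf 0)))) (.nd (.nd (.nd (.lf 138) (.lf 619)) (.nd (.lf 255) (.lf 0))) (.nd (.nd (.lf 16) (.lf 261)) (.nd (.lf 495) (.lf 0))))) (.nd (.nd (.nd (.nd (.lf 75) (.lf 672)) (.nd (.lf 34) (.lf 0))) (.nd (.nd (.lf 298) (.lf 677)) (.nd (.lf 403) (.lf 0)))) (.nd (.nd (.nd (.lf 191) (.lf 304)) (.nd (.lf 66) (.lf 0))) (.nd (.nd (.lf 381) (.lf 0)) (.nd (.lf 640) (.lf 0)))))) (.nd (.nd (.nd (.nd (.nd (.lf 43) (.lf 669)) (.nd (.lf 439) (.lf 0))) (.nd (.nd (.lf 268) (.lf 714)) (.nd (.lf 589) (.lf 0)))) (.nd (.nd (.nd (.lf 135) (.lf 573)) (.nd (.lf 513) (.lf 0))) (.nd (.nd (.lf 363) (.lf 0)) (.nd (.lf 568) (.lf 0))))) (.nd (.nd (.nd (.nd (.lf 106) (.lf 635)) (.nd (.lf 471) (.lf 0))) (.nd (.nd (.lf 319) (.lf 718)) (.nd (.lf 390) (.lf 0)))) (.nd (.nd (.nd (.lf 216) (.lf 682))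 (.nd (.lf 555) (.lf 0))) (.nd (.nd (.lf 396) (.lf 0)) (.nd (.lf 561) (.lf 0))))))

/-- table part -/
def nxT_51 : Tr :=
  .nd (.nd (.nd (.nd (.nd (.nd (.lf 27) (.lf 584)) (.nd (.lf 427) (.lf 0))) (.nd (.nd (.lf 107) (.lf 48)) (.nd (.lf 579) (.lf 0)))) (.nd (.nd (.nd (.lf 151) (.lf 10)) (.nd (.lf 113) (.lf 0))) (.nd (.nd (.lf 348) (.lf 275)) (.nd (.lf 239) (.lf 0))))) (.nd (.nd (.nd (.nd (.lf 90) (.lf 683)) (.nd (.lf 462) (.lf 0))) (.nd (.nd (.lf 123) (.lf 593)) (.nd (.lf 525) (.lf 0)))) (.nd (.nd (.nd (.lf 204) (.lf 450)) (.nd (.lf 236) (.lf 0))) (.nd (.nd (.lf 391) (.lf 0)) (.nd (.lf 370) (.lf 0)))))) (.nd (.nd (.nd (.nd (.nd (.lf 59) (.lf 547)) (.nd (.lf 299) (.lf 0))) (.nd (.nd (.lf 282) (.lf 601)) (.nd (.lf 597) (.lf 0)))) (.nd (.nd (.nd (.lf 178) (.lf 639)) (.nd (.lf 524) (.lf 0))) (.nd (.nd (.lf 93) (.lf 0)) (.nd (.lf 634) (.lf 0))))) (.nd (.nd (.nd (.nd (.lf 122) (.lf 497)) (.nd (.lf 484)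 (.lf 0))) (.nd (.nd (.lf 142) (.lf 688)) (.nd (.lf 32) (.lf 0)))) (.nd (.nd (.nd (.lf 229) (.lf 105)) (.nd (.lf 564) (.lf 0))) (.nd (.nd (.lf 267) (.lf 0)) (.nd (.lf 371) (.lf 0))))))

/-- table part -/
def nxT_52 : Tr :=
  .nd nxT_50 nxT_51

/-- table part -/
def nxT_53 : Tr :=
  .nd nxT_49 nxT_52

/-- table part -/
def nxT_54 : Tr :=
  .nd (.nd (.nd (.nd (.nd (.nd (.lf 7) (.lf 164)) (.nd (.lf 416) (.lf 0))) (.nd (.nd (.lf 238) (.lf 440)) (.nd (.lf 253) (.lf 0)))) (.nd (.nd (.nd (.lf 134) (.lf 133)) (.nd (.lf 492) (.lf 0))) (.nd (.nd (.lf 339) (.lf 498)) (.nd (.lf 287) (.lf 0))))) (.nd (.nd (.nd (.nd (.lf 71) (.lf 675)) (.nd (.lf 160) (.lf 0))) (.nd (.nd (.lf 294) (.lf 704)) (.nd (.lf 508) (.lf 0)))) (.nd (.nd (.nd (.lf 188) (.lf 222)) (.nd (.lf 52) (.lf 0))) (.nd (.nd (.lf 193) (.lf 0)) (.nd (.lf 611) (.lf 0)))))) (.nd (.nd (.nd (.nd (.nd (.lf 39) (.lf 154)) (.nd (.lf 436) (.lf 0))) (.nd (.nd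 (.lf 265) (.lf 706)) (.nd (.lf 587) (.lf 0)))) (.nd (.nd (.nd (.lf 161) (.lf 702)) (.nd (.lf 510) (.lf 0))) (.nd (.nd (.lf 359) (.lf 0)) (.nd (.lf 626) (.lf 0))))) (.nd (.nd (.nd (.nd (.lf 102) (.lf 387)) (.nd (.lf 411) (.lf 0))) (.nd (.nd (.lf 317) (.lf 673)) (.nd (.lf 516) (.lf 0)))) (.nd (.nd (.nd (.lf 213) (.lf 565)) (.nd (.lf 536) (.lf 0))) (.nd (.nd (.lf 394) (.lf 0)) (.nd (.lf 485) (.lf 0))))))

/-- table part -/
def nxT_55 : Tr :=
  .nd (.nd (.nd (.nd (.nd (.nd (.lf 23) (.lf 660)) (.nd (.lf 425) (.lf 0))) (.nd (.nd (.lf 252) (.lf 345)) (.nd (.lf 577) (.lf 0)))) (.nd (.nd (.nd (.lf 147) (.lf 631)) (.nd (.lf 500) (.lf 0))) (.nd (.nd (.lf 205) (.lf 481)) (.nd (.lf 493) (.lf 0))))) (.nd (.nd (.nd (.nd (.lf 86) (.lf 575)) (.nd (.lf 459) (.lf 0))) (.nd (.nd (.lf 137) (.lf 715)) (.nd (.lf 607) (.lf 0)))) (.nd (.nd (.nd (.lf 201) (.lf 527)) (.nd (.lf 543) (.lf 0))) (.nd (.nd (.lf 389) (.lf 0))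 (.nd (.lf 248) (.lf 0)))))) (.nd (.nd (.nd (.nd (.nd (.lf 55) (.lf 528)) (.nd (.lf 445) (.lf 0))) (.nd (.nd (.lf 278) (.lf 713)) (.nd (.lf 595) (.lf 0)))) (.nd (.nd (.nd (.lf 174) (.lf 352)) (.nd (.lf 22) (.lf 0))) (.nd (.nd (.lf 285) (.lf 0)) (.nd (.lf 531) (.lf 0))))) (.nd (.nd (.nd (.nd (.lf 118) (.lf 97)) (.nd (.lf 480) (.lf 0))) (.nd (.nd (.lf 329) (.lf 596)) (.nd (.lf 331) (.lf 0)))) (.nd (.nd (.nd (.lf 226) (.lf 709)) (.nd (.lf 465) (.lf 0))) (.nd (.nd (.lf 405) (.lf 0)) (.nd (.lf 652) (.lf 0))))))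

/-- table part -/
def nxT_56 : Tr :=
  .nd nxT_54 nxT_55

/-- table part -/
def nxT_57 : Tr :=
  .nd (.nd (.nd (.nd (.nd (.nd (.lf 15) (.lf 372)) (.nd (.lf 220) (.lf 0))) (.nd (.nd (.lf 245) (.lf 617)) (.nd (.lf 574) (.lf 0)))) (.nd (.nd (.nd (.lf 141) (.lf 125)) (.nd (.lf 85) (.lf 0))) (.nd (.nd (.lf 251) (.lf 200)) (.nd (.lf 620) (.lf 0))))) (.nd (.nd (.nd (.nd (.lf 78) (.lf 678)) (.nd (.lf 428) (.lf 0))) (.nd (.nd (.lf 187) (.lf 668)) (.nd (.lf 604) (.lf 0)))) (.nd (.nd (.nd (.lf 194) (.lf 658)) (.nd (.lf 302) (.lf 0))) (.nd (.nd (.lf 384) (.lf 0)) (.nd (.lf 641) (.lf 0)))))) (.nd (.nd (.nd (.nd (.nd (.lf 47) (.lf 30)) (.nd (.lf 197) (.lf 0))) (.nd (.nd (.lf 272) (.lf 379)) (.nd (.lf 68) (.lf 0)))) (.nd (.nd (.nd (.lf 167) (.lf 279)) (.nd (.lf 454) (.lf 0))) (.nd (.nd (.lf 366) (.lf 0)) (.nd (.lf 630) (.lf 0))))) (.nd (.nd (.nd (.nd (.lf 110) (.lf 70)) (.nd (.lf 472) (.lf 0))) (.nd (.nd (.lf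 323) (.lf 62)) (.nd (.lf 615) (.lf 0)))) (.nd (.nd (.nd (.lf 219) (.lf 687)) (.nd (.lf 558) (.lf 0))) (.nd (.nd (.lf 399) (.lf 0)) (.nd (.lf 627) (.lf 0))))))

/-- table part -/
def nxT_58 : Tr :=
  .nd (.nd (.nd (.nd (.nd (.nd (.lf 31) (.lf 665)) (.nd (.lf 430) (.lf 0))) (.nd (.nd (.lf 0) (.lf 168)) (.nd (.lf 463) (.lf 0)))) (.nd (.nd (.nd (.lf 60) (.lf 407)) (.nd (.lf 283) (.lf 0))) (.nd (.nd (.lf 349) (.lf 362)) (.nd (.lf 512) (.lf 0))))) (.nd (.nd (.nd (.nd (.lf 94) (.lf 230)) (.nd (.lf 464) (.lf 0))) (.nd (.nd (.lf 312) (.lf 38)) (.nd (.lf 609) (.lf 0)))) (.nd (.nd (.nd (.lf 72) (.lf 600)) (.nd (.lf 548) (.lf 0))) (.nd (.nd (.lf 291) (.lf 0)) (.nd (.lf 263) (.lf 0)))))) (.nd (.nd (.nd (.nd (.nd (.lf 63) (.lf 674)) (.nd (.lf 273) (.lf 0))) (.nd (.nd (.lf 286) (.lf 117)) (.nd (.lf 256) (.lf 0)))) (.nd (.nd (.nd (.lf 181) (.lf 156)) (.nd (.lf 526) (.lf 0))) (.nd (.nd (.lf 195) (.lf 0)) (.nd (.lf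 258) (.lf 0))))) (.nd (.nd (.nd (.nd (.lf 126) (.lf 50)) (.nd (.lf 241) (.lf 0))) (.nd (.nd (.lf 99) (.lf 435)) (.nd (.lf 618) (.lf 0)))) (.nd (.nd (.nd (.lf 227) (.lf 711)) (.nd (.lf 269) (.lf 0))) (.nd (.nd (.lf 410) (.lf 0)) (.nd (.lf 643) (.lf 0))))))

/-- table part -/
def nxT_59 : Tr :=
  .nd nxT_57 nxT_58

/-- table part -/
def nxT_60 : Tr :=
  .nd nxT_56 nxT_59

/-- table part -/
def nxT_61 : Tr :=
  .nd nxT_53 nxT_60

/-- table part -/
def nxT_62 : Tr :=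
  .nd nxT_46 nxT_61

/-- table part -/
def nxT_63 : Tr :=
  .nd nxT_31 nxT_62

/-- table -/
def nxT : Tr :=
  nxT_63

/-- table part -/
def pvT_1 : Tr :=
  .nd (.nd (.nd (.nd (.nd (.nd (.lf 0) (.lf 341)) (.nd (.lf 142) (.lf 0))) (.nd (.nd (.lf 70) (.lf 512)) (.nd (.lf 677) (.lf 0)))) (.nd (.nd (.nd (.lf 32) (.lf 394)) (.nd (.lf 182) (.lf 0))) (.nd (.nd (.lf 486) (.lf 615)) (.nd (.lf 288) (.lf 0))))) (.nd (.nd (.nd (.nd (.lf 16) (.lf 601)) (.nd (.lf 699) (.lf 0))) (.nd (.nd (.lf 83) (.lf 542)) (.nd (.lf 371) (.lf 0)))) (.nd (.nd (.nd (.lf 214) (.lf 599)) (.nd (.lf 208) (.lf 0))) (.nd (.nd (.lf 690) (.lf 0)) (.nd (.lf 560) (.lf 0)))))) (.nd (.nd (.nd (.nd (.nd (.lf 8) (.lf 354)) (.nd (.lf 621) (.lf 0))) (.nd (.nd (.lf 376) (.lf 515)) (.nd (.lf 433) (.lf 0)))) (.nd (.nd (.nd (.lf 561) (.lf 698)) (.nd (.lf 193) (.lf 0))) (.nd (.nd (.lf 401) (.lf 0)) (.nd (.lf 382) (.lf 0))))) (.nd (.nd (.nd (.nd (.lf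 24) (.lf 378)) (.nd (.lf 169) (.lf 0))) (.nd (.nd (.lf 280) (.lf 564)) (.nd (.lf 273) (.lf 0)))) (.nd (.nd (.nd (.lf 602) (.lf 464)) (.nd (.lf 521) (.lf 0))) (.nd (.nd (.lf 198) (.lf 0)) (.nd (.lf 669) (.lf 0))))))

/-- table part -/
def pvT_2 : Tr :=
  .nd (.nd (.nd (.nd (.nd (.nd (.lf 4) (.lf 536)) (.nd (.lf 385) (.lf 0))) (.nd (.nd (.lf 686) (.lf 717)) (.nd (.lf 493) (.lf 0)))) (.nd (.nd (.nd (.lf 36) (.lf 402)) (.nd (.lf 187) (.lf 0))) (.nd (.nd (.lf 107) (.lf 697)) (.nd (.lf 595) (.lf 0))))) (.nd (.nd (.nd (.nd (.lf 20) (.lf 370)) (.nd (.lf 178) (.lf 0))) (.nd (.nd (.lf 88) (.lf 682)) (.nd (.lf 267) (.lf 0)))) (.nd (.nd (.nd (.lf 281) (.lf 440)) (.nd (.lf 212) (.lf 0))) (.nd (.nd (.lf 128) (.lf 0)) (.nd (.lf 411) (.lf 0)))))) (.nd (.nd (.nd (.nd (.nd (.lf 12) (.lf 359)) (.nd (.lf 255) (.lf 0))) (.nd (.nd (.lf 78) (.lf 527)) (.nd (.lf 254) (.lf 0)))) (.nd (.nd (.nd (.lf 373) (.lf 417)) (.nd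 (.lf 201) (.lf 0))) (.nd (.nd (.lf 450) (.lf 0)) (.nd (.lf 497) (.lf 0))))) (.nd (.nd (.nd (.nd (.lf 28) (.lf 387)) (.nd (.lf 226) (.lf 0))) (.nd (.nd (.lf 97) (.lf 580)) (.nd (.lf 278) (.lf 0)))) (.nd (.nd (.nd (.lf 194) (.lf 626)) (.nd (.lf 416) (.lf 0))) (.nd (.nd (.lf 137) (.lf 0)) (.nd (.lf 334) (.lf 0))))))

/-- table part -/
def pvT_3 : Tr :=
  .nd pvT_1 pvT_2

/-- table part -/
def pvT_4 : Tr :=
  .nd (.nd (.nd (.nd (.nd (.nd (.lf 2) (.lf 343)) (.nd (.lf 447) (.lf 0))) (.nd (.nd (.lf 454) (.lf 709)) (.nd (.lf 436) (.lf 0)))) (.nd (.nd (.nd (.lf 34) (.lf 398)) (.nd (.lf 184) (.lf 0))) (.nd (.nd (.lf 284) (.lf 634)) (.nd (.lf 293) (.lf 0))))) (.nd (.nd (.nd (.nd (.lf 18) (.lf 570)) (.nd (.lf 319) (.lf 0))) (.nd (.nd (.lf 85) (.lf 712)) (.nd (.lf 377) (.lf 0)))) (.nd (.nd (.nd (.lf 606) (.lf 482)) (.nd (.lf 210) (.lf 0))) (.nd (.nd (.lf 672) (.lf 0)) (.nd (.lf 429) (.lf 0)))))) (.nd (.nd (.nd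 (.nd (.nd (.lf 10) (.lf 578)) (.nd (.lf 706) (.lf 0))) (.nd (.nd (.lf 76) (.lf 678)) (.nd (.lf 443) (.lf 0)))) (.nd (.nd (.nd (.lf 593) (.lf 413)) (.nd (.lf 271) (.lf 0))) (.nd (.nd (.lf 426) (.lf 0)) (.nd (.lf 476) (.lf 0))))) (.nd (.nd (.nd (.nd (.lf 26) (.lf 530)) (.nd (.lf 172) (.lf 0))) (.nd (.nd (.lf 495) (.lf 658)) (.nd (.lf 701) (.lf 0)))) (.nd (.nd (.nd (.lf 286) (.lf 641)) (.nd (.lf 222) (.lf 0))) (.nd (.nd (.lf 135) (.lf 0)) (.nd (.lf 637) (.lf 0))))))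

/-- table part -/
def pvT_5 : Tr :=
  .nd (.nd (.nd (.nd (.nd (.nd (.lf 6) (.lf 438)) (.nd (.lf 265) (.lf 0))) (.nd (.nd (.lf 71) (.lf 534)) (.nd (.lf 331) (.lf 0)))) (.nd (.nd (.nd (.lf 38) (.lf 405)) (.nd (.lf 421) (.lf 0))) (.nd (.nd (.lf 692) (.lf 707)) (.nd (.lf 300) (.lf 0))))) (.nd (.nd (.nd (.nd (.lf 22) (.lf 374)) (.nd (.lf 291) (.lf 0))) (.nd (.nd (.lf 240) (.lf 558)) (.nd (.lf 270) (.lf 0)))) (.nd (.nd (.nd (.lf 453) (.lf 473)) (.nd (.lf 350) (.lf 0))) (.nd (.nd (.lf 130) (.lf 0)) (.nd (.lf 675) (.lf 0)))))) (.nd (.nd (.nd (.nd (.nd (.lf 14) (.lf 362)) (.nd (.lf 491) (.lf 0))) (.nd (.nd (.lf 81) (.lf 533)) (.nd (.lf 268) (.lf 0)))) (.nd (.nd (.nd (.lf 189) (.lf 657)) (.nd (.lf 384) (.lf 0))) (.nd (.nd (.lf 120) (.lf 0)) (.nd (.lf 710) (.lf 0))))) (.nd (.nd (.nd (.nd (.lf 30) (.lf 503)) (.nd (.lf 179) (.lf 0))) (.nd (.nd (.lf 299) (.lf 592)) (.nd (.lf 283) (.lf 0)))) (.nd (.nd (.nd (.lf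 623) (.lf 480)) (.nd (.lf 465) (.lf 0))) (.nd (.nd (.lf 662) (.lf 0)) (.nd (.lf 338) (.lf 0))))))

/-- table part -/
def pvT_6 : Tr :=
  .nd pvT_4 pvT_5

/-- table part -/
def pvT_7 : Tr :=
  .nd pvT_3 pvT_6

/-- table part -/
def pvT_8 : Tr :=
  .nd (.nd (.nd (.nd (.nd (.nd (.lf 1) (.lf 342)) (.nd (.lf 143) (.lf 0))) (.nd (.nd (.lf 289) (.lf 694)) (.nd (.lf 492) (.lf 0)))) (.nd (.nd (.nd (.lf 33) (.lf 397)) (.nd (.lf 183) (.lf 0))) (.nd (.nd (.lf 425) (.lf 627)) (.nd (.lf 292) (.lf 0))))) (.nd (.nd (.nd (.nd (.lf 17) (.lf 548)) (.nd (.lf 579) (.lf 0))) (.nd (.nd (.lf 84) (.lf 642)) (.nd (.lf 349) (.lf 0)))) (.nd (.nd (.nd (.lf 228) (.lf 457)) (.nd (.lf 209) (.lf 0))) (.nd (.nd (.lf 538) (.lf 0)) (.nd (.lf 510) (.lf 0)))))) (.nd (.nd (.nd (.nd (.nd (.lf 9) (.lf 355)) (.nd (.lf 197) (.lf 0))) (.nd (.nd (.lf 75) (.lf 522)) (.nd (.lf 439) (.lf 0)))) (.nd (.nd (.nd (.lf 73) (.lf 477)) (.nd (.lf 195)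 (.lf 0))) (.nd (.nd (.lf 118) (.lf 0)) (.nd (.lf 545) (.lf 0))))) (.nd (.nd (.nd (.nd (.lf 25) (.lf 508)) (.nd (.lf 531) (.lf 0))) (.nd (.nd (.lf 572) (.lf 573)) (.nd (.lf 481) (.lf 0)))) (.nd (.nd (.nd (.lf 584) (.lf 651)) (.nd (.lf 220) (.lf 0))) (.nd (.nd (.lf 239) (.lf 0)) (.nd (.lf 328) (.lf 0))))))

/-- table part -/
def pvT_9 : Tr :=
  .nd (.nd (.nd (.nd (.nd (.nd (.lf 5) (.lf 348)) (.nd (.lf 460) (.lf 0))) (.nd (.nd (.lf 147) (.lf 501)) (.nd (.lf 294) (.lf 0)))) (.nd (.nd (.nd (.lf 37) (.lf 403)) (.nd (.lf 188) (.lf 0))) (.nd (.nd (.lf 108) (.lf 653)) (.nd (.lf 695) (.lf 0))))) (.nd (.nd (.nd (.nd (.lf 21) (.lf 647)) (.nd (.lf 652) (.lf 0))) (.nd (.nd (.lf 89) (.lf 556)) (.nd (.lf 546) (.lf 0)))) (.nd (.nd (.nd (.lf 245) (.lf 518)) (.nd (.lf 213) (.lf 0))) (.nd (.nd (.lf 129) (.lf 0)) (.nd (.lf 364) (.lf 0)))))) (.nd (.nd (.nd (.nd (.nd (.lf 13) (.lf 691)) (.nd (.lf 241) (.lf 0))) (.nd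 (.nd (.lf 79) (.lf 628)) (.nd (.lf 430) (.lf 0)))) (.nd (.nd (.nd (.lf 219) (.lf 419)) (.nd (.lf 203) (.lf 0))) (.nd (.nd (.lf 119) (.lf 0)) (.nd (.lf 582) (.lf 0))))) (.nd (.nd (.nd (.nd (.lf 29) (.lf 389)) (.nd (.lf 177) (.lf 0))) (.nd (.nd (.lf 306) (.lf 590)) (.nd (.lf 611) (.lf 0)))) (.nd (.nd (.nd (.lf 262) (.lf 640)) (.nd (.lf 517) (.lf 0))) (.nd (.nd (.lf 598) (.lf 0)) (.nd (.lf 337) (.lf 0))))))

/-- table part -/
def pvT_10 : Tr :=
  .nd pvT_8 pvT_9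

/-- table part -/
def pvT_11 : Tr :=
  .nd (.nd (.nd (.nd (.nd (.nd (.lf 3) (.lf 588)) (.nd (.lf 511) (.lf 0))) (.nd (.nd (.lf 704) (.lf 563)) (.nd (.lf 236) (.lf 0)))) (.nd (.nd (.nd (.lf 35) (.lf 631)) (.nd (.lf 603) (.lf 0))) (.nd (.nd (.lf 138) (.lf 661)) (.nd (.lf 296) (.lf 0))))) (.nd (.nd (.nd (.nd (.lf 19) (.lf 369)) (.nd (.lf 379) (.lf 0))) (.nd (.nd (.lf 87) (.lf 616)) (.nd (.lf 266) (.lf 0)))) (.nd (.nd (.nd (.lf 102) (.lf 474)) (.nd (.lf 211) (.lf 0))) (.nd (.nd (.lf 126) (.lf 0)) (.nd (.lf 624) (.lf 0)))))) (.nd (.nd (.nd (.nd (.nd (.lf 11) (.lf 358)) (.nd (.lf 225) (.lf 0))) (.nd (.nd (.lf 77) (.lf 525)) (.nd (.lf 329) (.lf 0)))) (.nd (.nd (.nd (.lf 566) (.lf 428)) (.nd (.lf 200) (.lf 0))) (.nd (.nd (.lf 116) (.lf 0)) (.nd (.lf 309) (.lf 0))))) (.nd (.nd (.nd (.nd (.lf 27) (.lf 585)) (.nd (.lf 644) (.lf 0))) (.nd (.nd (.lf 96) (.lf 617)) (.nd (.lf 277) (.lf 0)))) (.nd (.nd (.nd (.lf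 519) (.lf 550)) (.nd (.lf 223) (.lf 0))) (.nd (.nd (.lf 136) (.lf 0)) (.nd (.lf 532) (.lf 0))))))

/-- table part -/
def pvT_12 : Tr :=
  .nd (.nd (.nd (.nd (.nd (.nd (.lf 7) (.lf 502)) (.nd (.lf 659) (.lf 0))) (.nd (.nd (.lf 72) (.lf 719)) (.nd (.lf 247) (.lf 0)))) (.nd (.nd (.nd (.lf 248) (.lf 407)) (.nd (.lf 192) (.lf 0))) (.nd (.nd (.lf 311) (.lf 718)) (.nd (.lf 684) (.lf 0))))) (.nd (.nd (.nd (.nd (.lf 23) (.lf 693)) (.nd (.lf 168) (.lf 0))) (.nd (.nd (.lf 688) (.lf 635)) (.nd (.lf 461) (.lf 0)))) (.nd (.nd (.nd (.lf 80) (.lf 484)) (.nd (.lf 427) (.lf 0))) (.nd (.nd (.lf 583) (.lf 0)) (.nd (.lf 535) (.lf 0)))))) (.nd (.nd (.nd (.nd (.nd (.lf 15) (.lf 363)) (.nd (.lf 705) (.lf 0))) (.nd (.nd (.lf 82) (.lf 537)) (.nd (.lf 258) (.lf 0)))) (.nd (.nd (.nd (.lf 115) (.lf 544)) (.nd (.lf 612) (.lf 0))) (.nd (.nd (.lf 121) (.lf 0)) (.nd (.lf 415) (.lf 0))))) (.nd (.nd (.nd (.nd (.lf 31) (.lf 649))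 (.nd (.lf 180) (.lf 0))) (.nd (.nd (.lf 260) (.lf 660)) (.nd (.lf 636) (.lf 0)))) (.nd (.nd (.nd (.lf 424) (.lf 605)) (.nd (.lf 618) (.lf 0))) (.nd (.nd (.lf 654) (.lf 0)) (.nd (.lf 423) (.lf 0))))))

/-- table part -/
def pvT_13 : Tr :=
  .nd pvT_11 pvT_12

/-- table part -/
def pvT_14 : Tr :=
  .nd pvT_10 pvT_13

/-- table part -/
def pvT_15 : Tr :=
  .nd pvT_7 pvT_14

/-- table part -/
def pvT_16 : Tr :=
  .nd (.nd (.nd (.nd (.nd (.nd (.lf 565) (.lf 539)) (.nd (.lf 442) (.lf 0))) (.nd (.nd (.lf 65) (.lf 681)) (.nd (.lf 233) (.lf 0)))) (.nd (.nd (.nd (.lf 620) (.lf 432)) (.nd (.lf 336) (.lf 0))) (.nd (.nd (.lf 103) (.lf 619)) (.nd (.lf 505) (.lf 0))))) (.nd (.nd (.nd (.nd (.lf 263) (.lf 365)) (.nd (.lf 161) (.lf 0))) (.nd (.nd (.lf 285) (.lf 543)) (.nd (.lf 261) (.lf 0)))) (.nd (.nd (.nd (.lf 49) (.lf 575)) (.nd (.lf 489) (.lf 0))) (.nd (.nd (.lf 123) (.lf 0)) (.nd (.lf 316) (.lf 0)))))) (.nd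 (.nd (.nd (.nd (.nd (.lf 106) (.lf 463)) (.nd (.lf 152) (.lf 0))) (.nd (.nd (.lf 230) (.lf 516)) (.nd (.lf 249) (.lf 0)))) (.nd (.nd (.nd (.lf 41) (.lf 409)) (.nd (.lf 471) (.lf 0))) (.nd (.nd (.lf 113) (.lf 0)) (.nd (.lf 304) (.lf 0))))) (.nd (.nd (.nd (.nd (.lf 638) (.lf 380)) (.nd (.lf 567) (.lf 0))) (.nd (.nd (.lf 93) (.lf 703)) (.nd (.lf 274) (.lf 0)))) (.nd (.nd (.nd (.lf 57) (.lf 571)) (.nd (.lf 218) (.lf 0))) (.nd (.nd (.lf 133) (.lf 0)) (.nd (.lf 327) (.lf 0))))))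

/-- table part -/
def pvT_17 : Tr :=
  .nd (.nd (.nd (.nd (.nd (.nd (.lf 134) (.lf 347)) (.nd (.lf 586) (.lf 0))) (.nd (.nd (.lf 69) (.lf 499)) (.nd (.lf 242) (.lf 0)))) (.nd (.nd (.nd (.lf 95) (.lf 528)) (.nd (.lf 600) (.lf 0))) (.nd (.nd (.lf 112) (.lf 648)) (.nd (.lf 298) (.lf 0))))) (.nd (.nd (.nd (.nd (.lf 74) (.lf 466)) (.nd (.lf 165) (.lf 0))) (.nd (.nd (.lf 639) (.lf 553)) (.nd (.lf 448) (.lf 0)))) (.nd (.nd (.nd (.lf 53) (.lf 441)) (.nd (.lf 435) (.lf 0))) (.nd (.nd (.lf 399) (.lf 0)) (.nd (.lf 322) (.lf 0)))))) (.nd (.nd (.nd (.nd (.nd (.lf 632) (.lf 360)) (.nd (.lf 157) (.lf 0))) (.nd (.nd (.lf 238) (.lf 529)) (.nd (.lf 326) (.lf 0)))) (.nd (.nd (.nd (.lf 45) (.lf 418)) (.nd (.lf 202) (.lf 0))) (.nd (.nd (.lf 458) (.lf 0)) (.nd (.lf 312) (.lf 0))))) (.nd (.nd (.nd (.nd (.lf 455) (.lf 388)) (.nd (.lf 176) (.lf 0))) (.nd (.nd (.lf 98) (.lf 685)) (.nd (.lf 279) (.lf 0)))) (.nd (.nd (.nd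 (.lf 61) (.lf 680)) (.nd (.lf 308) (.lf 0))) (.nd (.nd (.lf 335) (.lf 0)) (.nd (.lf 487) (.lf 0))))))

/-- table part -/
def pvT_18 : Tr :=
  .nd pvT_16 pvT_17

/-- table part -/
def pvT_19 : Tr :=
  .nd (.nd (.nd (.nd (.nd (.nd (.lf 101) (.lf 344)) (.nd (.lf 145) (.lf 0))) (.nd (.nd (.lf 67) (.lf 494)) (.nd (.lf 305) (.lf 0)))) (.nd (.nd (.nd (.lf 217) (.lf 400)) (.nd (.lf 185) (.lf 0))) (.nd (.nd (.lf 105) (.lf 676)) (.nd (.lf 295) (.lf 0))))) (.nd (.nd (.nd (.nd (.lf 674) (.lf 368)) (.nd (.lf 163) (.lf 0))) (.nd (.nd (.lf 86) (.lf 549)) (.nd (.lf 591) (.lf 0)))) (.nd (.nd (.nd (.lf 51) (.lf 496)) (.nd (.lf 310) (.lf 0))) (.nd (.nd (.lf 229) (.lf 0)) (.nd (.lf 318) (.lf 0)))))) (.nd (.nd (.nd (.nd (.nd (.lf 547) (.lf 357)) (.nd (.lf 155) (.lf 0))) (.nd (.nd (.lf 406) (.lf 524)) (.nd (.lf 504) (.lf 0)))) (.nd (.nd (.nd (.lf 43) (.lf 451)) (.nd (.lf 199) (.lf 0))) (.nd (.nd (.lf 509) (.lf 0)) (.nd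 (.lf 307) (.lf 0))))) (.nd (.nd (.nd (.nd (.lf 340) (.lf 383)) (.nd (.lf 173) (.lf 0))) (.nd (.nd (.lf 716) (.lf 576)) (.nd (.lf 470) (.lf 0)))) (.nd (.nd (.nd (.lf 59) (.lf 469)) (.nd (.lf 671) (.lf 0))) (.nd (.nd (.lf 645) (.lf 0)) (.nd (.lf 332) (.lf 0))))))

/-- table part -/
def pvT_20 : Tr :=
  .nd (.nd (.nd (.nd (.nd (.nd (.lf 604) (.lf 351)) (.nd (.lf 150) (.lf 0))) (.nd (.nd (.lf 148) (.lf 650)) (.nd (.lf 246) (.lf 0)))) (.nd (.nd (.nd (.lf 39) (.lf 679)) (.nd (.lf 191) (.lf 0))) (.nd (.nd (.lf 110) (.lf 696)) (.nd (.lf 301) (.lf 0))))) (.nd (.nd (.nd (.nd (.lf 629) (.lf 375)) (.nd (.lf 167) (.lf 0))) (.nd (.nd (.lf 91) (.lf 559)) (.nd (.lf 608) (.lf 0)))) (.nd (.nd (.nd (.lf 55) (.lf 456)) (.nd (.lf 215) (.lf 0))) (.nd (.nd (.lf 131) (.lf 0)) (.nd (.lf 324) (.lf 0)))))) (.nd (.nd (.nd (.nd (.nd (.lf 257) (.lf 396)) (.nd (.lf 159) (.lf 0))) (.nd (.nd (.lf 646) (.lf 700)) (.nd (.lf 551)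 (.lf 0)))) (.nd (.nd (.nd (.lf 47) (.lf 663)) (.nd (.lf 206) (.lf 0))) (.nd (.nd (.lf 445) (.lf 0)) (.nd (.lf 314) (.lf 0))))) (.nd (.nd (.nd (.nd (.lf 170) (.lf 391)) (.nd (.lf 205) (.lf 0))) (.nd (.nd (.lf 100) (.lf 596)) (.nd (.lf 665) (.lf 0)))) (.nd (.nd (.nd (.lf 63) (.lf 713)) (.nd (.lf 687) (.lf 0))) (.nd (.nd (.lf 140) (.lf 0)) (.nd (.lf 339) (.lf 0))))))

/-- table part -/
def pvT_21 : Tr :=
  .nd pvT_19 pvT_20

/-- table part -/
def pvT_22 : Tr :=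
  .nd pvT_18 pvT_21

/-- table part -/
def pvT_23 : Tr :=
  .nd (.nd (.nd (.nd (.nd (.nd (.lf 444) (.lf 366)) (.nd (.lf 144) (.lf 0))) (.nd (.nd (.lf 66) (.lf 490)) (.nd (.lf 234) (.lf 0)))) (.nd (.nd (.nd (.lf 520) (.lf 404)) (.nd (.lf 232) (.lf 0))) (.nd (.nd (.lf 104) (.lf 630)) (.nd (.lf 500) (.lf 0))))) (.nd (.nd (.nd (.nd (.lf 414) (.lf 367)) (.nd (.lf 162) (.lf 0))) (.nd (.nd (.lf 420) (.lf 643)) (.nd (.lf 446) (.lf 0)))) (.nd (.nd (.nd (.lf 50) (.lf 434)) (.nd (.lf 514) (.lf 0))) (.nd (.nd (.lf 124) (.lf 0)) (.nd (.lf 317) (.lf 0)))))) (.nd (.nd (.nd (.nd (.nd (.lf 507) (.lf 356)) (.nd (.lf 154) (.lf 0))) (.nd (.nd (.lf 452) (.lf 523)) (.nd (.lf 250) (.lf 0)))) (.nd (.nd (.nd (.lf 42) (.lf 673)) (.nd (.lf 269) (.lf 0))) (.nd (.nd (.lf 114) (.lf 0)) (.nd (.lf 345) (.lf 0))))) (.nd (.nd (.nd (.nd (.lf 361) (.lf 381)) (.nd (.lf 171) (.lf 0))) (.nd (.nd (.lf 94) (.lf 568)) (.nd (.lf 275) (.lf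 0)))) (.nd (.nd (.nd (.lf 58) (.lf 468)) (.nd (.lf 221) (.lf 0))) (.nd (.nd (.lf 252) (.lf 0)) (.nd (.lf 330) (.lf 0))))))

/-- table part -/
def pvT_24 : Tr :=
  .nd (.nd (.nd (.nd (.nd (.nd (.lf 574) (.lf 412)) (.nd (.lf 149) (.lf 0))) (.nd (.nd (.lf 625) (.lf 554)) (.nd (.lf 244) (.lf 0)))) (.nd (.nd (.nd (.lf 353) (.lf 569)) (.nd (.lf 190) (.lf 0))) (.nd (.nd (.lf 109) (.lf 655)) (.nd (.lf 702) (.lf 0))))) (.nd (.nd (.nd (.nd (.lf 90) (.lf 689)) (.nd (.lf 166) (.lf 0))) (.nd (.nd (.lf 372) (.lf 708)) (.nd (.lf 437) (.lf 0)))) (.nd (.nd (.nd (.lf 54) (.lf 449)) (.nd (.lf 485) (.lf 0))) (.nd (.nd (.lf 235) (.lf 0)) (.nd (.lf 323) (.lf 0)))))) (.nd (.nd (.nd (.nd (.nd (.lf 174) (.lf 431)) (.nd (.lf 158) (.lf 0))) (.nd (.nd (.lf 276) (.lf 581)) (.nd (.lf 256) (.lf 0)))) (.nd (.nd (.nd (.lf 46) (.lf 422)) (.nd (.lf 204) (.lf 0))) (.nd (.nd (.lf 467) (.lf 0)) (.nd (.lf 313) (.lf 0))))) (.nd (.nd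 (.nd (.nd (.lf 666) (.lf 390)) (.nd (.lf 526) (.lf 0))) (.nd (.nd (.lf 99) (.lf 589)) (.nd (.lf 282) (.lf 0)))) (.nd (.nd (.nd (.lf 62) (.lf 479)) (.nd (.lf 227) (.lf 0))) (.nd (.nd (.lf 139) (.lf 0)) (.nd (.lf 475) (.lf 0))))))

/-- table part -/
def pvT_25 : Tr :=
  .nd pvT_23 pvT_24

/-- table part -/
def pvT_26 : Tr :=
  .nd (.nd (.nd (.nd (.nd (.nd (.lf 243) (.lf 346)) (.nd (.lf 146) (.lf 0))) (.nd (.nd (.lf 68) (.lf 498)) (.nd (.lf 622) (.lf 0)))) (.nd (.nd (.nd (.lf 613) (.lf 711)) (.nd (.lf 264) (.lf 0))) (.nd (.nd (.lf 153) (.lf 683)) (.nd (.lf 297) (.lf 0))))) (.nd (.nd (.nd (.nd (.lf 125) (.lf 506)) (.nd (.lf 164) (.lf 0))) (.nd (.nd (.lf 594) (.lf 552)) (.nd (.lf 386) (.lf 0)))) (.nd (.nd (.nd (.lf 52) (.lf 488)) (.nd (.lf 290) (.lf 0))) (.nd (.nd (.lf 127) (.lf 0)) (.nd (.lf 320) (.lf 0)))))) (.nd (.nd (.nd (.nd (.nd (.lf 656) (.lf 395)) (.nd (.lf 156) (.lf 0))) (.nd (.nd (.lf 667)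 (.lf 609)) (.nd (.lf 253) (.lf 0)))) (.nd (.nd (.nd (.lf 44) (.lf 557)) (.nd (.lf 321) (.lf 0))) (.nd (.nd (.lf 117) (.lf 0)) (.nd (.lf 587) (.lf 0))))) (.nd (.nd (.nd (.nd (.lf 186) (.lf 670)) (.nd (.lf 175) (.lf 0))) (.nd (.nd (.lf 237) (.lf 577)) (.nd (.lf 610) (.lf 0)))) (.nd (.nd (.nd (.lf 60) (.lf 472)) (.nd (.lf 224) (.lf 0))) (.nd (.nd (.lf 597) (.lf 0)) (.nd (.lf 333) (.lf 0))))))

/-- table part -/
def pvT_27 : Tr :=
  .nd (.nd (.nd (.nd (.nd (.nd (.lf 181) (.lf 352)) (.nd (.lf 151) (.lf 0))) (.nd (.nd (.lf 196) (.lf 513)) (.nd (.lf 614) (.lf 0)))) (.nd (.nd (.nd (.lf 40) (.lf 408)) (.nd (.lf 555) (.lf 0))) (.nd (.nd (.lf 111) (.lf 714)) (.nd (.lf 303) (.lf 0))))) (.nd (.nd (.nd (.nd (.lf 410) (.lf 668)) (.nd (.lf 259) (.lf 0))) (.nd (.nd (.lf 92) (.lf 562)) (.nd (.lf 272) (.lf 0)))) (.nd (.nd (.nd (.lf 56) (.lf 462)) (.nd (.lf 216) (.lf 0))) (.nd (.nd (.lf 132) (.lf 0)) (.nd (.lf 325)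 (.lf 0)))))) (.nd (.nd (.nd (.nd (.nd (.lf 459) (.lf 715)) (.nd (.lf 160) (.lf 0))) (.nd (.nd (.lf 251) (.lf 541)) (.nd (.lf 633) (.lf 0)))) (.nd (.nd (.nd (.lf 48) (.lf 664)) (.nd (.lf 207) (.lf 0))) (.nd (.nd (.lf 122) (.lf 0)) (.nd (.lf 315) (.lf 0))))) (.nd (.nd (.nd (.nd (.lf 540) (.lf 392)) (.nd (.lf 287) (.lf 0))) (.nd (.nd (.lf 393) (.lf 607)) (.nd (.lf 302) (.lf 0)))) (.nd (.nd (.nd (.lf 64) (.lf 483)) (.nd (.lf 231) (.lf 0))) (.nd (.nd (.lf 141) (.lf 0)) (.nd (.lf 478) (.lf 0))))))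

/-- table part -/
def pvT_28 : Tr :=
  .nd pvT_26 pvT_27

/-- table part -/
def pvT_29 : Tr :=
  .nd pvT_25 pvT_28

/-- table part -/
def pvT_30 : Tr :=
  .nd pvT_22 pvT_29

/-- table part -/
def pvT_31 : Tr :=
  .nd pvT_15 pvT_30

/-- table part -/
def pvT_32 : Tr :=
  .nd (.nd (.nd (.nd (.nd (.nd (.lf 143) (.lf 463)) (.nd (.lf 415) (.lf 0))) (.nd (.nd (.lf 64) (.lf 485)) (.nd (.lf 231) (.lf 0)))) (.nd (.nd (.nd (.lf 506) (.lf 518)) (.nd (.lf 681) (.lf 0))) (.nd (.nd (.lf 102) (.lf 675)) (.nd (.lf 484) (.lf 0))))) (.nd (.nd (.nd (.nd (.lf 445) (.lf 364)) (.nd (.lf 160) (.lf 0))) (.nd (.nd (.lf 291) (.lf 549)) (.nd (.lf 259) (.lf 0)))) (.nd (.nd (.nd (.lf 48) (.lf 430)) (.nd (.lf 603) (.lf 0))) (.nd (.nd (.lf 122) (.lf 0)) (.nd (.lf 315) (.lf 0)))))) (.nd (.nd (.nd (.nd (.nd (.lf 197) (.lf 539)) (.nd (.lf 151) (.lf 0))) (.nd (.nd (.lf 73) (.lf 686)) (.nd (.lf 248) (.lf 0)))) (.nd (.nd (.nd (.lf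 40) (.lf 408)) (.nd (.lf 516) (.lf 0))) (.nd (.nd (.lf 112) (.lf 0)) (.nd (.lf 303) (.lf 0))))) (.nd (.nd (.nd (.nd (.lf 653) (.lf 446)) (.nd (.lf 613) (.lf 0))) (.nd (.nd (.lf 92) (.lf 701)) (.nd (.lf 674) (.lf 0)))) (.nd (.nd (.nd (.lf 56) (.lf 614)) (.nd (.lf 217) (.lf 0))) (.nd (.nd (.lf 132) (.lf 0)) (.nd (.lf 326) (.lf 0))))))

/-- table part -/
def pvT_33 : Tr :=
  .nd (.nd (.nd (.nd (.nd (.nd (.lf 329) (.lf 346)) (.nd (.lf 146) (.lf 0))) (.nd (.nd (.lf 68) (.lf 498)) (.nd (.lf 238) (.lf 0)))) (.nd (.nd (.nd (.lf 111) (.lf 525)) (.nd (.lf 652) (.lf 0))) (.nd (.nd (.lf 711) (.lf 645)) (.nd (.lf 297) (.lf 0))))) (.nd (.nd (.nd (.nd (.lf 618) (.lf 448)) (.nd (.lf 164) (.lf 0))) (.nd (.nd (.lf 655) (.lf 552)) (.nd (.lf 466) (.lf 0)))) (.nd (.nd (.nd (.lf 52) (.lf 718)) (.nd (.lf 296) (.lf 0))) (.nd (.nd (.lf 382) (.lf 0)) (.nd (.lf 321) (.lf 0)))))) (.nd (.nd (.nd (.nd (.nd (.lf 529) (.lf 371))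 (.nd (.lf 156) (.lf 0))) (.nd (.nd (.lf 220) (.lf 632)) (.nd (.lf 418) (.lf 0)))) (.nd (.nd (.nd (.lf 44) (.lf 623)) (.nd (.lf 689) (.lf 0))) (.nd (.nd (.lf 117) (.lf 0)) (.nd (.lf 311) (.lf 0))))) (.nd (.nd (.nd (.nd (.lf 680) (.lf 469)) (.nd (.lf 175) (.lf 0))) (.nd (.nd (.lf 216) (.lf 612)) (.nd (.lf 643) (.lf 0)))) (.nd (.nd (.nd (.lf 60) (.lf 472)) (.nd (.lf 224) (.lf 0))) (.nd (.nd (.lf 491) (.lf 0)) (.nd (.lf 433) (.lf 0))))))

/-- table part -/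
def pvT_34 : Tr :=
  .nd pvT_32 pvT_33

/-- table part -/
def pvT_35 : Tr :=
  .nd (.nd (.nd (.nd (.nd (.nd (.lf 330) (.lf 435)) (.nd (.lf 144) (.lf 0))) (.nd (.nd (.lf 66) (.lf 490)) (.nd (.lf 234) (.lf 0)))) (.nd (.nd (.nd (.lf 407) (.lf 464)) (.nd (.lf 476) (.lf 0))) (.nd (.nd (.lf 104) (.lf 646)) (.nd (.lf 428) (.lf 0))))) (.nd (.nd (.nd (.nd (.lf 180) (.lf 367)) (.nd (.lf 162) (.lf 0))) (.nd (.nd (.lf 515) (.lf 548)) (.nd (.lf 264) (.lf 0)))) (.nd (.nd (.nd (.lf 50) (.lf 434)) (.nd (.lf 289) (.lf 0))) (.nd (.nd (.lf 124) (.lf 0)) (.nd (.lf 317) (.lf 0)))))) (.nd (.nd (.nd (.nd (.nd (.lf 278) (.lf 356)) (.nd (.lf 154) (.lf 0))) (.nd (.nd (.lf 404) (.lf 523)) (.nd (.lf 250) (.lf 0)))) (.nd (.nd (.nd (.lf 42) (.lf 699)) (.nd (.lf 198) (.lf 0))) (.nd (.nd (.lf 114) (.lf 0)) (.nd (.lf 306) (.lf 0))))) (.nd (.nd (.nd (.nd (.lf 355) (.lf 381)) (.nd (.lf 308) (.lf 0))) (.nd (.nd (.lf 94) (.lf 574))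 (.nd (.lf 275) (.lf 0)))) (.nd (.nd (.nd (.lf 58) (.lf 468)) (.nd (.lf 519) (.lf 0))) (.nd (.nd (.lf 272) (.lf 0)) (.nd (.lf 331) (.lf 0))))))

/-- table part -/
def pvT_36 : Tr :=
  .nd (.nd (.nd (.nd (.nd (.nd (.lf 130) (.lf 349)) (.nd (.lf 149) (.lf 0))) (.nd (.nd (.lf 116) (.lf 507)) (.nd (.lf 245) (.lf 0)))) (.nd (.nd (.nd (.lf 534) (.lf 700)) (.nd (.lf 190) (.lf 0))) (.nd (.nd (.lf 109) (.lf 688)) (.nd (.lf 556) (.lf 0))))) (.nd (.nd (.nd (.nd (.lf 300) (.lf 392)) (.nd (.lf 166) (.lf 0))) (.nd (.nd (.lf 90) (.lf 570)) (.nd (.lf 295) (.lf 0)))) (.nd (.nd (.nd (.lf 54) (.lf 455)) (.nd (.lf 214) (.lf 0))) (.nd (.nd (.lf 365) (.lf 0)) (.nd (.lf 323) (.lf 0)))))) (.nd (.nd (.nd (.nd (.nd (.lf 616) (.lf 514)) (.nd (.lf 158) (.lf 0))) (.nd (.nd (.lf 607) (.lf 679)) (.nd (.lf 256) (.lf 0)))) (.nd (.nd (.nd (.lf 46) (.lf 423)) (.nd (.lf 205) (.lf 0))) (.nd (.nd (.lf 263) (.lf 0)) (.nd (.lf 313) (.lf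 0))))) (.nd (.nd (.nd (.nd (.lf 79) (.lf 390)) (.nd (.lf 585) (.lf 0))) (.nd (.nd (.lf 99) (.lf 656)) (.nd (.lf 569) (.lf 0)))) (.nd (.nd (.nd (.lf 62) (.lf 664)) (.nd (.lf 228) (.lf 0))) (.nd (.nd (.lf 139) (.lf 0)) (.nd (.lf 419) (.lf 0))))))

/-- table part -/
def pvT_37 : Tr :=
  .nd pvT_35 pvT_36

/-- table part -/
def pvT_38 : Tr :=
  .nd pvT_34 pvT_37

/-- table part -/
def pvT_39 : Tr :=
  .nd (.nd (.nd (.nd (.nd (.nd (.lf 260) (.lf 712)) (.nd (.lf 479) (.lf 0))) (.nd (.nd (.lf 65) (.lf 488)) (.nd (.lf 233) (.lf 0)))) (.nd (.nd (.nd (.lf 357) (.lf 406)) (.nd (.lf 290) (.lf 0))) (.nd (.nd (.lf 103) (.lf 659)) (.nd (.lf 621) (.lf 0))))) (.nd (.nd (.nd (.nd (.lf 293) (.lf 366)) (.nd (.lf 161) (.lf 0))) (.nd (.nd (.lf 97) (.lf 543)) (.nd (.lf 261) (.lf 0)))) (.nd (.nd (.nd (.lf 49) (.lf 432)) (.nd (.lf 396) (.lf 0))) (.nd (.nd (.lf 123) (.lf 0)) (.nd (.lf 316) (.lf 0)))))) (.nd (.nd (.nd (.nd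 (.nd (.lf 38) (.lf 478)) (.nd (.lf 153) (.lf 0))) (.nd (.nd (.lf 412) (.lf 615)) (.nd (.lf 249) (.lf 0)))) (.nd (.nd (.nd (.lf 41) (.lf 410)) (.nd (.lf 236) (.lf 0))) (.nd (.nd (.lf 113) (.lf 0)) (.nd (.lf 304) (.lf 0))))) (.nd (.nd (.nd (.nd (.lf 575) (.lf 380)) (.nd (.lf 170) (.lf 0))) (.nd (.nd (.lf 93) (.lf 566)) (.nd (.lf 274) (.lf 0)))) (.nd (.nd (.nd (.lf 57) (.lf 467)) (.nd (.lf 493) (.lf 0))) (.nd (.nd (.lf 133) (.lf 0)) (.nd (.lf 707) (.lf 0))))))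

/-- table part -/
def pvT_40 : Tr :=
  .nd (.nd (.nd (.nd (.nd (.nd (.lf 589) (.lf 452)) (.nd (.lf 148) (.lf 0))) (.nd (.nd (.lf 69) (.lf 650)) (.nd (.lf 243) (.lf 0)))) (.nd (.nd (.nd (.lf 492) (.lf 665)) (.nd (.lf 696) (.lf 0))) (.nd (.nd (.lf 302) (.lf 661)) (.nd (.lf 298) (.lf 0))))) (.nd (.nd (.nd (.nd (.lf 176) (.lf 372)) (.nd (.lf 165) (.lf 0))) (.nd (.nd (.lf 441) (.lf 629)) (.nd (.lf 268) (.lf 0)))) (.nd (.nd (.nd (.lf 53) (.lf 447)) (.nd (.lf 719) (.lf 0))) (.nd (.nd (.lf 345) (.lf 0)) (.nd (.lf 322) (.lf 0)))))) (.nd (.nd (.nd (.nd (.nd (.lf 86) (.lf 360)) (.nd (.lf 157) (.lf 0))) (.nd (.nd (.lf 531) (.lf 528)) (.nd (.lf 255) (.lf 0)))) (.nd (.nd (.nd (.lf 45) (.lf 561)) (.nd (.lf 497) (.lf 0))) (.nd (.nd (.lf 202) (.lf 0)) (.nd (.lf 312) (.lf 0))))) (.nd (.nd (.nd (.nd (.lf 617) (.lf 458)) (.nd (.lf 544) (.lf 0))) (.nd (.nd (.lf 98) (.lf 584)) (.nd (.lf 281) (.lf 0)))) (.nd (.nd (.nd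 (.lf 61) (.lf 477)) (.nd (.lf 226) (.lf 0))) (.nd (.nd (.lf 138) (.lf 0)) (.nd (.lf 578) (.lf 0))))))

/-- table part -/
def pvT_41 : Tr :=
  .nd pvT_39 pvT_40

/-- table part -/
def pvT_42 : Tr :=
  .nd (.nd (.nd (.nd (.nd (.nd (.lf 242) (.lf 344)) (.nd (.lf 145) (.lf 0))) (.nd (.nd (.lf 67) (.lf 496)) (.nd (.lf 437) (.lf 0)))) (.nd (.nd (.nd (.lf 567) (.lf 400)) (.nd (.lf 185) (.lf 0))) (.nd (.nd (.lf 105) (.lf 638)) (.nd (.lf 343) (.lf 0))))) (.nd (.nd (.nd (.nd (.lf 687) (.lf 620)) (.nd (.lf 163) (.lf 0))) (.nd (.nd (.lf 204) (.lf 551)) (.nd (.lf 422) (.lf 0)))) (.nd (.nd (.nd (.lf 51) (.lf 438)) (.nd (.lf 232) (.lf 0))) (.nd (.nd (.lf 559) (.lf 0)) (.nd (.lf 318) (.lf 0)))))) (.nd (.nd (.nd (.nd (.nd (.lf 347) (.lf 457)) (.nd (.lf 155) (.lf 0))) (.nd (.nd (.lf 282) (.lf 628)) (.nd (.lf 252) (.lf 0)))) (.nd (.nd (.nd (.lf 43) (.lf 414)) (.nd (.lf 673) (.lf 0))) (.nd (.nd (.lf 460) (.lf 0))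 (.nd (.lf 626) (.lf 0))))) (.nd (.nd (.nd (.nd (.lf 377) (.lf 384)) (.nd (.lf 174) (.lf 0))) (.nd (.nd (.lf 577) (.lf 576)) (.nd (.lf 538) (.lf 0)))) (.nd (.nd (.nd (.lf 59) (.lf 471)) (.nd (.lf 636) (.lf 0))) (.nd (.nd (.lf 649) (.lf 0)) (.nd (.lf 332) (.lf 0))))))

/-- table part -/
def pvT_43 : Tr :=
  .nd (.nd (.nd (.nd (.nd (.nd (.lf 152) (.lf 351)) (.nd (.lf 150) (.lf 0))) (.nd (.nd (.lf 189) (.lf 512)) (.nd (.lf 398) (.lf 0)))) (.nd (.nd (.nd (.lf 39) (.lf 521)) (.nd (.lf 374) (.lf 0))) (.nd (.nd (.lf 110) (.lf 693)) (.nd (.lf 301) (.lf 0))))) (.nd (.nd (.nd (.nd (.lf 640) (.lf 375)) (.nd (.lf 359) (.lf 0))) (.nd (.nd (.lf 91) (.lf 560)) (.nd (.lf 271) (.lf 0)))) (.nd (.nd (.nd (.lf 55) (.lf 456)) (.nd (.lf 215) (.lf 0))) (.nd (.nd (.lf 131) (.lf 0)) (.nd (.lf 324) (.lf 0)))))) (.nd (.nd (.nd (.nd (.nd (.lf 535) (.lf 510)) (.nd (.lf 159) (.lf 0))) (.nd (.nd (.lf 554) (.lf 657)) (.nd (.lf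 678) (.lf 0)))) (.nd (.nd (.nd (.lf 47) (.lf 426)) (.nd (.lf 206) (.lf 0))) (.nd (.nd (.lf 611) (.lf 0)) (.nd (.lf 314) (.lf 0))))) (.nd (.nd (.nd (.nd (.lf 695) (.lf 391)) (.nd (.lf 273) (.lf 0))) (.nd (.nd (.lf 100) (.lf 595)) (.nd (.lf 284) (.lf 0)))) (.nd (.nd (.nd (.lf 63) (.lf 482)) (.nd (.lf 230) (.lf 0))) (.nd (.nd (.lf 140) (.lf 0)) (.nd (.lf 339) (.lf 0))))))

/-- table part -/
def pvT_44 : Tr :=
  .nd pvT_42 pvT_43

/-- table part -/
def pvT_45 : Tr :=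
  .nd pvT_41 pvT_44

/-- table part -/
def pvT_46 : Tr :=
  .nd pvT_38 pvT_45

/-- table part -/
def pvT_47 : Tr :=
  .nd (.nd (.nd (.nd (.nd (.nd (.lf 0) (.lf 341)) (.nd (.lf 142) (.lf 0))) (.nd (.nd (.lf 310) (.lf 487)) (.nd (.lf 353) (.lf 0)))) (.nd (.nd (.nd (.lf 32) (.lf 395)) (.nd (.lf 182) (.lf 0))) (.nd (.nd (.lf 227) (.lf 710)) (.nd (.lf 288) (.lf 0))))) (.nd (.nd (.nd (.nd (.lf 16) (.lf 604)) (.nd (.lf 704) (.lf 0))) (.nd (.nd (.lf 83) (.lf 691)) (.nd (.lf 474) (.lf 0)))) (.nd (.nd (.nd (.lf 571) (.lf 431)) (.nd (.lf 208) (.lf 0))) (.nd (.nd (.lf 610) (.lf 0)) (.nd (.lf 715) (.lf 0)))))) (.nd (.nd (.nd (.nd (.nd (.lf 8) (.lf 354)) (.nd (.lf 287) (.lf 0))) (.nd (.nd (.lf 74) (.lf 572)) (.nd (.lf 694) (.lf 0)))) (.nd (.nd (.nd (.lf 668) (.lf 685)) (.nd (.lf 194) (.lf 0))) (.nd (.nd (.lf 389) (.lf 0)) (.nd (.lf 379) (.lf 0))))) (.nd (.nd (.nd (.nd (.lf 24) (.lf 501)) (.nd (.lf 169) (.lf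 0))) (.nd (.nd (.lf 193) (.lf 564)) (.nd (.lf 714) (.lf 0)))) (.nd (.nd (.nd (.lf 333) (.lf 465)) (.nd (.lf 662) (.lf 0))) (.nd (.nd (.lf 319) (.lf 0)) (.nd (.lf 573) (.lf 0))))))

/-- table part -/
def pvT_48 : Tr :=
  .nd (.nd (.nd (.nd (.nd (.nd (.lf 4) (.lf 592)) (.nd (.lf 147) (.lf 0))) (.nd (.nd (.lf 171) (.lf 568)) (.nd (.lf 294) (.lf 0)))) (.nd (.nd (.nd (.lf 36) (.lf 402)) (.nd (.lf 187) (.lf 0))) (.nd (.nd (.lf 107) (.lf 667)) (.nd (.lf 540) (.lf 0))))) (.nd (.nd (.nd (.nd (.lf 20) (.lf 370)) (.nd (.lf 600) (.lf 0))) (.nd (.nd (.lf 88) (.lf 660)) (.nd (.lf 267) (.lf 0)))) (.nd (.nd (.nd (.lf 637) (.lf 647)) (.nd (.lf 212) (.lf 0))) (.nd (.nd (.lf 128) (.lf 0)) (.nd (.lf 524) (.lf 0)))))) (.nd (.nd (.nd (.nd (.nd (.lf 12) (.lf 642)) (.nd (.lf 450) (.lf 0))) (.nd (.nd (.lf 78) (.lf 527)) (.nd (.lf 254) (.lf 0)))) (.nd (.nd (.nd (.lf 705) (.lf 669)) (.nd (.lf 651) (.lf 0))) (.nd (.nd (.lf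 118) (.lf 0)) (.nd (.lf 409) (.lf 0))))) (.nd (.nd (.nd (.nd (.lf 28) (.lf 520)) (.nd (.lf 240) (.lf 0))) (.nd (.nd (.lf 184) (.lf 582)) (.nd (.lf 598) (.lf 0)))) (.nd (.nd (.nd (.lf 378) (.lf 473)) (.nd (.lf 225) (.lf 0))) (.nd (.nd (.lf 137) (.lf 0)) (.nd (.lf 336) (.lf 0))))))

/-- table part -/
def pvT_49 : Tr :=
  .nd pvT_47 pvT_48

/-- table part -/
def pvT_50 : Tr :=
  .nd (.nd (.nd (.nd (.nd (.nd (.lf 2) (.lf 536)) (.nd (.lf 709) (.lf 0))) (.nd (.nd (.lf 579) (.lf 606)) (.nd (.lf 235) (.lf 0)))) (.nd (.nd (.nd (.lf 34) (.lf 462)) (.nd (.lf 489) (.lf 0))) (.nd (.nd (.lf 279) (.lf 635)) (.nd (.lf 368) (.lf 0))))) (.nd (.nd (.nd (.nd (.lf 18) (.lf 608)) (.nd (.lf 545) (.lf 0))) (.nd (.nd (.lf 644) (.lf 677)) (.nd (.lf 265) (.lf 0)))) (.nd (.nd (.nd (.lf 320) (.lf 436)) (.nd (.lf 210) (.lf 0))) (.nd (.nd (.lf 125) (.lf 0)) (.nd (.lf 499) (.lf 0)))))) (.nd (.nd (.nd (.nd (.nd (.lf 10) (.lf 388))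 (.nd (.lf 172) (.lf 0))) (.nd (.nd (.lf 76) (.lf 601)) (.nd (.lf 251) (.lf 0)))) (.nd (.nd (.nd (.lf 327) (.lf 413)) (.nd (.lf 218) (.lf 0))) (.nd (.nd (.lf 115) (.lf 0)) (.nd (.lf 546) (.lf 0))))) (.nd (.nd (.nd (.nd (.lf 26) (.lf 627)) (.nd (.lf 417) (.lf 0))) (.nd (.nd (.lf 95) (.lf 666)) (.nd (.lf 276) (.lf 0)))) (.nd (.nd (.nd (.lf 671) (.lf 654)) (.nd (.lf 222) (.lf 0))) (.nd (.nd (.lf 135) (.lf 0)) (.nd (.lf 449) (.lf 0))))))

/-- table part -/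
def pvT_51 : Tr :=
  .nd (.nd (.nd (.nd (.nd (.nd (.lf 6) (.lf 429)) (.nd (.lf 383) (.lf 0))) (.nd (.nd (.lf 71) (.lf 508)) (.nd (.lf 350) (.lf 0)))) (.nd (.nd (.nd (.lf 334) (.lf 405)) (.nd (.lf 494) (.lf 0))) (.nd (.nd (.lf 203) (.lf 692)) (.nd (.lf 593) (.lf 0))))) (.nd (.nd (.nd (.nd (.lf 22) (.lf 440)) (.nd (.lf 702) (.lf 0))) (.nd (.nd (.lf 328) (.lf 602)) (.nd (.lf 270) (.lf 0)))) (.nd (.nd (.nd (.lf 470) (.lf 505)) (.nd (.lf 480) (.lf 0))) (.nd (.nd (.lf 424) (.lf 0)) (.nd (.lf 459) (.lf 0)))))) (.nd (.nd (.nd (.nd (.nd (.lf 14) (.lf 362)) (.nd (.lf 219) (.lf 0))) (.nd (.nd (.lf 81) (.lf 533)) (.nd (.lf 257) (.lf 0)))) (.nd (.nd (.nd (.lf 221) (.lf 425)) (.nd (.lf 207) (.lf 0))) (.nd (.nd (.lf 120) (.lf 0)) (.nd (.lf 442) (.lf 0))))) (.nd (.nd (.nd (.nd (.lf 30) (.lf 597)) (.nd (.lf 179) (.lf 0))) (.nd (.nd (.lf 444) (.lf 594)) (.nd (.lf 283) (.lf 0)))) (.nd (.nd (.nd (.lf 583) (.lf 481))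 (.nd (.lf 229) (.lf 0))) (.nd (.nd (.lf 387) (.lf 0)) (.nd (.lf 537) (.lf 0))))))

/-- table part -/
def pvT_52 : Tr :=
  .nd pvT_50 pvT_51

/-- table part -/
def pvT_53 : Tr :=
  .nd pvT_49 pvT_52

/-- table part -/
def pvT_54 : Tr :=
  .nd (.nd (.nd (.nd (.nd (.nd (.lf 1) (.lf 342)) (.nd (.lf 394) (.lf 0))) (.nd (.nd (.lf 530) (.lf 511)) (.nd (.lf 563) (.lf 0)))) (.nd (.nd (.nd (.lf 33) (.lf 397)) (.nd (.lf 183) (.lf 0))) (.nd (.nd (.lf 223) (.lf 672)) (.nd (.lf 292) (.lf 0))))) (.nd (.nd (.nd (.nd (.lf 17) (.lf 541)) (.nd (.lf 239) (.lf 0))) (.nd (.nd (.lf 84) (.lf 547)) (.nd (.lf 262) (.lf 0)))) (.nd (.nd (.nd (.lf 191) (.lf 483)) (.nd (.lf 209) (.lf 0))) (.nd (.nd (.lf 127) (.lf 0)) (.nd (.lf 502) (.lf 0)))))) (.nd (.nd (.nd (.nd (.nd (.lf 9) (.lf 475)) (.nd (.lf 717) (.lf 0))) (.nd (.nd (.lf 75) (.lf 633)) (.nd (.lf 421) (.lf 0)))) (.nd (.nd (.nd (.lf 684) (.lf 411)) (.nd (.lf 195) (.lf 0)))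 (.nd (.nd (.lf 177) (.lf 0)) (.nd (.lf 305) (.lf 0))))) (.nd (.nd (.nd (.nd (.lf 25) (.lf 454)) (.nd (.lf 586) (.lf 0))) (.nd (.nd (.lf 385) (.lf 624)) (.nd (.lf 703) (.lf 0)))) (.nd (.nd (.nd (.lf 108) (.lf 503)) (.nd (.lf 509) (.lf 0))) (.nd (.nd (.lf 134) (.lf 0)) (.nd (.lf 393) (.lf 0))))))

/-- table part -/
def pvT_55 : Tr :=
  .nd (.nd (.nd (.nd (.nd (.nd (.lf 5) (.lf 348)) (.nd (.lf 253) (.lf 0))) (.nd (.nd (.lf 70) (.lf 504)) (.nd (.lf 517) (.lf 0)))) (.nd (.nd (.nd (.lf 37) (.lf 403)) (.nd (.lf 443) (.lf 0))) (.nd (.nd (.lf 188) (.lf 683)) (.nd (.lf 299) (.lf 0))))) (.nd (.nd (.nd (.nd (.lf 21) (.lf 373)) (.nd (.lf 285) (.lf 0))) (.nd (.nd (.lf 89) (.lf 557)) (.nd (.lf 269) (.lf 0)))) (.nd (.nd (.nd (.lf 141) (.lf 581)) (.nd (.lf 213) (.lf 0))) (.nd (.nd (.lf 129) (.lf 0)) (.nd (.lf 522) (.lf 0)))))) (.nd (.nd (.nd (.nd (.nd (.lf 13) (.lf 361)) (.nd (.lf 335) (.lf 0))) (.nd (.nd (.lf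 80) (.lf 532)) (.nd (.lf 307) (.lf 0)))) (.nd (.nd (.nd (.lf 196) (.lf 670)) (.nd (.lf 596) (.lf 0))) (.nd (.nd (.lf 119) (.lf 0)) (.nd (.lf 352) (.lf 0))))) (.nd (.nd (.nd (.nd (.lf 29) (.lf 641)) (.nd (.lf 178) (.lf 0))) (.nd (.nd (.lf 167) (.lf 658)) (.nd (.lf 648) (.lf 0)))) (.nd (.nd (.nd (.lf 173) (.lf 565)) (.nd (.lf 663) (.lf 0))) (.nd (.nd (.lf 199) (.lf 0)) (.nd (.lf 337) (.lf 0))))))

/-- table part -/
def pvT_56 : Tr :=
  .nd pvT_54 pvT_55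

/-- table part -/
def pvT_57 : Tr :=
  .nd (.nd (.nd (.nd (.nd (.nd (.lf 3) (.lf 588)) (.nd (.lf 495) (.lf 0))) (.nd (.nd (.lf 85) (.lf 706)) (.nd (.lf 237) (.lf 0)))) (.nd (.nd (.nd (.lf 35) (.lf 401)) (.nd (.lf 186) (.lf 0))) (.nd (.nd (.lf 106) (.lf 639)) (.nd (.lf 553) (.lf 0))))) (.nd (.nd (.nd (.nd (.lf 19) (.lf 369)) (.nd (.lf 609) (.lf 0))) (.nd (.nd (.lf 87) (.lf 698)) (.nd (.lf 266) (.lf 0)))) (.nd (.nd (.nd (.lf 121) (.lf 439)) (.nd (.lf 211) (.lf 0))) (.nd (.nd (.lf 630) (.lf 0)) (.nd (.lf 486) (.lf 0)))))) (.nd (.nd (.nd (.nd (.nd (.lf 11) (.lf 358)) (.nd (.lf 599) (.lf 0))) (.nd (.nd (.lf 77) (.lf 526)) (.nd (.lf 591) (.lf 0)))) (.nd (.nd (.nd (.lf 201) (.lf 416)) (.nd (.lf 200) (.lf 0))) (.nd (.nd (.lf 241) (.lf 0)) (.nd (.lf 309) (.lf 0))))) (.nd (.nd (.nd (.nd (.lf 27) (.lf 386)) (.nd (.lf 244) (.lf 0))) (.nd (.nd (.lf 96) (.lf 622)) (.nd (.lf 277) (.lf 0)))) (.nd (.nd (.nd (.lf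 550) (.lf 587)) (.nd (.lf 708) (.lf 0))) (.nd (.nd (.lf 136) (.lf 0)) (.nd (.lf 590) (.lf 0))))))

/-- table part -/
def pvT_58 : Tr :=
  .nd (.nd (.nd (.nd (.nd (.nd (.lf 7) (.lf 619)) (.nd (.lf 500) (.lf 0))) (.nd (.nd (.lf 72) (.lf 625)) (.nd (.lf 247) (.lf 0)))) (.nd (.nd (.nd (.lf 338) (.lf 682)) (.nd (.lf 192) (.lf 0))) (.nd (.nd (.lf 716) (.lf 713)) (.nd (.lf 399) (.lf 0))))) (.nd (.nd (.nd (.nd (.lf 23) (.lf 376)) (.nd (.lf 168) (.lf 0))) (.nd (.nd (.lf 690) (.lf 631)) (.nd (.lf 697) (.lf 0)))) (.nd (.nd (.nd (.lf 126) (.lf 562)) (.nd (.lf 420) (.lf 0))) (.nd (.nd (.lf 461) (.lf 0)) (.nd (.lf 453) (.lf 0)))))) (.nd (.nd (.nd (.nd (.nd (.lf 15) (.lf 363)) (.nd (.lf 451) (.lf 0))) (.nd (.nd (.lf 82) (.lf 558)) (.nd (.lf 258) (.lf 0)))) (.nd (.nd (.nd (.lf 246) (.lf 427)) (.nd (.lf 580) (.lf 0))) (.nd (.nd (.lf 280) (.lf 0)) (.nd (.lf 676) (.lf 0))))) (.nd (.nd (.nd (.nd (.lf 31) (.lf 555))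 (.nd (.lf 181) (.lf 0))) (.nd (.nd (.lf 101) (.lf 634)) (.nd (.lf 286) (.lf 0)))) (.nd (.nd (.nd (.lf 513) (.lf 605)) (.nd (.lf 542) (.lf 0))) (.nd (.nd (.lf 325) (.lf 0)) (.nd (.lf 340) (.lf 0))))))

/-- table part -/
def pvT_59 : Tr :=
  .nd pvT_57 pvT_58

/-- table part -/
def pvT_60 : Tr :=
  .nd pvT_56 pvT_59

/-- table part -/
def pvT_61 : Tr :=
  .nd pvT_53 pvT_60

/-- table part -/
def pvT_62 : Tr :=
  .nd pvT_46 pvT_61

/-- table part -/
def pvT_63 : Tr :=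
  .nd pvT_31 pvT_62

/-- table -/
def pvT : Tr :=
  pvT_63

/-- table part -/
def parT_1 : Tr :=
  .nd (.nd (.nd (.nd (.nd (.nd (.lf 0) (.lf 682)) (.nd (.lf 284) (.lf 0))) (.nd (.nd (.lf 129) (.lf 971)) (.nd (.lf 463) (.lf 0)))) (.nd (.nd (.nd (.lf 64) (.lf 788)) (.nd (.lf 364) (.lf 0))) (.nd (.nd (.lf 205) (.lf 1230)) (.nd (.lf 576) (.lf 0))))) (.nd (.nd (.nd (.nd (.lf 32) (.lf 729)) (.nd (.lf 321) (.lf 0))) (.nd (.nd (.lf 166) (.lf 1084)) (.nd (.lf 519) (.lf 0)))) (.nd (.nd (.nd (.lf 97) (.lf 861)) (.nd (.lf 416) (.lf 0))) (.nd (.nd (.lf 245) (.lf 0)) (.nd (.lf 631) (.lf 0)))))) (.nd (.nd (.nd (.nd (.nd (.lf 16) (.lf 708)) (.nd (.lf 303) (.lf 0))) (.nd (.nd (.lf 147) (.lf 1030)) (.nd (.lf 497) (.lf 0)))) (.nd (.nd (.nd (.lf 81) (.lf 817)) (.nd (.lf 386) (.lf 0))) (.nd (.nd (.lf 225) (.lf 0)) (.nd (.lf 607) (.lf 0))))) (.nd (.nd (.nd (.nd (.lf 48) (.lf 756)) (.nd (.lf 338) (.lf 0))) (.nd (.nd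 (.lf 185) (.lf 1128)) (.nd (.lf 546) (.lf 0)))) (.nd (.nd (.nd (.lf 113) (.lf 928)) (.nd (.lf 435) (.lf 0))) (.nd (.nd (.lf 265) (.lf 0)) (.nd (.lf 653) (.lf 0))))))

/-- table part -/
def parT_2 : Tr :=
  .nd (.nd (.nd (.nd (.nd (.nd (.lf 8) (.lf 693)) (.nd (.lf 293) (.lf 0))) (.nd (.nd (.lf 137) (.lf 997)) (.nd (.lf 477) (.lf 0)))) (.nd (.nd (.nd (.lf 72) (.lf 804)) (.nd (.lf 374) (.lf 0))) (.nd (.nd (.lf 214) (.lf 1291)) (.nd (.lf 595) (.lf 0))))) (.nd (.nd (.nd (.nd (.lf 40) (.lf 740)) (.nd (.lf 329) (.lf 0))) (.nd (.nd (.lf 176) (.lf 1105)) (.nd (.lf 534) (.lf 0)))) (.nd (.nd (.nd (.lf 105) (.lf 880)) (.nd (.lf 424) (.lf 0))) (.nd (.nd (.lf 256) (.lf 0)) (.nd (.lf 643) (.lf 0)))))) (.nd (.nd (.nd (.nd (.nd (.lf 24) (.lf 718)) (.nd (.lf 313) (.lf 0))) (.nd (.nd (.lf 156) (.lf 1054)) (.nd (.lf 508) (.lf 0)))) (.nd (.nd (.nd (.lf 89) (.lf 834)) (.nd (.lf 402) (.lf 0))) (.nd (.nd (.lf 235) (.lf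 0)) (.nd (.lf 623) (.lf 0))))) (.nd (.nd (.nd (.nd (.lf 56) (.lf 774)) (.nd (.lf 351) (.lf 0))) (.nd (.nd (.lf 194) (.lf 1160)) (.nd (.lf 556) (.lf 0)))) (.nd (.nd (.nd (.lf 121) (.lf 945)) (.nd (.lf 449) (.lf 0))) (.nd (.nd (.lf 274) (.lf 0)) (.nd (.lf 668) (.lf 0))))))

/-- table part -/
def parT_3 : Tr :=
  .nd parT_1 parT_2

/-- table part -/
def parT_4 : Tr :=
  .nd (.nd (.nd (.nd (.nd (.nd (.lf 4) (.lf 686)) (.nd (.lf 289) (.lf 0))) (.nd (.nd (.lf 133) (.lf 981)) (.nd (.lf 469) (.lf 0)))) (.nd (.nd (.nd (.lf 68) (.lf 796)) (.nd (.lf 368) (.lf 0))) (.nd (.nd (.lf 209) (.lf 1268)) (.nd (.lf 586) (.lf 0))))) (.nd (.nd (.nd (.nd (.lf 36) (.lf 735)) (.nd (.lf 325) (.lf 0))) (.nd (.nd (.lf 170) (.lf 1097)) (.nd (.lf 529) (.lf 0)))) (.nd (.nd (.nd (.lf 101) (.lf 869)) (.nd (.lf 420) (.lf 0))) (.nd (.nd (.lf 249) (.lf 0)) (.nd (.lf 635) (.lf 0)))))) (.nd (.nd (.nd (.nd (.nd (.lf 20) (.lf 713)) (.nd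 (.lf 309) (.lf 0))) (.nd (.nd (.lf 152) (.lf 1047)) (.nd (.lf 501) (.lf 0)))) (.nd (.nd (.nd (.lf 85) (.lf 826)) (.nd (.lf 397) (.lf 0))) (.nd (.nd (.lf 229) (.lf 0)) (.nd (.lf 613) (.lf 0))))) (.nd (.nd (.nd (.nd (.lf 52) (.lf 763)) (.nd (.lf 344) (.lf 0))) (.nd (.nd (.lf 189) (.lf 1149)) (.nd (.lf 551) (.lf 0)))) (.nd (.nd (.nd (.lf 117) (.lf 937)) (.nd (.lf 444) (.lf 0))) (.nd (.nd (.lf 270) (.lf 0)) (.nd (.lf 663) (.lf 0))))))

/-- table part -/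
def parT_5 : Tr :=
  .nd (.nd (.nd (.nd (.nd (.nd (.lf 12) (.lf 699)) (.nd (.lf 299) (.lf 0))) (.nd (.nd (.lf 142) (.lf 1015)) (.nd (.lf 491) (.lf 0)))) (.nd (.nd (.nd (.lf 76) (.lf 810)) (.nd (.lf 381) (.lf 0))) (.nd (.nd (.lf 219) (.lf 1377)) (.nd (.lf 600) (.lf 0))))) (.nd (.nd (.nd (.nd (.lf 44) (.lf 748)) (.nd (.lf 333) (.lf 0))) (.nd (.nd (.lf 181) (.lf 1116)) (.nd (.lf 540) (.lf 0)))) (.nd (.nd (.nd (.lf 109) (.lf 911)) (.nd (.lf 429) (.lf 0))) (.nd (.nd (.lf 260) (.lf 0)) (.nd (.lf 647) (.lf 0)))))) (.nd (.nd (.nd (.nd (.nd (.lf 28) (.lf 724)) (.nd (.lf 317) (.lf 0))) (.nd (.nd (.lf 162) (.lf 1066)) (.nd (.lf 513) (.lf 0)))) (.nd (.nd (.nd (.lf 93) (.lf 847)) (.nd (.lf 411) (.lf 0))) (.nd (.nd (.lf 240) (.lf 0)) (.nd (.lf 627) (.lf 0))))) (.nd (.nd (.nd (.nd (.lf 60) (.lf 781)) (.nd (.lf 358) (.lf 0))) (.nd (.nd (.lf 199) (.lf 1184)) (.nd (.lf 566) (.lf 0)))) (.nd (.nd (.nd (.lf 125) (.lf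 960)) (.nd (.lf 457) (.lf 0))) (.nd (.nd (.lf 279) (.lf 0)) (.nd (.lf 676) (.lf 0))))))

/-- table part -/
def parT_6 : Tr :=
  .nd parT_4 parT_5

/-- table part -/
def parT_7 : Tr :=
  .nd parT_3 parT_6

/-- table part -/
def parT_8 : Tr :=
  .nd (.nd (.nd (.nd (.nd (.nd (.lf 2) (.lf 684)) (.nd (.lf 286) (.lf 0))) (.nd (.nd (.lf 131) (.lf 977)) (.nd (.lf 467) (.lf 0)))) (.nd (.nd (.nd (.lf 66) (.lf 794)) (.nd (.lf 366) (.lf 0))) (.nd (.nd (.lf 207) (.lf 1254)) (.nd (.lf 584) (.lf 0))))) (.nd (.nd (.nd (.nd (.lf 34) (.lf 733)) (.nd (.lf 323) (.lf 0))) (.nd (.nd (.lf 168) (.lf 1087)) (.nd (.lf 523) (.lf 0)))) (.nd (.nd (.nd (.lf 99) (.lf 865)) (.nd (.lf 418) (.lf 0))) (.nd (.nd (.lf 247) (.lf 0)) (.nd (.lf 633) (.lf 0)))))) (.nd (.nd (.nd (.nd (.nd (.lf 18) (.lf 710)) (.nd (.lf 307) (.lf 0))) (.nd (.nd (.lf 150) (.lf 1044)) (.nd (.lf 499) (.lf 0)))) (.nd (.nd (.nd (.lf 83) (.lf 821)) (.nd (.lf 390)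 (.lf 0))) (.nd (.nd (.lf 227) (.lf 0)) (.nd (.lf 609) (.lf 0))))) (.nd (.nd (.nd (.nd (.lf 50) (.lf 761)) (.nd (.lf 341) (.lf 0))) (.nd (.nd (.lf 187) (.lf 1133)) (.nd (.lf 549) (.lf 0)))) (.nd (.nd (.nd (.lf 115) (.lf 935)) (.nd (.lf 440) (.lf 0))) (.nd (.nd (.lf 267) (.lf 0)) (.nd (.lf 656) (.lf 0))))))

/-- table part -/
def parT_9 : Tr :=
  .nd (.nd (.nd (.nd (.nd (.nd (.lf 10) (.lf 696)) (.nd (.lf 297) (.lf 0))) (.nd (.nd (.lf 139) (.lf 1002)) (.nd (.lf 487) (.lf 0)))) (.nd (.nd (.nd (.lf 74) (.lf 806)) (.nd (.lf 376) (.lf 0))) (.nd (.nd (.lf 216) (.lf 1306)) (.nd (.lf 597) (.lf 0))))) (.nd (.nd (.nd (.nd (.lf 42) (.lf 745)) (.nd (.lf 331) (.lf 0))) (.nd (.nd (.lf 178) (.lf 1112)) (.nd (.lf 537) (.lf 0)))) (.nd (.nd (.nd (.lf 107) (.lf 895)) (.nd (.lf 426) (.lf 0))) (.nd (.nd (.lf 258) (.lf 0)) (.nd (.lf 645) (.lf 0)))))) (.nd (.nd (.nd (.nd (.nd (.lf 26) (.lf 721)) (.nd (.lf 315) (.lf 0)))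 (.nd (.nd (.lf 158) (.lf 1057)) (.nd (.lf 511) (.lf 0)))) (.nd (.nd (.nd (.lf 91) (.lf 838)) (.nd (.lf 406) (.lf 0))) (.nd (.nd (.lf 238) (.lf 0)) (.nd (.lf 625) (.lf 0))))) (.nd (.nd (.nd (.nd (.lf 58) (.lf 778)) (.nd (.lf 354) (.lf 0))) (.nd (.nd (.lf 197) (.lf 1169)) (.nd (.lf 563) (.lf 0)))) (.nd (.nd (.nd (.lf 123) (.lf 955)) (.nd (.lf 453) (.lf 0))) (.nd (.nd (.lf 277) (.lf 0)) (.nd (.lf 674) (.lf 0))))))

/-- table part -/
def parT_10 : Tr :=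
  .nd parT_8 parT_9

/-- table part -/
def parT_11 : Tr :=
  .nd (.nd (.nd (.nd (.nd (.nd (.lf 6) (.lf 689)) (.nd (.lf 291) (.lf 0))) (.nd (.nd (.lf 135) (.lf 993)) (.nd (.lf 472) (.lf 0)))) (.nd (.nd (.nd (.lf 70) (.lf 801)) (.nd (.lf 371) (.lf 0))) (.nd (.nd (.lf 211) (.lf 1277)) (.nd (.lf 592) (.lf 0))))) (.nd (.nd (.nd (.nd (.lf 38) (.lf 738)) (.nd (.lf 327) (.lf 0))) (.nd (.nd (.lf 174) (.lf 1103)) (.nd (.lf 532) (.lf 0)))) (.nd (.nd (.nd (.lf 103) (.lf 877)) (.nd (.lf 422) (.lf 0))) (.nd (.nd (.lf 252) (.lf 0)) (.nd (.lf 637) (.lf 0)))))) (.nd (.nd (.nd (.nd (.nd (.lf 22) (.lf 716)) (.nd (.lf 311) (.lf 0))) (.nd (.nd (.lf 154) (.lf 1050)) (.nd (.lf 505) (.lf 0)))) (.nd (.nd (.nd (.lf 87) (.lf 829)) (.nd (.lf 400) (.lf 0))) (.nd (.nd (.lf 232) (.lf 0)) (.nd (.lf 618) (.lf 0))))) (.nd (.nd (.nd (.nd (.lf 54) (.lf 769)) (.nd (.lf 349) (.lf 0))) (.nd (.nd (.lf 192) (.lf 1153)) (.nd (.lf 554)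 (.lf 0)))) (.nd (.nd (.nd (.lf 119) (.lf 943)) (.nd (.lf 446) (.lf 0))) (.nd (.nd (.lf 272) (.lf 0)) (.nd (.lf 665) (.lf 0))))))

/-- table part -/
def parT_12 : Tr :=
  .nd (.nd (.nd (.nd (.nd (.nd (.lf 14) (.lf 703)) (.nd (.lf 301) (.lf 0))) (.nd (.nd (.lf 144) (.lf 1025)) (.nd (.lf 494) (.lf 0)))) (.nd (.nd (.nd (.lf 79) (.lf 814)) (.nd (.lf 384) (.lf 0))) (.nd (.nd (.lf 221) (.lf 1387)) (.nd (.lf 603) (.lf 0))))) (.nd (.nd (.nd (.nd (.lf 46) (.lf 751)) (.nd (.lf 336) (.lf 0))) (.nd (.nd (.lf 183) (.lf 1121)) (.nd (.lf 543) (.lf 0)))) (.nd (.nd (.nd (.lf 111) (.lf 913)) (.nd (.lf 431) (.lf 0))) (.nd (.nd (.lf 263) (.lf 0)) (.nd (.lf 649) (.lf 0)))))) (.nd (.nd (.nd (.nd (.nd (.lf 30) (.lf 726)) (.nd (.lf 319) (.lf 0))) (.nd (.nd (.lf 164) (.lf 1074)) (.nd (.lf 516) (.lf 0)))) (.nd (.nd (.nd (.lf 95) (.lf 853)) (.nd (.lf 413) (.lf 0))) (.nd (.nd (.lf 242) (.lf 0)) (.nd (.lf 629) (.lf 0))))) (.nd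 (.nd (.nd (.nd (.lf 62) (.lf 783)) (.nd (.lf 360) (.lf 0))) (.nd (.nd (.lf 201) (.lf 1191)) (.nd (.lf 569) (.lf 0)))) (.nd (.nd (.nd (.lf 127) (.lf 965)) (.nd (.lf 461) (.lf 0))) (.nd (.nd (.lf 281) (.lf 0)) (.nd (.lf 679) (.lf 0))))))

/-- table part -/
def parT_13 : Tr :=
  .nd parT_11 parT_12

/-- table part -/
def parT_14 : Tr :=
  .nd parT_10 parT_13

/-- table part -/
def parT_15 : Tr :=
  .nd parT_7 parT_14

/-- table part -/
def parT_16 : Tr :=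
  .nd (.nd (.nd (.nd (.nd (.nd (.lf 1) (.lf 683)) (.nd (.lf 285) (.lf 0))) (.nd (.nd (.lf 130) (.lf 975)) (.nd (.lf 466) (.lf 0)))) (.nd (.nd (.nd (.lf 65) (.lf 791)) (.nd (.lf 365) (.lf 0))) (.nd (.nd (.lf 206) (.lf 1238)) (.nd (.lf 577) (.lf 0))))) (.nd (.nd (.nd (.nd (.lf 33) (.lf 730)) (.nd (.lf 322) (.lf 0))) (.nd (.nd (.lf 167) (.lf 1086)) (.nd (.lf 522) (.lf 0)))) (.nd (.nd (.nd (.lf 98) (.lf 863)) (.nd (.lf 417) (.lf 0))) (.nd (.nd (.lf 246) (.lf 0)) (.nd (.lf 632) (.lf 0)))))) (.nd (.nd (.nd (.nd (.nd (.lf 17) (.lf 709)) (.nd (.lf 304) (.lf 0))) (.nd (.nd (.lf 149) (.lf 1032)) (.nd (.lf 498) (.lf 0)))) (.nd (.nd (.nd (.lf 82) (.lf 818)) (.nd (.lf 389) (.lf 0))) (.nd (.nd (.lf 226) (.lf 0)) (.nd (.lf 608) (.lf 0))))) (.nd (.nd (.nd (.nd (.lf 49) (.lf 760)) (.nd (.lf 339) (.lf 0))) (.nd (.nd (.lf 186) (.lf 1129)) (.nd (.lf 548) (.lf 0)))) (.nd (.nd (.nd (.lf 114) (.lf 931)) (.nd (.lf 436)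 (.lf 0))) (.nd (.nd (.lf 266) (.lf 0)) (.nd (.lf 654) (.lf 0))))))

/-- table part -/
def parT_17 : Tr :=
  .nd (.nd (.nd (.nd (.nd (.nd (.lf 9) (.lf 694)) (.nd (.lf 295) (.lf 0))) (.nd (.nd (.lf 138) (.lf 998)) (.nd (.lf 484) (.lf 0)))) (.nd (.nd (.nd (.lf 73) (.lf 805)) (.nd (.lf 375) (.lf 0))) (.nd (.nd (.lf 215) (.lf 1296)) (.nd (.lf 596) (.lf 0))))) (.nd (.nd (.nd (.nd (.lf 41) (.lf 741)) (.nd (.lf 330) (.lf 0))) (.nd (.nd (.lf 177) (.lf 1106)) (.nd (.lf 535) (.lf 0)))) (.nd (.nd (.nd (.lf 106) (.lf 882)) (.nd (.lf 425) (.lf 0))) (.nd (.nd (.lf 257) (.lf 0)) (.nd (.lf 644) (.lf 0)))))) (.nd (.nd (.nd (.nd (.nd (.lf 25) (.lf 720)) (.nd (.lf 314) (.lf 0))) (.nd (.nd (.lf 157) (.lf 1055)) (.nd (.lf 509) (.lf 0)))) (.nd (.nd (.nd (.lf 90) (.lf 836)) (.nd (.lf 404) (.lf 0))) (.nd (.nd (.lf 237) (.lf 0)) (.nd (.lf 624) (.lf 0))))) (.nd (.nd (.nd (.nd (.lf 57) (.lf 776)) (.nd (.lf 352) (.lf 0)))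 (.nd (.nd (.lf 196) (.lf 1165)) (.nd (.lf 558) (.lf 0)))) (.nd (.nd (.nd (.lf 122) (.lf 947)) (.nd (.lf 451) (.lf 0))) (.nd (.nd (.lf 275) (.lf 0)) (.nd (.lf 673) (.lf 0))))))

/-- table part -/
def parT_18 : Tr :=
  .nd parT_16 parT_17

/-- table part -/
def parT_19 : Tr :=
  .nd (.nd (.nd (.nd (.nd (.nd (.lf 5) (.lf 688)) (.nd (.lf 290) (.lf 0))) (.nd (.nd (.lf 134) (.lf 988)) (.nd (.lf 471) (.lf 0)))) (.nd (.nd (.nd (.lf 69) (.lf 800)) (.nd (.lf 370) (.lf 0))) (.nd (.nd (.lf 210) (.lf 1271)) (.nd (.lf 590) (.lf 0))))) (.nd (.nd (.nd (.nd (.lf 37) (.lf 736)) (.nd (.lf 326) (.lf 0))) (.nd (.nd (.lf 172) (.lf 1098)) (.nd (.lf 531) (.lf 0)))) (.nd (.nd (.nd (.lf 102) (.lf 873)) (.nd (.lf 421) (.lf 0))) (.nd (.nd (.lf 251) (.lf 0)) (.nd (.lf 636) (.lf 0)))))) (.nd (.nd (.nd (.nd (.nd (.lf 21) (.lf 714)) (.nd (.lf 310) (.lf 0))) (.nd (.nd (.lf 153) (.lf 1048)) (.nd (.lf 503) (.lf 0)))) (.nd (.nd (.nd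 (.lf 86) (.lf 827)) (.nd (.lf 398) (.lf 0))) (.nd (.nd (.lf 231) (.lf 0)) (.nd (.lf 614) (.lf 0))))) (.nd (.nd (.nd (.nd (.lf 53) (.lf 766)) (.nd (.lf 346) (.lf 0))) (.nd (.nd (.lf 191) (.lf 1152)) (.nd (.lf 553) (.lf 0)))) (.nd (.nd (.nd (.lf 118) (.lf 938)) (.nd (.lf 445) (.lf 0))) (.nd (.nd (.lf 271) (.lf 0)) (.nd (.lf 664) (.lf 0))))))

/-- table part -/
def parT_20 : Tr :=
  .nd (.nd (.nd (.nd (.nd (.nd (.lf 13) (.lf 702)) (.nd (.lf 300) (.lf 0))) (.nd (.nd (.lf 143) (.lf 1017)) (.nd (.lf 492) (.lf 0)))) (.nd (.nd (.nd (.lf 78) (.lf 811)) (.nd (.lf 382) (.lf 0))) (.nd (.nd (.lf 220) (.lf 1385)) (.nd (.lf 602) (.lf 0))))) (.nd (.nd (.nd (.nd (.lf 45) (.lf 750)) (.nd (.lf 334) (.lf 0))) (.nd (.nd (.lf 182) (.lf 1118)) (.nd (.lf 541) (.lf 0)))) (.nd (.nd (.nd (.lf 110) (.lf 912)) (.nd (.lf 430) (.lf 0))) (.nd (.nd (.lf 262) (.lf 0)) (.nd (.lf 648) (.lf 0)))))) (.nd (.nd (.nd (.nd (.nd (.lf 29)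 (.lf 725)) (.nd (.lf 318) (.lf 0))) (.nd (.nd (.lf 163) (.lf 1067)) (.nd (.lf 515) (.lf 0)))) (.nd (.nd (.nd (.lf 94) (.lf 851)) (.nd (.lf 412) (.lf 0))) (.nd (.nd (.lf 241) (.lf 0)) (.nd (.lf 628) (.lf 0))))) (.nd (.nd (.nd (.nd (.lf 61) (.lf 782)) (.nd (.lf 359) (.lf 0))) (.nd (.nd (.lf 200) (.lf 1189)) (.nd (.lf 567) (.lf 0)))) (.nd (.nd (.nd (.lf 126) (.lf 963)) (.nd (.lf 459) (.lf 0))) (.nd (.nd (.lf 280) (.lf 0)) (.nd (.lf 678) (.lf 0))))))

/-- table part -/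
def parT_21 : Tr :=
  .nd parT_19 parT_20

/-- table part -/
def parT_22 : Tr :=
  .nd parT_18 parT_21

/-- table part -/
def parT_23 : Tr :=
  .nd (.nd (.nd (.nd (.nd (.nd (.lf 3) (.lf 685)) (.nd (.lf 288) (.lf 0))) (.nd (.nd (.lf 132) (.lf 980)) (.nd (.lf 468) (.lf 0)))) (.nd (.nd (.nd (.lf 67) (.lf 795)) (.nd (.lf 367) (.lf 0))) (.nd (.nd (.lf 208) (.lf 1260)) (.nd (.lf 585) (.lf 0))))) (.nd (.nd (.nd (.nd (.lf 35) (.lf 734)) (.nd (.lf 324) (.lf 0))) (.nd (.nd (.lf 169) (.lf 1095)) (.nd (.lf 525) (.lf 0)))) (.nd (.nd (.nd (.lf 100) (.lf 868)) (.nd (.lf 419) (.lf 0))) (.nd (.nd (.lf 248) (.lf 0)) (.nd (.lf 634) (.lf 0)))))) (.nd (.nd (.nd (.nd (.nd (.lf 19) (.lf 712)) (.nd (.lf 308) (.lf 0))) (.nd (.nd (.lf 151) (.lf 1046)) (.nd (.lf 500) (.lf 0)))) (.nd (.nd (.nd (.lf 84) (.lf 823)) (.nd (.lf 391) (.lf 0))) (.nd (.nd (.lf 228) (.lf 0)) (.nd (.lf 611) (.lf 0))))) (.nd (.nd (.nd (.nd (.lf 51)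 (.lf 762)) (.nd (.lf 342) (.lf 0))) (.nd (.nd (.lf 188) (.lf 1136)) (.nd (.lf 550) (.lf 0)))) (.nd (.nd (.nd (.lf 116) (.lf 936)) (.nd (.lf 442) (.lf 0))) (.nd (.nd (.lf 269) (.lf 0)) (.nd (.lf 660) (.lf 0))))))

/-- table part -/
def parT_24 : Tr :=
  .nd (.nd (.nd (.nd (.nd (.nd (.lf 11) (.lf 697)) (.nd (.lf 298) (.lf 0))) (.nd (.nd (.lf 141) (.lf 1009)) (.nd (.lf 488) (.lf 0)))) (.nd (.nd (.nd (.lf 75) (.lf 807)) (.nd (.lf 380) (.lf 0))) (.nd (.nd (.lf 218) (.lf 1310)) (.nd (.lf 599) (.lf 0))))) (.nd (.nd (.nd (.nd (.lf 43) (.lf 747)) (.nd (.lf 332) (.lf 0))) (.nd (.nd (.lf 179) (.lf 1115)) (.nd (.lf 539) (.lf 0)))) (.nd (.nd (.nd (.lf 108) (.lf 898)) (.nd (.lf 427) (.lf 0))) (.nd (.nd (.lf 259) (.lf 0)) (.nd (.lf 646) (.lf 0)))))) (.nd (.nd (.nd (.nd (.nd (.lf 27) (.lf 723)) (.nd (.lf 316) (.lf 0))) (.nd (.nd (.lf 161) (.lf 1065)) (.nd (.lf 512) (.lf 0)))) (.nd (.nd (.nd (.lf 92) (.lf 844))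 (.nd (.lf 408) (.lf 0))) (.nd (.nd (.lf 239) (.lf 0)) (.nd (.lf 626) (.lf 0))))) (.nd (.nd (.nd (.nd (.lf 59) (.lf 780)) (.nd (.lf 357) (.lf 0))) (.nd (.nd (.lf 198) (.lf 1178)) (.nd (.lf 564) (.lf 0)))) (.nd (.nd (.nd (.lf 124) (.lf 958)) (.nd (.lf 454) (.lf 0))) (.nd (.nd (.lf 278) (.lf 0)) (.nd (.lf 675) (.lf 0))))))

/-- table part -/
def parT_25 : Tr :=
  .nd parT_23 parT_24

/-- table part -/
def parT_26 : Tr :=
  .nd (.nd (.nd (.nd (.nd (.nd (.lf 7) (.lf 692)) (.nd (.lf 292) (.lf 0))) (.nd (.nd (.lf 136) (.lf 996)) (.nd (.lf 475) (.lf 0)))) (.nd (.nd (.nd (.lf 71) (.lf 803)) (.nd (.lf 373) (.lf 0))) (.nd (.nd (.lf 213) (.lf 1279)) (.nd (.lf 594) (.lf 0))))) (.nd (.nd (.nd (.nd (.lf 39) (.lf 739)) (.nd (.lf 328) (.lf 0))) (.nd (.nd (.lf 175) (.lf 1104)) (.nd (.lf 533) (.lf 0)))) (.nd (.nd (.nd (.lf 104) (.lf 879)) (.nd (.lf 423) (.lf 0))) (.nd (.nd (.lf 254) (.lf 0)) (.nd (.lf 640) (.lf 0))))))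 (.nd (.nd (.nd (.nd (.nd (.lf 23) (.lf 717)) (.nd (.lf 312) (.lf 0))) (.nd (.nd (.lf 155) (.lf 1053)) (.nd (.lf 506) (.lf 0)))) (.nd (.nd (.nd (.lf 88) (.lf 833)) (.nd (.lf 401) (.lf 0))) (.nd (.nd (.lf 234) (.lf 0)) (.nd (.lf 619) (.lf 0))))) (.nd (.nd (.nd (.nd (.lf 55) (.lf 773)) (.nd (.lf 350) (.lf 0))) (.nd (.nd (.lf 193) (.lf 1154)) (.nd (.lf 555) (.lf 0)))) (.nd (.nd (.nd (.lf 120) (.lf 944)) (.nd (.lf 448) (.lf 0))) (.nd (.nd (.lf 273) (.lf 0)) (.nd (.lf 666) (.lf 0))))))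

/-- table part -/
def parT_27 : Tr :=
  .nd (.nd (.nd (.nd (.nd (.nd (.lf 15) (.lf 704)) (.nd (.lf 302) (.lf 0))) (.nd (.nd (.lf 145) (.lf 1026)) (.nd (.lf 495) (.lf 0)))) (.nd (.nd (.nd (.lf 80) (.lf 816)) (.nd (.lf 385) (.lf 0))) (.nd (.nd (.lf 222) (.lf 1427)) (.nd (.lf 606) (.lf 0))))) (.nd (.nd (.nd (.nd (.lf 47) (.lf 753)) (.nd (.lf 337) (.lf 0))) (.nd (.nd (.lf 184) (.lf 1124)) (.nd (.lf 544) (.lf 0)))) (.nd (.nd (.nd (.lf 112) (.lf 924)) (.nd (.lf 432) (.lf 0))) (.nd (.nd (.lf 264) (.lf 0)) (.nd (.lf 650) (.lf 0)))))) (.nd (.nd (.nd (.nd (.nd (.lf 31) (.lf 727)) (.nd (.lf 320) (.lf 0))) (.nd (.nd (.lf 165) (.lf 1082)) (.nd (.lf 517) (.lf 0)))) (.nd (.nd (.nd (.lf 96) (.lf 855)) (.nd (.lf 414) (.lf 0))) (.nd (.nd (.lf 244) (.lf 0)) (.nd (.lf 630) (.lf 0))))) (.nd (.nd (.nd (.nd (.lf 63) (.lf 784)) (.nd (.lf 363) (.lf 0))) (.nd (.nd (.lf 203) (.lf 1214)) (.nd (.lf 573) (.lf 0)))) (.nd (.nd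 (.nd (.lf 128) (.lf 966)) (.nd (.lf 462) (.lf 0))) (.nd (.nd (.lf 282) (.lf 0)) (.nd (.lf 681) (.lf 0))))))

/-- table part -/
def parT_28 : Tr :=
  .nd parT_26 parT_27

/-- table part -/
def parT_29 : Tr :=
  .nd parT_25 parT_28

/-- table part -/
def parT_30 : Tr :=
  .nd parT_22 parT_29

/-- table part -/
def parT_31 : Tr :=
  .nd parT_15 parT_30

/-- table -/
def parT : Tr :=
  parT_31

/-- table part -/
def fmT_1 : Tr :=
  .nd (.nd (.nd (.nd (.nd (.nd (.lf 59285549689505892056868344324448208865475722545869373527598748086023432475508736) (.lf 210624583337115121684718970281361274245720700806451256412164063232)) (.nd (.lf 0) (.lf 0))) (.nd (.nd (.lf 0) (.lf 29642774844753051340725840720159091211379715094473827776450461314393171526942720)) (.nd (.lf 497323295695339865355509174081769990065751078600876179602376219385302296244882826592258) (.lf 0)))) (.nd (.nd (.nd (.lf 0) (.lf 0)) (.nd (.lf 0) (.lf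 0))) (.nd (.nd (.lf 0) (.lf 497323266052563253755498367269545346653677002865048674123372817873007173965904615571458)) (.nd (.lf 497323295695339865355509174081769990814039916914299802950658638656634472317175254220802) (.lf 0))))) (.nd (.nd (.nd (.nd (.lf 0) (.lf 497323266052565020602668457932989283667102346885064331798427968999574237959904263405570)) (.nd (.lf 0) (.lf 0))) (.nd (.nd (.lf 0) (.lf 994646472819576818005104677651915062904696326551675418667348759491885492790940573630466)) (.nd (.lf 59285549689505892056880898527918982204702650255413161503815829794835403940823040) (.lf 0)))) (.nd (.nd (.nd (.lf 0) (.lf 994646502462348129063815837025759501347101310823330969140438909408408138135235561783296)) (.nd (.lf 0) (.lf 0))) (.nd (.nd (.lf 0) (.lf 0)) (.nd (.lf 0) (.lf 0)))))) (.nd (.nd (.nd (.nd (.nd (.lf 0) (.lf 59285551456353062147550619566667794207185757833208796964729209112466827090329601)) (.nd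 (.lf 0) (.lf 0))) (.nd (.nd (.lf 0) (.lf 497323295695338098508549707989108963954948276010791879537412950229208803730942934908929)) (.nd (.lf 0) (.lf 0)))) (.nd (.nd (.nd (.lf 1766847064778384329584045789625833429847893504806124241107875760246358016) (.lf 0)) (.nd (.lf 497323266052563253755393054971599687357448029518308464268869994099780464383216622501888) (.lf 0))) (.nd (.nd (.lf 0) (.lf 0)) (.nd (.lf 0) (.lf 0))))) (.nd (.nd (.nd (.nd (.lf 0) (.lf 29642774844752946028446726366069022213422243998841324641978906204517370882424832)) (.nd (.lf 0) (.lf 0))) (.nd (.nd (.lf 0) (.lf 994646472819576818004999365366523607453385066987082339127535161114354761856720253747202)) (.nd (.lf 497323236409790175849617117213425665617542257726644030794565887512770179069942207348736) (.lf 0)))) (.nd (.nd (.nd (.lf 994646502462349895910775303118420527457904158014909653950794272703863048996446762172418) (.lf 994646472819573284310975120876978795322596998264232926852546317867280075877227736072192))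 (.nd (.lf 0) (.lf 0))) (.nd (.nd (.lf 994646532105122973816761865459931663571205765861938769833665371492136726218960409722882) (.lf 0)) (.nd (.lf 59285549689506102681457958541305280198307605430202874046861860714248690892537858) (.lf 0))))))

/-- table part -/
def fmT_2 : Tr :=
  .nd (.nd (.nd (.nd (.nd (.nd (.lf 0) (.lf 497323266052563253755498367263268244918290322101212884700085923303835287712536280956930)) (.nd (.lf 497323295695336331661274305015165164922809390828293671764567652107279136755914658283520) (.lf 0))) (.nd (.nd (.lf 0) (.lf 0)) (.nd (.lf 0) (.lf 0)))) (.nd (.nd (.nd (.lf 0) (.lf 994646532105122973816761865459931664319494604175361063954031234000665530418996763951105)) (.nd (.lf 0) (.lf 0))) (.nd (.nd (.lf 0) (.lf 497323236409788409002552338835373184803717011584643746779531740947234120972062192304129)) (.nd (.lf 0) (.lf 0))))) (.nd (.nd (.nd (.nd (.lf 0) (.lf 0)) (.nd (.lf 0) (.lf 0)))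 (.nd (.nd (.lf 0) (.lf 12554203470773383828419435833030044209113524398624436387842)) (.nd (.lf 29642774844753156653030063480442418027176868799631172404140706308748976460922882) (.lf 0)))) (.nd (.nd (.nd (.lf 0) (.lf 994646472819573284310975120883255896309694818413901223624923436554719150464216718114816)) (.nd (.lf 0) (.lf 0))) (.nd (.nd (.lf 59285549689505997369166289984118582257979176561239932010226019525443255510499329) (.lf 0)) (.nd (.lf 3533694340181364550484439170728021563630196163955326618670135226363019264) (.lf 0)))))) (.nd (.nd (.nd (.nd (.nd (.lf 0) (.lf 497323266052563253755393054965322586370350164767147111979255022504436670121039445884928)) (.nd (.lf 994646502462348129063710524740368045895790118160973485192653191963060753539811887808513) (.lf 0))) (.nd (.nd (.lf 0) (.lf 994646472819576818004894053068577948905444909653020554090850071397048117608805614747649)) (.nd (.lf 0) (.lf 0))))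 (.nd (.nd (.nd (.lf 0) (.lf 497323236409788409002657651127041741990414974213815155816946892962019246136551448510464)) (.nd (.lf 0) (.lf 0))) (.nd (.nd (.lf 0) (.lf 0)) (.nd (.lf 0) (.lf 0))))) (.nd (.nd (.nd (.nd (.lf 0) (.lf 0)) (.nd (.lf 0) (.lf 0))) (.nd (.nd (.lf 0) (.lf 59285549689506102681457958540931135779150891624686580703529717924645989553012736)) (.nd (.lf 0) (.lf 0)))) (.nd (.nd (.nd (.lf 0) (.lf 994646502462348129063710524727813842425016756633303235574154415874769949154611247972352)) (.nd (.lf 29642774844752946028446726365694877816566279379539721023092614663884755336953856) (.lf 0))) (.nd (.nd (.lf 29642776611600221431414393063739918792396129825645771649448452234375393546600448) (.lf 0)) (.nd (.lf 994646502462351662757840081509027213239080420010684894206181234000810969716615163150338) (.lf 0))))))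

/-- table part -/
def fmT_3 : Tr :=
  .nd fmT_1 fmT_2

/-- table part -/
def fmT_4 : Tr :=
  .nd (.nd (.nd (.nd (.nd (.nd (.lf 0) (.lf 0)) (.nd (.lf 994646502462351662757840081496473009394162617025556969768840986132491003909269832597504) (.lf 0))) (.nd (.nd (.lf 0) (.lf 994646472819576818004894053068577948905444909653021883318766628145684390876877699416064)) (.nd (.lf 0) (.lf 0)))) (.nd (.nd (.nd (.lf 0) (.lf 0)) (.nd (.lf 0) (.lf 0))) (.nd (.nd (.lf 59285549689505892056868344324448208865475725204325285869267979629299959492247552) (.lf 59285553223200232238232894809635668387209216743896423592968488050644920572051458)) (.nd (.lf 994646532105122973816761865466208765680736843481741837014547454793513061575048669691906) (.lf 0))))) (.nd (.nd (.nd (.nd (.lf 0) (.lf 3533694234869060327724155843867622919527977573044583826595851227027734530)) (.nd (.lf 0) (.lf 0))) (.nd (.nd (.lf 0) (.lf 29642774844753051340725840719784946747621513550352438176203656315783054824046592))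 (.nd (.lf 497323295695336331661274305027719368019438377800744500612165178993343837764370907004930) (.lf 0)))) (.nd (.nd (.nd (.lf 0) (.lf 497323266052563253755393054971599688105736845530985559858612715082035728056205831045121)) (.nd (.lf 0) (.lf 0))) (.nd (.nd (.lf 497323236409788409002552338835373184055428217872711849720332933342905231811235614294017) (.lf 0)) (.nd (.lf 497323266052561486908433588885215763356176259946531517411480157338176149115593012805632) (.lf 0)))))) (.nd (.nd (.nd (.nd (.nd (.lf 0) (.lf 497323295695339865355509174088047092175282178521424445313722987887923641763981250527234)) (.nd (.lf 59285549689506102681457958541305280198307604100974799033783473545541087114821632) (.lf 0))) (.nd (.nd (.lf 59285549689505892056868344324448208865475725204325206641105465364962365948297216) (.lf 497323266052561486908328276593547205795333945062881898449561858450055888248927206506497)) (.nd (.lf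 994646472819576818004894053068577949279589306508985173392295233953588763646314346971138) (.lf 0)))) (.nd (.nd (.nd (.lf 0) (.lf 497323295695339865355509174081769990814039894613553275192118940358112827515082681352194)) (.nd (.lf 6277102483675541378003282074196670474516531459995853651970) (.lf 0))) (.nd (.nd (.lf 0) (.lf 0)) (.nd (.lf 0) (.lf 0))))) (.nd (.nd (.nd (.nd (.lf 0) (.lf 0)) (.nd (.lf 994646472819573284310975120883255896309694818413901223624764980234412988553374268915712) (.lf 0))) (.nd (.nd (.lf 0) (.lf 497323236409790175849617117213425666365831096040067654142848306779379989222314909630466)) (.nd (.lf 29642776611600221431414393063365774373239416020129557534283546076156105299329025) (.lf 0)))) (.nd (.nd (.nd (.lf 0) (.lf 12554203844917780684384055134712891253196963448913800462338)) (.nd (.lf 994646472819575051157934586975916922794642084762187067811117849632589112913086241570817) (.lf 0)))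 (.nd (.nd (.lf 0) (.lf 0)) (.nd (.lf 994646472819575051158039899261308377871808925170069000290788130839473756735307505467393) (.lf 0))))))

/-- table part -/
def fmT_5 : Tr :=
  .nd (.nd (.nd (.nd (.nd (.nd (.lf 0) (.lf 0)) (.nd (.lf 59285549689506102681457958541305280198307605430202794818694624083146752760217602) (.lf 0))) (.nd (.nd (.lf 0) (.lf 59285553223200021613637003491791499145024686097896049173800380894856451666739200)) (.nd (.lf 497323266052563253755498367263268244918290322101212884700006695136598656329123171926018) (.lf 0)))) (.nd (.nd (.nd (.lf 0) (.lf 3533694340181358273383452072863270402277906548983735997242074443854905346)) (.nd (.lf 0) (.lf 0))) (.nd (.nd (.lf 0) (.lf 29642774844752946028434172162224104455038606471465230677172578051885434186760194)) (.nd (.lf 29642776611600010806831055949366522978641506354083761215877496505275661093437441) (.lf 0))))) (.nd (.nd (.nd (.nd (.lf 0)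 (.lf 0)) (.nd (.lf 0) (.lf 0))) (.nd (.nd (.lf 0) (.lf 994646532105124740663721331558869791417395249215861517777986333225829277231016606433280)) (.nd (.lf 59285553223200126925934949150713583743816206886979650748390270966993873899880450) (.lf 0)))) (.nd (.nd (.nd (.lf 0) (.lf 497323266052563253755393054971599687731592448675019611329092539437663181471253920743426)) (.nd (.lf 497323236409790175849722429505094223552529014067749995347012960629156739649927183859713) (.lf 0))) (.nd (.nd (.lf 0) (.lf 0)) (.nd (.lf 29642774844753051340738394923255720109149183799971016180454461384505848991055872) (.lf 0)))))) (.nd (.nd (.nd (.nd (.nd (.lf 0) (.lf 994646472819576818005104677651915063652985187165842911318258535378340670940189571416064)) (.nd (.lf 1766847064778396883787516562942759611029678594627717772642647502114258944) (.lf 0))) (.nd (.nd (.lf 0) (.lf 994646532105126507510786109943199375089040411291088492321868069690404956711079896940545))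 (.nd (.lf 497323295695338098508339083399494748594454552903519317080612059985732807586974401560576) (.lf 0)))) (.nd (.nd (.nd (.lf 0) (.lf 59285549689505892056874621426931884362252235430882086230509562912691055056912385)) (.nd (.lf 0) (.lf 0))) (.nd (.nd (.lf 0) (.lf 0)) (.nd (.lf 6277102483675541378005940530267468464054236928840329854978) (.lf 0))))) (.nd (.nd (.nd (.nd (.lf 0) (.lf 59285549689506102681451681439195749098387057164491448050192002737627654336282624)) (.nd (.lf 0) (.lf 0))) (.nd (.nd (.lf 0) (.lf 105312304222761405760162470269269688262930270373981932147789791233)) (.nd (.lf 59285551456352956835252673908493998402106170270412152298171978039721561163825152) (.lf 0)))) (.nd (.nd (.nd (.lf 0) (.lf 59285553223200021613643280593152741451233301137320518262437579871240907086888960)) (.nd (.lf 0) (.lf 0))) (.nd (.nd (.lf 29642774844752946028440449264707779974115864555008883434273890574753187051339776)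 (.lf 0)) (.nd (.lf 994646472819576818005104677651915062904696326551676747895265316245244132260407276470274) (.lf 0))))))

/-- table part -/
def fmT_6 : Tr :=
  .nd fmT_4 fmT_5

/-- table part -/
def fmT_7 : Tr :=
  .nd fmT_3 fmT_6

/-- table part -/
def fmT_8 : Tr :=
  .nd (.nd (.nd (.nd (.nd (.nd (.lf 0) (.lf 497323266052563253755393054971599687731592448675018282100938298196761748989006569275393)) (.nd (.lf 0) (.lf 0))) (.nd (.nd (.lf 0) (.lf 29642774844752946028440449264333635554959154737176656673847158394989340405006338)) (.nd (.lf 59285549689506102681457958541305280198307602771746803248858155909049762554314752) (.lf 0)))) (.nd (.nd (.nd (.lf 0) (.lf 497323295695336331661484929611056482392834169254620115187560901196835486320146266456065)) (.nd (.lf 0) (.lf 0))) (.nd (.nd (.lf 497323266052563253755393054965322585622061326453724817859126844474005926249519443345408) (.lf 497323236409786642155487560451043601506216268666125260839484839176224029559422896308224))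 (.nd (.lf 497323236409790175849511804921757108430844339698960360362246992407924897555898542587906) (.lf 0))))) (.nd (.nd (.nd (.nd (.lf 0) (.lf 994646472819576818004999365353969403982611727760155958811663741660076425479954798477313)) (.nd (.lf 1766847275402980220901141669985103047802712187851545146283628481589805057) (.lf 0))) (.nd (.nd (.lf 0) (.lf 12554204219062222141841729953475134875434226171909695864833)) (.nd (.lf 0) (.lf 0)))) (.nd (.nd (.nd (.lf 0) (.lf 994646532105124740663721331546315588694910726001610903823703393503460039923678664720384)) (.nd (.lf 0) (.lf 0))) (.nd (.nd (.lf 497323236409788409002552338829096082694185956265587207357347812274130326983498121871362) (.lf 0)) (.nd (.lf 994646532105122973816867177745323119396661399981752599372376003978321731089771100372993) (.lf 0)))))) (.nd (.nd (.nd (.nd (.nd (.lf 0) (.lf 29642774844752946028434172162224104455038609129921301475171560490320017936613376))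 (.nd (.lf 0) (.lf 0))) (.nd (.nd (.lf 0) (.lf 497323236409790175849617117213425666365831096040068983370764863532738628973256622735362)) (.nd (.lf 0) (.lf 0)))) (.nd (.nd (.nd (.lf 0) (.lf 497323236409786642155382248146820840100456173098092915971087118428877769660894915067906)) (.nd (.lf 0) (.lf 0))) (.nd (.nd (.lf 0) (.lf 0)) (.nd (.lf 29642776611600221431401838860269145453169200786873987888320219988520706406088706) (.lf 0))))) (.nd (.nd (.nd (.nd (.lf 0) (.lf 0)) (.nd (.lf 29642774844753051340738394923629864572907385344092247324366793121475039298846721) (.lf 0))) (.nd (.nd (.lf 29642774844753051340738394923629864528305893617803084484541997936427374590558209) (.lf 994646532105126507510996734520259387727049566582621372991452434706005131971371852627969)) (.nd (.lf 0) (.lf 0)))) (.nd (.nd (.nd (.lf 0) (.lf 994646502462351662757840081496473009020018197868844493480781112203763911407884381978625)) (.nd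 (.lf 0) (.lf 0))) (.nd (.nd (.lf 0) (.lf 0)) (.nd (.lf 0) (.lf 0))))))

/-- table part -/
def fmT_9 : Tr :=
  .nd (.nd (.nd (.nd (.nd (.nd (.lf 0) (.lf 0)) (.nd (.lf 0) (.lf 0))) (.nd (.nd (.lf 105312297945659670373459405688281734590578648304248715903972147201) (.lf 1766847064778396883787516562942759609700450678070964414002896560367599616)) (.nd (.lf 0) (.lf 0)))) (.nd (.nd (.nd (.lf 29642778378447075585215385533038168096115241602338559340693958363494262172024834) (.lf 994646472819576818004999365366523608201673905300507291703892593459351739590796860456962)) (.nd (.lf 0) (.lf 0))) (.nd (.nd (.lf 0) (.lf 29642774844752946028440449264333635510357663010887335377697334681266488575262720)) (.nd (.lf 994646532105126507510996734526536489088291850490488555429069127492919601281959225982978) (.lf 0))))) (.nd (.nd (.nd (.nd (.lf 0) (.lf 497323295695338098508339083399494748594454597505011043370012584293348418320125183131648))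 (.nd (.lf 0) (.lf 0))) (.nd (.nd (.lf 994646472819573284310975120883255897057983656727323517745130842742941792190460636168192) (.lf 59285549689505892056880898528667271043016071220305452353250693796810706145771522)) (.nd (.lf 29642778378447286209786168443192501776931006796525658003521890663610275285958658) (.lf 0)))) (.nd (.nd (.nd (.lf 210624583337114373395836055368670092792031431702530704756006977537) (.lf 1766847064778384329583297500742918515827483896875628402854853415593312258)) (.nd (.lf 0) (.lf 0))) (.nd (.nd (.lf 0) (.lf 0)) (.nd (.lf 0) (.lf 0)))))) (.nd (.nd (.nd (.nd (.nd (.lf 0) (.lf 59285551456353062147550619567416083023198434928798302001228643950172855248879618)) (.nd (.lf 0) (.lf 0))) (.nd (.nd (.lf 0) (.lf 994646502462351662757840081502750111503693716946101247796358856217244534009669061967872)) (.nd (.lf 497323295695338098508549707982831862593706014403667237174348600988474901318397631397889)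 (.lf 0)))) (.nd (.nd (.nd (.lf 497323236409790175849722429498817121817142355604659404454586892073801184966061806583808) (.lf 497323236409788409002657651127041741616270555057106667212874373780910864774871845437440)) (.nd (.lf 0) (.lf 0))) (.nd (.nd (.lf 0) (.lf 0)) (.nd (.lf 3533694340181358273382703784024956981313014258134301133240380616626667520) (.lf 0))))) (.nd (.nd (.nd (.nd (.lf 0) (.lf 994646502462351662757945393794418668316247260418565497457697273966794181056589092356097)) (.nd (.lf 0) (.lf 0))) (.nd (.nd (.lf 29642774844752946028434172162224104432737862602162682548724691680065990802014209) (.lf 497323295695336331661274305015165164922809390828293671764726108432307664868151792762881)) (.nd (.lf 29642776611600116119122724506179076455211733678925392880429046959808573333307394) (.lf 0)))) (.nd (.nd (.nd (.lf 0) (.lf 0)) (.nd (.lf 0) (.lf 0))) (.nd (.nd (.lf 0) (.lf 0)) (.nd (.lf 29642774844753156653017509277345789129407397435678230114801947957282173351886850)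 (.lf 0))))))

/-- table part -/
def fmT_10 : Tr :=
  .nd fmT_8 fmT_9

/-- table part -/
def fmT_11 : Tr :=
  .nd (.nd (.nd (.nd (.nd (.nd (.lf 0) (.lf 59285553223200021613643280593526885848089269744306030007908975859238584855822337)) (.nd (.lf 994646472819576818004894053068577949279589328809731701150993388567694203876379707047936) (.lf 0))) (.nd (.nd (.lf 29642774844752946028434172162972393271051283567054894169987596684737960172584961) (.lf 994646532105126507510786109943199375463184830447798310154174058270206667565305870417920)) (.nd (.lf 0) (.lf 0)))) (.nd (.nd (.nd (.lf 59285549689506102681457958541305280198307604100974719805620959281766443541069825) (.lf 994646472819576818005104677645637961917598484101264581820419297258265851024434545033218)) (.nd (.lf 29642776611600221431408115961630387670174837690631876752493222150835457069416450) (.lf 0))) (.nd (.nd (.lf 497323295695338098508444395691163305032863632617779364164727763972315444682054885703680)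 (.lf 3533694129556781213370439919288822162237861046340775467752014800006152192)) (.nd (.lf 29642778378447075585209108430554492621639476574312382120983370986831608421548034) (.lf 0))))) (.nd (.nd (.nd (.nd (.lf 0) (.lf 994646472819576818004999365366523608201673927601249831778524165172768938153727049596930)) (.nd (.lf 497323236409786642155592872736435056583383131374753721077694818667463219298077717299202) (.lf 0))) (.nd (.nd (.lf 0) (.lf 3533694129556774936269078677004914289738511367280171992135541167270920193)) (.nd (.lf 0) (.lf 0)))) (.nd (.nd (.nd (.lf 497323266052563253755393054965322586370350164767148441207409263740615736120417168916480) (.lf 497323266052565020602457833355929270654948772436821633296696071724478513474753857060865)) (.nd (.lf 0) (.lf 0))) (.nd (.nd (.lf 59285549689505892056874621426931884339951490232351621545303595535763700237467649) (.lf 0)) (.nd (.lf 29642774844753051340732117821520333428385346681319733500950527128232466801754112)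 (.lf 0)))))) (.nd (.nd (.nd (.nd (.nd (.lf 0) (.lf 29642774844753051340732117821894477847542060486835789159799849491023782211485698)) (.nd (.lf 0) (.lf 0))) (.nd (.nd (.lf 0) (.lf 994646502462351662758050706079810123393414078525700902178590172397059119748201448472576)) (.nd (.lf 59285549689505997369172567085479824541887043743677469474845697364214854654623744) (.lf 0)))) (.nd (.nd (.nd (.lf 0) (.lf 497323236409788409002552338835373184803717033885388945309996426162646231428106222043137)) (.nd (.lf 0) (.lf 0))) (.nd (.nd (.lf 1766847275402967666698419185461888798517986138381230915109905329115103233) (.lf 0)) (.nd (.lf 994646472819575051157829274677971263498413044513212591592899842483664284057396844691457) (.lf 0))))) (.nd (.nd (.nd (.nd (.lf 0) (.lf 497323295695336331661274305027719368393582796957454318444233483090325122651635796934658)) (.nd (.lf 497323236409788409002552338835373184429572614728676469022015780401155770028658937298945)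 (.lf 0))) (.nd (.nd (.lf 0) (.lf 1766847275402980220901141669940501557405651100024798738267569895619166210)) (.nd (.lf 497323266052563253755393054977876789092834710282141595236006862521622747875966552375297) (.lf 0)))) (.nd (.nd (.nd (.lf 994646532105122973816867177745323119396661422282496468675082588760681364268665903513601) (.lf 0)) (.nd (.lf 0) (.lf 0))) (.nd (.nd (.lf 0) (.lf 0)) (.nd (.lf 994646472819573284310764496299918782684587865273443915485747765796553798696374064119809) (.lf 0))))))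

/-- table part -/
def fmT_12 : Tr :=
  .nd (.nd (.nd (.nd (.nd (.nd (.lf 0) (.lf 59285553223200126925934949150339439346960239609222134787834747882803256377737218)) (.nd (.lf 0) (.lf 0))) (.nd (.nd (.lf 0) (.lf 994646532105124740663826643837984145881608666330039772786724658287648392773673724936193)) (.nd (.lf 0) (.lf 0)))) (.nd (.nd (.nd (.lf 0) (.lf 994646472819575051157829274677971264246701905127380084243888846532633726825714396692481)) (.nd (.lf 0) (.lf 0))) (.nd (.nd (.lf 0) (.lf 374144419156711147060143317180090819514788376215552)) (.nd (.lf 0) (.lf 0))))) (.nd (.nd (.nd (.nd (.lf 0) (.lf 0)) (.nd (.lf 748288838313422294120365862513251170401431005954048) (.lf 0))) (.nd (.nd (.lf 29642774844753156653017509277345789129407396106450234329881352686992243443105792) (.lf 29642774844753156653017509276971644665649194562328765501467311057280188574334978)) (.nd (.lf 497323266052563253755393054977876789841123548595563889356451953202110548534910794072066)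 (.lf 0)))) (.nd (.nd (.nd (.lf 0) (.lf 994646502462349895910775303118420528206193018629078475829541377181162602559043945889794)) (.nd (.lf 29642774844752946028446726365694877816566278050311804466334533657932418988900354) (.lf 0))) (.nd (.nd (.lf 29642774844752946028434172162224104432737862602162603320552732682762657984413697) (.lf 0)) (.nd (.lf 0) (.lf 0)))))) (.nd (.nd (.nd (.nd (.nd (.lf 0) (.lf 0)) (.nd (.lf 994646502462348129063815837032036603456632433044623104154413034535597219259979816501250) (.lf 0))) (.nd (.nd (.lf 0) (.lf 497323236409788409002657651120764640255028293449979366393739226541194524209217785561089)) (.nd (.lf 29642774844752946028434172162224104432737861272934686763799374043011716237754368) (.lf 0)))) (.nd (.nd (.nd (.lf 0) (.lf 497323236409788409002552338829096082694185933964840679598649657660024885627532838174720)) (.nd (.lf 994646502462349895910880615403811982909215417579504062718445199672238154781065281011712)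 (.lf 0))) (.nd (.nd (.lf 0) (.lf 0)) (.nd (.lf 497323266052563253755498367256991143182903685938864833882212198289937934006793298509825) (.lf 0))))) (.nd (.nd (.nd (.nd (.lf 0) (.lf 59285549689506102681464235642666522459914728743337784154861693184178988827803650)) (.nd (.lf 0) (.lf 0))) (.nd (.nd (.lf 0) (.lf 497323236409786642155487560451043601506216313267616987128806135321325376517930087350272)) (.nd (.lf 29642776611600221431414393064114063233853583512780467310170001254868304300867584) (.lf 0)))) (.nd (.nd (.nd (.lf 0) (.lf 29642776611600010806831055949366522956340759826325063061268113431246990401863682)) (.nd (.lf 59285553223200021613637003491043210351312755530065004607427508704367708286746626) (.lf 0))) (.nd (.nd (.lf 0) (.lf 0)) (.nd (.lf 994646472819576818004999365366523607453385066987084997583447502783586305133247253708800) (.lf 0))))))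

/-- table part -/
def fmT_13 : Tr :=
  .nd fmT_11 fmT_12

/-- table part -/
def fmT_14 : Tr :=
  .nd fmT_10 fmT_13

/-- table part -/
def fmT_15 : Tr :=
  .nd fmT_7 fmT_14

/-- table part -/
def fmT_16 : Tr :=
  .nd (.nd (.nd (.nd (.nd (.nd (.lf 0) (.lf 0)) (.nd (.lf 994646502462351662757945393800695770051633918881654759122206785773513461909432448319490) (.lf 0))) (.nd (.nd (.lf 0) (.lf 29642774844752946028434172162972393271051286225511044196144371021590217757818880)) (.nd (.lf 59285549689505997369160012882009051202660118692589673068465083830344298325344257) (.lf 0)))) (.nd (.nd (.nd (.lf 0) (.lf 0)) (.nd (.lf 29642776611600116119110170302708303071383318230776350190976996880078344038645761) (.lf 0))) (.nd (.nd (.lf 0) (.lf 497323295695339865355614486373438547252448996628559850034695114480702845356137154347008)) (.nd (.lf 0) (.lf 0))))) (.nd (.nd (.nd (.nd (.lf 0) (.lf 497323236409786642155382248159375044319518395239931987468412227152260025744891563737090))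 (.nd (.lf 497323295695339865355403861783824331517810898966067866807151431369474006631925678080000) (.lf 0))) (.nd (.nd (.lf 0) (.lf 497323295695339865355403861783824331143666479809359378202999684025851361214127524544512)) (.nd (.lf 0) (.lf 0)))) (.nd (.nd (.nd (.lf 0) (.lf 1766847275402973943800154572098051141251892028966581320847819881056305154)) (.nd (.lf 1766847275402973943799406283304339210684060984400213171024658432234881026) (.lf 0))) (.nd (.nd (.lf 497323236409786642155487560451043601132071849509415443007337306921450847380384027508736) (.lf 0)) (.nd (.lf 994646472819576818005104677658192164640083029616256406621021111118677591927104015958016) (.lf 0)))))) (.nd (.nd (.nd (.nd (.nd (.lf 0) (.lf 497323236409788409002552338835373184429572637029422996780555478685510315382142557749248)) (.nd (.lf 0) (.lf 0))) (.nd (.nd (.lf 0) (.lf 994646502462348129063921149323705160643330373373053302345350856082588944545180953870338))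 (.nd (.lf 994646502462351662757945393800695770425778315737623366107797759402701348324784102965248) (.lf 0)))) (.nd (.nd (.nd (.lf 0) (.lf 59285549689505997369166289983370293419665751608663495349718508283371585359839232)) (.nd (.lf 0) (.lf 0))) (.nd (.nd (.lf 0) (.lf 0)) (.nd (.lf 994646502462348129063921149317428059282088111765928659982286506837132675931240948301826) (.lf 0))))) (.nd (.nd (.nd (.nd (.lf 0) (.lf 497323236409786642155487560451043601506216268666126590067480624087374566883613531439104)) (.nd (.lf 497323295695339865355614486373438548000737812641239604080508633452495814779445748695041) (.lf 0))) (.nd (.nd (.lf 0) (.lf 994646502462351662757840081496473009394162661627047366830245725528956077881179949236225)) (.nd (.lf 994646502462351662757840081496473009020018242470334890542106623442437088088020502970369) (.lf 0)))) (.nd (.nd (.nd (.lf 0) (.lf 1766847064778396883787516562942759611029678753084042801171041214191894528))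 (.nd (.lf 0) (.lf 0))) (.nd (.nd (.lf 59285553223200021613649557694888128109696391728212944330992935424798872557322240) (.lf 0)) (.nd (.lf 994646472819575051157829274677971263872557463669922409425047374747882199483649997406208) (.lf 0))))))

/-- table part -/
def fmT_17 : Tr :=
  .nd (.nd (.nd (.nd (.nd (.nd (.lf 0) (.lf 59285553223200232238220340605790750584224088819459241801420474247874317631094784)) (.nd (.lf 59285551456353167459836011022867394282763029337566190612675117116004515125919745) (.lf 0))) (.nd (.nd (.lf 0) (.lf 994646472819576818004894053062300847544202670346639781030254622455853421845244094185473)) (.nd (.lf 29642774844752946028440449263959491113501698391585969443303308299566573420544001) (.lf 0)))) (.nd (.nd (.nd (.lf 3533694129556768659166969145904993742802027937068413284696244321333018624) (.lf 1766847275402980220901515814381959011092785795685515564921016986774798338)) (.nd (.lf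 29642774844752946028446726366443166610278209947370844817613834018699533438943233) (.lf 0))) (.nd (.nd (.lf 0) (.lf 994646502462351662757945393794418667942102841261853021169478943717760926081411205562370)) (.nd (.lf 994646502462348129063921149311150957546701408701347672028534927047826312176008985313282) (.lf 0))))) (.nd (.nd (.nd (.nd (.lf 0) (.lf 0)) (.nd (.lf 0) (.lf 0))) (.nd (.nd (.lf 0) (.lf 497323266052563253755393054965322585996205723309690766388567791960586574979747438133249)) (.nd (.lf 497323236409788409002552338822818980958799275501748759478148576026282163361963556470786) (.lf 0)))) (.nd (.nd (.nd (.lf 0) (.lf 59285551456353062147556896669151469681661526848919040767349929465732680139145217)) (.nd (.lf 1766847064778396883786768274149047677803391558491532044110757591664033794) (.lf 0))) (.nd (.nd (.lf 0) (.lf 0)) (.nd (.lf 497323236409788409002552338822818980584654811743549873812829773773737237547985888346113)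 (.lf 0)))))) (.nd (.nd (.nd (.nd (.nd (.lf 0) (.lf 0)) (.nd (.lf 29642776611600116119116447404817834193604609036562328531183590690631683424649217) (.lf 0))) (.nd (.nd (.lf 59285549689505892056868344324448208865475725204325206641110187731445235627065344) (.lf 994646472819575051158039899261308377871808902869323801760085761136518853547957770256386)) (.nd (.lf 0) (.lf 0)))) (.nd (.nd (.nd (.lf 0) (.lf 29642778378447180897494499886005803858903323126093339108421767747734676353056768)) (.nd (.lf 29642778378447286209786168443940790615244430419874098879113529001593410196340737) (.lf 0))) (.nd (.nd (.lf 994646472819573284310869808591587339497141319542927371024672845561022253286046929256448) (.lf 0)) (.nd (.lf 994646472819576818004894053062300847544202625745152042424999909206717951478377312419841) (.lf 0))))) (.nd (.nd (.nd (.nd (.lf 0) (.lf 994646502462351662757945393800695769677489477424199742759436111978299640317687485169666))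 (.nd (.lf 0) (.lf 0))) (.nd (.nd (.lf 0) (.lf 497323266052563253755393054971599687357448007217560607282334510890108281975458437791745)) (.nd (.lf 0) (.lf 0)))) (.nd (.nd (.nd (.lf 0) (.lf 994646472819576818005104677658192164640083029616259065077012680959868132788438860562432)) (.nd (.lf 497323236409786642155592872742712158692914208994556788258576901968839554654165943713794) (.lf 0))) (.nd (.nd (.lf 0) (.lf 0)) (.nd (.lf 497323295695336331661379617306833722109507353457466410030137045358243327075356707389440) (.lf 0))))))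

/-- table part -/
def fmT_18 : Tr :=
  .nd fmT_16 fmT_17

/-- table part -/
def fmT_19 : Tr :=
  .nd (.nd (.nd (.nd (.nd (.nd (.lf 0) (.lf 994646502462351662758050706086087225502945133844757441600694872912371017007941543788545)) (.nd (.lf 0) (.lf 0))) (.nd (.nd (.lf 0) (.lf 497323295695338098508339083412048951691083517575224947397507217173564971046525646929922)) (.nd (.lf 0) (.lf 0)))) (.nd (.nd (.nd (.lf 0) (.lf 994646502462349895910880615416366186754133153662393733107765996781351332273938153603072)) (.nd (.lf 0) (.lf 0))) (.nd (.nd (.lf 29642776611600116119122724506553220874368443496757540412683820141987612185329665) (.lf 59285549689505997369166289983744437883423955811240876519792336723112952994988033)) (.nd (.lf 59285549689505892056868344325196497681488399641458957792260697188067054194786306) (.lf 0))))) (.nd (.nd (.nd (.nd (.lf 0) (.lf 0)) (.nd (.lf 0) (.lf 0))) (.nd (.nd (.lf 0) (.lf 29642776611600221431401838859895000989411001901208589857905160798369135177236482))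 (.nd (.lf 59285553223200232238232894809635668387209216743896502821135724681465383794769921) (.lf 0)))) (.nd (.nd (.nd (.lf 497323295695336331661274305015165164548664993972326394007051691547033685519477571059712) (.lf 29642774844753051340732117821520333472986837078380979784021963673529189796937729)) (.nd (.lf 0) (.lf 0))) (.nd (.nd (.lf 59285549689505892056868344324448208865475723875097210856189592461155305701507074) (.lf 0)) (.nd (.lf 29642774844753051340725840719784946792223002618185688674359219957554192532373505) (.lf 0)))))) (.nd (.nd (.nd (.nd (.nd (.lf 0) (.lf 0)) (.nd (.lf 0) (.lf 0))) (.nd (.nd (.lf 0) (.lf 59285551456352956835265228111964771763633841849258726087333933645768545932410881)) (.nd (.lf 0) (.lf 0)))) (.nd (.nd (.nd (.lf 0) (.lf 29642778378447180897507054089850721594986215454938730703525140996897788353576962)) (.nd (.lf 0) (.lf 0))) (.nd (.nd (.lf 0) (.lf 0)) (.nd (.lf 0) (.lf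 0))))) (.nd (.nd (.nd (.nd (.lf 0) (.lf 0)) (.nd (.lf 0) (.lf 0))) (.nd (.nd (.lf 29642774844752946028434172162224104410437116074403984394101141506307236164534272) (.lf 12554203470773406129164634363653185740109430845591240310786)) (.nd (.lf 497323295695339865355509174088047092175282156220680576011095631272800639405549653327872) (.lf 0)))) (.nd (.nd (.nd (.lf 0) (.lf 994646472819576818004894053068577948531300512797054605561329895757397937225248389726210)) (.nd (.lf 3533694129556768659166969145927294488000558560209949002969455632775643136) (.lf 0))) (.nd (.nd (.lf 994646502462351662757840081502750111129549297789390100736215539051320813662014678237185) (.lf 0)) (.nd (.lf 0) (.lf 0))))))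

/-- table part -/
def fmT_20 : Tr :=
  .nd (.nd (.nd (.nd (.nd (.nd (.lf 0) (.lf 0)) (.nd (.lf 994646532105126507510891422228590830166207229398223897042998652603490321651128330092546) (.lf 0))) (.nd (.nd (.lf 0) (.lf 0)) (.nd (.lf 0) (.lf 0)))) (.nd (.nd (.nd (.lf 0) (.lf 0)) (.nd (.lf 0) (.lf 0))) (.nd (.nd (.lf 497323295695338098508549707995386065690334912173137271899374333578596980361553585897472) (.lf 497323295695339865355509174081769990814039939215043672253365223429549372811805710090241)) (.nd (.lf 994646472819576818004894053074855050640831612717600212816685094437718208658915480043520) (.lf 0))))) (.nd (.nd (.nd (.nd (.lf 0) (.lf 29642774844752946028434172162224104455038606471465230677182022784851173443633152)) (.nd (.lf 0) (.lf 0))) (.nd (.nd (.lf 0) (.lf 994646472819576818005104677651915062904696326551675418667348759501330225756679847280640)) (.nd (.lf 994646472819575051158039899267585479607195583633159591183372655715135472767065395298304)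 (.lf 0)))) (.nd (.nd (.nd (.lf 0) (.lf 497323295695339865355614486379715648987835677392396968685977793979914735428124641591296)) (.nd (.lf 0) (.lf 0))) (.nd (.nd (.lf 6277102109531099920548265711425996669857976621036606586880) (.lf 0)) (.nd (.lf 59285549689506102681451681439569893539844513510082214508903089462744984586289153) (.lf 0)))))) (.nd (.nd (.nd (.nd (.nd (.lf 0) (.lf 0)) (.nd (.lf 994646532105126507510786109930645171618267072064162112006155106561155148728026603192320) (.lf 0))) (.nd (.nd (.lf 0) (.lf 497323295695338098508339083405771849581552439955423209444937831447563330658036097220608)) (.nd (.lf 0) (.lf 0)))) (.nd (.nd (.nd (.lf 0) (.lf 994646532105126507510786109943199375463184852748544837912713756568728313211823339864064)) (.nd (.lf 994646502462351662758050706086087225877089575302213787191619787943763904599064213192705) (.lf 0))) (.nd (.nd (.lf 0) (.lf 0)) (.nd (.lf 3533694234869066604826265374922941974738171761188341057486595680737689601)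 (.lf 0))))) (.nd (.nd (.nd (.nd (.lf 0) (.lf 994646502462349895910880615416366186379988779107172983108789734505460427235409600184322)) (.nd (.lf 0) (.lf 0))) (.nd (.nd (.lf 497323266052563253755393054965322585996205767911182492677730631775937026780197896060930) (.lf 994646532105124740663721331552592690056152987608735546186926199064500103965591457497089)) (.nd (.lf 994646532105122973816867177751600221506192499902298206627731202653919635759093619097600) (.lf 0)))) (.nd (.nd (.nd (.lf 994646472819576818004894053062300847170058206588440895365015048365822760087384993300480) (.lf 497323295695338098508339083412048951316939098418513800337443128170155515317939767083009)) (.nd (.lf 0) (.lf 0))) (.nd (.nd (.lf 0) (.lf 0)) (.nd (.lf 1329227995784915872903807060297121792) (.lf 0))))))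

/-- table part -/
def fmT_21 : Tr :=
  .nd fmT_19 fmT_20

/-- table part -/
def fmT_22 : Tr :=
  .nd fmT_18 fmT_21

/-- table part -/
def fmT_23 : Tr :=
  .nd (.nd (.nd (.nd (.nd (.nd (.lf 0) (.lf 0)) (.nd (.lf 59285553223200021613649557694888128131997138255971721713764832764009561739755520) (.lf 0))) (.nd (.nd (.lf 0) (.lf 59285551456353167459848565225589878783676532094533621156551924213283804686581761)) (.nd (.lf 0) (.lf 0)))) (.nd (.nd (.nd (.lf 0) (.lf 497323266052563253755393054971599688105736823230240361327989573536872722723579994570753)) (.nd (.lf 0) (.lf 0))) (.nd (.nd (.lf 0) (.lf 29642774844753156653030063480816562446333579946691394949469144293715699432423425)) (.nd (.lf 59285553223200232238232894809261523968052505596836280275788397231411607189323778) (.lf 0))))) (.nd (.nd (.nd (.nd (.lf 0) (.lf 497323295695338098508549707995386066064479375931336157564772363993656171639024755146753))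 (.nd (.lf 994646502462348129063710524740368046644078934173653239238308254605102828368013719240704) (.lf 0))) (.nd (.nd (.lf 0) (.lf 497323295695338098508549707995386066064479375931337486792847377072043339502203569176577)) (.nd (.lf 0) (.lf 0)))) (.nd (.nd (.nd (.lf 0) (.lf 497323295695339865355509174088047092549426575377391723071318176615405723820881526915073)) (.nd (.lf 0) (.lf 0))) (.nd (.nd (.lf 0) (.lf 0)) (.nd (.lf 0) (.lf 0)))))) (.nd (.nd (.nd (.nd (.nd (.lf 0) (.lf 497323295695339865355403861796378534988584260493739445653566764206401084566673328963586)) (.nd (.lf 0) (.lf 0))) (.nd (.nd (.lf 59285551456353167459848565226338167621989954388653828562730702122044309297430530) (.lf 29642774844753156653023786379081175765569744157268266511220278568528748600098817)) (.nd (.lf 0) (.lf 0)))) (.nd (.nd (.nd (.lf 0) (.lf 3533694340181358273383077928466414436329377187264421375590647548728049666)) (.nd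 (.lf 0) (.lf 0))) (.nd (.nd (.lf 0) (.lf 0)) (.nd (.lf 29642776611600116119122724506179076477512477548227861780728586165894607162834946) (.lf 0))))) (.nd (.nd (.nd (.nd (.lf 0) (.lf 29642778378447180897494499886379948255759287745395021955480018285670624699351042)) (.nd (.lf 0) (.lf 0))) (.nd (.nd (.lf 0) (.lf 994646472819575051157934586969639820685110984841640131327766866041118303873753522634754)) (.nd (.lf 59285551456352956835265228111216482947621167412124974936188146555629597009903617) (.lf 0)))) (.nd (.nd (.nd (.lf 497323236409788409002657651114487537771352752071978742775692582242341794970008144576512) (.lf 0)) (.nd (.lf 497323236409788409002552338822818980584654811743548544584754760690627702920462402060289) (.lf 0))) (.nd (.nd (.lf 994646472819576818005104677651915063652985142564355172712924593976135669482943529615362) (.lf 0)) (.nd (.lf 0) (.lf 0))))))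

/-- table part -/
def fmT_24 : Tr :=
  .nd (.nd (.nd (.nd (.nd (.nd (.lf 0) (.lf 0)) (.nd (.lf 0) (.lf 0))) (.nd (.nd (.lf 0) (.lf 994646502462349895910775303112143425722517477251073864527428149958009798112451017834498)) (.nd (.lf 497323236409788409002552338829096083068330375422297025189416116371111611589288035090433) (.lf 0)))) (.nd (.nd (.nd (.lf 0) (.lf 497323295695338098508549707995386066438623795088049963080907250991325699319324756410368)) (.nd (.lf 497323295695338098508339083412048952065227914431190895927185849138243680105269976629248) (.lf 0))) (.nd (.nd (.lf 0) (.lf 59285549689505892056880898528293126623859361402473146364670892085393530252427264)) (.nd (.lf 994646532105126507510891422228590830166207251698969095573542565981416696726240880492545) (.lf 0))))) (.nd (.nd (.nd (.nd (.lf 0) (.lf 994646502462351662757840081496473009394162617025556969768840986132491003909269832597504)) (.nd (.lf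 29642776611600116119110170303082447490540029377836414279985128702008324620550145) (.lf 0))) (.nd (.nd (.lf 0) (.lf 497323236409788409002657651120764639880883874293268219333595909370548437378693689507841)) (.nd (.lf 59285549689505892056874621426183595523938814465989953837404449805873809568301057) (.lf 0)))) (.nd (.nd (.nd (.lf 0) (.lf 0)) (.nd (.lf 0) (.lf 0))) (.nd (.nd (.lf 210624589614216857071399734115821469536830363550166668459525537794) (.lf 0)) (.nd (.lf 59285553223200021613649557694513983712840425779683582611668869040124763146551297) (.lf 0)))))) (.nd (.nd (.nd (.nd (.nd (.lf 0) (.lf 29642776611600221431408115962378676508488257326296013360687184720609986866053120)) (.nd (.lf 0) (.lf 0))) (.nd (.nd (.lf 0) (.lf 994646502462348129063815837025759501347101333124078826127053620775872217834767675031553)) (.nd (.lf 994646502462348129063710524740368045895790073559485746587319250551411018835351562092544)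 (.lf 0)))) (.nd (.nd (.nd (.lf 0) (.lf 497323236409788409002447026543704626868730255243536452998771970264917600360542649712640)) (.nd (.lf 0) (.lf 0))) (.nd (.nd (.lf 994646532105124740663721331558869791417395249215860188549832091975483111220080011116546) (.lf 0)) (.nd (.lf 994646502462351662757840081496473009394162617025554311313007872635218457936075650236418) (.lf 0))))) (.nd (.nd (.nd (.nd (.lf 0) (.lf 994646502462349895910880615416366186379988779107172983108789734514905159919673947455488)) (.nd (.lf 0) (.lf 0))) (.nd (.nd (.lf 0) (.lf 994646502462349895910775303118420527832048554870875602480314448343513229661478980681729)) (.nd (.lf 497323266052565020602457833349652168919562091672988502329638431465150494601072431071232) (.lf 0)))) (.nd (.nd (.nd (.lf 0) (.lf 497323295695338098508339083405771849581552417654678010914156233582094162570142864637954)) (.nd (.lf 994646502462349895910880615403811983283359792134722154261271435781909990283071952257026)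 (.lf 0))) (.nd (.nd (.lf 3533694129556774936268330388166600870102846992987485764406270987180441600) (.lf 0)) (.nd (.lf 6277101735386680763837118651203451331975259814474301833218) (.lf 0))))))

/-- table part -/
def fmT_25 : Tr :=
  .nd fmT_23 fmT_24

/-- table part -/
def fmT_26 : Tr :=
  .nd (.nd (.nd (.nd (.nd (.nd (.lf 0) (.lf 994646532105124740663826643837984145133319783415128410833266753943862109557767075266562)) (.nd (.lf 29642774844752946028440449264707779951815120685706097621324294310472354149433344) (.lf 0))) (.nd (.nd (.lf 0) (.lf 994646502462351662757840081496473009394162639326300839071468342752336372750571075010560)) (.nd (.lf 0) (.lf 0)))) (.nd (.nd (.nd (.lf 0) (.lf 497323266052565020602457833349652169667850929986409467221929280895292130374979967516673)) (.nd (.lf 0) (.lf 0))) (.nd (.nd (.lf 0) (.lf 497323266052561486908538901164330117446245235603256085285522821697335710378292917829634))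 (.nd (.lf 497323236409788409002447026537427525507488038237903536925028917174007410826424212258818) (.lf 0))))) (.nd (.nd (.nd (.nd (.lf 0) (.lf 497323266052561486908433588878938661994934042940895942881587078090491623573641903472640)) (.nd (.lf 0) (.lf 0))) (.nd (.nd (.lf 0) (.lf 497323295695338098508444395697440407516539196296529173997464132731186521214059366318081)) (.nd (.lf 994646502462351662757945393794418668690391657274530116759142436532779560059837115006977) (.lf 0)))) (.nd (.nd (.nd (.lf 0) (.lf 0)) (.nd (.lf 0) (.lf 0))) (.nd (.nd (.lf 0) (.lf 0)) (.nd (.lf 497323236409786642155592872730157954473851986852717716761172565087665400433970402820097) (.lf 0)))))) (.nd (.nd (.nd (.nd (.nd (.lf 0) (.lf 994646472819576818004894053074855051014975987272820962815582128541650116112636255928321)) (.nd (.lf 0) (.lf 0))) (.nd (.nd (.lf 0) (.lf 29642778378447286209792445545676177296008266209297148089199880462161292474449920))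 (.nd (.lf 0) (.lf 0)))) (.nd (.nd (.nd (.lf 0) (.lf 59285549689505892056868344324822353240030943295868270561712124727287317455175682)) (.nd (.lf 0) (.lf 0))) (.nd (.nd (.lf 0) (.lf 0)) (.nd (.lf 994646532105126507510996734526536489462436269647202360945124786332797231107535345287170) (.lf 0))))) (.nd (.nd (.nd (.nd (.lf 0) (.lf 29642778378447286209798722647037419557615390851660212438440614364573837777960962)) (.nd (.lf 497323295695338098508339083399494748220310156047554697779166897424469795066596007346178) (.lf 0))) (.nd (.nd (.lf 0) (.lf 994646472819573284310975120889532998419225940635193358638818333524116333734237107650560)) (.nd (.lf 994646472819576818005104677658192165388371845628934831438759617016805760251578451755008) (.lf 0)))) (.nd (.nd (.nd (.lf 0) (.lf 994646502462348129063710524734090944908692253409814791359109018361977031510823809318912)) (.nd (.lf 0) (.lf 0))) (.nd (.nd (.lf 0) (.lf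 0)) (.nd (.lf 497323295695338098508339083399494747846165759191587420021571708701710080055515346370562) (.lf 0))))))

/-- table part -/
def fmT_27 : Tr :=
  .nd (.nd (.nd (.nd (.nd (.nd (.lf 0) (.lf 0)) (.nd (.lf 59285549689506102681451681439195749098387057164491527278354517001683772886745089) (.lf 0))) (.nd (.nd (.lf 0) (.lf 0)) (.nd (.lf 994646532105126507510996734526536489462436247346455833186664316210956949810170308853760) (.lf 0)))) (.nd (.nd (.nd (.lf 0) (.lf 497323266052565020602457833355929271029093146992043712523668118906797589636078377107457)) (.nd (.lf 29642778378447075585202831329567394734587571352720139792777626556975344336764929) (.lf 0))) (.nd (.nd (.lf 0) (.lf 29642774844752946028440449264707779974115865884236799991027249214222653787734016)) (.nd (.lf 59285551456352956835252673908493998402106170270412231526334492304059154674221056) (.lf 0))))) (.nd (.nd (.nd (.nd (.lf 0) (.lf 0))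 (.nd (.lf 0) (.lf 0))) (.nd (.nd (.lf 0) (.lf 994646532105126507510891422222313729179109364647067861665287592504401512359679055888385)) (.nd (.lf 497323236409786642155382248153097942584131692175353657970652217199421836086649773096961) (.lf 0)))) (.nd (.nd (.nd (.lf 0) (.lf 29642776611600010806824778847631136275576925366130009636097634874204693410611200)) (.nd (.lf 0) (.lf 0))) (.nd (.nd (.lf 59285549689505892056880898528293126601558616203942681679455479974937486222688256) (.lf 0)) (.nd (.lf 59285549689506102681451681439569893517543766982323595582442053553886773479735298) (.lf 0)))))) (.nd (.nd (.nd (.nd (.nd (.lf 0) (.lf 0)) (.nd (.lf 59285551456352956835252673908493998424406915468942775439707696312369922669805568) (.lf 0))) (.nd (.nd (.lf 0) (.lf 497323236409788409002447026537427525507488038237903536925108145331799308681148127772672)) (.nd (.lf 497323266052563253755603679548659700743746023123262309830665980387730377562692215898112)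 (.lf 0)))) (.nd (.nd (.nd (.lf 29642774844752946028434172162224104410437116074403984394101141506025761187823616) (.lf 0)) (.nd (.lf 0) (.lf 0))) (.nd (.nd (.lf 0) (.lf 0)) (.nd (.lf 0) (.lf 0))))) (.nd (.nd (.nd (.nd (.lf 0) (.lf 497323266052561486908433588872661559511258501562892660807390407630142191843730012504065)) (.nd (.lf 497323236409786642155382248146820840100456173098092915971087118438322503189584158916610) (.lf 0))) (.nd (.nd (.lf 0) (.lf 994646502462351662757840081509027212490791603998007798616517741190514702502533909184513)) (.nd (.lf 1766847064778384329583297500742918515827483896875618958121606201292619776) (.lf 0)))) (.nd (.nd (.nd (.lf 0) (.lf 994646472819575051157934586975916922420497687906222448509751915238562730931696093364225)) (.nd (.lf 0) (.lf 0))) (.nd (.nd (.lf 497323295695338098508549707982831862593706014403667237174348600988474901881347584819201) (.lf 0)) (.nd (.lf 29642774844753156653017509276597500291093976470785860037204569690124852689633281)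 (.lf 0))))))

/-- table part -/
def fmT_28 : Tr :=
  .nd fmT_26 fmT_27

/-- table part -/
def fmT_29 : Tr :=
  .nd fmT_25 fmT_28

/-- table part -/
def fmT_30 : Tr :=
  .nd fmT_22 fmT_29

/-- table part -/
def fmT_31 : Tr :=
  .nd fmT_15 fmT_30

/-- table part -/
def fmT_32 : Tr :=
  .nd (.nd (.nd (.nd (.nd (.nd (.lf 0) (.lf 0)) (.nd (.lf 0) (.lf 0))) (.nd (.nd (.lf 0) (.lf 497323266052563253755393054965322585996205723309690766388567791960586574979747438133249)) (.nd (.lf 0) (.lf 0)))) (.nd (.nd (.nd (.lf 0) (.lf 0)) (.nd (.lf 994646532105126507510786109930645171618267072064163441234150891467583319569347559555072) (.lf 0))) (.nd (.nd (.lf 0) (.lf 29642774844753051340738394923255720153750674197032183235358661298982108780298240)) (.nd (.lf 29642776611600010806824778847631136253276181496827223823143316244003940816912384) (.lf 0))))) (.nd (.nd (.nd (.nd (.lf 0) (.lf 29642776611600221431414393063365774395540163877116330701980761051576644132667393))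 (.nd (.lf 0) (.lf 0))) (.nd (.nd (.lf 0) (.lf 994646532105126507510786109943199375089040411291088492321947297857641586968593166237696)) (.nd (.lf 0) (.lf 0)))) (.nd (.nd (.nd (.lf 0) (.lf 59285549689505997369172567085479824519586301203602996359462031061935881105440768)) (.nd (.lf 994646502462351662758050706092364327238331814608595889480052565489970074943107861839873) (.lf 0))) (.nd (.nd (.lf 0) (.lf 0)) (.nd (.lf 497323295695338098508549707982831862219561595246956090114363740133412610760271303016449) (.lf 0)))))) (.nd (.nd (.nd (.nd (.nd (.lf 0) (.lf 0)) (.nd (.lf 59285549689505997369160012882009051158058629624756501798476756819393623822958594) (.lf 0))) (.nd (.nd (.lf 0) (.lf 3533694340181351996281342541741049110142892574858608808160949699600187392)) (.nd (.lf 0) (.lf 0)))) (.nd (.nd (.nd (.lf 0) (.lf 29642778378447180897494499886379948255759289074622859284061417927836758634921985)) (.nd (.lf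 0) (.lf 0))) (.nd (.nd (.lf 0) (.lf 0)) (.nd (.lf 497323295695338098508549707989108964329092695167503026597556267399854890842941957341186) (.lf 0))))) (.nd (.nd (.nd (.nd (.lf 0) (.lf 0)) (.nd (.lf 0) (.lf 0))) (.nd (.nd (.lf 994646472819575051157829274677971263498413044513212591592979070646178548113515411931137) (.lf 0)) (.nd (.lf 0) (.lf 0)))) (.nd (.nd (.nd (.lf 0) (.lf 497323236409790175849617117207148564256300018420267245417957793314471828526166859317248)) (.nd (.lf 497323266052561486908433588872661559885402898418859938564985596352901906854810673479680) (.lf 0))) (.nd (.nd (.lf 497323236409786642155382248146820840474600592254804063031388891929274751649475693903873) (.lf 0)) (.nd (.lf 0) (.lf 0))))))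

/-- table part -/
def fmT_33 : Tr :=
  .nd (.nd (.nd (.nd (.nd (.nd (.lf 0) (.lf 29642776611600010806818501745521605175656379758874575209254800339277857689698306)) (.nd (.lf 0) (.lf 0))) (.nd (.nd (.lf 0) (.lf 497323295695336331661274305021442266284051697036906052732965942745495674424311335092226)) (.nd (.lf 12554203470773406129161975907740844066155520804719618424834) (.lf 0)))) (.nd (.nd (.nd (.lf 0) (.lf 0)) (.nd (.lf 497323236409788409002447026531150423397956938317355271213682148671386065025850828390401) (.lf 0))) (.nd (.nd (.lf 0) (.lf 748288838313423623348440875601083071793299097387008)) (.nd (.lf 0) (.lf 0))))) (.nd (.nd (.nd (.nd (.lf 0) (.lf 0)) (.nd (.lf 497323295695336331661379617313110823470749570463099326103959326616390146866988363808769) (.lf 0))) (.nd (.nd (.lf 0) (.lf 79228162514264337593543950336)) (.nd (.lf 59285549689505892056868344324448208865475725204325206641105465364962365965074434)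 (.lf 0)))) (.nd (.nd (.nd (.lf 0) (.lf 59285549689505892056880898528667271043016073878761443923077717238223432037957632)) (.nd (.lf 0) (.lf 0))) (.nd (.nd (.lf 994646472819576818004894053074855050266687193560889065756541777257627388581177183961088) (.lf 0)) (.nd (.lf 0) (.lf 0)))))) (.nd (.nd (.nd (.nd (.nd (.lf 0) (.lf 497323236409786642155382248146820840474600614555549261561853577139964495904125088694273)) (.nd (.lf 994646502462348129063710524740368045895790095860230945118021620249643555821306612023297) (.lf 0))) (.nd (.nd (.lf 994646532105126507510786109930645171618267049763415584247456951942327342015091564347393) (.lf 497323236409788409002552338835373184429572592427929941263396853940119860607497877323778)) (.nd (.lf 0) (.lf 0)))) (.nd (.nd (.nd (.lf 0) (.lf 497323266052561486908538901176884320168729781118249239314199648640856986189960851750914)) (.nd (.lf 0) (.lf 0))) (.nd (.nd (.lf 497323266052563253755393054977876789466979129438852742296308636022019729301597377789954)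 (.lf 0)) (.nd (.lf 0) (.lf 0))))) (.nd (.nd (.nd (.nd (.lf 0) (.lf 29642774844753051340732117821894477892143550883897114671033800300939573744107522)) (.nd (.lf 0) (.lf 0))) (.nd (.nd (.lf 59285549689505892056868344324448208865475725204325365097435216260120422714966018) (.lf 994646502462351662758050706092364327612476256066052235070739796029097803601530274709506)) (.nd (.lf 59285549689505892056880898528667271043016073878761443923087161971189171328385024) (.lf 0)))) (.nd (.nd (.nd (.lf 0) (.lf 29642776611600116119122724506553220874368443496757381956363513979795294776197121)) (.nd (.lf 0) (.lf 0))) (.nd (.nd (.lf 0) (.lf 0)) (.nd (.lf 0) (.lf 0))))))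

/-- table part -/
def fmT_34 : Tr :=
  .nd fmT_32 fmT_33

/-- table part -/
def fmT_35 : Tr :=
  .nd (.nd (.nd (.nd (.nd (.nd (.lf 0) (.lf 497323295695336331661379617319387925206136251226935115527325449348076297739425252638720)) (.nd (.lf 12554203470773361527671578846415332832204710888928069025792) (.lf 0))) (.nd (.nd (.lf 0) (.lf 497323266052561486908328276580993002324560561234466450300439940835491543618154448027650)) (.nd (.lf 59285549689505892056874621426557739965396270811580641067953022267497971238043650) (.lf 0)))) (.nd (.nd (.nd (.lf 0) (.lf 497323236409790175849617117213425665617542235425900161491859302725688179689652752482305)) (.nd (.lf 0) (.lf 0))) (.nd (.nd (.lf 29642774844752946028434172162224104432737863931390678333640564583591576088870912) (.lf 994646472819576818005104677658192165014227426472225013606612084757310210463770014121985)) (.nd (.lf 994646472819575051157829274690525467717475288955798190848843877653915350395420678291456)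 (.lf 0))))) (.nd (.nd (.nd (.nd (.lf 0) (.lf 0)) (.nd (.lf 0) (.lf 0))) (.nd (.nd (.lf 0) (.lf 497323266052563253755498367256991143557048105095575980942355515465306387038712012734464)) (.nd (.lf 210624595891317844169219883786776697826290720220784813450467475458) (.lf 0)))) (.nd (.nd (.nd (.lf 0) (.lf 994646532105126507510891422228590830914496045410902321860578702171867594536070988955648)) (.nd (.lf 0) (.lf 0))) (.nd (.nd (.lf 0) (.lf 0)) (.nd (.lf 994646472819575051157829274690525467717475244354306464559681037829120165347755936448512) (.lf 0)))))) (.nd (.nd (.nd (.nd (.nd (.lf 0) (.lf 0)) (.nd (.lf 0) (.lf 0))) (.nd (.nd (.lf 0) (.lf 994646472819576818004894053068577949279589306508987831848207575622820306359891427065856)) (.nd (.lf 994646502462348129063815837019482400360003512974407870898764160405034500522642757386240) (.lf 0)))) (.nd (.nd (.nd (.lf 0) (.lf 1766847170090682275242593729805468239489916804607213734199150501540397056))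 (.nd (.lf 0) (.lf 0))) (.nd (.nd (.lf 0) (.lf 0)) (.nd (.lf 0) (.lf 0))))) (.nd (.nd (.nd (.nd (.lf 0) (.lf 0)) (.nd (.lf 29642776611600221431408115962004532133933039234753107896405553887241697457340418) (.lf 0))) (.nd (.nd (.lf 6277101735386680763835789423207666416102355444464034512896) (.lf 0)) (.nd (.lf 0) (.lf 0)))) (.nd (.nd (.nd (.lf 59285553223200126925928672048229908247039694001966779589149705245168194602139649) (.lf 497323236409788409002657651120764640255028248848488969332572171636994609732957945987073)) (.nd (.lf 0) (.lf 0))) (.nd (.nd (.lf 994646472819575051158039899267585480355484399645836686773115376687946004318740226768897) (.lf 0)) (.nd (.lf 374144441457456345590766458715809092163149898973184) (.lf 0))))))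

/-- table part -/
def fmT_36 : Tr :=
  .nd (.nd (.nd (.nd (.nd (.nd (.lf 0) (.lf 3533694340181358273382703784047257727840773035517073030578746880878968832)) (.nd (.lf 0) (.lf 0))) (.nd (.nd (.lf 0) (.lf 29642774844752946028434172162598248851894575078450900878973724934478218735386626)) (.nd (.lf 29642774844752946028446726365694877816566280708767796036166279465546539516035072) (.lf 0)))) (.nd (.nd (.nd (.lf 0) (.lf 29642774844753156653023786378332886927256319204691829850717489693221423121694722)) (.nd (.lf 0) (.lf 0))) (.nd (.nd (.lf 994646532105124740663721331546315588320766329145646284522258230942197027684775230439426) (.lf 994646502462351662757840081509027213239080420010682235750189664173787528022414327808002)) (.nd (.lf 105312297945659670373437104944412431883993856499883134219865554944) (.lf 0))))) (.nd (.nd (.nd (.nd (.lf 0) (.lf 994646502462349895910880615403811982909215417579501404262453629840492347166944753876993))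 (.nd (.lf 497323236409788409002657651120764639880883874293270877789666707369530876094752449626112) (.lf 0))) (.nd (.nd (.lf 59285553223200126925941226251700681608567365580813115693824118058202398805983234) (.lf 3533694129556768659167343290368751944346149326668669534427538702366408704)) (.nd (.lf 497323236409790175849511804928034210540375461920255153832212687366859786294763408326656) (.lf 0)))) (.nd (.nd (.nd (.lf 497323266052563253755603679548659700743746000822514452844051269024988663783079811219456) (.lf 497323295695339865355403861783824331891955318122781672323207090223518736187585676181506)) (.nd (.lf 0) (.lf 0))) (.nd (.nd (.lf 994646502462351662757840081496473009394162639326300839071468342757058739233440703447040) (.lf 0)) (.nd (.lf 210624583337114373395836055367340864796246515829626897695709855744) (.lf 0)))))) (.nd (.nd (.nd (.nd (.nd (.lf 0) (.lf 994646502462351662758050706092364327612476278366797433601442165736775073271749621579777))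 (.nd (.lf 0) (.lf 0))) (.nd (.nd (.lf 0) (.lf 59285553223200021613637003491417354770469465347897231367854240884694504903278594)) (.nd (.lf 497323295695336331661379617306833722483651772614176227862363805775530773873464113627138) (.lf 0)))) (.nd (.nd (.nd (.lf 0) (.lf 994646502462351662757945393794418668690391634973786247456515079912934190937060912660482)) (.nd (.lf 0) (.lf 0))) (.nd (.nd (.lf 994646472819576818004894053062300846795913787431728419076796718112067138347862451027968) (.lf 0)) (.nd (.lf 29642776611600116119110170302708303115984808627837517245885919161037473540210688) (.lf 0))))) (.nd (.nd (.nd (.nd (.lf 0) (.lf 994646532105124740663721331546315587946621909988933808234119128841510937598581951954944)) (.nd (.lf 0) (.lf 0))) (.nd (.nd (.lf 994646472819576818004894053062300847544202670346639781030333850613645319699967992922113) (.lf 994646532105126507510891422222313728430820548634388107619711758029596068633415339999232))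 (.nd (.lf 994646472819573284310764496299918781936298982358533882760127190034167157083651346268161) (.lf 0)))) (.nd (.nd (.nd (.lf 0) (.lf 44601493055517237852912627086158057839788033)) (.nd (.lf 0) (.lf 0))) (.nd (.nd (.lf 0) (.lf 0)) (.nd (.lf 0) (.lf 0))))))

/-- table part -/
def fmT_37 : Tr :=
  .nd fmT_35 fmT_36

/-- table part -/
def fmT_38 : Tr :=
  .nd fmT_34 fmT_37

/-- table part -/
def fmT_39 : Tr :=
  .nd (.nd (.nd (.nd (.nd (.nd (.lf 0) (.lf 994646502462351662757945393788141566955004954209950458033386641654623733628795736817665)) (.nd (.lf 0) (.lf 0))) (.nd (.nd (.lf 994646472819576818004894053062300847170058206588438236909023478524632218944575171985408) (.lf 994646532105126507510786109943199375089040388990343293791403384479715212456430502150144)) (.nd (.lf 0) (.lf 0)))) (.nd (.nd (.nd (.lf 0) (.lf 497323266052563253755393054977876789092834665680653856630910605602238172104206583857154))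 (.nd (.lf 0) (.lf 0))) (.nd (.nd (.lf 0) (.lf 994646472819576818004894053068577949279589306508986502620291018874184033373294335885313)) (.nd (.lf 59285553223200232238232894809261523923451013870547038207801087782307823897018368) (.lf 0))))) (.nd (.nd (.nd (.nd (.lf 0) (.lf 994646502462349895910880615410089085392890914356015618503320573982763873632550356254721)) (.nd (.lf 497323295695339865355403861790101433627341976585870933987716602016070917591820146835456) (.lf 0))) (.nd (.nd (.lf 0) (.lf 59285549689505892056874621426931884339951490232351542317131636537897417432891392)) (.nd (.lf 994646502462348129063815837019482399611714630059497838173222812814606857057677804044290) (.lf 0)))) (.nd (.nd (.nd (.lf 0) (.lf 497323236409788409002447026531150424146245732029287168272801728108478323929164137103360)) (.nd (.lf 0) (.lf 0))) (.nd (.nd (.lf 0) (.lf 0)) (.nd (.lf 0) (.lf 0)))))) (.nd (.nd (.nd (.nd (.nd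 (.lf 0) (.lf 994646502462351662757945393788141566206716160498018560974425518542560003682144492716033)) (.nd (.lf 0) (.lf 0))) (.nd (.nd (.lf 0) (.lf 29642774844752946028446726365694877771964790311706470524937051022113617662181378)) (.nd (.lf 0) (.lf 0)))) (.nd (.nd (.nd (.lf 0) (.lf 0)) (.nd (.lf 3533694129556768659166969145927294490659014710236115222038147729778016256) (.lf 0))) (.nd (.nd (.lf 0) (.lf 0)) (.nd (.lf 29642776611600116119116447404817834171303862508803630376578929983085882361511938) (.lf 0))))) (.nd (.nd (.nd (.nd (.lf 0) (.lf 497323266052561486908538901164330117446245257904001283816066735075262084890455581917185)) (.nd (.lf 0) (.lf 0))) (.nd (.nd (.lf 0) (.lf 994646532105126507510996734520259387727049588883363913066084006405255230241268192772098)) (.nd (.lf 0) (.lf 0)))) (.nd (.nd (.nd (.lf 0) (.lf 29642776611600221431401838860643289872325913263162126990416183712124030022582274))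 (.nd (.lf 0) (.lf 0))) (.nd (.nd (.lf 29642774844752946028446726365694877771964787653250399726942790949880428580831232) (.lf 0)) (.nd (.lf 0) (.lf 0))))))

/-- table part -/
def fmT_40 : Tr :=
  .nd (.nd (.nd (.nd (.nd (.nd (.lf 0) (.lf 994646472819576818004999365366523607827529508444540013946218176588244859972206517551105)) (.nd (.lf 0) (.lf 0))) (.nd (.nd (.lf 0) (.lf 497323266052563253755498367269545346653677047466536412728627531112697912211457020264448)) (.nd (.lf 59285549689505892056880898527918982204702648926185086490742164993455094772006912) (.lf 0)))) (.nd (.nd (.nd (.lf 0) (.lf 994646502462351662758050706092364326864187440053373810253080518302928632861863650000898)) (.nd (.lf 994646472819576818004894053062300847544202670346639781030333850618367686182837638135809) (.lf 0))) (.nd (.nd (.lf 59285549689506102681451681439195749076086313295188820693562712635257663850020866) (.lf 497323236409790175849722429511371324539626878818911347636548704066708635494430525095937))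 (.nd (.lf 497323266052563253755498367256991143557048060494088242336942345900587120399447480074240) (.lf 0))))) (.nd (.nd (.nd (.nd (.lf 0) (.lf 3533694129556768659166969145904993742802028016296575798961144864830390272)) (.nd (.lf 0) (.lf 0))) (.nd (.nd (.lf 0) (.lf 29642778378447180897507054090224866058744416999060120303767223628743560451325952)) (.nd (.lf 0) (.lf 0)))) (.nd (.nd (.nd (.lf 0) (.lf 374144419156711147060143317175368453031918731001856)) (.nd (.lf 0) (.lf 0))) (.nd (.nd (.lf 0) (.lf 0)) (.nd (.lf 0) (.lf 0)))))) (.nd (.nd (.nd (.nd (.nd (.lf 0) (.lf 497323295695338098508339083412048951691083539875970145928130358718727976660626460114946)) (.nd (.lf 497323266052565020602668457945543487512020105268703188402359262387302033039449821020161) (.lf 0))) (.nd (.nd (.lf 0) (.lf 6277101735386725365326186484612405812567429979324104572928)) (.nd (.lf 0) (.lf 0)))) (.nd (.nd (.nd (.lf 0) (.lf 59285549689505997369160012881634906783503408874757604764363380178974163756646402))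 (.nd (.lf 0) (.lf 0))) (.nd (.nd (.lf 497323266052563253755498367269545346653677047466539071184619100953888452791316871380993) (.lf 0)) (.nd (.lf 210624589614216857071355132625424408132090967085093259499379097601) (.lf 0))))) (.nd (.nd (.nd (.nd (.lf 0) (.lf 59285549689505997369160012881634906761202662346999065066079025633339205193039874)) (.nd (.lf 0) (.lf 0))) (.nd (.nd (.lf 0) (.lf 994646532105122973816867177751600221132048080745588388795504442222465089230902334062593)) (.nd (.lf 497323295695339865355403861796378535362728657349706723411003496604132270621091975659520) (.lf 0)))) (.nd (.nd (.nd (.lf 0) (.lf 59285551456352956835258951009855240708314785309836542158651385118814242605105153)) (.nd (.lf 374144419156711147060143317175368453313393741266944) (.lf 0))) (.nd (.nd (.lf 0) (.lf 0)) (.nd (.lf 994646532105126507510786109936922272979509289069796357308052400883522037778653084909569) (.lf 0))))))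

/-- table part -/
def fmT_41 : Tr :=
  .nd fmT_39 fmT_40

/-- table part -/
def fmT_42 : Tr :=
  .nd (.nd (.nd (.nd (.nd (.nd (.lf 0) (.lf 497323295695339865355614486379715649361980074248361587987581412866206276623690106929152)) (.nd (.lf 0) (.lf 0))) (.nd (.nd (.lf 0) (.lf 994646472819576818004999365353969403982611727760155958811742969817868323616153707479040)) (.nd (.lf 0) (.lf 0)))) (.nd (.nd (.nd (.lf 0) (.lf 0)) (.nd (.lf 0) (.lf 0))) (.nd (.nd (.lf 0) (.lf 497323236409790175849722429505094223552529014067752653803004530460902547264047761326081)) (.nd (.lf 497323266052561486908538901170607218433343122655157319193619338844599999868273019584514) (.lf 0))))) (.nd (.nd (.nd (.nd (.lf 29642774844752946028434172162224104432737863931390599105468605586288243254493184) (.lf 994646472819576818004894053068577948531300490496310736258623310970315937563483974926338)) (.nd (.lf 29642776611600221431401838860643289872325914592390122775336778982413959948140544)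 (.lf 0))) (.nd (.nd (.lf 0) (.lf 497323236409786642155487560444766499770829632503779868477523455826835853210287205253120)) (.nd (.lf 29642774844752946028440449263959491135802444919344588369750177109539125561655296) (.lf 0)))) (.nd (.nd (.nd (.lf 0) (.lf 105312304222760657471301856100447809357369463323532930018879471617)) (.nd (.lf 0) (.lf 0))) (.nd (.nd (.lf 0) (.lf 0)) (.nd (.lf 29642776611600010806818501745521605153355631901887960497887336259015375656583170) (.lf 0)))))) (.nd (.nd (.nd (.nd (.nd (.lf 0) (.lf 994646472819576818004894053062300847170058228889186093895558961729582035150938654638080)) (.nd (.lf 748288838313422294120286634350736906063837462003712) (.lf 0))) (.nd (.nd (.lf 0) (.lf 497323266052563253755498367269545346653677047466537741956464859703542287343330229485569)) (.nd (.lf 497323236409788409002447026531150423397956916016608743455142450372864419942283278811138) (.lf 0)))) (.nd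 (.nd (.nd (.lf 59285551456352956835252673908493998424406915468942854667870210577270466167177216) (.lf 3533694340181364550485187459521733492868799212736774173223288220269150210)) (.nd (.lf 0) (.lf 0))) (.nd (.nd (.lf 0) (.lf 0)) (.nd (.lf 994646532105126507510996734520259387727049544281873516004679267008790156550833086398466) (.lf 0))))) (.nd (.nd (.nd (.nd (.lf 0) (.lf 0)) (.nd (.lf 497323266052563253755603679548659700369601603966548504314531093380616116916652940984320) (.lf 0))) (.nd (.nd (.lf 0) (.lf 497323295695339865355509174088047092549426575377389064615326606774215182959546699087874)) (.nd (.lf 0) (.lf 0)))) (.nd (.nd (.nd (.lf 0) (.lf 12554203844917802985127924437261019710528067389671528726529)) (.nd (.lf 994646532105126507510786109936922273353653708226507504368195718058890490529096822423554) (.lf 0))) (.nd (.nd (.lf 497323236409788409002552338835373184803717033885387616082159097571801856577708039864322)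 (.lf 0)) (.nd (.lf 994646502462351662758050706086087225128800714688047623768547340648153101300213414363138) (.lf 0))))))

/-- table part -/
def fmT_43 : Tr :=
  .nd (.nd (.nd (.nd (.nd (.nd (.lf 0) (.lf 0)) (.nd (.lf 0) (.lf 0))) (.nd (.nd (.lf 0) (.lf 994646502462349895910880615410089085392890914356015618503241345824971975214876487319553)) (.nd (.lf 994646532105126507510891422228590830914496045410900992632582917255994690729010708611072) (.lf 0)))) (.nd (.nd (.nd (.lf 0) (.lf 105312297945659296229062549723662433066187924526972420882004180994)) (.nd (.lf 497323295695338098508339083399494748594454597505008384913862558136574082593767471185920) (.lf 0))) (.nd (.nd (.lf 0) (.lf 29642774844752946028434172162972393271051283567054973398150110949357028676468736)) (.nd (.lf 994646502462348129063815837025759501721245774581533842489982750886669835980385349009410) (.lf 0))))) (.nd (.nd (.nd (.nd (.lf 0) (.lf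 29642776611600010806831055948992378537184050008492915529013340248505001579642881)) (.nd (.lf 497323236409790175849722429511371324913771253374129439179612624654478531043478504210432) (.lf 0))) (.nd (.nd (.lf 0) (.lf 59285549689506102681457958541305280220608347970277347162231359917360530499567617)) (.nd (.lf 0) (.lf 0)))) (.nd (.nd (.nd (.lf 0) (.lf 210624583337115121684674368790964212999437629369905678214192168961)) (.nd (.lf 0) (.lf 0))) (.nd (.nd (.lf 0) (.lf 0)) (.nd (.lf 994646472819576818005104677651915063652985164865099042015551950595981037761294801829890) (.lf 0)))))) (.nd (.nd (.nd (.nd (.nd (.lf 0) (.lf 2658455991569831745807614120560689152)) (.nd (.lf 0) (.lf 0))) (.nd (.nd (.lf 0) (.lf 59285551456352956835265228111216482947621166082896899923105037021565023493816320)) (.nd (.lf 0) (.lf 0)))) (.nd (.nd (.nd (.lf 0) (.lf 29642774844753156653017509276971644710250686288618086797626579503968779644174338))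 (.nd (.lf 994646502462351662758050706092364327238331859210084957313144607311060454510369271971840) (.lf 0))) (.nd (.nd (.lf 0) (.lf 0)) (.nd (.lf 59285549689505997369160012882009051158058629624756501798467312086427884515753984) (.lf 0))))) (.nd (.nd (.nd (.nd (.lf 0) (.lf 0)) (.nd (.lf 0) (.lf 0))) (.nd (.nd (.lf 0) (.lf 29642776611600116119110170302708303115984807298609521460974768623150332918104065)) (.nd (.lf 994646502462348129063921149311150956798412548087180179377704379323885397238453574303745) (.lf 0)))) (.nd (.nd (.nd (.lf 497323236409788409002552338835373184429572614728675139794019995475838132974384406593536) (.lf 0)) (.nd (.lf 210624583337114373395836055368670092792031436424897750575588835329) (.lf 0))) (.nd (.nd (.lf 0) (.lf 0)) (.nd (.lf 59285549689505892056874621426931884339951491561579538102052231808750297295093762) (.lf 0))))))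

/-- table part -/
def fmT_44 : Tr :=
  .nd fmT_42 fmT_43

/-- table part -/
def fmT_45 : Tr :=
  .nd fmT_41 fmT_44

/-- table part -/
def fmT_46 : Tr :=
  .nd fmT_38 fmT_45

/-- table part -/
def fmT_47 : Tr :=
  .nd (.nd (.nd (.nd (.nd (.nd (.lf 0) (.lf 79228171958997866282821353474)) (.nd (.lf 0) (.lf 0))) (.nd (.nd (.lf 0) (.lf 497323236409788409002447026531150424146245732029285839044805943187883053357759251611648)) (.nd (.lf 29642774844753051340738394923255720131449930327729476650581024032849033626124290) (.lf 0)))) (.nd (.nd (.nd (.lf 0) (.lf 994646502462349895910880615416366186754133198263886788624924621522019421128663159013378)) (.nd (.lf 0) (.lf 0))) (.nd (.nd (.lf 994646502462351662757945393788141566580860535053239310973164096312018649776413799874562) (.lf 994646472819576818005104677651915062904696304250932878592558731467606865001432232230914)) (.nd (.lf 497323266052565020602668457945543486763731266955279565054076843120692223450027072159744)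 (.lf 0))))) (.nd (.nd (.nd (.nd (.lf 0) (.lf 994646532105124740663721331552592690430297406765448022474986072997949563512796506750978)) (.nd (.lf 994646532105126507510786109936922273727798127383218651428180578909230414604353488814082) (.lf 0))) (.nd (.nd (.lf 0) (.lf 59285549689505892056868344324822353240030945954324103675214119639180431346106369)) (.nd (.lf 497323266052563253755603679561213904214519340049440833159685003987001839819770042515458) (.lf 0)))) (.nd (.nd (.nd (.lf 994646472819575051158039899261308378620097718882000897349907710281288381558540505972736) (.lf 994646472819576818004999365353969404730900588374326109918644315545514042626737533091841)) (.nd (.lf 994646472819575051158039899273862582090871125011164202485406654766329280473275475951616) (.lf 0))) (.nd (.nd (.lf 0) (.lf 0)) (.nd (.lf 0) (.lf 0)))))) (.nd (.nd (.nd (.nd (.nd (.lf 0) (.lf 79228162514264337593543950336)) (.nd (.lf 994646532105126507510786109943199375089040411291087163093872284774532052622544639885312)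 (.lf 0))) (.nd (.nd (.lf 0) (.lf 497323266052561486908328276587270104434091683455758585314493294125194889080492246695937)) (.nd (.lf 0) (.lf 0)))) (.nd (.nd (.nd (.lf 0) (.lf 994646502462348129063710524727813842425016712031814167740983145881720572565491996950530)) (.nd (.lf 0) (.lf 0))) (.nd (.nd (.lf 0) (.lf 0)) (.nd (.lf 0) (.lf 0))))) (.nd (.nd (.nd (.nd (.lf 0) (.lf 497323236409788409002447026543704627242874719001739326348236583590109766270888246771713)) (.nd (.lf 0) (.lf 0))) (.nd (.nd (.lf 994646502462351662758050706086087225877089553001469917888992431323918536039237981044737) (.lf 994646532105124740663931956129652702694162165201014954614971034206662927287593054765058)) (.nd (.lf 29642778378447286209798722647037419557615390851660291666603128628629956311646210) (.lf 0)))) (.nd (.nd (.nd (.lf 0) (.lf 59285551456353167459836011022493249841305574321203340710717389029512226665398272)) (.nd (.lf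 0) (.lf 0))) (.nd (.nd (.lf 59285549689506102681457958540931135756850147755384111803225456351795611101560834) (.lf 0)) (.nd (.lf 994646472819575051157829274677971263872557485970668937183587073036959112164428176424962) (.lf 0))))))

/-- table part -/
def fmT_48 : Tr :=
  .nd (.nd (.nd (.nd (.nd (.nd (.lf 0) (.lf 3533694129556774936268330388211202359170680243485641328048323599882256384)) (.nd (.lf 0) (.lf 0))) (.nd (.nd (.lf 0) (.lf 994646472819576818005104677651915063278840768009134422714106788044162759051080644952065)) (.nd (.lf 105312297945659296229017948230606915749106858830355172444904357889) (.lf 0)))) (.nd (.nd (.nd (.lf 0) (.lf 994646502462349895910985927708034743940831116291570459057322744770489501611771723513858)) (.nd (.lf 79228162514264337593543950336) (.lf 0))) (.nd (.nd (.lf 59285549689505997369160012882009051180359372164831054142018215020090271224299520) (.lf 0)) (.nd (.lf 497323266052561486908433588885215763356176282247278045169940627474183529298617031458817)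 (.lf 0))))) (.nd (.nd (.nd (.nd (.lf 0) (.lf 994646472819575051157829274677971263872557485970667607955670516278878105649141824618496)) (.nd (.lf 0) (.lf 0))) (.nd (.nd (.lf 0) (.lf 497323295695338098508339083399494748220310156047553368551171112513319257460930412281857)) (.nd (.lf 0) (.lf 0)))) (.nd (.nd (.nd (.lf 0) (.lf 59285549689505892056880898528667271065316819077292067064613435510590318567227392)) (.nd (.lf 0) (.lf 0))) (.nd (.nd (.lf 0) (.lf 0)) (.nd (.lf 29642774844752946028446726366069022235722989197371868555342665480143874530738177) (.lf 0)))))) (.nd (.nd (.nd (.nd (.nd (.lf 0) (.lf 1766847275402980220901515814359658265894255172543979846648087150258552834)) (.nd (.lf 0) (.lf 0))) (.nd (.nd (.lf 0) (.lf 994646472819576818005104677645637961917598484101261923364348499264005779072720457170946)) (.nd (.lf 497323295695336331661274305027719368393582752355963921382987200023610943274832476766208)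 (.lf 0)))) (.nd (.nd (.nd (.lf 0) (.lf 994646472819573284310869808591587339122996944987706621025775811447645612585111903010816)) (.nd (.lf 497323236409788409002552338835373184055428195571963992733876678305192046706810263961601) (.lf 0))) (.nd (.nd (.lf 0) (.lf 0)) (.nd (.lf 0) (.lf 0))))) (.nd (.nd (.nd (.nd (.lf 0) (.lf 994646502462349895910985927701757642205444435527734669634115078363831879133046996205570)) (.nd (.lf 0) (.lf 0))) (.nd (.nd (.lf 0) (.lf 29642776611600221431414393064114063211552838314250002624959311510613654889299970)) (.nd (.lf 29642776611600221431401838859895001034012490969041919584223238703914916492869632) (.lf 0)))) (.nd (.nd (.nd (.lf 497323295695338098508444395703717508877781413302162090071286413989333341005691022737410) (.lf 497323236409788409002552338835373184055428173271221452659165878433982950852106163060738)) (.nd (.lf 497323236409788409002552338835373184055428217872711849720412161505419495867354198310912)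 (.lf 0))) (.nd (.nd (.lf 0) (.lf 0)) (.nd (.lf 994646472819573284310764496306195883671685663122369672183334856450269513091065367756800) (.lf 0))))))

/-- table part -/
def fmT_49 : Tr :=
  .nd fmT_47 fmT_48

/-- table part -/
def fmT_50 : Tr :=
  .nd (.nd (.nd (.nd (.nd (.nd (.lf 0) (.lf 497323266052565020602563145647597827841646690464507962185164992971931032392446154637312)) (.nd (.lf 0) (.lf 0))) (.nd (.nd (.lf 0) (.lf 0)) (.nd (.lf 59285549689505997369160012882383195599516084641119351700425040172920173009829888) (.lf 0)))) (.nd (.nd (.nd (.lf 0) (.lf 994646472819576818004894053074855050640831612717600212816685094437718208658915513597953)) (.nd (.lf 994646472819575051157934586975916922794642062461441869280494708096870839983249758879744) (.lf 0))) (.nd (.nd (.lf 29642774844753156653017509276597500291093975141557943480451211051218335889883136) (.lf 994646472819573284310869808591587339122996922686960093267077656833540171792096555958274))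 (.nd (.lf 1766847064778390606685781176306597264308088637459457233928411225817874433) (.lf 0))))) (.nd (.nd (.nd (.nd (.lf 0) (.lf 994646502462349895910985927695480540844202173920608698043134172369739336688085019656194)) (.nd (.lf 994646472819573284310869808597864441232528044908254886737043351801919793215225735413760) (.lf 0))) (.nd (.nd (.lf 0) (.lf 994646532105124740663931956135929804055404426808138267749881142201773030735021361594368)) (.nd (.lf 59285551456353167459836011022493249863606316861277972282430806227793681877827585) (.lf 0)))) (.nd (.nd (.nd (.lf 0) (.lf 497323236409788409002447026537427525881632435093869485454628320971449489346180329504768)) (.nd (.lf 994646502462351662757840081509027212864936000853971088689967118840627177135771698069504) (.lf 0))) (.nd (.nd (.lf 0) (.lf 0)) (.nd (.lf 0) (.lf 0)))))) (.nd (.nd (.nd (.nd (.nd (.lf 0) (.lf 0)) (.nd (.lf 0) (.lf 0))) (.nd (.nd (.lf 0)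 (.lf 29642774844753156653017509276597500268793228613799403782162134138819032704352256)) (.nd (.lf 0) (.lf 0)))) (.nd (.nd (.nd (.lf 994646502462351662757945393800695770051633896580912219047733670389847159067508945715202) (.lf 994646502462348129063710524734090944908692231109070922056402433570172665366189715750912)) (.nd (.lf 0) (.lf 0))) (.nd (.nd (.lf 0) (.lf 0)) (.nd (.lf 29642776611600010806818501746269894013969802052994941071768051509397813735718914) (.lf 0))))) (.nd (.nd (.nd (.nd (.lf 0) (.lf 497323295695338098508549707982831862593706014403664578718515487481757622379464158609410)) (.nd (.lf 0) (.lf 0))) (.nd (.nd (.lf 0) (.lf 0)) (.nd (.lf 497323266052565020602668457939266385028344608492190303389488103160903410662379475697664) (.lf 0)))) (.nd (.nd (.nd (.lf 0) (.lf 497323266052565020602563145653874929951177790385053569440361735327222774869451197120514)) (.nd (.lf 0) (.lf 0))) (.nd (.nd (.lf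 0) (.lf 0)) (.nd (.lf 994646502462348129063921149317428058907943648007727115861055362910633839513441704869888) (.lf 0))))))

/-- table part -/
def fmT_51 : Tr :=
  .nd (.nd (.nd (.nd (.nd (.nd (.lf 0) (.lf 497323266052561486908538901176884320917018641732416731965030196355353167598827018911746)) (.nd (.lf 0) (.lf 0))) (.nd (.nd (.lf 497323236409786642155592872730157955222140825166138681653463414517807036489352882421760) (.lf 79228162514264337593543950336)) (.nd (.lf 0) (.lf 0)))) (.nd (.nd (.nd (.lf 0) (.lf 59285553223200021613643280592778597009775844791729672575554534148257294032306177)) (.nd (.lf 497323266052563253755393054965322586370350164767147111979334250662228567694288367910912) (.lf 0))) (.nd (.nd (.lf 0) (.lf 994646532105124740663721331546315588694910726001610903823782621665974303979797198405632)) (.nd (.lf 59285551456353167459836011022867394238161538940504865101445888673134543175155713)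 (.lf 0))))) (.nd (.nd (.nd (.nd (.lf 0) (.lf 0)) (.nd (.lf 0) (.lf 0))) (.nd (.nd (.lf 497323236409788409002657651120764639506739410535066675212364765448771968006714044710913) (.lf 59285551456353062147556896668403180865648849753329377274534910831754254246477824)) (.nd (.lf 994646532105124740663826643844261246868706486479710728015014118653763743602928997367810) (.lf 0)))) (.nd (.nd (.nd (.lf 0) (.lf 59285551456352956835252673908493998446707661996701473594331246486691627227152385)) (.nd (.lf 994646502462351662758050706079810124141702894538380656224324463206337825678341496111104) (.lf 0))) (.nd (.nd (.lf 0) (.lf 0)) (.nd (.lf 497323236409788409002657651114487538519641568084654509137281061969528526993616042721280) (.lf 0)))))) (.nd (.nd (.nd (.nd (.nd (.lf 0) (.lf 994646472819576818004894053068577949279589328809730371922918375494029402777545498165250)) (.nd (.lf 994646472819573284310975120889532998419225940635193358638897561681908231870435949543424)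 (.lf 0))) (.nd (.nd (.lf 0) (.lf 994646532105126507510996734513982285991662863518039055809467385513283070833349007245314)) (.nd (.lf 0) (.lf 0)))) (.nd (.nd (.nd (.lf 0) (.lf 497323236409788409002552338829096083068330330820806628128249061462189330630158583857153)) (.nd (.lf 0) (.lf 0))) (.nd (.nd (.lf 994646532105126507510786109943199375089040411291087163093951512932323950195793578688514) (.lf 0)) (.nd (.lf 0) (.lf 0))))) (.nd (.nd (.nd (.nd (.lf 0) (.lf 994646502462351662757840081509027212490791581697259941629823801655813991419588636573697)) (.nd (.lf 0) (.lf 0))) (.nd (.nd (.lf 497323295695338098508339083399494748220310133746808170020468742810364353992105717137408) (.lf 994646532105126507510786109930645171618267049763416913475531965015992143395400783495168)) (.nd (.lf 1766847064778384329584045789581231938121604262738132209292007632332128256) (.lf 0)))) (.nd (.nd (.nd (.lf 0) (.lf 497323295695338098508339083412048951316939098418515129565518141243820317261198889320448))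 (.nd (.lf 0) (.lf 0))) (.nd (.nd (.lf 29642774844753051340738394923255720131449928998501639321990179657154210480259073) (.lf 0)) (.nd (.lf 59285549689506102681464235643040666901372183759700713284977213167681576307261442) (.lf 0))))))

/-- table part -/
def fmT_52 : Tr :=
  .nd fmT_50 fmT_51

/-- table part -/
def fmT_53 : Tr :=
  .nd fmT_49 fmT_52

/-- table part -/
def fmT_54 : Tr :=
  .nd (.nd (.nd (.nd (.nd (.nd (.lf 0) (.lf 994646502462351662758050706079810123767558475381668179936264589268166000211216738287616)) (.nd (.lf 0) (.lf 0))) (.nd (.nd (.lf 0) (.lf 59285551456352956835252673908493998424406915468942775439707696312369922669805568)) (.nd (.lf 59285549689505892056880898528667271020715328680230662325216970437181358454341632) (.lf 0)))) (.nd (.nd (.nd (.lf 0) (.lf 994646502462351662757840081502750111503693739246846446326823541437379010667107810541569)) (.nd (.lf 0) (.lf 0))) (.nd (.nd (.lf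 0) (.lf 497323266052563253755393054971599688105736845530984230630537701998926193428682344759296)) (.nd (.lf 29642774844753051340732117821520333472986838407609054797105073208156713300000769) (.lf 0))))) (.nd (.nd (.nd (.nd (.lf 0) (.lf 0)) (.nd (.lf 994646502462351662758050706079810123393414033924213163573414687319882646403192541151233) (.lf 0))) (.nd (.nd (.lf 0) (.lf 59285549689505892056868344324448208820874233478035964573118155916140057666256898)) (.nd (.lf 105312291668557186697918027683670432318895095400549111254310977536) (.lf 0)))) (.nd (.nd (.nd (.lf 0) (.lf 29642778378447180897500776988489479355679834681878372939062044361181268207992833)) (.nd (.lf 994646472819576818004894053074855050640831590416856343513899281488121944659557538070529) (.lf 0))) (.nd (.nd (.lf 497323236409788409002552338835373184803717011584641088323540171124933046605155898753024) (.lf 0)) (.nd (.lf 3533694234869072881927252472787693133432005146905626557412633746075549698)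 (.lf 0)))))) (.nd (.nd (.nd (.nd (.nd (.lf 0) (.lf 59285549689505997369160012882383195599516085970347189029020606914534915813933056)) (.nd (.lf 0) (.lf 0))) (.nd (.nd (.lf 0) (.lf 994646502462351662757840081496473009394162617025554311312928644472704194161432076484608)) (.nd (.lf 0) (.lf 0)))) (.nd (.nd (.nd (.lf 0) (.lf 0)) (.nd (.lf 0) (.lf 0))) (.nd (.nd (.lf 0) (.lf 0)) (.nd (.lf 0) (.lf 0))))) (.nd (.nd (.nd (.nd (.lf 0) (.lf 12554204219062222141839071497404336885896520984540196372481)) (.nd (.lf 994646532105122973816761865466208766054881284939196853377159672258975988008736916504578) (.lf 0))) (.nd (.nd (.lf 0) (.lf 994646472819576818004894053074855050266687171260143867225918635721909115932815661203457)) (.nd (.lf 497323266052561486908538901176884320168729803418993108616906233418494252885986009677824) (.lf 0)))) (.nd (.nd (.nd (.lf 0) (.lf 2658455991569831745807614120560689152)) (.nd (.lf 994646472819575051157829274684248365982088585891217202895013069702094722021120161087488)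 (.lf 0))) (.nd (.nd (.lf 0) (.lf 0)) (.nd (.lf 59285549689506102681451681439569893539844512180854297952140286090872728529666050) (.lf 0))))))

/-- table part -/
def fmT_55 : Tr :=
  .nd (.nd (.nd (.nd (.nd (.nd (.lf 0) (.lf 0)) (.nd (.lf 0) (.lf 0))) (.nd (.nd (.lf 0) (.lf 497323295695338098508549707982831862967850433560377055006575361410484714880849626005506)) (.nd (.lf 0) (.lf 0)))) (.nd (.nd (.nd (.lf 0) (.lf 59285553223200021613649557694513983668238938041078169442113594507014187874516992)) (.nd (.lf 0) (.lf 0))) (.nd (.nd (.lf 497323295695338098508339083399494748220310133746808170020627199135392883230242758459393) (.lf 59285551456352956835265228111964771808235332246319893142247578293492020055900160)) (.nd (.lf 497323295695339865355403861790101433253197602030648854760982239321294634724751201796098) (.lf 0))))) (.nd (.nd (.nd (.nd (.lf 0) (.lf 59285549689505892056868344324448208843174978676566587714653874188788419138682880))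 (.nd (.lf 0) (.lf 0))) (.nd (.nd (.lf 497323295695338098508339083399494747846165759191587420021571708706432446256909998096386) (.lf 29642774844752946028446726365694877771964787653250558183258374745589876344750081)) (.nd (.lf 0) (.lf 0)))) (.nd (.nd (.nd (.lf 0) (.lf 497323295695339865355509174088047092175282156220679246783099846352205369678569697968128)) (.nd (.lf 0) (.lf 0))) (.nd (.nd (.lf 0) (.lf 0)) (.nd (.lf 994646472819575051157829274690525467717475288955796861620768864584972915216506110869504) (.lf 0)))))) (.nd (.nd (.nd (.nd (.nd (.lf 0) (.lf 59285553223200232238226617707526137264987925938110366024594657608989643070504962)) (.nd (.lf 0) (.lf 0))) (.nd (.nd (.lf 0) (.lf 29642776611600221431408115962004532111632292706994488969958685077832095269650434)) (.nd (.lf 0) (.lf 0)))) (.nd (.nd (.nd (.lf 0) (.lf 29642778378447180897507054089476577220430994704939754441253972458342129478926337)) (.nd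 (.lf 497323236409786642155487560451043601506216313267618316356801920241920647089334972841984) (.lf 0))) (.nd (.nd (.lf 497323295695336331661379617319387925954425111841102608178155997076739578596900321886209) (.lf 0)) (.nd (.lf 497323236409786642155592872736435056583383086773263324016448535591304307799960036835330) (.lf 0))))) (.nd (.nd (.nd (.nd (.lf 0) (.lf 994646532105126507510891422234867932649882726174736782055711355504860415353011553959937)) (.nd (.lf 0) (.lf 0))) (.nd (.nd (.lf 0) (.lf 994646502462351662757945393794418667942102818961110481094847372004343728362905912999936)) (.nd (.lf 59285551456353167459836011022119105422148860515687285051882233766169520191307777) (.lf 0)))) (.nd (.nd (.nd (.lf 0) (.lf 0)) (.nd (.lf 497323295695336331661379617319387925206136273527682972513860932557748480147183420571649) (.lf 0))) (.nd (.nd (.lf 0) (.lf 0)) (.nd (.lf 0) (.lf 0))))))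

/-- table part -/
def fmT_56 : Tr :=
  .nd fmT_54 fmT_55

/-- table part -/
def fmT_57 : Tr :=
  .nd (.nd (.nd (.nd (.nd (.nd (.lf 0) (.lf 994646532105126507510891422234867931901593932462804884996671004230282421350241742618624)) (.nd (.lf 994646472819576818005104677658192165388371867929680029969303530385287401516526815150081) (.lf 0))) (.nd (.nd (.lf 0) (.lf 994646532105124740663721331558869792165684065228537284139495584799946477601295240790018)) (.nd (.lf 0) (.lf 0)))) (.nd (.nd (.nd (.lf 0) (.lf 497323236409790175849722429511371324539626834217419621347465092404427715065834320691202)) (.nd (.lf 59285553223200021613637003491417354725867976280063901641540885345631593232859137) (.lf 0))) (.nd (.nd (.lf 59285549689505892056880898528293126623859360073245229807908088713521274212581378) (.lf 994646502462349895910775303118420528206192996328331948071080907049877588858889589227521)) (.nd (.lf 0) (.lf 0)))))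 (.nd (.nd (.nd (.nd (.lf 0) (.lf 0)) (.nd (.lf 497323295695339865355403861783824331517810876665322668276528289833755734546514108743681) (.lf 0))) (.nd (.nd (.lf 994646502462348129063710524727813842425016756633304564802229428953157117299265072267264) (.lf 497323236409788409002552338835373184429572592427929941263238397615091332213785766133762)) (.nd (.lf 0) (.lf 0)))) (.nd (.nd (.nd (.lf 0) (.lf 497323266052563253755498367269545346279532628309826594896479998857924729469468214820866)) (.nd (.lf 497323295695336331661379617313110823470749570463099326104117782936696309059305840050177) (.lf 0))) (.nd (.nd (.lf 0) (.lf 0)) (.nd (.lf 0) (.lf 0)))))) (.nd (.nd (.nd (.nd (.nd (.lf 0) (.lf 497323295695338098508444395697440406768250357983108209105173283291600153037362492866560)) (.nd (.lf 1766847275402973943799780427723495923160349281958634163276936942939275265) (.lf 0))) (.nd (.nd (.lf 0) (.lf 29642778378447286209798722647037419535314645653129747753229924620319188349616128))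 (.nd (.lf 994646532105126507510891422228590830914496045410902321860578702171867594536070988955650) (.lf 0)))) (.nd (.nd (.nd (.lf 0) (.lf 29642778378447075585215385532664023721560023510795733104574841795026516227129346)) (.nd (.lf 497323236409788409002447026537427525881632435093868156226474079730548057145407937970178) (.lf 0))) (.nd (.nd (.lf 0) (.lf 0)) (.nd (.lf 0) (.lf 0))))) (.nd (.nd (.nd (.nd (.lf 0) (.lf 29642774844753156653023786379081175765569744157268187283053041937989760404422656)) (.nd (.lf 0) (.lf 0))) (.nd (.nd (.lf 0) (.lf 497323295695336331661379617306833721735362934300755262969993728178152507279093371240448)) (.nd (.lf 0) (.lf 0)))) (.nd (.nd (.nd (.lf 0) (.lf 497323295695339865355614486373438548000737834941983473383135990067618817700827316092930)) (.nd (.lf 0) (.lf 0))) (.nd (.nd (.lf 0) (.lf 0)) (.nd (.lf 0) (.lf 0))))))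

/-- table part -/
def fmT_58 : Tr :=
  .nd (.nd (.nd (.nd (.nd (.nd (.lf 0) (.lf 0)) (.nd (.lf 0) (.lf 0))) (.nd (.nd (.lf 79228162514264337593543950336) (.lf 59285553223200021613637003491417354748168721478594524783067158885032740488478722)) (.nd (.lf 497323266052561486908538901170607219181631960968580942541901758111209809176220808511490) (.lf 0)))) (.nd (.nd (.nd (.lf 994646472819573284310975120883255896683839237570612370684908297405059074820948361216000) (.lf 994646472819576818004894053068577948531300468195562879272008599602851857582476868190210)) (.nd (.lf 497323236409786642155382248146820840100456150797347717440463976893159497012533375533056) (.lf 0))) (.nd (.nd (.lf 497323295695338098508339083399494748220310156047553368551250340671111155597129287729153) (.lf 497323266052563253755393054977876789092834710282144253692077660515882819264730686816256)) (.nd (.lf 59285551456352956835252673908493998402106170270412310754506451301362487508598784)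 (.lf 0))))) (.nd (.nd (.nd (.nd (.lf 0) (.lf 29642774844752946028434172162224104455038606471465309905339814682705897375924226)) (.nd (.lf 0) (.lf 0))) (.nd (.nd (.lf 0) (.lf 497323266052563253755498367256991142808759266782156345278060450946315288307520117932033)) (.nd (.lf 0) (.lf 0)))) (.nd (.nd (.nd (.lf 29642776611600010806824778848005280717034381711720696866636762602581640846770176) (.lf 497323236409790175849722429505094223552529014067751324575008745545029643175512521048065)) (.nd (.lf 0) (.lf 0))) (.nd (.nd (.lf 29642778378447075585215385532664023676958531784506491036587532345641257941336065) (.lf 0)) (.nd (.lf 210624589614216857071399734118479925449172032781710507936495697922) (.lf 0)))))) (.nd (.nd (.nd (.nd (.nd (.lf 0) (.lf 0)) (.nd (.lf 497323266052565020602457833349652169293706466228206593872385439417030432811305140224000) (.lf 0))) (.nd (.nd (.lf 0) (.lf 59285551456353062147556896669151469681661525519690965754266819930823681692925954))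 (.nd (.lf 29642774844752946028434172162224104410437116074404063622263655770363354731773952) (.lf 0)))) (.nd (.nd (.nd (.lf 0) (.lf 994646472819575051158039899267585479981339980489128198168884401181809094281873569349632)) (.nd (.lf 0) (.lf 0))) (.nd (.nd (.lf 59285549689505892056868344324448208820874234807264118814359057348903779977658368) (.lf 0)) (.nd (.lf 994646472819576818004999365353969404730900543772833054401485690804845954053487521169410) (.lf 0))))) (.nd (.nd (.nd (.nd (.lf 0) (.lf 2658456150026156774336289307648589824)) (.nd (.lf 497323266052563253755393054965322585622061326453724817858968388148977397855807332155394) (.lf 0))) (.nd (.nd (.lf 994646532105126507510786109930645171618267049763418242703527749931865047483936006995968) (.lf 994646502462349895910775303112143425722517499551819063058051291503172803726551847796736)) (.nd (.lf 0) (.lf 0)))) (.nd (.nd (.nd (.lf 994646532105126507510786109936922273353653730527254032126735416357412135331189395292160)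 (.lf 0)) (.nd (.lf 497323236409788409002657651120764639880883829691777822272428854466348522902433883488258) (.lf 0))) (.nd (.nd (.lf 0) (.lf 0)) (.nd (.lf 1766847275402980220901515814381959013751241787255352033094832501970436096) (.lf 0))))))

/-- table part -/
def fmT_59 : Tr :=
  .nd fmT_57 fmT_58

/-- table part -/
def fmT_60 : Tr :=
  .nd fmT_56 fmT_59

/-- table part -/
def fmT_61 : Tr :=
  .nd fmT_53 fmT_60

/-- table part -/
def fmT_62 : Tr :=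
  .nd fmT_46 fmT_61

/-- table part -/
def fmT_63 : Tr :=
  .nd fmT_31 fmT_62

/-- table -/
def fmT : Tr :=
  fmT_63

/-- table part -/
def rkT_1 : Tr :=
  .nd (.nd (.nd (.nd (.nd (.nd (.lf 27) (.lf 396)) (.nd (.lf 0) (.lf 0))) (.nd (.nd (.lf 0) (.lf 397)) (.nd (.lf 371) (.lf 0)))) (.nd (.nd (.nd (.lf 0) (.lf 0)) (.nd (.lf 0) (.lf 0))) (.nd (.nd (.lf 0) (.lf 281)) (.nd (.lf 353) (.lf 0))))) (.nd (.nd (.nd (.nd (.lf 0) (.lf 473)) (.nd (.lf 0) (.lf 0))) (.nd (.nd (.lf 0) (.lf 118)) (.nd (.lf 114) (.lf 0)))) (.nd (.nd (.nd (.lf 0) (.lf 606)) (.nd (.lf 0) (.lf 0))) (.nd (.nd (.lf 0) (.lf 0)) (.nd (.lf 0) (.lf 0)))))) (.nd (.nd (.nd (.nd (.nd (.lf 0) (.lf 684)) (.nd (.lf 0) (.lf 0))) (.nd (.nd (.lf 0) (.lf 410)) (.nd (.lf 0) (.lf 0)))) (.nd (.nd (.nd (.lf 62) (.lf 0)) (.nd (.lf 409) (.lf 0))) (.nd (.nd (.lf 0) (.lf 0)) (.nd (.lf 0) (.lf 0))))) (.nd (.nd (.nd (.nd (.lf 0) (.lf 235)) (.nd (.lf 0) (.lf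 0))) (.nd (.nd (.lf 0) (.lf 160)) (.nd (.lf 398) (.lf 0)))) (.nd (.nd (.nd (.lf 308) (.lf 399)) (.nd (.lf 0) (.lf 0))) (.nd (.nd (.lf 570) (.lf 0)) (.nd (.lf 579) (.lf 0))))))

/-- table part -/
def rkT_2 : Tr :=
  .nd (.nd (.nd (.nd (.nd (.nd (.lf 0) (.lf 385)) (.nd (.lf 514) (.lf 0))) (.nd (.nd (.lf 0) (.lf 0)) (.nd (.lf 0) (.lf 0)))) (.nd (.nd (.nd (.lf 0) (.lf 707)) (.nd (.lf 0) (.lf 0))) (.nd (.nd (.lf 0) (.lf 662)) (.nd (.lf 0) (.lf 0))))) (.nd (.nd (.nd (.nd (.lf 0) (.lf 0)) (.nd (.lf 0) (.lf 0))) (.nd (.nd (.lf 0) (.lf 256)) (.nd (.lf 209) (.lf 0)))) (.nd (.nd (.nd (.lf 0) (.lf 93)) (.nd (.lf 0) (.lf 0))) (.nd (.nd (.lf 79) (.lf 0)) (.nd (.lf 475) (.lf 0)))))) (.nd (.nd (.nd (.nd (.nd (.lf 0) (.lf 534)) (.nd (.lf 81) (.lf 0))) (.nd (.nd (.lf 0) (.lf 369)) (.nd (.lf 0) (.lf 0)))) (.nd (.nd (.nd (.lf 0) (.lf 319)) (.nd (.lf 0) (.lf 0))) (.nd (.nd (.lf 0) (.lf 0)) (.nd (.lf 0) (.lf 0)))))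 (.nd (.nd (.nd (.nd (.lf 0) (.lf 0)) (.nd (.lf 0) (.lf 0))) (.nd (.nd (.lf 0) (.lf 632)) (.nd (.lf 0) (.lf 0)))) (.nd (.nd (.nd (.lf 0) (.lf 60)) (.nd (.lf 125) (.lf 0))) (.nd (.nd (.lf 479) (.lf 0)) (.nd (.lf 64) (.lf 0))))))

/-- table part -/
def rkT_3 : Tr :=
  .nd rkT_1 rkT_2

/-- table part -/
def rkT_4 : Tr :=
  .nd (.nd (.nd (.nd (.nd (.nd (.lf 0) (.lf 0)) (.nd (.lf 61) (.lf 0))) (.nd (.nd (.lf 0) (.lf 526)) (.nd (.lf 0) (.lf 0)))) (.nd (.nd (.nd (.lf 0) (.lf 0)) (.nd (.lf 0) (.lf 0))) (.nd (.nd (.lf 34) (.lf 545)) (.nd (.lf 481) (.lf 0))))) (.nd (.nd (.nd (.nd (.lf 0) (.lf 647)) (.nd (.lf 0) (.lf 0))) (.nd (.nd (.lf 0) (.lf 661)) (.nd (.lf 623) (.lf 0)))) (.nd (.nd (.nd (.lf 0) (.lf 674)) (.nd (.lf 0) (.lf 0))) (.nd (.nd (.lf 108) (.lf 0)) (.nd (.lf 629) (.lf 0)))))) (.nd (.nd (.nd (.nd (.nd (.lf 0) (.lf 346)) (.nd (.lf 98) (.lf 0))) (.nd (.nd (.lf 40) (.lf 536)) (.nd (.lf 637) (.lf 0))))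 (.nd (.nd (.nd (.lf 0) (.lf 342)) (.nd (.lf 322) (.lf 0))) (.nd (.nd (.lf 0) (.lf 0)) (.nd (.lf 0) (.lf 0))))) (.nd (.nd (.nd (.nd (.lf 0) (.lf 0)) (.nd (.lf 137) (.lf 0))) (.nd (.nd (.lf 0) (.lf 592)) (.nd (.lf 515) (.lf 0)))) (.nd (.nd (.nd (.lf 0) (.lf 298)) (.nd (.lf 633) (.lf 0))) (.nd (.nd (.lf 0) (.lf 0)) (.nd (.lf 667) (.lf 0))))))

/-- table part -/
def rkT_5 : Tr :=
  .nd (.nd (.nd (.nd (.nd (.nd (.lf 0) (.lf 0)) (.nd (.lf 355) (.lf 0))) (.nd (.nd (.lf 0) (.lf 448)) (.nd (.lf 550) (.lf 0)))) (.nd (.nd (.nd (.lf 0) (.lf 437)) (.nd (.lf 0) (.lf 0))) (.nd (.nd (.lf 0) (.lf 184)) (.nd (.lf 211) (.lf 0))))) (.nd (.nd (.nd (.nd (.lf 0) (.lf 0)) (.nd (.lf 0) (.lf 0))) (.nd (.nd (.lf 0) (.lf 584)) (.nd (.lf 261) (.lf 0)))) (.nd (.nd (.nd (.lf 0) (.lf 412)) (.nd (.lf 337) (.lf 0))) (.nd (.nd (.lf 0) (.lf 0)) (.nd (.lf 126) (.lf 0)))))) (.nd (.nd (.nd (.nd (.nd (.lf 0) (.lf 148)) (.nd (.lf 38)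 (.lf 0))) (.nd (.nd (.lf 0) (.lf 388)) (.nd (.lf 113) (.lf 0)))) (.nd (.nd (.nd (.lf 0) (.lf 208)) (.nd (.lf 0) (.lf 0))) (.nd (.nd (.lf 0) (.lf 0)) (.nd (.lf 124) (.lf 0))))) (.nd (.nd (.nd (.nd (.lf 0) (.lf 238)) (.nd (.lf 0) (.lf 0))) (.nd (.nd (.lf 0) (.lf 698)) (.nd (.lf 23) (.lf 0)))) (.nd (.nd (.nd (.lf 0) (.lf 42)) (.nd (.lf 0) (.lf 0))) (.nd (.nd (.lf 149) (.lf 0)) (.nd (.lf 100) (.lf 0))))))

/-- table part -/
def rkT_6 : Tr :=
  .nd rkT_4 rkT_5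

/-- table part -/
def rkT_7 : Tr :=
  .nd rkT_3 rkT_6

/-- table part -/
def rkT_8 : Tr :=
  .nd (.nd (.nd (.nd (.nd (.nd (.lf 0) (.lf 292)) (.nd (.lf 0) (.lf 0))) (.nd (.nd (.lf 0) (.lf 299)) (.nd (.lf 169) (.lf 0)))) (.nd (.nd (.nd (.lf 0) (.lf 486)) (.nd (.lf 0) (.lf 0))) (.nd (.nd (.lf 185) (.lf 92)) (.nd (.lf 595) (.lf 0))))) (.nd (.nd (.nd (.nd (.lf 0) (.lf 500)) (.nd (.lf 538) (.lf 0))) (.nd (.nd (.lf 0) (.lf 232)) (.nd (.lf 0) (.lf 0)))) (.nd (.nd (.nd (.lf 0) (.lf 153)) (.nd (.lf 0) (.lf 0))) (.nd (.nd (.lf 202) (.lf 0)) (.nd (.lf 694) (.lf 0)))))) (.nd (.nd (.nd (.nd (.nd (.lf 0) (.lf 226)) (.nd (.lf 0) (.lf 0))) (.nd (.nd (.lf 0) (.lf 599)) (.nd (.lf 0) (.lf 0)))) (.nd (.nd (.nd (.lf 0) (.lf 304)) (.nd (.lf 0) (.lf 0))) (.nd (.nd (.lf 0) (.lf 0)) (.nd (.lf 535) (.lf 0))))) (.nd (.nd (.nd (.nd (.lf 0) (.lf 0)) (.nd (.lf 297) (.lf 0))) (.nd (.nd (.lf 666) (.lf 471)) (.nd (.lf 0) (.lf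 0)))) (.nd (.nd (.nd (.lf 0) (.lf 72)) (.nd (.lf 0) (.lf 0))) (.nd (.nd (.lf 0) (.lf 0)) (.nd (.lf 0) (.lf 0))))))

/-- table part -/
def rkT_9 : Tr :=
  .nd (.nd (.nd (.nd (.nd (.nd (.lf 0) (.lf 0)) (.nd (.lf 0) (.lf 0))) (.nd (.nd (.lf 453) (.lf 373)) (.nd (.lf 0) (.lf 0)))) (.nd (.nd (.nd (.lf 71) (.lf 640)) (.nd (.lf 0) (.lf 0))) (.nd (.nd (.lf 0) (.lf 383)) (.nd (.lf 679) (.lf 0))))) (.nd (.nd (.nd (.nd (.lf 0) (.lf 57)) (.nd (.lf 0) (.lf 0))) (.nd (.nd (.lf 392) (.lf 215)) (.nd (.lf 496) (.lf 0)))) (.nd (.nd (.nd (.lf 265) (.lf 85)) (.nd (.lf 0) (.lf 0))) (.nd (.nd (.lf 0) (.lf 0)) (.nd (.lf 0) (.lf 0)))))) (.nd (.nd (.nd (.nd (.nd (.lf 0) (.lf 416)) (.nd (.lf 0) (.lf 0))) (.nd (.nd (.lf 0) (.lf 419)) (.nd (.lf 236) (.lf 0)))) (.nd (.nd (.nd (.lf 568) (.lf 216)) (.nd (.lf 0) (.lf 0))) (.nd (.nd (.lf 0) (.lf 0)) (.nd (.lf 336) (.lf 0))))) (.nd (.nd (.nd (.nd (.lf 0) (.lf 594)) (.nd (.lf 0)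 (.lf 0))) (.nd (.nd (.lf 244) (.lf 721)) (.nd (.lf 82) (.lf 0)))) (.nd (.nd (.nd (.lf 0) (.lf 0)) (.nd (.lf 0) (.lf 0))) (.nd (.nd (.lf 0) (.lf 0)) (.nd (.lf 253) (.lf 0))))))

/-- table part -/
def rkT_10 : Tr :=
  .nd rkT_8 rkT_9

/-- table part -/
def rkT_11 : Tr :=
  .nd (.nd (.nd (.nd (.nd (.nd (.lf 0) (.lf 327)) (.nd (.lf 84) (.lf 0))) (.nd (.nd (.lf 219) (.lf 697)) (.nd (.lf 0) (.lf 0)))) (.nd (.nd (.nd (.lf 127) (.lf 449)) (.nd (.lf 541) (.lf 0))) (.nd (.nd (.lf 454) (.lf 696)) (.nd (.lf 562) (.lf 0))))) (.nd (.nd (.nd (.nd (.lf 0) (.lf 162)) (.nd (.lf 586) (.lf 0))) (.nd (.nd (.lf 0) (.lf 470)) (.nd (.lf 0) (.lf 0)))) (.nd (.nd (.nd (.lf 52) (.lf 468)) (.nd (.lf 0) (.lf 0))) (.nd (.nd (.lf 78) (.lf 0)) (.nd (.lf 290) (.lf 0)))))) (.nd (.nd (.nd (.nd (.nd (.lf 0) (.lf 393)) (.nd (.lf 0) (.lf 0))) (.nd (.nd (.lf 0) (.lf 217)) (.nd (.lf 269) (.lf 0)))) (.nd (.nd (.nd (.lf 0) (.lf 351)) (.nd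 (.lf 0) (.lf 0))) (.nd (.nd (.lf 258) (.lf 0)) (.nd (.lf 161) (.lf 0))))) (.nd (.nd (.nd (.nd (.lf 0) (.lf 452)) (.nd (.lf 361) (.lf 0))) (.nd (.nd (.lf 0) (.lf 421)) (.nd (.lf 445) (.lf 0)))) (.nd (.nd (.nd (.lf 447) (.lf 0)) (.nd (.lf 0) (.lf 0))) (.nd (.nd (.lf 0) (.lf 0)) (.nd (.lf 487) (.lf 0))))))

/-- table part -/
def rkT_12 : Tr :=
  .nd (.nd (.nd (.nd (.nd (.nd (.lf 0) (.lf 237)) (.nd (.lf 0) (.lf 0))) (.nd (.nd (.lf 0) (.lf 543)) (.nd (.lf 0) (.lf 0)))) (.nd (.nd (.nd (.lf 0) (.lf 715)) (.nd (.lf 0) (.lf 0))) (.nd (.nd (.lf 0) (.lf 345)) (.nd (.lf 0) (.lf 0))))) (.nd (.nd (.nd (.nd (.lf 0) (.lf 0)) (.nd (.lf 12) (.lf 0))) (.nd (.nd (.lf 196) (.lf 255)) (.nd (.lf 400) (.lf 0)))) (.nd (.nd (.nd (.lf 0) (.lf 634)) (.nd (.lf 554) (.lf 0))) (.nd (.nd (.lf 119) (.lf 0)) (.nd (.lf 0) (.lf 0)))))) (.nd (.nd (.nd (.nd (.nd (.lf 0) (.lf 0)) (.nd (.lf 278) (.lf 0))) (.nd (.nd (.lf 0) (.lf 571))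 (.nd (.lf 33) (.lf 0)))) (.nd (.nd (.nd (.lf 0) (.lf 357)) (.nd (.lf 542) (.lf 0))) (.nd (.nd (.lf 0) (.lf 0)) (.nd (.lf 323) (.lf 0))))) (.nd (.nd (.nd (.nd (.lf 0) (.lf 505)) (.nd (.lf 0) (.lf 0))) (.nd (.nd (.lf 0) (.lf 588)) (.nd (.lf 41) (.lf 0)))) (.nd (.nd (.nd (.lf 0) (.lf 578)) (.nd (.lf 88) (.lf 0))) (.nd (.nd (.lf 0) (.lf 0)) (.nd (.lf 576) (.lf 0))))))

/-- table part -/
def rkT_13 : Tr :=
  .nd rkT_11 rkT_12

/-- table part -/
def rkT_14 : Tr :=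
  .nd rkT_10 rkT_13

/-- table part -/
def rkT_15 : Tr :=
  .nd rkT_7 rkT_14

/-- table part -/
def rkT_16 : Tr :=
  .nd (.nd (.nd (.nd (.nd (.nd (.lf 0) (.lf 0)) (.nd (.lf 218) (.lf 0))) (.nd (.nd (.lf 0) (.lf 228)) (.nd (.lf 450) (.lf 0)))) (.nd (.nd (.nd (.lf 0) (.lf 0)) (.nd (.lf 618) (.lf 0))) (.nd (.nd (.lf 0) (.lf 530)) (.nd (.lf 0) (.lf 0))))) (.nd (.nd (.nd (.nd (.lf 0) (.lf 522)) (.nd (.lf 49) (.lf 0))) (.nd (.nd (.lf 0) (.lf 627)) (.nd (.lf 0) (.lf 0)))) (.nd (.nd (.nd (.lf 0) (.lf 685)) (.nd (.lf 368) (.lf 0))) (.nd (.nd (.lf 121) (.lf 0)) (.nd (.lf 577) (.lf 0)))))) (.nd (.nd (.nd (.nd (.nd (.lf 0) (.lf 274)) (.nd (.lf 0) (.lf 0))) (.nd (.nd (.lf 0) (.lf 691)) (.nd (.lf 620) (.lf 0)))) (.nd (.nd (.nd (.lf 0) (.lf 498)) (.nd (.lf 0) (.lf 0))) (.nd (.nd (.lf 0) (.lf 0)) (.nd (.lf 97) (.lf 0))))) (.nd (.nd (.nd (.nd (.lf 0) (.lf 91)) (.nd (.lf 212) (.lf 0))) (.nd (.nd (.lf 0) (.lf 183))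 (.nd (.lf 614) (.lf 0)))) (.nd (.nd (.nd (.lf 0) (.lf 21)) (.nd (.lf 0) (.lf 0))) (.nd (.nd (.lf 283) (.lf 0)) (.nd (.lf 314) (.lf 0))))))

/-- table part -/
def rkT_17 : Tr :=
  .nd (.nd (.nd (.nd (.nd (.nd (.lf 0) (.lf 587)) (.nd (.lf 686) (.lf 0))) (.nd (.nd (.lf 0) (.lf 441)) (.nd (.lf 384) (.lf 0)))) (.nd (.nd (.nd (.lf 18) (.lf 603)) (.nd (.lf 280) (.lf 0))) (.nd (.nd (.lf 0) (.lf 681)) (.nd (.lf 414) (.lf 0))))) (.nd (.nd (.nd (.nd (.lf 0) (.lf 0)) (.nd (.lf 0) (.lf 0))) (.nd (.nd (.lf 0) (.lf 286)) (.nd (.lf 267) (.lf 0)))) (.nd (.nd (.nd (.lf 0) (.lf 484)) (.nd (.lf 413) (.lf 0))) (.nd (.nd (.lf 0) (.lf 0)) (.nd (.lf 275) (.lf 0)))))) (.nd (.nd (.nd (.nd (.nd (.lf 0) (.lf 0)) (.nd (.lf 77) (.lf 0))) (.nd (.nd (.lf 130) (.lf 365)) (.nd (.lf 0) (.lf 0)))) (.nd (.nd (.nd (.lf 0) (.lf 613)) (.nd (.lf 349) (.lf 0))) (.nd (.nd (.lf 605) (.lf 0)) (.nd (.lf 411) (.lf 0))))) (.nd (.nd (.nd (.nd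 (.lf 0) (.lf 641)) (.nd (.lf 0) (.lf 0))) (.nd (.nd (.lf 0) (.lf 646)) (.nd (.lf 0) (.lf 0)))) (.nd (.nd (.nd (.lf 0) (.lf 333)) (.nd (.lf 574) (.lf 0))) (.nd (.nd (.lf 0) (.lf 0)) (.nd (.lf 504) (.lf 0))))))

/-- table part -/
def rkT_18 : Tr :=
  .nd rkT_16 rkT_17

/-- table part -/
def rkT_19 : Tr :=
  .nd (.nd (.nd (.nd (.nd (.nd (.lf 0) (.lf 254)) (.nd (.lf 0) (.lf 0))) (.nd (.nd (.lf 0) (.lf 180)) (.nd (.lf 0) (.lf 0)))) (.nd (.nd (.nd (.lf 0) (.lf 630)) (.nd (.lf 0) (.lf 0))) (.nd (.nd (.lf 343) (.lf 652)) (.nd (.lf 672) (.lf 0))))) (.nd (.nd (.nd (.nd (.lf 0) (.lf 0)) (.nd (.lf 0) (.lf 0))) (.nd (.nd (.lf 0) (.lf 702)) (.nd (.lf 657) (.lf 0)))) (.nd (.nd (.nd (.lf 53) (.lf 430)) (.nd (.lf 0) (.lf 0))) (.nd (.nd (.lf 152) (.lf 0)) (.nd (.lf 225) (.lf 0)))))) (.nd (.nd (.nd (.nd (.nd (.lf 0) (.lf 0)) (.nd (.lf 0) (.lf 0))) (.nd (.nd (.lf 0) (.lf 695)) (.nd (.lf 0) (.lf 0)))) (.nd (.nd (.nd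 (.lf 0) (.lf 581)) (.nd (.lf 0) (.lf 0))) (.nd (.nd (.lf 0) (.lf 0)) (.nd (.lf 0) (.lf 0))))) (.nd (.nd (.nd (.nd (.lf 0) (.lf 1)) (.nd (.lf 0) (.lf 0))) (.nd (.nd (.lf 24) (.lf 483)) (.nd (.lf 156) (.lf 0)))) (.nd (.nd (.nd (.lf 0) (.lf 716)) (.nd (.lf 32) (.lf 0))) (.nd (.nd (.lf 150) (.lf 0)) (.nd (.lf 0) (.lf 0))))))

/-- table part -/
def rkT_20 : Tr :=
  .nd (.nd (.nd (.nd (.nd (.nd (.lf 0) (.lf 0)) (.nd (.lf 157) (.lf 0))) (.nd (.nd (.lf 0) (.lf 0)) (.nd (.lf 0) (.lf 0)))) (.nd (.nd (.nd (.lf 0) (.lf 0)) (.nd (.lf 0) (.lf 0))) (.nd (.nd (.lf 424) (.lf 703)) (.nd (.lf 548) (.lf 0))))) (.nd (.nd (.nd (.nd (.lf 0) (.lf 143)) (.nd (.lf 0) (.lf 0))) (.nd (.nd (.lf 0) (.lf 601)) (.nd (.lf 575) (.lf 0)))) (.nd (.nd (.nd (.lf 0) (.lf 608)) (.nd (.lf 0) (.lf 0))) (.nd (.nd (.lf 170) (.lf 0)) (.nd (.lf 173) (.lf 0)))))) (.nd (.nd (.nd (.nd (.nd (.lf 0) (.lf 0)) (.nd (.lf 107) (.lf 0))) (.nd (.nd (.lf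 0) (.lf 443)) (.nd (.lf 0) (.lf 0)))) (.nd (.nd (.nd (.lf 0) (.lf 648)) (.nd (.lf 249) (.lf 0))) (.nd (.nd (.lf 0) (.lf 0)) (.nd (.lf 431) (.lf 0))))) (.nd (.nd (.nd (.nd (.lf 0) (.lf 494)) (.nd (.lf 0) (.lf 0))) (.nd (.nd (.lf 70) (.lf 585)) (.nd (.lf 139) (.lf 0)))) (.nd (.nd (.nd (.lf 120) (.lf 680)) (.nd (.lf 0) (.lf 0))) (.nd (.nd (.lf 0) (.lf 0)) (.nd (.lf 128) (.lf 0))))))

/-- table part -/
def rkT_21 : Tr :=
  .nd rkT_19 rkT_20

/-- table part -/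
def rkT_22 : Tr :=
  .nd rkT_18 rkT_21

/-- table part -/
def rkT_23 : Tr :=
  .nd (.nd (.nd (.nd (.nd (.nd (.lf 0) (.lf 0)) (.nd (.lf 106) (.lf 0))) (.nd (.nd (.lf 0) (.lf 529)) (.nd (.lf 0) (.lf 0)))) (.nd (.nd (.nd (.lf 0) (.lf 615)) (.nd (.lf 0) (.lf 0))) (.nd (.nd (.lf 0) (.lf 195)) (.nd (.lf 699) (.lf 0))))) (.nd (.nd (.nd (.nd (.lf 0) (.lf 528)) (.nd (.lf 525) (.lf 0))) (.nd (.nd (.lf 0) (.lf 523)) (.nd (.lf 0) (.lf 0)))) (.nd (.nd (.nd (.lf 0) (.lf 552)) (.nd (.lf 0) (.lf 0))) (.nd (.nd (.lf 0) (.lf 0)) (.nd (.lf 0) (.lf 0)))))) (.nd (.nd (.nd (.nd (.nd (.lf 0) (.lf 415)) (.nd (.lf 0) (.lf 0))) (.nd (.nd (.lf 604) (.lf 155)) (.nd (.lf 0) (.lf 0)))) (.nd (.nd (.nd (.lf 0) (.lf 636)) (.nd (.lf 0) (.lf 0))) (.nd (.nd (.lf 0) (.lf 0)) (.nd (.lf 347) (.lf 0))))) (.nd (.nd (.nd (.nd (.lf 0) (.lf 673)) (.nd (.lf 0) (.lf 0))) (.nd (.nd (.lf 0) (.lf 563)) (.nd (.lf 305) (.lf 0)))) (.nd (.nd (.nd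 (.lf 176) (.lf 0)) (.nd (.lf 116) (.lf 0))) (.nd (.nd (.lf 178) (.lf 0)) (.nd (.lf 0) (.lf 0))))))

/-- table part -/
def rkT_24 : Tr :=
  .nd (.nd (.nd (.nd (.nd (.nd (.lf 0) (.lf 0)) (.nd (.lf 0) (.lf 0))) (.nd (.nd (.lf 0) (.lf 68)) (.nd (.lf 350) (.lf 0)))) (.nd (.nd (.nd (.lf 0) (.lf 491)) (.nd (.lf 67) (.lf 0))) (.nd (.nd (.lf 0) (.lf 190)) (.nd (.lf 326) (.lf 0))))) (.nd (.nd (.nd (.nd (.lf 0) (.lf 47)) (.nd (.lf 438) (.lf 0))) (.nd (.nd (.lf 0) (.lf 233)) (.nd (.lf 520) (.lf 0)))) (.nd (.nd (.nd (.lf 0) (.lf 0)) (.nd (.lf 0) (.lf 0))) (.nd (.nd (.lf 270) (.lf 0)) (.nd (.lf 145) (.lf 0)))))) (.nd (.nd (.nd (.nd (.nd (.lf 0) (.lf 556)) (.nd (.lf 0) (.lf 0))) (.nd (.nd (.lf 0) (.lf 628)) (.nd (.lf 340) (.lf 0)))) (.nd (.nd (.nd (.lf 0) (.lf 589)) (.nd (.lf 0) (.lf 0))) (.nd (.nd (.lf 488) (.lf 0)) (.nd (.lf 321) (.lf 0))))) (.nd (.nd (.nd (.nd (.lf 0) (.lf 111)) (.nd (.lf 0) (.lf 0))) (.nd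 (.nd (.lf 0) (.lf 117)) (.nd (.lf 490) (.lf 0)))) (.nd (.nd (.nd (.lf 0) (.lf 201)) (.nd (.lf 624) (.lf 0))) (.nd (.nd (.lf 19) (.lf 0)) (.nd (.lf 293) (.lf 0))))))

/-- table part -/
def rkT_25 : Tr :=
  .nd rkT_23 rkT_24

/-- table part -/
def rkT_26 : Tr :=
  .nd (.nd (.nd (.nd (.nd (.nd (.lf 0) (.lf 317)) (.nd (.lf 422) (.lf 0))) (.nd (.nd (.lf 0) (.lf 80)) (.nd (.lf 0) (.lf 0)))) (.nd (.nd (.nd (.lf 0) (.lf 713)) (.nd (.lf 0) (.lf 0))) (.nd (.nd (.lf 0) (.lf 714)) (.nd (.lf 296) (.lf 0))))) (.nd (.nd (.nd (.nd (.lf 0) (.lf 260)) (.nd (.lf 0) (.lf 0))) (.nd (.nd (.lf 0) (.lf 221)) (.nd (.lf 207) (.lf 0)))) (.nd (.nd (.nd (.lf 0) (.lf 0)) (.nd (.lf 0) (.lf 0))) (.nd (.nd (.lf 0) (.lf 0)) (.nd (.lf 360) (.lf 0)))))) (.nd (.nd (.nd (.nd (.nd (.lf 0) (.lf 223)) (.nd (.lf 0) (.lf 0))) (.nd (.nd (.lf 0) (.lf 503)) (.nd (.lf 0) (.lf 0)))) (.nd (.nd (.nd (.lf 0) (.lf 455)) (.nd (.lf 0) (.lf 0))) (.nd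 (.nd (.lf 0) (.lf 0)) (.nd (.lf 250) (.lf 0))))) (.nd (.nd (.nd (.nd (.lf 0) (.lf 171)) (.nd (.lf 311) (.lf 0))) (.nd (.nd (.lf 0) (.lf 546)) (.nd (.lf 621) (.lf 0)))) (.nd (.nd (.nd (.lf 0) (.lf 600)) (.nd (.lf 0) (.lf 0))) (.nd (.nd (.lf 0) (.lf 0)) (.nd (.lf 186) (.lf 0))))))

/-- table part -/
def rkT_27 : Tr :=
  .nd (.nd (.nd (.nd (.nd (.nd (.lf 0) (.lf 0)) (.nd (.lf 324) (.lf 0))) (.nd (.nd (.lf 0) (.lf 0)) (.nd (.lf 331) (.lf 0)))) (.nd (.nd (.nd (.lf 0) (.lf 644)) (.nd (.lf 642) (.lf 0))) (.nd (.nd (.lf 0) (.lf 533)) (.nd (.lf 25) (.lf 0))))) (.nd (.nd (.nd (.nd (.lf 0) (.lf 0)) (.nd (.lf 0) (.lf 0))) (.nd (.nd (.lf 0) (.lf 131)) (.nd (.lf 557) (.lf 0)))) (.nd (.nd (.nd (.lf 0) (.lf 432)) (.nd (.lf 0) (.lf 0))) (.nd (.nd (.lf 386) (.lf 0)) (.nd (.lf 288) (.lf 0)))))) (.nd (.nd (.nd (.nd (.nd (.lf 0) (.lf 0)) (.nd (.lf 26) (.lf 0))) (.nd (.nd (.lf 0) (.lf 668)) (.nd (.lf 408) (.lf 0))))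 (.nd (.nd (.nd (.lf 22) (.lf 0)) (.nd (.lf 0) (.lf 0))) (.nd (.nd (.lf 0) (.lf 0)) (.nd (.lf 0) (.lf 0))))) (.nd (.nd (.nd (.nd (.lf 0) (.lf 645)) (.nd (.lf 650) (.lf 0))) (.nd (.nd (.lf 0) (.lf 239)) (.nd (.lf 17) (.lf 0)))) (.nd (.nd (.nd (.lf 0) (.lf 301)) (.nd (.lf 0) (.lf 0))) (.nd (.nd (.lf 303) (.lf 0)) (.nd (.lf 252) (.lf 0))))))

/-- table part -/
def rkT_28 : Tr :=
  .nd rkT_26 rkT_27

/-- table part -/
def rkT_29 : Tr :=
  .nd rkT_25 rkT_28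

/-- table part -/
def rkT_30 : Tr :=
  .nd rkT_22 rkT_29

/-- table part -/
def rkT_31 : Tr :=
  .nd rkT_15 rkT_30

/-- table part -/
def rkT_32 : Tr :=
  .nd (.nd (.nd (.nd (.nd (.nd (.lf 0) (.lf 0)) (.nd (.lf 0) (.lf 0))) (.nd (.nd (.lf 0) (.lf 289)) (.nd (.lf 0) (.lf 0)))) (.nd (.nd (.nd (.lf 0) (.lf 0)) (.nd (.lf 56) (.lf 0))) (.nd (.nd (.lf 0) (.lf 105)) (.nd (.lf 273) (.lf 0))))) (.nd (.nd (.nd (.nd (.lf 0) (.lf 580)) (.nd (.lf 0) (.lf 0))) (.nd (.nd (.lf 0) (.lf 89)) (.nd (.lf 0) (.lf 0)))) (.nd (.nd (.nd (.lf 0) (.lf 701)) (.nd (.lf 367) (.lf 0))) (.nd (.nd (.lf 0) (.lf 0)) (.nd (.lf 374) (.lf 0)))))) (.nd (.nd (.nd (.nd (.nd (.lf 0) (.lf 0)) (.nd (.lf 457) (.lf 0))) (.nd (.nd (.lf 0) (.lf 683)) (.nd (.lf 0) (.lf 0)))) (.nd (.nd (.nd (.lf 0) (.lf 665)) (.nd (.lf 0) (.lf 0))) (.nd (.nd (.lf 0) (.lf 0)) (.nd (.lf 467) (.lf 0))))) (.nd (.nd (.nd (.nd (.lf 0) (.lf 0)) (.nd (.lf 0) (.lf 0)))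 (.nd (.nd (.lf 76) (.lf 0)) (.nd (.lf 0) (.lf 0)))) (.nd (.nd (.nd (.lf 0) (.lf 527)) (.nd (.lf 704) (.lf 0))) (.nd (.nd (.lf 352) (.lf 0)) (.nd (.lf 0) (.lf 0))))))

/-- table part -/
def rkT_33 : Tr :=
  .nd (.nd (.nd (.nd (.nd (.nd (.lf 0) (.lf 597)) (.nd (.lf 0) (.lf 0))) (.nd (.nd (.lf 0) (.lf 230)) (.nd (.lf 51) (.lf 0)))) (.nd (.nd (.nd (.lf 0) (.lf 0)) (.nd (.lf 159) (.lf 0))) (.nd (.nd (.lf 0) (.lf 224)) (.nd (.lf 0) (.lf 0))))) (.nd (.nd (.nd (.nd (.lf 0) (.lf 0)) (.nd (.lf 564) (.lf 0))) (.nd (.nd (.lf 0) (.lf 5)) (.nd (.lf 129) (.lf 0)))) (.nd (.nd (.nd (.lf 0) (.lf 167)) (.nd (.lf 0) (.lf 0))) (.nd (.nd (.lf 391) (.lf 0)) (.nd (.lf 0) (.lf 0)))))) (.nd (.nd (.nd (.nd (.nd (.lf 0) (.lf 669)) (.nd (.lf 75) (.lf 0))) (.nd (.nd (.lf 181) (.lf 276)) (.nd (.lf 0) (.lf 0)))) (.nd (.nd (.nd (.lf 0) (.lf 248)) (.nd (.lf 0) (.lf 0))) (.nd (.nd (.lf 442) (.lf 0)) (.nd (.lf 0) (.lf 0))))) (.nd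 (.nd (.nd (.nd (.lf 0) (.lf 501)) (.nd (.lf 0) (.lf 0))) (.nd (.nd (.lf 313) (.lf 440)) (.nd (.lf 141) (.lf 0)))) (.nd (.nd (.nd (.lf 0) (.lf 366)) (.nd (.lf 0) (.lf 0))) (.nd (.nd (.lf 0) (.lf 0)) (.nd (.lf 0) (.lf 0))))))

/-- table part -/
def rkT_34 : Tr :=
  .nd rkT_32 rkT_33

/-- table part -/
def rkT_35 : Tr :=
  .nd (.nd (.nd (.nd (.nd (.nd (.lf 0) (.lf 712)) (.nd (.lf 14) (.lf 0))) (.nd (.nd (.lf 0) (.lf 537)) (.nd (.lf 506) (.lf 0)))) (.nd (.nd (.nd (.lf 0) (.lf 330)) (.nd (.lf 0) (.lf 0))) (.nd (.nd (.lf 39) (.lf 544)) (.nd (.lf 482) (.lf 0))))) (.nd (.nd (.nd (.nd (.lf 0) (.lf 0)) (.nd (.lf 0) (.lf 0))) (.nd (.nd (.lf 0) (.lf 521)) (.nd (.lf 572) (.lf 0)))) (.nd (.nd (.nd (.lf 0) (.lf 590)) (.nd (.lf 0) (.lf 0))) (.nd (.nd (.lf 0) (.lf 0)) (.nd (.lf 495) (.lf 0)))))) (.nd (.nd (.nd (.nd (.nd (.lf 0) (.lf 0)) (.nd (.lf 0) (.lf 0))) (.nd (.nd (.lf 0) (.lf 363)) (.nd (.lf 492) (.lf 0))))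 (.nd (.nd (.nd (.lf 0) (.lf 476)) (.nd (.lf 0) (.lf 0))) (.nd (.nd (.lf 0) (.lf 0)) (.nd (.lf 0) (.lf 0))))) (.nd (.nd (.nd (.nd (.lf 0) (.lf 0)) (.nd (.lf 569) (.lf 0))) (.nd (.nd (.lf 13) (.lf 0)) (.nd (.lf 0) (.lf 0)))) (.nd (.nd (.nd (.lf 356) (.lf 372)) (.nd (.lf 0) (.lf 0))) (.nd (.nd (.lf 222) (.lf 0)) (.nd (.lf 456) (.lf 0))))))

/-- table part -/
def rkT_36 : Tr :=
  .nd (.nd (.nd (.nd (.nd (.nd (.lf 0) (.lf 513)) (.nd (.lf 0) (.lf 0))) (.nd (.nd (.lf 0) (.lf 251)) (.nd (.lf 142) (.lf 0)))) (.nd (.nd (.nd (.lf 0) (.lf 318)) (.nd (.lf 0) (.lf 0))) (.nd (.nd (.lf 309) (.lf 242)) (.nd (.lf 339) (.lf 0))))) (.nd (.nd (.nd (.nd (.lf 0) (.lf 524)) (.nd (.lf 376) (.lf 0))) (.nd (.nd (.lf 418) (.lf 625)) (.nd (.lf 344) (.lf 0)))) (.nd (.nd (.nd (.lf 302) (.lf 389)) (.nd (.lf 0) (.lf 0))) (.nd (.nd (.lf 48) (.lf 0)) (.nd (.lf 16) (.lf 0)))))) (.nd (.nd (.nd (.nd (.nd (.lf 0) (.lf 560)) (.nd (.lf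 0) (.lf 0))) (.nd (.nd (.lf 0) (.lf 387)) (.nd (.lf 423) (.lf 0)))) (.nd (.nd (.nd (.lf 0) (.lf 375)) (.nd (.lf 0) (.lf 0))) (.nd (.nd (.lf 154) (.lf 0)) (.nd (.lf 164) (.lf 0))))) (.nd (.nd (.nd (.nd (.lf 0) (.lf 631)) (.nd (.lf 0) (.lf 0))) (.nd (.nd (.lf 243) (.lf 711)) (.nd (.lf 65) (.lf 0)))) (.nd (.nd (.nd (.lf 0) (.lf 43)) (.nd (.lf 0) (.lf 0))) (.nd (.nd (.lf 0) (.lf 0)) (.nd (.lf 0) (.lf 0))))))

/-- table part -/
def rkT_37 : Tr :=
  .nd rkT_35 rkT_36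

/-- table part -/
def rkT_38 : Tr :=
  .nd rkT_34 rkT_37

/-- table part -/
def rkT_39 : Tr :=
  .nd (.nd (.nd (.nd (.nd (.nd (.lf 0) (.lf 402)) (.nd (.lf 0) (.lf 0))) (.nd (.nd (.lf 45) (.lf 420)) (.nd (.lf 0) (.lf 0)))) (.nd (.nd (.nd (.lf 0) (.lf 451)) (.nd (.lf 0) (.lf 0))) (.nd (.nd (.lf 0) (.lf 102)) (.nd (.lf 664) (.lf 0))))) (.nd (.nd (.nd (.nd (.lf 0) (.lf 717)) (.nd (.lf 210) (.lf 0))) (.nd (.nd (.lf 0) (.lf 234)) (.nd (.lf 611) (.lf 0)))) (.nd (.nd (.nd (.lf 0) (.lf 132)) (.nd (.lf 0) (.lf 0))) (.nd (.nd (.lf 0) (.lf 0)) (.nd (.lf 0) (.lf 0)))))) (.nd (.nd (.nd (.nd (.nd (.lf 0) (.lf 294)) (.nd (.lf 0) (.lf 0))) (.nd (.nd (.lf 0) (.lf 74)) (.nd (.lf 0) (.lf 0)))) (.nd (.nd (.nd (.lf 0) (.lf 0)) (.nd (.lf 54) (.lf 0))) (.nd (.nd (.lf 0) (.lf 0)) (.nd (.lf 406) (.lf 0))))) (.nd (.nd (.nd (.nd (.lf 0) (.lf 583)) (.nd (.lf 0) (.lf 0))) (.nd (.nd (.lf 0) (.lf 335)) (.nd (.lf 0) (.lf 0))))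 (.nd (.nd (.nd (.lf 0) (.lf 264)) (.nd (.lf 0) (.lf 0))) (.nd (.nd (.lf 284) (.lf 0)) (.nd (.lf 0) (.lf 0))))))

/-- table part -/
def rkT_40 : Tr :=
  .nd (.nd (.nd (.nd (.nd (.nd (.lf 0) (.lf 316)) (.nd (.lf 0) (.lf 0))) (.nd (.nd (.lf 0) (.lf 519)) (.nd (.lf 177) (.lf 0)))) (.nd (.nd (.nd (.lf 0) (.lf 659)) (.nd (.lf 310) (.lf 0))) (.nd (.nd (.lf 428) (.lf 478)) (.nd (.lf 555) (.lf 0))))) (.nd (.nd (.nd (.nd (.lf 0) (.lf 28)) (.nd (.lf 0) (.lf 0))) (.nd (.nd (.lf 0) (.lf 497)) (.nd (.lf 0) (.lf 0)))) (.nd (.nd (.nd (.lf 0) (.lf 10)) (.nd (.lf 0) (.lf 0))) (.nd (.nd (.lf 0) (.lf 0)) (.nd (.lf 0) (.lf 0)))))) (.nd (.nd (.nd (.nd (.nd (.lf 0) (.lf 558)) (.nd (.lf 189) (.lf 0))) (.nd (.nd (.lf 0) (.lf 511)) (.nd (.lf 0) (.lf 0)))) (.nd (.nd (.nd (.lf 0) (.lf 165)) (.nd (.lf 0) (.lf 0))) (.nd (.nd (.lf 90) (.lf 0)) (.nd (.lf 257) (.lf 0))))) (.nd (.nd (.nd (.nd (.lf 0) (.lf 626)) (.nd (.lf 0) (.lf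 0))) (.nd (.nd (.lf 0) (.lf 708)) (.nd (.lf 407) (.lf 0)))) (.nd (.nd (.nd (.lf 0) (.lf 436)) (.nd (.lf 136) (.lf 0))) (.nd (.nd (.lf 0) (.lf 0)) (.nd (.lf 320) (.lf 0))))))

/-- table part -/
def rkT_41 : Tr :=
  .nd rkT_39 rkT_40

/-- table part -/
def rkT_42 : Tr :=
  .nd (.nd (.nd (.nd (.nd (.nd (.lf 0) (.lf 435)) (.nd (.lf 0) (.lf 0))) (.nd (.nd (.lf 0) (.lf 675)) (.nd (.lf 0) (.lf 0)))) (.nd (.nd (.nd (.lf 0) (.lf 0)) (.nd (.lf 0) (.lf 0))) (.nd (.nd (.lf 0) (.lf 693)) (.nd (.lf 687) (.lf 0))))) (.nd (.nd (.nd (.nd (.lf 35) (.lf 199)) (.nd (.lf 508) (.lf 0))) (.nd (.nd (.lf 0) (.lf 205)) (.nd (.lf 474) (.lf 0)))) (.nd (.nd (.nd (.lf 0) (.lf 103)) (.nd (.lf 0) (.lf 0))) (.nd (.nd (.lf 0) (.lf 0)) (.nd (.lf 341) (.lf 0)))))) (.nd (.nd (.nd (.nd (.nd (.lf 0) (.lf 378)) (.nd (.lf 11) (.lf 0))) (.nd (.nd (.lf 0) (.lf 277)) (.nd (.lf 332) (.lf 0)))) (.nd (.nd (.nd (.lf 55) (.lf 83)) (.nd (.lf 0)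 (.lf 0))) (.nd (.nd (.lf 0) (.lf 0)) (.nd (.lf 197) (.lf 0))))) (.nd (.nd (.nd (.nd (.lf 0) (.lf 0)) (.nd (.lf 240) (.lf 0))) (.nd (.nd (.lf 0) (.lf 643)) (.nd (.lf 0) (.lf 0)))) (.nd (.nd (.nd (.lf 0) (.lf 194)) (.nd (.lf 46) (.lf 0))) (.nd (.nd (.lf 329) (.lf 0)) (.nd (.lf 426) (.lf 0))))))

/-- table part -/
def rkT_43 : Tr :=
  .nd (.nd (.nd (.nd (.nd (.nd (.lf 0) (.lf 0)) (.nd (.lf 0) (.lf 0))) (.nd (.nd (.lf 0) (.lf 718)) (.nd (.lf 591) (.lf 0)))) (.nd (.nd (.nd (.lf 0) (.lf 462)) (.nd (.lf 109) (.lf 0))) (.nd (.nd (.lf 0) (.lf 262)) (.nd (.lf 700) (.lf 0))))) (.nd (.nd (.nd (.nd (.lf 0) (.lf 677)) (.nd (.lf 427) (.lf 0))) (.nd (.nd (.lf 0) (.lf 553)) (.nd (.lf 0) (.lf 0)))) (.nd (.nd (.nd (.lf 0) (.lf 489)) (.nd (.lf 0) (.lf 0))) (.nd (.nd (.lf 0) (.lf 0)) (.nd (.lf 138) (.lf 0)))))) (.nd (.nd (.nd (.nd (.nd (.lf 0) (.lf 6)) (.nd (.lf 0) (.lf 0))) (.nd (.nd (.lf 0) (.lf 651)) (.nd (.lf 0)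 (.lf 0)))) (.nd (.nd (.nd (.lf 0) (.lf 499)) (.nd (.lf 464) (.lf 0))) (.nd (.nd (.lf 0) (.lf 0)) (.nd (.lf 295) (.lf 0))))) (.nd (.nd (.nd (.nd (.lf 0) (.lf 0)) (.nd (.lf 0) (.lf 0))) (.nd (.nd (.lf 0) (.lf 671)) (.nd (.lf 163) (.lf 0)))) (.nd (.nd (.nd (.lf 175) (.lf 0)) (.nd (.lf 115) (.lf 0))) (.nd (.nd (.lf 0) (.lf 0)) (.nd (.lf 188) (.lf 0))))))

/-- table part -/
def rkT_44 : Tr :=
  .nd rkT_42 rkT_43

/-- table part -/
def rkT_45 : Tr :=
  .nd rkT_41 rkT_44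

/-- table part -/
def rkT_46 : Tr :=
  .nd rkT_38 rkT_45

/-- table part -/
def rkT_47 : Tr :=
  .nd (.nd (.nd (.nd (.nd (.nd (.lf 0) (.lf 99)) (.nd (.lf 0) (.lf 0))) (.nd (.nd (.lf 0) (.lf 50)) (.nd (.lf 602) (.lf 0)))) (.nd (.nd (.nd (.lf 0) (.lf 465)) (.nd (.lf 0) (.lf 0))) (.nd (.nd (.lf 271) (.lf 540)) (.nd (.lf 381) (.lf 0))))) (.nd (.nd (.nd (.nd (.lf 0) (.lf 622)) (.nd (.lf 379) (.lf 0))) (.nd (.nd (.lf 0) (.lf 404)) (.nd (.lf 198) (.lf 0)))) (.nd (.nd (.nd (.lf 531) (.lf 609)) (.nd (.lf 460) (.lf 0))) (.nd (.nd (.lf 0) (.lf 0)) (.nd (.lf 0) (.lf 0)))))) (.nd (.nd (.nd (.nd (.nd (.lf 0) (.lf 3)) (.nd (.lf 182) (.lf 0))) (.nd (.nd (.lf 0) (.lf 690)) (.nd (.lf 0) (.lf 0)))) (.nd (.nd (.nd (.lf 0) (.lf 612)) (.nd (.lf 0) (.lf 0))) (.nd (.nd (.lf 0) (.lf 0)) (.nd (.lf 0) (.lf 0))))) (.nd (.nd (.nd (.nd (.lf 0) (.lf 95)) (.nd (.lf 0) (.lf 0))) (.nd (.nd (.lf 403) (.lf 307)) (.nd (.lf 477) (.lf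 0)))) (.nd (.nd (.nd (.lf 0) (.lf 146)) (.nd (.lf 0) (.lf 0))) (.nd (.nd (.lf 382) (.lf 0)) (.nd (.lf 444) (.lf 0))))))

/-- table part -/
def rkT_48 : Tr :=
  .nd (.nd (.nd (.nd (.nd (.nd (.lf 0) (.lf 567)) (.nd (.lf 0) (.lf 0))) (.nd (.nd (.lf 0) (.lf 466)) (.nd (.lf 401) (.lf 0)))) (.nd (.nd (.nd (.lf 0) (.lf 705)) (.nd (.lf 2) (.lf 0))) (.nd (.nd (.lf 241) (.lf 0)) (.nd (.lf 559) (.lf 0))))) (.nd (.nd (.nd (.nd (.lf 0) (.lf 227)) (.nd (.lf 0) (.lf 0))) (.nd (.nd (.lf 0) (.lf 390)) (.nd (.lf 0) (.lf 0)))) (.nd (.nd (.nd (.lf 0) (.lf 203)) (.nd (.lf 0) (.lf 0))) (.nd (.nd (.lf 0) (.lf 0)) (.nd (.lf 394) (.lf 0)))))) (.nd (.nd (.nd (.nd (.nd (.lf 0) (.lf 565)) (.nd (.lf 0) (.lf 0))) (.nd (.nd (.lf 0) (.lf 510)) (.nd (.lf 461) (.lf 0)))) (.nd (.nd (.nd (.lf 0) (.lf 653)) (.nd (.lf 358) (.lf 0))) (.nd (.nd (.lf 0) (.lf 0)) (.nd (.lf 0) (.lf 0))))) (.nd (.nd (.nd (.nd (.lf 0) (.lf 502)) (.nd (.lf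 0) (.lf 0))) (.nd (.nd (.lf 0) (.lf 607)) (.nd (.lf 517) (.lf 0)))) (.nd (.nd (.nd (.lf 200) (.lf 334)) (.nd (.lf 134) (.lf 0))) (.nd (.nd (.lf 0) (.lf 0)) (.nd (.lf 635) (.lf 0))))))

/-- table part -/
def rkT_49 : Tr :=
  .nd rkT_47 rkT_48

/-- table part -/
def rkT_50 : Tr :=
  .nd (.nd (.nd (.nd (.nd (.nd (.lf 0) (.lf 325)) (.nd (.lf 0) (.lf 0))) (.nd (.nd (.lf 0) (.lf 0)) (.nd (.lf 272) (.lf 0)))) (.nd (.nd (.nd (.lf 0) (.lf 656)) (.nd (.lf 429) (.lf 0))) (.nd (.nd (.lf 147) (.lf 192)) (.nd (.lf 655) (.lf 0))))) (.nd (.nd (.nd (.nd (.lf 0) (.lf 598)) (.nd (.lf 480) (.lf 0))) (.nd (.nd (.lf 0) (.lf 720)) (.nd (.lf 709) (.lf 0)))) (.nd (.nd (.nd (.lf 0) (.lf 561)) (.nd (.lf 266) (.lf 0))) (.nd (.nd (.lf 0) (.lf 0)) (.nd (.lf 0) (.lf 0)))))) (.nd (.nd (.nd (.nd (.nd (.lf 0) (.lf 0)) (.nd (.lf 0) (.lf 0))) (.nd (.nd (.lf 0) (.lf 654)) (.nd (.lf 0) (.lf 0)))) (.nd (.nd (.nd (.lf 417) (.lf 338))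 (.nd (.lf 0) (.lf 0))) (.nd (.nd (.lf 0) (.lf 0)) (.nd (.lf 689) (.lf 0))))) (.nd (.nd (.nd (.nd (.lf 0) (.lf 158)) (.nd (.lf 0) (.lf 0))) (.nd (.nd (.lf 0) (.lf 0)) (.nd (.lf 101) (.lf 0)))) (.nd (.nd (.nd (.lf 0) (.lf 719)) (.nd (.lf 0) (.lf 0))) (.nd (.nd (.lf 0) (.lf 0)) (.nd (.lf 518) (.lf 0))))))

/-- table part -/
def rkT_51 : Tr :=
  .nd (.nd (.nd (.nd (.nd (.nd (.lf 0) (.lf 706)) (.nd (.lf 0) (.lf 0))) (.nd (.nd (.lf 306) (.lf 4)) (.nd (.lf 0) (.lf 0)))) (.nd (.nd (.nd (.lf 0) (.lf 69)) (.nd (.lf 63) (.lf 0))) (.nd (.nd (.lf 0) (.lf 649)) (.nd (.lf 549) (.lf 0))))) (.nd (.nd (.nd (.nd (.lf 0) (.lf 0)) (.nd (.lf 0) (.lf 0))) (.nd (.nd (.lf 135) (.lf 610)) (.nd (.lf 259) (.lf 0)))) (.nd (.nd (.nd (.lf 0) (.lf 710)) (.nd (.lf 279) (.lf 0))) (.nd (.nd (.lf 0) (.lf 0)) (.nd (.lf 214) (.lf 0)))))) (.nd (.nd (.nd (.nd (.nd (.lf 0) (.lf 596)) (.nd (.lf 459) (.lf 0))) (.nd (.nd (.lf 0) (.lf 616))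 (.nd (.lf 0) (.lf 0)))) (.nd (.nd (.nd (.lf 0) (.lf 354)) (.nd (.lf 0) (.lf 0))) (.nd (.nd (.lf 193) (.lf 0)) (.nd (.lf 0) (.lf 0))))) (.nd (.nd (.nd (.nd (.lf 0) (.lf 551)) (.nd (.lf 0) (.lf 0))) (.nd (.nd (.lf 66) (.lf 434)) (.nd (.lf 20) (.lf 0)))) (.nd (.nd (.nd (.lf 0) (.lf 547)) (.nd (.lf 0) (.lf 0))) (.nd (.nd (.lf 268) (.lf 0)) (.nd (.lf 166) (.lf 0))))))

/-- table part -/
def rkT_52 : Tr :=
  .nd rkT_50 rkT_51

/-- table part -/
def rkT_53 : Tr :=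
  .nd rkT_49 rkT_52

/-- table part -/
def rkT_54 : Tr :=
  .nd (.nd (.nd (.nd (.nd (.nd (.lf 0) (.lf 566)) (.nd (.lf 0) (.lf 0))) (.nd (.nd (.lf 0) (.lf 472)) (.nd (.lf 377) (.lf 0)))) (.nd (.nd (.nd (.lf 0) (.lf 469)) (.nd (.lf 0) (.lf 0))) (.nd (.nd (.lf 0) (.lf 86)) (.nd (.lf 663) (.lf 0))))) (.nd (.nd (.nd (.nd (.lf 0) (.lf 0)) (.nd (.lf 364) (.lf 0))) (.nd (.nd (.lf 0) (.lf 380)) (.nd (.lf 15) (.lf 0)))) (.nd (.nd (.nd (.lf 0) (.lf 682)) (.nd (.lf 179) (.lf 0))) (.nd (.nd (.lf 213) (.lf 0)) (.nd (.lf 660) (.lf 0)))))) (.nd (.nd (.nd (.nd (.nd (.lf 0) (.lf 206)) (.nd (.lf 0) (.lf 0))) (.nd (.nd (.lf 0) (.lf 104)) (.nd (.lf 0) (.lf 0)))) (.nd (.nd (.nd (.lf 0) (.lf 0)) (.nd (.lf 0) (.lf 0))) (.nd (.nd (.lf 0) (.lf 0)) (.nd (.lf 0) (.lf 0))))) (.nd (.nd (.nd (.nd (.lf 0) (.lf 362)) (.nd (.lf 692) (.lf 0))) (.nd (.nd (.lf 0) (.lf 507)) (.nd (.lf 676) (.lf 0)))) (.nd (.nd (.nd (.lf 0) (.lf 7))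 (.nd (.lf 670) (.lf 0))) (.nd (.nd (.lf 0) (.lf 0)) (.nd (.lf 291) (.lf 0))))))

/-- table part -/
def rkT_55 : Tr :=
  .nd (.nd (.nd (.nd (.nd (.nd (.lf 0) (.lf 0)) (.nd (.lf 0) (.lf 0))) (.nd (.nd (.lf 0) (.lf 348)) (.nd (.lf 0) (.lf 0)))) (.nd (.nd (.nd (.lf 0) (.lf 639)) (.nd (.lf 0) (.lf 0))) (.nd (.nd (.lf 245) (.lf 678)) (.nd (.lf 439) (.lf 0))))) (.nd (.nd (.nd (.nd (.lf 0) (.lf 37)) (.nd (.lf 0) (.lf 0))) (.nd (.nd (.lf 658) (.lf 168)) (.nd (.lf 0) (.lf 0)))) (.nd (.nd (.nd (.lf 0) (.lf 516)) (.nd (.lf 0) (.lf 0))) (.nd (.nd (.lf 0) (.lf 0)) (.nd (.lf 493) (.lf 0)))))) (.nd (.nd (.nd (.nd (.nd (.lf 0) (.lf 433)) (.nd (.lf 0) (.lf 0))) (.nd (.nd (.lf 0) (.lf 485)) (.nd (.lf 0) (.lf 0)))) (.nd (.nd (.nd (.lf 0) (.lf 512)) (.nd (.lf 247) (.lf 0))) (.nd (.nd (.lf 220) (.lf 0)) (.nd (.lf 263) (.lf 0))))) (.nd (.nd (.nd (.nd (.lf 0) (.lf 122)) (.nd (.lf 0) (.lf 0))) (.nd (.nd (.lf 0) (.lf 446))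 (.nd (.lf 231) (.lf 0)))) (.nd (.nd (.nd (.lf 0) (.lf 0)) (.nd (.lf 110) (.lf 0))) (.nd (.nd (.lf 0) (.lf 0)) (.nd (.lf 0) (.lf 0))))))

/-- table part -/
def rkT_56 : Tr :=
  .nd rkT_54 rkT_55

/-- table part -/
def rkT_57 : Tr :=
  .nd (.nd (.nd (.nd (.nd (.nd (.lf 0) (.lf 246)) (.nd (.lf 300) (.lf 0))) (.nd (.nd (.lf 0) (.lf 112)) (.nd (.lf 0) (.lf 0)))) (.nd (.nd (.nd (.lf 0) (.lf 619)) (.nd (.lf 312) (.lf 0))) (.nd (.nd (.lf 73) (.lf 425)) (.nd (.lf 0) (.lf 0))))) (.nd (.nd (.nd (.nd (.lf 0) (.lf 0)) (.nd (.lf 638) (.lf 0))) (.nd (.nd (.lf 59) (.lf 285)) (.nd (.lf 0) (.lf 0)))) (.nd (.nd (.nd (.lf 0) (.lf 573)) (.nd (.lf 539) (.lf 0))) (.nd (.nd (.lf 0) (.lf 0)) (.nd (.lf 0) (.lf 0)))))) (.nd (.nd (.nd (.nd (.nd (.lf 0) (.lf 287)) (.nd (.lf 174) (.lf 0))) (.nd (.nd (.lf 0) (.lf 359)) (.nd (.lf 328) (.lf 0)))) (.nd (.nd (.nd (.lf 0) (.lf 123)) (.nd (.lf 688) (.lf 0))) (.nd (.nd (.lf 0) (.lf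 0)) (.nd (.lf 0) (.lf 0))))) (.nd (.nd (.nd (.nd (.lf 0) (.lf 144)) (.nd (.lf 0) (.lf 0))) (.nd (.nd (.lf 0) (.lf 458)) (.nd (.lf 0) (.lf 0)))) (.nd (.nd (.nd (.lf 0) (.lf 405)) (.nd (.lf 0) (.lf 0))) (.nd (.nd (.lf 0) (.lf 0)) (.nd (.lf 9) (.lf 0))))))

/-- table part -/
def rkT_58 : Tr :=
  .nd (.nd (.nd (.nd (.nd (.nd (.lf 0) (.lf 0)) (.nd (.lf 0) (.lf 0))) (.nd (.nd (.lf 31) (.lf 94)) (.nd (.lf 370) (.lf 0)))) (.nd (.nd (.nd (.lf 87) (.lf 463)) (.nd (.lf 44) (.lf 0))) (.nd (.nd (.lf 315) (.lf 532)) (.nd (.lf 30) (.lf 0))))) (.nd (.nd (.nd (.nd (.lf 0) (.lf 140)) (.nd (.lf 0) (.lf 0))) (.nd (.nd (.lf 0) (.lf 96)) (.nd (.lf 0) (.lf 0)))) (.nd (.nd (.nd (.lf 204) (.lf 582)) (.nd (.lf 0) (.lf 0))) (.nd (.nd (.lf 509) (.lf 0)) (.nd (.lf 395) (.lf 0)))))) (.nd (.nd (.nd (.nd (.nd (.lf 0) (.lf 0)) (.nd (.lf 151) (.lf 0))) (.nd (.nd (.lf 0) (.lf 593)) (.nd (.lf 36) (.lf 0)))) (.nd (.nd (.nd (.lf 0)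 (.lf 187)) (.nd (.lf 0) (.lf 0))) (.nd (.nd (.lf 29) (.lf 0)) (.nd (.lf 191) (.lf 0))))) (.nd (.nd (.nd (.nd (.lf 0) (.lf 8)) (.nd (.lf 282) (.lf 0))) (.nd (.nd (.lf 58) (.lf 229)) (.nd (.lf 0) (.lf 0)))) (.nd (.nd (.nd (.lf 172) (.lf 0)) (.nd (.lf 133) (.lf 0))) (.nd (.nd (.lf 0) (.lf 0)) (.nd (.lf 617) (.lf 0))))))

/-- table part -/
def rkT_59 : Tr :=
  .nd rkT_57 rkT_58

/-- table part -/
def rkT_60 : Tr :=
  .nd rkT_56 rkT_59

/-- table part -/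
def rkT_61 : Tr :=
  .nd rkT_53 rkT_60

/-- table part -/
def rkT_62 : Tr :=
  .nd rkT_46 rkT_61

/-- table part -/
def rkT_63 : Tr :=
  .nd rkT_31 rkT_62

/-- table -/
def rkT : Tr :=
  rkT_63

/-- table part -/
def jsT_1 : Tr :=
  .nd (.nd (.nd (.nd (.nd (.nd (.lf 78354) (.lf 130438)) (.nd (.lf 0) (.lf 0))) (.nd (.nd (.lf 0) (.lf 11422)) (.nd (.lf 97378) (.lf 0)))) (.nd (.nd (.nd (.lf 0) (.lf 0)) (.nd (.lf 0) (.lf 0))) (.nd (.nd (.lf 0) (.lf 13134)) (.nd (.lf 105842) (.lf 0))))) (.nd (.nd (.nd (.nd (.lf 0) (.lf 34750)) (.nd (.lf 0) (.lf 0))) (.nd (.nd (.lf 0) (.lf 14738)) (.nd (.lf 31384) (.lf 0)))) (.nd (.nd (.nd (.lf 0) (.lf 98038)) (.nd (.lf 0) (.lf 0))) (.nd (.nd (.lf 0) (.lf 0)) (.nd (.lf 0) (.lf 0)))))) (.nd (.nd (.nd (.nd (.nd (.lf 0) (.lf 35164)) (.nd (.lf 0) (.lf 0))) (.nd (.nd (.lf 0) (.lf 74354)) (.nd (.lf 0) (.lf 0)))) (.nd (.nd (.nd (.lf 27352) (.lf 0)) (.nd (.lf 5790) (.lf 0)))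 (.nd (.nd (.lf 0) (.lf 0)) (.nd (.lf 0) (.lf 0))))) (.nd (.nd (.nd (.nd (.lf 0) (.lf 108336)) (.nd (.lf 0) (.lf 0))) (.nd (.nd (.lf 0) (.lf 105906)) (.nd (.lf 10398) (.lf 0)))) (.nd (.nd (.nd (.lf 131176) (.lf 108788)) (.nd (.lf 0) (.lf 0))) (.nd (.nd (.lf 43248) (.lf 0)) (.nd (.lf 93234) (.lf 0))))))

/-- table part -/
def jsT_2 : Tr :=
  .nd (.nd (.nd (.nd (.nd (.nd (.lf 0) (.lf 111672)) (.nd (.lf 102686) (.lf 0))) (.nd (.nd (.lf 0) (.lf 0)) (.nd (.lf 0) (.lf 0)))) (.nd (.nd (.nd (.lf 0) (.lf 2064)) (.nd (.lf 0) (.lf 0))) (.nd (.nd (.lf 0) (.lf 40800)) (.nd (.lf 0) (.lf 0))))) (.nd (.nd (.nd (.nd (.lf 0) (.lf 0)) (.nd (.lf 0) (.lf 0))) (.nd (.nd (.lf 0) (.lf 11404)) (.nd (.lf 132228) (.lf 0)))) (.nd (.nd (.nd (.lf 0) (.lf 12218)) (.nd (.lf 0) (.lf 0))) (.nd (.nd (.lf 53332) (.lf 0)) (.nd (.lf 90884) (.lf 0)))))) (.nd (.nd (.nd (.nd (.nd (.lf 0) (.lf 120996)) (.nd (.lf 66446) (.lf 0))) (.nd (.nd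 (.lf 0) (.lf 70910)) (.nd (.lf 0) (.lf 0)))) (.nd (.nd (.nd (.lf 0) (.lf 5932)) (.nd (.lf 0) (.lf 0))) (.nd (.nd (.lf 0) (.lf 0)) (.nd (.lf 0) (.lf 0))))) (.nd (.nd (.nd (.nd (.lf 0) (.lf 0)) (.nd (.lf 0) (.lf 0))) (.nd (.nd (.lf 0) (.lf 48366)) (.nd (.lf 0) (.lf 0)))) (.nd (.nd (.nd (.lf 0) (.lf 13894)) (.nd (.lf 52018) (.lf 0))) (.nd (.nd (.lf 121586) (.lf 0)) (.nd (.lf 54690) (.lf 0))))))

/-- table part -/
def jsT_3 : Tr :=
  .nd jsT_1 jsT_2

/-- table part -/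
def jsT_4 : Tr :=
  .nd (.nd (.nd (.nd (.nd (.nd (.lf 0) (.lf 0)) (.nd (.lf 39618) (.lf 0))) (.nd (.nd (.lf 0) (.lf 15298)) (.nd (.lf 0) (.lf 0)))) (.nd (.nd (.nd (.lf 0) (.lf 0)) (.nd (.lf 0) (.lf 0))) (.nd (.nd (.lf 12976) (.lf 12308)) (.nd (.lf 36694) (.lf 0))))) (.nd (.nd (.nd (.nd (.lf 0) (.lf 113364)) (.nd (.lf 0) (.lf 0))) (.nd (.nd (.lf 0) (.lf 86388)) (.nd (.lf 117262) (.lf 0)))) (.nd (.nd (.nd (.lf 0) (.lf 94026)) (.nd (.lf 0) (.lf 0))) (.nd (.nd (.lf 65672) (.lf 0)) (.nd (.lf 34624) (.lf 0)))))) (.nd (.nd (.nd (.nd (.nd (.lf 0) (.lf 35488)) (.nd (.lf 117014) (.lf 0))) (.nd (.nd (.lf 2552) (.lf 31688)) (.nd (.lf 93430) (.lf 0)))) (.nd (.nd (.nd (.lf 0) (.lf 168156)) (.nd (.lf 964) (.lf 0))) (.nd (.nd (.lf 0) (.lf 0)) (.nd (.lf 0) (.lf 0))))) (.nd (.nd (.nd (.nd (.lf 0) (.lf 0)) (.nd (.lf 104052) (.lf 0))) (.nd (.nd (.lf 0) (.lf 117046)) (.nd (.lf 33760) (.lf 0)))) (.nd (.nd (.nd (.lf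 0) (.lf 12000)) (.nd (.lf 3090) (.lf 0))) (.nd (.nd (.lf 0) (.lf 0)) (.nd (.lf 33058) (.lf 0))))))

/-- table part -/
def jsT_5 : Tr :=
  .nd (.nd (.nd (.nd (.nd (.nd (.lf 0) (.lf 0)) (.nd (.lf 30736) (.lf 0))) (.nd (.nd (.lf 0) (.lf 31272)) (.nd (.lf 84138) (.lf 0)))) (.nd (.nd (.nd (.lf 0) (.lf 164862)) (.nd (.lf 0) (.lf 0))) (.nd (.nd (.lf 0) (.lf 68938)) (.nd (.lf 137224) (.lf 0))))) (.nd (.nd (.nd (.nd (.lf 0) (.lf 0)) (.nd (.lf 0) (.lf 0))) (.nd (.nd (.lf 0) (.lf 120744)) (.nd (.lf 10778) (.lf 0)))) (.nd (.nd (.nd (.lf 0) (.lf 26956)) (.nd (.lf 27658) (.lf 0))) (.nd (.nd (.lf 0) (.lf 0)) (.nd (.lf 28538) (.lf 0)))))) (.nd (.nd (.nd (.nd (.nd (.lf 0) (.lf 156672)) (.nd (.lf 116650) (.lf 0))) (.nd (.nd (.lf 0) (.lf 36532)) (.nd (.lf 129358) (.lf 0)))) (.nd (.nd (.nd (.lf 0) (.lf 94262)) (.nd (.lf 0) (.lf 0))) (.nd (.nd (.lf 0) (.lf 0)) (.nd (.lf 101840) (.lf 0))))) (.nd (.nd (.nd (.nd (.lf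 0) (.lf 49068)) (.nd (.lf 0) (.lf 0))) (.nd (.nd (.lf 0) (.lf 117936)) (.nd (.lf 129656) (.lf 0)))) (.nd (.nd (.nd (.lf 0) (.lf 105330)) (.nd (.lf 0) (.lf 0))) (.nd (.nd (.lf 30448) (.lf 0)) (.nd (.lf 66130) (.lf 0))))))

/-- table part -/
def jsT_6 : Tr :=
  .nd jsT_4 jsT_5

/-- table part -/
def jsT_7 : Tr :=
  .nd jsT_3 jsT_6

/-- table part -/
def jsT_8 : Tr :=
  .nd (.nd (.nd (.nd (.nd (.nd (.lf 0) (.lf 65288)) (.nd (.lf 0) (.lf 0))) (.nd (.nd (.lf 0) (.lf 92046)) (.nd (.lf 27188) (.lf 0)))) (.nd (.nd (.nd (.lf 0) (.lf 151614)) (.nd (.lf 0) (.lf 0))) (.nd (.nd (.lf 119386) (.lf 4980)) (.nd (.lf 56446) (.lf 0))))) (.nd (.nd (.nd (.nd (.lf 0) (.lf 91798)) (.nd (.lf 83562) (.lf 0))) (.nd (.nd (.lf 0) (.lf 119260)) (.nd (.lf 0) (.lf 0)))) (.nd (.nd (.nd (.lf 0) (.lf 7912)) (.nd (.lf 0) (.lf 0))) (.nd (.nd (.lf 5626) (.lf 0)) (.nd (.lf 11030) (.lf 0)))))) (.nd (.nd (.nd (.nd (.nd (.lf 0) (.lf 95824))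 (.nd (.lf 0) (.lf 0))) (.nd (.nd (.lf 0) (.lf 75122)) (.nd (.lf 0) (.lf 0)))) (.nd (.nd (.nd (.lf 0) (.lf 40566)) (.nd (.lf 0) (.lf 0))) (.nd (.nd (.lf 0) (.lf 0)) (.nd (.lf 45732) (.lf 0))))) (.nd (.nd (.nd (.nd (.lf 0) (.lf 0)) (.nd (.lf 66554) (.lf 0))) (.nd (.nd (.lf 5338) (.lf 80916)) (.nd (.lf 0) (.lf 0)))) (.nd (.nd (.nd (.lf 0) (.lf 105530)) (.nd (.lf 0) (.lf 0))) (.nd (.nd (.lf 0) (.lf 0)) (.nd (.lf 0) (.lf 0))))))

/-- table part -/
def jsT_9 : Tr :=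
  .nd (.nd (.nd (.nd (.nd (.nd (.lf 0) (.lf 0)) (.nd (.lf 0) (.lf 0))) (.nd (.nd (.lf 92644) (.lf 118382)) (.nd (.lf 0) (.lf 0)))) (.nd (.nd (.nd (.lf 67370) (.lf 4782)) (.nd (.lf 0) (.lf 0))) (.nd (.nd (.lf 0) (.lf 12954)) (.nd (.lf 3918) (.lf 0))))) (.nd (.nd (.nd (.nd (.lf 0) (.lf 11728)) (.nd (.lf 0) (.lf 0))) (.nd (.nd (.lf 104786) (.lf 130618)) (.nd (.lf 33346) (.lf 0)))) (.nd (.nd (.nd (.lf 13606) (.lf 78486)) (.nd (.lf 0) (.lf 0))) (.nd (.nd (.lf 0) (.lf 0)) (.nd (.lf 0) (.lf 0)))))) (.nd (.nd (.nd (.nd (.nd (.lf 0) (.lf 70162)) (.nd (.lf 0) (.lf 0))) (.nd (.nd (.lf 0) (.lf 1076)) (.nd (.lf 69460) (.lf 0)))) (.nd (.nd (.nd (.lf 52952) (.lf 27924)) (.nd (.lf 0) (.lf 0))) (.nd (.nd (.lf 0) (.lf 0)) (.nd (.lf 140844) (.lf 0))))) (.nd (.nd (.nd (.nd (.lf 0) (.lf 9876)) (.nd (.lf 0) (.lf 0))) (.nd (.nd (.lf 97752) (.lf 102632)) (.nd (.lf 27802) (.lf 0)))) (.nd (.nd (.nd (.lf 0) (.lf 0)) (.nd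 (.lf 0) (.lf 0))) (.nd (.nd (.lf 0) (.lf 0)) (.nd (.lf 105834) (.lf 0))))))

/-- table part -/
def jsT_10 : Tr :=
  .nd jsT_8 jsT_9

/-- table part -/
def jsT_11 : Tr :=
  .nd (.nd (.nd (.nd (.nd (.nd (.lf 0) (.lf 61934)) (.nd (.lf 35082) (.lf 0))) (.nd (.nd (.lf 79246) (.lf 40170)) (.nd (.lf 0) (.lf 0)))) (.nd (.nd (.nd (.lf 17148) (.lf 91978)) (.nd (.lf 31780) (.lf 0))) (.nd (.nd (.lf 67166) (.lf 18808)) (.nd (.lf 134944) (.lf 0))))) (.nd (.nd (.nd (.nd (.lf 0) (.lf 51102)) (.nd (.lf 91452) (.lf 0))) (.nd (.nd (.lf 0) (.lf 85218)) (.nd (.lf 0) (.lf 0)))) (.nd (.nd (.nd (.lf 65708) (.lf 123598)) (.nd (.lf 0) (.lf 0))) (.nd (.nd (.lf 105168) (.lf 0)) (.nd (.lf 45426) (.lf 0)))))) (.nd (.nd (.nd (.nd (.nd (.lf 0) (.lf 39438)) (.nd (.lf 0) (.lf 0))) (.nd (.nd (.lf 0) (.lf 160074)) (.nd (.lf 107838) (.lf 0)))) (.nd (.nd (.nd (.lf 0) (.lf 26560)) (.nd (.lf 0) (.lf 0))) (.nd (.nd (.lf 106950) (.lf 0))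 (.nd (.lf 7880) (.lf 0))))) (.nd (.nd (.nd (.nd (.lf 0) (.lf 13444)) (.nd (.lf 68570) (.lf 0))) (.nd (.nd (.lf 0) (.lf 75886)) (.nd (.lf 9446) (.lf 0)))) (.nd (.nd (.nd (.lf 159318) (.lf 0)) (.nd (.lf 0) (.lf 0))) (.nd (.nd (.lf 0) (.lf 0)) (.nd (.lf 128088) (.lf 0))))))

/-- table part -/
def jsT_12 : Tr :=
  .nd (.nd (.nd (.nd (.nd (.nd (.lf 0) (.lf 95432)) (.nd (.lf 0) (.lf 0))) (.nd (.nd (.lf 0) (.lf 37450)) (.nd (.lf 0) (.lf 0)))) (.nd (.nd (.nd (.lf 0) (.lf 12574)) (.nd (.lf 0) (.lf 0))) (.nd (.nd (.lf 0) (.lf 140700)) (.nd (.lf 0) (.lf 0))))) (.nd (.nd (.nd (.nd (.lf 0) (.lf 0)) (.nd (.lf 117374) (.lf 0))) (.nd (.nd (.lf 118634) (.lf 108102)) (.nd (.lf 150316) (.lf 0)))) (.nd (.nd (.nd (.lf 0) (.lf 55122)) (.nd (.lf 92426) (.lf 0))) (.nd (.nd (.lf 66194) (.lf 0)) (.nd (.lf 0) (.lf 0)))))) (.nd (.nd (.nd (.nd (.nd (.lf 0) (.lf 0)) (.nd (.lf 2098) (.lf 0))) (.nd (.nd (.lf 0) (.lf 66146)) (.nd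 (.lf 644) (.lf 0)))) (.nd (.nd (.nd (.lf 0) (.lf 90858)) (.nd (.lf 96582) (.lf 0))) (.nd (.nd (.lf 0) (.lf 0)) (.nd (.lf 124192) (.lf 0))))) (.nd (.nd (.nd (.nd (.lf 0) (.lf 13390)) (.nd (.lf 0) (.lf 0))) (.nd (.nd (.lf 0) (.lf 93292)) (.nd (.lf 41466) (.lf 0)))) (.nd (.nd (.nd (.lf 0) (.lf 92428)) (.nd (.lf 112908) (.lf 0))) (.nd (.nd (.lf 0) (.lf 0)) (.nd (.lf 8688) (.lf 0))))))

/-- table part -/
def jsT_13 : Tr :=
  .nd jsT_11 jsT_12

/-- table part -/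
def jsT_14 : Tr :=
  .nd jsT_10 jsT_13

/-- table part -/
def jsT_15 : Tr :=
  .nd jsT_7 jsT_14

/-- table part -/
def jsT_16 : Tr :=
  .nd (.nd (.nd (.nd (.nd (.nd (.lf 0) (.lf 0)) (.nd (.lf 118350) (.lf 0))) (.nd (.nd (.lf 0) (.lf 88044)) (.nd (.lf 107652) (.lf 0)))) (.nd (.nd (.nd (.lf 0) (.lf 0)) (.nd (.lf 6184) (.lf 0))) (.nd (.nd (.lf 0) (.lf 5162)) (.nd (.lf 0) (.lf 0))))) (.nd (.nd (.nd (.nd (.lf 0) (.lf 114942)) (.nd (.lf 70556) (.lf 0))) (.nd (.nd (.lf 0) (.lf 115248)) (.nd (.lf 0) (.lf 0)))) (.nd (.nd (.nd (.lf 0) (.lf 48126)) (.nd (.lf 156888) (.lf 0))) (.nd (.nd (.lf 5018) (.lf 0)) (.nd (.lf 163350) (.lf 0)))))) (.nd (.nd (.nd (.nd (.nd (.lf 0) (.lf 11980)) (.nd (.lf 0) (.lf 0))) (.nd (.nd (.lf 0) (.lf 130086)) (.nd (.lf 67550) (.lf 0)))) (.nd (.nd (.nd (.lf 0) (.lf 106590)) (.nd (.lf 0) (.lf 0))) (.nd (.nd (.lf 0) (.lf 0)) (.nd (.lf 131058) (.lf 0))))) (.nd (.nd (.nd (.nd (.lf 0)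 (.lf 104772)) (.nd (.lf 41400) (.lf 0))) (.nd (.nd (.lf 0) (.lf 92118)) (.nd (.lf 74030) (.lf 0)))) (.nd (.nd (.nd (.lf 0) (.lf 98780)) (.nd (.lf 0) (.lf 0))) (.nd (.nd (.lf 5090) (.lf 0)) (.nd (.lf 68468) (.lf 0))))))

/-- table part -/
def jsT_17 : Tr :=
  .nd (.nd (.nd (.nd (.nd (.nd (.lf 0) (.lf 6638)) (.nd (.lf 20644) (.lf 0))) (.nd (.nd (.lf 0) (.lf 10346)) (.nd (.lf 72788) (.lf 0)))) (.nd (.nd (.nd (.lf 65528) (.lf 93162)) (.nd (.lf 77910) (.lf 0))) (.nd (.nd (.lf 0) (.lf 131500)) (.nd (.lf 65840) (.lf 0))))) (.nd (.nd (.nd (.nd (.lf 0) (.lf 0)) (.nd (.lf 0) (.lf 0))) (.nd (.nd (.lf 0) (.lf 75416)) (.nd (.lf 55994) (.lf 0)))) (.nd (.nd (.nd (.lf 0) (.lf 116616)) (.nd (.lf 102270) (.lf 0))) (.nd (.nd (.lf 0) (.lf 0)) (.nd (.lf 6368) (.lf 0)))))) (.nd (.nd (.nd (.nd (.nd (.lf 0) (.lf 0)) (.nd (.lf 133138) (.lf 0))) (.nd (.nd (.lf 105980) (.lf 67394)) (.nd (.lf 0) (.lf 0)))) (.nd (.nd (.nd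 (.lf 0) (.lf 165330)) (.nd (.lf 125114) (.lf 0))) (.nd (.nd (.lf 15460) (.lf 0)) (.nd (.lf 52854) (.lf 0))))) (.nd (.nd (.nd (.nd (.lf 0) (.lf 107852)) (.nd (.lf 0) (.lf 0))) (.nd (.nd (.lf 0) (.lf 34462)) (.nd (.lf 0) (.lf 0)))) (.nd (.nd (.nd (.lf 0) (.lf 134218)) (.nd (.lf 30934) (.lf 0))) (.nd (.nd (.lf 0) (.lf 0)) (.nd (.lf 113628) (.lf 0))))))

/-- table part -/
def jsT_18 : Tr :=
  .nd jsT_16 jsT_17

/-- table part -/
def jsT_19 : Tr :=
  .nd (.nd (.nd (.nd (.nd (.nd (.lf 0) (.lf 118508)) (.nd (.lf 0) (.lf 0))) (.nd (.nd (.lf 0) (.lf 108212)) (.nd (.lf 0) (.lf 0)))) (.nd (.nd (.nd (.lf 0) (.lf 12018)) (.nd (.lf 0) (.lf 0))) (.nd (.nd (.lf 33868) (.lf 33452)) (.nd (.lf 146214) (.lf 0))))) (.nd (.nd (.nd (.nd (.lf 0) (.lf 0)) (.nd (.lf 0) (.lf 0))) (.nd (.nd (.lf 0) (.lf 162450)) (.nd (.lf 100218) (.lf 0)))) (.nd (.nd (.nd (.lf 92314) (.lf 92158)) (.nd (.lf 0) (.lf 0))) (.nd (.nd (.lf 52530)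 (.lf 0)) (.nd (.lf 108536) (.lf 0)))))) (.nd (.nd (.nd (.nd (.nd (.lf 0) (.lf 0)) (.nd (.lf 0) (.lf 0))) (.nd (.nd (.lf 0) (.lf 12794)) (.nd (.lf 0) (.lf 0)))) (.nd (.nd (.nd (.lf 0) (.lf 51510)) (.nd (.lf 0) (.lf 0))) (.nd (.nd (.lf 0) (.lf 0)) (.nd (.lf 0) (.lf 0))))) (.nd (.nd (.nd (.nd (.lf 0) (.lf 129620)) (.nd (.lf 0) (.lf 0))) (.nd (.nd (.lf 27244) (.lf 35952)) (.nd (.lf 28720) (.lf 0)))) (.nd (.nd (.nd (.lf 0) (.lf 130412)) (.nd (.lf 108378) (.lf 0))) (.nd (.nd (.lf 133194) (.lf 0)) (.nd (.lf 0) (.lf 0))))))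

/-- table part -/
def jsT_20 : Tr :=
  .nd (.nd (.nd (.nd (.nd (.nd (.lf 0) (.lf 0)) (.nd (.lf 36100) (.lf 0))) (.nd (.nd (.lf 0) (.lf 0)) (.nd (.lf 0) (.lf 0)))) (.nd (.nd (.nd (.lf 0) (.lf 0)) (.nd (.lf 0) (.lf 0))) (.nd (.nd (.lf 27362) (.lf 29602)) (.nd (.lf 130464) (.lf 0))))) (.nd (.nd (.nd (.nd (.lf 0) (.lf 10796)) (.nd (.lf 0) (.lf 0))) (.nd (.nd (.lf 0) (.lf 111198)) (.nd (.lf 8722) (.lf 0)))) (.nd (.nd (.nd (.lf 0) (.lf 134002)) (.nd (.lf 0) (.lf 0))) (.nd (.nd (.lf 98758) (.lf 0)) (.nd (.lf 152928) (.lf 0)))))) (.nd (.nd (.nd (.nd (.nd (.lf 0) (.lf 0)) (.nd (.lf 131958) (.lf 0))) (.nd (.nd (.lf 0) (.lf 37954)) (.nd (.lf 0) (.lf 0)))) (.nd (.nd (.nd (.lf 0) (.lf 47268)) (.nd (.lf 109254) (.lf 0))) (.nd (.nd (.lf 0) (.lf 0)) (.nd (.lf 166230) (.lf 0))))) (.nd (.nd (.nd (.nd (.lf 0) (.lf 132760)) (.nd (.lf 0) (.lf 0))) (.nd (.nd (.lf 27564) (.lf 33756)) (.nd (.lf 95756) (.lf 0)))) (.nd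 (.nd (.nd (.lf 14360) (.lf 79656)) (.nd (.lf 0) (.lf 0))) (.nd (.nd (.lf 0) (.lf 0)) (.nd (.lf 74930) (.lf 0))))))

/-- table part -/
def jsT_21 : Tr :=
  .nd jsT_19 jsT_20

/-- table part -/
def jsT_22 : Tr :=
  .nd jsT_18 jsT_21

/-- table part -/
def jsT_23 : Tr :=
  .nd (.nd (.nd (.nd (.nd (.nd (.lf 0) (.lf 0)) (.nd (.lf 38934) (.lf 0))) (.nd (.nd (.lf 0) (.lf 66164)) (.nd (.lf 0) (.lf 0)))) (.nd (.nd (.nd (.lf 0) (.lf 80160)) (.nd (.lf 0) (.lf 0))) (.nd (.nd (.lf 0) (.lf 54960)) (.nd (.lf 92442) (.lf 0))))) (.nd (.nd (.nd (.nd (.lf 0) (.lf 80650)) (.nd (.lf 130404) (.lf 0))) (.nd (.nd (.lf 0) (.lf 100544)) (.nd (.lf 0) (.lf 0)))) (.nd (.nd (.nd (.lf 0) (.lf 138196)) (.nd (.lf 0) (.lf 0))) (.nd (.nd (.lf 0) (.lf 0)) (.nd (.lf 0) (.lf 0)))))) (.nd (.nd (.nd (.nd (.nd (.lf 0) (.lf 127958)) (.nd (.lf 0) (.lf 0))) (.nd (.nd (.lf 122770) (.lf 30768)) (.nd (.lf 0) (.lf 0)))) (.nd (.nd (.nd (.lf 0)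 (.lf 49962)) (.nd (.lf 0) (.lf 0))) (.nd (.nd (.lf 0) (.lf 0)) (.nd (.lf 107630) (.lf 0))))) (.nd (.nd (.nd (.nd (.lf 0) (.lf 30482)) (.nd (.lf 0) (.lf 0))) (.nd (.nd (.lf 0) (.lf 65972)) (.nd (.lf 38332) (.lf 0)))) (.nd (.nd (.nd (.lf 78480) (.lf 0)) (.nd (.lf 112044) (.lf 0))) (.nd (.nd (.lf 54088) (.lf 0)) (.nd (.lf 0) (.lf 0))))))

/-- table part -/
def jsT_24 : Tr :=
  .nd (.nd (.nd (.nd (.nd (.nd (.lf 0) (.lf 0)) (.nd (.lf 0) (.lf 0))) (.nd (.nd (.lf 0) (.lf 33220)) (.nd (.lf 65108) (.lf 0)))) (.nd (.nd (.nd (.lf 0) (.lf 93038)) (.nd (.lf 7142) (.lf 0))) (.nd (.nd (.lf 0) (.lf 9788)) (.nd (.lf 97538) (.lf 0))))) (.nd (.nd (.nd (.nd (.lf 0) (.lf 91834)) (.nd (.lf 120344) (.lf 0))) (.nd (.nd (.lf 0) (.lf 12808)) (.nd (.lf 32496) (.lf 0)))) (.nd (.nd (.nd (.lf 0) (.lf 0)) (.nd (.lf 0) (.lf 0))) (.nd (.nd (.lf 136614) (.lf 0)) (.nd (.lf 65432) (.lf 0)))))) (.nd (.nd (.nd (.nd (.nd (.lf 0) (.lf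 40710)) (.nd (.lf 0) (.lf 0))) (.nd (.nd (.lf 0) (.lf 28626)) (.nd (.lf 8798) (.lf 0)))) (.nd (.nd (.nd (.lf 0) (.lf 161406)) (.nd (.lf 0) (.lf 0))) (.nd (.nd (.lf 91702) (.lf 0)) (.nd (.lf 122558) (.lf 0))))) (.nd (.nd (.nd (.nd (.lf 0) (.lf 113808)) (.nd (.lf 0) (.lf 0))) (.nd (.nd (.lf 0) (.lf 5196)) (.nd (.lf 7284) (.lf 0)))) (.nd (.nd (.nd (.lf 0) (.lf 25948)) (.nd (.lf 104304) (.lf 0))) (.nd (.nd (.lf 51892) (.lf 0)) (.nd (.lf 100884) (.lf 0))))))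

/-- table part -/
def jsT_25 : Tr :=
  .nd jsT_23 jsT_24

/-- table part -/
def jsT_26 : Tr :=
  .nd (.nd (.nd (.nd (.nd (.nd (.lf 0) (.lf 65852)) (.nd (.lf 26502) (.lf 0))) (.nd (.nd (.lf 0) (.lf 78212)) (.nd (.lf 0) (.lf 0)))) (.nd (.nd (.nd (.lf 0) (.lf 80016)) (.nd (.lf 0) (.lf 0))) (.nd (.nd (.lf 0) (.lf 131860)) (.nd (.lf 102018) (.lf 0))))) (.nd (.nd (.nd (.nd (.lf 0) (.lf 69416)) (.nd (.lf 0) (.lf 0))) (.nd (.nd (.lf 0) (.lf 39906)) (.nd (.lf 110370) (.lf 0)))) (.nd (.nd (.nd (.lf 0) (.lf 0)) (.nd (.lf 0) (.lf 0))) (.nd (.nd (.lf 0) (.lf 0)) (.nd (.lf 9102) (.lf 0)))))) (.nd (.nd (.nd (.nd (.nd (.lf 0) (.lf 97106)) (.nd (.lf 0) (.lf 0))) (.nd (.nd (.lf 0) (.lf 55320)) (.nd (.lf 0) (.lf 0)))) (.nd (.nd (.nd (.lf 0) (.lf 29474)) (.nd (.lf 0) (.lf 0))) (.nd (.nd (.lf 0) (.lf 0)) (.nd (.lf 53988) (.lf 0))))) (.nd (.nd (.nd (.nd (.lf 0) (.lf 82890)) (.nd (.lf 159246) (.lf 0))) (.nd (.nd (.lf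 0) (.lf 163782)) (.nd (.lf 162774) (.lf 0)))) (.nd (.nd (.nd (.lf 0) (.lf 77914)) (.nd (.lf 0) (.lf 0))) (.nd (.nd (.lf 0) (.lf 0)) (.nd (.lf 72494) (.lf 0))))))

/-- table part -/
def jsT_27 : Tr :=
  .nd (.nd (.nd (.nd (.nd (.nd (.lf 0) (.lf 0)) (.nd (.lf 70916) (.lf 0))) (.nd (.nd (.lf 0) (.lf 0)) (.nd (.lf 19924) (.lf 0)))) (.nd (.nd (.nd (.lf 0) (.lf 38170)) (.nd (.lf 30390) (.lf 0))) (.nd (.nd (.lf 0) (.lf 11786)) (.nd (.lf 69494) (.lf 0))))) (.nd (.nd (.nd (.nd (.lf 0) (.lf 0)) (.nd (.lf 0) (.lf 0))) (.nd (.nd (.lf 0) (.lf 26252)) (.nd (.lf 105528) (.lf 0)))) (.nd (.nd (.nd (.lf 0) (.lf 106880)) (.nd (.lf 0) (.lf 0))) (.nd (.nd (.lf 68108) (.lf 0)) (.nd (.lf 40646) (.lf 0)))))) (.nd (.nd (.nd (.nd (.nd (.lf 0) (.lf 0)) (.nd (.lf 161280) (.lf 0))) (.nd (.nd (.lf 0) (.lf 113664)) (.nd (.lf 39522) (.lf 0)))) (.nd (.nd (.nd (.lf 9) (.lf 0)) (.nd (.lf 0) (.lf 0))) (.nd (.nd (.lf 0) (.lf 0)) (.nd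 (.lf 0) (.lf 0))))) (.nd (.nd (.nd (.nd (.lf 0) (.lf 10974)) (.nd (.lf 82104) (.lf 0))) (.nd (.nd (.lf 0) (.lf 116580)) (.nd (.lf 7) (.lf 0)))) (.nd (.nd (.nd (.lf 0) (.lf 28950)) (.nd (.lf 0) (.lf 0))) (.nd (.nd (.lf 5050) (.lf 0)) (.nd (.lf 92586) (.lf 0))))))

/-- table part -/
def jsT_28 : Tr :=
  .nd jsT_26 jsT_27

/-- table part -/
def jsT_29 : Tr :=
  .nd jsT_25 jsT_28

/-- table part -/
def jsT_30 : Tr :=
  .nd jsT_22 jsT_29

/-- table part -/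
def jsT_31 : Tr :=
  .nd jsT_15 jsT_30

/-- table part -/
def jsT_32 : Tr :=
  .nd (.nd (.nd (.nd (.nd (.nd (.lf 0) (.lf 0)) (.nd (.lf 0) (.lf 0))) (.nd (.nd (.lf 0) (.lf 836)) (.nd (.lf 0) (.lf 0)))) (.nd (.nd (.nd (.lf 0) (.lf 0)) (.nd (.lf 144388) (.lf 0))) (.nd (.nd (.lf 0) (.lf 82744)) (.nd (.lf 141854) (.lf 0))))) (.nd (.nd (.nd (.nd (.lf 0) (.lf 79464)) (.nd (.lf 0) (.lf 0))) (.nd (.nd (.lf 0) (.lf 64962)) (.nd (.lf 0) (.lf 0)))) (.nd (.nd (.nd (.lf 0) (.lf 152456)) (.nd (.lf 151122) (.lf 0))) (.nd (.nd (.lf 0) (.lf 0)) (.nd (.lf 78844) (.lf 0)))))) (.nd (.nd (.nd (.nd (.nd (.lf 0) (.lf 0)) (.nd (.lf 4410) (.lf 0))) (.nd (.nd (.lf 0) (.lf 49528)) (.nd (.lf 0) (.lf 0)))) (.nd (.nd (.nd (.lf 0) (.lf 57258)) (.nd (.lf 0) (.lf 0))) (.nd (.nd (.lf 0) (.lf 0)) (.nd (.lf 55108) (.lf 0))))) (.nd (.nd (.nd (.nd (.lf 0) (.lf 0)) (.nd (.lf 0) (.lf 0))) (.nd (.nd (.lf 105496) (.lf 0)) (.nd (.lf 0) (.lf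 0)))) (.nd (.nd (.nd (.lf 0) (.lf 56664)) (.nd (.lf 128748) (.lf 0))) (.nd (.nd (.lf 27112) (.lf 0)) (.nd (.lf 0) (.lf 0))))))

/-- table part -/
def jsT_33 : Tr :=
  .nd (.nd (.nd (.nd (.nd (.nd (.lf 0) (.lf 45856)) (.nd (.lf 0) (.lf 0))) (.nd (.nd (.lf 0) (.lf 43748)) (.nd (.lf 70818) (.lf 0)))) (.nd (.nd (.nd (.lf 0) (.lf 0)) (.nd (.lf 15182) (.lf 0))) (.nd (.nd (.lf 0) (.lf 9270)) (.nd (.lf 0) (.lf 0))))) (.nd (.nd (.nd (.nd (.lf 0) (.lf 0)) (.nd (.lf 73308) (.lf 0))) (.nd (.nd (.lf 0) (.lf 143582)) (.nd (.lf 146836) (.lf 0)))) (.nd (.nd (.nd (.lf 0) (.lf 143076)) (.nd (.lf 0) (.lf 0))) (.nd (.nd (.lf 104224) (.lf 0)) (.nd (.lf 0) (.lf 0)))))) (.nd (.nd (.nd (.nd (.nd (.lf 0) (.lf 100032)) (.nd (.lf 104434) (.lf 0))) (.nd (.nd (.lf 90978) (.lf 136346)) (.nd (.lf 0) (.lf 0)))) (.nd (.nd (.nd (.lf 0) (.lf 147918)) (.nd (.lf 0) (.lf 0))) (.nd (.nd (.lf 53596) (.lf 0)) (.nd (.lf 0) (.lf 0)))))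 (.nd (.nd (.nd (.nd (.lf 0) (.lf 154252)) (.nd (.lf 0) (.lf 0))) (.nd (.nd (.lf 145900) (.lf 129686)) (.nd (.lf 152598) (.lf 0)))) (.nd (.nd (.nd (.lf 0) (.lf 39318)) (.nd (.lf 0) (.lf 0))) (.nd (.nd (.lf 0) (.lf 0)) (.nd (.lf 0) (.lf 0))))))

/-- table part -/
def jsT_34 : Tr :=
  .nd jsT_32 jsT_33

/-- table part -/
def jsT_35 : Tr :=
  .nd (.nd (.nd (.nd (.nd (.nd (.lf 0) (.lf 148618)) (.nd (.lf 129640) (.lf 0))) (.nd (.nd (.lf 0) (.lf 83532)) (.nd (.lf 56088) (.lf 0)))) (.nd (.nd (.nd (.lf 0) (.lf 121102)) (.nd (.lf 0) (.lf 0))) (.nd (.nd (.lf 116652) (.lf 108712)) (.nd (.lf 70914) (.lf 0))))) (.nd (.nd (.nd (.nd (.lf 0) (.lf 0)) (.nd (.lf 0) (.lf 0))) (.nd (.nd (.lf 0) (.lf 84342)) (.nd (.lf 42760) (.lf 0)))) (.nd (.nd (.nd (.lf 0) (.lf 103756)) (.nd (.lf 0) (.lf 0))) (.nd (.nd (.lf 0) (.lf 0)) (.nd (.lf 80958) (.lf 0)))))) (.nd (.nd (.nd (.nd (.nd (.lf 0) (.lf 0)) (.nd (.lf 0) (.lf 0))) (.nd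 (.nd (.lf 0) (.lf 48826)) (.nd (.lf 145238) (.lf 0)))) (.nd (.nd (.nd (.lf 0) (.lf 67794)) (.nd (.lf 0) (.lf 0))) (.nd (.nd (.lf 0) (.lf 0)) (.nd (.lf 0) (.lf 0))))) (.nd (.nd (.nd (.nd (.lf 0) (.lf 0)) (.nd (.lf 69792) (.lf 0))) (.nd (.nd (.lf 3) (.lf 0)) (.nd (.lf 0) (.lf 0)))) (.nd (.nd (.nd (.lf 108322) (.lf 69948)) (.nd (.lf 0) (.lf 0))) (.nd (.nd (.lf 148170) (.lf 0)) (.nd (.lf 79644) (.lf 0))))))

/-- table part -/
def jsT_36 : Tr :=
  .nd (.nd (.nd (.nd (.nd (.nd (.lf 0) (.lf 80382)) (.nd (.lf 0) (.lf 0))) (.nd (.nd (.lf 0) (.lf 53698)) (.nd (.lf 139136) (.lf 0)))) (.nd (.nd (.nd (.lf 0) (.lf 136310)) (.nd (.lf 0) (.lf 0))) (.nd (.nd (.lf 2996) (.lf 3744)) (.nd (.lf 17758) (.lf 0))))) (.nd (.nd (.nd (.nd (.lf 0) (.lf 40472)) (.nd (.lf 30720) (.lf 0))) (.nd (.nd (.lf 40870) (.lf 108604)) (.nd (.lf 124590) (.lf 0)))) (.nd (.nd (.nd (.lf 13936) (.lf 43426)) (.nd (.lf 0) (.lf 0))) (.nd (.nd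 (.lf 148656) (.lf 0)) (.nd (.lf 52708) (.lf 0)))))) (.nd (.nd (.nd (.nd (.nd (.lf 0) (.lf 39596)) (.nd (.lf 0) (.lf 0))) (.nd (.nd (.lf 0) (.lf 1466)) (.nd (.lf 104992) (.lf 0)))) (.nd (.nd (.nd (.lf 0) (.lf 39102)) (.nd (.lf 0) (.lf 0))) (.nd (.nd (.lf 78136) (.lf 0)) (.nd (.lf 64900) (.lf 0))))) (.nd (.nd (.nd (.nd (.lf 0) (.lf 122322)) (.nd (.lf 0) (.lf 0))) (.nd (.nd (.lf 46756) (.lf 81484)) (.nd (.lf 38922) (.lf 0)))) (.nd (.nd (.nd (.lf 0) (.lf 68316)) (.nd (.lf 0) (.lf 0))) (.nd (.nd (.lf 0) (.lf 0)) (.nd (.lf 0) (.lf 0))))))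

/-- table part -/
def jsT_37 : Tr :=
  .nd jsT_35 jsT_36

/-- table part -/
def jsT_38 : Tr :=
  .nd jsT_34 jsT_37

/-- table part -/
def jsT_39 : Tr :=
  .nd (.nd (.nd (.nd (.nd (.nd (.lf 0) (.lf 19360)) (.nd (.lf 0) (.lf 0))) (.nd (.nd (.lf 129820) (.lf 124428)) (.nd (.lf 0) (.lf 0)))) (.nd (.nd (.nd (.lf 0) (.lf 130766)) (.nd (.lf 0) (.lf 0))) (.nd (.nd (.lf 0) (.lf 28722)) (.nd (.lf 57252) (.lf 0))))) (.nd (.nd (.nd (.nd (.lf 0) (.lf 151016)) (.nd (.lf 148370) (.lf 0))) (.nd (.nd (.lf 0) (.lf 150350)) (.nd (.lf 7352) (.lf 0)))) (.nd (.nd (.nd (.lf 0) (.lf 146624)) (.nd (.lf 0) (.lf 0))) (.nd (.nd (.lf 0) (.lf 0)) (.nd (.lf 0) (.lf 0)))))) (.nd (.nd (.nd (.nd (.nd (.lf 0) (.lf 42026)) (.nd (.lf 0) (.lf 0))) (.nd (.nd (.lf 0) (.lf 155152)) (.nd (.lf 0) (.lf 0)))) (.nd (.nd (.nd (.lf 0) (.lf 0)) (.nd (.lf 53334) (.lf 0))) (.nd (.nd (.lf 0) (.lf 0)) (.nd (.lf 62002) (.lf 0))))) (.nd (.nd (.nd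 (.nd (.lf 0) (.lf 107164)) (.nd (.lf 0) (.lf 0))) (.nd (.nd (.lf 0) (.lf 132754)) (.nd (.lf 0) (.lf 0)))) (.nd (.nd (.nd (.lf 0) (.lf 86952)) (.nd (.lf 0) (.lf 0))) (.nd (.nd (.lf 54414) (.lf 0)) (.nd (.lf 0) (.lf 0))))))

/-- table part -/
def jsT_40 : Tr :=
  .nd (.nd (.nd (.nd (.nd (.nd (.lf 0) (.lf 78766)) (.nd (.lf 0) (.lf 0))) (.nd (.nd (.lf 0) (.lf 24724)) (.nd (.lf 67674) (.lf 0)))) (.nd (.nd (.nd (.lf 0) (.lf 41950)) (.nd (.lf 142644) (.lf 0))) (.nd (.nd (.lf 146496) (.lf 150366)) (.nd (.lf 43120) (.lf 0))))) (.nd (.nd (.nd (.nd (.lf 0) (.lf 145418)) (.nd (.lf 0) (.lf 0))) (.nd (.nd (.lf 0) (.lf 117660)) (.nd (.lf 0) (.lf 0)))) (.nd (.nd (.nd (.lf 0) (.lf 1)) (.nd (.lf 0) (.lf 0))) (.nd (.nd (.lf 0) (.lf 0)) (.nd (.lf 0) (.lf 0)))))) (.nd (.nd (.nd (.nd (.nd (.lf 0) (.lf 52218)) (.nd (.lf 79194) (.lf 0))) (.nd (.nd (.lf 0) (.lf 59346)) (.nd (.lf 0) (.lf 0)))) (.nd (.nd (.nd (.lf 0) (.lf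 79208)) (.nd (.lf 0) (.lf 0))) (.nd (.nd (.lf 148708) (.lf 0)) (.nd (.lf 69816) (.lf 0))))) (.nd (.nd (.nd (.nd (.lf 0) (.lf 154884)) (.nd (.lf 0) (.lf 0))) (.nd (.nd (.lf 0) (.lf 60048)) (.nd (.lf 79640) (.lf 0)))) (.nd (.nd (.nd (.lf 0) (.lf 106882)) (.nd (.lf 39970) (.lf 0))) (.nd (.nd (.lf 0) (.lf 0)) (.nd (.lf 143722) (.lf 0))))))

/-- table part -/
def jsT_41 : Tr :=
  .nd jsT_39 jsT_40

/-- table part -/
def jsT_42 : Tr :=
  .nd (.nd (.nd (.nd (.nd (.nd (.lf 0) (.lf 39016)) (.nd (.lf 0) (.lf 0))) (.nd (.nd (.lf 0) (.lf 74874)) (.nd (.lf 0) (.lf 0)))) (.nd (.nd (.nd (.lf 0) (.lf 0)) (.nd (.lf 0) (.lf 0))) (.nd (.nd (.lf 0) (.lf 81606)) (.nd (.lf 41244) (.lf 0))))) (.nd (.nd (.nd (.nd (.lf 77794) (.lf 38658)) (.nd (.lf 43228) (.lf 0))) (.nd (.nd (.lf 0) (.lf 150024)) (.nd (.lf 150168) (.lf 0)))) (.nd (.nd (.nd (.lf 0) (.lf 153806)) (.nd (.lf 0) (.lf 0))) (.nd (.nd (.lf 0) (.lf 0)) (.nd (.lf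 8784) (.lf 0)))))) (.nd (.nd (.nd (.nd (.nd (.lf 0) (.lf 65124)) (.nd (.lf 129964) (.lf 0))) (.nd (.nd (.lf 0) (.lf 43404)) (.nd (.lf 10422) (.lf 0)))) (.nd (.nd (.nd (.lf 39106) (.lf 150512)) (.nd (.lf 0) (.lf 0))) (.nd (.nd (.lf 0) (.lf 0)) (.nd (.lf 92688) (.lf 0))))) (.nd (.nd (.nd (.nd (.lf 0) (.lf 0)) (.nd (.lf 39104) (.lf 0))) (.nd (.nd (.lf 0) (.lf 43354)) (.nd (.lf 0) (.lf 0)))) (.nd (.nd (.nd (.lf 0) (.lf 89418)) (.nd (.lf 43982) (.lf 0))) (.nd (.nd (.lf 132872) (.lf 0)) (.nd (.lf 83226) (.lf 0))))))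

/-- table part -/
def jsT_43 : Tr :=
  .nd (.nd (.nd (.nd (.nd (.nd (.lf 0) (.lf 0)) (.nd (.lf 0) (.lf 0))) (.nd (.nd (.lf 0) (.lf 153896)) (.nd (.lf 78082) (.lf 0)))) (.nd (.nd (.nd (.lf 0) (.lf 151626)) (.nd (.lf 39574) (.lf 0))) (.nd (.nd (.lf 0) (.lf 110788)) (.nd (.lf 153028) (.lf 0))))) (.nd (.nd (.nd (.nd (.lf 0) (.lf 48610)) (.nd (.lf 66876) (.lf 0))) (.nd (.nd (.lf 0) (.lf 105346)) (.nd (.lf 0) (.lf 0)))) (.nd (.nd (.nd (.lf 0) (.lf 48520)) (.nd (.lf 0) (.lf 0))) (.nd (.nd (.lf 0) (.lf 0)) (.nd (.lf 105442) (.lf 0)))))) (.nd (.nd (.nd (.nd (.nd (.lf 0) (.lf 78298)) (.nd (.lf 0) (.lf 0))) (.nd (.nd (.lf 0) (.lf 52518)) (.nd (.lf 0) (.lf 0)))) (.nd (.nd (.nd (.lf 0) (.lf 40668)) (.nd (.lf 42146) (.lf 0))) (.nd (.nd (.lf 0) (.lf 0)) (.nd (.lf 105370) (.lf 0))))) (.nd (.nd (.nd (.nd (.lf 0) (.lf 0)) (.nd (.lf 0) (.lf 0))) (.nd (.nd (.lf 0) (.lf 147988)) (.nd (.lf 66984) (.lf 0)))) (.nd (.nd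 (.nd (.lf 144572) (.lf 0)) (.nd (.lf 21322) (.lf 0))) (.nd (.nd (.lf 0) (.lf 0)) (.nd (.lf 64830) (.lf 0))))))

/-- table part -/
def jsT_44 : Tr :=
  .nd jsT_42 jsT_43

/-- table part -/
def jsT_45 : Tr :=
  .nd jsT_41 jsT_44

/-- table part -/
def jsT_46 : Tr :=
  .nd jsT_38 jsT_45

/-- table part -/
def jsT_47 : Tr :=
  .nd (.nd (.nd (.nd (.nd (.nd (.lf 0) (.lf 119676)) (.nd (.lf 0) (.lf 0))) (.nd (.nd (.lf 0) (.lf 152852)) (.nd (.lf 93948) (.lf 0)))) (.nd (.nd (.nd (.lf 0) (.lf 40600)) (.nd (.lf 0) (.lf 0))) (.nd (.nd (.lf 45568) (.lf 81266)) (.nd (.lf 44848) (.lf 0))))) (.nd (.nd (.nd (.nd (.lf 0) (.lf 52138)) (.nd (.lf 40076) (.lf 0))) (.nd (.nd (.lf 0) (.lf 83878)) (.nd (.lf 110710) (.lf 0)))) (.nd (.nd (.nd (.lf 28816) (.lf 56268)) (.nd (.lf 43066) (.lf 0))) (.nd (.nd (.lf 0) (.lf 0)) (.nd (.lf 0) (.lf 0)))))) (.nd (.nd (.nd (.nd (.nd (.lf 0) (.lf 143006)) (.nd (.lf 40202) (.lf 0))) (.nd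 (.nd (.lf 0) (.lf 154630)) (.nd (.lf 0) (.lf 0)))) (.nd (.nd (.nd (.lf 0) (.lf 150870)) (.nd (.lf 0) (.lf 0))) (.nd (.nd (.lf 0) (.lf 0)) (.nd (.lf 0) (.lf 0))))) (.nd (.nd (.nd (.nd (.lf 0) (.lf 40308)) (.nd (.lf 0) (.lf 0))) (.nd (.nd (.lf 104632) (.lf 66372)) (.nd (.lf 151642) (.lf 0)))) (.nd (.nd (.nd (.lf 0) (.lf 67092)) (.nd (.lf 0) (.lf 0))) (.nd (.nd (.lf 119352) (.lf 0)) (.nd (.lf 68496) (.lf 0))))))

/-- table part -/
def jsT_48 : Tr :=
  .nd (.nd (.nd (.nd (.nd (.nd (.lf 0) (.lf 153190)) (.nd (.lf 0) (.lf 0))) (.nd (.nd (.lf 0) (.lf 131324)) (.nd (.lf 66132) (.lf 0)))) (.nd (.nd (.nd (.lf 0) (.lf 96414)) (.nd (.lf 142718) (.lf 0))) (.nd (.nd (.lf 144140) (.lf 0)) (.nd (.lf 100338) (.lf 0))))) (.nd (.nd (.nd (.nd (.lf 0) (.lf 150764)) (.nd (.lf 0) (.lf 0))) (.nd (.nd (.lf 0) (.lf 126930)) (.nd (.lf 0) (.lf 0)))) (.nd (.nd (.nd (.lf 0) (.lf 39394)) (.nd (.lf 0) (.lf 0))) (.nd (.nd (.lf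 0) (.lf 0)) (.nd (.lf 104338) (.lf 0)))))) (.nd (.nd (.nd (.nd (.nd (.lf 0) (.lf 65988)) (.nd (.lf 0) (.lf 0))) (.nd (.nd (.lf 0) (.lf 117228)) (.nd (.lf 44488) (.lf 0)))) (.nd (.nd (.nd (.lf 0) (.lf 154468)) (.nd (.lf 146782) (.lf 0))) (.nd (.nd (.lf 0) (.lf 0)) (.nd (.lf 0) (.lf 0))))) (.nd (.nd (.nd (.nd (.lf 0) (.lf 79720)) (.nd (.lf 0) (.lf 0))) (.nd (.nd (.lf 0) (.lf 44486)) (.nd (.lf 119464) (.lf 0)))) (.nd (.nd (.nd (.lf 1862) (.lf 62454)) (.nd (.lf 980) (.lf 0))) (.nd (.nd (.lf 0) (.lf 0)) (.nd (.lf 83546) (.lf 0))))))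

/-- table part -/
def jsT_49 : Tr :=
  .nd jsT_47 jsT_48

/-- table part -/
def jsT_50 : Tr :=
  .nd (.nd (.nd (.nd (.nd (.nd (.lf 0) (.lf 70404)) (.nd (.lf 0) (.lf 0))) (.nd (.nd (.lf 0) (.lf 0)) (.nd (.lf 60222) (.lf 0)))) (.nd (.nd (.nd (.lf 0) (.lf 54588)) (.nd (.lf 29172) (.lf 0))) (.nd (.nd (.lf 105994) (.lf 39628)) (.nd (.lf 134348) (.lf 0))))) (.nd (.nd (.nd (.nd (.lf 0) (.lf 84004)) (.nd (.lf 91338) (.lf 0))) (.nd (.nd (.lf 0) (.lf 154756)) (.nd (.lf 42454) (.lf 0)))) (.nd (.nd (.nd (.lf 0) (.lf 81120)) (.nd (.lf 79770) (.lf 0))) (.nd (.nd (.lf 0) (.lf 0)) (.nd (.lf 0) (.lf 0)))))) (.nd (.nd (.nd (.nd (.nd (.lf 0) (.lf 0)) (.nd (.lf 0) (.lf 0))) (.nd (.nd (.lf 0) (.lf 65412)) (.nd (.lf 0) (.lf 0)))) (.nd (.nd (.nd (.lf 66852) (.lf 42184)) (.nd (.lf 0) (.lf 0))) (.nd (.nd (.lf 0) (.lf 0)) (.nd (.lf 79952) (.lf 0))))) (.nd (.nd (.nd (.nd (.lf 0) (.lf 154002)) (.nd (.lf 0) (.lf 0))) (.nd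 (.nd (.lf 0) (.lf 0)) (.nd (.lf 40310) (.lf 0)))) (.nd (.nd (.nd (.lf 0) (.lf 154846)) (.nd (.lf 0) (.lf 0))) (.nd (.nd (.lf 0) (.lf 0)) (.nd (.lf 67402) (.lf 0))))))

/-- table part -/
def jsT_51 : Tr :=
  .nd (.nd (.nd (.nd (.nd (.nd (.lf 0) (.lf 153082)) (.nd (.lf 0) (.lf 0))) (.nd (.nd (.lf 51988) (.lf 143438)) (.nd (.lf 0) (.lf 0)))) (.nd (.nd (.nd (.lf 0) (.lf 142754)) (.nd (.lf 79504) (.lf 0))) (.nd (.nd (.lf 0) (.lf 44398)) (.nd (.lf 112672) (.lf 0))))) (.nd (.nd (.nd (.nd (.lf 0) (.lf 0)) (.nd (.lf 0) (.lf 0))) (.nd (.nd (.lf 104050) (.lf 79784)) (.nd (.lf 152024) (.lf 0)))) (.nd (.nd (.nd (.lf 0) (.lf 91494)) (.nd (.lf 135698) (.lf 0))) (.nd (.nd (.lf 0) (.lf 0)) (.nd (.lf 67542) (.lf 0)))))) (.nd (.nd (.nd (.nd (.nd (.lf 0) (.lf 55188)) (.nd (.lf 40030) (.lf 0))) (.nd (.nd (.lf 0) (.lf 10836)) (.nd (.lf 0) (.lf 0)))) (.nd (.nd (.nd (.lf 0) (.lf 62632)) (.nd (.lf 0) (.lf 0))) (.nd (.nd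 (.lf 51906) (.lf 0)) (.nd (.lf 0) (.lf 0))))) (.nd (.nd (.nd (.nd (.lf 0) (.lf 80458)) (.nd (.lf 0) (.lf 0))) (.nd (.nd (.lf 145128) (.lf 80774)) (.nd (.lf 143150) (.lf 0)))) (.nd (.nd (.nd (.lf 0) (.lf 144464)) (.nd (.lf 0) (.lf 0))) (.nd (.nd (.lf 81950) (.lf 0)) (.nd (.lf 82492) (.lf 0))))))

/-- table part -/
def jsT_52 : Tr :=
  .nd jsT_50 jsT_51

/-- table part -/
def jsT_53 : Tr :=
  .nd jsT_49 jsT_52

/-- table part -/
def jsT_54 : Tr :=
  .nd (.nd (.nd (.nd (.nd (.nd (.lf 0) (.lf 2960)) (.nd (.lf 0) (.lf 0))) (.nd (.nd (.lf 0) (.lf 150490)) (.nd (.lf 134420) (.lf 0)))) (.nd (.nd (.nd (.lf 0) (.lf 2402)) (.nd (.lf 0) (.lf 0))) (.nd (.nd (.lf 0) (.lf 79414)) (.nd (.lf 44290) (.lf 0))))) (.nd (.nd (.nd (.nd (.lf 0) (.lf 0)) (.nd (.lf 118168) (.lf 0))) (.nd (.nd (.lf 0) (.lf 107584)) (.nd (.lf 5) (.lf 0)))) (.nd (.nd (.nd (.lf 0) (.lf 66660)) (.nd (.lf 944) (.lf 0))) (.nd (.nd (.lf 146048)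 (.lf 0)) (.nd (.lf 46684) (.lf 0)))))) (.nd (.nd (.nd (.nd (.nd (.lf 0) (.lf 120436)) (.nd (.lf 0) (.lf 0))) (.nd (.nd (.lf 0) (.lf 79216)) (.nd (.lf 0) (.lf 0)))) (.nd (.nd (.nd (.lf 0) (.lf 0)) (.nd (.lf 0) (.lf 0))) (.nd (.nd (.lf 0) (.lf 0)) (.nd (.lf 0) (.lf 0))))) (.nd (.nd (.nd (.nd (.lf 0) (.lf 149538)) (.nd (.lf 7414) (.lf 0))) (.nd (.nd (.lf 0) (.lf 154684)) (.nd (.lf 45046) (.lf 0)))) (.nd (.nd (.nd (.lf 0) (.lf 78586)) (.nd (.lf 106102) (.lf 0))) (.nd (.nd (.lf 0) (.lf 0)) (.nd (.lf 86738) (.lf 0))))))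

/-- table part -/
def jsT_55 : Tr :=
  .nd (.nd (.nd (.nd (.nd (.nd (.lf 0) (.lf 0)) (.nd (.lf 0) (.lf 0))) (.nd (.nd (.lf 0) (.lf 125112)) (.nd (.lf 0) (.lf 0)))) (.nd (.nd (.nd (.lf 0) (.lf 47346)) (.nd (.lf 0) (.lf 0))) (.nd (.nd (.lf 59538) (.lf 151232)) (.nd (.lf 105262) (.lf 0))))) (.nd (.nd (.nd (.nd (.lf 0) (.lf 52282)) (.nd (.lf 0) (.lf 0))) (.nd (.nd (.lf 2474) (.lf 44342)) (.nd (.lf 0) (.lf 0)))) (.nd (.nd (.nd (.lf 0) (.lf 78532)) (.nd (.lf 0) (.lf 0))) (.nd (.nd (.lf 0) (.lf 0)) (.nd (.lf 56358) (.lf 0)))))) (.nd (.nd (.nd (.nd (.nd (.lf 0) (.lf 152078)) (.nd (.lf 0) (.lf 0))) (.nd (.nd (.lf 0) (.lf 44846)) (.nd (.lf 0) (.lf 0)))) (.nd (.nd (.nd (.lf 0) (.lf 148906)) (.nd (.lf 412) (.lf 0))) (.nd (.nd (.lf 147704) (.lf 0)) (.nd (.lf 132386) (.lf 0))))) (.nd (.nd (.nd (.nd (.lf 0) (.lf 92472)) (.nd (.lf 0) (.lf 0))) (.nd (.nd (.lf 0) (.lf 59310)) (.nd (.lf 148530) (.lf 0)))) (.nd (.nd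 (.nd (.lf 0) (.lf 0)) (.nd (.lf 114526) (.lf 0))) (.nd (.nd (.lf 0) (.lf 0)) (.nd (.lf 0) (.lf 0))))))

/-- table part -/
def jsT_56 : Tr :=
  .nd jsT_54 jsT_55

/-- table part -/
def jsT_57 : Tr :=
  .nd (.nd (.nd (.nd (.nd (.nd (.lf 0) (.lf 139586)) (.nd (.lf 118006) (.lf 0))) (.nd (.nd (.lf 0) (.lf 11124)) (.nd (.lf 0) (.lf 0)))) (.nd (.nd (.nd (.lf 0) (.lf 66216)) (.nd (.lf 39356) (.lf 0))) (.nd (.nd (.lf 90904) (.lf 40454)) (.nd (.lf 0) (.lf 0))))) (.nd (.nd (.nd (.nd (.lf 0) (.lf 0)) (.nd (.lf 110962) (.lf 0))) (.nd (.nd (.lf 145940) (.lf 116832)) (.nd (.lf 0) (.lf 0)))) (.nd (.nd (.nd (.lf 0) (.lf 25560)) (.nd (.lf 5444) (.lf 0))) (.nd (.nd (.lf 0) (.lf 0)) (.nd (.lf 0) (.lf 0)))))) (.nd (.nd (.nd (.nd (.nd (.lf 0) (.lf 21862)) (.nd (.lf 13256) (.lf 0))) (.nd (.nd (.lf 0) (.lf 42074)) (.nd (.lf 132062) (.lf 0)))) (.nd (.nd (.nd (.lf 0) (.lf 80616)) (.nd (.lf 88716) (.lf 0))) (.nd (.nd (.lf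 0) (.lf 0)) (.nd (.lf 0) (.lf 0))))) (.nd (.nd (.nd (.nd (.lf 0) (.lf 59796)) (.nd (.lf 0) (.lf 0))) (.nd (.nd (.lf 0) (.lf 1132)) (.nd (.lf 0) (.lf 0)))) (.nd (.nd (.nd (.lf 0) (.lf 70722)) (.nd (.lf 0) (.lf 0))) (.nd (.nd (.lf 0) (.lf 0)) (.nd (.lf 38950) (.lf 0))))))

/-- table part -/
def jsT_58 : Tr :=
  .nd (.nd (.nd (.nd (.nd (.nd (.lf 0) (.lf 0)) (.nd (.lf 0) (.lf 0))) (.nd (.nd (.lf 142574) (.lf 78856)) (.nd (.lf 89220) (.lf 0)))) (.nd (.nd (.nd (.lf 1088) (.lf 43306)) (.nd (.lf 11) (.lf 0))) (.nd (.nd (.lf 42580) (.lf 105958)) (.nd (.lf 117084) (.lf 0))))) (.nd (.nd (.nd (.nd (.lf 0) (.lf 56530)) (.nd (.lf 0) (.lf 0))) (.nd (.nd (.lf 0) (.lf 53292)) (.nd (.lf 0) (.lf 0)))) (.nd (.nd (.nd (.lf 143866) (.lf 41100)) (.nd (.lf 0) (.lf 0))) (.nd (.nd (.lf 56118) (.lf 0)) (.nd (.lf 117300) (.lf 0)))))) (.nd (.nd (.nd (.nd (.nd (.lf 0) (.lf 0)) (.nd (.lf 147486) (.lf 0))) (.nd (.nd (.lf 0) (.lf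 52986)) (.nd (.lf 51858) (.lf 0)))) (.nd (.nd (.nd (.lf 0) (.lf 54720)) (.nd (.lf 0) (.lf 0))) (.nd (.nd (.lf 81034) (.lf 0)) (.nd (.lf 64806) (.lf 0))))) (.nd (.nd (.nd (.nd (.lf 0) (.lf 78370)) (.nd (.lf 146910) (.lf 0))) (.nd (.nd (.lf 53694) (.lf 150402)) (.nd (.lf 0) (.lf 0)))) (.nd (.nd (.nd (.lf 4094) (.lf 0)) (.nd (.lf 4860) (.lf 0))) (.nd (.nd (.lf 0) (.lf 0)) (.nd (.lf 52586) (.lf 0))))))

/-- table part -/
def jsT_59 : Tr :=
  .nd jsT_57 jsT_58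

/-- table part -/
def jsT_60 : Tr :=
  .nd jsT_56 jsT_59

/-- table part -/
def jsT_61 : Tr :=
  .nd jsT_53 jsT_60

/-- table part -/
def jsT_62 : Tr :=
  .nd jsT_46 jsT_61

/-- table part -/
def jsT_63 : Tr :=
  .nd jsT_31 jsT_62

/-- table -/
def jsT : Tr :=
  jsT_63

/-- relations -/
def rels : List (List (ℕ × Bool)) :=
  [[(0, true), (0, true), (0, true), (0, true), (0, true), (0, true), (0, true), (0, true), (0, true), (0, true), (0, true)],
   [(1, true), (1, true), (1, true), (1, true), (1, true), (1, true), (1, true), (1, true), (1, true), (1, true), (1, true)],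
   [(0, false), (1, true), (0, false), (1, true), (0, false), (1, true), (0, false), (1, true)],
   [(1, false), (1, false), (0, true), (1, false), (1, false), (0, true), (1, false), (1, false), (0, true)],
   [(0, false), (1, true), (0, true), (1, false), (1, false), (1, false), (0, true), (0, true), (1, true), (0, true), (0, true), (1, true)],
   [(0, false), (0, false), (1, true), (0, true), (1, true), (1, true), (1, true), (0, true), (0, true), (1, false), (0, true), (1, true)],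
   [(0, false), (0, false), (0, false), (1, true), (0, true), (0, true), (1, true), (0, true), (0, true), (0, true), (1, true), (1, true)],
   [(1, false), (0, false), (1, false), (1, false), (0, false), (0, false), (1, false), (0, false), (1, false), (1, false), (0, false), (0, false)],
   [(1, false), (1, false), (0, true), (0, true), (1, false), (1, false), (0, false), (1, true), (0, true), (0, true), (0, true), (0, true), (0, true)]]

/-- parameter edges -/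
def pe : List ℕ := [1237, 361, 839, 894, 190, 671]

/-- elimination -/
def fin : List (List (ℕ × ℕ × ℕ)) :=
  [[(0, 5, 2), (0, 11, 1), (0, 13, 1), (0, 15, 2), (0, 21, 2), (0, 23, 2), (0, 29, 1), (0, 31, 2)],
   [(0, 0, 2), (0, 13, 1), (0, 15, 1), (0, 19, 1), (0, 21, 2), (0, 23, 1), (0, 29, 2), (0, 31, 2), (0, 33, 2), (0, 37, 1)],
   [(0, 5, 1), (0, 7, 2), (0, 11, 2), (0, 15, 1), (0, 19, 1), (0, 29, 1), (0, 31, 2), (0, 33, 2), (0, 37, 1)],
   [(0, 5, 2), (0, 7, 1), (0, 11, 2), (0, 13, 2), (0, 19, 1), (0, 21, 1), (0, 23, 2), (0, 29, 1), (0, 33, 1), (0, 37, 2)],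
   [(0, 7, 1), (0, 11, 1), (0, 13, 1), (0, 15, 2), (0, 19, 2), (0, 21, 1), (0, 23, 2), (0, 29, 1), (0, 31, 2), (0, 37, 1)],
   [(0, 0, 2), (0, 5, 2), (0, 7, 1), (0, 11, 1), (0, 13, 1), (0, 19, 2), (0, 29, 1)],
   [(0, 0, 1), (0, 5, 1), (0, 13, 2), (0, 15, 1), (0, 19, 2), (0, 21, 1), (0, 23, 2), (0, 29, 1), (0, 31, 1), (0, 33, 2)],
   [(0, 11, 2), (0, 13, 1), (0, 19, 2), (0, 29, 2), (0, 33, 1), (0, 37, 1)],
   [(0, 0, 1), (0, 5, 1), (0, 7, 1), (0, 11, 1), (0, 13, 1), (0, 15, 2), (0, 19, 2), (0, 21, 2), (0, 23, 1), (0, 29, 1), (0, 31, 1), (0, 33, 1), (0, 37, 1)],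
   [(0, 0, 1), (0, 5, 2), (0, 13, 2), (0, 15, 2), (0, 19, 1), (0, 21, 2), (0, 31, 2), (0, 33, 2), (0, 37, 1)],
   [(0, 0, 2), (0, 5, 1), (0, 7, 1), (0, 11, 1), (0, 13, 1), (0, 15, 1), (0, 19, 2), (0, 21, 2), (0, 23, 2), (0, 29, 1), (0, 31, 1), (0, 33, 2), (0, 37, 1)],
   [(0, 5, 2), (0, 7, 2), (0, 11, 2), (0, 19, 2), (0, 21, 1), (0, 23, 2), (0, 29, 1), (0, 33, 1), (0, 37, 2)],
   [(0, 5, 1), (0, 15, 2), (0, 23, 1), (0, 33, 1)]]

/-- the certificate -/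
def cert : Cert :=
  ⟨3, 2, 720, 2, 13, rels, nxT, pvT, parT, fmT, rkT, jsT, pe, fin⟩

end Cfsg.Agent.SplitVoltageM11P3Data
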