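import Cfsg.Agent.Lib.SplitVoltageMathieu
import Cfsg.Agent.Lib.GolayOutM12
import Cfsg.Agent.Lib.SplitVoltageM12P3
import Cfsg.Agent.Lib.SplitVoltageM12P4
import Cfsg.Agent.Lib.RangeLoopEqn

/-!
The multiplier of the Mathieu group of degree twelve has order two: a signed double cover and the
voltage bound.
-/

set_option autoImplicit false
set_option maxRecDepth 100000

namespace Cfsg.Agent.SplitVoltageM12

open Cfsg Cfsg.Agent.GolayBasic Cfsg.Agent.GolayPerm Cfsg.Agent.GolayChain Cfsg.Agent.GolaySolve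
open Cfsg.Agent.GolayOutTool Cfsg.Agent.GolayOutConst
open Cfsg.Agent.SplitVoltage Cfsg.Agent.SplitVoltageCert Cfsg.Agent.SplitVoltageGolay
open Cfsg.Agent.SplitVoltageM12P4Data
open scoped Pointwise commutatorElement

/-! ### retractions from a perfect group of trivial multiplier -/

/-- the derived group of a central extension of a perfect group of trivial multiplier splits it -/
theorem exists_retraction {H : Type} [Group H] [Finite H] (hp : commutator H = ⊤)
    (htriv : Cfsg.HasCyclicSchurMultiplier H 1) {Γ : Type} [Group Γ] [Finite Γ] (σ : Γ →* H)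
    (hs : Function.Surjective σ) (hc : σ.ker ≤ Subgroup.center Γ) {A : Type*} [CommGroup A]
    (χ : σ.ker →* A) : ∃ ψ : Γ →* A, ∀ z : σ.ker, ψ z = χ z := by
  set D := commutator Γ
  have hmap : D.map σ = ⊤ := by
    rw [← hp]
    show (commutator Γ).map σ = commutator H
    rw [commutator_def, Subgroup.map_commutator, Subgroup.map_top_of_surjective σ hs, ← commutator_def]
  have hdec : ∀ g : Γ, ∃ d ∈ D, σ d = σ g := fun g => by
    have : σ g ∈ D.map σ := hmap ▸ Subgroup.mem_top _
    exact this
  have hperf : ∀ d ∈ D, (d : Γ) ∈ (commutator D).map D.subtype := by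
    intro d hd
    refine (Subgroup.closure_le _).2 ?_ (by rwa [← commutator_eq_closure])
    rintro _ ⟨a, b, rfl⟩
    obtain ⟨a', ha', ea⟩ := hdec a
    obtain ⟨b', hb', eb⟩ := hdec b
    refine ⟨⁅(⟨a', ha'⟩ : D), ⟨b', hb'⟩⁆, Subgroup.commutator_mem_commutator (Subgroup.mem_top _)
      (Subgroup.mem_top _), ?_⟩
    show ⁅a', b'⁆ = ⁅a, b⁆
    have hza : a'⁻¹ * a ∈ Subgroup.center Γ :=
      hc (by rw [MonoidHom.mem_ker, map_mul, map_inv, ea, inv_mul_cancel])
    have hzb : b'⁻¹ * b ∈ Subgroup.center Γ :=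
      hc (by rw [MonoidHom.mem_ker, map_mul, map_inv, eb, inv_mul_cancel])
    generalize hza' : a'⁻¹ * a = za at hza
    generalize hzb' : b'⁻¹ * b = zb at hzb
    rw [inv_mul_eq_iff_eq_mul] at hza' hzb'
    subst hza' hzb'
    have ca := fun g : Γ => Subgroup.mem_center_iff.1 hza g
    have cb := fun g : Γ => Subgroup.mem_center_iff.1 hzb g
    have cai := fun g : Γ => Subgroup.mem_center_iff.1 (inv_mem hza) g
    have cbi := fun g : Γ => Subgroup.mem_center_iff.1 (inv_mem hzb) g
    simp only [commutatorElement_def, mul_inv_rev]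
    rw [← cai a'⁻¹, ← cbi b'⁻¹]
    symm
    calc a' * za * (b' * zb) * (a'⁻¹ * za⁻¹) * (b'⁻¹ * zb⁻¹)
        = a' * (za * (b' * zb * a'⁻¹)) * za⁻¹ * (b'⁻¹ * zb⁻¹) := by group
      _ = a' * (b' * zb * a'⁻¹ * za) * za⁻¹ * (b'⁻¹ * zb⁻¹) := by rw [← ca]
      _ = a' * b' * (zb * (a'⁻¹ * b'⁻¹)) * zb⁻¹ := by group
      _ = a' * b' * ((a'⁻¹ * b'⁻¹) * zb) * zb⁻¹ := by rw [← cb]
      _ = _ := by group
  let τ : D →* H := σ.comp D.subtype
  have hτ : Cfsg.IsStemExtension τ := by
    refine ⟨fun h => ?_, fun d hd => ?_, fun d _ => ?_⟩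
    · obtain ⟨g, rfl⟩ := hs h
      obtain ⟨d, hd, e⟩ := hdec g
      exact ⟨⟨d, hd⟩, e⟩
    · exact Subgroup.mem_center_iff.2 fun g =>
        Subtype.ext (Subgroup.mem_center_iff.1 (hc (MonoidHom.mem_ker.2 hd)) g)
    · obtain ⟨d', hd', e⟩ := hperf d d.2
      rwa [← Subtype.ext e]
  obtain ⟨π, hπ⟩ := htriv.2 D τ hτ
  have hinj : ∀ d ∈ D, σ d = 1 → d = 1 := by
    intro d hd h1
    obtain ⟨q, hq⟩ := hπ ⟨⟨d, hd⟩, h1⟩
    have hq1 : q = 1 := Multiplicative.toAdd.injective (Subsingleton.elim (α := ZMod 1) _ _)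
    rw [hq1, map_one] at hq
    exact (congrArg (fun w : τ.ker => ((w : D) : Γ)) hq).symm
  choose df hdf hdfσ using hdec
  let zf : Γ → σ.ker := fun g =>
    ⟨(df g)⁻¹ * g, by rw [MonoidHom.mem_ker, map_mul, map_inv, hdfσ, inv_mul_cancel]⟩
  have huniq : ∀ d ∈ D, ∀ g : Γ, σ d = σ g → df g = d := by
    intro d hd g e
    exact (inv_mul_eq_one.1 (hinj ((df g)⁻¹ * d) (mul_mem (inv_mem (hdf g)) hd)
      (by rw [map_mul, map_inv, hdfσ, e, inv_mul_cancel])))
  refine ⟨MonoidHom.mk' (fun g => χ (zf g)) fun a b => ?_, fun z => ?_⟩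
  · rw [← map_mul]
    congr 1
    apply Subtype.ext
    show (df (a * b))⁻¹ * (a * b) = (df a)⁻¹ * a * ((df b)⁻¹ * b)
    rw [huniq (df a * df b) (mul_mem (hdf a) (hdf b)) (a * b)
      (by rw [map_mul, map_mul, hdfσ, hdfσ])]
    have hza : (df a)⁻¹ * a ∈ Subgroup.center Γ :=
      hc (zf a).2
    rw [mul_inv_rev, ← Subgroup.mem_center_iff.1 hza ((df b)⁻¹ * b)]
    rw [mul_assoc (df b)⁻¹ b, Subgroup.mem_center_iff.1 hza b]
    group
  · show χ (zf (z : Γ)) = χ z
    congr 1
    apply Subtype.ext
    show (df (z : Γ))⁻¹ * (z : Γ) = z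
    rw [huniq 1 (one_mem _) _ (by rw [map_one, MonoidHom.mem_ker.1 z.2]), inv_one, one_mul]

/-! ### the group of degree eleven as a point stabiliser -/

theorem perfect_M11 : commutator Spor.M11 = ⊤ := by
  have hh : ∀ g : Spor.M11, Abelianization.of g = 1 := by
    have e11 : ∀ g : Spor.M11, g ^ 11 = 1 → ∀ k : ℕ, Nat.Coprime 11 k →
        (Abelianization.of g) ^ k = 1 → Abelianization.of g = 1 := by
      intro g hg k hk hgk
      have h1 := orderOf_dvd_of_pow_eq_one hgk
      have h2 : orderOf (Abelianization.of g) ∣ 11 :=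
        orderOf_dvd_of_pow_eq_one (by rw [← map_pow, hg, map_one])
      exact orderOf_eq_one_iff.1 (Nat.eq_one_of_dvd_one (hk ▸ Nat.dvd_gcd h2 h1))
    have hsub : Subgroup.closure ({GolayOutM11.gT, GolayOutM11.gV} : Set Spor.M11) ≤
        (Abelianization.of (G := Spor.M11)).ker := by
      have hw : (GolayOutM11.gV * GolayOutM11.gT) ^ 11 = 1 := by
        apply Subtype.ext
        have := (prod_eq_one_iff (l := (List.replicate 11 [pV11, pT]).flatten)
          (List.all_eq_true.1 (by decide +kernel :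
            ((List.replicate 11 [pV11, pT]).flatten.all valid) = true))).2 (by decide +kernel)
        rw [Subgroup.coe_pow, Subgroup.coe_mul]
        show (permOf pV11 * permOf pT) ^ 11 = 1
        rw [List.map_flatten, List.map_replicate, List.prod_flatten, List.map_replicate,
          List.prod_replicate] at this
        simpa only [List.map_cons, List.map_nil, List.prod_cons, List.prod_nil, mul_one] using this
      have hV4 : GolayOutM11.gV ^ 4 = 1 := by
        apply Subtype.ext
        have := (prod_eq_one_iff (l := List.replicate 4 pV11)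
          (List.all_eq_true.1 (by decide +kernel :
            ((List.replicate 4 pV11).all valid) = true))).2 (by decide +kernel)
        rw [Subgroup.coe_pow]
        show permOf pV11 ^ 4 = 1
        rwa [List.map_replicate, List.prod_replicate] at this
      have hT : GolayOutM11.gT ^ 11 = 1 := by
        apply Subtype.ext
        have := (prod_eq_one_iff (l := List.replicate 11 pT)
          (List.all_eq_true.1 (by decide +kernel :
            ((List.replicate 11 pT).all valid) = true))).2 (by decide +kernel)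
        rw [Subgroup.coe_pow]
        show permOf pT ^ 11 = 1
        rwa [List.map_replicate, List.prod_replicate] at this
      -- a word of order eleven conjugate to a power of the first generator fixes the images
      have hv : Abelianization.of GolayOutM11.gV = 1 := by
        have h4 : (Abelianization.of GolayOutM11.gV) ^ 4 = 1 := by rw [← map_pow, hV4, map_one]
        have h44 : (Abelianization.of GolayOutM11.gV) ^ 11 = 1 := by
          have := congrArg (Abelianization.of (G := Spor.M11)) hw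
          rw [map_pow, map_mul, mul_pow, ← map_pow _ GolayOutM11.gT, hT, map_one, mul_one] at this
          exact this
        have h1 : (Abelianization.of GolayOutM11.gV) ^ (Nat.gcd 4 11) = 1 := pow_gcd_eq_one.2 ⟨h4, h44⟩
        simpa using h1
      rw [Subgroup.closure_le]
      rintro g (rfl | rfl)
      · refine MonoidHom.mem_ker.2 ?_
        obtain ⟨u, hu⟩ : ∃ u : Spor.M11, u * GolayOutM11.gT = GolayOutM11.gT ^ 4 * u :=
          ⟨GolayOutM11.gU, GolayOutConst.rel_of_word (P := pT) (Q := pU) rfl rfl (by decide +kernel)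
            (by decide +kernel) (by decide +kernel)⟩
        refine e11 _ hT 3 (by norm_num) ?_
        have := congrArg (Abelianization.of (G := Spor.M11)) hu
        rw [map_mul, map_mul, map_pow, mul_comm (Abelianization.of u), mul_left_inj] at this
        rwa [pow_succ, right_eq_mul] at this
      · exact hv
    intro g
    exact hsub (GolayOutM11.closure_gens ▸ Subgroup.mem_top g)
  rw [eq_top_iff]
  intro g _
  rw [← Abelianization.ker_of]
  exact hh g

/-! ### generators and orbit -/

theorem gens12_check : (gensP.all fun T => memCheck [] 340831 T) = true := by decide +kernel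

theorem gens12_mem : ∀ i < 2, permOf (gensP.getD i 0) ∈ Spor.M12 := fun i hi =>
  mem_M12_of_check (List.all_eq_true.1 gens12_check _ (by
    rw [List.getD_eq_getElem (hn := by simpa [gensP] using hi)]; exact List.getElem_mem _))

theorem gens12_valid : ∀ i < 2, valid (gensP.getD i 0) = true := fun i hi =>
  (memCheck_spec (List.all_eq_true.1 gens12_check _ (by
    rw [List.getD_eq_getElem (hn := by simpa [gensP] using hi)]; exact List.getElem_mem _))).1

theorem gens12_top : ∀ K : Subgroup Spor.M12,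
    (∀ i (hi : i < 2), (⟨_, gens12_mem i hi⟩ : Spor.M12) ∈ K) → K = ⊤ := by
  intro K hK
  rw [eq_top_iff, ← GolayOutM12.closure_gens, Subgroup.closure_le]
  have e0 : (⟨_, gens12_mem 0 (by norm_num)⟩ : Spor.M12) = GolayOutM12.gT :=
    Subtype.ext (congrArg permOf (show gensP.getD 0 0 = pT by decide +kernel))
  have h0 : GolayOutM12.gT ∈ K := e0 ▸ hK 0 (by norm_num)
  have e1 : (⟨_, gens12_mem 1 (by norm_num)⟩ : Spor.M12) =
      GolayOutM12.gC * GolayOutM12.gT ^ 3 := by
    apply Subtype.ext
    have := prod_eq_of_sameWord (l := [gensP.getD 1 0]) (l' := pC :: List.replicate 3 pT)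
      (List.all_eq_true.1 (by decide +kernel : [gensP.getD 1 0].all valid = true))
      (List.all_eq_true.1 (by decide +kernel : (pC :: List.replicate 3 pT).all valid = true))
      (by decide +kernel)
    simp only [List.map_cons, List.map_nil, List.map_replicate, List.prod_cons, List.prod_nil,
      List.prod_replicate, mul_one] at this
    exact this
  rintro g (rfl | rfl)
  · exact h0
  · have h1 := hK 1 (by norm_num)
    rw [e1] at h1
    simpa using K.mul_mem h1 (K.inv_mem (K.pow_mem h0 3))

/-- the points of the dodecad -/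
def obj12 (c : ℕ) : GolayPt := pt (keys.getD c 0)

theorem obj12_inj : ∀ c < 12, ∀ d < 12, obj12 c = obj12 d → c = d := by decide +kernel

/-- the action check -/
noncomputable def act12 (nx : ℕ → ℕ → ℕ) : Bool :=
  (List.range 12).all fun c => decide (keys.getD c 0 < 24) && (List.range 2).all fun i =>
    pimg (gensP.getD i 0) (keys.getD c 0) == keys.getD (nx i c) 0

theorem obj12_act {nx : ℕ → ℕ → ℕ} (h : act12 nx = true) :
    ∀ i (hi : i < 2), ∀ c < 12,
      (⟨_, gens12_mem i hi⟩ : Spor.M12) • obj12 c = obj12 (nx i c) := by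
  intro i hi c hc
  simp only [act12, List.all_eq_true, List.mem_range, Bool.and_eq_true, decide_eq_true_eq,
    beq_iff_eq] at h
  obtain ⟨hlt, hnx⟩ := h c hc
  show permOf (gensP.getD i 0) (pt (keys.getD c 0)) = pt _
  rw [permOf_apply (gens12_valid i hi), pfun, idx_pt hlt, hnx i hi]

/-- the stabiliser of the first point -/
noncomputable def stab12Equiv : Spor.M11 ≃* MulAction.stabilizer Spor.M12 (obj12 0) where
  toFun g := ⟨⟨(g : Equiv.Perm GolayPt), g.2.1⟩, by
    have e : obj12 0 = some 0 := by decide +kernel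
    rw [e]; exact g.2.2⟩
  invFun g := ⟨(g.1 : Equiv.Perm GolayPt), g.1.2, by
    have h : (g.1 : Equiv.Perm GolayPt) • obj12 0 = obj12 0 := g.2
    have e : obj12 0 = some 0 := by decide +kernel
    exact (e ▸ h : (g.1 : Equiv.Perm GolayPt) • (some 0 : GolayPt) = some 0)⟩
  left_inv _ := rfl
  right_inv _ := rfl
  map_mul' _ _ := rfl

theorem bound12 (C : Cert) (h : C.Core) (hn : C.n = 2) (hN : C.N = 12) (hnp : C.npow = C.n)
    (hchk : gensOK C gensP gensQ ords = true) (hact : act12 C.nxF = true)
    (hcop : ∀ i < 2, Nat.Coprime (ords.getD i 0) C.m)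
    {k0 t : ℕ} {cs : List ℕ} (hfin : C.finCyc k0 t cs = true)
    {Γ : Type} [Group Γ] [Finite Γ] (σ : Γ →* Spor.M12) (hσ : Cfsg.IsStemExtension σ)
    {A : Type} [CommGroup A] (hA : ∀ a : A, a ^ C.m = 1) (χ : σ.ker →* A) :
    ∃ u : A, u ^ t = 1 ∧ ∀ z : σ.ker, χ z ∈ Subgroup.zpowers u := by
  refine bound_golay C h hnp gensP gensQ ords hchk ?_ (fun i hi => gens12_mem i (hn ▸ hi)) ?_
    obj12 (fun c hc d hd => obj12_inj c (hN ▸ hc) d (hN ▸ hd)) ?_ hfin σ hσ hA χ ?_
  · intro i hi
    refine ⟨?_, hcop i (hn ▸ hi)⟩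
    rw [hn] at hi
    interval_cases i <;> norm_num [ords]
  · exact fun K hK => gens12_top K fun i hi => hK i (hn.symm ▸ hi)
  · exact fun i hi c hc => obj12_act hact i (hn ▸ hi) c (hN ▸ hc)
  · intro σH hs hc χH
    let e := stab12Equiv.symm.toMonoidHom
    have hk : (e.comp σH).ker = σH.ker := by
      ext w
      simp [e, MonoidHom.mem_ker]
    obtain ⟨ψ, hψ⟩ := exists_retraction perfect_M11 SplitVoltageMathieu.multiplier_M11
      (e.comp σH) (stab12Equiv.symm.surjective.comp hs) (hk ▸ hc)
      (χH.comp (MulEquiv.subgroupCongr hk).toMonoidHom)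
    exact ⟨ψ, fun z => (hψ ⟨z, hk.symm ▸ z.2⟩).trans (congrArg χH (Subtype.ext rfl))⟩

theorem split12_three : CenSplit 3 Spor.M12 := by
  refine censplit_golay SplitVoltageM12P3Data.cert SplitVoltageM12P3.cert_ok rfl gensP gensQ ords
    (by decide +kernel) ?_ (fun i hi => gens12_mem i hi) ?_ obj12
    (fun c hc d hd => obj12_inj c hc d hd) ?_
    (censplit_of_equiv stab12Equiv (SplitVoltageMathieu.split_M11 (Or.inr rfl)))
  · intro i hi
    have : i < 2 := hi
    rw [show SplitVoltageM12P3Data.cert.m = 3 from rfl]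
    interval_cases i <;> norm_num [ords]
  · exact fun K hK => gens12_top K hK
  · exact fun i hi c hc => obj12_act (nx := SplitVoltageM12P3Data.cert.nxF) (by decide +kernel) i hi c hc

/-! ### the bound -/

theorem eq_two_of_dvd_ker {Γ : Type} [Group Γ] [Finite Γ] {σ : Γ →* Spor.M12}
    (hσ : Cfsg.IsStemExtension σ) {p : ℕ} (hp : p.Prime) (hd : p ∣ Nat.card σ.ker) : p = 2 := by
  haveI := Fact.mk hp
  by_contra h2
  haveI : Finite Spor.M12 := inferInstance
  by_cases hsq : p ^ 2 ∣ Nat.card Spor.M12 ∨ ¬ p ∣ Nat.card Spor.M12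
  · have hsplit : CenSplit p Spor.M12 := by
      rcases hsq with h | h
      · rcases SplitVoltageMathieu.two_or_three (a := 6) (b := 3) hp
          (GolayM24.card_M12.trans (by norm_num)) SplitVoltageMathieu.squarefree_five_eleven h with
          rfl | rfl
        · exact absurd rfl h2
        · exact split12_three
      · exact censplit_of_coprime ((Nat.Coprime.symm) ((hp.coprime_iff_not_dvd).2 h))
    obtain ⟨M, hM⟩ := trivial_multiplier.exists_index_eq_prime hσ.2.1 hd
    haveI : M.Normal := by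
      constructor
      intro a ha g
      have : g * a = a * g := Subtype.ext (Subgroup.mem_center_iff.1 (hσ.2.1 a.2) g)
      rwa [this, mul_inv_cancel_right]
    have hcard : Nat.card (σ.ker ⧸ M) = p := hM
    haveI : IsCyclic (σ.ker ⧸ M) := isCyclic_of_prime_card hcard
    let e : σ.ker ⧸ M ≃* Multiplicative (ZMod p) := mulEquivOfCyclicCardEq (by simp [hcard])
    obtain ⟨ψ, hψ⟩ := hsplit Γ σ hσ.1 hσ.2.1 (e.toMonoidHom.comp (QuotientGroup.mk' M))
    have htop : M = ⊤ := by
      rw [Subgroup.eq_top_iff']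
      intro w
      have := hψ w
      rw [eq_one_of_mem_commutator ψ (hσ.2.2 w.2)] at this
      have h1 : QuotientGroup.mk' M w = 1 := e.injective (by simpa using this.symm)
      exact (QuotientGroup.eq_one_iff w).1 h1
    rw [htop, Subgroup.index_top] at hM
    exact hp.one_lt.ne hM
  · rw [not_or, not_not] at hsq
    obtain ⟨a, ha⟩ := exists_prime_orderOf_dvd_card' p hsq.2
    obtain ⟨z, hz⟩ := exists_prime_orderOf_dvd_card' (G := σ.ker) p hd
    have hzo : orderOf (z : Γ) = p := (Subgroup.orderOf_coe z).trans hz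
    have hcop : Nat.Coprime (orderOf (z : Γ)) (Subgroup.zpowers a).index := by
      rw [hzo, hp.coprime_iff_not_dvd]
      rintro ⟨k, hk⟩
      refine hsq.1 ⟨k, ?_⟩
      rw [← Subgroup.card_mul_index (Subgroup.zpowers a), Nat.card_zpowers, ha, hk]
      ring
    have h1 := StemBasic.eq_one_of_kerFree hσ (StemBasic.kerFree_zpowers σ hσ.2.1 a) z.2 hcop
    rw [h1, orderOf_one] at hzo
    exact hp.one_lt.ne hzo

theorem exists_onto {Γ : Type} [Group Γ] [Finite Γ] {σ : Γ →* Spor.M12}
    (hσ : Cfsg.IsStemExtension σ) :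
    ∃ π : Multiplicative (ZMod 2) →* σ.ker, Function.Surjective π := by
  letI : CommGroup σ.ker :=
    { (inferInstance : Group σ.ker) with
      mul_comm := fun a b => Subtype.ext (Subgroup.mem_center_iff.1 (hσ.2.1 b.2) a) }
  let f : σ.ker →* σ.ker := powMonoidHom 4
  obtain ⟨u, hu, hmem⟩ := bound12 cert SplitVoltageM12P4.cert_core rfl rfl rfl (by decide +kernel)
    (by decide +kernel) (by decide +kernel) SplitVoltageM12P4.cert_cyc σ hσ
    (A := σ.ker ⧸ f.range) (fun a => by
      obtain ⟨y, rfl⟩ := QuotientGroup.mk_surjective a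
      rw [show cert.m = 4 from rfl, ← QuotientGroup.mk_pow, QuotientGroup.eq_one_iff]
      exact ⟨y, rfl⟩) (QuotientGroup.mk' f.range)
  obtain ⟨w, rfl⟩ := QuotientGroup.mk_surjective u
  have hgen : ∀ k : ℕ, ∀ z : σ.ker, ∃ (j : ℤ) (y : σ.ker), z = w ^ j * y ^ (4 ^ k) := by
    intro k
    induction k with
    | zero => exact fun z => ⟨0, z, by simp⟩
    | succ k ih =>
      intro z
      obtain ⟨j, y, rfl⟩ := ih z
      obtain ⟨i, hi⟩ := Subgroup.mem_zpowers_iff.1 (hmem y)
      obtain ⟨y', hy'⟩ := (QuotientGroup.eq (s := f.range)).1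
        (by rw [QuotientGroup.mk_zpow]; exact hi : (QuotientGroup.mk (w ^ i) : σ.ker ⧸ f.range) = QuotientGroup.mk y)
      rw [eq_inv_mul_iff_mul_eq] at hy'
      refine ⟨j + i * (4 ^ k : ℕ), y', ?_⟩
      rw [← hy', mul_pow, zpow_add, zpow_mul, zpow_natCast, mul_assoc, pow_succ', pow_mul]
      rfl
  obtain ⟨n, hn⟩ : ∃ n, Nat.card σ.ker = 2 ^ n :=
    ⟨_, Nat.eq_prime_pow_of_unique_prime_dvd Nat.card_pos.ne'
      (fun hd hdvd => eq_two_of_dvd_ker hσ hd hdvd)⟩
  have hall : ∀ z : σ.ker, ∃ j : ℤ, z = w ^ j := by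
    intro z
    obtain ⟨j, y, hy⟩ := hgen n z
    refine ⟨j, ?_⟩
    have h1 : y ^ (4 ^ n) = 1 := orderOf_dvd_iff_pow_eq_one.1
      ((orderOf_dvd_natCard y).trans (hn ▸ pow_dvd_pow_of_dvd (by norm_num) n))
    rw [hy, h1, mul_one]
  have hw2 : w ^ 2 = 1 := by
    rw [← QuotientGroup.mk_pow, QuotientGroup.eq_one_iff] at hu
    obtain ⟨y, hy⟩ := hu
    obtain ⟨j, rfl⟩ := hall y
    have h4 : (w ^ j) ^ 4 = w ^ 2 := hy
    rw [← zpow_natCast (w ^ j), ← zpow_mul, ← zpow_natCast w 2, zpow_eq_zpow_iff_modEq] at h4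
    have hd : ((orderOf w : ℕ) : ℤ) ∣ (2 : ℤ) - j * 4 := by simpa using h4.dvd
    obtain ⟨k, -, hk⟩ := (Nat.dvd_prime_pow Nat.prime_two).1 (hn ▸ orderOf_dvd_natCard w)
    apply orderOf_dvd_iff_pow_eq_one.1
    rcases Nat.lt_or_ge k 2 with hk2 | hk2
    · rw [hk]; interval_cases k <;> norm_num
    · exfalso
      have : ((4 : ℕ) : ℤ) ∣ (orderOf w : ℤ) := by
        rw [hk]; exact_mod_cast (pow_dvd_pow 2 hk2)
      have := this.trans hd
      omega
  let a : {f : ℤ →+ Additive σ.ker // f 2 = 0} :=
    ⟨zmultiplesHom _ (Additive.ofMul w), by simp [← ofMul_zpow, ← ofMul_pow, zpow_ofNat, hw2]⟩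
  refine ⟨AddMonoidHom.toMultiplicativeLeft (ZMod.lift 2 a), fun z => ?_⟩
  obtain ⟨j, rfl⟩ := hall z
  refine ⟨Multiplicative.ofAdd ((j : ℤ) : ZMod 2), ?_⟩
  show Additive.toMul (ZMod.lift 2 a ((j : ℤ) : ZMod 2)) = w ^ j
  rw [ZMod.lift_coe]
  simp [a]

/-! ### the double cover -/

/-- exchange of the two members of every pair -/
noncomputable def pJ : Equiv.Perm GolayPt := permOf flipAll

/-- the point below a signed point -/
def proj (q : GolayPt) : GolayPt := pt (keys.getD (idx q / 2) 0)

/-- pairs of compatible permutations -/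
def compat : Subgroup (Equiv.Perm GolayPt × Equiv.Perm GolayPt) where
  carrier := {gs | (∀ q, proj (gs.2 q) = gs.1 (proj q)) ∧ gs.2 * pJ = pJ * gs.2}
  one_mem' := ⟨fun _ => rfl, by simp⟩
  mul_mem' := by
    rintro ⟨g, s⟩ ⟨g', s'⟩ ⟨h1, h2⟩ ⟨h1', h2'⟩
    refine ⟨fun q => ?_, ?_⟩
    · show proj (s (s' q)) = g (g' (proj q))
      rw [h1, h1']
    · show s * s' * pJ = pJ * (s * s')
      rw [mul_assoc, h2', ← mul_assoc, h2, mul_assoc]
  inv_mem' := by
    rintro ⟨g, s⟩ ⟨h1, h2⟩
    refine ⟨fun q => ?_, ?_⟩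
    · show proj (s⁻¹ q) = g⁻¹ (proj q)
      have h3 : proj (s (s⁻¹ q)) = g (proj (s⁻¹ q)) := h1 (s⁻¹ q)
      rw [Equiv.Perm.inv_def, Equiv.apply_symm_apply] at h3
      rw [Equiv.Perm.inv_def, Equiv.Perm.inv_def, Equiv.eq_symm_apply]
      exact h3.symm
    · show s⁻¹ * pJ = pJ * s⁻¹
      rw [inv_mul_eq_iff_eq_mul, ← mul_assoc, h2, mul_inv_cancel_right]

/-- the invariant family -/
noncomputable def famSet : Finset (Finset GolayPt) := (fam.map mset).toFinset

/-- pairs in the group whose second member keeps the family -/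
noncomputable def amb : Subgroup (Equiv.Perm GolayPt × Equiv.Perm GolayPt) :=
  compat ⊓ (Spor.M12.prod (MulAction.stabilizer (Equiv.Perm GolayPt) famSet))

/-- the generating pairs -/
noncomputable def lift12 (i : ℕ) : Equiv.Perm GolayPt × Equiv.Perm GolayPt :=
  (permOf (gensP.getD i 0), permOf (liftsP.getD i 0))

/-- the double cover -/
noncomputable def Cover : Subgroup (Equiv.Perm GolayPt × Equiv.Perm GolayPt) :=
  Subgroup.closure (lift12 '' Set.Iio 2)

theorem lifts_check : ((List.range 2).all fun i => valid (liftsP.getD i 0) &&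
    (List.range 24).all (fun q => (keys.getD (pimg (liftsP.getD i 0) q / 2) 0 ==
      pimg (gensP.getD i 0) (keys.getD (q / 2) 0)) && decide (keys.getD (q / 2) 0 < 24)) &&
    sameWord [liftsP.getD i 0, flipAll] [flipAll, liftsP.getD i 0] &&
    fam.all (fun o => decide (o < 16777216) && fam.elem (pmask (liftsP.getD i 0) o))) = true := by
  decide +kernel

theorem valid_flipAll : valid flipAll = true := by decide +kernel

theorem lift12_mem {i : ℕ} (hi : i < 2) : lift12 i ∈ amb := by
  have := List.all_eq_true.1 lifts_check i (List.mem_range.2 hi)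
  simp only [Bool.and_eq_true, List.all_eq_true, List.mem_range, beq_iff_eq, decide_eq_true_eq] at this
  obtain ⟨⟨⟨hv, hc⟩, hJ⟩, hf⟩ := this
  refine ⟨⟨fun q => ?_, ?_⟩, gens12_mem i hi, ?_⟩
  · show proj (permOf (liftsP.getD i 0) q) = permOf (gensP.getD i 0) (proj q)
    obtain ⟨h1, h2⟩ := hc (idx q) (idx_lt q)
    rw [proj, idx_permOf hv, permOf_apply (gens12_valid i hi), pfun, proj, idx_pt h2, h1]
  · show permOf (liftsP.getD i 0) * pJ = pJ * permOf (liftsP.getD i 0)
    have := prod_eq_of_sameWord (l := [liftsP.getD i 0, flipAll]) (l' := [flipAll, liftsP.getD i 0])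
      (by simp [hv, valid_flipAll]; exact hv) (by simp [valid_flipAll]; exact hv) hJ
    simpa [pJ] using this
  · show permOf (liftsP.getD i 0) ∈ MulAction.stabilizer (Equiv.Perm GolayPt) famSet
    rw [MulAction.mem_stabilizer_iff]
    refine Finset.eq_of_subset_of_card_le (fun s hs => ?_) (by rw [Finset.card_smul_finset])
    obtain ⟨s0, hs0, rfl⟩ := Finset.mem_smul_finset.1 hs
    simp only [famSet, List.mem_toFinset, List.mem_map] at hs0 ⊢
    obtain ⟨o, ho, rfl⟩ := hs0
    exact ⟨_, List.elem_iff.1 (hf o ho).2, (smul_mset hv o).symm⟩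

theorem Cover_le : Cover ≤ amb := (Subgroup.closure_le _).2 fun _ ⟨_, hi, e⟩ => e ▸ lift12_mem hi

/-- the exchange of a set of pairs -/
def flipCode (F : ℕ) : ℕ :=
  pts.foldr (fun i acc => acc + (i ^^^ ((F >>> (i / 2)) &&& 1)) * 32 ^ i) 0

theorem flip_check : ((List.range 4096).all fun F => F == 0 || F == 4095 ||
    tests.any fun o => !(fam.elem (pmask (flipCode F) o))) = true := by decide +kernel

theorem flip_valid : ((List.range 4096).all fun F => valid (flipCode F)) = true := by decide +kernel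

theorem eq_mset_mem {T : Finset GolayPt} {m : ℕ} (hm : m < 2 ^ 24) (hT : T = mset m)
    (h : T ∈ famSet) : m ∈ fam := by
  simp only [famSet, List.mem_toFinset, List.mem_map] at h
  obtain ⟨o, ho, e⟩ := h
  have hlt : o < 2 ^ 24 := by
    have := List.all_eq_true.1 lifts_check 0 (List.mem_range.2 (by norm_num))
    simp only [Bool.and_eq_true, List.all_eq_true, decide_eq_true_eq] at this
    exact (this.2 o ho).1
  rw [hT] at e
  exact mset_inj hlt hm e ▸ ho

theorem pmask_lt {P m : ℕ} (h : valid P = true) : pmask P m < 2 ^ 24 := by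
  refine Nat.lt_pow_two_of_testBit _ fun j hj => ?_
  rw [← Bool.not_eq_true]
  intro hb
  obtain ⟨i, hi, -, rfl⟩ := testBit_pmask.1 hb
  exact absurd (pimg_lt h hi) (by omega)

theorem ker_cover {gs : Equiv.Perm GolayPt × Equiv.Perm GolayPt} (h : gs ∈ amb) (h1 : gs.1 = 1) :
    gs.2 = 1 ∨ gs.2 = pJ := by
  obtain ⟨⟨hproj, hJ⟩, -, hfam⟩ := h
  obtain ⟨g, s⟩ := gs
  simp only at h1 hproj hJ hfam ⊢
  subst h1
  simp only [Equiv.Perm.one_apply] at hproj
  have hkeys : ∀ a < 12, ∀ b < 12, keys.getD a 0 = keys.getD b 0 → a = b := by decide +kernel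
  have hkl : ∀ a < 12, keys.getD a 0 < 24 := by decide +kernel
  have hdiv : ∀ q, idx (s q) / 2 = idx q / 2 := fun q => by
    have := congrArg idx (hproj q)
    have h1 : idx q / 2 < 12 := by have := idx_lt q; omega
    have h2 : idx (s q) / 2 < 12 := by have := idx_lt (s q); omega
    rw [proj, proj, idx_pt (hkl _ h2), idx_pt (hkl _ h1)] at this
    exact hkeys _ h2 _ h1 this
  let b : ℕ → Bool := fun c => decide (idx (s (pt (2 * c))) ≠ 2 * c)
  obtain ⟨F, hF, hbit⟩ : ∃ F < 4096, ∀ c < 12, F.testBit c = b c := by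
    refine ⟨((List.range 12).map fun c => if b c then 2 ^ c else 0).sum, ?_, ?_⟩
    · generalize b = b'
      simp only [List.range, List.range.loop, List.map_cons, List.map_nil, List.sum_cons,
        List.sum_nil]
      split_ifs <;> norm_num
    · have key : ∀ g : Fin 12 → Bool,
          ∀ c : Fin 12, ((List.finRange 12).map fun c => if g c then 2 ^ (c : ℕ) else 0).sum.testBit c
            = g c := by decide +kernel
      intro c hc
      have := key (fun c => b c) ⟨c, hc⟩
      simpa [List.finRange, List.range, List.range.loop] using this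
  have hFv : valid (flipCode F) = true := List.all_eq_true.1 flip_valid F (List.mem_range.2 hF)
  have hJi : ∀ q, idx (pJ q) = idx q ^^^ 1 := fun q => by
    rw [pJ, idx_permOf valid_flipAll]
    have h : ∀ i < 24, pimg flipAll i = i ^^^ 1 := by decide +kernel
    exact h _ (idx_lt q)
  have hs : s = permOf (flipCode F) := by
    ext q : 1
    apply idx_inj
    rw [idx_permOf hFv]
    have hflip : ∀ F < 4096, ∀ i < 24,
        pimg (flipCode F) i = i ^^^ ((F >>> (i / 2)) &&& 1) := by
      intro F hF i hi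
      have h : ((List.range 4096).all fun F => (List.range 24).all fun i =>
          pimg (flipCode F) i == (i ^^^ ((F >>> (i / 2)) &&& 1))) = true := by decide +kernel
      simp only [List.all_eq_true, List.mem_range, beq_iff_eq] at h
      exact h F hF i hi
    have hi := idx_lt q
    rw [hflip F hF _ hi, shiftRight_and_one, hbit _ (by omega)]
    set c := idx q / 2
    have hc : c < 12 := by omega
    have he : idx (s (pt (2 * c))) / 2 = c := by
      rw [hdiv, idx_pt (by omega)]; omega
    have hx : ∀ t < 12, (2 * t) ^^^ 1 = 2 * t + 1 ∧ (2 * t + 1) ^^^ 1 = 2 * t := by decide +kernel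
    have h2 : idx (s (pt (2 * c + 1))) = idx (s (pt (2 * c))) ^^^ 1 := by
      have e : pJ (pt (2 * c)) = pt (2 * c + 1) := idx_inj (by
        rw [hJi, idx_pt (by omega), idx_pt (by omega), (hx c hc).1])
      rw [← e, ← Equiv.Perm.mul_apply, hJ, Equiv.Perm.mul_apply, hJi]
    rcases Nat.mod_two_eq_zero_or_one (idx q) with hm | hm
    · have hq : q = pt (2 * c) := idx_inj (by rw [idx_pt (by omega)]; omega)
      have hq' : idx q = 2 * c := by omega
      rw [hq', hq]
      by_cases hbc : idx (s (pt (2 * c))) = 2 * c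
      · simp [b, hbc]
      · simp [b, hbc, (hx c hc).1]; omega
    · have hq : q = pt (2 * c + 1) := idx_inj (by rw [idx_pt (by omega)]; omega)
      have hq' : idx q = 2 * c + 1 := by omega
      rw [hq', hq, h2]
      by_cases hbc : idx (s (pt (2 * c))) = 2 * c
      · simp [b, hbc, (hx c hc).1]
      · rw [show idx (s (pt (2 * c))) = 2 * c + 1 by omega]
        simp [b, hbc, (hx c hc).2]
  have hall := List.all_eq_true.1 flip_check F (List.mem_range.2 hF)
  simp only [Bool.or_eq_true, beq_iff_eq, List.any_eq_true, Bool.not_eq_true'] at hall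
  rcases hall with (rfl | rfl) | ⟨o, ho, hno⟩
  · left
    rw [hs]
    have := (prod_eq_one_iff (l := [flipCode 0]) (by simpa using hFv)).2 (by decide +kernel)
    simpa using this
  · right
    rw [hs, pJ, show flipCode 4095 = flipAll by decide +kernel]
  · exfalso
    have hof : o ∈ fam := by
      have h : (tests.all fun o => fam.elem o) = true := by decide +kernel
      exact List.elem_iff.1 (List.all_eq_true.1 h o ho)
    have h2 : s • mset o ∈ famSet := by
      rw [← MulAction.mem_stabilizer_iff.1 hfam]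
      exact Finset.smul_mem_smul_finset (by
        simp only [famSet, List.mem_toFinset, List.mem_map]; exact ⟨o, hof, rfl⟩)
    rw [hs, smul_mset hFv] at h2
    have := eq_mset_mem (pmask_lt hFv) rfl h2
    rw [List.elem_iff.2 this] at hno
    exact Bool.false_ne_true hno.symm

/-- the projection of the cover -/
noncomputable def coverHom : Cover →* Spor.M12 :=
  ((MonoidHom.fst _ _).comp Cover.subtype).codRestrict Spor.M12 fun w => (Cover_le w.2).2.1

/-- a word in the generating pairs -/
noncomputable def liftWord (w : List ℕ) : Equiv.Perm GolayPt × Equiv.Perm GolayPt :=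
  (w.map lift12).prod

theorem liftWord_mem {w : List ℕ} (hw : ∀ i ∈ w, i < 2) : liftWord w ∈ Cover :=
  list_prod_mem fun x hx => by
    obtain ⟨i, hi, rfl⟩ := List.mem_map.1 hx
    exact Subgroup.subset_closure ⟨i, hw i hi, rfl⟩

theorem liftWord_eq (w : List ℕ) : liftWord w =
    (((w.map fun i => gensP.getD i 0).map permOf).prod,
      ((w.map fun i => liftsP.getD i 0).map permOf).prod) := by
  induction w with
  | nil => rfl
  | cons i w ih => simp only [liftWord, List.map_cons, List.prod_cons] at ih ⊢; rw [ih]; rfl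

theorem hasCover : ∃ (Γ : Type) (_ : Group Γ) (_ : Finite Γ) (σ : Γ →* Spor.M12),
    Cfsg.IsStemExtension σ ∧ Nonempty (σ.ker ≃* Multiplicative (ZMod 2)) := by
  have hgen : ∀ x : Cover, coverHom x = 1 → x = 1 ∨ (x : Equiv.Perm GolayPt × _) = (1, pJ) := by
    intro x hx
    have h1 : (x : Equiv.Perm GolayPt × Equiv.Perm GolayPt).1 = 1 := congrArg Subtype.val hx
    rcases ker_cover (Cover_le x.2) h1 with h | h
    · exact Or.inl (Subtype.ext (Prod.ext h1 h))
    · exact Or.inr (Prod.ext h1 h)
  have hwa : ∀ i ∈ wa, i < 2 := by decide +kernel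
  have hwb : ∀ i ∈ wb, i < 2 := by decide +kernel
  -- the two words commute below and anticommute above
  have hJ : (⁅liftWord wa, liftWord wb⁆ : Equiv.Perm GolayPt × Equiv.Perm GolayPt) = (1, pJ) := by
    rw [commutatorElement_def, mul_inv_eq_iff_eq_mul, mul_inv_eq_iff_eq_mul, liftWord_eq,
      liftWord_eq, Prod.mk_mul_mk, Prod.mk_mul_mk, Prod.mk_mul_mk, one_mul]
    have hv : ∀ l : List ℕ, l.all valid = true → ∀ P ∈ l, valid P = true :=
      fun l hl => List.all_eq_true.1 hl
    refine Prod.ext ?_ ?_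
    · have := prod_eq_of_sameWord (l := (wa ++ wb).map fun i => gensP.getD i 0)
        (l' := (wb ++ wa).map fun i => gensP.getD i 0) (hv _ (by decide +kernel))
        (hv _ (by decide +kernel)) (by decide +kernel)
      simpa using this
    · have := prod_eq_of_sameWord (l := (wa ++ wb).map fun i => liftsP.getD i 0)
        (l' := flipAll :: (wb ++ wa).map fun i => liftsP.getD i 0) (hv _ (by decide +kernel))
        (hv _ (by decide +kernel)) (by decide +kernel)
      simpa [pJ, mul_assoc] using this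
  set z : Cover := ⁅(⟨_, liftWord_mem hwa⟩ : Cover), ⟨_, liftWord_mem hwb⟩⁆
  have hz : (z : Equiv.Perm GolayPt × Equiv.Perm GolayPt) = (1, pJ) := hJ
  have hzker : coverHom z = 1 := Subtype.ext (congrArg Prod.fst hz)
  refine ⟨Cover, inferInstance, inferInstance, coverHom, ⟨?_, ?_, ?_⟩, ?_⟩
  · rw [← MonoidHom.range_eq_top]
    refine gens12_top _ fun i hi => ?_
    exact ⟨⟨lift12 i, Subgroup.subset_closure ⟨i, hi, rfl⟩⟩, rfl⟩
  · intro x hx
    rw [Subgroup.mem_center_iff]
    intro y
    apply Subtype.ext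
    rcases hgen x (MonoidHom.mem_ker.1 hx) with rfl | h
    · simp
    · rw [Subgroup.coe_mul, Subgroup.coe_mul, h]
      exact Prod.ext (by simp) (Cover_le y.2).1.2
  · intro x hx
    rcases hgen x (MonoidHom.mem_ker.1 hx) with rfl | h
    · exact one_mem _
    · rw [show x = z from Subtype.ext (h.trans hz.symm)]
      exact Subgroup.commutator_mem_commutator (Subgroup.mem_top _) (Subgroup.mem_top _)
  · have hz1 : z ≠ 1 := by
      intro e
      have h := congrArg (fun w : Cover =>
        idx ((w : Equiv.Perm GolayPt × Equiv.Perm GolayPt).2 (pt 0))) e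
      simp only [hz, pJ] at h
      rw [idx_permOf valid_flipAll] at h
      revert h
      decide +kernel
    have hcard : Nat.card coverHom.ker = 2 := by
      rw [Nat.card_eq_two_iff]
      refine ⟨1, ⟨z, hzker⟩, fun e => hz1 (congrArg Subtype.val e).symm, ?_⟩
      ext x
      simp only [Set.mem_insert_iff, Set.mem_singleton_iff, Set.mem_univ, iff_true]
      rcases hgen x x.2 with h | h
      · exact Or.inl (Subtype.ext h)
      · exact Or.inr (Subtype.ext (Subtype.ext (h.trans hz.symm)))
    haveI : IsCyclic coverHom.ker := isCyclic_of_prime_card hcard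
    exact ⟨mulEquivOfCyclicCardEq (by
      rw [hcard, show Nat.card (Multiplicative (ZMod 2)) = 2 from Nat.card_zmod 2])⟩

theorem multiplier_M12 : Cfsg.HasCyclicSchurMultiplier ↥Cfsg.Spor.M12 2 :=
  ⟨hasCover, fun _ _ _ _ hσ => exists_onto hσ⟩

end Cfsg.Agent.SplitVoltageM12
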