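import Cfsg.Agent.Lib.SplitVoltageCert

/-!
Certificate data: voltages for M12 modulo 3.
-/

set_option autoImplicit false
set_option maxRecDepth 100000

namespace Cfsg.Agent.SplitVoltageM12P3Data

open Cfsg.Agent.SplitVoltageCert

/-- table part -/
def nxT_1 : Tr :=
  .nd (.nd (.nd (.nd (.nd (.lf 0) (.lf 4)) (.nd (.lf 1) (.lf 0))) (.nd (.nd (.lf 3) (.lf 11)) (.nd (.lf 9) (.lf 0)))) (.nd (.nd (.nd (.lf 2) (.lf 8)) (.nd (.lf 7) (.lf 0))) (.nd (.nd (.lf 5) (.lf 6)) (.nd (.lf 10) (.lf 0))))) (.nd (.nd (.nd (.nd (.lf 1) (.lf 9)) (.nd (.lf 5) (.lf 0))) (.nd (.nd (.lf 4) (.lf 2)) (.nd (.lf 7) (.lf 0)))) (.nd (.nd (.nd (.lf 3) (.lf 0)) (.nd (.lf 8) (.lf 0))) (.nd (.nd (.lf 6) (.lf 11)) (.nd (.lf 10) (.lf 0)))))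

/-- table -/
def nxT : Tr :=
  nxT_1

/-- table part -/
def pvT_1 : Tr :=
  .nd (.nd (.nd (.nd (.nd (.lf 0) (.lf 9)) (.nd (.lf 8) (.lf 0))) (.nd (.nd (.lf 1) (.lf 7)) (.nd (.lf 11) (.lf 0)))) (.nd (.nd (.nd (.lf 4) (.lf 6)) (.nd (.lf 3) (.lf 0))) (.nd (.nd (.lf 2) (.lf 10)) (.nd (.lf 5) (.lf 0))))) (.nd (.nd (.nd (.nd (.lf 9) (.lf 5)) (.nd (.lf 2) (.lf 0))) (.nd (.nd (.lf 10) (.lf 7)) (.nd (.lf 3) (.lf 0)))) (.nd (.nd (.nd (.lf 0) (.lf 8)) (.nd (.lf 4) (.lf 0))) (.nd (.nd (.lf 1) (.lf 11)) (.nd (.lf 6) (.lf 0)))))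

/-- table -/
def pvT : Tr :=
  pvT_1

/-- table part -/
def parT_1 : Tr :=
  .nd (.nd (.nd (.nd (.lf 0) (.lf 11)) (.nd (.lf 5) (.lf 0))) (.nd (.nd (.lf 2) (.lf 14)) (.nd (.lf 7) (.lf 0)))) (.nd (.nd (.nd (.lf 1) (.lf 12)) (.nd (.lf 6) (.lf 0))) (.nd (.nd (.lf 3) (.lf 20)) (.nd (.lf 10) (.lf 0))))

/-- table -/
def parT : Tr :=
  parT_1

/-- table part -/
def fmT_1 : Tr :=
  .nd (.nd (.nd (.nd (.nd (.lf 44601491726289242067996754182069522616287232) (.lf 44601493055517396309228210881586030660550657)) (.nd (.lf 22300745198530623141535718272648361505980416) (.lf 0))) (.nd (.nd (.lf 1329227995784915872903807060280344576) (.lf 0)) (.nd (.lf 0) (.lf 0)))) (.nd (.nd (.nd (.lf 0) (.lf 79228171958997303332834377728)) (.nd (.lf 0) (.lf 0))) (.nd (.nd (.lf 0) (.lf 4722366482869645213698)) (.nd (.lf 0) (.lf 0))))) (.nd (.nd (.nd (.nd (.lf 0) (.lf 44601491726289321296149823713441376869810177))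 (.nd (.lf 22300747856986614711367464080262482066669569) (.lf 0))) (.nd (.nd (.lf 0) (.lf 22300746527758698154618827807275884992266240)) (.nd (.lf 44601490397061246283080881278262462302388226) (.lf 0)))) (.nd (.nd (.nd (.lf 0) (.lf 22300746527758618926451591176455421819879426)) (.nd (.lf 0) (.lf 0))) (.nd (.nd (.lf 0) (.lf 79228162514264337593543950336)) (.nd (.lf 4722366482869645213696) (.lf 0)))))

/-- table -/
def fmT : Tr :=
  fmT_1

/-- table part -/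
def rkT_1 : Tr :=
  .nd (.nd (.nd (.nd (.nd (.lf 13) (.lf 7)) (.nd (.lf 6) (.lf 0))) (.nd (.nd (.lf 5) (.lf 0)) (.nd (.lf 0) (.lf 0)))) (.nd (.nd (.nd (.lf 0) (.lf 4)) (.nd (.lf 0) (.lf 0))) (.nd (.nd (.lf 0) (.lf 2)) (.nd (.lf 0) (.lf 0))))) (.nd (.nd (.nd (.nd (.lf 0) (.lf 11)) (.nd (.lf 8) (.lf 0))) (.nd (.nd (.lf 0) (.lf 10)) (.nd (.lf 9) (.lf 0)))) (.nd (.nd (.nd (.lf 0) (.lf 12)) (.nd (.lf 0) (.lf 0))) (.nd (.nd (.lf 0) (.lf 3)) (.nd (.lf 1) (.lf 0)))))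

/-- table -/
def rkT : Tr :=
  rkT_1

/-- table part -/
def jsT_1 : Tr :=
  .nd (.nd (.nd (.nd (.nd (.lf 1058) (.lf 1092)) (.nd (.lf 7) (.lf 0))) (.nd (.nd (.lf 5) (.lf 0)) (.nd (.lf 0) (.lf 0)))) (.nd (.nd (.nd (.lf 0) (.lf 86)) (.nd (.lf 0) (.lf 0))) (.nd (.nd (.lf 0) (.lf 66)) (.nd (.lf 0) (.lf 0))))) (.nd (.nd (.nd (.nd (.lf 0) (.lf 386)) (.nd (.lf 396) (.lf 0))) (.nd (.nd (.lf 0) (.lf 1158)) (.nd (.lf 406) (.lf 0)))) (.nd (.nd (.nd (.lf 0) (.lf 1138)) (.nd (.lf 0) (.lf 0))) (.nd (.nd (.lf 0) (.lf 3)) (.nd (.lf 1) (.lf 0)))))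

/-- table -/
def jsT : Tr :=
  jsT_1

/-- relations -/
def rels : List (List (ℕ × Bool)) :=
  [[(0, true), (0, true), (0, true), (0, true), (0, true), (0, true), (0, true), (0, true), (0, true), (0, true), (0, true)],
   [(1, true), (1, true), (1, true), (1, true), (1, true), (1, true), (1, true), (1, true), (1, true), (1, true), (1, true)],
   [(0, false), (0, false), (0, false), (1, true), (0, false), (0, false), (0, false), (1, true)],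
   [(1, false), (0, false), (1, false), (1, false), (1, false), (1, false), (0, false), (1, false), (0, true), (1, true), (1, true), (1, true), (0, true)],
   [(0, false), (1, true), (1, true), (0, false), (1, true), (0, true), (1, true), (0, false), (1, true), (1, true), (0, false), (1, true), (0, true), (1, true)]]

/-- parameter edges -/
def pe : List ℕ := [15, 23, 4, 8]

/-- elimination -/
def fin : List (List (ℕ × ℕ × ℕ)) :=
  [[(1, 11, 1), (3, 1, 1)],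
   [(0, 0, 2), (1, 0, 1), (1, 11, 2)],
   [(0, 0, 1), (1, 11, 1), (3, 1, 2), (3, 2, 2), (4, 0, 2)],
   [(0, 0, 1), (1, 0, 2), (3, 0, 2), (3, 1, 1), (3, 2, 2)],
   [(1, 11, 2)],
   [(0, 0, 2), (1, 0, 1), (3, 1, 2), (3, 2, 2)],
   [(1, 0, 1), (1, 11, 1), (3, 0, 1), (3, 1, 1)]]

/-- the certificate -/
def cert : Cert :=
  ⟨3, 2, 12, 2, 7, rels, nxT, pvT, parT, fmT, rkT, jsT, pe, fin⟩

end Cfsg.Agent.SplitVoltageM12P3Data
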