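import Cfsg.Agent.Lib.SplitVoltageCert

/-!
Certificate data: voltages for M12 modulo 4, orbit keys and a signed double cover.
-/

set_option autoImplicit false
set_option maxRecDepth 100000

namespace Cfsg.Agent.SplitVoltageM12P4Data

open Cfsg.Agent.SplitVoltageCert

/-- table part -/
def nxT_1 : Tr :=
  .nd (.nd (.nd (.nd (.nd (.lf 0) (.lf 4)) (.nd (.lf 1) (.lf 0))) (.nd (.nd (.lf 3) (.lf 11)) (.nd (.lf 9) (.lf 0)))) (.nd (.nd (.nd (.lf 2) (.lf 8)) (.nd (.lf 7) (.lf 0))) (.nd (.nd (.lf 5) (.lf 6)) (.nd (.lf 10) (.lf 0))))) (.nd (.nd (.nd (.nd (.lf 1) (.lf 9)) (.nd (.lf 5) (.lf 0))) (.nd (.nd (.lf 4) (.lf 2)) (.nd (.lf 7) (.lf 0)))) (.nd (.nd (.nd (.lf 3) (.lf 0)) (.nd (.lf 8) (.lf 0))) (.nd (.nd (.lf 6) (.lf 11)) (.nd (.lf 10) (.lf 0)))))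

/-- table -/
def nxT : Tr :=
  nxT_1

/-- table part -/
def pvT_1 : Tr :=
  .nd (.nd (.nd (.nd (.nd (.lf 0) (.lf 9)) (.nd (.lf 8) (.lf 0))) (.nd (.nd (.lf 1) (.lf 7)) (.nd (.lf 11) (.lf 0)))) (.nd (.nd (.nd (.lf 4) (.lf 6)) (.nd (.lf 3) (.lf 0))) (.nd (.nd (.lf 2) (.lf 10)) (.nd (.lf 5) (.lf 0))))) (.nd (.nd (.nd (.nd (.lf 9) (.lf 5)) (.nd (.lf 2) (.lf 0))) (.nd (.nd (.lf 10) (.lf 7)) (.nd (.lf 3) (.lf 0)))) (.nd (.nd (.nd (.lf 0) (.lf 8)) (.nd (.lf 4) (.lf 0))) (.nd (.nd (.lf 1) (.lf 11)) (.nd (.lf 6) (.lf 0)))))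

/-- table -/
def pvT : Tr :=
  pvT_1

/-- table part -/
def parT_1 : Tr :=
  .nd (.nd (.nd (.nd (.lf 0) (.lf 11)) (.nd (.lf 5) (.lf 0))) (.nd (.nd (.lf 2) (.lf 14)) (.nd (.lf 7) (.lf 0)))) (.nd (.nd (.nd (.lf 1) (.lf 12)) (.nd (.lf 6) (.lf 0))) (.nd (.nd (.lf 3) (.lf 20)) (.nd (.lf 10) (.lf 0))))

/-- table -/
def parT : Tr :=
  parT_1

/-- table part -/
def fmT_1 : Tr :=
  .nd (.nd (.nd (.nd (.nd (.lf 22300745198530860826037428165109751123804163) (.lf 66902239583276094463842316322379045990825985)) (.nd (.lf 22300745198530623141535718272648361505980416) (.lf 0))) (.nd (.nd (.lf 1329227995784915872903807060280344576) (.lf 0)) (.nd (.lf 0) (.lf 0)))) (.nd (.nd (.nd (.lf 0) (.lf 79228176681363786202479591424)) (.nd (.lf 0) (.lf 0))) (.nd (.nd (.lf 0) (.lf 4722366482869645213699)) (.nd (.lf 0) (.lf 0))))) (.nd (.nd (.nd (.nd (.lf 0) (.lf 44601491726289479752474852242116563974488065)) (.nd (.lf 22300747856986614711367464080262482066669569)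 (.lf 0))) (.nd (.nd (.lf 0) (.lf 44601493055517237852907904719393713234640896)) (.nd (.lf 66902235595591869424621321917393693453582338) (.lf 0)))) (.nd (.nd (.nd (.lf 0) (.lf 44601491726289479752474852242116563957710849)) (.nd (.lf 0) (.lf 0))) (.nd (.nd (.lf 0) (.lf 79228162514264337593543950336)) (.nd (.lf 4722366482869645213696) (.lf 0)))))

/-- table -/
def fmT : Tr :=
  fmT_1

/-- table part -/
def rkT_1 : Tr :=
  .nd (.nd (.nd (.nd (.nd (.lf 13) (.lf 7)) (.nd (.lf 6) (.lf 0))) (.nd (.nd (.lf 5) (.lf 0)) (.nd (.lf 0) (.lf 0)))) (.nd (.nd (.nd (.lf 0) (.lf 4)) (.nd (.lf 0) (.lf 0))) (.nd (.nd (.lf 0) (.lf 2)) (.nd (.lf 0) (.lf 0))))) (.nd (.nd (.nd (.nd (.lf 0) (.lf 11)) (.nd (.lf 8) (.lf 0))) (.nd (.nd (.lf 0) (.lf 10)) (.nd (.lf 9) (.lf 0)))) (.nd (.nd (.nd (.lf 0) (.lf 12)) (.nd (.lf 0) (.lf 0))) (.nd (.nd (.lf 0) (.lf 3)) (.nd (.lf 1) (.lf 0)))))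

/-- table -/
def rkT : Tr :=
  rkT_1

/-- table part -/
def jsT_1 : Tr :=
  .nd (.nd (.nd (.nd (.nd (.lf 1058) (.lf 1092)) (.nd (.lf 7) (.lf 0))) (.nd (.nd (.lf 5) (.lf 0)) (.nd (.lf 0) (.lf 0)))) (.nd (.nd (.nd (.lf 0) (.lf 86)) (.nd (.lf 0) (.lf 0))) (.nd (.nd (.lf 0) (.lf 66)) (.nd (.lf 0) (.lf 0))))) (.nd (.nd (.nd (.nd (.lf 0) (.lf 386)) (.nd (.lf 396) (.lf 0))) (.nd (.nd (.lf 0) (.lf 1158)) (.nd (.lf 406) (.lf 0)))) (.nd (.nd (.nd (.lf 0) (.lf 1138)) (.nd (.lf 0) (.lf 0))) (.nd (.nd (.lf 0) (.lf 3)) (.nd (.lf 1) (.lf 0)))))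

/-- table -/
def jsT : Tr :=
  jsT_1

/-- relations -/
def rels : List (List (ℕ × Bool)) :=
  [[(0, true), (0, true), (0, true), (0, true), (0, true), (0, true), (0, true), (0, true), (0, true), (0, true), (0, true)],
   [(1, true), (1, true), (1, true), (1, true), (1, true), (1, true), (1, true), (1, true), (1, true), (1, true), (1, true)],
   [(0, false), (0, false), (0, false), (1, true), (0, false), (0, false), (0, false), (1, true)],
   [(1, false), (0, false), (1, false), (1, false), (1, false), (1, false), (0, false), (1, false), (0, true), (1, true), (1, true), (1, true), (0, true)],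
   [(0, false), (1, true), (1, true), (0, false), (1, true), (0, true), (1, true), (0, false), (1, true), (1, true), (0, false), (1, true), (0, true), (1, true)]]

/-- parameter edges -/
def pe : List ℕ := [15, 23, 4, 8]

/-- elimination -/
def fin : List (List (ℕ × ℕ × ℕ)) :=
  [[(0, 0, 2), (1, 0, 1), (3, 1, 2)],
   [(0, 0, 1), (1, 11, 3), (4, 8, 1), (4, 0, 3)],
   [(4, 0, 3), (0, 0, 1), (1, 11, 3), (3, 1, 1), (1, 0, 1)],
   [(2, 0, 1), (0, 0, 1), (1, 0, 1), (1, 11, 1)],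
   [(1, 11, 3)],
   [(3, 1, 1), (0, 0, 2), (1, 0, 3), (4, 8, 2), (4, 0, 2)],
   [(4, 8, 1), (0, 0, 2), (1, 0, 1), (1, 11, 2), (3, 1, 2), (4, 0, 3)]]

/-- the certificate -/
def cert : Cert :=
  ⟨4, 2, 12, 2, 7, rels, nxT, pvT, parT, fmT, rkT, jsT, pe, fin⟩

/-- the parameter left -/
def k0 : ℕ := 3

/-- multiples -/
def cs : List ℕ := [3, 0, 0, 1, 0, 2, 0]

/-- generators -/
def gensP : List ℕ := [983435072843990828779021698901151808, 217412915303562955808187882639732865]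

/-- inverse generators -/
def gensQ : List ℕ := [970567384681219435340729552166356352, 641679963566160662195209062839428099]

/-- orders -/
def ords : List ℕ := [11, 11]

/-- the points in orbit order -/
def keys : List ℕ := [0, 1, 2, 4, 12, 8, 13, 16, 6, 3, 9, 18]

/-- signed lifts on pairs of points -/
def liftsP : List ℕ := [556537298209663369989840788753911840, 984108854180211997567831937657313378]

/-- exchange of each pair -/
def flipAll : ℕ := 944538608299847986500403370965142529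

/-- an invariant family of subsets, increasing -/
def fam : List ℕ := [5597862, 5657942, 5678505, 5859673, 5871205, 5937818, 6641305, 6658410, 6728277, 6923670, 6969765, 6973034, 9804181, 9807450, 9853545, 10048938, 10118805, 10135910, 10839397, 10906010, 10917542, 11098710, 11119273, 11179353]

/-- test members -/
def tests : List ℕ := [5597862, 5657942, 5678505]

/-- first word -/
def wa : List ℕ := [0, 0, 1, 0, 1, 1, 1]

/-- second word -/
def wb : List ℕ := [0, 1, 1, 1, 0, 1, 0]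

end Cfsg.Agent.SplitVoltageM12P4Data
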