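import Cfsg.Agent.Lib.SplitVoltageM22Sub
import Cfsg.Agent.Lib.SplitVoltageMathieu
import Cfsg.Agent.Lib.SplitVoltageA7D
import Cfsg.Agent.Lib.SplitVoltageA7S

/-!
The multiplier of the Mathieu group of degree 22 is cyclic of order dividing twelve.
-/

set_option autoImplicit false
set_option maxRecDepth 100000

namespace Cfsg.Agent.SplitVoltageM22Bound

open Cfsg Cfsg.Agent.GolayBasic Cfsg.Agent.GolayPerm Cfsg.Agent.GolayChain Cfsg.Agent.GolaySolve
open Cfsg.Agent.GolayOutTool Cfsg.Agent.GolayOutConst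
open Cfsg.Agent.SplitVoltage Cfsg.Agent.SplitVoltageCert Cfsg.Agent.SplitVoltageGolay
open Cfsg.Agent.SplitVoltageMathieu Cfsg.Agent.SplitVoltageRetract
open Cfsg.Agent.SplitVoltageM22Data Cfsg.Agent.SplitVoltageM22Sub
open scoped Pointwise commutatorElement

theorem exists_extend_coprime {m : ℕ} [NeZero m] {G : Type*} [Group G] {Δ : Type*} [Group Δ]
    [Finite Δ] (σ : Δ →* G) (hc : σ.ker ≤ Subgroup.center Δ) (hs : Function.Surjective σ)
    (h : Nat.Coprime (Nat.card G) m) {A : Type*} [CommGroup A] (hA : ∀ a : A, a ^ m = 1)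
    (χ : σ.ker →* A) : ∃ ψ : Δ →* A, ∀ z : σ.ker, ψ z = χ z := by
  have key : ∀ z : σ.ker, ∀ (k : ℕ) (g : Δ), g⁻¹ * (z : Δ) ^ k * g = (z : Δ) ^ k := fun z k g => by
    rw [mul_assoc, ← Subgroup.mem_center_iff.1 (pow_mem (hc z.2) k) g, inv_mul_cancel_left]
  have hV : ∀ z : σ.ker, MonoidHom.transfer χ (z : Δ) = χ z ^ σ.ker.index := by
    intro z
    rw [MonoidHom.transfer_eq_pow χ (z : Δ) (fun k g hk => by rw [key] at hk; exact key z k g),
      ← map_pow]
    exact congrArg χ (Subtype.ext rfl)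
  have hidx : σ.ker.index = Nat.card G := by
    rw [Subgroup.index_ker, MonoidHom.range_eq_top.2 hs, Subgroup.card_top]
  obtain ⟨k, hk⟩ := exists_mul_mod_one h
  refine ⟨((MonoidHom.transfer χ) ^ k)⁻¹, fun z => ?_⟩
  rw [MonoidHom.inv_apply, MonoidHom.pow_apply, hV, hidx, ← pow_mul, inv_eq_iff_mul_eq_one,
    ← pow_succ]
  obtain ⟨j, hj⟩ : m ∣ Nat.card G * k + 1 := (ZMod.natCast_eq_zero_iff _ _).1 (by
    rw [Nat.cast_add, Nat.cast_one, hk, neg_add_cancel])
  rw [hj, pow_mul, hA, one_pow]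

/-! ### the subgroup of order 2520 -/

section A7

/-- the conjugacy orbit of the first generator -/
noncomputable def obj7 (key : Tr) (c : ℕ) : Cj (setStab maskA) :=
  ⟨if h : subCheck maskA (get key c) = true then ⟨_, mem_setStab h⟩ else 1⟩

/-- the checks of the orbit -/
noncomputable def orbit7 (key : Tr) (nx : ℕ → ℕ → ℕ) : Bool :=
  (List.range 360).all fun c => subCheck maskA (get key c) && (reKey (get key c) == get key c) &&
    (List.range 2).all fun i => decide (nx i c < 360) &&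
      sameWord [subAP.getD i 0, get key c] [get key (nx i c), subAP.getD i 0]

theorem obj7_spec {key pos srt : Tr} {nx : ℕ → ℕ → ℕ} (h : orbit7 key nx = true)
    (hinj : injOK 360 key pos srt = true) :
    (∀ c < 360, ∀ d < 360, obj7 key c = obj7 key d → c = d) ∧
      ∀ i (hi : i < 2), ∀ c < 360,
        (⟨_, memA i hi⟩ : setStab maskA) • obj7 key c = obj7 key (nx i c) := by
  simp only [orbit7, List.all_eq_true, List.mem_range, Bool.and_eq_true, decide_eq_true_eq,
    beq_iff_eq] at h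
  constructor
  · intro c hc d hd e
    have h' := congrArg (fun a : Cj (setStab maskA) => (a.val : Equiv.Perm GolayPt)) e
    simp only [obj7, dif_pos (h c hc).1.1, dif_pos (h d hd).1.1] at h'
    exact inj_of_injOK hinj hc hd (key_inj (valid_of_subCheck (h c hc).1.1)
      (valid_of_subCheck (h d hd).1.1) (h c hc).1.2 (h d hd).1.2 h')
  · intro i hi c hc
    obtain ⟨hlt, hw⟩ := (h c hc).2 i hi
    have hP : valid (subAP.getD i 0) = true := valid_of_subCheck
      (List.all_eq_true.1 checkA _ (by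
        rw [List.getD_eq_getElem (hn := by simpa [subAP] using hi)]; exact List.getElem_mem _))
    have hw' := prod_eq_of_sameWord
      (List.forall_mem_cons.2 ⟨hP, by simpa using valid_of_subCheck (h c hc).1.1⟩)
      (List.forall_mem_cons.2 ⟨valid_of_subCheck (h _ hlt).1.1, by simpa using hP⟩) hw
    simp only [List.map_cons, List.map_nil, List.prod_cons, List.prod_nil, mul_one] at hw'
    have e : ((⟨_, memA i hi⟩ : setStab maskA) • obj7 key c).val = (obj7 key (nx i c)).val := by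
      apply Subtype.ext
      rw [Cj.smul_val]
      simp only [obj7, dif_pos (h c hc).1.1, dif_pos (h _ hlt).1.1, Subgroup.coe_mul,
        Subgroup.coe_inv]
      rw [hw', mul_inv_cancel_right]
    rcases hx : (⟨_, memA i hi⟩ : setStab maskA) • obj7 key c with ⟨a⟩
    rcases hy : obj7 key (nx i c) with ⟨b⟩
    rw [hx, hy] at e
    exact congrArg Cj.mk e

theorem bound7 (C : Cert) (h : C.Core) (hm : C.m = 8) (hn : C.n = 2) (hN : C.N = 360)
    (hnn : 2 ≤ C.rels.length) {key pos srt : Tr} (hchk : gensOK C subAP subAQ subAOrds = true)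
    (horb : orbit7 key C.nxF = true) (hinjk : injOK 360 key pos srt = true)
    {k0 t : ℕ} {cs : List ℕ} (hfin : C.finCyc k0 t cs = true)
    {Δ : Type} [Group Δ] [Finite Δ] (σ : Δ →* setStab maskA) (hs : Function.Surjective σ)
    (hc : σ.ker ≤ Subgroup.center Δ) {A : Type} [CommGroup A] (hA : ∀ a : A, a ^ 8 = 1)
    (χ : σ.ker →* A)
    (hsq : ∀ r, 2 ≤ r → r < C.npow → ∃ w : List (ℕ × Bool), C.rels.getD r [] = w ++ w ∧
      ∀ (y : Δ) (hy : σ (y * y) = 1),
        (σ y : Equiv.Perm GolayPt) = ((wl subAP subAQ w).map permOf).prod → χ ⟨y * y, hy⟩ = 1) :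
    ∃ u : A, u ^ t = 1 ∧ ∀ z : σ.ker, (z : Δ) ∈ commutator Δ → χ z ∈ Subgroup.zpowers u := by
  obtain ⟨hinj, hact⟩ := obj7_spec horb hinjk
  have hcard : Nat.card (MulAction.stabilizer (setStab maskA) (obj7 key 0)) = 7 := by
    have := card_eq_mul_card_stabilizer 2 360
      (fun i => if hi : i < 2 then (⟨_, memA i hi⟩ : setStab maskA) else 1)
      (topA _ fun i hi => Subgroup.subset_closure ⟨i, hi, dif_pos hi⟩) (obj7 key) C.nxF C.parF
      (by norm_num) hinj (fun i hi c hc => ⟨hN ▸ (Cert.nxF_lt h (hn.symm ▸ hi) (hN.symm ▸ hc)).1,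
        by rw [dif_pos hi]; exact hact i hi c hc⟩)
      (fun c hc h0 => by
        obtain ⟨p1, p2, p3⟩ := Cert.parF_spec h (hN.symm ▸ hc) h0
        exact ⟨p1, hn ▸ p2, p3⟩)
    rw [cardA] at this
    omega
  haveI : NeZero (8 : ℕ) := ⟨by norm_num⟩
  obtain ⟨u, hu, U, hall, hU⟩ := bound_golay_sq C h (hn ▸ hnn) subAP subAQ subAOrds hchk
    (fun i hi => by
      rw [hm]; rw [hn] at hi
      interval_cases i <;> norm_num [subAOrds])
    (fun i hi => memA i (hn ▸ hi)) (fun K hK => topA K fun i hi => hK i (hn.symm ▸ hi)) (obj7 key)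
    (fun c hc d hd => hinj c (hN ▸ hc) d (hN ▸ hd))
    (fun i hi c hc => hact i (hn ▸ hi) c (hN ▸ hc)) hfin σ hs hc (fun a => hm.symm ▸ hA a) χ
    (fun r h1 h2 => hsq r (hn ▸ h1) h2)
    (hH_of_forall (obj7 key 0) σ hs hc χ fun σH hsH hcH χH =>
      exists_extend_coprime σH hcH hsH (by rw [hcard]; norm_num) hA χH)
  exact ⟨u, hu, fun z hz => hU z (mem_of_commutator hc hall hz)⟩

theorem bound7D {Δ : Type} [Group Δ] [Finite Δ] (σ : Δ →* setStab maskA)
    (hs : Function.Surjective σ) (hc : σ.ker ≤ Subgroup.center Δ) {A : Type} [CommGroup A]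
    (hA : ∀ a : A, a ^ 8 = 1) (χ : σ.ker →* A) :
    ∃ u : A, u ^ 2 = 1 ∧ ∀ z : σ.ker, (z : Δ) ∈ commutator Δ → χ z ∈ Subgroup.zpowers u :=
  bound7 SplitVoltageA7DData.cert SplitVoltageA7D.cert_core rfl rfl rfl (by decide +kernel)
    (key := SplitVoltageA7DData.keyT) (pos := SplitVoltageA7DData.posT)
    (srt := SplitVoltageA7DData.srtT) (by decide +kernel) (by decide +kernel) (by decide +kernel)
    SplitVoltageA7D.cert_cyc σ hs hc hA χ
    fun r h1 h2 => absurd h2 (by rw [show SplitVoltageA7DData.cert.npow = 2 from rfl]; omega)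

theorem bound7S {Δ : Type} [Group Δ] [Finite Δ] (σ : Δ →* setStab maskA)
    (hs : Function.Surjective σ) (hc : σ.ker ≤ Subgroup.center Δ) {A : Type} [CommGroup A]
    (hA : ∀ a : A, a ^ 8 = 1) (χ : σ.ker →* A)
    (hinv : ∀ (y : Δ) (hy : σ (y * y) = 1),
      (σ y : Equiv.Perm GolayPt) = permOf invX → χ ⟨y * y, hy⟩ = 1)
    (z : σ.ker) (hz : (z : Δ) ∈ commutator Δ) : χ z = 1 := by
  obtain ⟨u, hu, hmem⟩ := bound7 SplitVoltageA7SData.cert SplitVoltageA7S.cert_core rfl rfl rfl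
    (by decide +kernel) (key := SplitVoltageA7SData.keyT) (pos := SplitVoltageA7SData.posT)
    (srt := SplitVoltageA7SData.srtT) (by decide +kernel) (by decide +kernel) (by decide +kernel)
    SplitVoltageA7S.cert_cyc σ hs hc hA χ fun r h1 h2 => by
      rw [show SplitVoltageA7SData.cert.npow = 3 from rfl] at h2
      obtain rfl : r = 2 := by omega
      refine ⟨(SplitVoltageA7SData.cert.rels.getD 2 []).take 5, by decide +kernel, fun y hy e => ?_⟩
      refine hinv y hy (e.trans ?_)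
      have := prod_eq_of_sameWord
        (l := wl subAP subAQ ((SplitVoltageA7SData.cert.rels.getD 2 []).take 5)) (l' := [invX])
        (List.all_eq_true.1 (by decide +kernel :
          (wl subAP subAQ ((SplitVoltageA7SData.cert.rels.getD 2 []).take 5)).all valid = true))
        (List.all_eq_true.1 (by decide +kernel : [invX].all valid = true)) (by decide +kernel)
      simpa using this
  rw [pow_one] at hu
  simpa [hu] using hmem z hz

end A7

/-! ### the preimage of a set stabiliser -/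

theorem retraction_sub {Γ : Type} [Group Γ] [Finite Γ] (σ : Γ →* Spor.M22)
    (hs : Function.Surjective σ) (hc : σ.ker ≤ Subgroup.center Γ) {A : Type} [CommGroup A]
    (χ : σ.ker →* A) (key : Tr) {o : ℕ} (ho : get key 0 = o) (hp : commutator (setStab o) = ⊤)
    (hkill : ∀ (Δ : Type) [Group Δ] [Finite Δ] (τ : Δ →* setStab o) (inc : Δ →* Γ),
      Function.Surjective τ → τ.ker ≤ Subgroup.center Δ →
      (∀ w, (σ (inc w) : Equiv.Perm GolayPt) = τ w) →
      ∀ z : Δ, z ∈ commutator Δ → τ z = 1 → ∀ hz : σ (inc z) = 1, χ ⟨inc z, hz⟩ = 1) :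
    ∃ ψ : (MulAction.stabilizer Spor.M22 (setObj key 0)).comap σ →* A,
      ∀ w : (MulAction.stabilizer Spor.M22 (setObj key 0)).comap σ, ∀ hw : σ w = 1,
        ψ w = χ ⟨w, hw⟩ := by
  subst ho
  set H := MulAction.stabilizer Spor.M22 (setObj key 0)
  let e : H ≃* setStab (get key 0) := setStabEquiv (get key 0)
  let σH : H.comap σ →* H := (σ.comp (H.comap σ).subtype).codRestrict H fun w => w.2
  let τ : H.comap σ →* setStab (get key 0) := e.toMonoidHom.comp σH
  have hk : ∀ w : H.comap σ, τ w = 1 ↔ σ w = 1 := fun w => by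
    show e (σH w) = 1 ↔ σ w = 1
    rw [MulEquiv.map_eq_one_iff, Subtype.ext_iff]; rfl
  have hτs : Function.Surjective τ := e.surjective.comp fun h => by
    obtain ⟨g, hg⟩ := hs h
    exact ⟨⟨g, by rw [Subgroup.mem_comap, hg]; exact h.2⟩, Subtype.ext hg⟩
  have hτc : τ.ker ≤ Subgroup.center _ := fun w hw => Subgroup.mem_center_iff.2 fun g => Subtype.ext
    (Subgroup.mem_center_iff.1 (hc (MonoidHom.mem_ker.2 ((hk w).1 hw))) g)
  let χH : τ.ker →* A := χ.comp
    { toFun := fun w => ⟨(w : H.comap σ), (hk _).1 w.2⟩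
      map_one' := rfl
      map_mul' := fun _ _ => rfl }
  obtain ⟨ψ, hψ⟩ := exists_retraction_mod hp τ hτs hτc χH fun z hz =>
    hkill _ τ (H.comap σ).subtype hτs hτc (fun w => rfl) z hz z.2 ((hk _).1 z.2)
  exact ⟨ψ, fun w hw => hψ ⟨w, (hk w).2 hw⟩⟩

theorem bound22 (C : Cert) (h : C.Core) (hn : C.n = 2) (hnp : C.npow = C.n)
    (hchk : gensOK C gensP gensQ ords = true)
    (hcop : ∀ i < 2, (ords.getD i 0).Prime ∧ Nat.Coprime (ords.getD i 0) C.m)
    {key pos srt : Tr} (hact : setAct key C.N C.nxF = true) (hi : injOK C.N key pos srt = true)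
    {k0 t : ℕ} {cs : List ℕ} (hfin : C.finCyc k0 t cs = true)
    {Γ : Type} [Group Γ] [Finite Γ] (σ : Γ →* Spor.M22) (hσ : Cfsg.IsStemExtension σ)
    {A : Type} [CommGroup A] (hA : ∀ a : A, a ^ C.m = 1) (χ : σ.ker →* A)
    (hH : ∃ ψ : (MulAction.stabilizer Spor.M22 (setObj key 0)).comap σ →* A,
      ∀ w : (MulAction.stabilizer Spor.M22 (setObj key 0)).comap σ, ∀ hw : σ w = 1,
        ψ w = χ ⟨w, hw⟩) :
    ∃ u : A, u ^ t = 1 ∧ ∀ z : σ.ker, χ z ∈ Subgroup.zpowers u := by
  obtain ⟨u, hu, U, hall, hU⟩ := bound_golay_sq C h (hnp ▸ h.hnpow) gensP gensQ ords hchk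
    (fun i hi => hcop i (hn ▸ hi)) (fun i hi => gens22_mem i (hn ▸ hi))
    (fun K hK => gens22_top K fun i hi => hK i (hn.symm ▸ hi)) (setObj key)
    (setObj_inj hact hi) (fun i hi c hc => setObj_act hact i (hn ▸ hi) c hc) hfin σ hσ.1 hσ.2.1 hA χ
    (fun r h1 h2 => absurd (hnp ▸ h2) (not_lt.2 h1)) hH
  exact ⟨u, hu, mem_zpowers_of_stem hσ hall hU⟩

/-! ### squares of lifts of an involution -/

theorem square_lift_trivial {Γ : Type} [Group Γ] [Finite Γ] (σ : Γ →* Spor.M22)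
    (hσ : Cfsg.IsStemExtension σ) {A : Type} [CommGroup A] (hA : ∀ a : A, a ^ 2 = 1)
    (χ : σ.ker →* A) (y : Γ) (hy : σ (y * y) = 1)
    (hyx : (σ y : Equiv.Perm GolayPt) = permOf invX) : χ ⟨y * y, hy⟩ = 1 := by
  classical
  have hc : ∀ {z : Γ}, σ z = 1 → ∀ g : Γ, g * z = z * g := fun hz g =>
    Subgroup.mem_center_iff.1 (hσ.2.1 hz) g
  let q : Γ → A := fun g => if h : σ (g * g) = 1 then χ ⟨g * g, h⟩ else 1
  let cm : Γ → Γ → A := fun g k => if h : σ ⁅g, k⁆ = 1 then χ ⟨⁅g, k⁆, h⟩ else 1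
  have hchk : (four.all fun P => memCheck [23, 0] 16777215 P.1 && memCheck [23, 0] 16777215 P.2 &&
      sameWord [P.2, invX] [P.1, P.2]) = true := by decide +kernel
  have hqx : ∀ g : Γ, (σ g : Equiv.Perm GolayPt) = permOf invX → σ (g * g) = 1 ∧ q g = q y := by
    intro g hg
    have e : σ g = σ y := Subtype.ext (hg.trans hyx.symm)
    have h1 : σ (g * g) = 1 := by rw [map_mul, e, ← map_mul, hy]
    refine ⟨h1, ?_⟩
    obtain ⟨z, hz, rfl⟩ := StemBasic.exists_ker_mul e
    simp only [q, dif_pos h1, dif_pos hy]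
    have e2 : y * z * (y * z) = y * y * (z * z) := by
      rw [mul_assoc, ← mul_assoc z y, ← hc hz y, mul_assoc y z z, ← mul_assoc]
    have hz2 : σ (z * z) = 1 := by rw [map_mul, hz, one_mul]
    rw [show (⟨_, h1⟩ : σ.ker) = ⟨y * y, hy⟩ * (⟨z, hz⟩ : σ.ker) ^ 2 from
      Subtype.ext (by show y * z * (y * z) = y * y * z ^ 2; rw [e2, sq]), map_mul, map_pow, hA,
      mul_one]
  have hfour : ∀ P ∈ four, ∀ g : Γ, (σ g : Equiv.Perm GolayPt) = permOf P.1 →
      σ (g * g) = 1 ∧ q g = q y := by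
    intro P hP g hg
    have hh := List.all_eq_true.1 hchk P hP
    simp only [Bool.and_eq_true] at hh
    obtain ⟨⟨h1, h2⟩, h3⟩ := hh
    obtain ⟨k, hk⟩ := hσ.1 ⟨permOf P.2, mem_M22_of_check h2⟩
    have hw := prod_eq_of_sameWord (l := [P.2, invX]) (l' := [P.1, P.2])
      (List.forall_mem_cons.2 ⟨(memCheck_spec h2).1, by decide +kernel⟩)
      (List.forall_mem_cons.2 ⟨(memCheck_spec h1).1, by simpa using (memCheck_spec h2).1⟩) h3
    simp only [List.map_cons, List.map_nil, List.prod_cons, List.prod_nil, mul_one] at hw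
    have hkg : (σ (k⁻¹ * g * k) : Equiv.Perm GolayPt) = permOf invX := by
      rw [map_mul, map_mul, map_inv, hk, Subgroup.coe_mul, Subgroup.coe_mul, Subgroup.coe_inv, hg,
        mul_assoc, inv_mul_eq_iff_eq_mul]
      exact hw.symm
    obtain ⟨s1, s2⟩ := hqx _ hkg
    have e2 : k⁻¹ * g * k * (k⁻¹ * g * k) = k⁻¹ * (g * g) * k := by group
    have h4 : σ (g * g) = 1 := by
      rw [e2, map_mul, map_mul, map_inv, mul_assoc, inv_mul_eq_one] at s1
      exact (mul_eq_right (b := σ k)).1 s1.symm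
    refine ⟨h4, ?_⟩
    rw [← s2]
    simp only [q, dif_pos h4, dif_pos s1]
    congr 1
    apply Subtype.ext
    show g * g = k⁻¹ * g * k * (k⁻¹ * g * k)
    rw [e2, mul_assoc, ← hc h4 k, inv_mul_cancel_left]
  -- lifts of three commuting conjugates
  have hm : ∀ i < 7, permOf (four.getD i (0, 0)).1 ∈ Spor.M22 := fun i hi => by
    have hi' : i < four.length := by simpa [four] using hi
    have hh := List.all_eq_true.1 hchk _ (List.getElem_mem hi')
    simp only [Bool.and_eq_true] at hh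
    rw [List.getD_eq_getElem (hn := hi')]
    exact mem_M22_of_check hh.1.1
  obtain ⟨a, ha⟩ := hσ.1 ⟨_, hm 0 (by norm_num)⟩
  obtain ⟨b, hb⟩ := hσ.1 ⟨_, hm 1 (by norm_num)⟩
  obtain ⟨c, hc'⟩ := hσ.1 ⟨_, hm 2 (by norm_num)⟩
  have hq : ∀ (g : Γ) (i : ℕ), i < 7 → (σ g : Equiv.Perm GolayPt) = permOf (four.getD i (0, 0)).1 →
      σ (g * g) = 1 ∧ q g = q y := fun g i hi hg => by
    have hi' : i < four.length := by simpa [four] using hi
    refine hfour _ (List.getElem_mem hi') g ?_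
    rwa [List.getD_eq_getElem (hn := hi')] at hg
  have hprod : ∀ (g k : Γ) (i j l : ℕ), i < 7 → j < 7 → l < 7 →
      (σ g : Equiv.Perm GolayPt) = permOf (four.getD i (0, 0)).1 →
      (σ k : Equiv.Perm GolayPt) = permOf (four.getD j (0, 0)).1 →
      sameWord [(four.getD i (0, 0)).1, (four.getD j (0, 0)).1] [(four.getD l (0, 0)).1] = true →
      (σ (g * k) : Equiv.Perm GolayPt) = permOf (four.getD l (0, 0)).1 := by
    intro g k i j l hi hj hl hg hk hw
    have hv : ∀ i < 7, valid (four.getD i (0, 0)).1 = true := by decide +kernel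
    rw [map_mul, Subgroup.coe_mul, hg, hk]
    exact permOf_mul_of_word (hv i hi) (hv j hj) (hv l hl) hw
  have hga : (σ a : Equiv.Perm GolayPt) = permOf (four.getD 0 (0, 0)).1 := congrArg Subtype.val ha
  have hgb : (σ b : Equiv.Perm GolayPt) = permOf (four.getD 1 (0, 0)).1 := congrArg Subtype.val hb
  have hgc : (σ c : Equiv.Perm GolayPt) = permOf (four.getD 2 (0, 0)).1 := congrArg Subtype.val hc'
  have hab := hprod a b 0 1 3 (by norm_num) (by norm_num) (by norm_num) hga hgb (by decide +kernel)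
  have hac := hprod a c 0 2 4 (by norm_num) (by norm_num) (by norm_num) hga hgc (by decide +kernel)
  have hbc := hprod b c 1 2 5 (by norm_num) (by norm_num) (by norm_num) hgb hgc (by decide +kernel)
  have habc := hprod (a * b) c 3 2 6 (by norm_num) (by norm_num) (by norm_num) hab hgc
    (by decide +kernel)
  obtain ⟨a2, qa⟩ := hq a 0 (by norm_num) hga
  obtain ⟨b2, qb⟩ := hq b 1 (by norm_num) hgb
  obtain ⟨c2, qc⟩ := hq c 2 (by norm_num) hgc
  obtain ⟨ab2, qab⟩ := hq _ 3 (by norm_num) hab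
  obtain ⟨ac2, qac⟩ := hq _ 4 (by norm_num) hac
  obtain ⟨bc2, qbc⟩ := hq _ 5 (by norm_num) hbc
  obtain ⟨abc2, qabc⟩ := hq _ 6 (by norm_num) habc
  -- products of squares
  have hmul : ∀ g k : Γ, σ (g * g) = 1 → σ (k * k) = 1 → σ (g * k * (g * k)) = 1 →
      σ ⁅k, g⁆ = 1 ∧ q (g * k) = q g * cm k g * q k := by
    intro g k hg hk hgk
    have e1 : σ ⁅k, g⁆ = 1 := by
      rw [map_mul] at hg hk hgk
      rw [map_commutatorElement, commutatorElement_def, inv_eq_of_mul_eq_one_left hg,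
        inv_eq_of_mul_eq_one_left hk]
      rw [map_mul] at hgk
      have := inv_eq_of_mul_eq_one_left hgk
      rw [mul_inv_rev, inv_eq_of_mul_eq_one_left hg, inv_eq_of_mul_eq_one_left hk] at this
      rw [this]
      exact (mul_assoc (σ g) (σ k) (σ k * σ g)).trans
        ((congrArg (σ g * ·) ((mul_assoc (σ k) (σ k) (σ g)).symm.trans
          ((congrArg (· * σ g) hk).trans (one_mul _)))).trans hg)
    refine ⟨e1, ?_⟩
    simp only [q, cm, dif_pos hg, dif_pos hk, dif_pos hgk, dif_pos e1]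
    rw [← map_mul, ← map_mul]
    congr 1
    apply Subtype.ext
    show g * k * (g * k) = g * g * ⁅k, g⁆ * (k * k)
    have := hc e1 g
    calc g * k * (g * k) = g * (⁅k, g⁆ * (g * (k * k))) := by rw [commutatorElement_def]; group
      _ = g * (g * ⁅k, g⁆ * (k * k)) := by rw [← mul_assoc ⁅k, g⁆, ← this]
      _ = _ := by group
  obtain ⟨eba, mab⟩ := hmul a b a2 b2 ab2
  obtain ⟨eca, mac⟩ := hmul a c a2 c2 ac2
  obtain ⟨ecb, mbc⟩ := hmul b c b2 c2 bc2
  obtain ⟨ecab, mabc⟩ := hmul (a * b) c ab2 c2 abc2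
  have hlin : cm c (a * b) = cm c a * cm c b := by
    simp only [cm, dif_pos ecab, dif_pos eca, dif_pos ecb]
    rw [← map_mul]
    congr 1
    apply Subtype.ext
    show ⁅c, a * b⁆ = ⁅c, a⁆ * ⁅c, b⁆
    rw [show ⁅c, a * b⁆ = ⁅c, a⁆ * (a * ⁅c, b⁆ * a⁻¹) by
      simp only [commutatorElement_def]; group, hc ecb a, mul_inv_cancel_right]
  have hsq : ∀ u : A, u * u = 1 := fun u => by rw [← sq, hA]
  set α := q y
  rw [qa, qb, qab] at mab
  rw [qa, qc, qac] at mac
  rw [qb, qc, qbc] at mbc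
  rw [qab, qc, qabc, hlin] at mabc
  have hcm : ∀ u : A, α = α * u * α → u = α := fun u hu => by
    rw [mul_comm α u, mul_assoc, hsq, mul_one] at hu
    exact hu.symm
  rw [hcm _ mac, hcm _ mbc, hsq, mul_one, hsq] at mabc
  have : q y = χ ⟨y * y, hy⟩ := dif_pos hy
  rw [← this]
  exact mabc

/-! ### the two bounds -/

theorem bound_two {Γ : Type} [Group Γ] [Finite Γ] (σ : Γ →* Spor.M22)
    (hσ : Cfsg.IsStemExtension σ) {A : Type} [CommGroup A] (hA : ∀ a : A, a ^ 8 = 1)
    (χ : σ.ker →* A) (hχ : Function.Surjective χ) :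
    (∃ w : A, ∀ a : A, a ∈ Subgroup.zpowers w) ∧ Nat.card A ∣ 4 := by
  classical
  let key := SplitVoltageM22AData.keyT
  have hkey : get key 0 = maskA := by decide +kernel
  have hcop : ∀ i < 2, (ords.getD i 0).Prime ∧
      Nat.Coprime (ords.getD i 0) SplitVoltageM22AData.cert.m := fun i hi => by
    rw [show SplitVoltageM22AData.cert.m = 8 from rfl]
    interval_cases i <;> norm_num [ords]
  -- the derived part of the subgroup has order at most two
  let H := MulAction.stabilizer Spor.M22 (setObj key 0)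
  let e : H ≃* setStab (get key 0) := setStabEquiv (get key 0)
  let e' : H ≃* setStab maskA := e.trans (MulEquiv.subgroupCongr (congrArg setStab hkey))
  let σH : H.comap σ →* H := (σ.comp (H.comap σ).subtype).codRestrict H fun w => w.2
  let τ : H.comap σ →* setStab maskA := e'.toMonoidHom.comp σH
  have hk : ∀ w : H.comap σ, τ w = 1 ↔ σ w = 1 := fun w => by
    show e' (σH w) = 1 ↔ σ w = 1
    rw [MulEquiv.map_eq_one_iff, Subtype.ext_iff]; rfl
  have hτs : Function.Surjective τ := e'.surjective.comp fun h => by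
    obtain ⟨g, hg⟩ := hσ.1 h
    exact ⟨⟨g, by rw [Subgroup.mem_comap, hg]; exact h.2⟩, Subtype.ext hg⟩
  have hτc : τ.ker ≤ Subgroup.center _ := fun w hw => Subgroup.mem_center_iff.2 fun g => Subtype.ext
    (Subgroup.mem_center_iff.1 (hσ.2.1 (MonoidHom.mem_ker.2 ((hk w).1 hw))) g)
  let χH : τ.ker →* A := χ.comp
    { toFun := fun w => ⟨(w : H.comap σ), (hk _).1 w.2⟩
      map_one' := rfl
      map_mul' := fun _ _ => rfl }
  obtain ⟨u0, hu0, hmem0⟩ := bound7D τ hτs hτc hA χH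
  -- modulo that part: order at most two
  let Q := A ⧸ Subgroup.zpowers u0
  let χ1 : σ.ker →* Q := (QuotientGroup.mk' _).comp χ
  obtain ⟨ψ1, hψ1⟩ := exists_retraction_mod perfectA τ hτs hτc
    ((QuotientGroup.mk' (Subgroup.zpowers u0)).comp χH)
    fun z hz => show QuotientGroup.mk' (Subgroup.zpowers u0) (χH z) = 1 from
      (QuotientGroup.eq_one_iff _).2 (hmem0 z hz)
  obtain ⟨u1, hu1, hmem1⟩ := bound22 SplitVoltageM22AData.cert SplitVoltageM22A.cert_core rfl rfl
    (by decide +kernel) hcop (key := key) (pos := SplitVoltageM22AData.posT)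
    (srt := SplitVoltageM22AData.srtT) actA injA SplitVoltageM22A.cert_cyc σ hσ (A := Q)
    (fun a => by
      obtain ⟨b, rfl⟩ := QuotientGroup.mk_surjective a
      rw [show SplitVoltageM22AData.cert.m = 8 from rfl, ← QuotientGroup.mk_pow, hA,
        QuotientGroup.mk_one]) χ1
    ⟨ψ1, fun w hw => hψ1 ⟨w, (hk w).2 hw⟩⟩
  -- modulo squares: order at most two
  let S : Subgroup A := (powMonoidHom 2 : A →* A).range
  let χ2 : σ.ker →* A ⧸ S := (QuotientGroup.mk' S).comp χ
  have hS2 : ∀ a : A ⧸ S, a ^ 2 = 1 := fun a => by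
    obtain ⟨b, rfl⟩ := QuotientGroup.mk_surjective a
    rw [← QuotientGroup.mk_pow, QuotientGroup.eq_one_iff]
    exact ⟨b, rfl⟩
  have hS8 : ∀ a : A ⧸ S, a ^ 8 = 1 := fun a => by
    rw [show 8 = 2 * 4 from rfl, pow_mul, hS2, one_pow]
  obtain ⟨ψ2, hψ2⟩ := exists_retraction_mod perfectA τ hτs hτc ((QuotientGroup.mk' S).comp χH)
    fun z hz => bound7S τ hτs hτc hS8 _ (fun w hw hwx => by
      refine square_lift_trivial σ hσ hS2 χ2 w ((hk _).1 hw) ?_
      exact hwx) z hz
  obtain ⟨u2, hu2, hmem2⟩ := bound22 SplitVoltageM22AData.cert SplitVoltageM22A.cert_core rfl rfl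
    (by decide +kernel) hcop (key := key) (pos := SplitVoltageM22AData.posT)
    (srt := SplitVoltageM22AData.srtT) actA injA SplitVoltageM22A.cert_cyc σ hσ (A := A ⧸ S)
    (fun a => hS8 a) χ2 ⟨ψ2, fun w hw => hψ2 ⟨w, (hk w).2 hw⟩⟩
  obtain ⟨w, rfl⟩ := QuotientGroup.mk_surjective u2
  haveI : Finite A := Finite.of_surjective χ hχ
  have hgen : ∀ k : ℕ, ∀ a : A, ∃ (j : ℤ) (b : A), a = w ^ j * b ^ (2 ^ k) := by
    intro k
    induction k with
    | zero => exact fun a => ⟨0, a, by simp⟩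
    | succ k ih =>
      intro a
      obtain ⟨j, b, rfl⟩ := ih a
      obtain ⟨z, rfl⟩ := hχ b
      obtain ⟨i, hi⟩ := Subgroup.mem_zpowers_iff.1 (hmem2 z)
      obtain ⟨b', hb'⟩ := (QuotientGroup.eq (s := S)).1
        (by rw [QuotientGroup.mk_zpow]; exact hi :
          (QuotientGroup.mk (w ^ i) : A ⧸ S) = QuotientGroup.mk (χ z))
      rw [eq_inv_mul_iff_mul_eq] at hb'
      refine ⟨j + i * (2 ^ k : ℕ), b', ?_⟩
      rw [← hb', mul_pow, zpow_add, zpow_mul, zpow_natCast, mul_assoc, pow_succ', pow_mul]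
      rfl
  have hcyc : ∀ a : A, a ∈ Subgroup.zpowers w := fun a => by
    obtain ⟨j, b, rfl⟩ := hgen 3 a
    rw [show (2 : ℕ) ^ 3 = 8 from rfl, hA, mul_one]
    exact ⟨j, rfl⟩
  refine ⟨⟨w, hcyc⟩, ?_⟩
  -- fourth powers vanish
  have h4 : w ^ 4 = 1 := by
    obtain ⟨z, hz⟩ := hχ w
    obtain ⟨i, hi⟩ := Subgroup.mem_zpowers_iff.1 (hmem1 z)
    have h2 : (QuotientGroup.mk' (Subgroup.zpowers u0) w) ^ 2 = 1 := by
      rw [← hz]
      show (χ1 z) ^ 2 = 1
      rw [← hi, ← zpow_natCast (u1 ^ i), ← zpow_mul, mul_comm, zpow_mul, zpow_natCast, hu1, one_zpow]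
    rw [← map_pow] at h2
    obtain ⟨j, hj⟩ := Subgroup.mem_zpowers_iff.1 ((QuotientGroup.eq_one_iff _).1 h2)
    rw [show 4 = 2 * 2 from rfl, pow_mul, ← hj, ← zpow_natCast (u0 ^ j), ← zpow_mul, mul_comm,
      zpow_mul, zpow_natCast, hu0, one_zpow]
  have htop : Subgroup.zpowers w = ⊤ := (Subgroup.eq_top_iff' _).2 hcyc
  rw [← Subgroup.card_top (G := A), ← htop, Nat.card_zpowers]
  exact orderOf_dvd_of_pow_eq_one h4

theorem bound_three {Γ : Type} [Group Γ] [Finite Γ] (σ : Γ →* Spor.M22)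
    (hσ : Cfsg.IsStemExtension σ) {A : Type} [CommGroup A] (hA : ∀ a : A, a ^ 9 = 1)
    (χ : σ.ker →* A) : ∃ u : A, u ^ 3 = 1 ∧ ∀ z : σ.ker, χ z ∈ Subgroup.zpowers u := by
  refine bound22 SplitVoltageM22LData.cert SplitVoltageM22L.cert_core rfl rfl (by decide +kernel)
    (fun i hi => by
      rw [show SplitVoltageM22LData.cert.m = 9 from rfl]
      interval_cases i <;> norm_num [ords])
    (key := SplitVoltageM22LData.keyT) (pos := SplitVoltageM22LData.posT)
    (srt := SplitVoltageM22LData.srtT) actL injL SplitVoltageM22L.cert_cyc σ hσ hA χ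
    (retraction_sub σ hσ.1 hσ.2.1 χ _ (o := maskL) (by decide +kernel) perfectL ?_)
  intro Δ _ _ τ inc hτs hτc hinc z hz hτz hσz
  have hm : permOf threeL ∈ setStab maskL := mem_setStab (by decide +kernel)
  set a : setStab maskL := ⟨_, hm⟩
  have hord : orderOf a = 3 := (Subgroup.orderOf_coe a).symm.trans
    (orderOf_eq_of_word (P := threeL) (by decide +kernel) (by norm_num) (by decide +kernel)
      (by decide +kernel))
  have hidx : (Subgroup.zpowers a).index = 448 := by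
    have := Subgroup.card_mul_index (Subgroup.zpowers a)
    rw [Nat.card_zpowers, hord, cardL] at this
    omega
  have h1 := ker_commutator_pow_index hτs hτc a hτz hz
  rw [hidx] at h1
  have h2 : (χ ⟨inc z, hσz⟩) ^ 448 = 1 := by
    rw [← map_pow, show (⟨inc z, hσz⟩ : σ.ker) ^ 448 = 1 from
      Subtype.ext (by simp [← map_pow, h1]), map_one]
  have h3 : (χ ⟨inc z, hσz⟩) ^ Nat.gcd 448 9 = 1 := pow_gcd_eq_one.2 ⟨h2, hA _⟩
  simpa using h3

end Cfsg.Agent.SplitVoltageM22Bound
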