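import Cfsg.Agent.Lib.SplitVoltageM22Cover
import Cfsg.Agent.Lib.SplitVoltageM22Bound

/-!
The multiplier of the Mathieu group of degree 22 is cyclic of order twelve.
-/

set_option autoImplicit false

namespace Cfsg.Agent.SplitVoltageM22

open Cfsg

theorem card_M22_eq : Nat.card Spor.M22 = 2 ^ 7 * 3 ^ 2 * (5 * 7 * 11) :=
  GolayM24.card_M22.trans (by norm_num)

theorem eq_two_or_three {Γ : Type} [Group Γ] [Finite Γ] {σ : Γ →* Spor.M22}
    (hσ : Cfsg.IsStemExtension σ) {p : ℕ} (hp : p.Prime) (hd : p ∣ Nat.card σ.ker) :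
    p = 2 ∨ p = 3 := by
  haveI := Fact.mk hp
  by_contra hne
  rw [not_or] at hne
  obtain ⟨z, hz⟩ := exists_prime_orderOf_dvd_card' (G := σ.ker) p hd
  have hzo : orderOf (z : Γ) = p := (Subgroup.orderOf_coe z).trans hz
  have hcopm : ∀ a : Spor.M22, ¬ p ∣ (Subgroup.zpowers a).index → False := by
    intro a hna
    have hcop : Nat.Coprime (orderOf (z : Γ)) (Subgroup.zpowers a).index := by
      rw [hzo, hp.coprime_iff_not_dvd]; exact hna
    have h1 := StemBasic.eq_one_of_kerFree hσ (StemBasic.kerFree_zpowers σ hσ.2.1 a) z.2 hcop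
    rw [h1, orderOf_one] at hzo
    exact hp.one_lt.ne hzo
  by_cases hdiv : p ∣ Nat.card Spor.M22
  · obtain ⟨a, ha⟩ := exists_prime_orderOf_dvd_card' p hdiv
    refine hcopm a fun hdvd => ?_
    have hsq : p * p ∣ Nat.card Spor.M22 := by
      rw [← Subgroup.card_mul_index (Subgroup.zpowers a), Nat.card_zpowers, ha]
      exact Nat.mul_dvd_mul_left p hdvd
    rw [card_M22_eq] at hdiv
    have h5 : p = 5 ∨ p = 7 ∨ p = 11 := by
      have hq : ∀ {q k : ℕ}, q.Prime → p ∣ q ^ k → p = q := fun hq h =>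
        (Nat.prime_dvd_prime_iff_eq hp hq).1 (hp.dvd_of_dvd_pow h)
      rcases (Nat.Prime.dvd_mul hp).1 hdiv with h | h
      · rcases (Nat.Prime.dvd_mul hp).1 h with h | h
        · exact absurd (hq Nat.prime_two h) hne.1
        · exact absurd (hq Nat.prime_three h) hne.2
      · rcases (Nat.Prime.dvd_mul hp).1 h with h | h
        · rcases (Nat.Prime.dvd_mul hp).1 h with h | h
          · exact Or.inl (hq (k := 1) (by norm_num) (by simpa using h))
          · exact Or.inr (Or.inl (hq (k := 1) (by norm_num) (by simpa using h)))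
        · exact Or.inr (Or.inr (hq (k := 1) (by norm_num) (by simpa using h)))
    rw [GolayM24.card_M22] at hsq
    rcases h5 with rfl | rfl | rfl <;> norm_num at hsq
  · exact hcopm 1 fun hdvd => hdiv (hdvd.trans (Subgroup.index_dvd_card _))

theorem exists_onto {Γ : Type} [Group Γ] [Finite Γ] {σ : Γ →* Spor.M22}
    (hσ : Cfsg.IsStemExtension σ) :
    ∃ π : Multiplicative (ZMod 12) →* σ.ker, Function.Surjective π := by
  classical
  letI : CommGroup σ.ker :=
    { (inferInstance : Group σ.ker) with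
      mul_comm := fun a b => Subtype.ext (Subgroup.mem_center_iff.1 (hσ.2.1 b.2) a) }
  let S2 : Subgroup σ.ker := (powMonoidHom 8 : σ.ker →* σ.ker).range
  let S3 : Subgroup σ.ker := (powMonoidHom 9 : σ.ker →* σ.ker).range
  obtain ⟨⟨w2', hw2'⟩, hc2⟩ := SplitVoltageM22Bound.bound_two σ hσ (A := σ.ker ⧸ S2) (fun a => by
      obtain ⟨b, rfl⟩ := QuotientGroup.mk_surjective a
      rw [← QuotientGroup.mk_pow, QuotientGroup.eq_one_iff]; exact ⟨b, rfl⟩)
    (QuotientGroup.mk' S2) (QuotientGroup.mk'_surjective S2)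
  obtain ⟨w3', hw3, hw3'⟩ := SplitVoltageM22Bound.bound_three σ hσ (A := σ.ker ⧸ S3) (fun a => by
      obtain ⟨b, rfl⟩ := QuotientGroup.mk_surjective a
      rw [← QuotientGroup.mk_pow, QuotientGroup.eq_one_iff]; exact ⟨b, rfl⟩)
    (QuotientGroup.mk' S3)
  -- twelfth powers vanish
  have h4 : ∀ x : σ.ker, x ^ 4 ∈ S2 := fun x => by
    rw [← QuotientGroup.eq_one_iff, QuotientGroup.mk_pow]
    exact orderOf_dvd_iff_pow_eq_one.1 ((orderOf_dvd_natCard _).trans hc2)
  have h3 : ∀ x : σ.ker, x ^ 3 ∈ S3 := fun x => by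
    rw [← QuotientGroup.eq_one_iff, QuotientGroup.mk_pow]
    obtain ⟨i, hi⟩ := Subgroup.mem_zpowers_iff.1 (hw3' x)
    show (QuotientGroup.mk' S3 x) ^ 3 = 1
    rw [← hi, ← zpow_natCast (w3' ^ i), ← zpow_mul, mul_comm, zpow_mul, zpow_natCast, hw3, one_zpow]
  have key : ∀ (q a b : ℕ), (∀ x : σ.ker, ∃ y : σ.ker, x ^ (q ^ a) = (y ^ (q ^ (a + 1))) ^ b) →
      ∀ (k : ℕ) (x : σ.ker), ∃ y : σ.ker, x ^ (q ^ a) = (y ^ (q ^ (a + k))) ^ (b ^ k) := by
    intro q a b h k
    induction k with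
    | zero => exact fun x => ⟨x, by simp⟩
    | succ k ih =>
      intro x
      obtain ⟨y, hy⟩ := ih x
      obtain ⟨y', hy'⟩ := h y
      refine ⟨y', ?_⟩
      rw [hy, show q ^ (a + k) = q ^ a * q ^ k from pow_add q a k, pow_mul y, hy', ← pow_mul,
        ← pow_mul, ← pow_mul, ← pow_mul]
      congr 1
      ring
  obtain ⟨e, m, he, hm⟩ : ∃ e m : ℕ, Nat.card σ.ker = 2 ^ e * 3 ^ m ∧ True := by
    refine ⟨(Nat.card σ.ker).factorization 2, (Nat.card σ.ker).factorization 3, ?_, trivial⟩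
    refine Nat.eq_of_factorization_eq Nat.card_pos.ne' (by positivity) fun p => ?_
    rw [Nat.factorization_mul (by positivity) (by positivity), Nat.Prime.factorization_pow
      Nat.prime_two, Nat.Prime.factorization_pow Nat.prime_three, Finsupp.add_apply]
    by_cases hp : p.Prime ∧ p ∣ Nat.card σ.ker
    · rcases eq_two_or_three hσ hp.1 hp.2 with rfl | rfl <;> simp
    · have : (Nat.card σ.ker).factorization p = 0 := by
        rw [not_and_or] at hp
        rcases hp with h | h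
        · exact Nat.factorization_eq_zero_of_not_prime _ h
        · exact Nat.factorization_eq_zero_of_not_dvd h
      rw [this]
      generalize (Nat.card σ.ker).factorization = f at this ⊢
      rcases eq_or_ne p 2 with rfl | h2
      · simp [this]
      · rcases eq_or_ne p 3 with rfl | h3
        · simp [this]
        · simp [Finsupp.single_apply, h2.symm, h3.symm]
  have h12 : ∀ x : σ.ker, x ^ 12 = 1 := by
    intro x
    obtain ⟨y, hy⟩ := key 2 2 1 (fun x => by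
      obtain ⟨y, hy⟩ := h4 x
      exact ⟨y, by simpa using hy.symm⟩) e (x ^ 3)
    obtain ⟨y', hy'⟩ := key 3 1 1 (fun x => by
      obtain ⟨y', hy'⟩ := h3 x
      exact ⟨y', by simpa using hy'.symm⟩) m (x ^ 4)
    have hcard : ∀ t : σ.ker, t ^ (2 ^ e * 3 ^ m) = 1 := fun t => he ▸ pow_card_eq_one'
    have a2 : (x ^ 12) ^ (3 ^ m) = 1 := by
      rw [show 12 = 3 * 2 ^ 2 from rfl, pow_mul x, hy, one_pow, pow_one, ← pow_mul,
        show 2 ^ (2 + e) * 3 ^ m = 2 ^ e * 3 ^ m * 4 by ring, pow_mul, hcard, one_pow]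
    have a3 : (x ^ 12) ^ (2 ^ e) = 1 := by
      rw [show 12 = 4 * 3 ^ 1 from rfl, pow_mul x, hy', one_pow, pow_one, ← pow_mul,
        show 3 ^ (1 + m) * 2 ^ e = 2 ^ e * 3 ^ m * 3 by ring, pow_mul, hcard, one_pow]
    have := pow_gcd_eq_one.2 ⟨a2, a3⟩
    rwa [(Nat.Coprime.pow m e (by norm_num : Nat.Coprime 3 2) : Nat.gcd (3 ^ m) (2 ^ e) = 1),
      pow_one] at this
  -- one generator
  obtain ⟨w2, rfl⟩ := QuotientGroup.mk_surjective w2'
  obtain ⟨w3, rfl⟩ := QuotientGroup.mk_surjective w3'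
  have hpart : ∀ x : σ.ker, (∃ i : ℤ, x ^ 9 = w2 ^ (9 * i)) ∧ ∃ j : ℤ, x ^ 4 = w3 ^ (4 * j) := by
    intro x
    constructor
    · obtain ⟨i, hi⟩ := Subgroup.mem_zpowers_iff.1 (hw2' (QuotientGroup.mk x))
      rw [← QuotientGroup.mk_zpow] at hi
      obtain ⟨y, hy⟩ := QuotientGroup.eq.1 hi
      refine ⟨i, ?_⟩
      rw [eq_inv_mul_iff_mul_eq] at hy
      have e9 : (powMonoidHom 8 y : σ.ker) ^ 9 = 1 := by
        show (y ^ 8) ^ 9 = 1
        rw [← pow_mul, show 8 * 9 = 12 * 6 from rfl, pow_mul, h12, one_pow]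
      rw [← hy, mul_pow, e9, mul_one, ← zpow_natCast (w2 ^ i), ← zpow_mul, mul_comm i]
      rfl
    · obtain ⟨i, hi⟩ := Subgroup.mem_zpowers_iff.1 (hw3' x)
      rw [← QuotientGroup.mk_zpow] at hi
      obtain ⟨y, hy⟩ := QuotientGroup.eq.1 hi
      refine ⟨i, ?_⟩
      rw [eq_inv_mul_iff_mul_eq] at hy
      have e4 : (powMonoidHom 9 y : σ.ker) ^ 4 = 1 := by
        show (y ^ 9) ^ 4 = 1
        rw [← pow_mul, show 9 * 4 = 12 * 3 from rfl, pow_mul, h12, one_pow]
      rw [← hy, mul_pow, e4, mul_one, ← zpow_natCast (w3 ^ i), ← zpow_mul, mul_comm i]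
      rfl
  set u := w2 ^ 9 * w3 ^ 4 with hu
  have hgen : ∀ x : σ.ker, ∃ k : ℤ, x = u ^ k := by
    intro x
    obtain ⟨⟨i, hi⟩, j, hj⟩ := hpart x
    refine ⟨9 * i + 4 * j, ?_⟩
    have hx : x = (x ^ 9) ^ 9 * (x ^ 4) ^ 4 := by
      rw [← pow_mul, ← pow_mul, ← pow_add, show 9 * 9 + 4 * 4 = 12 * 8 + 1 from rfl, pow_succ,
        pow_mul, h12, one_pow, one_mul]
    have e12 : ∀ (t : σ.ker) (a : ℤ), t ^ (12 * a) = 1 := fun t a => by
      rw [zpow_mul, show (12 : ℤ) = ((12 : ℕ) : ℤ) from rfl, zpow_natCast, h12, one_zpow]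
    rw [hu, mul_zpow, ← zpow_natCast w2 9, ← zpow_mul, ← zpow_natCast w3 4, ← zpow_mul]
    refine hx.trans ?_
    rw [hi, hj, ← zpow_natCast (w2 ^ (9 * i)), ← zpow_mul, ← zpow_natCast (w3 ^ (4 * j)), ← zpow_mul]
    push_cast
    rw [show 9 * (9 * i + 4 * j) = 9 * i * 9 + 12 * (3 * j) by ring, zpow_add w2, e12, mul_one,
      show 4 * (9 * i + 4 * j) = 4 * j * 4 + 12 * (3 * i) by ring, zpow_add w3, e12, mul_one]
  let a : {f : ℤ →+ Additive σ.ker // f 12 = 0} :=
    ⟨zmultiplesHom _ (Additive.ofMul u), by simp [← ofMul_zpow, zpow_ofNat, h12]⟩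
  refine ⟨AddMonoidHom.toMultiplicativeLeft (ZMod.lift 12 a), fun z => ?_⟩
  obtain ⟨j, rfl⟩ := hgen z
  refine ⟨Multiplicative.ofAdd ((j : ℤ) : ZMod 12), ?_⟩
  show Additive.toMul (ZMod.lift 12 a ((j : ℤ) : ZMod 12)) = u ^ j
  rw [ZMod.lift_coe]
  simp [a]

theorem multiplier_M22 : Cfsg.HasCyclicSchurMultiplier ↥Cfsg.Spor.M22 12 :=
  ⟨SplitVoltageM22Cover.hasCover, fun _ _ _ _ hσ => exists_onto hσ⟩

end Cfsg.Agent.SplitVoltageM22
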