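import Cfsg.Agent.Lib.SplitVoltageCert

/-!
Certificate data: voltages M22A.
-/

set_option autoImplicit false
set_option maxRecDepth 100000

namespace Cfsg.Agent.SplitVoltageM22AData

open Cfsg.Agent.SplitVoltageCert

/-- table part -/
def nxT_1 : Tr :=
  .nd (.nd (.nd (.nd (.nd (.nd (.lf 1) (.lf 64)) (.nd (.lf 29) (.lf 0))) (.nd (.nd (.lf 59) (.lf 169)) (.nd (.lf 89) (.lf 0)))) (.nd (.nd (.nd (.lf 32) (.lf 50)) (.nd (.lf 66) (.lf 0))) (.nd (.nd (.lf 86) (.lf 0)) (.nd (.lf 95) (.lf 0))))) (.nd (.nd (.nd (.nd (.lf 17) (.lf 148)) (.nd (.lf 97) (.lf 0))) (.nd (.nd (.lf 72) (.lf 75)) (.nd (.lf 60) (.lf 0)))) (.nd (.nd (.nd (.lf 20) (.lf 159)) (.nd (.lf 135) (.lf 0))) (.nd (.nd (.lf 98) (.lf 0)) (.nd (.lf 141) (.lf 0)))))) (.nd (.nd (.nd (.nd (.nd (.lf 9) (.lf 45)) (.nd (.lf 115) (.lf 0))) (.nd (.nd (.lf 58) (.lf 172)) (.nd (.lf 143) (.lf 0)))) (.nd (.nd (.nd (.lf 38) (.lf 0)) (.nd (.lf 12) (.lf 0))) (.nd (.nd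 (.lf 91) (.lf 0)) (.nd (.lf 14) (.lf 0))))) (.nd (.nd (.nd (.nd (.lf 25) (.lf 160)) (.nd (.lf 126) (.lf 0))) (.nd (.nd (.lf 79) (.lf 52)) (.nd (.lf 137) (.lf 0)))) (.nd (.nd (.nd (.lf 51) (.lf 152)) (.nd (.lf 139) (.lf 0))) (.nd (.nd (.lf 103) (.lf 0)) (.nd (.lf 133) (.lf 0))))))

/-- table part -/
def nxT_2 : Tr :=
  .nd (.nd (.nd (.nd (.nd (.nd (.lf 5) (.lf 46)) (.nd (.lf 111) (.lf 0))) (.nd (.nd (.lf 63) (.lf 62)) (.nd (.lf 128) (.lf 0)))) (.nd (.nd (.nd (.lf 24) (.lf 41)) (.nd (.lf 31) (.lf 0))) (.nd (.nd (.lf 88) (.lf 0)) (.nd (.lf 147) (.lf 0))))) (.nd (.nd (.nd (.nd (.lf 21) (.lf 132)) (.nd (.lf 124) (.lf 0))) (.nd (.nd (.lf 76) (.lf 175)) (.nd (.lf 130) (.lf 0)))) (.nd (.nd (.nd (.lf 18) (.lf 164)) (.nd (.lf 99) (.lf 0))) (.nd (.nd (.lf 102) (.lf 0)) (.nd (.lf 154) (.lf 0)))))) (.nd (.nd (.nd (.nd (.nd (.lf 13) (.lf 151)) (.nd (.lf 106) (.lf 0))) (.nd (.nd (.lf 68) (.lf 170)) (.nd (.lf 69) (.lf 0))))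 (.nd (.nd (.nd (.lf 42) (.lf 8)) (.nd (.lf 134) (.lf 0))) (.nd (.nd (.lf 94) (.lf 0)) (.nd (.lf 101) (.lf 0))))) (.nd (.nd (.nd (.nd (.lf 28) (.lf 118)) (.nd (.lf 48) (.lf 0))) (.nd (.nd (.lf 83) (.lf 162)) (.nd (.lf 140) (.lf 0)))) (.nd (.nd (.nd (.lf 55) (.lf 121)) (.nd (.lf 120) (.lf 0))) (.nd (.nd (.lf 107) (.lf 0)) (.nd (.lf 142) (.lf 0))))))

/-- table part -/
def nxT_3 : Tr :=
  .nd nxT_1 nxT_2

/-- table part -/
def nxT_4 : Tr :=
  .nd (.nd (.nd (.nd (.nd (.nd (.lf 3) (.lf 84)) (.nd (.lf 39) (.lf 0))) (.nd (.nd (.lf 61) (.lf 171)) (.nd (.lf 116) (.lf 0)))) (.nd (.nd (.nd (.lf 34) (.lf 167)) (.nd (.lf 73) (.lf 0))) (.nd (.nd (.lf 87) (.lf 0)) (.nd (.lf 146) (.lf 0))))) (.nd (.nd (.nd (.nd (.lf 19) (.lf 161)) (.nd (.lf 122) (.lf 0))) (.nd (.nd (.lf 74) (.lf 157)) (.nd (.lf 145) (.lf 0)))) (.nd (.nd (.nd (.lf 47) (.lf 150)) (.nd (.lf 136) (.lf 0))) (.nd (.nd (.lf 100) (.lf 0)) (.nd (.lf 109) (.lf 0))))))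 (.nd (.nd (.nd (.nd (.nd (.lf 11) (.lf 158)) (.nd (.lf 117) (.lf 0))) (.nd (.nd (.lf 67) (.lf 173)) (.nd (.lf 144) (.lf 0)))) (.nd (.nd (.nd (.lf 40) (.lf 92)) (.nd (.lf 108) (.lf 0))) (.nd (.nd (.lf 93) (.lf 0)) (.nd (.lf 33) (.lf 0))))) (.nd (.nd (.nd (.nd (.lf 16) (.lf 110)) (.nd (.lf 4) (.lf 0))) (.nd (.nd (.lf 81) (.lf 54)) (.nd (.lf 37) (.lf 0)))) (.nd (.nd (.nd (.lf 53) (.lf 165)) (.nd (.lf 125) (.lf 0))) (.nd (.nd (.lf 77) (.lf 0)) (.nd (.lf 156) (.lf 0))))))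

/-- table part -/
def nxT_5 : Tr :=
  .nd (.nd (.nd (.nd (.nd (.nd (.lf 7) (.lf 114)) (.nd (.lf 113) (.lf 0))) (.nd (.nd (.lf 65) (.lf 26)) (.nd (.lf 10) (.lf 0)))) (.nd (.nd (.nd (.lf 36) (.lf 35)) (.nd (.lf 131) (.lf 0))) (.nd (.nd (.lf 90) (.lf 0)) (.nd (.lf 149) (.lf 0))))) (.nd (.nd (.nd (.nd (.lf 23) (.lf 163)) (.nd (.lf 27) (.lf 0))) (.nd (.nd (.lf 78) (.lf 153)) (.nd (.lf 71) (.lf 0)))) (.nd (.nd (.nd (.lf 49) (.lf 105)) (.nd (.lf 138) (.lf 0))) (.nd (.nd (.lf 104) (.lf 0)) (.nd (.lf 155) (.lf 0)))))) (.nd (.nd (.nd (.nd (.nd (.lf 15) (.lf 22)) (.nd (.lf 119) (.lf 0))) (.nd (.nd (.lf 70) (.lf 174)) (.nd (.lf 127) (.lf 0)))) (.nd (.nd (.nd (.lf 44) (.lf 168)) (.nd (.lf 43) (.lf 0))) (.nd (.nd (.lf 96) (.lf 0)) (.nd (.lf 123) (.lf 0))))) (.nd (.nd (.nd (.nd (.lf 30) (.lf 166)) (.nd (.lf 129) (.lf 0))) (.nd (.nd (.lf 2) (.lf 80)) (.nd (.lf 82) (.lf 0)))) (.nd (.nd (.nd (.lf 57) (.lf 56)) (.nd (.lf 6)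 (.lf 0))) (.nd (.nd (.lf 85) (.lf 0)) (.nd (.lf 112) (.lf 0))))))

/-- table part -/
def nxT_6 : Tr :=
  .nd nxT_4 nxT_5

/-- table part -/
def nxT_7 : Tr :=
  .nd nxT_3 nxT_6

/-- table part -/
def nxT_8 : Tr :=
  .nd (.nd (.nd (.nd (.nd (.nd (.lf 2) (.lf 7)) (.nd (.lf 109) (.lf 0))) (.nd (.nd (.lf 60) (.lf 170)) (.nd (.lf 140) (.lf 0)))) (.nd (.nd (.nd (.lf 33) (.lf 34)) (.nd (.lf 130) (.lf 0))) (.nd (.nd (.lf 59) (.lf 0)) (.nd (.lf 144) (.lf 0))))) (.nd (.nd (.nd (.nd (.lf 18) (.lf 160)) (.nd (.lf 121) (.lf 0))) (.nd (.nd (.lf 73) (.lf 72)) (.nd (.lf 124) (.lf 0)))) (.nd (.nd (.nd (.lf 46) (.lf 122)) (.nd (.lf 19) (.lf 0))) (.nd (.nd (.lf 99) (.lf 0)) (.nd (.lf 152) (.lf 0)))))) (.nd (.nd (.nd (.nd (.nd (.lf 10) (.lf 93)) (.nd (.lf 116) (.lf 0))) (.nd (.nd (.lf 66) (.lf 171)) (.nd (.lf 139) (.lf 0)))) (.nd (.nd (.nd (.lf 39) (.lf 145)) (.nd (.lf 133) (.lf 0))) (.nd (.nd (.lf 92) (.lf 0)) (.nd (.lf 146)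 (.lf 0))))) (.nd (.nd (.nd (.nd (.lf 26) (.lf 158)) (.nd (.lf 127) (.lf 0))) (.nd (.nd (.lf 80) (.lf 55)) (.nd (.lf 107) (.lf 0)))) (.nd (.nd (.nd (.lf 52) (.lf 115)) (.nd (.lf 100) (.lf 0))) (.nd (.nd (.lf 42) (.lf 0)) (.nd (.lf 87) (.lf 0))))))

/-- table part -/
def nxT_9 : Tr :=
  .nd (.nd (.nd (.nd (.nd (.nd (.lf 6) (.lf 135)) (.nd (.lf 112) (.lf 0))) (.nd (.nd (.lf 64) (.lf 163)) (.nd (.lf 78) (.lf 0)))) (.nd (.nd (.nd (.lf 32) (.lf 104)) (.nd (.lf 81) (.lf 0))) (.nd (.nd (.lf 89) (.lf 0)) (.nd (.lf 148) (.lf 0))))) (.nd (.nd (.nd (.nd (.lf 22) (.lf 70)) (.nd (.lf 86) (.lf 0))) (.nd (.nd (.lf 77) (.lf 175)) (.nd (.lf 57) (.lf 0)))) (.nd (.nd (.nd (.lf 25) (.lf 61)) (.nd (.lf 137) (.lf 0))) (.nd (.nd (.lf 103) (.lf 0)) (.nd (.lf 9) (.lf 0)))))) (.nd (.nd (.nd (.nd (.nd (.lf 14) (.lf 159)) (.nd (.lf 118) (.lf 0))) (.nd (.nd (.lf 69) (.lf 169)) (.nd (.lf 68) (.lf 0)))) (.nd (.nd (.nd (.lf 43) (.lf 63))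 (.nd (.lf 117) (.lf 0))) (.nd (.nd (.lf 95) (.lf 0)) (.nd (.lf 143) (.lf 0))))) (.nd (.nd (.nd (.nd (.lf 29) (.lf 76)) (.nd (.lf 128) (.lf 0))) (.nd (.nd (.lf 84) (.lf 172)) (.nd (.lf 136) (.lf 0)))) (.nd (.nd (.nd (.lf 56) (.lf 155)) (.nd (.lf 91) (.lf 0))) (.nd (.nd (.lf 98) (.lf 0)) (.nd (.lf 154) (.lf 0))))))

/-- table part -/
def nxT_10 : Tr :=
  .nd nxT_8 nxT_9

/-- table part -/
def nxT_11 : Tr :=
  .nd (.nd (.nd (.nd (.nd (.nd (.lf 4) (.lf 126)) (.nd (.lf 110) (.lf 0))) (.nd (.nd (.lf 62) (.lf 161)) (.nd (.lf 141) (.lf 0)))) (.nd (.nd (.nd (.lf 35) (.lf 166)) (.nd (.lf 74) (.lf 0))) (.nd (.nd (.lf 11) (.lf 0)) (.nd (.lf 67) (.lf 0))))) (.nd (.nd (.nd (.nd (.lf 20) (.lf 162)) (.nd (.lf 123) (.lf 0))) (.nd (.nd (.lf 75) (.lf 113)) (.nd (.lf 5) (.lf 0)))) (.nd (.nd (.nd (.lf 48) (.lf 149)) (.nd (.lf 88) (.lf 0))) (.nd (.nd (.lf 101) (.lf 0)) (.nd (.lf 153) (.lf 0)))))) (.nd (.nd (.nd (.nd (.nd (.lf 12)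 (.lf 147)) (.nd (.lf 21) (.lf 0))) (.nd (.nd (.lf 13) (.lf 173)) (.nd (.lf 129) (.lf 0)))) (.nd (.nd (.nd (.lf 41) (.lf 119)) (.nd (.lf 1) (.lf 0))) (.nd (.nd (.lf 90) (.lf 0)) (.nd (.lf 23) (.lf 0))))) (.nd (.nd (.nd (.nd (.lf 27) (.lf 165)) (.nd (.lf 3) (.lf 0))) (.nd (.nd (.lf 82) (.lf 174)) (.nd (.lf 36) (.lf 0)))) (.nd (.nd (.nd (.lf 54) (.lf 38)) (.nd (.lf 15) (.lf 0))) (.nd (.nd (.lf 106) (.lf 0)) (.nd (.lf 157) (.lf 0))))))

/-- table part -/
def nxT_12 : Tr :=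
  .nd (.nd (.nd (.nd (.nd (.nd (.lf 8) (.lf 156)) (.nd (.lf 114) (.lf 0))) (.nd (.nd (.lf 53) (.lf 17)) (.nd (.lf 142) (.lf 0)))) (.nd (.nd (.nd (.lf 37) (.lf 49)) (.nd (.lf 132) (.lf 0))) (.nd (.nd (.lf 44) (.lf 0)) (.nd (.lf 150) (.lf 0))))) (.nd (.nd (.nd (.nd (.lf 24) (.lf 164)) (.nd (.lf 125) (.lf 0))) (.nd (.nd (.lf 47) (.lf 28)) (.nd (.lf 131) (.lf 0)))) (.nd (.nd (.nd (.lf 50) (.lf 40)) (.nd (.lf 138) (.lf 0))) (.nd (.nd (.lf 105) (.lf 0)) (.nd (.lf 96) (.lf 0)))))) (.nd (.nd (.nd (.nd (.nd (.lf 16) (.lf 134)) (.nd (.lf 120) (.lf 0))) (.nd (.nd (.lf 71) (.lf 65)) (.nd (.lf 83) (.lf 0)))) (.nd (.nd (.nd (.lf 45) (.lf 168)) (.nd (.lf 102) (.lf 0))) (.nd (.nd (.lf 97) (.lf 0)) (.nd (.lf 151) (.lf 0))))) (.nd (.nd (.nd (.nd (.lf 31) (.lf 79)) (.nd (.lf 94) (.lf 0))) (.nd (.nd (.lf 85) (.lf 167)) (.nd (.lf 30) (.lf 0)))) (.nd (.nd (.nd (.lf 58) (.lf 51)) (.nd (.lf 0) (.lf 0))) (.nd (.nd (.lf 108) (.lf 0))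 (.nd (.lf 111) (.lf 0))))))

/-- table part -/
def nxT_13 : Tr :=
  .nd nxT_11 nxT_12

/-- table part -/
def nxT_14 : Tr :=
  .nd nxT_10 nxT_13

/-- table part -/
def nxT_15 : Tr :=
  .nd nxT_7 nxT_14

/-- table -/
def nxT : Tr :=
  nxT_15

/-- table part -/
def pvT_1 : Tr :=
  .nd (.nd (.nd (.nd (.nd (.nd (.lf 148) (.lf 98)) (.nd (.lf 128) (.lf 0))) (.nd (.nd (.lf 16) (.lf 140)) (.nd (.lf 55) (.lf 0)))) (.nd (.nd (.nd (.lf 13) (.lf 101)) (.nd (.lf 175) (.lf 0))) (.nd (.nd (.lf 78) (.lf 0)) (.nd (.lf 127) (.lf 0))))) (.nd (.nd (.nd (.nd (.lf 150) (.lf 89)) (.nd (.lf 40) (.lf 0))) (.nd (.nd (.lf 21) (.lf 151)) (.nd (.lf 59) (.lf 0)))) (.nd (.nd (.nd (.lf 18) (.lf 156)) (.nd (.lf 50) (.lf 0))) (.nd (.nd (.lf 159) (.lf 0)) (.nd (.lf 94) (.lf 0)))))) (.nd (.nd (.nd (.nd (.nd (.lf 77) (.lf 138)) (.nd (.lf 38) (.lf 0))) (.nd (.nd (.lf 19) (.lf 154)) (.nd (.lf 57) (.lf 0)))) (.nd (.nd (.nd (.lf 24) (.lf 136)) (.nd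 (.lf 129) (.lf 0))) (.nd (.nd (.lf 172) (.lf 0)) (.nd (.lf 97) (.lf 0))))) (.nd (.nd (.nd (.nd (.lf 84) (.lf 110)) (.nd (.lf 42) (.lf 0))) (.nd (.nd (.lf 23) (.lf 164)) (.nd (.lf 85) (.lf 0)))) (.nd (.nd (.nd (.lf 14) (.lf 125)) (.nd (.lf 149) (.lf 0))) (.nd (.nd (.lf 104) (.lf 0)) (.nd (.lf 74) (.lf 0))))))

/-- table part -/
def pvT_2 : Tr :=
  .nd (.nd (.nd (.nd (.nd (.nd (.lf 47) (.lf 106)) (.nd (.lf 80) (.lf 0))) (.nd (.nd (.lf 17) (.lf 174)) (.nd (.lf 56) (.lf 0)))) (.nd (.nd (.nd (.lf 26) (.lf 113)) (.nd (.lf 111) (.lf 0))) (.nd (.nd (.lf 144) (.lf 0)) (.nd (.lf 131) (.lf 0))))) (.nd (.nd (.nd (.nd (.lf 99) (.lf 91)) (.nd (.lf 41) (.lf 0))) (.nd (.nd (.lf 22) (.lf 166)) (.nd (.lf 70) (.lf 0)))) (.nd (.nd (.nd (.lf 163) (.lf 122)) (.nd (.lf 51) (.lf 0))) (.nd (.nd (.lf 36) (.lf 0)) (.nd (.lf 73) (.lf 0)))))) (.nd (.nd (.nd (.nd (.nd (.lf 95) (.lf 86)) (.nd (.lf 39) (.lf 0))) (.nd (.nd (.lf 20) (.lf 143))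 (.nd (.lf 58) (.lf 0)))) (.nd (.nd (.nd (.lf 135) (.lf 153)) (.nd (.lf 48) (.lf 0))) (.nd (.nd (.lf 173) (.lf 0)) (.nd (.lf 142) (.lf 0))))) (.nd (.nd (.nd (.nd (.lf 116) (.lf 126)) (.nd (.lf 43) (.lf 0))) (.nd (.nd (.lf 130) (.lf 167)) (.nd (.lf 141) (.lf 0)))) (.nd (.nd (.nd (.lf 15) (.lf 133)) (.nd (.lf 54) (.lf 0))) (.nd (.nd (.lf 162) (.lf 0)) (.nd (.lf 76) (.lf 0))))))

/-- table part -/
def pvT_3 : Tr :=
  .nd pvT_1 pvT_2

/-- table part -/
def pvT_4 : Tr :=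
  .nd (.nd (.nd (.nd (.nd (.nd (.lf 0) (.lf 79)) (.nd (.lf 35) (.lf 0))) (.nd (.nd (.lf 117) (.lf 137)) (.nd (.lf 72) (.lf 0)))) (.nd (.nd (.nd (.lf 8) (.lf 105)) (.nd (.lf 45) (.lf 0))) (.nd (.nd (.lf 27) (.lf 0)) (.nd (.lf 67) (.lf 0))))) (.nd (.nd (.nd (.nd (.lf 4) (.lf 108)) (.nd (.lf 81) (.lf 0))) (.nd (.nd (.lf 146) (.lf 160)) (.nd (.lf 155) (.lf 0)))) (.nd (.nd (.nd (.lf 12) (.lf 171)) (.nd (.lf 96) (.lf 0))) (.nd (.nd (.lf 31) (.lf 0)) (.nd (.lf 158) (.lf 0)))))) (.nd (.nd (.nd (.nd (.nd (.lf 2) (.lf 124)) (.nd (.lf 102) (.lf 0))) (.nd (.nd (.lf 109) (.lf 157)) (.nd (.lf 118) (.lf 0)))) (.nd (.nd (.nd (.lf 10) (.lf 115)) (.nd (.lf 63) (.lf 0))) (.nd (.nd (.lf 29) (.lf 0)) (.nd (.lf 69) (.lf 0))))) (.nd (.nd (.nd (.nd (.lf 6) (.lf 120)) (.nd (.lf 61) (.lf 0))) (.nd (.nd (.lf 132) (.lf 165)) (.nd (.lf 121) (.lf 0)))) (.nd (.nd (.nd (.lf 64) (.lf 169)) (.nd (.lf 53) (.lf 0))) (.nd (.nd (.lf 33) (.lf 0))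 (.nd (.lf 93) (.lf 0))))))

/-- table part -/
def pvT_5 : Tr :=
  .nd (.nd (.nd (.nd (.nd (.nd (.lf 1) (.lf 83)) (.nd (.lf 37) (.lf 0))) (.nd (.nd (.lf 147) (.lf 139)) (.nd (.lf 90) (.lf 0)))) (.nd (.nd (.nd (.lf 9) (.lf 114)) (.nd (.lf 46) (.lf 0))) (.nd (.nd (.lf 28) (.lf 0)) (.nd (.lf 68) (.lf 0))))) (.nd (.nd (.nd (.nd (.lf 5) (.lf 92)) (.nd (.lf 168) (.lf 0))) (.nd (.nd (.lf 87) (.lf 161)) (.nd (.lf 62) (.lf 0)))) (.nd (.nd (.nd (.lf 75) (.lf 123)) (.nd (.lf 52) (.lf 0))) (.nd (.nd (.lf 32) (.lf 0)) (.nd (.lf 119) (.lf 0)))))) (.nd (.nd (.nd (.nd (.nd (.lf 3) (.lf 88)) (.nd (.lf 107) (.lf 0))) (.nd (.nd (.lf 65) (.lf 145)) (.nd (.lf 60) (.lf 0)))) (.nd (.nd (.nd (.lf 11) (.lf 134)) (.nd (.lf 49) (.lf 0))) (.nd (.nd (.lf 30) (.lf 0)) (.nd (.lf 71) (.lf 0))))) (.nd (.nd (.nd (.nd (.lf 7) (.lf 100)) (.nd (.lf 44) (.lf 0))) (.nd (.nd (.lf 25) (.lf 170)) (.nd (.lf 66) (.lf 0)))) (.nd (.nd (.nd (.lf 82) (.lf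 152)) (.nd (.lf 112) (.lf 0))) (.nd (.nd (.lf 34) (.lf 0)) (.nd (.lf 103) (.lf 0))))))

/-- table part -/
def pvT_6 : Tr :=
  .nd pvT_4 pvT_5

/-- table part -/
def pvT_7 : Tr :=
  .nd pvT_3 pvT_6

/-- table part -/
def pvT_8 : Tr :=
  .nd (.nd (.nd (.nd (.nd (.nd (.lf 95) (.lf 78)) (.nd (.lf 34) (.lf 0))) (.nd (.nd (.lf 18) (.lf 136)) (.nd (.lf 123) (.lf 0)))) (.nd (.nd (.nd (.lf 7) (.lf 112)) (.nd (.lf 44) (.lf 0))) (.nd (.nd (.lf 25) (.lf 0)) (.nd (.lf 66) (.lf 0))))) (.nd (.nd (.nd (.nd (.lf 3) (.lf 110)) (.nd (.lf 168) (.lf 0))) (.nd (.nd (.lf 155) (.lf 151)) (.nd (.lf 146) (.lf 0)))) (.nd (.nd (.nd (.lf 11) (.lf 120)) (.nd (.lf 89) (.lf 0))) (.nd (.nd (.lf 30) (.lf 0)) (.nd (.lf 71) (.lf 0)))))) (.nd (.nd (.nd (.nd (.nd (.lf 1) (.lf 83)) (.nd (.lf 102) (.lf 0))) (.nd (.nd (.lf 109) (.lf 139)) (.nd (.lf 92) (.lf 0)))) (.nd (.nd (.nd (.lf 9) (.lf 114)) (.nd (.lf 46) (.lf 0))) (.nd (.nd (.lf 28) (.lf 0))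 (.nd (.lf 68) (.lf 0))))) (.nd (.nd (.nd (.nd (.lf 5) (.lf 96)) (.nd (.lf 142) (.lf 0))) (.nd (.nd (.lf 51) (.lf 174)) (.nd (.lf 63) (.lf 0)))) (.nd (.nd (.nd (.lf 171) (.lf 131)) (.nd (.lf 52) (.lf 0))) (.nd (.nd (.lf 32) (.lf 0)) (.nd (.lf 104) (.lf 0))))))

/-- table part -/
def pvT_9 : Tr :=
  .nd (.nd (.nd (.nd (.nd (.nd (.lf 0) (.lf 80)) (.nd (.lf 36) (.lf 0))) (.nd (.nd (.lf 144) (.lf 137)) (.nd (.lf 62) (.lf 0)))) (.nd (.nd (.nd (.lf 8) (.lf 116)) (.nd (.lf 45) (.lf 0))) (.nd (.nd (.lf 27) (.lf 0)) (.nd (.lf 67) (.lf 0))))) (.nd (.nd (.nd (.nd (.lf 4) (.lf 91)) (.nd (.lf 81) (.lf 0))) (.nd (.nd (.lf 60) (.lf 160)) (.nd (.lf 61) (.lf 0)))) (.nd (.nd (.nd (.lf 12) (.lf 126)) (.nd (.lf 53) (.lf 0))) (.nd (.nd (.lf 31) (.lf 0)) (.nd (.lf 152) (.lf 0)))))) (.nd (.nd (.nd (.nd (.nd (.lf 2) (.lf 135)) (.nd (.lf 138) (.lf 0))) (.nd (.nd (.lf 157) (.lf 145)) (.nd (.lf 87) (.lf 0)))) (.nd (.nd (.nd (.lf 10)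 (.lf 115)) (.nd (.lf 74) (.lf 0))) (.nd (.nd (.lf 29) (.lf 0)) (.nd (.lf 70) (.lf 0))))) (.nd (.nd (.nd (.nd (.lf 6) (.lf 99)) (.nd (.lf 98) (.lf 0))) (.nd (.nd (.lf 24) (.lf 173)) (.nd (.lf 65) (.lf 0)))) (.nd (.nd (.nd (.lf 111) (.lf 140)) (.nd (.lf 79) (.lf 0))) (.nd (.nd (.lf 33) (.lf 0)) (.nd (.lf 129) (.lf 0))))))

/-- table part -/
def pvT_10 : Tr :=
  .nd pvT_8 pvT_9

/-- table part -/
def pvT_11 : Tr :=
  .nd (.nd (.nd (.nd (.nd (.nd (.lf 85) (.lf 101)) (.nd (.lf 167) (.lf 0))) (.nd (.nd (.lf 16) (.lf 161)) (.nd (.lf 55) (.lf 0)))) (.nd (.nd (.nd (.lf 163) (.lf 148)) (.nd (.lf 82) (.lf 0))) (.nd (.nd (.lf 147) (.lf 0)) (.nd (.lf 169) (.lf 0))))) (.nd (.nd (.nd (.nd (.lf 122) (.lf 90)) (.nd (.lf 40) (.lf 0))) (.nd (.nd (.lf 21) (.lf 166)) (.nd (.lf 59) (.lf 0)))) (.nd (.nd (.nd (.lf 26) (.lf 121)) (.nd (.lf 50) (.lf 0))) (.nd (.nd (.lf 106) (.lf 0)) (.nd (.lf 72) (.lf 0)))))) (.nd (.nd (.nd (.nd (.nd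 (.lf 105) (.lf 84)) (.nd (.lf 38) (.lf 0))) (.nd (.nd (.lf 19) (.lf 141)) (.nd (.lf 57) (.lf 0)))) (.nd (.nd (.nd (.lf 69) (.lf 153)) (.nd (.lf 47) (.lf 0))) (.nd (.nd (.lf 35) (.lf 0)) (.nd (.lf 86) (.lf 0))))) (.nd (.nd (.nd (.nd (.lf 37) (.lf 97)) (.nd (.lf 42) (.lf 0))) (.nd (.nd (.lf 23) (.lf 165)) (.nd (.lf 64) (.lf 0)))) (.nd (.nd (.nd (.lf 14) (.lf 125)) (.nd (.lf 132) (.lf 0))) (.nd (.nd (.lf 154) (.lf 0)) (.nd (.lf 75) (.lf 0))))))

/-- table part -/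
def pvT_12 : Tr :=
  .nd (.nd (.nd (.nd (.nd (.nd (.lf 77) (.lf 107)) (.nd (.lf 113) (.lf 0))) (.nd (.nd (.lf 17) (.lf 162)) (.nd (.lf 56) (.lf 0)))) (.nd (.nd (.nd (.lf 88) (.lf 133)) (.nd (.lf 103) (.lf 0))) (.nd (.nd (.lf 159) (.lf 0)) (.nd (.lf 156) (.lf 0))))) (.nd (.nd (.nd (.nd (.lf 49) (.lf 100)) (.nd (.lf 41) (.lf 0))) (.nd (.nd (.lf 22) (.lf 164)) (.nd (.lf 108) (.lf 0)))) (.nd (.nd (.nd (.lf 13) (.lf 158)) (.nd (.lf 94) (.lf 0))) (.nd (.nd (.lf 48) (.lf 0)) (.nd (.lf 73) (.lf 0)))))) (.nd (.nd (.nd (.nd (.nd (.lf 128) (.lf 130)) (.nd (.lf 39) (.lf 0))) (.nd (.nd (.lf 20) (.lf 175)) (.nd (.lf 58) (.lf 0)))) (.nd (.nd (.nd (.lf 117) (.lf 119)) (.nd (.lf 124) (.lf 0))) (.nd (.nd (.lf 172) (.lf 0)) (.nd (.lf 149) (.lf 0))))) (.nd (.nd (.nd (.nd (.lf 93) (.lf 118)) (.nd (.lf 143) (.lf 0))) (.nd (.nd (.lf 43) (.lf 170)) (.nd (.lf 127) (.lf 0)))) (.nd (.nd (.nd (.lf 15) (.lf 134)) (.nd (.lf 54) (.lf 0)))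 (.nd (.nd (.lf 150) (.lf 0)) (.nd (.lf 76) (.lf 0))))))

/-- table part -/
def pvT_13 : Tr :=
  .nd pvT_11 pvT_12

/-- table part -/
def pvT_14 : Tr :=
  .nd pvT_10 pvT_13

/-- table part -/
def pvT_15 : Tr :=
  .nd pvT_7 pvT_14

/-- table -/
def pvT : Tr :=
  pvT_15

/-- table part -/
def parT_1 : Tr :=
  .nd (.nd (.nd (.nd (.nd (.nd (.lf 0) (.lf 157)) (.nd (.lf 69) (.lf 0))) (.nd (.nd (.lf 32) (.lf 273)) (.nd (.lf 110) (.lf 0)))) (.nd (.nd (.nd (.lf 15) (.lf 202)) (.nd (.lf 89) (.lf 0))) (.nd (.nd (.lf 51) (.lf 0)) (.nd (.lf 133) (.lf 0))))) (.nd (.nd (.nd (.nd (.lf 7) (.lf 178)) (.nd (.lf 80) (.lf 0))) (.nd (.nd (.lf 42) (.lf 302)) (.nd (.lf 118) (.lf 0)))) (.nd (.nd (.nd (.lf 23) (.lf 241)) (.nd (.lf 100) (.lf 0))) (.nd (.nd (.lf 61) (.lf 0)) (.nd (.lf 143) (.lf 0)))))) (.nd (.nd (.nd (.nd (.nd (.lf 3) (.lf 167)) (.nd (.lf 76) (.lf 0))) (.nd (.nd (.lf 38) (.lf 279)) (.nd (.lf 114) (.lf 0)))) (.nd (.nd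 (.nd (.lf 19) (.lf 229)) (.nd (.lf 93) (.lf 0))) (.nd (.nd (.lf 57) (.lf 0)) (.nd (.lf 137) (.lf 0))))) (.nd (.nd (.nd (.nd (.lf 11) (.lf 193)) (.nd (.lf 84) (.lf 0))) (.nd (.nd (.lf 46) (.lf 328)) (.nd (.lf 127) (.lf 0)))) (.nd (.nd (.nd (.lf 28) (.lf 250)) (.nd (.lf 105) (.lf 0))) (.nd (.nd (.lf 65) (.lf 0)) (.nd (.lf 148) (.lf 0))))))

/-- table part -/
def parT_2 : Tr :=
  .nd (.nd (.nd (.nd (.nd (.nd (.lf 1) (.lf 161)) (.nd (.lf 73) (.lf 0))) (.nd (.nd (.lf 34) (.lf 275)) (.nd (.lf 112) (.lf 0)))) (.nd (.nd (.nd (.lf 17) (.lf 226)) (.nd (.lf 91) (.lf 0))) (.nd (.nd (.lf 55) (.lf 0)) (.nd (.lf 135) (.lf 0))))) (.nd (.nd (.nd (.nd (.lf 9) (.lf 182)) (.nd (.lf 82) (.lf 0))) (.nd (.nd (.lf 44) (.lf 321)) (.nd (.lf 123) (.lf 0)))) (.nd (.nd (.nd (.lf 25) (.lf 244)) (.nd (.lf 102) (.lf 0))) (.nd (.nd (.lf 63) (.lf 0)) (.nd (.lf 146) (.lf 0)))))) (.nd (.nd (.nd (.nd (.nd (.lf 5) (.lf 172)) (.nd (.lf 78) (.lf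 0))) (.nd (.nd (.lf 40) (.lf 286)) (.nd (.lf 116) (.lf 0)))) (.nd (.nd (.nd (.lf 21) (.lf 231)) (.nd (.lf 96) (.lf 0))) (.nd (.nd (.lf 59) (.lf 0)) (.nd (.lf 141) (.lf 0))))) (.nd (.nd (.nd (.nd (.lf 13) (.lf 199)) (.nd (.lf 86) (.lf 0))) (.nd (.nd (.lf 49) (.lf 334)) (.nd (.lf 131) (.lf 0)))) (.nd (.nd (.nd (.lf 30) (.lf 266)) (.nd (.lf 108) (.lf 0))) (.nd (.nd (.lf 67) (.lf 0)) (.nd (.lf 152) (.lf 0))))))

/-- table part -/
def parT_3 : Tr :=
  .nd parT_1 parT_2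

/-- table part -/
def parT_4 : Tr :=
  .nd (.nd (.nd (.nd (.nd (.nd (.lf 0) (.lf 158)) (.nd (.lf 70) (.lf 0))) (.nd (.nd (.lf 33) (.lf 274)) (.nd (.lf 111) (.lf 0)))) (.nd (.nd (.nd (.lf 16) (.lf 210)) (.nd (.lf 90) (.lf 0))) (.nd (.nd (.lf 54) (.lf 0)) (.nd (.lf 134) (.lf 0))))) (.nd (.nd (.nd (.nd (.lf 8) (.lf 181)) (.nd (.lf 81) (.lf 0))) (.nd (.nd (.lf 43) (.lf 320)) (.nd (.lf 119) (.lf 0)))) (.nd (.nd (.nd (.lf 24) (.lf 243)) (.nd (.lf 101) (.lf 0))) (.nd (.nd (.lf 62) (.lf 0)) (.nd (.lf 145) (.lf 0)))))) (.nd (.nd (.nd (.nd (.nd (.lf 4) (.lf 169)) (.nd (.lf 77) (.lf 0))) (.nd (.nd (.lf 39) (.lf 283)) (.nd (.lf 115) (.lf 0)))) (.nd (.nd (.nd (.lf 20) (.lf 230)) (.nd (.lf 95) (.lf 0))) (.nd (.nd (.lf 58) (.lf 0)) (.nd (.lf 138) (.lf 0))))) (.nd (.nd (.nd (.nd (.lf 12) (.lf 195)) (.nd (.lf 85) (.lf 0))) (.nd (.nd (.lf 47) (.lf 330)) (.nd (.lf 129) (.lf 0)))) (.nd (.nd (.nd (.lf 29) (.lf 251)) (.nd (.lf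 106) (.lf 0))) (.nd (.nd (.lf 66) (.lf 0)) (.nd (.lf 151) (.lf 0))))))

/-- table part -/
def parT_5 : Tr :=
  .nd (.nd (.nd (.nd (.nd (.nd (.lf 2) (.lf 166)) (.nd (.lf 74) (.lf 0))) (.nd (.nd (.lf 35) (.lf 278)) (.nd (.lf 113) (.lf 0)))) (.nd (.nd (.nd (.lf 18) (.lf 228)) (.nd (.lf 92) (.lf 0))) (.nd (.nd (.lf 56) (.lf 0)) (.nd (.lf 136) (.lf 0))))) (.nd (.nd (.nd (.nd (.lf 10) (.lf 184)) (.nd (.lf 83) (.lf 0))) (.nd (.nd (.lf 45) (.lf 322)) (.nd (.lf 124) (.lf 0)))) (.nd (.nd (.nd (.lf 27) (.lf 246)) (.nd (.lf 104) (.lf 0))) (.nd (.nd (.lf 64) (.lf 0)) (.nd (.lf 147) (.lf 0)))))) (.nd (.nd (.nd (.nd (.nd (.lf 6) (.lf 176)) (.nd (.lf 79) (.lf 0))) (.nd (.nd (.lf 41) (.lf 290)) (.nd (.lf 117) (.lf 0)))) (.nd (.nd (.nd (.lf 22) (.lf 239)) (.nd (.lf 98) (.lf 0))) (.nd (.nd (.lf 60) (.lf 0)) (.nd (.lf 142) (.lf 0))))) (.nd (.nd (.nd (.nd (.lf 14) (.lf 200)) (.nd (.lf 88) (.lf 0))) (.nd (.nd (.lf 50) (.lf 340))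 (.nd (.lf 132) (.lf 0)))) (.nd (.nd (.nd (.lf 31) (.lf 269)) (.nd (.lf 109) (.lf 0))) (.nd (.nd (.lf 68) (.lf 0)) (.nd (.lf 153) (.lf 0))))))

/-- table part -/
def parT_6 : Tr :=
  .nd parT_4 parT_5

/-- table part -/
def parT_7 : Tr :=
  .nd parT_3 parT_6

/-- table -/
def parT : Tr :=
  parT_7

/-- table part -/
def fmT_1 : Tr :=
  .nd (.nd (.nd (.nd (.nd (.nd (.lf 0) (.lf 39402008544937061986170673885634996304820366697340710849524120472071408461795337989702674280026295953732952016289797)) (.nd (.lf 1302495049391121430280843063340116100234006010770453498523984171142773422944516042306762843201350652338009359690068009466221166500429955075) (.lf 0))) (.nd (.nd (.lf 0) (.lf 0)) (.nd (.lf 55453398509808354537351851107763300356198731080237711891724561557595057507204857316462273457517047718913491872565724216288394346501) (.lf 0)))) (.nd (.nd (.nd (.lf 0) (.lf 1302495071572478983247361939955686859484918130732315632941992604944126090934271973847829072043125104032316679044568827171415240926484758532))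 (.nd (.lf 275814059814559573886890667938630035982440759847031710923715357335514153472819306954722081480705649468749581599637505) (.lf 0))) (.nd (.nd (.lf 0) (.lf 0)) (.nd (.lf 2348543562662166274379176428257449254597411135055792906472707989944701536284990234363017486121028955372781575) (.lf 0))))) (.nd (.nd (.nd (.nd (.lf 0) (.lf 186070757782391130969751644341144243416704646256776087199456599659294048427198468972001440854941508190709212716908707834844332038299844610)) (.nd (.lf 1302495005028406985403655894303756208528580443908563232192805815092222834947090911447747377464539860576956102629747409222001290121582739456) (.lf 0))) (.nd (.nd (.lf 0) (.lf 33272040295785591056434912463791626471091373852858070648421312277929526021594328173015224760921200154340335835130351216155623948288)) (.nd (.lf 1302495005028406324347923516108775421567962917973352618941305756474844648598119289742974345385415004587129062288561629272300828828796715015)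 (.lf 0)))) (.nd (.nd (.nd (.lf 186070713419675363980902708879143720228434974211883279522493385626879659455399974730555126564804204753936869432464910283281377953528676357) (.lf 43939714766717699443828555383456885140295659334679358603271)) (.nd (.lf 0) (.lf 0))) (.nd (.nd (.lf 0) (.lf 0)) (.nd (.lf 1116424313790088513333776095903517711830550683197134495087356164485225745194328505049834852681552053221639341794421376115583870010017185792) (.lf 0)))))) (.nd (.nd (.nd (.nd (.nd (.lf 0) (.lf 186070713419679991372447828565718218820884801565340642501050385371520178983041155391560111902550180865820833339317670767692317009775689730)) (.nd (.lf 0) (.lf 0))) (.nd (.nd (.lf 1302495071572478983247480145990715841001971800447839444021662958495570168731712363523312002058849268604104041420764536989441364011325063168) (.lf 0)) (.nd (.lf 0) (.lf 0)))) (.nd (.nd (.nd (.lf 0) (.lf 1302495071572478983247440743968079648443342688812514925523218873161549040553060474393818648560194191100695882541592574902094978176537067521))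 (.nd (.lf 12367929558760981975642888214052554281796836570739066796900197841275715584) (.lf 0))) (.nd (.nd (.lf 0) (.lf 0)) (.nd (.lf 39402008544938041874445314480314688624276891686445763056176960915693098977987009034796194164064133559244652604817411) (.lf 0))))) (.nd (.nd (.nd (.nd (.lf 0) (.lf 930353600370413810408881579286214965604973415688052347398025731064834696402273065197186543825528656208866751366925801052944540601696649220)) (.nd (.lf 0) (.lf 0))) (.nd (.nd (.lf 0) (.lf 11090679437539267630582543339443386457970714355610840640418988682288860138910802860425204262314329321645013460013937228773192630273)) (.nd (.lf 11090678776483259438313656736712318860131861064663313942641359360463287114004803656822020003039316132229083643979026691061203337218) (.lf 0)))) (.nd (.nd (.nd (.lf 0) (.lf 372141493383423386860889223549431328060914649821825793905216210326214101074104162454975906008743060761339059916281997203662967439441788931))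 (.nd (.lf 0) (.lf 0))) (.nd (.nd (.lf 1302495038300442653797426017006370869930481405929894528861642032298516747680771296702205043402921915294448123281348652222463212650554720261) (.lf 0)) (.nd (.lf 22181358214022487666875912425059977660262539912674018648027541629773609361466972022876837110050717966011694833624036659223720886273) (.lf 0))))))

/-- table part -/
def fmT_2 : Tr :=
  .nd (.nd (.nd (.nd (.nd (.nd (.lf 0) (.lf 1302495005028407646459861096605973325398578983515431778427553846351786921257041489697884170272432253083841719924677442293998947043635101702)) (.nd (.lf 0) (.lf 0))) (.nd (.nd (.lf 0) (.lf 1116424280518052183884037182975789524201095915891648407389855201419161396836858872323408188645628047141273424603511922355434489045990768640)) (.nd (.lf 11090678776483259438313656736572334813745748301503266300681918322458485231222502492159897624416558312389564843845614287315896631296) (.lf 0)))) (.nd (.nd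 (.nd (.lf 22181357552966558278635858410206655739759487221863629480478611856939008339705734112232363918073403395967643104658542243052076924930) (.lf 1302495049391122091336851255597259989211300147465783592073236185609930068599478494321999165267926120643777022159453704256225102151863500801)) (.nd (.lf 11090683403875316784099572703916750829651617586229649802501790773351806758960266268707435457510626236690197953254937015186477809670) (.lf 0))) (.nd (.nd (.lf 0) (.lf 0)) (.nd (.lf 0) (.lf 0))))) (.nd (.nd (.nd (.nd (.lf 0) (.lf 1302495016119086422942962926883101771980099809965407896905921855553048643592469098482934840596839865597661013798532122210863455413091696640)) (.nd (.lf 0) (.lf 0))) (.nd (.nd (.lf 0) (.lf 0)) (.nd (.lf 186070779963748022880301730724555849811613907433013314964742354029046157815923100806392029782959724382570119850077674232537995990228008965) (.lf 0)))) (.nd (.nd (.nd (.lf 77634751435383091882255411715440246482096168463936621337508872743779963775615368165519044652943961487388225326683372013656234524679)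 (.lf 1302495071572478983247440743968079649423231021859004124031332004502749601551596897245865573624392916611706428740769447758366545601770815491)) (.nd (.lf 77634751435382816068195597156006343696220238110522864104773428257209396618557517445119283370917237414722738827514570301141201977351) (.lf 0))) (.nd (.nd (.lf 0) (.lf 0)) (.nd (.lf 0) (.lf 0)))))) (.nd (.nd (.nd (.nd (.nd (.lf 0) (.lf 372141482292745271433559173471131521176354090123346248786277734181507855437826279991821705464965240913544755448099095366988453338639499265)) (.nd (.lf 1302495071572478983247283135947991155692041239107894306907961119507968596211865453652630459026934488907127827295082374784141275203060629510) (.lf 0))) (.nd (.nd (.lf 0) (.lf 186070746691716320822462555560306593352595644846407480188368732975734433581949213797080024712471424916321163291966404535822851892907606019)) (.nd (.lf 186070713419675363980626894819329160794532188335953423432061490990243657757029868371504908982723472783555205531204141550984858016925351936)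 (.lf 0)))) (.nd (.nd (.nd (.lf 0) (.lf 930353611461093247948346219899740277444421268859268415724275661416557827765561458719164179146028196548031107363002507027467464611870015492)) (.nd (.lf 0) (.lf 0))) (.nd (.nd (.lf 0) (.lf 0)) (.nd (.lf 1302495060481800206764023697631985876536932592134256524807905481798674591099159610890863863341983483747733004217931518511990900461452394501) (.lf 0))))) (.nd (.nd (.nd (.nd (.lf 0) (.lf 186070713419675363980902708876795177645661140983993301602467638800493892070794817731924652631898468025113902623753454422642187816212103174)) (.nd (.lf 22181357552966518876627313473144669627491496603006710458012905162593141067477978328946257871538867644655988705650591378620882616321) (.lf 0))) (.nd (.nd (.lf 0) (.lf 186070746691716320822226143511385513563452804466357226228645930246063523713175541693963298272149039190473451226076212462356078018416345088)) (.nd (.lf 186070735601033578003390375740964890771657968153570533891436116638645094366252320036893557928724195165913374597071206956949279021576749063)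 (.lf 0)))) (.nd (.nd (.nd (.lf 0) (.lf 22181361519302528628163980412669206323477583440999770154519011143029339345008315980073058363251115542361206881775608447130073563139)) (.nd (.lf 1302495005028406324347844712094034090306732669499685029156212296511403315977168089646979988158569499770653950109762479227700761415915667460) (.lf 0))) (.nd (.nd (.lf 0) (.lf 0)) (.nd (.lf 1302495071572478983247480145976624585505328801080506041703374305413897890386488185110968725844971207487045964084842172502124171599852601348) (.lf 0))))))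

/-- table part -/
def fmT_3 : Tr :=
  .nd fmT_1 fmT_2

/-- table part -/
def fmT_4 : Tr :=
  .nd (.nd (.nd (.nd (.nd (.nd (.lf 0) (.lf 1766847064778384329583297500742918515827483896875618958121606201292619776)) (.nd (.lf 186070735601037544338927303193880925094679544908398759031629939426105256559905120023079501797122528242272534430613263032454293541537972225) (.lf 0))) (.nd (.nd (.lf 0) (.lf 0)) (.nd (.lf 186070713419679991372644838596700191216946196765842852539785013431332666913931247546088171404243769323858674818240672146395981198812774405) (.lf 0)))) (.nd (.nd (.nd (.lf 0) (.lf 0)) (.nd (.lf 1302495060481800206764220707662967848932993987334754756260778474336660894156662462811631827425238071112575853785565235810098655021011828743) (.lf 0))) (.nd (.nd (.lf 0) (.lf 0)) (.nd (.lf 0) (.lf 0))))) (.nd (.nd (.nd (.nd (.lf 0) (.lf 0)) (.nd (.lf 0) (.lf 0))) (.nd (.nd (.lf 0) (.lf 1302495038300443314853631219275708391621534613392797058633359355917946403725368998227032926037089732361743620790816146189294594582789488644))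 (.nd (.lf 0) (.lf 0)))) (.nd (.nd (.nd (.lf 0) (.lf 744282898041420528191436878038278632640498701053144411939270066705292872910315786255025009723257339146907957394505842555213575147086675969)) (.nd (.lf 0) (.lf 0))) (.nd (.nd (.lf 0) (.lf 0)) (.nd (.lf 558212173531066387727550544909989820439179357083522786454820920618349885339478553913663459495361795667657093703545833073186059167681478659) (.lf 0)))))) (.nd (.nd (.nd (.nd (.nd (.lf 0) (.lf 0)) (.nd (.lf 0) (.lf 0))) (.nd (.nd (.lf 0) (.lf 0)) (.nd (.lf 0) (.lf 0)))) (.nd (.nd (.nd (.lf 0) (.lf 186070724510354140464162147178709202284015121636780912013807265078057844604807149196666598332670062301089989602795067201311069124654268416)) (.nd (.lf 58405898994725247433419283136476938992287277860822504944148990956345317825774037419822858371073) (.lf 0))) (.nd (.nd (.lf 0) (.lf 0)) (.nd (.lf 39402008544937061986112267989624210624059541490901046916994004833566506588568758698810639369548475892755858649513991)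 (.lf 0))))) (.nd (.nd (.nd (.nd (.lf 55453393882416336593579177162506434014224622104293424486565306756469682735613665130702912686980254397538882627008435485344251510786) (.lf 1302495049391121430280882465346312493873314053212374853155377690924083976145507842980709481945904170384960985510277112218911861467569455107)) (.nd (.lf 29642774844752946028434172162224104410437116074403984394101141507996086024798208) (.lf 0))) (.nd (.nd (.lf 0) (.lf 11090683403875277382093376310417426883658008630416933136030434784678343680800431950441214974219030242013363789162241715680042811398)) (.nd (.lf 11090683403875040970056197942562264884714619421261635193866178731378935636475012480258771403110208517597191831468080805707675336710) (.lf 0)))) (.nd (.nd (.nd (.lf 0) (.lf 930353600370413149353109799080340699139580049048969911315101806549668349389529069221193711891984564478851490304662125393105446772831944708)) (.nd (.lf 372141437930030165500521420207110405535807835275285810863758972933711921631907380666386896867178348699507177054672637286482842681130090501)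 (.lf 0))) (.nd (.nd (.lf 11090678776483259438313656736572334813745748301503473800105831593185996562096197866599622808890778993681667037330143110248020312065) (.lf 0)) (.nd (.lf 0) (.lf 0))))))

/-- table part -/
def fmT_5 : Tr :=
  .nd (.nd (.nd (.nd (.nd (.nd (.lf 0) (.lf 4627391939139772023869212310950033356091700712859131525459425995502282419080715540354804982065583011595663698758144505151488)) (.nd (.lf 0) (.lf 0))) (.nd (.nd (.lf 0) (.lf 186070757782390469913743452091045981207843667854928364482645790071011714887579514476050635821562888364360825739160580759361902052118626309)) (.nd (.lf 16439798079416832595229845440180227698124865518095266840831739993937149826214056714074895133081007185394139137) (.lf 0)))) (.nd (.nd (.nd (.lf 0) (.lf 16439798079416832595229348116943817911482710662408616025388359491746426158187333553192687972795979566688501766)) (.nd (.lf 0) (.lf 0))) (.nd (.nd (.lf 0) (.lf 0)) (.nd (.lf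 0) (.lf 0))))) (.nd (.nd (.nd (.nd (.lf 0) (.lf 0)) (.nd (.lf 44362715105933313567314441505723242040858923062103586025688843550265083998157277524130219166449312502644357518826964797001346056197) (.lf 0))) (.nd (.nd (.lf 0) (.lf 1302495071572478983247204331933249824990747134460179482462332881873478427504538626590865210862743069543855691235452702569300454190163689472)) (.nd (.lf 77634752096438784858458287363418294728358618303770967602500241478510593322062598145118367544320870517800668955433913703542990831617) (.lf 0)))) (.nd (.nd (.nd (.lf 0) (.lf 22181357552966794690670688234499155580772200094919439136796474939214221341456362160511351296501431470283439468146368332841177055236)) (.nd (.lf 0) (.lf 0))) (.nd (.nd (.lf 0) (.lf 0)) (.nd (.lf 0) (.lf 0)))))) (.nd (.nd (.nd (.nd (.nd (.lf 0) (.lf 372141471202065833894449150918070845795252747815301124655674556228496222738352009743440745202459344525421294815521637756918541153426472965))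 (.nd (.lf 0) (.lf 0))) (.nd (.nd (.lf 0) (.lf 0)) (.nd (.lf 55453394543472541795869651566462563387692041755574694459985968716151223815542649936865217283842895757095309634700978868291140321287) (.lf 0)))) (.nd (.nd (.nd (.lf 0) (.lf 0)) (.nd (.lf 44362715105933116557271716820413311479518975438373850351631653883596717379462833077451275807229226629981089032080836214784947912710) (.lf 0))) (.nd (.nd (.lf 0) (.lf 0)) (.nd (.lf 186070757782390469913704050082501044145857555586936750979076091370584263174158117886447764089903482119449960709218998896431195890003214339) (.lf 0))))) (.nd (.nd (.nd (.nd (.lf 0) (.lf 0)) (.nd (.lf 0) (.lf 0))) (.nd (.nd (.lf 737186041679900681029845350498169314371367759045200899234164899840) (.lf 744282909132098643618845732124274144157840380630525210331803345891526153428752531498842452013003358649169350924400039748391320996817141762)) (.nd (.lf 186070724510354801520012731411067513344460150515413271436400624575957491248817872873220441125447812281493500052610176471552489741900316675)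 (.lf 0)))) (.nd (.nd (.nd (.lf 0) (.lf 4627391781531742541205989930062625168776753013996206466101094922426737221614337999143255024485428334769005181066564830494727)) (.nd (.lf 139984104792011757885087575954810903859541835864443456753754262959227948294077884860342263152333815808) (.lf 0))) (.nd (.nd (.lf 139984046386112763159840142535527767382602843577165595931249318810236991948760059086304843329475444736) (.lf 0)) (.nd (.lf 372141437930034131836334161705749743796089198538703029927668461574115640848382320869053089495803318875691627514286838568407369614043906052) (.lf 0))))))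

/-- table part -/
def fmT_6 : Tr :=
  .nd fmT_4 fmT_5

/-- table part -/
def fmT_7 : Tr :=
  .nd fmT_3 fmT_6

/-- table part -/
def fmT_8 : Tr :=
  .nd (.nd (.nd (.nd (.nd (.nd (.lf 0) (.lf 3481262862367930408358297936066951016271923928641246542911138596960107021268061943496704)) (.nd (.lf 0) (.lf 0))) (.nd (.nd (.lf 0) (.lf 0)) (.nd (.lf 0) (.lf 0)))) (.nd (.nd (.nd (.lf 0) (.lf 11090679437539504042619721705338771799164827013432001164311850471788799252734496664015113967117738752436197982583458653036915720194)) (.nd (.lf 0) (.lf 0))) (.nd (.nd (.lf 186070768873069246396963488396157780718192369332684555159076339491015676988429886833175384497621037858523614082971022688498426168068800519) (.lf 0)) (.nd (.lf 1302495049391121430280961269346962570757773665063907808249313063737754574565573137556078541480489404359259417632258839165564324064809451526) (.lf 0))))) (.nd (.nd (.nd (.nd (.lf 0) (.lf 0)) (.nd (.lf 0) (.lf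 0))) (.nd (.nd (.lf 0) (.lf 22181362180358300408367506136551825856888775401839313351332371638090411170959497545151250231736011338774319231662113783414758834182)) (.nd (.lf 1302495016119089728222964486160276278964680127888490736003770237109719683380170542915429264551598790778555222828424162035185459259269709825) (.lf 0)))) (.nd (.nd (.nd (.lf 0) (.lf 22300745198530623141535718272648361505980416)) (.nd (.lf 33272040956841638650698252747248132895170505438380009820032249385881563473222649031307281757827627055884459319524367995900715335686) (.lf 0))) (.nd (.nd (.lf 0) (.lf 0)) (.nd (.lf 0) (.lf 0)))))) (.nd (.nd (.nd (.nd (.nd (.lf 0) (.lf 14091256476531332413829066028475111649220859523611137212139524888203677495491587606725331437097745035447762951)) (.nd (.lf 0) (.lf 0))) (.nd (.nd (.lf 0) (.lf 1302495027209765199426222365201455593018062099954866149840984453564279136249982038637476640653744070779041574092897770394241095750473744388))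 (.nd (.lf 744282875860059008889144661934962012674304384095058627883465827790677499355281152556166822818899292723101101945010480725447483140404674563) (.lf 0)))) (.nd (.nd (.nd (.lf 0) (.lf 22181357552966755288664491840019943301732098956659072309159385903849034915722018868516758012762492858302801003539793012986365345799)) (.nd (.lf 0) (.lf 0))) (.nd (.nd (.lf 0) (.lf 0)) (.nd (.lf 558212206803102056121281265597013917170756753539309277605682333982340501260266147969994990091933581645768492290695510782218095704584224770) (.lf 0))))) (.nd (.nd (.nd (.nd (.lf 0) (.lf 77634751435382934274218883424609528199796320983820631457664233048297702637263268913837953731820204480125056051520766963237148164102)) (.nd (.lf 0) (.lf 0))) (.nd (.nd (.lf 0) (.lf 11090679437539307032588739733362662584841163866788834717831914063600306008141635161736708273944342520408851875565756598697339125764)) (.nd (.lf 8343699359066055009355553539724812947666814540455674882605631280555545803830627148527195652096)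 (.lf 0)))) (.nd (.nd (.nd (.lf 0) (.lf 558212195712419974358217278044210272638352078916149821733593079367647878606932552162350677279696521567746845682700630501514994925583728640)) (.nd (.lf 186070713419675363980705698831721949892940851208163479251754301727337365510107324423502353989534521394171144053590360688474164483904765955) (.lf 0))) (.nd (.nd (.lf 1302494993937727547864664077795118684995628104227601333498591354298228641005428997429215800762191708848198398424032671455278945615036284929) (.lf 0)) (.nd (.lf 1302495027209764538370332378972295057669516020155685779185463061159029890957919009211448229293894616648159241533685824397795833790918033415) (.lf 0))))))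

/-- table part -/
def fmT_9 : Tr :=
  .nd (.nd (.nd (.nd (.nd (.nd (.lf 0) (.lf 186070779963748683936428129007334549274946199063944619742877319487579978441431995180018333847520323259706614131063559738588998790457327622)) (.nd (.lf 0) (.lf 0))) (.nd (.nd (.lf 0) (.lf 930353644733128255286147552337316188711613327471921607686946222439935010880451551245127626498716428656897324772648550788364674155283480578)) (.nd (.lf 29642774844752946028434172162224104410437116074403984394101141506025761187823616) (.lf 0)))) (.nd (.nd (.nd (.lf 186070713419675363980705698836419034918504412871934163823078124982841432100289754802229158911499128674559782561871548125346825799039188994) (.lf 558212140259026091942038292492167230631541014079822248401335579655557594166694157620981245672888973063847580797350660984584142573004652545)) (.nd (.lf 4627392057345783567424761642182677979804129416308143428251405428644513980828824012797434971966556708708068301711587858710528)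 (.lf 0))) (.nd (.nd (.lf 0) (.lf 0)) (.nd (.lf 0) (.lf 0))))) (.nd (.nd (.nd (.nd (.lf 0) (.lf 11090678776483259438316005280134996971676428616188734793142449102407629253346479705990691091456364015700698258414954867195929165830)) (.nd (.lf 661055968790248598951915308032771039828404682964281219284648795274405791236311345825189210439715284847591212025023358304256) (.lf 0))) (.nd (.nd (.lf 0) (.lf 186070757782394436249477389581989616935104615374834639413232999374523517731241822762204604027406773956037440557255443117534215265478246407)) (.nd (.lf 22181357552966558278633509867623881906531597741267018000100304692171582916536556978440770901972060052982980420434849474238471995397) (.lf 0)))) (.nd (.nd (.nd (.lf 66544072658899832443941754978867911668350420659756413589964528059027556086180732429188835203177344963560487853275314777246306140160) (.lf 2348542582773833227889480596789337027375682548908319870707290971532209025114608443463698998384768703031934976))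 (.nd (.lf 0) (.lf 0))) (.nd (.nd (.lf 0) (.lf 0)) (.nd (.lf 156105216389714361990750027908538530541862912) (.lf 0)))))) (.nd (.nd (.nd (.nd (.nd (.lf 0) (.lf 0)) (.nd (.lf 0) (.lf 0))) (.nd (.nd (.lf 0) (.lf 372141504474105468624189623134716254303045332229803669003932043588360969936391015883861042704356085191533994200893908625879829498136887298)) (.nd (.lf 372141437930029504444552629958511452640611469457756286627667181974960414499646091183372297106367449048715011653576244522755619092695089154) (.lf 0)))) (.nd (.nd (.nd (.lf 0) (.lf 930353611461093247948385621908285214366423334741146768744650236683068416108443194203475727719355466834024083225506111019778126183571390464)) (.nd (.lf 6277101735386680763835789423207666416102355444464034512896) (.lf 0))) (.nd (.nd (.lf 0) (.lf 0)) (.nd (.lf 1116424291608730960367060209238176639381402389075947664814402080280916483992146292480573539298067218656202524974591574090768747183810281472)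 (.lf 0))))) (.nd (.nd (.nd (.nd (.lf 0) (.lf 275814057466016851128952648039878170376505035405481367736515188257519544764558125484292553558074130301222358267985927)) (.nd (.lf 0) (.lf 0))) (.nd (.nd (.lf 0) (.lf 186070713419678669260746660119789938202089637885679652841079595188434936762542976857482930148163330457594614155493790942404530359809081345)) (.nd (.lf 372141504474106129679922001336742669011984357848685707985040715346282689517206374568374689208323191518282345062865281066455620284273655811) (.lf 0)))) (.nd (.nd (.nd (.lf 0) (.lf 186070713419679991372408426564218909367236084189012178104982662913115432695647203392264332014663220334827485784384366278164410054091997186)) (.nd (.lf 186070746691716320822304947526126845384619338608869669415587873091698656695441871159662522643725625421579591276609808520285460016882778117) (.lf 0))) (.nd (.nd (.lf 497323236409786642155382248146820840100456150797347717440463976893159497012533375533056)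 (.lf 0)) (.nd (.lf 1302495071572478983247480145974276043902443300899105262291550618265614872186641152119397370952269549853966755826853876207102673431251910660) (.lf 0))))))

/-- table part -/
def fmT_10 : Tr :=
  .nd fmT_8 fmT_9

/-- table part -/
def fmT_11 : Tr :=
  .nd (.nd (.nd (.nd (.nd (.nd (.lf 0) (.lf 372141437930029504444513227968754856240816023012884993807658438685064762328725537322830722432513031167410588644321888382460111954364071937)) (.nd (.lf 0) (.lf 0))) (.nd (.nd (.lf 0) (.lf 372141460111391684802971244351652400378395663150499566452498463457899455802615030801806900601975410680988852476358452187792495151249620997)) (.nd (.lf 0) (.lf 0)))) (.nd (.nd (.nd (.lf 0) (.lf 186070713419675363980902708879143720228434974211883776845759438188366567573051934723833039553863957542810685915325152653636486467923476481)) (.nd (.lf 105312291668557186697918027683670432318895095400549111254310977536) (.lf 0)))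 (.nd (.nd (.lf 186070757782390469913782854094893833104282113667140022145986138471365961957584411767799587482826822302613174620941216902993548428898729985) (.lf 0)) (.nd (.lf 1302495071572480305359417726471473947733059366441184919101064760704044052963215349730193276281871592399668803473352977217352715065408618501) (.lf 0))))) (.nd (.nd (.nd (.nd (.lf 0) (.lf 0)) (.nd (.lf 0) (.lf 0))) (.nd (.nd (.lf 0) (.lf 33272040295785630458441108858410822854923483267740573755760036446767074410495317999293435519562186080958636237728519028366767030279)) (.nd (.lf 1302495049391121430280685455303587808423399387080415968864146564002163136809337850340359585752288302999902877560906932120953881357784711169) (.lf 0)))) (.nd (.nd (.nd (.lf 0) (.lf 186070791054426799363521767027319106739188775682882511660595258154465826132031708460439365980848796860267519127714865823954469327000829954)) (.nd (.lf 2348542582773833227890972566557851936991654693021926623213581644360664549749685490627572524605965267806191618)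 (.lf 0))) (.nd (.nd (.lf 0) (.lf 0)) (.nd (.lf 0) (.lf 0)))))) (.nd (.nd (.nd (.nd (.nd (.lf 0) (.lf 11090678776483259438316005279155108646973638279423469904145004678381749190506900878092249066408162976478335968291636666710729162752)) (.nd (.lf 374144419156711147060143317175368453031918731001856) (.lf 0))) (.nd (.nd (.lf 55453394543472502393865803714566124941879829600587910202375059044235206896639341847842843293697789960628061365485898412235241291776) (.lf 558212206803102717177289457840066550511423861168587945223350363762958138017933897690534480180052796260278667543371774119390019026358894598)) (.nd (.lf 33272036990505747105203660417128955473375624103111399937436807054103639484660158396306768831540337938068812031709698550363039203335) (.lf 0)))) (.nd (.nd (.nd (.lf 0) (.lf 744282898041417883967522315037686431199974481140954959115106897225113010008263216455712537919544387447526180381739345463512914603278336005))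 (.nd (.lf 1329227995784915872903807060280344576) (.lf 0))) (.nd (.nd (.lf 275814045723304077243891300602243778512471157079844535125837728692615484474600053017721761575506400899348481825570816) (.lf 0)) (.nd (.lf 39402006196394479212279040100143613805079739270465446667948293404245721771497210611414266254884915640806627990306816) (.lf 0))))) (.nd (.nd (.nd (.nd (.lf 0) (.lf 0)) (.nd (.lf 275814059814559433902785875929856090461537399112825190949850224129359181290739475663680052928404289467140528603660293) (.lf 0))) (.nd (.nd (.lf 0) (.lf 22181357552966676484663841764955276234494134917211083065559920896663137403380456502063254100821777159471826014728582146712385093633)) (.nd (.lf 186070735601037544339006107203925171610314316146821831499054494613788187556550994856979553648111119752813458516674354246160171362041200640) (.lf 0)))) (.nd (.nd (.nd (.lf 0) (.lf 2619010934096978029421003220227579171223431117012992))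 (.nd (.lf 186070713419679991372447828572763846569206301249010078937802287702397279082738564471659576183778348393234920370719009002939080423170375682) (.lf 0))) (.nd (.nd (.lf 0) (.lf 0)) (.nd (.lf 0) (.lf 0))))))

/-- table part -/
def fmT_12 : Tr :=
  .nd (.nd (.nd (.nd (.nd (.nd (.lf 0) (.lf 44362715105933037753259324031454886921438772664529909929356279493029419729768489342913147051331443370138087446276831945406256513028)) (.nd (.lf 0) (.lf 0))) (.nd (.nd (.lf 33272040956841599248687359268583261282721113542787971415080161165944576362140080050310595592794535836585683852305684817361116332033) (.lf 11090678776483259438330096534791735751132982942303046510672795398913789971348701111690775729741321602214528276499391761774867906564)) (.nd (.lf 0) (.lf 0)))) (.nd (.nd (.nd (.lf 0) (.lf 1302495027209763877314363588721347563171434154156756470184050045400124430178833779284667877018421975899335654835848822054127571654152290311))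 (.nd (.lf 0) (.lf 0))) (.nd (.nd (.lf 186070713419679991372487230574263155742886809041323482059039895149155989146919915322796188483855037565708834246110716449123419347600015362) (.lf 0)) (.nd (.lf 0) (.lf 0))))) (.nd (.nd (.nd (.nd (.lf 0) (.lf 0)) (.nd (.lf 0) (.lf 0))) (.nd (.nd (.lf 9304595970494411110326649421962412032) (.lf 1302495071572480305359417726487913745812476199036410785955383352882109581409887777238340461263469124979473838643666354500275664986098892803)) (.nd (.lf 11090678776483298840322201673634320926013739417683688517907869948700856557820558392841848402354114964466391348355432596699686633475) (.lf 0)))) (.nd (.nd (.nd (.lf 0) (.lf 1302495038300442653797662429041200694222981246942606904594096707730358662578997825329128734314282136907918347450095359160127450907722907652)) (.nd (.lf 11090680098595236420817051035022147263119936875871987855119206316984682965409548374263610793928230705736322371650018193075997769729)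 (.lf 0))) (.nd (.nd (.lf 0) (.lf 0)) (.nd (.lf 55453394543472541795874348651628111054147820716768273134038953234394886654291597839569889779012849943499611433721916223231772065796) (.lf 0)))))) (.nd (.nd (.nd (.nd (.nd (.lf 0) (.lf 1302495027209768504706026914435905415392632046750066396385195758934110507929297567785755038560438307354021367787062350623729474525563191298)) (.nd (.lf 0) (.lf 0))) (.nd (.nd (.lf 0) (.lf 1302495049391121430280685455305936351006173220308308433400324716974546998811018908632502067909836030712969627681785511921815936510017404933)) (.nd (.lf 186070791054426799363442963031366114880292717151421379395165109013253133862606210780602121350365844946769615485589170461796104748572606465) (.lf 0)))) (.nd (.nd (.nd (.lf 0) (.lf 744282920222776097990206991956323541429898664701023620869357007363292580442880541003761832108625090617799852537231001952781969996971507714)) (.nd (.lf 55453393882416415397591569951464858572304820899551503273332989738681820225988016885215226553748581188165963871873865980866593816577)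 (.lf 0))) (.nd (.nd (.lf 0) (.lf 0)) (.nd (.lf 0) (.lf 0))))) (.nd (.nd (.nd (.nd (.lf 0) (.lf 1116424347062124842783593812857729943635104798366140703025546126119347850082174857920365344219945528272240900322273044851057212927732875271)) (.nd (.lf 66544072658899556629881940420413897215520979504851184487430478604363996710306500459180457243442227210273126905192272157385846423555) (.lf 0))) (.nd (.nd (.lf 0) (.lf 558212217893782154716635892418562879853929653171893003883160766463048888572527567895384448135541650864161255022590482809129261001349267460)) (.nd (.lf 55453393882416336593576828620903548514043221324881778656076693338124052036572555015720769583536273678662539294530210822491360722946) (.lf 0)))) (.nd (.nd (.nd (.lf 0) (.lf 1302495071572478983247440743984519446522759521407742284347246694701307882316567986977116071453494662161287493557915072780153384865185660928)) (.nd (.lf 0) (.lf 0))) (.nd (.nd (.lf 0)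 (.lf 0)) (.nd (.lf 372141493383427353196820171043174425050966955765144621003187749591814772400875316334473147808287530801950656314638265444775562767904014342) (.lf 0))))))

/-- table part -/
def fmT_13 : Tr :=
  .nd fmT_11 fmT_12

/-- table part -/
def fmT_14 : Tr :=
  .nd fmT_10 fmT_13

/-- table part -/
def fmT_15 : Tr :=
  .nd fmT_7 fmT_14

/-- table -/
def fmT : Tr :=
  fmT_15

/-- table part -/
def rkT_1 : Tr :=
  .nd (.nd (.nd (.nd (.nd (.nd (.lf 0) (.lf 50)) (.nd (.lf 117) (.lf 0))) (.nd (.nd (.lf 0) (.lf 0)) (.nd (.lf 129) (.lf 0)))) (.nd (.nd (.nd (.lf 0) (.lf 78)) (.nd (.lf 26) (.lf 0))) (.nd (.nd (.lf 0) (.lf 0)) (.nd (.lf 24) (.lf 0))))) (.nd (.nd (.nd (.nd (.lf 0) (.lf 104)) (.nd (.lf 114) (.lf 0))) (.nd (.nd (.lf 0) (.lf 139)) (.nd (.lf 85) (.lf 0)))) (.nd (.nd (.nd (.lf 55) (.lf 9)) (.nd (.lf 0) (.lf 0))) (.nd (.nd (.lf 0) (.lf 0)) (.nd (.lf 144) (.lf 0)))))) (.nd (.nd (.nd (.nd (.nd (.lf 0)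 (.lf 56)) (.nd (.lf 0) (.lf 0))) (.nd (.nd (.lf 41) (.lf 0)) (.nd (.lf 0) (.lf 0)))) (.nd (.nd (.nd (.lf 0) (.lf 84)) (.nd (.lf 13) (.lf 0))) (.nd (.nd (.lf 0) (.lf 0)) (.nd (.lf 65) (.lf 0))))) (.nd (.nd (.nd (.nd (.lf 0) (.lf 147)) (.nd (.lf 0) (.lf 0))) (.nd (.nd (.lf 0) (.lf 174)) (.nd (.lf 38) (.lf 0)))) (.nd (.nd (.nd (.lf 0) (.lf 122)) (.nd (.lf 0) (.lf 0))) (.nd (.nd (.lf 71) (.lf 0)) (.nd (.lf 92) (.lf 0))))))

/-- table part -/
def rkT_2 : Tr :=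
  .nd (.nd (.nd (.nd (.nd (.nd (.lf 0) (.lf 57)) (.nd (.lf 0) (.lf 0))) (.nd (.nd (.lf 0) (.lf 136)) (.nd (.lf 31) (.lf 0)))) (.nd (.nd (.nd (.lf 39) (.lf 128)) (.nd (.lf 33) (.lf 0))) (.nd (.nd (.lf 0) (.lf 0)) (.nd (.lf 0) (.lf 0))))) (.nd (.nd (.nd (.nd (.lf 0) (.lf 168)) (.nd (.lf 0) (.lf 0))) (.nd (.nd (.lf 0) (.lf 0)) (.nd (.lf 81) (.lf 0)))) (.nd (.nd (.nd (.lf 37) (.lf 157)) (.nd (.lf 36) (.lf 0))) (.nd (.nd (.lf 0) (.lf 0)) (.nd (.lf 0) (.lf 0)))))) (.nd (.nd (.nd (.nd (.nd (.lf 0) (.lf 151)) (.nd (.lf 54) (.lf 0))) (.nd (.nd (.lf 0) (.lf 154)) (.nd (.lf 40) (.lf 0)))) (.nd (.nd (.nd (.lf 0) (.lf 80)) (.nd (.lf 0) (.lf 0))) (.nd (.nd (.lf 0) (.lf 0)) (.nd (.lf 59) (.lf 0))))) (.nd (.nd (.nd (.nd (.lf 0) (.lf 51)) (.nd (.lf 32) (.lf 0))) (.nd (.nd (.lf 0) (.lf 160)) (.nd (.lf 156) (.lf 0)))) (.nd (.nd (.nd (.lf 0) (.lf 101)) (.nd (.lf 162) (.lf 0))) (.nd (.nd (.lf 0) (.lf 0)) (.nd (.lf 74) (.lf 0))))))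

/-- table part -/
def rkT_3 : Tr :=
  .nd rkT_1 rkT_2

/-- table part -/
def rkT_4 : Tr :=
  .nd (.nd (.nd (.nd (.nd (.nd (.lf 0) (.lf 12)) (.nd (.lf 126) (.lf 0))) (.nd (.nd (.lf 0) (.lf 0)) (.nd (.lf 143) (.lf 0)))) (.nd (.nd (.nd (.lf 0) (.lf 0)) (.nd (.lf 46) (.lf 0))) (.nd (.nd (.lf 0) (.lf 0)) (.nd (.lf 0) (.lf 0))))) (.nd (.nd (.nd (.nd (.lf 0) (.lf 0)) (.nd (.lf 0) (.lf 0))) (.nd (.nd (.lf 0) (.lf 130)) (.nd (.lf 0) (.lf 0)))) (.nd (.nd (.nd (.lf 0) (.lf 99)) (.nd (.lf 0) (.lf 0))) (.nd (.nd (.lf 0) (.lf 0)) (.nd (.lf 125) (.lf 0)))))) (.nd (.nd (.nd (.nd (.nd (.lf 0) (.lf 0)) (.nd (.lf 0) (.lf 0))) (.nd (.nd (.lf 0) (.lf 0)) (.nd (.lf 0) (.lf 0)))) (.nd (.nd (.nd (.lf 0) (.lf 159)) (.nd (.lf 19) (.lf 0))) (.nd (.nd (.lf 0) (.lf 0)) (.nd (.lf 27) (.lf 0))))) (.nd (.nd (.nd (.nd (.lf 60) (.lf 166)) (.nd (.lf 15) (.lf 0))) (.nd (.nd (.lf 0) (.lf 150)) (.nd (.lf 94) (.lf 0)))) (.nd (.nd (.nd (.lf 0)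 (.lf 145)) (.nd (.lf 131) (.lf 0))) (.nd (.nd (.lf 34) (.lf 0)) (.nd (.lf 0) (.lf 0))))))

/-- table part -/
def rkT_5 : Tr :=
  .nd (.nd (.nd (.nd (.nd (.nd (.lf 0) (.lf 100)) (.nd (.lf 0) (.lf 0))) (.nd (.nd (.lf 0) (.lf 163)) (.nd (.lf 23) (.lf 0)))) (.nd (.nd (.nd (.lf 0) (.lf 83)) (.nd (.lf 0) (.lf 0))) (.nd (.nd (.lf 0) (.lf 0)) (.nd (.lf 0) (.lf 0))))) (.nd (.nd (.nd (.nd (.lf 0) (.lf 0)) (.nd (.lf 62) (.lf 0))) (.nd (.nd (.lf 0) (.lf 123)) (.nd (.lf 61) (.lf 0)))) (.nd (.nd (.nd (.lf 0) (.lf 75)) (.nd (.lf 0) (.lf 0))) (.nd (.nd (.lf 0) (.lf 0)) (.nd (.lf 0) (.lf 0)))))) (.nd (.nd (.nd (.nd (.nd (.lf 0) (.lf 96)) (.nd (.lf 0) (.lf 0))) (.nd (.nd (.lf 0) (.lf 0)) (.nd (.lf 93) (.lf 0)))) (.nd (.nd (.nd (.lf 0) (.lf 0)) (.nd (.lf 63) (.lf 0))) (.nd (.nd (.lf 0) (.lf 0)) (.nd (.lf 91) (.lf 0))))) (.nd (.nd (.nd (.nd (.lf 0) (.lf 0)) (.nd (.lf 0) (.lf 0))) (.nd (.nd (.lf 11) (.lf 155)) (.nd (.lf 109) (.lf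 0)))) (.nd (.nd (.nd (.lf 0) (.lf 30)) (.nd (.lf 21) (.lf 0))) (.nd (.nd (.lf 20) (.lf 0)) (.nd (.lf 115) (.lf 0))))))

/-- table part -/
def rkT_6 : Tr :=
  .nd rkT_4 rkT_5

/-- table part -/
def rkT_7 : Tr :=
  .nd rkT_3 rkT_6

/-- table part -/
def rkT_8 : Tr :=
  .nd (.nd (.nd (.nd (.nd (.nd (.lf 0) (.lf 17)) (.nd (.lf 0) (.lf 0))) (.nd (.nd (.lf 0) (.lf 0)) (.nd (.lf 0) (.lf 0)))) (.nd (.nd (.nd (.lf 0) (.lf 113)) (.nd (.lf 0) (.lf 0))) (.nd (.nd (.lf 43) (.lf 0)) (.nd (.lf 141) (.lf 0))))) (.nd (.nd (.nd (.nd (.lf 0) (.lf 0)) (.nd (.lf 0) (.lf 0))) (.nd (.nd (.lf 0) (.lf 111)) (.nd (.lf 73) (.lf 0)))) (.nd (.nd (.nd (.lf 0) (.lf 4)) (.nd (.lf 95) (.lf 0))) (.nd (.nd (.lf 0) (.lf 0)) (.nd (.lf 0) (.lf 0)))))) (.nd (.nd (.nd (.nd (.nd (.lf 0) (.lf 135)) (.nd (.lf 0) (.lf 0))) (.nd (.nd (.lf 0) (.lf 171)) (.nd (.lf 158) (.lf 0)))) (.nd (.nd (.nd (.lf 0) (.lf 103)) (.nd (.lf 0) (.lf 0))) (.nd (.nd (.lf 0)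 (.lf 0)) (.nd (.lf 148) (.lf 0))))) (.nd (.nd (.nd (.nd (.lf 0) (.lf 138)) (.nd (.lf 0) (.lf 0))) (.nd (.nd (.lf 0) (.lf 175)) (.nd (.lf 18) (.lf 0)))) (.nd (.nd (.nd (.lf 0) (.lf 97)) (.nd (.lf 132) (.lf 0))) (.nd (.nd (.lf 42) (.lf 0)) (.nd (.lf 66) (.lf 0))))))

/-- table part -/
def rkT_9 : Tr :=
  .nd (.nd (.nd (.nd (.nd (.nd (.lf 0) (.lf 121)) (.nd (.lf 0) (.lf 0))) (.nd (.nd (.lf 0) (.lf 172)) (.nd (.lf 14) (.lf 0)))) (.nd (.nd (.nd (.lf 45) (.lf 118)) (.nd (.lf 29) (.lf 0))) (.nd (.nd (.lf 0) (.lf 0)) (.nd (.lf 0) (.lf 0))))) (.nd (.nd (.nd (.nd (.lf 0) (.lf 165)) (.nd (.lf 28) (.lf 0))) (.nd (.nd (.lf 0) (.lf 170)) (.nd (.lf 69) (.lf 0)))) (.nd (.nd (.nd (.lf 35) (.lf 22)) (.nd (.lf 0) (.lf 0))) (.nd (.nd (.lf 0) (.lf 0)) (.nd (.lf 5) (.lf 0)))))) (.nd (.nd (.nd (.nd (.nd (.lf 0) (.lf 0)) (.nd (.lf 0) (.lf 0))) (.nd (.nd (.lf 0) (.lf 146)) (.nd (.lf 70) (.lf 0)))) (.nd (.nd (.nd (.lf 0) (.lf 98))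 (.nd (.lf 8) (.lf 0))) (.nd (.nd (.lf 0) (.lf 0)) (.nd (.lf 108) (.lf 0))))) (.nd (.nd (.nd (.nd (.lf 0) (.lf 49)) (.nd (.lf 0) (.lf 0))) (.nd (.nd (.lf 0) (.lf 177)) (.nd (.lf 153) (.lf 0)))) (.nd (.nd (.nd (.lf 0) (.lf 90)) (.nd (.lf 149) (.lf 0))) (.nd (.nd (.lf 16) (.lf 0)) (.nd (.lf 87) (.lf 0))))))

/-- table part -/
def rkT_10 : Tr :=
  .nd rkT_8 rkT_9

/-- table part -/
def rkT_11 : Tr :=
  .nd (.nd (.nd (.nd (.nd (.nd (.lf 0) (.lf 86)) (.nd (.lf 0) (.lf 0))) (.nd (.nd (.lf 0) (.lf 88)) (.nd (.lf 0) (.lf 0)))) (.nd (.nd (.nd (.lf 0) (.lf 133)) (.nd (.lf 10) (.lf 0))) (.nd (.nd (.lf 68) (.lf 0)) (.nd (.lf 102) (.lf 0))))) (.nd (.nd (.nd (.nd (.lf 0) (.lf 0)) (.nd (.lf 0) (.lf 0))) (.nd (.nd (.lf 0) (.lf 127)) (.nd (.lf 44) (.lf 0)))) (.nd (.nd (.nd (.lf 0) (.lf 124)) (.nd (.lf 119) (.lf 0))) (.nd (.nd (.lf 0) (.lf 0)) (.nd (.lf 0) (.lf 0)))))) (.nd (.nd (.nd (.nd (.nd (.lf 0) (.lf 82)) (.nd (.lf 6)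 (.lf 0))) (.nd (.nd (.lf 77) (.lf 167)) (.nd (.lf 64) (.lf 0)))) (.nd (.nd (.nd (.lf 0) (.lf 152)) (.nd (.lf 2) (.lf 0))) (.nd (.nd (.lf 107) (.lf 0)) (.nd (.lf 25) (.lf 0))))) (.nd (.nd (.nd (.nd (.lf 0) (.lf 0)) (.nd (.lf 47) (.lf 0))) (.nd (.nd (.lf 0) (.lf 169)) (.nd (.lf 79) (.lf 0)))) (.nd (.nd (.nd (.lf 0) (.lf 7)) (.nd (.lf 134) (.lf 0))) (.nd (.nd (.lf 0) (.lf 0)) (.nd (.lf 0) (.lf 0))))))

/-- table part -/
def rkT_12 : Tr :=
  .nd (.nd (.nd (.nd (.nd (.nd (.lf 0) (.lf 105)) (.nd (.lf 0) (.lf 0))) (.nd (.nd (.lf 137) (.lf 173)) (.nd (.lf 0) (.lf 0)))) (.nd (.nd (.nd (.lf 0) (.lf 72)) (.nd (.lf 0) (.lf 0))) (.nd (.nd (.lf 53) (.lf 0)) (.nd (.lf 0) (.lf 0))))) (.nd (.nd (.nd (.nd (.lf 0) (.lf 0)) (.nd (.lf 0) (.lf 0))) (.nd (.nd (.lf 3) (.lf 58)) (.nd (.lf 52) (.lf 0)))) (.nd (.nd (.nd (.lf 0) (.lf 89)) (.nd (.lf 176) (.lf 0))) (.nd (.nd (.lf 0) (.lf 0)) (.nd (.lf 110) (.lf 0)))))) (.nd (.nd (.nd (.nd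 (.nd (.lf 0) (.lf 120)) (.nd (.lf 0) (.lf 0))) (.nd (.nd (.lf 0) (.lf 142)) (.nd (.lf 76) (.lf 0)))) (.nd (.nd (.nd (.lf 0) (.lf 161)) (.nd (.lf 67) (.lf 0))) (.nd (.nd (.lf 0) (.lf 0)) (.nd (.lf 0) (.lf 0))))) (.nd (.nd (.nd (.nd (.lf 0) (.lf 106)) (.nd (.lf 140) (.lf 0))) (.nd (.nd (.lf 0) (.lf 164)) (.nd (.lf 112) (.lf 0)))) (.nd (.nd (.nd (.lf 0) (.lf 48)) (.nd (.lf 1) (.lf 0))) (.nd (.nd (.lf 0) (.lf 0)) (.nd (.lf 116) (.lf 0))))))

/-- table part -/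
def rkT_13 : Tr :=
  .nd rkT_11 rkT_12

/-- table part -/
def rkT_14 : Tr :=
  .nd rkT_10 rkT_13

/-- table part -/
def rkT_15 : Tr :=
  .nd rkT_7 rkT_14

/-- table -/
def rkT : Tr :=
  rkT_15

/-- table part -/
def jsT_1 : Tr :=
  .nd (.nd (.nd (.nd (.nd (.nd (.lf 0) (.lf 25542)) (.nd (.lf 15294) (.lf 0))) (.nd (.nd (.lf 0) (.lf 0)) (.nd (.lf 17250) (.lf 0)))) (.nd (.nd (.nd (.lf 0) (.lf 2028)) (.nd (.lf 7400) (.lf 0))) (.nd (.nd (.lf 0) (.lf 0)) (.nd (.lf 37058) (.lf 0))))) (.nd (.nd (.nd (.nd (.lf 0) (.lf 36972)) (.nd (.lf 40796) (.lf 0))) (.nd (.nd (.lf 0) (.lf 25696)) (.nd (.lf 7860) (.lf 0)))) (.nd (.nd (.nd (.lf 27774) (.lf 9036)) (.nd (.lf 0) (.lf 0))) (.nd (.nd (.lf 0) (.lf 0)) (.nd (.lf 9092) (.lf 0)))))) (.nd (.nd (.nd (.nd (.nd (.lf 0) (.lf 20334)) (.nd (.lf 0) (.lf 0))) (.nd (.nd (.lf 7450) (.lf 0)) (.nd (.lf 0) (.lf 0)))) (.nd (.nd (.nd (.lf 0) (.lf 8092)) (.nd (.lf 17278) (.lf 0))) (.nd (.nd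 (.lf 0) (.lf 0)) (.nd (.lf 17860) (.lf 0))))) (.nd (.nd (.nd (.nd (.lf 0) (.lf 8102)) (.nd (.lf 0) (.lf 0))) (.nd (.nd (.lf 0) (.lf 40162)) (.nd (.lf 21104) (.lf 0)))) (.nd (.nd (.nd (.lf 0) (.lf 5892)) (.nd (.lf 0) (.lf 0))) (.nd (.nd (.lf 21146) (.lf 0)) (.nd (.lf 15378) (.lf 0))))))

/-- table part -/
def jsT_2 : Tr :=
  .nd (.nd (.nd (.nd (.nd (.nd (.lf 0) (.lf 22480)) (.nd (.lf 0) (.lf 0))) (.nd (.nd (.lf 0) (.lf 8606)) (.nd (.lf 27) (.lf 0)))) (.nd (.nd (.nd (.lf 39774) (.lf 36242)) (.nd (.lf 9194) (.lf 0))) (.nd (.nd (.lf 0) (.lf 0)) (.nd (.lf 0) (.lf 0))))) (.nd (.nd (.nd (.nd (.lf 0) (.lf 37602)) (.nd (.lf 0) (.lf 0))) (.nd (.nd (.lf 0) (.lf 0)) (.nd (.lf 20642) (.lf 0)))) (.nd (.nd (.nd (.lf 15882) (.lf 8798)) (.nd (.lf 1272) (.lf 0))) (.nd (.nd (.lf 0) (.lf 0)) (.nd (.lf 0) (.lf 0)))))) (.nd (.nd (.nd (.nd (.nd (.lf 0) (.lf 21440)) (.nd (.lf 26130) (.lf 0))) (.nd (.nd (.lf 0) (.lf 2336)) (.nd (.lf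 29) (.lf 0)))) (.nd (.nd (.nd (.lf 0) (.lf 2724)) (.nd (.lf 0) (.lf 0))) (.nd (.nd (.lf 0) (.lf 0)) (.nd (.lf 17316) (.lf 0))))) (.nd (.nd (.nd (.nd (.lf 0) (.lf 13300)) (.nd (.lf 20376) (.lf 0))) (.nd (.nd (.lf 0) (.lf 23046)) (.nd (.lf 20964) (.lf 0)))) (.nd (.nd (.nd (.lf 0) (.lf 41132)) (.nd (.lf 22576) (.lf 0))) (.nd (.nd (.lf 0) (.lf 0)) (.nd (.lf 1776) (.lf 0))))))

/-- table part -/
def jsT_3 : Tr :=
  .nd jsT_1 jsT_2

/-- table part -/
def jsT_4 : Tr :=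
  .nd (.nd (.nd (.nd (.nd (.nd (.lf 0) (.lf 11)) (.nd (.lf 2956) (.lf 0))) (.nd (.nd (.lf 0) (.lf 0)) (.nd (.lf 9998) (.lf 0)))) (.nd (.nd (.nd (.lf 0) (.lf 0)) (.nd (.lf 12656) (.lf 0))) (.nd (.nd (.lf 0) (.lf 0)) (.nd (.lf 0) (.lf 0))))) (.nd (.nd (.nd (.nd (.lf 0) (.lf 0)) (.nd (.lf 0) (.lf 0))) (.nd (.nd (.lf 0) (.lf 30044)) (.nd (.lf 0) (.lf 0)))) (.nd (.nd (.nd (.lf 0) (.lf 37086)) (.nd (.lf 0) (.lf 0))) (.nd (.nd (.lf 0) (.lf 0)) (.nd (.lf 17556) (.lf 0)))))) (.nd (.nd (.nd (.nd (.nd (.lf 0) (.lf 0)) (.nd (.lf 0) (.lf 0))) (.nd (.nd (.lf 0) (.lf 0)) (.nd (.lf 0) (.lf 0)))) (.nd (.nd (.nd (.lf 0) (.lf 40722)) (.nd (.lf 2484) (.lf 0))) (.nd (.nd (.lf 0) (.lf 0)) (.nd (.lf 5094) (.lf 0))))) (.nd (.nd (.nd (.nd (.lf 37420) (.lf 20264)) (.nd (.lf 17678) (.lf 0))) (.nd (.nd (.lf 0) (.lf 40194)) (.nd (.lf 3370) (.lf 0)))) (.nd (.nd (.nd (.lf 0) (.lf 14544)) (.nd (.lf 41186) (.lf 0))) (.nd (.nd (.lf 40516)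 (.lf 0)) (.nd (.lf 0) (.lf 0))))))

/-- table part -/
def jsT_5 : Tr :=
  .nd (.nd (.nd (.nd (.nd (.nd (.lf 0) (.lf 19080)) (.nd (.lf 0) (.lf 0))) (.nd (.nd (.lf 0) (.lf 39800)) (.nd (.lf 19844) (.lf 0)))) (.nd (.nd (.nd (.lf 0) (.lf 7650)) (.nd (.lf 0) (.lf 0))) (.nd (.nd (.lf 0) (.lf 0)) (.nd (.lf 0) (.lf 0))))) (.nd (.nd (.nd (.nd (.lf 0) (.lf 0)) (.nd (.lf 19942) (.lf 0))) (.nd (.nd (.lf 0) (.lf 19826)) (.nd (.lf 30366) (.lf 0)))) (.nd (.nd (.nd (.lf 0) (.lf 30240)) (.nd (.lf 0) (.lf 0))) (.nd (.nd (.lf 0) (.lf 0)) (.nd (.lf 0) (.lf 0)))))) (.nd (.nd (.nd (.nd (.nd (.lf 0) (.lf 24950)) (.nd (.lf 0) (.lf 0))) (.nd (.nd (.lf 0) (.lf 0)) (.nd (.lf 15784) (.lf 0)))) (.nd (.nd (.nd (.lf 0) (.lf 0)) (.nd (.lf 1230) (.lf 0))) (.nd (.nd (.lf 0) (.lf 0)) (.nd (.lf 35976) (.lf 0))))) (.nd (.nd (.nd (.nd (.lf 0) (.lf 0)) (.nd (.lf 0) (.lf 0))) (.nd (.nd (.lf 32364) (.lf 30170)) (.nd (.lf 40584) (.lf 0)))) (.nd (.nd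 (.nd (.lf 0) (.lf 17396)) (.nd (.lf 8588) (.lf 0))) (.nd (.nd (.lf 19) (.lf 0)) (.nd (.lf 19798) (.lf 0))))))

/-- table part -/
def jsT_6 : Tr :=
  .nd jsT_4 jsT_5

/-- table part -/
def jsT_7 : Tr :=
  .nd jsT_3 jsT_6

/-- table part -/
def jsT_8 : Tr :=
  .nd (.nd (.nd (.nd (.nd (.nd (.lf 0) (.lf 14886)) (.nd (.lf 0) (.lf 0))) (.nd (.nd (.lf 0) (.lf 0)) (.nd (.lf 0) (.lf 0)))) (.nd (.nd (.nd (.lf 0) (.lf 490)) (.nd (.lf 0) (.lf 0))) (.nd (.nd (.lf 6726) (.lf 0)) (.nd (.lf 12800) (.lf 0))))) (.nd (.nd (.nd (.nd (.lf 0) (.lf 0)) (.nd (.lf 0) (.lf 0))) (.nd (.nd (.lf 0) (.lf 21096)) (.nd (.lf 14920) (.lf 0)))) (.nd (.nd (.nd (.lf 0) (.lf 3)) (.nd (.lf 15872) (.lf 0))) (.nd (.nd (.lf 0) (.lf 0)) (.nd (.lf 0) (.lf 0)))))) (.nd (.nd (.nd (.nd (.nd (.lf 0) (.lf 13698)) (.nd (.lf 0) (.lf 0))) (.nd (.nd (.lf 0) (.lf 5788)) (.nd (.lf 1952) (.lf 0)))) (.nd (.nd (.nd (.lf 0) (.lf 2036)) (.nd (.lf 0) (.lf 0))) (.nd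 (.nd (.lf 0) (.lf 0)) (.nd (.lf 2050) (.lf 0))))) (.nd (.nd (.nd (.nd (.lf 0) (.lf 10420)) (.nd (.lf 0) (.lf 0))) (.nd (.nd (.lf 0) (.lf 32242)) (.nd (.lf 17) (.lf 0)))) (.nd (.nd (.nd (.lf 0) (.lf 10570)) (.nd (.lf 24790) (.lf 0))) (.nd (.nd (.lf 11506) (.lf 0)) (.nd (.lf 21878) (.lf 0))))))

/-- table part -/
def jsT_9 : Tr :=
  .nd (.nd (.nd (.nd (.nd (.nd (.lf 0) (.lf 12844)) (.nd (.lf 0) (.lf 0))) (.nd (.nd (.lf 0) (.lf 2288)) (.nd (.lf 13) (.lf 0)))) (.nd (.nd (.nd (.lf 14896) (.lf 2054)) (.nd (.lf 5254) (.lf 0))) (.nd (.nd (.lf 0) (.lf 0)) (.nd (.lf 0) (.lf 0))))) (.nd (.nd (.nd (.nd (.lf 0) (.lf 34062)) (.nd (.lf 25) (.lf 0))) (.nd (.nd (.lf 0) (.lf 19752)) (.nd (.lf 12928) (.lf 0)))) (.nd (.nd (.nd (.lf 27184) (.lf 21)) (.nd (.lf 0) (.lf 0))) (.nd (.nd (.lf 0) (.lf 0)) (.nd (.lf 14914) (.lf 0)))))) (.nd (.nd (.nd (.nd (.nd (.lf 0) (.lf 0)) (.nd (.lf 0) (.lf 0))) (.nd (.nd (.lf 0) (.lf 19808)) (.nd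 (.lf 958) (.lf 0)))) (.nd (.nd (.nd (.lf 0) (.lf 17282)) (.nd (.lf 7) (.lf 0))) (.nd (.nd (.lf 0) (.lf 0)) (.nd (.lf 2016) (.lf 0))))) (.nd (.nd (.nd (.nd (.lf 0) (.lf 12368)) (.nd (.lf 0) (.lf 0))) (.nd (.nd (.lf 0) (.lf 2422)) (.nd (.lf 12970) (.lf 0)))) (.nd (.nd (.nd (.lf 0) (.lf 5006)) (.nd (.lf 20690) (.lf 0))) (.nd (.nd (.lf 15) (.lf 0)) (.nd (.lf 11780) (.lf 0))))))

/-- table part -/
def jsT_10 : Tr :=
  .nd jsT_8 jsT_9

/-- table part -/
def jsT_11 : Tr :=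
  .nd (.nd (.nd (.nd (.nd (.nd (.lf 0) (.lf 17394)) (.nd (.lf 0) (.lf 0))) (.nd (.nd (.lf 0) (.lf 11858)) (.nd (.lf 0) (.lf 0)))) (.nd (.nd (.nd (.lf 0) (.lf 20524)) (.nd (.lf 9) (.lf 0))) (.nd (.nd (.lf 11066) (.lf 0)) (.nd (.lf 32536) (.lf 0))))) (.nd (.nd (.nd (.nd (.lf 0) (.lf 0)) (.nd (.lf 0) (.lf 0))) (.nd (.nd (.lf 0) (.lf 16250)) (.nd (.lf 14858) (.lf 0)))) (.nd (.nd (.nd (.lf 0) (.lf 4086)) (.nd (.lf 7578) (.lf 0))) (.nd (.nd (.lf 0) (.lf 0)) (.nd (.lf 0) (.lf 0)))))) (.nd (.nd (.nd (.nd (.nd (.lf 0) (.lf 10014)) (.nd (.lf 5) (.lf 0))) (.nd (.nd (.lf 28080) (.lf 6688)) (.nd (.lf 34678) (.lf 0)))) (.nd (.nd (.nd (.lf 0) (.lf 7034)) (.nd (.lf 1) (.lf 0))) (.nd (.nd (.lf 24876) (.lf 0)) (.nd (.lf 23) (.lf 0))))) (.nd (.nd (.nd (.nd (.lf 0) (.lf 0)) (.nd (.lf 14830) (.lf 0))) (.nd (.nd (.lf 0) (.lf 2442)) (.nd (.lf 35938) (.lf 0)))) (.nd (.nd (.nd (.lf 0) (.lf 10154)) (.nd (.lf 6194) (.lf 0))) (.nd (.nd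 (.lf 0) (.lf 0)) (.nd (.lf 0) (.lf 0))))))

/-- table part -/
def jsT_12 : Tr :=
  .nd (.nd (.nd (.nd (.nd (.nd (.lf 0) (.lf 6380)) (.nd (.lf 0) (.lf 0))) (.nd (.nd (.lf 14206) (.lf 7230)) (.nd (.lf 0) (.lf 0)))) (.nd (.nd (.nd (.lf 0) (.lf 19846)) (.nd (.lf 0) (.lf 0))) (.nd (.nd (.lf 12760) (.lf 0)) (.nd (.lf 0) (.lf 0))))) (.nd (.nd (.nd (.nd (.lf 0) (.lf 0)) (.nd (.lf 0) (.lf 0))) (.nd (.nd (.lf 9874) (.lf 2404)) (.nd (.lf 1848) (.lf 0)))) (.nd (.nd (.nd (.lf 0) (.lf 23652)) (.nd (.lf 1946) (.lf 0))) (.nd (.nd (.lf 0) (.lf 0)) (.nd (.lf 3246) (.lf 0)))))) (.nd (.nd (.nd (.nd (.nd (.lf 0) (.lf 5200)) (.nd (.lf 0) (.lf 0))) (.nd (.nd (.lf 0) (.lf 9898)) (.nd (.lf 12480) (.lf 0)))) (.nd (.nd (.nd (.lf 0) (.lf 30264)) (.nd (.lf 3288) (.lf 0))) (.nd (.nd (.lf 0) (.lf 0)) (.nd (.lf 0) (.lf 0))))) (.nd (.nd (.nd (.nd (.lf 0) (.lf 2012)) (.nd (.lf 21518) (.lf 0))) (.nd (.nd (.lf 0) (.lf 11452)) (.nd (.lf 434)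 (.lf 0)))) (.nd (.nd (.nd (.lf 0) (.lf 728)) (.nd (.lf 14788) (.lf 0))) (.nd (.nd (.lf 0) (.lf 0)) (.nd (.lf 5750) (.lf 0))))))

/-- table part -/
def jsT_13 : Tr :=
  .nd jsT_11 jsT_12

/-- table part -/
def jsT_14 : Tr :=
  .nd jsT_10 jsT_13

/-- table part -/
def jsT_15 : Tr :=
  .nd jsT_7 jsT_14

/-- table -/
def jsT : Tr :=
  jsT_15

/-- relations -/
def rels : List (List (ℕ × Bool)) :=
  [[(0, true), (0, true), (0, true), (0, true), (0, true), (0, true), (0, true), (0, true), (0, true), (0, true), (0, true)],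
   [(1, true), (1, true), (1, true), (1, true), (1, true), (1, true), (1, true)],
   [(1, false), (0, true), (1, true), (0, false), (1, true), (1, true), (0, false), (1, true), (0, true), (1, false), (0, true)],
   [(1, false), (0, false), (1, false), (0, false), (1, false), (0, false), (1, false), (0, false), (1, false), (0, false), (1, false), (0, false), (1, false), (0, false)],
   [(1, true), (0, true), (1, true), (0, false), (1, false), (1, false), (1, false), (0, false), (1, false), (0, false), (1, false), (1, false), (1, false), (0, true), (0, true), (0, true), (0, true)],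
   [(0, true), (1, false), (0, true), (1, true), (1, true), (0, false), (1, true), (0, true), (1, false), (0, false), (1, false), (0, false), (1, true), (1, true), (0, true), (0, true), (0, true)],
   [(1, false), (0, false), (1, true), (0, true), (1, true), (0, false), (1, false), (0, true), (1, false), (0, false), (1, true), (0, true), (0, true), (1, true), (1, true), (0, true), (0, true)]]

/-- parameter edges -/
def pe : List ℕ := [171, 305, 139, 173, 163, 258, 197, 125, 217, 126, 309, 235, 149, 196, 204]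

/-- elimination -/
def fin : List (List (ℕ × ℕ × ℕ)) :=
  [[(0, 18, 6), (0, 27, 6), (0, 45, 7), (1, 15, 6), (1, 17, 2), (1, 55, 3), (1, 30, 5), (1, 70, 6), (1, 67, 1), (1, 65, 1), (0, 54, 2), (1, 63, 1), (0, 37, 3), (1, 28, 7), (1, 68, 5), (1, 57, 6)],
   [(0, 27, 6), (0, 18, 5), (0, 29, 1), (0, 45, 3), (0, 31, 1), (1, 55, 7), (1, 30, 6), (1, 70, 1), (1, 67, 3), (0, 54, 2), (0, 37, 4), (1, 28, 7), (1, 44, 3), (1, 68, 5), (1, 57, 2)],
   [(0, 29, 5), (0, 18, 6), (0, 27, 5), (0, 45, 4), (0, 31, 2), (1, 15, 1), (1, 17, 4), (1, 55, 4), (1, 30, 4), (1, 70, 2), (1, 67, 1), (1, 65, 6), (0, 54, 2), (1, 63, 4), (0, 37, 5), (1, 28, 1)],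
   [(0, 45, 7), (0, 18, 6), (0, 27, 3), (0, 29, 4), (0, 31, 3), (1, 15, 3), (1, 17, 2), (1, 55, 5), (1, 30, 7), (1, 44, 2), (1, 70, 1), (1, 68, 3), (1, 67, 6), (1, 65, 6), (0, 54, 5), (1, 63, 4)],
   [(0, 31, 7), (0, 18, 5), (0, 27, 4), (0, 45, 2), (0, 29, 2), (1, 15, 3), (1, 17, 2), (1, 55, 6), (1, 30, 3), (1, 44, 3), (1, 70, 2), (1, 68, 2), (1, 67, 2), (0, 54, 7), (1, 63, 1), (0, 37, 6), (1, 28, 2), (1, 57, 6)],
   [(0, 37, 2), (0, 18, 6), (0, 27, 5), (0, 31, 4), (0, 45, 5), (0, 29, 6), (1, 15, 3), (1, 17, 5), (1, 55, 3), (1, 30, 3), (1, 44, 5), (1, 70, 2), (1, 68, 3), (1, 67, 2), (1, 65, 5), (0, 54, 7), (1, 28, 3), (1, 57, 4)],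
   [(1, 15, 1), (0, 18, 7), (0, 27, 2), (0, 29, 4), (0, 37, 3), (0, 31, 1), (1, 17, 5), (1, 28, 4), (1, 55, 2), (1, 30, 1), (1, 44, 5), (1, 57, 4), (1, 70, 4), (1, 68, 5), (1, 67, 7), (1, 65, 6), (0, 54, 3)],
   [(0, 27, 7), (0, 18, 6), (0, 29, 4), (0, 31, 5), (0, 37, 5), (0, 45, 2), (1, 17, 2), (1, 15, 6), (1, 28, 1), (1, 55, 4), (1, 30, 2), (1, 44, 3), (1, 57, 5), (1, 68, 6), (1, 67, 2), (1, 65, 4), (1, 63, 4)],
   [(1, 17, 4), (0, 18, 3), (0, 29, 7), (0, 31, 7), (0, 37, 4), (0, 45, 4), (1, 15, 5), (1, 28, 4), (1, 55, 6), (1, 30, 6), (1, 44, 3), (1, 57, 6), (1, 70, 6), (1, 68, 6), (1, 67, 2), (1, 65, 4)],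
   [(1, 28, 5), (0, 18, 2), (0, 27, 2), (0, 31, 4), (0, 37, 3), (0, 45, 1), (0, 29, 5), (0, 54, 7), (1, 15, 7), (1, 17, 4), (1, 55, 6), (1, 30, 6), (1, 44, 5), (1, 57, 5), (1, 70, 4), (1, 63, 7), (1, 68, 3), (1, 67, 3), (1, 65, 2)],
   [(1, 55, 5), (0, 18, 7), (0, 27, 1), (0, 29, 2), (0, 31, 4), (0, 37, 7), (0, 45, 5), (0, 54, 3), (1, 15, 2), (1, 28, 7), (1, 17, 5), (1, 30, 3), (1, 44, 7), (1, 57, 4), (1, 70, 2), (1, 63, 1), (1, 68, 2), (1, 67, 7), (1, 65, 7)],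
   [(1, 44, 3), (0, 18, 3), (0, 27, 1), (0, 29, 3), (0, 31, 3), (0, 37, 1), (0, 45, 4), (0, 54, 3), (1, 17, 4), (1, 30, 4), (1, 55, 6), (1, 70, 3), (1, 63, 4), (1, 68, 4), (1, 67, 3), (1, 65, 1)],
   [(1, 30, 5), (0, 18, 3), (0, 27, 1), (0, 29, 5), (0, 31, 6), (0, 37, 3), (0, 45, 6), (0, 54, 6), (1, 15, 3), (1, 17, 7), (1, 28, 1), (1, 44, 6), (1, 55, 5), (1, 70, 6), (1, 63, 1), (1, 68, 2), (1, 67, 2), (1, 65, 3), (1, 57, 7)],
   [(1, 57, 1), (0, 18, 6), (0, 29, 3), (0, 31, 2), (0, 45, 2), (0, 54, 6), (1, 15, 5), (1, 28, 7), (1, 44, 2), (1, 30, 4), (1, 55, 3), (1, 70, 4), (1, 63, 2), (1, 68, 6)],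
   [(1, 63, 7), (0, 18, 3), (0, 31, 1), (0, 37, 5), (0, 45, 6), (0, 29, 2), (0, 54, 4), (1, 15, 3), (1, 17, 5), (1, 28, 4), (1, 30, 3), (1, 44, 4), (1, 55, 6), (1, 57, 5), (1, 67, 6), (1, 65, 4), (1, 70, 5), (1, 68, 3)],
   [(1, 67, 7), (0, 18, 6), (0, 27, 7), (0, 29, 2), (0, 31, 1), (0, 37, 3), (0, 54, 7), (1, 15, 6), (1, 17, 5), (1, 55, 6), (1, 65, 1), (1, 70, 3)],
   [(1, 65, 6), (0, 18, 2), (0, 27, 3), (0, 29, 6), (0, 31, 6), (0, 54, 4), (0, 37, 5), (0, 45, 3), (1, 17, 6), (1, 28, 5), (1, 30, 3), (1, 44, 2), (1, 57, 5), (1, 55, 4), (1, 63, 1), (1, 70, 2), (1, 67, 6), (1, 68, 1)],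
   [(1, 70, 3), (0, 18, 1), (0, 27, 3), (0, 29, 6), (0, 31, 5), (0, 37, 7), (0, 54, 6), (1, 15, 1), (1, 17, 3), (1, 28, 3), (1, 30, 3), (1, 55, 5), (1, 44, 1), (1, 57, 3), (1, 63, 1), (1, 67, 2), (1, 68, 2)],
   [(1, 68, 5), (0, 18, 6), (0, 27, 4), (0, 37, 7), (0, 31, 1), (0, 45, 7), (0, 29, 7), (0, 54, 3), (1, 15, 2), (1, 17, 7), (1, 28, 5), (1, 44, 4), (1, 30, 5), (1, 55, 5), (1, 63, 4), (1, 57, 6), (1, 65, 1), (1, 67, 2), (1, 70, 4)],
   [(1, 72, 3), (0, 18, 1), (0, 27, 2), (0, 31, 5), (0, 54, 7), (0, 29, 2), (0, 45, 6), (1, 15, 1), (1, 17, 6), (1, 28, 6), (1, 44, 5), (1, 57, 6), (1, 55, 2), (1, 63, 3), (1, 65, 2), (1, 67, 6), (1, 68, 4)]]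

/-- the certificate -/
def cert : Cert :=
  ⟨8, 2, 176, 2, 20, rels, nxT, pvT, parT, fmT, rkT, jsT, pe, fin⟩

/-- the parameter left -/
def k0 : ℕ := 19

/-- multiples -/
def cs : List ℕ := [4, 6, 0, 7, 3, 7, 2, 2, 2, 1, 6, 0, 6, 5, 4, 5, 0, 7, 4, 1]

/-- table part -/
def keyT_1 : Tr :=
  .nd (.nd (.nd (.nd (.nd (.nd (.lf 8394986) (.lf 8611330)) (.nd (.lf 9701932) (.lf 0))) (.nd (.nd (.lf 10916112) (.lf 9652360)) (.nd (.lf 13443616) (.lf 0)))) (.nd (.nd (.nd (.lf 14156372) (.lf 13192208)) (.nd (.lf 8721940) (.lf 0))) (.nd (.nd (.lf 8733800) (.lf 0)) (.nd (.lf 8521420) (.lf 0))))) (.nd (.nd (.nd (.nd (.lf 14688364) (.lf 10232008)) (.nd (.lf 12685424) (.lf 0))) (.nd (.nd (.lf 8931660) (.lf 12720156)) (.nd (.lf 12698124) (.lf 0)))) (.nd (.nd (.nd (.lf 15207048) (.lf 10543366)) (.nd (.lf 11469952) (.lf 0))) (.nd (.nd (.lf 8439632) (.lf 0)) (.nd (.lf 14762146) (.lf 0)))))) (.nd (.nd (.nd (.nd (.nd (.lf 13142054)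 (.lf 9462812)) (.nd (.lf 8963210) (.lf 0))) (.nd (.nd (.lf 9158944) (.lf 13148440)) (.nd (.lf 8925710) (.lf 0)))) (.nd (.nd (.nd (.lf 15515712) (.lf 8581192)) (.nd (.lf 11272490) (.lf 0))) (.nd (.nd (.lf 8999616) (.lf 0)) (.nd (.lf 10305542) (.lf 0))))) (.nd (.nd (.nd (.nd (.lf 9020484) (.lf 9610624)) (.nd (.lf 14176296) (.lf 0))) (.nd (.nd (.lf 8555274) (.lf 10584520)) (.nd (.lf 12861748) (.lf 0)))) (.nd (.nd (.nd (.lf 8654232) (.lf 13373586)) (.nd (.lf 9456930) (.lf 0))) (.nd (.nd (.lf 10748656) (.lf 0)) (.nd (.lf 12944642) (.lf 0))))))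

/-- table part -/
def keyT_2 : Tr :=
  .nd (.nd (.nd (.nd (.nd (.nd (.lf 8484900) (.lf 13108704)) (.nd (.lf 9708306) (.lf 0))) (.nd (.nd (.lf 9998658) (.lf 11150144)) (.nd (.lf 9769376) (.lf 0)))) (.nd (.nd (.nd (.lf 14919680) (.lf 13631886)) (.nd (.lf 8464984) (.lf 0))) (.nd (.nd (.lf 15762208) (.lf 0)) (.nd (.lf 13641904) (.lf 0))))) (.nd (.nd (.nd (.nd (.lf 13938692) (.lf 8660134)) (.nd (.lf 8919856) (.lf 0))) (.nd (.nd (.lf 10513600) (.lf 8474906)) (.nd (.lf 10537016) (.lf 0)))) (.nd (.nd (.nd (.lf 14551296) (.lf 11282452)) (.nd (.lf 10687016) (.lf 0))) (.nd (.nd (.lf 8490656) (.lf 0)) (.nd (.lf 15073798) (.lf 0)))))) (.nd (.nd (.nd (.nd (.nd (.lf 12726562) (.lf 9835530)) (.nd (.lf 13262980) (.lf 0))) (.nd (.nd (.lf 11055264) (.lf 8401364)) (.nd (.lf 13911680) (.lf 0)))) (.nd (.nd (.nd (.lf 13009064) (.lf 12871690)) (.nd (.lf 9451104) (.lf 0))) (.nd (.nd (.lf 9078992) (.lf 0)) (.nd (.lf 13811730) (.lf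 0))))) (.nd (.nd (.nd (.nd (.lf 8561204) (.lf 9968772)) (.nd (.lf 8414120) (.lf 0))) (.nd (.nd (.lf 11654144) (.lf 16056344)) (.nd (.lf 10257456) (.lf 0)))) (.nd (.nd (.nd (.lf 12780432) (.lf 9323032)) (.nd (.lf 12638592) (.lf 0))) (.nd (.nd (.lf 9279496) (.lf 0)) (.nd (.lf 10650722) (.lf 0))))))

/-- table part -/
def keyT_3 : Tr :=
  .nd keyT_1 keyT_2

/-- table part -/
def keyT_4 : Tr :=
  .nd (.nd (.nd (.nd (.nd (.nd (.lf 12604486) (.lf 14709264)) (.nd (.lf 13276672) (.lf 0))) (.nd (.nd (.lf 13667400) (.lf 10028808)) (.nd (.lf 10491778) (.lf 0)))) (.nd (.nd (.nd (.lf 11015256) (.lf 8849458)) (.nd (.lf 8592704) (.lf 0))) (.nd (.nd (.lf 11108882) (.lf 0)) (.nd (.lf 8436754) (.lf 0))))) (.nd (.nd (.nd (.nd (.lf 14714004) (.lf 10560816)) (.nd (.lf 13703682) (.lf 0))) (.nd (.nd (.lf 10698836) (.lf 12733024)) (.nd (.lf 9589508) (.lf 0)))) (.nd (.nd (.nd (.lf 9474712) (.lf 8796800)) (.nd (.lf 10790408) (.lf 0)))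 (.nd (.nd (.lf 10825794) (.lf 0)) (.nd (.lf 8694112) (.lf 0)))))) (.nd (.nd (.nd (.nd (.nd (.lf 12584506) (.lf 11608708)) (.nd (.lf 11952160) (.lf 0))) (.nd (.nd (.lf 11551306) (.lf 16262146)) (.nd (.lf 10619300) (.lf 0)))) (.nd (.nd (.nd (.lf 10625178) (.lf 8541360)) (.nd (.lf 8407702) (.lf 0))) (.nd (.nd (.lf 11548936) (.lf 0)) (.nd (.lf 9055272) (.lf 0))))) (.nd (.nd (.nd (.nd (.lf 10554382) (.lf 11028004)) (.nd (.lf 11163650) (.lf 0))) (.nd (.nd (.lf 9568632) (.lf 12222476)) (.nd (.lf 12661896) (.lf 0)))) (.nd (.nd (.nd (.lf 12985424) (.lf 14949408)) (.nd (.lf 13303882) (.lf 0))) (.nd (.nd (.lf 15864000) (.lf 0)) (.nd (.lf 10525252) (.lf 0))))))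

/-- table part -/
def keyT_5 : Tr :=
  .nd (.nd (.nd (.nd (.nd (.nd (.lf 11538486) (.lf 8834052)) (.nd (.lf 9310308) (.lf 0))) (.nd (.nd (.lf 12126304) (.lf 11669008)) (.nd (.lf 9178690) (.lf 0)))) (.nd (.nd (.nd (.lf 12075408) (.lf 14828808)) (.nd (.lf 10093218) (.lf 0))) (.nd (.nd (.lf 13721920) (.lf 0)) (.nd (.lf 9486564) (.lf 0))))) (.nd (.nd (.nd (.nd (.lf 11797828) (.lf 13829156)) (.nd (.lf 14682450) (.lf 0))) (.nd (.nd (.lf 8773776) (.lf 9929280)) (.nd (.lf 12624578) (.lf 0)))) (.nd (.nd (.nd (.lf 15274244) (.lf 9503954)) (.nd (.lf 8704546) (.lf 0))) (.nd (.nd (.lf 8989058) (.lf 0)) (.nd (.lf 8426796) (.lf 0)))))) (.nd (.nd (.nd (.nd (.nd (.lf 9045270) (.lf 10021376)) (.nd (.lf 10768524) (.lf 0))) (.nd (.nd (.lf 11831426) (.lf 12594948)) (.nd (.lf 9204992) (.lf 0)))) (.nd (.nd (.nd (.lf 10170384) (.lf 9578566)) (.nd (.lf 9208708) (.lf 0))) (.nd (.nd (.lf 10832640) (.lf 0)) (.nd (.lf 8937586) (.lf 0)))))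 (.nd (.nd (.nd (.nd (.lf 9537812) (.lf 8683614)) (.nd (.lf 12912836) (.lf 0))) (.nd (.nd (.lf 8798658) (.lf 8455014)) (.nd (.lf 8855820) (.lf 0)))) (.nd (.nd (.nd (.lf 12849992) (.lf 8978620)) (.nd (.lf 9721936) (.lf 0))) (.nd (.nd (.lf 8622214) (.lf 0)) (.nd (.lf 9543722) (.lf 0))))))

/-- table part -/
def keyT_6 : Tr :=
  .nd keyT_4 keyT_5

/-- table part -/
def keyT_7 : Tr :=
  .nd keyT_3 keyT_6

/-- table -/
def keyT : Tr :=
  keyT_7

/-- table part -/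
def posT_1 : Tr :=
  .nd (.nd (.nd (.nd (.nd (.nd (.lf 0) (.lf 18)) (.nd (.lf 65) (.lf 0))) (.nd (.nd (.lf 98) (.lf 64)) (.nd (.lf 147) (.lf 0)))) (.nd (.nd (.nd (.lf 157) (.lf 142)) (.nd (.lf 25) (.lf 0))) (.nd (.nd (.lf 26) (.lf 0)) (.nd (.lf 12) (.lf 0))))) (.nd (.nd (.nd (.nd (.lf 161) (.lf 77)) (.nd (.lf 126) (.lf 0))) (.nd (.nd (.lf 35) (.lf 128)) (.nd (.lf 127) (.lf 0)))) (.nd (.nd (.nd (.lf 169) (.lf 84)) (.nd (.lf 107) (.lf 0))) (.nd (.nd (.lf 6) (.lf 0)) (.nd (.lf 164) (.lf 0)))))) (.nd (.nd (.nd (.nd (.nd (.lf 140) (.lf 54)) (.nd (.lf 37) (.lf 0))) (.nd (.nd (.lf 45) (.lf 141)) (.nd (.lf 34) (.lf 0)))) (.nd (.nd (.nd (.lf 171) (.lf 16)) (.nd (.lf 105) (.lf 0))) (.nd (.nd (.lf 40) (.lf 0)) (.nd (.lf 79) (.lf 0))))) (.nd (.nd (.nd (.nd (.lf 41) (.lf 63)) (.nd (.lf 158) (.lf 0))) (.nd (.nd (.lf 14) (.lf 87)) (.nd (.lf 133) (.lf 0)))) (.nd (.nd (.nd (.lf 20) (.lf 146)) (.nd (.lf 53) (.lf 0))) (.nd (.nd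 (.lf 93) (.lf 0)) (.nd (.lf 136) (.lf 0))))))

/-- table part -/
def posT_2 : Tr :=
  .nd (.nd (.nd (.nd (.nd (.nd (.lf 10) (.lf 139)) (.nd (.lf 66) (.lf 0))) (.nd (.nd (.lf 72) (.lf 103)) (.nd (.lf 68) (.lf 0)))) (.nd (.nd (.nd (.lf 166) (.lf 148)) (.nd (.lf 8) (.lf 0))) (.nd (.nd (.lf 172) (.lf 0)) (.nd (.lf 149) (.lf 0))))) (.nd (.nd (.nd (.nd (.lf 156) (.lf 21)) (.nd (.lf 33) (.lf 0))) (.nd (.nd (.lf 81) (.lf 9)) (.nd (.lf 83) (.lf 0)))) (.nd (.nd (.nd (.lf 159) (.lf 106)) (.nd (.lf 91) (.lf 0))) (.nd (.nd (.lf 11) (.lf 0)) (.nd (.lf 168) (.lf 0)))))) (.nd (.nd (.nd (.nd (.nd (.lf 129) (.lf 69)) (.nd (.lf 143) (.lf 0))) (.nd (.nd (.lf 101) (.lf 1)) (.nd (.lf 155) (.lf 0)))) (.nd (.nd (.nd (.lf 138) (.lf 134)) (.nd (.lf 52) (.lf 0))) (.nd (.nd (.lf 44) (.lf 0)) (.nd (.lf 153) (.lf 0))))) (.nd (.nd (.nd (.nd (.lf 15) (.lf 71)) (.nd (.lf 3) (.lf 0))) (.nd (.nd (.lf 112) (.lf 174)) (.nd (.lf 78) (.lf 0))))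 (.nd (.nd (.nd (.lf 131) (.lf 51)) (.nd (.lf 124) (.lf 0))) (.nd (.nd (.lf 49) (.lf 0)) (.nd (.lf 90) (.lf 0))))))

/-- table part -/
def posT_3 : Tr :=
  .nd posT_1 posT_2

/-- table part -/
def posT_4 : Tr :=
  .nd (.nd (.nd (.nd (.nd (.nd (.lf 122) (.lf 162)) (.nd (.lf 144) (.lf 0))) (.nd (.nd (.lf 150) (.lf 74)) (.nd (.lf 80) (.lf 0)))) (.nd (.nd (.nd (.lf 99) (.lf 31)) (.nd (.lf 17) (.lf 0))) (.nd (.nd (.lf 102) (.lf 0)) (.nd (.lf 5) (.lf 0))))) (.nd (.nd (.nd (.nd (.lf 163) (.lf 86)) (.nd (.lf 151) (.lf 0))) (.nd (.nd (.lf 92) (.lf 130)) (.nd (.lf 62) (.lf 0)))) (.nd (.nd (.nd (.lf 55) (.lf 28)) (.nd (.lf 95) (.lf 0))) (.nd (.nd (.lf 96) (.lf 0)) (.nd (.lf 23) (.lf 0)))))) (.nd (.nd (.nd (.nd (.nd (.lf 120) (.lf 111)) (.nd (.lf 116) (.lf 0))) (.nd (.nd (.lf 110) (.lf 175)) (.nd (.lf 88) (.lf 0)))) (.nd (.nd (.nd (.lf 89) (.lf 13)) (.nd (.lf 2) (.lf 0))) (.nd (.nd (.lf 109) (.lf 0)) (.nd (.lf 43) (.lf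 0))))) (.nd (.nd (.nd (.nd (.lf 85) (.lf 100)) (.nd (.lf 104) (.lf 0))) (.nd (.nd (.lf 60) (.lf 119)) (.nd (.lf 125) (.lf 0)))) (.nd (.nd (.nd (.lf 137) (.lf 167)) (.nd (.lf 145) (.lf 0))) (.nd (.nd (.lf 173) (.lf 0)) (.nd (.lf 82) (.lf 0))))))

/-- table part -/
def posT_5 : Tr :=
  .nd (.nd (.nd (.nd (.nd (.nd (.lf 108) (.lf 30)) (.nd (.lf 50) (.lf 0))) (.nd (.nd (.lf 118) (.lf 113)) (.nd (.lf 46) (.lf 0)))) (.nd (.nd (.nd (.lf 117) (.lf 165)) (.nd (.lf 75) (.lf 0))) (.nd (.nd (.lf 152) (.lf 0)) (.nd (.lf 56) (.lf 0))))) (.nd (.nd (.nd (.nd (.lf 114) (.lf 154)) (.nd (.lf 160) (.lf 0))) (.nd (.nd (.lf 27) (.lf 70)) (.nd (.lf 123) (.lf 0)))) (.nd (.nd (.nd (.lf 170) (.lf 57)) (.nd (.lf 24) (.lf 0))) (.nd (.nd (.lf 39) (.lf 0)) (.nd (.lf 4) (.lf 0)))))) (.nd (.nd (.nd (.nd (.nd (.lf 42) (.lf 73)) (.nd (.lf 94) (.lf 0))) (.nd (.nd (.lf 115) (.lf 121)) (.nd (.lf 47) (.lf 0)))) (.nd (.nd (.nd (.lf 76) (.lf 61))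 (.nd (.lf 48) (.lf 0))) (.nd (.nd (.lf 97) (.lf 0)) (.nd (.lf 36) (.lf 0))))) (.nd (.nd (.nd (.nd (.lf 58) (.lf 22)) (.nd (.lf 135) (.lf 0))) (.nd (.nd (.lf 29) (.lf 7)) (.nd (.lf 32) (.lf 0)))) (.nd (.nd (.nd (.lf 132) (.lf 38)) (.nd (.lf 67) (.lf 0))) (.nd (.nd (.lf 19) (.lf 0)) (.nd (.lf 59) (.lf 0))))))

/-- table part -/
def posT_6 : Tr :=
  .nd posT_4 posT_5

/-- table part -/
def posT_7 : Tr :=
  .nd posT_3 posT_6

/-- table -/
def posT : Tr :=
  posT_7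

/-- table part -/
def srtT_1 : Tr :=
  .nd (.nd (.nd (.nd (.nd (.nd (.lf 0) (.lf 168)) (.nd (.lf 160) (.lf 0))) (.nd (.nd (.lf 111) (.lf 75)) (.nd (.lf 57) (.lf 0)))) (.nd (.nd (.nd (.lf 148) (.lf 65)) (.nd (.lf 97) (.lf 0))) (.nd (.nd (.lf 87) (.lf 0)) (.nd (.lf 46) (.lf 0))))) (.nd (.nd (.nd (.nd (.lf 82) (.lf 124)) (.nd (.lf 34) (.lf 0))) (.nd (.nd (.lf 52) (.lf 122)) (.nd (.lf 77) (.lf 0)))) (.nd (.nd (.nd (.lf 91) (.lf 51)) (.nd (.lf 101) (.lf 0))) (.nd (.nd (.lf 115) (.lf 0)) (.nd (.lf 5) (.lf 0)))))) (.nd (.nd (.nd (.nd (.nd (.lf 123) (.lf 31)) (.nd (.lf 98) (.lf 0))) (.nd (.nd (.lf 119) (.lf 120)) (.nd (.lf 141) (.lf 0)))) (.nd (.nd (.nd (.lf 28) (.lf 146)) (.nd (.lf 152) (.lf 0))) (.nd (.nd (.lf 86) (.lf 0)) (.nd (.lf 69) (.lf 0))))) (.nd (.nd (.nd (.nd (.lf 112) (.lf 4)) (.nd (.lf 23) (.lf 0))) (.nd (.nd (.lf 54) (.lf 50)) (.nd (.lf 3) (.lf 0)))) (.nd (.nd (.nd (.lf 153) (.lf 10)) (.nd (.lf 41)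 (.lf 0))) (.nd (.nd (.lf 45) (.lf 0)) (.nd (.lf 94) (.lf 0))))))

/-- table part -/
def srtT_2 : Tr :=
  .nd (.nd (.nd (.nd (.nd (.nd (.lf 85) (.lf 169)) (.nd (.lf 66) (.lf 0))) (.nd (.nd (.lf 100) (.lf 129)) (.nd (.lf 32) (.lf 0)))) (.nd (.nd (.nd (.lf 128) (.lf 156)) (.nd (.lf 125) (.lf 0))) (.nd (.nd (.lf 67) (.lf 0)) (.nd (.lf 11) (.lf 0))))) (.nd (.nd (.nd (.nd (.lf 2) (.lf 22)) (.nd (.lf 161) (.lf 0))) (.nd (.nd (.lf 7) (.lf 27)) (.nd (.lf 154) (.lf 0)))) (.nd (.nd (.nd (.lf 48) (.lf 139)) (.nd (.lf 126) (.lf 0))) (.nd (.nd (.lf 15) (.lf 0)) (.nd (.lf 1) (.lf 0)))))) (.nd (.nd (.nd (.nd (.nd (.lf 56) (.lf 150)) (.nd (.lf 171) (.lf 0))) (.nd (.nd (.lf 159) (.lf 18)) (.nd (.lf 49) (.lf 0)))) (.nd (.nd (.nd (.lf 143) (.lf 33)) (.nd (.lf 137) (.lf 0))) (.nd (.nd (.lf 132) (.lf 0)) (.nd (.lf 35) (.lf 0))))) (.nd (.nd (.nd (.nd (.lf 44) (.lf 144)) (.nd (.lf 110) (.lf 0))) (.nd (.nd (.lf 99) (.lf 174)) (.nd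 (.lf 37) (.lf 0)))) (.nd (.nd (.nd (.lf 131) (.lf 76)) (.nd (.lf 71) (.lf 0))) (.nd (.nd (.lf 105) (.lf 0)) (.nd (.lf 72) (.lf 0))))))

/-- table part -/
def srtT_3 : Tr :=
  .nd srtT_1 srtT_2

/-- table part -/
def srtT_4 : Tr :=
  .nd (.nd (.nd (.nd (.nd (.nd (.lf 166) (.lf 6)) (.nd (.lf 64) (.lf 0))) (.nd (.nd (.lf 74) (.lf 8)) (.nd (.lf 55) (.lf 0)))) (.nd (.nd (.nd (.lf 81) (.lf 93)) (.nd (.lf 42) (.lf 0))) (.nd (.nd (.lf 62) (.lf 0)) (.nd (.lf 163) (.lf 0))))) (.nd (.nd (.nd (.nd (.lf 170) (.lf 29)) (.nd (.lf 135) (.lf 0))) (.nd (.nd (.lf 12) (.lf 24)) (.nd (.lf 84) (.lf 0)))) (.nd (.nd (.nd (.lf 80) (.lf 118)) (.nd (.lf 21) (.lf 0))) (.nd (.nd (.lf 155) (.lf 0)) (.nd (.lf 167) (.lf 0)))))) (.nd (.nd (.nd (.nd (.nd (.lf 113) (.lf 108)) (.nd (.lf 134) (.lf 0))) (.nd (.nd (.lf 68) (.lf 147)) (.nd (.lf 38) (.lf 0)))) (.nd (.nd (.nd (.lf 138) (.lf 114)) (.nd (.lf 13) (.lf 0))) (.nd (.nd (.lf 92) (.lf 0))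 (.nd (.lf 19) (.lf 0))))) (.nd (.nd (.nd (.nd (.lf 149) (.lf 164)) (.nd (.lf 136) (.lf 0))) (.nd (.nd (.lf 36) (.lf 61)) (.nd (.lf 53) (.lf 0)))) (.nd (.nd (.nd (.lf 47) (.lf 16)) (.nd (.lf 60) (.lf 0))) (.nd (.nd (.lf 151) (.lf 0)) (.nd (.lf 109) (.lf 0))))))

/-- table part -/
def srtT_5 : Tr :=
  .nd (.nd (.nd (.nd (.nd (.nd (.lf 78) (.lf 30)) (.nd (.lf 95) (.lf 0))) (.nd (.nd (.lf 40) (.lf 9)) (.nd (.lf 17) (.lf 0)))) (.nd (.nd (.nd (.lf 63) (.lf 96)) (.nd (.lf 106) (.lf 0))) (.nd (.nd (.lf 158) (.lf 0)) (.nd (.lf 39) (.lf 0))))) (.nd (.nd (.nd (.nd (.lf 58) (.lf 130)) (.nd (.lf 83) (.lf 0))) (.nd (.nd (.lf 117) (.lf 20)) (.nd (.lf 88) (.lf 0)))) (.nd (.nd (.nd (.lf 43) (.lf 102)) (.nd (.lf 90) (.lf 0))) (.nd (.nd (.lf 127) (.lf 0)) (.nd (.lf 107) (.lf 0)))))) (.nd (.nd (.nd (.nd (.nd (.lf 175) (.lf 79)) (.nd (.lf 142) (.lf 0))) (.nd (.nd (.lf 59) (.lf 157)) (.nd (.lf 162) (.lf 0)))) (.nd (.nd (.nd (.lf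 121) (.lf 73)) (.nd (.lf 172) (.lf 0))) (.nd (.nd (.lf 25) (.lf 0)) (.nd (.lf 173) (.lf 0))))) (.nd (.nd (.nd (.nd (.lf 14) (.lf 70)) (.nd (.lf 116) (.lf 0))) (.nd (.nd (.lf 103) (.lf 165)) (.nd (.lf 133) (.lf 0)))) (.nd (.nd (.nd (.lf 145) (.lf 26)) (.nd (.lf 89) (.lf 0))) (.nd (.nd (.lf 140) (.lf 0)) (.nd (.lf 104) (.lf 0))))))

/-- table part -/
def srtT_6 : Tr :=
  .nd srtT_4 srtT_5

/-- table part -/
def srtT_7 : Tr :=
  .nd srtT_3 srtT_6

/-- table -/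
def srtT : Tr :=
  srtT_7

end Cfsg.Agent.SplitVoltageM22AData
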