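import Cfsg.Agent.Lib.SplitVoltageM22Sub
import Cfsg.Agent.Lib.SplitVoltageCov22A
import Cfsg.Agent.Lib.SplitVoltageCov22B

/-!
The twelvefold cover of the Mathieu group of degree 22: two monomial representations with invariant
weightings of connected graphs.
-/

set_option autoImplicit false
set_option Elab.async false
set_option maxRecDepth 100000

namespace Cfsg.Agent.SplitVoltageM22Cover

open Cfsg Cfsg.Agent.GolayBasic Cfsg.Agent.GolayPerm Cfsg.Agent.GolayChain
open Cfsg.Agent.GolayOutTool Cfsg.Agent.SplitVoltageCert Cfsg.Agent.SplitVoltageGolay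
open Cfsg.Agent.SplitVoltageM22Data Cfsg.Agent.SplitVoltageM22Sub
open Cfsg.Agent.SplitVoltageCovCore
open scoped Pointwise

/-- the word of the generator of the kernel -/
def zWord : List ℕ :=
  [1, 0, 1, 1, 1, 1, 1, 1, 0, 0, 0, 0, 0, 0, 0, 0, 0, 0,
    0, 0, 0, 0, 0, 0, 0, 0, 0, 0, 1, 0, 0, 0, 0, 0, 0, 0, 0, 0, 0,
    0, 0, 0, 0, 0, 0, 0, 0, 0, 0, 1, 0, 0, 0, 0, 0, 0, 0, 0, 0, 0,
    0, 0, 0, 0, 0, 0, 0, 0, 0, 0, 0,
    0, 0, 0, 0, 0, 0, 0, 0, 0, 1, 1, 1, 1, 1, 1, 1, 1, 1, 1, 1, 1, 0, 0, 0, 0, 0, 0, 0, 0, 0, 0,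
    0, 0, 0, 0, 0, 0, 0, 0, 0, 0]

/-- the first data -/
noncomputable abbrev MA : Mono := SplitVoltageCov22A.mono

/-- the second data -/
noncomputable abbrev MB : Mono := SplitVoltageCov22B.mono

instance : NeZero MA.m := ⟨show (4 : ℕ) ≠ 0 by norm_num⟩
instance : NeZero MB.m := ⟨show (3 : ℕ) ≠ 0 by norm_num⟩

/-- the points below the first representation -/
noncomputable def objA (c : ℕ) : Finset GolayPt × Finset GolayPt :=
  (mset (get SplitVoltageCov22AData.keyT c % 16777216),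
    mset (get SplitVoltageCov22AData.keyT c / 16777216))

/-- the points below the second representation -/
noncomputable def objB (c : ℕ) : Finset GolayPt := setObj SplitVoltageCov22BData.keyT c

/-- the check of the first action -/
noncomputable def actA : Bool :=
  allB 2 fun i => allB 1232 fun c =>
    cond (Nat.blt (get SplitVoltageCov22AData.keyT c) 281474976710656)
      (cond (Nat.blt (MA.piF i c) 1232)
        (cond (Nat.beq (pmask (gensP.getD i 0) (get SplitVoltageCov22AData.keyT c % 16777216))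
            (get SplitVoltageCov22AData.keyT (MA.piF i c) % 16777216))
          (Nat.beq (pmask (gensP.getD i 0) (get SplitVoltageCov22AData.keyT c / 16777216))
            (get SplitVoltageCov22AData.keyT (MA.piF i c) / 16777216)) false) false) false

theorem actA_eq : actA = true := by decide +kernel

theorem injA : injOK 1232 SplitVoltageCov22AData.keyT SplitVoltageCov22AData.posT
    SplitVoltageCov22AData.srtT = true := by decide +kernel

theorem actB : setAct SplitVoltageCov22BData.keyT 231 MB.piF = true := by decide +kernel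

theorem ltB : allB 2 (fun i => allB 231 fun c => Nat.blt (MB.piF i c) 231) = true := by
  decide +kernel

theorem ltB_spec (i : ℕ) (hi : i < 2) (c : ℕ) (hc : c < MB.N) : MB.piF i c < MB.N :=
  (Eq.mp Nat.blt_eq (allB_spec (allB_spec ltB i hi) c hc))

theorem injB : injOK 231 SplitVoltageCov22BData.keyT SplitVoltageCov22BData.posT
    SplitVoltageCov22BData.srtT = true := by decide +kernel

theorem actA_spec (i : ℕ) (hi : i < 2) (c : ℕ) (hc : c < 1232) :
    get SplitVoltageCov22AData.keyT c < 281474976710656 ∧ MA.piF i c < 1232 ∧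
      (⟨_, gens22_mem i hi⟩ : Spor.M22) • objA c = objA (MA.piF i c) := by
  have h := allB_spec (allB_spec actA_eq i hi) c hc
  simp only [Bool.cond_eq_ite, Bool.if_false_right, Bool.and_eq_true, decide_eq_true_eq,
    Nat.blt_eq, Nat.beq_eq] at h
  refine ⟨h.1, h.2.1, Prod.ext ?_ ?_⟩
  · show permOf (gensP.getD i 0) • mset _ = mset _
    rw [smul_mset (gens22_valid i hi), h.2.2.1]
  · show permOf (gensP.getD i 0) • mset _ = mset _
    rw [smul_mset (gens22_valid i hi), h.2.2.2]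

theorem objA_inj : ∀ c < MA.N, ∀ d < MA.N, objA c = objA d → c = d := by
  intro c hc d hd e
  have h1 := (actA_spec 0 (by norm_num) c hc).1
  have h2 := (actA_spec 0 (by norm_num) d hd).1
  have e1 := mset_inj (Nat.mod_lt _ (by norm_num)) (Nat.mod_lt _ (by norm_num)) (congrArg Prod.fst e)
  have e2 := mset_inj (by omega) (by omega) (congrArg Prod.snd e)
  exact inj_of_injOK injA hc hd (by omega)

theorem objB_inj : ∀ c < MB.N, ∀ d < MB.N, objB c = objB d → c = d :=
  setObj_inj actB injB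

/-- the ambient group -/
abbrev Amb : Type := Spor.M22 × Equiv.Perm MA.X × Equiv.Perm MB.X

/-- the two generators -/
noncomputable def gg (i : ℕ) : Amb :=
  (if h : i < 2 then ⟨_, gens22_mem i h⟩ else 1, MA.perm i, MB.perm i)

/-- the cover -/
noncomputable def Cov : Subgroup Amb := Subgroup.closure (gg '' Set.Iio 2)

theorem perm_eq {i : ℕ} (hi : i < 2) :
    (∀ x : MA.X, MA.perm i x = MA.mf i x) ∧ ∀ x : MB.X, MB.perm i x = MB.mf i x :=
  ⟨Mono.perm_apply objA_inj (⟨_, gens22_mem i hi⟩ : Spor.M22) fun c hc =>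
      (actA_spec i hi c hc).2,
    Mono.perm_apply objB_inj (⟨_, gens22_mem i hi⟩ : Spor.M22) fun c hc =>
      ⟨ltB_spec i hi c hc,
        setObj_act actB i hi c hc⟩⟩

theorem good_cov {x : Amb} (hx : x ∈ Cov) : MA.Good objA x.1 x.2.1 ∧ MB.Good objB x.1 x.2.2 := by
  induction hx using Subgroup.closure_induction with
  | mem x hx =>
    obtain ⟨i, hi, rfl⟩ := hx
    have hi' : i < 2 := hi
    simp only [gg, dif_pos hi']
    exact ⟨Mono.good_perm objA_inj hi' _ (fun c hc => (actA_spec i hi' c hc).2)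
        SplitVoltageCov22A.chunks,
      Mono.good_perm objB_inj hi' _ (fun c hc =>
        ⟨ltB_spec i hi' c hc,
          setObj_act actB i hi' c hc⟩) SplitVoltageCov22B.chunks⟩
  | one => exact ⟨Mono.good_one, Mono.good_one⟩
  | mul x y _ _ hx hy => exact ⟨Mono.good_mul hx.1 hy.1, Mono.good_mul hx.2 hy.2⟩
  | inv x _ hx =>
    have e : x⁻¹ = x ^ (orderOf x - 1) := by
      apply inv_eq_of_mul_eq_one_right
      rw [← pow_succ', Nat.sub_add_cancel (orderOf_pos x), pow_orderOf_eq_one]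
    rw [e]
    exact ⟨Mono.good_pow hx.1 _, Mono.good_pow hx.2 _⟩

/-- the values of a word -/
noncomputable def evalW (M : Mono) (l : List ℕ) (c : ℕ) : ℕ × ℕ :=
  l.foldr (fun i p => (M.piF i p.1, p.2 + M.vF i p.1)) (c, 0)

/-- the check of a word -/
noncomputable def wordOK (M : Mono) (l : List ℕ) (k : ℕ) : Bool :=
  allB M.N fun c => cond (Nat.beq (evalW M l c).1 c) (Nat.beq ((evalW M l c).2 % M.m) k) false

theorem prod_apply (M : Mono) [NeZero M.m] (hp : ∀ i < 2, ∀ x : M.X, M.perm i x = M.mf i x)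
    (hlt : ∀ i < 2, ∀ c < M.N, M.piF i c < M.N) :
    ∀ l : List ℕ, (∀ i ∈ l, i < 2) → ∀ x : M.X,
      ((((l.map M.perm).prod x).1 : ℕ) = (evalW M l x.1).1 ∧
        ((l.map M.perm).prod x).2 = x.2 + ((evalW M l x.1).2 : ZMod M.m))
  | [], _, x => by simp [evalW]
  | i :: l, hl, x => by
    have hi := hl i List.mem_cons_self
    obtain ⟨h1, h2⟩ := prod_apply M hp hlt l (fun j hj => hl j (List.mem_cons_of_mem _ hj)) x
    rw [List.map_cons, List.prod_cons, Equiv.Perm.mul_apply, hp i hi]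
    generalize (l.map M.perm).prod x = y at h1 h2
    obtain ⟨yc, ya⟩ := y
    simp only at h1 h2
    refine ⟨?_, ?_⟩
    · show M.piF i yc % M.N = _
      rw [Nat.mod_eq_of_lt (hlt i hi yc yc.2), h1]
      rfl
    · show ya + (M.vF i yc : ZMod M.m) = _
      rw [h2, h1, show (evalW M (i :: l) x.1).2 = (evalW M l x.1).2 + M.vF i (evalW M l x.1).1 from
        rfl, Nat.cast_add, add_assoc]

theorem prod_shift {M : Mono} [NeZero M.m] (hp : ∀ i < 2, ∀ x : M.X, M.perm i x = M.mf i x)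
    (hlt : ∀ i < 2, ∀ c < M.N, M.piF i c < M.N) {l : List ℕ} (hl : ∀ i ∈ l, i < 2) {k : ℕ}
    (h : wordOK M l k = true) (x : M.X) :
    (l.map M.perm).prod x = (x.1, x.2 + (k : ZMod M.m)) := by
  obtain ⟨h1, h2⟩ := prod_apply M hp hlt l hl x
  have hc := allB_spec h x.1 x.1.2
  simp only [Bool.cond_eq_ite, Bool.if_false_right, Bool.and_eq_true, decide_eq_true_eq,
    Nat.beq_eq] at hc
  refine Prod.ext (Fin.ext (h1.trans hc.1)) (h2.trans ?_)
  show x.2 + _ = x.2 + _
  rw [← hc.2, ZMod.natCast_mod]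

theorem pow_shift {M : Mono} {s : Equiv.Perm M.X} {k : ZMod M.m}
    (h : ∀ x : M.X, s x = (x.1, x.2 + k)) : ∀ (j : ℕ) (x : M.X), (s ^ j) x = (x.1, x.2 + j • k)
  | 0, x => by simp
  | j + 1, x => by
    rw [pow_succ', Equiv.Perm.mul_apply, pow_shift h j x, h, succ_nsmul, add_assoc]

theorem gg_word : ∀ l : List ℕ, (∀ i ∈ l, i < 2) →
    (l.map gg).prod.1.1 = ((l.map fun i => gensP.getD i 0).map permOf).prod ∧
      (l.map gg).prod.2.1 = (l.map MA.perm).prod ∧ (l.map gg).prod.2.2 = (l.map MB.perm).prod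
  | [], _ => ⟨rfl, rfl, rfl⟩
  | i :: l, hl => by
    obtain ⟨h1, h2, h3⟩ := gg_word l fun j hj => hl j (List.mem_cons_of_mem _ hj)
    simp only [List.map_cons, List.prod_cons, Prod.fst_mul, Prod.snd_mul, Subgroup.coe_mul, h1, h2,
      h3]
    refine ⟨?_, rfl, rfl⟩
    rw [gg, dif_pos (hl i List.mem_cons_self)]

theorem gg_mem {i : ℕ} (hi : i < 2) : gg i ∈ Cov := Subgroup.subset_closure ⟨i, hi, rfl⟩

/-- the generators of the cover -/
noncomputable def cg (i : ℕ) : Cov := if h : i < 2 then ⟨_, gg_mem h⟩ else 1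

theorem cg_word : ∀ l : List ℕ, (∀ i ∈ l, i < 2) →
    (((l.map cg).prod : Cov) : Amb) = (l.map gg).prod
  | [], _ => rfl
  | i :: l, hl => by
    rw [List.map_cons, List.prod_cons, Subgroup.coe_mul,
      cg_word l fun j hj => hl j (List.mem_cons_of_mem _ hj), cg, dif_pos (hl i List.mem_cons_self),
      List.map_cons, List.prod_cons]

theorem of_word : ∀ l : List ℕ, (∀ i ∈ l, i < 2) →
    Abelianization.of (l.map cg).prod =
      (Abelianization.of (cg 0)) ^ l.count 0 * (Abelianization.of (cg 1)) ^ l.count 1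
  | [], _ => by simp
  | i :: l, hl => by
    rw [List.map_cons, List.prod_cons, map_mul,
      of_word l fun j hj => hl j (List.mem_cons_of_mem _ hj)]
    obtain rfl | rfl : i = 0 ∨ i = 1 := by have := hl i List.mem_cons_self; omega
    · rw [List.count_cons_self, List.count_cons_of_ne (by norm_num), pow_succ']
      exact (mul_assoc _ _ _).symm
    · rw [List.count_cons_self, List.count_cons_of_ne (by norm_num), pow_succ']
      exact mul_left_comm _ _ _

theorem word_value {l : List ℕ} (hl : ∀ i ∈ l, i < 2)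
    (hid : isId (l.map fun i => gensP.getD i 0) = true)
    {kA kB : ℕ} (hA : wordOK MA l kA = true) (hB : wordOK MB l kB = true) :
    ((l.map cg).prod : Amb).1 = 1 ∧
      (∀ x : MA.X, ((l.map cg).prod : Amb).2.1 x = (x.1, x.2 + (kA : ZMod MA.m))) ∧
      ∀ x : MB.X, ((l.map cg).prod : Amb).2.2 x = (x.1, x.2 + (kB : ZMod MB.m)) := by
  rw [cg_word l hl]
  obtain ⟨h1, h2, h3⟩ := gg_word l hl
  refine ⟨Subtype.ext (h1.trans ?_), fun x => ?_, fun x => ?_⟩
  · refine (prod_eq_one_iff (l := l.map fun i => gensP.getD i 0) ?_).2 hid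
    intro T hT
    obtain ⟨i, hi, rfl⟩ := List.mem_map.1 hT
    exact gens22_valid i (hl i hi)
  · rw [h2]
    exact prod_shift (fun i hi => (perm_eq hi).1) (fun i hi c hc => (actA_spec i hi c hc).2.1) hl hA x
  · rw [h3]
    exact prod_shift (fun i hi => (perm_eq hi).2) (fun i hi c hc =>
      ltB_spec i hi c hc)
      hl hB x

theorem eq_of_shift {x y : Cov} (h1 : (x : Amb).1 = (y : Amb).1) {a : ZMod MA.m} {b : ZMod MB.m}
    (hxA : ∀ p : MA.X, (x : Amb).2.1 p = (p.1, p.2 + a))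
    (hyA : ∀ p : MA.X, (y : Amb).2.1 p = (p.1, p.2 + a))
    (hxB : ∀ p : MB.X, (x : Amb).2.2 p = (p.1, p.2 + b))
    (hyB : ∀ p : MB.X, (y : Amb).2.2 p = (p.1, p.2 + b)) : x = y :=
  Subtype.ext <| Prod.ext h1 <| Prod.ext (Equiv.ext fun p => (hxA p).trans (hyA p).symm)
    (Equiv.ext fun p => (hxB p).trans (hyB p).symm)

theorem shift_comm {M : Mono} [NeZero M.m] {G α : Type} [Group G] [MulAction G α] {obj : ℕ → α}
    {g : G} {s : Equiv.Perm M.X} (h : M.Good obj g s) (k : ZMod M.m) (x : M.X) :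
    s (x.1, x.2 + k) = ((s x).1, (s x).2 + k) := by
  have key : ∀ j : ℕ, s (x.1, x.2 + (j : ZMod M.m)) = ((s x).1, (s x).2 + (j : ZMod M.m)) := by
    intro j
    induction j with
    | zero => simp
    | succ j ih =>
      rw [Nat.cast_succ, ← add_assoc, h.1 (x.1, x.2 + (j : ZMod M.m)), ih]
      exact Prod.ext rfl (add_assoc _ _ _)
  simpa using key k.val

/-- the projection -/
noncomputable def covHom : Cov →* Spor.M22 := (MonoidHom.fst _ _).comp Cov.subtype

theorem zWord_lt : ∀ i ∈ zWord, i < 2 := by decide +kernel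

/-- the generator of the kernel -/
noncomputable def zz : Cov := (zWord.map cg).prod

theorem zz_id : isId (zWord.map fun i => gensP.getD i 0) = true := by decide +kernel

theorem zz_A : wordOK MA zWord 3 = true := by decide +kernel

theorem zz_B : wordOK MB zWord 2 = true := by decide +kernel

theorem zz_pow (j : ℕ) : ((zz ^ j : Cov) : Amb).1 = 1 ∧
    (∀ x : MA.X, ((zz ^ j : Cov) : Amb).2.1 x = (x.1, x.2 + j • ((3 : ℕ) : ZMod MA.m))) ∧
    ∀ x : MB.X, ((zz ^ j : Cov) : Amb).2.2 x = (x.1, x.2 + j • ((2 : ℕ) : ZMod MB.m)) := by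
  obtain ⟨hz1, hzA, hzB⟩ := word_value zWord_lt zz_id zz_A zz_B
  rw [Subgroup.coe_pow, Prod.pow_fst, Prod.pow_snd, Prod.pow_fst, Prod.pow_snd,
    show ((zz : Cov) : Amb).1 = 1 from hz1, one_pow]
  exact ⟨rfl, pow_shift hzA j, pow_shift hzB j⟩

theorem zz_ker : ∀ x : Cov, covHom x = 1 → ∃ j < 12, x = zz ^ j := by
  intro x hx
  have h1 : (x : Amb).1 = 1 := hx
  obtain ⟨gA, gB⟩ := good_cov x.2
  rw [h1] at gA gB
  obtain ⟨a, ha⟩ := Mono.good_ker (show 0 < MA.N from by norm_num [MA, SplitVoltageCov22A.mono])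
    objA_inj SplitVoltageCov22A.tree gA
  obtain ⟨b, hb⟩ := Mono.good_ker (show 0 < MB.N from by norm_num [MB, SplitVoltageCov22B.mono])
    objB_inj SplitVoltageCov22B.tree gB
  have key : ∀ a : ZMod 4, ∀ b : ZMod 3, ∃ j : Fin 12,
      (j : ℕ) • ((3 : ℕ) : ZMod 4) = a ∧ (j : ℕ) • ((2 : ℕ) : ZMod 3) = b := by decide +kernel
  obtain ⟨j, hja, hjb⟩ := key a b
  refine ⟨j, j.2, eq_of_shift (h1.trans (zz_pow j).1.symm) ha ?_ hb ?_⟩
  · exact fun p => ((zz_pow j).2.1 p).trans (Prod.ext rfl (congrArg (p.2 + ·) hja))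
  · exact fun p => ((zz_pow j).2.2 p).trans (Prod.ext rfl (congrArg (p.2 + ·) hjb))

theorem zz_ne : ∀ j < 12, zz ^ j = 1 → j = 0 := by
  intro j hj e
  have hA := (zz_pow j).2.1 (⟨0, by norm_num [MA, SplitVoltageCov22A.mono]⟩, 0)
  have hB := (zz_pow j).2.2 (⟨0, by norm_num [MB, SplitVoltageCov22B.mono]⟩, 0)
  rw [e] at hA hB
  have eA := congrArg Prod.snd hA
  have eB := congrArg Prod.snd hB
  have key : ∀ j : Fin 12, (0 : ZMod 4) = 0 + (j : ℕ) • ((3 : ℕ) : ZMod 4) →
      (0 : ZMod 3) = 0 + (j : ℕ) • ((2 : ℕ) : ZMod 3) → (j : ℕ) = 0 := by decide +kernel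
  exact key ⟨j, hj⟩ eA eB

theorem zz_twelve : zz ^ 12 = 1 := by
  have key : (12 : ℕ) • ((3 : ℕ) : ZMod 4) = 0 ∧ (12 : ℕ) • ((2 : ℕ) : ZMod 3) = 0 := by
    decide +kernel
  refine eq_of_shift (y := 1) ((zz_pow 12).1) (a := 0) (b := 0) ?_ ?_ ?_ ?_
  · exact fun p => ((zz_pow 12).2.1 p).trans (Prod.ext rfl (congrArg (p.2 + ·) key.1))
  · exact fun p => Prod.ext rfl (add_zero p.2).symm
  · exact fun p => ((zz_pow 12).2.2 p).trans (Prod.ext rfl (congrArg (p.2 + ·) key.2))
  · exact fun p => Prod.ext rfl (add_zero p.2).symm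

theorem zz_comm : zz ∈ commutator Cov := by
  rw [← Abelianization.ker_of, MonoidHom.mem_ker]
  set a0 := Abelianization.of (cg 0)
  set a1 := Abelianization.of (cg 1)
  have hrel : ∀ (i o : ℕ), i < 2 → isId ((List.replicate o i).map fun t => gensP.getD t 0) = true →
      wordOK MA (List.replicate o i) 0 = true → wordOK MB (List.replicate o i) 0 = true →
      cg i ^ o = 1 := by
    intro i o hi h1 h2 h3
    obtain ⟨u1, u2, u3⟩ :=
      word_value (fun t ht => (List.eq_of_mem_replicate ht).symm ▸ hi) h1 h2 h3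
    rw [← List.prod_replicate, ← List.map_replicate]
    refine eq_of_shift (y := 1) u1 (a := 0) (b := 0) ?_ ?_ ?_ ?_
    · exact fun p => (u2 p).trans (Prod.ext rfl (congrArg (p.2 + ·) Nat.cast_zero))
    · exact fun p => Prod.ext rfl (add_zero p.2).symm
    · exact fun p => (u3 p).trans (Prod.ext rfl (congrArg (p.2 + ·) Nat.cast_zero))
    · exact fun p => Prod.ext rfl (add_zero p.2).symm
  have h0 : a0 ^ 11 = 1 := by
    rw [← map_pow, hrel 0 11 (by norm_num) (by decide +kernel) (by decide +kernel)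
      (by decide +kernel), map_one]
  have h1 : a1 ^ 7 = 1 := by
    rw [← map_pow, hrel 1 7 (by norm_num) (by decide +kernel) (by decide +kernel)
      (by decide +kernel), map_one]
  have e : Abelianization.of zz = a0 ^ 91 := by
    rw [zz, of_word zWord zWord_lt, show zWord.count 0 = 91 by decide +kernel,
      show zWord.count 1 = 7 * 3 by decide +kernel, pow_mul, h1, one_pow, mul_one]
  have h2 : (a0 ^ 91) ^ 12 = 1 := by rw [← e, ← map_pow, zz_twelve, map_one]
  rw [← pow_mul] at h2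
  have h3 : a0 ^ Nat.gcd (91 * 12) 11 = 1 := pow_gcd_eq_one.2 ⟨h2, h0⟩
  rw [e, show a0 = 1 by simpa using h3, one_pow]

theorem hasCover : ∃ (Γ : Type) (_ : Group Γ) (_ : Finite Γ) (σ : Γ →* Spor.M22),
    Cfsg.IsStemExtension σ ∧ Nonempty (σ.ker ≃* Multiplicative (ZMod 12)) := by
  refine ⟨Cov, inferInstance, inferInstance, covHom, ⟨?_, ?_, ?_⟩, ?_⟩
  · rw [← MonoidHom.range_eq_top]
    refine gens22_top _ fun i hi => ⟨cg i, ?_⟩
    show ((cg i : Cov) : Amb).1 = _
    rw [cg, dif_pos hi]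
    show (gg i).1 = _
    rw [gg, dif_pos hi]
  · intro x hx
    rw [Subgroup.mem_center_iff]
    intro y
    obtain ⟨j, -, rfl⟩ := zz_ker x hx
    obtain ⟨gA, gB⟩ := good_cov y.2
    obtain ⟨e1, eA, eB⟩ := zz_pow j
    apply Subtype.ext
    rw [Subgroup.coe_mul, Subgroup.coe_mul]
    refine Prod.ext (by rw [Prod.fst_mul, Prod.fst_mul, e1, one_mul, mul_one]) (Prod.ext (Equiv.ext fun p => ?_) (Equiv.ext fun p => ?_))
    · show (y : Amb).2.1 (((zz ^ j : Cov) : Amb).2.1 p) = ((zz ^ j : Cov) : Amb).2.1 ((y : Amb).2.1 p)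
      rw [eA, eA]
      exact shift_comm gA _ p
    · show (y : Amb).2.2 (((zz ^ j : Cov) : Amb).2.2 p) = ((zz ^ j : Cov) : Amb).2.2 ((y : Amb).2.2 p)
      rw [eB, eB]
      exact shift_comm gB _ p
  · intro x hx
    obtain ⟨j, -, rfl⟩ := zz_ker x hx
    exact pow_mem zz_comm j
  · have hzk : zz ∈ covHom.ker := by simpa using (show covHom (zz ^ 1) = 1 from (zz_pow 1).1)
    have hord : orderOf zz = 12 := by
      rw [orderOf_eq_iff (by norm_num)]
      exact ⟨zz_twelve, fun m hm hm0 e => absurd (zz_ne m hm e) hm0.ne'⟩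
    have hk : covHom.ker = Subgroup.zpowers zz := by
      refine le_antisymm (fun x hx => ?_) ((Subgroup.zpowers_le).2 hzk)
      obtain ⟨j, -, rfl⟩ := zz_ker x hx
      exact pow_mem (Subgroup.mem_zpowers zz) j
    haveI : IsCyclic covHom.ker := hk ▸ inferInstance
    exact ⟨mulEquivOfCyclicCardEq (by
      rw [hk, Nat.card_zpowers, hord, show Nat.card (Multiplicative (ZMod 12)) = 12 from
        Nat.card_zmod 12])⟩

end Cfsg.Agent.SplitVoltageM22Cover
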