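import Cfsg.Agent.Lib.SplitVoltageCert

/-!
Certificate data: voltages M22L.
-/

set_option autoImplicit false
set_option maxRecDepth 100000

namespace Cfsg.Agent.SplitVoltageM22LData

open Cfsg.Agent.SplitVoltageCert

/-- table part -/
def nxT_1 : Tr :=
  .nd (.nd (.nd (.nd (.nd (.nd (.lf 1) (.lf 306)) (.nd (.lf 139) (.lf 0))) (.nd (.nd (.lf 115) (.lf 63)) (.nd (.lf 273) (.lf 0)))) (.nd (.nd (.nd (.lf 62) (.lf 197)) (.nd (.lf 243) (.lf 0))) (.nd (.nd (.lf 14) (.lf 0)) (.nd (.lf 280) (.lf 0))))) (.nd (.nd (.nd (.nd (.lf 33) (.lf 247)) (.nd (.lf 121) (.lf 0))) (.nd (.nd (.lf 141) (.lf 0)) (.nd (.lf 22) (.lf 0)))) (.nd (.nd (.nd (.lf 87) (.lf 327)) (.nd (.lf 258) (.lf 0))) (.nd (.nd (.lf 187) (.lf 0)) (.nd (.lf 291) (.lf 0)))))) (.nd (.nd (.nd (.nd (.nd (.lf 17) (.lf 190)) (.nd (.lf 217) (.lf 0))) (.nd (.nd (.lf 128) (.lf 225)) (.nd (.lf 279) (.lf 0)))) (.nd (.nd (.nd (.lf 74) (.lf 313)) (.nd (.lf 249) (.lf 0))) (.nd (.nd (.lf 178) (.lf 0)) (.nd (.lf 295) (.lf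 0))))) (.nd (.nd (.nd (.nd (.lf 47) (.lf 119)) (.nd (.lf 234) (.lf 0))) (.nd (.nd (.lf 155) (.lf 0)) (.nd (.lf 252) (.lf 0)))) (.nd (.nd (.nd (.lf 101) (.lf 309)) (.nd (.lf 265) (.lf 0))) (.nd (.nd (.lf 200) (.lf 0)) (.nd (.lf 266) (.lf 0))))))

/-- table part -/
def nxT_2 : Tr :=
  .nd (.nd (.nd (.nd (.nd (.nd (.lf 9) (.lf 96)) (.nd (.lf 114) (.lf 0))) (.nd (.nd (.lf 122) (.lf 321)) (.nd (.lf 277) (.lf 0)))) (.nd (.nd (.nd (.lf 61) (.lf 215)) (.nd (.lf 165) (.lf 0))) (.nd (.nd (.lf 172) (.lf 0)) (.nd (.lf 281) (.lf 0))))) (.nd (.nd (.nd (.nd (.lf 41) (.lf 81)) (.nd (.lf 229) (.lf 0))) (.nd (.nd (.lf 149) (.lf 0)) (.nd (.lf 259) (.lf 0)))) (.nd (.nd (.nd (.lf 93) (.lf 211)) (.nd (.lf 263) (.lf 0))) (.nd (.nd (.lf 194) (.lf 0)) (.nd (.lf 274) (.lf 0)))))) (.nd (.nd (.nd (.nd (.nd (.lf 25) (.lf 311)) (.nd (.lf 221) (.lf 0))) (.nd (.nd (.lf 30) (.lf 0)) (.nd (.lf 282) (.lf 0)))) (.nd (.nd (.nd (.lf 82) (.lf 322)) (.nd (.lf 253) (.lf 0))) (.nd (.nd (.lf 182)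 (.lf 0)) (.nd (.lf 53) (.lf 0))))) (.nd (.nd (.nd (.nd (.lf 54) (.lf 297)) (.nd (.lf 240) (.lf 0))) (.nd (.nd (.lf 162) (.lf 0)) (.nd (.lf 179) (.lf 0)))) (.nd (.nd (.nd (.lf 109) (.lf 304)) (.nd (.lf 270) (.lf 0))) (.nd (.nd (.lf 205) (.lf 0)) (.nd (.lf 142) (.lf 0))))))

/-- table part -/
def nxT_3 : Tr :=
  .nd nxT_1 nxT_2

/-- table part -/
def nxT_4 : Tr :=
  .nd (.nd (.nd (.nd (.nd (.nd (.lf 5) (.lf 206)) (.nd (.lf 108) (.lf 0))) (.nd (.nd (.lf 24) (.lf 325)) (.nd (.lf 2) (.lf 0)))) (.nd (.nd (.nd (.lf 65) (.lf 36)) (.nd (.lf 245) (.lf 0))) (.nd (.nd (.lf 146) (.lf 0)) (.nd (.lf 79) (.lf 0))))) (.nd (.nd (.nd (.nd (.lf 37) (.lf 314)) (.nd (.lf 8) (.lf 0))) (.nd (.nd (.lf 145) (.lf 0)) (.nd (.lf 269) (.lf 0)))) (.nd (.nd (.nd (.lf 89) (.lf 307)) (.nd (.lf 195) (.lf 0))) (.nd (.nd (.lf 191) (.lf 0)) (.nd (.lf 301) (.lf 0)))))) (.nd (.nd (.nd (.nd (.nd (.lf 21) (.lf 40)) (.nd (.lf 220) (.lf 0))) (.nd (.nd (.lf 6) (.lf 0)) (.nd (.lf 264) (.lf 0)))) (.nd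 (.nd (.nd (.lf 78) (.lf 233)) (.nd (.lf 251) (.lf 0))) (.nd (.nd (.lf 144) (.lf 0)) (.nd (.lf 16) (.lf 0))))) (.nd (.nd (.nd (.nd (.lf 51) (.lf 317)) (.nd (.lf 238) (.lf 0))) (.nd (.nd (.lf 158) (.lf 0)) (.nd (.lf 260) (.lf 0)))) (.nd (.nd (.nd (.lf 105) (.lf 298)) (.nd (.lf 50) (.lf 0))) (.nd (.nd (.lf 159) (.lf 0)) (.nd (.lf 43) (.lf 0))))))

/-- table part -/
def nxT_5 : Tr :=
  .nd (.nd (.nd (.nd (.nd (.nd (.lf 13) (.lf 308)) (.nd (.lf 214) (.lf 0))) (.nd (.nd (.lf 59) (.lf 328)) (.nd (.lf 276) (.lf 0)))) (.nd (.nd (.nd (.lf 66) (.lf 98)) (.nd (.lf 148) (.lf 0))) (.nd (.nd (.lf 175) (.lf 0)) (.nd (.lf 90) (.lf 0))))) (.nd (.nd (.nd (.nd (.lf 44) (.lf 199)) (.nd (.lf 134) (.lf 0))) (.nd (.nd (.lf 152) (.lf 0)) (.nd (.lf 112) (.lf 0)))) (.nd (.nd (.nd (.lf 97) (.lf 250)) (.nd (.lf 262) (.lf 0))) (.nd (.nd (.lf 34) (.lf 0)) (.nd (.lf 275) (.lf 0)))))) (.nd (.nd (.nd (.nd (.nd (.lf 29) (.lf 0)) (.nd (.lf 224) (.lf 0))) (.nd (.nd (.lf 138) (.lf 0)) (.nd (.lf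 242) (.lf 0)))) (.nd (.nd (.nd (.lf 18) (.lf 186)) (.nd (.lf 222) (.lf 0))) (.nd (.nd (.lf 184) (.lf 0)) (.nd (.lf 32) (.lf 0))))) (.nd (.nd (.nd (.nd (.lf 58) (.lf 38)) (.nd (.lf 241) (.lf 0))) (.nd (.nd (.lf 77) (.lf 0)) (.nd (.lf 289) (.lf 0)))) (.nd (.nd (.nd (.lf 113) (.lf 125)) (.nd (.lf 163) (.lf 0))) (.nd (.nd (.lf 207) (.lf 0)) (.nd (.lf 137) (.lf 0))))))

/-- table part -/
def nxT_6 : Tr :=
  .nd nxT_4 nxT_5

/-- table part -/
def nxT_7 : Tr :=
  .nd nxT_3 nxT_6

/-- table part -/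
def nxT_8 : Tr :=
  .nd (.nd (.nd (.nd (.nd (.nd (.lf 3) (.lf 92)) (.nd (.lf 203) (.lf 0))) (.nd (.nd (.lf 117) (.lf 278)) (.nd (.lf 209) (.lf 0)))) (.nd (.nd (.nd (.lf 64) (.lf 256)) (.nd (.lf 244) (.lf 0))) (.nd (.nd (.lf 167) (.lf 0)) (.nd (.lf 161) (.lf 0))))) (.nd (.nd (.nd (.nd (.lf 35) (.lf 312)) (.nd (.lf 226) (.lf 0))) (.nd (.nd (.lf 143) (.lf 0)) (.nd (.lf 57) (.lf 0)))) (.nd (.nd (.nd (.lf 88) (.lf 267)) (.nd (.lf 129) (.lf 0))) (.nd (.nd (.lf 189) (.lf 0)) (.nd (.lf 300) (.lf 0)))))) (.nd (.nd (.nd (.nd (.nd (.lf 19) (.lf 100)) (.nd (.lf 219) (.lf 0))) (.nd (.nd (.lf 130) (.lf 290)) (.nd (.lf 237) (.lf 0)))) (.nd (.nd (.nd (.lf 76) (.lf 106)) (.nd (.lf 153) (.lf 0))) (.nd (.nd (.lf 180) (.lf 0)) (.nd (.lf 296) (.lf 0))))) (.nd (.nd (.nd (.nd (.lf 49) (.lf 283)) (.nd (.lf 236) (.lf 0))) (.nd (.nd (.lf 157) (.lf 0)) (.nd (.lf 287) (.lf 0)))) (.nd (.nd (.nd (.lf 103) (.lf 326)) (.nd (.lf 239) (.lf 0))) (.nd (.nd (.lf 202) (.lf 0)) (.nd (.lf 171)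 (.lf 0))))))

/-- table part -/
def nxT_9 : Tr :=
  .nd (.nd (.nd (.nd (.nd (.nd (.lf 11) (.lf 104)) (.nd (.lf 193) (.lf 0))) (.nd (.nd (.lf 124) (.lf 318)) (.nd (.lf 212) (.lf 0)))) (.nd (.nd (.nd (.lf 70) (.lf 320)) (.nd (.lf 248) (.lf 0))) (.nd (.nd (.lf 173) (.lf 0)) (.nd (.lf 72) (.lf 0))))) (.nd (.nd (.nd (.nd (.lf 42) (.lf 185)) (.nd (.lf 230) (.lf 0))) (.nd (.nd (.lf 127) (.lf 0)) (.nd (.lf 284) (.lf 0)))) (.nd (.nd (.nd (.lf 95) (.lf 86)) (.nd (.lf 116) (.lf 0))) (.nd (.nd (.lf 196) (.lf 0)) (.nd (.lf 302) (.lf 0)))))) (.nd (.nd (.nd (.nd (.nd (.lf 27) (.lf 118)) (.nd (.lf 55) (.lf 0))) (.nd (.nd (.lf 136) (.lf 0)) (.nd (.lf 132) (.lf 0)))) (.nd (.nd (.nd (.lf 83) (.lf 69)) (.nd (.lf 254) (.lf 0))) (.nd (.nd (.lf 183) (.lf 0)) (.nd (.lf 75) (.lf 0))))) (.nd (.nd (.nd (.nd (.lf 56) (.lf 316)) (.nd (.lf 102) (.lf 0))) (.nd (.nd (.lf 164) (.lf 0)) (.nd (.lf 85) (.lf 0)))) (.nd (.nd (.nd (.lf 111) (.lf 329)) (.nd (.lf 272) (.lf 0))) (.nd (.nd (.lf 84)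 (.lf 0)) (.nd (.lf 303) (.lf 0))))))

/-- table part -/
def nxT_10 : Tr :=
  .nd nxT_8 nxT_9

/-- table part -/
def nxT_11 : Tr :=
  .nd (.nd (.nd (.nd (.nd (.nd (.lf 7) (.lf 94)) (.nd (.lf 213) (.lf 0))) (.nd (.nd (.lf 120) (.lf 156)) (.nd (.lf 10) (.lf 0)))) (.nd (.nd (.nd (.lf 67) (.lf 324)) (.nd (.lf 131) (.lf 0))) (.nd (.nd (.lf 170) (.lf 0)) (.nd (.lf 181) (.lf 0))))) (.nd (.nd (.nd (.nd (.lf 39) (.lf 285)) (.nd (.lf 227) (.lf 0))) (.nd (.nd (.lf 147) (.lf 0)) (.nd (.lf 4) (.lf 0)))) (.nd (.nd (.nd (.lf 91) (.lf 315)) (.nd (.lf 261) (.lf 0))) (.nd (.nd (.lf 192) (.lf 0)) (.nd (.lf 271) (.lf 0)))))) (.nd (.nd (.nd (.nd (.nd (.lf 23) (.lf 310)) (.nd (.lf 169) (.lf 0))) (.nd (.nd (.lf 133) (.lf 0)) (.nd (.lf 201) (.lf 0)))) (.nd (.nd (.nd (.lf 80) (.lf 210)) (.nd (.lf 204) (.lf 0))) (.nd (.nd (.lf 12) (.lf 0)) (.nd (.lf 68) (.lf 0))))) (.nd (.nd (.nd (.nd (.lf 52) (.lf 319)) (.nd (.lf 46) (.lf 0))) (.nd (.nd (.lf 160) (.lf 0)) (.nd (.lf 218) (.lf 0))))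 (.nd (.nd (.nd (.lf 107) (.lf 223)) (.nd (.lf 246) (.lf 0))) (.nd (.nd (.lf 28) (.lf 0)) (.nd (.lf 305) (.lf 0))))))

/-- table part -/
def nxT_12 : Tr :=
  .nd (.nd (.nd (.nd (.nd (.nd (.lf 15) (.lf 293)) (.nd (.lf 216) (.lf 0))) (.nd (.nd (.lf 126) (.lf 150)) (.nd (.lf 151) (.lf 0)))) (.nd (.nd (.nd (.lf 73) (.lf 323)) (.nd (.lf 228) (.lf 0))) (.nd (.nd (.lf 177) (.lf 0)) (.nd (.lf 294) (.lf 0))))) (.nd (.nd (.nd (.nd (.lf 45) (.lf 231)) (.nd (.lf 232) (.lf 0))) (.nd (.nd (.lf 154) (.lf 0)) (.nd (.lf 123) (.lf 0)))) (.nd (.nd (.nd (.lf 99) (.lf 288)) (.nd (.lf 188) (.lf 0))) (.nd (.nd (.lf 198) (.lf 0)) (.nd (.lf 255) (.lf 0)))))) (.nd (.nd (.nd (.nd (.nd (.lf 31) (.lf 286)) (.nd (.lf 135) (.lf 0))) (.nd (.nd (.lf 140) (.lf 0)) (.nd (.lf 174) (.lf 0)))) (.nd (.nd (.nd (.lf 26) (.lf 235)) (.nd (.lf 257) (.lf 0))) (.nd (.nd (.lf 168) (.lf 0)) (.nd (.lf 299) (.lf 0))))) (.nd (.nd (.nd (.nd (.lf 60) (.lf 268)) (.nd (.lf 110) (.lf 0))) (.nd (.nd (.lf 166) (.lf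 0)) (.nd (.lf 71) (.lf 0)))) (.nd (.nd (.nd (.lf 20) (.lf 292)) (.nd (.lf 176) (.lf 0))) (.nd (.nd (.lf 208) (.lf 0)) (.nd (.lf 48) (.lf 0))))))

/-- table part -/
def nxT_13 : Tr :=
  .nd nxT_11 nxT_12

/-- table part -/
def nxT_14 : Tr :=
  .nd nxT_10 nxT_13

/-- table part -/
def nxT_15 : Tr :=
  .nd nxT_7 nxT_14

/-- table part -/
def nxT_16 : Tr :=
  .nd (.nd (.nd (.nd (.nd (.nd (.lf 2) (.lf 149)) (.nd (.lf 210) (.lf 0))) (.nd (.nd (.lf 116) (.lf 287)) (.nd (.lf 274) (.lf 0)))) (.nd (.nd (.nd (.lf 63) (.lf 245)) (.nd (.lf 167) (.lf 0))) (.nd (.nd (.lf 13) (.lf 0)) (.nd (.lf 187) (.lf 0))))) (.nd (.nd (.nd (.nd (.lf 34) (.lf 76)) (.nd (.lf 184) (.lf 0))) (.nd (.nd (.lf 142) (.lf 0)) (.nd (.lf 230) (.lf 0)))) (.nd (.nd (.nd (.lf 54) (.lf 306)) (.nd (.lf 259) (.lf 0))) (.nd (.nd (.lf 188) (.lf 0)) (.nd (.lf 143) (.lf 0)))))) (.nd (.nd (.nd (.nd (.nd (.lf 18) (.lf 272)) (.nd (.lf 218) (.lf 0))) (.nd (.nd (.lf 129) (.lf 29)) (.nd (.lf 208) (.lf 0)))) (.nd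 (.nd (.nd (.lf 75) (.lf 37)) (.nd (.lf 250) (.lf 0))) (.nd (.nd (.lf 179) (.lf 0)) (.nd (.lf 82) (.lf 0))))) (.nd (.nd (.nd (.nd (.lf 48) (.lf 180)) (.nd (.lf 235) (.lf 0))) (.nd (.nd (.lf 156) (.lf 0)) (.nd (.lf 115) (.lf 0)))) (.nd (.nd (.nd (.lf 102) (.lf 319)) (.nd (.lf 266) (.lf 0))) (.nd (.nd (.lf 201) (.lf 0)) (.nd (.lf 232) (.lf 0))))))

/-- table part -/
def nxT_17 : Tr :=
  .nd (.nd (.nd (.nd (.nd (.nd (.lf 10) (.lf 299)) (.nd (.lf 136) (.lf 0))) (.nd (.nd (.lf 123) (.lf 284)) (.nd (.lf 224) (.lf 0)))) (.nd (.nd (.nd (.lf 69) (.lf 89)) (.nd (.lf 247) (.lf 0))) (.nd (.nd (.lf 27) (.lf 0)) (.nd (.lf 292) (.lf 0))))) (.nd (.nd (.nd (.nd (.lf 19) (.lf 141)) (.nd (.lf 97) (.lf 0))) (.nd (.nd (.lf 150) (.lf 0)) (.nd (.lf 254) (.lf 0)))) (.nd (.nd (.nd (.lf 94) (.lf 158)) (.nd (.lf 263) (.lf 0))) (.nd (.nd (.lf 195) (.lf 0)) (.nd (.lf 170) (.lf 0)))))) (.nd (.nd (.nd (.nd (.nd (.lf 26) (.lf 308)) (.nd (.lf 222) (.lf 0))) (.nd (.nd (.lf 135) (.lf 0)) (.nd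 (.lf 5) (.lf 0)))) (.nd (.nd (.nd (.lf 67) (.lf 49)) (.nd (.lf 194) (.lf 0))) (.nd (.nd (.lf 0) (.lf 0)) (.nd (.lf 244) (.lf 0))))) (.nd (.nd (.nd (.nd (.lf 55) (.lf 320)) (.nd (.lf 238) (.lf 0))) (.nd (.nd (.lf 163) (.lf 0)) (.nd (.lf 178) (.lf 0)))) (.nd (.nd (.nd (.lf 110) (.lf 154)) (.nd (.lf 271) (.lf 0))) (.nd (.nd (.lf 88) (.lf 0)) (.nd (.lf 80) (.lf 0))))))

/-- table part -/
def nxT_18 : Tr :=
  .nd nxT_16 nxT_17

/-- table part -/
def nxT_19 : Tr :=
  .nd (.nd (.nd (.nd (.nd (.nd (.lf 6) (.lf 307)) (.nd (.lf 212) (.lf 0))) (.nd (.nd (.lf 119) (.lf 229)) (.nd (.lf 276) (.lf 0)))) (.nd (.nd (.nd (.lf 66) (.lf 289)) (.nd (.lf 33) (.lf 0))) (.nd (.nd (.lf 169) (.lf 0)) (.nd (.lf 213) (.lf 0))))) (.nd (.nd (.nd (.nd (.lf 38) (.lf 315)) (.nd (.lf 198) (.lf 0))) (.nd (.nd (.lf 146) (.lf 0)) (.nd (.lf 130) (.lf 0)))) (.nd (.nd (.nd (.lf 90) (.lf 83)) (.nd (.lf 260) (.lf 0))) (.nd (.nd (.lf 175) (.lf 0)) (.nd (.lf 301) (.lf 0)))))) (.nd (.nd (.nd (.nd (.nd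 (.lf 22) (.lf 39)) (.nd (.lf 52) (.lf 0))) (.nd (.nd (.lf 132) (.lf 0)) (.nd (.lf 280) (.lf 0)))) (.nd (.nd (.nd (.lf 79) (.lf 265)) (.nd (.lf 252) (.lf 0))) (.nd (.nd (.lf 181) (.lf 0)) (.nd (.lf 11) (.lf 0))))) (.nd (.nd (.nd (.nd (.lf 35) (.lf 318)) (.nd (.lf 239) (.lf 0))) (.nd (.nd (.lf 159) (.lf 0)) (.nd (.lf 253) (.lf 0)))) (.nd (.nd (.nd (.lf 106) (.lf 196)) (.nd (.lf 268) (.lf 0))) (.nd (.nd (.lf 203) (.lf 0)) (.nd (.lf 304) (.lf 0))))))

/-- table part -/
def nxT_20 : Tr :=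
  .nd (.nd (.nd (.nd (.nd (.nd (.lf 14) (.lf 309)) (.nd (.lf 215) (.lf 0))) (.nd (.nd (.lf 47) (.lf 25)) (.nd (.lf 219) (.lf 0)))) (.nd (.nd (.nd (.lf 72) (.lf 325)) (.nd (.lf 173) (.lf 0))) (.nd (.nd (.lf 176) (.lf 0)) (.nd (.lf 214) (.lf 0))))) (.nd (.nd (.nd (.nd (.lf 41) (.lf 7)) (.nd (.lf 231) (.lf 0))) (.nd (.nd (.lf 153) (.lf 0)) (.nd (.lf 286) (.lf 0)))) (.nd (.nd (.nd (.lf 98) (.lf 329)) (.nd (.lf 236) (.lf 0))) (.nd (.nd (.lf 197) (.lf 0)) (.nd (.lf 279) (.lf 0)))))) (.nd (.nd (.nd (.nd (.nd (.lf 30) (.lf 277)) (.nd (.lf 182) (.lf 0))) (.nd (.nd (.lf 139) (.lf 0)) (.nd (.lf 283) (.lf 0)))) (.nd (.nd (.nd (.lf 85) (.lf 243)) (.nd (.lf 256) (.lf 0))) (.nd (.nd (.lf 185) (.lf 0)) (.nd (.lf 205) (.lf 0))))) (.nd (.nd (.nd (.nd (.lf 59) (.lf 312)) (.nd (.lf 189) (.lf 0))) (.nd (.nd (.lf 165) (.lf 0)) (.nd (.lf 51) (.lf 0)))) (.nd (.nd (.nd (.lf 114) (.lf 124)) (.nd (.lf 128) (.lf 0))) (.nd (.nd (.lf 145) (.lf 0)) (.nd (.lf 113) (.lf 0))))))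

/-- table part -/
def nxT_21 : Tr :=
  .nd nxT_19 nxT_20

/-- table part -/
def nxT_22 : Tr :=
  .nd nxT_18 nxT_21

/-- table part -/
def nxT_23 : Tr :=
  .nd (.nd (.nd (.nd (.nd (.nd (.lf 4) (.lf 91)) (.nd (.lf 211) (.lf 0))) (.nd (.nd (.lf 118) (.lf 126)) (.nd (.lf 275) (.lf 0)))) (.nd (.nd (.nd (.lf 45) (.lf 323)) (.nd (.lf 220) (.lf 0))) (.nd (.nd (.lf 168) (.lf 0)) (.nd (.lf 290) (.lf 0))))) (.nd (.nd (.nd (.nd (.lf 36) (.lf 313)) (.nd (.lf 191) (.lf 0))) (.nd (.nd (.lf 144) (.lf 0)) (.nd (.lf 227) (.lf 0)))) (.nd (.nd (.nd (.lf 31) (.lf 240)) (.nd (.lf 162) (.lf 0))) (.nd (.nd (.lf 190) (.lf 0)) (.nd (.lf 111) (.lf 0)))))) (.nd (.nd (.nd (.nd (.nd (.lf 20) (.lf 70)) (.nd (.lf 1) (.lf 0))) (.nd (.nd (.lf 131) (.lf 164)) (.nd (.lf 261) (.lf 0)))) (.nd (.nd (.nd (.lf 77) (.lf 105)) (.nd (.lf 234) (.lf 0))) (.nd (.nd (.lf 23) (.lf 0)) (.nd (.lf 297) (.lf 0))))) (.nd (.nd (.nd (.nd (.lf 50) (.lf 109)) (.nd (.lf 237) (.lf 0))) (.nd (.nd (.lf 78) (.lf 0))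 (.nd (.lf 248) (.lf 0)))) (.nd (.nd (.nd (.lf 104) (.lf 60)) (.nd (.lf 267) (.lf 0))) (.nd (.nd (.lf 107) (.lf 0)) (.nd (.lf 273) (.lf 0))))))

/-- table part -/
def nxT_24 : Tr :=
  .nd (.nd (.nd (.nd (.nd (.nd (.lf 12) (.lf 302)) (.nd (.lf 192) (.lf 0))) (.nd (.nd (.lf 125) (.lf 314)) (.nd (.lf 202) (.lf 0)))) (.nd (.nd (.nd (.lf 71) (.lf 324)) (.nd (.lf 62) (.lf 0))) (.nd (.nd (.lf 174) (.lf 0)) (.nd (.lf 293) (.lf 0))))) (.nd (.nd (.nd (.nd (.lf 43) (.lf 120)) (.nd (.lf 73) (.lf 0))) (.nd (.nd (.lf 151) (.lf 0)) (.nd (.lf 285) (.lf 0)))) (.nd (.nd (.nd (.lf 96) (.lf 328)) (.nd (.lf 251) (.lf 0))) (.nd (.nd (.lf 74) (.lf 0)) (.nd (.lf 303) (.lf 0)))))) (.nd (.nd (.nd (.nd (.nd (.lf 28) (.lf 294)) (.nd (.lf 223) (.lf 0))) (.nd (.nd (.lf 137) (.lf 0)) (.nd (.lf 282) (.lf 0)))) (.nd (.nd (.nd (.lf 84) (.lf 326)) (.nd (.lf 255) (.lf 0))) (.nd (.nd (.lf 64) (.lf 0)) (.nd (.lf 298) (.lf 0))))) (.nd (.nd (.nd (.nd (.lf 57) (.lf 321)) (.nd (.lf 101) (.lf 0)))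 (.nd (.nd (.lf 160) (.lf 0)) (.nd (.lf 288) (.lf 0)))) (.nd (.nd (.nd (.lf 112) (.lf 310)) (.nd (.lf 241) (.lf 0))) (.nd (.nd (.lf 206) (.lf 0)) (.nd (.lf 103) (.lf 0))))))

/-- table part -/
def nxT_25 : Tr :=
  .nd nxT_23 nxT_24

/-- table part -/
def nxT_26 : Tr :=
  .nd (.nd (.nd (.nd (.nd (.nd (.lf 8) (.lf 93)) (.nd (.lf 157) (.lf 0))) (.nd (.nd (.lf 121) (.lf 305)) (.nd (.lf 122) (.lf 0)))) (.nd (.nd (.nd (.lf 68) (.lf 296)) (.nd (.lf 246) (.lf 0))) (.nd (.nd (.lf 171) (.lf 0)) (.nd (.lf 291) (.lf 0))))) (.nd (.nd (.nd (.nd (.lf 40) (.lf 316)) (.nd (.lf 228) (.lf 0))) (.nd (.nd (.lf 148) (.lf 0)) (.nd (.lf 3) (.lf 0)))) (.nd (.nd (.nd (.lf 92) (.lf 317)) (.nd (.lf 262) (.lf 0))) (.nd (.nd (.lf 193) (.lf 0)) (.nd (.lf 270) (.lf 0)))))) (.nd (.nd (.nd (.nd (.nd (.lf 24) (.lf 249)) (.nd (.lf 207) (.lf 0))) (.nd (.nd (.lf 134) (.lf 0)) (.nd (.lf 281) (.lf 0)))) (.nd (.nd (.nd (.lf 81) (.lf 257)) (.nd (.lf 172) (.lf 0))) (.nd (.nd (.lf 15) (.lf 0)) (.nd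 (.lf 295) (.lf 0))))) (.nd (.nd (.nd (.nd (.lf 53) (.lf 311)) (.nd (.lf 183) (.lf 0))) (.nd (.nd (.lf 161) (.lf 0)) (.nd (.lf 217) (.lf 0)))) (.nd (.nd (.nd (.lf 108) (.lf 87)) (.nd (.lf 269) (.lf 0))) (.nd (.nd (.lf 204) (.lf 0)) (.nd (.lf 166) (.lf 0))))))

/-- table part -/
def nxT_27 : Tr :=
  .nd (.nd (.nd (.nd (.nd (.nd (.lf 16) (.lf 65)) (.nd (.lf 95) (.lf 0))) (.nd (.nd (.lf 127) (.lf 327)) (.nd (.lf 278) (.lf 0)))) (.nd (.nd (.nd (.lf 21) (.lf 221)) (.nd (.lf 56) (.lf 0))) (.nd (.nd (.lf 117) (.lf 0)) (.nd (.lf 177) (.lf 0))))) (.nd (.nd (.nd (.nd (.lf 46) (.lf 140)) (.nd (.lf 233) (.lf 0))) (.nd (.nd (.lf 42) (.lf 0)) (.nd (.lf 9) (.lf 0)))) (.nd (.nd (.nd (.lf 100) (.lf 17)) (.nd (.lf 264) (.lf 0))) (.nd (.nd (.lf 199) (.lf 0)) (.nd (.lf 258) (.lf 0)))))) (.nd (.nd (.nd (.nd (.nd (.lf 32) (.lf 300)) (.nd (.lf 225) (.lf 0))) (.nd (.nd (.lf 133) (.lf 0)) (.nd (.lf 147) (.lf 0)))) (.nd (.nd (.nd (.lf 86) (.lf 152)) (.nd (.lf 138) (.lf 0))) (.nd (.nd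 (.lf 186) (.lf 0)) (.nd (.lf 216) (.lf 0))))) (.nd (.nd (.nd (.nd (.lf 61) (.lf 322)) (.nd (.lf 242) (.lf 0))) (.nd (.nd (.lf 155) (.lf 0)) (.nd (.lf 99) (.lf 0)))) (.nd (.nd (.nd (.lf 44) (.lf 200)) (.nd (.lf 226) (.lf 0))) (.nd (.nd (.lf 209) (.lf 0)) (.nd (.lf 58) (.lf 0))))))

/-- table part -/
def nxT_28 : Tr :=
  .nd nxT_26 nxT_27

/-- table part -/
def nxT_29 : Tr :=
  .nd nxT_25 nxT_28

/-- table part -/
def nxT_30 : Tr :=
  .nd nxT_22 nxT_29

/-- table part -/
def nxT_31 : Tr :=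
  .nd nxT_15 nxT_30

/-- table -/
def nxT : Tr :=
  nxT_31

/-- table part -/
def pvT_1 : Tr :=
  .nd (.nd (.nd (.nd (.nd (.nd (.lf 270) (.lf 289)) (.nd (.lf 72) (.lf 0))) (.nd (.nd (.lf 33) (.lf 293)) (.nd (.lf 115) (.lf 0)))) (.nd (.nd (.nd (.lf 238) (.lf 311)) (.nd (.lf 91) (.lf 0))) (.nd (.nd (.lf 260) (.lf 0)) (.nd (.lf 142) (.lf 0))))) (.nd (.nd (.nd (.nd (.lf 234) (.lf 189)) (.nd (.lf 106) (.lf 0))) (.nd (.nd (.lf 43) (.lf 0)) (.nd (.lf 127) (.lf 0)))) (.nd (.nd (.nd (.lf 255) (.lf 316)) (.nd (.lf 191) (.lf 0))) (.nd (.nd (.lf 214) (.lf 0)) (.nd (.lf 156) (.lf 0)))))) (.nd (.nd (.nd (.nd (.nd (.lf 146) (.lf 202)) (.nd (.lf 77) (.lf 0))) (.nd (.nd (.lf 229) (.lf 326)) (.nd (.lf 120) (.lf 0)))) (.nd (.nd (.nd (.lf 266) (.lf 233)) (.nd (.lf 111) (.lf 0))) (.nd (.nd (.lf 261) (.lf 0)) (.nd (.lf 151) (.lf 0))))) (.nd (.nd (.nd (.nd (.lf 66) (.lf 224)) (.nd (.lf 86) (.lf 0))) (.nd (.nd (.lf 49) (.lf 0)) (.nd (.lf 135) (.lf 0)))) (.nd (.nd (.nd (.lf 29)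 (.lf 273)) (.nd (.lf 110) (.lf 0))) (.nd (.nd (.lf 67) (.lf 0)) (.nd (.lf 165) (.lf 0))))))

/-- table part -/
def pvT_2 : Tr :=
  .nd (.nd (.nd (.nd (.nd (.nd (.lf 211) (.lf 218)) (.nd (.lf 205) (.lf 0))) (.nd (.nd (.lf 235) (.lf 291)) (.nd (.lf 117) (.lf 0)))) (.nd (.nd (.nd (.lf 290) (.lf 319)) (.nd (.lf 93) (.lf 0))) (.nd (.nd (.lf 265) (.lf 0)) (.nd (.lf 167) (.lf 0))))) (.nd (.nd (.nd (.nd (.lf 63) (.lf 198)) (.nd (.lf 166) (.lf 0))) (.nd (.nd (.lf 125) (.lf 0)) (.nd (.lf 197) (.lf 0)))) (.nd (.nd (.nd (.lf 27) (.lf 262)) (.nd (.lf 105) (.lf 0))) (.nd (.nd (.lf 181) (.lf 0)) (.nd (.lf 161) (.lf 0)))))) (.nd (.nd (.nd (.nd (.nd (.lf 107) (.lf 287)) (.nd (.lf 79) (.lf 0))) (.nd (.nd (.lf 41) (.lf 0)) (.nd (.lf 171) (.lf 0)))) (.nd (.nd (.nd (.lf 22) (.lf 241)) (.nd (.lf 100) (.lf 0))) (.nd (.nd (.lf 130) (.lf 0)) (.nd (.lf 153) (.lf 0))))) (.nd (.nd (.nd (.nd (.lf 123) (.lf 213)) (.nd (.lf 323) (.lf 0))) (.nd (.nd (.lf 257) (.lf 0)) (.nd (.lf 138) (.lf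 0)))) (.nd (.nd (.nd (.lf 31) (.lf 285)) (.nd (.lf 183) (.lf 0))) (.nd (.nd (.lf 69) (.lf 0)) (.nd (.lf 216) (.lf 0))))))

/-- table part -/
def pvT_3 : Tr :=
  .nd pvT_1 pvT_2

/-- table part -/
def pvT_4 : Tr :=
  .nd (.nd (.nd (.nd (.nd (.nd (.lf 194) (.lf 176)) (.nd (.lf 73) (.lf 0))) (.nd (.nd (.lf 38) (.lf 300)) (.nd (.lf 116) (.lf 0)))) (.nd (.nd (.nd (.lf 118) (.lf 329)) (.nd (.lf 92) (.lf 0))) (.nd (.nd (.lf 294) (.lf 0)) (.nd (.lf 145) (.lf 0))))) (.nd (.nd (.nd (.nd (.lf 46) (.lf 244)) (.nd (.lf 98) (.lf 0))) (.nd (.nd (.lf 44) (.lf 0)) (.nd (.lf 299) (.lf 0)))) (.nd (.nd (.nd (.lf 186) (.lf 256)) (.nd (.lf 104) (.lf 0))) (.nd (.nd (.lf 132) (.lf 0)) (.nd (.lf 206) (.lf 0)))))) (.nd (.nd (.nd (.nd (.nd (.lf 195) (.lf 248)) (.nd (.lf 78) (.lf 0))) (.nd (.nd (.lf 40) (.lf 0)) (.nd (.lf 121) (.lf 0)))) (.nd (.nd (.nd (.lf 21) (.lf 314)) (.nd (.lf 99) (.lf 0))) (.nd (.nd (.lf 297) (.lf 0)) (.nd (.lf 152) (.lf 0))))) (.nd (.nd (.nd (.nd (.lf 47) (.lf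 204)) (.nd (.lf 87) (.lf 0))) (.nd (.nd (.lf 230) (.lf 0)) (.nd (.lf 219) (.lf 0)))) (.nd (.nd (.nd (.lf 30) (.lf 274)) (.nd (.lf 302) (.lf 0))) (.nd (.nd (.lf 68) (.lf 0)) (.nd (.lf 310) (.lf 0))))))

/-- table part -/
def pvT_5 : Tr :=
  .nd (.nd (.nd (.nd (.nd (.nd (.lf 74) (.lf 182)) (.nd (.lf 150) (.lf 0))) (.nd (.nd (.lf 37) (.lf 313)) (.nd (.lf 119) (.lf 0)))) (.nd (.nd (.nd (.lf 286) (.lf 231)) (.nd (.lf 95) (.lf 0))) (.nd (.nd (.lf 157) (.lf 0)) (.nd (.lf 149) (.lf 0))))) (.nd (.nd (.nd (.nd (.lf 208) (.lf 321)) (.nd (.lf 327) (.lf 0))) (.nd (.nd (.lf 309) (.lf 0)) (.nd (.lf 134) (.lf 0)))) (.nd (.nd (.nd (.lf 28) (.lf 267)) (.nd (.lf 108) (.lf 0))) (.nd (.nd (.lf 269) (.lf 0)) (.nd (.lf 187) (.lf 0)))))) (.nd (.nd (.nd (.nd (.nd (.lf 96) (.lf 188)) (.nd (.lf 252) (.lf 0))) (.nd (.nd (.lf 42) (.lf 0)) (.nd (.lf 258) (.lf 0)))) (.nd (.nd (.nd (.lf 155) (.lf 245)) (.nd (.lf 207) (.lf 0))) (.nd (.nd (.lf 159) (.lf 0)) (.nd (.lf 154) (.lf 0))))) (.nd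 (.nd (.nd (.nd (.lf 76) (.lf 271)) (.nd (.lf 90) (.lf 0))) (.nd (.nd (.lf 259) (.lf 0)) (.nd (.lf 174) (.lf 0)))) (.nd (.nd (.nd (.lf 32) (.lf 325)) (.nd (.lf 264) (.lf 0))) (.nd (.nd (.lf 71) (.lf 0)) (.nd (.lf 173) (.lf 0))))))

/-- table part -/
def pvT_6 : Tr :=
  .nd pvT_4 pvT_5

/-- table part -/
def pvT_7 : Tr :=
  .nd pvT_3 pvT_6

/-- table part -/
def pvT_8 : Tr :=
  .nd (.nd (.nd (.nd (.nd (.nd (.lf 0) (.lf 175)) (.nd (.lf 177) (.lf 0))) (.nd (.nd (.lf 34) (.lf 324)) (.nd (.lf 133) (.lf 0)))) (.nd (.nd (.nd (.lf 16) (.lf 222)) (.nd (.lf 225) (.lf 0))) (.nd (.nd (.lf 54) (.lf 0)) (.nd (.lf 328) (.lf 0))))) (.nd (.nd (.nd (.nd (.lf 8) (.lf 192)) (.nd (.lf 82) (.lf 0))) (.nd (.nd (.lf 276) (.lf 0)) (.nd (.lf 193) (.lf 0)))) (.nd (.nd (.nd (.lf 25) (.lf 251)) (.nd (.lf 103) (.lf 0))) (.nd (.nd (.lf 62) (.lf 0)) (.nd (.lf 158) (.lf 0)))))) (.nd (.nd (.nd (.nd (.nd (.lf 4) (.lf 184)) (.nd (.lf 254) (.lf 0))) (.nd (.nd (.lf 39) (.lf 317)) (.nd (.lf 203)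 (.lf 0)))) (.nd (.nd (.nd (.lf 20) (.lf 284)) (.nd (.lf 139) (.lf 0))) (.nd (.nd (.lf 58) (.lf 0)) (.nd (.lf 298) (.lf 0))))) (.nd (.nd (.nd (.nd (.lf 12) (.lf 228)) (.nd (.lf 169) (.lf 0))) (.nd (.nd (.lf 50) (.lf 0)) (.nd (.lf 136) (.lf 0)))) (.nd (.nd (.nd (.lf 209) (.lf 296)) (.nd (.lf 277) (.lf 0))) (.nd (.nd (.lf 144) (.lf 0)) (.nd (.lf 168) (.lf 0))))))

/-- table part -/
def pvT_9 : Tr :=
  .nd (.nd (.nd (.nd (.nd (.nd (.lf 2) (.lf 179)) (.nd (.lf 75) (.lf 0))) (.nd (.nd (.lf 301) (.lf 322)) (.nd (.lf 288) (.lf 0)))) (.nd (.nd (.nd (.lf 18) (.lf 263)) (.nd (.lf 164) (.lf 0))) (.nd (.nd (.lf 56) (.lf 0)) (.nd (.lf 148) (.lf 0))))) (.nd (.nd (.nd (.nd (.lf 10) (.lf 196)) (.nd (.lf 84) (.lf 0))) (.nd (.nd (.lf 221) (.lf 0)) (.nd (.lf 131) (.lf 0)))) (.nd (.nd (.nd (.lf 236) (.lf 312)) (.nd (.lf 227) (.lf 0))) (.nd (.nd (.lf 65) (.lf 0)) (.nd (.lf 162) (.lf 0)))))) (.nd (.nd (.nd (.nd (.nd (.lf 6) (.lf 210)) (.nd (.lf 80) (.lf 0))) (.nd (.nd (.lf 94)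 (.lf 0)) (.nd (.lf 124) (.lf 0)))) (.nd (.nd (.nd (.lf 23) (.lf 242)) (.nd (.lf 101) (.lf 0))) (.nd (.nd (.lf 60) (.lf 0)) (.nd (.lf 201) (.lf 0))))) (.nd (.nd (.nd (.nd (.lf 14) (.lf 275)) (.nd (.lf 89) (.lf 0))) (.nd (.nd (.lf 52) (.lf 0)) (.nd (.lf 140) (.lf 0)))) (.nd (.nd (.nd (.lf 36) (.lf 282)) (.nd (.lf 113) (.lf 0))) (.nd (.nd (.lf 318) (.lf 0)) (.nd (.lf 172) (.lf 0))))))

/-- table part -/
def pvT_10 : Tr :=
  .nd pvT_8 pvT_9

/-- table part -/
def pvT_11 : Tr :=
  .nd (.nd (.nd (.nd (.nd (.nd (.lf 1) (.lf 212)) (.nd (.lf 163) (.lf 0))) (.nd (.nd (.lf 35) (.lf 295)) (.nd (.lf 178) (.lf 0)))) (.nd (.nd (.nd (.lf 17) (.lf 240)) (.nd (.lf 190) (.lf 0))) (.nd (.nd (.lf 55) (.lf 0)) (.nd (.lf 147) (.lf 0))))) (.nd (.nd (.nd (.nd (.lf 9) (.lf 246)) (.nd (.lf 83) (.lf 0))) (.nd (.nd (.lf 45) (.lf 0)) (.nd (.lf 308) (.lf 0)))) (.nd (.nd (.nd (.lf 26) (.lf 306)) (.nd (.lf 220) (.lf 0))) (.nd (.nd (.lf 64) (.lf 0)) (.nd (.lf 160) (.lf 0)))))) (.nd (.nd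 (.nd (.nd (.nd (.lf 5) (.lf 305)) (.nd (.lf 128) (.lf 0))) (.nd (.nd (.lf 237) (.lf 0)) (.nd (.lf 129) (.lf 0)))) (.nd (.nd (.nd (.lf 250) (.lf 239)) (.nd (.lf 249) (.lf 0))) (.nd (.nd (.lf 59) (.lf 0)) (.nd (.lf 303) (.lf 0))))) (.nd (.nd (.nd (.nd (.lf 13) (.lf 281)) (.nd (.lf 88) (.lf 0))) (.nd (.nd (.lf 51) (.lf 0)) (.nd (.lf 137) (.lf 0)))) (.nd (.nd (.nd (.lf 70) (.lf 307)) (.nd (.lf 112) (.lf 0))) (.nd (.nd (.lf 215) (.lf 0)) (.nd (.lf 170) (.lf 0))))))

/-- table part -/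
def pvT_12 : Tr :=
  .nd (.nd (.nd (.nd (.nd (.nd (.lf 3) (.lf 180)) (.nd (.lf 143) (.lf 0))) (.nd (.nd (.lf 223) (.lf 304)) (.nd (.lf 278) (.lf 0)))) (.nd (.nd (.nd (.lf 19) (.lf 232)) (.nd (.lf 97) (.lf 0))) (.nd (.nd (.lf 57) (.lf 0)) (.nd (.lf 279) (.lf 0))))) (.nd (.nd (.nd (.nd (.lf 11) (.lf 200)) (.nd (.lf 199) (.lf 0))) (.nd (.nd (.lf 48) (.lf 0)) (.nd (.lf 292) (.lf 0)))) (.nd (.nd (.nd (.lf 141) (.lf 268)) (.nd (.lf 109) (.lf 0))) (.nd (.nd (.lf 280) (.lf 0)) (.nd (.lf 272) (.lf 0)))))) (.nd (.nd (.nd (.nd (.nd (.lf 7) (.lf 243)) (.nd (.lf 81) (.lf 0))) (.nd (.nd (.lf 226) (.lf 0)) (.nd (.lf 126) (.lf 0)))) (.nd (.nd (.nd (.lf 24) (.lf 253)) (.nd (.lf 102) (.lf 0))) (.nd (.nd (.lf 61) (.lf 0)) (.nd (.lf 185) (.lf 0))))) (.nd (.nd (.nd (.nd (.lf 15) (.lf 217)) (.nd (.lf 122) (.lf 0))) (.nd (.nd (.lf 53) (.lf 0)) (.nd (.lf 315) (.lf 0)))) (.nd (.nd (.nd (.lf 320) (.lf 283)) (.nd (.lf 114) (.lf 0))) (.nd (.nd (.lf 85) (.lf 0)) (.nd (.lf 247) (.lf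 0))))))

/-- table part -/
def pvT_13 : Tr :=
  .nd pvT_11 pvT_12

/-- table part -/
def pvT_14 : Tr :=
  .nd pvT_10 pvT_13

/-- table part -/
def pvT_15 : Tr :=
  .nd pvT_7 pvT_14

/-- table part -/
def pvT_16 : Tr :=
  .nd (.nd (.nd (.nd (.nd (.nd (.lf 108) (.lf 174)) (.nd (.lf 190) (.lf 0))) (.nd (.nd (.lf 109) (.lf 284)) (.nd (.lf 133) (.lf 0)))) (.nd (.nd (.nd (.lf 15) (.lf 221)) (.nd (.lf 93) (.lf 0))) (.nd (.nd (.lf 53) (.lf 0)) (.nd (.lf 196) (.lf 0))))) (.nd (.nd (.nd (.nd (.lf 7) (.lf 264)) (.nd (.lf 81) (.lf 0))) (.nd (.nd (.lf 252) (.lf 0)) (.nd (.lf 200) (.lf 0)))) (.nd (.nd (.nd (.lf 24) (.lf 250)) (.nd (.lf 102) (.lf 0))) (.nd (.nd (.lf 61) (.lf 0)) (.nd (.lf 305) (.lf 0)))))) (.nd (.nd (.nd (.nd (.nd (.lf 3) (.lf 183)) (.nd (.lf 132) (.lf 0))) (.nd (.nd (.lf 38) (.lf 309)) (.nd (.lf 319) (.lf 0)))) (.nd (.nd (.nd (.lf 19) (.lf 291)) (.nd (.lf 97) (.lf 0))) (.nd (.nd (.lf 57) (.lf 0)) (.nd (.lf 248) (.lf 0))))) (.nd (.nd (.nd (.nd (.lf 11)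 (.lf 202)) (.nd (.lf 303) (.lf 0))) (.nd (.nd (.lf 124) (.lf 0)) (.nd (.lf 239) (.lf 0)))) (.nd (.nd (.nd (.lf 167) (.lf 286)) (.nd (.lf 144) (.lf 0))) (.nd (.nd (.lf 277) (.lf 0)) (.nd (.lf 217) (.lf 0))))))

/-- table part -/
def pvT_17 : Tr :=
  .nd (.nd (.nd (.nd (.nd (.nd (.lf 1) (.lf 178)) (.nd (.lf 74) (.lf 0))) (.nd (.nd (.lf 35) (.lf 293)) (.nd (.lf 314) (.lf 0)))) (.nd (.nd (.nd (.lf 17) (.lf 228)) (.nd (.lf 329) (.lf 0))) (.nd (.nd (.lf 55) (.lf 0)) (.nd (.lf 147) (.lf 0))))) (.nd (.nd (.nd (.nd (.lf 9) (.lf 194)) (.nd (.lf 83) (.lf 0))) (.nd (.nd (.lf 45) (.lf 0)) (.nd (.lf 130) (.lf 0)))) (.nd (.nd (.nd (.lf 138) (.lf 268)) (.nd (.lf 280) (.lf 0))) (.nd (.nd (.lf 64) (.lf 0)) (.nd (.lf 236) (.lf 0)))))) (.nd (.nd (.nd (.nd (.nd (.lf 5) (.lf 186)) (.nd (.lf 279) (.lf 0))) (.nd (.nd (.lf 272) (.lf 0)) (.nd (.lf 123) (.lf 0)))) (.nd (.nd (.nd (.lf 63) (.lf 271)) (.nd (.lf 171) (.lf 0))) (.nd (.nd (.lf 59) (.lf 0)) (.nd (.lf 182) (.lf 0))))) (.nd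 (.nd (.nd (.nd (.lf 13) (.lf 324)) (.nd (.lf 88) (.lf 0))) (.nd (.nd (.lf 51) (.lf 0)) (.nd (.lf 161) (.lf 0)))) (.nd (.nd (.nd (.lf 313) (.lf 275)) (.nd (.lf 112) (.lf 0))) (.nd (.nd (.lf 318) (.lf 0)) (.nd (.lf 170) (.lf 0))))))

/-- table part -/
def pvT_18 : Tr :=
  .nd pvT_16 pvT_17

/-- table part -/
def pvT_19 : Tr :=
  .nd (.nd (.nd (.nd (.nd (.nd (.lf 0) (.lf 247)) (.nd (.lf 210) (.lf 0))) (.nd (.nd (.lf 34) (.lf 287)) (.nd (.lf 172) (.lf 0)))) (.nd (.nd (.nd (.lf 16) (.lf 225)) (.nd (.lf 177) (.lf 0))) (.nd (.nd (.lf 54) (.lf 0)) (.nd (.lf 191) (.lf 0))))) (.nd (.nd (.nd (.nd (.lf 8) (.lf 192)) (.nd (.lf 82) (.lf 0))) (.nd (.nd (.lf 232) (.lf 0)) (.nd (.lf 128) (.lf 0)))) (.nd (.nd (.nd (.lf 25) (.lf 304)) (.nd (.lf 220) (.lf 0))) (.nd (.nd (.lf 62) (.lf 0)) (.nd (.lf 159) (.lf 0)))))) (.nd (.nd (.nd (.nd (.nd (.lf 4) (.lf 184)) (.nd (.lf 175) (.lf 0))) (.nd (.nd (.lf 117) (.lf 0)) (.nd (.lf 197) (.lf 0)))) (.nd (.nd (.nd (.lf 87) (.lf 237)) (.nd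 (.lf 244) (.lf 0))) (.nd (.nd (.lf 58) (.lf 0)) (.nd (.lf 169) (.lf 0))))) (.nd (.nd (.nd (.nd (.lf 12) (.lf 205)) (.nd (.lf 316) (.lf 0))) (.nd (.nd (.lf 50) (.lf 0)) (.nd (.lf 136) (.lf 0)))) (.nd (.nd (.nd (.lf 255) (.lf 325)) (.nd (.lf 111) (.lf 0))) (.nd (.nd (.lf 195) (.lf 0)) (.nd (.lf 168) (.lf 0))))))

/-- table part -/
def pvT_20 : Tr :=
  .nd (.nd (.nd (.nd (.nd (.nd (.lf 2) (.lf 179)) (.nd (.lf 75) (.lf 0))) (.nd (.nd (.lf 265) (.lf 301)) (.nd (.lf 146) (.lf 0)))) (.nd (.nd (.nd (.lf 18) (.lf 269)) (.nd (.lf 251) (.lf 0))) (.nd (.nd (.lf 56) (.lf 0)) (.nd (.lf 208) (.lf 0))))) (.nd (.nd (.nd (.nd (.lf 10) (.lf 199)) (.nd (.lf 84) (.lf 0))) (.nd (.nd (.lf 47) (.lf 0)) (.nd (.lf 230) (.lf 0)))) (.nd (.nd (.nd (.lf 48) (.lf 317)) (.nd (.lf 142) (.lf 0))) (.nd (.nd (.lf 65) (.lf 0)) (.nd (.lf 163) (.lf 0)))))) (.nd (.nd (.nd (.nd (.nd (.lf 6) (.lf 243)) (.nd (.lf 80) (.lf 0))) (.nd (.nd (.lf 89) (.lf 0)) (.nd (.lf 125) (.lf 0)))) (.nd (.nd (.nd (.lf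 23) (.lf 261)) (.nd (.lf 101) (.lf 0))) (.nd (.nd (.lf 60) (.lf 0)) (.nd (.lf 156) (.lf 0))))) (.nd (.nd (.nd (.nd (.lf 14) (.lf 214)) (.nd (.lf 308) (.lf 0))) (.nd (.nd (.lf 52) (.lf 0)) (.nd (.lf 140) (.lf 0)))) (.nd (.nd (.nd (.lf 165) (.lf 282)) (.nd (.lf 113) (.lf 0))) (.nd (.nd (.lf 321) (.lf 0)) (.nd (.lf 212) (.lf 0))))))

/-- table part -/
def pvT_21 : Tr :=
  .nd pvT_19 pvT_20

/-- table part -/
def pvT_22 : Tr :=
  .nd pvT_18 pvT_21

/-- table part -/
def pvT_23 : Tr :=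
  .nd (.nd (.nd (.nd (.nd (.nd (.lf 137) (.lf 299)) (.nd (.lf 72) (.lf 0))) (.nd (.nd (.lf 263) (.lf 285)) (.nd (.lf 115) (.lf 0)))) (.nd (.nd (.nd (.lf 162) (.lf 290)) (.nd (.lf 91) (.lf 0))) (.nd (.nd (.lf 148) (.lf 0)) (.nd (.lf 143) (.lf 0))))) (.nd (.nd (.nd (.nd (.lf 311) (.lf 249)) (.nd (.lf 126) (.lf 0))) (.nd (.nd (.lf 43) (.lf 0)) (.nd (.lf 127) (.lf 0)))) (.nd (.nd (.nd (.lf 300) (.lf 323)) (.nd (.lf 231) (.lf 0))) (.nd (.nd (.lf 254) (.lf 0)) (.nd (.lf 189) (.lf 0)))))) (.nd (.nd (.nd (.nd (.nd (.lf 215) (.lf 298)) (.nd (.lf 77) (.lf 0))) (.nd (.nd (.lf 149) (.lf 310)) (.nd (.lf 120) (.lf 0)))) (.nd (.nd (.nd (.lf 22) (.lf 233)) (.nd (.lf 98) (.lf 0))) (.nd (.nd (.lf 297) (.lf 0)) (.nd (.lf 151) (.lf 0))))) (.nd (.nd (.nd (.nd (.lf 326) (.lf 203)) (.nd (.lf 86) (.lf 0))) (.nd (.nd (.lf 292) (.lf 0)) (.nd (.lf 219) (.lf 0)))) (.nd (.nd (.nd (.lf 29) (.lf 273)) (.nd (.lf 110) (.lf 0))) (.nd (.nd (.lf 67) (.lf 0)) (.nd (.lf 267) (.lf 0))))))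

/-- table part -/
def pvT_24 : Tr :=
  .nd (.nd (.nd (.nd (.nd (.nd (.lf 204) (.lf 201)) (.nd (.lf 79) (.lf 0))) (.nd (.nd (.lf 36) (.lf 294)) (.nd (.lf 118) (.lf 0)))) (.nd (.nd (.nd (.lf 296) (.lf 229)) (.nd (.lf 94) (.lf 0))) (.nd (.nd (.lf 157) (.lf 0)) (.nd (.lf 322) (.lf 0))))) (.nd (.nd (.nd (.nd (.lf 39) (.lf 270)) (.nd (.lf 256) (.lf 0))) (.nd (.nd (.lf 46) (.lf 0)) (.nd (.lf 226) (.lf 0)))) (.nd (.nd (.nd (.lf 27) (.lf 262)) (.nd (.lf 106) (.lf 0))) (.nd (.nd (.lf 103) (.lf 0)) (.nd (.lf 288) (.lf 0)))))) (.nd (.nd (.nd (.nd (.nd (.lf 96) (.lf 187)) (.nd (.lf 276) (.lf 0))) (.nd (.nd (.lf 41) (.lf 0)) (.nd (.lf 238) (.lf 0)))) (.nd (.nd (.nd (.lf 33) (.lf 242)) (.nd (.lf 166) (.lf 0))) (.nd (.nd (.lf 281) (.lf 0)) (.nd (.lf 153) (.lf 0))))) (.nd (.nd (.nd (.nd (.lf 328) (.lf 213)) (.nd (.lf 131) (.lf 0))) (.nd (.nd (.lf 259) (.lf 0)) (.nd (.lf 295) (.lf 0)))) (.nd (.nd (.nd (.lf 31) (.lf 307)) (.nd (.lf 158) (.lf 0))) (.nd (.nd (.lf 69) (.lf 0))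 (.nd (.lf 218) (.lf 0))))))

/-- table part -/
def pvT_25 : Tr :=
  .nd pvT_23 pvT_24

/-- table part -/
def pvT_26 : Tr :=
  .nd (.nd (.nd (.nd (.nd (.nd (.lf 211) (.lf 176)) (.nd (.lf 73) (.lf 0))) (.nd (.nd (.lf 44) (.lf 289)) (.nd (.lf 116) (.lf 0)))) (.nd (.nd (.nd (.lf 26) (.lf 227)) (.nd (.lf 92) (.lf 0))) (.nd (.nd (.lf 223) (.lf 0)) (.nd (.lf 209) (.lf 0))))) (.nd (.nd (.nd (.nd (.lf 20) (.lf 193)) (.nd (.lf 207) (.lf 0))) (.nd (.nd (.lf 306) (.lf 0)) (.nd (.lf 129) (.lf 0)))) (.nd (.nd (.nd (.lf 222) (.lf 258)) (.nd (.lf 104) (.lf 0))) (.nd (.nd (.lf 216) (.lf 0)) (.nd (.lf 302) (.lf 0)))))) (.nd (.nd (.nd (.nd (.nd (.lf 234) (.lf 185)) (.nd (.lf 78) (.lf 0))) (.nd (.nd (.lf 40) (.lf 0)) (.nd (.lf 122) (.lf 0)))) (.nd (.nd (.nd (.lf 21) (.lf 260)) (.nd (.lf 99) (.lf 0))) (.nd (.nd (.lf 121) (.lf 0)) (.nd (.lf 152) (.lf 0))))) (.nd (.nd (.nd (.nd (.lf 100) (.lf 206)) (.nd (.lf 95) (.lf 0))) (.nd (.nd (.lf 257) (.lf 0)) (.nd (.lf 198) (.lf 0))))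 (.nd (.nd (.nd (.lf 30) (.lf 274)) (.nd (.lf 224) (.lf 0))) (.nd (.nd (.lf 68) (.lf 0)) (.nd (.lf 181) (.lf 0))))))

/-- table part -/
def pvT_27 : Tr :=
  .nd (.nd (.nd (.nd (.nd (.nd (.lf 278) (.lf 180)) (.nd (.lf 76) (.lf 0))) (.nd (.nd (.lf 37) (.lf 327)) (.nd (.lf 119) (.lf 0)))) (.nd (.nd (.nd (.lf 266) (.lf 235)) (.nd (.lf 160) (.lf 0))) (.nd (.nd (.lf 253) (.lf 0)) (.nd (.lf 150) (.lf 0))))) (.nd (.nd (.nd (.nd (.lf 105) (.lf 246)) (.nd (.lf 85) (.lf 0))) (.nd (.nd (.lf 315) (.lf 0)) (.nd (.lf 134) (.lf 0)))) (.nd (.nd (.nd (.lf 28) (.lf 283)) (.nd (.lf 155) (.lf 0))) (.nd (.nd (.lf 66) (.lf 0)) (.nd (.lf 164) (.lf 0)))))) (.nd (.nd (.nd (.nd (.nd (.lf 107) (.lf 188)) (.nd (.lf 240) (.lf 0))) (.nd (.nd (.lf 42) (.lf 0)) (.nd (.lf 139) (.lf 0)))) (.nd (.nd (.nd (.lf 70) (.lf 245)) (.nd (.lf 114) (.lf 0))) (.nd (.nd (.lf 241) (.lf 0)) (.nd (.lf 154) (.lf 0))))) (.nd (.nd (.nd (.nd (.lf 49) (.lf 320)) (.nd (.lf 90) (.lf 0))) (.nd (.nd (.lf 135) (.lf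 0)) (.nd (.lf 141) (.lf 0)))) (.nd (.nd (.nd (.lf 32) (.lf 312)) (.nd (.lf 145) (.lf 0))) (.nd (.nd (.lf 71) (.lf 0)) (.nd (.lf 173) (.lf 0))))))

/-- table part -/
def pvT_28 : Tr :=
  .nd pvT_26 pvT_27

/-- table part -/
def pvT_29 : Tr :=
  .nd pvT_25 pvT_28

/-- table part -/
def pvT_30 : Tr :=
  .nd pvT_22 pvT_29

/-- table part -/
def pvT_31 : Tr :=
  .nd pvT_15 pvT_30

/-- table -/
def pvT : Tr :=
  pvT_31

/-- table part -/
def parT_1 : Tr :=
  .nd (.nd (.nd (.nd (.nd (.nd (.lf 0) (.lf 349)) (.nd (.lf 144) (.lf 0))) (.nd (.nd (.lf 66) (.lf 569)) (.nd (.lf 230) (.lf 0)))) (.nd (.nd (.nd (.lf 31) (.lf 443)) (.nd (.lf 182) (.lf 0))) (.nd (.nd (.lf 107) (.lf 0)) (.nd (.lf 284) (.lf 0))))) (.nd (.nd (.nd (.nd (.lf 15) (.lf 378)) (.nd (.lf 163) (.lf 0))) (.nd (.nd (.lf 86) (.lf 0)) (.nd (.lf 254) (.lf 0)))) (.nd (.nd (.nd (.lf 49) (.lf 501)) (.nd (.lf 205) (.lf 0))) (.nd (.nd (.lf 123) (.lf 0)) (.nd (.lf 312) (.lf 0)))))) (.nd (.nd (.nd (.nd (.nd (.lf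 7) (.lf 367)) (.nd (.lf 154) (.lf 0))) (.nd (.nd (.lf 77) (.lf 619)) (.nd (.lf 240) (.lf 0)))) (.nd (.nd (.nd (.lf 39) (.lf 466)) (.nd (.lf 195) (.lf 0))) (.nd (.nd (.lf 115) (.lf 0)) (.nd (.lf 302) (.lf 0))))) (.nd (.nd (.nd (.nd (.lf 23) (.lf 405)) (.nd (.lf 172) (.lf 0))) (.nd (.nd (.lf 98) (.lf 0)) (.nd (.lf 270) (.lf 0)))) (.nd (.nd (.nd (.lf 58) (.lf 546)) (.nd (.lf 220) (.lf 0))) (.nd (.nd (.lf 134) (.lf 0)) (.nd (.lf 330) (.lf 0))))))

/-- table part -/
def parT_2 : Tr :=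
  .nd (.nd (.nd (.nd (.nd (.nd (.lf 3) (.lf 357)) (.nd (.lf 149) (.lf 0))) (.nd (.nd (.lf 71) (.lf 582)) (.nd (.lf 234) (.lf 0)))) (.nd (.nd (.nd (.lf 35) (.lf 457)) (.nd (.lf 186) (.lf 0))) (.nd (.nd (.lf 111) (.lf 0)) (.nd (.lf 295) (.lf 0))))) (.nd (.nd (.nd (.nd (.lf 19) (.lf 389)) (.nd (.lf 167) (.lf 0))) (.nd (.nd (.lf 91) (.lf 0)) (.nd (.lf 261) (.lf 0)))) (.nd (.nd (.nd (.lf 54) (.lf 524)) (.nd (.lf 210) (.lf 0))) (.nd (.nd (.lf 129) (.lf 0)) (.nd (.lf 322) (.lf 0)))))) (.nd (.nd (.nd (.nd (.nd (.lf 11) (.lf 373)) (.nd (.lf 158) (.lf 0))) (.nd (.nd (.lf 82) (.lf 0)) (.nd (.lf 247) (.lf 0)))) (.nd (.nd (.nd (.lf 44) (.lf 482)) (.nd (.lf 200) (.lf 0))) (.nd (.nd (.lf 119) (.lf 0)) (.nd (.lf 306) (.lf 0))))) (.nd (.nd (.nd (.nd (.lf 27) (.lf 426)) (.nd (.lf 177) (.lf 0))) (.nd (.nd (.lf 103) (.lf 0)) (.nd (.lf 276) (.lf 0)))) (.nd (.nd (.nd (.lf 62) (.lf 551)) (.nd (.lf 225) (.lf 0))) (.nd (.nd (.lf 138) (.lf 0)) (.nd (.lf 341) (.lf 0))))))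

/-- table part -/
def parT_3 : Tr :=
  .nd parT_1 parT_2

/-- table part -/
def parT_4 : Tr :=
  .nd (.nd (.nd (.nd (.nd (.nd (.lf 1) (.lf 352)) (.nd (.lf 146) (.lf 0))) (.nd (.nd (.lf 69) (.lf 575)) (.nd (.lf 232) (.lf 0)))) (.nd (.nd (.nd (.lf 33) (.lf 451)) (.nd (.lf 184) (.lf 0))) (.nd (.nd (.lf 109) (.lf 0)) (.nd (.lf 290) (.lf 0))))) (.nd (.nd (.nd (.nd (.lf 17) (.lf 385)) (.nd (.lf 165) (.lf 0))) (.nd (.nd (.lf 88) (.lf 0)) (.nd (.lf 257) (.lf 0)))) (.nd (.nd (.nd (.lf 51) (.lf 512)) (.nd (.lf 208) (.lf 0))) (.nd (.nd (.lf 125) (.lf 0)) (.nd (.lf 319) (.lf 0)))))) (.nd (.nd (.nd (.nd (.nd (.lf 9) (.lf 369)) (.nd (.lf 156) (.lf 0))) (.nd (.nd (.lf 80) (.lf 0)) (.nd (.lf 242) (.lf 0)))) (.nd (.nd (.nd (.lf 42) (.lf 475)) (.nd (.lf 198) (.lf 0))) (.nd (.nd (.lf 117) (.lf 0)) (.nd (.lf 304) (.lf 0))))) (.nd (.nd (.nd (.nd (.lf 25) (.lf 408)) (.nd (.lf 174) (.lf 0))) (.nd (.nd (.lf 101) (.lf 0)) (.nd (.lf 273) (.lf 0)))) (.nd (.nd (.nd (.lf 60) (.lf 548))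 (.nd (.lf 223) (.lf 0))) (.nd (.nd (.lf 136) (.lf 0)) (.nd (.lf 337) (.lf 0))))))

/-- table part -/
def parT_5 : Tr :=
  .nd (.nd (.nd (.nd (.nd (.nd (.lf 5) (.lf 359)) (.nd (.lf 151) (.lf 0))) (.nd (.nd (.lf 74) (.lf 603)) (.nd (.lf 238) (.lf 0)))) (.nd (.nd (.nd (.lf 37) (.lf 462)) (.nd (.lf 190) (.lf 0))) (.nd (.nd (.lf 113) (.lf 0)) (.nd (.lf 298) (.lf 0))))) (.nd (.nd (.nd (.nd (.lf 21) (.lf 399)) (.nd (.lf 169) (.lf 0))) (.nd (.nd (.lf 95) (.lf 0)) (.nd (.lf 268) (.lf 0)))) (.nd (.nd (.nd (.lf 56) (.lf 534)) (.nd (.lf 216) (.lf 0))) (.nd (.nd (.lf 131) (.lf 0)) (.nd (.lf 327) (.lf 0)))))) (.nd (.nd (.nd (.nd (.nd (.lf 13) (.lf 376)) (.nd (.lf 161) (.lf 0))) (.nd (.nd (.lf 84) (.lf 0)) (.nd (.lf 251) (.lf 0)))) (.nd (.nd (.nd (.lf 47) (.lf 490)) (.nd (.lf 203) (.lf 0))) (.nd (.nd (.lf 121) (.lf 0)) (.nd (.lf 308) (.lf 0))))) (.nd (.nd (.nd (.nd (.lf 29) (.lf 429)) (.nd (.lf 180) (.lf 0))) (.nd (.nd (.lf 105) (.lf 0)) (.nd (.lf 281) (.lf 0)))) (.nd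 (.nd (.nd (.lf 64) (.lf 565)) (.nd (.lf 227) (.lf 0))) (.nd (.nd (.lf 142) (.lf 0)) (.nd (.lf 346) (.lf 0))))))

/-- table part -/
def parT_6 : Tr :=
  .nd parT_4 parT_5

/-- table part -/
def parT_7 : Tr :=
  .nd parT_3 parT_6

/-- table part -/
def parT_8 : Tr :=
  .nd (.nd (.nd (.nd (.nd (.nd (.lf 0) (.lf 350)) (.nd (.lf 145) (.lf 0))) (.nd (.nd (.lf 68) (.lf 571)) (.nd (.lf 231) (.lf 0)))) (.nd (.nd (.nd (.lf 32) (.lf 444)) (.nd (.lf 183) (.lf 0))) (.nd (.nd (.lf 108) (.lf 0)) (.nd (.lf 287) (.lf 0))))) (.nd (.nd (.nd (.nd (.lf 16) (.lf 384)) (.nd (.lf 164) (.lf 0))) (.nd (.nd (.lf 87) (.lf 0)) (.nd (.lf 255) (.lf 0)))) (.nd (.nd (.nd (.lf 50) (.lf 502)) (.nd (.lf 206) (.lf 0))) (.nd (.nd (.lf 124) (.lf 0)) (.nd (.lf 316) (.lf 0)))))) (.nd (.nd (.nd (.nd (.nd (.lf 8) (.lf 368)) (.nd (.lf 155) (.lf 0))) (.nd (.nd (.lf 78) (.lf 621)) (.nd (.lf 241) (.lf 0)))) (.nd (.nd (.nd (.lf 40) (.lf 467)) (.nd (.lf 197) (.lf 0))) (.nd (.nd (.lf 116) (.lf 0)) (.nd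 (.lf 303) (.lf 0))))) (.nd (.nd (.nd (.nd (.lf 24) (.lf 407)) (.nd (.lf 173) (.lf 0))) (.nd (.nd (.lf 100) (.lf 0)) (.nd (.lf 272) (.lf 0)))) (.nd (.nd (.nd (.lf 59) (.lf 547)) (.nd (.lf 221) (.lf 0))) (.nd (.nd (.lf 135) (.lf 0)) (.nd (.lf 336) (.lf 0))))))

/-- table part -/
def parT_9 : Tr :=
  .nd (.nd (.nd (.nd (.nd (.nd (.lf 4) (.lf 358)) (.nd (.lf 150) (.lf 0))) (.nd (.nd (.lf 73) (.lf 589)) (.nd (.lf 237) (.lf 0)))) (.nd (.nd (.nd (.lf 36) (.lf 459)) (.nd (.lf 189) (.lf 0))) (.nd (.nd (.lf 112) (.lf 0)) (.nd (.lf 296) (.lf 0))))) (.nd (.nd (.nd (.nd (.lf 20) (.lf 392)) (.nd (.lf 168) (.lf 0))) (.nd (.nd (.lf 93) (.lf 0)) (.nd (.lf 262) (.lf 0)))) (.nd (.nd (.nd (.lf 55) (.lf 525)) (.nd (.lf 213) (.lf 0))) (.nd (.nd (.lf 130) (.lf 0)) (.nd (.lf 324) (.lf 0)))))) (.nd (.nd (.nd (.nd (.nd (.lf 12) (.lf 375)) (.nd (.lf 160) (.lf 0))) (.nd (.nd (.lf 83) (.lf 0)) (.nd (.lf 248) (.lf 0)))) (.nd (.nd (.nd (.lf 46) (.lf 484)) (.nd (.lf 202) (.lf 0))) (.nd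 (.nd (.lf 120) (.lf 0)) (.nd (.lf 307) (.lf 0))))) (.nd (.nd (.nd (.nd (.lf 28) (.lf 427)) (.nd (.lf 178) (.lf 0))) (.nd (.nd (.lf 104) (.lf 0)) (.nd (.lf 280) (.lf 0)))) (.nd (.nd (.nd (.lf 63) (.lf 564)) (.nd (.lf 226) (.lf 0))) (.nd (.nd (.lf 139) (.lf 0)) (.nd (.lf 344) (.lf 0))))))

/-- table part -/
def parT_10 : Tr :=
  .nd parT_8 parT_9

/-- table part -/
def parT_11 : Tr :=
  .nd (.nd (.nd (.nd (.nd (.nd (.lf 2) (.lf 353)) (.nd (.lf 147) (.lf 0))) (.nd (.nd (.lf 70) (.lf 579)) (.nd (.lf 233) (.lf 0)))) (.nd (.nd (.nd (.lf 34) (.lf 455)) (.nd (.lf 185) (.lf 0))) (.nd (.nd (.lf 110) (.lf 0)) (.nd (.lf 294) (.lf 0))))) (.nd (.nd (.nd (.nd (.lf 18) (.lf 387)) (.nd (.lf 166) (.lf 0))) (.nd (.nd (.lf 90) (.lf 0)) (.nd (.lf 259) (.lf 0)))) (.nd (.nd (.nd (.lf 52) (.lf 517)) (.nd (.lf 209) (.lf 0))) (.nd (.nd (.lf 128) (.lf 0)) (.nd (.lf 320) (.lf 0)))))) (.nd (.nd (.nd (.nd (.nd (.lf 10) (.lf 371)) (.nd (.lf 157) (.lf 0))) (.nd (.nd (.lf 81) (.lf 0)) (.nd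 (.lf 245) (.lf 0)))) (.nd (.nd (.nd (.lf 43) (.lf 478)) (.nd (.lf 199) (.lf 0))) (.nd (.nd (.lf 118) (.lf 0)) (.nd (.lf 305) (.lf 0))))) (.nd (.nd (.nd (.nd (.lf 26) (.lf 413)) (.nd (.lf 176) (.lf 0))) (.nd (.nd (.lf 102) (.lf 0)) (.nd (.lf 274) (.lf 0)))) (.nd (.nd (.nd (.lf 61) (.lf 549)) (.nd (.lf 224) (.lf 0))) (.nd (.nd (.lf 137) (.lf 0)) (.nd (.lf 340) (.lf 0))))))

/-- table part -/
def parT_12 : Tr :=
  .nd (.nd (.nd (.nd (.nd (.nd (.lf 6) (.lf 360)) (.nd (.lf 153) (.lf 0))) (.nd (.nd (.lf 75) (.lf 608)) (.nd (.lf 239) (.lf 0)))) (.nd (.nd (.nd (.lf 38) (.lf 464)) (.nd (.lf 194) (.lf 0))) (.nd (.nd (.lf 114) (.lf 0)) (.nd (.lf 301) (.lf 0))))) (.nd (.nd (.nd (.nd (.lf 22) (.lf 400)) (.nd (.lf 171) (.lf 0))) (.nd (.nd (.lf 96) (.lf 0)) (.nd (.lf 269) (.lf 0)))) (.nd (.nd (.nd (.lf 57) (.lf 536)) (.nd (.lf 218) (.lf 0))) (.nd (.nd (.lf 133) (.lf 0)) (.nd (.lf 329) (.lf 0)))))) (.nd (.nd (.nd (.nd (.nd (.lf 14) (.lf 377)) (.nd (.lf 162) (.lf 0))) (.nd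 (.nd (.lf 85) (.lf 0)) (.nd (.lf 252) (.lf 0)))) (.nd (.nd (.nd (.lf 48) (.lf 491)) (.nd (.lf 204) (.lf 0))) (.nd (.nd (.lf 122) (.lf 0)) (.nd (.lf 309) (.lf 0))))) (.nd (.nd (.nd (.nd (.lf 30) (.lf 434)) (.nd (.lf 181) (.lf 0))) (.nd (.nd (.lf 106) (.lf 0)) (.nd (.lf 283) (.lf 0)))) (.nd (.nd (.nd (.lf 65) (.lf 566)) (.nd (.lf 228) (.lf 0))) (.nd (.nd (.lf 143) (.lf 0)) (.nd (.lf 347) (.lf 0))))))

/-- table part -/
def parT_13 : Tr :=
  .nd parT_11 parT_12

/-- table part -/
def parT_14 : Tr :=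
  .nd parT_10 parT_13

/-- table part -/
def parT_15 : Tr :=
  .nd parT_7 parT_14

/-- table -/
def parT : Tr :=
  parT_15

/-- table part -/
def fmT_1 : Tr :=
  .nd (.nd (.nd (.nd (.nd (.nd (.lf 0) (.lf 0)) (.nd (.lf 5515652591860500741035315039571381232300229341780182345816521906403280235627023777831394106476038085816005853798190271715599796531221458416471862498144750523815748570260414100694237901843835085241846130855165151936512) (.lf 0))) (.nd (.nd (.lf 0) (.lf 22062611682475919564640749004066222073337669368024932003125931681893700192199572310385485156265587300945401299768412280163575816367911307309455409462565939518594142298071888484638819047811763987936404520187970300411905)) (.nd (.lf 0) (.lf 0)))) (.nd (.nd (.nd (.lf 0) (.lf 38609565841713911091110441330470904156507595381507543162236206598481722830630173385881186143981287334686097203523444408749084735359206801521770312420943571862689494190072102928956054530959904863912785627820537684164611)) (.nd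 (.lf 0) (.lf 0))) (.nd (.nd (.lf 2348542582773833227889480596789337027375682548908319870707290971532209025114608443463698998384768703031934976) (.lf 0)) (.nd (.lf 39191067653244094545449931142281371372763809293976993700045116612963422818435569366508096217324402314377501780635051065157342383131226378966786961744134105795693647839415333003186361755664471063818928136) (.lf 0))))) (.nd (.nd (.nd (.nd (.lf 0) (.lf 16546956789306059873852397769419949632258831749989035114878893011232579120331712327770175430789040592362400579955798907545223215985878943497565668345235386533677815488568206659966164256628492694956788058838097230561288)) (.nd (.lf 38609565841713969877701993325480689806440026061287884601589021389629748480249301134094808833645754549573868873060227137522595458805199707857357904578224427465310917227921379058946452934874357398582996640427410917949444) (.lf 0))) (.nd (.nd (.lf 0) (.lf 0)) (.nd (.lf 44125218104815917985363068289373996741418471386206123944646708926036757655958377327640909289402428443363844195814144307132938448436504595688841393544559476067125478675784516624027316461135245131336198941787419943370753)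 (.lf 0)))) (.nd (.nd (.nd (.lf 0) (.lf 0)) (.nd (.lf 0) (.lf 0))) (.nd (.nd (.lf 0) (.lf 0)) (.nd (.lf 19595533242629857069057559085237722571631217763939710299412272968587589266832866240056537581992257360866618684444850411215500104165257181342540963619288103562377870952560976562807187796084373885477191688) (.lf 0)))))) (.nd (.nd (.nd (.nd (.nd (.lf 0) (.lf 38609565841713969877710169218997851461277351743645872560274706846077429412337323604357583439077480586825340233166109588600549728422455416616024301107813401201993375068557339313739492504592495404333081004317072607412229)) (.nd (.lf 0) (.lf 0))) (.nd (.nd (.lf 0) (.lf 19595535578598965970355353549886420566122170434515572351478450589766365814237194557060874037865300207226275516805647820651053611291134432702557100346010473998543383300887769114798887522814356220184363012)) (.nd (.lf 0) (.lf 0)))) (.nd (.nd (.nd (.lf 0) (.lf 1167984867728600970451437090500979991053917139684212410205010790737474076553230024234760891622427909250178537580464205058534560448709771618427046609508812976727647847050840991021433308655436955656))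 (.nd (.lf 0) (.lf 0))) (.nd (.nd (.lf 0) (.lf 0)) (.nd (.lf 0) (.lf 0))))) (.nd (.nd (.nd (.nd (.lf 0) (.lf 9343878941828807763611496724007839914372228157574228099707878595786124284765502334472370909546144947377814108008137385184456271911882537856560930693299850428808736455230690324711609372228718690311)) (.nd (.lf 0) (.lf 0))) (.nd (.nd (.lf 0) (.lf 0)) (.nd (.lf 16546956789306001087259677790168991273053842388610140202303819129881993466869994451112337186879485178308608061169164520155460661531611897696515059345840601618866658928583977230758515867143112324924013715577989805113350) (.lf 0)))) (.nd (.nd (.nd (.lf 0) (.lf 2630068107538452694655522541090271656924796687828414097510873052150833932082332024237533918066663261829202796713024710009483310644258317635927428416864115678211276407722674742972796737743461282125889728661159944)) (.nd (.lf 0) (.lf 0))) (.nd (.nd (.lf 0) (.lf 0)) (.nd (.lf 22062609381166501828293824844803026577090109858378364461615539694065347278139364310730276257721058457376679563005476103253847003704471979016638910066779519138364052702407869007531784715258798308455342572469577943351304)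 (.lf 0))))))

/-- table part -/
def fmT_2 : Tr :=
  .nd (.nd (.nd (.nd (.nd (.nd (.lf 0) (.lf 44125218762332925274442999323728245254847201592238016039322791065530904943382952216730922332624757396860291630826901743932557270456721305967691211360960783095003725050873968281621075779738198663207229600259519773933570)) (.nd (.lf 38609565841713969877700825340612961209619088214435076343033285873687600969290852158766030788156869533740405041092883019714429125401638553642643300997421924216708220100759163183206080028129375533934264725940143510257669) (.lf 0))) (.nd (.nd (.lf 0) (.lf 5515652591860637909769181429748875088804971945710184972528708854328822327754052929052068716020570803447261285881266266252413810727150230553831566891320011309490621873161254495737768923253053806106875860366957645660165)) (.nd (.lf 0) (.lf 0)))) (.nd (.nd (.nd (.lf 878694519490715854223842663981790209147054518932622210076118353633468371885658626721630850389416069319000447331892633913888602914616458229685445704339291111431)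 (.lf 44125218104815898389829825660004248916820739249956432466458267371856197808438428839966325950432106505182989283014093445249724784928957671889830036724047132680898920562097264099034072314700389772438997706414613633957888)) (.nd (.lf 69617318994479297159441705411002556541331863024459240274586260977962357490555990835976061539018026691929920982902321145775555927813367834293964676692312778859083689765177218436988875571200) (.lf 0))) (.nd (.nd (.lf 0) (.lf 0)) (.nd (.lf 156764265941034957982335362360421348352411970173722547827813882647939919525264505810725848396353856214933286776342996313888168681206162813735880725009588854670159073295451491444172904116546190908181184513) (.lf 0))))) (.nd (.nd (.nd (.nd (.lf 0) (.lf 5515652263102124467461426613088765658563347221034517865434516493967701727669192951691330278011961743895115037323682896216497731688442214318211107881826658126467580554317884566786103703969562232673296279774542144995336)) (.nd (.lf 0) (.lf 0))) (.nd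 (.nd (.lf 0) (.lf 0)) (.nd (.lf 38609566170472502915541822786503583793273361682663221118331718359146825117489407603466804566711156367591618024784738125095933543737298613873875539244253667936420556095199601938228112807735635301654650796970887610368002) (.lf 0)))) (.nd (.nd (.nd (.lf 0) (.lf 44125218433574431427669655121166377574839159995341896299200200520003231800441510186645989978480718823855309640220142028922067063217822214362758390053558759457815979836949169693469502185208461020914392327234204668526593)) (.nd (.lf 0) (.lf 0))) (.nd (.nd (.lf 0) (.lf 0)) (.nd (.lf 5515652263101987298736904101365779393458923556566715995669517641839839768859760076207092677266157839087217015852215457060420460724986293266024446308448179169445900426734445186857447314276333722825789187706390975610886) (.lf 0)))))) (.nd (.nd (.nd (.nd (.nd (.lf 0) (.lf 0)) (.nd (.lf 0) (.lf 0))) (.nd (.nd (.lf 9343878941828807763611496724007839914372228209948477826046148515997159435329200746921147040533491407455058177346701269024776014326002245140237371337113529944079949143622676869809716307922994069512)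 (.lf 0)) (.nd (.lf 0) (.lf 0)))) (.nd (.nd (.nd (.lf 0) (.lf 33093913578612002174506507747419523798084002495219379690854927148467670955314727498884331754776389506220872680018996122488339264312285407060101566549439245469586004061576734352357621485957361372356190047718099520585733)) (.nd (.lf 0) (.lf 0))) (.nd (.nd (.lf 0) (.lf 0)) (.nd (.lf 44125218104815957176430721532772368964059178597410813306581924046504666882545963604331644475719033258521577123645559067505339728484229284519384692072029601227409814286625361571573105594323494320043772967369688148344833) (.lf 0))))) (.nd (.nd (.nd (.nd (.lf 0) (.lf 44125220734883888355083064538820982025721407702617009748793731598031856283673820190390411233435922726722153816734035705962135079740618412983769502236450499351180367129489465239340369967441777606998739518322169740263428)) (.nd (.lf 0) (.lf 0))) (.nd (.nd (.lf 0) (.lf 0)) (.nd (.lf 11031307156272023349319767060729632890384354124991991043682422435614749747275288037692423279992595177290977844842356878968743860296515986891877096920548186130367063445091984803631629664705523395601869569463123265454087)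 (.lf 0)))) (.nd (.nd (.nd (.lf 0) (.lf 44125218104815917985363068289304379422423992089046682239236585064119665008240818842012175909643021464989784661861811870018611886482807977139817457103766775167992155115197159804639338831956268189163225305368521443639301)) (.nd (.lf 0) (.lf 0))) (.nd (.nd (.lf 0) (.lf 0)) (.nd (.lf 44125218104815976771963964162142116755460784203969231395509054533968511813086417519297117510538418486060430006203186408926328385208591255917600294730365809282284258470281176908055526054784838195177341703039425871609858) (.lf 0))))))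

/-- table part -/
def fmT_3 : Tr :=
  .nd fmT_1 fmT_2

/-- table part -/
def fmT_4 : Tr :=
  .nd (.nd (.nd (.nd (.nd (.nd (.lf 0) (.lf 5515652920618974992284760491496477967537323368482617988295196290942636292377588262374792258456211777394395104776321947230436437951744660369823276123284244304318887844408489017959908536584189351424223181003182378582021)) (.nd (.lf 11031304854962605612963499023081547138329017743227247584352857297419870890223572539499703343850778593650069681093998494670053332110888426905983219103159049344339715462428677338094833746585347030178006531029265549361154) (.lf 0))) (.nd (.nd (.lf 7029552908722243800818006258681416954289186634663799803290932870341328391582678335695862093593956673821385763539666402393952331992970700244677527693137465573378) (.lf 5515652263102124467469602506675544632395152447882304776510936607510526789944719821034622671678706320324216092100913608263647833375357362133768469101118810896821587135505053355302641289144227381034457709274310761250822))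 (.nd (.lf 19595533242629926686376553564534881895400301233434464386292819030232424023221155677946075529071206966457506056105050028442983333007258309275063863798355013594356234881760188438980403897656851943338803208) (.lf 0)))) (.nd (.nd (.nd (.lf 0) (.lf 156764275284913482107225009580566234805513160120140261120762723327382483754608937741493013000498609780744554361246741724257150347963872025883674363002203996393621734714758737163009246671109616050993364994)) (.nd (.lf 0) (.lf 0))) (.nd (.nd (.lf 11031305183721060268677365875901438884373118610741016825790410432778317397770975197009318207391688061282956900821067846355970777084047487494236943971453581962255875467627013895243767762106626180235040152801413561319427) (.lf 0)) (.nd (.lf 33093915551162906468546845074472634551093512686993847336022679133451154381555069037627835615764463463027140509871424174844923268183951868176843734982357715072163513488903439827690682729097311800020672019823653499699200) (.lf 0)))))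 (.nd (.nd (.nd (.nd (.lf 0) (.lf 0)) (.nd (.lf 11031306827513568693605900208188210420318170446116062334087217156134081608816392136465538864904115801716460592392013657571140598177324139208765714745726399965450023379913079574192224632290801367253819985955622827851778) (.lf 0))) (.nd (.nd (.lf 0) (.lf 0)) (.nd (.lf 27578261315509995280250376834122097375544241455820067443000023140249909298597456908996860191157269088097803996420131936542912131325923940654492476671376682658905946104094898526418883133452152175872411224777552184737798) (.lf 0)))) (.nd (.nd (.nd (.lf 0) (.lf 2630068107538453862640459887010236587659046748450138414880795596405411798598318202409839931973848335358226350564591089452033064608815897466492476268681022170639616918952465936056883850678784084002108132439359491)) (.nd (.lf 38609565841713969877701993325480689810589541630168892302140393823899203637541177359329819872059360054606932892286328088137213261915043123705245909689793239094095144592750072098636757999067838071083427529240321877606405)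 (.lf 0))) (.nd (.nd (.lf 0) (.lf 0)) (.nd (.lf 0) (.lf 0)))))) (.nd (.nd (.nd (.nd (.nd (.lf 0) (.lf 44125218433574411832137580476733975703402485123033317701383921932605213315553523516622095582901364302772531601776742873534026485072703101037915012905578095562248574723581969088912909084502868000415577084255969935884296)) (.nd (.lf 0) (.lf 0))) (.nd (.nd (.lf 33093913578612002174505339762621412520257546418830145805081310467259323055555042548862486548909171030244162626971839997951535708321639361354356696024762059498103251209392792924946194002772255798041089007267592420720647) (.lf 0)) (.nd (.lf 556938551955834377275533643280112202126606709044702278937057025559753229763956191116253593757216978117959378056032211981878996582164071037368614912811397282514981465052443539368990178541570) (.lf 0)))) (.nd (.nd (.nd (.lf 0) (.lf 44125220734883868759550989894110110911502939945388324460662734249500602004578049289992322954864061371253818019380030306422402229468108706941536793072365581316598689110989960854545329277167215714883510982491696286138372))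 (.nd (.lf 0) (.lf 0))) (.nd (.nd (.lf 5515652263102144062995837227256624731940924967523995228940819647877028046069034156723861283883370651701469821822253896707468461610317946904859611656467418026420658414315041383882634848386868686809015214262862192050178) (.lf 0)) (.nd (.lf 328758493846773344202561867680008041596896237676448366218642556441795759643567551382104158517349278201686435553511138607063714515636487741445488423165742553122201479445527787386978984867770169829455828233486336) (.lf 0))))) (.nd (.nd (.nd (.nd (.lf 0) (.lf 0)) (.nd (.lf 0) (.lf 0))) (.nd (.nd (.lf 0) (.lf 0)) (.nd (.lf 5515654564411483417209790869388915686601067518901108619538658407983228683213655625359874959539437297551237864509833379668469648269702229190772359470464290583509462852017436707012385704728496375443528594601870280884225) (.lf 0)))) (.nd (.nd (.nd (.lf 0) (.lf 27578261315510073662381011382074483312791262906187830358704486314826913087092665283951327339234215121940068631308036699586072371802098089143487255751772503366771848439179303816172462244069769975600636645399452954132486))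 (.nd (.lf 556938551955834377275533643280990896227103427088219962239339443892224773490566789004002479600312882484765362573757275659172640543038182517755630066728902705597288895899486914425987750952960) (.lf 0))) (.nd (.nd (.lf 5515652263102144062994669242458513449964953074923307943382101041707382865934995166081113699952809577662251606463500258676498001922309453630738682457296654428260604522211680107802342010696847641588946873739552416071680) (.lf 0)) (.nd (.lf 5515652263102124467461426613088765662712863037245986007255068213838545619587148124092657077488266394199025779178526322073045809321169538912946391061232372432907880683788625425403289729186224864241313882762198623715329) (.lf 0))))))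

/-- table part -/
def fmT_5 : Tr :=
  .nd (.nd (.nd (.nd (.nd (.nd (.lf 0) (.lf 0)) (.nd (.lf 0) (.lf 0))) (.nd (.nd (.lf 69617318994479297159441705410123862021841147170235211539891051092790266691154331480602404852729949008117975876031585097134310171091147864786626162416178728903398793162760437603222889168904) (.lf 2630068107538452694655522541090271656924796805764738994490358806979181776441794260163505401800893120104597658138963777523875323444849367879558438875039444145620976057730549635204017887315923643059929111907532800)) (.nd (.lf 22062609052408027577056059240789425330169711227183983047644924519193127518679654261071609822039382530362592715479134340552166474970239898053214890125538429544667702746141436406049960450093822453598496567765236971470851) (.lf 0)))) (.nd (.nd (.nd (.lf 33093913578612002174507675731660696536403171890297708927435622973595159154662957127750572163697904954180943625311001322829035153226971677428886036046275311460942948125420514591567969553449841628754534943468859315716100)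 (.lf 33093913578612002174507675732078400442071016288161986511798951375720431480517998211609408543413241104345793820503326107107843970368384544872475067900539315883810375130617444860473897897053021702217617224628645348245507)) (.nd (.lf 11031305183721119055279429733885374098507797146246498968309652817503710393264921139664035571855567645782622190692285239924372116747730325943388295362252631012205450370085317457848768967937694693514544892813781002878977) (.lf 0))) (.nd (.nd (.lf 0) (.lf 0)) (.nd (.lf 38609565841714028664304057183046921102458311266312497026260754377982593740326121427903760634856116711731150512580893916861357390500191330509060830342619353945126515202179450213255883325454301687988738986194108004958209) (.lf 0))))) (.nd (.nd (.nd (.nd (.lf 0) (.lf 9343878941828807763611496724007839914372228576568225910414037957474405483986641529122535398279281253222237442796886983617309780782198049819245971651564257755584508023499736043713952352560115351560)) (.nd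 (.lf 1167984798111281975972139931074016619894625643762824914810258710026084101822986957197356281065482690499811067743565224554241483580027743780063572112446317933844046833281245899230975163660857507840) (.lf 0))) (.nd (.nd (.lf 0) (.lf 0)) (.nd (.lf 11031304526204111766190154820519679458320976146331009907906248467344927632599216151978194044454271101014111854783669078206124058900299763939617015985213509117475248373428729811848930651354767437331789765722836297580545) (.lf 0)))) (.nd (.nd (.nd (.lf 0) (.lf 44125218104815917985363068288817058189462637008930472365041699744895764366102875118523615470324676218561751501693221015977870688451640631108494231395776957665128014437912719513661784019201985900980517755658924707545091)) (.nd (.lf 11031307156272042944853009690168997996630923459828857879510783697758887299543011945560294607501735105877863332235464252994537165908234173396866429539183838382763126537212143175320992440807457115061751845114017545715716) (.lf 0)))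 (.nd (.nd (.lf 5515652263102124467461426613088765658563347221034488381356587352444493938930226448784254079500480261719882299586171121589458506011445124683629092594915276602899071063472441430321894336035954364339743969907996612362243) (.lf 0)) (.nd (.lf 19595533242629369747820448214588725413024642302269757417096129725449891898682133239465054825428455153703567854614536635203127743287472469692967213995425602801634522536936630875374278207010079206824476679) (.lf 0)))))) (.nd (.nd (.nd (.nd (.nd (.lf 0) (.lf 374144419156711147060143317175368453031918731001856)) (.nd (.lf 0) (.lf 0))) (.nd (.nd (.lf 0) (.lf 0)) (.nd (.lf 556938551955834377275533643280112202126606709044702278937045934882298858481500380853815331250747814549458298197882032297461072862960589046926939019698343522649698176066580841097626956857345) (.lf 0)))) (.nd (.nd (.nd (.lf 1167984798111281975972139931059274579172666497855631342228273284582214442805421410945513679697247078343332431250840168271536308408672112127552681297848886832192510636636227827221215793215130566656)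 (.lf 2630067970369729340128249579491423231317388188128765262186986068906921936290615024528417129096065451780758604975434175574986504839178133259791792436096020750739144272043197644213552784988931325088865313066319872)) (.nd (.lf 44125218104815937580900982857379251075572004645521986841395100934659462242552425322065660354770666356661517300796377187411073952666460726527342898937531619245926141128660476759488981176906252921923403285096436137459720) (.lf 0))) (.nd (.nd (.lf 0) (.lf 0)) (.nd (.lf 1167984798111281975972139931074016621652014263750258812551784676201567207280215368719823538036191224136894662064860202185088856598787117245258894244494536314366378459182919582210889912593491689480) (.lf 0))))) (.nd (.nd (.nd (.nd (.lf 0) (.lf 11031304526204111766190154820519679458320976146330995165863769120050401252665937069868474008038920089049264292713649014428730753935077177247157757350741660832199583009565004448871795273712535287685478572686182289768450)) (.nd (.lf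 0) (.lf 0))) (.nd (.nd (.lf 556938551955834377275533643280112202126606709044702278937045934881637802512710134603405998716548271399110490067112583229530271491386955444238357599962917376315114327173933901268181529395200) (.lf 0)) (.nd (.lf 0) (.lf 0)))) (.nd (.nd (.nd (.lf 0) (.lf 556938551955834377275651579605887875241490007899019892419687144203938104802796657421668076132542199098532552669495942549997111362086230301363042135740758475072241896371418735365527804313604)) (.nd (.lf 11031304854962566421899349734147126072311673132569862113379298848469486665752149816730012683980336893953598345202080128306166351291632858354086930098099779226018438713851077809669557567479741673773972615330290892537864) (.lf 0))) (.nd (.nd (.lf 0) (.lf 0)) (.nd (.lf 22062609052408047172590469855514222963802154736041410928637740110484240660669651980790861585760051000432970630617578449487517305793167143330382592336158957959095378635898901217735797475904532506680815452390917171838978)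 (.lf 0))))))

/-- table part -/
def fmT_6 : Tr :=
  .nd fmT_4 fmT_5

/-- table part -/
def fmT_7 : Tr :=
  .nd fmT_3 fmT_6

/-- table part -/
def fmT_8 : Tr :=
  .nd (.nd (.nd (.nd (.nd (.nd (.lf 0) (.lf 328758650611041621207185689927363434577433086310534899611310647964040030916718951616999275686680493040002219763179849658075589707738486912123980650488614285813163279833109811449935735008621952359115167528648705)) (.nd (.lf 661055968790248598951915308032771039828404920106479977308217022754060190764533310085953595094798104110604547538534057115649) (.lf 0))) (.nd (.nd (.lf 0) (.lf 27578263945578044032096335692885962041893724615867832038216815036550925890436064481526867692638233657853142805034183517574961325912545258035029552413936085367121101587080861544867306117231069166988546981006381022183432)) (.nd (.lf 11031304854962625208497909637249406211706595489716769173985719799740770623974043996285652231050359249398137598046998442666718522117111335680391162622254315953076221984038134760773694156592573415396954494390140212871171)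 (.lf 0)))) (.nd (.nd (.nd (.lf 0) (.lf 22062609052408027577050219316868486235134814255807179647768064368057508719320752907436277843396671175816429116123861460362632673618723716797348606607930294523365712290823713668801733104124958275989900209543772173762567)) (.nd (.lf 0) (.lf 0))) (.nd (.nd (.lf 0) (.lf 0)) (.nd (.lf 137168732698405727469181949713409108876702024421407510300515885957023130734434818882107245198446499685499636081561203737840887895750328015716872551794087810406057296275610803577135520961536624668146925574) (.lf 0))))) (.nd (.nd (.nd (.nd (.lf 0) (.lf 0)) (.nd (.lf 0) (.lf 0))) (.nd (.nd (.lf 0) (.lf 0)) (.nd (.lf 5515652263102124467469602506605927313400672903392461598001550849641519181114738944097254792473884866843131585039453430103941469229014519315885406021368630181810139133457449624209511967907284830202202814512665477513223) (.lf 0)))) (.nd (.nd (.nd (.lf 0) (.lf 19595533242629926686376553564534881910142344591476330777638332871427117913901573186744492283412849513903413644898950988426224183936922706605101797074414054324993626643765470961676659520503909977371443205))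 (.nd (.lf 328758513442306586832279702066382045667895076077258873723938536895765264254230523838402028671719363108443387318542969579149231458739720404646076400096111286087732263093778302097455728324646363331102519054041094) (.lf 0))) (.nd (.nd (.lf 0) (.lf 0)) (.nd (.lf 0) (.lf 0)))))) (.nd (.nd (.nd (.nd (.nd (.lf 0) (.lf 52374249726338269920211035149902642443658546320376093342710296148836196200083553003207002171098513915307191342265869044582047123714032850479097631997952)) (.nd (.lf 0) (.lf 0))) (.nd (.nd (.lf 0) (.lf 27578263945577906863363637287576196782209916643495256357251721878757417278392516119649007150373764654626520501856583250068602875791157808518848725446826959123543351581268250169269915205313363423687512322243306809458688)) (.nd (.lf 16546956789306079469394984277035353041479255881677043989619157106687961060117609012239440765172152511655278714160913041785798982487448823904785852566064696358420918576146970039824574141142705214684613788295344114630656)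 (.lf 0)))) (.nd (.nd (.nd (.lf 0) (.lf 156764265941035027599650207324149626786416827167761732600616467854933791613180700649927869036215711312284935601152973594519166415704363521031538175253233664572158452443876964858801299923492494902623731720)) (.nd (.lf 2630067970369719996249864689231465938381728437436839835910190548014419641656586494483446533168079300346185766544285146093561391770447755453311621261514194650918403510041352360337881311911084800803752044417515520) (.lf 0))) (.nd (.nd (.lf 0) (.lf 0)) (.nd (.lf 0) (.lf 0))))) (.nd (.nd (.nd (.nd (.lf 0) (.lf 69617318994479297159441705409245167921344429126717528237597542082203295398081625160307507496908132931192662194421301381083506846944815643283884602656894137393981852330936660004926669193216)) (.nd (.lf 0) (.lf 0))) (.nd (.nd (.lf 0) (.lf 0)) (.nd (.lf 0) (.lf 0)))) (.nd (.nd (.nd (.lf 0) (.lf 14742047751512002255187647061721763914251458776717995127380876354669402456590707146865316004228398610305065200651335357776575172180032382695725106194160897646804336641))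 (.nd (.lf 38609565841713950282167582710825509504250608803563293516687930576248651931230898222170123615578685640495713285354423159055280268841151194165626663719532238874552474815385251744997830362735770373491259100955218601312260) (.lf 0))) (.nd (.nd (.lf 0) (.lf 0)) (.nd (.lf 4149515568880992958517680028346515708999890601976431170567295820528520161548597498687227796271825984113616800582196694390652247478891422455075556564825393526431538285829451675598851) (.lf 0))))))

/-- table part -/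
def fmT_9 : Tr :=
  .nd (.nd (.nd (.nd (.nd (.nd (.lf 0) (.lf 328758513442306586832488554056561606131778133076749599653106942734614789875991574603259836463424807272893402011017194712113742958619820734569021180002531714810835067858414542527296248843222402515709961061793800)) (.nd (.lf 2630068107538452694655522541094421172493677798723258431906853941874542364140455045135586415954375416437390971372122899129188290229924640741105591918898857539806255701638593177200383813268446472426111343865626625) (.lf 0))) (.nd (.nd (.lf 0) (.lf 22062609052407968790457499337826379845361809739879960715991584053118229779505789680864371891242955250211028646225669619021969462452651772346428770360907686378111683804677050952539056786057652194842521050154785461764099)) (.nd (.lf 44125220734883849164016579279942251838125364177542073624033425538390731291965691198381135035882202291208471813998421694784160144769999693006097417508240944150633537995293255899865273925385947101841740754093026872131584)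 (.lf 0)))) (.nd (.nd (.nd (.lf 0) (.lf 5515652263101987298736904101505014006550788984930131580765941387682132525501386859877723297405541195478894547371990988997866966280168382367861938727842213857462155307574782586209627931326123978785609973649909418557444)) (.nd (.lf 0) (.lf 0))) (.nd (.nd (.lf 0) (.lf 0)) (.nd (.lf 156764265941035514920887318194798623900797291886577920838434543449887584208761943437323768738422358293090329684251404700547773755156624382220621048993692294943896619134924000947124806678773489763811852291) (.lf 0))))) (.nd (.nd (.nd (.nd (.lf 0) (.lf 5515652263102124467470770491473655914371124340482962577982939131204371247509205009280975257873283523035807814836094109105617442989493797636484241130848033742217542736968570726756844295915664946080092045649501566795776)) (.nd (.lf 0) (.lf 0))) (.nd (.nd (.lf 156764267109020034562889166734181036274001920008340535330606052533532430478002521386018200381210518953485887155279598556876669697825124812000598057539694472097000366086972640216151663833661523864118624256)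 (.lf 0)) (.nd (.lf 0) (.lf 0)))) (.nd (.nd (.nd (.lf 0) (.lf 19595533242629926686343357439983833951732208121383638574111024084157600593674943304588694143497000805783458618966251580705199527121646049681458872211621922280944509682492584136724029178288903873502380033)) (.nd (.lf 5515652263102124467461426613158382977557826518193915344718081007996963432325514365816559940189526195425901986002963445490440958251989436892355564109715902212529879757493956498147313768971181668368758747070792531443712) (.lf 0))) (.nd (.nd (.lf 0) (.lf 0)) (.nd (.lf 0) (.lf 0)))))) (.nd (.nd (.nd (.nd (.nd (.lf 0) (.lf 27578261315510054066846600768324328153380560942655017969692618738971573106249718630260924864308562448846931362598344375548605336634887832339680302583806759979922985719693778831987651327049940669148480531815441690001414)) (.nd (.lf 3121748550315992231381597229793166305748598142664971150859654282861781525461921002368452923903592427310624278838847086872341135176300818698600448)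 (.lf 0))) (.nd (.nd (.lf 0) (.lf 0)) (.nd (.lf 16546956789306059873852397769350332309114836636618169493768625918576622228995979781321401016492992907997396110744360038624612226651932292315274407504450584847932467575351842748046749724467359571171220968598921237495815) (.lf 0)))) (.nd (.nd (.nd (.lf 0) (.lf 1766847907276717678040791084087139985190942448036382162514496235797217280)) (.nd (.lf 0) (.lf 0))) (.nd (.nd (.lf 0) (.lf 0)) (.nd (.lf 328758493846774512187359978961984013736827326435111618885733716614413704937609713321351610263656733801261197495322434765515698818055379999477281975631220791092454174549712262787901953155298598110107106449293318) (.lf 0))))) (.nd (.nd (.nd (.nd (.lf 0) (.lf 44125220406125355317251410971315249722772006498436210427212890211856461841410486829001514700383084912307573855225967963539394897813885098613094519236846246934630791860589149479129737281199899530897011356500680830353416)) (.nd (.lf 33093915551162945659613330333351364759437136282447317285164543872366929694391543530686946836891488021830321179478316383864674898421457782388497971486031116715582828985413320283306494991836802917382794581664711328137219)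 (.lf 0))) (.nd (.nd (.lf 0) (.lf 0)) (.nd (.lf 5515652263102006894261970836870278935050806994969967082944423363078231324105040762225444651569080997311679909109787142993005666578466115470577367277735669399071828361157427056694558198812659176694452590344955838332935) (.lf 0)))) (.nd (.nd (.nd (.lf 0) (.lf 5515652263102144062994669242876217359782313288999068411616368757850121673184845624996025618463634909751231348013783579607962345214608338823392869074162212297679983553247853898165444038856802611370874008349359235661828)) (.nd (.lf 0) (.lf 0))) (.nd (.nd (.lf 9343878941828807763611496724007839914372228209948477826046148515997159435329200746921147040532371535083969275241422547884491792186941422385342944834276854629760934556829145065144018309762875654152) (.lf 0)) (.nd (.lf 16546956789306040278320323124778695799689203169990840163504748097889691969593692990560831478634757894521157368878302136050732986819528613372288759146574473534830211502604021336478931995081006860800907460983734929457159)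 (.lf 0))))))

/-- table part -/
def fmT_10 : Tr :=
  .nd fmT_8 fmT_9

/-- table part -/
def fmT_11 : Tr :=
  .nd (.nd (.nd (.nd (.nd (.nd (.lf 0) (.lf 328758513442306586832488554023365481580730204150691058702775934969814140273397656673351401595104636726315773247122676104044302598053177611219968145792451683205371947611859376385139899979368853869868827742830599)) (.nd (.lf 0) (.lf 0))) (.nd (.nd (.lf 0) (.lf 38609568143023368018515674855026050912164066425715497440186539842432679391695503375153568561376781548848255681218016053451047225311369874481933379208950642538733254823819608560995259549773295050103168033461916508618754)) (.nd (.lf 11090684064931009760302448351894799075914066928740759657706517352594875910857808489848520773732631619757569054535660068976361209863) (.lf 0)))) (.nd (.nd (.nd (.lf 0) (.lf 0)) (.nd (.lf 27578263616819510994264682125032143123224349328815260870141029493244374991204311821538798292883223704039413356698447388412571210821032993799576184342931939510315143497575772888889610720815863062077470163571346495242241)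 (.lf 0))) (.nd (.nd (.lf 0) (.lf 0)) (.nd (.lf 44125218104815917985363068289373996708222344856514850555386276553368165210417810718629873690493773291364422647760036932637999796573013762503079111893635206351068709423498597827607951765022141733491989170383118179237889) (.lf 0))))) (.nd (.nd (.nd (.nd (.lf 0) (.lf 27578261644268508722551123742132773760218023072990292456588166218479118746745978043555746301382634374675273425900949832753464391253190001910381660675938584215530065723778333259836433314657737726520736720250286588821507)) (.nd (.lf 0) (.lf 0))) (.nd (.nd (.lf 0) (.lf 0)) (.nd (.lf 328758493846773344202561867680008041596896252418489088177840837885094679898913128652160982286593732136168668360609722835441402683000279755666136603042607190316626874616383202219012947752072540793070470702301184) (.lf 0)))) (.nd (.nd (.nd (.lf 0) (.lf 33093913907370496021282187919090292784185540373236533399852830647218447399886220947005493442755525444107780934418724454899127891566676789950916046785140236522137585688793147593682226293213673029826659017065062180323333))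 (.nd (.lf 0) (.lf 0))) (.nd (.nd (.lf 0) (.lf 0)) (.nd (.lf 11031304526204111766199498698904569709979237696898520630106908465727432483382724896329295912816065505744420090438653162113739836291761618890169649680637862784854184017255326281114703022552724641649427467180910774845448) (.lf 0)))))) (.nd (.nd (.nd (.nd (.nd (.lf 0) (.lf 0)) (.nd (.lf 44125218762332925274442999323658627902656597744030689633978049518607274049311496017938281956987766947642187576444829880697835603185754803574983977774013453711833023626196838839754434189900753854950216005097585549246465) (.lf 0))) (.nd (.nd (.lf 0) (.lf 0)) (.nd (.lf 38609565841713969877701993324923751254484191684012350958315938739940495764346623695747916983063756324453520916758740433380989966745145311924127256893961521359706191025114087014869648139346039854027623920929938037800962) (.lf 0)))) (.nd (.nd (.nd (.lf 0) (.lf 33093913907370476425745441335465445805592553548956675130762745186017071194424646867516514988215160058373582257850477913427931862984019914919967565958252392002723860223865380965145786796120932946070369405628055736549376))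 (.nd (.lf 186070713419675363980626894819329160794532188335953423432061490990243657757029868371504908982723472783555205531204141550984858016925351936) (.lf 0))) (.nd (.nd (.lf 7029553222967742158847625780036353278628459306583435886624802314577257322516352104719498201699137391341917957643873112213809489869684298440388664201716319649794) (.lf 0)) (.nd (.lf 27578261644268469531492814377119291793385091497251521032250151087528360058253335748964334284006211668802948047442740149505915958466998915354775905365465678755686526475425524197281402217388421692609795575323568860299270) (.lf 0))))) (.nd (.nd (.nd (.nd (.lf 0) (.lf 0)) (.nd (.lf 9343878941828807763611496724007839907342675405974733477904682097649087349311320947085389653121552446023424889229773478740008509288988344559443948914558012626108907123835298694961456642770717376520) (.lf 0))) (.nd (.nd (.lf 0) (.lf 0)) (.nd (.lf 44125218104815917985363068288886675508457114327446702285619944593766540694397546354965547596033269355902803372493092001170285015985543426738733449396408370006102303826660682136154993518923099894571331274869215235932168)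 (.lf 0)))) (.nd (.nd (.nd (.lf 0) (.lf 16546956789306059873859405677930148039837716015845221808543361814787352331075435605353889346121196396330127769431686515127923934455381421764630881661507859480458853185614705327585749451168337685404983747495522931310597)) (.nd (.lf 38609566170472463724478841482436891332375983830646854402548205669720880713132385446305789668498133690136050922459226887578961523017057682030508909841052065629337714692127492653887051307128502431251178883970812897918977) (.lf 0))) (.nd (.nd (.lf 18788340662190665823119823360205974512142703554564025200936318119382078666326823578419832663603361145587499008) (.lf 0)) (.nd (.lf 0) (.lf 0))))))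

/-- table part -/
def fmT_12 : Tr :=
  .nd (.nd (.nd (.nd (.nd (.nd (.lf 0) (.lf 11031304526204092170666256069604439237572111387499485278427014003754174172326767784735743282896443721096176659053198862432664602334325002957722167297097855719731792295992210735729441869452563299627288094627454653562881)) (.nd (.lf 0) (.lf 0))) (.nd (.nd (.lf 0) (.lf 11031304526204111766199498698974187033123232562938911067907274314055087450573998467685022774673492670743976437810264229675775498442202479193649604248304340213448658611837646954162507328305523830073186775193732599775240)) (.nd (.lf 9343878384890255807777119448474196633381331982845050737826186276657715542443371287564109437577976626746659450006721346172290467269376897020421450382791094657540085093089822617769726345721061310464) (.lf 0)))) (.nd (.nd (.nd (.lf 0) (.lf 33093913578612060961109739589435779764507802562836397803961198157295015078633280663163993043217292285613624610766338410165136311079343647583463765557792601277159014664326199134669638033187429166916529715845655043244036))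 (.nd (.lf 5515652263101987298728728207430913795608113109085112352897269396216198887424215820128660001943808587833784893551335930816647064191168732319583111500951066614122648616177179922993422016587311577585463592732098692120576) (.lf 0))) (.nd (.nd (.lf 0) (.lf 0)) (.nd (.lf 0) (.lf 0))))) (.nd (.nd (.nd (.nd (.lf 0) (.lf 44125218104815937580905654796919782831644414242091390876894487532373693693873991054292126004033048250388414980513436303953426741111231081019953997266391121360207410551564450611950761426296755589037881868518228316127233)) (.nd (.lf 0) (.lf 0))) (.nd (.nd (.lf 0) (.lf 0)) (.nd (.lf 661055968790248598951915308032771039828404890463705132555270994319888028540428899648837520690813709971684109649815724359681) (.lf 0)))) (.nd (.nd (.nd (.lf 0) (.lf 16546959419373991052515252638860416221884372309770602855435488055048734613271593332945547143001024440082673007444617288374516059734445632492767105757376433441858126191951626683603605880924348618239960448312605105192965))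 (.nd (.lf 2993155353253689176481146537402947624255349848014848) (.lf 0))) (.nd (.nd (.lf 0) (.lf 0)) (.nd (.lf 44125218433574411832145756370181520006049206957183920286563735394270370515751928090372060906676968258801769348843672164467022724366455150363667802647579133784881272925108898250956597826003314812354896791099536679370752) (.lf 0)))))) (.nd (.nd (.nd (.nd (.nd (.lf 0) (.lf 38609565841713950282167582711243213414067969017638980274711558944276875024080403446901644384799572850643363767025034557139881661295541258303363799107571966660539050157809290597187302602763405013949807841506465907998723)) (.nd (.lf 44125218104815937580896310918186805980864240636845767121381282974083987645446754257646013780935391851923253803972515023222587999228415272745987987523402752908286602592411554877099980488829356733127721889872565885730816) (.lf 0))) (.nd (.nd (.lf 0) (.lf 0)) (.nd (.lf 44125218104815917985363068289304379418274476272835169871292988772762977095383673950301570804270971146609363310608440280129118127949353257578855752236264854009722383304365896912163382950942905886098845416263086680047617)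 (.lf 0)))) (.nd (.nd (.nd (.lf 5515652263102124467470770491404038591227129474442513172020564140445958473797459263375574580893129162967211701261940886214138347912116339485479420490032503363219678055480645876488809195739246767987346776272171796791304) (.lf 44125220734883888355092408417623576195496060357691658994569167916812479112853422023861256939449779944451065368464387825319802176038958235837282729854203082316877310601294307422914549185894921621547334187057358745632769)) (.nd (.lf 0) (.lf 0))) (.nd (.nd (.lf 38609565841713950282167582711243213414067969017638995016755795679824769089827056165536162474386000446968181161580431117398386161851705277114602239782677193932623114830316171852314002212453506267810277057381745540726785) (.lf 0)) (.nd (.lf 0) (.lf 0))))) (.nd (.nd (.nd (.nd (.lf 0) (.lf 16546956789306059873861741647665605250077650275118625900691147925123619408411888677584968570286541214340872502100220861975627770327569001729541712310755897425756925107805118237617389244012850000628857540536001835827207))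 (.nd (.lf 878694519490715854223842663981790209147054518932622210076118353633468371885658626721644985165828984101968556525200659234331552353472568085949871694495000559623) (.lf 0))) (.nd (.nd (.lf 0) (.lf 0)) (.nd (.lf 878694100496721165266233618274649713407717511584648841000633987746900387129182836453213095925668551490017831450537038858992041556669560335004947809721942802439) (.lf 0)))) (.nd (.nd (.nd (.lf 39402006196394479212279040100143613834722514115218392696432682380352919628045013001203911980314875990388101454233608) (.lf 19595533242629369747824597730157606479693353926458780379124240169732590065828495336651173195448581465191639499264624000495514846025362822177687575325859632526313119553338153520632257568904678301207887879)) (.nd (.lf 38609568143023387614048917484186946750731750946328605478961734951901158478609236505913517457789035864215049608595366352272649931087216224630255532933636606148300268122527097714710812748092841254089471809626116223664128)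 (.lf 0))) (.nd (.nd (.lf 0) (.lf 0)) (.nd (.lf 1167985076580562103404897449833796769283161282172941065819255998902265896744014961820524328014967405770333371258371037516352481137772477693161328325434239961702535861301286214924930032844675219459) (.lf 0))))))

/-- table part -/
def fmT_13 : Tr :=
  .nd fmT_11 fmT_12

/-- table part -/
def fmT_14 : Tr :=
  .nd fmT_10 fmT_13

/-- table part -/
def fmT_15 : Tr :=
  .nd fmT_7 fmT_14

/-- table part -/
def fmT_16 : Tr :=
  .nd (.nd (.nd (.nd (.nd (.nd (.lf 0) (.lf 5515652591860637909777357323822975299747647326894268575820057703647064723484772610511965066614685429833013851745109459253496301621043507893752618403526911756149052385212938303568056989276488953600444170708261225365504)) (.nd (.lf 0) (.lf 0))) (.nd (.nd (.lf 0) (.lf 44125220077366900661536376133558012036015398288919600041501192895216892959542173212956916542342224940108616963748387940561037662053431638278396420444765803879516473331357699487952030878024763485607935875039531313922052))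 (.nd (.lf 0) (.lf 0)))) (.nd (.nd (.nd (.lf 0) (.lf 16546956789306040278326163048838869528563543414135920746747988045869594181462430251749077811490561464524587918461648478759398524151308456146684702046693358138125191120517037957382276330831476984939292902524368038395906)) (.nd (.lf 38609565841713969877700825340473726563331100460997536736350270579553770578136342161566099976724878168297289721135306419829393995833631785523270123601566225712608526620362614249624018599767081885034623585440899058892805) (.lf 0))) (.nd (.nd (.lf 3978585891278293137243057985174566720803649206378781739523711815145275976100267004264448) (.lf 0)) (.nd (.lf 11031304526204111766199498698904569709979237696898520630106908465727432486504473446645288144197662735537586398535793887552544215040896498541288202518241414061626978628138725123948017609832221257016544258988389825511432) (.lf 0))))) (.nd (.nd (.nd (.nd (.lf 0) (.lf 16546956789306059873852397769419949632258831749989035114878893011232579120331712513840888850464404572989295399284959702077411551938805052322646871946737866627684757608828044492206193173933294292420196012998732562825216))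 (.nd (.lf 556938551955834377275533643280112202493226460250818904765239922666693992943201210294599213402321454266265621861009604102879903451751257645609447824408868927566714244634534026583422971936770) (.lf 0))) (.nd (.nd (.lf 0) (.lf 0)) (.nd (.lf 5515652920618974992283592506559132047572392634232690044945284800604346990428986654378907029944935068913215107895819590073048087342605638819266877693917281503571648670355751036474935512874776650362418183247577158254592) (.lf 0)))) (.nd (.nd (.nd (.lf 156764265941034957982331212844852467344711424073452514733213645761188669981476262343562925228628969929810665077200189254328979035913475667108816555423512546471623345805001827584036244747370696203793596417) (.lf 5515654893170094837181422862953454890029285850093194612929187525802423924772008012498463121571164267728735757518821752060694109728835917442595800620906023528004571435435202800977614001023243417646008955931050488365057)) (.nd (.lf 0) (.lf 0))) (.nd (.nd (.lf 0)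 (.lf 0)) (.nd (.lf 19595534410614655180306338932826605598785455978024104912853184678031382726536132580959836545303446592662541868991566165369351321259368717214323685905804227172911057508552470000391512309517089973347549187) (.lf 0)))))) (.nd (.nd (.nd (.nd (.nd (.lf 0) (.lf 22062609052408086363647611235590359014819672630393567754516730752477444789208549951240610774682725305325499440683147209361306738476426358362934544175183049526428890842219155417661882916997259681307871146976135700545542)) (.nd (.lf 0) (.lf 0))) (.nd (.nd (.lf 0) (.lf 0)) (.nd (.lf 5515652263102144062994669242388896130970473777763880980013577832512951632570153463907171930216786967184079046741379458618116494478159494246430436167294987805923688859649755817425123104721517307936935190284140179095559) (.lf 0)))) (.nd (.nd (.nd (.lf 0) (.lf 1167984867728600970451437090500979989296528519696778512463484824473265535595687786883795589143818232840960638219905603665207241819303627340684754932003115348216409051956507695759146893612605767680))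 (.nd (.lf 0) (.lf 0))) (.nd (.nd (.lf 0) (.lf 0)) (.nd (.lf 44125218433574411832136412491378925869470678605826827977814962942657455888162111232111858988286273745458749447761909005509387343775304504762305386399351418396581165931090653544289831989182833194505807900223464921890824) (.lf 0))))) (.nd (.nd (.nd (.nd (.lf 0) (.lf 9343878941828807763611496724007839913493534161826009508866735133925776252760299503371082881214515928691010639553555841907620528919946705592974717897109361111141631644719509927943994865546531176449)) (.nd (.lf 0) (.lf 0))) (.nd (.nd (.lf 0) (.lf 0)) (.nd (.lf 97977674389040713987219266296907590354258153512550191657726903147794500090261758378656116398034620923669044244363275561463894936811590743235436155756867681157992710386445444649949148460883611196145532933) (.lf 0)))) (.nd (.nd (.nd (.lf 0) (.lf 6150858755851276030962053036276688903448978556285693228091843610296496848218503908812308467657513406119623610534107669044613193896587658718542966935279200370689))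 (.nd (.lf 0) (.lf 0))) (.nd (.nd (.lf 0) (.lf 0)) (.nd (.lf 16546956789306059873859405678347851962103622936563887442109485938544413409975735307948085996528122065633864589711439495342319544521442326844317237559175427228711245745932136849066766735128939147648421387001849880510467) (.lf 0))))))

/-- table part -/
def fmT_17 : Tr :=
  .nd (.nd (.nd (.nd (.nd (.nd (.lf 0) (.lf 11031305183721099459746187104446008983962196426317200516235048054744736746321151415558070125508875478924290036627109826715281116028424964724926417493793589076737768078258709915540196651529325984822233465226125308329987)) (.nd (.lf 33093913578612002174505339762621412520257546418830145805081310467259323055555042548862486548909171030244162626971839997951535708321639361354356696024762059498153468023275886371056880318157917129369907850823304680046599) (.lf 0))) (.nd (.nd (.lf 0) (.lf 5515652591860481145503240395278213994702997494909567910509056892733454454951329867062751848484601845764390034359489285866245645128501732557119807534948519239268292097579812975138249843359090713805636706275942924812290))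 (.nd (.lf 44125218104815898389829825659586545002853865445643097213125001256470146488881225423964880599912407022816594887903385274967482078491377800481448818144048709164198584681933665657610739522605009557552971573643336900149250) (.lf 0)))) (.nd (.nd (.nd (.lf 0) (.lf 5515652263102124467461426613088765662712863037245897555008100377080606276857820918467451568649778184685530840560166576870044240452986321470049674666026888537694608010174555664158709713654260459837691133559453545136129)) (.nd (.lf 0) (.lf 0))) (.nd (.nd (.lf 497323236409786642155382248146820840100456150797347717440463976893159497012533375533056) (.lf 0)) (.nd (.lf 0) (.lf 0))))) (.nd (.nd (.nd (.nd (.lf 29642774844752946028434172162224104410437116074403984394101141506025761187823616) (.lf 24973989891093656299134466166619927314278808069912089640248944636761202514425709475686627019049699790964022133971209622361560058929709533563453448)) (.nd (.lf 44125218104815898389829825659447310364864904872680898823178155169729591099393726561029280015550468702670279148410687446533176513529349858556664906142385051140055825595797445349596247951100290767171091989606561197588480)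 (.lf 0))) (.nd (.nd (.lf 0) (.lf 0)) (.nd (.lf 11031304854962605612972842901953758622948634126580419287237527657269928645268209155026467267718273032731806169954053239089598948044336932903416864239126394755920020725665913436580858461351216085523761027434583177560070) (.lf 0)))) (.nd (.nd (.nd (.lf 0) (.lf 328758513442306586832418936704371002283570747703243727658062547750971732079561806639902815806897053324841877798522017773368262804588629865882239423175829374391027774243114729009459303226417986830108138496065539)) (.nd (.lf 38609565841713969877703161310278801092565513770099848382430998000340341789785628890869308012374066136842392252297296149399227267974589105116824899987226672016392562003785744515311242037520082388872330549258686910431239) (.lf 0))) (.nd (.nd (.lf 0) (.lf 0)) (.nd (.lf 44125218104815957176430721532911603602048137191729696717403050464648845891808202974326914619749251202456902390028807586176791152624401005021355508369706888895290686854687725389203582462979354597832691000825594234535936)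 (.lf 0)))))) (.nd (.nd (.nd (.nd (.nd (.lf 0) (.lf 2630068107538452694655522541090271656924796687828415854899493039584731673608298288446074875608545994738737725009790616210180737744669002665365408527809806446679282873352417671126919599602417598728280700142747656)) (.nd (.lf 0) (.lf 0))) (.nd (.nd (.lf 0) (.lf 0)) (.nd (.lf 105312291668557186697918027683670432318895095400549111254310977536) (.lf 0)))) (.nd (.nd (.nd (.lf 661055968790248598951915308032771039828404682964281219284648795274405791236311345825189210439715284847591212025023358304256) (.lf 1978643211784842423342723645183482144064166847372770150221365829850012467086898687451741587349814753970307279158710874417136673231976738626084282839770313479646863716654252036)) (.nd (.lf 88725430211866075506511602435161452343193876887269392562056006573823784796640864922746359020522379447039096999286686263806554800128) (.lf 0))) (.nd (.nd (.lf 0) (.lf 0)) (.nd (.lf 487321232961355080116091937869988340052391315269877347792936080020542123486279630910523258947348409924390826984121908612297286226887982075558911630905805824960829282901303054745258357161984)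 (.lf 0))))) (.nd (.nd (.nd (.nd (.lf 0) (.lf 0)) (.nd (.lf 5515652263102144063002845136462996333614118021186081860565164668889216104068750629315180340217460487873654018394118742266092735232467647459617128062314868673935168051136395833068499600827546095081142701261143463165958) (.lf 0))) (.nd (.nd (.lf 0) (.lf 0)) (.nd (.lf 33196124551048061604425917277163663225929860050472812759869602273783944469854490054125312856274386503347376828574971056277647345692993193442310529802377309148125528223990961324163073) (.lf 0)))) (.nd (.nd (.nd (.lf 0) (.lf 16546959419374030243572394019075786906741331992908598541974846294461777805611867500935212673681776998135240887352867021088619363512603572273008511919301960326197372977109199684295321114704424407020314440123853463093253)) (.nd (.lf 0) (.lf 0))) (.nd (.nd (.lf 139234637988958594318883410819369030362179574107658899139176874368926253572966138534422205403499377055615764010251241871205947596733671263653209451858057747525416118011121829548472877973512)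 (.lf 0)) (.nd (.lf 39191067653244024928130936662984211975284523972074344450906562548534765694842198045940506624606106219454493617729814329049530756666873326795686935409853908092736234408155661184897797798384850136505253890) (.lf 0))))))

/-- table part -/
def fmT_18 : Tr :=
  .nd fmT_16 fmT_17

/-- table part -/
def fmT_19 : Tr :=
  .nd (.nd (.nd (.nd (.nd (.nd (.lf 0) (.lf 0)) (.nd (.lf 0) (.lf 0))) (.nd (.nd (.lf 0) (.lf 11031304526204111766199498698834952390984758399739064182658698726494554548686092673758661944058706320349831046270234538383842796068279069599331470025649428533562485571328715100567296580116327964549845574009109688090632)) (.nd (.lf 0) (.lf 0)))) (.nd (.nd (.nd (.lf 0) (.lf 16546956789306118660461469535705231317736535988259855660310044786074730459502688215388275149891633737931477767119378386969290936175475327212045901342701786144839682929542255736855983496587195300927813389626952539701253)) (.nd (.lf 44125218104815937580905654797059017436437248285362301135537543205155382014322813191551443215225732553938798701613832815886237923071544670445477418811025235349696343407783071259046564416863604649836840016592770615476230)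 (.lf 0))) (.nd (.nd (.lf 0) (.lf 0)) (.nd (.lf 11031304526204111766195994744440618545056841979945960069123033134843775687915060956405833648170244071232684967583147082174458174409618723404575715692018367934681914033430828784393952359171150830311456299843408090890243) (.lf 0))))) (.nd (.nd (.nd (.nd (.lf 0) (.lf 0)) (.nd (.lf 11031306827513568693604732223320481819347719009025561354097920627562010580577590381720854564224566975244432512857795985186782757855430170515840203697037528648680713437085553641229573394796734941468143901145151087575042) (.lf 0))) (.nd (.nd (.lf 0) (.lf 0)) (.nd (.lf 27578263945578004841029850434355318416073951294229276750474274546600650503230603514421842673598658578340250541474721404969069188521040850388209763245632542752972334519955732291619331396261081580138061295843831455940612) (.lf 0)))) (.nd (.nd (.nd (.lf 0) (.lf 5515652591860637909777357323405271385780771543937618343359314531411269341010684801432296505873076399704722159329161079595761197313234354588300662812661705180072203604598203934386282549489851206776176590083139104145416))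 (.nd (.lf 0) (.lf 0))) (.nd (.nd (.lf 2630067989965261414773308537229660704047920244449367145118016012568226597421928494426593171074780808713245106078313134358881284477778187301837990967279710540897563760864309343432664626563240228498874332126117895) (.lf 0)) (.nd (.lf 14134776518227074636666380005943348126619871175004951664972849610340958208) (.lf 0)))))) (.nd (.nd (.nd (.nd (.nd (.lf 0) (.lf 328758513442307754816729726753385619343385744524039628067350432515845763356113672041034305851466045926202814814998279711688191805377843025763323783398929766697152168133541376662010336237062089683358218457186309)) (.nd (.lf 44125218104815937580896310918326040618853201209807803348874036651411338354904560880781861426652251950605832015564455304414469601019290003179340215114229228863581760248627502773346323746730317288311045693810508356911104) (.lf 0))) (.nd (.nd (.lf 0) (.lf 0)) (.nd (.lf 0) (.lf 0)))) (.nd (.nd (.nd (.lf 0) (.lf 156764265941034957982331212844852467344711424073452933727211456467348031669757461564702474496851574755842655266212311334936957654943066168382289729203601601511327498065021141680830835237489552232523235329))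 (.nd (.lf 0) (.lf 0))) (.nd (.nd (.lf 0) (.lf 0)) (.nd (.lf 328758493846773344202561867680008041596896237676455395771446530186143901109985899454189515341180323710474894457292166380409897760289452917111879084202591438160013890106736307609522841868069735035663144370307075) (.lf 0))))) (.nd (.nd (.nd (.nd (.lf 842498333348457493583344221469363458551160763204392890034487820288) (.lf 0)) (.nd (.lf 0) (.lf 0))) (.nd (.nd (.lf 0) (.lf 0)) (.nd (.lf 5515652263102144062995837227743945969051795863851481598418962971170508573193970767378255142355146543884784148362347518904284550288399985101392740171493970608331130969092960707331001535955798491591091559338490745323521) (.lf 0)))) (.nd (.nd (.nd (.lf 0) (.lf 22062611682475958755710738216851964902946884946256788745283878912756285391752927193554617137218948442290455485731833943258844746712902183327716793009794087594479097002339686693051316961118848277077551954488430222639106)) (.nd (.lf 0) (.lf 0))) (.nd (.nd (.lf 0) (.lf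 0)) (.nd (.lf 0) (.lf 0))))))

/-- table part -/
def fmT_20 : Tr :=
  .nd (.nd (.nd (.nd (.nd (.nd (.lf 0) (.lf 0)) (.nd (.lf 0) (.lf 0))) (.nd (.nd (.lf 19595533242629369747791401605606558418088927130487463844933662202465281465266200982457647235235528838735010358900495684567911298014908298340170885513171109743249504533143507682501017145381579984990109696) (.lf 1766847064778384329583297500742918515827483896875618958121606201292619776)) (.nd (.lf 328758493846774512187429596280978493033986753398478384706412908913333481653657812952840531113065760215702886032994080675763296651693205266714825474359370223157719013868582017667083806511442114522717953384775681) (.lf 0)))) (.nd (.nd (.nd (.lf 0) (.lf 0)) (.nd (.lf 5515652263102144062994669242876217359782313041668578486266624248424035023784984450001220960439816014369686875575668164885362725695457315254999267545610460867309296364520078681854423592963081086313683388865286688997384) (.lf 0))) (.nd (.nd (.lf 0) (.lf 0))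 (.nd (.lf 38609565841713969877704329294659208460574608148431045639721063257434330094141569953823648679421898514706844069098151317151940877066712947385118584817781815294685929854475084402075562426654254247998058358274223931129859) (.lf 0))))) (.nd (.nd (.nd (.nd (.lf 50216813883093446110686315385661331328818843555712276103168) (.lf 0)) (.nd (.lf 0) (.lf 0))) (.nd (.nd (.lf 0) (.lf 0)) (.nd (.lf 0) (.lf 0)))) (.nd (.nd (.nd (.lf 0) (.lf 0)) (.nd (.lf 19595533242629369747791401605606558418088927130487463844933662202465281465266200982457686637241725233214222637940595828181716377754178764629337167155032849048521328440141918828186746998920754529898070017) (.lf 0))) (.nd (.nd (.lf 0) (.lf 0)) (.nd (.lf 5515654893169938072924825706449980137768213230445174977214191397117442737847479464803025041166108423788586158262856612652619585665324182429610668173213819374054886492187966919957641707845690595019200073134136063164416) (.lf 0)))))) (.nd (.nd (.nd (.nd (.nd (.lf 0)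 (.lf 5515652263102144062994669242945834682926308155039414623286660482202204345351082165867347039057759050874605573168212747989653357768229514500626820688694489730929629691258203201012252136639598343001117513114246379995143)) (.nd (.lf 19595533242629926686376553564534881895400301233434464386295940778968810817597642851022571096705538617973381725557849020860800601191668312320095888052943351827420529928903299709598744189235578247854424064) (.lf 0))) (.nd (.nd (.lf 0) (.lf 0)) (.nd (.lf 0) (.lf 0)))) (.nd (.nd (.nd (.lf 0) (.lf 2630067950774196097499019066342160099874029646409170787287257067418612651969221507803156527200378396595166176823792862764585389219322884304067446800590309648746323480415113003844157781606065556008172596011991046)) (.nd (.lf 0) (.lf 0))) (.nd (.nd (.lf 0) (.lf 0)) (.nd (.lf 1167985285432514937327220047165954491640353897147573149974422791457134647665025520757180890480550164265863839106273665441097869114843383332467973511709539605165907097229528994678088160287251234821)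 (.lf 0))))) (.nd (.nd (.nd (.nd (.lf 0) (.lf 11031304526204111766190154820519679458320976146330995165865526508199020439026634166552838900230753849293688510227808743736739714568846302507096790755652800256635284452159590083002720007633546494229245106753915775352833)) (.nd (.lf 38609565841713969877710169218928234142282872199156029381758291535352073809432862991081756268752998576447017054451852572639629561627476520639228359297459543033772441622858626060659127803713896528377651086842994024775680) (.lf 0))) (.nd (.nd (.lf 0) (.lf 0)) (.nd (.lf 33093913578611923792372369244655100105091704905643510913477977238346688073512354058535913396944248196338891878041904698311472473558328384908618683481327309221965479686011125215120931687674888395571591627486039052910599) (.lf 0)))) (.nd (.nd (.nd (.lf 0) (.lf 44125218104815917985364236273615169438242482619170376186684458324110285662208863458957015777392816665308937871625097545304034987542516055823167482965928163080683866217149908408973672774120960666655810645795023194423298))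 (.nd (.lf 5515652263102124467462594597956494259533798905455390834446024470911853897145954770874193948881507357053290683875905172928230285298295191457446516242005439065381258901254541596343524172802923443922181462763228217999367) (.lf 0))) (.nd (.nd (.lf 22062609052408086363649947205116964259777137613096259340310946347147828156830119613022959960739923876320631709691703341362550447649084401540611400605215134531832292251364121756204727818035847103918128024985396152631301) (.lf 0)) (.nd (.lf 117573208799654881846288494359085198838663149165228610816327255829211437385586962613714999535583850025730880665563857664826637048606884929009136642887751246215778702229217992051065698999330112366270480385) (.lf 0))))))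

/-- table part -/
def fmT_21 : Tr :=
  .nd fmT_19 fmT_20

/-- table part -/
def fmT_22 : Tr :=
  .nd fmT_18 fmT_21

/-- table part -/
def fmT_23 : Tr :=
  .nd (.nd (.nd (.nd (.nd (.nd (.lf 0) (.lf 328758631015509546562614053384741676559757887022374489983037713244715595945293977335902698781344900497127591856498737368625281956794639772121628655065005011513903072399893475003374928759887834724059508809662469)) (.nd (.lf 0) (.lf 0))) (.nd (.nd (.lf 0) (.lf 11031306498754996464701921457673956811362139773266113992650912488148928838472803706265763175727616030578310081645119461659707784559645617641568007892074060656175614443295183993375576494287966276695993397427847611547656)) (.nd (.lf 0) (.lf 0)))) (.nd (.nd (.nd (.lf 9343878384890255807777119448474196640410884839193044812305922615128097347490971486761636504179732881308939839288098862108625396939218764977037778625920852379275368905857807666885821720022535372800) (.lf 0)) (.nd (.lf 11031304526204013788526277643754484306525280342591926179049332994903678204287020207463783871686861671544244385652263350377355277628868828700120653603990264301518130072107094686790721054198889507977747617742083646816260)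 (.lf 0))) (.nd (.nd (.lf 0) (.lf 0)) (.nd (.lf 0) (.lf 0))))) (.nd (.nd (.nd (.nd (.lf 0) (.lf 0)) (.nd (.lf 2630068068347386209396922280149606921853523057741056297669225747644860660039003845274761593566025192009316527323365448667908479219465683319340639578705181214633419801618824808245778641194616082490127955263488001) (.lf 0))) (.nd (.nd (.lf 0) (.lf 0)) (.nd (.lf 5515652263102144063004013120773786382628735081000931260947694627909803407459661728657039847094111620614446955579120283415163071527624267602751947541034292785838723605721810590044326324866184578657628115909108192772104) (.lf 0)))) (.nd (.nd (.nd (.lf 1757388200993436087035366604587018025801334013059097065702888957361668531356935957538446357187327863082447932050692268033093579386785322981259608972439941283845) (.lf 16546956789306040278319155140119819159851705193259642516212236895692037780128722906880640460339153743096852204416233380210434878591060185741051842902860906371783480610202835664922533960303459449243384999995541165178883))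 (.nd (.lf 5515652920619131756542525632798064001774370354035310156536322489142142314868327591537850062731150431006037739258642614453923781195709763177768247154109448533342462979843759167443355250579137743008161758827175156383751) (.lf 0))) (.nd (.nd (.lf 0) (.lf 0)) (.nd (.lf 556938551955836355918745428115505991993903898452366606765334200417189613572626194545788083216363019915352244129152018871009190430035292643277625488030182095807574052824922799178617595101188) (.lf 0)))))) (.nd (.nd (.nd (.nd (.nd (.lf 0) (.lf 878694152870967769855953222493453481713130162076889412778584665486045676808419411165027279367050602282428683265757020591223177956485514779597665165280563691528)) (.nd (.lf 6277101735386680763835789423207666416102355444464034512896) (.lf 0))) (.nd (.nd (.lf 0) (.lf 5515652263102144062994669242597748087953911421911789881099572093030543578904604761272445437753791446783653202793539649502731492949823118465265303741259313024183716460065333553741186861158482302584807661417753353388039))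 (.nd (.lf 11031307156272023349319767060660015571389874827832564080313020532319821795866928652216188001245324540220776435539695412855251447438053743799707080215217884806022440434111465464343778816010721945281133179592689391239174) (.lf 0)))) (.nd (.nd (.nd (.lf 0) (.lf 1119872371088902105278721140284222139060822748617324767449994550481895935590080472690438746635803557888)) (.nd (.lf 2630067970369719996249864689231465938381728319500515817624805289904115314980426452250381936503203273887224635874242327490928925467389248729063446608330544151886993876935339063626115455231523276451698370651619333) (.lf 0))) (.nd (.nd (.lf 139984046386112763159840142535527767382602843577165595931249318810236991948760059086304843329475444736) (.lf 0)) (.nd (.lf 0) (.lf 0))))) (.nd (.nd (.nd (.nd (.lf 0) (.lf 7029552803973744348141466418348072084695767822853253993112509260715962206211225927778956418616997346146531442802155579625345382210826362014840719268628991574016)) (.nd (.lf 0)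 (.lf 0))) (.nd (.nd (.lf 11031307156272003753786524431499119741121222681633449324087947535885748258966002227733199197327759324572379592677407139239513898210854113442293447700028476871870485434990243494603851117413660598101857303915168714981382) (.lf 0)) (.nd (.lf 16546956789306059873861741647665605250077650275118625900693784007425109562542441727491849097316980015297459966604797160346151696490744663111324205978443606333580833255979780322428457072109811700338116132129977741082628) (.lf 0)))) (.nd (.nd (.nd (.lf 0) (.lf 14742040721959145907193572581985425355144223517251720423344555860334469384344331453461432520225229560708860839963921269139728846210643721220943102544658968920505450496)) (.nd (.lf 0) (.lf 0))) (.nd (.nd (.lf 52374249726338269920211035149241586435466272736689036631732661889538140742474792878132321477214466514414186946040961136147476104734166288853256441430016) (.lf 0)) (.nd (.lf 4149515568880992958512407863691161151012446232242436899995657329690652811412908146399707048947103794288197886611300789182395151075411775307886874834113963687061181803401509523685376)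 (.lf 0))))))

/-- table part -/
def fmT_24 : Tr :=
  .nd (.nd (.nd (.nd (.nd (.nd (.lf 0) (.lf 11031305183721119055271253839880891206559600814891396629165399403414145917105164324718819121773370924732918766658145264181759630160940120651226542204139531174282368165607077364641068673644977336396703695274989173342214)) (.nd (.lf 5515652263102144062994669242945834682926307907709013150183005115381186045936703654676592074984457989015027890068829755034733412902826632153276098920383223932460049685189959974143050354440146247808497669892426006790147) (.lf 0))) (.nd (.nd (.lf 0) (.lf 22062609052407968790457499337687145207372851145561062563132371758182007977406110908884032698003611938161118075486931390882468743108522722347434257036851133056226824503787296374951834708326502725074047320043458882699266)) (.nd (.lf 5515652263102124467461426613088765658563347221034488381356587352444493938930226448784254079501141317373456498613967203199258956250124618925955459650476352054587129620742978604169398655161539610108010055479996182429699)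 (.lf 0)))) (.nd (.nd (.nd (.lf 0) (.lf 5515652263102124467470770491960977147332479420599069257895406818656037439043289428708061213228706825203450202410314445741105857565395270801419236777143043813437053544233182678222484963714547052448717272805265985503234)) (.nd (.lf 556938551955834377275533643280112202126606709044702278937045934881637802473308128407011519504269231298966876262032843959064824823388445226109542382355020449515186740960199416905841246208000) (.lf 0))) (.nd (.nd (.lf 0) (.lf 0)) (.nd (.lf 0) (.lf 0))))) (.nd (.nd (.nd (.nd (.lf 0) (.lf 44125218104815917985363068288886675508457116306090017264735119932685588182467810591516116843058253167788230657820464636552560939274915406439267601061099046788924745082877827844438365174583446619157412866782128332865538)) (.nd (.lf 5515652591860481145504408379589004043717614554724535247225270771878144019040894269448316216078641304483296462517617922427537540553568959514264540736409338234135980301378722826403899817564479525069683192009240961089536)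 (.lf 0))) (.nd (.nd (.lf 0) (.lf 0)) (.nd (.lf 0) (.lf 0)))) (.nd (.nd (.nd (.lf 0) (.lf 0)) (.nd (.lf 5515652263102104871928183983858252509300215777675931919719633104949597823150618615999118001481353076148783111384777213112204187088413068259832711800755399678899808365293702118787493395275562440944367601912570955431936) (.lf 0))) (.nd (.nd (.lf 44125218433574431427670823105616402261842735649475629110407371673622359238116818395499310167748432210083257872540841372504907208292899393794033146926453183609809898941795477682058345209987975243258149640781766177325056) (.lf 0)) (.nd (.lf 0) (.lf 0)))))) (.nd (.nd (.nd (.nd (.nd (.lf 0) (.lf 137168742042284042742118763011231397923935291915613019198507052442057279661075251600890805910564087728202532616168955526740033956884824592386354204055104559661671548806473881360880323373715538069560492038)) (.nd (.lf 0) (.lf 0))) (.nd (.nd (.lf 0) (.lf 0)) (.nd (.lf 139234637988958594318883410820247724462676292151176582441470383384801672261742777878782112313072000549875790939500894985250591897057331455271247112317879741265270103241856733977110305046534)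 (.lf 0)))) (.nd (.nd (.nd (.lf 0) (.lf 0)) (.nd (.lf 0) (.lf 0))) (.nd (.nd (.lf 878694100496718043517683302282418331810487718418343092402491322775749527474899974671687634004666183037093927858109549828751614463963730408009475621262727315456) (.lf 0)) (.nd (.lf 0) (.lf 0))))) (.nd (.nd (.nd (.nd (.lf 0) (.lf 0)) (.nd (.lf 44125218104815898389838001553521410600704675645794269898702484582556356031720928329932295227857123745040726643931391282991331597957336021987509529651111891550117646956597546344738274014348270619380430473942951375405057) (.lf 0))) (.nd (.nd (.lf 156764265941035027599654356839718507779375345726484546232791595632597077422647621113655837828156437994425144201827564823029962092948283981810795100544022334881214108619645388593340526299253905830166134784) (.lf 0)) (.nd (.lf 0) (.lf 0)))) (.nd (.nd (.nd (.lf 0) (.lf 487321232961355080116091937864716175501785253613360967583393829729953101972359637650456911574351760726514013596780928911594070574892140906696568709113024220765644590660337118739442228527112))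 (.nd (.lf 487321232961355327446611347300298073774544130102312985931356229466940891214460758550914804889661274879019065560987543608578378333688282610676642425290883184515754606256492394302833451597828) (.lf 0))) (.nd (.nd (.lf 0) (.lf 0)) (.nd (.lf 11031307156272042944843665811714490421828667043220912493381441114907528874545861379027075420300300963739746054386709736797122283856238266478746973618739122145847785185646458803398304888585179734925385363343469155713031) (.lf 0))))))

/-- table part -/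
def fmT_25 : Tr :=
  .nd fmT_23 fmT_24

/-- table part -/
def fmT_26 : Tr :=
  .nd (.nd (.nd (.nd (.nd (.nd (.lf 0) (.lf 5515652591860637909777357323892592618742126624053710281229302871620783402337828408669773643846791367674754004437452257918402521468485846271783184060475951942584201209513728181671699166965494316319107828543373623427078)) (.nd (.lf 11031304854962566421905189658137682494640080786198538834911647668246034485244743620789802133898484409609522212542663938591839125461646736061069102338534455619893579261314721891822758031182704211829610570637395269517318) (.lf 0))) (.nd (.nd (.lf 0) (.lf 27578263616819550185325327459989934244832104864680388530729102854942241232073275148981365792280294821786507378295106988575335189290774474386946784158359467605651245932152907473869425553111678756912413393986868610072576)) (.nd (.lf 11090678776483259438313656736572334813745748301503266300681918322458485231222502492159897624416558312389564843845614287315896631296)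 (.lf 0)))) (.nd (.nd (.nd (.lf 0) (.lf 44125218104815917985363068289373996708222344856514850555386276553368165210417810718629873690493773291364422647760035812765628707670908483781938827671496145528320092098731147833057469869086551653019298731636482358902785)) (.nd (.lf 0) (.lf 0))) (.nd (.nd (.lf 0) (.lf 0)) (.nd (.lf 0) (.lf 0))))) (.nd (.nd (.nd (.nd (.lf 0) (.lf 0)) (.nd (.lf 0) (.lf 0))) (.nd (.nd (.lf 0) (.lf 0)) (.nd (.lf 0) (.lf 0)))) (.nd (.nd (.nd (.lf 0) (.lf 328758533037849173340103957461632514694585148992984485437675137267736381794636717837696979483087955437087544382329682329837924121527208093443423218032870930597064681982307307889661824842215603342771406592016392)) (.nd (.lf 0) (.lf 0))) (.nd (.nd (.lf 0) (.lf 0)) (.nd (.lf 19595533242629926686376553564534881895400301233434464386292819030418494825366261253792777930418578360492907420230105211352253515885211851708993994094701080327720831541487029312758313861665489463438999552) (.lf 0)))))) (.nd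 (.nd (.nd (.nd (.nd (.lf 0) (.lf 33196124551048061604425038582696546756680225741342336353753396651288609247750147846952731146228458045765744894726891984345880919973447320293864683822681477041309811698963440233086976)) (.nd (.lf 27578263945577887267833898612531165517741748654231303622659201242346546076705703971484687159642809244849289994349460666343386386849137773443913884354230866039906557996410296011424706008842292008306296825361555437649922) (.lf 0))) (.nd (.nd (.lf 0) (.lf 0)) (.nd (.lf 0) (.lf 0)))) (.nd (.nd (.nd (.lf 0) (.lf 33093913578611923792379377153722237085374001887841102183475204621265401994696418929966822548040631007494194076752747720500434783310483337163358618230640066361252559623401550404805706396319431850242421197152297703964680)) (.nd (.lf 186070713419675363980626894838117501456722854159072749469031055715744205929345746751601126645954754102164588645647081055091206629137317889) (.lf 0))) (.nd (.nd (.lf 418993997810706159361688281199221139549268220256283449216355784236081273844150506943059335523497325679169760506906887664011661155733385133479262320328704)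 (.lf 0)) (.nd (.lf 328758493846782688081503696487771653093620363452685878037665898064345570355659298133147284288498742116985090767717107994413688297845042811931551172704638082922551087449444526540247414679370447990286769790648328) (.lf 0))))) (.nd (.nd (.nd (.nd (.lf 0) (.lf 66749594872528440074844428317798503581334516323645399060845050244444366430645017188217565216768)) (.nd (.lf 556938551955834377275533643273961343370755433013740225900780336662253755281400791046279300829726781529489040806401068592137958212883450352491811614778444850616234245347341494416054184574976) (.lf 0))) (.nd (.nd (.lf 0) (.lf 0)) (.nd (.lf 44125218104815898389839169537971435291857767116139500335816923539202993277256417481103499318111444110434042528730202515687001496245028829357460482576227551746261780222975028082208660482836483654137948484056472122032128) (.lf 0)))) (.nd (.nd (.nd (.lf 0) (.lf 16546956789306079469392648307299895831239321622403639897471370996351693957807167351409699179601211503350450902064142600141289377606279859120446246929996669368226277456847701127597535474237226337334419627429599916326917))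 (.nd (.lf 0) (.lf 0))) (.nd (.nd (.lf 0) (.lf 0)) (.nd (.lf 38609565841713989473243411848297981929534962484163855985280184301928768765860362309158992081843049452904366413353196587030778223533362055342928315708538630794523794769953355710680377307323394111323625556163603707461637) (.lf 0))))))

/-- table part -/
def fmT_27 : Tr :=
  .nd (.nd (.nd (.nd (.nd (.nd (.lf 0) (.lf 44125218104815898389830993644315038969984871878652510698010028706029184165527588225937916699877192091818251161794131781963575456274959451867216300479734180276490888725978191800721572959964835236338740457512183177150472)) (.nd (.lf 9343878941828807763611496724007839914372228209948477826046148515997159435329200746921147040533491407455058177844024505434562656481384493287058211437569680741427666584086653762969213320456352825352) (.lf 0))) (.nd (.nd (.lf 0) (.lf 7029552803973744348141466418348072086017879799835757387410819089060544386011649335929456885675309832123290829048722029334445326918858757609657413046784348913664))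 (.nd (.lf 0) (.lf 0)))) (.nd (.nd (.nd (.lf 33093913578612002174505339762621412520257546418830145805074280914455349311206901082444149567507879137422877420631732988969583849042384857461049226875723993337165223980070230784511406411847522541495945346428504142512130) (.lf 11031304854962488039764043247350381635329287374618292413028100462507338139181875752071385828256074828114145750603307018507112938014762406169013216745454850110374291236914501349228009227099053068729638108234886651314177)) (.nd (.lf 5515652263102144063004013120773786386778250649881938961507854003603219746119169682663302273117672745940714321656043229214256919140746090122248264145235974802067685014696749484840163506619852474732013910600184145903616) (.lf 0))) (.nd (.nd (.lf 44125218433574431427669655121235994860637512762810108841471179192641331115019068978299075376133190959496744034021465536144325490018272179743194252517448805422101063516721295403699167859003325091097106201914984634515459) (.lf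 0)) (.nd (.lf 2630068087942920620011298991175818419943966625993358454672956841339754440700121346206953923254901523107676370223742979517009698890273052102839765312838994603005797419234490970843927367538959040344560762796113922) (.lf 0))))) (.nd (.nd (.nd (.nd (.lf 0) (.lf 16546959419373991052515252638790798902889893012611146407983763539780489554485258452678018529352245378299102789287955976119817222929360734882565122710752455382516607128820545864538696084660250497336729922101230539112448)) (.nd (.lf 0) (.lf 0))) (.nd (.nd (.lf 22062609052408007981523984596565875424015505631446234892514142978807984842980686146388578221663875693974961079870578719969623082897372711708869054795138111786575618303548044070315571418877608196827075916168683541495812) (.lf 0)) (.nd (.lf 237142198758023568227473377297792835283496928595231875152809132048206089502588928) (.lf 0)))) (.nd (.nd (.nd (.lf 0) (.lf 8343699359066055009355553539724812947666814540455674882605631280555545803830627148527195652096))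 (.nd (.lf 0) (.lf 0))) (.nd (.nd (.lf 0) (.lf 0)) (.nd (.lf 44125220734884005928283688299837580060256528803449198526423247522749365348591664355047347667821069734992683554605750398794286570496521446244927560094926060713256891265295470558841330249719004731670262666354640860217348) (.lf 0)))))) (.nd (.nd (.nd (.nd (.nd (.lf 0) (.lf 247330401473104534060502521019647190035131349101211839914063056092897225106531867170316401061243044989597671426016139339351365034306751209967546155101893167916606772148699136)) (.nd (.lf 0) (.lf 0))) (.nd (.nd (.lf 27578261644268567509150851630311634453417320426476966310217393150501801509940194454257421102681295054650697072378238799865619825391351475761702117589443119941499174799646434063071596633253438773284340065716896886947842) (.lf 0)) (.nd (.lf 16546959090615458014671919223512805699818569417321135453715359420926051156555991540059977617309379054053832378560428851421301803486320661573728651901987298439296156599223467451249494485370129213335288062480482673098754)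 (.lf 0)))) (.nd (.nd (.nd (.lf 0) (.lf 44125220734883888355092408417623576195496060357691644252526688569413204233467466401911203558165496569643197509183141393224862662040955761200727832602301256543516055108306074924920162621918140950824778025368597494235142)) (.nd (.lf 22062609381166482232754742291442722371659128230614014288258112722878630386012753369286967979287365470554217037010797132840722898651402958176616832091021702094963695840398682188607650944897233902755227594119614803476487) (.lf 0))) (.nd (.nd (.lf 0) (.lf 0)) (.nd (.lf 16546956789306040278319155139980584521862746598940773847433589824947133647130690422448729137215695502816964238340011620645684721731506224456626239706740791783144835015049165860238388969005225520454879604531658911383552) (.lf 0))))) (.nd (.nd (.nd (.nd (.lf 0) (.lf 0)) (.nd (.lf 0) (.lf 0))) (.nd (.nd (.lf 11031304526204092170658080176087277586884301274022534504376780982169252938806338746536283951033143641808469039264274572381178466112362344295417149642949756476752216258703646713397399843941509353304687338519537909760004)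 (.lf 0)) (.nd (.lf 3121748550315992231381597229793166305748598142664971150859156959625371738819765620120306103063491971159826931121406622895447975679288285306290176) (.lf 0)))) (.nd (.nd (.nd (.lf 39402006196394479212279040100143613805079739270465446667948293404245721771497210611414266254884915640806627990306816) (.lf 38609565841713969877701993324923751254484191684012350958309787881656012735852706071993550701188207611149600284975704042473907472910819744356284952422416231491818121819734382146468599207962913601775434842452992150470657)) (.nd (.lf 44125220734883849164016579280499190390081198554817577783223306881325304932882729213284990934545087447221627936039746742158197604832735228174770169473038210867373609151846691788151132756823843396317820813149349370396678) (.lf 0))) (.nd (.nd (.lf 0) (.lf 0)) (.nd (.lf 1167984937345924114446550461337117018998397298581499104580851811815559374316854561467500034888100151312010397184799938030241739293608054138949168443557026669122674627409831998500122749341339222021)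 (.lf 0))))))

/-- table part -/
def fmT_28 : Tr :=
  .nd fmT_26 fmT_27

/-- table part -/
def fmT_29 : Tr :=
  .nd fmT_25 fmT_28

/-- table part -/
def fmT_30 : Tr :=
  .nd fmT_22 fmT_29

/-- table part -/
def fmT_31 : Tr :=
  .nd fmT_15 fmT_30

/-- table -/
def fmT : Tr :=
  fmT_31

/-- table part -/
def rkT_1 : Tr :=
  .nd (.nd (.nd (.nd (.nd (.nd (.lf 0) (.lf 0)) (.nd (.lf 305) (.lf 0))) (.nd (.nd (.lf 0) (.lf 331)) (.nd (.lf 0) (.lf 0)))) (.nd (.nd (.nd (.lf 0) (.lf 315)) (.nd (.lf 0) (.lf 0))) (.nd (.nd (.lf 22) (.lf 0)) (.nd (.lf 179) (.lf 0))))) (.nd (.nd (.nd (.nd (.lf 0) (.lf 263)) (.nd (.lf 143) (.lf 0))) (.nd (.nd (.lf 0) (.lf 0)) (.nd (.lf 102) (.lf 0)))) (.nd (.nd (.nd (.lf 0) (.lf 0)) (.nd (.lf 0) (.lf 0))) (.nd (.nd (.lf 0) (.lf 0)) (.nd (.lf 84) (.lf 0)))))) (.nd (.nd (.nd (.nd (.nd (.lf 0) (.lf 170)) (.nd (.lf 0) (.lf 0))) (.nd (.nd (.lf 0) (.lf 194)) (.nd (.lf 0) (.lf 0)))) (.nd (.nd (.nd (.lf 0) (.lf 119)) (.nd (.lf 0) (.lf 0))) (.nd (.nd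 (.lf 0) (.lf 0)) (.nd (.lf 0) (.lf 0))))) (.nd (.nd (.nd (.nd (.lf 0) (.lf 70)) (.nd (.lf 0) (.lf 0))) (.nd (.nd (.lf 0) (.lf 0)) (.nd (.lf 240) (.lf 0)))) (.nd (.nd (.nd (.lf 0) (.lf 87)) (.nd (.lf 0) (.lf 0))) (.nd (.nd (.lf 0) (.lf 0)) (.nd (.lf 261) (.lf 0))))))

/-- table part -/
def rkT_2 : Tr :=
  .nd (.nd (.nd (.nd (.nd (.nd (.lf 0) (.lf 203)) (.nd (.lf 220) (.lf 0))) (.nd (.nd (.lf 0) (.lf 317)) (.nd (.lf 0) (.lf 0)))) (.nd (.nd (.nd (.lf 42) (.lf 91)) (.nd (.lf 105) (.lf 0))) (.nd (.nd (.lf 0) (.lf 0)) (.nd (.lf 83) (.lf 0))))) (.nd (.nd (.nd (.nd (.lf 0) (.lf 193)) (.nd (.lf 0) (.lf 0))) (.nd (.nd (.lf 0) (.lf 0)) (.nd (.lf 294) (.lf 0)))) (.nd (.nd (.nd (.lf 0) (.lf 135)) (.nd (.lf 0) (.lf 0))) (.nd (.nd (.lf 0) (.lf 0)) (.nd (.lf 235) (.lf 0)))))) (.nd (.nd (.nd (.nd (.nd (.lf 0) (.lf 0)) (.nd (.lf 0) (.lf 0))) (.nd (.nd (.lf 66) (.lf 0)) (.nd (.lf 0) (.lf 0)))) (.nd (.nd (.nd (.lf 0) (.lf 175)) (.nd (.lf 0) (.lf 0))) (.nd (.nd (.lf 0) (.lf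 0)) (.nd (.lf 189) (.lf 0))))) (.nd (.nd (.nd (.nd (.lf 0) (.lf 307)) (.nd (.lf 0) (.lf 0))) (.nd (.nd (.lf 0) (.lf 0)) (.nd (.lf 266) (.lf 0)))) (.nd (.nd (.nd (.lf 0) (.lf 158)) (.nd (.lf 0) (.lf 0))) (.nd (.nd (.lf 0) (.lf 0)) (.nd (.lf 153) (.lf 0))))))

/-- table part -/
def rkT_3 : Tr :=
  .nd rkT_1 rkT_2

/-- table part -/
def rkT_4 : Tr :=
  .nd (.nd (.nd (.nd (.nd (.nd (.lf 0) (.lf 206)) (.nd (.lf 202) (.lf 0))) (.nd (.nd (.lf 73) (.lf 190)) (.nd (.lf 112) (.lf 0)))) (.nd (.nd (.nd (.lf 0) (.lf 243)) (.nd (.lf 0) (.lf 0))) (.nd (.nd (.lf 279) (.lf 0)) (.nd (.lf 323) (.lf 0))))) (.nd (.nd (.nd (.nd (.lf 0) (.lf 0)) (.nd (.lf 224) (.lf 0))) (.nd (.nd (.lf 0) (.lf 0)) (.nd (.lf 291) (.lf 0)))) (.nd (.nd (.nd (.lf 0) (.lf 161)) (.nd (.lf 215) (.lf 0))) (.nd (.nd (.lf 0) (.lf 0)) (.nd (.lf 0) (.lf 0)))))) (.nd (.nd (.nd (.nd (.nd (.lf 0) (.lf 214)) (.nd (.lf 0) (.lf 0))) (.nd (.nd (.lf 169) (.lf 0)) (.nd (.lf 68) (.lf 0)))) (.nd (.nd (.nd (.lf 0) (.lf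 134)) (.nd (.lf 0) (.lf 0))) (.nd (.nd (.lf 155) (.lf 0)) (.nd (.lf 86) (.lf 0))))) (.nd (.nd (.nd (.nd (.lf 0) (.lf 0)) (.nd (.lf 0) (.lf 0))) (.nd (.nd (.lf 0) (.lf 0)) (.nd (.lf 255) (.lf 0)))) (.nd (.nd (.nd (.lf 0) (.lf 289)) (.nd (.lf 55) (.lf 0))) (.nd (.nd (.lf 96) (.lf 0)) (.nd (.lf 166) (.lf 0))))))

/-- table part -/
def rkT_5 : Tr :=
  .nd (.nd (.nd (.nd (.nd (.nd (.lf 0) (.lf 0)) (.nd (.lf 0) (.lf 0))) (.nd (.nd (.lf 54) (.lf 115)) (.nd (.lf 244) (.lf 0)))) (.nd (.nd (.nd (.lf 182) (.lf 185)) (.nd (.lf 216) (.lf 0))) (.nd (.nd (.lf 0) (.lf 0)) (.nd (.lf 277) (.lf 0))))) (.nd (.nd (.nd (.nd (.lf 0) (.lf 74)) (.nd (.lf 64) (.lf 0))) (.nd (.nd (.lf 0) (.lf 0)) (.nd (.lf 111) (.lf 0)))) (.nd (.nd (.nd (.lf 0) (.lf 131)) (.nd (.lf 162) (.lf 0))) (.nd (.nd (.lf 98) (.lf 0)) (.nd (.lf 304) (.lf 0)))))) (.nd (.nd (.nd (.nd (.nd (.lf 0) (.lf 5)) (.nd (.lf 0) (.lf 0))) (.nd (.nd (.lf 0) (.lf 0)) (.nd (.lf 53) (.lf 0)))) (.nd (.nd (.nd (.lf 56) (.lf 200))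 (.nd (.lf 293) (.lf 0))) (.nd (.nd (.lf 0) (.lf 0)) (.nd (.lf 136) (.lf 0))))) (.nd (.nd (.nd (.nd (.lf 0) (.lf 117)) (.nd (.lf 0) (.lf 0))) (.nd (.nd (.lf 97) (.lf 0)) (.nd (.lf 0) (.lf 0)))) (.nd (.nd (.nd (.lf 0) (.lf 138)) (.nd (.lf 276) (.lf 0))) (.nd (.nd (.lf 0) (.lf 0)) (.nd (.lf 281) (.lf 0))))))

/-- table part -/
def rkT_6 : Tr :=
  .nd rkT_4 rkT_5

/-- table part -/
def rkT_7 : Tr :=
  .nd rkT_3 rkT_6

/-- table part -/
def rkT_8 : Tr :=
  .nd (.nd (.nd (.nd (.nd (.nd (.lf 0) (.lf 256)) (.nd (.lf 28) (.lf 0))) (.nd (.nd (.lf 0) (.lf 318)) (.nd (.lf 213) (.lf 0)))) (.nd (.nd (.nd (.lf 0) (.lf 312)) (.nd (.lf 0) (.lf 0))) (.nd (.nd (.lf 0) (.lf 0)) (.nd (.lf 245) (.lf 0))))) (.nd (.nd (.nd (.nd (.lf 0) (.lf 0)) (.nd (.lf 0) (.lf 0))) (.nd (.nd (.lf 0) (.lf 0)) (.nd (.lf 106) (.lf 0)))) (.nd (.nd (.nd (.lf 0) (.lf 140)) (.nd (.lf 137) (.lf 0))) (.nd (.nd (.lf 0) (.lf 0)) (.nd (.lf 0) (.lf 0)))))) (.nd (.nd (.nd (.nd (.nd (.lf 0) (.lf 47)) (.nd (.lf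 0) (.lf 0))) (.nd (.nd (.lf 0) (.lf 246)) (.nd (.lf 163) (.lf 0)))) (.nd (.nd (.nd (.lf 0) (.lf 81)) (.nd (.lf 132) (.lf 0))) (.nd (.nd (.lf 0) (.lf 0)) (.nd (.lf 0) (.lf 0))))) (.nd (.nd (.nd (.nd (.lf 0) (.lf 52)) (.nd (.lf 0) (.lf 0))) (.nd (.nd (.lf 0) (.lf 0)) (.nd (.lf 0) (.lf 0)))) (.nd (.nd (.nd (.lf 0) (.lf 46)) (.nd (.lf 178) (.lf 0))) (.nd (.nd (.lf 0) (.lf 0)) (.nd (.lf 120) (.lf 0))))))

/-- table part -/
def rkT_9 : Tr :=
  .nd (.nd (.nd (.nd (.nd (.nd (.lf 0) (.lf 167)) (.nd (.lf 201) (.lf 0))) (.nd (.nd (.lf 0) (.lf 223)) (.nd (.lf 253) (.lf 0)))) (.nd (.nd (.nd (.lf 0) (.lf 328)) (.nd (.lf 0) (.lf 0))) (.nd (.nd (.lf 0) (.lf 0)) (.nd (.lf 197) (.lf 0))))) (.nd (.nd (.nd (.nd (.lf 0) (.lf 147)) (.nd (.lf 0) (.lf 0))) (.nd (.nd (.lf 144) (.lf 0)) (.nd (.lf 0) (.lf 0)))) (.nd (.nd (.nd (.lf 0) (.lf 79)) (.nd (.lf 107) (.lf 0))) (.nd (.nd (.lf 0) (.lf 0)) (.nd (.lf 0) (.lf 0)))))) (.nd (.nd (.nd (.nd (.nd (.lf 0) (.lf 236)) (.nd (.lf 36) (.lf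 0))) (.nd (.nd (.lf 0) (.lf 0)) (.nd (.lf 217) (.lf 0)))) (.nd (.nd (.nd (.lf 0) (.lf 13)) (.nd (.lf 0) (.lf 0))) (.nd (.nd (.lf 0) (.lf 0)) (.nd (.lf 165) (.lf 0))))) (.nd (.nd (.nd (.nd (.lf 0) (.lf 319)) (.nd (.lf 268) (.lf 0))) (.nd (.nd (.lf 0) (.lf 0)) (.nd (.lf 309) (.lf 0)))) (.nd (.nd (.nd (.lf 0) (.lf 157)) (.nd (.lf 0) (.lf 0))) (.nd (.nd (.lf 62) (.lf 0)) (.nd (.lf 228) (.lf 0))))))

/-- table part -/
def rkT_10 : Tr :=
  .nd rkT_8 rkT_9

/-- table part -/
def rkT_11 : Tr :=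
  .nd (.nd (.nd (.nd (.nd (.nd (.lf 0) (.lf 133)) (.nd (.lf 0) (.lf 0))) (.nd (.nd (.lf 0) (.lf 316)) (.nd (.lf 30) (.lf 0)))) (.nd (.nd (.nd (.lf 0) (.lf 0)) (.nd (.lf 321) (.lf 0))) (.nd (.nd (.lf 0) (.lf 0)) (.nd (.lf 100) (.lf 0))))) (.nd (.nd (.nd (.nd (.lf 0) (.lf 274)) (.nd (.lf 0) (.lf 0))) (.nd (.nd (.lf 0) (.lf 0)) (.nd (.lf 159) (.lf 0)))) (.nd (.nd (.nd (.lf 0) (.lf 288)) (.nd (.lf 0) (.lf 0))) (.nd (.nd (.lf 0) (.lf 0)) (.nd (.lf 151) (.lf 0)))))) (.nd (.nd (.nd (.nd (.nd (.lf 0) (.lf 0)) (.nd (.lf 297) (.lf 0))) (.nd (.nd (.lf 0) (.lf 0)) (.nd (.lf 122) (.lf 0)))) (.nd (.nd (.nd (.lf 0) (.lf 299)) (.nd (.lf 32) (.lf 0))) (.nd (.nd (.lf 41) (.lf 0)) (.nd (.lf 242) (.lf 0))))) (.nd (.nd (.nd (.nd (.lf 0) (.lf 0)) (.nd (.lf 57) (.lf 0))) (.nd (.nd (.lf 0) (.lf 0)) (.nd (.lf 186) (.lf 0)))) (.nd (.nd (.nd (.lf 0) (.lf 234)) (.nd (.lf 290) (.lf 0))) (.nd (.nd (.lf 23) (.lf 0)) (.nd (.lf 0) (.lf 0))))))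

/-- table part -/
def rkT_12 : Tr :=
  .nd (.nd (.nd (.nd (.nd (.nd (.lf 0) (.lf 196)) (.nd (.lf 0) (.lf 0))) (.nd (.nd (.lf 0) (.lf 129)) (.nd (.lf 58) (.lf 0)))) (.nd (.nd (.nd (.lf 0) (.lf 313)) (.nd (.lf 90) (.lf 0))) (.nd (.nd (.lf 0) (.lf 0)) (.nd (.lf 0) (.lf 0))))) (.nd (.nd (.nd (.nd (.lf 0) (.lf 173)) (.nd (.lf 0) (.lf 0))) (.nd (.nd (.lf 0) (.lf 0)) (.nd (.lf 27) (.lf 0)))) (.nd (.nd (.nd (.lf 0) (.lf 327)) (.nd (.lf 6) (.lf 0))) (.nd (.nd (.lf 0) (.lf 0)) (.nd (.lf 260) (.lf 0)))))) (.nd (.nd (.nd (.nd (.nd (.lf 0) (.lf 108)) (.nd (.lf 195) (.lf 0))) (.nd (.nd (.lf 0) (.lf 0)) (.nd (.lf 286) (.lf 0)))) (.nd (.nd (.nd (.lf 125) (.lf 230)) (.nd (.lf 0) (.lf 0))) (.nd (.nd (.lf 113) (.lf 0)) (.nd (.lf 0) (.lf 0))))) (.nd (.nd (.nd (.nd (.lf 0) (.lf 145)) (.nd (.lf 43) (.lf 0))) (.nd (.nd (.lf 0) (.lf 0)) (.nd (.lf 75) (.lf 0)))) (.nd (.nd (.nd (.lf 25) (.lf 85)) (.nd (.lf 275) (.lf 0))) (.nd (.nd (.lf 0) (.lf 0)) (.nd (.lf 233) (.lf 0))))))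

/-- table part -/
def rkT_13 : Tr :=
  .nd rkT_11 rkT_12

/-- table part -/
def rkT_14 : Tr :=
  .nd rkT_10 rkT_13

/-- table part -/
def rkT_15 : Tr :=
  .nd rkT_7 rkT_14

/-- table part -/
def rkT_16 : Tr :=
  .nd (.nd (.nd (.nd (.nd (.nd (.lf 0) (.lf 259)) (.nd (.lf 0) (.lf 0))) (.nd (.nd (.lf 0) (.lf 330)) (.nd (.lf 0) (.lf 0)))) (.nd (.nd (.nd (.lf 0) (.lf 326)) (.nd (.lf 150) (.lf 0))) (.nd (.nd (.lf 17) (.lf 0)) (.nd (.lf 183) (.lf 0))))) (.nd (.nd (.nd (.nd (.lf 0) (.lf 208)) (.nd (.lf 76) (.lf 0))) (.nd (.nd (.lf 0) (.lf 0)) (.nd (.lf 269) (.lf 0)))) (.nd (.nd (.nd (.lf 80) (.lf 258)) (.nd (.lf 0) (.lf 0))) (.nd (.nd (.lf 0) (.lf 0)) (.nd (.lf 191) (.lf 0)))))) (.nd (.nd (.nd (.nd (.nd (.lf 0) (.lf 262)) (.nd (.lf 0) (.lf 0))) (.nd (.nd (.lf 0) (.lf 4)) (.nd (.lf 110) (.lf 0)))) (.nd (.nd (.nd (.lf 0) (.lf 60)) (.nd (.lf 0) (.lf 0))) (.nd (.nd (.lf 0) (.lf 0)) (.nd (.lf 172) (.lf 0))))) (.nd (.nd (.nd (.nd (.lf 0) (.lf 65)) (.nd (.lf 0) (.lf 0)))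 (.nd (.nd (.lf 0) (.lf 0)) (.nd (.lf 252) (.lf 0)))) (.nd (.nd (.nd (.lf 0) (.lf 109)) (.nd (.lf 0) (.lf 0))) (.nd (.nd (.lf 0) (.lf 0)) (.nd (.lf 207) (.lf 0))))))

/-- table part -/
def rkT_17 : Tr :=
  .nd (.nd (.nd (.nd (.nd (.nd (.lf 0) (.lf 264)) (.nd (.lf 218) (.lf 0))) (.nd (.nd (.lf 0) (.lf 306)) (.nd (.lf 148) (.lf 0)))) (.nd (.nd (.nd (.lf 0) (.lf 101)) (.nd (.lf 0) (.lf 0))) (.nd (.nd (.lf 16) (.lf 0)) (.nd (.lf 0) (.lf 0))))) (.nd (.nd (.nd (.nd (.lf 14) (.lf 35)) (.nd (.lf 95) (.lf 0))) (.nd (.nd (.lf 0) (.lf 0)) (.nd (.lf 284) (.lf 0)))) (.nd (.nd (.nd (.lf 0) (.lf 118)) (.nd (.lf 249) (.lf 0))) (.nd (.nd (.lf 0) (.lf 0)) (.nd (.lf 205) (.lf 0)))))) (.nd (.nd (.nd (.nd (.nd (.lf 0) (.lf 116)) (.nd (.lf 0) (.lf 0))) (.nd (.nd (.lf 0) (.lf 0)) (.nd (.lf 9) (.lf 0)))) (.nd (.nd (.nd (.lf 26) (.lf 49)) (.nd (.lf 31) (.lf 0))) (.nd (.nd (.lf 1) (.lf 0)) (.nd (.lf 239) (.lf 0))))) (.nd (.nd (.nd (.nd (.lf 0) (.lf 0)) (.nd (.lf 209) (.lf 0))) (.nd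 (.nd (.lf 0) (.lf 0)) (.nd (.lf 267) (.lf 0)))) (.nd (.nd (.nd (.lf 0) (.lf 198)) (.nd (.lf 0) (.lf 0))) (.nd (.nd (.lf 63) (.lf 0)) (.nd (.lf 192) (.lf 0))))))

/-- table part -/
def rkT_18 : Tr :=
  .nd rkT_16 rkT_17

/-- table part -/
def rkT_19 : Tr :=
  .nd (.nd (.nd (.nd (.nd (.nd (.lf 0) (.lf 0)) (.nd (.lf 0) (.lf 0))) (.nd (.nd (.lf 0) (.lf 176)) (.nd (.lf 0) (.lf 0)))) (.nd (.nd (.nd (.lf 0) (.lf 310)) (.nd (.lf 149) (.lf 0))) (.nd (.nd (.lf 0) (.lf 0)) (.nd (.lf 300) (.lf 0))))) (.nd (.nd (.nd (.nd (.lf 0) (.lf 0)) (.nd (.lf 280) (.lf 0))) (.nd (.nd (.lf 0) (.lf 0)) (.nd (.lf 254) (.lf 0)))) (.nd (.nd (.nd (.lf 0) (.lf 257)) (.nd (.lf 0) (.lf 0))) (.nd (.nd (.lf 302) (.lf 0)) (.nd (.lf 12) (.lf 0)))))) (.nd (.nd (.nd (.nd (.nd (.lf 0) (.lf 211)) (.nd (.lf 271) (.lf 0))) (.nd (.nd (.lf 0) (.lf 0)) (.nd (.lf 0) (.lf 0)))) (.nd (.nd (.nd (.lf 0) (.lf 78)) (.nd (.lf 0) (.lf 0))) (.nd (.nd (.lf 0) (.lf 0)) (.nd (.lf 88) (.lf 0))))) (.nd (.nd (.nd (.nd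 (.lf 10) (.lf 0)) (.nd (.lf 0) (.lf 0))) (.nd (.nd (.lf 0) (.lf 0)) (.nd (.lf 226) (.lf 0)))) (.nd (.nd (.nd (.lf 0) (.lf 270)) (.nd (.lf 0) (.lf 0))) (.nd (.nd (.lf 0) (.lf 0)) (.nd (.lf 0) (.lf 0))))))

/-- table part -/
def rkT_20 : Tr :=
  .nd (.nd (.nd (.nd (.nd (.nd (.lf 0) (.lf 0)) (.nd (.lf 0) (.lf 0))) (.nd (.nd (.lf 77) (.lf 11)) (.nd (.lf 199) (.lf 0)))) (.nd (.nd (.nd (.lf 0) (.lf 0)) (.nd (.lf 181) (.lf 0))) (.nd (.nd (.lf 0) (.lf 0)) (.nd (.lf 247) (.lf 0))))) (.nd (.nd (.nd (.nd (.lf 8) (.lf 3)) (.nd (.lf 0) (.lf 0))) (.nd (.nd (.lf 0) (.lf 0)) (.nd (.lf 0) (.lf 0)))) (.nd (.nd (.nd (.lf 0) (.lf 0)) (.nd (.lf 82) (.lf 0))) (.nd (.nd (.lf 0) (.lf 0)) (.nd (.lf 282) (.lf 0)))))) (.nd (.nd (.nd (.nd (.nd (.lf 0) (.lf 146)) (.nd (.lf 124) (.lf 0))) (.nd (.nd (.lf 0) (.lf 0)) (.nd (.lf 0) (.lf 0)))) (.nd (.nd (.nd (.lf 0) (.lf 250)) (.nd (.lf 0) (.lf 0))) (.nd (.nd (.lf 0) (.lf 0)) (.nd (.lf 164) (.lf 0))))) (.nd (.nd (.nd (.nd (.lf 0) (.lf 103))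 (.nd (.lf 221) (.lf 0))) (.nd (.nd (.lf 0) (.lf 0)) (.nd (.lf 273) (.lf 0)))) (.nd (.nd (.nd (.lf 0) (.lf 127)) (.nd (.lf 222) (.lf 0))) (.nd (.nd (.lf 237) (.lf 0)) (.nd (.lf 241) (.lf 0))))))

/-- table part -/
def rkT_21 : Tr :=
  .nd rkT_19 rkT_20

/-- table part -/
def rkT_22 : Tr :=
  .nd rkT_18 rkT_21

/-- table part -/
def rkT_23 : Tr :=
  .nd (.nd (.nd (.nd (.nd (.nd (.lf 0) (.lf 301)) (.nd (.lf 0) (.lf 0))) (.nd (.nd (.lf 0) (.lf 329)) (.nd (.lf 0) (.lf 0)))) (.nd (.nd (.nd (.lf 61) (.lf 0)) (.nd (.lf 298) (.lf 0))) (.nd (.nd (.lf 0) (.lf 0)) (.nd (.lf 0) (.lf 0))))) (.nd (.nd (.nd (.nd (.lf 0) (.lf 0)) (.nd (.lf 324) (.lf 0))) (.nd (.nd (.lf 0) (.lf 0)) (.nd (.lf 99) (.lf 0)))) (.nd (.nd (.nd (.lf 44) (.lf 171)) (.nd (.lf 204) (.lf 0))) (.nd (.nd (.lf 0) (.lf 0)) (.nd (.lf 114) (.lf 0)))))) (.nd (.nd (.nd (.nd (.nd (.lf 0) (.lf 72)) (.nd (.lf 7) (.lf 0))) (.nd (.nd (.lf 0) (.lf 187)) (.nd (.lf 141) (.lf 0)))) (.nd (.nd (.nd (.lf 0) (.lf 21)) (.nd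 (.lf 89) (.lf 0))) (.nd (.nd (.lf 20) (.lf 0)) (.nd (.lf 0) (.lf 0))))) (.nd (.nd (.nd (.nd (.lf 0) (.lf 40)) (.nd (.lf 0) (.lf 0))) (.nd (.nd (.lf 296) (.lf 0)) (.nd (.lf 227) (.lf 0)))) (.nd (.nd (.nd (.lf 0) (.lf 45)) (.nd (.lf 0) (.lf 0))) (.nd (.nd (.lf 37) (.lf 0)) (.nd (.lf 50) (.lf 0))))))

/-- table part -/
def rkT_24 : Tr :=
  .nd (.nd (.nd (.nd (.nd (.nd (.lf 0) (.lf 231)) (.nd (.lf 130) (.lf 0))) (.nd (.nd (.lf 0) (.lf 278)) (.nd (.lf 93) (.lf 0)))) (.nd (.nd (.nd (.lf 0) (.lf 156)) (.nd (.lf 104) (.lf 0))) (.nd (.nd (.lf 0) (.lf 0)) (.nd (.lf 0) (.lf 0))))) (.nd (.nd (.nd (.nd (.lf 0) (.lf 123)) (.nd (.lf 265) (.lf 0))) (.nd (.nd (.lf 0) (.lf 0)) (.nd (.lf 0) (.lf 0)))) (.nd (.nd (.nd (.lf 0) (.lf 0)) (.nd (.lf 128) (.lf 0))) (.nd (.nd (.lf 212) (.lf 0)) (.nd (.lf 0) (.lf 0)))))) (.nd (.nd (.nd (.nd (.nd (.lf 0) (.lf 272)) (.nd (.lf 0) (.lf 0))) (.nd (.nd (.lf 0) (.lf 0)) (.nd (.lf 67) (.lf 0)))) (.nd (.nd (.nd (.lf 0) (.lf 0)) (.nd (.lf 0)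 (.lf 0))) (.nd (.nd (.lf 39) (.lf 0)) (.nd (.lf 0) (.lf 0))))) (.nd (.nd (.nd (.nd (.lf 0) (.lf 0)) (.nd (.lf 285) (.lf 0))) (.nd (.nd (.lf 152) (.lf 0)) (.nd (.lf 0) (.lf 0)))) (.nd (.nd (.nd (.lf 0) (.lf 71)) (.nd (.lf 210) (.lf 0))) (.nd (.nd (.lf 0) (.lf 0)) (.nd (.lf 139) (.lf 0))))))

/-- table part -/
def rkT_25 : Tr :=
  .nd rkT_23 rkT_24

/-- table part -/
def rkT_26 : Tr :=
  .nd (.nd (.nd (.nd (.nd (.nd (.lf 0) (.lf 160)) (.nd (.lf 308) (.lf 0))) (.nd (.nd (.lf 0) (.lf 314)) (.nd (.lf 29) (.lf 0)))) (.nd (.nd (.nd (.lf 0) (.lf 94)) (.nd (.lf 0) (.lf 0))) (.nd (.nd (.lf 0) (.lf 0)) (.nd (.lf 0) (.lf 0))))) (.nd (.nd (.nd (.nd (.lf 0) (.lf 0)) (.nd (.lf 0) (.lf 0))) (.nd (.nd (.lf 0) (.lf 0)) (.nd (.lf 2) (.lf 0)))) (.nd (.nd (.nd (.lf 0) (.lf 238)) (.nd (.lf 0) (.lf 0))) (.nd (.nd (.lf 0) (.lf 0)) (.nd (.lf 126) (.lf 0)))))) (.nd (.nd (.nd (.nd (.nd (.lf 0) (.lf 51)) (.nd (.lf 325) (.lf 0))) (.nd (.nd (.lf 0) (.lf 0)) (.nd (.lf 0) (.lf 0)))) (.nd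 (.nd (.nd (.lf 0) (.lf 292)) (.nd (.lf 33) (.lf 0))) (.nd (.nd (.lf 38) (.lf 0)) (.nd (.lf 283) (.lf 0))))) (.nd (.nd (.nd (.nd (.lf 0) (.lf 19)) (.nd (.lf 59) (.lf 0))) (.nd (.nd (.lf 0) (.lf 0)) (.nd (.lf 174) (.lf 0)))) (.nd (.nd (.nd (.lf 0) (.lf 287)) (.nd (.lf 0) (.lf 0))) (.nd (.nd (.lf 0) (.lf 0)) (.nd (.lf 168) (.lf 0))))))

/-- table part -/
def rkT_27 : Tr :=
  .nd (.nd (.nd (.nd (.nd (.nd (.lf 0) (.lf 248)) (.nd (.lf 69) (.lf 0))) (.nd (.nd (.lf 0) (.lf 154)) (.nd (.lf 0) (.lf 0)))) (.nd (.nd (.nd (.lf 219) (.lf 311)) (.nd (.lf 92) (.lf 0))) (.nd (.nd (.lf 177) (.lf 0)) (.nd (.lf 225) (.lf 0))))) (.nd (.nd (.nd (.nd (.lf 0) (.lf 295)) (.nd (.lf 0) (.lf 0))) (.nd (.nd (.lf 184) (.lf 0)) (.nd (.lf 15) (.lf 0)))) (.nd (.nd (.nd (.lf 0) (.lf 18)) (.nd (.lf 0) (.lf 0))) (.nd (.nd (.lf 0) (.lf 0)) (.nd (.lf 188) (.lf 0)))))) (.nd (.nd (.nd (.nd (.nd (.lf 0) (.lf 48)) (.nd (.lf 0) (.lf 0))) (.nd (.nd (.lf 251) (.lf 0)) (.nd (.lf 322) (.lf 0)))) (.nd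 (.nd (.nd (.lf 0) (.lf 180)) (.nd (.lf 303) (.lf 0))) (.nd (.nd (.lf 0) (.lf 0)) (.nd (.lf 229) (.lf 0))))) (.nd (.nd (.nd (.nd (.lf 0) (.lf 0)) (.nd (.lf 0) (.lf 0))) (.nd (.nd (.lf 142) (.lf 0)) (.nd (.lf 34) (.lf 0)))) (.nd (.nd (.nd (.lf 24) (.lf 121)) (.nd (.lf 320) (.lf 0))) (.nd (.nd (.lf 0) (.lf 0)) (.nd (.lf 232) (.lf 0))))))

/-- table part -/
def rkT_28 : Tr :=
  .nd rkT_26 rkT_27

/-- table part -/
def rkT_29 : Tr :=
  .nd rkT_25 rkT_28

/-- table part -/
def rkT_30 : Tr :=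
  .nd rkT_22 rkT_29

/-- table part -/
def rkT_31 : Tr :=
  .nd rkT_15 rkT_30

/-- table -/
def rkT : Tr :=
  rkT_31

/-- table part -/
def jsT_1 : Tr :=
  .nd (.nd (.nd (.nd (.nd (.nd (.lf 0) (.lf 0)) (.nd (.lf 19402) (.lf 0))) (.nd (.nd (.lf 0) (.lf 6314)) (.nd (.lf 0) (.lf 0)))) (.nd (.nd (.nd (.lf 0) (.lf 57852)) (.nd (.lf 0) (.lf 0))) (.nd (.nd (.lf 17) (.lf 0)) (.nd (.lf 73454) (.lf 0))))) (.nd (.nd (.nd (.nd (.lf 0) (.lf 37014)) (.nd (.lf 61588) (.lf 0))) (.nd (.nd (.lf 0) (.lf 0)) (.nd (.lf 410) (.lf 0)))) (.nd (.nd (.nd (.lf 0) (.lf 0)) (.nd (.lf 0) (.lf 0))) (.nd (.nd (.lf 0) (.lf 0)) (.nd (.lf 5252) (.lf 0)))))) (.nd (.nd (.nd (.nd (.nd (.lf 0) (.lf 20806)) (.nd (.lf 0) (.lf 0))) (.nd (.nd (.lf 0) (.lf 20422)) (.nd (.lf 0) (.lf 0)))) (.nd (.nd (.nd (.lf 0) (.lf 65044)) (.nd (.lf 0) (.lf 0))) (.nd (.nd (.lf 0) (.lf 0)) (.nd (.lf 0) (.lf 0))))) (.nd (.nd (.nd (.nd (.lf 0) (.lf 42136)) (.nd (.lf 0) (.lf 0))) (.nd (.nd (.lf 0) (.lf 0)) (.nd (.lf 53096)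 (.lf 0)))) (.nd (.nd (.nd (.lf 0) (.lf 35930)) (.nd (.lf 0) (.lf 0))) (.nd (.nd (.lf 0) (.lf 0)) (.nd (.lf 39822) (.lf 0))))))

/-- table part -/
def jsT_2 : Tr :=
  .nd (.nd (.nd (.nd (.nd (.nd (.lf 0) (.lf 53550)) (.nd (.lf 45126) (.lf 0))) (.nd (.nd (.lf 0) (.lf 5792)) (.nd (.lf 0) (.lf 0)))) (.nd (.nd (.nd (.lf 41724) (.lf 48026)) (.nd (.lf 2970) (.lf 0))) (.nd (.nd (.lf 0) (.lf 0)) (.nd (.lf 8602) (.lf 0))))) (.nd (.nd (.nd (.nd (.lf 0) (.lf 8488)) (.nd (.lf 0) (.lf 0))) (.nd (.nd (.lf 0) (.lf 0)) (.nd (.lf 71294) (.lf 0)))) (.nd (.nd (.nd (.lf 0) (.lf 51184)) (.nd (.lf 0) (.lf 0))) (.nd (.nd (.lf 0) (.lf 0)) (.nd (.lf 68360) (.lf 0)))))) (.nd (.nd (.nd (.nd (.nd (.lf 0) (.lf 0)) (.nd (.lf 0) (.lf 0))) (.nd (.nd (.lf 85066) (.lf 0)) (.nd (.lf 0) (.lf 0)))) (.nd (.nd (.nd (.lf 0) (.lf 36528)) (.nd (.lf 0) (.lf 0))) (.nd (.nd (.lf 0) (.lf 0)) (.nd (.lf 56536) (.lf 0))))) (.nd (.nd (.nd (.nd (.lf 0) (.lf 100404)) (.nd (.lf 0) (.lf 0))) (.nd (.nd (.lf 0)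 (.lf 0)) (.nd (.lf 29882) (.lf 0)))) (.nd (.nd (.nd (.lf 0) (.lf 23542)) (.nd (.lf 0) (.lf 0))) (.nd (.nd (.lf 0) (.lf 0)) (.nd (.lf 42642) (.lf 0))))))

/-- table part -/
def jsT_3 : Tr :=
  .nd jsT_1 jsT_2

/-- table part -/
def jsT_4 : Tr :=
  .nd (.nd (.nd (.nd (.nd (.nd (.lf 0) (.lf 88594)) (.nd (.lf 97000) (.lf 0))) (.nd (.nd (.lf 12300) (.lf 45450)) (.nd (.lf 59438) (.lf 0)))) (.nd (.nd (.nd (.lf 0) (.lf 17890)) (.nd (.lf 0) (.lf 0))) (.nd (.nd (.lf 53606) (.lf 0)) (.nd (.lf 29390) (.lf 0))))) (.nd (.nd (.nd (.nd (.lf 0) (.lf 0)) (.nd (.lf 6260) (.lf 0))) (.nd (.nd (.lf 0) (.lf 0)) (.nd (.lf 8078) (.lf 0)))) (.nd (.nd (.nd (.lf 0) (.lf 5540)) (.nd (.lf 98568) (.lf 0))) (.nd (.nd (.lf 0) (.lf 0)) (.nd (.lf 0) (.lf 0)))))) (.nd (.nd (.nd (.nd (.nd (.lf 0) (.lf 9268)) (.nd (.lf 0) (.lf 0))) (.nd (.nd (.lf 83662) (.lf 0)) (.nd (.lf 30536) (.lf 0)))) (.nd (.nd (.nd (.lf 0) (.lf 65574)) (.nd (.lf 0) (.lf 0))) (.nd (.nd (.lf 7000) (.lf 0)) (.nd (.lf 45)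 (.lf 0))))) (.nd (.nd (.nd (.nd (.lf 0) (.lf 0)) (.nd (.lf 0) (.lf 0))) (.nd (.nd (.lf 0) (.lf 0)) (.nd (.lf 90844) (.lf 0)))) (.nd (.nd (.nd (.lf 0) (.lf 25700)) (.nd (.lf 30276) (.lf 0))) (.nd (.nd (.lf 49496) (.lf 0)) (.nd (.lf 60176) (.lf 0))))))

/-- table part -/
def jsT_5 : Tr :=
  .nd (.nd (.nd (.nd (.nd (.nd (.lf 0) (.lf 0)) (.nd (.lf 0) (.lf 0))) (.nd (.nd (.lf 91042) (.lf 42426)) (.nd (.lf 90576) (.lf 0)))) (.nd (.nd (.nd (.lf 53894) (.lf 69224)) (.nd (.lf 18430) (.lf 0))) (.nd (.nd (.lf 0) (.lf 0)) (.nd (.lf 13394) (.lf 0))))) (.nd (.nd (.nd (.nd (.lf 0) (.lf 43560)) (.nd (.lf 58390) (.lf 0))) (.nd (.nd (.lf 0) (.lf 0)) (.nd (.lf 30788) (.lf 0)))) (.nd (.nd (.nd (.lf 0) (.lf 4514)) (.nd (.lf 36284) (.lf 0))) (.nd (.nd (.lf 29978) (.lf 0)) (.nd (.lf 58354) (.lf 0)))))) (.nd (.nd (.nd (.nd (.nd (.lf 0) (.lf 1)) (.nd (.lf 0) (.lf 0))) (.nd (.nd (.lf 0) (.lf 0)) (.nd (.lf 25728) (.lf 0)))) (.nd (.nd (.nd (.lf 41) (.lf 23846)) (.nd (.lf 45486) (.lf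 0))) (.nd (.nd (.lf 0) (.lf 0)) (.nd (.lf 4302) (.lf 0))))) (.nd (.nd (.nd (.nd (.lf 0) (.lf 30014)) (.nd (.lf 0) (.lf 0))) (.nd (.nd (.lf 45700) (.lf 0)) (.nd (.lf 0) (.lf 0)))) (.nd (.nd (.nd (.lf 0) (.lf 7466)) (.nd (.lf 50446) (.lf 0))) (.nd (.nd (.lf 0) (.lf 0)) (.nd (.lf 97522) (.lf 0))))))

/-- table part -/
def jsT_6 : Tr :=
  .nd jsT_4 jsT_5

/-- table part -/
def jsT_7 : Tr :=
  .nd jsT_3 jsT_6

/-- table part -/
def jsT_8 : Tr :=
  .nd (.nd (.nd (.nd (.nd (.nd (.lf 0) (.lf 96714)) (.nd (.lf 65406) (.lf 0))) (.nd (.nd (.lf 0) (.lf 46636)) (.nd (.lf 43990) (.lf 0)))) (.nd (.nd (.nd (.lf 0) (.lf 31010)) (.nd (.lf 0) (.lf 0))) (.nd (.nd (.lf 0) (.lf 0)) (.nd (.lf 50324) (.lf 0))))) (.nd (.nd (.nd (.nd (.lf 0) (.lf 0)) (.nd (.lf 0) (.lf 0))) (.nd (.nd (.lf 0) (.lf 0)) (.nd (.lf 12894) (.lf 0)))) (.nd (.nd (.nd (.lf 0) (.lf 99862)) (.nd (.lf 92770) (.lf 0))) (.nd (.nd (.lf 0) (.lf 0)) (.nd (.lf 0) (.lf 0)))))) (.nd (.nd (.nd (.nd (.nd (.lf 0) (.lf 96858))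 (.nd (.lf 0) (.lf 0))) (.nd (.nd (.lf 0) (.lf 46890)) (.nd (.lf 26870) (.lf 0)))) (.nd (.nd (.nd (.lf 0) (.lf 18892)) (.nd (.lf 23734) (.lf 0))) (.nd (.nd (.lf 0) (.lf 0)) (.nd (.lf 0) (.lf 0))))) (.nd (.nd (.nd (.nd (.lf 0) (.lf 39)) (.nd (.lf 0) (.lf 0))) (.nd (.nd (.lf 0) (.lf 0)) (.nd (.lf 0) (.lf 0)))) (.nd (.nd (.nd (.lf 0) (.lf 36726)) (.nd (.lf 65390) (.lf 0))) (.nd (.nd (.lf 0) (.lf 0)) (.nd (.lf 41898) (.lf 0))))))

/-- table part -/
def jsT_9 : Tr :=
  .nd (.nd (.nd (.nd (.nd (.nd (.lf 0) (.lf 41794)) (.nd (.lf 3488) (.lf 0))) (.nd (.nd (.lf 0) (.lf 44854)) (.nd (.lf 25692) (.lf 0)))) (.nd (.nd (.nd (.lf 0) (.lf 21904)) (.nd (.lf 0) (.lf 0))) (.nd (.nd (.lf 0) (.lf 0)) (.nd (.lf 30374) (.lf 0))))) (.nd (.nd (.nd (.nd (.lf 0) (.lf 31670)) (.nd (.lf 0) (.lf 0))) (.nd (.nd (.lf 78028) (.lf 0)) (.nd (.lf 0) (.lf 0)))) (.nd (.nd (.nd (.lf 0) (.lf 12410)) (.nd (.lf 50828) (.lf 0))) (.nd (.nd (.lf 0) (.lf 0)) (.nd (.lf 0) (.lf 0)))))) (.nd (.nd (.nd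 (.nd (.nd (.lf 0) (.lf 41920)) (.nd (.lf 30194) (.lf 0))) (.nd (.nd (.lf 0) (.lf 0)) (.nd (.lf 23856) (.lf 0)))) (.nd (.nd (.nd (.lf 0) (.lf 12338)) (.nd (.lf 0) (.lf 0))) (.nd (.nd (.lf 0) (.lf 0)) (.nd (.lf 42172) (.lf 0))))) (.nd (.nd (.nd (.nd (.lf 0) (.lf 94590)) (.nd (.lf 65516) (.lf 0))) (.nd (.nd (.lf 0) (.lf 0)) (.nd (.lf 91402) (.lf 0)))) (.nd (.nd (.nd (.lf 0) (.lf 28248)) (.nd (.lf 0) (.lf 0))) (.nd (.nd (.lf 18658) (.lf 0)) (.nd (.lf 18424) (.lf 0))))))

/-- table part -/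
def jsT_10 : Tr :=
  .nd jsT_8 jsT_9

/-- table part -/
def jsT_11 : Tr :=
  .nd (.nd (.nd (.nd (.nd (.nd (.lf 0) (.lf 19636)) (.nd (.lf 0) (.lf 0))) (.nd (.nd (.lf 0) (.lf 58914)) (.nd (.lf 12048) (.lf 0)))) (.nd (.nd (.nd (.lf 0) (.lf 0)) (.nd (.lf 69692) (.lf 0))) (.nd (.nd (.lf 0) (.lf 0)) (.nd (.lf 31598) (.lf 0))))) (.nd (.nd (.nd (.nd (.lf 0) (.lf 42588)) (.nd (.lf 0) (.lf 0))) (.nd (.nd (.lf 0) (.lf 0)) (.nd (.lf 57722) (.lf 0)))) (.nd (.nd (.nd (.lf 0) (.lf 100728)) (.nd (.lf 0) (.lf 0))) (.nd (.nd (.lf 0) (.lf 0)) (.nd (.lf 39272) (.lf 0)))))) (.nd (.nd (.nd (.nd (.nd (.lf 0) (.lf 0)) (.nd (.lf 54504) (.lf 0))) (.nd (.nd (.lf 0) (.lf 0)) (.nd (.lf 63028) (.lf 0)))) (.nd (.nd (.nd (.lf 0) (.lf 98836)) (.nd (.lf 25) (.lf 0))) (.nd (.nd (.lf 17836) (.lf 0)) (.nd (.lf 47394) (.lf 0))))) (.nd (.nd (.nd (.nd (.lf 0) (.lf 0)) (.nd (.lf 23978) (.lf 0))) (.nd (.nd (.lf 0) (.lf 0)) (.nd (.lf 52934) (.lf 0)))) (.nd (.nd (.nd (.lf 0) (.lf 7232)) (.nd (.lf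 37756) (.lf 0))) (.nd (.nd (.lf 11978) (.lf 0)) (.nd (.lf 0) (.lf 0))))))

/-- table part -/
def jsT_12 : Tr :=
  .nd (.nd (.nd (.nd (.nd (.nd (.lf 0) (.lf 5288)) (.nd (.lf 0) (.lf 0))) (.nd (.nd (.lf 0) (.lf 2714)) (.nd (.lf 12014) (.lf 0)))) (.nd (.nd (.nd (.lf 0) (.lf 5828)) (.nd (.lf 47) (.lf 0))) (.nd (.nd (.lf 0) (.lf 0)) (.nd (.lf 0) (.lf 0))))) (.nd (.nd (.nd (.nd (.lf 0) (.lf 48218)) (.nd (.lf 0) (.lf 0))) (.nd (.nd (.lf 0) (.lf 0)) (.nd (.lf 12248) (.lf 0)))) (.nd (.nd (.nd (.lf 0) (.lf 22858)) (.nd (.lf 47522) (.lf 0))) (.nd (.nd (.lf 0) (.lf 0)) (.nd (.lf 31302) (.lf 0)))))) (.nd (.nd (.nd (.nd (.nd (.lf 0) (.lf 21700)) (.nd (.lf 48200) (.lf 0))) (.nd (.nd (.lf 0) (.lf 0)) (.nd (.lf 3744) (.lf 0)))) (.nd (.nd (.nd (.lf 41632) (.lf 38382)) (.nd (.lf 0) (.lf 0))) (.nd (.nd (.lf 67334) (.lf 0)) (.nd (.lf 0) (.lf 0))))) (.nd (.nd (.nd (.nd (.lf 0) (.lf 5184)) (.nd (.lf 18928) (.lf 0))) (.nd (.nd (.lf 0) (.lf 0)) (.nd (.lf 13146) (.lf 0)))) (.nd (.nd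 (.nd (.lf 12228) (.lf 70772)) (.nd (.lf 30944) (.lf 0))) (.nd (.nd (.lf 0) (.lf 0)) (.nd (.lf 57976) (.lf 0))))))

/-- table part -/
def jsT_13 : Tr :=
  .nd jsT_11 jsT_12

/-- table part -/
def jsT_14 : Tr :=
  .nd jsT_10 jsT_13

/-- table part -/
def jsT_15 : Tr :=
  .nd jsT_7 jsT_14

/-- table part -/
def jsT_16 : Tr :=
  .nd (.nd (.nd (.nd (.nd (.nd (.lf 0) (.lf 60998)) (.nd (.lf 0) (.lf 0))) (.nd (.nd (.lf 0) (.lf 28728)) (.nd (.lf 0) (.lf 0)))) (.nd (.nd (.nd (.lf 0) (.lf 26910)) (.nd (.lf 3016) (.lf 0))) (.nd (.nd (.lf 35878) (.lf 0)) (.nd (.lf 3374) (.lf 0))))) (.nd (.nd (.nd (.nd (.lf 0) (.lf 4912)) (.nd (.lf 61198) (.lf 0))) (.nd (.nd (.lf 0) (.lf 0)) (.nd (.lf 62078) (.lf 0)))) (.nd (.nd (.nd (.lf 36494) (.lf 45298)) (.nd (.lf 0) (.lf 0))) (.nd (.nd (.lf 0) (.lf 0)) (.nd (.lf 44160) (.lf 0)))))) (.nd (.nd (.nd (.nd (.nd (.lf 0) (.lf 31072)) (.nd (.lf 0) (.lf 0))) (.nd (.nd (.lf 0) (.lf 36166)) (.nd (.lf 3616) (.lf 0)))) (.nd (.nd (.nd (.lf 0)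 (.lf 48618)) (.nd (.lf 0) (.lf 0))) (.nd (.nd (.lf 0) (.lf 0)) (.nd (.lf 16084) (.lf 0))))) (.nd (.nd (.nd (.nd (.lf 0) (.lf 24840)) (.nd (.lf 0) (.lf 0))) (.nd (.nd (.lf 0) (.lf 0)) (.nd (.lf 18792) (.lf 0)))) (.nd (.nd (.nd (.lf 0) (.lf 5632)) (.nd (.lf 0) (.lf 0))) (.nd (.nd (.lf 0) (.lf 0)) (.nd (.lf 52686) (.lf 0))))))

/-- table part -/
def jsT_17 : Tr :=
  .nd (.nd (.nd (.nd (.nd (.nd (.lf 0) (.lf 55198)) (.nd (.lf 17846) (.lf 0))) (.nd (.nd (.lf 0) (.lf 94226)) (.nd (.lf 4042) (.lf 0)))) (.nd (.nd (.nd (.lf 0) (.lf 1610)) (.nd (.lf 0) (.lf 0))) (.nd (.nd (.lf 11) (.lf 0)) (.nd (.lf 0) (.lf 0))))) (.nd (.nd (.nd (.nd (.lf 9) (.lf 25546)) (.nd (.lf 82296) (.lf 0))) (.nd (.nd (.lf 0) (.lf 0)) (.nd (.lf 18872) (.lf 0)))) (.nd (.nd (.nd (.lf 0) (.lf 17452)) (.nd (.lf 25270) (.lf 0))) (.nd (.nd (.lf 0) (.lf 0)) (.nd (.lf 20712) (.lf 0)))))) (.nd (.nd (.nd (.nd (.nd (.lf 0) (.lf 47130)) (.nd (.lf 0) (.lf 0))) (.nd (.nd (.lf 0) (.lf 0)) (.nd (.lf 5) (.lf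 0)))) (.nd (.nd (.nd (.lf 21) (.lf 30262)) (.nd (.lf 12376) (.lf 0))) (.nd (.nd (.lf 35644) (.lf 0)) (.nd (.lf 54424) (.lf 0))))) (.nd (.nd (.nd (.nd (.lf 0) (.lf 0)) (.nd (.lf 7528) (.lf 0))) (.nd (.nd (.lf 0) (.lf 0)) (.nd (.lf 3976) (.lf 0)))) (.nd (.nd (.nd (.lf 0) (.lf 60962)) (.nd (.lf 0) (.lf 0))) (.nd (.nd (.lf 2248) (.lf 0)) (.nd (.lf 1448) (.lf 0))))))

/-- table part -/
def jsT_18 : Tr :=
  .nd jsT_16 jsT_17

/-- table part -/
def jsT_19 : Tr :=
  .nd (.nd (.nd (.nd (.nd (.nd (.lf 0) (.lf 0)) (.nd (.lf 0) (.lf 0))) (.nd (.nd (.lf 0) (.lf 20852)) (.nd (.lf 0) (.lf 0)))) (.nd (.nd (.nd (.lf 0) (.lf 18456)) (.nd (.lf 12814) (.lf 0))) (.nd (.nd (.lf 0) (.lf 0)) (.nd (.lf 50724) (.lf 0))))) (.nd (.nd (.nd (.nd (.lf 0) (.lf 0)) (.nd (.lf 17952) (.lf 0))) (.nd (.nd (.lf 0) (.lf 0)) (.nd (.lf 15170) (.lf 0)))) (.nd (.nd (.nd (.lf 0) (.lf 43080)) (.nd (.lf 0) (.lf 0))) (.nd (.nd (.lf 13550) (.lf 0)) (.nd (.lf 24214) (.lf 0)))))) (.nd (.nd (.nd (.nd (.nd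 (.lf 0) (.lf 710)) (.nd (.lf 20282) (.lf 0))) (.nd (.nd (.lf 0) (.lf 0)) (.nd (.lf 0) (.lf 0)))) (.nd (.nd (.nd (.lf 0) (.lf 24610)) (.nd (.lf 0) (.lf 0))) (.nd (.nd (.lf 0) (.lf 0)) (.nd (.lf 41784) (.lf 0))))) (.nd (.nd (.nd (.nd (.lf 11974) (.lf 0)) (.nd (.lf 0) (.lf 0))) (.nd (.nd (.lf 0) (.lf 0)) (.nd (.lf 29728) (.lf 0)))) (.nd (.nd (.nd (.lf 0) (.lf 61788)) (.nd (.lf 0) (.lf 0))) (.nd (.nd (.lf 0) (.lf 0)) (.nd (.lf 0) (.lf 0))))))

/-- table part -/
def jsT_20 : Tr :=
  .nd (.nd (.nd (.nd (.nd (.nd (.lf 0) (.lf 0)) (.nd (.lf 0) (.lf 0))) (.nd (.nd (.lf 43) (.lf 7)) (.nd (.lf 15472) (.lf 0)))) (.nd (.nd (.nd (.lf 0) (.lf 0)) (.nd (.lf 92228) (.lf 0))) (.nd (.nd (.lf 0) (.lf 0)) (.nd (.lf 4156) (.lf 0))))) (.nd (.nd (.nd (.nd (.lf 17842) (.lf 35770)) (.nd (.lf 0) (.lf 0))) (.nd (.nd (.lf 0) (.lf 0)) (.nd (.lf 0) (.lf 0)))) (.nd (.nd (.nd (.lf 0) (.lf 0)) (.nd (.lf 12958) (.lf 0))) (.nd (.nd (.lf 0) (.lf 0)) (.nd (.lf 62764) (.lf 0)))))) (.nd (.nd (.nd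 (.nd (.nd (.lf 0) (.lf 41588)) (.nd (.lf 17864) (.lf 0))) (.nd (.nd (.lf 0) (.lf 0)) (.nd (.lf 0) (.lf 0)))) (.nd (.nd (.nd (.lf 0) (.lf 32712)) (.nd (.lf 0) (.lf 0))) (.nd (.nd (.lf 0) (.lf 0)) (.nd (.lf 18384) (.lf 0))))) (.nd (.nd (.nd (.nd (.lf 0) (.lf 29034)) (.nd (.lf 3412) (.lf 0))) (.nd (.nd (.lf 0) (.lf 0)) (.nd (.lf 34270) (.lf 0)))) (.nd (.nd (.nd (.lf 0) (.lf 23814)) (.nd (.lf 21216) (.lf 0))) (.nd (.nd (.lf 91724) (.lf 0)) (.nd (.lf 14884) (.lf 0))))))

/-- table part -/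
def jsT_21 : Tr :=
  .nd jsT_19 jsT_20

/-- table part -/
def jsT_22 : Tr :=
  .nd jsT_18 jsT_21

/-- table part -/
def jsT_23 : Tr :=
  .nd (.nd (.nd (.nd (.nd (.nd (.lf 0) (.lf 24400)) (.nd (.lf 0) (.lf 0))) (.nd (.nd (.lf 0) (.lf 15026)) (.nd (.lf 0) (.lf 0)))) (.nd (.nd (.nd (.lf 42396) (.lf 0)) (.nd (.lf 8442) (.lf 0))) (.nd (.nd (.lf 0) (.lf 0)) (.nd (.lf 0) (.lf 0))))) (.nd (.nd (.nd (.nd (.lf 0) (.lf 0)) (.nd (.lf 49716) (.lf 0))) (.nd (.nd (.lf 0) (.lf 0)) (.nd (.lf 18490) (.lf 0)))) (.nd (.nd (.nd (.lf 898) (.lf 5506)) (.nd (.lf 74754) (.lf 0))) (.nd (.nd (.lf 0) (.lf 0)) (.nd (.lf 58870) (.lf 0)))))) (.nd (.nd (.nd (.nd (.nd (.lf 0) (.lf 77720)) (.nd (.lf 3) (.lf 0))) (.nd (.nd (.lf 0) (.lf 2960)) (.nd (.lf 39248) (.lf 0)))) (.nd (.nd (.nd (.lf 0) (.lf 30118)) (.nd (.lf 29902) (.lf 0))) (.nd (.nd (.lf 15) (.lf 0)) (.nd (.lf 0) (.lf 0))))) (.nd (.nd (.nd (.nd (.lf 0) (.lf 30856)) (.nd (.lf 0) (.lf 0))) (.nd (.nd (.lf 1412) (.lf 0)) (.nd (.lf 4474)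 (.lf 0)))) (.nd (.nd (.nd (.lf 0) (.lf 33)) (.nd (.lf 0) (.lf 0))) (.nd (.nd (.lf 29) (.lf 0)) (.nd (.lf 37) (.lf 0))))))

/-- table part -/
def jsT_24 : Tr :=
  .nd (.nd (.nd (.nd (.nd (.nd (.lf 0) (.lf 20564)) (.nd (.lf 92570) (.lf 0))) (.nd (.nd (.lf 0) (.lf 59194)) (.nd (.lf 28834) (.lf 0)))) (.nd (.nd (.nd (.lf 0) (.lf 24750)) (.nd (.lf 18620) (.lf 0))) (.nd (.nd (.lf 0) (.lf 0)) (.nd (.lf 0) (.lf 0))))) (.nd (.nd (.nd (.nd (.lf 0) (.lf 5002)) (.nd (.lf 12706) (.lf 0))) (.nd (.nd (.lf 0) (.lf 0)) (.nd (.lf 0) (.lf 0)))) (.nd (.nd (.nd (.lf 0) (.lf 0)) (.nd (.lf 9018) (.lf 0))) (.nd (.nd (.lf 1342) (.lf 0)) (.nd (.lf 0) (.lf 0)))))) (.nd (.nd (.nd (.nd (.nd (.lf 0) (.lf 24010)) (.nd (.lf 0) (.lf 0))) (.nd (.nd (.lf 0) (.lf 0)) (.nd (.lf 13474) (.lf 0)))) (.nd (.nd (.nd (.lf 0) (.lf 0)) (.nd (.lf 0) (.lf 0))) (.nd (.nd (.lf 31) (.lf 0)) (.nd (.lf 0) (.lf 0))))) (.nd (.nd (.nd (.nd (.lf 0) (.lf 0)) (.nd (.lf 51028) (.lf 0))) (.nd (.nd (.lf 1690) (.lf 0))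 (.nd (.lf 0) (.lf 0)))) (.nd (.nd (.nd (.lf 0) (.lf 15586)) (.nd (.lf 3418) (.lf 0))) (.nd (.nd (.lf 0) (.lf 0)) (.nd (.lf 14974) (.lf 0))))))

/-- table part -/
def jsT_25 : Tr :=
  .nd jsT_23 jsT_24

/-- table part -/
def jsT_26 : Tr :=
  .nd (.nd (.nd (.nd (.nd (.nd (.lf 0) (.lf 62906)) (.nd (.lf 29680) (.lf 0))) (.nd (.nd (.lf 0) (.lf 24246)) (.nd (.lf 23) (.lf 0)))) (.nd (.nd (.nd (.lf 0) (.lf 26784)) (.nd (.lf 0) (.lf 0))) (.nd (.nd (.lf 0) (.lf 0)) (.nd (.lf 0) (.lf 0))))) (.nd (.nd (.nd (.nd (.lf 0) (.lf 0)) (.nd (.lf 0) (.lf 0))) (.nd (.nd (.lf 0) (.lf 0)) (.nd (.lf 35698) (.lf 0)))) (.nd (.nd (.nd (.lf 0) (.lf 20776)) (.nd (.lf 0) (.lf 0))) (.nd (.nd (.lf 0) (.lf 0)) (.nd (.lf 4390) (.lf 0)))))) (.nd (.nd (.nd (.nd (.nd (.lf 0) (.lf 18904)) (.nd (.lf 15890) (.lf 0))) (.nd (.nd (.lf 0) (.lf 0)) (.nd (.lf 0) (.lf 0)))) (.nd (.nd (.nd (.lf 0) (.lf 93740)) (.nd (.lf 30192) (.lf 0))) (.nd (.nd (.lf 35914) (.lf 0)) (.nd (.lf 94424) (.lf 0))))) (.nd (.nd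 (.nd (.nd (.lf 0) (.lf 30010)) (.nd (.lf 59864) (.lf 0))) (.nd (.nd (.lf 0) (.lf 0)) (.nd (.lf 93020) (.lf 0)))) (.nd (.nd (.nd (.lf 0) (.lf 30678)) (.nd (.lf 0) (.lf 0))) (.nd (.nd (.lf 0) (.lf 0)) (.nd (.lf 37736) (.lf 0))))))

/-- table part -/
def jsT_27 : Tr :=
  .nd (.nd (.nd (.nd (.nd (.nd (.lf 0) (.lf 1180)) (.nd (.lf 18062) (.lf 0))) (.nd (.nd (.lf 0) (.lf 38448)) (.nd (.lf 0) (.lf 0)))) (.nd (.nd (.nd (.lf 89492) (.lf 13366)) (.nd (.lf 42800) (.lf 0))) (.nd (.nd (.lf 16880) (.lf 0)) (.nd (.lf 4174) (.lf 0))))) (.nd (.nd (.nd (.nd (.lf 0) (.lf 32100)) (.nd (.lf 0) (.lf 0))) (.nd (.nd (.lf 89870) (.lf 0)) (.nd (.lf 35806) (.lf 0)))) (.nd (.nd (.nd (.lf 0) (.lf 13)) (.nd (.lf 0) (.lf 0))) (.nd (.nd (.lf 0) (.lf 0)) (.nd (.lf 25416) (.lf 0)))))) (.nd (.nd (.nd (.nd (.nd (.lf 0) (.lf 35)) (.nd (.lf 0) (.lf 0))) (.nd (.nd (.lf 25738) (.lf 0)) (.nd (.lf 14500) (.lf 0)))) (.nd (.nd (.nd (.lf 0) (.lf 24066)) (.nd (.lf 63716) (.lf 0))) (.nd (.nd (.lf 0)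 (.lf 0)) (.nd (.lf 16696) (.lf 0))))) (.nd (.nd (.nd (.nd (.lf 0) (.lf 0)) (.nd (.lf 0) (.lf 0))) (.nd (.nd (.lf 27988) (.lf 0)) (.nd (.lf 27) (.lf 0)))) (.nd (.nd (.nd (.lf 19) (.lf 9692)) (.nd (.lf 8568) (.lf 0))) (.nd (.nd (.lf 0) (.lf 0)) (.nd (.lf 36688) (.lf 0))))))

/-- table part -/
def jsT_28 : Tr :=
  .nd jsT_26 jsT_27

/-- table part -/
def jsT_29 : Tr :=
  .nd jsT_25 jsT_28

/-- table part -/
def jsT_30 : Tr :=
  .nd jsT_22 jsT_29

/-- table part -/
def jsT_31 : Tr :=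
  .nd jsT_15 jsT_30

/-- table -/
def jsT : Tr :=
  jsT_31

/-- relations -/
def rels : List (List (ℕ × Bool)) :=
  [[(0, true), (0, true), (0, true), (0, true), (0, true), (0, true), (0, true), (0, true), (0, true), (0, true), (0, true)],
   [(1, true), (1, true), (1, true), (1, true), (1, true), (1, true), (1, true)],
   [(0, false), (1, true), (0, false), (1, true), (0, false), (1, true), (0, false), (1, true)],
   [(1, false), (1, false), (0, true), (1, false), (1, false), (0, true), (1, false), (1, false), (0, true)],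
   [(1, false), (0, true), (1, true), (0, false), (1, true), (1, true), (0, false), (1, true), (0, true), (1, false), (0, true)],
   [(0, false), (1, true), (0, true), (1, true), (0, false), (1, true), (1, true), (0, false), (1, true), (0, true), (1, true), (0, false), (1, true), (1, true)],
   [(0, false), (0, false), (1, false), (1, false), (0, false), (0, false), (0, false), (1, true), (0, false), (0, false), (1, true), (0, false), (0, false), (1, false), (0, true), (1, true)],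
   [(1, true), (0, true), (1, true), (0, false), (1, false), (1, false), (1, false), (0, false), (1, false), (0, false), (1, false), (1, false), (1, false), (0, true), (0, true), (0, true), (0, true)],
   [(0, true), (1, false), (0, true), (1, true), (1, true), (0, false), (1, true), (0, true), (1, false), (0, false), (1, false), (0, false), (1, true), (1, true), (0, true), (0, true), (0, true)]]

/-- parameter edges -/
def pe : List ℕ := [540, 275, 409, 653, 41, 201, 623, 211, 192, 127, 89, 391, 342, 447, 243, 219, 627, 543, 499, 562, 92, 141, 468, 334]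

/-- elimination -/
def fin : List (List (ℕ × ℕ × ℕ)) :=
  [[(0, 4, 6), (0, 14, 5), (0, 6, 6), (0, 20, 7), (0, 22, 2), (0, 34, 6), (0, 81, 3), (0, 106, 6), (1, 73, 1), (1, 80, 4), (1, 74, 8), (1, 65, 8), (0, 77, 4), (1, 42, 6), (1, 56, 8), (1, 51, 8), (1, 78, 2), (0, 50, 1), (0, 53, 5), (0, 68, 1), (0, 112, 3), (0, 151, 2), (1, 33, 1), (1, 52, 7), (0, 71, 8), (0, 57, 4), (0, 36, 3), (0, 32, 2)],
   [(0, 14, 1), (0, 4, 7), (0, 6, 2), (0, 20, 7), (0, 22, 6), (0, 34, 6), (0, 81, 2), (0, 106, 1), (0, 161, 8), (1, 73, 5), (1, 80, 5), (1, 74, 4), (1, 21, 2), (1, 65, 8), (0, 77, 4), (1, 42, 5), (1, 56, 5), (1, 51, 8), (1, 78, 3), (0, 50, 4), (0, 53, 7), (0, 68, 8), (0, 112, 4), (0, 151, 3), (1, 33, 6), (1, 52, 2)],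
   [(0, 6, 3), (0, 4, 5), (0, 20, 1), (0, 22, 5), (0, 81, 8), (0, 106, 6), (0, 161, 6), (1, 73, 1), (1, 80, 2), (1, 74, 8), (1, 21, 2), (1, 65, 2), (0, 77, 6), (1, 42, 8), (1, 56, 1), (1, 51, 8), (1, 78, 1), (0, 50, 6), (0, 53, 6), (0, 68, 1), (0, 112, 1), (0, 151, 7), (1, 33, 7), (1, 52, 2), (0, 71, 8), (0, 57, 5), (0, 36, 6), (0, 32, 1)],
   [(0, 20, 6), (0, 4, 2), (0, 14, 8), (0, 22, 8), (0, 34, 7), (0, 71, 5), (0, 81, 5), (0, 106, 6), (0, 161, 4), (1, 73, 1), (1, 80, 7), (1, 74, 3), (1, 21, 2), (1, 65, 8), (0, 77, 3), (0, 57, 6), (1, 42, 6), (1, 56, 7), (1, 51, 6), (1, 78, 4), (0, 50, 7), (0, 53, 3), (0, 68, 5), (0, 112, 3), (0, 36, 7), (0, 151, 1), (1, 33, 7), (1, 52, 7)],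
   [(0, 22, 2), (0, 4, 1), (0, 6, 7), (0, 14, 2), (0, 20, 2), (0, 32, 3), (0, 34, 6), (0, 71, 5), (0, 81, 2), (0, 106, 4), (0, 161, 4), (1, 73, 2), (1, 80, 8), (1, 74, 1), (1, 21, 2), (1, 65, 1), (0, 77, 4), (0, 57, 5), (1, 42, 4), (1, 56, 2), (1, 51, 5), (1, 78, 1), (0, 50, 4), (0, 53, 6), (0, 68, 3), (0, 112, 6), (0, 36, 2), (0, 151, 2)],
   [(0, 32, 7), (0, 6, 2), (0, 14, 6), (0, 20, 3), (0, 22, 4), (0, 34, 3), (0, 71, 3), (0, 81, 6), (0, 106, 1), (0, 161, 1), (1, 33, 6), (1, 52, 7), (1, 73, 3), (1, 80, 5), (1, 74, 1), (1, 21, 7), (1, 65, 5), (0, 77, 1), (0, 57, 5), (1, 42, 5), (1, 56, 7), (1, 51, 1), (1, 78, 8), (0, 50, 1), (0, 53, 6), (0, 68, 5), (0, 112, 5)],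
   [(0, 34, 3), (0, 4, 5), (0, 6, 5), (0, 14, 2), (0, 22, 1), (0, 36, 4), (0, 71, 8), (0, 81, 3), (0, 106, 7), (0, 151, 3), (0, 161, 6), (1, 33, 7), (1, 52, 8), (1, 73, 7), (1, 80, 4), (1, 74, 7), (1, 21, 8), (1, 65, 3), (0, 77, 2), (0, 57, 3), (1, 42, 2), (1, 56, 3), (1, 51, 4), (1, 78, 5), (0, 50, 3), (0, 53, 2)],
   [(0, 36, 1), (0, 4, 5), (0, 14, 2), (0, 20, 3), (0, 22, 1), (0, 32, 1), (0, 34, 3), (0, 68, 3), (0, 71, 3), (0, 81, 2), (0, 106, 1), (0, 112, 6), (0, 151, 8), (0, 161, 4), (1, 33, 1), (1, 52, 5), (1, 73, 3), (1, 80, 8), (1, 74, 4), (1, 21, 1), (1, 65, 8), (0, 77, 6), (0, 57, 4), (1, 42, 6), (1, 56, 8), (1, 51, 4), (1, 78, 7)],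
   [(0, 50, 6), (0, 4, 8), (0, 6, 4), (0, 14, 8), (0, 20, 8), (0, 22, 5), (0, 32, 1), (0, 34, 2), (0, 36, 2), (0, 53, 8), (0, 68, 2), (0, 71, 4), (0, 81, 2), (0, 106, 6), (0, 112, 8), (0, 151, 7), (0, 161, 5), (1, 33, 6), (1, 52, 6), (1, 73, 2), (1, 80, 3), (1, 74, 4), (1, 21, 6), (1, 65, 3), (0, 77, 5), (0, 57, 2), (1, 42, 6), (1, 56, 6)],
   [(0, 6, 4), (0, 14, 4), (0, 20, 7), (0, 22, 2), (0, 34, 6), (0, 36, 6), (0, 50, 2), (0, 53, 6), (0, 68, 4), (0, 71, 4), (0, 81, 7), (0, 106, 2), (0, 112, 2), (0, 151, 1), (0, 161, 6), (1, 33, 4), (1, 52, 2), (1, 73, 4), (1, 80, 3), (1, 74, 5), (1, 21, 8), (1, 65, 1), (0, 77, 6), (1, 51, 3)],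
   [(0, 6, 8), (0, 14, 7), (0, 20, 1), (0, 22, 7), (0, 34, 1), (0, 32, 4), (0, 50, 4), (0, 68, 4), (0, 71, 1), (0, 81, 4), (0, 106, 4), (0, 151, 3), (0, 161, 2), (1, 33, 3), (1, 52, 4), (1, 73, 8), (1, 80, 3), (1, 74, 3), (1, 21, 6), (1, 65, 5), (0, 77, 4), (1, 51, 8), (0, 57, 7), (1, 42, 7), (1, 78, 6), (1, 56, 5)],
   [(0, 68, 5), (0, 6, 7), (0, 14, 6), (0, 20, 6), (0, 22, 4), (0, 32, 2), (0, 34, 1), (0, 36, 2), (0, 53, 7), (0, 57, 8), (0, 71, 8), (0, 81, 5), (0, 106, 8), (0, 112, 1), (0, 151, 1), (0, 161, 2), (1, 33, 4), (1, 42, 7), (1, 52, 2), (1, 78, 1), (1, 73, 6), (1, 80, 3), (1, 74, 1), (1, 21, 3), (1, 56, 3), (1, 65, 3), (0, 77, 5), (1, 51, 3)],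
   [(0, 4, 2), (0, 6, 8), (0, 14, 2), (0, 20, 4), (0, 22, 8), (0, 32, 3), (0, 34, 6), (0, 36, 1), (0, 50, 1), (0, 57, 5), (0, 53, 3), (0, 68, 8), (0, 71, 7), (0, 81, 3), (0, 106, 4), (0, 112, 6), (0, 151, 1), (0, 161, 1), (1, 33, 2), (1, 42, 6), (1, 52, 7), (1, 78, 5), (1, 73, 6), (1, 80, 7), (1, 74, 5), (1, 21, 3), (1, 56, 6), (1, 65, 5)],
   [(0, 71, 5), (0, 6, 3), (0, 4, 8), (0, 20, 3), (0, 14, 2), (0, 32, 7), (0, 34, 7), (0, 50, 2), (0, 36, 7), (0, 53, 6), (0, 57, 1), (0, 68, 2), (0, 81, 1), (0, 106, 2), (0, 112, 1), (0, 151, 6), (0, 161, 8), (1, 52, 5), (1, 78, 2), (1, 73, 1), (1, 80, 6), (1, 74, 6), (1, 21, 2), (1, 56, 6), (1, 65, 7), (0, 77, 7), (1, 51, 7)],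
   [(0, 81, 8), (0, 4, 1), (0, 20, 7), (0, 14, 2), (0, 32, 3), (0, 34, 5), (0, 36, 8), (0, 50, 7), (0, 53, 3), (0, 57, 5), (0, 68, 7), (0, 71, 6), (0, 77, 6), (0, 106, 7), (0, 112, 8), (0, 151, 6), (0, 161, 5), (1, 33, 2), (1, 51, 5), (1, 42, 5), (1, 52, 4), (1, 78, 7), (1, 73, 2), (1, 80, 5), (1, 74, 3), (1, 21, 1), (1, 56, 7)],
   [(0, 106, 2), (0, 4, 1), (0, 14, 6), (0, 6, 6), (0, 20, 5), (0, 22, 7), (0, 34, 7), (0, 32, 2), (0, 36, 7), (0, 50, 5), (0, 53, 6), (0, 57, 8), (0, 68, 8), (0, 71, 8), (0, 77, 4), (0, 81, 8), (0, 112, 8), (0, 151, 8), (0, 161, 5), (1, 33, 3), (1, 51, 1), (1, 42, 6), (1, 52, 6), (1, 65, 2), (1, 78, 5), (1, 73, 4), (1, 80, 7), (1, 74, 7)],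
   [(0, 112, 2), (0, 4, 2), (0, 6, 2), (0, 14, 6), (0, 20, 5), (0, 32, 1), (0, 34, 2), (0, 50, 4), (0, 36, 5), (0, 53, 2), (0, 57, 6), (0, 71, 7), (0, 77, 4), (0, 81, 3), (0, 106, 4), (1, 21, 6), (0, 151, 4), (0, 161, 4), (1, 33, 5), (1, 51, 6), (1, 42, 2), (1, 52, 4), (1, 65, 5), (1, 78, 6), (1, 73, 6), (1, 56, 2), (1, 80, 1)],
   [(1, 21, 4), (0, 6, 1), (0, 4, 8), (0, 14, 2), (0, 20, 1), (0, 22, 7), (0, 32, 6), (0, 34, 7), (0, 50, 8), (0, 53, 3), (0, 57, 8), (0, 77, 1), (0, 68, 1), (0, 71, 5), (0, 81, 8), (0, 112, 3), (0, 151, 2), (0, 161, 3), (1, 33, 5), (1, 51, 4), (1, 42, 6), (1, 52, 2), (1, 65, 2), (1, 74, 4), (1, 78, 5), (1, 73, 3), (1, 56, 6)],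
   [(0, 161, 3), (0, 4, 3), (0, 6, 7), (0, 14, 8), (0, 20, 8), (0, 22, 4), (0, 32, 2), (0, 34, 1), (0, 36, 7), (0, 50, 5), (0, 53, 3), (0, 57, 6), (0, 71, 5), (0, 68, 8), (0, 77, 2), (0, 81, 4), (0, 112, 6), (1, 21, 5), (0, 151, 4), (1, 33, 5), (1, 51, 3), (1, 42, 5), (1, 52, 5), (1, 65, 8), (1, 74, 4), (1, 78, 4), (1, 56, 3), (1, 80, 3)],
   [(1, 33, 8), (0, 4, 7), (0, 6, 1), (0, 14, 5), (0, 20, 6), (0, 22, 7), (0, 32, 4), (0, 34, 4), (0, 36, 6), (0, 50, 1), (0, 53, 3), (0, 71, 7), (0, 77, 2), (0, 81, 3), (0, 106, 8), (0, 112, 7), (0, 161, 6), (1, 51, 7), (1, 21, 1), (1, 42, 1), (1, 52, 7), (1, 65, 8), (1, 74, 5), (1, 80, 4), (1, 78, 6), (1, 73, 2)],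
   [(0, 151, 3), (0, 4, 2), (0, 14, 3), (0, 6, 3), (0, 20, 7), (0, 32, 6), (0, 22, 5), (0, 34, 1), (0, 50, 8), (0, 36, 2), (0, 53, 8), (0, 57, 3), (0, 68, 7), (0, 77, 1), (0, 71, 5), (0, 81, 7), (0, 106, 5), (0, 112, 1), (1, 21, 8), (0, 161, 4), (1, 33, 4), (1, 51, 6), (1, 42, 8), (1, 52, 2), (1, 65, 4), (1, 74, 4), (1, 73, 4), (1, 56, 2), (1, 80, 5)],
   [(1, 51, 6), (0, 4, 2), (0, 6, 2), (0, 14, 1), (0, 20, 8), (0, 32, 3), (0, 34, 4), (0, 36, 2), (0, 50, 8), (0, 53, 8), (0, 57, 2), (0, 68, 4), (0, 71, 2), (0, 77, 6), (0, 112, 2), (0, 81, 8), (0, 106, 8), (0, 151, 1), (1, 21, 8), (0, 161, 7), (1, 33, 4), (1, 42, 8), (1, 52, 1), (1, 56, 3), (1, 65, 1), (1, 74, 2), (1, 80, 4), (1, 78, 1), (1, 73, 8)],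
   [(1, 52, 3), (0, 4, 3), (0, 6, 2), (0, 14, 4), (0, 20, 2), (0, 22, 8), (0, 32, 4), (0, 34, 4), (0, 36, 2), (0, 50, 4), (0, 53, 5), (0, 57, 8), (0, 68, 1), (0, 77, 5), (0, 81, 1), (0, 106, 5), (0, 112, 6), (0, 151, 3), (0, 161, 4), (1, 21, 7), (1, 51, 1), (1, 33, 2), (1, 56, 2), (1, 65, 1), (1, 74, 8), (1, 80, 4), (1, 78, 7), (1, 73, 4)],
   [(1, 42, 2), (0, 4, 1), (0, 6, 3), (0, 20, 5), (0, 22, 8), (0, 32, 1), (0, 34, 3), (0, 36, 6), (0, 50, 2), (0, 53, 5), (0, 57, 8), (0, 68, 6), (0, 71, 2), (0, 77, 7), (0, 81, 6), (0, 151, 7), (0, 112, 2), (0, 161, 1), (1, 21, 7), (1, 51, 7), (1, 33, 8), (1, 52, 4), (1, 56, 8), (1, 65, 5), (1, 80, 1), (1, 78, 8), (1, 73, 1)],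
   [(1, 56, 4), (0, 6, 5), (0, 14, 2), (0, 22, 4), (0, 32, 3), (0, 34, 4), (0, 36, 5), (0, 50, 3), (0, 53, 8), (0, 57, 8), (0, 71, 3), (0, 77, 7), (0, 81, 2), (0, 106, 4), (0, 112, 2), (0, 151, 6), (0, 161, 7), (1, 21, 2), (1, 42, 2), (1, 51, 1), (1, 33, 4), (1, 52, 1), (1, 65, 1), (1, 74, 1), (1, 80, 3), (1, 78, 1), (1, 73, 8)],
   [(1, 65, 6), (0, 4, 2), (0, 6, 8), (0, 14, 7), (0, 20, 5), (0, 22, 6), (0, 32, 1), (0, 34, 8), (0, 36, 2), (0, 71, 5), (0, 68, 6), (0, 77, 5), (0, 81, 6), (0, 106, 1), (0, 112, 7), (0, 161, 4), (1, 21, 7), (0, 151, 8), (1, 33, 7), (1, 42, 8), (1, 51, 7), (1, 52, 5), (1, 56, 2), (1, 74, 2), (1, 80, 7), (1, 78, 8), (1, 73, 5)],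
   [(0, 4, 7), (0, 6, 8), (0, 14, 4), (0, 20, 1), (0, 32, 8), (0, 22, 3), (0, 34, 3), (0, 50, 5), (0, 53, 8), (0, 68, 7), (0, 71, 6), (0, 77, 2), (0, 81, 6), (0, 106, 5), (0, 112, 4), (0, 151, 6), (0, 161, 1), (1, 33, 4), (1, 42, 3), (1, 51, 6), (1, 52, 3), (1, 56, 4), (1, 65, 6), (1, 74, 6), (1, 80, 6), (1, 78, 5)],
   [(1, 74, 5), (0, 6, 5), (0, 14, 4), (0, 20, 7), (0, 32, 4), (0, 22, 2), (0, 34, 1), (0, 36, 7), (0, 50, 4), (0, 53, 6), (0, 57, 4), (0, 68, 6), (0, 71, 1), (0, 77, 1), (0, 81, 1), (0, 106, 7), (0, 151, 6), (0, 112, 3), (1, 33, 6), (1, 42, 7), (1, 52, 7), (1, 56, 4), (1, 65, 1), (1, 80, 8), (1, 73, 6), (1, 78, 5)],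
   [(1, 78, 6), (0, 4, 6), (0, 6, 2), (0, 14, 4), (0, 22, 3), (0, 32, 3), (0, 34, 7), (0, 36, 6), (0, 53, 4), (0, 57, 8), (0, 68, 3), (0, 71, 2), (0, 77, 6), (0, 81, 5), (0, 112, 7), (0, 161, 1), (1, 21, 8), (1, 33, 5), (1, 42, 7), (1, 51, 5), (1, 56, 3), (1, 65, 7), (1, 73, 2), (1, 80, 8)],
   [(1, 80, 8), (0, 20, 1), (0, 22, 4), (0, 32, 3), (0, 34, 3), (0, 53, 2), (0, 68, 5), (0, 71, 1), (0, 57, 5), (0, 77, 8), (0, 106, 8), (0, 112, 5), (0, 151, 6), (0, 161, 7), (1, 42, 6), (1, 51, 3), (1, 33, 1), (1, 52, 4), (1, 56, 3), (1, 65, 7), (1, 73, 6), (1, 78, 5), (1, 74, 3)],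
   [(1, 82, 1), (0, 6, 5), (0, 4, 3), (0, 14, 4), (0, 20, 7), (0, 22, 8), (0, 34, 6), (0, 36, 5), (0, 50, 8), (0, 53, 1), (0, 57, 4), (0, 68, 3), (0, 71, 4), (0, 77, 6), (0, 81, 5), (0, 112, 2), (0, 161, 7), (1, 21, 3), (1, 33, 1), (1, 51, 8), (1, 52, 4), (1, 56, 3), (1, 65, 5), (1, 73, 2), (1, 74, 1), (1, 80, 3), (1, 78, 3)]]

/-- the certificate -/
def cert : Cert :=
  ⟨9, 2, 330, 2, 31, rels, nxT, pvT, parT, fmT, rkT, jsT, pe, fin⟩

/-- the parameter left -/
def k0 : ℕ := 30

/-- multiples -/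
def cs : List ℕ := [4, 3, 5, 2, 4, 4, 2, 3, 6, 5, 8, 5, 1, 1, 6, 6, 7, 0, 7, 4, 8, 5, 2, 2, 6, 8, 5, 6, 7, 2, 1]

/-- table part -/
def keyT_1 : Tr :=
  .nd (.nd (.nd (.nd (.nd (.nd (.lf 10558) (.lf 702724)) (.nd (.lf 951624) (.lf 0))) (.nd (.nd (.lf 1256224) (.lf 2738308)) (.nd (.lf 7612992) (.lf 0)))) (.nd (.nd (.nd (.lf 4593028) (.lf 5538256)) (.nd (.lf 2019456) (.lf 0))) (.nd (.nd (.lf 2949708) (.lf 0)) (.nd (.lf 4526126) (.lf 0))))) (.nd (.nd (.nd (.nd (.lf 1050548) (.lf 5780352)) (.nd (.lf 36294) (.lf 0))) (.nd (.nd (.lf 84464) (.lf 0)) (.nd (.lf 2220640) (.lf 0)))) (.nd (.nd (.nd (.lf 4510744) (.lf 5652556)) (.nd (.lf 4231958) (.lf 0))) (.nd (.nd (.lf 837906) (.lf 0)) (.nd (.lf 2201890) (.lf 0)))))) (.nd (.nd (.nd (.nd (.nd (.lf 2101096) (.lf 855332)) (.nd (.lf 231532) (.lf 0))) (.nd (.nd (.lf 3678776) (.lf 5621792)) (.nd (.lf 6295992) (.lf 0)))) (.nd (.nd (.nd (.lf 3294342) (.lf 5817604)) (.nd (.lf 5129250) (.lf 0))) (.nd (.nd (.lf 4220306) (.lf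 0)) (.nd (.lf 1849378) (.lf 0))))) (.nd (.nd (.nd (.nd (.lf 5409412) (.lf 2106966)) (.nd (.lf 545190) (.lf 0))) (.nd (.nd (.lf 208020) (.lf 0)) (.nd (.lf 1090380) (.lf 0)))) (.nd (.nd (.nd (.lf 90318) (.lf 2664522)) (.nd (.lf 5003780) (.lf 0))) (.nd (.nd (.lf 4253780) (.lf 0)) (.nd (.lf 580704) (.lf 0))))))

/-- table part -/
def keyT_2 : Tr :=
  .nd (.nd (.nd (.nd (.nd (.nd (.lf 4819776) (.lf 6365962)) (.nd (.lf 5255258) (.lf 0))) (.nd (.nd (.lf 2491452) (.lf 3457556)) (.nd (.lf 1103886) (.lf 0)))) (.nd (.nd (.nd (.lf 1608104) (.lf 4860434)) (.nd (.lf 7397512) (.lf 0))) (.nd (.nd (.lf 2631052) (.lf 0)) (.nd (.lf 157028) (.lf 0))))) (.nd (.nd (.nd (.nd (.lf 2409888) (.lf 72588)) (.nd (.lf 4459426) (.lf 0))) (.nd (.nd (.lf 1134148) (.lf 0)) (.nd (.lf 608810) (.lf 0)))) (.nd (.nd (.nd (.lf 3050016) (.lf 7479572)) (.nd (.lf 6949956) (.lf 0))) (.nd (.nd (.lf 145176) (.lf 0)) (.nd (.lf 5939296) (.lf 0)))))) (.nd (.nd (.nd (.nd (.nd (.lf 2168036) (.lf 2826278))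 (.nd (.lf 3672838) (.lf 0))) (.nd (.nd (.lf 1230376) (.lf 0)) (.nd (.lf 3328320) (.lf 0)))) (.nd (.nd (.nd (.lf 1369154) (.lf 4845570)) (.nd (.lf 1687640) (.lf 0))) (.nd (.nd (.lf 1265762) (.lf 0)) (.nd (.lf 4731956) (.lf 0))))) (.nd (.nd (.nd (.nd (.lf 2675464) (.lf 6554826)) (.nd (.lf 4870480) (.lf 0))) (.nd (.nd (.lf 4038912) (.lf 0)) (.nd (.lf 3739786) (.lf 0)))) (.nd (.nd (.nd (.lf 2384216) (.lf 1060490)) (.nd (.lf 1315526) (.lf 0))) (.nd (.nd (.lf 402026) (.lf 0)) (.nd (.lf 463064) (.lf 0))))))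

/-- table part -/
def keyT_3 : Tr :=
  .nd keyT_1 keyT_2

/-- table part -/
def keyT_4 : Tr :=
  .nd (.nd (.nd (.nd (.nd (.nd (.lf 4403780) (.lf 2425238)) (.nd (.lf 1070536) (.lf 0))) (.nd (.nd (.lf 1805314) (.lf 2130606)) (.nd (.lf 1378634) (.lf 0)))) (.nd (.nd (.nd (.lf 4744776) (.lf 2810896)) (.nd (.lf 762504) (.lf 0))) (.nd (.nd (.lf 1337732) (.lf 0)) (.nd (.lf 5249380) (.lf 0))))) (.nd (.nd (.nd (.nd (.lf 2702848) (.lf 2268296)) (.nd (.lf 4415544) (.lf 0))) (.nd (.nd (.lf 1192108) (.lf 0)) (.nd (.lf 1903248) (.lf 0)))) (.nd (.nd (.nd (.lf 1573998) (.lf 4294810)) (.nd (.lf 3227948) (.lf 0))) (.nd (.nd (.lf 2232654) (.lf 0)) (.nd (.lf 361272) (.lf 0)))))) (.nd (.nd (.nd (.nd (.nd (.lf 1351424) (.lf 5280930)) (.nd (.lf 6337856) (.lf 0))) (.nd (.nd (.lf 1722420) (.lf 0)) (.nd (.lf 2245426) (.lf 0)))) (.nd (.nd (.nd (.lf 2255372) (.lf 6475812)) (.nd (.lf 1484824) (.lf 0))) (.nd (.nd (.lf 692282) (.lf 0)) (.nd (.lf 115766) (.lf 0))))) (.nd (.nd (.nd (.nd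 (.lf 6842656) (.lf 4921504)) (.nd (.lf 742412) (.lf 0))) (.nd (.nd (.lf 5842956) (.lf 0)) (.nd (.lf 4536592) (.lf 0)))) (.nd (.nd (.nd (.lf 5405696) (.lf 5785794)) (.nd (.lf 2126890) (.lf 0))) (.nd (.nd (.lf 1584464) (.lf 0)) (.nd (.lf 1613974) (.lf 0))))))

/-- table part -/
def keyT_5 : Tr :=
  .nd (.nd (.nd (.nd (.nd (.nd (.lf 4361520) (.lf 5508118)) (.nd (.lf 7438406) (.lf 0))) (.nd (.nd (.lf 2531524) (.lf 675712)) (.nd (.lf 237906) (.lf 0)))) (.nd (.nd (.nd (.lf 3806496) (.lf 427666)) (.nd (.lf 252432) (.lf 0))) (.nd (.nd (.lf 4409606) (.lf 0)) (.nd (.lf 2501890) (.lf 0))))) (.nd (.nd (.nd (.nd (.lf 792232) (.lf 126216)) (.nd (.lf 4726026) (.lf 0))) (.nd (.nd (.lf 2150610) (.lf 0)) (.nd (.lf 2757268) (.lf 0)))) (.nd (.nd (.nd (.lf 884962) (.lf 2921478)) (.nd (.lf 138790) (.lf 0))) (.nd (.nd (.lf 2435240) (.lf 0)) (.nd (.lf 2180760) (.lf 0)))))) (.nd (.nd (.nd (.nd (.nd (.lf 832080) (.lf 421910)) (.nd (.lf 31554) (.lf 0))) (.nd (.nd (.lf 4982904) (.lf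 0)) (.nd (.lf 615188) (.lf 0)))) (.nd (.nd (.nd (.lf 6750560) (.lf 4485344)) (.nd (.lf 4271202) (.lf 0))) (.nd (.nd (.lf 2296514) (.lf 0)) (.nd (.lf 1084018) (.lf 0))))) (.nd (.nd (.nd (.nd (.lf 1445088) (.lf 7357552)) (.nd (.lf 6455896) (.lf 0))) (.nd (.nd (.lf 3421328) (.lf 0)) (.nd (.lf 7345676) (.lf 0)))) (.nd (.nd (.nd (.lf 3237906) (.lf 1110320)) (.nd (.lf 5350928) (.lf 0))) (.nd (.nd (.lf 1204944) (.lf 0)) (.nd (.lf 1127686) (.lf 0))))))

/-- table part -/
def keyT_6 : Tr :=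
  .nd keyT_4 keyT_5

/-- table part -/
def keyT_7 : Tr :=
  .nd keyT_3 keyT_6

/-- table part -/
def keyT_8 : Tr :=
  .nd (.nd (.nd (.nd (.nd (.nd (.lf 4261212) (.lf 7079696)) (.nd (.lf 3351624) (.lf 0))) (.nd (.nd (.lf 3444840) (.lf 926128)) (.nd (.lf 628112) (.lf 0)))) (.nd (.nd (.nd (.lf 1525008) (.lf 4063314)) (.nd (.lf 3951624) (.lf 0))) (.nd (.nd (.lf 63108) (.lf 0)) (.nd (.lf 6432416) (.lf 0))))) (.nd (.nd (.nd (.nd (.lf 6100032) (.lf 7221256)) (.nd (.lf 150618) (.lf 0))) (.nd (.nd (.lf 4538962) (.lf 0)) (.nd (.lf 1164162) (.lf 0)))) (.nd (.nd (.nd (.lf 1474854) (.lf 6379592)) (.nd (.lf 5514536) (.lf 0))) (.nd (.nd (.lf 4850476) (.lf 0)) (.nd (.lf 2890176) (.lf 0)))))) (.nd (.nd (.nd (.nd (.nd (.lf 6656640) (.lf 6594610)) (.nd (.lf 1245726) (.lf 0))) (.nd (.nd (.lf 42232) (.lf 8126628)) (.nd (.lf 4626498) (.lf 0)))) (.nd (.nd (.nd (.lf 1664160) (.lf 3698756)) (.nd (.lf 4346506) (.lf 0))) (.nd (.nd (.lf 7473194) (.lf 0)) (.nd (.lf 2624690) (.lf 0)))))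 (.nd (.nd (.nd (.nd (.lf 1594898) (.lf 1121336)) (.nd (.lf 2377830) (.lf 0))) (.nd (.nd (.lf 1217620) (.lf 0)) (.nd (.lf 4202192) (.lf 0)))) (.nd (.nd (.nd (.lf 475812) (.lf 3375280)) (.nd (.lf 2120980) (.lf 0))) (.nd (.nd (.lf 5329044) (.lf 0)) (.nd (.lf 3189796) (.lf 0))))))

/-- table part -/
def keyT_9 : Tr :=
  .nd (.nd (.nd (.nd (.nd (.nd (.lf 2365978) (.lf 301236)) (.nd (.lf 2654580) (.lf 0))) (.nd (.nd (.lf 1405448) (.lf 804052)) (.nd (.lf 2322816) (.lf 0)))) (.nd (.nd (.nd (.lf 6062602) (.lf 6979970)) (.nd (.lf 2769128) (.lf 0))) (.nd (.nd (.lf 21116) (.lf 0)) (.nd (.lf 6644740) (.lf 0))))) (.nd (.nd (.nd (.nd (.lf 5709954) (.lf 4325622)) (.nd (.lf 5640752) (.lf 0))) (.nd (.nd (.lf 2141072) (.lf 0)) (.nd (.lf 4241960) (.lf 0)))) (.nd (.nd (.nd (.lf 3179802) (.lf 4755660)) (.nd (.lf 1384564) (.lf 0))) (.nd (.nd (.lf 668866) (.lf 0)) (.nd (.lf 314056) (.lf 0)))))) (.nd (.nd (.nd (.nd (.nd (.lf 7409024) (.lf 4645632)) (.nd (.lf 4282144) (.lf 0))) (.nd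 (.nd (.lf 1728778) (.lf 0)) (.nd (.lf 277580) (.lf 0)))) (.nd (.nd (.nd (.lf 525274) (.lf 337856)) (.nd (.lf 267634) (.lf 0))) (.nd (.nd (.lf 602472) (.lf 0)) (.nd (.lf 6305926) (.lf 0))))) (.nd (.nd (.nd (.nd (.lf 307594) (.lf 504864)) (.nd (.lf 1186194) (.lf 0))) (.nd (.nd (.lf 5024896) (.lf 0)) (.nd (.lf 5210132) (.lf 0)))) (.nd (.nd (.nd (.lf 4441280) (.lf 6344194)) (.nd (.lf 2460752) (.lf 0))) (.nd (.nd (.lf 198058) (.lf 0)) (.nd (.lf 168928) (.lf 0))))))

/-- table part -/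
def keyT_10 : Tr :=
  .nd keyT_8 keyT_9

/-- table part -/
def keyT_11 : Tr :=
  .nd (.nd (.nd (.nd (.nd (.nd (.lf 3216208) (.lf 4490852)) (.nd (.lf 1009728) (.lf 0))) (.nd (.nd (.lf 919694) (.lf 3147996)) (.nd (.lf 722544) (.lf 0)))) (.nd (.nd (.nd (.lf 3322370) (.lf 4785798)) (.nd (.lf 3539848) (.lf 0))) (.nd (.nd (.lf 1975812) (.lf 0)) (.nd (.lf 280334) (.lf 0))))) (.nd (.nd (.nd (.nd (.lf 2908802) (.lf 1852256)) (.nd (.lf 78514) (.lf 0))) (.nd (.nd (.lf 381252) (.lf 0)) (.nd (.lf 2820376) (.lf 0)))) (.nd (.nd (.nd (.lf 6915112) (.lf 6308804)) (.nd (.lf 705094) (.lf 0))) (.nd (.nd (.lf 4656648) (.lf 0)) (.nd (.lf 190626) (.lf 0)))))) (.nd (.nd (.nd (.nd (.nd (.lf 4989254) (.lf 6820450)) (.nd (.lf 1161408) (.lf 0))) (.nd (.nd (.lf 6832158) (.lf 0)) (.nd (.lf 1710664) (.lf 0)))) (.nd (.nd (.nd (.lf 180636) (.lf 2328324)) (.nd (.lf 5899416) (.lf 0))) (.nd (.nd (.lf 4243818) (.lf 0)) (.nd (.lf 5268006) (.lf 0))))) (.nd (.nd (.nd (.nd (.lf 8077824) (.lf 5375810))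 (.nd (.lf 5262104) (.lf 0))) (.nd (.nd (.lf 3704512) (.lf 0)) (.nd (.lf 396116) (.lf 0)))) (.nd (.nd (.nd (.lf 555160) (.lf 2969648)) (.nd (.lf 4301220) (.lf 0))) (.nd (.nd (.lf 6889680) (.lf 0)) (.nd (.lf 4336072) (.lf 0))))))

/-- table part -/
def keyT_12 : Tr :=
  .nd (.nd (.nd (.nd (.nd (.nd (.lf 987906) (.lf 7903248)) (.nd (.lf 861210) (.lf 0))) (.nd (.nd (.lf 1410188) (.lf 2242672)) (.nd (.lf 5309160) (.lf 0)))) (.nd (.nd (.nd (.lf 843820) (.lf 4367374)) (.nd (.lf 1327290) (.lf 0))) (.nd (.nd (.lf 290352) (.lf 0)) (.nd (.lf 1675812) (.lf 0))))) (.nd (.nd (.nd (.nd (.lf 2207772) (.lf 2704706)) (.nd (.lf 2512448) (.lf 0))) (.nd (.nd (.lf 3154402) (.lf 0)) (.nd (.lf 6588684) (.lf 0)))) (.nd (.nd (.nd (.lf 3474978) (.lf 560668)) (.nd (.lf 104010) (.lf 0))) (.nd (.nd (.lf 1839388) (.lf 0)) (.nd (.lf 2605066) (.lf 0)))))) (.nd (.nd (.nd (.nd (.nd (.lf 371206) (.lf 4213932)) (.nd (.lf 2372388) (.lf 0))) (.nd (.nd (.lf 6493202) (.lf 0)) (.nd (.lf 416040)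 (.lf 0)))) (.nd (.nd (.nd (.lf 6703248) (.lf 351362)) (.nd (.lf 6359604) (.lf 0))) (.nd (.nd (.lf 3168928) (.lf 0)) (.nd (.lf 5833010) (.lf 0))))) (.nd (.nd (.nd (.nd (.lf 4465308) (.lf 7622914)) (.nd (.lf 5476616) (.lf 0))) (.nd (.nd (.lf 1769924) (.lf 0)) (.nd (.lf 567074) (.lf 0)))) (.nd (.nd (.nd (.lf 4768432) (.lf 3610628)) (.nd (.lf 596054) (.lf 0))) (.nd (.nd (.lf 5063048) (.lf 0)) (.nd (.lf 535268) (.lf 0))))))

/-- table part -/
def keyT_13 : Tr :=
  .nd keyT_11 keyT_12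

/-- table part -/
def keyT_14 : Tr :=
  .nd keyT_10 keyT_13

/-- table part -/
def keyT_15 : Tr :=
  .nd keyT_7 keyT_14

/-- table -/
def keyT : Tr :=
  keyT_15

/-- table part -/
def posT_1 : Tr :=
  .nd (.nd (.nd (.nd (.nd (.nd (.lf 0) (.lf 60)) (.nd (.lf 75) (.lf 0))) (.nd (.nd (.lf 96) (.lf 170)) (.nd (.lf 325) (.lf 0)))) (.nd (.nd (.nd (.lf 239) (.lf 276)) (.nd (.lf 129) (.lf 0))) (.nd (.nd (.lf 179) (.lf 0)) (.nd (.lf 236) (.lf 0))))) (.nd (.nd (.nd (.nd (.lf 78) (.lf 281)) (.nd (.lf 3) (.lf 0))) (.nd (.nd (.lf 8) (.lf 0)) (.nd (.lf 141) (.lf 0)))) (.nd (.nd (.nd (.lf 235) (.lf 279)) (.nd (.lf 213) (.lf 0))) (.nd (.nd (.lf 68) (.lf 0)) (.nd (.lf 139) (.lf 0)))))) (.nd (.nd (.nd (.nd (.nd (.lf 130) (.lf 70)) (.nd (.lf 22) (.lf 0))) (.nd (.nd (.lf 202) (.lf 277)) (.nd (.lf 290) (.lf 0)))) (.nd (.nd (.nd (.lf 190) (.lf 283)) (.nd (.lf 260) (.lf 0))) (.nd (.nd (.lf 212) (.lf 0)) (.nd (.lf 125) (.lf 0))))) (.nd (.nd (.nd (.nd (.lf 272) (.lf 131)) (.nd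 (.lf 47) (.lf 0))) (.nd (.nd (.lf 21) (.lf 0)) (.nd (.lf 82) (.lf 0)))) (.nd (.nd (.nd (.lf 9) (.lf 166)) (.nd (.lf 257) (.lf 0))) (.nd (.nd (.lf 216) (.lf 0)) (.nd (.lf 51) (.lf 0))))))

/-- table part -/
def posT_2 : Tr :=
  .nd (.nd (.nd (.nd (.nd (.nd (.lf 249) (.lf 296)) (.nd (.lf 263) (.lf 0))) (.nd (.nd (.lf 158) (.lf 197)) (.nd (.lf 83) (.lf 0)))) (.nd (.nd (.nd (.lf 114) (.lf 252)) (.nd (.lf 320) (.lf 0))) (.nd (.nd (.lf 164) (.lf 0)) (.nd (.lf 16) (.lf 0))))) (.nd (.nd (.nd (.nd (.lf 154) (.lf 6)) (.nd (.lf 231) (.lf 0))) (.nd (.nd (.lf 87) (.lf 0)) (.nd (.lf 54) (.lf 0)))) (.nd (.nd (.nd (.lf 181) (.lf 324)) (.nd (.lf 314) (.lf 0))) (.nd (.nd (.lf 14) (.lf 0)) (.nd (.lf 287) (.lf 0)))))) (.nd (.nd (.nd (.nd (.nd (.lf 137) (.lf 175)) (.nd (.lf 201) (.lf 0))) (.nd (.nd (.lf 94) (.lf 0)) (.nd (.lf 192) (.lf 0)))) (.nd (.nd (.nd (.lf 102) (.lf 250)) (.nd (.lf 118) (.lf 0))) (.nd (.nd (.lf 97) (.lf 0)) (.nd (.lf 244) (.lf 0))))) (.nd (.nd (.nd (.nd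 (.lf 167) (.lf 302)) (.nd (.lf 253) (.lf 0))) (.nd (.nd (.lf 208) (.lf 0)) (.nd (.lf 205) (.lf 0)))) (.nd (.nd (.nd (.lf 153) (.lf 79)) (.nd (.lf 98) (.lf 0))) (.nd (.nd (.lf 38) (.lf 0)) (.nd (.lf 42) (.lf 0))))))

/-- table part -/
def posT_3 : Tr :=
  .nd posT_1 posT_2

/-- table part -/
def posT_4 : Tr :=
  .nd (.nd (.nd (.nd (.nd (.nd (.lf 227) (.lf 155)) (.nd (.lf 80) (.lf 0))) (.nd (.nd (.lf 123) (.lf 134)) (.nd (.lf 103) (.lf 0)))) (.nd (.nd (.nd (.lf 245) (.lf 173)) (.nd (.lf 64) (.lf 0))) (.nd (.nd (.lf 100) (.lf 0)) (.nd (.lf 262) (.lf 0))))) (.nd (.nd (.nd (.nd (.lf 168) (.lf 146)) (.nd (.lf 229) (.lf 0))) (.nd (.nd (.lf 91) (.lf 0)) (.nd (.lf 127) (.lf 0)))) (.nd (.nd (.nd (.lf 111) (.lf 220)) (.nd (.lf 188) (.lf 0))) (.nd (.nd (.lf 142) (.lf 0)) (.nd (.lf 34) (.lf 0)))))) (.nd (.nd (.nd (.nd (.nd (.lf 101) (.lf 266)) (.nd (.lf 293) (.lf 0))) (.nd (.nd (.lf 120) (.lf 0)) (.nd (.lf 144) (.lf 0)))) (.nd (.nd (.nd (.lf 145) (.lf 300)) (.nd (.lf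 109) (.lf 0))) (.nd (.nd (.lf 59) (.lf 0)) (.nd (.lf 11) (.lf 0))))) (.nd (.nd (.nd (.nd (.lf 311) (.lf 254)) (.nd (.lf 63) (.lf 0))) (.nd (.nd (.lf 285) (.lf 0)) (.nd (.lf 237) (.lf 0)))) (.nd (.nd (.nd (.lf 271) (.lf 282)) (.nd (.lf 133) (.lf 0))) (.nd (.nd (.lf 112) (.lf 0)) (.nd (.lf 115) (.lf 0))))))

/-- table part -/
def posT_5 : Tr :=
  .nd (.nd (.nd (.nd (.nd (.nd (.lf 225) (.lf 274)) (.nd (.lf 322) (.lf 0))) (.nd (.nd (.lf 161) (.lf 58)) (.nd (.lf 23) (.lf 0)))) (.nd (.nd (.nd (.lf 206) (.lf 41)) (.nd (.lf 24) (.lf 0))) (.nd (.nd (.lf 228) (.lf 0)) (.nd (.lf 159) (.lf 0))))) (.nd (.nd (.nd (.nd (.lf 65) (.lf 12)) (.nd (.lf 243) (.lf 0))) (.nd (.nd (.lf 136) (.lf 0)) (.nd (.lf 171) (.lf 0)))) (.nd (.nd (.nd (.lf 72) (.lf 178)) (.nd (.lf 13) (.lf 0))) (.nd (.nd (.lf 156) (.lf 0)) (.nd (.lf 138) (.lf 0)))))) (.nd (.nd (.nd (.nd (.nd (.lf 67) (.lf 40)) (.nd (.lf 2) (.lf 0))) (.nd (.nd (.lf 255) (.lf 0)) (.nd (.lf 55) (.lf 0)))) (.nd (.nd (.nd (.lf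 308) (.lf 233)) (.nd (.lf 218) (.lf 0))) (.nd (.nd (.lf 147) (.lf 0)) (.nd (.lf 81) (.lf 0))))) (.nd (.nd (.nd (.nd (.lf 107) (.lf 319)) (.nd (.lf 299) (.lf 0))) (.nd (.nd (.lf 195) (.lf 0)) (.nd (.lf 318) (.lf 0)))) (.nd (.nd (.nd (.lf 189) (.lf 84)) (.nd (.lf 269) (.lf 0))) (.nd (.nd (.lf 92) (.lf 0)) (.nd (.lf 86) (.lf 0))))))

/-- table part -/
def posT_6 : Tr :=
  .nd posT_4 posT_5

/-- table part -/
def posT_7 : Tr :=
  .nd posT_3 posT_6

/-- table part -/
def posT_8 : Tr :=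
  .nd (.nd (.nd (.nd (.nd (.nd (.lf 217) (.lf 316)) (.nd (.lf 193) (.lf 0))) (.nd (.nd (.lf 196) (.lf 74)) (.nd (.lf 56) (.lf 0)))) (.nd (.nd (.nd (.lf 110) (.lf 209)) (.nd (.lf 207) (.lf 0))) (.nd (.nd (.lf 5) (.lf 0)) (.nd (.lf 298) (.lf 0))))) (.nd (.nd (.nd (.nd (.lf 289) (.lf 317)) (.nd (.lf 15) (.lf 0))) (.nd (.nd (.lf 238) (.lf 0)) (.nd (.lf 89) (.lf 0)))) (.nd (.nd (.nd (.lf 108) (.lf 297)) (.nd (.lf 275) (.lf 0))) (.nd (.nd (.lf 251) (.lf 0)) (.nd (.lf 176) (.lf 0)))))) (.nd (.nd (.nd (.nd (.nd (.lf 306) (.lf 304)) (.nd (.lf 95) (.lf 0))) (.nd (.nd (.lf 4) (.lf 329)) (.nd (.lf 240) (.lf 0)))) (.nd (.nd (.nd (.lf 116) (.lf 203)) (.nd (.lf 224) (.lf 0))) (.nd (.nd (.lf 323) (.lf 0)) (.nd (.lf 163) (.lf 0))))) (.nd (.nd (.nd (.nd (.lf 113) (.lf 85)) (.nd (.lf 152) (.lf 0))) (.nd (.nd (.lf 93) (.lf 0)) (.nd (.lf 210) (.lf 0)))) (.nd (.nd (.nd (.lf 43) (.lf 194)) (.nd (.lf 132) (.lf 0))) (.nd (.nd (.lf 268) (.lf 0)) (.nd (.lf 186) (.lf 0))))))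

/-- table part -/
def posT_9 : Tr :=
  .nd (.nd (.nd (.nd (.nd (.nd (.lf 150) (.lf 29)) (.nd (.lf 165) (.lf 0))) (.nd (.nd (.lf 105) (.lf 66)) (.nd (.lf 148) (.lf 0)))) (.nd (.nd (.nd (.lf 288) (.lf 315)) (.nd (.lf 172) (.lf 0))) (.nd (.nd (.lf 1) (.lf 0)) (.nd (.lf 305) (.lf 0))))) (.nd (.nd (.nd (.nd (.lf 280) (.lf 222)) (.nd (.lf 278) (.lf 0))) (.nd (.nd (.lf 135) (.lf 0)) (.nd (.lf 214) (.lf 0)))) (.nd (.nd (.nd (.lf 185) (.lf 246)) (.nd (.lf 104) (.lf 0))) (.nd (.nd (.lf 57) (.lf 0)) (.nd (.lf 31) (.lf 0)))))) (.nd (.nd (.nd (.nd (.nd (.lf 321) (.lf 241)) (.nd (.lf 219) (.lf 0))) (.nd (.nd (.lf 121) (.lf 0)) (.nd (.lf 26) (.lf 0)))) (.nd (.nd (.nd (.lf 45) (.lf 32)) (.nd (.lf 25) (.lf 0))) (.nd (.nd (.lf 53) (.lf 0)) (.nd (.lf 291) (.lf 0))))) (.nd (.nd (.nd (.nd (.lf 30) (.lf 44)) (.nd (.lf 90) (.lf 0))) (.nd (.nd (.lf 258) (.lf 0)) (.nd (.lf 261) (.lf 0)))) (.nd (.nd (.nd (.lf 230) (.lf 294)) (.nd (.lf 157) (.lf 0))) (.nd (.nd (.lf 20) (.lf 0)) (.nd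 (.lf 17) (.lf 0))))))

/-- table part -/
def posT_10 : Tr :=
  .nd posT_8 posT_9

/-- table part -/
def posT_11 : Tr :=
  .nd (.nd (.nd (.nd (.nd (.nd (.lf 187) (.lf 234)) (.nd (.lf 77) (.lf 0))) (.nd (.nd (.lf 73) (.lf 182)) (.nd (.lf 62) (.lf 0)))) (.nd (.nd (.nd (.lf 191) (.lf 248)) (.nd (.lf 199) (.lf 0))) (.nd (.nd (.lf 128) (.lf 0)) (.nd (.lf 27) (.lf 0))))) (.nd (.nd (.nd (.nd (.lf 177) (.lf 126)) (.nd (.lf 7) (.lf 0))) (.nd (.nd (.lf 36) (.lf 0)) (.nd (.lf 174) (.lf 0)))) (.nd (.nd (.nd (.lf 313) (.lf 292)) (.nd (.lf 61) (.lf 0))) (.nd (.nd (.lf 242) (.lf 0)) (.nd (.lf 19) (.lf 0)))))) (.nd (.nd (.nd (.nd (.nd (.lf 256) (.lf 309)) (.nd (.lf 88) (.lf 0))) (.nd (.nd (.lf 310) (.lf 0)) (.nd (.lf 119) (.lf 0)))) (.nd (.nd (.nd (.lf 18) (.lf 149)) (.nd (.lf 286) (.lf 0))) (.nd (.nd (.lf 215) (.lf 0)) (.nd (.lf 265) (.lf 0))))) (.nd (.nd (.nd (.nd (.lf 328) (.lf 270)) (.nd (.lf 264) (.lf 0))) (.nd (.nd (.lf 204) (.lf 0)) (.nd (.lf 37) (.lf 0)))) (.nd (.nd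 (.nd (.lf 48) (.lf 180)) (.nd (.lf 221) (.lf 0))) (.nd (.nd (.lf 312) (.lf 0)) (.nd (.lf 223) (.lf 0))))))

/-- table part -/
def posT_12 : Tr :=
  .nd (.nd (.nd (.nd (.nd (.nd (.lf 76) (.lf 327)) (.nd (.lf 71) (.lf 0))) (.nd (.nd (.lf 106) (.lf 143)) (.nd (.lf 267) (.lf 0)))) (.nd (.nd (.nd (.lf 69) (.lf 226)) (.nd (.lf 99) (.lf 0))) (.nd (.nd (.lf 28) (.lf 0)) (.nd (.lf 117) (.lf 0))))) (.nd (.nd (.nd (.nd (.lf 140) (.lf 169)) (.nd (.lf 160) (.lf 0))) (.nd (.nd (.lf 183) (.lf 0)) (.nd (.lf 303) (.lf 0)))) (.nd (.nd (.nd (.lf 198) (.lf 49)) (.nd (.lf 10) (.lf 0))) (.nd (.nd (.lf 124) (.lf 0)) (.nd (.lf 162) (.lf 0)))))) (.nd (.nd (.nd (.nd (.nd (.lf 35) (.lf 211)) (.nd (.lf 151) (.lf 0))) (.nd (.nd (.lf 301) (.lf 0)) (.nd (.lf 39) (.lf 0)))) (.nd (.nd (.nd (.lf 307) (.lf 33)) (.nd (.lf 295) (.lf 0))) (.nd (.nd (.lf 184) (.lf 0)) (.nd (.lf 284) (.lf 0))))) (.nd (.nd (.nd (.nd (.lf 232) (.lf 326)) (.nd (.lf 273) (.lf 0))) (.nd (.nd (.lf 122) (.lf 0)) (.nd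 (.lf 50) (.lf 0)))) (.nd (.nd (.nd (.lf 247) (.lf 200)) (.nd (.lf 52) (.lf 0))) (.nd (.nd (.lf 259) (.lf 0)) (.nd (.lf 46) (.lf 0))))))

/-- table part -/
def posT_13 : Tr :=
  .nd posT_11 posT_12

/-- table part -/
def posT_14 : Tr :=
  .nd posT_10 posT_13

/-- table part -/
def posT_15 : Tr :=
  .nd posT_7 posT_14

/-- table -/
def posT : Tr :=
  posT_15

/-- table part -/
def srtT_1 : Tr :=
  .nd (.nd (.nd (.nd (.nd (.nd (.lf 0) (.lf 11)) (.nd (.lf 99) (.lf 0))) (.nd (.nd (.lf 162) (.lf 164)) (.nd (.lf 204) (.lf 0)))) (.nd (.nd (.nd (.lf 301) (.lf 37)) (.nd (.lf 151) (.lf 0))) (.nd (.nd (.lf 64) (.lf 0)) (.nd (.lf 169) (.lf 0))))) (.nd (.nd (.nd (.nd (.lf 228) (.lf 24)) (.nd (.lf 202) (.lf 0))) (.nd (.nd (.lf 130) (.lf 0)) (.nd (.lf 92) (.lf 0)))) (.nd (.nd (.nd (.lf 59) (.lf 265)) (.nd (.lf 241) (.lf 0))) (.nd (.nd (.lf 122) (.lf 0)) (.nd (.lf 201) (.lf 0)))))) (.nd (.nd (.nd (.nd (.nd (.lf 80) (.lf 155)) (.nd (.lf 86) (.lf 0))) (.nd (.nd (.lf 54) (.lf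 27)) (.nd (.lf 319) (.lf 0)))) (.nd (.nd (.nd (.lf 270) (.lf 260)) (.nd (.lf 18) (.lf 0))) (.nd (.nd (.lf 181) (.lf 0)) (.nd (.lf 31) (.lf 0))))) (.nd (.nd (.nd (.nd (.lf 166) (.lf 21)) (.nd (.lf 153) (.lf 0))) (.nd (.nd (.lf 139) (.lf 0)) (.nd (.lf 120) (.lf 0)))) (.nd (.nd (.nd (.lf 193) (.lf 123)) (.nd (.lf 111) (.lf 0))) (.nd (.nd (.lf 74) (.lf 0)) (.nd (.lf 291) (.lf 0))))))

/-- table part -/
def srtT_2 : Tr :=
  .nd (.nd (.nd (.nd (.nd (.nd (.lf 73) (.lf 168)) (.nd (.lf 185) (.lf 0))) (.nd (.nd (.lf 112) (.lf 308)) (.nd (.lf 65) (.lf 0)))) (.nd (.nd (.nd (.lf 83) (.lf 307)) (.nd (.lf 100) (.lf 0))) (.nd (.nd (.lf 98) (.lf 0)) (.nd (.lf 102) (.lf 0))))) (.nd (.nd (.nd (.nd (.lf 125) (.lf 288)) (.nd (.lf 197) (.lf 0))) (.nd (.nd (.lf 318) (.lf 0)) (.nd (.lf 104) (.lf 0)))) (.nd (.nd (.nd (.lf 191) (.lf 46)) (.nd (.lf 315) (.lf 0))) (.nd (.nd (.lf 41) (.lf 0)) (.nd (.lf 236) (.lf 0)))))) (.nd (.nd (.nd (.nd (.nd (.lf 278) (.lf 121)) (.nd (.lf 23) (.lf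 0))) (.nd (.nd (.lf 7) (.lf 0)) (.nd (.lf 91) (.lf 0)))) (.nd (.nd (.nd (.lf 285) (.lf 298)) (.nd (.lf 165) (.lf 0))) (.nd (.nd (.lf 49) (.lf 0)) (.nd (.lf 224) (.lf 0))))) (.nd (.nd (.nd (.nd (.lf 103) (.lf 239)) (.nd (.lf 118) (.lf 0))) (.nd (.nd (.lf 126) (.lf 0)) (.nd (.lf 306) (.lf 0)))) (.nd (.nd (.nd (.lf 256) (.lf 257)) (.nd (.lf 178) (.lf 0))) (.nd (.nd (.lf 119) (.lf 0)) (.nd (.lf 292) (.lf 0))))))

/-- table part -/
def srtT_3 : Tr :=
  .nd srtT_1 srtT_2

/-- table part -/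
def srtT_4 : Tr :=
  .nd (.nd (.nd (.nd (.nd (.nd (.lf 142) (.lf 93)) (.nd (.lf 8) (.lf 0))) (.nd (.nd (.lf 325) (.lf 134)) (.nd (.lf 313) (.lf 0)))) (.nd (.nd (.nd (.lf 242) (.lf 200)) (.nd (.lf 247) (.lf 0))) (.nd (.nd (.lf 188) (.lf 0)) (.nd (.lf 295) (.lf 0))))) (.nd (.nd (.nd (.nd (.lf 43) (.lf 262)) (.nd (.lf 274) (.lf 0))) (.nd (.nd (.lf 216) (.lf 0)) (.nd (.lf 217) (.lf 0)))) (.nd (.nd (.nd (.lf 223) (.lf 9)) (.nd (.lf 310) (.lf 0))) (.nd (.nd (.lf 36) (.lf 0)) (.nd (.lf 115) (.lf 0)))))) (.nd (.nd (.nd (.nd (.nd (.lf 183) (.lf 266)) (.nd (.lf 246) (.lf 0))) (.nd (.nd (.lf 321) (.lf 0)) (.nd (.lf 72) (.lf 0)))) (.nd (.nd (.nd (.lf 252) (.lf 225)) (.nd (.lf 320) (.lf 0))) (.nd (.nd (.lf 71) (.lf 0)) (.nd (.lf 259) (.lf 0))))) (.nd (.nd (.nd (.nd (.lf 205) (.lf 314)) (.nd (.lf 20) (.lf 0))) (.nd (.nd (.lf 157) (.lf 0)) (.nd (.lf 174) (.lf 0)))) (.nd (.nd (.nd (.lf 326) (.lf 180)) (.nd (.lf 249) (.lf 0))) (.nd (.nd (.lf 95) (.lf 0)) (.nd (.lf 300) (.lf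 0))))))

/-- table part -/
def srtT_5 : Tr :=
  .nd (.nd (.nd (.nd (.nd (.nd (.lf 276) (.lf 226)) (.nd (.lf 322) (.lf 0))) (.nd (.nd (.lf 264) (.lf 287)) (.nd (.lf 55) (.lf 0)))) (.nd (.nd (.nd (.lf 124) (.lf 317)) (.nd (.lf 312) (.lf 0))) (.nd (.nd (.lf 44) (.lf 0)) (.nd (.lf 61) (.lf 0))))) (.nd (.nd (.nd (.nd (.lf 136) (.lf 149)) (.nd (.lf 5) (.lf 0))) (.nd (.nd (.lf 254) (.lf 0)) (.nd (.lf 213) (.lf 0)))) (.nd (.nd (.nd (.lf 212) (.lf 75)) (.nd (.lf 323) (.lf 0))) (.nd (.nd (.lf 172) (.lf 0)) (.nd (.lf 309) (.lf 0)))))) (.nd (.nd (.nd (.nd (.nd (.lf 116) (.lf 283)) (.nd (.lf 114) (.lf 0))) (.nd (.nd (.lf 16) (.lf 0)) (.nd (.lf 38) (.lf 0)))) (.nd (.nd (.nd (.lf 255) (.lf 284)) (.nd (.lf 211) (.lf 0))) (.nd (.nd (.lf 33) (.lf 0)) (.nd (.lf 81) (.lf 0))))) (.nd (.nd (.nd (.nd (.lf 29) (.lf 171)) (.nd (.lf 68) (.lf 0))) (.nd (.nd (.lf 76) (.lf 0)) (.nd (.lf 277) (.lf 0)))) (.nd (.nd (.nd (.lf 195) (.lf 222)) (.nd (.lf 40) (.lf 0))) (.nd (.nd (.lf 275) (.lf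 0)) (.nd (.lf 282) (.lf 0))))))

/-- table part -/
def srtT_6 : Tr :=
  .nd srtT_4 srtT_5

/-- table part -/
def srtT_7 : Tr :=
  .nd srtT_3 srtT_6

/-- table part -/
def srtT_8 : Tr :=
  .nd (.nd (.nd (.nd (.nd (.nd (.lf 101) (.lf 184)) (.nd (.lf 160) (.lf 0))) (.nd (.nd (.lf 22) (.lf 13)) (.nd (.lf 129) (.lf 0)))) (.nd (.nd (.nd (.lf 303) (.lf 17)) (.nd (.lf 70) (.lf 0))) (.nd (.nd (.lf 108) (.lf 0)) (.nd (.lf 6) (.lf 0))))) (.nd (.nd (.nd (.nd (.lf 253) (.lf 159)) (.nd (.lf 42) (.lf 0))) (.nd (.nd (.lf 238) (.lf 0)) (.nd (.lf 289) (.lf 0)))) (.nd (.nd (.nd (.lf 311) (.lf 229)) (.nd (.lf 19) (.lf 0))) (.nd (.nd (.lf 25) (.lf 0)) (.nd (.lf 269) (.lf 0)))))) (.nd (.nd (.nd (.nd (.nd (.lf 56) (.lf 235)) (.nd (.lf 12) (.lf 0))) (.nd (.nd (.lf 67) (.lf 329)) (.nd (.lf 140) (.lf 0)))) (.nd (.nd (.nd (.lf 294) (.lf 305)) (.nd (.lf 279) (.lf 0))) (.nd (.nd (.lf 69) (.lf 0)) (.nd (.lf 302) (.lf 0))))) (.nd (.nd (.nd (.nd (.lf 173) (.lf 272)) (.nd (.lf 60) (.lf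 0))) (.nd (.nd (.lf 209) (.lf 0)) (.nd (.lf 1) (.lf 0)))) (.nd (.nd (.nd (.lf 117) (.lf 51)) (.nd (.lf 53) (.lf 0))) (.nd (.nd (.lf 77) (.lf 0)) (.nd (.lf 4) (.lf 0))))))

/-- table part -/
def srtT_9 : Tr :=
  .nd (.nd (.nd (.nd (.nd (.nd (.lf 97) (.lf 221)) (.nd (.lf 186) (.lf 0))) (.nd (.nd (.lf 39) (.lf 192)) (.nd (.lf 324) (.lf 0)))) (.nd (.nd (.nd (.lf 219) (.lf 138)) (.nd (.lf 133) (.lf 0))) (.nd (.nd (.lf 10) (.lf 0)) (.nd (.lf 146) (.lf 0))))) (.nd (.nd (.nd (.nd (.lf 88) (.lf 328)) (.nd (.lf 299) (.lf 0))) (.nd (.nd (.lf 281) (.lf 0)) (.nd (.lf 176) (.lf 0)))) (.nd (.nd (.nd (.lf 109) (.lf 267)) (.nd (.lf 52) (.lf 0))) (.nd (.nd (.lf 231) (.lf 0)) (.nd (.lf 34) (.lf 0)))))) (.nd (.nd (.nd (.nd (.nd (.lf 182) (.lf 190)) (.nd (.lf 208) (.lf 0))) (.nd (.nd (.lf 131) (.lf 0)) (.nd (.lf 220) (.lf 0)))) (.nd (.nd (.nd (.lf 45) (.lf 79)) (.nd (.lf 290) (.lf 0))) (.nd (.nd (.lf 170) (.lf 0)) (.nd (.lf 218) (.lf 0))))) (.nd (.nd (.nd (.nd (.lf 261) (.lf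 90)) (.nd (.lf 189) (.lf 0))) (.nd (.nd (.lf 89) (.lf 0)) (.nd (.lf 187) (.lf 0)))) (.nd (.nd (.nd (.lf 179) (.lf 273)) (.nd (.lf 62) (.lf 0))) (.nd (.nd (.lf 232) (.lf 0)) (.nd (.lf 156) (.lf 0))))))

/-- table part -/
def srtT_10 : Tr :=
  .nd srtT_8 srtT_9

/-- table part -/
def srtT_11 : Tr :=
  .nd (.nd (.nd (.nd (.nd (.nd (.lf 144) (.lf 127)) (.nd (.lf 280) (.lf 0))) (.nd (.nd (.lf 14) (.lf 105)) (.nd (.lf 94) (.lf 0)))) (.nd (.nd (.nd (.lf 15) (.lf 237)) (.nd (.lf 233) (.lf 0))) (.nd (.nd (.lf 167) (.lf 0)) (.nd (.lf 2) (.lf 0))))) (.nd (.nd (.nd (.nd (.lf 243) (.lf 177)) (.nd (.lf 110) (.lf 0))) (.nd (.nd (.lf 196) (.lf 0)) (.nd (.lf 271) (.lf 0)))) (.nd (.nd (.nd (.lf 248) (.lf 47)) (.nd (.lf 96) (.lf 0))) (.nd (.nd (.lf 250) (.lf 0)) (.nd (.lf 150) (.lf 0)))))) (.nd (.nd (.nd (.nd (.nd (.lf 234) (.lf 199)) (.nd (.lf 240) (.lf 0))) (.nd (.nd (.lf 128) (.lf 0)) (.nd (.lf 297) (.lf 0)))) (.nd (.nd (.nd (.lf 57) (.lf 158)) (.nd (.lf 214) (.lf 0)))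 (.nd (.nd (.lf 30) (.lf 0)) (.nd (.lf 48) (.lf 0))))) (.nd (.nd (.nd (.nd (.lf 227) (.lf 296)) (.nd (.lf 258) (.lf 0))) (.nd (.nd (.lf 82) (.lf 0)) (.nd (.lf 141) (.lf 0)))) (.nd (.nd (.nd (.lf 106) (.lf 293)) (.nd (.lf 3) (.lf 0))) (.nd (.nd (.lf 66) (.lf 0)) (.nd (.lf 113) (.lf 0))))))

/-- table part -/
def srtT_12 : Tr :=
  .nd (.nd (.nd (.nd (.nd (.nd (.lf 147) (.lf 132)) (.nd (.lf 85) (.lf 0))) (.nd (.nd (.lf 135) (.lf 263)) (.nd (.lf 163) (.lf 0)))) (.nd (.nd (.nd (.lf 207) (.lf 175)) (.nd (.lf 28) (.lf 0))) (.nd (.nd (.lf 194) (.lf 0)) (.nd (.lf 148) (.lf 0))))) (.nd (.nd (.nd (.nd (.lf 198) (.lf 304)) (.nd (.lf 143) (.lf 0))) (.nd (.nd (.lf 84) (.lf 0)) (.nd (.lf 107) (.lf 0)))) (.nd (.nd (.nd (.lf 206) (.lf 26)) (.nd (.lf 87) (.lf 0))) (.nd (.nd (.lf 203) (.lf 0)) (.nd (.lf 63) (.lf 0)))))) (.nd (.nd (.nd (.nd (.nd (.lf 145) (.lf 58)) (.nd (.lf 327) (.lf 0))) (.nd (.nd (.lf 316) (.lf 0)) (.nd (.lf 161) (.lf 0)))) (.nd (.nd (.nd (.lf 152) (.lf 215))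 (.nd (.lf 268) (.lf 0))) (.nd (.nd (.lf 50) (.lf 0)) (.nd (.lf 32) (.lf 0))))) (.nd (.nd (.nd (.nd (.lf 245) (.lf 244)) (.nd (.lf 230) (.lf 0))) (.nd (.nd (.lf 137) (.lf 0)) (.nd (.lf 251) (.lf 0)))) (.nd (.nd (.nd (.lf 154) (.lf 286)) (.nd (.lf 35) (.lf 0))) (.nd (.nd (.lf 210) (.lf 0)) (.nd (.lf 78) (.lf 0))))))

/-- table part -/
def srtT_13 : Tr :=
  .nd srtT_11 srtT_12

/-- table part -/
def srtT_14 : Tr :=
  .nd srtT_10 srtT_13

/-- table part -/
def srtT_15 : Tr :=
  .nd srtT_7 srtT_14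

/-- table -/
def srtT : Tr :=
  srtT_15

end Cfsg.Agent.SplitVoltageM22LData
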