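import Cfsg.Agent.Lib.SplitVoltageRetract
import Cfsg.Agent.Lib.GolayOutM22
import Cfsg.Agent.Lib.SplitVoltageM22Data
import Cfsg.Agent.Lib.SplitVoltageM22A
import Cfsg.Agent.Lib.SplitVoltageM22L

/-!
Two subgroups of the Mathieu group of degree 22 as set stabilisers: orders, generators, perfection.
-/

set_option autoImplicit false
set_option maxRecDepth 100000

namespace Cfsg.Agent.SplitVoltageM22Sub

open Cfsg Cfsg.Agent.GolayBasic Cfsg.Agent.GolayPerm Cfsg.Agent.GolayChain Cfsg.Agent.GolaySolve
open Cfsg.Agent.GolayOutTool Cfsg.Agent.GolayOutConst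
open Cfsg.Agent.SplitVoltage Cfsg.Agent.SplitVoltageCert Cfsg.Agent.SplitVoltageGolay
open Cfsg.Agent.SplitVoltageM22Data
open scoped Pointwise

theorem gens22_check : (gensP.all fun T => memCheck [23, 0] 16777215 T) = true := by decide +kernel

theorem gens22_mem : ∀ i < 2, permOf (gensP.getD i 0) ∈ Spor.M22 := fun i hi =>
  mem_M22_of_check (List.all_eq_true.1 gens22_check _ (by
    rw [List.getD_eq_getElem (hn := by simpa [gensP] using hi)]; exact List.getElem_mem _))

theorem gens22_valid : ∀ i < 2, valid (gensP.getD i 0) = true := fun i hi =>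
  (memCheck_spec (List.all_eq_true.1 gens22_check _ (by
    rw [List.getD_eq_getElem (hn := by simpa [gensP] using hi)]; exact List.getElem_mem _))).1

theorem gens22_top : ∀ K : Subgroup Spor.M22,
    (∀ i (hi : i < 2), (⟨_, gens22_mem i hi⟩ : Spor.M22) ∈ K) → K = ⊤ := by
  intro K hK
  rw [eq_top_iff, ← GolayOutM22.closure_gens, Subgroup.closure_le]
  have e0 : (⟨_, gens22_mem 0 (by norm_num)⟩ : Spor.M22) = GolayOutM22.gT :=
    Subtype.ext (congrArg permOf (show gensP.getD 0 0 = pT by decide +kernel))
  have h0 : GolayOutM22.gT ∈ K := e0 ▸ hK 0 (by norm_num)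
  have e1 : (⟨_, gens22_mem 1 (by norm_num)⟩ : Spor.M22) = GolayOutM22.gV * GolayOutM22.gT := by
    apply Subtype.ext
    have := prod_eq_of_sameWord (l := [gensP.getD 1 0]) (l' := [pV22, pT])
      (List.all_eq_true.1 (by decide +kernel : [gensP.getD 1 0].all valid = true))
      (List.all_eq_true.1 (by decide +kernel : [pV22, pT].all valid = true))
      (by decide +kernel)
    simp only [List.map_cons, List.map_nil, List.prod_cons, List.prod_nil, mul_one] at this
    exact this
  rintro g (rfl | rfl)
  · exact h0
  · have h1 := hK 1 (by norm_num)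
    rw [e1] at h1
    simpa using K.mul_mem h1 (K.inv_mem h0)

/-- the orbit of a set -/
noncomputable def setObj (key : Tr) (c : ℕ) : Finset GolayPt := mset (get key c)

/-- the action check -/
noncomputable def setAct (key : Tr) (N : ℕ) (nx : ℕ → ℕ → ℕ) : Bool :=
  (List.range N).all fun c => decide (get key c < 16777216) && (List.range 2).all fun i =>
    pmask (gensP.getD i 0) (get key c) == get key (nx i c)

theorem setObj_act {key : Tr} {N : ℕ} {nx : ℕ → ℕ → ℕ} (h : setAct key N nx = true) :
    ∀ i (hi : i < 2), ∀ c < N,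
      (⟨_, gens22_mem i hi⟩ : Spor.M22) • setObj key c = setObj key (nx i c) := by
  intro i hi c hc
  simp only [setAct, List.all_eq_true, List.mem_range, Bool.and_eq_true, beq_iff_eq] at h
  show permOf (gensP.getD i 0) • mset (get key c) = mset _
  rw [smul_mset (gens22_valid i hi), (h c hc).2 i hi]

theorem setObj_inj {key pos srt : Tr} {N : ℕ} {nx : ℕ → ℕ → ℕ} (h : setAct key N nx = true)
    (hi : injOK N key pos srt = true) :
    ∀ c < N, ∀ d < N, setObj key c = setObj key d → c = d := by
  simp only [setAct, List.all_eq_true, List.mem_range, Bool.and_eq_true, decide_eq_true_eq] at h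
  exact fun c hc d hd e => inj_of_injOK hi hc hd (mset_inj (h c hc).1 (h d hd).1 e)

/-- the stabiliser of a set in the group of degree 22 -/
def setStab (o : ℕ) : Subgroup (Equiv.Perm GolayPt) :=
  Spor.M22 ⊓ MulAction.stabilizer (Equiv.Perm GolayPt) (mset o)

/-- the two descriptions of the stabiliser -/
noncomputable def setStabEquiv (o : ℕ) :
    MulAction.stabilizer Spor.M22 (mset o) ≃* setStab o where
  toFun g := ⟨(g.1 : Equiv.Perm GolayPt), g.1.2, g.2⟩
  invFun g := ⟨⟨(g : Equiv.Perm GolayPt), g.2.1⟩, g.2.2⟩
  left_inv _ := rfl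
  right_inv _ := rfl
  map_mul' _ _ := rfl

/-- membership test for a set stabiliser -/
def subCheck (o T : ℕ) : Bool := memCheck [23, 0] 16777215 T && (pmask T o == o)

theorem mem_setStab {o T : ℕ} (h : subCheck o T = true) : permOf T ∈ setStab o := by
  simp only [subCheck, Bool.and_eq_true, beq_iff_eq] at h
  refine ⟨mem_M22_of_check h.1, ?_⟩
  show permOf T • mset o = mset o
  rw [smul_mset (memCheck_spec h.1).1, h.2]

theorem valid_of_subCheck {o T : ℕ} (h : subCheck o T = true) : valid T = true := by
  simp only [subCheck, Bool.and_eq_true] at h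
  exact (memCheck_spec h.1).1

theorem card_setStab (C : Cert) (h : C.Core) (hn : C.n = 2) {key pos srt : Tr}
    (hact : setAct key C.N C.nxF = true) (hi : injOK C.N key pos srt = true) :
    443520 = C.N * Nat.card (setStab (get key 0)) := by
  rw [← GolayM24.card_M22, ← Nat.card_congr (setStabEquiv (get key 0)).toEquiv]
  refine SplitVoltageRetract.card_eq_mul_card_stabilizer C.n C.N
    (fun i => if hi : i < 2 then (⟨_, gens22_mem i hi⟩ : Spor.M22) else 1) ?_ (setObj key) C.nxF
    C.parF h.hN (setObj_inj hact hi) ?_ (fun c hc h0 => Cert.parF_spec h hc h0)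
  · refine gens22_top _ fun i hi => Subgroup.subset_closure ⟨i, hn.symm ▸ hi, ?_⟩
    exact dif_pos hi
  · intro i hi c hc
    refine ⟨(Cert.nxF_lt h hi hc).1, ?_⟩
    simp only [dif_pos (show i < 2 from hn ▸ hi)]
    exact setObj_act hact i (hn ▸ hi) c hc

theorem sub_top {o : ℕ} {P : List ℕ} {lv : List Level} {steps : List (ℕ × ℕ × ℕ)}
    (hP : P.all (subCheck o) = true) (hlv : (elts lv).all (subCheck o) = true)
    (hc : chainCheck [] lv = true) (hcard : Nat.card (setStab o) = size lv)
    (hslp : slpCheck P steps = true)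
    (hsub : (elts lv).all (fun T => valid T && (P ++ steps.map fun s => s.2.2).elem T) = true)
    (hlen : P.length = 2) (hmem : ∀ i < 2, permOf (P.getD i 0) ∈ setStab o) :
    ∀ K : Subgroup (setStab o),
      (∀ i (hi : i < 2), (⟨_, hmem i hi⟩ : setStab o) ∈ K) → K = ⊤ := by
  intro K hK
  rw [eq_top_iff, ← closure_eq_top hc (fun T hT => mem_setStab (List.all_eq_true.1 hlv T hT)) hcard P
    steps (K : Set (setStab o)) (fun T hT => valid_of_subCheck (List.all_eq_true.1 hP T hT))
    (fun T hT => ?_) hslp hsub, Subgroup.closure_le]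
  obtain ⟨i, hi, rfl⟩ := List.getElem_of_mem hT
  exact ⟨_, hK i (hlen ▸ hi), by rw [← List.getD_eq_getElem (hn := hi) (d := 0)]⟩

theorem abel_step {o : ℕ} {P Q K : ℕ} {ord : ℕ} (hP : subCheck o P = true) (hQ : subCheck o Q = true)
    (hK : 2 ≤ K) (hord : ord.Prime) (hlt : K < ord + 1) (hP1 : isId (List.replicate ord P) = true)
    (hw : sameWord [Q, P] (List.replicate K P ++ [Q]) = true) :
    Abelianization.of (⟨permOf P, mem_setStab hP⟩ : setStab o) = 1 := by
  have hvP := valid_of_subCheck hP
  have hvQ := valid_of_subCheck hQ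
  have h1 : (⟨permOf P, mem_setStab hP⟩ : setStab o) ^ ord = 1 := by
    apply Subtype.ext
    have := (prod_eq_one_iff (l := List.replicate ord P)
      (fun T hT => by rw [List.eq_of_mem_replicate hT]; exact hvP)).2 hP1
    rw [List.map_replicate, List.prod_replicate] at this
    rw [Subgroup.coe_pow]
    exact this
  have h2 : (⟨permOf Q, mem_setStab hQ⟩ : setStab o) * ⟨permOf P, mem_setStab hP⟩ =
      (⟨permOf P, mem_setStab hP⟩ : setStab o) ^ K * ⟨permOf Q, mem_setStab hQ⟩ := by
    apply Subtype.ext
    have := prod_eq_of_sameWord (l := [Q, P]) (l' := List.replicate K P ++ [Q])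
      (List.forall_mem_cons.2 ⟨hvQ, by simpa using hvP⟩)
      (fun T hT => by
        rcases List.mem_append.1 hT with hT | hT
        · rw [List.eq_of_mem_replicate hT]; exact hvP
        · rw [List.mem_singleton.1 hT]; exact hvQ) hw
    rw [Subgroup.coe_mul, Subgroup.coe_mul, Subgroup.coe_pow]
    simpa using this
  set a := Abelianization.of (⟨permOf P, mem_setStab hP⟩ : setStab o)
  have h3 : a ^ K = a := by
    have := congrArg (Abelianization.of (G := setStab o)) h2
    rw [map_mul, map_mul, map_pow, mul_comm, mul_left_inj] at this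
    exact this.symm
  have h4 : a ^ (K - 1) = 1 := by
    have : a ^ (K - 1) * a = 1 * a := by
      rw [← pow_succ, Nat.sub_add_cancel (by omega), one_mul, h3]
    exact mul_right_cancel this
  have h5 : a ^ ord = 1 := by rw [← map_pow, h1, map_one]
  have h6 : a ^ (Nat.gcd (K - 1) ord) = 1 := pow_gcd_eq_one.2 ⟨h4, h5⟩
  have hco : Nat.Coprime (K - 1) ord := by
    rw [Nat.coprime_comm, hord.coprime_iff_not_dvd]
    intro hd
    have := Nat.le_of_dvd (by omega) hd
    omega
  rwa [hco, pow_one] at h6

theorem perfect_of {G : Type*} [Group G] (n : ℕ) (x : ℕ → G)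
    (hgen : ∀ K : Subgroup G, (∀ i < n, x i ∈ K) → K = ⊤)
    (h : ∀ i < n, Abelianization.of (x i) = 1) : commutator G = ⊤ := by
  rw [← Abelianization.ker_of]
  exact hgen _ fun i hi => h i hi

/-! ### the two subgroups -/

theorem actA : setAct SplitVoltageM22AData.keyT 176 SplitVoltageM22AData.cert.nxF = true := by
  decide +kernel

theorem injA : injOK 176 SplitVoltageM22AData.keyT SplitVoltageM22AData.posT
    SplitVoltageM22AData.srtT = true := by decide +kernel

theorem actL : setAct SplitVoltageM22LData.keyT 330 SplitVoltageM22LData.cert.nxF = true := by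
  decide +kernel

theorem injL : injOK 330 SplitVoltageM22LData.keyT SplitVoltageM22LData.posT
    SplitVoltageM22LData.srtT = true := by decide +kernel

theorem cardA : Nat.card (setStab maskA) = 2520 := by
  have h := card_setStab SplitVoltageM22AData.cert SplitVoltageM22A.cert_core rfl actA injA
  rw [show get SplitVoltageM22AData.keyT 0 = maskA by decide +kernel,
    show SplitVoltageM22AData.cert.N = 176 from rfl] at h
  omega

theorem cardL : Nat.card (setStab maskL) = 1344 := by
  have h := card_setStab SplitVoltageM22LData.cert SplitVoltageM22L.cert_core rfl actL injL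
  rw [show get SplitVoltageM22LData.keyT 0 = maskL by decide +kernel,
    show SplitVoltageM22LData.cert.N = 330 from rfl] at h
  omega

theorem checkA : subAP.all (subCheck maskA) = true := by decide +kernel

theorem memA : ∀ i < 2, permOf (subAP.getD i 0) ∈ setStab maskA := fun i hi =>
  mem_setStab (List.all_eq_true.1 checkA _ (by
    rw [List.getD_eq_getElem (hn := by simpa [subAP] using hi)]; exact List.getElem_mem _))

theorem topA : ∀ K : Subgroup (setStab maskA),
    (∀ i (hi : i < 2), (⟨_, memA i hi⟩ : setStab maskA) ∈ K) → K = ⊤ :=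
  sub_top checkA (lv := lvA) (steps := stepsA) (by decide +kernel) (by decide +kernel)
    (cardA.trans (by decide +kernel)) (by decide +kernel) (by decide +kernel) rfl memA

theorem checkL : subLP.all (subCheck maskL) = true := by decide +kernel

theorem memL : ∀ i < 2, permOf (subLP.getD i 0) ∈ setStab maskL := fun i hi =>
  mem_setStab (List.all_eq_true.1 checkL _ (by
    rw [List.getD_eq_getElem (hn := by simpa [subLP] using hi)]; exact List.getElem_mem _))

theorem topL : ∀ K : Subgroup (setStab maskL),
    (∀ i (hi : i < 2), (⟨_, memL i hi⟩ : setStab maskL) ∈ K) → K = ⊤ :=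
  sub_top checkL (lv := lvL) (steps := stepsL) (by decide +kernel) (by decide +kernel)
    (cardL.trans (by decide +kernel)) (by decide +kernel) (by decide +kernel) rfl memL

theorem perfectA : commutator (setStab maskA) = ⊤ := by
  refine perfect_of 2 (fun i => if hi : i < 2 then ⟨_, memA i hi⟩ else 1)
    (fun K hK => topA K fun i hi => by have := hK i hi; rwa [dif_pos hi] at this) fun i hi => ?_
  interval_cases i
  · exact abel_step (ord := 7) (Q := (abelA.getD 0 (0, 0)).1) (K := (abelA.getD 0 (0, 0)).2)
      (List.all_eq_true.1 checkA _ (by simp [subAP])) (by decide +kernel) (by decide +kernel)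
      (by norm_num) (by decide +kernel) (by decide +kernel) (by decide +kernel)
  · exact abel_step (ord := 5) (Q := (abelA.getD 1 (0, 0)).1) (K := (abelA.getD 1 (0, 0)).2)
      (List.all_eq_true.1 checkA _ (by simp [subAP])) (by decide +kernel) (by decide +kernel)
      (by norm_num) (by decide +kernel) (by decide +kernel) (by decide +kernel)

theorem perfectL : commutator (setStab maskL) = ⊤ := by
  refine perfect_of 2 (fun i => if hi : i < 2 then ⟨_, memL i hi⟩ else 1)
    (fun K hK => topL K fun i hi => by have := hK i hi; rwa [dif_pos hi] at this) fun i hi => ?_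
  interval_cases i
  · exact abel_step (ord := 7) (Q := (abelL.getD 0 (0, 0)).1) (K := (abelL.getD 0 (0, 0)).2)
      (List.all_eq_true.1 checkL _ (by simp [subLP])) (by decide +kernel) (by decide +kernel)
      (by norm_num) (by decide +kernel) (by decide +kernel) (by decide +kernel)
  · exact abel_step (ord := 7) (Q := (abelL.getD 1 (0, 0)).1) (K := (abelL.getD 1 (0, 0)).2)
      (List.all_eq_true.1 checkL _ (by simp [subLP])) (by decide +kernel) (by decide +kernel)
      (by norm_num) (by decide +kernel) (by decide +kernel) (by decide +kernel)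

end Cfsg.Agent.SplitVoltageM22Sub
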