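import Cfsg.Agent.Lib.SplitVoltageCert

/-!
Certificate data: voltages for M24 modulo 2.
-/

set_option autoImplicit false
set_option maxRecDepth 100000

namespace Cfsg.Agent.SplitVoltageM24P2Data

open Cfsg.Agent.SplitVoltageCert

/-- table part -/
def nxT_1 : Tr :=
  .nd (.nd (.nd (.nd (.nd (.nd (.lf 0) (.lf 23)) (.nd (.lf 6) (.lf 0))) (.nd (.nd (.lf 11) (.lf 0)) (.nd (.lf 23) (.lf 0)))) (.nd (.nd (.nd (.lf 4) (.lf 0)) (.nd (.lf 17) (.lf 0))) (.nd (.nd (.lf 12) (.lf 0)) (.nd (.lf 18) (.lf 0))))) (.nd (.nd (.nd (.nd (.lf 1) (.lf 9)) (.nd (.lf 20) (.lf 0))) (.nd (.nd (.lf 14) (.lf 0)) (.nd (.lf 21) (.lf 0)))) (.nd (.nd (.nd (.lf 8) (.lf 0)) (.nd (.lf 13) (.lf 0))) (.nd (.nd (.lf 18) (.lf 0)) (.nd (.lf 1) (.lf 0)))))) (.nd (.nd (.nd (.nd (.nd (.lf 1) (.lf 19)) (.nd (.lf 19) (.lf 0))) (.nd (.nd (.lf 10) (.lf 0)) (.nd (.lf 19) (.lf 0)))) (.nd (.nd (.nd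 (.lf 6) (.lf 0)) (.nd (.lf 9) (.lf 0))) (.nd (.nd (.lf 8) (.lf 0)) (.nd (.lf 2) (.lf 0))))) (.nd (.nd (.nd (.nd (.lf 3) (.lf 7)) (.nd (.lf 20) (.lf 0))) (.nd (.nd (.lf 5) (.lf 0)) (.nd (.lf 13) (.lf 0)))) (.nd (.nd (.nd (.lf 10) (.lf 0)) (.nd (.lf 8) (.lf 0))) (.nd (.nd (.lf 11) (.lf 0)) (.nd (.lf 22) (.lf 0))))))

/-- table part -/
def nxT_2 : Tr :=
  .nd (.nd (.nd (.nd (.nd (.nd (.lf 0) (.lf 11)) (.nd (.lf 18) (.lf 0))) (.nd (.nd (.lf 12) (.lf 0)) (.nd (.lf 22) (.lf 0)))) (.nd (.nd (.nd (.lf 5) (.lf 0)) (.nd (.lf 16) (.lf 0))) (.nd (.nd (.lf 16) (.lf 0)) (.nd (.lf 7) (.lf 0))))) (.nd (.nd (.nd (.nd (.lf 2) (.lf 4)) (.nd (.lf 4) (.lf 0))) (.nd (.nd (.lf 14) (.lf 0)) (.nd (.lf 3) (.lf 0)))) (.nd (.nd (.nd (.lf 9) (.lf 0)) (.nd (.lf 22) (.lf 0))) (.nd (.nd (.lf 17) (.lf 0)) (.nd (.lf 12) (.lf 0)))))) (.nd (.nd (.nd (.nd (.nd (.lf 2) (.lf 20)) (.nd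 (.lf 5) (.lf 0))) (.nd (.nd (.lf 13) (.lf 0)) (.nd (.lf 16) (.lf 0)))) (.nd (.nd (.nd (.lf 7) (.lf 0)) (.nd (.lf 10) (.lf 0))) (.nd (.nd (.lf 17) (.lf 0)) (.nd (.lf 23) (.lf 0))))) (.nd (.nd (.nd (.nd (.lf 3) (.lf 0)) (.nd (.lf 21) (.lf 0))) (.nd (.nd (.lf 15) (.lf 0)) (.nd (.lf 14) (.lf 0)))) (.nd (.nd (.nd (.lf 6) (.lf 0)) (.nd (.lf 21) (.lf 0))) (.nd (.nd (.lf 15) (.lf 0)) (.nd (.lf 15) (.lf 0))))))

/-- table part -/
def nxT_3 : Tr :=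
  .nd nxT_1 nxT_2

/-- table -/
def nxT : Tr :=
  nxT_3

/-- table part -/
def pvT_1 : Tr :=
  .nd (.nd (.nd (.nd (.nd (.nd (.lf 0) (.lf 17)) (.nd (.lf 4) (.lf 0))) (.nd (.nd (.lf 7) (.lf 0)) (.nd (.lf 17) (.lf 0)))) (.nd (.nd (.nd (.lf 1) (.lf 0)) (.nd (.lf 6) (.lf 0))) (.nd (.nd (.lf 4) (.lf 0)) (.nd (.lf 18) (.lf 0))))) (.nd (.nd (.nd (.nd (.lf 1) (.lf 20)) (.nd (.lf 8) (.lf 0))) (.nd (.nd (.lf 10) (.lf 0)) (.nd (.lf 13) (.lf 0)))) (.nd (.nd (.nd (.lf 23) (.lf 0)) (.nd (.lf 6) (.lf 0))) (.nd (.nd (.lf 4) (.lf 0)) (.nd (.lf 12) (.lf 0)))))) (.nd (.nd (.nd (.nd (.nd (.lf 23) (.lf 15)) (.nd (.lf 5) (.lf 0))) (.nd (.nd (.lf 5) (.lf 0)) (.nd (.lf 13) (.lf 0)))) (.nd (.nd (.nd (.lf 2) (.lf 0)) (.nd (.lf 7) (.lf 0))) (.nd (.nd (.lf 8) (.lf 0)) (.nd (.lf 11) (.lf 0))))) (.nd (.nd (.nd (.nd (.lf 1) (.lf 21)) (.nd (.lf 5) (.lf 0))) (.nd (.nd (.lf 23) (.lf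 0)) (.nd (.lf 11) (.lf 0)))) (.nd (.nd (.nd (.lf 2) (.lf 0)) (.nd (.lf 10) (.lf 0))) (.nd (.nd (.lf 6) (.lf 0)) (.nd (.lf 12) (.lf 0))))))

/-- table part -/
def pvT_2 : Tr :=
  .nd (.nd (.nd (.nd (.nd (.nd (.lf 0) (.lf 15)) (.nd (.lf 10) (.lf 0))) (.nd (.nd (.lf 11) (.lf 0)) (.nd (.lf 8) (.lf 0)))) (.nd (.nd (.nd (.lf 2) (.lf 0)) (.nd (.lf 14) (.lf 0))) (.nd (.nd (.lf 15) (.lf 0)) (.nd (.lf 22) (.lf 0))))) (.nd (.nd (.nd (.nd (.lf 0) (.lf 16)) (.nd (.lf 20) (.lf 0))) (.nd (.nd (.lf 19) (.lf 0)) (.nd (.lf 9) (.lf 0)))) (.nd (.nd (.nd (.lf 12) (.lf 0)) (.nd (.lf 21) (.lf 0))) (.nd (.nd (.lf 22) (.lf 0)) (.nd (.lf 22) (.lf 0)))))) (.nd (.nd (.nd (.nd (.nd (.lf 20) (.lf 16)) (.nd (.lf 21) (.lf 0))) (.nd (.nd (.lf 3) (.lf 0)) (.nd (.lf 9) (.lf 0)))) (.nd (.nd (.nd (.lf 17) (.lf 0)) (.nd (.lf 18) (.lf 0))) (.nd (.nd (.lf 14) (.lf 0)) (.nd (.lf 16) (.lf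 0))))) (.nd (.nd (.nd (.nd (.lf 19) (.lf 19)) (.nd (.lf 18) (.lf 0))) (.nd (.nd (.lf 3) (.lf 0)) (.nd (.lf 9) (.lf 0)))) (.nd (.nd (.nd (.lf 3) (.lf 0)) (.nd (.lf 7) (.lf 0))) (.nd (.nd (.lf 14) (.lf 0)) (.nd (.lf 13) (.lf 0))))))

/-- table part -/
def pvT_3 : Tr :=
  .nd pvT_1 pvT_2

/-- table -/
def pvT : Tr :=
  pvT_3

/-- table part -/
def parT_1 : Tr :=
  .nd (.nd (.nd (.nd (.nd (.lf 0) (.lf 25)) (.nd (.lf 12) (.lf 0))) (.nd (.nd (.lf 8) (.lf 36)) (.nd (.lf 17) (.lf 0)))) (.nd (.nd (.nd (.lf 3) (.lf 28)) (.nd (.lf 14) (.lf 0))) (.nd (.nd (.lf 10) (.lf 45)) (.nd (.lf 20) (.lf 0))))) (.nd (.nd (.nd (.nd (.lf 2) (.lf 27)) (.nd (.lf 13) (.lf 0))) (.nd (.nd (.lf 9) (.lf 39)) (.nd (.lf 19) (.lf 0)))) (.nd (.nd (.nd (.lf 6) (.lf 34)) (.nd (.lf 16) (.lf 0))) (.nd (.nd (.lf 11) (.lf 48)) (.nd (.lf 23) (.lf 0)))))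

/-- table -/
def parT : Tr :=
  parT_1

/-- table part -/
def fmT_1 : Tr :=
  .nd (.nd (.nd (.nd (.nd (.nd (.lf 105312291668557186697918027683670432318895095400549111254310977536) (.lf 1329228075013083109534627523469508608)) (.nd (.lf 6277101735386703064580987953910036119057259194763706368001) (.lf 0))) (.nd (.nd (.lf 0) (.lf 0)) (.nd (.lf 0) (.lf 0)))) (.nd (.nd (.nd (.lf 0) (.lf 0)) (.nd (.lf 6277102109531099920546936483430211758707439296845954678784) (.lf 0))) (.nd (.nd (.lf 6277101735386703064580987953910036114334892430419101220865) (.lf 0)) (.nd (.lf 79228167236630820463205941249) (.lf 0))))) (.nd (.nd (.nd (.nd (.lf 4722366482869645213697) (.lf 374144419156711147060222545342605083852381920165889)) (.nd (.lf 0) (.lf 0))) (.nd (.nd (.lf 0) (.lf 0)) (.nd (.lf 79228162514264337593543950337) (.lf 0)))) (.nd (.nd (.nd (.lf 0) (.lf 0)) (.nd (.lf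 22300746527758618926456313542938291448315904) (.lf 0))) (.nd (.nd (.lf 0) (.lf 0)) (.nd (.lf 6277101735386703064580987953830807951820628092825557270529) (.lf 0)))))) (.nd (.nd (.nd (.nd (.nd (.lf 0) (.lf 22300745198530623141535718272648361505980417)) (.nd (.lf 0) (.lf 0))) (.nd (.nd (.lf 1329227995784915872903807060280344577) (.lf 0)) (.nd (.lf 6277101735386680763837118651282679499211890071987504021504) (.lf 0)))) (.nd (.nd (.nd (.lf 0) (.lf 0)) (.nd (.lf 374144441457456345590845686878323356500743442923521) (.lf 0))) (.nd (.nd (.lf 79228167236630820463205941249) (.lf 0)) (.nd (.lf 6277102109531099920546936483350983591470808476382765514753) (.lf 0))))) (.nd (.nd (.nd (.nd (.lf 0) (.lf 374144419156711147060222545337882717369512274952193)) (.nd (.lf 79228167236630820463205941249) (.lf 0))) (.nd (.nd (.lf 6277101735386680763835789423207666416102355444464034512896)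 (.lf 0)) (.nd (.lf 79228162514264337593543950336) (.lf 0)))) (.nd (.nd (.nd (.lf 0) (.lf 0)) (.nd (.lf 6277102109531122221293464242049138210298615752267741003777) (.lf 0))) (.nd (.nd (.lf 1329227995784915872903807060280344576) (.lf 0)) (.nd (.lf 6277102109531122221293464241969910047784351414674213830657) (.lf 0))))))

/-- table part -/
def fmT_2 : Tr :=
  .nd (.nd (.nd (.nd (.nd (.nd (.lf 374144419156712476288139102091241356838979011346433) (.lf 6277101735386680763835789423207666420824721927333696503808)) (.nd (.lf 79228167236630820463189164032) (.lf 0))) (.nd (.nd (.lf 0) (.lf 0)) (.nd (.lf 22300745198530702369698232536985955049930753) (.lf 0)))) (.nd (.nd (.nd (.lf 0) (.lf 0)) (.nd (.lf 374144441457457674818841471794196260307803723268096) (.lf 0))) (.nd (.nd (.lf 0) (.lf 0)) (.nd (.lf 374144419156711147060143317175368453031918731001856) (.lf 0)))))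 (.nd (.nd (.nd (.nd (.lf 6277101735386680763837118651203451331975259251524314857472) (.lf 6277102109531099920546936483350983591470808476382765514752)) (.nd (.lf 374144441457456345590845686873600990017873797709824) (.lf 0))) (.nd (.nd (.lf 6277102109531122221292135013974125131911447607613933486081) (.lf 0)) (.nd (.lf 6277101735386680763837118651282679494489523589117875585024) (.lf 0)))) (.nd (.nd (.nd (.lf 0) (.lf 0)) (.nd (.lf 0) (.lf 0))) (.nd (.nd (.lf 374144441457456345590845686873600990299348774420481) (.lf 0)) (.nd (.lf 6277102109531099920546936483350983591470808476382765514752) (.lf 0)))))) (.nd (.nd (.nd (.nd (.nd (.lf 0) (.lf 374144419156712476288139102095963723321848673337345)) (.nd (.lf 374144419156712476288139102095963723321848673337344) (.lf 0))) (.nd (.nd (.lf 0) (.lf 0)) (.nd (.lf 1) (.lf 0)))) (.nd (.nd (.nd (.lf 0) (.lf 0)) (.nd (.lf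 374144441457457674818762243626959629487340534104064) (.lf 0))) (.nd (.nd (.lf 0) (.lf 0)) (.nd (.lf 374144419156712476288218330253755621176572555296769) (.lf 0))))) (.nd (.nd (.nd (.nd (.lf 4722366482869645213696) (.lf 6277101735386703064582317181826592867693532181360797548544)) (.nd (.lf 0) (.lf 0))) (.nd (.nd (.lf 0) (.lf 0)) (.nd (.lf 6277101735386703064580987953910036114334892430419101220864) (.lf 0)))) (.nd (.nd (.nd (.lf 4722366482869645213697) (.lf 0)) (.nd (.lf 6277101735386703064582317181826592872415898382755482828800) (.lf 0))) (.nd (.nd (.lf 22300746527758618926451591176455421786324992) (.lf 0)) (.nd (.lf 22300745198530623141535718272648361505980416) (.lf 0))))))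

/-- table part -/
def fmT_3 : Tr :=
  .nd fmT_1 fmT_2

/-- table -/
def fmT : Tr :=
  fmT_3

/-- table part -/
def rkT_1 : Tr :=
  .nd (.nd (.nd (.nd (.nd (.nd (.lf 49) (.lf 26)) (.nd (.lf 43) (.lf 0))) (.nd (.nd (.lf 0) (.lf 0)) (.nd (.lf 0) (.lf 0)))) (.nd (.nd (.nd (.lf 0) (.lf 0)) (.nd (.lf 25) (.lf 0))) (.nd (.nd (.lf 32) (.lf 0)) (.nd (.lf 8) (.lf 0))))) (.nd (.nd (.nd (.nd (.lf 3) (.lf 27)) (.nd (.lf 0) (.lf 0))) (.nd (.nd (.lf 0) (.lf 0)) (.nd (.lf 7) (.lf 0)))) (.nd (.nd (.nd (.lf 0) (.lf 0)) (.nd (.lf 31) (.lf 0))) (.nd (.nd (.lf 0) (.lf 0)) (.nd (.lf 34) (.lf 0)))))) (.nd (.nd (.nd (.nd (.nd (.lf 0) (.lf 14)) (.nd (.lf 0) (.lf 0))) (.nd (.nd (.lf 10) (.lf 0)) (.nd (.lf 38) (.lf 0)))) (.nd (.nd (.nd (.lf 0) (.lf 0)) (.nd (.lf 18) (.lf 0))) (.nd (.nd (.lf 42) (.lf 0)) (.nd (.lf 20) (.lf 0))))) (.nd (.nd (.nd (.nd (.lf 0) (.lf 16)) (.nd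 (.lf 39) (.lf 0))) (.nd (.nd (.lf 19) (.lf 0)) (.nd (.lf 5) (.lf 0)))) (.nd (.nd (.nd (.lf 0) (.lf 0)) (.nd (.lf 28) (.lf 0))) (.nd (.nd (.lf 9) (.lf 0)) (.nd (.lf 40) (.lf 0))))))

/-- table part -/
def rkT_2 : Tr :=
  .nd (.nd (.nd (.nd (.nd (.nd (.lf 48) (.lf 22)) (.nd (.lf 6) (.lf 0))) (.nd (.nd (.lf 0) (.lf 0)) (.nd (.lf 13) (.lf 0)))) (.nd (.nd (.nd (.lf 0) (.lf 0)) (.nd (.lf 37) (.lf 0))) (.nd (.nd (.lf 0) (.lf 0)) (.nd (.lf 15) (.lf 0))))) (.nd (.nd (.nd (.nd (.lf 41) (.lf 23)) (.nd (.lf 30) (.lf 0))) (.nd (.nd (.lf 21) (.lf 0)) (.nd (.lf 33) (.lf 0)))) (.nd (.nd (.nd (.lf 0) (.lf 0)) (.nd (.lf 0) (.lf 0))) (.nd (.nd (.lf 45) (.lf 0)) (.nd (.lf 35) (.lf 0)))))) (.nd (.nd (.nd (.nd (.nd (.lf 0) (.lf 36)) (.nd (.lf 44) (.lf 0))) (.nd (.nd (.lf 0) (.lf 0)) (.nd (.lf 1) (.lf 0)))) (.nd (.nd (.nd (.lf 0) (.lf 0)) (.nd (.lf 17) (.lf 0))) (.nd (.nd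 (.lf 0) (.lf 0)) (.nd (.lf 46) (.lf 0))))) (.nd (.nd (.nd (.nd (.lf 2) (.lf 47)) (.nd (.lf 0) (.lf 0))) (.nd (.nd (.lf 0) (.lf 0)) (.nd (.lf 24) (.lf 0)))) (.nd (.nd (.nd (.lf 4) (.lf 0)) (.nd (.lf 29) (.lf 0))) (.nd (.nd (.lf 12) (.lf 0)) (.nd (.lf 11) (.lf 0))))))

/-- table part -/
def rkT_3 : Tr :=
  .nd rkT_1 rkT_2

/-- table -/
def rkT : Tr :=
  rkT_3

/-- table part -/
def jsT_1 : Tr :=
  .nd (.nd (.nd (.nd (.nd (.nd (.lf 13) (.lf 1954)) (.nd (.lf 660) (.lf 0))) (.nd (.nd (.lf 0) (.lf 0)) (.nd (.lf 0) (.lf 0)))) (.nd (.nd (.nd (.lf 0) (.lf 0)) (.nd (.lf 212) (.lf 0))) (.nd (.nd (.lf 344) (.lf 0)) (.nd (.lf 2566) (.lf 0))))) (.nd (.nd (.nd (.nd (.lf 620) (.lf 1078)) (.nd (.lf 0) (.lf 0))) (.nd (.nd (.lf 0) (.lf 0)) (.nd (.lf 260) (.lf 0)))) (.nd (.nd (.nd (.lf 0) (.lf 0)) (.nd (.lf 1138) (.lf 0))) (.nd (.nd (.lf 0) (.lf 0)) (.nd (.lf 6350)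 (.lf 0)))))) (.nd (.nd (.nd (.nd (.nd (.lf 0) (.lf 1388)) (.nd (.lf 0) (.lf 0))) (.nd (.nd (.lf 1004) (.lf 0)) (.nd (.lf 946) (.lf 0)))) (.nd (.nd (.nd (.lf 0) (.lf 0)) (.nd (.lf 512) (.lf 0))) (.nd (.nd (.lf 2554) (.lf 0)) (.nd (.lf 644) (.lf 0))))) (.nd (.nd (.nd (.nd (.lf 0) (.lf 92)) (.nd (.lf 1018) (.lf 0))) (.nd (.nd (.lf 11) (.lf 0)) (.nd (.lf 3) (.lf 0)))) (.nd (.nd (.nd (.lf 0) (.lf 0)) (.nd (.lf 104) (.lf 0))) (.nd (.nd (.lf 5) (.lf 0)) (.nd (.lf 886) (.lf 0))))))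

/-- table part -/
def jsT_2 : Tr :=
  .nd (.nd (.nd (.nd (.nd (.nd (.lf 3756) (.lf 2470)) (.nd (.lf 1028) (.lf 0))) (.nd (.nd (.lf 0) (.lf 0)) (.nd (.lf 272) (.lf 0)))) (.nd (.nd (.nd (.lf 0) (.lf 0)) (.nd (.lf 2362) (.lf 0))) (.nd (.nd (.lf 0) (.lf 0)) (.nd (.lf 9) (.lf 0))))) (.nd (.nd (.nd (.nd (.lf 2374) (.lf 404)) (.nd (.lf 778) (.lf 0))) (.nd (.nd (.lf 416) (.lf 0)) (.nd (.lf 1054) (.lf 0)))) (.nd (.nd (.nd (.lf 0) (.lf 0)) (.nd (.lf 0) (.lf 0))) (.nd (.nd (.lf 2590) (.lf 0)) (.nd (.lf 152) (.lf 0)))))) (.nd (.nd (.nd (.nd (.nd (.lf 0) (.lf 248)) (.nd (.lf 1042) (.lf 0))) (.nd (.nd (.lf 0) (.lf 0)) (.nd (.lf 1352) (.lf 0)))) (.nd (.nd (.nd (.lf 0) (.lf 0)) (.nd (.lf 814) (.lf 0))) (.nd (.nd (.lf 0) (.lf 0)) (.nd (.lf 994) (.lf 0))))) (.nd (.nd (.nd (.nd (.lf 1) (.lf 2886)) (.nd (.lf 0) (.lf 0))) (.nd (.nd (.lf 0) (.lf 0)) (.nd (.lf 176) (.lf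 0)))) (.nd (.nd (.nd (.lf 1232) (.lf 0)) (.nd (.lf 982) (.lf 0))) (.nd (.nd (.lf 188) (.lf 0)) (.nd (.lf 7) (.lf 0))))))

/-- table part -/
def jsT_3 : Tr :=
  .nd jsT_1 jsT_2

/-- table -/
def jsT : Tr :=
  jsT_3

/-- relations -/
def rels : List (List (ℕ × Bool)) :=
  [[(0, true), (0, true), (0, true), (0, true), (0, true), (0, true), (0, true), (0, true), (0, true), (0, true), (0, true), (0, true), (0, true), (0, true), (0, true), (0, true), (0, true), (0, true), (0, true), (0, true), (0, true), (0, true), (0, true)],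
   [(1, true), (1, true), (1, true), (1, true), (1, true), (1, true), (1, true), (1, true), (1, true), (1, true), (1, true)],
   [(2, true), (2, true), (2, true), (2, true), (2, true), (2, true), (2, true), (2, true), (2, true), (2, true), (2, true)],
   [(1, false), (0, false), (1, true), (0, true), (0, true)],
   [(1, false), (0, false), (1, false), (2, false), (0, true), (0, true), (1, true), (0, true), (2, true), (0, true), (0, true)],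
   [(2, true), (1, true), (2, true), (1, true), (2, true), (1, true), (2, true), (1, true), (2, true), (1, true), (2, true), (1, true), (2, true), (1, true)]]

/-- parameter edges -/
def pe : List ℕ := [7, 54, 30, 63, 57, 22, 0]

/-- elimination -/
def fin : List (List (ℕ × ℕ × ℕ)) :=
  [[(0, 0, 1), (3, 0, 1)],
   [(1, 4, 1), (3, 0, 1), (4, 0, 1)],
   [(1, 0, 1), (1, 1, 1), (1, 2, 1), (2, 3, 1), (2, 8, 1), (3, 0, 1), (4, 0, 1), (4, 2, 1)],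
   [(0, 0, 1), (1, 1, 1), (3, 0, 1)],
   [(1, 1, 1), (1, 4, 1), (2, 8, 1), (3, 0, 1), (4, 0, 1)],
   [(0, 0, 1), (1, 1, 1), (1, 2, 1), (1, 4, 1), (3, 0, 1)],
   [(1, 0, 1), (1, 1, 1), (1, 2, 1), (1, 4, 1), (2, 8, 1), (4, 2, 1)],
   [(1, 0, 1), (1, 1, 1), (1, 2, 1), (1, 4, 1)],
   [(0, 0, 1), (1, 0, 1), (1, 1, 1), (1, 2, 1), (3, 0, 1)],
   [(0, 0, 1)]]

/-- the certificate -/
def cert : Cert :=
  ⟨2, 3, 24, 3, 10, rels, nxT, pvT, parT, fmT, rkT, jsT, pe, fin⟩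

end Cfsg.Agent.SplitVoltageM24P2Data
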