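import Cfsg.Agent.Lib.SplitVoltageGolay

/-!
Retractions modulo the derived group, bounds on the derived group, and orbit counting.
-/

set_option autoImplicit false

namespace Cfsg.Agent.SplitVoltageRetract

open Subgroup
open scoped commutatorElement

universe u v w

/-- A central extension of a perfect group: a character killing the derived part of the kernel
extends. -/
theorem exists_retraction_mod {H : Type u} [Group H] (hp : commutator H = ⊤) {Δ : Type v}
    [Group Δ] (σ : Δ →* H) (hs : Function.Surjective σ) (hc : σ.ker ≤ center Δ)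
    {A : Type w} [CommGroup A] (χ : σ.ker →* A)
    (hkill : ∀ z : σ.ker, (z : Δ) ∈ commutator Δ → χ z = 1) :
    ∃ ψ : Δ →* A, ∀ z : σ.ker, ψ z = χ z := by
  set D := commutator Δ
  have hmap : D.map σ = ⊤ := by
    rw [← hp]
    show (commutator Δ).map σ = commutator H
    rw [commutator_def, Subgroup.map_commutator, Subgroup.map_top_of_surjective σ hs,
      ← commutator_def]
  have hdec : ∀ g : Δ, ∃ d ∈ D, σ d = σ g := fun g => by
    have : σ g ∈ D.map σ := hmap ▸ Subgroup.mem_top _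
    exact this
  choose df hdf hdfσ using hdec
  let zf : Δ → σ.ker := fun g =>
    ⟨(df g)⁻¹ * g, by rw [MonoidHom.mem_ker, map_mul, map_inv, hdfσ, inv_mul_cancel]⟩
  refine ⟨MonoidHom.mk' (fun g => χ (zf g)) fun a b => ?_, fun z => ?_⟩
  · rw [← map_mul, ← inv_mul_eq_one, ← map_inv, ← map_mul]
    refine hkill _ ?_
    have hza : (df a)⁻¹ * a ∈ center Δ := hc (zf a).2
    have e : ((zf (a * b))⁻¹ * (zf a * zf b) : σ.ker).1 =
        (a * b)⁻¹ * (df (a * b) * ((df b)⁻¹ * (df a)⁻¹)) * (a * b) := by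
      show ((df (a * b))⁻¹ * (a * b))⁻¹ * ((df a)⁻¹ * a * ((df b)⁻¹ * b)) = _
      rw [show (df a)⁻¹ * a * ((df b)⁻¹ * b) = (df b)⁻¹ * ((df a)⁻¹ * a) * b by
        rw [← mul_assoc, ← Subgroup.mem_center_iff.1 hza]]
      group
    rw [e]
    have := (inferInstance : (commutator Δ).Normal).conj_mem _
      (mul_mem (hdf (a * b)) (mul_mem (inv_mem (hdf b)) (inv_mem (hdf a)))) (a * b)⁻¹
    rwa [inv_inv] at this
  · show χ (zf (z : Δ)) = χ z
    rw [← inv_mul_eq_one, ← map_inv, ← map_mul]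
    refine hkill _ ?_
    have e : ((zf (z : Δ))⁻¹ * z : σ.ker).1 = df (z : Δ) := by
      show ((df (z : Δ))⁻¹ * (z : Δ))⁻¹ * (z : Δ) = _
      rw [mul_inv_rev, inv_inv, mul_assoc, Subgroup.mem_center_iff.1 (hc z.2) (df (z : Δ)),
        inv_mul_cancel_left]
    rw [e]
    exact hdf _

/-- Elements of the derived group lie in every subgroup supplemented by the central kernel. -/
theorem mem_of_commutator {Δ : Type v} {H : Type u} [Group Δ] [Group H] {σ : Δ →* H}
    (hc : σ.ker ≤ center Δ) {U : Subgroup Δ} (hall : ∀ g : Δ, ∃ z : σ.ker, g * (z : Δ)⁻¹ ∈ U) :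
    commutator Δ ≤ U := by
  rw [commutator_def, Subgroup.commutator_le]
  intro a _ b _
  obtain ⟨za, ha⟩ := hall a
  obtain ⟨zb, hb⟩ := hall b
  have hcen : ∀ (w : σ.ker) (g : Δ), g * (w : Δ) = (w : Δ) * g := fun w g =>
    mem_center_iff.1 (hc w.2) g
  have ea : a = a * (za : Δ)⁻¹ * za := by rw [inv_mul_cancel_right]
  have eb : b = b * (zb : Δ)⁻¹ * zb := by rw [inv_mul_cancel_right]
  generalize a * (za : Δ)⁻¹ = a' at ha ea
  generalize b * (zb : Δ)⁻¹ = b' at hb eb
  subst ea eb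
  have h1 : ⁅a' * (za : Δ), b' * (zb : Δ)⁆ = ⁅a', b'⁆ := by
    simp only [commutatorElement_def, mul_inv_rev]
    have hza : ∀ g : Δ, (za : Δ)⁻¹ * g = g * (za : Δ)⁻¹ := fun g =>
      (mem_center_iff.1 (inv_mem (hc za.2)) g).symm
    have hzb : ∀ g : Δ, (zb : Δ)⁻¹ * g = g * (zb : Δ)⁻¹ := fun g =>
      (mem_center_iff.1 (inv_mem (hc zb.2)) g).symm
    rw [hza a'⁻¹, hzb b'⁻¹]
    calc a' * (za : Δ) * (b' * zb) * (a'⁻¹ * (za : Δ)⁻¹) * (b'⁻¹ * (zb : Δ)⁻¹)
        = a' * ((za : Δ) * (b' * zb * a'⁻¹)) * (za : Δ)⁻¹ * (b'⁻¹ * (zb : Δ)⁻¹) := by group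
      _ = a' * (b' * zb * a'⁻¹ * za) * (za : Δ)⁻¹ * (b'⁻¹ * (zb : Δ)⁻¹) := by rw [← hcen za]
      _ = a' * b' * ((zb : Δ) * (a'⁻¹ * b'⁻¹)) * (zb : Δ)⁻¹ := by group
      _ = a' * b' * ((a'⁻¹ * b'⁻¹) * zb) * (zb : Δ)⁻¹ := by rw [← hcen zb]
      _ = _ := by group
  rw [h1, commutatorElement_def]
  exact mul_mem (mul_mem (mul_mem ha hb) (inv_mem ha)) (inv_mem hb)

/-- A cyclic subgroup bounds the exponent of the derived part of a central kernel. -/
theorem ker_commutator_pow_index {Δ : Type v} {H : Type u} [Group Δ] [Finite Δ] [Group H]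
    {σ : Δ →* H} (hs : Function.Surjective σ) (hc : σ.ker ≤ center Δ) (a : H) {z : Δ}
    (hz : σ z = 1) (hd : z ∈ commutator Δ) : z ^ (zpowers a).index = 1 := by
  set K := (zpowers a).comap σ
  have hcomm : ∀ p q : K, p * q = q * p := by
    intro p q
    obtain ⟨g, hg⟩ := hs a
    have hrep : ∀ r : K, ∃ (i : ℤ) (w : Δ), w ∈ center Δ ∧ (r : Δ) = g ^ i * w := by
      intro r
      obtain ⟨i, hi⟩ := Subgroup.mem_zpowers_iff.1 r.2
      exact ⟨i, (g ^ i)⁻¹ * r, hc (by rw [MonoidHom.mem_ker, map_mul, map_inv, map_zpow, hg, hi,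
        inv_mul_cancel]), by rw [mul_inv_cancel_left]⟩
    obtain ⟨i, w, hw, ep⟩ := hrep p
    obtain ⟨j, w', hw', eq⟩ := hrep q
    apply Subtype.ext
    show (p : Δ) * q = q * p
    rw [ep, eq]
    have c1 := fun y : Δ => mem_center_iff.1 hw y
    have c2 := fun y : Δ => mem_center_iff.1 hw' y
    calc g ^ i * w * (g ^ j * w') = g ^ i * (w * g ^ j) * w' := by group
      _ = g ^ (i + j) * (w * w') := by rw [← c1, zpow_add]; group
      _ = g ^ (j + i) * (w' * w) := by rw [add_comm, c2 w]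
      _ = g ^ j * (g ^ i * w') * w := by rw [zpow_add]; group
      _ = g ^ j * (w' * g ^ i) * w := by rw [c2 (g ^ i)]
      _ = _ := by group
  letI : CommGroup K := { (inferInstance : Group K) with mul_comm := hcomm }
  have hzK : z ∈ K := by rw [Subgroup.mem_comap, hz]; exact one_mem _
  have h := TransferPow.central_pow_index_eq_one (MonoidHom.id K) ⟨z, hzK⟩
    (hc (MonoidHom.mem_ker.2 hz)) hd
  have h' := congrArg Subtype.val h
  rw [← Subgroup.index_comap_of_surjective (zpowers a) hs]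
  simpa using h'

/-- Orbit counting from tables. -/
theorem card_eq_mul_card_stabilizer {G : Type u} [Group G] [Finite G] {α : Type v} [MulAction G α]
    (n N : ℕ) (x : ℕ → G) (hgen : Subgroup.closure (x '' Set.Iio n) = ⊤) (obj : ℕ → α)
    (nx : ℕ → ℕ → ℕ) (par : ℕ → ℕ × ℕ) (hN : 0 < N)
    (hinj : ∀ c < N, ∀ d < N, obj c = obj d → c = d)
    (hnx : ∀ i < n, ∀ c < N, nx i c < N ∧ x i • obj c = obj (nx i c))
    (hpar : ∀ c < N, 0 < c → (par c).2 < c ∧ (par c).1 < n ∧ nx (par c).1 (par c).2 = c) :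
    Nat.card G = N * Nat.card (MulAction.stabilizer G (obj 0)) := by
  have horb : MulAction.orbit G (obj 0) = obj '' Set.Iio N := by
    apply Set.Subset.antisymm
    · rintro _ ⟨g, rfl⟩
      let S : Submonoid G :=
        { carrier := {g | ∀ c < N, ∃ d < N, g • obj c = obj d}
          one_mem' := fun c hc => ⟨c, hc, one_smul _ _⟩
          mul_mem' := fun {a b} ha hb c hc => by
            obtain ⟨d, hd, e⟩ := hb c hc
            obtain ⟨d', hd', e'⟩ := ha d hd
            exact ⟨d', hd', by rw [mul_smul, e, e']⟩ }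
      have hS : ∀ g, g ∈ S := by
        intro g
        have h1 : g ∈ Submonoid.closure (x '' Set.Iio n) := by
          rw [← Subgroup.closure_toSubmonoid_of_finite, hgen]
          exact Subgroup.mem_top g
        refine (Submonoid.closure_le (S := S)).2 ?_ h1
        rintro _ ⟨i, hi, rfl⟩ c hc
        exact ⟨_, (hnx i hi c hc).1, (hnx i hi c hc).2⟩
      obtain ⟨d, hd, e⟩ := hS g 0 hN
      exact ⟨d, hd, e.symm⟩
    · rintro _ ⟨c, hc, rfl⟩
      induction c using Nat.strong_induction_on with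
      | _ c ih =>
        rcases Nat.eq_zero_or_pos c with rfl | h0
        · exact MulAction.mem_orbit_self _
        · obtain ⟨h1, h2, h3⟩ := hpar c hc h0
          obtain ⟨g, hg⟩ := ih _ h1 (h1.trans hc)
          refine ⟨x (par c).1 * g, ?_⟩
          show (x (par c).1 * g) • obj 0 = obj c
          rw [mul_smul]
          rw [show g • obj 0 = obj (par c).2 from hg, (hnx _ h2 _ (h1.trans hc)).2, h3]
  rw [Subgroup.card_eq_card_quotient_mul_card_subgroup (MulAction.stabilizer G (obj 0))]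
  congr 1
  rw [← Nat.card_congr (MulAction.orbitEquivQuotientStabilizer G (obj 0)), horb,
    Nat.card_image_of_injOn (s := Set.Iio N) (fun c hc d hd e => hinj c hc d hd e)]
  simp

end Cfsg.Agent.SplitVoltageRetract
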