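import Mathlib

/-!
Finite groups in which every square of a Sylow 2-subgroup lies in its derived subgroup.
-/

set_option autoImplicit false

namespace Cfsg.Agent.SqDerivedBasic48

/-- every square lies in the derived subgroup -/
def SqD (P : Type*) [Group P] : Prop := ∀ x : P, x ^ 2 ∈ commutator P

/-- the property of the Sylow 2-subgroups -/
def Good (G : Type*) [Group G] : Prop := ∀ P : Sylow 2 G, SqD ↥(P : Subgroup G)

theorem SqD.of_surjective {A B : Type*} [Group A] [Group B] {f : A →* B} (hf : Function.Surjective f)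
    (h : SqD A) : SqD B := by
  intro y
  obtain ⟨x, rfl⟩ := hf y
  rw [← map_pow]
  have := Subgroup.mem_map_of_mem f (h x)
  rw [map_commutator_eq, MonoidHom.range_eq_top.2 hf] at this
  rwa [commutator_def]

theorem SqD.congr {A B : Type*} [Group A] [Group B] (e : A ≃* B) (h : SqD A) : SqD B :=
  h.of_surjective (f := e.toMonoidHom) e.surjective

theorem map_commutator_le {A B : Type*} [Group A] [Group B] (f : A →* B) :
    (commutator A).map f ≤ commutator B := by
  rw [map_commutator_eq, commutator_def]
  exact Subgroup.commutator_mono le_top le_top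

theorem sqD_of_gen {A : Type*} [Group A] (S : Set A) (hS : Subgroup.closure S = ⊤)
    (h : ∀ x ∈ S, x ^ 2 ∈ commutator A) : SqD A := by
  have key : ∀ x : A, Abelianization.of (x ^ 2) = 1 := by
    intro x
    have hx : x ∈ Subgroup.closure S := by rw [hS]; exact Subgroup.mem_top x
    induction hx using Subgroup.closure_induction with
    | mem y hy => rw [← MonoidHom.mem_ker, Abelianization.ker_of]; exact h y hy
    | one => simp
    | mul a b _ _ ha hb => rw [map_pow, map_mul, mul_pow, ← map_pow, ha, ← map_pow, hb, one_mul]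
    | inv a _ ha => rw [inv_pow, map_inv, ha, inv_one]
  intro x
  rw [← Abelianization.ker_of, MonoidHom.mem_ker]
  exact key x

/-- the criterion for a subgroup given with generators -/
theorem sqD_closure {A : Type*} [Group A] (H : Subgroup A) (S : Set A) (hS : Subgroup.closure S = H)
    (h : ∀ x ∈ S, x ^ 2 ∈ ⁅H, H⁆) : SqD ↥H := by
  refine sqD_of_gen (Subtype.val ⁻¹' S : Set ↥H) ?_ ?_
  · subst hS
    exact Subgroup.closure_closure_coe_preimage
  · intro x hx
    have h' : ((x : A) ^ 2) ∈ (commutator ↥H).map H.subtype := by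
      rw [Subgroup.map_subtype_commutator]; exact h _ hx
    obtain ⟨y, hy, e⟩ := Subgroup.mem_map.1 h'
    have hy' : y = x ^ 2 := Subtype.ext (e.trans (SubgroupClass.coe_pow x 2).symm)
    exact hy' ▸ hy

theorem sqD_of_involutions {A : Type*} [Group A] (H : Subgroup A) (S : Set A) (hS : Subgroup.closure S = H)
    (h : ∀ x ∈ S, x ^ 2 = 1) : SqD ↥H :=
  sqD_closure H S hS fun x hx => by rw [h x hx]; exact one_mem _

variable {G H : Type*} [Group G] [Group H]

theorem good_of_sylow [Finite G] (P : Sylow 2 G) (h : SqD ↥(P : Subgroup G)) : Good G :=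
  fun Q => h.congr (Sylow.equiv P Q)

/-- a 2-subgroup of odd index decides -/
theorem good_of_oddIndex [Finite G] {U : Subgroup G} (hp : IsPGroup 2 ↥U) (hi : ¬ 2 ∣ U.index)
    (h : SqD ↥U) : Good G := good_of_sylow (hp.toSylow hi) h

theorem good_of_surjective [Finite G] {f : G →* H} (hf : Function.Surjective f) (h : Good G) : Good H := by
  haveI : Finite H := Finite.of_surjective f hf
  obtain ⟨P⟩ : Nonempty (Sylow 2 G) := inferInstance
  refine good_of_sylow (P.mapSurjective hf) ?_
  exact (h P).of_surjective (f := f.subgroupMap (P : Subgroup G)) (f.subgroupMap_surjective _)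

theorem good_congr [Finite G] (e : G ≃* H) (h : Good G) : Good H :=
  good_of_surjective (f := e.toMonoidHom) e.surjective h

theorem good_quotient [Finite G] (N : Subgroup G) [N.Normal] (h : Good G) : Good (G ⧸ N) :=
  good_of_surjective (QuotientGroup.mk'_surjective N) h

/-- a subgroup containing a Sylow subgroup decides -/
theorem good_of_le [Finite G] (P : Sylow 2 G) {N : Subgroup G} (hle : (P : Subgroup G) ≤ N) (h : Good ↥N) :
    Good G :=
  good_of_sylow P ((h (P.subtype hle)).congr
    ((MulEquiv.subgroupCongr (Sylow.coe_subtype P hle)).trans (Subgroup.subgroupOfEquivOfLe hle)))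

/-- a normal subgroup of odd index inherits the property -/
theorem good_normal [Finite G] (N : Subgroup G) [N.Normal] (hi : ¬ 2 ∣ N.index) (h : Good G) : Good ↥N := by
  obtain ⟨P⟩ : Nonempty (Sylow 2 G) := inferInstance
  have hle : (P : Subgroup G) ≤ N := by
    intro x hx
    obtain ⟨k, hk⟩ := P.2 ⟨x, hx⟩
    have h1 : (QuotientGroup.mk x : G ⧸ N) ^ 2 ^ k = 1 := by
      rw [← QuotientGroup.mk_pow, show x ^ 2 ^ k = 1 from congrArg Subtype.val hk, QuotientGroup.mk_one]
    have h2 : (QuotientGroup.mk x : G ⧸ N) ^ N.index = 1 := pow_card_eq_one'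
    have h3 := pow_gcd_eq_one.2 ⟨h1, h2⟩
    rw [Nat.Coprime.gcd_eq_one (Nat.Coprime.pow_left k (Nat.prime_two.coprime_iff_not_dvd.2 hi)), pow_one] at h3
    exact (QuotientGroup.eq_one_iff x).1 h3
  exact good_of_sylow (P.subtype hle) ((h P).congr
    ((MulEquiv.subgroupCongr (Sylow.coe_subtype P hle)).trans (Subgroup.subgroupOfEquivOfLe hle)).symm)

theorem good_of_noInvolution [Finite G] (h : ∀ x : G, x ^ 2 = 1 → x = 1) : Good G := by
  intro P x
  obtain ⟨k, hk⟩ := P.2 x
  have hg : (x : G) = 1 := by
    have h1 : (x : G) ^ 2 ^ k = 1 := congrArg Subtype.val hk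
    clear hk
    induction k with
    | zero => simpa using h1
    | succ k ih => exact ih (h _ (by rw [← pow_mul, ← pow_succ, h1]))
  rw [show x = 1 from Subtype.ext hg, one_pow]
  exact one_mem _

/-- split extensions of a 2-group with squares in its derived subgroup -/
theorem good_split [Finite H] {L : Type*} [Group L] (f : H →* L) (s : L →* H) (hfs : ∀ x, f (s x) = x)
    (hk : IsPGroup 2 ↥f.ker) (hq : SqD ↥f.ker) (hL : Good L) : Good H := by
  haveI : Finite L := Finite.of_surjective f fun x => ⟨s x, hfs x⟩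
  obtain ⟨P0⟩ : Nonempty (Sylow 2 L) := inferInstance
  set U := (P0 : Subgroup L).comap f with hU
  have hp : IsPGroup 2 ↥U := P0.2.comap_of_ker_isPGroup f hk
  have hi : ¬ 2 ∣ U.index := by
    rw [hU, Subgroup.index_comap_of_surjective _ (fun x => ⟨s x, hfs x⟩)]
    exact P0.not_dvd_index
  refine good_of_oddIndex hp hi (sqD_of_gen
    (Set.range (Subgroup.inclusion (show f.ker ≤ U from fun x hx => by
      rw [hU, Subgroup.mem_comap, MonoidHom.mem_ker.1 hx]; exact one_mem _)) ∪
      Set.range ((s.comp (P0 : Subgroup L).subtype).codRestrict U fun y => by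
        rw [hU, Subgroup.mem_comap]; simp [hfs])) ?_ ?_)
  · refine eq_top_iff.2 fun x _ => ?_
    have hx : f x ∈ (P0 : Subgroup L) := x.2
    set y : ↥U := ⟨s (f x), show f (s (f x)) ∈ (P0 : Subgroup L) by rw [hfs]; exact hx⟩ with hy
    rw [show x = (x * y⁻¹) * y by group]
    refine mul_mem (Subgroup.subset_closure (Or.inl ⟨⟨(x : H) * (s (f x))⁻¹, ?_⟩, Subtype.ext rfl⟩))
      (Subgroup.subset_closure (Or.inr ⟨⟨f x, hx⟩, Subtype.ext rfl⟩))
    rw [MonoidHom.mem_ker, map_mul, map_inv, hfs, mul_inv_cancel]
  · rintro _ (⟨x, rfl⟩ | ⟨x, rfl⟩)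
    · rw [← map_pow]
      exact map_commutator_le _ (Subgroup.mem_map_of_mem _ (hq x))
    · rw [← map_pow]
      exact map_commutator_le _ (Subgroup.mem_map_of_mem _ (hL P0 x))

/-- a 2-group acting on a finite set fixes a second point if the set is even -/
theorem exists_fixed_ne [Finite G] (P : Subgroup G) (hP : IsPGroup 2 ↥P) {α : Type*} [MulAction G α] [Finite α]
    (heven : 2 ∣ Nat.card α) {a : α} (ha : ∀ g : G, g • a = a) : ∃ b, b ≠ a ∧ ∀ g ∈ P, g • b = b := by
  classical
  obtain ⟨b, hb, hne⟩ := hP.exists_fixed_point_of_prime_dvd_card_of_fixed_point α heven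
    (a := a) (fun g => ha g.1)
  exact ⟨b, Ne.symm hne, fun g hg => hb ⟨g, hg⟩⟩

/-- a set with an involution without fixed points is even -/
theorem even_of_involution {α : Type*} [Finite α] (t : α → α) (h2 : ∀ x, t (t x) = x) (hf : ∀ x, t x ≠ x) :
    2 ∣ Nat.card α := by
  classical
  haveI := Fintype.ofFinite α
  have h := Equiv.Perm.card_fixedPoints_modEq (p := 2) (n := 1) (f := (t : Function.End α))
    (funext fun x => h2 x)
  rw [show Fintype.card (Function.fixedPoints (t : Function.End α)) = 0 from
    Fintype.card_eq_zero_iff.2 ⟨fun x => hf x.1 x.2⟩] at h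
  rw [Nat.card_eq_fintype_card]
  exact Nat.modEq_zero_iff_dvd.1 h

end Cfsg.Agent.SqDerivedBasic48
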