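import Cfsg.Agent.Lib.SqDerivedInduction48
import Cfsg.Agent.Lib.OrthUnitarySimple
import Cfsg.Agent.Lib.OrthUnitaryStd
import Cfsg.Prelude.Def_Classical

/-!
Unitary and orthogonal groups in characteristic two: squares of Sylow 2-subgroups lie in their derived subgroups.
-/

set_option autoImplicit false
set_option linter.unusedSectionVars false

namespace Cfsg.Agent.SqDerivedClassical48

open Cfsg.Agent.SqDerivedBasic48 Cfsg.Agent.SqDerivedForms48 Cfsg.Agent.SqDerivedInduction48

section Unitary

open scoped Matrix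

variable {F : Type*} [Field F] [Fintype F] [CharP F 2]

theorem exists_pow {q : ℕ} (hq : Fintype.card F = q ^ 2) : ∃ k, q = 2 ^ k ∧ 1 ≤ k := by
  obtain ⟨e, hp, he⟩ := FiniteField.card F 2
  obtain ⟨k, -, hk⟩ := (Nat.dvd_prime_pow hp).1 (show q ∣ 2 ^ (e : ℕ) by rw [← he, hq]; exact dvd_pow_self q two_ne_zero)
  refine ⟨k, hk, Nat.one_le_iff_ne_zero.2 fun h => ?_⟩
  subst h
  have := Fintype.one_lt_card (α := F)
  rw [hq, hk] at this
  simp at this

/-- the hermitian form -/
noncomputable def hermFrm (n k : ℕ) (hk : Fintype.card F = (2 ^ k) ^ 2) : Frm F (Fin n → F) where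
  σ := iterateFrobenius F 2 k
  B u v := hermForm n F (2 ^ k) u v
  q v := hermForm n F (2 ^ k) v v
  τ := AddMonoidHom.id F + (iterateFrobenius F 2 k).toAddMonoidHom
  σσ a := by
    rw [iterateFrobenius_def, iterateFrobenius_def, ← pow_mul, ← pow_two, ← hk, FiniteField.pow_card]
  add_left u v w := by simp [hermForm, add_mul, Finset.sum_add_distrib]
  smul_left a u w := by simp [hermForm, Finset.mul_sum, mul_assoc]
  herm u v := by
    simp only [hermForm, map_sum, map_mul, map_pow, iterateFrobenius_def, ← pow_mul, ← pow_two, ← hk,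
      FiniteField.pow_card]
    exact Finset.sum_congr rfl fun i _ => mul_comm _ _
  q_add u v := by
    simp only [hermForm, AddMonoidHom.add_apply, AddMonoidHom.id_apply, RingHom.toAddMonoidHom_eq_coe,
      AddMonoidHom.coe_coe, map_sum, map_mul, map_pow, iterateFrobenius_def, ← pow_mul, ← pow_two, ← hk,
      FiniteField.pow_card, ← Finset.sum_add_distrib, Pi.add_apply, add_pow_char_pow]
    exact Finset.sum_congr rfl fun i _ => by ring
  q_smul a v h := by
    have e : hermForm n F (2 ^ k) (a • v) (a • v) = a * a ^ (2 ^ k) * hermForm n F (2 ^ k) v v := by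
      simp only [hermForm, Finset.mul_sum, Pi.smul_apply, smul_eq_mul, mul_pow]
      exact Finset.sum_congr rfl fun i _ => by ring
    rw [e, h, mul_zero]
  self v h := h
  nondeg v h := by
    funext i
    have := h (Pi.single i 1)
    simpa [hermForm, Pi.single_apply] using this

theorem unitary_hermFrm (n k : ℕ) (hk : Fintype.card F = (2 ^ k) ^ 2) (h1 : 1 ≤ k) :
    Unitary (hermFrm (F := F) n k hk) := by
  refine ⟨fun v => rfl, fun a => rfl, ?_⟩
  by_contra hc
  push Not at hc
  obtain ⟨g, hg⟩ := IsCyclic.exists_ofOrder_eq_natCard (α := Fˣ)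
  have h2 : 2 ≤ 2 ^ k := le_trans (by norm_num) (Nat.pow_le_pow_right (by norm_num) h1)
  have hg1 : g ^ (2 ^ k - 1) = 1 := by
    have h := CharTwo.add_eq_zero.1 (hc (g : F))
    change (g : F) = iterateFrobenius F 2 k (g : F) at h
    rw [iterateFrobenius_def, ← Units.val_pow_eq_pow_val, Units.val_inj,
      show 2 ^ k = 2 ^ k - 1 + 1 by omega, pow_succ] at h
    exact (right_eq_mul.1 h)
  have hle := Nat.le_of_dvd (by omega) (orderOf_dvd_of_pow_eq_one hg1)
  rw [hg, Nat.card_units, Nat.card_eq_fintype_card, hk, pow_two] at hle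
  have : 2 * 2 ^ k ≤ 2 ^ k * 2 ^ k := Nat.mul_le_mul_right _ h2
  omega

theorem good_PSU {n q : ℕ} (hq : Fintype.card F = q ^ 2) : Good (PSU n F q) := by
  obtain ⟨k, rfl, hk1⟩ := exists_pow hq
  set Φ := hermFrm (F := F) n k hq
  haveI := Φ.finite_iso
  have hG : Good ↥Φ.iso := good_unitary _ Φ rfl (unitary_hermFrm n k hq hk1)
  set χ : ↥Φ.iso →* Fˣ := LinearEquiv.det.comp Φ.iso.subtype
  have hN : Good ↥χ.ker := by
    refine good_normal χ.ker (fun h => ?_) hG
    rw [Subgroup.index_ker] at h
    have h2 := h.trans (Subgroup.card_subgroup_dvd_card χ.range)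
    rw [Nat.card_units, Nat.card_eq_fintype_card, hq] at h2
    have h3 : 2 ∣ (2 ^ k) ^ 2 := (dvd_pow_self 2 (by omega : k ≠ 0)).trans (dvd_pow_self _ two_ne_zero)
    have : 0 < (2 ^ k) ^ 2 := by positivity
    omega
  let ψ : ↥(SU n F (2 ^ k)) →* ↥χ.ker :=
    { toFun := fun h => ⟨⟨Matrix.SpecialLinearGroup.toLin' h.1, by
        refine ⟨fun u v => h.2 u v, fun v => h.2 v v⟩⟩, by
        rw [MonoidHom.mem_ker]
        refine Units.ext ?_
        show ((LinearEquiv.det (Matrix.SpecialLinearGroup.toLin' h.1) : Fˣ) : F) = 1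
        rw [LinearEquiv.coe_det]
        exact (LinearMap.det_toLin' _).trans h.1.2⟩
      map_one' := Subtype.ext (Subtype.ext (map_one _))
      map_mul' := fun a b => Subtype.ext (Subtype.ext (map_mul _ _ _)) }
  have hψ : Function.Bijective ψ := by
    refine ⟨fun a b h => Subtype.ext (Matrix.SpecialLinearGroup.toLin'_injective
      (congrArg Subtype.val (congrArg Subtype.val h))), fun g => ?_⟩
    have hd : (LinearMap.toMatrix' (g.1.1.toLinearMap)).det = 1 := by
      rw [LinearMap.det_toMatrix', ← LinearEquiv.coe_det]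
      exact congrArg Units.val (MonoidHom.mem_ker.1 g.2)
    refine ⟨⟨⟨_, hd⟩, fun u v => ?_⟩, Subtype.ext (Subtype.ext (LinearEquiv.ext fun v => ?_))⟩
    · show hermForm n F (2 ^ k) (LinearMap.toMatrix' g.1.1.toLinearMap *ᵥ u)
        (LinearMap.toMatrix' g.1.1.toLinearMap *ᵥ v) = _
      rw [LinearMap.toMatrix'_mulVec, LinearMap.toMatrix'_mulVec]
      exact g.1.2.1 u v
    · show Matrix.toLin' (LinearMap.toMatrix' g.1.1.toLinearMap) v = g.1.1 v
      rw [Matrix.toLin'_toMatrix']
      rfl
  exact good_quotient _ (good_congr (MulEquiv.ofBijective ψ hψ).symm hN)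

end Unitary

section Orthogonal

open QuadraticMap Cfsg.Agent.OrthUnitaryQuad Cfsg.Agent.OrthUnitaryRefl Cfsg.Agent.OrthUnitarySimple

variable {F : Type*} [Field F] [Fintype F] [CharP F 2] {V : Type*} [AddCommGroup V] [Module F V]

/-- the polar form with the quadratic form -/
noncomputable def quadFrm (Q : QuadraticForm F V) (hnd : (polarBilin Q).Nondegenerate) : Frm F V where
  σ := RingHom.id F
  B u v := polar Q u v
  q v := Q v
  τ := AddMonoidHom.id F
  σσ _ := rfl
  add_left u v w := polar_add_left Q u v w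
  smul_left a u w := by rw [polar_smul_left, smul_eq_mul]
  herm u v := polar_comm _ _ _
  q_add u v := QuadraticMap.map_add (⇑Q) u v
  q_smul a v h := by rw [QuadraticMap.map_smul, h, smul_zero]
  self v _ := by rw [polar_self_mul, CharTwo.two_eq_zero, zero_mul]
  nondeg v h := hnd.1 v fun w => by rw [polarBilin_apply_apply, polar_comm]; exact h w

theorem iso_quadFrm (Q : QuadraticForm F V) (hnd : (polarBilin Q).Nondegenerate) :
    (quadFrm Q hnd).iso = orth Q := by
  ext g
  exact ⟨fun h => h.2, fun h => ⟨fun u v => polar_orth ⟨g, h⟩ u v, h⟩⟩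

theorem good_commutator_orth [Finite V] [FiniteDimensional F V] (Q : QuadraticForm F V)
    (hnd : (polarBilin Q).Nondegenerate) (hdim : 5 ≤ Module.finrank F V) :
    Good ↥(commutator ↥(orth Q)) := by
  have h2 : (2 : F) = 0 := CharTwo.two_eq_zero
  obtain ⟨D, hD⟩ := OrthUnitaryOmega.exists_dickson h2 hnd
  obtain ⟨hmem, -, -⟩ := OrthUnitaryOmega.even_main h2 hnd (Or.inr (by omega)) D hD
  set Φ := quadFrm Q hnd
  let c : ↥Φ.iso ≃* ↥(orth Q) := MulEquiv.subgroupCongr (iso_quadFrm Q hnd)
  haveI := Φ.finite_iso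
  set D' : ↥Φ.iso →* Multiplicative F := D.comp c.toMonoidHom
  have hO : Orth Φ D' := by
    refine ⟨fun _ => rfl, fun _ => rfl, fun v => by
      show polar Q v v = 0
      rw [polar_self_mul, h2, zero_mul], fun a v => by
      show Q (a • v) = _
      rw [QuadraticMap.map_smul, smul_eq_mul]; rfl, ?_, ?_⟩
    · intro p k hk
      obtain ⟨v, hv, d, hkf, hk'⟩ := p.Q_shape hk
      have hd : d = Q v := by
        have h := k.1.2.2 p.f
        rw [hkf, Φ.q_add, Φ.q_add, Φ.q_smul _ _ p.qe, p.qf, Φ.add_left, Φ.smul_right, Φ.smul_right, p.fe,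
          (p.perp_e hv).1, (p.perp_f hv).2] at h
        change 0 + Q v + 0 + 0 + (d * 1 + d * 0) = 0 at h
        exact CharTwo.add_eq_zero.1 (by linear_combination h)
      have hpol : polar Q p.e v = 0 := (p.perp_e hv).2
      have hS : c k.1 = siegel Q p.e v p.qe hpol := by
        refine orth_ext fun w => ?_
        show k.1.1 w = _
        refine Eq.trans ?_ (siegel_apply Q p.e v p.qe hpol w).symm
        rw [hk', Pr.em, hd]
        show w + polar Q w p.e • v + (polar Q w v + polar Q w p.e * Q v) • p.e = _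
        have hn : ∀ y : V, -y = y := fun y => by
          rw [← neg_one_smul F y, CharTwo.neg_eq, one_smul]
        rw [sub_eq_add_neg, hn, polar_comm Q p.e w, polar_comm Q v w, mul_comm (Q v)]
      show D (c k.1) = 1
      rw [hS]
      by_cases hQv : Q v = 0
      · exact Abelianization.commutator_subset_ker D
          (commutator_eq_sGroup hnd hdim ▸ siegel_mem_sGroup p.qe hpol hQv)
      · rw [siegel_eq_refl_mul p.qe hpol hQv, map_mul, hD, hD, ← ofAdd_add, CharTwo.add_self_eq_zero, ofAdd_zero]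
    · intro g u hu hg
      have hS : c g = refl Q u hu := by
        refine orth_ext fun x => ?_
        show g.1 x = _
        refine Eq.trans ?_ (refl_apply Q u hu x).symm
        rw [hg]
        show x + (polar Q x u / Q u) • u = _
        have hn : ∀ y : V, -y = y := fun y => by
          rw [← neg_one_smul F y, CharTwo.neg_eq, one_smul]
        rw [sub_eq_add_neg, hn, div_eq_inv_mul, polar_comm Q u x]
      show D (c g) ≠ 1
      rw [hS]
      exact (hD u hu).trans_ne (by simp)
  have hker := good_orth _ Φ D' rfl hO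
  refine good_congr ?_ hker
  refine (c.subgroupMap D'.ker).trans (MulEquiv.subgroupCongr ?_)
  ext g
  rw [hmem, Subgroup.mem_map]
  constructor
  · rintro ⟨x, hx, rfl⟩; exact hx
  · intro h
    exact ⟨c.symm g, by show D (c (c.symm g)) = 1; rw [MulEquiv.apply_symm_apply]; exact h, c.apply_symm_apply g⟩

open Cfsg.Agent.OrthUnitaryForms Cfsg.Agent.OrthUnitaryStd

theorem good_POmega_of {ι : Type} [Fintype ι] [DecidableEq ι] [Finite V] [FiniteDimensional F V]
    (Q : QuadraticForm F V) (f : (ι → F) → F) (e : V ≃ₗ[F] (ι → F)) (h : ∀ x, f (e x) = Q x)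
    (hnd : (polarBilin Q).Nondegenerate) (hdim : 5 ≤ Module.finrank F V) : Good (POmega F f) := by
  haveI := finite_orth Q
  haveI : Finite ↥(commutator ↥(orth Q)) := inferInstance
  haveI : Finite (Omega F f) := Finite.of_equiv _ (omegaEquiv Q f e h).symm.toEquiv
  exact good_quotient _ (good_congr (omegaEquiv Q f e h).symm (good_commutator_orth Q hnd hdim))

theorem good_POmega_plus {m : ℕ} (hm : 3 ≤ m) : Good (POmega F (quadFormPlus m F)) :=
  good_POmega_of _ _ (eqPlus m) (eqPlus_isometry m) (nondegenerate_withBase nondegenerate_qfNil m) (by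
    rw [(eqPlus (F := F) m).finrank_eq]
    simp
    omega)

theorem good_POmega_minus {m : ℕ} (hm : 2 ≤ m) {a b : F}
    (hab : ∀ z₁ z₂ : F, z₁ ^ 2 + a * z₁ * z₂ + b * z₂ ^ 2 = 0 → z₁ = 0 ∧ z₂ = 0) :
    Good (POmega F (quadFormMinus m F a b)) :=
  good_POmega_of _ _ (eqMinus m) (eqMinus_isometry m a b) (nondegenerate_withBase (nondegenerate_qfBin hab) m) (by
    rw [(eqMinus (F := F) m).finrank_eq]
    simp
    omega)

end Orthogonal

end Cfsg.Agent.SqDerivedClassical48
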