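import Cfsg.Agent.Lib.SqDerivedBasic48
import Cfsg.Agent.Lib.ChevalleySylow
import Cfsg.Agent.Lib.TwistAutRigid
import Cfsg.Agent.Lib.TwistedD4
import Cfsg.Agent.Lib.TwistedE6
import Cfsg.Agent.Lib.TwistedF4Classes
import Cfsg.Agent.Lib.SuzukiGroupLie
import Cfsg.Prelude.Def_LieChev
import Cfsg.Prelude.Def_LieTwisted

/-!
Exceptional, twisted and Suzuki groups in characteristic two: squares of Sylow 2-subgroups lie in their derived
subgroups.
-/

set_option autoImplicit false
set_option linter.unusedSectionVars false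
set_option maxRecDepth 20000

namespace Cfsg.Agent.SqDerivedExc48

open Cfsg.Lie Cfsg.Agent Cfsg.Agent.ChevalleyCert Cfsg.Agent.ChevalleyCore Cfsg.Agent.ChevWeyl
  Cfsg.Agent.ChevBruhat Cfsg.Agent.TwistedCore Cfsg.Agent.SqDerivedBasic48
open scoped commutatorElement

variable {D : ChevalleyDatum} {F : Type*} [Field F] [Fintype F] [CharP F 2]

theorem good_chev (C : Cert D) (S : ChevBruhat.Sys D F) : Good ↥(D.group F) := by
  haveI : Fact (Nat.Prime 2) := ⟨Nat.prime_two⟩
  obtain ⟨P, hP⟩ := ChevalleySylow.exists_sylow C S 2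
  refine good_of_sylow P (SqD.congr ((MulEquiv.subgroupCongr hP).trans
    (Subgroup.subgroupOfEquivOfLe S.U_le_group)).symm ?_)
  refine sqD_of_involutions _ _ rfl ?_
  rintro g ⟨r, t, -, hg⟩
  obtain rfl : g = xg C r t := Units.ext (hg.trans (coe_xg C r t).symm)
  rw [pow_two, xg_mul, CharTwo.add_self_eq_zero, xg_zero]

section Twisted

variable {C : Cert D} {T : Twist C F} {G1 : Subgroup (GL D.Idx F)} (K : Classes T G1)

include K in
theorem sqD_UF (hJ : ∀ J, SqD ↥(T.UF (K.cw J))) {w : T.X.W} (hw : w ∈ T.fixW) : SqD ↥(T.UF w) := by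
  suffices h : ∀ k, ∀ w : T.X.W, w ∈ T.fixW → T.X.inv w = k → SqD ↥(T.UF w) from h _ w hw rfl
  intro k
  induction k using Nat.strong_induction_on with
  | _ k ih =>
    intro w hw hk
    by_cases h1 : w = 1
    · subst h1
      intro x
      have hbot : T.UF 1 = ⊥ := by
        rw [eq_bot_iff]
        refine inf_le_left.trans ?_
        rw [Sys.Uw, Subgroup.closure_le]
        rintro g ⟨r, t, hr, -⟩
        rw [T.X.mem_invSet, T.X.img_one] at hr
        exact absurd hr.2 (T.X.not_pos_and_neg hr.1)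
      have hx := x.2
      simp only [hbot, Subgroup.mem_bot] at hx
      rw [show x = 1 from Subtype.ext hx, one_pow]
      exact one_mem _
    obtain ⟨J, -, -, -, -, hsub⟩ := K.exists_class_descent hw h1
    obtain ⟨-, hinv⟩ := K.step_sets hsub
    have hpos := K.inv_cw_pos J
    have hv := ih (T.X.inv (w * K.cw J)) (by omega) (w * K.cw J) (mul_mem hw (K.cw_fix J)) rfl
    obtain ⟨f, hf, hfe⟩ := K.split hw hsub
    let i1 : ↥(T.UF (w * K.cw J)) →* ↥(T.UF w) :=
      { toFun := fun u => f (u, 1)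
        map_one' := Subtype.ext (by rw [hfe]; simp)
        map_mul' := fun a b => Subtype.ext (by rw [Subgroup.coe_mul, hfe, hfe, hfe]; simp [mul_assoc]) }
    let i2 : ↥(T.UF (K.cw J)) →* ↥(T.UF w) :=
      { toFun := fun u => f (1, u)
        map_one' := Subtype.ext (by rw [hfe]; simp)
        map_mul' := fun a b => Subtype.ext (by rw [Subgroup.coe_mul, hfe, hfe, hfe]; simp [mul_assoc]) }
    refine sqD_of_gen (Set.range i1 ∪ Set.range i2) (eq_top_iff.2 fun x _ => ?_) ?_
    · obtain ⟨⟨a, b⟩, rfl⟩ := hf.surjective x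
      rw [show f (a, b) = i1 a * i2 b from Subtype.ext (by
        show _ = ((f (a, 1) : ↥(T.UF w)) : GL D.Idx F) * (f (1, b) : ↥(T.UF w))
        rw [hfe, hfe, hfe]; simp)]
      exact mul_mem (Subgroup.subset_closure (Or.inl ⟨a, rfl⟩)) (Subgroup.subset_closure (Or.inr ⟨b, rfl⟩))
    · rintro _ (⟨a, rfl⟩ | ⟨b, rfl⟩)
      · rw [← map_pow]
        exact map_commutator_le i1 (Subgroup.mem_map_of_mem _ (hv a))
      · rw [← map_pow]
        exact map_commutator_le i2 (Subgroup.mem_map_of_mem _ (hJ J b))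

include K in
theorem good_twisted (hJ : ∀ J, SqD ↥(T.UF (K.cw J))) : Good ↥G1 := by
  haveI : Fact (Nat.Prime 2) := ⟨Nat.prime_two⟩
  obtain ⟨P, hP⟩ := TwistAutRigid.exists_sylow K 2
  obtain ⟨w0, hw0, -, hU⟩ := T.exists_w0_fix
  have hle : T.UF w0 ≤ G1 := K.UF_le hw0
  have e : TwistAutRigid.U1 G1 = (T.UF w0).subgroupOf G1 := by
    rw [← K.U1_eq hw0 hU, Subgroup.inf_subgroupOf_right]
    rfl
  exact good_of_sylow P ((sqD_UF K hJ hw0).congr
    ((MulEquiv.subgroupCongr (hP.trans e)).trans (Subgroup.subgroupOfEquivOfLe hle)).symm)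

/-- a subgroup of exponent two -/
theorem sqD_of_range {A : Type*} [CommGroup A] {G : Type*} [Group G] (φ : A →* G) (hA : ∀ a : A, a ^ 2 = 1)
    {H : Subgroup G} (h : H ≤ φ.range) : SqD ↥H := by
  intro x
  obtain ⟨a, ha⟩ := h x.2
  rw [show x ^ 2 = 1 from Subtype.ext (by rw [SubgroupClass.coe_pow, ← ha, ← map_pow, hA, map_one]; rfl)]
  exact one_mem _

end Twisted

theorem sq_mult {A : Type*} [Ring A] [CharP A 2] (a : Multiplicative A) : a ^ 2 = 1 := by
  rw [pow_two]
  exact CharTwo.add_self_eq_zero a.toAdd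

theorem good_E6 {K : Type*} [Field K] [Fintype K] [CharP K 2] {q : ℕ} (hK : Fintype.card K = q ^ 2)
    (f : K →+* K) (hf : ∀ t, f t = t ^ q) : Good ↥(twistedE6 K q) := by
  refine good_twisted (TwistedE6.classes f hf hK) ?_
  rintro (j | j)
  · refine sqD_of_range (TwistedE6.srHom (K := K) j) sq_mult fun u hu => ?_
    obtain ⟨t, -, rfl⟩ := TwistedE6.UF_single f hf j hu
    exact ⟨Multiplicative.ofAdd t, rfl⟩
  · refine sqD_of_range (TwistedE6.prHom (K := K) j) (fun a => ?_) (inf_le_left.trans (TwistedE6.Uw_pair f j).1)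
    rw [pow_two]
    exact Prod.ext (CharTwo.add_self_eq_zero a.toAdd.1) (CharTwo.add_self_eq_zero a.toAdd.2)

theorem good_D4 {K : Type*} [Field K] [Fintype K] [CharP K 2] {q : ℕ} (hK : Fintype.card K = q ^ 3)
    (f : K →+* K) (hf : ∀ t, f t = t ^ q) : Good ↥(twistedD4 K q) := by
  refine good_twisted (TwistedD4.classes f hf hK) ?_
  rintro (_ | _)
  · refine sqD_of_range (TwistedD4.triHom (K := K)) (fun a => ?_)
      (inf_le_left.trans (TwistedD4.Uw_false_eq f).1.le)
    rw [pow_two]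
    exact Prod.ext (CharTwo.add_self_eq_zero a.toAdd.1)
      (Prod.ext (CharTwo.add_self_eq_zero a.toAdd.2.1) (CharTwo.add_self_eq_zero a.toAdd.2.2))
  · intro x
    obtain ⟨t, ht⟩ := TwistedD4.closure_p2 (TwistedD4.Uw_true_le f x.2.1)
    rw [show x ^ 2 = 1 from Subtype.ext (by
      rw [SubgroupClass.coe_pow, ht, pow_two, xg_mul, CharTwo.add_self_eq_zero, xg_zero]; rfl)]
    exact one_mem _

section F4

open Cfsg.Agent.TwistedF4Classes

variable {K : Type*} [Field K] [Fintype K] [CharP K 2] {m : ℕ}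

theorem exists_root (hK : Fintype.card K = 2 ^ (2 * m + 1)) (r : K) : ∃ t : K, t ^ (2 ^ m + 1) = r := by
  refine (Finite.injective_iff_surjective.1 fun x y h => ?_) r
  change x ^ (2 ^ m + 1) = y ^ (2 ^ m + 1) at h
  rcases eq_or_ne y 0 with rfl | hy
  · rw [zero_pow (Nat.succ_ne_zero _)] at h
    exact (pow_eq_zero_iff (Nat.succ_ne_zero _)).1 h
  have hz : (x / y) ^ (2 ^ m + 1) = 1 := by rw [div_pow, h, div_self (pow_ne_zero _ hy)]
  set z := x / y
  have h1 : z ^ (2 ^ m) = z⁻¹ := eq_inv_of_mul_eq_one_left (by rw [← pow_succ, hz])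
  have h2 : (z ^ (2 ^ m)) ^ (2 ^ m * 2) = z := (pow_twist m hK z).1
  rw [h1, inv_pow, pow_mul, h1, inv_pow, inv_inv] at h2
  have hz0 : z ≠ 0 := fun h0 => by rw [h0, zero_pow (Nat.succ_ne_zero _)] at hz; exact zero_ne_one hz
  have : z = 1 := mul_right_cancel₀ hz0 (by rw [one_mul, ← pow_two]; exact h2)
  exact (div_eq_one_iff_eq hy).1 this

theorem exists_moved (hK : Fintype.card K = 2 ^ (2 * m + 1)) (hm : 1 ≤ m) :
    ∃ c : K, c + c ^ (2 ^ m) ≠ 0 := by
  classical
  by_contra hc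
  push Not at hc
  have hfix : ∀ c : K, c = 0 ∨ c = 1 := fun c => by
    have h : c ^ (2 ^ m) = c := (CharTwo.add_eq_zero.1 (hc c)).symm
    have h2 := (pow_twist m hK c).1
    rw [h, pow_mul, h] at h2
    have : c * (c + 1) = 0 := by linear_combination h2 + c * CharTwo.two_eq_zero (R := K)
    exact (mul_eq_zero.1 this).imp_right CharTwo.add_eq_zero.1
  have hle : Fintype.card K ≤ 2 :=
    (Fintype.card_le_of_surjective (fun b : Bool => if b then (1 : K) else 0) fun c => by
      rcases hfix c with rfl | rfl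
      exacts [⟨false, rfl⟩, ⟨true, rfl⟩]).trans (by simp)
  have : 2 ^ 3 ≤ 2 ^ (2 * m + 1) := Nat.pow_le_pow_right (by norm_num) (by omega)
  omega

theorem good_F4 (hm : 1 ≤ m) (hK : Fintype.card K = 2 ^ (2 * m + 1)) : Good ↥(twistedF4 K (2 ^ m)) := by
  refine good_twisted (TwistedF4Classes.classes m hK) ?_
  rintro (_ | _)
  · refine sqD_of_range (TwistedF4Classes.prHom (K := K)) (fun a => ?_) (inf_le_left.trans (Uw_pair m).1)
    rw [pow_two]
    exact Prod.ext (CharTwo.add_self_eq_zero a.toAdd.1) (CharTwo.add_self_eq_zero a.toAdd.2)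
  · show SqD ↥((tw (K := K) m).UF ((tw m).wd (clF true)))
    intro x
    obtain ⟨s, u, hx⟩ := UF_four m hK x.2
    obtain ⟨c, hc⟩ := exists_moved hK hm
    obtain ⟨t, ht⟩ := exists_root hK (s ^ (2 ^ m + 1) / (c + c ^ (2 ^ m)))
    rw [eq_div_iff hc] at ht
    have mem : ∀ a b : K, bw m bl a b ∈ (tw (K := K) m).UF ((tw m).wd (clF true)) := fun a b =>
      ⟨four_mem_Uw m _ _ _ _, le_fixed m hK (gens_mem m a b).2.2.1⟩
    let p : ↥((tw (K := K) m).UF ((tw m).wd (clF true))) := ⟨_, mem t 0⟩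
    let r : ↥((tw (K := K) m).UF ((tw m).wd (clF true))) := ⟨_, mem (c * t) 0⟩
    have key : p * r = x ^ 2 * (r * p) := by
      refine Subtype.ext ?_
      show bw m bl t 0 * bw m bl (c * t) 0 = (x : GL chevF4.Idx K) ^ 2 * (bw m bl (c * t) 0 * bw m bl t 0)
      rw [hx, pow_two]
      simp only [bw, four_mul (show bl ∈ [bl, bln] by simp), zero_pow (show 2 ^ m * 2 ≠ 0 by positivity)]
      have two := CharTwo.two_eq_zero (R := K)
      have h2e : ∀ a b : K, (a + b) ^ (2 ^ m * 2) = a ^ (2 ^ m * 2) + b ^ (2 ^ m * 2) := fun a b => by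
        rw [← pow_succ]; exact add_pow_char_pow a b 2 (m + 1)
      have hd := congrArg (fun z : K => z ^ (2 ^ m * 2)) ht
      simp only [mul_pow, pow_succ, h2e, (pow_twist m hK c).1, (pow_twist m hK s).1, (pow_twist m hK t).1] at hd
      congr 1
      · linear_combination (-(s ^ (2 ^ m))) * two
      · linear_combination (-s) * two
      · rw [mul_pow]
        linear_combination ht + (-(s ^ (2 ^ m + 1)) - u - c * t ^ (2 ^ m + 1) - s * t ^ (2 ^ m) * (c ^ (2 ^ m) + 1)) * two
      · simp only [← pow_mul] at hd ⊢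
        simp only [mul_pow, ← pow_mul]
        linear_combination hd + (-(u ^ (2 ^ m * 2)) - c * t * t ^ (2 ^ m * 2) -
          s * t ^ (2 ^ m * 2) * (2 * c ^ (2 ^ m) + c ^ (2 ^ m * 2) + 1)) * two
    have hcomm : x ^ 2 = ⁅p, r⁆ := by rw [commutatorElement_def, key]; group
    rw [hcomm]
    exact Subgroup.commutator_mem_commutator (Subgroup.mem_top _) (Subgroup.mem_top _)

end F4

theorem good_suzuki {K : Type*} [Field K] [Fintype K] {m : ℕ} (hm : 1 ≤ m)
    (hK : Fintype.card K = 2 ^ (2 * m + 1)) : Good ↥(Lie.Sz K (2 ^ (m + 1))) := by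
  haveI := SuzukiGroupBasic.Param.mk' hm hK
  refine good_congr (SuzukiGroupLie.lieEquiv (F := K) (m := m)).symm (good_of_oddIndex
    SuzukiGroupStructure.isPGroup_unipotent SuzukiGroupStructure.odd_index_unipotent ?_)
  rintro ⟨_, a, b, rfl⟩
  obtain ⟨x, hx, y, hy, hxy⟩ := SuzukiGroupStructure.exists_commutator (m := m) (SuzukiGroupBasic.sg m a * a)
  rw [show (⟨_, a, b, rfl⟩ : ↥(SuzukiGroupStructure.unipotent (F := K) (m := m))) ^ 2 =
    ⁅(⟨x, hx⟩ : ↥(SuzukiGroupStructure.unipotent (F := K) (m := m))), ⟨y, hy⟩⁆ from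
    Subtype.ext ((SuzukiGroupStructure.Ts_sq a b).trans hxy.symm)]
  exact Subgroup.commutator_mem_commutator (Subgroup.mem_top _) (Subgroup.mem_top _)

end Cfsg.Agent.SqDerivedExc48
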