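import Cfsg.Agent.Lib.SqDerivedBasic48

/-!
Isometry groups of forms in characteristic two: the stabiliser of a singular vector and the induction step for
the squares in a Sylow 2-subgroup.
-/

set_option autoImplicit false
set_option linter.unusedSectionVars false

namespace Cfsg.Agent.SqDerivedForms48

open Cfsg.Agent.SqDerivedBasic48

universe uF uV

/-- a hermitian, symmetric or alternating form with a companion function on vectors -/
structure Frm (F : Type uF) (V : Type uV) [Field F] [AddCommGroup V] [Module F V] where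
  σ : F →+* F
  B : V → V → F
  q : V → F
  τ : F →+ F
  σσ : ∀ a, σ (σ a) = a
  add_left : ∀ u v w, B (u + v) w = B u w + B v w
  smul_left : ∀ (a : F) u w, B (a • u) w = a * B u w
  herm : ∀ u v, B v u = σ (B u v)
  q_add : ∀ u v, q (u + v) = q u + q v + τ (B u v)
  q_smul : ∀ (a : F) v, q v = 0 → q (a • v) = 0
  self : ∀ v, q v = 0 → B v v = 0
  nondeg : ∀ v, (∀ w, B w v = 0) → v = 0

theorem add_self {F : Type uF} [Field F] [CharP F 2] {V : Type uV} [AddCommGroup V] [Module F V] (v : V) :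
    v + v = 0 := by
  rw [← two_smul F v, CharTwo.two_eq_zero, zero_smul]

variable {F : Type uF} [Field F] [CharP F 2] {V : Type uV} [AddCommGroup V] [Module F V] (Φ : Frm F V)

namespace Frm

theorem zero_left (w : V) : Φ.B 0 w = 0 := by
  have h := Φ.smul_left 0 0 w
  rwa [zero_smul, zero_mul] at h

theorem zero_right (w : V) : Φ.B w 0 = 0 := by rw [Φ.herm 0 w, Φ.zero_left, map_zero]

theorem add_right (u v w : V) : Φ.B u (v + w) = Φ.B u v + Φ.B u w := by
  rw [Φ.herm (v + w) u, Φ.add_left, map_add, ← Φ.herm, ← Φ.herm]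

theorem smul_right (a : F) (u w : V) : Φ.B u (a • w) = Φ.σ a * Φ.B u w := by
  rw [Φ.herm (a • w) u, Φ.smul_left, map_mul, ← Φ.herm]

theorem q_zero : Φ.q 0 = 0 := by
  have h := Φ.q_add 0 0
  rw [add_zero, Φ.zero_left, map_zero, add_zero] at h
  linear_combination -h

/-- `B` as a linear form in the first variable -/
def lin (v : V) : V →ₗ[F] F where
  toFun w := Φ.B w v
  map_add' a b := Φ.add_left a b v
  map_smul' c a := Φ.smul_left c a v

/-- the isometries -/
def iso : Subgroup (V ≃ₗ[F] V) where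
  carrier := {g | (∀ u v, Φ.B (g u) (g v) = Φ.B u v) ∧ ∀ v, Φ.q (g v) = Φ.q v}
  one_mem' := ⟨fun _ _ => rfl, fun _ => rfl⟩
  mul_mem' {a b} ha hb :=
    ⟨fun u v => (ha.1 (b u) (b v)).trans (hb.1 u v), fun v => (ha.2 (b v)).trans (hb.2 v)⟩
  inv_mem' {a} ha := by
    refine ⟨fun u v => ?_, fun v => ?_⟩
    · have h := ha.1 (a.symm u) (a.symm v)
      rw [LinearEquiv.apply_symm_apply, LinearEquiv.apply_symm_apply] at h
      exact h.symm
    · have h := ha.2 (a.symm v)
      rw [LinearEquiv.apply_symm_apply] at h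
      exact h.symm

theorem finite_iso [Finite V] : Finite ↥Φ.iso := by
  haveI : Finite (V ≃ₗ[F] V) := Finite.of_injective (fun g => (g : V → V)) DFunLike.coe_injective
  infer_instance

end Frm

/-- a singular pair -/
structure Pr where
  e : V
  f : V
  qe : Φ.q e = 0
  qf : Φ.q f = 0
  ef : Φ.B e f = 1

namespace Pr

variable {Φ} (p : Pr Φ)

theorem ee : Φ.B p.e p.e = 0 := Φ.self _ p.qe

theorem ff : Φ.B p.f p.f = 0 := Φ.self _ p.qf

theorem fe : Φ.B p.f p.e = 1 := by rw [Φ.herm p.e p.f, p.ef, map_one]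

theorem e_ne : p.e ≠ 0 := fun h => one_ne_zero (p.ef.symm.trans (by rw [h, Φ.zero_left]))

/-- the complement of the plane -/
def perp : Submodule F V := LinearMap.ker (Φ.lin p.e) ⊓ LinearMap.ker (Φ.lin p.f)

theorem mem_perp {w : V} : w ∈ p.perp ↔ Φ.B w p.e = 0 ∧ Φ.B w p.f = 0 := Iff.rfl

theorem perp_e {w : V} (h : w ∈ p.perp) : Φ.B w p.e = 0 ∧ Φ.B p.e w = 0 :=
  ⟨h.1, by rw [Φ.herm w p.e, show Φ.B w p.e = 0 from h.1, map_zero]⟩

theorem perp_f {w : V} (h : w ∈ p.perp) : Φ.B w p.f = 0 ∧ Φ.B p.f w = 0 :=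
  ⟨h.2, by rw [Φ.herm w p.f, show Φ.B w p.f = 0 from h.2, map_zero]⟩

theorem finrank_perp_lt [Finite V] : Module.finrank F ↥p.perp < Module.finrank F V :=
  Submodule.finrank_lt fun h =>
    one_ne_zero (p.ef.symm.trans (p.mem_perp.1 (h ▸ Submodule.mem_top : p.e ∈ p.perp)).2)

/-- the projection onto the complement -/
def proj : V →ₗ[F] ↥p.perp :=
  LinearMap.codRestrict p.perp
    (LinearMap.id + (Φ.lin p.f).smulRight p.e + (Φ.lin p.e).smulRight p.f) fun w => by
      rw [mem_perp]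
      simp only [LinearMap.add_apply, LinearMap.id_apply, LinearMap.smulRight_apply, Φ.add_left, Φ.smul_left,
        p.ee, p.fe, p.ef, p.ff]
      refine ⟨?_, ?_⟩ <;> simp [Frm.lin, CharTwo.add_self_eq_zero]

theorem coe_proj (w : V) : (p.proj w : V) = w + Φ.B w p.f • p.e + Φ.B w p.e • p.f := rfl

theorem decomp (w : V) : w = (p.proj w : V) + Φ.B w p.f • p.e + Φ.B w p.e • p.f := by
  have h1 := add_self (F := F) (Φ.B w p.f • p.e)
  have h2 := add_self (F := F) (Φ.B w p.e • p.f)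
  calc w = w + ((Φ.B w p.f • p.e + Φ.B w p.f • p.e) + (Φ.B w p.e • p.f + Φ.B w p.e • p.f)) := by
        rw [h1, h2, add_zero, add_zero]
    _ = _ := by rw [coe_proj]; abel

theorem proj_of_mem {w : V} (h : w ∈ p.perp) : (p.proj w : V) = w := by
  rw [coe_proj, (p.perp_e h).1, (p.perp_f h).1, zero_smul, zero_smul, add_zero, add_zero]

theorem proj_coe (w : ↥p.perp) : p.proj (w : V) = w := Subtype.ext (p.proj_of_mem w.2)

theorem proj_e : p.proj p.e = 0 := Subtype.ext (by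
  rw [coe_proj, p.ef, p.ee, one_smul, zero_smul, add_zero]
  exact add_self (F := F) p.e)

theorem proj_f : p.proj p.f = 0 := Subtype.ext (by
  rw [coe_proj, p.ff, p.fe, one_smul, zero_smul, add_zero]
  exact add_self (F := F) p.f)

theorem coords {a : V} (ha : a ∈ p.perp) (α β : F) :
    Φ.B (a + α • p.e + β • p.f) p.e = β ∧ Φ.B (a + α • p.e + β • p.f) p.f = α ∧
      (p.proj (a + α • p.e + β • p.f) : V) = a := by
  refine ⟨?_, ?_, ?_⟩
  · simp [Φ.add_left, Φ.smul_left, (p.perp_e ha).1, p.ee, p.fe]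
  · simp [Φ.add_left, Φ.smul_left, (p.perp_f ha).1, p.ef, p.ff]
  · rw [map_add, map_add, map_smul, map_smul, p.proj_e, p.proj_f, smul_zero, smul_zero, add_zero, add_zero]
    exact p.proj_of_mem ha

theorem B_expand {a a' : V} (ha : a ∈ p.perp) (ha' : a' ∈ p.perp) (α β γ δ : F) :
    Φ.B (a + α • p.e + β • p.f) (a' + γ • p.e + δ • p.f) = Φ.B a a' + α * Φ.σ δ + β * Φ.σ γ := by
  simp only [Φ.add_left, Φ.add_right, Φ.smul_left, Φ.smul_right, (p.perp_e ha).1, (p.perp_f ha).1,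
    (p.perp_e ha').2, (p.perp_f ha').2, p.ee, p.ff, p.ef, p.fe]
  ring

theorem q_expand {a : V} (ha : a ∈ p.perp) (α β : F) :
    Φ.q (a + α • p.e + β • p.f) = Φ.q a + Φ.q (α • p.e + β • p.f) := by
  rw [add_assoc, Φ.q_add, Φ.add_right, Φ.smul_right, Φ.smul_right, (p.perp_e ha).1, (p.perp_f ha).1,
    mul_zero, mul_zero, add_zero, map_zero, add_zero]

/-- the form on the complement -/
def res : Frm F ↥p.perp where
  σ := Φ.σ
  B u v := Φ.B u v
  q u := Φ.q u
  τ := Φ.τ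
  σσ := Φ.σσ
  add_left u v w := Φ.add_left u v w
  smul_left a u w := Φ.smul_left a u w
  herm u v := Φ.herm u v
  q_add u v := Φ.q_add u v
  q_smul a v := Φ.q_smul a v
  self v := Φ.self v
  nondeg v hv := by
    refine Subtype.ext (Φ.nondeg v fun w => ?_)
    conv_lhs => rw [p.decomp w]
    rw [Φ.add_left, Φ.add_left, Φ.smul_left, Φ.smul_left, (p.perp_e v.2).2, (p.perp_f v.2).2, hv (p.proj w),
      mul_zero, mul_zero, add_zero, add_zero]

/-- the stabiliser of the first vector -/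
def stab : Subgroup ↥Φ.iso where
  carrier := {g | g.1 p.e = p.e}
  one_mem' := rfl
  mul_mem' {a b} (ha : a.1 p.e = p.e) (hb : b.1 p.e = p.e) := show a.1 (b.1 p.e) = p.e by rw [hb, ha]
  inv_mem' {a} (ha : a.1 p.e = p.e) := show a.1.symm p.e = p.e by rw [LinearEquiv.symm_apply_eq, ha]

theorem stab_apply (g : ↥p.stab) : g.1.1 p.e = p.e := g.2

theorem stab_perp (g : ↥p.stab) (w : ↥p.perp) :
    g.1.1 (w : V) = (p.proj (g.1.1 w) : V) + Φ.B (g.1.1 w) p.f • p.e := by
  have h0 : Φ.B (g.1.1 w) p.e = 0 := by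
    conv_lhs => rw [← p.stab_apply g, g.1.2.1]
    exact (p.perp_e w.2).1
  conv_lhs => rw [p.decomp (g.1.1 w)]
  rw [h0, zero_smul, add_zero]

/-- the induced map on the complement -/
def phiLin (g : ↥p.stab) : ↥p.perp →ₗ[F] ↥p.perp :=
  p.proj.comp (g.1.1.toLinearMap.comp p.perp.subtype)

theorem phiLin_apply (g : ↥p.stab) (w : ↥p.perp) : p.phiLin g w = p.proj (g.1.1 w) := rfl

theorem phiLin_mul (g h : ↥p.stab) (w : ↥p.perp) : p.phiLin (g * h) w = p.phiLin g (p.phiLin h w) := by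
  rw [phiLin_apply, phiLin_apply, phiLin_apply]
  show p.proj (g.1.1 (h.1.1 w)) = _
  conv_lhs => rw [p.stab_perp h w]
  rw [map_add, map_smul, p.stab_apply, map_add, map_smul, p.proj_e, smul_zero, add_zero]

theorem phiLin_one (w : ↥p.perp) : p.phiLin 1 w = w := p.proj_coe w

/-- the induced isometry of the complement -/
def phi : ↥p.stab →* ↥p.res.iso where
  toFun g := ⟨{
      toLinearMap := p.phiLin g
      invFun := p.phiLin g⁻¹
      left_inv := fun w => (p.phiLin_mul g⁻¹ g w).symm.trans (by rw [inv_mul_cancel]; exact p.phiLin_one w)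
      right_inv := fun w => (p.phiLin_mul g g⁻¹ w).symm.trans (by rw [mul_inv_cancel]; exact p.phiLin_one w) }, by
    refine ⟨fun u v => ?_, fun v => ?_⟩
    · show Φ.B (p.proj (g.1.1 u) : V) (p.proj (g.1.1 v) : V) = Φ.B u v
      rw [← g.1.2.1 (u : V) v]
      conv_rhs => rw [p.stab_perp g u, p.stab_perp g v]
      simp only [Φ.add_left, Φ.add_right, Φ.smul_left, Φ.smul_right, (p.perp_e (p.proj (g.1.1 u)).2).1,
        (p.perp_e (p.proj (g.1.1 v)).2).2, p.ee]
      ring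
    · show Φ.q (p.proj (g.1.1 v) : V) = Φ.q v
      rw [← g.1.2.2 (v : V)]
      conv_rhs => rw [p.stab_perp g v]
      rw [Φ.q_add, Φ.smul_right, (p.perp_e (p.proj (g.1.1 v)).2).1, mul_zero, map_zero, add_zero,
        Φ.q_smul _ _ p.qe, add_zero]⟩
  map_one' := Subtype.ext (LinearEquiv.ext fun w => p.phiLin_one w)
  map_mul' g h := Subtype.ext (LinearEquiv.ext fun w => p.phiLin_mul g h w)

theorem phi_apply (g : ↥p.stab) (w : ↥p.perp) : (p.phi g).1 w = p.proj (g.1.1 w) := rfl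

/-- the extension of a map of the complement -/
def secLin (g : ↥p.perp →ₗ[F] ↥p.perp) : V →ₗ[F] V :=
  (p.perp.subtype.comp (g.comp p.proj)) + (Φ.lin p.f).smulRight p.e + (Φ.lin p.e).smulRight p.f

theorem secLin_apply (g : ↥p.perp →ₗ[F] ↥p.perp) (w : V) :
    p.secLin g w = (g (p.proj w) : V) + Φ.B w p.f • p.e + Φ.B w p.e • p.f := rfl

theorem secLin_coords (g : ↥p.perp →ₗ[F] ↥p.perp) (w : V) :
    Φ.B (p.secLin g w) p.e = Φ.B w p.e ∧ Φ.B (p.secLin g w) p.f = Φ.B w p.f ∧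
      p.proj (p.secLin g w) = g (p.proj w) := by
  obtain ⟨h1, h2, h3⟩ := p.coords (g (p.proj w)).2 (Φ.B w p.f) (Φ.B w p.e)
  exact ⟨h1, h2, Subtype.ext h3⟩

theorem secLin_mul (g h : ↥p.perp →ₗ[F] ↥p.perp) (w : V) :
    p.secLin g (p.secLin h w) = p.secLin (g.comp h) w := by
  obtain ⟨h1, h2, h3⟩ := p.secLin_coords h w
  rw [p.secLin_apply g, h1, h2, h3]
  rfl

theorem secLin_id (w : V) : p.secLin LinearMap.id w = w := (p.decomp w).symm

/-- the extension of an isometry of the complement -/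
def secIso (g : ↥p.res.iso) : ↥Φ.iso :=
  ⟨{ toLinearMap := p.secLin g.1.toLinearMap
     invFun := p.secLin g.1.symm.toLinearMap
     left_inv := fun w => by
      show p.secLin g.1.symm.toLinearMap (p.secLin g.1.toLinearMap w) = w
      rw [p.secLin_mul, LinearEquiv.symm_comp]
      exact p.secLin_id w
     right_inv := fun w => by
      show p.secLin g.1.toLinearMap (p.secLin g.1.symm.toLinearMap w) = w
      rw [p.secLin_mul, LinearEquiv.comp_symm]
      exact p.secLin_id w }, by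
    refine ⟨fun u v => ?_, fun v => ?_⟩
    · show Φ.B (p.secLin g.1.toLinearMap u) (p.secLin g.1.toLinearMap v) = Φ.B u v
      rw [p.secLin_apply, p.secLin_apply]
      refine (p.B_expand (g.1 (p.proj u)).2 (g.1 (p.proj v)).2 _ _ _ _).trans ?_
      conv_rhs => rw [p.decomp u, p.decomp v, p.B_expand (p.proj u).2 (p.proj v).2]
      have e : Φ.B (g.1 (p.proj u) : V) (g.1 (p.proj v) : V) = Φ.B (p.proj u : V) (p.proj v : V) :=
        g.2.1 (p.proj u) (p.proj v)
      exact congrArg (fun z => z + Φ.B u p.f * Φ.σ (Φ.B v p.e) + Φ.B u p.e * Φ.σ (Φ.B v p.f)) e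
    · show Φ.q (p.secLin g.1.toLinearMap v) = Φ.q v
      rw [p.secLin_apply]
      refine (p.q_expand (g.1 (p.proj v)).2 _ _).trans ?_
      conv_rhs => rw [p.decomp v, p.q_expand (p.proj v).2]
      have e : Φ.q (g.1 (p.proj v) : V) = Φ.q (p.proj v : V) := g.2.2 (p.proj v)
      exact congrArg (fun z => z + Φ.q (Φ.B v p.f • p.e + Φ.B v p.e • p.f)) e⟩

theorem secIso_apply (g : ↥p.res.iso) (w : V) :
    (p.secIso g).1 w = (g.1 (p.proj w) : V) + Φ.B w p.f • p.e + Φ.B w p.e • p.f := rfl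

/-- the section -/
def sec : ↥p.res.iso →* ↥p.stab where
  toFun g := ⟨p.secIso g, by
    show (p.secIso g).1 p.e = p.e
    rw [secIso_apply, p.proj_e, map_zero, p.ef, p.ee, one_smul, zero_smul]
    simp⟩
  map_one' := Subtype.ext (Subtype.ext (LinearEquiv.ext fun w => p.secLin_id w))
  map_mul' g h := Subtype.ext (Subtype.ext (LinearEquiv.ext fun w => (p.secLin_mul g.1.toLinearMap h.1.toLinearMap w).symm))

theorem phi_sec (g : ↥p.res.iso) : p.phi (p.sec g) = g :=
  Subtype.ext (LinearEquiv.ext fun w =>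
    show p.proj (p.secLin g.1.toLinearMap w) = g.1 w by
      rw [(p.secLin_coords _ _).2.2, p.proj_coe]; rfl)

/-- the radical -/
abbrev Q : Subgroup ↥p.stab := p.phi.ker

theorem mem_Q {k : ↥p.stab} : k ∈ p.Q ↔ ∀ w : ↥p.perp, p.proj (k.1.1 w) = w := by
  rw [MonoidHom.mem_ker]
  refine ⟨fun h w => ?_, fun h => Subtype.ext (LinearEquiv.ext h)⟩
  rw [← p.phi_apply, h]
  rfl

/-- the shape of the elements of the radical -/
def em (v : V) (d : F) (w : V) : V := w + Φ.B w p.e • v + (Φ.B w v + Φ.B w p.e * d) • p.e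

theorem em_e {v : V} (hv : v ∈ p.perp) (d : F) (w : V) : Φ.B (p.em v d w) p.e = Φ.B w p.e := by
  simp [em, Φ.add_left, Φ.smul_left, (p.perp_e hv).1, p.ee]

theorem em_em {v u : V} (hv : v ∈ p.perp) (hu : u ∈ p.perp) (d d' : F) (w : V) :
    p.em v d (p.em u d' w) = p.em (v + u) (d + d' + Φ.B u v) w := by
  have h1 := p.em_e hu d' w
  have h2 : Φ.B (p.em u d' w) v = Φ.B w v + Φ.B w p.e * Φ.B u v := by
    simp [em, Φ.add_left, Φ.smul_left, (p.perp_e hv).2]
  rw [em, h1, h2, em, em, Φ.add_right]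
  module

theorem em_zero (w : V) : p.em 0 0 w = w := by simp [em, Φ.zero_right]

theorem em_fixed {v : V} (hv : v ∈ p.perp) {d : F} (hvd : v ≠ 0 ∨ d ≠ 0) {w : V} (h : p.em v d w = w) :
    Φ.B w p.e = 0 := by
  rw [em, add_assoc, add_eq_left] at h
  have hp : Φ.B w p.e • v = 0 := by
    have h' := congrArg (fun x => (p.proj x : V)) h
    simpa [p.proj_e, p.proj_of_mem hv] using h'
  rw [hp, zero_add, smul_eq_zero, or_iff_left p.e_ne] at h
  rcases smul_eq_zero.1 hp with h0 | rfl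
  · exact h0
  · rw [Φ.zero_right, zero_add] at h
    exact (mul_eq_zero.1 h).resolve_right (hvd.resolve_left fun hh => hh rfl)

theorem em_B {v : V} (hv : v ∈ p.perp) {d : F} (hd : d + Φ.σ d = Φ.B v v) (u w : V) :
    Φ.B (p.em v d u) (p.em v d w) = Φ.B u w := by
  simp only [em, Φ.add_left, Φ.add_right, Φ.smul_left, Φ.smul_right, map_add, map_mul, (p.perp_e hv).1,
    (p.perp_e hv).2, p.ee]
  rw [← Φ.herm w v, ← Φ.herm w p.e, ← hd]
  have e2 : (2 : F) = 0 := CharTwo.two_eq_zero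
  linear_combination (Φ.B u p.e * Φ.B v w + Φ.B p.e w * Φ.B u v + Φ.B u p.e * Φ.B p.e w * (d + Φ.σ d)) * e2

theorem Q_shape {k : ↥p.stab} (hk : k ∈ p.Q) :
    ∃ v, v ∈ p.perp ∧ ∃ d, k.1.1 p.f = p.f + v + d • p.e ∧ ∀ w, k.1.1 w = p.em v d w := by
  set z := k.1.1 p.f + p.f with hz
  have hze : Φ.B z p.e = 0 := by
    rw [hz, Φ.add_left, p.fe]
    conv_lhs => arg 1; rw [← p.stab_apply k, k.1.2.1, p.fe]
    exact CharTwo.add_self_eq_zero 1
  set d := Φ.B z p.f
  set v := z + d • p.e with hv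
  have hvp : v ∈ p.perp := by
    rw [mem_perp, hv]
    simp [Φ.add_left, Φ.smul_left, p.ee, p.ef, hze, d, CharTwo.add_self_eq_zero]
  have hkf : k.1.1 p.f = p.f + v + d • p.e := by
    have h1 := add_self (F := F) p.f
    have h2 := add_self (F := F) (d • p.e)
    calc k.1.1 p.f = k.1.1 p.f + (p.f + p.f) + (d • p.e + d • p.e) := by rw [h1, h2, add_zero, add_zero]
      _ = _ := by rw [hv, hz]; abel
  have hperp : ∀ a : ↥p.perp, k.1.1 (a : V) = (a : V) + Φ.B (a : V) v • p.e := by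
    intro a
    set c := Φ.B (k.1.1 a) p.f
    have hka : k.1.1 (a : V) = (a : V) + c • p.e := by
      rw [p.stab_perp k a, p.mem_Q.1 hk a]
    have h := k.1.2.1 (a : V) p.f
    rw [hka, hkf] at h
    simp only [Φ.add_left, Φ.add_right, Φ.smul_left, Φ.smul_right, (p.perp_e a.2).1, (p.perp_f a.2).1,
      (p.perp_e hvp).2, p.ee, p.ef, mul_zero, add_zero, zero_add, mul_one] at h
    have hc : c = Φ.B (a : V) v := by linear_combination h - (Φ.B (a : V) v) * (CharTwo.two_eq_zero (R := F))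
    rw [hka, hc]
  refine ⟨v, hvp, d, hkf, fun w => ?_⟩
  have hBv : Φ.B w v = Φ.B (p.proj w : V) v := by
    conv_lhs => rw [p.decomp w]
    simp [Φ.add_left, Φ.smul_left, (p.perp_e hvp).2, (p.perp_f hvp).2]
  conv_lhs => rw [p.decomp w]
  rw [map_add, map_add, map_smul, map_smul, p.stab_apply, hperp, hkf, em, hBv]
  conv_rhs => arg 1; arg 1; rw [p.decomp w]
  module

theorem Q_sq {k : ↥p.stab} {v : V} {d : F} (hv : v ∈ p.perp) (h : ∀ w, k.1.1 w = p.em v d w) (w : V) :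
    (k ^ 2 : ↥p.stab).1.1 w = p.em 0 (Φ.B v v) w := by
  rw [pow_two]
  show k.1.1 (k.1.1 w) = _
  rw [h, h, p.em_em hv hv, add_self (F := F) v, CharTwo.add_self_eq_zero, zero_add]

theorem Q_sq_eq_one (h0 : ∀ v ∈ p.perp, Φ.B v v = 0) {k : ↥p.stab} (hk : k ∈ p.Q) : k ^ 2 = 1 := by
  obtain ⟨v, hv, d, -, h⟩ := p.Q_shape hk
  refine Subtype.ext (Subtype.ext (LinearEquiv.ext fun w => ?_))
  rw [p.Q_sq hv h, h0 v hv, p.em_zero]
  rfl

theorem Q_pow_four {k : ↥p.stab} (hk : k ∈ p.Q) : k ^ 4 = 1 := by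
  obtain ⟨v, hv, d, -, h⟩ := p.Q_shape hk
  refine Subtype.ext (Subtype.ext (LinearEquiv.ext fun w => ?_))
  rw [show k ^ 4 = (k ^ 2) ^ 2 by rw [← pow_mul]]
  rw [p.Q_sq (zero_mem _) (p.Q_sq hv h), Φ.zero_left, p.em_zero]
  rfl

/-- an element of the radical of given shape -/
def mkQ {v : V} (hv : v ∈ p.perp) (d : F) (hd : d + Φ.σ d = Φ.B v v) (hq : ∀ w, Φ.q (p.em v d w) = Φ.q w) :
    ↥p.stab :=
  ⟨⟨{ toFun := p.em v d
      map_add' := fun a b => by simp only [em, Φ.add_left]; module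
      map_smul' := fun c a => by simp only [em, Φ.smul_left, RingHom.id_apply]; module
      invFun := p.em v (d + Φ.B v v)
      left_inv := fun w => by
        rw [p.em_em hv hv, add_self (F := F) v,
          show d + Φ.B v v + d + Φ.B v v = 0 by linear_combination (d + Φ.B v v) * (CharTwo.two_eq_zero (R := F))]
        exact p.em_zero w
      right_inv := fun w => by
        rw [p.em_em hv hv, add_self (F := F) v,
          show d + (d + Φ.B v v) + Φ.B v v = 0 by linear_combination (d + Φ.B v v) * (CharTwo.two_eq_zero (R := F))]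
        exact p.em_zero w },
      fun u w => p.em_B hv hd u w, hq⟩,
    show p.em v d p.e = p.e by simp [em, p.ee, (p.perp_e hv).2]⟩

theorem mkQ_apply {v : V} (hv : v ∈ p.perp) (d : F) (hd : d + Φ.σ d = Φ.B v v)
    (hq : ∀ w, Φ.q (p.em v d w) = Φ.q w) (w : V) : (p.mkQ hv d hd hq).1.1 w = p.em v d w := rfl

theorem mkQ_mem {v : V} (hv : v ∈ p.perp) (d : F) (hd : d + Φ.σ d = Φ.B v v)
    (hq : ∀ w, Φ.q (p.em v d w) = Φ.q w) : p.mkQ hv d hd hq ∈ p.Q := by
  rw [mem_Q]
  intro w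
  rw [mkQ_apply, em, (p.perp_e w.2).1, zero_smul, zero_mul, add_zero, add_zero, map_add, map_smul, p.proj_e,
    smul_zero, add_zero, p.proj_coe]

end Pr

variable {Φ}

theorem exists_pair (hτ : ∀ u, ∃ c, Φ.τ c = Φ.q u) {e : V} (he : Φ.q e = 0) (he0 : e ≠ 0) :
    ∃ p : Pr Φ, p.e = e := by
  obtain ⟨u, hu⟩ : ∃ u, Φ.B e u ≠ 0 := by
    by_contra h
    push Not at h
    exact he0 (Φ.nondeg e fun w => by rw [Φ.herm e w, h, map_zero])
  set u1 := Φ.σ (Φ.B e u)⁻¹ • u with hu1d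
  have h1 : Φ.B e u1 = 1 := by rw [hu1d, Φ.smul_right, Φ.σσ, inv_mul_cancel₀ hu]
  obtain ⟨c, hc⟩ := hτ u1
  refine ⟨⟨e, u1 + Φ.σ c • e, he, ?_, ?_⟩, rfl⟩
  · rw [Φ.q_add, Φ.q_smul _ _ he, Φ.smul_right, Φ.herm e u1, h1, map_one, mul_one, Φ.σσ, hc, add_zero,
      CharTwo.add_self_eq_zero]
  · rw [Φ.add_right, h1, Φ.smul_right, Φ.self e he, mul_zero, add_zero]

/-- the restriction of a homomorphism to the isometries of the complement -/
def resHom {A : Type*} [Group A] (p : Pr Φ) (D : ↥Φ.iso →* A) : ↥p.res.iso →* A :=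
  D.comp (p.stab.subtype.comp p.sec)

open Classical in
/-- the induction step -/
theorem step [Finite V] {A : Type*} [Group A] (D : ↥Φ.iso →* A) (hτ : ∀ u, ∃ c, Φ.τ c = Φ.q u)
    (hQ : ∀ p : Pr Φ, ∀ k ∈ p.Q, D k.1 = 1) (hSq : ∀ p : Pr Φ, SqD ↥p.Q)
    (hE : ∃ p : Pr Φ, ∃ v ∈ p.perp, ∃ d, Φ.B v v = 0 ∧ (v ≠ 0 ∨ d ≠ 0) ∧ ∀ w, Φ.q (p.em v d w) = Φ.q w)
    (hIH : ∀ p : Pr Φ, Good ↥(resHom p D).ker) : Good ↥D.ker := by
  haveI := Φ.finite_iso
  obtain ⟨P⟩ : Nonempty (Sylow 2 ↥D.ker) := inferInstance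
  -- a singular vector fixed by the Sylow subgroup
  obtain ⟨p0, v, hv, d, hvv, hvd, hq⟩ := hE
  letI : MulAction ↥D.ker {x : V // Φ.q x = 0} :=
    { smul := fun g x => ⟨g.1.1 x.1, (g.1.2.2 x.1).trans x.2⟩
      one_smul := fun x => Subtype.ext rfl
      mul_smul := fun g h x => Subtype.ext rfl }
  have heven : 2 ∣ Nat.card {x : V // Φ.q x = 0} := by
    refine even_of_involution (fun x => if h : Φ.B x.1 p0.e = 0 then ⟨x.1 + p0.e, by
        rw [Φ.q_add, x.2, p0.qe, zero_add, zero_add, h, map_zero]⟩ else ⟨p0.em v d x.1, (hq x.1).trans x.2⟩) ?_ ?_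
    · intro x
      by_cases h : Φ.B x.1 p0.e = 0
      · have h' : Φ.B (x.1 + p0.e) p0.e = 0 := by rw [Φ.add_left, h, p0.ee, add_zero]
        simp only [h, h', dite_true]
        exact Subtype.ext (by simp only; rw [add_assoc, add_self (F := F), add_zero])
      · have h' : Φ.B (p0.em v d x.1) p0.e ≠ 0 := by rwa [p0.em_e hv]
        simp only [h, h', dite_false]
        refine Subtype.ext ?_
        simp only
        rw [p0.em_em hv hv, hvv, add_self (F := F) v, CharTwo.add_self_eq_zero, zero_add, p0.em_zero]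
    · intro x hx
      by_cases h : Φ.B x.1 p0.e = 0
      · simp only [h, dite_true] at hx
        exact p0.e_ne (add_eq_left.1 (congrArg Subtype.val hx))
      · simp only [h, dite_false] at hx
        exact h (p0.em_fixed hv hvd (congrArg Subtype.val hx))
  obtain ⟨b, hb0, hb⟩ := exists_fixed_ne (P : Subgroup ↥D.ker) P.2 heven
    (a := ⟨0, Φ.q_zero⟩) (fun g => Subtype.ext (map_zero g.1.1))
  obtain ⟨p, hp⟩ := exists_pair hτ b.2 (fun h => hb0 (Subtype.ext h))
  -- its stabiliser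
  set H : Subgroup ↥D.ker := p.stab.comap D.ker.subtype with hH
  have hle : (P : Subgroup ↥D.ker) ≤ H := fun g hg => by
    show g.1.1 p.e = p.e
    rw [hp]
    exact congrArg Subtype.val (hb g hg)
  refine good_of_le P hle ?_
  let ι : ↥H →* ↥p.stab :=
    { toFun := fun h => ⟨h.1.1, h.2⟩
      map_one' := rfl
      map_mul' := fun _ _ => rfl }
  have hD : ∀ h : ↥p.stab, D (p.sec (p.phi h)).1 = D h.1 := by
    intro h
    have hk : (p.sec (p.phi h))⁻¹ * h ∈ p.Q := by
      rw [MonoidHom.mem_ker, map_mul, map_inv, p.phi_sec, inv_mul_cancel]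
    have h1 := hQ p _ hk
    rw [Subgroup.coe_mul, Subgroup.coe_inv, map_mul, map_inv, inv_mul_eq_one] at h1
    exact h1
  let f : ↥H →* ↥(resHom p D).ker := (p.phi.comp ι).codRestrict _ fun h => by
    rw [MonoidHom.mem_ker]
    exact (hD (ι h)).trans h.1.2
  let s : ↥(resHom p D).ker →* ↥H :=
    { toFun := fun g => ⟨⟨(p.sec g.1).1, g.2⟩, (p.sec g.1).2⟩
      map_one' := Subtype.ext (Subtype.ext (show (p.sec (1 : ↥p.res.iso)).1 = 1 by rw [map_one]; rfl))
      map_mul' := fun a b => Subtype.ext (Subtype.ext (show (p.sec (a.1 * b.1)).1 = (p.sec a.1).1 * (p.sec b.1).1 by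
        rw [map_mul]; rfl)) }
  let j : ↥p.Q →* ↥f.ker :=
    { toFun := fun k => ⟨⟨⟨k.1.1, hQ p k.1 k.2⟩, k.1.2⟩, by
        rw [MonoidHom.mem_ker]
        exact Subtype.ext k.2⟩
      map_one' := rfl
      map_mul' := fun _ _ => rfl }
  have hj : Function.Surjective j := fun k =>
    ⟨⟨ι k.1, congrArg Subtype.val (MonoidHom.mem_ker.1 k.2)⟩, rfl⟩
  refine good_split f s (fun g => Subtype.ext (p.phi_sec g.1)) ?_ ((hSq p).of_surjective hj) (hIH p)
  intro k
  obtain ⟨k, rfl⟩ := hj k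
  exact ⟨2, by rw [← map_pow, show k ^ 2 ^ 2 = 1 from Subtype.ext (p.Q_pow_four k.2), map_one]⟩

end Cfsg.Agent.SqDerivedForms48
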