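import Cfsg.Agent.Lib.SqDerivedForms48

/-!
The two inductions: unitary and orthogonal forms in characteristic two.
-/

set_option autoImplicit false
set_option linter.unusedSectionVars false

namespace Cfsg.Agent.SqDerivedInduction48

open Cfsg.Agent.SqDerivedBasic48 Cfsg.Agent.SqDerivedForms48
open scoped commutatorElement

universe uF uV

variable {F : Type uF} [Field F] [CharP F 2]

theorem exists_sqrt [Finite F] (r : F) : ∃ a : F, a * a = r := by
  obtain ⟨a, ha⟩ := FiniteField.isSquare_of_char_two (ringChar.eq F 2) r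
  exact ⟨a, ha.symm⟩

/-- unitary type -/
structure Unitary {V : Type uV} [AddCommGroup V] [Module F V] (Φ : Frm F V) : Prop where
  qB : ∀ v, Φ.q v = Φ.B v v
  tr : ∀ a, Φ.τ a = a + Φ.σ a
  b0 : ∃ b, b + Φ.σ b ≠ 0

namespace Unitary

variable {V : Type uV} [AddCommGroup V] [Module F V] {Φ : Frm F V}

theorem fixed (h : Unitary Φ) (v : V) : Φ.σ (Φ.q v) = Φ.q v := by rw [h.qB, ← Φ.herm]

theorem half (h : Unitary Φ) {r : F} (hr : Φ.σ r = r) : ∃ c, c + Φ.σ c = r := by
  obtain ⟨b, hb⟩ := h.b0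
  refine ⟨b * (r / (b + Φ.σ b)), ?_⟩
  have hs : Φ.σ (b + Φ.σ b) = b + Φ.σ b := by rw [map_add, Φ.σσ, add_comm]
  rw [map_mul, map_div₀, hr, hs, ← add_mul, mul_div_cancel₀ _ hb]

theorem hτ (h : Unitary Φ) (v : V) : ∃ c, Φ.τ c = Φ.q v := by
  obtain ⟨c, hc⟩ := h.half (h.fixed v)
  exact ⟨c, by rw [h.tr, hc]⟩

theorem q_em (h : Unitary Φ) (p : Pr Φ) {v : V} (hv : v ∈ p.perp) {d : F} (hd : d + Φ.σ d = Φ.B v v) (w : V) :
    Φ.q (p.em v d w) = Φ.q w := by rw [h.qB, h.qB, p.em_B hv hd]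

theorem res (h : Unitary Φ) (p : Pr Φ) : Unitary p.res := ⟨fun v => h.qB v, h.tr, h.b0⟩

theorem sq (h : Unitary Φ) (p : Pr Φ) : SqD ↥p.Q := by
  intro k
  obtain ⟨v, hv, d, hkf, hk⟩ := p.Q_shape k.2
  rcases eq_or_ne v 0 with rfl | hv0
  · rw [show k ^ 2 = 1 from Subtype.ext (Subtype.ext (Subtype.ext (LinearEquiv.ext fun w => by
      show (k.1 ^ 2 : ↥p.stab).1.1 w = w
      rw [p.Q_sq hv hk, Φ.zero_left, p.em_zero])))]
    exact one_mem _
  obtain ⟨b, hb⟩ := h.half (show Φ.σ (Φ.B v v) = Φ.B v v from (Φ.herm v v).symm)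
  obtain ⟨w0, hw0⟩ : ∃ w : ↥p.perp, Φ.B (w : V) v ≠ 0 := by
    by_contra hcon
    push Not at hcon
    exact hv0 (congrArg Subtype.val (p.res.nondeg ⟨v, hv⟩ hcon))
  set u : V := (b / Φ.B (w0 : V) v) • (w0 : V) with hud
  have hu : u ∈ p.perp := Submodule.smul_mem _ _ w0.2
  have huv : Φ.B u v = b := by rw [hud, Φ.smul_left, div_mul_cancel₀ _ hw0]
  obtain ⟨du, hdu⟩ := h.half (show Φ.σ (Φ.B u u) = Φ.B u u from (Φ.herm u u).symm)
  let j : ↥p.Q := ⟨p.mkQ hu du hdu (fun w => h.q_em p hu hdu w), p.mkQ_mem hu du hdu _⟩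
  have key : k * j = k ^ 2 * (j * k) := by
    refine Subtype.ext (Subtype.ext (Subtype.ext (LinearEquiv.ext fun w => ?_)))
    show k.1.1.1 (j.1.1.1 w) = (k.1 ^ 2 : ↥p.stab).1.1 (j.1.1.1 (k.1.1.1 w))
    rw [p.Q_sq hv hk, show ∀ z, j.1.1.1 z = p.em u du z from fun z => rfl,
      show ∀ z, j.1.1.1 z = p.em u du z from fun z => rfl, hk, hk, p.em_em hv hu, p.em_em hu hv,
      p.em_em (zero_mem _) (add_mem hu hv), Φ.zero_right, zero_add, add_comm v u, Φ.herm u v, huv]
    congr 1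
    linear_combination hb + (-Φ.σ b) * (CharTwo.two_eq_zero (R := F))
  rw [show k ^ 2 = ⁅k, j⁆ by rw [commutatorElement_def, key]; group]
  exact Subgroup.commutator_mem_commutator (Subgroup.mem_top _) (Subgroup.mem_top _)

theorem exists_isotropic [Finite F] [Finite V] (h : Unitary Φ) (hn : 2 ≤ Module.finrank F V) :
    ∃ e : V, e ≠ 0 ∧ Φ.q e = 0 := by
  by_contra hcon
  push Not at hcon
  obtain ⟨v, hv⟩ : ∃ v : V, v ≠ 0 := by
    have : Nontrivial V := Module.nontrivial_of_finrank_pos (R := F) (by omega)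
    exact exists_ne 0
  have hk := LinearMap.finrank_range_add_finrank_ker (Φ.lin v)
  have hr : Module.finrank F (LinearMap.range (Φ.lin v)) ≤ 1 :=
    (Submodule.finrank_le _).trans (by rw [Module.finrank_self])
  obtain ⟨w, hw, hw0⟩ := (LinearMap.ker (Φ.lin v)).exists_mem_ne_zero_of_ne_bot (fun h0 => by
    rw [h0, finrank_bot] at hk; omega)
  have hwv : Φ.B w v = 0 := hw
  have hv' := hcon v hv
  obtain ⟨a, ha⟩ := exists_sqrt (Φ.q w / Φ.q v)
  have hσa : Φ.σ a = a := by
    have h2 : (Φ.σ a + a) * (Φ.σ a + a) = 0 := by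
      rw [CharTwo.add_mul_self, ← map_mul, ha, map_div₀, h.fixed, h.fixed, CharTwo.add_self_eq_zero]
    exact CharTwo.add_eq_zero.1 (mul_self_eq_zero.1 h2)
  refine hcon (a • v + w) (fun h0 => ?_) ?_
  · have h1 : Φ.B (a • v + w) v = 0 := by rw [h0, Φ.zero_left]
    rw [Φ.add_left, Φ.smul_left, hwv, add_zero, ← h.qB, mul_eq_zero, or_iff_left hv'] at h1
    rw [h1, zero_smul, zero_add] at h0
    exact hw0 h0
  · rw [h.qB, Φ.add_left, Φ.add_right, Φ.add_right, Φ.smul_left, Φ.smul_left, Φ.smul_right, Φ.smul_right, hσa,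
      Φ.herm w v, hwv, map_zero, ← h.qB, ← h.qB, ← mul_assoc, ha, div_mul_cancel₀ _ hv']
    simp [CharTwo.add_self_eq_zero]

end Unitary

theorem good_unitary [Finite F] : ∀ (n : ℕ) {V : Type uV} [AddCommGroup V] [Module F V] [Finite V] (Φ : Frm F V),
    Module.finrank F V = n → Unitary Φ → Good ↥Φ.iso := by
  intro n
  induction n using Nat.strong_induction_on with
  | _ n ih =>
  intro V _ _ _ Φ hn hU
  haveI := Φ.finite_iso
  rcases Nat.lt_or_ge n 2 with hsmall | hbig
  · refine good_of_noInvolution fun g hg => ?_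
    rcases subsingleton_or_nontrivial V with hV | hV
    · exact Subtype.ext (LinearEquiv.ext fun w => Subsingleton.elim _ _)
    obtain ⟨v, hv0, hv⟩ := (finrank_eq_one_iff' (K := F) (V := V)).1 (show Module.finrank F V = 1 by
      have := Module.finrank_pos (R := F) (M := V); omega)
    obtain ⟨c, hc⟩ := hv (g.1 v)
    have h2 : g.1 (g.1 v) = v := by
      have := congrArg (fun x : ↥Φ.iso => x.1 v) hg
      rw [pow_two] at this
      exact this
    rw [← hc, map_smul, ← hc, smul_smul] at h2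
    have hc1 : c = 1 := by
      have h3 : (c * c + 1) • v = 0 := by rw [add_smul, h2, one_smul, SqDerivedForms48.add_self (F := F)]
      rw [smul_eq_zero, or_iff_left hv0] at h3
      have h4 : (c + 1) * (c + 1) = 0 := by rw [CharTwo.add_mul_self, mul_one, h3]
      exact CharTwo.add_eq_zero.1 (mul_self_eq_zero.1 h4)
    refine Subtype.ext (LinearEquiv.ext fun w => ?_)
    obtain ⟨a, rfl⟩ := hv w
    rw [map_smul, ← hc, hc1, one_smul]
    rfl
  · obtain ⟨e, he0, he⟩ := hU.exists_isotropic (hn ▸ hbig)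
    obtain ⟨p0, -⟩ := exists_pair hU.hτ he he0
    have h := step (Φ := Φ) (1 : ↥Φ.iso →* Multiplicative F) hU.hτ (fun _ _ _ => rfl) hU.sq
      ⟨p0, 0, zero_mem _, 1, Φ.zero_left 0, Or.inr one_ne_zero, fun w => hU.q_em p0 (zero_mem _) (by
        rw [map_one, Φ.zero_left, CharTwo.add_self_eq_zero]) w⟩
      (fun p => by
        haveI := p.res.finite_iso
        refine good_congr ?_ (ih _ (hn ▸ p.finrank_perp_lt) p.res rfl (hU.res p))
        exact Subgroup.topEquiv.symm.trans (MulEquiv.subgroupCongr (by ext g; simp [resHom])))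
    refine good_congr ?_ h
    exact (MulEquiv.subgroupCongr (by ext g; simp)).trans Subgroup.topEquiv

/-- orthogonal type, with a homomorphism that is `1` on the radicals and not on reflections -/
structure Orth {V : Type uV} [AddCommGroup V] [Module F V] (Φ : Frm F V) {A : Type*} [Group A]
    (D : ↥Φ.iso →* A) : Prop where
  σid : ∀ a, Φ.σ a = a
  τid : ∀ a, Φ.τ a = a
  alt : ∀ v, Φ.B v v = 0
  qsmul : ∀ (a : F) v, Φ.q (a • v) = a * a * Φ.q v
  radical : ∀ p : Pr Φ, ∀ k ∈ p.Q, D k.1 = 1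
  refl : ∀ (g : ↥Φ.iso) (u : V), Φ.q u ≠ 0 → (∀ x, g.1 x = x + (Φ.B x u / Φ.q u) • u) → D g ≠ 1

namespace Orth

variable {V : Type uV} [AddCommGroup V] [Module F V] {Φ : Frm F V} {A : Type*} [Group A] {D : ↥Φ.iso →* A}

theorem hτ (h : Orth Φ D) (v : V) : ∃ c, Φ.τ c = Φ.q v := ⟨Φ.q v, h.τid _⟩

theorem q_em (h : Orth Φ D) (p : Pr Φ) {v : V} (hv : v ∈ p.perp) (w : V) :
    Φ.q (p.em v (Φ.q v) w) = Φ.q w := by
  rw [Pr.em, Φ.q_add, Φ.q_add, Φ.add_left, Φ.smul_left, Φ.smul_right, Φ.smul_right, Φ.smul_right,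
    h.qsmul, Φ.q_smul _ _ p.qe, (p.perp_e hv).1, h.τid, h.τid, h.σid, h.σid]
  linear_combination (Φ.B w p.e * Φ.B w v + Φ.B w p.e * Φ.B w p.e * Φ.q v) * (CharTwo.two_eq_zero (R := F))

theorem res (h : Orth Φ D) (p : Pr Φ) : Orth p.res (resHom p D) where
  σid := h.σid
  τid := h.τid
  alt v := h.alt v
  qsmul a v := h.qsmul a v
  radical p' k hk := by
    have hp : (p'.e : V) ∈ p.perp := p'.e.2
    let p'' : Pr Φ := ⟨(p'.e : V), (p'.f : V), p'.qe, p'.qf, p'.ef⟩
    have he : (p.sec k.1).1.1 p''.e = p''.e := by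
      show (k.1.1 (p.proj (p'.e : V)) : V) + Φ.B (p'.e : V) p.f • p.e + Φ.B (p'.e : V) p.e • p.f = _
      rw [p.proj_coe, show k.1.1 p'.e = p'.e from k.2, (p.perp_f hp).1, (p.perp_e hp).1, zero_smul, zero_smul,
        add_zero, add_zero]
    refine h.radical p'' ⟨(p.sec k.1).1, he⟩ (p''.mem_Q.2 fun w => ?_)
    have hwp : p.proj (w : V) ∈ p'.perp := by
      refine p'.mem_perp.2 ⟨?_, ?_⟩
      · show Φ.B (p.proj (w : V) : V) (p'.e : V) = 0
        rw [p.coe_proj, Φ.add_left, Φ.add_left, Φ.smul_left, Φ.smul_left, (p.perp_e hp).2, (p.perp_f hp).2,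
          mul_zero, mul_zero, add_zero, add_zero]
        exact (p''.perp_e w.2).1
      · show Φ.B (p.proj (w : V) : V) (p'.f : V) = 0
        rw [p.coe_proj, Φ.add_left, Φ.add_left, Φ.smul_left, Φ.smul_left, (p.perp_e p'.f.2).2,
          (p.perp_f p'.f.2).2, mul_zero, mul_zero, add_zero, add_zero]
        exact (p''.perp_f w.2).1
    have h1 := p'.stab_perp k ⟨_, hwp⟩
    rw [p'.mem_Q.1 hk] at h1
    show p''.proj ((p.secIso k.1).1 (w : V)) = w
    rw [p.secIso_apply, show k.1.1 (p.proj (w : V)) = p.proj (w : V) +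
      p.res.B (k.1.1 (p.proj (w : V))) p'.f • p'.e from h1, Submodule.coe_add, Submodule.coe_smul]
    generalize p.res.B (k.1.1 (p.proj (w : V))) p'.f = c
    rw [show ((p.proj (w : V) : V) + c • (p'.e : V)) + Φ.B (w : V) p.f • p.e + Φ.B (w : V) p.e • p.f =
      ((p.proj (w : V) : V) + Φ.B (w : V) p.f • p.e + Φ.B (w : V) p.e • p.f) + c • p''.e by
        show _ = _ + c • (p'.e : V); abel,
      ← p.decomp, map_add, map_smul, p''.proj_e, smul_zero, add_zero, p''.proj_coe]
  refl g u hu hg := by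
    refine h.refl (p.sec g).1 (u : V) hu fun x => ?_
    show (g.1 (p.proj x) : V) + Φ.B x p.f • p.e + Φ.B x p.e • p.f = _
    rw [hg, Submodule.coe_add, Submodule.coe_smul]
    conv_rhs => arg 1; rw [p.decomp x]
    have hB : Φ.B x (u : V) = Φ.B (p.proj x : V) u := by
      conv_lhs => rw [p.decomp x]
      simp [Φ.add_left, Φ.smul_left, (p.perp_e u.2).2, (p.perp_f u.2).2]
    rw [hB]
    show (p.proj x : V) + (Φ.B (p.proj x : V) u / Φ.q u) • (u : V) + _ + _ = _
    abel

theorem sq (h : Orth Φ D) (p : Pr Φ) : SqD ↥p.Q := fun k => by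
  rw [show k ^ 2 = 1 from Subtype.ext (p.Q_sq_eq_one (fun v _ => h.alt v) k.2)]
  exact one_mem _

theorem small [Finite V] (h : Orth Φ D) (hn : Module.finrank F V ≤ 2) : Good ↥D.ker := by
  haveI := Φ.finite_iso
  refine good_of_noInvolution fun g hg => ?_
  by_contra hne
  set N : V →ₗ[F] V := LinearMap.id + g.1.1.toLinearMap with hN
  have hNN : ∀ x, N (N x) = 0 := by
    intro x
    have h2 : g.1.1 (g.1.1 x) = x := by
      have := congrArg (fun z : ↥D.ker => z.1.1 x) hg
      rw [pow_two] at this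
      exact this
    show (x + g.1.1 x) + g.1.1 (x + g.1.1 x) = 0
    rw [map_add, h2, add_comm (g.1.1 x) x, SqDerivedForms48.add_self (F := F)]
  have hN0 : LinearMap.range N ≠ ⊥ := by
    intro h0
    refine hne (Subtype.ext (Subtype.ext (LinearEquiv.ext fun x => ?_)))
    have : N x ∈ (⊥ : Submodule F V) := h0 ▸ LinearMap.mem_range_self N x
    rw [Submodule.mem_bot] at this
    show g.1.1 x = x
    calc g.1.1 x = (x + x) + g.1.1 x := by rw [SqDerivedForms48.add_self (F := F), zero_add]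
      _ = x + N x := by rw [hN]; simp [add_assoc]
      _ = x := by rw [this, add_zero]
  have hrk := LinearMap.finrank_range_add_finrank_ker N
  have hle : LinearMap.range N ≤ LinearMap.ker N := by
    rintro _ ⟨x, rfl⟩
    exact hNN x
  have := Submodule.finrank_mono hle
  obtain ⟨u, hu, hu0⟩ := Submodule.exists_mem_ne_zero_of_ne_bot hN0
  have h1 : Module.finrank F ↥(LinearMap.range N) = 1 := by
    have := Submodule.one_le_finrank_iff.2 hN0; omega
  have hspan : F ∙ u = LinearMap.range N :=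
    Submodule.eq_of_le_of_finrank_eq (by simpa using hu) (by rw [finrank_span_singleton hu0, h1])
  have hφ : ∀ x, ∃ c : F, g.1.1 x = x + c • u := by
    intro x
    obtain ⟨c, hc⟩ := Submodule.mem_span_singleton.1 (hspan ▸ LinearMap.mem_range_self N x)
    refine ⟨c, ?_⟩
    rw [hc, hN]
    simp [← add_assoc, SqDerivedForms48.add_self (F := F)]
  choose φ hφ using hφ
  have e1 : ∀ x, φ x * (φ x * Φ.q u + Φ.B x u) = 0 := by
    intro x
    have h' := g.1.2.2 x
    rw [hφ, Φ.q_add, h.qsmul, Φ.smul_right, h.τid, h.σid] at h'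
    linear_combination h'
  have e2 : ∀ x y, φ y * Φ.B x u + φ x * Φ.B y u = 0 := by
    intro x y
    have h' := g.1.2.1 x y
    rw [hφ, hφ, Φ.add_left, Φ.add_right, Φ.add_right, Φ.smul_left, Φ.smul_left, Φ.smul_right, Φ.smul_right,
      h.alt u, Φ.herm y u, h.σid, h.σid] at h'
    linear_combination h'
  obtain ⟨x0, hx0⟩ : ∃ x, φ x ≠ 0 := by
    by_contra hc
    push Not at hc
    refine hne (Subtype.ext (Subtype.ext (LinearEquiv.ext fun x => ?_)))
    rw [hφ, hc, zero_smul, add_zero]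
    rfl
  have hqu : Φ.q u ≠ 0 := by
    intro h0
    refine hu0 (Φ.nondeg u fun x => ?_)
    have hx := e1 x0
    rw [h0, mul_zero, zero_add, mul_eq_zero, or_iff_right hx0] at hx
    have h' := e2 x x0
    rw [hx, mul_zero, add_zero, mul_eq_zero, or_iff_right hx0] at h'
    exact h'
  refine h.refl g.1 u hqu (fun x => ?_) g.2
  rw [hφ]
  congr 2
  rw [eq_div_iff hqu]
  rcases mul_eq_zero.1 (e1 x) with h0 | h0
  · rw [h0, zero_mul]
    have h' := e2 x x0
    rw [h0, zero_mul, add_zero, mul_eq_zero, or_iff_right hx0] at h'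
    exact h'.symm
  · exact CharTwo.add_eq_zero.1 h0

theorem exists_isotropic [Finite F] [Finite V] (h : Orth Φ D) (hn : 3 ≤ Module.finrank F V) :
    ∃ e : V, e ≠ 0 ∧ Φ.q e = 0 := by
  by_contra hcon
  push Not at hcon
  obtain ⟨v, hv⟩ : ∃ v : V, v ≠ 0 := by
    have : Nontrivial V := Module.nontrivial_of_finrank_pos (R := F) (by omega)
    exact exists_ne 0
  have hk := LinearMap.finrank_range_add_finrank_ker (Φ.lin v)
  have hr : Module.finrank F (LinearMap.range (Φ.lin v)) ≤ 1 :=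
    (Submodule.finrank_le _).trans (by rw [Module.finrank_self])
  obtain ⟨w, hw, hw0⟩ : ∃ w ∈ LinearMap.ker (Φ.lin v), w ∉ F ∙ v := by
    by_contra hc
    push Not at hc
    have h1 := Submodule.finrank_mono (show LinearMap.ker (Φ.lin v) ≤ F ∙ v from hc)
    rw [finrank_span_singleton hv] at h1
    omega
  have hwv : Φ.B w v = 0 := hw
  have hv' := hcon v hv
  obtain ⟨a, ha⟩ := exists_sqrt (Φ.q w / Φ.q v)
  refine hcon (a • v + w) (fun h0 => hw0 ?_) ?_
  · rw [eq_neg_of_add_eq_zero_right h0]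
    exact Submodule.neg_mem _ (Submodule.smul_mem _ _ (Submodule.mem_span_singleton_self v))
  · rw [Φ.q_add, h.qsmul, Φ.smul_left, Φ.herm w v, hwv, map_zero, mul_zero, map_zero, add_zero, ha,
      div_mul_cancel₀ _ hv', CharTwo.add_self_eq_zero]

end Orth

theorem good_orth [Finite F] {A : Type*} [Group A] : ∀ (n : ℕ) {V : Type uV} [AddCommGroup V] [Module F V]
    [Finite V] (Φ : Frm F V) (D : ↥Φ.iso →* A), Module.finrank F V = n → Orth Φ D → Good ↥D.ker := by
  intro n
  induction n using Nat.strong_induction_on with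
  | _ n ih =>
  intro V _ _ _ Φ D hn hO
  rcases Nat.lt_or_ge n 3 with hsmall | hbig
  · exact hO.small (by omega)
  obtain ⟨e, he0, he⟩ := hO.exists_isotropic (hn ▸ hbig)
  obtain ⟨p0, -⟩ := exists_pair hO.hτ he he0
  obtain ⟨v, hv, hv0⟩ : ∃ v ∈ p0.perp, v ≠ 0 := by
    refine Submodule.exists_mem_ne_zero_of_ne_bot fun hb => ?_
    have hle : (⊤ : Submodule F V) ≤ (F ∙ p0.e) ⊔ (F ∙ p0.f) := by
      intro w _
      have h0 : (p0.proj w : V) = 0 := by
        have := (p0.proj w).2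
        exact (Submodule.mem_bot F).1 (hb ▸ this)
      rw [p0.decomp w, h0, zero_add]
      exact add_mem (Submodule.mem_sup_left (Submodule.smul_mem _ _ (Submodule.mem_span_singleton_self _)))
        (Submodule.mem_sup_right (Submodule.smul_mem _ _ (Submodule.mem_span_singleton_self _)))
    have h1 := Submodule.finrank_mono hle
    rw [finrank_top] at h1
    have h2 := Submodule.finrank_add_le_finrank_add_finrank (F ∙ p0.e) (F ∙ p0.f)
    have h3 : Module.finrank F ↥(F ∙ p0.e) = 1 := finrank_span_singleton p0.e_ne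
    have h4 : Module.finrank F ↥(F ∙ p0.f) = 1 := finrank_span_singleton (fun h0 => by
      have := p0.ef
      rw [h0, Φ.zero_right] at this
      exact zero_ne_one this)
    omega
  exact step D hO.hτ hO.radical hO.sq ⟨p0, v, hv, Φ.q v, hO.alt v, Or.inl hv0, fun w => hO.q_em p0 hv w⟩
    fun p => ih _ (hn ▸ p.finrank_perp_lt) p.res _ rfl (hO.res p)

end Cfsg.Agent.SqDerivedInduction48
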