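import Cfsg.Agent.Lib.SqDerivedBasic48
import Cfsg.Agent.Lib.PSLUnipotent
import Cfsg.Agent.Lib.StemSpSylow
import Cfsg.Prelude.Def_Classical

/-!
Linear and symplectic groups in characteristic two: the unipotent Sylow subgroup is generated by involutions.
-/

set_option autoImplicit false

namespace Cfsg.Agent.SqDerivedLinear48

open Matrix Cfsg.Agent.SqDerivedBasic48

variable {F : Type*} [Field F] [Fintype F] [CharP F 2]

theorem good_SL (n : ℕ) [NeZero n] : Good (SpecialLinearGroup (Fin n) F) := by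
  haveI : Fact (Nat.Prime 2) := ⟨Nat.prime_two⟩
  obtain ⟨b, hb, hcard⟩ := PSLUnipotent.card_SL_factor (F := F) (n := n) 2
  have hi : ¬ 2 ∣ (PSLUnipotent.U F n).index := by
    have h := (PSLUnipotent.U F n).card_mul_index
    rw [hcard] at h
    rwa [Nat.eq_of_mul_eq_mul_left Nat.card_pos h]
  refine good_of_oddIndex (PSLUnipotent.isPGroup_U 2) hi
    (sqD_of_involutions _ {x | x ∈ PSLUnipotent.U F n ∧ x ^ 2 = 1} ?_ fun x hx => hx.2)
  refine le_antisymm ((Subgroup.closure_le _).2 fun x hx => hx.1) (PSLUnipotent.U_le _ fun i j hij c =>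
    Subgroup.subset_closure ⟨PSLUnipotent.transvection_mem_U hij c, ?_⟩)
  rw [pow_two, ← SpecialLinearGroup.transvection_add, CharTwo.add_self_eq_zero]
  exact Subtype.ext (by simp [SpecialLinearGroup.transvection_coe])

theorem good_PSL {n : ℕ} (hn : 2 ≤ n) : Good (ProjectiveSpecialLinearGroup (Fin n) F) := by
  haveI : NeZero n := ⟨by omega⟩
  exact good_quotient _ (good_SL n)

open SymplecticBasic StemSpEl StemSpStd StemSpSylow in
theorem good_Sp (m : ℕ) : Good ↥(symplecticGroup (Fin m) F) := by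
  haveI : Fact (Nat.Prime 2) := ⟨Nat.prime_two⟩
  obtain ⟨e, hp, hq⟩ := FiniteField.card F 2
  have hP : IsPGroup 2 ↥(uni F m 0) := IsPGroup.of_card (n := e * m ^ 2) (by
    rw [card_uni m 0 (zero_add m), Nat.card_eq_fintype_card, hq, pow_mul])
  refine good_of_oddIndex hP (Nat.prime_two.coprime_iff_not_dvd.1 (index_uni_coprime 2).symm)
    (sqD_of_involutions _ (⋃ k : Fin m, (rad F k : Set ↥(symplecticGroup (Fin m) F))) ?_ ?_)
  · simp [uni, Subgroup.closure_iUnion]
  · intro x hx
    obtain ⟨k, v, hv, c, rfl⟩ := Set.mem_iUnion.1 hx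
    rw [pow_two, sg_mul (form_ek_tail hv) (form_ek_tail hv), form_self, add_zero, CharTwo.add_self_eq_zero c,
      show v + v = 0 by rw [← two_smul F v, CharTwo.two_eq_zero, zero_smul], sg_zero, transv_zero]

theorem good_PSp (m : ℕ) : Good (PSp m F) := good_quotient _ (good_Sp m)

end Cfsg.Agent.SqDerivedLinear48
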