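import Mathlib
import Cfsg.Agent.Lib.SquaredBound
import Cfsg.Agent.Lib.FusionQd
import Cfsg.Agent.Lib.S3FreeCollision37

/-!
Without `S₃`, subgroups acting on an elementary abelian group with a single nontrivial fixed point all
have their fixed point in the same members of an invariant family of hyperplanes, provided each of them
normalises every member containing its fixed point.
-/

set_option autoImplicit false
set_option linter.style.haveILetI false

open Subgroup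

namespace Cfsg.Agent.SquaredGen80

open Cfsg.Agent.S4FreeOffender (cj mem_cj conj_mem_cj cj_cj cj_inv_cj cj_one cj_eq_of_mem
  mem_normalizer_of_cj_le)

universe u

variable {G : Type u} [Group G]

/-- An elementary subgroup acting on `A` with the single nontrivial fixed point `z`. -/
structure Fx (A P : Subgroup G) (z : G) : Prop where
  le : P ≤ normalizer (A : Set G)
  exp : ∀ p ∈ P, p * p = 1
  mem : z ∈ A
  ne : z ≠ 1
  comm : ∀ p ∈ P, p * z = z * p
  uniq : ∀ x ∈ A, x ≠ 1 → (∀ p ∈ P, p * x = x * p) → x = z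

theorem Fx.isPGroup {A P : Subgroup G} {z : G} (h : Fx A P z) : IsPGroup 2 P := fun a =>
  ⟨1, Subtype.ext (by rw [pow_one, Subgroup.coe_pow, pow_two]; exact h.exp a a.2)⟩

/-- An invariant set of nontrivial elements of `A` has odd order exactly when it contains the fixed point. -/
theorem Fx.odd_card_iff [Finite G] {A P : Subgroup G} {z : G} (h : Fx A P z) (X : Finset A)
    (hX1 : (1 : A) ∉ X)
    (hinv : ∀ p ∈ P, ∀ x ∈ X, ∀ y : A, (y : G) = p * x * p⁻¹ → y ∈ X) :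
    Odd X.card ↔ (⟨z, h.mem⟩ : A) ∈ X := by
  classical
  haveI : Fact (Nat.Prime 2) := ⟨Nat.prime_two⟩
  have hnA : ∀ p ∈ P, ∀ x : A, p * (x : G) * p⁻¹ ∈ A := fun p hp x =>
    (mem_normalizer_iff.mp (h.le hp) _).mp x.2
  letI act : MulAction P X :=
    { smul := fun p x => ⟨⟨p * ((x : A) : G) * (p : G)⁻¹, hnA p p.2 x⟩, hinv p p.2 x x.2 _ rfl⟩
      one_smul := fun x => Subtype.ext (Subtype.ext (show ((1 : P) : G) * ((x : A) : G) * ((1 : P) : G)⁻¹ = _ by
        simp))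
      mul_smul := fun p q x => Subtype.ext (Subtype.ext (show ((p * q : P) : G) * ((x : A) : G) *
          ((p * q : P) : G)⁻¹ = (p : G) * ((q : G) * ((x : A) : G) * (q : G)⁻¹) * (p : G)⁻¹ by
        rw [Subgroup.coe_mul, mul_inv_rev]; simp only [mul_assoc])) }
  have hmod := h.isPGroup.card_modEq_card_fixedPoints (α := X)
  have hfix : ∀ x : X, x ∈ MulAction.fixedPoints P X ↔ ((x : A) : G) = z := by
    intro x
    constructor
    · intro hx
      refine h.uniq _ (x : A).2 (fun e => hX1 ?_) fun p hp => ?_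
      · rw [← show (x : A) = 1 from Subtype.ext e]
        exact x.2
      · exact mul_inv_eq_iff_eq_mul.mp (congrArg (fun y : X => ((y : A) : G)) (hx ⟨p, hp⟩))
    · intro hx p
      refine Subtype.ext (Subtype.ext ?_)
      show (p : G) * ((x : A) : G) * (p : G)⁻¹ = _
      rw [hx, h.comm p p.2, mul_inv_cancel_right]
  rw [Nat.card_eq_fintype_card, Fintype.card_coe] at hmod
  by_cases hz : (⟨z, h.mem⟩ : A) ∈ X
  · have hc : Nat.card (MulAction.fixedPoints P X) = 1 := by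
      rw [Nat.card_eq_one_iff_unique]
      exact ⟨⟨fun x y => Subtype.ext (Subtype.ext (Subtype.ext
        (((hfix _).mp x.2).trans ((hfix _).mp y.2).symm)))⟩, ⟨⟨⟨_, hz⟩, (hfix _).mpr rfl⟩⟩⟩
    rw [hc] at hmod
    simpa [hz, Nat.odd_iff, Nat.ModEq] using hmod
  · have hc : Nat.card (MulAction.fixedPoints P X) = 0 := by
      rw [Nat.card_eq_zero]
      refine Or.inl ⟨fun x => hz ?_⟩
      rw [← show ((x : X) : A) = ⟨z, h.mem⟩ from Subtype.ext ((hfix _).mp x.2)]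
      exact (x : X).2
    rw [hc] at hmod
    simp only [hz, iff_false, Nat.not_odd_iff]
    simpa [Nat.ModEq] using hmod

/-- Membership of a product in a subgroup of index at most 2. -/
theorem prod_mem_iff {A : Type*} [CommGroup A] [DecidableEq A] (B : Subgroup A) [DecidablePred (· ∈ B)]
    (hB : ∀ x y : A, x ∉ B → y ∉ B → x * y ∈ B) (s : Finset A) :
    ∏ x ∈ s, x ∈ B ↔ Even (s.filter (· ∉ B)).card := by
  induction s using Finset.induction_on with
  | empty => simp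
  | @insert a t hat ih =>
    rw [Finset.prod_insert hat, Finset.filter_insert]
    by_cases ha : a ∈ B
    · rw [if_neg (not_not_intro ha), B.mul_mem_cancel_left ha, ih]
    · rw [if_pos ha, Finset.card_insert_of_notMem (fun h => hat (Finset.mem_filter.mp h).1),
        Nat.even_add_one, ← ih]
      exact ⟨fun h hb => ha ((B.mul_mem_cancel_right hb).mp h), fun h => hB a _ ha h⟩

set_option maxHeartbeats 1600000 in
/-- The fixed points lie in the same hyperplanes. -/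
theorem same_hyperplanes [Finite G] (hS3 : ¬ Cfsg.Involves (Equiv.Perm (Fin 3)) G) {A : Subgroup G} (hA : ∀ a ∈ A, a * a = 1)
    (ℬ : Set (Subgroup G)) (hle : ∀ B ∈ ℬ, B ≤ A)
    (hhyp : ∀ B ∈ ℬ, ∀ x ∈ A, ∀ y ∈ A, x ∉ B → y ∉ B → x * y ∈ B)
    (hinvB : ∀ n ∈ normalizer (A : Set G), ∀ B ∈ ℬ, cj n B ∈ ℬ)
    (Pc : Subgroup G → G → Prop) (hfx : ∀ P z, Pc P z → Fx A P z)
    (hinvP : ∀ n ∈ normalizer (A : Set G), ∀ P z, Pc P z → Pc (cj n P) (n * z * n⁻¹))
    (hnorm : ∀ P z, Pc P z → ∀ B ∈ ℬ, z ∈ B → P ≤ normalizer (B : Set G))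
    {P Q : Subgroup G} {z z' : G} (hP : Pc P z) (hQ : Pc Q z') {B : Subgroup G} (hB : B ∈ ℬ) :
    z ∈ B ↔ z' ∈ B := by
  classical
  haveI : Fact (Nat.Prime 2) := ⟨Nat.prime_two⟩
  haveI := Fintype.ofFinite G
  let Sep : Subgroup G × G → Subgroup G × G → Prop := fun a b =>
    Pc a.1 a.2 ∧ Pc b.1 b.2 ∧ ∃ B ∈ ℬ, ¬ (a.2 ∈ B ↔ b.2 ∈ B)
  let size : Subgroup G × G → Subgroup G × G → ℕ := fun a b =>
    Nat.card (a.1 ⊔ b.1 ⊔ centralizer (A : Set G) : Subgroup G)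
  by_contra hne0
  obtain ⟨⟨⟨P0, z0⟩, ⟨Q0, z0'⟩⟩, hsep, hmin⟩ := Set.exists_min_image
    {ab : (Subgroup G × G) × (Subgroup G × G) | Sep ab.1 ab.2} (fun ab => size ab.1 ab.2) (Set.toFinite _)
    ⟨((P, z), (Q, z')), hP, hQ, B, hB, hne0⟩
  obtain ⟨hP0, hQ0, B0, hB0, hB0ne⟩ := hsep
  -- orient the pair
  suffices main : ∀ P Q : Subgroup G, ∀ z z' : G, Pc P z → Pc Q z' → ∀ B ∈ ℬ, z' ∈ B → z ∉ B →
      (∀ a b, Sep a b → size (P, z) (Q, z') ≤ size a b) → False by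
    have hsymm : ∀ a b, size a b = size b a := fun a b => by simp only [size, sup_comm a.1 b.1]
    by_cases h : z0' ∈ B0
    · exact main P0 Q0 z0 z0' hP0 hQ0 B0 hB0 h (fun h0 => hB0ne (iff_of_true h0 h))
        fun a b hab => hmin (a, b) hab
    · exact main Q0 P0 z0' z0 hQ0 hP0 B0 hB0 (not_not.mp fun h0 => hB0ne (iff_of_false h0 h)) h
        fun a b hab => (hsymm _ _).le.trans (hmin (a, b) hab)
  clear hmin hP0 hQ0 hB0 hB0ne hne0 hP hQ hB B P Q z z'
  intro P Q z z' hP hQ B hB hz'B hzB hmin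
  have hA1 : ∀ B ∈ ℬ, ∀ x ∈ B, x * x = 1 := fun B hB x hx => hA x (hle B hB hx)
  letI : CommGroup A :=
    { (inferInstance : Group A) with
      mul_comm := fun a b => Subtype.ext (by
        have h1 := inv_eq_of_mul_eq_one_right (hA _ (A.mul_mem a.2 b.2))
        rw [mul_inv_rev, inv_eq_of_mul_eq_one_right (hA a a.2), inv_eq_of_mul_eq_one_right (hA b b.2)] at h1
        exact h1.symm) }
  have hPF := hfx P z hP
  have hQF := hfx Q z' hQ
  set Γ := P ⊔ Q with hΓ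
  have hΓN : Γ ≤ normalizer (A : Set G) := sup_le hPF.le hQF.le
  set CA := centralizer (A : Set G) with hCA
  have hCB : ∀ B' ∈ ℬ, CA ≤ normalizer (B' : Set G) := fun B' hB' =>
    (centralizer_le (hle B' hB')).trans (centralizer_le_normalizer _)
  -- the orbit of the fixed point
  set O : Finset A := Finset.univ.filter (fun x : A => ∃ γ ∈ Γ, (x : G) = γ * z * γ⁻¹) with hOdef
  have hOmem : ∀ x : A, x ∈ O ↔ ∃ γ ∈ Γ, (x : G) = γ * z * γ⁻¹ := fun x => by simp [hOdef]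
  have hzO : (⟨z, hPF.mem⟩ : A) ∈ O := (hOmem _).mpr ⟨1, Γ.one_mem, by simp⟩
  have hO1 : (1 : A) ∉ O := fun h => by
    obtain ⟨γ, -, e⟩ := (hOmem _).mp h
    exact hPF.ne (conj_eq_one_iff.mp e.symm)
  have hOP : ∀ x : A, x ∈ O → ∃ P', Pc P' x ∧ P' ≤ Γ := fun x hx => by
    obtain ⟨γ, hγ, e⟩ := (hOmem _).mp hx
    exact ⟨cj γ P, e ▸ hinvP γ (hΓN hγ) P z hP, S4FreeOffender.cj_le_of_mem hγ le_sup_left⟩
  have hOinv : ∀ γ ∈ Γ, ∀ x ∈ O, ∀ y : A, (y : G) = γ * x * γ⁻¹ → y ∈ O := by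
    intro γ hγ x hx y hy
    obtain ⟨δ, hδ, e⟩ := (hOmem _).mp hx
    exact (hOmem _).mpr ⟨γ * δ, Γ.mul_mem hγ hδ, by rw [hy, e, mul_inv_rev]; simp only [mul_assoc]⟩
  -- classes
  set Sof : G → Set (Subgroup G) := fun x => {B' | B' ∈ ℬ ∧ x ∈ B'} with hSof
  have hSeq : ∀ γ ∈ normalizer (A : Set G), ∀ x, cj γ '' Sof x = Sof (γ * x * γ⁻¹) := by
    intro γ hγ x
    ext B'
    constructor
    · rintro ⟨B1, ⟨hB1, hx1⟩, rfl⟩
      exact ⟨hinvB γ hγ B1 hB1, conj_mem_cj hx1⟩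
    · rintro ⟨hB', hx'⟩
      refine ⟨cj γ⁻¹ B', ⟨hinvB _ (inv_mem hγ) B' hB', mem_cj.mpr ?_⟩, by rw [cj_cj, mul_inv_cancel, cj_one]⟩
      rwa [inv_inv]
  -- shared hyperplanes
  have hdisj : ∀ x ∈ O, ∀ y ∈ O, ∀ B' ∈ ℬ, ¬ Γ ≤ normalizer (B' : Set G) → (x : G) ∈ B' → (y : G) ∈ B' →
      Sof x = Sof y := by
    intro x hx y hy B' hB' hnB hxB hyB
    by_contra hne
    obtain ⟨P1, hP1, hP1Γ⟩ := hOP x hx
    obtain ⟨P2, hP2, hP2Γ⟩ := hOP y hy
    have hex : ∃ B'' ∈ ℬ, ¬ ((x : G) ∈ B'' ↔ (y : G) ∈ B'') := by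
      by_contra h
      push Not at h
      exact hne (Set.ext fun B'' => ⟨fun ⟨a, b⟩ => ⟨a, (h B'' a).mp b⟩, fun ⟨a, b⟩ => ⟨a, (h B'' a).mpr b⟩⟩)
    have hle' := hmin (P1, x) (P2, y) ⟨hP1, hP2, hex⟩
    have hsub : P1 ⊔ P2 ⊔ CA ≤ (Γ ⊔ CA) ⊓ normalizer (B' : Set G) :=
      le_inf (sup_le_sup_right (sup_le hP1Γ hP2Γ) _)
        (sup_le (sup_le (hnorm _ _ hP1 B' hB' hxB) (hnorm _ _ hP2 B' hB' hyB)) (hCB B' hB'))
    have heq := eq_of_le_of_card_ge (hsub.trans inf_le_left) hle'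
    exact hnB (le_sup_left.trans (heq.ge.trans (hsub.trans inf_le_right)))
  -- the products
  have hprod_inv : ∀ (γ : G) (X : Finset A), γ ∈ normalizer (A : Set G) →
      (∀ x ∈ X, ∀ y : A, (y : G) = γ * x * γ⁻¹ → y ∈ X) →
      γ * ((∏ x ∈ X, x : A) : G) = ((∏ x ∈ X, x : A) : G) * γ := by
    intro γ X hγ hX
    let e : A → A := fun x => ⟨γ * x * γ⁻¹, (mem_normalizer_iff.mp hγ _).mp x.2⟩
    let eh : A →* A := MonoidHom.mk' e fun a b => Subtype.ext (by simp [e, mul_assoc])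
    have he : Function.Injective e := fun a b h => Subtype.ext (by
      simpa [e] using congrArg Subtype.val h)
    have himg : X.image e = X := Finset.eq_of_subset_of_card_le
      (fun y hy => by
        obtain ⟨x, hx, rfl⟩ := Finset.mem_image.mp hy
        exact hX x hx _ rfl)
      (by rw [Finset.card_image_of_injective _ he])
    have h1 : eh (∏ x ∈ X, x) = ∏ x ∈ X, x := by
      rw [map_prod]
      conv_rhs => rw [← himg, Finset.prod_image fun a _ b _ h => he h]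
      rfl
    exact mul_inv_eq_iff_eq_mul.mp (congrArg Subtype.val h1)
  have hmemB : ∀ B' ∈ ℬ, ∀ X : Finset A, ((∏ x ∈ X, x : A) : G) ∈ B' ↔
      Even (X.filter (fun x : A => (x : G) ∉ B')).card := by
    intro B' hB' X
    have := prod_mem_iff (B'.subgroupOf A) (fun x y hx hy => hhyp B' hB' x x.2 y y.2 hx hy) X
    simpa [mem_subgroupOf] using this
  by_cases huni : ∀ x ∈ O, Sof x = Sof z
  · -- the product of the whole orbit
    set w : A := ∏ x ∈ O, x with hw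
    have hall : ∀ x ∈ O, (x : G) ∉ B := fun x hx h => hzB ((huni x hx ▸ ⟨hB, h⟩ : B ∈ Sof z).2)
    have hodd : Odd O.card := (hPF.odd_card_iff O hO1 fun p hp => hOinv p (mem_sup_left hp)).mpr hzO
    have hwB : (w : G) ∉ B := fun h => by
      have h1 := (hmemB B hB O).mp h
      rw [Finset.filter_true_of_mem hall] at h1
      exact (Nat.not_even_iff_odd.mpr hodd) h1
    have hwz : (w : G) = z' := hQF.uniq _ w.2 (fun e => hwB (e ▸ B.one_mem)) fun q hq =>
      hprod_inv q O (hQF.le hq) (hOinv q (mem_sup_right hq))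
    exact hwB (hwz ▸ hz'B)
  push Not at huni
  obtain ⟨x1, hx1, hx1ne⟩ := huni
  -- the points
  let Ω := {S : Set (Subgroup G) // ∃ x ∈ O, S = Sof (x : G)}
  let cl : (x : A) → x ∈ O → Ω := fun x hx => ⟨Sof x, x, hx, rfl⟩
  letI actΩ : MulAction Γ Ω :=
    { smul := fun γ ω => ⟨cj (γ : G) '' ω.1, by
        obtain ⟨x, hx, e⟩ := ω.2
        refine ⟨⟨γ * (x : G) * (γ : G)⁻¹, (mem_normalizer_iff.mp (hΓN γ.2) _).mp x.2⟩, hOinv γ γ.2 x hx _ rfl, ?_⟩
        rw [e, hSeq γ (hΓN γ.2)]⟩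
      one_smul := fun ω => Subtype.ext (show cj ((1 : Γ) : G) '' ω.1 = ω.1 by
        rw [OneMemClass.coe_one, show (cj (1 : G)) = id from funext cj_one, Set.image_id])
      mul_smul := fun γ δ ω => Subtype.ext (show cj ((γ * δ : Γ) : G) '' ω.1 = cj (γ : G) '' (cj (δ : G) '' ω.1) by
        rw [Set.image_image]
        simp only [cj_cj, Subgroup.coe_mul]) }
  have hsmul : ∀ (γ : Γ) (x : A) (hx : x ∈ O) (y : A) (hy : y ∈ O), (y : G) = γ * x * (γ : G)⁻¹ →
      γ • cl x hx = cl y hy := fun γ x hx y hy e => Subtype.ext (show cj (γ : G) '' Sof x = Sof y by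
        rw [e, hSeq γ (hΓN γ.2)])
  set ω0 : Ω := cl _ hzO with hω0
  have htrans : ∀ ω : Ω, ∃ γ : Γ, γ • ω0 = ω := by
    rintro ⟨S, x, hx, rfl⟩
    obtain ⟨γ, hγ, e⟩ := (hOmem _).mp hx
    exact ⟨⟨γ, hγ⟩, hsmul _ _ hzO x hx e⟩
  set ω1 : Ω := cl x1 hx1 with hω1
  have hω1ne : ω1 ≠ ω0 := fun h => hx1ne (congrArg Subtype.val h)
  -- a moved hyperplane in every class
  have hinv_same : ∀ B' ∈ ℬ, Γ ≤ normalizer (B' : Set G) → ∀ x ∈ O, ((x : G) ∈ B' ↔ z ∈ B') := by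
    intro B' _ hn x hx
    obtain ⟨γ, hγ, e⟩ := (hOmem _).mp hx
    rw [e]
    exact (mem_normalizer_iff.mp (hn hγ) z).symm
  have hmoved : ∀ ω : Ω, ∃ B' ∈ ω.1, ¬ Γ ≤ normalizer (B' : Set G) := by
    have hone : ∃ ω : Ω, ∃ B' ∈ ω.1, ¬ Γ ≤ normalizer (B' : Set G) := by
      by_contra h
      push Not at h
      refine hx1ne (Set.ext fun B' => ⟨fun hB' => ?_, fun hB' => ?_⟩)
      · exact ⟨hB'.1, (hinv_same B' hB'.1 (h ω1 B' hB') x1 hx1).mp hB'.2⟩
      · exact ⟨hB'.1, (hinv_same B' hB'.1 (h ω0 B' hB') x1 hx1).mpr hB'.2⟩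
    obtain ⟨υ, B', hB', hnB'⟩ := hone
    intro ω
    obtain ⟨γ1, hγ1⟩ := htrans υ
    obtain ⟨γ2, hγ2⟩ := htrans ω
    set γ := γ2 * γ1⁻¹ with hγdef
    have hγω : γ • υ = ω := by rw [hγdef, mul_smul, ← hγ1, inv_smul_smul, hγ2]
    refine ⟨cj (γ : G) B', ?_, fun hn => hnB' fun δ hδ => mem_normalizer_of_cj_le ?_⟩
    · rw [← hγω]
      exact ⟨B', hB', rfl⟩
    · have h1 := cj_eq_of_mem (hn (Γ.mul_mem (Γ.mul_mem γ.2 hδ) (Γ.inv_mem γ.2)))
      rw [cj_cj, inv_mul_cancel_right, ← cj_cj] at h1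
      have h2 := congrArg (cj (γ : G)⁻¹) h1
      rw [cj_inv_cj, cj_inv_cj] at h2
      exact h2.le
  choose Bsep hBsep hBsepn using hmoved
  have hBℬ : ∀ ω, Bsep ω ∈ ℬ := fun ω => by
    obtain ⟨x, hx, e⟩ := ω.2
    exact (e ▸ hBsep ω : Bsep ω ∈ Sof x).1
  have hmem_iff : ∀ (ω : Ω) (x : A) (hx : x ∈ O), (x : G) ∈ Bsep ω ↔ cl x hx = ω := by
    intro ω x hx
    constructor
    · intro h
      obtain ⟨y, hy, e⟩ := ω.2
      have hyB : (y : G) ∈ Bsep ω := (e ▸ hBsep ω : Bsep ω ∈ Sof y).2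
      exact Subtype.ext ((hdisj x hx y hy _ (hBℬ ω) (hBsepn ω) h hyB).trans e.symm)
    · intro h
      have e2 : ω.1 = Sof x := (congrArg Subtype.val h).symm
      exact (e2.subset (hBsep ω)).2
  -- fibres
  set fib : Ω → Finset A := fun ω => O.filter (fun x : A => (x : G) ∈ Bsep ω) with hfib
  have hfib_odd : ∀ ω, Odd (fib ω).card := by
    intro ω
    obtain ⟨x, hx, e⟩ := ω.2
    obtain ⟨P', hP', hP'Γ⟩ := hOP x hx
    have hF := hfx P' _ hP'
    refine (hF.odd_card_iff (fib ω) (fun h => hO1 (Finset.mem_filter.mp h).1) ?_).mpr ?_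
    · intro p hp v hv y hy
      obtain ⟨hvO, hvB⟩ := Finset.mem_filter.mp hv
      have hyO := hOinv p (hP'Γ hp) v hvO y hy
      refine Finset.mem_filter.mpr ⟨hyO, (hmem_iff ω y hyO).mpr ?_⟩
      rw [← hsmul ⟨p, hP'Γ hp⟩ v hvO y hyO hy, (hmem_iff ω v hvO).mp hvB,
        show ω = cl x hx from Subtype.ext e]
      refine hsmul ⟨p, hP'Γ hp⟩ x hx x hx ?_
      show (x : G) = p * x * p⁻¹
      rw [hF.comm p hp, mul_inv_cancel_right]
    · exact Finset.mem_filter.mpr ⟨hx, (hmem_iff ω x hx).mpr (Subtype.ext e.symm)⟩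
  have hPfix0 : ∀ (p : G) (hp : p ∈ P), (⟨p, mem_sup_left hp⟩ : Γ) • ω0 = ω0 := fun p hp =>
    hsmul _ _ hzO _ hzO (show z = p * z * p⁻¹ by rw [hPF.comm p hp, mul_inv_cancel_right])
  -- orbits of `P`
  have horb : ∀ ω : Ω, ω ≠ ω0 → ∀ υ : Ω, υ ≠ ω0 →
      ∃ (p : G) (hp : p ∈ P), (⟨p, mem_sup_left hp⟩ : Γ) • ω = υ := by
    intro ω hω υ hυ
    by_contra hcon
    push Not at hcon
    let inOrb : Ω → Prop := fun v => ∃ (p : G) (hp : p ∈ P), (⟨p, mem_sup_left hp⟩ : Γ) • ω = v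
    set X : Finset A := O.filter (fun x : A => ∃ h : x ∈ O, inOrb (cl x h)) with hX
    have hXinv : ∀ p ∈ P, ∀ x ∈ X, ∀ y : A, (y : G) = p * x * p⁻¹ → y ∈ X := by
      intro p hp x hx y hy
      obtain ⟨hxO, _hx', p', hp', e⟩ := Finset.mem_filter.mp hx
      have hyO := hOinv p (mem_sup_left hp) x hxO y hy
      refine Finset.mem_filter.mpr ⟨hyO, hyO, p * p', P.mul_mem hp hp', ?_⟩
      rw [← hsmul ⟨p, mem_sup_left hp⟩ x hxO y hyO hy, ← e, smul_smul]
      rfl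
    have hnotω0 : ¬ inOrb ω0 := by
      rintro ⟨p, hp, e⟩
      refine hω ?_
      have h1 := congrArg ((⟨p, mem_sup_left hp⟩ : Γ)⁻¹ • ·) e
      simp only [inv_smul_smul] at h1
      rw [h1, inv_smul_eq_iff, hPfix0 p hp]
    have hzX : (⟨z, hPF.mem⟩ : A) ∉ X := fun h => by
      obtain ⟨_hm, _hx', hh⟩ := Finset.mem_filter.mp h
      exact hnotω0 hh
    have hX1 : (1 : A) ∉ X := fun h => hO1 (Finset.mem_filter.mp h).1
    have heven : Even X.card := Nat.not_odd_iff_even.mp fun h => hzX ((hPF.odd_card_iff X hX1 hXinv).mp h)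
    set w : A := ∏ x ∈ X, x with hw
    -- classes outside the orbit
    have hout : ∀ v : Ω, ¬ inOrb v → (w : G) ∈ Bsep v := by
      intro v hv
      refine (hmemB _ (hBℬ v) X).mpr ?_
      have hsub : ∀ x ∈ X, (x : G) ∉ Bsep v := fun x hx hxB => by
        obtain ⟨hxO, _hx', hh⟩ := Finset.mem_filter.mp hx
        exact hv ((hmem_iff v x hxO).mp hxB ▸ hh)
      rwa [Finset.filter_true_of_mem hsub]
    have hin : (w : G) ∉ Bsep ω := by
      rw [hmemB _ (hBℬ ω) X, Nat.not_even_iff_odd]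
      have hsplit := Finset.card_filter_add_card_filter_not (s := X) (fun x : A => (x : G) ∈ Bsep ω)
      have heq : X.filter (fun x : A => (x : G) ∈ Bsep ω) = fib ω := by
        ext x
        simp only [hfib, Finset.mem_filter]
        refine ⟨fun h => ⟨(Finset.mem_filter.mp h.1).1, h.2⟩, fun ⟨hxO, hxB⟩ => ⟨?_, hxB⟩⟩
        refine Finset.mem_filter.mpr ⟨hxO, hxO, 1, P.one_mem, ?_⟩
        rw [(hmem_iff ω x hxO).mp hxB]
        exact one_smul Γ ω
      rw [heq] at hsplit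
      obtain ⟨a, ha⟩ := hfib_odd ω
      obtain ⟨b, hb⟩ := heven
      rw [Nat.odd_iff]
      omega
    have hwz : (w : G) = z := hPF.uniq _ w.2 (fun e => hin (e ▸ (Bsep ω).one_mem)) fun p hp =>
      hprod_inv p X (hPF.le hp) (hXinv p hp)
    have h1 := hout υ fun ⟨p, hp, e⟩ => hcon p hp e
    rw [hwz] at h1
    exact hυ ((hmem_iff υ ⟨z, hPF.mem⟩ hzO).mp h1).symm
  -- the action on the points
  set ρ := MulAction.toPermHom Γ Ω with hρ
  let Pb := ((P.subgroupOf Γ).map ρ.rangeRestrict : Subgroup ρ.range)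
  have hPcomm : ∀ p ∈ P, ∀ q ∈ P, p * q = q * p := fun p hp q hq => by
    have h1 := inv_eq_of_mul_eq_one_right (hPF.exp _ (P.mul_mem hp hq))
    rw [mul_inv_rev, inv_eq_of_mul_eq_one_right (hPF.exp p hp), inv_eq_of_mul_eq_one_right (hPF.exp q hq)] at h1
    exact h1.symm
  have hno3 : S3FreeCollision37.NoDih3 ρ.range := by
    intro x y hx hy h3
    obtain ⟨k, hk⟩ := h3
    set r := (x * y) ^ k with hr
    have hxi : x⁻¹ = x := inv_eq_of_mul_eq_one_right hx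
    have hyi : y⁻¹ = y := inv_eq_of_mul_eq_one_right hy
    have hinv : x * r * x⁻¹ = r⁻¹ := by
      rw [hr, ← conj_pow, ← inv_pow]
      congr 1
      rw [mul_inv_rev, hxi, hyi, ← mul_assoc x x, hx, one_mul]
    have hr3 : r ^ 3 = 1 := by rw [hr, ← pow_mul, mul_comm, ← hk, pow_orderOf_eq_one]
    have hS3' : ¬ Cfsg.Involves (Equiv.Perm (Fin 3)) ρ.range := fun h => hS3
      (FusionQd.involves_of_injective Γ.subtype_injective
        (FusionQd.involves_of_surjective ρ.rangeRestrict_surjective h))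
    have hr1 : r = 1 := SquaredBound.noThree_of_not_involves hS3' x r hr3 hinv
    have hdvd := orderOf_dvd_of_pow_eq_one (hr ▸ hr1)
    have hk0 : 0 < k := Nat.pos_of_ne_zero fun h => by
      rw [h, mul_zero] at hk
      exact (orderOf_pos (x * y)).ne' hk
    have := Nat.le_of_dvd hk0 hdvd
    omega
  have hPfix : ∀ x ∈ Pb, x • ω0 = ω0 := by
    rintro _ ⟨p, hp, rfl⟩
    exact hPfix0 p hp
  have huniq : ∀ x ∈ Pb, x ≠ 1 → ∀ ω : Ω, x • ω = ω → ω = ω0 := by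
    rintro _ ⟨p, hp, rfl⟩ hx ω hω
    by_contra hne
    refine hx (Subtype.ext (Equiv.ext fun υ => ?_))
    show p • υ = υ
    by_cases hυ : υ = ω0
    · rw [hυ]; exact hPfix0 p hp
    obtain ⟨q, hq, e⟩ := horb ω hne υ hυ
    rw [← e, smul_smul, show p * (⟨q, mem_sup_left hq⟩ : Γ) = ⟨q, mem_sup_left hq⟩ * p from
      Subtype.ext (hPcomm p hp q hq), mul_smul, show p • ω = ω from hω]
  obtain ⟨γ1, hγ1⟩ := htrans ω1
  have hpts := S3FreeCollision37.card_points hno3 Pb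
    (by
      rintro _ ⟨p, hp, rfl⟩
      rw [← map_mul, show p * p = 1 from Subtype.ext (hPF.exp p hp), map_one])
    ω0 hPfix huniq (g := ρ.rangeRestrict γ1) (fun h => hω1ne (hγ1.symm.trans h))
  have hcover : Nat.card Ω ≤ Nat.card Pb + 1 := by
    let f : Option Pb → Ω := fun o => o.elim ω0 fun x => (x : ρ.range) • ω1
    rw [← Finite.card_option]
    refine Nat.card_le_card_of_surjective f fun υ => ?_
    by_cases hυ : υ = ω0
    · exact ⟨none, hυ.symm⟩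
    obtain ⟨q, hq, e⟩ := horb ω1 hω1ne υ hυ
    exact ⟨some ⟨ρ.rangeRestrict ⟨q, mem_sup_left hq⟩, ⟨_, hq, rfl⟩⟩, e⟩
  have hPb1 : Nat.card Pb ≤ 1 := by
    by_contra h
    have : 2 * Nat.card Pb ≤ Nat.card Pb ^ 2 := by
      rw [pow_two]; exact Nat.mul_le_mul_right _ (by omega)
    omega
  have hfix1 : ∀ (p : G) (hp : p ∈ P), (⟨p, mem_sup_left hp⟩ : Γ) • ω1 = ω1 := by
    intro p hp
    haveI : Subsingleton Pb := Finite.card_le_one_iff_subsingleton.mp hPb1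
    have := congrArg (fun x : Pb => (x : ρ.range) • ω1)
      (Subsingleton.elim (⟨ρ.rangeRestrict ⟨p, mem_sup_left hp⟩, ⟨_, hp, rfl⟩⟩ : Pb) 1)
    exact this.trans (one_smul ρ.range ω1)
  -- a fixed class contains the fixed point
  have hz1 : (⟨z, hPF.mem⟩ : A) ∈ fib ω1 := by
    refine (hPF.odd_card_iff (fib ω1) (fun h => hO1 (Finset.mem_filter.mp h).1) ?_).mp (hfib_odd ω1)
    intro p hp v hv y hy
    obtain ⟨hvO, hvB⟩ := Finset.mem_filter.mp hv
    have hyO := hOinv p (mem_sup_left hp) v hvO y hy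
    refine Finset.mem_filter.mpr ⟨hyO, (hmem_iff ω1 y hyO).mpr ?_⟩
    rw [← hsmul ⟨p, mem_sup_left hp⟩ v hvO y hyO hy, (hmem_iff ω1 v hvO).mp hvB, hfix1 p hp]
  exact hω1ne ((hmem_iff ω1 _ hzO).mp (Finset.mem_filter.mp hz1).2).symm

end Cfsg.Agent.SquaredGen80
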