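import Mathlib
import Cfsg.Prelude.Def_TwoFusion
import Cfsg.Agent.Lib.S4FreeOffender
import Cfsg.Agent.Lib.BaerSuzuki
import Cfsg.Agent.Lib.SylowTwoNormKGroup

/-!
A strongly closed elementary abelian 2-subgroup: an element of odd order inverted by one of its conjugates
centralises every 2-subgroup normalised by both, and a subgroup containing it is generated, modulo a normal
subgroup containing all such odd elements, by the normaliser.
-/

set_option autoImplicit false
set_option linter.style.haveILetI false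

open Subgroup

namespace Cfsg.Agent.SquaredGen80

open Cfsg.Agent.S4FreeOffender (cj mem_cj conj_mem_cj cj_eq_of_mem isPGroup_sup)

universe u

variable {G : Type u} [Group G]

/-- The element is conjugate into `A`. -/
def InA (A : Subgroup G) (x : G) : Prop := ∃ h : G, h⁻¹ * x * h ∈ A

/-- An elementary abelian 2-subgroup whose conjugates inside any 2-subgroup lie in one conjugate. -/
structure Tame (A : Subgroup G) : Prop where
  exp : ∀ a ∈ A, a * a = 1
  closed : ∀ R : Subgroup G, IsPGroup 2 R → ∃ g : G, ∀ x ∈ R, InA A x → g⁻¹ * x * g ∈ A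

theorem InA.of_mem {A : Subgroup G} {x : G} (h : x ∈ A) : InA A x := ⟨1, by simpa using h⟩

theorem InA.conj {A : Subgroup G} {x : G} (h : InA A x) (g : G) : InA A (g * x * g⁻¹) := by
  obtain ⟨k, hk⟩ := h
  exact ⟨g * k, by simpa [mul_assoc] using hk⟩

theorem tame_of_stronglyClosed [Finite G] (S : Sylow 2 G) {A : Subgroup G}
    (hA : Cfsg.IsStronglyClosed A (S : Subgroup G)) (hexp : ∀ a ∈ A, a * a = 1) : Tame A := by
  haveI : Fact (Nat.Prime 2) := ⟨Nat.prime_two⟩
  refine ⟨hexp, fun R hR => ?_⟩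
  obtain ⟨P, hP⟩ := hR.exists_le_sylow
  obtain ⟨g, hg⟩ := MulAction.exists_smul_eq G S P
  refine ⟨g, fun x hx ⟨h, hh⟩ => ?_⟩
  have hx1 : g⁻¹ * x * g ∈ (S : Subgroup G) := by
    have h2 := hP hx
    rw [← hg, Sylow.coe_subgroup_smul] at h2
    obtain ⟨s, hs, rfl⟩ := h2
    have e : g⁻¹ * (MulAut.conj g s) * g = s := by simp [mul_assoc]
    exact e.symm ▸ hs
  have key := hA.2 _ hh (g⁻¹ * h) (by simpa [mul_assoc] using hx1)
  simpa [mul_assoc] using key

namespace Tame

variable {A : Subgroup G} (hA : Tame A)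

include hA

theorem comm_of_mem {a b : G} (ha : a ∈ A) (hb : b ∈ A) : a * b = b * a := by
  have h1 : (a * b)⁻¹ = a * b := inv_eq_of_mul_eq_one_right (hA.exp _ (A.mul_mem ha hb))
  rwa [mul_inv_rev, inv_eq_of_mul_eq_one_right (hA.exp a ha),
    inv_eq_of_mul_eq_one_right (hA.exp b hb), eq_comm] at h1

theorem sq {x : G} (hx : InA A x) : x * x = 1 := by
  obtain ⟨h, hh⟩ := hx
  have h1 := hA.exp _ hh
  calc x * x = h * (h⁻¹ * x * h * (h⁻¹ * x * h)) * h⁻¹ := by group
    _ = 1 := by rw [h1]; group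

theorem pgroup : IsPGroup 2 A := fun a =>
  ⟨1, Subtype.ext (by rw [pow_one, Subgroup.coe_pow, pow_two]; exact hA.exp _ a.2)⟩

theorem pgroup_zpowers {x : G} (hx : InA A x) : IsPGroup 2 (zpowers x) := fun y => by
  obtain ⟨y, hy⟩ := y
  obtain ⟨i, rfl⟩ := mem_zpowers_iff.mp hy
  refine ⟨1, Subtype.ext ?_⟩
  show (x ^ i) ^ (2 ^ 1) = 1
  rw [pow_one, ← zpow_natCast, ← zpow_mul, mul_comm, zpow_mul, zpow_natCast, pow_two, hA.sq hx, one_zpow]

theorem comm_in {R : Subgroup G} (hR : IsPGroup 2 R) {x y : G} (hx : x ∈ R) (hy : y ∈ R)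
    (hxA : InA A x) (hyA : InA A y) : x * y = y * x := by
  obtain ⟨g, hg⟩ := hA.closed R hR
  have h1 := hA.comm_of_mem (hg x hx hxA) (hg y hy hyA)
  calc x * y = g * ((g⁻¹ * x * g) * (g⁻¹ * y * g)) * g⁻¹ := by group
    _ = g * ((g⁻¹ * y * g) * (g⁻¹ * x * g)) * g⁻¹ := by rw [h1]
    _ = y * x := by group

theorem mul_in {R : Subgroup G} (hR : IsPGroup 2 R) {x y : G} (hx : x ∈ R) (hy : y ∈ R)
    (hxA : InA A x) (hyA : InA A y) : InA A (x * y) := by
  obtain ⟨g, hg⟩ := hA.closed R hR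
  refine ⟨g, ?_⟩
  have := A.mul_mem (hg x hx hxA) (hg y hy hyA)
  simpa [mul_assoc] using this

/-- An odd element inverted by a conjugate of an element of `A` centralises every 2-subgroup normalised by
both. -/
theorem centralizes {Q : Subgroup G} (hQ : IsPGroup 2 Q) {a f : G} (ha : InA A a)
    (hinv : a * f * a⁻¹ = f⁻¹) (hodd : Odd (orderOf f))
    (haQ : a ∈ normalizer (Q : Set G)) (hfQ : f ∈ normalizer (Q : Set G)) :
    ∀ q ∈ Q, f * q = q * f := by
  -- what one element does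
  have step : ∀ b : G, InA A b → b ∈ normalizer (Q : Set G) →
      (∀ q ∈ Q, ∃ y ∈ Q, InA A y ∧ b * q * b = y * q) ∧ ∀ y ∈ Q, InA A y → b * y * b = y := by
    intro b hb hbQ
    have hR : IsPGroup 2 (Q ⊔ zpowers b : Subgroup G) :=
      isPGroup_sup hQ (hA.pgroup_zpowers hb) (zpowers_le.mpr hbQ)
    have hb2 := hA.sq hb
    have hbi : b⁻¹ = b := inv_eq_of_mul_eq_one_right hb2
    constructor
    · intro q hq
      refine ⟨b * (q * b * q⁻¹), ?_, ?_, ?_⟩
      · have h1 := (mem_normalizer_iff.mp hbQ q).mp hq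
        rw [hbi] at h1
        rw [show b * (q * b * q⁻¹) = b * q * b * q⁻¹ by group]
        exact Q.mul_mem h1 (Q.inv_mem hq)
      · exact hA.mul_in hR (mem_sup_right (mem_zpowers b))
          (mul_mem (mul_mem (mem_sup_left hq) (mem_sup_right (mem_zpowers b)))
            (inv_mem (mem_sup_left hq))) hb (hb.conj q)
      · group
    · intro y hy hyA
      rw [hA.comm_in hR (mem_sup_right (mem_zpowers b)) (mem_sup_left hy) hb hyA, mul_assoc, hb2, mul_one]
  set b := f * a * f⁻¹ with hbdef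
  have hbQ : b ∈ normalizer (Q : Set G) := mul_mem (mul_mem hfQ haQ) (inv_mem hfQ)
  obtain ⟨sa, fa⟩ := step a ha haQ
  obtain ⟨sb, fb⟩ := step b (ha.conj f) hbQ
  have ha2 := hA.sq ha
  have hai : a⁻¹ = a := inv_eq_of_mul_eq_one_right ha2
  have he : b * a = f * f := by
    have h1 : a * f⁻¹ * a⁻¹ = f := by rw [← conj_inv, hinv, inv_inv]
    calc b * a = f * (a * f⁻¹ * a) := by rw [hbdef]; group
      _ = f * f := by
        nth_rewrite 2 [← hai]
        rw [h1]
  have he' : a * b = f⁻¹ * f⁻¹ := by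
    have hb2 := hA.sq (ha.conj f)
    rw [← mul_inv_rev, ← he, mul_inv_rev, hai, inv_eq_of_mul_eq_one_right hb2]
  intro q hq
  obtain ⟨y1, hy1, hy1A, e1⟩ := sa q hq
  obtain ⟨y2, hy2, hy2A, e2⟩ := sb q hq
  have hy3 : y1 * y2 ∈ Q := Q.mul_mem hy1 hy2
  have hy3A : InA A (y1 * y2) := hA.mul_in hQ hy1 hy2 hy1A hy2A
  have hfix : (f * f) * (y1 * y2) * (f * f)⁻¹ = y1 * y2 := by
    calc (f * f) * (y1 * y2) * (f * f)⁻¹ = (b * a) * (y1 * y2) * (a * b) := by
          rw [mul_inv_rev, he', he]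
      _ = b * (a * (y1 * y2) * a) * b := by group
      _ = y1 * y2 := by rw [fa _ hy3 hy3A, fb _ hy3 hy3A]
  have hact : (f * f) * q * (f * f)⁻¹ = y1 * y2 * q := by
    calc (f * f) * q * (f * f)⁻¹ = (b * a) * q * (a * b) := by rw [mul_inv_rev, he', he]
      _ = b * (a * q * a) * b := by group
      _ = (b * y1 * b) * (b * q * b) := by
          rw [e1]
          have hb2 := hA.sq (ha.conj f)
          calc b * (y1 * q) * b = b * y1 * (1 * (q * b)) := by group
            _ = b * y1 * (b * b * (q * b)) := by rw [hb2]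
            _ = _ := by group
      _ = _ := by rw [fb y1 hy1 hy1A, e2, mul_assoc]
  have hpow : ∀ n : ℕ, (f * f) ^ n * q * ((f * f) ^ n)⁻¹ = (y1 * y2) ^ n * q := by
    intro n
    induction n with
    | zero => simp
    | succ n ih =>
      calc (f * f) ^ (n + 1) * q * ((f * f) ^ (n + 1))⁻¹
          = (f * f) * ((f * f) ^ n * q * ((f * f) ^ n)⁻¹) * (f * f)⁻¹ := by
            rw [pow_succ', mul_inv_rev]; simp only [mul_assoc]
        _ = ((f * f) * (y1 * y2) * (f * f)⁻¹) ^ n * ((f * f) * q * (f * f)⁻¹) := by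
            rw [ih, conj_pow]; group
        _ = (y1 * y2) ^ (n + 1) * q := by rw [hfix, hact, ← mul_assoc, ← pow_succ]
  have h1 := hpow (orderOf f)
  rw [← pow_two f, ← pow_mul, mul_comm 2, pow_mul, pow_orderOf_eq_one, one_pow, one_mul, inv_one, mul_one,
    right_eq_mul] at h1
  have h2 : y1 * y2 = 1 := by
    obtain ⟨k, hk⟩ := hodd
    rwa [hk, pow_succ, pow_mul, pow_two, hA.sq hy3A, one_pow, one_mul] at h1
  rw [h2, one_mul] at hact
  have hcomm : Commute (f * f) q := mul_inv_eq_iff_eq_mul.mp hact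
  obtain ⟨k, hk⟩ := hodd
  have h3 := hcomm.pow_left (k + 1)
  rwa [← pow_two, ← pow_mul, show 2 * (k + 1) = orderOf f + 1 by omega, pow_succ, pow_orderOf_eq_one,
    one_mul] at h3

theorem le_normalizer_of_le [Finite G] {T : Subgroup G} (hT : IsPGroup 2 T) (hAT : A ≤ T) :
    normalizer (T : Set G) ≤ normalizer (A : Set G) := by
  obtain ⟨g, hg⟩ := hA.closed T hT
  have hAg : A = cj g A := eq_of_le_of_card_ge (fun x hx => mem_cj.mpr (hg x (hAT hx) (InA.of_mem hx)))
    (by rw [S4FreeOffender.card_cj])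
  intro n hn
  refine mem_normalizer_fintype fun x hx => ?_
  have h1 : n * x * n⁻¹ ∈ T := (mem_normalizer_iff.mp hn x).mp (hAT hx)
  have h2 := hg _ h1 ((InA.of_mem hx).conj n)
  show n * x * n⁻¹ ∈ A
  rw [hAg, mem_cj]
  exact h2

/-- A subgroup containing `A` is the product of the normaliser of `A` and a normal subgroup containing the
inverted odd elements. -/
theorem decomp [Finite G] {L C : Subgroup G} (hAL : A ≤ L) (hCL : C ≤ L)
    (hC : L ≤ normalizer (C : Set G))
    (hbad : ∀ a ∈ L, InA A a → ∀ f ∈ L, Odd (orderOf f) → a * f * a⁻¹ = f⁻¹ → f ∈ C) :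
    L ≤ (L ⊓ normalizer (A : Set G)) ⊔ C := by
  classical
  haveI : Fact (Nat.Prime 2) := ⟨Nat.prime_two⟩
  set C' := C.subgroupOf L with hC'
  haveI : C'.Normal := normal_subgroupOf_of_le_normalizer hC
  set π := QuotientGroup.mk' C' with hπ
  set A' := A.subgroupOf L with hA'
  -- conjugates of elements of `A` generate 2-groups modulo `C`
  have hpair : ∀ a : L, (a : G) ∈ A → ∀ l : L ⧸ C',
      IsPGroup 2 ↥(zpowers (π a) ⊔ (zpowers (π a)).map (MulAut.conj l).toMonoidHom) := by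
    intro a ha l
    obtain ⟨l, rfl⟩ := QuotientGroup.mk'_surjective C' l
    set s : L := l * a * l⁻¹ with hs
    have haa : a * a = 1 := Subtype.ext (hA.exp _ ha)
    have hai : a⁻¹ = a := inv_eq_of_mul_eq_one_right haa
    have hss : s * s = 1 := by
      rw [hs, show l * a * l⁻¹ * (l * a * l⁻¹) = l * (a * a) * l⁻¹ by group, haa, mul_one, mul_inv_cancel]
    have hsi : s⁻¹ = s := inv_eq_of_mul_eq_one_right hss
    set r := a * s with hr
    have har : a * r * a⁻¹ = r⁻¹ := by
      rw [hr, mul_inv_rev, hai, hsi, ← mul_assoc a a, haa, one_mul]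
    obtain ⟨k, m, hm, hkm⟩ := Nat.exists_eq_two_pow_mul_odd (orderOf_pos r).ne'
    have hf : (r ^ 2 ^ k : L) ∈ C' := by
      rw [hC', mem_subgroupOf]
      refine hbad a a.2 (InA.of_mem ha) _ (r ^ 2 ^ k).2 ?_ ?_
      · rw [Subgroup.orderOf_coe, orderOf_pow_of_dvd (Nat.pos_iff_ne_zero.mp (Nat.two_pow_pos k))
          (hkm ▸ Dvd.intro m rfl), hkm, Nat.mul_div_cancel_left m (Nat.two_pow_pos k)]
        exact hm
      · have h1 : a * r ^ 2 ^ k * a⁻¹ = (r ^ 2 ^ k)⁻¹ := by rw [← conj_pow, har, inv_pow]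
        exact congrArg Subtype.val h1
    have hrp : IsPGroup 2 (zpowers (π r)) := by
      have hd : orderOf (π r) ∣ 2 ^ k := orderOf_dvd_of_pow_eq_one (by
        rw [← map_pow]; exact (QuotientGroup.eq_one_iff _).mpr hf)
      obtain ⟨j, -, hj⟩ := (Nat.dvd_prime_pow Nat.prime_two).mp hd
      exact IsPGroup.of_card (n := j) (by rw [Nat.card_zpowers, hj])
    have hap : IsPGroup 2 (zpowers (π a)) := by
      have hd : orderOf (π a) ∣ 2 ^ 1 := orderOf_dvd_of_pow_eq_one (by
        rw [← map_pow, pow_one, pow_two, haa, map_one])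
      obtain ⟨j, -, hj⟩ := (Nat.dvd_prime_pow Nat.prime_two).mp hd
      exact IsPGroup.of_card (n := j) (by rw [Nat.card_zpowers, hj])
    have hnorm : zpowers (π a) ≤ normalizer (zpowers (π r) : Set (L ⧸ C')) := by
      rw [zpowers_le]
      refine S4FreeOffender.mem_normalizer_of_cj_le ?_
      rw [cj, MonoidHom.map_zpowers, zpowers_le]
      show π a * π r * (π a)⁻¹ ∈ zpowers (π r)
      rw [← map_inv, ← map_mul, ← map_mul, har, map_inv]
      exact inv_mem (mem_zpowers _)
    refine (isPGroup_sup hrp hap hnorm).to_le (sup_le le_sup_right ?_)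
    rw [MonoidHom.map_zpowers, zpowers_le]
    show π l * π a * (π l)⁻¹ ∈ _
    rw [← map_inv, ← map_mul, ← map_mul, ← hs,
      show π s = (π a)⁻¹ * π r by rw [hr, map_mul π a s, inv_mul_cancel_left]]
    exact mul_mem (inv_mem (mem_sup_right (mem_zpowers _))) (mem_sup_left (mem_zpowers _))
  have hAcore : A'.map π ≤ Cfsg.pCore 2 (L ⧸ C') := by
    rintro _ ⟨a, ha, rfl⟩
    have hap : IsPGroup 2 (zpowers (π a)) := by
      have hd : orderOf (π a) ∣ 2 ^ 1 := orderOf_dvd_of_pow_eq_one (by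
        rw [← map_pow, pow_one, pow_two, show a * a = 1 from Subtype.ext (hA.exp _ ha), map_one])
      obtain ⟨j, -, hj⟩ := (Nat.dvd_prime_pow Nat.prime_two).mp hd
      exact IsPGroup.of_card (n := j) (by rw [Nat.card_zpowers, hj])
    obtain ⟨N, hN, hN2, hle⟩ := BaerSuzuki.exists_normal_pGroup_of_pairs _ hap (hpair a ha)
    haveI := hN
    exact HallCore.le_pCore hN2 (hle (mem_zpowers _))
  -- a Sylow subgroup of `L`
  obtain ⟨TL, hTL⟩ := (hA.pgroup.comap_subtype (K := L)).exists_le_sylow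
  set Y := normalClosure (A' : Set L) with hY
  have hYle : Y ≤ (TL : Subgroup L) ⊔ C' := by
    have h1 : Y ≤ (Cfsg.pCore 2 (L ⧸ C')).comap π :=
      normalClosure_le_normal fun a ha => hAcore (mem_map_of_mem π ha)
    refine h1.trans ?_
    have h2 : Cfsg.pCore 2 (L ⧸ C') ≤ (TL : Subgroup L).map π := by
      have h4 : ∃ P : Sylow 2 (L ⧸ C'), Cfsg.pCore 2 (L ⧸ C') ≤ P :=
        (HallCore.isPGroup_pCore 2 _).exists_le_sylow
      obtain ⟨P, hP⟩ := h4
      obtain ⟨g, hg⟩ := MulAction.exists_smul_eq (L ⧸ C') P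
        (TL.mapSurjective (f := π) (QuotientGroup.mk'_surjective C'))
      intro x hx
      have h5 := hP ((HallCore.pCore_normal 2 _).conj_mem x hx g⁻¹)
      have h6 : x ∈ ((g • P : Sylow 2 (L ⧸ C')) : Subgroup (L ⧸ C')) := by
        rw [Sylow.coe_subgroup_smul]
        exact ⟨g⁻¹ * x * g⁻¹⁻¹, h5, by simp [mul_assoc]⟩
      rw [hg] at h6
      exact h6
    refine (comap_mono h2).trans ?_
    rw [comap_map_eq, QuotientGroup.ker_mk']
  have hTA : (TL : Subgroup L) ≤ (normalizer (A : Set G)).comap L.subtype := by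
    intro t ht
    refine hA.le_normalizer_of_le (T := (TL : Subgroup L).map L.subtype) (TL.isPGroup'.map _)
      (fun x hx => ⟨⟨x, hAL hx⟩, hTL (show (⟨x, hAL hx⟩ : L).1 ∈ A from hx), rfl⟩)
      (le_normalizer ⟨t, ht, rfl⟩)
  haveI : Y.Normal := normalClosure_normal
  let P : Sylow 2 Y := (TL.isPGroup'.comap_subtype (K := Y)).toSylow
    (SylowTwoNormKGroup.not_dvd_relIndex TL Y)
  have hfr := P.normalizer_sup_eq_top
  have hP : (P : Subgroup Y).map Y.subtype = (TL : Subgroup L) ⊓ Y := by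
    show ((TL : Subgroup L).subgroupOf Y).map Y.subtype = _
    rw [subgroupOf_map_subtype]
  rw [hP] at hfr
  intro x hx
  obtain ⟨n, hn, y, hy, e⟩ := mem_sup_of_normal_right.mp (hfr ▸ mem_top (⟨x, hx⟩ : L))
  obtain ⟨t, ht, c, hc, rfl⟩ := mem_sup_of_normal_right.mp (hYle hy)
  have hnA : (n : G) ∈ normalizer (A : Set G) := by
    refine hA.le_normalizer_of_le (T := ((TL : Subgroup L) ⊓ Y).map L.subtype)
      ((TL.isPGroup'.to_le inf_le_left).map _)
      (fun z hz => ⟨⟨z, hAL hz⟩, ⟨hTL (show (⟨z, hAL hz⟩ : L).1 ∈ A from hz),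
        subset_normalClosure (show (⟨z, hAL hz⟩ : L).1 ∈ A from hz)⟩, rfl⟩) ?_
    exact le_normalizer_map L.subtype (mem_map_of_mem _ hn)
  have e' : x = (n : G) * t * c := by
    have := congrArg Subtype.val e
    simpa [mul_assoc] using this.symm
  rw [e']
  exact mul_mem (mem_sup_left ⟨L.mul_mem n.2 t.2, mul_mem hnA (hTA ht)⟩)
    (mem_sup_right (show (c : G) ∈ C from hc))

end Tame

end Cfsg.Agent.SquaredGen80
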