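import Mathlib
import Cfsg.Agent.Lib.SquaredBound
import Cfsg.Agent.Lib.SquaredGen80Closed
import Cfsg.Agent.Lib.FusionQd

/-!
Minimal squared offenders centralise perfect subgroups without normalised subgroups outside the centre, and
nilpotent subgroups of odd order, which they normalise.
-/

set_option autoImplicit false
set_option linter.style.haveILetI false

open Subgroup
open scoped commutatorElement

namespace Cfsg.Agent.SquaredGen80

open Cfsg.Agent.SquaredBound (fix mem_fix fix_anti fix_bot apply_apply eq_id_of_fix NoThree)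
open Cfsg.Agent.S4FreeOffender (cj mem_cj conj_mem_cj card_cj cj_mono cj_cj_inv cj_inv_cj)

universe u

/-- The squared bound in every faithful representation. -/
def SQ (G : Type u) [Group G] : Prop :=
  ∀ (V : Type u) [CommGroup V] [Finite V] (φ : G →* MulAut V), Function.Injective φ →
    (∀ v : V, v * v = 1) → Cfsg.pCore 2 G = ⊥ → ∀ A : Subgroup G, Cfsg.IsElementaryAbelian 2 A →
      Nat.card A ^ 2 * Nat.card (fix φ A) ≤ Nat.card V

/-- The squared bound below a given order. -/
def SQBelow (n : ℕ) : Prop :=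
  ∀ (H : Type u) [Group H] [Finite H], Nat.card H < n →
    ¬ Cfsg.Involves (Equiv.Perm (Fin 3)) H → SQ H

section Rep

variable {G V : Type u} [Group G] [CommGroup V] (φ : G →* MulAut V)

/-- The weight. -/
noncomputable def wt (X : Subgroup G) : ℕ := Nat.card X ^ 2 * Nat.card (fix φ X)

theorem wt_bot : wt φ (⊥ : Subgroup G) = Nat.card V := by
  rw [wt, card_bot, one_pow, one_mul, fix_bot, Subgroup.card_top]

theorem fix_cj (g : G) (X : Subgroup G) : fix φ (cj g X) = (fix φ X).map (φ g).toMonoidHom := by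
  ext v
  rw [mem_map]
  constructor
  · intro hv
    refine ⟨φ g⁻¹ v, fun x hx => ?_, ?_⟩
    · have h1 := hv _ (conj_mem_cj (g := g) hx)
      rw [← apply_apply, ← apply_apply] at h1
      have h2 := congrArg (φ g⁻¹) h1
      rw [apply_apply φ g⁻¹ g, inv_mul_cancel, map_one] at h2
      exact h2
    · show φ g (φ g⁻¹ v) = v
      rw [apply_apply, mul_inv_cancel, map_one]; rfl
  · rintro ⟨w, hw, rfl⟩ _ ⟨x, hx, rfl⟩
    show φ (g * x * g⁻¹) (φ g w) = φ g w
    rw [apply_apply, inv_mul_cancel_right, ← apply_apply, hw x hx]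

theorem wt_cj (g : G) (X : Subgroup G) : wt φ (cj g X) = wt φ X := by
  rw [wt, wt, card_cj, fix_cj, card_map_of_injective (φ g).injective]

/-- A minimal squared offender. -/
structure Off (P : Subgroup G) : Prop where
  elem : Cfsg.IsElementaryAbelian 2 P
  off : Nat.card V < wt φ P
  low : ∀ Y < P, wt φ Y ≤ Nat.card V

theorem exists_off [Finite G] {A : Subgroup G} (hA : Cfsg.IsElementaryAbelian 2 A)
    (hoff : Nat.card V < wt φ A) : ∃ P ≤ A, Off φ P := by
  obtain ⟨P, -, ⟨hPA, hP⟩, hmin⟩ := Finite.exists_le_minimal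
    (p := fun Y : Subgroup G => Y ≤ A ∧ Nat.card V < wt φ Y) (a := A) ⟨le_rfl, hoff⟩
  refine ⟨P, hPA, ⟨⟨⟨fun a b => Subtype.ext (congrArg Subtype.val
    (hA.1.is_comm.comm (⟨a, hPA a.2⟩ : A) ⟨b, hPA b.2⟩) :)⟩⟩, fun a ha => hA.2 a (hPA ha)⟩, hP, fun Y hY => ?_⟩
  by_contra h
  exact absurd (hmin ⟨hY.le.trans hPA, not_le.mp h⟩ hY.le) hY.not_ge

variable {φ}

theorem Off.ne_bot {P : Subgroup G} (h : Off φ P) : P ≠ ⊥ := fun e => by
  have := h.off
  rw [e, wt_bot] at this
  exact lt_irrefl _ this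

theorem Off.sq {P : Subgroup G} (h : Off φ P) {p : G} (hp : p ∈ P) : p * p = 1 := by
  rw [← pow_two]; exact h.elem.2 p hp

theorem Off.isPGroup {P : Subgroup G} (h : Off φ P) : IsPGroup 2 P := fun a =>
  ⟨1, Subtype.ext (by rw [pow_one, Subgroup.coe_pow, pow_two]; exact h.sq a.2)⟩

theorem Off.cj [Finite G] {P : Subgroup G} (h : Off φ P) (g : G) : Off φ (cj g P) := by
  refine ⟨⟨⟨⟨?_⟩⟩, ?_⟩, by rw [wt_cj]; exact h.off, fun Y hY => ?_⟩
  · rintro ⟨_, x, hx, rfl⟩ ⟨_, y, hy, rfl⟩
    refine Subtype.ext ?_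
    show MulAut.conj g x * MulAut.conj g y = MulAut.conj g y * MulAut.conj g x
    rw [← map_mul, ← map_mul]
    exact congrArg (MulAut.conj g) (congrArg Subtype.val (h.elem.1.is_comm.comm (⟨x, hx⟩ : P) ⟨y, hy⟩))
  · rintro _ ⟨x, hx, rfl⟩
    rw [← map_pow, h.elem.2 x hx, map_one]
  · rw [← cj_cj_inv g Y, wt_cj]
    refine h.low _ (lt_of_le_of_ne ?_ fun e => hY.ne ?_)
    · have := cj_mono g⁻¹ hY.le
      rwa [cj_inv_cj] at this
    · rw [← cj_cj_inv g Y, e]

/-- The action on a section. -/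
def sectHom (φ : G →* MulAut V) (L : Subgroup G) (W1 : Subgroup V) (W0 : Subgroup W1)
    (h1 : ∀ l ∈ L, ∀ v ∈ W1, φ l v ∈ W1)
    (h0 : ∀ l (hl : l ∈ L), ∀ v : W1, v ∈ W0 → (⟨φ l v, h1 l hl v v.2⟩ : W1) ∈ W0) :
    L →* MulAut (W1 ⧸ W0) where
  toFun l :=
    { toFun := QuotientGroup.map W0 W0
        { toFun := fun v => ⟨φ l v, h1 l l.2 v v.2⟩
          map_one' := Subtype.ext (map_one (φ (l : G)))
          map_mul' := fun v w => Subtype.ext (map_mul (φ (l : G)) _ _) } (fun v hv => h0 l l.2 v hv)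
      invFun := QuotientGroup.map W0 W0
        { toFun := fun v => ⟨φ ((l⁻¹ : L) : G) v, h1 _ (l⁻¹ : L).2 v v.2⟩
          map_one' := Subtype.ext (map_one (φ ((l⁻¹ : L) : G)))
          map_mul' := fun v w => Subtype.ext (map_mul (φ ((l⁻¹ : L) : G)) _ _) }
        (fun v hv => h0 _ (l⁻¹ : L).2 v hv)
      left_inv := fun q => by
        induction q using QuotientGroup.induction_on with
        | H v =>
          refine congrArg QuotientGroup.mk (Subtype.ext ?_)
          show φ ((l : G))⁻¹ (φ l v) = v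
          rw [apply_apply, inv_mul_cancel, map_one]; rfl
      right_inv := fun q => by
        induction q using QuotientGroup.induction_on with
        | H v =>
          refine congrArg QuotientGroup.mk (Subtype.ext ?_)
          show φ (l : G) (φ ((l : G))⁻¹ v) = v
          rw [apply_apply, mul_inv_cancel, map_one]; rfl
      map_mul' := fun p q => map_mul _ _ _ }
  map_one' := MulEquiv.ext fun q => by
    induction q using QuotientGroup.induction_on with
    | H v =>
      refine congrArg QuotientGroup.mk (Subtype.ext ?_)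
      show φ (1 : G) (v : V) = v
      rw [map_one]; rfl
  map_mul' l l' := MulEquiv.ext fun q => by
    induction q using QuotientGroup.induction_on with
    | H v =>
      refine congrArg QuotientGroup.mk (Subtype.ext ?_)
      show φ ((l : G) * l') (v : V) = φ l (φ l' v)
      rw [apply_apply]

variable (hφ : Function.Injective φ) (hV : ∀ v : V, v * v = 1) [Finite G] [Finite V]
  (hS3 : ¬ Cfsg.Involves (Equiv.Perm (Fin 3)) G)

include hφ hV hS3 in
/-- Offenders centralise normalised nilpotent subgroups of odd order. -/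
theorem Off.centralizes_odd {P F : Subgroup G} (hP : Off φ P) [Group.IsNilpotent F]
    (hF : Odd (Nat.card F)) (hPF : P ≤ normalizer (F : Set G)) : P ≤ centralizer (F : Set G) := by
  haveI : Group.IsSolvable F := inferInstance
  have h := (SquaredBound.sqLE_solvable φ hφ hV (SquaredBound.noThree_of_not_involves hS3) F hF P hP.elem
    hPF).sqLE φ hφ hV fun a ha => hP.sq ha
  by_contra hc
  have hlt : P ⊓ centralizer (F : Set G) < P :=
    lt_of_le_of_ne inf_le_left fun e => hc (inf_eq_left.mp e)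
  exact absurd (hP.off.trans_le h) (not_lt.mpr (hP.low _ hlt))

omit [Finite G] [Finite V] in
theorem apply_stab (φ : G →* MulAut V) {D : Subgroup V} {a b : G} {w : V}
    (ha : ∀ d ∈ D, φ a d = d) (hb : ∀ d ∈ D, φ b d = d) (hwa : w⁻¹ * φ a w ∈ D)
    (hwb : w⁻¹ * φ b w ∈ D) : φ ⁅a, b⁆ w = w := by
  set x := w⁻¹ * φ a w with hx
  set y := w⁻¹ * φ b w with hy
  have ea : φ a w = w * x := (mul_inv_cancel_left _ _).symm
  have eb : φ b w = w * y := (mul_inv_cancel_left _ _).symm
  have hinv : ∀ (c : G) (v v' : V), φ c v = v' → φ c⁻¹ v' = v := fun c v v' h => by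
    rw [← h, apply_apply, inv_mul_cancel, map_one]; rfl
  have ea' : φ a⁻¹ w = w * x⁻¹ := hinv a _ _ (by
    rw [map_mul, ha _ (D.inv_mem hwa), ea, mul_inv_cancel_right])
  have eb' : φ b⁻¹ w = w * y⁻¹ := hinv b _ _ (by
    rw [map_mul, hb _ (D.inv_mem hwb), eb, mul_inv_cancel_right])
  have h3 : φ a⁻¹ (φ b⁻¹ w) = w * x⁻¹ * y⁻¹ := by
    rw [eb', map_mul, ea', hinv a _ _ (ha _ (D.inv_mem hwb))]
  rw [commutatorElement_def, mul_assoc, mul_assoc, ← apply_apply, ← apply_apply, ← apply_apply, h3]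
  simp only [map_mul, eb, hb _ (D.inv_mem hwa), hb _ (D.inv_mem hwb), ea, ha _ hwb, ha _ (D.inv_mem hwa),
    ha _ (D.inv_mem hwb)]
  rw [mul_right_comm (w * x) y, mul_inv_cancel_right, mul_inv_cancel_right]

omit [Finite G] [Finite V] in
/-- A perfect subgroup stabilising a series of length two acts trivially. -/
theorem perfect_stab (φ : G →* MulAut V) {E : Subgroup G} (hE : ⁅E, E⁆ = E) {D W : Subgroup V}
    (hD : ∀ e ∈ E, ∀ d ∈ D, φ e d = d) (hW : ∀ e ∈ E, ∀ w ∈ W, w⁻¹ * φ e w ∈ D) :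
    ∀ e ∈ E, ∀ w ∈ W, φ e w = w := by
  have hle : E ≤
      { carrier := {x | ∀ w ∈ W, φ x w = w}
        one_mem' := fun w _ => by rw [map_one]; rfl
        mul_mem' := fun {a b} ha hb w hw => by rw [← apply_apply, hb w hw, ha w hw]
        inv_mem' := fun {a} ha w hw => by
          conv_lhs => rw [← ha w hw, apply_apply, inv_mul_cancel, map_one]
          rfl : Subgroup G } := by
    rw [← hE, commutator_le]
    intro a ha b hb w hw
    exact apply_stab φ (hD a ha) (hD b hb) (hW a ha w hw) (hW b hb w hw)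
  exact fun e he w hw => hle he w hw

include hφ hV hS3 in
set_option maxHeartbeats 1000000 in
/-- Offenders centralise perfect subgroups whose normalised proper subgroups are central. -/
theorem Off.centralizes_perfect (hlow : SQBelow.{u} (Nat.card G)) {P E : Subgroup G} (hP : Off φ P)
    (hE : ⁅E, E⁆ = E) (hPE : P ≤ normalizer (E : Set G)) (hlt : E ⊔ P ≠ ⊤)
    (hsimple : ∀ N ≤ E, E ⊔ P ≤ normalizer (N : Set G) → N = E ∨ N ≤ centralizer (E : Set G)) :
    P ≤ centralizer (E : Set G) := by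
  classical
  haveI : Fact (Nat.Prime 2) := ⟨Nat.prime_two⟩
  by_contra hc
  set L := E ⊔ P with hL
  set I := P ⊓ centralizer (E : Set G) with hI
  have hIP : I < P := lt_of_le_of_ne inf_le_left fun e => hc (inf_eq_left.mp e)
  have hPc : ∀ a ∈ P, ∀ b ∈ P, a * b = b * a := fun a ha b hb =>
    congrArg Subtype.val (hP.elem.1.is_comm.comm (⟨a, ha⟩ : P) ⟨b, hb⟩)
  have hIc : ∀ x ∈ I, ∀ l ∈ L, x * l = l * x := fun x hx l hl => by
    have h : L ≤ centralizer {x} := sup_le
      (fun e he => mem_centralizer_singleton_iff.mpr (hx.2 e he))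
      (fun p hp => mem_centralizer_singleton_iff.mpr (hPc p hp x hx.1))
    exact (mem_centralizer_singleton_iff.mp (h hl)).symm
  have hEne : E ≠ ⊥ := fun e => hc (by rw [e]; exact fun x _ y hy => by rw [mem_bot.mp hy]; simp)
  -- the fixed points of `I`
  set U := fix φ I with hU
  have hUinv : ∀ l ∈ L, ∀ v ∈ U, φ l v ∈ U := fun l hl v hv x hx => by
    rw [apply_apply, hIc x hx l hl, ← apply_apply, hv x hx]
  set U0 := U ⊓ fix φ E with hU0
  have hU0ne : U0 ≠ U := by
    intro he
    have hall : ∀ e ∈ E, Odd (orderOf e) → e = 1 := by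
      intro e he' hodd
      haveI := Fintype.ofFinite G
      rw [← map_eq_one_iff φ hφ]
      refine MulEquiv.ext (eq_id_of_fix φ hV ((Finset.univ : Finset G).filter (· ∈ I))
        (fun b hb => hP.sq (Finset.mem_filter.mp hb).2.1)
        (fun b hb c hc' => hPc b (Finset.mem_filter.mp hb).2.1 c (Finset.mem_filter.mp hc').2.1) hodd
        (fun b hb => hIc b (Finset.mem_filter.mp hb).2 e (mem_sup_left he')) fun v hv => ?_)
      have hvU : v ∈ U := fun x hx => hv x (Finset.mem_filter.mpr ⟨Finset.mem_univ x, hx⟩)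
      exact (he.ge hvU).2 e he'
    have hE2 : IsPGroup 2 E := fun e => by
      obtain ⟨k, m, hm, hkm⟩ := Nat.exists_eq_two_pow_mul_odd (orderOf_pos (e : G)).ne'
      refine ⟨k, Subtype.ext ?_⟩
      refine hall _ (E.pow_mem e.2 _) ?_
      show Odd (orderOf ((e : G) ^ 2 ^ k))
      rw [orderOf_pow_of_dvd (Nat.two_pow_pos k).ne' (hkm ▸ Dvd.intro m rfl), hkm,
        Nat.mul_div_cancel_left m (Nat.two_pow_pos k)]
      exact hm
    haveI := hE2.isNilpotent
    haveI : Group.IsSolvable E := inferInstance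
    exact hEne (ComponentsBasic.perfect_eq_bot_of_le_solvable hE le_rfl)
  -- a minimal invariant subgroup above `U0`
  have hU0inv : ∀ l ∈ L, ∀ v ∈ U0, φ l v ∈ U0 := fun l hl v hv => by
    refine ⟨hUinv l hl v hv.1, fun e he => ?_⟩
    have hn : L ≤ normalizer (E : Set G) := sup_le le_normalizer hPE
    have h1 : l⁻¹ * e * l ∈ E := (mem_normalizer_iff''.mp (hn hl) e).mp he
    calc φ e (φ l v) = φ l (φ (l⁻¹ * e * l) v) := by rw [apply_apply, apply_apply]; congr 2; group
      _ = φ l v := by rw [hv.2 _ h1]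
  obtain ⟨W1, -, ⟨hW1, hW1U, hW1inv⟩, hmin⟩ := Finite.exists_le_minimal
    (p := fun W : Subgroup V => U0 < W ∧ W ≤ U ∧ ∀ l ∈ L, ∀ v ∈ W, φ l v ∈ W) (a := U)
    ⟨lt_of_le_of_ne inf_le_left hU0ne, le_rfl, hUinv⟩
  set W0 := U0.subgroupOf W1 with hW0
  let ψ := sectHom φ L W1 W0 hW1inv (fun l hl v hv => hU0inv l hl v hv)
  have hψ : ∀ (l : L) (v : W1), ψ l (QuotientGroup.mk v) =
      QuotientGroup.mk (⟨φ l v, hW1inv l l.2 v v.2⟩ : W1) := fun l v => rfl
  have hW2 : ∀ q : W1 ⧸ W0, q * q = 1 := fun q => by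
    induction q using QuotientGroup.induction_on with
    | H v => rw [← QuotientGroup.mk_mul, show v * v = 1 from Subtype.ext (hV v)]; rfl
  -- the kernel
  set N := ψ.ker.map L.subtype with hN
  have hNn : L ≤ normalizer (N : Set G) := fun l hl => S4FreeOffender.mem_normalizer_of_cj_le (by
    rintro _ ⟨_, ⟨k, hk, rfl⟩, rfl⟩
    have hmem : (⟨l, hl⟩ : L) * k * (⟨l, hl⟩ : L)⁻¹ ∈ ψ.ker := ψ.normal_ker.conj_mem k hk ⟨l, hl⟩
    have h2 := mem_map_of_mem L.subtype hmem
    rw [map_mul, map_mul, map_inv] at h2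
    exact h2)
  have hEnorm : L ≤ normalizer (E : Set G) := sup_le le_normalizer hPE
  have hNE : N ⊓ E ≠ E := by
    intro he
    have htriv := perfect_stab φ hE (D := U0) (W := W1) (fun e he' d hd => hd.2 e he') (fun e he' w hw => by
      obtain ⟨k, hk, hke⟩ := (he.ge he').1
      have h1 := hψ k ⟨w, hw⟩
      rw [MonoidHom.mem_ker.mp hk, MulAut.one_apply] at h1
      have h2 := mem_subgroupOf.mp ((QuotientGroup.eq (s := W0)).mp h1)
      rw [← hke]
      exact h2)
    exact hW1.not_ge fun w hw => ⟨hW1U hw, fun e he' => htriv e he' w hw⟩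
  have hNEc : N ⊓ E ≤ centralizer (E : Set G) := by
    refine (hsimple _ inf_le_right fun l hl => S4FreeOffender.mem_normalizer_of_cj_le ?_).resolve_left hNE
    refine le_inf ((cj_mono l inf_le_left).trans ?_) ((cj_mono l inf_le_right).trans ?_)
    · rw [S4FreeOffender.cj_eq_of_mem (hNn hl)]
    · rw [S4FreeOffender.cj_eq_of_mem (hEnorm hl)]
  have hkerI : P ⊓ N ≤ I := by
    refine le_inf inf_le_left ?_
    intro x hx
    have hmem : ∀ e ∈ E, ⁅e, x⁆ ∈ N ⊓ E := fun e he => by
      refine ⟨?_, ?_⟩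
      · rw [commutatorElement_def]
        exact N.mul_mem ((mem_normalizer_iff.mp (hNn (mem_sup_left he)) x).mp hx.2) (N.inv_mem hx.2)
      · rw [commutatorElement_def, mul_assoc, mul_assoc]
        refine E.mul_mem he ?_
        rw [← mul_assoc]
        exact (mem_normalizer_iff.mp (hPE hx.1) _).mp (E.inv_mem he)
    -- a central homomorphism on a perfect group is trivial
    have hle : E ≤
        { carrier := {e | e ∈ E ∧ ⁅e, x⁆ = 1}
          one_mem' := ⟨E.one_mem, by simp⟩
          mul_mem' := fun {a b} ha hb => ⟨E.mul_mem ha.1 hb.1, by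
            rw [commutatorElement_eq_one_iff_mul_comm, mul_assoc,
              commutatorElement_eq_one_iff_mul_comm.mp hb.2, ← mul_assoc,
              commutatorElement_eq_one_iff_mul_comm.mp ha.2, mul_assoc]⟩
          inv_mem' := fun {a} ha => ⟨E.inv_mem ha.1, by
            rw [commutatorElement_eq_one_iff_mul_comm]
            exact (show Commute a x from commutatorElement_eq_one_iff_mul_comm.mp ha.2).inv_left.eq⟩ :
          Subgroup G } := by
      conv_lhs => rw [← hE]
      rw [commutator_le]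
      intro a ha b hb
      refine ⟨hE ▸ commutator_mem_commutator ha hb, ?_⟩
      have e1 : ∀ e ∈ E, x * e * x⁻¹ = (⁅e, x⁆)⁻¹ * e := fun e he => by
        rw [commutatorElement_def]; group
      have hza := inv_mem (hNEc (hmem a ha))
      have hzb := inv_mem (hNEc (hmem b hb))
      set za := (⁅a, x⁆)⁻¹ with hza'
      set zb := (⁅b, x⁆)⁻¹ with hzb'
      have hzaE : za ∈ E := inv_mem (hmem a ha).2
      have hzbE : zb ∈ E := inv_mem (hmem b hb).2
      have hx' : x * ⁅a, b⁆ * x⁻¹ = ⁅a, b⁆ := by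
        calc x * ⁅a, b⁆ * x⁻¹ = ⁅x * a * x⁻¹, x * b * x⁻¹⁆ := by rw [commutatorElement_def, commutatorElement_def]; group
          _ = ⁅za * a, zb * b⁆ := by rw [e1 a ha, e1 b hb]
          _ = ⁅a, b⁆ := by
            have h1 : Commute za a := (hza a ha).symm
            have h2 : Commute za b := (hza b hb).symm
            have h3 : Commute zb a := (hzb a ha).symm
            have h4 : Commute zb b := (hzb b hb).symm
            have h5 : Commute za zb := (hza zb hzbE).symm
            simp only [commutatorElement_def, mul_inv_rev]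
            calc za * a * (zb * b) * (a⁻¹ * za⁻¹) * (b⁻¹ * zb⁻¹)
                = za * (a * zb) * b * a⁻¹ * za⁻¹ * b⁻¹ * zb⁻¹ := by group
              _ = za * zb * (a * b * a⁻¹) * (za⁻¹ * b⁻¹) * zb⁻¹ := by rw [← h3.eq]; group
              _ = za * zb * (a * b * a⁻¹ * b⁻¹) * za⁻¹ * zb⁻¹ := by
                rw [h2.inv_left.inv_right.eq]; group
              _ = (a * b * a⁻¹ * b⁻¹) * (za * zb) * za⁻¹ * zb⁻¹ := by
                have h6 : Commute (za * zb) (a * b * a⁻¹ * b⁻¹) :=
                  (((h1.mul_left h3).mul_right (h2.mul_left h4)).mul_right (h1.mul_left h3).inv_right).mul_right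
                    (h2.mul_left h4).inv_right
                rw [h6.eq]
              _ = a * b * a⁻¹ * b⁻¹ := by rw [h5.eq]; group
      rw [commutatorElement_eq_one_iff_mul_comm]
      exact (mul_inv_eq_iff_eq_mul.mp hx').symm
    intro e he
    exact commutatorElement_eq_one_iff_mul_comm.mp (hle he).2
  -- the image has trivial 2-core
  have hirr : ∀ D : Subgroup (W1 ⧸ W0), (∀ l : L, ∀ q ∈ D, ψ l q ∈ D) → D = ⊥ ∨ D = ⊤ := by
    intro D hD
    by_cases hDb : D = ⊥
    · exact Or.inl hDb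
    right
    set D1 := (D.comap (QuotientGroup.mk' W0)).map W1.subtype with hD1
    have h0 : U0 < D1 := by
      refine lt_of_le_of_ne (fun v hv => ⟨⟨v, hW1.le hv⟩, ?_, rfl⟩) fun he => hDb ?_
      · show QuotientGroup.mk (⟨v, hW1.le hv⟩ : W1) ∈ D
        rw [(QuotientGroup.eq_one_iff _).mpr (mem_subgroupOf.mpr hv)]
        exact D.one_mem
      · refine (eq_bot_iff_forall D).mpr fun q hq => ?_
        obtain ⟨v, rfl⟩ := QuotientGroup.mk_surjective q
        exact (QuotientGroup.eq_one_iff _).mpr (mem_subgroupOf.mpr (he ▸ ⟨v, hq, rfl⟩))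
    have hinvD : ∀ l ∈ L, ∀ v ∈ D1, φ l v ∈ D1 := by
      rintro l hl _ ⟨v, hv, rfl⟩
      have h2 := hD ⟨l, hl⟩ _ hv
      rw [QuotientGroup.mk'_apply, hψ] at h2
      exact ⟨⟨φ l v, hW1inv l hl v v.2⟩, h2, rfl⟩
    have h1 := hmin ⟨h0, (map_subtype_le _).trans hW1U, hinvD⟩ (map_subtype_le _)
    refine eq_top_iff.mpr fun q _ => ?_
    obtain ⟨v, rfl⟩ := QuotientGroup.mk_surjective q
    obtain ⟨v', hv', he⟩ := h1 v.2
    rwa [← (Subtype.ext he : v' = v)]
  have hnt : Nontrivial (W1 ⧸ W0) := by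
    rw [QuotientGroup.nontrivial_iff]
    exact fun he => hW1.not_ge (subgroupOf_eq_top.mp he)
  have hcore : Cfsg.pCore 2 ψ.range = ⊥ := by
    set N2 := Cfsg.pCore 2 ψ.range with hN2
    haveI : N2.Normal := HallCore.pCore_normal 2 _
    set P2 := N2.map ψ.range.subtype with hP2
    have hP2p : IsPGroup 2 P2 := (HallCore.isPGroup_pCore 2 _).map _
    obtain ⟨w, hw1, hw⟩ := S4FreeOffender.exists_fixed hW2 hnt hP2p
    have hinv2 : ∀ l : L, ∀ q ∈ S4FreeOffender.fixP P2, ψ l q ∈ S4FreeOffender.fixP P2 := by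
      rintro l q hq _ ⟨n, hn, rfl⟩
      have h1 := hq _ (mem_map_of_mem ψ.range.subtype
        ((HallCore.pCore_normal 2 ψ.range).conj_mem n hn ⟨(ψ l)⁻¹, ⟨l⁻¹, map_inv _ _⟩⟩))
      have h2 : ((ψ l)⁻¹ * (n : MulAut (W1 ⧸ W0)) * ((ψ l)⁻¹)⁻¹) q = q := h1
      rw [inv_inv, MulAut.mul_apply, MulAut.mul_apply] at h2
      have h3 := congrArg (ψ l) h2
      rwa [MulAut.apply_inv_self] at h3
    rcases hirr _ hinv2 with h | h
    · rw [h, mem_bot] at hw
      exact absurd hw hw1
    · refine (map_eq_bot_iff_of_injective _ ψ.range.subtype_injective).mp ((eq_bot_iff_forall _).mpr ?_)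
      exact fun x hx => MulEquiv.ext fun q => (h.ge (mem_top q)) x hx
  have hS3' : ¬ Cfsg.Involves (Equiv.Perm (Fin 3)) ψ.range := fun h => hS3
    (FusionQd.involves_of_injective L.subtype_injective
      (FusionQd.involves_of_surjective ψ.rangeRestrict_surjective h))
  have hcard : Nat.card ψ.range < Nat.card G :=
    (Nat.card_le_card_of_surjective _ ψ.rangeRestrict_surjective).trans_lt
      (lt_of_le_of_ne (card_le_card_group L) fun h => hlt (eq_top_of_card_eq L h))
  let PL := P.subgroupOf L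
  let AP := PL.map ψ.rangeRestrict
  have hAP : Cfsg.IsElementaryAbelian 2 AP := by
    refine ⟨⟨⟨?_⟩⟩, ?_⟩
    · rintro ⟨_, x, hx, rfl⟩ ⟨_, y, hy, rfl⟩
      refine Subtype.ext ?_
      show ψ.rangeRestrict x * ψ.rangeRestrict y = ψ.rangeRestrict y * ψ.rangeRestrict x
      rw [← map_mul, ← map_mul]
      exact congrArg ψ.rangeRestrict (Subtype.ext (hPc x hx y hy))
    · rintro _ ⟨x, hx, rfl⟩
      rw [← map_pow, show x ^ 2 = 1 from Subtype.ext (hP.elem.2 x hx), map_one]
  have hsq := hlow ψ.range hcard hS3' (W1 ⧸ W0) ψ.range.subtype ψ.range.subtype_injective hW2 hcore AP hAP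
  -- counting
  set C := W1 ⊓ fix φ P with hC
  have hcardP : Nat.card P ≤ Nat.card AP * Nat.card I := by
    set f := ψ.rangeRestrict.comp (inclusion (le_sup_right : P ≤ L)) with hf
    have h1 : f.range = AP := by
      ext y
      constructor
      · rintro ⟨x, rfl⟩; exact ⟨⟨x, mem_sup_right x.2⟩, x.2, rfl⟩
      · rintro ⟨x, hx, rfl⟩; exact ⟨⟨x, hx⟩, rfl⟩
    rw [← h1, ← Nat.card_congr (QuotientGroup.quotientKerEquivRange f).toEquiv,
      Subgroup.card_eq_card_quotient_mul_card_subgroup f.ker]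
    refine Nat.mul_le_mul_left _ (Nat.card_le_card_of_injective (fun k : f.ker =>
      (⟨((k : P) : G), hkerI ⟨(k : P).2, ?_⟩⟩ : I))
      fun k k' h => Subtype.ext (Subtype.ext (congrArg (fun z : I => (z : G)) h :)))
    have hk : f (k : P) = 1 := MonoidHom.mem_ker.mp k.2
    refine ⟨inclusion (le_sup_right : P ≤ L) (k : P), MonoidHom.mem_ker.mpr ?_, ?_⟩
    · exact (congrArg Subtype.val hk :)
    · simp
  have hC1 : Nat.card C ≤ Nat.card (fix ψ.range.subtype AP) * Nat.card W0 := by
    set g := (QuotientGroup.mk' W0).comp (inclusion (inf_le_left : C ≤ W1)) with hg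
    rw [Subgroup.card_eq_card_quotient_mul_card_subgroup g.ker,
      Nat.card_congr (QuotientGroup.quotientKerEquivRange g).toEquiv]
    refine Nat.mul_le_mul (card_le_of_le ?_) (Nat.card_le_card_of_injective
      (fun k : g.ker => (⟨⟨((k : C) : V), (k : C).2.1⟩, (QuotientGroup.eq_one_iff _).mp (MonoidHom.mem_ker.mp k.2)⟩ : W0))
      fun k k' h => Subtype.ext (Subtype.ext (congrArg (fun z : W0 => ((z : W1) : V)) h :)))
    rintro _ ⟨c, rfl⟩ _ ⟨x, hx, rfl⟩
    show ψ x (QuotientGroup.mk _) = QuotientGroup.mk _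
    rw [hψ]
    exact congrArg QuotientGroup.mk (Subtype.ext (c.2.2 x hx))
  have hW : Nat.card W1 = Nat.card (W1 ⧸ W0) * Nat.card W0 := W0.card_eq_card_quotient_mul_card_subgroup
  have hsup : Nat.card W1 * Nat.card (fix φ P) ≤ Nat.card U * Nat.card C :=
    (S4FreeOffender.card_mul_card_le W1 (fix φ P)).trans
      (Nat.mul_le_mul_right _ (card_le_of_le (sup_le hW1U (fix_anti φ inf_le_left))))
  have hmain : wt φ P ≤ wt φ I := by
    refine Nat.le_of_mul_le_mul_right (c := Nat.card W1) ?_ Nat.card_pos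
    calc wt φ P * Nat.card W1 ≤ (Nat.card AP * Nat.card I) ^ 2 * Nat.card (fix φ P) * Nat.card W1 :=
          Nat.mul_le_mul_right _ (Nat.mul_le_mul_right _ (Nat.pow_le_pow_left hcardP 2))
      _ = (Nat.card AP * Nat.card I) ^ 2 * (Nat.card W1 * Nat.card (fix φ P)) := by ring
      _ ≤ (Nat.card AP * Nat.card I) ^ 2 * (Nat.card U * (Nat.card (fix ψ.range.subtype AP) * Nat.card W0)) :=
          Nat.mul_le_mul_left _ (hsup.trans (Nat.mul_le_mul_left _ hC1))
      _ = (Nat.card AP ^ 2 * Nat.card (fix ψ.range.subtype AP)) * (Nat.card I ^ 2 * Nat.card U * Nat.card W0) := by ring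
      _ ≤ Nat.card (W1 ⧸ W0) * (Nat.card I ^ 2 * Nat.card U * Nat.card W0) := Nat.mul_le_mul_right _ hsq
      _ = wt φ I * Nat.card W1 := by rw [hW, wt]; ring
  exact absurd (hP.off.trans_le hmain) (not_lt.mpr (hP.low I hIP))

end Rep

end Cfsg.Agent.SquaredGen80
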