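import Mathlib
import Cfsg.Agent.Lib.SquaredGen80Offender
import Cfsg.Agent.Lib.ComponentsFitting

/-!
In a proper subgroup an element of odd order inverted by a conjugate of an element of a strongly closed
elementary subgroup centralises every minimal squared offender.
-/

set_option autoImplicit false
set_option linter.style.haveILetI false

open Subgroup
open scoped commutatorElement

namespace Cfsg.Agent.SquaredGen80

open Cfsg.Agent.S4FreeOffender (cj mem_cj conj_mem_cj cj_le_of_mem mem_normalizer_of_cj_le cj_eq_of_mem)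

universe u

variable {G V : Type u} [Group G] [CommGroup V] (φ : G →* MulAut V)

/-- The subgroup generated by the minimal squared offenders inside `L`. -/
def offJoin (L : Subgroup G) : Subgroup G := sSup {P | P ≤ L ∧ Off φ P}

theorem le_offJoin {L P : Subgroup G} (hPL : P ≤ L) (hP : Off φ P) : P ≤ offJoin φ L :=
  le_sSup ⟨hPL, hP⟩

theorem offJoin_le (L : Subgroup G) : offJoin φ L ≤ L := sSup_le fun _ h => h.1

theorem offJoin_mono {L L' : Subgroup G} (h : L ≤ L') : offJoin φ L ≤ offJoin φ L' :=
  sSup_le fun _ hP => le_offJoin φ (hP.1.trans h) hP.2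

theorem cj_offJoin_le [Finite G] {L : Subgroup G} {g : G} (hg : g ∈ normalizer (L : Set G)) :
    cj g (offJoin φ L) ≤ offJoin φ L := by
  show map _ _ ≤ _
  rw [map_le_iff_le_comap]
  refine sSup_le fun P hP => map_le_iff_le_comap.mp ?_
  refine le_offJoin φ ?_ (hP.2.cj g)
  exact (map_mono hP.1).trans (cj_eq_of_mem hg).le

theorem le_normalizer_offJoin [Finite G] {L : Subgroup G} :
    normalizer (L : Set G) ≤ normalizer (offJoin φ L : Set G) :=
  fun _ hg => mem_normalizer_of_cj_le (cj_offJoin_le φ hg)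

/-- An element centralising all offenders inside `L` centralises their join. -/
theorem mem_centralizer_offJoin {L : Subgroup G} {g : G}
    (h : ∀ P ≤ L, Off φ P → ∀ p ∈ P, g * p = p * g) : g ∈ centralizer (offJoin φ L : Set G) := by
  have h1 : offJoin φ L ≤ centralizer {g} := sSup_le fun P hP p hp =>
    mem_centralizer_singleton_iff.mpr (h P hP.1 hP.2 p hp).symm
  exact fun x hx => mem_centralizer_singleton_iff.mp (h1 hx)

variable {φ}
variable (hφ : Function.Injective φ) (hV : ∀ v : V, v * v = 1) [Finite G] [Finite V]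
  (hS3 : ¬ Cfsg.Involves (Equiv.Perm (Fin 3)) G) (hlow : SQBelow.{u} (Nat.card G))

include hφ hV hS3 hlow

/-- The join of the offenders of a proper subgroup has no component. -/
theorem layer_offJoin_eq_bot {R : Subgroup G} (hR : R ≠ ⊤) : Cfsg.layer (offJoin φ R) = ⊥ := by
  set X := offJoin φ R with hX
  rw [ComponentsBasic.layer_eq_bot_iff]
  rintro ⟨K, hK⟩
  -- every offender centralises every component
  have hcent : ∀ P ≤ X, Off φ P → ∀ K : Subgroup X, Cfsg.IsComponent K →
      P ≤ centralizer (K.map X.subtype : Set G) := by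
    intro P hPX hP K hK
    set P2 := P.subgroupOf X with hP2
    set S := {L : Subgroup X | ∃ p ∈ P2, L = K.map (MulAut.conj p).toMonoidHom} with hS
    have hKS : K ∈ S := ⟨1, P2.one_mem, by ext y; simp⟩
    have hcomp : ∀ L ∈ S, Cfsg.IsComponent L := by
      rintro L ⟨p, -, rfl⟩
      exact ComponentsBasic.isComponent_conj hK p
    set E := sSup S with hE
    have hP2E : P2 ≤ normalizer (E : Set X) := by
      intro p hp
      refine mem_normalizer_of_cj_le (map_le_iff_le_comap.mpr (sSup_le ?_))
      rintro L ⟨q, hq, rfl⟩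
      refine map_le_iff_le_comap.mp (le_sSup ⟨p * q, P2.mul_mem hp hq, ?_⟩)
      rw [map_map]
      congr 1
      ext y
      simp [mul_assoc]
    have hEper : ⁅E, E⁆ = E := ComponentsBasic.isPerfect_sSup _ fun L hL =>
      ComponentsBasic.IsComponent.perfect (hcomp L hL)
    have hEl : E ≤ Cfsg.layer X := sSup_le fun L hL => ComponentsBasic.component_le_layer (hcomp L hL)
    have hEX : E.map X.subtype ≤ X := map_subtype_le E
    refine le_trans (hP.centralizes_perfect hφ hV hS3 hlow (E := E.map X.subtype) ?_ ?_ ?_ ?_)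
      (centralizer_le (map_mono (le_sSup hKS)))
    · rw [← map_commutator, hEper]
    · intro p hp
      refine mem_normalizer_of_cj_le ?_
      rintro _ ⟨_, ⟨e, he, rfl⟩, rfl⟩
      exact ⟨(⟨p, hPX hp⟩ : X) * e * (⟨p, hPX hp⟩ : X)⁻¹,
        (mem_normalizer_iff.mp (hP2E (show (⟨p, hPX hp⟩ : X) ∈ P2 from hp)) e).mp he, rfl⟩
    · intro h
      exact hR (eq_top_iff.mpr (h ▸ sup_le (hEX.trans (offJoin_le φ R)) (hPX.trans (offJoin_le φ R))))
    · intro N hNE hN
      set N2 := N.subgroupOf X with hN2
      have hNN : N2.map X.subtype = N := map_subgroupOf_eq_of_le (hNE.trans hEX)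
      have hN2E : N2 ≤ E := fun x hx => by
        obtain ⟨e, he, hex⟩ := hNE (mem_subgroupOf.mp hx)
        rwa [← (Subtype.ext hex : e = x)]
      have hn2 : E ⊔ P2 ≤ normalizer (N2 : Set X) := by
        intro x hx
        refine mem_normalizer_of_cj_le ?_
        rintro _ ⟨y, hy, rfl⟩
        refine mem_subgroupOf.mpr ((mem_normalizer_iff.mp (hN ?_) _).mp (mem_subgroupOf.mp hy))
        have h1 : (x : G) ∈ (E ⊔ P2).map X.subtype := ⟨x, hx, rfl⟩
        rw [Subgroup.map_sup] at h1
        exact sup_le_sup le_rfl ((map_subgroupOf_eq_of_le hPX).le) h1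
      have hdich : ∀ L ∈ S, L ≤ N2 ∨ ⁅L, N2⁆ = ⊥ := by
        intro L hL
        have hLE : L ≤ E := le_sSup hL
        have hNL : N2 ≤ normalizer (L : Set X) :=
          (hN2E.trans hEl).trans (ComponentsBasic.layer_le_normalizer_component (hcomp L hL))
        have hLN : L ≤ normalizer (N2 : Set X) := hLE.trans (le_sup_left.trans hn2)
        have hle : ⁅N2, L⁆ ≤ N2 ⊓ L := by
          refine le_inf (ComponentsBasic.commutator_le_left_of_normalizes hLN) ?_
          rw [commutator_comm]
          exact ComponentsBasic.commutator_le_left_of_normalizes hNL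
        haveI : ((N2 ⊓ L).subgroupOf L).Normal := normal_subgroupOf_of_le_normalizer fun l hl =>
          mem_normalizer_of_cj_le (le_inf
            ((map_mono inf_le_left).trans (cj_eq_of_mem (hLN hl)).le)
            (cj_le_of_mem hl inf_le_right))
        rcases ComponentsBasic.normal_le_center_or_eq_top (hcomp L hL).2 ((N2 ⊓ L).subgroupOf L) with h | h
        · refine Or.inr (ComponentsBasic.commutator_eq_bot_of_perfect
            (ComponentsBasic.IsComponent.perfect (hcomp L hL)) ?_)
          rw [commutator_eq_bot_iff_le_centralizer]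
          intro x hx l hl
          have hxc := hle hx
          have := mem_center_iff.mp (h (show (⟨x, hxc.2⟩ : L) ∈ (N2 ⊓ L).subgroupOf L from hxc)) ⟨l, hl⟩
          exact congrArg Subtype.val this
        · exact Or.inl ((subgroupOf_eq_top.mp h).trans inf_le_left)
      by_cases hall : ∀ L ∈ S, ⁅L, N2⁆ = ⊥
      · refine Or.inr ?_
        have h2 : E ≤ centralizer (N2 : Set X) := sSup_le fun L hL =>
          commutator_eq_bot_iff_le_centralizer.mp (hall L hL)
        intro n hn e he
        obtain ⟨e', he', rfl⟩ := he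
        exact (congrArg Subtype.val
          (h2 he' (⟨n, hEX (hNE hn)⟩ : X) (mem_subgroupOf.mpr hn))).symm
      · refine Or.inl (le_antisymm hNE ?_)
        push Not at hall
        obtain ⟨L, hL, hne⟩ := hall
        have hLN2 := (hdich L hL).resolve_right hne
        obtain ⟨p, hp, rfl⟩ := hL
        rw [← hNN]
        refine map_mono (sSup_le ?_)
        rintro L' ⟨q, hq, rfl⟩
        have hm : q * p⁻¹ ∈ normalizer (N2 : Set X) :=
          hn2 (mem_sup_right (P2.mul_mem hq (P2.inv_mem hp)))
        refine le_trans ?_ (cj_eq_of_mem hm).le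
        refine le_trans (le_of_eq ?_) (map_mono hLN2)
        rw [map_map]
        congr 1
        ext y
        simp [mul_assoc]
  -- so the join centralises a component
  have h1 : X ≤ centralizer (K.map X.subtype : Set G) := sSup_le fun P hP =>
    hcent P (le_offJoin φ hP.1 hP.2) hP.2 K hK
  refine ComponentsBasic.isQuasisimple_not_commutative hK.2 ⟨⟨fun a b => ?_⟩⟩
  refine Subtype.ext (Subtype.ext ?_)
  exact (h1 ((a : X)).2 _ ⟨(b : X), b.2, rfl⟩).symm

set_option maxHeartbeats 800000 in
/-- An inverted element of odd order centralises the offenders of a proper subgroup. -/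
theorem comm_of_inverted {A : Subgroup G} (hA : Tame A) {R : Subgroup G} (hR : R ≠ ⊤) {a f : G}
    (haR : a ∈ R) (ha : InA A a) (hfR : f ∈ R) (hodd : Odd (orderOf f))
    (hinv : a * f * a⁻¹ = f⁻¹) {P : Subgroup G} (hPR : P ≤ R) (hP : Off φ P) :
    ∀ p ∈ P, f * p = p * f := by
  haveI : Fact (Nat.Prime 2) := ⟨Nat.prime_two⟩
  set X := offJoin φ R with hX
  have hlayer := layer_offJoin_eq_bot hφ hV hS3 hlow hR
  have hRX : R ≤ normalizer (X : Set G) := le_normalizer.trans (le_normalizer_offJoin φ)
  set Q2 := Cfsg.pCore 2 X with hQ2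
  haveI : Q2.Normal := HallCore.pCore_normal 2 _
  haveI : Q2.Characteristic := HallCore.pCore_characteristic 2 _
  set Q := Q2.map X.subtype with hQ
  have hQp : IsPGroup 2 Q := (HallCore.isPGroup_pCore 2 _).map _
  have hRQ : R ≤ normalizer (Q : Set G) :=
    hRX.trans (ComponentsCores.normalizer_le_normalizer_map_subtype X Q2)
  have hfQ : ∀ q ∈ Q, f * q = q * f := hA.centralizes hQp ha hinv hodd (hRQ haR) (hRQ hfR)
  -- odd cores are central
  have hcentral : ∀ r : ℕ, r.Prime → r ≠ 2 → Cfsg.pCore r X ≤ center X := by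
    intro r hr hr2
    haveI : Fact r.Prime := ⟨hr⟩
    haveI : (Cfsg.pCore r X).Normal := HallCore.pCore_normal r _
    haveI : (Cfsg.pCore r X).Characteristic := HallCore.pCore_characteristic r _
    set F := (Cfsg.pCore r X).map X.subtype with hF
    have hFp : IsPGroup r F := (HallCore.isPGroup_pCore r _).map _
    haveI : Group.IsNilpotent F := hFp.isNilpotent
    have hFodd : Odd (Nat.card F) := by
      obtain ⟨k, hk⟩ := IsPGroup.iff_card.mp hFp
      rw [hk]
      exact (hr.odd_of_ne_two hr2).pow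
    have hXF : X ≤ normalizer (F : Set G) :=
      le_normalizer.trans (ComponentsCores.normalizer_le_normalizer_map_subtype X _)
    have hXc : X ≤ centralizer (F : Set G) := sSup_le fun P' hP' =>
      hP'.2.centralizes_odd hφ hV hS3 hFodd ((le_offJoin φ hP'.1 hP'.2).trans hXF)
    intro x hx
    exact mem_center_iff.mpr fun y => Subtype.ext (hXc y.2 _ ⟨x, hx, rfl⟩).symm
  have hfit : Cfsg.fittingSubgroup X ≤ Q2 ⊔ (center X ⊓ Cfsg.fittingSubgroup X) := by
    conv_lhs => rw [ComponentsFitting.fittingSubgroup_eq_iSup]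
    refine iSup_le fun r => ?_
    by_cases h2 : (r : ℕ) = 2
    · rw [h2]; exact le_sup_left
    · exact le_sup_of_le_right (le_inf (hcentral _ (Nat.prime_of_mem_primeFactors r.2) h2)
        (ComponentsFitting.pCore_le_fitting (Nat.prime_of_mem_primeFactors r.2)))
  intro p hp
  have hpX : p ∈ X := le_offJoin φ hPR hP hp
  have hp2 := hP.sq hp
  have hpi : p⁻¹ = p := inv_eq_of_mul_eq_one_right hp2
  set c := f * p * f⁻¹ * p with hc
  have hcX : c ∈ X := X.mul_mem ((mem_normalizer_iff.mp (hRX hfR) p).mp hpX) hpX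
  set cX : X := ⟨c, hcX⟩ with hcXd
  set pX : X := ⟨p, hpX⟩ with hpXd
  have hpc : p * c * p⁻¹ = c⁻¹ := by
    simp only [hc, mul_inv_rev, inv_inv, hpi]
    calc p * (f * p * f⁻¹ * p) * p = p * f * p * f⁻¹ * (p * p) := by group
      _ = p * (f * (p * f⁻¹)) := by rw [hp2, mul_one]; group
  -- `c` centralises the 2-core
  have hcQ : cX ∈ centralizer (Q2 : Set X) := by
    intro q hq
    refine Subtype.ext ?_
    show (q : G) * c = c * q
    have hqQ : (q : G) ∈ Q := mem_map_of_mem X.subtype hq
    have hpq : p * q * p ∈ Q := by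
      have := (mem_normalizer_iff.mp (hRQ (hPR hp)) (q : G)).mp hqQ
      rwa [hpi] at this
    have h1 : f⁻¹ * (q : G) = q * f⁻¹ := by
      rw [inv_mul_eq_iff_eq_mul, ← mul_assoc, hfQ _ hqQ, mul_inv_cancel_right]
    calc (q : G) * c = (q * f) * p * f⁻¹ * p := by rw [hc]; group
      _ = f * (p * p) * q * p * f⁻¹ * p := by rw [hp2, mul_one, hfQ _ hqQ]
      _ = f * p * (p * q * p * f⁻¹) * p := by group
      _ = f * p * (f⁻¹ * (p * q * p)) * p := by
          rw [show f⁻¹ * (p * (q : G) * p) = p * q * p * f⁻¹ by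
            rw [inv_mul_eq_iff_eq_mul, ← mul_assoc, hfQ _ hpq, mul_inv_cancel_right]]
      _ = f * p * f⁻¹ * p * q * (p * p) := by group
      _ = c * q := by rw [hp2, mul_one]
  have hcF : cX ∈ Cfsg.fittingSubgroup X := by
    refine ComponentsFitting.centralizer_fitting_le_of_layer_eq_bot hlayer ?_
    have hle : Q2 ⊔ (center X ⊓ Cfsg.fittingSubgroup X) ≤ centralizer {cX} := by
      refine sup_le (fun q hq => mem_centralizer_singleton_iff.mpr (hcQ q hq)) fun z hz => ?_
      exact mem_centralizer_singleton_iff.mpr (mem_center_iff.mp hz.1 cX).symm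
    exact fun y hy => mem_centralizer_singleton_iff.mp (hle (hfit hy))
  obtain ⟨q, hq, z, hz, hqz⟩ := mem_sup_of_normal_left.mp (hfit hcF)
  -- the central part is a 2-element
  have hzc : z ∈ center X := hz.1
  have hz2 : z * z ∈ Q2 := by
    have e : pX * cX * pX⁻¹ = cX⁻¹ := Subtype.ext hpc
    rw [← hqz] at e
    have e1 : pX * (q * z) * pX⁻¹ = (pX * q * pX⁻¹) * z := by
      rw [← mul_assoc pX q z, mul_assoc _ z, ← mem_center_iff.mp hzc pX⁻¹, ← mul_assoc]
    rw [e1, mul_inv_rev, ← mem_center_iff.mp (inv_mem hzc) q⁻¹] at e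
    have hconj : pX * q * pX⁻¹ ∈ Q2 := Normal.conj_mem inferInstance q hq pX
    have e2 : z * z = (pX * q * pX⁻¹)⁻¹ * q⁻¹ := by
      calc z * z = (pX * q * pX⁻¹)⁻¹ * ((pX * q * pX⁻¹) * z) * z := by group
        _ = _ := by rw [e]; group
    rw [e2]
    exact Q2.mul_mem (Q2.inv_mem hconj) (Q2.inv_mem hq)
  have hzQ : z ∈ Q2 := by
    obtain ⟨k, hk⟩ := (HallCore.isPGroup_pCore 2 X) ⟨z * z, hz2⟩
    have hk' : z ^ 2 ^ (k + 1) = 1 := by
      rw [pow_succ', pow_mul, pow_two]
      simpa using congrArg Subtype.val hk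
    haveI : (zpowers z).Normal := ⟨fun y hy g => by
      rw [mem_center_iff.mp ((zpowers_le.mpr hzc) hy) g, mul_inv_cancel_right]; exact hy⟩
    refine HallCore.le_pCore ?_ (mem_zpowers z)
    obtain ⟨j, -, hj⟩ := (Nat.dvd_prime_pow Nat.prime_two).mp (orderOf_dvd_of_pow_eq_one hk')
    exact IsPGroup.of_card (n := j) (by rw [Nat.card_zpowers, hj])
  have hcmem : c ∈ Q := ⟨cX, hqz ▸ Q2.mul_mem hq hzQ, rfl⟩
  -- the commutator has odd and two-power order
  have hfc : f * c = c * f := hfQ c hcmem
  have hpow : ∀ n : ℕ, f ^ n * p * (f ^ n)⁻¹ = c ^ n * p := by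
    intro n
    induction n with
    | zero => simp
    | succ n ih =>
      have e : f * p * f⁻¹ = c * p := by rw [hc, mul_assoc _ p p, hp2, mul_one]
      calc f ^ (n + 1) * p * (f ^ (n + 1))⁻¹ = f * (f ^ n * p * (f ^ n)⁻¹) * f⁻¹ := by
            rw [pow_succ', mul_inv_rev]; simp only [mul_assoc]
        _ = (f * c ^ n) * p * f⁻¹ := by rw [ih]; group
        _ = c ^ n * (f * p * f⁻¹) := by rw [((show Commute f c from hfc).pow_right n).eq]; group
        _ = c ^ (n + 1) * p := by rw [e, ← mul_assoc, ← pow_succ]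
  have h1 := hpow (orderOf f)
  rw [pow_orderOf_eq_one, one_mul, inv_one, mul_one, right_eq_mul] at h1
  obtain ⟨k, hk⟩ := hQp ⟨c, hcmem⟩
  have hk' : c ^ 2 ^ k = 1 := by simpa using congrArg Subtype.val hk
  have hc1 : c = 1 := orderOf_eq_one_iff.mp (Nat.eq_one_of_dvd_coprimes
    (Nat.Coprime.pow_left k (Nat.coprime_two_left.mpr hodd))
    (orderOf_dvd_of_pow_eq_one hk') (orderOf_dvd_of_pow_eq_one h1))
  rw [hc] at hc1
  calc f * p = (f * p * f⁻¹ * p) * p⁻¹ * f := by group
    _ = p * f := by rw [hc1, one_mul, hpi]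

end Cfsg.Agent.SquaredGen80
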