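import Mathlib
import Cfsg.Agent.Lib.SquaredGen80Local
import Cfsg.Agent.Lib.SquaredGen80Collision
import Cfsg.Agent.Lib.SquaredUMax80
import Cfsg.Agent.Lib.PGroupsBasic

/-!
The squared bound in a group without `S₃` whose Sylow 2-subgroups have strongly closed elementary subgroups
containing their central involutions, given the squared bound for the smaller groups: a Sylow subgroup
lies in a unique maximal subgroup, the normaliser of the offenders normalising the strongly closed subgroup.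
-/

set_option autoImplicit false
set_option linter.style.haveILetI false

open Subgroup

namespace Cfsg.Agent.SquaredGen80

open Cfsg.Agent.SquaredBound (fix)
open Cfsg.Agent.S4FreeOffender (cj mem_cj conj_mem_cj cj_le_of_mem mem_normalizer_of_cj_le cj_eq_of_mem
  cj_mono cj_inv_cj card_cj IsSyl exists_syl)

universe u

section Tame

variable {G : Type u} [Group G] [Finite G] {A : Subgroup G} (hA : Tame A)

include hA

/-- A conjugate of an element of `A` in a 2-subgroup containing `A` lies in `A`. -/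
theorem Tame.mem_of_le {R : Subgroup G} (hR : IsPGroup 2 R) (hAR : A ≤ R) {x : G} (hx : x ∈ R)
    (hxA : InA A x) : x ∈ A := by
  obtain ⟨g, hg⟩ := hA.closed R hR
  have he : A = cj g A := eq_of_le_of_card_ge
    (fun y hy => mem_cj.mpr (hg y (hAR hy) (InA.of_mem hy))) (by rw [card_cj])
  rw [he, mem_cj]
  exact hg x hx hxA

/-- A conjugate of an element of `A` moves into `A` inside every subgroup containing `A`. -/
theorem Tame.exists_conj_mem {L : Subgroup G} (hAL : A ≤ L) {x : G} (hxL : x ∈ L) (hx : InA A x) :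
    ∃ m ∈ L, m * x * m⁻¹ ∈ A := by
  obtain ⟨T1, hT1, hAT1⟩ := exists_syl hAL hA.pgroup
  obtain ⟨m, hm, hle⟩ := hT1.exists_conj_le (zpowers_le.mpr hxL) (hA.pgroup_zpowers hx)
  exact ⟨m, hm, hA.mem_of_le hT1.2.1 hAT1 (hle (conj_mem_cj (mem_zpowers x))) (hx.conj m)⟩

/-- Fusion in `A` happens in the normaliser, inside every subgroup containing `A`. -/
theorem Tame.exists_normalizer_conj {L : Subgroup G} (hAL : A ≤ L) {b u : G} (hb : b ∈ A) (hu : u ∈ L)
    (hb' : u * b * u⁻¹ ∈ A) : ∃ n ∈ L, n ∈ normalizer (A : Set G) ∧ n * b * n⁻¹ = u * b * u⁻¹ := by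
  set b' := u * b * u⁻¹ with hb'd
  set C := L ⊓ centralizer {b'} with hC
  have hAC : A ≤ C := le_inf hAL fun x hx => mem_centralizer_singleton_iff.mpr (hA.comm_of_mem hx hb')
  have huC : cj u A ≤ C := by
    refine le_inf (cj_le_of_mem hu hAL) ?_
    rintro _ ⟨x, hx, rfl⟩
    refine mem_centralizer_singleton_iff.mpr ?_
    show u * x * u⁻¹ * b' = b' * (u * x * u⁻¹)
    calc u * x * u⁻¹ * b' = u * (x * b) * u⁻¹ := by rw [hb'd]; group
      _ = u * (b * x) * u⁻¹ := by rw [hA.comm_of_mem hx hb]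
      _ = _ := by rw [hb'd]; group
  obtain ⟨T2, hT2, hAT2⟩ := exists_syl hAC hA.pgroup
  obtain ⟨c, hc, hle⟩ := hT2.exists_conj_le huC (hA.pgroup.map _)
  refine ⟨c * u, L.mul_mem hc.1 hu, mem_normalizer_of_cj_le ?_, ?_⟩
  · rw [← S4FreeOffender.cj_cj]
    intro x hx
    refine hA.mem_of_le hT2.2.1 hAT2 (hle hx) ?_
    obtain ⟨_, ⟨y, hy, rfl⟩, rfl⟩ := hx
    exact ((InA.of_mem hy).conj u).conj c
  · calc c * u * b * (c * u)⁻¹ = c * b' * c⁻¹ := by rw [hb'd]; group
      _ = b' := by rw [mem_centralizer_singleton_iff.mp hc.2, mul_inv_cancel_right]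

end Tame

variable {G V : Type u} [Group G] [CommGroup V] {φ : G →* MulAut V}
variable (hφ : Function.Injective φ) (hV : ∀ v : V, v * v = 1) [Finite G] [Finite V]
  (hS3 : ¬ Cfsg.Involves (Equiv.Perm (Fin 3)) G) (hlow : SQBelow.{u} (Nat.card G))
  (hcore : Cfsg.pCore 2 G = ⊥)

include hcore in
omit [Finite G] in
/-- The centraliser of an involution is proper. -/
theorem centralizer_ne_top {c : G} (hc1 : c ≠ 1) (hc2 : c * c = 1) : centralizer {c} ≠ ⊤ := by
  intro h
  haveI : Fact (Nat.Prime 2) := ⟨Nat.prime_two⟩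
  haveI : (zpowers c).Normal := ⟨fun y hy g => by
    obtain ⟨i, rfl⟩ := mem_zpowers_iff.mp hy
    have h1 : Commute g c := mem_centralizer_singleton_iff.mp (h ▸ mem_top g : g ∈ centralizer {c})
    rw [(h1.zpow_right i).eq, mul_inv_cancel_right]
    exact hy⟩
  have hp : IsPGroup 2 (zpowers c) := by
    obtain ⟨j, -, hj⟩ := (Nat.dvd_prime_pow Nat.prime_two).mp
      (orderOf_dvd_of_pow_eq_one (show c ^ 2 ^ 1 = 1 by rw [pow_one, pow_two, hc2]))
    exact IsPGroup.of_card (n := j) (by rw [Nat.card_zpowers, hj])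
  have h2 := HallCore.le_pCore (p := 2) hp (mem_zpowers c)
  rw [hcore, mem_bot] at h2
  exact hc1 h2

include hφ hV hS3 hlow hcore

set_option maxHeartbeats 1600000 in
/-- The centraliser of the offenders of a Sylow subgroup normalises the offenders of `N(A)`. -/
theorem centralizer_le {A : Subgroup G} (hA : Tame A) (T : Sylow 2 G) (hAT : A ≤ (T : Subgroup G))
    {z : G} (hzA : z ∈ A) (hzD : z ∈ offJoin φ (T : Subgroup G)) (hz1 : z ≠ 1)
    (hzc : ∀ t ∈ (T : Subgroup G), t * z = z * t) :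
    centralizer (offJoin φ (T : Subgroup G) : Set G) ≤
      normalizer (offJoin φ (normalizer (A : Set G)) : Set G) := by
  classical
  set D := offJoin φ (T : Subgroup G) with hD
  set E := offJoin φ (normalizer (A : Set G)) with hE
  set M := normalizer (E : Set G) with hM
  have hTN : (T : Subgroup G) ≤ normalizer (A : Set G) :=
    le_normalizer.trans (hA.le_normalizer_of_le T.isPGroup' hAT)
  have hNM : normalizer (A : Set G) ≤ M := le_normalizer.trans (le_normalizer_offJoin φ)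
  have hsylN : IsSyl (normalizer (A : Set G)) (T : Subgroup G) :=
    ⟨hTN, T.isPGroup', fun _ _ hP hle => (T.is_maximal' hP hle).le⟩
  have hinv : ∀ a ∈ A, a⁻¹ = a := fun a ha => inv_eq_of_mul_eq_one_right (hA.exp a ha)
  suffices key : ∀ n, ∀ B : Subgroup G, B ≤ A → z ∈ B → Nat.card A - Nat.card B = n →
      centralizer (B : Set G) ⊓ centralizer (D : Set G) ≤ M by
    intro x hx
    refine key _ (zpowers z) (zpowers_le.mpr hzA) (mem_zpowers z) rfl ⟨fun y hy => ?_, hx⟩
    obtain ⟨i, rfl⟩ := mem_zpowers_iff.mp hy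
    exact ((show Commute z x from hx z hzD).zpow_left i).eq
  intro n
  induction n using Nat.strong_induction_on with
  | _ n ih =>
  intro B hBA hzB hn
  by_cases hBeq : B = A
  · subst hBeq
    exact inf_le_left.trans ((centralizer_le_normalizer _).trans hNM)
  set H := centralizer (B : Set G) ⊓ centralizer (D : Set G) with hH
  have hABc : A ≤ centralizer (B : Set G) := fun a ha b hb => hA.comm_of_mem (hBA hb) ha
  have hAH : A ≤ normalizer (H : Set G) := by
    intro a ha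
    refine mem_normalizer_of_cj_le (le_inf ?_ ?_)
    · rintro _ ⟨h, hh, rfl⟩
      exact mul_mem (mul_mem (hABc ha) hh.1) (inv_mem (hABc ha))
    · rintro _ ⟨h, hh, rfl⟩ d hd
      have hd' : a⁻¹ * d * a ∈ D := (mem_normalizer_iff''.mp
        (le_normalizer_offJoin φ (le_normalizer (hAT ha))) d).mp hd
      show d * (a * h * a⁻¹) = a * h * a⁻¹ * d
      calc d * (a * h * a⁻¹) = a * ((a⁻¹ * d * a) * h) * a⁻¹ := by group
        _ = a * (h * (a⁻¹ * d * a)) * a⁻¹ := by rw [hh.2 _ hd']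
        _ = _ := by group
  set G1 := H ⊔ A with hG1
  by_contra hcon
  have hG1M : ¬ G1 ≤ M := fun h => hcon (le_sup_left.trans h)
  have hHG1 : H ≤ G1 := le_sup_left
  have hAG1 : A ≤ G1 := le_sup_right
  have hG1B : G1 ≤ centralizer (B : Set G) := sup_le inf_le_left hABc
  have hsplit : ∀ g ∈ G1, ∃ h ∈ H, ∃ a ∈ A, h * a = g := fun g hg => by
    have h1 : g ∈ ((H ⊔ A : Subgroup G) : Set G) := hg
    rw [coe_mul_of_right_le_normalizer_left H A hAH, Set.mem_mul] at h1
    exact h1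
  have hBfix : ∀ g ∈ G1, ∀ x ∈ B, g * x * g⁻¹ = x := fun g hg x hx => by
    rw [← hG1B hg x hx, mul_inv_cancel_right]
  -- centralisers of elements outside `B`
  have hCb : ∀ b ∈ A, b ∉ B → ∀ g ∈ G1, g * b = b * g → g ∈ M := by
    intro b hb hbB g hg hgb
    obtain ⟨h, hh, a, ha, rfl⟩ := hsplit g hg
    refine M.mul_mem ?_ (hNM (le_normalizer ha))
    have hhb : h * b = b * h := by
      have := hgb
      rw [mul_assoc, hA.comm_of_mem ha hb, ← mul_assoc, ← mul_assoc] at this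
      exact mul_right_cancel this
    have hle : B ⊔ zpowers b ≤ A := sup_le hBA (zpowers_le.mpr hb)
    have hlt : Nat.card B < Nat.card (B ⊔ zpowers b : Subgroup G) := by
      refine lt_of_le_of_ne (card_le_of_le le_sup_left) fun he => hbB ?_
      have := eq_of_le_of_card_ge (le_sup_left : B ≤ B ⊔ zpowers b) he.ge
      rw [this]
      exact mem_sup_right (mem_zpowers b)
    have hcard := card_le_of_le hle
    refine ih _ (by omega) (B ⊔ zpowers b) hle (mem_sup_left hzB) rfl ⟨?_, hh.2⟩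
    have h1 : B ⊔ zpowers b ≤ centralizer {h} := sup_le
      (fun x hx => mem_centralizer_singleton_iff.mpr (hh.1 x hx))
      (zpowers_le.mpr (mem_centralizer_singleton_iff.mpr hhb.symm))
    exact fun x hx => mem_centralizer_singleton_iff.mp (h1 hx)
  have hconjM : ∀ b ∈ A, b ∉ B → ∀ y ∈ G1, y * b * y⁻¹ ∈ M → y ∈ M := by
    intro b hb hbB y hy hyb
    obtain ⟨m, hm, hmA⟩ := hA.exists_conj_mem (L := M ⊓ G1)
      (le_inf (le_normalizer.trans hNM) hAG1)
      ⟨hyb, G1.mul_mem (G1.mul_mem hy (hAG1 hb)) (G1.inv_mem hy)⟩ ((InA.of_mem hb).conj y)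
    have hmA' : m * y * b * (m * y)⁻¹ ∈ A := by
      rw [show m * y * b * (m * y)⁻¹ = m * (y * b * y⁻¹) * m⁻¹ by group]
      exact hmA
    obtain ⟨k, hkG, hkA, hk⟩ := hA.exists_normalizer_conj hAG1 hb (G1.mul_mem hm.2 hy) hmA'
    have h1 : k⁻¹ * (m * y) ∈ M := by
      refine hCb b hb hbB _ (G1.mul_mem (G1.inv_mem hkG) (G1.mul_mem hm.2 hy)) ?_
      calc k⁻¹ * (m * y) * b = k⁻¹ * (m * y * b * (m * y)⁻¹) * (m * y) := by group
        _ = k⁻¹ * (k * b * k⁻¹) * (m * y) := by rw [hk]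
        _ = b * (k⁻¹ * (m * y)) := by group
    have h2 := M.mul_mem (hNM hkA) h1
    rw [mul_inv_cancel_left] at h2
    have h3 := M.mul_mem (M.inv_mem hm.1) h2
    rwa [inv_mul_cancel_left] at h3
  obtain ⟨y0, hy0, hy0M⟩ := SetLike.not_le_iff_exists.mp hG1M
  -- all elements outside `B` are fused modulo `B`
  have htrans : ∀ a ∈ A, a ∉ B → ∀ b ∈ A, b ∉ B →
      ∃ k ∈ G1, k ∈ normalizer (A : Set G) ∧ k * b * k⁻¹ * a ∈ B := by
    intro a ha haB b hb hbB
    obtain ⟨a', ha'⟩ : ∃ a', a' = y0 * b * y0⁻¹ := ⟨_, rfl⟩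
    have ha'M : a' ∉ M := fun h => hy0M (hconjM b hb hbB y0 hy0 (ha' ▸ h))
    have ha'G : a' ∈ G1 := ha' ▸ G1.mul_mem (G1.mul_mem hy0 (hAG1 hb)) (G1.inv_mem hy0)
    have ha'A : InA A a' := ha' ▸ (InA.of_mem hb).conj y0
    have ha'i : a'⁻¹ = a' := inv_eq_of_mul_eq_one_right (hA.sq ha'A)
    have hai := hinv a ha
    obtain ⟨r, hr⟩ : ∃ r, r = a * a' := ⟨_, rfl⟩
    have hrG : r ∈ G1 := hr ▸ G1.mul_mem (hAG1 ha) ha'G
    obtain ⟨k, m, ⟨i, rfl⟩, hkm⟩ := Nat.exists_eq_two_pow_mul_odd (orderOf_pos r).ne'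
    set w := r ^ (2 * i + 1) with hw
    set u := r ^ (i + 1) with hu
    have hra' : a' * r * a'⁻¹ = r⁻¹ := by
      rw [hr, mul_inv_rev, ha'i, hai, ← mul_assoc, mul_assoc _ a' a', hA.sq ha'A, mul_one]
    have hra : a * r * a⁻¹ = r⁻¹ := by
      rw [hr, mul_inv_rev, ha'i, hai, ← mul_assoc a a, hA.exp a ha, one_mul]
    have ea : u * a' * u⁻¹ = w * a := by
      have h1 : a' * u⁻¹ = u * a' := by
        have h2 : a' * u * a'⁻¹ = u⁻¹ := by rw [hu, ← conj_pow, hra', inv_pow]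
        calc a' * u⁻¹ = a' * (a' * u * a'⁻¹) := by rw [h2]
          _ = (a' * a') * u * a'⁻¹ := by group
          _ = u * a' := by rw [hA.sq ha'A, one_mul, ha'i]
      rw [mul_assoc, h1, ← mul_assoc, hu, ← pow_add, show i + 1 + (i + 1) = 2 * i + 1 + 1 by ring,
        pow_succ, ← hw, mul_assoc, hr, mul_assoc a a' a', hA.sq ha'A, mul_one]
    have hwp : IsPGroup 2 (zpowers w) := by
      haveI : Fact (Nat.Prime 2) := ⟨Nat.prime_two⟩
      have hd : orderOf w ∣ 2 ^ k := orderOf_dvd_of_pow_eq_one (by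
        rw [hw, ← pow_mul, mul_comm, ← hkm, pow_orderOf_eq_one])
      obtain ⟨j, -, hj⟩ := (Nat.dvd_prime_pow Nat.prime_two).mp hd
      exact IsPGroup.of_card (n := j) (by rw [Nat.card_zpowers, hj])
    have hnw : a ∈ normalizer (zpowers w : Set G) := by
      refine mem_normalizer_of_cj_le ?_
      rw [cj, MonoidHom.map_zpowers, zpowers_le]
      show a * w * a⁻¹ ∈ zpowers w
      rw [hw, ← conj_pow, hra, inv_pow]
      exact inv_mem (mem_zpowers _)
    have hR : IsPGroup 2 (zpowers w ⊔ zpowers a : Subgroup G) :=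
      S4FreeOffender.isPGroup_sup hwp (hA.pgroup_zpowers (InA.of_mem ha)) (zpowers_le.mpr hnw)
    have hwaA : InA A (w * a) := ea ▸ ha'A.conj u
    have haR : a ∈ zpowers w ⊔ zpowers a := mem_sup_right (mem_zpowers a)
    have hwaR : w * a ∈ zpowers w ⊔ zpowers a := mul_mem (mem_sup_left (mem_zpowers w)) haR
    have hwa : (w * a) * a = a * (w * a) := hA.comm_in hR hwaR haR hwaA (InA.of_mem ha)
    have hwaa : (w * a) * a = w := by rw [mul_assoc, hA.exp a ha, mul_one]
    have hwA : InA A w := hwaa ▸ hA.mul_in hR hwaR haR hwaA (InA.of_mem ha)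
    have huG : u ∈ G1 := G1.pow_mem hrG _
    have hwG : w ∈ G1 := G1.pow_mem hrG _
    by_cases hwB : w ∈ B
    · have hb2 : u * y0 * b * (u * y0)⁻¹ = w * a := by rw [← ea, ha']; group
      obtain ⟨n0, hn0G, hn0A, hn0⟩ := hA.exists_normalizer_conj hAG1 hb (G1.mul_mem huG hy0)
        (hb2 ▸ A.mul_mem (hBA hwB) ha)
      exact ⟨n0, hn0G, hn0A, by rw [hn0, hb2, hwaa]; exact hwB⟩
    exfalso
    have hwM : w ∈ M := by
      refine hCb a ha haB w hwG ?_
      calc w * a = w * a * (a * a) := by rw [hA.exp a ha, mul_one]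
        _ = (w * a * a) * a := by group
        _ = a * (w * a) * a := by rw [hwa]
        _ = a * w := by rw [← mul_assoc a, mul_assoc _ a a, hA.exp a ha, mul_one]
    obtain ⟨m', hm', hm'A⟩ := hA.exists_conj_mem (L := M ⊓ G1) (le_inf (le_normalizer.trans hNM) hAG1)
      ⟨hwM, hwG⟩ hwA
    have hm'B : m' * w * m'⁻¹ ∉ B := fun h => hwB (by
      have h1 := hBfix _ (G1.inv_mem hm'.2) _ h
      rw [show m'⁻¹ * (m' * w * m'⁻¹) * m'⁻¹⁻¹ = w by group] at h1
      rwa [h1])
    have hrM : m' * r * m'⁻¹ ∈ M := by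
      refine hCb _ hm'A hm'B _ (G1.mul_mem (G1.mul_mem hm'.2 hrG) (G1.inv_mem hm'.2)) ?_
      have hcw : r * w = w * r := (pow_mul_comm' r _).symm
      calc m' * r * m'⁻¹ * (m' * w * m'⁻¹) = m' * (r * w) * m'⁻¹ := by group
        _ = m' * (w * r) * m'⁻¹ := by rw [hcw]
        _ = _ := by group
    refine ha'M ?_
    have h1 := M.mul_mem (M.mul_mem (M.inv_mem hm'.1) hrM) hm'.1
    rw [show m'⁻¹ * (m' * r * m'⁻¹) * m' = r by group] at h1
    have h2 := M.mul_mem (hNM (le_normalizer ha)) h1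
    rwa [hr, ← mul_assoc, hA.exp a ha, one_mul] at h2
  -- inverted elements
  set S := {f : G | f ∈ G1 ∧ Odd (orderOf f) ∧ ∃ a ∈ G1, InA A a ∧ a * f * a⁻¹ = f⁻¹} with hS
  have hSinv : ∀ g ∈ G1, ∀ f ∈ S, g * f * g⁻¹ ∈ S := by
    rintro g hg f ⟨hf, hodd, a, haG, haA, hinv'⟩
    refine ⟨G1.mul_mem (G1.mul_mem hg hf) (G1.inv_mem hg), ?_, g * a * g⁻¹,
      G1.mul_mem (G1.mul_mem hg haG) (G1.inv_mem hg), haA.conj g, ?_⟩
    · rwa [show g * f * g⁻¹ = MulAut.conj g f from rfl, MulEquiv.orderOf_eq]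
    · calc g * a * g⁻¹ * (g * f * g⁻¹) * (g * a * g⁻¹)⁻¹ = g * (a * f * a⁻¹) * g⁻¹ := by group
        _ = _ := by rw [hinv']; group
  have hnotC : ¬ S ⊆ (centralizer (E : Set G) : Set G) := by
    intro hsub
    refine hG1M ((hA.decomp (L := G1) (C := closure S) hAG1 ((closure_le _).mpr fun f hf => hf.1) ?_
      fun a haG haA f hf hodd hi => subset_closure ⟨hf, hodd, a, haG, haA, hi⟩).trans (sup_le ?_ ?_))
    · intro g hg
      refine mem_normalizer_of_cj_le ?_
      show map _ _ ≤ _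
      rw [MonoidHom.map_closure]
      exact closure_mono (Set.image_subset_iff.mpr fun f hf => hSinv g hg f hf)
    · exact inf_le_right.trans hNM
    · exact ((closure_le _).mpr hsub).trans (centralizer_le_normalizer _)
  obtain ⟨f0, hf0S, hf0C⟩ := Set.not_subset.mp hnotC
  obtain ⟨P', hP'N, hP', hfail⟩ : ∃ P' ≤ normalizer (A : Set G), Off φ P' ∧
      ∀ c ∈ B, (∀ p ∈ P', p * c = c * p) → c = 1 := by
    by_contra hall
    push Not at hall
    refine hf0C (mem_centralizer_offJoin φ fun P' hP'N hP' p hp => ?_)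
    obtain ⟨hf, hodd, a, haG, haA, hi⟩ := hf0S
    obtain ⟨c, hcB, hcP, hc1⟩ := hall P' hP'N hP'
    exact comm_of_inverted hφ hV hS3 hlow hA (centralizer_ne_top hcore hc1 (hA.exp c (hBA hcB)))
      (a := a) (mem_centralizer_singleton_iff.mpr (hG1B haG c hcB).symm) haA
      (mem_centralizer_singleton_iff.mpr (hG1B hf c hcB).symm) hodd hi
      (fun q hq => mem_centralizer_singleton_iff.mpr (hcP q hq)) hP' p hp
  obtain ⟨n', hn', hn'T⟩ := hsylN.exists_conj_le hP'N hP'.isPGroup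
  have hP''D : cj n' P' ≤ D := le_offJoin φ hn'T (hP'.cj n')
  -- conjugates of the fixed points of `D`
  have hfixP : ∀ c ∈ A, c ∈ centralizer (D : Set G) →
      n'⁻¹ * c * n' ∈ A ∧ ∀ p ∈ P', p * (n'⁻¹ * c * n') = n'⁻¹ * c * n' * p := by
    intro c hc hcD
    refine ⟨(mem_normalizer_iff''.mp hn' c).mp hc, fun p hp => ?_⟩
    have h1 := hcD _ (hP''D (conj_mem_cj hp))
    calc p * (n'⁻¹ * c * n') = n'⁻¹ * (n' * p * n'⁻¹ * c) * n' := by group
      _ = n'⁻¹ * (c * (n' * p * n'⁻¹)) * n' := by rw [h1]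
      _ = _ := by group
  have hzDc : z ∈ centralizer (D : Set G) := fun d hd => hzc d (offJoin_le φ _ hd)
  have hDB : ∀ x ∈ A, x ∈ centralizer (D : Set G) → x ∈ B := by
    intro a0 ha0 ha0D
    by_contra ha0B
    set CAD := A ⊓ centralizer (D : Set G) with hCAD
    set C' := cj n'⁻¹ CAD with hC'
    have hC' : ∀ x ∈ C', x ∈ A ∧ ∀ p ∈ P', p * x = x * p := by
      rintro _ ⟨c, hc, rfl⟩
      show n'⁻¹ * c * n'⁻¹⁻¹ ∈ A ∧ _
      have := hfixP c hc.1 hc.2
      simpa using this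
    let f : CAD × B → A := fun q => ⟨(q.1 : G) * q.2, A.mul_mem q.1.2.1 (hBA q.2.2)⟩
    have hsurj : Function.Surjective f := by
      intro x
      by_cases hxB : (x : G) ∈ B
      · exact ⟨(1, ⟨x, hxB⟩), Subtype.ext (one_mul (x : G))⟩
      obtain ⟨k, hkG, hkA, hk⟩ := htrans x x.2 hxB a0 ha0 ha0B
      have h1 : k * a0 * k⁻¹ ∈ CAD := by
        obtain ⟨h, hh, a, ha, rfl⟩ := hsplit k hkG
        refine ⟨(mem_normalizer_iff.mp hkA a0).mp ha0, ?_⟩
        rw [show h * a * a0 * (h * a)⁻¹ = h * (a * a0 * a⁻¹) * h⁻¹ by group, hA.comm_of_mem ha ha0,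
          mul_inv_cancel_right]
        exact Subgroup.mul_mem _ (Subgroup.mul_mem _ hh.2 ha0D) (Subgroup.inv_mem _ hh.2)
      refine ⟨(⟨_, h1⟩, ⟨_, hk⟩), Subtype.ext ?_⟩
      show k * a0 * k⁻¹ * (k * a0 * k⁻¹ * x) = x
      rw [← mul_assoc, hA.exp _ h1.1, one_mul]
    have hninj : ¬ Function.Injective f := by
      intro hinj
      have := congrArg (fun q : CAD × B => (q.1 : G))
        (@hinj (⟨z, hzA, hzDc⟩, 1) (1, ⟨z, hzB⟩) (Subtype.ext (by show z * 1 = 1 * z; simp)))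
      exact hz1 this
    let g : C' × B → A := fun q => ⟨(q.1 : G) * q.2, A.mul_mem (hC' _ q.1.2).1 (hBA q.2.2)⟩
    have ginj : Function.Injective g := by
      rintro ⟨c, b⟩ ⟨c', b'⟩ e
      have e1 : (c : G) * b = c' * b' := congrArg Subtype.val e
      have e2 : (c' : G)⁻¹ * c = b' * (b : G)⁻¹ := by
        rw [inv_mul_eq_iff_eq_mul, ← mul_assoc, eq_mul_inv_iff_mul_eq, e1]
      have e3 : (c' : G)⁻¹ * c = 1 := hfail _ (e2 ▸ B.mul_mem b'.2 (B.inv_mem b.2)) fun p hp =>
        ((show Commute p (c' : G) from (hC' _ c'.2).2 p hp).inv_right.mul_right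
          (show Commute p (c : G) from (hC' _ c.2).2 p hp)).eq
      have e4 : c = c' := Subtype.ext (inv_mul_eq_one.mp e3).symm
      subst e4
      exact Prod.ext rfl (Subtype.ext (mul_left_cancel e1))
    refine hninj (hsurj.bijective_of_nat_card_le ?_).1
    have h1 := Nat.card_le_card_of_injective g ginj
    rwa [Nat.card_prod, card_cj, ← Nat.card_prod] at h1
  -- `B` has index two
  have hhyp : ∀ x ∈ A, ∀ y ∈ A, x ∉ B → y ∉ B → x * y ∈ B := by
    intro x hx y hy hxB hyB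
    obtain ⟨k, hkG, hkA, hk⟩ := htrans y hy hyB x hx hxB
    obtain ⟨h, hh, a, ha, rfl⟩ := hsplit k hkG
    have hkx : h * a * x * (h * a)⁻¹ = h * x * h⁻¹ := by
      rw [show h * a * x * (h * a)⁻¹ = h * (a * x * a⁻¹) * h⁻¹ by group, hA.comm_of_mem ha hx,
        mul_inv_cancel_right]
    rw [hkx] at hk
    obtain ⟨x', hx'⟩ : ∃ x', x' = h * x * h⁻¹ := ⟨_, rfl⟩
    rw [← hx'] at hk hkx
    have hx'A : x' ∈ A := hkx ▸ (mem_normalizer_iff.mp hkA x).mp hx
    have hxx' : x * x' ∈ B := by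
      refine hDB _ (A.mul_mem hx hx'A) fun d hd => ?_
      have hdA : ∀ v ∈ A, d * v * d⁻¹ ∈ A := fun v hv =>
        (mem_normalizer_iff.mp (hTN (offJoin_le φ _ hd)) v).mp hv
      have hdh : d * h = h * d := hh.2 d hd
      have hxn : x⁻¹ * h * x ∈ H := (mem_normalizer_iff''.mp (hAH hx) h).mp hh
      have hdh' : d * (x⁻¹ * h * x) = x⁻¹ * h * x * d := hxn.2 d hd
      set t := x * (d * x * d⁻¹) with ht
      have htA : t ∈ A := A.mul_mem hx (hdA x hx)
      have hth : h * t = t * h := by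
        have hdi : h * d⁻¹ = d⁻¹ * h := by
          rw [eq_inv_mul_iff_mul_eq, ← mul_assoc, hdh, mul_inv_cancel_right]
        rw [ht]
        calc h * (x * (d * x * d⁻¹)) = x * ((x⁻¹ * h * x) * d) * x * d⁻¹ := by group
          _ = x * (d * (x⁻¹ * h * x)) * x * d⁻¹ := by rw [hdh']
          _ = x * d * x⁻¹ * h * (x * x) * d⁻¹ := by group
          _ = x * d * x * (h * d⁻¹) := by rw [hA.exp x hx, mul_one, hinv x hx, mul_assoc]
          _ = x * (d * x * d⁻¹) * h := by rw [hdi]; group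
      have ht' : x' * (d * x' * d⁻¹) = t := by
        calc x' * (d * x' * d⁻¹) = h * x * h⁻¹ * ((d * h) * x * (h⁻¹ * d⁻¹)) := by rw [hx']; group
          _ = h * x * h⁻¹ * ((h * d) * x * (d⁻¹ * h⁻¹)) := by
              rw [hdh, show h⁻¹ * d⁻¹ = d⁻¹ * h⁻¹ by rw [← mul_inv_rev, ← mul_inv_rev, hdh]]
          _ = h * t * h⁻¹ := by rw [ht]; group
          _ = t := by rw [hth, mul_inv_cancel_right]
      have e : d * (x * x') * d⁻¹ = x * x' := by
        have hd1 := hdA x hx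
        calc d * (x * x') * d⁻¹ = (d * x * d⁻¹) * (d * x' * d⁻¹) := by group
          _ = (x * t) * (x' * t) := by
              congr 1
              · rw [ht, ← mul_assoc, hA.exp x hx, one_mul]
              · rw [← ht', ← mul_assoc, hA.exp x' hx'A, one_mul]
          _ = x * (t * x') * t := by group
          _ = x * x' * (t * t) := by rw [hA.comm_of_mem htA hx'A]; group
          _ = x * x' := by rw [hA.exp t htA, mul_one]
      exact mul_inv_eq_iff_eq_mul.mp e
    have := B.mul_mem hxx' hk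
    rwa [show x * x' * (x' * y) = x * y by rw [mul_assoc x, ← mul_assoc x', hA.exp x' hx'A, one_mul]] at this
  -- the hyperplane of an inverted element
  obtain ⟨hf0G, hf0odd, a1, ha1G, ha1A, hi1⟩ := hf0S
  obtain ⟨m1, hm1, hm1A⟩ := hA.exists_conj_mem hAG1 ha1G ha1A
  set f := m1 * f0 * m1⁻¹ with hf
  set b1 := m1 * a1 * m1⁻¹ with hb1
  have hfG : f ∈ G1 := G1.mul_mem (G1.mul_mem hm1 hf0G) (G1.inv_mem hm1)
  have hfodd : Odd (orderOf f) := by
    rwa [hf, show m1 * f0 * m1⁻¹ = MulAut.conj m1 f0 from rfl, MulEquiv.orderOf_eq]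
  have hfinv : b1 * f * b1⁻¹ = f⁻¹ := by
    calc b1 * f * b1⁻¹ = m1 * (a1 * f0 * a1⁻¹) * m1⁻¹ := by rw [hb1, hf]; group
      _ = f⁻¹ := by rw [hi1, hf]; group
  have hf1 : f ≠ 1 := fun h => hf0C (by
    rw [hf, conj_eq_one_iff] at h
    rw [h]; exact one_mem _)
  have hb1f : b1 * f ≠ f * b1 := fun h => by
    rw [h, mul_inv_cancel_right, eq_inv_iff_mul_eq_one] at hfinv
    exact hf1 (orderOf_eq_one_iff.mp (Nat.eq_one_of_dvd_coprimes (Nat.coprime_two_left.mpr hfodd)
      (orderOf_dvd_of_pow_eq_one (show f ^ 2 = 1 by rw [pow_two, hfinv])) dvd_rfl))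
  have hBf : B = A ⊓ centralizer {f} := by
    refine le_antisymm (fun x hx => ⟨hBA hx, mem_centralizer_singleton_iff.mpr (hG1B hfG x hx)⟩) ?_
    intro x hx
    by_contra hxB
    have hb1B : b1 ∉ B := fun h => hb1f (hG1B hfG b1 h)
    have h1 : Commute (x * b1) f := hG1B hfG _ (hhyp x hx.1 b1 hm1A hxB hb1B)
    have h2 : Commute x f := mem_centralizer_singleton_iff.mp hx.2
    have h3 := h2.inv_left.mul_left h1
    rw [inv_mul_cancel_left] at h3
    exact hb1f h3.eq
  let ℬ : Set (Subgroup G) := {B' | (∀ x ∈ A, ∀ y ∈ A, x ∉ B' → y ∉ B' → x * y ∈ B') ∧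
    ∃ f a : G, Odd (orderOf f) ∧ a ∈ A ∧ a * f * a⁻¹ = f⁻¹ ∧ B' = A ⊓ centralizer {f}}
  let Pc : Subgroup G → G → Prop := fun P x => Off φ P ∧ Fx A P x
  set zP := n'⁻¹ * z * n' with hzP
  have hzP1 : zP ≠ 1 := fun h => hz1 (by
    calc z = n' * zP * n'⁻¹ := by rw [hzP]; group
      _ = 1 := by rw [h]; group)
  have huniq : ∀ x ∈ A, x ≠ 1 → (∀ p ∈ P', p * x = x * p) → x = zP := by
    intro x hx hx1 hxP
    have hxB : x ∉ B := fun h => hx1 (hfail x h hxP)
    have hzB' : zP ∉ B := fun h => hzP1 (hfail zP h (hfixP z hzA hzDc).2)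
    have h1 := hfail _ (hhyp x hx zP (hfixP z hzA hzDc).1 hxB hzB') fun p hp =>
      ((show Commute p x from hxP p hp).mul_right (show Commute p zP from (hfixP z hzA hzDc).2 p hp)).eq
    rw [mul_eq_one_iff_eq_inv, hinv _ (hfixP z hzA hzDc).1] at h1
    exact h1
  have hPc : Pc P' zP :=
    ⟨hP', hP'N, fun p hp => hP'.sq hp, (hfixP z hzA hzDc).1, hzP1, (hfixP z hzA hzDc).2, huniq⟩
  have hinvPc : ∀ k ∈ normalizer (A : Set G), ∀ P x, Pc P x → Pc (cj k P) (k * x * k⁻¹) := by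
    rintro k hk P x ⟨hP, hF⟩
    refine ⟨hP.cj k, cj_le_of_mem hk hF.le, ?_, (mem_normalizer_iff.mp hk x).mp hF.mem,
      fun h => hF.ne (conj_eq_one_iff.mp h), ?_, ?_⟩
    · rintro _ ⟨p, hp, rfl⟩
      rw [← map_mul, hF.exp p hp, map_one]
    · rintro _ ⟨p, hp, rfl⟩
      show k * p * k⁻¹ * (k * x * k⁻¹) = k * x * k⁻¹ * (k * p * k⁻¹)
      calc k * p * k⁻¹ * (k * x * k⁻¹) = k * (p * x) * k⁻¹ := by group
        _ = k * (x * p) * k⁻¹ := by rw [hF.comm p hp]
        _ = _ := by group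
    · intro y hy hy1 hyP
      have h1 := hF.uniq (k⁻¹ * y * k) ((mem_normalizer_iff''.mp hk y).mp hy)
        (fun h => hy1 (by
          calc y = k * (k⁻¹ * y * k) * k⁻¹ := by group
            _ = 1 := by rw [h]; group))
        fun p hp => by
          calc p * (k⁻¹ * y * k) = k⁻¹ * (k * p * k⁻¹ * y) * k := by group
            _ = k⁻¹ * (y * (k * p * k⁻¹)) * k := by rw [hyP _ (conj_mem_cj hp)]
            _ = _ := by group
      rw [← h1]; group
  have hinvℬ : ∀ k ∈ normalizer (A : Set G), ∀ B' ∈ ℬ, cj k B' ∈ ℬ := by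
    rintro k hk B' ⟨hh, f', a', hodd', ha', hi', rfl⟩
    have hkA : ∀ x ∈ A, k⁻¹ * x * k ∈ A := fun x hx => (mem_normalizer_iff''.mp hk x).mp hx
    refine ⟨fun x hx y hy hxn hyn => mem_cj.mpr ?_, k * f' * k⁻¹, k * a' * k⁻¹, ?_,
      (mem_normalizer_iff.mp hk a').mp ha', ?_, ?_⟩
    · have := hh _ (hkA x hx) _ (hkA y hy) (fun h => hxn (mem_cj.mpr h)) (fun h => hyn (mem_cj.mpr h))
      rwa [show k⁻¹ * (x * y) * k = k⁻¹ * x * k * (k⁻¹ * y * k) by group]
    · rwa [show k * f' * k⁻¹ = MulAut.conj k f' from rfl, MulEquiv.orderOf_eq]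
    · calc k * a' * k⁻¹ * (k * f' * k⁻¹) * (k * a' * k⁻¹)⁻¹ = k * (a' * f' * a'⁻¹) * k⁻¹ := by group
        _ = _ := by rw [hi']; group
    · ext x
      rw [mem_cj, mem_inf, mem_inf, mem_centralizer_singleton_iff, mem_centralizer_singleton_iff]
      refine and_congr (mem_normalizer_iff''.mp hk x).symm ⟨fun h => ?_, fun h => ?_⟩
      · calc x * (k * f' * k⁻¹) = k * (k⁻¹ * x * k * f') * k⁻¹ := by group
          _ = k * (f' * (k⁻¹ * x * k)) * k⁻¹ := by rw [h]
          _ = _ := by group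
      · calc k⁻¹ * x * k * f' = k⁻¹ * (x * (k * f' * k⁻¹)) * k := by group
          _ = k⁻¹ * (k * f' * k⁻¹ * x) * k := by rw [h]
          _ = _ := by group
  have hnorm : ∀ P x, Pc P x → ∀ B' ∈ ℬ, x ∈ B' → P ≤ normalizer (B' : Set G) := by
    rintro P x ⟨hP, hF⟩ B' ⟨-, f', a', hodd', ha', hi', rfl⟩ hxB'
    have hfP := comm_of_inverted hφ hV hS3 hlow hA (centralizer_ne_top hcore hF.ne (hA.exp x hF.mem))
      (a := a') (mem_centralizer_singleton_iff.mpr (hA.comm_of_mem ha' hF.mem)) (InA.of_mem ha')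
      (mem_centralizer_singleton_iff.mpr (mem_centralizer_singleton_iff.mp hxB'.2).symm) hodd' hi'
      (fun q hq => mem_centralizer_singleton_iff.mpr (hF.comm q hq)) hP
    intro p hp
    refine mem_normalizer_of_cj_le (le_inf ((cj_mono p inf_le_left).trans (cj_eq_of_mem (hF.le hp)).le) ?_)
    rintro _ ⟨y, hy, rfl⟩
    refine mem_centralizer_singleton_iff.mpr ?_
    show p * y * p⁻¹ * f' = f' * (p * y * p⁻¹)
    have hc : Commute f' p := hfP p hp
    exact (((hc.symm).mul_left (show Commute y f' from mem_centralizer_singleton_iff.mp hy.2)).mul_left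
      hc.symm.inv_left).eq
  have hzeq : n' * zP * n'⁻¹ = z := by rw [hzP]; group
  have hsame := same_hyperplanes hS3 hA.exp ℬ (fun B' ⟨_, _, _, _, _, _, e⟩ => e.le.trans inf_le_left)
    (fun B' hB' => hB'.1) hinvℬ Pc (fun P x h => h.2) hinvPc hnorm hPc
    (hinvPc n' hn' P' zP hPc) (B := B) ⟨hhyp, f, b1, hfodd, hm1A, hfinv, hBf⟩
  exact hzP1 (hfail zP (hsame.mpr (hzeq.symm ▸ hzB)) (hfixP z hzA hzDc).2)

omit hφ hV hS3 hlow hcore in
/-- The squared bound from closed elementary subgroups and the smaller groups. -/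
theorem sq_of_closed {G : Type u} [Group G] [Finite G] (hS3 : ¬ Cfsg.Involves (Equiv.Perm (Fin 3)) G)
    (hlow : SQBelow.{u} (Nat.card G))
    (hclosed : ∀ T : Sylow 2 G, ∃ A : Subgroup G, Cfsg.IsStronglyClosed A (T : Subgroup G) ∧
      (∀ a ∈ A, a * a = 1) ∧
      ∀ z ∈ (T : Subgroup G), z ∈ centralizer ((T : Subgroup G) : Set G) → z * z = 1 → z ∈ A) :
    SQ G := by
  intro V _ _ φ hφ hV hcore X hX
  by_contra hcon
  haveI : Fact (Nat.Prime 2) := ⟨Nat.prime_two⟩
  obtain ⟨P1, -, hP1⟩ := exists_off φ hX (not_le.mp hcon)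
  obtain ⟨T, hP1T⟩ := hP1.isPGroup.exists_le_sylow
  obtain ⟨A, hAcl, hAexp, hAz⟩ := hclosed T
  have hA : Tame A := tame_of_stronglyClosed T hAcl hAexp
  set D := offJoin φ (T : Subgroup G) with hD
  -- a central involution generated by offenders
  obtain ⟨z, hzD, hzT, hz1, hz2⟩ : ∃ z ∈ D, z ∈ centralizer ((T : Subgroup G) : Set G) ∧ z ≠ 1 ∧ z * z = 1 := by
    haveI : (D.subgroupOf (T : Subgroup G)).Normal :=
      normal_subgroupOf_of_le_normalizer (le_normalizer.trans (le_normalizer_offJoin φ))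
    have hne : D.subgroupOf (T : Subgroup G) ≠ ⊥ := by
      rw [Ne, subgroupOf_eq_bot, disjoint_iff, inf_eq_left.mpr (offJoin_le φ _)]
      exact fun h => hP1.ne_bot (le_bot_iff.mp (h ▸ le_offJoin φ hP1T hP1))
    obtain ⟨y, hy, hy1⟩ := (bot_or_exists_ne_one _).resolve_left
      (PGroupsBasic.inf_center_ne_bot T.isPGroup' hne)
    obtain ⟨k, hk⟩ := T.isPGroup' y
    classical
    obtain ⟨j, hj, hmin⟩ : ∃ j, y ^ 2 ^ j = 1 ∧ ∀ i < j, y ^ 2 ^ i ≠ 1 :=
      ⟨Nat.find ⟨k, hk⟩, Nat.find_spec (⟨k, hk⟩ : ∃ k, y ^ 2 ^ k = 1), fun i hi => Nat.find_min _ hi⟩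
    obtain ⟨i, rfl⟩ : ∃ i, j = i + 1 := by
      refine Nat.exists_eq_succ_of_ne_zero fun h => hy1 ?_
      rw [h, pow_zero, pow_one] at hj
      exact hj
    refine ⟨((y ^ 2 ^ i : (T : Subgroup G)) : G), ?_, ?_, fun h => hmin i (Nat.lt_succ_self i) (Subtype.ext h), ?_⟩
    · exact mem_subgroupOf.mp (pow_mem hy.1 _)
    · exact fun t ht => congrArg Subtype.val (mem_center_iff.mp (pow_mem hy.2 (2 ^ i)) ⟨t, ht⟩)
    · have : (y ^ 2 ^ i) * (y ^ 2 ^ i) = 1 := by rw [← pow_add, ← two_mul, ← pow_succ', hj]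
      exact congrArg Subtype.val this
  have hzA : z ∈ A := hAz z (offJoin_le φ _ hzD) hzT hz2
  have hTN : (T : Subgroup G) ≤ normalizer (A : Set G) :=
    le_normalizer.trans (hA.le_normalizer_of_le T.isPGroup' hAcl.1)
  set E := offJoin φ (normalizer (A : Set G)) with hE
  set M := normalizer (E : Set G) with hM
  have hNM : normalizer (A : Set G) ≤ M := le_normalizer.trans (le_normalizer_offJoin φ)
  have hCD := centralizer_le hφ hV hS3 hlow hcore hA T hAcl.1 hzA hzD hz1 hzT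
  have hover : ∀ L : Subgroup G, (T : Subgroup G) ≤ L → L ≠ ⊤ → L ≤ M := by
    intro L hTL hL
    set C := L ⊓ centralizer (offJoin φ L : Set G) with hC
    refine (hA.decomp (C := C) (hAcl.1.trans hTL) inf_le_left (fun l hl => ?_) ?_).trans (sup_le ?_ ?_)
    · refine mem_normalizer_of_cj_le (le_inf (cj_le_of_mem hl inf_le_left) ?_)
      rintro _ ⟨c, hc, rfl⟩ y hy
      have hy' : l⁻¹ * y * l ∈ offJoin φ L :=
        (mem_normalizer_iff''.mp (le_normalizer_offJoin φ (le_normalizer hl)) y).mp hy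
      show y * (l * c * l⁻¹) = l * c * l⁻¹ * y
      calc y * (l * c * l⁻¹) = l * ((l⁻¹ * y * l) * c) * l⁻¹ := by group
        _ = l * (c * (l⁻¹ * y * l)) * l⁻¹ := by rw [hc.2 _ hy']
        _ = _ := by group
    · intro a haL haA f hfL hodd hi
      exact ⟨hfL, mem_centralizer_offJoin φ fun P hPL hP =>
        comm_of_inverted hφ hV hS3 hlow hA hL haL haA hfL hodd hi hPL hP⟩
    · exact inf_le_right.trans hNM
    · exact inf_le_right.trans ((Subgroup.centralizer_le (offJoin_mono φ hTL)).trans hCD)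
  have hMne : M ≠ ⊤ := by
    intro hMtop
    set N := A ⊓ E with hN
    have hNE : E ≤ normalizer (N : Set G) := fun e he => mem_normalizer_of_cj_le
      (le_inf ((cj_mono e inf_le_left).trans (cj_eq_of_mem (offJoin_le φ _ he)).le)
        (cj_le_of_mem he inf_le_right))
    have hNc : N ≤ S4FreeOffender.core2 E :=
      S4FreeOffender.le_core2 inf_le_right (hA.pgroup.to_le inf_le_left) hNE
    haveI := HallCore.pCore_normal 2 E
    haveI : (Cfsg.pCore 2 E).Characteristic := HallCore.pCore_characteristic 2 E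
    haveI : (S4FreeOffender.core2 E).Normal := normalizer_eq_top_iff.mp (eq_top_iff.mpr
      (hMtop.ge.trans (ComponentsCores.normalizer_le_normalizer_map_subtype E _)))
    have h1 := HallCore.le_pCore (S4FreeOffender.core2_isPGroup E)
      (hNc ⟨hzA, offJoin_mono φ hTN hzD⟩)
    rw [hcore, mem_bot] at h1
    exact hz1 h1
  -- transfer to the automorphism group
  have hmem : ∀ g : G, φ g ∈ φ.range := fun g => ⟨g, rfl⟩
  have hR3 : S3FreeInvol.NoS3 φ.range := by
    have h1 := (S3FreeInvol.noS3_of_not_involves (H := (⊤ : Subgroup G)) hS3).range le_rfl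
      (φ.comp (⊤ : Subgroup G).subtype)
    rwa [MonoidHom.range_comp, range_subtype, ← MonoidHom.range_eq_map] at h1
  have hUmax : S4FreeOffender.UMax φ.range ((T : Subgroup G).map φ) (M.map φ) := by
    refine ⟨⟨map_le_range φ _, T.isPGroup'.map φ, fun P hP hPp hle => ?_⟩, map_le_range φ _, fun h => hMne ?_,
      map_mono (hTN.trans hNM), fun L hLr hTL hL => ?_⟩
    · have h1 : (T : Subgroup G) ≤ P.comap φ := map_le_iff_le_comap.mp hle
      have h2 := T.is_maximal' (hPp.comap_of_injective φ hφ) h1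
      intro x hx
      obtain ⟨g, rfl⟩ := hP hx
      exact ⟨g, h2.le hx, rfl⟩
    · apply map_injective hφ
      rw [h, MonoidHom.range_eq_map]
    · intro x hx
      obtain ⟨g, rfl⟩ := hLr hx
      refine ⟨g, hover (L.comap φ) (map_le_iff_le_comap.mp hTL) (fun h => hL (le_antisymm hLr ?_)) hx, rfl⟩
      rintro _ ⟨k, rfl⟩
      exact (h.ge (mem_top k) : k ∈ L.comap φ)
  have hRcore : S4FreeOffender.core2 φ.range = ⊥ := by
    have h1 : (Cfsg.pCore 2 φ.range).comap φ.rangeRestrict ≤ Cfsg.pCore 2 G := by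
      haveI := HallCore.pCore_normal 2 φ.range
      exact HallCore.le_pCore ((HallCore.isPGroup_pCore 2 _).comap_of_injective _
        (φ.rangeRestrict_injective_iff.mpr hφ))
    rw [hcore, le_bot_iff] at h1
    rw [S4FreeOffender.core2, ← map_comap_eq_self_of_surjective φ.rangeRestrict_surjective (Cfsg.pCore 2 φ.range),
      h1, Subgroup.map_bot, Subgroup.map_bot]
  have h := SquaredUMax80.sq_bound hV hR3 hRcore hUmax (map_le_range φ X) (by
    rintro _ ⟨x, hx, rfl⟩
    rw [← map_mul, show x * x = 1 by rw [← pow_two]; exact hX.2 x hx, map_one])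
  have hfix : S4FreeOffender.fixP (X.map φ) = fix φ X := by
    ext v
    constructor
    · exact fun hv x hx => hv _ (mem_map_of_mem φ hx)
    · rintro hv _ ⟨x, hx, rfl⟩
      exact hv x hx
  rw [card_map_of_injective hφ, hfix] at h
  exact hcon h

end Cfsg.Agent.SquaredGen80
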