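import Mathlib
import Cfsg.Agent.Lib.SquaredGen80
import Cfsg.Agent.Lib.S4FreeModule
import Cfsg.Agent.Lib.S4FreeFactorTools

/-!
The squared bound and its dual for normal elementary abelian subgroups of an `S₄`-free group, from the bound
for the smaller groups, and the dual bound along a series of sections.
-/

set_option autoImplicit false
set_option linter.style.haveILetI false

open Subgroup
open scoped commutatorElement IsMulCommutative

namespace Cfsg.Agent.SquaredGen80

open Cfsg.Agent.SquaredBound (fix apply_apply)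
open Cfsg.Agent.S4FreeModule (Reduced act act_mk act_injective exp_two image_fam card_image card_fixed
  card_subgroupOf pCore_quotient_eq_bot)

universe u

/-- Strongly closed elementary subgroups containing the central involutions, below a given order. -/
def ClosedBelow (n : ℕ) : Prop :=
  ∀ (H : Type u) [Group H] [Finite H], Nat.card H < n → ¬ Cfsg.Involves (Equiv.Perm (Fin 4)) H →
    ∀ T : Sylow 2 H, ∃ A : Subgroup H, Cfsg.IsStronglyClosed A (T : Subgroup H) ∧ (∀ a ∈ A, a * a = 1) ∧
      ∀ z ∈ (T : Subgroup H), z ∈ Subgroup.centralizer ((T : Subgroup H) : Set H) → z * z = 1 → z ∈ A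

/-- What is known below a given order. -/
def Low (n : ℕ) : Prop := SQBelow.{u} n ∧ ClosedBelow.{u} n

theorem SQBelow.mono {m n : ℕ} (h : SQBelow.{u} n) (hmn : m ≤ n) : SQBelow.{u} m :=
  fun H _ _ hc => h H (hc.trans_le hmn)

theorem Low.mono {m n : ℕ} (h : Low.{u} n) (hmn : m ≤ n) : Low.{u} m :=
  ⟨h.1.mono hmn, fun H _ _ hc => h.2 H (hc.trans_le hmn)⟩

/-- A group without `S₃` is without `S₄`. -/
theorem noS4_of_noS3 {G : Type*} [Group G] (h : ¬ Cfsg.Involves (Equiv.Perm (Fin 3)) G) :
    ¬ Cfsg.Involves (Equiv.Perm (Fin 4)) G := fun h4 =>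
  SquaredUMax80.not_involves_of_noS3 (S3FreeInvol.noS3_of_not_involves (H := (⊤ : Subgroup G)) h)
    (FusionQd.involves_congr (Subgroup.topEquiv (G := G)).symm h4)

/-- The dual of the squared bound. -/
theorem sq_dual {G : Type u} [Group G] [Finite G] (hsq : SQ G) {V : Type u} [CommGroup V] [Finite V]
    (φ : G →* MulAut V) (hφ : Function.Injective φ) (hV : ∀ v : V, v * v = 1)
    (hO : Cfsg.pCore 2 G = ⊥) (A : Subgroup G) (hA : Cfsg.IsElementaryAbelian 2 A) (K : Subgroup V)
    (hKA : ∀ a ∈ A, ∀ v : V, v⁻¹ * φ a v ∈ K) : Nat.card A ^ 2 ≤ Nat.card K := by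
  haveI : Fintype V := Fintype.ofFinite V
  haveI : Finite (V →* ℂˣ) := Nat.finite_of_card_ne_zero (by
    rw [CommGroup.card_monoidHom_of_hasEnoughRootsOfUnity]; exact Nat.card_pos.ne')
  let ψ : G →* MulAut (V →* ℂˣ) :=
    { toFun := fun g =>
        { toFun := fun c => c.comp (φ g⁻¹).toMonoidHom
          invFun := fun c => c.comp (φ g).toMonoidHom
          left_inv := fun c => MonoidHom.ext fun v => by
            show c (φ g⁻¹ (φ g v)) = c v
            rw [apply_apply, inv_mul_cancel, map_one]; rfl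
          right_inv := fun c => MonoidHom.ext fun v => by
            show c (φ g (φ g⁻¹ v)) = c v
            rw [apply_apply, mul_inv_cancel, map_one]; rfl
          map_mul' := fun c d => MonoidHom.ext fun v => rfl }
      map_one' := MulEquiv.ext fun c => MonoidHom.ext fun v => by
        show c (φ (1 : G)⁻¹ v) = c v
        rw [inv_one, map_one]; rfl
      map_mul' := fun g h => MulEquiv.ext fun c => MonoidHom.ext fun v => by
        show c (φ (g * h)⁻¹ v) = c (φ h⁻¹ (φ g⁻¹ v))
        rw [apply_apply, mul_inv_rev] }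
  have hψ : Function.Injective ψ := by
    refine (injective_iff_map_eq_one ψ).mpr fun g hg => ?_
    have h1 : φ g⁻¹ = 1 := MulEquiv.ext fun v =>
      (CommGroup.forall_apply_eq_apply_iff V (M := ℂ)).mp fun c =>
        DFunLike.congr_fun (DFunLike.congr_fun hg c) v
    have h2 : g⁻¹ = 1 := hφ (h1.trans (map_one φ).symm)
    exact inv_eq_one.mp h2
  have hV' : ∀ c : V →* ℂˣ, c * c = 1 := fun c => MonoidHom.ext fun v => by
    rw [MonoidHom.mul_apply, ← map_mul, hV, map_one]; rfl
  have h1 := hsq (V →* ℂˣ) ψ hψ (fun c => by exact hV' c) hO A hA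
  rw [CommGroup.card_monoidHom_of_hasEnoughRootsOfUnity] at h1
  have hle : (MonoidHom.domRestrictHom K ℂˣ).ker ≤ fix ψ A := by
    intro c hc a ha
    refine MonoidHom.ext fun v => ?_
    show c (φ a⁻¹ v) = c v
    have h2 : c (v⁻¹ * φ a⁻¹ v) = 1 :=
      DFunLike.congr_fun (MonoidHom.mem_ker.mp hc) ⟨_, hKA a⁻¹ (A.inv_mem ha) v⟩
    rwa [map_mul, map_inv, inv_mul_eq_one, eq_comm] at h2
  have h2 := card_le_of_le hle
  rw [CommGroup.card_domRestrictHom_ker] at h2
  have h3 := (Nat.mul_le_mul_left (Nat.card A ^ 2) h2).trans h1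
  rw [K.card_eq_card_quotient_mul_card_subgroup, mul_comm (Nat.card A ^ 2)] at h3
  exact Nat.le_of_mul_le_mul_left h3 Nat.card_pos

section Series

variable {G : Type u} [Group G] [Finite G]

/-- An element trivial on an invariant subgroup and on the quotient squares to a trivial action. -/
theorem sq_stab {V : Type*} [CommGroup V] (φ : G →* MulAut V) (hV : ∀ v : V, v * v = 1) (W : Subgroup V)
    {d : G} (hW : ∀ w ∈ W, φ d w = w) (hq : ∀ v : V, v⁻¹ * φ d v ∈ W) : φ (d * d) = 1 := by
  refine MulEquiv.ext fun v => ?_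
  rw [← apply_apply]
  have h := hW _ (hq v)
  rw [map_mul, map_inv, inv_mul_eq_iff_eq_mul] at h
  show φ d (φ d v) = v
  rw [h, inv_eq_of_mul_eq_one_right (hV v), mul_left_comm, hV, mul_one]

/-- The dual bound for a representation with any series, modulo a subgroup acting as a 2-group. -/
theorem exists_dual (hlow : SQBelow.{u} (Nat.card G + 1)) (hS3 : ¬ Cfsg.Involves (Equiv.Perm (Fin 3)) G)
    (A : Subgroup G) (hA : Cfsg.IsElementaryAbelian 2 A) :
    ∀ (n : ℕ) (V : Type u) [CommGroup V] [Finite V], Nat.card V = n → (∀ v : V, v * v = 1) →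
      ∀ φ : G →* MulAut V, ∃ D : Subgroup G, D.Normal ∧ (∀ d ∈ D, ∃ k : ℕ, φ (d ^ 2 ^ k) = 1) ∧
        ∀ K : Subgroup V, (∀ a ∈ A, ∀ v : V, v⁻¹ * φ a v ∈ K) →
          Nat.card A ^ 2 ≤ Nat.card K * Nat.card (A ⊓ D : Subgroup G) ^ 2 := by
  haveI : Fact (Nat.Prime 2) := ⟨Nat.prime_two⟩
  intro n
  induction n using Nat.strong_induction_on with
  | _ n ih =>
  intro V _ _ hn hV φ
  subst hn
  by_cases htriv : ∀ g : G, φ g = 1
  · refine ⟨⊤, inferInstance, fun d _ => ⟨0, htriv _⟩, fun K _ => ?_⟩
    rw [inf_top_eq]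
    exact Nat.le_mul_of_pos_left _ Nat.card_pos
  by_cases hred : ∃ W : Subgroup V, W ≠ ⊥ ∧ W ≠ ⊤ ∧ ∀ g : G, ∀ w ∈ W, φ g w ∈ W
  · obtain ⟨W, hW1, hW2, hWinv⟩ := hred
    have hcardW : Nat.card W < Nat.card V :=
      lt_of_le_of_ne (card_le_card_group W) fun h => hW2 (eq_top_of_card_eq W h)
    have hcardQ : Nat.card (V ⧸ W) < Nat.card V := by
      rw [W.card_eq_card_quotient_mul_card_subgroup]
      exact lt_mul_of_one_lt_right Nat.card_pos (W.one_lt_card_iff_ne_bot.mpr hW1)
    let φ1 : G →* MulAut W :=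
      { toFun := fun g =>
          { toFun := fun w => ⟨φ g w, hWinv g w w.2⟩
            invFun := fun w => ⟨φ g⁻¹ w, hWinv _ w w.2⟩
            left_inv := fun w => Subtype.ext (show φ g⁻¹ (φ g (w : V)) = w by
              rw [apply_apply, inv_mul_cancel, map_one]; rfl)
            right_inv := fun w => Subtype.ext (show φ g (φ g⁻¹ (w : V)) = w by
              rw [apply_apply, mul_inv_cancel, map_one]; rfl)
            map_mul' := fun a b => Subtype.ext (map_mul (φ g) (a : V) b) }
        map_one' := MulEquiv.ext fun w => Subtype.ext (show φ (1 : G) (w : V) = w by rw [map_one]; rfl)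
        map_mul' := fun g h => MulEquiv.ext fun w => Subtype.ext
          (show φ (g * h) (w : V) = φ g (φ h w) by rw [apply_apply]) }
    let φ2 : G →* MulAut (V ⧸ W) :=
      { toFun := fun g =>
          { toFun := QuotientGroup.map W W (φ g).toMonoidHom (fun w hw => hWinv g w hw)
            invFun := QuotientGroup.map W W (φ g⁻¹).toMonoidHom (fun w hw => hWinv _ w hw)
            left_inv := fun q => by
              induction q using QuotientGroup.induction_on with
              | H v =>
                show QuotientGroup.mk (φ g⁻¹ (φ g v)) = QuotientGroup.mk v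
                rw [apply_apply, inv_mul_cancel, map_one]; rfl
            right_inv := fun q => by
              induction q using QuotientGroup.induction_on with
              | H v =>
                show QuotientGroup.mk (φ g (φ g⁻¹ v)) = QuotientGroup.mk v
                rw [apply_apply, mul_inv_cancel, map_one]; rfl
            map_mul' := fun a b => map_mul _ _ _ }
        map_one' := MulEquiv.ext fun q => by
          induction q using QuotientGroup.induction_on with
          | H v => show QuotientGroup.mk (φ (1 : G) v) = QuotientGroup.mk v; rw [map_one]; rfl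
        map_mul' := fun g h => MulEquiv.ext fun q => by
          induction q using QuotientGroup.induction_on with
          | H v =>
            show QuotientGroup.mk (φ (g * h) v) = QuotientGroup.mk (φ g (φ h v))
            rw [apply_apply] }
    obtain ⟨D1, hD1n, hD1, hb1⟩ := ih _ hcardW W rfl (fun w => Subtype.ext (hV w)) φ1
    obtain ⟨D2, hD2n, hD2, hb2⟩ := ih _ hcardQ (V ⧸ W) rfl (fun q => by
      induction q using QuotientGroup.induction_on with
      | H v => rw [← QuotientGroup.mk_mul, hV]; rfl) φ2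
    haveI := hD1n
    haveI := hD2n
    refine ⟨D1 ⊓ D2, inferInstance, fun d hd => ?_, fun K hK => ?_⟩
    · obtain ⟨k1, hk1⟩ := hD1 d hd.1
      obtain ⟨k2, hk2⟩ := hD2 d hd.2
      set d' := d ^ 2 ^ (k1 + k2) with hd'
      have e1 : φ1 d' = 1 := by
        rw [hd', pow_add, pow_mul, map_pow, hk1, one_pow]
      have e2 : φ2 d' = 1 := by
        rw [hd', pow_add, mul_comm, pow_mul, map_pow, hk2, one_pow]
      refine ⟨k1 + k2 + 1, ?_⟩
      rw [pow_succ, pow_mul, ← hd', pow_two]
      refine sq_stab φ hV W (fun w hw => ?_) fun v => ?_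
      · exact (congrArg Subtype.val (DFunLike.congr_fun e1 ⟨w, hw⟩) :)
      · have h1 : (QuotientGroup.mk (φ d' v) : V ⧸ W) = QuotientGroup.mk v :=
          (DFunLike.congr_fun e2 (QuotientGroup.mk v : V ⧸ W) :)
        exact (QuotientGroup.eq (s := W)).mp h1.symm
    · have h1 := hb1 (K.subgroupOf W) fun a ha w => mem_subgroupOf.mpr (hK a ha (w : V))
      have h2 := hb2 (K.map (QuotientGroup.mk' W)) fun a ha q => by
        induction q using QuotientGroup.induction_on with
        | H v => exact ⟨_, hK a ha v, rfl⟩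
      have hKc : Nat.card (K.map (QuotientGroup.mk' W)) * Nat.card (K.subgroupOf W) = Nat.card K := by
        rw [S4FreeFactorTools.card_eq_map_mul W K,
          ← card_map_of_injective W.subtype_injective (K := K.subgroupOf W), subgroupOf_map_subtype]
      have hA12 : Nat.card (A ⊓ D1 : Subgroup G) * Nat.card (A ⊓ D2 : Subgroup G) ≤
          Nat.card A * Nat.card (A ⊓ (D1 ⊓ D2) : Subgroup G) := by
        refine (S4FreeFactorTools.index_inf_le (inf_le_left : A ⊓ D1 ≤ A) inf_le_left
          (OffendersReplace.le_normalizer_of_commute fun x hx y hy =>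
            congrArg Subtype.val (hA.1.is_comm.comm (⟨x, hx.1⟩ : A) ⟨y, hy.1⟩))).trans
          (Nat.mul_le_mul_left _ (card_le_of_le ?_))
        exact fun x hx => ⟨hx.1.1, hx.1.2, hx.2.2⟩
      set a := Nat.card A
      set c1 := Nat.card (A ⊓ D1 : Subgroup G)
      set c2 := Nat.card (A ⊓ D2 : Subgroup G)
      set c := Nat.card (A ⊓ (D1 ⊓ D2) : Subgroup G)
      have ha0 : 0 < a := Nat.card_pos
      refine Nat.le_of_mul_le_mul_left (a := a ^ 2) ?_ (pow_pos ha0 2)
      calc a ^ 2 * a ^ 2 ≤ (Nat.card (K.map (QuotientGroup.mk' W)) * c2 ^ 2) *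
            (Nat.card (K.subgroupOf W) * c1 ^ 2) := Nat.mul_le_mul h2 h1
        _ = Nat.card K * (c1 * c2) ^ 2 := by rw [← hKc]; ring
        _ ≤ Nat.card K * (a * c) ^ 2 := Nat.mul_le_mul_left _ (Nat.pow_le_pow_left hA12 2)
        _ = a ^ 2 * (Nat.card K * c ^ 2) := by ring
  -- irreducible
  push Not at hred
  refine ⟨φ.ker, inferInstance, fun d hd => ⟨0, by rw [pow_zero, pow_one]; exact hd⟩, fun K hK => ?_⟩
  have hnt : Nontrivial V := by
    by_contra h
    rw [not_nontrivial_iff_subsingleton] at h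
    exact htriv fun g => MulEquiv.ext fun v => Subsingleton.elim _ _
  have hcore : Cfsg.pCore 2 φ.range = ⊥ := by
    set P2 := (Cfsg.pCore 2 φ.range).map φ.range.subtype with hP2
    have hP2p : IsPGroup 2 P2 := (HallCore.isPGroup_pCore 2 _).map _
    obtain ⟨w, hw1, hw⟩ := S4FreeOffender.exists_fixed hV hnt hP2p
    have hinv2 : ∀ g : G, ∀ q ∈ S4FreeOffender.fixP P2, φ g q ∈ S4FreeOffender.fixP P2 := by
      rintro g q hq _ ⟨n, hn, rfl⟩
      have h1 := hq _ (mem_map_of_mem φ.range.subtype
        ((HallCore.pCore_normal 2 φ.range).conj_mem n hn ⟨(φ g)⁻¹, ⟨g⁻¹, map_inv _ _⟩⟩))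
      have h2 : ((φ g)⁻¹ * (n : MulAut V) * ((φ g)⁻¹)⁻¹) q = q := h1
      rw [inv_inv, MulAut.mul_apply, MulAut.mul_apply] at h2
      have h3 := congrArg (φ g) h2
      rwa [MulAut.apply_inv_self] at h3
    by_cases htop : S4FreeOffender.fixP P2 = ⊤
    · refine (map_eq_bot_iff_of_injective _ φ.range.subtype_injective).mp ((eq_bot_iff_forall _).mpr ?_)
      exact fun x hx => MulEquiv.ext fun q => (htop.ge (mem_top q)) x hx
    · obtain ⟨g, q, hq, hq'⟩ := hred _ (fun h => hw1 (mem_bot.mp (h ▸ hw))) htop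
      exact absurd (hinv2 g q hq) hq'
  have hS3' : ¬ Cfsg.Involves (Equiv.Perm (Fin 3)) φ.range := fun h =>
    hS3 (FusionQd.involves_of_surjective φ.rangeRestrict_surjective h)
  have hsq : SQ φ.range := hlow φ.range
    (Nat.lt_succ_of_le (Nat.card_le_card_of_surjective _ φ.rangeRestrict_surjective)) hS3'
  set AP := A.map φ.rangeRestrict with hAP
  have hAPe : Cfsg.IsElementaryAbelian 2 AP := by
    refine ⟨⟨⟨?_⟩⟩, ?_⟩
    · rintro ⟨_, x, hx, rfl⟩ ⟨_, y, hy, rfl⟩
      refine Subtype.ext ?_
      show φ.rangeRestrict x * φ.rangeRestrict y = φ.rangeRestrict y * φ.rangeRestrict x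
      rw [← map_mul, ← map_mul]
      exact congrArg φ.rangeRestrict (congrArg Subtype.val (hA.1.is_comm.comm (⟨x, hx⟩ : A) ⟨y, hy⟩))
    · rintro _ ⟨x, hx, rfl⟩
      rw [← map_pow, hA.2 x hx, map_one]
  have h1 := sq_dual hsq φ.range.subtype φ.range.subtype_injective hV hcore AP hAPe K (by
    rintro _ ⟨a, ha, rfl⟩ v
    exact hK a ha v)
  set f := φ.rangeRestrict.comp A.subtype with hf
  have h2 : Nat.card A ≤ Nat.card AP * Nat.card (A ⊓ φ.ker : Subgroup G) := by
    rw [hAP, ← show f.range = A.map φ.rangeRestrict by rw [hf, MonoidHom.range_comp, range_subtype],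
      ← Nat.card_congr (QuotientGroup.quotientKerEquivRange f).toEquiv,
      Subgroup.card_eq_card_quotient_mul_card_subgroup f.ker]
    refine Nat.mul_le_mul_left _ (Nat.card_le_card_of_injective (fun k : f.ker =>
      (⟨((k : A) : G), (k : A).2, ?_⟩ : (A ⊓ φ.ker : Subgroup G)))
      fun k k' h => Subtype.ext (Subtype.ext (congrArg (fun z : (A ⊓ φ.ker : Subgroup G) => (z : G)) h :)))
    exact MonoidHom.mem_ker.mpr (congrArg Subtype.val (MonoidHom.mem_ker.mp k.2) :)
  calc Nat.card A ^ 2 ≤ (Nat.card AP * Nat.card (A ⊓ φ.ker : Subgroup G)) ^ 2 := Nat.pow_le_pow_left h2 2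
    _ = Nat.card AP ^ 2 * Nat.card (A ⊓ φ.ker : Subgroup G) ^ 2 := mul_pow _ _ _
    _ ≤ _ := Nat.mul_le_mul_right _ h1

end Series

section Bounds

variable {G : Type u} [Group G] [Finite G]

/-- No `S₃` in the group induced on a normal elementary abelian subgroup. -/
theorem noS3_quotient {M : Subgroup G} [M.Normal] (hM : Cfsg.IsElementaryAbelian 2 M)
    (hfree : ¬ Cfsg.Involves (Equiv.Perm (Fin 4)) G) :
    ¬ Cfsg.Involves (Equiv.Perm (Fin 3)) (G ⧸ centralizer (M : Set G)) := by
  intro h
  refine hfree (S2759.result.mpr ⟨M, ?_, ?_⟩)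
  · exact fun x => ⟨1, Subtype.ext (by rw [pow_one, SubmonoidClass.coe_pow, hM.2 x x.2]; rfl)⟩
  · obtain ⟨K, R, hR, ⟨e⟩⟩ := h
    set N := normalizer (M : Set G) with hN
    set C := (centralizer (M : Set G)).subgroupOf N with hC
    let ψ : ↥N ⧸ C →* G ⧸ centralizer (M : Set G) :=
      QuotientGroup.lift C ((QuotientGroup.mk' _).comp N.subtype) fun c hc => by
        rw [MonoidHom.mem_ker]
        exact (QuotientGroup.eq_one_iff (c : G)).mpr hc
    have hψ : Function.Surjective ψ := fun y => by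
      obtain ⟨g, rfl⟩ := QuotientGroup.mk_surjective y
      have hg : g ∈ N := by rw [hN, normalizer_eq_top]; exact mem_top g
      exact ⟨QuotientGroup.mk ⟨g, hg⟩, rfl⟩
    refine QuadOffenderS4.involves_of_surjective' (K := K.comap ψ)
      (e.toMonoidHom.comp ((QuotientGroup.mk' (R.subgroupOf K)).comp (ψ.subgroupComap K)))
      (e.surjective.comp ((QuotientGroup.mk'_surjective _).comp fun y => ?_))
    obtain ⟨x, hx⟩ := hψ y
    exact ⟨⟨x, mem_comap.mpr (hx ▸ y.2)⟩, Subtype.ext hx⟩

/-- The group induced on an abelian normal subgroup is smaller. -/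
theorem card_quotient_lt {M : Subgroup G} [M.Normal] (hM : Cfsg.IsElementaryAbelian 2 M) (hne : M ≠ ⊥) :
    Nat.card (G ⧸ centralizer (M : Set G)) < Nat.card G := by
  haveI := hM.1
  rw [(centralizer (M : Set G)).card_eq_card_quotient_mul_card_subgroup]
  refine lt_mul_of_one_lt_right Nat.card_pos (Subgroup.one_lt_card_iff_ne_bot _ |>.mpr fun h => hne ?_)
  exact le_bot_iff.mp (h ▸ (le_centralizer M))

variable {M : Subgroup G} [M.Normal] (hM : Cfsg.IsElementaryAbelian 2 M)
  (hfree : ¬ Cfsg.Involves (Equiv.Perm (Fin 4)) G) (hlow : SQBelow.{u} (Nat.card G)) (hred : Reduced M)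
  (A : Subgroup G) (hAc : ⁅A, A⁆ ≤ centralizer (M : Set G))
  (hA2 : ∀ a ∈ A, a ^ 2 ∈ centralizer (M : Set G))

include hM hfree hlow hred hA2 hAc in
/-- The squared bound. -/
theorem sq_bound :
    Nat.card A ^ 2 * Nat.card (M ⊓ centralizer (A : Set G) : Subgroup G) ≤
      Nat.card M * Nat.card (A ⊓ centralizer (M : Set G) : Subgroup G) ^ 2 := by
  haveI := hM.1
  by_cases hne : M = ⊥
  · subst hne
    have e : centralizer ((⊥ : Subgroup G) : Set G) = ⊤ := eq_top_iff.mpr fun g _ x hx => by
      rw [mem_bot.mp hx, one_mul, mul_one]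
    rw [e, inf_top_eq, bot_inf_eq, mul_comm (Nat.card (⊥ : Subgroup G))]
  have h := hlow (G ⧸ centralizer (M : Set G)) (card_quotient_lt hM hne) (noS3_quotient hM hfree)
    M (act M) act_injective (exp_two hM) (pCore_quotient_eq_bot hred) _ (image_fam A hAc hA2)
  rw [card_fixed _ A rfl, card_subgroupOf] at h
  rw [card_image (M := M) A, mul_pow, mul_right_comm]
  exact Nat.mul_le_mul_right _ h

include hM hfree hlow hred hA2 hAc in
/-- The dual bound. -/
theorem sq_bound_commutator :
    Nat.card A ^ 2 ≤ Nat.card ↥⁅M, A⁆ * Nat.card (A ⊓ centralizer (M : Set G) : Subgroup G) ^ 2 := by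
  haveI := hM.1
  by_cases hne : M = ⊥
  · subst hne
    have e : centralizer ((⊥ : Subgroup G) : Set G) = ⊤ := eq_top_iff.mpr fun g _ x hx => by
      rw [mem_bot.mp hx, one_mul, mul_one]
    rw [e, inf_top_eq]
    exact Nat.le_mul_of_pos_left _ Nat.card_pos
  have h := sq_dual (hlow (G ⧸ centralizer (M : Set G)) (card_quotient_lt hM hne) (noS3_quotient hM hfree))
    (act M) act_injective (exp_two hM) (pCore_quotient_eq_bot hred) _ (image_fam A hAc hA2)
    (⁅M, A⁆.subgroupOf M) (by
      rintro _ ⟨a, ha, rfl⟩ v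
      rw [mem_subgroupOf, Subgroup.coe_mul, InvMemClass.coe_inv, QuotientGroup.mk'_apply, act_mk]
      have h1 : ⁅(v : G)⁻¹, a⁆ ∈ ⁅M, A⁆ := commutator_mem_commutator (M.inv_mem v.2) ha
      rw [commutatorElement_def, inv_inv] at h1
      simpa [mul_assoc] using h1)
  rw [card_subgroupOf] at h
  rw [card_image (M := M) A, mul_pow]
  exact Nat.mul_le_mul_right _ (h.trans (card_le_of_le inf_le_right))

end Bounds

end Cfsg.Agent.SquaredGen80
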