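import Mathlib
import Cfsg.Agent.Lib.SquarefreeClass
import Cfsg.Agent.Lib.FittingHallBasic

/-!
The structure of a finite group with square-free class sizes: the commutator subgroup is cyclic of
square-free order.
-/

set_option autoImplicit false
set_option linter.style.haveILetI false

namespace Cfsg.Agent.SquarefreeClassStructure

open Subgroup SquarefreeClass
open scoped commutatorElement

universe u

variable {G : Type u} [Group G]

theorem isSolvable [Finite G] (h : SF G) : Group.IsSolvable G := by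
  induction hn : Nat.card G using Nat.strong_induction_on generalizing G with
  | _ n ih =>
  rcases subsingleton_or_nontrivial G with hs | hs
  · exact inferInstance
  by_cases hN : ∃ N : Subgroup G, N.Normal ∧ N ≠ ⊥ ∧ N ≠ ⊤
  · obtain ⟨N, hN, hb, ht⟩ := hN
    haveI := hN
    haveI : Group.IsSolvable N := ih _ (hn ▸ by
      refine lt_of_le_of_ne (card_le_card_group N) fun e => ht (eq_top_of_card_eq N e)) (h.normal N) rfl
    haveI : Group.IsSolvable (G ⧸ N) := ih _ (hn ▸ by
      rw [card_eq_card_quotient_mul_card_subgroup N]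
      exact lt_mul_of_one_lt_right Nat.card_pos ((one_lt_card_iff_ne_bot N).2 hb)) (h.quotient N) rfl
    exact Group.isSolvable_of_ker_le_range N.subtype (QuotientGroup.mk' N) (by simp)
  · haveI : IsSimpleGroup G :=
      ⟨fun N hN' => or_iff_not_imp_left.2 fun hb => not_not.1 fun ht => hN ⟨N, hN', hb, ht⟩⟩
    haveI := comm_of_simple h
    exact Group.isSolvable_of_comm fun a b => IsMulCommutative.is_comm.comm a b

/-- `n ↦ g n g⁻¹ n⁻¹` on an abelian normal subgroup. -/
def dHom (N : Subgroup G) [N.Normal] (hN : ∀ a ∈ N, ∀ b ∈ N, a * b = b * a) (g : G) : N →* G where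
  toFun n := g * n * g⁻¹ * (n : G)⁻¹
  map_one' := by simp
  map_mul' a b := by
    have h1 : g * b * g⁻¹ * (b : G)⁻¹ ∈ N :=
      mul_mem (Subgroup.Normal.conj_mem inferInstance _ b.2 g) (inv_mem b.2)
    calc g * ((a * b : N) : G) * g⁻¹ * ((a * b : N) : G)⁻¹
        = g * a * g⁻¹ * ((g * b * g⁻¹ * (b : G)⁻¹) * (a : G)⁻¹) := by
          rw [Subgroup.coe_mul]; group
      _ = g * a * g⁻¹ * ((a : G)⁻¹ * (g * b * g⁻¹ * (b : G)⁻¹)) := by
          rw [hN _ h1 _ (inv_mem a.2)]
      _ = _ := by group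

theorem dHom_apply (N : Subgroup G) [N.Normal] (hN : ∀ a ∈ N, ∀ b ∈ N, a * b = b * a) (g : G)
    (n : N) : dHom N hN g n = g * n * g⁻¹ * (n : G)⁻¹ := rfl

theorem mem_ker_dHom (N : Subgroup G) [N.Normal] (hN : ∀ a ∈ N, ∀ b ∈ N, a * b = b * a) (g : G)
    (n : N) : n ∈ (dHom N hN g).ker ↔ (n : G) ∈ centralizer ({g} : Set G) := by
  rw [MonoidHom.mem_ker, dHom_apply, mul_inv_eq_one, conj_fix_iff]

theorem card_range_dHom [Finite G] (h : SF G) {p : ℕ} [hp : Fact p.Prime] (N : Subgroup G)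
    [N.Normal] (hN : ∀ a ∈ N, ∀ b ∈ N, a * b = b * a) (hNp : IsPGroup p N) (g : G) :
    Nat.card (dHom N hN g).range ∣ p := by
  rw [← index_ker]
  have e : (dHom N hN g).ker = (centralizer ({g} : Set G)).subgroupOf N := by
    ext n; rw [mem_ker_dHom, mem_subgroupOf]
  rw [e]
  obtain ⟨k, hk⟩ := hNp.index ((centralizer ({g} : Set G)).subgroupOf N)
  rw [hk]
  exact squarefree_prime_pow hp.out (h g) (hk ▸ relIndex_dvd_index N _)

theorem dHom_range_le (N : Subgroup G) [N.Normal] (hN : ∀ a ∈ N, ∀ b ∈ N, a * b = b * a) (g : G) :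
    (dHom N hN g).range ≤ N := by
  rintro _ ⟨n, rfl⟩
  exact mul_mem (Subgroup.Normal.conj_mem inferInstance _ n.2 g) (inv_mem n.2)

theorem eq_of_le_of_card_dvd_prime [Finite G] {p : ℕ} (hp : p.Prime) {A B : Subgroup G}
    (hA : A ≠ ⊥) (h : A ≤ B) (hB : Nat.card B ∣ p) : A = B := by
  rcases (Nat.dvd_prime hp).1 hB with h1 | h1
  · exact absurd (card_eq_one.1 (Nat.dvd_one.1 (h1 ▸ card_dvd_of_le h))) hA
  · rcases (Nat.dvd_prime hp).1 (h1 ▸ card_dvd_of_le h) with h2 | h2
    · exact absurd (card_eq_one.1 h2) hA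
    · exact eq_of_le_of_card_ge h (by omega)

/-- A nontrivial group with square-free class sizes has a normal subgroup of prime order. -/
theorem exists_normal_prime [Finite G] [Nontrivial G] (h : SF G) :
    ∃ N : Subgroup G, N.Normal ∧ (Nat.card N).Prime := by
  haveI := isSolvable h
  obtain ⟨N, ⟨hN, hNb⟩, hmin⟩ := Set.Finite.exists_minimalFor id
    {N : Subgroup G | N.Normal ∧ N ≠ ⊥} (Set.toFinite _) ⟨⊤, inferInstance, top_ne_bot⟩
  haveI := hN
  have hsub : ∀ M : Subgroup G, M.Normal → M ≤ N → M ≠ ⊥ → M = N := fun M hM hle hb =>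
    le_antisymm hle (hmin (j := M) ⟨hM, hb⟩ hle)
  -- `N` is abelian
  have hNc : ∀ a ∈ N, ∀ b ∈ N, a * b = b * a := by
    have hb : ⁅N, N⁆ = ⊥ := by
      by_contra hb
      have he : ⁅N, N⁆ = N := hsub _ inferInstance (commutator_le_right N N) hb
      haveI : Nontrivial N := (nontrivial_iff_ne_bot N).2 hNb
      refine (Group.IsSolvable.commutator_lt_top_of_nontrivial (G := N)).ne ?_
      apply map_injective N.subtype_injective
      rw [map_subtype_commutator, he, ← MonoidHom.range_eq_map, range_subtype]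
    intro a ha b hb'
    exact commutatorElement_eq_one_iff_mul_comm.1 (mem_bot.1 (hb ▸ commutator_mem_commutator ha hb'))
  -- and a `p`-group
  have hN1 : Nat.card N ≠ 1 := fun e => hNb (card_eq_one.1 e)
  set p := (Nat.card N).minFac
  haveI hp : Fact p.Prime := ⟨Nat.minFac_prime hN1⟩
  have hNp : IsPGroup p N := by
    obtain ⟨S⟩ : Nonempty (Sylow p N) := inferInstance
    haveI : IsMulCommutative N := ⟨⟨fun a b => Subtype.ext (hNc a a.2 b b.2)⟩⟩
    haveI : (S : Subgroup N).Normal := by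
      refine ⟨fun s hs g => ?_⟩
      rwa [IsMulCommutative.is_comm.comm g s, mul_inv_cancel_right]
    haveI := S.characteristic_of_normal inferInstance
    have hb : (S : Subgroup N).map N.subtype ≠ ⊥ := by
      rw [Ne, map_eq_bot_iff_of_injective _ N.subtype_injective]
      exact S.ne_bot_of_dvd_card (Nat.minFac_dvd _)
    have := hsub _ inferInstance (map_subtype_le _) hb
    intro x
    obtain ⟨y, hy, hyx⟩ := (show (x : G) ∈ (S : Subgroup N).map N.subtype by rw [this]; exact x.2)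
    obtain ⟨k, hk⟩ := S.isPGroup' ⟨y, hy⟩
    refine ⟨k, ?_⟩
    rw [← N.subtype_injective hyx]
    simpa using congrArg Subtype.val hk
  let d := dHom N hNc
  have hR : ∀ g, Nat.card (d g).range ∣ p := card_range_dHom h N hNc hNp
  have hconjR : ∀ x g : G, ∀ y ∈ (d g).range, x * y * x⁻¹ ∈ (d (x * g * x⁻¹)).range := by
    rintro x g _ ⟨n, rfl⟩
    refine ⟨⟨x * n * x⁻¹, hN.conj_mem _ n.2 x⟩, ?_⟩
    simp only [d, dHom_apply]
    group
  have hprime : ∀ {A : Subgroup G}, A ≠ ⊥ → Nat.card A ∣ p → (Nat.card A).Prime := fun hA hd => by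
    rcases (Nat.dvd_prime hp.out).1 hd with h1 | h1
    · exact absurd (card_eq_one.1 h1) hA
    · rw [h1]; exact hp.out
  by_cases hall : ∀ g, (d g).range = ⊥
  · obtain ⟨n, hn⟩ := exists_prime_orderOf_dvd_card' (G := N) p (Nat.minFac_dvd _)
    have hcard : Nat.card (zpowers (n : G)) = p := by
      rw [Nat.card_zpowers, Subgroup.orderOf_coe, hn]
    refine ⟨zpowers (n : G), ⟨fun y hy g => ?_⟩, by rw [hcard]; exact hp.out⟩
    have : d g ⟨y, zpowers_le.2 n.2 hy⟩ = 1 :=
      mem_bot.1 (hall g ▸ ⟨_, rfl⟩)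
    simp only [d, dHom_apply, mul_inv_eq_one] at this
    rwa [this]
  push Not at hall
  obtain ⟨g, hg⟩ := hall
  -- two elements with different images have the same kernel
  have key : ∀ g h' : G, (d g).range ≠ ⊥ → (d h').range ≠ ⊥ → (d g).range ≠ (d h').range →
      (d h').ker ≤ (d g).ker := by
    intro g h' hg hh hne
    by_contra hle
    obtain ⟨n, hn, hng⟩ := SetLike.not_le_iff_exists.1 hle
    have hmul : ∀ m : N, d (g * h') m = (g * d h' m * g⁻¹) * d g m := fun m => by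
      simp only [d, dHom_apply]; group
    have hn' : d (g * h') n = d g n := by
      rw [hmul, MonoidHom.mem_ker.1 hn]; group
    have h1 : zpowers (d g n) ≠ ⊥ := zpowers_ne_bot.2 hng
    have e1 : zpowers (d g n) = (d g).range :=
      eq_of_le_of_card_dvd_prime hp.out h1 (zpowers_le.2 ⟨n, rfl⟩) (hR g)
    have e2 : zpowers (d g n) = (d (g * h')).range :=
      eq_of_le_of_card_dvd_prime hp.out h1 (zpowers_le.2 (hn' ▸ ⟨n, rfl⟩)) (hR _)
    have hle' : (d h').range ≤ (d g).range := by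
      rintro _ ⟨m, rfl⟩
      have h2 : d (g * h') m ∈ (d g).range := e1 ▸ e2.symm ▸ ⟨m, rfl⟩
      have hm : d h' m ∈ N := dHom_range_le N hNc h' ⟨m, rfl⟩
      have h3 : d g ⟨_, hm⟩ ∈ (d g).range := ⟨_, rfl⟩
      have e : d h' m = (d g ⟨_, hm⟩)⁻¹ * d (g * h') m * (d g m)⁻¹ := by
        rw [hmul m]; simp only [d, dHom_apply]; group
      rw [e]
      exact mul_mem (mul_mem (inv_mem h3) h2) (inv_mem ⟨m, rfl⟩)
    exact hne (eq_of_le_of_card_dvd_prime hp.out hh hle' (hR g)).symm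
  by_cases hsame : ∀ h', (d h').range ≠ ⊥ → (d h').range = (d g).range
  · have hnorm : (d g).range.Normal := ⟨fun y hy x => by
      have h1 := hconjR x g y hy
      by_cases hb : (d (x * g * x⁻¹)).range = ⊥
      · rw [hb, mem_bot] at h1; rw [h1]; exact one_mem _
      · exact hsame _ hb ▸ h1⟩
    exact ⟨_, hnorm, hprime hg (hR g)⟩
  push Not at hsame
  obtain ⟨g', hg', hne⟩ := hsame
  have hkeq : ∀ k, (d k).range ≠ ⊥ → (d k).ker = (d g).ker := by
    intro k hk
    by_cases he : (d k).range = (d g).range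
    · have h1 : (d k).range ≠ (d g').range := fun h2 => hne (h2.symm.trans he)
      calc (d k).ker = (d g').ker := le_antisymm (key _ _ hg' hk h1.symm) (key _ _ hk hg' h1)
        _ = (d g).ker := le_antisymm (key _ _ hg hg' hne.symm) (key _ _ hg' hg hne)
    · exact le_antisymm (key _ _ hg hk (Ne.symm he)) (key _ _ hk hg he)
  have hKn : ((d g).ker.map N.subtype).Normal := by
    refine ⟨fun y hy x => ?_⟩
    obtain ⟨n, hn, rfl⟩ := hy
    refine ⟨⟨x * n * x⁻¹, hN.conj_mem _ n.2 x⟩, ?_, rfl⟩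
    by_cases hb : (d (x⁻¹ * g * x)).range = ⊥
    · -- impossible: conjugates of `g` act nontrivially
      exfalso
      apply hg
      rw [eq_bot_iff]
      intro y hy
      have := hconjR x⁻¹ g y hy
      rw [inv_inv, hb, mem_bot] at this
      rw [mem_bot]
      calc y = x * (x⁻¹ * y * x) * x⁻¹ := by group
        _ = 1 := by rw [this]; group
    · have h1 : n ∈ (d (x⁻¹ * g * x)).ker := by rw [hkeq _ hb]; exact hn
      rw [SetLike.mem_coe, MonoidHom.mem_ker] at *
      simp only [d, dHom_apply] at h1 ⊢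
      calc g * (x * n * x⁻¹) * g⁻¹ * (x * n * x⁻¹)⁻¹
          = x * (x⁻¹ * g * x * n * (x⁻¹ * g * x)⁻¹ * (n : G)⁻¹) * x⁻¹ := by group
        _ = 1 := by rw [h1]; group
  have hKb : (d g).ker = ⊥ := by
    by_contra hb
    have := hsub _ hKn (map_subtype_le _) (by
      rwa [Ne, map_eq_bot_iff_of_injective _ N.subtype_injective])
    refine hg (MonoidHom.range_eq_bot_iff.2 (MonoidHom.ker_eq_top_iff.1 ?_))
    apply map_injective N.subtype_injective
    rw [this, ← MonoidHom.range_eq_map, range_subtype]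
  refine ⟨N, hN, ?_⟩
  rw [← index_bot, ← hKb, index_ker]
  exact hprime hg (hR g)

theorem commutator_mem (x y : G) : ⁅x, y⁆ ∈ commutator G :=
  commutator_mem_commutator (mem_top x) (mem_top y)

/-- The commutator subgroup is nilpotent. -/
theorem commutator_isNilpotent [Finite G] (h : SF G) : Group.IsNilpotent (commutator G) := by
  induction hn : Nat.card G using Nat.strong_induction_on generalizing G with
  | _ n ih =>
  rcases subsingleton_or_nontrivial G with hs | hs
  · exact Group.isNilpotent_of_subsingleton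
  obtain ⟨N, hN, hp⟩ := exists_normal_prime h
  haveI := hN
  have hlt : Nat.card (G ⧸ N) < Nat.card G := by
    rw [card_eq_card_quotient_mul_card_subgroup N]
    exact lt_mul_of_one_lt_right Nat.card_pos hp.one_lt
  haveI := ih _ (hn ▸ hlt) (h.quotient N) rfl
  haveI : Fact (Nat.card N).Prime := ⟨hp⟩
  haveI : IsCyclic N := isCyclic_of_prime_card rfl
  -- the commutator subgroup centralises `N`
  have hcent : commutator G ≤ centralizer (N : Set G) := by
    rw [commutator_def, commutator_le]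
    intro a _ b _
    rw [mem_centralizer_iff]
    intro y hy
    obtain ⟨z, hz⟩ := IsCyclic.exists_generator (α := N)
    have hpow : ∀ c : G, ∃ i : ℤ, ∀ w ∈ N, c * w * c⁻¹ = w ^ i := by
      intro c
      obtain ⟨i, hi⟩ := hz ⟨c * z * c⁻¹, hN.conj_mem _ z.2 c⟩
      refine ⟨i, fun w hw => ?_⟩
      obtain ⟨j, hj⟩ := hz ⟨w, hw⟩
      have hi' : (z : G) ^ i = c * z * c⁻¹ := by simpa using congrArg Subtype.val hi
      have hj' : (z : G) ^ j = w := by simpa using congrArg Subtype.val hj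
      rw [← hj', ← conj_zpow, ← hi', ← zpow_mul, ← zpow_mul, mul_comm]
    obtain ⟨i, hi⟩ := hpow a
    obtain ⟨j, hj⟩ := hpow b
    have hab : a * b * y * (a * b)⁻¹ = b * a * y * (b * a)⁻¹ := by
      calc a * b * y * (a * b)⁻¹ = a * (b * y * b⁻¹) * a⁻¹ := by group
        _ = (y ^ j) ^ i := by rw [hj y hy, hi _ (zpow_mem hy j)]
        _ = (y ^ i) ^ j := by rw [← zpow_mul, ← zpow_mul, mul_comm]
        _ = b * (a * y * a⁻¹) * b⁻¹ := by rw [hi y hy, hj _ (zpow_mem hy i)]
        _ = b * a * y * (b * a)⁻¹ := by group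
    have h2 : b⁻¹ * a⁻¹ * y * (a * b) = a⁻¹ * b⁻¹ * y * (b * a) := by
      have hab' : ∀ w ∈ N, a * b * w * (a * b)⁻¹ = b * a * w * (b * a)⁻¹ := by
        intro w hw
        calc a * b * w * (a * b)⁻¹ = a * (b * w * b⁻¹) * a⁻¹ := by group
          _ = (w ^ j) ^ i := by rw [hj w hw, hi _ (zpow_mem hw j)]
          _ = (w ^ i) ^ j := by rw [← zpow_mul, ← zpow_mul, mul_comm]
          _ = b * (a * w * a⁻¹) * b⁻¹ := by rw [hi w hw, hj _ (zpow_mem hw i)]
          _ = b * a * w * (b * a)⁻¹ := by group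
      have h3 := hab' (a⁻¹ * b⁻¹ * y * (b * a)) (by
        have := hN.conj_mem y hy (a⁻¹ * b⁻¹)
        simpa [mul_assoc] using this)
      calc b⁻¹ * a⁻¹ * y * (a * b)
          = (a * b)⁻¹ * (b * a * (a⁻¹ * b⁻¹ * y * (b * a)) * (b * a)⁻¹) * (a * b) := by group
        _ = (a * b)⁻¹ * (a * b * (a⁻¹ * b⁻¹ * y * (b * a)) * (a * b)⁻¹) * (a * b) := by rw [h3]
        _ = a⁻¹ * b⁻¹ * y * (b * a) := by group
    rw [commutatorElement_def]
    calc y * (a * b * a⁻¹ * b⁻¹) = a * b * (b⁻¹ * a⁻¹ * y * (a * b)) * a⁻¹ * b⁻¹ := by group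
      _ = a * b * (a⁻¹ * b⁻¹ * y * (b * a)) * a⁻¹ * b⁻¹ := by rw [h2]
      _ = a * b * a⁻¹ * b⁻¹ * y := by group
  let f : commutator G →* commutator (G ⧸ N) :=
    ((QuotientGroup.mk' N).comp (commutator G).subtype).codRestrict _ fun x => by
      have hm : (commutator G).map (QuotientGroup.mk' N) ≤ commutator (G ⧸ N) := by
        rw [commutator_def, map_commutator, commutator_def]
        exact commutator_mono le_top le_top
      exact hm ⟨x, x.2, rfl⟩
  refine Subgroup.isNilpotent_of_ker_le_center f (fun x hx => ?_)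
  rw [mem_center_iff]
  intro y
  have hxN : (x : G) ∈ N := by
    rw [← QuotientGroup.eq_one_iff]
    exact congrArg Subtype.val (MonoidHom.mem_ker.1 hx)
  exact Subtype.ext (mem_centralizer_iff.1 (hcent y.2) _ hxN).symm

theorem fix_of_pow [Finite G] {b m t : G} {p : ℕ} (htp : ∃ k, orderOf t = p ^ k)
    (hb : (orderOf b).Coprime p) (h1 : b * m * b⁻¹ = m * t) (h2 : b * t * b⁻¹ = t) : t = 1 := by
  have : ∀ k : ℕ, b ^ k * m * (b ^ k)⁻¹ = m * t ^ k := by
    intro k
    induction k with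
    | zero => simp
    | succ k ih =>
      calc b ^ (k + 1) * m * (b ^ (k + 1))⁻¹ = b * (b ^ k * m * (b ^ k)⁻¹) * b⁻¹ := by
            rw [pow_succ']; group
        _ = (b * m * b⁻¹) * (b * t * b⁻¹) ^ k := by
            rw [ih, conj_pow]; group
        _ = m * t ^ (k + 1) := by rw [h1, h2, pow_succ']; group
  have h3 := this (orderOf b)
  rw [pow_orderOf_eq_one] at h3
  have h4 : t ^ orderOf b = 1 := by
    simpa using h3.symm
  obtain ⟨k, hk⟩ := htp
  rw [← orderOf_eq_one_iff]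
  exact Nat.eq_one_of_dvd_coprimes ((hb.pow_right k)) (orderOf_dvd_of_pow_eq_one h4) (hk ▸ dvd_refl _)

section pgroup

variable [Finite G] {p : ℕ} [hp : Fact p.Prime]

/-- All commutators of elements of a Sylow subgroup lie in one subgroup of order dividing `p`. -/
theorem exists_commutators_le (h : SF G) (P : Sylow p G) :
    ∃ Z : Subgroup G, Nat.card Z ∣ p ∧
      ∀ x ∈ (P : Subgroup G), ∀ y ∈ (P : Subgroup G), ⁅x, y⁆ ∈ Z := by
  have hmul : ∀ x ∈ (P : Subgroup G), ∀ y y' : G, y ∈ (P : Subgroup G) → y' ∈ (P : Subgroup G) →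
      ⁅y * y', x⁆ = ⁅y, x⁆ * ⁅y', x⁆ := by
    intro x hx y y' hy hy'
    have hc := mem_center_iff.1 (commutator_mem_center h P hy' hx) y
    calc ⁅y * y', x⁆ = y * ⁅y', x⁆ * x * y⁻¹ * x⁻¹ := by simp only [commutatorElement_def]; group
      _ = ⁅y', x⁆ * ⁅y, x⁆ := by rw [hc]; simp only [commutatorElement_def]; group
      _ = ⁅y, x⁆ * ⁅y', x⁆ := (mem_center_iff.1 (commutator_mem_center h P hy' hx) _).symm
  let φ : ∀ x : (P : Subgroup G), (P : Subgroup G) →* G := fun x =>
    MonoidHom.mk' (fun y => ⁅(y : G), (x : G)⁆) fun y y' => hmul x x.2 y y' y.2 y'.2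
  have hφ : ∀ x y, φ x y = ⁅(y : G), (x : G)⁆ := fun _ _ => rfl
  have hcard : ∀ x, Nat.card (φ x).range ∣ p := by
    intro x
    set C := centralizer ({(x : G)} : Set G)
    let H := (centralizer ({QuotientGroup.mk' (center G) (x : G)} : Set (G ⧸ center G))).comap
      (QuotientGroup.mk' (center G))
    have hH : ∀ y, y ∈ H → ⁅y, (x : G)⁆ ∈ center G := by
      intro y hy
      rw [mem_comap, mem_cent] at hy
      rw [← QuotientGroup.eq_one_iff]
      simp only [QuotientGroup.mk'_apply] at hy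
      simp only [commutatorElement_def, QuotientGroup.mk_mul, QuotientGroup.mk_inv, hy]
      group
    let ψ : H →* G := MonoidHom.mk' (fun y => ⁅(y : G), (x : G)⁆) fun y y' => by
      have hc := mem_center_iff.1 (hH _ y'.2) y
      calc ⁅((y * y' : H) : G), (x : G)⁆ = y * ⁅(y' : G), (x : G)⁆ * x * (y : G)⁻¹ * (x : G)⁻¹ := by
            simp only [Subgroup.coe_mul, commutatorElement_def]; group
        _ = ⁅(y' : G), (x : G)⁆ * ⁅(y : G), (x : G)⁆ := by
            rw [hc]; simp only [commutatorElement_def]; group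
        _ = _ := (mem_center_iff.1 (hH _ y'.2) _).symm
    have hle : (φ x).range ≤ ψ.range := by
      rintro _ ⟨y, rfl⟩
      refine ⟨⟨y, ?_⟩, rfl⟩
      rw [mem_comap, mem_cent, ← map_mul, ← map_mul]
      rw [QuotientGroup.mk'_eq_mk']
      refine ⟨⁅(x : G)⁻¹, (y : G)⁻¹⁆, commutator_mem_center h P (inv_mem x.2) (inv_mem y.2), ?_⟩
      simp only [commutatorElement_def]; group
    have hψ : Nat.card ψ.range ∣ C.index := by
      rw [← index_ker]
      have e : ψ.ker = C.subgroupOf H := by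
        ext y
        rw [MonoidHom.mem_ker, mem_subgroupOf, mem_cent]
        exact commutatorElement_eq_one_iff_mul_comm
      rw [e]
      refine Dvd.intro _ (relIndex_mul_index (K := H) ?_)
      intro c hc
      rw [mem_comap, mem_cent, ← map_mul, ← map_mul, mem_cent.1 hc]
    obtain ⟨k, hk⟩ : ∃ k, Nat.card (φ x).range = p ^ k := by
      rw [← index_ker]; exact P.isPGroup'.index _
    rw [hk]
    exact squarefree_prime_pow hp.out (h (x : G)) (hk ▸ ((card_dvd_of_le hle).trans hψ))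
  by_cases hall : ∀ x, (φ x).range = ⊥
  · refine ⟨⊥, by simp, fun x hx y hy => ?_⟩
    exact hall ⟨y, hy⟩ ▸ ⟨⟨x, hx⟩, hφ ⟨y, hy⟩ ⟨x, hx⟩⟩
  push Not at hall
  obtain ⟨x₀, hx₀⟩ := hall
  refine ⟨(φ x₀).range, hcard x₀, fun u hu v hv => ?_⟩
  by_cases hv0 : (φ ⟨v, hv⟩).range = ⊥
  · have : φ ⟨v, hv⟩ ⟨u, hu⟩ = 1 := mem_bot.1 (hv0 ▸ ⟨_, rfl⟩)
    rw [hφ] at this
    rw [this]; exact one_mem _
  suffices e : (φ ⟨v, hv⟩).range = (φ x₀).range from e ▸ ⟨⟨u, hu⟩, rfl⟩
  obtain ⟨g, hg1, hg2⟩ : ∃ g, φ x₀ g ≠ 1 ∧ φ ⟨v, hv⟩ g ≠ 1 := by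
    obtain ⟨a, ha⟩ : ∃ a, φ x₀ a ≠ 1 := by
      by_contra! hc; exact hx₀ (eq_bot_iff.2 (by rintro _ ⟨a, rfl⟩; exact mem_bot.2 (hc a)))
    obtain ⟨b, hb⟩ : ∃ b, φ ⟨v, hv⟩ b ≠ 1 := by
      by_contra! hc; exact hv0 (eq_bot_iff.2 (by rintro _ ⟨a, rfl⟩; exact mem_bot.2 (hc a)))
    by_cases h1 : φ ⟨v, hv⟩ a = 1
    · by_cases h2 : φ x₀ b = 1
      · exact ⟨a * b, by rwa [map_mul, h2, mul_one], by rwa [map_mul, h1, one_mul]⟩
      · exact ⟨b, h2, hb⟩
    · exact ⟨a, ha, h1⟩
  have hmeet : ∀ x, φ x g ≠ 1 → (φ x).range = (φ g).range := by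
    intro x hx
    have hz : zpowers (φ x g) ≠ ⊥ := zpowers_ne_bot.2 hx
    have hxg : φ x g ∈ (φ g).range := by
      have : φ x g = (φ g x)⁻¹ := by rw [hφ, hφ, commutatorElement_inv]
      rw [this]; exact inv_mem ⟨x, rfl⟩
    rw [← eq_of_le_of_card_dvd_prime hp.out hz (B := (φ x).range) (zpowers_le.2 (MonoidHom.mem_range.2 ⟨g, rfl⟩)) (hcard x),
      eq_of_le_of_card_dvd_prime hp.out hz (zpowers_le.2 hxg) (hcard g)]
  rw [hmeet _ hg2, hmeet _ hg1]

/-- `p²` does not divide the order of the commutator subgroup when it is a `p`-group. -/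
theorem commutator_le_of_isPGroup (h : SF G) (hG' : IsPGroup p (commutator G)) :
    ∃ Z : Subgroup G, Nat.card Z ∣ p ∧ commutator G ≤ Z := by
  classical
  obtain ⟨Ps, hPs⟩ := hG'.exists_le_sylow
  set P : Subgroup G := (Ps : Subgroup G) with hPdef
  haveI : P.Normal := Subgroup.Normal.of_commutator_le _ hPs
  obtain ⟨A, hA⟩ := exists_right_complement'_of_coprime (N := P) Ps.card_coprime_index
  have hdis : ∀ a ∈ A, a ∈ P → a = 1 := fun a ha haP =>
    mem_bot.1 (hA.disjoint.le_bot ⟨haP, ha⟩)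
  have hAc : ∀ a ∈ A, ∀ b ∈ A, a * b = b * a := fun a ha b hb =>
    commutatorElement_eq_one_iff_mul_comm.1 (hdis _ (mul_mem (mul_mem (mul_mem ha hb) (inv_mem ha))
      (inv_mem hb)) (hPs (commutator_mem a b)))
  have hAo : ∀ a ∈ A, (orderOf a).Coprime p := by
    intro a ha
    refine Nat.Coprime.coprime_dvd_left (Subgroup.orderOf_dvd_natCard A ha) ?_
    rw [← hA.symm.index_eq_card]
    exact (hp.out.coprime_iff_not_dvd.2 Ps.not_dvd_index).symm
  have hPo : ∀ x ∈ P, ∃ k, orderOf x = p ^ k := fun x hx => by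
    obtain ⟨k, hk⟩ := IsPGroup.iff_orderOf.1 Ps.isPGroup' ⟨x, hx⟩
    exact ⟨k, by rw [← hk, Subgroup.orderOf_mk]⟩
  have hconjP : ∀ g : G, ∀ x ∈ P, g * x * g⁻¹ ∈ P := fun g x hx =>
    Subgroup.Normal.conj_mem inferInstance x hx g
  have hdec : ∀ g : G, ∃ x ∈ P, ∃ a ∈ A, g = x * a := fun g => by
    obtain ⟨⟨⟨x, hx⟩, ⟨a, ha⟩⟩, hga, -⟩ := isComplement_iff_existsUnique.1 hA g
    exact ⟨x, hx, a, ha, hga.symm⟩
  let C : G → Subgroup G := fun a => centralizer ({a} : Set G) ⊓ P
  have hCd : ∀ g, (C g).relIndex P ∣ p := fun g => by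
    rw [inf_relIndex_right]
    obtain ⟨k, hk⟩ := Ps.isPGroup'.index ((centralizer ({g} : Set G)).subgroupOf P)
    change (centralizer ({g} : Set G)).relIndex P = p ^ k at hk
    rw [hk]
    exact squarefree_prime_pow hp.out (h g) (hk ▸ relIndex_dvd_index P _)
  have hCp : ∀ g, ¬ P ≤ centralizer ({g} : Set G) → (C g).relIndex P = p := fun g hg =>
    ((Nat.dvd_prime hp.out).1 (hCd g)).resolve_left fun h1 => hg fun x hx =>
      (relIndex_eq_one.1 h1 hx).1
  obtain ⟨Z, hZ, hZc⟩ := exists_commutators_le h Ps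
  by_cases hall : ∀ a ∈ A, P ≤ centralizer ({a} : Set G)
  · refine ⟨Z, hZ, ?_⟩
    rw [_root_.commutator_def, commutator_le]
    intro g _ g' _
    obtain ⟨x, hx, a, ha, rfl⟩ := hdec g
    obtain ⟨y, hy, b, hb, rfl⟩ := hdec g'
    have e1 : Commute a y := (mem_cent.1 (hall a ha hy)).symm
    have e2 : Commute x b := mem_cent.1 (hall b hb hx)
    have e3 : Commute a b := hAc a ha b hb
    have : ⁅x * a, y * b⁆ = ⁅x, y⁆ := by
      simp only [commutatorElement_def]
      calc x * a * (y * b) * (x * a)⁻¹ * (y * b)⁻¹ = x * (a * y) * b * a⁻¹ * x⁻¹ * b⁻¹ * y⁻¹ := by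
            group
        _ = x * y * (a * b) * a⁻¹ * x⁻¹ * b⁻¹ * y⁻¹ := by rw [e1.eq]; group
        _ = x * y * b * x⁻¹ * b⁻¹ * y⁻¹ := by rw [e3.eq]; group
        _ = x * y * (b * x⁻¹) * b⁻¹ * y⁻¹ := by group
        _ = x * y * x⁻¹ * y⁻¹ := by rw [← e2.inv_left.eq]; group
    rw [this]
    exact hZc x hx y hy
  push Not at hall
  obtain ⟨a, ha, haP⟩ := hall
  -- all elements of `A` not centralising `P` have the same centraliser in `P`
  have hsameC : ∀ b ∈ A, ¬ P ≤ centralizer ({b} : Set G) → C b = C a := by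
    intro b hb hbP
    by_contra hne
    have hle : ¬ C a ≤ C b := fun hle => hne (le_antisymm (fun x hx => by
      by_contra hxa
      have h1 := relIndex_mul_relIndex (C a) (C b) P hle inf_le_right
      rw [hCp a haP, hCp b hbP] at h1
      exact hxa (relIndex_eq_one.1 (Nat.eq_of_mul_eq_mul_right hp.out.pos (by rw [h1, one_mul])) hx))
      hle)
    obtain ⟨u, hu, hub⟩ := SetLike.not_le_iff_exists.1 hle
    -- the product of the two centralisers is `P`
    have hsup : ∀ x ∈ P, ∃ m ∈ C a, ∃ n ∈ C b, x = m * n := by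
      haveI hbn : ((C b).subgroupOf P).Normal := by
        obtain ⟨k, hk⟩ := IsPGroup.iff_card.1 Ps.isPGroup'
        refine normal_of_index_eq_minFac_card ?_
        change (C b).relIndex P = _
        rw [hCp b hbP, hk, Nat.pow_minFac (fun h0 => by
          have h1 := Subgroup.relIndex_dvd_card (C b) P
          rw [hCp b hbP, hk, h0, pow_zero] at h1
          exact hp.out.ne_one (Nat.dvd_one.1 h1)), hp.out.minFac_eq]
      have htop : (C a).subgroupOf P ⊔ (C b).subgroupOf P = ⊤ := by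
        by_contra hnt
        have h1 := relIndex_mul_index (H := (C b).subgroupOf P)
          (K := (C a).subgroupOf P ⊔ (C b).subgroupOf P) le_sup_right
        have h2 : ((C b).subgroupOf P).index = p := hCp b hbP
        rw [h2] at h1
        rcases hp.out.eq_one_or_self_of_dvd _ (Dvd.intro_left _ h1) with h3 | h3
        · exact hnt (index_eq_one.1 h3)
        · rw [h3] at h1
          have h4 := relIndex_eq_one.1 (Nat.eq_of_mul_eq_mul_right hp.out.pos (by rw [h1, one_mul]))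
          exact hub (h4 (mem_sup_left (show (⟨u, hu.2⟩ : P) ∈ (C a).subgroupOf P from hu)))
      intro x hx
      have := htop.symm ▸ mem_top (⟨x, hx⟩ : P)
      rw [← SetLike.mem_coe, Subgroup.mul_normal] at this
      obtain ⟨m, hm, n, hn, hmn⟩ := this
      exact ⟨m, hm, n, hn, (congrArg Subtype.val hmn).symm⟩
    have hfix : C (a * b) ≤ C a ⊓ C b := by
      rintro x ⟨hx, hxP⟩
      obtain ⟨m, hm, n, hn, rfl⟩ := hsup x hxP
      have hab := hAc a ha b hb
      have hbm : b * m * b⁻¹ ∈ C a := by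
        refine ⟨conj_fix_iff.1 ?_, hconjP b m hm.2⟩
        calc a * (b * m * b⁻¹) * a⁻¹ = (a * b) * m * (a * b)⁻¹ := by group
          _ = b * (a * m * a⁻¹) * b⁻¹ := by rw [hab]; group
          _ = b * m * b⁻¹ := by rw [conj_fix_iff.2 hm.1]
      have han : a * n * a⁻¹ ∈ C b := by
        refine ⟨conj_fix_iff.1 ?_, hconjP a n hn.2⟩
        calc b * (a * n * a⁻¹) * b⁻¹ = (b * a) * n * (b * a)⁻¹ := by group
          _ = a * (b * n * b⁻¹) * a⁻¹ := by rw [← hab]; group
          _ = a * n * a⁻¹ := by rw [conj_fix_iff.2 hn.1]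
      have e : (b * m * b⁻¹) * (a * n * a⁻¹) = m * n := by
        calc (b * m * b⁻¹) * (a * n * a⁻¹)
            = (a * (b * m * b⁻¹) * a⁻¹) * (a * (b * n * b⁻¹) * a⁻¹) := by
              rw [conj_fix_iff.2 hbm.1, conj_fix_iff.2 hn.1]
          _ = (a * b) * (m * n) * (a * b)⁻¹ := by group
          _ = m * n := conj_fix_iff.2 hx
      have ht : m⁻¹ * (b * m * b⁻¹) = n * (a * n * a⁻¹)⁻¹ := by
        calc m⁻¹ * (b * m * b⁻¹)
            = m⁻¹ * ((b * m * b⁻¹) * (a * n * a⁻¹)) * (a * n * a⁻¹)⁻¹ := by group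
          _ = n * (a * n * a⁻¹)⁻¹ := by rw [e]; group
      have htb : m⁻¹ * (b * m * b⁻¹) ∈ C b := ht ▸ mul_mem hn (inv_mem han)
      have ht1 : m⁻¹ * (b * m * b⁻¹) = 1 :=
        fix_of_pow (m := m) (t := m⁻¹ * (b * m * b⁻¹)) (hPo _ htb.2) (hAo b hb) (by group) (conj_fix_iff.2 htb.1)
      have hmb : m ∈ C b := ⟨conj_fix_iff.1 (inv_mul_eq_one.1 ht1).symm, hm.2⟩
      have hna : n ∈ C a := by
        refine ⟨conj_fix_iff.1 ?_, hn.2⟩
        rw [ht1, eq_comm, mul_inv_eq_one] at ht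
        exact ht.symm
      exact ⟨mul_mem hm hna, mul_mem hmb hn⟩
    have h1 := relIndex_dvd_of_le_left P hfix
    have h2 := Nat.le_of_dvd hp.out.pos ((relIndex_dvd_of_le_left P hfix).trans (hCd (a * b)))
    have h3 := relIndex_mul_relIndex (C a ⊓ C b) (C a) P inf_le_left inf_le_right
    rw [hCp a haP] at h3
    have h4 : (C a ⊓ C b).relIndex (C a) ≠ 1 := fun h4 => hub ((relIndex_eq_one.1 h4 hu).2)
    have h5 : (C a ⊓ C b).relIndex (C a) ≠ 0 := index_ne_zero_of_finite
    have h6 : 2 * p ≤ (C a ⊓ C b).relIndex P := h3 ▸ Nat.mul_le_mul_right p (by omega)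
    have := hp.out.pos
    omega
  obtain ⟨g, hg, hga⟩ := SetLike.not_le_iff_exists.1 haP
  -- the centraliser is abelian
  have hCab : ∀ x ∈ C a, ∀ y ∈ C a, x * y = y * x := by
    intro x hx y hy
    have hax : Commute x a := mem_cent.1 hx.1
    obtain ⟨k, hk⟩ := hPo x hx.2
    have hcop : (orderOf x).Coprime (orderOf a) := hk ▸ ((hAo a ha).pow_right k).symm
    have hle : C (x * a) ≤ C a ⊓ C x := by
      rintro z ⟨hz, hzP⟩
      have hcz : Commute (x * a) z := (mem_cent.1 hz).symm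
      have ha' : Commute a z := by
        have h1 : Commute ((x * a) ^ orderOf x) z := hcz.pow_left _
        rw [hax.mul_pow, pow_orderOf_eq_one, one_mul] at h1
        have := h1.pow_left ((orderOf x).gcdA (orderOf a)).natAbs
        have hgen : a ∈ zpowers (a ^ orderOf x) := by
          rw [mem_zpowers_pow_iff, hcop]
        obtain ⟨i, hi⟩ := hgen
        exact hi ▸ h1.zpow_left i
      have hx' : Commute x z := by
        have := hcz.mul_left ha'.inv_left
        rwa [mul_inv_cancel_right] at this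
      exact ⟨⟨mem_cent.2 ha'.symm.eq, hzP⟩, mem_cent.2 hx'.symm.eq, hzP⟩
    have h1 := Nat.le_of_dvd hp.out.pos ((relIndex_dvd_of_le_left P hle).trans (hCd (x * a)))
    have h2 := relIndex_mul_relIndex (C a ⊓ C x) (C a) P inf_le_left inf_le_right
    rw [hCp a haP] at h2
    have h3 : (C a ⊓ C x).relIndex (C a) = 1 := by
      have h5 : (C a ⊓ C x).relIndex (C a) ≠ 0 := index_ne_zero_of_finite
      by_contra h4
      have h6 : 2 * p ≤ (C a ⊓ C x).relIndex P := h2 ▸ Nat.mul_le_mul_right p (by omega)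
      have := hp.out.pos
      omega
    exact (mem_cent.1 (relIndex_eq_one.1 h3 hy).2.1).symm
  -- a subgroup of `P` containing `C a` properly is `P`
  have hmax : ∀ J : Subgroup G, J ≤ P → C a ≤ J → ∀ w ∈ J, w ∉ C a → P ≤ J := by
    intro J hJP hle w hw hwa
    have h2 := relIndex_mul_relIndex (C a) J P hle hJP
    rw [hCp a haP] at h2
    rcases hp.out.eq_one_or_self_of_dvd _ (Dvd.intro_left _ h2) with h3 | h3
    · exact relIndex_eq_one.1 h3
    · rw [h3] at h2
      exact absurd (relIndex_eq_one.1 (Nat.eq_of_mul_eq_mul_right hp.out.pos (by rw [h2, one_mul])) hw) hwa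
  have hgC : g ∉ C a := fun hh => hga hh.1
  have hCcentral : ∀ c ∈ C a, ∀ y ∈ P, c * y = y * c := by
    intro c hc y hy
    have hgood : ∀ w ∈ P, a * w * a⁻¹ * w⁻¹ ∈ centralizer ({c} : Set G) := by
      intro w hw
      have hz := commutator_mem_center h Ps hw hc.2
      have h1 : ⁅a * w * a⁻¹, c⁆ = ⁅w, c⁆ := by
        calc ⁅a * w * a⁻¹, c⁆ = ⁅a * w * a⁻¹, a * c * a⁻¹⁆ := by rw [conj_fix_iff.2 hc.1]
          _ = a * ⁅w, c⁆ * a⁻¹ := by simp only [commutatorElement_def]; group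
          _ = ⁅w, c⁆ := by rw [mem_center_iff.1 hz a, mul_inv_cancel_right]
      rw [← conj_fix_iff]
      have h2 : a * w * a⁻¹ * c * (a * w * a⁻¹)⁻¹ = w * c * w⁻¹ := by
        simp only [commutatorElement_def] at h1
        exact mul_right_cancel h1
      have h3 : (a * w * a⁻¹ * w⁻¹) * (w * c * w⁻¹) * (a * w * a⁻¹ * w⁻¹)⁻¹ = w * c * w⁻¹ := by
        calc _ = a * w * a⁻¹ * c * (a * w * a⁻¹)⁻¹ := by group
          _ = _ := h2
      have h4 : c * (a * w * a⁻¹ * w⁻¹) * c⁻¹ * (a * w * a⁻¹ * w⁻¹)⁻¹ ∈ center G :=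
        commutator_mem_center h Ps hc.2 (mul_mem (hconjP a w hw) (inv_mem hw))
      set e := a * w * a⁻¹ * w⁻¹
      have h5 : ⁅e, w * c * w⁻¹⁆ = 1 :=
        commutatorElement_eq_one_iff_mul_comm.2 (mul_inv_eq_iff_eq_mul.1 h3)
      have h6 : w * c * w⁻¹ = ⁅w, c⁆ * c := by simp only [commutatorElement_def]; group
      rw [h6] at h5
      have h7 : e * c = c * e := by
        have hh := commutatorElement_eq_one_iff_mul_comm.1 h5
        have hze := mem_center_iff.1 hz e
        apply mul_left_cancel (a := ⁅w, c⁆)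
        calc ⁅w, c⁆ * (e * c) = e * (⁅w, c⁆ * c) := by rw [← mul_assoc, ← hze, mul_assoc]
          _ = ⁅w, c⁆ * c * e := hh
          _ = ⁅w, c⁆ * (c * e) := mul_assoc _ _ _
      exact conj_fix_iff.2 (mem_cent.2 h7)
    have hcw := hgood g hg
    by_cases hmem : a * g * a⁻¹ * g⁻¹ ∈ C a
    · exfalso
      apply hgC
      refine ⟨conj_fix_iff.1 ?_, hg⟩
      set e := a * g * a⁻¹ * g⁻¹ with he
      have hmid : g⁻¹ * e * g ∈ C a := by
        haveI : ((C a).subgroupOf P).Normal := by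
          obtain ⟨k, hk⟩ := IsPGroup.iff_card.1 Ps.isPGroup'
          refine normal_of_index_eq_minFac_card ?_
          change (C a).relIndex P = _
          rw [hCp a haP, hk, Nat.pow_minFac (fun h0 => by
            have h1 := Subgroup.relIndex_dvd_card (C a) P
            rw [hCp a haP, hk, h0, pow_zero] at h1
            exact hp.out.ne_one (Nat.dvd_one.1 h1)), hp.out.minFac_eq]
        have := Subgroup.Normal.conj_mem' (inferInstance : ((C a).subgroupOf P).Normal) ⟨e, hmem.2⟩ hmem ⟨g, hg⟩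
        exact this
      have := fix_of_pow (hPo _ hmid.2) (hAo a ha) (m := g) (by rw [he]; group) (conj_fix_iff.2 hmid.1)
      rw [he] at this
      calc a * g * a⁻¹ = g * (g⁻¹ * (a * g * a⁻¹ * g⁻¹) * g) := by group
        _ = g := by rw [this, mul_one]
    · have := hmax (centralizer ({c} : Set G) ⊓ P) inf_le_right
        (fun x hx => ⟨mem_cent.2 (hCab x hx c hc), hx.2⟩) _
        (mem_inf.2 ⟨hcw, mul_mem (hconjP a g hg) (inv_mem hg)⟩) hmem hy
      exact (mem_cent.1 this.1).symm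
  have hPab : ∀ x ∈ P, ∀ y ∈ P, x * y = y * x := by
    intro x hx y hy
    by_cases hxa : x ∈ C a
    · exact hCcentral x hxa y hy
    · have := hmax (centralizer ({x} : Set G) ⊓ P) inf_le_right
        (fun z hz => ⟨mem_cent.2 (hCcentral z hz x hx), hz.2⟩) x
        ⟨mem_cent.2 rfl, hx⟩ hxa hy
      exact (mem_cent.1 this.1).symm
  let d := dHom P hPab
  have hd : ∀ b, Nat.card (d b).range ∣ p := card_range_dHom h P hPab Ps.isPGroup'
  refine ⟨(d a).range, hd a, ?_⟩
  have hbI : ∀ b ∈ A, (d b).range ≤ (d a).range := by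
    intro b hb
    by_cases hbP : P ≤ centralizer ({b} : Set G)
    · rintro _ ⟨n, rfl⟩
      rw [show d b n = 1 from (mem_ker_dHom P hPab b n).2 (hbP n.2)]
      exact one_mem _
    have hgn : d a ⟨g, hg⟩ ≠ 1 := fun h1 => hga ((mem_ker_dHom P hPab a ⟨g, hg⟩).1 h1)
    have hw : d a ⟨g, hg⟩ ∈ P := dHom_range_le P hPab a ⟨_, rfl⟩
    have hwC : d a ⟨g, hg⟩ ∉ C b := by
      rw [hsameC b hb hbP]
      intro hmem
      have he : a * g * a⁻¹ = g * d a ⟨g, hg⟩ := by
        rw [hPab g hg _ hw]; simp [d, dHom_apply]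
      exact hgn (fix_of_pow (hPo _ hw) (hAo a ha) he (conj_fix_iff.2 hmem.1))
    have h1 : d b ⟨_, hw⟩ ≠ 1 := fun h1 => hwC ⟨(mem_ker_dHom P hPab b ⟨_, hw⟩).1 h1, hw⟩
    have h2 : d b ⟨_, hw⟩ ∈ (d a).range := by
      refine mul_mem ?_ (inv_mem ⟨⟨g, hg⟩, rfl⟩)
      refine ⟨⟨b * g * b⁻¹, hconjP b g hg⟩, ?_⟩
      simp only [d, dHom_apply]
      have hab := hAc a ha b hb
      calc a * (b * g * b⁻¹) * a⁻¹ * (b * g * b⁻¹)⁻¹
          = (a * b) * g * (a * b)⁻¹ * b * g⁻¹ * b⁻¹ := by group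
        _ = (b * a) * g * (b * a)⁻¹ * b * g⁻¹ * b⁻¹ := by rw [hab]
        _ = b * (a * g * a⁻¹ * g⁻¹) * b⁻¹ := by group
    have hz := zpowers_ne_bot.2 h1
    exact le_of_eq ((eq_of_le_of_card_dvd_prime hp.out hz (B := (d b).range) (zpowers_le.2 (MonoidHom.mem_range.2 ⟨_, rfl⟩)) (hd b)).symm.trans
      (eq_of_le_of_card_dvd_prime hp.out hz (zpowers_le.2 h2) (hd a)))
  rw [_root_.commutator_def, commutator_le]
  intro u _ v _
  obtain ⟨x, hx, a', ha', rfl⟩ := hdec u
  obtain ⟨y, hy, b, hb, rfl⟩ := hdec v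
  have hm1 : d a' ⟨y, hy⟩ ∈ (d a).range := hbI a' ha' ⟨_, rfl⟩
  have hm2 : d b ⟨x⁻¹, inv_mem hx⟩ ∈ (d a).range := hbI b hb ⟨_, rfl⟩
  suffices e : ⁅x * a', y * b⁆ = d a' ⟨y, hy⟩ * d b ⟨x⁻¹, inv_mem hx⟩ from e ▸ mul_mem hm1 hm2
  have hP1 : a' * y * a'⁻¹ * y⁻¹ ∈ P := mul_mem (hconjP a' y hy) (inv_mem hy)
  have hP2 : b * x⁻¹ * b⁻¹ * x ∈ P := mul_mem (hconjP b _ (inv_mem hx)) hx
  have hab := hAc a' ha' b hb
  simp only [d, dHom_apply, inv_inv, commutatorElement_def]
  calc x * a' * (y * b) * (x * a')⁻¹ * (y * b)⁻¹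
      = x * (a' * y * a'⁻¹) * (a' * b) * a'⁻¹ * x⁻¹ * b⁻¹ * y⁻¹ := by group
    _ = x * (a' * y * a'⁻¹) * (b * a') * a'⁻¹ * x⁻¹ * b⁻¹ * y⁻¹ := by rw [hab]
    _ = x * ((a' * y * a'⁻¹ * y⁻¹) * y * ((b * x⁻¹ * b⁻¹ * x) * x⁻¹)) * y⁻¹ := by group
    _ = ((a' * y * a'⁻¹ * y⁻¹) * y * ((b * x⁻¹ * b⁻¹ * x) * x⁻¹)) * x * y⁻¹ := by
        rw [hPab x hx _ (mul_mem (mul_mem hP1 hy) (mul_mem hP2 (inv_mem hx)))]
    _ = (a' * y * a'⁻¹ * y⁻¹) * (y * (b * x⁻¹ * b⁻¹ * x)) * y⁻¹ := by group
    _ = (a' * y * a'⁻¹ * y⁻¹) * (b * x⁻¹ * b⁻¹ * x) := by rw [hPab y hy _ hP2]; group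

end pgroup

/-- The order of the commutator subgroup is square-free. -/
theorem commutator_squarefree [Finite G] (h : SF G) : Squarefree (Nat.card (commutator G)) := by
  induction hn : Nat.card G using Nat.strong_induction_on generalizing G with
  | _ n ih =>
  rw [Nat.squarefree_iff_prime_squarefree]
  intro p hp hdvd
  haveI : Fact p.Prime := ⟨hp⟩
  by_cases hN : ∃ N : Subgroup G, N.Normal ∧ N ≠ ⊥ ∧ ¬ p ∣ Nat.card N
  · obtain ⟨N, hN, hb, hpN⟩ := hN
    haveI := hN
    have hsq := ih _ (hn ▸ by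
      rw [card_eq_card_quotient_mul_card_subgroup N]
      exact lt_mul_of_one_lt_right Nat.card_pos ((one_lt_card_iff_ne_bot N).2 hb)) (h.quotient N) rfl
    refine Nat.squarefree_iff_prime_squarefree.1 hsq p hp ?_
    let f := (QuotientGroup.mk' N).comp (commutator G).subtype
    have hran : f.range = commutator (G ⧸ N) := by
      rw [MonoidHom.range_comp, range_subtype, commutator_def, map_commutator, commutator_def,
        map_top_of_surjective _ (QuotientGroup.mk'_surjective N)]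
    have hker : Nat.card f.ker ∣ Nat.card N := by
      refine card_dvd_of_injective
        (MonoidHom.codRestrict ((commutator G).subtype.comp f.ker.subtype) N fun x => by
          rw [← QuotientGroup.eq_one_iff]; exact x.2) ?_
      intro a b hab
      refine Subtype.ext (Subtype.ext ?_)
      simpa using congrArg Subtype.val hab
    have hprod : Nat.card (commutator G) = Nat.card (commutator (G ⧸ N)) * Nat.card f.ker := by
      rw [← hran, ← index_ker, index_mul_card]
    rw [hprod] at hdvd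
    have hcop : (p * p).Coprime (Nat.card f.ker) :=
      Nat.Coprime.coprime_dvd_right hker
        (Nat.Coprime.mul_left (hp.coprime_iff_not_dvd.2 hpN) (hp.coprime_iff_not_dvd.2 hpN))
    exact hcop.dvd_of_dvd_mul_right hdvd
  push Not at hN
  haveI := commutator_isNilpotent h
  have hG' : IsPGroup p (commutator G) := by
    rw [IsPGroup.iff_card]
    refine ⟨_, Nat.eq_prime_pow_of_unique_prime_dvd Nat.card_pos.ne' fun {q} hq hqd => ?_⟩
    by_contra hqp
    haveI : Fact q.Prime := ⟨hq⟩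
    obtain ⟨S⟩ : Nonempty (Sylow q (commutator G)) := inferInstance
    haveI := S.characteristic_of_normal inferInstance
    have hb : (S : Subgroup (commutator G)).map (commutator G).subtype ≠ ⊥ := by
      rw [Ne, map_eq_bot_iff_of_injective _ (subtype_injective _)]
      exact S.ne_bot_of_dvd_card hqd
    have := hN _ inferInstance hb
    obtain ⟨k, hk⟩ := IsPGroup.iff_card.1 (S.isPGroup'.map (commutator G).subtype)
    rw [hk] at this
    exact hqp ((Nat.prime_dvd_prime_iff_eq hp hq).1 (hp.dvd_of_dvd_pow this)).symm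
  obtain ⟨Z, hZ, hle⟩ := commutator_le_of_isPGroup h hG'
  have h1 := Nat.le_of_dvd hp.pos ((hdvd.trans (card_dvd_of_le hle)).trans hZ)
  have := hp.two_le
  nlinarith

theorem commutator_isCyclic [Finite G] (h : SF G) : IsCyclic (commutator G) := by
  haveI := commutator_isNilpotent h
  haveI := IsZGroup.of_squarefree (commutator_squarefree h)
  infer_instance

end Cfsg.Agent.SquarefreeClassStructure
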