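/-
Solvable groups all of whose irreducible character degrees are squarefree have derived length at
most four: the p-cores modulo the Fitting subgroup have order at most p, and the Fitting subgroup
is metabelian.
-/
import Mathlib
import Cfsg.Agent.Lib.CharItoMichlerPSolvable
import Cfsg.Agent.Lib.TwoDegrees72
import Cfsg.Agent.Lib.HallCore
import Cfsg.Agent.Lib.HallSolvable
import Cfsg.Agent.Lib.ComponentsCores
import Cfsg.Agent.Lib.ComponentsFitting
import Cfsg.Agent.Lib.FittingHallBasic

set_option autoImplicit false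

namespace Cfsg.Agent.SquarefreeDegrees75

open Cfsg Cfsg.Agent.CharBasic Cfsg.Agent.CharBasicDecomp Cfsg.Agent.CharBasicInt
open Cfsg.Agent.CharInduced
open scoped commutatorElement

attribute [local instance] Classical.propDecidable

universe u

/-- A `p`-power order automorphism of an abelian group of order prime to `p`: a fixed difference
is trivial. -/
theorem eq_one_of_fixed_diff {D : Type*} [CommGroup D] {p : ℕ} (f : D →* D) {ν w : D}
    (hper : (⇑f)^[p] w = w) (hw : f w = ν * w) (hν : f ν = ν) (hcop : (orderOf ν).Coprime p) :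
    ν = 1 := by
  have hit : ∀ k : ℕ, (⇑f)^[k] w = ν ^ k * w := by
    intro k
    induction k with
    | zero => simp
    | succ k ih =>
      rw [Function.iterate_succ_apply', ih, map_mul, map_pow, hν, hw, pow_succ, mul_assoc]
  have h1 : ν ^ p = 1 := by
    have := hit p
    rw [hper] at this
    exact mul_eq_right.1 this.symm
  exact orderOf_eq_one_iff.1 (Nat.eq_one_of_dvd_coprimes hcop dvd_rfl (orderOf_dvd_of_pow_eq_one h1))

theorem eq_top_of_sup_commutator {N : Type*} [Group N] [Finite N] [Group.IsNilpotent N]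
    (S : Subgroup N) (h : S ⊔ commutator N = ⊤) : S = ⊤ := by
  by_contra hne
  obtain ⟨M, hM, hSM⟩ := (eq_top_or_exists_le_coatom S).resolve_left hne
  haveI hMn : M.Normal :=
    Subgroup.NormalizerCondition.normal_of_coatom M Group.normalizerCondition_of_isNilpotent hM
  haveI : IsSimpleGroup (N ⧸ M) := by
    haveI : Nontrivial (N ⧸ M) := QuotientGroup.nontrivial_iff.2 hM.1
    refine ⟨fun X hX => ?_⟩
    have hle : M ≤ X.comap (QuotientGroup.mk' M) := fun x hx => by
      rw [Subgroup.mem_comap, QuotientGroup.mk'_apply, (QuotientGroup.eq_one_iff x).2 hx]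
      exact X.one_mem
    rcases hM.le_iff.1 hle with h | h
    · refine Or.inr ?_
      rw [← Subgroup.map_comap_eq_self_of_surjective (QuotientGroup.mk'_surjective M) X, h,
        Subgroup.map_top_of_surjective _ (QuotientGroup.mk'_surjective M)]
    · refine Or.inl ?_
      rw [← Subgroup.map_comap_eq_self_of_surjective (QuotientGroup.mk'_surjective M) X, h,
        QuotientGroup.map_mk'_self]
  have hle : commutator N ≤ M := by
    rw [commutator_def, Subgroup.commutator_le]
    intro a _ b _
    rw [← QuotientGroup.eq_one_iff]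
    show QuotientGroup.mk' M ⁅a, b⁆ = 1
    rw [map_commutatorElement, commutatorElement_eq_one_iff_mul_comm]
    haveI : Group.IsSolvable (N ⧸ M) := inferInstance
    exact IsSimpleGroup.comm_iff_isSolvable.2 inferInstance _ _
  exact hM.1 (top_le_iff.1 (h ▸ sup_le hSM hle))

/-- A periodic automorphism fixing its difference at a point fixes the point. -/
theorem fixed_of_fixed_diff {D : Type*} [CommGroup D] {p : ℕ} (f : D →* D) (l : D)
    (hper : (⇑f)^[p] l = l) (hcop : (orderOf (f l * l⁻¹)).Coprime p)
    (h : f (f l * l⁻¹) = f l * l⁻¹) : f l = l :=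
  mul_inv_eq_one.1 (eq_one_of_fixed_diff f hper (by rw [inv_mul_cancel_right]) h hcop)

/-- If commuting periodic automorphisms `f`, `g` fix `l₁` respectively `l₁ * (f l₂ / l₂)`, then `g`
fixes both factors. -/
theorem fixed_split {D : Type*} [CommGroup D] {p : ℕ} (f g : D →* D) (l₁ l₂ : D)
    (hper : ∀ w, (⇑f)^[p] w = w) (hcop : ∀ ν : D, (orderOf ν).Coprime p)
    (hcomm : ∀ w, f (g w) = g (f w)) (hl₁ : f l₁ = l₁)
    (h : g (l₁ * (f l₂ * l₂⁻¹)) = l₁ * (f l₂ * l₂⁻¹)) :
    g l₁ = l₁ ∧ g (f l₂ * l₂⁻¹) = f l₂ * l₂⁻¹ := by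
  have hν : g l₁ * l₁⁻¹ = (f l₂ * l₂⁻¹) * (g (f l₂ * l₂⁻¹))⁻¹ := by
    rw [map_mul, ← eq_mul_inv_iff_mul_eq] at h
    rw [h, mul_assoc l₁, mul_inv_cancel_comm]
  have h1 : f (g l₁ * l₁⁻¹) = g l₁ * l₁⁻¹ := by
    rw [map_mul, map_inv, hcomm, hl₁]
  have h2 : f (l₂ * (g l₂)⁻¹) = (g l₁ * l₁⁻¹) * (l₂ * (g l₂)⁻¹) := by
    rw [hν, map_mul, map_inv, map_mul, map_inv, hcomm, mul_inv_rev, inv_inv]
    simp [mul_comm, mul_left_comm, mul_assoc]
  have hν1 := eq_one_of_fixed_diff f (hper (l₂ * (g l₂)⁻¹)) h2 h1 (hcop _)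
  refine ⟨mul_inv_eq_one.1 hν1, ?_⟩
  rw [hν1, eq_comm, mul_inv_eq_one] at hν
  exact hν.symm

/-- Linear characters separate the derived subgroup. -/
theorem mem_commutator_of_forall {E : Type*} [Group E] [Finite E] {e : E}
    (h : ∀ lam : E →* ℂˣ, lam e = 1) : e ∈ commutator E := by
  by_contra hn
  obtain ⟨φ, hφ⟩ := CommGroup.exists_apply_ne_one_of_hasEnoughRootsOfUnity (Abelianization E) ℂ
    (a := Abelianization.of e) (fun h1 => hn ((QuotientGroup.eq_one_iff e).1 h1))
  exact hφ (h (φ.comp Abelianization.of))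

variable {G : Type u} [Group G] [Finite G]

/-- The index of the inertia group of a linear character divides some degree. -/
theorem exists_degree {E : Subgroup G} [E.Normal] (lam : E →* ℂˣ) (T : Subgroup G)
    (hT : ∀ g, g ∈ T ↔ ∀ n : E, lam (MulAut.conjNormal g n) = lam n) :
    ∃ χ : IrrCharacter G, T.index ∣ charDegree (χ : G → ℂ) := by
  haveI : Fintype G := Fintype.ofFinite G
  haveI : Fintype E := Fintype.ofFinite E
  have hθ : IsIrrCharacter E (fun n => (lam n : ℂ)) := isIrrCharacter_linear lam
  obtain ⟨χ, d, hd1, hd⟩ := CharItoMichler.constituent_dvd E hθ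
  refine ⟨χ, ?_⟩
  have hI : T = inertia E (fun n => (lam n : ℂ)) := by
    ext g
    rw [hT, mem_inertia_iff]
    refine forall_congr' fun n => ?_
    rw [show MulAut.conjNormal g n = ⟨g * n * g⁻¹, Subgroup.Normal.conj_mem inferInstance _ n.2 g⟩
      from Subtype.ext (MulAut.conjNormal_apply g n)]
    exact Units.val_inj.symm
  have h1 := card_inertia_mul_card_orbit E (fun n => (lam n : ℂ))
  rw [← hI, ← Subgroup.card_mul_index T] at h1
  rw [← Nat.eq_of_mul_eq_mul_left Nat.card_pos h1]
  exact (dvd_mul_right _ _).trans hd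

/-- The degrees of a normal subgroup divide degrees of the group. -/
theorem exists_degree_dvd (N : Subgroup G) [N.Normal] (θ : IrrCharacter N) :
    ∃ χ : IrrCharacter G, charDegree (θ : N → ℂ) ∣ charDegree (χ : G → ℂ) := by
  haveI : Fintype G := Fintype.ofFinite G
  haveI : Fintype N := Fintype.ofFinite N
  obtain ⟨χ, d, hd1, hd⟩ := CharItoMichler.constituent_dvd N θ.2
  exact ⟨χ, (CharItoMichler.charDegree_eq hd1).symm ▸ (dvd_mul_left d _).trans hd⟩

theorem squarefree_pow_le_one {p a : ℕ} (hp : p.Prime) (h : Squarefree (p ^ a)) : a ≤ 1 := by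
  by_contra ha
  push Not at ha
  have := h p (by
    rw [← pow_two]
    exact pow_dvd_pow p ha)
  exact hp.not_isUnit this

variable (hsq : ∀ χ : IrrCharacter G, Squarefree (charDegree (χ : G → ℂ)))
include hsq

/-- A normal subgroup `X` with `p`-group quotient over the Fitting subgroup has index at most `p`
over it. -/
theorem relIndex_fitting_le [Group.IsSolvable G] {p : ℕ} [hp : Fact p.Prime] (X : Subgroup G)
    [X.Normal] (hFX : fittingSubgroup G ≤ X) (hX : ∃ a, (fittingSubgroup G).relIndex X = p ^ a) :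
    (fittingSubgroup G).relIndex X ∣ p := by
  set F := fittingSubgroup G with hF
  haveI : Group.IsNilpotent F := by rw [hF]; infer_instance
  haveI hFn : F.Normal := by rw [hF]; infer_instance
  obtain ⟨a, ha⟩ := hX
  -- the p-complement `E` of `F`
  set E0 : Subgroup F := pPrimeCore p F with hE0
  haveI : E0.Characteristic := HallCore.pPrimeCore_characteristic p F
  set E : Subgroup G := E0.map F.subtype with hE
  haveI hEn : E.Normal := ConjAct.normal_of_characteristic_of_normal
  have hEF : E ≤ F := Subgroup.map_subtype_le _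
  have hEc : ¬ p ∣ Nat.card E := by
    rw [hE, Subgroup.card_map_of_injective F.subtype_injective]
    exact HallCore.not_dvd_card_pPrimeCore p F
  haveI : E0.Normal := HallCore.pPrimeCore_normal p F
  have hFE : ∃ b, E0.index = p ^ b := by
    refine ⟨_, Nat.eq_prime_pow_of_unique_prime_dvd (p := p) Subgroup.index_ne_zero_of_finite
      (fun {r} hr hd => ?_)⟩
    by_contra hrp
    haveI := Fact.mk hr
    obtain ⟨S⟩ : Nonempty (Sylow r F) := inferInstance
    have hS : (S : Subgroup F) ≤ E0 := by
      refine HallCore.le_pPrimeCore ?_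
      obtain ⟨k, hk⟩ := IsPGroup.iff_card.1 S.isPGroup'
      rw [hk]
      exact ((Nat.coprime_primes hr hp.out).2 hrp).pow_left k
    exact S.not_dvd_index (hd.trans (Subgroup.index_dvd_of_le hS))
  obtain ⟨b, hb⟩ := hFE
  -- elements of `X` centralising `E` lie in `F`
  set C : Subgroup G := X ⊓ Subgroup.centralizer (E : Set G) with hC
  have hCF : C ≤ F := by
    haveI : C.Normal := inferInstance
    refine le_sSup ⟨inferInstance, ?_⟩
    set K : Subgroup C := E.subgroupOf C with hK
    have hKc : K ≤ Subgroup.center C := fun k hk => Subgroup.mem_center_iff.2 fun c =>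
      Subtype.ext (Subgroup.mem_centralizer_iff.1 c.2.2 _ hk).symm
    have hKi : ∃ i, K.index = p ^ i := by
      have h1 : E.relIndex X = p ^ (b + a) := by
        rw [← Subgroup.relIndex_mul_relIndex E F X hEF hFX, ha, pow_add]
        congr 1
        rw [← hb, Subgroup.relIndex, hE, Subgroup.subgroupOf,
          Subgroup.comap_map_eq_self_of_injective F.subtype_injective]
      have h2 : E.relIndex C ∣ E.relIndex X := by
        rw [← Subgroup.relIndex_subgroupOf (H := E) (inf_le_left : C ≤ X)]
        exact Subgroup.relIndex_dvd_index_of_normal _ _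
      obtain ⟨i, -, hi⟩ := (Nat.dvd_prime_pow hp.out).1 (h1 ▸ h2)
      exact ⟨i, hi⟩
    obtain ⟨i, hi⟩ := hKi
    haveI : Group.IsNilpotent (C ⧸ K) :=
      (IsPGroup.of_card (n := i) (by rw [← Subgroup.index_eq_card, hi]) :
        IsPGroup p (C ⧸ K)).isNilpotent
    exact Subgroup.isNilpotent_of_ker_le_center (QuotientGroup.mk' K)
      (by rwa [QuotientGroup.ker_mk'])
  -- the action on the linear characters of `E`
  let act : G → (E →* ℂˣ) →* (E →* ℂˣ) := fun g =>
    { toFun := fun lam => lam.comp (MulAut.conjNormal g).toMonoidHom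
      map_one' := rfl
      map_mul' := fun _ _ => rfl }
  have hact : ∀ g h lam, act g (act h lam) = act (h * g) lam := fun g h lam => by
    ext n
    show (lam (MulAut.conjNormal h (MulAut.conjNormal g n)) : ℂ) = lam (MulAut.conjNormal (h * g) n)
    rw [map_mul, MulAut.mul_apply]
  have hact1 : ∀ lam, act 1 lam = lam := fun lam => by
    ext n
    show (lam (MulAut.conjNormal (1 : G) n) : ℂ) = lam n
    rw [map_one, MulAut.one_apply]
  let stab : (E →* ℂˣ) → Subgroup G := fun lam =>
    { carrier := {g | act g lam = lam}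
      one_mem' := hact1 lam
      mul_mem' := fun {g h} (hg : act g lam = lam) (hh : act h lam = lam) => by
        show act (g * h) lam = lam
        rw [← hact, hg, hh]
      inv_mem' := fun {g} (hg : act g lam = lam) => by
        show act g⁻¹ lam = lam
        conv_lhs => rw [← hg]
        rw [hact, mul_inv_cancel, hact1] }
  have hstab : ∀ lam g, g ∈ stab lam ↔ act g lam = lam := fun _ _ => Iff.rfl
  -- `F` fixes every linear character
  have hFfix : ∀ lam, F ≤ stab lam := by
    intro lam f hf
    obtain ⟨q, hq⟩ : ∃ q : ℕ, q = 0 := ⟨0, rfl⟩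
    rw [hstab]
    ext n
    show (lam (MulAut.conjNormal f n) : ℂ) = lam n
    have key : ∀ g : F, lam (MulAut.conjNormal (g : G) n) = lam n := by
      intro g
      -- split `g` into its p-part and p'-part
      obtain ⟨e, he, u, hu, hg⟩ : ∃ e ∈ E0, ∃ u : F, (orderOf u).Coprime (Nat.card E0) ∧ g = e * u := by
        have hcop : (p ^ b).Coprime (Nat.card E0) := by
          refine ((hp.out.coprime_iff_not_dvd.2 ?_)).pow_left b
          exact HallCore.not_dvd_card_pPrimeCore p F
        obtain ⟨x, y, hxy⟩ := Nat.isCoprime_iff_coprime.2 hcop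
        refine ⟨(g ^ (p ^ b : ℕ)) ^ x, zpow_mem (hb ▸ Subgroup.pow_index_mem E0 g) x,
          (g ^ (Nat.card E0 : ℕ)) ^ y, ?_, ?_⟩
        · refine Nat.Coprime.coprime_dvd_left (orderOf_dvd_of_pow_eq_one ?_) hcop
          rw [← zpow_natCast, ← zpow_mul, mul_comm, zpow_mul, zpow_natCast, ← pow_mul,
            show Nat.card E0 * p ^ b = Nat.card F by rw [← hb, Subgroup.card_mul_index],
            pow_card_eq_one', one_zpow]
        · rw [← zpow_natCast g, ← zpow_natCast g, ← zpow_mul, ← zpow_mul, ← zpow_add,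
            mul_comm, mul_comm (Nat.card E0 : ℤ), hxy, zpow_one]
      have hn : (n : G) ∈ E := n.2
      obtain ⟨n0, hn0, hn0e⟩ := hn
      have hu' : MulAut.conjNormal (u : G) n = n := by
        refine Subtype.ext ?_
        rw [MulAut.conjNormal_apply, ← hn0e]
        have hc : Commute u n0 := FittingHallBasic.commute_of_coprime_orderOf
          (hu.coprime_dvd_right (Subgroup.orderOf_dvd_natCard _ hn0))
        have := congrArg F.subtype hc.eq
        simp only [map_mul, Subgroup.coe_subtype] at this
        show (u : G) * n0 * (u : G)⁻¹ = n0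
        rw [this, mul_inv_cancel_right]
      have heE : (e : G) ∈ E := ⟨e, he, rfl⟩
      rw [hg, Subgroup.coe_mul, map_mul, MulAut.mul_apply, hu',
        show MulAut.conjNormal (e : G) n = (⟨(e : G), heE⟩ : E) * n * (⟨(e : G), heE⟩ : E)⁻¹ from
          Subtype.ext (by rw [MulAut.conjNormal_apply]; rfl),
        map_mul, map_mul, map_inv, mul_right_comm, mul_inv_cancel, one_mul]
    rw [key ⟨f, hf⟩]
  -- each stabiliser has index dividing `p` in `X`
  have hidx : ∀ lam, (stab lam).relIndex X ∣ p := by
    intro lam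
    obtain ⟨χ, hχ⟩ := exists_degree lam (stab lam) (fun g => by
      rw [hstab, MonoidHom.ext_iff]; rfl)
    have h1 : (stab lam).relIndex X ∣ p ^ a := by
      rw [← ha]
      exact Subgroup.relIndex_dvd_of_le_left X (hFfix lam)
    have h2 : (stab lam).relIndex X ∣ (stab lam).index := by
      obtain ⟨k, hk⟩ := Subgroup.relIndex_dvd_index_of_normal X (stab lam)
      have e1 := Subgroup.relIndex_mul_index (inf_le_left : X ⊓ stab lam ≤ X)
      have e2 := Subgroup.relIndex_mul_index (inf_le_right : X ⊓ stab lam ≤ stab lam)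
      rw [← e2, Subgroup.inf_relIndex_right, inf_comm X, Subgroup.inf_relIndex_right, hk,
        mul_left_comm] at e1
      exact ⟨k, (Nat.eq_of_mul_eq_mul_left (Nat.pos_of_ne_zero fun h0 => by
        rw [h0, zero_mul] at hk; exact Subgroup.index_ne_zero_of_finite hk) e1).symm⟩
    obtain ⟨i, -, hi⟩ := (Nat.dvd_prime_pow hp.out).1 h1
    have h3 : Squarefree (p ^ i) := (hsq χ).squarefree_of_dvd (hi ▸ h2.trans hχ)
    rw [hi]
    calc p ^ i ∣ p ^ 1 := pow_dvd_pow p (squarefree_pow_le_one hp.out h3)
      _ = p := pow_one p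
  -- hence normal in `X`, with `p`-th powers and commutators inside
  have hpow : ∀ lam, ∀ x ∈ X, x ^ p ∈ stab lam ∧ ∀ y ∈ X, ⁅x, y⁆ ∈ stab lam := by
    intro lam x hx
    let S := (stab lam).subgroupOf X
    have hSi : S.index ∣ p := hidx lam
    rcases (Nat.dvd_prime hp.out).1 hSi with h | h
    · have hS : X ≤ stab lam := Subgroup.subgroupOf_eq_top.1 (Subgroup.index_eq_one.1 h)
      exact ⟨hS (pow_mem hx p), fun y hy => hS (mul_mem (mul_mem (mul_mem hx hy) (inv_mem hx))
        (inv_mem hy))⟩
    · -- pass to the `p`-group `X ⧸ F`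
      let FX := F.subgroupOf X
      have hFX' : FX ≤ S := fun z hz => hFfix lam hz
      haveI : Group.IsNilpotent (X ⧸ FX) :=
        (IsPGroup.of_card (n := a) (by rw [← Subgroup.index_eq_card]; exact ha) :
          IsPGroup p (X ⧸ FX)).isNilpotent
      let Sb := S.map (QuotientGroup.mk' FX)
      have hSb : Sb.index = p := by
        rw [Subgroup.index_map, QuotientGroup.ker_mk', sup_eq_left.2 hFX',
          MonoidHom.range_eq_top.2 (QuotientGroup.mk'_surjective FX), Subgroup.index_top, mul_one, h]
      have hco : IsCoatom Sb := by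
        refine ⟨fun ht => ?_, fun T hT => ?_⟩
        · rw [ht, Subgroup.index_top] at hSb
          exact hp.out.one_lt.ne hSb
        · have hd := Subgroup.index_dvd_of_le hT.le
          rw [hSb] at hd
          rcases (Nat.dvd_prime hp.out).1 hd with h' | h'
          · exact Subgroup.index_eq_one.1 h'
          · exact absurd (Subgroup.eq_of_le_of_card_ge hT.le (by
              have e1 := Sb.card_mul_index
              have e2 := T.card_mul_index
              rw [hSb] at e1
              rw [h', ← e1] at e2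
              exact (Nat.eq_of_mul_eq_mul_right hp.out.pos e2).le)) hT.ne
      haveI : Sb.Normal :=
        Subgroup.NormalizerCondition.normal_of_coatom Sb Group.normalizerCondition_of_isNilpotent hco
      have hSn : S = Sb.comap (QuotientGroup.mk' FX) := by
        rw [Subgroup.comap_map_eq, QuotientGroup.ker_mk', sup_eq_left.2 hFX']
      haveI : S.Normal := hSn ▸ inferInstance
      haveI := Fact.mk hp.out
      haveI : IsCyclic (X ⧸ S) := isCyclic_of_prime_card (p := p)
        (by rw [← Subgroup.index_eq_card, h])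
      refine ⟨(h ▸ Subgroup.pow_index_mem S ⟨x, hx⟩ :), fun y hy => ?_⟩
      have hc : (⁅(⟨x, hx⟩ : X), ⟨y, hy⟩⁆ : X) ∈ S := by
        rw [← QuotientGroup.eq_one_iff]
        show QuotientGroup.mk' S ⁅(⟨x, hx⟩ : X), ⟨y, hy⟩⁆ = 1
        rw [map_commutatorElement, commutatorElement_eq_one_iff_mul_comm]
        exact IsCyclic.commGroup.mul_comm _ _
      exact hc
  -- faithfulness
  have hfaith : ∀ x ∈ X, (∀ lam, x ∈ stab lam) → x ∈ F := by
    intro x hx hall
    -- write `x` through its p-part
    obtain ⟨f, hf, u, ⟨j, hj⟩, hxfu⟩ : ∃ f ∈ F, ∃ u : G, (∃ j, u ^ p ^ j = 1) ∧ x = f * u := by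
      set t := (Nat.card G).factorization p
      set m := Nat.card G / p ^ t
      have hm : ¬ p ∣ m := Nat.not_dvd_ordCompl hp.out (Nat.card_pos (α := G)).ne'
      have hqm : p ^ t * m = Nat.card G := Nat.ordProj_mul_ordCompl_eq_self _ p
      obtain ⟨c, d, hcd⟩ := Nat.isCoprime_iff_coprime.2
        ((hp.out.coprime_iff_not_dvd.2 hm).pow_left t)
      refine ⟨(x ^ (p ^ t : ℕ)) ^ c, ?_, (x ^ (m : ℕ)) ^ d, ⟨t, ?_⟩, ?_⟩
      · -- the p'-part lies in `F`
        refine zpow_mem ?_ c
        set w := x ^ (p ^ t : ℕ)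
        have hwX : w ∈ X := pow_mem hx _
        have h1 : w ^ p ^ a ∈ F := by
          have := Subgroup.pow_index_mem (F.subgroupOf X) ⟨w, hwX⟩
          rw [show (F.subgroupOf X).index = p ^ a from ha] at this
          exact this
        have h2 : orderOf w ∣ m := orderOf_dvd_of_pow_eq_one (by
          rw [← pow_mul, hqm, pow_card_eq_one'])
        obtain ⟨k, hk⟩ := exists_pow_eq_self_of_coprime (n := p ^ a) (x := w)
          (((hp.out.coprime_iff_not_dvd.2 hm).pow_left a).coprime_dvd_right h2)
        exact hk ▸ pow_mem h1 k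
      · rw [← zpow_natCast, ← zpow_mul, mul_comm, zpow_mul, zpow_natCast, ← pow_mul, mul_comm m,
          hqm, pow_card_eq_one', one_zpow]
      · rw [← zpow_natCast x, ← zpow_natCast x, ← zpow_mul, ← zpow_mul, ← zpow_add, mul_comm,
          mul_comm (m : ℤ), hcd, zpow_one]
    have huX : u ∈ X := by
      rw [show u = f⁻¹ * x by rw [hxfu, inv_mul_cancel_left]]
      exact mul_mem (inv_mem (hFX hf)) hx
    have hufix : ∀ lam, u ∈ stab lam := fun lam => by
      rw [show u = f⁻¹ * x by rw [hxfu, inv_mul_cancel_left]]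
      exact mul_mem (inv_mem (hFfix lam hf)) (hall lam)
    suffices u ∈ C by rw [hxfu]; exact mul_mem hf (hCF this)
    refine ⟨huX, ?_⟩
    -- `u` fixes every coset of the derived subgroup of `E`, hence a point in it
    let S : Subgroup E := (Subgroup.centralizer ({u} : Set G)).subgroupOf E
    have htop : S ⊔ commutator E = ⊤ := by
      refine eq_top_iff.2 fun e _ => ?_
      have hfix : ∀ n : E, n⁻¹ * MulAut.conjNormal u n ∈ commutator E := fun n =>
        mem_commutator_of_forall fun lam => by
          rw [map_mul, map_inv, inv_mul_eq_one]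
          exact (DFunLike.congr_fun (hufix lam) n).symm
      let cc := {n : E // n⁻¹ * e ∈ commutator E}
      have hu1 : IsPGroup p (Subgroup.zpowers u) := by
        intro z
        obtain ⟨k, hk⟩ := Subgroup.mem_zpowers_iff.1 z.2
        refine ⟨j, Subtype.ext ?_⟩
        rw [Subgroup.coe_pow, ← hk, Subgroup.coe_one, ← zpow_natCast, ← zpow_mul, mul_comm,
          zpow_mul, zpow_natCast, hj, one_zpow]
      have hzfix : ∀ z : Subgroup.zpowers u, ∀ n : E,
          n⁻¹ * MulAut.conjNormal (z : G) n ∈ commutator E := fun z n =>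
        mem_commutator_of_forall fun lam => by
          rw [map_mul, map_inv, inv_mul_eq_one]
          exact (DFunLike.congr_fun ((Subgroup.zpowers_le.2 (hufix lam)) z.2) n).symm
      letI : MulAction (Subgroup.zpowers u) cc :=
        { smul := fun z n => ⟨MulAut.conjNormal (z : G) n.1, by
            have h1 := hzfix z n.1
            have : (MulAut.conjNormal (z : G) n.1)⁻¹ * e =
                (n.1⁻¹ * MulAut.conjNormal (z : G) n.1)⁻¹ * (n.1⁻¹ * e) := by group
            rw [this]
            exact mul_mem (inv_mem h1) n.2⟩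
          one_smul := fun n => Subtype.ext (by
            show MulAut.conjNormal ((1 : Subgroup.zpowers u) : G) n.1 = n.1
            rw [Subgroup.coe_one, map_one, MulAut.one_apply])
          mul_smul := fun z w n => Subtype.ext (by
            show MulAut.conjNormal ((z * w : Subgroup.zpowers u) : G) n.1 = _
            rw [Subgroup.coe_mul, map_mul, MulAut.mul_apply]; rfl) }
      have hcc : ¬ p ∣ Nat.card cc := by
        have e1 : Nat.card cc = Nat.card (commutator E) := Nat.card_congr
          { toFun := fun n => ⟨n.1⁻¹ * e, n.2⟩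
            invFun := fun k => ⟨e * k.1⁻¹, by simp⟩
            left_inv := fun n => Subtype.ext (by simp)
            right_inv := fun k => Subtype.ext (by simp) }
        rw [e1]
        exact fun h => hEc (h.trans (Subgroup.card_subgroup_dvd_card _))
      obtain ⟨n, hn⟩ := hu1.nonempty_fixed_point_of_prime_not_dvd_card cc hcc
      have hnS : n.1 ∈ S := by
        refine Subgroup.mem_subgroupOf.2 (Subgroup.mem_centralizer_singleton_iff.2 ?_)
        have h1 := congrArg (fun m : cc => ((m.1 : E) : G)) (hn ⟨u, Subgroup.mem_zpowers u⟩)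
        change ((MulAut.conjNormal u n.1 : E) : G) = (n.1 : G) at h1
        rw [MulAut.conjNormal_apply, mul_inv_eq_iff_eq_mul] at h1
        exact h1.symm
      rw [show e = n.1 * (n.1⁻¹ * e) by rw [mul_inv_cancel_left]]
      exact mul_mem (Subgroup.mem_sup_left hnS) (Subgroup.mem_sup_right n.2)
    haveI : Group.IsNilpotent E := ComponentsCores.nilpotent_of_le hEF inferInstance
    have hSt := eq_top_of_sup_commutator S htop
    refine Subgroup.mem_centralizer_iff.2 fun e he => ?_
    have : (⟨e, he⟩ : E) ∈ S := hSt.symm ▸ Subgroup.mem_top _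
    exact Subgroup.mem_centralizer_singleton_iff.1 (Subgroup.mem_subgroupOf.1 this)
  -- conclusion
  have hcomm : ∀ x ∈ X, ∀ y ∈ X, ∀ lam, act x (act y lam) = act y (act x lam) := by
    intro x hx y hy lam
    rw [hact, hact]
    have h1 := (hpow lam x hx).2 y hy
    rw [hstab] at h1
    conv_lhs => rw [← h1, hact]
    congr 2
    rw [commutatorElement_def]
    group
  by_cases hall : ∀ x ∈ X, ∀ lam, x ∈ stab lam
  · rw [Subgroup.relIndex_eq_one.2 fun x hx => hfaith x hx (hall x hx)]
    exact one_dvd _
  push Not at hall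
  obtain ⟨x₀, hx₀, lam₁, hlam₁⟩ := hall
  suffices hS : X ⊓ stab lam₁ ≤ F by
    refine dvd_trans ?_ (hidx lam₁)
    rw [← Subgroup.inf_relIndex_right (stab lam₁) X, inf_comm]
    exact Subgroup.relIndex_dvd_of_le_left X hS
  intro n hn
  refine hfaith n hn.1 fun lam₂ => ?_
  by_contra hn2
  -- the difference of `lam₂` under `n`
  set μ : E →* ℂˣ := act n lam₂ * lam₂⁻¹ with hμ
  have hper : ∀ x ∈ X, ∀ lam, (⇑(act x))^[p] lam = lam := by
    intro x hx lam
    have : ∀ k, (⇑(act x))^[k] lam = act (x ^ k) lam := by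
      intro k
      induction k with
      | zero => simp [hact1]
      | succ k ih => rw [Function.iterate_succ_apply', ih, hact, pow_succ]
    rw [this]
    exact (hpow lam x hx).1
  have hcopd : ∀ ν : E →* ℂˣ, (orderOf ν).Coprime p := fun ν =>
    Nat.Coprime.coprime_dvd_left (orderOf_dvd_of_pow_eq_one (MonoidHom.ext fun n => by
      rw [MonoidHom.pow_apply, ← map_pow, pow_card_eq_one', map_one, MonoidHom.one_apply]))
      (hp.out.coprime_iff_not_dvd.2 hEc).symm
  have hμ1 : n ∉ stab μ := fun h =>
    hn2 (fixed_of_fixed_diff (act n) lam₂ (hper n hn.1 lam₂) (hcopd μ) h)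
  -- the stabiliser of `lam₁ * μ` lies in both
  have hboth : ∀ x ∈ X, x ∈ stab (lam₁ * μ) → x ∈ stab lam₁ ∧ x ∈ stab μ := fun x hx hxs =>
    fixed_split (act n) (act x) lam₁ lam₂ (hper n hn.1) hcopd
      (fun w => hcomm n hn.1 x hx w) hn.2 hxs
  -- counting
  have hd1 : (stab (lam₁ * μ)).relIndex X ∣ p := hidx _
  have hlt1 : X ⊓ stab (lam₁ * μ) ≤ X ⊓ stab lam₁ :=
    fun x hx => ⟨hx.1, (hboth x hx.1 hx.2).1⟩
  have hne : ¬ (X ⊓ stab lam₁ ≤ stab (lam₁ * μ)) := fun h => hμ1 (hboth n hn.1 (h hn)).2
  have he : (stab (lam₁ * μ)).relIndex X =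
      (stab (lam₁ * μ)).relIndex (X ⊓ stab lam₁) * (stab lam₁).relIndex X := by
    have h1 := Subgroup.relIndex_mul_relIndex (X ⊓ stab (lam₁ * μ)) (X ⊓ stab lam₁) X hlt1
      inf_le_left
    rw [inf_comm X (stab (lam₁ * μ)), Subgroup.inf_relIndex_right, inf_comm X (stab lam₁),
      Subgroup.inf_relIndex_right] at h1
    rw [← h1]
    congr 1
    have e : (stab (lam₁ * μ) ⊓ X) ⊓ (stab lam₁ ⊓ X) = stab (lam₁ * μ) ⊓ (X ⊓ stab lam₁) :=
      le_antisymm (fun z hz => ⟨hz.1.1, hz.1.2, hz.2.1⟩) (fun z hz => ⟨⟨hz.1, hz.2.1⟩, hz.2.2, hz.2.1⟩)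
    rw [← Subgroup.inf_relIndex_right (stab (lam₁ * μ)) (X ⊓ stab lam₁),
      ← Subgroup.inf_relIndex_right (stab (lam₁ * μ) ⊓ X) (stab lam₁ ⊓ X), e, inf_comm (stab lam₁) X]
  have hp1 : (stab lam₁).relIndex X = p :=
    ((Nat.dvd_prime hp.out).1 (hidx lam₁)).resolve_left fun h =>
      hlam₁ (Subgroup.relIndex_eq_one.1 h hx₀)
  rw [he, hp1] at hd1
  have h2 : (stab (lam₁ * μ)).relIndex (X ⊓ stab lam₁) = 1 :=
    Nat.dvd_one.1 (Nat.dvd_of_mul_dvd_mul_right hp.out.pos (by simpa using hd1))
  exact hne (Subgroup.relIndex_eq_one.1 h2)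

/-- The derived subgroup of the Fitting subgroup is abelian. -/
theorem derived_fitting_comm :
    derivedSeries (fittingSubgroup G) 2 = ⊥ := by
  set F := fittingSubgroup G with hF
  haveI : Group.IsNilpotent F := by rw [hF]; infer_instance
  haveI hFn : F.Normal := by rw [hF]; infer_instance
  have hSn : ∀ {r : ℕ} [Fact r.Prime] (S : Sylow r F), (S : Subgroup F).Normal := fun S => inferInstance
  let e := Sylow.directProductOfNormal (G := F) hSn
  refine eq_bot_iff.2 fun x hx => ?_
  rw [Subgroup.mem_bot]
  apply e.symm.injective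
  rw [map_one]
  funext r
  funext S
  haveI hr : Fact (Nat.Prime (r : ℕ)) := ⟨Nat.prime_of_mem_primeFactors r.2⟩
  -- the Sylow factor is metabelian
  have hS2 : derivedSeries S 2 = ⊥ := by
    have hchar : (S : Subgroup F).Characteristic := Sylow.characteristic_of_normal S (hSn S)
    let T : Subgroup G := (S : Subgroup F).map F.subtype
    haveI : T.Normal := ConjAct.normal_of_characteristic_of_normal
    let eT : T ≃* S := ((S : Subgroup F).equivMapOfInjective F.subtype F.subtype_injective).symm
    have hdeg : ∀ θ : IrrCharacter T,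
        charDegree (θ : T → ℂ) = 1 ∨ charDegree (θ : T → ℂ) = r := by
      intro θ
      obtain ⟨χ, hχ⟩ := exists_degree_dvd T θ
      obtain ⟨k, hk⟩ := IsPGroup.iff_card.1 S.isPGroup'
      have h1 : charDegree (θ : T → ℂ) ∣ (r : ℕ) ^ k := by
        rw [← hk, ← Nat.card_congr eT.toEquiv]
        haveI : Fintype T := Fintype.ofFinite T
        exact CharAverage.charDegree_dvd_card θ
      obtain ⟨i, -, hi⟩ := (Nat.dvd_prime_pow hr.out).1 h1
      have h2 := squarefree_pow_le_one hr.out ((hsq χ).squarefree_of_dvd (hi ▸ hχ))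
      interval_cases i <;> simp [hi]
    have hab := TwoDegrees72.comm_commutator (TwoDegrees72.deg_of_charDegree hdeg)
    have hT2 : derivedSeries T 2 = ⊥ := by
      rw [derivedSeries_succ, derivedSeries_one, Subgroup.commutator_eq_bot_iff_le_centralizer]
      exact fun a ha => Subgroup.mem_centralizer_iff.2 fun b hb => hab b hb a ha
    rw [← Subgroup.map_bot eT.toMonoidHom, ← hT2, map_derivedSeries_eq eT.surjective]
  let f : F →* S := ((Pi.evalMonoidHom (fun S : Sylow r F => (S : Subgroup F)) S).comp
    (Pi.evalMonoidHom _ r)).comp e.symm.toMonoidHom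
  have : f x ∈ derivedSeries S 2 := map_derivedSeries_le_derivedSeries f 2 ⟨x, hx, rfl⟩
  rw [hS2, Subgroup.mem_bot] at this
  exact this

/-- Squarefree degrees bound the derived length by four. -/
theorem derivedSeries_four [Group.IsSolvable G] : derivedSeries G 4 = ⊥ := by
  set F := fittingSubgroup G with hF
  haveI : F.Normal := by rw [hF]; infer_instance
  haveI : Group.IsSolvable (G ⧸ F) := inferInstance
  let q := QuotientGroup.mk' F
  set L := fittingSubgroup (G ⧸ F) with hL
  haveI : Group.IsNilpotent L := by rw [hL]; infer_instance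
  haveI : L.Normal := by rw [hL]; infer_instance
  have hsyl : ∀ (r : ℕ) [Fact r.Prime] (S : Sylow r L), Nat.card S ∣ r := by
    intro r hr S
    have hchar : (S : Subgroup L).Characteristic := Sylow.characteristic_of_normal S inferInstance
    let T : Subgroup (G ⧸ F) := (S : Subgroup L).map L.subtype
    haveI : T.Normal := ConjAct.normal_of_characteristic_of_normal
    let X : Subgroup G := T.comap q
    have hFX : F ≤ X := fun x hx => by
      show q x ∈ T
      rw [QuotientGroup.mk'_apply, (QuotientGroup.eq_one_iff x).2 hx]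
      exact one_mem T
    have hXc : F.relIndex X = Nat.card S := by
      have h1 := Subgroup.relIndex_mul_index hFX
      have h2 : X.index = T.index := Subgroup.index_comap_of_surjective _ (QuotientGroup.mk'_surjective F)
      have h3 := T.card_mul_index
      rw [h2, Subgroup.index_eq_card F, ← h3] at h1
      rw [Nat.eq_of_mul_eq_mul_right (Nat.pos_of_ne_zero Subgroup.index_ne_zero_of_finite) h1]
      exact Subgroup.card_map_of_injective L.subtype_injective
    obtain ⟨a, ha⟩ := IsPGroup.iff_card.1 S.isPGroup'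
    rw [← hXc]
    exact relIndex_fitting_le hsq X hFX ⟨a, hXc.trans ha⟩
  have hcycS : ∀ (r : ℕ), r.Prime → ∀ S : Sylow r L, IsCyclic S := by
    intro r hr S
    haveI := Fact.mk hr
    rcases (Nat.dvd_prime hr).1 (hsyl r S) with h | h
    · haveI : Subsingleton S := (Nat.card_eq_one_iff_unique.1 h).1
      exact isCyclic_of_subsingleton
    · exact isCyclic_of_prime_card h
  haveI : IsZGroup L := ⟨fun r hr S => hcycS r hr S⟩
  haveI : IsCyclic L := inferInstance
  have hd1 : commutator (G ⧸ F) ≤ Subgroup.centralizer (L : Set (G ⧸ F)) := by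
    rw [commutator_def, Subgroup.commutator_le]
    intro g _ h _
    refine Subgroup.mem_centralizer_iff.2 fun l hl => ?_
    have hc : MulAut.conjNormal (H := L) ⁅g, h⁆ = 1 := by
      rw [map_commutatorElement, commutatorElement_eq_one_iff_mul_comm]
      have hcomm : ∀ a b : MulAut L, a * b = b * a := by
        intro a b
        obtain ⟨l0, hl0⟩ := IsCyclic.exists_generator (α := L)
        apply MulEquiv.ext
        intro z
        obtain ⟨i, rfl⟩ := Subgroup.mem_zpowers_iff.1 (hl0 z)
        obtain ⟨ia, hia⟩ := Subgroup.mem_zpowers_iff.1 (hl0 (a l0))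
        obtain ⟨ib, hib⟩ := Subgroup.mem_zpowers_iff.1 (hl0 (b l0))
        rw [MulAut.mul_apply, MulAut.mul_apply, map_zpow, map_zpow, map_zpow, map_zpow, ← hia, ← hib,
          map_zpow, map_zpow, ← hia, ← hib]
        simp only [← zpow_mul, mul_comm ia ib]
      exact hcomm _ _
    have h1 := congrArg (fun σ : MulAut L => ((σ ⟨l, hl⟩ : L) : G ⧸ F)) hc
    simp only [MulAut.conjNormal_apply, MulAut.one_apply] at h1
    rw [mul_inv_eq_iff_eq_mul] at h1
    exact h1.symm
  have hd2 : derivedSeries (G ⧸ F) 2 = ⊥ := by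
    rw [derivedSeries_succ, derivedSeries_one, Subgroup.commutator_eq_bot_iff_le_centralizer]
    have hle : commutator (G ⧸ F) ≤ L := hd1.trans (HallSolvable.centralizer_fitting_le)
    exact fun a ha => Subgroup.mem_centralizer_iff.2 fun b hb =>
      congrArg L.subtype (IsCyclic.commGroup.mul_comm (⟨b, hle hb⟩ : L) ⟨a, hle ha⟩)
  have h2F : derivedSeries G 2 ≤ F := fun x hx => by
    have : q x ∈ derivedSeries (G ⧸ F) 2 := map_derivedSeries_le_derivedSeries q 2 ⟨x, hx, rfl⟩
    rw [hd2, Subgroup.mem_bot] at this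
    exact (QuotientGroup.eq_one_iff x).1 this
  have hstep : ∀ k, derivedSeries G (2 + k) ≤ (derivedSeries F k).map F.subtype := by
    intro k
    induction k with
    | zero =>
      intro x hx
      exact ⟨⟨x, h2F hx⟩, by simp, rfl⟩
    | succ k ih =>
      rw [show 2 + (k + 1) = 2 + k + 1 by ring, derivedSeries_succ, derivedSeries_succ,
        Subgroup.map_commutator]
      exact Subgroup.commutator_mono ih ih
  have := hstep 2
  rw [derived_fitting_comm hsq, Subgroup.map_bot, le_bot_iff] at this
  exact this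

end Cfsg.Agent.SquarefreeDegrees75
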