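import Mathlib

/-!
The scaled Gram matrix of the small eigenspace of a strongly regular graph with parameters (77, 16, 0, 4).
-/

set_option autoImplicit false

namespace Cfsg.Agent.SrgSeventySevenGram70

open Finset

variable {V : Type*} [Fintype V] [DecidableEq V] {G : SimpleGraph V} [DecidableRel G.Adj]

/-- Number of neighbours in a set. -/
def adjn (G : SimpleGraph V) [DecidableRel G.Adj] (v : V) (S : Finset V) : ℕ := (S.filter (G.Adj v)).card

/-- Entries of the matrix. -/
def K (G : SimpleGraph V) [DecidableRel G.Adj] (u v : V) : ℤ :=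
  2 + 22 * (if u = v then 1 else 0) - 11 * (if G.Adj u v then 1 else 0)

/-- The image of the indicator of a set. -/
def H (G : SimpleGraph V) [DecidableRel G.Adj] (S : Finset V) (v : V) : ℤ :=
  2 * S.card + 22 * (if v ∈ S then 1 else 0) - 11 * adjn G v S

/-- The form on two indicators. -/
def Q (G : SimpleGraph V) [DecidableRel G.Adj] (S T : Finset V) : ℤ := ∑ v ∈ T, H G S v

theorem K_comm (u v : V) : K G u v = K G v u := by
  unfold K
  simp only [eq_comm (a := u) (b := v), G.adj_comm u v]

theorem H_eq_sum (S : Finset V) (v : V) : H G S v = ∑ u ∈ S, K G u v := by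
  simp only [K, sum_sub_distrib, sum_add_distrib, sum_const, ← mul_sum, sum_ite_eq', H, adjn]
  rw [sum_boole]
  have : S.filter (fun u => G.Adj u v) = S.filter (G.Adj v) := filter_congr fun u _ => G.adj_comm u v
  rw [this, nsmul_eq_mul]
  ring

theorem Q_eq (S T : Finset V) :
    Q G S T = 2 * S.card * T.card + 22 * (S ∩ T).card - 11 * ∑ v ∈ T, (adjn G v S : ℤ) := by
  simp only [Q, H, sum_sub_distrib, sum_add_distrib, sum_const, ← mul_sum, sum_boole]
  rw [filter_mem_eq_inter, inter_comm, nsmul_eq_mul]
  ring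

theorem Q_of (S T : Finset V) {m n k e : ℕ} (hS : S.card = m) (hT : T.card = n)
    (hI : (S ∩ T).card = k) (he : ∀ v ∈ T, adjn G v S = e) :
    Q G S T = 2 * m * n + 22 * k - 11 * (n * e) := by
  rw [Q_eq, sum_congr rfl (g := fun _ => (e : ℤ)) fun v hv => by rw [he v hv], sum_const, hS, hT, hI,
    nsmul_eq_mul]

theorem adjn_eq_zero {v : V} {S : Finset V} : adjn G v S = 0 ↔ ∀ u ∈ S, ¬ G.Adj v u := by
  simp [adjn, filter_eq_empty_iff]

theorem adjn_singleton (v z : V) : adjn G v {z} = if G.Adj v z then 1 else 0 := by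
  simp only [adjn, filter_singleton]
  split_ifs <;> simp

variable (hG : G.IsSRGWith 77 16 0 4)
include hG

theorem card_common (u v : V) : ((G.neighborFinset u ∩ G.neighborFinset v).card : ℤ) =
    4 + 12 * (if u = v then 1 else 0) - 4 * (if G.Adj u v then 1 else 0) := by
  by_cases huv : u = v
  · subst huv
    rw [inter_self, G.card_neighborFinset_eq_degree, hG.regular u]
    simp
  · have e : (G.neighborFinset u ∩ G.neighborFinset v).card = Fintype.card (G.commonNeighbors u v) := by
      rw [← Set.toFinset_card]; congr 1; ext w; simp [SimpleGraph.mem_commonNeighbors]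
    by_cases ha : G.Adj u v
    · rw [e, hG.of_adj u v ha]; simp [huv, ha]
    · rw [e, hG.of_not_adj huv ha]; simp [huv, ha]

theorem card_adj (v : V) : ((univ.filter (G.Adj v)).card : ℤ) = 16 := by
  rw [← G.neighborFinset_eq_filter, G.card_neighborFinset_eq_degree, hG.regular v]; rfl

theorem K_sq (u v : V) : ∑ w, K G u w * K G w v = 88 * K G u v := by
  have e : ∀ w, K G u w * K G w v =
      4 + 44 * (if u = w then 1 else 0) + 44 * (if w = v then 1 else 0)
        - 22 * (if G.Adj u w then 1 else 0) - 22 * (if G.Adj v w then 1 else 0)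
        + 484 * (if u = w then (if w = v then 1 else 0) else 0)
        - 242 * (if u = w then (if G.Adj w v then 1 else 0) else 0)
        - 242 * (if w = v then (if G.Adj u w then 1 else 0) else 0)
        + 121 * (if G.Adj u w ∧ G.Adj v w then 1 else 0) := by
    intro w
    simp only [K, G.adj_comm v w]
    by_cases a : u = w <;> by_cases b : w = v <;> by_cases c : G.Adj u w <;> by_cases d : G.Adj w v <;>
      simp [a, b, c, d] <;> split_ifs <;> simp_all <;> norm_num
  have hc : univ.filter (fun w => G.Adj u w ∧ G.Adj v w) = G.neighborFinset u ∩ G.neighborFinset v := by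
    ext w; simp
  rw [sum_congr rfl fun w _ => e w]
  simp only [sum_add_distrib, sum_sub_distrib, ← mul_sum, sum_ite_eq, sum_ite_eq', mem_univ, if_true,
    sum_const, card_univ, hG.card, sum_boole, hc, card_adj hG, card_common hG, K]
  ring

theorem HH (S T : Finset V) : ∑ v, H G S v * H G T v = 88 * Q G S T := by
  calc ∑ v, H G S v * H G T v = ∑ v, ∑ u ∈ S, ∑ t ∈ T, K G u v * K G v t := by
        refine sum_congr rfl fun v _ => ?_
        rw [H_eq_sum, H_eq_sum, sum_mul_sum]
        exact sum_congr rfl fun u _ => sum_congr rfl fun t _ => by rw [K_comm t v]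
    _ = ∑ u ∈ S, ∑ t ∈ T, 88 * K G u t := by
        rw [sum_comm]
        refine sum_congr rfl fun u _ => ?_
        rw [sum_comm]
        exact sum_congr rfl fun t _ => K_sq hG u t
    _ = 88 * Q G S T := by
        rw [sum_comm, Q, mul_sum]
        exact sum_congr rfl fun t _ => by rw [H_eq_sum, mul_sum]

theorem Q_comm (S T : Finset V) : Q G S T = Q G T S := by
  have h1 := HH hG S T
  have h2 := HH hG T S
  simp only [mul_comm (H G T _)] at h2
  rw [h1] at h2
  omega

theorem sum_H (S : Finset V) : ∑ v, H G S v = 0 := by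
  simp only [H_eq_sum]
  rw [sum_comm]
  refine sum_eq_zero fun u _ => ?_
  simp only [K, sum_sub_distrib, sum_add_distrib, sum_const, ← mul_sum, sum_ite_eq, mem_univ, if_true,
    card_univ, hG.card, sum_boole, card_adj hG]
  norm_num

theorem combo (a b c : ℤ) (R S T : Finset V) :
    ∑ v, (a * H G R v + b * H G S v + c * H G T v) ^ 2 =
      88 * (a ^ 2 * Q G R R + b ^ 2 * Q G S S + c ^ 2 * Q G T T + 2 * a * b * Q G R S +
        2 * a * c * Q G R T + 2 * b * c * Q G S T) := by
  have e : ∀ v, (a * H G R v + b * H G S v + c * H G T v) ^ 2 =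
      a ^ 2 * (H G R v * H G R v) + b ^ 2 * (H G S v * H G S v) + c ^ 2 * (H G T v * H G T v) +
        2 * a * b * (H G R v * H G S v) + 2 * a * c * (H G R v * H G T v) +
        2 * b * c * (H G S v * H G T v) := fun v => by ring
  simp only [e, sum_add_distrib, ← mul_sum, HH hG]
  ring

theorem combo_zero {a b c : ℤ} {R S T : Finset V}
    (h : a ^ 2 * Q G R R + b ^ 2 * Q G S S + c ^ 2 * Q G T T + 2 * a * b * Q G R S +
      2 * a * c * Q G R T + 2 * b * c * Q G S T ≤ 0) (v : V) :
    a * H G R v + b * H G S v + c * H G T v = 0 := by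
  have h0 := combo hG a b c R S T
  have h1 : ∑ v, (a * H G R v + b * H G S v + c * H G T v) ^ 2 = 0 :=
    le_antisymm (by rw [h0]; linarith) (sum_nonneg fun v _ => sq_nonneg _)
  exact sq_eq_zero_iff.1 ((sum_eq_zero_iff_of_nonneg fun v _ => sq_nonneg _).1 h1 v (mem_univ v))

theorem combo_nonneg (a b c : ℤ) (R S T : Finset V) :
    0 ≤ a ^ 2 * Q G R R + b ^ 2 * Q G S S + c ^ 2 * Q G T T + 2 * a * b * Q G R S +
      2 * a * c * Q G R T + 2 * b * c * Q G S T := by
  have h0 := combo hG a b c R S T
  have h1 : 0 ≤ ∑ v, (a * H G R v + b * H G S v + c * H G T v) ^ 2 := sum_nonneg fun v _ => sq_nonneg _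
  rw [h0] at h1
  linarith

end Cfsg.Agent.SrgSeventySevenGram70
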