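import Cfsg.Agent.Lib.SrgSeventySevenGram70

/-!
Lines of five vertices in a strongly regular graph with parameters (77, 16, 0, 4).
-/

set_option autoImplicit false

namespace Cfsg.Agent.SrgSeventySevenLines70

open Finset Cfsg.Agent.SrgSeventySevenGram70

variable {V : Type*} [Fintype V] [DecidableEq V] {G : SimpleGraph V} [DecidableRel G.Adj]

/-- Common neighbours. -/
def C (G : SimpleGraph V) [DecidableRel G.Adj] (u v : V) : Finset V :=
  univ.filter fun a => G.Adj u a ∧ G.Adj v a

theorem mem_C {u v a : V} : a ∈ C G u v ↔ G.Adj u a ∧ G.Adj v a := by simp [C]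

/-- Two vertices are far: distinct and not adjacent. -/
def Far (G : SimpleGraph V) (u v : V) : Prop := u ≠ v ∧ ¬ G.Adj u v

theorem Far.symm {u v : V} (h : Far G u v) : Far G v u := ⟨h.1.symm, fun a => h.2 a.symm⟩

/-- The completion of a far pair. -/
def L (G : SimpleGraph V) [DecidableRel G.Adj] (z w : V) : Finset V :=
  univ.filter fun v => (z ≠ v ∧ ¬ G.Adj z v) ∧ (w ≠ v ∧ ¬ G.Adj w v) ∧ (C G z w).filter (G.Adj v) = ∅

theorem mem_L {z w v : V} : v ∈ L G z w ↔
    Far G z v ∧ Far G w v ∧ ∀ a, G.Adj z a → G.Adj w a → ¬ G.Adj v a := by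
  simp [L, Far, filter_eq_empty_iff, mem_C]

/-- The line through a far pair. -/
def line (G : SimpleGraph V) [DecidableRel G.Adj] (z w : V) : Finset V := insert z (insert w (L G z w))

theorem mem_line {z w v : V} : v ∈ line G z w ↔ v = z ∨ v = w ∨ v ∈ L G z w := by simp [line]

variable (hG : G.IsSRGWith 77 16 0 4)
include hG

theorem no_tri {x y v : V} (h : G.Adj x y) (hx : G.Adj x v) : ¬ G.Adj y v := by
  intro hy
  have h0 := hG.of_adj x y h
  rw [Fintype.card_eq_zero_iff] at h0
  exact h0.false ⟨v, SimpleGraph.mem_commonNeighbors G |>.2 ⟨hx, hy⟩⟩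

theorem card_C_self (v : V) : (univ.filter (G.Adj v)).card = 16 := by exact_mod_cast card_adj hG v

theorem card_C {u v : V} (h : Far G u v) : (C G u v).card = 4 := by
  have := card_common hG u v
  rw [show G.neighborFinset u ∩ G.neighborFinset v = C G u v by ext a; simp [C]] at this
  simp [h.1, h.2] at this
  exact_mod_cast this

theorem C_indep {u v a b : V} (ha : a ∈ C G u v) (hb : b ∈ C G u v) : ¬ G.Adj a b :=
  no_tri hG (mem_C.1 ha).1 (mem_C.1 hb).1

theorem adjn_C {z w v : V} (h : Far G z w) (hv : v = z ∨ v = w) : adjn G v (C G z w) = 4 := by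
  rw [adjn, filter_true_of_mem, card_C hG h]
  intro a ha
  rcases hv with rfl | rfl
  · exact (mem_C.1 ha).1
  · exact (mem_C.1 ha).2

theorem adjn_pair_C {z w v : V} (h : Far G z w) (hv : v ∈ C G z w) : adjn G v {z, w} = 2 := by
  rw [adjn, filter_true_of_mem, card_pair h.1]
  intro a ha
  rcases mem_insert.1 ha with rfl | ha
  · exact (mem_C.1 hv).1.symm
  · rw [mem_singleton.1 ha]; exact (mem_C.1 hv).2.symm

/-- Three independent vertices have at most two common neighbours. -/
theorem triple_le {z u w : V} (hzu : Far G z u) (hzw : Far G z w) (huw : Far G u w) :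
    ((C G z u).filter (G.Adj w)).card ≤ 2 := by
  by_contra hc
  set T := (C G z u).filter (G.Adj w) with hT
  have hmem : ∀ a ∈ T, G.Adj z a ∧ G.Adj u a ∧ G.Adj w a := fun a ha => by
    obtain ⟨h1, h2⟩ := mem_filter.1 ha
    exact ⟨(mem_C.1 h1).1, (mem_C.1 h1).2, h2⟩
  set X : Finset V := {z, u, w} with hXdef
  have hX : X.card = 3 := card_eq_three.2 ⟨z, u, w, hzu.1, hzw.1, huw.1, rfl⟩
  have hXind : ∀ v ∈ X, adjn G v X = 0 := by
    intro v hv
    rw [adjn_eq_zero]
    intro a ha
    simp only [hXdef, mem_insert, mem_singleton] at hv ha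
    rcases hv with rfl | rfl | rfl <;> rcases ha with rfl | rfl | rfl
    · exact G.loopless.irrefl _
    · exact hzu.2
    · exact hzw.2
    · exact hzu.symm.2
    · exact G.loopless.irrefl _
    · exact huw.2
    · exact hzw.symm.2
    · exact huw.symm.2
    · exact G.loopless.irrefl _
  have hXT : ∀ v ∈ T, adjn G v X = 3 := fun v hv => by
    obtain ⟨h1, h2, h3⟩ := hmem v hv
    rw [adjn, filter_true_of_mem, hX]
    intro a ha
    simp only [hXdef, mem_insert, mem_singleton] at ha
    rcases ha with rfl | rfl | rfl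
    exacts [h1.symm, h2.symm, h3.symm]
  have hTind : ∀ v ∈ T, adjn G v T = 0 := fun v hv =>
    adjn_eq_zero.2 fun a ha => C_indep hG (mem_filter.1 hv).1 (mem_filter.1 ha).1
  have hdisj : (X ∩ T).card = 0 := by
    rw [card_eq_zero]
    refine eq_empty_of_forall_notMem fun v hv => ?_
    obtain ⟨h1, h2⟩ := mem_inter.1 hv
    obtain ⟨a1, a2, a3⟩ := hmem v h2
    simp only [hXdef, mem_insert, mem_singleton] at h1
    rcases h1 with rfl | rfl | rfl
    exacts [G.loopless.irrefl _ a1, G.loopless.irrefl _ a2, G.loopless.irrefl _ a3]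
  rcases Nat.lt_or_ge T.card 4 with h4 | h4
  · have hT3 : T.card = 3 := by omega
    have hex : ∀ p q r : V, Far G p q → (∀ a ∈ T, a ∈ C G p q) → (∀ a ∈ C G p q, G.Adj r a → a ∈ T) →
        ∃ a, G.Adj p a ∧ G.Adj q a ∧ ¬ G.Adj r a ∧ a ∉ T := by
      intro p q r hpq h1 h2
      obtain ⟨a, ha, haT⟩ := exists_mem_notMem_of_card_lt_card (s := T) (t := C G p q)
        (by rw [card_C hG hpq, hT3]; norm_num)
      exact ⟨a, (mem_C.1 ha).1, (mem_C.1 ha).2, fun hr => haT (h2 a ha hr), haT⟩
    obtain ⟨a4, p1, p2, p3, p4⟩ := hex z u w hzu (fun a ha => (mem_filter.1 ha).1)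
      fun a ha hr => mem_filter.2 ⟨ha, hr⟩
    obtain ⟨a5, q1, q2, q3, q4⟩ := hex z w u hzw (fun a ha => mem_C.2 ⟨(hmem a ha).1, (hmem a ha).2.2⟩)
      fun a ha hr => mem_filter.2 ⟨mem_C.2 ⟨(mem_C.1 ha).1, hr⟩, (mem_C.1 ha).2⟩
    obtain ⟨c, r1, r2, r3, r4⟩ := hex u w z huw (fun a ha => mem_C.2 ⟨(hmem a ha).2.1, (hmem a ha).2.2⟩)
      fun a ha hr => mem_filter.2 ⟨mem_C.2 ⟨hr, (mem_C.1 ha).1⟩, (mem_C.1 ha).2⟩
    have n1 : a4 ≠ a5 := fun e => p3 (e ▸ q2)
    have n2 : a4 ≠ c := fun e => p3 (e ▸ r2)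
    have n3 : a5 ≠ c := fun e => q3 (e ▸ r1)
    set W : Finset V := {a4, a5, c} with hWdef
    have hW : W.card = 3 := card_eq_three.2 ⟨a4, a5, c, n1, n2, n3, rfl⟩
    have hWind : ∀ v ∈ W, adjn G v W = 0 := by
      intro v hv
      rw [adjn_eq_zero]
      intro a ha
      simp only [hWdef, mem_insert, mem_singleton] at hv ha
      rcases hv with rfl | rfl | rfl <;> rcases ha with rfl | rfl | rfl
      · exact G.loopless.irrefl _
      · exact no_tri hG p1 q1
      · exact no_tri hG p2 r1
      · exact no_tri hG q1 p1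
      · exact G.loopless.irrefl _
      · exact no_tri hG q2 r2
      · exact no_tri hG r1 p2
      · exact no_tri hG r2 q2
      · exact G.loopless.irrefl _
    have hTW : ∀ v ∈ W, adjn G v T = 0 := by
      intro v hv
      rw [adjn_eq_zero]
      intro a ha
      obtain ⟨h1, h2, -⟩ := hmem a ha
      simp only [hWdef, mem_insert, mem_singleton] at hv
      rcases hv with rfl | rfl | rfl
      exacts [no_tri hG p1 h1, no_tri hG q1 h1, no_tri hG r1 h2]
    have hXW : ∀ v ∈ W, adjn G v X = 2 := by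
      intro v hv
      simp only [hWdef, mem_insert, mem_singleton] at hv
      simp only [adjn, hXdef, filter_insert, filter_singleton]
      rcases hv with rfl | rfl | rfl
      · rw [if_pos p1.symm, if_pos p2.symm, if_neg fun h => p3 h.symm]
        exact card_pair hzu.1
      · rw [if_pos q1.symm, if_neg fun h => q3 h.symm, if_pos q2.symm]
        exact card_pair hzw.1
      · rw [if_neg fun h => r3 h.symm, if_pos r1.symm, if_pos r2.symm]
        exact card_pair huw.1
    have i1 : (X ∩ W).card = 0 := by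
      rw [card_eq_zero]
      refine eq_empty_of_forall_notMem fun v hv => ?_
      simp only [hXdef, hWdef, mem_inter, mem_insert, mem_singleton] at hv
      rcases hv with ⟨rfl | rfl | rfl, h | h | h⟩ <;> subst h
      · exact G.loopless.irrefl _ p1
      · exact G.loopless.irrefl _ q1
      · exact hzu.2 r1.symm
      · exact G.loopless.irrefl _ p2
      · exact hzu.2 q1
      · exact G.loopless.irrefl _ r1
      · exact hzw.2 p1
      · exact G.loopless.irrefl _ q2
      · exact G.loopless.irrefl _ r2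
    have i2 : (T ∩ W).card = 0 := by
      rw [card_eq_zero]
      refine eq_empty_of_forall_notMem fun v hv => ?_
      simp only [hWdef, mem_inter, mem_insert, mem_singleton] at hv
      rcases hv with ⟨hv, rfl | rfl | rfl⟩
      exacts [p4 hv, q4 hv, r4 hv]
    have := combo_nonneg hG 3 3 1 X T W
    rw [Q_of X X hX hX (by rw [inter_self, hX]) hXind, Q_of T T hT3 hT3 (by rw [inter_self, hT3]) hTind,
      Q_of W W hW hW (by rw [inter_self, hW]) hWind, Q_of X T hX hT3 hdisj hXT,
      Q_of X W hX hW i1 hXW, Q_of T W hT3 hW i2 hTW] at this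
    norm_num at this
  · have hT4 : T.card = 4 := le_antisymm (card_C hG hzu ▸ card_filter_le _ _) h4
    have := combo_nonneg hG 4 3 0 X T X
    rw [Q_of X X hX hX (by rw [inter_self, hX]) hXind, Q_of T T hT4 hT4 (by rw [inter_self, hT4]) hTind,
      Q_of X T hX hT4 hdisj hXT] at this
    norm_num at this

/-- Number of common neighbours of a triple. -/
theorem sum_triple {z w : V} (h : Far G z w) :
    let U := univ.filter fun v => (z ≠ v ∧ ¬ G.Adj z v) ∧ (w ≠ v ∧ ¬ G.Adj w v)
    U.card = 47 ∧ (∑ v ∈ U, ((C G z w).filter (G.Adj v)).card = 56) ∧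
      ∑ v ∈ U, ((C G z w).filter (G.Adj v)).card ^ 2 = 80 := by
  intro U
  refine ⟨?_, ?_, ?_⟩
  · have hU : U = (insert z (insert w (univ.filter (G.Adj z) ∪ univ.filter (G.Adj w))))ᶜ := by
      ext v; simp [U, ne_comm (a := v)]; tauto
    have hun : (univ.filter (G.Adj z) ∪ univ.filter (G.Adj w)).card = 28 := by
      have := card_union_add_card_inter (univ.filter (G.Adj z)) (univ.filter (G.Adj w))
      rw [← filter_and, show univ.filter (fun a => G.Adj z a ∧ G.Adj w a) = C G z w from rfl,
        card_C hG h, card_C_self hG, card_C_self hG] at this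
      omega
    rw [hU, card_compl, card_insert_of_notMem (by simp [h.1, h.symm.2]),
      card_insert_of_notMem (by simp [h.2]), hun, hG.card]
  · have hin : ∀ a ∈ C G z w, (U.filter fun v => G.Adj v a).card = 14 := by
      intro a ha
      obtain ⟨hza, hwa⟩ := mem_C.1 ha
      have e : U.filter (fun v => G.Adj v a) = univ.filter (G.Adj a) \ {z, w} := by
        ext v
        simp only [U, mem_filter, mem_univ, true_and, mem_sdiff, mem_insert, mem_singleton, not_or]
        constructor
        · rintro ⟨⟨⟨h1, -⟩, h2, -⟩, h3⟩; exact ⟨h3.symm, fun e => h1 e.symm, fun e => h2 e.symm⟩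
        · rintro ⟨h3, h1, h2⟩
          exact ⟨⟨⟨fun e => h1 e.symm, fun hh => no_tri hG hza hh h3⟩,
            fun e => h2 e.symm, fun hh => no_tri hG hwa hh h3⟩, h3.symm⟩
      rw [e, card_sdiff_of_subset (by simp [insert_subset_iff, hza.symm, hwa.symm]), card_pair h.1,
        card_C_self hG]
    simp only [card_filter]
    rw [sum_comm, sum_congr rfl (g := fun _ => 14) fun a ha => by rw [← card_filter]; exact hin a ha,
      sum_const, card_C hG h]
    rfl
  · have hin : ∀ a ∈ C G z w, ∀ b ∈ C G z w, (U.filter fun v => G.Adj v a ∧ G.Adj v b).card =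
        if a = b then 14 else 2 := by
      intro a ha b hb
      obtain ⟨hza, hwa⟩ := mem_C.1 ha
      obtain ⟨hzb, hwb⟩ := mem_C.1 hb
      have e : U.filter (fun v => G.Adj v a ∧ G.Adj v b) = C G a b \ {z, w} := by
        ext v
        simp only [U, mem_filter, mem_univ, true_and, mem_sdiff, mem_C, mem_insert, mem_singleton, not_or]
        constructor
        · rintro ⟨⟨⟨h1, -⟩, h2, -⟩, h3, h4⟩
          exact ⟨⟨h3.symm, h4.symm⟩, fun e => h1 e.symm, fun e => h2 e.symm⟩
        · rintro ⟨⟨h3, h4⟩, h1, h2⟩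
          exact ⟨⟨⟨fun e => h1 e.symm, fun hh => no_tri hG hza hh h3⟩,
            fun e => h2 e.symm, fun hh => no_tri hG hwa hh h3⟩, h3.symm, h4.symm⟩
      rw [e, card_sdiff_of_subset (by simp [insert_subset_iff, mem_C, hza.symm, hwa.symm, hzb.symm, hwb.symm]),
        card_pair h.1]
      split_ifs with he
      · subst he
        rw [show C G a a = univ.filter (G.Adj a) by ext; simp [C], card_C_self hG]
      · rw [card_C hG ⟨he, C_indep hG ha hb⟩]
    simp only [card_filter, sq, sum_mul_sum]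
    rw [sum_comm, sum_congr rfl (g := fun _ => 20) fun a ha => ?_, sum_const, card_C hG h]
    · rfl
    · rw [sum_comm, sum_congr rfl (g := fun b => if a = b then 14 else 2) fun b hb => ?_]
      · rw [sum_ite, filter_eq, if_pos ha, filter_ne]
        simp [card_erase_of_mem ha, card_C hG h]
      · rw [← hin a ha b hb, card_filter]
        refine sum_congr rfl fun v _ => ?_
        split_ifs <;> simp_all

theorem card_L {z w : V} (h : Far G z w) : (L G z w).card = 3 := by
  obtain ⟨h1, h2, h3⟩ := sum_triple hG h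
  set U := univ.filter fun v => (z ≠ v ∧ ¬ G.Adj z v) ∧ (w ≠ v ∧ ¬ G.Adj w v) with hU
  have hL : L G z w = U.filter fun v => ((C G z w).filter (G.Adj v)).card = 0 := by
    ext v; simp [L, hU, and_assoc, card_eq_zero]
  have e : ∀ v ∈ U, (((C G z w).filter (G.Adj v)).card : ℤ) ^ 2 - 3 * ((C G z w).filter (G.Adj v)).card
      + 2 = 2 * (if ((C G z w).filter (G.Adj v)).card = 0 then 1 else 0) := by
    intro v hv
    simp only [hU, mem_filter, mem_univ, true_and] at hv
    have := triple_le hG h ⟨hv.1.1, hv.1.2⟩ ⟨hv.2.1, hv.2.2⟩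
    generalize ((C G z w).filter (G.Adj v)).card = m at this ⊢
    interval_cases m <;> norm_num
  have hs := sum_congr rfl e
  simp only [sum_add_distrib, sum_sub_distrib, ← mul_sum, sum_const, sum_boole, h1] at hs
  have e1 : ∑ v ∈ U, (((C G z w).filter (G.Adj v)).card : ℤ) = 56 := by exact_mod_cast h2
  have e2 : ∑ v ∈ U, (((C G z w).filter (G.Adj v)).card : ℤ) ^ 2 = 80 := by exact_mod_cast h3
  rw [e1, e2, ← hL] at hs
  norm_num at hs
  omega

theorem card_meet_one {z w : V} (h : Far G z w) :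
    (univ.filter fun v => (z ≠ v ∧ ¬ G.Adj z v) ∧ (w ≠ v ∧ ¬ G.Adj w v) ∧
      ((C G z w).filter (G.Adj v)).card = 1).card = 32 := by
  obtain ⟨h1, h2, h3⟩ := sum_triple hG h
  set U := univ.filter fun v => (z ≠ v ∧ ¬ G.Adj z v) ∧ (w ≠ v ∧ ¬ G.Adj w v) with hU
  have hL : (univ.filter fun v => (z ≠ v ∧ ¬ G.Adj z v) ∧ (w ≠ v ∧ ¬ G.Adj w v) ∧
      ((C G z w).filter (G.Adj v)).card = 1) = U.filter fun v => ((C G z w).filter (G.Adj v)).card = 1 := by
    ext v; simp [hU, and_assoc]
  have e : ∀ v ∈ U, 2 * (((C G z w).filter (G.Adj v)).card : ℤ) - (((C G z w).filter (G.Adj v)).card : ℤ) ^ 2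
      = (if ((C G z w).filter (G.Adj v)).card = 1 then 1 else 0) := by
    intro v hv
    simp only [hU, mem_filter, mem_univ, true_and] at hv
    have := triple_le hG h ⟨hv.1.1, hv.1.2⟩ ⟨hv.2.1, hv.2.2⟩
    generalize ((C G z w).filter (G.Adj v)).card = m at this ⊢
    interval_cases m <;> norm_num
  have hs := sum_congr rfl e
  simp only [sum_sub_distrib, ← mul_sum, sum_boole] at hs
  have e1 : ∑ v ∈ U, (((C G z w).filter (G.Adj v)).card : ℤ) = 56 := by exact_mod_cast h2
  have e2 : ∑ v ∈ U, (((C G z w).filter (G.Adj v)).card : ℤ) ^ 2 = 80 := by exact_mod_cast h3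
  rw [e1, e2, ← hL] at hs
  norm_num at hs ⊢
  omega

theorem ident {z w : V} (h : Far G z w) :
    (∀ v ∈ L G z w, adjn G v (L G z w) = 0) ∧
      ∀ v, H G (L G z w) v - 3 * H G {z, w} v - 2 * H G (C G z w) v = 0 := by
  have hl := card_L hG h
  have hc := card_C hG h
  have hp : ({z, w} : Finset V).card = 2 := card_pair h.1
  have pp : ∀ v ∈ ({z, w} : Finset V), adjn G v {z, w} = 0 := by
    intro v hv
    refine adjn_eq_zero.2 fun a ha => ?_
    rcases mem_insert.1 hv with e | e <;> rcases mem_insert.1 ha with e' | e' <;>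
      (try rw [mem_singleton] at e) <;> (try rw [mem_singleton] at e') <;> subst e <;> subst e'
    exacts [G.loopless.irrefl _, h.2, h.symm.2, G.loopless.irrefl _]
  have cc : ∀ v ∈ C G z w, adjn G v (C G z w) = 0 := fun v hv =>
    adjn_eq_zero.2 fun a ha => C_indep hG hv ha
  have pl : ∀ v ∈ L G z w, adjn G v {z, w} = 0 := fun v hv => by
    refine adjn_eq_zero.2 fun a ha => ?_
    rcases mem_insert.1 ha with rfl | ha
    · exact fun hh => (mem_L.1 hv).1.2 hh.symm
    · rw [mem_singleton.1 ha]; exact fun hh => (mem_L.1 hv).2.1.2 hh.symm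
  have cl : ∀ v ∈ L G z w, adjn G v (C G z w) = 0 := fun v hv =>
    adjn_eq_zero.2 fun a ha => (mem_L.1 hv).2.2 a (mem_C.1 ha).1 (mem_C.1 ha).2
  have i1 : (({z, w} : Finset V) ∩ L G z w).card = 0 := by
    rw [card_eq_zero]
    refine eq_empty_of_forall_notMem fun v hv => ?_
    obtain ⟨h1, h2⟩ := mem_inter.1 hv
    rcases mem_insert.1 h1 with rfl | h1
    · exact (mem_L.1 h2).1.1 rfl
    · exact (mem_L.1 h2).2.1.1 (mem_singleton.1 h1).symm
  have i2 : (C G z w ∩ L G z w).card = 0 := by
    rw [card_eq_zero]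
    refine eq_empty_of_forall_notMem fun v hv => ?_
    obtain ⟨h1, h2⟩ := mem_inter.1 hv
    exact (mem_L.1 h2).1.2 (mem_C.1 h1).1
  have i3 : (({z, w} : Finset V) ∩ C G z w).card = 0 := by
    rw [card_eq_zero]
    refine eq_empty_of_forall_notMem fun v hv => ?_
    obtain ⟨h1, h2⟩ := mem_inter.1 hv
    rcases mem_insert.1 h1 with rfl | h1
    · exact G.loopless.irrefl _ (mem_C.1 h2).1
    · rw [mem_singleton.1 h1] at h2; exact G.loopless.irrefl _ (mem_C.1 h2).2
  have hsum : (∑ v ∈ L G z w, (adjn G v (L G z w) : ℤ)) = 0 := by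
    have := combo_nonneg hG 1 (-3) (-2) (L G z w) {z, w} (C G z w)
    rw [Q_comm hG (L G z w) {z, w}, Q_comm hG (L G z w) (C G z w), Q_of {z, w} {z, w} hp hp (by rw [inter_self, hp]) pp,
      Q_of (C G z w) (C G z w) hc hc (by rw [inter_self, hc]) cc,
      Q_of {z, w} (L G z w) hp hl i1 pl, Q_of (C G z w) (L G z w) hc hl i2 cl,
      Q_of {z, w} (C G z w) hp hc i3 (fun v hv => adjn_pair_C hG h hv), Q_eq, inter_self, hl] at this
    have h0 : (0 : ℤ) ≤ ∑ v ∈ L G z w, (adjn G v (L G z w) : ℤ) := sum_nonneg fun v _ => Int.natCast_nonneg _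
    push_cast at this
    linarith
  have hind : ∀ v ∈ L G z w, adjn G v (L G z w) = 0 := fun v hv => by
    have := (sum_eq_zero_iff_of_nonneg fun v _ => Int.natCast_nonneg _).1 hsum v hv
    exact_mod_cast this
  refine ⟨hind, fun v => ?_⟩
  have := combo_zero hG (a := 1) (b := -3) (c := -2) (R := L G z w) (S := {z, w}) (T := C G z w) (by
    rw [Q_comm hG (L G z w) {z, w}, Q_comm hG (L G z w) (C G z w), Q_of {z, w} {z, w} hp hp (by rw [inter_self, hp]) pp,
      Q_of (C G z w) (C G z w) hc hc (by rw [inter_self, hc]) cc,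
      Q_of (L G z w) (L G z w) hl hl (by rw [inter_self, hl]) hind,
      Q_of {z, w} (L G z w) hp hl i1 pl, Q_of (C G z w) (L G z w) hc hl i2 cl,
      Q_of {z, w} (C G z w) hp hc i3 (fun v hv => adjn_pair_C hG h hv)]
    norm_num) v
  linarith

theorem adjn_L {z w : V} (h : Far G z w) (v : V) :
    (adjn G v (L G z w) : ℤ) = 2 * (if v ∈ L G z w then 1 else 0) - 2
      - 6 * (if v ∈ ({z, w} : Finset V) then 1 else 0) - 4 * (if v ∈ C G z w then 1 else 0)
      + 3 * adjn G v {z, w} + 2 * adjn G v (C G z w) := by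
  have := (ident hG h).2 v
  simp only [H, card_L hG h, card_C hG h, card_pair h.1] at this
  push_cast at this
  linarith

theorem card_line {z w : V} (h : Far G z w) : (line G z w).card = 5 := by
  rw [line, card_insert_of_notMem, card_insert_of_notMem, card_L hG h]
  · exact fun hm => (mem_L.1 hm).2.1.1 rfl
  · simp only [mem_insert, not_or]
    exact ⟨h.1, fun hm => (mem_L.1 hm).1.1 rfl⟩

theorem L_comm (z w : V) : L G z w = L G w z := by
  ext v
  simp only [mem_L]
  exact ⟨fun ⟨a, b, c⟩ => ⟨b, a, fun x p q => c x q p⟩, fun ⟨a, b, c⟩ => ⟨b, a, fun x p q => c x q p⟩⟩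

theorem line_comm (z w : V) : line G z w = line G w z := by
  ext v; simp only [mem_line, L_comm hG z w]; tauto

theorem line_far {z w a b : V} (h : Far G z w) (ha : a ∈ line G z w) (hb : b ∈ line G z w)
    (hne : a ≠ b) : Far G a b := by
  refine ⟨hne, ?_⟩
  rcases mem_line.1 ha with rfl | rfl | ha <;> rcases mem_line.1 hb with rfl | rfl | hb
  · exact absurd rfl hne
  · exact h.2
  · exact (mem_L.1 hb).1.2
  · exact h.symm.2
  · exact absurd rfl hne
  · exact (mem_L.1 hb).2.1.2
  · exact (mem_L.1 ha).1.symm.2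
  · exact (mem_L.1 ha).2.1.symm.2
  · exact adjn_eq_zero.1 ((ident hG h).1 a ha) b hb

theorem line_trans {z w u : V} (h : Far G z w) (hu : u ∈ L G z w) : line G z u = line G z w := by
  obtain ⟨hzu, hwu, hno⟩ := mem_L.1 hu
  have hsub : insert w ((L G z w).erase u) ⊆ L G z u := by
    intro x hx
    rcases mem_insert.1 hx with rfl | hx
    · exact mem_L.2 ⟨h, hwu.symm, fun a p q r => hno a p r q⟩
    obtain ⟨hxu, hxL⟩ := mem_erase.1 hx
    obtain ⟨hzx, hwx, hnox⟩ := mem_L.1 hxL
    refine mem_L.2 ⟨hzx, line_far hG h (mem_line.2 (Or.inr (Or.inr hu)))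
      (mem_line.2 (Or.inr (Or.inr hxL))) (Ne.symm hxu), fun a hza hua hxa => ?_⟩
    by_cases hwa : G.Adj w a
    · exact hno a hza hwa hua
    have h1 := adjn_L hG h a
    have e1 : a ∉ L G z w := fun hm => (mem_L.1 hm).1.2 hza
    have e2 : a ∉ C G z w := fun hm => hwa (mem_C.1 hm).2
    have e3 : a ∉ ({z, w} : Finset V) := by
      simp only [mem_insert, mem_singleton, not_or]
      exact ⟨fun e => G.loopless.irrefl z (e ▸ hza), fun e => h.2 (e ▸ hza)⟩
    have e4 : adjn G a {z, w} = 1 := by
      rw [adjn, filter_insert, if_pos hza.symm, filter_singleton, if_neg (fun hh => hwa hh.symm)]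
      rfl
    have e5 : adjn G a (C G z w) = 0 := adjn_eq_zero.2 fun c hc => no_tri hG hza (mem_C.1 hc).1
    rw [e4, e5, if_neg e1, if_neg e2, if_neg e3] at h1
    norm_num at h1
    have : ({u, x} : Finset V) ⊆ (L G z w).filter (G.Adj a) := by
      simp [insert_subset_iff, hu, hxL, hua.symm, hxa.symm]
    have := card_le_card this
    rw [card_pair (Ne.symm hxu)] at this
    rw [adjn] at h1
    omega
  have hne : w ∉ (L G z w).erase u := fun hm => (mem_L.1 (mem_of_mem_erase hm)).2.1.1 rfl
  have heq := eq_of_subset_of_card_le hsub (by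
    rw [card_L hG hzu, card_insert_of_notMem hne, card_erase_of_mem hu, card_L hG h])
  rw [line, ← heq, Finset.insert_comm u w, insert_erase hu]
  rfl

theorem line_eq {z w a b : V} (h : Far G z w) (ha : a ∈ line G z w) (hb : b ∈ line G z w)
    (hne : a ≠ b) : line G a b = line G z w := by
  have step : ∀ {p q x : V}, Far G p q → x ∈ line G p q → x ≠ p → line G p x = line G p q := by
    intro p q x hpq hx hxp
    rcases mem_line.1 hx with rfl | rfl | hx
    · exact absurd rfl hxp
    · rfl
    · exact line_trans hG hpq hx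
  by_cases haz : a = z
  · subst haz; exact step h hb hne.symm
  · have e1 : line G z a = line G z w := step h ha haz
    have hza : Far G z a := line_far hG h (mem_line.2 (Or.inl rfl)) ha (Ne.symm haz)
    have hb' : b ∈ line G a z := by rw [line_comm hG, e1]; exact hb
    rw [step hza.symm hb' hne.symm, line_comm hG, e1]

end Cfsg.Agent.SrgSeventySevenLines70
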