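import Cfsg.Agent.Lib.SrgSeventySevenLines70
import Cfsg.Agent.Lib.QuadrangleTwo70

/-!
The fifteen lines through a vertex form a generalised quadrangle.
-/

set_option autoImplicit false

namespace Cfsg.Agent.SrgSeventySevenLocal70

open Finset Cfsg.Agent.SrgSeventySevenGram70 Cfsg.Agent.SrgSeventySevenLines70

variable {V : Type*} [Fintype V] [DecidableEq V] {G : SimpleGraph V} [DecidableRel G.Adj]

/-- The vertices far from a given one. -/
def away (G : SimpleGraph V) [DecidableRel G.Adj] (z : V) : Finset V :=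
  univ.filter fun v => z ≠ v ∧ ¬ G.Adj z v

theorem mem_away {z v : V} : v ∈ away G z ↔ Far G z v := by simp [away, Far]

/-- The lines through a vertex. -/
def lines (G : SimpleGraph V) [DecidableRel G.Adj] (z : V) : Finset (Finset V) :=
  (away G z).image (line G z)

/-- Two lines through a vertex are joined by edges. -/
def Joined (G : SimpleGraph V) [DecidableRel G.Adj] (z : V) (l m : lines G z) : Prop :=
  l ≠ m ∧ ∃ v ∈ (l : Finset V), v ≠ z ∧ adjn G v (m : Finset V) ≠ 0

instance (z : V) : DecidableRel (Joined G z) := fun l m =>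
  inferInstanceAs (Decidable (l ≠ m ∧ ∃ v ∈ (l : Finset V), v ≠ z ∧ adjn G v (m : Finset V) ≠ 0))

variable (hG : G.IsSRGWith 77 16 0 4)
include hG

theorem card_away (z : V) : (away G z).card = 60 := by
  have h : away G z = (insert z (univ.filter (G.Adj z)))ᶜ := by
    ext v; simp [away, eq_comm]
  rw [h, card_compl, card_insert_of_notMem (by simp), card_C_self hG, hG.card]

theorem self_mem {z : V} {l : Finset V} (hl : l ∈ lines G z) : z ∈ l := by
  obtain ⟨w, -, rfl⟩ := mem_image.1 hl
  exact mem_line.2 (Or.inl rfl)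

theorem card_mem {z : V} {l : Finset V} (hl : l ∈ lines G z) : l.card = 5 := by
  obtain ⟨w, hw, rfl⟩ := mem_image.1 hl
  exact card_line hG (mem_away.1 hw)

theorem indep {z : V} {l : Finset V} (hl : l ∈ lines G z) {v : V} (hv : v ∈ l) : adjn G v l = 0 := by
  obtain ⟨w, hw, rfl⟩ := mem_image.1 hl
  refine adjn_eq_zero.2 fun a ha => ?_
  rcases eq_or_ne v a with rfl | hne
  · exact G.loopless.irrefl _
  · exact (line_far hG (mem_away.1 hw) hv ha hne).2

theorem line_of_mem {z : V} {l : Finset V} (hl : l ∈ lines G z) {v : V} (hv : v ∈ l) (hvz : v ≠ z) :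
    Far G z v ∧ line G z v = l := by
  obtain ⟨w, hw, rfl⟩ := mem_image.1 hl
  exact ⟨line_far hG (mem_away.1 hw) (mem_line.2 (Or.inl rfl)) hv hvz.symm,
    line_eq hG (mem_away.1 hw) (mem_line.2 (Or.inl rfl)) hv hvz.symm⟩

theorem line_mem {z w : V} (h : Far G z w) : line G z w ∈ lines G z :=
  mem_image_of_mem _ (mem_away.2 h)

theorem inter_lines {z : V} {l m : Finset V} (hl : l ∈ lines G z) (hm : m ∈ lines G z) (hne : l ≠ m) :
    l ∩ m = {z} := by
  refine (eq_singleton_iff_unique_mem).2 ⟨mem_inter.2 ⟨self_mem hG hl, self_mem hG hm⟩, fun v hv => ?_⟩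
  by_contra hvz
  obtain ⟨h1, h2⟩ := mem_inter.1 hv
  exact hne ((line_of_mem hG hl h1 hvz).2.symm.trans (line_of_mem hG hm h2 hvz).2)

theorem fibre {z : V} {l : Finset V} (hl : l ∈ lines G z) :
    (away G z).filter (fun v => line G z v = l) = l.erase z := by
  ext v
  simp only [mem_filter, mem_away, mem_erase]
  constructor
  · rintro ⟨hv, rfl⟩; exact ⟨hv.1.symm, mem_line.2 (Or.inr (Or.inl rfl))⟩
  · rintro ⟨hvz, hv⟩; exact line_of_mem hG hl hv hvz

theorem card_lines (z : V) : (lines G z).card = 15 := by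
  have h := card_eq_sum_card_image (line G z) (away G z)
  rw [card_away hG, sum_congr rfl (g := fun _ => 4) fun l hl => by
    rw [fibre hG hl, card_erase_of_mem (self_mem hG hl), card_mem hG hl], sum_const] at h
  simp only [smul_eq_mul] at h
  show ((away G z).image (line G z)).card = 15
  omega

/-- Far vertices whose triple with `z` has exactly one common neighbour. -/
theorem adjn_line {z w v : V} (hzw : Far G z w) (hzv : Far G z v) (hv : v ∉ line G z w) :
    (adjn G v (line G z w) = 0 ∨ adjn G v (line G z w) = 2) ∧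
      (adjn G v (line G z w) = 0 ↔ ¬ G.Adj v w ∧ ((C G z w).filter (G.Adj v)).card = 1) := by
  simp only [mem_line, not_or] at hv
  obtain ⟨hvz, hvw, hvL⟩ := hv
  have h1 := adjn_L hG hzw v
  have e1 : v ∉ C G z w := fun hm => hzv.2 (mem_C.1 hm).1
  have e2 : v ∉ ({z, w} : Finset V) := by simp [hvz, hvw]
  have hza : ¬ G.Adj v z := fun h => hzv.2 h.symm
  have e3 : adjn G v {z, w} = if G.Adj v w then 1 else 0 := by
    rw [adjn, filter_insert, if_neg hza, filter_singleton]
    split_ifs <;> simp
  have e4 : adjn G v (line G z w) = (if G.Adj v w then 1 else 0) + adjn G v (L G z w) := by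
    have hw : w ∉ L G z w := fun hm => (mem_L.1 hm).2.1.1 rfl
    rw [adjn, line, filter_insert, if_neg hza, filter_insert]
    split_ifs with h
    · rw [card_insert_of_notMem fun hm => hw (mem_filter.1 hm).1, adjn]; omega
    · rw [adjn]; omega
  rw [if_neg hvL, if_neg e1, if_neg e2, e3] at h1
  by_cases ha : G.Adj v w
  · have e5 : adjn G v (C G z w) = 0 := adjn_eq_zero.2 fun a hm =>
      no_tri hG ha.symm (mem_C.1 hm).2
    rw [if_pos ha, e5] at h1
    rw [if_pos ha] at e4
    norm_num at h1
    constructor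
    · omega
    · simp only [ha, not_true, false_and, iff_false]; omega
  · have hx2 := triple_le hG hzw hzv (⟨Ne.symm hvw, fun h => ha h.symm⟩ : Far G w v)
    have hx1 : ((C G z w).filter (G.Adj v)).card ≠ 0 := fun h0 => hvL (mem_L.2
      ⟨hzv, ⟨Ne.symm hvw, fun h => ha h.symm⟩, fun a p q r =>
        notMem_empty a (card_eq_zero.1 h0 ▸ mem_filter.2 ⟨mem_C.2 ⟨p, q⟩, r⟩)⟩)
    rw [if_neg ha] at h1
    rw [if_neg ha] at e4
    simp only [adjn] at h1 e4 ⊢
    push_cast at h1
    constructor
    · omega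
    · simp only [ha, not_false_eq_true, true_and]; omega

theorem adjn_out {z v : V} {l : Finset V} (hl : l ∈ lines G z) (hzv : Far G z v) (hv : v ∉ l) :
    adjn G v l = 0 ∨ adjn G v l = 2 := by
  obtain ⟨w, hw, rfl⟩ := mem_image.1 hl
  exact (adjn_line hG (mem_away.1 hw) hzv hv).1

theorem meets_symm {z v w : V} (hzw : Far G z w) (hzv : Far G z v) (hne : line G z v ≠ line G z w) :
    adjn G v (line G z w) = 0 ↔ adjn G w (line G z v) = 0 := by
  have h1 : v ∉ line G z w := fun hm => hne (line_of_mem hG (line_mem hG hzw) hm hzv.1.symm).2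
  have h2 : w ∉ line G z v := fun hm => hne (line_of_mem hG (line_mem hG hzv) hm hzw.1.symm).2.symm
  rw [(adjn_line hG hzw hzv h1).2, (adjn_line hG hzv hzw h2).2, G.adj_comm v w]
  have : (C G z w).filter (G.Adj v) = (C G z v).filter (G.Adj w) := by
    ext a; simp only [mem_filter, mem_C]; tauto
  rw [this]

theorem adjn_const {z v v' : V} {l m : Finset V} (hl : l ∈ lines G z) (hm : m ∈ lines G z)
    (hne : l ≠ m) (hv : v ∈ l) (hv' : v' ∈ l) (hvz : v ≠ z) (hvz' : v' ≠ z) :
    adjn G v m = 0 ↔ adjn G v' m = 0 := by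
  obtain ⟨w, hw, rfl⟩ := mem_image.1 hm
  obtain ⟨a1, a2⟩ := line_of_mem hG hl hv hvz
  obtain ⟨b1, b2⟩ := line_of_mem hG hl hv' hvz'
  rw [meets_symm hG (mem_away.1 hw) a1 (by rw [a2]; exact hne),
    meets_symm hG (mem_away.1 hw) b1 (by rw [b2]; exact hne), a2, b2]

theorem joined_iff {z : V} {l m : lines G z} {v : V} (hv : v ∈ (l : Finset V)) (hvz : v ≠ z) :
    Joined G z l m ↔ l ≠ m ∧ adjn G v (m : Finset V) = 2 := by
  constructor
  · rintro ⟨hne, u, hu, huz, hum⟩
    refine ⟨hne, ?_⟩
    have hout : v ∉ (m : Finset V) := fun hm => hvz (by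
      have := mem_inter.2 ⟨hv, hm⟩
      rwa [inter_lines hG l.2 m.2 (fun e => hne (Subtype.ext e)), mem_singleton] at this)
    rcases adjn_out hG m.2 (line_of_mem hG l.2 hv hvz).1 hout with h | h
    · exact absurd ((adjn_const hG l.2 m.2 (fun e => hne (Subtype.ext e)) hv hu hvz huz).1 h) hum
    · exact h
  · rintro ⟨hne, h2⟩
    exact ⟨hne, v, hv, hvz, by omega⟩

theorem out {z : V} {l m : lines G z} {v : V} (hv : v ∈ (l : Finset V)) (hvz : v ≠ z) (hne : l ≠ m) :
    v ∉ (m : Finset V) := fun hm => hvz (by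
  have := mem_inter.2 ⟨hv, hm⟩
  rwa [inter_lines hG l.2 m.2 (fun e => hne (Subtype.ext e)), mem_singleton] at this)

theorem exists_rep {z : V} (l : lines G z) : ∃ v ∈ (l : Finset V), v ≠ z := by
  obtain ⟨v, hv⟩ := card_pos.1 (show 0 < ((l : Finset V).erase z).card by
    rw [card_erase_of_mem (self_mem hG l.2), card_mem hG l.2]; norm_num)
  exact ⟨v, mem_of_mem_erase hv, ne_of_mem_erase hv⟩

theorem joined_symm {z : V} {l m : lines G z} (h : Joined G z l m) : Joined G z m l := by
  obtain ⟨hne, v, hv, hvz, hvm⟩ := h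
  obtain ⟨u, hu, huz⟩ := exists_rep hG m
  obtain ⟨a1, a2⟩ := line_of_mem hG l.2 hv hvz
  obtain ⟨b1, b2⟩ := line_of_mem hG m.2 hu huz
  refine ⟨hne.symm, u, hu, huz, fun h0 => hvm ?_⟩
  rw [← b2, meets_symm hG b1 a1 (by rw [a2, b2]; exact fun e => hne (Subtype.ext e)), a2]
  exact h0

theorem H_joined {z : V} {l : lines G z} {v : V} {m : lines G z} (hv : v ∈ (m : Finset V)) (hvz : v ≠ z) :
    H G (l : Finset V) v = if m = l then 32 else if Joined G z m l then -12 else 10 := by
  rw [H, card_mem hG l.2]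
  by_cases h1 : m = l
  · subst h1
    rw [if_pos rfl, if_pos hv, indep hG m.2 hv]; norm_num
  have hout := out hG hv hvz h1
  rw [if_neg h1, if_neg hout]
  by_cases h2 : Joined G z m l
  · rw [if_pos h2, ((joined_iff hG hv hvz).1 h2).2]; norm_num
  · rw [if_neg h2]
    rcases adjn_out hG l.2 (line_of_mem hG m.2 hv hvz).1 hout with e | e
    · rw [e]; norm_num
    · exact absurd ((joined_iff hG hv hvz).2 ⟨h1, e⟩) h2

theorem H_near {z : V} (l : lines G z) {a : V} (ha : G.Adj z a) : H G (l : Finset V) a = -12 := by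
  obtain ⟨w, hw, he⟩ := mem_image.1 l.2
  have hzw := mem_away.1 hw
  rw [H, card_mem hG l.2, ← he]
  have hal : a ∉ line G z w := fun hm =>
    (line_far hG hzw (mem_line.2 (Or.inl rfl)) hm ha.ne).2 ha
  have haL : a ∉ L G z w := fun hm => (mem_L.1 hm).1.2 ha
  have hap : a ∉ ({z, w} : Finset V) := by
    simp only [mem_insert, mem_singleton, not_or]; exact ⟨ha.ne', fun e => hzw.2 (e ▸ ha)⟩
  have e5 : adjn G a (C G z w) = 0 := adjn_eq_zero.2 fun c hc => no_tri hG ha (mem_C.1 hc).1
  have h1 := adjn_L hG hzw a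
  have hw' : w ∉ L G z w := fun hm => (mem_L.1 hm).2.1.1 rfl
  have hzi : z ∉ insert w ((L G z w).filter (G.Adj a)) := by
    simp only [mem_insert, mem_filter, not_or]; exact ⟨hzw.1, fun hm => (mem_L.1 hm.1).1.1 rfl⟩
  have hzi' : z ∉ (L G z w).filter (G.Adj a) := fun hm => hzi (mem_insert_of_mem hm)
  have e2 : adjn G a (line G z w) = 2 := by
    rw [e5, if_neg haL, if_neg hap] at h1
    rw [adjn, line, filter_insert, if_pos ha.symm, filter_insert]
    by_cases hwa : G.Adj a w
    · have e3 : adjn G a {z, w} = 2 := adjn_pair_C hG hzw (mem_C.2 ⟨ha, hwa.symm⟩)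
      rw [e3, if_pos (mem_C.2 ⟨ha, hwa.symm⟩ : a ∈ C G z w)] at h1
      rw [if_pos hwa, card_insert_of_notMem hzi,
        card_insert_of_notMem (fun hm => hw' (mem_filter.1 hm).1)]
      rw [adjn] at h1
      omega
    · have e3 : adjn G a {z, w} = 1 := by
        rw [adjn, filter_insert, if_pos ha.symm, filter_singleton, if_neg hwa]; rfl
      rw [e3, if_neg (fun hm => hwa (mem_C.1 hm).2.symm : a ∉ C G z w)] at h1
      rw [if_neg hwa, card_insert_of_notMem hzi']
      rw [adjn] at h1
      omega
  rw [e2, if_neg hal]; norm_num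

theorem H_self {z : V} (l : lines G z) : H G (l : Finset V) z = 32 := by
  rw [H, card_mem hG l.2, if_pos (self_mem hG l.2), indep hG l.2 (self_mem hG l.2)]; norm_num

theorem Q_self {z : V} (l : lines G z) : Q G (l : Finset V) (l : Finset V) = 160 := by
  rw [Q_of _ _ (card_mem hG l.2) (card_mem hG l.2) (by rw [inter_self, card_mem hG l.2])
    fun v hv => indep hG l.2 hv]
  norm_num

theorem Q_single {z : V} (l : lines G z) : Q G {z} (l : Finset V) = 32 := by
  rw [Q_of {z} _ (card_singleton z) (card_mem hG l.2)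
    (by rw [singleton_inter_of_mem (self_mem hG l.2), card_singleton]) (e := 0) fun v hv => ?_]
  · norm_num
  · rw [adjn_singleton, if_neg]
    exact adjn_eq_zero.1 (indep hG l.2 hv) z (self_mem hG l.2)

theorem Q_zz (z : V) : Q G {z} {z} = 24 := by
  rw [Q_of {z} {z} (card_singleton z) (card_singleton z) (by rw [inter_self, card_singleton]) (e := 0)
    fun v hv => by rw [mem_singleton.1 hv, adjn_singleton, if_neg (G.loopless.irrefl z)]]
  norm_num

theorem Q_joined {z : V} {l m : lines G z} (h : Joined G z l m) :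
    Q G (l : Finset V) (m : Finset V) = -16 := by
  rw [Q, ← add_sum_erase _ _ (self_mem hG m.2), H_self hG, sum_congr rfl (g := fun _ => (-12 : ℤ)),
    sum_const, card_erase_of_mem (self_mem hG m.2), card_mem hG m.2]
  · norm_num
  · intro v hv
    rw [H_joined hG (mem_of_mem_erase hv) (ne_of_mem_erase hv), if_neg h.1.symm, if_pos (joined_symm hG h)]

theorem third {z : V} {l m : lines G z} (h : Joined G z l m) :
    ∃ c, Joined G z l c ∧ Joined G z m c ∧ ∀ c', Joined G z l c' → Joined G z m c' → c' = c := by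
  set T := univ.filter fun c => Joined G z l c ∧ Joined G z m c with hT
  suffices T.card = 1 by
    obtain ⟨c, hc⟩ := card_eq_one.1 this
    have hm : ∀ c', (Joined G z l c' ∧ Joined G z m c') ↔ c' = c := fun c' => by
      have := Finset.ext_iff.1 hc c'
      simpa [hT] using this
    exact ⟨c, ((hm c).2 rfl).1, ((hm c).2 rfl).2, fun c' a b => (hm c').1 ⟨a, b⟩⟩
  set F : V → ℤ := fun v => 4 * H G {z} v + (-1) * H G (l : Finset V) v + (-1) * H G (m : Finset V) v with hF
  have hsq : ∑ v, F v ^ 2 = 14080 := by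
    rw [hF, combo hG, Q_zz hG, Q_self hG, Q_self hG, Q_single hG, Q_single hG, Q_joined hG h]
    norm_num
  have hlin : ∑ v, F v = 0 := by
    simp only [hF, sum_add_distrib, ← mul_sum, sum_H hG]; norm_num
  have hpt : ∀ v, (F v + 12) * (F v - 10) =
      968 * (if v = z then 1 else 0) + 968 * ∑ c ∈ T, (if v ∈ (c : Finset V).erase z then 1 else 0) := by
    intro v
    by_cases hvz : v = z
    · subst hvz
      simp only [hF, H_self hG]
      simp [H, adjn_singleton]
    by_cases hza : G.Adj z v
    · have h0 : ∀ c ∈ T, v ∉ (c : Finset V).erase z := fun c _ hm =>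
        adjn_eq_zero.1 (indep hG c.2 (mem_of_mem_erase hm)) z (self_mem hG c.2) hza.symm
      rw [sum_congr rfl (g := fun _ => (0 : ℤ)) fun c hc => by rw [if_neg (h0 c hc)]]
      simp only [hF, H_near hG _ hza]
      simp [H, adjn_singleton, hvz, hza.symm]
    have hzv : Far G z v := ⟨Ne.symm hvz, hza⟩
    let k : lines G z := ⟨line G z v, line_mem hG hzv⟩
    have hvk : v ∈ (k : Finset V) := mem_line.2 (Or.inr (Or.inl rfl))
    have hsum : ∑ c ∈ T, (if v ∈ (c : Finset V).erase z then (1 : ℤ) else 0) = if k ∈ T then 1 else 0 := by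
      rw [← sum_ite_eq T k fun _ => (1 : ℤ)]
      refine sum_congr rfl fun c _ => ?_
      congr 1
      refine propext ⟨fun hm => ?_, fun e => e ▸ mem_erase.2 ⟨hvz, hvk⟩⟩
      exact Subtype.ext (line_of_mem hG c.2 (mem_of_mem_erase hm) hvz).2
    have hvz' : ¬ G.Adj v z := fun e => hza e.symm
    have hz1 : H G {z} v = 2 := by simp [H, adjn_singleton, hvz, hvz']
    rw [hsum, if_neg hvz]
    simp only [hF, hz1, H_joined hG hvk hvz, hT, mem_filter, mem_univ, true_and]
    have hsymm : ∀ a b : lines G z, Joined G z a b ↔ Joined G z b a := fun a b =>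
      ⟨joined_symm hG, joined_symm hG⟩
    by_cases k1 : k = l
    · have : ¬ Joined G z l k := fun e => e.1 k1.symm
      simp only [k1] at this ⊢
      simp [this, h.1, h]
    by_cases k2 : k = m
    · have : ¬ Joined G z m k := fun e => e.1 k2.symm
      simp only [k2] at this ⊢
      simp [this, h.1.symm, joined_symm hG h]
    by_cases k3 : Joined G z k l <;> by_cases k4 : Joined G z k m <;>
      simp [k1, k2, k3, k4, hsymm l k, hsymm m k]
  have hs := sum_congr rfl fun v (_ : v ∈ (univ : Finset V)) => hpt v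
  simp only [sum_add_distrib, ← mul_sum, sum_ite_eq', mem_univ, if_true] at hs
  rw [Finset.sum_comm (s := (univ : Finset V)) (t := T),
    sum_congr rfl (g := fun _ => (4 : ℤ)) fun c (_ : c ∈ T) => by
    rw [sum_boole, filter_mem_eq_inter, univ_inter, card_erase_of_mem (self_mem hG c.2), card_mem hG c.2]
    norm_num, sum_const, nsmul_eq_mul] at hs
  have e : ∀ v, (F v + 12) * (F v - 10) = F v ^ 2 + 2 * F v - 120 := fun v => by ring
  simp only [e, sum_add_distrib, sum_sub_distrib, ← mul_sum, sum_const, card_univ, hG.card, hsq, hlin] at hs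
  norm_num at hs
  omega

theorem one {z : V} {a b c v : lines G z} (hab : Joined G z a b) (hac : Joined G z a c)
    (hbc : Joined G z b c) (ha : v ≠ a) (hb : v ≠ b) (hc : v ≠ c) :
    (Joined G z v a ∨ Joined G z v b ∨ Joined G z v c) ∧ ¬ (Joined G z v a ∧ Joined G z v b) ∧
      ¬ (Joined G z v a ∧ Joined G z v c) ∧ ¬ (Joined G z v b ∧ Joined G z v c) := by
  have hzero : ∑ x, (4 * H G {z} x + (-1) * H G (a : Finset V) x + (-1) * H G (b : Finset V) x
      - H G (c : Finset V) x) ^ 2 = 0 := by
    have e : ∀ x, (4 * H G {z} x + (-1) * H G (a : Finset V) x + (-1) * H G (b : Finset V) x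
        - H G (c : Finset V) x) ^ 2 =
        (4 * H G {z} x + (-1) * H G (a : Finset V) x + (-1) * H G (b : Finset V) x) ^ 2
          - 8 * (H G {z} x * H G (c : Finset V) x) + 2 * (H G (a : Finset V) x * H G (c : Finset V) x)
          + 2 * (H G (b : Finset V) x * H G (c : Finset V) x) + H G (c : Finset V) x * H G (c : Finset V) x :=
      fun x => by ring
    simp only [e, sum_add_distrib, sum_sub_distrib, ← mul_sum, combo hG, HH hG, Q_zz hG, Q_self hG,
      Q_single hG, Q_joined hG hab, Q_joined hG hac, Q_joined hG hbc]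
    norm_num
  obtain ⟨x, hx, hxz⟩ := exists_rep hG v
  have h0 := sq_eq_zero_iff.1 ((sum_eq_zero_iff_of_nonneg fun y _ => sq_nonneg _).1 hzero x (mem_univ x))
  have hz1 : H G {z} x = 2 := by
    have := (line_of_mem hG v.2 hx hxz).1
    have hxz' : ¬ G.Adj x z := fun e => this.2 e.symm
    simp [H, adjn_singleton, hxz, hxz']
  rw [hz1, H_joined hG hx hxz, H_joined hG hx hxz, H_joined hG hx hxz, if_neg ha, if_neg hb, if_neg hc] at h0
  by_cases p : Joined G z v a <;> by_cases q : Joined G z v b <;> by_cases r : Joined G z v c <;>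
    simp [p, q, r] at h0 ⊢

theorem far_count {z : V} (l : lines G z) :
    (univ.filter fun m : lines G z => m ≠ l ∧ ¬ Joined G z l m).card = 8 := by
  obtain ⟨w, hw, he⟩ := mem_image.1 l.2
  have hzw := mem_away.1 hw
  set S := univ.filter fun m : lines G z => m ≠ l ∧ ¬ Joined G z l m
  set T := univ.filter fun v => (z ≠ v ∧ ¬ G.Adj z v) ∧ (w ≠ v ∧ ¬ G.Adj w v) ∧
      ((C G z w).filter (G.Adj v)).card = 1
  have hT : T = S.biUnion fun m => (m : Finset V).erase z := by
    ext v
    simp only [T, S, mem_filter, mem_univ, true_and, mem_biUnion, mem_erase]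
    constructor
    · rintro ⟨hzv, hwv, h1⟩
      refine ⟨⟨line G z v, line_mem hG hzv⟩, ⟨?_, ?_⟩, Ne.symm hzv.1, mem_line.2 (Or.inr (Or.inl rfl))⟩
      all_goals
        have hout : v ∉ line G z w := by
          intro hm
          rcases mem_line.1 hm with h | h | h
          · exact hzv.1 h.symm
          · exact hwv.1 h.symm
          · have := (mem_L.1 h).2.2
            obtain ⟨a, ha⟩ := card_pos.1 (h1.symm ▸ Nat.one_pos :
              0 < ((C G z w).filter (G.Adj v)).card)
            obtain ⟨p, q⟩ := mem_filter.1 ha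
            exact this a (mem_C.1 p).1 (mem_C.1 p).2 q
        have h0 : adjn G v (line G z w) = 0 :=
          (adjn_line hG hzw hzv hout).2.2 ⟨fun h => hwv.2 h.symm, h1⟩
      · intro e
        have : line G z v = line G z w := by
          rw [he]; exact congrArg Subtype.val e
        exact hout (this ▸ mem_line.2 (Or.inr (Or.inl rfl)))
      · intro hj
        have := ((joined_iff hG (m := l) (mem_line.2 (Or.inr (Or.inl rfl))) (Ne.symm hzv.1)).1
          (joined_symm hG hj)).2
        rw [← he] at this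
        omega
    · rintro ⟨m, ⟨hml, hnj⟩, hvz, hvm⟩
      have hzv := (line_of_mem hG m.2 hvm hvz).1
      have hout : v ∉ line G z w := he ▸ out hG hvm hvz hml
      obtain ⟨hcases, hiff⟩ := adjn_line hG hzw hzv hout
      have h0 : adjn G v (line G z w) = 0 := hcases.resolve_right fun h2 =>
        hnj (joined_symm hG ((joined_iff hG hvm hvz).2 ⟨hml, he ▸ h2⟩))
      obtain ⟨h1, h2⟩ := hiff.1 h0
      exact ⟨hzv, ⟨fun e => hout (e ▸ mem_line.2 (Or.inr (Or.inl rfl))), fun h => h1 h.symm⟩, h2⟩
  have h32 : T.card = 32 := card_meet_one hG hzw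
  rw [hT, card_biUnion fun a _ b _ hab => disjoint_left.2 fun v hv hv' =>
      out hG (mem_of_mem_erase hv) (ne_of_mem_erase hv) hab (mem_of_mem_erase hv'),
    sum_congr rfl (g := fun _ => 4) fun m _ => by
      rw [card_erase_of_mem (self_mem hG m.2), card_mem hG m.2], sum_const] at h32
  simp only [smul_eq_mul] at h32
  omega

theorem isQuad (z : V) : QuadrangleTwo70.IsQuad (Joined G z) where
  symm _ _ := joined_symm hG
  irrefl _ h := h.1 rfl
  degree l := by
    have h1 := card_filter_add_card_filter_not (s := univ.erase l) (p := fun m => Joined G z l m)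
    rw [card_erase_of_mem (mem_univ l), card_univ, Fintype.card_coe, card_lines hG] at h1
    have e1 : (univ.erase l).filter (fun m => Joined G z l m) = univ.filter (Joined G z l) := by
      ext m
      simp only [mem_filter, mem_erase, mem_univ, and_true, true_and]
      exact ⟨fun h => h.2, fun h => ⟨h.1.symm, h⟩⟩
    have e2 : (univ.erase l).filter (fun m => ¬ Joined G z l m) =
        univ.filter fun m => m ≠ l ∧ ¬ Joined G z l m := by
      ext m; simp
    rw [e1, e2, far_count hG] at h1
    omega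
  far := far_count hG
  third _ _ := third hG
  one _ _ _ _ := one hG

end Cfsg.Agent.SrgSeventySevenLocal70
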