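import Cfsg.Agent.Lib.SteinerLarge70
import Cfsg.Agent.Lib.GolaySimple
import Cfsg.Prelude.Def_Sporadic

/-!
Isomorphism and automorphism groups of the systems S(5,8,24) and S(4,7,23).
-/

set_option autoImplicit false

namespace Cfsg.Agent.SteinerLargeAut70

open Cfsg Cfsg.Agent.SteinerLarge70 Finset
open scoped Pointwise

variable {α β : Type*} [Fintype α] [DecidableEq α] [Fintype β] [DecidableEq β]

theorem octads24 {B : Set (Finset α)} (hv : Fintype.card α = 24) (hB : IsSteinerSystem 5 8 B) :
    ∃ e : α ≃ GolayPt, (fun b => b.image e) '' B = octads := by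
  classical
  obtain ⟨e, he⟩ := standard24 (B := (Set.toFinite B).toFinset) hv (by simpa using hB)
  refine ⟨e, Set.ext fun o => ⟨?_, fun ho => ?_⟩⟩
  · rintro ⟨b, hb, rfl⟩
    exact (he b).1 (by simpa using hb)
  · refine ⟨o.image e.symm, ?_, ?_⟩
    · have : (o.image e.symm).image e = o := by
        rw [image_image, show (e : α → GolayPt) ∘ e.symm = id from funext e.apply_symm_apply, image_id]
      simpa using (he (o.image e.symm)).2 (by rw [this]; exact ho)
    · show (o.image e.symm).image e = o
      rw [image_image, show (e : α → GolayPt) ∘ e.symm = id from funext e.apply_symm_apply, image_id]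

theorem iso24 {B : Set (Finset α)} {B' : Set (Finset β)} (hα : Fintype.card α = 24)
    (hβ : Fintype.card β = 24) (hB : IsSteinerSystem 5 8 B) (hB' : IsSteinerSystem 5 8 B') :
    SetSystemIso B B' := by
  obtain ⟨e, he⟩ := octads24 hα hB
  obtain ⟨e', he'⟩ := octads24 hβ hB'
  refine ⟨e.trans e'.symm, ?_⟩
  have h1 : ((fun o : Finset GolayPt => o.image e'.symm) '' ((fun b => b.image e) '' B)) = B' := by
    rw [he, ← he', Set.image_image]
    simp [image_image]
  rw [Set.image_image] at h1
  convert h1 using 2
  rw [image_image]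
  rfl

theorem pretransitive_map {H : Subgroup (Equiv.Perm α)} {H' : Subgroup (Equiv.Perm β)} (e : α ≃ β)
    (hH : H.map e.permCongrHom.toMonoidHom = H') (n : ℕ)
    [h' : MulAction.IsMultiplyPretransitive H' β n] : MulAction.IsMultiplyPretransitive H α n := by
  rw [MulAction.isMultiplyPretransitive_iff] at h' ⊢
  intro x y
  obtain ⟨⟨g', hg'⟩, hg⟩ := h' (x := x.trans e.toEmbedding) (y := y.trans e.toEmbedding)
  rw [← hH, Subgroup.mem_map_equiv] at hg'
  refine ⟨⟨_, hg'⟩, DFunLike.ext _ _ fun i => e.injective ?_⟩
  have h2 := DFunLike.congr_fun hg i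
  change g' (e (x i)) = e (y i) at h2
  show e ((e.permCongrHom.symm g') (x i)) = e (y i)
  simpa [Equiv.permCongrHom] using h2

theorem aut24 {B : Set (Finset α)} (hv : Fintype.card α = 24) (hB : IsSteinerSystem 5 8 B) :
    IsM24 (setSystemAut B) ∧ MulAction.IsMultiplyPretransitive (setSystemAut B) α 5 := by
  classical
  obtain ⟨e, he⟩ := octads24 hv hB
  have hmap : (setSystemAut B).map e.permCongrHom.toMonoidHom = M24 := by
    rw [GolaySpan70.autEquiv e he, ← GolayPerm.M24_eq_setSystemAut_octads]
  have φ : setSystemAut B ≃* M24 :=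
    ((setSystemAut B).equivMapOfInjective _ e.permCongrHom.injective).trans
      (MulEquiv.subgroupCongr hmap)
  refine ⟨⟨?_, ?_⟩, ?_⟩
  · have := GolaySimple.isSimpleGroup_M24
    exact φ.isSimpleGroup
  · rw [Nat.card_congr φ.toEquiv, GolayM24.card_M24]
  · have : MulAction.IsMultiplyPretransitive M24 GolayPt 5 := by
      rw [MulAction.isMultiplyPretransitive_iff]
      intro x y
      obtain ⟨g, hg, h⟩ := GolayM24.exists_map_five_five x y x.injective y.injective
      exact ⟨⟨g, hg⟩, DFunLike.ext _ _ fun i => h i⟩
    exact pretransitive_map e hmap 5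

/-- The derived system as seen from the extra point. -/
theorem standard23' {B : Set (Finset α)} (hv : Fintype.card α = 23) (hB : IsSteinerSystem 4 7 B) :
    ∃ E : Option α ≃ GolayPt, E none = none ∧ (∀ b : Finset α, b ∈ B ↔ (ext1 b).image E ∈ octads) ∧
      ∀ g ∈ setSystemAut B, E.permCongr (Equiv.optionCongr g) ∈ M24 := by
  classical
  obtain ⟨E, h1, h2, h3⟩ := standard23 (B := (Set.toFinite B).toFinset) hv (by simpa using hB)
  exact ⟨E, h1, fun b => by simpa using h2 b, fun g hg => h3 g (by simpa using hg)⟩

theorem iso23 {B : Set (Finset α)} {B' : Set (Finset β)} (hα : Fintype.card α = 23)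
    (hβ : Fintype.card β = 23) (hB : IsSteinerSystem 4 7 B) (hB' : IsSteinerSystem 4 7 B') :
    SetSystemIso B B' := by
  obtain ⟨E, h0, hE, -⟩ := standard23' hα hB
  obtain ⟨E', h0', hE', -⟩ := standard23' hβ hB'
  have hnn : (E.trans E'.symm) none = none := by
    show E'.symm (E none) = none
    rw [h0, Equiv.symm_apply_eq, h0']
  refine ⟨Equiv.removeNone (E.trans E'.symm), ?_⟩
  set e := Equiv.removeNone (E.trans E'.symm)
  have hsome : ∀ a : α, E' (some (e a)) = E (some a) := by
    intro a
    have h1 := Equiv.removeNone_some (E.trans E'.symm) (x := a) (by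
      rcases h : (E.trans E'.symm) (some a) with _ | c
      · rw [← hnn] at h; exact absurd ((E.trans E'.symm).injective h) (by simp)
      · exact ⟨c, rfl⟩)
    rw [h1]
    exact E'.apply_symm_apply _
  have key : ∀ b : Finset α, (ext1 (b.image e)).image E' = (ext1 b).image E := by
    intro b
    ext z
    simp only [mem_image]
    constructor
    · rintro ⟨y, hy, rfl⟩
      cases y with
      | none => exact ⟨none, none_mem_ext1 b, by rw [h0, h0']⟩
      | some c =>
        obtain ⟨a, ha, rfl⟩ := mem_image.1 (some_mem_ext1.1 hy)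
        exact ⟨some a, some_mem_ext1.2 ha, (hsome a).symm⟩
    · rintro ⟨y, hy, rfl⟩
      cases y with
      | none => exact ⟨none, none_mem_ext1 _, by rw [h0, h0']⟩
      | some a => exact ⟨some (e a), some_mem_ext1.2 (mem_image_of_mem _ (some_mem_ext1.1 hy)), hsome a⟩
  ext c
  constructor
  · rintro ⟨b, hb, rfl⟩
    rw [hE', key]
    exact (hE b).1 hb
  · intro hc
    have hce : (c.image e.symm).image e = c := by
      rw [image_image, show (e : α → β) ∘ e.symm = id from funext e.apply_symm_apply, image_id]
    refine ⟨c.image e.symm, ?_, hce⟩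
    rw [hE, ← key, hce]
    exact (hE' c).1 hc

theorem aut23 {B : Set (Finset α)} (hv : Fintype.card α = 23) (hB : IsSteinerSystem 4 7 B) :
    IsM23 (setSystemAut B) ∧ MulAction.IsMultiplyPretransitive (setSystemAut B) α 4 := by
  classical
  obtain ⟨E, h0, hE, hM⟩ := standard23' hv hB
  let ψ : setSystemAut B →* Spor.M23 :=
    { toFun := fun g => ⟨E.permCongr (Equiv.optionCongr g.1), hM g.1 g.2, by
        refine MulAction.mem_stabilizer_iff.2 ?_
        rw [Equiv.Perm.smul_def, Equiv.permCongr_apply,
          show E.symm none = none from by rw [Equiv.symm_apply_eq, h0]]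
        simpa using h0⟩
      map_one' := by
        apply Subtype.ext
        ext x
        simp [Equiv.permCongr_def]
      map_mul' := fun a b => by
        apply Subtype.ext
        ext x
        simp only [Subgroup.coe_mul, Equiv.Perm.mul_apply, Equiv.permCongr_apply, Equiv.symm_apply_apply]
        cases E.symm x <;> simp }
  have hinj : Function.Injective ψ := by
    intro a b hab
    apply Subtype.ext
    ext x
    have h1 := congrArg (fun s : Spor.M23 => s.1 (E (some x))) hab
    simpa [ψ] using h1
  have hsurj : Function.Surjective ψ := by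
    rintro ⟨σ, hσ, hfix⟩
    have hfix : σ none = none := MulAction.mem_stabilizer_iff.1 hfix
    let τ : Equiv.Perm (Option α) := E.symm.permCongr σ
    have hτn : τ none = none := by
      simp only [τ, Equiv.permCongr_apply, Equiv.symm_symm]
      rw [h0, hfix, Equiv.symm_apply_eq, h0]
    have hτ : Equiv.optionCongr (Equiv.removeNone τ) = τ := by
      ext x : 1
      cases x with
      | none => simp [hτn]
      | some a =>
        rw [Equiv.optionCongr_apply, Option.map_some, Equiv.removeNone_some τ]
        rcases h : τ (some a) with _ | c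
        · rw [← hτn] at h; exact absurd (τ.injective h) (by simp)
        · exact ⟨c, rfl⟩
    have hperm : E.permCongr τ = σ := by
      ext x; simp [τ, Equiv.permCongr_def]
    have hmem : Equiv.removeNone τ ∈ setSystemAut B := by
      rw [MulAction.mem_stabilizer_iff]
      refine Set.eq_of_subset_of_ncard_le ?_ (by rw [Set.ncard_smul_set])
      rintro _ ⟨b, hb, rfl⟩
      rw [hE]
      have h2 : (ext1 (Equiv.removeNone τ • b)).image E = σ • ((ext1 b).image E) := by
        rw [Finset.smul_finset_def, Finset.smul_finset_def, image_image]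
        ext z
        simp only [mem_image, Function.comp, Equiv.Perm.smul_def]
        constructor
        · rintro ⟨y, hy, rfl⟩
          cases y with
          | none => exact ⟨none, none_mem_ext1 b, by rw [h0, hfix]⟩
          | some c =>
            obtain ⟨a, ha, rfl⟩ := mem_image.1 (some_mem_ext1.1 hy)
            refine ⟨some a, some_mem_ext1.2 ha, ?_⟩
            rw [← hperm, Equiv.permCongr_apply, Equiv.symm_apply_apply]
            conv_lhs => rw [← hτ]
            rfl
        · rintro ⟨y, hy, rfl⟩
          cases y with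
          | none => exact ⟨none, none_mem_ext1 _, by rw [h0, hfix]⟩
          | some a =>
            refine ⟨some (Equiv.removeNone τ a), some_mem_ext1.2
              (mem_image.2 ⟨a, some_mem_ext1.1 hy, rfl⟩), ?_⟩
            rw [← hperm, Equiv.permCongr_apply, Equiv.symm_apply_apply]
            conv_rhs => rw [← hτ]
            rfl
      show (ext1 (Equiv.removeNone τ • b)).image E ∈ octads
      rw [h2]
      exact GolayPerm.smul_mem_octads hσ ((hE b).1 hb)
    refine ⟨⟨_, hmem⟩, Subtype.ext ?_⟩
    show E.permCongr (Equiv.optionCongr (Equiv.removeNone τ)) = σ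
    rw [hτ, hperm]
  have φ := MulEquiv.ofBijective ψ ⟨hinj, hsurj⟩
  refine ⟨⟨?_, ?_⟩, ?_⟩
  · have := GolaySimple.isSimpleGroup_M23
    exact φ.isSimpleGroup
  · rw [Nat.card_congr φ.toEquiv, GolayM24.card_M23]
  · rw [MulAction.isMultiplyPretransitive_iff]
    intro x y
    let x5 : Fin 5 → GolayPt := Fin.cons none fun i => E (some (x i))
    let y5 : Fin 5 → GolayPt := Fin.cons none fun i => E (some (y i))
    have hinj5 : ∀ z : Fin 4 ↪ α, Function.Injective (Fin.cons none fun i => E (some (z i)) : Fin 5 → GolayPt) := by
      intro z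
      rw [Fin.cons_injective_iff]
      refine ⟨?_, fun a b h => z.injective (Option.some.inj (E.injective h))⟩
      rintro ⟨i, hi⟩
      exact absurd (E.injective (hi.trans h0.symm)) (by simp)
    obtain ⟨σ, hσ, hxy⟩ := GolayM24.exists_map_five_five x5 y5 (hinj5 x) (hinj5 y)
    obtain ⟨g, hg⟩ := hsurj ⟨σ, hσ, MulAction.mem_stabilizer_iff.2 (hxy 0)⟩
    refine ⟨g, DFunLike.ext _ _ fun i => ?_⟩
    have h1 : E.permCongr (Equiv.optionCongr g.1) = σ := congrArg Subtype.val hg
    have h2 : σ (E (some (x i))) = E (some (y i)) := hxy i.succ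
    rw [← h1, Equiv.permCongr_apply, Equiv.symm_apply_apply] at h2
    exact Option.some.inj (E.injective h2)

end Cfsg.Agent.SteinerLargeAut70
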