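import Cfsg.Agent.Lib.SteinerTwoPoint70
import Cfsg.Agent.Lib.SteinerLargeAut70

/-!
Isomorphism and automorphism group of the system S(3,6,22).
-/

set_option autoImplicit false

namespace Cfsg.Agent.SteinerTwoPointAut70

open Cfsg Cfsg.Agent.SteinerTwoPoint70 Finset
open scoped Pointwise

variable {α β : Type*} [Fintype α] [DecidableEq α] [Fintype β] [DecidableEq β]

/-- The pair of fixed points. -/
def pair : Finset GolayPt := {none, some 0}

theorem mem_pair {p : GolayPt} : p ∈ pair ↔ p = none ∨ p = some 0 := by simp [pair]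

theorem apply_mem_pair {σ : Equiv.Perm GolayPt} (h : σ • pair = pair) {p : GolayPt} :
    σ p ∈ pair ↔ p ∈ pair := by
  constructor
  · intro hp
    rw [← h] at hp
    exact (Finset.smul_mem_smul_finset_iff σ).1 hp
  · intro hp
    rw [← h]
    exact Finset.smul_mem_smul_finset hp

theorem not_mem_pair_iff (E : Option (Option α) ≃ GolayPt) (h0 : E none = none)
    (h1 : E (some none) = some 0) {p : GolayPt} :
    p ∉ pair ↔ ∃ a : α, E (some (some a)) = p := by
  constructor
  · intro hp
    obtain ⟨y, rfl⟩ := E.surjective p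
    rcases y with _ | _ | a
    · exact absurd (mem_pair.2 (Or.inl h0)) hp
    · exact absurd (mem_pair.2 (Or.inr h1)) hp
    · exact ⟨a, rfl⟩
  · rintro ⟨a, rfl⟩ hp
    rcases mem_pair.1 hp with h | h
    · rw [← h0] at h; simpa using E.injective h
    · rw [← h1] at h; simpa using E.injective h

theorem image_ext2 (E : Option (Option α) ≃ GolayPt) (h0 : E none = none)
    (h1 : E (some none) = some 0) (b : Finset α) :
    (ext2 b).image E = pair ∪ b.image fun a => E (some (some a)) := by
  ext p
  simp only [mem_union, mem_image, mem_pair]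
  constructor
  · rintro ⟨y, hy, rfl⟩
    rcases y with _ | _ | a
    · exact Or.inl (Or.inl h0)
    · exact Or.inl (Or.inr h1)
    · exact Or.inr ⟨a, mem_ext2.1 hy, rfl⟩
  · rintro ((rfl | rfl) | ⟨a, ha, rfl⟩)
    · exact ⟨none, none_mem_ext2 b, h0⟩
    · exact ⟨some none, some_none_mem_ext2 b, h1⟩
    · exact ⟨_, mem_ext2.2 ha, rfl⟩

theorem exists_res (E : Option (Option α) ≃ GolayPt) (h0 : E none = none)
    (h1 : E (some none) = some 0) (E' : Option (Option β) ≃ GolayPt) (h0' : E' none = none)
    (h1' : E' (some none) = some 0) {σ : Equiv.Perm GolayPt} (hσ : σ • pair = pair) :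
    ∃ e : α ≃ β, (∀ a, E' (some (some (e a))) = σ (E (some (some a)))) ∧
      ∀ b : Finset α, (ext2 (b.image e)).image E' = σ • (ext2 b).image E := by
  have key : ∀ a : α, ∃ c : β, E' (some (some c)) = σ (E (some (some a))) := fun a =>
    (not_mem_pair_iff E' h0' h1').1 fun h =>
      (not_mem_pair_iff E h0 h1).2 ⟨a, rfl⟩ ((apply_mem_pair hσ).1 h)
  choose f hf using key
  have hc : Fintype.card α = Fintype.card β := by
    have := (Fintype.card_congr E).trans (Fintype.card_congr E').symm
    simpa using this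
  have hinj : Function.Injective f := fun a b h => by
    have := hf a
    rw [h, hf b] at this
    simpa using E.injective (σ.injective this.symm)
  refine ⟨Equiv.ofBijective f ((Fintype.bijective_iff_injective_and_card f).2 ⟨hinj, hc⟩), hf,
    fun b => ?_⟩
  rw [image_ext2 E h0 h1, image_ext2 E' h0' h1', smul_finset_union, hσ, smul_finset_def,
    image_image, image_image]
  exact congrArg _ (image_congr fun a _ => hf a)

theorem standard22' {B : Set (Finset α)} (hv : Fintype.card α = 22) (hB : IsSteinerSystem 3 6 B) :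
    ∃ E : Option (Option α) ≃ GolayPt, E none = none ∧ E (some none) = some 0 ∧
      (∀ b : Finset α, b ∈ B ↔ (ext2 b).image E ∈ octads) ∧
      ∀ g ∈ setSystemAut B, ∃ σ ∈ M24, ∀ a : α, σ (E (some (some a))) = E (some (some (g a))) := by
  classical
  obtain ⟨E, h1, h2, h3, h4⟩ :=
    standard22 (B := (Set.toFinite B).toFinset) hv (by simpa using hB)
  exact ⟨E, h1, h2, fun b => by simpa using h3 b, fun g hg => h4 g (by simpa using hg)⟩

theorem iso22 {B : Set (Finset α)} {B' : Set (Finset β)} (hα : Fintype.card α = 22)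
    (hβ : Fintype.card β = 22) (hB : IsSteinerSystem 3 6 B) (hB' : IsSteinerSystem 3 6 B') :
    SetSystemIso B B' := by
  obtain ⟨E, h0, h1, hE, -⟩ := standard22' hα hB
  obtain ⟨E', h0', h1', hE', -⟩ := standard22' hβ hB'
  obtain ⟨e, -, he⟩ := exists_res E h0 h1 E' h0' h1' (σ := 1) (one_smul _ _)
  refine ⟨e, Set.ext fun c => ⟨?_, fun hc => ⟨c.image e.symm, ?_, ?_⟩⟩⟩
  · rintro ⟨b, hb, rfl⟩
    rw [hE', he, one_smul]
    exact (hE b).1 hb
  · rw [hE, ← one_smul (Equiv.Perm GolayPt) ((ext2 (c.image e.symm)).image E), ← he, image_image,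
      show (e : α → β) ∘ e.symm = id from funext e.apply_symm_apply, image_id]
    exact (hE' c).1 hc
  · show (c.image e.symm).image e = c
    rw [image_image, show (e : α → β) ∘ e.symm = id from funext e.apply_symm_apply, image_id]

/-- The setwise stabiliser of the pair. -/
def K22 : Subgroup (Equiv.Perm GolayPt) :=
  M24 ⊓ MulAction.stabilizer (Equiv.Perm GolayPt) pair

theorem M22_eq_inf : Spor.M22 = K22 ⊓ MulAction.stabilizer (Equiv.Perm GolayPt) (none : GolayPt) := by
  ext g
  simp only [Spor.M22, Spor.M23, K22, Subgroup.mem_inf, MulAction.mem_stabilizer_iff,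
    Equiv.Perm.smul_def]
  constructor
  · rintro ⟨⟨hg, h0⟩, h1⟩
    refine ⟨⟨hg, ?_⟩, h0⟩
    simp [pair, smul_finset_def, h0, h1]
  · rintro ⟨⟨hg, hp⟩, h0⟩
    refine ⟨⟨hg, h0⟩, ?_⟩
    rcases mem_pair.1 ((apply_mem_pair hp).2 (mem_pair.2 (Or.inr rfl))) with h | h
    · exact absurd (g.injective (h.trans h0.symm)) (by decide)
    · exact h

theorem card_K22 : Nat.card K22 = 887040 := by
  have key : ∀ g ∈ K22, g none ∈ pair := fun g hg =>
    (apply_mem_pair (MulAction.mem_stabilizer_iff.1 hg.2)).2 (mem_pair.2 (Or.inl rfl))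
  rw [GolayPerm.card_eq_card_mul K22 none pair key, ← M22_eq_inf, GolayM24.card_M22]
  · rfl
  · intro y hy
    rcases mem_pair.1 hy with rfl | rfl
    · exact ⟨1, one_mem _, rfl⟩
    · obtain ⟨g, hg, h⟩ := GolayM24.exists_map_five_five
        ![none, some 0, some 1, some 2, some 3] ![some 0, none, some 1, some 2, some 3]
        (by decide) (by decide)
      have e0 : g none = some 0 := h 0
      have e1 : g (some 0) = none := h 1
      refine ⟨g, ⟨hg, MulAction.mem_stabilizer_iff.2 ?_⟩, e0⟩
      simp [pair, smul_finset_def, e0, e1, pair_comm]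

theorem swap_not_mem_M24 : Equiv.swap (none : GolayPt) (some 0) ∉ M24 := by
  intro h
  obtain ⟨g, hg, hgx⟩ := GolayM24.exists_map_five_five
    ![none, some 0, some 1, some 2, some 3]
    ![GolayBasic.pt 2, GolayBasic.pt 3, GolayBasic.pt 4, GolayBasic.pt 5, GolayBasic.pt 6]
    (by decide) (by decide +kernel)
  have e0 : g none = GolayBasic.pt 2 := hgx 0
  have e1 : g (some 0) = GolayBasic.pt 3 := hgx 1
  have hm := mul_mem (mul_mem hg h) (inv_mem hg)
  rw [← Equiv.swap_apply_apply, e0, e1] at hm
  have hbot : Equiv.swap (GolayBasic.pt 2) (GolayBasic.pt 3) ∈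
      GolayPerm.fixList M24 [23, 0, 12, 14, 16, 17, 1] := by
    simp only [GolayPerm.mem_fixList]
    refine ⟨hm, fun a ha => ?_⟩
    fin_cases ha <;> decide +kernel
  rw [GolayM24.fixList_base_eq_bot, Subgroup.mem_bot] at hbot
  have := congrArg (fun s : Equiv.Perm GolayPt => s (GolayBasic.pt 2)) hbot
  simp only [Equiv.swap_apply_left, Equiv.Perm.one_apply] at this
  revert this
  decide +kernel

theorem res_injective (E : Option (Option α) ≃ GolayPt) (h0 : E none = none)
    (h1 : E (some none) = some 0) {σ : Equiv.Perm GolayPt} (hσ : σ ∈ K22)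
    (hfix : ∀ a : α, σ (E (some (some a))) = E (some (some a))) : σ = 1 := by
  have hp := MulAction.mem_stabilizer_iff.1 hσ.2
  have hout : ∀ p : GolayPt, p ∉ pair → σ p = p := fun p hq => by
    obtain ⟨a, rfl⟩ := (not_mem_pair_iff E h0 h1).1 hq
    exact hfix a
  have hn : σ none = none := by
    rcases mem_pair.1 ((apply_mem_pair hp).2 (mem_pair.2 (Or.inl rfl))) with h | h
    · exact h
    refine absurd hσ.1 ?_
    have : σ = Equiv.swap (none : GolayPt) (some 0) := by
      ext1 p
      by_cases hq : p ∈ pair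
      · rcases mem_pair.1 hq with rfl | rfl
        · rw [Equiv.swap_apply_left, h]
        · rw [Equiv.swap_apply_right]
          rcases mem_pair.1 ((apply_mem_pair hp).2 hq) with h' | h'
          · exact h'
          · exact absurd (σ.injective (h'.trans h.symm)) (by decide)
      · rw [hout p hq]
        rw [mem_pair, not_or] at hq
        rw [Equiv.swap_apply_of_ne_of_ne hq.1 hq.2]
    rw [this]
    exact swap_not_mem_M24
  ext1 p
  by_cases hq : p ∈ pair
  · rcases mem_pair.1 hq with rfl | rfl
    · exact hn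
    · rcases mem_pair.1 ((apply_mem_pair hp).2 hq) with h' | h'
      · exact absurd (σ.injective (h'.trans hn.symm)) (by decide)
      · exact h'
  · exact hout p hq

theorem aut22 {B : Set (Finset α)} (hv : Fintype.card α = 22) (hB : IsSteinerSystem 3 6 B) :
    Nat.card (setSystemAut B) = 887040 ∧ MulAction.IsMultiplyPretransitive (setSystemAut B) α 3 ∧
      ∃ H : Subgroup (setSystemAut B), H.index = 2 ∧ IsM22 H := by
  classical
  obtain ⟨E, h0, h1, hE, hext⟩ := standard22' hv hB
  have hres : ∀ σ : K22, ∃ g : setSystemAut B,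
      ∀ a, E (some (some (g.1 a))) = σ.1 (E (some (some a))) := by
    rintro ⟨σ, hσ, hp⟩
    obtain ⟨e, he, hi⟩ := exists_res E h0 h1 E h0 h1 (MulAction.mem_stabilizer_iff.1 hp)
    refine ⟨⟨e, ?_⟩, he⟩
    rw [setSystemAut, MulAction.mem_stabilizer_iff]
    refine Set.eq_of_subset_of_ncard_le ?_ (by rw [Set.ncard_smul_set])
    rintro _ ⟨b, hb, rfl⟩
    rw [hE]
    show (ext2 (e • b)).image E ∈ octads
    rw [show e • b = b.image e from rfl, hi]
    exact GolayPerm.smul_mem_octads hσ ((hE b).1 hb)
  choose φ hφ using hres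
  have hι : Function.Injective fun a : α => E (some (some a)) := fun a b h => by
    simpa using E.injective h
  let ψ : K22 →* setSystemAut B :=
    { toFun := φ
      map_one' := Subtype.ext <| Equiv.ext fun a => hι <| by
        simp only [OneMemClass.coe_one, Equiv.Perm.one_apply, hφ]
      map_mul' := fun s t => Subtype.ext <| Equiv.ext fun a => hι <| by
        simp only [Subgroup.coe_mul, Equiv.Perm.mul_apply, hφ] }
  have hinj : Function.Injective ψ := by
    rw [injective_iff_map_eq_one]
    intro s hs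
    refine Subtype.ext (res_injective E h0 h1 s.2 fun a => ?_)
    rw [← hφ s a]
    have : φ s = 1 := hs
    rw [this]
    rfl
  have hsurj : Function.Surjective ψ := by
    intro g
    obtain ⟨σ, hσ, h⟩ := hext g.1 g.2
    have hp : σ • pair = pair := by
      refine eq_of_subset_of_card_le (fun p hp => ?_) (by rw [card_smul_finset])
      obtain ⟨q, hq, rfl⟩ := mem_smul_finset.1 hp
      by_contra hn
      obtain ⟨a, ha⟩ := (not_mem_pair_iff E h0 h1).1 hn
      have ha' : E (some (some a)) = σ q := ha
      rw [← g.1.apply_symm_apply a, ← h] at ha'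
      exact (not_mem_pair_iff E h0 h1).2 ⟨_, σ.injective ha'⟩ hq
    refine ⟨⟨σ, hσ, MulAction.mem_stabilizer_iff.2 hp⟩, Subtype.ext <| Equiv.ext fun a => hι ?_⟩
    show E (some (some ((φ _).1 a))) = _
    rw [hφ]
    exact h a
  let Φ : K22 ≃* setSystemAut B := MulEquiv.ofBijective ψ ⟨hinj, hsurj⟩
  have hcard : Nat.card (setSystemAut B) = 887040 := by
    rw [← Nat.card_congr Φ.toEquiv, card_K22]
  refine ⟨hcard, ?_, ?_⟩
  · rw [MulAction.isMultiplyPretransitive_iff]
    intro x y
    let z : (Fin 3 ↪ α) → Fin 5 → GolayPt := fun w =>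
      Fin.cons none (Fin.cons (some 0) fun i => E (some (some (w i))))
    have hz : ∀ w, Function.Injective (z w) := fun w => by
      simp only [z, Fin.cons_injective_iff, Fin.range_cons, Set.mem_insert_iff, Set.mem_range, not_or]
      refine ⟨⟨by decide, ?_⟩, ?_, fun a b h => w.injective (hι h)⟩ <;> rintro ⟨i, hi⟩ <;>
        exact (not_mem_pair_iff E h0 h1).2 ⟨_, hi⟩ (by decide)
    obtain ⟨σ, hσ, h⟩ := GolayM24.exists_map_five_five (z x) (z y) (hz x) (hz y)
    have e0 : σ none = none := h 0
    have e1 : σ (some 0) = some 0 := h 1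
    have hK : σ ∈ K22 := ⟨hσ, MulAction.mem_stabilizer_iff.2 (by simp [pair, smul_finset_def, e0, e1])⟩
    refine ⟨φ ⟨σ, hK⟩, DFunLike.ext _ _ fun i => hι ?_⟩
    show E (some (some ((φ ⟨σ, hK⟩).1 (x i)))) = _
    rw [hφ]
    exact h i.succ.succ
  · have hle : Spor.M22 ≤ K22 := by rw [M22_eq_inf]; exact inf_le_left
    have e : Spor.M22 ≃* (Spor.M22.subgroupOf K22).map Φ.toMonoidHom :=
      (Subgroup.subgroupOfEquivOfLe hle).symm.trans
        (Subgroup.equivMapOfInjective _ _ Φ.injective)
    refine ⟨(Spor.M22.subgroupOf K22).map Φ.toMonoidHom, ?_, ?_, ?_⟩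
    · have h2 := ((Spor.M22.subgroupOf K22).map Φ.toMonoidHom).card_mul_index
      rw [hcard, ← Nat.card_congr e.toEquiv, GolayM24.card_M22] at h2
      omega
    · have := GolaySimple.isSimpleGroup_M22
      exact e.symm.isSimpleGroup
    · rw [← Nat.card_congr e.toEquiv, GolayM24.card_M22]

end Cfsg.Agent.SteinerTwoPointAut70
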