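import Cfsg.Agent.Lib.SrgSeventySevenLocal70
import Cfsg.Agent.Lib.SteinerTwoPointAut70

/-!
A strongly regular graph with parameters (77, 16, 0, 4) is the block graph of an S(3,6,22).
-/

set_option autoImplicit false

namespace Cfsg.Agent.SrgSeventySevenRecon70

open Cfsg Finset Cfsg.Agent.SrgSeventySevenGram70 Cfsg.Agent.SrgSeventySevenLines70
open Cfsg.Agent.SrgSeventySevenLocal70

variable {V : Type*} [Fintype V] [DecidableEq V] {G : SimpleGraph V} [DecidableRel G.Adj]

/-- The cocliques of maximal size. -/
def cocliques (G : SimpleGraph V) [DecidableRel G.Adj] : Finset (Finset V) :=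
  ((univ : Finset V).powersetCard 21).filter fun S => ∀ v ∈ S, adjn G v S = 0

theorem mem_cocliques {S : Finset V} :
    S ∈ cocliques G ↔ S.card = 21 ∧ ∀ v ∈ S, adjn G v S = 0 := by simp [cocliques, mem_powersetCard]

variable (hG : G.IsSRGWith 77 16 0 4)
include hG

theorem H_coclique {S : Finset V} (hS : S ∈ cocliques G) (v : V) :
    H G S v = if v ∈ S then 64 else -24 := by
  obtain ⟨h21, hind⟩ := mem_cocliques.1 hS
  have hin : ∀ v ∈ S, H G S v = 64 := fun v hv => by rw [H, h21, if_pos hv, hind v hv]; norm_num
  have hQ : Q G S S = 1344 := by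
    rw [Q, sum_congr rfl (g := fun _ => (64 : ℤ)) hin, sum_const, h21]; norm_num
  have h0 : ∑ w ∈ univ \ S, (H G S w + 24) ^ 2 = 0 := by
    have hall : ∑ w, (H G S w + 24) ^ 2 = 88 * Q G S S + 576 * 77 := by
      have e : ∀ w, (H G S w + 24) ^ 2 = H G S w * H G S w + 48 * H G S w + 576 := fun w => by ring
      simp only [e, sum_add_distrib, ← mul_sum, HH hG, sum_H hG, sum_const, card_univ, hG.card]
      norm_num
    rw [← sum_sdiff (subset_univ S), sum_congr rfl (s₁ := S) (g := fun _ => (7744 : ℤ))
      fun w hw => by rw [hin w hw]; norm_num, sum_const, h21, hQ] at hall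
    rw [nsmul_eq_mul] at hall
    push_cast at hall
    linarith
  split_ifs with hv
  · exact hin v hv
  · have := sq_eq_zero_iff.1 ((sum_eq_zero_iff_of_nonneg fun w _ => sq_nonneg _).1 h0 v
      (mem_sdiff.2 ⟨mem_univ v, hv⟩))
    linarith

theorem line_subset {S : Finset V} (hS : S ∈ cocliques G) {z w : V} (hz : z ∈ S) (hw : w ∈ S)
    (h : Far G z w) : line G z w ⊆ S := by
  obtain ⟨-, hind⟩ := mem_cocliques.1 hS
  have hsum : ∑ v ∈ L G z w, H G S v = 192 := by
    show Q G S (L G z w) = 192
    have h0 : ∑ v, H G S v * (H G (L G z w) v - 3 * H G {z, w} v - 2 * H G (C G z w) v) = 0 :=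
      sum_eq_zero fun v _ => by rw [(ident hG h).2 v, mul_zero]
    simp only [mul_sub, mul_left_comm (H G S _), sum_sub_distrib, ← mul_sum, HH hG] at h0
    have e1 : Q G S {z, w} = 128 := by
      rw [Q, sum_pair h.1, H_coclique hG hS, H_coclique hG hS, if_pos hz, if_pos hw]; norm_num
    have e2 : Q G S (C G z w) = -96 := by
      rw [Q, sum_congr rfl (g := fun _ => (-24 : ℤ)) fun a ha => by
        rw [H_coclique hG hS, if_neg fun hm => adjn_eq_zero.1 (hind z hz) a hm (mem_C.1 ha).1],
        sum_const, card_C hG h]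
      norm_num
    rw [e1, e2] at h0
    linarith
  intro v hv
  rcases mem_line.1 hv with rfl | rfl | hv
  · exact hz
  · exact hw
  · by_contra hvS
    rw [← add_sum_erase _ _ hv] at hsum
    have hle : ∑ u ∈ (L G z w).erase v, H G S u ≤ 128 := by
      refine (sum_le_card_nsmul _ _ 64 fun u _ => ?_).trans ?_
      · rw [H_coclique hG hS]; split_ifs <;> norm_num
      · rw [card_erase_of_mem hv, card_L hG h]; norm_num
    rw [H_coclique hG hS, if_neg hvS] at hsum
    linarith

/-- The union of a set of lines. -/
def union {z : V} (O : Finset (lines G z)) : Finset V :=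
  insert z (O.biUnion fun l => (l : Finset V).erase z)

omit hG in
theorem mem_union' {z : V} {O : Finset (lines G z)} {v : V} :
    v ∈ union O ↔ v = z ∨ ∃ l ∈ O, v ≠ z ∧ v ∈ (l : Finset V) := by simp [union]

theorem line_mem_iff {z : V} (O : Finset (lines G z)) (l : lines G z) :
    l ∈ O ↔ (l : Finset V) ⊆ union O := by
  constructor
  · intro hl v hv
    by_cases hvz : v = z
    · exact mem_union'.2 (Or.inl hvz)
    · exact mem_union'.2 (Or.inr ⟨l, hl, hvz, hv⟩)
  · intro h
    obtain ⟨v, hv, hvz⟩ := exists_rep hG l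
    obtain ⟨m, hm, -, hvm⟩ := (mem_union'.1 (h hv)).resolve_left hvz
    by_contra hl
    exact out hG hv hvz (fun e : l = m => hl (e ▸ hm)) hvm

theorem ovoids_image (z : V) :
    (cocliques G).filter (fun S => z ∈ S) = (QuadrangleTwo70.ovoids (Joined G z)).image union := by
  ext S
  simp only [mem_filter, mem_image]
  constructor
  · rintro ⟨hS, hzS⟩
    obtain ⟨h21, hind⟩ := mem_cocliques.1 hS
    set O := univ.filter fun l : lines G z => (l : Finset V) ⊆ S with hO
    have hu : union O = S := by
      ext v
      rw [mem_union']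
      constructor
      · rintro (rfl | ⟨l, hl, -, hv⟩)
        · exact hzS
        · exact (mem_filter.1 hl).2 hv
      · intro hv
        by_cases hvz : v = z
        · exact Or.inl hvz
        · have hzv : Far G z v := ⟨Ne.symm hvz, fun e => adjn_eq_zero.1 (hind z hzS) v hv e⟩
          exact Or.inr ⟨⟨line G z v, line_mem hG hzv⟩,
            mem_filter.2 ⟨mem_univ _, line_subset hG hS hzS hv hzv⟩, hvz, mem_line.2 (Or.inr (Or.inl rfl))⟩
    refine ⟨O, QuadrangleTwo70.mem_ovoids.2 ⟨?_, ?_⟩, hu⟩
    · have hc := congrArg Finset.card hu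
      rw [union, card_insert_of_notMem (by simp), card_biUnion fun a _ b _ hab =>
          disjoint_left.2 fun v hv hv' =>
            out hG (mem_of_mem_erase hv) (ne_of_mem_erase hv) hab (mem_of_mem_erase hv'),
        sum_congr rfl (g := fun _ => 4) fun l _ => by
          rw [card_erase_of_mem (self_mem hG l.2), card_mem hG l.2], sum_const, h21] at hc
      simp only [smul_eq_mul] at hc
      omega
    · intro a ha b hb hj
      obtain ⟨-, v, hv, -, hne⟩ := hj
      exact hne (adjn_eq_zero.2 fun u hu' => adjn_eq_zero.1 (hind v ((mem_filter.1 ha).2 hv)) u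
        ((mem_filter.1 hb).2 hu'))
  · rintro ⟨O, hO, rfl⟩
    obtain ⟨h5, hfree⟩ := QuadrangleTwo70.mem_ovoids.1 hO
    refine ⟨mem_cocliques.2 ⟨?_, ?_⟩, mem_union'.2 (Or.inl rfl)⟩
    · rw [union, card_insert_of_notMem (by simp), card_biUnion fun a _ b _ hab =>
          disjoint_left.2 fun v hv hv' =>
            out hG (mem_of_mem_erase hv) (ne_of_mem_erase hv) hab (mem_of_mem_erase hv'),
        sum_congr rfl (g := fun _ => 4) fun l _ => by
          rw [card_erase_of_mem (self_mem hG l.2), card_mem hG l.2], sum_const, h5]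
      norm_num
    · intro v hv
      refine adjn_eq_zero.2 fun u hu => ?_
      rcases mem_union'.1 hv with rfl | ⟨a, ha, hvz, hva⟩ <;>
        rcases mem_union'.1 hu with rfl | ⟨b, hb, huz, hub⟩
      · exact G.loopless.irrefl _
      · exact (line_of_mem hG b.2 hub huz).1.2
      · exact (line_of_mem hG a.2 hva hvz).1.symm.2
      · rcases eq_or_ne a b with rfl | hab
        · exact adjn_eq_zero.1 (indep hG a.2 hva) u hub
        · refine adjn_eq_zero.1 ?_ u hub
          rcases adjn_out hG b.2 (line_of_mem hG a.2 hva hvz).1 (out hG hva hvz hab) with e | e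
          · exact e
          · exact absurd ((joined_iff hG hva hvz).2 ⟨hab, e⟩) (hfree a ha b hb)

theorem union_injective (z : V) : Function.Injective (union : Finset (lines G z) → Finset V) :=
  fun O O' h => ext fun l => by rw [line_mem_iff hG, line_mem_iff hG, h]

theorem card_through (z : V) : ((cocliques G).filter fun S => z ∈ S).card = 6 := by
  rw [ovoids_image hG, card_image_of_injective _ (union_injective hG z),
    QuadrangleTwo70.card_ovoids (isQuad hG z) (by rw [Fintype.card_coe, card_lines hG])]

theorem card_through_two {z w : V} (h : Far G z w) :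
    ((cocliques G).filter fun S => z ∈ S ∧ w ∈ S).card = 2 := by
  rw [← filter_filter, ovoids_image hG, filter_image, card_image_of_injective _ (union_injective hG z)]
  rw [← QuadrangleTwo70.card_ovoids_through (isQuad hG z) ⟨line G z w, line_mem hG h⟩]
  congr 1
  refine filter_congr fun O _ => ?_
  constructor
  · intro hw
    obtain ⟨l, hl, -, hwl⟩ := (mem_union'.1 hw).resolve_left h.1.symm
    rwa [show (⟨line G z w, line_mem hG h⟩ : lines G z) = l from
      Subtype.ext (line_of_mem hG l.2 hwl h.1.symm).2]
  · intro hl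
    exact mem_union'.2 (Or.inr ⟨_, hl, h.1.symm, mem_line.2 (Or.inr (Or.inl rfl))⟩)

theorem exists_system : ∃ B : Set (Finset (cocliques G)),
    Fintype.card (cocliques G) = 22 ∧ IsSteinerSystem 3 6 B ∧ Nonempty (G ≃g blockGraph B) := by
  let blk : V → Finset (cocliques G) := fun v => univ.filter fun S => v ∈ (S : Finset V)
  have hmap : ∀ v, (blk v).map (Function.Embedding.subtype _) = (cocliques G).filter fun S => v ∈ S := by
    intro v
    ext S
    simp [blk, and_comm]
  have hcard : ∀ v, (blk v).card = 6 := fun v => by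
    rw [← card_map (Function.Embedding.subtype _), hmap, card_through hG]
  have hfar : ∀ {u v}, Far G u v → (blk u ∩ blk v).card = 2 := fun {u v} h => by
    rw [← card_map (Function.Embedding.subtype _), map_inter, hmap, hmap, ← filter_and, card_through_two hG h]
  have hadj : ∀ {u v}, G.Adj u v → Disjoint (blk u) (blk v) := fun {u v} h => by
    refine disjoint_left.2 fun S hu hv => ?_
    exact adjn_eq_zero.1 ((mem_cocliques.1 S.2).2 u (mem_filter.1 hu).2) v (mem_filter.1 hv).2 h
  have hle : ∀ {u v}, u ≠ v → (blk u ∩ blk v).card ≤ 2 := fun {u v} hne => by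
    by_cases h : G.Adj u v
    · rw [disjoint_iff_inter_eq_empty.1 (hadj h)]; simp
    · rw [hfar ⟨hne, h⟩]
  have h22 : Fintype.card (cocliques G) = 22 := by
    have h1 : ∑ S : cocliques G, (S : Finset V).card = ∑ v, (blk v).card := by
      simp only [blk, card_filter]
      rw [sum_comm]
      refine sum_congr rfl fun S _ => ?_
      rw [← card_filter]
      simp
    rw [sum_congr rfl (g := fun _ => 21) fun S _ => (mem_cocliques.1 S.2).1,
      sum_congr rfl (g := fun _ => 6) fun v _ => hcard v, sum_const, sum_const, card_univ, card_univ,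
      hG.card] at h1
    simp only [smul_eq_mul] at h1
    omega
  have hinj : Function.Injective blk := fun u v h => by
    by_contra hne
    have := hle hne
    rw [h, inter_self, hcard] at this
    omega
  have hsub : ∀ u v, ∀ s : Finset (cocliques G), s.card = 3 → s ⊆ blk u → s ⊆ blk v → u = v := by
    intro u v s hs h1 h2
    by_contra hne
    have := card_le_card (subset_inter h1 h2)
    have := hle hne
    omega
  have hB : IsSteinerSystem 3 6 (Set.range blk) := by
    constructor
    · rintro _ ⟨v, rfl⟩; exact hcard v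
    · intro s hs
      have hall : (univ : Finset V).biUnion (fun v => (blk v).powersetCard 3) = univ.powersetCard 3 := by
        refine eq_of_subset_of_card_le (fun t ht => ?_) (le_of_eq ?_)
        · obtain ⟨v, -, ht⟩ := mem_biUnion.1 ht
          exact mem_powersetCard.2 ⟨subset_univ _, (mem_powersetCard.1 ht).2⟩
        · rw [card_biUnion (fun v _ u _ hne => disjoint_left.2 fun t ht ht' =>
              hne (hsub v u t (mem_powersetCard.1 ht).2 (mem_powersetCard.1 ht).1 (mem_powersetCard.1 ht').1)),
            sum_congr rfl (g := fun _ => Nat.choose 6 3) (fun v _ => by rw [card_powersetCard, hcard v]),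
            sum_const, card_univ, hG.card, card_powersetCard, card_univ, h22]
          rfl
      obtain ⟨v, -, hsv⟩ := mem_biUnion.1 (hall.symm ▸ mem_powersetCard.2 ⟨subset_univ s, hs⟩)
      refine ⟨blk v, ⟨⟨v, rfl⟩, (mem_powersetCard.1 hsv).1⟩, ?_⟩
      rintro _ ⟨⟨u, rfl⟩, hsu⟩
      rw [hsub u v s hs hsu (mem_powersetCard.1 hsv).1]
  refine ⟨_, h22, hB, ⟨Equiv.ofInjective blk hinj, fun {u v} => ?_⟩⟩
  simp only [blockGraph, SimpleGraph.fromRel_adj, ne_eq, Equiv.ofInjective_apply]
  constructor
  · rintro ⟨hne', h⟩
    have hne : u ≠ v := fun e => hne' (by subst e; rfl)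
    by_contra hn
    have hd : Disjoint (blk u) (blk v) := h.elim id fun h => h.symm
    have := hfar ⟨hne, hn⟩
    rw [disjoint_iff_inter_eq_empty.1 hd] at this
    simp at this
  · intro h
    exact ⟨fun e => h.ne (hinj (congrArg Subtype.val e)), Or.inl (hadj h)⟩

omit hG in
/-- An isomorphism of systems gives one of block graphs. -/
noncomputable def blockIso {α β : Type*} [DecidableEq β] {B : Set (Finset α)} {B' : Set (Finset β)}
    (e : α ≃ β) (h : (fun b => b.image e) '' B = B') : blockGraph B ≃g blockGraph B' where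
  toEquiv := (Equiv.Set.image (fun b => b.image e) B (Finset.image_injective e.injective)).trans
    (Equiv.setCongr h)
  map_rel_iff' := by
    intro b c
    simp [blockGraph, Finset.disjoint_image e.injective, Subtype.ext_iff,
      (Finset.image_injective e.injective).eq_iff]

theorem unique {W : Type*} [Fintype W] [DecidableEq W] {H : SimpleGraph W} [DecidableRel H.Adj]
    (hH : H.IsSRGWith 77 16 0 4) : Nonempty (G ≃g H) := by
  obtain ⟨B, h22, hB, ⟨i⟩⟩ := exists_system hG
  obtain ⟨B', h22', hB', ⟨j⟩⟩ := exists_system hH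
  obtain ⟨e, he⟩ := SteinerTwoPointAut70.iso22 h22 h22' hB hB'
  exact ⟨(i.trans (blockIso e he)).trans j.symm⟩

end Cfsg.Agent.SrgSeventySevenRecon70
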