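import Cfsg.Agent.Lib.StBasic

/-!
Bruhat decomposition in a group with Steinberg's relations: the kernel onto the Chevalley group is central and
lies in the group generated by the `h_i(t)`, and it is the whole centre.
-/

set_option autoImplicit false
set_option linter.unusedSectionVars false

namespace Cfsg.Agent.StBruhat

open Cfsg.Lie Cfsg.Agent.ChevalleyEngine Cfsg.Agent.ChevalleyCert Cfsg.Agent.ChevalleyRoots
open Cfsg.Agent.ChevalleyCore Cfsg.Agent.ChevalleyUnipotent Cfsg.Agent.ChevalleyTorus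
open Cfsg.Agent.StBasic

variable {D : ChevalleyDatum} {C : Cert D} {F : Type*} [Field F] {Γ : Type*} [Group Γ]
variable (S : Sys C F Γ) (hG : Gen D)

include hG in
theorem h_conj {j s : ℕ} (hj : j < D.rank) (hs : s < D.nroots) {t : F} (ht : t ≠ 0) (u : F) :
    h S j t * S.x s u * (h S j t)⁻¹ = S.x s (t ^ D.cartan j s * u) := by
  have h1 := n_conj S hG hj hs (neg_ne_zero.2 (one_ne_zero (α := F))) u
  have h2 := n_conj S hG hj (C.w_lt j s hj hs) ht (cn C j (-1) s * u)
  rw [← h1, w_invol C hj hs] at h2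
  have h3 : h S j t * S.x s u * (h S j t)⁻¹ =
      S.x s (cn C j t (wr D j s) * (cn C j (-1) s * u)) := by
    rw [← h2, h]; group
  rw [h3]
  congr 1
  refine xg_inj C hs ?_
  have h4 := congrArg S.θ h3
  rw [map_mul, map_mul, map_inv, θ_h S hj, S.θ_x s hs, S.θ_x s hs,
    hg_conj_xg C (simple_lt C hj) hs ht, mul_inv_cancel_right, pairing_simple C hj] at h4
  exact h4.symm

/-- the subgroup generated by the `h_i(t)` -/
def HT : Subgroup Γ :=
  Subgroup.closure {g | ∃ i, i < D.rank ∧ ∃ t : F, t ≠ 0 ∧ g = h S i t}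

theorem h_mem_HT {i : ℕ} (hi : i < D.rank) {t : F} (ht : t ≠ 0) : h S i t ∈ HT S :=
  Subgroup.subset_closure ⟨i, hi, t, ht, rfl⟩

include hG in
theorem HT_conj {g : Γ} (hg : g ∈ HT S) {s : ℕ} (hs : s < D.nroots) :
    ∃ c : F, c ≠ 0 ∧ ∀ u : F, g * S.x s u * g⁻¹ = S.x s (c * u) := by
  induction hg using Subgroup.closure_induction with
  | mem y hy =>
    obtain ⟨i, hi, t, ht, rfl⟩ := hy
    exact ⟨_, zpow_ne_zero _ ht, h_conj S hG hi hs ht⟩
  | one => exact ⟨1, one_ne_zero, fun u => by simp⟩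
  | mul a b _ _ ha hb =>
    obtain ⟨c, hc, h1⟩ := ha
    obtain ⟨d, hd, h2⟩ := hb
    refine ⟨c * d, mul_ne_zero hc hd, fun u => ?_⟩
    rw [mul_assoc c d u, ← h1, ← h2]; group
  | inv a _ ha =>
    obtain ⟨c, hc, h1⟩ := ha
    refine ⟨c⁻¹, inv_ne_zero hc, fun u => ?_⟩
    have h2 := h1 (c⁻¹ * u)
    rw [← mul_assoc, mul_inv_cancel₀ hc, one_mul] at h2
    rw [← h2]; group

theorem θ_HT {g : Γ} (hg : g ∈ HT S) : S.θ g ∈ D.diagonalSubgroup F := by
  have : HT S ≤ (D.diagonalSubgroup F).comap S.θ := by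
    rw [HT, Subgroup.closure_le]
    rintro g ⟨i, hi, t, ht, rfl⟩
    show S.θ (h S i t) ∈ D.diagonalSubgroup F
    rw [θ_h S hi]
    exact hg_mem_H C (simple_lt C hi) ht
  exact this hg

theorem n_split {i : ℕ} (hi : i < D.rank) (t : F) : n S i t = h S i t * n S i 1 := by
  rw [h, mul_assoc, ← n_inv S hi (1 : F), inv_mul_cancel, mul_one]

theorem n_mul_n_mem {i : ℕ} (hi : i < D.rank) {c : F} (hc : c ≠ 0) : n S i 1 * n S i c ∈ HT S := by
  have : n S i 1 * n S i c = (h S i (-c))⁻¹ := by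
    rw [h, mul_inv_rev, n_inv S hi, n_inv S hi, neg_neg, neg_neg]
  rw [this]
  exact inv_mem (h_mem_HT S hi (neg_ne_zero.2 hc))

include hG in
theorem n_conj_HT {i : ℕ} (hi : i < D.rank) {g : Γ} (hg : g ∈ HT S) :
    n S i 1 * g * (n S i 1)⁻¹ ∈ HT S := by
  refine conj_mem_closure ?_ g hg
  rintro y ⟨j, hj, t, ht, rfl⟩
  set c := t ^ D.cartan j (D.simple i) with hc
  have hp := simple_lt C hi
  have e : h S j t * n S i 1 * (h S j t)⁻¹ = n S i c := by
    have hinv : t ^ D.cartan j (D.neg (D.simple i)) = c⁻¹ := by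
      rw [cartan_neg C hj hp, zpow_neg]
    conv_lhs => rw [← MulAut.conj_apply, n, map_mul, map_mul]
    simp only [MulAut.conj_apply, h_conj S hG hj hp ht, h_conj S hG hj (C.neg_lt _) ht, hinv]
    rw [n, mul_one, inv_one, mul_neg, mul_one]
  have : n S i 1 * h S j t * (n S i 1)⁻¹ = n S i 1 * (n S i c)⁻¹ * h S j t := by
    rw [← e]; group
  show n S i 1 * h S j t * (n S i 1)⁻¹ ∈ HT S
  rw [this, n_inv S hi]
  exact mul_mem (n_mul_n_mem S hi (neg_ne_zero.2 (zpow_ne_zero _ ht))) (h_mem_HT S hj ht)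

/-- the element of a word -/
def nw (l : List ℕ) : Γ := (l.map fun i => n S i 1).prod

theorem nw_cons (i : ℕ) (l : List ℕ) : nw S (i :: l) = n S i 1 * nw S l := rfl

theorem nw_append (l m : List ℕ) : nw S (l ++ m) = nw S l * nw S m := by simp [nw]

include hG in
theorem nw_conj_HT {l : List ℕ} (hl : ∀ i ∈ l, i < D.rank) {g : Γ} (hg : g ∈ HT S) :
    nw S l * g * (nw S l)⁻¹ ∈ HT S := by
  induction l with
  | nil => simpa [nw] using hg
  | cons i l ih =>
    have := n_conj_HT S hG (hl i (List.mem_cons_self ..)) (ih fun j hj => hl j (List.mem_cons_of_mem _ hj))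
    simpa [nw_cons, mul_assoc] using this

include hG in
theorem nw_conj {l : List ℕ} (hl : ∀ i ∈ l, i < D.rank) {r : ℕ} (hr : r < D.nroots) :
    ∃ e : F, e * e = 1 ∧ ∀ t : F,
      nw S l * S.x r t * (nw S l)⁻¹ = S.x (wact (D := D) l r) (e * t) ∧
      nw S l * S.x (D.neg r) t * (nw S l)⁻¹ = S.x (D.neg (wact (D := D) l r)) (e * t) := by
  induction l with
  | nil => exact ⟨1, by simp, fun t => by simp [nw, wact]⟩
  | cons i l ih =>
    have hl' : ∀ j ∈ l, j < D.rank := fun j hj => hl j (List.mem_cons_of_mem _ hj)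
    have hi := hl i (List.mem_cons_self ..)
    obtain ⟨e, he, h⟩ := ih hl'
    have hw := wact_lt C hl' hr
    refine ⟨(C.eta i (wact (D := D) l r) : F) * e, ?_, fun t => ?_⟩
    · rw [mul_mul_mul_comm, he, eta_cast_sq C, one_mul]
    · obtain ⟨h1, h2⟩ := h t
      have k1 := n_conj S hG hi hw (one_ne_zero (α := F)) (e * t)
      have k2 := n_conj S hG hi (C.neg_lt (wact (D := D) l r)) (one_ne_zero (α := F)) (e * t)
      rw [cn, one_zpow, one_mul, ← mul_assoc, ← h1] at k1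
      rw [cn, one_zpow, one_mul, eta_neg_eq C hi hw, ← mul_assoc, ← h2, w_neg C hi hw] at k2
      rw [nw_cons, wact_cons]
      exact ⟨by rw [← k1]; group, by rw [← k2]; group⟩

include hG in
theorem nw_conj_n {l : List ℕ} (hl : ∀ i ∈ l, i < D.rank) {a k : ℕ} (ha : a < D.rank)
    (hk : wact (D := D) l (D.simple a) = D.simple k) :
    ∃ c : F, c ≠ 0 ∧ nw S l * n S a 1 * (nw S l)⁻¹ = n S k c := by
  obtain ⟨e, he, h⟩ := nw_conj S hG hl (simple_lt C ha)
  refine ⟨e, fun h0 => by simp [h0] at he, ?_⟩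
  conv_lhs => rw [← MulAut.conj_apply, n, map_mul, map_mul]
  simp only [MulAut.conj_apply, (h _).1, (h _).2, hk]
  rw [n, mul_one, inv_one, mul_neg, mul_one, inv_eq_of_mul_eq_one_right he]

omit S in
theorem exists_deletion (C : Cert D) {l : List ℕ} (hl : ∀ i ∈ l, i < D.rank) {r : ℕ}
    (hr : D.nroots / 2 ≤ r) (hr' : r < D.nroots) (h : wact (D := D) l r < D.nroots / 2) :
    ∃ l1 k l2, l = l1 ++ k :: l2 ∧ wact (D := D) l2 r = D.simple k := by
  induction l with
  | nil => exact absurd h (by simp [wact]; omega)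
  | cons i l ih =>
    have hl' : ∀ j ∈ l, j < D.rank := fun j hj => hl j (List.mem_cons_of_mem _ hj)
    by_cases hc : wact (D := D) l r < D.nroots / 2
    · obtain ⟨l1, k, l2, rfl, h2⟩ := ih hl' hc
      exact ⟨i :: l1, k, l2, rfl, h2⟩
    · refine ⟨[], i, l, rfl, ?_⟩
      by_contra hne
      rw [wact_cons] at h
      have := simple_perm C (hl i (List.mem_cons_self ..)) (by omega) (wact_lt C hl' hr') hne
      omega

/-- `θ(n_w)` conjugates `U` into itself -/
def Keeps (l : List ℕ) : Prop :=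
  ∀ r, D.nroots / 2 ≤ r → r < D.nroots → ∀ t : F,
    S.θ (nw S l) * xg C r t * (S.θ (nw S l))⁻¹ ∈ D.posUnipotent F

include hG in
theorem keeps_pos {l : List ℕ} (hl : ∀ i ∈ l, i < D.rank) (hk : Keeps S l) {r : ℕ}
    (hr : D.nroots / 2 ≤ r) (hr' : r < D.nroots) : D.nroots / 2 ≤ wact (D := D) l r := by
  by_contra hc
  obtain ⟨e, he, h⟩ := nw_conj S hG hl hr'
  have hw := wact_lt C hl hr'
  have h1 := hk r hr hr' 1
  have h2 := congrArg S.θ (h 1).1
  rw [map_mul, map_mul, map_inv, S.θ_x r hr', S.θ_x _ hw] at h2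
  rw [h2, mul_one] at h1
  have h3 : xg C (wact (D := D) l r) e ∈ D.borelSubgroup F ⊓ D.negUnipotent F :=
    ⟨Subgroup.mem_sup_left h1, xg_mem_V C (by omega) e⟩
  rw [B_inf_V C, Subgroup.mem_bot, ← xg_zero C (wact (D := D) l r)] at h3
  rw [xg_inj C hw h3, mul_zero] at he
  exact zero_ne_one he

include hG in
theorem nw_mem_of_keeps : ∀ (N : ℕ) (l : List ℕ), l.length ≤ N → (∀ i ∈ l, i < D.rank) →
    Keeps S l → nw S l ∈ HT S := by
  intro N
  induction N with
  | zero =>
    intro l hN _ _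
    rw [List.length_eq_zero_iff.1 (Nat.le_zero.1 hN)]
    simpa [nw] using one_mem (HT S)
  | succ N ih =>
    intro l hN hl hk
    rcases List.eq_nil_or_concat' l with rfl | ⟨l', a, rfl⟩
    · simpa [nw] using one_mem (HT S)
    have hl' : ∀ i ∈ l', i < D.rank := fun i hi => hl i (List.mem_append_left _ hi)
    have ha : a < D.rank := hl a (List.mem_append_right _ (List.mem_singleton_self a))
    have hp := C.simple_mem a ha
    have h1 := keeps_pos S hG hl hk hp.1 hp.2
    rw [wact_append, show wact (D := D) [a] (D.simple a) = D.neg (D.simple a) from w_simple C ha,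
      wact_neg C hl' hp.2] at h1
    obtain ⟨l1, k, l2, rfl, hk2⟩ := exists_deletion C hl' hp.1 hp.2
      ((neg_pos C (wact_lt C hl' hp.2)).1 h1)
    have hl1 : ∀ i ∈ l1, i < D.rank := fun i hi => hl' i (List.mem_append_left _ hi)
    have hl2 : ∀ i ∈ l2, i < D.rank := fun i hi =>
      hl' i (List.mem_append_right _ (List.mem_cons_of_mem _ hi))
    have hkr : k < D.rank := hl' k (List.mem_append_right _ (List.mem_cons_self ..))
    obtain ⟨c, hc, hconj⟩ := nw_conj_n S hG hl2 ha hk2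
    set g := nw S l1 * (n S k 1 * n S k c) * (nw S l1)⁻¹
    have hg : g ∈ HT S := nw_conj_HT S hG hl1 (n_mul_n_mem S hkr hc)
    have e : nw S ((l1 ++ k :: l2) ++ [a]) = g * nw S (l1 ++ l2) := by
      simp only [g, nw_append, nw_cons, ← hconj]
      simp [nw, mul_assoc]
    rw [e]
    refine mul_mem hg (ih _ (by simp at hN ⊢; omega) ?_ ?_)
    · intro i hi
      rcases List.mem_append.1 hi with hi | hi
      exacts [hl1 i hi, hl2 i hi]
    · intro r hr hr' t
      have h2 := hk r hr hr' t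
      rw [e, map_mul, mul_inv_rev] at h2
      have hn := H_le_normalizer_U C (inv_mem (θ_HT S hg))
      have h3 := (Subgroup.mem_normalizer_iff.1 hn _).1 h2
      simpa [mul_assoc] using h3

/-! ### the Bruhat decomposition -/

/-- `U` -/
def UT : Subgroup Γ := UG S [] (D.nroots / 2)

theorem x_mem_UT {r : ℕ} (hp : D.nroots / 2 ≤ r) (hr : r < D.nroots) (t : F) : S.x r t ∈ UT S :=
  x_mem_UG S (l := []) hp hp hr t

theorem θ_UT {g : Γ} (hg : g ∈ UT S) : S.θ g ∈ D.posUnipotent F := by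
  have h := θ_UG S (l := []) (by simp) hg
  rw [posUnipotent_eq C]
  simpa [nword] using h

include hG in
theorem HT_conj_UT {g : Γ} (hg : g ∈ HT S) {v : Γ} (hv : v ∈ UT S) : g * v * g⁻¹ ∈ UT S := by
  refine conj_mem_closure ?_ v hv
  rintro y ⟨r, h1, h2, h3, u, rfl⟩
  obtain ⟨c, _, hc⟩ := HT_conj S hG hg (s := r) h3
  show g * S.x r u * g⁻¹ ∈ UG S [] (D.nroots / 2)
  rw [hc]
  exact x_mem_UG S (l := []) h1 h2 h3 _

theorem side_le_UT (i : ℕ) : side S i 1 ≤ UT S := by
  refine (Subgroup.closure_le _).2 ?_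
  rintro g ⟨v, hv, ⟨j, hj, -, hpos⟩, u, rfl⟩
  have hv2 : D.nroots / 2 ≤ v := by
    by_contra hc
    have := coef_nonpos C (r := v) (by omega) hj
    omega
  exact x_mem_UT S hv2 hv u

theorem UT_split {i : ℕ} (hi : i < D.rank) {g : Γ} (hg : g ∈ UT S) :
    ∃ v ∈ side S i 1, ∃ a : F, g = v * S.x (D.simple i) a := by
  have hp := simple_lt C hi
  induction hg using Subgroup.closure_induction with
  | mem y hy =>
    obtain ⟨r, -, h2, h3, u, rfl⟩ := hy
    show ∃ v ∈ side S i 1, ∃ a : F, S.x r u = v * S.x (D.simple i) a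
    by_cases hr : r = D.simple i
    · exact ⟨1, one_mem _, u, by rw [one_mul, hr]⟩
    · obtain ⟨j, hj, hji, h0⟩ := exists_side C hi h2 h3 hr
      exact ⟨S.x r u, Subgroup.subset_closure ⟨r, h3, ⟨j, hj, hji, by omega⟩, u, rfl⟩, 0,
        by rw [x_zero S hp, mul_one]⟩
  | one => exact ⟨1, one_mem _, 0, by rw [x_zero S hp, one_mul]⟩
  | mul a b _ _ ha hb =>
    obtain ⟨v, hv, s, rfl⟩ := ha
    obtain ⟨w, hw, t, rfl⟩ := hb
    refine ⟨v * (S.x (D.simple i) s * w * (S.x (D.simple i) s)⁻¹),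
      mul_mem hv (x_conj_side S hi (Or.inl rfl) 1 s w hw), s + t, ?_⟩
    rw [← S.x_add _ hp]; group
  | inv a _ ha =>
    obtain ⟨v, hv, s, rfl⟩ := ha
    refine ⟨S.x (D.simple i) (-s) * v⁻¹ * (S.x (D.simple i) (-s))⁻¹,
      x_conj_side S hi (Or.inl rfl) 1 (-s) _ (inv_mem hv), -s, ?_⟩
    rw [← x_inv S hp]; group

/-- the set `B N B` -/
def InBNB (g : Γ) : Prop :=
  ∃ u ∈ UT S, ∃ g₁ ∈ HT S, ∃ l : List ℕ, (∀ i ∈ l, i < D.rank) ∧ ∃ u' ∈ UT S, ∃ g₂ ∈ HT S,
    g = u * g₁ * nw S l * (u' * g₂)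

theorem UT_mul {v g : Γ} (hv : v ∈ UT S) (hg : InBNB S g) : InBNB S (v * g) := by
  obtain ⟨u, hu, g₁, hg₁, l, hl, u', hu', g₂, hg₂, rfl⟩ := hg
  exact ⟨v * u, mul_mem hv hu, g₁, hg₁, l, hl, u', hu', g₂, hg₂, by group⟩

include hG in
theorem HT_mul {v g : Γ} (hv : v ∈ HT S) (hg : InBNB S g) : InBNB S (v * g) := by
  obtain ⟨u, hu, g₁, hg₁, l, hl, u', hu', g₂, hg₂, rfl⟩ := hg
  exact ⟨v * u * v⁻¹, HT_conj_UT S hG hv hu, v * g₁, mul_mem hv hg₁, l, hl, u', hu', g₂, hg₂, by group⟩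

include hG in
/-- a simple root element passes to the right of `n_w` if `w⁻¹` keeps the root positive -/
theorem pass {i : ℕ} (hi : i < D.rank) {l : List ℕ} (hl : ∀ j ∈ l, j < D.rank)
    (hpos : D.nroots / 2 ≤ wact (D := D) l.reverse (D.simple i)) (a : F) :
    ∃ v ∈ UT S, S.x (D.simple i) a * nw S l = nw S l * v := by
  set q := wact (D := D) l.reverse (D.simple i)
  have hq : q < D.nroots := wact_lt C (rev_lt hl) (simple_lt C hi)
  have hw : wact (D := D) l q = D.simple i := by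
    have := wact_rev C (rev_lt hl) (simple_lt C hi)
    rwa [List.reverse_reverse] at this
  obtain ⟨e, he, h⟩ := nw_conj S hG hl hq
  refine ⟨S.x q (e * a), x_mem_UT S hpos hq _, ?_⟩
  have h' := (h (e * a)).1
  rw [hw, ← mul_assoc e e a, he, one_mul] at h'
  rw [← h']; group

include hG in
theorem n_mul {i : ℕ} (hi : i < D.rank) {g : Γ} (hg : InBNB S g) : InBNB S (n S i 1 * g) := by
  obtain ⟨u, hu, g₁, hg₁, l, hl, u', hu', g₂, hg₂, rfl⟩ := hg
  obtain ⟨v, hv, a, rfl⟩ := UT_split S hi hu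
  have hp := simple_lt C hi
  obtain ⟨c, _, hc⟩ := HT_conj S hG (inv_mem hg₁) hp
  have hc' := hc a
  rw [inv_inv] at hc'
  have e : n S i 1 * (v * S.x (D.simple i) a * g₁ * nw S l * (u' * g₂)) =
      (n S i 1 * v * (n S i 1)⁻¹) * ((n S i 1 * g₁ * (n S i 1)⁻¹) *
        (n S i 1 * (g₁⁻¹ * S.x (D.simple i) a * g₁) * nw S l * (u' * g₂))) := by group
  rw [e, hc']
  refine UT_mul S (side_le_UT S i (n_conj_side S hi 1 1 hv)) (HT_mul S hG (n_conj_HT S hG hi hg₁) ?_)
  by_cases hpos : D.nroots / 2 ≤ wact (D := D) l.reverse (D.simple i)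
  · obtain ⟨w, hw, he⟩ := pass S hG hi hl hpos (c * a)
    exact ⟨1, one_mem _, 1, one_mem _, i :: l, cons_lt hi hl, w * u', mul_mem hw hu', g₂, hg₂, by
      rw [nw_cons, mul_assoc (n S i 1) (S.x (D.simple i) (c * a)), he]; group⟩
  by_cases h0 : c * a = 0
  · exact ⟨1, one_mem _, 1, one_mem _, i :: l, cons_lt hi hl, u', hu', g₂, hg₂, by
      rw [nw_cons, h0, x_zero S hp]; group⟩
  set b := cn C i (1 : F) (D.simple i) * (c * a) with hb
  have hb0 : b ≠ 0 := mul_ne_zero (cn_ne_zero C one_ne_zero _) h0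
  have h1 : n S i 1 * S.x (D.simple i) (c * a) = S.x (D.neg (D.simple i)) b * n S i 1 := by
    rw [hb, ← n_conj_simple S hG hi one_ne_zero (c * a)]; group
  have h2 : S.x (D.neg (D.simple i)) b =
      S.x (D.simple i) b⁻¹ * (h S i (-b⁻¹) * n S i 1) * S.x (D.simple i) b⁻¹ := by
    rw [← n_split S hi]
    conv_rhs => rw [n, inv_neg, inv_inv, neg_neg, ← x_inv S hp]
    group
  have hl' := cons_lt hi hl
  have hpos' : D.nroots / 2 ≤ wact (D := D) (i :: l).reverse (D.simple i) := by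
    rw [List.reverse_cons, wact_append, show wact (D := D) [i] (D.simple i) = D.neg (D.simple i) from
      w_simple C hi, wact_neg C (rev_lt hl) hp]
    exact (neg_pos C (wact_lt C (rev_lt hl) hp)).2 (by omega)
  obtain ⟨w, hw, he⟩ := pass S hG hi hl' hpos' b⁻¹
  refine ⟨S.x (D.simple i) b⁻¹, x_mem_UT S (C.simple_mem i hi).1 hp _, h S i (-b⁻¹),
    h_mem_HT S hi (neg_ne_zero.2 (inv_ne_zero hb0)), i :: i :: l, cons_lt hi hl', w * u', mul_mem hw hu',
    g₂, hg₂, ?_⟩
  rw [h1, h2, nw_cons S i (i :: l)]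
  have : S.x (D.simple i) b⁻¹ * n S i 1 * nw S l = nw S (i :: l) * w := by
    rw [← he, nw_cons, mul_assoc]
  calc _ = S.x (D.simple i) b⁻¹ * (h S i (-b⁻¹) * n S i 1) *
        (S.x (D.simple i) b⁻¹ * n S i 1 * nw S l) * (u' * g₂) := by group
    _ = _ := by rw [this]; group

include hG in
theorem bruhat (g : Γ) : InBNB S g := by
  have hn' : ∀ i, i < D.rank → ∀ g, InBNB S g → InBNB S ((n S i 1)⁻¹ * g) := by
    intro i hi g hg
    rw [n_inv S hi, n_split S hi, mul_assoc]
    exact HT_mul S hG (h_mem_HT S hi (neg_ne_zero.2 one_ne_zero)) (n_mul S hG hi hg)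
  have hx : ∀ r, r < D.nroots → ∀ (t : F) (g : Γ), InBNB S g → InBNB S (S.x r t * g) := by
    refine root_induction C ?_ ?_
    · exact fun i hi t g hg => UT_mul S (x_mem_UT S (C.simple_mem i hi).1 (simple_lt C hi) t) hg
    · intro i r hi hr ih t g hg
      have h1 := n_conj S hG hi hr (one_ne_zero (α := F)) (t / cn C i 1 r)
      rw [mul_div_cancel₀ t (cn_ne_zero C one_ne_zero r)] at h1
      rw [← h1, mul_assoc, mul_assoc]
      exact n_mul S hG hi (ih _ _ (hn' i hi g hg))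
  have hmem : g ∈ Subgroup.closure {g : Γ | ∃ r, r < D.nroots ∧ ∃ t : F, g = S.x r t} :=
    S.gen ▸ Subgroup.mem_top g
  induction hmem using Subgroup.closure_induction_left with
  | one => exact ⟨1, one_mem _, 1, one_mem _, [], by simp, 1, one_mem _, 1, one_mem _, by simp [nw]⟩
  | mul_left y hy z _ hz =>
    obtain ⟨r, hr, t, rfl⟩ := hy
    exact hx r hr t z hz
  | inv_mul_cancel y hy z _ hz =>
    obtain ⟨r, hr, t, rfl⟩ := hy
    rw [x_inv S hr]
    exact hx r hr (-t) z hz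

include hG in
/-- An element whose image commutes with all root elements has trivial image and lies in `⟨h_i(t)⟩`. -/
theorem of_central {z : Γ} (hz : ∀ r, r < D.nroots → ∀ t : F, Commute (S.θ z) (xg C r t)) :
    S.θ z = 1 ∧ z ∈ HT S := by
  obtain ⟨u, hu, g₁, hg₁, l, hl, u', hu', g₂, hg₂, he⟩ := bruhat S hG z
  have hzU : ∀ y ∈ D.posUnipotent F, S.θ z * y * (S.θ z)⁻¹ = y := by
    intro y hy
    rw [posUnipotent_eq C] at hy
    induction hy using Subgroup.closure_induction with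
    | mem y hy =>
      obtain ⟨r, t, -, -, hr, rfl⟩ := hy
      rw [(hz r hr t).eq, mul_inv_cancel_right]
    | one => simp
    | mul a b _ _ ha hb =>
      calc _ = (S.θ z * a * (S.θ z)⁻¹) * (S.θ z * b * (S.θ z)⁻¹) := by group
        _ = _ := by rw [ha, hb]
    | inv a _ ha =>
      calc _ = (S.θ z * a * (S.θ z)⁻¹)⁻¹ := by group
        _ = _ := by rw [ha]
  have hconj : ∀ {g}, g ∈ HT S → ∀ {v}, v ∈ UT S → ∀ y ∈ D.posUnipotent F,
      S.θ (v * g) * y * (S.θ (v * g))⁻¹ ∈ D.posUnipotent F ∧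
        (S.θ (v * g))⁻¹ * y * S.θ (v * g) ∈ D.posUnipotent F := by
    intro g hg v hv y hy
    have hn := H_le_normalizer_U C (θ_HT S hg)
    have hu' := θ_UT S hv
    rw [map_mul]
    refine ⟨?_, ?_⟩
    · have := mul_mem (mul_mem hu' ((Subgroup.mem_normalizer_iff.1 hn y).1 hy)) (inv_mem hu')
      simpa [mul_assoc] using this
    · have h0 := mul_mem (mul_mem (inv_mem hu') hy) hu'
      have := (Subgroup.mem_normalizer_iff.1 (inv_mem hn) _).1 h0
      simpa [mul_assoc] using this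
  have hkeep : Keeps S l := by
    intro r hr hr' t
    have h1 := (hconj hg₂ hu' _ (xg_mem_U C hr hr' t)).2
    have h2 := hzU _ h1
    have h3 := (hconj hg₁ hu _ h1).2
    rw [← h2, he] at h3
    simp only [map_mul, mul_inv_rev, mul_assoc, inv_mul_cancel_left, mul_inv_cancel_left, mul_inv_cancel,
      inv_mul_cancel, mul_one] at h3
    simpa [mul_assoc] using h3
  have hzB : ∃ v ∈ UT S, ∃ g ∈ HT S, z = v * g := by
    have hg : g₁ * nw S l ∈ HT S := mul_mem hg₁ (nw_mem_of_keeps S hG l.length l le_rfl hl hkeep)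
    refine ⟨u * (g₁ * nw S l * u' * (g₁ * nw S l)⁻¹), mul_mem hu (HT_conj_UT S hG hg hu'),
      g₁ * nw S l * g₂, mul_mem hg hg₂, ?_⟩
    rw [he]; group
  obtain ⟨v, hv, g, hg, rfl⟩ := hzB
  obtain ⟨l₀, hl₀, hlong⟩ := exists_long_word C
  have hθn : Commute (S.θ (v * g)) (S.θ (nw S l₀)) := by
    have : ∀ y : Γ, Commute (S.θ (v * g)) (S.θ y) := by
      intro y
      have hy : y ∈ Subgroup.closure {g : Γ | ∃ r, r < D.nroots ∧ ∃ t : F, g = S.x r t} :=
        S.gen ▸ Subgroup.mem_top y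
      induction hy using Subgroup.closure_induction with
      | mem y hy =>
        obtain ⟨r, hr, t, rfl⟩ := hy
        rw [S.θ_x r hr]
        exact hz r hr t
      | one => rw [map_one]; exact Commute.one_right _
      | mul a b _ _ ha hb => rw [map_mul S.θ a b]; exact ha.mul_right hb
      | inv a _ ha => rw [map_inv S.θ a]; exact ha.inv_right
    exact this _
  have hVH : S.θ (v * g) ∈ D.negUnipotent F ⊔ D.diagonalSubgroup F := by
    have h1 : S.θ (v * g) = S.θ (nw S l₀ * v * (nw S l₀)⁻¹) * S.θ (nw S l₀ * g * (nw S l₀)⁻¹) := by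
      rw [← map_mul]
      calc S.θ (v * g) = S.θ (nw S l₀) * S.θ (v * g) * (S.θ (nw S l₀))⁻¹ := by
            rw [← hθn.eq, mul_inv_cancel_right]
        _ = _ := by rw [← map_inv, ← map_mul, ← map_mul]; congr 1; group
    rw [h1]
    refine mul_mem (Subgroup.mem_sup_left ?_) (Subgroup.mem_sup_right (θ_HT S (nw_conj_HT S hG hl₀ hg)))
    have hle : UT S ≤ (D.negUnipotent F).comap (S.θ.comp (MulAut.conj (nw S l₀)).toMonoidHom) := by
      rw [UT, UG, Subgroup.closure_le]
      rintro y ⟨r, -, h2, h3, t, rfl⟩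
      show S.θ (nw S l₀ * S.x r t * (nw S l₀)⁻¹) ∈ D.negUnipotent F
      obtain ⟨e, _, h⟩ := nw_conj S hG hl₀ h3
      rw [(h t).1, S.θ_x _ (wact_lt C hl₀ h3)]
      exact xg_mem_V C (hlong r h2 h3) _
    exact hle hv
  have hB : S.θ (v * g) ∈ D.borelSubgroup F := by
    rw [map_mul]
    exact mul_mem (Subgroup.mem_sup_left (θ_UT S hv)) (Subgroup.mem_sup_right (θ_HT S hg))
  have hH : S.θ (v * g) ∈ D.diagonalSubgroup F := by
    rw [← B_inf_VH C]; exact ⟨hB, hVH⟩
  obtain ⟨c, hc⟩ := (mem_H_iff C).1 hH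
  have hone : ∀ s, s < D.nroots → tchar D c s = 1 := by
    intro s hs
    have h1 := torus_conj_xg C hs c (1 : F)
    rw [hc, (hz s hs 1).eq, mul_inv_cancel_right, mul_one] at h1
    exact Units.ext (xg_inj C hs h1).symm
  have h1 : S.θ (v * g) = 1 := by
    rw [← hc]
    apply Units.ext
    rw [coe_torus, Units.val_one, tmat, ← Matrix.diagonal_one]
    congr 1
    funext q
    rcases q with j | s <;> simp [hone _ (Fin.is_lt _)]
  refine ⟨h1, ?_⟩
  have hv1 : v = 1 := by
    refine eq_one_of_UG S (l := []) (by simp) hv ?_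
    have hmem : S.θ v ∈ D.posUnipotent F ⊓ D.diagonalSubgroup F := by
      refine ⟨θ_UT S hv, ?_⟩
      rw [map_mul, mul_eq_one_iff_eq_inv] at h1
      rw [h1]
      exact (D.diagonalSubgroup F).inv_mem (θ_HT S hg)
    rwa [U_inf_H C, Subgroup.mem_bot] at hmem
  rw [hv1, one_mul]
  exact hg

include hG in
theorem mem_center_of_ker {z : Γ} (hz : S.θ z = 1) : z ∈ Subgroup.center Γ := by
  have hzH := (of_central S hG (z := z) fun r _ t => by rw [hz]; exact Commute.one_left _).2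
  have hx : ∀ r, r < D.nroots → ∀ t : F, Commute z (S.x r t) := by
    intro r hr t
    obtain ⟨c, _, hc⟩ := HT_conj S hG hzH hr
    have h1 := congrArg S.θ (hc t)
    rw [map_mul, map_mul, hz, one_mul, map_inv, hz, inv_one, mul_one, S.θ_x r hr, S.θ_x r hr] at h1
    have h2 := hc t
    rw [← xg_inj C hr h1] at h2
    exact mul_inv_eq_iff_eq_mul.1 h2
  rw [Subgroup.mem_center_iff]
  intro y
  have hy : y ∈ Subgroup.closure {g : Γ | ∃ r, r < D.nroots ∧ ∃ t : F, g = S.x r t} :=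
    S.gen ▸ Subgroup.mem_top y
  have : Commute z y := by
    induction hy using Subgroup.closure_induction with
    | mem y hy => obtain ⟨r, hr, t, rfl⟩ := hy; exact hx r hr t
    | one => exact Commute.one_right _
    | mul a b _ _ ha hb => exact ha.mul_right hb
    | inv a _ ha => exact ha.inv_right
  exact this.eq.symm

include hG in
theorem ker_eq_center : S.θ.ker = Subgroup.center Γ := by
  refine le_antisymm (fun z hz => mem_center_of_ker S hG hz) fun z hz => ?_
  refine (of_central S hG fun r hr t => ?_).1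
  rw [← S.θ_x r hr]
  exact Commute.map (Subgroup.mem_center_iff.1 hz (S.x r t)).symm S.θ

include hG in
theorem ker_le_HT : S.θ.ker ≤ HT S := fun z hz =>
  (of_central S hG fun r _ t => by rw [MonoidHom.mem_ker.1 hz]; exact Commute.one_left _).2

end Cfsg.Agent.StBruhat
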