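import Cfsg.Agent.Lib.StClosedADE
import Cfsg.Agent.Lib.ChevalleyCheckSound

/-!
Boolean checks of the facts about simply laced data used for central closedness, and their soundness.
-/

set_option autoImplicit false
set_option linter.unusedSimpArgs false

namespace Cfsg.Agent.StCheckADE

open Cfsg.Lie Cfsg.Agent.ChevalleyEngine Cfsg.Agent.ChevalleyCert Cfsg.Agent.ChevalleyRoots
open Cfsg.Agent.ChevalleyCheck Cfsg.Agent.ChevalleyCheckSound Cfsg.Agent.StClosedADE

variable (D : ChevalleyDatum) (T : Tables)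

/-- the root elements commute -/
def orthB (r s : ℕ) : Bool := Nat.beq (hd T r s) 0 && !Nat.beq s r && !Nat.beq s (negA D r)

/-- the sum plus one, or zero -/
def sumT (r s : ℕ) : ℕ := hd T r s / 16

def moveB (c ρ a σ : ℕ) : Bool :=
  let b := sumT T ρ (negA D a)
  !Nat.beq b 0 && Nat.beq (sumT T a (b - 1)) (ρ + 1) && Nat.beq (sumT T c (b - 1)) (σ + 1) &&
    orthB D T a c && orthB D T σ ρ

/-- the chains have one member, with coefficient `±1` -/
def chkSL : Bool :=
  (List.range D.nroots).all fun r => (row D r).all fun e =>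
    match e.2.toList with
    | [q] => decide (q.2 = 1) || decide (q.2 = -1)
    | _ => false

def condB (w : ℕ × ℕ × ℕ × ℕ × ℕ) (β γ : ℕ) : Bool :=
  (Nat.beq β w.2.1 && Nat.beq γ w.2.2.1) || (Nat.beq β w.2.2.1 && Nat.beq γ w.2.1) ||
    moveB D T β γ w.2.1 w.2.2.1 || moveB D T γ β w.2.1 w.2.2.1

def refB (w : ℕ × ℕ × ℕ × ℕ × ℕ) : Bool :=
  Nat.blt w.2.1 D.nroots && Nat.blt w.2.2.2.1 D.nroots && Nat.blt w.2.2.1 D.nroots &&
    Nat.blt w.2.2.2.2 D.nroots && Nat.beq (sumT T w.2.1 w.2.2.1) (w.1 + 1) &&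
    moveB D T w.2.1 w.2.2.1 w.2.2.2.1 w.2.2.2.2 && moveB D T w.2.2.2.1 w.2.2.2.2 w.2.1 w.2.2.1

/-- the list `W` gives reference pairs of the fundamental roots -/
def chkRef (W : List (ℕ × ℕ × ℕ × ℕ × ℕ)) : Bool :=
  ((List.range D.rank).all fun i => Nat.blt i W.length && Nat.beq (W.getD i (0, 0, 0, 0, 0)).1 (D.simple i)) &&
    (W.all (refB D T)) &&
      (List.range D.nroots).all fun β => (row D β).all fun e =>
        let k := sumT T β e.1
        W.all fun w => !Nat.beq k (w.1 + 1) || condB D T w β e.1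

/-- witnesses for commuting pairs -/
def chkWit : Bool :=
  (List.range D.rank).all fun i => (List.range D.nroots).all fun s =>
    !orthB D T (D.simple i) s || (List.range D.nroots).any fun β =>
      let g := sumT T (D.simple i) (negA D β)
      !Nat.beq g 0 && Nat.beq (sumT T β (g - 1)) (D.simple i + 1) && orthB D T β s && orthB D T (g - 1) s

variable {D : ChevalleyDatum} {T : Tables} (hT : chkRows D T 0 D.nroots = true) (C : Cert D)

theorem some_of_sumT (hT : chkRows D T 0 D.nroots = true) {r s k : ℕ} (hr : r < D.nroots)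
    (h : sumT T r s = k + 1) : ∃ q, hdN D r s = some (k, q) := by
  rw [← hd_spec hT hr s, dec, if_neg (fun h0 => by simp [sumT, h0] at h)]
  refine ⟨((hd T r s % 16 : ℕ) : ℤ) - 8, ?_⟩
  rw [show hd T r s / 16 - 1 = k by unfold sumT at h; omega]

theorem sumT_of_some (hT : chkRows D T 0 D.nroots = true) {r s k : ℕ} {q : ℤ} (hr : r < D.nroots)
    (h : hdN D r s = some (k, q)) (hv : 16 ≤ hd T r s) : sumT T r s = k + 1 := by
  rw [← hd_spec hT hr s, dec, if_neg (by omega)] at h
  simp only [Option.some.injEq, Prod.mk.injEq] at h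
  unfold sumT
  omega

theorem hd_ge (hT : chkRows D T 0 D.nroots = true) {r : ℕ} (hr : r < D.nroots)
    {e : ℕ × Array (ℕ × ℤ)} (he : e ∈ row D r) {q : ℕ × ℤ} (hq : e.2.toList = [q]) : 16 ≤ hd T r e.1 := by
  simp only [chkRows, Bool.and_eq_true] at hT
  have h1 := allR' hT.1 hr
  simp only [Bool.and_eq_true, Nat.beq_eq] at h1
  have key : ∀ (l : List (ℕ × Array (ℕ × ℤ))) (b : ℕ), rowShape l b = true → e ∈ l →
      b ≤ e.1 ∧ (rowCode l b >>> (16 * (e.1 - b))) % 65536 = encHd q := by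
    intro l
    induction l with
    | nil => simp
    | cons a l ih =>
      intro b hb hm
      simp only [rowShape, Bool.and_eq_true, Nat.ble_eq] at hb
      obtain ⟨⟨hba, hhead⟩, hrest⟩ := hb
      rcases List.mem_cons.1 hm with rfl | hm
      · rw [hq] at hhead
        simp only [Bool.and_eq_true, decide_eq_true_eq, Nat.blt_eq] at hhead
        refine ⟨hba, ?_⟩
        simp only [rowCode, hq]
        have henc : encHd q < 65536 := by simp only [encHd]; omega
        rw [Nat.shiftLeft_eq, Nat.shiftRight_eq_div_pow, Nat.mul_div_cancel _ (by positivity),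
          Nat.add_mul_mod_self_left, Nat.mod_eq_of_lt henc]
      · obtain ⟨i1, i2⟩ := ih (a.1 + 1) hrest hm
        refine ⟨by omega, ?_⟩
        obtain ⟨al, hal⟩ : ∃ x, a.2.toList = x := ⟨_, rfl⟩
        rw [hal] at hhead
        rcases al with _ | ⟨q', qs⟩
        · simp at hhead
        simp only [Bool.and_eq_true, decide_eq_true_eq, Nat.blt_eq] at hhead
        have henc : encHd q' < 65536 := by simp only [encHd]; omega
        simp only [rowCode, hal]
        rw [← i2, show 16 * (e.1 - b) = 16 * (a.1 - b) + (16 + 16 * (e.1 - (a.1 + 1))) by omega,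
          Nat.shiftRight_add, Nat.shiftLeft_eq, Nat.shiftRight_eq_div_pow _ (16 * (a.1 - b)),
          Nat.mul_div_cancel _ (by positivity), Nat.shiftRight_add,
          Nat.shiftRight_eq_div_pow _ 16, show (2 : ℕ) ^ 16 = 65536 by norm_num,
          Nat.add_mul_div_left _ _ (by norm_num), Nat.div_eq_of_lt henc, zero_add]
  have := (key _ 0 h1.1 he).2
  rw [h1.2, Nat.sub_zero] at this
  have e2 : hd T r e.1 = (T.heads.get r >>> (16 * e.1)) % 65536 := Nat.and_two_pow_sub_one_eq_mod _ 16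
  rw [e2, this]
  simp only [encHd]
  omega

include C in
theorem negA_eq {r : ℕ} (hr : r < D.nroots) : negA D r = D.neg r := (C.neg_eq r hr).symm

include C in
theorem orth_of_orthB (hT : chkRows D T 0 D.nroots = true) {r s : ℕ} (hr : r < D.nroots)
    (h : orthB D T r s = true) : Orth D r s := by
  simp only [orthB, Bool.and_eq_true, Bool.not_eq_true', Bool.eq_false_iff, ne_eq, Nat.beq_eq,
    negA_eq C hr] at h
  exact ⟨hd_zero hT hr h.1.1, h.1.2, h.2⟩

include C in
theorem orthB_of_orth (hT : chkRows D T 0 D.nroots = true) {r s : ℕ} (hr : r < D.nroots)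
    (h : Orth D r s) : orthB D T r s = true := by
  simp only [orthB, Bool.and_eq_true, Bool.not_eq_true', Bool.eq_false_iff, ne_eq, Nat.beq_eq,
    negA_eq C hr]
  refine ⟨⟨?_, h.2.1⟩, h.2.2⟩
  by_contra hne
  have := hd_spec hT hr s
  rw [h.1, dec, if_neg hne] at this
  simp at this

include C in
theorem move_of_moveB (hT : chkRows D T 0 D.nroots = true) {c ρ a σ : ℕ} (hc : c < D.nroots)
    (ha : a < D.nroots) (hσ : σ < D.nroots) (h : moveB D T c ρ a σ = true) : Move D c ρ a σ := by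
  simp only [moveB, Bool.and_eq_true, Bool.not_eq_true', Bool.eq_false_iff, ne_eq, Nat.beq_eq] at h
  obtain ⟨⟨⟨⟨-, h1⟩, h2⟩, h3⟩, h4⟩ := h
  obtain ⟨q1, e1⟩ := some_of_sumT hT ha h1
  obtain ⟨q2, e2⟩ := some_of_sumT hT hc h2
  exact ⟨_, q1, q2, e1, e2, orth_of_orthB C hT ha h3, orth_of_orthB C hT hσ h4⟩

theorem data_of_chk (hT : chkRows D T 0 D.nroots = true) (hS : chkSL D = true)
    {W : List (ℕ × ℕ × ℕ × ℕ × ℕ)} (hW : chkRef D T W = true) : Data C := by
  have hrow : ∀ r, r < D.nroots → ∀ e ∈ row D r, ∃ q : ℕ × ℤ, e.2.toList = [q] ∧ (q.2 = 1 ∨ q.2 = -1) := by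
    intro r hr e he
    have := List.all_eq_true.1 (allR hS hr) e he
    match hl : e.2.toList, this with
    | [], h => simp at h
    | [q], h => exact ⟨q, rfl, by simpa using h⟩
    | _ :: _ :: _, h => simp at h
  have hsum : ∀ r s k q, r < D.nroots → hdN D r s = some (k, q) →
      ∃ e ∈ row D r, e.1 = s ∧ sumT T r s = k + 1 ∧ (q = 1 ∨ q = -1) := by
    intro r s k q hr h
    have hne : D.chainEntry r s ≠ [] := fun h0 => by simp [hdN, h0] at h
    obtain ⟨e, he, he1, he2⟩ := mem_of_entry hne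
    obtain ⟨q', hq, hu⟩ := hrow r hr e he
    refine ⟨e, he, he1, sumT_of_some hT hr h (he1 ▸ hd_ge hT hr he hq), ?_⟩
    rw [hdN, he2, hq] at h
    simp at h
    rwa [h] at hu
  simp only [chkRef, Bool.and_eq_true] at hW
  obtain ⟨⟨hp, href⟩, hall⟩ := hW
  refine ⟨fun r s hr => ?_, fun r s k q hr h => ?_, fun i hi => ?_⟩
  · by_cases h : D.chainEntry r s = []
    · simp [h]
    · obtain ⟨e, he, -, he2⟩ := mem_of_entry h
      obtain ⟨q, hq, -⟩ := hrow r hr e he
      simp [he2, hq]
  · obtain ⟨_, _, _, _, h'⟩ := hsum r s k q hr h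
    exact h'
  · have hpi := allR hp hi
    simp only [Bool.and_eq_true, Nat.blt_eq, Nat.beq_eq] at hpi
    set w := W.getD i (0, 0, 0, 0, 0)
    have hw : w ∈ W := by
      simp only [w, List.getD_eq_getElem _ _ hpi.1]
      exact List.getElem_mem _
    have hr := List.all_eq_true.1 href w hw
    simp only [refB, Bool.and_eq_true, Nat.blt_eq, Nat.beq_eq] at hr
    obtain ⟨⟨⟨⟨⟨⟨a, b⟩, c⟩, d⟩, e⟩, f⟩, g⟩ := hr
    refine ⟨w.2, a, b, hpi.2 ▸ some_of_sumT hT a e, move_of_moveB C hT a b d f,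
      move_of_moveB C hT b a c g, fun β γ q hβ h => ?_⟩
    obtain ⟨e', he', rfl, hk, -⟩ := hsum β γ (D.simple i) q hβ h
    have := List.all_eq_true.1 (List.all_eq_true.1 (allR hall hβ) e' he') w hw
    simp only [Bool.or_eq_true, Bool.not_eq_true', Bool.eq_false_iff, ne_eq, Nat.beq_eq, hk, hpi.2,
      not_true, false_or, condB, Bool.and_eq_true] at this
    rcases this with (((h1 | h1) | h1) | h1)
    · exact Or.inl h1
    · exact Or.inr (Or.inl h1)
    · exact Or.inr (Or.inr (Or.inl (move_of_moveB C hT hβ a c h1)))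
    · exact Or.inr (Or.inr (Or.inr (move_of_moveB C hT (pair_lt C hβ h).1 a c h1)))

include C in
theorem wit_of_chk (hT : chkRows D T 0 D.nroots = true) (h : chkWit D T = true) : Wit D := by
  intro i s hi hs ho
  have := allR (allR h hi) hs
  rw [orthB_of_orth C hT (simple_lt C hi) ho] at this
  simp only [Bool.not_true, Bool.false_or, List.any_eq_true, List.mem_range, Bool.and_eq_true,
    Bool.not_eq_true', Bool.eq_false_iff, ne_eq, Nat.beq_eq] at this
  obtain ⟨β, hβ, ⟨⟨-, h2⟩, h3⟩, h4⟩ := this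
  obtain ⟨q, hq⟩ := some_of_sumT hT hβ h2
  exact ⟨_, _, q, hβ, hq, orth_of_orthB C hT hβ h3, orth_of_orthB C hT (pair_lt C hβ hq).1 h4⟩

end Cfsg.Agent.StCheckADE
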