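import Cfsg.Agent.Lib.StGroupTorus
import Cfsg.Agent.Lib.StemPairing

/-!
Central closedness of groups with Steinberg's relations for a simply laced datum: in a central extension the
commutators of lifted root elements depend only on their images, so the relations (R1) and (R2) lift.
-/

set_option autoImplicit false
set_option linter.unusedSectionVars false

namespace Cfsg.Agent.StClosedADE

open scoped commutatorElement
open Cfsg.Lie Cfsg.Agent.ChevalleyEngine Cfsg.Agent.ChevalleyCert Cfsg.Agent.ChevalleyRoots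
open Cfsg.Agent.ChevalleyCore Cfsg.Agent.StBasic

variable {D : ChevalleyDatum} {C : Cert D}

/-- the root elements of `r` and `s` commute -/
def Orth (D : ChevalleyDatum) (r s : ℕ) : Prop := hdN D r s = none ∧ s ≠ r ∧ s ≠ D.neg r

/-- the pair `(c, ρ)` can be exchanged with `(a, σ)` by the Hall identity -/
def Move (D : ChevalleyDatum) (c ρ a σ : ℕ) : Prop :=
  ∃ b q₁ q₂, hdN D a b = some (ρ, q₁) ∧ hdN D c b = some (σ, q₂) ∧ Orth D a c ∧ Orth D σ ρ

/-- the reference pairs of a fundamental root, and their reach -/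
def RefPairs (D : ChevalleyDatum) (p : ℕ) (d : ℕ × ℕ × ℕ × ℕ) : Prop :=
  d.1 < D.nroots ∧ d.2.2.1 < D.nroots ∧ (∃ q, hdN D d.1 d.2.1 = some (p, q)) ∧
    Move D d.1 d.2.1 d.2.2.1 d.2.2.2 ∧ Move D d.2.2.1 d.2.2.2 d.1 d.2.1 ∧
    ∀ β γ q, β < D.nroots → hdN D β γ = some (p, q) →
      (β = d.1 ∧ γ = d.2.1) ∨ (β = d.2.1 ∧ γ = d.1) ∨ Move D β γ d.1 d.2.1 ∨ Move D γ β d.1 d.2.1

/-- Facts about a simply laced datum. -/
structure Data (C : Cert D) : Prop where
  len : ∀ r s, r < D.nroots → (D.chainEntry r s).length ≤ 1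
  unit : ∀ r s k q, r < D.nroots → hdN D r s = some (k, q) → q = 1 ∨ q = -1
  ref : ∀ i, i < D.rank → ∃ d, RefPairs D (D.simple i) d

/-- every root commuting with a fundamental root commutes with the parts of a decomposition of it -/
def Wit (D : ChevalleyDatum) : Prop :=
  ∀ i s, i < D.rank → s < D.nroots → Orth D (D.simple i) s →
    ∃ β γ q, β < D.nroots ∧ hdN D β γ = some (D.simple i, q) ∧ Orth D β s ∧ Orth D γ s

/-! ### combinatorics -/

section Comb

theorem pair_lt (C : Cert D) {r s k : ℕ} {q : ℤ} (hr : r < D.nroots) (h : hdN D r s = some (k, q)) :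
    s < D.nroots ∧ s ≠ r ∧ s ≠ D.neg r ∧ k < D.nroots ∧ k ≠ r ∧ k ≠ D.neg r := by
  rw [hdN_eq C] at h
  obtain ⟨a, b, c, -, d, e, f⟩ := entry_getElem C hr h
  exact ⟨a, b, c, d, e, f⟩

theorem orth_symm (C : Cert D) {r s : ℕ} (hr : r < D.nroots) (hs : s < D.nroots) (h : Orth D r s) :
    Orth D s r := by
  refine ⟨?_, Ne.symm h.2.1, fun e => h.2.2 (by rw [e, neg_neg' C hs])⟩
  rw [C.antisym r s hr hs, h.1]; rfl

theorem pair_symm (C : Cert D) {r s k : ℕ} {q : ℤ} (hr : r < D.nroots) (h : hdN D r s = some (k, q)) :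
    hdN D s r = some (k, -q) := by
  rw [C.antisym r s hr (pair_lt C hr h).1, h]; rfl

theorem entry_of_hdN (hD : Data C) {r s k : ℕ} {q : ℤ} (hr : r < D.nroots) (h : hdN D r s = some (k, q)) :
    D.chainEntry r s = [(k, q)] := by
  rw [hdN] at h
  have hl := hD.len r s hr
  match he : D.chainEntry r s, h, hl with
  | [], h, _ => simp at h
  | [a], h, _ => simp at h; rw [h]
  | _ :: _ :: _, _, hl => simp at hl

theorem orth_sum_left (hD : Data C) {r s k : ℕ} {q : ℤ} (hr : r < D.nroots) (h : hdN D r s = some (k, q)) :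
    Orth D r k := by
  have he := entry_of_hdN hD hr h
  obtain ⟨-, -, -, -, h5, h6⟩ := pair_lt C hr h
  refine ⟨?_, h5, h6⟩
  have := step_next C (r := r) (s := s) (k := 0) (q := (k, q)) hr (by rw [he]; rfl)
  rw [he] at this
  rcases hk : hdN D r k with _ | a
  · rfl
  · simp [hk] at this

theorem orth_sum_right (hD : Data C) {r s k : ℕ} {q : ℤ} (hr : r < D.nroots) (h : hdN D r s = some (k, q)) :
    Orth D s k :=
  orth_sum_left hD (pair_lt C hr h).1 (pair_symm C hr h)

theorem commTerms_orth (C : Cert D) {r s : ℕ} (hr : r < D.nroots) (hs : s < D.nroots) (h : Orth D r s) :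
    D.commTerms r s = [] := by
  have he : D.chainEntry r s = [] := by simpa [hdN] using h.1
  have he' := antisym_entry C hr hs he
  simp [ChevalleyDatum.commTerms, ChevalleyDatum.chainRoot, he, he']

theorem commTerms_pair (hD : Data C) {r s k : ℕ} {q : ℤ} (hr : r < D.nroots) (h : hdN D r s = some (k, q)) :
    D.commTerms r s = [(k, q, 1, 1)] := by
  have he := entry_of_hdN hD hr h
  have he' := entry_of_hdN hD (pair_lt C hr h).1 (pair_symm C hr h)
  simp [ChevalleyDatum.commTerms, ChevalleyDatum.chainRoot, ChevalleyDatum.chainM, he, he']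

theorem orth_w (C : Cert D) {i r s : ℕ} (hi : i < D.rank) (hr : r < D.nroots) (hs : s < D.nroots)
    (h : Orth D r s) : Orth D (wr D i r) (wr D i s) := by
  refine ⟨?_, fun e => h.2.1 (w_inj C hi hs hr e), fun e => h.2.2 ?_⟩
  · rcases he : hdN D (wr D i r) (wr D i s) with _ | q
    · rfl
    · have := C.equiv i _ _ q hi (C.w_lt i r hi hr) (C.w_lt i s hi hs) he
      rw [w_invol C hi hr, w_invol C hi hs, h.1] at this
      exact absurd this (by simp)
  · rw [← w_neg C hi hr] at e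
    exact w_inj C hi hs (C.neg_lt r) e

theorem exists_pair (hD : Data C) : ∀ r, r < D.nroots → ∃ β γ q, β < D.nroots ∧ hdN D β γ = some (r, q) := by
  refine root_induction C (fun i hi => ?_) fun i r hi hr ⟨β, γ, q, hβ, h⟩ => ?_
  · obtain ⟨d, h1, -, ⟨q, h3⟩, -⟩ := hD.ref i hi
    exact ⟨_, _, q, h1, h3⟩
  · exact ⟨_, _, _, C.w_lt i β hi hβ, C.equiv i β γ _ hi hβ (pair_lt C hβ h).1 h⟩

end Comb

variable {F : Type*} [Field F] {P : Type*} [Group P] (S : Sys C F P)

/-! ### relations in `P` -/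

theorem cast_sq (hD : Data C) {r s k : ℕ} {q : ℤ} (hr : r < D.nroots) (h : hdN D r s = some (k, q)) :
    (q : F) * (q : F) = 1 := by
  rcases hD.unit r s k q hr h with e | e <;> simp [e]

theorem x_comm {r s : ℕ} (hr : r < D.nroots) (hs : s < D.nroots) (h : Orth D r s) (t u : F) :
    Commute (S.x r t) (S.x s u) := by
  have hc := S.comm r s hr hs h.2.1 h.2.2 t u
  simp only [ChevalleyDatum.commWord, commTerms_orth C hr hs h, List.map_nil, List.prod_nil, mul_one] at hc
  exact hc.symm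

theorem x_bracket (hD : Data C) {r s k : ℕ} {q : ℤ} (hr : r < D.nroots) (h : hdN D r s = some (k, q))
    (t u : F) : ⁅S.x r t, S.x s u⁆ = S.x k (q * t * u) := by
  have h' := pair_symm C hr h
  obtain ⟨hs, h1, h2, hk, -⟩ := pair_lt C hr h
  have hs' := (pair_lt C hs h').2
  have hc := S.comm s r hs hr hs'.1 hs'.2.1 u t
  simp only [ChevalleyDatum.commWord, commTerms_pair hD hs h', List.map_cons, List.map_nil, List.prod_cons,
    List.prod_nil, mul_one, pow_one] at hc
  rw [show ((-q : ℤ) : F) * -u * t = q * t * u by push_cast; ring] at hc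
  have cr := (x_comm S hr hk (orth_sum_left hD hr h) t (q * t * u)).eq
  have cs := (x_comm S hs hk (orth_sum_right hD hr h) u (q * t * u)).eq
  rw [commutatorElement_def, hc, mul_assoc (S.x s u), cr, ← mul_assoc (S.x s u), cs]
  group

/-! ### commutators of lifts -/

variable {Γ : Type*} [Group Γ] (π : Γ →* P) (hπ : Function.Surjective π) (hc : π.ker ≤ Subgroup.center Γ)

/-- a lift of a root element -/
noncomputable def L (r : ℕ) (a : F) : Γ := Function.surjInv hπ (S.x r a)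

theorem π_L (r : ℕ) (a : F) : π (L S π hπ r a) = S.x r a := Function.surjInv_eq hπ _

/-- the commutator of two lifts -/
noncomputable def Φ (r s : ℕ) (a b : F) : Γ := ⁅L S π hπ r a, L S π hπ s b⁆

include hc in
theorem Φ_congr {g g' : Γ} {r s : ℕ} {a b : F} (h : π g = S.x r a) (h' : π g' = S.x s b) :
    ⁅g, g'⁆ = Φ S π hπ r s a b :=
  StemPairing.bracket_congr hc (by rw [h, π_L]) (by rw [h', π_L])

theorem π_Φ (hD : Data C) {r s k : ℕ} {q : ℤ} (hr : r < D.nroots) (h : hdN D r s = some (k, q)) (a b : F) :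
    π (Φ S π hπ r s a b) = S.x k (q * a * b) := by
  rw [Φ, map_commutatorElement, π_L, π_L, x_bracket S hD hr h]

include hc in
theorem comm_of_wit (hD : Data C) {r s β γ : ℕ} {q : ℤ} (hs : s < D.nroots) (hβ : β < D.nroots)
    (h : hdN D β γ = some (r, q)) (hβs : Orth D β s) (hγs : Orth D γ s) (a b : F) :
    Φ S π hπ r s a b = 1 := by
  have hγ := (pair_lt C hβ h).1
  rw [← Φ_congr S π hπ hc (g := Φ S π hπ β γ (q * a) 1) (g' := L S π hπ s b)
    (by rw [π_Φ S π hπ hD hβ h, ← mul_assoc, cast_sq hD hβ h, one_mul, mul_one]) (π_L S π hπ s b),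
    commutatorElement_eq_one_iff_commute]
  refine (mul_inv_eq_iff_eq_mul.1 ?_).symm
  rw [Φ, conjugate_commutatorElement]
  refine StemPairing.bracket_congr hc ?_ ?_ <;>
    rw [map_mul, map_mul, map_inv, π_L, π_L, mul_inv_eq_iff_eq_mul]
  · exact (x_comm S hs hβ (orth_symm C hβ hs hβs) b _).eq
  · exact (x_comm S hs hγ (orth_symm C hγ hs hγs) b _).eq

/-- all lifts of commuting root elements commute -/
def CommAll : Prop :=
  ∀ r s, r < D.nroots → s < D.nroots → Orth D r s → ∀ a b : F, Φ S π hπ r s a b = 1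

section Equivariance

variable (hG : Gen D)

include hG hc in
theorem conj_Φ {i r s : ℕ} (hi : i < D.rank) (hr : r < D.nroots) (hs : s < D.nroots) (a b : F) :
    ∃ g : Γ, g * Φ S π hπ r s a b * g⁻¹ =
      Φ S π hπ (wr D i r) (wr D i s) ((C.eta i r : F) * a) ((C.eta i s : F) * b) := by
  obtain ⟨g, hg⟩ := hπ (n S i 1)
  refine ⟨g, ?_⟩
  rw [Φ, conjugate_commutatorElement]
  apply Φ_congr S π hπ hc <;>
    rw [map_mul, map_mul, map_inv, hg, π_L, n_conj S hG hi (by assumption) one_ne_zero, cn, one_zpow, one_mul]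

include hG hc in
theorem commAll_of_wit (hD : Data C) (hW : Wit D) : CommAll S π hπ := by
  intro r s hr
  revert s
  refine root_induction C (P := fun r => ∀ s, s < D.nroots → Orth D r s →
    ∀ a b : F, Φ S π hπ r s a b = 1) (fun i hi s hs h a b => ?_) ?_ r hr
  · obtain ⟨β, γ, q, hβ, hp, h1, h2⟩ := hW i s hi hs h
    exact comm_of_wit S π hπ hc hD hs hβ hp h1 h2 a b
  · intro i r hi hr ih s hs h a b
    have hs' := C.w_lt i s hi hs
    have h' : Orth D r (wr D i s) := by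
      have := orth_w C hi (C.w_lt i r hi hr) hs h
      rwa [w_invol C hi hr] at this
    obtain ⟨g, hg⟩ := conj_Φ S π hπ hc hG hi hr hs' ((C.eta i r : F) * a)
      ((C.eta i (wr D i s) : F) * b)
    rw [ih _ hs' h', w_invol C hi hs, ← mul_assoc, ← mul_assoc, eta_cast_sq C i r, eta_cast_sq C i _,
      one_mul, one_mul, mul_one, mul_inv_cancel] at hg
    exact hg.symm

end Equivariance

variable (hA : CommAll S π hπ)

include hc hA in
theorem Φ_add (hD : Data C) {β γ k : ℕ} {q : ℤ} (hβ : β < D.nroots) (h : hdN D β γ = some (k, q))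
    (a b b' : F) : Φ S π hπ β γ a (b + b') = Φ S π hπ β γ a b * Φ S π hπ β γ a b' := by
  obtain ⟨hγ, -, -, hk, -⟩ := pair_lt C hβ h
  set x := L S π hπ β a
  set y := L S π hπ γ b
  set y' := L S π hπ γ b'
  have e : ⁅x, y * y'⁆ = ⁅x, y⁆ * (y * ⁅x, y'⁆ * y⁻¹) := by
    simp only [commutatorElement_def]; group
  have hcm : ⁅y, ⁅x, y'⁆⁆ = 1 := by
    rw [Φ_congr S π hπ hc (g := y) (g' := ⁅x, y'⁆) (π_L S π hπ γ b) (π_Φ S π hπ hD hβ h a b')]
    exact hA γ k hγ hk (orth_sum_right hD hβ h) _ _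
  rw [commutatorElement_eq_one_iff_commute] at hcm
  rw [← Φ_congr S π hπ hc (g := x) (g' := y * y') (π_L S π hπ β a)
    (by rw [map_mul, π_L, π_L, S.x_add γ hγ]), e, hcm.eq, mul_inv_cancel_right]
  rfl

include hc hA in
theorem Φ_neg (hD : Data C) {β γ k : ℕ} {q : ℤ} (hβ : β < D.nroots) (h : hdN D β γ = some (k, q))
    (a b : F) : Φ S π hπ β γ a (-b) = (Φ S π hπ β γ a b)⁻¹ := by
  have h0 := Φ_add S π hπ hc hA hD hβ h a 0 0
  rw [add_zero, left_eq_mul] at h0
  have := Φ_add S π hπ hc hA hD hβ h a b (-b)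
  rw [add_neg_cancel, h0] at this
  exact eq_inv_of_mul_eq_one_right this.symm

include hc hA in
theorem move_eq (hD : Data C) {c ρ a σ : ℕ} (hcl : c < D.nroots) (hal : a < D.nroots)
    (hm : Move D c ρ a σ) (t u : F) : ∃ v, Φ S π hπ c ρ t u = Φ S π hπ a σ 1 v := by
  obtain ⟨b, q₁, q₂, h1, h2, hac, hσρ⟩ := hm
  obtain ⟨hb, -, -, hρ, -⟩ := pair_lt C hal h1
  obtain ⟨-, -, -, hσ, -⟩ := pair_lt C hcl h2
  set A := L S π hπ a 1
  set B := L S π hπ b (q₁ * u)
  set X := L S π hπ c t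
  refine ⟨q₂ * t * (q₁ * u), ?_⟩
  set Y := ⁅X, B⁆ with hY
  have hπY : π Y = S.x σ (q₂ * t * (q₁ * u)) := π_Φ S π hπ hD hcl h2 t _
  have hπAB : π ⁅A, B⁆ = S.x ρ u := by
    rw [show ⁅A, B⁆ = Φ S π hπ a b 1 (q₁ * u) from rfl, π_Φ S π hπ hD hal h1, mul_one, ← mul_assoc,
      cast_sq hD hal h1, one_mul]
  have hcm : Commute Y ⁅A, B⁆ := by
    rw [← commutatorElement_eq_one_iff_commute, Φ_congr S π hπ hc hπY hπAB]
    exact hA σ ρ hσ hρ hσρ _ _
  have hXA : π (X * A * X⁻¹) = π A := by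
    rw [map_mul, map_mul, map_inv, π_L, π_L, mul_inv_eq_iff_eq_mul]
    exact (x_comm S hal hcl hac 1 t).symm.eq
  have e1 : ⁅A, Y * B⁆ = ⁅A, Y⁆ * (Y * ⁅A, B⁆ * Y⁻¹) := by
    simp only [commutatorElement_def]; group
  have e2 : X * ⁅A, B⁆ * X⁻¹ = ⁅A, Y⁆ * ⁅A, B⁆ := by
    rw [conjugate_commutatorElement, StemPairing.bracket_congr hc (a' := A) (b' := Y * B) hXA
      (congrArg π (show X * B * X⁻¹ = Y * B by rw [hY, commutatorElement_def]; group)), e1, hcm.eq,
      mul_inv_cancel_right]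
  calc Φ S π hπ c ρ t u = ⁅X, ⁅A, B⁆⁆ := (Φ_congr S π hπ hc (π_L S π hπ c t) hπAB).symm
    _ = X * ⁅A, B⁆ * X⁻¹ * ⁅A, B⁆⁻¹ := commutatorElement_def _ _
    _ = ⁅A, Y⁆ := by rw [e2, mul_inv_cancel_right]
    _ = _ := Φ_congr S π hπ hc (π_L S π hπ a 1) hπY

/-- the commutators of lifts for the sum `r` depend only on their images -/
def Uniq (r : ℕ) : Prop :=
  ∀ β γ q β' γ' q', β < D.nroots → β' < D.nroots → hdN D β γ = some (r, q) →
    hdN D β' γ' = some (r, q') → ∀ a b a' b' : F,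
    π (Φ S π hπ β γ a b) = π (Φ S π hπ β' γ' a' b') → Φ S π hπ β γ a b = Φ S π hπ β' γ' a' b'

include hc hA in
theorem uniq_simple (hD : Data C) {i : ℕ} (hi : i < D.rank) : Uniq S π hπ (D.simple i) := by
  obtain ⟨⟨b0, c0, b1, c1⟩, h0, h1, ⟨q0, hq0⟩, m01, m10, hall⟩ := hD.ref i hi
  dsimp only at *
  have red0 : ∀ t u : F, ∃ v, Φ S π hπ b0 c0 t u = Φ S π hπ b0 c0 1 v := by
    intro t u
    obtain ⟨v, hv⟩ := move_eq S π hπ hc hA hD h0 h1 m01 t u
    obtain ⟨w, hw⟩ := move_eq S π hπ hc hA hD h1 h0 m10 1 v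
    exact ⟨w, hv.trans hw⟩
  have swap : ∀ β γ, (∀ t u : F, ∃ v, Φ S π hπ γ β t u = Φ S π hπ b0 c0 1 v) →
      ∀ t u : F, ∃ v, Φ S π hπ β γ t u = Φ S π hπ b0 c0 1 v := by
    intro β γ h t u
    obtain ⟨v, hv⟩ := h u t
    refine ⟨-v, ?_⟩
    rw [Φ_neg S π hπ hc hA hD h0 hq0, ← hv]
    exact (commutatorElement_inv _ _).symm
  have red : ∀ β γ q, β < D.nroots → hdN D β γ = some (D.simple i, q) →
      ∀ t u : F, ∃ v, Φ S π hπ β γ t u = Φ S π hπ b0 c0 1 v := by
    intro β γ q hβ hp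
    rcases hall β γ q hβ hp with ⟨rfl, rfl⟩ | ⟨rfl, rfl⟩ | hm | hm
    · exact red0
    · exact swap _ _ red0
    · exact fun t u => move_eq S π hπ hc hA hD hβ h0 hm t u
    · exact swap _ _ fun t u => move_eq S π hπ hc hA hD (pair_lt C hβ hp).1 h0 hm t u
  intro β γ q β' γ' q' hβ hβ' hp hp' a b a' b' he
  obtain ⟨v, hv⟩ := red β γ q hβ hp a b
  obtain ⟨v', hv'⟩ := red β' γ' q' hβ' hp' a' b'
  rw [hv, hv', π_Φ S π hπ hD h0 hq0, π_Φ S π hπ hD h0 hq0] at he
  have := congrArg S.θ he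
  rw [S.θ_x _ (simple_lt C hi), S.θ_x _ (simple_lt C hi)] at this
  have h' := xg_inj C (simple_lt C hi) this
  rw [mul_one] at h'
  rw [hv, hv', mul_left_cancel₀ (left_ne_zero_of_mul_eq_one (cast_sq hD h0 hq0)) h']

variable (hG : Gen D)

include hc hA hG in
theorem uniq (hD : Data C) : ∀ r, r < D.nroots → Uniq S π hπ r := by
  refine root_induction C (fun i hi => uniq_simple S π hπ hc hA hD hi) ?_
  intro i r hi hr ih β γ q β' γ' q' hβ hβ' hp hp' a b a' b' he
  have hγ := (pair_lt C hβ hp).1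
  have hγ' := (pair_lt C hβ' hp').1
  have hwp := C.equiv i β γ _ hi hβ hγ hp
  have hwp' := C.equiv i β' γ' _ hi hβ' hγ' hp'
  simp only [w_invol C hi hr] at hwp hwp'
  obtain ⟨g, hg⟩ := hπ (n S i 1)
  have key : ∀ (x y : ℕ) (hx : x < D.nroots) (hy : y < D.nroots) (c d : F), g * Φ S π hπ x y c d * g⁻¹ =
      Φ S π hπ (wr D i x) (wr D i y) ((C.eta i x : F) * c) ((C.eta i y : F) * d) := by
    intro x y hx hy c d
    rw [Φ, conjugate_commutatorElement]
    apply Φ_congr S π hπ hc <;>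
      rw [map_mul, map_mul, map_inv, hg, π_L, n_conj S hG hi (by assumption) one_ne_zero, cn, one_zpow,
        one_mul]
  have hh : g * Φ S π hπ β γ a b * g⁻¹ = g * Φ S π hπ β' γ' a' b' * g⁻¹ := by
    rw [key β γ hβ hγ, key β' γ' hβ' hγ']
    refine ih _ _ _ _ _ _ (C.w_lt i β hi hβ) (C.w_lt i β' hi hβ') hwp hwp' _ _ _ _ ?_
    rw [← key β γ hβ hγ, ← key β' γ' hβ' hγ']
    simp only [map_mul, he]
  exact mul_left_cancel (mul_right_cancel hh)

include hc hA hG in
/-- the relations lift to a stem extension -/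
theorem lift_sys (hD : Data C) (hk : π.ker ≤ commutator Γ) :
    ∃ T : Sys C F Γ, T.θ = S.θ.comp π ∧ ∀ r, r < D.nroots → ∀ t : F, π (T.x r t) = S.x r t := by
  choose β γ q hβ hp using exists_pair hD
  let x : ℕ → F → Γ := fun r a =>
    if hr : r < D.nroots then Φ S π hπ (β r hr) (γ r hr) 1 (q r hr * a) else 1
  have hπx : ∀ r, r < D.nroots → ∀ a, π (x r a) = S.x r a := by
    intro r hr a
    simp only [x, dif_pos hr]
    rw [π_Φ S π hπ hD (hβ r hr) (hp r hr), mul_one, ← mul_assoc, cast_sq hD (hβ r hr) (hp r hr), one_mul]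
  have val : ∀ b c k (q' : ℤ), b < D.nroots → hdN D b c = some (k, q') → ∀ t u : F,
      Φ S π hπ b c t u = x k (q' * t * u) := by
    intro b c k q' hb h t u
    have hkl := (pair_lt C hb h).2.2.2.1
    have h2 : π (Φ S π hπ b c t u) = π (x k (q' * t * u)) := by rw [π_Φ S π hπ hD hb h, hπx k hkl]
    simp only [x, dif_pos hkl] at h2 ⊢
    exact uniq S π hπ hc hA hG hD k hkl b c q' _ _ _ hb (hβ k hkl) h (hp k hkl) _ _ _ _ h2
  have hgen : Subgroup.closure {g : Γ | ∃ r, r < D.nroots ∧ ∃ t : F, g = x r t} = ⊤ := by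
    set K := Subgroup.closure {g : Γ | ∃ r, r < D.nroots ∧ ∃ t : F, g = x r t}
    have hK : ∀ g : Γ, ∃ k ∈ K, π k = π g := by
      intro g
      have hle : ⊤ ≤ K.map π := by
        rw [← S.gen, Subgroup.closure_le]
        rintro y ⟨r, hr, t, rfl⟩
        exact ⟨x r t, Subgroup.subset_closure ⟨r, hr, t, rfl⟩, hπx r hr t⟩
      obtain ⟨k, hk, e⟩ := hle (Subgroup.mem_top (π g))
      exact ⟨k, hk, e⟩
    have hcK : commutator Γ ≤ K := by
      rw [_root_.commutator_def, Subgroup.commutator_le]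
      intro a _ b _
      obtain ⟨a', ha, ea⟩ := hK a
      obtain ⟨b', hb, eb⟩ := hK b
      rw [← StemPairing.bracket_congr hc ea eb, commutatorElement_def]
      exact mul_mem (mul_mem (mul_mem ha hb) (inv_mem ha)) (inv_mem hb)
    refine eq_top_iff.2 fun g _ => ?_
    obtain ⟨k, hkK, e⟩ := hK g
    have : k⁻¹ * g ∈ K := hcK (hk (by rw [MonoidHom.mem_ker, map_mul, map_inv, e, inv_mul_cancel]))
    simpa using mul_mem hkK this
  refine ⟨⟨x, S.θ.comp π, ?_, ?_, fun r hr t => ?_, hgen⟩, rfl, hπx⟩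
  · intro r hr t u
    simp only [x, dif_pos hr, mul_add]
    exact (Φ_add S π hπ hc hA hD (hβ r hr) (hp r hr) _ _ _).symm
  · intro r s hr hs h1 h2 t u
    rcases hh : hdN D r s with _ | ⟨k, q'⟩
    · have ho : Orth D r s := ⟨hh, h1, h2⟩
      simp only [ChevalleyDatum.commWord, commTerms_orth C hr hs ho, List.map_nil, List.prod_nil, mul_one]
      refine (commutatorElement_eq_one_iff_mul_comm.1 ?_).symm
      rw [Φ_congr S π hπ hc (hπx r hr t) (hπx s hs u)]
      exact hA r s hr hs ho t u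
    · simp only [ChevalleyDatum.commWord, commTerms_pair hD hr hh, List.map_cons, List.map_nil,
        List.prod_cons, List.prod_nil, mul_one, pow_one]
      have hk' := (pair_lt C hr hh).2.2.2.1
      set K := x k ((q' : F) * -t * u)
      have hSR : ⁅x s u, x r t⁆ = K := by
        rw [Φ_congr S π hπ hc (hπx s hs u) (hπx r hr t), val s r k (-q') hs (pair_symm C hr hh)]
        congr 1; push_cast; ring
      have c1 : Commute (x r t) K := by
        rw [← commutatorElement_eq_one_iff_commute, Φ_congr S π hπ hc (hπx r hr t) (hπx k hk' _)]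
        exact hA r k hr hk' (orth_sum_left hD hr hh) _ _
      have c2 : Commute (x s u) K := by
        rw [← commutatorElement_eq_one_iff_commute, Φ_congr S π hπ hc (hπx s hs u) (hπx k hk' _)]
        exact hA s k hs hk' (orth_sum_right hD hr hh) _ _
      rw [mul_assoc (x r t), c2.eq, ← mul_assoc (x r t), c1.eq, ← hSR, commutatorElement_def]
      group
  · rw [MonoidHom.comp_apply, hπx r hr, S.θ_x r hr]

end Cfsg.Agent.StClosedADE
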