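import Cfsg.Agent.Lib.StSepCases

/-!
Lifting of Steinberg's relations for types G2, B2, D4, F4 over fields with more than four elements, and for
B2, D4, F4 over the field with four elements.
-/

set_option autoImplicit false
set_option linter.unusedSectionVars false

namespace Cfsg.Agent.StClosedSmall

open Cfsg.Lie Cfsg.Agent.ChevalleyCert Cfsg.Agent.ChevalleyCheck Cfsg.Agent.ChevalleyCheckSound
open Cfsg.Agent.StBasic Cfsg.Agent.StLifts Cfsg.Agent.StSepData

variable {F : Type*} [Field F]

theorem exists_scalar (h5 : ∃ s : Finset F, 4 < s.card) :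
    ∃ x : F, x ≠ 0 ∧ x + 1 ≠ 0 ∧ x ^ 2 + x + 1 ≠ 0 := by
  classical
  obtain ⟨s, hs⟩ := h5
  open Polynomial in
  let P : F[X] := X * (X + C 1) * (X ^ 2 + X + C 1)
  have hdeg : P.natDegree ≤ 4 := by simp only [P]; compute_degree
  have hP0 : P ≠ 0 := by
    intro h
    have := congrArg (fun p : Polynomial F => p.coeff 4) h
    simp only [P] at this
    ring_nf at this
    simp [Polynomial.coeff_X_pow, Polynomial.coeff_X] at this
  obtain ⟨x, -, hx⟩ : ∃ x ∈ s, P.eval x ≠ 0 := by
    by_contra hcon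
    push Not at hcon
    exact hP0 (Polynomial.eq_zero_of_natDegree_lt_card_of_eval_eq_zero' P s hcon (by omega))
  simp only [P, Polynomial.eval_mul, Polynomial.eval_X, Polynomial.eval_add, Polynomial.eval_pow,
    Polynomial.eval_C, mul_ne_zero_iff] at hx
  exact ⟨x, hx.1.1, hx.1.2, hx.2⟩

theorem exists_torsion_free (h5 : ∃ s : Finset F, 4 < s.card) :
    ∃ c : F, c ≠ 0 ∧ ∀ k ∈ [1, 2, 3], c ^ k ≠ 1 := by
  classical
  rcases finite_or_infinite F with hfin | hinf
  · haveI := Fintype.ofFinite F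
    obtain ⟨s, hs⟩ := h5
    have hcard : 4 < Fintype.card F := lt_of_lt_of_le hs (Finset.card_le_univ s)
    obtain ⟨g, hg⟩ := IsCyclic.exists_generator (α := Fˣ)
    have ho : orderOf g = Fintype.card F - 1 := by
      rw [orderOf_eq_card_of_forall_mem_zpowers hg, Nat.card_eq_fintype_card, Fintype.card_units]
    refine ⟨g, g.ne_zero, fun k hk he => ?_⟩
    have hd : orderOf g ∣ k := orderOf_dvd_of_pow_eq_one (Units.ext (by simpa using he))
    simp only [List.mem_cons, List.not_mem_nil, or_false] at hk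
    have := Nat.le_of_dvd (by omega) hd
    omega
  · open Polynomial in
    let P : F[X] := X * (X ^ 2 - C 1) * (X ^ 3 - C 1)
    have hP0 : P ≠ 0 := by
      simp only [P, ne_eq, mul_eq_zero, not_or]
      exact ⟨⟨Polynomial.X_ne_zero, Polynomial.X_pow_sub_C_ne_zero (by norm_num) 1⟩,
        Polynomial.X_pow_sub_C_ne_zero (by norm_num) 1⟩
    obtain ⟨c, hc⟩ := Infinite.exists_notMem_finset P.roots.toFinset
    rw [Multiset.mem_toFinset, Polynomial.mem_roots hP0] at hc
    simp only [P, Polynomial.IsRoot, Polynomial.eval_mul, Polynomial.eval_sub, Polynomial.eval_X,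
      Polynomial.eval_pow, Polynomial.eval_C, mul_eq_zero, sub_eq_zero, not_or] at hc
    refine ⟨c, hc.1.1, fun k hk => ?_⟩
    simp only [List.mem_cons, List.not_mem_nil, or_false] at hk
    rcases hk with rfl | rfl | rfl
    · intro h
      rw [pow_one] at h
      exact hc.1.2 (by rw [h, one_pow])
    · exact hc.1.2
    · exact hc.2

variable {D : ChevalleyDatum} {C : Cert D} {P : Type*} [Group P] (S : Sys C F P) (hG : Gen D)
variable {Γ : Type*} [Group Γ] (π : Γ →* P) (hπ : Function.Surjective π) (hc : π.ker ≤ Subgroup.center Γ)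
variable (hk : π.ker ≤ commutator Γ)
variable (hT : TorusOK S π)

include hG hπ hc hk hT in
theorem lift_of_big {T : Tables} {ks : List ℕ} {E : List (List ℤ)} (hF : chkFast D T = true)
    (hp : chkPairs D T ks E = true) (hs : chkScal D T ks E = true) (hks : ∀ k ∈ ks, k ∈ [1, 2, 3])
    (h5 : ∃ s : Finset F, 4 < s.card) :
    ∃ U : Sys C F Γ, U.θ = S.θ.comp π ∧ ∀ r, r < D.nroots → ∀ t : F, π (U.x r t) = S.x r t := by
  obtain ⟨x, h0, h1, h2⟩ := exists_scalar h5
  obtain ⟨c, hc0, hck⟩ := exists_torsion_free h5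
  refine lift_of_pairs C hF hc0 (fun k hk' => hck k (hks k hk')) S hG π hπ hc hp hT (fun r hr => ?_) hk
  have h := allR hs hr
  simp only [Bool.or_eq_true] at h
  rcases h with h | h
  · exact commPair_self hπ hc hG hr (scal_of_scalB hF hr h) h0 h1 h2
  · exact commPair_of_selfB C hF hc0 (fun k hk' => hck k (hks k hk')) S hG π hπ hc false (by simp) hr h

include hG hπ hc hk hT in
theorem lift_of_four {T : Tables} {E : List (List ℤ)} (hF : chkFast D T = true)
    (hp : chkPairs D T [1, 2] E = true) (hs : chkSelf D T [1, 2] E = true)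
    {c : F} (hc0 : c ≠ 0) (hc2 : c ^ 2 ≠ 1) (h2 : (2 : F) = 0) :
    ∃ U : Sys C F Γ, U.θ = S.θ.comp π ∧ ∀ r, r < D.nroots → ∀ t : F, π (U.x r t) = S.x r t := by
  have hks : ∀ k ∈ [1, 2], c ^ k ≠ 1 := by
    intro k hk'
    simp only [List.mem_cons, List.not_mem_nil, or_false] at hk'
    rcases hk' with rfl | rfl
    · intro h
      rw [pow_one] at h
      exact hc2 (by rw [h, one_pow])
    · exact hc2
  exact lift_of_pairs C hF hc0 hks S hG π hπ hc hp hT
    (fun r hr => commPair_of_selfB C hF hc0 hks S hG π hπ hc true (fun _ => h2) hr (allR hs hr)) hk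

end Cfsg.Agent.StClosedSmall
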