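import Cfsg.Agent.Lib.StClosedGen

/-!
Torus equivariant lifts of root elements, and the vanishing of commutators of lifts of commuting root elements.
-/

set_option autoImplicit false
set_option linter.unusedSectionVars false

namespace Cfsg.Agent.StLifts

open scoped commutatorElement
open Cfsg.Lie Cfsg.Agent.ChevalleyCert Cfsg.Agent.ChevalleyRoots Cfsg.Agent.StBasic Cfsg.Agent.StClosedGen

variable {D : ChevalleyDatum} {C : Cert D} {F : Type*} [Field F] {P : Type*} [Group P] {S : Sys C F P}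
variable {Γ : Type*} [Group Γ] {π : Γ →* P} (hπ : Function.Surjective π) (hc : π.ker ≤ Subgroup.center Γ)
variable (hG : Gen D)

/-- lifts of `x_r` and `x_s` commute -/
def CommPair (S : Sys C F P) (π : Γ →* P) (r s : ℕ) : Prop :=
  ∀ t u : F, ∀ g g' : Γ, π g = S.x r t → π g' = S.x s u → Commute g g'

include hG hc hπ in
theorem bracket_scale {r s : ℕ} (hr : r < D.nroots) (hs : s < D.nroots)
    (hcm : ∀ t u : F, Commute (S.x r t) (S.x s u)) {L : List (ℕ × F)} (hL : TList D L) :
    ∀ t u : F, ∀ g g' : Γ, π g = S.x r t → π g' = S.x s u → ∀ k k' : Γ,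
      π k = S.x r (chi D L r * t) → π k' = S.x s (chi D L s * u) → ⁅k, k'⁆ = ⁅g, g'⁆ := by
  induction L with
  | nil =>
    intro t u g g' hg hg' k k' hk hk'
    simp only [chi, List.map_nil, List.prod_nil, one_mul] at hk hk'
    exact StemPairing.bracket_congr hc (hk.trans hg.symm) (hk'.trans hg'.symm)
  | cons p L ih =>
    intro t u g g' hg hg' k k' hk hk'
    have hp := hL p (List.mem_cons_self ..)
    have e : ∀ q, chi D (p :: L) q = p.2 ^ D.cartan p.1 q * chi D L q := fun q => by simp [chi]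
    obtain ⟨m, hm⟩ := hπ (S.x r (chi D L r * t))
    obtain ⟨m', hm'⟩ := hπ (S.x s (chi D L s * u))
    obtain ⟨y, hy⟩ := hπ (h S p.1 p.2)
    rw [← ih (fun q hq => hL q (List.mem_cons_of_mem _ hq)) t u g g' hg hg' m m' hm hm']
    refine StemPairing.bracket_conj hc y (a := m) (b := m') (by rw [hm, hm']; exact hcm _ _) ?_ ?_
    · rw [map_mul, map_mul, map_inv, hy, hm, StBruhat.h_conj S hG hp.1 hr hp.2, hk, e, mul_assoc]
    · rw [map_mul, map_mul, map_inv, hy, hm', StBruhat.h_conj S hG hp.1 hs hp.2, hk', e, mul_assoc]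

include hc in
theorem bracket_left {r s : ℕ} (hr : r < D.nroots) (hcm : ∀ t u : F, Commute (S.x r t) (S.x s u))
    {t t' u : F} {g g' k k₂ : Γ} (hg : π g = S.x r t) (hg' : π g' = S.x r t') (hk : π k = S.x r (t + t'))
    (hk₂ : π k₂ = S.x s u) : ⁅k, k₂⁆ = ⁅g, k₂⁆ * ⁅g', k₂⁆ := by
  rw [← StemPairing.bracket_mul_left hc (a := g) (by rw [hg', hk₂]; exact hcm _ _)]
  exact StemPairing.bracket_congr hc (by rw [hk, map_mul, hg, hg', S.x_add r hr]) rfl

include hc in
theorem bracket_right {r s : ℕ} (hs : s < D.nroots) (hcm : ∀ t u : F, Commute (S.x r t) (S.x s u))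
    {t u u' : F} {g k k' k₂ : Γ} (hg : π g = S.x r t) (hk : π k = S.x s u) (hk' : π k' = S.x s u')
    (hk₂ : π k₂ = S.x s (u + u')) : ⁅g, k₂⁆ = ⁅g, k⁆ * ⁅g, k'⁆ := by
  rw [← StemPairing.bracket_mul_right hc (b := k) (by rw [hg, hk']; exact hcm _ _)]
  exact StemPairing.bracket_congr hc rfl (by rw [hk₂, map_mul, hk, hk', S.x_add s hs])

include hπ hc hG in
/-- commuting root elements separated by the torus have commuting lifts -/
theorem commPair_of_sep {r s : ℕ} (hr : r < D.nroots) (hs : s < D.nroots)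
    (hcm : ∀ t u : F, Commute (S.x r t) (S.x s u)) (hsep : Sep D F r s) : CommPair S π r s := by
  obtain ⟨L, hL, ⟨e1, e2⟩ | ⟨e1, e2⟩⟩ := hsep
  · intro t u g g' hg hg'
    rw [← commutatorElement_eq_one_iff_commute]
    set v := u / (chi D L s - 1) with hv
    obtain ⟨k, hk⟩ := hπ (S.x s v)
    obtain ⟨k₂, hk₂⟩ := hπ (S.x s (chi D L s * v))
    have h1 := bracket_scale hπ hc hG hr hs hcm hL t v g k hg hk g k₂ (by rw [e1, one_mul, hg]) hk₂
    have h2 := bracket_right hc hs hcm hg hg' hk (k₂ := k₂)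
      (by rw [hk₂, hv]; congr 1; field_simp [sub_ne_zero.2 e2]; ring)
    rw [h1] at h2
    exact mul_eq_right.1 h2.symm
  · intro t u g g' hg hg'
    rw [← commutatorElement_eq_one_iff_commute]
    set v := t / (chi D L r - 1) with hv
    obtain ⟨k, hk⟩ := hπ (S.x r v)
    obtain ⟨k₂, hk₂⟩ := hπ (S.x r (chi D L r * v))
    have h1 := bracket_scale hπ hc hG hr hs hcm hL v u k g' hk hg' k₂ g' hk₂ (by rw [e2, one_mul, hg'])
    have h2 := bracket_left hc hr hcm hg hk (k := k₂)
      (by rw [hk₂, hv]; congr 1; field_simp [sub_ne_zero.2 e1]; ring) hg'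
    rw [h1] at h2
    exact mul_eq_right.1 h2.symm

include hc in
/-- a root subgroup inside a subgroup generated by elements whose lifts commute with those of `x_s` -/
theorem commPair_of_closure {r s : ℕ} {Z : Set P} (hmem : ∀ t : F, S.x r t ∈ Subgroup.closure Z)
    (hπ : Function.Surjective π)
    (hZ : ∀ z ∈ Z, ∀ u : F, ∀ g g' : Γ, π g = z → π g' = S.x s u → Commute g g') : CommPair S π r s := by
  intro t u g g' hg hg'
  have key : ∀ z ∈ Subgroup.closure Z, ∀ g : Γ, π g = z → Commute g g' := by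
    intro z hz
    induction hz using Subgroup.closure_induction with
    | mem y hy => exact fun g hg => hZ y hy u g g' hg hg'
    | one =>
      intro g hg
      exact (StemBasic.ker_comm hc hg g').symm
    | mul a b _ _ ha hb =>
      intro g hg
      obtain ⟨a', ha'⟩ := hπ a
      have hb' : π (a'⁻¹ * g) = b := by rw [map_mul, map_inv, ha', hg, inv_mul_cancel_left]
      have := (ha a' ha').mul_left (hb _ hb')
      rwa [mul_inv_cancel_left] at this
    | inv a _ ha =>
      intro g hg
      have := (ha g⁻¹ (by rw [map_inv, hg, inv_inv])).inv_left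
      rwa [inv_inv] at this
  exact key _ (hmem t) g hg

include hπ hc hG in
/-- a root subgroup on which the torus acts by all scalars has commutative preimage if `|F| > 4` -/
theorem commPair_self {r : ℕ} (hr : r < D.nroots)
    (hscal : ∀ d : F, d ≠ 0 → ∃ L, TList D L ∧ chi D L r = d)
    {x : F} (h0 : x ≠ 0) (h1 : x + 1 ≠ 0) (h2 : x ^ 2 + x + 1 ≠ 0) : CommPair S π r r := by
  have hcm : ∀ t u : F, Commute (S.x r t) (S.x r u) := fun t u => by
    rw [Commute, SemiconjBy, S.x_add r hr, S.x_add r hr, add_comm]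
  let B : F → F → Γ := fun t u => ⁅Function.surjInv hπ (S.x r t), Function.surjInv hπ (S.x r u)⁆
  have hs : ∀ y, π (Function.surjInv hπ y) = y := Function.surjInv_eq hπ
  have hB : ∀ t u g g', π g = S.x r t → π g' = S.x r u → ⁅g, g'⁆ = B t u := fun t u g g' hg hg' =>
    StemPairing.bracket_congr hc (by rw [hg, hs]) (by rw [hg', hs])
  have hl : ∀ t t' u, B (t + t') u = B t u * B t' u := fun t t' u =>
    bracket_left hc hr hcm (hs _) (hs _) (hs _) (hs _)
  have hrr : ∀ t u u', B t (u + u') = B t u * B t u' := fun t u u' =>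
    bracket_right hc hr hcm (hs _) (hs _) (hs _) (hs _)
  have hinv : ∀ d, d ≠ 0 → ∀ t u, B (d * t) (d * u) = B t u := by
    intro d hd t u
    obtain ⟨L, hL, rfl⟩ := hscal d hd
    exact bracket_scale hπ hc hG hr hr hcm hL t u _ _ (hs _) (hs _) _ _ (hs _) (hs _)
  have key : ∀ d : F, d ≠ 0 → ∀ a b, B (d * a) b = B a (b / d) := by
    intro d hd a b
    conv_lhs => rw [show b = d * (b / d) by field_simp]
    rw [hinv d hd]
  have hzero : ∀ a b, B a b = 1 := by
    intro a b
    set w := b / (1 + 1 / x - 1 / (1 + x)) with hw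
    have h1' : 1 + x ≠ 0 := by rwa [add_comm]
    have hc0 : (1 : F) + 1 / x - 1 / (1 + x) ≠ 0 := by
      rw [show (1 : F) + 1 / x - 1 / (1 + x) = (x ^ 2 + x + 1) / (x * (1 + x)) by field_simp; ring]
      exact div_ne_zero h2 (mul_ne_zero h0 h1')
    have e : B a (w / (1 + x)) = B a (w + w / x) := by
      rw [hrr, ← key _ h1', ← key _ h0, ← hl, add_mul, one_mul]
    rw [show w + w / x = w * (1 + 1 / x - 1 / (1 + x)) + w / (1 + x) by ring, hw,
      div_mul_cancel₀ b hc0, hrr] at e
    exact right_eq_mul.1 e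
  intro t u g g' hg hg'
  rw [← commutatorElement_eq_one_iff_commute, hB t u g g' hg hg', hzero]

include hπ hc in
/-- over a prime field the preimage of a root subgroup is commutative -/
theorem commPair_self_prime {r : ℕ} (hr : r < D.nroots) (hprime : ∀ a : F, ∃ k : ℕ, a = k) :
    CommPair S π r r := by
  intro t u g g' hg hg'
  obtain ⟨g₀, hg₀⟩ := hπ (S.x r 1)
  have hnat : ∀ k : ℕ, π (g₀ ^ k) = S.x r (k : F) := by
    intro k
    induction k with
    | zero => rw [pow_zero, map_one, Nat.cast_zero, x_zero S hr]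
    | succ k ih => rw [pow_succ, map_mul, ih, hg₀, S.x_add r hr, Nat.cast_succ]
  obtain ⟨k, rfl⟩ := hprime t
  obtain ⟨m, rfl⟩ := hprime u
  rw [← commutatorElement_eq_one_iff_commute,
    StemPairing.bracket_congr hc (hg.trans (hnat k).symm) (hg'.trans (hnat m).symm),
    commutatorElement_eq_one_iff_commute]
  exact Commute.pow_pow_self g₀ k m

/-- conjugation by a lift of a torus element does not move the brackets with another one -/
def TorusOK (S : Sys C F P) (π : Γ →* P) : Prop :=
  ∀ i j, i < D.rank → j < D.rank → ∀ d d' : F, d ≠ 0 → d' ≠ 0 → ∀ g y : Γ, π g = h S i d → π y = h S j d' →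
    ∀ a : Γ, ⁅g * y * g⁻¹, a⁆ = ⁅y, a⁆

include hc in
theorem torusOK_of_commute
    (hT : ∀ i j, i < D.rank → j < D.rank → ∀ d d' : F, d ≠ 0 → d' ≠ 0 → Commute (h S i d) (h S j d')) :
    TorusOK S π := fun i j hi hj d d' hd hd' g y hg hy a =>
  StemPairing.bracket_congr hc
    (by rw [map_mul, map_mul, map_inv, hg, hy, (hT i j hi hj d d' hd hd').eq, mul_inv_cancel_right]) rfl

include hc in
/-- commutation in the Chevalley group suffices when the kernel onto it is central -/
theorem torusOK_of_central (hc2 : (S.θ.comp π).ker ≤ Subgroup.center Γ) : TorusOK S π := by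
  intro i j hi hj d d' hd hd' g y hg hy a
  refine StemPairing.bracket_congr (σ := S.θ.comp π) hc2 ?_ rfl
  simp only [MonoidHom.comp_apply, map_mul, map_inv, hg, hy, θ_h S hi, θ_h S hj]
  have e1 := ChevalleyTorus.hg_simple C (i := ⟨i, hi⟩) (Units.mk0 d hd)
  have e2 := ChevalleyTorus.hg_simple C (i := ⟨j, hj⟩) (Units.mk0 d' hd')
  simp only [Units.val_mk0] at e1 e2
  rw [e1, e2, ← map_mul, ← map_inv, ← map_mul]
  congr 1
  rw [mul_comm (Pi.mulSingle _ _), mul_inv_cancel_right]

/-- a lift of one root subgroup -/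
def LiftAt (S : Sys C F P) (π : Γ →* P) (r : ℕ) : Prop :=
  ∃ f : F → Γ, (∀ t, π (f t) = S.x r t) ∧ (∀ t u, f t * f u = f (t + u)) ∧
    ∀ i, i < D.rank → ∀ d : F, d ≠ 0 → ∀ g : Γ, π g = h S i d → ∀ t,
      g * f t * g⁻¹ = f (d ^ D.cartan i r * t)

theorem exists_lifts (H : ∀ r, r < D.nroots → LiftAt S π r) : Nonempty (Lifts S π) := by
  choose f h1 h2 h3 using H
  refine ⟨⟨fun r t => if hr : r < D.nroots then f r hr t else 1, fun r hr t => ?_, fun r hr t u => ?_,
    fun i hi d hd g hg r hr t => ?_⟩⟩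
  · simp only [dif_pos hr, h1]
  · simp only [dif_pos hr, h2]
  · simp only [dif_pos hr]
    exact h3 r hr i hi d hd g hg t

include hπ hc hG in
/-- a root with a torus element acting non-trivially -/
theorem liftAt_of_torus {r j : ℕ} (hr : r < D.nroots) (hj : j < D.rank) {c : F} (hc0 : c ≠ 0)
    (hne : c ^ D.cartan j r ≠ 1) (hT : TorusOK S π)
    (hA : CommPair S π r r) : LiftAt S π r := by
  set χ := c ^ D.cartan j r with hχ
  have hχ1 : χ - 1 ≠ 0 := sub_ne_zero.2 hne
  obtain ⟨y, hy⟩ := hπ (h S j c)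
  have hs : ∀ z, π (Function.surjInv hπ z) = z := Function.surjInv_eq hπ
  set f : F → Γ := fun t => ⁅y, Function.surjInv hπ (S.x r (t / (χ - 1)))⁆ with hf
  have hπf : ∀ t, π (f t) = S.x r t := by
    intro t
    rw [hf, map_commutatorElement, hy, hs, commutatorElement_def, StBruhat.h_conj S hG hj hr hc0,
      x_inv S hr, S.x_add r hr]
    congr 1
    rw [← hχ]
    field_simp
    ring
  refine ⟨f, hπf, fun t u => ?_, fun i hi d hd g hg t => ?_⟩
  · set a := Function.surjInv hπ (S.x r (t / (χ - 1)))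
    set b := Function.surjInv hπ (S.x r (u / (χ - 1)))
    have e : ⁅y, a * b⁆ = ⁅y, a⁆ * (a * ⁅y, b⁆ * a⁻¹) := by
      simp only [commutatorElement_def]; group
    have hcb : Commute a ⁅y, b⁆ := hA _ _ a ⁅y, b⁆ (hs _) (hπf u)
    have e2 : ⁅y, a * b⁆ = f (t + u) :=
      StemPairing.bracket_congr hc rfl (by rw [map_mul, hs, hs, hs, S.x_add r hr, add_div])
    rw [← e2, e, hcb.eq, mul_inv_cancel_right]
  · rw [hf]
    simp only
    rw [conjugate_commutatorElement, hT i j hi hj d c hd hc0 g y hg hy]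
    refine StemPairing.bracket_congr hc ?_ ?_
    · rfl
    · rw [map_mul, map_mul, map_inv, hg, hs, hs, StBruhat.h_conj S hG hi hr hd, mul_div_assoc]

/-- lifts of commuting root elements with a trivial word give the hypothesis of the relation lemma -/
theorem pairs_of (X : Lifts S π)
    (H : ∀ r s, r < D.nroots → s < D.nroots → s ≠ r → s ≠ D.neg r →
      Sep D F r s ∨ ((∀ c ∈ D.commTerms r s, (c.2.1 : F) = 0) ∧ CommPair S π r s)) : Pairs X := by
  intro r s hr hs h1 h2
  rcases H r s hr hs h1 h2 with h | ⟨hz, hcp⟩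
  · exact Or.inl h
  refine Or.inr <| Or.inr <| Or.inl fun t u => ⟨List.prod_eq_one ?_, hcp t u _ _ (X.π_x r hr t) (X.π_x s hs u)⟩
  intro g hg
  simp only [ChevalleyDatum.commWord, List.map_map, List.mem_map] at hg
  obtain ⟨c, hc', rfl⟩ := hg
  simp only [Function.comp_apply, hz c hc', zero_mul]
  exact X.x_zero (commTerms_mem C hr hs hc').1

end Cfsg.Agent.StLifts
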