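import Cfsg.Agent.Lib.StSepData

/-!
The checks for the data G2, B2, D4, F4.
-/

set_option autoImplicit false
set_option maxRecDepth 100000

namespace Cfsg.Agent.StSepCases

open Cfsg.Lie Cfsg.Agent.ChevalleyCheck Cfsg.Agent.StSepData

def eG2 : List (List ℤ) := [[-1, 0], [0, -1], [-1, -1], [-1, -2], [-1, -3]]

def eB2 : List (List ℤ) := [[-1, 0], [0, -1], [-1, -1]]

def eD4 : List (List ℤ) :=
  [[-1, 0, -1, 0], [-1, 0, 0, -1], [-1, 0, 0, 1], [-1, -2, -1, 0],
    [-1, 0, 0, 0], [0, -1, 0, 0], [-1, -1, 0, 0], [0, 0, -1, 0], [0, -1, -1, 0]]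

def eF4 : List (List ℤ) :=
  [[-1, 0, 0, 0], [0, -1, 0, 0], [-1, -1, -2, 0], [0, -1, -2, -2], [-1, -2, -2, -1], [0, 0, -1, 0],
    [0, 0, 0, -1], [0, -1, -1, 0], [-1, -1, -2, -1], [-1, -1, -1, 0], [-1, 0, 0, 1]]

theorem pairs_G2 : chkPairs chevG2 ChevalleyDataG2.tables [1, 2, 3] eG2 = true := by decide +kernel

theorem pairs_B2 : chkPairs chevB2 ChevalleyDataB2.tables [1, 2] eB2 = true := by decide +kernel

theorem pairs_D4 : chkPairs chevD4 ChevalleyDataD4.tables [1, 2] eD4 = true := by decide +kernel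

theorem pairs_F4 : chkPairs chevF4 ChevalleyDataF4.tables [1, 2] eF4 = true := by decide +kernel

theorem scal_G2 : chkScal chevG2 ChevalleyDataG2.tables [1, 2, 3] eG2 = true := by decide +kernel

theorem scal_B2 : chkScal chevB2 ChevalleyDataB2.tables [1, 2] eB2 = true := by decide +kernel

theorem scal_D4 : chkScal chevD4 ChevalleyDataD4.tables [1, 2] eD4 = true := by decide +kernel

theorem scal_F4 : chkScal chevF4 ChevalleyDataF4.tables [1, 2] eF4 = true := by decide +kernel

theorem self_B2 : chkSelf chevB2 ChevalleyDataB2.tables [1, 2] eB2 = true := by decide +kernel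

theorem self_D4 : chkSelf chevD4 ChevalleyDataD4.tables [1, 2] eD4 = true := by decide +kernel

theorem self_F4 : chkSelf chevF4 ChevalleyDataF4.tables [1, 2] eF4 = true := by decide +kernel

end Cfsg.Agent.StSepCases
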