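import Cfsg.Agent.Lib.StLifts
import Cfsg.Agent.Lib.ChevalleyAll

/-!
Separation of pairs of roots by the torus for the data G2, B2, D4, F4, checked on the tables, and the resulting
lifting theorem for fields with at least four elements.
-/

set_option autoImplicit false
set_option linter.unusedSectionVars false
set_option maxRecDepth 100000

namespace Cfsg.Agent.StSepData

open scoped commutatorElement
open Cfsg.Lie Cfsg.Agent.ChevalleyEngine Cfsg.Agent.ChevalleyCert Cfsg.Agent.ChevalleyRoots
open Cfsg.Agent.ChevalleyCheck Cfsg.Agent.ChevalleyCheckSound Cfsg.Agent.StBasic Cfsg.Agent.StClosedGen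
open Cfsg.Agent.StLifts

variable (D : ChevalleyDatum) (T : Tables)

/-- value of the cocharacter `e` at the root `r` -/
def dot (e : List ℤ) (r : ℕ) : ℤ := ((List.range D.rank).map fun j => e.getD j 0 * cartT T j r).sum

def absIn (ks : List ℕ) (a : ℤ) : Bool := ks.any fun k => Nat.beq a.natAbs k

def sepB (ks : List ℕ) (E : List (List ℤ)) (r s : ℕ) : Bool :=
  E.any fun e =>
    let a := dot D T e r
    let b := dot D T e s
    (decide (a = 0) && absIn ks b) || (decide (b = 0) && absIn ks a)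

def chkPairs (ks : List ℕ) (E : List (List ℤ)) : Bool :=
  (List.range D.nroots).all fun r =>
    ((List.range D.rank).any fun j => absIn ks (cartT T j r)) &&
      (List.range D.nroots).all fun s => Nat.beq s r || Nat.beq s (negA D r) || sepB D T ks E r s

/-- the torus acts on `x_r` by all scalars -/
def scalB (E : List (List ℤ)) (r : ℕ) : Bool := E.any fun e => Nat.beq (dot D T e r).natAbs 1

/-- coefficient zero, or even when `two` -/
def zeroB (two : Bool) (C : ℤ) : Bool := decide (C = 0) || (two && decide (C % 2 = 0))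

def okB (two : Bool) (ks : List ℕ) (E : List (List ℤ)) (r z : ℕ) : Bool :=
  Nat.blt z D.nroots && !Nat.beq r z && !Nat.beq r (negA D z) &&
    ((D.commTerms z r).all fun c => zeroB two c.2.1) && sepB D T ks E z r

/-- `x_r` is in the group generated by root elements commuting with it -/
def selfB (two : Bool) (ks : List ℕ) (E : List (List ℤ)) (r : ℕ) : Bool :=
  (List.range D.nroots).any fun a => okB D T two ks E r a && (row D a).any fun e =>
    let ts := D.commTerms a e.1
    okB D T two ks E r e.1 && !Nat.beq e.1 a && !Nat.beq e.1 (negA D a) &&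
      (List.range ts.length).any fun m =>
        match ts[m]? with
        | none => false
        | some c => Nat.beq c.1 r && Nat.beq c.2.1.natAbs 1 && (Nat.beq c.2.2.1 1 || Nat.beq c.2.2.2 1) &&
            (ts.take m ++ ts.drop (m + 1)).all fun c' => okB D T two ks E r c'.1

def chkScal (ks : List ℕ) (E : List (List ℤ)) : Bool :=
  (List.range D.nroots).all fun r => scalB D T E r || selfB D T false ks E r

def chkSelf (ks : List ℕ) (E : List (List ℤ)) : Bool :=
  (List.range D.nroots).all fun r => selfB D T true ks E r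

variable {D T} {C : Cert D} {F : Type*} [Field F] {ks : List ℕ} {E : List (List ℤ)}

/-- the torus element of a cocharacter -/
def tlist (D : ChevalleyDatum) (e : List ℤ) (c : F) : List (ℕ × F) :=
  (List.range D.rank).map fun j => (j, c ^ e.getD j 0)

theorem cartT_of_fast (hF : chkFast D T = true) {i s : ℕ} (hi : i < D.rank) (hs : s < D.nroots) :
    cartT T i s = D.cartan i s := by
  simp only [chkFast, Bool.and_eq_true] at hF
  have h1 : (D.cartanSR.getD i #[]).toList = (List.range D.nroots).map (cartT T i) := by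
    simpa using allR hF.1 hi
  have h2 : (D.cartanSR.getD i #[]).getD s 0 = ((D.cartanSR.getD i #[]).toList).getD s 0 := by
    rw [Array.getD_eq_getD_getElem?, List.getD_eq_getElem?_getD, Array.getElem?_toList]
  rw [ChevalleyDatum.cartan, h2, h1, List.getD_eq_getElem?_getD]
  simp [hs]

theorem chi_tlist (hF : chkFast D T = true) (e : List ℤ) {c : F} (hc : c ≠ 0) {r : ℕ} (hr : r < D.nroots) :
    TList D (tlist D e c) ∧ chi D (tlist D e c) r = c ^ dot D T e r := by
  constructor
  · intro p hp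
    obtain ⟨j, hj, rfl⟩ := List.mem_map.1 hp
    exact ⟨List.mem_range.1 hj, zpow_ne_zero _ hc⟩
  · rw [chi, tlist, List.map_map, dot]
    have : ∀ l : List ℕ, (∀ j ∈ l, j < D.rank) →
        (l.map ((fun p => p.2 ^ D.cartan p.1 r) ∘ fun j => (j, c ^ e.getD j 0))).prod =
          c ^ (l.map fun j => e.getD j 0 * cartT T j r).sum := by
      intro l hl
      induction l with
      | nil => simp
      | cons j l ih =>
        rw [List.map_cons, List.prod_cons, ih (fun k hk => hl k (List.mem_cons_of_mem _ hk)), List.map_cons,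
          List.sum_cons, zpow_add₀ hc, zpow_mul, cartT_of_fast hF (hl j (List.mem_cons_self ..)) hr]
        rfl
    exact this _ fun j hj => List.mem_range.1 hj

theorem ne_one_of_absIn {c : F} (hks : ∀ k ∈ ks, c ^ k ≠ 1) {a : ℤ} (h : absIn ks a = true) : c ^ a ≠ 1 := by
  simp only [absIn, List.any_eq_true, Nat.beq_eq] at h
  obtain ⟨k, hk, rfl⟩ := h
  intro he
  apply hks _ hk
  rcases Int.natAbs_eq a with e | e <;> rw [e] at he
  · rwa [zpow_natCast] at he
  · rwa [zpow_neg, zpow_natCast, inv_eq_one] at he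

variable (hF : chkFast D T = true) {c : F} (hc : c ≠ 0) (hks : ∀ k ∈ ks, c ^ k ≠ 1)

include hF hc hks in
theorem sep_of_sepB {r s : ℕ} (hr : r < D.nroots) (hs : s < D.nroots) (h : sepB D T ks E r s = true) :
    Sep D F r s := by
  simp only [sepB, List.any_eq_true, Bool.or_eq_true, Bool.and_eq_true, decide_eq_true_eq] at h
  obtain ⟨e, -, h⟩ := h
  obtain ⟨h1, h2⟩ := chi_tlist hF e hc hr
  obtain ⟨-, h3⟩ := chi_tlist hF e hc hs
  refine ⟨tlist D e c, h1, ?_⟩
  rw [h2, h3]
  rcases h with ⟨ha, hb⟩ | ⟨hb, ha⟩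
  · exact Or.inl ⟨by rw [ha, zpow_zero], ne_one_of_absIn hks hb⟩
  · exact Or.inr ⟨ne_one_of_absIn hks ha, by rw [hb, zpow_zero]⟩

include hF in
theorem scal_of_scalB {r : ℕ} (hr : r < D.nroots) (h : scalB D T E r = true) (d : F) (hd : d ≠ 0) :
    ∃ L, TList D L ∧ chi D L r = d := by
  simp only [scalB, List.any_eq_true, Nat.beq_eq] at h
  obtain ⟨e, -, h⟩ := h
  rcases Int.natAbs_eq (dot D T e r) with he | he <;> rw [h] at he
  · obtain ⟨h1, h2⟩ := chi_tlist hF e hd hr
    exact ⟨_, h1, by rw [h2, he, Nat.cast_one, zpow_one]⟩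
  · obtain ⟨h1, h2⟩ := chi_tlist hF e (inv_ne_zero hd) hr
    exact ⟨_, h1, by rw [h2, he, Nat.cast_one, zpow_neg_one, inv_inv]⟩

variable (C) {P : Type*} [Group P] (S : Sys C F P) (hG : Gen D) {Γ : Type*} [Group Γ] (π : Γ →* P)
variable (hπ : Function.Surjective π) (hcen : π.ker ≤ Subgroup.center Γ)
variable (two : Bool) (htwo : two = true → (2 : F) = 0)

include hF hc hks hG hπ hcen htwo in
theorem commPair_of_selfB {r : ℕ} (hr : r < D.nroots) (h : selfB D T two ks E r = true) :
    CommPair S π r r := by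
  have hzero : ∀ k : ℤ, zeroB two k = true → (k : F) = 0 := by
    intro k hk
    simp only [zeroB, Bool.or_eq_true, Bool.and_eq_true, decide_eq_true_eq] at hk
    rcases hk with rfl | ⟨h2, hk⟩
    · exact Int.cast_zero
    · obtain ⟨m, rfl⟩ := Int.dvd_of_emod_eq_zero hk
      simp [htwo h2]
  have hok : ∀ z, okB D T two ks E r z = true → z < D.nroots ∧ CommPair S π z r := by
    intro z hz
    simp only [okB, Bool.and_eq_true, Bool.not_eq_true', Bool.eq_false_iff, ne_eq, Nat.beq_eq, Nat.blt_eq,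
      List.all_eq_true] at hz
    obtain ⟨⟨⟨⟨hzl, h1⟩, h2⟩, hts⟩, hsep⟩ := hz
    rw [negA, ← C.neg_eq z hzl] at h2
    refine ⟨hzl, commPair_of_sep hπ hcen hG hzl hr (fun t u => ?_) (sep_of_sepB hF hc hks hzl hr hsep)⟩
    have e := S.comm z r hzl hr h1 h2 t u
    rw [List.prod_eq_one, mul_one] at e
    · exact e.symm
    intro g hg
    simp only [ChevalleyDatum.commWord, List.map_map, List.mem_map] at hg
    obtain ⟨w, hw, rfl⟩ := hg
    simp only [Function.comp_apply, hzero _ (hts w hw), zero_mul]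
    exact x_zero S (commTerms_mem C hzl hr hw).1
  simp only [selfB, List.any_eq_true, List.mem_range, Bool.and_eq_true, Bool.not_eq_true', Bool.eq_false_iff,
    ne_eq, Nat.beq_eq] at h
  obtain ⟨a, -, hoka, e, -, ⟨⟨hokb, hba⟩, hbn⟩, m, -, hm⟩ := h
  obtain ⟨hal, hca⟩ := hok a hoka
  obtain ⟨hbl, hcb⟩ := hok _ hokb
  rw [negA, ← C.neg_eq a hal] at hbn
  set b := e.1
  set ts := D.commTerms a b with hts
  rcases hT : ts[m]? with _ | w
  · rw [hT] at hm; simp at hm
  rw [hT] at hm
  simp only [Bool.and_eq_true, Bool.or_eq_true, Nat.beq_eq, List.all_eq_true] at hm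
  obtain ⟨⟨⟨hw1, hw2⟩, hw3⟩, hrest⟩ := hm
  obtain ⟨hmlt, hTm⟩ := List.getElem?_eq_some_iff.1 hT
  have hsplit : ts = ts.take m ++ w :: ts.drop (m + 1) := by
    conv_lhs => rw [← List.take_append_drop m ts, List.drop_eq_getElem_cons hmlt, hTm]
  set Z : Set P := {z | ∃ q, q < D.nroots ∧ CommPair S π q r ∧ ∃ v : F, z = S.x q v}
  refine commPair_of_closure hcen (Z := Z) (fun v => ?_) hπ ?_
  swap
  · rintro z ⟨q, hq, hqr, v, rfl⟩ u g g' hg hg'
    exact hqr v u g g' hg hg'
  obtain ⟨t, u, htu⟩ : ∃ t u : F, (w.2.1 : F) * (-t) ^ w.2.2.1 * u ^ w.2.2.2 = v := by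
    have hC : (w.2.1 : F) * (w.2.1 : F) = 1 := by
      rcases Int.natAbs_eq w.2.1 with e | e <;> rw [hw2] at e <;> simp [e]
    rcases hw3 with e | e
    · exact ⟨-((w.2.1 : F) * v), 1, by rw [e, neg_neg, pow_one, one_pow, mul_one, ← mul_assoc, hC, one_mul]⟩
    · exact ⟨-1, (w.2.1 : F) * v, by rw [e, neg_neg, one_pow, pow_one, mul_one, ← mul_assoc, hC, one_mul]⟩
  have hxa : ∀ v : F, S.x a v ∈ Subgroup.closure Z := fun v => Subgroup.subset_closure ⟨a, hal, hca, v, rfl⟩
  have hxb : ∀ v : F, S.x b v ∈ Subgroup.closure Z := fun v => Subgroup.subset_closure ⟨b, hbl, hcb, v, rfl⟩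
  have hW : ((D.commWord F a b t u).map fun p => S.x p.1 p.2).prod ∈ Subgroup.closure Z := by
    have he := S.comm a b hal hbl hba hbn t u
    have : ((D.commWord F a b t u).map fun p => S.x p.1 p.2).prod =
        (S.x a t * S.x b u)⁻¹ * (S.x b u * S.x a t) := by rw [he, inv_mul_cancel_left]
    rw [this]
    exact mul_mem (inv_mem (mul_mem (hxa t) (hxb u))) (mul_mem (hxb u) (hxa t))
  have hrest' : ∀ L : List (ℕ × ℤ × ℕ × ℕ), (∀ w' ∈ L, w' ∈ ts.take m ++ ts.drop (m + 1)) →
      (L.map fun c' => S.x c'.1 ((c'.2.1 : F) * (-t) ^ c'.2.2.1 * u ^ c'.2.2.2)).prod ∈ Subgroup.closure Z := by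
    intro L hL
    refine Subgroup.list_prod_mem _ fun g hg => ?_
    obtain ⟨w', hw', rfl⟩ := List.mem_map.1 hg
    obtain ⟨h1, h2⟩ := hok _ (hrest w' (hL w' hw'))
    exact Subgroup.subset_closure ⟨_, h1, h2, _, rfl⟩
  rw [show D.commWord F a b t u = ts.map fun c' => (c'.1, (c'.2.1 : F) * (-t) ^ c'.2.2.1 * u ^ c'.2.2.2)
    from rfl, List.map_map, hsplit, List.map_append, List.map_cons, List.prod_append, List.prod_cons] at hW
  simp only [Function.comp_def, hw1, htu] at hW
  have h1 := hrest' (ts.take m) fun w' h => List.mem_append_left _ h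
  have h2 := hrest' (ts.drop (m + 1)) fun w' h => List.mem_append_right _ h
  exact (Subgroup.mul_mem_cancel_right _ h2).1 ((Subgroup.mul_mem_cancel_left _ h1).1 hW)

include hF hc hks hG hπ hcen in
theorem lift_of_pairs (hchk : chkPairs D T ks E = true)
    (hT : TorusOK S π)
    (hA : ∀ r, r < D.nroots → CommPair S π r r) (hk : π.ker ≤ commutator Γ) :
    ∃ U : Sys C F Γ, U.θ = S.θ.comp π ∧ ∀ r, r < D.nroots → ∀ t : F, π (U.x r t) = S.x r t := by
  have hL : ∀ r, r < D.nroots → LiftAt S π r := by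
    intro r hr
    have h := (Bool.and_eq_true _ _ ▸ allR hchk hr).1
    simp only [List.any_eq_true, List.mem_range] at h
    obtain ⟨j, hj, h⟩ := h
    rw [cartT_of_fast hF hj hr] at h
    exact liftAt_of_torus hπ hcen hG hr hj hc (ne_one_of_absIn hks h) hT
      (hA r hr)
  obtain ⟨X⟩ := exists_lifts hL
  refine lift_sys X hπ hcen ?_ hk
  intro r s hr hs h1 h2
  have h := allR (Bool.and_eq_true _ _ ▸ allR hchk hr).2 hs
  rw [negA, ← C.neg_eq r hr] at h
  simp only [Bool.or_eq_true, Nat.beq_eq, h1, h2, false_or] at h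
  exact Or.inl (sep_of_sepB hF hc hks hr hs h)

end Cfsg.Agent.StSepData
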