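import Cfsg.Agent.Lib.StClosedSmall

/-!
Lifting of Steinberg's relations over fields of three elements: pairs of roots not separated by the torus commute,
and so do their lifts when one of them lies in the commutator subgroup of the centraliser of the other.
-/

set_option autoImplicit false
set_option linter.unusedSectionVars false
set_option maxRecDepth 100000

namespace Cfsg.Agent.StThree

open scoped commutatorElement
open Cfsg.Lie Cfsg.Agent.ChevalleyCert Cfsg.Agent.ChevalleyRoots Cfsg.Agent.ChevalleyCheck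
open Cfsg.Agent.ChevalleyCheckSound Cfsg.Agent.StBasic Cfsg.Agent.StClosedGen Cfsg.Agent.StLifts
open Cfsg.Agent.StSepData

variable (D : ChevalleyDatum) (T : Tables)

/-- distinct roots with a word vanishing modulo 3 -/
def zeroWord (r s : ℕ) : Bool :=
  Nat.blt r D.nroots && !Nat.beq s r && !Nat.beq s (negA D r) &&
    (D.commTerms r s).all fun c => decide (c.2.1 % 3 = 0)

/-- `x_r` comes from commutators in the centraliser of `x_s` -/
def witB (E : List (List ℤ)) (r s : ℕ) : Bool :=
  (List.range D.nroots).any fun a => zeroWord D a s && (row D a).any fun e =>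
    let ts := D.commTerms a e.1
    zeroWord D e.1 s && !Nat.beq e.1 a && !Nat.beq e.1 (negA D a) && (List.range ts.length).any fun m =>
      match ts[m]? with
      | none => false
      | some c => Nat.beq c.1 r && !decide (c.2.1 % 3 = 0) && (Nat.beq c.2.2.1 1 || Nat.beq c.2.2.2 1) &&
          (ts.take m ++ ts.drop (m + 1)).all fun c' =>
            decide (c'.2.1 % 3 = 0) || (zeroWord D c'.1 s && sepB D T [1] E c'.1 s)

def chkThree (E : List (List ℤ)) : Bool :=
  (List.range D.nroots).all fun r =>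
    ((List.range D.rank).any fun j => absIn [1] (cartT T j r)) &&
      (List.range D.nroots).all fun s => Nat.beq s r || Nat.beq s (negA D r) || sepB D T [1] E r s ||
        (zeroWord D r s && (witB D T E r s || witB D T E s r))

variable {D T} {C : Cert D} {F : Type*} [Field F] {E : List (List ℤ)}
variable {P : Type*} [Group P] {S : Sys C F P} {Γ : Type*} [Group Γ] {π : Γ →* P}
variable (hπ : Function.Surjective π) (hcen : π.ker ≤ Subgroup.center Γ) (hG : Gen D)

include hcen in
theorem commute_lift {z y : P} {a a' b b' g : Γ} (ha : π a = z) (hb : π b = y) (hza : π a' = z) (hyb : π b' = y)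
    (hcz : Commute (π g) z) (hcy : Commute (π g) y) : Commute ⁅a, b⁆ g ∧ ⁅a, b⁆ = ⁅a', b'⁆ := by
  refine ⟨?_, StemPairing.bracket_congr hcen (ha.trans hza.symm) (hb.trans hyb.symm)⟩
  refine (mul_inv_eq_iff_eq_mul.1 ?_).symm
  rw [conjugate_commutatorElement]
  refine StemPairing.bracket_congr hcen ?_ ?_ <;> rw [map_mul, map_mul, map_inv, mul_inv_eq_iff_eq_mul]
  · rw [ha]; exact hcz.eq
  · rw [hb]; exact hcy.eq

theorem commPair_symm {r s : ℕ} (h : CommPair S π r s) : CommPair S π s r :=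
  fun t u g g' hg hg' => (h u t g' g hg' hg).symm

theorem cast_zero_of_mod (h3 : (3 : F) = 0) {k : ℤ} (h : k % 3 = 0) : (k : F) = 0 := by
  obtain ⟨m, rfl⟩ := Int.dvd_of_emod_eq_zero h
  simp [h3]

theorem cast_ne_of_mod (h3 : (3 : F) = 0) (hF : (2 : F) ≠ 0) {k : ℤ} (h : ¬ k % 3 = 0) : (k : F) ≠ 0 := by
  have h3' : ((3 : ℤ) : F) = 0 := by exact_mod_cast h3
  rw [← Int.emod_add_mul_ediv k 3, Int.cast_add, Int.cast_mul, h3', zero_mul, add_zero]
  have hr : k % 3 = 1 ∨ k % 3 = 2 := by omega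
  rcases hr with e | e <;> rw [e] <;> simp [hF]

variable (C) (h3 : (3 : F) = 0)

include C h3 in
theorem word_zero {r s : ℕ} (hs : s < D.nroots) (h : zeroWord D r s = true) :
    r < D.nroots ∧ s ≠ r ∧ s ≠ D.neg r ∧ (∀ c ∈ D.commTerms r s, (c.2.1 : F) = 0) := by
  simp only [zeroWord, Bool.and_eq_true, Bool.not_eq_true', Bool.eq_false_iff, ne_eq, Nat.beq_eq, Nat.blt_eq,
    List.all_eq_true, decide_eq_true_eq] at h
  obtain ⟨⟨⟨hr, h1⟩, h2⟩, h4⟩ := h
  rw [negA, ← C.neg_eq r hr] at h2
  exact ⟨hr, h1, h2, fun c hc => cast_zero_of_mod h3 (h4 c hc)⟩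

include C h3 in
theorem comm_of_zeroWord {r s : ℕ} (hs : s < D.nroots) (h : zeroWord D r s = true) (t u : F) :
    Commute (S.x r t) (S.x s u) := by
  obtain ⟨hr, h1, h2, h4⟩ := word_zero C h3 hs h
  have e := S.comm r s hr hs h1 h2 t u
  rw [List.prod_eq_one, mul_one] at e
  · exact e.symm
  intro g hg
  simp only [ChevalleyDatum.commWord, List.map_map, List.mem_map] at hg
  obtain ⟨w, hw, rfl⟩ := hg
  simp only [Function.comp_apply, h4 w hw, zero_mul]
  exact x_zero S (commTerms_mem C hr hs hw).1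

variable (hF : chkFast D T = true)

include hπ hcen hG h3 hF in
theorem commPair_of_witB (h2 : (2 : F) ≠ 0) {r s : ℕ} (hs : s < D.nroots) (h : witB D T E r s = true) :
    CommPair S π r s := by
  have hks : ∀ k ∈ [1], (-1 : F) ^ k ≠ 1 := by
    intro k hk e
    simp only [List.mem_cons, List.not_mem_nil, or_false] at hk
    subst hk
    rw [pow_one] at e
    exact h2 (by linear_combination -e)
  simp only [witB, List.any_eq_true, List.mem_range, Bool.and_eq_true, Bool.not_eq_true', Bool.eq_false_iff,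
    ne_eq, Nat.beq_eq] at h
  obtain ⟨a, -, hza, e, -, ⟨⟨hzb, hba⟩, hbn⟩, m, -, hm⟩ := h
  obtain ⟨hal, -⟩ := word_zero C h3 hs hza
  obtain ⟨hbl, -⟩ := word_zero C h3 hs hzb
  rw [negA, ← C.neg_eq a hal] at hbn
  set b := e.1
  set ts := D.commTerms a b with hts
  rcases hT : ts[m]? with _ | w
  · rw [hT] at hm; simp at hm
  rw [hT] at hm
  simp only [Bool.and_eq_true, Bool.or_eq_true, Bool.not_eq_true', decide_eq_false_iff_not, decide_eq_true_eq,
    Nat.beq_eq, List.all_eq_true] at hm
  obtain ⟨⟨⟨hw1, hw2⟩, hw3⟩, hrest⟩ := hm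
  obtain ⟨hmlt, hTm⟩ := List.getElem?_eq_some_iff.1 hT
  have hsplit : ts = ts.take m ++ w :: ts.drop (m + 1) := by
    conv_lhs => rw [← List.take_append_drop m ts, List.drop_eq_getElem_cons hmlt, hTm]
  set Z : Set P := {z | ∀ u : F, ∀ g g' : Γ, π g = z → π g' = S.x s u → Commute g g'}
  refine commPair_of_closure hcen (Z := Z) (fun v => ?_) hπ (fun z hz => hz)
  have hC : (w.2.1 : F) ≠ 0 := cast_ne_of_mod h3 h2 hw2
  obtain ⟨t, u, htu⟩ : ∃ t u : F, (w.2.1 : F) * (-t) ^ w.2.2.1 * u ^ w.2.2.2 = v := by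
    rcases hw3 with e | e
    · exact ⟨-(v / (w.2.1 : F)), 1, by rw [e, neg_neg, pow_one, one_pow, mul_one, mul_div_cancel₀ v hC]⟩
    · exact ⟨-1, v / (w.2.1 : F), by rw [e, neg_neg, one_pow, pow_one, mul_one, mul_div_cancel₀ v hC]⟩
  have hW : ((D.commWord F a b t u).map fun p => S.x p.1 p.2).prod ∈ Subgroup.closure Z := by
    have he := S.comm a b hal hbl hba hbn t u
    have : ((D.commWord F a b t u).map fun p => S.x p.1 p.2).prod = ⁅(S.x b u)⁻¹, (S.x a t)⁻¹⁆ := by
      rw [commutatorElement_def, inv_inv, inv_inv]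
      calc _ = (S.x a t * S.x b u)⁻¹ * (S.x b u * S.x a t) := by rw [he, inv_mul_cancel_left]
        _ = _ := by group
    refine Subgroup.subset_closure fun u' g g' hg hg' => ?_
    obtain ⟨A, hA⟩ := hπ ((S.x b u)⁻¹)
    obtain ⟨B, hB⟩ := hπ ((S.x a t)⁻¹)
    have hg2 : π g = π ⁅A, B⁆ := by rw [map_commutatorElement, hA, hB, hg, this]
    obtain ⟨hc', -⟩ := commute_lift (g := g') hcen hA hB hA hB
      (by rw [hg']; exact (comm_of_zeroWord C h3 hs hzb u u').symm.inv_right)
      (by rw [hg']; exact (comm_of_zeroWord C h3 hs hza t u').symm.inv_right)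
    obtain ⟨z, hz, rfl⟩ := StemBasic.exists_ker_mul hg2
    exact hc'.mul_left (StemBasic.ker_comm hcen hz g').symm
  have hrest' : ∀ L : List (ℕ × ℤ × ℕ × ℕ), (∀ w' ∈ L, w' ∈ ts.take m ++ ts.drop (m + 1)) →
      (L.map fun c' => S.x c'.1 ((c'.2.1 : F) * (-t) ^ c'.2.2.1 * u ^ c'.2.2.2)).prod ∈ Subgroup.closure Z := by
    intro L hL
    refine Subgroup.list_prod_mem _ fun g hg => ?_
    obtain ⟨w', hw', rfl⟩ := List.mem_map.1 hg
    have hwts : w' ∈ ts := by
      rcases List.mem_append.1 (hL w' hw') with h | h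
      exacts [List.mem_of_mem_take h, List.mem_of_mem_drop h]
    have hwl := (commTerms_mem C hal hbl hwts).1
    rcases hrest w' (hL w' hw') with h | ⟨hz', hsep⟩
    · rw [cast_zero_of_mod h3 h, zero_mul, zero_mul, x_zero S hwl]
      exact one_mem _
    · exact Subgroup.subset_closure fun u' g g' hg hg' =>
        commPair_of_sep hπ hcen hG hwl hs (comm_of_zeroWord C h3 hs hz')
          (sep_of_sepB hF (neg_ne_zero.2 one_ne_zero) hks hwl hs hsep) _ u' g g' hg hg'
  rw [show D.commWord F a b t u = ts.map fun c' => (c'.1, (c'.2.1 : F) * (-t) ^ c'.2.2.1 * u ^ c'.2.2.2)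
    from rfl, List.map_map, hsplit, List.map_append, List.map_cons, List.prod_append, List.prod_cons] at hW
  simp only [Function.comp_def, hw1, htu] at hW
  have e1 := hrest' (ts.take m) fun w' h => List.mem_append_left _ h
  have e2 := hrest' (ts.drop (m + 1)) fun w' h => List.mem_append_right _ h
  exact (Subgroup.mul_mem_cancel_right _ e2).1 ((Subgroup.mul_mem_cancel_left _ e1).1 hW)

include hπ hcen hG h3 hF in
theorem lift_three (hchk : chkThree D T E = true) (hprime : ∀ a : F, ∃ k : ℕ, a = k)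
    (hT : TorusOK S π)
    (h2 : (2 : F) ≠ 0) (hk : π.ker ≤ commutator Γ) :
    ∃ U : Sys C F Γ, U.θ = S.θ.comp π ∧ ∀ r, r < D.nroots → ∀ t : F, π (U.x r t) = S.x r t := by
  have hc0 : (-1 : F) ≠ 0 := neg_ne_zero.2 one_ne_zero
  have hks : ∀ k ∈ [1], (-1 : F) ^ k ≠ 1 := by
    intro k hk' e
    simp only [List.mem_cons, List.not_mem_nil, or_false] at hk'
    subst hk'
    rw [pow_one] at e
    exact h2 (by linear_combination -e)
  have hL : ∀ r, r < D.nroots → LiftAt S π r := by
    intro r hr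
    have h := (Bool.and_eq_true _ _ ▸ allR hchk hr).1
    simp only [List.any_eq_true, List.mem_range] at h
    obtain ⟨j, hj, h⟩ := h
    rw [cartT_of_fast hF hj hr] at h
    exact liftAt_of_torus hπ hcen hG hr hj hc0 (ne_one_of_absIn hks h)
      hT (commPair_self_prime hπ hcen hr hprime)
  obtain ⟨X⟩ := exists_lifts hL
  refine lift_sys X hπ hcen (pairs_of X ?_) hk
  intro r s hr hs h1 h2'
  have h := allR (Bool.and_eq_true _ _ ▸ allR hchk hr).2 hs
  rw [negA, ← C.neg_eq r hr] at h
  simp only [Bool.or_eq_true, Bool.and_eq_true, Nat.beq_eq, h1, h2', false_or] at h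
  rcases h with h | ⟨hz, hw⟩
  · exact Or.inl (sep_of_sepB hF hc0 hks hr hs h)
  · refine Or.inr ⟨(word_zero C h3 hs hz).2.2.2, ?_⟩
    rcases hw with h | h
    · exact commPair_of_witB C hπ hcen hG h3 hF h2 hs h
    · exact commPair_symm (commPair_of_witB C hπ hcen hG h3 hF h2 hr h)

theorem three_F4 : chkThree chevF4 ChevalleyDataF4.tables
    [[0, 0, -1, 0], [0, -1, -1, 0], [0, 0, 0, -1], [-1, -1, -2, -1], [-1, -1, -1, 0], [-1, 0, 0, 1]] = true := by
  decide +kernel

end Cfsg.Agent.StThree
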