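import Cfsg.Agent.Lib.StMultSmall

/-!
Type B2 over the field of three elements: the long root elements are lifted as commutators of lifted short ones.
-/

set_option autoImplicit false
set_option linter.unusedSectionVars false
set_option maxRecDepth 100000

namespace Cfsg.Agent.StThreeB2

open scoped commutatorElement
open Cfsg.Lie Cfsg.Agent.ChevalleyCert Cfsg.Agent.ChevalleyRoots Cfsg.Agent.ChevalleyCheck
open Cfsg.Agent.ChevalleyCheckSound Cfsg.Agent.StBasic Cfsg.Agent.StClosedGen Cfsg.Agent.StLifts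
open Cfsg.Agent.StSepData Cfsg.Agent.StThree

variable {D : ChevalleyDatum} {C : Cert D} {F : Type*} [Field F] {P : Type*} [Group P] {S : Sys C F P}
variable {Γ : Type*} [Group Γ] {π : Γ →* P} (hπ : Function.Surjective π) (hcen : π.ker ≤ Subgroup.center Γ)
variable (hG : Gen D)

/-- the lift of `x_k(v)` made from lifts of a pair with sum `k` and constant `c` -/
def pairLift (fa fb : F → Γ) (c : F) (v : F) : Γ := ⁅fb (-1), fa (v / c)⁆

section Pair

variable {a b k : ℕ} {Cz : ℤ} (ha : a < D.nroots) (hb : b < D.nroots) (hk : k < D.nroots) (hba : b ≠ a)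
  (hbn : b ≠ D.neg a) (hterms : D.commTerms a b = [(k, Cz, 1, 1)])
variable {fa fb : F → Γ} (hfa : ∀ t, π (fa t) = S.x a t) (hfaadd : ∀ t u, fa t * fa u = fa (t + u))
  (hfb : ∀ t, π (fb t) = S.x b t) (hfbadd : ∀ t u, fb t * fb u = fb (t + u))
variable (hCa : CommPair S π a k) (hCb : CommPair S π b k) (hC : (Cz : F) ≠ 0)

include ha hb hba hbn hterms hfa hfb in
theorem π_bracket (t u : F) : π ⁅fb (-u), fa (-t)⁆ = S.x k ((Cz : F) * -t * u) := by
  have e := S.comm a b ha hb hba hbn t u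
  simp only [ChevalleyDatum.commWord, hterms, List.map_cons, List.map_nil, List.prod_cons, List.prod_nil,
    mul_one, pow_one] at e
  rw [map_commutatorElement, hfb, hfa, ← x_inv S hb, ← x_inv S ha, commutatorElement_def, inv_inv, inv_inv,
    mul_assoc _ (S.x b u), e]
  group

include ha hb hba hbn hterms hfa hfaadd hfb hCa in
theorem bracket_add_right (u t t' : F) : ⁅fb u, fa (t + t')⁆ = ⁅fb u, fa t⁆ * ⁅fb u, fa t'⁆ := by
  have e : ⁅fb u, fa t * fa t'⁆ = ⁅fb u, fa t⁆ * (fa t * ⁅fb u, fa t'⁆ * (fa t)⁻¹) := by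
    simp only [commutatorElement_def]; group
  have hπ' : π ⁅fb u, fa t'⁆ = S.x k ((Cz : F) * t' * -u) := by
    have := π_bracket ha hb hba hbn hterms hfa hfb (-t') (-u)
    rwa [neg_neg, neg_neg] at this
  rw [← hfaadd, e, (hCa t _ (fa t) _ (hfa t) hπ').eq, mul_inv_cancel_right]

include ha hb hba hbn hterms hfa hfb hfbadd hCb in
theorem bracket_add_left (u u' t : F) : ⁅fb (u + u'), fa t⁆ = ⁅fb u', fa t⁆ * ⁅fb u, fa t⁆ := by
  have e : ⁅fb u * fb u', fa t⁆ = fb u * ⁅fb u', fa t⁆ * (fb u)⁻¹ * ⁅fb u, fa t⁆ := by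
    simp only [commutatorElement_def]; group
  have hπ' : π ⁅fb u', fa t⁆ = S.x k ((Cz : F) * t * -u') := by
    have := π_bracket ha hb hba hbn hterms hfa hfb (-t) (-u')
    rwa [neg_neg, neg_neg] at this
  rw [← hfbadd, e, (hCb u _ (fb u) _ (hfb u) hπ').eq, mul_inv_cancel_right]

include ha hb hba hbn hterms hfa hfaadd hfb hfbadd hCa hCb hC in
theorem pairLift_spec (hprime : ∀ x : F, ∃ n : ℕ, x = n) :
    (∀ v, π (pairLift fa fb (Cz : F) v) = S.x k v) ∧
      (∀ v w, pairLift fa fb (Cz : F) v * pairLift fa fb (Cz : F) w = pairLift fa fb (Cz : F) (v + w)) ∧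
      ∀ t u, ⁅fb (-u), fa (-t)⁆ = pairLift fa fb (Cz : F) ((Cz : F) * -t * u) := by
  refine ⟨fun v => ?_, fun v w => ?_, fun t u => ?_⟩
  · have := π_bracket ha hb hba hbn hterms hfa hfb (-(v / (Cz : F))) 1
    rw [neg_neg] at this
    rw [pairLift, this]
    congr 1
    field_simp
  · rw [pairLift, pairLift, pairLift, add_div, bracket_add_right ha hb hba hbn hterms hfa hfaadd hfb hCa]
  · have key : ∀ x : F, ⁅fb (-u), fa x⁆ = pairLift fa fb (Cz : F) ((Cz : F) * x * u) := by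
      intro x
      obtain ⟨n, hn⟩ := hprime u
      subst hn
      induction n with
      | zero =>
        rw [Nat.cast_zero, neg_zero, mul_zero, pairLift, zero_div]
        have h0a : fa 0 = 1 := by
          have := hfaadd 0 0
          rw [add_zero] at this
          exact mul_eq_left.1 this
        have h0b : fb 0 = 1 := by
          have := hfbadd 0 0
          rw [add_zero] at this
          exact mul_eq_left.1 this
        rw [h0a, h0b, commutatorElement_one_right, commutatorElement_one_left]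
      | succ n ih =>
        rw [Nat.cast_succ, neg_add, bracket_add_left ha hb hba hbn hterms hfa hfb hfbadd hCb, ih, pairLift,
          pairLift, show (Cz : F) * x * ((n : F) + 1) / (Cz : F) = x + (Cz : F) * x * (n : F) / (Cz : F) by
            field_simp; ring,
          bracket_add_right ha hb hba hbn hterms hfa hfaadd hfb hCa]
    exact key (-t)

include ha hb hk hba hbn hterms hfa hfaadd hfb hfbadd hCa hCb hC hcen in
theorem pairLift_equiv (hprime : ∀ x : F, ∃ n : ℕ, x = n)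
    (hfae : ∀ i, i < D.rank → ∀ d : F, d ≠ 0 → ∀ g : Γ, π g = h S i d → ∀ t,
      g * fa t * g⁻¹ = fa (d ^ D.cartan i a * t))
    (hfbe : ∀ i, i < D.rank → ∀ d : F, d ≠ 0 → ∀ g : Γ, π g = h S i d → ∀ t,
      g * fb t * g⁻¹ = fb (d ^ D.cartan i b * t))
    (i : ℕ) (hi : i < D.rank) (d : F) (hd : d ≠ 0) (g : Γ) (hg : π g = h S i d) (v : F) :
    g * pairLift fa fb (Cz : F) v * g⁻¹ = pairLift fa fb (Cz : F) (d ^ D.cartan i k * v) := by
  obtain ⟨-, -, h3⟩ := pairLift_spec ha hb hba hbn hterms hfa hfaadd hfb hfbadd hCa hCb hC hprime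
  obtain ⟨-, -, -, hco⟩ := commTerms_mem C ha hb (c := (k, Cz, 1, 1)) (by rw [hterms]; exact List.mem_singleton_self _)
  have hchar : d ^ D.cartan i k = d ^ D.cartan i a * d ^ D.cartan i b := by
    rw [cartan_comb C hi ha hb hk _ _ hco, zpow_add₀ hd]
    simp
  have := h3 (-(d ^ D.cartan i a * (v / (Cz : F)))) (d ^ D.cartan i b)
  rw [neg_neg] at this
  rw [pairLift, conjugate_commutatorElement, hfbe i hi d hd g hg, hfae i hi d hd g hg, mul_neg, mul_one, this,
    hchar]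
  rw [pairLift, pairLift]
  congr 2
  field_simp

end Pair

/-! ### the check -/

variable (D) (T : Tables)

/-- `Wl` gives the long roots with a pair of short ones; every pair is handled -/
def chkB2 (E : List (List ℤ)) (Wl : List (ℕ × ℕ × ℕ)) : Bool :=
  (Wl.all fun w =>
    match D.commTerms w.2.1 w.2.2, D.commTerms w.2.2 w.2.1 with
    | [c], [c'] => decide (c = (w.1, c.2.1, 1, 1)) && decide (c' = (w.1, -c.2.1, 1, 1)) &&
        !decide (c.2.1 % 3 = 0) && Nat.blt w.2.1 D.nroots && Nat.blt w.2.2 D.nroots && Nat.blt w.1 D.nroots &&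
        !Nat.beq w.2.2 w.2.1 && !Nat.beq w.2.2 (negA D w.2.1) && zeroWord D w.2.1 w.1 && zeroWord D w.2.2 w.1 &&
        sepB D T [1] E w.2.1 w.1 && sepB D T [1] E w.2.2 w.1 &&
        ((List.range D.rank).any fun j => absIn [1] (cartT T j w.2.1)) &&
        ((List.range D.rank).any fun j => absIn [1] (cartT T j w.2.2))
    | _, _ => false) &&
  (List.range D.nroots).all fun r =>
    (Wl.any (fun w => Nat.beq w.1 r) || (List.range D.rank).any fun j => absIn [1] (cartT T j r)) &&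
      (List.range D.nroots).all fun s => Nat.beq s r || Nat.beq s (negA D r) || sepB D T [1] E r s ||
        Wl.any (fun w => (Nat.beq w.2.1 r && Nat.beq w.2.2 s) || (Nat.beq w.2.1 s && Nat.beq w.2.2 r)) ||
        (zeroWord D r s && (Wl ++ Wl.map fun w => (w.1, w.2.2, w.2.1)).any fun w =>
          Nat.beq w.1 r && zeroWord D w.2.1 s && !Nat.beq w.2.2 s && !Nat.beq w.2.2 (negA D s) &&
            (D.commTerms s w.2.2).all fun c => decide (c.2.1 % 3 = 0) || Nat.beq c.1 w.2.1 ||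
              (zeroWord D c.1 w.2.1 && sepB D T [1] E c.1 w.2.1))

theorem chk_B2 : chkB2 chevB2 ChevalleyDataB2.tables [[0, -1], [-1, -1]]
    [(0, 1, 2), (3, 1, 5), (4, 2, 6), (7, 5, 6)] = true := by
  decide +kernel

variable {D T} {E : List (List ℤ)} {Wl : List (ℕ × ℕ × ℕ)}
variable (hF : chkFast D T = true) (h3 : (3 : F) = 0) (h2 : (2 : F) ≠ 0)

omit [Group P] [Group Γ] in
include h2 in
theorem neg_one_pow_ne : ∀ k ∈ [1], (-1 : F) ^ k ≠ 1 := by
  intro k hk e
  simp only [List.mem_cons, List.not_mem_nil, or_false] at hk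
  subst hk
  rw [pow_one] at e
  exact h2 (by linear_combination -e)

include hπ hcen hG hF h2 in
theorem liftAt_moved (hprime : ∀ x : F, ∃ n : ℕ, x = n)
    (hT : TorusOK S π)
    {r : ℕ} (hr : r < D.nroots) (h : ((List.range D.rank).any fun j => absIn [1] (cartT T j r)) = true) :
    LiftAt S π r := by
  simp only [List.any_eq_true, List.mem_range] at h
  obtain ⟨j, hj, h⟩ := h
  rw [cartT_of_fast hF hj hr] at h
  exact liftAt_of_torus hπ hcen hG hr hj (neg_ne_zero.2 one_ne_zero) (ne_one_of_absIn (neg_one_pow_ne h2) h)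
    hT
    (commPair_self_prime hπ hcen hr hprime)

include hπ hcen hG hF h3 h2 in
theorem lift_B2 (hchk : chkB2 D T E Wl = true) (hnd : ∀ w ∈ Wl, ∀ w' ∈ Wl, w.1 = w'.1 → w = w')
    (hshort : ∀ w ∈ Wl, ∀ w' ∈ Wl, w.1 ≠ w'.2.1 ∧ w.1 ≠ w'.2.2)
    (hprime : ∀ x : F, ∃ n : ℕ, x = n)
    (hT : TorusOK S π)
    (hk : π.ker ≤ commutator Γ) :
    ∃ U : Sys C F Γ, U.θ = S.θ.comp π ∧ ∀ r, r < D.nroots → ∀ t : F, π (U.x r t) = S.x r t := by
  classical
  have hks := neg_one_pow_ne h2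
  simp only [chkB2, Bool.and_eq_true, List.all_eq_true (l := Wl)] at hchk
  obtain ⟨hWl, hall⟩ := hchk
  have data : ∀ w ∈ Wl, ∃ Cz : ℤ, D.commTerms w.2.1 w.2.2 = [(w.1, Cz, 1, 1)] ∧
      D.commTerms w.2.2 w.2.1 = [(w.1, -Cz, 1, 1)] ∧ (Cz : F) ≠ 0 ∧ w.2.1 < D.nroots ∧ w.2.2 < D.nroots ∧
      w.1 < D.nroots ∧ w.2.2 ≠ w.2.1 ∧ w.2.2 ≠ D.neg w.2.1 ∧ CommPair S π w.2.1 w.1 ∧ CommPair S π w.2.2 w.1 ∧
      LiftAt S π w.2.1 ∧ LiftAt S π w.2.2 := by
    intro w hw
    have h := hWl w hw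
    split at h
    next c c' e1 e2 =>
      simp only [Bool.and_eq_true, decide_eq_true_eq, Bool.not_eq_true', decide_eq_false_iff_not,
        Bool.eq_false_iff, ne_eq, Nat.beq_eq, Nat.blt_eq] at h
      obtain ⟨⟨⟨⟨⟨⟨⟨⟨⟨⟨⟨⟨⟨g1, g2⟩, g3⟩, g4⟩, g5⟩, g6⟩, g7⟩, g8⟩, g9⟩, g10⟩, g11⟩, g12⟩, g13⟩, g14⟩ := h
      rw [negA, ← C.neg_eq _ g4] at g8
      exact ⟨c.2.1, by rw [e1, ← g1], by rw [e2, g2], cast_ne_of_mod h3 h2 g3, g4, g5, g6, g7, g8,
        commPair_of_sep hπ hcen hG g4 g6 (comm_of_zeroWord C h3 g6 g9)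
          (sep_of_sepB hF (neg_ne_zero.2 one_ne_zero) hks g4 g6 g11),
        commPair_of_sep hπ hcen hG g5 g6 (comm_of_zeroWord C h3 g6 g10)
          (sep_of_sepB hF (neg_ne_zero.2 one_ne_zero) hks g5 g6 g12),
        liftAt_moved hπ hcen hG hF h2 hprime hT g4 g13, liftAt_moved hπ hcen hG hF h2 hprime hT g5 g14⟩
    next => simp at h
  have hshortLift : ∀ r, r < D.nroots → (∀ w ∈ Wl, w.1 ≠ r) → LiftAt S π r := by
    intro r hr hne
    have h := (Bool.and_eq_true _ _ ▸ allR hall hr).1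
    simp only [Bool.or_eq_true, List.any_eq_true (l := Wl), Nat.beq_eq] at h
    rcases h with ⟨w, hw, e⟩ | h
    · exact absurd e (hne w hw)
    · exact liftAt_moved hπ hcen hG hF h2 hprime hT hr h
  choose f hf1 hf2 hf3 using hshortLift
  choose Cz dt1 dt2 dC dA dB dK dba dbn dcA dcB _dl1 _dl2 using data
  have nsA : ∀ w (hw : w ∈ Wl), ∀ w' ∈ Wl, w'.1 ≠ w.2.1 := fun w hw w' hw' => (hshort w' hw' w hw).1
  have nsB : ∀ w (hw : w ∈ Wl), ∀ w' ∈ Wl, w'.1 ≠ w.2.2 := fun w hw w' hw' => (hshort w' hw' w hw).2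
  let fA : ∀ w ∈ Wl, F → Γ := fun w hw => f w.2.1 (dA w hw) (nsA w hw)
  let fB : ∀ w ∈ Wl, F → Γ := fun w hw => f w.2.2 (dB w hw) (nsB w hw)
  have spec := fun w hw => pairLift_spec (dA w hw) (dB w hw) (dba w hw) (dbn w hw) (dt1 w hw)
    (fa := fA w hw) (fb := fB w hw) (hf1 _ _ _) (hf2 _ _ _) (hf1 _ _ _) (hf2 _ _ _) (dcA w hw) (dcB w hw)
    (dC w hw) hprime
  let x : ℕ → F → Γ := fun r t =>
    if hr : r < D.nroots then
      if hw : ∃ w, w ∈ Wl ∧ w.1 = r then
        pairLift (fA hw.choose hw.choose_spec.1) (fB hw.choose hw.choose_spec.1)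
          (Cz hw.choose hw.choose_spec.1 : F) t
      else f r hr (fun w h e => hw ⟨w, h, e⟩) t
    else 1
  have hxl : ∀ w (hw : w ∈ Wl), ∀ t, x w.1 t = pairLift (fA w hw) (fB w hw) (Cz w hw : F) t := by
    intro w hw t
    have hex : ∃ w', w' ∈ Wl ∧ w'.1 = w.1 := ⟨w, hw, rfl⟩
    simp only [x, dif_pos (dK w hw), dif_pos hex]
    have key : ∀ w' (hw' : w' ∈ Wl), w' = w →
        pairLift (fA w' hw') (fB w' hw') (Cz w' hw' : F) t = pairLift (fA w hw) (fB w hw) (Cz w hw : F) t := by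
      rintro w' hw' rfl
      rfl
    exact key _ _ (hnd _ hex.choose_spec.1 w hw hex.choose_spec.2)
  have hxs : ∀ r (hr : r < D.nroots) (hne : ∀ w ∈ Wl, w.1 ≠ r), ∀ t, x r t = f r hr hne t := by
    intro r hr hne t
    have hex : ¬∃ w', w' ∈ Wl ∧ w'.1 = r := fun ⟨w, h, e⟩ => hne w h e
    simp only [x, dif_pos hr, dif_neg hex]
  have cases : ∀ r, r < D.nroots → (∃ w, w ∈ Wl ∧ w.1 = r) ∨ ∀ w ∈ Wl, w.1 ≠ r := by
    intro r _
    by_cases hex : ∃ w, w ∈ Wl ∧ w.1 = r
    · exact Or.inl hex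
    · exact Or.inr fun w h e => hex ⟨w, h, e⟩
  let X : Lifts S π :=
    { x := x
      π_x := by
        intro r hr t
        rcases cases r hr with ⟨w, hw, rfl⟩ | hne
        · rw [hxl w hw]; exact (spec w hw).1 t
        · rw [hxs r hr hne]; exact hf1 r hr hne t
      x_add := by
        intro r hr t u
        rcases cases r hr with ⟨w, hw, rfl⟩ | hne
        · simp only [hxl w hw]; exact (spec w hw).2.1 t u
        · simp only [hxs r hr hne]; exact hf2 r hr hne t u
      equiv := by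
        intro i hi d hd g hg r hr t
        rcases cases r hr with ⟨w, hw, rfl⟩ | hne
        · simp only [hxl w hw]
          exact pairLift_equiv hcen (dA w hw) (dB w hw) (dK w hw) (dba w hw) (dbn w hw) (dt1 w hw) (hf1 _ _ _)
            (hf2 _ _ _) (hf1 _ _ _) (hf2 _ _ _) (dcA w hw) (dcB w hw) (dC w hw) hprime (hf3 _ _ _) (hf3 _ _ _)
            i hi d hd g hg t
        · simp only [hxs r hr hne]
          exact hf3 r hr hne i hi d hd g hg t }
  have hxA : ∀ w (hw : w ∈ Wl) t, x w.2.1 t = fA w hw t := fun w hw => hxs _ (dA w hw) (nsA w hw)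
  have hxB : ∀ w (hw : w ∈ Wl) t, x w.2.2 t = fB w hw t := fun w hw => hxs _ (dB w hw) (nsB w hw)
  have hWab : ∀ w (hw : w ∈ Wl), ∀ t u, X.x w.2.2 u * X.x w.2.1 t =
      X.x w.2.1 t * X.x w.2.2 u * X.x w.1 ((Cz w hw : F) * -t * u) := by
    intro w hw t u
    have e := (spec w hw).2.2 t u
    show x _ _ * x _ _ = x _ _ * x _ _ * x _ _
    rw [hxl w hw, ← e, ← hxA w hw, ← hxB w hw,
      show x w.2.2 (-u) = (x w.2.2 u)⁻¹ from (Lifts.x_inv X (dB w hw) u).symm,
      show x w.2.1 (-t) = (x w.2.1 t)⁻¹ from (Lifts.x_inv X (dA w hw) t).symm, commutatorElement_def]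
    group
  refine lift_sys X hπ hcen ?_ hk
  intro r s hr hs h1 h2'
  have h := allR (Bool.and_eq_true _ _ ▸ allR hall hr).2 hs
  rw [negA, ← C.neg_eq r hr] at h
  simp only [Bool.or_eq_true, Bool.and_eq_true, Nat.beq_eq, h1, h2', false_or, List.any_eq_true (l := Wl),
    List.any_eq_true (l := Wl ++ Wl.map fun w => (w.1, w.2.2, w.2.1))] at h
  rcases h with (h | ⟨w, hw, ⟨rfl, rfl⟩ | ⟨rfl, rfl⟩⟩) | ⟨hz, w, hw, hwB⟩
  · exact Or.inl (sep_of_sepB hF (neg_ne_zero.2 one_ne_zero) hks hr hs h)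
  · refine Or.inr (Or.inl fun t u => ?_)
    rw [err, W, ChevalleyDatum.commWord, dt1 w hw]
    simp only [List.map_cons, List.map_nil, List.prod_cons, List.prod_nil, mul_one, pow_one]
    rw [inv_mul_eq_one]
    exact (hWab w hw t u).symm
  · refine Or.inr (Or.inl fun t u => ?_)
    rw [err, W, ChevalleyDatum.commWord, dt2 w hw]
    simp only [List.map_cons, List.map_nil, List.prod_cons, List.prod_nil, mul_one, pow_one]
    rw [inv_mul_eq_one]
    have e := hWab w hw u t
    rw [show ((-Cz w hw : ℤ) : F) * -t * u = -((Cz w hw : F) * -u * t) by push_cast; ring, e,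
      ← Lifts.x_inv X (dK w hw), mul_inv_cancel_right]
  · refine Or.inr (Or.inr (Or.inl fun t u => ⟨List.prod_eq_one ?_, ?_⟩))
    · intro g hg
      simp only [ChevalleyDatum.commWord, List.map_map, List.mem_map] at hg
      obtain ⟨c, hc', rfl⟩ := hg
      simp only [Function.comp_apply, (word_zero C h3 hs hz).2.2.2 c hc', zero_mul]
      exact Lifts.x_zero X (commTerms_mem C hr hs hc').1
    simp only [Bool.not_eq_true', Bool.eq_false_iff, ne_eq, Nat.beq_eq, List.all_eq_true, Bool.or_eq_true,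
      decide_eq_true_eq] at hwB
    obtain ⟨⟨⟨⟨rfl, hza⟩, hbs⟩, hbns⟩, hterms⟩ := hwB
    obtain ⟨C', hT', hC', hA', hB', hba', hbn'⟩ : ∃ C' : ℤ, D.commTerms w.2.1 w.2.2 = [(w.1, C', 1, 1)] ∧
        (C' : F) ≠ 0 ∧ w.2.1 < D.nroots ∧ w.2.2 < D.nroots ∧ w.2.2 ≠ w.2.1 ∧ w.2.2 ≠ D.neg w.2.1 := by
      rcases List.mem_append.1 hw with hw' | hw'
      · exact ⟨Cz w hw', dt1 w hw', dC w hw', dA w hw', dB w hw', dba w hw', dbn w hw'⟩
      · obtain ⟨v, hv, rfl⟩ := List.mem_map.1 hw'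
        exact ⟨-Cz v hv, dt2 v hv, by push_cast; exact neg_ne_zero.2 (dC v hv), dB v hv, dA v hv,
          (dba v hv).symm, fun e => dbn v hv (by
          simp only at e; rw [e, neg_neg' C (dB v hv)])⟩
    rw [negA, ← C.neg_eq s hs] at hbns
    have hcw := S.comm s w.2.2 hs hB' hbs hbns u (-1 : F)
    show Commute (x w.1 t) (x s u)
    set A := X.x w.2.1 (t / (C' : F))
    set B := X.x w.2.2 (-1)
    set g := x s u
    have hg : π g = S.x s u := X.π_x s hs u
    suffices hcomm : Commute ⁅B, A⁆ g by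
      have hπk : π (x w.1 t) = π ⁅B, A⁆ := by
        have := π_bracket hA' hB' hba' hbn' hT' (X.π_x _ hA') (X.π_x _ hB') (-(t / (C' : F))) 1
        rw [neg_neg] at this
        show π (X.x w.1 t) = _
        rw [X.π_x _ hr, this]
        congr 1
        field_simp
      obtain ⟨z, hz, e⟩ := StemBasic.exists_ker_mul hπk
      rw [e]
      exact hcomm.mul_left (StemBasic.ker_comm hcen hz g).symm
    set M := W X s w.2.2 u (-1)
    have hMA : Commute M A := by
      refine Commute.list_prod_left _ _ ?_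
      intro y hy
      simp only [ChevalleyDatum.commWord, List.map_map, List.mem_map] at hy
      obtain ⟨c, hc', rfl⟩ := hy
      have hcl := (commTerms_mem C hs hB' hc').1
      simp only [Function.comp_apply]
      rcases hterms c hc' with (h | h) | h
      · rw [cast_zero_of_mod h3 h, zero_mul, zero_mul, Lifts.x_zero X hcl]
        exact Commute.one_left _
      · exact commPair_self_prime hπ hcen hA' hprime _ _ _ _ (by rw [X.π_x _ hcl, h]) (X.π_x _ hA' _)
      · rw [Bool.and_eq_true] at h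
        exact commPair_of_sep hπ hcen hG hcl hA' (comm_of_zeroWord C h3 hA' h.1)
          (sep_of_sepB hF (neg_ne_zero.2 one_ne_zero) hks hcl hA' h.2) _ _ _ _ (X.π_x _ hcl _)
          (X.π_x _ hA' _)
    have hsB : π (g⁻¹ * B * g) = π (B * M) := by
      rw [map_mul, map_mul, map_mul, map_inv, hg, X.π_x _ hB', π_W X hs hB', mul_assoc, hcw]
      group
    have hsA : π (g⁻¹ * A * g) = π A := by
      rw [map_mul, map_mul, map_inv, hg, X.π_x _ hA', mul_assoc,
        (comm_of_zeroWord C h3 hs hza (t / (C' : F)) u).eq, inv_mul_cancel_left]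
    have e : g⁻¹ * ⁅B, A⁆ * (g⁻¹)⁻¹ = ⁅B, A⁆ := by
      rw [conjugate_commutatorElement, inv_inv, StemPairing.bracket_congr hcen hsB hsA,
        show ⁅B * M, A⁆ = B * ⁅M, A⁆ * B⁻¹ * ⁅B, A⁆ by simp only [commutatorElement_def]; group,
        commutatorElement_eq_one_iff_commute.2 hMA, mul_one, mul_inv_cancel, one_mul]
    rw [inv_inv, mul_assoc, inv_mul_eq_iff_eq_mul] at e
    exact e

end Cfsg.Agent.StThreeB2
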