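import Cfsg.Agent.Lib.StMultSmall
import Cfsg.Agent.Lib.StDataADE

/-!
Type D4 over the field of three elements: orthogonal roots which the torus does not separate are fixed or exchanged
by an element of the Weyl group with the sign which forces their lifts to commute.
-/

set_option autoImplicit false
set_option linter.unusedSectionVars false
set_option maxRecDepth 100000

namespace Cfsg.Agent.StThreeD4

open scoped commutatorElement
open Cfsg.Lie Cfsg.Agent.ChevalleyCert Cfsg.Agent.ChevalleyRoots Cfsg.Agent.ChevalleyTorus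
open Cfsg.Agent.ChevalleyCheck Cfsg.Agent.ChevalleyCheckSound Cfsg.Agent.StBasic Cfsg.Agent.StClosedADE
open Cfsg.Agent.StCheckADE Cfsg.Agent.StSepData Cfsg.Agent.ChevalleyCore

/-- the sign of the action of a word on a root -/
def sgnL {D : ChevalleyDatum} (eta : ℕ → ℕ → ℤ) : List ℕ → ℕ → ℤ
  | [], _ => 1
  | i :: l, r => eta i (wact (D := D) l r) * sgnL (D := D) eta l r

def swapB (D : ChevalleyDatum) (T : Tables) (eta : ℕ → ℕ → ℤ) (E : List (List ℤ))
    (W : List ((ℕ × ℕ) × List ℕ)) : Bool :=
  (List.range D.rank).all fun i => (List.range D.nroots).all fun s =>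
    let r := D.simple i
    !orthB D T r s || sepB D T [1] E r s || W.any fun w =>
      Nat.beq w.1.1 r && Nat.beq w.1.2 s && w.2.all (fun j => Nat.blt j D.rank) &&
        (let a := wact (D := D) w.2 r
         let b := wact (D := D) w.2 s
         let e := sgnL (D := D) eta w.2 r * sgnL (D := D) eta w.2 s
         (Nat.beq a r && Nat.beq b s && decide (e = -1)) || (Nat.beq a s && Nat.beq b r && decide (e = 1)))

theorem swap_D4 : swapB chevD4 ChevalleyDataD4.tables ChevalleyDataD4.cert.eta
    [[-1, 0, 0, 0], [0, -1, 0, 0], [-1, -1, 0, 0], [0, 0, -1, 0], [0, -1, -1, 0]]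
    [((12, 0), [3, 1, 2, 0, 1, 3]), ((12, 5), [0, 1, 3, 0, 1, 0]), ((12, 10), [2, 1, 3, 1, 2, 1]),
      ((12, 13), [1, 3, 2, 1]), ((12, 18), [1, 3, 0, 1]), ((12, 23), [1, 2, 0, 1]),
      ((13, 0), [2, 1, 3, 0, 1, 2]), ((13, 5), [0, 1, 2, 0, 1, 0]), ((13, 11), [2, 1, 3, 1, 2, 1]),
      ((13, 12), [1, 3, 2, 1]), ((13, 18), [1, 2, 0, 1]), ((13, 23), [1, 3, 0, 1]),
      ((14, 2), [1, 2, 0, 1]), ((14, 3), [1, 3, 0, 1]), ((14, 6), [1, 3, 2, 1]), ((14, 17), [3, 2]),
      ((14, 20), [3, 0]), ((14, 21), [2, 0]), ((18, 0), [0, 1, 3, 2, 1, 0]),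
      ((18, 10), [0, 1, 2, 0, 1, 0]), ((18, 11), [0, 1, 3, 0, 1, 0]), ((18, 12), [1, 3, 0, 1]),
      ((18, 13), [1, 2, 0, 1]), ((18, 23), [1, 3, 2, 1])] = true := by
  decide +kernel

variable {D : ChevalleyDatum} {C : Cert D} {F : Type*} [Field F] {P : Type*} [Group P] (S : Sys C F P)
variable {Γ : Type*} [Group Γ] (π : Γ →* P) (hπ : Function.Surjective π) (hc : π.ker ≤ Subgroup.center Γ)
variable (hG : Gen D)

theorem eta_sgn (l : List ℕ) (r : ℕ) : sgnL (D := D) C.eta l r = 1 ∨ sgnL (D := D) C.eta l r = -1 := by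
  induction l with
  | nil => exact Or.inl rfl
  | cons i l ih =>
    simp only [sgnL]
    rcases C.eta_sq i (wact (D := D) l r) with e | e <;> rcases ih with e' | e' <;> rw [e, e'] <;> simp

include hc hG in
theorem Φ_word {l : List ℕ} (hl : ∀ i ∈ l, i < D.rank) {r s : ℕ} (hr : r < D.nroots) (hs : s < D.nroots)
    (h : Orth D r s) (a b : F) :
    Φ S π hπ (wact (D := D) l r) (wact (D := D) l s) ((sgnL (D := D) C.eta l r : F) * a)
      ((sgnL (D := D) C.eta l s : F) * b) = Φ S π hπ r s a b := by
  induction l with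
  | nil => simp [sgnL, wact]
  | cons i l ih =>
    have hl' : ∀ j ∈ l, j < D.rank := fun j hj => hl j (List.mem_cons_of_mem _ hj)
    have hi := hl i (List.mem_cons_self ..)
    obtain ⟨g, hg⟩ := conj_Φ S π hπ hc hG hi (wact_lt C hl' hr) (wact_lt C hl' hs)
      ((sgnL (D := D) C.eta l r : F) * a) ((sgnL (D := D) C.eta l s : F) * b)
    rw [ih hl'] at hg
    have hz : π (Φ S π hπ r s a b) = 1 := by
      rw [Φ, map_commutatorElement, π_L, π_L, commutatorElement_eq_one_iff_commute]
      exact x_comm S hr hs h a b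
    rw [StemBasic.ker_comm hc hz g, mul_inv_cancel_right] at hg
    simp only [sgnL, wact_cons, Int.cast_mul, mul_assoc]
    exact hg.symm

include hc in
theorem Φ_add_left {r s : ℕ} (hr : r < D.nroots) (hs : s < D.nroots) (h : Orth D r s) (a a' b : F) :
    Φ S π hπ r s (a + a') b = Φ S π hπ r s a b * Φ S π hπ r s a' b :=
  StLifts.bracket_left hc hr (fun t u => x_comm S hr hs h t u) (π_L S π hπ r a) (π_L S π hπ r a')
    (π_L S π hπ r (a + a')) (π_L S π hπ s b)

include hc in
theorem Φ_add_right {r s : ℕ} (hr : r < D.nroots) (hs : s < D.nroots) (h : Orth D r s) (a b b' : F) :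
    Φ S π hπ r s a (b + b') = Φ S π hπ r s a b * Φ S π hπ r s a b' :=
  StLifts.bracket_right hc hs (fun t u => x_comm S hr hs h t u) (π_L S π hπ r a) (π_L S π hπ s b)
    (π_L S π hπ s b') (π_L S π hπ s (b + b'))

omit hc in
theorem zero_one {A M : Type*} [AddZeroClass A] [Group M] (f : A → M) (h : ∀ x y, f (x + y) = f x * f y) :
    f 0 = 1 := by
  have := h 0 0
  rw [add_zero] at this
  exact right_eq_mul.1 this

include hc hG in
theorem commAll_three {T : Tables} {E : List (List ℤ)} {W : List ((ℕ × ℕ) × List ℕ)}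
    (hT : chkRows D T 0 D.nroots = true) (hF : chkFast D T = true)
    (hchk : swapB D T C.eta E W = true) (h3 : (3 : F) = 0) (h2 : (2 : F) ≠ 0)
    (hprime : ∀ a : F, ∃ k : ℕ, a = k) : CommAll S π hπ := by
  intro r s hr
  revert s
  refine root_induction C (P := fun r => ∀ s, s < D.nroots → Orth D r s →
    ∀ a b : F, Φ S π hπ r s a b = 1) (fun i hi s hs h => ?_) ?_ r hr
  · have hr := simple_lt C hi
    set r := D.simple i
    suffices h11 : Φ S π hπ r s 1 1 = 1 by
      intro a b
      obtain ⟨k, rfl⟩ := hprime a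
      obtain ⟨m, rfl⟩ := hprime b
      have h0 : ∀ x : F, Φ S π hπ r s x 0 = 1 := fun x =>
        zero_one (fun y => Φ S π hπ r s x y) (Φ_add_right S π hπ hc hr hs h x)
      have h0' : ∀ y : F, Φ S π hπ r s 0 y = 1 := fun y =>
        zero_one (fun x => Φ S π hπ r s x y) fun x x' => Φ_add_left S π hπ hc hr hs h x x' y
      have hk1 : ∀ k : ℕ, Φ S π hπ r s (k : F) 1 = 1 := by
        intro k
        induction k with
        | zero => rw [Nat.cast_zero]; exact h0' _
        | succ k ih => rw [Nat.cast_succ, Φ_add_left S π hπ hc hr hs h, ih, h11, one_mul]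
      induction m with
      | zero => rw [Nat.cast_zero]; exact h0 _
      | succ m ih => rw [Nat.cast_succ, Φ_add_right S π hπ hc hr hs h, ih, hk1, one_mul]
    have hsw := allR (allR hchk hi) hs
    simp only [Bool.or_eq_true, Bool.not_eq_true'] at hsw
    rw [orthB_of_orth C hT hr h] at hsw
    rcases hsw with (h' | h') | h'
    · exact absurd h' (by simp)
    · have hks : ∀ k ∈ [1], (-1 : F) ^ k ≠ 1 := by
        intro k hk e
        simp only [List.mem_cons, List.not_mem_nil, or_false] at hk
        subst hk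
        rw [pow_one] at e
        exact h2 (by linear_combination -e)
      exact commutatorElement_eq_one_iff_commute.2 (StLifts.commPair_of_sep hπ hc hG hr hs
        (fun t u => x_comm S hr hs h t u) (sep_of_sepB hF (neg_ne_zero.2 one_ne_zero) hks hr hs h') 1 1 _ _
        (π_L S π hπ r 1) (π_L S π hπ s 1))
    simp only [List.any_eq_true, Bool.and_eq_true, Bool.or_eq_true, Nat.beq_eq, List.all_eq_true, Nat.blt_eq,
      decide_eq_true_eq] at h'
    obtain ⟨w, -, ⟨⟨-, -⟩, hl⟩, hw⟩ := h'
    have key := Φ_word S π hπ hc hG hl hr hs h (1 : F) 1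
    rw [mul_one, mul_one] at key
    set v := Φ S π hπ r s 1 1 with hv
    have hneg1 : Φ S π hπ r s (-1) 1 = v⁻¹ := by
      have := Φ_add_left S π hπ hc hr hs h 1 (-1) 1
      rw [add_neg_cancel, show Φ S π hπ r s 0 1 = 1 from zero_one (fun x => Φ S π hπ r s x 1)
        fun x x' => Φ_add_left S π hπ hc hr hs h x x' 1] at this
      exact eq_inv_of_mul_eq_one_right this.symm
    have hneg2 : ∀ x : F, Φ S π hπ r s x (-1) = (Φ S π hπ r s x 1)⁻¹ := by
      intro x
      have := Φ_add_right S π hπ hc hr hs h x 1 (-1)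
      rw [add_neg_cancel, show Φ S π hπ r s x 0 = 1 from zero_one (fun y => Φ S π hπ r s x y)
        (Φ_add_right S π hπ hc hr hs h x)] at this
      exact eq_inv_of_mul_eq_one_right this.symm
    have hsq : v = v⁻¹ := by
      set ε := sgnL (D := D) C.eta w.2 r
      set δ := sgnL (D := D) C.eta w.2 s
      have e1 : ε = 1 ∨ ε = -1 := eta_sgn w.2 r
      have e2 : δ = 1 ∨ δ = -1 := eta_sgn w.2 s
      rcases hw with ⟨⟨hwr, hws⟩, he⟩ | ⟨⟨hwr, hws⟩, he⟩ <;> rw [hwr, hws] at key
      · rcases e1 with e1 | e1 <;> rcases e2 with e2 | e2 <;> rw [e1, e2] at he key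
        · exact absurd he (by decide)
        · simp only [Int.cast_one, Int.cast_neg] at key
          exact key.symm.trans (hneg2 1)
        · simp only [Int.cast_one, Int.cast_neg] at key
          exact key.symm.trans hneg1
        · exact absurd he (by decide)
      · rw [show Φ S π hπ s r (ε : F) (δ : F) = (Φ S π hπ r s (δ : F) (ε : F))⁻¹ from
          (commutatorElement_inv _ _).symm] at key
        rcases e1 with e1 | e1 <;> rcases e2 with e2 | e2 <;> rw [e1, e2] at he key
        · simp only [Int.cast_one] at key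
          exact key.symm
        · exact absurd he (by decide)
        · exact absurd he (by decide)
        · simp only [Int.cast_one, Int.cast_neg, hneg2, hneg1, inv_inv] at key
          exact key.symm
    have h3v : v * v * v = 1 := by
      rw [hv, ← Φ_add_left S π hπ hc hr hs h, ← Φ_add_left S π hπ hc hr hs h,
        show (1 : F) + 1 + 1 = 0 by linear_combination h3]
      exact zero_one (fun x => Φ S π hπ r s x 1) fun x x' =>
        Φ_add_left S π hπ hc hr hs h x x' 1
    nth_rw 2 [hsq] at h3v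
    rwa [mul_inv_cancel, one_mul] at h3v
  · intro i r hi hr ih s hs h a b
    have hs' := C.w_lt i s hi hs
    have h' : Orth D r (wr D i s) := by
      have := orth_w C hi (C.w_lt i r hi hr) hs h
      rwa [w_invol C hi hr] at this
    obtain ⟨g, hg⟩ := conj_Φ S π hπ hc hG hi hr hs' ((C.eta i r : F) * a)
      ((C.eta i (wr D i s) : F) * b)
    rw [ih _ hs' h', w_invol C hi hs, ← mul_assoc, ← mul_assoc, eta_cast_sq C i r, eta_cast_sq C i _,
      one_mul, one_mul, mul_one, mul_inv_cancel] at hg
    exact hg.symm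

end Cfsg.Agent.StThreeD4
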