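import Cfsg.Agent.Lib.StPrimeTo
import Cfsg.Agent.Lib.StClosedSmall
import Cfsg.Agent.Lib.StDataADE
import Cfsg.Agent.Lib.StGen
import Cfsg.Agent.Lib.StGroup
import Cfsg.Agent.Lib.ChevalleyPerfect

/-!
The group presented by (R1), (R2): perfectness, and maps into central extensions.
-/

set_option autoImplicit false
set_option linter.unusedSectionVars false

namespace Cfsg.Agent.StUniversal

open scoped commutatorElement
open Cfsg.Lie Cfsg.Agent.ChevalleyCert Cfsg.Agent.ChevalleyRoots Cfsg.Agent.ChevalleyCore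
open Cfsg.Agent.StBasic Cfsg.Agent.StLifts

variable {D : ChevalleyDatum} {C : Cert D} {F : Type*} [Field F] {P : Type*} [Group P] (S : Sys C F P)
variable (hG : Gen D)

include hG in
theorem torus_comm_mem {j r : ℕ} (hj : j < D.rank) (hr : r < D.nroots) {a : F} (ha : a ≠ 0)
    (hne : a ^ D.cartan j r ≠ 1) (t : F) : S.x r t ∈ commutator P := by
  have hχ : a ^ D.cartan j r - 1 ≠ 0 := sub_ne_zero.2 hne
  have e : S.x r t = ⁅h S j a, S.x r (t / (a ^ D.cartan j r - 1))⁆ := by
    rw [commutatorElement_def, StBruhat.h_conj S hG hj hr ha, x_inv S hr, S.x_add r hr]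
    congr 1
    field_simp
    ring
  rw [e]
  exact Subgroup.commutator_mem_commutator (Subgroup.mem_top _) (Subgroup.mem_top _)

theorem single_comm_mem {q : ℕ} {c : ℤ} {w : ℕ × ℕ} (h : ChevalleyPerfect.Single D q c w) (hc : (c : F) ≠ 0)
    (t : F) : S.x q t ∈ commutator P := by
  obtain ⟨hr, hs, h1, h2, hl⟩ := h
  have he := S.comm w.1 w.2 hr hs h1 h2 (-(t / (c : F))) 1
  simp only [ChevalleyDatum.commWord, hl, List.map_cons, List.map_nil, List.prod_cons, List.prod_nil, mul_one,
    pow_one, neg_neg, mul_div_cancel₀ t hc] at he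
  have : S.x q t = ⁅(S.x w.2 (1 : F))⁻¹, (S.x w.1 (-(t / (c : F))))⁻¹⁆ := by
    rw [commutatorElement_def, inv_inv, inv_inv, mul_assoc ((S.x w.2 1)⁻¹ * _), he]
    group
  rw [this]
  exact Subgroup.commutator_mem_commutator (Subgroup.mem_top _) (Subgroup.mem_top _)

include S hG in
theorem perfect (h : ∀ i < D.rank, ChevalleyPerfect.Reach D F i) : commutator P = ⊤ := by
  have hall : ∀ r, r < D.nroots → ∀ t : F, S.x r t ∈ commutator P := by
    refine root_induction C (fun i hi t => ?_) fun i r hi hr ih t => ?_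
    · rcases h i hi with ⟨c, w, hc, hs⟩ | ⟨⟨a, ha, ha1⟩, ⟨j, hj, hjc⟩ | ⟨c, w, hc, hs⟩⟩
      · exact single_comm_mem S hs (by rcases hc with rfl | rfl <;> simp) t
      · refine torus_comm_mem S hG hj (simple_lt C hi) ha ?_ t
        rw [hjc, zpow_neg_one]
        exact fun h => ha1 (inv_eq_one.1 h)
      · by_cases h2 : (2 : F) = 0
        · refine torus_comm_mem S hG hi (simple_lt C hi) ha ?_ t
          rw [cartan_self C hi]
          intro h
          have h3 : (a - 1) * (a - 1) = 0 := by
            rw [show ((2 : ℤ)) = ((2 : ℕ) : ℤ) from rfl, zpow_natCast] at h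
            linear_combination h - (a - 1) * h2
          exact ha1 (sub_eq_zero.1 (mul_self_eq_zero.1 h3))
        · exact single_comm_mem S hs (by rcases hc with rfl | rfl <;> simpa using h2) t
    · have hn : (commutator P).Normal := inferInstance
      have e := n_conj S hG hi hr one_ne_zero ((C.eta i r : F) * t)
      rw [cn, one_zpow, one_mul, ← mul_assoc, eta_cast_sq C, one_mul] at e
      rw [← e]
      exact hn.conj_mem _ (ih _) _
  rw [eq_top_iff, ← S.gen, Subgroup.closure_le]
  rintro g ⟨r, hr, t, rfl⟩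
  exact hall r hr t

theorem perfect_all {D : ChevalleyDatum} {C : Cert D} (S : Sys C F P)
    (hD : D ∈ [chevG2, chevB2, chevD4, chevF4, chevE6, chevE7, chevE8])
    (hK : D ∈ [chevB2, chevG2] → ∃ x : F, x ≠ 0 ∧ x ≠ 1) : commutator P = ⊤ := by
  refine perfect S (StGen.gen_all hD) ?_
  simp only [List.mem_cons, List.not_mem_nil, or_false] at hD
  rcases hD with rfl | rfl | rfl | rfl | rfl | rfl | rfl
  exacts [ChevalleyPerfect.reachG2 (hK (by simp)), ChevalleyPerfect.reachB2 (hK (by simp)),
    ChevalleyPerfect.reachD4, ChevalleyPerfect.reachF4, ChevalleyPerfect.reachE6, ChevalleyPerfect.reachE7,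
    ChevalleyPerfect.reachE8]

variable {S}
variable {Γ : Type*} [Group Γ] {π : Γ →* P}

/-- over a field with more than four elements the relations lift to a perfect central extension -/
theorem lift_big {D : ChevalleyDatum} {C : Cert D} (S : Sys C F P)
    (hD : D ∈ [chevG2, chevB2, chevD4, chevF4, chevE6, chevE7, chevE8]) (h5 : ∃ s : Finset F, 4 < s.card)
    (π : Γ →* P) (hπ : Function.Surjective π) (hc : π.ker ≤ Subgroup.center Γ) (hk : commutator Γ = ⊤) :
    ∃ U : Sys C F Γ, U.θ = S.θ.comp π ∧ ∀ r, r < D.nroots → ∀ t : F, π (U.x r t) = S.x r t := by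
  have hG := StGen.gen_all hD
  have hk' : π.ker ≤ commutator Γ := hk ▸ le_top
  have hc2 : (S.θ.comp π).ker ≤ Subgroup.center Γ := by
    intro z hz
    rw [Subgroup.mem_center_iff]
    have hzP : ∀ y, Commute y (π z) :=
      Subgroup.mem_center_iff.1 (StBruhat.mem_center_of_ker S hG (MonoidHom.mem_ker.1 hz))
    have hle : commutator Γ ≤ Subgroup.centralizer {z} := by
      rw [_root_.commutator_def, Subgroup.commutator_le]
      intro a _ b _
      rw [Subgroup.mem_centralizer_singleton_iff]
      have e : z * ⁅a, b⁆ * z⁻¹ = ⁅a, b⁆ := by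
        rw [conjugate_commutatorElement]
        refine StemPairing.bracket_congr hc ?_ ?_ <;>
          rw [map_mul, map_mul, map_inv, mul_inv_eq_iff_eq_mul] <;> exact ((hzP _).eq).symm
      exact (mul_inv_eq_iff_eq_mul.1 e).symm
    intro g
    exact (Subgroup.mem_centralizer_singleton_iff.1 (hle (hk ▸ Subgroup.mem_top g)))
  have hT : TorusOK S π := torusOK_of_central hc hc2
  simp only [List.mem_cons, List.not_mem_nil, or_false] at hD
  rcases hD with rfl | rfl | rfl | rfl | rfl | rfl | rfl
  · exact StClosedSmall.lift_of_big S hG π hπ hc hk' hT ChevalleyDataG2.fast StSepCases.pairs_G2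
      StSepCases.scal_G2 (by decide) h5
  · exact StClosedSmall.lift_of_big S hG π hπ hc hk' hT ChevalleyDataB2.fast StSepCases.pairs_B2
      StSepCases.scal_B2 (by decide) h5
  · exact StClosedSmall.lift_of_big S hG π hπ hc hk' hT ChevalleyDataD4.fast StSepCases.pairs_D4
      StSepCases.scal_D4 (by decide) h5
  · exact StClosedSmall.lift_of_big S hG π hπ hc hk' hT ChevalleyDataF4.fast StSepCases.pairs_F4
      StSepCases.scal_F4 (by decide) h5
  · exact StClosedADE.lift_sys S π hπ hc (StClosedADE.commAll_of_wit S π hπ hc hG (StDataADE.data_E6 C)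
      StDataADE.wit_E6) hG (StDataADE.data_E6 C) hk'
  · exact StClosedADE.lift_sys S π hπ hc (StClosedADE.commAll_of_wit S π hπ hc hG (StDataADE.data_E7 C)
      StDataADE.wit_E7) hG (StDataADE.data_E7 C) hk'
  · exact StClosedADE.lift_sys S π hπ hc (StClosedADE.commAll_of_wit S π hπ hc hG (StDataADE.data_E8 C)
      StDataADE.wit_E8) hG (StDataADE.data_E8 C) hk'

/-! ### the presented group -/

variable (C) (F)

/-- a system on `Γ` receives a homomorphism from the presented group -/
theorem exists_section (T : Sys C F Γ) : ∃ ψ : D.SteinbergCover F →* Γ,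
    ∀ r, r < D.nroots → ∀ t : F, ψ ((StGroup.sysCover C F).x r t) = T.x r t := by
  set f : Fin D.nroots × F → Γ := fun p => T.x p.1.val p.2
  have hlift : ∀ r, r < D.nroots → ∀ t, FreeGroup.lift f (D.stX r t) = T.x r t := by
    intro r hr t
    rw [ChevalleyDatum.stX, dif_pos hr, FreeGroup.lift_apply_of]
  have hrels : ∀ g ∈ D.steinbergRelsAB F, FreeGroup.lift f g = 1 := by
    rintro g (⟨r, a, b, hr, rfl⟩ | ⟨r, s, t, u, hr, hs, h1, h2, rfl⟩)
    · rw [map_mul, map_mul, map_inv, hlift r hr, hlift r hr, hlift r hr, T.x_add r hr, mul_inv_cancel]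
    · have e : FreeGroup.lift f (D.stWord (D.commWord F r s t u)) =
          ((D.commWord F r s t u).map fun p => T.x p.1 p.2).prod := by
        rw [ChevalleyDatum.stWord, map_list_prod, List.map_map]
        exact congrArg List.prod (List.map_congr_left fun p hp =>
          hlift _ (StGroup.commWord_lt C F hr hs t u p hp) _)
      simp only [map_mul, map_inv, hlift r hr, hlift s hs, e]
      rw [mul_inv_eq_one, mul_assoc _ (T.x s u), T.comm r s hr hs h1 h2 t u]
      group
  refine ⟨PresentedGroup.toGroup (f := f) hrels, fun r hr t => ?_⟩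
  show PresentedGroup.toGroup (f := f) hrels (PresentedGroup.mk _ (D.stX r t)) = _
  rw [ChevalleyDatum.stX, dif_pos hr]
  exact PresentedGroup.toGroup.of _

variable {G₁ E : Type*} [Group G₁] [Group E] {π₁ : E →* G₁}

/-- two homomorphisms from a perfect group with the same composite into a central quotient agree -/
theorem lift_unique {Δ : Type*} [Group Δ] (hperf : commutator Δ = ⊤) (hc₁ : π₁.ker ≤ Subgroup.center E)
    {τ τ' : Δ →* E} (h : π₁.comp τ = π₁.comp τ') : τ = τ' := by
  have hle : commutator Δ ≤ τ.eqLocus τ' := by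
    rw [_root_.commutator_def, Subgroup.commutator_le]
    intro a _ b _
    show τ ⁅a, b⁆ = τ' ⁅a, b⁆
    rw [map_commutatorElement, map_commutatorElement]
    exact StemPairing.bracket_congr hc₁ (DFunLike.congr_fun h a) (DFunLike.congr_fun h b)
  exact MonoidHom.ext fun x => hle (hperf ▸ Subgroup.mem_top x)

section Pullback

variable {Δ : Type*} [Group Δ] (σ : Δ →* G₁) (π₁)

/-- the pullback of `π₁` along `σ` -/
def pullback : Subgroup (Δ × E) :=
  MonoidHom.eqLocus (σ.comp (MonoidHom.fst Δ E)) (π₁.comp (MonoidHom.snd Δ E))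

/-- its derived subgroup -/
abbrev derivedPullback : Subgroup (pullback π₁ σ) := commutator (pullback π₁ σ)

/-- the projection to `Δ` -/
def toBase : derivedPullback π₁ σ →* Δ :=
  (MonoidHom.fst Δ E).comp ((pullback π₁ σ).subtype.comp (derivedPullback π₁ σ).subtype)

/-- the projection to `E` -/
def toExt : derivedPullback π₁ σ →* E :=
  (MonoidHom.snd Δ E).comp ((pullback π₁ σ).subtype.comp (derivedPullback π₁ σ).subtype)

theorem toExt_spec (x : derivedPullback π₁ σ) : π₁ (toExt π₁ σ x) = σ (toBase π₁ σ x) :=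
  (((x : pullback π₁ σ)).2).symm

variable (hperf : commutator Δ = ⊤) (hs₁ : Function.Surjective π₁) (hc₁ : π₁.ker ≤ Subgroup.center E)

include hs₁ in
theorem fst_surjective : Function.Surjective ((MonoidHom.fst Δ E).comp (pullback π₁ σ).subtype) := fun g => by
  obtain ⟨e, he⟩ := hs₁ (σ g)
  exact ⟨⟨(g, e), he.symm⟩, rfl⟩

include hc₁ in
theorem fst_ker : ((MonoidHom.fst Δ E).comp (pullback π₁ σ).subtype).ker ≤ Subgroup.center (pullback π₁ σ) := by
  intro x hx
  have h1 : (x : Δ × E).1 = 1 := MonoidHom.mem_ker.1 hx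
  have h2 : π₁ (x : Δ × E).2 = 1 := by
    have h' : σ (x : Δ × E).1 = π₁ (x : Δ × E).2 := x.2
    rw [← h', h1, map_one]
  refine Subgroup.mem_center_iff.2 fun g => Subtype.ext (Prod.ext ?_ ?_)
  · simp [h1]
  · exact StemBasic.ker_comm hc₁ h2 _

include hc₁ in
theorem toBase_ker : (toBase π₁ σ).ker ≤ Subgroup.center (derivedPullback π₁ σ) := fun x hx =>
  Subgroup.mem_center_iff.2 fun g =>
    Subtype.ext (Subgroup.mem_center_iff.1 (fst_ker π₁ σ hc₁ (x := (x : pullback π₁ σ)) hx) (g : pullback π₁ σ))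

include hperf hs₁ in
theorem toBase_surjective : Function.Surjective (toBase π₁ σ) := by
  intro g
  have hD : (derivedPullback π₁ σ).map ((MonoidHom.fst Δ E).comp (pullback π₁ σ).subtype) = ⊤ := by
    rw [show derivedPullback π₁ σ = commutator _ from rfl, _root_.commutator_def, Subgroup.map_commutator,
      Subgroup.map_top_of_surjective _ (fst_surjective π₁ σ hs₁), ← _root_.commutator_def, hperf]
  obtain ⟨x, hx, hxe⟩ := (hD ▸ Subgroup.mem_top g : g ∈ (derivedPullback π₁ σ).map _)
  exact ⟨⟨x, hx⟩, hxe⟩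

include hperf hs₁ hc₁ in
theorem derived_perfect : commutator (derivedPullback π₁ σ) = ⊤ := by
  rw [eq_top_iff]
  rintro ⟨x, hx⟩ -
  have key : commutator (pullback π₁ σ) ≤ (commutator (derivedPullback π₁ σ)).map (derivedPullback π₁ σ).subtype := by
    rw [_root_.commutator_def, Subgroup.commutator_le]
    intro a _ b _
    obtain ⟨a', ha'⟩ := toBase_surjective π₁ σ hperf hs₁ (a : Δ × E).1
    obtain ⟨b', hb'⟩ := toBase_surjective π₁ σ hperf hs₁ (b : Δ × E).1
    rw [StemPairing.bracket_congr (σ := (MonoidHom.fst Δ E).comp (pullback π₁ σ).subtype) (fst_ker π₁ σ hc₁)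
      (a := a) (a' := (a' : pullback π₁ σ)) (b := b) (b' := (b' : pullback π₁ σ)) ha'.symm hb'.symm]
    exact ⟨⁅a', b'⁆, Subgroup.commutator_mem_commutator (Subgroup.mem_top _) (Subgroup.mem_top _), rfl⟩
  obtain ⟨x', hx', he⟩ := key hx
  have : x' = ⟨x, hx⟩ := Subtype.ext he
  exact this ▸ hx'

include hperf hs₁ hc₁ in
theorem derived_finite [Finite Δ] : Finite (derivedPullback π₁ σ) := by
  set f := (MonoidHom.fst Δ E).comp (pullback π₁ σ).subtype
  have hs : ∀ g, f (Function.surjInv (fst_surjective π₁ σ hs₁) g) = g := Function.surjInv_eq _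
  have : Finite (commutatorSet (pullback π₁ σ)) := by
    refine ((Set.finite_range fun p : Δ × Δ => ⁅Function.surjInv (fst_surjective π₁ σ hs₁) p.1,
      Function.surjInv (fst_surjective π₁ σ hs₁) p.2⁆).subset ?_).to_subtype
    rintro y ⟨a, b, rfl⟩
    exact ⟨(f a, f b), StemPairing.bracket_congr (fst_ker π₁ σ hc₁) (hs _) (hs _)⟩
  infer_instance

end Pullback

/-- existence of a lift, given lifts of the relations to the derived pullback -/
theorem exists_lift_of (σ : D.SteinbergCover F →* G₁)
    (hT : ∃ T : Sys C F (derivedPullback π₁ σ), ∀ r, r < D.nroots → ∀ t : F,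
      toBase π₁ σ (T.x r t) = (StGroup.sysCover C F).x r t) :
    ∃ τ : D.SteinbergCover F →* E, π₁.comp τ = σ := by
  obtain ⟨T, hT⟩ := hT
  obtain ⟨ψ, hψ⟩ := exists_section C F T
  refine ⟨(toExt π₁ σ).comp ψ, PresentedGroup.ext fun p => ?_⟩
  have e : PresentedGroup.of (rels := D.steinbergRelsAB F) p = (StGroup.sysCover C F).x p.1.val p.2 := by
    show _ = PresentedGroup.mk _ (D.stX p.1.val p.2)
    rw [ChevalleyDatum.stX, dif_pos p.1.isLt]
    rfl
  rw [MonoidHom.comp_apply, MonoidHom.comp_apply, e, hψ _ p.1.isLt, toExt_spec, hT _ p.1.isLt]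

end Cfsg.Agent.StUniversal
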