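import Mathlib
import Cfsg.Agent.Lib.BlockTheoryFirstMain

/-!
Blocks with abelian defect group: characters do not vanish on the products of an element of the
defect group with the representative of the defect class.
-/

namespace Cfsg.Agent.StableBlockSection83

open Cfsg Cfsg.Agent.BlockTheoryLocalRing Cfsg.Agent.BlockTheoryCentre
open Cfsg.Agent.BlockTheoryIdem Cfsg.Agent.BlockTheoryBrauer
open Cfsg.Agent.BlockTheoryInduced Cfsg.Agent.BlockTheoryDefect
open Cfsg.Agent.BlockTheoryFirstMain

attribute [local instance] Classical.propDecidable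

variable {p : ℕ} {M : Ideal AlgInt} {G : Type*} [Group G]

theorem sub_one_ideal_of_pow_eq_one (hM : IsPModular p M) {x : ℂ} (hx : MemLocalRing M x) {n : ℕ}
    (h : x ^ p ^ n = 1) : MemLocalIdeal M (x - 1) := by
  obtain ⟨r, hr⟩ := exists_add_pow_prime_pow_eq hM.1
    ((⟨x, hx⟩ : localRing hM) - 1) 1 n
  have h1 := congrArg (fun z : localRing hM => (z : ℂ)) hr
  simp only [sub_add_cancel, one_pow, Subring.coe_pow, Subring.coe_add, Subring.coe_mul,
    AddSubgroupClass.coe_sub, Subring.coe_one, Subring.coe_natCast, h, mul_one] at h1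
  refine ideal_of_pow_ideal hM ((localRing hM).sub_mem hx (localRing hM).one_mem) (n := p ^ n) ?_
  have h2 : (x - 1) ^ p ^ n = -((p : ℂ) * (x - 1) * (r : ℂ)) := by linear_combination -h1
  rw [h2]
  exact ideal_neg (ideal_mul_right hM (ideal_mul_right hM (natCast_p_mem hM)
    ((localRing hM).sub_mem hx (localRing hM).one_mem)) r.2)

variable [Fintype G] [Fact p.Prime]

/-- Being a `p`-element. -/
def PElt (p : ℕ) {H : Type*} [Group H] (w : H) : Prop := ∃ k : ℕ, orderOf w = p ^ k

omit [Fintype G] [Fact p.Prime] in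
theorem orderOf_conj (c x : G) : orderOf (c * x * c⁻¹) = orderOf x :=
  (MulEquiv.orderOf_eq (MulAut.conj c) x)

omit [Fintype G] [Fact p.Prime] in
theorem pelt_conj {w : G} (h : PElt p w) (c : G) : PElt p (c * w * c⁻¹) := by
  obtain ⟨k, hk⟩ := h
  exact ⟨k, by rw [orderOf_conj, hk]⟩

omit [Fintype G] [Fact p.Prime] in
theorem commute_conj {w x : G} (h : Commute w x) (c : G) :
    Commute (c * w * c⁻¹) (c * x * c⁻¹) := by
  show c * w * c⁻¹ * (c * x * c⁻¹) = c * x * c⁻¹ * (c * w * c⁻¹)
  calc c * w * c⁻¹ * (c * x * c⁻¹) = c * (w * x) * c⁻¹ := by group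
    _ = c * (x * w) * c⁻¹ := by rw [h.eq]
    _ = _ := by group

omit [Fintype G] in
/-- A conjugating element between products of commuting parts respects the parts. -/
theorem conj_parts {u g w x c : G} (hug : Commute u g) (hu : PElt p u) (hg : ¬ p ∣ orderOf g)
    (hwx : Commute w x) (hw : PElt p w) (hx : ¬ p ∣ orderOf x)
    (h : c * (u * g) * c⁻¹ = w * x) : c * u * c⁻¹ = w ∧ c * g * c⁻¹ = x := by
  have h1 : c * u * c⁻¹ * (c * g * c⁻¹) = w * x := by rw [← h]; group
  have e : c * u * c⁻¹ = w := pPart_unique (Fact.out : p.Prime)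
    ⟨c * g * c⁻¹, h1, commute_conj hug c, pelt_conj hu c, by rwa [orderOf_conj]⟩
    ⟨x, rfl, hwx, hw, hx⟩
  refine ⟨e, ?_⟩
  rw [e] at h1
  exact mul_left_cancel h1

variable {P : Subgroup G} {g : G} (S : Sylow p (Subgroup.centralizer ({g} : Set G)))

variable (hP : P = sylowIn S) (hPab : ∀ x ∈ P, ∀ y ∈ P, x * y = y * x)

include hP in
/-- A `p`-element centralising the defect group and a conjugate of the class lies in the defect
group. -/
theorem mem_of_pelt {x w : G} (hx : IsConj g x) (hxP : x ∈ Subgroup.centralizer (P : Set G))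
    (hw : PElt p w) (hwx : Commute w x) (hwP : w ∈ Subgroup.centralizer (P : Set G)) : w ∈ P := by
  have hPp : IsPGroup p P := hP ▸ isPGroup_sylowIn S
  obtain ⟨k, hk⟩ := hw
  have hZ : IsPGroup p (Subgroup.zpowers w) :=
    IsPGroup.of_card (n := k) (by rw [Nat.card_zpowers, hk])
  have hWN : Subgroup.zpowers w ≤ Subgroup.normalizer (P : Set G) :=
    Subgroup.zpowers_le.mpr (Subgroup.centralizer_le_normalizer _ hwP)
  have hJ : IsPGroup p (Subgroup.zpowers w ⊔ P : Subgroup G) :=
    hZ.to_sup_of_normal_right' hPp hWN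
  have hxJ : x ∈ Subgroup.centralizer ((Subgroup.zpowers w ⊔ P : Subgroup G) : Set G) := by
    refine le_centralizer_singleton_iff.mp (sup_le ?_ (le_centralizer_singleton_iff.mpr hxP))
    exact Subgroup.zpowers_le.mpr (Subgroup.mem_centralizer_singleton_iff.mpr hwx.eq)
  have hle := card_le_of_conjLe (conjLe_sylowIn_of_isConj hJ hx hxJ S)
  rw [← hP] at hle
  have heq : P = Subgroup.zpowers w ⊔ P := Subgroup.eq_of_le_of_card_ge le_sup_right hle
  rw [heq]
  exact Subgroup.mem_sup_left (Subgroup.mem_zpowers w)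

/-- The `p`-elements `w` commuting with `x` such that `w * x` is conjugate to `u * g`. -/
def parts (p : ℕ) (u g x : G) : Set G := {w | Commute w x ∧ PElt p w ∧ IsConj (u * g) (w * x)}

omit [Fintype G] [Fact p.Prime] in
theorem card_parts_conj (u : G) {x : G} (hx : IsConj g x) :
    Nat.card (parts p u g g) = Nat.card (parts p u g x) := by
  obtain ⟨a, rfl⟩ := isConj_iff.mp hx
  refine Nat.card_congr ((MulAut.conj a).toEquiv.subtypeEquiv fun w => ?_)
  show w ∈ parts p u g g ↔ a * w * a⁻¹ ∈ parts p u g (a * g * a⁻¹)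
  have hc : IsConj (w * g) (a * w * a⁻¹ * (a * g * a⁻¹)) := isConj_iff.mpr ⟨a, by group⟩
  constructor
  · rintro ⟨h1, h2, h3⟩
    exact ⟨commute_conj h1 a, pelt_conj h2 a, h3.trans hc⟩
  · rintro ⟨h1, h2, h3⟩
    have i1 := commute_conj h1 a⁻¹
    have i2 := pelt_conj h2 a⁻¹
    simp only [show ∀ y : G, a⁻¹ * (a * y * a⁻¹) * a⁻¹⁻¹ = y from fun y => by group] at i1 i2
    exact ⟨i1, i2, h3.trans hc.symm⟩

include hP hPab in
theorem not_dvd_card_parts (hg : ¬ p ∣ orderOf g) {u : G} (hu : u ∈ P) :
    ¬ p ∣ Nat.card (parts p u g g) := by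
  have : Fintype (Subgroup.centralizer ({g} : Set G)) := Fintype.ofFinite (Subgroup.centralizer ({g} : Set G))
  have hPC : P ≤ (Subgroup.centralizer ({g} : Set G)) := hP ▸ sylowIn_le S
  have hPp : IsPGroup p P := hP ▸ isPGroup_sylowIn S
  have hue : PElt p u := by
    obtain ⟨k, hk⟩ := IsPGroup.iff_orderOf.mp hPp ⟨u, hu⟩
    exact ⟨k, by simpa using hk⟩
  have hug : Commute u g := Subgroup.mem_centralizer_singleton_iff.mp (hPC hu)
  set uC : (Subgroup.centralizer ({g} : Set G)) := ⟨u, hPC hu⟩ with huC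
  have e : Nat.card (parts p u g g) = Nat.card {w : (Subgroup.centralizer ({g} : Set G)) // IsConj uC w} := by
    refine Nat.card_congr
      { toFun := fun w => ⟨⟨w.1, Subgroup.mem_centralizer_singleton_iff.mpr w.2.1.eq⟩, ?_⟩
        invFun := fun w => ⟨(w.1 : G), ?_⟩
        left_inv := fun w => rfl
        right_inv := fun w => rfl }
    · obtain ⟨c, hc⟩ := isConj_iff.mp w.2.2.2
      obtain ⟨h1, h2⟩ := conj_parts hug hue hg w.2.1 w.2.2.1 hg hc
      refine isConj_iff.mpr ⟨⟨c, Subgroup.mem_centralizer_singleton_iff.mpr ?_⟩, Subtype.ext h1⟩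
      exact mul_inv_eq_iff_eq_mul.mp h2
    · obtain ⟨c, hc⟩ := isConj_iff.mp w.2
      have h1 : (c : G) * u * (c : G)⁻¹ = (w.1 : G) := congrArg Subtype.val hc
      have h2 : (c : G) * g = g * c := Subgroup.mem_centralizer_singleton_iff.mp c.2
      refine ⟨Subgroup.mem_centralizer_singleton_iff.mp w.1.2, h1 ▸ pelt_conj hue _,
        isConj_iff.mpr ⟨c, ?_⟩⟩
      calc (c : G) * (u * g) * (c : G)⁻¹ = c * u * (c : G)⁻¹ * (c * g * (c : G)⁻¹) := by group
        _ = (w.1 : G) * g := by rw [h1, mul_inv_eq_iff_eq_mul.mpr h2]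
  rw [e, ← index_centralizer_eq]
  intro hd
  have hle : (S : Subgroup (Subgroup.centralizer ({g} : Set G))) ≤ Subgroup.centralizer ({uC} : Set (Subgroup.centralizer ({g} : Set G))) := fun z hz => by
    refine Subgroup.mem_centralizer_singleton_iff.mpr (Subtype.ext ?_)
    have hzP : (z : G) ∈ P := hP ▸ ⟨z, hz, rfl⟩
    exact hPab _ hzP _ hu
  exact S.not_dvd_index (hd.trans (Subgroup.index_dvd_of_le hle))

include hP hPab in
theorem card_parts_congr (hM : IsPModular p M) (hg : ¬ p ∣ orderOf g) {u : G} (hu : u ∈ P) {x : G}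
    (hx : IsConj g x) (hxP : x ∈ Subgroup.centralizer (P : Set G)) :
    MemLocalIdeal M ((Nat.card (parts p u g g) : ℂ) -
      Nat.card {v : P // IsConj (u * g) ((v : G) * x)}) := by
  have hPp : IsPGroup p P := hP ▸ isPGroup_sylowIn S
  have hconj : ∀ z ∈ P, ∀ w : G, w ∈ parts p u g x → z * w * z⁻¹ ∈ parts p u g x := by
    rintro z hz w ⟨h1, h2, h3⟩
    have hzx : z * x * z⁻¹ = x := by
      rw [mul_inv_eq_iff_eq_mul]
      exact Subgroup.mem_centralizer_iff.mp hxP z hz
    refine ⟨?_, pelt_conj h2 z, h3.trans (isConj_iff.mpr ⟨z, ?_⟩)⟩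
    · have := commute_conj h1 z
      rwa [hzx] at this
    · calc z * (w * x) * z⁻¹ = z * w * z⁻¹ * (z * x * z⁻¹) := by group
        _ = z * w * z⁻¹ * x := by rw [hzx]
  have hinv : ∀ z ∈ P, ∀ w, (if z * w * z⁻¹ ∈ parts p u g x then (1 : ℂ) else 0) =
      if w ∈ parts p u g x then 1 else 0 := by
    intro z hz w
    refine if_congr ⟨fun h => ?_, hconj z hz w⟩ rfl rfl
    have := hconj z⁻¹ (inv_mem hz) _ h
    simpa [mul_assoc] using this
  have h0 := ideal_sum_conj hM P hPp (fun w => if w ∈ parts p u g x then (1 : ℂ) else 0)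
    (fun w => by split_ifs <;> first | exact (localRing hM).one_mem | exact (localRing hM).zero_mem)
    hinv
  have hsplit : ∀ w : G, (if w ∈ Subgroup.centralizer (P : Set G) then (0 : ℂ)
      else if w ∈ parts p u g x then 1 else 0) =
      (if w ∈ parts p u g x then (1 : ℂ) else 0) -
        if w ∈ P ∧ IsConj (u * g) (w * x) then 1 else 0 := by
    intro w
    by_cases hwP : w ∈ P
    · have hwC : w ∈ Subgroup.centralizer (P : Set G) :=
        Subgroup.mem_centralizer_iff.mpr fun z hz => hPab z hz w hwP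
      have : w ∈ parts p u g x ↔ IsConj (u * g) (w * x) := by
        refine ⟨fun h => h.2.2, fun h => ⟨Subgroup.mem_centralizer_iff.mp hxP w hwP, ?_, h⟩⟩
        obtain ⟨k, hk⟩ := IsPGroup.iff_orderOf.mp hPp ⟨w, hwP⟩
        exact ⟨k, by simpa using hk⟩
      simp [hwC, hwP, this]
    · by_cases hwC : w ∈ Subgroup.centralizer (P : Set G)
      · have : w ∉ parts p u g x := fun h =>
          hwP (mem_of_pelt S hP hx hxP h.2.1 h.1 hwC)
        simp [hwC, hwP, this]
      · simp [hwC, hwP]
  rw [Finset.sum_congr rfl (fun w _ => hsplit w), Finset.sum_sub_distrib, Finset.sum_boole,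
    Finset.sum_boole] at h0
  have e : Nat.card {v : P // IsConj (u * g) ((v : G) * x)} =
      (Finset.univ.filter fun w : G => w ∈ P ∧ IsConj (u * g) (w * x)).card := by
    rw [← Fintype.card_subtype, ← Nat.card_eq_fintype_card]
    exact Nat.card_congr (Equiv.subtypeSubtypeEquivSubtypeInter (fun w => w ∈ P)
      fun w => IsConj (u * g) (w * x))
  have e2 : Nat.card (parts p u g x) =
      (Finset.univ.filter fun w : G => w ∈ parts p u g x).card := by
    rw [← Fintype.card_subtype, ← Nat.card_eq_fintype_card]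
  rw [card_parts_conj u hx, e2, e]
  exact h0

omit [Fintype G] [Fact p.Prime] in
theorem omega_single_central {H : Type*} [Group H] [Fintype H] (hM : IsPModular p M) {v : H}
    (hv : v ∈ Subgroup.center H) {k : ℕ} (hk : v ^ p ^ k = 1) (ξ : IrrCharacter H) :
    IsCen (MonoidAlgebra.single v (1 : ℂ)) ∧
      MemLocalIdeal M (omega (ξ : H → ℂ) (MonoidAlgebra.single v 1) - 1) := by
  have hcen : IsCen (MonoidAlgebra.single v (1 : ℂ)) := by
    intro a c
    simp only [MonoidAlgebra.coeff_single, Finsupp.single_apply]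
    have e : v = c * a * c⁻¹ ↔ v = a := by
      constructor
      · intro h
        have h2 : c⁻¹ * v * c = a := by rw [h]; group
        rw [← h2, mul_assoc, ← Subgroup.mem_center_iff.mp hv c, inv_mul_cancel_left]
      · rintro rfl
        rw [Subgroup.mem_center_iff.mp hv c, mul_inv_cancel_right]
    exact if_congr e rfl rfl
  refine ⟨hcen, ?_⟩
  refine sub_one_ideal_of_pow_eq_one hM
    (omega_mem_localRing hM ξ hcen (isInt_single hM v (localRing hM).one_mem)) (n := k) ?_
  rw [← omega_pow ξ hcen, MonoidAlgebra.single_pow, hk, one_pow, ← MonoidAlgebra.one_def,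
    omega_one]

include hP hPab in
/-- The characters of a block with abelian defect group do not vanish at `u * g`. -/
theorem apply_mul_ne_zero (hM : IsPModular p M) {B : Set (IrrCharacter G)} (hB : IsPBlock M B)
    (hgB : IsDefectClass M B g) {u : G} (hu : u ∈ P) {χ : IrrCharacter G} (hχ : χ ∈ B) :
    (χ : G → ℂ) (u * g) ≠ 0 := by
  have hp : p.Prime := Fact.out
  have hg : ¬ p ∣ orderOf g := fun h =>
    hgB.2.1 (by rw [blockCoeff_eq_zero_of_dvd hM hB h]; exact ideal_zero hM)
  have hD : IsDefectGroup p M B P := ⟨g, hgB, S, hP⟩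
  have hPp : IsPGroup p P := isPGroup_of_isDefectGroup hD
  set C := Subgroup.centralizer (P : Set G) with hC
  haveI : Fintype C := Fintype.ofFinite C
  haveI : Fintype P := Fintype.ofFinite P
  have hPC : P ≤ C := fun v hv => Subgroup.mem_centralizer_iff.mpr fun z hz => hPab z hz v hv
  obtain ⟨b0, hind⟩ := exists_inducing hM hB hPp C hPC le_rfl
    (Subgroup.centralizer_le_normalizer _) (not_small_cut_defect hM hB hD)
  obtain ⟨ξ, hξ⟩ := block_nonempty hM hind.1
  intro hzero
  set m := Nat.card (parts p u g g) with hm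
  set y := res C (classSum g) with hy
  set w := res C (classSum (u * g)) with hw
  have hug : Commute u g := by
    have : g ∈ C := by rw [hC, hP]; exact mem_centralizer_sylowIn S
    exact Subgroup.mem_centralizer_iff.mp this u hu
  have hue : PElt p u := by
    obtain ⟨k, hk⟩ := IsPGroup.iff_orderOf.mp hPp ⟨u, hu⟩
    exact ⟨k, by simpa using hk⟩
  have hy1 : ¬ MemLocalIdeal M (omega (ξ : C → ℂ) y) := by
    intro h
    have h1 := ideal_sub hM h
      (inducedBlock_congr C hM hind hξ hχ (isCen_classSum g) (isInt_classSum hM g))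
    rw [omega_classSum (irr_classFun χ)] at h1
    exact hgB.2.2 χ hχ (by simpa [hy] using h1)
  have hw1 : MemLocalIdeal M (omega (ξ : C → ℂ) w) := by
    have h1 := inducedBlock_congr C hM hind hξ hχ (isCen_classSum (u * g))
      (isInt_classSum hM (u * g))
    rw [omega_classSum (irr_classFun χ)] at h1
    simpa [hw, centralChar, hzero] using h1
  let vC : P → C := fun v => ⟨(v : G), hPC v.2⟩
  let Y : P → MonoidAlgebra ℂ C := fun v =>
    ofFun fun h : C => if IsConj g (h : G) ∧ IsConj (u * g) ((v : G) * h) then (1 : ℂ) else 0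
  have hYc : ∀ v, IsCen (Y v) := by
    intro v a c
    simp only [Y, coeff_ofFun, Subgroup.coe_mul, Subgroup.coe_inv]
    have hcv : (c : G) * v = v * c := (Subgroup.mem_centralizer_iff.mp c.2 v v.2).symm
    have i1 : IsConj (a : G) ((c : G) * a * (c : G)⁻¹) := isConj_iff.mpr ⟨c, rfl⟩
    have i2 : IsConj ((v : G) * a) ((v : G) * ((c : G) * a * (c : G)⁻¹)) :=
      isConj_iff.mpr ⟨c, by rw [← mul_assoc, hcv]; group⟩
    exact if_congr ⟨fun h => ⟨h.1.trans i1.symm, h.2.trans i2.symm⟩,
      fun h => ⟨h.1.trans i1, h.2.trans i2⟩⟩ rfl rfl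
  have hYi : ∀ v, IsInt M (Y v) := by
    intro v h
    simp only [Y, coeff_ofFun]
    split_ifs
    · exact (localRing hM).one_mem
    · exact (localRing hM).zero_mem
  have hdec : w = ∑ v : P, MonoidAlgebra.single (vC v) (1 : ℂ) * Y v := by
    refine MonoidAlgebra.ext (Finsupp.ext fun h => ?_)
    have hs : ∀ v : P, (MonoidAlgebra.single (vC v) (1 : ℂ) * Y v).coeff h =
        if IsConj g ((v : G)⁻¹ * h) ∧ IsConj (u * g) (h : G) then (1 : ℂ) else 0 := by
      intro v
      rw [coeff_mul_eq, Finset.sum_eq_single (vC v)]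
      · simp [Y, vC, coeff_ofFun]
      · intro b _ hb
        simp [Ne.symm hb]
      · simp
    rw [MonoidAlgebra.coeff_sum, Finset.sum_apply', Finset.sum_congr rfl fun v _ => hs v, hw,
      coeff_res, classSum, coeff_ofFun]
    by_cases hc : IsConj (u * g) (h : G)
    · obtain ⟨c, hcc⟩ := isConj_iff.mp hc
      set v0 := c * u * c⁻¹ with hv0
      set x0 := c * g * c⁻¹ with hx0
      have hh : (h : G) = v0 * x0 := by rw [← hcc, hv0, hx0]; group
      have hx0r : ¬ p ∣ orderOf x0 := by rwa [hx0, orderOf_conj]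
      have hfix : ∀ z ∈ P, z * v0 * z⁻¹ = v0 ∧ z * x0 * z⁻¹ = x0 := by
        intro z hz
        refine conj_parts (commute_conj hug c) (pelt_conj hue c) hx0r
          (commute_conj hug c) (pelt_conj hue c) hx0r ?_
        rw [← hh, mul_inv_eq_iff_eq_mul]
        exact Subgroup.mem_centralizer_iff.mp h.2 z hz
      have hv0C : v0 ∈ C := Subgroup.mem_centralizer_iff.mpr fun z hz =>
        mul_inv_eq_iff_eq_mul.mp (hfix z hz).1
      have hx0C : x0 ∈ C := Subgroup.mem_centralizer_iff.mpr fun z hz =>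
        mul_inv_eq_iff_eq_mul.mp (hfix z hz).2
      have hv0P : v0 ∈ P := mem_of_pelt S hP (isConj_iff.mpr ⟨c, rfl⟩) hx0C
        (pelt_conj hue c) (commute_conj hug c) hv0C
      rw [if_pos hc, Finset.sum_eq_single (⟨v0, hv0P⟩ : P)]
      · rw [if_pos]
        refine ⟨?_, hc⟩
        rw [hh, inv_mul_cancel_left]
        exact isConj_iff.mpr ⟨c, rfl⟩
      · intro v _ hv
        rw [if_neg]
        rintro ⟨h1, -⟩
        refine hv (Subtype.ext ?_)
        have hr : ¬ p ∣ orderOf ((v : G)⁻¹ * h) := by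
          obtain ⟨d, hd⟩ := isConj_iff.mp h1
          rw [← hd, orderOf_conj]; exact hg
        have hcomm : Commute (v : G) ((v : G)⁻¹ * h) :=
          ((Commute.refl (v : G)).inv_right).mul_right
            (Subgroup.mem_centralizer_iff.mp h.2 v v.2)
        obtain ⟨k, hk⟩ := IsPGroup.iff_orderOf.mp hPp v
        refine (pPart_unique hp (g := (h : G))
          ⟨(v : G)⁻¹ * h, by group, hcomm, ⟨k, by simpa using hk⟩, hr⟩
          ⟨x0, hh.symm, commute_conj hug c, pelt_conj hue c, hx0r⟩)
      · simp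
    · rw [if_neg hc]
      exact (Finset.sum_eq_zero fun v _ => if_neg fun h2 => hc h2.2).symm
  have hone : ∀ v : P, IsCen (MonoidAlgebra.single (vC v) (1 : ℂ)) ∧
      MemLocalIdeal M (omega (ξ : C → ℂ) (MonoidAlgebra.single (vC v) 1) - 1) := by
    intro v
    obtain ⟨k, hk⟩ := IsPGroup.iff_orderOf.mp hPp v
    refine omega_single_central hM (Subgroup.mem_center_iff.mpr fun c => Subtype.ext ?_)
      (k := k) (Subtype.ext ?_) ξ
    · exact (Subgroup.mem_centralizer_iff.mp c.2 v v.2).symm
    · have h2 : (v : G) ^ p ^ k = 1 := by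
        have := pow_orderOf_eq_one v
        rw [hk] at this
        simpa using congrArg Subtype.val this
      simpa [vC] using h2
  have hA : MemLocalIdeal M (omega (ξ : C → ℂ) w - ∑ v : P, omega (ξ : C → ℂ) (Y v)) := by
    rw [hdec, map_sum, ← Finset.sum_sub_distrib]
    refine ideal_sum hM fun v _ => ?_
    rw [omega_mul ξ (hone v).1]
    have := ideal_mul_right hM (hone v).2 (omega_mem_localRing hM ξ (hYc v) (hYi v))
    rwa [sub_mul, one_mul] at this
  have hB' : MemLocalIdeal M ((m : ℂ) * omega (ξ : C → ℂ) y -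
      ∑ v : P, omega (ξ : C → ℂ) (Y v)) := by
    rw [← map_sum, ← smul_eq_mul, ← map_smul, ← map_sub]
    refine omega_ideal_of_small hM ξ ?_ fun h => ?_
    · refine ((isCen_res C (isCen_classSum g)).smul _).sub ?_
      exact Finset.sum_induction _ IsCen (fun a b ha hb => ha.add hb) isCen_zero fun v _ => hYc v
    · rw [MonoidAlgebra.coeff_sub, Finsupp.sub_apply, MonoidAlgebra.coeff_sum, Finset.sum_apply',
        MonoidAlgebra.coeff_smul_apply, hy, coeff_res, classSum, coeff_ofFun]
      simp only [Y, coeff_ofFun]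
      by_cases hgh : IsConj g (h : G)
      · simp only [hgh, true_and, if_true, smul_eq_mul, mul_one, Finset.sum_boole]
        have := card_parts_congr S hP hPab hM hg hu hgh h.2
        rwa [Nat.card_eq_fintype_card (α := {v : P // _}), Fintype.card_subtype] at this
      · rw [if_neg hgh, smul_eq_mul, mul_zero, Finset.sum_eq_zero fun v _ => if_neg fun h2 => hgh h2.1,
          sub_zero]
        exact ideal_zero hM
  have hfin : MemLocalIdeal M ((m : ℂ) * omega (ξ : C → ℂ) y) := by
    have := ideal_add hM (ideal_sub hM hB' hA) hw1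
    simpa using this
  refine not_ideal_mul hM (natCast_mem (localRing hM) m)
    (omega_mem_localRing hM ξ (isCen_res C (isCen_classSum g))
      (isInt_res C (isInt_classSum hM g))) ?_ hy1 hfin
  rw [natCast_mem_iff hM]
  exact not_dvd_card_parts S hP hPab hg hu

end Cfsg.Agent.StableBlockSection83
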