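import Mathlib
import Cfsg.Prelude.Def_BlockRank
import Cfsg.Prelude.Def_BlockLocal
import Cfsg.Agent.Lib.BrauerBlocksCovering
import Cfsg.Agent.Lib.CharInducedAbelianQuot
import Cfsg.Agent.Lib.StableBlockSection83

/-!
A block of a normal subgroup of `p`-power index stable in the group, and a covering block with
abelian defect group.
-/

namespace Cfsg.Agent.StableBlockNormal83

open Cfsg Cfsg.Agent.BlockTheoryLocalRing Cfsg.Agent.BlockTheoryCentre
open Cfsg.Agent.BlockTheoryIdem Cfsg.Agent.BlockTheoryBrauer Cfsg.Agent.BlockTheoryNormal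
open Cfsg.Agent.BlockTheoryDefect Cfsg.Agent.BrauerBlocksCovering
open scoped ComplexConjugate

attribute [local instance] Classical.propDecidable

variable {p : ℕ} {M : Ideal AlgInt} {G : Type*} [Group G] [Fintype G]
  {N : Subgroup G} [hN : N.Normal]

omit [Fintype G] in
theorem regular_mem (hp : p.Prime) (hNi : ∃ k : ℕ, N.index = p ^ k) {x : G}
    (hx : ¬ p ∣ orderOf x) : x ∈ N := by
  by_contra hxN
  obtain ⟨k, hk⟩ := hNi
  rw [Subgroup.index] at hk
  obtain ⟨j, -, hj⟩ := (Nat.dvd_prime_pow hp).mp (show orderOf (x : G ⧸ N) ∣ p ^ k from hk ▸ (orderOf_dvd_natCard (x : G ⧸ N)))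
  rcases j with _ | j
  · exact hxN ((QuotientGroup.eq_one_iff x).mp (orderOf_eq_one_iff.mp (by simpa using hj)))
  · refine hx (dvd_trans ?_ (orderOf_map_dvd (QuotientGroup.mk' N) x))
    show p ∣ orderOf (x : G ⧸ N)
    rw [hj]
    exact dvd_pow_self p (Nat.succ_ne_zero j)

variable [Fintype N] {b : Set (IrrCharacter N)} {B : Set (IrrCharacter G)}

omit [Fintype N] in
theorem idem_supp (hM : IsPModular p M) (hNi : ∃ k : ℕ, N.index = p ^ k) (hB : IsPBlock M B) :
    ∀ x ∉ N, (idem B).coeff x = 0 := fun x hx => by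
  rw [coeff_idem]
  exact blockCoeff_eq_zero_of_dvd hM hB (by_contra fun h => hx (regular_mem hM.1 hNi h))

omit [Fintype N] [Fintype G] in
theorem conjIrr_mem (hb : ∀ g : G, StabilizesBlock N b g) [Finite G] {θ : IrrCharacter N}
    (hθ : θ ∈ b) (a : G) : conjIrr N θ a ∈ b := by
  obtain ⟨χ', hχ', hc⟩ := (hb a⁻¹).2 θ hθ
  have : conjIrr N θ a = χ' := by
    refine Subtype.ext (funext fun n => ?_)
    exact (hc ⟨a * n * a⁻¹, hN.conj_mem n n.2 a⟩ n (by simp [mul_assoc])).symm
  exact this ▸ hχ'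

theorem orb_eq (hb : ∀ g : G, StabilizesBlock N b g) : orb N b = b := by
  refine Set.Subset.antisymm (fun ξ ⟨g, hg⟩ => ?_) fun ξ => mem_orb_of_mem N
  have := conjIrr_mem hb hg g⁻¹
  rwa [conjIrr_conjIrr, mul_inv_cancel, conjIrr_one] at this

theorem mem_block_of_over (hM : IsPModular p M) (hNi : ∃ k : ℕ, N.index = p ^ k)
    (hB : IsPBlock M B) (hb : IsPBlock M b) {χ0 χ : IrrCharacter G} {θ0 θ : IrrCharacter N}
    (h0 : χ0 ∈ B) (hθ0 : θ0 ∈ b)
    (hc0 : classInner (fun n : N => (χ0 : G → ℂ) n) (θ0 : N → ℂ) ≠ 0) (hθ : θ ∈ b)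
    (hc : classInner (fun n : N => (χ : G → ℂ) n) (θ : N → ℂ) ≠ 0) : χ ∈ B := by
  by_contra hχ
  have hs := idem_supp (N := N) hM hNi hB
  have h1 := omega_sub_mem hM (sameBlock_of_mem hM hb hθ0 hθ) (isCen_res N (isCen_idem B))
    (isInt_res N (isInt_idem hM hB))
  rw [← omega_eq_omega_res N χ0 θ0 hc0 (isCen_idem B) hs,
    ← omega_eq_omega_res N χ θ hc (isCen_idem B) hs, omega_idem, omega_idem, if_pos h0,
    if_neg hχ, sub_zero] at h1
  exact one_not_ideal hM h1

theorem constituents_mem (hM : IsPModular p M) (hB : IsPBlock M B) (hb : IsPBlock M b)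
    (hst : ∀ g : G, StabilizesBlock N b g) {χ0 χ : IrrCharacter G} {θ0 θ : IrrCharacter N}
    (h0 : χ0 ∈ B) (hθ0 : θ0 ∈ b)
    (hc0 : classInner (fun n : N => (χ0 : G → ℂ) n) (θ0 : N → ℂ) ≠ 0) (hχ : χ ∈ B)
    (hc : classInner (fun n : N => (χ : G → ℂ) n) (θ : N → ℂ) ≠ 0) : θ ∈ b := by
  have := mem_orb_of_sameBlock N hM hb (sameBlock_of_mem hM hB h0 hχ) hθ0 hc0 hc
  rwa [orb_eq hst] at this

theorem exists_over' (θ : IrrCharacter N) :
    ∃ χ : IrrCharacter G, classInner (fun n : N => (χ : G → ℂ) n) (θ : N → ℂ) ≠ 0 := by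
  have hind := CharInduced.isCharacter_ind N (CharBasic.isCharacter_of_isIrrCharacter θ.2)
  obtain ⟨χ, hχ⟩ := exists_constituent hind (by
    rw [CharInduced.ind_one_apply]
    exact mul_ne_zero (Nat.cast_ne_zero.mpr N.index_ne_zero_of_finite) (irr_one_ne_zero θ))
  refine ⟨χ, fun h => hχ ?_⟩
  rw [CharInduced.inner_ind_left N _ (irr_classFun χ), ← CharBasicOrth.conj_classInner, h, map_zero]

theorem exists_res_constituent (χ : IrrCharacter G) :
    ∃ θ : IrrCharacter N, classInner (fun n : N => (χ : G → ℂ) n) (θ : N → ℂ) ≠ 0 := by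
  refine exists_constituent (G := N)
    (CharInduced.isCharacter_res N (CharBasic.isCharacter_of_isIrrCharacter χ.2)) ?_
  simpa using irr_one_ne_zero χ

/-- The classes of the normal subgroup inside the class of `g` are counted by the index of
`N ⊔ C(g)`. -/
theorem card_classes (g : N) :
    (Finset.univ.filter fun C : ConjClasses N => IsConj (g : G) (C.out : G)).card =
      (N ⊔ Subgroup.centralizer ({(g : G)} : Set G)).index := by
  set T := N ⊔ Subgroup.centralizer ({(g : G)} : Set G) with hT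
  rw [Subgroup.index, ← Fintype.card_subtype, ← Nat.card_eq_fintype_card]
  let cj : G → N := fun a => ⟨a * g * a⁻¹, hN.conj_mem g g.2 a⟩
  have key : ∀ a b : G, IsConj (cj a) (cj b) ↔ a⁻¹ * b ∈ T := by
    intro a b
    constructor
    · intro h
      obtain ⟨n, hn⟩ := isConj_iff.mp h
      have hn' : (n : G) * (a * g * a⁻¹) * (n : G)⁻¹ = b * g * b⁻¹ := congrArg Subtype.val hn
      have hc : b⁻¹ * n * a ∈ Subgroup.centralizer ({(g : G)} : Set G) := by
        refine Subgroup.mem_centralizer_singleton_iff.mpr ?_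
        calc b⁻¹ * n * a * g = b⁻¹ * ((n : G) * (a * g * a⁻¹) * (n : G)⁻¹) * n * a := by group
          _ = g * (b⁻¹ * n * a) := by rw [hn']; group
      have e : a⁻¹ * b = a⁻¹ * n * a * (b⁻¹ * n * a)⁻¹ := by group
      rw [e]
      exact mul_mem (Subgroup.mem_sup_left (by simpa using hN.conj_mem n n.2 a⁻¹))
        (inv_mem (Subgroup.mem_sup_right hc))
    · intro h
      obtain ⟨n, hn, c, hc, hnc⟩ := Subgroup.mem_sup_of_normal_left.mp h
      have hcg := Subgroup.mem_centralizer_singleton_iff.mp hc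
      refine isConj_iff.mpr ⟨⟨a * n * a⁻¹, hN.conj_mem n hn a⟩, Subtype.ext ?_⟩
      show a * n * a⁻¹ * (a * g * a⁻¹) * (a * n * a⁻¹)⁻¹ = b * g * b⁻¹
      have hb : b = a * (n * c) := by rw [hnc]; group
      have hc2 : c * (g : G) * c⁻¹ = g := mul_inv_eq_iff_eq_mul.mpr hcg
      calc a * n * a⁻¹ * (a * g * a⁻¹) * (a * n * a⁻¹)⁻¹ = a * n * g * n⁻¹ * a⁻¹ := by group
        _ = a * n * (c * g * c⁻¹) * n⁻¹ * a⁻¹ := by rw [hc2]
        _ = b * g * b⁻¹ := by rw [hb]; group
  refine (Nat.card_eq_of_bijective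
    (fun q : G ⧸ T => (⟨ConjClasses.mk (cj q.out), ?_⟩ :
      {C : ConjClasses N // IsConj (g : G) (C.out : G)})) ⟨?_, ?_⟩).symm
  · exact IsConj.trans (isConj_iff.mpr ⟨q.out, rfl⟩ : IsConj (g : G) ((cj q.out : N) : G))
      (N.subtype.map_isConj (show IsConj (cj q.out) (ConjClasses.mk (cj q.out)).out from
        ((isConj_out _).mp rfl).symm))
  · intro q q' h
    rw [← Quotient.out_eq q, ← Quotient.out_eq q']
    exact QuotientGroup.eq.mpr ((key _ _).mp
      (ConjClasses.mk_eq_mk_iff_isConj.mp (congrArg Subtype.val h)))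
  · rintro ⟨C, hC⟩
    obtain ⟨a, ha⟩ := isConj_iff.mp hC
    refine ⟨(a : G ⧸ T), Subtype.ext ?_⟩
    have h1 : IsConj (cj (a : G ⧸ T).out) C.out := by
      have : (cj a : N) = C.out := Subtype.ext ha
      rw [← this]
      refine (key _ _).mpr (QuotientGroup.eq.mp ?_)
      exact Quotient.out_eq _
    exact ((isConj_out C).mpr h1.symm)

variable [Fact p.Prime]

set_option maxHeartbeats 1000000 in
/-- The stable block covered by a block with defect class `g` sees the whole of the group through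
the centraliser of `g`. -/
theorem sup_centralizer_eq_top (hM : IsPModular p M) (hNi : ∃ k : ℕ, N.index = p ^ k)
    (hb : IsPBlock M b) (hst : ∀ g : G, StabilizesBlock N b g)
    {χ : IrrCharacter G} {θ : IrrCharacter N} (hθ : θ ∈ b)
    (hc : classInner (fun n : N => (χ : G → ℂ) n) (θ : N → ℂ) ≠ 0) (g : N)
    (hg : ¬ MemLocalIdeal M (centralChar (χ : G → ℂ) (g : G))) :
    N ⊔ Subgroup.centralizer ({(g : G)} : Set G) = ⊤ := by
  obtain ⟨k, hk⟩ := hNi
  set T := N ⊔ Subgroup.centralizer ({(g : G)} : Set G) with hT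
  obtain ⟨j, -, hj⟩ := (Nat.dvd_prime_pow hM.1).mp
    (hk ▸ Subgroup.index_dvd_of_le (show N ≤ T from le_sup_left))
  rcases j with _ | j
  · exact Subgroup.index_eq_one.mp (by simpa using hj)
  exfalso
  apply hg
  rw [← omega_classSum (irr_classFun χ), omega_eq_omega_res N χ θ hc (isCen_classSum _)
    (classSum_supp N g.2), (isCen_res N (isCen_classSum (g : G))).eq_sum_classSum, map_sum]
  set c := centralChar (θ : N → ℂ) g with hcdef
  have hcR : MemLocalRing M c := of_isIntegral hM (isIntegral_centralChar θ g)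
  have key : MemLocalIdeal M ((∑ C : ConjClasses N, omega (θ : N → ℂ)
      ((res N (classSum (g : G))).coeff C.out • classSum C.out)) -
      ∑ C : ConjClasses N, if IsConj (g : G) (C.out : G) then c else 0) := by
    rw [← Finset.sum_sub_distrib]
    refine ideal_sum hM fun C _ => ?_
    rw [map_smul, smul_eq_mul, coeff_res, classSum, coeff_ofFun,
      omega_classSum (irr_classFun θ)]
    split_ifs with h
    · obtain ⟨a, ha⟩ := isConj_iff.mp h
      rw [one_mul]
      have e : centralChar (conjIrr N θ a : N → ℂ) g = centralChar (θ : N → ℂ) C.out := by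
        show centralChar (CharInduced.conjFun N (θ : N → ℂ) a) g = _
        rw [centralChar_conjFun N]
        exact congrArg _ (Subtype.ext ha)
      rw [← e, hcdef]
      exact sameBlock_of_mem hM hb (conjIrr_mem hst hθ a) hθ g
    · simpa using ideal_zero hM
  obtain ⟨m, hm, hcard⟩ : ∃ m : ℕ, m = (N ⊔ Subgroup.centralizer ({(g : G)} : Set G)).index ∧
      (∑ C : ConjClasses N, if IsConj (g : G) (C.out : G) then c else 0) = (m : ℂ) * c :=
    ⟨_, card_classes g, by rw [← Finset.sum_filter, Finset.sum_const, nsmul_eq_mul]⟩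
  rw [hcard, hm, ← hT, hj] at key
  have h2 : MemLocalIdeal M (((p ^ (j + 1) : ℕ) : ℂ) * c) :=
    ideal_mul_right hM ((natCast_mem_iff hM).mpr (dvd_pow_self p (Nat.succ_ne_zero j))) hcR
  have := ideal_add hM key h2
  rw [sub_add_cancel] at this
  convert this using 2
  exact congrArg (fun i => @Finset.univ _ i) (Subsingleton.elim _ _)

theorem sup_defect_eq_top (hNi : ∃ k : ℕ, N.index = p ^ k) {g : G}
    (htop : N ⊔ Subgroup.centralizer ({g} : Set G) = ⊤)
    (S : Sylow p (Subgroup.centralizer ({g} : Set G))) : N ⊔ sylowIn S = ⊤ := by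
  obtain ⟨k, hk⟩ := hNi
  have hQ : IsPGroup p (G ⧸ N) := IsPGroup.of_card (n := k) hk
  let f := (QuotientGroup.mk' N).comp (Subgroup.centralizer ({g} : Set G)).subtype
  have hf : Function.Surjective f := by
    intro q
    obtain ⟨a, rfl⟩ := QuotientGroup.mk'_surjective N q
    obtain ⟨n, hn, c, hc, rfl⟩ := Subgroup.mem_sup_of_normal_left.mp
      (htop ▸ Subgroup.mem_top a : a ∈ N ⊔ Subgroup.centralizer ({g} : Set G))
    refine ⟨⟨c, hc⟩, ?_⟩
    simp only [f, MonoidHom.comp_apply, map_mul, Subgroup.coe_subtype]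
    rw [show QuotientGroup.mk' N n = 1 from (QuotientGroup.eq_one_iff n).mpr hn, one_mul]
  have hR := (S.mapSurjective hf).is_maximal' (hQ.to_subgroup ⊤) le_top
  rw [eq_top_iff]
  intro a _
  have ha : QuotientGroup.mk' N a ∈ (S.mapSurjective hf : Subgroup (G ⧸ N)) := hR ▸ Subgroup.mem_top _
  obtain ⟨s, hs, hsa⟩ := ha
  have hsP : (s : G) ∈ sylowIn S := ⟨s, hs, rfl⟩
  have hn : a * (s : G)⁻¹ ∈ N := by
    rw [← QuotientGroup.eq_one_iff, QuotientGroup.mk_mul, QuotientGroup.mk_inv]
    exact mul_inv_eq_one.mpr hsa.symm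
  have := mul_mem (Subgroup.mem_sup_left hn : a * (s : G)⁻¹ ∈ N ⊔ sylowIn S)
    (Subgroup.mem_sup_right hsP)
  simpa using this

/-- The defect group of the covered block. -/
theorem isDefectGroup_inter (hM : IsPModular p M) (hNi : ∃ k : ℕ, N.index = p ^ k)
    (hB : IsPBlock M B) (hb : IsPBlock M b) (hst : ∀ g : G, StabilizesBlock N b g)
    {χ0 : IrrCharacter G} {θ0 : IrrCharacter N} (h0 : χ0 ∈ B) (hθ0 : θ0 ∈ b)
    (hc0 : classInner (fun n : N => (χ0 : G → ℂ) n) (θ0 : N → ℂ) ≠ 0)
    (g : N) (hgB : IsDefectClass M B (g : G))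
    (S : Sylow p (Subgroup.centralizer ({(g : G)} : Set G)))
    (htop : N ⊔ Subgroup.centralizer ({(g : G)} : Set G) = ⊤) :
    IsDefectGroup p M b ((sylowIn S ⊓ N).subgroupOf N) := by
  have hidem : res N (idem B) = idem b := by
    refine ext_omega (isCen_res N (isCen_idem B)) (isCen_idem b) fun θ => ?_
    obtain ⟨χ, hχ⟩ := exists_over' (G := G) θ
    rw [← omega_eq_omega_res N χ θ hχ (isCen_idem B) (idem_supp hM hNi hB), omega_idem,
      omega_idem]
    refine if_congr ⟨fun h => constituents_mem hM hB hb hst h0 hθ0 hc0 h hχ,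
      fun h => mem_block_of_over hM hNi hB hb h0 hθ0 hc0 h hχ⟩ rfl rfl
  have hcoeff : blockCoeff b g = blockCoeff B (g : G) := by
    rw [← coeff_idem, ← hidem, coeff_res, coeff_idem]
  have hclass : res N (classSum (g : G)) = classSum g := by
    refine MonoidAlgebra.ext (Finsupp.ext fun n => ?_)
    simp only [coeff_res, classSum, coeff_ofFun]
    suffices e : IsConj (g : G) (n : G) ↔ IsConj g n by
      split_ifs with h1 h2 h2 <;> first | rfl | exact absurd (e.mp h1) h2 | exact absurd (e.mpr h2) h1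
    refine ⟨fun h => ?_, fun h => N.subtype.map_isConj h⟩
    obtain ⟨a, ha⟩ := isConj_iff.mp h
    obtain ⟨m, hm, c, hc, rfl⟩ := Subgroup.mem_sup_of_normal_left.mp
      (htop ▸ Subgroup.mem_top a : a ∈ N ⊔ Subgroup.centralizer ({(g : G)} : Set G))
    refine isConj_iff.mpr ⟨⟨m, hm⟩, Subtype.ext ?_⟩
    show m * (g : G) * m⁻¹ = n
    have hc2 : c * (g : G) * c⁻¹ = g :=
      mul_inv_eq_iff_eq_mul.mpr (Subgroup.mem_centralizer_singleton_iff.mp hc)
    calc m * (g : G) * m⁻¹ = m * (c * g * c⁻¹) * m⁻¹ := by rw [hc2]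
      _ = m * c * g * (m * c)⁻¹ := by group
      _ = n := ha
  refine ⟨g, ⟨hcoeff ▸ hgB.1, hcoeff ▸ hgB.2.1, fun θ hθ => ?_⟩, ?_⟩
  · obtain ⟨χ, hχ⟩ := exists_over' (G := G) θ
    have := hgB.2.2 χ (mem_block_of_over hM hNi hB hb h0 hθ0 hc0 hθ hχ)
    rwa [← omega_classSum (irr_classFun χ), omega_eq_omega_res N χ θ hχ (isCen_classSum _)
      (classSum_supp N g.2), hclass, omega_classSum (irr_classFun θ)] at this
  set CN := Subgroup.centralizer ({g} : Set N) with hCN
  have hQp : IsPGroup p (((sylowIn S ⊓ N).subgroupOf N).subgroupOf CN) :=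
    (((isPGroup_sylowIn S).to_le inf_le_left).comap_subtype).comap_subtype
  obtain ⟨R, hR⟩ := hQp.exists_le_sylow
  refine ⟨R, ?_⟩
  set R' : Subgroup G := ((R : Subgroup CN).map CN.subtype).map N.subtype with hR'
  have hR'p : IsPGroup p R' := (R.isPGroup'.map _).map _
  have hgR : (g : G) ∈ Subgroup.centralizer (R' : Set G) := by
    refine Subgroup.mem_centralizer_iff.mpr ?_
    rintro _ ⟨_, ⟨r, -, rfl⟩, rfl⟩
    exact congrArg Subtype.val (Subgroup.mem_centralizer_singleton_iff.mp r.2)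
  obtain ⟨a, ha⟩ := conjLe_sylowIn hR'p hgR S
  have hR'N : R' ≤ N := Subgroup.map_subtype_le _
  have hcard : Nat.card R' ≤ Nat.card (sylowIn S ⊓ N : Subgroup G) := by
    rw [← Subgroup.card_map_of_injective (f := (MulAut.conj a).toMonoidHom) (MulAut.conj a).injective]
    refine Subgroup.card_le_of_le (le_inf ha ?_)
    rintro _ ⟨r, hr, rfl⟩
    exact hN.conj_mem r (hR'N hr) a
  have hle : (sylowIn S ⊓ N : Subgroup G) ≤ R' := by
    rintro y ⟨hy1, hy2⟩
    have hyc : (⟨y, hy2⟩ : N) ∈ CN := Subgroup.mem_centralizer_singleton_iff.mpr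
      (Subtype.ext (Subgroup.mem_centralizer_singleton_iff.mp (sylowIn_le S hy1)))
    exact ⟨⟨y, hy2⟩, ⟨⟨_, hyc⟩, hR (show _ from ⟨hy1, hy2⟩), rfl⟩, rfl⟩
  have heq : (sylowIn S ⊓ N : Subgroup G) = R' := Subgroup.eq_of_le_of_card_ge hle hcard
  rw [heq, hR', Subgroup.subgroupOf, Subgroup.comap_map_eq_self_of_injective
    Subtype.val_injective]

/-- A character that does not vanish on any coset of `N` has irreducible restriction. -/
theorem classInner_res_self (χ : IrrCharacter G)
    (hab : ∀ x y : G ⧸ N, x * y = y * x)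
    (hnz : ∀ q : G ⧸ N, ∃ x : G, (x : G ⧸ N) = q ∧ (χ : G → ℂ) x ≠ 0) :
    classInner (fun n : N => (χ : G → ℂ) n) (fun n : N => (χ : G → ℂ) n) = 1 := by
  let i : CommGroup (G ⧸ N) := { (inferInstance : Group (G ⧸ N)) with mul_comm := hab }
  have : Finite ((G ⧸ N) →* ℂˣ) := Nat.finite_of_card_ne_zero (by
    rw [CommGroup.card_monoidHom_of_hasEnoughRootsOfUnity]; exact Nat.card_pos.ne')
  have : Fintype ((G ⧸ N) →* ℂˣ) := Fintype.ofFinite _
  have horth : ∀ q : G ⧸ N, ∑ l : (G ⧸ N) →* ℂˣ, (l q : ℂ) =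
      if q = 1 then (N.index : ℂ) else 0 := by
    intro q
    split_ifs with hq
    · subst hq
      simp only [map_one, Units.val_one, Finset.sum_const, Finset.card_univ, nsmul_eq_mul, mul_one]
      rw [← Nat.card_eq_fintype_card, CommGroup.card_monoidHom_of_hasEnoughRootsOfUnity]
      rfl
    · let ev : ((G ⧸ N) →* ℂˣ) →* ℂ :=
        { toFun := fun l => (l q : ℂ)
          map_one' := rfl
          map_mul' := fun l l' => rfl }
      have hev : ev ≠ 1 := by
        intro h
        obtain ⟨l, hl⟩ := CommGroup.exists_apply_ne_one_of_hasEnoughRootsOfUnity (G ⧸ N) ℂ hq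
        exact hl (Units.ext (DFunLike.congr_fun h l))
      exact sum_hom_units_eq_zero ev hev
  have hirr : ∀ l : (G ⧸ N) →* ℂˣ,
      IsIrrCharacter G (fun x => (χ : G → ℂ) x * ((l.comp (QuotientGroup.mk' N)) x : ℂ)) :=
    fun l => CharBasicDecomp.isIrrCharacter_mul_linear χ.2 _
  have h1 : ∑ l : (G ⧸ N) →* ℂˣ,
      classInner (fun x => (χ : G → ℂ) x * (l (x : G ⧸ N) : ℂ)) (χ : G → ℂ) = 1 := by
    rw [Finset.sum_eq_single 1]
    · simpa using CharBasicOrth.classInner_irr_self χ.2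
    · intro l _ hl
      refine CharBasicOrth.classInner_irr_ne (hirr l) χ.2 fun h => hl ?_
      refine MonoidHom.ext fun q => Units.ext ?_
      obtain ⟨x, rfl, hx⟩ := hnz q
      exact mul_left_cancel₀ hx ((congrFun h x).trans (mul_one _).symm)
    · simp
  rw [← h1]
  simp only [classInner]
  rw [← Finset.mul_sum, Finset.sum_comm]
  have h2 : ∀ x : G, ∑ l : (G ⧸ N) →* ℂˣ, (χ : G → ℂ) x * (l (x : G ⧸ N) : ℂ) *
      conj ((χ : G → ℂ) x) = if x ∈ N then (N.index : ℂ) * ((χ : G → ℂ) x *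
        conj ((χ : G → ℂ) x)) else 0 := by
    intro x
    rw [← Finset.sum_mul, ← Finset.mul_sum, horth]
    simp only [QuotientGroup.eq_one_iff]
    split_ifs <;> ring
  rw [Finset.sum_congr rfl fun x _ => h2 x, ← Finset.sum_filter,
    Finset.sum_subtype (p := fun x => x ∈ N) _ (fun x => by simp) (f := fun x =>
      (N.index : ℂ) * ((χ : G → ℂ) x * conj ((χ : G → ℂ) x))), ← Finset.mul_sum,
    ← Subgroup.index_mul_card N]
  push_cast
  have : (N.index : ℂ) ≠ 0 := Nat.cast_ne_zero.mpr N.index_ne_zero_of_finite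
  field_simp

omit [Fact p.Prime] in
/-- Equal restrictions give equal ranks. -/
theorem rank_eq (hp : p.Prime) (hNi : ∃ k : ℕ, N.index = p ^ k) (f : IrrCharacter G → IrrCharacter N)
    (hf : ∀ χ ∈ B, ∀ n : N, (χ : G → ℂ) n = (f χ : N → ℂ) n) (hfb : f '' B = b) :
    blockRank p B = blockRank p b := by
  let E : (N → ℂ) →ₗ[ℂ] (G → ℂ) :=
    { toFun := fun θ => extendByZero N θ
      map_add' := fun θ φ => funext fun x => CharInduced.ext_zero_add θ φ x
      map_smul' := fun c θ => funext fun x => CharInduced.ext_zero_smul c θ x }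
  have hE : Function.Injective E := fun θ φ h => funext fun n => by
    have := congrFun h (n : G)
    simpa [E, CharInduced.ext_zero_coe] using this
  have himg : (fun χ : IrrCharacter G => pRegularPart p (χ : G → ℂ)) '' B =
      E '' ((fun θ : IrrCharacter N => pRegularPart p (θ : N → ℂ)) '' b) := by
    rw [← hfb, Set.image_image, Set.image_image]
    refine Set.image_congr fun χ hχ => funext fun x => ?_
    by_cases hx : x ∈ N
    · obtain ⟨n, rfl⟩ : ∃ n : N, (n : G) = x := ⟨⟨x, hx⟩, rfl⟩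
      show pRegularPart p (χ : G → ℂ) (n : G) =
        extendByZero N (pRegularPart p (f χ : N → ℂ)) (n : G)
      rw [CharInduced.ext_zero_coe]
      have e : IsPRegular p (n : G) ↔ IsPRegular p n := by
        unfold IsPRegular
        rw [Subgroup.orderOf_coe]
      by_cases h : IsPRegular p n
      · simp only [pRegularPart, if_pos h, if_pos (e.mpr h)]
        exact hf χ hχ n
      · simp only [pRegularPart, if_neg h, if_neg (mt e.mp h)]
    · show pRegularPart p (χ : G → ℂ) x = extendByZero N (pRegularPart p (f χ : N → ℂ)) x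
      rw [CharInduced.ext_zero_of_not_mem _ hx]
      have h : ¬ IsPRegular p x := fun h => hx (regular_mem hp hNi h)
      simp only [pRegularPart, if_neg h]
  rw [blockRank, blockRank, himg, Submodule.span_image]
  exact (Submodule.equivMapOfInjective E hE _).symm.finrank_eq

end Cfsg.Agent.StableBlockNormal83
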