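import Mathlib
import Cfsg.Prelude.Def_PLocal
import Cfsg.Agent.Lib.Offenders
import Cfsg.Agent.Lib.OffendersReplace
import Cfsg.Agent.Lib.OffendersCore
import Cfsg.Agent.Lib.HallCore
import Cfsg.Agent.Lib.CoprimeAction
import Cfsg.Agent.Lib.PGroupsBasic

/-! The stable normal closure `W(S)` of `Ω₁(Z(S))`. -/

set_option autoImplicit false

open scoped commutatorElement

namespace Cfsg.Agent.StableClosure

open Cfsg

universe u

variable {S : Type u} [Group S] {p : ℕ}

/-- The family whose intersection is `W(S)`. -/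
def family (p : ℕ) (S : Type u) [Group S] : Set (Subgroup S) :=
  {W : Subgroup S | omegaOne p (Subgroup.center S) ≤ W ∧
    ∀ (H : Type u) [Group H] (τ : S →* H), IsStableEmbedding p τ → (W.map τ).Normal}

theorem stable_eq : stableNormalClosure p S = sInf (family p S) := rfl

theorem omegaZ_le : omegaOne p (Subgroup.center S) ≤ stableNormalClosure p S :=
  le_sInf fun _ hW => hW.1

theorem normal_omega_center {H : Type*} [Group H] {J : Subgroup H} (hJ : J.Normal) :
    (omegaOne p (J ⊓ Subgroup.centralizer (J : Set H))).Normal := by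
  refine ⟨fun x hx g => ?_⟩
  have hinj : Function.Injective (MulAut.conj g).toMonoidHom := (MulAut.conj g).injective
  have hJg : J.map (MulAut.conj g).toMonoidHom = J := by
    ext y
    constructor
    · rintro ⟨z, hz, rfl⟩; exact hJ.conj_mem z hz g
    · intro hy
      exact ⟨g⁻¹ * y * g, by simpa using hJ.conj_mem y hy g⁻¹, by simp [mul_assoc]⟩
  have e : (omegaOne p (J ⊓ Subgroup.centralizer (J : Set H))).map (MulAut.conj g).toMonoidHom =
      omegaOne p (J ⊓ Subgroup.centralizer (J : Set H)) := by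
    rw [Offenders.omegaOne_map hinj, ← Offenders.map_centralizer_range hinj, hJg]
  rw [← e]
  exact ⟨x, hx, rfl⟩

variable [Finite S]

theorem omegaCenterThompson_mem : omegaCenterThompson p S ∈ family p S := by
  refine ⟨(Subgroup.closure_le _).2 fun x hx => ?_, fun H _ τ hτ => ?_⟩
  · obtain ⟨A, hA⟩ := Offenders.exists_max (G := S) p
    have hc : ∀ a : S, a * x = x * a := fun a => Subgroup.mem_center_iff.1 hx.1 a
    exact Offenders.mem_omegaOne
      ⟨Offenders.max_le_thompson hA (Offenders.mem_max_of_commute hA hx.2 fun a _ => hc a),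
        fun a _ => hc a⟩ hx.2
  · rw [omegaCenterThompson, Offenders.omegaOne_map hτ.1, ← Offenders.map_centralizer_range hτ.1]
    exact normal_omega_center hτ.2.2.2.2.1

theorem stable_le : stableNormalClosure p S ≤ omegaCenterThompson p S :=
  sInf_le omegaCenterThompson_mem

theorem stable_mem : stableNormalClosure p S ∈ family p S := by
  refine ⟨omegaZ_le, fun H _ τ hτ => ⟨?_⟩⟩
  rintro _ ⟨w, hw, rfl⟩ h
  obtain ⟨v, -, hv⟩ := (omegaCenterThompson_mem.2 H τ hτ).conj_mem _ ⟨w, stable_le hw, rfl⟩ h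
  refine ⟨v, Subgroup.mem_sInf.2 fun W hW => ?_, hv⟩
  obtain ⟨v', hv', hvv⟩ := (hW.2 H τ hτ).conj_mem _ ⟨w, (sInf_le hW : _ ≤ W) hw, rfl⟩ h
  rwa [hτ.1 (hv.trans hvv.symm)]

theorem stable_ea : IsElementaryAbelian p (stableNormalClosure p S) :=
  Offenders.ea_mono (Offenders.omegaOne_ea fun x hx y hy => (hx.2 y hy.1).symm) stable_le

theorem stable_ne_bot [Fact p.Prime] (hS : IsPGroup p S) [Nontrivial S] :
    stableNormalClosure p S ≠ ⊥ := by
  haveI := hS.center_nontrivial
  obtain ⟨k, hk⟩ := (hS.to_subgroup (Subgroup.center S)).exists_card_eq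
  have hd : p ∣ Nat.card (Subgroup.center S) := by
    rw [hk]
    refine dvd_pow_self _ fun h => ?_
    subst h
    rw [pow_zero] at hk
    exact absurd hk (Finite.one_lt_card).ne'
  obtain ⟨z, hz⟩ := exists_prime_orderOf_dvd_card' p hd
  intro hbot
  have hzp : (z : S) ^ p = 1 := by
    rw [← SubmonoidClass.coe_pow, ← hz, pow_orderOf_eq_one]; rfl
  have h1 : (z : S) ∈ stableNormalClosure p S := omegaZ_le (Offenders.mem_omegaOne z.2 hzp)
  rw [hbot, Subgroup.mem_bot] at h1
  rw [show z = 1 from Subtype.ext h1, orderOf_one] at hz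
  exact (Fact.out : p.Prime).one_lt.ne hz

omit [Finite S] in
theorem center_map_equiv {S' : Type u} [Group S'] (η : S ≃* S') :
    (Subgroup.center S).map η.toMonoidHom = Subgroup.center S' := by
  ext y
  constructor
  · rintro ⟨x, hx, rfl⟩
    refine Subgroup.mem_center_iff.2 fun g => ?_
    obtain ⟨g', rfl⟩ := η.surjective g
    show η g' * η x = η x * η g'
    rw [← map_mul, ← map_mul, Subgroup.mem_center_iff.1 hx g']
  · intro hy
    refine ⟨η.symm y, Subgroup.mem_center_iff.2 fun g => ?_, by simp⟩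
    apply η.injective
    rw [map_mul, map_mul, η.apply_symm_apply, Subgroup.mem_center_iff.1 hy (η g)]

omit [Finite S] in
theorem map_family {S' : Type u} [Group S'] (η : S ≃* S') {W : Subgroup S}
    (hW : W ∈ family p S) : W.map η.toMonoidHom ∈ family p S' := by
  refine ⟨?_, fun H _ τ hτ => ?_⟩
  · rw [← center_map_equiv η, ← Offenders.omegaOne_map (f := η.toMonoidHom) η.injective]
    exact Subgroup.map_mono hW.1
  · rw [Subgroup.map_map]
    refine hW.2 H (τ.comp η.toMonoidHom) ?_
    obtain ⟨hinj, hfin, ⟨P, hP⟩, hc, hJ, hst⟩ := hτ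
    refine ⟨hinj.comp η.injective, hfin, ⟨P, ?_⟩, hc, ?_, fun V _ hV => hst V ?_⟩
    · rw [hP, MonoidHom.range_eq_map, MonoidHom.range_eq_map, ← Subgroup.map_map,
        Subgroup.map_top_of_surjective η.toMonoidHom η.surjective]
    · rwa [← Subgroup.map_map, Offenders.thompson_map_equiv η]
    · rw [← Subgroup.map_map] at hV
      refine hV.trans (le_of_eq ?_)
      congr 1
      rw [omegaCenterThompson, Offenders.omegaOne_map (f := η.toMonoidHom) η.injective,
        ← Offenders.map_centralizer_range (f := η.toMonoidHom) η.injective,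
        Offenders.thompson_map_equiv η]
      rfl

theorem stable_map {S' : Type u} [Group S'] (η : S ≃* S') :
    (stableNormalClosure p S).map η.toMonoidHom = stableNormalClosure p S' := by
  haveI : Finite S' := Finite.of_equiv S η.toEquiv
  apply le_antisymm
  · refine le_sInf fun W hW => ?_
    rw [Subgroup.map_le_iff_le_comap]
    refine sInf_le ?_
    have h := map_family η.symm hW
    rwa [Subgroup.map_equiv_eq_comap_symm'] at h
  · exact sInf_le (map_family η stable_mem)

theorem stable_characteristic : (stableNormalClosure p S).Characteristic :=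
  Subgroup.characteristic_iff_map_eq.2 fun η => stable_map η

/-- Frattini argument with the intersection of a Sylow subgroup and a normal subgroup. -/
theorem sup_normalizer_inf {H : Type*} [Group H] [Finite H] [Fact p.Prime] (P : Sylow p H)
    (D : Subgroup H) [D.Normal] :
    D ⊔ Subgroup.normalizer (((P : Subgroup H) ⊓ D : Subgroup H) : Set H) = ⊤ := by
  set T := (P : Subgroup H) ⊓ D with hT
  obtain ⟨R, hR⟩ := (P.isPGroup'.to_le (inf_le_left : T ≤ (P : Subgroup H))).comap_subtype
    (H := T) (K := D) |>.exists_le_sylow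
  have hRT : (R : Subgroup D).map D.subtype = T := by
    obtain ⟨Q, hQ⟩ := (R.isPGroup'.map D.subtype).exists_le_sylow
    obtain ⟨g, hg⟩ := MulAction.exists_smul_eq H Q P
    have hle : ((R : Subgroup D).map D.subtype).map (MulAut.conj g).toMonoidHom ≤ T := by
      refine le_inf ?_ ?_
      · rw [← hg]; exact Subgroup.map_mono hQ
      · rintro _ ⟨x, hx, rfl⟩
        exact ‹D.Normal›.conj_mem x (Subgroup.map_subtype_le _ hx) g
    refine (Subgroup.eq_of_le_of_card_ge (H := T) ?_ ?_).symm
    · intro x hx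
      exact ⟨⟨x, (inf_le_right : T ≤ D) hx⟩, hR hx, rfl⟩
    · have := Subgroup.card_le_of_le hle
      rwa [Subgroup.card_map_of_injective (MulAut.conj g).injective] at this
  have hfr := R.normalizer_sup_eq_top
  rw [hRT] at hfr
  rw [sup_comm]; exact hfr

/-- If a normal subgroup `D ≥ C` has `p`-power index over `C`, then `H = C N_H(S ∩ D)`. -/
theorem sup_normalizer_inf' {H : Type*} [Group H] [Finite H] [Fact p.Prime] (P : Sylow p H)
    {C D : Subgroup H} [C.Normal] [D.Normal] (hCD : C ≤ D)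
    (hD : IsPGroup p (D.map (QuotientGroup.mk' C))) :
    C ⊔ Subgroup.normalizer (((P : Subgroup H) ⊓ D : Subgroup H) : Set H) = ⊤ := by
  rw [eq_top_iff, ← sup_normalizer_inf P D]
  refine sup_le (fun d hd => ?_) le_sup_right
  have h1 := OffendersCore.le_sylow_sup hD P hd
  rw [← SetLike.mem_coe, Subgroup.mul_normal] at h1
  obtain ⟨s, hs, c, hc, rfl⟩ := h1
  have hsD : s ∈ D := by
    have := D.mul_mem hd (D.inv_mem (hCD hc))
    rwa [mul_inv_cancel_right] at this
  exact mul_mem (Subgroup.mem_sup_right (Subgroup.le_normalizer ⟨hs, hsD⟩))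
    (Subgroup.mem_sup_left hc)

/-- The preimage of `O_p(H / C)` and its properties. -/
theorem exists_stable_sub {H : Type*} [Group H] [Finite H] [Fact p.Prime] (V : Subgroup H)
    [V.Normal] (hst : IsPStableOn p V) :
    ∃ D : Subgroup H, D.Normal ∧ Subgroup.centralizer (V : Set H) ≤ D ∧
      IsPGroup p (D.map (QuotientGroup.mk' (Subgroup.centralizer (V : Set H)))) ∧
      ∀ a : H, ⁅⁅V, Subgroup.zpowers a⁆, Subgroup.zpowers a⁆ = ⊥ → a ∈ D := by
  set C := Subgroup.centralizer (V : Set H) with hC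
  haveI := HallCore.pCore_normal p (H ⧸ C)
  refine ⟨(pCore p (H ⧸ C)).comap (QuotientGroup.mk' C), Subgroup.Normal.comap ‹_› _, ?_, ?_,
    fun a ha => hst a ha⟩
  · intro c hc
    show (c : H ⧸ C) ∈ pCore p (H ⧸ C)
    rw [(QuotientGroup.eq_one_iff c).2 hc]; exact one_mem _
  · rw [Subgroup.map_comap_eq_self_of_surjective (QuotientGroup.mk'_surjective C)]
    exact HallCore.isPGroup_pCore p (H ⧸ C)

theorem map_zpowers_commutator_bot {H : Type*} [Group H] {τ : S →* H} {W : Subgroup S} {x : S}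
    (h : ⁅⁅W, Subgroup.zpowers x⁆, Subgroup.zpowers x⁆ = ⊥) :
    ⁅⁅W.map τ, Subgroup.zpowers (τ x)⁆, Subgroup.zpowers (τ x)⁆ = ⊥ := by
  rw [← MonoidHom.map_zpowers, ← Subgroup.map_commutator, ← Subgroup.map_commutator, h,
    Subgroup.map_bot]

/-- No element of `S` acts quadratically and nontrivially on `W(S)`. -/
theorem quadratic_central [Fact p.Prime] (hS : IsPGroup p S) (x : S)
    (hq : ⁅⁅stableNormalClosure p S, Subgroup.zpowers x⁆, Subgroup.zpowers x⁆ = ⊥) :
    ∀ w ∈ stableNormalClosure p S, x * w = w * x := by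
  set W := stableNormalClosure p S with hW
  set X := {x : S | ⁅⁅W, Subgroup.zpowers x⁆, Subgroup.zpowers x⁆ = ⊥} with hX
  have hmem : W ⊓ Subgroup.centralizer X ∈ family p S := by
    refine ⟨le_inf omegaZ_le fun z hz y _ => Subgroup.mem_center_iff.1
      (Offenders.omegaOne_le _ hz) y, fun H _ τ hτ => ⟨?_⟩⟩
    rintro _ ⟨w, hw, rfl⟩ h
    haveI := hτ.2.1
    haveI hVn : (W.map τ).Normal := stable_mem.2 H τ hτ
    obtain ⟨P, hP⟩ := hτ.2.2.1
    obtain ⟨D, hDn, hCD, hDp, hDq⟩ := exists_stable_sub (W.map τ)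
      (hτ.2.2.2.2.2 (W.map τ) (Subgroup.map_mono stable_le))
    haveI := hDn
    have hh : h ∈ Subgroup.centralizer ((W.map τ : Subgroup H) : Set H) ⊔
        Subgroup.normalizer (((P : Subgroup H) ⊓ D : Subgroup H) : Set H) :=
      (sup_normalizer_inf' P hCD hDp).symm ▸ Subgroup.mem_top h
    rw [sup_comm, ← SetLike.mem_coe, Subgroup.mul_normal] at hh
    obtain ⟨n, hn, c, hc, rfl⟩ := hh
    obtain ⟨v, hvW, hv⟩ := hVn.conj_mem _ ⟨w, hw.1, rfl⟩ (n * c)
    refine ⟨v, ⟨hvW, fun y hy => ?_⟩, hv⟩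
    have hv' : τ v = n * τ w * n⁻¹ := by
      rw [hv]
      calc n * c * τ w * (n * c)⁻¹ = n * (c * τ w) * c⁻¹ * n⁻¹ := by group
        _ = n * (τ w * c) * c⁻¹ * n⁻¹ := by rw [hc (τ w) ⟨w, hw.1, rfl⟩]
        _ = n * τ w * n⁻¹ := by group
    have hyT : τ y ∈ (P : Subgroup H) ⊓ D :=
      ⟨hP.symm ▸ ⟨y, rfl⟩, hDq _ (map_zpowers_commutator_bot hy)⟩
    have h1 : n⁻¹ * τ y * n ∈ (P : Subgroup H) ⊓ D :=
      (Subgroup.mem_normalizer_iff''.1 hn _).1 hyT
    obtain ⟨z, hz⟩ : n⁻¹ * τ y * n ∈ τ.range := hP ▸ h1.1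
    have hzq : z ∈ X := by
      show ⁅⁅W, Subgroup.zpowers z⁆, Subgroup.zpowers z⁆ = ⊥
      apply Subgroup.map_injective hτ.1
      rw [Subgroup.map_commutator, Subgroup.map_commutator, MonoidHom.map_zpowers, Subgroup.map_bot,
        hz]
      have e1 : (Subgroup.zpowers (τ y)).map (MulAut.conj n⁻¹).toMonoidHom =
          Subgroup.zpowers (n⁻¹ * τ y * n) := by
        rw [MonoidHom.map_zpowers]; simp
      have e2 : (W.map τ).map (MulAut.conj n⁻¹).toMonoidHom = W.map τ := by
        ext u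
        constructor
        · rintro ⟨t, ht, rfl⟩; exact hVn.conj_mem t ht n⁻¹
        · intro hu
          exact ⟨n * u * n⁻¹, hVn.conj_mem u hu n, by simp [mul_assoc]⟩
      rw [← e1, ← e2, ← Subgroup.map_commutator, ← Subgroup.map_commutator,
        map_zpowers_commutator_bot hy, Subgroup.map_bot]
    have hzw : z * w = w * z := hw.2 z hzq
    apply hτ.1
    rw [map_mul, map_mul, hv']
    have hzw' := congrArg τ hzw
    rw [map_mul, map_mul, hz] at hzw'
    calc τ y * (n * τ w * n⁻¹) = n * ((n⁻¹ * τ y * n) * τ w) * n⁻¹ := by group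
      _ = n * (τ w * (n⁻¹ * τ y * n)) * n⁻¹ := by rw [hzw']
      _ = n * τ w * n⁻¹ * τ y := by group
  intro w hw
  exact ((sInf_le hmem : W ≤ W ⊓ Subgroup.centralizer X) hw).2 x hq

end Cfsg.Agent.StableClosure
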