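import Mathlib
import Cfsg.Prelude.Def_PLocal
import Cfsg.Agent.Lib.Offenders
import Cfsg.Agent.Lib.OffendersReplace
import Cfsg.Agent.Lib.OffendersCore
import Cfsg.Agent.Lib.HallCore
import Cfsg.Agent.Lib.CoprimeAction
import Cfsg.Agent.Lib.PGroupsBasic
import Cfsg.Agent.Lib.StableClosure

/-! `W(S)` is normal in action-stable groups of characteristic `p`. -/

set_option autoImplicit false

open scoped commutatorElement

namespace Cfsg.Agent.StableClosureZJ

open Cfsg StableClosure

variable {G : Type*} [Group G] [Finite G] {p : ℕ} [Fact p.Prime]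

theorem zpowers_commute {a b : G} {U : Subgroup G} (ha : a ∈ U)
    (h : U ≤ Subgroup.centralizer {b}) : a * b = b * a :=
  Subgroup.mem_centralizer_singleton_iff.1 (h ha)

theorem stable_normal (hst : IsActionPStable p G)
    (hc : Subgroup.centralizer (pCore p G : Set G) ≤ pCore p G) (S : Sylow p G) :
    ((stableNormalClosure p ↥(S : Subgroup G)).map (S : Subgroup G).subtype).Normal := by
  obtain ⟨hst1, hst2, hst3⟩ := hst
  set W := (stableNormalClosure p ↥(S : Subgroup G)).map (S : Subgroup G).subtype with hWdef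
  set P := pCore p G with hPdef
  haveI hPn : P.Normal := HallCore.pCore_normal p G
  have hPS : P ≤ (S : Subgroup G) := OffendersCore.pCore_le_sylow S
  have hPp : IsPGroup p P := HallCore.isPGroup_pCore p G
  haveI := stable_characteristic (p := p) (S := ↥(S : Subgroup G))
  have hWS : W ≤ (S : Subgroup G) := Subgroup.map_subtype_le _
  have hWea : IsElementaryAbelian p W := Offenders.ea_map stable_ea _
  have hWc := ((Offenders.ea_iff W).1 hWea).1
  have hSW : ∀ s ∈ (S : Subgroup G), ∀ w ∈ W, s * w * s⁻¹ ∈ W := by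
    rintro s hs _ ⟨w, hw, rfl⟩
    exact ⟨_, (inferInstance : (stableNormalClosure p ↥(S : Subgroup G)).Normal).conj_mem w hw
      ⟨s, hs⟩, rfl⟩
  have hquad : ∀ x ∈ (S : Subgroup G), ⁅⁅W, Subgroup.zpowers x⁆, Subgroup.zpowers x⁆ = ⊥ →
      ∀ w ∈ W, x * w = w * x := by
    rintro x hx h _ ⟨w, hw, rfl⟩
    have h' : ⁅⁅stableNormalClosure p ↥(S : Subgroup G), Subgroup.zpowers (⟨x, hx⟩ : (S : Subgroup G))⁆,
        Subgroup.zpowers (⟨x, hx⟩ : (S : Subgroup G))⁆ = ⊥ := by
      apply Subgroup.map_injective (S : Subgroup G).subtype_injective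
      rw [Subgroup.map_commutator, Subgroup.map_commutator, MonoidHom.map_zpowers, Subgroup.map_bot]
      exact h
    exact congrArg Subtype.val (quadratic_central S.isPGroup' ⟨x, hx⟩ h' w hw)
  -- `W ≤ O_p(G)`
  have hWP : W ≤ P := by
    intro w hw
    have hq : ⁅⁅P, Subgroup.zpowers w⁆, Subgroup.zpowers w⁆ ≤
        (frattini ↥P).map P.subtype := by
      refine le_trans (le_of_eq ?_) bot_le
      rw [Subgroup.commutator_eq_bot_iff_le_centralizer, Subgroup.commutator_le]
      intro y hy a ha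
      have haW : a ∈ W := Subgroup.zpowers_le.2 hw ha
      have h1 : ⁅y, a⁆ ∈ W := by
        rw [commutatorElement_def]
        exact mul_mem (hSW y (hPS hy) a haW) (inv_mem haW)
      exact fun z hz => hWc z (Subgroup.zpowers_le.2 hw hz) _ h1
    obtain ⟨D, hDn, hCD, ⟨k, hk⟩, hwD⟩ := hst2 w hq
    haveI := hDn
    have hC0 : IsPGroup p (sectionKernel P ((frattini ↥P).map P.subtype)) := by
      intro g
      obtain ⟨e, m, hm, hgm⟩ :=
        Nat.exists_eq_pow_mul_and_not_dvd (orderOf_pos g).ne' p (Fact.out : p.Prime).ne_one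
      refine ⟨e, ?_⟩
      set y := g ^ p ^ e with hy
      have hym : y ^ m = 1 := by rw [hy, ← pow_mul, ← hgm, pow_orderOf_eq_one]
      have hyco : (orderOf (y : G)).Coprime p := by
        refine Nat.Coprime.coprime_dvd_left ?_
          ((Fact.out : p.Prime).coprime_iff_not_dvd.2 hm).symm
        exact orderOf_dvd_of_pow_eq_one (by rw [← SubmonoidClass.coe_pow, hym]; rfl)
      have hAP : Subgroup.zpowers (y : G) ≤ Subgroup.normalizer (P : Set G) :=
        Subgroup.le_normalizer_of_normal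
      obtain ⟨n, hn⟩ := (hPp.to_subgroup (frattini ↥P)).exists_card_eq
      have hcent : Subgroup.zpowers (y : G) ≤ Subgroup.centralizer (P : Set G) := by
        refine CoprimeAction.le_centralizer_of_frattini hAP ?_ ?_
        · rw [Nat.card_zpowers, hn]; exact hyco.pow_right n
        · intro a ha x hx
          have hay : a ∈ sectionKernel P ((frattini ↥P).map P.subtype) :=
            Subgroup.zpowers_le.2 y.2 ha
          have := hay _ ⟨x, hx, rfl⟩
          rw [← QuotientGroup.eq_one_iff]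
          simp only [QuotientGroup.mk_mul, QuotientGroup.mk_inv]
          simp only [QuotientGroup.mk'_apply] at this
          rw [← this]
          group
      have hyP : (y : G) ∈ P := hc (hcent (Subgroup.mem_zpowers _))
      obtain ⟨r, hr⟩ := hPp ⟨(y : G), hyP⟩
      have hr' : (y : G) ^ p ^ r = 1 := congrArg Subtype.val hr
      exact Subtype.ext (orderOf_eq_one_iff.1
        (Nat.eq_one_of_dvd_coprimes (hyco.pow_right r) dvd_rfl (orderOf_dvd_of_pow_eq_one hr')))
    have hDp : IsPGroup p D := by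
      obtain ⟨j, hj⟩ := hC0.exists_card_eq
      refine IsPGroup.of_card (n := j + k) ?_
      rw [← HallCore.card_mul_relIndex hCD, hj, hk, pow_add]
    exact (le_sSup ⟨hDn, hDp⟩ : D ≤ P) hwD
  -- `V`, generated by the conjugates of `W`
  set X : Set G := {x | ∃ g, ∃ w ∈ W, x = g * w * g⁻¹} with hXdef
  set V := Subgroup.closure X with hVdef
  haveI hVn : V.Normal := by
    refine ⟨fun x hx g => ?_⟩
    have : V ≤ V.comap (MulAut.conj g).toMonoidHom := by
      refine (Subgroup.closure_le _).2 ?_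
      rintro _ ⟨h, w, hw, rfl⟩
      exact Subgroup.subset_closure ⟨g * h, w, hw, by simp [mul_assoc]⟩
    exact this hx
  have hWV : W ≤ V := fun w hw => Subgroup.subset_closure ⟨1, w, hw, by simp⟩
  have hXP : ∀ x ∈ X, x ∈ P := by
    rintro _ ⟨g, w, hw, rfl⟩; exact hPn.conj_mem w (hWP hw) g
  have hXW : ∀ x ∈ X, ∀ w ∈ W, x * w = w * x := by
    intro x hx
    have hxP : x ∈ P := hXP x hx
    obtain ⟨g, w₀, hw₀, rfl⟩ := hx
    refine hquad _ (hPS hxP) ?_
    rw [Subgroup.commutator_eq_bot_iff_le_centralizer, Subgroup.commutator_le]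
    intro u hu a ha z hz
    set Wg := W.map (MulAut.conj g).toMonoidHom with hWg
    have hxWg : g * w₀ * g⁻¹ ∈ Wg := ⟨w₀, hw₀, rfl⟩
    have haWg : a ∈ Wg := Subgroup.zpowers_le.2 hxWg ha
    have hzWg : z ∈ Wg := Subgroup.zpowers_le.2 hxWg hz
    have hu' : ⁅u, a⁆ ∈ Wg := by
      rw [commutatorElement_def]
      refine mul_mem ?_ (inv_mem haWg)
      obtain ⟨a', ha', rfl⟩ := haWg
      refine ⟨g⁻¹ * u * g * a' * (g⁻¹ * u * g)⁻¹, hSW _ (hPS ?_) a' ha', ?_⟩
      · simpa using hPn.conj_mem u (hWP hu) g⁻¹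
      · simp [mul_assoc]
    exact ((Offenders.ea_iff Wg).1 (Offenders.ea_map hWea _)).1 z hzWg _ hu'
  have hXc : ∀ x ∈ X, ∀ y ∈ X, x * y = y * x := by
    intro x hx y hy
    obtain ⟨h, w, hw, rfl⟩ := hy
    obtain ⟨g, w₀, hw₀, rfl⟩ := hx
    have := hXW (h⁻¹ * g * w₀ * (h⁻¹ * g)⁻¹) ⟨h⁻¹ * g, w₀, hw₀, rfl⟩ w hw
    have e := congrArg (fun t => h * t * h⁻¹) this
    group at e ⊢
    exact e
  have hVea : IsElementaryAbelian p V := by
    refine PGroupsBasic.isElementaryAbelian_closure hXc ?_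
    rintro _ ⟨g, w, hw, rfl⟩
    rw [conj_pow, ((Offenders.ea_iff W).1 hWea).2 w hw, mul_one, mul_inv_cancel]
  have hVP : V ≤ P := (Subgroup.closure_le _).2 hXP
  set C := Subgroup.centralizer (V : Set G) with hCdef
  obtain ⟨D, hDn, hCD, hDp, hDq⟩ := exists_stable_sub V (hst1 V hVea)
  haveI := hDn
  -- quadratic elements of `S` centralise `V`
  have hVq : ∀ x ∈ (S : Subgroup G), ⁅⁅V, Subgroup.zpowers x⁆, Subgroup.zpowers x⁆ = ⊥ → x ∈ C := by
    intro x hx hxq
    have hxT : x ∈ (S : Subgroup G) ⊓ D := ⟨hx, hDq x hxq⟩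
    have : V ≤ Subgroup.centralizer {x} := by
      refine (Subgroup.closure_le _).2 ?_
      rintro _ ⟨g, w, hw, rfl⟩
      rw [SetLike.mem_coe, Subgroup.mem_centralizer_singleton_iff]
      have hg : g ∈ C ⊔ Subgroup.normalizer (((S : Subgroup G) ⊓ D : Subgroup G) : Set G) :=
        (sup_normalizer_inf' S hCD hDp).symm ▸ Subgroup.mem_top g
      rw [sup_comm, ← SetLike.mem_coe, Subgroup.mul_normal] at hg
      obtain ⟨n, hn, c, hc', rfl⟩ := hg
      have hgw : n * c * w * (n * c)⁻¹ = n * w * n⁻¹ := by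
        calc n * c * w * (n * c)⁻¹ = n * (c * w) * c⁻¹ * n⁻¹ := by group
          _ = n * (w * c) * c⁻¹ * n⁻¹ := by rw [hc' w (hWV hw)]
          _ = n * w * n⁻¹ := by group
      rw [hgw]
      have hyT : n⁻¹ * x * n ∈ (S : Subgroup G) ⊓ D := (Subgroup.mem_normalizer_iff''.1 hn x).1 hxT
      have hyq : ⁅⁅W, Subgroup.zpowers (n⁻¹ * x * n)⁆, Subgroup.zpowers (n⁻¹ * x * n)⁆ = ⊥ := by
        refine le_bot_iff.1 ((Subgroup.commutator_mono (Subgroup.commutator_mono hWV le_rfl)
          le_rfl).trans ?_)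
        have e1 : (Subgroup.zpowers x).map (MulAut.conj n⁻¹).toMonoidHom =
            Subgroup.zpowers (n⁻¹ * x * n) := by
          rw [MonoidHom.map_zpowers]; simp
        have e2 : V.map (MulAut.conj n⁻¹).toMonoidHom = V := by
          ext u
          constructor
          · rintro ⟨t, ht, rfl⟩; exact hVn.conj_mem t ht n⁻¹
          · intro hu
            exact ⟨n * u * n⁻¹, hVn.conj_mem u hu n, by simp [mul_assoc]⟩
        rw [← e1, ← e2, ← Subgroup.map_commutator, ← Subgroup.map_commutator, hxq,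
          Subgroup.map_bot]
      have h := hquad _ hyT.1 hyq w hw
      calc n * w * n⁻¹ * x = n * (w * (n⁻¹ * x * n)) * n⁻¹ := by group
        _ = n * ((n⁻¹ * x * n) * w) * n⁻¹ := by rw [h]
        _ = x * (n * w * n⁻¹) := by group
    intro v hv
    exact Subgroup.mem_centralizer_singleton_iff.1 (this hv)
  -- `J(S) ≤ C`
  have hJC : thompsonSubgroupOf p (S : Subgroup G) ≤ C := by
    rw [Offenders.thompsonOf_eq]
    refine sSup_le fun A hA => ?_
    obtain ⟨-, hA0q, hA0n⟩ := OffendersReplace.replacement hVea Subgroup.le_normalizer_of_normal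
      (Offenders.maxIn_sylow hA)
    set A0 := ⁅V, A⁆ ⊔ (A ⊓ Subgroup.centralizer ((⁅V, A⁆ : Subgroup G) : Set G)) with hA0
    have hA0S : A0 ≤ (S : Subgroup G) :=
      sup_le ((Subgroup.le_normalizer_iff_commutator_le_left.1 Subgroup.le_normalizer_of_normal).trans
        (hVP.trans hPS)) (inf_le_left.trans hA.1)
    have h0 : ⁅V, A0⁆ = ⊥ := by
      rw [Subgroup.commutator_eq_bot_iff_le_centralizer, Subgroup.le_centralizer_iff]
      intro x hx
      refine hVq x (hA0S hx) (le_bot_iff.1 (le_trans ?_ hA0q.le))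
      exact Subgroup.commutator_mono (Subgroup.commutator_mono le_rfl (Subgroup.zpowers_le.2 hx))
        (Subgroup.zpowers_le.2 hx)
    have h1 : ⁅V, A⁆ = ⊥ := by
      by_contra hne; exact hA0n hne h0
    exact Subgroup.le_centralizer_iff.1 (Subgroup.commutator_eq_bot_iff_le_centralizer.1 h1)
  have hfac := OffendersCore.sup_normalizer_thompson (C := C) S hJC
  set N := Subgroup.normalizer (thompsonSubgroupOf p (S : Subgroup G) : Set G) with hNdef
  have hSN : (S : Subgroup G) ≤ N := by
    intro s hs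
    rw [hNdef, Subgroup.mem_normalizer_iff_map_conj_eq]
    refine (Offenders.thompsonOf_map_conj s (S : Subgroup G)).trans (congrArg _ ?_)
    have h := Subgroup.le_normalizer hs
    rwa [Subgroup.mem_normalizer_iff_map_conj_eq] at h
  let τ : ↥(S : Subgroup G) →* N := Subgroup.inclusion hSN
  have hτs : N.subtype.comp τ = (S : Subgroup G).subtype := rfl
  have hst' : IsStableEmbedding p τ := by
    refine ⟨Subgroup.inclusion_injective hSN, inferInstance, ⟨S.subtype hSN, ?_⟩, ?_, ?_,
      fun U _ hU => hst3 S U ?_⟩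
    · ext x
      rw [Sylow.coe_subtype]
      exact ⟨fun h => ⟨⟨x, h⟩, rfl⟩, fun ⟨y, hy⟩ => by rw [← hy]; exact y.2⟩
    · have hPN : P ≤ N := hPS.trans hSN
      haveI : (P.subgroupOf N).Normal := Subgroup.Normal.comap hPn _
      have hle : P.subgroupOf N ≤ pCore p ↥N :=
        le_sSup ⟨inferInstance, hPp.comap_of_injective N.subtype N.subtype_injective⟩
      intro x hx
      refine hle (?_ : (x : G) ∈ P)
      refine hc fun y hy => ?_
      exact congrArg Subtype.val (hx ⟨y, hPN hy⟩ (hle hy))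
    · have e : (thompsonSubgroup p ↥(S : Subgroup G)).map τ =
          (thompsonSubgroupOf p (S : Subgroup G)).subgroupOf N := by
        apply Subgroup.map_injective N.subtype_injective
        rw [Subgroup.map_map, hτs, Subgroup.map_subgroupOf_eq_of_le Subgroup.le_normalizer]
        rfl
      rw [e]
      exact Subgroup.normal_in_normalizer
    · rw [← hτs, ← Subgroup.map_map]
      exact Subgroup.map_mono hU
  haveI hWN : ((stableNormalClosure p ↥(S : Subgroup G)).map τ).Normal :=
    stable_mem.2 ↥N τ hst'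
  refine ⟨fun x hx g => ?_⟩
  have hg : g ∈ N ⊔ C := by rw [sup_comm, hfac]; trivial
  rw [← SetLike.mem_coe, Subgroup.mul_normal] at hg
  obtain ⟨n, hn, c, hc', rfl⟩ := hg
  have e : n * c * x * (n * c)⁻¹ = n * x * n⁻¹ := by
    calc n * c * x * (n * c)⁻¹ = n * (c * x) * c⁻¹ * n⁻¹ := by group
      _ = n * (x * c) * c⁻¹ * n⁻¹ := by rw [hc' x (hWV hx)]
      _ = n * x * n⁻¹ := by group
  rw [e]
  obtain ⟨w, hw, rfl⟩ := hx
  obtain ⟨v, hv, hvv⟩ := hWN.conj_mem _ ⟨w, hw, rfl⟩ ⟨n, hn⟩
  exact ⟨v, hv, congrArg Subtype.val hvv⟩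

end Cfsg.Agent.StableClosureZJ
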