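import Mathlib
import Cfsg.Prelude.Def_Balance
import Cfsg.Agent.Lib.ComponentsBasic
import Cfsg.Agent.Lib.ComponentsP
import Cfsg.Agent.Lib.ComponentInvolution67

/-!
Standard subgroups and the layer (O(G) = 1), given that groups of odd order are solvable and the
Z*-theorem.
-/

set_option autoImplicit false
set_option linter.style.haveILetI false

namespace Cfsg.Agent.StandardLayer67

open Subgroup Cfsg
open scoped commutatorElement
open Cfsg.Agent.ComponentsBasic Cfsg.Agent.L2BalanceUse

universe u

variable {G : Type u} [Group G] [Finite G]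

omit [Finite G] in
/-- A subgroup of a tightly embedded `K` centralised by some `g` outside `N(K)` has odd order. -/
theorem odd_of_centralized {K U D : Subgroup G} (hK : IsTightlyEmbedded K) (hU : U ≤ K)
    (hUD : U ≤ centralizer (D : Set G)) (hD : ¬ D ≤ normalizer (K : Set G)) : Odd (Nat.card U) := by
  obtain ⟨g, hg, hgN⟩ := SetLike.not_le_iff_exists.1 hD
  refine (hK.2 g hgN).of_dvd_nat (card_dvd_of_le (le_inf hU fun u hu => ⟨u, hU hu, ?_⟩))
  show g * u * g⁻¹ = u
  rw [mem_centralizer_iff.1 (hUD hu) g hg, mul_inv_cancel_right]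

theorem exists_simple_or_pair (hFT : ∀ (X : Type u) [Group X] [Finite X], Odd (Nat.card X) → Group.IsSolvable X)
    (hZ : L2BalanceAut.ZStarProp.{u}) (A : Subgroup G) (hA : Cfsg.IsStandardSubgroup A)
    (hO : Cfsg.oddCore G = ⊥) (t : G) (ht : orderOf t = 2)
    (htA : t ∈ Subgroup.centralizer (A : Set G)) :
    A.Normal ∨ (∃ X : Subgroup G, IsSimpleGroup ↥X ∧ ¬ IsMulCommutative ↥X ∧ Nonempty (↥X ≃* ↥A) ∧
      (∀ a ∈ X, ∀ b ∈ X.map (MulAut.conj t).toMonoidHom, a * b = b * a) ∧
      X ⊓ X.map (MulAut.conj t).toMonoidHom = ⊥ ∧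
      X ⊔ X.map (MulAut.conj t).toMonoidHom = Cfsg.layer G ∧
      Subgroup.centralizer (A : Set G) = Subgroup.zpowers t) ∨
    (A ≤ Cfsg.layer G ∧ IsSimpleGroup ↥(Cfsg.layer G) ∧ ¬ IsMulCommutative ↥(Cfsg.layer G)) := by
  haveI := Fact.mk Nat.prime_two
  obtain ⟨hAq, htight, hnc, hNeq⟩ := hA
  set K := centralizer (A : Set G) with hKdef
  have htt : t * t = 1 := by rw [← pow_two, ← ht, pow_orderOf_eq_one]
  by_cases hAn : A.Normal
  · exact .inl hAn
  -- `C(t)` normalises `A`, so `A` is a component of `C(t)`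
  have hAt : A ≤ centralizer ({t} : Set G) := fun a ha =>
    mem_centralizer_singleton_iff.2 (mem_centralizer_iff.1 htA a ha)
  have htK : zpowers t ≤ K := zpowers_le.2 htA
  have hCN : centralizer ({t} : Set G) ≤ normalizer (A : Set G) := by
    intro g hg
    rw [hNeq]
    by_contra hgN
    have h2 : ¬ Odd (Nat.card (zpowers t)) := by
      rw [Nat.card_zpowers, ht]; decide
    refine h2 (odd_of_centralized (D := zpowers g) htight htK ?_ fun h => hgN (h (mem_zpowers g)))
    refine zpowers_le.2 (mem_centralizer_iff.2 fun x hx => ?_)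
    obtain ⟨i, rfl⟩ := mem_zpowers_iff.1 hx
    exact (Commute.zpow_left (mem_centralizer_singleton_iff.1 hg : Commute g t) i).eq
  have hAc : IsComponent (A.subgroupOf (centralizer ({t} : Set G))) :=
    ⟨(normal_subgroupOf_of_le_normalizer hCN).isSubnormal,
      isQuasisimple_of_mulEquiv (subgroupOfEquivOfLe hAt).symm hAq⟩
  -- `A` is not a component
  have hnotc : ¬ IsComponent A := by
    intro h
    apply hAn
    refine ⟨fun a ha g => ?_⟩
    have : A.map (MulAut.conj g).toMonoidHom = A := by
      by_contra hne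
      exact hnc g hne (components_commute h (isComponent_conj h g) (Ne.symm hne))
    exact this.le ⟨a, ha, rfl⟩
  obtain ⟨D, hD, h⟩ := ComponentInvolution67.component_trichotomy hFT hZ
    (ComponentsP.pLayer_eq_layer_of_bot hO) t ht A hAt hAc
  set W := D ⊔ cjg t D with hWdef
  have hDt : IsComponent (cjg t D) := isComponent_conj hD t
  have hAW : A ≤ W := by
    rcases h with h | h | ⟨-, h⟩
    · exact h.le.trans le_sup_left
    · exact h.1.le.trans le_sup_left
    · rw [h]; exact (map_subtype_le _).trans inf_le_left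
  have hDN : ¬ D ≤ normalizer (K : Set G) := by
    rw [← hNeq]
    intro hle
    have htN : t ∈ normalizer (A : Set G) := by
      rw [hNeq]; exact le_normalizer (htA : t ∈ K)
    have hWN : W ≤ normalizer (A : Set G) := by
      refine sup_le hle ?_
      rintro _ ⟨x, hx, rfl⟩
      exact mul_mem (mul_mem htN (hle hx)) (inv_mem htN)
    apply hnotc
    refine ⟨isSubnormal_of_le_normalizer hAW ?_ hWN, hAq⟩
    exact isSubnormal_of_le_normalizer
      (sup_le (component_le_layer hD) (component_le_layer hDt))
      (Normal.isSubnormal inferInstance)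
      ((le_inf (layer_le_normalizer_component hD) (layer_le_normalizer_component hDt)).trans
        (normalizer_inf_normalizer_le_normalizer_sup _ _))
  have hcompW : ∀ M : Subgroup G, IsComponent M → M = D ∨ M = cjg t D := by
    intro M hM
    by_contra hne
    push Not at hne
    have hMW : W ≤ centralizer (M : Set G) :=
      sup_le (commutator_eq_bot_iff_le_centralizer.1 (components_commute hD hM (Ne.symm hne.1)))
        (commutator_eq_bot_iff_le_centralizer.1 (components_commute hDt hM (Ne.symm hne.2)))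
    have hodd := odd_of_centralized (U := M) htight (le_centralizer_iff.1 (hAW.trans hMW))
      (le_centralizer_iff.1 (le_sup_left.trans hMW)) hDN
    exact IsComponent.not_isSolvable hM (hFT _ hodd)
  have hlayer : layer G = W :=
    le_antisymm (sSup_le fun M hM => (hcompW M hM).elim (fun e => e.le.trans le_sup_left)
      (fun e => e.le.trans le_sup_right))
      (sup_le (component_le_layer hD) (component_le_layer hDt))
  have hCE : centralizer (layer G : Set G) = ⊥ := by
    refine le_bot_iff.1 (hO ▸ HallCore.le_pPrimeCore (Nat.coprime_two_right.2 ?_))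
    exact odd_of_centralized htight (centralizer_le (hAW.trans hlayer.ge))
      (centralizer_le (component_le_layer hD)) hDN
  have hsimp : ∀ M : Subgroup G, IsComponent M → IsSimpleGroup ↥M ∧ ¬ IsMulCommutative ↥M := by
    intro M hM
    refine ⟨?_, isQuasisimple_not_commutative hM.2⟩
    have hZ0 : center ↥M = ⊥ := by
      rw [eq_bot_iff]
      intro z hz
      have h1 : (z : G) ∈ centralizer (layer G : Set G) := by
        have h3 : layer G ≤ centralizer ({(z : G)} : Set G) := by
          refine sSup_le fun M' hM' => ?_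
          rcases eq_or_ne M' M with rfl | hne
          · exact fun w hw => mem_centralizer_singleton_iff.2
              (congrArg Subtype.val (mem_center_iff.1 hz ⟨w, hw⟩))
          · exact fun w hw => mem_centralizer_singleton_iff.2 (mem_centralizer_iff.1
              (commutator_eq_bot_iff_le_centralizer.1 (components_commute hM' hM hne) hw) z z.2).symm
        exact mem_centralizer_iff.2 fun w hw => mem_centralizer_singleton_iff.1 (h3 hw)
      rw [hCE, mem_bot] at h1
      exact Subtype.ext h1
    haveI := hM.2.2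
    haveI := isQuasisimple_nontrivial hM.2
    exact IsSimpleGroup.isSimpleGroup_of_surjective
      ((QuotientGroup.quotientMulEquivOfEq hZ0).trans QuotientGroup.quotientBot).toMonoidHom
      (MulEquiv.surjective _)
  rcases h with h | ⟨hlt, -⟩ | ⟨hne, hA'⟩
  · exact absurd (h ▸ hD) hnotc
  · refine .inr (.inr ?_)
    have hDD : cjg t D = D := by
      by_contra hne
      have hAC : A ≤ centralizer (cjg t D : Set G) := hlt.le.trans
        (commutator_eq_bot_iff_le_centralizer.1 (components_commute hD hDt (Ne.symm hne)))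
      have hAC' : A ≤ centralizer (D : Set G) := by
        intro a ha
        rw [mem_centralizer_iff]
        intro x hx
        have h1 := mem_centralizer_iff.1 (hAC ha) (t * x * t⁻¹) ⟨x, hx, rfl⟩
        have hat : a * t = t * a := mem_centralizer_singleton_iff.1 (hAt ha)
        have hat' : a * t⁻¹ = t⁻¹ * a := (Commute.inv_right (hat : Commute a t)).eq
        calc x * a = t⁻¹ * ((t * x * t⁻¹) * (t * a)) := by group
          _ = t⁻¹ * ((t * x * t⁻¹) * (a * t)) := by rw [hat]
          _ = t⁻¹ * (((t * x * t⁻¹) * a) * t) := by group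
          _ = t⁻¹ * ((a * (t * x * t⁻¹)) * t) := by rw [h1]
          _ = (t⁻¹ * a) * t * x := by group
          _ = (a * t⁻¹) * t * x := by rw [hat']
          _ = a * x := by group
      exact isQuasisimple_not_commutative hAq ⟨⟨fun a b => Subtype.ext
        (mem_centralizer_iff.1 (hAC' b.2) a (hlt.le a.2))⟩⟩
    have hE : layer G = D := by rw [hlayer, hWdef, hDD, sup_idem]
    exact hE ▸ ⟨hlt.le, hsimp D hD⟩
  · refine .inr (.inl ⟨D, (hsimp D hD).1, (hsimp D hD).2, ?_⟩)
    have hcomm : ⁅D, cjg t D⁆ = ⊥ := components_commute hD hDt (Ne.symm hne)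
    have hc : ∀ a ∈ D, ∀ b ∈ cjg t D, a * b = b * a := fun a ha b hb =>
      (mem_centralizer_iff.1 ((commutator_eq_bot_iff_le_centralizer.1 hcomm) ha) b hb).symm
    have hint : D ⊓ cjg t D = ⊥ := by
      rw [eq_bot_iff, ← hCE]
      intro z hz
      rw [mem_centralizer_iff, hlayer]
      intro w hw
      have : W ≤ centralizer ({z} : Set G) := sup_le
        (fun w hw => mem_centralizer_singleton_iff.2 (hc w hw z hz.2))
        (fun w hw => mem_centralizer_singleton_iff.2 (hc z hz.1 w hw).symm)
      exact mem_centralizer_singleton_iff.1 (this hw)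
    have huniq : ∀ a ∈ D, ∀ a' ∈ D, ∀ b ∈ cjg t D, ∀ b' ∈ cjg t D, a * b = a' * b' →
        a = a' := by
      intro a ha a' ha' b hb b' hb' e
      have h1 : a'⁻¹ * a = b' * b⁻¹ := by
        calc a'⁻¹ * a = a'⁻¹ * (a * b) * b⁻¹ := by group
          _ = _ := by rw [e]; group
      have h2 : a'⁻¹ * a ∈ D ⊓ cjg t D :=
        ⟨D.mul_mem (D.inv_mem ha') ha, h1 ▸ Subgroup.mul_mem _ hb' (Subgroup.inv_mem _ hb)⟩
      rw [hint, mem_bot, inv_mul_eq_one] at h2
      exact h2.symm
    let f : ↥D →* G :=
      { toFun := fun x => (x : G) * (t * x * t⁻¹)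
        map_one' := by simp
        map_mul' := fun x y => by
          show (x : G) * y * (t * (x * y) * t⁻¹) = (x * (t * x * t⁻¹)) * (y * (t * y * t⁻¹))
          calc (x : G) * y * (t * (x * y) * t⁻¹)
              = x * (y * (t * x * t⁻¹)) * (t * y * t⁻¹) := by group
            _ = x * ((t * x * t⁻¹) * y) * (t * y * t⁻¹) := by
              rw [hc y y.2 (t * x * t⁻¹) ⟨x, x.2, rfl⟩]
            _ = _ := by group }
    have hfi : Function.Injective f := fun a b e => Subtype.ext
      (huniq a a.2 b b.2 _ ⟨a, a.2, rfl⟩ _ ⟨b, b.2, rfl⟩ e)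
    have hft : f.range ≤ centralizer ({t} : Set G) := by
      rintro _ ⟨x, rfl⟩
      rw [mem_centralizer_singleton_iff]
      show (x : G) * (t * x * t⁻¹) * t = t * (x * (t * x * t⁻¹))
      have e := ComponentInvolution67.conj_conj_of_invol htt (x : G)
      have h1 : t * ((x : G) * (t * x * t⁻¹)) * t⁻¹ = x * (t * x * t⁻¹) := by
        calc t * ((x : G) * (t * x * t⁻¹)) * t⁻¹
            = (t * x * t⁻¹) * (t * (t * x * t⁻¹) * t⁻¹) := by group
          _ = _ := by rw [e]; exact (hc x x.2 _ ⟨x, x.2, rfl⟩).symm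
      calc (x : G) * (t * x * t⁻¹) * t = t * (x * (t * x * t⁻¹)) * t⁻¹ * t := by rw [h1]
        _ = _ := by group
    have hAle : A ≤ f.range := fun a ha => by
      obtain ⟨x, hx, e⟩ := le_diag htt (isQuasisimple_perfect hAq) hAt hAW hcomm a ha
      exact ⟨⟨x, hx⟩, e⟩
    have hAeq : A = f.range := by
      have h1 := ComponentInvolution67.eq_of_le_quasisimple hAc
        (D := f.range.subgroupOf (centralizer ({t} : Set G)))
        (isQuasisimple_of_mulEquiv ((MonoidHom.ofInjective hfi).trans (subgroupOfEquivOfLe hft).symm)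
          hD.2) (fun a ha => hAle ha)
      rwa [subgroupOf_inj, inf_eq_left.2 hAt, inf_eq_left.2 hft] at h1
    refine ⟨⟨(MonoidHom.ofInjective hfi).trans (MulEquiv.subgroupCongr hAeq.symm)⟩, hc, hint,
      hlayer.symm, ?_⟩
    refine le_antisymm ?_ htK
    intro k hk
    have hfix : ∀ k ∈ K, (∀ x ∈ D, k * x * k⁻¹ ∈ D) →
        (∀ x ∈ cjg t D, k * x * k⁻¹ ∈ cjg t D) → k = 1 := by
      intro k hk h1 h2
      suffices k ∈ centralizer (layer G : Set G) by rwa [hCE, mem_bot] at this
      have hx : ∀ x : ↥D, k * x * k⁻¹ = x ∧ k * (t * x * t⁻¹) * k⁻¹ = t * x * t⁻¹ := by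
        intro x
        have hfx : f x ∈ A := hAeq ▸ ⟨x, rfl⟩
        have e : k * f x * k⁻¹ = f x := by
          rw [← mem_centralizer_iff.1 hk _ hfx, mul_inv_cancel_right]
        have e' : (k * x * k⁻¹) * (k * (t * x * t⁻¹) * k⁻¹) = (x : G) * (t * x * t⁻¹) := by
          calc (k * x * k⁻¹) * (k * (t * x * t⁻¹) * k⁻¹) = k * f x * k⁻¹ := by
                show _ = k * ((x : G) * (t * x * t⁻¹)) * k⁻¹; group
            _ = _ := e
        have e1 := huniq _ (h1 x x.2) _ x.2 _ (h2 _ ⟨x, x.2, rfl⟩) _ ⟨x, x.2, rfl⟩ e'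
        rw [e1] at e'
        exact ⟨e1, mul_left_cancel e'⟩
      have hW : W ≤ centralizer ({k} : Set G) := by
        refine sup_le (fun x hx' => ?_) ?_
        · exact mem_centralizer_singleton_iff.2 (mul_inv_eq_iff_eq_mul.1 (hx ⟨x, hx'⟩).1).symm
        · rintro _ ⟨x, hx', rfl⟩
          exact mem_centralizer_singleton_iff.2 (mul_inv_eq_iff_eq_mul.1 (hx ⟨x, hx'⟩).2).symm
      rw [hlayer]
      exact mem_centralizer_iff.2 fun w hw => mem_centralizer_singleton_iff.1 (hW hw)
    have hperm : ∀ k : G, D.map (MulAut.conj k).toMonoidHom = D →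
        (∀ x ∈ D, k * x * k⁻¹ ∈ D) ∧ (∀ x ∈ cjg t D, k * x * k⁻¹ ∈ cjg t D) := by
      intro k h1
      refine ⟨fun x hx => h1.le ⟨x, hx, rfl⟩, ?_⟩
      have h2 : (cjg t D).map (MulAut.conj k).toMonoidHom = cjg t D := by
        rcases hcompW _ (isComponent_conj hDt k) with e | e
        · exact absurd (Subgroup.map_injective (MulAut.conj k).injective (e.trans h1.symm)) hne
        · exact e
      exact fun x hx => h2.le ⟨x, hx, rfl⟩
    rcases hcompW _ (isComponent_conj hD k) with e | e
    · rw [hfix k hk (hperm k e).1 (hperm k e).2]; exact one_mem _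
    · have e2 : D.map (MulAut.conj (t * k)).toMonoidHom = D := by
        ext y
        constructor
        · rintro ⟨x, hx, rfl⟩
          obtain ⟨z, hz, hzz⟩ := e.le ⟨x, hx, rfl⟩
          have : (MulAut.conj (t * k)).toMonoidHom x = t * (t * z * t⁻¹) * t⁻¹ := by
            show t * k * x * (t * k)⁻¹ = _
            rw [show t * z * t⁻¹ = k * x * k⁻¹ from hzz]; group
          rw [this, ComponentInvolution67.conj_conj_of_invol htt]
          exact hz
        · intro hy
          obtain ⟨x, hx, hxy⟩ := e.ge ⟨y, hy, rfl⟩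
          refine ⟨x, hx, ?_⟩
          show t * k * x * (t * k)⁻¹ = y
          calc t * k * x * (t * k)⁻¹ = t * (k * x * k⁻¹) * t⁻¹ := by group
            _ = y := by
              rw [show k * x * k⁻¹ = t * y * t⁻¹ from hxy,
                ComponentInvolution67.conj_conj_of_invol htt]
      have h3 := hfix (t * k) (mul_mem htA hk) (hperm _ e2).1 (hperm _ e2).2
      rw [mul_eq_one_iff_inv_eq] at h3
      exact h3 ▸ inv_mem (mem_zpowers t)

end Cfsg.Agent.StandardLayer67
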