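import Cfsg.Agent.Lib.SteinbergPolarMain
import Cfsg.Agent.Lib.CharKernel

/-!
From an integral generalized character of norm one that is trivial on a kernel, has `p`-part
degree and vanishes on non-trivial `p`-elements to the Steinberg character of the quotient.
-/

set_option autoImplicit false

namespace Cfsg.Agent.SteinbergDescend

open Cfsg.Agent.H74Euler Cfsg.Agent.SteinbergEuler Cfsg.Agent.SteinbergLattice

open scoped Classical

/-- The conclusion of the statements. -/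
def HasSteinberg (p : ℕ) (K : Type*) [Group K] : Prop :=
  ∃ χ : K → ℂ, Cfsg.IsIrrCharacter K χ ∧
    ∀ P : Sylow p K, χ 1 = Nat.card P ∧ ∀ x : K, x ∈ P → x ≠ 1 → χ x = 0

theorem hasSteinberg_of_fun {G K : Type*} [Group G] [Fintype G] [Group K] (π : G →* K)
    (hπ : Function.Surjective π) {p : ℕ} [Fact p.Prime] (L : G → ℤ)
    (hgen : Cfsg.IsGeneralizedCharacter G (fun g => (L g : ℂ)))
    (hnorm : ∑ g, L g * L g = (Fintype.card G : ℤ))
    (hker : ∀ z, π z = 1 → L z = L 1)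
    (hdeg : ∃ k r : ℕ, (L 1).natAbs = p ^ k ∧ Fintype.card G = p ^ k * r ∧ ¬ p ∣ r)
    (hvan : ∀ g, (∃ k : ℕ, g ^ p ^ k = 1) → g ≠ 1 → L g = 0) : HasSteinberg p K := by
  have hp : p.Prime := Fact.out
  obtain ⟨k, r, hk, hr, hpr⟩ := hdeg
  have hone : Cfsg.classInner (fun g => (L g : ℂ)) (fun g => (L g : ℂ)) = 1 := by
    have h : ∑ g, (L g : ℂ) * (starRingEnd ℂ) (L g : ℂ) = (Fintype.card G : ℂ) := by
      simp only [map_intCast]
      exact_mod_cast hnorm
    rw [Cfsg.classInner, h, Nat.card_eq_fintype_card,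
      inv_mul_cancel₀ (Nat.cast_ne_zero.2 Fintype.card_ne_zero)]
  obtain ⟨χ₀, hirr, hsign⟩ := CharBasicDecomp.eq_or_neg_irr_of_norm_one hgen hone
  obtain ⟨s, hs, hχ⟩ : ∃ s : ℤ, (s = 1 ∨ s = -1) ∧ ∀ g, χ₀ g = ((s * L g : ℤ) : ℂ) := by
    rcases hsign with e | e
    · exact ⟨1, Or.inl rfl, fun g => by rw [one_mul]; exact (congrFun e g).symm⟩
    · refine ⟨-1, Or.inr rfl, fun g => ?_⟩
      have := congrFun e g
      rw [Pi.neg_apply] at this
      rw [neg_one_mul, Int.cast_neg, this, neg_neg]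
  obtain ⟨n, hn, hn'⟩ := CharBasic.isIrrCharacter_apply_one hirr
  have hL1 : L 1 ≠ 0 := fun h => by rw [h] at hk; exact (pow_ne_zero k hp.ne_zero) hk.symm
  have hdeg1 : χ₀ 1 = ((p ^ k : ℕ) : ℂ) := by
    have h1 : (n : ℤ) = s * L 1 := by
      have := hn'.symm.trans (hχ 1)
      exact_mod_cast this
    have h2 : n = (L 1).natAbs := by rcases hs with rfl | rfl <;> omega
    rw [hn', h2, hk]
  have hN : ∀ z ∈ π.ker, χ₀ z = χ₀ 1 := fun z hz => by rw [hχ, hχ, hker z hz]
  have hcop : ¬ p ∣ Nat.card π.ker := fun hd => by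
    obtain ⟨z, hz⟩ := exists_prime_orderOf_dvd_card' (G := π.ker) p hd
    have h1 : (z : G) ^ p = 1 := by
      rw [← Subgroup.coe_pow, show z ^ p = 1 from hz ▸ pow_orderOf_eq_one z]; rfl
    have h2 : (z : G) ≠ 1 := fun h => by
      rw [show z = 1 from Subtype.ext h, orderOf_one] at hz
      exact hp.ne_one hz.symm
    exact hL1 (hker z z.2 ▸ hvan z ⟨1, by rw [pow_one]; exact h1⟩ h2)
  have : Finite K := Finite.of_surjective π hπ
  have hKcard : Nat.card π.ker * Nat.card K = p ^ k * r := by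
    rw [← hr, ← Nat.card_eq_fintype_card, Subgroup.card_eq_card_quotient_mul_card_subgroup π.ker,
      Nat.card_congr (QuotientGroup.quotientKerEquivOfSurjective π hπ).toEquiv, mul_comm]
  obtain ⟨r', hr'⟩ : p ^ k ∣ Nat.card K :=
    (Nat.Coprime.pow_left k ((hp.coprime_iff_not_dvd).2 hcop)).dvd_of_dvd_mul_left ⟨r, hKcard⟩
  have hpr' : ¬ p ∣ r' := fun h => hpr <| by
    have h1 : Nat.card π.ker * r' = r :=
      Nat.eq_of_mul_eq_mul_left (pow_pos hp.pos k) (by rw [← hKcard, hr']; ring)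
    exact h1 ▸ h.mul_left _
  have hfact : (Nat.card K).factorization p = k := by
    have hr0 : r' ≠ 0 := fun h => hpr' (h ▸ dvd_zero p)
    rw [hr', Nat.factorization_mul (pow_ne_zero k hp.ne_zero) hr0, Finsupp.add_apply,
      hp.factorization_pow, Finsupp.single_eq_same, Nat.factorization_eq_zero_of_not_dvd hpr',
      add_zero]
  obtain ⟨ψ, hψ⟩ := CharKernel.exists_quot_irr π.ker ⟨χ₀, hirr⟩ hN
  let e := (QuotientGroup.quotientKerEquivOfSurjective π hπ).symm
  have hval : ∀ g, (ψ.1 : G ⧸ π.ker → ℂ) (e (π g)) = χ₀ g := fun g => by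
    rw [show e (π g) = (g : G ⧸ π.ker) from
      (QuotientGroup.quotientKerEquivOfSurjective π hπ).symm_apply_eq.2 rfl]
    exact (hψ g).symm
  refine ⟨ψ.1 ∘ e.toMonoidHom, CharBasic.isIrrCharacter_comap e.toMonoidHom e.surjective ψ.2,
    fun P => ⟨?_, fun x hx hx1 => ?_⟩⟩
  · rw [Sylow.card_eq_multiplicity P, hfact]
    show ψ.1 (e 1) = _
    rw [← map_one π, hval, hdeg1]
  · obtain ⟨g, rfl⟩ := hπ x
    obtain ⟨a, ha⟩ := P.2 ⟨π g, hx⟩
    have ha' : π g ^ p ^ a = 1 := congrArg Subtype.val ha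
    obtain ⟨b, -, hb⟩ := (Nat.dvd_prime_pow hp).1 (orderOf_dvd_of_pow_eq_one ha')
    obtain ⟨m, hm⟩ := exists_pow_eq_self_of_coprime (x := π g) (n := Nat.card π.ker) (by
      rw [hb]; exact (Nat.Coprime.pow_left b ((hp.coprime_iff_not_dvd).2 hcop)).symm)
    set h := (g ^ Nat.card π.ker) ^ m with hh
    have hπh : π h = π g := by rw [hh, map_pow, map_pow, hm]
    have hzero : L h = 0 := by
      refine hvan h ⟨a, ?_⟩ fun h1 => hx1 (by rw [← hπh, h1, map_one])
      have h3 : g ^ p ^ a ∈ π.ker := by rw [MonoidHom.mem_ker, map_pow, ha']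
      have h4 : (g ^ p ^ a) ^ Nat.card π.ker = 1 :=
        congrArg Subtype.val (pow_card_eq_one' (x := (⟨_, h3⟩ : π.ker)))
      rw [hh, ← pow_mul, ← pow_mul, show Nat.card π.ker * (m * p ^ a) = p ^ a * Nat.card π.ker * m by
        ring, pow_mul, pow_mul, h4, one_pow]
    show ψ.1 (e (π g)) = 0
    rw [← hπh, hval, hχ, hzero, mul_zero, Int.cast_zero]

open Cfsg.Agent.SteinbergPolar in
theorem hasSteinberg_of_polar {F V : Type*} [Field F] [AddCommGroup V] [Module F V] [Finite F]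
    [Finite V] {p : ℕ} [CharP F p] [Fact p.Prime] {Q : Geo F V} {G K : Type*} [Group G] [Finite G]
    [Group K] (ρ : G →* (V ≃ₗ[F] V)) (π : G →* K) (hπ : Function.Surjective π)
    (hscal : ∀ z, π z = 1 → ∀ v, Q.Φ v = 0 → ∃ c : F, ρ z v = c • v) (hO : Ok Q ρ p ⊤ ⊤) :
    HasSteinberg p K := by
  have := Fintype.ofFinite G
  have huniv : Finset.univ.filter (· ∈ (⊤ : Subgroup G)) = Finset.univ :=
    Finset.filter_true_of_mem fun g _ => Subgroup.mem_top g
  obtain ⟨hnorm, hdeg⟩ := hO.norm_deg _ rfl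
  rw [huniv, Finset.card_univ] at hnorm hdeg
  refine hasSteinberg_of_fun π hπ (L Q ρ ⊤) ?_ hnorm (fun z hz => ?_) hdeg
    fun g hg hne => hO.L_eq_zero (Subgroup.mem_top g) hg hne
  · have h := CharBasicDecomp.isGeneralizedCharacter_sub
      (CharBasicDecomp.isGeneralizedCharacter_of_isCharacter (CharBasicDecomp.isCharacter_one (G := G)))
      (isGeneralizedCharacter_chi (img ρ) (Pts Q ⊤) fun g x hx => hO.img_pts (Subgroup.mem_top g) hx)
    convert h using 1
    funext g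
    simp [L]
  · have hall : ∀ w : G, (∀ v, Q.Φ v = 0 → ∃ c : F, ρ w v = c • v) →
        fixd (img ρ) (Pts Q ⊤) w = Pts Q ⊤ := fun w hw =>
      Finset.filter_true_of_mem fun U hU => img_eq_of_le ρ (fun x hx => by
        obtain ⟨c, hc⟩ := hw x (((mem_Pts Q).1 hU).2.1.1 x hx)
        rw [hc]; exact U.smul_mem c hx) le_rfl
    rw [L, L, hall z (hscal z hz), hall 1 fun v _ => ⟨1, by rw [map_one, one_smul]; rfl⟩]

end Cfsg.Agent.SteinbergDescend
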