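import Cfsg.Agent.Lib.H74Euler
import Cfsg.Agent.Lib.CharBasicPerm

/-!
More on the Euler characteristic of finite posets: cones, duality, a splitting along an "opposite"
part, fixed point Euler characteristics as generalized characters.
-/

set_option autoImplicit false

namespace Cfsg.Agent.SteinbergEuler

open Cfsg.Agent.H74Euler

open scoped Classical

variable {α : Type*} [PartialOrder α]

/-- A monotone increasing map whose values lie above `c` makes the Euler characteristic `1`. -/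
theorem chi_cone : ∀ (S : Finset α) (c : α), c ∈ S → ∀ j : α → α, (∀ x ∈ S, j x ∈ S) →
    (∀ x ∈ S, x ≤ j x) → (∀ x ∈ S, c ≤ j x) → (∀ x ∈ S, ∀ y ∈ S, x ≤ y → j x ≤ j y) →
    chi S = 1 := by
  intro S
  induction S using Finset.strongInduction with
  | _ S ih =>
    intro c hc j hj hle hcj hmono
    rw [chi_eq, ← sum_wt_ge S hc]
    refine (Finset.sum_subset (Finset.filter_subset _ _) fun y hy hy' => ?_).symm
    have hcy : ¬ c ≤ y := fun h => hy' (Finset.mem_filter.2 ⟨hy, h⟩)
    have hjy : y < j y := lt_of_le_of_ne (hle y hy) fun e => hcy (by rw [e]; exact hcj y hy)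
    rw [wt, ih (S.filter (y < ·)) ⟨Finset.filter_subset _ _, fun h =>
      lt_irrefl y (Finset.mem_filter.1 (h hy)).2⟩ (j y) (Finset.mem_filter.2 ⟨hj y hy, hjy⟩) j
      (fun x hx => ?_) (fun x hx => hle x (Finset.mem_filter.1 hx).1)
      (fun x hx => hmono y hy x (Finset.mem_filter.1 hx).1 (Finset.mem_filter.1 hx).2.le)
      (fun x hx z hz => hmono x (Finset.mem_filter.1 hx).1 z (Finset.mem_filter.1 hz).1), sub_self]
    obtain ⟨hx, hyx⟩ := Finset.mem_filter.1 hx
    exact Finset.mem_filter.2 ⟨hj x hx, hyx.trans_le (hle x hx)⟩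

/-- Conical contraction: `x ≥ f x ≤ j (f x) ≥ c`. -/
theorem chi_conical (S : Finset α) (f j : α → α) (c : α) (hf : ∀ x ∈ S, f x ∈ S)
    (hle : ∀ x ∈ S, f x ≤ x) (hmono : ∀ x ∈ S, ∀ y ∈ S, x ≤ y → f x ≤ f y)
    (hidem : ∀ x ∈ S, f (f x) = f x) (hc : c ∈ S) (hfc : f c = c)
    (hj : ∀ x ∈ S, f x = x → j x ∈ S ∧ f (j x) = j x ∧ x ≤ j x ∧ c ≤ j x)
    (hjm : ∀ x ∈ S, ∀ y ∈ S, f x = x → f y = y → x ≤ y → j x ≤ j y) : chi S = 1 := by
  rw [chi_retract S (S.filter (fun x => f x = x)) (Finset.filter_subset _ _) f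
    (fun x hx => Finset.mem_filter.2 ⟨hf x hx, hidem x hx⟩) hle hmono
    (fun x hx => (Finset.mem_filter.1 hx).2)]
  refine chi_cone _ c (Finset.mem_filter.2 ⟨hc, hfc⟩) j (fun x hx => ?_) (fun x hx => ?_)
    (fun x hx => ?_) (fun x hx y hy => ?_)
  all_goals obtain ⟨hx, hfx⟩ := Finset.mem_filter.1 hx
  · obtain ⟨h1, h2, -, -⟩ := hj x hx hfx
    exact Finset.mem_filter.2 ⟨h1, h2⟩
  · exact (hj x hx hfx).2.2.1
  · exact (hj x hx hfx).2.2.2
  · exact hjm x hx y (Finset.mem_filter.1 hy).1 hfx (Finset.mem_filter.1 hy).2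

/-- Counting downwards gives the same Euler characteristic. -/
theorem chi_dual (S : Finset α) :
    chi (α := αᵒᵈ) (S.map OrderDual.toDual.toEmbedding) = chi S := by
  rw [chi_eq, chi_eq, Finset.sum_map]
  have h1 : ∀ x ∈ S, wt (α := αᵒᵈ) (S.map OrderDual.toDual.toEmbedding) (OrderDual.toDual x) =
      ∑ y ∈ S.filter (x ≤ ·),
        wt S y * wt (α := αᵒᵈ) (S.map OrderDual.toDual.toEmbedding) (OrderDual.toDual x) := by
    intro x hx
    rw [← Finset.sum_mul, sum_wt_ge S hx, one_mul]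
  rw [show (∑ x ∈ S, wt (α := αᵒᵈ) (S.map OrderDual.toDual.toEmbedding)
      (OrderDual.toDual.toEmbedding x)) = _ from Finset.sum_congr rfl h1,
    Finset.sum_comm' (t' := S) (s' := fun y => S.filter (· ≤ y))
      (fun x y => by simp only [Finset.mem_filter]; tauto)]
  refine Finset.sum_congr rfl fun y hy => ?_
  rw [← Finset.mul_sum]
  have h2 := sum_wt_ge (α := αᵒᵈ) (S.map OrderDual.toDual.toEmbedding)
    (Finset.mem_map_of_mem OrderDual.toDual.toEmbedding hy)
  rw [Finset.filter_map, Finset.sum_map] at h2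
  simp only [Function.comp_def, Equiv.coe_toEmbedding, OrderDual.toDual_le_toDual] at h2
  rw [h2, mul_one]

/-- The Euler characteristic splits along an up-closed part. -/
theorem chi_split (S B : Finset α) (hB : B ⊆ S)
    (hdown : ∀ x ∈ S, ∀ y ∈ B, x ≤ y → x ∈ B) :
    chi S = chi (S \ B) + ∑ x ∈ B, wt S x := by
  rw [chi_eq, chi_eq, ← Finset.sum_sdiff hB]
  congr 1
  refine Finset.sum_congr rfl fun x hx => ?_
  rw [wt, wt]
  congr 2
  ext z
  simp only [Finset.mem_filter, Finset.mem_sdiff] at hx ⊢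
  exact ⟨fun h => ⟨⟨h.1, fun hz => hx.2 (hdown x hx.1 z hz h.2.le)⟩, h.2⟩, fun h => ⟨h.1.1, h.2⟩⟩

/-- If everything outside the down-closed part `B` is contractible above the members of `B` that
are not in `O`, only the members of `O` contribute. -/
theorem chi_opposite (S B O : Finset α) (hB : B ⊆ S) (hO : O ⊆ B)
    (hdown : ∀ x ∈ S, ∀ y ∈ B, x ≤ y → x ∈ B) (h0 : chi (S \ B) = 1)
    (hmax : ∀ x ∈ O, ∀ y ∈ B, ¬ x < y)
    (habove : ∀ T ∈ B, T ∉ O → chi ((S \ B).filter (T < ·)) = 1) :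
    chi S = 1 + ∑ T₀ ∈ O, wt S T₀ * (1 - chi (B.filter (· < T₀))) := by
  rw [chi_split S B hB hdown, h0]
  congr 1
  have hrec : ∀ T ∈ B, T ∉ O → wt S T = -∑ y ∈ B.filter (T < ·), wt S y := by
    intro T hT hTO
    rw [wt, chi_split (S.filter (T < ·)) (B.filter (T < ·)) (Finset.filter_subset_filter _ hB)
      (fun x hx y hy hxy => Finset.mem_filter.2
        ⟨hdown x (Finset.mem_filter.1 hx).1 y (Finset.mem_filter.1 hy).1 hxy,
          (Finset.mem_filter.1 hx).2⟩)]
    have e1 : S.filter (T < ·) \ B.filter (T < ·) = (S \ B).filter (T < ·) := by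
      ext z; simp only [Finset.mem_filter, Finset.mem_sdiff]; tauto
    rw [e1, habove T hT hTO]
    have e2 : ∑ y ∈ B.filter (T < ·), wt (S.filter (T < ·)) y = ∑ y ∈ B.filter (T < ·), wt S y := by
      refine Finset.sum_congr rfl fun y hy => ?_
      rw [wt, wt, filter_lt_filter_lt S (Finset.mem_filter.1 hy).2]
    rw [e2]; ring
  set v : α → ℤ := fun T => ∑ T₀ ∈ O, wt S T₀ *
    (if T = T₀ then 1 else if T < T₀ then -wt (B.filter (· < T₀)) T else 0) with hv
  have hvw : ∀ n, ∀ T ∈ B, (B.filter (T < ·)).card = n → wt S T = v T := by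
    intro n
    induction n using Nat.strong_induction_on with
    | _ n ih =>
      intro T hT hn
      by_cases hTO : T ∈ O
      · rw [hv]
        simp only
        rw [Finset.sum_eq_single T (fun T₀ hT₀ hne => by
          rw [if_neg (Ne.symm hne), if_neg (hmax T hTO T₀ (hO hT₀)), mul_zero])
          (fun h => absurd hTO h), if_pos rfl, mul_one]
      · rw [hrec T hT hTO, Finset.sum_congr rfl fun y hy => ih _ (by
          rw [← hn, ← filter_lt_filter_lt B (Finset.mem_filter.1 hy).2]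
          exact Finset.card_lt_card ⟨Finset.filter_subset _ _, fun h =>
            lt_irrefl _ (Finset.mem_filter.1 (h hy)).2⟩) y (Finset.mem_filter.1 hy).1 rfl]
        simp only [hv]
        rw [Finset.sum_comm, ← Finset.sum_neg_distrib]
        refine Finset.sum_congr rfl fun T₀ hT₀ => ?_
        rw [if_neg (fun e : T = T₀ => hTO (e ▸ hT₀)), ← Finset.mul_sum, ← mul_neg]
        congr 1
        by_cases hlt : T < T₀
        · rw [if_pos hlt, ← Finset.add_sum_erase _ _ (Finset.mem_filter.2 ⟨hO hT₀, hlt⟩), if_pos rfl,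
            wt, chi_eq]
          have e3 : ∑ y ∈ (B.filter (T < ·)).erase T₀,
              (if y = T₀ then (1 : ℤ) else if y < T₀ then -wt (B.filter (· < T₀)) y else 0) =
              -∑ y ∈ (B.filter (· < T₀)).filter (T < ·), wt ((B.filter (· < T₀)).filter (T < ·)) y := by
            rw [← Finset.sum_neg_distrib]
            rw [← Finset.sum_subset (s₁ := (B.filter (· < T₀)).filter (T < ·))]
            · refine Finset.sum_congr rfl fun y hy => ?_
              simp only [Finset.mem_filter] at hy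
              rw [if_neg hy.1.2.ne, if_pos hy.1.2, wt, wt, filter_lt_filter_lt _ hy.2]
            · intro y hy
              simp only [Finset.mem_filter, Finset.mem_erase] at hy ⊢
              exact ⟨hy.1.2.ne, hy.1.1, hy.2⟩
            · intro y hy hy'
              simp only [Finset.mem_filter, Finset.mem_erase] at hy hy'
              rw [if_neg hy.1, if_neg fun h => hy' ⟨⟨hy.2.1, h⟩, hy.2.2⟩]
          rw [e3]; ring
        · rw [if_neg hlt]
          refine neg_eq_zero.2 (Finset.sum_eq_zero fun y hy => ?_)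
          have := (Finset.mem_filter.1 hy).2
          rw [if_neg (fun e : y = T₀ => hlt (e ▸ this)), if_neg fun h => hlt (this.trans h)]
  rw [Finset.sum_congr rfl fun T hT => hvw _ T hT rfl]
  simp only [hv]
  rw [Finset.sum_comm]
  refine Finset.sum_congr rfl fun T₀ hT₀ => ?_
  rw [← Finset.mul_sum]
  congr 1
  rw [← Finset.add_sum_erase _ _ (hO hT₀), if_pos rfl, chi_eq, sub_eq_add_neg, ← Finset.sum_neg_distrib]
  congr 1
  rw [← Finset.sum_subset (s₁ := B.filter (· < T₀)) (s₂ := B.erase T₀)]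
  · exact Finset.sum_congr rfl fun y hy => by
      rw [if_neg (Finset.mem_filter.1 hy).2.ne, if_pos (Finset.mem_filter.1 hy).2]
  · intro y hy
    exact Finset.mem_erase.2 ⟨(Finset.mem_filter.1 hy).2.ne, (Finset.mem_filter.1 hy).1⟩
  · intro y hy hy'
    obtain ⟨h1, h2⟩ := Finset.mem_erase.1 hy
    rw [if_neg h1, if_neg fun h => hy' (Finset.mem_filter.2 ⟨h2, h⟩)]

/-- The Euler characteristic is invariant under order isomorphisms between finite subsets. -/
theorem chi_congr {β : Type*} [PartialOrder β] : ∀ (S : Finset α) (T : Finset β) (f : α → β),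
    (∀ x ∈ S, f x ∈ T) → (∀ y ∈ T, ∃ x ∈ S, f x = y) →
    (∀ x ∈ S, ∀ y ∈ S, f x ≤ f y ↔ x ≤ y) → chi S = chi T := by
  intro S
  induction S using Finset.strongInduction with
  | _ S ih =>
    intro T f hf hsur hle
    have hinj : Set.InjOn f S := fun x hx y hy e =>
      le_antisymm ((hle x hx y hy).1 e.le) ((hle y hy x hx).1 e.ge)
    have hlt : ∀ x ∈ S, ∀ y ∈ S, (f x < f y ↔ x < y) := fun x hx y hy => by
      rw [lt_iff_le_not_ge, lt_iff_le_not_ge, hle x hx y hy, hle y hy x hx]
    have hT : T = S.image f := by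
      ext y
      rw [Finset.mem_image]
      exact ⟨hsur y, fun ⟨x, hx, e⟩ => e ▸ hf x hx⟩
    rw [chi_eq, chi_eq, hT, Finset.sum_image hinj]
    refine Finset.sum_congr rfl fun x hx => ?_
    rw [wt, wt, ih (S.filter (x < ·)) ⟨Finset.filter_subset _ _, fun h =>
      lt_irrefl x (Finset.mem_filter.1 (h hx)).2⟩ ((S.image f).filter (f x < ·)) f]
    · intro y hy
      obtain ⟨hy1, hy2⟩ := Finset.mem_filter.1 hy
      exact Finset.mem_filter.2 ⟨Finset.mem_image_of_mem f hy1, (hlt x hx y hy1).2 hy2⟩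
    · intro z hz
      obtain ⟨hz1, hz2⟩ := Finset.mem_filter.1 hz
      obtain ⟨y, hy, rfl⟩ := Finset.mem_image.1 hz1
      exact ⟨y, Finset.mem_filter.2 ⟨hy, (hlt x hx y hy).1 hz2⟩, rfl⟩
    · exact fun y hy z hz => hle y (Finset.mem_filter.1 hy).1 z (Finset.mem_filter.1 hz).1

/-! ### Chains -/

/-- Chains with `k + 1` members in `S`. -/
abbrev Chn (S : Finset α) (k : ℕ) : Type _ :=
  {c : Fin (k + 1) → α // StrictMono c ∧ ∀ i, c i ∈ S}

variable [Finite α]

theorem card_chn_succ (S : Finset α) (k : ℕ) :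
    Nat.card (Chn S (k + 1)) = ∑ x ∈ S, Nat.card (Chn (S.filter (x < ·)) k) := by
  have := Fintype.ofFinite α
  rw [← Finset.sum_coe_sort]
  simp only [Nat.card_eq_fintype_card]
  rw [← Fintype.card_sigma]
  refine (Fintype.card_congr ⟨fun p => ⟨Fin.cons p.1.1 p.2.1, ?h1⟩,
    fun c => ⟨⟨c.1 0, c.2.2 0⟩, ⟨Fin.tail c.1, ?h2⟩⟩, ?h3, ?h4⟩).symm
  case h1 =>
    obtain ⟨⟨x, hx⟩, ⟨c, hc, hcS⟩⟩ := p
    refine ⟨Fin.strictMono_iff_lt_succ.2 fun i => ?_, Fin.cases hx fun i => ?_⟩
    · cases i using Fin.cases with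
      | zero => simpa using (Finset.mem_filter.1 (hcS 0)).2
      | succ i => simpa [← Fin.succ_castSucc] using hc (Fin.castSucc_lt_succ (i := i))
    · simpa using (Finset.mem_filter.1 (hcS i)).1
  case h2 =>
    exact ⟨fun a b h => c.2.1 (Fin.succ_lt_succ_iff.2 h), fun i =>
      Finset.mem_filter.2 ⟨c.2.2 _, c.2.1 (Fin.succ_pos i)⟩⟩
  case h3 =>
    rintro ⟨⟨x, hx⟩, ⟨c, hc, hcS⟩⟩
    simp
    rfl
  case h4 => exact fun c => Subtype.ext (Fin.cons_self_tail c.1)

theorem card_chn_zero (S : Finset α) : Nat.card (Chn S 0) = S.card := by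
  rw [← Nat.card_eq_finsetCard]
  refine Nat.card_congr ⟨fun c => ⟨c.1 0, c.2.2 0⟩,
    fun x => ⟨fun _ => x.1, fun a b h => by omega, fun _ => x.2⟩, fun c => ?_, fun x => rfl⟩
  refine Subtype.ext (funext fun i => ?_)
  show c.1 0 = c.1 i
  rw [show i = 0 from Fin.ext (by omega)]

theorem chi_eq_chains : ∀ (S : Finset α) (K : ℕ), S.card ≤ K →
    chi S = ∑ k ∈ Finset.range K, (-1) ^ k * (Nat.card (Chn S k) : ℤ) := by
  intro S K
  induction K generalizing S with
  | zero =>
    intro h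
    rw [Finset.card_eq_zero.1 (Nat.le_zero.1 h), chi_empty]; simp
  | succ K ih =>
    intro h
    rw [chi_eq, Finset.sum_range_succ', card_chn_zero, pow_zero, one_mul]
    have h1 : ∀ x ∈ S, wt S x =
        1 - ∑ k ∈ Finset.range K, (-1) ^ k * (Nat.card (Chn (S.filter (x < ·)) k) : ℤ) := fun x hx => by
      rw [wt, ih]
      refine Nat.le_of_lt_succ (lt_of_lt_of_le (Finset.card_lt_card ⟨Finset.filter_subset _ _, fun hh =>
        lt_irrefl _ (Finset.mem_filter.1 (hh hx)).2⟩) h)
    rw [Finset.sum_congr rfl h1, Finset.sum_sub_distrib, Finset.sum_comm, Finset.sum_const,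
      nsmul_one, sub_eq_neg_add, ← Finset.sum_neg_distrib]
    congr 1
    refine Finset.sum_congr rfl fun k _ => ?_
    rw [card_chn_succ, ← Finset.mul_sum]
    push_cast
    ring

variable {G : Type*} [Group G] (a : G →* α ≃o α)

/-- The members fixed by `g`. -/
noncomputable def fixd (S : Finset α) (g : G) : Finset α := S.filter (fun x => a g x = x)

theorem isGeneralizedCharacter_chi (S : Finset α) (hS : ∀ g, ∀ x ∈ S, a g x ∈ S) :
    Cfsg.IsGeneralizedCharacter G (fun g => (chi (fixd a S g) : ℂ)) := by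
  have h : (fun g => (chi (fixd a S g) : ℂ)) = ∑ k ∈ Finset.range S.card,
      (((-1 : ℤ) ^ k : ℤ) : ℂ) • fun g => (Nat.card {c : Chn S k // ∀ i, a g (c.1 i) = c.1 i} : ℂ) := by
    funext g
    simp only [fixd]
    rw [chi_eq_chains (S.filter fun x => a g x = x) S.card (Finset.card_filter_le _ _), Finset.sum_apply, Int.cast_sum]
    refine Finset.sum_congr rfl fun k _ => ?_
    rw [Pi.smul_apply, smul_eq_mul, Int.cast_mul, Int.cast_natCast]
    congr 2
    exact Nat.card_congr
      ⟨fun c => ⟨⟨c.1, c.2.1, fun i => (Finset.mem_filter.1 (c.2.2 i)).1⟩,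
          fun i => (Finset.mem_filter.1 (c.2.2 i)).2⟩,
        fun c => ⟨c.1.1, c.1.2.1, fun i => Finset.mem_filter.2 ⟨c.1.2.2 i, c.2 i⟩⟩,
        fun c => rfl, fun c => rfl⟩
  rw [h]
  refine CharBasicDecomp.isGeneralizedCharacter_sum _ _ fun k _ => ?_
  let inst : MulAction G (Chn S k) :=
    { smul := fun g c => ⟨fun i => a g (c.1 i), (a g).strictMono.comp c.2.1, fun i => hS g _ (c.2.2 i)⟩
      one_smul := fun c => Subtype.ext (funext fun i => by show a 1 (c.1 i) = _; rw [map_one]; rfl)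
      mul_smul := fun g g' c => Subtype.ext (funext fun i => by
        show a (g * g') (c.1 i) = a g (a g' (c.1 i)); rw [map_mul]; rfl) }
  have hc := CharBasicPerm.isCharacter_fixedBy (G := G) (Chn S k)
  have he : (fun g : G => (Nat.card (MulAction.fixedBy (Chn S k) g) : ℂ)) =
      fun g => (Nat.card {c : Chn S k // ∀ i, a g (c.1 i) = c.1 i} : ℂ) := by
    funext g
    rw [show Nat.card (MulAction.fixedBy (Chn S k) g) =
        Nat.card {c : Chn S k // ∀ i, a g (c.1 i) = c.1 i} from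
      Nat.card_congr (Equiv.subtypeEquivRight fun c => by
        rw [MulAction.mem_fixedBy, Subtype.ext_iff, funext_iff]; rfl)]
  rw [← he]
  exact CharBasicDecomp.isGeneralizedCharacter_zsmul
    (CharBasicDecomp.isGeneralizedCharacter_of_isCharacter hc) _

end Cfsg.Agent.SteinbergEuler
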