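import Cfsg.Agent.Lib.SteinbergEuler

/-!
Fixed point Euler characteristics on intervals of a subspace lattice, averaged over a coset of a
group containing the transvections of the interval.
-/

set_option autoImplicit false

namespace Cfsg.Agent.SteinbergLattice

open Cfsg.Agent.H74Euler Cfsg.Agent.SteinbergEuler

open scoped Classical

variable {F V : Type*} [Field F] [AddCommGroup V] [Module F V] [Finite V]
  {G : Type*} [Group G] (ρ : G →* (V ≃ₗ[F] V))

/-- The action on subspaces. -/
def img : G →* (Submodule F V ≃o Submodule F V) where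
  toFun g := Submodule.orderIsoMapComap (ρ g)
  map_one' := by
    refine RelIso.ext fun U => ?_
    rw [map_one]
    show Submodule.map _ U = U
    simp
  map_mul' g h := by
    refine RelIso.ext fun U => ?_
    rw [map_mul]
    show Submodule.map _ U = Submodule.map _ (Submodule.map _ U)
    rw [← Submodule.map_comp]
    rfl

omit [Finite V] in
theorem mem_img {g : G} {U : Submodule F V} {y : V} :
    y ∈ img ρ g U ↔ ∃ x ∈ U, ρ g x = y := Iff.rfl

omit [Finite V] in
theorem apply_mem_img {g : G} {U : Submodule F V} {x : V} (hx : x ∈ U) : ρ g x ∈ img ρ g U :=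
  ⟨x, hx, rfl⟩

theorem img_eq_of_le {g : G} {U U' : Submodule F V} (h : ∀ x ∈ U, ρ g x ∈ U')
    (hr : Module.finrank F U' ≤ Module.finrank F U) : img ρ g U = U' := by
  refine Submodule.eq_of_le_of_finrank_le (fun y ⟨x, hx, e⟩ => e ▸ h x hx) (le_of_le_of_eq hr ?_)
  exact ((ρ g).submoduleMap U).finrank_eq

theorem finrank_img (g : G) (U : Submodule F V) : Module.finrank F (img ρ g U) = Module.finrank F U :=
  ((ρ g).submoduleMap U).finrank_eq.symm

omit [Finite V] in
theorem img_mul (g h : G) (U : Submodule F V) : img ρ (g * h) U = img ρ g (img ρ h U) := by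
  rw [map_mul]; rfl

omit [Finite V] in
theorem img_one (U : Submodule F V) : img ρ 1 U = U := by rw [map_one]; rfl

omit [Finite V] in
theorem img_inv_of (g : G) {U U' : Submodule F V} (h : img ρ g U = U') : img ρ g⁻¹ U' = U := by
  rw [← h, ← img_mul, inv_mul_cancel, img_one]

omit [Finite V] in
/-- The stabilizer of a subspace. -/
def stabSub (W : Submodule F V) : Subgroup G where
  carrier := {g | img ρ g W = W}
  one_mem' := img_one ρ W
  mul_mem' {a b} ha hb := by
    show img ρ (a * b) W = W
    rw [img_mul, show img ρ b W = W from hb, show img ρ a W = W from ha]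
  inv_mem' {a} ha := img_inv_of ρ a ha

omit [Finite V] in
theorem mem_stabSub {W : Submodule F V} {g : G} : g ∈ stabSub ρ W ↔ img ρ g W = W := Iff.rfl

/-- Finitely many subspaces. -/
noncomputable instance subFintype : Fintype (Submodule F V) :=
  @Fintype.ofFinite _ (Finite.of_injective (fun U : Submodule F V => (U : Set V)) SetLike.coe_injective)

/-- The open interval. -/
noncomputable def Ivl (A B : Submodule F V) : Finset (Submodule F V) :=
  Finset.univ.filter fun W => A < W ∧ W < B

theorem mem_Ivl {A B W : Submodule F V} : W ∈ Ivl A B ↔ A < W ∧ W < B := by simp [Ivl]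

/-- Reduced Euler characteristic of the fixed points in an interval, negated. -/
noncomputable def D (A B : Submodule F V) (g : G) : ℤ := 1 - chi (fixd (img ρ) (Ivl A B) g)

theorem wt_Ivl {A B W : Submodule F V} {g : G} (hW : W ∈ fixd (img ρ) (Ivl A B) g) :
    wt (fixd (img ρ) (Ivl A B) g) W = D ρ W B g := by
  rw [wt, D]
  congr 2
  ext U
  simp only [fixd, Finset.mem_filter, mem_Ivl] at hW ⊢
  exact ⟨fun h => ⟨⟨h.2, h.1.1.2⟩, h.1.2⟩, fun h => ⟨⟨⟨hW.1.1.trans h.1.1, h.1.2⟩, h.2⟩, h.1.1⟩⟩

/-- `M` contains the transvections of the interval `[A, B]`. -/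
structure HasTv (M : Subgroup G) (A B : Submodule F V) : Prop where
  le : A ≤ B
  fix_left : ∀ m ∈ M, img ρ m A = A
  fix_right : ∀ m ∈ M, img ρ m B = B
  tv : ∀ v ∈ B, ∀ φ : V →ₗ[F] F, φ v = 0 → A ≤ LinearMap.ker φ →
    ∃ m ∈ M, ∀ y ∈ B, ρ m y = y + φ y • v

omit [Finite V] in
theorem HasTv.stab {M : Subgroup G} {A B W : Submodule F V} (h : HasTv ρ M A B) (hAW : A ≤ W)
    (hWB : W ≤ B) (hfin : Module.Finite F V) : HasTv ρ (M ⊓ stabSub ρ W) W B where
  le := hWB
  fix_left m hm := hm.2
  fix_right m hm := h.fix_right m hm.1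
  tv v hv φ hφ hle := by
    obtain ⟨m, hm, hmy⟩ := h.tv v hv φ hφ (hAW.trans hle)
    have hid : ∀ y ∈ W, ρ m y = y := fun y hy => by
      rw [hmy y (hWB hy), LinearMap.mem_ker.1 (hle hy), zero_smul, add_zero]
    refine ⟨m, ⟨hm, ?_⟩, hmy⟩
    refine le_antisymm (fun y hy => ?_) (fun y hy => (mem_img ρ).2 ⟨y, hy, hid y hy⟩)
    obtain ⟨x, hx, e⟩ := (mem_img ρ).1 hy
    rw [← e, hid x hx]
    exact hx

variable [Fintype G]

omit [Finite V] in
theorem card_move {α : Type*} [PartialOrder α] (act : G →* α ≃o α) (M : Subgroup G) {a b c d : α}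
    {t r : G} (ht : t ∈ M) (hr : r ∈ M) (htc : act t c = a) (hrb : act r b = d) :
    (Finset.univ.filter fun m => m ∈ M ∧ act m a = b).card =
      (Finset.univ.filter fun m => m ∈ M ∧ act m c = d).card := by
  have happ : ∀ (x y : G) (z : α), act (x * y) z = act x (act y z) := fun x y z => by
    rw [map_mul]; rfl
  have hinv : ∀ (x : G) (z w : α), act x z = w → act x⁻¹ w = z := fun x z w h => by
    rw [← h, ← happ, inv_mul_cancel, map_one]; rfl
  refine Finset.card_bij' (fun m _ => r * m * t) (fun m _ => r⁻¹ * m * t⁻¹) ?_ ?_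
    (fun m _ => by simp [mul_assoc]) (fun m _ => by simp [mul_assoc])
  · intro m hm
    simp only [Finset.mem_filter, Finset.mem_univ, true_and] at hm ⊢
    exact ⟨M.mul_mem (M.mul_mem hr hm.1) ht, by rw [happ, happ, htc, hm.2, hrb]⟩
  · intro m hm
    simp only [Finset.mem_filter, Finset.mem_univ, true_and] at hm ⊢
    exact ⟨M.mul_mem (M.mul_mem (M.inv_mem hr) hm.1) (M.inv_mem ht), by
      rw [happ, happ, hinv t c a htc, hm.2, hinv r b d hrb]⟩

/-- The hyperplanes of the interval are permuted transitively. -/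
theorem exists_move_hyperplane {M : Subgroup G} {A B H1 H2 : Submodule F V} (h : HasTv ρ M A B)
    (hA1 : A ≤ H1) (h1 : H1 ≤ B) (hr1 : Module.finrank F H1 + 1 = Module.finrank F B)
    (hA2 : A ≤ H2) (h2 : H2 ≤ B) (hr2 : Module.finrank F H2 + 1 = Module.finrank F B) :
    ∃ m ∈ M, img ρ m H1 = H2 := by
  by_cases heq : H1 = H2
  · exact ⟨1, M.one_mem, by rw [img_one, heq]⟩
  have hfin : Module.Finite F V := Module.Finite.of_finite
  obtain ⟨a, ha1, ha2⟩ := SetLike.not_le_iff_exists.1
    (fun hle : H1 ≤ H2 => heq (Submodule.eq_of_le_of_finrank_le hle (by omega)))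
  obtain ⟨v, hv2, hv1⟩ := SetLike.not_le_iff_exists.1
    (fun hle : H2 ≤ H1 => heq (Submodule.eq_of_le_of_finrank_le hle (by omega)).symm)
  set K := H1 ⊓ H2 ⊔ F ∙ (v - a) with hK
  have haK : a ∉ K := by
    intro haK
    obtain ⟨k, hk, z, hz, e⟩ := Submodule.mem_sup.1 haK
    obtain ⟨c, rfl⟩ := Submodule.mem_span_singleton.1 hz
    by_cases hc : c = 0
    · rw [hc, zero_smul, add_zero] at e
      exact ha2 (e ▸ hk.2)
    · refine hv1 ?_
      have : v = c⁻¹ • (a - k + c • a) := by
        rw [eq_inv_smul_iff₀ hc]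
        linear_combination (norm := module) e
      rw [this]
      exact H1.smul_mem _ (H1.add_mem (H1.sub_mem ha1 hk.1) (H1.smul_mem _ ha1))
  obtain ⟨φ₀, hφ₀, hφK⟩ := Submodule.exists_dual_map_eq_bot_of_notMem haK inferInstance
  obtain ⟨φ, hφa, hker⟩ : ∃ φ : V →ₗ[F] F, φ a = 1 ∧ ∀ y ∈ K, φ y = 0 :=
    ⟨(φ₀ a)⁻¹ • φ₀, by rw [LinearMap.smul_apply, smul_eq_mul, inv_mul_cancel₀ hφ₀], fun y hy => by
      have : φ₀ y = 0 := (Submodule.mem_bot F).1 (hφK ▸ Submodule.mem_map_of_mem hy)
      rw [LinearMap.smul_apply, this, smul_zero]⟩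
  have hva : φ (v - a) = 0 := hker _ (Submodule.mem_sup_right (Submodule.mem_span_singleton_self _))
  obtain ⟨m, hm, hmy⟩ := h.tv (v - a) (B.sub_mem (h2 hv2) (h1 ha1)) φ hva
    (fun y hy => LinearMap.mem_ker.2 (hker y (Submodule.mem_sup_left ⟨hA1 hy, hA2 hy⟩)))
  refine ⟨m, hm, img_eq_of_le ρ (fun x hx => ?_) (by omega)⟩
  -- `x = k + c a`
  have hsplit : H1 ⊓ H2 ⊔ F ∙ a = H1 := by
    refine Submodule.eq_of_le_of_finrank_le (sup_le inf_le_left
      (by rwa [Submodule.span_singleton_le_iff_mem])) ?_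
    have hsum := Submodule.finrank_sup_add_finrank_inf_eq H1 H2
    have hle : Module.finrank F ↥(H1 ⊔ H2) ≤ Module.finrank F B :=
      Submodule.finrank_mono (sup_le h1 h2)
    have hlt : H1 ⊓ H2 < H1 ⊓ H2 ⊔ F ∙ a := left_lt_sup.2 fun hle' =>
      ha2 (hle' (Submodule.mem_span_singleton_self a)).2
    have := Submodule.finrank_lt_finrank_of_lt hlt
    omega
  rw [← hsplit] at hx
  obtain ⟨k, hk, z, hz, rfl⟩ := Submodule.mem_sup.1 hx
  obtain ⟨c, rfl⟩ := Submodule.mem_span_singleton.1 hz
  rw [hmy _ (B.add_mem (h1 hk.1) (B.smul_mem _ (h1 ha1))), map_add, map_smul, hφa,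
    hker k (Submodule.mem_sup_left hk), zero_add, smul_eq_mul, mul_one, smul_sub,
    show k + c • a + (c • v - c • a) = k + c • v by abel]
  exact H2.add_mem hk.2 (H2.smul_mem _ hv2)

theorem exists_hyperplane {A B : Submodule F V} (hle : A ≤ B)
    (hr : Module.finrank F A + 1 ≤ Module.finrank F B) :
    ∃ H : Submodule F V, A ≤ H ∧ H ≤ B ∧ Module.finrank F H + 1 = Module.finrank F B := by
  have hfin : Module.Finite F V := Module.Finite.of_finite
  let T : Finset (Submodule F V) := Finset.univ.filter fun W => A ≤ W ∧ W < B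
  obtain ⟨H, hH, hmax⟩ := T.exists_maximal ⟨A, Finset.mem_filter.2 ⟨Finset.mem_univ _, le_rfl,
    lt_of_le_of_ne hle fun e => by rw [e] at hr; omega⟩⟩
  obtain ⟨-, hAH, hHB⟩ := Finset.mem_filter.1 hH
  refine ⟨H, hAH, hHB.le, ?_⟩
  have hlt := Submodule.finrank_lt_finrank_of_lt hHB
  by_contra hne
  obtain ⟨v, hv, hvH⟩ := SetLike.exists_of_lt hHB
  have h2 : H ⊔ F ∙ v < B := lt_of_le_of_ne (sup_le hHB.le (by rwa [Submodule.span_singleton_le_iff_mem]))
    fun e => by
      have := Submodule.finrank_sup_add_finrank_inf_eq H (F ∙ v)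
      have hv0 : v ≠ 0 := fun h => hvH (h ▸ H.zero_mem)
      rw [e, finrank_span_singleton hv0] at this
      omega
  exact hvH (hmax (Finset.mem_filter.2 ⟨Finset.mem_univ _, hAH.trans le_sup_left, h2⟩) le_sup_left
    (Submodule.mem_sup_right (Submodule.mem_span_singleton_self v)))

/-- Over any coset of a group with transvections the average of `D` vanishes. -/
theorem avg_D : ∀ (k : ℕ) (M : Subgroup G) (A B : Submodule F V) (g : G), HasTv ρ M A B →
    img ρ g A = A → img ρ g B = B → Module.finrank F B = Module.finrank F A + k → 2 ≤ k →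
    ∑ m ∈ Finset.univ.filter (· ∈ M), D ρ A B (g * m) = 0 := by
  have hfin : Module.Finite F V := Module.Finite.of_finite
  intro k
  induction k using Nat.strong_induction_on with
  | _ k ih =>
  intro M A B g h hgA hgB hk hk2
  set X : Finset (Submodule F V) :=
    Finset.univ.filter fun W => A ≤ W ∧ W ≤ B ∧ Module.finrank F W + 1 = Module.finrank F B with hX
  have hXI : X ⊆ Ivl A B := fun W hW => by
    obtain ⟨-, h1, h2, h3⟩ := Finset.mem_filter.1 hW
    exact mem_Ivl.2 ⟨lt_of_le_of_ne h1 fun e => by rw [← e] at h3; omega,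
      lt_of_le_of_ne h2 fun e => by rw [e] at h3; omega⟩
  simp only [D, Finset.sum_sub_distrib, chi_eq]
  rw [sub_eq_zero]
  calc ∑ m ∈ Finset.univ.filter (· ∈ M), (1 : ℤ)
      = ∑ W ∈ X, ((Finset.univ.filter fun m => m ∈ M ∧ img ρ m W = img ρ g⁻¹ W).card : ℤ) := by
        obtain ⟨W0, hW0A, hW0B, hW0r⟩ := exists_hyperplane (A := A) (B := B) h.le (by omega)
        have hW0 : W0 ∈ X := Finset.mem_filter.2 ⟨Finset.mem_univ _, hW0A, hW0B, hW0r⟩
        rw [Finset.sum_const, nsmul_one, ← Nat.cast_sum]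
        congr 1
        rw [Finset.card_eq_sum_card_fiberwise (f := fun m => img ρ m W0) (t := X) fun m hm => by
          have hm' : m ∈ M := (Finset.mem_filter.1 hm).2
          refine Finset.mem_filter.2 ⟨Finset.mem_univ _, ?_, ?_, ?_⟩
          · rw [← h.fix_left m hm']; exact (img ρ m).monotone hW0A
          · rw [← h.fix_right m hm']; exact (img ρ m).monotone hW0B
          · rw [finrank_img, hW0r]]
        refine Finset.sum_congr rfl fun W hW => ?_
        rw [Finset.filter_filter]
        obtain ⟨-, hWA, hWB, hWr⟩ := Finset.mem_filter.1 hW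
        have hgW : A ≤ img ρ g⁻¹ W ∧ img ρ g⁻¹ W ≤ B ∧
            Module.finrank F (img ρ g⁻¹ W) + 1 = Module.finrank F B := by
          refine ⟨?_, ?_, by rw [finrank_img, hWr]⟩
          · rw [← img_inv_of ρ g hgA]; exact (img ρ g⁻¹).monotone hWA
          · rw [← img_inv_of ρ g hgB]; exact (img ρ g⁻¹).monotone hWB
        obtain ⟨t, ht, htW⟩ := exists_move_hyperplane ρ h hWA hWB hWr hW0A hW0B hW0r
        obtain ⟨r, hr, hrW⟩ := exists_move_hyperplane ρ h hWA hWB hWr hgW.1 hgW.2.1 hgW.2.2
        exact card_move (img ρ) M ht hr htW hrW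
    _ = ∑ W ∈ Ivl A B, ∑ m ∈ (Finset.univ.filter (· ∈ M)).filter (fun m => img ρ (g * m) W = W),
          D ρ W B (g * m) := by
        rw [← Finset.sum_subset hXI]
        · refine Finset.sum_congr rfl fun W hW => ?_
          obtain ⟨-, hWA, hWB, hWr⟩ := Finset.mem_filter.1 hW
          have hempty : Ivl W B = ∅ := Finset.eq_empty_of_forall_notMem fun U hU => by
            obtain ⟨h1, h2⟩ := mem_Ivl.1 hU
            have := Submodule.finrank_lt_finrank_of_lt h1
            have := Submodule.finrank_lt_finrank_of_lt h2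
            omega
          simp only [D, fixd, hempty, Finset.filter_empty, chi_empty, sub_zero, Finset.sum_const,
            nsmul_one]
          congr 2
          ext m
          simp only [Finset.mem_filter, Finset.mem_univ, true_and, img_mul]
          refine and_congr_right fun _ => ⟨fun e => ?_, fun e => ?_⟩
          · rw [e, ← img_mul, mul_inv_cancel, img_one]
          · exact (img_inv_of ρ g e).symm
        · intro W hW hWX
          obtain ⟨hAW, hWB⟩ := mem_Ivl.1 hW
          have h1 := Submodule.finrank_lt_finrank_of_lt hAW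
          have h2 := Submodule.finrank_lt_finrank_of_lt hWB
          have h3 : Module.finrank F W + 1 ≠ Module.finrank F B := fun e =>
            hWX (Finset.mem_filter.2 ⟨Finset.mem_univ _, hAW.le, hWB.le, e⟩)
          by_cases hne : ∃ m₀ ∈ M, img ρ (g * m₀) W = W
          · obtain ⟨m₀, hm₀, hfix⟩ := hne
            have := ih (Module.finrank F B - Module.finrank F W) (by omega) (M ⊓ stabSub ρ W) W B
              (g * m₀) (h.stab ρ hAW.le hWB.le hfin) hfix
              (by rw [img_mul, h.fix_right m₀ hm₀, hgB]) (by omega) (by omega)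
            rw [← this]
            refine Finset.sum_bij' (fun m _ => m₀⁻¹ * m) (fun m _ => m₀ * m) ?_ ?_
              (fun m _ => mul_inv_cancel_left _ _) (fun m _ => inv_mul_cancel_left _ _)
              (fun m _ => by rw [mul_assoc, mul_inv_cancel_left])
            · intro m hm
              simp only [Finset.mem_filter, Finset.mem_univ, true_and] at hm
              refine Finset.mem_filter.2 ⟨Finset.mem_univ _, M.mul_mem (M.inv_mem hm₀) hm.1, ?_⟩
              show img ρ (m₀⁻¹ * m) W = W
              rw [show m₀⁻¹ * m = (g * m₀)⁻¹ * (g * m) by group, img_mul, hm.2]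
              exact img_inv_of ρ _ hfix
            · intro m hm
              obtain ⟨-, hm1, hm2⟩ := Finset.mem_filter.1 hm
              refine Finset.mem_filter.2 ⟨Finset.mem_filter.2 ⟨Finset.mem_univ _, M.mul_mem hm₀ hm1⟩, ?_⟩
              rw [← mul_assoc, img_mul, show img ρ m W = W from hm2, hfix]
          · refine Finset.sum_eq_zero fun m hm => absurd ?_ hne
            simp only [Finset.mem_filter, Finset.mem_univ, true_and] at hm
            exact ⟨m, hm.1, hm.2⟩
    _ = _ := by
        rw [Finset.sum_comm' (t' := Finset.univ.filter (· ∈ M))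
          (s' := fun m => fixd (img ρ) (Ivl A B) (g * m))
          (fun W m => by simp only [Finset.mem_filter, fixd]; tauto)]
        exact Finset.sum_congr rfl fun m _ => Finset.sum_congr rfl fun W hW => (wt_Ivl ρ hW).symm

end Cfsg.Agent.SteinbergLattice
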