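import Cfsg.Agent.Lib.SteinbergLinearMain
import Cfsg.Agent.Lib.SteinbergDescend

/-!
The Steinberg character of `PSL n F`.
-/

set_option autoImplicit false

namespace Cfsg.Agent.SteinbergLinear

open Matrix Cfsg.Agent.SteinbergEuler Cfsg.Agent.SteinbergLattice Cfsg.Agent.SteinbergLinearMain
open scoped Classical

variable {F : Type*} [Field F] {n : ℕ}

/-- The natural representation. -/
noncomputable def nat (n : ℕ) (F : Type*) [Field F] :
    Matrix.SpecialLinearGroup (Fin n) F →* ((Fin n → F) ≃ₗ[F] (Fin n → F)) :=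
  Matrix.SpecialLinearGroup.toLin'

theorem nat_apply (g : Matrix.SpecialLinearGroup (Fin n) F) (x : Fin n → F) :
    nat n F g x = (g : Matrix (Fin n) (Fin n) F) *ᵥ x := rfl

theorem hasSteinberg [Fintype F] (p : ℕ) [Fact p.Prime] [CharP F p] :
    SteinbergDescend.HasSteinberg p (ProjectiveSpecialLinearGroup (Fin n) F) := by
  have hH : HasTv (nat n F) (⊤ : Subgroup (Matrix.SpecialLinearGroup (Fin n) F)) ⊥ ⊤ := by
    refine ⟨bot_le, fun m _ => img_bot m, fun m _ => map_top _, fun v _ φ hφ _ => ?_⟩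
    have hdot : ∀ y : Fin n → F, (fun i => φ (Pi.single i 1)) ⬝ᵥ y = φ y := fun y => by
      conv_rhs => rw [pi_eq_sum_univ' y, map_sum]
      exact Finset.sum_congr rfl fun i _ => by rw [map_smul, smul_eq_mul, mul_comm]
    refine ⟨⟨1 + vecMulVec v (fun i => φ (Pi.single i 1)), ?_⟩, trivial, fun y _ => ?_⟩
    · rw [vecMulVec_eq (Fin 1), det_one_add_replicateCol_mul_replicateRow, hdot, hφ, add_zero]
    · show (1 + vecMulVec v _) *ᵥ y = _
      rw [add_mulVec, one_mulVec, vecMulVec_mulVec, hdot]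
      simp
  have hf : Faithful (nat n F) p (⊤ : Subgroup (Matrix.SpecialLinearGroup (Fin n) F)) ⊤ := by
    intro h _ _ hne
    by_contra hall
    push Not at hall
    refine hne (Subtype.ext (Matrix.ext_of_mulVec_single fun i => ?_))
    rw [show ((1 : Matrix.SpecialLinearGroup (Fin n) F) : Matrix (Fin n) (Fin n) F) = 1 from rfl, one_mulVec]
    exact hall _ trivial
  have := Fintype.ofFinite (Matrix.SpecialLinearGroup (Fin n) F)
  have huniv : Finset.univ.filter (· ∈ (⊤ : Subgroup (Matrix.SpecialLinearGroup (Fin n) F))) = Finset.univ :=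
    Finset.filter_true_of_mem fun g _ => Subgroup.mem_top g
  obtain ⟨hnorm, hdeg⟩ := norm_deg (ρ := nat n F) (p := p) _ rfl hH hf
  rw [huniv, Finset.card_univ] at hnorm hdeg
  refine SteinbergDescend.hasSteinberg_of_fun (QuotientGroup.mk' _) (QuotientGroup.mk'_surjective _)
    (D (nat n F) ⊥ ⊤) ?_ hnorm (fun z hz => ?_) hdeg
    fun g hg hne => D_eq_zero hH hf (Subgroup.mem_top g) hg hne
  · have h := CharBasicDecomp.isGeneralizedCharacter_sub
      (CharBasicDecomp.isGeneralizedCharacter_of_isCharacter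
        (CharBasicDecomp.isCharacter_one (G := Matrix.SpecialLinearGroup (Fin n) F)))
      (isGeneralizedCharacter_chi (img (nat n F)) (Ivl ⊥ ⊤) fun g x hx => by
        obtain ⟨h1, h2⟩ := mem_Ivl.1 hx
        have h3 := (img (nat n F) g).strictMono h1
        have h4 := (img (nat n F) g).strictMono h2
        rw [(img (nat n F) g).map_bot] at h3
        rw [(img (nat n F) g).map_top] at h4
        exact mem_Ivl.2 ⟨h3, h4⟩)
    convert h using 1
    funext g
    simp [D]
  · obtain ⟨r, -, hr⟩ := Matrix.SpecialLinearGroup.mem_center_iff.1 ((QuotientGroup.eq_one_iff z).1 hz)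
    have hall : ∀ w : Matrix.SpecialLinearGroup (Fin n) F, (∀ v, ∃ c : F, nat n F w v = c • v) →
        fixd (img (nat n F)) (Ivl ⊥ ⊤) w = Ivl ⊥ ⊤ := fun w hw =>
      Finset.filter_true_of_mem fun U _ => img_eq_of_le (nat n F) (fun x hx => by
        obtain ⟨c, hc⟩ := hw x
        rw [hc]; exact U.smul_mem c hx) le_rfl
    rw [D, D, hall z fun v => ⟨r, ?_⟩, hall 1 fun v => ⟨1, by rw [map_one, one_smul]; rfl⟩]
    rw [nat_apply, ← hr, scalar_apply, ← smul_one_eq_diagonal, smul_mulVec, one_mulVec]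

end Cfsg.Agent.SteinbergLinear
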