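import Cfsg.Agent.Lib.SteinbergUnipotent

/-!
The fixed point Euler characteristic of the proper non-zero subspaces of a vector space: norm one,
`p`-part degree, vanishing at non-trivial `p`-elements.
-/

set_option autoImplicit false

namespace Cfsg.Agent.SteinbergLinearMain

open Cfsg.Agent.H74Euler Cfsg.Agent.SteinbergEuler Cfsg.Agent.SteinbergLattice
open Cfsg.Agent.SteinbergPolar (fix_of_line exists_fixed_in sum_card_stab sum_eq_zero_of_coset
  filter_stab not_dvd_card_of_no_pElement card_F_pow)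

open scoped Classical

variable {F V : Type*} [Field F] [AddCommGroup V] [Module F V] [Finite V]
  {G : Type*} [Group G] {ρ : G →* (V ≃ₗ[F] V)} {p : ℕ} {H : Subgroup G} {W : Submodule F V}

omit [Finite V] in
theorem img_bot (g : G) : img ρ g (⊥ : Submodule F V) = ⊥ := (img ρ g).map_bot

theorem D_bot_line {U : Submodule F V} (hU : Module.finrank F U ≤ 1) (g : G) : D ρ ⊥ U g = 1 := by
  have : Module.Finite F V := Module.Finite.of_finite
  have hempty : Ivl ⊥ U = ∅ := Finset.eq_empty_of_forall_notMem fun Z hZ => by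
    obtain ⟨h1, h2⟩ := mem_Ivl.1 hZ
    have := Submodule.finrank_lt_finrank_of_lt h1
    have := Submodule.finrank_lt_finrank_of_lt h2
    omega
  simp [D, fixd, hempty, chi_empty]

/-- The complements of `x` in `W`. -/
noncomputable def Compl (W x : Submodule F V) : Finset (Submodule F V) :=
  Finset.univ.filter fun T => T ≤ W ∧ T ⊓ x = ⊥ ∧ T ⊔ x = W

omit [Finite V] in
theorem mem_Compl [Fintype (Submodule F V)] {x T : Submodule F V} :
    T ∈ (Finset.univ.filter fun T => T ≤ W ∧ T ⊓ x = ⊥ ∧ T ⊔ x = W : Finset _) ↔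
      T ≤ W ∧ T ⊓ x = ⊥ ∧ T ⊔ x = W := by simp

/-- Intervals above complements are intervals in `x`. -/
theorem D_compl {x T : Submodule F V} {g : G} (hT : T ∈ Compl W x) (hxW : x ≤ W)
    (hgx : img ρ g x = x) (hgT : img ρ g T = T) : D ρ T W g = D ρ ⊥ x g := by
  obtain ⟨hTW, hTx, hTW'⟩ := mem_Compl.1 hT
  have h1 : ∀ Z, T ≤ Z → Z ≤ W → T ⊔ Z ⊓ x = Z := fun Z hTZ hZW => by
    rw [inf_comm, ← sup_inf_assoc_of_le x hTZ, hTW', inf_eq_right.2 hZW]
  have h2 : ∀ U, U ≤ x → (T ⊔ U) ⊓ x = U := fun U hU => by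
    rw [sup_comm, sup_inf_assoc_of_le T hU, hTx, sup_bot_eq]
  rw [D, D]
  congr 1
  refine chi_congr _ _ (fun Z => Z ⊓ x) (fun Z hZ => ?_) (fun U hU => ?_) (fun Z hZ Z' hZ' => ?_)
  · simp only [fixd, Finset.mem_filter, mem_Ivl] at hZ ⊢
    obtain ⟨⟨hTZ, hZW⟩, hgZ⟩ := hZ
    have h3 := h1 Z hTZ.le hZW.le
    refine ⟨⟨bot_lt_iff_ne_bot.2 fun h => hTZ.ne ?_, lt_of_le_of_ne inf_le_right fun h => hZW.ne ?_⟩,
      by rw [(img ρ g).map_inf, hgZ, hgx]⟩
    · rwa [h, sup_bot_eq] at h3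
    · rw [h, hTW'] at h3; exact h3.symm
  · simp only [fixd, Finset.mem_filter, mem_Ivl] at hU
    obtain ⟨⟨hU0, hUx⟩, hgU⟩ := hU
    refine ⟨T ⊔ U, ?_, h2 U hUx.le⟩
    simp only [fixd, Finset.mem_filter, mem_Ivl]
    refine ⟨⟨left_lt_sup.2 fun h => hU0.ne' ?_, lt_of_le_of_ne (sup_le hTW (hUx.le.trans hxW))
      fun h => hUx.ne ?_⟩, by rw [(img ρ g).map_sup, hgT, hgU]⟩
    · exact eq_bot_iff.2 (hTx ▸ le_inf h hUx.le)
    · rw [← h2 U hUx.le, h, inf_eq_right.2 hxW]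
  · simp only [fixd, Finset.mem_filter, mem_Ivl] at hZ hZ'
    refine ⟨fun h => ?_, fun h => inf_le_inf_right _ h⟩
    rw [← h1 Z hZ.1.1.le hZ.1.2.le, ← h1 Z' hZ'.1.1.le hZ'.1.2.le]
    exact sup_le_sup_left h _

/-- The identity at a fixed subspace. -/
theorem D_eq {g : G} {x : Submodule F V} (hx0 : x ≠ ⊥) (hxW : x < W) (hgx : img ρ g x = x) :
    D ρ ⊥ W g = -∑ T ∈ fixd (img ρ) (Compl W x) g, D ρ ⊥ x g * D ρ ⊥ T g := by
  set S := fixd (img ρ) (Ivl ⊥ W) g with hS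
  set B := S.filter (fun U => U ⊓ x = ⊥) with hB
  have hO : fixd (img ρ) (Compl W x) g ⊆ B := fun T hT => by
    obtain ⟨hT1, hgT⟩ := Finset.mem_filter.1 hT
    obtain ⟨hTW, hTx, hTW'⟩ := mem_Compl.1 hT1
    refine Finset.mem_filter.2 ⟨Finset.mem_filter.2 ⟨mem_Ivl.2 ⟨bot_lt_iff_ne_bot.2 fun h => ?_,
      lt_of_le_of_ne hTW fun h => hx0 ?_⟩, hgT⟩, hTx⟩
    · rw [h, bot_sup_eq] at hTW'; exact hxW.ne hTW'
    · rwa [h, inf_eq_right.2 hxW.le] at hTx
  have cone : ∀ T : Submodule F V, T ⊓ x = ⊥ → img ρ g T = T → T ⊔ x < W →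
      chi (S.filter fun U => T < U ∧ U ⊓ x ≠ ⊥) = 1 := by
    intro T hTx hgT hlt
    have key : ∀ A, A ≤ x → (T ⊔ A) ⊓ x = A := fun A hA => by
      rw [sup_comm, sup_inf_assoc_of_le T hA, hTx, sup_bot_eq]
    have mk : ∀ A, A ≤ x → A ≠ ⊥ → img ρ g A = A →
        T ⊔ A ∈ S.filter fun U => T < U ∧ U ⊓ x ≠ ⊥ := fun A hA hA0 hgA =>
      Finset.mem_filter.2 ⟨Finset.mem_filter.2 ⟨mem_Ivl.2 ⟨bot_lt_iff_ne_bot.2 fun h =>
          hA0 (eq_bot_iff.2 (le_sup_right.trans h.le)), (sup_le_sup_left hA T).trans_lt hlt⟩,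
        by rw [(img ρ g).map_sup, hgT, hgA]⟩,
        left_lt_sup.2 fun h => hA0 (eq_bot_iff.2 (hTx ▸ le_inf h hA)), by rwa [key A hA]⟩
    refine chi_conical _ (fun U => T ⊔ U ⊓ x) (fun _ => T ⊔ x) (T ⊔ x) (fun U hU => ?_)
      (fun U hU => ?_) (fun U _ U' _ h => sup_le_sup_left (inf_le_inf_right _ h) _)
      (fun U _ => by rw [key _ inf_le_right]) (mk x le_rfl hx0 hgx) (by rw [key x le_rfl])
      (fun U _ hfix => ⟨mk x le_rfl hx0 hgx, by rw [key x le_rfl], ?_, le_rfl⟩)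
      (fun _ _ _ _ _ _ _ => le_rfl)
    · obtain ⟨hUS, -, hUx⟩ := Finset.mem_filter.1 hU
      obtain ⟨-, hgU⟩ := Finset.mem_filter.1 hUS
      exact mk _ inf_le_right hUx (by rw [(img ρ g).map_inf, hgU, hgx])
    · exact sup_le (Finset.mem_filter.1 hU).2.1.le inf_le_left
    · rw [← hfix]; exact sup_le_sup_left inf_le_right _
  rw [D, chi_opposite S B (fixd (img ρ) (Compl W x) g) (Finset.filter_subset _ _) hO
    (fun U hU T hT hUT => Finset.mem_filter.2
      ⟨hU, eq_bot_iff.2 ((Finset.mem_filter.1 hT).2 ▸ inf_le_inf_right _ hUT)⟩) ?_ ?_ ?_]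
  · rw [sub_add_cancel_left]
    congr 1
    refine Finset.sum_congr rfl fun T hT => ?_
    obtain ⟨hT1, hgT⟩ := Finset.mem_filter.1 hT
    obtain ⟨hTW, hTx, -⟩ := mem_Compl.1 hT1
    rw [wt_Ivl ρ (Finset.mem_filter.1 (hO hT)).1, D_compl hT1 hxW.le hgx hgT]
    congr 1
    rw [D]
    congr 2
    ext U
    simp only [hB, hS, fixd, Finset.mem_filter, mem_Ivl]
    exact ⟨fun h => ⟨⟨h.1.1.1.1, h.2⟩, h.1.1.2⟩, fun h => ⟨⟨⟨⟨h.1.1, h.1.2.trans_le hTW⟩, h.2⟩,
      eq_bot_iff.2 (hTx ▸ inf_le_inf_right _ h.1.2.le)⟩, h.1.2⟩⟩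
  · have := cone ⊥ (bot_inf_eq x) (img_bot g) (by rwa [bot_sup_eq])
    rw [← this]
    congr 1
    ext U
    simp only [hB, hS, fixd, Finset.mem_filter, Finset.mem_sdiff, mem_Ivl]
    tauto
  · intro T hT U hU hlt
    obtain ⟨-, -, hTW'⟩ := mem_Compl.1 (Finset.mem_filter.1 hT).1
    obtain ⟨hU1, hUx⟩ := Finset.mem_filter.1 hU
    have hUW : U ≤ W := (mem_Ivl.1 (Finset.mem_filter.1 hU1).1).2.le
    refine hlt.ne (eq_of_le_of_inf_le_of_sup_le hlt.le (z := x) ?_ ?_)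
    · rw [hUx]; exact bot_le
    · rw [hTW']; exact sup_le hUW hxW.le
  · intro T hT hTO
    simp only [hB, hS, fixd, Finset.mem_filter, mem_Ivl] at hT
    obtain ⟨⟨⟨-, hTW⟩, hgT⟩, hTx⟩ := hT
    refine (congrArg chi ?_).trans (cone T hTx hgT (lt_of_le_of_ne (sup_le hTW.le hxW.le) fun h =>
      hTO (Finset.mem_filter.2 ⟨mem_Compl.2 ⟨hTW.le, hTx, h⟩, hgT⟩)))
    ext U
    simp only [hB, hS, fixd, Finset.mem_filter, Finset.mem_sdiff]
    tauto

/-- Extending a functional from one member of a decomposition. -/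
theorem exists_ext (T x : Submodule F V) (h : T ⊓ x = ⊥) (φ : V →ₗ[F] F) :
    ∃ ψ : V →ₗ[F] F, (∀ y ∈ T, ψ y = φ y) ∧ ∀ y ∈ x, ψ y = 0 := by
  obtain ⟨C, hC⟩ := exists_isCompl (T ⊔ x)
  have hd : Disjoint T (x ⊔ C) := by
    rw [disjoint_iff, eq_bot_iff]
    rintro y ⟨hy, hy'⟩
    obtain ⟨a, ha, b, hb, rfl⟩ := Submodule.mem_sup.1 hy'
    have hb' : b ∈ T ⊔ x := by
      have : b = (a + b) - a := (add_sub_cancel_left a b).symm
      rw [this]
      exact Submodule.sub_mem _ (Submodule.mem_sup_left hy) (Submodule.mem_sup_right ha)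
    have hb0 : b = 0 := Submodule.disjoint_def.1 hC.disjoint b hb' hb
    rw [hb0, add_zero] at hy ⊢
    exact h ▸ ⟨hy, ha⟩
  have hc : IsCompl T (x ⊔ C) := ⟨hd, codisjoint_iff.2 (by rw [← sup_assoc, hC.sup_eq_top])⟩
  refine ⟨φ.comp (T.subtype.comp (T.projectionOnto (x ⊔ C) hc)), fun y hy => ?_, fun y hy => ?_⟩
  · have h1 := T.projectionOnto_apply_left hc ⟨y, hy⟩
    rw [LinearMap.comp_apply, LinearMap.comp_apply]
    change φ ↑(T.projectionOnto (x ⊔ C) hc y) = φ y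
    rw [show T.projectionOnto (x ⊔ C) hc y = ⟨y, hy⟩ from h1]
  · rw [LinearMap.comp_apply, LinearMap.comp_apply,
      (Submodule.projectionOnto_apply_eq_zero_iff hc).2 (Submodule.mem_sup_left hy), map_zero,
      map_zero]

omit [Finite V] in
/-- The `p`-elements of `H` act faithfully on `W`. -/
def Faithful (ρ : G →* (V ≃ₗ[F] V)) (p : ℕ) (H : Subgroup G) (W : Submodule F V) : Prop :=
  ∀ h ∈ H, (∃ k : ℕ, h ^ p ^ k = 1) → h ≠ 1 → ∃ y ∈ W, ρ h y ≠ y

/-- Lines of `W`. -/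
noncomputable def Lines (W : Submodule F V) : Finset (Submodule F V) :=
  Finset.univ.filter fun U => U ≤ W ∧ Module.finrank F U = 1

theorem mem_Lines {U : Submodule F V} : U ∈ Lines W ↔ ∃ e ∈ W, e ≠ 0 ∧ U = F ∙ e := by
  simp only [Lines, Finset.mem_filter, Finset.mem_univ, true_and]
  constructor
  · rintro ⟨hUW, hr⟩
    obtain ⟨⟨e, he⟩, he0, hgen⟩ := finrank_eq_one_iff'.1 hr
    refine ⟨e, hUW he, fun h => he0 (Subtype.ext h), le_antisymm (fun y hy => ?_)
      ((Submodule.span_singleton_le_iff_mem _ _).2 he)⟩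
    obtain ⟨c, hc⟩ := hgen ⟨y, hy⟩
    exact Submodule.mem_span_singleton.2 ⟨c, congrArg Subtype.val hc⟩
  · rintro ⟨e, he, he0, rfl⟩
    exact ⟨(Submodule.span_singleton_le_iff_mem _ _).2 he, finrank_span_singleton he0⟩

theorem move_lines (hT : HasTv ρ H ⊥ W) :
    ∀ a ∈ Lines W, ∀ b ∈ Lines W, ∃ m ∈ H, img ρ m a = b := by
  intro a ha b hb
  obtain ⟨e1, h1, h10, rfl⟩ := mem_Lines.1 ha
  obtain ⟨e2, h2, h20, rfl⟩ := mem_Lines.1 hb
  by_cases hsame : e2 ∈ F ∙ e1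
  · refine ⟨1, H.one_mem, ?_⟩
    rw [img_one]
    refine le_antisymm ?_ ((Submodule.span_singleton_le_iff_mem _ _).2 hsame)
    obtain ⟨c, rfl⟩ := Submodule.mem_span_singleton.1 hsame
    have hc : c ≠ 0 := fun h => h20 (by rw [h, zero_smul])
    rw [Submodule.span_singleton_smul_eq (IsUnit.mk0 c hc)]
  have hK : e1 ∉ F ∙ (e2 - e1) := fun h => by
    obtain ⟨c, hc⟩ := Submodule.mem_span_singleton.1 h
    by_cases hc0 : c = 0
    · exact h10 (by rw [← hc, hc0, zero_smul])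
    · refine hsame (Submodule.mem_span_singleton.2 ⟨c⁻¹ * (1 + c), ?_⟩)
      rw [mul_smul, add_smul, one_smul, inv_smul_eq_iff₀ hc0]
      linear_combination (norm := module) -hc
  obtain ⟨φ₀, hφ₀, hφK⟩ := Submodule.exists_dual_map_eq_bot_of_notMem hK inferInstance
  have hker : φ₀ (e2 - e1) = 0 := (Submodule.mem_bot F).1
    (hφK ▸ Submodule.mem_map_of_mem (Submodule.mem_span_singleton_self _))
  obtain ⟨m, hm, hmy⟩ := hT.tv (e2 - e1) (W.sub_mem h2 h1) ((φ₀ e1)⁻¹ • φ₀)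
    (by rw [LinearMap.smul_apply, hker, smul_zero]) bot_le
  refine ⟨m, hm, img_eq_of_le ρ (fun y hy => ?_)
    (by rw [finrank_span_singleton h10, finrank_span_singleton h20])⟩
  obtain ⟨c, rfl⟩ := Submodule.mem_span_singleton.1 hy
  rw [map_smul, hmy e1 h1, LinearMap.smul_apply, smul_eq_mul, inv_mul_cancel₀ hφ₀, one_smul,
    add_sub_cancel]
  exact Submodule.smul_mem _ _ (Submodule.mem_span_singleton_self _)

theorem line_decomp {e : V} {T : Submodule F V} (hT : T ∈ Compl W (F ∙ e)) {y : V} (hy : y ∈ W) :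
    ∃ c : F, y - c • e ∈ T := by
  obtain ⟨-, -, hTW⟩ := mem_Compl.1 hT
  rw [← hTW] at hy
  obtain ⟨t, ht, u, hu, rfl⟩ := Submodule.mem_sup.1 hy
  obtain ⟨c, rfl⟩ := Submodule.mem_span_singleton.1 hu
  exact ⟨c, by rwa [add_sub_cancel_right]⟩

/-- The complements of a line are permuted transitively by its stabilizer. -/
theorem move_compl (hT : HasTv ρ H ⊥ W) {e : V} (he : e ∈ W) (he0 : e ≠ 0) :
    ∀ a ∈ Compl W (F ∙ e), ∀ b ∈ Compl W (F ∙ e),
      ∃ m ∈ H ⊓ stabSub ρ (F ∙ e), img ρ m a = b := by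
  have : Module.Finite F V := Module.Finite.of_finite
  intro a ha b hb
  obtain ⟨haW, hax, haW'⟩ := mem_Compl.1 ha
  obtain ⟨hbW, hbx, hbW'⟩ := mem_Compl.1 hb
  have hec : ∀ c d : F, c • e - d • e ∈ b → c = d := fun c d h => by
    have h2 : (c - d) • e ∈ b ⊓ F ∙ e :=
      ⟨by rw [sub_smul]; exact h, Submodule.smul_mem _ _ (Submodule.mem_span_singleton_self e)⟩
    rw [hbx, Submodule.mem_bot] at h2
    exact sub_eq_zero.1 ((smul_eq_zero.1 h2).resolve_right he0)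
  have hcoef : ∀ y : a, ∃ c : F, (y : V) + c • e ∈ b := fun y => by
    obtain ⟨c, hc⟩ := line_decomp hb (haW y.2)
    exact ⟨-c, by rwa [neg_smul, ← sub_eq_add_neg]⟩
  choose c hc using hcoef
  let cl : a →ₗ[F] F :=
    { toFun := c
      map_add' := fun y z => hec _ _ (by
        have := b.sub_mem (hc (y + z)) (b.add_mem (hc y) (hc z))
        rwa [Submodule.coe_add, show (y : V) + z + c (y + z) • e - ((y : V) + c y • e + ((z : V) + c z • e))
          = c (y + z) • e - (c y + c z) • e by module] at this)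
      map_smul' := fun r y => hec _ _ (by
        have := b.sub_mem (hc (r • y)) (b.smul_mem r (hc y))
        rwa [Submodule.coe_smul, show r • (y : V) + c (r • y) • e - r • ((y : V) + c y • e)
          = c (r • y) • e - (r * c y) • e by module] at this) }
  obtain ⟨ψ₀, hψ₀⟩ := cl.exists_extend
  obtain ⟨ψ, hψa, hψx⟩ := exists_ext a (F ∙ e) hax ψ₀
  obtain ⟨m, hm, hmy⟩ := hT.tv e he ψ (hψx e (Submodule.mem_span_singleton_self e)) bot_le
  refine ⟨m, ⟨hm, img_eq_of_le ρ (fun y hy => ?_) le_rfl⟩, img_eq_of_le ρ (fun y hy => ?_) ?_⟩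
  · obtain ⟨d, rfl⟩ := Submodule.mem_span_singleton.1 hy
    rw [map_smul, hmy e he, hψx e (Submodule.mem_span_singleton_self e), zero_smul, add_zero]
    exact hy
  · rw [hmy y (haW hy), hψa y hy]
    have := LinearMap.congr_fun hψ₀ ⟨y, hy⟩
    simp only [LinearMap.comp_apply, Submodule.coe_subtype] at this
    rw [this]
    exact hc ⟨y, hy⟩
  · have h1 := Submodule.finrank_sup_add_finrank_inf_eq a (F ∙ e)
    have h2 := Submodule.finrank_sup_add_finrank_inf_eq b (F ∙ e)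
    rw [haW', hax, finrank_bot] at h1
    rw [hbW', hbx, finrank_bot] at h2
    omega

theorem exists_compl {x : Submodule F V} (hxW : x ≤ W) : ∃ T, T ∈ Compl W x := by
  obtain ⟨C, hC⟩ := exists_isCompl x
  refine ⟨C ⊓ W, mem_Compl.2 ⟨inf_le_right, ?_, ?_⟩⟩
  · exact eq_bot_iff.2 (fun y hy => Submodule.disjoint_def.1 hC.disjoint y hy.2 hy.1.1)
  · rw [sup_comm, ← sup_inf_assoc_of_le C hxW, hC.sup_eq_top, top_inf_eq]

theorem img_compl {x T : Submodule F V} {h : G} (hW : img ρ h W = W) (hx : img ρ h x = x)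
    (hT : T ∈ Compl W x) : img ρ h T ∈ Compl W x := by
  obtain ⟨h1, h2, h3⟩ := mem_Compl.1 hT
  refine mem_Compl.2 ⟨hW ▸ (img ρ h).monotone h1, ?_, ?_⟩
  · rw [← hx, ← (img ρ h).map_inf, h2, img_bot]
  · rw [← hx, ← (img ρ h).map_sup, h3, hW]

/-- Passing to a complement of a line. -/
theorem descend [CharP F p] [Fact p.Prime] (hH : HasTv ρ H ⊥ W) (hf : Faithful ρ p H W) {e : V}
    (he : e ∈ W) (he0 : e ≠ 0) {T : Submodule F V} (hT : T ∈ Compl W (F ∙ e)) :
    HasTv ρ (H ⊓ stabSub ρ (F ∙ e) ⊓ stabSub ρ T) ⊥ T ∧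
      Faithful ρ p (H ⊓ stabSub ρ (F ∙ e) ⊓ stabSub ρ T) T := by
  obtain ⟨hTW, hTx, -⟩ := mem_Compl.1 hT
  refine ⟨⟨bot_le, fun m _ => img_bot m, fun m hm => hm.2, fun v hv φ hφ _ => ?_⟩,
    fun h hh hp hne => ?_⟩
  · obtain ⟨ψ, hψT, hψx⟩ := exists_ext T (F ∙ e) hTx φ
    obtain ⟨m, hm, hmy⟩ := hH.tv v (hTW hv) ψ (by rw [hψT v hv, hφ]) bot_le
    have key : ∀ y ∈ T, ρ m y = y + φ y • v := fun y hy => by rw [hmy y (hTW hy), hψT y hy]
    refine ⟨m, ⟨⟨hm, img_eq_of_le ρ (fun y hy => ?_) le_rfl⟩,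
      img_eq_of_le ρ (fun y hy => ?_) le_rfl⟩, key⟩
    · obtain ⟨d, rfl⟩ := Submodule.mem_span_singleton.1 hy
      rw [map_smul, hmy e he, hψx e (Submodule.mem_span_singleton_self e), zero_smul, add_zero]
      exact hy
    · rw [key y hy]; exact T.add_mem hy (T.smul_mem _ hv)
  · obtain ⟨k, hk⟩ := hp
    have hE := fix_of_line (ρ := ρ) hk he0 hh.1.2
    obtain ⟨y, hy, hyne⟩ := hf h hh.1.1 ⟨k, hk⟩ hne
    obtain ⟨c, hc⟩ := line_decomp hT hy
    refine ⟨_, hc, fun heq => hyne ?_⟩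
    rwa [map_sub, map_smul, hE, sub_left_inj] at heq

section Main

variable [Fintype G] [Finite F] [CharP F p] [Fact p.Prime]

omit [CharP F p] [Fact p.Prime] in
theorem card_lines (W : Submodule F V) :
    Nat.card F ^ Module.finrank F W = (Lines W).card * (Nat.card F - 1) + 1 := by
  have := Fintype.ofFinite V
  rw [← Module.natCard_eq_pow_finrank (K := F), Nat.card_eq_fintype_card, Fintype.card_subtype,
    ← Finset.card_erase_add_one (Finset.mem_filter.2 ⟨Finset.mem_univ _, W.zero_mem⟩),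
    Finset.card_eq_sum_card_fiberwise (f := fun v => F ∙ v) (t := Lines W) fun v hv => ?_]
  · congr 1
    rw [Finset.sum_const_nat]
    intro U hU
    obtain ⟨u, hu, hu0, rfl⟩ := mem_Lines.1 hU
    have hset : ((Finset.univ.filter (· ∈ W)).erase 0).filter (fun v => F ∙ v = F ∙ u) =
        (Finset.univ.filter (· ∈ F ∙ u)).erase 0 := by
      ext v
      simp only [Finset.mem_filter, Finset.mem_erase, Finset.mem_univ, true_and]
      refine ⟨fun h => ⟨h.1.1, h.2 ▸ Submodule.mem_span_singleton_self v⟩, fun h => ?_⟩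
      obtain ⟨c, rfl⟩ := Submodule.mem_span_singleton.1 h.2
      exact ⟨⟨h.1, W.smul_mem _ hu⟩,
        Submodule.span_singleton_smul_eq (IsUnit.mk0 c fun h0 => h.1 (by rw [h0, zero_smul])) u⟩
    rw [hset, Finset.card_erase_of_mem (Finset.mem_filter.2 ⟨Finset.mem_univ _, zero_mem _⟩),
      ← Fintype.card_subtype, ← Nat.card_eq_fintype_card, Module.natCard_eq_pow_finrank (K := F),
      finrank_span_singleton hu0, pow_one]
  · obtain ⟨hv0, hv'⟩ := Finset.mem_erase.1 hv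
    exact mem_Lines.2 ⟨v, (Finset.mem_filter.1 hv').2, hv0, rfl⟩

theorem card_compl {e : V} (he : e ∈ W) (he0 : e ≠ 0) :
    ∃ j : ℕ, (Compl W (F ∙ e)).card = p ^ j := by
  have : Module.Finite F V := Module.Finite.of_finite
  obtain ⟨n, -, hn⟩ := card_F_pow (F := F) (p := p)
  obtain ⟨T₀, hT₀⟩ := exists_compl ((Submodule.span_singleton_le_iff_mem _ _).2 he :
    F ∙ e ≤ W)
  obtain ⟨hTW, hTx, -⟩ := mem_Compl.1 hT₀
  let Ψ : (T₀ →ₗ[F] F) → Submodule F V := fun c => LinearMap.range (T₀.subtype + c.smulRight e)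
  have hΨ : ∀ c, Ψ c ∈ Compl W (F ∙ e) := fun c => by
    refine mem_Compl.2 ⟨?_, eq_bot_iff.2 ?_, le_antisymm (sup_le ?_ ?_) fun y hy => ?_⟩
    · rintro _ ⟨t, rfl⟩; exact W.add_mem (hTW t.2) (W.smul_mem _ he)
    · rintro _ ⟨⟨t, rfl⟩, hx⟩
      have h1 : (t : V) ∈ T₀ ⊓ F ∙ e := by
        refine ⟨t.2, ?_⟩
        have h2 := Submodule.sub_mem _ hx (Submodule.smul_mem _ (c t) (Submodule.mem_span_singleton_self e))
        simpa using h2
      rw [hTx, Submodule.mem_bot] at h1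
      simp [Subtype.ext h1 (a2 := (0 : T₀))]
    · rintro _ ⟨t, rfl⟩; exact W.add_mem (hTW t.2) (W.smul_mem _ he)
    · exact (Submodule.span_singleton_le_iff_mem _ _).2 he
    · obtain ⟨d, hd⟩ := line_decomp hT₀ hy
      refine Submodule.mem_sup.2 ⟨_, LinearMap.mem_range_self _ ⟨_, hd⟩, _,
        Submodule.smul_mem _ (d - c ⟨_, hd⟩) (Submodule.mem_span_singleton_self e), ?_⟩
      simp only [LinearMap.add_apply, Submodule.coe_subtype, LinearMap.smulRight_apply]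
      module
  refine ⟨n * Module.finrank F (T₀ →ₗ[F] F), ?_⟩
  rw [pow_mul, ← hn, ← Module.natCard_eq_pow_finrank (K := F), ← Nat.card_eq_finsetCard]
  refine (Nat.card_eq_of_bijective (fun c => (⟨Ψ c, hΨ c⟩ : Compl W (F ∙ e))) ⟨fun c d h => ?_,
    ?_⟩).symm
  · have h' : Ψ c = Ψ d := congrArg Subtype.val h
    refine LinearMap.ext fun t => ?_
    obtain ⟨s, hs⟩ : (t : V) + c t • e ∈ Ψ d := h' ▸ ⟨t, rfl⟩
    simp only [LinearMap.add_apply, Submodule.coe_subtype, LinearMap.smulRight_apply] at hs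
    have h1 : (s : V) - t ∈ T₀ ⊓ F ∙ e := ⟨T₀.sub_mem s.2 t.2, Submodule.mem_span_singleton.2
      ⟨c t - d s, by linear_combination (norm := module) -hs⟩⟩
    rw [hTx, Submodule.mem_bot, sub_eq_zero] at h1
    rw [Subtype.ext h1, add_right_inj] at hs
    exact (smul_left_injective F he0 hs).symm
  · rintro ⟨T, hT⟩
    obtain ⟨-, hTx', -⟩ := mem_Compl.1 hT
    have hec : ∀ a b : F, a • e - b • e ∈ T → a = b := fun a b h => by
      have h2 : (a - b) • e ∈ T ⊓ F ∙ e :=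
        ⟨by rw [sub_smul]; exact h, Submodule.smul_mem _ _ (Submodule.mem_span_singleton_self e)⟩
      rw [hTx', Submodule.mem_bot] at h2
      exact sub_eq_zero.1 ((smul_eq_zero.1 h2).resolve_right he0)
    have hcoef : ∀ t : T₀, ∃ c : F, (t : V) + c • e ∈ T := fun t => by
      obtain ⟨c, hc⟩ := line_decomp hT (hTW t.2)
      exact ⟨-c, by rwa [neg_smul, ← sub_eq_add_neg]⟩
    choose c hc using hcoef
    let cl : T₀ →ₗ[F] F :=
      { toFun := c
        map_add' := fun y z => hec _ _ (by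
          have := T.sub_mem (hc (y + z)) (T.add_mem (hc y) (hc z))
          rwa [Submodule.coe_add, show (y : V) + z + c (y + z) • e -
            ((y : V) + c y • e + ((z : V) + c z • e)) = c (y + z) • e - (c y + c z) • e by module] at this)
        map_smul' := fun r y => hec _ _ (by
          have := T.sub_mem (hc (r • y)) (T.smul_mem r (hc y))
          rwa [Submodule.coe_smul, show r • (y : V) + c (r • y) • e - r • ((y : V) + c y • e)
            = c (r • y) • e - (r * c y) • e by module] at this) }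
    refine ⟨cl, Subtype.ext (le_antisymm ?_ fun y hy => ?_)⟩
    · rintro _ ⟨t, rfl⟩; exact hc t
    · obtain ⟨d, hd⟩ := line_decomp hT₀ ((mem_Compl.1 hT).1 hy)
      refine ⟨⟨_, hd⟩, ?_⟩
      simp only [LinearMap.add_apply, Submodule.coe_subtype, LinearMap.smulRight_apply]
      have h3 := T.sub_mem (hc ⟨_, hd⟩) hy
      rw [show y - d • e + c ⟨_, hd⟩ • e - y = c ⟨_, hd⟩ • e - d • e by module] at h3
      rw [show cl ⟨_, hd⟩ = c ⟨_, hd⟩ from rfl, hec _ _ h3]
      module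

/-- The contribution of the subspaces of dimension at least two. -/
theorem sum_D_ge_two (hH : HasTv ρ H ⊥ W) {x : Submodule F V} (hx : x ∈ Ivl ⊥ W)
    (h2 : 2 ≤ Module.finrank F x) :
    ∑ g ∈ Finset.univ.filter (· ∈ H ⊓ stabSub ρ x), D ρ ⊥ W g * D ρ x W g = 0 := by
  have : Module.Finite F V := Module.Finite.of_finite
  obtain ⟨hx0, hxW⟩ := mem_Ivl.1 hx
  let M : Subgroup G :=
    { carrier := {m | img ρ m x = x ∧ ∀ y ∈ W, ρ m y - y ∈ x}
      one_mem' := ⟨img_one ρ x, fun y _ => by simp⟩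
      mul_mem' := by
        rintro m m' ⟨h1, h2⟩ ⟨h1', h2'⟩
        refine ⟨by rw [img_mul, h1', h1], fun y hy => ?_⟩
        have e : ρ (m * m') y - y = (ρ m y - y) + ρ m (ρ m' y - y) := by
          rw [map_mul, LinearEquiv.mul_apply, map_sub]; abel
        rw [e]
        exact x.add_mem (h2 y hy) (h1 ▸ apply_mem_img ρ (h2' y hy))
      inv_mem' := by
        rintro m ⟨h1, h2⟩
        refine ⟨img_inv_of ρ m h1, fun y hy => ?_⟩
        have e : ρ m⁻¹ y - y = ρ m⁻¹ (-(ρ m y - y)) := by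
          rw [neg_sub, map_sub, ← LinearEquiv.mul_apply, ← map_mul, inv_mul_cancel, map_one]; rfl
        rw [e]
        exact img_inv_of ρ m h1 ▸ apply_mem_img ρ (x.neg_mem (h2 y hy)) }
  have htriv : ∀ m ∈ H ⊓ M, ∀ Z, x ≤ Z → Z ≤ W → img ρ m Z = Z := fun m hm Z hxZ hZW =>
    img_eq_of_le ρ (fun y hy => by
      have := Z.add_mem hy (hxZ (hm.2.2 y (hZW hy)))
      rwa [add_sub_cancel] at this) le_rfl
  have hup : ∀ m ∈ H ⊓ M, ∀ g, D ρ x W (g * m) = D ρ x W g := fun m hm g => by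
    rw [D, D]
    congr 2
    ext Z
    simp only [fixd, Finset.mem_filter, img_mul, mem_Ivl]
    exact ⟨fun h => ⟨h.1, by simpa only [htriv m hm Z h.1.1.le h.1.2.le] using h.2⟩,
      fun h => ⟨h.1, by rw [htriv m hm Z h.1.1.le h.1.2.le]; exact h.2⟩⟩
  have hDT : ∀ {g T}, T ∈ Compl W x → img ρ g x = x → img ρ g T = T → img ρ g W = W →
      D ρ ⊥ T g = D ρ x W g := fun {g T} hT hgx hgT _ => by
    obtain ⟨hTW, hTx, hTW'⟩ := mem_Compl.1 hT
    have hx' : x ∈ Compl W T :=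
      mem_Compl.2 ⟨hxW.le, by rw [inf_comm]; exact hTx, by rw [sup_comm]; exact hTW'⟩
    exact (D_compl hx' hTW hgT hgx).symm
  refine sum_eq_zero_of_coset (H ⊓ M) (H ⊓ stabSub ρ x) (fun m hm => ⟨hm.1, hm.2.1⟩) _ fun g hg => ?_
  have e1 : ∀ m ∈ Finset.univ.filter (· ∈ H ⊓ M), D ρ ⊥ W (g * m) * D ρ x W (g * m) =
      -(D ρ x W g * D ρ x W g) *
        ∑ T ∈ fixd (img ρ) (Compl W x) (g * m), D ρ ⊥ x (g * m) := by
    intro m hm
    have hm' := (Finset.mem_filter.1 hm).2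
    have hgm : img ρ (g * m) x = x := by rw [img_mul, hm'.2.1]; exact hg.2
    have hgW : img ρ (g * m) W = W := hH.fix_right _ (H.mul_mem hg.1 hm'.1)
    rw [D_eq (bot_lt_iff_ne_bot.1 hx0) hxW hgm, ← hup m hm' g, neg_mul, neg_mul, Finset.sum_mul,
      Finset.mul_sum]
    congr 1
    refine Finset.sum_congr rfl fun T hT => ?_
    rw [hDT (Finset.mem_filter.1 hT).1 hgm (Finset.mem_filter.1 hT).2 hgW]
    ring
  rw [Finset.sum_congr rfl e1, ← Finset.mul_sum,
    Finset.sum_comm' (t' := Compl W x) (s' := fun T =>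
      (Finset.univ.filter (· ∈ H ⊓ M)).filter fun m => img ρ (g * m) T = T)
      (fun m T => by simp only [Finset.mem_filter, fixd]; tauto)]
  refine mul_eq_zero_of_right _ (Finset.sum_eq_zero fun T hT => ?_)
  by_cases hne : ∃ m₀ ∈ H ⊓ M, img ρ (g * m₀) T = T
  · obtain ⟨m₀, hm₀, hfix⟩ := hne
    obtain ⟨hTW, hTx, -⟩ := mem_Compl.1 hT
    have htv : HasTv ρ (H ⊓ M ⊓ stabSub ρ T) ⊥ x := by
      refine ⟨bot_le, fun m _ => img_bot m, fun m hm => hm.1.2.1, fun v hv φ hφ _ => ?_⟩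
      obtain ⟨ψ, hψx, hψT⟩ := exists_ext x T (by rw [inf_comm]; exact hTx) φ
      obtain ⟨m, hm, hmy⟩ := hH.tv v (hxW.le hv) ψ (by rw [hψx v hv, hφ]) bot_le
      have key : ∀ y ∈ x, ρ m y = y + φ y • v := fun y hy => by rw [hmy y (hxW.le hy), hψx y hy]
      refine ⟨m, ⟨⟨hm, img_eq_of_le ρ (fun y hy => ?_) le_rfl, fun y hy => ?_⟩,
        img_eq_of_le ρ (fun y hy => ?_) le_rfl⟩, key⟩
      · rw [key y hy]; exact x.add_mem hy (x.smul_mem _ hv)
      · rw [hmy y hy, add_sub_cancel_left]; exact x.smul_mem _ hv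
      · rw [hmy y (hTW hy), hψT y hy, zero_smul, add_zero]; exact hy
    rw [← avg_D ρ (Module.finrank F x) _ ⊥ x (g * m₀) htv (img_bot _)
      (by rw [img_mul, hm₀.2.1]; exact hg.2) (by rw [finrank_bot, zero_add]) h2]
    refine Finset.sum_bij' (fun m _ => m₀⁻¹ * m) (fun m _ => m₀ * m) ?_ ?_
      (fun m _ => mul_inv_cancel_left _ _) (fun m _ => inv_mul_cancel_left _ _)
      (fun m _ => by rw [mul_assoc, mul_inv_cancel_left])
    · intro m hm
      obtain ⟨hm1, hm2⟩ := Finset.mem_filter.1 hm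
      refine Finset.mem_filter.2 ⟨Finset.mem_univ _,
        Subgroup.mul_mem _ (Subgroup.inv_mem _ hm₀) (Finset.mem_filter.1 hm1).2, ?_⟩
      show img ρ (m₀⁻¹ * m) T = T
      rw [show m₀⁻¹ * m = (g * m₀)⁻¹ * (g * m) by group, img_mul, hm2]
      exact img_inv_of ρ _ hfix
    · intro m hm
      obtain ⟨-, hm1, hm2⟩ := Finset.mem_filter.1 hm
      refine Finset.mem_filter.2
        ⟨Finset.mem_filter.2 ⟨Finset.mem_univ _, Subgroup.mul_mem _ hm₀ hm1⟩, ?_⟩
      rw [← mul_assoc, img_mul, show img ρ m T = T from hm2, hfix]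
  · refine Finset.sum_eq_zero fun m hm => absurd ?_ hne
    simp only [Finset.mem_filter, Finset.mem_univ, true_and] at hm
    exact ⟨m, hm.1, hm.2⟩

/-- Norm one and degree a `p`-part. -/
theorem norm_deg : ∀ (n : ℕ) {H : Subgroup G} {W : Submodule F V}, Module.finrank F W = n →
    HasTv ρ H ⊥ W → Faithful ρ p H W →
    ∑ g ∈ Finset.univ.filter (· ∈ H), D ρ ⊥ W g * D ρ ⊥ W g =
        ((Finset.univ.filter (· ∈ H)).card : ℤ) ∧
      ∃ k r : ℕ, (D ρ ⊥ W 1).natAbs = p ^ k ∧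
        (Finset.univ.filter (· ∈ H)).card = p ^ k * r ∧ ¬ p ∣ r := by
  have hfin : Module.Finite F V := Module.Finite.of_finite
  intro n
  induction n using Nat.strong_induction_on with
  | _ n ih =>
  intro H W hn hH hf
  by_cases hn2 : n < 2
  · have hD : ∀ g : G, D ρ ⊥ W g = 1 := D_bot_line (by omega)
    refine ⟨by simp [hD], 0, _, by simp [hD], (one_mul _).symm, ?_⟩
    refine not_dvd_card_of_no_pElement fun h hh hp => by_contra fun hne => ?_
    obtain ⟨y, hy, hyne⟩ := hf h hh hp hne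
    have hy0 : y ≠ 0 := fun h0 => hyne (by rw [h0, map_zero])
    have hspan : F ∙ y = W := Submodule.eq_of_le_of_finrank_le
      ((Submodule.span_singleton_le_iff_mem _ _).2 hy) (by rw [finrank_span_singleton hy0]; omega)
    obtain ⟨k, hk⟩ := hp
    exact hyne (fix_of_line (ρ := ρ) hk hy0 (by rw [hspan]; exact hH.fix_right h hh))
  obtain ⟨e, he, he0⟩ := W.exists_mem_ne_zero_of_ne_bot fun h => by
    rw [h, finrank_bot] at hn; omega
  have hlin : F ∙ e ∈ Lines W := mem_Lines.2 ⟨e, he, he0, rfl⟩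
  have hlines := sum_card_stab (img ρ) H (Lines W) (fun m hm a ha => by
      obtain ⟨-, h1, h2⟩ := Finset.mem_filter.1 ha
      exact Finset.mem_filter.2 ⟨Finset.mem_univ _, hH.fix_right m hm ▸ (img ρ m).monotone h1,
        by rw [finrank_img, h2]⟩) hlin (move_lines hH)
  have hmem : ∀ {U}, U ∈ Lines W → U ∈ Ivl ⊥ W := fun {U} hU => by
    obtain ⟨-, h1, h2⟩ := Finset.mem_filter.1 hU
    exact mem_Ivl.2 ⟨bot_lt_iff_ne_bot.2 fun h => by rw [h, finrank_bot] at h2; omega,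
      lt_of_le_of_ne h1 fun h => by rw [h] at h2; omega⟩
  have hstep : ∀ {e T}, e ≠ 0 → T ∈ Compl W (F ∙ e) → Module.finrank F T < n := fun {e T} he0' hT => by
    obtain ⟨-, h1, h2⟩ := mem_Compl.1 hT
    have h3 := Submodule.finrank_sup_add_finrank_inf_eq T (F ∙ e)
    rw [h1, h2, finrank_bot, finrank_span_singleton he0'] at h3
    omega
  have hline : ∀ {e g}, e ∈ W → e ≠ 0 → img ρ g (F ∙ e) = F ∙ e →
      D ρ ⊥ W g = -∑ T ∈ fixd (img ρ) (Compl W (F ∙ e)) g, D ρ ⊥ T g := fun {e g} he' he0' hge => by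
    rw [D_eq (Submodule.span_singleton_eq_bot.not.2 he0')
      (mem_Ivl.1 (hmem (mem_Lines.2 ⟨e, he', he0', rfl⟩))).2 hge]
    congr 1
    refine Finset.sum_congr rfl fun T _ => ?_
    rw [D_bot_line (finrank_span_singleton he0').le, one_mul]
  refine ⟨?_, ?_⟩
  · have e1 : ∀ g ∈ Finset.univ.filter (· ∈ H), D ρ ⊥ W g * D ρ ⊥ W g =
        D ρ ⊥ W g - ∑ x ∈ fixd (img ρ) (Ivl ⊥ W) g, D ρ ⊥ W g * D ρ x W g := fun g _ => by
      rw [← Finset.mul_sum, ← Finset.sum_congr rfl fun x hx => wt_Ivl ρ hx, ← chi_eq]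
      conv_lhs => arg 2; rw [D]
      ring
    have hzero : ∑ g ∈ Finset.univ.filter (· ∈ H), D ρ ⊥ W g = 0 := by
      have := avg_D ρ (Module.finrank F W) H ⊥ W 1 hH (img_bot 1) (img_one ρ W)
        (by rw [finrank_bot, zero_add]) (by omega)
      simpa using this
    rw [Finset.sum_congr rfl e1, Finset.sum_sub_distrib, hzero, zero_sub,
      Finset.sum_comm' (t' := Ivl ⊥ W)
        (s' := fun x => Finset.univ.filter fun g => g ∈ H ∧ img ρ g x = x)
        (fun g x => by simp only [Finset.mem_filter, fixd, Finset.mem_univ, true_and]; tauto),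
      ← Finset.sum_neg_distrib, hlines.1, Nat.cast_sum,
      ← Finset.sum_subset (fun U hU => hmem hU) fun x hx hxl => ?_]
    · refine Finset.sum_congr rfl fun x hx => ?_
      obtain ⟨a, ha, ha0, rfl⟩ := mem_Lines.1 hx
      obtain ⟨T₀, hT₀⟩ := exists_compl (W := W) ((Submodule.span_singleton_le_iff_mem _ _).2 ha :
        F ∙ a ≤ W)
      have hopp := sum_card_stab (img ρ) (H ⊓ stabSub ρ (F ∙ a)) (Compl W (F ∙ a))
        (fun m hm T hT => img_compl (hH.fix_right m hm.1) hm.2 hT) hT₀ (move_compl hH ha ha0)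
      have e2 : ∀ g ∈ Finset.univ.filter (fun g => g ∈ H ∧ img ρ g (F ∙ a) = F ∙ a),
          D ρ ⊥ W g * D ρ (F ∙ a) W g =
            -∑ T ∈ fixd (img ρ) (Compl W (F ∙ a)) g, D ρ ⊥ T g * D ρ ⊥ T g := fun g hg => by
        obtain ⟨-, hgH, hga⟩ := Finset.mem_filter.1 hg
        rw [hline ha ha0 hga, neg_mul, Finset.sum_mul]
        congr 1
        refine Finset.sum_congr rfl fun T hT => ?_
        obtain ⟨hT1, hgT⟩ := Finset.mem_filter.1 hT
        obtain ⟨hTW, hTx, hTW'⟩ := mem_Compl.1 hT1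
        rw [D_compl (W := W) (x := T) (T := F ∙ a)
          (mem_Compl.2 ⟨(Submodule.span_singleton_le_iff_mem _ _).2 ha, by rw [inf_comm]; exact hTx,
            by rw [sup_comm]; exact hTW'⟩) hTW hgT hga]
      rw [Finset.sum_congr rfl e2, Finset.sum_neg_distrib, neg_neg,
        Finset.sum_comm' (t' := Compl W (F ∙ a)) (s' := fun T =>
          Finset.univ.filter fun g => g ∈ H ⊓ stabSub ρ (F ∙ a) ∧ img ρ g T = T)
          (fun g T => by
            simp only [Finset.mem_filter, fixd, Finset.mem_univ, true_and, Subgroup.mem_inf,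
              mem_stabSub]
            tauto)]
      erw [filter_stab (ρ := ρ) H (F ∙ a), hopp.1, Nat.cast_sum]
      refine Finset.sum_congr rfl fun T hT => ?_
      rw [filter_stab (ρ := ρ) (H ⊓ stabSub ρ (F ∙ a)) T]
      erw [filter_stab (ρ := ρ) (H ⊓ stabSub ρ (F ∙ a)) T]
      obtain ⟨hH', hf'⟩ := descend hH hf ha ha0 hT
      exact (ih _ (hstep ha0 hT) rfl hH' hf').1
    · have h2 : 2 ≤ Module.finrank F x := by
        have h1 := Submodule.finrank_eq_zero.not.2 (bot_lt_iff_ne_bot.1 (mem_Ivl.1 hx).1)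
        have : Module.finrank F x ≠ 1 := fun h =>
          hxl (Finset.mem_filter.2 ⟨Finset.mem_univ _, (mem_Ivl.1 hx).2.le, h⟩)
        omega
      rw [neg_eq_zero, ← sum_D_ge_two hH hx h2]
      exact Finset.sum_congr (Finset.filter_congr fun g _ => Iff.rfl) fun _ _ => rfl
  · obtain ⟨T, hT⟩ := exists_compl (W := W) ((Submodule.span_singleton_le_iff_mem _ _).2 he :
      F ∙ e ≤ W)
    obtain ⟨hH', hf'⟩ := descend hH hf he he0 hT
    obtain ⟨-, k, r, hk, hr, hpr⟩ := ih _ (hstep he0 hT) rfl hH' hf'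
    obtain ⟨j, hj⟩ := card_compl (p := p) he he0
    have hopp := sum_card_stab (img ρ) (H ⊓ stabSub ρ (F ∙ e)) (Compl W (F ∙ e))
      (fun m hm U hU => img_compl (hH.fix_right m hm.1) hm.2 hU) hT (move_compl hH he he0)
    refine ⟨j + k, (Lines W).card * r, ?_, ?_, ?_⟩
    · have hall : fixd (img ρ) (Compl W (F ∙ e)) 1 = Compl W (F ∙ e) :=
        Finset.filter_true_of_mem fun U _ => img_one ρ U
      have hconst : ∀ U ∈ Compl W (F ∙ e), D ρ ⊥ U 1 = D ρ ⊥ T 1 := fun U hU => by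
        obtain ⟨m, hm, hmU⟩ := move_compl hH he he0 T hT U hU
        rw [D, D]
        congr 1
        refine (chi_congr _ _ (img ρ m) (fun Z hZ => ?_) (fun Z hZ => ?_)
          (fun Z _ Z' _ => (img ρ m).le_iff_le)).symm
        · simp only [fixd, Finset.mem_filter, mem_Ivl, img_one, and_true] at hZ ⊢
          exact ⟨by rw [← img_bot (ρ := ρ) m]; exact (img ρ m).strictMono hZ.1,
            hmU ▸ (img ρ m).strictMono hZ.2⟩
        · simp only [fixd, Finset.mem_filter, mem_Ivl, img_one, and_true] at hZ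
          refine ⟨(img ρ m).symm Z, ?_, (img ρ m).apply_symm_apply Z⟩
          simp only [fixd, Finset.mem_filter, mem_Ivl, img_one, and_true]
          refine ⟨?_, ?_⟩
          · rw [OrderIso.lt_symm_apply, (img ρ m).map_bot]; exact hZ.1
          · rw [OrderIso.symm_apply_lt, hmU]; exact hZ.2
      rw [hline he he0 (img_one ρ _), hall, Finset.sum_congr rfl hconst, Finset.sum_const,
        nsmul_eq_mul, Int.natAbs_neg, Int.natAbs_mul, Int.natAbs_natCast, hk, hj, pow_add]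
    · erw [hlines.2, filter_stab (ρ := ρ) H (F ∙ e), hopp.2,
        filter_stab (ρ := ρ) (H ⊓ stabSub ρ (F ∙ e)) T, hr, hj, pow_add]
      ring
    · intro h
      refine ((Fact.out : p.Prime).dvd_mul.1 h).elim (fun hl => ?_) hpr
      have h1 := card_lines (F := F) W
      obtain ⟨s, hs0, hs⟩ := card_F_pow (F := F) (p := p)
      have h2 : p ∣ Nat.card F ^ Module.finrank F W := by
        rw [hs, ← pow_mul]
        exact dvd_pow_self p (Nat.mul_ne_zero hs0.ne' (by omega))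
      rw [h1] at h2
      exact Nat.Prime.not_dvd_one Fact.out ((Nat.dvd_add_right (hl.mul_right _)).1 h2)

end Main

/-- The function vanishes at non-trivial `p`-elements. -/
theorem D_eq_zero [CharP F p] [Fact p.Prime] (hH : HasTv ρ H ⊥ W) (hf : Faithful ρ p H W) {g : G}
    (hg : g ∈ H) (hp : ∃ k : ℕ, g ^ p ^ k = 1) (hne : g ≠ 1) : D ρ ⊥ W g = 0 := by
  obtain ⟨y, hy, hyne⟩ := hf g hg hp hne
  obtain ⟨k, hk⟩ := hp
  let K : Submodule F V :=
    { carrier := {y | ρ g y = y}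
      zero_mem' := map_zero _
      add_mem' := fun {a b} ha hb => by
        show ρ g (a + b) = a + b
        rw [map_add, show ρ g a = a from ha, show ρ g b = b from hb]
      smul_mem' := fun c a ha => by
        show ρ g (c • a) = c • a
        rw [map_smul, show ρ g a = a from ha] }
  have hfixK : ∀ U : Submodule F V, U ≤ K → img ρ g U = U := fun U hU =>
    le_antisymm (fun y hy => by
      obtain ⟨x, hx, rfl⟩ := (mem_img ρ).1 hy
      rwa [show ρ g x = x from hU hx])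
      (fun y hy => (mem_img ρ).2 ⟨y, hy, hU hy⟩)
  have hW0 : W ≠ ⊥ := fun h => hyne (by
    have hy0 : y = 0 := (Submodule.mem_bot F).1 (h ▸ hy)
    rw [hy0, map_zero])
  obtain ⟨z, hz, hz0, hzfix⟩ := exists_fixed_in (ρ := ρ) hk (hH.fix_right g hg) hW0
  have hc : W ⊓ K ∈ fixd (img ρ) (Ivl ⊥ W) g :=
    Finset.mem_filter.2 ⟨mem_Ivl.2 ⟨bot_lt_iff_ne_bot.2 fun h => hz0 ((Submodule.mem_bot F).1
        (h ▸ ⟨hz, hzfix⟩)), lt_of_le_of_ne inf_le_left fun h => hyne (inf_eq_left.1 h hy)⟩,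
      hfixK _ inf_le_right⟩
  rw [D, chi_conical (fixd (img ρ) (Ivl ⊥ W) g) (fun U => U ⊓ K) (fun _ => W ⊓ K) (W ⊓ K)
    (fun U hU => ?_) (fun U _ => inf_le_left) (fun U _ U' _ h => inf_le_inf_right _ h)
    (fun U _ => by rw [inf_assoc, inf_idem]) hc (by rw [inf_assoc, inf_idem])
    (fun U hU hfix => ⟨hc, by rw [inf_assoc, inf_idem], ?_, le_rfl⟩)
    (fun _ _ _ _ _ _ _ => le_rfl), sub_self]
  · obtain ⟨hUI, hgU⟩ := Finset.mem_filter.1 hU
    obtain ⟨hU0, hUW⟩ := mem_Ivl.1 hUI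
    obtain ⟨w, hw, hw0, hwfix⟩ := exists_fixed_in (ρ := ρ) hk hgU (bot_lt_iff_ne_bot.1 hU0)
    exact Finset.mem_filter.2 ⟨mem_Ivl.2 ⟨bot_lt_iff_ne_bot.2 fun h => hw0 ((Submodule.mem_bot F).1
      (h ▸ ⟨hw, hwfix⟩)), inf_le_left.trans_lt hUW⟩, hfixK _ inf_le_right⟩
  · exact le_inf (mem_Ivl.1 (Finset.mem_filter.1 hU).1).2.le (inf_eq_left.1 hfix)

end Cfsg.Agent.SteinbergLinearMain
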