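import Cfsg.Agent.Lib.SteinbergDescend
import Cfsg.Agent.Lib.OmegaStd
import Cfsg.Agent.Lib.OrthUnitaryPrelude
import Cfsg.Agent.Lib.OrthUnitaryRefl

/-!
The degree two character of `POmega F (quadFormPlus 2 F)` over the field with two elements: the
group maps onto the symmetric group of three of the six non-singular vectors, with odd kernel.
-/

set_option autoImplicit false

namespace Cfsg.Agent.SteinbergOrthPlusFour

open QuadraticMap Cfsg.Agent.OrthUnitaryQuad Cfsg.Agent.OrthUnitaryRefl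
  Cfsg.Agent.OrthUnitaryPrelude Cfsg.Agent.SteinbergDescend
open Cfsg.Agent.QuadClassify (qPlus qPlus_coe qPlus_apply)

/-- Fixed points minus one on three letters. -/
def std (σ : Equiv.Perm (Fin 3)) : ℤ := (Finset.univ.filter fun i => σ i = i).card - 1

theorem hasSteinberg_perm3 : HasSteinberg 2 (Equiv.Perm (Fin 3)) := by
  have : Fact (Nat.Prime 2) := ⟨Nat.prime_two⟩
  refine hasSteinberg_of_fun (MonoidHom.id _) Function.surjective_id std ?_ (by decide)
    (fun z hz => by rw [show z = 1 from hz]) ⟨1, 3, by decide, by decide, by decide⟩ ?_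
  · have h := CharBasicDecomp.isGeneralizedCharacter_sub
      (CharBasicDecomp.isGeneralizedCharacter_of_isCharacter
        (CharBasicPerm.isCharacter_fixedBy (G := Equiv.Perm (Fin 3)) (Fin 3)))
      (CharBasicDecomp.isGeneralizedCharacter_of_isCharacter
        (CharBasicDecomp.isCharacter_one (G := Equiv.Perm (Fin 3))))
    convert h using 1
    funext σ
    simp only [Pi.sub_apply, std, Int.cast_sub, Int.cast_one, Int.cast_natCast]
    congr 2
    rw [← Fintype.card_subtype, ← Nat.card_eq_fintype_card]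
    rfl
  · intro g ⟨k, hk⟩ hne
    have h6 : g ^ 6 = 1 := by
      rw [← show Fintype.card (Equiv.Perm (Fin 3)) = 6 by decide]; exact pow_card_eq_one
    have hd : orderOf g ∣ 2 := by
      obtain ⟨i, -, hi⟩ := (Nat.dvd_prime_pow Nat.prime_two).1 (orderOf_dvd_of_pow_eq_one hk)
      have h : 2 ^ i ∣ 6 := hi ▸ orderOf_dvd_of_pow_eq_one h6
      rcases i with _ | _ | i
      · rw [hi]; decide
      · rw [hi]; decide
      · exact absurd (dvd_trans (pow_dvd_pow 2 (by omega : 2 ≤ i + 1 + 1)) h) (by decide)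
    have h2 : g ^ 2 = 1 := orderOf_dvd_iff_pow_eq_one.1 hd
    revert hne h2
    clear hk h6 hd
    revert g
    decide

/-- Pulling back along a surjection whose kernel has no `p`-elements. -/
theorem hasSteinberg_comap {K S : Type*} [Group K] [Finite K] [Group S] {p : ℕ} [Fact p.Prime]
    (f : K →* S) (hf : Function.Surjective f)
    (hker : ∀ g, f g = 1 → (∃ k : ℕ, g ^ p ^ k = 1) → g = 1) (h : HasSteinberg p S) :
    HasSteinberg p K := by
  obtain ⟨χ, hχ, hP⟩ := h
  have : Finite S := Finite.of_surjective f hf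
  refine ⟨χ ∘ f, CharBasic.isIrrCharacter_comap f hf hχ, fun P => ⟨?_, fun x hx hx1 => ?_⟩⟩
  · obtain ⟨R⟩ := (inferInstance : Nonempty (Sylow p S))
    rw [Function.comp_apply, map_one, (hP R).1, Sylow.card_eq_multiplicity,
      Sylow.card_eq_multiplicity]
    have hcard : Nat.card K = Nat.card S * Nat.card f.ker := by
      rw [Subgroup.card_eq_card_quotient_mul_card_subgroup f.ker,
        Nat.card_congr (QuotientGroup.quotientKerEquivOfSurjective f hf).toEquiv]
    have hnd : ¬ p ∣ Nat.card f.ker := fun hd => by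
      obtain ⟨z, hz⟩ := exists_prime_orderOf_dvd_card' (G := f.ker) p hd
      have h1 : z = 1 := Subtype.ext (hker z z.2 ⟨1, by
        rw [pow_one, ← Subgroup.coe_pow, show z ^ p = 1 from hz ▸ pow_orderOf_eq_one z]; rfl⟩)
      rw [h1, orderOf_one] at hz
      exact (Fact.out : p.Prime).ne_one hz.symm
    rw [hcard, Nat.factorization_mul Nat.card_pos.ne' Nat.card_pos.ne', Finsupp.add_apply,
      Nat.factorization_eq_zero_of_not_dvd hnd, add_zero]
  · obtain ⟨k, hk⟩ := P.2 ⟨x, hx⟩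
    have hk' : x ^ p ^ k = 1 := congrArg Subtype.val hk
    have hp : IsPGroup p (Subgroup.zpowers (f x)) := fun ⟨y, hy⟩ => by
      obtain ⟨i, rfl⟩ := Subgroup.mem_zpowers_iff.1 hy
      refine ⟨k, Subtype.ext ?_⟩
      show (f x ^ i) ^ p ^ k = 1
      rw [← zpow_natCast, ← zpow_mul, mul_comm, zpow_mul, zpow_natCast, ← map_pow, hk', map_one,
        one_zpow]
    obtain ⟨R, hR⟩ := hp.exists_le_sylow
    exact (hP R).2 (f x) (hR (Subgroup.mem_zpowers _)) fun h => hx1 (hker x h ⟨k, hk'⟩)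

/-- The six non-singular vectors, in two rows of three. -/
def N : Fin 2 × Fin 3 → (Fin 2 ⊕ Fin 2 → ZMod 2) := fun x =>
  ![![Sum.elim ![1, 0] ![1, 0], Sum.elim ![1, 1] ![0, 1], Sum.elim ![0, 1] ![1, 1]],
    ![Sum.elim ![0, 1] ![0, 1], Sum.elim ![1, 1] ![1, 0], Sum.elim ![1, 0] ![1, 1]]] x.1 x.2

/-- The form over the prime field. -/
def q2 (v : Fin 2 ⊕ Fin 2 → ZMod 2) : ZMod 2 :=
  v (.inl 0) * v (.inr 0) + v (.inl 1) * v (.inr 1)

theorem q2_N : ∀ x, q2 (N x) = 1 := by decide

theorem N_inj : ∀ x y, N x = N y → x = y := by decide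

theorem N_surj : ∀ v, q2 v = 1 → ∃ x, N x = v := by decide

theorem polar_N : ∀ x y, q2 (N x + N y) - q2 (N x) - q2 (N y) =
    if x.1 = y.1 ∧ x.2 ≠ y.2 then 1 else 0 := by decide

theorem decomp_N : ∀ v : Fin 2 ⊕ Fin 2 → ZMod 2,
    v = v (.inl 0) • (N (0, 1) + N (1, 0)) + v (.inr 0) • (N (0, 2) + N (1, 0)) +
      (v (.inl 1) • (N (1, 1) + N (0, 0)) + v (.inr 1) • (N (1, 2) + N (0, 0))) := by decide

theorem N_flip : ∀ x : Fin 2 × Fin 3,
    (fun s : Fin 2 ⊕ Fin 2 => N x (Sum.map Fin.rev Fin.rev s)) = N (x.1 + 1, x.2) := by decide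

theorem N_refl : ∀ x y : Fin 2 × Fin 3, N y - (if x.1 = y.1 ∧ x.2 ≠ y.2 then (1 : ZMod 2) else 0) • N x =
    N (if x.1 = y.1 then (y.1, Equiv.swap (x.2 + 1) (x.2 + 2) y.2) else y) := by decide

variable {F : Type*} [Field F] (e : ZMod 2 ≃+* F)

/-- The vectors over `F`. -/
def n (x : Fin 2 × Fin 3) : Fin 2 ⊕ Fin 2 → F := fun s => e (N x s)

theorem q_map (w : Fin 2 ⊕ Fin 2 → ZMod 2) : qPlus 2 F (fun s => e (w s)) = e (q2 w) := by
  simp [qPlus_apply, Cfsg.quadFormPlus, q2, Fin.sum_univ_two]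

theorem q_n (x : Fin 2 × Fin 3) : qPlus 2 F (n e x) = 1 := by
  show qPlus 2 F (fun s => e (N x s)) = 1
  rw [q_map, q2_N, map_one]

theorem n_inj {x y : Fin 2 × Fin 3} (h : n e x = n e y) : x = y :=
  N_inj x y (funext fun s => e.injective (congrFun h s))

theorem n_surj {v : Fin 2 ⊕ Fin 2 → F} (h : qPlus 2 F v = 1) : ∃ x, n e x = v := by
  have hv : v = fun s => e (e.symm (v s)) := funext fun s => (e.apply_symm_apply _).symm
  rw [hv, q_map, ← map_one e] at h
  obtain ⟨x, hx⟩ := N_surj _ (e.injective h)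
  exact ⟨x, funext fun s => by show e (N x s) = v s; rw [hx, e.apply_symm_apply]⟩

theorem polar_n (x y : Fin 2 × Fin 3) :
    polar (qPlus 2 F) (n e x) (n e y) = if x.1 = y.1 ∧ x.2 ≠ y.2 then 1 else 0 := by
  have h1 : n e x + n e y = fun s => e ((N x + N y) s) := funext fun s => by simp [n]
  rw [polar, h1]
  show qPlus 2 F _ - qPlus 2 F (fun s => e (N x s)) - qPlus 2 F (fun s => e (N y s)) = _
  rw [q_map, q_map, q_map, ← map_sub, ← map_sub, polar_N, apply_ite e, map_one,
    map_zero]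

theorem exists_perm (g : orth (qPlus 2 F)) (x : Fin 2 × Fin 3) : ∃ y, n e y = g.1 (n e x) :=
  n_surj e (by rw [map_orth, q_n])

/-- The image of a vector. -/
noncomputable def im (g : orth (qPlus 2 F)) (x : Fin 2 × Fin 3) : Fin 2 × Fin 3 :=
  (exists_perm e g x).choose

theorem n_im (g : orth (qPlus 2 F)) (x : Fin 2 × Fin 3) : n e (im e g x) = g.1 (n e x) :=
  (exists_perm e g x).choose_spec

theorem im_mul (g h : orth (qPlus 2 F)) (x : Fin 2 × Fin 3) :
    im e (g * h) x = im e g (im e h x) :=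
  n_inj e (by rw [n_im, n_im, n_im, orth_mul_apply])

theorem im_one (x : Fin 2 × Fin 3) : im e 1 x = x := n_inj e (by rw [n_im]; rfl)

theorem im_eq {g : orth (qPlus 2 F)} {x y : Fin 2 × Fin 3} (h : g.1 (n e x) = n e y) :
    im e g x = y := n_inj e (by rw [n_im, h])

/-- The permutation of the six vectors. -/
noncomputable def perm : orth (qPlus 2 F) →* Equiv.Perm (Fin 2 × Fin 3) where
  toFun g := ⟨im e g, im e g⁻¹, fun x => by rw [← im_mul, inv_mul_cancel, im_one],
    fun x => by rw [← im_mul, mul_inv_cancel, im_one]⟩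
  map_one' := Equiv.ext (im_one e)
  map_mul' g h := Equiv.ext (im_mul e g h)

theorem perm_apply (g : orth (qPlus 2 F)) (x : Fin 2 × Fin 3) : perm e g x = im e g x := rfl

theorem eq_one_of_perm {g : orth (qPlus 2 F)} (h : perm e g = 1) : g = 1 := by
  have hn : ∀ x, g.1 (n e x) = n e x := fun x => by
    rw [← n_im, ← perm_apply, h, Equiv.Perm.one_apply]
  refine orth_ext fun v => ?_
  have hv : v = e (e.symm (v (.inl 0))) • (n e (0, 1) + n e (1, 0)) +
      e (e.symm (v (.inr 0))) • (n e (0, 2) + n e (1, 0)) +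
      (e (e.symm (v (.inl 1))) • (n e (1, 1) + n e (0, 0)) +
        e (e.symm (v (.inr 1))) • (n e (1, 2) + n e (0, 0))) := by
    funext s
    have h1 := congrArg e (congrFun (decomp_N fun s => e.symm (v s)) s)
    simp only [e.apply_symm_apply, Pi.add_apply, Pi.smul_apply, smul_eq_mul, map_add, map_mul] at h1
    simpa [n, mul_add] using h1
  show g.1 v = v
  rw [hv]
  simp only [map_add, map_smul, hn]

theorem im_row (g : orth (qPlus 2 F)) (x y : Fin 2 × Fin 3) :
    (im e g x).1 = (im e g y).1 ↔ x.1 = y.1 := by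
  by_cases hxy : x = y
  · simp [hxy]
  have hne : im e g x ≠ im e g y := fun h => hxy (by
    have := congrArg (n e) h
    rw [n_im, n_im] at this
    exact n_inj e (g.1.injective this))
  have h := polar_orth g (n e x) (n e y)
  rw [← n_im, ← n_im, polar_n, polar_n] at h
  constructor
  · intro hr
    by_contra hr'
    rw [if_pos ⟨hr, fun h2 => hne (Prod.ext hr h2)⟩, if_neg fun hh => hr' hh.1] at h
    exact one_ne_zero h
  · intro hr
    by_contra hr'
    rw [if_neg fun hh => hr' hh.1, if_pos ⟨hr, fun h2 => hxy (Prod.ext hr h2)⟩] at h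
    exact zero_ne_one h

/-- The permutation of the two rows. -/
noncomputable def row : orth (qPlus 2 F) →* Multiplicative (ZMod 2) :=
  MonoidHom.mk' (fun g => Multiplicative.ofAdd (((im e g (0, 0)).1 : Fin 2) : ZMod 2)) fun g h => by
    have key : ∀ a b c : Fin 2, (a = b ↔ c = 0) → (a : ZMod 2) = (b : ZMod 2) + (c : ZMod 2) := by decide
    refine congrArg Multiplicative.ofAdd (key _ _ _ ?_)
    rw [im_mul]
    exact im_row e g _ _

theorem im_fst {g : orth (qPlus 2 F)} (hg : g ∈ commutator (orth (qPlus 2 F)))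
    (x : Fin 2 × Fin 3) : (im e g x).1 = x.1 := by
  have h := Abelianization.commutator_subset_ker (row e) hg
  have h0 : (im e g (0, 0)).1 = 0 := by
    have key : ∀ a : Fin 2, Multiplicative.ofAdd (a : ZMod 2) = 1 → a = 0 := by decide
    exact key _ h
  have h2 := im_row e g x (0, 0)
  rw [h0] at h2
  have key : ∀ a b : Fin 2, (a = 0 ↔ b = 0) → a = b := by decide
  exact key _ _ h2

theorem card_two_equiv [Fintype F] (hF : Fintype.card F = 2) : Nonempty (ZMod 2 ≃+* F) :=
  ⟨ZMod.ringEquivOfPrime F Nat.prime_two hF⟩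

theorem hasSteinberg [Fintype F] (hF : Fintype.card F = 2) :
    HasSteinberg 2 (Cfsg.POmega F (Cfsg.quadFormPlus 2 F)) := by
  obtain ⟨e⟩ := card_two_equiv hF
  have : Fact (Nat.Prime 2) := ⟨Nat.prime_two⟩
  rw [← qPlus_coe]
  set q := qPlus 2 F with hq
  let ω : Omega F ⇑q →* orth q := (iso q).toMonoidHom.comp (Omega F ⇑q).subtype
  have hω : ∀ g, ω g ∈ commutator (orth q) := fun g => (mem_Omega_iff g.1).1 g.2
  have hfst : ∀ g j, im e (ω g) (0, j) = (0, (im e (ω g) (0, j)).2) := fun g j =>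
    Prod.ext (im_fst e (hω g) _) rfl
  let ψ : Omega F ⇑q →* Equiv.Perm (Fin 3) :=
    { toFun := fun g => ⟨fun j => (im e (ω g) (0, j)).2, fun j => (im e (ω g⁻¹) (0, j)).2,
        fun j => by
          show (im e (ω g⁻¹) (0, (im e (ω g) (0, j)).2)).2 = j
          rw [← hfst, ← im_mul, ← map_mul, inv_mul_cancel, map_one, im_one],
        fun j => by
          show (im e (ω g) (0, (im e (ω g⁻¹) (0, j)).2)).2 = j
          rw [← hfst, ← im_mul, ← map_mul, mul_inv_cancel, map_one, im_one]⟩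
      map_one' := Equiv.ext fun j => by
        show (im e (ω 1) (0, j)).2 = j
        rw [map_one, im_one]
      map_mul' := fun g h => Equiv.ext fun j => by
        show (im e (ω (g * h)) (0, j)).2 = (im e (ω g) (0, (im e (ω h) (0, j)).2)).2
        rw [← hfst, ← im_mul, map_mul] }
  -- the two generators
  have hmk : ∀ a b : orth q, ∃ g : Omega F ⇑q, ω g = a * b * a⁻¹ * b⁻¹ := fun a b =>
    ⟨⟨(iso q).symm (a * b * a⁻¹ * b⁻¹), (mem_Omega_iff _).2 (by
      rw [MulEquiv.apply_symm_apply]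
      exact Subgroup.commutator_mem_commutator (Subgroup.mem_top a) (Subgroup.mem_top b))⟩,
      MulEquiv.apply_symm_apply (iso q) (a * b * a⁻¹ * b⁻¹)⟩
  let r : Fin 2 × Fin 3 → orth q := fun x =>
    refl q (n e x) (by rw [q_n]; exact one_ne_zero)
  have hr : ∀ x y, im e (r x) y =
      if x.1 = y.1 then (y.1, Equiv.swap (x.2 + 1) (x.2 + 2) y.2) else y := fun x y => by
    refine im_eq e ?_
    rw [refl_apply, q_n, polar_n, inv_one, one_mul]
    funext s
    show e (N y s) - _ * e (N x s) = e (N _ s)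
    rw [← N_refl x y, Pi.sub_apply, Pi.smul_apply, map_sub, smul_eq_mul, map_mul, apply_ite e,
      map_one, map_zero]
  let w : orth q := ⟨LinearEquiv.funCongrLeft F F (Equiv.sumCongr Fin.revPerm Fin.revPerm),
    fun v => by
      simp [hq, qPlus_apply, Cfsg.quadFormPlus, LinearEquiv.funCongrLeft_apply,
        LinearMap.funLeft_apply, Fin.sum_univ_two, add_comm]⟩
  have hw : ∀ x, im e w x = (x.1 + 1, x.2) := fun x => by
    refine im_eq e (funext fun s => ?_)
    rw [n, ← N_flip x]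
    rcases s with s | s <;> simp [w, n, LinearEquiv.funCongrLeft_apply, LinearMap.funLeft_apply]
  have hp : ∀ (a b : orth q) (x : Fin 2 × Fin 3), im e (a * b * a⁻¹ * b⁻¹) x =
      (perm e a * perm e b * (perm e a)⁻¹ * (perm e b)⁻¹) x := fun a b x => by
    rw [← perm_apply, map_mul, map_mul, map_mul, map_inv, map_inv]
  have hpr : ∀ x, perm e (r x) = Function.Involutive.toPerm
      (fun y => if x.1 = y.1 then (y.1, Equiv.swap (x.2 + 1) (x.2 + 2) y.2) else y)
      (by revert x; unfold Function.Involutive; decide) := fun x => Equiv.ext (hr x)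
  have hpw : perm e w = Function.Involutive.toPerm
      (fun y : Fin 2 × Fin 3 => (y.1 + 1, y.2)) (by unfold Function.Involutive; decide) := Equiv.ext hw
  obtain ⟨t, ht⟩ := hmk w (r (0, 0))
  obtain ⟨c, hc⟩ := hmk (r (0, 0)) (r (0, 1))
  have ht' : ψ t = Equiv.swap 1 2 := Equiv.ext fun j => by
    show (im e (ω t) (0, j)).2 = _
    rw [ht, hp, hpr, hpw]
    revert j
    decide
  have hc' : ψ c = Equiv.swap 1 2 * Equiv.swap 2 0 * Equiv.swap 1 2 * Equiv.swap 2 0 :=
    Equiv.ext fun j => by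
      show (im e (ω c) (0, j)).2 = _
      rw [hc, hp, hpr, hpr]
      revert j
      decide
  have hsurj : Function.Surjective ψ := by
    have key : ∀ σ : Equiv.Perm (Fin 3), ∃ i : Fin 2, ∃ j : Fin 3, σ = (Equiv.swap 1 2) ^ (i : ℕ) *
        (Equiv.swap 1 2 * Equiv.swap 2 0 * Equiv.swap 1 2 * Equiv.swap 2 0) ^ (j : ℕ) := by decide
    intro σ
    obtain ⟨i, j, rfl⟩ := key σ
    exact ⟨t ^ (i : ℕ) * c ^ (j : ℕ), by rw [map_mul, map_pow, map_pow, ht', hc']⟩
  have hker : ∀ g, ψ g = 1 → g ^ 3 = 1 := by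
    intro g hg
    set π := perm e (ω g) with hπ
    have hrow : ∀ x, (π x).1 = x.1 := im_fst e (hω g)
    have h0 : ∀ j, π (0, j) = (0, j) := fun j => by
      rw [hπ, perm_apply, hfst]
      exact congrArg (Prod.mk 0) (Equiv.congr_fun hg j)
    have h1 : ∀ j, π (1, j) = (1, (π (1, j)).2) := fun j => Prod.ext (hrow _) rfl
    have hr' : ∀ x, (π⁻¹ x).1 = x.1 := fun x => by
      have := hrow (π⁻¹ x)
      rwa [Equiv.Perm.coe_inv, π.apply_symm_apply, eq_comm] at this
    let σ : Equiv.Perm (Fin 3) := ⟨fun j => (π (1, j)).2, fun j => (π⁻¹ (1, j)).2,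
      fun j => by
        show (π⁻¹ (1, (π (1, j)).2)).2 = j
        rw [← h1 j, Equiv.Perm.coe_inv, π.symm_apply_apply],
      fun j => by
        show (π (1, (π⁻¹ (1, j)).2)).2 = j
        rw [show ((1 : Fin 2), (π⁻¹ (1, j)).2) = π⁻¹ (1, j) from
          Prod.ext (hr' (1, j)).symm rfl, Equiv.Perm.coe_inv, π.apply_symm_apply]⟩
    have hext : π = Equiv.Perm.prodExtendRight (1 : Fin 2) σ := by
      refine Equiv.ext fun x => ?_
      obtain ⟨i, j⟩ := x
      obtain rfl | rfl : i = 0 ∨ i = 1 := by omega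
      · rw [Equiv.Perm.prodExtendRight_apply_ne _ (by decide)]; exact h0 j
      · rw [Equiv.Perm.prodExtendRight_apply_eq]; exact h1 j
    have hsgn : Equiv.Perm.sign σ = 1 := by
      rw [← Equiv.Perm.sign_prodExtendRight (1 : Fin 2) σ, ← hext]
      exact Abelianization.commutator_subset_ker (Equiv.Perm.sign.comp (perm e)) (hω g)
    have key : ∀ τ : Equiv.Perm (Fin 3), Equiv.Perm.sign τ = 1 → ∀ j, τ (τ (τ j)) = j := by decide
    have h3 : π ^ 3 = 1 := by
      refine Equiv.ext fun x => ?_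
      obtain ⟨i, j⟩ := x
      show π (π (π (i, j))) = (i, j)
      fin_cases i
      · show π (π (π ((0 : Fin 2), j))) = ((0 : Fin 2), j)
        rw [h0, h0, h0]
      · show π (π (π ((1 : Fin 2), j))) = ((1 : Fin 2), j)
        rw [h1 j, h1, h1]
        exact congrArg (Prod.mk 1) (key σ hsgn j)
    have h4 : ω (g ^ 3) = ω 1 := by
      rw [map_one]
      exact eq_one_of_perm e (by rw [map_pow, map_pow, ← hπ, h3])
    exact Subtype.ext ((iso q).injective h4)
  have hcen : Subgroup.center (Omega F ⇑q) ≤ ψ.ker := fun z hz => by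
    have key : ∀ σ : Equiv.Perm (Fin 3), σ * Equiv.swap 1 2 = Equiv.swap 1 2 * σ →
        σ * Equiv.swap 2 0 = Equiv.swap 2 0 * σ → σ = 1 := by decide
    obtain ⟨u, hu⟩ := hsurj (Equiv.swap 2 0)
    rw [MonoidHom.mem_ker]
    refine key _ ?_ ?_
    · rw [← ht', ← map_mul, ← map_mul, Subgroup.mem_center_iff.1 hz t]
    · rw [← hu, ← map_mul, ← map_mul, Subgroup.mem_center_iff.1 hz u]
  refine hasSteinberg_comap (QuotientGroup.lift _ ψ hcen) (fun σ => ?_) (fun x hx hk => ?_)
    hasSteinberg_perm3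
  · obtain ⟨g, hg⟩ := hsurj σ
    exact ⟨(g : Omega F ⇑q ⧸ _), hg⟩
  · obtain ⟨g, rfl⟩ := QuotientGroup.mk_surjective x
    obtain ⟨k, hk⟩ := hk
    have h3 : ((g : Omega F ⇑q ⧸ Subgroup.center (Omega F ⇑q))) ^ 3 = 1 := by
      rw [← QuotientGroup.mk_pow, hker g hx, QuotientGroup.mk_one]
    exact orderOf_eq_one_iff.1 (Nat.eq_one_of_dvd_coprimes
      ((Nat.coprime_primes Nat.prime_two Nat.prime_three).2 (by decide) |>.pow_left k)
      (orderOf_dvd_of_pow_eq_one hk) (orderOf_dvd_of_pow_eq_one h3))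

end Cfsg.Agent.SteinbergOrthPlusFour
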