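import Cfsg.Agent.Lib.SteinbergPolar

/-!
Averages of the fixed point Euler characteristic over a group acting on a polar space, and the
descent to the orthogonal space of a hyperbolic pair.
-/

set_option autoImplicit false

namespace Cfsg.Agent.SteinbergPolar

open Cfsg.Agent.H74Euler Cfsg.Agent.SteinbergEuler Cfsg.Agent.SteinbergLattice

open scoped Classical

variable {F V : Type*} [Field F] [AddCommGroup V] [Module F V] [Finite V] {Q : Geo F V}
  {G : Type*} [Group G] {ρ : G →* (V ≃ₗ[F] V)} {p : ℕ} {H : Subgroup G} {W : Submodule F V}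

omit [Finite V] in
theorem Geo.sum_right (Q : Geo F V) {ι : Type*} (v : V) (s : Finset ι) (g : ι → V) :
    Q.B v (∑ i ∈ s, g i) = ∑ i ∈ s, Q.B v (g i) := by
  induction s using Finset.induction with
  | empty => simp [Q.zero_right]
  | insert a s ha ih => rw [Finset.sum_insert ha, Finset.sum_insert ha, Q.add_right, ih]

/-- Functionals on a subspace are given by vectors of a subspace separating it. -/
theorem Geo.exists_rep (Q : Geo F V) (A X : Submodule F V)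
    (hsep : ∀ y ∈ X, (∀ a ∈ A, Q.B a y = 0) → y = 0) (φ : V →ₗ[F] F) :
    ∃ a ∈ A, ∀ y ∈ X, Q.B a y = Q.σ (φ y) := by
  have : Module.Finite F V := Module.Finite.of_finite
  let b := Module.finBasis F X
  let f : A →ₗ[F] (Fin (Module.finrank F X) → F) :=
    { toFun := fun t i => Q.B (t : V) (b i : V)
      map_add' := fun s t => funext fun i => Q.add_left _ _ _
      map_smul' := fun c t => funext fun i => Q.smul_left _ _ _ }
  have hsum : ∀ y : X, (y : V) = ∑ i, b.repr y i • (b i : V) := fun y => by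
    have hy' := congrArg Subtype.val (b.sum_repr y)
    rw [Submodule.coe_sum] at hy'
    simp only [Submodule.coe_smul] at hy'
    exact hy'.symm
  have hsurj : Function.Surjective f := by
    rw [← LinearMap.range_eq_top]
    by_contra hne
    obtain ⟨v, hv⟩ : ∃ v, v ∉ LinearMap.range f := by
      by_contra hall
      push Not at hall
      exact hne (eq_top_iff.2 fun v _ => hall v)
    obtain ⟨ψ, hψ, hψr⟩ := Submodule.exists_dual_map_eq_bot_of_notMem hv inferInstance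
    choose c hc using fun i => Q.σ_surj (ψ (Pi.single i 1))
    have hy0 : (∑ i, c i • b i : X) = 0 := by
      refine Subtype.ext (hsep _ (SetLike.coe_mem _) fun a ha => ?_)
      rw [Submodule.coe_sum, Q.sum_right]
      have h0 : ψ (f ⟨a, ha⟩) = 0 :=
        (Submodule.mem_bot F).1 (hψr ▸ Submodule.mem_map_of_mem (LinearMap.mem_range_self f ⟨a, ha⟩))
      rw [← h0]
      conv_rhs => rw [pi_eq_sum_univ' (f ⟨a, ha⟩)]
      rw [map_sum]
      refine Finset.sum_congr rfl fun i _ => ?_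
      rw [Submodule.coe_smul, Q.smul_right, hc, map_smul, smul_eq_mul, mul_comm]
      congr 2
    have hc0 : ∀ i, c i = 0 := fun i => Fintype.linearIndependent_iff.1 b.linearIndependent c hy0 i
    refine hψ ?_
    rw [pi_eq_sum_univ' v, map_sum]
    refine Finset.sum_eq_zero fun i _ => ?_
    rw [map_smul, ← hc, hc0, map_zero, smul_zero]
  obtain ⟨⟨a, ha⟩, hfa⟩ := hsurj fun i => Q.σ (φ (b i))
  refine ⟨a, ha, fun y hy => ?_⟩
  rw [show y = ((⟨y, hy⟩ : X) : V) from rfl, hsum ⟨y, hy⟩, Q.sum_right, map_sum, map_sum]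
  refine Finset.sum_congr rfl fun i _ => ?_
  rw [Q.smul_right, show Q.B a (b i) = Q.σ (φ (b i)) from congrFun hfa i, map_smul, smul_eq_mul,
    map_mul]

/-- A singular vector of `W` has a singular partner. -/
theorem Ok.exists_partner (hO : Ok Q ρ p H W) {e : V} (he : e ∈ W) (he0 : e ≠ 0)
    (hes : Q.Φ e = 0) : ∃ u ∈ W, Q.Φ u = 0 ∧ Q.B u e = 1 := by
  obtain ⟨z, hz, hze⟩ : ∃ z ∈ W, Q.B z e ≠ 0 := by
    by_contra hall
    push Not at hall
    exact he0 (hO.nondeg e he fun u hu => Q.refl _ _ (hall u hu))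
  obtain ⟨c, hc⟩ := Q.trace ((Q.B z e)⁻¹ • z)
  obtain ⟨d, hd⟩ := Q.σ_surj (-c)
  have h1 : Q.B ((Q.B z e)⁻¹ • z) e = 1 := by rw [Q.smul_left, inv_mul_cancel₀ hze]
  refine ⟨(Q.B z e)⁻¹ • z + d • e, W.add_mem (W.smul_mem _ hz) (W.smul_mem _ he), ?_, ?_⟩
  · rw [Q.Φ_add, Q.Φ_smul d e hes, Q.smul_right, h1, mul_one, hd, map_neg, hc]; ring
  · rw [Q.add_left, h1, Q.smul_left, Q.iso e hes, mul_zero, add_zero]

/-- Transvections on a singular subspace. -/
theorem Ok.hasTv_sing (hO : Ok Q ρ p H W) {x : Submodule F V} (hx : Q.Sing x) (hxW : x ≤ W) :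
    HasTv ρ (H ⊓ stabSub ρ x) ⊥ x := by
  refine ⟨bot_le, fun m _ => (img ρ m).map_bot, fun m hm => hm.2, fun v hv φ hφ _ => ?_⟩
  by_cases hv0 : v = 0
  · exact ⟨1, Subgroup.one_mem _, fun y _ => by rw [map_one, hv0, smul_zero, add_zero]; rfl⟩
  obtain ⟨z, hz, hzy⟩ := Q.exists_rep W x
    (fun y hy h => hO.nondeg y (hxW hy) fun u hu => Q.refl _ _ (h u hu)) (-φ)
  obtain ⟨u, hu, hus, huv⟩ := hO.exists_partner (hxW hv) hv0 (hx.1 v hv)
  have hzv : Q.B z v = 0 := by rw [hzy v hv, LinearMap.neg_apply, hφ, neg_zero, map_zero]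
  obtain ⟨c, hc⟩ := Q.trace (u + z)
  obtain ⟨t, ht⟩ := Q.σ_surj (-c)
  have huzv : Q.B (u + z) v = 1 := by rw [Q.add_left, huv, hzv, add_zero]
  have h1 : Q.Φ (u + z + t • v) = 0 := by
    rw [Q.Φ_add, Q.Φ_smul t v (hx.1 v hv), Q.smul_right, huzv, mul_one, ht, map_neg, hc]; ring
  have h2 : Q.B (u + z + t • v) v = 1 := by
    rw [Q.add_left, huzv, Q.smul_left, Q.iso v (hx.1 v hv), mul_zero, add_zero]
  obtain ⟨h, hh, hhv, hhu, hperp, -⟩ := hO.eichler v (hxW hv) u hu (u + z + t • v)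
    (W.add_mem (W.add_mem hu hz) (W.smul_mem _ (hxW hv))) (hx.1 v hv) hus h1 huv h2
  have key : ∀ y ∈ x, ρ h y = y + φ y • v := by
    intro y hy
    obtain ⟨d, hd⟩ := hperp y (hx.2 hy v hv)
    have e1 := (hO.pres h hh).1 u y
    rw [hhu, hd, Q.add_right, Q.smul_right, h2, Q.add_left, Q.add_left, hzy y hy, Q.smul_left,
      hx.2 hv y hy, LinearMap.neg_apply, map_neg] at e1
    have e2 : Q.σ d = Q.σ (φ y) := by linear_combination e1
    rw [hd, RingHom.injective Q.σ e2]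
  exact ⟨h, ⟨hh, img_eq_of_le ρ (fun y hy => by
    rw [key y hy]; exact x.add_mem hy (x.smul_mem _ hv)) le_rfl⟩, key⟩

omit [Finite V] in
/-- Elements acting trivially on `perp x` modulo `x`. -/
def trivSub (Q : Geo F V) (ρ : G →* (V ≃ₗ[F] V)) (W x : Submodule F V) : Subgroup G where
  carrier := {m | img ρ m x = x ∧ ∀ y ∈ W, y ∈ Q.perp x → ρ m y - y ∈ x}
  one_mem' := ⟨img_one ρ x, fun y _ _ => by simp⟩
  mul_mem' := by
    rintro m m' ⟨h1, h2⟩ ⟨h1', h2'⟩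
    refine ⟨by rw [img_mul, h1', h1], fun y hy hy' => ?_⟩
    have e : ρ (m * m') y - y = (ρ m y - y) + ρ m (ρ m' y - y) := by
      rw [map_mul, LinearEquiv.mul_apply, map_sub]; abel
    rw [e]
    exact x.add_mem (h2 y hy hy') (h1 ▸ apply_mem_img ρ (h2' y hy hy'))
  inv_mem' := by
    rintro m ⟨h1, h2⟩
    refine ⟨img_inv_of ρ m h1, fun y hy hy' => ?_⟩
    have e : ρ m⁻¹ y - y = ρ m⁻¹ (-(ρ m y - y)) := by
      rw [neg_sub, map_sub, ← LinearEquiv.mul_apply, ← map_mul, inv_mul_cancel, map_one]; rfl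
    rw [e]
    exact img_inv_of ρ m h1 ▸ apply_mem_img ρ (x.neg_mem (h2 y hy hy'))

theorem Ok.triv_fix (hO : Ok Q ρ p H W) {m : G} {x Z : Submodule F V}
    (hm : m ∈ H ⊓ trivSub Q ρ W x) (hZ : Z ∈ Pts Q W) (hxZ : x ≤ Z) : img ρ m Z = Z := by
  obtain ⟨-, hZs, hZW⟩ := (mem_Pts Q).1 hZ
  refine img_eq_of_le ρ (fun y hy => ?_) le_rfl
  have := Z.add_mem hy (hxZ (hm.2.2 y (hZW hy) fun u hu => hZs.2 hy u (hxZ hu)))
  rwa [add_sub_cancel] at this

theorem Ok.up_mul (hO : Ok Q ρ p H W) {g m : G} {x : Submodule F V}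
    (hm : m ∈ H ⊓ trivSub Q ρ W x) : Up Q ρ W x (g * m) = Up Q ρ W x g := by
  rw [Up, Up]
  congr 2
  ext Z
  simp only [fixd, Finset.mem_filter, img_mul]
  exact ⟨fun h => ⟨⟨h.1.1, by simpa only [hO.triv_fix hm h.1.1 h.2.le] using h.1.2⟩, h.2⟩,
    fun h => ⟨⟨h.1.1, by rw [hO.triv_fix hm h.1.1 h.2.le]; exact h.1.2⟩, h.2⟩⟩

/-- The opposite subspaces see all transvections. -/
theorem Ok.hasTv_opp (hO : Ok Q ρ p H W) {x T : Submodule F V} (hx : x ∈ Pts Q W)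
    (hT : T ∈ Opp Q W x) : HasTv ρ (H ⊓ trivSub Q ρ W x ⊓ stabSub ρ T) ⊥ T := by
  obtain ⟨-, hxs, hxW⟩ := (mem_Pts Q).1 hx
  obtain ⟨hTP, hTx, hr⟩ := mem_Opp.1 hT
  obtain ⟨-, hTs, hTW⟩ := (mem_Pts Q).1 hTP
  refine ⟨bot_le, fun m _ => (img ρ m).map_bot, fun m hm => hm.2, fun v hv φ hφ _ => ?_⟩
  by_cases hall : ∀ t ∈ T, φ t = 0
  · exact ⟨1, Subgroup.one_mem _, fun y hy => by
      rw [map_one, hall y hy, zero_smul, add_zero]; rfl⟩
  push Not at hall
  obtain ⟨u₀, hu₀, hφu₀⟩ := hall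
  obtain ⟨u, hu, hφu⟩ : ∃ u ∈ T, φ u = 1 :=
    ⟨(φ u₀)⁻¹ • u₀, T.smul_mem _ hu₀, by rw [map_smul, smul_eq_mul, inv_mul_cancel₀ hφu₀]⟩
  obtain ⟨e₀, he₀, he₀T⟩ := Q.exists_rep x T (fun y hy h => by
    have : y ∈ T ⊓ Q.perp x := ⟨hy, fun a ha => Q.refl _ _ (h a ha)⟩
    rwa [hTx, Submodule.mem_bot] at this) φ
  have hβ : Q.B u e₀ ≠ 0 := fun h => by
    have := he₀T u hu
    rw [Q.refl _ _ h, hφu, map_one] at this
    exact zero_ne_one this
  obtain ⟨c, hc⟩ := Q.σ_surj (Q.B u e₀)⁻¹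
  set e := c • e₀ with he
  have hue : Q.B u e = 1 := by rw [he, Q.smul_right, hc, inv_mul_cancel₀ hβ]
  have hey : ∀ t ∈ T, Q.B t e = φ t := fun t ht => by
    have h0 : Q.B (t - φ t • u) e = 0 := by
      have := he₀T _ (T.sub_mem ht (T.smul_mem (φ t) hu))
      rw [map_sub, map_smul, hφu, smul_eq_mul, mul_one, sub_self, map_zero] at this
      rw [he, Q.smul_right, Q.refl _ _ this, mul_zero]
    rw [Q.sub_left, Q.smul_left, hue, mul_one, sub_eq_zero] at h0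
    exact h0
  have hex : e ∈ x := x.smul_mem _ he₀
  have huve : Q.B (u + v) e = 1 := by rw [hey _ (T.add_mem hu hv), map_add, hφu, hφ, add_zero]
  obtain ⟨h, hh, -, hhu, hperp, hfix⟩ := hO.eichler e (hxW hex) u (hTW hu) (u + v)
    (hTW (T.add_mem hu hv)) (hxs.1 e hex) (hTs.1 u hu) (hTs.1 _ (T.add_mem hu hv)) hue huve
  have key : ∀ y ∈ T, ρ h y = y + φ y • v := by
    intro y hy
    have hy' : y - φ y • u ∈ T := T.sub_mem hy (T.smul_mem _ hu)
    have h0 := hfix (y - φ y • u)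
      (by rw [hey _ hy', map_sub, map_smul, hφu, smul_eq_mul, mul_one, sub_self])
      (hTs.2 hy' u hu) (hTs.2 hy' _ (T.add_mem hu hv))
    rw [map_sub, map_smul, hhu, sub_eq_iff_eq_add] at h0
    rw [h0]; module
  refine ⟨h, ⟨⟨hh, img_eq_of_le ρ (fun y hy => ?_) le_rfl, fun y _ hy => ?_⟩,
    img_eq_of_le ρ (fun y hy => ?_) le_rfl⟩, key⟩
  · obtain ⟨d, hd⟩ := hperp y (hxs.2 hy e hex)
    rw [hd]; exact x.add_mem hy (x.smul_mem _ hex)
  · obtain ⟨d, hd⟩ := hperp y (hy e hex)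
    rw [hd, add_sub_cancel_left]; exact x.smul_mem _ hex
  · rw [key y hy]; exact T.add_mem hy (T.smul_mem _ hv)

variable [Fintype G]

omit [Finite V] in
theorem sum_eq_zero_of_coset (K S : Subgroup G) (hKS : K ≤ S) (f : G → ℤ)
    (h : ∀ g ∈ S, ∑ m ∈ Finset.univ.filter (· ∈ K), f (g * m) = 0) :
    ∑ g ∈ Finset.univ.filter (· ∈ S), f g = 0 := by
  have h1 : ∀ m ∈ Finset.univ.filter (· ∈ K), ∑ g ∈ Finset.univ.filter (· ∈ S), f (g * m) =
      ∑ g ∈ Finset.univ.filter (· ∈ S), f g := fun m hm => by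
    have hm' : m ∈ S := hKS (Finset.mem_filter.1 hm).2
    refine Finset.sum_bij' (fun g _ => g * m) (fun g _ => g * m⁻¹) ?_ ?_
      (fun g _ => mul_inv_cancel_right _ _) (fun g _ => inv_mul_cancel_right _ _) (fun g _ => rfl)
    · exact fun g hg => Finset.mem_filter.2 ⟨Finset.mem_univ _, S.mul_mem (Finset.mem_filter.1 hg).2 hm'⟩
    · exact fun g hg => Finset.mem_filter.2
        ⟨Finset.mem_univ _, S.mul_mem (Finset.mem_filter.1 hg).2 (S.inv_mem hm')⟩
  have h2 := Finset.sum_congr rfl h1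
  rw [Finset.sum_comm, Finset.sum_eq_zero fun g hg => h g (Finset.mem_filter.1 hg).2,
    Finset.sum_const, nsmul_eq_mul] at h2
  refine (mul_eq_zero.1 h2.symm).resolve_left (Nat.cast_ne_zero.2 (Finset.card_ne_zero.2 ⟨1, ?_⟩))
  exact Finset.mem_filter.2 ⟨Finset.mem_univ _, K.one_mem⟩

/-- The contribution of the singular subspaces of dimension at least two. -/
theorem Ok.sum_L_up (hO : Ok Q ρ p H W) {x : Submodule F V} (hx : x ∈ Pts Q W)
    (h2 : 2 ≤ Module.finrank F x) :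
    ∑ g ∈ Finset.univ.filter (· ∈ H ⊓ stabSub ρ x), L Q ρ W g * Up Q ρ W x g = 0 := by
  refine sum_eq_zero_of_coset (H ⊓ trivSub Q ρ W x) (H ⊓ stabSub ρ x) (fun m hm => ⟨hm.1, hm.2.1⟩) _ fun g hg => ?_
  have e1 : ∀ m ∈ Finset.univ.filter (· ∈ H ⊓ trivSub Q ρ W x),
      L Q ρ W (g * m) * Up Q ρ W x (g * m) =
        -(Up Q ρ W x g * Up Q ρ W x g) * ∑ T ∈ fixd (img ρ) (Opp Q W x) (g * m), D ρ ⊥ T (g * m) := by
    intro m hm
    have hm' := (Finset.mem_filter.1 hm).2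
    rw [hO.L_eq (H.mul_mem hg.1 hm'.1) hx (by rw [img_mul, hm'.2.1]; exact hg.2), hO.up_mul hm']
    ring
  rw [Finset.sum_congr rfl e1, ← Finset.mul_sum,
    Finset.sum_comm' (t' := Opp Q W x) (s' := fun T =>
      (Finset.univ.filter (· ∈ H ⊓ trivSub Q ρ W x)).filter fun m => img ρ (g * m) T = T)
      (fun m T => by simp only [Finset.mem_filter, fixd]; tauto)]
  refine mul_eq_zero_of_right _ (Finset.sum_eq_zero fun T hT => ?_)
  by_cases hne : ∃ m₀ ∈ H ⊓ trivSub Q ρ W x, img ρ (g * m₀) T = T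
  · obtain ⟨m₀, hm₀, hfix⟩ := hne
    rw [← avg_D ρ (Module.finrank F T) _ ⊥ T (g * m₀) (hO.hasTv_opp hx hT) (img ρ _).map_bot hfix
      (by rw [finrank_bot, zero_add]) (by rw [(mem_Opp.1 hT).2.2]; exact h2)]
    refine Finset.sum_bij' (fun m _ => m₀⁻¹ * m) (fun m _ => m₀ * m) ?_ ?_
      (fun m _ => mul_inv_cancel_left _ _) (fun m _ => inv_mul_cancel_left _ _)
      (fun m _ => by rw [mul_assoc, mul_inv_cancel_left])
    · intro m hm
      obtain ⟨hm1, hm2⟩ := Finset.mem_filter.1 hm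
      refine Finset.mem_filter.2 ⟨Finset.mem_univ _,
        Subgroup.mul_mem _ (Subgroup.inv_mem _ hm₀) (Finset.mem_filter.1 hm1).2, ?_⟩
      show img ρ (m₀⁻¹ * m) T = T
      rw [show m₀⁻¹ * m = (g * m₀)⁻¹ * (g * m) by group, img_mul, hm2]
      exact img_inv_of ρ _ hfix
    · intro m hm
      obtain ⟨-, hm1, hm2⟩ := Finset.mem_filter.1 hm
      refine Finset.mem_filter.2
        ⟨Finset.mem_filter.2 ⟨Finset.mem_univ _, Subgroup.mul_mem _ hm₀ hm1⟩, ?_⟩
      rw [← mul_assoc, img_mul, show img ρ m T = T from hm2, hfix]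
  · refine Finset.sum_eq_zero fun m hm => absurd ?_ hne
    simp only [Finset.mem_filter, Finset.mem_univ, true_and] at hm
    exact ⟨m, hm.1, hm.2⟩

omit [Finite V] in
theorem sum_card_stab {α : Type*} [PartialOrder α] (act : G →* α ≃o α) (M : Subgroup G)
    (X : Finset α) (hX : ∀ m ∈ M, ∀ a ∈ X, act m a ∈ X) {a₀ : α} (ha₀ : a₀ ∈ X)
    (ht : ∀ a ∈ X, ∀ b ∈ X, ∃ m ∈ M, act m a = b) :
    (Finset.univ.filter (· ∈ M)).card =
        ∑ a ∈ X, (Finset.univ.filter fun m => m ∈ M ∧ act m a = a).card ∧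
      (Finset.univ.filter (· ∈ M)).card =
        X.card * (Finset.univ.filter fun m => m ∈ M ∧ act m a₀ = a₀).card := by
  have h1 : ∀ a ∈ X, ((Finset.univ.filter (· ∈ M)).filter fun m => act m a₀ = a).card =
      (Finset.univ.filter fun m => m ∈ M ∧ act m a₀ = a₀).card := fun a ha => by
    obtain ⟨r, hr, hra⟩ := ht a ha a₀ ha₀
    rw [Finset.filter_filter]
    exact card_move act M M.one_mem hr (by rw [map_one]; rfl) hra
  have h2 : ∀ a ∈ X, (Finset.univ.filter fun m => m ∈ M ∧ act m a = a).card =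
      (Finset.univ.filter fun m => m ∈ M ∧ act m a₀ = a₀).card := fun a ha => by
    obtain ⟨r, hr, hra⟩ := ht a ha a₀ ha₀
    obtain ⟨t, ht', hta⟩ := ht a₀ ha₀ a ha
    exact card_move act M ht' hr hta hra
  have h3 := Finset.card_eq_sum_card_fiberwise (f := fun m => act m a₀) (t := X)
    (s := Finset.univ.filter (· ∈ M)) fun m hm => hX m (Finset.mem_filter.1 hm).2 a₀ ha₀
  rw [Finset.sum_congr rfl h1, Finset.sum_const, smul_eq_mul] at h3
  exact ⟨by rw [Finset.sum_congr rfl h2, Finset.sum_const, smul_eq_mul, h3], h3⟩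

/-- Not a hyperbolic plane. -/
def Thick (Q : Geo F V) (W : Submodule F V) : Prop :=
  (∃ c : F, c ≠ 0 ∧ Q.θ c = 0) ∨ 3 ≤ Module.finrank F W

/-- The orthogonal space of a pair. -/
def sub2 (Q : Geo F V) (W : Submodule F V) (e f : V) : Submodule F V :=
  W ⊓ Q.perp (F ∙ e) ⊓ Q.perp (F ∙ f)

omit [Finite V] [Fintype G] in
theorem mem_sub2 {e f v : V} : v ∈ sub2 Q W e f ↔ v ∈ W ∧ Q.B v e = 0 ∧ Q.B v f = 0 :=
  ⟨fun h => ⟨h.1.1, h.1.2 e (Submodule.mem_span_singleton_self e),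
    h.2 f (Submodule.mem_span_singleton_self f)⟩,
    fun h => ⟨⟨h.1, Q.mem_perp_span h.2.1⟩, Q.mem_perp_span h.2.2⟩⟩

omit [Finite V] [Fintype G] in
theorem pair_ne {e f : V} (hfe : Q.B f e = 1) : Q.B e f ≠ 0 := fun h => by
  have := Q.refl _ _ h; rw [hfe] at this; exact one_ne_zero this

omit [Finite V] [Fintype G] in
theorem decomp2 {e f u : V} (he : e ∈ W) (hf : f ∈ W) (hes : Q.Φ e = 0) (hfs : Q.Φ f = 0)
    (hfe : Q.B f e = 1) (hu : u ∈ W) :
    ∃ a b : F, u - a • e - b • f ∈ sub2 Q W e f := by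
  refine ⟨Q.B u f / Q.B e f, Q.B u e,
    mem_sub2.2 ⟨W.sub_mem (W.sub_mem hu (W.smul_mem _ he)) (W.smul_mem _ hf), ?_, ?_⟩⟩
  · rw [Q.sub_left, Q.sub_left, Q.smul_left, Q.smul_left, Q.iso e hes, hfe]; ring
  · rw [Q.sub_left, Q.sub_left, Q.smul_left, Q.smul_left, Q.iso f hfs, mul_zero, sub_zero,
      div_mul_cancel₀ _ (pair_ne hfe), sub_self]

omit [Fintype G] in
theorem finrank_sub2_le (e f : V) :
    Module.finrank F W ≤ Module.finrank F (sub2 Q W e f) + 2 := by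
  have : Module.Finite F V := Module.Finite.of_finite
  have h1 := Q.finrank_le_inf_perp W (F ∙ e)
  have h2 := Q.finrank_le_inf_perp (W ⊓ Q.perp (F ∙ e)) (F ∙ f)
  have h3 : ∀ v : V, Module.finrank F (F ∙ v) ≤ 1 := fun v =>
    (finrank_span_le_card ({v} : Set V)).trans (by simp)
  have := h3 e; have := h3 f
  show _ ≤ Module.finrank F ↥(W ⊓ Q.perp (F ∙ e) ⊓ Q.perp (F ∙ f)) + 2
  omega

omit [Fintype G] in
/-- A third singular line opposite to two given ones. -/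
theorem Ok.exists_third (hO : Ok Q ρ p H W) (hth : Thick Q W) {e1 e2 : V} (h1 : e1 ∈ W)
    (h2 : e2 ∈ W) (hs1 : Q.Φ e1 = 0) (hs2 : Q.Φ e2 = 0) (hne : ∀ a : F, e2 ≠ a • e1) (h10 : e1 ≠ 0) :
    ∃ u ∈ W, Q.Φ u = 0 ∧ Q.B u e1 ≠ 0 ∧ Q.B u e2 ≠ 0 := by
  by_cases h12 : Q.B e2 e1 = 0
  · obtain ⟨u, hu, hus, hu1⟩ := hO.exists_partner h1 h10 hs1
    by_cases hu2 : Q.B u e2 ≠ 0
    · exact ⟨u, hu, hus, by rw [hu1]; exact one_ne_zero, hu2⟩
    · have h20 : e2 ≠ 0 := fun h => hne 0 (by rw [h, zero_smul])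
      obtain ⟨u', hu', hus', hu'2⟩ := hO.exists_partner h2 h20 hs2
      by_cases hu'1 : Q.B u' e1 ≠ 0
      · exact ⟨u', hu', hus', hu'1, by rw [hu'2]; exact one_ne_zero⟩
      push Not at hu2 hu'1
      obtain ⟨c, hc⟩ := Q.trace (u + u')
      obtain ⟨d, hd⟩ := Q.σ_surj (-c)
      have hsum : Q.B (u + u') e1 = 1 := by rw [Q.add_left, hu1, hu'1, add_zero]
      refine ⟨u + u' + d • e1, W.add_mem (W.add_mem hu hu') (W.smul_mem _ h1), ?_, ?_, ?_⟩
      · rw [Q.Φ_add, Q.Φ_smul d e1 hs1, Q.smul_right, hsum, mul_one, hd, map_neg, hc]; ring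
      · rw [Q.add_left, hsum, Q.smul_left, Q.iso e1 hs1, mul_zero, add_zero]; exact one_ne_zero
      · rw [Q.add_left, Q.add_left, hu2, hu'2, Q.smul_left, Q.refl _ _ h12, mul_zero, zero_add,
          add_zero]
        exact one_ne_zero
  · set f := (Q.B e2 e1)⁻¹ • e2 with hf
    have hfe : Q.B f e1 = 1 := by rw [hf, Q.smul_left, inv_mul_cancel₀ h12]
    have hfs : Q.Φ f = 0 := Q.Φ_smul _ _ hs2
    have hfW : f ∈ W := W.smul_mem _ h2
    suffices h : ∃ w ∈ sub2 Q W e1 f, ∃ c : F, c ≠ 0 ∧ Q.θ (Q.σ c) = -(Q.Φ (w + f)) by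
      obtain ⟨w, hw, c, hc0, hc⟩ := h
      obtain ⟨hwW, hwe, hwf⟩ := mem_sub2.1 hw
      have hwfe : Q.B (w + f) e1 = 1 := by rw [Q.add_left, hwe, hfe, zero_add]
      refine ⟨w + f + c • e1, W.add_mem (W.add_mem hwW hfW) (W.smul_mem _ h1), ?_, ?_, fun h0 => ?_⟩
      · rw [Q.Φ_add, Q.Φ_smul c e1 hs1, Q.smul_right, hwfe, mul_one, hc]; ring
      · rw [Q.add_left, hwfe, Q.smul_left, Q.iso e1 hs1, mul_zero, add_zero]; exact one_ne_zero
      · have h0' : Q.B (w + f + c • e1) f = 0 := by rw [hf, Q.smul_right, h0, mul_zero]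
        rw [Q.add_left, Q.add_left, hwf, Q.iso f hfs, Q.smul_left, zero_add, zero_add] at h0'
        exact mul_ne_zero hc0 (pair_ne hfe) h0'
    by_cases hker : ∃ c : F, c ≠ 0 ∧ Q.θ c = 0
    · obtain ⟨c, hc0, hc⟩ := hker
      obtain ⟨d, rfl⟩ := Q.σ_surj c
      exact ⟨0, zero_mem _, d, fun h => hc0 (by rw [h, map_zero]), by rw [zero_add, hfs, hc, neg_zero]⟩
    · push Not at hker
      have hinj : ∀ c : F, Q.θ c = 0 → c = 0 := fun c hc => by_contra fun h => hker c h hc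
      obtain ⟨w, hw, hΦ⟩ : ∃ w ∈ sub2 Q W e1 f, Q.Φ w ≠ 0 := by
        by_contra hall
        push Not at hall
        have hzero : sub2 Q W e1 f = ⊥ := eq_bot_iff.2 fun w hw => by
          obtain ⟨hwW, hwe, hwf⟩ := mem_sub2.1 hw
          refine (Submodule.mem_bot F).2 (hO.nondeg w hwW fun u hu => ?_)
          obtain ⟨a, b, hu'⟩ := decomp2 h1 hfW hs1 hfs hfe hu
          have hww : Q.B w (u - a • e1 - b • f) = 0 := hinj _ (by
            have := hall _ (Submodule.add_mem _ hw hu')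
            rwa [Q.Φ_add, hall w hw, hall _ hu', zero_add, zero_add] at this)
          rw [Q.sub_right, Q.sub_right, Q.smul_right, Q.smul_right, hwe, hwf] at hww
          linear_combination hww
        have h3 := finrank_sub2_le (Q := Q) (W := W) e1 f
        rw [hzero, finrank_bot] at h3
        rcases hth with ⟨c, hc0, hc⟩ | h3'
        · exact hc0 (hinj c hc)
        · omega
      have hwf : Q.B w f = 0 := (mem_sub2.1 hw).2.2
      obtain ⟨c, hc⟩ := Q.trace w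
      obtain ⟨d, hd⟩ := Q.σ_surj (-c)
      refine ⟨w, hw, d, fun h => hΦ ?_, ?_⟩
      · rw [h, map_zero] at hd
        rw [← hc, show c = 0 by linear_combination hd, map_zero]
      · rw [hd, map_neg, hc, Q.Φ_add, hfs, hwf, map_zero, add_zero, add_zero]

omit [Fintype G] in
/-- Singular lines are permuted transitively. -/
theorem Ok.move_line (hO : Ok Q ρ p H W) (hth : Thick Q W) {e1 e2 : V} (h1 : e1 ∈ W) (h2 : e2 ∈ W)
    (hs1 : Q.Φ e1 = 0) (hs2 : Q.Φ e2 = 0) (h10 : e1 ≠ 0) (h20 : e2 ≠ 0) :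
    ∃ h ∈ H, img ρ h (F ∙ e1) = F ∙ e2 := by
  by_cases hsame : ∃ a : F, e2 = a • e1
  · obtain ⟨a, rfl⟩ := hsame
    have ha : a ≠ 0 := fun h => h20 (by rw [h, zero_smul])
    exact ⟨1, H.one_mem, by rw [img_one, Submodule.span_singleton_smul_eq (IsUnit.mk0 a ha)]⟩
  push Not at hsame
  obtain ⟨w, hw, hws, hw1, hw2⟩ := hO.exists_third hth h1 h2 hs1 hs2 hsame h10
  have n1 : Q.B e1 w ≠ 0 := fun h => hw1 (Q.refl _ _ h)
  have n2 : Q.B e2 w ≠ 0 := fun h => hw2 (Q.refl _ _ h)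
  obtain ⟨h, hh, -, hhu, -, -⟩ := hO.eichler w hw ((Q.B e1 w)⁻¹ • e1) (W.smul_mem _ h1)
    ((Q.B e2 w)⁻¹ • e2) (W.smul_mem _ h2) hws (Q.Φ_smul _ _ hs1) (Q.Φ_smul _ _ hs2)
    (by rw [Q.smul_left, inv_mul_cancel₀ n1]) (by rw [Q.smul_left, inv_mul_cancel₀ n2])
  refine ⟨h, hh, img_eq_of_le ρ (fun y hy => ?_) ?_⟩
  · obtain ⟨c, rfl⟩ := Submodule.mem_span_singleton.1 hy
    rw [map_smul, show ρ h e1 = Q.B e1 w • ρ h ((Q.B e1 w)⁻¹ • e1) by
      rw [← map_smul, smul_inv_smul₀ n1], hhu]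
    exact Submodule.smul_mem _ _ (Submodule.smul_mem _ _
      (Submodule.smul_mem _ _ (Submodule.mem_span_singleton_self _)))
  · rw [finrank_span_singleton h10, finrank_span_singleton h20]

/-- The singular lines. -/
noncomputable def Lines (Q : Geo F V) (W : Submodule F V) : Finset (Submodule F V) :=
  (Pts Q W).filter fun U => Module.finrank F U = 1

omit [Fintype G] in
theorem mem_Lines {U : Submodule F V} :
    U ∈ Lines Q W ↔ ∃ e ∈ W, e ≠ 0 ∧ Q.Φ e = 0 ∧ U = F ∙ e := by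
  simp only [Lines, Finset.mem_filter, mem_Pts]
  constructor
  · rintro ⟨⟨-, hUs, hUW⟩, hr⟩
    obtain ⟨⟨e, he⟩, he0, hgen⟩ := finrank_eq_one_iff'.1 hr
    refine ⟨e, hUW he, fun h => he0 (Subtype.ext h), hUs.1 e he, le_antisymm (fun y hy => ?_)
      ((Submodule.span_singleton_le_iff_mem _ _).2 he)⟩
    obtain ⟨c, hc⟩ := hgen ⟨y, hy⟩
    exact Submodule.mem_span_singleton.2 ⟨c, congrArg Subtype.val hc⟩
  · rintro ⟨e, he, he0, hes, rfl⟩
    exact ⟨⟨Submodule.span_singleton_eq_bot.not.2 he0, Q.sing_span hes,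
      (Submodule.span_singleton_le_iff_mem _ _).2 he⟩, finrank_span_singleton he0⟩

omit [Fintype G] in
theorem Ok.img_lines (hO : Ok Q ρ p H W) {h : G} (hh : h ∈ H) {U : Submodule F V}
    (hU : U ∈ Lines Q W) : img ρ h U ∈ Lines Q W := by
  obtain ⟨h1, h2⟩ := Finset.mem_filter.1 hU
  exact Finset.mem_filter.2 ⟨hO.img_pts hh h1, by rw [finrank_img, h2]⟩

omit [Fintype G] in
theorem Ok.move_lines (hO : Ok Q ρ p H W) (hth : Thick Q W) :
    ∀ a ∈ Lines Q W, ∀ b ∈ Lines Q W, ∃ m ∈ H, img ρ m a = b := by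
  intro a ha b hb
  obtain ⟨e, he, he0, hes, rfl⟩ := mem_Lines.1 ha
  obtain ⟨e', he', he0', hes', rfl⟩ := mem_Lines.1 hb
  exact hO.move_line hth he he' hes hes' he0 he0'

/-- The mean value is zero. -/
theorem Ok.sum_L (hO : Ok Q ρ p H W) (hth : Thick Q W) (hne : (Lines Q W).Nonempty) :
    ∑ g ∈ Finset.univ.filter (· ∈ H), L Q ρ W g = 0 := by
  have hwt : ∀ g : G, chi (fixd (img ρ) (Pts Q W) g) =
      ∑ x ∈ fixd (img ρ) (Pts Q W) g, D ρ ⊥ x g := fun g => by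
    rw [← chi_dual, chi_eq, Finset.sum_map]
    refine Finset.sum_congr rfl fun x hx => ?_
    rw [wt, D, ← chi_dual (fixd (img ρ) (Ivl ⊥ x) g)]
    congr 2
    ext U
    obtain ⟨U, rfl⟩ := OrderDual.toDual.surjective U
    simp only [fixd, Finset.mem_filter, mem_Pts] at hx
    simp only [Finset.mem_filter, Finset.mem_map_equiv, Equiv.coe_toEmbedding,
      OrderDual.toDual_lt_toDual, fixd, mem_Ivl, mem_Pts, bot_lt_iff_ne_bot,
      OrderDual.toDual_symm_eq, OrderDual.ofDual_toDual]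
    exact ⟨fun h => ⟨⟨h.1.1.1, h.2⟩, h.1.2⟩, fun h => ⟨⟨⟨h.1.1, hx.1.2.1.mono h.1.2.le,
      h.1.2.le.trans hx.1.2.2⟩, h.2⟩, h.1.2⟩⟩
  simp only [L, Finset.sum_sub_distrib, hwt]
  rw [Finset.sum_comm' (t' := Pts Q W)
    (s' := fun x => Finset.univ.filter fun g => g ∈ H ∧ img ρ g x = x)
    (fun g x => by simp only [Finset.mem_filter, fixd, Finset.mem_univ, true_and]; tauto)]
  obtain ⟨e₀, he₀⟩ := hne
  rw [sub_eq_zero, Finset.sum_const, nsmul_one,
    (sum_card_stab (img ρ) H (Lines Q W) (fun m hm a ha => hO.img_lines hm ha) he₀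
      (hO.move_lines hth)).1, Nat.cast_sum, Lines, Finset.sum_filter]
  refine Finset.sum_congr rfl fun x hx => ?_
  obtain ⟨hx0, hxs, hxW⟩ := (mem_Pts Q).1 hx
  have : Module.Finite F V := Module.Finite.of_finite
  split_ifs with hr
  · rw [← nsmul_one, ← Finset.sum_const]
    refine Finset.sum_congr rfl fun g _ => ?_
    have hempty : Ivl ⊥ x = ∅ := Finset.eq_empty_of_forall_notMem fun U hU => by
      obtain ⟨h1, h2⟩ := mem_Ivl.1 hU
      have h3 := Submodule.finrank_lt_finrank_of_lt h1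
      have h4 := Submodule.finrank_lt_finrank_of_lt h2
      omega
    simp [D, fixd, hempty, chi_empty]
  · have h2 : 2 ≤ Module.finrank F x := by
      have := Submodule.finrank_eq_zero.not.2 hx0
      omega
    have h := avg_D ρ (Module.finrank F x) _ ⊥ x 1 (hO.hasTv_sing hxs hxW) (img ρ _).map_bot
      (img_one ρ x) (by rw [finrank_bot, zero_add]) h2
    simp only [one_mul] at h
    rw [← h]
    exact Finset.sum_congr (Finset.filter_congr fun g _ => Iff.rfl) fun _ _ => rfl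

end Cfsg.Agent.SteinbergPolar
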