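import Cfsg.Agent.Lib.GolaySpan70

/-!
Every S(5,8,24) is the system of octads, every S(4,7,23) its derived system.
-/

set_option autoImplicit false

namespace Cfsg.Agent.SteinerLarge70

open Cfsg Cfsg.Agent.GolaySpan70 Finset
open scoped Pointwise

section Moments

variable {α : Type*} [Fintype α] [DecidableEq α] {t k : ℕ} {B : Finset (Finset α)}

/-- The number of blocks meeting a set in a given number of points. -/
def meetNum (B : Finset (Finset α)) (T : Finset α) (i : ℕ) : ℕ :=
  (B.filter fun d => (d ∩ T).card = i).card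

theorem meetNum_eq (hB : IsSteinerSystem t k (B : Set (Finset α))) (htk : t ≤ k) {v : ℕ}
    (hv : Fintype.card α = v) {T : Finset α} (hT : T.card ≤ 6) {j : ℕ} (hj : j ≤ t) :
    ∑ i ∈ range 7, meetNum B T i * i.choose j =
      T.card.choose j * ((v - j).choose (t - j) / (k - j).choose (t - j)) := by
  rw [← hv, ← SteinerTriangle.moment hB htk T hj, ← sum_fiberwise_of_maps_to (t := range 7)
    (g := fun d => (d ∩ T).card) (fun d _ => mem_range.2 (by
      have := card_le_card (inter_subset_right : d ∩ T ⊆ T); omega))]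
  refine sum_congr rfl fun i _ => ?_
  rw [sum_congr rfl (g := fun _ => i.choose j) (fun d hd => by rw [(mem_filter.1 hd).2]),
    sum_const, smul_eq_mul]
  rfl

theorem meetNum_zero_of_odd {T : Finset α} (h : ∀ b ∈ B, 2 ∣ (T ∩ b).card) {i : ℕ}
    (hi : ¬ 2 ∣ i) : meetNum B T i = 0 :=
  card_eq_zero.2 (filter_eq_empty_iff.2 fun d hd he => hi (by rw [← he, inter_comm]; exact h d hd))

theorem meetNum_zero_of_even {T : Finset α} (h : ∀ b ∈ B, ¬ 2 ∣ (T ∩ b).card) {i : ℕ}
    (hi : 2 ∣ i) : meetNum B T i = 0 :=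
  card_eq_zero.2 (filter_eq_empty_iff.2 fun d hd he => h d hd (by rw [inter_comm, he]; exact hi))

theorem no_even24 (hB : IsSteinerSystem 5 8 (B : Set (Finset α))) (hv : Fintype.card α = 24)
    {T : Finset α} (hT : T.card ≤ 6) (h : ∀ b ∈ B, 2 ∣ (T ∩ b).card) : T = ∅ := by
  have k1 := meetNum_eq hB (by norm_num) hv hT (j := 1) (by norm_num)
  have k2 := meetNum_eq hB (by norm_num) hv hT (j := 2) (by norm_num)
  have k3 := meetNum_eq hB (by norm_num) hv hT (j := 3) (by norm_num)
  have k4 := meetNum_eq hB (by norm_num) hv hT (j := 4) (by norm_num)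
  have k5 := meetNum_eq hB (by norm_num) hv hT (j := 5) (by norm_num)
  simp [sum_range_succ, meetNum_zero_of_odd h (show ¬ 2 ∣ 1 by norm_num),
    meetNum_zero_of_odd h (show ¬ 2 ∣ 3 by norm_num),
    meetNum_zero_of_odd h (show ¬ 2 ∣ 5 by norm_num), Nat.choose] at k1 k2 k3 k4 k5
  rw [← card_eq_zero]
  generalize T.card = m at hT k1 k2 k3 k4 k5 ⊢
  interval_cases m <;> simp at k1 k2 k3 k4 k5 ⊢ <;> omega

theorem no_even23 (hB : IsSteinerSystem 4 7 (B : Set (Finset α))) (hv : Fintype.card α = 23)
    {T : Finset α} (hT : T.card ≤ 6) (h : ∀ b ∈ B, 2 ∣ (T ∩ b).card) : T = ∅ := by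
  have k1 := meetNum_eq hB (by norm_num) hv hT (j := 1) (by norm_num)
  have k2 := meetNum_eq hB (by norm_num) hv hT (j := 2) (by norm_num)
  have k3 := meetNum_eq hB (by norm_num) hv hT (j := 3) (by norm_num)
  have k4 := meetNum_eq hB (by norm_num) hv hT (j := 4) (by norm_num)
  simp [sum_range_succ, meetNum_zero_of_odd h (show ¬ 2 ∣ 1 by norm_num),
    meetNum_zero_of_odd h (show ¬ 2 ∣ 3 by norm_num),
    meetNum_zero_of_odd h (show ¬ 2 ∣ 5 by norm_num), Nat.choose] at k1 k2 k3 k4
  rw [← card_eq_zero]
  generalize T.card = m at hT k1 k2 k3 k4 ⊢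
  interval_cases m <;> norm_num [Nat.choose_eq_descFactorial_div_factorial, Nat.descFactorial, Nat.factorial] at k1 k2 k3 k4 ⊢ <;> omega

theorem no_odd23 (hB : IsSteinerSystem 4 7 (B : Set (Finset α))) (hv : Fintype.card α = 23)
    {T : Finset α} (hT : T.card ≤ 5) (h : ∀ b ∈ B, ¬ 2 ∣ (T ∩ b).card) : False := by
  have hT6 : T.card ≤ 6 := by omega
  have k0 := meetNum_eq hB (by norm_num) hv hT6 (j := 0) (by norm_num)
  have k1 := meetNum_eq hB (by norm_num) hv hT6 (j := 1) (by norm_num)
  have k2 := meetNum_eq hB (by norm_num) hv hT6 (j := 2) (by norm_num)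
  have k3 := meetNum_eq hB (by norm_num) hv hT6 (j := 3) (by norm_num)
  have k4 := meetNum_eq hB (by norm_num) hv hT6 (j := 4) (by norm_num)
  simp [sum_range_succ, meetNum_zero_of_even h (show 2 ∣ 0 by norm_num),
    meetNum_zero_of_even h (show 2 ∣ 2 by norm_num),
    meetNum_zero_of_even h (show 2 ∣ 4 by norm_num),
    meetNum_zero_of_even h (show 2 ∣ 6 by norm_num), Nat.choose] at k0 k1 k2 k3 k4
  generalize T.card = m at hT k0 k1 k2 k3 k4
  interval_cases m <;> norm_num [Nat.choose_eq_descFactorial_div_factorial, Nat.descFactorial, Nat.factorial] at k0 k1 k2 k3 k4 <;> omega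

end Moments

/-- A permutation preserving the abstract code goes to an element of the standard group. -/
theorem mem_M24_of_invariant {C : Submodule (ZMod 2) AbstractGolay.V} {e : Fin 24 ≃ GolayPt}
    (hkey : ∀ w : GolayPt → ZMod 2, w ∈ golayCode ↔ (fun i => w (e i)) ∈ C)
    {σ : Equiv.Perm (Fin 24)} (hσ : ∀ w ∈ C, (fun i => w (σ.symm i)) ∈ C) :
    e.permCongr σ ∈ M24 := by
  refine GolayPerm.mem_M24_iff.2 ?_
  rintro s ⟨w, hw, rfl⟩
  refine ⟨fun x => w ((e.permCongr σ).symm x), (hkey _).2 ?_, ?_⟩
  · have := hσ _ ((hkey w).1 hw)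
    have e1 : (fun i => w ((e.permCongr σ).symm (e i))) = fun i => w (e (σ.symm i)) :=
      funext fun i => by simp [Equiv.permCongr_def]
    rw [e1]
    exact this
  · ext p
    rw [Finset.mem_smul_finset]
    simp only [support₂, mem_filter, mem_univ, true_and]
    constructor
    · intro hp
      exact ⟨_, hp, (e.permCongr σ).apply_symm_apply p⟩
    · rintro ⟨z, hz, rfl⟩
      rwa [Equiv.Perm.smul_def, Equiv.symm_apply_apply]

variable {α : Type*} [Fintype α] [DecidableEq α] {B : Finset (Finset α)}

theorem standard24 (hv : Fintype.card α = 24) (hB : IsSteinerSystem 5 8 (B : Set (Finset α))) :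
    ∃ e : α ≃ GolayPt, ∀ b : Finset α, b ∈ B ↔ b.image e ∈ octads := by
  classical
  let E : α ≃ Fin 24 := Fintype.equivFinOfCardEq hv
  let F : Set (Finset (Fin 24)) := (fun b => b.image E) '' (B : Set (Finset α))
  have hF : ∀ b ∈ F, b.card = 8 := by
    rintro _ ⟨b, hb, rfl⟩
    rw [card_image_of_injective _ E.injective]; exact hB.1 b hb
  have heven : ∀ a ∈ F, ∀ b ∈ F, 2 ∣ (a ∩ b).card := by
    rintro _ ⟨a, ha, rfl⟩ _ ⟨b, hb, rfl⟩
    rw [← image_inter _ _ E.injective, card_image_of_injective _ E.injective]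
    rcases eq_or_ne a b with rfl | hne
    · rw [inter_self, hB.1 a ha]; norm_num
    · rcases SteinerTriangle.inter8 hB hv ha hb hne with h | h | h <;> rw [h] <;> norm_num
  have hno : ∀ T : Finset (Fin 24), T.card ≤ 6 → (∀ b ∈ F, 2 ∣ (T ∩ b).card) → T = ∅ := by
    intro T hT h
    have hT' : T = (T.image E.symm).image E := by
      rw [image_image, show (E : α → Fin 24) ∘ E.symm = id from funext E.apply_symm_apply, image_id]
    rw [hT', image_eq_empty]
    refine no_even24 hB hv (card_image_le.trans hT) fun b hb => ?_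
    have := h _ ⟨b, hb, rfl⟩
    rwa [hT', ← image_inter _ _ E.injective, card_image_of_injective _ E.injective] at this
  have hC := isGolay_spanInd hF heven hno
  obtain ⟨e, -, -, -, hblocks⟩ := exists_standard hC (p := 0) (q := 1) (by decide)
  refine ⟨E.trans e, fun b => ?_⟩
  have hcomp : b.image (E.trans e) = (b.image E).image e := by rw [image_image]; rfl
  rw [hcomp, ← hblocks]
  refine ⟨fun hb => blocks_mem hF ⟨b, hb, rfl⟩, fun hb => ?_⟩
  obtain ⟨-, h8⟩ := GolayUnique70.mem_blocks.1 hb
  rw [card_image_of_injective _ E.injective] at h8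
  obtain ⟨s, hs, hs5⟩ := exists_subset_card_eq (show 5 ≤ b.card by omega)
  obtain ⟨c, ⟨hc, hsc⟩, -⟩ := hB.2 s hs5
  have := SteinerTriangle.eq_of_subset (GolayUnique70.blocks_steiner hC) hb
    (blocks_mem hF ⟨c, hc, rfl⟩) (s := s.image E) (by rw [card_image_of_injective _ E.injective, hs5])
    (image_subset_image hs) (image_subset_image hsc)
  rwa [image_injective E.injective this]

/-- A block with the extra point. -/
def ext1 (b : Finset α) : Finset (Option α) := insertNone b

theorem ext1_inter (a b : Finset α) : ext1 a ∩ ext1 b = ext1 (a ∩ b) := by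
  ext x; cases x <;> simp [ext1]

@[simp] theorem none_mem_ext1 (b : Finset α) : none ∈ ext1 b := none_mem_insertNone

@[simp] theorem some_mem_ext1 {b : Finset α} {a : α} : some a ∈ ext1 b ↔ a ∈ b := some_mem_insertNone

theorem standard23 (hv : Fintype.card α = 23) (hB : IsSteinerSystem 4 7 (B : Set (Finset α))) :
    ∃ E : Option α ≃ GolayPt, E none = none ∧
      (∀ b : Finset α, b ∈ B ↔ (ext1 b).image E ∈ octads) ∧
      ∀ g ∈ setSystemAut (B : Set (Finset α)), E.permCongr (Equiv.optionCongr g) ∈ M24 := by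
  classical
  let E : Option α ≃ Fin 24 := Fintype.equivFinOfCardEq (by rw [Fintype.card_option, hv])
  let F : Set (Finset (Fin 24)) := (fun b => (ext1 b).image E) '' (B : Set (Finset α))
  have hcard : ∀ b : Finset α, ((ext1 b).image E).card = b.card + 1 := fun b => by
    rw [card_image_of_injective _ E.injective, ext1, card_insertNone]
  have hF : ∀ b ∈ F, b.card = 8 := by
    rintro _ ⟨b, hb, rfl⟩
    rw [hcard, hB.1 b hb]
  have heven : ∀ a ∈ F, ∀ b ∈ F, 2 ∣ (a ∩ b).card := by
    rintro _ ⟨a, ha, rfl⟩ _ ⟨b, hb, rfl⟩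
    rw [← image_inter _ _ E.injective, ext1_inter, hcard]
    rcases eq_or_ne a b with rfl | hne
    · rw [inter_self, hB.1 a ha]; norm_num
    · rcases SteinerTriangle.inter7 hB hv ha hb hne with h | h <;> rw [h] <;> norm_num
  have hno : ∀ T : Finset (Fin 24), T.card ≤ 6 → (∀ b ∈ F, 2 ∣ (T ∩ b).card) → T = ∅ := by
    intro T hT h
    set U := T.image E.symm with hU
    have hTU : T = U.image E := by
      rw [hU, image_image, show (E : Option α → Fin 24) ∘ E.symm = id from funext E.apply_symm_apply,
        image_id]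
    have hUc : U.card ≤ 6 := card_image_le.trans hT
    have hUT : ∀ b ∈ B, 2 ∣ (U ∩ ext1 b).card := fun b hb => by
      have := h _ ⟨b, hb, rfl⟩
      rwa [hTU, ← image_inter _ _ E.injective, card_image_of_injective _ E.injective] at this
    rw [hTU, image_eq_empty]
    have hsplit : ∀ b : Finset α, (U ∩ ext1 b).card =
        (eraseNone U ∩ b).card + (if none ∈ U then 1 else 0) := by
      intro b
      have e : eraseNone (U ∩ ext1 b) = eraseNone U ∩ b := by ext a; simp [ext1]
      rw [← e, card_eraseNone_eq_card_erase]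
      by_cases hn : none ∈ U
      · have hm : none ∈ U ∩ ext1 b := by simp [hn, ext1]
        rw [if_pos hn, card_erase_of_mem hm]
        have := card_pos.2 ⟨_, hm⟩
        omega
      · have hm : none ∉ U ∩ ext1 b := by simp [hn]
        rw [if_neg hn, erase_eq_of_notMem hm, add_zero]
    by_cases hn : none ∈ U
    · exfalso
      refine no_odd23 hB hv (T := eraseNone U) ?_ fun b hb hd => ?_
      · rw [card_eraseNone_eq_card_erase, card_erase_of_mem hn]; omega
      · have := hUT b hb
        rw [hsplit, if_pos hn] at this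
        omega
    · have h0 : eraseNone U = ∅ := by
        refine no_even23 hB hv ?_ fun b hb => ?_
        · rw [card_eraseNone_eq_card_erase, erase_eq_of_notMem hn]; exact hUc
        · have := hUT b hb
          rwa [hsplit, if_neg hn, add_zero] at this
      refine eq_empty_of_forall_notMem fun x hx => ?_
      cases x with
      | none => exact hn hx
      | some a => exact notMem_empty a (h0 ▸ mem_eraseNone.2 hx)
  have hC := isGolay_spanInd hF heven hno
  obtain ⟨q, hq⟩ : ∃ q, q ≠ E none := exists_ne _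
  obtain ⟨e, he, -, hkey, hblocks⟩ := exists_standard hC (p := E none) (q := q) hq.symm
  refine ⟨E.trans e, he, fun b => ?_, fun g hg => ?_⟩
  · have hcomp : (ext1 b).image (E.trans e) = ((ext1 b).image E).image e := by rw [image_image]; rfl
    rw [hcomp, ← hblocks]
    refine ⟨fun hb => blocks_mem hF ⟨b, hb, rfl⟩, fun hb => ?_⟩
    obtain ⟨-, h8⟩ := GolayUnique70.mem_blocks.1 hb
    rw [hcard] at h8
    obtain ⟨s, hs, hs4⟩ := exists_subset_card_eq (show 4 ≤ b.card by omega)
    obtain ⟨c, ⟨hc, hsc⟩, -⟩ := hB.2 s hs4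
    have := SteinerTriangle.eq_of_subset (GolayUnique70.blocks_steiner hC) hb
      (blocks_mem hF ⟨c, hc, rfl⟩) (s := (ext1 s).image E) (by rw [hcard, hs4])
      (image_subset_image (insertNone.monotone hs)) (image_subset_image (insertNone.monotone hsc))
    have h2 := congrArg eraseNone (image_injective E.injective this)
    simp only [ext1, eraseNone_insertNone] at h2
    rwa [h2]
  · rw [show (E.trans e).permCongr (Equiv.optionCongr g) = e.permCongr (E.permCongr (Equiv.optionCongr g))
      from Equiv.ext fun x => by simp [Equiv.permCongr_def]]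
    refine mem_M24_of_invariant hkey fun w hw => spanInd_perm _ ?_ hw
    rintro _ ⟨b, hb, rfl⟩
    refine ⟨g • b, ?_, ?_⟩
    · rw [Finset.mem_coe]
      have := (MulAction.mem_stabilizer_iff.1 hg).subset (Set.smul_mem_smul_set (a := g) (mem_coe.2 hb))
      exact this
    · rw [Finset.smul_finset_def, Finset.smul_finset_def]
      ext x
      simp only [mem_image, Equiv.Perm.smul_def, Equiv.permCongr_apply]
      constructor
      · rintro ⟨y, hy, rfl⟩
        refine ⟨E (Equiv.optionCongr g.symm y), ⟨_, ?_, rfl⟩, ?_⟩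
        · cases y with
          | none => exact none_mem_ext1 b
          | some a =>
            obtain ⟨c, hc, rfl⟩ := mem_image.1 (some_mem_ext1.1 hy)
            show some (g.symm (g c)) ∈ _
            rw [Equiv.symm_apply_apply]
            exact some_mem_ext1.2 hc
        · cases y <;> simp
      · rintro ⟨_, ⟨y, hy, rfl⟩, rfl⟩
        refine ⟨Equiv.optionCongr g y, ?_, by simp⟩
        cases y with
        | none => simp
        | some a => simpa using hy

end Cfsg.Agent.SteinerLarge70
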