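import Cfsg.Agent.Lib.SteinerHexadTable70
import Cfsg.Agent.Lib.SteinerLarge70

/-!
Uniqueness of S(5,6,12): a system is determined by the matchings attached to a block.
-/

set_option autoImplicit false

namespace Cfsg.Agent.SteinerHexad70

open Cfsg Cfsg.Agent.SteinerLarge70 Cfsg.Agent.SteinerHexadTable70 Finset
open scoped Pointwise

/-- The twelve points: a block and its complement. -/
abbrev P : Type := Fin 6 ⊕ Fin 6

/-- The chosen block. -/
def L : Finset P := (univ : Finset (Fin 6)).disjSum ∅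

/-- Four points of the chosen block and two others. -/
def Fb (i j a b : Fin 6) : Finset P := ({i, j}ᶜ : Finset (Fin 6)).disjSum {a, b}

theorem Fb_comm (i j a b : Fin 6) : Fb i j a b = Fb j i a b := by rw [Fb, Fb, pair_comm i j]

theorem card_split (c : Finset P) : c.toLeft.card + c.toRight.card = c.card :=
  card_toLeft_add_card_toRight

theorem card_pair_compl {i j : Fin 6} (h : i ≠ j) : ({i, j}ᶜ : Finset (Fin 6)).card = 4 := by
  rw [card_compl, card_pair h, Fintype.card_fin]

variable {B : Finset (Finset P)} (hB : IsSteinerSystem 5 6 (B : Set (Finset P)))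
include hB

theorem same {c d s : Finset P} (hc : c ∈ B) (hd : d ∈ B) (hs : 5 ≤ s.card) (hsc : s ⊆ c)
    (hsd : s ⊆ d) : c = d :=
  SteinerTriangle.eq_of_subset hB hc hd hs hsc hsd

theorem compl_mem {c : Finset P} (hc : c ∈ B) : cᶜ ∈ B := by
  have h6 := hB.1 c hc
  have hv : Fintype.card P = 12 := rfl
  have k0 := meetNum_eq hB (by norm_num) hv (T := c) h6.le (j := 0) (by norm_num)
  have k1 := meetNum_eq hB (by norm_num) hv (T := c) h6.le (j := 1) (by norm_num)
  have k2 := meetNum_eq hB (by norm_num) hv (T := c) h6.le (j := 2) (by norm_num)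
  have k3 := meetNum_eq hB (by norm_num) hv (T := c) h6.le (j := 3) (by norm_num)
  have k4 := meetNum_eq hB (by norm_num) hv (T := c) h6.le (j := 4) (by norm_num)
  have e5 : meetNum B c 5 = 0 := card_eq_zero.2 (filter_eq_empty_iff.2 fun d hd he => by
    have := same hB hd hc he.ge inter_subset_left inter_subset_right
    rw [this, inter_self, h6] at he
    omega)
  have e6 : meetNum B c 6 = 1 := by
    rw [meetNum, card_eq_one]
    refine ⟨c, ext fun d => ?_⟩
    simp only [mem_filter, mem_singleton]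
    refine ⟨fun ⟨hd, he⟩ => same hB hd hc (by omega) inter_subset_left inter_subset_right, ?_⟩
    rintro rfl
    exact ⟨hc, by rw [inter_self]; exact h6⟩
  rw [h6] at k0 k1 k2 k3 k4
  simp [sum_range_succ, e5, e6] at k0 k1 k2 k3 k4
  norm_num [Nat.choose_eq_descFactorial_div_factorial, Nat.descFactorial, Nat.factorial]
    at k0 k1 k2 k3 k4
  have h0 : 0 < meetNum B c 0 := by omega
  obtain ⟨d, hd⟩ := card_pos.1 h0
  obtain ⟨hdB, hdc⟩ := mem_filter.1 hd
  have : d ⊆ cᶜ := fun x hx => mem_compl.2 fun h =>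
    notMem_empty x (card_eq_zero.1 hdc ▸ mem_inter.2 ⟨hx, h⟩)
  rwa [← eq_of_subset_of_card_le this (by rw [card_compl, h6, hB.1 d hdB, hv])]

variable (hL : L ∈ B)
include hL

theorem left_le {c : Finset P} (hc : c ∈ B) (hne : c ≠ L) : c.toLeft.card ≤ 4 := by
  by_contra h
  refine hne (same hB hc hL (s := c.toLeft.disjSum ∅) ?_ ?_ ?_)
  · rw [card_disjSum]; simp; omega
  · intro x hx
    rcases x with i | a <;> simp at hx ⊢
    exact hx
  · intro x hx
    rcases x with i | a <;> simp [L] at hx ⊢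

theorem partner {i j : Fin 6} (hij : i ≠ j) : ∃ M, ∀ a, Fb i j a (par M a) ∈ B := by
  have h : ∀ a : Fin 6, ∃ b, b ≠ a ∧ Fb i j a b ∈ B := by
    intro a
    obtain ⟨c, ⟨hc, hsc⟩, -⟩ := hB.2 (({i, j}ᶜ : Finset (Fin 6)).disjSum {a})
      (by rw [card_disjSum, card_pair_compl hij, card_singleton])
    have ha : a ∈ c.toRight := mem_toRight.2 (hsc (by simp))
    have hne : c ≠ L := fun e => by rw [e] at ha; simp [L] at ha
    have h1 := left_le hB hL hc hne
    have hsub : ({i, j}ᶜ : Finset (Fin 6)) ⊆ c.toLeft := fun x hx =>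
      mem_toLeft.2 (hsc (inl_mem_disjSum.2 hx))
    have hl := eq_of_subset_of_card_le hsub (by rw [card_pair_compl hij]; exact h1)
    have h2 := card_split c
    rw [hB.1 c hc, ← hl, card_pair_compl hij] at h2
    obtain ⟨b, hb⟩ := card_eq_one.1 (show (c.toRight.erase a).card = 1 by
      rw [card_erase_of_mem ha]; omega)
    have hba : b ≠ a := ne_of_mem_erase (s := c.toRight) (hb ▸ mem_singleton_self b)
    refine ⟨b, hba, ?_⟩
    rw [Fb, hl, ← hb, insert_erase ha, toLeft_disjSum_toRight]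
    exact hc
  choose f hf1 hf2 using h
  obtain ⟨M, hM⟩ := exists_par f hf1 fun a => by
    by_contra hne
    have h3 := same hB (hf2 a) (hf2 (f a))
      (s := ({i, j}ᶜ : Finset (Fin 6)).disjSum {f a})
      (by rw [card_disjSum, card_pair_compl hij, card_singleton])
      (disjSum_mono_right _ (by simp)) (disjSum_mono_right _ (by simp))
    have : (Sum.inr (f (f a)) : P) ∈ Fb i j a (f a) := by rw [h3]; simp [Fb]
    simp [Fb, hne, hf1 (f a)] at this
  exact ⟨M, fun a => by rw [hM]; exact hf2 a⟩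

theorem partner_unique {i j a b : Fin 6} (hij : i ≠ j) (hab : a ≠ b) {M : Fin 15}
    (hM : ∀ a, Fb i j a (par M a) ∈ B) (h : Fb i j a b ∈ B) : par M a = b := by
  by_contra hne
  have h3 := same hB (hM a) h (s := ({i, j}ᶜ : Finset (Fin 6)).disjSum {a})
    (by rw [card_disjSum, card_pair_compl hij, card_singleton])
    (disjSum_mono_right _ (by simp)) (disjSum_mono_right _ (by simp))
  have : (Sum.inr b : P) ∈ Fb i j a (par M a) := by rw [h3]; simp [Fb]
  simp [Fb, Ne.symm hne, Ne.symm hab] at this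

variable {μ : Fin 6 → Fin 6 → Fin 15} (hμ : ∀ i j, i ≠ j → ∀ a, Fb i j a (par (μ i j) a) ∈ B)
include hμ

theorem mu_comm {i j : Fin 6} (hij : i ≠ j) (a : Fin 6) : par (μ i j) a = par (μ j i) a :=
  (partner_unique hB hL hij.symm (par_ne _ a).symm (hμ j i hij.symm)
    (Fb_comm i j _ _ ▸ hμ i j hij a)).symm

theorem disj {i j k : Fin 6} (hij : i ≠ j) (hik : i ≠ k) (hjk : j ≠ k) :
    Disj (μ i j) (μ i k) := by
  intro a he
  have h3 := same hB (hμ i j hij a) (hμ i k hik a)
    (s := ({i, j, k}ᶜ : Finset (Fin 6)).disjSum {a, par (μ i j) a})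
    (by rw [card_disjSum, card_pair (par_ne _ a).symm, card_compl,
      card_eq_three.2 ⟨i, j, k, hij, hik, hjk, rfl⟩, Fintype.card_fin])
    (disjSum_mono (by intro x; simp; tauto) (le_refl _))
    (disjSum_mono (by intro x; simp; tauto) (by rw [he]))
  have : (Sum.inl k : P) ∈ Fb i k a (par (μ i k) a) := by
    rw [← h3]
    simp [Fb, hik.symm, hjk.symm]
  simp [Fb] at this

theorem third {i j k a b : Fin 6} (hij : i ≠ j) (hik : i ≠ k) (hjk : j ≠ k) (hab : a ≠ b)
    (hc : par (μ i j) a ≠ b ∧ par (μ i k) a ≠ b ∧ par (μ j k) a ≠ b) :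
    ∃ r, r ≠ a ∧ r ≠ b ∧ ({i, j, k}ᶜ : Finset (Fin 6)).disjSum {a, b, r} ∈ B ∧
      par (μ i j) a ≠ r ∧ par (μ i k) a ≠ r ∧ par (μ j k) a ≠ r ∧
      par (μ i j) b ≠ r ∧ par (μ i k) b ≠ r ∧ par (μ j k) b ≠ r := by
  have h3 : ({i, j, k}ᶜ : Finset (Fin 6)).card = 3 := by
    rw [card_compl, card_eq_three.2 ⟨i, j, k, hij, hik, hjk, rfl⟩, Fintype.card_fin]
  obtain ⟨c, ⟨hcB, hsc⟩, -⟩ := hB.2 (({i, j, k}ᶜ : Finset (Fin 6)).disjSum {a, b})
    (by rw [card_disjSum, h3, card_pair hab])
  -- `c` does not meet the block in one of the four-sets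
  have key : ∀ p q : Fin 6, p ≠ q → ({i, j, k}ᶜ : Finset (Fin 6)) ⊆ {p, q}ᶜ → ∀ x ∈ c.toRight,
      ∀ y ∈ c.toRight, par (μ p q) x = y → c = Fb p q x y := by
    intro p q hpq hsub x hx y hy he
    subst he
    refine same hB hcB (hμ p q hpq x)
      (s := ({i, j, k}ᶜ : Finset (Fin 6)).disjSum {x, par (μ p q) x}) ?_ ?_ (disjSum_mono hsub (le_refl _))
    · rw [card_disjSum, h3, card_pair (par_ne _ x).symm]
    · intro z hz
      rcases z with l | r
      · exact hsc (inl_mem_disjSum.2 (inl_mem_disjSum.1 hz))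
      · rcases mem_insert.1 (inr_mem_disjSum.1 hz) with rfl | h
        · exact mem_toRight.1 hx
        · rw [mem_singleton.1 h]; exact mem_toRight.1 hy
  have hne : c ≠ L := fun e => by
    have : (Sum.inr a : P) ∈ c := hsc (by simp)
    simp [e, L] at this
  have hsubl : ({i, j, k}ᶜ : Finset (Fin 6)) ⊆ c.toLeft := fun x hx =>
    mem_toLeft.2 (hsc (inl_mem_disjSum.2 hx))
  have hsubr : ({a, b} : Finset (Fin 6)) ⊆ c.toRight := fun x hx =>
    mem_toRight.2 (hsc (inr_mem_disjSum.2 hx))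
  have hle := left_le hB hL hcB hne
  have hsum := card_split c
  rw [hB.1 c hcB] at hsum
  have hl : c.toLeft = ({i, j, k}ᶜ : Finset (Fin 6)) := by
    refine (eq_of_subset_of_card_le hsubl ?_).symm
    rw [h3]
    by_contra h4
    have hr := eq_of_subset_of_card_le hsubr (by rw [card_pair hab]; omega)
    obtain ⟨l, hl1, hl2⟩ := exists_mem_notMem_of_card_lt_card (s := ({i, j, k}ᶜ : Finset (Fin 6)))
      (t := c.toLeft) (by omega)
    have hl3 : insert l ({i, j, k}ᶜ : Finset (Fin 6)) = c.toLeft :=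
      eq_of_subset_of_card_le (insert_subset hl1 hsubl) (by rw [card_insert_of_notMem hl2, h3]; omega)
    have hmem : ∀ p q : Fin 6, p ≠ q → insert l ({i, j, k}ᶜ : Finset (Fin 6)) = {p, q}ᶜ →
        par (μ p q) a = b := fun p q hpq e => by
      refine partner_unique hB hL hpq hab (hμ p q hpq) ?_
      rw [Fb, ← e, hl3, hr, toLeft_disjSum_toRight]
      exact hcB
    simp only [mem_compl, mem_insert, mem_singleton, not_or, not_and, not_not] at hl2
    have hl4 : l = i ∨ l = j ∨ l = k := by tauto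
    rcases hl4 with rfl | rfl | rfl
    · refine hc.2.2 (hmem j k hjk ?_)
      ext x; simp; grind
    · refine hc.2.1 (hmem i k hik ?_)
      ext x; simp; grind
    · refine hc.1 (hmem i j hij ?_)
      ext x; simp; grind
  rw [hl, h3] at hsum
  obtain ⟨r, hr1, hr2⟩ := exists_mem_notMem_of_card_lt_card (s := ({a, b} : Finset (Fin 6)))
    (t := c.toRight) (by rw [card_pair hab]; omega)
  have hr2' : r ≠ a ∧ r ≠ b := by simpa [not_or] using hr2
  have hr3 : c.toRight = {a, b, r} := by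
    refine (eq_of_subset_of_card_le ?_ ?_).symm
    · intro x hx
      simp only [mem_insert, mem_singleton] at hx
      rcases hx with rfl | rfl | rfl
      · exact hsubr (by simp)
      · exact hsubr (by simp)
      · exact hr1
    · rw [card_eq_three.2 ⟨a, b, r, hab, hr2'.1.symm, hr2'.2.symm, rfl⟩]; omega
  have hbad : ∀ p q : Fin 6, p ≠ q → ({i, j, k}ᶜ : Finset (Fin 6)) ⊆ {p, q}ᶜ →
      ∀ x ∈ c.toRight, par (μ p q) x ≠ r := by
    intro p q hpq hsub x hx he
    have := congrArg Finset.toLeft (key p q hpq hsub x hx r hr1 he)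
    rw [Fb, toLeft_disjSum, hl] at this
    have h4 := congrArg Finset.card this
    rw [h3, card_pair_compl hpq] at h4
    omega
  have hsubs : ({i, j, k}ᶜ : Finset (Fin 6)) ⊆ {i, j}ᶜ ∧ ({i, j, k}ᶜ : Finset (Fin 6)) ⊆ {i, k}ᶜ ∧
      ({i, j, k}ᶜ : Finset (Fin 6)) ⊆ {j, k}ᶜ := by
    refine ⟨?_, ?_, ?_⟩ <;> intro x <;> simp <;> tauto
  have ha : a ∈ c.toRight := hsubr (by simp)
  have hb : b ∈ c.toRight := hsubr (by simp)
  refine ⟨r, hr2'.1, hr2'.2, ?_, hbad i j hij hsubs.1 a ha, hbad i k hik hsubs.2.1 a ha,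
    hbad j k hjk hsubs.2.2 a ha, hbad i j hij hsubs.1 b hb, hbad i k hik hsubs.2.1 b hb,
    hbad j k hjk hsubs.2.2 b hb⟩
  rw [← hl, ← hr3, toLeft_disjSum_toRight]
  exact hcB

theorem totals : ∃ τ : Equiv.Perm (Fin 6), ∀ i j, i ≠ j → mem (τ i) (μ i j) ∧ mem (τ j) (μ i j) := by
  have h : ∀ i : Fin 6, ∃ T, ∀ j, i ≠ j → mem T (μ i j) := by
    intro i
    have hd : ∀ p q : Fin 5, p ≠ q → Disj (μ i (i.succAbove p)) (μ i (i.succAbove q)) := fun p q h =>
      disj hB hL hμ (Fin.succAbove_ne i p).symm (Fin.succAbove_ne i q).symm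
        fun e => h (Fin.succAbove_right_injective e)
    obtain ⟨T, t0, t1, t2, t3, t4⟩ := five _ _ (hd 0 1 (by decide)) _ (hd 0 2 (by decide))
      (hd 1 2 (by decide)) _ (hd 0 3 (by decide)) (hd 1 3 (by decide)) (hd 2 3 (by decide)) _
      (hd 0 4 (by decide)) (hd 1 4 (by decide)) (hd 2 4 (by decide)) (hd 3 4 (by decide))
    refine ⟨T, fun j hj => ?_⟩
    obtain ⟨p, rfl⟩ := Fin.exists_succAbove_eq hj.symm
    fin_cases p <;> assumption
  choose τ hτ using h
  have hsym : ∀ i j, i ≠ j → μ i j = μ j i := by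
    intro i j hij
    by_contra hne
    have h2 : ∀ M N : Fin 15, M ≠ N → ∃ a, par M a ≠ par N a := by decide +kernel
    obtain ⟨a, ha⟩ := h2 _ _ hne
    exact ha (mu_comm hB hL hμ hij a)
  have hinj : Function.Injective τ := by
    intro i j he
    by_contra hij
    obtain ⟨k, hki, hkj⟩ : ∃ k, k ≠ i ∧ k ≠ j := by
      revert hij; clear he; revert i j; decide
    have d1 : μ i j ≠ μ i k := fun e => disj hB hL hμ hij hki.symm hkj.symm 0 (by rw [e])
    have d2 : μ i j ≠ μ j k := fun e => disj hB hL hμ (Ne.symm hij) hkj.symm hki.symm 0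
      (by rw [← hsym i j hij, e])
    have d3 : μ i k ≠ μ j k := fun e => disj hB hL hμ hki hkj hij 0
      (by rw [← hsym i k hki.symm, ← hsym j k hkj.symm, e])
    obtain ⟨a, b, hab, hc, hno⟩ := no_triangle (τ i) _ (hτ i j hij) _ (hτ i k hki.symm) d1 _
      (he ▸ hτ j k hkj.symm) d2 d3
    obtain ⟨r, hra, hrb, -, h1, h2, h3, h4, h5, h6⟩ :=
      third hB hL hμ hij hki.symm hkj.symm hab hc
    rcases hno r hra hrb with h | h | h | h | h | h <;> contradiction
  refine ⟨Equiv.ofBijective τ (Finite.injective_iff_bijective.1 hinj), fun i j hij => ⟨hτ i j hij, ?_⟩⟩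
  rw [hsym i j hij]
  exact hτ j i hij.symm

theorem subset_of_partners {B' : Finset (Finset P)} (hB' : IsSteinerSystem 5 6 (B' : Set (Finset P)))
    (hL' : L ∈ B') (hμ' : ∀ i j, i ≠ j → ∀ a, Fb i j a (par (μ i j) a) ∈ B') : B ⊆ B' := by
  intro c hc
  have key4 : ∀ d ∈ B, d.toLeft.card = 4 → d ∈ B' := by
    intro d hd h4
    obtain ⟨i, j, hij, he⟩ := card_eq_two.1 (show (d.toLeftᶜ).card = 2 by
      rw [card_compl, h4, Fintype.card_fin])
    have hr := card_split d
    rw [hB.1 d hd, h4] at hr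
    obtain ⟨a, b, hab, hab'⟩ := card_eq_two.1 (show d.toRight.card = 2 by omega)
    have hd' : d = Fb i j a b := by
      rw [Fb, ← he, compl_compl, ← hab', toLeft_disjSum_toRight]
    rw [hd'] at hd ⊢
    rw [← partner_unique hB hL hij hab (hμ i j hij) hd]
    exact hμ' i j hij a
  have key5 : ∀ d ∈ B, 4 ≤ d.toLeft.card → d ∈ B' := by
    intro d hd h
    rcases eq_or_ne d L with rfl | hne
    · exact hL'
    · exact key4 d hd (le_antisymm (left_le hB hL hd hne) h)
  rcases Nat.lt_or_ge c.toLeft.card 4 with h | h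
  swap
  · exact key5 c hc h
  have hr := card_split c
  rw [hB.1 c hc] at hr
  rcases Nat.lt_or_ge c.toLeft.card 3 with h2 | h2
  · have hm := key5 _ (compl_mem hB hc) (by
      have : (cᶜ).toLeft = (c.toLeft)ᶜ := by ext x; simp
      rw [this, card_compl, Fintype.card_fin]
      omega)
    simpa using compl_mem hB' hm
  obtain ⟨i, j, k, hij, hik, hjk, he⟩ := card_eq_three.1 (show (c.toLeftᶜ).card = 3 by
    rw [card_compl, Fintype.card_fin]; omega)
  obtain ⟨a, b, r, hab, har, hbr, hr'⟩ := card_eq_three.1 (show c.toRight.card = 3 by omega)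
  have hc' : c = ({i, j, k}ᶜ : Finset (Fin 6)).disjSum {a, b, r} := by
    rw [← he, compl_compl, ← hr', toLeft_disjSum_toRight]
  have hcov : ∀ p q : Fin 6, p ≠ q → ({i, j, k}ᶜ : Finset (Fin 6)) ⊆ {p, q}ᶜ → ∀ x ∈ c.toRight,
      ∀ y ∈ c.toRight, par (μ p q) x ≠ y := by
    intro p q hpq hsub x hx y hy hxy
    subst hxy
    have h3 : ({i, j, k}ᶜ : Finset (Fin 6)).card = 3 := by
      rw [card_compl, card_eq_three.2 ⟨i, j, k, hij, hik, hjk, rfl⟩, Fintype.card_fin]
    have := same hB hc (hμ p q hpq x)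
      (s := ({i, j, k}ᶜ : Finset (Fin 6)).disjSum {x, par (μ p q) x})
      (by rw [card_disjSum, h3, card_pair (par_ne _ x).symm])
      (by
        rw [hc']
        refine disjSum_mono_right _ ?_
        rw [← hr']
        simp [insert_subset_iff, hx, hy])
      (disjSum_mono hsub (le_refl _))
    have h4 := congrArg (fun s => s.toLeft.card) this
    simp only [Fb, toLeft_disjSum, card_pair_compl hpq] at h4
    omega
  have hsubs : ({i, j, k}ᶜ : Finset (Fin 6)) ⊆ {i, j}ᶜ ∧ ({i, j, k}ᶜ : Finset (Fin 6)) ⊆ {i, k}ᶜ ∧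
      ({i, j, k}ᶜ : Finset (Fin 6)) ⊆ {j, k}ᶜ := by
    refine ⟨?_, ?_, ?_⟩ <;> intro x <;> simp <;> tauto
  have ha : a ∈ c.toRight := by simp [hr']
  have hb : b ∈ c.toRight := by simp [hr']
  have hr0 : r ∈ c.toRight := by simp [hr']
  obtain ⟨r', ha', hb', hm, u1, u2, u3, -⟩ := third hB' hL' hμ' hij hik hjk hab
    ⟨hcov i j hij hsubs.1 a ha b hb, hcov i k hik hsubs.2.1 a ha b hb,
      hcov j k hjk hsubs.2.2 a ha b hb⟩
  rw [hc']
  suffices r' = r by rwa [this] at hm
  by_contra hne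
  have hd1 : par (μ i j) a ≠ par (μ i k) a := disj hB hL hμ hij hik hjk a
  have hd2 : par (μ i j) a ≠ par (μ j k) a := by
    rw [mu_comm hB hL hμ hij]
    exact disj hB hL hμ hij.symm hjk hik a
  have hd3 : par (μ i k) a ≠ par (μ j k) a := by
    rw [mu_comm hB hL hμ hik, mu_comm hB hL hμ hjk]
    exact disj hB hL hμ hik.symm hjk.symm hij a
  have h7 : [a, b, r, r', par (μ i j) a, par (μ i k) a, par (μ j k) a].Nodup := by
    simp [hab, har, hbr, ha'.symm, hb'.symm, Ne.symm hne, u1.symm, u2.symm, u3.symm, hd1, hd2, hd3,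
      (par_ne _ a).symm, (hcov i j hij hsubs.1 a ha b hb).symm,
      (hcov i k hik hsubs.2.1 a ha b hb).symm, (hcov j k hjk hsubs.2.2 a ha b hb).symm,
      (hcov i j hij hsubs.1 a ha r hr0).symm, (hcov i k hik hsubs.2.1 a ha r hr0).symm,
      (hcov j k hjk hsubs.2.2 a ha r hr0).symm]
  have := h7.length_le_card
  simp at this

omit hB hL hμ

theorem exists_matchings {B : Finset (Finset P)} (hB : IsSteinerSystem 5 6 (B : Set (Finset P)))
    (hL : L ∈ B) : ∃ (μ : Fin 6 → Fin 6 → Fin 15) (τ : Equiv.Perm (Fin 6)),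
      (∀ i j, i ≠ j → ∀ a, Fb i j a (par (μ i j) a) ∈ B) ∧
      ∀ i j, i ≠ j → mem (τ i) (μ i j) ∧ mem (τ j) (μ i j) := by
  have h : ∀ i j : Fin 6, ∃ M, i ≠ j → ∀ a, Fb i j a (par M a) ∈ B := fun i j => by
    rcases eq_or_ne i j with rfl | hij
    · exact ⟨0, fun h => absurd rfl h⟩
    · obtain ⟨M, hM⟩ := partner hB hL hij
      exact ⟨M, fun _ => hM⟩
  choose μ hμ using h
  obtain ⟨τ, hτ⟩ := totals hB hL hμ
  exact ⟨μ, τ, hμ, hτ⟩

theorem exists_perm {B B' : Finset (Finset P)} (hB : IsSteinerSystem 5 6 (B : Set (Finset P)))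
    (hB' : IsSteinerSystem 5 6 (B' : Set (Finset P))) (hL : L ∈ B) (hL' : L ∈ B') :
    ∃ g : Equiv.Perm P, B.image (fun c => c.image g) = B' := by
  obtain ⟨μ, τ, hμ, hτ⟩ := exists_matchings hB hL
  obtain ⟨μ', τ', hμ', hτ'⟩ := exists_matchings hB' hL'
  set π := τ.trans τ'.symm with hπ
  set g : Equiv.Perm P := Equiv.sumCongr π (Equiv.refl _) with hg
  refine ⟨g, ?_⟩
  have himg : ∀ (s t : Finset (Fin 6)), (s.disjSum t).image g = (s.image π).disjSum t := by
    intro s t
    ext x
    rcases x with x | x <;> simp [hg]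
  have hB'' : IsSteinerSystem 5 6 ((B.image fun c => c.image g) : Set (Finset P)) := by
    constructor
    · intro c hc
      obtain ⟨d, hd, rfl⟩ := mem_image.1 (mem_coe.1 hc)
      rw [card_image_of_injective _ g.injective]; exact hB.1 d hd
    · intro s hs
      obtain ⟨c, ⟨hc, hsc⟩, huniq⟩ := hB.2 (s.image g.symm)
        (by rw [card_image_of_injective _ g.symm.injective, hs])
      have hback : ∀ u : Finset P, (u.image g.symm).image g = u := fun u => by
        rw [image_image, show (g : P → P) ∘ g.symm = id from funext g.apply_symm_apply, image_id]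
      refine ⟨c.image g, ⟨mem_coe.2 (mem_image_of_mem _ hc), hback s ▸ image_subset_image hsc⟩, ?_⟩
      rintro d ⟨hd, hsd⟩
      obtain ⟨d', hd', rfl⟩ := mem_image.1 (mem_coe.1 hd)
      rw [huniq d' ⟨hd', fun x hx => ?_⟩]
      obtain ⟨y, hy, rfl⟩ := mem_image.1 hx
      obtain ⟨z, hz, rfl⟩ := mem_image.1 (hsd hy)
      simpa using hz
  have hL'' : L ∈ B.image fun c => c.image g := by
    refine mem_image.2 ⟨L, hL, ?_⟩
    rw [L, himg, image_univ_equiv]
  have hμ'' : ∀ i j, i ≠ j → ∀ a, Fb i j a (par (μ' i j) a) ∈ B.image fun c => c.image g := by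
    intro i j hij a
    have hne : π.symm i ≠ π.symm j := π.symm.injective.ne hij
    have e : μ' i j = μ (π.symm i) (π.symm j) := by
      have h1 := hτ' i j hij
      have h2 := hτ _ _ hne
      have e1 : ∀ x, τ (π.symm x) = τ' x := fun x => by simp [hπ]
      rw [e1, e1] at h2
      exact common _ _ _ _ (τ'.injective.ne hij) h1.1 h1.2 h2.1 h2.2
    refine mem_image.2 ⟨_, hμ _ _ hne a, ?_⟩
    rw [← e, Fb, Fb, himg]
    congr 1
    ext x
    simp only [mem_image, mem_compl, mem_insert, mem_singleton]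
    constructor
    · rintro ⟨y, hy, rfl⟩
      rw [Equiv.apply_eq_iff_eq_symm_apply, Equiv.apply_eq_iff_eq_symm_apply]
      exact hy
    · intro hx
      refine ⟨π.symm x, ?_, π.apply_symm_apply x⟩
      rwa [π.symm.injective.eq_iff, π.symm.injective.eq_iff]
  exact le_antisymm (subset_of_partners hB'' hL'' hμ'' hB' hL' hμ')
    (subset_of_partners hB' hL' hμ' hB'' hL'' hμ'')

theorem eq_one_of_fix {B : Finset (Finset P)} (hB : IsSteinerSystem 5 6 (B : Set (Finset P)))
    (hL : L ∈ B) {g : Equiv.Perm P} (hg : ∀ c ∈ B, c.image g ∈ B)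
    (hfix : ∀ i, g (Sum.inl i) = Sum.inl i) : g = 1 := by
  obtain ⟨μ, τ, hμ, hτ⟩ := exists_matchings hB hL
  have hr : ∀ a, ∃ b, g (Sum.inr a) = Sum.inr b := by
    intro a
    rcases h : g (Sum.inr a) with i | b
    · rw [← hfix i] at h
      exact absurd (g.injective h) (by simp)
    · exact ⟨b, rfl⟩
  choose h hh using hr
  have hinj : Function.Injective h := fun a b e => by
    simpa using g.injective ((hh a).trans ((congrArg Sum.inr e).trans (hh b).symm))
  have hcomm : ∀ M a, par M (h a) = h (par M a) := by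
    intro M a
    obtain ⟨T, T', hTT', hT, hT'⟩ := mem_two M
    set i := τ.symm T
    set j := τ.symm T'
    have hij : i ≠ j := τ.symm.injective.ne hTT'
    have e : μ i j = M := by
      have h2 := hτ i j hij
      simp only [i, j, Equiv.apply_symm_apply] at h2
      exact common _ _ _ _ hTT' h2.1 h2.2 hT hT'
    refine e ▸ partner_unique hB hL hij (hinj.ne (par_ne _ a).symm) (hμ i j hij) ?_
    have h3 := hg _ (hμ i j hij a)
    convert h3 using 1
    ext x
    rcases x with x | x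
    · simp only [Fb, inl_mem_disjSum, mem_image]
      refine ⟨fun hx => ⟨Sum.inl x, inl_mem_disjSum.2 hx, hfix x⟩, ?_⟩
      rintro ⟨y | y, hy, he⟩
      · rw [hfix, Sum.inl.injEq] at he
        exact he ▸ inl_mem_disjSum.1 hy
      · rw [hh] at he; exact absurd he (by simp)
    · simp only [Fb, inr_mem_disjSum, mem_image, mem_insert, mem_singleton, Prod.exists]
      constructor
      · rintro (rfl | rfl)
        · exact ⟨Sum.inr a, by simp, hh a⟩
        · exact ⟨Sum.inr (par (μ i j) a), by simp, hh _⟩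
      · rintro ⟨y | y, hy, he⟩
        · rw [hfix] at he; exact absurd he (by simp)
        · rw [hh, Sum.inr.injEq] at he
          subst he
          simp at hy
          rcases hy with rfl | rfl <;> simp
  have hid : ∀ a, h a = a := by
    intro a
    by_contra hne
    obtain ⟨M, N, hMN, hne'⟩ := separated a (h a) (Ne.symm hne)
    rw [hcomm M, hcomm N, hMN] at hne'
    exact hne' rfl
  refine Equiv.ext fun x => ?_
  rcases x with i | a
  · exact hfix i
  · rw [hh, hid]; rfl

end Cfsg.Agent.SteinerHexad70
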