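import Cfsg.Agent.Lib.SteinerHexad70
import Cfsg.Agent.Lib.GolayStab
import Cfsg.Agent.Lib.GolaySimple
import Cfsg.Prelude.Def_Sporadic
import Cfsg.Agent.S0385

/-!
Isomorphism and automorphism group of the system S(5,6,12).
-/

set_option autoImplicit false

namespace Cfsg.Agent.SteinerHexadAut70

open Cfsg Cfsg.Agent.SteinerHexad70 Finset
open scoped Pointwise

variable {α β : Type*} [Fintype α] [DecidableEq α] [Fintype β] [DecidableEq β]

theorem image_system {B : Finset (Finset α)} (hB : IsSteinerSystem 5 6 (B : Set (Finset α)))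
    (e : α ≃ β) : IsSteinerSystem 5 6 ((B.image fun c => c.image e : Finset (Finset β)) : Set (Finset β)) := by
  have hback : ∀ u : Finset β, (u.image e.symm).image e = u := fun u => by
    rw [image_image, show (e : α → β) ∘ e.symm = id from funext e.apply_symm_apply, image_id]
  have hfwd : ∀ u : Finset α, (u.image e).image e.symm = u := fun u => by
    rw [image_image, show (e.symm : β → α) ∘ e = id from funext e.symm_apply_apply, image_id]
  constructor
  · intro c hc
    obtain ⟨d, hd, rfl⟩ := mem_image.1 (mem_coe.1 hc)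
    rw [card_image_of_injective _ e.injective]; exact hB.1 d hd
  · intro s hs
    obtain ⟨c, ⟨hc, hsc⟩, huniq⟩ := hB.2 (s.image e.symm)
      (by rw [card_image_of_injective _ e.symm.injective, hs])
    refine ⟨c.image e, ⟨mem_coe.2 (mem_image_of_mem _ hc), hback s ▸ image_subset_image hsc⟩, ?_⟩
    rintro d ⟨hd, hsd⟩
    obtain ⟨d', hd', rfl⟩ := mem_image.1 (mem_coe.1 hd)
    rw [huniq d' ⟨hd', hfwd d' ▸ image_subset_image hsd⟩]

theorem exists_block_frame (hv : Fintype.card α = 12) {b : Finset α} (hb : b.card = 6) :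
    ∃ e : α ≃ P, b.image e = L := by
  have h1 : Fintype.card {a // a ∈ b} = 6 := by rw [Fintype.card_coe, hb]
  have h2 : Fintype.card {a // a ∉ b} = 6 := by
    rw [Fintype.card_subtype_compl, hv, Fintype.card_coe, hb]
  let e : α ≃ P := (Equiv.sumCompl fun a => a ∈ b).symm.trans
    (Equiv.sumCongr (Fintype.equivFinOfCardEq h1) (Fintype.equivFinOfCardEq h2))
  refine ⟨e, eq_of_subset_of_card_le ?_ ?_⟩
  · intro z hz
    obtain ⟨a, ha, rfl⟩ := mem_image.1 hz
    simp [e, L, Equiv.sumCompl_symm_apply_of_pos ha]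
  · rw [card_image_of_injective _ e.injective, hb, L]
    simp

theorem iso12 {B : Set (Finset α)} {B' : Set (Finset β)} (hα : Fintype.card α = 12)
    (hβ : Fintype.card β = 12) (hB : IsSteinerSystem 5 6 B) (hB' : IsSteinerSystem 5 6 B') :
    SetSystemIso B B' := by
  classical
  obtain ⟨C, rfl⟩ : ∃ C : Finset (Finset α), (C : Set (Finset α)) = B := ⟨_, (Set.toFinite B).coe_toFinset⟩
  obtain ⟨C', rfl⟩ : ∃ C' : Finset (Finset β), (C' : Set (Finset β)) = B' :=
    ⟨_, (Set.toFinite B').coe_toFinset⟩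
  have hne : ∀ {γ : Type _} [Fintype γ] [DecidableEq γ] {D : Finset (Finset γ)},
      Fintype.card γ = 12 → IsSteinerSystem 5 6 (D : Set (Finset γ)) → ∃ b, b ∈ D ∧ b.card = 6 := by
    intro γ _ _ D hγ hD
    obtain ⟨s, -, hs⟩ := exists_subset_card_eq (s := (univ : Finset γ)) (n := 5) (by rw [card_univ, hγ]; norm_num)
    obtain ⟨b, ⟨hb, -⟩, -⟩ := hD.2 s hs
    exact ⟨b, hb, hD.1 b hb⟩
  obtain ⟨b, hb, hb6⟩ := hne hα hB
  obtain ⟨s, -, hs⟩ := exists_subset_card_eq (s := (univ : Finset β)) (n := 5) (by rw [card_univ, hβ]; norm_num)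
  obtain ⟨b', ⟨hb', -⟩, -⟩ := hB'.2 s hs
  obtain ⟨e, he⟩ := exists_block_frame hα hb6
  obtain ⟨e', he'⟩ := exists_block_frame hβ (hB'.1 b' hb')
  obtain ⟨g, hg⟩ := exists_perm (image_system hB e) (image_system hB' e')
    (mem_image.2 ⟨b, hb, he⟩) (mem_image.2 ⟨b', hb', he'⟩)
  refine ⟨(e.trans g).trans e'.symm, ?_⟩
  rw [← coe_image, coe_inj]
  have h := congrArg (fun D : Finset (Finset P) => D.image fun c => c.image e'.symm) hg
  simp only [image_image, Function.comp_def, Equiv.symm_apply_apply, image_id'] at h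
  simpa [Equiv.trans_apply, image_image, Function.comp_def] using h

theorem fix_five {B : Set (Finset α)} (hv : Fintype.card α = 12) (hB : IsSteinerSystem 5 6 B)
    (x : Fin 5 ↪ α) {g : Equiv.Perm α} (hg : g ∈ setSystemAut B) (hx : ∀ i, g (x i) = x i) :
    g = 1 := by
  classical
  obtain ⟨C, rfl⟩ : ∃ C : Finset (Finset α), (C : Set (Finset α)) = B := ⟨_, (Set.toFinite B).coe_toFinset⟩
  set s : Finset α := univ.map x with hsdef
  have hs : s.card = 5 := by rw [hsdef, card_map, card_univ, Fintype.card_fin]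
  obtain ⟨b, ⟨hb, hsb⟩, huniq⟩ := hB.2 s hs
  have hstab : ∀ c ∈ C, c.image g ∈ C := fun c hc => by
    have h := (MulAction.mem_stabilizer_iff.1 hg).subset (Set.smul_mem_smul_set (mem_coe.2 hc))
    exact h
  have hgb : b.image g = b := huniq _ ⟨hstab b hb, fun z hz => by
    obtain ⟨i, -, rfl⟩ := mem_map.1 hz
    exact mem_image.2 ⟨_, hsb hz, hx i⟩⟩
  obtain ⟨y, hy⟩ := card_eq_one.1 (show (b \ s).card = 1 by
    rw [card_sdiff_of_subset hsb, hB.1 b hb, hs])
  have hgb' : ∀ z ∈ b, g z = z := by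
    intro z hz
    by_cases hzs : z ∈ s
    · obtain ⟨i, -, rfl⟩ := mem_map.1 hzs
      exact hx i
    have hzy : z = y := mem_singleton.1 (hy ▸ mem_sdiff.2 ⟨hz, hzs⟩)
    have hgz : g z ∈ b \ s := by
      refine mem_sdiff.2 ⟨hgb ▸ mem_image_of_mem g hz, fun h => ?_⟩
      obtain ⟨i, -, hi⟩ := mem_map.1 h
      exact hzs (mem_map.2 ⟨i, mem_univ i, g.injective ((hx i).trans hi)⟩)
    rw [hy, mem_singleton] at hgz
    rw [hgz, hzy]
  obtain ⟨e, he⟩ := exists_block_frame hv (hB.1 b hb)
  have h1 : e.permCongr g = 1 := by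
    refine eq_one_of_fix (image_system hB e) (mem_image.2 ⟨b, hb, he⟩) (fun c hc => ?_) fun i => ?_
    · obtain ⟨d, hd, rfl⟩ := mem_image.1 hc
      refine mem_image.2 ⟨_, hstab d hd, ?_⟩
      rw [image_image, image_image]
      exact image_congr fun a _ => by simp [Equiv.permCongr_apply]
    · have hi : (Sum.inl i : P) ∈ b.image e := by rw [he]; simp [L]
      obtain ⟨a, ha, hae⟩ := mem_image.1 hi
      rw [← hae, Equiv.permCongr_apply, Equiv.symm_apply_apply, hgb' a ha]
  ext a
  have := congrArg (fun f : Equiv.Perm P => e.symm (f (e a))) h1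
  simpa [Equiv.permCongr_apply] using this

/-- The image of five fixed points. -/
def orbitMap (B : Set (Finset α)) (x : Fin 5 ↪ α) (g : setSystemAut B) : Fin 5 ↪ α :=
  x.trans (g : Equiv.Perm α).toEmbedding

theorem orbitMap_injective {B : Set (Finset α)} (hv : Fintype.card α = 12)
    (hB : IsSteinerSystem 5 6 B) (x : Fin 5 ↪ α) : Function.Injective (orbitMap B x) := by
  intro g h he
  have hgh : ((h⁻¹ * g : setSystemAut B) : Equiv.Perm α) = 1 := fix_five hv hB x (SetLike.coe_mem _)
    fun i => by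
      have := DFunLike.congr_fun he i
      change g.1 (x i) = h.1 (x i) at this
      simp [this]
  exact (inv_mul_eq_one.1 (Subtype.ext hgh)).symm

theorem card_le {B : Set (Finset α)} (hv : Fintype.card α = 12) (hB : IsSteinerSystem 5 6 B) :
    Nat.card (setSystemAut B) ≤ 95040 := by
  obtain ⟨x⟩ : Nonempty (Fin 5 ↪ α) := Function.Embedding.nonempty_of_card_le (by simp [hv])
  refine (Nat.card_le_card_of_injective _ (orbitMap_injective hv hB x)).trans (le_of_eq ?_)
  rw [Nat.card_eq_fintype_card, Fintype.card_embedding_eq, hv, Fintype.card_fin]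
  rfl

/-- The points of the dodecad of squares. -/
abbrev DPt : Type := {p : GolayPt // p ∈ Spor.squareDodecad}

/-- The hexads of the dodecad of squares. -/
def hexads : Set (Finset DPt) :=
  {h : Finset DPt | ∃ o ∈ octads, (o ∩ Spor.squareDodecad).card = 6 ∧
    h = Finset.subtype (fun p => p ∈ Spor.squareDodecad) o}

theorem hexads_steiner : IsSteinerSystem 5 6 hexads :=
  S0385.result _ GolayM24.squareDodecad_mem

theorem card_DPt : Fintype.card DPt = 12 := by
  rw [Fintype.card_coe]; exact GolayM24.squareDodecad_mem.2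

theorem exists_M12_equiv : ∃ φ : Spor.M12 ≃* setSystemAut hexads,
    ∀ g p, ((φ g).1 p).1 = g.1 p.1 := by
  have hD : ∀ g : Spor.M12, ∀ p, g.1 p ∈ Spor.squareDodecad ↔ p ∈ Spor.squareDodecad := fun g p => by
    have h : g.1 • Spor.squareDodecad = Spor.squareDodecad := MulAction.mem_stabilizer_iff.1 g.2.2
    conv_lhs => rw [← h]
    exact Finset.smul_mem_smul_finset_iff g.1
  let ρ : Spor.M12 → Equiv.Perm DPt := fun g => g.1.subtypePerm (hD g)
  have hmem : ∀ g, ρ g ∈ setSystemAut hexads := by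
    intro g
    rw [setSystemAut, MulAction.mem_stabilizer_iff]
    refine Set.eq_of_subset_of_ncard_le ?_ (by rw [Set.ncard_smul_set]) (Set.toFinite _)
    rintro _ ⟨_, ⟨o, ho, hc, rfl⟩, rfl⟩
    refine ⟨g.1 • o, GolayPerm.smul_mem_octads g.2.1 ho, ?_, ?_⟩
    · conv_lhs => rw [← MulAction.mem_stabilizer_iff.1 g.2.2, ← smul_finset_inter, card_smul_finset]
      exact hc
    · show ρ g • Finset.subtype _ o = _
      ext ⟨p, hp⟩
      rw [mem_subtype, mem_smul_finset, mem_smul_finset]
      constructor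
      · rintro ⟨q, hq, he⟩
        exact ⟨q.1, mem_subtype.1 hq, congrArg Subtype.val he⟩
      · rintro ⟨q, hq, he⟩
        have he : g.1 q = p := he
        exact ⟨⟨q, (hD g q).1 (he ▸ hp)⟩, mem_subtype.2 hq, Subtype.ext he⟩
  let φ : Spor.M12 →* setSystemAut hexads :=
    { toFun := fun g => ⟨ρ g, hmem g⟩
      map_one' := by ext p; rfl
      map_mul' := fun a b => by ext p; rfl }
  have hpt : ∀ i : Fin 5, GolayBasic.pt i.val ∈ Spor.squareDodecad := by
    rw [GolayM24.squareDodecad_eq]; decide +kernel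
  have hinj : Function.Injective φ := by
    intro a b h
    refine Subtype.ext (GolayStab.M12_eq_of_five a.2 b.2 fun i => ?_)
    have h2 := congrArg (fun f : setSystemAut hexads => (f.1 ⟨_, hpt i⟩).1) h
    exact h2
  refine ⟨MulEquiv.ofBijective φ ((Nat.bijective_iff_injective_and_card φ).2 ⟨hinj, ?_⟩),
    fun g p => rfl⟩
  have h1 := Nat.card_le_card_of_injective φ hinj
  have h2 := card_le card_DPt hexads_steiner
  rw [GolayM24.card_M12] at h1 ⊢
  omega

theorem aut12 {B : Set (Finset α)} (hv : Fintype.card α = 12) (hB : IsSteinerSystem 5 6 B) :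
    IsM12 (setSystemAut B) ∧ MulAction.IsMultiplyPretransitive (setSystemAut B) α 5 ∧
      ∀ x : Fin 5 ↪ α, MulAction.stabilizer (setSystemAut B) x = ⊥ := by
  obtain ⟨e, he⟩ := iso12 hv card_DPt hB hexads_steiner
  obtain ⟨φ, -⟩ := exists_M12_equiv
  have ψ : setSystemAut B ≃* Spor.M12 :=
    (((setSystemAut B).equivMapOfInjective _ e.permCongrHom.injective).trans
      (MulEquiv.subgroupCongr (GolaySpan70.autEquiv e he))).trans φ.symm
  have hcard : Nat.card (setSystemAut B) = 95040 := by
    rw [Nat.card_congr ψ.toEquiv, GolayM24.card_M12]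
  refine ⟨⟨?_, hcard⟩, ?_, fun x => ?_⟩
  · have := GolaySimple.isSimpleGroup_M12
    exact ψ.isSimpleGroup
  · rw [MulAction.isMultiplyPretransitive_iff]
    intro x y
    have hb : Function.Bijective (orbitMap B x) := by
      refine (Nat.bijective_iff_injective_and_card _).2 ⟨orbitMap_injective hv hB x, ?_⟩
      rw [hcard, Nat.card_eq_fintype_card, Fintype.card_embedding_eq, hv, Fintype.card_fin]
      rfl
    obtain ⟨g, hg⟩ := hb.2 y
    exact ⟨g, DFunLike.ext _ _ fun i => DFunLike.congr_fun hg i⟩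
  · rw [eq_bot_iff]
    intro g hg
    rw [MulAction.mem_stabilizer_iff] at hg
    rw [Subgroup.mem_bot]
    exact Subtype.ext (fix_five hv hB x g.2 fun i => DFunLike.congr_fun hg i)

end Cfsg.Agent.SteinerHexadAut70
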