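import Mathlib

/-!
Perfect matchings and totals on six points.
-/

set_option autoImplicit false
set_option synthInstance.maxSize 5000
set_option synthInstance.maxHeartbeats 400000
set_option maxRecDepth 4000

namespace Cfsg.Agent.SteinerHexadTable70

/-- The partners in the fifteen perfect matchings of six points. -/
def par : Fin 15 → Fin 6 → Fin 6 :=
  ![![1, 0, 3, 2, 5, 4],
    ![1, 0, 4, 5, 2, 3],
    ![1, 0, 5, 4, 3, 2],
    ![2, 3, 0, 1, 5, 4],
    ![2, 4, 0, 5, 1, 3],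
    ![2, 5, 0, 4, 3, 1],
    ![3, 2, 1, 0, 5, 4],
    ![3, 4, 5, 0, 1, 2],
    ![3, 5, 4, 0, 2, 1],
    ![4, 2, 1, 5, 0, 3],
    ![4, 3, 5, 1, 0, 2],
    ![4, 5, 3, 2, 0, 1],
    ![5, 2, 1, 4, 3, 0],
    ![5, 3, 4, 1, 2, 0],
    ![5, 4, 3, 2, 1, 0]]

/-- The six totals. -/
def mem : Fin 6 → Fin 15 → Bool :=
  ![![true, false, false, false, true, false, false, false, true, false, true, false, true, false, false],
    ![true, false, false, false, false, true, false, true, false, true, false, false, false, true, false],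
    ![false, true, false, true, false, false, false, true, false, false, false, true, true, false, false],
    ![false, true, false, false, false, true, true, false, false, false, true, false, false, false, true],
    ![false, false, true, true, false, false, false, false, true, true, false, false, false, false, true],
    ![false, false, true, false, true, false, true, false, false, false, false, true, false, true, false]]

/-- Two matchings have no edge in common. -/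
def Disj (M N : Fin 15) : Prop := ∀ a, par M a ≠ par N a

instance (M N : Fin 15) : Decidable (Disj M N) := inferInstanceAs (Decidable (∀ _, _))

theorem par_par : ∀ M a, par M (par M a) = a := by decide +kernel

theorem par_ne : ∀ M a, par M a ≠ a := by decide +kernel

theorem five : ∀ M0 M1, Disj M0 M1 → ∀ M2, Disj M0 M2 → Disj M1 M2 → ∀ M3, Disj M0 M3 → Disj M1 M3 →
    Disj M2 M3 → ∀ M4, Disj M0 M4 → Disj M1 M4 → Disj M2 M4 → Disj M3 M4 →
    ∃ T, mem T M0 ∧ mem T M1 ∧ mem T M2 ∧ mem T M3 ∧ mem T M4 := by decide +kernel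

theorem common : ∀ T T' M N, T ≠ T' → mem T M → mem T' M → mem T N → mem T' N → M = N := by
  decide +kernel

theorem mem_two : ∀ M, ∃ T T', T ≠ T' ∧ mem T M ∧ mem T' M := by decide +kernel

theorem no_triangle : ∀ T M1, mem T M1 → ∀ M2, mem T M2 → M1 ≠ M2 → ∀ M3, mem T M3 → M1 ≠ M3 →
    M2 ≠ M3 → ∃ a b, a ≠ b ∧ (par M1 a ≠ b ∧ par M2 a ≠ b ∧ par M3 a ≠ b) ∧
      ∀ r, r ≠ a → r ≠ b → par M1 a = r ∨ par M2 a = r ∨ par M3 a = r ∨ par M1 b = r ∨ par M2 b = r ∨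
        par M3 b = r := by
  decide +kernel

theorem separated : ∀ a x : Fin 6, a ≠ x → ∃ M N, par M a = par N a ∧ par M x ≠ par N x := by
  decide +kernel

theorem involution : ∀ b0, b0 ≠ (0 : Fin 6) → ∀ b1, b1 ≠ (1 : Fin 6) → (b0 = 1 ↔ b1 = 0) →
    ∀ b2, b2 ≠ (2 : Fin 6) → (b0 = 2 ↔ b2 = 0) → (b1 = 2 ↔ b2 = 1) →
    ∀ b3, b3 ≠ (3 : Fin 6) → (b0 = 3 ↔ b3 = 0) → (b1 = 3 ↔ b3 = 1) → (b2 = 3 ↔ b3 = 2) →
    ∀ b4, b4 ≠ (4 : Fin 6) → (b0 = 4 ↔ b4 = 0) → (b1 = 4 ↔ b4 = 1) → (b2 = 4 ↔ b4 = 2) →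
      (b3 = 4 ↔ b4 = 3) →
    ∀ b5, b5 ≠ (5 : Fin 6) → (b0 = 5 ↔ b5 = 0) → (b1 = 5 ↔ b5 = 1) → (b2 = 5 ↔ b5 = 2) →
      (b3 = 5 ↔ b5 = 3) → (b4 = 5 ↔ b5 = 4) →
    ∃ M, par M 0 = b0 ∧ par M 1 = b1 ∧ par M 2 = b2 ∧ par M 3 = b3 ∧ par M 4 = b4 ∧ par M 5 = b5 := by
  decide +kernel

theorem exists_par (f : Fin 6 → Fin 6) (h1 : ∀ a, f a ≠ a) (h2 : ∀ a, f (f a) = a) :
    ∃ M, ∀ a, par M a = f a := by
  have h : ∀ a b, (f a = b ↔ f b = a) := fun a b =>
    ⟨fun e => e ▸ h2 a, fun e => e ▸ h2 b⟩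
  obtain ⟨M, k0, k1, k2, k3, k4, k5⟩ := involution (f 0) (h1 0) (f 1) (h1 1) (h 0 1) (f 2) (h1 2)
    (h 0 2) (h 1 2) (f 3) (h1 3) (h 0 3) (h 1 3) (h 2 3) (f 4) (h1 4) (h 0 4) (h 1 4) (h 2 4) (h 3 4)
    (f 5) (h1 5) (h 0 5) (h 1 5) (h 2 5) (h 3 5) (h 4 5)
  exact ⟨M, fun a => by fin_cases a <;> assumption⟩

end Cfsg.Agent.SteinerHexadTable70
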