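import Cfsg.Agent.Lib.SteinerHexadAut70

/-!
The system S(4,5,11) as a point derivative of S(5,6,12).
-/

set_option autoImplicit false

namespace Cfsg.Agent.SteinerPentad70

open Cfsg Cfsg.Agent.SteinerLarge70 Cfsg.Agent.SteinerHexadAut70 Finset
open scoped Pointwise

variable {α β : Type*} [Fintype α] [DecidableEq α] [Fintype β] [DecidableEq β]

/-- The blocks with the new point, and their complements. -/
def extend (B : Set (Finset α)) : Set (Finset (Option α)) :=
  {c | ∃ b ∈ B, c = ext1 b ∨ c = (ext1 b)ᶜ}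

theorem meet_disjoint {B : Finset (Finset α)} (hv : Fintype.card α = 11)
    (hB : IsSteinerSystem 4 5 (B : Set (Finset α))) {T : Finset α} (hT : T.card = 5) :
    meetNum B T 0 = if T ∈ B then 0 else 1 := by
  have k0 := meetNum_eq hB (by norm_num) hv (T := T) (by omega) (j := 0) (by norm_num)
  have k1 := meetNum_eq hB (by norm_num) hv (T := T) (by omega) (j := 1) (by norm_num)
  have k2 := meetNum_eq hB (by norm_num) hv (T := T) (by omega) (j := 2) (by norm_num)
  have k3 := meetNum_eq hB (by norm_num) hv (T := T) (by omega) (j := 3) (by norm_num)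
  have k4 := meetNum_eq hB (by norm_num) hv (T := T) (by omega) (j := 4) (by norm_num)
  have e5 : meetNum B T 5 = if T ∈ B then 1 else 0 := by
    have hf : B.filter (fun d => (d ∩ T).card = 5) = B.filter (fun d => d = T) :=
      filter_congr fun d hd => ⟨fun h => by
        have h1 : d ∩ T = d := eq_of_subset_of_card_le inter_subset_left (by rw [h]; exact (hB.1 d hd).le)
        exact eq_of_subset_of_card_le (h1 ▸ inter_subset_right) (by rw [hB.1 d hd, hT]),
        fun h => by rw [h, inter_self, hT]⟩
    rw [meetNum, hf, filter_eq']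
    split <;> simp
  have e6 : meetNum B T 6 = 0 := card_eq_zero.2 (filter_eq_empty_iff.2 fun d _ he => by
    have := card_le_card (inter_subset_right : d ∩ T ⊆ T)
    omega)
  rw [hT] at k0 k1 k2 k3 k4
  simp [sum_range_succ, e5, e6] at k0 k1 k2 k3 k4
  split_ifs at k0 k1 k2 k3 k4 ⊢ <;> revert k0 k1 k2 k3 k4 <;>
    norm_num [Nat.choose_eq_descFactorial_div_factorial, Nat.descFactorial, Nat.factorial] <;> omega

theorem extend_steiner {B : Set (Finset α)} (hv : Fintype.card α = 11) (hB : IsSteinerSystem 4 5 B) :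
    IsSteinerSystem 5 6 (extend B) := by
  classical
  obtain ⟨C, rfl⟩ : ∃ C : Finset (Finset α), (C : Set (Finset α)) = B := ⟨_, (Set.toFinite B).coe_toFinset⟩
  have hc1 : ∀ b : Finset α, (ext1 b).card = b.card + 1 := fun b => by rw [ext1, card_insertNone]
  constructor
  · rintro c ⟨b, hb, rfl | rfl⟩
    · rw [hc1, hB.1 b hb]
    · rw [card_compl, hc1, hB.1 b hb, Fintype.card_option, hv]
  · intro s hs
    by_cases hn : none ∈ s
    · have hcard : (eraseNone s).card = 4 := by
        rw [card_eraseNone_eq_card_erase, card_erase_of_mem hn, hs]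
      obtain ⟨b, ⟨hb, hsb⟩, hu⟩ := hB.2 (eraseNone s) hcard
      refine ⟨ext1 b, ⟨⟨b, hb, Or.inl rfl⟩, fun x hx => ?_⟩, ?_⟩
      · cases x with
        | none => exact none_mem_ext1 b
        | some a => exact some_mem_ext1.2 (hsb (mem_eraseNone.2 hx))
      · rintro c ⟨⟨d, hd, rfl | rfl⟩, hsc⟩
        · rw [hu d ⟨hd, fun a ha => some_mem_ext1.1 (hsc (mem_eraseNone.1 ha))⟩]
        · exact absurd (none_mem_ext1 d) (mem_compl.1 (hsc hn))
    · set S := eraseNone s with hSdef
      have hS : S.card = 5 := by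
        rw [hSdef, card_eraseNone_eq_card_erase, erase_eq_of_notMem hn, hs]
      have hsub : ∀ c : Finset (Option α), s ⊆ c ↔ ∀ a ∈ S, some a ∈ c := fun c =>
        ⟨fun h a ha => h (mem_eraseNone.1 ha), fun h x hx => by
          cases x with
          | none => exact absurd hx hn
          | some a => exact h a (mem_eraseNone.2 hx)⟩
      have hdisj : ∀ b : Finset α, s ⊆ (ext1 b)ᶜ ↔ (b ∩ S).card = 0 := fun b => by
        rw [hsub, card_eq_zero, eq_empty_iff_forall_notMem]
        simp only [mem_compl, some_mem_ext1, mem_inter, not_and]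
        exact ⟨fun h a ha hS' => h a hS' ha, fun h a hS' ha => h a ha hS'⟩
      have hkey := meet_disjoint hv hB hS
      by_cases hSB : S ∈ C
      · rw [if_pos hSB, meetNum, card_eq_zero, filter_eq_empty_iff] at hkey
        refine ⟨ext1 S, ⟨⟨S, hSB, Or.inl rfl⟩, (hsub _).2 fun a ha => some_mem_ext1.2 ha⟩, ?_⟩
        rintro c ⟨⟨d, hd, rfl | rfl⟩, hsc⟩
        · rw [eq_of_subset_of_card_le (fun a ha => some_mem_ext1.1 ((hsub _).1 hsc a ha) : S ⊆ d)
            (by rw [hS, hB.1 d hd])]
        · exact absurd ((hdisj d).1 hsc) (hkey hd)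
      · rw [if_neg hSB, meetNum, card_eq_one] at hkey
        obtain ⟨b, hb⟩ := hkey
        obtain ⟨hbC, hb0⟩ := mem_filter.1 (hb ▸ mem_singleton_self b : b ∈ C.filter _)
        refine ⟨(ext1 b)ᶜ, ⟨⟨b, hbC, Or.inr rfl⟩, (hdisj b).2 hb0⟩, ?_⟩
        rintro c ⟨⟨d, hd, rfl | rfl⟩, hsc⟩
        · exact absurd (eq_of_subset_of_card_le (fun a ha => some_mem_ext1.1 ((hsub _).1 hsc a ha) : S ⊆ d)
            (by rw [hS, hB.1 d hd]) ▸ hd) hSB
        · rw [show d = b from mem_singleton.1 (hb ▸ mem_filter.2 ⟨hd, (hdisj d).1 hsc⟩)]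

theorem ext1_mem_extend {B : Set (Finset α)} {b : Finset α} : ext1 b ∈ extend B ↔ b ∈ B := by
  constructor
  · rintro ⟨d, hd, h | h⟩
    · rwa [show b = d from ext fun a => by simpa using Finset.ext_iff.1 h (some a)]
    · exact absurd (none_mem_ext1 d) (mem_compl.1 (h ▸ none_mem_ext1 b))
  · intro h; exact ⟨b, h, Or.inl rfl⟩

theorem card_option11 (hv : Fintype.card α = 11) : Fintype.card (Option α) = 12 := by
  rw [Fintype.card_option, hv]

theorem image_ext1 (e : Option α ≃ Option β) (f : α → β) (h0 : e none = none)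
    (hf : ∀ a, e (some a) = some (f a)) (b : Finset α) : (ext1 b).image e = ext1 (b.image f) := by
  ext z
  simp only [mem_image]
  constructor
  · rintro ⟨y, hy, rfl⟩
    cases y with
    | none => rw [h0]; exact none_mem_ext1 _
    | some a => rw [hf]; exact some_mem_ext1.2 (mem_image_of_mem f (some_mem_ext1.1 hy))
  · intro hz
    cases z with
    | none => exact ⟨none, none_mem_ext1 b, h0⟩
    | some c =>
      obtain ⟨a, ha, rfl⟩ := mem_image.1 (some_mem_ext1.1 hz)
      exact ⟨some a, some_mem_ext1.2 ha, hf a⟩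

theorem removeNone_spec (e : Option α ≃ Option β) (h0 : e none = none) (a : α) :
    e (some a) = some (Equiv.removeNone e a) := by
  refine (Equiv.removeNone_some e ?_).symm
  rcases h : e (some a) with _ | c
  · rw [← h0] at h; exact absurd (e.injective h) (by simp)
  · exact ⟨c, rfl⟩

theorem exists_iso_none {B : Set (Finset α)} {B' : Set (Finset β)} (hv : Fintype.card α = 12)
    (hw : Fintype.card β = 12) (hB : IsSteinerSystem 5 6 B) (hB' : IsSteinerSystem 5 6 B') (p : α)
    (q : β) : ∃ e : α ≃ β, (fun b => b.image e) '' B = B' ∧ e p = q := by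
  obtain ⟨e, he⟩ := iso12 hv hw hB hB'
  have ht := (aut12 hw hB').2.1
  have : MulAction.IsPretransitive (setSystemAut B') β :=
    MulAction.is_one_pretransitive_iff.1
      (MulAction.isMultiplyPretransitive_of_le (n := 5) (by norm_num) (by simp [hw]))
  obtain ⟨g, hg⟩ := MulAction.exists_smul_eq (setSystemAut B') (e p) q
  refine ⟨e.trans g.1, ?_, hg⟩
  calc (fun b => b.image (e.trans g.1)) '' B
      = (fun c => g.1 • c) '' ((fun b => b.image e) '' B) := by
        rw [Set.image_image]
        refine Set.image_congr fun b _ => ?_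
        rw [Finset.smul_finset_def, image_image]
        rfl
    _ = g.1 • B' := by rw [he, Set.image_smul]
    _ = B' := MulAction.mem_stabilizer_iff.1 g.2

theorem iso11 {B : Set (Finset α)} {B' : Set (Finset β)} (hα : Fintype.card α = 11)
    (hβ : Fintype.card β = 11) (hB : IsSteinerSystem 4 5 B) (hB' : IsSteinerSystem 4 5 B') :
    SetSystemIso B B' := by
  obtain ⟨e, he, h0⟩ := exists_iso_none (card_option11 hα) (card_option11 hβ) (extend_steiner hα hB)
    (extend_steiner hβ hB') none none
  have hi := image_ext1 e (Equiv.removeNone e) h0 (removeNone_spec e h0)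
  refine ⟨Equiv.removeNone e, Set.ext fun c => ⟨?_, fun hc => ?_⟩⟩
  · rintro ⟨b, hb, rfl⟩
    rw [← ext1_mem_extend, ← hi, ← he]
    exact ⟨_, ext1_mem_extend.2 hb, rfl⟩
  · have hce : (c.image (Equiv.removeNone e).symm).image (Equiv.removeNone e) = c := by
      rw [image_image, show (Equiv.removeNone e : α → β) ∘ (Equiv.removeNone e).symm = id from
        funext (Equiv.removeNone e).apply_symm_apply, image_id]
    refine ⟨_, ?_, hce⟩
    rw [← ext1_mem_extend] at hc ⊢
    rw [← he, ← hce, ← hi] at hc
    obtain ⟨d, hd, hde⟩ := hc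
    rwa [← Finset.image_injective e.injective hde]

theorem smul_ext1 (g : Equiv.Perm α) (b : Finset α) :
    (Equiv.optionCongr g : Equiv.Perm (Option α)) • ext1 b = ext1 (g • b) :=
  image_ext1 (Equiv.optionCongr g) g rfl (fun _ => rfl) b

theorem optionCongr_mem_iff {B : Set (Finset α)} {g : Equiv.Perm α} :
    Equiv.optionCongr g ∈ setSystemAut (extend B) ↔ g ∈ setSystemAut B := by
  constructor
  · intro h
    refine MulAction.mem_stabilizer_iff.2 (Set.eq_of_subset_of_ncard_le ?_ (by rw [Set.ncard_smul_set])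
      (Set.toFinite _))
    rintro _ ⟨b, hb, rfl⟩
    have := (MulAction.mem_stabilizer_iff.1 h).subset (Set.smul_mem_smul_set (ext1_mem_extend.2 hb))
    rw [smul_ext1, ext1_mem_extend] at this
    exact this
  · intro h
    refine MulAction.mem_stabilizer_iff.2 (Set.eq_of_subset_of_ncard_le ?_ (by rw [Set.ncard_smul_set])
      (Set.toFinite _))
    rintro _ ⟨c, ⟨b, hb, hc⟩, rfl⟩
    refine ⟨g • b, (MulAction.mem_stabilizer_iff.1 h).subset (Set.smul_mem_smul_set hb), ?_⟩
    rcases hc with rfl | rfl
    · exact Or.inl (smul_ext1 g b)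
    · refine Or.inr ?_
      rw [← smul_ext1]
      show (Equiv.optionCongr g : Equiv.Perm (Option α)) • (ext1 b)ᶜ = _
      rw [compl_eq_univ_sdiff, compl_eq_univ_sdiff, smul_finset_sdiff, smul_finset_univ]

theorem fix_four {B : Set (Finset α)} (hv : Fintype.card α = 11) (hB : IsSteinerSystem 4 5 B)
    (x : Fin 4 ↪ α) {g : Equiv.Perm α} (hg : g ∈ setSystemAut B) (hx : ∀ i, g (x i) = x i) :
    g = 1 := by
  let y : Fin 5 ↪ Option α := ⟨Fin.cons none fun i => some (x i), by
    rw [Fin.cons_injective_iff]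
    exact ⟨by simp, fun a b h => x.injective (Option.some.inj h)⟩⟩
  have h := fix_five (card_option11 hv) (extend_steiner hv hB) y (optionCongr_mem_iff.2 hg)
    (Fin.cases rfl fun i => by simp [y, hx i])
  ext a
  have := congrArg (fun f : Equiv.Perm (Option α) => f (some a)) h
  simpa using this

/-- The images of four fixed points. -/
def orbitMap4 (B : Set (Finset α)) (x : Fin 4 ↪ α) (g : setSystemAut B) : Fin 4 ↪ α :=
  x.trans (g : Equiv.Perm α).toEmbedding

theorem orbitMap4_injective {B : Set (Finset α)} (hv : Fintype.card α = 11)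
    (hB : IsSteinerSystem 4 5 B) (x : Fin 4 ↪ α) : Function.Injective (orbitMap4 B x) := by
  intro g h he
  have hgh : ((h⁻¹ * g : setSystemAut B) : Equiv.Perm α) = 1 := fix_four hv hB x (SetLike.coe_mem _)
    fun i => by
      have := DFunLike.congr_fun he i
      change g.1 (x i) = h.1 (x i) at this
      simp [this]
  exact (inv_mul_eq_one.1 (Subtype.ext hgh)).symm

theorem aut11 {B : Set (Finset α)} (hv : Fintype.card α = 11) (hB : IsSteinerSystem 4 5 B) :
    IsM11 (setSystemAut B) ∧ MulAction.IsMultiplyPretransitive (setSystemAut B) α 4 ∧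
      ∀ x : Fin 4 ↪ α, MulAction.stabilizer (setSystemAut B) x = ⊥ := by
  have h0D : (some 0 : GolayPt) ∈ Spor.squareDodecad := by
    rw [GolayM24.squareDodecad_eq]; decide +kernel
  obtain ⟨φ, hφ⟩ := exists_M12_equiv
  obtain ⟨e, he, h0⟩ := exists_iso_none (card_option11 hv) card_DPt (extend_steiner hv hB)
    hexads_steiner none ⟨some 0, h0D⟩
  have hmap := GolaySpan70.autEquiv e he
  let θ : setSystemAut B →* Spor.M12 :=
    { toFun := fun g => φ.symm ⟨e.permCongrHom (Equiv.optionCongr g.1), by
        rw [← hmap]; exact Subgroup.mem_map_of_mem _ (optionCongr_mem_iff.2 g.2)⟩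
      map_one' := by
        rw [← map_one φ.symm]
        congr 1
        ext x
        simp [Equiv.permCongrHom]
      map_mul' := fun a b => by
        rw [← map_mul]
        congr 1
        ext x
        simp only [Subgroup.coe_mul, Equiv.Perm.mul_apply, Equiv.permCongrHom, Equiv.permCongr_apply]
        cases h : e.symm x <;> simp [h] }
  have hθ : ∀ g x, (θ g).1 (e x).1 = (e (Option.map g.1 x)).1 := fun g x => by
    have h1 := hφ (θ g) (e x)
    rw [show φ (θ g) = _ from φ.apply_symm_apply _] at h1
    rw [← h1]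
    simp [Equiv.permCongrHom]
  have hfix : ∀ g, θ g ∈ Spor.M11.subgroupOf Spor.M12 := fun g => by
    rw [Subgroup.mem_subgroupOf]
    refine ⟨(θ g).2, MulAction.mem_stabilizer_iff.2 ?_⟩
    have := hθ g none
    rw [Option.map_none, h0] at this
    exact this
  let θ' := θ.codRestrict _ hfix
  have hinj : Function.Injective θ' := by
    intro a b h
    refine Subtype.ext (Equiv.ext fun x => ?_)
    have h1 : θ a = θ b := congrArg Subtype.val h
    have h2 := (hθ a (some x)).symm.trans ((by rw [h1] : (θ a).1 (e (some x)).1 = (θ b).1 (e (some x)).1).trans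
      (hθ b (some x)))
    simpa using e.injective (Subtype.ext h2)
  have hsurj : Function.Surjective θ' := by
    rintro ⟨g, hg⟩
    set σ : Equiv.Perm (Option α) := e.permCongrHom.symm (φ g).1 with hσdef
    have hσ : σ ∈ setSystemAut (extend B) := by
      have := (SetLike.ext_iff.1 hmap (φ g).1).2 (φ g).2
      rwa [Subgroup.mem_map_equiv] at this
    have hσ0 : σ none = none := by
      simp only [hσdef, Equiv.permCongrHom, MulEquiv.symm_mk, MulEquiv.coe_mk, Equiv.permCongr_symm,
        Equiv.permCongr_apply, Equiv.symm_symm]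
      rw [Equiv.symm_apply_eq, h0]
      exact Subtype.ext ((hφ g _).trans (MulAction.mem_stabilizer_iff.1 (Subgroup.mem_subgroupOf.1 hg).2))
    have hσe : Equiv.optionCongr (Equiv.removeNone σ) = σ := by
      ext x : 1
      cases x with
      | none => simp [hσ0]
      | some a => rw [Equiv.optionCongr_apply, Option.map_some, ← removeNone_spec σ hσ0]
    refine ⟨⟨Equiv.removeNone σ, optionCongr_mem_iff.1 (hσe.symm ▸ hσ)⟩, Subtype.ext ?_⟩
    show φ.symm _ = g
    rw [MulEquiv.symm_apply_eq]
    refine Subtype.ext ?_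
    show e.permCongrHom (Equiv.optionCongr (Equiv.removeNone σ)) = _
    rw [hσe, hσdef, MulEquiv.apply_symm_apply]
  have ψ : setSystemAut B ≃* Spor.M11 := (MulEquiv.ofBijective θ' ⟨hinj, hsurj⟩).trans
    (Subgroup.subgroupOfEquivOfLe (show Spor.M11 ≤ Spor.M12 from inf_le_left))
  have hcard : Nat.card (setSystemAut B) = 7920 := by
    rw [Nat.card_congr ψ.toEquiv, GolayM24.card_M11]
  refine ⟨⟨?_, hcard⟩, ?_, fun x => ?_⟩
  · have := GolaySimple.isSimpleGroup_M11
    exact ψ.isSimpleGroup
  · rw [MulAction.isMultiplyPretransitive_iff]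
    intro x y
    have hb : Function.Bijective (orbitMap4 B x) := by
      refine (Nat.bijective_iff_injective_and_card _).2 ⟨orbitMap4_injective hv hB x, ?_⟩
      rw [hcard, Nat.card_eq_fintype_card, Fintype.card_embedding_eq, hv, Fintype.card_fin]
      rfl
    obtain ⟨g, hg⟩ := hb.2 y
    exact ⟨g, DFunLike.ext _ _ fun i => DFunLike.congr_fun hg i⟩
  · rw [eq_bot_iff]
    intro g hg
    rw [MulAction.mem_stabilizer_iff] at hg
    rw [Subgroup.mem_bot]
    exact Subtype.ext (fix_four hv hB x g.2 fun i => DFunLike.congr_fun hg i)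

end Cfsg.Agent.SteinerPentad70
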