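import Cfsg.Agent.Lib.SteinerTriangle

/-!
Disjointness counts in a Steiner system S(3,6,22).
-/

set_option autoImplicit false

namespace Cfsg.Agent.SteinerSRG

open Finset Cfsg.Agent

variable {α : Type*} [Fintype α] [DecidableEq α] {B : Finset (Finset α)}
  (h : Cfsg.IsSteinerSystem 3 6 (B : Set (Finset α))) (hv : Fintype.card α = 22)

include h hv

theorem card22 : B.card = 77 := by
  have := SteinerTriangle.count h (by norm_num) (s := ∅) (by simp)
  rw [hv] at this
  simpa [Nat.choose] using this

theorem through1 (p : α) : (B.filter (p ∈ ·)).card = 21 := by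
  have := SteinerTriangle.count h (by norm_num) (s := {p}) (by simp)
  rw [hv] at this
  simpa [Nat.choose] using this

theorem through2 {p q : α} (hpq : p ≠ q) : (B.filter fun d => p ∈ d ∧ q ∈ d).card = 5 := by
  have := SteinerTriangle.count h (by norm_num) (s := {p, q}) (by rw [card_pair hpq]; norm_num)
  rw [hv, card_pair hpq] at this
  simpa [Nat.choose, insert_subset_iff] using this

theorem inter_two {b c : Finset α} (hb : b ∈ B) (hc : c ∈ B) (hne : b ≠ c)
    (hd : ¬ Disjoint b c) : (b ∩ c).card = 2 :=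
  (SteinerTriangle.inter6 h hv hb hc hne).resolve_left fun h0 =>
    hd (disjoint_iff_inter_eq_empty.2 (card_eq_zero.1 h0))

theorem disj_card {b : Finset α} (hb : b ∈ B) :
    (B.filter fun d => Disjoint b d).card = 16 := by
  rw [← show (SteinerTriangle.meetIn B b ∅).card = 16 from
    SteinerTriangle.meetIn_card h (by norm_num) hv SteinerTriangle.tri6
      (by intro j h1 h2; interval_cases j <;> rfl)
      (by intro j hj; interval_cases j <;> decide) hb ∅ (empty_subset _)]
  congr 1
  ext d
  simp only [SteinerTriangle.meetIn, mem_filter, mem_erase, disjoint_iff_inter_eq_empty]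
  constructor
  · rintro ⟨hd, he⟩
    refine ⟨⟨?_, hd⟩, he⟩
    rintro rfl
    have := congrArg Finset.card he
    rw [inter_self, h.1 d hd] at this
    simp at this
  · rintro ⟨⟨_, hd⟩, he⟩
    exact ⟨hd, he⟩

theorem through_disj {b : Finset α} (hb : b ∈ B) {p : α} (hp : p ∉ b) :
    (B.filter fun d => p ∈ d ∧ Disjoint b d).card = 6 := by
  have htot := card_filter_add_card_filter_not (s := B.filter (p ∈ ·)) (fun d => Disjoint b d)
  rw [through1 h hv p, filter_filter, filter_filter] at htot
  have hbij : (B.filter fun d => p ∈ d ∧ ¬ Disjoint b d).card = (b.powersetCard 2).card := by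
    refine card_bij (fun d _ => b ∩ d) ?_ ?_ ?_
    · intro d hd
      obtain ⟨hdB, hpd, hnd⟩ := mem_filter.1 hd
      exact mem_powersetCard.2 ⟨inter_subset_left,
        inter_two h hv hb hdB (fun e => hp (e ▸ hpd)) hnd⟩
    · intro d hd e he heq
      obtain ⟨hdB, hpd, hnd⟩ := mem_filter.1 hd
      obtain ⟨heB, hpe, hne⟩ := mem_filter.1 he
      refine SteinerTriangle.eq_of_subset h hdB heB (s := insert p (b ∩ d)) ?_ ?_ ?_
      · rw [card_insert_of_notMem (fun hh => hp (mem_inter.1 hh).1),
          inter_two h hv hb hdB (fun e => hp (e ▸ hpd)) hnd]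
      · exact insert_subset hpd inter_subset_right
      · rw [heq]; exact insert_subset hpe inter_subset_right
    · intro w hw
      obtain ⟨hwb, hwc⟩ := mem_powersetCard.1 hw
      obtain ⟨d, ⟨hd, hsub⟩, -⟩ := h.2 (insert p w)
        (by rw [card_insert_of_notMem (fun hh => hp (hwb hh)), hwc])
      have hpd : p ∈ d := hsub (mem_insert_self _ _)
      have hwd : w ⊆ b ∩ d := subset_inter hwb ((subset_insert _ _).trans hsub)
      have hnd : ¬ Disjoint b d := fun hd' => by
        have := card_le_card hwd
        rw [disjoint_iff_inter_eq_empty.1 hd', hwc] at this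
        simp at this
      refine ⟨d, mem_filter.2 ⟨hd, hpd, hnd⟩, (eq_of_subset_of_card_le hwd ?_).symm⟩
      rw [inter_two h hv hb hd (fun e => hp (e ▸ hpd)) hnd, hwc]
  rw [card_powersetCard, h.1 b hb, show Nat.choose 6 2 = 15 by decide] at hbij
  omega

/-- The blocks disjoint from `b` cover each point outside `b` six times. -/
theorem sum_disj {b : Finset α} (hb : b ∈ B) (c : Finset α) :
    ∑ e ∈ B.filter (fun d => Disjoint b d), (c ∩ e).card = 6 * (c \ b).card := by
  have h1 : ∀ e ∈ B.filter (fun d => Disjoint b d),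
      (c ∩ e).card = ∑ p ∈ c \ b, if p ∈ e then 1 else 0 := by
    intro e he
    rw [← card_filter]
    congr 1
    ext p
    simp only [mem_filter, mem_inter, mem_sdiff]
    exact ⟨fun ⟨hpc, hpe⟩ => ⟨⟨hpc, fun hpb => disjoint_left.1 (mem_filter.1 he).2 hpb hpe⟩, hpe⟩,
      fun ⟨⟨hpc, _⟩, hpe⟩ => ⟨hpc, hpe⟩⟩
  rw [sum_congr rfl h1, sum_comm, sum_congr rfl (g := fun _ => 6), sum_const, smul_eq_mul, mul_comm]
  intro p hp
  rw [← card_filter, filter_filter, ← through_disj h hv hb (mem_sdiff.1 hp).2]
  congr 1
  ext d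
  simp only [mem_filter]
  tauto

theorem triple {b c : Finset α} (hb : b ∈ B) (hc : c ∈ B) (hbc : Disjoint b c) :
    (B.filter fun d => Disjoint b d ∧ Disjoint c d).card = 0 := by
  set D := B.filter (fun d => Disjoint b d) with hD
  have hcD : c ∈ D := mem_filter.2 ⟨hc, hbc⟩
  have hsum := sum_disj h hv hb c
  rw [← hD, ← add_sum_erase D _ hcD, inter_self, sdiff_eq_self_of_disjoint hbc.symm, h.1 c hc]
    at hsum
  rw [card_eq_zero, filter_eq_empty_iff]
  rintro d hd ⟨hbd, hcd⟩
  have hdD : d ∈ D.erase c := by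
    refine mem_erase.2 ⟨?_, mem_filter.2 ⟨hd, hbd⟩⟩
    rintro rfl
    simpa [h.1 d hd] using congrArg Finset.card (disjoint_self_iff_empty d |>.1 hcd)
  have hle : ∀ e ∈ (D.erase c).erase d, (c ∩ e).card ≤ 2 := by
    intro e he
    obtain ⟨hne, heD⟩ := mem_erase.1 (mem_of_mem_erase he)
    rcases SteinerTriangle.inter6 h hv hc (mem_filter.1 heD).1 hne.symm with h0 | h0 <;> omega
  have := sum_le_card_nsmul _ _ _ hle
  rw [← add_sum_erase _ _ hdD, disjoint_iff_inter_eq_empty.1 hcd] at hsum
  have h14 : ((D.erase c).erase d).card = 14 := by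
    rw [card_erase_of_mem hdD, card_erase_of_mem hcD, hD, disj_card h hv hb]
  rw [h14] at this
  simp only [card_empty, smul_eq_mul] at *
  omega

theorem both_disj {b c : Finset α} (hb : b ∈ B) (hc : c ∈ B) (hne : b ≠ c)
    (hnd : ¬ Disjoint b c) :
    (B.filter fun d => Disjoint b d ∧ Disjoint c d).card = 4 := by
  set D := B.filter (fun d => Disjoint b d) with hD
  have hsum := sum_disj h hv hb c
  have hcb : (c \ b).card = 4 := by
    have := card_sdiff_add_card_inter c b
    rw [h.1 c hc, inter_comm, inter_two h hv hb hc hne hnd] at this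
    omega
  have hsplit := sum_filter_add_sum_filter_not D (fun d => Disjoint c d) (fun e => (c ∩ e).card)
  have h0 : ∑ e ∈ D.filter (fun d => Disjoint c d), (c ∩ e).card = 0 :=
    sum_eq_zero fun e he => by rw [disjoint_iff_inter_eq_empty.1 (mem_filter.1 he).2, card_empty]
  have h2 : ∑ e ∈ D.filter (fun d => ¬ Disjoint c d), (c ∩ e).card =
      ∑ e ∈ D.filter (fun d => ¬ Disjoint c d), 2 :=
    sum_congr rfl fun e he => by
      obtain ⟨heD, hce⟩ := mem_filter.1 he
      exact inter_two h hv hc (mem_filter.1 heD).1 (fun e' => hnd (e' ▸ (mem_filter.1 heD).2)) hce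
  have htot := card_filter_add_card_filter_not (s := D) (fun d => Disjoint c d)
  rw [hD, disj_card h hv hb, ← hD] at htot
  rw [h0, h2, sum_const, smul_eq_mul, hD, sum_disj h hv hb c, ← hD, hcb] at hsplit
  have : (B.filter fun d => Disjoint b d ∧ Disjoint c d) = D.filter fun d => Disjoint c d := by
    rw [hD, filter_filter]
  rw [this]
  omega

end Cfsg.Agent.SteinerSRG

namespace Cfsg.Agent.SteinerSRG

open Finset Cfsg.Agent

theorem card_sub {α : Type*} {B : Set (Finset α)} [Fintype B] (P : Finset α → Prop) [DecidablePred P]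
    (S : Finset (Finset α)) (hS : ∀ b, b ∈ S ↔ b ∈ B) :
    (univ.filter fun b : B => P b).card = (S.filter P).card := by
  refine card_bij (fun b _ => (b : Finset α)) ?_ ?_ ?_
  · intro b hb
    exact mem_filter.2 ⟨(hS _).2 b.2, (mem_filter.1 hb).2⟩
  · intro b _ c _ he
    exact Subtype.ext he
  · intro d hd
    exact ⟨⟨d, (hS _).1 (mem_filter.1 hd).1⟩, mem_filter.2 ⟨mem_univ _, (mem_filter.1 hd).2⟩, rfl⟩

theorem card_split {α β : Type*} [Fintype α] [Fintype β] (P : Option (α ⊕ β) → Prop) [DecidablePred P] :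
    (univ.filter P).card = (if P none then 1 else 0) +
      ((univ.filter fun a => P (some (Sum.inl a))).card +
        (univ.filter fun b => P (some (Sum.inr b))).card) := by
  rw [card_filter, Fintype.sum_option, Fintype.sum_sum_type, card_filter, card_filter]

theorem card_common {V : Type*} [Fintype V] (G : SimpleGraph V) (v w : V)
    [Fintype (G.commonNeighbors v w)] [DecidablePred fun x => G.Adj v x ∧ G.Adj w x] :
    Fintype.card (G.commonNeighbors v w) = (univ.filter fun x => G.Adj v x ∧ G.Adj w x).card := by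
  rw [← Set.toFinset_card]
  congr 1
  ext x
  simp [SimpleGraph.mem_commonNeighbors]

theorem card_nbr {V : Type*} [Fintype V] (G : SimpleGraph V) (v : V)
    [Fintype (G.neighborSet v)] [DecidablePred fun x => G.Adj v x] :
    G.degree v = (univ.filter fun x => G.Adj v x).card := by
  rw [← G.card_neighborFinset_eq_degree]
  congr 1
  ext x
  simp

end Cfsg.Agent.SteinerSRG
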