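import Cfsg.Agent.Lib.SteinerLarge70
import Cfsg.Agent.Lib.GolaySimple
import Cfsg.Prelude.Def_Sporadic

/-!
Every S(3,6,22) is obtained from the octads through two points.
-/

set_option autoImplicit false

namespace Cfsg.Agent.SteinerTwoPoint70

open Cfsg Cfsg.Agent.GolaySpan70 Cfsg.Agent.SteinerLarge70 Finset
open scoped Pointwise

variable {α : Type*} [Fintype α] [DecidableEq α] {B : Finset (Finset α)}

theorem meet22 (hB : IsSteinerSystem 3 6 (B : Set (Finset α))) (hv : Fintype.card α = 22)
    (T : Finset α) : ∑ d ∈ B, (d ∩ T).card = 21 * T.card ∧ B.card = 77 := by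
  have h1 := SteinerTriangle.moment hB (by norm_num) T (j := 1) (by norm_num)
  have h0 := SteinerTriangle.moment hB (by norm_num) T (j := 0) (by norm_num)
  simp only [Nat.choose_one_right, Nat.choose_zero_right, sum_const, smul_eq_mul, mul_one, one_mul,
    hv] at h1 h0
  norm_num [Nat.choose_eq_descFactorial_div_factorial, Nat.descFactorial, Nat.factorial] at h1 h0
  exact ⟨by omega, h0⟩

theorem even_of_even22 (hB : IsSteinerSystem 3 6 (B : Set (Finset α))) (hv : Fintype.card α = 22)
    {T : Finset α} (h : ∀ b ∈ B, 2 ∣ (T ∩ b).card) : 2 ∣ T.card := by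
  have h1 := (meet22 hB hv T).1
  have h2 : 2 ∣ ∑ d ∈ B, (d ∩ T).card := dvd_sum fun d hd => by rw [inter_comm]; exact h d hd
  omega

theorem odd_of_odd22 (hB : IsSteinerSystem 3 6 (B : Set (Finset α))) (hv : Fintype.card α = 22)
    {T : Finset α} (h : ∀ b ∈ B, ¬ 2 ∣ (T ∩ b).card) : ¬ 2 ∣ T.card := by
  obtain ⟨h1, h0⟩ := meet22 hB hv T
  have h2 : (∑ d ∈ B, (d ∩ T).card) % 2 = 1 := by
    rw [Finset.sum_nat_mod, sum_congr rfl (g := fun _ => 1) fun d hd => by
      have := h d hd; rw [inter_comm] at this; omega, sum_const, h0]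
    rfl
  omega

theorem even22 (hB : IsSteinerSystem 3 6 (B : Set (Finset α))) (hv : Fintype.card α = 22)
    {T : Finset α} (hT : T.card ≤ 6) (h : ∀ b ∈ B, 2 ∣ (T ∩ b).card) : T = ∅ ∨ T ∈ B := by
  have hev := even_of_even22 hB hv h
  have k1 := meetNum_eq hB (by norm_num) hv hT (j := 1) (by norm_num)
  have k2 := meetNum_eq hB (by norm_num) hv hT (j := 2) (by norm_num)
  have k3 := meetNum_eq hB (by norm_num) hv hT (j := 3) (by norm_num)
  simp [sum_range_succ, meetNum_zero_of_odd h (show ¬ 2 ∣ 1 by norm_num),
    meetNum_zero_of_odd h (show ¬ 2 ∣ 3 by norm_num),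
    meetNum_zero_of_odd h (show ¬ 2 ∣ 5 by norm_num), Nat.choose] at k1 k2 k3
  have hcase : T.card = 0 ∨ (T.card = 6 ∧ meetNum B T 6 = 1) := by
    generalize T.card = m at hT hev k1 k2 k3 ⊢
    interval_cases m <;> revert hev k1 k2 k3 <;>
      norm_num [Nat.choose_eq_descFactorial_div_factorial, Nat.descFactorial, Nat.factorial] <;>
      omega
  rcases hcase with h0 | ⟨h6, hn⟩
  · exact Or.inl (card_eq_zero.1 h0)
  · obtain ⟨d, hd⟩ := card_pos.1 (show 0 < (B.filter fun d => (d ∩ T).card = 6).card by
      show 0 < meetNum B T 6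
      omega)
    obtain ⟨hdB, hdT⟩ := mem_filter.1 hd
    have h1 : d ∩ T = T := eq_of_subset_of_card_le inter_subset_right (by omega)
    have h2 : T ⊆ d := h1 ▸ inter_subset_left
    right
    rwa [eq_of_subset_of_card_le h2 (by rw [hB.1 d hdB, h6])]

theorem no_odd22 (hB : IsSteinerSystem 3 6 (B : Set (Finset α))) (hv : Fintype.card α = 22)
    {T : Finset α} (hT : T.card ≤ 5) (h : ∀ b ∈ B, ¬ 2 ∣ (T ∩ b).card) : False := by
  have hodd := odd_of_odd22 hB hv h
  have hT6 : T.card ≤ 6 := by omega
  have k0 := meetNum_eq hB (by norm_num) hv hT6 (j := 0) (by norm_num)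
  have k1 := meetNum_eq hB (by norm_num) hv hT6 (j := 1) (by norm_num)
  have k2 := meetNum_eq hB (by norm_num) hv hT6 (j := 2) (by norm_num)
  have k3 := meetNum_eq hB (by norm_num) hv hT6 (j := 3) (by norm_num)
  simp [sum_range_succ, meetNum_zero_of_even h (show 2 ∣ 0 by norm_num),
    meetNum_zero_of_even h (show 2 ∣ 2 by norm_num),
    meetNum_zero_of_even h (show 2 ∣ 4 by norm_num),
    meetNum_zero_of_even h (show 2 ∣ 6 by norm_num), Nat.choose] at k0 k1 k2 k3
  generalize T.card = m at hT hodd k0 k1 k2 k3
  interval_cases m <;> revert hodd k0 k1 k2 k3 <;>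
    norm_num [Nat.choose_eq_descFactorial_div_factorial, Nat.descFactorial, Nat.factorial] <;>
    omega

theorem extend_orth {C : Submodule (ZMod 2) AbstractGolay.V} {x : AbstractGolay.V}
    (hC : ∀ v ∈ C, ∀ w ∈ C, ∑ i, v i * w i = 0) (hx : ∑ i, x i * x i = 0)
    (hxC : ∀ c ∈ C, ∑ i, x i * c i = 0) :
    ∀ v ∈ C ⊔ Submodule.span (ZMod 2) {x}, ∀ w ∈ C ⊔ Submodule.span (ZMod 2) {x},
      ∑ i, v i * w i = 0 := by
  intro v hv w hw
  obtain ⟨c, hc, _, hr, rfl⟩ := Submodule.mem_sup.1 hv
  obtain ⟨r, rfl⟩ := Submodule.mem_span_singleton.1 hr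
  obtain ⟨d, hd, _, hs, rfl⟩ := Submodule.mem_sup.1 hw
  obtain ⟨s, rfl⟩ := Submodule.mem_span_singleton.1 hs
  have e : ∀ i, (c + r • x) i * (d + s • x) i =
      c i * d i + s * (x i * c i) + r * (x i * d i) + r * s * (x i * x i) := fun i => by
    simp only [Pi.add_apply, Pi.smul_apply, smul_eq_mul]; ring
  simp only [e, sum_add_distrib, ← mul_sum, hC c hc d hd, hxC c hc, hxC d hd, hx, mul_zero, add_zero]

theorem finrank_sup_singleton {C : Submodule (ZMod 2) AbstractGolay.V} {x : AbstractGolay.V}
    (hx : x ∉ C) : Module.finrank (ZMod 2) ↥(C ⊔ Submodule.span (ZMod 2) {x}) =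
      Module.finrank (ZMod 2) C + 1 := by
  have h0 : x ≠ 0 := fun h => hx (h ▸ C.zero_mem)
  have hd : Disjoint C (Submodule.span (ZMod 2) {x}) := by
    rw [Submodule.disjoint_def]
    intro y hy hy'
    obtain ⟨r, rfl⟩ := Submodule.mem_span_singleton.1 hy'
    rcases AbstractGolay.z2 r with e | e
    · rw [e, zero_smul]
    · rw [e, one_smul] at hy; exact absurd hy hx
  have h1 := Submodule.finrank_sup_add_finrank_inf_eq C (Submodule.span (ZMod 2) {x})
  rw [hd.eq_bot, finrank_bot, add_zero, finrank_span_singleton h0] at h1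
  exact h1

/-- A block with the two extra points. -/
def ext2 (b : Finset α) : Finset (Option (Option α)) := ext1 (ext1 b)

@[simp] theorem mem_ext2 {b : Finset α} {a : α} : some (some a) ∈ ext2 b ↔ a ∈ b := by simp [ext2]

@[simp] theorem none_mem_ext2 (b : Finset α) : none ∈ ext2 b := by simp [ext2]

@[simp] theorem some_none_mem_ext2 (b : Finset α) : some none ∈ ext2 b := by simp [ext2]

theorem card_ext2 (b : Finset α) : (ext2 b).card = b.card + 2 := by
  simp [ext2, ext1, card_insertNone]

theorem ext2_inter (a b : Finset α) : ext2 a ∩ ext2 b = ext2 (a ∩ b) := by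
  rw [ext2, ext2, ext2, ext1_inter, ext1_inter]

theorem ext2_image {γ : Type*} [Fintype γ] [DecidableEq γ] (f : α → γ) (b : Finset α) :
    ext2 (b.image f) = (ext2 b).image (Option.map (Option.map f)) := by
  ext x
  rcases x with _ | _ | c
  · simp only [none_mem_ext2, mem_image, true_iff]
    exact ⟨none, none_mem_ext2 b, rfl⟩
  · simp only [some_none_mem_ext2, mem_image, true_iff]
    exact ⟨some none, some_none_mem_ext2 b, rfl⟩
  · simp only [mem_ext2, mem_image]
    constructor
    · rintro ⟨a, ha, rfl⟩; exact ⟨some (some a), mem_ext2.2 ha, rfl⟩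
    · rintro ⟨y, hy, he⟩
      rcases y with _ | _ | a <;> simp at he
      exact ⟨a, mem_ext2.1 hy, he⟩

theorem standard22 (hv : Fintype.card α = 22) (hB : IsSteinerSystem 3 6 (B : Set (Finset α))) :
    ∃ E : Option (Option α) ≃ GolayPt, E none = none ∧ E (some none) = some 0 ∧
      (∀ b : Finset α, b ∈ B ↔ (ext2 b).image E ∈ octads) ∧
      ∀ g ∈ setSystemAut (B : Set (Finset α)), ∃ σ ∈ M24,
        ∀ a : α, σ (E (some (some a))) = E (some (some (g a))) := by
  classical
  let E : Option (Option α) ≃ Fin 24 := Fintype.equivFinOfCardEq (by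
    rw [Fintype.card_option, Fintype.card_option, hv])
  let j : α ↪ Fin 24 := ⟨fun a => E (some (some a)), fun a b h =>
    Option.some.inj (Option.some.inj (E.injective h))⟩
  set u : Finset (Fin 24) := {E none, E (some none)} with hudef
  have hp12 : E none ≠ E (some none) := E.injective.ne (by simp)
  have hu2 : u.card = 2 := card_pair hp12
  let F : Set (Finset (Fin 24)) :=
    ((fun b => (ext2 b).image E) '' (B : Set (Finset α))) ∪ {Finset.univ}
  have hju : ∀ a, j a ∉ u := fun a h => by
    rw [hudef, mem_insert, mem_singleton] at h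
    rcases h with h | h <;> exact absurd (E.injective h) (by simp)
  have hext : ∀ b : Finset α, (ext2 b).image E = u ∪ b.map j := by
    intro b
    ext z
    obtain ⟨y, rfl⟩ := E.surjective z
    rw [E.injective.mem_finset_image, mem_union, hudef, mem_insert, mem_singleton, E.injective.eq_iff,
      E.injective.eq_iff, mem_map]
    rcases y with _ | _ | a
    · simp
    · simp
    · constructor
      · intro h; exact Or.inr ⟨a, mem_ext2.1 h, rfl⟩
      · rintro ((h | h) | ⟨c, hc, he⟩)
        · simp at h
        · simp at h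
        · obtain rfl : c = a := Option.some.inj (Option.some.inj (E.injective he))
          exact mem_ext2.2 hc
  have hmapinter : ∀ (T b : Finset α), (T.map j ∩ (ext2 b).image E).card = (T ∩ b).card := by
    intro T b
    rw [hext, inter_union_distrib_left, ← map_inter,
      show T.map j ∩ u = ∅ from eq_empty_of_forall_notMem fun z hz => by
        obtain ⟨h1, h2⟩ := mem_inter.1 hz
        obtain ⟨a, -, rfl⟩ := mem_map.1 h1
        exact hju a h2, empty_union, card_map]
  have hF8 : ∀ b ∈ B, ((ext2 b).image E).card = 8 := fun b hb => by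
    rw [card_image_of_injective _ E.injective, card_ext2, hB.1 b hb]
  have hF : ∀ b ∈ F, 4 ∣ b.card := by
    rintro _ (⟨b, hb, rfl⟩ | rfl)
    · rw [hF8 b hb]; norm_num
    · norm_num
  have heven : ∀ a ∈ F, ∀ b ∈ F, 2 ∣ (a ∩ b).card := by
    rintro _ (⟨a, ha, rfl⟩ | rfl) _ (⟨b, hb, rfl⟩ | rfl)
    · rw [← image_inter _ _ E.injective, ext2_inter, card_image_of_injective _ E.injective, card_ext2]
      rcases eq_or_ne a b with rfl | hne
      · rw [inter_self, hB.1 a ha]; norm_num
      · rcases SteinerTriangle.inter6 hB hv ha hb hne with h | h <;> rw [h] <;> norm_num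
    · rw [inter_univ, hF8 a ha]; norm_num
    · rw [univ_inter, hF8 b hb]; norm_num
    · norm_num
  set C0 := spanInd F with hC0
  have horth := span_orth heven
  have hde := span_doubly_even hF heven
  set uw : AbstractGolay.V := AbstractGolay.ind u with huwdef
  have hdotu : ∀ w : AbstractGolay.V, ∑ i, uw i * w i = w (E none) + w (E (some none)) := fun w => by
    simp only [huwdef, GolayUnique70.ind_apply, ite_mul, one_mul, zero_mul]
    rw [sum_ite_mem, univ_inter, hudef, sum_pair hp12]
  have huC : ∀ c ∈ C0, ∑ i, uw i * c i = 0 := by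
    intro c hc
    induction hc using Submodule.span_induction with
    | mem x hx =>
      obtain ⟨b, hb, rfl⟩ := hx
      rw [huwdef, dot_ind, ZMod.natCast_eq_zero_iff]
      rcases hb with ⟨d, hd, rfl⟩ | hb
      · rw [inter_eq_left.2 (show u ⊆ (ext2 d).image E by rw [hext]; exact subset_union_left), hu2]
      · rw [Set.mem_singleton_iff] at hb
        rw [hb, inter_univ, hu2]
    | zero => simp
    | add x y _ _ hx hy => simp [mul_add, sum_add_distrib, hx, hy]
    | smul r x _ hx => simp only [Pi.smul_apply, smul_eq_mul, mul_left_comm _ r, ← mul_sum, hx, mul_zero]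
  have huC0 : uw ∉ C0 := fun h => by
    have := hde _ h
    rw [huwdef, AbstractGolay.sup_ind, hu2] at this
    omega
  -- sets of inner points
  have hsyn : ∀ S T : Finset α, syndrome C0 (AbstractGolay.ind (S.map j)) =
      syndrome C0 (AbstractGolay.ind (T.map j)) →
      (∀ b ∈ B, 2 ∣ (symmDiff S T ∩ b).card) ∧ 2 ∣ (symmDiff S T).card := by
    intro S T h
    have h' := syndrome_eq_symmDiff h
    have hm : symmDiff (S.map j) (T.map j) = (symmDiff S T).map j := by
      ext z
      simp only [mem_symmDiff, mem_map]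
      constructor
      · rintro (⟨⟨a, ha, rfl⟩, hn⟩ | ⟨⟨a, ha, rfl⟩, hn⟩)
        · exact ⟨a, Or.inl ⟨ha, fun h => hn ⟨a, h, rfl⟩⟩, rfl⟩
        · exact ⟨a, Or.inr ⟨ha, fun h => hn ⟨a, h, rfl⟩⟩, rfl⟩
      · rintro ⟨a, ⟨ha, hn⟩ | ⟨ha, hn⟩, rfl⟩
        · exact Or.inl ⟨⟨a, ha, rfl⟩, fun ⟨c, hc, he⟩ => hn (j.injective he ▸ hc)⟩
        · exact Or.inr ⟨⟨a, ha, rfl⟩, fun ⟨c, hc, he⟩ => hn (j.injective he ▸ hc)⟩
    rw [hm] at h'
    refine ⟨fun b hb => ?_, ?_⟩
    · have := h' _ (Or.inl ⟨b, hb, rfl⟩)
      rwa [hmapinter] at this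
    · have := h' _ (Or.inr rfl)
      rwa [inter_univ, card_map] at this
  have hsd : ∀ S T : Finset α, symmDiff S T ⊆ S ∪ T := fun S T z hz => by
    rw [mem_symmDiff] at hz
    exact hz.elim (fun a => mem_union_left _ a.1) (fun a => mem_union_right _ a.1)
  have hsdc : ∀ S T : Finset α, (symmDiff S T).card + 2 * (S ∩ T).card = S.card + T.card := by
    intro S T
    have e : symmDiff S T = (S \ T) ∪ (T \ S) := rfl
    rw [e, card_union_of_disjoint disjoint_sdiff_sdiff]
    have := card_sdiff_add_card_inter S T
    have h2 := card_sdiff_add_card_inter T S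
    rw [inter_comm T S] at h2
    omega
  -- the dimension
  have hdim0 : Module.finrank (ZMod 2) C0 = 11 := by
    have hub : Module.finrank (ZMod 2) C0 ≤ 11 := by
      have huu : ∑ i, uw i * uw i = 0 := by
        rw [huwdef, dot_ind, inter_self, hu2]; rfl
      have := two_finrank_le (extend_orth horth huu huC)
      rw [finrank_sup_singleton huC0] at this
      omega
    set φ : Finset α → Module.Dual (ZMod 2) ↥C0 := fun S => syndrome C0 (AbstractGolay.ind (S.map j))
    set A := (range 3).biUnion fun k => (univ : Finset α).powersetCard k with hA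
    set R := (univ : Finset α).powersetCard 3 with hR
    have hAc : A.card = 254 := by
      rw [hA, card_biUnion (fun a _ b _ hab => (pairwise_disjoint_powersetCard univ) hab)]
      simp only [card_powersetCard, card_univ, hv]
      decide
    have hAm : ∀ S ∈ A, S.card ≤ 2 := fun S hS => by
      simp only [hA, mem_biUnion, mem_range, mem_powersetCard] at hS
      obtain ⟨k, hk, -, rfl⟩ := hS
      omega
    have hRm : ∀ S ∈ R, S.card = 3 := fun S hS => (mem_powersetCard.1 hS).2
    have hAinj : Set.InjOn φ (A : Set (Finset α)) := by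
      intro S hS T hT h
      obtain ⟨h1, -⟩ := hsyn S T h
      have hc := (card_le_card (hsd S T)).trans (card_union_le S T)
      have hS' := hAm S hS
      have hT' := hAm T hT
      rcases even22 hB hv (T := symmDiff S T) (by omega) h1 with h0 | hb
      · exact symmDiff_eq_bot.1 h0
      · have := hB.1 _ hb
        omega
    have hfib : R.card ≤ 2 * (R.image φ).card := by
      refine card_le_mul_card_image R 2 fun f hf => ?_
      by_contra hc
      obtain ⟨S, hS, T, hT, W, hW, hST, hSW, hTW⟩ := two_lt_card.1 (not_le.1 hc)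
      simp only [mem_filter] at hS hT hW
      have key : ∀ X ∈ R, X ≠ S → φ X = φ S → ∃ b ∈ B, S ⊆ b ∧ b = S ∪ X ∧ S ∩ X = ∅ := by
        intro X hX hne he
        obtain ⟨h1, -⟩ := hsyn X S he
        have hc := hsdc X S
        rw [hRm X hX, hRm S hS.1] at hc
        rcases even22 hB hv (T := symmDiff X S) (by omega) h1 with h0 | hb
        · exact absurd (symmDiff_eq_bot.1 h0) hne
        · have h6 := hB.1 _ hb
          have hd : S ∩ X = ∅ := card_eq_zero.1 (by rw [inter_comm]; omega)
          have hu : symmDiff X S = S ∪ X := by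
            ext z
            simp only [mem_symmDiff, mem_union]
            have : z ∈ S → z ∉ X := fun a b => notMem_empty z (hd ▸ mem_inter.2 ⟨a, b⟩)
            tauto
          exact ⟨_, hb, hu ▸ subset_union_left, hu, hd⟩
      obtain ⟨b, hb, hSb, rfl, hd⟩ := key T hT.1 hST.symm (hT.2.trans hS.2.symm)
      obtain ⟨c, hc', hSc, rfl, hd'⟩ := key W hW.1 hSW.symm (hW.2.trans hS.2.symm)
      have he := SteinerTriangle.eq_of_subset hB hb hc' (s := S) (by rw [hRm S hS.1]) hSb hSc
      refine hTW ?_
      ext z
      have e1 : z ∈ S ∪ T ↔ z ∈ S ∪ W := by rw [he]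
      simp only [mem_union] at e1
      have e2 : z ∈ S → z ∉ T := fun a b => notMem_empty z (hd ▸ mem_inter.2 ⟨a, b⟩)
      have e3 : z ∈ S → z ∉ W := fun a b => notMem_empty z (hd' ▸ mem_inter.2 ⟨a, b⟩)
      tauto
    have hRc : R.card = 1540 := by
      rw [hR, card_powersetCard, card_univ, hv]; decide
    -- a four-set outside every block
    obtain ⟨S0, hS0⟩ : R.Nonempty := card_pos.1 (by omega)
    obtain ⟨b0, ⟨hb0, hS0b⟩, -⟩ := hB.2 S0 (hRm S0 hS0)
    obtain ⟨x, hx⟩ : (b0ᶜ).Nonempty := card_pos.1 (by rw [card_compl, hB.1 b0 hb0, hv]; norm_num)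
    have hxS : x ∉ S0 := fun h => mem_compl.1 hx (hS0b h)
    set Q := insert x S0 with hQ
    have hQc : Q.card = 4 := by rw [hQ, card_insert_of_notMem hxS, hRm S0 hS0]
    have hQb : ∀ b ∈ B, ¬ Q ⊆ b := fun b hb hsub => by
      have := SteinerTriangle.eq_of_subset hB hb hb0 (s := S0) (by rw [hRm S0 hS0])
        ((subset_insert x S0).trans hsub) hS0b
      exact mem_compl.1 hx (this ▸ hsub (mem_insert_self x S0))
    have hparity : ∀ S T : Finset α, φ S = φ T → 2 ∣ S.card + T.card := fun S T h => by
      have h2 := (hsyn S T h).2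
      have := hsdc S T
      omega
    have hQA : φ Q ∉ A.image φ ∪ R.image φ := by
      intro h
      rw [mem_union, mem_image, mem_image] at h
      rcases h with ⟨S, hS, he⟩ | ⟨S, hS, he⟩
      · have hS' := hAm S hS
        obtain ⟨h1, -⟩ := hsyn S Q he
        have hc := hsdc S Q
        rcases even22 hB hv (T := symmDiff S Q) (by omega) h1 with h0 | hb
        · have := congrArg Finset.card (symmDiff_eq_bot.1 h0)
          omega
        · have h6 := hB.1 _ hb
          have hi : (S ∩ Q).card = 0 := by omega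
          refine hQb _ hb fun z hz => mem_symmDiff.2 (Or.inr ⟨hz, fun hzS => ?_⟩)
          exact notMem_empty z (card_eq_zero.1 hi ▸ mem_inter.2 ⟨hzS, hz⟩)
      · have := hparity S Q he
        rw [hRm S hS, hQc] at this
        omega
    have hdisj : Disjoint (A.image φ) (R.image φ) := by
      rw [disjoint_left]
      intro f hf hf'
      obtain ⟨S, hS, rfl⟩ := mem_image.1 hf
      obtain ⟨T, hT, he⟩ := mem_image.1 hf'
      have hpar := hparity T S he
      have hS' := hAm S hS
      obtain ⟨h1, -⟩ := hsyn T S he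
      have hc := hsdc T S
      rw [hRm T hT] at hc hpar
      rcases even22 hB hv (T := symmDiff T S) (by omega) h1 with h0 | hb
      · have := congrArg Finset.card (symmDiff_eq_bot.1 h0)
        rw [hRm T hT] at this
        omega
      · have := hB.1 _ hb
        omega
    have hfin : Finite (Module.Dual (ZMod 2) ↥C0) := Module.finite_of_finite (ZMod 2)
    have htot : (insert (φ Q) (A.image φ ∪ R.image φ)).card ≤ 2 ^ Module.finrank (ZMod 2) C0 := by
      have hD : Nat.card (Module.Dual (ZMod 2) ↥C0) = 2 ^ Module.finrank (ZMod 2) C0 := by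
        rw [Module.natCard_eq_pow_finrank (K := ZMod 2), Subspace.dual_finrank_eq, Nat.card_zmod]
      rw [← hD, ← Nat.card_eq_finsetCard]
      exact Nat.card_le_card_of_injective Subtype.val Subtype.val_injective
    rw [card_insert_of_notMem hQA, card_union_of_disjoint hdisj, card_image_of_injOn hAinj, hAc] at htot
    rw [hRc] at hfib
    by_contra hne
    have : 2 ^ Module.finrank (ZMod 2) C0 ≤ 2 ^ 10 := Nat.pow_le_pow_right (by norm_num) (by omega)
    omega
  -- the missing word
  obtain ⟨p, hp1, hp0⟩ : ∃ p : Module.Dual (ZMod 2) AbstractGolay.V, p uw ≠ 0 ∧ ∀ c ∈ C0, p c = 0 := by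
    obtain ⟨f, hf⟩ : ∃ f : Module.Dual (ZMod 2) (AbstractGolay.V ⧸ C0), f (C0.mkQ uw) ≠ 0 := by
      by_contra hc
      simp only [not_exists, not_not] at hc
      exact huC0 ((Submodule.Quotient.mk_eq_zero C0).1
        ((Module.forall_dual_apply_eq_zero_iff (ZMod 2) _).1 hc))
    refine ⟨f.comp C0.mkQ, hf, fun c hc => ?_⟩
    show f (C0.mkQ c) = 0
    rw [show C0.mkQ c = 0 from (Submodule.Quotient.mk_eq_zero C0).2 hc, map_zero]
  set C1 := C0 ⊔ Submodule.span (ZMod 2) {uw}
  obtain ⟨v, hvs⟩ := syndrome_surjective C1 (p.comp C1.subtype)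
  have hvu : ∑ i, v i * uw i = 1 := by
    have := LinearMap.congr_fun hvs ⟨uw, Submodule.mem_sup_right (Submodule.mem_span_singleton_self _)⟩
    rw [syndrome_apply] at this
    rw [this]
    exact (AbstractGolay.z2 (p uw)).resolve_left hp1
  have hvC : ∀ c ∈ C0, ∑ i, v i * c i = 0 := fun c hc => by
    have := LinearMap.congr_fun hvs ⟨c, Submodule.mem_sup_left hc⟩
    rw [syndrome_apply] at this
    rw [this]
    exact hp0 c hc
  have huniv : AbstractGolay.ind univ ∈ C0 := ind_mem_spanInd (Or.inr rfl)
  have hvv : ∑ i, v i * v i = 0 := by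
    have := hvC _ huniv
    rw [← this]
    refine sum_congr rfl fun i _ => ?_
    rcases AbstractGolay.z2 (v i) with h | h <;> simp [h, GolayUnique70.ind_apply]
  have hvC0 : v ∉ C0 := fun h => by
    have := huC v h
    rw [sum_congr rfl (fun i _ => mul_comm (uw i) (v i)), hvu] at this
    exact one_ne_zero this
  set C := C0 ⊔ Submodule.span (ZMod 2) {v} with hCdef
  have hCorth := extend_orth horth hvv hvC
  have hfix : ∀ c ∈ C0, c (E none) = c (E (some none)) := fun c hc => by
    have := huC c hc
    rw [hdotu] at this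
    rcases AbstractGolay.z2 (c (E none)) with h | h <;>
      rcases AbstractGolay.z2 (c (E (some none))) with h' | h' <;> simp_all
  have hC : AbstractGolay.IsGolay C := by
    refine ⟨by rw [hCdef, finrank_sup_singleton hvC0, hdim0], hCorth, fun w hw hne => ?_⟩
    obtain ⟨c, hc, _, hr, rfl⟩ := Submodule.mem_sup.1 hw
    obtain ⟨r, rfl⟩ := Submodule.mem_span_singleton.1 hr
    rw [AbstractGolay.norm_eq]
    by_contra hlt
    set W := AbstractGolay.sup (c + r • v) with hW
    have hWF : ∀ b ∈ F, 2 ∣ (W ∩ b).card := fun b hb => by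
      rw [← ZMod.natCast_eq_zero_iff, ← AbstractGolay.sup_ind b, hW, ← AbstractGolay.dot_eq]
      exact hCorth _ hw _ (Submodule.mem_sup_left (ind_mem_spanInd hb))
    have hWeven : 2 ∣ W.card := by
      have := hWF _ (Or.inr rfl)
      rwa [inter_univ] at this
    set T := W.preimage j j.injective.injOn with hTdef
    have hWsplit : W = (W ∩ u) ∪ T.map j := by
      ext z
      obtain ⟨y, rfl⟩ := E.surjective z
      simp only [mem_union, mem_inter, mem_map, hTdef, mem_preimage]
      rcases y with _ | _ | a
      · constructor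
        · intro h; exact Or.inl ⟨h, by rw [hudef]; simp⟩
        · rintro (⟨h, -⟩ | ⟨a, h, e⟩)
          · exact h
          · exact absurd (E.injective e) (by simp)
      · constructor
        · intro h; exact Or.inl ⟨h, by rw [hudef]; simp⟩
        · rintro (⟨h, -⟩ | ⟨a, h, e⟩)
          · exact h
          · exact absurd (E.injective e) (by simp)
      · constructor
        · intro h; exact Or.inr ⟨a, h, rfl⟩
        · rintro (⟨h, -⟩ | ⟨c, h, e⟩)
          · exact h
          · exact e ▸ h
    have hdis : ∀ S : Finset (Fin 24), S ⊆ u → ∀ X : Finset α, Disjoint S (X.map j) := fun S hS X =>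
      disjoint_left.2 fun z hz hz' => by
        obtain ⟨a, -, rfl⟩ := mem_map.1 hz'
        exact hju a (hS hz)
    have hWc : W.card = (W ∩ u).card + T.card := by
      conv_lhs => rw [hWsplit]
      rw [card_union_of_disjoint (hdis _ inter_subset_right T), card_map]
    have hTb : ∀ b ∈ B, (W ∩ (ext2 b).image E).card = (W ∩ u).card + (T ∩ b).card := by
      intro b hb
      have e : W ∩ (ext2 b).image E = (W ∩ u) ∪ (T ∩ b).map j := by
        rw [hext, inter_union_distrib_left]
        congr 1
        ext z
        simp only [mem_inter, mem_map, hTdef, mem_preimage]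
        constructor
        · rintro ⟨h1, a, ha, rfl⟩; exact ⟨a, ⟨h1, ha⟩, rfl⟩
        · rintro ⟨a, ⟨h1, ha⟩, rfl⟩; exact ⟨h1, a, ha, rfl⟩
      rw [e, card_union_of_disjoint (hdis _ inter_subset_right _), card_map]
    have hWu : (((W ∩ u).card : ℕ) : ZMod 2) = r := by
      rw [inter_comm, hW, ← AbstractGolay.sup_ind u, ← AbstractGolay.dot_eq]
      show ∑ i, uw i * (c + r • v) i = r
      simp only [Pi.add_apply, Pi.smul_apply, smul_eq_mul, mul_add, mul_left_comm _ r,
        sum_add_distrib, ← mul_sum, huC c hc]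
      rw [sum_congr rfl (fun i _ => mul_comm (uw i) (v i)), hvu, zero_add, mul_one]
    have hWu2 : (W ∩ u).card ≤ 2 := hu2 ▸ card_le_card inter_subset_right
    rcases AbstractGolay.z2 r with rfl | rfl
    · rw [zero_smul, add_zero] at hW hne hw
      have h4 := hde c hc
      rw [← hW] at h4
      have hev : 2 ∣ (W ∩ u).card := (ZMod.natCast_eq_zero_iff _ _).1 hWu
      have hT : T.card ≤ 4 := by omega
      rcases even22 hB hv (T := T) (by omega) (fun b hb => by
        have := hWF _ (Or.inl ⟨b, hb, rfl⟩)
        rw [hTb b hb] at this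
        omega) with h0 | hb
      · have h00 : W.card = 0 := by rw [h0, card_empty] at hWc; omega
        refine hne ?_
        rw [← AbstractGolay.ind_sup c, ← hW, card_eq_zero.1 h00]
        funext i
        simp [AbstractGolay.ind]
      · have := hB.1 _ hb
        omega
    · have hodd : ¬ 2 ∣ (W ∩ u).card := fun h => by
        rw [(ZMod.natCast_eq_zero_iff _ _).2 h] at hWu
        exact zero_ne_one hWu
      refine no_odd22 hB hv (T := T) (by omega) fun b hb hd => ?_
      have := hWF _ (Or.inl ⟨b, hb, rfl⟩)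
      rw [hTb b hb] at this
      omega
  obtain ⟨e, he0, he1, hkey, hblocks⟩ := exists_standard hC hp12
  refine ⟨E.trans e, he0, he1, fun b => ?_, fun g hg => ?_⟩
  · have hcomp : (ext2 b).image (E.trans e) = ((ext2 b).image E).image e := by rw [image_image]; rfl
    rw [hcomp, ← hblocks]
    have hm : ∀ b ∈ B, (ext2 b).image E ∈ GolayUnique70.blocks C := fun b hb =>
      GolayUnique70.mem_blocks.2 ⟨Submodule.mem_sup_left (ind_mem_spanInd (Or.inl ⟨b, hb, rfl⟩)), hF8 b hb⟩
    refine ⟨hm b, fun hb => ?_⟩
    obtain ⟨-, h8⟩ := GolayUnique70.mem_blocks.1 hb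
    rw [card_image_of_injective _ E.injective, card_ext2] at h8
    obtain ⟨s, hs, hs3⟩ := exists_subset_card_eq (show 3 ≤ b.card by omega)
    obtain ⟨c, ⟨hc, hsc⟩, -⟩ := hB.2 s hs3
    have hmono : ∀ {x y : Finset α}, x ⊆ y → ext2 x ⊆ ext2 y := by
      intro x y h z hz
      rcases z with _ | _ | a
      · exact none_mem_ext2 y
      · exact some_none_mem_ext2 y
      · exact mem_ext2.2 (h (mem_ext2.1 hz))
    have := SteinerTriangle.eq_of_subset (GolayUnique70.blocks_steiner hC) hb (hm c hc)
      (s := (ext2 s).image E) (by rw [card_image_of_injective _ E.injective, card_ext2, hs3])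
      (image_subset_image (hmono hs)) (image_subset_image (hmono hsc))
    have h2 := image_injective E.injective this
    have : b = c := by
      ext a
      have := Finset.ext_iff.1 h2 (some (some a))
      simpa using this
    rwa [this]
  · -- automorphisms extend
    let σ : Equiv.Perm (Fin 24) := E.permCongr (Equiv.optionCongr (Equiv.optionCongr g))
    have hσs : ∀ a, σ (E (some (some a))) = E (some (some (g a))) := fun a => by
      simp [σ, Equiv.permCongr_def]
    have hσ1 : σ (E none) = E none := by simp [σ, Equiv.permCongr_def]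
    have hσ2 : σ (E (some none)) = E (some none) := by simp [σ, Equiv.permCongr_def]
    have hσF : ∀ b ∈ F, σ • b ∈ F := by
      rintro _ (⟨b, hb, rfl⟩ | rfl)
      · refine Or.inl ⟨g • b, ?_, ?_⟩
        · exact (MulAction.mem_stabilizer_iff.1 hg).subset (Set.smul_mem_smul_set (mem_coe.2 hb))
        · show (ext2 (g • b)).image E = σ • (ext2 b).image E
          rw [Finset.smul_finset_def, Finset.smul_finset_def, ext2_image, image_image, image_image]
          refine image_congr fun y _ => ?_
          rcases y with _ | _ | a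
          · exact hσ1.symm
          · exact hσ2.symm
          · exact (hσs a).symm
      · exact Or.inr (Finset.smul_finset_univ)
    let L : Equiv.Perm (Fin 24) → AbstractGolay.V →ₗ[ZMod 2] AbstractGolay.V := fun τ =>
      LinearMap.funLeft (ZMod 2) (ZMod 2) τ.symm
    have hdotL : ∀ (τ : Equiv.Perm (Fin 24)) (x y : AbstractGolay.V),
        ∑ i, L τ x i * L τ y i = ∑ i, x i * y i := fun τ x y =>
      Equiv.sum_comp τ.symm (fun i => x i * y i)
    have hLC0 : ∀ c ∈ C0, L σ c ∈ C0 := fun c hc => spanInd_perm σ hσF hc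
    have hLu : L σ uw = uw := by
      funext i
      show uw (σ.symm i) = uw i
      simp only [huwdef, GolayUnique70.ind_apply, hudef, mem_insert, mem_singleton,
        Equiv.symm_apply_eq, hσ1, hσ2]
    have hσF' : ∀ b ∈ F, σ⁻¹ • b ∈ F := by
      intro b hb
      have hpow : ∀ n : ℕ, ∀ b ∈ F, (σ ^ n) • b ∈ F := fun n => by
        induction n with
        | zero => intro b hb; rwa [pow_zero, one_smul]
        | succ n ih => intro b hb; rw [pow_succ', mul_smul]; exact hσF _ (ih b hb)
      have : σ⁻¹ = σ ^ (orderOf σ - 1) := by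
        rw [inv_eq_iff_mul_eq_one, ← pow_succ', Nat.sub_add_cancel (orderOf_pos σ), pow_orderOf_eq_one]
      rw [this]
      exact hpow _ b hb
    set w := L σ v with hwdef
    have hwC : ∀ c ∈ C0, ∑ i, w i * c i = 0 := by
      intro c hc
      have hc' : L σ⁻¹ c ∈ C0 := spanInd_perm σ⁻¹ hσF' hc
      have e : L σ (L σ⁻¹ c) = c := funext fun i => by
        show c ((σ⁻¹).symm (σ.symm i)) = c i
        rw [Equiv.Perm.inv_def, Equiv.symm_symm, Equiv.apply_symm_apply]
      rw [← e, hdotL]
      exact hvC _ hc'
    have hwu : ∑ i, w i * uw i = 1 := by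
      conv_lhs => rw [← hLu]
      rw [hdotL, hvu]
    -- the orthogonal space of `C0`
    have hker : LinearMap.ker (syndrome C0) =
        (C0 ⊔ Submodule.span (ZMod 2) {uw}) ⊔ Submodule.span (ZMod 2) {v} := by
      refine (Submodule.eq_of_le_of_finrank_eq ?_ ?_).symm
      · refine sup_le (sup_le (fun c hc => ?_) ?_) ?_
        · exact LinearMap.mem_ker.2 (LinearMap.ext fun d => horth c hc d.1 d.2)
        · rw [Submodule.span_singleton_le_iff_mem, LinearMap.mem_ker]
          exact LinearMap.ext fun d => huC d.1 d.2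
        · rw [Submodule.span_singleton_le_iff_mem, LinearMap.mem_ker]
          exact LinearMap.ext fun d => hvC d.1 d.2
      · have h1 := LinearMap.finrank_range_add_finrank_ker (syndrome C0)
        rw [LinearMap.range_eq_top.2 (syndrome_surjective C0), finrank_top, Subspace.dual_finrank_eq,
          Module.finrank_fin_fun, hdim0] at h1
        rw [finrank_sup_singleton, finrank_sup_singleton huC0, hdim0]
        · omega
        · intro h
          obtain ⟨c, hc, _, hr, hcr⟩ := Submodule.mem_sup.1 h
          obtain ⟨r, rfl⟩ := Submodule.mem_span_singleton.1 hr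
          have : ∑ i, v i * uw i = 0 := by
            rw [← hcr]
            simp only [Pi.add_apply, Pi.smul_apply, smul_eq_mul, add_mul, sum_add_distrib, mul_assoc,
              ← mul_sum]
            rw [sum_congr rfl (fun i _ => mul_comm (c i) (uw i)), huC c hc,
              show ∑ i, uw i * uw i = 0 by rw [huwdef, dot_ind, inter_self, hu2]; rfl]
            simp
          rw [hvu] at this
          exact one_ne_zero this
    have hwmem : w ∈ LinearMap.ker (syndrome C0) :=
      LinearMap.mem_ker.2 (LinearMap.ext fun d => hwC d.1 d.2)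
    rw [hker] at hwmem
    obtain ⟨y, hy, _, hr, hyw⟩ := Submodule.mem_sup.1 hwmem
    obtain ⟨r, rfl⟩ := Submodule.mem_span_singleton.1 hr
    obtain ⟨c, hc, _, hs, rfl⟩ := Submodule.mem_sup.1 hy
    obtain ⟨s, rfl⟩ := Submodule.mem_span_singleton.1 hs
    have hr1 : r = 1 := by
      rw [← hyw] at hwu
      simp only [Pi.add_apply, Pi.smul_apply, smul_eq_mul, add_mul, sum_add_distrib, mul_assoc,
        ← mul_sum] at hwu
      rw [sum_congr rfl (fun i _ => mul_comm (c i) (uw i)), huC c hc,
        show ∑ i, uw i * uw i = 0 by rw [huwdef, dot_ind, inter_self, hu2]; rfl, hvu] at hwu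
      simpa using hwu
    subst hr1
    have hfinish : ∀ τ : Equiv.Perm (Fin 24), (∀ c ∈ C0, L τ c ∈ C0) → L τ v ∈ C →
        (∀ a, τ (E (some (some a))) = E (some (some (g a)))) →
        ∃ π ∈ M24, ∀ a : α, π ((E.trans e) (some (some a))) = (E.trans e) (some (some (g a))) := by
      intro τ hτ0 hτv hτs
      refine ⟨e.permCongr τ, mem_M24_of_invariant hkey fun x hx => ?_, fun a => ?_⟩
      · obtain ⟨d, hd, _, hs, rfl⟩ := Submodule.mem_sup.1 hx
        obtain ⟨t, rfl⟩ := Submodule.mem_span_singleton.1 hs
        show L τ (d + t • v) ∈ C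
        rw [map_add, map_smul]
        exact C.add_mem (Submodule.mem_sup_left (hτ0 d hd)) (C.smul_mem t hτv)
      · simp [Equiv.permCongr_def, hτs]
    rcases AbstractGolay.z2 s with rfl | rfl
    · refine hfinish σ hLC0 ?_ hσs
      show w ∈ C
      rw [← hyw, zero_smul, add_zero, one_smul]
      exact C.add_mem (Submodule.mem_sup_left hc) (Submodule.mem_sup_right (Submodule.mem_span_singleton_self v))
    · set sw := Equiv.swap (E none) (E (some none)) with hsw
      have hswC : ∀ c ∈ C0, L sw c = c := by
        intro c hc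
        funext i
        show c (sw.symm i) = c i
        rw [hsw, Equiv.symm_swap]
        rcases eq_or_ne i (E none) with rfl | h1
        · rw [Equiv.swap_apply_left, hfix c hc]
        rcases eq_or_ne i (E (some none)) with rfl | h2
        · rw [Equiv.swap_apply_right, hfix c hc]
        rw [Equiv.swap_apply_of_ne_of_ne h1 h2]
      have hvne : v (E none) + v (E (some none)) = 1 := by
        rw [← hdotu, ← hvu]
        exact sum_congr rfl fun i _ => mul_comm _ _
      have hswv : L sw v = v + uw := by
        funext i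
        show v (sw.symm i) = v i + uw i
        rw [hsw, Equiv.symm_swap, huwdef, GolayUnique70.ind_apply, hudef]
        have h2 : ∀ a b : ZMod 2, a + b = 1 → b = a + 1 ∧ a = b + 1 := by decide
        obtain ⟨k1, k2⟩ := h2 _ _ hvne
        rcases eq_or_ne i (E none) with rfl | h1
        · rw [Equiv.swap_apply_left, if_pos (mem_insert_self _ _)]; exact k1
        rcases eq_or_ne i (E (some none)) with rfl | h3
        · rw [Equiv.swap_apply_right, if_pos (mem_insert_of_mem (mem_singleton_self _))]; exact k2
        rw [Equiv.swap_apply_of_ne_of_ne h1 h3, if_neg (by simp [h1, h3]), add_zero]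
      have hcomp : ∀ x, L (σ.trans sw) x = L sw (L σ x) := fun x => rfl
      refine hfinish (σ.trans sw) (fun c hc => ?_) ?_ fun a => ?_
      · rw [hcomp, hswC _ (hLC0 c hc)]; exact hLC0 c hc
      · rw [hcomp, ← hwdef, ← hyw, map_add, map_add, one_smul, one_smul, hswC c hc, hswv]
        have hswu : L sw uw = uw := by
          funext i
          show uw (sw.symm i) = uw i
          rw [hsw, Equiv.symm_swap, huwdef, GolayUnique70.ind_apply, GolayUnique70.ind_apply, hudef]
          rcases eq_or_ne i (E none) with rfl | h1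
          · rw [Equiv.swap_apply_left]; simp
          rcases eq_or_ne i (E (some none)) with rfl | h3
          · rw [Equiv.swap_apply_right]; simp
          rw [Equiv.swap_apply_of_ne_of_ne h1 h3]
        rw [hswu, show c + uw + (v + uw) = c + v from funext fun i => by
          simp only [Pi.add_apply]
          have : ∀ a b d : ZMod 2, a + d + (b + d) = a + b := by decide
          exact this _ _ _]
        exact C.add_mem (Submodule.mem_sup_left hc) (Submodule.mem_sup_right (Submodule.mem_span_singleton_self v))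
      · show sw (σ (E (some (some a)))) = _
        rw [hσs, hsw, Equiv.swap_apply_of_ne_of_ne] <;> exact fun h => by simpa using E.injective h

end Cfsg.Agent.SteinerTwoPoint70
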