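import Cfsg.Agent.Lib.StemSL2
import Cfsg.Agent.Lib.StemSLnMat
import Mathlib

/-!
Central extensions of `SL_n(q)` with kernel of order prime to `q` and generated by `p`-elements are
trivial.  (A section of the coset space over the nonzero vectors replaces the Bruhat decomposition.)
-/

set_option autoImplicit false
set_option backward.isDefEq.respectTransparency false

namespace Cfsg.Agent.StemSLnPrime

open Matrix Subgroup
open scoped MatrixGroups
open StemSLnMat StemLift

variable {F : Type*} [Field F] (p : ℕ) [Fact p.Prime] [CharP F p]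

omit [Fact p.Prime] in
theorem isPElem_T {ι : Type*} [Fintype ι] [DecidableEq ι] {φ d : ι → F} (h : φ ⬝ᵥ d = 0) :
    IsPElem p (T φ d) := isPElem_of_pow (T_pow p h)

omit [Fact p.Prime] in
theorem isPElem_transvection {ι : Type*} [Fintype ι] [DecidableEq ι] {i j : ι} (hij : i ≠ j)
    (c : F) : IsPElem p (SpecialLinearGroup.transvection hij c) :=
  isPElem_of_pow (transvection_pow p hij c)

/-- The `i`th standard basis vector. -/
abbrev e {n : ℕ} (i : Fin n) : Fin n → F := Pi.single i 1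

theorem mulVec_mul' {n : ℕ} (A B : SL(n, F)) (w : Fin n → F) :
    (A * B).1 *ᵥ w = A.1 *ᵥ (B.1 *ᵥ w) := PSLSimple.mulVec_mul A B w

theorem inv_mulVec {n : ℕ} (A : SL(n, F)) (w : Fin n → F) :
    (A⁻¹ : SL(n, F)).1 *ᵥ (A.1 *ᵥ w) = w := by
  rw [← mulVec_mul', inv_mul_cancel, val_one, Matrix.one_mulVec]

section

variable {Γ : Type*} [Group Γ] [Finite Γ] {n : ℕ} (σ : Γ →* SL(n, F))

variable {X : Type*} [MulAction Γ X]

/-- Every canonical lift of a `p`-element fixing `a` fixes `x`. -/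
def Good (a : Fin n → F) (x : X) : Prop :=
  ∀ u : SL(n, F), IsPElem p u → u.1 *ᵥ a = a → lift p σ u • x = x

/-- `y` is obtained from `x` by the lift of a transvection moving `a` to `v`. -/
def Sect (a : Fin n → F) (x : X) (v : Fin n → F) (y : X) : Prop :=
  ∃ φ : Fin n → F, φ ⬝ᵥ a = 1 ∧ φ ⬝ᵥ v = 1 ∧ y = lift p σ (T φ (v - a)) • x

omit [Finite Γ] in
theorem sub_dot {φ a v : Fin n → F} (ha : φ ⬝ᵥ a = 1) (hv : φ ⬝ᵥ v = 1) : φ ⬝ᵥ (v - a) = 0 := by
  rw [dotProduct_sub, ha, hv, sub_self]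

omit [Finite Γ] in
theorem T_move {φ a v : Fin n → F} (ha : φ ⬝ᵥ a = 1) (hv : φ ⬝ᵥ v = 1) :
    (T φ (v - a)).1 *ᵥ a = v := by
  rw [T_mulVec (sub_dot ha hv), ha, one_smul, add_sub_cancel]

variable (hs : Function.Surjective σ) (hc : σ.ker ≤ center Γ)
  (hZ : Nat.Coprime (Nat.card σ.ker) p)

include hs hc hZ in
theorem sect_unique {a v : Fin n → F} {x y y' : X} (hx : Good p σ a x) (h : Sect p σ a x v y)
    (h' : Sect p σ a x v y') : y = y' := by
  obtain ⟨φ, ha, hv, rfl⟩ := h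
  obtain ⟨φ', ha', hv', rfl⟩ := h'
  have h1 := sub_dot ha hv
  have h2 : (φ' - φ) ⬝ᵥ (v - a) = 0 := by rw [sub_dotProduct, sub_dot ha' hv', h1, sub_self]
  have h3 : T φ (v - a) * T (φ' - φ) (v - a) = T φ' (v - a) := by
    rw [T_mul_same_d h1 h2, add_sub_cancel]
  rw [← h3, ← lift_mul hs hc hZ (isPElem_T p h1) (isPElem_T p h2) (T_commute_same_d h1 h2), mul_smul,
    hx _ (isPElem_T p h2) (by rw [T_mulVec h2, sub_dotProduct, ha, ha', sub_self, zero_smul, add_zero])]

include hs hc hZ in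
theorem sect_good {a v : Fin n → F} {x y : X} (hx : Good p σ a x) (h : Sect p σ a x v y) :
    Good p σ v y := by
  obtain ⟨φ, ha, hv, rfl⟩ := h
  intro u hu huv
  set t := T φ (v - a)
  have ht : IsPElem p t := isPElem_T p (sub_dot ha hv)
  obtain ⟨hσt, -⟩ := lift_spec hs hZ ht
  have hc1 := lift_conj hs hc hZ hu (lift p σ t)⁻¹
  rw [map_inv, hσt, inv_inv, inv_inv] at hc1
  have hfix : (t⁻¹ * u * t).1 *ᵥ a = a := by
    rw [mulVec_mul', mulVec_mul', T_move ha hv, huv, ← T_move ha hv, inv_mulVec]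
  have := hx _ (by simpa using hu.conj t⁻¹) hfix
  rw [← hc1, mul_smul, mul_smul, inv_smul_eq_iff] at this
  exact this

include hs hc hZ in
theorem sect_trans {a b v : Fin n → F} {x y z : X} (hx : Good p σ a x) {φ : Fin n → F}
    (ha : φ ⬝ᵥ a = 1) (hb : φ ⬝ᵥ b = 1) (hv : φ ⬝ᵥ v = 1)
    (h : Sect p σ a x b y) (h' : Sect p σ b y v z) : Sect p σ a x v z := by
  have hy := sect_good p σ hs hc hZ hx h
  have e1 := sect_unique p σ hs hc hZ hx h ⟨φ, ha, hb, rfl⟩
  have e2 := sect_unique p σ hs hc hZ hy h' ⟨φ, hb, hv, rfl⟩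
  refine ⟨φ, ha, hv, ?_⟩
  have h1 := sub_dot ha hb
  have h2 := sub_dot hb hv
  rw [e2, e1, ← mul_smul, lift_mul hs hc hZ (isPElem_T p h2) (isPElem_T p h1) (T_commute_same_phi h2 h1),
    T_mul_same_phi h2 h1, sub_add_sub_cancel]

include hs hc hZ in
theorem sect_equiv {a v : Fin n → F} {x y : X} (hx : Good p σ a x) (h : Sect p σ a x v y)
    {u : SL(n, F)} (hu : IsPElem p u) (hua : u.1 *ᵥ a = a) :
    Sect p σ a x (u.1 *ᵥ v) (lift p σ u • y) := by
  obtain ⟨φ, ha, hv, rfl⟩ := h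
  have h1 := sub_dot ha hv
  refine ⟨φ ᵥ* (u⁻¹ : SL(n, F)).1, ?_, ?_, ?_⟩
  · rw [← dotProduct_mulVec, ← hua, inv_mulVec, ha]
  · rw [← dotProduct_mulVec, inv_mulVec, hv]
  · have hc1 := lift_conj hs hc hZ (isPElem_T p h1) (lift p σ u)
    rw [(lift_spec hs hZ hu).1, T_conj u h1, Matrix.mulVec_sub, hua] at hc1
    rw [← hc1, mul_smul, mul_smul]
    congr 2
    rw [eq_inv_smul_iff]
    exact hx u hu hua

/-- `v` is not a multiple of `e i`. -/
def Off (i : Fin n) (v : Fin n → F) : Prop := ∃ k, k ≠ i ∧ v k ≠ 0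

omit [Finite Γ] in
theorem exists_phi {i : Fin n} {v : Fin n → F} (h : Off i v) :
    ∃ φ : Fin n → F, φ ⬝ᵥ e i = 1 ∧ φ ⬝ᵥ v = 1 := by
  obtain ⟨k, hki, hk⟩ := h
  refine ⟨Pi.single i 1 + Pi.single k ((1 - v i) / v k), ?_, ?_⟩
  · simp [add_dotProduct, Ne.symm hki]
  · simp [add_dotProduct, div_mul_cancel₀ _ hk]

omit [Finite Γ] in
theorem exists_phi₂ {i j m : Fin n} {v : Fin n → F} (hij : i ≠ j) (hmi : m ≠ i) (hmj : m ≠ j)
    (h : v m ≠ 0) : ∃ φ : Fin n → F, φ ⬝ᵥ e i = 1 ∧ φ ⬝ᵥ e j = 1 ∧ φ ⬝ᵥ v = 1 := by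
  refine ⟨Pi.single i 1 + Pi.single j 1 + Pi.single m ((1 - v i - v j) / v m), ?_, ?_, ?_⟩
  · simp [add_dotProduct, hij, Ne.symm hmi]
  · simp [add_dotProduct, Ne.symm hij, Ne.symm hmj]
  · simp [add_dotProduct, div_mul_cancel₀ _ h]

include hs hc hZ in
theorem agree (hn : 3 ≤ n) (x : Fin n → X) (hgood : ∀ i, Good p σ (e i) (x i))
    (hpair : ∀ i j, Sect p σ (e i) (x i) (e j) (x j)) {i j : Fin n} {v : Fin n → F} {y y' : X}
    (hi : Off i v) (hj : Off j v) (h : Sect p σ (e i) (x i) v y)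
    (h' : Sect p σ (e j) (x j) v y') : y = y' := by
  have key : ∀ {i j m : Fin n} {y y' : X}, i ≠ j → m ≠ i → m ≠ j → v m ≠ 0 →
      Sect p σ (e i) (x i) v y → Sect p σ (e j) (x j) v y' → y = y' := by
    intro i j m y y' hij hmi hmj hm h h'
    obtain ⟨φ, h1, h2, h3⟩ := exists_phi₂ hij hmi hmj hm
    exact sect_unique p σ hs hc hZ (hgood i) h
      (sect_trans p σ hs hc hZ (hgood i) h1 h2 h3 (hpair i j) h')
  by_cases hij : i = j
  · subst hij
    exact sect_unique p σ hs hc hZ (hgood i) h h'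
  by_cases hm : ∃ m, m ≠ i ∧ m ≠ j ∧ v m ≠ 0
  · obtain ⟨m, h1, h2, h3⟩ := hm
    exact key hij h1 h2 h3 h h'
  have hvi : v i ≠ 0 := by
    obtain ⟨k, hk, hk'⟩ := hj
    by_cases hki : k = i
    · subst hki; exact hk'
    · exact absurd ⟨k, hki, hk, hk'⟩ hm
  have hvj : v j ≠ 0 := by
    obtain ⟨k, hk, hk'⟩ := hi
    by_cases hkj : k = j
    · subst hkj; exact hk'
    · exact absurd ⟨k, hk, hkj, hk'⟩ hm
  obtain ⟨k, hki, hkj⟩ := PSLSimple.exists_third (ι := Fin n) (by simpa using hn) i j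
  obtain ⟨φ, hφ1, hφ2⟩ := exists_phi (i := k) (v := v) ⟨i, Ne.symm hki, hvi⟩
  set z := lift p σ (T φ (v - e k)) • x k with hz
  have hz' : Sect p σ (e k) (x k) v z := ⟨φ, hφ1, hφ2, rfl⟩
  exact (key (Ne.symm hki) (Ne.symm hij) (Ne.symm hkj) hvj h hz').trans
    (key (Ne.symm hkj) hij (Ne.symm hki) hvi h' hz').symm

end

section Step

variable {Γ : Type*} [Group Γ] [Finite Γ] {m : ℕ} (σ : Γ →* SL(m + 1, F))
  (hs : Function.Surjective σ) (hc : σ.ker ≤ center Γ) (hZ : Nat.Coprime (Nat.card σ.ker) p)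

/-- The group generated by the `p`-lifts fixing `e₀`. -/
abbrev stabLift : Subgroup Γ :=
  closure {g | IsPElem p g ∧ (σ g).1 *ᵥ e 0 = e 0}

/-- The group generated by the `p`-lifts in the Levi subgroup. -/
abbrev leviLift : Subgroup Γ :=
  closure {g | IsPElem p g ∧ σ g ∈ (leviHom (F := F) m).range}

omit [Finite Γ] [Fact p.Prime] [CharP F p] in
theorem stabLift_fix {g : Γ} (hg : g ∈ stabLift p σ) : (σ g).1 *ᵥ e 0 = e 0 := by
  induction hg using closure_induction with
  | mem g hg => exact hg.2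
  | one => rw [map_one, val_one, Matrix.one_mulVec]
  | mul a b _ _ ha hb => rw [map_mul, mulVec_mul', hb, ha]
  | inv a _ ha =>
    conv_lhs => rw [map_inv, ← ha]
    exact inv_mulVec _ _

omit [Fact p.Prime] [CharP F p] in
theorem isPElem_levi_part {r : Fin m → F} {A : SL(m, F)} (h : IsPElem p (emb r A)) :
    IsPElem p A := by
  obtain ⟨k, hk⟩ := h
  have key : ∀ i : ℕ, ∃ r', emb r A ^ i = emb r' (A ^ i) := by
    intro i
    induction i with
    | zero => exact ⟨0, by rw [pow_zero, pow_zero, emb_zero_one]⟩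
    | succ i ih =>
      obtain ⟨r', hr'⟩ := ih
      exact ⟨_, by rw [pow_succ, hr', emb_mul, pow_succ]⟩
  obtain ⟨r', hr'⟩ := key (p ^ k)
  rw [hk, ← emb_zero_one] at hr'
  exact ⟨k, (emb_injective hr').2.symm⟩

omit [Fact p.Prime] in
theorem isPElem_rad (r : Fin m → F) : IsPElem p (emb r (1 : SL(m, F))) := by
  refine isPElem_of_pow ?_
  show radHom m (Multiplicative.ofAdd r) ^ p = 1
  rw [← map_pow, ← ofAdd_nsmul]
  have : p • r = 0 := by
    ext i; simp [CharP.cast_eq_zero]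
  rw [this, ofAdd_zero, map_one]

include hs hc hZ in
theorem stabLift_ker (hlevi : ∀ l ∈ leviLift p σ, σ l = 1 → l = 1) {g : Γ}
    (hg : g ∈ stabLift p σ) (hg1 : σ g = 1) : g = 1 := by
  have hcomm : ∀ r r' : Fin m → F, Commute (emb r (1 : SL(m, F))) (emb r' 1) := fun r r' => by
    show _ = _
    rw [emb_mul, emb_mul, val_one, Matrix.vecMul_one, Matrix.vecMul_one, add_comm r']
  let V : Multiplicative (Fin m → F) →* Γ :=
    { toFun := fun r => lift p σ (emb r.toAdd 1)
      map_one' := by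
        show lift p σ (emb (0 : Fin m → F) 1) = 1
        rw [emb_zero_one, lift_one hs hc hZ]
      map_mul' := fun r r' => by
        show lift p σ (emb (r.toAdd + r'.toAdd) 1) = _
        rw [lift_mul hs hc hZ (isPElem_rad p _) (isPElem_rad p _) (hcomm _ _), emb_mul, mul_one,
          val_one, Matrix.vecMul_one, add_comm r.toAdd] }
  have hVp : ∀ x ∈ V.range, IsPElem p x := by
    rintro _ ⟨r, rfl⟩
    exact (lift_spec hs hZ (isPElem_rad p _)).2
  have hLσ : ∀ l ∈ leviLift p σ, σ l ∈ (leviHom (F := F) m).range := by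
    intro l hl
    have : leviLift p σ ≤ (leviHom (F := F) m).range.comap σ := by
      rw [closure_le]; exact fun x hx => hx.2
    exact this hl
  have hnorm : ∀ l : Γ, σ l ∈ (leviHom (F := F) m).range → ∀ x ∈ V.range, l * x * l⁻¹ ∈ V.range := by
    rintro l ⟨A, hA⟩ _ ⟨r, rfl⟩
    refine ⟨Multiplicative.ofAdd (r.toAdd ᵥ* (A⁻¹ : SL(m, F)).1), ?_⟩
    show lift p σ _ = l * lift p σ _ * l⁻¹
    rw [lift_conj hs hc hZ (isPElem_rad p _), ← hA]
    exact congrArg _ (levi_conj_rad _ A).symm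
  have main : ∀ g ∈ stabLift p σ, ∃ v ∈ V.range, ∃ l ∈ leviLift p σ, g = v * l := by
    intro g hg
    induction hg using closure_induction with
    | mem g hg =>
      obtain ⟨hgp, hge⟩ := hg
      obtain ⟨r, A, hrA⟩ := exists_emb _ hge
      have hA : IsPElem p A := isPElem_levi_part p (r := r) (hrA ▸ hgp.map σ)
      have hA' : IsPElem p (emb (0 : Fin m → F) A) := hA.map (leviHom m)
      obtain ⟨hl1, hl2⟩ := lift_spec hs hZ hA'
      have hlL : lift p σ (emb (0 : Fin m → F) A) ∈ leviLift p σ :=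
        subset_closure ⟨hl2, A, hl1.symm⟩
      refine ⟨V (Multiplicative.ofAdd (r ᵥ* (A⁻¹ : SL(m, F)).1)), ⟨_, rfl⟩, _, hlL, ?_⟩
      refine lift_unique hc hZ ?_ hgp
        (IsPElem.mul_of_normalizes hVp hl2 (hnorm _ ⟨A, hl1.symm⟩) ⟨_, rfl⟩)
      rw [map_mul, hl1, hrA]
      show _ = σ (lift p σ _) * _
      rw [(lift_spec hs hZ (isPElem_rad p _)).1]
      exact emb_eq_mul r A
    | one => exact ⟨1, V.range.one_mem, 1, one_mem _, (mul_one 1).symm⟩
    | mul a b _ _ ha hb =>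
      obtain ⟨v, hv, l, hl, rfl⟩ := ha
      obtain ⟨v', hv', l', hl', rfl⟩ := hb
      refine ⟨v * (l * v' * l⁻¹), V.range.mul_mem hv (hnorm l (hLσ l hl) v' hv'), l * l',
        mul_mem hl hl', by group⟩
    | inv a _ ha =>
      obtain ⟨v, hv, l, hl, rfl⟩ := ha
      refine ⟨l⁻¹ * v⁻¹ * l, ?_, l⁻¹, inv_mem hl, by group⟩
      have := hnorm l⁻¹ (hLσ _ (inv_mem hl)) v⁻¹ (V.range.inv_mem hv)
      simpa using this
  obtain ⟨v, ⟨r, rfl⟩, l, hl, rfl⟩ := main g hg
  obtain ⟨A, hA⟩ := hLσ l hl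
  rw [map_mul, ← hA] at hg1
  change σ (lift p σ _) * emb 0 A = 1 at hg1
  rw [(lift_spec hs hZ (isPElem_rad p _)).1, emb_mul, one_mul, zero_add, ← emb_zero_one] at hg1
  obtain ⟨h1, h2⟩ := emb_injective hg1
  rw [h2, val_one, Matrix.vecMul_one] at h1
  have hlσ : σ l = 1 := by rw [← hA, h2, map_one]
  rw [hlevi l hl hlσ, mul_one]
  show lift p σ (emb r.toAdd 1) = 1
  rw [h1, emb_zero_one, lift_one hs hc hZ]

include hs hc hZ in
theorem closure_transvection_lifts (hm : 1 ≤ m) (hgen : closure {g : Γ | IsPElem p g} = ⊤) :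
    closure {g : Γ | ∃ (k l : Fin (m + 1)) (h : k ≠ l) (c : F),
      g = lift p σ (SpecialLinearGroup.transvection h c)} = ⊤ := by
  set M := closure {g : Γ | ∃ (k l : Fin (m + 1)) (h : k ≠ l) (c : F),
      g = lift p σ (SpecialLinearGroup.transvection h c)} with hM
  have : Nontrivial (Fin (m + 1)) := Fin.nontrivial_iff_two_le.2 (by omega)
  have hsM : Function.Surjective (σ.comp M.subtype) := by
    intro g
    have : M.map σ = ⊤ := by
      refine PSLSimple.eq_top_of_transvection_mem _ fun k l h c => ?_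
      exact ⟨_, subset_closure ⟨k, l, h, c, rfl⟩,
        (lift_spec hs hZ (isPElem_transvection p h c)).1⟩
    obtain ⟨x, hx, rfl⟩ := (this ▸ mem_top g : g ∈ M.map σ)
    exact ⟨⟨x, hx⟩, rfl⟩
  have hZM : Nat.Coprime (Nat.card (σ.comp M.subtype).ker) p := by
    refine Nat.Coprime.coprime_dvd_left ?_ hZ
    refine Subgroup.card_dvd_of_injective
      ((M.subtype.comp (σ.comp M.subtype).ker.subtype).codRestrict σ.ker fun x => ?_) ?_
    · exact x.2
    · intro x y h
      have h' := congrArg Subtype.val h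
      exact Subtype.ext (Subtype.ext h')
  rw [eq_top_iff, ← hgen, closure_le]
  intro g hg
  obtain ⟨g', hg', hp'⟩ := exists_lift hsM hZM (hg.map σ)
  have : (g' : Γ) = g := lift_unique hc hZ hg' (hp'.map M.subtype) hg
  exact this ▸ g'.2

include hs hc hZ in
theorem ker_eq_bot_step (hm : 2 ≤ m) (hgen : closure {g : Γ | IsPElem p g} = ⊤)
    (hlevi : ∀ l ∈ leviLift p σ, σ l = 1 → l = 1) : σ.ker = ⊥ := by
  set K := stabLift p σ
  let x0 : Γ ⧸ K := ((1 : Γ) : Γ ⧸ K)
  have hone : ∀ i : Fin (m + 1), (1 : Fin (m + 1) → F) ⬝ᵥ e i = 1 := fun i => by simp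
  have hgood0 : Good p σ (e 0) x0 := by
    intro u hu hue
    obtain ⟨h1, h2⟩ := lift_spec hs hZ hu
    show ((lift p σ u * 1 : Γ) : Γ ⧸ K) = ((1 : Γ) : Γ ⧸ K)
    rw [QuotientGroup.eq, mul_one, mul_one]
    exact K.inv_mem (subset_closure ⟨h2, by rw [h1]; exact hue⟩)
  let x : Fin (m + 1) → Γ ⧸ K := fun i => lift p σ (T 1 (e i - e 0)) • x0
  have hx0 : ∀ i, Sect p σ (e 0) x0 (e i) (x i) := fun i => ⟨1, hone 0, hone i, rfl⟩
  have hgood : ∀ i, Good p σ (e i) (x i) := fun i => sect_good p σ hs hc hZ hgood0 (hx0 i)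
  have hpair : ∀ i j, Sect p σ (e i) (x i) (e j) (x j) := by
    intro i j
    have h : Sect p σ (e i) (x i) (e j) (lift p σ (T 1 (e j - e i)) • x i) :=
      ⟨1, hone i, hone j, rfl⟩
    have := sect_trans p σ hs hc hZ hgood0 (hone 0) (hone i) (hone j) (hx0 i) h
    rwa [← sect_unique p σ hs hc hZ hgood0 (hx0 j) this] at h
  have hx00 : x 0 = x0 := by
    show lift p σ (T 1 (e 0 - e 0)) • x0 = x0
    rw [sub_self, T_zero, lift_one hs hc hZ, one_smul]
  let S : (Fin (m + 1) → F) → (Γ ⧸ K) → Prop := fun v y =>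
    ∃ i, Off i v ∧ Sect p σ (e i) (x i) v y
  have hoff0 : Off (n := m + 1) (F := F) ⟨1, by omega⟩ (e 0) :=
    ⟨0, by simp [Fin.ext_iff], by simp⟩
  have hS0 : S (e 0) x0 := ⟨⟨1, by omega⟩, hoff0, hx00 ▸ hpair ⟨1, by omega⟩ 0⟩
  have hgenT := closure_transvection_lifts p σ hs hc hZ (by omega) hgen
  have hstep : ∀ (k l : Fin (m + 1)) (h : k ≠ l) (c : F) (y : Γ ⧸ K) (v : Fin (m + 1) → F),
      S v y → S ((SpecialLinearGroup.transvection h c).1 *ᵥ v)
        (lift p σ (SpecialLinearGroup.transvection h c) • y) := by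
    intro k l h c y v ⟨i₀, hi₀, hsect⟩
    set u := SpecialLinearGroup.transvection h c
    obtain ⟨a, -, hva⟩ := id hi₀
    obtain ⟨i, hil, hia⟩ := PSLSimple.exists_third (ι := Fin (m + 1)) (by simp; omega) l a
    have hi : Off i v := ⟨a, Ne.symm hia, hva⟩
    have hfix : u.1 *ᵥ e i = e i := by
      rw [PSLSimple.transvection_mulVec]; simp [Ne.symm hil]
    obtain ⟨φ, hφ1, hφ2⟩ := exists_phi hi
    have hz : Sect p σ (e i) (x i) v (lift p σ (T φ (v - e i)) • x i) := ⟨φ, hφ1, hφ2, rfl⟩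
    rw [agree p σ hs hc hZ (by omega) x hgood hpair hi₀ hi hsect hz]
    refine ⟨i, ?_, sect_equiv p σ hs hc hZ (hgood i) hz (isPElem_transvection p h c) hfix⟩
    by_contra hno
    simp only [Off, not_exists, not_and, not_not] at hno
    have : u.1 *ᵥ v = (u.1 *ᵥ v) i • e i := by
      ext b
      by_cases hb : b = i
      · subst hb; simp
      · simp [hno b hb, hb]
    have h3 : v = (u.1 *ᵥ v) i • e i := by
      have h4 := congrArg (fun w => (u⁻¹ : SL(m + 1, F)).1 *ᵥ w) this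
      simp only [inv_mulVec, Matrix.mulVec_smul] at h4
      have h5 : (u⁻¹ : SL(m + 1, F)).1 *ᵥ e i = e i := by
        conv_lhs => rw [← hfix]
        exact inv_mulVec _ _
      rwa [h5] at h4
    obtain ⟨b, hb, hvb⟩ := hi
    rw [h3] at hvb
    simp [hb] at hvb
  have hall : ∀ g : Γ, ∃ v, S v (g • x0) := by
    intro g
    have hg : g ∈ closure {g : Γ | ∃ (k l : Fin (m + 1)) (h : k ≠ l) (c : F),
      g = lift p σ (SpecialLinearGroup.transvection h c)} := hgenT ▸ mem_top g
    induction hg using closure_induction_left with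
    | one => exact ⟨e 0, by rwa [one_smul]⟩
    | mul_left a ha b _ hb =>
      obtain ⟨k, l, h, c, rfl⟩ := ha
      obtain ⟨v, hv⟩ := hb
      exact ⟨_, by rw [mul_smul]; exact hstep k l h c _ v hv⟩
    | inv_mul_cancel a ha b _ hb =>
      obtain ⟨k, l, h, c, rfl⟩ := ha
      obtain ⟨v, hv⟩ := hb
      have hinv : (lift p σ (SpecialLinearGroup.transvection h c))⁻¹ =
          lift p σ (SpecialLinearGroup.transvection h (-c)) := by
        obtain ⟨h1, h2⟩ := lift_spec hs hZ (isPElem_transvection p h c)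
        rw [← lift_eq hs hc hZ h2.inv, map_inv, h1]
        congr 1
        refine inv_eq_of_mul_eq_one_right (Subtype.ext ?_)
        rw [val_mul, val_one, SpecialLinearGroup.transvection_coe,
          SpecialLinearGroup.transvection_coe]
        simp [mul_add, add_mul, Matrix.single_mul_single_of_ne _ _ _ _ (Ne.symm h), ← Matrix.single_add,
          add_assoc]
      exact ⟨_, by rw [mul_smul, hinv]; exact hstep k l h (-c) _ v hv⟩
  have hproj : ∀ (v : Fin (m + 1) → F) (y : Γ ⧸ K), S v y → ∀ g : Γ, y = g • x0 →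
      (σ g).1 *ᵥ e 0 = v := by
    rintro v y ⟨i, -, φ, hφ1, hφ2, rfl⟩ g hg
    have h1 := T_move hφ1 hφ2
    have hK : ∀ a b : Γ, ((a : Γ) : Γ ⧸ K) = (b : Γ ⧸ K) → (σ a).1 *ᵥ e 0 = (σ b).1 *ᵥ e 0 := by
      intro a b hab
      have := stabLift_fix p σ (QuotientGroup.eq.1 hab)
      rw [map_mul, mulVec_mul', map_inv] at this
      calc (σ a).1 *ᵥ e 0 = (σ a).1 *ᵥ ((σ a)⁻¹.1 *ᵥ ((σ b).1 *ᵥ e 0)) := by rw [this]
        _ = (σ a * (σ a)⁻¹).1 *ᵥ ((σ b).1 *ᵥ e 0) := by rw [← mulVec_mul']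
        _ = _ := by rw [mul_inv_cancel, val_one, Matrix.one_mulVec]
    have := hK _ _ (show ((lift p σ (T φ (v - e i)) * (lift p σ (T 1 (e i - e 0)) * 1) : Γ) : Γ ⧸ K) =
      ((g * 1 : Γ) : Γ ⧸ K) from hg)
    rw [mul_one, mul_one, map_mul, (lift_spec hs hZ (isPElem_T p (sub_dot hφ1 hφ2))).1,
      (lift_spec hs hZ (isPElem_T p (sub_dot (hone 0) (hone i)))).1, mulVec_mul',
      T_move (hone 0) (hone i), h1] at this
    exact this.symm
  rw [Subgroup.eq_bot_iff_forall]
  intro z hz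
  obtain ⟨v, hv⟩ := hall z
  have hve : v = e 0 := by
    rw [← hproj v _ hv z rfl, MonoidHom.mem_ker.1 hz, val_one, Matrix.one_mulVec]
  subst hve
  obtain ⟨i, hi, hsect⟩ := hv
  obtain ⟨j, hj, hsect'⟩ := hS0
  have hzx : z • x0 = x0 := agree p σ hs hc hZ (by omega) x hgood hpair hi hj hsect hsect'
  have hzK : z ∈ K := by
    have h : ((z * 1 : Γ) : Γ ⧸ K) = ((1 : Γ) : Γ ⧸ K) := hzx
    rw [QuotientGroup.eq, mul_one, mul_one] at h
    exact K.inv_mem_iff.1 h
  exact stabLift_ker p σ hs hc hZ hlevi hzK (MonoidHom.mem_ker.1 hz)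

end Step

universe u

theorem ker_le_commutator {Γ G : Type*} [Group Γ] [Group G] [Finite Γ] {σ : Γ →* G}
    (hZ : Nat.Coprime (Nat.card σ.ker) p) (hgen : closure {g : Γ | IsPElem p g} = ⊤) :
    σ.ker ≤ commutator Γ := by
  intro z hz
  rw [← Abelianization.ker_of, MonoidHom.mem_ker]
  have hp : ∀ g : Γ, IsPElem p (Abelianization.of g) := by
    intro g
    have hg : g ∈ closure {g : Γ | IsPElem p g} := hgen ▸ mem_top g
    induction hg using closure_induction with
    | mem g hg => exact hg.map _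
    | one => rw [map_one]; exact isPElem_one
    | mul a b _ _ ha hb => rw [map_mul]; exact ha.mul_of_commute hb (Commute.all _ _)
    | inv a _ ha => rw [map_inv]; exact ha.inv
  obtain ⟨k, hk⟩ := hp z
  refine orderOf_eq_one_iff.1 (Nat.eq_one_of_dvd_coprimes (hZ.pow_right k)
    ((orderOf_map_dvd _ z).trans (StemBasic.orderOf_dvd_card_ker (σ := σ) hz))
    (orderOf_dvd_of_pow_eq_one hk))

theorem ker_eq_bot [Fintype F] : ∀ (n : ℕ) (Γ : Type u) [Group Γ] [Finite Γ]
    (σ : Γ →* SL(n, F)), Function.Surjective σ → σ.ker ≤ center Γ →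
    Nat.Coprime (Nat.card σ.ker) p → closure {g : Γ | IsPElem p g} = ⊤ → σ.ker = ⊥ := by
  intro n
  induction n with
  | zero =>
    intro Γ _ _ σ hs hc hZ hgen
    refine le_bot_iff.1 ((ker_le_commutator p hZ hgen).trans ?_)
    rw [_root_.commutator_def, Subgroup.commutator_le]
    intro a _ b _
    rw [Subgroup.mem_bot, commutatorElement_eq_one_iff_mul_comm]
    exact (StemBasic.ker_comm hc (Subsingleton.elim _ _) b).symm
  | succ m ih =>
    intro Γ _ _ σ hs hc hZ hgen
    rcases Nat.lt_or_ge m 2 with hm | hm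
    · rcases (show m = 0 ∨ m = 1 by omega) with rfl | rfl
      · have : Subsingleton SL(0 + 1, F) := ⟨fun A B => Subtype.ext (Matrix.ext fun i j => by
          have hA := A.2
          have hB := B.2
          rw [Matrix.det_fin_one] at hA hB
          fin_cases i; fin_cases j; exact hA.trans hB.symm)⟩
        refine le_bot_iff.1 ((ker_le_commutator p hZ hgen).trans ?_)
        rw [_root_.commutator_def, Subgroup.commutator_le]
        intro a _ b _
        rw [Subgroup.mem_bot, commutatorElement_eq_one_iff_mul_comm]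
        exact (StemBasic.ker_comm hc (Subsingleton.elim _ _) b).symm
      · have hσ : Cfsg.IsStemExtension σ := ⟨hs, hc, ker_le_commutator p hZ hgen⟩
        refine StemBasic.ker_eq_bot_of_primes fun ℓ hl z hz ho => ?_
        refine StemSL2.kill_prime p hσ hl ?_ hz ho
        rintro rfl
        exact hl.ne_one (Nat.eq_one_of_dvd_coprimes hZ
          (ho ▸ StemBasic.orderOf_dvd_card_ker hz) dvd_rfl)
    · refine ker_eq_bot_step p σ hs hc hZ hm hgen ?_
      set L := leviLift p σ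
      have hLσ : ∀ l : L, σ (l : Γ) ∈ (leviHom (F := F) m).range := fun l => by
        have : L ≤ (leviHom (F := F) m).range.comap σ := by
          rw [closure_le]; exact fun x hx => hx.2
        exact this l.2
      let ι := MonoidHom.ofInjective (leviHom_injective (F := F) m)
      let τ : L →* SL(m, F) :=
        ι.symm.toMonoidHom.comp ((σ.comp L.subtype).codRestrict _ hLσ)
      have hτ : ∀ l : L, leviHom m (τ l) = σ (l : Γ) := fun l => by
        show ((ι (ι.symm _) : (leviHom (F := F) m).range) : SL(m + 1, F)) = _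
        rw [MulEquiv.apply_symm_apply]
        rfl
      have hkerτ : ∀ l : L, τ l = 1 ↔ σ (l : Γ) = 1 := fun l => by
        rw [← hτ l]
        exact ⟨fun h => by rw [h, map_one], fun h => leviHom_injective m (by rw [h, map_one])⟩
      have : Nontrivial (Fin m) := Fin.nontrivial_iff_two_le.2 hm
      have hτs : Function.Surjective τ := by
        rw [← MonoidHom.range_eq_top]
        refine PSLSimple.eq_top_of_transvection_mem _ fun k l h c => ?_
        obtain ⟨h1, h2⟩ := lift_spec hs hZ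
          ((isPElem_transvection p h c).map (leviHom (F := F) m))
        refine ⟨⟨_, subset_closure ⟨h2, _, h1.symm⟩⟩, leviHom_injective m ?_⟩
        rw [hτ]
        exact h1
      have hτc : τ.ker ≤ center L := fun l hl => mem_center_iff.2 fun g =>
        Subtype.ext (StemBasic.ker_comm hc ((hkerτ l).1 hl) (g : Γ))
      have hτZ : Nat.Coprime (Nat.card τ.ker) p := by
        refine Nat.Coprime.coprime_dvd_left (Subgroup.card_dvd_of_injective
          ((L.subtype.comp τ.ker.subtype).codRestrict σ.ker fun x => (hkerτ x).1 x.2) ?_) hZ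
        intro x y h
        have h' := congrArg Subtype.val h
        exact Subtype.ext (Subtype.ext h')
      have hτgen : closure {g : L | IsPElem p g} = ⊤ := by
        rw [eq_top_iff]
        rintro ⟨g, hg⟩ -
        have : g ∈ (closure {g : L | IsPElem p g}).map L.subtype := by
          refine (closure_le _).2 ?_ hg
          intro x hx
          refine ⟨⟨x, subset_closure hx⟩, subset_closure ?_, rfl⟩
          exact (isPElem_map_iff L.subtype Subtype.coe_injective).1 hx.1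
        obtain ⟨g', hg', he⟩ := this
        have : g' = ⟨g, hg⟩ := Subtype.ext he
        exact this ▸ hg'
      have hbot := ih L τ hτs hτc hτZ hτgen
      intro l hl hl1
      have : (⟨l, hl⟩ : L) ∈ τ.ker := (hkerτ _).2 hl1
      rw [hbot, Subgroup.mem_bot] at this
      exact congrArg Subtype.val this

end Cfsg.Agent.StemSLnPrime
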