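import Cfsg.Agent.Lib.StemSURadical
import Cfsg.Agent.Lib.StemSUGen
import Cfsg.Agent.Lib.OrthUnitaryPSU
import Mathlib

/-!
For `n ≥ 5` the pairing of a radical of `SU_n(q)` in a central extension is a function of the form.
-/

set_option autoImplicit false
set_option linter.unusedSectionVars false

namespace Cfsg.Agent.StemSUPhiFive

open Subgroup
open Cfsg.Agent.OrthUnitaryHerm
open Cfsg.Agent.OrthUnitaryTransvection
open Cfsg.Agent.StemSUFrame
open Cfsg.Agent.StemSURadical
open Cfsg.Agent.StemStep
open scoped commutatorElement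

variable {F : Type*} [Field F] [Fintype F] {q n : ℕ} (hF : Fintype.card F = q ^ 2)

include hF in
/-- A vector of norm one orthogonal to a short orthogonal family. -/
theorem exists_perp_family : ∀ (k n : ℕ), k + 1 ≤ n →
    ∀ s : Fin k → (Fin n → F), (∀ i, hermForm n F q (s i) (s i) ≠ 0) →
    (∀ i j, i ≠ j → hermForm n F q (s i) (s j) = 0) →
    ∃ r, (∀ i, hermForm n F q r (s i) = 0) ∧ hermForm n F q r r = 1 := by
  intro k
  induction k with
  | zero =>
    intro n hn s _ _
    exact ⟨Pi.single ⟨0, by omega⟩ 1, fun i => i.elim0, by rw [herm_single_right hF]; simp⟩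
  | succ k ih =>
    intro n hn s hne horth
    obtain ⟨n', rfl⟩ : ∃ n', n = n' + 1 := ⟨n - 1, by omega⟩
    obtain ⟨ι, π, hπ, hπa, hsurj, -⟩ := exists_frame hF (hne 0)
    obtain ⟨t, ht, htne, htorth⟩ := exists_pullback hπ hsurj hne horth
    obtain ⟨r, hrt, hrr⟩ := ih n' (by omega) t htne htorth
    refine ⟨π r, fun i => ?_, by rw [hπ, hrr]⟩
    cases i using Fin.cases with
    | zero => exact hπa r
    | succ i => rw [← ht, hπ, hrt]

include hF in
/-- An anisotropic pair spanning a hyperbolic line, with its perpendicular. -/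
theorem exists_span_pair {e f : Fin n → F} (he : hermForm n F q e e = 0)
    (hff : hermForm n F q f f = 0) (hef : hermForm n F q e f = 1) (hfe : hermForm n F q f e = 1) :
    ∃ a b : Fin n → F, hermForm n F q a a ≠ 0 ∧ hermForm n F q b b ≠ 0 ∧
      hermForm n F q a b = 0 ∧
      (∀ x, hermForm n F q x a = 0 → hermForm n F q x b = 0 →
        hermForm n F q x e = 0 ∧ hermForm n F q x f = 0) ∧
      (∀ x, hermForm n F q x e = 0 → hermForm n F q x f = 0 →
        hermForm n F q x a = 0 ∧ hermForm n F q x b = 0) := by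
  obtain ⟨s, hs⟩ := exists_trace hF (a := (1 : F)) (one_pow q)
  have haa : hermForm n F q (e + s • f) (e + s • f) = 1 := by
    simp only [herm_add_left, herm_add_right hF, herm_smul_left, herm_smul_right, he, hfe, hef, hff]
    linear_combination hs
  have hbb : hermForm n F q (e + (-(s ^ q)) • f) (e + (-(s ^ q)) • f) = -1 := by
    simp only [herm_add_left, herm_add_right hF, herm_smul_left, herm_smul_right, he,
      hfe, hef, hff, neg_pow_q hF, pow_q_q hF]
    linear_combination -hs
  refine ⟨e + s • f, e + (-(s ^ q)) • f, by rw [haa]; exact one_ne_zero,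
    by rw [hbb]; exact neg_ne_zero.2 one_ne_zero, ?_, ?_, ?_⟩
  · simp only [herm_add_left, herm_add_right hF, herm_smul_left, herm_smul_right, he, hfe, hef,
      hff, neg_pow_q hF, pow_q_q hF]
    ring
  · intro x hxa hxb
    simp only [herm_add_right hF, herm_smul_right, neg_pow_q hF, pow_q_q hF] at hxa hxb
    have hxf : hermForm n F q x f = 0 := by
      linear_combination hxa - hxb - hermForm n F q x f * hs
    exact ⟨by rw [hxf] at hxa; linear_combination hxa, hxf⟩
  · intro x hxe hxf
    simp only [herm_add_right hF, herm_smul_right, hxe, hxf, mul_zero, add_zero, and_self]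

include hF in
theorem exists_perp_hyp (hn : 5 ≤ n) {e f : Fin n → F} (he : hermForm n F q e e = 0)
    (hff : hermForm n F q f f = 0) (hef : hermForm n F q e f = 1) (hfe : hermForm n F q f e = 1)
    (v : Fin n → F) :
    ∃ r, hermForm n F q r e = 0 ∧ hermForm n F q r f = 0 ∧ hermForm n F q r v = 0 ∧
      hermForm n F q r r = 1 := by
  obtain ⟨a, b, haa, hbb, hab, hspan, -⟩ := exists_span_pair hF he hff hef hfe
  obtain ⟨r, hr, hrv, hrr⟩ := exists_perp_one hF 2 n (by omega) ![a, b]
    (fun i => by fin_cases i <;> simp [haa, hbb])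
    (fun i j h => by
      fin_cases i <;> fin_cases j <;>
        first | exact absurd rfl h | exact hab | exact herm_skew_zero hF hab) v
  obtain ⟨h1, h2⟩ := hspan r (hr 0) (hr 1)
  exact ⟨r, h1, h2, hrv, hrr⟩

variable {Γ : Type*} [Group Γ] {σ : Γ →* SU n F q} (hs : Function.Surjective σ)
  (hc : σ.ker ≤ center Γ)

include hF in
theorem fix_commute_tv {g : SU n F q} {e : Fin n → F} {c : F} {he : hermForm n F q e e = 0}
    {hc' : c + c ^ q = 0} (hge : act g e = e) : Commute (tv hF e c he hc') g := by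
  have h : g * tv hF e c he hc' * g⁻¹ = tv hF e c he hc' := by
    rw [OrthUnitaryPSU.tv_conj]
    exact su_ext fun x => by rw [tv_act, tv_act, hge]
  exact (mul_inv_eq_iff_eq_mul.1 h).symm

include hF hs hc in
/-- An orthogonal pair, the second isotropic, pairs trivially. -/
theorem B_iso_perp (hn : 5 ≤ n) {e x y : Fin n → F} (he : hermForm n F q e e = 0) (he0 : e ≠ 0)
    (hxx : hermForm n F q x x = 0) (hxe : hermForm n F q x e = 0) (hye : hermForm n F q y e = 0)
    (hyx : hermForm n F q y x = 0) : B hF hs he y x = 1 := by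
  have hn3 : 3 ≤ n := by omega
  have hZ : ZN hF hs hc e := zn_of_four hF hs hc (by omega) e
  by_cases hline : ∃ a : F, x = a • e
  · obtain ⟨a, rfl⟩ := hline
    rw [← B_inv hF hs he hxe hye, B_line hF hs hc he hn3 hye hZ, inv_one]
  push Not at hline
  obtain ⟨f0, hff, hfe, hef⟩ := exists_hyp hF he0 he
  obtain ⟨r, hre, -, hrx0, hrr⟩ :=
    exists_perp_hyp hF hn he hff hef hfe (x - hermForm n F q x f0 • e)
  have hrx : hermForm n F q r x = 0 := by
    rw [herm_sub_right hF, herm_smul_right, hre, mul_zero, sub_zero] at hrx0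
    exact hrx0
  obtain ⟨d, hd0, hd⟩ := exists_skew hF
  obtain ⟨z, hz⟩ := exists_im hF hd
  -- the transvection at `x` commutes with the lifts of the centre
  have hzrx : hermForm n F q (z • r) x = 0 := by rw [herm_smul_left, hrx, mul_zero]
  have hfix : ∀ (w : Fin n → F) (μ : F) (hw : hermForm n F q w x = 0)
      (hμ : μ + μ ^ q + hermForm n F q w w = 0), hermForm n F q w e = 0 →
      act (eich hF x w μ hxx hw hμ) e = e := by
    intro w μ hw hμ hwe
    rw [eich_act, herm_skew_zero hF hxe, herm_skew_zero hF hwe]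
    module
  have hbr : ⁅eich hF x (z • r) (mu hF _) hxx hzrx (mu_spec hF _),
      eich hF x r (mu hF r) hxx hrx (mu_spec hF r)⁆ = tv hF x d hxx hd := by
    rw [eich_bracket]
    exact tv_congr hF (by rw [herm_smul_left, hrr, mul_one, hz])
  have hcomT : ∀ (c : F) (hc' : c + c ^ q = 0),
      tv hF x d hxx hd ∈ killer hs hc (tv hF e c he hc') := by
    intro c hc'
    rw [← hbr]
    exact bracket_mem_killer hs hc
      (fix_commute_tv hF (hfix _ _ _ _ (by rw [herm_smul_left, hre, mul_zero])))
      (fix_commute_tv hF (hfix _ _ _ _ hre))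
  obtain ⟨g, hg⟩ := hs (tv hF x d hxx hd)
  have hgfix : ∀ w, hermForm n F q w x = 0 → act (σ g) w = w := fun w hw => by
    rw [hg, tv_act, hw, mul_zero, zero_smul, add_zero]
  have hinv : ∀ w w', hermForm n F q w e = 0 → hermForm n F q w' e = 0 →
      B hF hs he (act (σ g) w) (act (σ g) w') = B hF hs he w w' := by
    intro w w' hw hw'
    have hge : act (σ g) e = (1 : F) • e := by
      rw [one_smul, hgfix e (herm_skew_zero hF hxe)]
    have h1 := B_conj hF hs hc he hZ g hge hw hw'
    rw [one_pow, one_smul, one_smul] at h1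
    have hσB := σ_B hF hs he hw hw'
    have hcom : Commute (B hF hs he w w') g := by
      refine commutatorElement_eq_one_iff_mul_comm.1 ?_
      rw [br_eq hs hc hσB hg]
      exact (hcomT _ _).2
    rw [← h1, ← hcom.eq, mul_inv_cancel_right]
  obtain ⟨y', hy'e, hy'x⟩ := exists_herm_pair hF he0 hline 0 (1 / d)
  have hgy' : act (σ g) y' = y' + x := by
    rw [hg, tv_act, hy'x, mul_one_div_cancel hd0, one_smul]
  have h2 := hinv y y' hye hy'e
  rw [hgy', hgfix y hyx, B_add_right hF hs hc he hn3 hZ hy'e hxe hye] at h2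
  exact mul_eq_left.1 h2

include hF hs hc in
theorem phi_five (hn : 5 ≤ n) {e : Fin n → F} (he : hermForm n F q e e = 0) (he0 : e ≠ 0) :
    PhiData hF hs he := by
  have hn3 : 3 ≤ n := by omega
  have hZ : ZN hF hs hc e := zn_of_four hF hs hc (by omega) e
  have key : ∀ {x y : Fin n → F}, hermForm n F q x x = 0 → hermForm n F q x e = 0 →
      hermForm n F q y e = 0 → hermForm n F q y x = 0 → B hF hs he y x = 1 :=
    fun h1 h2 h3 h4 => B_iso_perp hF hs hc hn he he0 h1 h2 h3 h4
  have key' : ∀ {x y : Fin n → F}, hermForm n F q x x = 0 → hermForm n F q x e = 0 →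
      hermForm n F q y e = 0 → hermForm n F q y x = 0 → B hF hs he x y = 1 :=
    fun h1 h2 h3 h4 => by rw [← B_inv hF hs he h3 h2, key h1 h2 h3 h4, inv_one]
  obtain ⟨f0, hff0, hfe, hef⟩ := exists_hyp hF he0 he
  obtain ⟨k, hke, hkf, hkk⟩ := exists_perp2 hF hn3 he hff0 hef hfe (r := (1 : F)) (one_pow q)
  obtain ⟨k2, hk2e, hk2f, hk2k, hk2k2⟩ := exists_perp3 hF (by omega) he hff0 hef hfe hke hkf
    (by rw [hkk]; exact one_ne_zero) (r := (-1 : F)) (by rw [neg_pow_q hF, one_pow])
  have hkk2 := herm_skew_zero hF hk2k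
  obtain ⟨ea, eb, haa, hbb, hab, hspan, hperp⟩ := exists_span_pair hF he hff0 hef hfe
  obtain ⟨hka, hkb⟩ := hperp k hke hkf
  obtain ⟨hk2a, hk2b⟩ := hperp k2 hk2e hk2f
  obtain ⟨k3, hk3, hk33⟩ := exists_perp_family hF 4 n (by omega) ![ea, eb, k, k2]
    (fun i => by fin_cases i <;> simp [haa, hbb, hkk, hk2k2])
    (fun i j h => by
      fin_cases i <;> fin_cases j <;>
        simp_all [herm_skew_zero hF hab, herm_skew_zero hF hka, herm_skew_zero hF hkb,
          herm_skew_zero hF hk2a, herm_skew_zero hF hk2b])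
  have hk3e : hermForm n F q k3 e = 0 := (hspan k3 (hk3 0) (hk3 1)).1
  obtain ⟨s, hs1⟩ := exists_trace hF (a := (1 : F)) (one_pow q)
  set x := k + k2 with hx
  set f := s • k + (s - 1) • k2 with hf
  have hxe : hermForm n F q x e = 0 := by rw [hx, herm_add_left, hke, hk2e, add_zero]
  have hfe' : hermForm n F q f e = 0 := by
    rw [hf, herm_add_left, herm_smul_left, herm_smul_left, hke, hk2e]; ring
  have hxx : hermForm n F q x x = 0 := by
    simp only [hx, herm_add_left, herm_add_right hF, hkk, hk2k2, hk2k, hkk2]; ring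
  have hff : hermForm n F q f f = 0 := by
    simp only [hf, herm_add_left, herm_add_right hF, herm_smul_left, herm_smul_right, hkk, hk2k2,
      hk2k, hkk2, sub_pow_q hF, one_pow]
    linear_combination hs1
  have hxf : hermForm n F q x f = 1 := by
    simp only [hx, hf, herm_add_left, herm_add_right hF, herm_smul_right, hkk, hk2k2, hk2k, hkk2,
      sub_pow_q hF, one_pow]
    ring
  have hfx : hermForm n F q f x = 1 := by
    rw [herm_conj hF x f, hxf, one_pow]
  have hk3x : hermForm n F q k3 x = 0 := by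
    rw [hx, herm_add_right hF, show hermForm n F q k3 k = 0 from hk3 2,
      show hermForm n F q k3 k2 = 0 from hk3 3, add_zero]
  have hk3f : hermForm n F q k3 f = 0 := by
    rw [hf, herm_add_right hF, herm_smul_right, herm_smul_right,
      show hermForm n F q k3 k = 0 from hk3 2, show hermForm n F q k3 k2 = 0 from hk3 3]
    ring
  have hxk3 := herm_skew_zero hF hk3x
  have hfk3 := herm_skew_zero hF hk3f
  set φ : F → Γ := fun z => B hF hs he (z • k3) k3 with hφ
  have hsm : ∀ (a : F) {w : Fin n → F}, hermForm n F q w e = 0 →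
      hermForm n F q (a • w) e = 0 := fun a w hw => by rw [herm_smul_left, hw, mul_zero]
  have had : ∀ {w w' : Fin n → F}, hermForm n F q w e = 0 → hermForm n F q w' e = 0 →
      hermForm n F q (w + w') e = 0 := fun h h' => by rw [herm_add_left, h, h', add_zero]
  have hadd : ∀ a b, φ (a + b) = φ a * φ b := fun a b => by
    simp only [hφ, add_smul]
    rw [B_add_left hF hs hc he hn3 hZ (hsm a hk3e) (hsm b hk3e) hk3e]
  have h0 : ∀ {w : Fin n → F}, hermForm n F q w e = 0 → B hF hs he 0 w = 1 := fun {w} hw => by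
    have := B_line hF hs hc he hn3 hw hZ 0
    rwa [zero_smul] at this
  have hneg : ∀ (a : F) {w v : Fin n → F}, hermForm n F q w e = 0 → hermForm n F q v e = 0 →
      B hF hs he ((-a) • w) v = (B hF hs he (a • w) v)⁻¹ := by
    intro a w v hw hv
    refine eq_inv_of_mul_eq_one_left ?_
    rw [← B_add_left hF hs hc he hn3 hZ (hsm _ hw) (hsm a hw) hv, ← add_smul, neg_add_cancel,
      zero_smul, h0 hv]
  have hφ0 : φ 0 = 1 := by simp only [hφ, zero_smul]; exact h0 hk3e
  have hiso : ∀ (a : F) {w : Fin n → F}, hermForm n F q w w = 0 →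
      hermForm n F q (a • w) (a • w) = 0 := fun a w hw => by
    rw [herm_smul_left, herm_smul_right, hw]; ring
  -- the mixed values
  have hΦ : ∀ a b, B hF hs he (a • x) (b • f) = φ (a * b ^ q) := by
    intro a b
    by_cases hb : b = 0
    · rw [hb, zero_pow_q hF, mul_zero, zero_smul, hφ0, ← B_inv hF hs he
        (by rw [herm_zero_left]) (hsm a hxe), h0 (hsm a hxe), inv_one]
    have hbq : b ^ q ≠ 0 := pow_ne_zero _ hb
    set s2 := -s / b ^ q with hs2
    have hs2b : s2 * b ^ q + b * s2 ^ q = -1 := by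
      have h1 : s2 * b ^ q = -s := by rw [hs2, div_mul_cancel₀ _ hbq]
      have h2 := congrArg (fun t : F => t ^ q) h1
      simp only [mul_pow, pow_q_q hF, neg_pow_q hF] at h2
      linear_combination h1 + h2 - hs1
    set X := b • f + k3 + s2 • x with hX
    set Y := (a * b ^ q) • k3 + (-a) • x with hY
    have hXX : hermForm n F q X X = 0 := by
      simp only [hX, herm_add_left, herm_add_right hF, herm_smul_left, herm_smul_right, hff, hxx,
        hk33, hk3f, hfk3, hk3x, hxk3, hfx, hxf]
      linear_combination hs2b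
    have hYX : hermForm n F q Y X = 0 := by
      simp only [hX, hY, herm_add_left, herm_add_right hF, herm_smul_left, herm_smul_right, hxx,
        hk33, hk3f, hk3x, hxk3, hxf]
      ring
    have hXe : hermForm n F q X e = 0 := had (had (hsm _ hfe') hk3e) (hsm _ hxe)
    have h := key hXX hXe (had (hsm (a * b ^ q) hk3e) (hsm (-a) hxe)) hYX
    rw [hX, B_add_left hF hs hc he hn3 hZ (hsm _ hk3e) (hsm _ hxe) hXe,
      B_add_right hF hs hc he hn3 hZ (had (hsm _ hfe') hk3e) (hsm _ hxe) (hsm _ hk3e),
      B_add_right hF hs hc he hn3 hZ (hsm _ hfe') hk3e (hsm _ hk3e),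
      B_add_right hF hs hc he hn3 hZ (had (hsm _ hfe') hk3e) (hsm _ hxe) (hsm _ hxe),
      B_add_right hF hs hc he hn3 hZ (hsm _ hfe') hk3e (hsm _ hxe)] at h
    rw [key (hiso b hff) (hsm b hfe') (hsm _ hk3e)
        (by rw [herm_smul_left, herm_smul_right, hk3f]; ring),
      key (hiso s2 hxx) (hsm _ hxe) (hsm _ hk3e)
        (by rw [herm_smul_left, herm_smul_right, hk3x]; ring),
      key' (hiso (-a) hxx) (hsm _ hxe) hk3e (by rw [herm_smul_right, hk3x]; ring),
      key (hiso s2 hxx) (hsm _ hxe) (hsm _ hxe)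
        (by rw [herm_smul_left, herm_smul_right, hxx]; ring),
      one_mul, mul_one, mul_one, mul_one, hneg a hxe (hsm b hfe')] at h
    exact (mul_inv_eq_one.1 h).symm
  -- the values on the perpendicular of the plane
  have hY0 : ∀ y y', hermForm n F q y e = 0 → hermForm n F q y x = 0 → hermForm n F q y f = 0 →
      hermForm n F q y' e = 0 → hermForm n F q y' x = 0 → hermForm n F q y' f = 0 →
      B hF hs he y y' = φ (hermForm n F q y y') := by
    intro y y' hye hyx hyf hy'e hy'x hy'f
    set c := hermForm n F q y y' with hc'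
    set m := mu hF y' with hm
    set X := (1 : F) • f + y' + m • x with hX
    set Y := y + (-c) • x with hY
    have hfy' := herm_skew_zero hF hy'f
    have hxy' := herm_skew_zero hF hy'x
    have hXX : hermForm n F q X X = 0 := by
      simp only [hX, herm_add_left, herm_add_right hF, herm_smul_left, herm_smul_right, hff, hxx,
        hy'x, hy'f, hfy', hxy', hfx, hxf, one_pow]
      linear_combination mu_spec hF y'
    have hYX : hermForm n F q Y X = 0 := by
      simp only [hX, hY, herm_add_left, herm_add_right hF, herm_smul_left, herm_smul_right, hxx,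
        hyx, hyf, hxy', hxf, one_pow, ← hc']
      ring
    have hXe : hermForm n F q X e = 0 := had (had (hsm _ hfe') hy'e) (hsm _ hxe)
    have h := key hXX hXe (had hye (hsm (-c) hxe)) hYX
    rw [hX, B_add_left hF hs hc he hn3 hZ hye (hsm _ hxe) hXe,
      B_add_right hF hs hc he hn3 hZ (had (hsm _ hfe') hy'e) (hsm _ hxe) hye,
      B_add_right hF hs hc he hn3 hZ (hsm _ hfe') hy'e hye,
      B_add_right hF hs hc he hn3 hZ (had (hsm _ hfe') hy'e) (hsm _ hxe) (hsm _ hxe),
      B_add_right hF hs hc he hn3 hZ (hsm _ hfe') hy'e (hsm _ hxe)] at h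
    rw [key (hiso 1 hff) (hsm 1 hfe') hye (by rw [herm_smul_right, hyf]; ring),
      key (hiso m hxx) (hsm _ hxe) hye (by rw [herm_smul_right, hyx]; ring),
      key' (hiso (-c) hxx) (hsm _ hxe) hy'e (by rw [herm_smul_right, hy'x]; ring),
      key (hiso m hxx) (hsm _ hxe) (hsm _ hxe)
        (by rw [herm_smul_left, herm_smul_right, hxx]; ring),
      one_mul, mul_one, mul_one, mul_one, hneg c hxe (hsm 1 hfe'), hΦ c 1, one_pow, mul_one] at h
    exact mul_inv_eq_one.1 h
  have hconj : ∀ z, φ (z ^ q) = (φ z)⁻¹ := by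
    intro z
    have h1 := hY0 k3 (z • k3) hk3e hk3x hk3f (hsm z hk3e)
      (by rw [herm_smul_left, hk3x, mul_zero]) (by rw [herm_smul_left, hk3f, mul_zero])
    rw [herm_smul_right, hk33, mul_one] at h1
    rw [← h1]
    exact (B_inv hF hs he (hsm z hk3e) hk3e).symm
  refine ⟨φ, hadd, hconj, fun w w' hw hw' => ?_⟩
  -- decomposition along the plane
  have dec : ∀ v, hermForm n F q v e = 0 → ∃ (α a b : F) (v0 : Fin n → F),
      v = α • e + a • x + b • f + v0 ∧ hermForm n F q v0 e = 0 ∧ hermForm n F q v0 x = 0 ∧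
      hermForm n F q v0 f = 0 := by
    intro v hv
    set α := hermForm n F q v f0
    set v1 := v - α • e with hv1
    refine ⟨α, hermForm n F q v1 f, hermForm n F q v1 x,
      v1 - hermForm n F q v1 f • x - hermForm n F q v1 x • f, by rw [hv1]; abel, ?_, ?_, ?_⟩
    · simp only [hv1, herm_sub_left, herm_smul_left, hv, he, hxe, hfe']; ring
    · simp only [herm_sub_left, herm_smul_left, hxx, hfx]; ring
    · simp only [herm_sub_left, herm_smul_left, hxf, hff]; ring
  obtain ⟨α, a, b, v, rfl, hve, hvx, hvf⟩ := dec w hw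
  obtain ⟨α', a', b', v', rfl, hv'e, hv'x, hv'f⟩ := dec w' hw'
  have hae : ∀ c : F, hermForm n F q (c • e) e = 0 := fun c => hsm c he
  have hl : ∀ (c : F) (u : Fin n → F), hermForm n F q u e = 0 → B hF hs he u (c • e) = 1 :=
    fun c u hu => by rw [← B_inv hF hs he (hae c) hu, B_line hF hs hc he hn3 hu hZ, inv_one]
  rw [B_add_left hF hs hc he hn3 hZ (had (had (hae α) (hsm a hxe)) (hsm b hfe')) hve hw',
    B_add_left hF hs hc he hn3 hZ (had (hae α) (hsm a hxe)) (hsm b hfe') hw',
    B_add_left hF hs hc he hn3 hZ (hae α) (hsm a hxe) hw', B_line hF hs hc he hn3 hw' hZ, one_mul]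
  have r4 : ∀ u, hermForm n F q u e = 0 →
      B hF hs he u (α' • e + a' • x + b' • f + v') =
        B hF hs he u (a' • x) * B hF hs he u (b' • f) * B hF hs he u v' := by
    intro u hu
    rw [B_add_right hF hs hc he hn3 hZ (had (had (hae α') (hsm a' hxe)) (hsm b' hfe')) hv'e hu,
      B_add_right hF hs hc he hn3 hZ (had (hae α') (hsm a' hxe)) (hsm b' hfe') hu,
      B_add_right hF hs hc he hn3 hZ (hae α') (hsm a' hxe) hu, hl _ u hu, one_mul]
  rw [r4 _ (hsm a hxe), r4 _ (hsm b hfe'), r4 _ hve,
    key (hiso a' hxx) (hsm _ hxe) (hsm a hxe) (by rw [herm_smul_left, herm_smul_right, hxx]; ring),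
    key' (hiso a hxx) (hsm _ hxe) hv'e (by rw [herm_smul_right, hv'x]; ring),
    key (hiso b' hff) (hsm _ hfe') (hsm b hfe') (by rw [herm_smul_left, herm_smul_right, hff]; ring),
    key' (hiso b hff) (hsm _ hfe') hv'e (by rw [herm_smul_right, hv'f]; ring),
    key (hiso a' hxx) (hsm _ hxe) hve (by rw [herm_smul_right, hvx]; ring),
    key (hiso b' hff) (hsm _ hfe') hve (by rw [herm_smul_right, hvf]; ring),
    hΦ, ← B_inv hF hs he (hsm a' hxe) (hsm b hfe'), hΦ, ← hconj,
    hY0 v v' hve hvx hvf hv'e hv'x hv'f]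
  simp only [one_mul, mul_one, ← hadd]
  congr 1
  simp only [herm_add_left, herm_add_right hF, herm_smul_left, herm_smul_right, he, hxx, hff, hxf,
    hfx, hve, herm_skew_zero hF hxe, herm_skew_zero hF hfe', hxe, hfe', herm_skew_zero hF hv'e,
    hvx, hvf, herm_skew_zero hF hv'x, herm_skew_zero hF hv'f, mul_pow, pow_q_q hF]
  ring

end Cfsg.Agent.StemSUPhiFive
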