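import Cfsg.Agent.Lib.OrthUnitaryTransvection
import Mathlib

/-!
Elements of `SU_n(q)` that are diagonal on hyperbolic planes.
-/

set_option autoImplicit false
set_option linter.unusedSectionVars false

namespace Cfsg.Agent.StemSUPlane

open Cfsg.Agent.OrthUnitaryHerm
open Cfsg.Agent.OrthUnitaryTransvection
open scoped Matrix

variable {F : Type*} [Field F] [Fintype F] {q n : ℕ} (hF : Fintype.card F = q ^ 2)

/-- A rank one perturbation of the identity. -/
def rk1 (q : ℕ) (u v : Fin n → F) (c : F) : Matrix (Fin n) (Fin n) F :=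
  1 + c • Matrix.vecMulVec u (fun j => v j ^ q)

omit [Fintype F] in
theorem rk1_mulVec (u v : Fin n → F) (c : F) (x : Fin n → F) :
    rk1 q u v c *ᵥ x = x + (c * hermForm n F q x v) • u := by
  funext i
  simp only [rk1, Matrix.add_mulVec, Matrix.one_mulVec, Matrix.smul_mulVec,
    Matrix.vecMulVec_mulVec, Pi.add_apply, Pi.smul_apply, smul_eq_mul, op_smul_eq_mul,
    hermForm, dotProduct]
  congr 1
  simp only [Finset.sum_mul, Finset.mul_sum]
  exact Finset.sum_congr rfl fun j _ => by ring

omit [Fintype F] in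
theorem rk1_det (u v : Fin n → F) (c : F) :
    (rk1 q u v c).det = 1 + c * hermForm n F q u v := by
  have : rk1 q u v c = 1 + Matrix.replicateCol Unit (c • u) *
      Matrix.replicateRow Unit (fun j => v j ^ q) := by
    ext i j
    simp [rk1, Matrix.vecMulVec_apply, Matrix.mul_apply, mul_assoc]
  rw [this, Matrix.det_one_add_replicateCol_mul_replicateRow]
  simp only [dotProduct, hermForm, Pi.smul_apply, smul_eq_mul, Finset.mul_sum]
  congr 1
  exact Finset.sum_congr rfl fun j _ => by ring

include hF in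
/-- Scaling of a hyperbolic plane. -/
theorem exists_plane {e f : Fin n → F} (he : hermForm n F q e e = 0)
    (hff : hermForm n F q f f = 0) (hef : hermForm n F q e f = 1) (hfe : hermForm n F q f e = 1)
    {ν : F} (hν : ν ≠ 0) :
    ∃ M : Matrix (Fin n) (Fin n) F, IsU q M ∧ M.det = ν / ν ^ q ∧ M *ᵥ e = ν • e ∧
      M *ᵥ f = (ν ^ q)⁻¹ • f ∧
      ∀ k, hermForm n F q k e = 0 → hermForm n F q k f = 0 → M *ᵥ k = k := by
  have hq : ν ^ q ≠ 0 := pow_ne_zero _ hν
  set A := ν - 1 with hA
  set C := (ν ^ q)⁻¹ - 1 with hC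
  have h1 : A + C ^ q + A * C ^ q = 0 := by
    rw [hA, hC, sub_pow_q hF, inv_pow, pow_q_q hF, one_pow]
    field_simp
    ring
  have h2 : C + A ^ q + C * A ^ q = 0 := by
    rw [hA, hC, sub_pow_q hF, one_pow]
    field_simp
    ring
  have hM : ∀ x, (rk1 q e f A * rk1 q f e C) *ᵥ x =
      x + (C * hermForm n F q x e) • f + (A * hermForm n F q x f) • e := by
    intro x
    rw [← Matrix.mulVec_mulVec, rk1_mulVec, rk1_mulVec, herm_add_left, herm_smul_left, hff,
      mul_zero, add_zero]
  refine ⟨rk1 q e f A * rk1 q f e C, fun x y => ?_, ?_, ?_, ?_, fun k hke hkf => ?_⟩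
  · rw [hM, hM]
    simp only [herm_add_left, herm_add_right hF, herm_smul_left, herm_smul_right, he, hff, hef,
      hfe, mul_pow, ← herm_conj hF]
    linear_combination (hermForm n F q x f * hermForm n F q e y) * h1 +
      (hermForm n F q x e * hermForm n F q f y) * h2
  · rw [Matrix.det_mul, rk1_det, rk1_det, hef, hfe, hA, hC]
    field_simp
    ring
  · rw [hM, he, hef, hA]
    module
  · rw [hM, hff, hfe, hC]
    module
  · rw [hM, hke, hkf]
    module

include hF in
/-- A diagonal element for a plane and a perpendicular vector of norm one. -/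
theorem exists_diag3 {e f k : Fin n → F} (he : hermForm n F q e e = 0)
    (hff : hermForm n F q f f = 0) (hef : hermForm n F q e f = 1) (hfe : hermForm n F q f e = 1)
    (hke : hermForm n F q k e = 0) (hkf : hermForm n F q k f = 0)
    (hkk : hermForm n F q k k = 1) {μ : F} (hμ : μ ≠ 0) :
    ∃ g : SU n F q, act g e = μ • e ∧ act g f = (μ ^ q)⁻¹ • f ∧ act g k = (μ ^ q / μ) • k := by
  obtain ⟨M, hM, hdet, hMe, hMf, hMp⟩ := exists_plane hF he hff hef hfe hμ
  have hq : μ ^ q ≠ 0 := pow_ne_zero _ hμ
  set T := unitaryTransvection n q k (μ ^ q / μ - 1)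
  have hT : IsU q T := isU_transvection hF (by
    rw [hkk, sub_pow_q hF, div_pow, pow_q_q hF, one_pow]
    field_simp
    ring)
  have hd : (M * T).det = 1 := by
    rw [Matrix.det_mul, hdet, det_transvection hF, hkk]
    field_simp
    ring
  have hek := herm_skew_zero hF hke
  have hfk := herm_skew_zero hF hkf
  refine ⟨mkSU (M * T) hd (hM.mul hT), ?_, ?_, ?_⟩
  · show (M * T) *ᵥ e = _
    rw [← Matrix.mulVec_mulVec, transvection_mulVec, hek, mul_zero, zero_smul, add_zero, hMe]
  · show (M * T) *ᵥ f = _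
    rw [← Matrix.mulVec_mulVec, transvection_mulVec, hfk, mul_zero, zero_smul, add_zero, hMf]
  · show (M * T) *ᵥ k = _
    rw [← Matrix.mulVec_mulVec, transvection_mulVec, hkk, Matrix.mulVec_add, Matrix.mulVec_smul,
      hMp k hke hkf]
    module

include hF in
/-- A diagonal element for two perpendicular planes. -/
theorem exists_diag4 {e f x y : Fin n → F} (he : hermForm n F q e e = 0)
    (hff : hermForm n F q f f = 0) (hef : hermForm n F q e f = 1) (hfe : hermForm n F q f e = 1)
    (hxx : hermForm n F q x x = 0) (hyy : hermForm n F q y y = 0)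
    (hxy : hermForm n F q x y = 1) (hyx : hermForm n F q y x = 1)
    (hxe : hermForm n F q x e = 0) (hxf : hermForm n F q x f = 0)
    (hye : hermForm n F q y e = 0) (hyf : hermForm n F q y f = 0) {t : F} (ht : t ≠ 0) :
    ∃ g : SU n F q, act g e = t ^ q • e ∧ act g f = t⁻¹ • f ∧ act g x = t • x ∧
      act g y = (t ^ q)⁻¹ • y := by
  have hq : t ^ q ≠ 0 := pow_ne_zero _ ht
  obtain ⟨M, hM, hdet, hMe, hMf, hMp⟩ := exists_plane hF he hff hef hfe hq
  obtain ⟨N, hN, hdetN, hNx, hNy, hNp⟩ := exists_plane hF hxx hyy hxy hyx ht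
  have hd : (M * N).det = 1 := by
    rw [Matrix.det_mul, hdet, hdetN, pow_q_q hF]
    field_simp
  refine ⟨mkSU (M * N) hd (hM.mul hN), ?_, ?_, ?_, ?_⟩
  · show (M * N) *ᵥ e = _
    rw [← Matrix.mulVec_mulVec, hNp e (herm_skew_zero hF hxe) (herm_skew_zero hF hye), hMe]
  · show (M * N) *ᵥ f = _
    rw [← Matrix.mulVec_mulVec, hNp f (herm_skew_zero hF hxf) (herm_skew_zero hF hyf), hMf,
      pow_q_q hF]
  · show (M * N) *ᵥ x = _
    rw [← Matrix.mulVec_mulVec, hNx, Matrix.mulVec_smul, hMp x hxe hxf]
  · show (M * N) *ᵥ y = _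
    rw [← Matrix.mulVec_mulVec, hNy, Matrix.mulVec_smul, hMp y hye hyf]

include hF in
/-- A real scaling of a hyperbolic plane. -/
theorem exists_diag2 {e f : Fin n → F} (he : hermForm n F q e e = 0)
    (hff : hermForm n F q f f = 0) (hef : hermForm n F q e f = 1) (hfe : hermForm n F q f e = 1)
    {r : F} (hr : r ≠ 0) (hrq : r ^ q = r) :
    ∃ g : SU n F q, act g e = r • e ∧ act g f = r⁻¹ • f ∧
      ∀ k, hermForm n F q k e = 0 → hermForm n F q k f = 0 → act g k = k := by
  obtain ⟨M, hM, hdet, hMe, hMf, hMp⟩ := exists_plane hF he hff hef hfe hr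
  rw [hrq] at hMf hdet
  exact ⟨mkSU M (by rw [hdet, div_self hr]) hM, hMe, hMf, hMp⟩

include hF in
/-- A vector orthogonal to a family with a dual family is zero. -/
theorem eq_zero_of_dual {v u : Fin n → (Fin n → F)}
    (huv : ∀ i j, hermForm n F q (v i) (u j) = if i = j then 1 else 0) {x : Fin n → F}
    (hx : ∀ i, hermForm n F q x (v i) = 0) : x = 0 := by
  have hli : LinearIndependent F v := by
    rw [Fintype.linearIndependent_iff]
    intro g hg j
    have h := congrArg (fun w => hermL q (u j) w) hg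
    simpa [map_sum, hermL_apply, huv, herm_zero_left] using h
  have hspan : Submodule.span F (Set.range v) = ⊤ :=
    hli.span_eq_top_of_card_eq_finrank' (by simp)
  refine eq_zero_of_herm_eq_zero hF fun z => ?_
  have hker : Submodule.span F (Set.range v) ≤ LinearMap.ker (hermL q x) := by
    rw [Submodule.span_le]
    rintro _ ⟨i, rfl⟩
    rw [SetLike.mem_coe, LinearMap.mem_ker, hermL_apply, herm_skew_zero hF (hx i)]
  have hz : hermForm n F q z x = 0 := by
    have := hker (hspan ▸ Submodule.mem_top : z ∈ Submodule.span F (Set.range v))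
    rwa [LinearMap.mem_ker, hermL_apply] at this
  exact herm_skew_zero hF hz

end Cfsg.Agent.StemSUPlane
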