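import Cfsg.Agent.Lib.StemSURadical
import Cfsg.Agent.Lib.StemSUPlane
import Cfsg.Agent.Lib.StemPairing
import Cfsg.Agent.Lib.StemSUDiag
import Cfsg.Agent.Lib.OrthUnitaryPSU
import Mathlib

/-!
The pairing of a radical of `SU_3(q)` (`q ≥ 3`) and `SU_4(q)` (`q ≥ 4`) in a central extension is a
function of the form.
-/

set_option autoImplicit false
set_option linter.unusedSectionVars false

namespace Cfsg.Agent.StemSUPhiSmall

open Subgroup
open Cfsg.Agent.OrthUnitaryHerm
open Cfsg.Agent.OrthUnitaryTransvection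
open Cfsg.Agent.StemSUFrame
open Cfsg.Agent.StemSURadical
open Cfsg.Agent.StemSUPlane
open Cfsg.Agent.StemStep
open scoped commutatorElement

variable {F : Type*} [Field F] [Fintype F] {q n : ℕ} (hF : Fintype.card F = q ^ 2)

include hF in
theorem exists_real (hq : 4 ≤ q) : ∃ r : F, r ≠ 0 ∧ r ^ q = r ∧ r ^ 2 - 1 ≠ 0 := by
  classical
  obtain ⟨g, hg⟩ := IsCyclic.exists_ofOrder_eq_natCard (α := Fˣ)
  have ho : orderOf (g ^ (q + 1)) = q - 1 := by
    rw [orderOf_pow, hg, card_units_eq hF, Nat.gcd_mul_right_left, Nat.mul_div_cancel_left _ (by omega)]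
  set u := g ^ (q + 1)
  refine ⟨(u : F), u.ne_zero, ?_, ?_⟩
  · rw [← Units.val_pow_eq_pow_val]
    congr 1
    have h : u ^ (q - 1) = 1 := by rw [← ho]; exact pow_orderOf_eq_one u
    calc u ^ q = u ^ (q - 1) * u := by rw [← pow_succ]; congr 1; omega
      _ = u := by rw [h, one_mul]
  · intro h
    have h2 : u ^ 2 = 1 := Units.ext (by simpa using sub_eq_zero.1 h)
    have h3 := orderOf_dvd_of_pow_eq_one h2
    rw [ho] at h3
    have := Nat.le_of_dvd (by norm_num) h3
    omega

include hF in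
theorem exists_mu_cube (hq : 3 ≤ q) :
    ∃ μ : F, μ ≠ 0 ∧ μ ^ q * μ = 1 ∧ μ ^ q * (μ ^ q / μ) - 1 ≠ 0 := by
  obtain ⟨α, hα, ho, -⟩ := StemSUDiag.exists_normOne_gen hF
  have hα0 : α ≠ 0 := fun e => by
    rw [e, zero_pow (Nat.succ_ne_zero q)] at hα; exact zero_ne_one hα
  have h1 : α ^ q * α = 1 := by rw [← pow_succ, hα]
  refine ⟨α, hα0, h1, fun h => ?_⟩
  have h2 : α ^ 3 = 1 := by
    have e : α ^ q * (α ^ q / α) = 1 := sub_eq_zero.1 h
    field_simp at e
    linear_combination ((α ^ q * α + 1)) * h1 - α ^ 2 * e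
  have h3 := orderOf_dvd_of_pow_eq_one h2
  rw [ho] at h3
  have := Nat.le_of_dvd (by norm_num) h3
  omega

variable {Γ : Type*} [Group Γ] {σ : Γ →* SU n F q} (hs : Function.Surjective σ)
  (hc : σ.ker ≤ center Γ)

include hF in
/-- In dimension three the perpendicular of `e` is spanned by `e` and a vector of norm one. -/
theorem decomp3 (hn : n = 3) {e f k : Fin n → F} (he : hermForm n F q e e = 0)
    (hff : hermForm n F q f f = 0) (hef : hermForm n F q e f = 1) (hfe : hermForm n F q f e = 1)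
    (hke : hermForm n F q k e = 0) (hkf : hermForm n F q k f = 0)
    (hkk : hermForm n F q k k = 1) {w : Fin n → F} (hw : hermForm n F q w e = 0) :
    ∃ α a : F, w = α • e + a • k := by
  subst hn
  refine ⟨hermForm 3 F q w f, hermForm 3 F q w k, sub_eq_zero.1 ?_⟩
  refine eq_zero_of_dual hF (v := ![e, f, k]) (u := ![f, e, k]) (fun i j => ?_) (fun i => ?_)
  · fin_cases i <;> fin_cases j <;>
      simp [he, hff, hef, hfe, hke, hkf, hkk, herm_skew_zero hF hke, herm_skew_zero hF hkf]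
  · fin_cases i <;>
      simp [herm_sub_left, herm_add_left, herm_smul_left, he, hw, hef, hke, hkf, hkk,
        herm_skew_zero hF hke]

include hF hs hc in
theorem zn_three (hn : n = 3) (hq : 3 ≤ q) {e : Fin n → F} (he : hermForm n F q e e = 0)
    (he0 : e ≠ 0) : ZN hF hs hc e := by
  intro _ c hc' w μ0 hw hμ0
  have hn3 : 3 ≤ n := hn.ge
  obtain ⟨f, hff, hfe, hef⟩ := exists_hyp hF he0 he
  obtain ⟨k, hke, hkf, hkk⟩ := exists_perp2 hF hn3 he hff hef hfe (r := (1 : F)) (one_pow q)
  obtain ⟨μ, hμ, hμ1, hδ⟩ := exists_mu_cube hF hq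
  obtain ⟨g, hge, -, hgk⟩ := exists_diag3 hF he hff hef hfe hke hkf hkk hμ
  obtain ⟨α, a, rfl⟩ := decomp3 hF hn he hff hef hfe hke hkf hkk hw
  have hsm : ∀ b : F, hermForm n F q (b • k) e = 0 := fun b => by
    rw [herm_smul_left, hke, mul_zero]
  set a' := a / (μ ^ q * (μ ^ q / μ) - 1) with ha'
  have hdiff : μ ^ q • act g (a' • k) - a' • k = a • k := by
    rw [act_smul, hgk, smul_smul, smul_smul, ← sub_smul]
    congr 1
    calc _ = a' * (μ ^ q * (μ ^ q / μ) - 1) := by ring
      _ = a := div_mul_cancel₀ a hδ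
  have hk : eich hF e (a • k) (mu hF (a • k)) he (hsm a) (mu_spec hF _) ∈
      killer hs hc (tv hF e c he hc') := by
    have h := zn_diff hF hs hc hn3 he hc' g hge hμ1 (hsm a') (mu_spec hF _)
      (by rw [hdiff]; exact hsm a) (mu hF (a • k)) (by rw [hdiff]; exact mu_spec hF _)
    convert h using 2
    exact hdiff.symm
  exact eich_add_mem_killer hF hs hc hn3 he hc' (by rw [herm_smul_left, he, mul_zero]) (hsm a)
    (eich_line_mem_killer hF hs hc hn3 he hc' α _ _ _) hk μ0 hw hμ0

include hF hs hc in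
/-- The pairing vanishes on an isotropic line of the perpendicular. -/
theorem line_eq_one (hn : 4 ≤ n) (hq : 4 ≤ q) {e f x y : Fin n → F} (he : hermForm n F q e e = 0)
    (hff : hermForm n F q f f = 0) (hef : hermForm n F q e f = 1) (hfe : hermForm n F q f e = 1)
    (hxx : hermForm n F q x x = 0) (hyy : hermForm n F q y y = 0)
    (hxy : hermForm n F q x y = 1) (hyx : hermForm n F q y x = 1)
    (hxe : hermForm n F q x e = 0) (hxf : hermForm n F q x f = 0)
    (hye : hermForm n F q y e = 0) (hyf : hermForm n F q y f = 0) (a b : F) :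
    B hF hs he (a • x) (b • x) = 1 := by
  have hn3 : 3 ≤ n := by omega
  have hZ : ZN hF hs hc e := zn_of_four hF hs hc hn e
  have hsm : ∀ b : F, hermForm n F q (b • x) e = 0 := fun b => by
    rw [herm_smul_left, hxe, mul_zero]
  have hcard : 16 ≤ Fintype.card F := hF ▸ Nat.pow_le_pow_left hq 2
  refine StemPairing.pairing_eq_one (by omega) (by omega)
    (fun a b => B hF hs he (a • x) (b • x)) (fun a a' b => ?_) (fun a b b' => ?_)
    (fun a => B_self hF hs he (hsm a)) (fun t ht a b => ?_) a b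
  · simp only [add_smul, B_add_left hF hs hc he hn3 hZ (hsm a) (hsm a') (hsm b)]
  · simp only [add_smul, B_add_right hF hs hc he hn3 hZ (hsm b) (hsm b') (hsm a)]
  · obtain ⟨g, hge, -, hgx, -⟩ := exists_diag4 hF he hff hef hfe hxx hyy hxy hyx hxe hxf hye hyf ht
    obtain ⟨γ, rfl⟩ := hs g
    have h := B_conj hF hs hc he hZ γ hge (hsm a) (hsm b)
    have hker : σ (B hF hs he (a • x) (b • x)) = 1 := by
      rw [σ_B hF hs he (hsm a) (hsm b)]
      refine (tv_congr hF ?_).trans (tv_zero hF (hv := he) (h0 := by rw [zero_pow_q hF, add_zero]))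
      rw [herm_smul_left, herm_smul_right, hxx, mul_zero, mul_zero, zero_pow_q hF, sub_zero]
    rw [StemBasic.ker_comm hc hker γ, mul_inv_cancel_right] at h
    conv_rhs => rw [h]
    simp only [act_smul, hgx, smul_smul, pow_q_q hF]
    congr 2 <;> ring

include hF hs hc in
theorem phi_four (hn : n = 4) (hq : 4 ≤ q) {e : Fin n → F} (he : hermForm n F q e e = 0)
    (he0 : e ≠ 0) : PhiData hF hs he := by
  subst hn
  have hn3 : 3 ≤ 4 := by omega
  have hZ : ZN hF hs hc e := zn_of_four hF hs hc le_rfl e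
  obtain ⟨f0, hff0, hfe, hef⟩ := exists_hyp hF he0 he
  obtain ⟨k, hke, hkf, hkk⟩ := exists_perp2 hF hn3 he hff0 hef hfe (r := (1 : F)) (one_pow q)
  obtain ⟨k2, hk2e, hk2f, hk2k, hk2k2⟩ := exists_perp3 hF le_rfl he hff0 hef hfe hke hkf
    (by rw [hkk]; exact one_ne_zero) (r := (-1 : F)) (by rw [neg_pow_q hF, one_pow])
  have hkk2 := herm_skew_zero hF hk2k
  obtain ⟨s, hs1⟩ := exists_trace hF (a := (1 : F)) (one_pow q)
  set x := k + k2 with hx
  set f := s • k + (s - 1) • k2 with hf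
  have hxe : hermForm 4 F q x e = 0 := by rw [hx, herm_add_left, hke, hk2e, add_zero]
  have hxf0 : hermForm 4 F q x f0 = 0 := by rw [hx, herm_add_left, hkf, hk2f, add_zero]
  have hfe' : hermForm 4 F q f e = 0 := by
    rw [hf, herm_add_left, herm_smul_left, herm_smul_left, hke, hk2e]; ring
  have hff0' : hermForm 4 F q f f0 = 0 := by
    rw [hf, herm_add_left, herm_smul_left, herm_smul_left, hkf, hk2f]; ring
  have hxx : hermForm 4 F q x x = 0 := by
    simp only [hx, herm_add_left, herm_add_right hF, hkk, hk2k2, hk2k, hkk2]; ring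
  have hff : hermForm 4 F q f f = 0 := by
    simp only [hf, herm_add_left, herm_add_right hF, herm_smul_left, herm_smul_right, hkk, hk2k2,
      hk2k, hkk2, sub_pow_q hF, one_pow]
    linear_combination hs1
  have hxf : hermForm 4 F q x f = 1 := by
    simp only [hx, hf, herm_add_left, herm_add_right hF, herm_smul_right, hkk, hk2k2, hk2k, hkk2,
      sub_pow_q hF, one_pow]
    ring
  have hfx : hermForm 4 F q f x = 1 := by rw [herm_conj hF x f, hxf, one_pow]
  have hsm : ∀ (a : F) {w : Fin 4 → F}, hermForm 4 F q w e = 0 →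
      hermForm 4 F q (a • w) e = 0 := fun a w hw => by rw [herm_smul_left, hw, mul_zero]
  have hX : ∀ a b, B hF hs he (a • x) (b • x) = 1 :=
    line_eq_one hF hs hc le_rfl hq he hff0 hef hfe hxx hff hxf hfx hxe hxf0 hfe' hff0'
  have hY : ∀ a b, B hF hs he (a • f) (b • f) = 1 :=
    line_eq_one hF hs hc le_rfl hq he hff0 hef hfe hff hxx hfx hxf hfe' hff0' hxe hxf0
  obtain ⟨r, hr0, hrq, hr2⟩ := exists_real hF hq
  obtain ⟨g, hge, -, hgx, hgf⟩ :=
    exists_diag4 hF he hff0 hef hfe hxx hff hxf hfx hxe hxf0 hfe' hff0' hr0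
  obtain ⟨γ, rfl⟩ := hs g
  have hG : ∀ a b, B hF hs he (((r ^ 2 - 1) * a) • x) (b • f) =
      br hs (σ γ) (tv hF e (a * b ^ q - (a * b ^ q) ^ q) he (im_skew hF _)) := by
    intro a b
    have h1 := B_conj hF hs hc he hZ γ hge (hsm a hxe) (hsm b hfe')
    have e1 : (r ^ q) ^ q • act (σ γ) (a • x) = (r ^ 2 * a) • x := by
      rw [act_smul, hgx, smul_smul, smul_smul, pow_q_q hF]; congr 1; ring
    have e2 : (r ^ q) ^ q • act (σ γ) (b • f) = b • f := by
      rw [act_smul, hgf, smul_smul, smul_smul, pow_q_q hF, hrq]; congr 1; field_simp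
    rw [e1, e2] at h1
    have h3 : ((r ^ 2 - 1) * a) • x + a • x = (r ^ 2 * a) • x := by rw [← add_smul]; congr 1; ring
    rw [← h3, B_add_left hF hs hc he hn3 hZ (hsm _ hxe) (hsm a hxe) (hsm b hfe')] at h1
    have hb : σ (B hF hs he (a • x) (b • f)) =
        tv hF e (a * b ^ q - (a * b ^ q) ^ q) he (im_skew hF _) := by
      rw [σ_B hF hs he (hsm a hxe) (hsm b hfe')]
      exact tv_congr hF (by rw [herm_smul_left, herm_smul_right, hxf, mul_one])
    rw [← br_eq hs hc (a := γ) rfl hb, commutatorElement_def]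
    exact eq_mul_inv_iff_mul_eq.2 h1.symm
  set φ : F → Γ := fun z => B hF hs he (z • x) ((1 : F) • f) with hφ
  have hmain : ∀ a b, B hF hs he (a • x) (b • f) = φ (a * b ^ q) := by
    intro a b
    simp only [hφ]
    conv_lhs => rw [← mul_div_cancel₀ a hr2, hG]
    conv_rhs => rw [← mul_div_cancel₀ (a * b ^ q) hr2, hG]
    congr 1
    exact tv_congr hF (by rw [one_pow, mul_one, div_mul_eq_mul_div])
  have hadd : ∀ a b, φ (a + b) = φ a * φ b := fun a b => by
    simp only [hφ, add_smul]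
    rw [B_add_left hF hs hc he hn3 hZ (hsm a hxe) (hsm b hxe) (hsm 1 hfe')]
  have hreal : ∀ z, z ^ q = z → φ z = 1 := by
    intro z hz
    simp only [hφ]
    rw [← mul_div_cancel₀ z hr2, hG]
    convert br_one_right hs hc (σ γ) using 2
    refine (tv_congr hF ?_).trans (tv_zero hF (hv := he) (h0 := by rw [zero_pow_q hF, add_zero]))
    rw [one_pow, mul_one, sub_eq_zero, div_pow, sub_pow_q hF, ← pow_mul, mul_comm 2 q, pow_mul,
      hrq, hz, one_pow]
  have hconj : ∀ z, φ (z ^ q) = (φ z)⁻¹ := fun z => by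
    refine eq_inv_of_mul_eq_one_right ?_
    rw [← hadd, hreal]
    rw [add_pow_q hF, pow_q_q hF, add_comm]
  refine ⟨φ, hadd, hconj, fun w w' hw hw' => ?_⟩
  have dec : ∀ v, hermForm 4 F q v e = 0 → ∃ α a b : F, v = α • e + a • x + b • f := by
    intro v hv
    refine ⟨hermForm 4 F q v f0, hermForm 4 F q v f, hermForm 4 F q v x, sub_eq_zero.1 ?_⟩
    refine eq_zero_of_dual hF (v := ![e, f0, x, f]) (u := ![f0, e, f, x]) (fun i j => ?_) (fun i => ?_)
    · fin_cases i <;> fin_cases j <;>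
        simp [he, hff0, hef, hfe, hxe, hxf0, hfe', hff0', hxx, hff, hxf, hfx,
          herm_skew_zero hF hxe, herm_skew_zero hF hxf0, herm_skew_zero hF hfe',
          herm_skew_zero hF hff0']
    · fin_cases i <;>
        simp [herm_sub_left, herm_add_left, herm_smul_left, he, hv, hef, hxe, hxf0, hfe', hff0',
          hxx, hff, hxf, hfx, herm_skew_zero hF hxe, herm_skew_zero hF hfe']
  obtain ⟨α, a, b, rfl⟩ := dec w hw
  obtain ⟨α', a', b', rfl⟩ := dec w' hw'
  have hae : ∀ c : F, hermForm 4 F q (c • e) e = 0 := fun c => hsm c he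
  have had : ∀ {v v' : Fin 4 → F}, hermForm 4 F q v e = 0 → hermForm 4 F q v' e = 0 →
      hermForm 4 F q (v + v') e = 0 := fun h h' => by rw [herm_add_left, h, h', add_zero]
  have hl : ∀ (c : F) (u : Fin 4 → F), hermForm 4 F q u e = 0 → B hF hs he u (c • e) = 1 :=
    fun c u hu => by rw [← B_inv hF hs he (hae c) hu, B_line hF hs hc he hn3 hu hZ, inv_one]
  rw [B_add_left hF hs hc he hn3 hZ (had (hae α) (hsm a hxe)) (hsm b hfe') hw',
    B_add_left hF hs hc he hn3 hZ (hae α) (hsm a hxe) hw', B_line hF hs hc he hn3 hw' hZ, one_mul]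
  have r4 : ∀ u, hermForm 4 F q u e = 0 → B hF hs he u (α' • e + a' • x + b' • f) =
      B hF hs he u (a' • x) * B hF hs he u (b' • f) := by
    intro u hu
    rw [B_add_right hF hs hc he hn3 hZ (had (hae α') (hsm a' hxe)) (hsm b' hfe') hu,
      B_add_right hF hs hc he hn3 hZ (hae α') (hsm a' hxe) hu, hl _ u hu, one_mul]
  rw [r4 _ (hsm a hxe), r4 _ (hsm b hfe'), hX, hY, one_mul, mul_one, hmain,
    ← B_inv hF hs he (hsm a' hxe) (hsm b hfe'), hmain, ← hconj, ← hadd]
  congr 1
  simp only [herm_add_left, herm_add_right hF, herm_smul_left, herm_smul_right, he, hxx, hff, hxf,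
    hfx, hxe, hfe', herm_skew_zero hF hxe, herm_skew_zero hF hfe', mul_pow, pow_q_q hF]
  ring

include hF in
theorem exists_good (hq : 4 ≤ q) : ∃ t : F, t ^ 2 + t + 1 ≠ 0 ∧ t ≠ 0 ∧ 1 + t ≠ 0 ∧
    ∀ u ∈ ({t, 1 + t} : Set F), ∃ μ : F, μ ≠ 0 ∧ μ ^ q * (μ ^ q / μ) = u := by
  classical
  open Polynomial in
  set P : F[X] := X * (X + C 1) * (X ^ 2 + X + C 1) with hP
  have hP0 : P ≠ 0 := by
    rw [hP]
    refine mul_ne_zero (mul_ne_zero Polynomial.X_ne_zero (Polynomial.X_add_C_ne_zero 1)) fun h => ?_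
    have := congrArg (Polynomial.eval 0) h
    simp at this
  have hdeg : P.natDegree ≤ 4 := by rw [hP]; compute_degree
  have key : ∀ S : Finset F, 5 ≤ S.card → ∃ t ∈ S, P.eval t ≠ 0 := by
    intro S hS
    by_contra hcon
    simp only [not_exists, not_and, not_not] at hcon
    exact hP0 (Polynomial.eq_zero_of_natDegree_lt_card_of_eval_eq_zero' P S hcon (by omega))
  have fin : ∀ t : F, P.eval t ≠ 0 → t ^ 2 + t + 1 ≠ 0 ∧ t ≠ 0 ∧ 1 + t ≠ 0 := by
    intro t ht
    simp only [hP, Polynomial.eval_mul, Polynomial.eval_X, Polynomial.eval_add, Polynomial.eval_C,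
      Polynomial.eval_pow, mul_ne_zero_iff] at ht
    exact ⟨ht.2, ht.1.1, by rw [add_comm]; exact ht.1.2⟩
  rcases eq_or_lt_of_le hq with h4 | h5
  · obtain ⟨t, -, ht⟩ := key Finset.univ (by
      rw [Finset.card_univ, hF, ← h4]; norm_num)
    obtain ⟨h1, h2, h3⟩ := fin t ht
    refine ⟨t, h1, h2, h3, fun u hu => ?_⟩
    have hu0 : u ≠ 0 := by
      rcases hu with rfl | rfl
      · exact h2
      · exact h3
    have h15 : u ^ 15 = 1 := by
      have := FiniteField.pow_card_sub_one_eq_one u hu0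
      rwa [hF, ← h4] at this
    refine ⟨u ^ 13, pow_ne_zero _ hu0, ?_⟩
    rw [← h4, mul_div_assoc', div_eq_iff (pow_ne_zero _ hu0)]
    linear_combination (u ^ 14 * ((u ^ 15) ^ 5 + (u ^ 15) ^ 4 + (u ^ 15) ^ 3 + (u ^ 15) ^ 2 +
      (u ^ 15) + 1)) * h15
  · have hS : 5 ≤ (Finset.univ.filter fun x : F => x ^ q = x).card := by
      obtain ⟨g, hg⟩ := IsCyclic.exists_ofOrder_eq_natCard (α := Fˣ)
      set u := g ^ (q + 1)
      have ho : orderOf u = q - 1 := by
        rw [orderOf_pow, hg, card_units_eq hF, Nat.gcd_mul_right_left,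
          Nat.mul_div_cancel_left _ (by omega)]
      have hinj : Set.InjOn (fun i => ((u ^ i : Fˣ) : F)) ↑(Finset.range (q - 1)) := by
        intro i hi j hj h
        simp only [Finset.coe_range, Set.mem_Iio] at hi hj
        exact pow_injOn_Iio_orderOf (by rw [Set.mem_Iio, ho]; exact hi)
          (by rw [Set.mem_Iio, ho]; exact hj) (Units.ext h)
      have hsub : insert (0 : F) ((Finset.range (q - 1)).image fun i => ((u ^ i : Fˣ) : F)) ⊆
          Finset.univ.filter fun x : F => x ^ q = x := by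
        intro x hx
        rw [Finset.mem_filter]
        refine ⟨Finset.mem_univ _, ?_⟩
        rw [Finset.mem_insert, Finset.mem_image] at hx
        rcases hx with rfl | ⟨i, -, rfl⟩
        · exact zero_pow_q hF
        · rw [← Units.val_pow_eq_pow_val]
          congr 1
          have h : u ^ (q - 1) = 1 := by rw [← ho]; exact pow_orderOf_eq_one u
          have huq : u ^ q = u := by
            calc u ^ q = u ^ (q - 1) * u := by rw [← pow_succ]; congr 1; omega
              _ = u := by rw [h, one_mul]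
          rw [pow_right_comm, huq]
      have := Finset.card_le_card hsub
      rw [Finset.card_insert_of_notMem (by simp), Finset.card_image_of_injOn hinj,
        Finset.card_range] at this
      omega
    obtain ⟨t, htS, ht⟩ := key _ hS
    rw [Finset.mem_filter] at htS
    obtain ⟨h1, h2, h3⟩ := fin t ht
    refine ⟨t, h1, h2, h3, fun u hu => ⟨u, ?_, ?_⟩⟩
    · rcases hu with rfl | rfl
      · exact h2
      · exact h3
    · have huq : u ^ q = u := by
        rcases hu with rfl | rfl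
        · exact htS.2
        · rw [add_pow_q hF, one_pow, htS.2]
      have hu0 : u ≠ 0 := by
        rcases hu with rfl | rfl
        · exact h2
        · exact h3
      rw [huq, div_self hu0, mul_one]

include hF hs hc in
theorem phi_three (hn : n = 3) (hq : 4 ≤ q) {e f k : Fin n → F} (he : hermForm n F q e e = 0)
    (hff : hermForm n F q f f = 0) (hef : hermForm n F q e f = 1) (hfe : hermForm n F q f e = 1)
    (hke : hermForm n F q k e = 0) (hkf : hermForm n F q k f = 0)
    (hkk : hermForm n F q k k = 1) (hZ : ZN hF hs hc e) :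
    ∃ φ : F → Γ, (∀ a b, φ (a + b) = φ a * φ b) ∧ (∀ z, φ (z ^ q) = (φ z)⁻¹) ∧
      ∀ a b, B hF hs he (a • k) (b • k) = φ (a * b ^ q) := by
  have hn3 : 3 ≤ n := hn.ge
  obtain ⟨r, hr0, hrq, hr2⟩ := exists_real hF hq
  obtain ⟨g, hge, hgf, hgk⟩ := exists_diag3 hF he hff hef hfe hke hkf hkk hr0
  have hrq2 : (r ^ 2 - 1) ^ q = r ^ 2 - 1 := by
    rw [sub_pow_q hF, ← pow_mul, mul_comm 2 q, pow_mul, hrq, one_pow]
  have hsm : ∀ b : F, hermForm n F q (b • k) e = 0 := fun b => by
    rw [herm_smul_left, hke, mul_zero]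
  set dd : F → F := fun z => z / (r ^ 2 - 1) - (z / (r ^ 2 - 1)) ^ q with hdd
  have hskew : ∀ z, dd z + dd z ^ q = 0 := fun z => im_skew hF _
  set φ : F → Γ := fun z => br hs g (tv hF e (dd z) he (hskew z)) with hφ
  -- values of brackets with the centre
  have hgtv : ∀ (d : F) (hd : d + d ^ q = 0), ∃ hd',
      ⁅g, tv hF e d he hd⁆ = tv hF e ((r ^ 2 - 1) * d) he hd' := by
    intro d hd
    refine ⟨by rw [mul_pow, hrq2, ← mul_add, hd, mul_zero], ?_⟩
    rw [commutatorElement_def, OrthUnitaryPSU.tv_conj, mul_inv_eq_iff_eq_mul]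
    refine su_ext fun x => ?_
    rw [act_mul, tv_act, tv_act, tv_act, hge, herm_smul_right, hrq, herm_add_left, herm_smul_left,
      he]
    module
  have hσφ : ∀ z, σ (φ z) = tv hF e (z - z ^ q) he (im_skew hF z) := by
    intro z
    obtain ⟨hd', hb⟩ := hgtv (dd z) (hskew z)
    simp only [hφ]
    rw [br_spec, hb]
    refine tv_congr hF ?_
    simp only [hdd]
    rw [div_pow, hrq2, ← sub_div, mul_div_cancel₀ _ hr2]
  have hadd : ∀ a b, φ (a + b) = φ a * φ b := by
    intro a b
    obtain ⟨γ, hγ⟩ := hs g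
    obtain ⟨δ, hδ⟩ := hs (tv hF e (dd a) he (hskew a))
    obtain ⟨δ', hδ'⟩ := hs (tv hF e (dd b) he (hskew b))
    have hprod : σ (δ * δ') = tv hF e (dd (a + b)) he (hskew _) := by
      rw [map_mul, hδ, hδ', tv_mul]
      refine tv_congr hF ?_
      simp only [hdd]
      rw [add_div, add_pow_q hF]
      ring
    have hB' : σ ⁅γ, δ'⁆ = tv hF e (b - b ^ q) he (im_skew hF b) := by
      rw [← hσφ b]
      simp only [hφ]
      rw [← br_eq hs hc hγ hδ']
    simp only [hφ]
    rw [← br_eq hs hc hγ hprod, ← br_eq hs hc hγ hδ, ← br_eq hs hc hγ hδ',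
      show ⁅γ, δ * δ'⁆ = ⁅γ, δ⁆ * (δ * ⁅γ, δ'⁆ * δ⁻¹) by simp only [commutatorElement_def]; group,
      (commute_TT hF hs hc he hn3 hδ hB').eq, mul_inv_cancel_right]
  have hreal : ∀ z, z ^ q = z → φ z = 1 := by
    intro z hz
    simp only [hφ]
    convert br_one_right hs hc g using 2
    refine (tv_congr hF ?_).trans (tv_zero hF (hv := he) (h0 := by rw [zero_pow_q hF, add_zero]))
    simp only [hdd]
    rw [div_pow, hrq2, hz, sub_self]
  have hconj : ∀ z, φ (z ^ q) = (φ z)⁻¹ := fun z => by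
    refine eq_inv_of_mul_eq_one_right ?_
    rw [← hadd, hreal]
    rw [add_pow_q hF, pow_q_q hF, add_comm]
  refine ⟨φ, hadd, hconj, ?_⟩
  -- the defect of the pairing
  set P : F → F → Γ := fun a b => B hF hs he (a • k) (b • k) * (φ (a * b ^ q))⁻¹ with hP
  have hPker : ∀ a b, σ (P a b) = 1 := by
    intro a b
    simp only [hP, map_mul, map_inv]
    rw [σ_B hF hs he (hsm a) (hsm b), hσφ, mul_inv_eq_one]
    exact tv_congr hF (by rw [herm_smul_left, herm_smul_right, hkk, mul_one])
  have hcen : ∀ a b (x : Γ), Commute x (P a b) := fun a b => StemBasic.ker_comm hc (hPker a b)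
  have hPl : ∀ a a' b, P (a + a') b = P a b * P a' b := by
    intro a a' b
    have h := hcen a' b (φ (a * b ^ q))⁻¹
    simp only [hP] at h ⊢
    rw [add_smul, B_add_left hF hs hc he hn3 hZ (hsm a) (hsm a') (hsm b), add_mul, hadd,
      _root_.mul_inv_rev, mul_assoc, ← mul_assoc (B hF hs he (a' • k) (b • k)), ← h.eq, ← mul_assoc]
  have hPr : ∀ a b b', P a (b + b') = P a b * P a b' := by
    intro a b b'
    have h := hcen a b' (φ (a * b ^ q))⁻¹
    simp only [hP] at h ⊢
    rw [add_smul, B_add_right hF hs hc he hn3 hZ (hsm b) (hsm b') (hsm a), add_pow_q hF, mul_add,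
      hadd, _root_.mul_inv_rev, mul_assoc, ← mul_assoc (B hF hs he (a • k) (b' • k)), ← h.eq,
      ← mul_assoc]
  have hPalt : ∀ a, P a a = 1 := by
    intro a
    simp only [hP]
    rw [B_self hF hs he (hsm a), hreal _ (by rw [mul_pow, pow_q_q hF, mul_comm]), inv_one, mul_one]
  have hinv : ∀ μ : F, μ ≠ 0 → ∀ a b,
      P (μ ^ q * (μ ^ q / μ) * a) (μ ^ q * (μ ^ q / μ) * b) = P a b := by
    intro μ hμ a b
    obtain ⟨g', hge', hgf', hgk'⟩ := exists_diag3 hF he hff hef hfe hke hkf hkk hμ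
    obtain ⟨γ', hγ'⟩ := hs g'
    have hq0 : μ ^ q ≠ 0 := pow_ne_zero _ hμ
    have hcom : Commute g' g := by
      refine su_ext fun x => ?_
      obtain ⟨c1, c2, c3, rfl⟩ : ∃ c1 c2 c3 : F, x = c1 • e + c2 • f + c3 • k := by
        subst hn
        refine ⟨hermForm 3 F q x f, hermForm 3 F q x e, hermForm 3 F q x k, sub_eq_zero.1 ?_⟩
        refine eq_zero_of_dual hF (v := ![e, f, k]) (u := ![f, e, k]) (fun i j => ?_) (fun i => ?_)
        · fin_cases i <;> fin_cases j <;>
            simp [he, hff, hef, hfe, hke, hkf, hkk, herm_skew_zero hF hke, herm_skew_zero hF hkf]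
        · fin_cases i <;>
            simp [herm_sub_left, herm_add_left, herm_smul_left, he, hff, hfe, hef, hke, hkf, hkk,
              herm_skew_zero hF hke, herm_skew_zero hF hkf]
      simp only [act_mul, act_add, act_smul, hge, hgf, hgk, hge', hgf', hgk']
      module
    have hφg : ∀ z, γ' * φ z * γ'⁻¹ = φ (μ ^ q * μ * z) := by
      intro z
      simp only [hφ]
      rw [br_conj hs hc, hγ', hcom.eq, mul_inv_cancel_right, OrthUnitaryPSU.tv_conj]
      congr 1
      refine su_ext fun x => ?_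
      rw [tv_act, tv_act, hge', herm_smul_right, smul_smul]
      congr 2
      simp only [hdd, div_pow, mul_pow, hrq2, pow_q_q hF]
      ring
    have h := B_conj hF hs hc he hZ γ' (hγ'.symm ▸ hge' : act (σ γ') e = μ • e) (hsm a) (hsm b)
    rw [hγ', act_smul, act_smul, hgk', smul_smul, smul_smul, smul_smul, smul_smul] at h
    have e1 : ∀ c, μ ^ q * c * (μ ^ q / μ) = μ ^ q * (μ ^ q / μ) * c := fun c => by ring
    rw [e1, e1] at h
    have e2 : μ ^ q * (μ ^ q / μ) * a * (μ ^ q * (μ ^ q / μ) * b) ^ q = μ ^ q * μ * (a * b ^ q) := by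
      rw [mul_pow, mul_pow, div_pow, pow_q_q hF]
      field_simp
    conv_rhs => rw [← mul_inv_cancel_right (P a b) γ', ← (hcen a b γ').eq]
    simp only [hP]
    rw [← h, e2, ← hφg, conj_inv, conj_mul]
  intro a b
  obtain ⟨t, hc2, ht0, hu0, hS⟩ := exists_good hF hq
  have hkey : ∀ u ∈ ({t, 1 + t} : Set F), u ≠ 0 → ∀ a b, P (u * a) b = P a (b / u) := by
    intro u hu hu0 a b
    obtain ⟨μ, hμ, hμu⟩ := hS u hu
    conv_rhs => rw [← hinv μ hμ, hμu, mul_div_cancel₀ b hu0]
  have h1 : ∀ b, P a (b / (1 + t)) = P a (b + b / t) := fun b => by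
    rw [hPr, ← hkey _ (Or.inr rfl) hu0, ← hkey _ (Or.inl rfl) ht0, ← hPl, add_mul, one_mul]
  set c := 1 + 1 / t - 1 / (1 + t) with hc'
  have hc0 : c ≠ 0 := by
    have : c = (t ^ 2 + t + 1) / (t * (1 + t)) := by rw [hc']; field_simp; ring
    rw [this]
    exact div_ne_zero hc2 (mul_ne_zero ht0 hu0)
  have h2 := h1 (b / c)
  rw [show b / c + b / c / t = b / c * c + b / c / (1 + t) by rw [hc']; ring,
    div_mul_cancel₀ b hc0, hPr] at h2
  have h3 : P a b = 1 := right_eq_mul.1 h2
  exact mul_inv_eq_one.1 h3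

include hF hs hc in
theorem phi_three_three (hn : n = 3) (hq : q = 3) {e k : Fin n → F}
    (he : hermForm n F q e e = 0) (hke : hermForm n F q k e = 0)
    (hkk : hermForm n F q k k = 1) (hZ : ZN hF hs hc e) :
    ∃ φ : F → Γ, (∀ a b, φ (a + b) = φ a * φ b) ∧ (∀ z, φ (z ^ q) = (φ z)⁻¹) ∧
      ∀ a b, B hF hs he (a • k) (b • k) = φ (a * b ^ q) := by
  have hn3 : 3 ≤ n := hn.ge
  have h3 : (3 : F) = 0 := by
    have h9 : (Fintype.card F : F) = 0 := FiniteField.cast_card_eq_zero F
    rw [hF, hq, Nat.cast_pow] at h9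
    exact_mod_cast pow_eq_zero_iff (two_ne_zero) |>.1 h9
  have hsm : ∀ b : F, hermForm n F q (b • k) e = 0 := fun b => by
    rw [herm_smul_left, hke, mul_zero]
  set φ : F → Γ := fun z => B hF hs he (z • k) k with hφ
  have hadd : ∀ a b, φ (a + b) = φ a * φ b := fun a b => by
    simp only [hφ, add_smul]
    rw [B_add_left hF hs hc he hn3 hZ (hsm a) (hsm b) hke]
  have h0 : φ 0 = 1 := by
    have := hadd 0 0
    rw [add_zero] at this
    exact right_eq_mul.1 this
  have hneg : ∀ a, φ (-a) = (φ a)⁻¹ := fun a =>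
    eq_inv_of_mul_eq_one_left (by rw [← hadd, neg_add_cancel, h0])
  have h1 : φ 1 = 1 := by simp only [hφ, one_smul]; exact B_self hF hs he hke
  have hreal : ∀ z, z ^ q = z → φ z = 1 := by
    intro z hz
    have : z * (z - 1) * (z + 1) = 0 := by rw [hq] at hz; linear_combination hz
    rcases mul_eq_zero.1 this with h | h
    · rcases mul_eq_zero.1 h with h | h
      · rw [h, h0]
      · rw [sub_eq_zero.1 h, h1]
    · rw [eq_neg_of_add_eq_zero_left h, hneg, h1, inv_one]
  have hconj : ∀ z, φ (z ^ q) = (φ z)⁻¹ := fun z => by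
    refine eq_inv_of_mul_eq_one_right ?_
    rw [← hadd, hreal]
    rw [add_pow_q hF, pow_q_q hF, add_comm]
  obtain ⟨c, hc0, hcs⟩ := exists_skew hF
  have hcq : c ^ q = -c := by linear_combination hcs
  have gen : ∀ (P : F → Prop), P 0 → (∀ x y, P x → P y → P (x + y)) → P 1 → P c → ∀ z, P z := by
    intro P p0 padd p1 pc z
    have preal : ∀ u : F, u ^ q = u → ∀ v, P v → P (u * v) := by
      intro u hu v hv
      have : u * (u - 1) * (u + 1) = 0 := by rw [hq] at hu; linear_combination hu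
      rcases mul_eq_zero.1 this with h | h
      · rcases mul_eq_zero.1 h with h | h
        · rw [h, zero_mul]; exact p0
        · rw [sub_eq_zero.1 h, one_mul]; exact hv
      · rw [show u * v = v + v by linear_combination v * h - v * h3]
        exact padd _ _ hv hv
    have hz : z = (2 * z - z ^ q) * 1 + ((z ^ q - z) / c) * c := by
      rw [div_mul_cancel₀ _ hc0]; ring
    rw [hz]
    refine padd _ _ (preal _ ?_ _ p1) (preal _ ?_ _ pc)
    · rw [sub_pow_q hF, pow_q_q hF, mul_pow,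
        show ((2 : F)) ^ q = 2 by rw [hq]; linear_combination 2 * h3]
      linear_combination (z ^ q - z) * h3
    · rw [div_pow, sub_pow_q hF, pow_q_q hF, hcq]
      ring
  have hB0 : ∀ {w : Fin n → F}, hermForm n F q w e = 0 → B hF hs he 0 w = 1 := fun {w} hw => by
    have := B_line hF hs hc he hn3 hw hZ 0
    rwa [zero_smul] at this
  have hb1 : ∀ a, B hF hs he (a • k) ((1 : F) • k) = φ (a * (1 : F) ^ q) := fun a => by
    simp only [hφ, one_pow, mul_one, one_smul]
  have hbc : ∀ a, B hF hs he (a • k) (c • k) = φ (a * c ^ q) := by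
    refine gen _ ?_ (fun x y hx hy => ?_) ?_ ?_
    · rw [zero_smul, zero_mul, h0, hB0 (hsm c)]
    · rw [add_smul, B_add_left hF hs hc he hn3 hZ (hsm x) (hsm y) (hsm c), hx, hy, add_mul, hadd]
    · rw [one_mul, hcq, hneg, one_smul]
      simp only [hφ]
      exact (B_inv hF hs he (hsm c) hke).symm
    · rw [B_self hF hs he (hsm c), hreal _ (by rw [mul_pow, pow_q_q hF, mul_comm])]
  refine ⟨φ, hadd, hconj, fun a => gen _ ?_ (fun x y hx hy => ?_) (hb1 a) (hbc a)⟩
  · rw [zero_smul, zero_pow_q hF, mul_zero, h0, ← B_inv hF hs he (by rw [herm_zero_left]) (hsm a),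
      hB0 (hsm a), inv_one]
  · rw [add_smul, B_add_right hF hs hc he hn3 hZ (hsm x) (hsm y) (hsm a), hx, hy, add_pow_q hF,
      mul_add, hadd]

include hF hs hc in
theorem phiData_three (hn : n = 3) (hq : 3 ≤ q) {e : Fin n → F} (he : hermForm n F q e e = 0)
    (he0 : e ≠ 0) : PhiData hF hs he := by
  have hn3 : 3 ≤ n := hn.ge
  have hZ : ZN hF hs hc e := zn_three hF hs hc hn hq he he0
  obtain ⟨f, hff, hfe, hef⟩ := exists_hyp hF he0 he
  obtain ⟨k, hke, hkf, hkk⟩ := exists_perp2 hF hn3 he hff hef hfe (r := (1 : F)) (one_pow q)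
  obtain ⟨φ, hadd, hconj, hφ⟩ : ∃ φ : F → Γ, (∀ a b, φ (a + b) = φ a * φ b) ∧
      (∀ z, φ (z ^ q) = (φ z)⁻¹) ∧ ∀ a b, B hF hs he (a • k) (b • k) = φ (a * b ^ q) := by
    rcases eq_or_lt_of_le hq with h | h
    · exact phi_three_three hF hs hc hn h.symm he hke hkk hZ
    · exact phi_three hF hs hc hn h he hff hef hfe hke hkf hkk hZ
  refine ⟨φ, hadd, hconj, fun w w' hw hw' => ?_⟩
  obtain ⟨α, a, rfl⟩ := decomp3 hF hn he hff hef hfe hke hkf hkk hw
  obtain ⟨α', a', rfl⟩ := decomp3 hF hn he hff hef hfe hke hkf hkk hw'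
  have hae : ∀ c : F, hermForm n F q (c • e) e = 0 := fun c => by rw [herm_smul_left, he, mul_zero]
  have hsm : ∀ b : F, hermForm n F q (b • k) e = 0 := fun b => by
    rw [herm_smul_left, hke, mul_zero]
  rw [B_add_left hF hs hc he hn3 hZ (hae α) (hsm a) hw', B_line hF hs hc he hn3 hw' hZ, one_mul,
    B_add_right hF hs hc he hn3 hZ (hae α') (hsm a') (hsm a),
    ← B_inv hF hs he (hae α') (hsm a), B_line hF hs hc he hn3 (hsm a) hZ, inv_one, one_mul, hφ]
  congr 1
  simp only [herm_add_left, herm_add_right hF, herm_smul_left, herm_smul_right, he, hke, hkk,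
    herm_skew_zero hF hke]
  ring

end Cfsg.Agent.StemSUPhiSmall
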