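import Cfsg.Agent.Lib.StemSUUni
import Cfsg.Agent.Lib.StemSUPlane
import Mathlib

/-!
The splitting of each level of the unipotent subgroup of `SU_n(q)` in a central extension.
-/

set_option autoImplicit false
set_option linter.unusedSectionVars false

namespace Cfsg.Agent.StemSUSteps

open Subgroup
open Cfsg.Agent.OrthUnitaryHerm
open Cfsg.Agent.OrthUnitaryTransvection
open Cfsg.Agent.StemSUFrame
open Cfsg.Agent.StemSURadical
open Cfsg.Agent.StemSUDiag
open Cfsg.Agent.StemSUUni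
open Cfsg.Agent.StemStep
open scoped commutatorElement

variable {F : Type*} [Field F] [Fintype F] {q n : ℕ} (hF : Fintype.card F = q ^ 2)

omit [Fintype F] in
theorem dg_commute {d d' : Fin n → F} (hd : ∀ i, d i ^ (q + 1) = 1) (hp : ∏ i, d i = 1)
    (hd' : ∀ i, d' i ^ (q + 1) = 1) (hp' : ∏ i, d' i = 1) :
    Commute (dg d hd hp) (dg d' hd' hp') :=
  su_ext fun x => funext fun k => by
    rw [act_mul, act_mul, dg_act, dg_act, dg_act, dg_act]; ring

omit [Fintype F] in
theorem dg_W {d : Fin n → F} (hd : ∀ i, d i ^ (q + 1) = 1) (hp : ∏ i, d i = 1) {l : ℕ}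
    {w : Fin n → F} (hw : w ∈ W n F l) : act (dg d hd hp) w ∈ W n F l :=
  fun k hk => by rw [dg_act, hw k hk, mul_zero]

omit [Fintype F] in
theorem dg_single {d : Fin n → F} (hd : ∀ i, d i ^ (q + 1) = 1) (hp : ∏ i, d i = 1) (l : Fin n) :
    act (dg d hd hp) (Pi.single l 1) = d l • Pi.single l 1 := by
  funext k
  rw [dg_act, Pi.smul_apply, smul_eq_mul]
  rcases eq_or_ne k l with rfl | h
  · rfl
  · simp [Pi.single_eq_of_ne h]

omit [Fintype F] in
theorem dg_supp {d : Fin n → F} (hd : ∀ i, d i ^ (q + 1) = 1) (hp : ∏ i, d i = 1)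
    {x : Fin n → F} {δ : F} (h : ∀ k, x k ≠ 0 → d k = δ) : act (dg d hd hp) x = δ • x := by
  funext k
  rw [dg_act, Pi.smul_apply, smul_eq_mul]
  by_cases hx : x k = 0
  · rw [hx, mul_zero, mul_zero]
  · rw [h k hx]

include hF in
theorem dg_commute_eich {d : Fin n → F} (hd : ∀ i, d i ^ (q + 1) = 1) (hp : ∏ i, d i = 1)
    {δ : F} (hδ : δ ^ (q + 1) = 1) {e w : Fin n → F} {μ : F} (he : hermForm n F q e e = 0)
    (hw : hermForm n F q w e = 0) (hμ : μ + μ ^ q + hermForm n F q w w = 0)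
    (hde : ∀ k, e k ≠ 0 → d k = δ) (hdw : ∀ k, w k ≠ 0 → d k = δ) :
    Commute (dg d hd hp) (eich hF e w μ he hw hμ) := by
  refine mul_inv_eq_iff_eq_mul.1 ?_
  rw [eich_conj]
  refine su_ext fun x => ?_
  rw [eich_act, eich_act, dg_supp hd hp hde, dg_supp hd hp hdw, herm_smul_right, herm_smul_right]
  have hδ' : δ ^ q * δ = 1 := by rw [← pow_succ, hδ]
  match_scalars
  · ring
  · linear_combination (hermForm n F q x e) * hδ'
  · linear_combination (μ * hermForm n F q x e - hermForm n F q x w) * hδ'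

variable {Γ : Type*} [Group Γ] {σ : Γ →* SU n F q} (hs : Function.Surjective σ)
  (hc : σ.ker ≤ center Γ)

include hF hs hc in
/-- A level for `q ≥ 3`. -/
theorem step_three (hn : 3 ≤ n) (hq : 3 ≤ q) (i : Fin (n / 2)) (hZ : ZN hF hs hc (ev hF i))
    (hP : PhiData hF hs (ev_iso hF i))
    (hK : StemBasic.KerFree σ (uni n hF ((i : ℕ) + 1))) :
    StemBasic.KerFree σ (rad hF i ⊔ uni n hF ((i : ℕ) + 1)) := by
  obtain ⟨r, hr0, hrq, hr1⟩ : ∃ r : F, r ≠ 0 ∧ r ^ q = r ∧ r - 1 ≠ 0 := by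
    obtain ⟨g, hg⟩ := IsCyclic.exists_ofOrder_eq_natCard (α := Fˣ)
    have ho : orderOf (g ^ (q + 1)) = q - 1 := by
      rw [orderOf_pow, hg, card_units_eq hF, Nat.gcd_mul_right_left,
        Nat.mul_div_cancel_left _ (by omega)]
    set u := g ^ (q + 1)
    refine ⟨(u : F), u.ne_zero, ?_, fun h => ?_⟩
    · rw [← Units.val_pow_eq_pow_val]
      congr 1
      have h : u ^ (q - 1) = 1 := by rw [← ho]; exact pow_orderOf_eq_one u
      calc u ^ q = u ^ (q - 1) * u := by rw [← pow_succ]; congr 1; omega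
        _ = u := by rw [h, one_mul]
    · have h2 : u = 1 := Units.ext (by simpa using sub_eq_zero.1 h)
      rw [h2, orderOf_one] at ho
      omega
  obtain ⟨t, hte, htf, htp⟩ :=
    StemSUPlane.exists_diag2 hF (ev_iso hF i) (fv_iso hF i) (ev_fv hF i) (fv_ev hF i) hr0 hrq
  have htw : ∀ w ∈ W n F (2 * (i : ℕ) + 2), act t w = w := fun w hw =>
    htp w (W_perp hF hw).1 (W_perp hF hw).2
  refine kerFree_level hF hs hc hn i hZ hP t hte (fun w hw => by rwa [htw w hw])
    (fun w hw => ⟨(r - 1)⁻¹ • w, Submodule.smul_mem _ _ hw, ?_⟩) (fun k hk => ?_) hK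
  · rw [htw _ (Submodule.smul_mem _ _ hw), hrq, smul_smul, ← sub_smul, ← sub_one_mul,
      mul_inv_cancel₀ hr1, one_smul]
  · obtain ⟨hke, hkf⟩ := uni_succ_fix hF i hk
    refine su_ext fun x => ?_
    set a := hermForm n F q x (fv hF i) with ha
    set b := hermForm n F q x (ev hF i) with hb
    obtain ⟨x0, hx0⟩ : ∃ x0, x0 = x - a • ev hF i - b • fv hF i := ⟨_, rfl⟩
    have h1 : hermForm n F q x0 (ev hF i) = 0 := by
      simp only [hx0, herm_sub_left, herm_smul_left, ev_iso, fv_ev, ← hb]; ring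
    have h2 : hermForm n F q x0 (fv hF i) = 0 := by
      simp only [hx0, herm_sub_left, herm_smul_left, fv_iso, ev_fv, ← ha]; ring
    have h3 : hermForm n F q (act k x0) (ev hF i) = 0 := by rw [← hke, herm_act, h1]
    have h4 : hermForm n F q (act k x0) (fv hF i) = 0 := by rw [← hkf, herm_act, h2]
    have hx : x = a • ev hF i + b • fv hF i + x0 := by rw [hx0]; abel
    rw [hx]
    simp only [act_mul, act_add, act_smul, hte, htf, hke, hkf, htp x0 h1 h2, htp _ h3 h4]

include hF hs hc in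
/-- A level split by a diagonal element. -/
theorem step_diag (hn : 3 ≤ n) (i : Fin (n / 2)) (hZ : ZN hF hs hc (ev hF i))
    (hP : PhiData hF hs (ev_iso hF i))
    (hK : StemBasic.KerFree σ (uni n hF ((i : ℕ) + 1))) {d : Fin n → F}
    (hd : ∀ k, d k ^ (q + 1) = 1) (hp : ∏ k, d k = 1) {l δ : F} (hlo : d (lo i) = l)
    (hhi : d (hi i) = l) (hdW : ∀ k : Fin n, 2 * (i : ℕ) + 2 ≤ (k : ℕ) → d k = δ)
    (hne : l ^ q * δ - 1 ≠ 0) :
    StemBasic.KerFree σ (rad hF i ⊔ uni n hF ((i : ℕ) + 1)) := by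
  have hte : act (dg d hd hp) (ev hF i) = l • ev hF i := dg_supp hd hp fun k hk => by
    by_contra hne'
    refine hk (ev_apply hF ?_ ?_).1
    · intro h; subst h; exact hne' hlo
    · intro h; subst h; exact hne' hhi
  have htw : ∀ w ∈ W n F (2 * (i : ℕ) + 2), act (dg d hd hp) w = δ • w := fun w hw =>
    dg_supp hd hp fun k hk => hdW k (le_of_not_gt fun h => hk (hw k h))
  refine kerFree_level hF hs hc hn i hZ hP (dg d hd hp) hte (fun w hw => dg_W hd hp hw)
    (fun w hw => ⟨(l ^ q * δ - 1)⁻¹ • w, Submodule.smul_mem _ _ hw, ?_⟩) (fun g hg => ?_) hK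
  · rw [htw _ (Submodule.smul_mem _ _ hw), smul_smul, smul_smul, ← sub_smul, ← sub_one_mul,
      mul_inv_cancel₀ hne, one_smul]
  · have hL := uni_succ_le hF i hg
    refine su_ext fun x => ?_
    obtain ⟨u, v, hx, hu, hv⟩ : ∃ u v : Fin n → F, x = u + v ∧
        (∀ k : Fin n, 2 * (i : ℕ) + 2 ≤ (k : ℕ) → u k = 0) ∧ v ∈ W n F (2 * (i : ℕ) + 2) := by
      refine ⟨fun k => if (k : ℕ) < 2 * (i : ℕ) + 2 then x k else 0,
        fun k => if (k : ℕ) < 2 * (i : ℕ) + 2 then 0 else x k, ?_, fun k hk => ?_, fun k hk => ?_⟩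
      · funext k
        simp only [Pi.add_apply]
        split_ifs <;> simp
      · exact if_neg (by omega)
      · exact if_pos hk
    have hgu := Lv_fix hF hL hu
    have htu : act g (act (dg d hd hp) u) = act (dg d hd hp) u :=
      Lv_fix hF hL fun k hk => by rw [dg_act, hu k hk, mul_zero]
    have hgv := Lv_maps hF hL hv
    rw [hx]
    simp only [act_mul, act_add, hgu, htu, htw v hv, htw _ hgv, act_smul]

include hF hs hc in
/-- Elements whose commutant contains enough diagonal elements preserve a section. -/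
theorem preserves [Finite Γ] {i : Fin (n / 2)} {t : SU n F q} {M D : Subgroup Γ} (hDM : D ≤ M)
    (hMσ : ∀ x ∈ M, σ x ∈ rad hF i) (hNM : ∀ x ∈ rad hF i, ∃ y ∈ M, σ y = x)
    (hMinj : ∀ x ∈ M, σ x = 1 → x = 1)
    (hDs : ∀ d hd, ∃ x ∈ D, σ x = tv hF (ev hF i) d (ev_iso hF i) hd)
    (hDg : ∀ g : Γ, (∃ r : F, act (σ g) (ev hF i) = r • ev hF i) → ∀ x ∈ D, g * x * g⁻¹ ∈ D)
    (hMcomm : ∀ g : Γ, Commute (σ g) t → Stab hF i (σ g) → ∀ x ∈ M, g * x * g⁻¹ ∈ M)
    {x : SU n F q} (hx : x ∈ Lv q n F (2 * (i : ℕ) + 2))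
    (hA : ∀ l : Fin n, 2 * (i : ℕ) + 2 ≤ (l : ℕ) → ∃ (a : SU n F q) (r dl : F),
      Commute a x ∧ Commute a t ∧ act a (ev hF i) = r • ev hF i ∧
      (∀ w ∈ W n F (2 * (i : ℕ) + 2), act a w ∈ W n F (2 * (i : ℕ) + 2)) ∧
      act a (Pi.single l 1) = dl • Pi.single l 1 ∧ r ^ q * dl - 1 ≠ 0) :
    ∀ g : Γ, σ g = x → ∀ y ∈ M, g * y * g⁻¹ ∈ M := by
  intro g hg
  have hStab : ∀ z ∈ Lv q n F (2 * (i : ℕ) + 2), Stab hF i z := fun z hz =>
    ⟨⟨1, by rw [Lv_fix hF hz fun _ hk => (ev_high hF hk).1, one_smul]⟩,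
      fun w hw => Lv_maps hF hz hw⟩
  have hxi : x⁻¹ ∈ Lv q n F (2 * (i : ℕ) + 2) := inv_mem hx
  let M' : Subgroup Γ := M.comap (MulAut.conj g⁻¹).toMonoidHom
  have hM' : ∀ z, z ∈ M' ↔ g⁻¹ * z * g ∈ M := fun z => by simp [M']
  have hle : rad hF i ≤ (M ⊓ M').map σ := by
    refine rad_le_of_gens hF (fun hw μ hμ => ?_) fun l hl c hw => ?_
    · rw [el_zero_eq_tv hF]
      obtain ⟨z, hz, he⟩ := hDs μ (by rw [herm_zero_left, add_zero] at hμ; exact hμ)
      refine ⟨z, Subgroup.mem_inf.2 ⟨hDM hz, (hM' z).2 (hDM ?_)⟩, he⟩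
      have h := hDg g⁻¹ (by rw [map_inv, hg]; exact (hStab _ hxi).1) z hz
      rwa [inv_inv] at h
    · obtain ⟨a, r, dl, hax, hat, hae, haW, hal, hne⟩ := hA l hl
      obtain ⟨γ, hγ⟩ := hs a
      set w' := (r ^ q * dl - 1)⁻¹ • (c • (Pi.single l 1 : Fin n → F)) with hw'def
      have hw' : w' ∈ W n F (2 * (i : ℕ) + 2) := Submodule.smul_mem _ _ hw
      have hww : r ^ q • act a w' - w' = c • Pi.single l 1 := by
        simp only [hw'def, act_smul, hal, smul_smul, ← sub_smul]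
        congr 1
        rw [show r ^ q * ((r ^ q * dl - 1)⁻¹ * c * dl) - (r ^ q * dl - 1)⁻¹ * c =
          (r ^ q * dl - 1) * (r ^ q * dl - 1)⁻¹ * c by ring, mul_inv_cancel₀ hne, one_mul]
      obtain ⟨ν, hν, hbr⟩ := el_bracket hF hae haW hw' (mu_spec hF w') hw hww
      set m := el hF i w' hw' (mu hF w') (mu_spec hF w')
      have hm : m ∈ rad hF i := ⟨_, _, _, _, rfl⟩
      obtain ⟨y, hy, hym⟩ := hNM m hm
      have hm0 : x⁻¹ * m * x ∈ rad hF i := by
        have h := Stab_conj hF (hStab _ hxi) hm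
        rwa [inv_inv] at h
      obtain ⟨y0, hy0, hy0m⟩ := hNM _ hm0
      have hγS : Stab hF i (σ γ) := by rw [hγ]; exact ⟨⟨r, hae⟩, haW⟩
      refine ⟨ν, hν, ⁅γ, y⁆, Subgroup.mem_inf.2 ⟨?_, (hM' _).2 ?_⟩, ?_⟩
      · rw [commutatorElement_def]
        exact M.mul_mem (hMcomm γ (hγ.symm ▸ hat) hγS y hy) (M.inv_mem hy)
      · have hσ' : σ (g⁻¹ * γ * g) = a := by
          rw [map_mul, map_mul, map_inv, hg, hγ, mul_assoc, hax.eq, inv_mul_cancel_left]
        have he : g⁻¹ * ⁅γ, y⁆ * g = ⁅g⁻¹ * γ * g, y0⁆ := by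
          rw [StemPairing.bracket_congr hc (a := γ) (a' := γ) (b := y) (b' := g * y0 * g⁻¹) rfl
            (by rw [hym, map_mul, map_mul, map_inv, hy0m, hg]; group)]
          simp only [commutatorElement_def]; group
        rw [he, commutatorElement_def]
        exact M.mul_mem (hMcomm _ (hσ'.symm ▸ hat) (by rw [hσ', ← hγ]; exact hγS) y0 hy0)
          (M.inv_mem hy0)
      · rw [map_commutatorElement, hγ, hym, hbr]
  intro y hy
  have hz : σ (g * y * g⁻¹) ∈ rad hF i := by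
    rw [map_mul, map_mul, map_inv, hg]
    exact Stab_conj hF (hStab _ hx) (hMσ y hy)
  obtain ⟨w, hw, hwσ⟩ := hle hz
  obtain ⟨hwM, hwM'⟩ := Subgroup.mem_inf.1 hw
  have h1 := hMinj _ (M.mul_mem (M.inv_mem ((hM' w).1 hwM')) hy)
    (by simp only [map_mul, map_inv, hwσ]; group)
  rw [inv_mul_eq_one] at h1
  rw [show g * y * g⁻¹ = w by rw [← h1]; group]
  exact hwM

include hF hs hc in
/-- The lowest level when `q = 2` and `3 ∣ n`. -/
theorem step_zero [Finite Γ] (hn : 9 ≤ n) {ω : F} (hω : ω ^ (q + 1) = 1) (hω3 : ω ^ 3 = 1)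
    (hω1 : ω - 1 ≠ 0) (hω2 : ω ^ 2 - 1 ≠ 0) (hq : q = 2) (i : Fin (n / 2)) (hi0 : (i : ℕ) = 0)
    (hZ : ZN hF hs hc (ev hF i)) (hP : PhiData hF hs (ev_iso hF i))
    (hK : StemBasic.KerFree σ (uni n hF ((i : ℕ) + 1))) :
    StemBasic.KerFree σ (rad hF i ⊔ uni n hF ((i : ℕ) + 1)) := by
  classical
  have hpw : ∀ k : ℕ, (ω ^ k) ^ (q + 1) = 1 := fun k => by
    rw [← pow_mul, mul_comm, pow_mul, hω, one_pow]
  set d : Fin n → F := fun k => if (k : ℕ) < 2 then ω else if (k : ℕ) < 4 then ω ^ 2 else 1 with hd0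
  have hd : ∀ k, d k ^ (q + 1) = 1 := fun k => by
    simp only [hd0]; split_ifs
    · exact hω
    · exact hpw 2
    · exact one_pow _
  have hp : ∏ k, d k = 1 := by
    obtain ⟨m, rfl⟩ : ∃ m, n = m + 4 := ⟨n - 4, by omega⟩
    simp only [hd0, Fin.prod_univ_succ, Fin.val_zero, Fin.val_succ]
    norm_num
    rw [Finset.prod_eq_one fun x _ => if_neg (by omega)]
    linear_combination (ω ^ 3 + 1) * hω3
  have hev : ∀ (δ : F) (d' : Fin n → F), (∀ k : Fin n, (k : ℕ) < 2 → d' k = δ) → ∀ k,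
      ev hF i k ≠ 0 → d' k = δ := by
    intro δ d' h k hk
    by_contra hne
    exact hne (h k (not_le.1 fun h2 => hk (ev_high hF (by omega)).1))
  have hte : act (dg d hd hp) (ev hF i) = ω • ev hF i :=
    dg_supp hd hp (hev ω d fun k hk => if_pos hk)
  have hfull : ∀ w ∈ W n F (2 * (i : ℕ) + 2), ∃ w' ∈ W n F (2 * (i : ℕ) + 2),
      ω ^ q • act (dg d hd hp) w' - w' = w := by
    intro w hw
    refine ⟨fun k => w k / (ω ^ q * d k - 1), fun k hk => by simp [hw k hk], funext fun k => ?_⟩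
    rw [Pi.sub_apply, Pi.smul_apply, smul_eq_mul, dg_act]
    by_cases hk : (k : ℕ) < 2
    · rw [hw k (by omega)]; ring
    · have hne : ω ^ q * d k - 1 ≠ 0 := by
        simp only [hd0, if_neg hk, hq]
        split_ifs
        · rw [show ω ^ 2 * ω ^ 2 = ω by linear_combination ω * hω3]; exact hω1
        · rw [mul_one]; exact hω2
      calc _ = (w k / (ω ^ q * d k - 1)) * (ω ^ q * d k - 1) := by ring
        _ = w k := div_mul_cancel₀ _ hne
  obtain ⟨M, D, hDM, hMσ, hNM, hMinj, hDs, hDg, hMcomm⟩ :=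
    exists_level hF hs hc (by omega) i hZ hP (dg d hd hp) hte (fun w hw => dg_W hd hp hw) hfull
  let Good : Subgroup (SU n F q) :=
    { carrier := {x | ∀ g : Γ, σ g = x → ∀ y ∈ M, g * y * g⁻¹ ∈ M}
      one_mem' := fun g hg y hy => by
        rw [← StemBasic.ker_comm hc hg y, mul_inv_cancel_right]; exact hy
      mul_mem' := fun {a b} ha hb g hg y hy => by
        obtain ⟨γ, hγ⟩ := hs a
        have h := ha γ hγ _ (hb (γ⁻¹ * g) (by rw [map_mul, map_inv, hγ, hg, inv_mul_cancel_left]) y hy)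
        rwa [show γ * (γ⁻¹ * g * y * (γ⁻¹ * g)⁻¹) * γ⁻¹ = g * y * g⁻¹ by group] at h
      inv_mem' := fun {a} ha g hg y hy => by
        have hmaps : ∀ z : M, g⁻¹ * z * g⁻¹⁻¹ ∈ M := fun z =>
          ha g⁻¹ (by rw [map_inv, hg, inv_inv]) z z.2
        let f : M → M := fun z => ⟨g⁻¹ * z * g⁻¹⁻¹, hmaps z⟩
        have hf : Function.Injective f := fun z z' h =>
          Subtype.ext (mul_left_cancel (mul_right_cancel (congrArg Subtype.val h :)))
        obtain ⟨z, hz⟩ := Finite.injective_iff_surjective.1 hf ⟨y, hy⟩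
        have h : g⁻¹ * (z : Γ) * g⁻¹⁻¹ = y := congrArg Subtype.val hz
        rw [show g * y * g⁻¹ = (z : Γ) by rw [← h]; group]
        exact z.2 }
  have hgen : ∀ (S : Finset (Fin n)), S.card = 3 → (∀ k ∈ S, 2 ≤ (k : ℕ)) →
      ∀ (j : Fin (n / 2)) (w : Fin n → F) (hw : w ∈ W n F (2 * (j : ℕ) + 2)) (μ : F) hμ,
      1 ≤ (j : ℕ) → (∀ k, ev hF j k ≠ 0 → k ∈ S) → (∀ k, w k ≠ 0 → k ∈ S) →
      el hF j w hw μ hμ ∈ Good := by
    intro S hS hS2 j w hw μ hμ hj hSe hSw
    have hxL : el hF j w hw μ hμ ∈ Lv q n F (2 * (i : ℕ) + 2) :=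
      Lv_mono (by omega) (rad_le_Lv hF j ⟨_, _, _, _, rfl⟩)
    refine preserves hF hs hc hDM hMσ hNM hMinj hDs hDg hMcomm hxL fun l hl => ?_
    obtain ⟨a, δ, ha, hap, ha01, haS, hδ, hal⟩ : ∃ (a : Fin n → F) (δ : F),
        (∀ k, a k ^ (q + 1) = 1) ∧ ∏ k, a k = 1 ∧ (∀ k : Fin n, (k : ℕ) < 2 → a k = 1) ∧
        (∀ k ∈ S, a k = δ) ∧ δ ^ (q + 1) = 1 ∧ a l - 1 ≠ 0 := by
      by_cases hlS : l ∈ S
      · refine ⟨fun k => if k ∈ S then ω else 1, ω, fun k => ?_, ?_, fun k hk => ?_,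
          fun k hk => if_pos hk, hω, by simpa [hlS] using hω1⟩
        · show (if k ∈ S then ω else 1) ^ (q + 1) = 1
          split_ifs
          · exact hω
          · exact one_pow _
        · rw [Finset.prod_ite_mem, Finset.univ_inter, Finset.prod_const, hS, hω3]
        · exact if_neg fun h => by have := hS2 k h; omega
      · set u0 : Fin n := ⟨0, by omega⟩ with hu0
        set u1 : Fin n := ⟨1, by omega⟩ with hu1
        obtain ⟨l', hl'⟩ : ∃ l' : Fin n, l' ∉ S ∪ {u0, u1, l} := by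
          by_contra hcon
          push Not at hcon
          have h1 := Finset.card_le_card (s := Finset.univ) (t := S ∪ {u0, u1, l})
            fun k _ => hcon k
          rw [Finset.card_univ, Fintype.card_fin] at h1
          have h2 := Finset.card_union_le S {u0, u1, l}
          have h3 := Finset.card_le_three (a := u0) (b := u1) (c := l)
          omega
        simp only [Finset.mem_union, Finset.mem_insert, Finset.mem_singleton, not_or] at hl'
        obtain ⟨hl'S, hl'0, hl'1, hl'l⟩ := hl'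
        refine ⟨Pi.mulSingle l ω * Pi.mulSingle l' (ω ^ 2), 1, fun k => ?_, ?_, fun k hk => ?_,
          fun k hk => ?_, one_pow _, ?_⟩
        · rw [Pi.mul_apply, mul_pow, Pi.mulSingle_apply, Pi.mulSingle_apply]
          split_ifs <;> simp [hω, hpw 2]
        · simp only [Pi.mul_apply, Finset.prod_mul_distrib, Finset.prod_pi_mulSingle',
            Finset.mem_univ, if_true]
          linear_combination hω3
        · rw [Pi.mul_apply, Pi.mulSingle_eq_of_ne (by intro h; subst h; omega),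
            Pi.mulSingle_eq_of_ne, one_mul]
          intro h; subst h
          rcases (show (k : ℕ) = 0 ∨ (k : ℕ) = 1 by omega) with h0 | h0
          · exact hl'0 (Fin.ext h0)
          · exact hl'1 (Fin.ext h0)
        · rw [Pi.mul_apply, Pi.mulSingle_eq_of_ne (by intro h; subst h; exact hlS hk),
            Pi.mulSingle_eq_of_ne (by intro h; subst h; exact hl'S hk), one_mul]
        · rw [Pi.mul_apply, Pi.mulSingle_eq_same, Pi.mulSingle_eq_of_ne (Ne.symm hl'l), mul_one]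
          exact hω1
    refine ⟨dg a ha hap, 1, a l, ?_, dg_commute ha hap hd hp, ?_, fun w' hw' => dg_W ha hap hw',
      dg_single ha hap l, by rw [one_pow, one_mul]; exact hal⟩
    · exact dg_commute_eich hF ha hap hδ _ _ _ (fun k hk => haS k (hSe k hk))
        (fun k hk => haS k (hSw k hk))
    · exact dg_supp ha hap (hev 1 a ha01)
  have huni : uni n hF ((i : ℕ) + 1) ≤ Good := by
    refine iSup₂_le fun j hj => rad_le_of_gens hF (fun hw μ hμ => ?_) fun l hl c hw => ?_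
    all_goals
      have hsupp : ∀ k, ev hF j k ≠ 0 → k = lo j ∨ k = StemSUUni.hi j := fun k hk => by
        by_contra hcon
        rw [not_or] at hcon
        exact hk (ev_apply hF hcon.1 hcon.2).1
      have hlo2 : 2 ≤ ((lo j : Fin n) : ℕ) := by simp [lo]; omega
      have hhi2 : 2 ≤ ((StemSUUni.hi j : Fin n) : ℕ) := by simp [StemSUUni.hi]; omega
    · obtain ⟨k0, hk0, hk0a, hk0b⟩ : ∃ k0 : Fin n, 2 ≤ (k0 : ℕ) ∧ k0 ≠ lo j ∧
          k0 ≠ StemSUUni.hi j := by
        by_cases hj1 : (j : ℕ) = 1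
        · exact ⟨⟨4, by omega⟩, by simp, by simp [lo, Fin.ext_iff] <;> omega,
            by simp [StemSUUni.hi, Fin.ext_iff] <;> omega⟩
        · exact ⟨⟨2, by omega⟩, le_rfl, by simp [lo, Fin.ext_iff] <;> omega,
            by simp [StemSUUni.hi, Fin.ext_iff] <;> omega⟩
      refine hgen {lo j, StemSUUni.hi j, k0} ?_ ?_ j 0 hw μ hμ (by omega) ?_ (by simp)
      · rw [Finset.card_eq_three]
        exact ⟨_, _, _, lo_ne_hi j, Ne.symm hk0a, Ne.symm hk0b, rfl⟩
      · intro k hk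
        simp only [Finset.mem_insert, Finset.mem_singleton] at hk
        rcases hk with rfl | rfl | rfl <;> assumption
      · intro k hk
        rcases hsupp k hk with rfl | rfl <;> simp
    · refine ⟨mu hF _, mu_spec hF _, hgen {lo j, StemSUUni.hi j, l} ?_ ?_ j _ hw _ _ (by omega) ?_ ?_⟩
      · rw [Finset.card_eq_three]
        refine ⟨_, _, _, lo_ne_hi j, ?_, ?_, rfl⟩
        · intro h; rw [← h] at hl; simp [lo] at hl
        · intro h; rw [← h] at hl; simp [StemSUUni.hi] at hl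
      · intro k hk
        simp only [Finset.mem_insert, Finset.mem_singleton] at hk
        rcases hk with rfl | rfl | rfl
        · exact hlo2
        · exact hhi2
        · omega
      · intro k hk
        rcases hsupp k hk with rfl | rfl <;> simp
      · intro k hk
        have : k = l := by
          by_contra h
          exact hk (by simp [Pi.single_eq_of_ne h])
        simp [this]
  exact kerFree_of_section hc M hMσ hNM hMinj (fun g hg => huni hg g rfl)
    (fun k hk m hm => Stab_conj hF (Stab_uni hF i hk) hm) (rad_inf_uni hF i) hK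

include hF hs hc in
/-- Every level. -/
theorem step [Finite Γ] (hn : 3 ≤ n) (hq2 : q = 2 → 4 ≤ n ∧ n ≠ 6) (i : Fin (n / 2))
    (hZ : ZN hF hs hc (ev hF i)) (hP : PhiData hF hs (ev_iso hF i))
    (hK : StemBasic.KerFree σ (uni n hF ((i : ℕ) + 1))) :
    StemBasic.KerFree σ (rad hF i ⊔ uni n hF ((i : ℕ) + 1)) := by
  by_cases hq : 3 ≤ q
  · exact step_three hF hs hc hn hq i hZ hP hK
  obtain rfl : q = 2 := by have := two_le_q hF; omega
  obtain ⟨hn4, hn6⟩ := hq2 rfl
  obtain ⟨ω, hω, hωo, -⟩ := exists_normOne_gen hF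
  have hω3 : ω ^ 3 = 1 := hω
  have hω1 : ω - 1 ≠ 0 := fun h => by
    rw [sub_eq_zero.1 h, orderOf_one] at hωo; omega
  have hω2 : ω ^ 2 - 1 ≠ 0 := fun h => by
    have := orderOf_dvd_of_pow_eq_one (sub_eq_zero.1 h)
    rw [hωo] at this
    exact absurd (Nat.le_of_dvd (by norm_num) this) (by norm_num)
  have hpw : ∀ k : ℕ, (ω ^ k) ^ (2 + 1) = 1 := fun k => by
    rw [← pow_mul, mul_comm, pow_mul, hω, one_pow]
  rcases Nat.eq_zero_or_pos (i : ℕ) with h0 | h1
  · -- the lowest level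
    have h01 : ((lo i : Fin n) : ℕ) < 2 ∧ ((StemSUUni.hi i : Fin n) : ℕ) < 2 := by
      simp [lo, StemSUUni.hi, h0]
    have hgen : ∀ a b : ℕ, (∀ m, n = m + 2 → ω ^ (2 * a + b * m) = 1) →
        (ω ^ a) ^ 2 * ω ^ b - 1 ≠ 0 → StemBasic.KerFree σ (rad hF i ⊔ uni n hF ((i : ℕ) + 1)) := by
      intro a b hab hne
      refine step_diag hF hs hc hn i hZ hP hK (d := fun k => if (k : ℕ) < 2 then ω ^ a else ω ^ b)
        (fun k => by show (if (k : ℕ) < 2 then ω ^ a else ω ^ b) ^ (2 + 1) = 1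
                     split_ifs <;> exact hpw _)
        ?_ (l := ω ^ a) (δ := ω ^ b) (if_pos h01.1) (if_pos h01.2)
        (fun k hk => if_neg (by omega)) hne
      obtain ⟨m, rfl⟩ : ∃ m, n = m + 2 := ⟨n - 2, by omega⟩
      simp only [Fin.prod_univ_succ, Fin.val_zero, Fin.val_succ]
      norm_num
      linear_combination hab m rfl
    have h3 : ∀ e, e % 3 = 0 → ω ^ e = 1 := fun e he => by
      obtain ⟨c, rfl⟩ := Nat.dvd_of_mod_eq_zero he
      rw [pow_mul, hω3, one_pow]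
    rcases (show n % 3 = 0 ∨ n % 3 = 1 ∨ n % 3 = 2 by omega) with h | h | h
    · exact step_zero hF hs hc (by omega) hω hω3 hω1 hω2 rfl i h0 hZ hP hK
    · refine hgen 1 2 (fun m hm => h3 _ (by omega)) ?_
      rw [show (ω ^ 1) ^ 2 * ω ^ 2 = ω by linear_combination ω * hω3]
      exact hω1
    · refine hgen 0 1 (fun m hm => h3 _ (by omega)) ?_
      simpa using hω1
  · set z0 : Fin n := ⟨0, by omega⟩
    set z1 : Fin n := ⟨1, by omega⟩
    have hlo : 2 ≤ ((lo i : Fin n) : ℕ) := by simp [lo]; omega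
    have hhi : 2 ≤ ((StemSUUni.hi i : Fin n) : ℕ) := by simp [StemSUUni.hi]; omega
    have hz : ∀ k : Fin n, 2 ≤ (k : ℕ) → k ≠ z0 ∧ k ≠ z1 := fun k hk => by
      constructor <;> intro h <;> subst h <;> simp [z0, z1] at hk
    refine step_diag hF hs hc hn i hZ hP hK
      (d := Pi.mulSingle z0 (ω ^ 2) * Pi.mulSingle z1 (ω ^ 2) * Pi.mulSingle (lo i) ω *
        Pi.mulSingle (StemSUUni.hi i) ω) (fun k => ?_) ?_ (l := ω) (δ := 1) ?_ ?_ (fun k hk => ?_)
      (by simpa using hω2)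
    · simp only [Pi.mul_apply, mul_pow, Pi.mulSingle_apply]
      split_ifs <;> simp [hω3, hpw 2]
    · simp only [Pi.mul_apply, Finset.prod_mul_distrib, Finset.prod_pi_mulSingle',
        Finset.mem_univ, if_true]
      linear_combination (ω ^ 3 + 1) * hω3
    · simp [hz _ hlo, lo_ne_hi i]
    · simp [hz _ hhi, (lo_ne_hi i).symm]
    · have h2 : 2 ≤ (k : ℕ) := by omega
      have hkl : k ≠ lo i := by intro h; subst h; simp [lo] at hk
      have hkh : k ≠ StemSUUni.hi i := by intro h; subst h; simp [StemSUUni.hi] at hk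
      simp [hz _ h2, hkl, hkh]

end Cfsg.Agent.StemSUSteps
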