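import Cfsg.Agent.Lib.StemSUPrime
import Cfsg.Agent.Lib.StemSUPhiFive
import Cfsg.Agent.Lib.StemSUPhiSmall
import Cfsg.Agent.Lib.StemSUSteps
import Cfsg.Agent.Lib.OrthUnitaryPSU
import Mathlib

/-!
Every stem extension of `SU_n(q)` is trivial outside the exceptional pairs, and the multiplier of
`PSU_n(q)`.
-/

set_option autoImplicit false

namespace Cfsg.Agent.StemSU

open Subgroup
open Cfsg.Agent.OrthUnitaryHerm
open Cfsg.Agent.OrthUnitaryTransvection
open Cfsg.Agent.StemLift (IsPElem)
open scoped commutatorElement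

universe u v

variable {F : Type v} [Field F] [Fintype F] {q n : ℕ} (hF : Fintype.card F = q ^ 2)

include hF in
theorem ker_eq_bot (hn : 3 ≤ n) (h3 : n = 3 → 3 ≤ q) (h4 : n = 4 → 4 ≤ q)
    (h6 : ¬ (n = 6 ∧ q = 2)) {Γ : Type u} [Group Γ] [Finite Γ] {σ : Γ →* SU n F q}
    (hσ : Cfsg.IsStemExtension σ) : σ.ker = ⊥ := by
  obtain ⟨p, hp⟩ := CharP.exists F
  have : Fact p.Prime := ⟨CharP.char_is_prime F p⟩
  have hprime : p.Prime := Fact.out
  obtain ⟨hs, hc, hd⟩ := hσ
  have h32 : ¬ (n = 3 ∧ q = 2) := fun h => by have := h3 h.1; omega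
  have hq2 : q = 2 → 4 ≤ n ∧ n ≠ 6 := fun h => by
    refine ⟨?_, fun hn6 => h6 ⟨hn6, h⟩⟩
    by_contra hlt
    have := h3 (by omega)
    omega
  have hZN : ∀ e : Fin n → F, hermForm n F q e e = 0 → e ≠ 0 →
      StemSURadical.ZN hF hs hc e := by
    intro e he he0
    rcases eq_or_lt_of_le hn with h | h
    · exact StemSUPhiSmall.zn_three hF hs hc h.symm (h3 h.symm) he he0
    · exact StemSURadical.zn_of_four hF hs hc h e
  have hPhi : ∀ (e : Fin n → F) (he : hermForm n F q e e = 0), e ≠ 0 →
      StemSURadical.PhiData hF hs he := by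
    intro e he he0
    rcases (show n = 3 ∨ n = 4 ∨ 5 ≤ n by omega) with h | h | h
    · exact StemSUPhiSmall.phiData_three hF hs hc h (h3 h) he he0
    · exact StemSUPhiSmall.phi_four hF hs hc h (h4 h) he he0
    · exact StemSUPhiFive.phi_five hF hs hc h he he0
  have hkf : ∀ d k : ℕ, k + d = n / 2 → StemBasic.KerFree σ (StemSUUni.uni n hF k) := by
    intro d
    induction d with
    | zero =>
      intro k hk
      rw [StemSUUni.uni_top hF (by omega)]
      exact StemStep.kerFree_bot hs hc
    | succ d ih =>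
      intro k hk
      have h := StemSUSteps.step hF hs hc hn hq2 ⟨k, by omega⟩
        (hZN _ (StemSUUni.ev_iso hF _) (StemSUUni.ev_ne hF _))
        (hPhi _ _ (StemSUUni.ev_ne hF _)) (ih (k + 1) (by omega))
      rwa [← StemSUUni.uni_eq hF] at h
  have hcop : Nat.Coprime (Nat.card σ.ker) p := by
    rw [Nat.coprime_comm, hprime.coprime_iff_not_dvd]
    intro hdvd
    obtain ⟨z, hz⟩ := exists_prime_orderOf_dvd_card' p hdvd
    have hz1 : (z : Γ) = 1 := StemBasic.eq_one_of_kerFree ⟨hs, hc, hd⟩
      (hkf (n / 2) 0 (zero_add _)) z.2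
      (by rw [Subgroup.orderOf_coe, hz, hprime.coprime_iff_not_dvd]
          exact StemSUUni.not_dvd_index hF (by omega) p)
    rw [← Subgroup.orderOf_coe, hz1, orderOf_one] at hz
    exact hprime.ne_one hz.symm
  -- generation by `p`-elements
  have hperf : commutator Γ = ⊤ := StemBasic.commutator_eq_top_of_stem ⟨hs, hc, hd⟩
    (OrthUnitaryPSU.commutator_eq_top hF hn h32)
  set C := closure {g : Γ | IsPElem p g}
  have hmap : C.map σ = ⊤ := by
    rw [eq_top_iff]
    intro g _
    have hle : closure {x : ↥(SU n F q) | IsPElem p x} ≤ C.map σ := by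
      rw [closure_le]
      intro x hx
      obtain ⟨γ, hγ, hγp⟩ := StemLift.exists_lift hs hcop hx
      exact ⟨γ, subset_closure hγp, hγ⟩
    exact hle (StemSUGen.pgen hF p (by omega) g)
  have hC : C = ⊤ := by
    rw [eq_top_iff, ← hperf, _root_.commutator_def, Subgroup.commutator_le]
    intro a _ b _
    obtain ⟨a', ha', haa⟩ : σ a ∈ C.map σ := hmap ▸ mem_top _
    obtain ⟨b', hb', hbb⟩ : σ b ∈ C.map σ := hmap ▸ mem_top _
    rw [StemPairing.bracket_congr hc haa.symm hbb.symm, commutatorElement_def]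
    exact mul_mem (mul_mem (mul_mem ha' hb') (inv_mem ha')) (inv_mem hb')
  exact StemSUPrime.ptriv hF p n (by omega) Γ σ hs hc hcop hC

theorem hasCyclicSchurMultiplier_PSU {F : Type v} [Field F] [Fintype F] {q n : ℕ}
    (hF : Fintype.card F = q ^ 2) (hn : 3 ≤ n) (h3 : n = 3 → 3 ≤ q) (h4 : n = 4 → 4 ≤ q)
    (h6 : ¬ (n = 6 ∧ q = 2)) :
    Cfsg.HasCyclicSchurMultiplier (Cfsg.PSU n F q) (Nat.gcd n (q + 1)) := by
  have h32 : ¬ (n = 3 ∧ q = 2) := fun h => by have := h3 h.1; omega
  set σ := QuotientGroup.mk' (Subgroup.center (SU n F q))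
  have hker : σ.ker = Subgroup.center (SU n F q) := QuotientGroup.ker_mk' _
  have hcard : Nat.card (Subgroup.center (SU n F q)) =
      Nat.card (Multiplicative (ZMod (Nat.gcd n (q + 1)))) := by
    rw [card_center_SU hF (by omega), Nat.card_congr Multiplicative.toAdd, Nat.card_zmod]
  have hcyc : IsCyclic (Subgroup.center (SU n F q)) := by
    let z : Fin n := ⟨0, by omega⟩
    let f : Subgroup.center (SU n F q) →* F :=
      { toFun := fun g => ((g.1 : Matrix.SpecialLinearGroup (Fin n) F) : Matrix (Fin n) (Fin n) F) z z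
        map_one' := by simp
        map_mul' := fun a b => by
          show (((a.1 * b.1 : SU n F q) : Matrix.SpecialLinearGroup (Fin n) F) :
            Matrix (Fin n) (Fin n) F) z z = _
          rw [Subgroup.coe_mul, Matrix.SpecialLinearGroup.coe_mul, Matrix.mul_apply,
            Finset.sum_eq_single z]
          · intro j _ hj
            rw [center_SU_scalar hF (by omega) a.2 z j, if_neg (Ne.symm hj), zero_mul]
          · intro h; exact absurd (Finset.mem_univ z) h }
    refine isCyclic_of_injective_ringHom f fun a b h => ?_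
    apply Subtype.ext; apply Subtype.ext; apply Subtype.ext
    ext i j
    rw [center_SU_scalar hF (by omega) a.2 i j, center_SU_scalar hF (by omega) b.2 i j]
    exact congrArg (fun x => if i = j then x else 0) h
  exact StemBasic.hasSchurMultiplier_of_cover σ (QuotientGroup.mk'_surjective _) hker.le
    (OrthUnitaryPSU.commutator_eq_top hF hn h32)
    (fun Δ _ _ τ hτ => ker_eq_bot hF hn h3 h4 h6 hτ)
    ((MulEquiv.subgroupCongr hker).trans (mulEquivOfCyclicCardEq hcard))

end Cfsg.Agent.StemSU
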