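import Cfsg.Agent.Lib.StemSULifts
import Cfsg.Agent.Lib.StemStep
import Mathlib

/-!
Subgroups without multiplier: extensions of a lifted subgroup by a cyclic or dihedral quotient, and
abelian groups extended by a cyclic group; the orders of the small special unitary groups.
-/

set_option autoImplicit false
set_option linter.unusedSectionVars false

namespace Cfsg.Agent.StemSUBaseTools

open Subgroup
open scoped commutatorElement
open Cfsg.Agent.OrthUnitaryHerm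
open Cfsg.Agent.StemLift (IsPElem)
open Cfsg.Agent.StemStep (br killer)

variable {Γ G : Type*} [Group Γ] [Group G] {σ : Γ →* G} (hs : Function.Surjective σ)
  (hc : σ.ker ≤ center Γ)

include hc in
/-- A `p`-element commuting with `x` has lifts commuting with those of `x`. -/
theorem pelem_mem_killer [Finite Γ] {p : ℕ} (hZ : Nat.Coprime (Nat.card σ.ker) p) {x u : G}
    (hu : IsPElem p u) (h : Commute x u) : u ∈ killer hs hc x := by
  refine ⟨h, ?_⟩
  obtain ⟨g, rfl⟩ := hs x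
  obtain ⟨h1, h2⟩ := StemLift.lift_spec hs hZ hu
  rw [← StemStep.br_eq hs hc (a := g) rfl h1, commutatorElement_eq_one_iff_mul_comm]
  have h3 := StemLift.lift_conj hs hc hZ hu g
  rw [h.eq, mul_inv_cancel_right] at h3
  exact mul_inv_eq_iff_eq_mul.1 h3

include hc in
theorem br_eq_one_of_closure [Finite Γ] {p : ℕ} (hZ : Nat.Coprime (Nat.card σ.ker) p) {x u : G}
    {S : Set G} (hS : ∀ s ∈ S, IsPElem p s ∧ Commute x s) (hu : u ∈ closure S) :
    br hs x u = 1 :=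
  ((closure_le (killer hs hc x)).2 (fun s hs' => pelem_mem_killer hs hc hZ (hS s hs').1 (hS s hs').2) hu).2

include hs hc in
/-- Cyclic extensions of a lifted subgroup. -/
theorem kerFree_quot {H : Subgroup G} (M : Subgroup Γ) (hinj : ∀ z ∈ M, σ z = 1 → z = 1)
    (hnorm : ∀ g, σ g ∈ H → ∀ x ∈ M, g * x * g⁻¹ ∈ M) (g0 : G) (hg0 : g0 ∈ H)
    (hgen : ∀ h ∈ H, ∃ i : ℤ, h * (g0 ^ i)⁻¹ ∈ M.map σ) : StemBasic.KerFree σ H := by
  obtain ⟨γ, hγ⟩ := hs g0
  have hdec : ∀ a, σ a ∈ H → ∃ l ∈ M, ∃ (i : ℤ) (z : Γ), σ z = 1 ∧ a = l * (γ ^ i * z) := by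
    intro a ha
    obtain ⟨i, l, hl, hle⟩ := hgen _ ha
    refine ⟨l, hl, i, (γ ^ i)⁻¹ * (l⁻¹ * a), ?_, by group⟩
    rw [map_mul, map_mul, map_inv, map_inv, map_zpow, hγ, hle]
    group
  intro w hw hw1
  refine hinj w ?_ hw1
  refine (show (commutator (H.comap σ)).map (H.comap σ).subtype ≤ M from ?_) hw
  rw [Subgroup.map_le_iff_le_comap, _root_.commutator_def, Subgroup.commutator_le]
  intro a _ b _
  show ⁅(a : Γ), (b : Γ)⁆ ∈ M
  obtain ⟨l, hl, i, z, hz, hae⟩ := hdec a a.2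
  obtain ⟨l', hl', j, y, hy, hbe⟩ := hdec b b.2
  set c := γ ^ i * z
  set d := γ ^ j * y
  have hcd : Commute c d := by
    have zc : ∀ g, Commute g z := StemBasic.ker_comm hc hz
    have yc : ∀ g, Commute g y := StemBasic.ker_comm hc hy
    exact ((Commute.zpow_zpow (Commute.refl γ) i j).mul_right (yc _)).mul_left
      ((zc (γ ^ j)).symm.mul_right (zc y).symm)
  have hH : ∀ x ∈ M, σ (a : Γ) ∈ H → a.1 = l * c → c * x * c⁻¹ ∈ M := by
    intro x hx ha hal
    have hcH : c = l⁻¹ * a.1 := by rw [hal, inv_mul_cancel_left]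
    have h1 := hnorm _ ha x hx
    rw [hcH, show l⁻¹ * a.1 * x * (l⁻¹ * a.1)⁻¹ = l⁻¹ * (a.1 * x * a.1⁻¹) * l by group]
    exact mul_mem (mul_mem (inv_mem hl) h1) hl
  have hd : d * l⁻¹ * d⁻¹ ∈ M := by
    have hdH : d = l'⁻¹ * b.1 := by rw [hbe, inv_mul_cancel_left]
    have h1 := hnorm _ b.2 _ (inv_mem hl)
    rw [hdH, show l'⁻¹ * b.1 * l⁻¹ * (l'⁻¹ * b.1)⁻¹ = l'⁻¹ * (b.1 * l⁻¹ * b.1⁻¹) * l' by group]
    exact mul_mem (mul_mem (inv_mem hl') h1) hl'
  rw [hae, hbe]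
  have e : ⁅l * c, l' * d⁆ = l * (c * l' * c⁻¹) * (c * d * c⁻¹ * d⁻¹) * (d * l⁻¹ * d⁻¹) * l'⁻¹ := by
    simp only [commutatorElement_def]; group
  rw [e, hcd.eq, mul_inv_cancel_right, mul_inv_cancel, mul_one]
  exact mul_mem (mul_mem (mul_mem hl (hH l' hl' a.2 hae)) hd) (inv_mem hl')

include hc in
/-- Dihedral extensions of a lifted subgroup. -/
theorem kerFree_invert (M : Subgroup Γ) (hinj : ∀ z ∈ M, σ z = 1 → z = 1) (a b : G)
    {H : Subgroup G} (hH : H = M.map σ ⊔ closure {a, b})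
    (hnorm : ∀ g, σ g ∈ H → ∀ x ∈ M, g * x * g⁻¹ ∈ M)
    (m : ℕ) (hab : b * a * b⁻¹ = a⁻¹) (hbr : br hs b (a ^ m) = 1)
    (hdiv : ∀ i : ℤ, a ^ (2 * i) ∈ M.map σ → (m : ℤ) ∣ i) :
    StemBasic.KerFree σ H := by
  obtain ⟨α, hα⟩ := hs a
  obtain ⟨β, hβ⟩ := hs b
  set P := H.comap σ with hP
  have hMH : M.map σ ≤ H := hH ▸ le_sup_left
  have hcl : closure ({a, b} : Set G) ≤ H := hH ▸ le_sup_right
  have hMP : M ≤ P := fun x hx => hMH ⟨x, hx, rfl⟩
  have hαP : α ∈ P := by show σ α ∈ H; rw [hα]; exact hcl (subset_closure (by simp))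
  have hβP : β ∈ P := by show σ β ∈ H; rw [hβ]; exact hcl (subset_closure (by simp))
  have hn : (M.subgroupOf P).Normal := ⟨fun x hx g => hnorm g.1 g.2 x.1 hx⟩
  let π := QuotientGroup.mk' (M.subgroupOf P)
  have hker_center : ∀ z : P, σ (z : Γ) = 1 → π z ∈ center (P ⧸ M.subgroupOf P) := by
    intro z hz
    refine mem_center_iff.2 fun y => ?_
    obtain ⟨y, rfl⟩ := QuotientGroup.mk'_surjective _ y
    rw [← map_mul, ← map_mul]
    congr 1
    exact Subtype.ext (StemBasic.ker_comm hc hz (y : Γ))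
  set aq := π ⟨α, hαP⟩
  set bq := π ⟨β, hβP⟩
  -- the kernel element measuring the inversion
  obtain ⟨z, hz, hzeq⟩ := StemBasic.exists_ker_mul (σ := σ) (a := β * α * β⁻¹) (b := α⁻¹)
    (by rw [map_mul, map_mul, map_inv, map_inv, hα, hβ, hab])
  have zc : ∀ g, Commute g z := StemBasic.ker_comm hc hz
  obtain ⟨c, hcdef⟩ : ∃ c, c = α⁻¹ * α⁻¹ * z := ⟨_, rfl⟩
  have hcm : c ^ m = 1 := by
    have h1 : β * α ^ m * β⁻¹ = α ^ m := by
      have := StemStep.br_eq hs hc hβ (show σ (α ^ m) = a ^ m by rw [map_pow, hα])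
      rw [hbr, commutatorElement_eq_one_iff_mul_comm] at this
      rw [this, mul_inv_cancel_right]
    have h2 : β * α ^ m * β⁻¹ = (α ^ m)⁻¹ * z ^ m := by
      rw [← conj_pow, hzeq, (zc α⁻¹).mul_pow, inv_pow]
    have h3 : z ^ m = α ^ m * α ^ m := by
      rw [h1] at h2
      nth_rewrite 2 [h2]
      rw [mul_inv_cancel_left]
    rw [hcdef, (zc (α⁻¹ * α⁻¹)).mul_pow, (Commute.refl α⁻¹).mul_pow, inv_pow, h3]
    group
  have hc1 : β * α * β⁻¹ * α⁻¹ = c := by
    rw [hzeq, hcdef, mul_assoc α⁻¹ z, ← (zc α⁻¹).eq, mul_assoc]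
  have hαc : α * c * α⁻¹ = c := by
    have : Commute α c := by
      rw [hcdef]
      exact ((Commute.refl α).inv_right.mul_right (Commute.refl α).inv_right).mul_right (zc α)
    rw [this.eq, mul_inv_cancel_right]
  have hβc : β * c * β⁻¹ = c⁻¹ := by
    have e1 : β * α⁻¹ * β⁻¹ = z⁻¹ * α := by
      rw [show β * α⁻¹ * β⁻¹ = (β * α * β⁻¹)⁻¹ by group, hzeq, _root_.mul_inv_rev, inv_inv]
    have e2 : β * z * β⁻¹ = z := by rw [(zc β).eq, mul_inv_cancel_right]
    have e3 : β * c * β⁻¹ = (β * α⁻¹ * β⁻¹) * (β * α⁻¹ * β⁻¹) * (β * z * β⁻¹) := by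
      rw [hcdef]; group
    rw [e3, e1, e2, hcdef, _root_.mul_inv_rev, _root_.mul_inv_rev, inv_inv]
    calc z⁻¹ * α * (z⁻¹ * α) * z = z⁻¹ * α * z⁻¹ * (α * z) := by simp only [mul_assoc]
      _ = z⁻¹ * α * z⁻¹ * (z * α) := by rw [(zc α).eq]
      _ = z⁻¹ * (α * α) := by group
  have hcP : c ∈ P := by
    rw [← hc1]; exact P.mul_mem (P.mul_mem (P.mul_mem hβP hαP) (P.inv_mem hβP)) (P.inv_mem hαP)
  have hgen : closure ({aq, bq} ∪ (center (P ⧸ M.subgroupOf P) : Set _)) = ⊤ := by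
    rw [eq_top_iff]
    rintro y -
    obtain ⟨⟨g, hg⟩, rfl⟩ := QuotientGroup.mk'_surjective _ y
    set T := closure ({aq, bq} ∪ (center (P ⧸ M.subgroupOf P) : Set _))
    set T' := ((T.comap π).map P.subtype).map σ with hT'
    have hle : H ≤ T' := by
      rw [hH]
      refine sup_le ?_ ((closure_le _).2 ?_)
      · rintro _ ⟨x, hx, rfl⟩
        refine ⟨x, ⟨⟨x, hMP hx⟩, ?_, rfl⟩, rfl⟩
        show π _ ∈ T
        rw [show π ⟨x, hMP hx⟩ = 1 from (QuotientGroup.eq_one_iff _).2 hx]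
        exact one_mem _
      · rintro x (rfl | rfl)
        · exact ⟨α, ⟨⟨α, hαP⟩, subset_closure (Or.inl (Set.mem_insert _ _)), rfl⟩, hα⟩
        · exact ⟨β, ⟨⟨β, hβP⟩, subset_closure (Or.inl (Set.mem_insert_of_mem _ rfl)), rfl⟩, hβ⟩
    obtain ⟨_, ⟨g', hg', rfl⟩, he⟩ := hle hg
    have : π (⟨g, hg⟩ : P) = π g' * π (g'⁻¹ * ⟨g, hg⟩) := by rw [← map_mul, mul_inv_cancel_left]
    show π (⟨g, hg⟩ : P) ∈ T
    rw [this]
    refine T.mul_mem hg' (subset_closure (Or.inr (hker_center _ ?_)))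
    show σ ((g' : Γ)⁻¹ * g) = 1
    rw [map_mul, map_inv]
    rw [show σ (g' : Γ) = σ g from he, inv_mul_cancel]
  have hq : ∀ x : P, π x ∈ zpowers (π ⟨c, hcP⟩) → σ (x : Γ) = 1 → ∃ y ∈ M, (x : Γ) = y := by
    intro x hx hx1
    obtain ⟨j, hj⟩ := hx
    simp only [← map_zpow] at hj
    have hmem : ((⟨c, hcP⟩ : P) ^ j)⁻¹ * x ∈ M.subgroupOf P := QuotientGroup.eq.1 hj
    have hmem' : (c ^ j)⁻¹ * (x : Γ) ∈ M := by simpa [Subgroup.mem_subgroupOf] using hmem
    have hσ : a ^ (2 * j) ∈ M.map σ := by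
      refine ⟨_, hmem', ?_⟩
      rw [map_mul, hx1, mul_one, map_inv, map_zpow, hcdef, map_mul, hz, mul_one, map_mul, map_inv,
        hα]
      group
    obtain ⟨i, hi⟩ := hdiv j hσ
    refine ⟨_, hmem', ?_⟩
    rw [hi, zpow_mul, zpow_natCast, hcm, one_zpow, inv_one, one_mul]
  intro w hw hw1
  obtain ⟨w', hw', rfl⟩ := hw
  have hle := StemBasic.commutator_le_zpowers aq bq hgen (π ⟨c, hcP⟩)
    (by
      rw [← map_inv, ← map_inv, ← map_mul, ← map_mul, ← map_mul]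
      exact congrArg π (Subtype.ext hc1))
    (mem_zpowers_iff.2 ⟨1, by
      rw [zpow_one, ← map_inv, ← map_mul, ← map_mul]
      exact congrArg π (Subtype.ext hαc.symm)⟩)
    (mem_zpowers_iff.2 ⟨-1, by
      rw [zpow_neg_one, ← map_inv, ← map_inv, ← map_mul, ← map_mul]
      exact congrArg π (Subtype.ext hβc.symm)⟩)
    (mem_zpowers_iff.2 ⟨1, by
      rw [zpow_one, ← map_inv, ← map_mul, ← map_mul]
      refine congrArg π (Subtype.ext ?_)
      show c = α⁻¹ * c * α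
      conv_lhs => rw [← inv_mul_cancel_left α c]
      conv_rhs => rw [← hαc]
      group⟩)
    (mem_zpowers_iff.2 ⟨-1, by
      rw [zpow_neg_one, ← map_inv, ← map_inv, ← map_mul, ← map_mul]
      refine congrArg π (Subtype.ext ?_)
      show c⁻¹ = β⁻¹ * c * β
      conv_rhs => rw [← inv_inv c, ← hβc]
      group⟩)
  have hmap : π w' ∈ commutator (P ⧸ M.subgroupOf P) := by
    have h := Subgroup.mem_map_of_mem π hw'
    rw [_root_.commutator_def, Subgroup.map_commutator,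
      Subgroup.map_top_of_surjective π (QuotientGroup.mk'_surjective _)] at h
    exact h
  obtain ⟨y, hy, he⟩ := hq w' (hle hmap) hw1
  refine hinj _ ?_ hw1
  show (w' : Γ) ∈ M
  rw [he]; exact hy

include hc in
/-- An abelian group with commuting lifts extended by a cyclic group. -/
theorem kerFree_semidirect (A : Subgroup G) (hA : ∀ u ∈ A, A ≤ killer hs hc u) (w : G)
    (hw : ∀ x ∈ A, w * x * w⁻¹ ∈ A) (hw' : ∀ x ∈ A, w⁻¹ * x * w ∈ A)
    (hfix : ∀ x ∈ A, Commute w x → br hs w x = 1) :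
    StemBasic.KerFree σ (A ⊔ zpowers w) := by
  have hwA : ∀ x ∈ A, ⁅w, x⁆ ∈ A := fun x hx => by
    rw [commutatorElement_def]; exact mul_mem (hw x hx) (inv_mem hx)
  -- the commutators with `w`
  have hmul : ∀ x ∈ A, ∀ y ∈ A, br hs w x * br hs w y = br hs w (x * y) := by
    intro x hx y hy
    obtain ⟨g, hg⟩ := hs w
    obtain ⟨a, ha⟩ := hs x
    obtain ⟨b, hb⟩ := hs y
    rw [← StemStep.br_eq hs hc hg ha, ← StemStep.br_eq hs hc hg hb,
      ← StemStep.br_eq hs hc hg (show σ (a * b) = x * y by rw [map_mul, ha, hb])]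
    have hcom : ⁅a, ⁅g, b⁆⁆ = 1 := by
      rw [StemStep.br_eq hs hc ha (show σ ⁅g, b⁆ = ⁅w, y⁆ by rw [map_commutatorElement, hg, hb])]
      exact (hA x hx (hwA y hy)).2
    have e : ⁅g, a * b⁆ = ⁅g, a⁆ * ⁅a, ⁅g, b⁆⁆ * ⁅g, b⁆ := by
      simp only [commutatorElement_def]; group
    rw [e, hcom, mul_one]
  let R : Subgroup Γ :=
    { carrier := {r | ∃ x ∈ A, r = br hs w x}
      one_mem' := ⟨1, one_mem _, (StemStep.br_one_right hs hc w).symm⟩
      mul_mem' := by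
        rintro _ _ ⟨x, hx, rfl⟩ ⟨y, hy, rfl⟩
        exact ⟨x * y, mul_mem hx hy, hmul x hx y hy⟩
      inv_mem' := by
        rintro _ ⟨x, hx, rfl⟩
        refine ⟨x⁻¹, inv_mem hx, ?_⟩
        rw [inv_eq_iff_mul_eq_one, hmul x hx x⁻¹ (inv_mem hx), mul_inv_cancel,
          StemStep.br_one_right hs hc] }
  have hRσ : ∀ r ∈ R, σ r ∈ A := by
    rintro _ ⟨x, hx, rfl⟩; rw [StemStep.br_spec]; exact hwA x hx
  -- conjugation by the generators of the preimage
  have key : ∀ δ, (σ δ = w ∨ σ δ = w⁻¹ ∨ σ δ ∈ A) → ∀ r ∈ R, δ * r * δ⁻¹ ∈ R := by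
    rintro δ (h | h | h) r hr
    · obtain ⟨x, hx, rfl⟩ := hr
      refine ⟨w * x * w⁻¹, hw x hx, ?_⟩
      rw [StemStep.br_conj hs hc, h, mul_inv_cancel_right]
    · obtain ⟨x, hx, rfl⟩ := hr
      refine ⟨w⁻¹ * x * w, hw' x hx, ?_⟩
      rw [StemStep.br_conj hs hc, h]
      group
    · have hcomm : Commute δ r := by
        have := (hA _ h (hRσ r hr)).2
        rw [← StemStep.br_eq hs hc rfl (rfl : σ r = σ r),
          commutatorElement_eq_one_iff_mul_comm] at this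
        exact this
      rw [hcomm.eq, mul_inv_cancel_right]; exact hr
  have hN : ∀ δ, (σ δ = w ∨ σ δ ∈ A) → δ ∈ Subgroup.normalizer (R : Set Γ) := by
    intro δ hδ
    refine Subgroup.mem_normalizer_iff.2 fun r => ⟨key δ (hδ.imp_right Or.inr) r, fun h => ?_⟩
    have h2 := key δ⁻¹ (by
      rcases hδ with h | h
      · exact Or.inr (Or.inl (by rw [map_inv, h]))
      · exact Or.inr (Or.inr (by rw [map_inv]; exact inv_mem h))) _ h
    simpa [mul_assoc] using h2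
  have hRinv : ∀ g, σ g ∈ A ⊔ zpowers w → ∀ r ∈ R, g * r * g⁻¹ ∈ R := by
    intro g hg r hr
    have hle : A ⊔ zpowers w ≤ (Subgroup.normalizer (R : Set Γ)).map σ := by
      refine sup_le (fun u hu => ?_) ((zpowers_le).2 ?_)
      · obtain ⟨δ, hδ⟩ := hs u
        exact ⟨δ, hN δ (Or.inr (by rw [hδ]; exact hu)), hδ⟩
      · obtain ⟨δ, hδ⟩ := hs w
        exact ⟨δ, hN δ (Or.inl hδ), hδ⟩
    obtain ⟨g', hg', he⟩ := hle hg
    obtain ⟨z, hz, rfl⟩ := StemBasic.exists_ker_mul (σ := σ) (a := g) (b := g') he.symm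
    exact (Subgroup.mem_normalizer_iff.1 (mul_mem hg' (hN z (Or.inr (by rw [hz]; exact one_mem _)))) r).1 hr
  intro x hx hx1
  set P := (A ⊔ zpowers w).comap σ
  obtain ⟨x', hx', rfl⟩ := hx
  have hn : (R.subgroupOf P).Normal := ⟨fun r hr g => hRinv g.1 g.2 r.1 hr⟩
  have hle : commutator P ≤ R.subgroupOf P := by
    rw [← QuotientGroup.ker_mk' (R.subgroupOf P), _root_.commutator_def, Subgroup.commutator_le]
    intro a _ b _
    rw [MonoidHom.mem_ker, map_commutatorElement, commutatorElement_eq_one_iff_mul_comm]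
    let π := QuotientGroup.mk' (R.subgroupOf P)
    have hcomm : ∀ u v : G, (u ∈ A ∨ u = w) → (v ∈ A ∨ v = w) → ∀ g h : P,
        σ (g : Γ) = u → σ (h : Γ) = v → π g * π h = π h * π g := by
      intro u v hu hv g h hg hh
      rw [← commutatorElement_eq_one_iff_mul_comm, ← map_commutatorElement]
      refine (QuotientGroup.eq_one_iff _).2 ?_
      show ⁅(g : Γ), (h : Γ)⁆ ∈ R
      rw [StemStep.br_eq hs hc hg hh]
      rcases hu with hu | rfl <;> rcases hv with hv | rfl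
      · rw [(hA u hu hv).2]; exact one_mem _
      · rw [← StemStep.br_inv]; exact inv_mem ⟨u, hu, rfl⟩
      · exact ⟨v, hv, rfl⟩
      · rw [StemStep.br_self]; exact one_mem _
    set S : Set (P ⧸ R.subgroupOf P) := π '' {g : P | σ (g : Γ) ∈ A ∨ σ (g : Γ) = w}
    have hS : ∀ y : P, π y ∈ closure S := by
      intro y
      have hPle : (A ⊔ zpowers w) ≤ (((closure S).comap π).map P.subtype).map σ := by
        refine sup_le (fun u hu => ?_) ((zpowers_le).2 ?_)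
        · obtain ⟨g, hg⟩ := hs u
          have hgP : g ∈ P := by rw [Subgroup.mem_comap, hg]; exact mem_sup_left hu
          exact ⟨g, ⟨⟨g, hgP⟩, subset_closure ⟨⟨g, hgP⟩, Or.inl (by rw [hg]; exact hu), rfl⟩, rfl⟩, hg⟩
        · obtain ⟨g, hg⟩ := hs w
          have hgP : g ∈ P := by rw [Subgroup.mem_comap, hg]; exact mem_sup_right (mem_zpowers w)
          exact ⟨g, ⟨⟨g, hgP⟩, subset_closure ⟨⟨g, hgP⟩, Or.inr hg, rfl⟩, rfl⟩, hg⟩
      obtain ⟨_, ⟨g', hg', rfl⟩, he⟩ := hPle y.2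
      have : π y = π g' * π (g'⁻¹ * y) := by rw [← map_mul, mul_inv_cancel_left]
      rw [this]
      refine (closure S).mul_mem hg' (subset_closure ⟨_, Or.inl ?_, rfl⟩)
      show σ ((g' : Γ)⁻¹ * y) ∈ A
      rw [map_mul, map_inv, show σ (g' : Γ) = σ y from he, inv_mul_cancel]
      exact one_mem _
    have hab : IsMulCommutative (closure S) := by
      refine Subgroup.isMulCommutative_closure ?_
      rintro _ ⟨g, hg, rfl⟩ _ ⟨h, hh, rfl⟩
      exact hcomm _ _ hg hh g h rfl rfl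
    exact congrArg Subtype.val (hab.is_comm.comm ⟨_, hS a⟩ ⟨_, hS b⟩)
  obtain ⟨y, hy, he⟩ := hle hx'
  show (x' : Γ) = 1
  have hx1' : σ (x' : Γ) = 1 := hx1
  rw [show (x' : Γ) = br hs w y from he] at hx1' ⊢
  exact hfix y hy (by rw [StemStep.br_spec] at hx1'; exact commutatorElement_eq_one_iff_mul_comm.1 hx1')

/-! ### Orders -/

section Card

variable {F : Type*} [Field F] [Fintype F] {q : ℕ} (hF : Fintype.card F = q ^ 2)
include hF

theorem card_SU_two : Nat.card (SU 2 F q) = q * (q ^ 2 - 1) := by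
  refine Nat.eq_of_mul_eq_mul_left (Nat.succ_pos q) ?_
  rw [Nat.succ_eq_add_one, card_GU_eq_mul_card_SU hF (by omega), card_GU hF 2]
  simp [Finset.prod_range_succ]
  ring

theorem card_SU_three : Nat.card (SU 3 F q) = q ^ 3 * (q ^ 2 - 1) * (q ^ 3 + 1) := by
  refine Nat.eq_of_mul_eq_mul_left (Nat.succ_pos q) ?_
  rw [Nat.succ_eq_add_one, card_GU_eq_mul_card_SU hF (by omega), card_GU hF 3]
  simp [Finset.prod_range_succ, Nat.even_iff]
  ring

theorem card_SU_four :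
    Nat.card (SU 4 F q) = q ^ 6 * (q ^ 2 - 1) * (q ^ 3 + 1) * (q ^ 4 - 1) := by
  refine Nat.eq_of_mul_eq_mul_left (Nat.succ_pos q) ?_
  rw [Nat.succ_eq_add_one, card_GU_eq_mul_card_SU hF (by omega), card_GU hF 4]
  simp [Finset.prod_range_succ, Nat.even_iff]
  ring

end Card

end Cfsg.Agent.StemSUBaseTools
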