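import Cfsg.Agent.Lib.StemStep
import Mathlib

/-!
A central extension generated by lifts of vertex stabilisers: every kernel element lies in the
lifted stabiliser of the base vertex.
-/

set_option autoImplicit false

namespace Cfsg.Agent.StemVertex

open Subgroup

variable {Γ G X Y : Type*} [Group Γ] [Group G] [MulAction G X] [MulAction G Y]

/-- An element of the two lifted stabilisers moving `a` to `v`. -/
def Link (σ : Γ →* G) (K : Y → Subgroup Γ) (a v : X) (r r' : Y) : Prop :=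
  ∃ j, j ∈ K r ∧ j ∈ K r' ∧ σ j • a = v

/-- `K r` are lifted stabilisers of the `r : Y`, `Ka` that of `a`, `R v` are the `r` usable for
connecting `a` with `v`. -/
theorem mem_base {σ : Γ →* G} (a : X) (Ka : Subgroup Γ) (K : Y → Subgroup Γ) (R : X → Y → Prop)
    (T : Set Γ) (Ω : X → Prop) (ha : Ω a) (hΩ : ∀ τ ∈ T, ∀ v, Ω v → Ω (σ τ • v))
    (hRne : ∃ r, R a r)
    (hequiv : ∀ (g : Γ) (r : Y) (x : Γ), g ∈ closure T → x ∈ K r → g * x * g⁻¹ ∈ K (σ g • r))
    (hA : ∀ r v, R v r → ∀ k ∈ K r, σ k • a = a → k ∈ Ka)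
    (htrans : ∀ v r, Ω v → R v r → ∃ k ∈ K r, σ k • a = v)
    (hchain : ∀ v, Ω v → v ≠ a → ∀ r r', R v r → R v r' →
      ∃ r'', R v r'' ∧ Relation.ReflTransGen (fun x y => R v y ∧ Link σ K a v x y) r r'' ∧
        Relation.ReflTransGen (fun x y => R v y ∧ Link σ K a v x y) r' r'')
    (hfix : ∀ τ ∈ T, σ τ • a = a → τ ∈ Ka)
    (hRfix : ∀ τ ∈ T, σ τ • a = a → ∀ v r, R (σ τ • v) r → R v ((σ τ)⁻¹ • r))
    (hstep : ∀ τ ∈ T, σ τ • a ≠ a → ∀ v, Ω v → ∃ r, R v r ∧ R (σ τ • v) r ∧ τ ∈ K r)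
    (hinv : ∀ τ ∈ T, τ⁻¹ ∈ T) {z : Γ} (hzT : z ∈ closure T) (hz : σ z • a = a)
    (hKa : ∀ r, R a r → (1 : Γ) ∈ K r) : z ∈ Ka := by
  -- connecting elements for two labels differ by an element of `Ka`
  have hsame : ∀ v r, R v r → ∀ k ∈ K r, ∀ k' ∈ K r, σ k • a = v → σ k' • a = v → k⁻¹ * k' ∈ Ka := by
    intro v r hr k hk k' hk' e e'
    refine hA r v hr _ (mul_mem (inv_mem hk) hk') ?_
    rw [map_mul, mul_smul, e', map_inv, inv_smul_eq_iff, e]
  have hreach : ∀ v, Ω v → ∀ r r', R v r →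
      Relation.ReflTransGen (fun x y => R v y ∧ Link σ K a v x y) r r' →
      ∀ k ∈ K r, ∀ k' ∈ K r', σ k • a = v → σ k' • a = v → k⁻¹ * k' ∈ Ka := by
    intro v hΩv r r' hr h
    induction h with
    | refl => exact hsame v r hr
    | @tail x y hrx hxy ih =>
      intro k hk k' hk' e e'
      obtain ⟨hRy, j, hjx, hjy, hj⟩ := hxy
      have h1 := ih k hk j hjx e hj
      have h2 := hsame v y hRy j hjy k' hk' hj e'
      simpa [mul_assoc] using mul_mem h1 h2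
  have hindep : ∀ v, Ω v → ∀ r r', R v r → R v r' → ∀ k ∈ K r, ∀ k' ∈ K r',
      σ k • a = v → σ k' • a = v → k⁻¹ * k' ∈ Ka := by
    intro v hΩv r r' hr hr' k hk k' hk' e e'
    by_cases hva : v = a
    · subst hva
      exact mul_mem (inv_mem (hA r _ hr k hk e)) (hA r' _ hr' k' hk' e')
    obtain ⟨r'', hr'', h1, h2⟩ := hchain v hΩv hva r r' hr hr'
    obtain ⟨j, hj, hje⟩ := htrans v r'' hΩv hr''
    have e1 := hreach v hΩv r r'' hr h1 k hk j hj e hje
    have e2 := hreach v hΩv r' r'' hr' h2 k' hk' j hj e' hje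
    simpa [mul_assoc] using mul_mem e1 (inv_mem e2)
  have hP : ∀ g ∈ closure T, Ω (σ g • a) ∧
      ∀ r, R (σ g • a) r → ∀ k ∈ K r, σ k • a = σ g • a → k⁻¹ * g ∈ Ka := by
    intro g hg
    have key : ∀ τ ∈ T, ∀ g ∈ closure T,
        (Ω (σ g • a) ∧ ∀ r, R (σ g • a) r → ∀ k ∈ K r, σ k • a = σ g • a → k⁻¹ * g ∈ Ka) →
        Ω (σ (τ * g) • a) ∧
          ∀ r, R (σ (τ * g) • a) r → ∀ k ∈ K r, σ k • a = σ (τ * g) • a → k⁻¹ * (τ * g) ∈ Ka := by
      rintro τ hτ g hg ⟨hΩg, ih⟩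
      rw [map_mul, mul_smul]
      refine ⟨hΩ τ hτ _ hΩg, fun r hr k hk hke => ?_⟩
      by_cases hta : σ τ • a = a
      · have hk2 : τ⁻¹ * k * τ ∈ K ((σ τ)⁻¹ • r) := by
          simpa using hequiv τ⁻¹ r k (inv_mem (subset_closure hτ)) hk
        have h2 := ih _ (hRfix τ hτ hta _ r hr) _ hk2 (by
          rw [map_mul, map_mul, map_inv, mul_smul, mul_smul, hta, hke, inv_smul_smul])
        have h3 := mul_mem (hfix τ hτ hta) h2
        simpa [mul_assoc] using h3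
      · obtain ⟨r0, h0, h0', hτK⟩ := hstep τ hτ hta _ hΩg
        obtain ⟨k0, hk0, hk0e⟩ := htrans _ r0 hΩg h0
        have e1 := ih r0 h0 k0 hk0 hk0e
        have e2 := hindep _ (hΩ τ hτ _ hΩg) r r0 hr h0' k hk (τ * k0) (mul_mem hτK hk0) hke
          (by rw [map_mul, mul_smul, hk0e])
        simpa [mul_assoc] using mul_mem e2 e1
    induction hg using closure_induction_left with
    | one =>
      rw [map_one, one_smul]
      exact ⟨ha, fun r hr k hk hke => by simpa using inv_mem (hA r a hr k hk hke)⟩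
    | mul_left τ hτ g hg ih => exact key τ hτ g hg ih
    | inv_mul_cancel τ hτ g hg ih => exact key τ⁻¹ (hinv τ hτ) g hg ih
  obtain ⟨r, hr⟩ := hRne
  have := (hP z hzT).2 r (hz.symm ▸ hr) 1 (hKa r hr) (by rw [map_one, one_smul, hz])
  simpa using this

end Cfsg.Agent.StemVertex
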