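import Cfsg.Agent.Lib.StemSpStd
import Cfsg.Agent.Lib.StemVertex
import Cfsg.Agent.Lib.StemSLnPrime
import Mathlib

/-!
Central extensions of `Sp_{2m}(q)` with kernel of order prime to `q`: the lifts of the transvections
generate a group meeting the kernel trivially.
-/

set_option autoImplicit false
set_option backward.isDefEq.respectTransparency false

namespace Cfsg.Agent.StemSpPrime

open Matrix Subgroup
open scoped MatrixGroups
open SymplecticBasic StemSpEl StemSpStd StemLift

variable {F : Type*} [Field F] [Fintype F] {m : ℕ} (p : ℕ) [Fact p.Prime] [CharP F p]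

local notation "𝕍" => (Fin m ⊕ Fin m → F)
set_option quotPrecheck false in
local notation "𝔾" => ↥(symplecticGroup (Fin m) F)

variable {Γ : Type*} [Group Γ] [Finite Γ] (σ : Γ →* symplecticGroup (Fin m) F)

/-- The group generated by the lifts of the transvections with centre in `U`. -/
def KS (U : Submodule F (Fin m ⊕ Fin m → F)) : Subgroup Γ :=
  closure {g | ∃ v ∈ U, ∃ c : F, g = lift p σ (transv v c)}

omit [Fintype F] [Fact p.Prime] [CharP F p] [Finite Γ] in
theorem KS_mono {U U' : Submodule F 𝕍} (h : U ≤ U') : KS p σ U ≤ KS p σ U' := by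
  refine closure_mono ?_
  rintro g ⟨v, hv, c, rfl⟩
  exact ⟨v, h hv, c, rfl⟩

omit [Fintype F] [Fact p.Prime] [CharP F p] [Finite Γ] in
theorem lift_mem_KS {U : Submodule F 𝕍} {v : 𝕍} (hv : v ∈ U) (c : F) :
    lift p σ (transv v c) ∈ KS p σ U := subset_closure ⟨v, hv, c, rfl⟩

variable (hs : Function.Surjective σ) (hc : σ.ker ≤ center Γ)
  (hZ : Nat.Coprime (Nat.card σ.ker) p)

include hs hc hZ

omit hc in
theorem σ_lift (v : 𝕍) (c : F) : σ (lift p σ (transv v c)) = transv v c :=
  (lift_spec hs hZ (isPElem_transv p v c)).1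

omit hc in
theorem map_KS (U : Submodule F 𝕍) : (KS p σ U).map σ = transvGroup U := by
  rw [KS, MonoidHom.map_closure, transvGroup]
  congr 1
  ext x
  constructor
  · rintro ⟨_, ⟨v, hv, c, rfl⟩, rfl⟩
    exact ⟨v, hv, c, σ_lift p σ hs hZ v c⟩
  · rintro ⟨v, hv, c, rfl⟩
    exact ⟨_, ⟨v, hv, c, rfl⟩, σ_lift p σ hs hZ v c⟩

omit hc in
theorem σ_KS {U : Submodule F 𝕍} {g : Γ} (hg : g ∈ KS p σ U) : σ g ∈ transvGroup U :=
  map_KS p σ hs hZ U ▸ ⟨g, hg, rfl⟩

theorem KS_conj {U U' : Submodule F 𝕍} (g : Γ) (h : ∀ v ∈ U, σ g • v ∈ U') {x : Γ}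
    (hx : x ∈ KS p σ U) : g * x * g⁻¹ ∈ KS p σ U' := by
  have : KS p σ U ≤ (KS p σ U').comap (MulAut.conj g).toMonoidHom := by
    rw [KS, closure_le]
    rintro _ ⟨v, hv, c, rfl⟩
    show g * lift p σ (transv v c) * g⁻¹ ∈ KS p σ U'
    rw [lift_conj hs hc hZ (isPElem_transv p v c), transv_conj]
    exact lift_mem_KS p σ (h v hv) c
  exact this hx

theorem lift_inv (v : 𝕍) (c : F) :
    (lift p σ (transv v c))⁻¹ = lift p σ (transv v (-c)) := by
  obtain ⟨h1, h2⟩ := lift_spec hs hZ (isPElem_transv p v c)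
  rw [← lift_eq hs hc hZ h2.inv, map_inv, h1, transv_inv]

/-- `σ` is injective on the lifted transvection group of `U`. -/
def Inj (U : Submodule F (Fin m ⊕ Fin m → F)) : Prop := ∀ z ∈ KS p σ U, σ z = 1 → z = 1

theorem inj_plane {k : Fin m} (hk : (k : ℕ) + 1 = m) : Inj p σ (tailSpace F m k) := by
  set W := tailSpace F m k
  set L := KS p σ W
  have h : sympForm m F (fk F k) (ek F k) = 1 := form_fk_ek k
  let φ := SymplecticRootGroups.planeHom h
  have hWd : ∀ v ∈ W, v = v (Sum.inr k) • fk F k + v (Sum.inl k) • ek F k := by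
    intro v hv
    funext s
    rcases s with i | i <;> rcases Nat.lt_or_ge (i : ℕ) k with hi | hi
    · have : i ≠ k := fun e => absurd (e ▸ hi) (lt_irrefl _)
      simp [fk, ek, (hv i hi).1, this]
    · obtain rfl : i = k := Fin.ext (by omega)
      simp [fk, ek]
    · have : i ≠ k := fun e => absurd (e ▸ hi) (lt_irrefl _)
      simp [fk, ek, (hv i hi).2, this]
    · obtain rfl : i = k := Fin.ext (by omega)
      simp [fk, ek]
  have hrange : transvGroup W ≤ φ.range := by
    rw [transvGroup, Subgroup.closure_le]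
    rintro _ ⟨v, hv, c, rfl⟩
    set a := v (Sum.inr k)
    set b := v (Sum.inl k)
    refine ⟨⟨!![1 + c * a * b, -(c * a ^ 2); c * b ^ 2, 1 - c * a * b],
      by simp [Matrix.det_fin_two]; ring⟩, ext_smul fun x => ?_⟩
    rw [SymplecticRootGroups.planeHom_smul, transv_smul, hWd v hv, form_add_right, form_smul_right,
      form_smul_right, form_swap x (fk F k)]
    simp
    module
  have hLσ : ∀ l : L, σ (l : Γ) ∈ φ.range := fun l => hrange (σ_KS p σ hs hZ l.2)
  let ι := MonoidHom.ofInjective (SymplecticRootGroups.planeHom_injective h)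
  let τ : L →* SL(2, F) := ι.symm.toMonoidHom.comp ((σ.comp L.subtype).codRestrict _ hLσ)
  have hτ : ∀ l : L, φ (τ l) = σ (l : Γ) := fun l => by
    show ((ι (ι.symm _) : φ.range) : 𝔾) = _
    rw [MulEquiv.apply_symm_apply]
    rfl
  have hkerτ : ∀ l : L, τ l = 1 ↔ σ (l : Γ) = 1 := fun l => by
    rw [← hτ l]
    exact ⟨fun h => by rw [h, map_one], fun e => SymplecticRootGroups.planeHom_injective h (by
      show φ (τ l) = φ 1
      rw [e, map_one])⟩
  have hτs : Function.Surjective τ := by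
    intro M
    have hM : φ M ∈ transvGroup W := by
      refine transvGroup_mono inf_le_left (fixPairs_mem_transvGroup
        (mem_fixPairs.2 fun i hi => ?_) (∅ : Set 𝕍) (by simp))
      have hik : i ≠ k := fun e => absurd (e ▸ hi) (lt_irrefl _)
      constructor <;>
        (rw [SymplecticRootGroups.planeHom_smul, form_ek, form_swap _ (fk F k), form_fk]
         simp [fk, ek, Ne.symm hik, hik])
    rw [← map_KS p σ hs hZ] at hM
    obtain ⟨g, hg, hge⟩ := hM
    exact ⟨⟨g, hg⟩, SymplecticRootGroups.planeHom_injective h (by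
      show φ (τ ⟨g, hg⟩) = φ M
      rw [hτ]; exact hge)⟩
  have hτc : τ.ker ≤ center L := fun l hl => mem_center_iff.2 fun g =>
    Subtype.ext (StemBasic.ker_comm hc ((hkerτ l).1 hl) (g : Γ))
  have hτZ : Nat.Coprime (Nat.card τ.ker) p := by
    refine Nat.Coprime.coprime_dvd_left (Subgroup.card_dvd_of_injective
      ((L.subtype.comp τ.ker.subtype).codRestrict σ.ker fun x => (hkerτ x).1 x.2) ?_) hZ
    intro x y h
    have h' := congrArg Subtype.val h
    exact Subtype.ext (Subtype.ext h')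
  have hτgen : closure {g : L | IsPElem p g} = ⊤ := by
    rw [eq_top_iff]
    rintro ⟨g, hg⟩ -
    have : g ∈ (closure {g : L | IsPElem p g}).map L.subtype := by
      refine (closure_le _).2 ?_ hg
      intro x hx
      refine ⟨⟨x, subset_closure hx⟩, subset_closure ?_, rfl⟩
      obtain ⟨v, hv, c, rfl⟩ := hx
      exact (isPElem_map_iff L.subtype Subtype.coe_injective).1
        (lift_spec hs hZ (isPElem_transv p v c)).2
    obtain ⟨g', hg', he⟩ := this
    have : g' = ⟨g, hg⟩ := Subtype.ext he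
    exact this ▸ hg'
  have hστ : Cfsg.IsStemExtension τ :=
    ⟨hτs, hτc, StemSLnPrime.ker_le_commutator p hτZ hτgen⟩
  have hbot : τ.ker = ⊥ := StemBasic.ker_eq_bot_of_primes fun ℓ hl z hz ho => by
    refine StemSL2.kill_prime p hστ hl ?_ hz ho
    rintro rfl
    exact hl.ne_one (Nat.eq_one_of_dvd_coprimes hτZ
      (ho ▸ StemBasic.orderOf_dvd_card_ker hz) dvd_rfl)
  intro z hz hz1
  have : (⟨z, hz⟩ : L) ∈ τ.ker := (hkerτ _).2 hz1
  rw [hbot, Subgroup.mem_bot] at this
  exact congrArg Subtype.val this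

theorem inj_stab_ek {k : Fin m} (hlevi : Inj p σ (tailSpace F m ((k : ℕ) + 1))) :
    Inj p σ (tailSpace F m k ⊓ perp {ek F k}) := by
  obtain ⟨P, hP, hPinj, hPall⟩ := StemStep.exists_pLifts hZ hc hs
    (fun n hn => isPElem_rad p hn : ∀ n ∈ rad F k, IsPElem p n)
  set L := KS p σ (tailSpace F m ((k : ℕ) + 1))
  have hnorm : ∀ l : Γ, σ l ∈ transvGroup (tailSpace F m ((k : ℕ) + 1)) → ∀ x ∈ P, l * x * l⁻¹ ∈ P := by
    intro l hl x hx
    refine hPall _ ((hP x hx).1.conj l) ?_
    rw [map_mul, map_mul, map_inv]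
    exact rad_conj (levi_fix hl).1 (fun v hv => transvGroup_maps hl hv) (hP x hx).2
  have main : ∀ g ∈ KS p σ (tailSpace F m k ⊓ perp {ek F k}), ∃ v ∈ P, ∃ l ∈ L, g = v * l := by
    intro g hg
    induction hg using closure_induction with
    | mem g hg =>
      obtain ⟨v, hv, c, rfl⟩ := hg
      obtain ⟨hvW, hvp⟩ := Submodule.mem_inf.1 hv
      obtain ⟨a, v', hv', rfl⟩ := exists_decomp hvW (hvp _ rfl)
      have hl : lift p σ (transv v' c) ∈ L := lift_mem_KS p σ hv' c
      have hlσ := σ_KS p σ hs hZ hl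
      have hn := sg_mem_rad (k := k) ((tailSpace F m _).smul_mem (c * a) hv') (c * a ^ 2)
      obtain ⟨h1, h2⟩ := lift_spec hs hZ (isPElem_rad p hn)
      have hnP : lift p σ (sg (ek F k) ((c * a) • v') (c * a ^ 2)) ∈ P := hPall _ h2 (by rw [h1]; exact hn)
      refine ⟨_, hnP, _, hl, lift_unique hc hZ ?_ (lift_spec hs hZ (isPElem_transv p _ _)).2
        (IsPElem.mul_of_normalizes (fun x hx => (hP x hx).1)
          (lift_spec hs hZ (isPElem_transv p v' c)).2 (hnorm _ hlσ) hnP)⟩
      rw [map_mul, h1, σ_lift p σ hs hZ, σ_lift p σ hs hZ, transv_decomp (form_ek_tail hv')]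
    | one => exact ⟨1, P.one_mem, 1, one_mem _, (mul_one 1).symm⟩
    | mul a b _ _ ha hb =>
      obtain ⟨v, hv, l, hl, rfl⟩ := ha
      obtain ⟨v', hv', l', hl', rfl⟩ := hb
      exact ⟨v * (l * v' * l⁻¹), P.mul_mem hv (hnorm l (σ_KS p σ hs hZ hl) v' hv'), l * l',
        mul_mem hl hl', by group⟩
    | inv a _ ha =>
      obtain ⟨v, hv, l, hl, rfl⟩ := ha
      refine ⟨l⁻¹ * v⁻¹ * l, ?_, l⁻¹, inv_mem hl, by group⟩
      have := hnorm l⁻¹ (σ_KS p σ hs hZ (inv_mem hl)) v⁻¹ (P.inv_mem hv)
      simpa using this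
  intro z hz hz1
  obtain ⟨v, hv, l, hl, rfl⟩ := main z hz
  rw [map_mul] at hz1
  have hlfix := (levi_fix (σ_KS p σ hs hZ hl)).2
  have hvl : σ v = (σ l)⁻¹ := eq_inv_of_mul_eq_one_left hz1
  have hv1 : σ v = 1 := rad_eq_one (hP v hv).2 (by
    rw [hvl, inv_smul_eq_iff, hlfix])
  rw [hv1, one_mul] at hz1
  rw [hPinj v hv hv1, hlevi l hl hz1, mul_one]

theorem inj_stab {k : Fin m} (hlevi : Inj p σ (tailSpace F m ((k : ℕ) + 1))) {r : 𝕍}
    (hr : r ∈ tailSpace F m k) (hr0 : r ≠ 0) : Inj p σ (tailSpace F m k ⊓ perp {r}) := by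
  obtain ⟨g, hg, hgr⟩ := exists_map_vec (nondegOn_tailSpace (k : ℕ)) hr (ek_mem k) hr0 (ek_ne_zero k)
  obtain ⟨γ, rfl⟩ := hs g
  intro z hz hz1
  have h := inj_stab_ek p σ hs hc hZ hlevi (γ * z * γ⁻¹)
    (KS_conj p σ hs hc hZ γ (fun v hv => ?_) hz) (by simp [hz1])
  · simpa using h
  · obtain ⟨hvW, hvp⟩ := Submodule.mem_inf.1 hv
    refine Submodule.mem_inf.2 ⟨transvGroup_maps hg hvW, ?_⟩
    rintro s rfl
    rw [← hgr, form_map]
    exact hvp r rfl

theorem inj_tail_step {k : Fin m} (hk : (k : ℕ) + 2 ≤ m)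
    (hlevi : Inj p σ (tailSpace F m ((k : ℕ) + 1))) : Inj p σ (tailSpace F m k) := by
  set W := tailSpace F m k with hW
  set a := ek F k with hadef
  have hWn : NondegOn W := nondegOn_tailSpace _
  have ha : a ∈ W := ek_mem k
  have ha0 : a ≠ 0 := ek_ne_zero k
  have hdim : 4 ≤ Module.finrank F W := by rw [hW, finrank_tailSpace (by omega)]; omega
  let K : 𝕍 → Subgroup Γ := fun r => KS p σ (W ⊓ perp {r})
  let R : 𝕍 → 𝕍 → Prop := fun v r =>
    r ∈ W ∧ sympForm m F r (v - a) = 0 ∧ r ∉ Submodule.span F {a} ∧ r ∉ Submodule.span F {v}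
  have hR0 : ∀ v r, R v r → r ≠ 0 := fun v r h e => h.2.2.1 (e ▸ zero_mem _)
  have hσT : ∀ {U : Submodule F 𝕍} {g : Γ}, g ∈ KS p σ U → σ g ∈ transvGroup U :=
    fun hg => σ_KS p σ hs hZ hg
  have hclT : ∀ g ∈ KS p σ W, σ g ∈ fixPairs F m k := fun g hg => transvGroup_le_fixPairs _ (hσT hg)
  intro z hz hz1
  refine inj_stab p σ hs hc hZ hlevi ha ha0 z ?_ hz1
  refine StemVertex.mem_base (σ := σ) a (K a) K R
    {g | ∃ v ∈ W, ∃ c : F, g = lift p σ (transv v c)} (fun v => v ∈ W ∧ v ≠ 0) ⟨ha, ha0⟩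
    ?_ ?_ ?_ ?_ ?_ ?_ ?_ ?_ ?_ ?_ hz (by rw [hz1, one_smul]) (fun r _ => one_mem _)
  · rintro _ ⟨e, he, c, rfl⟩ v ⟨hv, hv0⟩
    rw [σ_lift p σ hs hZ]
    exact ⟨transvGroup_maps (transv_mem_transvGroup he c) hv, fun h => hv0 (by
      rw [← inv_smul_smul (transv e c) v, h]; simp [SymplecticBasic.smul_def])⟩
  · refine ⟨fk F k, fk_mem k, by simp, fun h => ?_, fun h => ?_⟩ <;>
    · obtain ⟨x, hx⟩ := Submodule.mem_span_singleton.1 h
      simpa [hadef, ek, fk] using congrFun hx (Sum.inr k)
  · intro g r x hg hx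
    refine KS_conj p σ hs hc hZ g (fun v hv => ?_) hx
    obtain ⟨hvW, hvp⟩ := Submodule.mem_inf.1 hv
    refine Submodule.mem_inf.2 ⟨transvGroup_maps (hσT (U := W) hg) hvW, ?_⟩
    rintro s rfl
    rw [form_map]; exact hvp r rfl
  · intro r v hr k' hk' hfix
    have hg := hσT hk'
    have h2 : σ k' ∈ transvGroup (W ⊓ perp {r, a}) := by
      refine fixPairs_mem_transvGroup (transvGroup_le_fixPairs _
        (transvGroup_mono inf_le_left hg)) {r, a} ?_
      rintro s (rfl | rfl)
      · exact perp_fix (transvGroup_mono inf_le_right hg) rfl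
      · exact hfix
    rw [← map_KS p σ hs hZ] at h2
    obtain ⟨j, hj, hje⟩ := h2
    have hjr : j ∈ K r := KS_mono p σ (fun u hu => Submodule.mem_inf.2
      ⟨(Submodule.mem_inf.1 hu).1, fun s hs' => by
        rw [Set.mem_singleton_iff] at hs'
        exact (Submodule.mem_inf.1 hu).2 s (by simp [hs'])⟩) hj
    have hja : j ∈ K a := KS_mono p σ (fun u hu => Submodule.mem_inf.2
      ⟨(Submodule.mem_inf.1 hu).1, fun s hs' => by
        rw [Set.mem_singleton_iff] at hs'
        exact (Submodule.mem_inf.1 hu).2 s (by simp [hs'])⟩) hj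
    have := inj_stab p σ hs hc hZ hlevi hr.1 (hR0 v r hr) (j⁻¹ * k') (mul_mem (inv_mem hjr) hk')
      (by rw [map_mul, map_inv, hje, inv_mul_cancel])
    rwa [inv_mul_eq_one.1 this] at hja
  · rintro v r ⟨hv, hv0⟩ ⟨hr, hrd, hra, hrv⟩
    have hns : ∀ x : 𝕍, x ≠ 0 → r ∉ Submodule.span F {x} → x ∉ Submodule.span F {r} := by
      intro x hx0 hrx hx
      obtain ⟨c, rfl⟩ := Submodule.mem_span_singleton.1 hx
      refine hrx (Submodule.mem_span_singleton.2 ⟨c⁻¹, ?_⟩)
      rw [inv_smul_smul₀ (fun e => hx0 (by rw [e, zero_smul]))]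
    obtain ⟨g, hg, hga⟩ := move_perp hWn (S := {r}) (by simpa using hr) ha hv
      (fun s hs' => by rw [Set.mem_singleton_iff] at hs'; rw [hs']; exact hrd)
      (hns a ha0 hra) (hns v hv0 hrv)
    rw [← map_KS p σ hs hZ] at hg
    obtain ⟨j, hj, rfl⟩ := hg
    exact ⟨j, hj, hga⟩
  · rintro v ⟨hv, hv0⟩ hva r r' hr hr'
    set d := v - a with hd
    have hd0 : d ≠ 0 := sub_ne_zero.2 hva
    have hdW : d ∈ W := sub_mem hv ha
    have mkLink : ∀ x y : 𝕍, R v x → R v y → a ∉ Submodule.span F {x, y} →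
        v ∉ Submodule.span F {x, y} → StemVertex.Link σ K a v x y := by
      intro x y hx hy h1 h2
      obtain ⟨g, hg, hga⟩ := move_perp hWn (S := {x, y}) (by
          rintro s (rfl | rfl); exacts [hx.1, hy.1]) ha hv
        (by rintro s (rfl | rfl); exacts [hx.2.1, hy.2.1]) h1 h2
      rw [← map_KS p σ hs hZ] at hg
      obtain ⟨j, hj, rfl⟩ := hg
      refine ⟨j, KS_mono p σ ?_ hj, KS_mono p σ ?_ hj, hga⟩ <;>
      · refine inf_le_inf_left _ fun u hu s hs' => hu s ?_
        rw [Set.mem_singleton_iff] at hs'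
        simp [hs']
    by_cases hav : sympForm m F a v = 0
    · by_cases hline : v ∈ Submodule.span F {a}
      · obtain ⟨l, hl⟩ := Submodule.mem_span_singleton.1 hline
        have hl0 : l ≠ 0 := fun e => hv0 (by rw [← hl, e, zero_smul])
        have hpick : ∀ r, R v r → ∃ x ∈ W, sympForm m F a x = 0 ∧ x ∉ Submodule.span F {r, a} := by
          intro r _
          obtain ⟨x, hx, hxa, hxs⟩ := exists_avoid (W := W) (Z := Submodule.span F {r, a})
            (fun _ : Fin 1 => a) (by have := finrank_span_pair_le (F := F) r a; omega)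
          exact ⟨x, hx, hxa 0, hxs⟩
        obtain ⟨x, hx, hxa, hxs⟩ := hpick r hr
        obtain ⟨y, hy, hya, hys⟩ := hpick r' hr'
        obtain ⟨r'', h1, h2, h3, h4⟩ : ∃ r'' ∈ W, sympForm m F a r'' = 0 ∧
            r'' ∉ Submodule.span F {r, a} ∧ r'' ∉ Submodule.span F {r', a} := by
          by_cases e1 : x ∈ Submodule.span F {r', a}
          · by_cases e2 : y ∈ Submodule.span F {r, a}
            · refine ⟨x + y, add_mem hx hy, by rw [form_add_right, hxa, hya, add_zero],
                fun h => hxs ?_, fun h => hys ?_⟩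
              · simpa using sub_mem h e2
              · simpa using sub_mem h e1
            · exact ⟨y, hy, hya, e2, hys⟩
          · exact ⟨x, hx, hxa, hxs, e1⟩
        have hlne : ∀ r, r'' ∉ Submodule.span F {r, a} → r'' ∉ Submodule.span F {a} :=
          fun r h h' => h (Submodule.span_mono (by simp) h')
        have hR'' : R v r'' := by
          refine ⟨h1, ?_, hlne r h3, fun h => hlne r h3 ?_⟩
          · rw [← hl, form_sub_right, form_smul_right, form_eq_zero_comm.1 h2, mul_zero, sub_zero]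
          · exact Submodule.span_le.2 (by simpa using hline) h
        have hlink : ∀ r, R v r → r'' ∉ Submodule.span F {r, a} → StemVertex.Link σ K a v r r'' := by
          intro r hr hns
          have hane : a ∉ Submodule.span F {r, r''} := by
            intro h
            obtain ⟨α, β, hab⟩ := Submodule.mem_span_pair.1 h
            by_cases hβ : β = 0
            · rw [hβ, zero_smul, add_zero] at hab
              have hα : α ≠ 0 := fun e => ha0 (by rw [← hab, e, zero_smul])
              exact hr.2.2.1 (Submodule.mem_span_singleton.2 ⟨α⁻¹, by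
                rw [← hab, inv_smul_smul₀ hα]⟩)
            · refine hns (Submodule.mem_span_pair.2 ⟨-(α / β), β⁻¹, ?_⟩)
              rw [← hab, smul_add, smul_smul, smul_smul, inv_mul_cancel₀ hβ]
              module
          refine mkLink r r'' hr hR'' hane fun h => hane ?_
          have h' := Submodule.smul_mem _ l⁻¹ h
          rwa [← hl, inv_smul_smul₀ hl0] at h'
        exact ⟨r'', hR'', Relation.ReflTransGen.single ⟨hR'', hlink r hr h3⟩,
          Relation.ReflTransGen.single ⟨hR'', hlink r' hr' h4⟩⟩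
      · set L := Submodule.span F ({a, v} : Set 𝕍) with hL
        have haL : a ∈ L := Submodule.subset_span (by simp)
        have hvL : v ∈ L := Submodule.subset_span (by simp)
        have hdL : d ∈ L := sub_mem hvL haL
        have hdd : R v d := by
          refine ⟨hdW, form_self _, fun h => hline ?_, fun h => hline ?_⟩
          · simpa [hd] using add_mem h (Submodule.mem_span_singleton_self a)
          · obtain ⟨x, hx⟩ := Submodule.mem_span_singleton.1 h
            rw [hd, eq_sub_iff_add_eq, add_comm] at hx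
            have : a = (1 - x) • v := by
              rw [sub_smul, one_smul, eq_sub_iff_add_eq, hx]
            have hx1 : 1 - x ≠ 0 := fun e => ha0 (by rw [this, e, zero_smul])
            exact Submodule.mem_span_singleton.2 ⟨(1 - x)⁻¹, by rw [this, inv_smul_smul₀ hx1]⟩
        have hpair : ∀ {x y : 𝕍}, R v x → y ∈ W → sympForm m F y d = 0 →
            ∀ b ∈ L, b ∈ Submodule.span F {x, y} → b ∉ Submodule.span F {x} →
            (x ∈ L → y ∈ L) := by
          intro x y _ _ _ b hb hbs hbx hxL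
          obtain ⟨α, β, hab⟩ := Submodule.mem_span_pair.1 hbs
          by_cases hβ : β = 0
          · rw [hβ, zero_smul, add_zero] at hab
            exact absurd (Submodule.mem_span_singleton.2 ⟨α, hab⟩) hbx
          · have : y = β⁻¹ • (b - α • x) := by
              rw [← hab, add_sub_cancel_left, inv_smul_smul₀ hβ]
            rw [this]; exact L.smul_mem _ (sub_mem hb (L.smul_mem _ hxL))
        have hnx : ∀ {x : 𝕍}, R v x → a ∉ Submodule.span F {x} ∧ v ∉ Submodule.span F {x} := by
          intro x hx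
          constructor <;> intro h <;> obtain ⟨c, hc'⟩ := Submodule.mem_span_singleton.1 h
          · have : c ≠ 0 := fun e => ha0 (by rw [← hc', e, zero_smul])
            exact hx.2.2.1 (Submodule.mem_span_singleton.2 ⟨c⁻¹, by rw [← hc', inv_smul_smul₀ this]⟩)
          · have : c ≠ 0 := fun e => hv0 (by rw [← hc', e, zero_smul])
            exact hx.2.2.2 (Submodule.mem_span_singleton.2 ⟨c⁻¹, by rw [← hc', inv_smul_smul₀ this]⟩)
        have hout : ∀ x, R v x → x ∉ L → StemVertex.Link σ K a v x d := by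
          intro x hx hxL
          refine mkLink x d hx hdd (fun h => hxL ?_) (fun h => hxL ?_)
          · exact hpair (x := d) hdd hx.1 hx.2.1 a haL (by rwa [Set.pair_comm]) (hnx hdd).1 hdL
          · exact hpair (x := d) hdd hx.1 hx.2.1 v hvL (by rwa [Set.pair_comm]) (hnx hdd).2 hdL
        have hchain : ∀ x, R v x → Relation.ReflTransGen
            (fun x y => R v y ∧ StemVertex.Link σ K a v x y) x d := by
          intro x hx
          by_cases hxL : x ∈ L
          · obtain ⟨y, hy, hyd, hyL⟩ := exists_avoid (W := W) (Z := L)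
              (fun _ : Fin 1 => d) (by have := finrank_span_pair_le (F := F) a v; rw [hL]; omega)
            have hyd' : sympForm m F y d = 0 := form_eq_zero_comm.1 (hyd 0)
            have hRy : R v y := ⟨hy, hyd',
              fun h => hyL (Submodule.span_mono (by simp) h),
              fun h => hyL (Submodule.span_mono (by simp) h)⟩
            refine (Relation.ReflTransGen.single ⟨hRy, ?_⟩).tail ⟨hdd, hout y hRy hyL⟩
            exact mkLink x y hx hRy (fun h => hyL (hpair hx hy hyd' a haL h (hnx hx).1 hxL))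
              (fun h => hyL (hpair hx hy hyd' v hvL h (hnx hx).2 hxL))
          · exact Relation.ReflTransGen.single ⟨hdd, hout x hx hxL⟩
        exact ⟨d, hdd, hchain r hr, hchain r' hr'⟩
    · refine ⟨r', hr', Relation.ReflTransGen.single ⟨hr', ?_⟩, Relation.ReflTransGen.refl⟩
      refine ⟨lift p σ (transv d (sympForm m F a v)⁻¹), lift_mem_KS p σ ?_ _, lift_mem_KS p σ ?_ _, ?_⟩
      · exact Submodule.mem_inf.2 ⟨hdW, by rintro s rfl; exact hr.2.1⟩
      · exact Submodule.mem_inf.2 ⟨hdW, by rintro s rfl; exact hr'.2.1⟩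
      · rw [σ_lift p σ hs hZ]; exact transv_sub_smul hav
  · rintro _ ⟨e, he, c, rfl⟩ hfix
    rw [σ_lift p σ hs hZ, transv_smul, add_eq_left, smul_eq_zero, mul_eq_zero] at hfix
    rcases hfix with (h | h) | h
    · rw [h, transv_zero, lift_one hs hc hZ]; exact one_mem _
    · exact lift_mem_KS p σ (Submodule.mem_inf.2 ⟨he, by rintro s rfl; exact h⟩) c
    · rw [h, transv_vec_zero, lift_one hs hc hZ]; exact one_mem _
  · rintro _ ⟨e, he, c, rfl⟩ hfix v r ⟨hr, hrd, hra, hrv⟩
    rw [σ_lift p σ hs hZ] at hfix hrd hrv ⊢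
    set t := transv e c
    have hta : t⁻¹ • a = a := by rw [inv_smul_eq_iff, hfix]
    have hsp : ∀ x : 𝕍, t⁻¹ • r ∈ Submodule.span F {x} → r ∈ Submodule.span F {t • x} := by
      intro x h
      obtain ⟨b, hb⟩ := Submodule.mem_span_singleton.1 h
      exact Submodule.mem_span_singleton.2 ⟨b, by
        rw [← SymplecticSimple.scalar_smul, hb, smul_inv_smul]⟩
    refine ⟨transvGroup_maps (inv_mem (transv_mem_transvGroup he c)) hr, ?_, fun h => hra ?_,
      fun h => hrv (hsp v h)⟩
    · rw [← form_map t, smul_inv_smul, smul_sub, hfix]; exact hrd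
    · have := hsp a h; rwa [hfix] at this
  · rintro _ ⟨e, he, c, rfl⟩ hne v ⟨hv, hv0⟩
    rw [σ_lift p σ hs hZ] at hne ⊢
    have hea : sympForm m F e a ≠ 0 := fun h => hne (by
      rw [transv_smul, form_eq_zero_comm.1 h, mul_zero, zero_smul, add_zero])
    obtain ⟨r, hr, hr2, hrv⟩ := exists_avoid (W := W) (Z := Submodule.span F {v}) ![e, v - a]
      (by have := finrank_span_single_le (F := F) v; omega)
    have hre : sympForm m F r e = 0 := form_eq_zero_comm.1 (hr2 0)
    have hrd : sympForm m F r (v - a) = 0 := form_eq_zero_comm.1 (hr2 1)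
    have hr0 : r ≠ 0 := fun h => hrv (h ▸ zero_mem _)
    have hra : r ∉ Submodule.span F {a} := fun h => by
      obtain ⟨b, rfl⟩ := Submodule.mem_span_singleton.1 h
      rw [form_smul_left, mul_eq_zero] at hre
      rcases hre with rfl | h'
      · exact hr0 (zero_smul _ _)
      · exact hea (form_eq_zero_comm.1 h')
    have hfixr : transv e c • r = r := by rw [transv_smul, hre, mul_zero, zero_smul, add_zero]
    refine ⟨r, ⟨hr, hrd, hra, hrv⟩, ⟨hr, ?_, hra, fun h => ?_⟩,
      lift_mem_KS p σ (Submodule.mem_inf.2 ⟨he, by rintro s rfl; exact hre⟩) c⟩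
    · rw [form_sub_right] at hrd
      conv_lhs => rw [form_sub_right, ← hfixr, form_map, hfixr]
      exact hrd
    · obtain ⟨b, hb⟩ := Submodule.mem_span_singleton.1 h
      refine hrv (Submodule.mem_span_singleton.2 ⟨b, MulAction.injective (transv e c) ?_⟩)
      show transv e c • (b • v) = transv e c • r
      rw [SymplecticSimple.scalar_smul, hb, hfixr]
  · rintro _ ⟨e, he, c, rfl⟩
    exact ⟨e, he, -c, lift_inv p σ hs hc hZ e c⟩

theorem inj_tail : ∀ d k : ℕ, k + d = m → Inj p σ (tailSpace F m k) := by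
  intro d
  induction d with
  | zero =>
    intro k hk z hz _
    have : KS p σ (tailSpace F m k) ≤ ⊥ := by
      rw [KS, closure_le]
      rintro _ ⟨v, hv, c, rfl⟩
      rw [tailSpace_top (by omega) hv, transv_vec_zero, lift_one hs hc hZ]
      exact one_mem _
    exact Subgroup.mem_bot.1 (this hz)
  | succ d ih =>
    intro k hk
    rcases Nat.eq_zero_or_pos d with hd | hd
    · exact inj_plane p σ hs hc hZ (k := ⟨k, by omega⟩) (show k + 1 = m by omega)
    · exact inj_tail_step p σ hs hc hZ (k := ⟨k, by omega⟩) (show k + 2 ≤ m by omega)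
        (ih (k + 1) (by omega))

theorem ker_eq_bot (hd : σ.ker ≤ commutator Γ) : σ.ker = ⊥ := by
  set M := KS p σ (⊤ : Submodule F 𝕍)
  have hM : M.map σ = ⊤ := by rw [map_KS p σ hs hZ, transvGroup_top]
  have hcM : commutator Γ ≤ M := by
    rw [_root_.commutator_def, Subgroup.commutator_le]
    intro a _ b _
    obtain ⟨a', ha', hae⟩ := (hM ▸ mem_top (σ a) : σ a ∈ M.map σ)
    obtain ⟨b', hb', hbe⟩ := (hM ▸ mem_top (σ b) : σ b ∈ M.map σ)
    rw [StemPairing.bracket_congr hc hae.symm hbe.symm, commutatorElement_def]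
    exact mul_mem (mul_mem (mul_mem ha' hb') (inv_mem ha')) (inv_mem hb')
  rw [Subgroup.eq_bot_iff_forall]
  intro z hz
  refine inj_tail p σ hs hc hZ m 0 (zero_add m) z ?_ (MonoidHom.mem_ker.1 hz)
  rw [tailSpace_zero]
  exact hcM (hd hz)

end Cfsg.Agent.StemSpPrime
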