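import Cfsg.Agent.Lib.StemSUThree
import Cfsg.Agent.Lib.StemSpPrime
import Mathlib

/-!
Central extensions of `SU_4(q)` with kernel of order prime to `q`, generated by `p`-elements, are trivial.
-/

set_option autoImplicit false
set_option linter.unusedSectionVars false
set_option backward.isDefEq.respectTransparency false

namespace Cfsg.Agent.StemSUFour

open Matrix Subgroup
open Cfsg.Agent.OrthUnitaryHerm
open Cfsg.Agent.OrthUnitaryTransvection
open Cfsg.Agent.StemSUFrame
open Cfsg.Agent.StemSULifts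
open Cfsg.Agent.StemSUDiag
open Cfsg.Agent.StemLift (IsPElem)
open scoped commutatorElement

universe u v

variable {F : Type v} [Field F] [Fintype F] {q : ℕ}

/-- `Sp₄` over the fixed field inside `SU₄`. -/
theorem exists_sp4 (hF : Fintype.card F = q ^ 2) :
    ∃ (L : Type) (_ : Field L) (_ : Fintype L) (_ : L →+* F), Fintype.card L = q ∧
      ∃ ρ : Matrix.symplecticGroup (Fin 2) L →* SU 4 F q, Function.Injective ρ := by
  classical
  obtain ⟨L, iL, iL', ι, hcard, hι, -⟩ := UnitaryRootGroups.exists_subfield hF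
  refine ⟨L, iL, iL', ι, hcard, ?_⟩
  obtain ⟨φ, hφ⟩ := exists_frobHom hF
  obtain ⟨e, he0, he⟩ := exists_isotropic hF (le_refl 2)
  obtain ⟨f, hff, hfe, hef⟩ := exists_hyp hF he0 he
  obtain ⟨c, hc0, hc⟩ := exists_skew hF
  have hcq : c ^ q = -c := by linear_combination hc
  set g := c • f with hg
  have hgg : hermForm 2 F q g g = 0 := by rw [hg, herm_smul_left, herm_smul_right, hff]; ring
  have hge : hermForm 2 F q g e = c := by rw [hg, herm_smul_left, hfe, mul_one]
  have heg : hermForm 2 F q e g = -c := by rw [herm_conj hF g e, hge, hcq]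
  set col : Fin 2 ⊕ Fin 2 → (Fin 4 → F) :=
    Sum.elim ![![e 0, e 1, 0, 0], ![0, 0, e 0, e 1]] ![![g 0, g 1, 0, 0], ![0, 0, g 0, g 1]]
    with hcol
  have hg4 : ∀ s t, hermForm 4 F q (col s) (col t) = c * ι ((Matrix.J (Fin 2) L) s t) := by
    simp only [hermForm, Fin.sum_univ_two] at he hgg hge heg
    intro s t
    rcases s with i | i <;> rcases t with j | j <;> fin_cases i <;> fin_cases j <;>
      simp [hcol, hermForm, Fin.sum_univ_four, Matrix.J, Matrix.fromBlocks, zero_pow_q hF] <;>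
      first
        | linear_combination he
        | linear_combination hgg
        | linear_combination hge
        | linear_combination heg
  let ε : Fin 2 ⊕ Fin 2 ≃ Fin 4 := finSumFinEquiv
  let M : Matrix (Fin 4) (Fin 2 ⊕ Fin 2) F := Matrix.of fun i s => col s i
  let M' : Matrix (Fin 4) (Fin 4) F := M.submatrix id ε.symm
  let G : Matrix (Fin 2 ⊕ Fin 2) (Fin 2 ⊕ Fin 2) F := c • (Matrix.J (Fin 2) L).map ι
  have hGram : Mᵀ * M.map φ = G := by
    ext s t
    rw [Matrix.mul_apply]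
    simp only [Matrix.transpose_apply, Matrix.map_apply, M, G, Matrix.of_apply, Matrix.smul_apply,
      smul_eq_mul, hφ]
    exact hg4 s t
  have hGram' : M'ᵀ * M'.map φ = G.submatrix ε.symm ε.symm := by
    rw [← hGram]
    ext i j
    simp [M', Matrix.mul_apply]
  have hM'u : IsUnit M'.det := by
    have hJ : ((Matrix.J (Fin 2) L).map ι).det ≠ 0 := by
      rw [← RingHom.mapMatrix_apply, ← RingHom.map_det]
      intro h
      have h' := (map_eq_zero ι).1 h
      have := Matrix.J_det_mul_J_det (Fin 2) L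
      rw [h', mul_zero] at this
      exact zero_ne_one this
    refine Ne.isUnit fun h => ?_
    have hd := congrArg Matrix.det hGram'
    rw [Matrix.det_mul, Matrix.det_transpose, h, zero_mul, Matrix.det_submatrix_equiv_self,
      Matrix.det_smul] at hd
    exact mul_ne_zero (pow_ne_zero _ hc0) hJ hd.symm
  have hherm : ∀ (A : Matrix (Fin 4) (Fin 4) F) (x y : Fin 4 → F),
      hermForm 4 F q (A *ᵥ x) (A *ᵥ y) = x ⬝ᵥ ((Aᵀ * A.map φ) *ᵥ fun i => φ (y i)) := by
    intro A x y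
    have h1 : ∀ u v : Fin 4 → F, hermForm 4 F q u v = u ⬝ᵥ fun i => φ (v i) := fun u v => by
      simp [hermForm, dotProduct, hφ]
    rw [h1, show (fun i => φ ((A *ᵥ y) i)) = A.map φ *ᵥ fun i => φ (y i) from
      funext fun i => RingHom.map_mulVec φ A y i, ← Matrix.mulVec_mulVec, dotProduct_mulVec x,
      Matrix.vecMul_transpose]
  have hinv : ∀ y : Fin 4 → F, M' *ᵥ (M'⁻¹ *ᵥ y) = y := fun y => by
    rw [Matrix.mulVec_mulVec, Matrix.mul_nonsing_inv _ hM'u, Matrix.one_mulVec]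
  let S : Matrix.symplecticGroup (Fin 2) L →* Matrix (Fin 4) (Fin 4) F :=
    { toFun := fun A => (A.1.map ι).submatrix ε.symm ε.symm
      map_one' := by
        show ((1 : Matrix (Fin 2 ⊕ Fin 2) (Fin 2 ⊕ Fin 2) L).map ι).submatrix ε.symm ε.symm = 1
        rw [Matrix.map_one _ (map_zero ι) (map_one ι), Matrix.submatrix_one_equiv]
      map_mul' := fun A B => by
        show ((A.1 * B.1).map ι).submatrix ε.symm ε.symm = _
        rw [Matrix.map_mul, Matrix.submatrix_mul_equiv] }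
  have hSU : ∀ A, IsU q (M' * S A * M'⁻¹) := by
    intro A x y
    have hx : ∀ x, (M' * S A * M'⁻¹) *ᵥ x = (M' * S A) *ᵥ (M'⁻¹ *ᵥ x) := fun x =>
      (Matrix.mulVec_mulVec _ _ _).symm
    conv_rhs => rw [← hinv x, ← hinv y, hherm]
    rw [hx, hx, hherm]
    congr 2
    have hA : A.1ᵀ * Matrix.J (Fin 2) L * A.1 = Matrix.J (Fin 2) L := by
      have h := SymplecticGroup.mem_iff.1 (SymplecticGroup.transpose_mem A.2)
      rwa [Matrix.transpose_transpose] at h
    have hφι : (S A).map φ = S A := by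
      ext i j
      show φ (ι _) = ι _
      rw [hφ, hι]
    rw [Matrix.transpose_mul, Matrix.map_mul, hφι,
      show (S A)ᵀ * M'ᵀ * (M'.map φ * S A) = (S A)ᵀ * (M'ᵀ * M'.map φ) * S A by
        simp only [Matrix.mul_assoc], hGram']
    show ((A.1.map ι).submatrix ε.symm ε.symm)ᵀ * _ * (A.1.map ι).submatrix ε.symm ε.symm = _
    rw [Matrix.transpose_submatrix, Matrix.submatrix_mul_equiv, Matrix.submatrix_mul_equiv]
    congr 1
    simp only [G, Matrix.mul_smul, Matrix.smul_mul]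
    rw [← Matrix.transpose_map, ← Matrix.map_mul, ← Matrix.map_mul, hA]
  have hdet : ∀ A, (M' * S A * M'⁻¹).det = 1 := by
    intro A
    rw [Matrix.det_conj ((Matrix.isUnit_iff_isUnit_det M').2 hM'u)]
    show ((A.1.map ι).submatrix ε.symm ε.symm).det = 1
    rw [Matrix.det_submatrix_equiv_self, ← RingHom.mapMatrix_apply, ← RingHom.map_det,
      SymplecticGroup.det_eq_one A.2, map_one]
  let ρ : Matrix.symplecticGroup (Fin 2) L →* SU 4 F q :=
    { toFun := fun A => mkSU (M' * S A * M'⁻¹) (hdet A) (hSU A)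
      map_one' := by
        apply Subtype.ext; apply Subtype.ext
        show M' * S 1 * M'⁻¹ = 1
        rw [map_one, Matrix.mul_one, Matrix.mul_nonsing_inv _ hM'u]
      map_mul' := fun A B => by
        apply Subtype.ext; apply Subtype.ext
        show M' * S (A * B) * M'⁻¹ = (M' * S A * M'⁻¹) * (M' * S B * M'⁻¹)
        rw [map_mul]
        simp only [Matrix.mul_assoc, Matrix.nonsing_inv_mul_cancel_left _ _ hM'u] }
  refine ⟨ρ, fun A B h => ?_⟩
  have h1 : M' * S A * M'⁻¹ = M' * S B * M'⁻¹ := congrArg (fun g => g.1.1) h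
  have h2 : S A = S B := by
    have := congrArg (fun X => M'⁻¹ * X * M') h1
    simpa [Matrix.mul_assoc, Matrix.nonsing_inv_mul _ hM'u,
      Matrix.nonsing_inv_mul_cancel_left _ _ hM'u] using this
  apply Subtype.ext
  ext s t
  refine ι.injective ?_
  have h3 := congrFun (congrFun h2 (ε s)) (ε t)
  simpa [S] using h3

/-- The subgroup from `Sp₄` has no multiplier. -/
theorem sp4_spec (hF : Fintype.card F = q ^ 2) (p : ℕ) [Fact p.Prime] [CharP F p]
    {Γ : Type u} [Group Γ] [Finite Γ] (σ : Γ →* SU 4 F q) (hs : Function.Surjective σ)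
    (hc : σ.ker ≤ center Γ) (hZ : Nat.Coprime (Nat.card σ.ker) p) :
    ∃ H : Subgroup (SU 4 F q), StemBasic.KerFree σ H ∧
      Nat.card H = q ^ 4 * ((q ^ 2 - 1) * (q ^ 4 - 1)) := by
  obtain ⟨L, iL, iL', ι, hcard, ρ, hρ⟩ := exists_sp4 hF
  have : CharP L p := (RingHom.charP_iff ι ι.injective p).2 inferInstance
  set Lf : Subgroup Γ := closure {g | IsPElem p g ∧ σ g ∈ ρ.range}
  have hmap : Lf.map σ = ρ.range := by
    refine le_antisymm ?_ ?_
    · rw [Subgroup.map_le_iff_le_comap, closure_le]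
      exact fun g hg => hg.2
    · rw [MonoidHom.range_eq_map, ← SymplecticBasic.transvGroup_top,
        SymplecticBasic.transvGroup, MonoidHom.map_closure, closure_le]
      rintro _ ⟨_, ⟨v, -, c, rfl⟩, rfl⟩
      obtain ⟨g, hg, hgp⟩ := StemLift.exists_lift hs hZ
        ((StemSpStd.isPElem_transv p v c).map ρ)
      exact ⟨g, subset_closure ⟨hgp, ⟨_, hg.symm⟩⟩, hg⟩
  have hinj := inj_of_emb p σ hc hZ ρ hρ Lf
    (closure_mono fun g hg => ⟨hg.1, subset_closure hg⟩) hmap
    (fun Δ _ _ τ hτs hτc hτZ hτgen =>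
      StemSpPrime.ker_eq_bot p τ hτs hτc hτZ (StemSLnPrime.ker_le_commutator p hτZ hτgen))
  refine ⟨ρ.range, fun w hw hw1 => hinj w ?_ hw1, ?_⟩
  · refine (show (commutator (ρ.range.comap σ)).map (ρ.range.comap σ).subtype ≤ Lf from ?_) hw
    rw [Subgroup.map_le_iff_le_comap, _root_.commutator_def, Subgroup.commutator_le]
    intro a _ b _
    show ⁅(a : Γ), (b : Γ)⁆ ∈ Lf
    obtain ⟨a', ha', hae⟩ : ∃ a' ∈ Lf, σ a' = σ a := by
      exact hmap.ge a.2
    obtain ⟨b', hb', hbe⟩ : ∃ b' ∈ Lf, σ b' = σ b := by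
      exact hmap.ge b.2
    rw [StemPairing.bracket_congr hc hae.symm hbe.symm, commutatorElement_def]
    exact mul_mem (mul_mem (mul_mem ha' hb') (inv_mem ha')) (inv_mem hb')
  · rw [← Nat.card_congr (MonoidHom.ofInjective hρ).toEquiv,
      SymplecticOrder.card_symplectic hcard 2, Finset.prod_range_succ, Finset.prod_range_one]
    norm_num

/-- The `2`-part in odd characteristic. -/
theorem two_spec (hF : Fintype.card F = q ^ 2) (p : ℕ) [Fact p.Prime] [CharP F p]
    {Γ : Type u} [Group Γ] [Finite Γ] (σ : Γ →* SU 4 F q) (hs : Function.Surjective σ)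
    (hc : σ.ker ≤ center Γ) (hZ : Nat.Coprime (Nat.card σ.ker) p) (hodd : q % 2 = 1) :
    ∃ H : Subgroup (SU 4 F q), StemBasic.KerFree σ H ∧
      Nat.card H = (q * (q ^ 2 - 1)) * (q * (q ^ 2 - 1)) * (q + 1) * 2 := by
  classical
  set u : Fin 4 → (Fin 4 → F) := fun i => Pi.single i 1 with hu
  have huu : ∀ i, hermForm 4 F q (u i) (u i) ≠ 0 := fun i => by
    simp [hu, herm_single_right hF]
  have huo : ∀ i j, i ≠ j → hermForm 4 F q (u i) (u j) = 0 := fun i j h => by
    simp [hu, herm_single_right hF, Ne.symm h]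
  have hne : ∀ i j, ∀ k : Fin 2, hermForm 4 F q (![u i, u j] k) (![u i, u j] k) ≠ 0 := fun i j k => by
    fin_cases k
    · exact huu i
    · exact huu j
  have ho : ∀ i j, i ≠ j → ∀ k l : Fin 2, k ≠ l →
      hermForm 4 F q (![u i, u j] k) (![u i, u j] l) = 0 := fun i j h k l hkl => by
    fin_cases k <;> fin_cases l <;>
      first | exact absurd rfl hkl | exact huo i j h | exact huo j i (Ne.symm h)
  have hfix : ∀ i j, i ≠ j → ∀ g : SU 4 F q, act g (u i) = u i → act g (u j) = u j →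
      g ∈ Fix q p (Set.range ![u i, u j]) := fun i j h g h1 h2 =>
    fix_gen hF p 2 4 2 rfl (StemSUGen.pgen hF p (by omega)) _ (hne i j) (ho i j h) g
      (fun k => by fin_cases k; exacts [h1, h2])
  have hinjK : ∀ i j, i ≠ j → Inj p σ (Set.range ![u i, u j]) := fun i j h =>
    inj_K p σ hs hc hZ hF (k := 2) (m := 2) rfl (StemSUGen.pgen hF p (by omega))
      (StemSUTwo.ptriv_two hF p) _ (hne i j) (ho i j h)
  set SA : Set (Fin 4 → F) := Set.range ![u 2, u 3] with hSA
  set SB : Set (Fin 4 → F) := Set.range ![u 0, u 1] with hSB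
  have hcoord : ∀ (g : SU 4 F q) (i : Fin 4), act g (u i) = u i → ∀ x, act g x i = x i := by
    intro g i h x
    rw [← herm_single_right hF i (act g x), ← show u i = Pi.single i 1 from rfl]
    conv_lhs => rw [← h, herm_act]
    exact herm_single_right hF i x
  have hsplit : ∀ x : Fin 4 → F, x = (x 0 • u 0 + x 1 • u 1) + (x 2 • u 2 + x 3 • u 3) := fun x => by
    funext i; fin_cases i <;> simp [hu]
  have hA23 : ∀ g : SU 4 F q, (∀ s ∈ SA, act g s = s) → act g (u 2) = u 2 ∧ act g (u 3) = u 3 := fun g h =>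
    ⟨h _ ⟨0, rfl⟩, h _ ⟨1, rfl⟩⟩
  have hB01 : ∀ g : SU 4 F q, (∀ s ∈ SB, act g s = s) → act g (u 0) = u 0 ∧ act g (u 1) = u 1 := fun g h =>
    ⟨h _ ⟨0, rfl⟩, h _ ⟨1, rfl⟩⟩
  have hcomm : ∀ g h : SU 4 F q, (∀ s ∈ SA, act g s = s) → (∀ s ∈ SB, act h s = s) → Commute g h := by
    intro g h hg hh
    obtain ⟨g2, g3⟩ := hA23 g hg
    obtain ⟨h0, h1⟩ := hB01 h hh
    refine su_ext fun x => ?_
    have eh : ∀ y : Fin 4 → F, y 0 = 0 → y 1 = 0 → act g (act h y) = act h y := by
      intro y y0 y1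
      rw [hsplit (act h y), hcoord h 0 h0, hcoord h 1 h1, y0, y1]
      simp only [zero_smul, add_zero, zero_add, act_add, act_smul, g2, g3]
    have eg : ∀ y : Fin 4 → F, y 2 = 0 → y 3 = 0 → act h (act g y) = act g y := by
      intro y y2 y3
      rw [hsplit (act g y), hcoord g 2 g2, hcoord g 3 g3, y2, y3]
      simp only [zero_smul, add_zero, act_add, act_smul, h0, h1]
    have z1 : act h (x 0 • u 0 + x 1 • u 1) = x 0 • u 0 + x 1 • u 1 := by
      simp only [act_add, act_smul, h0, h1]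
    have z2 : act g (x 2 • u 2 + x 3 • u 3) = x 2 • u 2 + x 3 • u 3 := by
      simp only [act_add, act_smul, g2, g3]
    rw [act_mul, act_mul]
    conv_lhs => rw [hsplit x, act_add, act_add, z1]
    conv_rhs => rw [hsplit x, act_add, act_add, z2]
    rw [eh _ (by simp [hu]) (by simp [hu]), eg _ (by simp [hu]) (by simp [hu])]
  -- the lifted block subgroup
  set MA := K p σ SA
  set MB := K p σ SB
  have hlift : MA ≤ centralizer (MB : Set Γ) := by
    refine (closure_le _).2 fun x hx => mem_centralizer_iff.2 fun y hy => ?_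
    have hle : MB ≤ centralizer {x} := by
      refine (closure_le _).2 fun y hy => mem_centralizer_singleton_iff.2 ?_
      refine mul_inv_eq_iff_eq_mul.1 (StemLift.lift_unique hc hZ ?_ (hy.1.conj x) hy.1) |>.symm
      rw [map_mul, map_mul, map_inv, (hcomm _ _ hx.2 hy.2).eq, mul_inv_cancel_right]
    exact mem_centralizer_singleton_iff.1 (hle hy)
  have hMdec : ∀ z ∈ MA ⊔ MB, ∃ x ∈ MA, ∃ y ∈ MB, z = x * y := by
    intro z hz
    rw [sup_eq_closure] at hz
    induction hz using closure_induction with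
    | mem z hz =>
      rcases hz with hz | hz
      · exact ⟨z, hz, 1, one_mem _, (mul_one z).symm⟩
      · exact ⟨1, one_mem _, z, hz, (one_mul z).symm⟩
    | one => exact ⟨1, one_mem _, 1, one_mem _, (mul_one _).symm⟩
    | mul a b _ _ ha hb =>
      obtain ⟨x, hx, y, hy, rfl⟩ := ha
      obtain ⟨x', hx', y', hy', rfl⟩ := hb
      refine ⟨x * x', mul_mem hx hx', y * y', mul_mem hy hy', ?_⟩
      rw [mul_assoc x y, ← mul_assoc y x', mem_centralizer_iff.1 (hlift hx') y hy]
      group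
    | inv a _ ha =>
      obtain ⟨x, hx, y, hy, rfl⟩ := ha
      refine ⟨x⁻¹, inv_mem hx, y⁻¹, inv_mem hy, ?_⟩
      rw [_root_.mul_inv_rev, mem_centralizer_iff.1 (hlift (inv_mem hx)) y⁻¹ (inv_mem hy)]
  have hinj : ∀ z ∈ MA ⊔ MB, σ z = 1 → z = 1 := by
    intro z hz hz1
    obtain ⟨x, hx, y, hy, rfl⟩ := hMdec z hz
    rw [map_mul] at hz1
    obtain ⟨x2, x3⟩ := hA23 _ (σ_K_act p σ hx)
    obtain ⟨y0, y1⟩ := hB01 _ (σ_K_act p σ hy)
    have hxy : σ y = (σ x)⁻¹ := eq_inv_of_mul_eq_one_right hz1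
    have hy1 : σ y = 1 := su_ext fun v => by
      rw [act_one]
      conv_lhs => rw [hsplit v]
      conv_rhs => rw [hsplit v]
      have e : ∀ w, act (σ x) w = w → act (σ x)⁻¹ w = w := fun w hw => by
        conv_lhs => rw [← hw, act_inv_act]
      simp only [act_add, act_smul, y0, y1]
      rw [hxy, e _ x2, e _ x3]
    rw [hy1, mul_one] at hz1
    rw [hinjK 2 3 (by decide) x hx hz1, hinjK 0 1 (by decide) y hy hy1, one_mul]
  set M := MA ⊔ MB
  have hMmem : ∀ g : SU 4 F q, g ∈ M.map σ ↔ ∃ g1 g2, (∀ s ∈ SA, act g1 s = s) ∧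
      (∀ s ∈ SB, act g2 s = s) ∧ g = g1 * g2 := by
    intro g
    constructor
    · rintro ⟨z, hz, rfl⟩
      obtain ⟨x, hx, y, hy, rfl⟩ := hMdec z hz
      exact ⟨σ x, σ y, σ_K_act p σ hx, σ_K_act p σ hy, map_mul σ x y⟩
    · rintro ⟨g1, g2, h1, h2, rfl⟩
      obtain ⟨a, b⟩ := hA23 g1 h1
      obtain ⟨c, d⟩ := hB01 g2 h2
      obtain ⟨x, hx, rfl⟩ := exists_lift_Fix p σ hs hZ (hfix 2 3 (by decide) g1 a b)
      obtain ⟨y, hy, rfl⟩ := exists_lift_Fix p σ hs hZ (hfix 0 1 (by decide) g2 c d)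
      exact ⟨x * y, mul_mem (mem_sup_left hx) (mem_sup_right hy), map_mul σ x y⟩
  -- the elements `a` and `b`
  obtain ⟨α, hα, hαo, -⟩ := exists_normOne_gen hF
  have hα0 : α ≠ 0 := fun e => by rw [e, zero_pow (Nat.succ_ne_zero q)] at hα; exact zero_ne_one hα
  set m := (q + 1) / 2
  have hqm : q + 1 = 2 * m := by omega
  have hαm : α ^ m = -1 := by
    have hsq : α ^ m * α ^ m = 1 := by rw [← pow_add, ← two_mul, ← hqm, hα]
    refine (mul_self_eq_one_iff.1 hsq).resolve_left fun h => ?_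
    have := Nat.le_of_dvd (by omega) (hαo ▸ orderOf_dvd_of_pow_eq_one h)
    omega
  have hneg1 : (-1 : F) ^ (q + 1) = 1 := by rw [hqm, pow_mul, neg_one_sq, one_pow]
  set a := dg (q := q) ![α, 1, α⁻¹, 1] (fun i => by fin_cases i <;> simp [hα])
    (by simp [Fin.prod_univ_four, hα0]) with hadef
  set π : Equiv.Perm (Fin 4) := Equiv.swap 0 2 * Equiv.swap 1 3 with hπ
  set db : Fin 4 → F := ![1, 1, -1, -1] with hdb
  have hdbn : ∀ i, db i ^ (q + 1) = 1 := fun i => by fin_cases i <;> simp [hdb, hneg1]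
  have hπs : Equiv.Perm.sign π = 1 := by rw [hπ]; decide
  set b : SU 4 F q := mkSU (monMat π db) (by rw [det_monMat, hπs]; simp [Fin.prod_univ_four, hdb])
    (isU_monMat _ hdbn) with hbdef
  have hb : ∀ x, act b x = ![-x 2, -x 3, x 0, x 1] := fun x => funext fun i => by
    show (monMat π db *ᵥ x) i = _
    rw [monMat_mulVec]
    fin_cases i <;> simp [hπ, hdb, Equiv.swap_apply_of_ne_of_ne]
  have ha : ∀ (k : ℕ) x i, act (a ^ k) x i = ![α ^ k, 1, (α⁻¹) ^ k, 1] i * x i := by
    intro k x i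
    rw [hadef, dg_pow]
    fin_cases i <;> simp
  have ha1 : ∀ x i, act a x i = ![α, 1, α⁻¹, 1] i * x i := fun x i => dg_act _ _ _ x i
  set H := M.map σ ⊔ closure {a, b} with hHdef
  -- the normaliser
  have hMnorm : ∀ γ : Γ, (σ γ = a ∨ σ γ = b) → γ ∈ Subgroup.normalizer (M : Set Γ) := by
    intro γ hγ
    refine Subgroup.mem_normalizer_fintype fun z hz => ?_
    have hKA : ∀ x ∈ MA, γ * x * γ⁻¹ ∈ M := by
      intro x hx
      have h := K_conj p σ γ hx
      rcases hγ with e | e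
      · refine mem_sup_left (K_mono p σ (fun g hg => ?_) h)
        have h2 : ∀ k : Fin 2, act (σ γ) (![u 2, u 3] k) = ![α⁻¹, 1] k • ![u 2, u 3] k := by
          intro k; funext i
          rw [e, ha1]
          fin_cases k <;> fin_cases i <;> simp [hu]
        rintro _ ⟨k, rfl⟩
        have h3 := hg _ ⟨![u 2, u 3] k, ⟨k, rfl⟩, rfl⟩
        rw [h2, act_smul] at h3
        exact smul_right_injective _ (by fin_cases k <;> simp [hα0]) h3
      · refine mem_sup_right (K_mono p σ (fun g hg => ?_) h)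
        have h2 : ∀ k : Fin 2, act (σ γ) (![u 2, u 3] k) = (-1 : F) • ![u 0, u 1] k := by
          intro k; funext i
          rw [e, hb]
          fin_cases k <;> fin_cases i <;> simp [hu]
        rintro _ ⟨k, rfl⟩
        have h3 := hg _ ⟨![u 2, u 3] k, ⟨k, rfl⟩, rfl⟩
        rw [h2, act_smul] at h3
        exact smul_right_injective _ (neg_ne_zero.2 one_ne_zero) h3
    have hKB : ∀ x ∈ MB, γ * x * γ⁻¹ ∈ M := by
      intro x hx
      have h := K_conj p σ γ hx
      rcases hγ with e | e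
      · refine mem_sup_right (K_mono p σ (fun g hg => ?_) h)
        have h2 : ∀ k : Fin 2, act (σ γ) (![u 0, u 1] k) = ![α, 1] k • ![u 0, u 1] k := by
          intro k; funext i
          rw [e, ha1]
          fin_cases k <;> fin_cases i <;> simp [hu]
        rintro _ ⟨k, rfl⟩
        have h3 := hg _ ⟨![u 0, u 1] k, ⟨k, rfl⟩, rfl⟩
        rw [h2, act_smul] at h3
        exact smul_right_injective _ (by fin_cases k <;> simp [hα0]) h3
      · refine mem_sup_left (K_mono p σ (fun g hg => ?_) h)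
        have h2 : ∀ k : Fin 2, act (σ γ) (![u 0, u 1] k) = ![u 2, u 3] k := by
          intro k; funext i
          rw [e, hb]
          fin_cases k <;> fin_cases i <;> simp [hu]
        rintro _ ⟨k, rfl⟩
        have h3 := hg _ ⟨![u 0, u 1] k, ⟨k, rfl⟩, rfl⟩
        rwa [h2] at h3
    obtain ⟨x, hx, y, hy, rfl⟩ := hMdec z hz
    rw [show γ * (x * y) * γ⁻¹ = (γ * x * γ⁻¹) * (γ * y * γ⁻¹) by group]
    exact mul_mem (hKA x hx) (hKB y hy)
  have hHN : H ≤ (Subgroup.normalizer (M : Set Γ)).map σ := by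
    refine sup_le (Subgroup.map_mono Subgroup.le_normalizer) ((closure_le _).2 ?_)
    rintro g (rfl | rfl) <;> obtain ⟨γ, hγ⟩ := hs _
    · exact ⟨γ, hMnorm γ (Or.inl hγ), hγ⟩
    · exact ⟨γ, hMnorm γ (Or.inr hγ), hγ⟩
  have hnorm : ∀ g, σ g ∈ H → ∀ x ∈ M, g * x * g⁻¹ ∈ M := by
    intro g hg x hx
    obtain ⟨g', hg', he⟩ := hHN hg
    obtain ⟨z, hz, rfl⟩ := StemBasic.exists_ker_mul (σ := σ) (a := g) (b := g') he.symm
    rw [show g' * z * x * (g' * z)⁻¹ = g' * (z * x * z⁻¹) * g'⁻¹ by group,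
      ← StemBasic.ker_comm hc hz x, mul_inv_cancel_right]
    exact (Subgroup.mem_normalizer_iff.1 hg' x).1 hx
  have hbb : b * b ∈ M.map σ := by
    refine (hMmem _).2 ⟨dg (q := q) ![-1, -1, 1, 1] (fun i => by fin_cases i <;> simp [hneg1])
      (by simp [Fin.prod_univ_four]), dg (q := q) ![1, 1, -1, -1]
      (fun i => by fin_cases i <;> simp [hneg1]) (by simp [Fin.prod_univ_four]), ?_, ?_, ?_⟩
    · rintro _ ⟨k, rfl⟩
      funext i; rw [dg_act]
      fin_cases k <;> fin_cases i <;> simp [hu]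
    · rintro _ ⟨k, rfl⟩
      funext i; rw [dg_act]
      fin_cases k <;> fin_cases i <;> simp [hu]
    · refine su_ext fun x => funext fun i => ?_
      rw [act_mul, act_mul, hb, hb, dg_act, dg_act]
      fin_cases i <;> simp
  have hab : b * a * b⁻¹ = a⁻¹ := by
    rw [mul_inv_eq_iff_eq_mul, eq_inv_mul_iff_mul_eq]
    refine su_ext fun x => funext fun i => ?_
    rw [act_mul, act_mul, ha1, hb, hb, ha1, ha1]
    fin_cases i <;> simp [hα0, ha1]
  have hbr : StemStep.br hs b (a ^ m) = 1 := by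
    set S : Set (SU 4 F q) := {y : ↥(SU 4 F q) | IsPElem p y ∧ Commute (a ^ m) y}
    have hsub : ∀ i j, i ≠ j → (∀ y, act y (u i) = u i → act y (u j) = u j → Commute (a ^ m) y) →
        ∀ g, act g (u i) = u i → act g (u j) = u j → g ∈ closure S := fun i j h hcom g h1 h2 =>
      (show Fix q p (Set.range ![u i, u j]) ≤ closure S from
        closure_mono fun y hy => ⟨hy.1, hcom y (hy.2 _ ⟨0, rfl⟩) (hy.2 _ ⟨1, rfl⟩)⟩)
        (hfix i j h g h1 h2)
    have hval : ∀ x, act (a ^ m) x = ![-x 0, x 1, -x 2, x 3] := fun x => funext fun i => by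
      rw [ha]
      fin_cases i <;> simp [hαm, inv_pow]
    have hc13 : ∀ y, act y (u 1) = u 1 → act y (u 3) = u 3 → Commute (a ^ m) y := by
      intro y h1 h3
      refine su_ext fun x => ?_
      rw [act_mul, act_mul]
      have e : ![-x 0, x 1, -x 2, x 3] = (-1 : F) • x + ((2 : F) * x 1) • u 1 + ((2 : F) * x 3) • u 3 := by
        funext i; fin_cases i <;> simp [hu] <;> ring
      have c1 := hcoord y 1 h1 x
      have c3 := hcoord y 3 h3 x
      rw [hval x, e, act_add, act_add, act_smul, act_smul, act_smul, h1, h3, hval]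
      funext i; fin_cases i <;> simp [hu, c1, c3] <;> ring
    have hc02 : ∀ y, act y (u 0) = u 0 → act y (u 2) = u 2 → Commute (a ^ m) y := by
      intro y h0 h2
      refine su_ext fun x => ?_
      rw [act_mul, act_mul]
      have e : ![-x 0, x 1, -x 2, x 3] = x + (-((2 : F) * x 0)) • u 0 + (-((2 : F) * x 2)) • u 2 := by
        funext i; fin_cases i <;> simp [hu] <;> ring
      have c0 := hcoord y 0 h0 x
      have c2 := hcoord y 2 h2 x
      rw [hval x, e, act_add, act_add, act_smul, act_smul, h0, h2, hval]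
      funext i; fin_cases i <;> simp [hu, c0, c2] <;> ring
    set b1 : SU 4 F q := mkSU (monMat (Equiv.swap 0 2) ![1, 1, -1, 1])
      (by rw [det_monMat, Equiv.Perm.sign_swap (by decide)]; simp [Fin.prod_univ_four])
      (isU_monMat _ (fun i => by fin_cases i <;> simp [hneg1]))
    set b2 : SU 4 F q := mkSU (monMat (Equiv.swap 1 3) ![1, 1, 1, -1])
      (by rw [det_monMat, Equiv.Perm.sign_swap (by decide)]; simp [Fin.prod_univ_four])
      (isU_monMat _ (fun i => by fin_cases i <;> simp [hneg1]))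
    have hb1 : ∀ x, act b1 x = ![-x 2, x 1, x 0, x 3] := fun x => funext fun i => by
      show (monMat _ _ *ᵥ x) i = _
      rw [monMat_mulVec]
      fin_cases i <;> simp [Equiv.swap_apply_of_ne_of_ne]
    have hb2 : ∀ x, act b2 x = ![x 0, -x 3, x 2, x 1] := fun x => funext fun i => by
      show (monMat _ _ *ᵥ x) i = _
      rw [monMat_mulVec]
      fin_cases i <;> simp [Equiv.swap_apply_of_ne_of_ne]
    have hbe : b = b1 * b2 := su_ext fun x => by
      rw [act_mul, hb, hb1, hb2]; simp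
    have hbS : b ∈ closure S := by
      rw [hbe]
      refine mul_mem (hsub 1 3 (by decide) hc13 b1 ?_ ?_) (hsub 0 2 (by decide) hc02 b2 ?_ ?_) <;>
        (funext i; simp only [hb1, hb2]; fin_cases i <;> simp [hu])
    rw [← StemStep.br_inv, StemSUBaseTools.br_eq_one_of_closure hs hc hZ (S := S)
      (fun y hy => ⟨hy.1, hy.2⟩) hbS, inv_one]
  have hazero : ∀ k : ℕ, a ^ k ∈ M.map σ → α ^ k = 1 := by
    intro k hk
    obtain ⟨g1, g2, h1, h2, he⟩ := (hMmem _).1 hk
    obtain ⟨g12, g13⟩ := hA23 g1 h1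
    obtain ⟨g20, g21⟩ := hB01 g2 h2
    have e0 : act g1 (u 0) = α ^ k • u 0 := by
      have := congrArg (fun g => act g (u 0)) he
      simp only [act_mul, g20] at this
      rw [← this]; funext i; rw [ha]; fin_cases i <;> simp [hu]
    have e1 : act g1 (u 1) = u 1 := by
      have := congrArg (fun g => act g (u 1)) he
      simp only [act_mul, g21] at this
      rw [← this]; funext i; rw [ha]; fin_cases i <;> simp [hu]
    have hmat : (g1 : Matrix.SpecialLinearGroup (Fin 4) F).1 = monMat 1 ![α ^ k, 1, 1, 1] := by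
      refine Matrix.ext_of_mulVec_single fun j => ?_
      show act g1 (u j) = monMat 1 _ *ᵥ u j
      funext i
      rw [monMat_mulVec]
      fin_cases j
      · rw [show (⟨0, by omega⟩ : Fin 4) = 0 from rfl, e0]; fin_cases i <;> simp [hu]
      · rw [show (⟨1, by omega⟩ : Fin 4) = 1 from rfl, e1]; fin_cases i <;> simp [hu]
      · rw [show (⟨2, by omega⟩ : Fin 4) = 2 from rfl, g12]; fin_cases i <;> simp [hu]
      · rw [show (⟨3, by omega⟩ : Fin 4) = 3 from rfl, g13]; fin_cases i <;> simp [hu]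
    have hd := (g1 : Matrix.SpecialLinearGroup (Fin 4) F).2
    rw [hmat, det_monMat] at hd
    simpa [Fin.prod_univ_four] using hd
  have haord : a ^ (q + 1) = 1 := su_ext fun x => funext fun i => by
    rw [ha, act_one]; fin_cases i <;> simp [hα, inv_pow]
  have hdiv : ∀ i : ℤ, a ^ (2 * i) ∈ M.map σ → (m : ℤ) ∣ i := by
    intro i hi
    have hpos : (0 : ℤ) < (q + 1 : ℕ) := by exact_mod_cast Nat.succ_pos q
    set j := ((2 * i) % (q + 1 : ℕ)).toNat with hj
    have hjc : (j : ℤ) = (2 * i) % (q + 1 : ℕ) := Int.toNat_of_nonneg (Int.emod_nonneg _ hpos.ne')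
    have hmem : a ^ j ∈ M.map σ := by
      rwa [← zpow_natCast, hjc, show a ^ ((2 * i) % (q + 1 : ℕ)) = a ^ (2 * i) by
        conv_rhs => rw [← Int.mul_ediv_add_emod (2 * i) (q + 1 : ℕ)]
        rw [_root_.zpow_add, _root_.zpow_mul, zpow_natCast, haord, _root_.one_zpow, one_mul]]
    have hdvd := orderOf_dvd_of_pow_eq_one (hazero j hmem)
    rw [hαo] at hdvd
    have hj0 : j = 0 := Nat.eq_zero_of_dvd_of_lt hdvd (by
      have := Int.emod_lt_of_pos (2 * i) hpos
      omega)
    have h2 : ((q + 1 : ℕ) : ℤ) ∣ 2 * i := Int.dvd_of_emod_eq_zero (by rw [← hjc, hj0]; rfl)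
    rw [hqm, Nat.cast_mul, Nat.cast_two] at h2
    exact (mul_dvd_mul_iff_left (two_ne_zero : (2 : ℤ) ≠ 0)).1 h2
  refine ⟨H, StemSUBaseTools.kerFree_invert hs hc M hinj a b hHdef hnorm m hab hbr hdiv, ?_⟩
  -- the order
  have hcl : closure ({a, b} : Set (SU 4 F q)) = zpowers a ⊔ zpowers b := by
    rw [zpowers_eq_closure, zpowers_eq_closure, ← Subgroup.closure_union]; rfl
  have hMn : ∀ g ∈ H, g ∈ Subgroup.normalizer ((M.map σ : Subgroup _) : Set (SU 4 F q)) := by
    intro g hg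
    refine Subgroup.mem_normalizer_fintype fun x hx => ?_
    obtain ⟨γ, rfl⟩ := hs g
    obtain ⟨z, hz, rfl⟩ := hx
    exact ⟨γ * z * γ⁻¹, hnorm γ hg z hz, by simp⟩
  have haH : a ∈ H := mem_sup_right (subset_closure (by simp))
  have hbH : b ∈ H := mem_sup_right (subset_closure (by simp))
  rw [hHdef, hcl, ← sup_assoc]
  rw [card_sup_zpowers _ b two_pos (by rw [pow_two]; exact mem_sup_left hbb) ?_ ?_,
    card_sup_zpowers _ a (Nat.succ_pos q) (by rw [haord]; exact one_mem _) (hMn a haH) ?_]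
  · congr 2
    obtain ⟨ρA, hρAi, hρA⟩ := exists_emb hF 2 4 2 rfl ![u 2, u 3] (hne 2 3) (ho 2 3 (by decide))
    obtain ⟨ρB, hρBi, hρB⟩ := exists_emb hF 2 4 2 rfl ![u 0, u 1] (hne 0 1) (ho 0 1 (by decide))
    have hiffA : ∀ g, g ∈ ρA.range ↔ ∀ s ∈ SA, act g s = s := fun g =>
      (hρA g).trans ⟨fun h s hs' => by obtain ⟨k, rfl⟩ := hs'; exact h k, fun h k => h _ ⟨k, rfl⟩⟩
    have hiffB : ∀ g, g ∈ ρB.range ↔ ∀ s ∈ SB, act g s = s := fun g =>
      (hρB g).trans ⟨fun h s hs' => by obtain ⟨k, rfl⟩ := hs'; exact h k, fun h k => h _ ⟨k, rfl⟩⟩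
    let f : ρA.range × ρB.range → ↥(M.map σ) := fun x => ⟨x.1 * x.2,
      (hMmem _).2 ⟨x.1, x.2, (hiffA _).1 x.1.2, (hiffB _).1 x.2.2, rfl⟩⟩
    have hf : Function.Bijective f := by
      refine ⟨?_, ?_⟩
      · rintro ⟨⟨g1, k1⟩, ⟨g2, k2⟩⟩ ⟨⟨g1', k1'⟩, ⟨g2', k2'⟩⟩ h
        have h' : g1 * g2 = g1' * g2' := congrArg Subtype.val h
        have h1 : g1'⁻¹ * g1 = g2' * g2⁻¹ := by
          rw [inv_mul_eq_iff_eq_mul, ← mul_assoc, ← h', mul_inv_cancel_right]
        have hA' := (hiffA _).1 (mul_mem (inv_mem k1') k1)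
        have hB' := (hiffB _).1 (mul_mem k2' (inv_mem k2))
        have hone : g1'⁻¹ * g1 = 1 := su_ext fun x => by
          obtain ⟨a2, a3⟩ := hA23 _ hA'
          obtain ⟨b0, b1⟩ := hB01 _ hB'
          rw [← h1] at b0 b1
          rw [act_one]
          conv_lhs => rw [hsplit x]
          conv_rhs => rw [hsplit x]
          simp only [act_add, act_smul, b0, b1, a2, a3]
        rw [inv_mul_eq_one] at hone
        subst hone
        exact Prod.ext rfl (Subtype.ext (mul_left_cancel h'))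
      · rintro ⟨g, hg⟩
        obtain ⟨g1, g2, h1, h2, rfl⟩ := (hMmem g).1 hg
        exact ⟨(⟨g1, (hiffA _).2 h1⟩, ⟨g2, (hiffB _).2 h2⟩), rfl⟩
    rw [← Nat.card_eq_of_bijective f hf, Nat.card_prod,
      ← Nat.card_congr (MonoidHom.ofInjective hρAi).toEquiv,
      ← Nat.card_congr (MonoidHom.ofInjective hρBi).toEquiv, StemSUBaseTools.card_SU_two hF]
  · intro i hi hmem
    have := orderOf_dvd_of_pow_eq_one (hazero i hmem)
    rw [hαo] at this
    exact Nat.eq_zero_of_dvd_of_lt this hi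
  · -- `b` normalises `σ M ⊔ ⟨a⟩`
    refine Subgroup.mem_normalizer_fintype fun x hx => ?_
    have hle : M.map σ ⊔ zpowers a ≤
        (M.map σ ⊔ zpowers a).comap (MulAut.conj b).toMonoidHom := by
      refine sup_le (fun y hy => ?_) (zpowers_le.2 ?_)
      · exact mem_sup_left ((Subgroup.mem_normalizer_iff.1 (hMn b hbH) y).1 hy)
      · rw [Subgroup.mem_comap]
        show b * a * b⁻¹ ∈ _
        rw [hab]; exact mem_sup_right (inv_mem (mem_zpowers a))
    exact hle hx
  · intro i hi hmem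
    interval_cases i
    · rfl
    · exfalso
      rw [pow_one] at hmem
      obtain ⟨l, hl, j, -, hje⟩ := exists_mul_pow _ a (Nat.succ_pos q)
        (by rw [haord]; exact one_mem _) (hMn a haH) hmem
      obtain ⟨g1, g2, h1, h2, rfl⟩ := (hMmem l).1 hl
      have := congrArg (fun g => act g (u 0) 2) hje
      simp only [act_mul, hb] at this
      rw [show act (a ^ j) (u 0) = α ^ j • u 0 from funext fun i => by
        rw [ha]; fin_cases i <;> simp [hu], act_smul, act_smul, (hB01 g2 h2).1, Pi.smul_apply,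
        hcoord g1 2 (hA23 g1 h1).1] at this
      simp [hu] at this

theorem ptriv_four (hF : Fintype.card F = q ^ 2) (p : ℕ) [Fact p.Prime] [CharP F p] :
    PTriv.{u} p 4 F q := by
  intro Γ _ _ σ hs hc hZ hgen
  have hσ : Cfsg.IsStemExtension σ := ⟨hs, hc, StemSLnPrime.ker_le_commutator p hZ hgen⟩
  refine StemBasic.ker_eq_bot_of_primes fun ℓ hl z hz ho => ?_
  have hp : p.Prime := Fact.out
  have hlp : ℓ ≠ p := by
    rintro rfl
    exact hl.ne_one (Nat.eq_one_of_dvd_coprimes hZ (ho ▸ StemBasic.orderOf_dvd_card_ker hz) dvd_rfl)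
  have hlq : ¬ ℓ ∣ q := by
    obtain ⟨p', f, hp', hcp, hf, hqf⟩ := exists_prime_pow hF
    obtain rfl : p = p' := CharP.eq F ‹CharP F p› hcp
    rw [hqf]
    exact fun h => hlp ((Nat.prime_dvd_prime_iff_eq hl hp).1 (hl.dvd_of_dvd_pow h))
  have hz1 : z ≠ 1 := fun h => by rw [h, orderOf_one] at ho; exact hl.ne_one ho.symm
  have kill : ∀ H : Subgroup (SU 4 F q), StemBasic.KerFree σ H → ¬ ℓ ∣ H.index → False :=
    fun H hH hH' => hz1 (StemBasic.eq_one_of_kerFree hσ hH hz
      (by rw [ho]; exact hl.coprime_iff_not_dvd.2 hH'))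
  obtain ⟨t, rfl⟩ : ∃ t, q = t + 2 := ⟨q - 2, by have := two_le_q hF; omega⟩
  have e2 : (t + 2) ^ 2 - 1 = (t + 1) * (t + 3) := Nat.sub_eq_of_eq_add (by ring)
  have e4 : (t + 2) ^ 4 - 1 = (t + 1) * (t + 3) * ((t + 2) ^ 2 + 1) := Nat.sub_eq_of_eq_add (by ring)
  set s := (t + 1) * (t + 2) + 1 with hs'
  have e3 : (t + 2) ^ 3 + 1 = (t + 3) * s := by rw [hs']; ring
  by_cases hcase : ℓ ∣ (t + 1) * ((t + 2) ^ 2 + 1)
  swap
  · obtain ⟨hfree, hcard⟩ := lineStab_spec (n := 3) hF (by omega) hs hc hZ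
      (StemSUThree.ptriv_three hF p)
    refine kill _ hfree fun hd => ?_
    have h1 := (lineStab (t + 2) 3 F).index_mul_card
    rw [hcard, StemSUBaseTools.card_SU_three hF, StemSUBaseTools.card_SU_four hF, e2, e3, e4] at h1
    have h2 : (lineStab (t + 2) 3 F).index = (t + 2) ^ 3 * ((t + 1) * ((t + 2) ^ 2 + 1)) := by
      refine Nat.eq_of_mul_eq_mul_right
        (show 0 < (t + 2) ^ 3 * ((t + 1) * (t + 3)) * ((t + 3) * s) * (t + 2 + 1) by positivity) ?_
      rw [h1]
      ring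
    rw [h2] at hd
    rcases hl.dvd_mul.1 hd with hd | hd
    · exact hlq (hl.dvd_of_dvd_pow hd)
    · exact hcase hd
  by_cases hl2 : ℓ = 2
  · subst hl2
    have hodd : (t + 2) % 2 = 1 := by omega
    obtain ⟨H, hH, hcard⟩ := two_spec hF p σ hs hc hZ hodd
    refine kill H hH fun hd => ?_
    have h1 := H.index_mul_card
    rw [hcard, StemSUBaseTools.card_SU_four hF, e2, e3, e4] at h1
    have h2 : H.index * 2 = (t + 2) ^ 4 * s * ((t + 2) ^ 2 + 1) := by
      refine Nat.eq_of_mul_eq_mul_right (show 0 < (t + 2) * ((t + 1) * (t + 3)) *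
        ((t + 2) * ((t + 1) * (t + 3))) * (t + 2 + 1) by positivity) ?_
      calc H.index * 2 * _ = H.index * ((t + 2) * ((t + 1) * (t + 3)) *
            ((t + 2) * ((t + 1) * (t + 3))) * (t + 2 + 1) * 2) := by ring
        _ = _ := by rw [h1]; ring
    obtain ⟨c, hc'⟩ := hd
    obtain ⟨k, rfl⟩ : ∃ k, t = 2 * k + 1 := ⟨t / 2, by omega⟩
    have h3 : H.index * 2 = 2 * (((2 * k + 1 + 2) ^ 4 * s) * (2 * k * k + 6 * k + 5)) := by
      rw [h2]; ring
    rw [hc'] at h3
    have h4 : 2 * c = ((2 * k + 1 + 2) ^ 4 * s) * (2 * k * k + 6 * k + 5) := by omega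
    have h5 : 2 ∣ ((2 * k + 1 + 2) ^ 4 * s) * (2 * k * k + 6 * k + 5) := ⟨c, h4.symm⟩
    have hp2 := Nat.prime_two
    rcases hp2.dvd_mul.1 h5 with h | h
    · rcases hp2.dvd_mul.1 h with h | h
      · have := hp2.dvd_of_dvd_pow h; omega
      · rw [hs', show (2 * k + 1 + 1) * (2 * k + 1 + 2) + 1 = 2 * ((k + 1) * (2 * k + 3)) + 1 by ring] at h
        omega
    · rw [show 2 * k * k + 6 * k + 5 = 2 * (k * k + 3 * k + 2) + 1 by ring] at h
      omega
  · obtain ⟨H, hH, hcard⟩ := sp4_spec hF p σ hs hc hZ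
    refine kill H hH fun hd => ?_
    have h1 := H.index_mul_card
    rw [hcard, StemSUBaseTools.card_SU_four hF, e2, e3, e4] at h1
    have h2 : H.index = (t + 2) ^ 2 * ((t + 3) * s) := by
      refine Nat.eq_of_mul_eq_mul_right (show 0 < (t + 2) ^ 4 *
        ((t + 1) * (t + 3) * ((t + 1) * (t + 3) * ((t + 2) ^ 2 + 1))) by positivity) ?_
      rw [h1]
      ring
    rw [h2] at hd
    rcases hl.dvd_mul.1 hd with hd | hd
    · exact hlq (hl.dvd_of_dvd_pow hd)
    have hl2' : ∀ c, ℓ ∣ c → c = 2 → False := fun c hc' e => by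
      subst e; exact hl2 ((Nat.prime_dvd_prime_iff_eq hl Nat.prime_two).1 hc')
    rcases hl.dvd_mul.1 hd with hd | hd <;> rcases hl.dvd_mul.1 hcase with hc' | hc'
    · exact hl2' 2 (by simpa using Nat.dvd_sub hd hc') rfl
    · -- `q ≡ -1` gives `q² + 1 ≡ 2`
      have : ℓ ∣ ((t + 2) ^ 2 + 1) - (t + 1) * (t + 3) :=
        Nat.dvd_sub hc' (dvd_mul_of_dvd_right hd _)
      rw [show (t + 2) ^ 2 + 1 = (t + 1) * (t + 3) + 2 by ring, Nat.add_sub_cancel_left] at this
      exact hl2' 2 this rfl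
    · have : ℓ ∣ 1 := (Nat.dvd_add_right (dvd_mul_of_dvd_left hc' (t + 2))).1 hd
      exact hl.ne_one (Nat.dvd_one.1 this)
    · -- `ℓ ∣ q² + 1` and `ℓ ∣ q² - q + 1` give `ℓ ∣ q`
      have h3 : (t + 2) ^ 2 + 1 = s + (t + 2) := by rw [hs']; ring
      exact hlq ((Nat.dvd_add_right hd).1 (h3 ▸ hc'))

end Cfsg.Agent.StemSUFour
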