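import Cfsg.Agent.Lib.OrthUnitaryPSU
import Cfsg.Agent.Lib.StemLift
import Mathlib

/-!
`SU_n(q)`: stabilisers of orthogonal anisotropic families are smaller special unitary groups, hence
generated by their `p`-elements and transitive on vectors of given non-zero norm.
-/

set_option autoImplicit false
set_option linter.unusedSectionVars false

namespace Cfsg.Agent.StemSUFrame

open Subgroup
open Cfsg.Agent.OrthUnitaryHerm
open Cfsg.Agent.OrthUnitaryTransvection
open Cfsg.Agent.StemLift (IsPElem)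
open scoped Matrix

variable {F : Type*} [Field F] [Fintype F] {q n : ℕ} (hF : Fintype.card F = q ^ 2)

/-! ### `p`-elements -/

section PElem

variable (p : ℕ) [Fact p.Prime] [CharP F p]
include hF

theorem tv_congr {v : Fin n → F} {c d : F} {hv : hermForm n F q v v = 0} {hc : c + c ^ q = 0}
    {hd : d + d ^ q = 0} (h : c = d) : tv hF v c hv hc = tv hF v d hv hd := by
  subst h; rfl

theorem tv_zero {v : Fin n → F} {hv : hermForm n F q v v = 0} {h0 : (0 : F) + 0 ^ q = 0} :
    tv hF v 0 hv h0 = 1 :=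
  su_ext fun x => by rw [tv_act, act_one, zero_mul, zero_smul, add_zero]

theorem tv_pow {v : Fin n → F} {c : F} (hv : hermForm n F q v v = 0) (hc : c + c ^ q = 0)
    (k : ℕ) (x : Fin n → F) :
    act (tv hF v c hv hc ^ k) x = x + ((k : F) * c * hermForm n F q x v) • v := by
  induction k generalizing x with
  | zero => simp [act_one]
  | succ k ih =>
    rw [pow_succ, act_mul, tv_act, ih, herm_add_left, herm_smul_left, hv]
    push_cast
    module

theorem isPElem_tv {v : Fin n → F} {c : F} (hv : hermForm n F q v v = 0) (hc : c + c ^ q = 0) :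
    IsPElem p (tv hF v c hv hc) :=
  StemLift.isPElem_of_pow (su_ext fun x => by
    rw [tv_pow hF hv hc, CharP.cast_eq_zero, zero_mul, zero_mul, zero_smul, add_zero, act_one])

theorem eich_pow {e w : Fin n → F} {μ : F} (he : hermForm n F q e e = 0)
    (hw : hermForm n F q w e = 0) (hμ : μ + μ ^ q + hermForm n F q w w = 0) (k : ℕ) :
    ∃ c : F, ∀ x, act (eich hF e w μ he hw hμ ^ k) x =
      x + ((k : F) * hermForm n F q x e) • w +
        (c * hermForm n F q x e - (k : F) * hermForm n F q x w) • e := by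
  induction k with
  | zero => exact ⟨0, fun x => by simp [act_one]⟩
  | succ k ih =>
    obtain ⟨c, hc⟩ := ih
    refine ⟨μ + c - (k : F) * hermForm n F q w w, fun x => ?_⟩
    rw [pow_succ, act_mul, eich_act, hc]
    simp only [herm_add_left, herm_smul_left, hw, he, herm_skew_zero hF hw, mul_zero, add_zero]
    push_cast
    module

theorem isPElem_eich {e w : Fin n → F} {μ : F} (he : hermForm n F q e e = 0)
    (hw : hermForm n F q w e = 0) (hμ : μ + μ ^ q + hermForm n F q w w = 0) :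
    IsPElem p (eich hF e w μ he hw hμ) := by
  obtain ⟨c, hc⟩ := eich_pow hF he hw hμ p
  have hp : ∀ k : ℕ, ∀ x, act ((eich hF e w μ he hw hμ ^ p) ^ k) x =
      x + ((k : F) * c * hermForm n F q x e) • e := by
    intro k
    induction k with
    | zero => simp [act_one]
    | succ k ih =>
      intro x
      rw [pow_succ, act_mul, hc, ih]
      simp only [CharP.cast_eq_zero, zero_mul, zero_smul, add_zero, sub_zero, herm_add_left,
        herm_smul_left, he, mul_zero]
      push_cast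
      module
  refine ⟨2, su_ext fun x => ?_⟩
  rw [pow_two, pow_mul, hp, CharP.cast_eq_zero, zero_mul, zero_mul, zero_smul, add_zero, act_one]

end PElem

/-! ### The stabiliser of an anisotropic vector -/

theorem act_zero (g : SU n F q) : act g 0 = 0 := Matrix.mulVec_zero _

include hF in
theorem exists_frame {a : Fin (n + 1) → F} (ha : hermForm (n + 1) F q a a ≠ 0) :
    ∃ (ι : SU n F q →* SU (n + 1) F q) (π : (Fin n → F) →ₗ[F] (Fin (n + 1) → F)),
      (∀ x y, hermForm (n + 1) F q (π x) (π y) = hermForm n F q x y) ∧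
      (∀ x, hermForm (n + 1) F q (π x) a = 0) ∧
      (∀ y, hermForm (n + 1) F q y a = 0 → ∃ x, π x = y) ∧
      (∀ k, act (ι k) a = a) ∧ (∀ k x, act (ι k) (π x) = π (act k x)) ∧
      (∀ g, act g a = a → ∃ k, ι k = g) ∧ Function.Injective ι := by
  obtain ⟨z, hz⟩ := exists_norm_eq hF (a := (hermForm (n + 1) F q a a)⁻¹)
    (by rw [inv_pow, herm_self_pow hF])
  have hz0 : z ≠ 0 := by
    rintro rfl
    rw [zero_pow (Nat.succ_ne_zero q)] at hz
    exact inv_ne_zero ha hz.symm
  have h1 : hermForm (n + 1) F q (z • a) (z • a) = 1 := by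
    rw [herm_smul_left, herm_smul_right, ← mul_assoc, ← pow_succ', hz, inv_mul_cancel₀ ha]
  obtain ⟨N, hN, hNe⟩ := exists_isU_map hF (u := Pi.single 0 1) (v := z • a)
    (by rw [h1, herm_single_right hF]; simp) (by rw [herm_single_right hF]; simp)
  have hNd : IsUnit N.det := (Matrix.isUnit_iff_isUnit_det N).1 (hN.isUnit hF)
  have hNi : ∀ y, N *ᵥ (N⁻¹ *ᵥ y) = y := fun y => by
    rw [Matrix.mulVec_mulVec, Matrix.mul_nonsing_inv _ hNd, Matrix.one_mulVec]
  have hNinj : Function.Injective N.mulVec := Matrix.mulVec_injective_iff_isUnit.2 (hN.isUnit hF)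
  let cz : (Fin n → F) →ₗ[F] (Fin (n + 1) → F) :=
    { toFun := fun x => Fin.cons 0 x
      map_add' := fun x y => by funext i; cases i using Fin.cases <;> simp
      map_smul' := fun c x => by funext i; cases i using Fin.cases <;> simp }
  have hcz : ∀ x, cz x = (Fin.cons 0 x : Fin (n + 1) → F) := fun _ => rfl
  let ι : SU n F q →* SU (n + 1) F q := (conjU hF N hN).comp extSU
  let π : (Fin n → F) →ₗ[F] (Fin (n + 1) → F) := N.mulVecLin.comp cz
  have hπ : ∀ x, π x = N *ᵥ (Fin.cons 0 x) := fun x => rfl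
  have hzero : ∀ x : Fin n → F, hermForm (n + 1) F q (π x) a = 0 := by
    intro x
    have : hermForm (n + 1) F q (π x) (z • a) = 0 := by
      rw [hπ, ← hNe, hN, herm_single_right hF, Fin.cons_zero]
    rw [herm_smul_right] at this
    exact (mul_eq_zero.1 this).resolve_left (pow_ne_zero _ hz0)
  have hιa : ∀ k, act (ι k) a = a := by
    intro k
    have h2 : act (ι k) (z • a) = z • a := by
      rw [← hNe]
      show act (conjU hF N hN (extSU k)) _ = _
      rw [conjU_act, extSU_act]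
      congr 1
      funext i
      cases i using Fin.cases with
      | zero => simp
      | succ i =>
        rw [Fin.cons_succ, show (Fin.tail (Pi.single (0 : Fin (n + 1)) (1 : F) : Fin (n + 1) → F) : Fin n → F) = 0 by
          funext j; simp [Fin.tail, Fin.succ_ne_zero], act_zero]
        simp [Fin.succ_ne_zero]
    rw [act_smul] at h2
    exact smul_right_injective _ hz0 h2
  have hιπ : ∀ k x, act (ι k) (π x) = π (act k x) := by
    intro k x
    show act (conjU hF N hN (extSU k)) (N *ᵥ _) = N *ᵥ _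
    rw [conjU_act, extSU_act, hcz, Fin.cons_zero, Fin.tail_cons, hcz]
  refine ⟨ι, π, ?_, hzero, ?_, hιa, hιπ, ?_, ?_⟩
  · intro x y
    rw [hπ, hπ, hN, herm_cons, zero_mul, zero_add]
  · intro y hy
    refine ⟨Fin.tail (N⁻¹ *ᵥ y), ?_⟩
    have h0 : (N⁻¹ *ᵥ y) 0 = 0 := by
      rw [← herm_single_right hF 0 (N⁻¹ *ᵥ y), ← hN, hNi, hNe, herm_smul_right, hy, mul_zero]
    have : (Fin.cons 0 (Fin.tail (N⁻¹ *ᵥ y)) : Fin (n + 1) → F) = N⁻¹ *ᵥ y := by
      conv_rhs => rw [← Fin.cons_self_tail (N⁻¹ *ᵥ y), h0]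
    rw [hπ, this, hNi]
  · intro g hg
    set g' := conjU hF N⁻¹ (isU_inv hF hN) g with hg'
    have hfix : act g' (Pi.single 0 1) = Pi.single 0 1 := by
      have h1 := conjU_act hF N⁻¹ (isU_inv hF hN) g (z • a)
      rw [act_smul, hg] at h1
      have h2 : N⁻¹ *ᵥ (z • a) = Pi.single 0 1 := hNinj (by rw [hNi, hNe])
      rwa [h2] at h1
    obtain ⟨hM, hU⟩ := isU_stab hF (isU_of_mem_SU g') hfix
    refine ⟨mkSU _ (by rw [← det_extendMat, ← hM]; exact g'.1.2) hU, ?_⟩
    have h3 : extSU (mkSU _ (by rw [← det_extendMat, ← hM]; exact g'.1.2) hU) = g' :=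
      Subtype.ext (Subtype.ext hM.symm)
    show conjU hF N hN (extSU _) = g
    rw [h3, hg']
    apply su_ext
    intro x
    obtain ⟨y, rfl⟩ : ∃ y, x = N *ᵥ y := ⟨_, (hNi x).symm⟩
    rw [conjU_act]
    obtain ⟨u, rfl⟩ : ∃ u, y = N⁻¹ *ᵥ u := ⟨N *ᵥ y, by
      rw [Matrix.mulVec_mulVec, Matrix.nonsing_inv_mul _ hNd, Matrix.one_mulVec]⟩
    rw [conjU_act, hNi, hNi]
  · intro k k' h
    apply su_ext
    intro x
    have h1 := congrArg (fun g => act g (π x)) h
    simp only [hιπ] at h1
    rw [hπ, hπ] at h1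
    have := congrArg Fin.tail (hNinj h1)
    rwa [Fin.tail_cons, Fin.tail_cons] at this

omit hF in
/-- An isometry is injective. -/
theorem iso_injective (hF : Fintype.card F = q ^ 2) {m : ℕ}
    {π : (Fin n → F) →ₗ[F] (Fin m → F)}
    (hπ : ∀ x y, hermForm m F q (π x) (π y) = hermForm n F q x y) : Function.Injective π := by
  intro x y h
  rw [← sub_eq_zero]
  refine eq_zero_of_herm_eq_zero hF fun z => ?_
  rw [← hπ, map_sub, h, sub_self, herm_zero_left]

/-! ### Pointwise stabilisers -/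

/-- The group generated by the `p`-elements fixing `S` pointwise. -/
def Fix (q p : ℕ) (S : Set (Fin n → F)) : Subgroup (SU n F q) :=
  closure {x : ↥(SU n F q) | IsPElem p x ∧ ∀ s ∈ S, act x s = s}

theorem mem_Fix {p : ℕ} {S : Set (Fin n → F)} {x : SU n F q} (hx : IsPElem p x)
    (h : ∀ s ∈ S, act x s = s) : x ∈ Fix q p S :=
  subset_closure ⟨hx, h⟩

theorem Fix_act {p : ℕ} {S : Set (Fin n → F)} {g : SU n F q} (hg : g ∈ Fix q p S) :
    ∀ s ∈ S, act g s = s := by
  induction hg using closure_induction with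
  | mem x hx => exact hx.2
  | one => exact fun s _ => act_one s
  | mul a b _ _ ha hb => exact fun s hs => by rw [act_mul, hb s hs, ha s hs]
  | inv a _ ha => exact fun s hs => by conv_lhs => rw [← ha s hs, act_inv_act]

theorem Fix_le {p : ℕ} {S S' : Set (Fin n → F)}
    (h : ∀ x : SU n F q, (∀ s ∈ S, act x s = s) → ∀ s ∈ S', act x s = s) :
    Fix q p S ≤ Fix q p S' :=
  closure_mono fun x hx => ⟨hx.1, h x hx.2⟩

/-- Every element is generated by `p`-elements. -/
def PGen (p : ℕ) (m : ℕ) (F : Type*) [Field F] (q : ℕ) : Prop :=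
  ∀ g : SU m F q, g ∈ closure {x : ↥(SU m F q) | IsPElem p x}

/-- Pulling back an orthogonal family along the frame of its first member. -/
theorem exists_pullback {k : ℕ} {s : Fin (k + 1) → (Fin (n + 1) → F)}
    {π : (Fin n → F) →ₗ[F] (Fin (n + 1) → F)}
    (hπ : ∀ x y, hermForm (n + 1) F q (π x) (π y) = hermForm n F q x y)
    (hsurj : ∀ y, hermForm (n + 1) F q y (s 0) = 0 → ∃ x, π x = y)
    (hne : ∀ i, hermForm (n + 1) F q (s i) (s i) ≠ 0)
    (horth : ∀ i j, i ≠ j → hermForm (n + 1) F q (s i) (s j) = 0) :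
    ∃ t : Fin k → (Fin n → F), (∀ i, π (t i) = s i.succ) ∧
      (∀ i, hermForm n F q (t i) (t i) ≠ 0) ∧
      (∀ i j, i ≠ j → hermForm n F q (t i) (t j) = 0) := by
  choose t ht using fun i : Fin k => hsurj (s i.succ) (horth _ _ (Fin.succ_ne_zero i))
  refine ⟨t, ht, fun i => ?_, fun i j hij => ?_⟩
  · rw [← hπ, ht]; exact hne _
  · rw [← hπ, ht, ht]; exact horth _ _ (fun e => hij (Fin.succ_injective _ e))

include hF in
theorem fix_gen (p : ℕ) : ∀ (k n m : ℕ), n = k + m → PGen p m F q →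
    ∀ s : Fin k → (Fin n → F), (∀ i, hermForm n F q (s i) (s i) ≠ 0) →
    (∀ i j, i ≠ j → hermForm n F q (s i) (s j) = 0) →
    ∀ g : SU n F q, (∀ i, act g (s i) = s i) → g ∈ Fix q p (Set.range s) := by
  intro k
  induction k with
  | zero =>
    intro n m hn hG s _ _ g _
    obtain rfl : n = m := by omega
    refine closure_mono (fun x hx => ?_) (hG g)
    exact ⟨hx, fun t ht => by obtain ⟨i, _⟩ := ht; exact i.elim0⟩
  | succ k ih =>
    intro n m hn hG s hne horth g hg
    obtain ⟨n', rfl⟩ : ∃ n', n = n' + 1 := ⟨k + m, by omega⟩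
    obtain ⟨ι, π, hπ, -, hsurj, hιa, hιπ, hrange, -⟩ := exists_frame hF (hne 0)
    obtain ⟨t, ht, htne, htorth⟩ := exists_pullback hπ hsurj hne horth
    obtain ⟨g', rfl⟩ := hrange g (hg 0)
    have hg' := ih n' m (by omega) hG t htne htorth g' fun i => iso_injective hF hπ (by
      rw [← hιπ, ht, hg])
    have : (Fix q p (Set.range t)).map ι ≤ Fix q p (Set.range s) := by
      rw [Fix, MonoidHom.map_closure]
      refine closure_mono ?_
      rintro _ ⟨x, ⟨hx, hxt⟩, rfl⟩
      refine ⟨hx.map ι, ?_⟩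
      rintro _ ⟨i, rfl⟩
      cases i using Fin.cases with
      | zero => exact hιa x
      | succ i => rw [← ht, hιπ, hxt _ ⟨i, rfl⟩]
    exact this ⟨g', hg', rfl⟩

include hF in
/-- Some element moves a vector of non-zero norm to any other of the same norm. -/
theorem exists_su_map (hn : 2 ≤ n) {u v : Fin n → F}
    (h : hermForm n F q u u = hermForm n F q v v) (hu : hermForm n F q u u ≠ 0) :
    ∃ g : SU n F q, act g u = v := by
  classical
  obtain ⟨n', rfl⟩ : ∃ n', n = n' + 2 := ⟨n - 2, by omega⟩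
  obtain ⟨M, hM, hMu⟩ := exists_isU_map hF h hu
  obtain ⟨z, hz⟩ := exists_norm_eq hF (a := (hermForm _ F q v v)⁻¹)
    (by rw [inv_pow, herm_self_pow hF])
  have hv : hermForm _ F q v v ≠ 0 := h ▸ hu
  have hz0 : z ≠ 0 := by
    rintro rfl
    rw [zero_pow (Nat.succ_ne_zero q)] at hz
    exact inv_ne_zero hv hz.symm
  have h1 : hermForm _ F q (z • v) (z • v) = 1 := by
    rw [herm_smul_left, herm_smul_right, ← mul_assoc, ← pow_succ', hz, inv_mul_cancel₀ hv]
  obtain ⟨N, hN, hNv⟩ := exists_isU_map hF (u := z • v) (v := (Pi.single 0 1 : Fin (n' + 2) → F))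
    (by rw [h1, herm_single_right hF]; simp) (by rw [h1]; exact one_ne_zero)
  have hNd : IsUnit N.det := (Matrix.isUnit_iff_isUnit_det N).1 (hN.isUnit hF)
  have hd : M.det ^ (q + 1) = 1 := hM.det_pow hF
  set d : Fin (n' + 2) → F := Pi.mulSingle 1 M.det⁻¹ with hddef
  have hdn : ∀ i, d i ^ (q + 1) = 1 := by
    intro i
    rcases eq_or_ne i 1 with rfl | hi
    · rw [hddef, Pi.mulSingle_eq_same, inv_pow, hd, inv_one]
    · rw [hddef, Pi.mulSingle_eq_of_ne hi, one_pow]
  set D : Matrix (Fin (n' + 2)) (Fin (n' + 2)) F := monMat 1 d with hD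
  have hDd : D.det = M.det⁻¹ := by
    rw [hD, det_monMat]
    simp [hddef]
  have hd0 : M.det ≠ 0 := fun e => by rw [e, zero_pow (Nat.succ_ne_zero q)] at hd; exact zero_ne_one hd
  refine ⟨mkSU (N⁻¹ * D * N * M) ?_ ((((isU_inv hF hN).mul (isU_monMat 1 hdn)).mul hN).mul hM), ?_⟩
  · have hNN : N⁻¹.det * N.det = 1 := by
      rw [← Matrix.det_mul, Matrix.nonsing_inv_mul _ hNd, Matrix.det_one]
    rw [Matrix.det_mul, Matrix.det_mul, Matrix.det_mul, hDd]
    linear_combination (M.det⁻¹ * M.det) * hNN + inv_mul_cancel₀ hd0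
  · show (N⁻¹ * D * N * M) *ᵥ u = v
    have hDe : D *ᵥ (Pi.single 0 1) = (Pi.single 0 1 : Fin (n' + 2) → F) := by
      funext i
      rw [hD, monMat_mulVec]
      rcases eq_or_ne i 0 with rfl | hi
      · simp [hddef]
      · simp [hi]
    have e1 : N *ᵥ v = z⁻¹ • (Pi.single 0 1 : Fin (n' + 2) → F) := by
      rw [← hNv, Matrix.mulVec_smul, inv_smul_smul₀ hz0]
    rw [← Matrix.mulVec_mulVec, hMu, ← Matrix.mulVec_mulVec, ← Matrix.mulVec_mulVec, e1,
      Matrix.mulVec_smul, hDe, ← e1, Matrix.mulVec_mulVec, Matrix.nonsing_inv_mul _ hNd,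
      Matrix.one_mulVec]

include hF in
theorem fix_move (p : ℕ) : ∀ (k n m : ℕ), n = k + m → 2 ≤ m → PGen p m F q →
    ∀ s : Fin k → (Fin n → F), (∀ i, hermForm n F q (s i) (s i) ≠ 0) →
    (∀ i j, i ≠ j → hermForm n F q (s i) (s j) = 0) →
    ∀ u v : Fin n → F, (∀ i, hermForm n F q u (s i) = 0) → (∀ i, hermForm n F q v (s i) = 0) →
      hermForm n F q u u = hermForm n F q v v → hermForm n F q u u ≠ 0 →
      ∃ g ∈ Fix q p (Set.range s), act g u = v := by
  intro k
  induction k with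
  | zero =>
    intro n m hn hm hG s _ _ u v _ _ h hu
    obtain rfl : n = m := by omega
    obtain ⟨g, hg⟩ := exists_su_map hF hm h hu
    refine ⟨g, closure_mono (fun x hx => ?_) (hG g), hg⟩
    exact ⟨hx, fun t ht => by obtain ⟨i, _⟩ := ht; exact i.elim0⟩
  | succ k ih =>
    intro n m hn hm hG s hne horth u v hu hv h hu0
    obtain ⟨n', rfl⟩ : ∃ n', n = n' + 1 := ⟨k + m, by omega⟩
    obtain ⟨ι, π, hπ, -, hsurj, hιa, hιπ, -, -⟩ := exists_frame hF (hne 0)
    obtain ⟨t, ht, htne, htorth⟩ := exists_pullback hπ hsurj hne horth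
    obtain ⟨u', rfl⟩ := hsurj u (hu 0)
    obtain ⟨v', rfl⟩ := hsurj v (hv 0)
    rw [hπ, hπ] at h
    rw [hπ] at hu0
    obtain ⟨g, hg, hgu⟩ := ih n' m (by omega) hm hG t htne htorth u' v'
      (fun i => by rw [← hπ, ht]; exact hu _) (fun i => by rw [← hπ, ht]; exact hv _) h hu0
    have : (Fix q p (Set.range t)).map ι ≤ Fix q p (Set.range s) := by
      rw [Fix, MonoidHom.map_closure]
      refine closure_mono ?_
      rintro _ ⟨x, ⟨hx, hxt⟩, rfl⟩
      refine ⟨hx.map ι, ?_⟩
      rintro _ ⟨i, rfl⟩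
      cases i using Fin.cases with
      | zero => exact hιa x
      | succ i => rw [← ht, hιπ, hxt _ ⟨i, rfl⟩]
    exact ⟨ι g, this ⟨g, hg, rfl⟩, by rw [hιπ, hgu]⟩

include hF in
/-- A vector of norm one orthogonal to an orthogonal family and to one further vector. -/
theorem exists_perp_one : ∀ (k n : ℕ), k + 3 ≤ n →
    ∀ s : Fin k → (Fin n → F), (∀ i, hermForm n F q (s i) (s i) ≠ 0) →
    (∀ i j, i ≠ j → hermForm n F q (s i) (s j) = 0) → ∀ v : Fin n → F,
    ∃ r, (∀ i, hermForm n F q r (s i) = 0) ∧ hermForm n F q r v = 0 ∧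
      hermForm n F q r r = 1 := by
  intro k
  induction k with
  | zero =>
    intro n hn s _ _ v
    obtain ⟨n', rfl⟩ : ∃ n', n = n' + 1 := ⟨n - 1, by omega⟩
    suffices h : ∃ r, hermForm _ F q r v = 0 ∧ hermForm _ F q r r = 1 by
      obtain ⟨r, h1, h2⟩ := h
      exact ⟨r, fun i => i.elim0, h1, h2⟩
    by_cases hvv : hermForm _ F q v v = 0
    · by_cases hv0 : v = 0
      · refine ⟨Pi.single 0 1, ?_, ?_⟩
        · rw [hv0, herm_zero_right hF]
        · rw [herm_single_right hF]; simp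
      · obtain ⟨f, hff, hfv, hvf⟩ := exists_hyp hF hv0 hvv
        obtain ⟨r, hrv, -, hrr⟩ := exists_perp2 hF (by omega) hvv hff hvf hfv (r := (1 : F)) (one_pow q)
        exact ⟨r, hrv, hrr⟩
    · obtain ⟨ι, π, hπ, hπa, -, -⟩ := exists_frame hF hvv
      obtain ⟨n'', rfl⟩ : ∃ n'', n' = n'' + 1 := ⟨n' - 1, by omega⟩
      exact ⟨π (Pi.single 0 1), hπa _, by rw [hπ, herm_single_right hF]; simp⟩
  | succ k ih =>
    intro n hn s hne horth v
    obtain ⟨n', rfl⟩ : ∃ n', n = n' + 1 := ⟨n - 1, by omega⟩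
    obtain ⟨ι, π, hπ, hπa, hsurj, -⟩ := exists_frame hF (hne 0)
    obtain ⟨t, ht, htne, htorth⟩ := exists_pullback hπ hsurj hne horth
    set c := hermForm (n' + 1) F q v (s 0) / hermForm (n' + 1) F q (s 0) (s 0) with hc
    obtain ⟨w, hw⟩ := hsurj (v - c • s 0) (by
      rw [herm_sub_left, herm_smul_left, hc, div_mul_cancel₀ _ (hne 0), sub_self])
    obtain ⟨r, hrt, hrw, hrr⟩ := ih n' (by omega) t htne htorth w
    refine ⟨π r, fun i => ?_, ?_, by rw [hπ, hrr]⟩
    · cases i using Fin.cases with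
      | zero => exact hπa r
      | succ i => rw [← ht, hπ, hrt]
    · have h1 : hermForm (n' + 1) F q (π r) (v - c • s 0) = 0 := by rw [← hw, hπ, hrw]
      rwa [herm_sub_right hF, herm_smul_right, hπa, mul_zero, sub_zero] at h1

end Cfsg.Agent.StemSUFrame
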