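import Cfsg.Agent.Lib.StemSUFrame
import Cfsg.Agent.Lib.StemSLnPrime
import Mathlib

/-!
Central extensions of `SU_n(q)` with kernel of order prime to `q`: lifted pointwise stabilisers, and
transport of triviality from smaller special unitary groups.
-/

set_option autoImplicit false
set_option linter.unusedSectionVars false

namespace Cfsg.Agent.StemSULifts

open Subgroup
open Cfsg.Agent.OrthUnitaryHerm
open Cfsg.Agent.OrthUnitaryTransvection
open Cfsg.Agent.StemSUFrame
open Cfsg.Agent.StemLift (IsPElem)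

universe u v

variable {F : Type v} [Field F] [Fintype F] {q n : ℕ} (p : ℕ) [Fact p.Prime]

/-- Central extensions with kernel of order prime to `p`, generated by `p`-elements, are trivial. -/
def PTriv (m : ℕ) (F : Type v) [Field F] (q : ℕ) : Prop :=
  ∀ (Δ : Type u) [Group Δ] [Finite Δ] (τ : Δ →* SU m F q), Function.Surjective τ →
    τ.ker ≤ center Δ → Nat.Coprime (Nat.card τ.ker) p →
    closure {g : Δ | IsPElem p g} = ⊤ → τ.ker = ⊥

variable {Γ : Type u} [Group Γ] [Finite Γ] (σ : Γ →* SU n F q)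

/-- The group generated by the `p`-elements over the pointwise stabiliser of `S`. -/
def K (S : Set (Fin n → F)) : Subgroup Γ :=
  closure {g | IsPElem p g ∧ ∀ s ∈ S, act (σ g) s = s}

/-- `σ` is injective on `K S`. -/
def Inj (S : Set (Fin n → F)) : Prop := ∀ z ∈ K p σ S, σ z = 1 → z = 1

theorem mem_K {S : Set (Fin n → F)} {g : Γ} (hg : IsPElem p g)
    (h : ∀ s ∈ S, act (σ g) s = s) : g ∈ K p σ S :=
  subset_closure ⟨hg, h⟩

theorem K_mono {S S' : Set (Fin n → F)}
    (h : ∀ x : SU n F q, (∀ s ∈ S, act x s = s) → ∀ s ∈ S', act x s = s) :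
    K p σ S ≤ K p σ S' :=
  closure_mono fun g hg => ⟨hg.1, h _ hg.2⟩

theorem σ_K_act {S : Set (Fin n → F)} {g : Γ} (hg : g ∈ K p σ S) :
    ∀ s ∈ S, act (σ g) s = s := by
  refine Fix_act (p := p) (q := q) ?_
  have : (K p σ S).map σ ≤ Fix q p S := by
    rw [K, MonoidHom.map_closure]
    refine closure_mono ?_
    rintro _ ⟨x, ⟨hx, hxs⟩, rfl⟩
    exact ⟨hx.map σ, hxs⟩
  exact this ⟨g, hg, rfl⟩

theorem K_conj (g : Γ) {S : Set (Fin n → F)} {x : Γ} (hx : x ∈ K p σ S) :
    g * x * g⁻¹ ∈ K p σ (act (σ g) '' S) := by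
  have : K p σ S ≤ (K p σ (act (σ g) '' S)).comap (MulAut.conj g).toMonoidHom := by
    rw [K, closure_le]
    rintro y ⟨hy, hys⟩
    refine mem_K p σ (hy.conj g) ?_
    rintro _ ⟨s, hs, rfl⟩
    show act (σ (g * y * g⁻¹)) (act (σ g) s) = _
    rw [map_mul, map_mul, map_inv, act_mul, act_mul, act_inv_act, hys s hs]
  exact this hx

variable (hs : Function.Surjective σ) (hc : σ.ker ≤ center Γ)
  (hZ : Nat.Coprime (Nat.card σ.ker) p)

include hs hZ in
theorem map_K (S : Set (Fin n → F)) : (K p σ S).map σ = Fix q p S := by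
  refine le_antisymm ?_ ?_
  · rw [K, MonoidHom.map_closure]
    refine closure_mono ?_
    rintro _ ⟨x, ⟨hx, hxs⟩, rfl⟩
    exact ⟨hx.map σ, hxs⟩
  · rw [StemSUFrame.Fix, closure_le]
    rintro x ⟨hx, hxs⟩
    obtain ⟨g, hg, hgp⟩ := StemLift.exists_lift hs hZ hx
    exact ⟨g, mem_K p σ hgp (by rw [hg]; exact hxs), hg⟩

include hs hZ in
theorem exists_lift_Fix {S : Set (Fin n → F)} {x : SU n F q} (hx : x ∈ Fix q p S) :
    ∃ g ∈ K p σ S, σ g = x := by
  rw [← map_K p σ hs hZ] at hx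
  exact hx

include hc hZ in
/-- Injectivity on a subgroup generated by `p`-elements lying over the image of an embedding. -/
theorem inj_of_emb {G' : Type*} [Group G'] (ρ : G' →* SU n F q) (hρ : Function.Injective ρ)
    (L : Subgroup Γ) (hL : L ≤ closure {g | IsPElem p g ∧ g ∈ L})
    (hmap : L.map σ = ρ.range)
    (htriv : ∀ (Δ : Type u) [Group Δ] [Finite Δ] (τ : Δ →* G'), Function.Surjective τ →
      τ.ker ≤ center Δ → Nat.Coprime (Nat.card τ.ker) p →
      closure {g : Δ | IsPElem p g} = ⊤ → τ.ker = ⊥) :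
    ∀ z ∈ L, σ z = 1 → z = 1 := by
  have hmem : ∀ l : L, σ (l : Γ) ∈ ρ.range := fun l => hmap ▸ ⟨l, l.2, rfl⟩
  let ι := MonoidHom.ofInjective hρ
  let τ : L →* G' := ι.symm.toMonoidHom.comp ((σ.comp L.subtype).codRestrict _ hmem)
  have hτ : ∀ l : L, ρ (τ l) = σ (l : Γ) := fun l => by
    show ((ι (ι.symm _) : ρ.range) : SU n F q) = _
    rw [MulEquiv.apply_symm_apply]
    rfl
  have hkerτ : ∀ l : L, τ l = 1 ↔ σ (l : Γ) = 1 := fun l => by
    rw [← hτ l]
    exact ⟨fun h => by rw [h, map_one], fun e => hρ (by rw [e, map_one])⟩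
  have hτs : Function.Surjective τ := by
    intro M
    have hM : ρ M ∈ L.map σ := hmap ▸ ⟨M, rfl⟩
    obtain ⟨g, hg, hge⟩ := hM
    exact ⟨⟨g, hg⟩, hρ (by rw [hτ]; exact hge)⟩
  have hτc : τ.ker ≤ center L := fun l hl => mem_center_iff.2 fun g =>
    Subtype.ext (StemBasic.ker_comm hc ((hkerτ l).1 hl) (g : Γ))
  have hτZ : Nat.Coprime (Nat.card τ.ker) p := by
    refine Nat.Coprime.coprime_dvd_left (Subgroup.card_dvd_of_injective
      ((L.subtype.comp τ.ker.subtype).codRestrict σ.ker fun x => (hkerτ x).1 x.2) ?_) hZ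
    intro x y h
    have h' := congrArg Subtype.val h
    exact Subtype.ext (Subtype.ext h')
  have hτgen : closure {g : L | IsPElem p g} = ⊤ := by
    rw [eq_top_iff]
    rintro ⟨g, hg⟩ -
    have : g ∈ (closure {g : L | IsPElem p g}).map L.subtype := by
      refine (closure_le _).2 ?_ (hL hg)
      rintro x ⟨hx, hxL⟩
      exact ⟨⟨x, hxL⟩, subset_closure
        ((StemLift.isPElem_map_iff L.subtype Subtype.coe_injective).1 hx), rfl⟩
    obtain ⟨g', hg', he⟩ := this
    have : g' = ⟨g, hg⟩ := Subtype.ext he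
    exact this ▸ hg'
  intro z hz hz1
  have : (⟨z, hz⟩ : L) ∈ τ.ker := (hkerτ _).2 hz1
  rw [htriv L τ hτs hτc hτZ hτgen, Subgroup.mem_bot] at this
  exact congrArg Subtype.val this

theorem K_le_closure (S : Set (Fin n → F)) :
    K p σ S ≤ closure {g | IsPElem p g ∧ g ∈ K p σ S} :=
  closure_mono fun g hg => ⟨hg.1, mem_K p σ hg.1 hg.2⟩

/-- The pointwise stabiliser of an orthogonal family is a smaller special unitary group. -/
theorem exists_emb (hF : Fintype.card F = q ^ 2) : ∀ (k n m : ℕ), n = k + m →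
    ∀ s : Fin k → (Fin n → F), (∀ i, hermForm n F q (s i) (s i) ≠ 0) →
    (∀ i j, i ≠ j → hermForm n F q (s i) (s j) = 0) →
    ∃ ρ : SU m F q →* SU n F q, Function.Injective ρ ∧
      ∀ g, g ∈ ρ.range ↔ ∀ i, act g (s i) = s i := by
  intro k
  induction k with
  | zero =>
    intro n m hn s _ _
    obtain rfl : n = m := by omega
    exact ⟨MonoidHom.id _, fun _ _ h => h, fun g => ⟨fun _ i => i.elim0, fun _ => ⟨g, rfl⟩⟩⟩
  | succ k ih =>
    intro n m hn s hne horth
    obtain ⟨n', rfl⟩ : ∃ n', n = n' + 1 := ⟨k + m, by omega⟩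
    obtain ⟨ι, π, hπ, -, hsurj, hιa, hιπ, hrange, hιi⟩ := exists_frame hF (hne 0)
    obtain ⟨t, ht, htne, htorth⟩ := exists_pullback hπ hsurj hne horth
    obtain ⟨ρ, hρi, hρ⟩ := ih n' m (by omega) t htne htorth
    refine ⟨ι.comp ρ, hιi.comp hρi, fun g => ⟨?_, fun h => ?_⟩⟩
    · rintro ⟨x, rfl⟩ i
      cases i using Fin.cases with
      | zero => exact hιa _
      | succ i =>
        rw [← ht, MonoidHom.comp_apply, hιπ, (hρ (ρ x)).1 ⟨x, rfl⟩ i]
    · obtain ⟨g', rfl⟩ := hrange g (h 0)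
      obtain ⟨x, rfl⟩ := (hρ g').2 fun i => iso_injective hF hπ (by rw [← hιπ, ht, h])
      exact ⟨x, rfl⟩

include hs hc hZ in
theorem inj_K (hF : Fintype.card F = q ^ 2) {k m : ℕ} (hn : n = k + m) (hG : PGen p m F q)
    (htriv : PTriv.{u} p m F q) (s : Fin k → (Fin n → F))
    (hne : ∀ i, hermForm n F q (s i) (s i) ≠ 0)
    (horth : ∀ i j, i ≠ j → hermForm n F q (s i) (s j) = 0) : Inj p σ (Set.range s) := by
  obtain ⟨ρ, hρi, hρ⟩ := exists_emb hF k n m hn s hne horth
  refine inj_of_emb p σ hc hZ ρ hρi (K p σ (Set.range s)) (K_le_closure p σ _) ?_ htriv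
  ext g
  constructor
  · rintro ⟨x, hx, rfl⟩
    exact (hρ _).2 fun i => σ_K_act p σ hx _ ⟨i, rfl⟩
  · intro hg
    rw [map_K p σ hs hZ]
    exact fix_gen hF p k n m hn hG s hne horth g ((hρ g).1 hg)

end Cfsg.Agent.StemSULifts
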