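import Cfsg.Agent.Lib.StemSUPrimeStep
import Cfsg.Agent.Lib.StemSUFour
import Mathlib

/-!
Central extensions of `SU_n(q)` with kernel of order prime to `q`, generated by `p`-elements, are trivial.
-/

set_option autoImplicit false

namespace Cfsg.Agent.StemSUPrime

open Cfsg.Agent.StemSULifts

universe u v

theorem ptriv {F : Type v} [Field F] [Fintype F] {q : ℕ} (hF : Fintype.card F = q ^ 2) (p : ℕ)
    [Fact p.Prime] [CharP F p] : ∀ n : ℕ, 1 ≤ n → PTriv.{u} p n F q := by
  intro n
  induction n using Nat.strong_induction_on with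
  | _ n ih =>
    intro hn
    match n, hn, ih with
    | 1, _, _ => exact StemSUTwo.ptriv_one hF p
    | 2, _, _ => exact StemSUTwo.ptriv_two hF p
    | 3, _, _ => exact StemSUThree.ptriv_three hF p
    | 4, _, _ => exact StemSUFour.ptriv_four hF p
    | m + 5, _, ih => exact StemSUPrimeStep.ker_eq_bot hF (by omega) p (ih (m + 4) (by omega) (by omega))

end Cfsg.Agent.StemSUPrime
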