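import Cfsg.Agent.Lib.StemSULifts
import Cfsg.Agent.Lib.StemSUGen
import Cfsg.Agent.Lib.StemVertex
import Mathlib

/-!
For `n ≥ 5` central extensions of `SU_n(q)` with kernel of order prime to `q`, generated by
`p`-elements, are trivial as soon as those of `SU_{n-1}(q)` are.
-/

set_option autoImplicit false
set_option linter.unusedSectionVars false

namespace Cfsg.Agent.StemSUPrimeStep

open Subgroup
open Cfsg.Agent.OrthUnitaryHerm
open Cfsg.Agent.OrthUnitaryTransvection
open Cfsg.Agent.StemSUFrame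
open Cfsg.Agent.StemSUGen
open Cfsg.Agent.StemSULifts
open Cfsg.Agent.StemLift (IsPElem)

universe u v

variable {F : Type v} [Field F] [Fintype F] {q n : ℕ}

/-- The action on vectors. -/
@[reducible] def suAction : MulAction (SU n F q) (Fin n → F) where
  smul g x := act g x
  one_smul := act_one
  mul_smul := act_mul

attribute [local instance] suAction

theorem ker_eq_bot (hF : Fintype.card F = q ^ 2) (hn : 5 ≤ n + 1) (p : ℕ) [Fact p.Prime]
    [CharP F p] (ih : PTriv.{u} p n F q) : PTriv.{u} p (n + 1) F q := by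
  intro Γ _ _ σ hs hc hZ hgen
  have hd := StemSLnPrime.ker_le_commutator p hZ hgen
  set a : Fin (n + 1) → F := Pi.single 0 1 with hadef
  have ha1 : hermForm (n + 1) F q a a = 1 := by rw [hadef, herm_single_right hF]; simp
  let T : Set Γ := {g | IsPElem p g ∧ ∃ (e : Fin (n + 1) → F) (c : F)
    (he : hermForm (n + 1) F q e e = 0) (hc : c + c ^ q = 0), σ g = tv hF e c he hc}
  -- the lifted transvections generate everything modulo the kernel
  have hTtop : (closure T).map σ = ⊤ := by
    rw [MonoidHom.map_closure, eq_top_iff,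
      ← tGroup_eq_top (F := F) hF (n := n + 1) (by omega) (by rintro ⟨h, -⟩; omega), tGroup,
      closure_le]
    rintro A ⟨v, c, hv, hA⟩
    rcases eq_tv_or_one hF hv hA with rfl | ⟨hc', rfl, -⟩
    · exact one_mem _
    · obtain ⟨g, hg, hgp⟩ := StemLift.exists_lift hs hZ (isPElem_tv hF p hv hc')
      exact subset_closure ⟨g, ⟨hgp, v, c, hv, hc', hg⟩, hg⟩
  have hker : σ.ker ≤ closure T := by
    refine hd.trans ?_
    rw [_root_.commutator_def, Subgroup.commutator_le]
    intro x _ y _
    obtain ⟨x', hx', hxe⟩ := (hTtop ▸ mem_top (σ x) : σ x ∈ (closure T).map σ)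
    obtain ⟨y', hy', hye⟩ := (hTtop ▸ mem_top (σ y) : σ y ∈ (closure T).map σ)
    rw [StemPairing.bracket_congr hc hxe.symm hye.symm, commutatorElement_def]
    exact mul_mem (mul_mem (mul_mem hx' hy') (inv_mem hx')) (inv_mem hy')
  have hinj : ∀ r, hermForm (n + 1) F q r r ≠ 0 → Inj p σ ({r} : Set (Fin (n + 1) → F)) := by
    intro r hr
    have := inj_K p σ hs hc hZ hF (k := 1) (m := n) (Nat.add_comm n 1) (pgen hF p (by omega)) ih
      ![r] (fun i => by fin_cases i; simpa using hr) (fun i j h => absurd (Subsingleton.elim i j) h)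
    simpa using this
  rw [Subgroup.eq_bot_iff_forall]
  intro z hz
  have hz1 : σ z = 1 := MonoidHom.mem_ker.1 hz
  refine hinj a (by rw [ha1]; exact one_ne_zero) z ?_ hz1
  refine StemVertex.mem_base (σ := σ) a (K p σ {a}) (fun r => K p σ ({r} : Set (Fin (n + 1) → F)))
    (fun v r => hermForm (n + 1) F q r r ≠ 0 ∧ hermForm (n + 1) F q r a = 0 ∧
      hermForm (n + 1) F q r v = 0)
    T (fun v => hermForm (n + 1) F q v v = 1) ha1 ?_ ?_ ?_ ?_ ?_ ?_ ?_ ?_ ?_ ?_ (hker hz)
    (by rw [hz1, one_smul]) (fun r _ => one_mem _)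
  · rintro τ - v hv
    show hermForm (n + 1) F q (act (σ τ) v) (act (σ τ) v) = 1
    rw [herm_act, hv]
  · obtain ⟨r, hr, -, hr1⟩ := exists_perp_one hF 1 (n + 1) (by omega) ![a]
      (fun i => by fin_cases i; simpa [ha1] using one_ne_zero)
      (fun i j h => absurd (Subsingleton.elim i j) h) a
    have hra : hermForm (n + 1) F q r a = 0 := hr 0
    exact ⟨r, by rw [hr1]; exact one_ne_zero, hra, hra⟩
  · intro g r x _ hx
    have := K_conj p σ g hx
    rwa [Set.image_singleton] at this
  · rintro r v ⟨hr, hra, -⟩ k hk hfix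
    have hfix' : act (σ k) a = a := hfix
    have h2 : σ k ∈ Fix q p (Set.range ![r, a]) := fix_gen hF p 2 (n + 1) (n - 1) (by omega)
      (pgen hF p (by omega)) ![r, a] (fun i => by fin_cases i <;> simp [hr, ha1])
      (fun i j h => by fin_cases i <;> fin_cases j <;>
        first | exact absurd rfl h | exact hra | exact herm_skew_zero hF hra)
      (σ k) (fun i => by fin_cases i
                         · exact σ_K_act p σ hk r rfl
                         · exact hfix')
    obtain ⟨j, hj, hje⟩ := exists_lift_Fix p σ hs hZ h2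
    have hjr : j ∈ K p σ ({r} : Set (Fin (n + 1) → F)) :=
      K_mono p σ (fun x hx s hs' => by rw [Set.mem_singleton_iff.1 hs']; exact hx _ ⟨0, rfl⟩) hj
    have hja : j ∈ K p σ ({a} : Set (Fin (n + 1) → F)) :=
      K_mono p σ (fun x hx s hs' => by rw [Set.mem_singleton_iff.1 hs']; exact hx _ ⟨1, rfl⟩) hj
    have := hinj r hr (j⁻¹ * k) (mul_mem (inv_mem hjr) hk)
      (by rw [map_mul, map_inv, hje, inv_mul_cancel])
    rwa [inv_mul_eq_one.1 this] at hja
  · rintro v r hv ⟨hr, hra, hrv⟩
    obtain ⟨g, hg, hga⟩ := fix_move hF p 1 (n + 1) n (by omega) (by omega) (pgen hF p (by omega))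
      ![r] (fun i => by fin_cases i; simpa using hr)
      (fun i j h => absurd (Subsingleton.elim i j) h) a v
      (fun i => by fin_cases i; simpa using herm_skew_zero hF hra)
      (fun i => by fin_cases i; simpa using herm_skew_zero hF hrv)
      (by rw [ha1, hv]) (by rw [ha1]; exact one_ne_zero)
    obtain ⟨j, hj, hje⟩ := exists_lift_Fix p σ hs hZ hg
    refine ⟨j, by simpa using hj, ?_⟩
    show act (σ j) a = v
    rw [hje, hga]
  · rintro v hv - r r' ⟨hr, hra, hrv⟩ hR'
    obtain ⟨hr', hr'a, hr'v⟩ := hR'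
    obtain ⟨g, hg, hga⟩ := pair_move hF p hn hr (herm_skew_zero hF hra) (herm_skew_zero hF hrv)
      (herm_skew_zero hF hr'a) (herm_skew_zero hF hr'v) ha1 hv
    obtain ⟨j, hj, hje⟩ := exists_lift_Fix p σ hs hZ hg
    refine ⟨r', ⟨hr', hr'a, hr'v⟩, Relation.ReflTransGen.single ⟨⟨hr', hr'a, hr'v⟩, j, ?_, ?_, ?_⟩,
      Relation.ReflTransGen.refl⟩
    · exact K_mono p σ (fun x hx s hs' => hx s (by simp [Set.mem_singleton_iff.1 hs'])) hj
    · exact K_mono p σ (fun x hx s hs' => hx s (by simp [Set.mem_singleton_iff.1 hs'])) hj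
    · show act (σ j) a = v
      rw [hje, hga]
  · rintro τ ⟨hτp, -⟩ hfix
    exact mem_K p σ hτp fun s hs' => by rw [Set.mem_singleton_iff.1 hs']; exact hfix
  · rintro τ - hfix v r ⟨hr, hra, hrv⟩
    have hta : act (σ τ)⁻¹ a = a := by
      have hfix' : act (σ τ) a = a := hfix
      conv_lhs => rw [← hfix', act_inv_act]
    show hermForm _ F q (act (σ τ)⁻¹ r) (act (σ τ)⁻¹ r) ≠ 0 ∧
      hermForm _ F q (act (σ τ)⁻¹ r) a = 0 ∧ hermForm _ F q (act (σ τ)⁻¹ r) v = 0
    refine ⟨by rwa [herm_act], ?_, ?_⟩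
    · rw [← hta, herm_act, hra]
    · rw [← herm_act (σ τ), act_act_inv]
      exact hrv
  · rintro τ ⟨hτp, e, c, he, hc', hτe⟩ hne v hv
    have hea : hermForm (n + 1) F q a e ≠ 0 := fun h => hne (by
      show act (σ τ) a = a
      rw [hτe, tv_act, h, mul_zero, zero_smul, add_zero])
    set d := hermForm (n + 1) F q e a
    have hd0 : d ≠ 0 := fun h => hea (herm_skew_zero hF h)
    set e' := e - d • a with he'def
    have he'a : hermForm (n + 1) F q e' a = 0 := by
      rw [he'def, herm_sub_left, herm_smul_left, ha1, mul_one, sub_self]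
    have hee' : hermForm (n + 1) F q e' e' ≠ 0 := by
      rw [he'def, herm_sub_right hF, herm_smul_right, he'a, mul_zero, sub_zero, herm_sub_left,
        herm_smul_left, he, herm_conj hF e a]
      show (0 : F) - d * d ^ q ≠ 0
      rw [zero_sub, neg_ne_zero]
      exact mul_ne_zero hd0 (pow_ne_zero _ hd0)
    obtain ⟨r, hr, hrv, hr1⟩ := exists_perp_one hF 2 (n + 1) (by omega) ![a, e']
      (fun i => by fin_cases i <;> simp [ha1, hee'])
      (fun i j h => by fin_cases i <;> fin_cases j <;>
        first | exact absurd rfl h | exact he'a | exact herm_skew_zero hF he'a) v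
    have hra : hermForm (n + 1) F q r a = 0 := hr 0
    have hre : hermForm (n + 1) F q r e = 0 := by
      have h2 : hermForm (n + 1) F q r e' = 0 := hr 1
      rwa [he'def, herm_sub_right hF, herm_smul_right, hra, mul_zero, sub_zero] at h2
    have hfix : act (σ τ) r = r := by rw [hτe, tv_act, hre, mul_zero, zero_smul, add_zero]
    have hr0 : hermForm (n + 1) F q r r ≠ 0 := by rw [hr1]; exact one_ne_zero
    refine ⟨r, ⟨hr0, hra, hrv⟩, ⟨hr0, hra, ?_⟩,
      mem_K p σ hτp fun s hs' => by rw [Set.mem_singleton_iff.1 hs']; exact hfix⟩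
    show hermForm (n + 1) F q r (act (σ τ) v) = 0
    conv_lhs => rw [← hfix, herm_act, hrv]
  · rintro τ ⟨hτp, e, c, he, hc', hτe⟩
    have hc'' : -c + (-c) ^ q = 0 := by rw [neg_pow_q hF]; linear_combination -hc'
    refine ⟨hτp.inv, e, -c, he, hc'', ?_⟩
    rw [map_inv, hτe]
    refine inv_eq_of_mul_eq_one_right (su_ext fun x => ?_)
    rw [act_mul, tv_act, tv_act, act_one, herm_add_left, herm_smul_left, he]
    module

end Cfsg.Agent.StemSUPrimeStep
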