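import Cfsg.Agent.Lib.StemSUFrame
import Cfsg.Agent.Lib.StemSUDiag
import Cfsg.Agent.Lib.StemStep
import Mathlib

/-!
Central extensions of `SU_n(q)`: lifts of the unipotent radical of the stabiliser of an isotropic
vector, and their commutator pairing.
-/

set_option autoImplicit false
set_option linter.unusedSectionVars false

namespace Cfsg.Agent.StemSURadical

open Subgroup
open Cfsg.Agent.OrthUnitaryHerm
open Cfsg.Agent.OrthUnitaryTransvection
open Cfsg.Agent.StemSUFrame
open Cfsg.Agent.StemStep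
open scoped commutatorElement

variable {F : Type*} [Field F] [Fintype F] {q n : ℕ} (hF : Fintype.card F = q ^ 2)

include hF

theorem im_skew (z : F) : (z - z ^ q) + (z - z ^ q) ^ q = 0 := by
  rw [sub_pow_q hF, pow_q_q hF]; ring

theorem exists_im {d : F} (hd : d + d ^ q = 0) : ∃ z : F, z - z ^ q = d := by
  obtain ⟨x, hx⟩ := exists_trace hF (a := (1 : F)) (one_pow q)
  exact ⟨d * x, by rw [mul_pow, show d ^ q = -d by linear_combination hd]; linear_combination d * hx⟩

theorem tv_mul {e : Fin n → F} {c d : F} (he : hermForm n F q e e = 0) (hc : c + c ^ q = 0)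
    (hd : d + d ^ q = 0) :
    tv hF e c he hc * tv hF e d he hd =
      tv hF e (c + d) he (by rw [add_pow_q hF]; linear_combination hc + hd) := by
  apply su_ext
  intro x
  rw [act_mul, tv_act, tv_act, tv_act, herm_add_left, herm_smul_left, he]
  module

theorem eich_tv_comm {e w : Fin n → F} {μ c : F} (he : hermForm n F q e e = 0)
    (hw : hermForm n F q w e = 0) (hμ : μ + μ ^ q + hermForm n F q w w = 0) (hc : c + c ^ q = 0) :
    Commute (tv hF e c he hc) (eich hF e w μ he hw hμ) := by
  apply su_ext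
  intro x
  rw [act_mul, act_mul, eich_act, tv_act, eich_act, tv_act]
  simp only [herm_add_left, herm_smul_left, he, hw, herm_skew_zero hF hw]
  module

theorem eich_smul {e w : Fin n → F} {μ s : F} (hse : hermForm n F q (s • e) (s • e) = 0)
    (hwe : hermForm n F q w (s • e) = 0) (hμ : μ + μ ^ q + hermForm n F q w w = 0)
    (he : hermForm n F q e e = 0) (hw' : hermForm n F q (s ^ q • w) e = 0)
    (hμ' : s ^ q * s * μ + (s ^ q * s * μ) ^ q + hermForm n F q (s ^ q • w) (s ^ q • w) = 0) :
    eich hF (s • e) w μ hse hwe hμ = eich hF e (s ^ q • w) (s ^ q * s * μ) he hw' hμ' := by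
  apply su_ext
  intro x
  rw [eich_act, eich_act, herm_smul_right, herm_smul_right, pow_q_q hF]
  module

theorem eich_bracket {e w w' : Fin n → F} {μ μ' : F} (he : hermForm n F q e e = 0)
    (hw : hermForm n F q w e = 0) (hμ : μ + μ ^ q + hermForm n F q w w = 0)
    (hw' : hermForm n F q w' e = 0) (hμ' : μ' + μ' ^ q + hermForm n F q w' w' = 0) :
    ⁅eich hF e w μ he hw hμ, eich hF e w' μ' he hw' hμ'⁆ =
      tv hF e (hermForm n F q w w' - hermForm n F q w w' ^ q) he (im_skew hF _) := by
  have key : eich hF e w μ he hw hμ * eich hF e w' μ' he hw' hμ' =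
      tv hF e (hermForm n F q w w' - hermForm n F q w w' ^ q) he (im_skew hF _) *
        (eich hF e w' μ' he hw' hμ' * eich hF e w μ he hw hμ) := by
    rw [eich_mul, eich_mul]
    apply su_ext
    intro x
    rw [eich_act, act_mul, tv_act, eich_act]
    simp only [herm_add_left, herm_smul_left, herm_add_right hF, he, hw, hw',
      herm_skew_zero hF hw, herm_skew_zero hF hw', ← herm_conj hF w w']
    module
  rw [commutatorElement_def, key]
  group

omit hF in
/-- Some parameter for an Eichler transformation with vector `w`. -/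
noncomputable def mu (hF : Fintype.card F = q ^ 2) (w : Fin n → F) : F := (exists_mu hF w).choose

omit hF in
theorem mu_spec (hF : Fintype.card F = q ^ 2) (w : Fin n → F) :
    mu hF w + mu hF w ^ q + hermForm n F q w w = 0 := (exists_mu hF w).choose_spec

theorem eich_split {e w : Fin n → F} {μ : F} (he : hermForm n F q e e = 0)
    (hw : hermForm n F q w e = 0) (hμ : μ + μ ^ q + hermForm n F q w w = 0) :
    ∃ hd, eich hF e w μ he hw hμ =
      tv hF e (μ - mu hF w) he hd * eich hF e w (mu hF w) he hw (mu_spec hF w) := by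
  refine ⟨by rw [sub_pow_q hF]; linear_combination hμ - mu_spec hF w, su_ext fun x => ?_⟩
  rw [act_mul, tv_act, eich_act, eich_act]
  simp only [herm_add_left, herm_smul_left, he, hw]
  module

theorem exists_iso_split (hn : 4 ≤ n) {e : Fin n → F} (he0 : e ≠ 0)
    (he : hermForm n F q e e = 0) {w : Fin n → F} (hw : hermForm n F q w e = 0) :
    ∃ w1 w2, hermForm n F q w1 w1 = 0 ∧ hermForm n F q w2 w2 = 0 ∧ hermForm n F q w1 e = 0 ∧
      hermForm n F q w2 e = 0 ∧ w = w1 + w2 := by
  obtain ⟨f, hff, hfe, hef⟩ := exists_hyp hF he0 he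
  obtain ⟨α, k, hwk, hke, hkf⟩ : ∃ (α : F) (k : Fin n → F), w = α • e + k ∧
      hermForm n F q k e = 0 ∧ hermForm n F q k f = 0 :=
    ⟨hermForm n F q w f, w - hermForm n F q w f • e, (add_sub_cancel _ _).symm,
      by rw [herm_sub_left, herm_smul_left, he, hw]; ring,
      by rw [herm_sub_left, herm_smul_left, hef]; ring⟩
  by_cases hkk : hermForm n F q k k = 0
  · exact ⟨α • e, k, by rw [herm_smul_left, herm_smul_right, he]; ring, hkk,
      by rw [herm_smul_left, he]; ring, hke, hwk⟩
  obtain ⟨k', hk'e, hk'f, hk'k, hk'⟩ := exists_perp3 hF hn he hff hef hfe hke hkf hkk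
    (r := -(hermForm n F q k k)) (by rw [neg_pow_q hF, herm_self_pow hF])
  have hkk' := herm_skew_zero hF hk'k
  obtain ⟨z, hz, hz2⟩ := exists_normOne_sq_ne_one hF
  have hz1 : (1 : F) - z ≠ 0 := fun h => hz2 (by
    have : z = 1 := Units.ext (sub_eq_zero.1 h).symm
    simp [this])
  have hzq : (z : F) * (z : F) ^ q = 1 := by
    rw [← pow_succ', ← Units.val_pow_eq_pow_val, hz, Units.val_one]
  set b := (1 - (z : F))⁻¹ with hb
  refine ⟨α • e + b • (k + k'), (-b) • ((z : F) • k + k'), ?_, ?_, ?_, ?_, ?_⟩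
  · simp only [herm_add_left, herm_add_right hF, herm_smul_left, herm_smul_right, he, hke,
      herm_skew_zero hF hke, hk'e, herm_skew_zero hF hk'e, hkk', hk'k, hk']
    ring
  · simp only [herm_add_left, herm_add_right hF, herm_smul_left, herm_smul_right, hkk', hk'k, hk']
    linear_combination ((-b) * (-b) ^ q * hermForm n F q k k) * hzq
  · rw [herm_add_left, herm_smul_left, herm_smul_left, herm_add_left, he, hke, hk'e]
    ring
  · rw [herm_smul_left, herm_add_left, herm_smul_left, hke, hk'e]; ring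
  · have : (1 - (z : F)) * b = 1 := mul_inv_cancel₀ hz1
    rw [hwk]
    match_scalars
    · ring
    · linear_combination -this
    · ring

variable {Γ : Type*} [Group Γ] {σ : Γ →* SU n F q} (hs : Function.Surjective σ)
  (hc : σ.ker ≤ center Γ)

/-- The lifts of the centre of a radical commute (for `n ≥ 3`). -/
theorem zz (hn : 3 ≤ n) {e : Fin n → F} {c d : F} (he : hermForm n F q e e = 0)
    (hc' : c + c ^ q = 0) (hd : d + d ^ q = 0) :
    tv hF e d he hd ∈ killer hs hc (tv hF e c he hc') := by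
  by_cases he0 : e = 0
  · have : tv hF e d he hd = 1 := su_ext fun x => by rw [tv_act, act_one, he0, smul_zero, add_zero]
    rw [this]; exact one_mem _
  obtain ⟨f, hff, hfe, hef⟩ := exists_hyp hF he0 he
  obtain ⟨k, hke, hkf, hkk⟩ := exists_perp2 hF hn he hff hef hfe (r := (1 : F)) (one_pow q)
  obtain ⟨z, hz⟩ := exists_im hF hd
  have hzk : hermForm n F q (z • k) e = 0 := by rw [herm_smul_left, hke, mul_zero]
  have h := bracket_mem_killer hs hc (eich_tv_comm hF he hzk (mu_spec hF _) hc')
    (eich_tv_comm hF he hke (mu_spec hF k) hc')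
  rw [eich_bracket] at h
  have h2 : hermForm n F q (z • k) k - hermForm n F q (z • k) k ^ q = d := by
    rw [herm_smul_left, hkk, mul_one, hz]
  rwa [tv_congr hF (hd := hd) h2] at h

omit hF in
/-- The lifts of a radical commute with those of its centre. -/
def ZN (hF : Fintype.card F = q ^ 2) (hs : Function.Surjective σ) (hc : σ.ker ≤ center Γ)
    (e : Fin n → F) : Prop :=
  ∀ (he : hermForm n F q e e = 0) (c : F) (hc' : c + c ^ q = 0) (w : Fin n → F) (μ : F)
    (hw : hermForm n F q w e = 0) (hμ : μ + μ ^ q + hermForm n F q w w = 0),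
    eich hF e w μ he hw hμ ∈ killer hs hc (tv hF e c he hc')

theorem eich_mem_killer_iff (hn : 3 ≤ n) {e w : Fin n → F} {μ μ' c : F}
    (he : hermForm n F q e e = 0) (hw : hermForm n F q w e = 0)
    (hμ : μ + μ ^ q + hermForm n F q w w = 0) (hμ' : μ' + μ' ^ q + hermForm n F q w w = 0)
    (hc' : c + c ^ q = 0) (h : eich hF e w μ he hw hμ ∈ killer hs hc (tv hF e c he hc')) :
    eich hF e w μ' he hw hμ' ∈ killer hs hc (tv hF e c he hc') := by
  have hd : (μ' - μ) + (μ' - μ) ^ q = 0 := by rw [sub_pow_q hF]; linear_combination hμ' - hμ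
  have : eich hF e w μ' he hw hμ' = tv hF e (μ' - μ) he hd * eich hF e w μ he hw hμ := by
    apply su_ext
    intro x
    rw [act_mul, tv_act, eich_act, eich_act]
    simp only [herm_add_left, herm_smul_left, he, hw]
    module
  rw [this]
  exact mul_mem (zz hF hs hc hn he hc' hd) h

/-- Conjugation by an element fixing the centre moves the commutation to differences. -/
theorem zn_diff (hn : 3 ≤ n) {e : Fin n → F} {c : F} (he : hermForm n F q e e = 0)
    (hc' : c + c ^ q = 0) (g : SU n F q) {s : F} (hge : act g e = s • e) (hs1 : s ^ q * s = 1)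
    {w : Fin n → F} {μ : F} (hw : hermForm n F q w e = 0)
    (hμ : μ + μ ^ q + hermForm n F q w w = 0)
    (hd : hermForm n F q (s ^ q • act g w - w) e = 0)
    (ν : F) (hν : ν + ν ^ q + hermForm n F q (s ^ q • act g w - w) (s ^ q • act g w - w) = 0) :
    eich hF e (s ^ q • act g w - w) ν he hd hν ∈ killer hs hc (tv hF e c he hc') := by
  have hcE := eich_tv_comm hF he hw hμ hc'
  have hse : hermForm n F q (s • e) (s • e) = 0 := by
    rw [herm_smul_left, herm_smul_right, he]; ring
  have hgw : hermForm n F q (s ^ q • act g w) e = 0 := by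
    have h1 : hermForm n F q (act g w) (act g e) = 0 := by rw [herm_act, hw]
    rw [hge, herm_smul_right] at h1
    rw [herm_smul_left, h1]
  have hμ2 : s ^ q * s * μ + (s ^ q * s * μ) ^ q +
      hermForm n F q (s ^ q • act g w) (s ^ q • act g w) = 0 := by
    rw [hs1, one_mul, herm_smul_left, herm_smul_right, herm_act, pow_q_q hF, ← mul_assoc, hs1,
      one_mul, hμ]
  -- the conjugates
  have ez : g * tv hF e c he hc' * g⁻¹ = tv hF e c he hc' := by
    rw [OrthUnitaryPSU.tv_conj]
    refine su_ext fun x => ?_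
    rw [tv_act, tv_act, hge, herm_smul_right, smul_smul]
    congr 2
    linear_combination (c * hermForm n F q x e) * hs1
  have hwg : hermForm n F q (act g w) (s • e) = 0 := by rw [← hge, herm_act, hw]
  have hμg : μ + μ ^ q + hermForm n F q (act g w) (act g w) = 0 := by rw [herm_act, hμ]
  have eE : g * eich hF e w μ he hw hμ * g⁻¹ =
      eich hF e (s ^ q • act g w) (s ^ q * s * μ) he hgw hμ2 := by
    rw [eich_conj, ← eich_smul hF hse hwg hμg he hgw hμ2]
    refine su_ext fun x => ?_
    rw [eich_act, eich_act, hge]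
  set E := eich hF e w μ he hw hμ
  set E' := eich hF e (s ^ q • act g w) (s ^ q * s * μ) he hgw hμ2
  have hcE' : Commute (tv hF e c he hc') E' := eich_tv_comm hF he hgw hμ2 hc'
  have hbr : br hs (tv hF e c he hc') E' = br hs (tv hF e c he hc') E := by
    have := br_conj_eq hs hc g hcE
    rwa [ez, eE] at this
  have hmem : E' * E⁻¹ ∈ killer hs hc (tv hF e c he hc') := by
    refine ⟨hcE'.mul_right hcE.inv_right, ?_⟩
    have h1 : br hs (tv hF e c he hc') E⁻¹ * br hs (tv hF e c he hc') E = 1 := by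
      rw [← br_mul_right hs hc hcE, inv_mul_cancel, br_one_right hs hc]
    rw [br_mul_right hs hc hcE.inv_right, hbr]
    exact mul_eq_one_comm.1 h1
  have hν' : ∃ ν' h, E' * E⁻¹ = eich hF e (s ^ q • act g w - w) ν' he hd h := by
    refine ⟨s ^ q * s * μ - μ + hermForm n F q w (s ^ q • act g w - w), ?_, ?_⟩
    · simp only [add_pow_q hF, sub_pow_q hF, herm_sub_left, herm_sub_right hF, ← herm_conj hF]
      linear_combination hμ2 - hμ
    · rw [mul_inv_eq_iff_eq_mul, eich_mul]
      exact eich_congr hF he _ _ _ _ (sub_add_cancel _ _).symm (by ring)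
  obtain ⟨ν', h', he'⟩ := hν'
  rw [he'] at hmem
  exact eich_mem_killer_iff hF hs hc hn he hd h' hν hc' hmem

theorem eich_line_mem_killer (hn : 3 ≤ n) {e : Fin n → F} {c : F} (he : hermForm n F q e e = 0)
    (hc' : c + c ^ q = 0) (a : F) (μ : F) (hw : hermForm n F q (a • e) e = 0)
    (hμ : μ + μ ^ q + hermForm n F q (a • e) (a • e) = 0) :
    eich hF e (a • e) μ he hw hμ ∈ killer hs hc (tv hF e c he hc') := by
  have hd : (a + μ - a ^ q) + (a + μ - a ^ q) ^ q = 0 := by
    rw [herm_smul_left, herm_smul_right, he] at hμ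
    rw [sub_pow_q hF, add_pow_q hF, pow_q_q hF]
    linear_combination hμ
  have : eich hF e (a • e) μ he hw hμ = tv hF e (a + μ - a ^ q) he hd := by
    apply su_ext
    intro x
    rw [eich_act, tv_act, herm_smul_right]
    module
  rw [this]
  exact zz hF hs hc hn he hc' hd

theorem eich_add_mem_killer (hn : 3 ≤ n) {e w w' : Fin n → F} {c : F}
    (he : hermForm n F q e e = 0) (hc' : c + c ^ q = 0)
    (hw : hermForm n F q w e = 0) (hw' : hermForm n F q w' e = 0)
    (h : eich hF e w (mu hF w) he hw (mu_spec hF w) ∈ killer hs hc (tv hF e c he hc'))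
    (h' : eich hF e w' (mu hF w') he hw' (mu_spec hF w') ∈ killer hs hc (tv hF e c he hc'))
    (μ : F) (hww : hermForm n F q (w + w') e = 0)
    (hμ : μ + μ ^ q + hermForm n F q (w + w') (w + w') = 0) :
    eich hF e (w + w') μ he hww hμ ∈ killer hs hc (tv hF e c he hc') := by
  have := mul_mem h h'
  rw [eich_mul] at this
  exact eich_mem_killer_iff hF hs hc hn he _ _ hμ hc' this

theorem zn_of_four (hn : 4 ≤ n) (e : Fin n → F) : ZN hF hs hc e := by
  intro he c hc' w μ hw hμ
  by_cases he0 : e = 0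
  · have : eich hF e w μ he hw hμ = 1 := su_ext fun x => by
      rw [eich_act, act_one, he0, herm_zero_right hF]; simp
    rw [this]; exact one_mem _
  have hn3 : 3 ≤ n := by omega
  have key : ∀ x, hermForm n F q x x = 0 → ∀ (hx : hermForm n F q x e = 0) ν hν,
      eich hF e x ν he hx hν ∈ killer hs hc (tv hF e c he hc') := by
    intro x hxx hxe ν hν
    by_cases hline : ∃ a : F, x = a • e
    · obtain ⟨a, rfl⟩ := hline
      exact eich_line_mem_killer hF hs hc hn3 he hc' a ν hxe hν
    push Not at hline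
    obtain ⟨d, hd0, hd⟩ := exists_skew hF
    obtain ⟨y, hye, hyx⟩ := exists_herm_pair hF he0 hline 0 (1 / d)
    have hge : act (tv hF x d hxx hd) e = (1 : F) • e := by
      rw [tv_act, herm_skew_zero hF hxe, mul_zero, zero_smul, add_zero, one_smul]
    have hdiff : (1 : F) ^ q • act (tv hF x d hxx hd) y - y = x := by
      rw [one_pow, one_smul, tv_act, hyx, mul_one_div_cancel hd0, one_smul, add_sub_cancel_left]
    have := zn_diff hF hs hc hn3 he hc' _ hge (by rw [one_pow, one_mul]) hye (mu_spec hF y)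
      (by rw [hdiff, hxe]) ν (by rw [hdiff, hν])
    convert this using 2
    rw [hdiff]
  obtain ⟨w1, w2, h1, h2, h1e, h2e, rfl⟩ := exists_iso_split hF hn he0 he hw
  exact eich_add_mem_killer hF hs hc hn3 he hc' h1e h2e (key w1 h1 _ _ _) (key w2 h2 _ _ _) μ hw hμ

omit hF in
/-- The pairing of the radical at `e`. -/
noncomputable def B (hF : Fintype.card F = q ^ 2) (hs : Function.Surjective σ) {e : Fin n → F}
    (he : hermForm n F q e e = 0) (w w' : Fin n → F) : Γ :=
  open scoped Classical in
  if h : hermForm n F q w e = 0 ∧ hermForm n F q w' e = 0 then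
    br hs (eich hF e w (mu hF w) he h.1 (mu_spec hF w))
      (eich hF e w' (mu hF w') he h.2 (mu_spec hF w'))
  else 1

variable {e : Fin n → F} (he : hermForm n F q e e = 0)

omit hF in
theorem B_def {hF : Fintype.card F = q ^ 2} {w w' : Fin n → F} (hw : hermForm n F q w e = 0)
    (hw' : hermForm n F q w' e = 0) :
    B hF hs he w w' = br hs (eich hF e w (mu hF w) he hw (mu_spec hF w))
      (eich hF e w' (mu hF w') he hw' (mu_spec hF w')) := by
  rw [B, dif_pos ⟨hw, hw'⟩]

include hc in
theorem br_eich (hZ : ZN hF hs hc e) {w w' : Fin n → F} {μ μ' : F}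
    (hw : hermForm n F q w e = 0) (hμ : μ + μ ^ q + hermForm n F q w w = 0)
    (hw' : hermForm n F q w' e = 0) (hμ' : μ' + μ' ^ q + hermForm n F q w' w' = 0) :
    br hs (eich hF e w μ he hw hμ) (eich hF e w' μ' he hw' hμ') = B hF hs he w w' := by
  obtain ⟨hd, h1⟩ := eich_split hF he hw hμ
  obtain ⟨hd', h2⟩ := eich_split hF he hw' hμ'
  have k1 := hZ he _ hd w' μ' hw' hμ'
  have k2 := hZ he _ hd' w (mu hF w) hw (mu_spec hF w)
  rw [h1, (eich_tv_comm hF he hw (mu_spec hF w) hd).eq, br_mul_left hs hc k1.1, k1.2, mul_one,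
    h2, (eich_tv_comm hF he hw' (mu_spec hF w') hd').eq, br_mul_right hs hc k2.1.symm,
    (mem_killer_comm hs hc k2).2, mul_one, B_def hs he hw hw']

theorem σ_B {w w' : Fin n → F} (hw : hermForm n F q w e = 0) (hw' : hermForm n F q w' e = 0) :
    σ (B hF hs he w w') =
      tv hF e (hermForm n F q w w' - hermForm n F q w w' ^ q) he (im_skew hF _) := by
  rw [B_def hs he hw hw', br_spec, eich_bracket]

theorem B_inv {w w' : Fin n → F} (hw : hermForm n F q w e = 0) (hw' : hermForm n F q w' e = 0) :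
    (B hF hs he w w')⁻¹ = B hF hs he w' w := by
  rw [B_def hs he hw hw', B_def hs he hw' hw, br_inv]

theorem B_self {w : Fin n → F} (hw : hermForm n F q w e = 0) : B hF hs he w w = 1 := by
  rw [B_def hs he hw hw, br_self]

include hc in
/-- Elements over the centre commute with elements over the radical. -/
theorem commute_T (hZ : ZN hF hs hc e) {γ a : Γ} {d : F} {hd : d + d ^ q = 0}
    (hγ : σ γ = tv hF e d he hd) {w : Fin n → F} {μ : F} {hw : hermForm n F q w e = 0}
    {hμ : μ + μ ^ q + hermForm n F q w w = 0} (ha : σ a = eich hF e w μ he hw hμ) :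
    Commute γ a :=
  commutatorElement_eq_one_iff_mul_comm.1 (by rw [br_eq hs hc hγ ha]; exact (hZ he d hd w μ hw hμ).2)

include hs hc in
theorem commute_TT (hn : 3 ≤ n) {γ δ : Γ} {c d : F} {hc' : c + c ^ q = 0} {hd : d + d ^ q = 0}
    (hγ : σ γ = tv hF e c he hc') (hδ : σ δ = tv hF e d he hd) : Commute γ δ :=
  commutatorElement_eq_one_iff_mul_comm.1
    (by rw [br_eq hs hc hγ hδ]; exact (zz hF hs hc hn he hc' hd).2)

include hc in
theorem B_comm (hn : 3 ≤ n) {w w' x x' : Fin n → F} (hw : hermForm n F q w e = 0)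
    (hw' : hermForm n F q w' e = 0) (hx : hermForm n F q x e = 0) (hx' : hermForm n F q x' e = 0) :
    Commute (B hF hs he w w') (B hF hs he x x') :=
  commute_TT hF hs hc he hn (σ_B hF hs he hw hw') (σ_B hF hs he hx hx')

include hc in
theorem B_add_left (hn : 3 ≤ n) (hZ : ZN hF hs hc e) {w w' x : Fin n → F}
    (hw : hermForm n F q w e = 0) (hw' : hermForm n F q w' e = 0) (hx : hermForm n F q x e = 0) :
    B hF hs he (w + w') x = B hF hs he w x * B hF hs he w' x := by
  have hww : hermForm n F q (w + w') e = 0 := by rw [herm_add_left, hw, hw', add_zero]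
  obtain ⟨a, ha⟩ := hs (eich hF e w (mu hF w) he hw (mu_spec hF w))
  obtain ⟨a', ha'⟩ := hs (eich hF e w' (mu hF w') he hw' (mu_spec hF w'))
  obtain ⟨b, hb⟩ := hs (eich hF e x (mu hF x) he hx (mu_spec hF x))
  have hμab : mu hF w + mu hF w' - hermForm n F q w' w +
      (mu hF w + mu hF w' - hermForm n F q w' w) ^ q + hermForm n F q (w + w') (w + w') = 0 := by
    simp only [herm_add_left, herm_add_right hF, sub_pow_q hF, add_pow_q hF, ← herm_conj hF]
    linear_combination mu_spec hF w + mu_spec hF w'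
  have hab : σ (a * a') = eich hF e (w + w')
      (mu hF w + mu hF w' - hermForm n F q w' w) he hww hμab := by rw [map_mul, ha, ha', eich_mul]
  have e1 : ⁅a', b⁆ = B hF hs he w' x := by rw [br_eq hs hc ha' hb, ← B_def hs he hw' hx]
  have e2 : ⁅a, b⁆ = B hF hs he w x := by rw [br_eq hs hc ha hb, ← B_def hs he hw hx]
  have hcomm : Commute (B hF hs he w' x) a :=
    commute_T hF hs hc he hZ (σ_B hF hs he hw' hx) ha
  rw [← br_eich hF hs hc he hZ hww hμab hx (mu_spec hF x), ← br_eq hs hc hab hb,
    show ⁅a * a', b⁆ = a * ⁅a', b⁆ * a⁻¹ * ⁅a, b⁆ by simp only [commutatorElement_def]; group,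
    e1, e2, ← hcomm.eq, mul_inv_cancel_right, (B_comm hF hs hc he hn hw hx hw' hx).eq]

include hc in
theorem B_add_right (hn : 3 ≤ n) (hZ : ZN hF hs hc e) {w w' x : Fin n → F}
    (hw : hermForm n F q w e = 0) (hw' : hermForm n F q w' e = 0) (hx : hermForm n F q x e = 0) :
    B hF hs he x (w + w') = B hF hs he x w * B hF hs he x w' := by
  have hww : hermForm n F q (w + w') e = 0 := by rw [herm_add_left, hw, hw', add_zero]
  rw [← B_inv hF hs he hww hx, B_add_left hF hs hc he hn hZ hw hw' hx, _root_.mul_inv_rev,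
    B_inv hF hs he hw' hx, B_inv hF hs he hw hx, (B_comm hF hs hc he hn hx hw hx hw').eq]

include hc in
theorem B_line (hn : 3 ≤ n) {w : Fin n → F} (hw : hermForm n F q w e = 0) (hZ : ZN hF hs hc e)
    (a : F) : B hF hs he (a • e) w = 1 := by
  have hae : hermForm n F q (a • e) e = 0 := by rw [herm_smul_left, he, mul_zero]
  have hμ := mu_spec hF (a • e)
  have hd : (a + mu hF (a • e) - a ^ q) + (a + mu hF (a • e) - a ^ q) ^ q = 0 := by
    rw [herm_smul_left, herm_smul_right, he] at hμ
    rw [sub_pow_q hF, add_pow_q hF, pow_q_q hF]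
    linear_combination hμ
  have : eich hF e (a • e) (mu hF (a • e)) he hae hμ = tv hF e _ he hd := by
    apply su_ext
    intro x
    rw [eich_act, tv_act, herm_smul_right]
    module
  rw [B_def hs he hae hw, this]
  exact (hZ he _ hd w _ hw _).2

include hc in
theorem B_conj (hZ : ZN hF hs hc e) (g : Γ) {s : F} (hge : act (σ g) e = s • e)
    {w w' : Fin n → F} (hw : hermForm n F q w e = 0) (hw' : hermForm n F q w' e = 0) :
    g * B hF hs he w w' * g⁻¹ =
      B hF hs he (s ^ q • act (σ g) w) (s ^ q • act (σ g) w') := by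
  have hse : hermForm n F q (s • e) (s • e) = 0 := by
    rw [herm_smul_left, herm_smul_right, he]; ring
  have conv : ∀ {w : Fin n → F} (hw : hermForm n F q w e = 0),
      ∃ hgw hμ, σ g * eich hF e w (mu hF w) he hw (mu_spec hF w) * (σ g)⁻¹ =
        eich hF e (s ^ q • act (σ g) w) (s ^ q * s * mu hF w) he hgw hμ := by
    intro w hw
    have hgs : hermForm n F q (act (σ g) w) (s • e) = 0 := by rw [← hge, herm_act, hw]
    refine ⟨by rw [herm_smul_right] at hgs; rw [herm_smul_left, hgs], ?_, ?_⟩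
    · rw [herm_smul_left, herm_smul_right, herm_act, mul_pow, mul_pow, pow_q_q hF]
      linear_combination (s ^ q * s) * mu_spec hF w
    · rw [eich_conj, ← eich_smul hF hse hgs (by rw [herm_act, mu_spec hF w]) he _ _]
      refine su_ext fun x => ?_
      rw [eich_act, eich_act, hge]
  obtain ⟨h1, h2, e1⟩ := conv hw
  obtain ⟨h3, h4, e2⟩ := conv hw'
  rw [B_def hs he hw hw', br_conj hs hc, e1, e2]
  exact br_eich hF hs hc he hZ h1 h2 h3 h4

omit hF in
/-- The pairing of the radical at `e` is an additive function of the form. -/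
def PhiData (hF : Fintype.card F = q ^ 2) (hs : Function.Surjective σ)
    (he : hermForm n F q e e = 0) : Prop :=
  ∃ φ : F → Γ, (∀ a b, φ (a + b) = φ a * φ b) ∧ (∀ z, φ (z ^ q) = (φ z)⁻¹) ∧
    ∀ w w', hermForm n F q w e = 0 → hermForm n F q w' e = 0 →
      B hF hs he w w' = φ (hermForm n F q w w')

include hc in
/-- The subgroup of the values of the pairing. -/
theorem exists_D (hn : 3 ≤ n) (he0 : e ≠ 0) (hZ : ZN hF hs hc e) (hP : PhiData hF hs he) :
    ∃ D : Subgroup Γ, (∀ x ∈ D, ∃ (d : F) (hd : d + d ^ q = 0), σ x = tv hF e d he hd) ∧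
      (∀ d : F, ∀ hd : d + d ^ q = 0, ∃ x ∈ D, σ x = tv hF e d he hd) ∧
      (∀ x ∈ D, σ x = 1 → x = 1) ∧
      (∀ w w', hermForm n F q w e = 0 → hermForm n F q w' e = 0 → B hF hs he w w' ∈ D) ∧
      (∀ g : Γ, (∃ s : F, act (σ g) e = s • e) → ∀ x ∈ D, g * x * g⁻¹ ∈ D) := by
  obtain ⟨φ, hadd, hconj, hB⟩ := hP
  obtain ⟨f, hff, hfe, hef⟩ := exists_hyp hF he0 he
  obtain ⟨k, hke, hkf, hkk⟩ := exists_perp2 hF hn he hff hef hfe (r := (1 : F)) (one_pow q)
  have hval : ∀ z : F, φ z = B hF hs he (z • k) k := fun z => by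
    rw [hB _ _ (by rw [herm_smul_left, hke, mul_zero]) hke, herm_smul_left, hkk, mul_one]
  have hσ : ∀ z : F, σ (φ z) = tv hF e (z - z ^ q) he (im_skew hF z) := fun z => by
    rw [hval, σ_B hF hs he (by rw [herm_smul_left, hke, mul_zero]) hke]
    exact tv_congr hF (by rw [herm_smul_left, hkk, mul_one])
  have h0 : φ 0 = 1 := by
    have := hadd 0 0
    rw [add_zero] at this
    exact right_eq_mul.1 this
  let D : Subgroup Γ :=
    { carrier := Set.range φ
      one_mem' := ⟨0, h0⟩
      mul_mem' := by rintro _ _ ⟨a, rfl⟩ ⟨b, rfl⟩; exact ⟨a + b, hadd a b⟩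
      inv_mem' := by rintro _ ⟨a, rfl⟩; exact ⟨a ^ q, hconj a⟩ }
  refine ⟨D, ?_, ?_, ?_, fun w w' hw hw' => ⟨_, (hB w w' hw hw').symm⟩, ?_⟩
  · rintro _ ⟨z, rfl⟩
    exact ⟨_, _, hσ z⟩
  · intro d hd
    obtain ⟨z, hz⟩ := exists_im hF hd
    exact ⟨φ z, ⟨z, rfl⟩, (hσ z).trans (tv_congr hF hz)⟩
  · rintro _ ⟨z, rfl⟩ hz
    rw [hσ] at hz
    have h2 := congrArg (fun g => hermForm n F q (act g f) f) hz
    simp only [tv_act, act_one, herm_add_left, herm_smul_left, hfe, hef, hff, mul_one,
      zero_add] at h2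
    obtain ⟨w, hw⟩ := exists_trace hF (a := z) (sub_eq_zero.1 h2).symm
    rw [← hw, hadd, hconj, mul_inv_cancel]
  · rintro g ⟨s, hgs⟩ _ ⟨z, rfl⟩
    have hzk : hermForm n F q (z • k) e = 0 := by rw [herm_smul_left, hke, mul_zero]
    have hgw : ∀ w, hermForm n F q w e = 0 → hermForm n F q (s ^ q • act (σ g) w) e = 0 := by
      intro w hw
      have h : hermForm n F q (act (σ g) w) (act (σ g) e) = 0 := by rw [herm_act, hw]
      rw [hgs, herm_smul_right] at h
      rw [herm_smul_left, h]
    rw [hval, B_conj hF hs hc he hZ g hgs hzk hke]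
    exact ⟨_, (hB _ _ (hgw _ hzk) (hgw _ hke)).symm⟩

end Cfsg.Agent.StemSURadical
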