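import Mathlib
import Cfsg.Prelude.Def_RootSubgroups
import Cfsg.Prelude.Def_Classical
import Cfsg.Agent.Lib.RankOne
import Cfsg.Agent.Lib.OrthUnitaryHerm
import Cfsg.Agent.Lib.OrthUnitaryTransvection
import Cfsg.Agent.Lib.SymplecticRootGroups
import Cfsg.Agent.Lib.RootSubTransfer

/-!
The transvection groups of the unitary group as abstract root subgroups over the fixed field.
-/

set_option autoImplicit false
set_option linter.unusedSectionVars false

open Matrix Cfsg.Agent.OrthUnitaryHerm Cfsg.Agent.OrthUnitaryTransvection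

namespace Cfsg.Agent.UnitaryRootGroups

open Cfsg
open scoped commutatorElement

variable {F : Type*} [Field F] [Fintype F] {q n : ℕ}

local notation "⟪" x ", " y "⟫" => hermForm n F q x y

/-- The transvection group with isotropic centre `u`. -/
def T (hF : Fintype.card F = q ^ 2) (u : Fin n → F) (hu : ⟪u, u⟫ = 0) : Subgroup (SU n F q) where
  carrier := {g | ∃ c : F, c + c ^ q = 0 ∧ ∀ x, act g x = x + (c * ⟪x, u⟫) • u}
  one_mem' := ⟨0, by rw [zero_pow (q_ne_zero hF), add_zero], fun x => by simp [act_one]⟩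
  mul_mem' := by
    rintro g g' ⟨c, hc, hg⟩ ⟨d, hd, hg'⟩
    refine ⟨c + d, by rw [add_pow_q hF]; linear_combination hc + hd, fun x => ?_⟩
    rw [act_mul, hg', hg, herm_add_left, herm_smul_left, hu]
    module
  inv_mem' := by
    rintro g ⟨c, hc, hg⟩
    refine ⟨-c, by rw [neg_pow_q hF]; linear_combination -hc, fun x => ?_⟩
    have h := hg (x + (-c * ⟪x, u⟫) • u)
    rw [herm_add_left, herm_smul_left, hu, mul_zero, add_zero,
      show x + (-c * ⟪x, u⟫) • u + (c * ⟪x, u⟫) • u = x by module] at h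
    calc act g⁻¹ x = act g⁻¹ (act g (x + (-c * ⟪x, u⟫) • u)) := by rw [h]
      _ = _ := act_inv_act g _

variable (hF : Fintype.card F = q ^ 2)
include hF

theorem tv_mem_T {u : Fin n → F} (hu : ⟪u, u⟫ = 0) {c : F} (hc : c + c ^ q = 0) :
    tv hF u c hu hc ∈ T hF u hu := ⟨c, hc, tv_act hF u c hu hc⟩

theorem eq_tv {u : Fin n → F} (hu : ⟪u, u⟫ = 0) {g : SU n F q} (hg : g ∈ T hF u hu) :
    ∃ c, ∃ hc, g = tv hF u c hu hc := by
  obtain ⟨c, hc, h⟩ := hg
  exact ⟨c, hc, su_ext fun x => by rw [h, tv_act]⟩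

theorem T_ne_bot {u : Fin n → F} (hu0 : u ≠ 0) (hu : ⟪u, u⟫ = 0) : T hF u hu ≠ ⊥ := by
  intro h
  obtain ⟨c, hc0, hc⟩ := exists_skew hF
  have h1 := Subgroup.mem_bot.1 (h ▸ tv_mem_T hF hu hc)
  obtain ⟨z, hz⟩ := exists_herm_eq hF hu0 1
  have h2 := tv_act hF u c hu hc z
  rw [h1, act_one, hz, mul_one, left_eq_add, smul_eq_zero] at h2
  exact h2.elim hc0 hu0

theorem T_comm {u : Fin n → F} (hu : ⟪u, u⟫ = 0) : IsMulCommutative (T hF u hu) := by
  refine ⟨⟨fun a b => Subtype.ext (su_ext fun x => ?_)⟩⟩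
  obtain ⟨c, -, hg⟩ := a.2
  obtain ⟨d, -, hg'⟩ := b.2
  show act (a.1 * b.1) x = act (b.1 * a.1) x
  simp only [act_mul, hg, hg', herm_add_left, herm_smul_left, hu, mul_zero, add_zero]
  module

theorem T_scale {a : F} (ha : a ≠ 0) {u : Fin n → F} (hu : ⟪u, u⟫ = 0) (hau : ⟪a • u, a • u⟫ = 0) :
    T hF (a • u) hau = T hF u hu := by
  have key : ∀ (b : F) (v w : Fin n → F) (hv : ⟪v, v⟫ = 0) (hw : ⟪w, w⟫ = 0), w = b • v →
      T hF w hw ≤ T hF v hv := by
    rintro b v w hv hw rfl g ⟨c, hc, hg⟩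
    refine ⟨c * b ^ q * b, ?_, fun x => ?_⟩
    · rw [mul_pow, mul_pow, pow_q_q hF]
      linear_combination (b ^ q * b) * hc
    · rw [hg, herm_smul_right, smul_smul]
      ring_nf
  exact le_antisymm (key a u _ hu hau rfl) (key a⁻¹ _ u hau hu (by rw [inv_smul_smul₀ ha]))

theorem conjBy_T (g : SU n F q) {u : Fin n → F} (hu : ⟪u, u⟫ = 0) (hgu : ⟪act g u, act g u⟫ = 0) :
    conjBy (T hF u hu) g = T hF (act g u) hgu := by
  have key : ∀ (k : SU n F q) (v w : Fin n → F) (hv : ⟪v, v⟫ = 0) (hw : ⟪w, w⟫ = 0), w = act k v →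
      ∀ x ∈ T hF v hv, k * x * k⁻¹ ∈ T hF w hw := by
    rintro k v w hv hw rfl x ⟨c, hc, hx⟩
    refine ⟨c, hc, fun y => ?_⟩
    rw [act_mul, act_mul, hx, act_add, act_act_inv, act_smul]
    congr 3
    rw [← herm_act k, act_act_inv]
  apply le_antisymm
  · rintro _ ⟨x, hx, rfl⟩
    exact key g u _ hu hgu rfl x hx
  · intro x hx
    rw [RankOne.mem_conjBy]
    have := key g⁻¹ _ u hgu hu (act_inv_act g u).symm x hx
    rwa [inv_inv] at this

theorem commute_of_perp {u w : Fin n → F} (hu : ⟪u, u⟫ = 0) (hw : ⟪w, w⟫ = 0) (h : ⟪u, w⟫ = 0) :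
    ⁅T hF u hu, T hF w hw⁆ = ⊥ := by
  refine RankOne.commutator_eq_bot_of_comm fun a ha b hb => su_ext fun x => ?_
  obtain ⟨c, -, hg⟩ := ha
  obtain ⟨d, -, hg'⟩ := hb
  simp only [act_mul, hg, hg', herm_add_left, herm_smul_left, h, herm_skew_zero hF h, mul_zero, add_zero]
  module

theorem T_ne {u w : Fin n → F} (hu : ⟪u, u⟫ = 0) (hw : ⟪w, w⟫ = 0) (h : ⟪u, w⟫ ≠ 0) :
    T hF u hu ≠ T hF w hw := by
  intro e
  obtain ⟨c, hc0, hc⟩ := exists_skew hF
  obtain ⟨d, -, hd⟩ := e ▸ tv_mem_T hF hu hc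
  have h2 := hd w
  rw [tv_act, hw, mul_zero, zero_smul, add_zero, add_eq_left, smul_eq_zero] at h2
  rcases h2 with h2 | h2
  · exact (herm_skew_ne hF h) ((mul_eq_zero.1 h2).resolve_left hc0)
  · exact h (by rw [h2, herm_zero_left])

theorem rankOne_cond {u w : Fin n → F} (hu : ⟪u, u⟫ = 0) (hw : ⟪w, w⟫ = 0) (h : ⟪u, w⟫ ≠ 0) :
    RankOneCondition (T hF u hu) (T hF w hw) := by
  intro a ha ha1
  obtain ⟨c, hc, rfl⟩ := eq_tv hF hu ha
  have hc0 : c ≠ 0 := fun e => ha1 (su_ext fun x => by rw [tv_act, e, zero_mul, zero_smul, add_zero, act_one])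
  set r := ⟪u, w⟫ with hr
  have hr' : ⟪w, u⟫ = r ^ q := herm_conj hF u w
  have hrq : r ^ q ≠ 0 := pow_ne_zero _ h
  set d := (c * (r * r ^ q))⁻¹ with hd
  have hcq : c ^ q = -c := by linear_combination hc
  have hd' : d + d ^ q = 0 := by
    rw [hd, inv_pow, mul_pow, mul_pow, pow_q_q hF, hcq, mul_comm (r ^ q) r, neg_mul, inv_neg, add_neg_cancel]
  have hd0 : d ≠ 0 := inv_ne_zero (mul_ne_zero hc0 (mul_ne_zero h hrq))
  refine ⟨tv hF w d hw hd', tv_mem_T hF hw hd', fun e => hd0 ?_, ?_⟩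
  · have h2 := tv_act hF w d hw hd' u
    rw [e, act_one, left_eq_add, smul_eq_zero] at h2
    exact (mul_eq_zero.1 (h2.resolve_right fun e' => h (by rw [hr, e', herm_zero_right hF]))).resolve_right h
  have hiso : ∀ (g : SU n F q) {x : Fin n → F}, ⟪x, x⟫ = 0 → ⟪act g x, act g x⟫ = 0 := fun g x hx => by
    rwa [herm_act]
  have e1 : act (tv hF w d hw hd')⁻¹ u = u + (-(d * r)) • w := by
    have h2 : act (tv hF w d hw hd') (u + (-(d * r)) • w) = u := by
      rw [tv_act, herm_add_left, herm_smul_left, hw, ← hr]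
      module
    calc act (tv hF w d hw hd')⁻¹ u = act (tv hF w d hw hd')⁻¹ (act (tv hF w d hw hd') (u + (-(d * r)) • w)) := by
          rw [h2]
      _ = _ := act_inv_act _ _
  have e2 : act (tv hF u c hu hc)⁻¹ w = w + (-(c * r ^ q)) • u := by
    have h2 : act (tv hF u c hu hc) (w + (-(c * r ^ q)) • u) = w := by
      rw [tv_act, herm_add_left, herm_smul_left, hu, hr']
      module
    calc act (tv hF u c hu hc)⁻¹ w = act (tv hF u c hu hc)⁻¹ (act (tv hF u c hu hc) (w + (-(c * r ^ q)) • u)) := by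
          rw [h2]
      _ = _ := act_inv_act _ _
  have e3 : act (tv hF w d hw hd')⁻¹ u = (-(d * r)) • act (tv hF u c hu hc)⁻¹ w := by
    rw [e1, e2, smul_add, smul_smul, show -(d * r) * -(c * r ^ q) = 1 by rw [hd]; field_simp, one_smul, add_comm]
  have hA := conjBy_T hF (tv hF w d hw hd')⁻¹ hu (hiso _ hu)
  have hB := conjBy_T hF (tv hF u c hu hc)⁻¹ hw (hiso _ hw)
  rw [hA, hB]
  have key : ∀ (v v' : Fin n → F) (hv : ⟪v, v⟫ = 0) (hv' : ⟪v', v'⟫ = 0), v = (-(d * r)) • v' →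
      T hF v hv = T hF v' hv' := by
    rintro v v' hv hv' rfl
    exact T_scale hF (neg_ne_zero.2 (mul_ne_zero hd0 h)) hv' hv
  exact (key _ _ _ _ e3)

theorem rankOnePair {u w : Fin n → F} (hu : ⟪u, u⟫ = 0) (hw : ⟪w, w⟫ = 0) (h : ⟪u, w⟫ ≠ 0) :
    IsRankOnePair (T hF u hu) (T hF w hw) where
  ne := T_ne hF hu hw h
  nilpotent_left := by
    have := T_comm hF hu
    letI : CommGroup (T hF u hu) :=
      { (inferInstance : Group (T hF u hu)) with mul_comm := this.is_comm.comm }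
    exact CommGroup.isNilpotent
  nilpotent_right := by
    have := T_comm hF hw
    letI : CommGroup (T hF w hw) :=
      { (inferInstance : Group (T hF w hw)) with mul_comm := this.is_comm.comm }
    exact CommGroup.isNilpotent
  cond_left := rankOne_cond hF hu hw h
  cond_right := rankOne_cond hF hw hu (herm_skew_ne hF h)

theorem nonperp_of_pair {u w : Fin n → F} (hu0 : u ≠ 0) (hu : ⟪u, u⟫ = 0) (hw : ⟪w, w⟫ = 0)
    (hp : IsRankOnePair (T hF u hu) (T hF w hw)) : ⟪u, w⟫ ≠ 0 := fun h =>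
  RankOne.commutator_ne_bot hp (commute_of_perp hF hu hw h)

/-! ### `SL₂` on a hyperbolic plane -/

section Plane

variable {L : Type*} [Field L] (ι : L →+* F) (hι : ∀ t, ι t ^ q = ι t)
  (hι' : ∀ y : F, y ^ q = y → ∃ t, ι t = y) {e g : Fin n → F} {σ : F}
  (he : hermForm n F q e e = 0) (hg : hermForm n F q g g = 0) (heg : hermForm n F q e g = σ) (hσ : σ ≠ 0) (hσq : σ ^ q = -σ)

omit hF in
/-- The linear map of an element of `SL₂`. -/
noncomputable def planeLin (q : ℕ) (ι : L →+* F) (e g : Fin n → F) (σ : F) (M : Matrix (Fin 2) (Fin 2) L) :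
    (Fin n → F) →ₗ[F] (Fin n → F) :=
  LinearMap.id + (σ⁻¹ • hermL q g).smulRight ((ι (M 0 0) - 1) • e + ι (M 1 0) • g)
    - (σ⁻¹ • hermL q e).smulRight (ι (M 0 1) • e + (ι (M 1 1) - 1) • g)

omit hF in
theorem planeLin_apply (M : Matrix (Fin 2) (Fin 2) L) (x : Fin n → F) :
    planeLin q ι e g σ M x = x + (σ⁻¹ * ⟪x, g⟫) • ((ι (M 0 0) - 1) • e + ι (M 1 0) • g)
      - (σ⁻¹ * ⟪x, e⟫) • (ι (M 0 1) • e + (ι (M 1 1) - 1) • g) := rfl

include he hg heg hσ hσq in
theorem planeLin_mul (M N : Matrix (Fin 2) (Fin 2) L) (x : Fin n → F) :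
    planeLin q ι e g σ (M * N) x = planeLin q ι e g σ M (planeLin q ι e g σ N x) := by
  have hge : ⟪g, e⟫ = -σ := by rw [herm_conj hF e g, heg, hσq]
  simp only [planeLin_apply, Matrix.mul_apply, Fin.sum_univ_two, map_add, map_mul, herm_add_left,
    herm_sub_left, herm_smul_left, he, hg, heg, hge]
  match_scalars <;> field_simp <;> ring

omit hF in
theorem planeLin_one (x : Fin n → F) : planeLin q ι e g σ 1 x = x := by
  simp [planeLin_apply]

include he hg heg hσ hσq hι hι' in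
theorem psl2Pair : IsPSL2PairOver L (T hF e he) (T hF g hg) := by
  have hge : ⟪g, e⟫ = -σ := by rw [herm_conj hF e g, heg, hσq]
  -- the values on unitriangular elements
  have upper : ∀ M : Matrix.SpecialLinearGroup (Fin 2) L, M.1 1 0 = 0 → M.1 0 0 = 1 → M.1 1 1 = 1 →
      ∃ s : SU n F q, s ∈ T hF e he ∧ ∀ x, act s x = planeLin q ι e g σ M.1 x := by
    intro M h1 h2 h3
    have hc : -(ι (M.1 0 1) / σ) + (-(ι (M.1 0 1) / σ)) ^ q = 0 := by
      rw [neg_pow_q hF, div_pow, hι, hσq, div_neg, neg_neg, neg_add_cancel]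
    refine ⟨tv hF e _ he hc, tv_mem_T hF he hc, fun x => ?_⟩
    rw [tv_act, planeLin_apply, h1, h2, h3, map_one, map_zero]
    match_scalars <;> ring
  have lower : ∀ M : Matrix.SpecialLinearGroup (Fin 2) L, M.1 0 1 = 0 → M.1 0 0 = 1 → M.1 1 1 = 1 →
      ∃ s : SU n F q, s ∈ T hF g hg ∧ ∀ x, act s x = planeLin q ι e g σ M.1 x := by
    intro M h1 h2 h3
    have hc : ι (M.1 1 0) / σ + (ι (M.1 1 0) / σ) ^ q = 0 := by
      rw [div_pow, hι, hσq, div_neg, add_neg_cancel]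
    refine ⟨tv hF g _ hg hc, tv_mem_T hF hg hc, fun x => ?_⟩
    rw [tv_act, planeLin_apply, h1, h2, h3, map_one, map_zero]
    match_scalars <;> ring
  let K : Subgroup (Matrix.SpecialLinearGroup (Fin 2) L) :=
    { carrier := {M | ∃ s : SU n F q, ∀ x, act s x = planeLin q ι e g σ M.1 x}
      one_mem' := ⟨1, fun x => by
        rw [act_one]; exact (planeLin_one ι (e := e) (g := g) (σ := σ) x).symm⟩
      mul_mem' := fun {M N} ⟨s, hs⟩ ⟨t, ht⟩ => ⟨s * t, fun x => by
        rw [act_mul, ht, hs]; exact (planeLin_mul hF ι he hg heg hσ hσq M.1 N.1 x).symm⟩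
      inv_mem' := fun {M} ⟨s, hs⟩ => ⟨s⁻¹, fun x => by
        have h2 : planeLin q ι e g σ M.1 (planeLin q ι e g σ (M⁻¹).1 x) = x := by
          rw [← planeLin_mul hF ι he hg heg hσ hσq, ← Matrix.SpecialLinearGroup.coe_mul, mul_inv_cancel,
            Matrix.SpecialLinearGroup.coe_one, planeLin_one]
        conv_lhs => rw [← h2, ← hs]
        exact act_inv_act s _⟩ }
  have hK : ∀ M, M ∈ K := fun M => by
    refine (sup_le ((Subgroup.closure_le _).2 fun N hN => ?_) ((Subgroup.closure_le _).2 fun N hN => ?_) :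
      upperUnipotentSL2 L ⊔ lowerUnipotentSL2 L ≤ K) (by rw [SymplecticRootGroups.sl2_generated (F := L)]; exact Subgroup.mem_top M)
    · obtain ⟨s, -, hs⟩ := upper N hN.1 hN.2.1 hN.2.2; exact ⟨s, hs⟩
    · obtain ⟨s, -, hs⟩ := lower N hN.1 hN.2.1 hN.2.2; exact ⟨s, hs⟩
  choose φ hφ using hK
  let Φ : Matrix.SpecialLinearGroup (Fin 2) L →* SU n F q := MonoidHom.mk' φ fun M N => su_ext fun x => by
    rw [act_mul, hφ, hφ, hφ]; exact planeLin_mul hF ι he hg heg hσ hσq M.1 N.1 x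
  have hA : (upperUnipotentSL2 L).map Φ = T hF e he := by
    refine le_antisymm ?_ fun s hs => ?_
    · rw [upperUnipotentSL2, MonoidHom.map_closure, Subgroup.closure_le]
      rintro _ ⟨M, ⟨h1, h2, h3⟩, rfl⟩
      obtain ⟨s, hs, hsx⟩ := upper M h1 h2 h3
      rw [SetLike.mem_coe, show Φ M = s from su_ext fun x => (hφ M x).trans (hsx x).symm]
      exact hs
    · obtain ⟨c, hc, hsx⟩ := hs
      obtain ⟨t, ht⟩ := hι' (-(c * σ)) (by
        rw [neg_pow_q hF, mul_pow, hσq]; linear_combination σ * hc)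
      refine ⟨SymplecticRootGroups.slUpper t, Subgroup.subset_closure ⟨by simp [SymplecticRootGroups.slUpper],
        by simp [SymplecticRootGroups.slUpper], by simp [SymplecticRootGroups.slUpper]⟩, su_ext fun x => ?_⟩
      refine (hφ _ x).trans ?_
      rw [hsx, planeLin_apply, SymplecticRootGroups.coe_slUpper]
      simp only [Matrix.of_apply, Matrix.cons_val', Matrix.cons_val_zero, Matrix.cons_val_one,
        map_one, map_zero, ht]
      match_scalars <;> field_simp <;> ring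
  have hB : (lowerUnipotentSL2 L).map Φ = T hF g hg := by
    refine le_antisymm ?_ fun s hs => ?_
    · rw [lowerUnipotentSL2, MonoidHom.map_closure, Subgroup.closure_le]
      rintro _ ⟨M, ⟨h1, h2, h3⟩, rfl⟩
      obtain ⟨s, hs, hsx⟩ := lower M h1 h2 h3
      rw [SetLike.mem_coe, show Φ M = s from su_ext fun x => (hφ M x).trans (hsx x).symm]
      exact hs
    · obtain ⟨c, hc, hsx⟩ := hs
      obtain ⟨t, ht⟩ := hι' (c * σ) (by
        rw [mul_pow, hσq]; linear_combination -σ * hc)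
      refine ⟨SymplecticRootGroups.slLower t, Subgroup.subset_closure ⟨by simp [SymplecticRootGroups.slLower],
        by simp [SymplecticRootGroups.slLower], by simp [SymplecticRootGroups.slLower]⟩, su_ext fun x => ?_⟩
      refine (hφ _ x).trans ?_
      rw [hsx, planeLin_apply, SymplecticRootGroups.coe_slLower]
      simp only [Matrix.of_apply, Matrix.cons_val', Matrix.cons_val_zero, Matrix.cons_val_one,
        map_one, map_zero, ht]
      match_scalars <;> field_simp <;> ring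
  refine ⟨Φ, ?_, ?_, hA, hB⟩
  · rw [MonoidHom.range_eq_map, ← SymplecticRootGroups.sl2_generated, Subgroup.map_sup, hA, hB]
  · refine le_trans ?_ bot_le
    intro M hM
    have hx : ∀ x, planeLin q ι e g σ M.1 x = x := fun x => by
      rw [← hφ M x, show φ M = 1 from hM, act_one]
    have h1 := hx e
    have h2 := hx g
    simp only [planeLin_apply, he, hg, heg, hge, mul_zero, zero_smul, sub_zero, add_zero, mul_neg,
      inv_mul_cancel₀ hσ, one_smul, neg_smul, sub_neg_eq_add, add_eq_left] at h1 h2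
    have a1 := congrArg (fun y => ⟪y, g⟫) h1
    have a2 := congrArg (fun y => ⟪y, e⟫) h1
    have b1 := congrArg (fun y => ⟪y, g⟫) h2
    have b2 := congrArg (fun y => ⟪y, e⟫) h2
    simp only [herm_add_left, herm_smul_left, he, hg, heg, hge, herm_zero_left, mul_zero, add_zero, zero_add,
      mul_neg, neg_eq_zero, mul_eq_zero, hσ, or_false, sub_eq_zero] at a1 a2 b1 b2
    refine Subgroup.mem_bot.2 (Subtype.ext (Matrix.ext fun i j => ι.injective ?_))
    fin_cases i <;> fin_cases j <;> simp [a1, a2, b1, b2]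

end Plane

/-! ### The set -/

/-- All transvection groups. -/
def tSet : Set (Subgroup (SU n F q)) := {A | ∃ u : Fin n → F, u ≠ 0 ∧ ∃ hu : ⟪u, u⟫ = 0, A = T hF u hu}

theorem hyp : RootSubTransfer.Hyp (tSet hF (n := n)) where
  comm := by rintro _ ⟨u, -, hu, rfl⟩; exact T_comm hF hu
  ne := by rintro _ ⟨u, hu0, hu, rfl⟩; exact T_ne_bot hF hu0 hu
  conj := by
    rintro _ ⟨u, hu0, hu, rfl⟩ g
    refine ⟨act g u, fun h => hu0 ?_, by rwa [herm_act], conjBy_T hF g hu _⟩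
    rw [← act_inv_act g u, h]
    exact Matrix.mulVec_zero _
  pair := by
    rintro _ ⟨u, -, hu, rfl⟩ _ ⟨w, -, hw, rfl⟩
    by_cases h : ⟪u, w⟫ = 0
    · exact Or.inl (commute_of_perp hF hu hw h)
    · exact Or.inr (rankOnePair hF hu hw h)

theorem connected : IsConnectedFamily (FAdj (tSet hF (n := n))) (tSet hF (n := n)) := by
  rintro _ ⟨u, hu0, hu, rfl⟩ _ ⟨w, hw0, hw, rfl⟩
  have step : ∀ {a b : Fin n → F} (ha0 : a ≠ 0) (ha : ⟪a, a⟫ = 0) (hb0 : b ≠ 0) (hb : ⟪b, b⟫ = 0),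
      ⟪a, b⟫ ≠ 0 → FAdj (tSet hF (n := n)) (T hF a ha) (T hF b hb) := fun ha0 ha hb0 hb h =>
    ⟨⟨_, ha0, ha, rfl⟩, ⟨_, hb0, hb, rfl⟩, rankOnePair hF ha hb h⟩
  by_cases huw : ⟪u, w⟫ = 0
  swap
  · exact .single (step hu0 hu hw0 hw huw)
  obtain ⟨z, hz0, hz, h1, h2⟩ : ∃ z : Fin n → F, z ≠ 0 ∧ ⟪z, z⟫ = 0 ∧ ⟪u, z⟫ ≠ 0 ∧ ⟪w, z⟫ ≠ 0 := by
    obtain ⟨f, hf, hfu, huf⟩ := exists_hyp hF hu0 hu
    obtain ⟨g, hg, hgw, hwg⟩ := exists_hyp hF hw0 hw
    have nz : ∀ {z : Fin n → F}, ⟪u, z⟫ ≠ 0 → z ≠ 0 := fun h e => h (by rw [e, herm_zero_right hF])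
    by_cases hwf : ⟪w, f⟫ = 0
    swap
    · exact ⟨f, nz (by rw [huf]; exact one_ne_zero), hf, by rw [huf]; exact one_ne_zero, hwf⟩
    by_cases hug : ⟪u, g⟫ = 0
    swap
    · exact ⟨g, nz hug, hg, hug, by rw [hwg]; exact one_ne_zero⟩
    have hgu := herm_skew_zero hF hug
    set t := -⟪f, g⟫ with ht
    have h1 : ⟪u, f + g + t • u⟫ = 1 := by
      rw [herm_add_right hF, herm_add_right hF, herm_smul_right, huf, hug, hu]; ring
    refine ⟨f + g + t • u, nz (by rw [h1]; exact one_ne_zero), ?_, by rw [h1]; exact one_ne_zero, ?_⟩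
    · simp only [herm_add_right hF, herm_add_left, herm_smul_right, herm_smul_left, hf, hg, hu, hfu, huf, hug, hgu]
      rw [herm_conj hF f g, ht, neg_pow_q hF]
      ring
    · rw [herm_add_right hF, herm_add_right hF, herm_smul_right, hwf, hwg, herm_skew_zero hF huw]
      ring_nf
      exact one_ne_zero
  exact (Relation.ReflTransGen.single (step hu0 hu hz0 hz h1)).trans
    (.single (step hz0 hz hw0 hw (herm_skew_ne hF h2)))

theorem exists_subfield : ∃ (L : Type) (_ : Field L) (_ : Fintype L) (ι : L →+* F),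
    Fintype.card L = q ∧ (∀ t, ι t ^ q = ι t) ∧ ∀ y : F, y ^ q = y → ∃ t, ι t = y := by
  classical
  obtain ⟨σ, hσ⟩ := exists_frobHom hF
  let K : Subfield F := σ.eqLocusField (RingHom.id F)
  have hmem : ∀ x : F, x ∈ K ↔ x ^ q = x := fun x => by
    rw [← hσ]; rfl
  have hcard : Fintype.card K = q := by
    have h1 : Nat.card Kˣ = Nat.card {x : Fˣ // x ^ (q - 1) = 1} := by
      refine Nat.card_congr (Equiv.ofBijective
        (fun x : Kˣ => (⟨Units.map K.subtype.toMonoidHom x, Units.ext ?_⟩ : {x : Fˣ // x ^ (q - 1) = 1})) ⟨?_, ?_⟩)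
      · refine mul_right_cancel₀ (Units.map K.subtype.toMonoidHom x).ne_zero ?_
        rw [Units.val_pow_eq_pow_val, Units.val_one, one_mul, ← pow_succ,
          Nat.sub_add_cancel (by have := two_le_q hF; omega)]
        exact (hmem _).1 (x : K).2
      · exact fun a b h => Units.map_injective K.subtype_injective (congrArg Subtype.val h)
      · rintro ⟨y, hy⟩
        have hyK : (y : F) ∈ K := (hmem _).2 (by
          conv_lhs => rw [show q = q - 1 + 1 by have := two_le_q hF; omega, pow_succ, ← Units.val_pow_eq_pow_val,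
            hy, Units.val_one, one_mul])
        exact ⟨Units.mk0 ⟨y, hyK⟩ fun e => y.ne_zero (congrArg Subtype.val e), Subtype.ext (Units.ext rfl)⟩
    rw [card_fixedUnits hF, Nat.card_units, Nat.card_eq_fintype_card] at h1
    have := two_le_q hF
    have := Fintype.card_pos (α := K)
    omega
  let ψ : Shrink.{0} K ≃+* K := Shrink.ringEquiv.{0} K
  refine ⟨Shrink.{0} K, inferInstance, Fintype.ofEquiv _ ψ.toEquiv.symm,
    K.subtype.comp ψ.toRingHom, ?_, fun t => (hmem _).1 (ψ t).2, fun y hy => ?_⟩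
  · rw [← hcard]
    exact (Fintype.card_congr ψ.toEquiv.symm).symm
  · exact ⟨ψ.symm ⟨y, (hmem y).2 hy⟩, by simp⟩

theorem kRoot : ∃ (L : Type) (_ : Field L) (_ : Fintype L), Fintype.card L = q ∧
    IsKRootSubgroupSet L (RootSubTransfer.inside (tSet hF (n := n))) := by
  obtain ⟨L, iL, iL', ι, hcard, hι, hι'⟩ := exists_subfield hF
  refine ⟨L, iL, iL', hcard, RootSubTransfer.kRootSet (hyp hF) ?_⟩
  rintro _ ⟨u, hu0, hu, rfl⟩ _ ⟨w, -, hw, rfl⟩ hp
  have h := nonperp_of_pair hF hu0 hu hw hp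
  obtain ⟨σ, hσ0, hσ⟩ := exists_skew hF
  have ha0 : (σ / ⟪u, w⟫) ^ q ≠ 0 := pow_ne_zero _ (div_ne_zero hσ0 h)
  have hg : ⟪(σ / ⟪u, w⟫) ^ q • w, (σ / ⟪u, w⟫) ^ q • w⟫ = 0 := by
    rw [herm_smul_left, herm_smul_right, hw, mul_zero, mul_zero]
  rw [← T_scale hF ha0 hw hg]
  exact psl2Pair hF ι hι hι' hu hg
    (by rw [herm_smul_right, pow_q_q hF, div_mul_cancel₀ _ h]) hσ0 (by linear_combination hσ)

theorem closure_eq {u : Fin n → F} (hu0 : u ≠ 0) (hu : ⟪u, u⟫ = 0) :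
    Subgroup.closure {g : SU n F q |
      (∀ v : Fin n → F, ∃ c : F, ((g : Matrix.SpecialLinearGroup (Fin n) F) : Matrix (Fin n) (Fin n) F) *ᵥ v = v + c • u) ∧
      ∀ v : Fin n → F, ⟪v, u⟫ = 0 →
        ((g : Matrix.SpecialLinearGroup (Fin n) F) : Matrix (Fin n) (Fin n) F) *ᵥ v = v} = T hF u hu := by
  refine le_antisymm ((Subgroup.closure_le _).2 ?_) fun g hg => Subgroup.subset_closure ?_
  · rintro g ⟨h1, h2⟩
    obtain ⟨z, hz⟩ := exists_herm_eq hF hu0 1
    obtain ⟨c, hc⟩ := h1 z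
    have hcz : act g z = z + c • u := hc
    refine ⟨c, ?_, fun x => ?_⟩
    · have h3 := herm_act g z z
      rw [hcz, herm_add_left, herm_add_right hF, herm_add_right hF, herm_smul_left, herm_smul_left,
        herm_smul_right, herm_smul_right, hu, hz, herm_conj hF z u, hz, one_pow] at h3
      linear_combination h3
    · have h3 : act g (x - ⟪x, u⟫ • z) = x - ⟪x, u⟫ • z :=
        h2 _ (by rw [herm_sub_left, herm_smul_left, hz, mul_one, sub_self])
      rw [act_sub, act_smul, hcz, sub_eq_iff_eq_add] at h3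
      rw [h3]
      module
  · obtain ⟨c, -, h⟩ := hg
    exact ⟨fun v => ⟨_, h v⟩, fun v hv => by
      show act g v = v
      rw [h, hv, mul_zero, zero_smul, add_zero]⟩

theorem set_eq : {A : Subgroup (SU n F q) | ∃ p : Fin n → F, p ≠ 0 ∧ ⟪p, p⟫ = 0 ∧
      A = Subgroup.closure {g : SU n F q |
        (∀ v : Fin n → F, ∃ c : F, ((g : Matrix.SpecialLinearGroup (Fin n) F) : Matrix (Fin n) (Fin n) F) *ᵥ v = v + c • p) ∧
        ∀ v : Fin n → F, ⟪v, p⟫ = 0 →
          ((g : Matrix.SpecialLinearGroup (Fin n) F) : Matrix (Fin n) (Fin n) F) *ᵥ v = v}} = tSet hF := by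
  ext A
  constructor
  · rintro ⟨p, hp0, hp, rfl⟩; exact ⟨p, hp0, hp, closure_eq hF hp0 hp⟩
  · rintro ⟨p, hp0, hp, rfl⟩; exact ⟨p, hp0, hp, (closure_eq hF hp0 hp).symm⟩

theorem nonempty (hn : 2 ≤ n) : (tSet hF (n := n)).Nonempty := by
  obtain ⟨e, he0, he⟩ := OrthUnitaryTransvection.exists_isotropic hF hn
  exact ⟨_, e, he0, he, rfl⟩

end Cfsg.Agent.UnitaryRootGroups
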