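import Cfsg.Agent.Lib.StemSUBaseTools
import Cfsg.Agent.Lib.StemSUGen
import Cfsg.Agent.Lib.UnitaryRootGroups
import Cfsg.Agent.Lib.StemSL2
import Cfsg.Agent.Lib.OrthUnitarySL2
import Mathlib

/-!
Central extensions of `SU_1(q)` and `SU_2(q) ≅ SL_2(q)` with kernel of order prime to `q`, generated by
`p`-elements, are trivial.
-/

set_option autoImplicit false
set_option linter.unusedSectionVars false

namespace Cfsg.Agent.StemSUTwo

open Subgroup
open scoped MatrixGroups
open Cfsg.Agent.OrthUnitaryHerm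
open Cfsg.Agent.OrthUnitaryTransvection
open Cfsg.Agent.StemSULifts
open Cfsg.Agent.StemLift (IsPElem)

universe u v

variable {F : Type v} [Field F] [Fintype F] {q : ℕ}

theorem ptriv_one (hF : Fintype.card F = q ^ 2) (p : ℕ) [Fact p.Prime] : PTriv.{u} p 1 F q := by
  intro Γ _ _ σ hs hc hZ hgen
  have h1 : ∀ g : SU 1 F q, g = 1 := fun g => by
    apply Subtype.ext; apply Subtype.ext
    ext i j
    have h := g.1.2
    rw [Matrix.det_fin_one] at h
    rw [Subsingleton.elim i 0, Subsingleton.elim j 0]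
    simpa using h
  have hker : σ.ker = ⊤ := eq_top_iff.2 fun g _ => h1 (σ g)
  have hd := StemSLnPrime.ker_le_commutator p hZ hgen
  rw [hker] at hd hc
  rw [Subgroup.eq_bot_iff_forall]
  intro z _
  have hcomm : commutator Γ = ⊥ := by
    rw [_root_.commutator_def, Subgroup.commutator_eq_bot_iff_le_centralizer]
    intro x _ y _
    exact mem_center_iff.1 (hc (mem_top x)) y
  exact Subgroup.mem_bot.1 (hcomm ▸ hd (mem_top z))

/-- An isomorphism of `SL₂` over the fixed field with `SU₂`. -/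
theorem exists_sl2_iso (hF : Fintype.card F = q ^ 2) :
    ∃ (L : Type) (_ : Field L) (_ : Fintype L) (_ : L →+* F),
      Nonempty (SL(2, L) ≃* SU 2 F q) := by
  classical
  obtain ⟨L, iL, iL', ι, hcard, hι, hι'⟩ := UnitaryRootGroups.exists_subfield hF
  refine ⟨L, iL, iL', ι, ?_⟩
  obtain ⟨e, he0, he⟩ := exists_isotropic hF (le_refl 2)
  obtain ⟨f, hff, hfe, hef⟩ := exists_hyp hF he0 he
  obtain ⟨c, hc0, hc⟩ := exists_skew hF
  have hcq : c ^ q = -c := by linear_combination hc
  obtain ⟨g, hg, heg⟩ : ∃ g, hermForm 2 F q g g = 0 ∧ hermForm 2 F q e g = c := ⟨(c ^ q) • f,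
    by rw [herm_smul_left, herm_smul_right, hff]; ring,
    by rw [herm_smul_right, hef, mul_one, pow_q_q hF]⟩
  have hge : hermForm 2 F q g e = -c := by rw [herm_conj hF e g, heg, hcq]
  let K : Subgroup SL(2, L) :=
    { carrier := {M | ∃ s : SU 2 F q, ∀ x, act s x = UnitaryRootGroups.planeLin q ι e g c M.1 x}
      one_mem' := ⟨1, fun x => by
        rw [act_one]; exact (UnitaryRootGroups.planeLin_one ι (e := e) (g := g) (σ := c) x).symm⟩
      mul_mem' := fun {M N} ⟨s, hs⟩ ⟨t, ht⟩ => ⟨s * t, fun x => by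
        rw [act_mul, ht, hs]
        exact (UnitaryRootGroups.planeLin_mul hF ι he hg heg hc0 hcq M.1 N.1 x).symm⟩
      inv_mem' := fun {M} ⟨s, hs⟩ => ⟨s⁻¹, fun x => by
        have h2 : UnitaryRootGroups.planeLin q ι e g c M.1
            (UnitaryRootGroups.planeLin q ι e g c (M⁻¹).1 x) = x := by
          rw [← UnitaryRootGroups.planeLin_mul hF ι he hg heg hc0 hcq,
            ← Matrix.SpecialLinearGroup.coe_mul, mul_inv_cancel, Matrix.SpecialLinearGroup.coe_one,
            UnitaryRootGroups.planeLin_one]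
        conv_lhs => rw [← h2, ← hs]
        exact act_inv_act s _⟩ }
  have hK : ∀ M, M ∈ K := fun M => by
    refine (sup_le ((Subgroup.closure_le _).2 fun N hN => ?_) ((Subgroup.closure_le _).2 fun N hN => ?_) :
      upperUnipotentSL2 L ⊔ lowerUnipotentSL2 L ≤ K)
      (by rw [SymplecticRootGroups.sl2_generated (F := L)]; exact Subgroup.mem_top M)
    · have hd : -(ι (N.1 0 1) / c) + (-(ι (N.1 0 1) / c)) ^ q = 0 := by
        rw [neg_pow_q hF, div_pow, hι, hcq, div_neg, neg_neg, neg_add_cancel]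
      refine ⟨tv hF e _ he hd, fun x => ?_⟩
      rw [tv_act, UnitaryRootGroups.planeLin_apply, hN.1, hN.2.1, hN.2.2, map_one, map_zero]
      match_scalars <;> ring
    · have hd : ι (N.1 1 0) / c + (ι (N.1 1 0) / c) ^ q = 0 := by
        rw [div_pow, hι, hcq, div_neg, add_neg_cancel]
      refine ⟨tv hF g _ hg hd, fun x => ?_⟩
      rw [tv_act, UnitaryRootGroups.planeLin_apply, hN.1, hN.2.1, hN.2.2, map_one, map_zero]
      match_scalars <;> ring
  choose φ hφ using hK
  let Φ : SL(2, L) →* SU 2 F q := MonoidHom.mk' φ fun M N => su_ext fun x => by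
    rw [act_mul, hφ, hφ, hφ]
    exact UnitaryRootGroups.planeLin_mul hF ι he hg heg hc0 hcq M.1 N.1 x
  have hinj : Function.Injective Φ := by
    rw [← MonoidHom.ker_eq_bot_iff, Subgroup.eq_bot_iff_forall]
    intro M hM
    have hx : ∀ x, UnitaryRootGroups.planeLin q ι e g c M.1 x = x := fun x => by
      rw [← hφ M x, show φ M = 1 from hM, act_one]
    have h1 := hx e
    have h2 := hx g
    simp only [UnitaryRootGroups.planeLin_apply, he, hg, heg, hge, mul_zero, zero_smul, sub_zero,
      add_zero, mul_neg, inv_mul_cancel₀ hc0, one_smul, neg_smul, sub_neg_eq_add, add_eq_left] at h1 h2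
    have a1 := congrArg (fun y => hermForm 2 F q y g) h1
    have a2 := congrArg (fun y => hermForm 2 F q y e) h1
    have b1 := congrArg (fun y => hermForm 2 F q y g) h2
    have b2 := congrArg (fun y => hermForm 2 F q y e) h2
    simp only [herm_add_left, herm_smul_left, he, hg, heg, hge, herm_zero_left, mul_zero, add_zero,
      zero_add, mul_neg, neg_eq_zero, mul_eq_zero, hc0, or_false, sub_eq_zero] at a1 a2 b1 b2
    refine Subtype.ext (Matrix.ext fun i j => ι.injective ?_)
    fin_cases i <;> fin_cases j <;> simp [a1, a2, b1, b2]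
  have hcardeq : Nat.card SL(2, L) = Nat.card (SU 2 F q) := by
    rw [OrthUnitarySL2.card_SL2 (q := q) (by rw [Nat.card_eq_fintype_card, hcard]),
      StemSUBaseTools.card_SU_two hF]
  exact ⟨MulEquiv.ofBijective Φ
    ((Nat.bijective_iff_injective_and_card Φ).2 ⟨hinj, hcardeq⟩)⟩

theorem ptriv_two (hF : Fintype.card F = q ^ 2) (p : ℕ) [Fact p.Prime] [CharP F p] :
    PTriv.{u} p 2 F q := by
  obtain ⟨L, iL, iL', ι, ⟨Φ⟩⟩ := exists_sl2_iso hF
  have : CharP L p := (RingHom.charP_iff ι ι.injective p).2 inferInstance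
  intro Γ _ _ σ hs hc hZ hgen
  let τ : Γ →* SL(2, L) := Φ.symm.toMonoidHom.comp σ
  have hker : τ.ker = σ.ker := by
    ext x; simp [τ, MonoidHom.mem_ker]
  have hτ : Cfsg.IsStemExtension τ :=
    ⟨Φ.symm.surjective.comp hs, hker ▸ hc,
      hker ▸ StemSLnPrime.ker_le_commutator p hZ hgen⟩
  rw [← hker]
  refine StemBasic.ker_eq_bot_of_primes fun ℓ hl z hz ho => ?_
  refine StemSL2.kill_prime p hτ hl ?_ hz ho
  rintro rfl
  exact hl.ne_one (Nat.eq_one_of_dvd_coprimes hZ
    (hker ▸ ho ▸ StemBasic.orderOf_dvd_card_ker hz) dvd_rfl)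

end Cfsg.Agent.StemSUTwo
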