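import Cfsg.Agent.Lib.StemSUDiag
import Cfsg.Agent.Lib.StemSUTwo
import Mathlib

/-!
Central extensions of `SU_3(q)` with kernel of order prime to `q`, generated by `p`-elements, are trivial.
-/

set_option autoImplicit false
set_option linter.unusedSectionVars false

namespace Cfsg.Agent.StemSUThree

open Subgroup
open Cfsg.Agent.OrthUnitaryHerm
open Cfsg.Agent.OrthUnitaryTransvection
open Cfsg.Agent.StemSUFrame
open Cfsg.Agent.StemSULifts
open Cfsg.Agent.StemSUDiag
open Cfsg.Agent.StemLift (IsPElem)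
open scoped Matrix

universe u v

/-- An isotropic fixed vector forces a `p`-element. -/
theorem isPElem_of_fix_iso {F : Type v} [Field F] [Fintype F] {q : ℕ} (hF : Fintype.card F = q ^ 2)
    (p : ℕ) [Fact p.Prime] [CharP F p] {z : SU 3 F q} {e : Fin 3 → F} (he0 : e ≠ 0)
    (he : hermForm 3 F q e e = 0) (hze : act z e = e) : IsPElem p z := by
  obtain ⟨f, hff, hfe, hef⟩ := exists_hyp hF he0 he
  obtain ⟨w, μ, hw, hμ, hmv⟩ := exists_eich_move hF he (u := act z f) (v := f)
    (by rw [herm_act, hff]) hff (by conv_lhs => arg 5; rw [← hze]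
                                    rw [herm_act, hfe]) hfe
  set E := eich hF e w μ he hw hμ with hE
  obtain ⟨a, b, haa, hbb, hab, hfix, -, -⟩ := StemSUGen.exists_pair hF he hff hef hfe
  obtain ⟨hka, hkb⟩ := hfix (E * z) (by rw [act_mul, hze, hE, eich_self]) (by rw [act_mul, hmv])
  have hba := herm_skew_zero hF hab
  obtain ⟨ρ, -, hρ⟩ := exists_emb hF 2 3 1 rfl ![a, b]
    (fun i => by fin_cases i <;> simp [haa, hbb])
    (fun i j h => by fin_cases i <;> fin_cases j <;> simp_all)
  obtain ⟨x, hx⟩ := (hρ (E * z)).2 fun i => by fin_cases i <;> simp [hka, hkb]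
  have hx1 : x = 1 := by
    apply Subtype.ext; apply Subtype.ext
    ext i j
    have h := x.1.2
    rw [Matrix.det_fin_one] at h
    rw [Subsingleton.elim i 0, Subsingleton.elim j 0]
    simpa using h
  rw [hx1, map_one, eq_comm, mul_eq_one_iff_eq_inv'] at hx
  rw [hx]
  exact (isPElem_eich hF p he hw hμ).inv

theorem eq_one_of_pElem {G : Type*} [Group G] {p ℓ : ℕ} (hp : p.Prime) (hl : ℓ.Prime) (hne : ℓ ≠ p)
    {g : G} (h : IsPElem p g) (hg : g ^ ℓ = 1) : g = 1 := by
  obtain ⟨k, hk⟩ := h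
  refine orderOf_eq_one_iff.1 (Nat.eq_one_of_dvd_coprimes ?_ (orderOf_dvd_of_pow_eq_one hg)
    (orderOf_dvd_of_pow_eq_one hk))
  exact ((Nat.coprime_primes hl hp).2 hne).pow_right k

/-- Primes dividing `q² - q + 1` but not `q² - 1` have cyclic Sylow subgroups in `SU_3(q)`. -/
theorem sylow_cyclic {F : Type v} [Field F] [Fintype F] {q : ℕ} (hF : Fintype.card F = q ^ 2)
    (p : ℕ) [Fact p.Prime] [CharP F p] {ℓ : ℕ} (hl : ℓ.Prime) (hlp : ℓ ≠ p)
    (hlq : ¬ ℓ ∣ q) (hl2 : ¬ ℓ ∣ q ^ 2 - 1) (P : Sylow ℓ (SU 3 F q)) :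
    ∃ g, (P : Subgroup (SU 3 F q)) = zpowers g := by
  have : Fact ℓ.Prime := ⟨hl⟩
  have hfin : Finite (SU 3 F q) := inferInstance
  suffices IsCyclic (P : Subgroup (SU 3 F q)) from
    (Subgroup.isCyclic_iff_exists_zpowers_eq_top _).1 this |>.imp fun g h => h.symm
  rcases eq_or_ne (P : Subgroup (SU 3 F q)) ⊥ with hP | hP
  · rw [hP]; exact isCyclic_of_subsingleton
  have : Nontrivial (P : Subgroup (SU 3 F q)) := (Subgroup.nontrivial_iff_ne_bot _).2 hP
  have hPg : IsPGroup ℓ (P : Subgroup (SU 3 F q)) := P.isPGroup'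
  have hcn := hPg.center_nontrivial
  obtain ⟨z0, hz0⟩ := exists_prime_orderOf_dvd_card' (G := center (P : Subgroup (SU 3 F q))) ℓ (by
    obtain ⟨k, hk, he⟩ := (hPg.to_subgroup (center _)).nontrivial_iff_card.1 hcn
    rw [he]; exact dvd_pow_self _ hk.ne')
  set z : SU 3 F q := ((z0 : (P : Subgroup (SU 3 F q))) : SU 3 F q)
  have hzl : z ^ ℓ = 1 := by
    have h := pow_orderOf_eq_one z0
    rw [hz0] at h
    exact congrArg (fun y : center (P : Subgroup (SU 3 F q)) =>
      ((y : (P : Subgroup (SU 3 F q))) : SU 3 F q)) h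
  have hz1 : z ≠ 1 := fun h => by
    have : z0 = 1 := Subtype.ext (Subtype.ext h)
    rw [this, orderOf_one] at hz0
    exact hl.ne_one hz0.symm
  have hzc : ∀ g : (P : Subgroup (SU 3 F q)), Commute (g : SU 3 F q) z := fun g =>
    congrArg Subtype.val (mem_center_iff.1 z0.2 g)
  -- no eigenvector
  have heig : ∀ v : Fin 3 → F, v ≠ 0 → ∀ l : F, act z v ≠ l • v := by
    intro v hv l hzv
    have hpw : ∀ k : ℕ, act (z ^ k) v = l ^ k • v := by
      intro k
      induction k with
      | zero => simp [act_one]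
      | succ k ih => rw [pow_succ, act_mul, hzv, act_smul, ih, smul_smul, pow_succ']
    have hll : l ^ ℓ = 1 := by
      have := hpw ℓ
      rw [hzl, act_one] at this
      by_contra hne
      have h2 : (1 - l ^ ℓ) • v = 0 := by rw [sub_smul, one_smul, ← this, sub_self]
      exact hv ((smul_eq_zero.1 h2).resolve_left (sub_ne_zero.2 (Ne.symm hne)))
    have hl1 : l = 1 := by
      have hl0 : l ≠ 0 := fun e => by rw [e, zero_pow hl.ne_zero] at hll; exact zero_ne_one hll
      have h1 : orderOf l ∣ ℓ := orderOf_dvd_of_pow_eq_one hll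
      have h2 : orderOf l ∣ q ^ 2 - 1 := by
        rw [← hF]; exact orderOf_dvd_of_pow_eq_one (FiniteField.pow_card_sub_one_eq_one l hl0)
      rcases (Nat.dvd_prime hl).1 h1 with h | h
      · exact orderOf_eq_one_iff.1 h
      · exact absurd (h ▸ h2) hl2
    rw [hl1, one_smul] at hzv
    by_cases hvv : hermForm 3 F q v v = 0
    · exact hz1 (eq_one_of_pElem Fact.out hl hlp (isPElem_of_fix_iso hF p hv hvv hzv) hzl)
    · obtain ⟨ρ, hρi, hρ⟩ := exists_emb hF 1 3 2 rfl ![v] (fun i => by fin_cases i; simpa using hvv)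
        (fun i j h => absurd (Subsingleton.elim i j) h)
      obtain ⟨x, hx⟩ := (hρ z).2 fun i => by fin_cases i; simpa using hzv
      have hxl : x ^ ℓ = 1 := hρi (by rw [map_pow, hx, hzl, map_one])
      rcases (Nat.dvd_prime hl).1 (orderOf_dvd_of_pow_eq_one hxl) with h | h
      · exact hz1 (by rw [← hx, orderOf_eq_one_iff.1 h, map_one])
      · have hd : ℓ ∣ q * (q ^ 2 - 1) := by
          rw [← StemSUBaseTools.card_SU_two hF, ← h]; exact orderOf_dvd_natCard x
        rcases hl.dvd_mul.1 hd with hd | hd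
        · exact hlq hd
        · exact hl2 hd
  -- the commutant is a finite commutative domain
  let A : (Fin 3 → F) →ₗ[F] (Fin 3 → F) :=
    ((z : Matrix.SpecialLinearGroup (Fin 3) F) : Matrix (Fin 3) (Fin 3) F).mulVecLin
  have hA : ∀ x, A x = act z x := fun x => rfl
  have hinjY : ∀ (Y : (Fin 3 → F) →ₗ[F] (Fin 3 → F)), (∀ x, Y (A x) = A (Y x)) → Y ≠ 0 →
      Function.Injective Y := by
    intro Y hY hY0
    rw [← LinearMap.ker_eq_bot]
    by_contra hker
    have hsum := Y.finrank_range_add_finrank_ker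
    rw [Module.finrank_fin_fun] at hsum
    have hrpos : Y.range ≠ ⊥ := fun h => hY0 (LinearMap.range_eq_bot.1 h)
    have hk1 := Submodule.one_le_finrank_iff.2 hker
    have hr1 := Submodule.one_le_finrank_iff.2 hrpos
    have key : ∀ U : Submodule F (Fin 3 → F), Module.finrank F U = 1 →
        (∀ x ∈ U, A x ∈ U) → False := by
      intro U hU hAU
      obtain ⟨⟨u, hu⟩, hu0, hspan⟩ := finrank_eq_one_iff'.1 hU
      obtain ⟨l, hl'⟩ := hspan ⟨A u, hAU u hu⟩
      exact heig u (fun h => hu0 (Subtype.ext h)) l (by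
        rw [← hA]; exact (congrArg Subtype.val hl').symm)
    by_cases hk : Module.finrank F Y.ker = 1
    · refine key _ hk fun x hx => ?_
      rw [LinearMap.mem_ker] at hx ⊢
      rw [hY, hx, map_zero]
    · refine key _ (show Module.finrank F Y.range = 1 by omega) ?_
      rintro _ ⟨x, rfl⟩
      exact ⟨A x, hY x⟩
  -- every element of `P` is a polynomial in `z`
  set v : Fin 3 → F := Pi.single 0 1 with hv
  have hv0 : v ≠ 0 := by simp [hv]
  let Φ : (Fin 3 → F) →ₗ[F] ((Fin 3 → F) →ₗ[F] (Fin 3 → F)) :=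
    { toFun := fun c => c 0 • LinearMap.id + c 1 • A + c 2 • (A ∘ₗ A)
      map_add' := fun c d => by simp only [Pi.add_apply, add_smul]; abel
      map_smul' := fun r c => by
        simp only [Pi.smul_apply, smul_eq_mul, RingHom.id_apply, smul_add, smul_smul] }
  have hΦc : ∀ c x, Φ c (A x) = A (Φ c x) := fun c x => by
    simp [Φ, map_add, map_smul]
  have hbij : Function.Surjective fun c => Φ c v := by
    let ev : (Fin 3 → F) →ₗ[F] (Fin 3 → F) :=
      { toFun := fun c => Φ c v
        map_add' := fun c d => by simp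
        map_smul' := fun r c => by simp }
    refine (LinearMap.injective_iff_surjective (f := ev)).1 (LinearMap.ker_eq_bot.1 ?_)
    rw [Submodule.eq_bot_iff]
    intro c hc
    have hc' : Φ c v = 0 := hc
    have hΦ0 : Φ c = 0 := by
      by_contra hne
      exact hv0 (hinjY _ (hΦc c) hne (by rw [hc', map_zero]))
    -- `v, A v, A² v` are independent
    have h1 : c 0 • v + c 1 • A v + c 2 • A (A v) = 0 := hc'
    have hind : ∀ a b : F, a • v + b • A v = 0 → a = 0 ∧ b = 0 := by
      intro a b hab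
      by_cases hb : b = 0
      · rw [hb, zero_smul, add_zero, smul_eq_zero] at hab
        exact ⟨hab.resolve_right hv0, hb⟩
      · refine absurd ?_ (heig v hv0 (-(b⁻¹ * a)))
        rw [← hA]
        have : A v = b⁻¹ • ((a • v + b • A v) - a • v) := by
          rw [add_sub_cancel_left, inv_smul_smul₀ hb]
        rw [this, hab, zero_sub, smul_neg, smul_smul, neg_smul]
    by_cases h2 : c 2 = 0
    · rw [h2, zero_smul, add_zero] at h1
      obtain ⟨e0, e1⟩ := hind _ _ h1
      funext i; fin_cases i <;> simp [e0, e1, h2]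
    · exfalso
      -- the plane spanned by `v, A v` would be invariant
      let Y : (Fin 3 → F) →ₗ[F] (Fin 3 → F) := A
      set U := Submodule.span F ({v, A v} : Set (Fin 3 → F)) with hU
      have hAU : ∀ x ∈ U, A x ∈ U := by
        intro x hx
        obtain ⟨a, b, rfl⟩ := Submodule.mem_span_pair.1 hx
        rw [map_add, map_smul, map_smul]
        refine add_mem (U.smul_mem _ (Submodule.subset_span (by simp))) (U.smul_mem _ ?_)
        have : A (A v) = (c 2)⁻¹ • (-(c 0 • v) - c 1 • A v) := by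
          rw [eq_inv_smul_iff₀ h2]
          linear_combination (norm := module) h1
        rw [this]
        exact U.smul_mem _ (sub_mem (neg_mem (U.smul_mem _ (Submodule.subset_span (by simp))))
          (U.smul_mem _ (Submodule.subset_span (by simp))))
      have hAinj : Function.Injective A := by
        intro x y h
        rw [← act_inv_act z x, ← act_inv_act z y, ← hA, ← hA, h]
      obtain ⟨w, hw0, hwU⟩ : ∃ w : Fin 3 → F, w ≠ 0 ∧ ∀ u ∈ U, hermForm 3 F q u w = 0 := by
        by_contra hcon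
        push Not at hcon
        let g : (Fin 3 → F) →ₗ[F] (Fin 2 → F) :=
          LinearMap.pi ![hermL q v, hermL q (A v)]
        have hgk : g.ker = ⊥ := by
          rw [Submodule.eq_bot_iff]
          intro x hx
          by_contra hx0
          obtain ⟨u, hu, hne⟩ := hcon x hx0
          obtain ⟨a, b, rfl⟩ := Submodule.mem_span_pair.1 hu
          have e0 : hermForm 3 F q x v = 0 := congrFun hx 0
          have e1 : hermForm 3 F q x (A v) = 0 := congrFun hx 1
          refine hne ?_
          rw [herm_add_left, herm_smul_left, herm_smul_left, herm_skew_zero hF e0,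
            herm_skew_zero hF e1, mul_zero, mul_zero, add_zero]
        have := LinearMap.finrank_le_finrank_of_injective (LinearMap.ker_eq_bot.1 hgk)
        simp at this
      -- the orthogonal line is invariant
      have hdim : Module.finrank F U = 2 := by
        rw [hU, show ({v, A v} : Set (Fin 3 → F)) = Set.range ![v, A v] by simp [Set.pair_comm]]
        rw [finrank_span_eq_card]
        · simp
        · rw [LinearIndependent.pair_iff]; exact hind
      let AU : U →ₗ[F] U := A.restrict hAU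
      have hAUs : Function.Surjective AU := LinearMap.injective_iff_surjective.1 fun x y h =>
        Subtype.ext (hAinj (congrArg Subtype.val h))
      set W := Submodule.span F ({w} : Set (Fin 3 → F)) with hW
      have hperp : ∀ x, (∀ u ∈ U, hermForm 3 F q u x = 0) → x ∈ W := by
        intro x hx
        by_contra hxW
        have hli : LinearIndependent F ![w, x] := by
          rw [LinearIndependent.pair_iff]
          intro a b hab
          by_cases hb : b = 0
          · rw [hb, zero_smul, add_zero, smul_eq_zero] at hab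
            exact ⟨hab.resolve_right hw0, hb⟩
          · refine absurd (Submodule.mem_span_singleton.2 ⟨-(b⁻¹ * a), ?_⟩) hxW
            have : x = b⁻¹ • ((a • w + b • x) - a • w) := by
              rw [add_sub_cancel_left, inv_smul_smul₀ hb]
            rw [this, hab, zero_sub, smul_neg, smul_smul, neg_smul]
        let g : (Fin 3 → F) →ₗ[F] (Fin 2 → F) := LinearMap.pi ![hermL q w, hermL q x]
        have hUg : U ≤ g.ker := fun u hu => by
          rw [LinearMap.mem_ker]; funext i; fin_cases i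
          · exact hwU u hu
          · exact hx u hu
        have hgs : Function.Surjective g := by
          intro y
          obtain ⟨u, h1, h2⟩ := exists_herm_pair hF hw0 (v := x)
            (fun a ha => hxW (Submodule.mem_span_singleton.2 ⟨a, ha.symm⟩)) (y 0) (y 1)
          exact ⟨u, funext fun i => by fin_cases i; exacts [h1, h2]⟩
        have h4 := g.finrank_range_add_finrank_ker
        rw [LinearMap.range_eq_top.2 hgs, finrank_top, Module.finrank_fin_fun,
          Module.finrank_fin_fun] at h4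
        have h5 := Submodule.finrank_mono hUg
        omega
      obtain ⟨l, hl'⟩ := Submodule.mem_span_singleton.1 (hperp (A w) fun u hu => by
        obtain ⟨⟨u', hu'⟩, he⟩ := hAUs ⟨u, hu⟩
        have he' : A u' = u := congrArg Subtype.val he
        rw [← he', hA, hA, herm_act]
        exact hwU u' hu')
      exact heig w hw0 l (by rw [← hA]; exact hl'.symm)
  let ψ : ↥(P : Subgroup (SU 3 F q)) → ((Fin 3 → F) →ₗ[F] (Fin 3 → F)) := fun g =>
    ((g.1 : Matrix.SpecialLinearGroup (Fin 3) F) : Matrix (Fin 3) (Fin 3) F).mulVecLin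
  have hψc : ∀ g x, ψ g (A x) = A (ψ g x) := fun g x => by
    show act (g : SU 3 F q) (act z x) = act z (act (g : SU 3 F q) x)
    rw [← act_mul, ← act_mul, (hzc g).eq]
  have hpoly : ∀ g, ∃ c, ψ g = Φ c := by
    intro g
    obtain ⟨c, hc⟩ := hbij (ψ g v)
    refine ⟨c, sub_eq_zero.1 ?_⟩
    by_contra hne
    refine hv0 (hinjY _ (fun x => ?_) hne ?_)
    · simp [LinearMap.sub_apply, hψc, hΦc, map_sub]
    · rw [map_zero, LinearMap.sub_apply, sub_eq_zero]; exact hc.symm
  -- the embedding into a finite domain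
  let R := Algebra.adjoin F ({A} : Set (Module.End F (Fin 3 → F)))
  have hΦR : ∀ c, Φ c ∈ R := fun c => by
    show c 0 • (1 : Module.End F (Fin 3 → F)) + c 1 • A + c 2 • (A * A) ∈ R
    exact add_mem (add_mem (R.smul_mem (one_mem _) _) (R.smul_mem (Algebra.subset_adjoin rfl) _))
      (R.smul_mem (mul_mem (Algebra.subset_adjoin rfl) (Algebra.subset_adjoin rfl)) _)
  have hRc : ∀ Y : R, ∀ x, (Y : Module.End F (Fin 3 → F)) (A x) = A ((Y : Module.End F (Fin 3 → F)) x) := by
    intro Y x
    have h : Commute A (Y : Module.End F (Fin 3 → F)) :=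
      Algebra.commute_of_mem_adjoin_self Y.2
    exact (LinearMap.congr_fun h.eq x).symm
  let _ : CommRing R :=
    { (inferInstance : Ring R) with
      mul_comm := fun a b => Subtype.ext
        (Algebra.commute_of_mem_adjoin_singleton_of_commute a.2
          (Algebra.commute_of_mem_adjoin_self b.2).symm).symm.eq }
  have : NoZeroDivisors R := ⟨fun {a b} hab => by
    by_contra hne
    push Not at hne
    obtain ⟨ha, hb⟩ := hne
    refine hb (Subtype.ext (LinearMap.ext fun x => ?_))
    have h1 : (a : Module.End F (Fin 3 → F)) ((b : Module.End F (Fin 3 → F)) x) = 0 :=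
      LinearMap.congr_fun (congrArg Subtype.val hab) x
    exact hinjY _ (hRc a) (fun h => ha (Subtype.ext h)) (h1.trans (map_zero _).symm)⟩
  have : Nontrivial R := ⟨⟨0, 1, fun h => hv0 (by
    have := LinearMap.congr_fun (congrArg Subtype.val h) v
    simpa using this.symm)⟩⟩
  have : IsDomain R := NoZeroDivisors.to_isDomain R
  let f : ↥(P : Subgroup (SU 3 F q)) →* R :=
    { toFun := fun g => ⟨ψ g, by obtain ⟨c, hc⟩ := hpoly g; rw [hc]; exact hΦR c⟩
      map_one' := Subtype.ext (LinearMap.ext fun x => act_one x)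
      map_mul' := fun g h => Subtype.ext (LinearMap.ext fun x => act_mul g.1 h.1 x) }
  refine isCyclic_of_subgroup_isDomain f fun g h he => Subtype.ext (su_ext fun x => ?_)
  exact LinearMap.congr_fun (congrArg Subtype.val he) x

section

variable {F : Type v} [Field F] [Fintype F] {q : ℕ}

/-- The `3`-part for `3 ∣ q + 1`. -/
theorem kill_three (hF : Fintype.card F = q ^ 2) (p : ℕ) [Fact p.Prime] [CharP F p]
    {Γ : Type u} [Group Γ] [Finite Γ] (σ : Γ →* SU 3 F q) (hs : Function.Surjective σ)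
    (hc : σ.ker ≤ center Γ) (hZ : Nat.Coprime (Nat.card σ.ker) p) (h3 : 3 ∣ q + 1) (h3q : ¬ 3 ∣ q) :
    ∃ H : Subgroup (SU 3 F q), StemBasic.KerFree σ H ∧ ¬ 3 ∣ H.index := by
  classical
  obtain ⟨k, r, hr3, hk⟩ :=
    Nat.exists_eq_pow_mul_and_not_dvd (Nat.succ_ne_zero q) 3 (by norm_num)
  rw [Nat.succ_eq_add_one] at hk
  set N := 3 ^ k with hN
  have hNpos : 0 < N := pow_pos (by norm_num) k
  have hr0 : r ≠ 0 := fun h => hr3 (h ▸ dvd_zero 3)
  obtain ⟨α, hα, hαo, -⟩ := exists_normOne_gen hF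
  set β := α ^ r with hβ
  have hβo : orderOf β = N := by
    rw [hβ, orderOf_pow' _ hr0, hαo, hk, Nat.gcd_mul_left_left,
      Nat.mul_div_cancel _ (Nat.pos_of_ne_zero hr0)]
  have hβN : β ^ N = 1 := by rw [← hβo]; exact pow_orderOf_eq_one _
  have hNd : N ∣ q + 1 := Dvd.intro r hk.symm
  have hn1 : ∀ x : F, x ^ N = 1 → x ^ (q + 1) = 1 := fun x hx => by
    obtain ⟨c, hc⟩ := hNd
    rw [hc, pow_mul, hx, one_pow]
  have hroot : ∀ x : F, x ^ N = 1 → ∃ i : ℕ, i < N ∧ β ^ i = x := fun x hx => by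
    have hp := IsPrimitiveRoot.orderOf β
    rw [hβo] at hp
    have : NeZero N := ⟨hNpos.ne'⟩
    exact hp.eq_pow_of_pow_eq_one hx
  let A : Subgroup (SU 3 F q) :=
    { carrier := {g | ∃ d : Fin 3 → F, (∀ i, d i ^ N = 1) ∧ d 0 * d 1 * d 2 = 1 ∧
        ∀ x i, act g x i = d i * x i}
      one_mem' := ⟨fun _ => 1, fun _ => one_pow _, by simp, fun x i => by rw [act_one, one_mul]⟩
      mul_mem' := by
        rintro g h ⟨d, h1, h2, h3⟩ ⟨e, k1, k2, k3⟩
        refine ⟨fun i => d i * e i, fun i => by rw [mul_pow, h1, k1, one_mul],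
          by linear_combination (e 0 * e 1 * e 2) * h2 + k2, fun x i => ?_⟩
        rw [act_mul, h3, k3, mul_assoc]
      inv_mem' := by
        rintro g ⟨d, h1, h2, h3⟩
        refine ⟨fun i => (d i)⁻¹, fun i => by rw [inv_pow, h1, inv_one],
          by rw [← mul_inv, ← mul_inv, h2, inv_one], fun x i => ?_⟩
        have hdi : d i ≠ 0 := fun e => by
          have := h1 i; rw [e, zero_pow hNpos.ne'] at this; exact zero_ne_one this
        rw [eq_inv_mul_iff_mul_eq₀ hdi, ← h3, act_act_inv] }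
  have hnd : ∀ d : Fin 3 → F, (∀ i, d i ^ N = 1) → ∀ i, d i ^ (q + 1) = 1 := fun d h i => hn1 _ (h i)
  have hinvN : (β⁻¹) ^ N = 1 := by rw [inv_pow, hβN, inv_one]
  have hβ0 : β ≠ 0 := fun e => by rw [e, zero_pow hNpos.ne'] at hβN; exact zero_ne_one hβN
  set d1 : Fin 3 → F := ![β, β⁻¹, 1] with hd1
  set d3 : Fin 3 → F := ![β, β, β⁻¹ * β⁻¹] with hd3
  have hd1N : ∀ i, d1 i ^ N = 1 := fun i => by fin_cases i <;> simp [hd1, hβN]
  have hd3N : ∀ i, d3 i ^ N = 1 := fun i => by fin_cases i <;> simp [hd3, hβN, mul_pow]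
  have hd1p : ∏ i, d1 i = 1 := by simp [Fin.prod_univ_three, hd1, hβ0]
  have hd3p : ∏ i, d3 i = 1 := by
    simp [Fin.prod_univ_three, hd3]
    field_simp
  set x1 := dg d1 (hnd _ hd1N) hd1p
  set x3 := dg d3 (hnd _ hd3N) hd3p
  -- `x3` acts as a scalar on the orthogonal of the third vector
  set e2 : Fin 3 → F := Pi.single 2 1 with he2
  have he22 : hermForm 3 F q e2 e2 = 1 := by rw [he2, herm_single_right hF]; simp
  have hx31 : StemStep.br hs x3 x1 = 1 := by
    refine StemSUBaseTools.br_eq_one_of_closure hs hc hZ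
      (S := {y : ↥(SU 3 F q) | IsPElem p y ∧ ∀ s ∈ Set.range ![e2], act y s = s}) ?_ ?_
    · rintro y ⟨hy, hye⟩
      refine ⟨hy, su_ext fun x => ?_⟩
      have hy2 : act y e2 = e2 := hye e2 ⟨0, rfl⟩
      have hsplit : ∀ x : Fin 3 → F, act x3 x = β • x + (β⁻¹ * β⁻¹ - β) • x 2 • e2 := by
        intro x
        funext i
        rw [dg_act]
        fin_cases i <;> simp [hd3, he2] <;> ring
      have h2 : act y x 2 = x 2 := by
        rw [← herm_single_right hF 2 (act y x), ← he2]
        conv_lhs => rw [← hy2]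
        rw [herm_act, he2, herm_single_right hF]
      rw [act_mul, act_mul, hsplit, hsplit, act_add, act_smul, act_smul, act_smul, hy2, h2]
    · refine fix_gen hF p 1 3 2 rfl (StemSUGen.pgen hF p (by omega)) ![e2]
        (fun i => by fin_cases i; simp [he22]) (fun i j h => absurd (Subsingleton.elim i j) h) x1 ?_
      intro i; fin_cases i
      funext j
      rw [dg_act]
      fin_cases j <;> simp [hd1, he2]
  have hdecA : A ≤ closure {x1, x3} := by
    rintro g ⟨d, hd, hdp, hg⟩
    obtain ⟨i, -, hi⟩ := hroot _ (hd 0)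
    obtain ⟨j, -, hj⟩ := hroot _ (hd 1)
    have hodd : ∃ h : ℤ, 2 * h = (N : ℤ) + 1 := by
      have : N % 2 = 1 := by rw [hN, Nat.pow_mod]; norm_num
      exact ⟨((N : ℤ) + 1) / 2, by omega⟩
    obtain ⟨h, hh⟩ := hodd
    have hzN : ∀ t : ℤ, β ^ ((N : ℤ) * t) = 1 := fun t => by
      rw [zpow_mul, zpow_natCast, hβN, one_zpow]
    set a := ((i : ℤ) - j) * h
    set b := ((i : ℤ) + j) * h
    have e0 : β ^ a * β ^ b = d 0 := by
      rw [← hi, ← zpow_natCast β i, ← zpow_add₀ hβ0,
        show a + b = (N : ℤ) * i + i by simp only [a, b]; linear_combination (i : ℤ) * hh,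
        zpow_add₀ hβ0, hzN, one_mul]
    have e1 : (β⁻¹) ^ a * β ^ b = d 1 := by
      rw [← hj, ← zpow_natCast β j, inv_zpow', ← zpow_add₀ hβ0,
        show -a + b = (N : ℤ) * j + j by simp only [a, b]; linear_combination (j : ℤ) * hh,
        zpow_add₀ hβ0, hzN, one_mul]
    have hd01 : d 0 * d 1 ≠ 0 := left_ne_zero_of_mul_eq_one hdp
    have e2' : (β⁻¹ * β⁻¹) ^ b = d 2 := by
      have h2 : d 0 * d 1 = β ^ b * β ^ b := by
        rw [← e0, ← e1, inv_zpow]
        field_simp
      rw [h2] at hdp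
      rw [mul_zpow, inv_zpow, ← mul_inv, ← eq_inv_of_mul_eq_one_right hdp]
    have : g = x1 ^ a * x3 ^ b := su_ext fun x => funext fun l => by
      rw [hg, act_mul, dg_zpow, dg_zpow, ← mul_assoc]
      congr 1
      fin_cases l
      · simpa [hd1, hd3] using e0.symm
      · simpa [hd1, hd3] using e1.symm
      · simpa [hd1, hd3] using e2'.symm
    rw [this]
    exact mul_mem (zpow_mem (subset_closure (by simp)) a) (zpow_mem (subset_closure (by simp)) b)
  have hxx : Commute x3 x1 :=
    su_ext fun x => funext fun l => by rw [act_mul, act_mul, dg_act, dg_act, dg_act, dg_act]; ring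
  have hk1 : closure {x1, x3} ≤ StemStep.killer hs hc x1 := by
    rw [closure_le]
    rintro y (rfl | rfl)
    · exact ⟨Commute.refl _, StemStep.br_self hs _⟩
    · exact ⟨hxx.symm, by rw [← StemStep.br_inv, hx31, inv_one]⟩
  have hk3 : closure {x1, x3} ≤ StemStep.killer hs hc x3 := by
    rw [closure_le]
    rintro y (rfl | rfl)
    · exact ⟨hxx, hx31⟩
    · exact ⟨Commute.refl _, StemStep.br_self hs _⟩
  have hAk : ∀ u ∈ A, A ≤ StemStep.killer hs hc u := fun u hu => hdecA.trans ((closure_le _).2 (by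
    rintro y (rfl | rfl)
    · exact StemStep.mem_killer_comm hs hc (hk1 (hdecA hu))
    · exact StemStep.mem_killer_comm hs hc (hk3 (hdecA hu))))
  -- the cycle
  have hsgn : Equiv.Perm.sign (finRotate 3) = 1 := by decide
  set w : SU 3 F q := mkSU (monMat (finRotate 3) fun _ => 1) (by rw [det_monMat, hsgn]; simp)
    (isU_monMat _ fun _ => one_pow _)
  have hw : ∀ x i, act w x i = x (i + 1) := fun x i => by
    show (monMat (finRotate 3) (fun _ => (1 : F)) *ᵥ x) i = _
    rw [monMat_mulVec, one_mul, finRotate_succ_apply]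
  have hw3 : w ^ 3 = 1 := su_ext fun x => funext fun i => by
    rw [pow_succ, pow_succ, pow_one, act_mul, act_mul, hw, hw, hw, act_one]
    fin_cases i <;> rfl
  have hwA : ∀ x ∈ A, w * x * w⁻¹ ∈ A := by
    rintro x ⟨d, h1, h2, h3'⟩
    refine ⟨fun i => d (i + 1), fun i => h1 _, ?_, fun y i => ?_⟩
    · show d 1 * d 2 * d 0 = 1
      linear_combination h2
    · rw [act_mul, act_mul, hw, h3', ← hw (act w⁻¹ y), act_act_inv]
  have hwA' : ∀ x ∈ A, w⁻¹ * x * w ∈ A := by
    intro x hx
    rw [show w⁻¹ = w * w from inv_eq_of_mul_eq_one_right (by rw [← hw3, pow_succ, pow_two]; group)]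
    have := hwA _ (hwA x hx)
    rwa [show w * (w * x * w⁻¹) * w⁻¹ = w * w * x * (w⁻¹ * w⁻¹) by group,
      show w⁻¹ * w⁻¹ = w by rw [← mul_inv_rev, inv_eq_iff_mul_eq_one, ← pow_two, ← pow_succ, hw3]] at this
  have hfix : ∀ x ∈ A, Commute w x → StemStep.br hs w x = 1 := by
    rintro x ⟨d, h1, h2, h3'⟩ hcomm
    have hd : ∀ i, d (i + 1) = d i := fun i => by
      have h := congrArg (fun g => act g (fun _ => (1 : F)) i) hcomm.eq
      simp only [act_mul, hw, h3'] at h
      simpa using h
    have hcen : ∀ y : SU 3 F q, Commute x y := fun y => su_ext fun v => funext fun i => by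
      have hs' : ∀ v : Fin 3 → F, act x v = d 0 • v := fun v => funext fun j => by
        rw [h3', Pi.smul_apply, smul_eq_mul]
        congr 1
        fin_cases j
        · rfl
        · exact hd 0
        · exact (hd 1).trans (hd 0)
      rw [act_mul, act_mul, hs', hs', act_smul]
    rw [← StemStep.br_inv, StemSUBaseTools.br_eq_one_of_closure hs hc hZ
      (S := {y : ↥(SU 3 F q) | IsPElem p y}) (fun y hy => ⟨hy, hcen y⟩)
      (StemSUGen.pgen hF p (by omega) w), inv_one]
  refine ⟨A ⊔ zpowers w, StemSUBaseTools.kerFree_semidirect hs hc A hAk w hwA hwA' hfix, ?_⟩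
  -- orders
  have hwn : w ∈ Subgroup.normalizer (A : Set (SU 3 F q)) :=
    Subgroup.mem_normalizer_iff.2 fun x => ⟨hwA x, fun h => by
      have := hwA' _ h
      simpa [mul_assoc] using this⟩
  have hcardA : Nat.card A = N * N := by
    have hdd : ∀ i j : Fin N, ∀ l, (![β ^ (i : ℕ), β ^ (j : ℕ),
        (β⁻¹) ^ ((i : ℕ) + (j : ℕ))] : Fin 3 → F) l ^ N = 1 := fun i j l => by
      fin_cases l <;> simp [← pow_mul, mul_comm _ N, pow_mul β N, pow_mul β⁻¹ N, hβN, hinvN]
    let f : Fin N × Fin N → A := fun x =>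
      ⟨dg ![β ^ (x.1 : ℕ), β ^ (x.2 : ℕ), (β⁻¹) ^ ((x.1 : ℕ) + (x.2 : ℕ))]
        (hnd _ (hdd x.1 x.2)) (by
          simp only [Fin.prod_univ_three, Matrix.cons_val_zero, Matrix.cons_val_one, Matrix.cons_val_two,
            Matrix.tail_cons, Matrix.head_cons]
          rw [← pow_add, ← mul_pow, mul_inv_cancel₀ hβ0, one_pow]),
        _, hdd x.1 x.2, by
          simp only [Matrix.cons_val_zero, Matrix.cons_val_one, Matrix.cons_val_two,
            Matrix.tail_cons, Matrix.head_cons]
          rw [← pow_add, ← mul_pow, mul_inv_cancel₀ hβ0, one_pow],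
        fun y l => dg_act _ _ _ y l⟩
    have hf : Function.Bijective f := by
      refine ⟨?_, ?_⟩
      · rintro ⟨i, j⟩ ⟨i', j'⟩ h
        have h0 := congrArg (fun g : A => act g.1 (fun _ => (1 : F)) 0) h
        have h1 := congrArg (fun g : A => act g.1 (fun _ => (1 : F)) 1) h
        simp only [f, dg_act, mul_one, Matrix.cons_val_zero, Matrix.cons_val_one] at h0 h1
        have hi := pow_injOn_Iio_orderOf (by rw [hβo]; exact i.2) (by rw [hβo]; exact i'.2) h0
        have hj := pow_injOn_Iio_orderOf (by rw [hβo]; exact j.2) (by rw [hβo]; exact j'.2) h1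
        exact Prod.ext (Fin.ext hi) (Fin.ext hj)
      · rintro ⟨g, d, hd, hdp, hg⟩
        obtain ⟨i, hiN, hi⟩ := hroot _ (hd 0)
        obtain ⟨j, hjN, hj⟩ := hroot _ (hd 1)
        refine ⟨(⟨i, hiN⟩, ⟨j, hjN⟩), Subtype.ext (su_ext fun y => funext fun l => ?_)⟩
        simp only [f]
        rw [hg, dg_act]
        congr 1
        fin_cases l
        · simpa using hi
        · simpa using hj
        · simp only [Fin.reduceFinMk, Matrix.cons_val_two, Matrix.tail_cons, Matrix.head_cons]
          rw [inv_pow, pow_add, hi, hj, eq_inv_of_mul_eq_one_right hdp]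
    rw [← Nat.card_eq_of_bijective f hf, Nat.card_prod, Nat.card_fin]
  have hcard : Nat.card ↥(A ⊔ zpowers w) = N * N * 3 := by
    rw [card_sup_zpowers A w (by norm_num) (hw3 ▸ one_mem A) hwn ?_, hcardA]
    intro i hi hmem
    by_contra hi0
    have key : ∀ g : SU 3 F q, g ∈ A → act g (Pi.single 0 1) 0 ≠ 0 := by
      rintro g ⟨d, h1, -, h3'⟩
      rw [h3', Pi.single_eq_same, mul_one]
      intro e
      have := h1 0; rw [e, zero_pow hNpos.ne'] at this; exact zero_ne_one this
    refine key _ hmem ?_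
    interval_cases i
    · simp at hi0
    · rw [pow_one, hw]; rfl
    · rw [pow_two, act_mul, hw, hw]; rfl
  have h1 := (A ⊔ zpowers w).index_mul_card
  rw [hcard, StemSUBaseTools.card_SU_three hF] at h1
  intro hdvd
  obtain ⟨c, hcd⟩ := hdvd
  rw [hcd] at h1
  have hq2 := two_le_q hF
  -- the factorisation of the order
  obtain ⟨q', rfl⟩ : ∃ q', q = q' + 2 := ⟨q - 2, by omega⟩
  have e1 : (q' + 2) ^ 2 - 1 = (q' + 1) * (q' + 3) :=
    Nat.sub_eq_of_eq_add (by ring)
  obtain ⟨t, ht⟩ : ∃ t, q' + 3 = 3 * t := h3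
  have e2 : (q' + 2) ^ 3 + 1 = (q' + 3) * ((q' + 1) * (q' + 2) + 1) := by ring
  have hs3 : ∃ s, (q' + 1) * (q' + 2) + 1 = 3 * s ∧ ¬ 3 ∣ s := by
    obtain ⟨t', rfl⟩ : ∃ t', t = t' + 1 := ⟨t - 1, by omega⟩
    obtain rfl : q' = 3 * t' := by omega
    refine ⟨3 * (t' * t' + t') + 1, by ring, ?_⟩
    generalize t' * t' + t' = u
    omega
  obtain ⟨s, hs', hs3⟩ := hs3
  rw [e1, e2, hs', hk] at h1
  have h2 : 3 * c = (q' + 2) ^ 3 * (q' + 1) * r * r * s := by
    refine Nat.eq_of_mul_eq_mul_right (show 0 < N * N * 3 by positivity) ?_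
    rw [h1, hN]
    ring
  have h3d : 3 ∣ (q' + 2) ^ 3 * (q' + 1) * r * r * s := ⟨c, h2.symm⟩
  have hp3 : Nat.Prime 3 := by norm_num
  simp only [hp3.dvd_mul] at h3d
  rcases h3d with (((h | h) | h) | h) | h
  · exact h3q (hp3.dvd_of_dvd_pow h)
  · omega
  · exact hr3 h
  · exact hr3 h
  · exact hs3 h

theorem ptriv_three (hF : Fintype.card F = q ^ 2) (p : ℕ) [Fact p.Prime] [CharP F p] :
    PTriv.{u} p 3 F q := by
  intro Γ _ _ σ hs hc hZ hgen
  have hσ : Cfsg.IsStemExtension σ := ⟨hs, hc, StemSLnPrime.ker_le_commutator p hZ hgen⟩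
  refine StemBasic.ker_eq_bot_of_primes fun ℓ hl z hz ho => ?_
  have : Fact ℓ.Prime := ⟨hl⟩
  have hp : p.Prime := Fact.out
  have hlp : ℓ ≠ p := by
    rintro rfl
    exact hl.ne_one (Nat.eq_one_of_dvd_coprimes hZ (ho ▸ StemBasic.orderOf_dvd_card_ker hz) dvd_rfl)
  have hlq : ¬ ℓ ∣ q := by
    obtain ⟨p', f, hp', hcp, hf, hqf⟩ := exists_prime_pow hF
    obtain rfl : p = p' := CharP.eq F ‹CharP F p› hcp
    rw [hqf]
    exact fun h => hlp ((Nat.prime_dvd_prime_iff_eq hl hp).1 (hl.dvd_of_dvd_pow h))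
  have hz1 : z ≠ 1 := fun h => by rw [h, orderOf_one] at ho; exact hl.ne_one ho.symm
  have kill : ∀ H : Subgroup (SU 3 F q), StemBasic.KerFree σ H → ¬ ℓ ∣ H.index → False :=
    fun H hH hH' => hz1 (StemBasic.eq_one_of_kerFree hσ hH hz
      (by rw [ho]; exact hl.coprime_iff_not_dvd.2 hH'))
  obtain ⟨q', rfl⟩ : ∃ q', q = q' + 2 := ⟨q - 2, by have := two_le_q hF; omega⟩
  set s := (q' + 1) * (q' + 2) + 1 with hs'
  by_cases hls : ℓ ∣ s
  · by_cases hl3 : ℓ = 3
    · subst hl3
      have h3 : 3 ∣ (q' + 2) + 1 := by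
        have h9 : 3 ∣ ((q' + 2) + 1) * ((q' + 2) + 1) := by
          rw [show ((q' + 2) + 1) * ((q' + 2) + 1) = s + 3 * (q' + 2) by rw [hs']; ring]
          exact dvd_add hls (dvd_mul_right 3 _)
        exact (hl.dvd_mul.1 h9).elim id id
      obtain ⟨H, hH, hH'⟩ := kill_three hF p σ hs hc hZ h3 hlq
      exact kill H hH hH'
    · have hl2 : ¬ ℓ ∣ (q' + 2) ^ 2 - 1 := by
        rw [Nat.sub_eq_of_eq_add (show (q' + 2) ^ 2 = (q' + 1) * (q' + 3) + 1 by ring)]
        intro hd
        rcases hl.dvd_mul.1 hd with hd | hd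
        · have h1 : ℓ ∣ 1 := (Nat.dvd_add_right (dvd_mul_of_dvd_left hd (q' + 2))).1 hls
          exact hl.ne_one (Nat.dvd_one.1 h1)
        · have h1 : ℓ ∣ 3 * (q' + 2) := by
            have : (q' + 3) * (q' + 3) = s + 3 * (q' + 2) := by rw [hs']; ring
            exact (Nat.dvd_add_right hls).1 (this ▸ dvd_mul_of_dvd_left hd _)
          rcases hl.dvd_mul.1 h1 with h1 | h1
          · exact hl3 ((Nat.prime_dvd_prime_iff_eq hl (by norm_num)).1 h1)
          · exact hlq h1
      let P : Sylow ℓ (SU 3 F (q' + 2)) := Classical.arbitrary _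
      obtain ⟨g, hg⟩ := sylow_cyclic hF p hl hlp hlq hl2 P
      exact kill (zpowers g) (StemBasic.kerFree_zpowers σ hc g) (hg ▸ P.not_dvd_index)
  · obtain ⟨hfree, hcard⟩ := lineStab_spec (n := 2) hF (by omega) hs hc hZ
      (StemSUTwo.ptriv_two hF p)
    refine kill _ hfree fun hd => ?_
    have h1 := (lineStab (q' + 2) 2 F).index_mul_card
    rw [hcard, StemSUBaseTools.card_SU_two hF, StemSUBaseTools.card_SU_three hF,
      Nat.sub_eq_of_eq_add (show (q' + 2) ^ 2 = (q' + 1) * (q' + 3) + 1 by ring)] at h1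
    have h2 : (lineStab (q' + 2) 2 F).index = (q' + 2) ^ 2 * s := by
      refine Nat.eq_of_mul_eq_mul_right
        (show 0 < (q' + 2) * ((q' + 1) * (q' + 3)) * (q' + 2 + 1) by positivity) ?_
      rw [h1, hs']
      ring
    rw [h2] at hd
    rcases hl.dvd_mul.1 hd with hd | hd
    · exact hlq (hl.dvd_of_dvd_pow hd)
    · exact hls hd

end

end Cfsg.Agent.StemSUThree
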