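import Cfsg.Agent.Lib.StemSURadical
import Cfsg.Agent.Lib.StemSUDiag
import Cfsg.Agent.Lib.OrthUnitaryPSU
import Mathlib

/-!
The unipotent subgroup of `SU_n(q)` built from the radicals at an isotropic frame: levels, order and
the generic splitting of a level in a central extension.
-/

set_option autoImplicit false
set_option linter.unusedSectionVars false

namespace Cfsg.Agent.StemSUUni

open Subgroup
open Cfsg.Agent.OrthUnitaryHerm
open Cfsg.Agent.OrthUnitaryTransvection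
open Cfsg.Agent.StemSUFrame
open Cfsg.Agent.StemSURadical
open Cfsg.Agent.StemStep
open scoped commutatorElement

/-- The first coordinate of the pair `i`. -/
def lo {n : ℕ} (i : Fin (n / 2)) : Fin n := ⟨2 * i, by omega⟩

/-- The second coordinate of the pair `i`. -/
def hi {n : ℕ} (i : Fin (n / 2)) : Fin n := ⟨2 * i + 1, by omega⟩

theorem lo_ne_hi {n : ℕ} (i : Fin (n / 2)) : lo i ≠ hi i := fun h => by
  simp [lo, hi, Fin.ext_iff] at h

variable {F : Type*} [Field F] [Fintype F] {q n : ℕ} (hF : Fintype.card F = q ^ 2)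

/-- Vectors vanishing at the first `l` coordinates. -/
def W (n : ℕ) (F : Type*) [Field F] (l : ℕ) : Submodule F (Fin n → F) where
  carrier := {w | ∀ k : Fin n, (k : ℕ) < l → w k = 0}
  add_mem' ha hb k hk := by rw [Pi.add_apply, ha k hk, hb k hk, add_zero]
  zero_mem' k _ := rfl
  smul_mem' c w hw k hk := by rw [Pi.smul_apply, hw k hk, smul_zero]

/-- The pointwise stabiliser of the first `l` coordinate vectors. -/
def Lv (q n : ℕ) (F : Type*) [Field F] (l : ℕ) : Subgroup (SU n F q) where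
  carrier := {g | ∀ k : Fin n, (k : ℕ) < l → act g (Pi.single k 1) = Pi.single k 1}
  one_mem' k _ := act_one _
  mul_mem' {a b} ha hb k hk := by rw [act_mul, hb k hk, ha k hk]
  inv_mem' {a} ha k hk := by conv_lhs => rw [← ha k hk]; rw [act_inv_act]

include hF in
theorem Lv_inv_apply {l : ℕ} {g : SU n F q} (hg : g ∈ Lv q n F l) (z : Fin n → F) {k : Fin n}
    (hk : (k : ℕ) < l) : act g z k = z k := by
  rw [← herm_single_right hF k (act g z)]
  conv_lhs => arg 5; rw [← hg k hk]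
  rw [herm_act, herm_single_right hF]

include hF in
theorem Lv_maps {l : ℕ} {g : SU n F q} (hg : g ∈ Lv q n F l) {w : Fin n → F} (hw : w ∈ W n F l) :
    act g w ∈ W n F l := fun k hk => by rw [Lv_inv_apply hF hg w hk, hw k hk]

include hF in
theorem Lv_fix {l : ℕ} {g : SU n F q} (hg : g ∈ Lv q n F l) {v : Fin n → F}
    (hv : ∀ k : Fin n, l ≤ (k : ℕ) → v k = 0) : act g v = v := by
  refine sub_eq_zero.1 (eq_zero_of_herm_eq_zero hF fun z => ?_)
  obtain ⟨y, rfl⟩ : ∃ y, z = act g y := ⟨act g⁻¹ z, (act_act_inv g z).symm⟩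
  rw [herm_sub_left, herm_act, sub_eq_zero, hermForm, hermForm]
  refine Finset.sum_congr rfl fun k _ => ?_
  rcases lt_or_ge (k : ℕ) l with hk | hk
  · rw [Lv_inv_apply hF hg y hk]
  · rw [hv k hk, zero_mul, zero_mul]

theorem Lv_mono {l l' : ℕ} (h : l ≤ l') : Lv q n F l' ≤ Lv q n F l :=
  fun _ hg k hk => hg k (lt_of_lt_of_le hk h)

/-- An element of norm `-1`. -/
noncomputable def kap (hF : Fintype.card F = q ^ 2) : F :=
  (exists_norm_eq hF (a := (-1 : F)) (by rw [neg_pow_q hF, one_pow])).choose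

/-- An element of trace one. -/
noncomputable def str (hF : Fintype.card F = q ^ 2) : F :=
  (exists_trace hF (a := (1 : F)) (one_pow q)).choose

theorem kap_spec : kap hF ^ (q + 1) = -1 :=
  (exists_norm_eq hF (a := (-1 : F)) (by rw [neg_pow_q hF, one_pow])).choose_spec

theorem str_spec : str hF + str hF ^ q = 1 :=
  (exists_trace hF (a := (1 : F)) (one_pow q)).choose_spec

/-- The isotropic vector of the pair `i`. -/
noncomputable def ev (hF : Fintype.card F = q ^ 2) (i : Fin (n / 2)) : Fin n → F :=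
  Pi.single (lo i) 1 + kap hF • Pi.single (hi i) 1

/-- Its partner. -/
noncomputable def fv (hF : Fintype.card F = q ^ 2) (i : Fin (n / 2)) : Fin n → F :=
  str hF • Pi.single (lo i) 1 + ((str hF - 1) * kap hF) • Pi.single (hi i) 1

theorem ev_iso (i : Fin (n / 2)) : hermForm n F q (ev hF i) (ev hF i) = 0 := by
  simp only [ev, herm_add_left, herm_add_right hF, herm_smul_left, herm_smul_right,
    herm_single_right hF, Pi.add_apply, Pi.smul_apply, smul_eq_mul, Pi.single_eq_same, Pi.single_eq_of_ne (lo_ne_hi i),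
    Pi.single_eq_of_ne (lo_ne_hi i).symm, mul_zero, add_zero, zero_add, mul_one]
  linear_combination kap_spec hF

theorem fv_iso (i : Fin (n / 2)) : hermForm n F q (fv hF i) (fv hF i) = 0 := by
  simp only [fv, herm_add_left, herm_add_right hF, herm_smul_left, herm_smul_right,
    herm_single_right hF, Pi.add_apply, Pi.smul_apply, smul_eq_mul, Pi.single_eq_same, Pi.single_eq_of_ne (lo_ne_hi i),
    Pi.single_eq_of_ne (lo_ne_hi i).symm, mul_zero, add_zero, zero_add, mul_one, mul_pow,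
    sub_pow_q hF, one_pow]
  linear_combination str_spec hF + ((str hF - 1) * (str hF ^ q - 1)) * kap_spec hF

theorem ev_fv (i : Fin (n / 2)) : hermForm n F q (ev hF i) (fv hF i) = 1 := by
  simp only [ev, fv, herm_add_left, herm_add_right hF, herm_smul_left, herm_smul_right,
    herm_single_right hF, Pi.add_apply, Pi.smul_apply, smul_eq_mul, Pi.single_eq_same, Pi.single_eq_of_ne (lo_ne_hi i),
    Pi.single_eq_of_ne (lo_ne_hi i).symm, mul_zero, add_zero, zero_add, mul_one, mul_pow,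
    sub_pow_q hF, one_pow]
  linear_combination (str hF ^ q - 1) * kap_spec hF

theorem fv_ev (i : Fin (n / 2)) : hermForm n F q (fv hF i) (ev hF i) = 1 := by
  rw [herm_conj hF (ev hF i), ev_fv, one_pow]

theorem ev_apply {i : Fin (n / 2)} {k : Fin n} (hk : k ≠ lo i) (hk' : k ≠ hi i) :
    ev hF i k = 0 ∧ fv hF i k = 0 := by
  simp [ev, fv, Pi.single_eq_of_ne hk, Pi.single_eq_of_ne hk']

theorem ev_high {i : Fin (n / 2)} {k : Fin n} (hk : 2 * (i : ℕ) + 2 ≤ (k : ℕ)) :
    ev hF i k = 0 ∧ fv hF i k = 0 :=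
  ev_apply hF (fun h => by simp [h, lo] at hk) (fun h => by simp [h, hi] at hk)

theorem ev_ne (i : Fin (n / 2)) : ev hF i ≠ 0 := fun h => by
  have := fv_ev hF i
  rw [h, herm_zero_right hF] at this
  exact zero_ne_one this

theorem W_perp {i : Fin (n / 2)} {w : Fin n → F} (hw : w ∈ W n F (2 * (i : ℕ) + 2)) :
    hermForm n F q w (ev hF i) = 0 ∧ hermForm n F q w (fv hF i) = 0 := by
  have h1 := hw (lo i) (by simp [lo])
  have h2 := hw (hi i) (by simp [hi])
  simp [ev, fv, herm_add_right hF, herm_smul_right, herm_single_right hF, h1, h2]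

/-- An element of the radical of level `i`. -/
noncomputable def el (i : Fin (n / 2)) (w : Fin n → F) (hw : w ∈ W n F (2 * (i : ℕ) + 2)) (μ : F)
    (hμ : μ + μ ^ q + hermForm n F q w w = 0) : SU n F q :=
  eich hF (ev hF i) w μ (ev_iso hF i) (W_perp hF hw).1 hμ

theorem el_congr {i : Fin (n / 2)} {w w' : Fin n → F} {μ μ' : F}
    {hw : w ∈ W n F (2 * (i : ℕ) + 2)} {hw' : w' ∈ W n F (2 * (i : ℕ) + 2)}
    {hμ : μ + μ ^ q + hermForm n F q w w = 0} {hμ' : μ' + μ' ^ q + hermForm n F q w' w' = 0}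
    (h1 : w = w') (h2 : μ = μ') : el hF i w hw μ hμ = el hF i w' hw' μ' hμ' := by
  subst h1 h2; rfl

theorem el_mul {i : Fin (n / 2)} {w w' : Fin n → F} {μ μ' : F}
    (hw : w ∈ W n F (2 * (i : ℕ) + 2)) (hw' : w' ∈ W n F (2 * (i : ℕ) + 2))
    (hμ : μ + μ ^ q + hermForm n F q w w = 0) (hμ' : μ' + μ' ^ q + hermForm n F q w' w' = 0) :
    ∃ h, el hF i w hw μ hμ * el hF i w' hw' μ' hμ' =
      el hF i (w + w') (add_mem hw hw') (μ + μ' - hermForm n F q w' w) h :=
  ⟨_, eich_mul hF (ev_iso hF i) _ _ hμ hμ'⟩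

theorem el_zero {i : Fin (n / 2)} {h : (0 : Fin n → F) ∈ W n F (2 * (i : ℕ) + 2)}
    {h' : (0 : F) + 0 ^ q + hermForm n F q (0 : Fin n → F) 0 = 0} : el hF i 0 h 0 h' = 1 :=
  su_ext fun x => by simp [el, eich_act, act_one, herm_zero_right hF]

/-- The radical of level `i`. -/
noncomputable def rad (i : Fin (n / 2)) : Subgroup (SU n F q) where
  carrier := {g | ∃ w, ∃ hw : w ∈ W n F (2 * (i : ℕ) + 2), ∃ μ hμ, g = el hF i w hw μ hμ}
  one_mem' := ⟨0, zero_mem _, 0, by rw [herm_zero_left, zero_pow_q hF]; simp, (el_zero hF).symm⟩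
  mul_mem' := by
    rintro _ _ ⟨w, hw, μ, hμ, rfl⟩ ⟨w', hw', μ', hμ', rfl⟩
    obtain ⟨h, he⟩ := el_mul hF hw hw' hμ hμ'
    exact ⟨_, _, _, h, he⟩
  inv_mem' := by
    rintro _ ⟨w, hw, μ, hμ, rfl⟩
    have hμ' : μ ^ q + (μ ^ q) ^ q + hermForm n F q (-w) (-w) = 0 := by
      have : (-w) = (-1 : F) • w := by simp
      rw [this, herm_smul_left, herm_smul_right, pow_q_q hF, neg_pow_q hF, one_pow]
      linear_combination hμ
    refine ⟨-w, neg_mem hw, μ ^ q, hμ', inv_eq_of_mul_eq_one_right ?_⟩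
    obtain ⟨h, he⟩ := el_mul hF hw (neg_mem hw) hμ hμ'
    rw [he]
    refine (el_congr hF (hw' := zero_mem _) (hμ' := by rw [herm_zero_left, zero_pow_q hF]; simp)
      (add_neg_cancel w) ?_).trans (el_zero hF)
    have : (-w) = (-1 : F) • w := by simp
    rw [this, herm_smul_left]
    linear_combination hμ

/-- The product of the radicals from level `k` on. -/
noncomputable def uni (n : ℕ) (hF : Fintype.card F = q ^ 2) (k : ℕ) : Subgroup (SU n F q) :=
  ⨆ (i : Fin (n / 2)) (_ : k ≤ (i : ℕ)), rad hF i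

theorem uni_top {k : ℕ} (h : n / 2 ≤ k) : uni n hF k = ⊥ := by
  refine eq_bot_iff.2 (iSup₂_le fun i hi => ?_)
  omega

theorem uni_eq (k : Fin (n / 2)) : uni n hF k = rad hF k ⊔ uni n hF ((k : ℕ) + 1) := by
  refine le_antisymm (iSup₂_le fun i hi => ?_)
    (sup_le (le_iSup₂_of_le k le_rfl le_rfl) (iSup₂_le fun i hi => le_iSup₂_of_le i (by omega) le_rfl))
  rcases eq_or_lt_of_le hi with h | h
  · obtain rfl : k = i := Fin.ext h
    exact le_sup_left
  · exact le_sup_of_le_right (le_iSup₂_of_le i h le_rfl)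

theorem rad_le_Lv (i : Fin (n / 2)) : rad hF i ≤ Lv q n F (2 * (i : ℕ)) := by
  rintro _ ⟨w, hw, μ, hμ, rfl⟩ k hk
  have h1 : ev hF i k = 0 :=
    (ev_apply hF (fun h => by simp [h, lo] at hk) (fun h => by simp [h, hi] at hk)).1
  rw [el, eich_act, herm_single_left, herm_single_left, h1, hw k (by omega), zero_pow_q hF,
    mul_zero, sub_zero, zero_smul, zero_smul, add_zero, add_zero]

theorem uni_le_Lv (k : ℕ) : uni n hF k ≤ Lv q n F (2 * k) :=
  iSup₂_le fun i hi => (rad_le_Lv hF i).trans (Lv_mono (by omega))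

theorem uni_succ_le (i : Fin (n / 2)) {g : SU n F q} (hg : g ∈ uni n hF ((i : ℕ) + 1)) :
    g ∈ Lv q n F (2 * (i : ℕ) + 2) := uni_le_Lv hF _ hg

theorem uni_succ_fix (i : Fin (n / 2)) {g : SU n F q} (hg : g ∈ uni n hF ((i : ℕ) + 1)) :
    act g (ev hF i) = ev hF i ∧ act g (fv hF i) = fv hF i :=
  ⟨Lv_fix hF (uni_succ_le hF i hg) fun _ hk => (ev_high hF hk).1,
    Lv_fix hF (uni_succ_le hF i hg) fun _ hk => (ev_high hF hk).2⟩

/-- Elements preserving the data of level `i`. -/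
def Stab (i : Fin (n / 2)) (g : SU n F q) : Prop :=
  (∃ r : F, act g (ev hF i) = r • ev hF i) ∧
    ∀ w ∈ W n F (2 * (i : ℕ) + 2), act g w ∈ W n F (2 * (i : ℕ) + 2)

theorem Stab_uni (i : Fin (n / 2)) {g : SU n F q} (hg : g ∈ uni n hF ((i : ℕ) + 1)) :
    Stab hF i g :=
  ⟨⟨1, by rw [(uni_succ_fix hF i hg).1, one_smul]⟩, fun _ hw => Lv_maps hF (uni_succ_le hF i hg) hw⟩

theorem el_conj {i : Fin (n / 2)} {g : SU n F q} {r : F} (hgr : act g (ev hF i) = r • ev hF i)
    (hgW : ∀ w ∈ W n F (2 * (i : ℕ) + 2), act g w ∈ W n F (2 * (i : ℕ) + 2)) {w : Fin n → F}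
    (hw : w ∈ W n F (2 * (i : ℕ) + 2)) {μ : F} (hμ : μ + μ ^ q + hermForm n F q w w = 0) :
    ∃ h, g * el hF i w hw μ hμ * g⁻¹ = el hF i (r ^ q • act g w)
      (Submodule.smul_mem _ _ (hgW w hw)) (r ^ q * r * μ) h := by
  have hμ' : r ^ q * r * μ + (r ^ q * r * μ) ^ q +
      hermForm n F q (r ^ q • act g w) (r ^ q • act g w) = 0 := by
    rw [herm_smul_left, herm_smul_right, herm_act, mul_pow, mul_pow, pow_q_q hF]
    linear_combination (r ^ q * r) * hμ
  refine ⟨hμ', ?_⟩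
  have hse : hermForm n F q (r • ev hF i) (r • ev hF i) = 0 := by
    rw [herm_smul_left, herm_smul_right, ev_iso hF]; ring
  have hgs : hermForm n F q (act g w) (r • ev hF i) = 0 := by
    rw [← hgr, herm_act, (W_perp hF hw).1]
  rw [el, el, eich_conj,
    ← eich_smul hF hse hgs (by rw [herm_act, hμ]) (ev_iso hF i) _ hμ']
  exact su_ext fun x => by rw [eich_act, eich_act, hgr]

theorem Stab_conj {i : Fin (n / 2)} {g : SU n F q} (hg : Stab hF i g) {x : SU n F q}
    (hx : x ∈ rad hF i) : g * x * g⁻¹ ∈ rad hF i := by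
  obtain ⟨⟨r, hr⟩, hgW⟩ := hg
  obtain ⟨w, hw, μ, hμ, rfl⟩ := hx
  obtain ⟨h, he⟩ := el_conj hF hr hgW hw hμ
  exact ⟨_, _, _, h, he⟩

theorem el_inj {i : Fin (n / 2)} {w w' : Fin n → F} {μ μ' : F}
    {hw : w ∈ W n F (2 * (i : ℕ) + 2)} {hw' : w' ∈ W n F (2 * (i : ℕ) + 2)}
    {hμ : μ + μ ^ q + hermForm n F q w w = 0} {hμ' : μ' + μ' ^ q + hermForm n F q w' w' = 0}
    (h : el hF i w hw μ hμ = el hF i w' hw' μ' hμ') : w = w' ∧ μ = μ' := by
  have h1 := congrArg (fun g => act g (fv hF i)) h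
  simp only [el, eich_act, fv_ev, herm_skew_zero hF (W_perp hF hw).2,
    herm_skew_zero hF (W_perp hF hw').2, one_smul, mul_one, sub_zero] at h1
  rw [add_assoc, add_assoc, add_right_inj] at h1
  have hev : ev hF i (lo i) = 1 := by
    simp [ev, Pi.single_eq_of_ne (lo_ne_hi i)]
  have h2 := congrFun h1 (lo i)
  simp only [Pi.add_apply, Pi.smul_apply, smul_eq_mul, hw (lo i) (by simp [lo]),
    hw' (lo i) (by simp [lo]), hev, zero_add, mul_one] at h2
  subst h2
  exact ⟨add_right_cancel h1, rfl⟩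

theorem rad_inf_uni (i : Fin (n / 2)) : rad hF i ⊓ uni n hF ((i : ℕ) + 1) = ⊥ := by
  refine eq_bot_iff.2 fun g hg => Subgroup.mem_bot.2 ?_
  obtain ⟨w, hw, μ, hμ, rfl⟩ := hg.1
  have h := (uni_succ_fix hF i hg.2).2
  have h0 : el hF i w hw μ hμ = el hF i w hw μ hμ := rfl
  rw [el, eich_act, fv_ev, herm_skew_zero hF (W_perp hF hw).2, one_smul, mul_one, sub_zero,
    add_assoc, add_eq_left] at h
  have hev : ev hF i (lo i) = 1 := by
    simp [ev, Pi.single_eq_of_ne (lo_ne_hi i)]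
  have h2 := congrFun h (lo i)
  simp only [Pi.add_apply, Pi.smul_apply, smul_eq_mul, hw (lo i) (by simp [lo]), hev, zero_add,
    mul_one, Pi.zero_apply] at h2
  subst h2
  rw [zero_smul, add_zero] at h
  subst h
  exact el_zero hF

include hF in
theorem card_skew : Nat.card {d : F // d + d ^ q = 0} = q := by
  classical
  obtain ⟨c, hc0, hc⟩ := exists_skew hF
  have hc' : c ^ q = -c := by linear_combination hc
  obtain ⟨φ, hφ⟩ := exists_frobHom hF
  let f : F →+ F := AddMonoidHom.mk' (fun z => z - z ^ q) fun a b => by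
    rw [add_pow_q hF]; ring
  have hrange : (f.range : Set F) = {d : F | d + d ^ q = 0} := by
    ext d
    constructor
    · rintro ⟨z, rfl⟩; exact im_skew hF z
    · intro hd
      obtain ⟨z, hz⟩ := exists_im hF hd
      exact ⟨z, hz⟩
  have h1 : Nat.card f.range = Nat.card {d : F // d + d ^ q = 0} :=
    Nat.card_congr (Equiv.setCongr hrange)
  have h2 : Nat.card f.ker = Nat.card {d : F // d + d ^ q = 0} := by
    refine Nat.card_congr
      { toFun := fun z => ⟨c * (z : F), ?_⟩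
        invFun := fun d => ⟨(d : F) / c, ?_⟩
        left_inv := fun z => Subtype.ext (mul_div_cancel_left₀ _ hc0)
        right_inv := fun d => Subtype.ext (mul_div_cancel₀ _ hc0) }
    · have : (z : F) - (z : F) ^ q = 0 := z.2
      rw [mul_pow, hc']
      linear_combination c * this
    · show (d : F) / c - ((d : F) / c) ^ q = 0
      rw [div_pow, hc', div_neg, sub_neg_eq_add, ← add_div, d.2, zero_div]
  have h3 := f.ker.card_eq_card_quotient_mul_card_addSubgroup
  rw [Nat.card_congr (QuotientAddGroup.quotientKerEquivRange f).toEquiv, h1, h2,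
    Nat.card_eq_fintype_card, hF, sq] at h3
  exact (Nat.mul_self_inj.1 h3).symm

include hF in
theorem card_W (l : ℕ) (hl : l ≤ n) : Nat.card (W n F l) = (q ^ 2) ^ (n - l) := by
  have e : W n F l ≃ (Fin (n - l) → F) :=
    { toFun := fun w m => (w : Fin n → F) ⟨l + m, by omega⟩
      invFun := fun v => ⟨fun k => if h : l ≤ (k : ℕ) then v ⟨(k : ℕ) - l, by omega⟩ else 0,
        fun k hk => dif_neg (by omega)⟩
      left_inv := fun w => Subtype.ext (funext fun k => by
        by_cases h : l ≤ (k : ℕ)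
        · simp only [dif_pos h]
          exact congrArg (w : Fin n → F) (Fin.ext (Nat.add_sub_cancel' h))
        · simp only [dif_neg h]
          exact (w.2 k (by omega)).symm)
      right_inv := fun v => funext fun m => by
        simp only
        rw [dif_pos (by simp)]
        congr 1
        exact Fin.ext (by simp) }
  rw [Nat.card_congr e, Nat.card_fun, Nat.card_fin, Nat.card_eq_fintype_card, hF]

theorem card_rad (i : Fin (n / 2)) :
    Nat.card (rad hF i) = q ^ (2 * (n - (2 * (i : ℕ) + 2)) + 1) := by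
  let f : W n F (2 * (i : ℕ) + 2) × {d : F // d + d ^ q = 0} → rad hF i := fun x =>
    ⟨el hF i x.1 x.1.2 (mu hF (x.1 : Fin n → F) + x.2) (by
      rw [add_pow_q hF]; linear_combination mu_spec hF (x.1 : Fin n → F) + x.2.2), ⟨_, _, _, _, rfl⟩⟩
  have hf : Function.Bijective f := by
    refine ⟨?_, ?_⟩
    · rintro ⟨⟨v, hv⟩, ⟨c, hc⟩⟩ ⟨⟨v', hv'⟩, ⟨c', hc'⟩⟩ h
      obtain ⟨rfl, h2⟩ : v = v' ∧ mu hF v + c = mu hF v' + c' :=
        el_inj hF (hw := hv) (hw' := hv')
          (hμ := by rw [add_pow_q hF]; linear_combination mu_spec hF v + hc)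
          (hμ' := by rw [add_pow_q hF]; linear_combination mu_spec hF v' + hc') (congrArg Subtype.val h)
      obtain rfl := add_left_cancel h2
      rfl
    · rintro ⟨_, w, hw, μ, hμ, rfl⟩
      refine ⟨(⟨w, hw⟩, ⟨μ - mu hF w, ?_⟩), ?_⟩
      swap
      · apply Subtype.ext
        simp only [f, add_sub_cancel]
      rw [sub_pow_q hF]
      linear_combination hμ - mu_spec hF w
  rw [← Nat.card_eq_of_bijective f hf, Nat.card_prod, card_skew hF, card_W hF _ (by omega),
    ← pow_mul, ← pow_succ]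

theorem card_uni : ∀ d k : ℕ, k + d = n / 2 →
    Nat.card (uni n hF k) = q ^ ((n - 2 * k).choose 2) := by
  intro d
  induction d with
  | zero =>
    intro k hk
    rw [uni_top hF (by omega), Subgroup.card_bot, Nat.choose_eq_zero_of_lt (by omega), pow_zero]
  | succ d ih =>
    intro k hk
    set i : Fin (n / 2) := ⟨k, by omega⟩
    set K := uni n hF ((i : ℕ) + 1)
    have hnorm : ∀ b ∈ K, ∀ a ∈ rad hF i, b * a * b⁻¹ ∈ rad hF i := fun b hb a ha =>
      Stab_conj hF (Stab_uni hF i hb) ha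
    let f : rad hF i × K → uni n hF k := fun x => ⟨(x.1 : SU n F q) * x.2, by
      rw [show k = (i : ℕ) from rfl, uni_eq hF]
      exact mul_mem_sup x.1.2 x.2.2⟩
    have hf : Function.Bijective f := by
      refine ⟨?_, ?_⟩
      · rintro ⟨a, b⟩ ⟨a', b'⟩ h
        have h' : (a : SU n F q) * b = a' * b' := congrArg Subtype.val h
        have hmem : (a' : SU n F q)⁻¹ * a ∈ rad hF i ⊓ K := by
          refine Subgroup.mem_inf.2 ⟨mul_mem (inv_mem a'.2) a.2, ?_⟩
          rw [show (a' : SU n F q)⁻¹ * a = b' * (b : SU n F q)⁻¹ by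
            rw [inv_mul_eq_iff_eq_mul, ← mul_assoc, ← h', mul_inv_cancel_right]]
          exact mul_mem b'.2 (inv_mem b.2)
        rw [rad_inf_uni, Subgroup.mem_bot, inv_mul_eq_one] at hmem
        have : a' = a := Subtype.ext hmem
        subst this
        exact Prod.ext rfl (Subtype.ext (mul_left_cancel h'))
      · rintro ⟨g, hg0⟩
        have hall : ∀ g ∈ closure ((rad hF i : Set (SU n F q)) ∪ (K : Set (SU n F q))),
            ∃ a ∈ rad hF i, ∃ b ∈ K, g = a * b := by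
          intro g hg
          induction hg using closure_induction with
          | mem x hx =>
            rcases hx with hx | hx
            · exact ⟨x, hx, 1, one_mem _, (mul_one x).symm⟩
            · exact ⟨1, one_mem _, x, hx, (one_mul x).symm⟩
          | one => exact ⟨1, one_mem _, 1, one_mem _, (mul_one _).symm⟩
          | mul a b _ _ ha hb =>
            obtain ⟨m, hm, k, hk, rfl⟩ := ha
            obtain ⟨m', hm', k', hk', rfl⟩ := hb
            exact ⟨m * (k * m' * k⁻¹), mul_mem hm (hnorm k hk _ hm'), k * k', mul_mem hk hk', by group⟩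
          | inv a _ ha =>
            obtain ⟨m, hm, k, hk, rfl⟩ := ha
            refine ⟨k⁻¹ * m⁻¹ * k, ?_, k⁻¹, inv_mem hk, by group⟩
            simpa using hnorm _ (inv_mem hk) _ (inv_mem hm)
        obtain ⟨a, ha, b, hb, rfl⟩ := hall g (by
          rw [← sup_eq_closure, ← uni_eq]; exact hg0)
        exact ⟨(⟨a, ha⟩, ⟨b, hb⟩), rfl⟩
    have h1 : Nat.card ↥K = q ^ ((n - 2 * (k + 1)).choose 2) := ih (k + 1) (by omega)
    rw [← Nat.card_eq_of_bijective f hf, Nat.card_prod, card_rad, h1, ← pow_add]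
    congr 1
    have hik : (i : ℕ) = k := rfl
    obtain ⟨m, hm⟩ : ∃ m, n - 2 * k = m + 2 := ⟨n - 2 * k - 2, by omega⟩
    rw [hik, hm, show n - (2 * k + 2) = m by omega, show n - 2 * (k + 1) = m by omega,
      Nat.choose_succ_succ' (m + 1) 1, Nat.choose_succ_succ' m 1, Nat.choose_one_right,
      Nat.choose_one_right]
    ring

theorem not_dvd_index (hn : 1 ≤ n) (p : ℕ) [Fact p.Prime] [CharP F p] :
    ¬ p ∣ (uni n hF 0).index := by
  have hp : p.Prime := Fact.out
  obtain ⟨e, -, hq⟩ := FiniteField.card F p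
  have hpq : p ∣ q := hp.dvd_of_dvd_pow (n := 2) (hF ▸ hq ▸ dvd_pow_self p e.pos.ne')
  have hq2 := two_le_q hF
  have h1 := (uni n hF 0).index_mul_card
  rw [card_uni hF (n / 2) 0 (zero_add _), mul_zero, Nat.sub_zero, Nat.choose_two_right] at h1
  have h2 := card_GU_eq_mul_card_SU (n := n) hF hn
  rw [card_GU hF, ← h1] at h2
  have hpos : 0 < q ^ (n * (n - 1) / 2) := pow_pos (by omega) _
  have h3 : (q + 1) * (uni n hF 0).index =
      ∏ i ∈ Finset.range n, (if Even i then q ^ (i + 1) + 1 else q ^ (i + 1) - 1) := by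
    refine Nat.eq_of_mul_eq_mul_left hpos ?_
    rw [← h2]
    ring
  intro hd
  have hd' : p ∣ ∏ i ∈ Finset.range n, (if Even i then q ^ (i + 1) + 1 else q ^ (i + 1) - 1) :=
    h3 ▸ dvd_mul_of_dvd_right hd _
  obtain ⟨i, -, hi⟩ := (Nat.Prime.prime hp).exists_mem_finset_dvd hd'
  have hpi : p ∣ q ^ (i + 1) := hpq.trans (dvd_pow_self q (by omega))
  have hone : 1 ≤ q ^ (i + 1) := Nat.one_le_pow _ _ (by omega)
  split_ifs at hi
  · exact hp.not_dvd_one ((Nat.dvd_add_iff_right hpi).2 hi)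
  · have := Nat.dvd_sub hpi hi
    rw [Nat.sub_sub_self hone] at this
    exact hp.not_dvd_one this

/-- A subgroup containing the centre and the coordinate elements contains the radical. -/
theorem rad_le_of_gens {i : Fin (n / 2)} {H : Subgroup (SU n F q)}
    (h0 : ∀ hw μ hμ, el hF i 0 hw μ hμ ∈ H)
    (h1 : ∀ (l : Fin n), 2 * (i : ℕ) + 2 ≤ (l : ℕ) → ∀ (c : F) hw,
      ∃ μ hμ, el hF i (c • Pi.single l 1) hw μ hμ ∈ H) : rad hF i ≤ H := by
  classical
  have shift : ∀ w hw μ hμ μ' hμ', el hF i w hw μ hμ ∈ H → el hF i w hw μ' hμ' ∈ H := by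
    intro w hw μ hμ μ' hμ' h
    have hd : μ' - μ + (μ' - μ) ^ q + hermForm n F q (0 : Fin n → F) 0 = 0 := by
      rw [herm_zero_left, sub_pow_q hF]; linear_combination hμ' - hμ
    obtain ⟨h', he⟩ := el_mul hF (zero_mem _) hw hd hμ
    have := mul_mem (h0 (zero_mem _) _ hd) h
    rw [he] at this
    convert this using 1
    exact el_congr hF (zero_add w).symm (by rw [herm_zero_right hF]; ring)
  let P : (Fin n → F) → Prop := fun w => ∃ hw μ hμ, el hF i w hw μ hμ ∈ H
  have hP0 : P 0 := ⟨zero_mem _, 0, by rw [herm_zero_left, zero_pow_q hF]; simp, h0 _ _ _⟩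
  have hPadd : ∀ a b, P a → P b → P (a + b) := by
    rintro a b ⟨ha, μ, hμ, h⟩ ⟨hb, μ', hμ', h'⟩
    obtain ⟨hh, he⟩ := el_mul hF ha hb hμ hμ'
    exact ⟨_, _, hh, he ▸ mul_mem h h'⟩
  rintro _ ⟨w, hw, μ, hμ, rfl⟩
  have hsum : w = ∑ l : Fin n, w l • (Pi.single l 1 : Fin n → F) := by
    funext k
    simp [Finset.sum_apply, Pi.single_apply]
  obtain ⟨hw', μ', hμ', h'⟩ : P (∑ l : Fin n, w l • (Pi.single l 1 : Fin n → F)) := by
    refine Finset.sum_induction _ P hPadd hP0 fun l _ => ?_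
    rcases lt_or_ge (l : ℕ) (2 * (i : ℕ) + 2) with hl | hl
    · rw [hw l hl, zero_smul]; exact hP0
    · exact ⟨fun k hk => by simp [Pi.single_eq_of_ne (show k ≠ l by intro h; subst h; omega)],
        h1 l hl (w l) _⟩
  refine shift w hw μ' (by rw [hsum]; exact hμ') μ hμ ?_
  convert h' using 1
  exact el_congr hF hsum rfl

theorem el_bracket {i : Fin (n / 2)} {t : SU n F q} {s : F} (hts : act t (ev hF i) = s • ev hF i)
    (htW : ∀ w ∈ W n F (2 * (i : ℕ) + 2), act t w ∈ W n F (2 * (i : ℕ) + 2)) {w' : Fin n → F}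
    (hw' : w' ∈ W n F (2 * (i : ℕ) + 2)) {μ : F} (hμ : μ + μ ^ q + hermForm n F q w' w' = 0)
    {w : Fin n → F} (hw : w ∈ W n F (2 * (i : ℕ) + 2)) (hww : s ^ q • act t w' - w' = w) :
    ∃ ν h, ⁅t, el hF i w' hw' μ hμ⁆ = el hF i w hw ν h := by
  obtain ⟨h2, he⟩ := el_conj hF hts htW hw' hμ
  rw [commutatorElement_def, he]
  have hadd : w + w' = s ^ q • act t w' := by rw [← hww, sub_add_cancel]
  have hν : (s ^ q * s * μ - μ + hermForm n F q w' w) +
      (s ^ q * s * μ - μ + hermForm n F q w' w) ^ q + hermForm n F q w w = 0 := by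
    rw [← hadd] at h2
    simp only [herm_add_left, herm_add_right hF] at h2
    simp only [add_pow_q hF, sub_pow_q hF, ← herm_conj hF]
    linear_combination h2 - hμ
  refine ⟨_, hν, mul_inv_eq_iff_eq_mul.2 ?_⟩
  obtain ⟨h3, he3⟩ := el_mul hF hw hw' hν hμ
  rw [he3]
  exact el_congr hF hadd.symm (by ring)

theorem el_zero_eq_tv {i : Fin (n / 2)} {h : (0 : Fin n → F) ∈ W n F (2 * (i : ℕ) + 2)} {μ : F}
    {hμ : μ + μ ^ q + hermForm n F q (0 : Fin n → F) 0 = 0} :
    el hF i 0 h μ hμ = tv hF (ev hF i) μ (ev_iso hF i)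
      (by rw [herm_zero_left, add_zero] at hμ; exact hμ) :=
  eich_eq_tv hF _ _ _

theorem tv_eq_el (i : Fin (n / 2)) {d : F} (hd : d + d ^ q = 0) :
    ∃ h, tv hF (ev hF i) d (ev_iso hF i) hd = el hF i 0 (zero_mem _) d h :=
  ⟨by rw [herm_zero_left, add_zero, hd], (el_zero_eq_tv hF).symm⟩

variable {Γ : Type*} [Group Γ] {σ : Γ →* SU n F q} (hs : Function.Surjective σ)
  (hc : σ.ker ≤ center Γ)

include hc hs in
/-- A section over a level. -/
theorem exists_level (hn : 3 ≤ n) (i : Fin (n / 2)) (hZ : ZN hF hs hc (ev hF i))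
    (hP : PhiData hF hs (ev_iso hF i)) (t : SU n F q) {s : F}
    (hts : act t (ev hF i) = s • ev hF i)
    (htW : ∀ w ∈ W n F (2 * (i : ℕ) + 2), act t w ∈ W n F (2 * (i : ℕ) + 2))
    (hfull : ∀ w ∈ W n F (2 * (i : ℕ) + 2),
      ∃ w' ∈ W n F (2 * (i : ℕ) + 2), s ^ q • act t w' - w' = w) :
    ∃ M D : Subgroup Γ, D ≤ M ∧ (∀ x ∈ M, σ x ∈ rad hF i) ∧
      (∀ x ∈ rad hF i, ∃ y ∈ M, σ y = x) ∧ (∀ x ∈ M, σ x = 1 → x = 1) ∧
      (∀ d hd, ∃ x ∈ D, σ x = tv hF (ev hF i) d (ev_iso hF i) hd) ∧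
      (∀ g : Γ, (∃ r : F, act (σ g) (ev hF i) = r • ev hF i) → ∀ x ∈ D, g * x * g⁻¹ ∈ D) ∧
      (∀ g : Γ, Commute (σ g) t → Stab hF i (σ g) → ∀ x ∈ M, g * x * g⁻¹ ∈ M) := by
  obtain ⟨D, hDT, hDs, hDinj, hDB, hDg⟩ := exists_D hF hs hc (ev_iso hF i) hn (ev_ne hF i) hZ hP
  have hD : D.map σ ≤ rad hF i := by
    rintro _ ⟨x, hx, rfl⟩
    obtain ⟨d, hd, he⟩ := hDT x hx
    obtain ⟨h, he'⟩ := tv_eq_el hF i hd
    exact ⟨_, _, _, h, he.trans he'⟩
  have hDc : ∀ u ∈ rad hF i, ∀ v ∈ rad hF i, br hs u v ∈ D := by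
    rintro _ ⟨w, hw, μ, hμ, rfl⟩ _ ⟨w', hw', μ', hμ', rfl⟩
    rw [el, el, br_eich hF hs hc (ev_iso hF i) hZ]
    exact hDB _ _ (W_perp hF hw).1 (W_perp hF hw').1
  have hDn : ∀ g : Γ, σ g ∈ rad hF i ∨ σ g = t → ∀ d ∈ D, g * d * g⁻¹ ∈ D := by
    rintro g (⟨w, hw, μ, hμ, hg⟩ | hg) d hd
    · exact hDg g ⟨1, by rw [hg, el, eich_self, one_smul]⟩ d hd
    · exact hDg g ⟨s, by rw [hg, hts]⟩ d hd
  have hsurj : rad hF i ≤ closure ({x | ∃ m ∈ rad hF i, x = ⁅t, m⁆} ∪ (D.map σ : Set (SU n F q))) := by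
    refine rad_le_of_gens hF (fun hw μ hμ => subset_closure (Or.inr ?_)) fun l hl c hw => ?_
    · rw [el_zero_eq_tv hF]
      obtain ⟨x, hx, he⟩ := hDs μ (by rw [herm_zero_left, add_zero] at hμ; exact hμ)
      exact ⟨x, hx, he⟩
    · obtain ⟨w', hw', hww⟩ := hfull _ hw
      obtain ⟨ν, h, he⟩ := el_bracket hF hts htW hw' (mu_spec hF w') hw hww
      exact ⟨ν, h, subset_closure (Or.inl ⟨_, ⟨_, _, _, _, rfl⟩, he.symm⟩)⟩
  obtain ⟨M, hDM, hMσ, hNM, hMinj, -, hMcomm⟩ := exists_section hs hc t D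
    (fun m hm => Stab_conj hF ⟨⟨s, hts⟩, htW⟩ hm) hD hDinj hDc hDn hsurj
  exact ⟨M, D, hDM, hMσ, hNM, hMinj, hDs, hDg, fun g hgt hg =>
    hMcomm g hgt (fun m hm => Stab_conj hF hg hm) (hDg g hg.1)⟩

include hc hs in
/-- The step when the auxiliary element centralises the higher levels. -/
theorem kerFree_level (hn : 3 ≤ n) (i : Fin (n / 2)) (hZ : ZN hF hs hc (ev hF i))
    (hP : PhiData hF hs (ev_iso hF i)) (t : SU n F q) {s : F}
    (hts : act t (ev hF i) = s • ev hF i)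
    (htW : ∀ w ∈ W n F (2 * (i : ℕ) + 2), act t w ∈ W n F (2 * (i : ℕ) + 2))
    (hfull : ∀ w ∈ W n F (2 * (i : ℕ) + 2),
      ∃ w' ∈ W n F (2 * (i : ℕ) + 2), s ^ q • act t w' - w' = w)
    (htK : ∀ k ∈ uni n hF ((i : ℕ) + 1), Commute k t)
    (hK : StemBasic.KerFree σ (uni n hF ((i : ℕ) + 1))) :
    StemBasic.KerFree σ (rad hF i ⊔ uni n hF ((i : ℕ) + 1)) := by
  obtain ⟨M, D, -, hMσ, hNM, hMinj, -, -, hMcomm⟩ :=
    exists_level hF hs hc hn i hZ hP t hts htW hfull
  exact kerFree_of_section hc M hMσ hNM hMinj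
    (fun g hg => hMcomm g (htK _ hg) (Stab_uni hF i hg))
    (fun k hk m hm => Stab_conj hF (Stab_uni hF i hk) hm) (rad_inf_uni hF i) hK

end Cfsg.Agent.StemSUUni
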