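import Cfsg.Agent.Lib.SymplecticBasic
import Cfsg.Agent.Lib.SymplecticRootGroups
import Mathlib

/-!
Vectors and elements of the symplectic group for the multiplier computation: pointwise stabilisers
are generated by transvections, and the elements `x ↦ x + f(x,v) u + f(x,u) v + c f(x,u) u`.
-/

set_option autoImplicit false
set_option backward.isDefEq.respectTransparency false

namespace Cfsg.Agent.StemSpEl

open Matrix Subgroup
open SymplecticBasic
open scoped commutatorElement

variable {F : Type*} [Field F] {m : ℕ}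

local notation "𝕍" => (Fin m ⊕ Fin m → F)
set_option quotPrecheck false in
local notation "𝔾" => ↥(symplecticGroup (Fin m) F)

/-- The vectors orthogonal to all of `S`. -/
def perp (S : Set 𝕍) : Submodule F 𝕍 where
  carrier := {u | ∀ s ∈ S, sympForm m F s u = 0}
  zero_mem' _ _ := form_zero_right _
  add_mem' {a b} ha hb s hs := by rw [form_add_right, ha s hs, hb s hs, add_zero]
  smul_mem' c a ha s hs := by rw [form_smul_right, ha s hs, mul_zero]

theorem mem_perp {S : Set 𝕍} {u : 𝕍} : u ∈ perp S ↔ ∀ s ∈ S, sympForm m F s u = 0 := Iff.rfl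

theorem perp_fix {S : Set 𝕍} {g : 𝔾} (hg : g ∈ transvGroup (perp S)) {s : 𝕍} (hs : s ∈ S) :
    g • s = s :=
  transvGroup_fixes hg fun _ hw => hw s hs

theorem transvGroup_mono {U U' : Submodule F 𝕍} (h : U ≤ U') : transvGroup U ≤ transvGroup U' := by
  refine Subgroup.closure_mono ?_
  rintro _ ⟨v, hv, c, rfl⟩
  exact ⟨v, h hv, c, rfl⟩

theorem move {U : Submodule F 𝕍} {a b z : 𝕍} (hd : b - a ∈ U) (hz : z ∈ U)
    (ha : sympForm m F a z ≠ 0) (hb : sympForm m F b z ≠ 0) :
    ∃ g ∈ transvGroup U, g • a = b := by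
  by_cases h : sympForm m F a b = 0
  · have h1 : sympForm m F a (a + z) ≠ 0 := by rwa [form_add_right, form_self, zero_add]
    have h2 : sympForm m F (a + z) b ≠ 0 := by
      rw [form_add_left, h, zero_add, ne_eq, form_eq_zero_comm]; exact hb
    refine ⟨transv (b - (a + z)) (sympForm m F (a + z) b)⁻¹ * transv (a + z - a) (sympForm m F a (a + z))⁻¹,
      mul_mem (transv_mem_transvGroup ?_ _) (transv_mem_transvGroup (by simpa using hz) _), ?_⟩
    · rw [← sub_sub]; exact sub_mem hd hz
    · rw [mul_smul, transv_sub_smul h1, transv_sub_smul h2]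
  · exact ⟨_, transv_mem_transvGroup hd _, transv_sub_smul h⟩

/-- A vector of a nondegenerate `W` outside the span of `S ⊆ W` is not orthogonal to `W ∩ S^⊥`. -/
theorem exists_perp_ne [Fintype F] {W : Submodule F 𝕍} (hW : NondegOn W) {S : Set 𝕍}
    (hS : S ⊆ (W : Set 𝕍)) {a : 𝕍} (ha : a ∈ W) (h : a ∉ Submodule.span F S) :
    ∃ u ∈ W, u ∈ perp S ∧ sympForm m F a u ≠ 0 := by
  classical
  by_contra hcon
  simp only [not_exists, not_and, not_not] at hcon
  have hK : (formLin a).comp W.subtype ∈
      Submodule.span F (Set.range fun s : S => (formLin (s : 𝕍)).comp W.subtype) := by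
    refine mem_span_of_iInf_ker_le_ker fun u hu => ?_
    simp only [Submodule.mem_iInf, LinearMap.mem_ker, LinearMap.comp_apply, Submodule.subtype_apply,
      formLin_apply] at hu ⊢
    exact hcon u u.2 fun s hs => hu ⟨s, hs⟩
  obtain ⟨c, hc⟩ := (Submodule.mem_span_range_iff_exists_fun F).1 hK
  have hx : a = ∑ s : S, c s • (s : 𝕍) := by
    refine sub_eq_zero.1 ?_
    by_contra hne
    have hmem : a - ∑ s : S, c s • (s : 𝕍) ∈ W :=
      sub_mem ha (sum_mem fun s _ => W.smul_mem _ (hS s.2))
    obtain ⟨z, hz, hz0⟩ := hW _ hmem hne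
    refine hz0 ?_
    have := LinearMap.congr_fun hc ⟨z, hz⟩
    simp only [LinearMap.sum_apply, LinearMap.smul_apply, LinearMap.comp_apply, Submodule.subtype_apply,
      formLin_apply, smul_eq_mul] at this
    rw [form_sub_left, sub_eq_zero, ← this]
    simp [sympForm, sum_dotProduct, smul_dotProduct]
  exact h (hx ▸ sum_mem fun s _ => Submodule.smul_mem _ _ (Submodule.subset_span s.2))

theorem exists_both {U : Submodule F 𝕍} {a b : 𝕍} (ha : ∃ u ∈ U, sympForm m F a u ≠ 0)
    (hb : ∃ u ∈ U, sympForm m F b u ≠ 0) :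
    ∃ u ∈ U, sympForm m F a u ≠ 0 ∧ sympForm m F b u ≠ 0 := by
  obtain ⟨x, hx, hxa⟩ := ha
  obtain ⟨y, hy, hyb⟩ := hb
  by_cases h1 : sympForm m F b x = 0
  · by_cases h2 : sympForm m F a y = 0
    · exact ⟨x + y, add_mem hx hy, by rwa [form_add_right, h2, add_zero],
        by rwa [form_add_right, h1, zero_add]⟩
    · exact ⟨y, hy, h2, hyb⟩
  · exact ⟨x, hx, hxa, h1⟩

/-- Transitivity of a pointwise stabiliser generated by transvections. -/
theorem move_perp [Fintype F] {W : Submodule F 𝕍} (hW : NondegOn W) {S : Set 𝕍}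
    (hS : S ⊆ (W : Set 𝕍)) {a b : 𝕍} (ha : a ∈ W) (hb : b ∈ W) (hd : b - a ∈ perp S)
    (ha' : a ∉ Submodule.span F S) (hb' : b ∉ Submodule.span F S) :
    ∃ g ∈ transvGroup (W ⊓ perp S), g • a = b := by
  obtain ⟨u, hu, hu', hau⟩ := exists_perp_ne hW hS ha ha'
  obtain ⟨w, hw, hw', hbw⟩ := exists_perp_ne hW hS hb hb'
  obtain ⟨z, hz, h1, h2⟩ := exists_both (U := W ⊓ perp S) ⟨u, ⟨hu, hu'⟩, hau⟩ ⟨w, ⟨hw, hw'⟩, hbw⟩
  exact move ⟨sub_mem hb ha, hd⟩ hz h1 h2

/-- The pointwise stabiliser of `S` is generated by transvections. -/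
theorem fix_mem_transvGroup [Fintype F] (S : Set 𝕍) {g : 𝔾} (hg : ∀ s ∈ S, g • s = s) :
    g ∈ transvGroup (perp S) := by
  classical
  suffices H : ∀ (d : ℕ) (S : Set 𝕍),
      Module.finrank F 𝕍 ≤ Module.finrank F (Submodule.span F S) + d →
      ∀ g : 𝔾, (∀ s ∈ S, g • s = s) → g ∈ transvGroup (perp S) from
    H (Module.finrank F 𝕍) S (by omega) g hg
  intro d
  induction d with
  | zero =>
    intro S hS g hg
    have htop : Submodule.span F S = ⊤ :=
      Submodule.eq_top_of_finrank_eq (le_antisymm (Submodule.finrank_le _) (by omega))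
    have : g = 1 := by
      refine ext_smul fun x => ?_
      rw [one_smul]
      have hx : x ∈ Submodule.span F S := htop ▸ Submodule.mem_top
      induction hx using Submodule.span_induction with
      | mem x hx => exact hg x hx
      | zero => simp [SymplecticBasic.smul_def]
      | add x y _ _ hx hy => rw [smul_add, hx, hy]
      | smul c x _ hx => rw [SymplecticSimple.scalar_smul, hx]
    rw [this]; exact one_mem _
  | succ d ih =>
    intro S hS g hg
    by_cases htop : Submodule.span F S = ⊤
    · exact ih S (by rw [htop, finrank_top]; omega) g hg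
    obtain ⟨x, -, hx⟩ := SetLike.exists_of_lt (lt_top_iff_ne_top.2 htop)
    have hgS : ∀ y ∈ Submodule.span F S, g • y = y := by
      intro y hy
      induction hy using Submodule.span_induction with
      | mem x hx => exact hg x hx
      | zero => simp [SymplecticBasic.smul_def]
      | add x y _ _ hx hy => rw [smul_add, hx, hy]
      | smul c x _ hx => rw [SymplecticSimple.scalar_smul, hx]
    have hgx : g • x ∉ Submodule.span F S := fun h => hx (by
      rw [← MulAction.injective g (hgS _ h)]; exact h)
    obtain ⟨h, hh, hhx⟩ := move_perp (W := ⊤) nondegOn_top (S := S) (fun _ _ => trivial)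
      (a := g • x) (b := x) trivial trivial (fun s hs => by
        rw [form_sub_right, sub_eq_zero]
        conv_rhs => rw [← hg s hs, form_map])
      hgx hx
    have hh' : h ∈ transvGroup (perp S) := transvGroup_mono inf_le_right hh
    have hnew : h * g ∈ transvGroup (perp (insert x S)) := by
      refine ih _ ?_ _ ?_
      · have hlt : Submodule.span F S < Submodule.span F (insert x S) :=
          lt_of_le_of_ne (Submodule.span_mono (Set.subset_insert _ _)) fun e =>
            hx (e ▸ Submodule.subset_span (Set.mem_insert _ _))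
        have := Submodule.finrank_lt_finrank_of_lt hlt
        omega
      · intro s hs
        rcases hs with rfl | hs
        · rw [mul_smul, hhx]
        · rw [mul_smul, hg s hs, perp_fix hh' hs]
    have : h * g ∈ transvGroup (perp S) := by
      refine transvGroup_mono ?_ hnew
      exact fun u hu s hs => hu s (Set.mem_insert_of_mem _ hs)
    simpa using mul_mem (inv_mem hh') this

/-- The element `x ↦ x + f(x,v) u + f(x,u) v + c f(x,u) u` (for `f(u,v) = 0`). -/
def sg (u v : 𝕍) (c : F) : 𝔾 := transv (u + v) 1 * transv u (c - 1) * transv v (-1)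

theorem sg_smul {u v : 𝕍} (h : sympForm m F u v = 0) (c : F) (x : 𝕍) :
    sg u v c • x = x + sympForm m F x v • u + sympForm m F x u • v + (c * sympForm m F x u) • u := by
  have h' : sympForm m F v u = 0 := form_eq_zero_comm.1 h
  simp only [sg, mul_smul, transv_smul, form_add_left, form_add_right, form_smul_left, form_self, h, h']
  module

theorem sg_zero (u : 𝕍) (c : F) : sg u 0 c = transv u c := by
  rw [sg, add_zero, transv_add, transv_vec_zero, mul_one, add_sub_cancel]

theorem sg_conj (g : 𝔾) (u v : 𝕍) (c : F) : g * sg u v c * g⁻¹ = sg (g • u) (g • v) c := by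
  rw [sg, sg, ← smul_add, ← transv_conj, ← transv_conj, ← transv_conj]
  group

theorem sg_mul {u v w : 𝕍} (hv : sympForm m F u v = 0) (hw : sympForm m F u w = 0) (c d : F) :
    sg u v c * sg u w d = sg u (v + w) (c + d + sympForm m F w v) := by
  have hv' : sympForm m F v u = 0 := form_eq_zero_comm.1 hv
  have hw' : sympForm m F w u = 0 := form_eq_zero_comm.1 hw
  refine ext_smul fun x => ?_
  rw [mul_smul, sg_smul hw, sg_smul hv, sg_smul (by rw [form_add_right, hv, hw, add_zero])]
  simp only [form_add_left, form_add_right, form_smul_left, form_self, hv, hw, hv', hw']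
  module

theorem sg_inv {u v : 𝕍} (hv : sympForm m F u v = 0) (c : F) :
    (sg u v c)⁻¹ = sg u (-v) (-c) := by
  refine inv_eq_of_mul_eq_one_right ?_
  have hn : sympForm m F u (-v) = 0 := by rw [← neg_one_smul F v, form_smul_right, hv, mul_zero]
  rw [sg_mul hv hn, add_neg_cancel, add_neg_cancel, zero_add, sg_zero]
  rw [show sympForm m F (-v) v = 0 by rw [← neg_one_smul F v, form_smul_left, form_self, mul_zero]]
  exact transv_zero _

theorem sg_scale {u v : 𝕍} (hv : sympForm m F u v = 0) (a c : F) :
    sg (a • u) v c = sg u (a • v) (a ^ 2 * c) := by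
  refine ext_smul fun x => ?_
  rw [sg_smul (by rw [form_smul_left, hv, mul_zero]), sg_smul (by rw [form_smul_right, hv, mul_zero]),
    form_smul_right, form_smul_right]
  module

theorem sg_bracket {u v w : 𝕍} (hv : sympForm m F u v = 0) (hw : sympForm m F u w = 0) (c d : F) :
    ⁅sg u v c, sg u w d⁆ = transv u (2 * sympForm m F w v) := by
  have hn : ∀ x : 𝕍, sympForm m F u x = 0 → sympForm m F u (-x) = 0 := fun x hx => by
    rw [← neg_one_smul F x, form_smul_right, hx, mul_zero]
  have ha : ∀ x y : 𝕍, sympForm m F u x = 0 → sympForm m F u y = 0 →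
      sympForm m F u (x + y) = 0 := fun x y hx hy => by rw [form_add_right, hx, hy, add_zero]
  rw [commutatorElement_def, sg_inv hv, sg_inv hw, sg_mul hv hw, sg_mul (ha _ _ hv hw) (hn _ hv),
    sg_mul (ha _ _ (ha _ _ hv hw) (hn _ hv)) (hn _ hw), ← sg_zero u]
  congr 1
  · abel
  · rw [← neg_one_smul F v, ← neg_one_smul F w]
    simp only [form_add_left, form_add_right, form_smul_left, form_smul_right, form_self,
      form_swap w v]
    ring

theorem bracket_transv_sg {u a w : 𝕍} (ha : sympForm m F u a = 0) (hw : sympForm m F u w = 0)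
    (μ d : F) : ⁅transv a μ, sg u w d⁆ =
      sg u ((μ * sympForm m F w a) • a) (-(μ * sympForm m F w a ^ 2)) := by
  have h1 : transv a μ • u = u := by
    rw [transv_smul, ha, mul_zero, zero_smul, add_zero]
  have h2 : sympForm m F u ((μ * sympForm m F w a) • a) = 0 := by rw [form_smul_right, ha, mul_zero]
  have hn : sympForm m F u (-w) = 0 := by rw [← neg_one_smul F w, form_smul_right, hw, mul_zero]
  rw [commutatorElement_def, sg_conj, h1, transv_smul, sg_inv hw,
    sg_mul (by rw [form_add_right, hw, h2, add_zero]) hn]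
  congr 1
  · abel
  · rw [← neg_one_smul F w]
    simp only [form_add_right, form_smul_left, form_smul_right, form_self]
    ring

theorem sg_mem_transvGroup {U : Submodule F 𝕍} {u v : 𝕍} (hu : u ∈ U) (hv : v ∈ U) (c : F) :
    sg u v c ∈ transvGroup U :=
  mul_mem (mul_mem (transv_mem_transvGroup (add_mem hu hv) _) (transv_mem_transvGroup hu _))
    (transv_mem_transvGroup hv _)

theorem sg_fix {u v x : 𝕍} (h : sympForm m F u v = 0) (c : F) (hu : sympForm m F x u = 0)
    (hv : sympForm m F x v = 0) : sg u v c • x = x := by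
  rw [sg_smul h, hu, hv]
  simp

/-- The torus element scaling `u` by `a` and `w` by `a⁻¹`. -/
def torus {u w : 𝕍} (h : sympForm m F u w = 1) (a : Fˣ) : 𝔾 :=
  SymplecticRootGroups.planeHom h
    ⟨!![(a : F), 0; 0, ((a⁻¹ : Fˣ) : F)], by simp [Matrix.det_fin_two]⟩

theorem torus_smul {u w : 𝕍} (h : sympForm m F u w = 1) (a : Fˣ) (x : 𝕍) :
    torus h a • x = x + (sympForm m F x w * ((a : F) - 1)) • u +
      (sympForm m F u x * (((a⁻¹ : Fˣ) : F) - 1)) • w := by
  rw [torus, SymplecticRootGroups.planeHom_smul]
  simp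
  module

theorem torus_left {u w : 𝕍} (h : sympForm m F u w = 1) (a : Fˣ) :
    torus h a • u = (a : F) • u := by
  rw [torus_smul, h, form_self]
  module

theorem torus_fix {u w x : 𝕍} (h : sympForm m F u w = 1) (a : Fˣ) (hu : sympForm m F u x = 0)
    (hw : sympForm m F x w = 0) : torus h a • x = x := by
  rw [torus_smul, hu, hw]
  module

end Cfsg.Agent.StemSpEl
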