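import Cfsg.Agent.Lib.StemSpEl
import Cfsg.Agent.Lib.SymplecticOrder
import Cfsg.Agent.Lib.StemLift
import Mathlib

/-!
The standard flag: the unipotent radical of the stabiliser of `e_k` inside the fixator of the first
`k` hyperbolic pairs.
-/

set_option autoImplicit false
set_option backward.isDefEq.respectTransparency false

namespace Cfsg.Agent.StemSpStd

open Matrix Subgroup
open SymplecticBasic StemSpEl

variable {F : Type*} [Field F] {m : ℕ}

local notation "𝕍" => (Fin m ⊕ Fin m → F)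
set_option quotPrecheck false in
local notation "𝔾" => ↥(symplecticGroup (Fin m) F)

/-- The vector `e_k`. -/
def ek (F : Type*) [Field F] {m : ℕ} (k : Fin m) : Fin m ⊕ Fin m → F := Pi.single (Sum.inl k) 1

/-- The vector `f_k`, with `f(f_k, e_k) = 1`. -/
def fk (F : Type*) [Field F] {m : ℕ} (k : Fin m) : Fin m ⊕ Fin m → F := Pi.single (Sum.inr k) 1

theorem form_ek (u : 𝕍) (k : Fin m) : sympForm m F u (ek F k) = u (Sum.inr k) :=
  form_single_inl_right u k

theorem form_fk (u : 𝕍) (k : Fin m) : sympForm m F u (fk F k) = - u (Sum.inl k) :=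
  form_single_inr_right u k

theorem form_fk_ek (k : Fin m) : sympForm m F (fk F k) (ek F k) = 1 := form_std_pair k

theorem ek_ne_zero (k : Fin m) : ek F k ≠ 0 := by simp [ek]

theorem ek_mem (k : Fin m) : ek F k ∈ tailSpace F m k := single_inl_mem_tailSpace le_rfl _

theorem fk_mem (k : Fin m) : fk F k ∈ tailSpace F m k := single_inr_mem_tailSpace le_rfl _

theorem tailSpace_mono {k l : ℕ} (h : k ≤ l) : tailSpace F m l ≤ tailSpace F m k :=
  fun _ hx i hi => hx i (by omega)

theorem tailSpace_zero : tailSpace F m 0 = (⊤ : Submodule F 𝕍) :=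
  eq_top_iff.2 fun x _ i hi => absurd hi (Nat.not_lt_zero _)

theorem tailSpace_top {k : ℕ} (h : m ≤ k) {x : 𝕍} (hx : x ∈ tailSpace F m k) : x = 0 := by
  funext s
  rcases s with i | i
  · exact (hx i (i.2.trans_le h)).1
  · exact (hx i (i.2.trans_le h)).2

theorem form_ek_tail {k : Fin m} {v : 𝕍} (hv : v ∈ tailSpace F m ((k : ℕ) + 1)) :
    sympForm m F (ek F k) v = 0 := by
  rw [form_eq_zero_comm, form_ek, (hv k (Nat.lt_succ_self _)).2]

theorem form_fk_tail {k : Fin m} {v : 𝕍} (hv : v ∈ tailSpace F m ((k : ℕ) + 1)) :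
    sympForm m F (fk F k) v = 0 := by
  rw [form_eq_zero_comm, form_fk, (hv k (Nat.lt_succ_self _)).1, neg_zero]

theorem exists_decomp {k : Fin m} {v : 𝕍} (hv : v ∈ tailSpace F m k)
    (h : sympForm m F (ek F k) v = 0) :
    ∃ a : F, ∃ v' ∈ tailSpace F m ((k : ℕ) + 1), v = a • ek F k + v' := by
  refine ⟨v (Sum.inl k), v - v (Sum.inl k) • ek F k, fun i hi => ?_, (add_sub_cancel _ _).symm⟩
  rw [form_eq_zero_comm, form_ek] at h
  rcases Nat.lt_succ_iff_lt_or_eq.1 hi with hi | hi
  · have : i ≠ k := fun e => absurd (e ▸ hi) (lt_irrefl _)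
    simp [ek, hv i hi, this]
  · obtain rfl : i = k := Fin.ext hi
    simp [ek, h]

theorem transv_decomp {u v : 𝕍} (h : sympForm m F u v = 0) (a c : F) :
    transv (a • u + v) c = sg u ((c * a) • v) (c * a ^ 2) * transv v c := by
  have h' : sympForm m F v u = 0 := form_eq_zero_comm.1 h
  refine ext_smul fun x => ?_
  rw [mul_smul, transv_smul, transv_smul, sg_smul (by rw [form_smul_right, h, mul_zero])]
  simp only [form_add_left, form_add_right, form_smul_left, form_smul_right, form_self, h']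
  module

/-- The radical: the elements `sg e_k v c` with `v` beyond `k`. -/
def rad (F : Type*) [Field F] {m : ℕ} (k : Fin m) : Subgroup (symplecticGroup (Fin m) F) where
  carrier := {g | ∃ v ∈ tailSpace F m ((k : ℕ) + 1), ∃ c, g = sg (ek F k) v c}
  one_mem' := ⟨0, zero_mem _, 0, by rw [sg_zero, transv_zero]⟩
  mul_mem' := by
    rintro _ _ ⟨v, hv, c, rfl⟩ ⟨w, hw, d, rfl⟩
    exact ⟨v + w, add_mem hv hw, _, sg_mul (form_ek_tail hv) (form_ek_tail hw) c d⟩
  inv_mem' := by
    rintro _ ⟨v, hv, c, rfl⟩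
    exact ⟨-v, neg_mem hv, _, sg_inv (form_ek_tail hv) c⟩

theorem sg_mem_rad {k : Fin m} {v : 𝕍} (hv : v ∈ tailSpace F m ((k : ℕ) + 1)) (c : F) :
    sg (ek F k) v c ∈ rad F k := ⟨v, hv, c, rfl⟩

theorem sg_pow {u v : 𝕍} (h : sympForm m F u v = 0) (c : F) (n : ℕ) :
    sg u v c ^ n = sg u ((n : F) • v) ((n : F) * c) := by
  induction n with
  | zero => rw [pow_zero, Nat.cast_zero, zero_smul, zero_mul, sg_zero, transv_zero]
  | succ n ih =>
    rw [pow_succ, ih, sg_mul (by rw [form_smul_right, h, mul_zero]) h, Nat.cast_succ, add_smul, one_smul,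
      form_smul_right, form_self, mul_zero, add_zero, add_mul, one_mul]

theorem isPElem_rad (p : ℕ) [CharP F p] {k : Fin m} {g : 𝔾} (hg : g ∈ rad F k) :
    StemLift.IsPElem p g := by
  obtain ⟨v, hv, c, rfl⟩ := hg
  refine StemLift.isPElem_of_pow ?_
  rw [sg_pow (form_ek_tail hv), CharP.cast_eq_zero, zero_smul, zero_mul, sg_zero, transv_zero]

theorem isPElem_transv (p : ℕ) [CharP F p] (v : 𝕍) (c : F) : StemLift.IsPElem p (transv v c) := by
  refine StemLift.isPElem_of_pow ?_
  have h := sg_pow (u := v) (v := (0 : 𝕍)) (form_zero_right _) c p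
  rwa [sg_zero, CharP.cast_eq_zero, zero_smul, zero_mul, sg_zero, transv_zero] at h

theorem rad_conj {k : Fin m} {g : 𝔾} (hg : g • ek F k = ek F k)
    (hmap : ∀ v ∈ tailSpace F m ((k : ℕ) + 1), g • v ∈ tailSpace F m ((k : ℕ) + 1)) {x : 𝔾}
    (hx : x ∈ rad F k) : g * x * g⁻¹ ∈ rad F k := by
  obtain ⟨v, hv, c, rfl⟩ := hx
  rw [sg_conj, hg]
  exact sg_mem_rad (hmap v hv) c

theorem levi_fix {k : Fin m} {g : 𝔾} (hg : g ∈ transvGroup (tailSpace F m ((k : ℕ) + 1))) :
    g • ek F k = ek F k ∧ g • fk F k = fk F k :=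
  ⟨transvGroup_fixes hg fun _ hw => form_ek_tail hw, transvGroup_fixes hg fun _ hw => form_fk_tail hw⟩

theorem rad_eq_one {k : Fin m} {g : 𝔾} (hg : g ∈ rad F k) (hf : g • fk F k = fk F k) : g = 1 := by
  obtain ⟨v, hv, c, rfl⟩ := hg
  rw [sg_smul (form_ek_tail hv), form_fk_tail hv, form_fk_ek, zero_smul, add_zero, one_smul, mul_one,
    add_assoc, add_eq_left] at hf
  have hc : c = 0 := by
    have := congrFun hf (Sum.inl k)
    simpa [ek, (hv k (Nat.lt_succ_self _)).1] using this
  rw [hc, zero_smul, add_zero] at hf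
  rw [hf, hc, sg_zero, transv_zero]

theorem rad_le {k : Fin m} : rad F k ≤ transvGroup (tailSpace F m k ⊓ perp {ek F k}) := by
  rintro _ ⟨v, hv, c, rfl⟩
  refine sg_mem_transvGroup (Submodule.mem_inf.2 ⟨ek_mem k, ?_⟩)
    (Submodule.mem_inf.2 ⟨tailSpace_mono (Nat.le_succ _) hv, ?_⟩) c
  · rintro s rfl; exact form_self _
  · rintro s rfl; exact form_ek_tail hv

theorem perp_pairs {k : ℕ} :
    perp {x : 𝕍 | ∃ i : Fin m, (i : ℕ) < k ∧ (x = ek F i ∨ x = fk F i)} ≤ tailSpace F m k := by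
  intro x hx i hi
  have h1 := hx (fk F i) ⟨i, hi, Or.inr rfl⟩
  have h2 := hx (ek F i) ⟨i, hi, Or.inl rfl⟩
  rw [form_eq_zero_comm, form_fk, neg_eq_zero] at h1
  rw [form_eq_zero_comm, form_ek] at h2
  exact ⟨h1, h2⟩

/-- A fixator of pairs and of `S` is generated by transvections. -/
theorem fixPairs_mem_transvGroup [Fintype F] {k : ℕ} {g : 𝔾} (hg : g ∈ fixPairs F m k) (S : Set 𝕍)
    (hS : ∀ s ∈ S, g • s = s) : g ∈ transvGroup (tailSpace F m k ⊓ perp S) := by
  refine transvGroup_mono ?_ (fix_mem_transvGroup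
    ({x : 𝕍 | ∃ i : Fin m, (i : ℕ) < k ∧ (x = ek F i ∨ x = fk F i)} ∪ S) ?_)
  · exact le_inf (fun x hx => perp_pairs fun s hs => hx s (Or.inl hs)) fun x hx s hs => hx s (Or.inr hs)
  · rintro s (⟨i, hi, rfl | rfl⟩ | hs)
    · exact (mem_fixPairs.1 hg i hi).1
    · exact (mem_fixPairs.1 hg i hi).2
    · exact hS s hs

theorem finrank_tailSpace [Fintype F] {k : ℕ} (hk : k ≤ m) :
    Module.finrank F (tailSpace F m k) = 2 * (m - k) := by
  have h := SymplecticOrder.card_tailSpace (F := F) (m := m) (k := k) (d := m - k) (by omega)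
  rw [Module.natCard_eq_pow_finrank (K := F)] at h
  exact Nat.pow_right_injective (Finite.one_lt_card (α := F)) h

/-- Few linear conditions on a large space leave something outside a small subspace. -/
theorem exists_avoid [Fintype F] {W Z : Submodule F 𝕍} {n : ℕ} (a : Fin n → 𝕍)
    (h : n + Module.finrank F Z < Module.finrank F W) :
    ∃ x ∈ W, (∀ i, sympForm m F (a i) x = 0) ∧ x ∉ Z := by
  by_contra hcon
  simp only [not_exists, not_and, not_not] at hcon
  let ψ : W →ₗ[F] (Fin n → F) := (LinearMap.pi fun i => formLin (a i)).comp W.subtype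
  have h1 := ψ.finrank_range_add_finrank_ker
  have h2 : Module.finrank F (LinearMap.range ψ) ≤ n :=
    (Submodule.finrank_le _).trans_eq (by simp)
  have h3 : (LinearMap.ker ψ).map W.subtype ≤ Z := by
    rintro _ ⟨x, hx, rfl⟩
    exact hcon x x.2 fun i => congrFun (LinearMap.mem_ker.1 hx) i
  have h4 := Submodule.finrank_mono h3
  rw [Submodule.finrank_map_subtype_eq] at h4
  omega

theorem finrank_span_pair_le [Fintype F] (a b : 𝕍) :
    Module.finrank F (Submodule.span F ({a, b} : Set 𝕍)) ≤ 2 := by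
  classical
  have h := finrank_span_finset_le_card (R := F) ({a, b} : Finset 𝕍)
  rw [Finset.coe_pair] at h
  exact h.trans Finset.card_le_two

theorem finrank_span_single_le [Fintype F] (a : 𝕍) :
    Module.finrank F (Submodule.span F ({a} : Set 𝕍)) ≤ 1 := by
  classical
  have h := finrank_span_finset_le_card (R := F) ({a} : Finset 𝕍)
  rw [Finset.coe_singleton] at h
  exact h.trans (Finset.card_singleton _).le

end Cfsg.Agent.StemSpStd
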