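import Cfsg.Agent.Lib.StemPairing
import Cfsg.Agent.Lib.SuzukiGroupLie
import Cfsg.Agent.Lib.SuzukiGroupCentralizer
import Mathlib

/-!
Stem extensions of the Suzuki groups `Sz(q)`, `q ≥ 32`, are trivial.
-/

set_option autoImplicit false
set_option backward.isDefEq.respectTransparency false

namespace Cfsg.Agent.StemSuzuki

open Subgroup Cfsg.Agent.SuzukiGroupBasic Cfsg.Agent.SuzukiGroupStructure
open scoped commutatorElement
open StemPairing

variable {F : Type*} [Field F] [Fintype F] {m : ℕ} [hP : Param F m]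


include hP in
theorem eight_le_card : 8 ≤ Fintype.card F := by
  have h := natCard (F := F) (m := m)
  have h1 := SuzukiGroupBasic.one_le (F := F) (m := m)
  rw [Nat.card_eq_fintype_card] at h
  rw [h]
  exact (Nat.le_of_eq (by norm_num : 8 = 2 ^ 3)).trans (Nat.pow_le_pow_right two_pos (by omega))

/-- `b ↦ Ts 0 b`. -/
def zHom : Multiplicative F →* ↥(Cfsg.Sz F m) where
  toFun b := Ts 0 b.toAdd
  map_one' := Ts_zero
  map_mul' b c := by simp [Ts_mul]

theorem Ts_zero_mul (b c : F) : (Ts 0 b : ↥(Cfsg.Sz F m)) * Ts 0 c = Ts 0 (b + c) := by simp [Ts_mul]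

theorem Ts_zero_commute (a b c : F) : Commute (Ts a b : ↥(Cfsg.Sz F m)) (Ts 0 c) := by
  show _ = _
  rw [Ts_mul, Ts_mul]
  simp [add_comm]

theorem exists_unit_sg (c : F) (hc : c ≠ 0) : ∃ k : Fˣ, (k : F) * sg m (k : F) = c := by
  obtain ⟨k, hk⟩ := exists_mul_sg (m := m) c
  have hk0 : k ≠ 0 := by rintro rfl; rw [zero_mul] at hk; exact hc hk.symm
  exact ⟨Units.mk0 k hk0, hk⟩

open Classical in
theorem sum_scale : ∑ k : Fˣ, (k : F) * sg m (k : F) = 0 := by
  obtain ⟨x, hx0, hx1⟩ := exists_ne_zero_one (F := F) (m := m)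
  set k0 : Fˣ := Units.mk0 x hx0
  have hc : x * sg m x ≠ 1 := by
    intro h
    have hsx : sg m x = x⁻¹ := eq_inv_of_mul_eq_one_right h
    have h2 := sg_sg (m := m) x
    rw [hsx, sg_inv, hsx, inv_inv, pow_two] at h2
    exact hx1 ((mul_eq_left₀ hx0).1 h2.symm)
  have h := Equiv.sum_comp (Equiv.mulLeft k0) fun k : Fˣ => (k : F) * sg m (k : F)
  simp only [Equiv.coe_mulLeft, Units.val_mul, sg_mul] at h
  set S := ∑ k : Fˣ, (k : F) * sg m (k : F)
  have h' : x * sg m x * S = S := by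
    conv_rhs => rw [← h]
    rw [Finset.mul_sum]
    refine Finset.sum_congr rfl fun k _ => ?_
    simp only [k0, Units.val_mk0]
    ring
  by_contra hS
  exact hc ((mul_eq_right₀ hS).1 h')

theorem exists_good (hm : 2 ≤ m) : ∃ x : F, x ≠ 0 ∧ x + 1 ≠ 0 ∧
    1 / ((x + 1) * sg m (x + 1)) - 1 / (x * sg m x) - 1 ≠ 0 := by
  classical
  have := charTwo (F := F) (m := m)
  set e := 2 ^ (m + 1) with he
  open Polynomial in
  set P : F[X] := X * (X + C 1) *
    (X ^ 2 * (X ^ e) ^ 2 + X ^ 2 * X ^ e + X * (X ^ e) ^ 2 + X * X ^ e + X + X ^ e + C 1) with hP'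
  have hdeg : P.natDegree ≤ 4 + 2 * e := by
    rw [hP']
    simp only [← pow_mul]
    refine Polynomial.natDegree_mul_le.trans ?_
    have h1 : (Polynomial.X * (Polynomial.X + Polynomial.C (1 : F))).natDegree ≤ 2 := by compute_degree
    have h2 : ((Polynomial.X : Polynomial F) ^ 2 * Polynomial.X ^ (e * 2) +
        Polynomial.X ^ 2 * Polynomial.X ^ e + Polynomial.X * Polynomial.X ^ (e * 2) +
        Polynomial.X * Polynomial.X ^ e + Polynomial.X + Polynomial.X ^ e + Polynomial.C 1).natDegree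
        ≤ 2 + 2 * e := by
      compute_degree <;> omega
    omega
  have hlt : 4 + 2 * e < Fintype.card F := by
    have h := natCard (F := F) (m := m)
    rw [Nat.card_eq_fintype_card] at h
    rw [h, he]
    have h4 : (4 : ℕ) ≤ 2 ^ m := (Nat.le_of_eq (by norm_num : 4 = 2 ^ 2)).trans (Nat.pow_le_pow_right two_pos hm)
    rw [show 2 * m + 1 = m + m + 1 by omega, pow_succ, pow_succ, pow_add]
    nlinarith
  have hP0 : P ≠ 0 := by
    refine mul_ne_zero (mul_ne_zero Polynomial.X_ne_zero (Polynomial.X_add_C_ne_zero 1)) ?_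
    intro h
    have := congrArg (Polynomial.eval 0) h
    simp [e] at this
  obtain ⟨x, hx⟩ : ∃ x : F, P.eval x ≠ 0 := by
    by_contra hcon
    simp only [not_exists, not_not] at hcon
    exact hP0 (Polynomial.eq_zero_of_natDegree_lt_card_of_eval_eq_zero P (f := fun a : F => a)
      (fun a b h => h) hcon (by omega))
  simp only [hP', Polynomial.eval_mul, Polynomial.eval_X, Polynomial.eval_add, Polynomial.eval_C,
    Polynomial.eval_pow, mul_ne_zero_iff] at hx
  obtain ⟨⟨hx0, hx1⟩, hx2⟩ := hx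
  refine ⟨x, hx0, hx1, ?_⟩
  intro h
  have hs0 : sg m x ≠ 0 := sg_ne_zero hx0
  have hs1 : sg m (x + 1) ≠ 0 := sg_ne_zero hx1
  rw [sg_add, sg_one] at h hs1
  apply hx2
  have he' : x ^ e = sg m x := rfl
  rw [he']
  have he : (1 / ((x + 1) * (sg m x + 1)) - 1 / (x * sg m x) - 1) *
      ((x * sg m x) * ((x + 1) * (sg m x + 1))) =
      x * sg m x - (x + 1) * (sg m x + 1) - (x * sg m x) * ((x + 1) * (sg m x + 1)) := by
    field_simp
  rw [h, zero_mul] at he
  linear_combination he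

section

variable {Γ : Type*} [Group Γ] {σ : Γ →* ↥(Cfsg.Sz F m)} (hs : Function.Surjective σ) (hc : σ.ker ≤ center Γ)

/-- Chosen lift of `Ts a b`. -/
noncomputable def L (a b : F) : Γ := Function.surjInv hs (Ts a b)

theorem L_spec (a b : F) : σ (L hs a b) = Ts a b := Function.surjInv_eq hs _

/-- Chosen lift of the torus element. -/
noncomputable def D (k : Fˣ) : Γ := Function.surjInv hs (Hs k)

theorem D_spec (k : Fˣ) : σ (D hs k) = Hs k := Function.surjInv_eq hs _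

theorem D_conj (k : Fˣ) (a b : F) :
    σ (D hs k * L hs a b * (D hs k)⁻¹) = σ (L hs ((k : F) * a) ((k : F) * sg m (k : F) * b)) := by
  rw [map_mul, map_mul, map_inv, D_spec, L_spec, L_spec, Hs_Ts]

theorem L_comm (a b c : F) : Commute (σ (L hs a b)) (σ (L hs 0 c)) := by
  rw [L_spec, L_spec]; exact Ts_zero_commute a b c

include hc in
theorem zz_eq_one (hm : 2 ≤ m) (b c : F) : ⁅L hs 0 b, L hs 0 c⁆ = 1 := by
  have h8 := eight_le_card (F := F) (m := m)
  have h4 : Fintype.card F ≠ 4 := by omega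
  have h9 : Fintype.card F ≠ 9 := by
    have h := natCard (F := F) (m := m)
    rw [Nat.card_eq_fintype_card] at h
    rw [h]; intro h'
    have : 2 ∣ 9 := h' ▸ dvd_pow_self 2 (by omega)
    omega
  refine pairing_eq_one h4 h9 (fun b c => ⁅L hs 0 b, L hs 0 c⁆) ?_ ?_ ?_ ?_ b c
  · intro x x' y
    show _ = ⁅L hs 0 x, L hs 0 y⁆ * ⁅L hs 0 x', L hs 0 y⁆
    rw [← bracket_mul_left hc (L_comm hs 0 x' y)]
    exact bracket_congr hc (by rw [map_mul, L_spec, L_spec, L_spec, Ts_zero_mul]) rfl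
  · intro x y y'
    show _ = ⁅L hs 0 x, L hs 0 y⁆ * ⁅L hs 0 x, L hs 0 y'⁆
    rw [← bracket_mul_right hc (L_comm hs 0 x y')]
    exact bracket_congr hc rfl (by rw [map_mul, L_spec, L_spec, L_spec, Ts_zero_mul])
  · intro x; exact commutatorElement_self _
  · intro t ht x y
    obtain ⟨k, hk⟩ := exists_unit_sg (m := m) (t ^ 2) (pow_ne_zero 2 ht)
    refine bracket_conj hc (D hs k) (L_comm hs 0 x y) ?_ ?_
    · rw [D_conj, mul_zero, hk]
    · rw [D_conj, mul_zero, hk]

include hc in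
theorem az_eq_one (hm : 2 ≤ m) (a b : F) : ⁅L hs a 0, L hs 0 b⁆ = 1 := by
  set B : F → F → Γ := fun a b => ⁅L hs a 0, L hs 0 b⁆
  have hl : ∀ a a' b, B (a + a') b = B a b * B a' b := by
    intro a a' b
    have e : σ (L hs (a + a') 0) = σ (L hs a 0 * L hs a' 0 * L hs 0 (sg m a * a')) := by
      have := charTwo (F := F) (m := m)
      rw [map_mul, map_mul, L_spec, L_spec, L_spec, L_spec, Ts_mul, Ts_mul]
      simp [CharTwo.add_self_eq_zero]
    show ⁅L hs (a + a') 0, L hs 0 b⁆ = _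
    rw [bracket_congr hc e rfl, bracket_mul_left hc (L_comm hs 0 _ b),
      bracket_mul_left hc (L_comm hs a' 0 b), zz_eq_one hs hc hm, mul_one]
  have hr : ∀ a b b', B a (b + b') = B a b * B a b' := by
    intro a b b'
    show _ = ⁅L hs a 0, L hs 0 b⁆ * ⁅L hs a 0, L hs 0 b'⁆
    rw [← bracket_mul_right hc (L_comm hs a 0 b')]
    exact bracket_congr hc rfl (by rw [map_mul, L_spec, L_spec, L_spec, Ts_zero_mul])
  have key : ∀ (w : F), w ≠ 0 → ∀ a c, B (w * a) c = B a (c / (w * sg m w)) := by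
    intro w hw a c
    have hw' : w * sg m w ≠ 0 := mul_ne_zero hw (sg_ne_zero hw)
    refine bracket_conj hc (D hs (Units.mk0 w hw)) (L_comm hs a 0 _) ?_ ?_
    · rw [D_conj, mul_zero, Units.val_mk0]
    · rw [D_conj, mul_zero, Units.val_mk0, mul_div_cancel₀ _ hw']
  obtain ⟨x, hx0, hx1, hx2⟩ := exists_good (F := F) (m := m) hm
  set c0 := 1 / ((x + 1) * sg m (x + 1)) - 1 / (x * sg m x) - 1 with hc0
  have h1 : ∀ c, B a (c / ((x + 1) * sg m (x + 1))) = B a (c / (x * sg m x) + c) := by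
    intro c
    rw [hr, ← key (x + 1) hx1, ← key x hx0, ← hl, add_mul, one_mul]
  have h2 := h1 (b / c0)
  rw [show b / c0 / ((x + 1) * sg m (x + 1)) = b / c0 * c0 + (b / c0 / (x * sg m x) + b / c0) by
    rw [hc0]; ring, div_mul_cancel₀ b hx2, hr] at h2
  exact mul_eq_right.1 h2

include hs hc in
theorem two_part [Finite Γ] (hm : 2 ≤ m) (hd : σ.ker ≤ commutator Γ) {z : Γ} (hz : σ z = 1)
    (ho : orderOf z = 2) : False := by
  classical
  have := charTwo (F := F) (m := m)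
  set U : Subgroup ↥(Cfsg.Sz F m) := unipotent
  have hzU : z ∈ (commutator (U.comap σ)).map (U.comap σ).subtype := by
    refine StemBasic.mem_commutator_of_index (by show σ z ∈ U; rw [hz]; exact U.one_mem)
      (hc hz) (hd hz) ?_
    rw [StemBasic.index_comap hs, ho, Nat.prime_two.coprime_iff_not_dvd]
    exact odd_index_unipotent
  set Zs : Subgroup Γ := (zHom : Multiplicative F →* ↥(Cfsg.Sz F m)).range.comap σ with hZs
  have hcomm : ∀ x y : Zs, x * y = y * x := by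
    rintro ⟨x, hx⟩ ⟨y, hy⟩
    obtain ⟨b, hb⟩ := hx
    obtain ⟨c, hc'⟩ := hy
    apply Subtype.ext
    show x * y = y * x
    rw [← commutatorElement_eq_one_iff_mul_comm,
      bracket_congr hc (a' := L hs 0 b.toAdd) (b' := L hs 0 c.toAdd) (by rw [← hb, L_spec]; rfl)
        (by rw [← hc', L_spec]; rfl)]
    exact zz_eq_one hs hc hm _ _
  let instCG : CommGroup Zs := { (inferInstance : Group Zs) with mul_comm := hcomm }
  have hmemZ : ∀ b : F, L hs 0 b ∈ Zs := fun b => ⟨Multiplicative.ofAdd b, (L_spec hs 0 b).symm⟩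
  have hconjZ : ∀ (k : Fˣ) (x : Γ), x ∈ Zs → D hs k * x * (D hs k)⁻¹ ∈ Zs := by
    rintro k x ⟨b, hb⟩
    refine ⟨Multiplicative.ofAdd ((k : F) * sg m (k : F) * b.toAdd), ?_⟩
    rw [MonoidHom.map_mul σ, MonoidHom.map_mul σ, MonoidHom.map_inv σ, D_spec, ← hb]
    show (Ts 0 _ : ↥(Cfsg.Sz F m)) = Hs k * Ts 0 b.toAdd * (Hs k)⁻¹
    rw [Hs_Ts, mul_zero]; rfl
  let cj : Fˣ → Zs →* Zs := fun k =>
    { toFun := fun x => ⟨D hs k * x * (D hs k)⁻¹, hconjZ k x x.2⟩
      map_one' := Subtype.ext (by simp)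
      map_mul' := fun x y => Subtype.ext (by simp) }
  let N : Zs →* Zs := ∏ k : Fˣ, cj k
  have hN : ∀ x, N x = ∏ k : Fˣ, cj k x := fun x => MonoidHom.finsetProd_apply _ _ _
  have hcjker : ∀ k (x : Zs), σ (x : Γ) = 1 → cj k x = x := fun k x hx => Subtype.ext (by
    show D hs k * x * (D hs k)⁻¹ = x
    rw [StemBasic.ker_comm hc hx, mul_inv_cancel_right])
  have hσN : ∀ x : Zs, σ (N x : Γ) = 1 := by
    intro x
    obtain ⟨b, hb⟩ := x.2
    have key : ∀ S : Finset Fˣ, σ ((∏ k ∈ S, cj k x : Zs) : Γ) =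
        Ts 0 (∑ k ∈ S, (k : F) * sg m (k : F) * b.toAdd) := by
      intro S
      induction S using Finset.induction with
      | empty => simp [Ts_zero]
      | insert k S hk ih =>
        rw [Finset.prod_insert hk, Finset.sum_insert hk, Subgroup.coe_mul, map_mul, ih]
        show σ (D hs k * x * (D hs k)⁻¹) * _ = _
        rw [map_mul, map_mul, map_inv, D_spec, ← hb]
        show Hs k * Ts 0 b.toAdd * (Hs k)⁻¹ * _ = _
        rw [Hs_Ts, mul_zero, Ts_zero_mul]
    rw [hN, key, ← Finset.sum_mul, sum_scale, zero_mul, Ts_zero]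
  have hcjcj : ∀ k l (x : Zs), cj k (cj l x) = cj (k * l) x := by
    intro k l x
    apply Subtype.ext
    show D hs k * (D hs l * x * (D hs l)⁻¹) * (D hs k)⁻¹ = D hs (k * l) * x * (D hs (k * l))⁻¹
    obtain ⟨w, hw, he⟩ := StemBasic.exists_ker_mul (σ := σ) (a := D hs k * D hs l) (b := D hs (k * l))
      (by rw [map_mul, D_spec, D_spec, D_spec, Hs_mul])
    have e1 : w * (x : Γ) * w⁻¹ = (x : Γ) := by
      rw [← StemBasic.ker_comm hc hw (x : Γ), mul_inv_cancel_right]
    calc D hs k * (D hs l * x * (D hs l)⁻¹) * (D hs k)⁻¹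
        = (D hs k * D hs l) * x * (D hs k * D hs l)⁻¹ := by simp only [mul_inv_rev, mul_assoc]
      _ = D hs (k * l) * (w * x * w⁻¹) * (D hs (k * l))⁻¹ := by
          rw [he]; simp only [mul_inv_rev, mul_assoc]
      _ = _ := by rw [e1]
  have hNinv : ∀ l x, N (cj l x) = N x := by
    intro l x
    rw [hN, hN]
    simp only [hcjcj]
    exact Equiv.prod_comp (Equiv.mulRight l) fun k => cj k x
  -- the commutator pairing
  let f : F → F → Zs := fun a c => ⟨⁅L hs a 0, L hs c 0⁆, by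
    refine ⟨Multiplicative.ofAdd (sg m a * c + sg m c * a), ?_⟩
    rw [map_commutatorElement, L_spec, L_spec, Ts_commutator]; rfl⟩
  have hsplit : ∀ a a' : F, σ (L hs (a + a') 0) = σ (L hs a 0 * L hs a' 0 * L hs 0 (sg m a * a')) := by
    intro a a'
    rw [map_mul, map_mul, L_spec, L_spec, L_spec, L_spec, Ts_mul, Ts_mul]
    simp [CharTwo.add_self_eq_zero]
  have haz : ∀ a b : F, Commute (L hs a 0) (L hs 0 b) := fun a b =>
    commutatorElement_eq_one_iff_mul_comm.1 (az_eq_one hs hc hm a b)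
  have hZcen : ∀ (x : Γ), x ∈ Zs → ∀ a b : F, Commute (L hs a b) x := by
    rintro x ⟨c, hc'⟩ a b
    refine commutatorElement_eq_one_iff_mul_comm.1 ?_
    rw [bracket_congr hc (a' := L hs a 0 * L hs 0 b) (b' := L hs 0 c.toAdd)
      (by rw [map_mul, L_spec, L_spec, L_spec, Ts_mul]; simp) (by rw [← hc', L_spec]; rfl),
      bracket_mul_left hc (L_comm hs 0 b _), zz_eq_one hs hc hm, az_eq_one hs hc hm, mul_one]
  have hfl : ∀ a a' c, f (a + a') c = f a c * f a' c := by
    intro a a' c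
    apply Subtype.ext
    show ⁅L hs (a + a') 0, L hs c 0⁆ = ⁅L hs a 0, L hs c 0⁆ * ⁅L hs a' 0, L hs c 0⁆
    rw [bracket_congr hc (hsplit a a') rfl]
    have h1 : L hs 0 (sg m a * a') * L hs c 0 * (L hs 0 (sg m a * a'))⁻¹ = L hs c 0 := by
      rw [← (haz c _).eq, mul_inv_cancel_right]
    have h2 : L hs a 0 * ⁅L hs a' 0, L hs c 0⁆ * (L hs a 0)⁻¹ = ⁅L hs a' 0, L hs c 0⁆ := by
      rw [(hZcen _ (f a' c).2 a 0).eq, mul_inv_cancel_right]
    have h3 : ⁅L hs a 0, L hs c 0⁆ * ⁅L hs a' 0, L hs c 0⁆ = ⁅L hs a' 0, L hs c 0⁆ * ⁅L hs a 0, L hs c 0⁆ :=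
      congrArg Subtype.val (hcomm (f a c) (f a' c))
    rw [h3]
    nth_rewrite 1 [← h2]
    calc ⁅L hs a 0 * L hs a' 0 * L hs 0 (sg m a * a'), L hs c 0⁆
        = L hs a 0 * L hs a' 0 * (L hs 0 (sg m a * a') * L hs c 0 * (L hs 0 (sg m a * a'))⁻¹) *
            (L hs a 0 * L hs a' 0)⁻¹ * (L hs c 0)⁻¹ := by simp only [commutatorElement_def]; group
      _ = _ := by rw [h1]; simp only [commutatorElement_def]; group
  have hfr : ∀ a c c', f a (c + c') = f a c * f a c' := by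
    intro a c c'
    have hinv : ∀ x y, f x y = (f y x)⁻¹ := fun x y =>
      Subtype.ext (by show ⁅L hs x 0, L hs y 0⁆ = ⁅L hs y 0, L hs x 0⁆⁻¹; rw [commutatorElement_inv])
    rw [hinv a (c + c'), hfl, mul_inv, ← hinv, ← hinv]
  have hNf : ∀ a c, N (f a c) = 1 := by
    have h8 := eight_le_card (F := F) (m := m)
    have h4 : Fintype.card F ≠ 4 := by omega
    have h9 : Fintype.card F ≠ 9 := by
      have h := natCard (F := F) (m := m)
      rw [Nat.card_eq_fintype_card] at h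
      rw [h]; intro h'
      have : 2 ∣ 9 := h' ▸ dvd_pow_self 2 (by omega)
      omega
    intro a c
    refine pairing_eq_one h4 h9 (fun a c => N (f a c)) ?_ ?_ ?_ ?_ a c
    · intro x x' y; show N _ = _; rw [hfl, map_mul]
    · intro x y y'; show N _ = _; rw [hfr, map_mul]
    · intro x
      show N (f x x) = 1
      rw [show f x x = 1 from Subtype.ext (commutatorElement_self _), map_one]
    · intro t ht x y
      show N (f (t ^ 2 * x) (t ^ 2 * y)) = N (f x y)
      rw [← hNinv (Units.mk0 (t ^ 2) (pow_ne_zero 2 ht)) (f x y)]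
      congr 1
      refine Subtype.ext ?_
      show ⁅_, _⁆ = _ * ⁅_, _⁆ * _
      rw [conjugate_commutatorElement]
      exact bracket_congr hc (by rw [D_conj, mul_zero, Units.val_mk0]) (by rw [D_conj, mul_zero, Units.val_mk0])
  obtain ⟨w, hw, rfl⟩ := hzU
  have hMle : commutator (U.comap σ) ≤ (N.ker.map Zs.subtype).comap (U.comap σ).subtype := by
    rw [_root_.commutator_def, Subgroup.commutator_le]
    intro g _ h _
    obtain ⟨a, b, hg⟩ := g.2
    obtain ⟨c, d, hh⟩ := h.2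
    refine ⟨f a c, hNf a c, ?_⟩
    show ⁅L hs a 0, L hs c 0⁆ = ⁅(g : Γ), (h : Γ)⁆
    rw [bracket_congr hc (a := (g : Γ)) (b := (h : Γ)) (a' := L hs a 0 * L hs 0 b) (b' := L hs c 0 * L hs 0 d)
      (by rw [hg, map_mul, L_spec, L_spec, Ts_mul]; simp) (by rw [hh, map_mul, L_spec, L_spec, Ts_mul]; simp)]
    have h1 : L hs 0 b * (L hs c 0 * L hs 0 d) * (L hs 0 b)⁻¹ = L hs c 0 * L hs 0 d := by
      have : Commute (L hs 0 b) (L hs c 0 * L hs 0 d) :=
        (haz c b).symm.mul_right (commutatorElement_eq_one_iff_mul_comm.1 (zz_eq_one hs hc hm b d))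
      rw [this.eq, mul_inv_cancel_right]
    have h2 : L hs 0 d * (L hs a 0)⁻¹ * (L hs 0 d)⁻¹ = (L hs a 0)⁻¹ := by
      rw [← ((haz a d).inv_left).eq, mul_inv_cancel_right]
    symm
    calc ⁅L hs a 0 * L hs 0 b, L hs c 0 * L hs 0 d⁆
        = L hs a 0 * (L hs 0 b * (L hs c 0 * L hs 0 d) * (L hs 0 b)⁻¹) * (L hs a 0)⁻¹ *
            ((L hs 0 d)⁻¹ * (L hs c 0)⁻¹) := by simp only [commutatorElement_def]; group
      _ = L hs a 0 * L hs c 0 * (L hs 0 d * (L hs a 0)⁻¹ * (L hs 0 d)⁻¹) * (L hs c 0)⁻¹ := by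
          rw [h1]; simp only [mul_assoc]
      _ = _ := by rw [h2, commutatorElement_def]
  obtain ⟨x, hx, hxe⟩ := hMle hw
  change (x : Γ) = (w : Γ) at hxe
  have hz' : σ (x : Γ) = 1 := by rw [hxe]; exact hz
  have hpow : x ^ (Fintype.card F - 1) = 1 := by
    have h1 := hN x
    rw [MonoidHom.mem_ker.1 hx, Finset.prod_congr rfl (fun k _ => hcjker k x hz'), Finset.prod_const,
      Finset.card_univ, Fintype.card_units] at h1
    exact h1.symm
  have hdvd : orderOf (x : Γ) ∣ Fintype.card F - 1 := by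
    refine orderOf_dvd_of_pow_eq_one ?_
    simpa using congrArg (fun y : Zs => (y : Γ)) hpow
  rw [hxe, show (w : Γ) = (U.comap σ).subtype w from rfl, ho] at hdvd
  have h := natCard (F := F) (m := m)
  rw [Nat.card_eq_fintype_card] at h
  have : 2 ∣ Fintype.card F := h ▸ dvd_pow_self 2 (by omega)
  have := eight_le_card (F := F) (m := m)
  omega

theorem ker_eq_bot {Γ : Type*} [Group Γ] [Finite Γ] {σ : Γ →* ↥(Cfsg.Sz F m)} (hm : 2 ≤ m)
    (hσ : Cfsg.IsStemExtension σ) : σ.ker = ⊥ := by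
  refine StemBasic.ker_eq_bot_of_primes fun ℓ hl z hz ho => ?_
  by_cases h2 : ℓ = 2
  · subst h2
    exact two_part hσ.1 hσ.2.1 hm hσ.2.2 hz ho
  · have : Fact ℓ.Prime := ⟨hl⟩
    let P : Sylow ℓ ↥(Cfsg.Sz F m) := default
    have hcyc := SuzukiGroupCentralizer.isCyclic_sylow_odd h2 P
    obtain ⟨g₀, hg₀⟩ := IsCyclic.exists_generator (α := (P : Subgroup ↥(Cfsg.Sz F m)))
    obtain ⟨g, hg⟩ : ∃ g, zpowers g = (P : Subgroup ↥(Cfsg.Sz F m)) := by
      refine ⟨g₀, le_antisymm (zpowers_le.2 g₀.2) fun x hx => ?_⟩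
      obtain ⟨k, hk⟩ := mem_zpowers_iff.1 (hg₀ ⟨x, hx⟩)
      exact mem_zpowers_iff.2 ⟨k, by simpa using congrArg Subtype.val hk⟩
    have hz1 : z = 1 := StemBasic.eq_one_of_kerFree hσ (StemBasic.kerFree_zpowers σ hσ.2.1 g) hz
      (by rw [ho, hl.coprime_iff_not_dvd, hg]; exact P.not_dvd_index)
    rw [hz1, orderOf_one] at ho
    exact hl.ne_one ho.symm

end

end Cfsg.Agent.StemSuzuki
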