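import Cfsg.Agent.Lib.StemSzEightData50
import Cfsg.Prelude.Def_KGroupFacts
import Mathlib

/-!
A stem extension of `Sz(8)` whose kernel is a four-group.
-/

set_option autoImplicit false
set_option maxRecDepth 4000
set_option maxHeartbeats 1000000
set_option backward.isDefEq.respectTransparency false

namespace Cfsg.Agent.StemSzEightCover50

open Subgroup Cfsg.Agent.SuzukiGroupBasic Cfsg.Agent.SuzukiGroupStructure
open Cfsg.Agent.StemSzEightData50
open Cfsg.Agent.SuzukiEightPG50 (F8)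
open scoped commutatorElement LinearAlgebra.Projectivization

universe u

/-- The units of the matrix ring. -/
abbrev U8 : Type := M8ˣ

theorem toM_id : (⟨id, fun _ => false⟩ : Mono).toM = 1 := by
  ext i j
  simp [Mono.toM, Matrix.one_apply, sv]

theorem sv_smul (t : Bool) (M : M8) : sv t • M = if t then -M else M := by
  cases t
  · simp [sv]
  · rw [show sv true = (-1 : ZMod 5) from rfl, neg_one_smul]; simp

/-- The scalar sign. -/
def epsU (t : Bool) : U8 := if t then -1 else 1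

theorem coe_epsU_mul (t : Bool) (M : M8) : ((epsU t : U8) : M8) * M = sv t • M := by
  rw [sv_smul]
  cases t <;> simp [epsU]

theorem isUnit_monA (u : UP) : IsUnit (monA u).toM := by
  obtain ⟨v, t, h1, h2⟩ := monA_inverse u
  refine ⟨⟨(monA u).toM, ((monA v).flip t).toM, ?_, ?_⟩, rfl⟩
  · rw [← Mono.toM_comp, h1.eq, toM_id]
  · rw [← Mono.toM_comp, h2.eq, toM_id]

/-- A unipotent element. -/
noncomputable def uA (u : UP) : U8 := (isUnit_monA u).unit

theorem coe_uA (u : UP) : ((uA u : U8) : M8) = (monA u).toM := rfl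

/-- Negation of torus exponents. -/
def negk (k : Fin 7) : Fin 7 := ⟨(7 - k.val) % 7, Nat.mod_lt _ (by norm_num)⟩

theorem add_negk : ∀ k : Fin 7, k + negk k = 0 ∧ negk k + k = 0 := by decide +kernel

theorem sqK_negk : ∀ k : Fin 7, sqK (negk k) = negk (sqK k) ∧ sqK 0 = 0 := by decide +kernel

theorem sqK_add : ∀ k l : Fin 7, sqK (k + l) = sqK k + sqK l := by decide +kernel

theorem tact_negk : ∀ (k : Fin 7) (u : UP), tact k (tact (negk k) u) = u := by decide +kernel

theorem um_inv : ∀ u : UP, ∃ v, um u v = (0, 0) := by decide +kernel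

theorem sqU_zero : sqU (0, 0) = (0, 0) := by decide +kernel

/-- A torus element. -/
def uD (k : Fin 7) : U8 where
  val := (monD k).toM
  inv := (monD (negk k)).toM
  val_inv := by rw [← Mono.toM_comp, (monD_mul _ _).eq, (add_negk k).1, monD_zero.eq, toM_id]
  inv_val := by rw [← Mono.toM_comp, (monD_mul _ _).eq, (add_negk k).2, monD_zero.eq, toM_id]

/-- The involution. -/
def uW : U8 where
  val := Wm
  inv := Wm
  val_inv := Wm_sq
  inv_val := Wm_sq

theorem uA_zero : uA (0, 0) = 1 := Units.ext (by rw [coe_uA, monA_zero.eq, toM_id, Units.val_one])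

theorem uA_mul (u v : UP) : ∃ t, uA u * uA v = epsU t * uA (um u v) := by
  obtain ⟨t, ht⟩ := monA_mul u v
  refine ⟨t, Units.ext ?_⟩
  rw [Units.val_mul, Units.val_mul, coe_epsU_mul, coe_uA, coe_uA, coe_uA, ← Mono.toM_comp, ht.eq,
    Mono.toM_flip]

theorem uD_mul (k l : Fin 7) : uD k * uD l = uD (k + l) := Units.ext (by
  show (monD k).toM * (monD l).toM = (monD (k + l)).toM
  rw [← Mono.toM_comp, (monD_mul k l).eq])

theorem uD_uA (k : Fin 7) (u : UP) : ∃ t, uD k * uA u = epsU t * (uA (tact k u) * uD k) := by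
  obtain ⟨t, ht⟩ := monD_monA k u
  refine ⟨t, Units.ext ?_⟩
  rw [Units.val_mul, Units.val_mul, coe_epsU_mul, Units.val_mul, coe_uA, coe_uA]
  show (monD k).toM * _ = sv t • (_ * (monD k).toM)
  rw [← Mono.toM_comp, ht.eq, Mono.toM_flip, Mono.toM_comp]

theorem uW_mul_uW : uW * uW = 1 := Units.ext Wm_sq

theorem surj_of_inj {p : Fin 8 → Fin 8} (h : Function.Injective p) (i : Fin 8) : ∃ x, p x = i :=
  (Finite.injective_iff_surjective.1 h) i

theorem uW_uD (k : Fin 7) : uW * uD k = uD (negk k) * uW := by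
  apply Units.ext
  show Wm * (monD k).toM = (monD (negk k)).toM * Wm
  have hinj : Function.Injective (monD (negk k)).p := fun i j h => monD_inj _ i j h
  ext i j
  obtain ⟨x, rfl⟩ := surj_of_inj hinj i
  rw [Mono.mul_apply _ hinj, Mono.apply_mul]
  simp only [Wm, Matrix.of_apply]
  rw [show (monD k).s j = false from rfl, show (monD (negk k)).s x = false from rfl]
  have h := wn_monD k x j
  simp only [negk] at *
  rw [h, mul_comm]

theorem uW_uA_uW (u : UP) (hu : u ≠ (0, 0)) :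
    ∃ t, uW * uA u * uW = epsU t * (uA (decL u) * uD (decK u) * uW * uA (decR u)) := by
  obtain ⟨t, ht⟩ := (wn_monA u).resolve_left (by
    rintro ⟨h1, h2⟩
    exact hu (Prod.ext (congrArg SuzukiEightPG50.F8.mk (Fin.ext h1))
      (congrArg SuzukiEightPG50.F8.mk (Fin.ext h2))))
  refine ⟨t, Units.ext ?_⟩
  set X := (monA (decL u)).comp (monD (decK u)) with hX
  set Y := monA (decR u) with hY
  have e1 : ((epsU t * (uA (decL u) * uD (decK u) * uW * uA (decR u)) : U8) : M8) =
      sv t • (X.toM * (Wm * Y.toM)) := by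
    rw [Units.val_mul, coe_epsU_mul, hX, Mono.toM_comp]
    simp only [Units.val_mul, mul_assoc]
    rfl
  rw [e1]
  show Wm * (monA u).toM * Wm = _
  have hinj : Function.Injective X.p := fun i j h => monD_inj _ i j (monA_inj _ _ _ h)
  ext i j
  obtain ⟨x, rfl⟩ := surj_of_inj hinj i
  rw [Matrix.smul_apply, Mono.mul_apply X hinj, Mono.apply_mul, Matrix.mul_apply]
  simp only [Mono.apply_mul, Wm, Matrix.of_apply, ← cast_svn, smul_eq_mul, ← Nat.cast_mul]
  rw [← cast_s8 fun y => wn (X.p x) ((monA u).p y) * svn ((monA u).s y) * wn y j,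
    ZMod.natCast_eq_natCast_iff']
  rw [ht x j]
  ring_nf

/-- The sign homomorphism. -/
def epsHom : Multiplicative (ZMod 2) →* U8 where
  toFun x := epsU (decide (x.toAdd = 1))
  map_one' := by simp [epsU]
  map_mul' := by
    intro x y
    obtain ⟨x, rfl⟩ := Multiplicative.ofAdd.surjective x
    obtain ⟨y, rfl⟩ := Multiplicative.ofAdd.surjective y
    fin_cases x <;> fin_cases y <;> simp [epsU] <;> decide

theorem epsU_central (t : Bool) (M : U8) : Commute (epsU t) M := by
  cases t <;> simp [epsU, Commute, SemiconjBy]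

theorem epsU_eq_epsHom : ∀ t : Bool,
    epsU t = epsHom (Multiplicative.ofAdd (if t then 1 else 0)) := by
  intro t; cases t <;> rfl

theorem epsU_injective : Function.Injective epsU := by
  intro a b h
  have h' := congrArg (fun z : U8 => (z : M8) 0 0) h
  cases a <;> cases b <;> first | rfl | (simp [epsU] at h'; exact absurd h' (by decide))

variable {F : Type u} [Field F] [Param F 1] (e : F8 ≃+* F)

/-- The ambient product. -/
abbrev X (F : Type*) [Field F] [Param F 1] : Type _ := ↥(Cfsg.Sz F 1) × (U8 × U8)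

/-- The scalar part. -/
def epsX : Multiplicative (ZMod 2 × ZMod 2) →* X F :=
  MonoidHom.prod 1 (MonoidHom.prod
    (epsHom.comp (AddMonoidHom.toMultiplicative (AddMonoidHom.fst (ZMod 2) (ZMod 2))))
    (epsHom.comp (AddMonoidHom.toMultiplicative (AddMonoidHom.snd (ZMod 2) (ZMod 2)))))

theorem mem_epsX (t₁ t₂ : Bool) : ((1, (epsU t₁, epsU t₂)) : X F) ∈ (epsX (F := F)).range := by
  refine ⟨Multiplicative.ofAdd (if t₁ then 1 else 0, if t₂ then 1 else 0), ?_⟩
  rw [epsU_eq_epsHom, epsU_eq_epsHom]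
  rfl

instance : ((epsX (F := F)).range).Normal := ⟨by
  rintro _ ⟨a, rfl⟩ g
  refine ⟨a, ?_⟩
  rw [eq_mul_inv_iff_mul_eq]
  refine Prod.ext ?_ (Prod.ext ?_ ?_)
  · simp [epsX]
  · exact epsU_central _ _
  · exact epsU_central _ _⟩

/-- Torus parameters. -/
def kap (k : Fin 7) : Fˣ := Units.mk0 (e (g8 k)) ((map_ne_zero e).2 (g8_ne_zero k))

theorem kap_mul (k l : Fin 7) : kap e (k + l) = kap e k * kap e l :=
  Units.ext (by simp [kap, g8_mul])

/-- Lift of a unipotent element. -/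
noncomputable def PA (u : UP) : X F := (Ts (e u.1) (e u.2), (uA u, uA (sqU u)))

/-- Lift of a torus element. -/
def PD (k : Fin 7) : X F := (Hs (kap e k), (uD k, uD (sqK k)))

/-- Lift of the involution. -/
def PW : X F := (Ws, (uW, uW))

theorem pi_eq {x y : X F} (h : x.1 = y.1) {t₁ t₂ : Bool} (h₁ : x.2.1 = epsU t₁ * y.2.1)
    (h₂ : x.2.2 = epsU t₂ * y.2.2) :
    (QuotientGroup.mk x : X F ⧸ (epsX (F := F)).range) = QuotientGroup.mk y := by
  rw [show x = ((1, (epsU t₁, epsU t₂)) : X F) * y from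
    Prod.ext (by simp [h]) (Prod.ext h₁ h₂), QuotientGroup.mk_mul,
    (QuotientGroup.eq_one_iff _).2 (mem_epsX t₁ t₂), one_mul]

theorem sg_eq (x : F) : sg 1 x = x ^ 4 := by rw [sg]; norm_num

theorem Ts_um (u v : UP) :
    (Ts (e u.1) (e u.2) : ↥(Cfsg.Sz F 1)) * Ts (e v.1) (e v.2) =
      Ts (e (um u v).1) (e (um u v).2) := by
  rw [Ts_mul, sg_eq]
  simp only [um, fm_eq, fa_eq, fq_eq, map_add, map_mul, map_pow]

theorem Tm_map (a b : F8) : (Tm 1 a b).map e = Tm 1 (e a) (e b) := by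
  ext i j
  fin_cases i <;> fin_cases j <;> simp [Tm, ff, sg]

theorem Hm_map (k : F8) : (Hm 1 k).map e = Hm 1 (e k) := by
  ext i j
  fin_cases i <;> fin_cases j <;> simp [Hm, tg, Matrix.diagonal, map_inv₀]

theorem form_map : (suzukiForm F8).map e = suzukiForm F := by
  ext i j
  fin_cases i <;> fin_cases j <;> simp [suzukiForm]

theorem sz_dec (u : UP) (hu : u ≠ (0, 0)) :
    (Ws : ↥(Cfsg.Sz F 1)) * Ts (e u.1) (e u.2) * Ws =
      Ts (e (decL u).1) (e (decL u).2) * Hs (kap e (decK u)) * Ws *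
        Ts (e (decR u).1) (e (decR u).2) := by
  have h := congrArg (fun M : Matrix (Fin 4) (Fin 4) F8 => M.map e) ((dec_sz u).resolve_left hu)
  simp only [Matrix.map_mul, Tm_map, Hm_map, form_map] at h
  apply Subtype.ext
  apply sl_ext
  simpa [Ts, Hs, Ws, T, H, W, kap, Matrix.SpecialLinearGroup.coe_mul] using h

section Relations

local notation "Q" => (X F ⧸ MonoidHom.range (epsX (F := F)))

/-- Image of a unipotent element. -/
noncomputable def qA (u : UP) : Q := QuotientGroup.mk (PA e u)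

/-- Image of a torus element. -/
def qD (k : Fin 7) : Q := QuotientGroup.mk (PD e k)

/-- Image of the involution. -/
def qW : Q := QuotientGroup.mk (PW (F := F))

theorem qA_zero : qA e (0, 0) = 1 := by
  rw [qA, show PA e (0, 0) = 1 from ?_]
  · rfl
  · refine Prod.ext ?_ (Prod.ext uA_zero (by show uA (sqU _) = 1; rw [sqU_zero, uA_zero]))
    show Ts (e 0) (e 0) = 1
    rw [map_zero, Ts_zero]

theorem qA_mul (u v : UP) : qA e u * qA e v = qA e (um u v) := by
  obtain ⟨t₁, h₁⟩ := uA_mul u v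
  obtain ⟨t₂, h₂⟩ := uA_mul (sqU u) (sqU v)
  rw [← um_sq] at h₂
  rw [qA, qA, qA, ← QuotientGroup.mk_mul]
  exact pi_eq (Ts_um e u v) h₁ h₂

theorem qD_mul (k l : Fin 7) : qD e k * qD e l = qD e (k + l) := by
  rw [qD, qD, qD, ← QuotientGroup.mk_mul]
  congr 1
  refine Prod.ext ?_ (Prod.ext (uD_mul k l) ?_)
  · show Hs (kap e k) * Hs (kap e l) = Hs (kap e (k + l))
    rw [Hs_mul, kap_mul]
  · show uD (sqK k) * uD (sqK l) = uD (sqK (k + l))
    rw [uD_mul, sqK_add]

theorem qD_zero : qD e 0 = 1 := by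
  have h := qD_mul e 0 0
  rw [add_zero] at h
  exact mul_eq_left.1 h

theorem qD_qA (k : Fin 7) (u : UP) : qD e k * qA e u = qA e (tact k u) * qD e k := by
  obtain ⟨t₁, h₁⟩ := uD_uA k u
  obtain ⟨t₂, h₂⟩ := uD_uA (sqK k) (sqU u)
  rw [← tact_sq] at h₂
  rw [qD, qA, qA, ← QuotientGroup.mk_mul, ← QuotientGroup.mk_mul]
  refine pi_eq ?_ h₁ h₂
  show Hs (kap e k) * Ts (e u.1) (e u.2) = Ts _ _ * Hs (kap e k)
  rw [← mul_inv_eq_iff_eq_mul, Hs_Ts, sg_eq]
  simp only [tact, kap, Units.val_mk0, fm_eq, fq_eq, map_mul, map_pow]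

theorem qA_qD (u : UP) (k : Fin 7) : qA e u * qD e k = qD e k * qA e (tact (negk k) u) := by
  rw [qD_qA, tact_negk]

theorem qW_qW : qW (F := F) * qW = 1 := by
  rw [qW, ← QuotientGroup.mk_mul, show PW (F := F) * PW = 1 from
    Prod.ext Ws_mul_Ws (Prod.ext uW_mul_uW uW_mul_uW)]
  rfl

theorem qW_qD (k : Fin 7) : qW * qD e k = qD e (negk k) * qW := by
  rw [qW, qD, qD, ← QuotientGroup.mk_mul, ← QuotientGroup.mk_mul]
  congr 1
  refine Prod.ext ?_ (Prod.ext (uW_uD k) ?_)
  · show Ws * Hs (kap e k) = Hs (kap e (negk k)) * Ws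
    rw [← mul_inv_eq_iff_eq_mul, Ws_Hs]
    congr 1
    rw [inv_eq_iff_mul_eq_one, ← kap_mul, (add_negk k).1]
    apply Units.ext
    show e (g8 0) = 1
    exact map_one e
  · show uW * uD (sqK k) = uD (sqK (negk k)) * uW
    rw [(sqK_negk k).1, uW_uD]

theorem qW_qA_qW (u : UP) (hu : u ≠ (0, 0)) :
    qW * qA e u * qW = qA e (decL u) * qD e (decK u) * qW * qA e (decR u) := by
  obtain ⟨t₁, h₁⟩ := uW_uA_uW u hu
  obtain ⟨t₂, h₂⟩ := uW_uA_uW (sqU u) fun h => hu (sqU_eq_zero u h)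
  rw [(dec_sq u).1, (dec_sq u).2.1, (dec_sq u).2.2] at h₂
  simp only [qW, qA, qD, ← QuotientGroup.mk_mul]
  exact pi_eq (sz_dec e u hu) h₁ h₂

/-- Normal forms. -/
def Good (q : Q) : Prop :=
  (∃ u k, q = qA e u * qD e k) ∨ ∃ u k v, q = qA e u * qD e k * qW * qA e v

theorem good_qA {q : Q} (h : Good e q) (v : UP) : Good e (q * qA e v) := by
  rcases h with ⟨u, k, rfl⟩ | ⟨u, k, w, rfl⟩
  · exact Or.inl ⟨um u (tact k v), k, by rw [mul_assoc, qD_qA, ← mul_assoc, qA_mul]⟩
  · exact Or.inr ⟨u, k, um w v, by rw [mul_assoc _ (qA e w), qA_mul]⟩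

theorem good_qD {q : Q} (h : Good e q) (l : Fin 7) : Good e (q * qD e l) := by
  rcases h with ⟨u, k, rfl⟩ | ⟨u, k, w, rfl⟩
  · exact Or.inl ⟨u, k + l, by rw [mul_assoc, qD_mul]⟩
  · refine Or.inr ⟨u, k + negk l, tact (negk l) w, ?_⟩
    calc qA e u * qD e k * qW * qA e w * qD e l
        = qA e u * qD e k * (qW * qD e l) * qA e (tact (negk l) w) := by
          simp only [mul_assoc]
          rw [qA_qD e w l]
      _ = qA e u * (qD e k * qD e (negk l)) * qW * qA e (tact (negk l) w) := by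
          rw [qW_qD]; simp only [mul_assoc]
      _ = _ := by rw [qD_mul]

theorem good_qW {q : Q} (h : Good e q) : Good e (q * qW) := by
  rcases h with ⟨u, k, rfl⟩ | ⟨u, k, w, rfl⟩
  · exact Or.inr ⟨u, k, (0, 0), by rw [qA_zero, mul_one]⟩
  · by_cases hw : w = (0, 0)
    · subst hw
      exact Or.inl ⟨u, k, by rw [qA_zero, mul_one, mul_assoc, qW_qW, mul_one]⟩
    · refine Or.inr ⟨um u (tact k (decL w)), k + decK w, decR w, ?_⟩
      calc qA e u * qD e k * qW * qA e w * qW
          = qA e u * qD e k * (qW * qA e w * qW) := by simp only [mul_assoc]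
        _ = qA e u * (qD e k * qA e (decL w)) * qD e (decK w) * qW * qA e (decR w) := by
            rw [qW_qA_qW e w hw]; simp only [mul_assoc]
        _ = (qA e u * qA e (tact k (decL w))) * (qD e k * qD e (decK w)) * qW * qA e (decR w) := by
            rw [qD_qA]; simp only [mul_assoc]
        _ = _ := by rw [qA_mul, qD_mul]

end Relations

/-- The generators. -/
def gens : Set (X F) := Set.range (PA e) ∪ Set.range (PD e) ∪ {PW}

/-- The cover. -/
abbrev Cov : Type _ := ↥(Subgroup.closure (gens e))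

theorem good_of_mem {x : X F} (hx : x ∈ Subgroup.closure (gens e)) : Good e (QuotientGroup.mk x) := by
  induction hx using Subgroup.closure_induction_right with
  | one => exact Or.inl ⟨(0, 0), 0, by rw [qA_zero, qD_zero, mul_one]; rfl⟩
  | mul_right x hx y hy ih =>
    rw [QuotientGroup.mk_mul]
    rcases hy with (⟨u, rfl⟩ | ⟨k, rfl⟩) | rfl
    · exact good_qA e ih u
    · exact good_qD e ih k
    · exact good_qW e ih
  | mul_inv_cancel x hx y hy ih =>
    rw [QuotientGroup.mk_mul, QuotientGroup.mk_inv]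
    rcases hy with (⟨u, rfl⟩ | ⟨k, rfl⟩) | rfl
    · obtain ⟨v, hv⟩ := um_inv u
      have : qA e u * qA e v = 1 := by rw [qA_mul, hv, qA_zero]
      rw [show (QuotientGroup.mk (PA e u) : X F ⧸ _)⁻¹ = qA e v from inv_eq_of_mul_eq_one_right this]
      exact good_qA e ih v
    · have : qD e k * qD e (negk k) = 1 := by rw [qD_mul, (add_negk k).1, qD_zero]
      rw [show (QuotientGroup.mk (PD e k) : X F ⧸ _)⁻¹ = qD e (negk k) from
        inv_eq_of_mul_eq_one_right this]
      exact good_qD e ih _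
    · rw [show (QuotientGroup.mk (PW (F := F)) : X F ⧸ _)⁻¹ = qW from
        inv_eq_of_mul_eq_one_right qW_qW]
      exact good_qW e ih

/-- The projection. -/
def proj : Cov e →* ↥(Cfsg.Sz F 1) := (MonoidHom.fst _ _).comp (Subgroup.subtype _)

theorem mem_range_of_fst {x : X F} (hx : x ∈ Subgroup.closure (gens e)) (h1 : x.1 = 1) :
    x ∈ (epsX (F := F)).range := by
  let f : (X F ⧸ (epsX (F := F)).range) →* ↥(Cfsg.Sz F 1) :=
    QuotientGroup.lift _ (MonoidHom.fst _ _) (by rintro _ ⟨a, rfl⟩; rfl)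
  have hf : f (QuotientGroup.mk x) = 1 := h1
  rcases good_of_mem e hx with ⟨u, k, hq⟩ | ⟨u, k, v, hq⟩
  · rw [hq, map_mul] at hf
    have hf' : (Ts (e u.1) (e u.2) : ↥(Cfsg.Sz F 1)) * Hs (kap e k) = Ts 0 0 * Hs 1 := by
      rw [Ts_zero, Hs_one, one_mul]; exact hf
    obtain ⟨h1', h2', h3'⟩ := Ts_Hs_injective hf'
    rw [map_eq_zero] at h1' h2'
    have hu : u = (0, 0) := Prod.ext h1' h2'
    have hk : k = 0 := by
      refine g8_inj k (e.injective ?_)
      rw [map_one]
      exact congrArg Units.val h3'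
    rw [hu, hk, qA_zero, qD_zero, mul_one] at hq
    exact (QuotientGroup.eq_one_iff x).1 hq
  · exfalso
    rw [hq, map_mul, map_mul, map_mul] at hf
    have h := congrArg (fun g : ↥(Cfsg.Sz F 1) => g • suzukiPointInfinity F) hf
    change ((Ts (e u.1) (e u.2) : ↥(Cfsg.Sz F 1)) * Hs (kap e k) * Ws * Ts (e v.1) (e v.2)) •
      suzukiPointInfinity F = (1 : ↥(Cfsg.Sz F 1)) • suzukiPointInfinity F at h
    rw [one_smul, mul_smul, Ts_smul_inf, mul_smul, Ws_smul_inf, mul_smul, Hs_smul_zero,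
      Ts_smul_zero] at h
    exact pt_ne_inf _ _ h

theorem proj_surjective : Function.Surjective (proj e) := by
  rw [← MonoidHom.range_eq_top, eq_top_iff]
  have hmem : ∀ x ∈ gens e, x.1 ∈ (proj e).range := fun x hx =>
    ⟨⟨x, Subgroup.subset_closure hx⟩, rfl⟩
  have hT : ∀ a b : F, (Ts a b : ↥(Cfsg.Sz F 1)) ∈ (proj e).range := fun a b => by
    have := hmem (PA e (e.symm a, e.symm b)) (Or.inl (Or.inl ⟨_, rfl⟩))
    simpa [PA] using this
  have hH : ∀ k : Fˣ, (Hs k : ↥(Cfsg.Sz F 1)) ∈ (proj e).range := fun k => by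
    rcases g8_surj (e.symm k) with h | ⟨l, hl⟩
    · exact absurd ((map_eq_zero _).1 h) k.ne_zero
    · have hk : kap e l = k := Units.ext (by simp [kap, hl])
      have := hmem (PD e l) (Or.inl (Or.inr ⟨l, rfl⟩))
      rw [← hk]
      exact this
  have hW : (Ws : ↥(Cfsg.Sz F 1)) ∈ (proj e).range := hmem PW (Or.inr rfl)
  have hB : ∀ h : ↥(Cfsg.Sz F 1), h • suzukiPointInfinity F = suzukiPointInfinity F →
      h ∈ (proj e).range := fun h hh => by
    obtain ⟨a, b, k, rfl⟩ := fix_inf_iff.1 hh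
    exact mul_mem (hT a b) (hH k)
  intro g _
  rcases bruhat g with hg | ⟨a, b, h, hh, rfl⟩
  · exact hB g hg
  · exact mul_mem (mul_mem (hT a b) hW) (hB h hh)

theorem eps_mem_commutator (t₁ t₂ : Bool) : ∃ c : Cov e,
    c ∈ commutator (Cov e) ∧ (c : X F) = (1, (epsU t₁, epsU t₂)) := by
  obtain ⟨b, h₁, h₂⟩ := comm_gen t₁ t₂
  let x : Cov e := ⟨PA e (1, 0), Subgroup.subset_closure (Or.inl (Or.inl ⟨_, rfl⟩))⟩
  let y : Cov e := ⟨PA e (0, b), Subgroup.subset_closure (Or.inl (Or.inl ⟨_, rfl⟩))⟩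
  have key : PA e (1, 0) * PA e (0, b) =
      ((1, (epsU t₁, epsU t₂)) : X F) * (PA e (0, b) * PA e (1, 0)) := by
    refine Prod.ext ?_ (Prod.ext ?_ ?_)
    · show (Ts (e 1) (e 0) : ↥(Cfsg.Sz F 1)) * Ts (e 0) (e b) =
        1 * (Ts (e 0) (e b) * Ts (e 1) (e 0))
      rw [one_mul, Ts_mul, Ts_mul]
      simp [add_comm]
    · apply Units.ext
      show ((uA (1, 0) * uA (0, b) : U8) : M8) = ((epsU t₁ * (uA (0, b) * uA (1, 0)) : U8) : M8)
      rw [Units.val_mul, Units.val_mul, coe_epsU_mul, Units.val_mul, coe_uA, coe_uA,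
        ← Mono.toM_comp, h₁.eq, Mono.toM_flip, Mono.toM_comp]
    · apply Units.ext
      show ((uA (sqU (1, 0)) * uA (sqU (0, b)) : U8) : M8) =
        ((epsU t₂ * (uA (sqU (0, b)) * uA (sqU (1, 0))) : U8) : M8)
      rw [Units.val_mul, Units.val_mul, coe_epsU_mul, Units.val_mul, coe_uA, coe_uA,
        ← Mono.toM_comp, h₂.eq, Mono.toM_flip, Mono.toM_comp]
  refine ⟨⁅x, y⁆, Subgroup.commutator_mem_commutator (mem_top _) (mem_top _), ?_⟩
  show PA e (1, 0) * PA e (0, b) * (PA e (1, 0))⁻¹ * (PA e (0, b))⁻¹ = _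
  rw [key]
  group

include e in
theorem exists_cover : ∃ (Γ : Type u) (_ : Group Γ) (_ : Finite Γ) (σ : Γ →* ↥(Cfsg.Sz F 1)),
    Cfsg.IsStemExtension σ ∧ Nonempty (σ.ker ≃* Multiplicative (ZMod 2 × ZMod 2)) := by
  have hmem : ∀ a, ∃ c : Cov e, c ∈ commutator (Cov e) ∧ (c : X F) = epsX a := by
    intro a
    obtain ⟨⟨i, j⟩, rfl⟩ := Multiplicative.ofAdd.surjective a
    obtain ⟨c, hc, he⟩ := eps_mem_commutator e (decide (i = 1)) (decide (j = 1))
    exact ⟨c, hc, he⟩
  choose C hC hCe using hmem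
  have hCker : ∀ a, C a ∈ (proj e).ker := fun a => by
    show ((C a : X F)).1 = 1
    rw [hCe]; rfl
  have hker : ∀ c : Cov e, c ∈ (proj e).ker → ∃ a, C a = c := fun c hc => by
    obtain ⟨a, ha⟩ := mem_range_of_fst e c.2 hc
    exact ⟨a, Subtype.ext ((hCe a).trans ha)⟩
  let f : Multiplicative (ZMod 2 × ZMod 2) →* (proj e).ker :=
    MonoidHom.mk' (fun a => ⟨C a, hCker a⟩) fun a b => Subtype.ext (Subtype.ext (by
      show (C (a * b) : X F) = (C a : X F) * (C b : X F)
      rw [hCe, hCe, hCe, map_mul]))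
  have hf : Function.Bijective f := by
    refine ⟨fun a b h => ?_, fun c => ?_⟩
    · have h' : epsX (F := F) a = epsX b := by
        rw [← hCe, ← hCe]; exact congrArg (fun z : (proj e).ker => ((z : Cov e) : X F)) h
      obtain ⟨⟨i, j⟩, rfl⟩ := Multiplicative.ofAdd.surjective a
      obtain ⟨⟨k, l⟩, rfl⟩ := Multiplicative.ofAdd.surjective b
      have h1 : decide (i = 1) = decide (k = 1) := epsU_injective (congrArg (fun z => z.2.1) h')
      have h2 : decide (j = 1) = decide (l = 1) := epsU_injective (congrArg (fun z => z.2.2) h')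
      revert h1 h2
      fin_cases i <;> fin_cases j <;> fin_cases k <;> fin_cases l <;> simp
    · obtain ⟨a, ha⟩ := hker c c.2
      exact ⟨a, Subtype.ext ha⟩
  refine ⟨Cov e, inferInstance, inferInstance, proj e, ⟨proj_surjective e, fun c hc => ?_,
    fun c hc => ?_⟩, ⟨(MulEquiv.ofBijective f hf).symm⟩⟩
  · obtain ⟨a, ha⟩ := mem_range_of_fst e c.2 hc
    refine mem_center_iff.2 fun g => Subtype.ext ?_
    show (g : X F) * (c : X F) = (c : X F) * (g : X F)
    rw [← ha]
    refine Prod.ext ?_ (Prod.ext ?_ ?_)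
    · simp [epsX]
    · exact (epsU_central _ _).symm.eq
    · exact (epsU_central _ _).symm.eq
  · obtain ⟨a, rfl⟩ := hker c hc
    exact hC a

end Cfsg.Agent.StemSzEightCover50
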