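import Cfsg.Agent.Lib.SuzukiEightPG50
import Mathlib

/-!
An eight-dimensional projective representation of `Sz(8)` over the field with five elements:
tables and their kernel-checked relations.
-/

set_option autoImplicit false
set_option maxRecDepth 4000

namespace Cfsg.Agent.StemSzEightData50

open Cfsg.Agent.SuzukiGroupBasic
open Cfsg.Agent.SuzukiEightPG50 (F8 ofCode mulNat)

/-- Square matrices of size eight over `ZMod 5`. -/
abbrev M8 : Type := Matrix (Fin 8) (Fin 8) (ZMod 5)

/-- A signed map of the eight coordinates. -/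
structure Mono where
  /-- target of a coordinate -/
  p : Fin 8 → Fin 8
  /-- sign of a coordinate -/
  s : Fin 8 → Bool

/-- The value of a sign. -/
def sv (b : Bool) : ZMod 5 := if b then 4 else 1

/-- The matrix of a signed map. -/
def Mono.toM (X : Mono) : M8 := Matrix.of fun i j => if i = X.p j then sv (X.s j) else 0

/-- Composition. -/
def Mono.comp (X Y : Mono) : Mono := ⟨fun j => X.p (Y.p j), fun j => xor (X.s (Y.p j)) (Y.s j)⟩

/-- Sign change. -/
def Mono.flip (t : Bool) (X : Mono) : Mono := ⟨X.p, fun j => xor t (X.s j)⟩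

/-- Pointwise equality. -/
def Mono.Same (X Y : Mono) : Prop := (∀ j, X.p j = Y.p j) ∧ ∀ j, X.s j = Y.s j

instance (X Y : Mono) : Decidable (X.Same Y) := instDecidableAnd

theorem Mono.Same.eq {X Y : Mono} (h : X.Same Y) : X = Y := by
  cases X; cases Y
  simp only [Mono.Same] at h
  rw [Mono.mk.injEq]
  exact ⟨funext h.1, funext h.2⟩

theorem sv_mul : ∀ a b : Bool, sv a * sv b = sv (xor a b) := by decide +kernel

theorem Mono.toM_comp (X Y : Mono) : (X.comp Y).toM = X.toM * Y.toM := by
  ext i j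
  rw [Matrix.mul_apply, Finset.sum_eq_single (Y.p j)]
  · simp only [Mono.toM, Mono.comp, Matrix.of_apply, if_true, ite_mul, zero_mul, sv_mul]
    split_ifs <;> simp_all
  · intro k _ hk
    simp [Mono.toM, hk]
  · intro h; exact absurd (Finset.mem_univ _) h

theorem Mono.toM_flip (t : Bool) (X : Mono) : (X.flip t).toM = sv t • X.toM := by
  ext i j
  simp only [Mono.toM, Mono.flip, Matrix.of_apply, Matrix.smul_apply, smul_eq_mul, ← sv_mul,
    mul_ite, mul_zero]

theorem Mono.mul_apply (X : Mono) (hX : Function.Injective X.p) (Z : M8) (k j : Fin 8) :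
    (X.toM * Z) (X.p k) j = sv (X.s k) * Z k j := by
  rw [Matrix.mul_apply, Finset.sum_eq_single k]
  · simp [Mono.toM]
  · intro l _ hl
    rw [show X.toM (X.p k) l = 0 from if_neg fun h => hl (hX h).symm, zero_mul]
  · intro h; exact absurd (Finset.mem_univ _) h

theorem Mono.apply_mul (Z : M8) (Y : Mono) (i j : Fin 8) :
    (Z * Y.toM) i j = Z i (Y.p j) * sv (Y.s j) := by
  rw [Matrix.mul_apply, Finset.sum_eq_single (Y.p j)]
  · simp [Mono.toM]
  · intro l _ hl
    simp [Mono.toM, hl]
  · intro h; exact absurd (Finset.mem_univ _) h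

/-- The index of a field element. -/
def fld (i : Fin 8) : F8 := ⟨i⟩

/-- Multiplication on codes. -/
def fm (a b : F8) : F8 := ofCode (mulNat a.v.val b.v.val)

/-- Addition on codes. -/
def fa (a b : F8) : F8 := ofCode (a.v.val ^^^ b.v.val)

/-- The fourth power on codes. -/
def fq (a : F8) : F8 := fm (fm a a) (fm a a)

theorem fm_eq (a b : F8) : fm a b = a * b := rfl

theorem fa_eq (a b : F8) : fa a b = a + b := rfl

theorem fq_eq : ∀ a : F8, fq a = a ^ 4 := by decide +kernel

/-- The functional of the central pairing, as a bit mask. -/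
def phi (y : F8) : Bool := Nat.testBit 240 y.v.val

/-- The cocycle. -/
def coc (a x : F8) : Bool :=
  if a.v.val = 0 then false else Nat.testBit 40 (fm (fm (fq a) (fm a a)) x).v.val

/-- Parameters of the unipotent group. -/
abbrev UP : Type := F8 × F8

/-- The product in the unipotent group. -/
def um (u v : UP) : UP := (fa u.1 v.1, fa (fa u.2 v.2) (fm (fq u.1) v.1))

/-- The generator of the torus. -/
def g8 (k : Fin 7) : F8 :=
  match k with
  | 0 => ⟨1⟩ | 1 => ⟨2⟩ | 2 => ⟨4⟩ | 3 => ⟨3⟩ | 4 => ⟨6⟩ | 5 => ⟨7⟩ | 6 => ⟨5⟩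

/-- Torus action. -/
def tact (k : Fin 7) (u : UP) : UP := (fm (g8 k) u.1, fm (fm (g8 k) (fq (g8 k))) u.2)

/-- Squaring on parameters. -/
def sqU (u : UP) : UP := (fm u.1 u.1, fm u.2 u.2)

/-- Squaring on torus exponents. -/
def sqK (k : Fin 7) : Fin 7 := k + k

/-- Signed map of a unipotent element. -/
def monA (u : UP) : Mono :=
  ⟨fun j => (fa (fld j) u.1).v, fun j => xor (phi (fm (fm (fld j) (fld j)) u.2)) (coc u.1 (fld j))⟩

/-- Signed map of a torus element. -/
def monD (k : Fin 7) : Mono := ⟨fun j => (fm (g8 k) (fld j)).v, fun _ => false⟩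

/-- The entries of the involution. -/
def wn (i j : Fin 8) : ℕ := 1182234088162121995194389949333212253311725396479040590410 / 2 ^ (3 * (8 * i.val + j.val)) % 8

/-- The matrix of the involution. -/
def Wm : M8 := Matrix.of fun i j => (wn i j : ZMod 5)

/-- Unrolled sum of eight terms. -/
def s8 (f : Fin 8 → ℕ) : ℕ := f 0 + f 1 + f 2 + f 3 + f 4 + f 5 + f 6 + f 7

/-- The value of a sign as a natural number. -/
def svn (b : Bool) : ℕ := if b then 4 else 1

theorem cast_svn : ∀ b : Bool, (svn b : ZMod 5) = sv b := by decide +kernel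

theorem cast_s8 (f : Fin 8 → ℕ) : ((s8 f : ℕ) : ZMod 5) = ∑ x, (f x : ZMod 5) := by
  rw [Fin.sum_univ_eight]
  simp [s8]

/-- Codes of the Bruhat decomposition of the conjugates of unipotent elements by the involution. -/
def decTab : List ℕ := [0, 4609, 23622, 28359, 29826, 10115, 14596, 19269, 520, 4105, 32084, 6486,
  13542, 7394, 22962, 5556, 2912, 29299, 17627, 17194, 9513, 5850, 18033, 16741, 3176, 21783, 20590,
  20242, 25997, 24093, 23434, 31263, 3824, 12949, 27281, 24823, 27053, 25212, 18553, 7084, 1208,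
  30819, 32588, 15915, 28858, 26212, 10575, 30255, 1936, 21287, 27801, 8062, 12065, 8595, 11647,
  8862, 2328, 15541, 19659, 14907, 14030, 22077, 12572, 10934]

/-- The code of a parameter. -/
def decCode (u : UP) : ℕ := decTab.getD (8 * u.1.v.val + u.2.v.val) 0

/-- Left factor of the decomposition. -/
def decL (u : UP) : UP :=
  (⟨⟨decCode u % 8, Nat.mod_lt _ (by norm_num)⟩⟩, ⟨⟨decCode u / 8 % 8, Nat.mod_lt _ (by norm_num)⟩⟩)

/-- Torus factor of the decomposition. -/
def decK (u : UP) : Fin 7 := ⟨decCode u / 64 % 8 % 7, Nat.mod_lt _ (by norm_num)⟩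

/-- Right factor of the decomposition. -/
def decR (u : UP) : UP :=
  (⟨⟨decCode u / 512 % 8, Nat.mod_lt _ (by norm_num)⟩⟩, ⟨⟨decCode u / 4096 % 8, Nat.mod_lt _ (by norm_num)⟩⟩)

theorem monA_zero : (monA (0, 0)).Same ⟨id, fun _ => false⟩ := by decide +kernel

theorem monD_zero : (monD 0).Same ⟨id, fun _ => false⟩ := by decide +kernel

theorem monA_mul : ∀ u v : UP,
    ∃ t, ((monA u).comp (monA v)).Same ((monA (um u v)).flip t) := by decide +kernel

theorem monD_mul : ∀ k l : Fin 7, ((monD k).comp (monD l)).Same (monD (k + l)) := by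
  decide +kernel

theorem monD_monA : ∀ (k : Fin 7) (u : UP),
    ∃ t, ((monD k).comp (monA u)).Same (((monA (tact k u)).comp (monD k)).flip t) := by
  decide +kernel

theorem wn_sq : ∀ i j : Fin 8,
    s8 (fun x => wn i x * wn x j) % 5 = if i.val = j.val then 1 else 0 := by
  decide +kernel

theorem Wm_sq : Wm * Wm = 1 := by
  ext i j
  have h := wn_sq i j
  rw [Matrix.mul_apply, Matrix.one_apply]
  simp only [Wm, Matrix.of_apply, ← Nat.cast_mul]
  rw [← cast_s8 fun x => wn i x * wn x j, ← ZMod.natCast_mod, h]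
  split_ifs with h1 h2 h2 <;> simp_all [Fin.ext_iff]

theorem monD_inj : ∀ (k : Fin 7) (i j : Fin 8), (monD k).p i = (monD k).p j → i = j := by
  decide +kernel

theorem monA_inj : ∀ (u : UP) (i j : Fin 8), (monA u).p i = (monA u).p j → i = j := by
  decide +kernel

theorem wn_monD : ∀ (k : Fin 7) (x j : Fin 8),
    (wn ((monD ⟨(7 - k.val) % 7, Nat.mod_lt _ (by norm_num)⟩).p x) ((monD k).p j)) = wn x j := by
  decide +kernel

theorem wn_monA : ∀ u : UP, (u.1.v.val = 0 ∧ u.2.v.val = 0) ∨ ∃ t : Bool, ∀ x j : Fin 8,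
    (s8 fun y => wn (((monA (decL u)).comp (monD (decK u))).p x) ((monA u).p y) *
      svn ((monA u).s y) * wn y j) % 5 =
    svn t * svn (((monA (decL u)).comp (monD (decK u))).s x) * wn x ((monA (decR u)).p j) *
      svn ((monA (decR u)).s j) % 5 := by
  decide +kernel

theorem um_sq : ∀ u v : UP, sqU (um u v) = um (sqU u) (sqU v) := by decide +kernel

theorem tact_sq : ∀ (k : Fin 7) (u : UP), sqU (tact k u) = tact (sqK k) (sqU u) := by
  decide +kernel

theorem dec_sq : ∀ u : UP, decL (sqU u) = sqU (decL u) ∧ decK (sqU u) = sqK (decK u) ∧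
    decR (sqU u) = sqU (decR u) := by
  decide +kernel

theorem sqU_eq_zero : ∀ u : UP, sqU u = (0, 0) → u = (0, 0) := by decide +kernel

theorem dec_sz : ∀ u : UP, u = (0, 0) ∨
    suzukiForm F8 * Tm 1 u.1 u.2 * suzukiForm F8 =
      Tm 1 (decL u).1 (decL u).2 * Hm 1 (g8 (decK u)) * suzukiForm F8 *
        Tm 1 (decR u).1 (decR u).2 := by
  decide +kernel

theorem g8_mul : ∀ k l : Fin 7, g8 (k + l) = g8 k * g8 l := by decide +kernel

theorem g8_ne_zero : ∀ k : Fin 7, g8 k ≠ 0 := by decide +kernel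

theorem g8_surj : ∀ x : F8, x = 0 ∨ ∃ k, g8 k = x := by decide +kernel

theorem g8_inj : ∀ k : Fin 7, g8 k = 1 → k = 0 := by decide +kernel

/-- Two elements whose commutators give the two kernel generators. -/
theorem comm_gen : ∀ t₁ t₂ : Bool, ∃ b : F8,
    (((monA (1, 0)).comp (monA (0, b))).Same (((monA (0, b)).comp (monA (1, 0))).flip t₁)) ∧
      (((monA (sqU (1, 0))).comp (monA (sqU (0, b)))).Same
        (((monA (sqU (0, b))).comp (monA (sqU (1, 0)))).flip t₂)) := by
  decide +kernel

/-- The units of signed maps. -/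
theorem monA_inverse : ∀ u : UP, ∃ v : UP, ∃ t : Bool,
    ((monA u).comp ((monA v).flip t)).Same ⟨id, fun _ => false⟩ ∧
      (((monA v).flip t).comp (monA u)).Same ⟨id, fun _ => false⟩ := by
  decide +kernel

end Cfsg.Agent.StemSzEightData50
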