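import Cfsg.Agent.Lib.SuzukiAut
import Cfsg.Agent.Lib.SuzukiGroupPartition

/-!
Extensions of `2`-groups by `Sz(8):3`: the element orders that are products of two primes are
`6`, `10`, `14` and `15`.
-/

set_option autoImplicit false
set_option maxRecDepth 100000

open Matrix Cfsg.Agent.SuzukiGroupBasic Cfsg.Agent.SuzukiGroupStructure Cfsg.Agent.SuzukiAut
  Cfsg.Agent.SuzukiTwoAut Cfsg.Agent.SuzukiGroupPartition

namespace Cfsg.Agent.SuzukiEightPG50

/-- The field with eight elements, by the polynomial `x³ + x + 1`. -/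
structure F8 where
  /-- coefficients -/
  v : Fin 8
deriving DecidableEq

instance : Fintype F8 := Fintype.ofEquiv (Fin 8) ⟨F8.mk, F8.v, fun _ => rfl, fun _ => rfl⟩

/-- Doubling modulo the polynomial. -/
def dbl (a : ℕ) : ℕ := if 4 ≤ a then (2 * a) ^^^ 11 else 2 * a

/-- Product of coefficient vectors. -/
def mulNat (a b : ℕ) : ℕ :=
  (if b % 2 = 1 then a else 0) ^^^ (if b / 2 % 2 = 1 then dbl a else 0) ^^^
    (if 4 ≤ b then dbl (dbl a) else 0)

/-- An element from its code. -/
def ofCode (n : ℕ) : F8 := ⟨⟨n % 8, Nat.mod_lt _ (by norm_num)⟩⟩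

instance : Zero F8 := ⟨⟨0⟩⟩
instance : One F8 := ⟨⟨1⟩⟩
instance : Add F8 := ⟨fun a b => ofCode (a.v.val ^^^ b.v.val)⟩
instance : Neg F8 := ⟨fun a => a⟩
instance : Mul F8 := ⟨fun a b => ofCode (mulNat a.v.val b.v.val)⟩
instance : Inv F8 := ⟨fun a => a * a * (a * a) * (a * a)⟩

instance : CommRing F8 where
  add_assoc := by decide +kernel
  zero_add := by decide +kernel
  add_zero := by decide +kernel
  nsmul := nsmulRec
  zsmul := zsmulRec
  neg_add_cancel := by decide +kernel
  add_comm := by decide +kernel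
  mul_assoc := by decide +kernel
  one_mul := by decide +kernel
  mul_one := by decide +kernel
  left_distrib := by decide +kernel
  right_distrib := by decide +kernel
  zero_mul := by decide +kernel
  mul_zero := by decide +kernel
  mul_comm := by decide +kernel

instance : Nontrivial F8 := ⟨⟨0, 1, by decide +kernel⟩⟩

instance : Field F8 where
  mul_inv_cancel := by decide +kernel
  inv_zero := by decide +kernel
  nnqsmul := _
  qsmul := _

theorem card_F8 : Fintype.card F8 = 2 ^ (2 * 1 + 1) := by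
  rw [Fintype.card_congr ⟨F8.v, F8.mk, fun _ => rfl, fun _ => rfl⟩, Fintype.card_fin]
  norm_num

instance param : Param F8 1 := Param.mk' le_rfl card_F8

/-- `Sz(8)`. -/
abbrev G : Type := ↥(Cfsg.Sz F8 1)

/-- Its module of matrices. -/
abbrev M4 : Type := Matrix (Fin 4) (Fin 4) F8

/-- The underlying matrix. -/
def mat : G →* M4 where
  toFun g := ((g : Matrix.SpecialLinearGroup (Fin 4) F8) : M4)
  map_one' := rfl
  map_mul' _ _ := rfl

theorem mat_injective : Function.Injective mat := fun _ _ h => Subtype.ext (Subtype.ext h)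

/-- The cyclic group of field automorphisms. -/
abbrev C3 : Type := Multiplicative (ZMod (2 * 1 + 1))

/-- The field automorphisms. -/
noncomputable def phi : C3 →* MulAut G :=
  MonoidHom.mk' (fun i => fieldAut (F := F8) (m := 1) (Multiplicative.toAdd i)) fun i j => by
    rw [toAdd_mul]; exact fieldAut_add _ _

/-- `Sz(8):3`. -/
abbrev S : Type := G ⋊[phi] C3


/-- The field map attached to an element of the cyclic part. -/
def frob (i : C3) : F8 →+* F8 := fr (F := F8) (m := 1) i.toAdd

theorem frob_mul : ∀ (i j : C3) (x : F8),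
    frob (i * j) x = frob i (frob j x) := fun i j x => fp_add i.toAdd j.toAdd x

theorem mat_phi (i : C3) (g : G) : mat (phi i g) = (mat g).map (frob i) := rfl

/-- The squaring map. -/
def sq : F8 →+* F8 := frob (Multiplicative.ofAdd (1 : ZMod (2 * 1 + 1)))

theorem frob_sq (i : C3) (x : F8) : frob i (sq x) = sq (frob i x) := by
  rw [sq, ← frob_mul, ← frob_mul, mul_comm]

/-- The action on matrices: `g` acts by `X ↦ g X (g^(2))ᵀ`, the cyclic part on the entries. -/
def act (s : S) (X : M4) : M4 := mat s.left * X.map (frob s.right) * ((mat s.left).map sq)ᵀ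

theorem act_mul (s t : S) (X : M4) : act (s * t) X = act s (act t X) := by
  have h1 : X.map (frob (s.right * t.right)) = (X.map (frob t.right)).map (frob s.right) := by
    ext i j; exact frob_mul _ _ _
  have h2 : ((mat t.left).map (frob s.right)).map sq = ((mat t.left).map sq).map (frob s.right) := by
    ext i j; exact (frob_sq _ _).symm
  simp only [act, SemidirectProduct.mul_left, SemidirectProduct.mul_right, map_mul, mat_phi,
    Matrix.map_mul, Matrix.transpose_mul, h1, h2, Matrix.transpose_map, Matrix.mul_assoc]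

theorem act_one (X : M4) : act 1 X = X := by
  have h : ∀ x : F8, frob 1 x = x := fun x => fp_zero (F := F8) (m := 1) x
  simp only [act, SemidirectProduct.one_left, SemidirectProduct.one_right, map_one,
    Matrix.map_one _ (map_zero sq) (map_one sq), Matrix.transpose_one, Matrix.mul_one,
    Matrix.one_mul]
  ext i j; exact h _

theorem act_add (s : S) (X Y : M4) : act s (X + Y) = act s X + act s Y := by
  simp only [act, Matrix.map_add _ (map_add _), Matrix.mul_add, Matrix.add_mul]

/-- The action on the multiplicative group of matrices. -/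
noncomputable def psi : S →* MulAut (Multiplicative M4) where
  toFun s :=
    { toFun := fun X => Multiplicative.ofAdd (act s X.toAdd)
      invFun := fun X => Multiplicative.ofAdd (act s⁻¹ X.toAdd)
      left_inv := fun X => by simp [← act_mul, act_one]
      right_inv := fun X => by simp [← act_mul, act_one]
      map_mul' := fun X Y => by simp [act_add] }
  map_one' := by ext1 X; exact congrArg Multiplicative.ofAdd (act_one _)
  map_mul' s t := by ext1 X; exact congrArg Multiplicative.ofAdd (act_mul s t _)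

theorem psi_apply (s : S) (X : M4) :
    psi s (Multiplicative.ofAdd X) = Multiplicative.ofAdd (act s X) := rfl

theorem exp_two (w : Multiplicative M4) : w ^ 2 = 1 := by
  apply Multiplicative.toAdd.injective
  ext i j
  rw [toAdd_pow, toAdd_one, two_nsmul, Matrix.add_apply, Matrix.zero_apply]
  generalize w.toAdd i j = a
  revert a
  decide +kernel

/-- An element of order thirteen. -/
def x13 : G := Ts 0 ⟨3⟩ * Ws

/-- An element of order seven. -/
def x7 : G := Hs (Units.mk0 ⟨2⟩ (by decide +kernel))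

/-- An element of order five. -/
def x5 : G := Ts 0 1 * Ws

theorem mat_x13 : mat x13 = !![⟨7⟩, ⟨3⟩, ⟨0⟩, ⟨1⟩; ⟨3⟩, ⟨0⟩, ⟨1⟩, ⟨0⟩; ⟨0⟩, ⟨1⟩, ⟨0⟩, ⟨0⟩; ⟨1⟩, ⟨0⟩, ⟨0⟩, ⟨0⟩] := by
  change Tm 1 0 ⟨3⟩ * suzukiForm F8 = _
  decide +kernel

theorem mat_x5 : mat x5 = Tm 1 0 1 * suzukiForm F8 := rfl

theorem mat_x7 : mat x7 = Hm 1 ⟨2⟩ := rfl

theorem mat_Ws : mat Ws = suzukiForm F8 := rfl

theorem orderOf_x13 : orderOf x13 = 13 := by
  have : Fact (Nat.Prime 13) := ⟨by norm_num⟩
  rw [← orderOf_injective mat mat_injective, mat_x13]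
  exact orderOf_eq_prime (by decide +kernel) (by decide +kernel)

theorem orderOf_x5 : orderOf x5 = 5 := by
  have : Fact (Nat.Prime 5) := ⟨by norm_num⟩
  rw [← orderOf_injective mat mat_injective, mat_x5]
  exact orderOf_eq_prime (by decide +kernel) (by decide +kernel)

theorem orderOf_x7 : orderOf x7 = 7 := by
  have : Fact (Nat.Prime 7) := ⟨by norm_num⟩
  rw [← orderOf_injective mat mat_injective, mat_x7]
  exact orderOf_eq_prime (by decide +kernel) (by decide +kernel)

theorem orderOf_Ws : orderOf (Ws : G) = 2 := by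
  rw [← orderOf_injective mat mat_injective, mat_Ws]
  exact orderOf_eq_prime (by decide +kernel) (by decide +kernel)

theorem traces : (∀ k : Fin 13, k ≠ 0 → (mat x13 ^ (k : ℕ)).trace * (mat x13 ^ (k : ℕ)).trace ≠
      (mat x13 ^ (k : ℕ)).trace) ∧
    ∀ k : Fin 7, k ≠ 0 → (mat x7 ^ (k : ℕ)).trace * (mat x7 ^ (k : ℕ)).trace ≠
      (mat x7 ^ (k : ℕ)).trace := by
  rw [mat_x13, mat_x7]
  decide +kernel

theorem cert13 :
    let c : Fin 4 → F8 := ![⟨1⟩, ⟨7⟩, ⟨5⟩, ⟨7⟩]
    let B : M4 := !![⟨0⟩, ⟨0⟩, ⟨0⟩, ⟨1⟩; ⟨0⟩, ⟨0⟩, ⟨1⟩, ⟨0⟩; ⟨0⟩, ⟨1⟩, ⟨0⟩, ⟨5⟩; ⟨1⟩, ⟨0⟩, ⟨5⟩, ⟨3⟩]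
    B * ((mat x13).map sq)ᵀ = 1 ∧
      (mat x13) ^ 4 + c 3 • (mat x13) ^ 3 + c 2 • (mat x13) ^ 2 + c 1 • mat x13 + c 0 • 1 = 0 ∧
      (B ^ 4 + c 3 • B ^ 3 + c 2 • B ^ 2 + c 1 • B + c 0 • 1) * !![⟨1⟩, ⟨3⟩, ⟨2⟩, ⟨5⟩; ⟨3⟩, ⟨0⟩, ⟨2⟩, ⟨2⟩; ⟨2⟩, ⟨2⟩, ⟨1⟩, ⟨4⟩; ⟨5⟩, ⟨2⟩, ⟨4⟩, ⟨4⟩] = 1 := by
  rw [mat_x13]
  decide +kernel

/-- The element of order thirteen has no fixed vector. -/
theorem x13_fixed_eq_zero {X : M4} (h : act (SemidirectProduct.inl x13) X = X) : X = 0 := by
  set B : M4 := !![⟨0⟩, ⟨0⟩, ⟨0⟩, ⟨1⟩; ⟨0⟩, ⟨0⟩, ⟨1⟩, ⟨0⟩; ⟨0⟩, ⟨1⟩, ⟨0⟩, ⟨5⟩; ⟨1⟩, ⟨0⟩, ⟨5⟩, ⟨3⟩] with hBdef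
  set c : Fin 4 → F8 := ![⟨1⟩, ⟨7⟩, ⟨5⟩, ⟨7⟩] with hcdef
  obtain ⟨h1, h2, h3⟩ := cert13
  rw [← hBdef] at h1 h3
  rw [← hcdef] at h2 h3
  set A := mat x13
  have hB : A * X = X * B := by
    have h0 : X.map (frob 1) = X := by ext i j; exact fp_zero (F := F8) (m := 1) _
    simp only [act, SemidirectProduct.left_inl, SemidirectProduct.right_inl, h0] at h
    have h1' : (A.map sq)ᵀ * B = 1 := mul_eq_one_comm.1 h1
    calc A * X = A * X * ((A.map sq)ᵀ * B) := by rw [h1', mul_one]
      _ = X * B := by rw [← mul_assoc, h]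
  have hp : ∀ n : ℕ, A ^ n * X = X * B ^ n := fun n => by
    induction n with
    | zero => simp
    | succ n ih => rw [pow_succ, mul_assoc, hB, ← mul_assoc, ih, mul_assoc, ← pow_succ]
  have h4 : X * (B ^ 4 + c 3 • B ^ 3 + c 2 • B ^ 2 + c 1 • B + c 0 • 1) = 0 := by
    simp only [mul_add, Matrix.mul_smul, ← hp, ← hB, mul_one]
    calc A ^ 4 * X + c 3 • (A ^ 3 * X) + c 2 • (A ^ 2 * X) + c 1 • (A * X) + c 0 • X
        = (A ^ 4 + c 3 • A ^ 3 + c 2 • A ^ 2 + c 1 • A + c 0 • 1) * X := by
          simp only [add_mul, smul_mul_assoc, one_mul]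
      _ = 0 := by rw [h2, zero_mul]
  have h5 := congrArg (fun Y : M4 => Y * !![⟨1⟩, ⟨3⟩, ⟨2⟩, ⟨5⟩; ⟨3⟩, ⟨0⟩, ⟨2⟩, ⟨2⟩; ⟨2⟩, ⟨2⟩, ⟨1⟩, ⟨4⟩; ⟨5⟩, ⟨2⟩, ⟨4⟩, ⟨4⟩]) h4
  rwa [mul_assoc, h3, mul_one, zero_mul] at h5

theorem natCard_G : Nat.card G = 29120 := by rw [natCard_Sz (F := F8) (m := 1)]; norm_num

theorem finiteG : Finite G := Nat.finite_of_card_ne_zero (by rw [natCard_G]; norm_num)

/-- The element orders of `Sz(8)`. -/
theorem orders_G (g : G) :
    orderOf g ∣ 4 ∨ orderOf g = 5 ∨ orderOf g = 7 ∨ orderOf g = 13 := by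
  by_cases hg : g = 1
  · left; rw [hg, orderOf_one]; exact one_dvd _
  by_cases h : orderOf g ∣ 4
  · exact Or.inl h
  obtain ⟨-, hc⟩ := cyclic_centralizer (F := F8) (m := 1) hg h
  have hd : orderOf g ∣ Nat.card (Subgroup.centralizer {g}) :=
    Subgroup.orderOf_dvd_natCard _ (Subgroup.mem_centralizer_singleton_iff.mpr rfl)
  have h1 : orderOf g ≠ 1 := fun e => hg (orderOf_eq_one_iff.1 e)
  simp only [Set.mem_insert_iff, Set.mem_singleton_iff] at hc
  norm_num at hc
  rcases hc with hc | hc | hc <;> rw [hc] at hd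
  · exact Or.inr (Or.inr (Or.inl (((Nat.dvd_prime (by norm_num)).1 hd).resolve_left h1)))
  · exact Or.inr (Or.inr (Or.inr (((Nat.dvd_prime (by norm_num)).1 hd).resolve_left h1)))
  · exact Or.inr (Or.inl (((Nat.dvd_prime (by norm_num)).1 hd).resolve_left h1))

/-- An element of prime order `p` with `p² ∤ |G|` is conjugate to a power of any other one. -/
theorem conj_pow {K : Type*} [Group K] [Finite K] {p : ℕ} (hp : p.Prime)
    (hsq : ¬ p ^ 2 ∣ Nat.card K) {x h : K} (hx : orderOf x = p) (hh : orderOf h = p) :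
    ∃ (c : K) (k : Fin p), (k : ℕ) ≠ 0 ∧ h = c * x ^ (k : ℕ) * c⁻¹ := by
  have : Fact p.Prime := ⟨hp⟩
  have hfac : (Nat.card K).factorization p = 1 := by
    have h1 : 0 < (Nat.card K).factorization p :=
      hp.factorization_pos_of_dvd Nat.card_pos.ne' (hx ▸ orderOf_dvd_natCard x)
    have h2 : ¬ 2 ≤ (Nat.card K).factorization p := fun h =>
      hsq ((hp.pow_dvd_iff_le_factorization Nat.card_pos.ne').2 h)
    omega
  have hsyl : ∀ y : K, orderOf y = p →
      ∃ P : Sylow p K, (P : Subgroup K) = Subgroup.zpowers y := fun y hy =>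
    ⟨Sylow.ofCard (Subgroup.zpowers y) (by rw [Nat.card_zpowers, hy, hfac, pow_one]),
      Sylow.coe_ofCard _ _⟩
  obtain ⟨P, hP⟩ := hsyl _ hx
  obtain ⟨Q, hQ⟩ := hsyl _ hh
  obtain ⟨c, hc⟩ := MulAction.exists_smul_eq K P Q
  have hm : h ∈ (Q : Subgroup K) := hQ ▸ Subgroup.mem_zpowers h
  rw [← hc, Sylow.coe_subgroup_smul, hP] at hm
  obtain ⟨y, hy, rfl⟩ := Subgroup.mem_map.1 hm
  obtain ⟨n, hn0⟩ := (mem_powers_iff_mem_zpowers.2 hy :)
  simp only at hn0
  subst hn0
  have hn : x ^ n = x ^ (n % p) := by rw [← hx, pow_mod_orderOf]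
  refine ⟨c, ⟨n % p, Nat.mod_lt _ hp.pos⟩, ?_, ?_⟩
  · intro h0
    simp only at h0
    rw [hn, h0, pow_zero] at hh
    exact hp.ne_one (by simpa using hh.symm)
  · simp only [← hn]
    rfl

theorem not_sq_dvd : ¬ 7 ^ 2 ∣ Nat.card G ∧ ¬ 13 ^ 2 ∣ Nat.card G := by
  rw [natCard_G]; norm_num

theorem trace_conj (c y : G) : (mat (c * y * c⁻¹)).trace = (mat y).trace := by
  rw [map_mul, map_mul, Matrix.trace_mul_cycle, ← map_mul, inv_mul_cancel, map_one, Matrix.one_mul]

/-- Elements of order seven or thirteen have trace outside the prime field. -/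
theorem trace_ne {h : G} (hh : orderOf h = 7 ∨ orderOf h = 13) :
    (mat h).trace * (mat h).trace ≠ (mat h).trace := by
  have := finiteG
  rcases hh with hh | hh
  · obtain ⟨c, k, hk, rfl⟩ := conj_pow (by norm_num) not_sq_dvd.1 orderOf_x7 hh
    rw [trace_conj, map_pow]
    exact traces.2 k fun e => hk (by rw [e]; rfl)
  · obtain ⟨c, k, hk, rfl⟩ := conj_pow (by norm_num) not_sq_dvd.2 orderOf_x13 hh
    rw [trace_conj, map_pow]
    exact traces.1 k fun e => hk (by rw [e]; rfl)

theorem frob_fix : ∀ (i : C3) (t : F8), i ≠ 1 → frob i t = t → t * t = t := by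
  decide +kernel

/-- The element orders of `Sz(8):3` omit the six products. -/
theorem not_order_S {n : ℕ} (hn : n ∈ [21, 26, 35, 39, 65, 91]) (y : S) : orderOf y ≠ n := by
  intro hy
  by_cases hr : y.right = 1
  · have h1 : y = SemidirectProduct.inl y.left := SemidirectProduct.ext rfl hr
    rw [h1, orderOf_injective _ SemidirectProduct.inl_injective] at hy
    rcases orders_G y.left with h | h | h | h
    · rw [hy] at h
      have := Nat.le_of_dvd (by norm_num) h
      fin_cases hn <;> omega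
    all_goals (rw [hy] at h; fin_cases hn <;> omega)
  have h3 : orderOf y.right = 3 := by
    have : Fact (Nat.Prime 3) := ⟨Nat.prime_three⟩
    refine orderOf_eq_prime ?_ hr
    generalize y.right = i
    revert i
    decide +kernel
  have hd : 3 ∣ n := h3 ▸ hy ▸ orderOf_map_dvd SemidirectProduct.rightHom y
  have hn' : ∃ p, (p = 7 ∨ p = 13) ∧ n = 3 * p := by
    fin_cases hn <;> first
      | exact ⟨7, Or.inl rfl, rfl⟩
      | exact ⟨13, Or.inr rfl, rfl⟩
      | omega
  obtain ⟨p, hp, rfl⟩ := hn'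
  have hr3 : (y ^ 3).right = 1 := by
    rw [← SemidirectProduct.rightHom_eq_right, map_pow]
    exact h3 ▸ pow_orderOf_eq_one y.right
  have hinl : y ^ 3 = SemidirectProduct.inl (y ^ 3).left := SemidirectProduct.ext rfl hr3
  set h := (y ^ 3).left
  have hh : orderOf h = p := by
    rw [← orderOf_injective _ (SemidirectProduct.inl_injective (φ := phi)), ← hinl,
      orderOf_pow' y (by norm_num : 3 ≠ 0), hy, Nat.gcd_mul_right_left,
      Nat.mul_div_cancel_left _ (by norm_num)]
  have hc := congrArg SemidirectProduct.left (Commute.self_pow y 3).eq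
  rw [hinl] at hc
  simp only [SemidirectProduct.mul_left, SemidirectProduct.left_inl, SemidirectProduct.right_inl,
    map_one, MulAut.one_apply] at hc
  have hc' : phi y.right h = y.left⁻¹ * h * y.left := by rw [mul_assoc, ← hc, inv_mul_cancel_left]
  have ht := congrArg (fun g : G => (mat g).trace) hc'
  have hconj : (mat (y.left⁻¹ * h * y.left)).trace = (mat h).trace := by
    simpa using trace_conj y.left⁻¹ h
  have hm : (mat (phi y.right h)).trace = frob y.right (mat h).trace :=
    (AddMonoidHom.map_trace (frob y.right).toAddMonoidHom (mat h)).symm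
  simp only [hconj, hm] at ht
  exact trace_ne (hh ▸ hp) (frob_fix _ _ hr ht)

/-- The kernel of the extension. -/
abbrev W (N : ℕ) : Type := Fin N → Multiplicative M4

/-- The diagonal action. -/
noncomputable def psiN (N : ℕ) : S →* MulAut (W N) where
  toFun s := MulEquiv.piCongrRight fun _ => psi s
  map_one' := by ext w i; simp
  map_mul' a b := by ext w i; simp

/-- The extension. -/
abbrev H (N : ℕ) : Type := W N ⋊[psiN N] S

theorem right_order_dvd {N : ℕ} (y : H N) : orderOf y ∣ 2 * orderOf y.right := by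
  have h1 : y ^ orderOf y.right = SemidirectProduct.inl (y ^ orderOf y.right).left := by
    refine SemidirectProduct.ext rfl ?_
    rw [SemidirectProduct.right_inl, ← SemidirectProduct.rightHom_eq_right, map_pow]
    exact pow_orderOf_eq_one y.right
  refine orderOf_dvd_of_pow_eq_one ?_
  rw [pow_mul', h1, ← map_pow,
    show (y ^ orderOf y.right).left ^ 2 = 1 from funext fun i => exp_two _]
  exact map_one _

theorem not_order_H {N n : ℕ} (hn : n ∈ [21, 26, 35, 39, 65, 91]) (y : H N) : orderOf y ≠ n := by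
  intro hy
  have h1 : orderOf y.right ∣ n := hy ▸ orderOf_map_dvd SemidirectProduct.rightHom y
  have h2 : n ∣ 2 * orderOf y.right := hy ▸ right_order_dvd y
  have h3 : orderOf y.right ≠ n := not_order_S hn _
  have hn26 : n = 26 ∧ orderOf y.right = 13 := by
    obtain ⟨k, hk⟩ := h1
    rw [hk] at h2
    have hpos : 0 < orderOf y.right := Nat.pos_of_ne_zero fun e => by
      rw [e, zero_mul] at hk; subst hk; simp at hn
    have hk2 : k ∣ 2 := Nat.dvd_of_mul_dvd_mul_left hpos (h2.trans (dvd_of_eq (mul_comm _ _)))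
    rcases (Nat.dvd_prime Nat.prime_two).1 hk2 with rfl | rfl
    · omega
    · fin_cases hn <;> omega
  obtain ⟨rfl, hr13⟩ := hn26
  have := finiteG
  set w := (y ^ 13).left with hw
  have hinl : y ^ 13 = SemidirectProduct.inl w := by
    refine SemidirectProduct.ext rfl ?_
    rw [SemidirectProduct.right_inl, ← SemidirectProduct.rightHom_eq_right, map_pow]
    exact hr13 ▸ pow_orderOf_eq_one y.right
  have hw1 : w ≠ 1 := fun e => by
    rw [e, map_one] at hinl
    have := orderOf_dvd_of_pow_eq_one hinl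
    rw [hy] at this
    norm_num at this
  have hc := congrArg SemidirectProduct.left (Commute.self_pow y 13).eq
  rw [hinl] at hc
  simp only [SemidirectProduct.mul_left, SemidirectProduct.left_inl, SemidirectProduct.right_inl,
    map_one, MulAut.one_apply] at hc
  rw [mul_comm w] at hc
  have hfix : psiN N y.right w = w := mul_left_cancel hc
  obtain ⟨i, hi⟩ := Function.ne_iff.mp hw1
  have hfix' : psi y.right (w i) = w i := congrFun hfix i
  have hr : y.right.right = 1 := by
    have h3 : y.right.right ^ 3 = 1 := by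
      generalize y.right.right = j
      revert j
      decide +kernel
    have hd : orderOf y.right.right ∣ 13 := hr13 ▸ orderOf_map_dvd SemidirectProduct.rightHom _
    exact orderOf_eq_one_iff.1 (Nat.eq_one_of_dvd_coprimes (by norm_num : Nat.Coprime 3 13)
      (orderOf_dvd_of_pow_eq_one h3) hd)
  have hyr : y.right = SemidirectProduct.inl y.right.left := SemidirectProduct.ext rfl hr
  have hg : orderOf y.right.left = 13 := by
    rw [← orderOf_injective _ (SemidirectProduct.inl_injective (φ := phi)), ← hyr, hr13]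
  obtain ⟨c, k, hk, hgc⟩ := conj_pow (by norm_num) not_sq_dvd.2 orderOf_x13 hg
  rw [hyr, hgc] at hfix'
  simp only [map_mul, map_inv, map_pow] at hfix'
  simp only [MulAut.mul_apply] at hfix'
  set C : MulAut (Multiplicative M4) := psi (SemidirectProduct.inl c)
  set A : MulAut (Multiplicative M4) := psi (SemidirectProduct.inl x13)
  set u := C⁻¹ (w i)
  have hu : (A ^ (k : ℕ)) u = u := by
    apply C.injective
    rw [hfix']
    simp [u]
  have hu13 : (A ^ 13) u = u := by
    have : A ^ 13 = 1 := by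
      rw [show A = psi (SemidirectProduct.inl x13) from rfl, ← map_pow, ← map_pow,
        ← orderOf_x13, pow_orderOf_eq_one, map_one, map_one]
    rw [this, MulAut.one_apply]
  have hA : A ∈ MulAction.stabilizer (MulAut (Multiplicative M4)) u := by
    have hk13 : Nat.Coprime (k : ℕ) 13 :=
      ((Nat.Prime.coprime_iff_not_dvd (by norm_num)).2 fun h =>
        hk (Nat.eq_zero_of_dvd_of_lt h k.2)).symm
    obtain ⟨a, ha⟩ := exists_pow_eq_self_of_coprime (x := A) (n := (k : ℕ)) (hk13.of_dvd_right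
      (orderOf_dvd_of_pow_eq_one (by
        rw [show A = psi (SemidirectProduct.inl x13) from rfl, ← map_pow, ← map_pow,
          ← orderOf_x13, pow_orderOf_eq_one, map_one, map_one])))
    rw [← ha]
    exact pow_mem (show (A ^ (k : ℕ)) ∈ MulAction.stabilizer _ u from hu) a
  have hu0 : u.toAdd = 0 := x13_fixed_eq_zero (congrArg Multiplicative.toAdd hA)
  apply hi
  have : u = 1 := Multiplicative.toAdd.injective hu0
  simpa [u] using congrArg C this

theorem order_H_positive {N : ℕ} (hN : 0 < N) {n : ℕ} (hn : n ∈ [6, 10, 14, 15]) :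
    ∃ y : H N, orderOf y = n := by
  have hσ : orderOf (SemidirectProduct.inr (Multiplicative.ofAdd (1 : ZMod (2 * 1 + 1))) : S) = 3 := by
    rw [orderOf_injective _ SemidirectProduct.inr_injective]
    have : Fact (Nat.Prime 3) := ⟨Nat.prime_three⟩
    exact orderOf_eq_prime (by decide +kernel) (by decide +kernel)
  have hout : ∀ g : G, (mat g).map sq = mat g →
      Commute (SemidirectProduct.inl g : S) (SemidirectProduct.inr (Multiplicative.ofAdd (1 : ZMod (2 * 1 + 1)))) := by
    intro g hg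
    have h : phi (Multiplicative.ofAdd (1 : ZMod (2 * 1 + 1))) g = g := mat_injective (by rw [mat_phi]; exact hg)
    refine SemidirectProduct.ext ?_ ?_ <;> simp [h]
  have hV : ∀ (g : G) (X : M4) (o : ℕ), orderOf g = o → Nat.Coprime o 2 → X ≠ 0 →
      act (SemidirectProduct.inl g) X = X → ∃ y : H N, orderOf y = 2 * o := by
    intro g X o hg ho hX hfix
    set w : W N := fun _ => Multiplicative.ofAdd X
    have hw : orderOf (SemidirectProduct.inl w : H N) = 2 := by
      rw [orderOf_injective _ SemidirectProduct.inl_injective]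
      exact orderOf_eq_prime (funext fun i => exp_two _) fun e =>
        hX (congrArg Multiplicative.toAdd (congrFun e ⟨0, hN⟩))
    have hg' : orderOf (SemidirectProduct.inr (SemidirectProduct.inl g) : H N) = o := by
      rw [orderOf_injective _ SemidirectProduct.inr_injective,
        orderOf_injective _ SemidirectProduct.inl_injective, hg]
    have hact : psiN N (SemidirectProduct.inl g) w = w :=
      funext fun i => congrArg Multiplicative.ofAdd hfix
    refine ⟨SemidirectProduct.inl w * SemidirectProduct.inr (SemidirectProduct.inl g), ?_⟩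
    rw [Commute.orderOf_mul_eq_mul_orderOf_of_coprime (by
      refine SemidirectProduct.ext ?_ ?_ <;> simp [hact]) (by rw [hw, hg']; exact ho.symm), hw, hg']
  fin_cases hn
  · refine ⟨SemidirectProduct.inr (SemidirectProduct.inl Ws *
      SemidirectProduct.inr (Multiplicative.ofAdd (1 : ZMod (2 * 1 + 1)))), ?_⟩
    rw [orderOf_injective _ SemidirectProduct.inr_injective,
      (hout Ws (by rw [mat_Ws]; decide +kernel)).orderOf_mul_eq_mul_orderOf_of_coprime
        (by rw [orderOf_injective _ SemidirectProduct.inl_injective, orderOf_Ws, hσ]; norm_num),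
      orderOf_injective _ SemidirectProduct.inl_injective, orderOf_Ws, hσ]
  · obtain ⟨y, hy⟩ := hV x5 (suzukiForm F8) 5 orderOf_x5 (by norm_num) (by decide +kernel) (by
      change mat x5 * (suzukiForm F8).map (frob 1) * ((mat x5).map sq)ᵀ = _
      rw [mat_x5]; decide +kernel)
    exact ⟨y, hy⟩
  · obtain ⟨y, hy⟩ := hV x7 (Matrix.single 0 1 1) 7 orderOf_x7 (by norm_num)
      (by decide +kernel) (by
      change mat x7 * (Matrix.single 0 1 (1 : F8)).map (frob 1) * ((mat x7).map sq)ᵀ = _
      rw [mat_x7]; decide +kernel)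
    exact ⟨y, hy⟩
  · refine ⟨SemidirectProduct.inr (SemidirectProduct.inl x5 *
      SemidirectProduct.inr (Multiplicative.ofAdd (1 : ZMod (2 * 1 + 1)))), ?_⟩
    rw [orderOf_injective _ SemidirectProduct.inr_injective,
      (hout x5 (by rw [mat_x5]; decide +kernel)).orderOf_mul_eq_mul_orderOf_of_coprime
        (by rw [orderOf_injective _ SemidirectProduct.inl_injective, orderOf_x5, hσ]; norm_num),
      orderOf_injective _ SemidirectProduct.inl_injective, orderOf_x5, hσ]

theorem natCard_H (N : ℕ) : Nat.card (H N) = 8 ^ (16 * N) * (29120 * 3) := by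
  have hM : Nat.card M4 = 8 ^ 16 := by
    change Nat.card (Fin 4 → Fin 4 → F8) = _
    rw [Nat.card_fun, Nat.card_fun, Nat.card_eq_fintype_card (α := F8), card_F8]
    simp [← pow_mul]
  rw [SemidirectProduct.card, SemidirectProduct.card, natCard_G, Nat.card_fun,
    Nat.card_congr Multiplicative.toAdd, hM, ← pow_mul]
  simp

end Cfsg.Agent.SuzukiEightPG50
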