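import Cfsg.Agent.Lib.StemSuzuki
import Cfsg.Agent.Lib.SuzukiEightPG50
import Mathlib

/-!
Stem extensions of `Sz(8)`: the kernel is an image of a four-group.
-/

set_option autoImplicit false
set_option maxHeartbeats 1000000
set_option backward.isDefEq.respectTransparency false

namespace Cfsg.Agent.StemSzEightUpper50

open Subgroup Cfsg.Agent.SuzukiGroupBasic Cfsg.Agent.SuzukiGroupStructure
open scoped commutatorElement
open StemPairing
open Cfsg.Agent.StemSuzuki (zHom Ts_zero_mul Ts_zero_commute exists_unit_sg sum_scale eight_le_card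
  L L_spec D D_spec D_conj L_comm)

section

variable {F : Type*} [Field F] [Fintype F] {m : ℕ} [hP : Param F m]
variable {Γ : Type*} [Group Γ] {σ : Γ →* ↥(Cfsg.Sz F m)} (hs : Function.Surjective σ)
  (hc : σ.ker ≤ center Γ)

include hc in
theorem zz_eq_one (b c : F) : ⁅L hs 0 b, L hs 0 c⁆ = 1 := by
  have h8 := eight_le_card (F := F) (m := m)
  have h4 : Fintype.card F ≠ 4 := by omega
  have h9 : Fintype.card F ≠ 9 := by
    have h := natCard (F := F) (m := m)
    rw [Nat.card_eq_fintype_card] at h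
    rw [h]; intro h'
    have : 2 ∣ 9 := h' ▸ dvd_pow_self 2 (by omega)
    omega
  refine pairing_eq_one h4 h9 (fun b c => ⁅L hs 0 b, L hs 0 c⁆) ?_ ?_ ?_ ?_ b c
  · intro x x' y
    show _ = ⁅L hs 0 x, L hs 0 y⁆ * ⁅L hs 0 x', L hs 0 y⁆
    rw [← bracket_mul_left hc (L_comm hs 0 x' y)]
    exact bracket_congr hc (by rw [map_mul, L_spec, L_spec, L_spec, Ts_zero_mul]) rfl
  · intro x y y'
    show _ = ⁅L hs 0 x, L hs 0 y⁆ * ⁅L hs 0 x, L hs 0 y'⁆
    rw [← bracket_mul_right hc (L_comm hs 0 x y')]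
    exact bracket_congr hc rfl (by rw [map_mul, L_spec, L_spec, L_spec, Ts_zero_mul])
  · intro x; exact commutatorElement_self _
  · intro t ht x y
    obtain ⟨k, hk⟩ := exists_unit_sg (m := m) (t ^ 2) (pow_ne_zero 2 ht)
    refine bracket_conj hc (D hs k) (L_comm hs 0 x y) ?_ ?_
    · rw [D_conj, mul_zero, hk]
    · rw [D_conj, mul_zero, hk]

include hs hc in
theorem two_part [Finite Γ] (haz0 : ∀ a b : F, ⁅L hs a 0, L hs 0 b⁆ = 1) (hd : σ.ker ≤ commutator Γ) {z : Γ} (hz : σ z = 1)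
    (ho : orderOf z = 2) : False := by
  classical
  have := charTwo (F := F) (m := m)
  set U : Subgroup ↥(Cfsg.Sz F m) := unipotent
  have hzU : z ∈ (commutator (U.comap σ)).map (U.comap σ).subtype := by
    refine StemBasic.mem_commutator_of_index (by show σ z ∈ U; rw [hz]; exact U.one_mem)
      (hc hz) (hd hz) ?_
    rw [StemBasic.index_comap hs, ho, Nat.prime_two.coprime_iff_not_dvd]
    exact odd_index_unipotent
  set Zs : Subgroup Γ := (zHom : Multiplicative F →* ↥(Cfsg.Sz F m)).range.comap σ with hZs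
  have hcomm : ∀ x y : Zs, x * y = y * x := by
    rintro ⟨x, hx⟩ ⟨y, hy⟩
    obtain ⟨b, hb⟩ := hx
    obtain ⟨c, hc'⟩ := hy
    apply Subtype.ext
    show x * y = y * x
    rw [← commutatorElement_eq_one_iff_mul_comm,
      bracket_congr hc (a' := L hs 0 b.toAdd) (b' := L hs 0 c.toAdd) (by rw [← hb, L_spec]; rfl)
        (by rw [← hc', L_spec]; rfl)]
    exact zz_eq_one hs hc _ _
  let instCG : CommGroup Zs := { (inferInstance : Group Zs) with mul_comm := hcomm }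
  have hmemZ : ∀ b : F, L hs 0 b ∈ Zs := fun b => ⟨Multiplicative.ofAdd b, (L_spec hs 0 b).symm⟩
  have hconjZ : ∀ (k : Fˣ) (x : Γ), x ∈ Zs → D hs k * x * (D hs k)⁻¹ ∈ Zs := by
    rintro k x ⟨b, hb⟩
    refine ⟨Multiplicative.ofAdd ((k : F) * sg m (k : F) * b.toAdd), ?_⟩
    rw [MonoidHom.map_mul σ, MonoidHom.map_mul σ, MonoidHom.map_inv σ, D_spec, ← hb]
    show (Ts 0 _ : ↥(Cfsg.Sz F m)) = Hs k * Ts 0 b.toAdd * (Hs k)⁻¹
    rw [Hs_Ts, mul_zero]; rfl
  let cj : Fˣ → Zs →* Zs := fun k =>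
    { toFun := fun x => ⟨D hs k * x * (D hs k)⁻¹, hconjZ k x x.2⟩
      map_one' := Subtype.ext (by simp)
      map_mul' := fun x y => Subtype.ext (by simp) }
  let N : Zs →* Zs := ∏ k : Fˣ, cj k
  have hN : ∀ x, N x = ∏ k : Fˣ, cj k x := fun x => MonoidHom.finsetProd_apply _ _ _
  have hcjker : ∀ k (x : Zs), σ (x : Γ) = 1 → cj k x = x := fun k x hx => Subtype.ext (by
    show D hs k * x * (D hs k)⁻¹ = x
    rw [StemBasic.ker_comm hc hx, mul_inv_cancel_right])
  have hσN : ∀ x : Zs, σ (N x : Γ) = 1 := by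
    intro x
    obtain ⟨b, hb⟩ := x.2
    have key : ∀ S : Finset Fˣ, σ ((∏ k ∈ S, cj k x : Zs) : Γ) =
        Ts 0 (∑ k ∈ S, (k : F) * sg m (k : F) * b.toAdd) := by
      intro S
      induction S using Finset.induction with
      | empty => simp [Ts_zero]
      | insert k S hk ih =>
        rw [Finset.prod_insert hk, Finset.sum_insert hk, Subgroup.coe_mul, map_mul, ih]
        show σ (D hs k * x * (D hs k)⁻¹) * _ = _
        rw [map_mul, map_mul, map_inv, D_spec, ← hb]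
        show Hs k * Ts 0 b.toAdd * (Hs k)⁻¹ * _ = _
        rw [Hs_Ts, mul_zero, Ts_zero_mul]
    rw [hN, key, ← Finset.sum_mul, sum_scale, zero_mul, Ts_zero]
  have hcjcj : ∀ k l (x : Zs), cj k (cj l x) = cj (k * l) x := by
    intro k l x
    apply Subtype.ext
    show D hs k * (D hs l * x * (D hs l)⁻¹) * (D hs k)⁻¹ = D hs (k * l) * x * (D hs (k * l))⁻¹
    obtain ⟨w, hw, he⟩ := StemBasic.exists_ker_mul (σ := σ) (a := D hs k * D hs l) (b := D hs (k * l))
      (by rw [map_mul, D_spec, D_spec, D_spec, Hs_mul])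
    have e1 : w * (x : Γ) * w⁻¹ = (x : Γ) := by
      rw [← StemBasic.ker_comm hc hw (x : Γ), mul_inv_cancel_right]
    calc D hs k * (D hs l * x * (D hs l)⁻¹) * (D hs k)⁻¹
        = (D hs k * D hs l) * x * (D hs k * D hs l)⁻¹ := by simp only [mul_inv_rev, mul_assoc]
      _ = D hs (k * l) * (w * x * w⁻¹) * (D hs (k * l))⁻¹ := by
          rw [he]; simp only [mul_inv_rev, mul_assoc]
      _ = _ := by rw [e1]
  have hNinv : ∀ l x, N (cj l x) = N x := by
    intro l x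
    rw [hN, hN]
    simp only [hcjcj]
    exact Equiv.prod_comp (Equiv.mulRight l) fun k => cj k x
  -- the commutator pairing
  let f : F → F → Zs := fun a c => ⟨⁅L hs a 0, L hs c 0⁆, by
    refine ⟨Multiplicative.ofAdd (sg m a * c + sg m c * a), ?_⟩
    rw [map_commutatorElement, L_spec, L_spec, Ts_commutator]; rfl⟩
  have hsplit : ∀ a a' : F, σ (L hs (a + a') 0) = σ (L hs a 0 * L hs a' 0 * L hs 0 (sg m a * a')) := by
    intro a a'
    rw [map_mul, map_mul, L_spec, L_spec, L_spec, L_spec, Ts_mul, Ts_mul]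
    simp [CharTwo.add_self_eq_zero]
  have haz : ∀ a b : F, Commute (L hs a 0) (L hs 0 b) := fun a b =>
    commutatorElement_eq_one_iff_mul_comm.1 (haz0 a b)
  have hZcen : ∀ (x : Γ), x ∈ Zs → ∀ a b : F, Commute (L hs a b) x := by
    rintro x ⟨c, hc'⟩ a b
    refine commutatorElement_eq_one_iff_mul_comm.1 ?_
    rw [bracket_congr hc (a' := L hs a 0 * L hs 0 b) (b' := L hs 0 c.toAdd)
      (by rw [map_mul, L_spec, L_spec, L_spec, Ts_mul]; simp) (by rw [← hc', L_spec]; rfl),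
      bracket_mul_left hc (L_comm hs 0 b _), zz_eq_one hs hc, haz0, mul_one]
  have hfl : ∀ a a' c, f (a + a') c = f a c * f a' c := by
    intro a a' c
    apply Subtype.ext
    show ⁅L hs (a + a') 0, L hs c 0⁆ = ⁅L hs a 0, L hs c 0⁆ * ⁅L hs a' 0, L hs c 0⁆
    rw [bracket_congr hc (hsplit a a') rfl]
    have h1 : L hs 0 (sg m a * a') * L hs c 0 * (L hs 0 (sg m a * a'))⁻¹ = L hs c 0 := by
      rw [← (haz c _).eq, mul_inv_cancel_right]
    have h2 : L hs a 0 * ⁅L hs a' 0, L hs c 0⁆ * (L hs a 0)⁻¹ = ⁅L hs a' 0, L hs c 0⁆ := by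
      rw [(hZcen _ (f a' c).2 a 0).eq, mul_inv_cancel_right]
    have h3 : ⁅L hs a 0, L hs c 0⁆ * ⁅L hs a' 0, L hs c 0⁆ = ⁅L hs a' 0, L hs c 0⁆ * ⁅L hs a 0, L hs c 0⁆ :=
      congrArg Subtype.val (hcomm (f a c) (f a' c))
    rw [h3]
    nth_rewrite 1 [← h2]
    calc ⁅L hs a 0 * L hs a' 0 * L hs 0 (sg m a * a'), L hs c 0⁆
        = L hs a 0 * L hs a' 0 * (L hs 0 (sg m a * a') * L hs c 0 * (L hs 0 (sg m a * a'))⁻¹) *
            (L hs a 0 * L hs a' 0)⁻¹ * (L hs c 0)⁻¹ := by simp only [commutatorElement_def]; group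
      _ = _ := by rw [h1]; simp only [commutatorElement_def]; group
  have hfr : ∀ a c c', f a (c + c') = f a c * f a c' := by
    intro a c c'
    have hinv : ∀ x y, f x y = (f y x)⁻¹ := fun x y =>
      Subtype.ext (by show ⁅L hs x 0, L hs y 0⁆ = ⁅L hs y 0, L hs x 0⁆⁻¹; rw [commutatorElement_inv])
    rw [hinv a (c + c'), hfl, mul_inv, ← hinv, ← hinv]
  have hNf : ∀ a c, N (f a c) = 1 := by
    have h8 := eight_le_card (F := F) (m := m)
    have h4 : Fintype.card F ≠ 4 := by omega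
    have h9 : Fintype.card F ≠ 9 := by
      have h := natCard (F := F) (m := m)
      rw [Nat.card_eq_fintype_card] at h
      rw [h]; intro h'
      have : 2 ∣ 9 := h' ▸ dvd_pow_self 2 (by omega)
      omega
    intro a c
    refine pairing_eq_one h4 h9 (fun a c => N (f a c)) ?_ ?_ ?_ ?_ a c
    · intro x x' y; show N _ = _; rw [hfl, map_mul]
    · intro x y y'; show N _ = _; rw [hfr, map_mul]
    · intro x
      show N (f x x) = 1
      rw [show f x x = 1 from Subtype.ext (commutatorElement_self _), map_one]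
    · intro t ht x y
      show N (f (t ^ 2 * x) (t ^ 2 * y)) = N (f x y)
      rw [← hNinv (Units.mk0 (t ^ 2) (pow_ne_zero 2 ht)) (f x y)]
      congr 1
      refine Subtype.ext ?_
      show ⁅_, _⁆ = _ * ⁅_, _⁆ * _
      rw [conjugate_commutatorElement]
      exact bracket_congr hc (by rw [D_conj, mul_zero, Units.val_mk0]) (by rw [D_conj, mul_zero, Units.val_mk0])
  obtain ⟨w, hw, rfl⟩ := hzU
  have hMle : commutator (U.comap σ) ≤ (N.ker.map Zs.subtype).comap (U.comap σ).subtype := by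
    rw [_root_.commutator_def, Subgroup.commutator_le]
    intro g _ h _
    obtain ⟨a, b, hg⟩ := g.2
    obtain ⟨c, d, hh⟩ := h.2
    refine ⟨f a c, hNf a c, ?_⟩
    show ⁅L hs a 0, L hs c 0⁆ = ⁅(g : Γ), (h : Γ)⁆
    rw [bracket_congr hc (a := (g : Γ)) (b := (h : Γ)) (a' := L hs a 0 * L hs 0 b) (b' := L hs c 0 * L hs 0 d)
      (by rw [hg, map_mul, L_spec, L_spec, Ts_mul]; simp) (by rw [hh, map_mul, L_spec, L_spec, Ts_mul]; simp)]
    have h1 : L hs 0 b * (L hs c 0 * L hs 0 d) * (L hs 0 b)⁻¹ = L hs c 0 * L hs 0 d := by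
      have : Commute (L hs 0 b) (L hs c 0 * L hs 0 d) :=
        (haz c b).symm.mul_right (commutatorElement_eq_one_iff_mul_comm.1 (zz_eq_one hs hc b d))
      rw [this.eq, mul_inv_cancel_right]
    have h2 : L hs 0 d * (L hs a 0)⁻¹ * (L hs 0 d)⁻¹ = (L hs a 0)⁻¹ := by
      rw [← ((haz a d).inv_left).eq, mul_inv_cancel_right]
    symm
    calc ⁅L hs a 0 * L hs 0 b, L hs c 0 * L hs 0 d⁆
        = L hs a 0 * (L hs 0 b * (L hs c 0 * L hs 0 d) * (L hs 0 b)⁻¹) * (L hs a 0)⁻¹ *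
            ((L hs 0 d)⁻¹ * (L hs c 0)⁻¹) := by simp only [commutatorElement_def]; group
      _ = L hs a 0 * L hs c 0 * (L hs 0 d * (L hs a 0)⁻¹ * (L hs 0 d)⁻¹) * (L hs c 0)⁻¹ := by
          rw [h1]; simp only [mul_assoc]
      _ = _ := by rw [h2, commutatorElement_def]
  obtain ⟨x, hx, hxe⟩ := hMle hw
  change (x : Γ) = (w : Γ) at hxe
  have hz' : σ (x : Γ) = 1 := by rw [hxe]; exact hz
  have hpow : x ^ (Fintype.card F - 1) = 1 := by
    have h1 := hN x
    rw [MonoidHom.mem_ker.1 hx, Finset.prod_congr rfl (fun k _ => hcjker k x hz'), Finset.prod_const,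
      Finset.card_univ, Fintype.card_units] at h1
    exact h1.symm
  have hdvd : orderOf (x : Γ) ∣ Fintype.card F - 1 := by
    refine orderOf_dvd_of_pow_eq_one ?_
    simpa using congrArg (fun y : Zs => (y : Γ)) hpow
  rw [hxe, show (w : Γ) = (U.comap σ).subtype w from rfl, ho] at hdvd
  have h := natCard (F := F) (m := m)
  rw [Nat.card_eq_fintype_card] at h
  have : 2 ∣ Fintype.card F := h ▸ dvd_pow_self 2 (by omega)
  have := eight_le_card (F := F) (m := m)
  omega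

theorem ker_eq_bot {Γ : Type*} [Group Γ] [Finite Γ] {σ : Γ →* ↥(Cfsg.Sz F m)} (hσ : Cfsg.IsStemExtension σ)
    (haz0 : ∀ a b : F, ⁅L hσ.1 a 0, L hσ.1 0 b⁆ = 1) : σ.ker = ⊥ := by
  refine StemBasic.ker_eq_bot_of_primes fun ℓ hl z hz ho => ?_
  by_cases h2 : ℓ = 2
  · subst h2
    exact two_part hσ.1 hσ.2.1 haz0 hσ.2.2 hz ho
  · have : Fact ℓ.Prime := ⟨hl⟩
    let P : Sylow ℓ ↥(Cfsg.Sz F m) := default
    have hcyc := SuzukiGroupCentralizer.isCyclic_sylow_odd h2 P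
    obtain ⟨g₀, hg₀⟩ := IsCyclic.exists_generator (α := (P : Subgroup ↥(Cfsg.Sz F m)))
    obtain ⟨g, hg⟩ : ∃ g, zpowers g = (P : Subgroup ↥(Cfsg.Sz F m)) := by
      refine ⟨g₀, le_antisymm (zpowers_le.2 g₀.2) fun x hx => ?_⟩
      obtain ⟨k, hk⟩ := mem_zpowers_iff.1 (hg₀ ⟨x, hx⟩)
      exact mem_zpowers_iff.2 ⟨k, by simpa using congrArg Subtype.val hk⟩
    have hz1 : z = 1 := StemBasic.eq_one_of_kerFree hσ (StemBasic.kerFree_zpowers σ hσ.2.1 g) hz
      (by rw [ho, hl.coprime_iff_not_dvd, hg]; exact P.not_dvd_index)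
    rw [hz1, orderOf_one] at ho
    exact hl.ne_one ho.symm

end

section Eight

variable {F : Type*} [Field F] [Fintype F] [Param F 1]
variable {Γ : Type*} [Group Γ] {σ : Γ →* ↥(Cfsg.Sz F 1)} (hs : Function.Surjective σ)
  (hc : σ.ker ≤ center Γ)

theorem pow_seven {a : F} (ha : a ≠ 0) : a ^ 7 = 1 := by
  have h := pow_q (F := F) (m := 1) a
  refine mul_right_cancel₀ ha ?_
  rw [← pow_succ, one_mul]
  simpa using h

/-- The pairing at the first coordinate one. -/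
noncomputable def phi (x : F) : Γ := ⁅L hs 1 0, L hs 0 x⁆

include hc in
theorem phi_add (x y : F) : phi hs (x + y) = phi hs x * phi hs y := by
  rw [phi, phi, phi, ← bracket_mul_right hc (L_comm hs 1 0 y)]
  exact bracket_congr hc rfl (by rw [map_mul, L_spec, L_spec, L_spec, Ts_zero_mul])

include hc in
theorem phi_zero : phi hs (0 : F) = 1 := by
  have h := phi_add hs hc (0 : F) 0
  rw [add_zero] at h
  exact right_eq_mul.1 h

theorem sigma_phi (x : F) : σ (phi hs x) = 1 := bracket_mem_ker (L_comm hs 1 0 x)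

include hc in
theorem bracket_eq_phi (a b : F) : ⁅L hs a 0, L hs 0 b⁆ = phi hs (a ^ 2 * b) := by
  by_cases ha : a = 0
  · subst ha
    rw [zz_eq_one hs hc, zero_pow two_ne_zero, zero_mul, phi_zero hs hc]
  · have hsg : sg 1 a = a ^ 4 := by rw [sg]; norm_num
    refine bracket_conj hc (D hs (Units.mk0 a ha)) (L_comm hs 1 0 _) ?_ ?_
    · rw [D_conj, mul_zero, Units.val_mk0, mul_one]
    · rw [D_conj, mul_zero, Units.val_mk0, hsg]
      congr 1
      congr 1
      calc a * a ^ 4 * (a ^ 2 * b) = a ^ 7 * b := by ring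
        _ = b := by rw [pow_seven ha, one_mul]

theorem hall_witt {H : Type*} [Group H] (x y z : H) :
    (y * ⁅⁅x, y⁻¹⁆⁻¹, z⁆ * y⁻¹) * (z * ⁅⁅y, z⁻¹⁆⁻¹, x⁆ * z⁻¹) *
      (x * ⁅⁅z, x⁻¹⁆⁻¹, y⁆ * x⁻¹) = 1 := by
  simp only [commutatorElement_def]
  group

include hc in
theorem triple (a b c : F) :
    ⁅⁅L hs a 0, (L hs b 0)⁻¹⁆⁻¹, L hs c 0⁆ = (phi hs (c ^ 2 * (a ^ 4 * b + b ^ 4 * a)))⁻¹ := by
  have hsg : ∀ x : F, sg 1 x = x ^ 4 := fun x => by rw [sg]; norm_num
  have e : σ (⁅L hs a 0, (L hs b 0)⁻¹⁆⁻¹) = σ (L hs 0 (a ^ 4 * b + b ^ 4 * a)) := by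
    rw [map_inv, map_commutatorElement, map_inv, L_spec, L_spec, L_spec, Ts_inv, Ts_commutator,
      Ts_inv, sg_zero, mul_zero, add_zero, hsg, hsg]
  rw [bracket_congr hc e rfl, ← commutatorElement_inv, bracket_eq_phi hs hc]

include hc in
theorem jacobi (a b c : F) :
    phi hs (c ^ 2 * (a ^ 4 * b + b ^ 4 * a) + a ^ 2 * (b ^ 4 * c + c ^ 4 * b) +
      b ^ 2 * (c ^ 4 * a + a ^ 4 * c)) = 1 := by
  have h := hall_witt (L hs a 0) (L hs b 0) (L hs c 0)
  have hcen : ∀ (w : F) (g : Γ), g * (phi hs w)⁻¹ * g⁻¹ = (phi hs w)⁻¹ := fun w g => by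
    rw [StemBasic.ker_comm hc (show σ (phi hs w)⁻¹ = 1 by rw [map_inv, sigma_phi, inv_one]) g,
      mul_inv_cancel_right]
  rw [triple hs hc, triple hs hc, triple hs hc, hcen, hcen, hcen, ← mul_inv_rev, ← mul_inv_rev,
    inv_eq_one, ← phi_add hs hc, ← phi_add hs hc] at h
  rw [← h]
  congr 1
  ring

open Cfsg.Agent.SuzukiEightPG50 (F8)

/-- The parametrisation of a complement of the prime field. -/
def nu (p : ZMod 2 × ZMod 2) : F8 :=
  (if p.1 = 1 then ⟨2⟩ else 0) + (if p.2 = 1 then ⟨4⟩ else 0)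

theorem nu_add : ∀ p q, nu (p + q) = nu p + nu q := by decide +kernel

theorem nu_cover : ∀ y : F8, ∃ p, y = nu p ∨ y = nu p + 1 := by decide +kernel

theorem jacobi_value : (⟨4⟩ : F8) ^ 2 * (1 ^ 4 * ⟨2⟩ + ⟨2⟩ ^ 4 * 1) +
    1 ^ 2 * (⟨2⟩ ^ 4 * ⟨4⟩ + ⟨4⟩ ^ 4 * ⟨2⟩) + ⟨2⟩ ^ 2 * (⟨4⟩ ^ 4 * 1 + 1 ^ 4 * ⟨4⟩) = 1 := by
  decide +kernel

theorem upper [Finite Γ] (e : F8 ≃+* F) (hσ : Cfsg.IsStemExtension σ) :
    ∃ π : Multiplicative (ZMod 2 × ZMod 2) →* σ.ker, Function.Surjective π := by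
  have hs := hσ.1
  have hc := hσ.2.1
  let φ : Multiplicative F →* Γ :=
    MonoidHom.mk' (fun x => phi hs x.toAdd) fun x y => phi_add hs hc _ _
  have hφc : φ.range ≤ center Γ := by
    rintro _ ⟨x, rfl⟩
    exact hc (sigma_phi hs _)
  have : φ.range.Normal := ⟨fun x hx g => by
    rw [mem_center_iff.1 (hφc hx) g, mul_inv_cancel_right]; exact hx⟩
  let σ' : Γ ⧸ φ.range →* ↥(Cfsg.Sz F 1) := QuotientGroup.lift _ σ (by
    rintro _ ⟨x, rfl⟩; exact sigma_phi hs _)
  have hstem : Cfsg.IsStemExtension σ' := by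
    refine ⟨fun g => ?_, fun x hx => ?_, fun x hx => ?_⟩
    · obtain ⟨a, ha⟩ := hs g
      exact ⟨QuotientGroup.mk a, ha⟩
    · obtain ⟨a, rfl⟩ := QuotientGroup.mk_surjective x
      refine mem_center_iff.2 fun g => ?_
      obtain ⟨g, rfl⟩ := QuotientGroup.mk_surjective g
      rw [← QuotientGroup.mk_mul, ← QuotientGroup.mk_mul, mem_center_iff.1 (hc hx) g]
    · obtain ⟨a, rfl⟩ := QuotientGroup.mk_surjective x
      have := Subgroup.mem_map_of_mem (QuotientGroup.mk' φ.range) (hσ.2.2 hx)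
      rw [_root_.commutator_def, Subgroup.map_commutator] at this
      exact Subgroup.commutator_mono le_top le_top this
  have haz0 : ∀ a b : F, ⁅L hstem.1 a 0, L hstem.1 0 b⁆ = 1 := by
    intro a b
    rw [bracket_congr hstem.2.1 (a' := QuotientGroup.mk' _ (L hs a 0))
      (b' := QuotientGroup.mk' _ (L hs 0 b)) ((L_spec _ _ _).trans (L_spec hs _ _).symm)
      ((L_spec _ _ _).trans (L_spec hs _ _).symm), ← map_commutatorElement, bracket_eq_phi hs hc,
      QuotientGroup.mk'_apply, QuotientGroup.eq_one_iff]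
    exact ⟨Multiplicative.ofAdd _, rfl⟩
  have hbot := ker_eq_bot hstem haz0
  have hle : ∀ z, σ z = 1 → z ∈ φ.range := fun z hz => by
    rw [← QuotientGroup.eq_one_iff, ← Subgroup.mem_bot, ← hbot]
    exact hz
  have h1 : phi hs (1 : F) = 1 := by
    have h := jacobi hs hc (1 : F) (e ⟨2⟩) (e ⟨4⟩)
    have hv := congrArg e jacobi_value
    simp only [map_add, map_mul, map_pow, map_one] at hv
    rwa [hv] at h
  refine ⟨MonoidHom.mk' (fun p => ⟨phi hs (e (nu p.toAdd)), sigma_phi hs _⟩)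
    (fun p q => Subtype.ext ?_), fun z => ?_⟩
  · show phi hs (e (nu (p * q).toAdd)) = phi hs (e (nu p.toAdd)) * phi hs (e (nu q.toAdd))
    rw [toAdd_mul, nu_add, map_add, phi_add hs hc]
  · obtain ⟨x, hx⟩ := hle z z.2
    obtain ⟨p, hp | hp⟩ := nu_cover (e.symm x.toAdd)
    · refine ⟨Multiplicative.ofAdd p, Subtype.ext ?_⟩
      show phi hs (e (nu p)) = _
      rw [← hx, ← hp, RingEquiv.apply_symm_apply]
      rfl
    · refine ⟨Multiplicative.ofAdd p, Subtype.ext ?_⟩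
      show phi hs (e (nu p)) = _
      have hx' : x.toAdd = e (nu p) + 1 := by
        rw [← map_one e, ← map_add, ← hp, RingEquiv.apply_symm_apply]
      rw [← hx]
      show _ = phi hs x.toAdd
      rw [hx', phi_add hs hc, h1, mul_one]

end Eight

end Cfsg.Agent.StemSzEightUpper50
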