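import Cfsg.Agent.Lib.SchurMultiplierCover
import Cfsg.Prelude.Def_Classical

/-!
Moving Schur multipliers between universes, and the unitary groups between isomorphic fields.
-/

set_option autoImplicit false

namespace Cfsg.Agent.StemTransfer86

open Matrix

universe u v w

/-- A stem extension composed with an isomorphism. -/
theorem isStem_comp {Γ : Type u} {G : Type v} {G' : Type w} [Group Γ] [Group G] [Group G']
    {σ : Γ →* G} (hσ : Cfsg.IsStemExtension σ) (e : G ≃* G') :
    Cfsg.IsStemExtension (e.toMonoidHom.comp σ) ∧ (e.toMonoidHom.comp σ).ker = σ.ker := by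
  have hk : (e.toMonoidHom.comp σ).ker = σ.ker := by ext x; simp
  exact ⟨⟨e.surjective.comp hσ.1, hk ▸ hσ.2.1, hk ▸ hσ.2.2⟩, hk⟩

/-- The multiplier depends only on the isomorphism type. -/
theorem transfer {G : Type u} [Group G] {G₀ : Type} [Group G₀] [Finite G₀] (e : G ≃* G₀)
    {A : Type v} [CommGroup A] (hA : Cfsg.HasSchurMultiplier G₀ A) : Cfsg.HasSchurMultiplier G A := by
  obtain ⟨f⟩ := SchurMultiplierCover.hasSchurMultiplier_equiv hA
  refine ⟨?_, fun Δ _ _ τ hτ => ?_⟩
  · obtain ⟨⟨Γ, _, _, σ, hσ, ⟨g⟩⟩, -⟩ := hA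
    let σ' : ULift.{u} Γ →* G := e.symm.toMonoidHom.comp (σ.comp MulEquiv.ulift.toMonoidHom)
    obtain ⟨hs, hc, hd⟩ := hσ
    have hker : σ'.ker = σ.ker.comap (MulEquiv.ulift : ULift.{u} Γ ≃* Γ).toMonoidHom := by
      ext x
      simp only [MonoidHom.mem_ker, Subgroup.mem_comap, σ', MonoidHom.comp_apply,
        MulEquiv.coe_toMonoidHom, MulEquiv.map_eq_one_iff]
    refine ⟨ULift.{u} Γ, inferInstance, inferInstance, σ', ⟨?_, ?_, ?_⟩, ⟨?_⟩⟩
    · exact e.symm.surjective.comp (hs.comp MulEquiv.ulift.surjective)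
    · intro x hx
      rw [hker] at hx
      refine Subgroup.mem_center_iff.2 fun y => MulEquiv.ulift.injective ?_
      simpa using Subgroup.mem_center_iff.1 (hc hx) (MulEquiv.ulift y)
    · intro x hx
      rw [hker] at hx
      have h := Subgroup.mem_map_of_mem (MulEquiv.ulift.symm : Γ ≃* ULift.{u} Γ).toMonoidHom (hd hx)
      rw [commutator_def, Subgroup.map_commutator] at h
      rw [commutator_def]
      have e1 : (MulEquiv.ulift.symm : Γ ≃* ULift.{u} Γ).toMonoidHom
          ((MulEquiv.ulift : ULift.{u} Γ ≃* Γ).toMonoidHom x) = x := MulEquiv.ulift.symm_apply_apply x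
      rw [e1] at h
      exact Subgroup.commutator_mono le_top le_top h
    · let k : σ'.ker ≃* σ.ker :=
        { toFun := fun x => ⟨MulEquiv.ulift x.1, hker.le x.2⟩
          invFun := fun y => ⟨MulEquiv.ulift.symm y.1, hker.ge (by
            show (MulEquiv.ulift : ULift.{u} Γ ≃* Γ) (MulEquiv.ulift.symm y.1) ∈ σ.ker
            rw [MulEquiv.apply_symm_apply]; exact y.2)⟩
          left_inv := fun x => Subtype.ext (MulEquiv.ulift.symm_apply_apply _)
          right_inv := fun y => Subtype.ext (MulEquiv.ulift.apply_symm_apply _)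
          map_mul' := fun a b => Subtype.ext (map_mul _ _ _) }
      exact k.trans g
  · obtain ⟨h1, hk⟩ := isStem_comp hτ e
    obtain ⟨π, hπ⟩ := SchurMultiplierCover.exists_surjective_mult h1
    exact ⟨((MulEquiv.subgroupCongr hk).toMonoidHom.comp π).comp f.toMonoidHom,
      ((MulEquiv.subgroupCongr hk).surjective.comp hπ).comp f.surjective⟩

/-- Unitary groups over isomorphic fields. -/
theorem exists_psu_equiv {n q : ℕ} {F : Type u} [Field F] {K : Type v} [Field K] (e : F ≃+* K) :
    Nonempty (Cfsg.PSU n F q ≃* Cfsg.PSU n K q) := by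
  have hherm : ∀ {F : Type u} [Field F] {K : Type v} [Field K] (e : F →+* K) (x y : Fin n → F),
      Cfsg.hermForm n K q (e ∘ x) (e ∘ y) = e (Cfsg.hermForm n F q x y) := by
    intro F _ K _ e x y
    simp [Cfsg.hermForm, map_sum]
  let f : SpecialLinearGroup (Fin n) F ≃* SpecialLinearGroup (Fin n) K :=
    { toFun := SpecialLinearGroup.map e.toRingHom
      invFun := SpecialLinearGroup.map e.symm.toRingHom
      left_inv := fun g => by ext i j; simp
      right_inv := fun g => by ext i j; simp
      map_mul' := map_mul _ }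
  have hmem : ∀ g, g ∈ Cfsg.SU n F q ↔ f g ∈ Cfsg.SU n K q := by
    intro g
    have hcomm : ∀ x : Fin n → F, Cfsg.slToMat n K (f g) *ᵥ (e ∘ x) = e ∘ (Cfsg.slToMat n F g *ᵥ x) := by
      intro x
      funext i
      simp [f, Matrix.mulVec, dotProduct, map_sum]
    constructor
    · intro hg u v
      obtain ⟨x, rfl⟩ : ∃ x : Fin n → F, e ∘ x = u := ⟨e.symm ∘ u, by ext i; simp⟩
      obtain ⟨y, rfl⟩ : ∃ y : Fin n → F, e ∘ y = v := ⟨e.symm ∘ v, by ext i; simp⟩
      rw [hcomm, hcomm]
      exact (hherm e.toRingHom _ _).trans ((congrArg e (hg x y)).trans (hherm e.toRingHom x y).symm)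
    · intro hg x y
      have h := hg (e ∘ x) (e ∘ y)
      rw [hcomm, hcomm] at h
      exact e.injective ((hherm e.toRingHom _ _).symm.trans (h.trans (hherm e.toRingHom x y)))
  let g : Cfsg.SU n F q ≃* Cfsg.SU n K q :=
    { toFun := fun x => ⟨f x, (hmem x).1 x.2⟩
      invFun := fun y => ⟨f.symm y, (hmem _).2 (by rw [f.apply_symm_apply]; exact y.2)⟩
      left_inv := fun x => Subtype.ext (f.symm_apply_apply _)
      right_inv := fun y => Subtype.ext (f.apply_symm_apply _)
      map_mul' := fun a b => Subtype.ext (map_mul f _ _) }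
  refine ⟨QuotientGroup.congr _ _ g ?_⟩
  ext y
  constructor
  · rintro ⟨x, hx, rfl⟩
    refine Subgroup.mem_center_iff.2 fun z => ?_
    simpa using congrArg g (Subgroup.mem_center_iff.1 hx (g.symm z))
  · intro hy
    refine ⟨g.symm y, Subgroup.mem_center_iff.2 fun z => g.injective ?_, g.apply_symm_apply y⟩
    simpa using Subgroup.mem_center_iff.1 hy (g z)

end Cfsg.Agent.StemTransfer86
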