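import Cfsg.Agent.Lib.StemU62L2C0
import Cfsg.Agent.Lib.StemU62L2P0

/-! The table of level 2 is closed. -/

set_option autoImplicit false
set_option maxRecDepth 100000
set_option Elab.async false

namespace Cfsg.Agent.StemU62L2

open Cfsg.Agent.CosetCertCore Cfsg.Agent.CosetCertTable Cfsg.Agent.CosetCertOrder Cfsg.Agent.StemU62L2Data

/-- The facts hold up to `n`. -/
def Valid (n : Nat) : Prop :=
  ∀ {G X : Type} [Group G] [MulAction G X] (g : Nat → G) (base : X),
    Ctx g base cert → AllValid g (nodeVal g base cert) cert n

theorem Valid.step {lo n : Nat} (h : Valid lo) (L : List Nat)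
    (hn : (Nat.beq (lo + L.length) n && checkList cert L lo) = true) : Valid n := by
  rw [Bool.and_eq_true, Nat.beq_eq] at hn
  intro G X _ _ g base hC
  exact hn.1 ▸ checkList_sound g base hC L lo (h g base hC) hn.2

theorem valid0 : Valid 0 := fun _ _ _ _ h => absurd h (Nat.not_lt_zero _)

theorem valid4 : Valid 4 := Valid.step valid0 Cfsg.Agent.StemU62L2C0.just0 Cfsg.Agent.StemU62L2C0.check0

theorem points0 : AllBelow (pointOk cert 4 table) 0 := AllBelow.zero _

theorem points3 : AllBelow (pointOk cert 4 table) 3 :=
  AllBelow.step points0 3 Cfsg.Agent.StemU62L2P0.pts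

/-- The table is closed. -/
theorem closed : Closed cert 4 table where
  npos := by decide +kernel
  node0 := by decide +kernel
  points := points3
  facts := fun g base h => valid4 g base h

end Cfsg.Agent.StemU62L2
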