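import Cfsg.Agent.Lib.StemU62L6C0
import Cfsg.Agent.Lib.StemU62L6P0

/-! The table of level 6 is closed. -/

set_option autoImplicit false
set_option maxRecDepth 100000
set_option Elab.async false

namespace Cfsg.Agent.StemU62L6

open Cfsg.Agent.CosetCertCore Cfsg.Agent.CosetCertTable Cfsg.Agent.CosetCertOrder Cfsg.Agent.StemU62L6Data

/-- The facts hold up to `n`. -/
def Valid (n : Nat) : Prop :=
  ∀ {G X : Type} [Group G] [MulAction G X] (g : Nat → G) (base : X),
    Ctx g base cert → AllValid g (nodeVal g base cert) cert n

theorem Valid.step {lo n : Nat} (h : Valid lo) (L : List Nat)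
    (hn : (Nat.beq (lo + L.length) n && checkList cert L lo) = true) : Valid n := by
  rw [Bool.and_eq_true, Nat.beq_eq] at hn
  intro G X _ _ g base hC
  exact hn.1 ▸ checkList_sound g base hC L lo (h g base hC) hn.2

theorem valid0 : Valid 0 := fun _ _ _ _ h => absurd h (Nat.not_lt_zero _)

theorem valid500 : Valid 500 := Valid.step valid0 Cfsg.Agent.StemU62L6C0.just0 Cfsg.Agent.StemU62L6C0.check0

theorem valid1000 : Valid 1000 := Valid.step valid500 Cfsg.Agent.StemU62L6C0.just500 Cfsg.Agent.StemU62L6C0.check500

theorem valid1500 : Valid 1500 := Valid.step valid1000 Cfsg.Agent.StemU62L6C0.just1000 Cfsg.Agent.StemU62L6C0.check1000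

theorem valid2000 : Valid 2000 := Valid.step valid1500 Cfsg.Agent.StemU62L6C0.just1500 Cfsg.Agent.StemU62L6C0.check1500

theorem valid2016 : Valid 2016 := Valid.step valid2000 Cfsg.Agent.StemU62L6C0.just2000 Cfsg.Agent.StemU62L6C0.check2000

theorem points0 : AllBelow (pointOk cert 2016 table) 0 := AllBelow.zero _

theorem points528 : AllBelow (pointOk cert 2016 table) 528 :=
  AllBelow.step points0 528 Cfsg.Agent.StemU62L6P0.pts

/-- The table is closed. -/
theorem closed : Closed cert 2016 table where
  npos := by decide +kernel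
  node0 := by decide +kernel
  points := points528
  facts := fun g base h => valid2016 g base h

end Cfsg.Agent.StemU62L6
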