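import Cfsg.Agent.Lib.StemU62L7Data

/-! Points for level 7. -/

set_option autoImplicit false
set_option maxRecDepth 100000
set_option Elab.async false

namespace Cfsg.Agent.StemU62L7P0

open Cfsg.Agent.CosetCertCore Cfsg.Agent.CosetCertTable Cfsg.Agent.StemU62L7Data

theorem pts : allFrom (pointOk cert 34944 table) 1000 0 = true := by decide +kernel

end Cfsg.Agent.StemU62L7P0
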