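import Cfsg.Agent.Lib.StemU62L7C0
import Cfsg.Agent.Lib.StemU62L7C1
import Cfsg.Agent.Lib.StemU62L7C2
import Cfsg.Agent.Lib.StemU62L7C3
import Cfsg.Agent.Lib.StemU62L7C4
import Cfsg.Agent.Lib.StemU62L7C5
import Cfsg.Agent.Lib.StemU62L7C6
import Cfsg.Agent.Lib.StemU62L7C7
import Cfsg.Agent.Lib.StemU62L7C8
import Cfsg.Agent.Lib.StemU62L7C9
import Cfsg.Agent.Lib.StemU62L7C10
import Cfsg.Agent.Lib.StemU62L7C11
import Cfsg.Agent.Lib.StemU62L7P0
import Cfsg.Agent.Lib.StemU62L7P1
import Cfsg.Agent.Lib.StemU62L7P2
import Cfsg.Agent.Lib.StemU62L7P3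
import Cfsg.Agent.Lib.StemU62L7P4
import Cfsg.Agent.Lib.StemU62L7P5
import Cfsg.Agent.Lib.StemU62L7P6
import Cfsg.Agent.Lib.StemU62L7P7
import Cfsg.Agent.Lib.StemU62L7P8

/-! The table of level 7 is closed. -/

set_option autoImplicit false
set_option maxRecDepth 100000
set_option Elab.async false

namespace Cfsg.Agent.StemU62L7

open Cfsg.Agent.CosetCertCore Cfsg.Agent.CosetCertTable Cfsg.Agent.CosetCertOrder Cfsg.Agent.StemU62L7Data

/-- The facts hold up to `n`. -/
def Valid (n : Nat) : Prop :=
  ∀ {G X : Type} [Group G] [MulAction G X] (g : Nat → G) (base : X),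
    Ctx g base cert → AllValid g (nodeVal g base cert) cert n

theorem Valid.step {lo n : Nat} (h : Valid lo) (L : List Nat)
    (hn : (Nat.beq (lo + L.length) n && checkList cert L lo) = true) : Valid n := by
  rw [Bool.and_eq_true, Nat.beq_eq] at hn
  intro G X _ _ g base hC
  exact hn.1 ▸ checkList_sound g base hC L lo (h g base hC) hn.2

theorem valid0 : Valid 0 := fun _ _ _ _ h => absurd h (Nat.not_lt_zero _)

theorem valid500 : Valid 500 := Valid.step valid0 Cfsg.Agent.StemU62L7C0.just0 Cfsg.Agent.StemU62L7C0.check0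

theorem valid1000 : Valid 1000 := Valid.step valid500 Cfsg.Agent.StemU62L7C0.just500 Cfsg.Agent.StemU62L7C0.check500

theorem valid1500 : Valid 1500 := Valid.step valid1000 Cfsg.Agent.StemU62L7C0.just1000 Cfsg.Agent.StemU62L7C0.check1000

theorem valid2000 : Valid 2000 := Valid.step valid1500 Cfsg.Agent.StemU62L7C0.just1500 Cfsg.Agent.StemU62L7C0.check1500

theorem valid2500 : Valid 2500 := Valid.step valid2000 Cfsg.Agent.StemU62L7C0.just2000 Cfsg.Agent.StemU62L7C0.check2000

theorem valid3000 : Valid 3000 := Valid.step valid2500 Cfsg.Agent.StemU62L7C0.just2500 Cfsg.Agent.StemU62L7C0.check2500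

theorem valid3500 : Valid 3500 := Valid.step valid3000 Cfsg.Agent.StemU62L7C1.just3000 Cfsg.Agent.StemU62L7C1.check3000

theorem valid4000 : Valid 4000 := Valid.step valid3500 Cfsg.Agent.StemU62L7C1.just3500 Cfsg.Agent.StemU62L7C1.check3500

theorem valid4500 : Valid 4500 := Valid.step valid4000 Cfsg.Agent.StemU62L7C1.just4000 Cfsg.Agent.StemU62L7C1.check4000

theorem valid5000 : Valid 5000 := Valid.step valid4500 Cfsg.Agent.StemU62L7C1.just4500 Cfsg.Agent.StemU62L7C1.check4500

theorem valid5500 : Valid 5500 := Valid.step valid5000 Cfsg.Agent.StemU62L7C1.just5000 Cfsg.Agent.StemU62L7C1.check5000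

theorem valid6000 : Valid 6000 := Valid.step valid5500 Cfsg.Agent.StemU62L7C1.just5500 Cfsg.Agent.StemU62L7C1.check5500

theorem valid6500 : Valid 6500 := Valid.step valid6000 Cfsg.Agent.StemU62L7C2.just6000 Cfsg.Agent.StemU62L7C2.check6000

theorem valid7000 : Valid 7000 := Valid.step valid6500 Cfsg.Agent.StemU62L7C2.just6500 Cfsg.Agent.StemU62L7C2.check6500

theorem valid7500 : Valid 7500 := Valid.step valid7000 Cfsg.Agent.StemU62L7C2.just7000 Cfsg.Agent.StemU62L7C2.check7000

theorem valid8000 : Valid 8000 := Valid.step valid7500 Cfsg.Agent.StemU62L7C2.just7500 Cfsg.Agent.StemU62L7C2.check7500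

theorem valid8500 : Valid 8500 := Valid.step valid8000 Cfsg.Agent.StemU62L7C2.just8000 Cfsg.Agent.StemU62L7C2.check8000

theorem valid9000 : Valid 9000 := Valid.step valid8500 Cfsg.Agent.StemU62L7C2.just8500 Cfsg.Agent.StemU62L7C2.check8500

theorem valid9500 : Valid 9500 := Valid.step valid9000 Cfsg.Agent.StemU62L7C3.just9000 Cfsg.Agent.StemU62L7C3.check9000

theorem valid10000 : Valid 10000 := Valid.step valid9500 Cfsg.Agent.StemU62L7C3.just9500 Cfsg.Agent.StemU62L7C3.check9500

theorem valid10500 : Valid 10500 := Valid.step valid10000 Cfsg.Agent.StemU62L7C3.just10000 Cfsg.Agent.StemU62L7C3.check10000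

theorem valid11000 : Valid 11000 := Valid.step valid10500 Cfsg.Agent.StemU62L7C3.just10500 Cfsg.Agent.StemU62L7C3.check10500

theorem valid11500 : Valid 11500 := Valid.step valid11000 Cfsg.Agent.StemU62L7C3.just11000 Cfsg.Agent.StemU62L7C3.check11000

theorem valid12000 : Valid 12000 := Valid.step valid11500 Cfsg.Agent.StemU62L7C3.just11500 Cfsg.Agent.StemU62L7C3.check11500

theorem valid12500 : Valid 12500 := Valid.step valid12000 Cfsg.Agent.StemU62L7C4.just12000 Cfsg.Agent.StemU62L7C4.check12000

theorem valid13000 : Valid 13000 := Valid.step valid12500 Cfsg.Agent.StemU62L7C4.just12500 Cfsg.Agent.StemU62L7C4.check12500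

theorem valid13500 : Valid 13500 := Valid.step valid13000 Cfsg.Agent.StemU62L7C4.just13000 Cfsg.Agent.StemU62L7C4.check13000

theorem valid14000 : Valid 14000 := Valid.step valid13500 Cfsg.Agent.StemU62L7C4.just13500 Cfsg.Agent.StemU62L7C4.check13500

theorem valid14500 : Valid 14500 := Valid.step valid14000 Cfsg.Agent.StemU62L7C4.just14000 Cfsg.Agent.StemU62L7C4.check14000

theorem valid15000 : Valid 15000 := Valid.step valid14500 Cfsg.Agent.StemU62L7C4.just14500 Cfsg.Agent.StemU62L7C4.check14500

theorem valid15500 : Valid 15500 := Valid.step valid15000 Cfsg.Agent.StemU62L7C5.just15000 Cfsg.Agent.StemU62L7C5.check15000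

theorem valid16000 : Valid 16000 := Valid.step valid15500 Cfsg.Agent.StemU62L7C5.just15500 Cfsg.Agent.StemU62L7C5.check15500

theorem valid16500 : Valid 16500 := Valid.step valid16000 Cfsg.Agent.StemU62L7C5.just16000 Cfsg.Agent.StemU62L7C5.check16000

theorem valid17000 : Valid 17000 := Valid.step valid16500 Cfsg.Agent.StemU62L7C5.just16500 Cfsg.Agent.StemU62L7C5.check16500

theorem valid17500 : Valid 17500 := Valid.step valid17000 Cfsg.Agent.StemU62L7C5.just17000 Cfsg.Agent.StemU62L7C5.check17000

theorem valid18000 : Valid 18000 := Valid.step valid17500 Cfsg.Agent.StemU62L7C5.just17500 Cfsg.Agent.StemU62L7C5.check17500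

theorem valid18500 : Valid 18500 := Valid.step valid18000 Cfsg.Agent.StemU62L7C6.just18000 Cfsg.Agent.StemU62L7C6.check18000

theorem valid19000 : Valid 19000 := Valid.step valid18500 Cfsg.Agent.StemU62L7C6.just18500 Cfsg.Agent.StemU62L7C6.check18500

theorem valid19500 : Valid 19500 := Valid.step valid19000 Cfsg.Agent.StemU62L7C6.just19000 Cfsg.Agent.StemU62L7C6.check19000

theorem valid20000 : Valid 20000 := Valid.step valid19500 Cfsg.Agent.StemU62L7C6.just19500 Cfsg.Agent.StemU62L7C6.check19500

theorem valid20500 : Valid 20500 := Valid.step valid20000 Cfsg.Agent.StemU62L7C6.just20000 Cfsg.Agent.StemU62L7C6.check20000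

theorem valid21000 : Valid 21000 := Valid.step valid20500 Cfsg.Agent.StemU62L7C6.just20500 Cfsg.Agent.StemU62L7C6.check20500

theorem valid21500 : Valid 21500 := Valid.step valid21000 Cfsg.Agent.StemU62L7C7.just21000 Cfsg.Agent.StemU62L7C7.check21000

theorem valid22000 : Valid 22000 := Valid.step valid21500 Cfsg.Agent.StemU62L7C7.just21500 Cfsg.Agent.StemU62L7C7.check21500

theorem valid22500 : Valid 22500 := Valid.step valid22000 Cfsg.Agent.StemU62L7C7.just22000 Cfsg.Agent.StemU62L7C7.check22000

theorem valid23000 : Valid 23000 := Valid.step valid22500 Cfsg.Agent.StemU62L7C7.just22500 Cfsg.Agent.StemU62L7C7.check22500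

theorem valid23500 : Valid 23500 := Valid.step valid23000 Cfsg.Agent.StemU62L7C7.just23000 Cfsg.Agent.StemU62L7C7.check23000

theorem valid24000 : Valid 24000 := Valid.step valid23500 Cfsg.Agent.StemU62L7C7.just23500 Cfsg.Agent.StemU62L7C7.check23500

theorem valid24500 : Valid 24500 := Valid.step valid24000 Cfsg.Agent.StemU62L7C8.just24000 Cfsg.Agent.StemU62L7C8.check24000

theorem valid25000 : Valid 25000 := Valid.step valid24500 Cfsg.Agent.StemU62L7C8.just24500 Cfsg.Agent.StemU62L7C8.check24500

theorem valid25500 : Valid 25500 := Valid.step valid25000 Cfsg.Agent.StemU62L7C8.just25000 Cfsg.Agent.StemU62L7C8.check25000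

theorem valid26000 : Valid 26000 := Valid.step valid25500 Cfsg.Agent.StemU62L7C8.just25500 Cfsg.Agent.StemU62L7C8.check25500

theorem valid26500 : Valid 26500 := Valid.step valid26000 Cfsg.Agent.StemU62L7C8.just26000 Cfsg.Agent.StemU62L7C8.check26000

theorem valid27000 : Valid 27000 := Valid.step valid26500 Cfsg.Agent.StemU62L7C8.just26500 Cfsg.Agent.StemU62L7C8.check26500

theorem valid27500 : Valid 27500 := Valid.step valid27000 Cfsg.Agent.StemU62L7C9.just27000 Cfsg.Agent.StemU62L7C9.check27000

theorem valid28000 : Valid 28000 := Valid.step valid27500 Cfsg.Agent.StemU62L7C9.just27500 Cfsg.Agent.StemU62L7C9.check27500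

theorem valid28500 : Valid 28500 := Valid.step valid28000 Cfsg.Agent.StemU62L7C9.just28000 Cfsg.Agent.StemU62L7C9.check28000

theorem valid29000 : Valid 29000 := Valid.step valid28500 Cfsg.Agent.StemU62L7C9.just28500 Cfsg.Agent.StemU62L7C9.check28500

theorem valid29500 : Valid 29500 := Valid.step valid29000 Cfsg.Agent.StemU62L7C9.just29000 Cfsg.Agent.StemU62L7C9.check29000

theorem valid30000 : Valid 30000 := Valid.step valid29500 Cfsg.Agent.StemU62L7C9.just29500 Cfsg.Agent.StemU62L7C9.check29500

theorem valid30500 : Valid 30500 := Valid.step valid30000 Cfsg.Agent.StemU62L7C10.just30000 Cfsg.Agent.StemU62L7C10.check30000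

theorem valid31000 : Valid 31000 := Valid.step valid30500 Cfsg.Agent.StemU62L7C10.just30500 Cfsg.Agent.StemU62L7C10.check30500

theorem valid31500 : Valid 31500 := Valid.step valid31000 Cfsg.Agent.StemU62L7C10.just31000 Cfsg.Agent.StemU62L7C10.check31000

theorem valid32000 : Valid 32000 := Valid.step valid31500 Cfsg.Agent.StemU62L7C10.just31500 Cfsg.Agent.StemU62L7C10.check31500

theorem valid32500 : Valid 32500 := Valid.step valid32000 Cfsg.Agent.StemU62L7C10.just32000 Cfsg.Agent.StemU62L7C10.check32000

theorem valid33000 : Valid 33000 := Valid.step valid32500 Cfsg.Agent.StemU62L7C10.just32500 Cfsg.Agent.StemU62L7C10.check32500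

theorem valid33500 : Valid 33500 := Valid.step valid33000 Cfsg.Agent.StemU62L7C11.just33000 Cfsg.Agent.StemU62L7C11.check33000

theorem valid34000 : Valid 34000 := Valid.step valid33500 Cfsg.Agent.StemU62L7C11.just33500 Cfsg.Agent.StemU62L7C11.check33500

theorem valid34500 : Valid 34500 := Valid.step valid34000 Cfsg.Agent.StemU62L7C11.just34000 Cfsg.Agent.StemU62L7C11.check34000

theorem valid34944 : Valid 34944 := Valid.step valid34500 Cfsg.Agent.StemU62L7C11.just34500 Cfsg.Agent.StemU62L7C11.check34500

theorem points0 : AllBelow (pointOk cert 34944 table) 0 := AllBelow.zero _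

theorem points1000 : AllBelow (pointOk cert 34944 table) 1000 :=
  AllBelow.step points0 1000 Cfsg.Agent.StemU62L7P0.pts

theorem points2000 : AllBelow (pointOk cert 34944 table) 2000 :=
  AllBelow.step points1000 1000 Cfsg.Agent.StemU62L7P1.pts

theorem points3000 : AllBelow (pointOk cert 34944 table) 3000 :=
  AllBelow.step points2000 1000 Cfsg.Agent.StemU62L7P2.pts

theorem points4000 : AllBelow (pointOk cert 34944 table) 4000 :=
  AllBelow.step points3000 1000 Cfsg.Agent.StemU62L7P3.pts

theorem points5000 : AllBelow (pointOk cert 34944 table) 5000 :=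
  AllBelow.step points4000 1000 Cfsg.Agent.StemU62L7P4.pts

theorem points6000 : AllBelow (pointOk cert 34944 table) 6000 :=
  AllBelow.step points5000 1000 Cfsg.Agent.StemU62L7P5.pts

theorem points7000 : AllBelow (pointOk cert 34944 table) 7000 :=
  AllBelow.step points6000 1000 Cfsg.Agent.StemU62L7P6.pts

theorem points8000 : AllBelow (pointOk cert 34944 table) 8000 :=
  AllBelow.step points7000 1000 Cfsg.Agent.StemU62L7P7.pts

theorem points8064 : AllBelow (pointOk cert 34944 table) 8064 :=
  AllBelow.step points8000 64 Cfsg.Agent.StemU62L7P8.pts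

/-- The table is closed. -/
theorem closed : Closed cert 34944 table where
  npos := by decide +kernel
  node0 := by decide +kernel
  points := points8064
  facts := fun g base h => valid34944 g base h

end Cfsg.Agent.StemU62L7
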