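import Cfsg.Agent.Lib.CosetCertCore

/-! Conjugation relations among seven transvections, with their reduced forms. -/

set_option autoImplicit false
set_option maxRecDepth 100000
set_option Elab.async false

namespace Cfsg.Agent.StemU62Rels

/-- Two conjugates `w a w⁻¹ = v b v⁻¹`, the conjugating word and the reduced relator. -/
def rels : List (List Nat × Nat × List Nat × Nat × List Nat × List Nat) :=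
  [([0], 3, [], 3, [], [0, 3, 0, 3]),
   ([0], 6, [], 6, [], [0, 6, 0, 6]),
   ([1], 2, [], 2, [], [1, 2, 1, 2]),
   ([1], 6, [], 6, [], [1, 6, 1, 6]),
   ([2], 6, [], 6, [], [2, 6, 2, 6]),
   ([3], 6, [], 6, [], [3, 6, 3, 6]),
   ([4], 6, [], 6, [], [4, 6, 4, 6]),
   ([0], 1, [1], 0, [], [0, 1, 0, 1, 0, 1]),
   ([0], 2, [2], 0, [], [0, 2, 0, 2, 0, 2]),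
   ([0], 4, [4], 0, [], [0, 4, 0, 4, 0, 4]),
   ([0], 5, [5], 0, [], [0, 5, 0, 5, 0, 5]),
   ([1], 3, [3], 1, [], [1, 3, 1, 3, 1, 3]),
   ([1], 4, [4], 1, [], [1, 4, 1, 4, 1, 4]),
   ([1], 5, [5], 1, [], [1, 5, 1, 5, 1, 5]),
   ([2], 3, [3], 2, [], [2, 3, 2, 3, 2, 3]),
   ([2], 4, [4], 2, [], [2, 4, 2, 4, 2, 4]),
   ([2], 5, [5], 2, [], [2, 5, 2, 5, 2, 5]),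
   ([3], 4, [4], 3, [], [3, 4, 3, 4, 3, 4]),
   ([3], 5, [5], 3, [], [3, 5, 3, 5, 3, 5]),
   ([4], 5, [5], 4, [], [4, 5, 4, 5, 4, 5]),
   ([5], 6, [6], 5, [], [5, 6, 5, 6, 5, 6]),
   ([6, 1], 0, [1], 0, [], [6, 1, 0, 1, 6, 1, 0, 1]),
   ([4, 2], 0, [2], 0, [], [4, 2, 0, 2, 4, 2, 0, 2]),
   ([6, 2], 0, [2], 0, [], [6, 2, 0, 2, 6, 2, 0, 2]),
   ([2, 4], 0, [4], 0, [], [2, 4, 0, 4, 2, 4, 0, 4]),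
   ([6, 4], 0, [4], 0, [], [6, 4, 0, 4, 6, 4, 0, 4]),
   ([5, 3], 1, [3], 1, [], [5, 3, 1, 3, 5, 3, 1, 3]),
   ([6, 3], 1, [3], 1, [], [6, 3, 1, 3, 6, 3, 1, 3]),
   ([5, 4], 1, [4], 1, [], [5, 4, 1, 4, 5, 4, 1, 4]),
   ([6, 4], 1, [4], 1, [], [6, 4, 1, 4, 6, 4, 1, 4]),
   ([3, 5], 1, [5], 1, [], [3, 5, 1, 5, 3, 5, 1, 5]),
   ([4, 5], 1, [5], 1, [], [4, 5, 1, 5, 4, 5, 1, 5]),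
   ([4, 3], 2, [3], 2, [], [4, 3, 2, 3, 4, 3, 2, 3]),
   ([6, 3], 2, [3], 2, [], [6, 3, 2, 3, 6, 3, 2, 3]),
   ([3, 4], 2, [4], 2, [], [3, 4, 2, 4, 3, 4, 2, 4]),
   ([6, 4], 2, [4], 2, [], [6, 4, 2, 4, 6, 4, 2, 4]),
   ([6, 4], 3, [4], 3, [], [6, 4, 3, 4, 6, 4, 3, 4]),
   ([1, 2], 0, [2, 1], 0, [], [1, 2, 0, 2, 1, 2, 1, 0, 1, 2]),
   ([0, 3], 1, [3, 1], 0, [], [0, 3, 1, 3, 0, 3, 1, 0, 1, 3]),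
   ([0, 3], 2, [3, 2], 0, [], [0, 3, 2, 3, 0, 3, 2, 0, 2, 3]),
   ([1, 3], 2, [2, 3], 1, [], [1, 3, 2, 3, 1, 2, 3, 1, 3, 2]),
   ([1, 4], 2, [2, 4], 1, [], [1, 4, 2, 4, 1, 2, 4, 1, 4, 2]),
   ([1, 5], 2, [2, 5], 1, [], [1, 5, 2, 5, 1, 2, 5, 1, 5, 2]),
   ([0, 4], 3, [3, 4], 0, [], [0, 4, 3, 4, 0, 3, 4, 0, 4, 3]),
   ([0, 5], 3, [3, 5], 0, [], [0, 5, 3, 5, 0, 3, 5, 0, 5, 3]),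
   ([4, 5], 3, [0, 5], 2, [], [4, 5, 3, 5, 4, 0, 5, 2, 5, 0]),
   ([3, 5], 4, [2, 5], 0, [], [3, 5, 4, 5, 3, 2, 5, 0, 5, 2]),
   ([0, 6], 5, [6, 5], 0, [], [0, 6, 5, 6, 0, 6, 5, 0, 5, 6]),
   ([1, 6], 5, [6, 5], 1, [], [1, 6, 5, 6, 1, 6, 5, 1, 5, 6]),
   ([2, 6], 5, [6, 5], 2, [], [2, 6, 5, 6, 2, 6, 5, 2, 5, 6]),
   ([3, 6], 5, [6, 5], 3, [], [3, 6, 5, 6, 3, 6, 5, 3, 5, 6]),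
   ([4, 6], 5, [6, 5], 4, [], [4, 6, 5, 6, 4, 6, 5, 4, 5, 6]),
   ([3, 5, 2, 4], 1, [4, 5, 2, 1], 0, [], [3, 5, 2, 4, 1, 4, 2, 5, 3, 4, 5, 2, 1, 0, 1, 2, 5, 4]),
   ([4, 1, 5, 3], 2, [3, 2, 5, 1], 0, [], [4, 1, 5, 3, 2, 3, 5, 1, 4, 3, 2, 5, 1, 0, 1, 5, 2, 3]),
   ([5, 2, 3, 1], 0, [2, 3, 1], 0, [], [5, 2, 3, 1, 0, 1, 3, 2, 5, 2, 3, 1, 0, 1, 3, 2]),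
   ([4, 2, 1, 5], 0, [2, 1, 5], 0, [], [4, 2, 1, 5, 0, 5, 1, 2, 4, 2, 1, 5, 0, 5, 1, 2]),
   ([0, 3, 5, 1], 0, [3, 1, 5], 0, [], [0, 3, 5, 1, 0, 1, 5, 3, 0, 3, 1, 5, 0, 5, 1, 3]),
   ([2, 3, 2, 5], 1, [3, 2, 5], 1, [], [2, 3, 2, 5, 1, 5, 2, 3, 2, 3, 2, 5, 1, 5, 2, 3]),
   ([3, 5, 4], 0, [2, 5], 4, [], [3, 5, 4, 0, 4, 5, 3, 2, 5, 4, 5, 2]),
   ([0, 3, 2, 5], 1, [3, 0, 2, 5], 1, [], [0, 3, 2, 5, 1, 5, 2, 3, 0, 3, 0, 2, 5, 1, 5, 2, 0, 3]),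
   ([4, 6, 3, 5], 2, [6, 4, 3, 5], 2, [], [4, 6, 3, 5, 2, 5, 3, 6, 4, 6, 4, 3, 5, 2, 5, 3, 4, 6]),
   ([1, 6, 5], 2, [6, 2, 5], 1, [], [1, 6, 5, 2, 5, 6, 1, 6, 2, 5, 1, 5, 2, 6]),
   ([5, 2, 5, 1], 0, [2, 5, 2, 1], 0, [], [5, 2, 5, 1, 0, 1, 5, 2, 5, 2, 5, 2, 1, 0, 1, 2, 5, 2]),
   ([3, 6, 4, 5], 2, [6, 5, 3, 4], 0, [], [3, 6, 4, 5, 2, 5, 4, 6, 3, 6, 5, 3, 4, 0, 4, 3, 5, 6]),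
   ([4, 6, 5, 2], 0, [6, 4, 5, 2], 0, [], [4, 6, 5, 2, 0, 2, 5, 6, 4, 6, 4, 5, 2, 0, 2, 5, 4, 6]),
   ([0, 6, 5, 3], 2, [6, 4, 5], 2, [], [0, 6, 5, 3, 2, 3, 5, 6, 0, 6, 4, 5, 2, 5, 4, 6]),
   ([3, 6, 5, 2], 0, [6, 0, 5], 4, [], [3, 6, 5, 2, 0, 2, 5, 6, 3, 6, 0, 5, 4, 5, 0, 6]),
   ([1, 0, 5], 2, [5, 3, 4], 1, [], [1, 0, 5, 2, 5, 0, 1, 5, 3, 4, 1, 4, 3, 5]),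
   ([1, 5, 1, 4], 0, [4, 0, 5], 1, [], [1, 5, 1, 4, 0, 4, 1, 5, 1, 4, 0, 5, 1, 5, 0, 4]),
   ([3, 5, 3, 4], 1, [5, 3, 4], 1, [], [3, 5, 3, 4, 1, 4, 3, 5, 3, 5, 3, 4, 1, 4, 3, 5]),
   ([3, 6, 0, 5], 2, [6, 5, 4], 3, [], [3, 6, 0, 5, 2, 5, 0, 6, 3, 6, 5, 4, 3, 4, 5, 6]),
   ([3, 6, 4, 5], 0, [6, 5, 3, 2], 0, [], [3, 6, 4, 5, 0, 5, 4, 6, 3, 6, 5, 3, 2, 0, 2, 3, 5, 6]),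
   ([0, 3, 2, 1], 0, [3, 2, 1], 0, [], [0, 3, 2, 1, 0, 1, 2, 3, 0, 3, 2, 1, 0, 1, 2, 3]),
   ([3, 2, 3], 1, [2, 3], 1, [], [3, 2, 3, 1, 3, 2, 3, 2, 3, 1, 3, 2]),
   ([4, 3, 5], 0, [5, 3], 2, [], [4, 3, 5, 0, 5, 3, 4, 5, 3, 2, 3, 5]),
   ([0, 6, 5], 1, [6, 0, 5], 1, [], [0, 6, 5, 1, 5, 6, 0, 6, 0, 5, 1, 5, 0, 6]),
   ([0, 4, 1], 0, [1, 4], 0, [], [0, 4, 1, 0, 1, 4, 0, 1, 4, 0, 4, 1]),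
   ([2, 4, 1, 5], 0, [4, 1, 5], 0, [], [2, 4, 1, 5, 0, 5, 1, 4, 2, 4, 1, 5, 0, 5, 1, 4]),
   ([1, 2, 5], 0, [2, 1, 5], 0, [], [1, 2, 5, 0, 5, 2, 1, 2, 1, 5, 0, 5, 1, 2]),
   ([5, 3, 1, 5], 0, [3, 1, 5], 0, [], [5, 3, 1, 5, 0, 5, 1, 3, 5, 3, 1, 5, 0, 5, 1, 3]),
   ([1, 2, 4, 3], 1, [2, 3, 4], 1, [], [1, 2, 4, 3, 1, 3, 4, 2, 1, 2, 3, 4, 1, 4, 3, 2]),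
   ([6, 1, 4], 0, [1, 4], 0, [], [6, 1, 4, 0, 4, 1, 6, 1, 4, 0, 4, 1]),
   ([4, 6, 5], 2, [6, 4, 5], 2, [], [4, 6, 5, 2, 5, 6, 4, 6, 4, 5, 2, 5, 4, 6]),
   ([2, 4, 2, 3], 1, [3, 2, 4], 1, [], [2, 4, 2, 3, 1, 3, 2, 4, 2, 3, 2, 4, 1, 4, 2, 3]),
   ([5, 6, 5, 4], 3, [6, 5, 4], 3, [], [5, 6, 5, 4, 3, 4, 5, 6, 5, 6, 5, 4, 3, 4, 5, 6]),
   ([1, 6, 3, 5], 2, [6, 1, 3, 5], 2, [], [1, 6, 3, 5, 2, 5, 3, 6, 1, 6, 1, 3, 5, 2, 5, 3, 1, 6]),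
   ([5, 2, 3, 4], 1, [0, 2, 5], 1, [], [5, 2, 3, 4, 1, 4, 3, 2, 5, 0, 2, 5, 1, 5, 2, 0]),
   ([3, 6, 5, 1], 0, [6, 3, 5, 1], 0, [], [3, 6, 5, 1, 0, 1, 5, 6, 3, 6, 3, 5, 1, 0, 1, 5, 3, 6]),
   ([4, 5, 3, 4], 1, [5, 3, 4], 1, [], [4, 5, 3, 4, 1, 4, 3, 5, 4, 5, 3, 4, 1, 4, 3, 5]),
   ([5, 3, 5], 0, [3, 5], 0, [], [5, 3, 5, 0, 5, 3, 5, 3, 5, 0, 5, 3]),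
   ([3, 5, 4], 2, [4, 5, 2], 0, [], [3, 5, 4, 2, 4, 5, 3, 4, 5, 2, 0, 2, 5, 4]),
   ([5, 4, 5, 1], 0, [1, 0, 5], 4, [], [5, 4, 5, 1, 0, 1, 5, 4, 5, 1, 0, 5, 4, 5, 0, 1]),
   ([1, 4, 3, 2], 0, [4, 3, 2], 0, [], [1, 4, 3, 2, 0, 2, 3, 4, 1, 4, 3, 2, 0, 2, 3, 4]),
   ([1, 6, 2, 5], 4, [6, 2, 5], 4, [], [1, 6, 2, 5, 4, 5, 2, 6, 1, 6, 2, 5, 4, 5, 2, 6]),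
   ([1, 6, 2, 5], 0, [6, 2, 1, 5], 0, [], [1, 6, 2, 5, 0, 5, 2, 6, 1, 6, 2, 1, 5, 0, 5, 1, 2, 6]),
   ([2, 6, 5, 1], 0, [6, 2, 5, 1], 0, [], [2, 6, 5, 1, 0, 1, 5, 6, 2, 6, 2, 5, 1, 0, 1, 5, 2, 6]),
   ([2, 1, 5, 4], 2, [1, 4, 5], 2, [], [2, 1, 5, 4, 2, 4, 5, 1, 2, 1, 4, 5, 2, 5, 4, 1]),
   ([6, 3, 2], 0, [3, 2], 0, [], [6, 3, 2, 0, 2, 3, 6, 3, 2, 0, 2, 3]),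
   ([0, 2, 4, 1], 0, [2, 4, 1], 0, [], [0, 2, 4, 1, 0, 1, 4, 2, 0, 2, 4, 1, 0, 1, 4, 2]),
   ([1, 6, 4, 5], 2, [6, 1, 4, 5], 2, [], [1, 6, 4, 5, 2, 5, 4, 6, 1, 6, 1, 4, 5, 2, 5, 4, 1, 6]),
   ([0, 5, 3, 4], 1, [2, 5, 2, 1], 0, [], [0, 5, 3, 4, 1, 4, 3, 5, 0, 2, 5, 2, 1, 0, 1, 2, 5, 2]),
   ([4, 6, 3, 5], 0, [6, 5, 3], 2, [], [4, 6, 3, 5, 0, 5, 3, 6, 4, 6, 5, 3, 2, 3, 5, 6]),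
   ([4, 3, 1, 5], 0, [3, 1, 5], 0, [], [4, 3, 1, 5, 0, 5, 1, 3, 4, 3, 1, 5, 0, 5, 1, 3]),
   ([2, 0, 2, 3], 1, [1, 3, 2, 1], 0, [], [2, 0, 2, 3, 1, 3, 2, 0, 2, 1, 3, 2, 1, 0, 1, 2, 3, 1]),
   ([3, 4, 0, 5], 1, [1, 5, 3, 4], 0, [], [3, 4, 0, 5, 1, 5, 0, 4, 3, 1, 5, 3, 4, 0, 4, 3, 5, 1]),
   ([1, 5, 1], 0, [0, 5], 1, [], [1, 5, 1, 0, 1, 5, 1, 0, 5, 1, 5, 0]),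
   ([5, 2, 5], 0, [0, 5], 2, [], [5, 2, 5, 0, 5, 2, 5, 0, 5, 2, 5, 0]),
   ([1, 4, 3], 1, [3, 4], 1, [], [1, 4, 3, 1, 3, 4, 1, 3, 4, 1, 4, 3]),
   ([5, 1, 3, 5], 2, [1, 3, 5], 2, [], [5, 1, 3, 5, 2, 5, 3, 1, 5, 1, 3, 5, 2, 5, 3, 1]),
   ([0, 5, 2, 3], 1, [5, 2, 3], 1, [], [0, 5, 2, 3, 1, 3, 2, 5, 0, 5, 2, 3, 1, 3, 2, 5]),
   ([3, 4, 3], 1, [1, 4], 3, [], [3, 4, 3, 1, 3, 4, 3, 1, 4, 3, 4, 1]),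
   ([0, 4, 2, 1], 0, [2, 0, 4], 1, [], [0, 4, 2, 1, 0, 1, 2, 4, 0, 2, 0, 4, 1, 4, 0, 2]),
   ([3, 6, 0, 5], 1, [6, 0, 5], 1, [], [3, 6, 0, 5, 1, 5, 0, 6, 3, 6, 0, 5, 1, 5, 0, 6]),
   ([5, 3, 5], 2, [2, 5], 3, [], [5, 3, 5, 2, 5, 3, 5, 2, 5, 3, 5, 2]),
   ([6, 2, 3], 1, [2, 3], 1, [], [6, 2, 3, 1, 3, 2, 6, 2, 3, 1, 3, 2]),
   ([4, 2, 4, 3], 1, [3, 2, 4], 1, [], [4, 2, 4, 3, 1, 3, 4, 2, 4, 3, 2, 4, 1, 4, 2, 3]),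
   ([5, 1, 5, 2], 0, [1, 5, 2, 1], 0, [], [5, 1, 5, 2, 0, 2, 5, 1, 5, 1, 5, 2, 1, 0, 1, 2, 5, 1]),
   ([1, 5, 3, 1], 0, [3, 1, 5], 0, [], [1, 5, 3, 1, 0, 1, 3, 5, 1, 3, 1, 5, 0, 5, 1, 3]),
   ([4, 2, 4, 1], 0, [0, 2, 4], 1, [], [4, 2, 4, 1, 0, 1, 4, 2, 4, 0, 2, 4, 1, 4, 2, 0]),
   ([3, 6, 1, 5], 0, [6, 3, 1, 5], 0, [], [3, 6, 1, 5, 0, 5, 1, 6, 3, 6, 3, 1, 5, 0, 5, 1, 3, 6])]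

end Cfsg.Agent.StemU62Rels
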