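import Cfsg.Agent.Lib.StemU62Sign
import Cfsg.Agent.Lib.StemU62Rels
import Cfsg.Agent.Lib.StemBasic
import Cfsg.Agent.Lib.StemPairing
import Cfsg.Agent.Lib.StemU62L2
import Cfsg.Agent.Lib.StemU62L3
import Cfsg.Agent.Lib.StemU62L4
import Cfsg.Agent.Lib.StemU62L5
import Cfsg.Agent.Lib.StemU62L6
import Cfsg.Agent.Lib.StemU62L7

/-!
A stem extension of `PSU₆(2)` has order at most twelve times that of `PSU₆(2)`.
-/

set_option autoImplicit false
set_option maxRecDepth 100000
set_option linter.unusedSectionVars false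

namespace Cfsg.Agent.StemU62Bound

open Cfsg.Agent.CosetCertCore Cfsg.Agent.CosetCertTable Cfsg.Agent.CosetCertOrder
open Cfsg.Agent.StemU62Checks Cfsg.Agent.StemU62Points
open Subgroup

/-- Free reduction of a word in involutions, scanning from the left onto a stack. -/
def push (s : List ℕ) : ℕ → List ℕ := fun x =>
  match s with
  | [] => [x]
  | y :: t => if x = y then t else x :: y :: t

/-- The reduced word. -/
def fred (w : List ℕ) : List ℕ := (w.foldl push []).reverse

theorem val_push {G : Type} [Group G] (g : ℕ → G) (hg : ∀ x, g x * g x = 1) (s : List ℕ) (x : ℕ) :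
    val g (push s x).reverse = val g s.reverse * g x := by
  cases s with
  | nil => simp [push, CosetCertCore.val]
  | cons y t =>
    simp only [push]
    split_ifs with h
    · subst h
      simp [CosetCertCore.val, mul_assoc, hg]
    · simp [CosetCertCore.val, mul_assoc]

theorem val_fred {G : Type} [Group G] (g : ℕ → G) (hg : ∀ x, g x * g x = 1) (w : List ℕ) :
    val g (fred w) = val g w := by
  have : ∀ (w s : List ℕ), val g (w.foldl push s).reverse = val g s.reverse * val g w := by
    intro w
    induction w with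
    | nil => intro s; simp [CosetCertCore.val]
    | cons x w ih => intro s; rw [List.foldl_cons, ih, val_push g hg, val_cons, mul_assoc]
  rw [fred, this]
  simp [CosetCertCore.val]

/-- The word of a pair of conjugates. -/
def longWord (t : List ℕ × ℕ × List ℕ × ℕ × List ℕ × List ℕ) : List ℕ :=
  (t.1 ++ t.2.1 :: t.1.reverse) ++ (t.2.2.1 ++ t.2.2.2.1 :: t.2.2.1.reverse)

/-- The conjugates are at the same point and reduce to the stored relator. -/
noncomputable def relOk (t : List ℕ × ℕ × List ℕ × ℕ × List ℕ × List ℕ) : Bool :=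
  t.1.all (fun x => decide (x < 7)) && decide (t.2.1 < 7) &&
    t.2.2.1.all (fun x => decide (x < 7)) && decide (t.2.2.2.1 < 7) &&
    Nat.beq (run t.1.reverse (gp t.2.1)) (run t.2.2.1.reverse (gp t.2.2.2.1)) &&
    (fred (longWord t) == t.2.2.2.2.1 ++ t.2.2.2.2.2 ++ t.2.2.2.2.1.reverse)

theorem rels_ok : StemU62Rels.rels.all relOk = true := by decide +kernel

/-- The relators used by the certificates. -/
def relWords : List (List ℕ) :=
  ((List.range 7).map fun i => [i, i]) ++ StemU62Rels.rels.map fun t => t.2.2.2.2.2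

variable {F : Type} [Field F] [Fintype F] [UnitaryF4Geo.FourField F] {w : F} (hw : w ^ 2 = w + 1)

theorem psu_perfect : commutator (PSU 6 F 2) = ⊤ := by
  have h := OrthUnitaryPSU.commutator_eq_top (F := F) (n := 6) CosetCertU62.cardF (by norm_num)
    (by norm_num)
  have hs := QuotientGroup.mk'_surjective (Subgroup.center (SU 6 F 2))
  rw [_root_.commutator_def, ← Subgroup.map_top_of_surjective _ hs, ← Subgroup.map_commutator,
    ← _root_.commutator_def, h]

theorem val_inv {G : Type} [Group G] (g : ℕ → G) (hg : ∀ x, g x * g x = 1) :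
    ∀ l : List ℕ, val g l.reverse = (val g l)⁻¹
  | [] => by simp [CosetCertCore.val]
  | x :: l => by
    rw [List.reverse_cons, val_cons, mul_inv_rev, ← val_inv g hg l,
      inv_eq_of_mul_eq_one_right (hg x)]
    simp [CosetCertCore.val]

include hw

theorem conj_word {Γ : Type} [Group Γ] (σ : Γ →* PSU 6 F 2) (hs : Function.Surjective σ)
    (hc : σ.ker ≤ center Γ) (T : ℕ → Γ) (hT : ∀ x < 7, T x = StemU62Sign.L hw σ hs (gp x)) :
    ∀ u : List ℕ, (∀ x ∈ u, x < 7) → ∀ p < 693,
      val T u * StemU62Sign.L hw σ hs p * (val T u)⁻¹ = StemU62Sign.L hw σ hs (run u.reverse p) := by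
  intro u
  induction u with
  | nil => intro _ p _; simp [CosetCertCore.val, run]
  | cons x u ih =>
    intro hu p hp
    have hx := hu x (List.mem_cons_self ..)
    have hu' : ∀ y ∈ u, y < 7 := fun y hy => hu y (List.mem_cons_of_mem _ hy)
    have hlt : run u.reverse p < 693 :=
      run_lt _ (fun y hy => hu' y (List.mem_reverse.1 hy)) p hp
    rw [val_cons, List.reverse_cons, run_append, run_cons,
      show T x * val T u * StemU62Sign.L hw σ hs p * (T x * val T u)⁻¹ =
        T x * (val T u * StemU62Sign.L hw σ hs p * (val T u)⁻¹) * (T x)⁻¹ by group,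
      ih hu' p hp, show run [] (img (run u.reverse p) x) = img (run u.reverse p) x from rfl,
      ← StemU62Sign.equivariant hw σ hs hc hlt hx, hT x hx]
    set a := StemU62Sign.L hw σ hs (gp x)
    set s := StemU62Sign.S hw σ hs x
    set b := StemU62Sign.L hw σ hs (run u.reverse p)
    have hk : s⁻¹ * a ∈ center Γ := by
      refine hc ?_
      rw [MonoidHom.mem_ker, map_mul, map_inv, StemU62Sign.σ_S, StemU62Sign.σ_L hw σ hs (gp_lt hx),
        inv_mul_cancel]
    calc a * b * a⁻¹ = s * ((s⁻¹ * a) * b) * (s⁻¹ * a)⁻¹ * s⁻¹ := by group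
      _ = _ := by rw [← mem_center_iff.1 hk b]; group

theorem card_le {Γ : Type} [Group Γ] [Finite Γ] (σ : Γ →* PSU 6 F 2)
    (hσ : Cfsg.IsStemExtension σ) : Nat.card Γ ≤ 110361968640 := by
  classical
  obtain ⟨hs, hc, hd⟩ := hσ
  set T : ℕ → Γ := fun x => if x < 7 then StemU62Sign.L hw σ hs (gp x) else StemU62Sign.L hw σ hs 0
    with hTdef
  have hT : ∀ x < 7, T x = StemU62Sign.L hw σ hs (gp x) := fun x hx => if_pos hx
  set z := StemU62Sign.S hw σ hs 0 * StemU62Sign.S hw σ hs 0 with hz
  have hTsq : ∀ x, T x * T x = z := fun x => by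
    simp only [hTdef]
    split_ifs with h
    · exact StemU62Sign.L_sq hw σ hs hc (gp_lt h)
    · exact StemU62Sign.L_sq hw σ hs hc (by norm_num)
  set N := orderOf z with hN
  have hN0 : 0 < N := orderOf_pos z
  let C := Multiplicative (ZMod (2 * N))
  haveI : NeZero (2 * N) := ⟨by omega⟩
  let one : C := Multiplicative.ofAdd 1
  let P : ℕ → Γ × C := fun x => (T x, one)
  set e : Γ × C := (z, one * one) with he
  have hPsq : ∀ x, P x * P x = e := fun x => Prod.ext (hTsq x) rfl
  have hzc : z ∈ center Γ := by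
    rw [hz]; exact StemU62Sign.S_sq_center hw σ hs hc 0
  have hec : e ∈ center (Γ × C) :=
    mem_center_iff.2 fun g => Prod.ext (mem_center_iff.1 hzc g.1) (mul_comm _ _)
  set Z := zpowers e with hZ
  haveI hn : Z.Normal := ⟨fun n hn g => by
    rw [mem_center_iff.1 (zpowers_le.2 hec hn) g, mul_inv_cancel_right]; exact hn⟩
  let g : ℕ → (Γ × C) ⧸ Z := fun x => QuotientGroup.mk (P x)
  have hg : ∀ x, g x * g x = 1 := fun x => by
    rw [← QuotientGroup.mk_mul, hPsq]
    exact (QuotientGroup.eq_one_iff _).2 (mem_zpowers e)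
  have valP : ∀ u : List ℕ, val g u = QuotientGroup.mk (val P u) := fun u => by
    induction u with
    | nil => rfl
    | cons x u ih => rw [val_cons, val_cons, ih]; rfl
  have fstP : ∀ u : List ℕ, (val P u).1 = val T u ∧ (val P u).2 = one ^ u.length := fun u => by
    induction u with
    | nil => exact ⟨rfl, (pow_zero _).symm⟩
    | cons x u ih =>
      rw [val_cons, val_cons, Prod.fst_mul, Prod.snd_mul, ih.1, ih.2, List.length_cons, pow_succ']
      exact ⟨rfl, rfl⟩
  -- the relations
  have hrel : ∀ u ∈ relWords, val g u = 1 := by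
    intro u hu
    rcases List.mem_append.1 hu with hu | hu
    · obtain ⟨i, -, rfl⟩ := List.mem_map.1 hu
      simp [CosetCertCore.val, hg]
    · obtain ⟨⟨a, i, b, j, c, r⟩, ht, rfl⟩ := List.mem_map.1 hu
      have h := List.all_eq_true.1 rels_ok _ ht
      simp only [relOk, Bool.and_eq_true, decide_eq_true_eq, List.all_eq_true, Nat.beq_eq,
        beq_iff_eq] at h
      obtain ⟨⟨⟨⟨⟨ha, hi⟩, hb⟩, hj⟩, hrun⟩, hred⟩ := h
      show val g r = 1
      have key : ∀ (a : List ℕ) (i : ℕ), (∀ x ∈ a, x < 7) → i < 7 →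
          val g (a ++ i :: a.reverse) =
            QuotientGroup.mk ((StemU62Sign.L hw σ hs (run a.reverse (gp i)), one) : Γ × C) := by
        intro a i ha hi
        have h1 : val g (a ++ i :: a.reverse) = val g a * g i * (val g a)⁻¹ := by
          rw [CosetCertPres.val_append, val_cons, val_inv g hg, mul_assoc]
        rw [h1, valP, ← QuotientGroup.mk_inv, ← QuotientGroup.mk_mul, ← QuotientGroup.mk_mul]
        refine congrArg _ (Prod.ext ?_ ?_)
        · simp only [Prod.fst_mul, Prod.fst_inv, (fstP a).1, P, hT i hi]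
          exact conj_word hw σ hs hc T hT a ha _ (gp_lt hi)
        · simp only [Prod.snd_mul, Prod.snd_inv, (fstP a).2, P]
          rw [mul_comm (one ^ _) one, mul_inv_cancel_right]
      have hW : val g ((a ++ i :: a.reverse) ++ (b ++ j :: b.reverse)) = 1 := by
        rw [CosetCertPres.val_append, key a i ha hi, key b j hb hj, hrun, ← QuotientGroup.mk_mul]
        refine (QuotientGroup.eq_one_iff _).2 ?_
        have he2 : ((StemU62Sign.L hw σ hs (run b.reverse (gp j)), one) : Γ × C) *
            (StemU62Sign.L hw σ hs (run b.reverse (gp j)), one) = e :=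
          Prod.ext (StemU62Sign.L_sq hw σ hs hc
            (run_lt _ (fun x hx => hb x (List.mem_reverse.1 hx)) _ (gp_lt hj))) rfl
        rw [he2]
        exact mem_zpowers e
      rw [← val_fred g hg] at hW
      rw [show fred ((a ++ i :: a.reverse) ++ (b ++ j :: b.reverse)) = c ++ r ++ c.reverse from hred,
        CosetCertPres.val_append, CosetCertPres.val_append, val_inv g hg, mul_inv_eq_one,
        mul_eq_left] at hW
      exact hW
  have rels_of : ∀ (C : Cert) (σ : List ℕ),
      (C.rels.all fun u => decide (u.map (ren σ) ∈ relWords)) = true →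
        ∀ u ∈ C.rels, val g (u.map (ren σ)) = 1 := by
    intro C σ h u hu
    simp only [List.all_eq_true, decide_eq_true_eq] at h
    exact hrel _ (h u hu)
  have sgens_of : ∀ (C : Cert) (σ τ : List ℕ), C.sgens.map (List.map (ren σ)) = τ.map (fun i => [i]) →
      ∀ u ∈ C.sgens, val g (u.map (ren σ)) ∈ span g τ := by
    intro C σ τ h u hu
    have h1 : u.map (ren σ) ∈ τ.map fun i => [i] := h ▸ List.mem_map_of_mem hu
    obtain ⟨i, hi, hiu⟩ := List.mem_map.1 h1
    rw [← hiu, val_cons, val_nil, mul_one]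
    exact Subgroup.subset_closure ⟨i, hi, rfl⟩
  -- the chain
  have b1 : Finite (span g [0]) ∧ Nat.card (span g [0]) ≤ 2 := by
    have e1 : span g [0] = zpowers (g 0) := by
      rw [span, zpowers_eq_closure]; congr 1; ext y; simp
    rw [e1]
    haveI : Finite (zpowers (g 0)) := Finite.of_injective _ Subtype.val_injective
    exact ⟨inferInstance, by
      rw [Nat.card_zpowers]
      exact Nat.le_of_dvd two_pos (orderOf_dvd_of_pow_eq_one (by rw [pow_two, hg]))⟩
  have b2 := span_card_le g hg StemU62L2.closed (σ := [0, 1]) (by decide +kernel) (by simp)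
    (rels_of _ _ (by decide +kernel)) (τ := [0]) (by decide +kernel)
    (sgens_of _ _ _ (by decide +kernel)) b1
  have b3 := span_card_le g hg StemU62L3.closed (σ := [0, 1, 2]) (by decide +kernel) (by simp)
    (rels_of _ _ (by decide +kernel)) (τ := [0, 1]) (by decide +kernel)
    (sgens_of _ _ _ (by decide +kernel)) b2
  have b4 := span_card_le g hg StemU62L4.closed (σ := [0, 1, 2, 3]) (by decide +kernel) (by simp)
    (rels_of _ _ (by decide +kernel)) (τ := [0, 1, 2]) (by decide +kernel)
    (sgens_of _ _ _ (by decide +kernel)) b3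
  have b5 := span_card_le g hg StemU62L5.closed (σ := [0, 1, 2, 3, 4]) (by decide +kernel) (by simp)
    (rels_of _ _ (by decide +kernel)) (τ := [0, 1, 2, 3]) (by decide +kernel)
    (sgens_of _ _ _ (by decide +kernel)) b4
  have b6 := span_card_le g hg StemU62L6.closed (σ := [0, 1, 2, 3, 4, 5]) (by decide +kernel)
    (by simp) (rels_of _ _ (by decide +kernel)) (τ := [0, 1, 2, 3, 4]) (by decide +kernel)
    (sgens_of _ _ _ (by decide +kernel)) b5
  have b7 := span_card_le g hg StemU62L7.closed (σ := [0, 1, 2, 3, 4, 5, 6]) (by decide +kernel)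
    (by simp) (rels_of _ _ (by decide +kernel)) (τ := [0, 1, 2, 3, 4, 5]) (by decide +kernel)
    (sgens_of _ _ _ (by decide +kernel)) b6
  -- everything is generated
  set H := (span g [0, 1, 2, 3, 4, 5, 6]).comap (QuotientGroup.mk' Z) with hH
  have hPH : ∀ x < 7, P x ∈ H := fun x hx => by
    refine Subgroup.mem_comap.2 (Subgroup.subset_closure ⟨x, ?_, rfl⟩)
    simp only [List.mem_cons, List.not_mem_nil, or_false]
    omega
  have hperf : commutator Γ = ⊤ := StemBasic.commutator_eq_top_of_stem ⟨hs, hc, hd⟩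
    (psu_perfect (F := F))
  have hmap : (H.map (MonoidHom.fst Γ C)).map σ = ⊤ := by
    rw [eq_top_iff, ← closure_gens hw, closure_le]
    rintro _ ⟨x, hx, rfl⟩
    refine ⟨T x, ⟨P x, hPH x hx, rfl⟩, ?_⟩
    rw [hT x hx, StemU62Sign.σ_L hw σ hs (gp_lt hx)]
  have hfst : H.map (MonoidHom.fst Γ C) = ⊤ := by
    rw [eq_top_iff, ← hperf, _root_.commutator_def, Subgroup.commutator_le]
    intro a _ b _
    obtain ⟨a', ha', haa⟩ : σ a ∈ (H.map (MonoidHom.fst Γ C)).map σ := hmap ▸ mem_top _
    obtain ⟨b', hb', hbb⟩ : σ b ∈ (H.map (MonoidHom.fst Γ C)).map σ := hmap ▸ mem_top _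
    rw [StemPairing.bracket_congr hc haa.symm hbb.symm, commutatorElement_def]
    exact mul_mem (mul_mem (mul_mem ha' hb') (inv_mem ha')) (inv_mem hb')
  have hΓ1 : ∀ a : Γ, (a, (1 : C)) ∈ H := by
    intro a
    have h : a ∈ (⁅H, H⁆).map (MonoidHom.fst Γ C) := by
      rw [Subgroup.map_commutator, hfst, ← _root_.commutator_def, hperf]; trivial
    obtain ⟨y, hy, rfl⟩ := h
    have hy2 : y.2 = 1 := by
      have : ⁅H, H⁆ ≤ (MonoidHom.snd Γ C).ker := by
        rw [Subgroup.commutator_le]
        intro p _ q _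
        rw [MonoidHom.mem_ker, map_commutatorElement, commutatorElement_eq_one_iff_mul_comm]
        exact mul_comm _ _
      exact this hy
    have hy' : y = (y.1, 1) := Prod.ext rfl hy2
    simp only [MonoidHom.coe_fst]
    rw [← hy']
    exact (Subgroup.commutator_le.mpr fun p hp q hq =>
      H.mul_mem (H.mul_mem (H.mul_mem hp hq) (H.inv_mem hp)) (H.inv_mem hq)) hy
  have hHtop : H = ⊤ := by
    rw [eq_top_iff]
    rintro ⟨a, c⟩ -
    have h1 : ((1 : Γ), one) ∈ H := by
      have := H.mul_mem (hΓ1 (T 0)⁻¹) (hPH 0 (by norm_num))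
      simpa [P] using this
    have h2 : c = one ^ (Multiplicative.toAdd c).val := by
      rw [← ofAdd_nsmul, nsmul_one, ZMod.natCast_zmod_val]; rfl
    have := H.mul_mem (hΓ1 a) (H.pow_mem h1 (Multiplicative.toAdd c).val)
    rwa [Prod.pow_mk, one_pow, Prod.mk_mul_mk, mul_one, one_mul, ← h2] at this
  have htop : span g [0, 1, 2, 3, 4, 5, 6] = ⊤ :=
    Subgroup.comap_injective (QuotientGroup.mk'_surjective Z)
      (by rw [← hH, hHtop, Subgroup.comap_top])
  have hq : Nat.card ((Γ × C) ⧸ Z) ≤ 8064 * (528 * (80 * (27 * (4 * (3 * 2))))) := by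
    rw [← Subgroup.card_top (G := (Γ × C) ⧸ Z), ← htop]
    exact b7.2.trans (le_of_eq (by decide +kernel))
  have hZc : Nat.card Z ≤ N := by
    rw [hZ, Nat.card_zpowers]
    refine Nat.le_of_dvd hN0 (orderOf_dvd_of_pow_eq_one (Prod.ext (pow_orderOf_eq_one z) ?_))
    show (one * one) ^ N = 1
    rw [← ofAdd_add, ← ofAdd_nsmul]
    exact congrArg Multiplicative.ofAdd (by
      rw [nsmul_eq_mul, show (1 : ZMod (2 * N)) + 1 = 2 by norm_num]
      have := ZMod.natCast_self (2 * N)
      push_cast at this
      linear_combination this)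
  have hcount := Subgroup.card_eq_card_quotient_mul_card_subgroup Z
  rw [Nat.card_prod, Nat.card_congr (Multiplicative.toAdd : C ≃ _), Nat.card_zmod] at hcount
  have := Nat.mul_le_mul hq hZc
  rw [← hcount] at this
  norm_num at this
  nlinarith

theorem card_ker_le {Γ : Type} [Group Γ] [Finite Γ] (σ : Γ →* PSU 6 F 2)
    (hσ : Cfsg.IsStemExtension σ) : Nat.card σ.ker ≤ 12 := by
  have h := card_le hw σ hσ
  rw [← Subgroup.card_mul_index σ.ker, Subgroup.index_ker,
    MonoidHom.range_eq_top.2 hσ.1, Subgroup.card_top, CosetCertU62.card_psu] at h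
  omega

end Cfsg.Agent.StemU62Bound
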