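import Cfsg.Agent.Lib.StemU62Data
import Cfsg.Agent.Lib.CosetCertU62
import Cfsg.Agent.Lib.CenSplitStable50

/-!
Kernel checks of the point tables and of the elimination for the sign system on the 693 isotropic points.
-/

set_option autoImplicit false
set_option maxRecDepth 100000
set_option Elab.async false

namespace Cfsg.Agent.StemU62Checks

open Cfsg.Agent.CosetCertCore Cfsg.Agent.CosetCertTable Cfsg.Agent.StemU62Data
open Cfsg.Agent.CosetCertU62 (dig mulF hC scaled)

/-- Number of unknowns. -/
abbrev V : Nat := 2360

/-- Vector of a point. -/
noncomputable def vc (p : Nat) : Nat := entry vcTbl 16 p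
/-- Image of a point. -/
noncomputable def img (p x : Nat) : Nat := Nat.land (Nat.shiftRight (entry moveTbl 140 p) (20 * x)) 1048575
/-- Unknown of an edge, plus one. -/
noncomputable def vmv (p x : Nat) : Nat := Nat.land (Nat.shiftRight (entry vmTbl 112 p) (16 * x)) 65535
/-- Centre of a generator. -/
def gp (x : Nat) : Nat := gpos.getD x 0
/-- Mask of a step. -/
noncomputable def mask (i : Nat) : Nat := chunk maskTbl i
/-- Parent code of a point. -/
noncomputable def par (q : Nat) : Nat := entry parTbl 24 q
/-- Edge code of an unknown. -/
noncomputable def rep (j : Nat) : Nat := entry repTbl 24 j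

/-- The vector of a point is isotropic. -/
noncomputable def isoOk (p : Nat) : Bool :=
  Nat.blt (vc p) 4096 && !(Nat.beq (vc p) 0) && Nat.beq (hC (vc p) (vc p)) 0

/-- The generator `x` moves the point `p` as the transvection does. -/
noncomputable def moveOk (p x : Nat) : Bool :=
  Nat.blt (img p x) 693 && Nat.beq (img (img p x) x) p &&
    scaled (vc (img p x))
      (fun d => dig (vc p) d ^^^ mulF (hC (vc p) (vc (gp x))) (dig (vc (gp x)) d))

/-- Every isotropic vector is a multiple of a listed one. -/
noncomputable def idxOk (v : Nat) : Bool :=
  Nat.beq v 0 || !(Nat.beq (hC v v) 0) ||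
    force (entry idxTbl 16 v) fun i => Nat.blt i 693 && scaled (vc i) (fun d => dig v d)

/-- An edge with value zero. -/
noncomputable def zeroOk (p x : Nat) : Bool :=
  force (img p x) fun q =>
    (!(Nat.beq q 0) && Nat.beq (par q) (p * 16 + x)) ||
      (!(Nat.beq p 0) && Nat.beq (par p) (q * 16 + x)) || (Nat.beq p (gp x) && Nat.beq q p)

/-- The unknown of an edge is sound. -/
noncomputable def varOk (p x : Nat) : Bool :=
  force (vmv p x) fun v =>
    cond (Nat.beq v 0) (zeroOk p x)
      (Nat.ble v V && (Nat.beq (rep (v - 1)) (p * 16 + x) || Nat.beq (rep (v - 1)) (img p x * 16 + x)))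

/-- The parent of a point is sound. -/
noncomputable def parOk (q : Nat) : Bool :=
  Nat.beq q 0 ||
    (Nat.blt (par q / 16) q && Nat.blt (par q % 16) 7 && Nat.beq (img (par q / 16) (par q % 16)) q)

/-- Image of a point under a word. -/
noncomputable def run (w : List Nat) : Nat → Nat :=
  List.rec (motive := fun _ => Nat → Nat) (fun p => p) (fun x _ ih p => force (img p x) ih) w

/-- Sum of the unknowns along a path. -/
noncomputable def cycMask (w : List Nat) : Nat → Nat :=
  List.rec (motive := fun _ => Nat → Nat) (fun _ => 0)
    (fun x _ ih p => force (vmv p x) fun v =>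
      cond (Nat.beq v 0) 0 (Nat.shiftLeft 1 (v - 1)) ^^^ force (img p x) ih) w

/-- All generators are below seven. -/
def wordsOk : Bool := words.all fun w => w.all fun x => decide (x < 7)

/-- Everything about a point. -/
noncomputable def pointsOk (p : Nat) : Bool :=
  isoOk p && parOk p && allFrom (moveOk p) 7 0 && allFrom (varOk p) 7 0 &&
    List.rec (motive := fun _ => Bool) true (fun w _ ih => Nat.beq (run w p) p && ih) words

/-- A list of steps is sound. -/
noncomputable def stepsOk (L : List (Nat × Nat × List Nat)) : Nat → Bool :=
  List.rec (motive := fun _ => Nat → Bool) (fun _ => true)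
    (fun s _ ih i =>
      Nat.blt s.1 words.length && Nat.blt s.2.1 693 && s.2.2.all (fun j => Nat.blt j i) &&
        Nat.beq (mask i)
          (cycMask (words.getD s.1 []) s.2.1 ^^^ CenSplitStable50.xall (s.2.2.map mask)) &&
        force (i + 1) ih) L

/-- The masks are triangular. -/
noncomputable def triOk (i : Nat) : Bool := Nat.beq (Nat.shiftRight (mask i) (V - 1 - i)) 1

theorem words_ok : wordsOk = true := by decide +kernel
theorem gpos_ok : (List.range 7).all (fun x => decide (gp x < 693)) = true ∧ gp 0 = 0 := by
  decide +kernel

theorem pts0 : AllBelow pointsOk 0 := AllBelow.zero _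
theorem pts1 : AllBelow pointsOk 231 := AllBelow.step pts0 231 (by decide +kernel)
theorem pts2 : AllBelow pointsOk 462 := AllBelow.step pts1 231 (by decide +kernel)
theorem pts3 : AllBelow pointsOk 693 := AllBelow.step pts2 231 (by decide +kernel)

theorem idx0 : AllBelow idxOk 0 := AllBelow.zero _
theorem idx1 : AllBelow idxOk 2048 := AllBelow.step idx0 2048 (by decide +kernel)
theorem idx2 : AllBelow idxOk 4096 := AllBelow.step idx1 2048 (by decide +kernel)

theorem st0 : stepsOk steps0 0 = true := by decide +kernel
theorem st236 : stepsOk steps236 236 = true := by decide +kernel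
theorem st472 : stepsOk steps472 472 = true := by decide +kernel
theorem st708 : stepsOk steps708 708 = true := by decide +kernel
theorem st944 : stepsOk steps944 944 = true := by decide +kernel
theorem st1180 : stepsOk steps1180 1180 = true := by decide +kernel
theorem st1416 : stepsOk steps1416 1416 = true := by decide +kernel
theorem st1652 : stepsOk steps1652 1652 = true := by decide +kernel
theorem st1888 : stepsOk steps1888 1888 = true := by decide +kernel
theorem st2124 : stepsOk steps2124 2124 = true := by decide +kernel

theorem tri0 : AllBelow triOk 0 := AllBelow.zero _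
theorem tri1 : AllBelow triOk 1180 := AllBelow.step tri0 1180 (by decide +kernel)
theorem tri2 : AllBelow triOk 2360 := AllBelow.step tri1 1180 (by decide +kernel)

end Cfsg.Agent.StemU62Checks
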