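import Cfsg.Agent.Lib.StemU62Twist
import Cfsg.Agent.Lib.StemU62Bound
import Cfsg.Agent.Lib.SchurMultiplierCover
import Cfsg.Agent.Lib.StemPairing

/-!
A stem extension of `PSU₆(2)` with kernel `ℤ/3 × ℤ/2 × ℤ/2`, and the multiplier.
-/

set_option autoImplicit false
set_option maxRecDepth 100000
set_option linter.unusedSectionVars false

namespace Cfsg.Agent.StemU62Exist

open Cfsg.Agent.CosetCertCore
open Cfsg.Agent.CosetCertU62 (HH theta theta_surj ker_two card_H g9)
open Cfsg.Agent.StemU62Twist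
open Subgroup
open scoped commutatorElement

/-- The target group of the product of the three covers. -/
abbrev Tgt (F : Type) [Field F] [Fintype F] := HH × HH × SU 6 F 2

variable {F : Type} [Field F] [Fintype F] [UnitaryF4Geo.FourField F] {w : F} (hw : w ^ 2 = w + 1)

/-- The common pullback of the double cover, its twist and `SU₆(2)`. -/
noncomputable def pull : Subgroup (Tgt F) where
  carrier := {p | theta hw p.1 = phi hw (theta hw p.2.1) ∧
    theta hw p.1 = QuotientGroup.mk p.2.2}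
  one_mem' := ⟨by simp, by simp⟩
  mul_mem' := fun {a b} ha hb =>
    ⟨by simp only [Prod.fst_mul, Prod.snd_mul, map_mul, ha.1, hb.1],
      by simp only [Prod.fst_mul, Prod.snd_mul, map_mul, QuotientGroup.mk_mul, ← ha.2, ← hb.2]⟩
  inv_mem' := fun {a} ha =>
    ⟨by simp only [Prod.fst_inv, Prod.snd_inv, map_inv, ha.1],
      by simp only [Prod.fst_inv, Prod.snd_inv, map_inv, QuotientGroup.mk_inv, ← ha.2]⟩

/-- The derived subgroup of the pullback. -/
noncomputable def cov : Subgroup (Tgt F) := ⁅pull hw, pull hw⁆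

/-- The projection. -/
noncomputable def proj : cov hw →* PSU 6 F 2 :=
  (theta hw).comp ((MonoidHom.fst HH (HH × SU 6 F 2)).comp (cov hw).subtype)

theorem proj_apply (a : cov hw) : proj hw a = theta hw a.1.1 := rfl

theorem cov_le : cov hw ≤ pull hw := Subgroup.commutator_le.2 fun _ ha _ hb =>
  mul_mem (mul_mem (mul_mem ha hb) (inv_mem ha)) (inv_mem hb)

theorem proj_eq₂ (a : cov hw) : proj hw a = phi hw (theta hw a.1.2.1) := (cov_le hw a.2).1

theorem proj_eq₃ (a : cov hw) : proj hw a = QuotientGroup.mk a.1.2.2 := (cov_le hw a.2).2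

theorem pull_surj (g : PSU 6 F 2) : ∃ p ∈ pull hw, theta hw p.1 = g := by
  obtain ⟨a, ha⟩ := theta_surj hw g
  obtain ⟨b, hb⟩ := theta_surj hw ((phi hw).symm g)
  obtain ⟨c, hc⟩ := QuotientGroup.mk_surjective g
  exact ⟨(a, b, c), ⟨by rw [ha, hb, MulEquiv.apply_symm_apply], by rw [ha, hc]⟩, ha⟩

theorem map_pull :
    (pull hw).map ((theta hw).comp (MonoidHom.fst HH (HH × SU 6 F 2))) = ⊤ := by
  rw [eq_top_iff]
  intro g _
  obtain ⟨p, hp, e⟩ := pull_surj hw g
  exact ⟨p, hp, e⟩

theorem proj_surj : Function.Surjective (proj hw) := by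
  intro g
  have h : g ∈ (cov hw).map ((theta hw).comp (MonoidHom.fst HH (HH × SU 6 F 2))) := by
    rw [cov, Subgroup.map_commutator, map_pull, ← _root_.commutator_def,
      StemU62Bound.psu_perfect (F := F)]
    trivial
  obtain ⟨p, hp, e⟩ := h
  exact ⟨⟨p, hp⟩, e⟩

theorem theta_ker_central : (theta hw).ker ≤ center HH := by
  intro z hz
  have hc := ker_two hw
  haveI : Finite HH := card_H.1
  rw [mem_center_iff]
  intro g
  by_cases hz1 : z = 1
  · simp [hz1]
  have hconj : g * z * g⁻¹ ∈ (theta hw).ker := (theta hw).normal_ker.conj_mem z hz g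
  have hne : g * z * g⁻¹ ≠ 1 := fun h => hz1 (conj_eq_one_iff.1 h)
  rw [Nat.card_eq_two_iff] at hc
  obtain ⟨x, y, hxy, huniv⟩ := hc
  have all : ∀ a : (theta hw).ker, a = x ∨ a = y := fun a => by
    have : a ∈ ({x, y} : Set (theta hw).ker) := huniv ▸ Set.mem_univ a
    simpa using this
  have hne' : (⟨z, hz⟩ : (theta hw).ker) ≠ 1 := fun h => hz1 (congrArg Subtype.val h)
  have heq : (⟨g * z * g⁻¹, hconj⟩ : (theta hw).ker) = ⟨z, hz⟩ := by
    have hne'' : (⟨g * z * g⁻¹, hconj⟩ : (theta hw).ker) ≠ 1 := fun h => hne (congrArg Subtype.val h)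
    rcases all 1 with e1 | e1 <;> rcases all ⟨z, hz⟩ with e2 | e2 <;>
      rcases all ⟨g * z * g⁻¹, hconj⟩ with e3 | e3 <;>
      first
      | exact e3.trans e2.symm
      | exact absurd (e2.trans e1.symm) hne'
      | exact absurd (e3.trans e1.symm) hne''
  exact mul_inv_eq_iff_eq_mul.1 (congrArg Subtype.val heq)

theorem ker_mk {g : SU 6 F 2} (h : (QuotientGroup.mk g : PSU 6 F 2) = 1) : g ∈ center (SU 6 F 2) :=
  (QuotientGroup.eq_one_iff g).1 h

theorem ker_fst {a : cov hw} (h : proj hw a = 1) : a.1.1 ∈ (theta hw).ker := h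

theorem ker_snd {a : cov hw} (h : proj hw a = 1) : a.1.2.1 ∈ (theta hw).ker := by
  rw [proj_eq₂] at h
  exact (map_eq_one_iff _ (phi hw).injective).1 h

theorem ker_thd {a : cov hw} (h : proj hw a = 1) : a.1.2.2 ∈ center (SU 6 F 2) := by
  rw [proj_eq₃] at h
  exact ker_mk h

theorem central {a : Tgt F} (h1 : a.1 ∈ (theta hw).ker) (h2 : a.2.1 ∈ (theta hw).ker)
    (h3 : a.2.2 ∈ center (SU 6 F 2)) : a ∈ center (Tgt F) :=
  mem_center_iff.2 fun g => Prod.ext (mem_center_iff.1 (theta_ker_central hw h1) g.1)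
    (Prod.ext (mem_center_iff.1 (theta_ker_central hw h2) g.2.1) (mem_center_iff.1 h3 g.2.2))

theorem proj_ker_le : (proj hw).ker ≤ center (cov hw) := fun a ha =>
  mem_center_iff.2 fun g => Subtype.ext
    (mem_center_iff.1 (central hw (ker_fst hw ha) (ker_snd hw ha) (ker_thd hw ha)) g.1)

theorem cov_perfect : commutator (cov hw) = ⊤ := by
  -- an element of the pullback is a central element times one of the derived subgroup
  have split : ∀ p ∈ pull hw, ∃ d ∈ cov hw, d⁻¹ * p ∈ center (Tgt F) := by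
    intro p hp
    obtain ⟨d, hd⟩ := proj_surj hw (theta hw p.1)
    refine ⟨d.1, d.2, central hw ?_ ?_ ?_⟩
    · rw [MonoidHom.mem_ker, Prod.fst_mul, Prod.fst_inv, map_mul, map_inv,
        show theta hw d.1.1 = theta hw p.1 from hd, inv_mul_cancel]
    · rw [MonoidHom.mem_ker, Prod.snd_mul, Prod.fst_mul, Prod.snd_inv, Prod.fst_inv, map_mul, map_inv]
      have h1 : phi hw (theta hw d.1.2.1) = phi hw (theta hw p.2.1) :=
        (proj_eq₂ hw d).symm.trans (hd.trans hp.1)
      rw [(phi hw).injective h1, inv_mul_cancel]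
    · refine ker_mk ?_
      rw [Prod.snd_mul, Prod.snd_mul, Prod.snd_inv, Prod.snd_inv, QuotientGroup.mk_mul,
        QuotientGroup.mk_inv, inv_mul_eq_one]
      exact (proj_eq₃ hw d).symm.trans (hd.trans hp.2)
  have hle : cov hw ≤ ⁅cov hw, cov hw⁆ := by
    rw [cov, Subgroup.commutator_le]
    intro a ha b hb
    obtain ⟨d, hd, hcd⟩ := split a ha
    obtain ⟨d', hd', hcd'⟩ := split b hb
    have e : ⁅a, b⁆ = ⁅d, d'⁆ := by
      have ea : a = d * (d⁻¹ * a) := by group
      have eb : b = d' * (d'⁻¹ * b) := by group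
      rw [ea, eb]
      generalize d⁻¹ * a = x at hcd ⊢
      generalize d'⁻¹ * b = y at hcd' ⊢
      calc ⁅d * x, d' * y⁆ = d * (x * (d' * y)) * x⁻¹ * d⁻¹ * (d' * y)⁻¹ := by group
        _ = d * ((d' * y) * x) * x⁻¹ * d⁻¹ * (d' * y)⁻¹ := by rw [mem_center_iff.1 hcd (d' * y)]
        _ = d * d' * (y * d⁻¹) * (d' * y)⁻¹ := by group
        _ = d * d' * (d⁻¹ * y) * (d' * y)⁻¹ := by rw [mem_center_iff.1 hcd' d⁻¹]
        _ = ⁅d, d'⁆ := by group
    rw [e]
    exact Subgroup.commutator_mem_commutator hd hd'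
  rw [eq_top_iff]
  intro x _
  have hx : (x : Tgt F) ∈ (commutator (cov hw)).map (cov hw).subtype := by
    rw [_root_.commutator_def, Subgroup.map_commutator, ← MonoidHom.range_eq_map,
      Subgroup.range_subtype]
    exact hle x.2
  obtain ⟨y, hy, e⟩ := hx
  rwa [← (Subtype.ext e : y = x)]

theorem proj_stem : Cfsg.IsStemExtension (proj hw) :=
  ⟨proj_surj hw, proj_ker_le hw, by rw [cov_perfect hw]; exact le_top⟩

/-- A map of the cover that covers the projection and has central kernel below hits a perfect group. -/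
theorem onto {X : Type} [Group X] (τ : X →* PSU 6 F 2) (hτc : τ.ker ≤ center X)
    (hX : commutator X = ⊤) (f : cov hw →* X) (hf : ∀ a, τ (f a) = proj hw a) :
    Function.Surjective f := by
  rw [← MonoidHom.range_eq_top]
  rw [eq_top_iff, ← hX, _root_.commutator_def, Subgroup.commutator_le]
  intro a _ b _
  obtain ⟨a', ha⟩ := proj_surj hw (τ a)
  obtain ⟨b', hb⟩ := proj_surj hw (τ b)
  rw [← hf] at ha hb
  rw [StemPairing.bracket_congr hτc ha.symm hb.symm, ← map_commutatorElement]
  exact ⟨_, rfl⟩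

theorem su_perfect : commutator (SU 6 F 2) = ⊤ :=
  OrthUnitaryPSU.commutator_eq_top (F := F) (n := 6) CosetCertU62.cardF (by norm_num) (by norm_num)

theorem onto_fst : Function.Surjective fun a : cov hw => a.1.1 :=
  onto hw (theta hw) (theta_ker_central hw) CosetCertU62.perfect
    ((MonoidHom.fst HH (HH × SU 6 F 2)).comp (cov hw).subtype) fun _ => rfl

theorem onto_snd : Function.Surjective fun a : cov hw => a.1.2.1 :=
  onto hw ((phi hw).toMonoidHom.comp (theta hw))
    (by
      intro z hz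
      refine theta_ker_central hw ?_
      rw [MonoidHom.mem_ker, MonoidHom.comp_apply] at hz
      exact (map_eq_one_iff _ (phi hw).injective).1 hz)
    CosetCertU62.perfect
    ((MonoidHom.fst HH (SU 6 F 2)).comp ((MonoidHom.snd HH (HH × SU 6 F 2)).comp (cov hw).subtype))
    fun a => (proj_eq₂ hw a).symm

theorem onto_thd : Function.Surjective fun a : cov hw => a.1.2.2 :=
  onto hw (QuotientGroup.mk' (center (SU 6 F 2)))
    (by rw [QuotientGroup.ker_mk']) su_perfect
    ((MonoidHom.snd HH (SU 6 F 2)).comp ((MonoidHom.snd HH (HH × SU 6 F 2)).comp (cov hw).subtype))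
    fun a => (proj_eq₃ hw a).symm

theorem two_sq (z : (theta hw).ker) : z * z = 1 := by
  haveI : Finite HH := card_H.1
  have := pow_card_eq_one' (G := (theta hw).ker) (x := z)
  rwa [ker_two hw, pow_two] at this

theorem eq_of_ne_one {x y : (theta hw).ker} (hx : x ≠ 1) (hy : y ≠ 1) : x = y := by
  have hc := ker_two hw
  rw [Nat.card_eq_two_iff] at hc
  obtain ⟨u, v, huv, huniv⟩ := hc
  have all : ∀ a : (theta hw).ker, a = u ∨ a = v := fun a => by
    have : a ∈ ({u, v} : Set (theta hw).ker) := huniv ▸ Set.mem_univ a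
    simpa using this
  rcases all 1 with e1 | e1 <;> rcases all x with e2 | e2 <;> rcases all y with e3 | e3 <;>
    first
    | exact e2.trans e3.symm
    | exact absurd (e2.trans e1.symm) hx
    | exact absurd (e3.trans e1.symm) hy

/-- The double cover and its twist are different extensions. -/
theorem exists_skew : ∃ a : cov hw, proj hw a = 1 ∧ a.1.1 ≠ a.1.2.1 := by
  by_contra hcon
  push Not at hcon
  have lift : ∀ x : ℕ, ∃ a : cov hw, proj hw a = phi hw (theta hw (g9 x)) := fun x => proj_surj hw _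
  choose δ hδ using lift
  have hk1 : ∀ x, 1 ≤ x ∧ x ≤ 8 → (val g9 (fword (x - 1)))⁻¹ * (δ x).1.1 ∈ (theta hw).ker := by
    intro x hx
    have h := theta_fword hw (k := x - 1) (by omega)
    rw [show x - 1 + 1 = x by omega] at h
    rw [MonoidHom.mem_ker, map_mul, map_inv, h, ← proj_apply hw (δ x), hδ, inv_mul_cancel]
  have hk2 : ∀ x, (g9 x)⁻¹ * (δ x).1.2.1 ∈ (theta hw).ker := fun x => by
    have h : phi hw (theta hw (δ x).1.2.1) = phi hw (theta hw (g9 x)) := by rw [← proj_eq₂, hδ]
    rw [MonoidHom.mem_ker, map_mul, map_inv, (phi hw).injective h, inv_mul_cancel]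
  let k1 : ℕ → (theta hw).ker := fun x =>
    if h : 1 ≤ x ∧ x ≤ 8 then ⟨_, hk1 x h⟩ else 1
  let k2 : ℕ → (theta hw).ker := fun x => ⟨_, hk2 x⟩
  have cen : ∀ (z : (theta hw).ker) (g : HH), g * (z : HH) = (z : HH) * g := fun z g =>
    mem_center_iff.1 (theta_ker_central hw z.2) g
  have path : ∀ u : List ℕ, (∀ x ∈ u, 1 ≤ x ∧ x ≤ 8) →
      ((u.map δ).prod).1.1 = val g9 (u.flatMap fun x => fword (x - 1)) * ((u.map k1).prod : (theta hw).ker) ∧
      ((u.map δ).prod).1.2.1 = val g9 u * ((u.map k2).prod : (theta hw).ker) ∧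
      proj hw (u.map δ).prod = phi hw (theta hw (val g9 u)) := by
    intro u
    induction u with
    | nil =>
      intro _
      simp [CosetCertCore.val]
    | cons x u ih =>
      intro hu
      obtain ⟨i1, i2, i3⟩ := ih fun y hy => hu y (List.mem_cons_of_mem _ hy)
      have hx := hu x (List.mem_cons_self ..)
      simp only [List.map_cons, List.prod_cons, List.flatMap_cons, Subgroup.coe_mul, Prod.fst_mul,
        Prod.snd_mul, val_cons, CosetCertPres.val_append, map_mul]
      refine ⟨?_, ?_, by rw [i3, hδ]⟩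
      · rw [i1]
        have e1 : (δ x).1.1 = val g9 (fword (x - 1)) * (k1 x : HH) := by
          simp only [k1, dif_pos hx, mul_inv_cancel_left]
        rw [e1, mul_assoc, ← mul_assoc (k1 x : HH), ← cen (k1 x) (val g9 _)]
        simp only [mul_assoc]
      · rw [i2]
        have e2 : (δ x).1.2.1 = g9 x * (k2 x : HH) := by simp only [k2, mul_inv_cancel_left]
        rw [e2, mul_assoc, ← mul_assoc (k2 x : HH), ← cen (k2 x) (val g9 _)]
        simp only [mul_assoc]
  have hR : ∀ x ∈ witness, 1 ≤ x ∧ x ≤ 8 := fun x hx => by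
    have := List.all_eq_true.1 witness_ok.1 x hx
    simpa using this
  obtain ⟨h1, h2, h3⟩ := path witness hR
  obtain ⟨hv1, hv2⟩ := val_witness
  rw [hv1, map_one, map_one] at h3
  rw [hv1, one_mul] at h2
  have h := hcon _ h3
  rw [h1, h2] at h
  have even : ∀ f : ℕ → (theta hw).ker, (witness.map f).prod = 1 := by
    intro f
    letI : CommGroup (theta hw).ker :=
      { (inferInstance : Group (theta hw).ker) with
        mul_comm := fun a b => Subtype.ext (cen b a) }
    rw [(witness_ok.2.map f).prod_eq, List.map_append, List.prod_append]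
    exact two_sq hw _
  rw [even, even, Subgroup.coe_one, mul_one] at h
  exact hv2 h

theorem card_center : Nat.card (center (SU 6 F 2)) = 3 := by
  rw [OrthUnitaryHerm.card_center_SU CosetCertU62.cardF (by norm_num)]
  rfl

/-- The kernel as a product. -/
noncomputable def kerMap : (proj hw).ker →*
    center (SU 6 F 2) × (theta hw).ker × (theta hw).ker :=
  MonoidHom.mk' (fun a => (⟨a.1.1.2.2, ker_thd hw a.2⟩, ⟨a.1.1.1, ker_fst hw a.2⟩,
    ⟨a.1.1.2.1, ker_snd hw a.2⟩)) fun _ _ => rfl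

theorem kerMap_bijective : Function.Bijective (kerMap hw) := by
  refine ⟨fun a b h => ?_, fun t => ?_⟩
  · simp only [kerMap, MonoidHom.mk'_apply, Prod.mk.injEq, Subtype.mk.injEq] at h
    exact Subtype.ext (Subtype.ext (Prod.ext h.2.1 (Prod.ext h.2.2 h.1)))
  -- the three coordinates
  have hfst : ∀ z : (theta hw).ker, ∃ a, (kerMap hw a).2.1 = z := fun z => by
    obtain ⟨a, ha⟩ := onto_fst hw z
    simp only at ha
    exact ⟨⟨a, by rw [MonoidHom.mem_ker, proj_apply, ha]; exact z.2⟩, Subtype.ext ha⟩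
  have hthd : ∀ c : center (SU 6 F 2), ∃ a, (kerMap hw a).1 = c := fun c => by
    obtain ⟨a, ha⟩ := onto_thd hw c
    simp only at ha
    exact ⟨⟨a, by rw [MonoidHom.mem_ker, proj_eq₃, ha]; exact (QuotientGroup.eq_one_iff _).2 c.2⟩,
      Subtype.ext ha⟩
  have three : ∀ c : center (SU 6 F 2), c ^ 3 = 1 := fun c => by
    haveI : Finite (SU 6 F 2) := inferInstance
    have := pow_card_eq_one' (G := center (SU 6 F 2)) (x := c)
    rwa [card_center] at this
  have two : ∀ z : (theta hw).ker, z ^ 2 = 1 := fun z => by rw [pow_two, two_sq hw z]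
  obtain ⟨a, ha1, hne⟩ := exists_skew hw
  -- both double covers independently
  have twoPart : ∀ u v : (theta hw).ker, ∃ b, (kerMap hw b).2 = (u, v) := by
    set d := kerMap hw ⟨a, ha1⟩ with hd
    have hd12 : d.2.1 ≠ d.2.2 := fun h => hne (congrArg Subtype.val h)
    obtain ⟨x, y, hxy⟩ : ∃ x y : (theta hw).ker, x = 1 ∧ y ≠ 1 := by
      by_cases h : d.2.1 = 1
      · exact ⟨1, d.2.2, rfl, fun h' => hd12 (h.trans h'.symm)⟩
      · exact ⟨1, d.2.1, rfl, h⟩
    -- one of `(z, 1)` and `(1, z)` is a value, and `(z, _)` is one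
    obtain ⟨e, he⟩ := hfst y
    intro u v
    have key : ∃ b1 b2, (kerMap hw b1).2 = (y, 1) ∧ (kerMap hw b2).2 = (1, y) := by
      by_cases h : d.2.1 = 1
      · have hd2 : d.2 = (1, y) := Prod.ext h (eq_of_ne_one hw (fun h' => hd12 (h.trans h'.symm)) hxy.2)
        by_cases h' : (kerMap hw e).2.2 = 1
        · exact ⟨e, _, Prod.ext he h', hd2⟩
        · refine ⟨e * ⟨a, ha1⟩, _, ?_, hd2⟩
          rw [map_mul, Prod.snd_mul, ← hd, hd2]
          exact Prod.ext (by rw [Prod.fst_mul, he, mul_one])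
            (by rw [Prod.snd_mul, eq_of_ne_one hw h' hxy.2, two_sq])
      · have hy : d.2.1 = y := eq_of_ne_one hw h hxy.2
        have h2 : d.2.2 = 1 := by
          by_contra h2
          exact hd12 (hy.trans (eq_of_ne_one hw hxy.2 h2))
        obtain ⟨b, hb⟩ := onto_snd hw (y : HH)
        simp only at hb
        have hbk : proj hw b = 1 := by
          rw [proj_eq₂, hb, show theta hw (y : HH) = 1 from y.2, map_one]
        have hb2 : (kerMap hw ⟨b, hbk⟩).2.2 = y := Subtype.ext hb
        have hd2 : d.2 = (y, 1) := Prod.ext hy h2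
        by_cases h' : (kerMap hw ⟨b, hbk⟩).2.1 = 1
        · exact ⟨_, _, hd2, Prod.ext h' hb2⟩
        · refine ⟨_, ⟨b, hbk⟩ * ⟨a, ha1⟩, hd2, ?_⟩
          rw [map_mul, Prod.snd_mul, ← hd, hd2]
          exact Prod.ext (by rw [Prod.fst_mul, eq_of_ne_one hw h' hxy.2, two_sq])
            (by rw [Prod.snd_mul, hb2, mul_one])
    obtain ⟨b1, b2, hb1, hb2⟩ := key
    rcases em (u = 1) with hu | hu <;> rcases em (v = 1) with hv | hv
    · exact ⟨1, by rw [map_one, hu, hv]; rfl⟩
    · exact ⟨b2, by rw [hb2, hu, eq_of_ne_one hw hv hxy.2]⟩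
    · exact ⟨b1, by rw [hb1, hv, eq_of_ne_one hw hu hxy.2]⟩
    · refine ⟨b1 * b2, ?_⟩
      rw [map_mul, Prod.snd_mul, hb1, hb2, eq_of_ne_one hw hu hxy.2, eq_of_ne_one hw hv hxy.2]
      simp
  obtain ⟨c, u, v⟩ := t
  obtain ⟨b, hb⟩ := twoPart u v
  obtain ⟨b', hb'⟩ := hthd (c ^ 2)
  refine ⟨b ^ 3 * b' ^ 2, ?_⟩
  rw [map_mul, map_pow, map_pow]
  refine Prod.ext ?_ ?_
  · rw [Prod.fst_mul, Prod.pow_fst, Prod.pow_fst, three, one_mul, hb', ← pow_mul,
      show 2 * 2 = 3 + 1 by norm_num, pow_succ, three, one_mul]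
  · rw [Prod.snd_mul, Prod.pow_snd, Prod.pow_snd, hb]
    refine Prod.ext ?_ ?_
    · rw [Prod.fst_mul, Prod.pow_fst, Prod.pow_fst, two, mul_one, pow_succ, two, one_mul]
    · rw [Prod.snd_mul, Prod.pow_snd, Prod.pow_snd, two, mul_one, pow_succ, two, one_mul]

/-- The model of the multiplier. -/
abbrev A12 := Multiplicative (ZMod 3 × ZMod 2 × ZMod 2)

theorem exists_equiv : Nonempty ((proj hw).ker ≃* A12) := by
  haveI : Fact (Nat.Prime 3) := ⟨Nat.prime_three⟩
  haveI : Fact (Nat.Prime 2) := ⟨Nat.prime_two⟩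
  haveI : Finite HH := card_H.1
  have hz : ∀ n : ℕ, Nat.card (Multiplicative (ZMod n)) = n := fun n => by
    rw [Nat.card_congr Multiplicative.toAdd, Nat.card_zmod]
  let e3 : center (SU 6 F 2) ≃* Multiplicative (ZMod 3) := mulEquivOfPrimeCardEq card_center (hz 3)
  let e2 : (theta hw).ker ≃* Multiplicative (ZMod 2) := mulEquivOfPrimeCardEq (ker_two hw) (hz 2)
  let m : A12 ≃* Multiplicative (ZMod 3) × Multiplicative (ZMod 2) × Multiplicative (ZMod 2) :=
    { toFun := fun x => (.ofAdd x.toAdd.1, .ofAdd x.toAdd.2.1, .ofAdd x.toAdd.2.2)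
      invFun := fun y => .ofAdd (y.1.toAdd, y.2.1.toAdd, y.2.2.toAdd)
      left_inv := fun x => rfl
      right_inv := fun y => rfl
      map_mul' := fun x y => rfl }
  exact ⟨((MulEquiv.ofBijective _ (kerMap_bijective hw)).trans
    (MulEquiv.prodCongr e3 (MulEquiv.prodCongr e2 e2))).trans m.symm⟩

theorem finite_psu : Finite (PSU 6 F 2) :=
  Nat.finite_of_card_ne_zero (by rw [CosetCertU62.card_psu (F := F)]; norm_num)

include hw in
/-- The Schur multiplier of `PSU₆(2)` over a field in the lowest universe. -/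
theorem multiplier : Cfsg.HasSchurMultiplier (PSU 6 F 2) A12 := by
  haveI : Finite HH := card_H.1
  haveI : Finite (cov hw) := inferInstance
  haveI := finite_psu (F := F)
  obtain ⟨e⟩ := exists_equiv hw
  obtain ⟨π, hπ⟩ := SchurMultiplierCover.exists_surjective_mult (proj_stem hw)
  obtain ⟨⟨Γ, _, _, τ, hτ, ⟨f⟩⟩, -⟩ := SchurMultiplierCover.hasSchurMultiplier_mult (PSU 6 F 2)
  have hle : Nat.card (SchurMultiplierCover.mult (PSU 6 F 2)) ≤ 12 := by
    rw [← Nat.card_congr f.toEquiv]
    exact StemU62Bound.card_ker_le hw τ hτ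
  haveI : Finite (SchurMultiplierCover.mult (PSU 6 F 2)) := Finite.of_equiv _ f.toEquiv
  have h12 : Nat.card A12 = 12 := by
    rw [Nat.card_congr Multiplicative.toAdd, Nat.card_prod, Nat.card_prod, Nat.card_zmod, Nat.card_zmod]
  have hs : Function.Surjective (e.toMonoidHom.comp π) := e.surjective.comp hπ
  exact SchurMultiplierCover.hasSchurMultiplier_of_equiv
    (MulEquiv.ofBijective (e.toMonoidHom.comp π)
      (hs.bijective_of_nat_card_le (by rw [h12]; exact hle))).symm

end Cfsg.Agent.StemU62Exist
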