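import Cfsg.Agent.Lib.StemU62L2Data

/-! Justifications for level 2. -/

set_option autoImplicit false
set_option maxRecDepth 100000
set_option Elab.async false

namespace Cfsg.Agent.StemU62L2C0

open Cfsg.Agent.CosetCertCore Cfsg.Agent.CosetCertTable Cfsg.Agent.StemU62L2Data

/-- Justifications from fact 0. -/
noncomputable def just0 : List Nat :=
  [0x0,
   0x0,
   0x106,
   0x10000000002000000000100500200405]

theorem check0 : (Nat.beq (0 + just0.length) 4 && checkList cert just0 0) = true := by
  decide +kernel

end Cfsg.Agent.StemU62L2C0
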