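import Cfsg.Agent.Lib.CosetCertOrder

/-! Table of the cosets of the subgroup on the first 1 generators in the group on 2 generators. -/

set_option autoImplicit false
set_option maxRecDepth 100000
set_option Elab.async false

namespace Cfsg.Agent.StemU62L2Data

open Cfsg.Agent.CosetCertCore Cfsg.Agent.CosetCertTable

/-- The certificate. -/
noncomputable def cert : Cert where
  F := (.leaf 0x20000022000000000000000100000000200000110000000010000002)
  D := (.leaf 0x10000000000000000)
  rels := [[0, 0],
    [1, 1],
    [0, 1, 0, 1, 0, 1]]
  sgens := [[0]]

/-- The table. -/
noncomputable def table : Table where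
  T := (.leaf 0x20000100000000020000100000)
  E := (.leaf 0x30000100000000010000000002)
  Fn := (.leaf 0x2000001000000)
  Par := (.leaf 0x10000001000000)
  N := 3
  NG := 2

end Cfsg.Agent.StemU62L2Data
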