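import Cfsg.Agent.Lib.StemU62L3Data

/-! Justifications for level 3. -/

set_option autoImplicit false
set_option maxRecDepth 100000
set_option Elab.async false

namespace Cfsg.Agent.StemU62L3C0

open Cfsg.Agent.CosetCertCore Cfsg.Agent.CosetCertTable Cfsg.Agent.StemU62L3Data

/-- Justifications from fact 0. -/
noncomputable def just0 : List Nat :=
  [0x0,
   0x0,
   0x0,
   0x10a,
   0x10b,
   0x40000000300100306,
   0x20000100005000010000200500300307,
   0x10000000003000000000100500200408,
   0x2000070000200300200206]

theorem check0 : (Nat.beq (0 + just0.length) 9 && checkList cert just0 0) = true := by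
  decide +kernel

end Cfsg.Agent.StemU62L3C0
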