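import Cfsg.Agent.Lib.CosetCertOrder

/-! Table of the cosets of the subgroup on the first 2 generators in the group on 3 generators. -/

set_option autoImplicit false
set_option maxRecDepth 100000
set_option Elab.async false

namespace Cfsg.Agent.StemU62L3Data

open Cfsg.Agent.CosetCertCore Cfsg.Agent.CosetCertTable

/-- The certificate. -/
noncomputable def cert : Cert where
  F := (.leaf 0x3000003300000000200000230000000030000031000000001000001200000000000000020000000000000001000000003000002200000000200000110000000010000003)
  D := (.leaf 0x2000000010000000000000000)
  rels := [[0, 0],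
    [1, 1],
    [2, 2],
    [1, 2, 1, 2],
    [0, 1, 0, 1, 0, 1],
    [0, 2, 0, 2, 0, 2],
    [1, 2, 0, 2, 1, 2, 1, 0, 1, 2]]
  sgens := [[0], [1]]

/-- The table. -/
noncomputable def table : Table where
  T := (.leaf 0x30000200003000020000300001000000000100002000010000000000)
  E := (.leaf 0x80000200006000070000200001000000000500001000000000400003)
  Fn := (.leaf 0x3000002000001000000)
  Par := (.leaf 0x21000010000002000000)
  N := 4
  NG := 3

end Cfsg.Agent.StemU62L3Data
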