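import Cfsg.Agent.Lib.StemU62L4Data

/-! Justifications for level 4. -/

set_option autoImplicit false
set_option maxRecDepth 100000
set_option Elab.async false

namespace Cfsg.Agent.StemU62L4C0

open Cfsg.Agent.CosetCertCore Cfsg.Agent.CosetCertTable Cfsg.Agent.StemU62L4Data

/-- Justifications from fact 0. -/
noncomputable def just0 : List Nat :=
  [0x0,
   0x0,
   0x0,
   0x0,
   0x0,
   0x0,
   0x0,
   0x0,
   0x0,
   0x0,
   0x0,
   0x0,
   0x0,
   0x0,
   0x0,
   0x0,
   0x0,
   0x0,
   0x0,
   0x0,
   0x0,
   0x0,
   0x0,
   0x0,
   0x0,
   0x0,
   0xd000070000800300100307,
   0x100000a0000b00300100307,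
   0x4000010000200300100308,
   0x18000130001400300100308,
   0x9000050001c000070000c00500300309,
   0xa000060000300004000070050020040a,
   0x17000120000c0000d000130050020040b,
   0x16000100001f0000d000140050020040c,
   0x120001e0000e00300100307,
   0xc0001f0000f00300200208,
   0x114,
   0x115,
   0x116,
   0x240000000300100307,
   0x30000100027000010000300500200409,
   0x5000020002700002000050050020040a,
   0x1000000002500000000010050020040b,
   0x2000000002600000000020050020040c,
   0x8000040002a00004000080050030030c,
   0x30002a0000300300200207,
   0x50002b0000500300200207,
   0x6000280000600300100308,
   0x9000290000900300200208,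
   0xf0000a0002f0000a0000f00500300309,
   0x140001a0002c0001a000140050030030a,
   0x80001c0002b0001c000080050030030b,
   0xe000090002e000090000e0050030030b,
   0x110000b0002f0000b000110050020040b,
   0xb000060002d000060000b0050030030c,
   0x150000e000300000e000150050020040c,
   0x21000320002100300100307,
   0x11000360001100300200208,
   0x15000340001500300100308,
   0x130001a000330001a0001300500300309,
   0x170002200034000220001700500300309,
   0x190001d000320001d0001900500200409,
   0x19000180003b00018000190050020040a,
   0xf0001f00007000040002a00001000000002600024000260002500000000020001c000070000c0002301100700b13,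
   0x150000e000090002e000290000500002000010002a000040001c0000500009000300000e000340001501100a00813,
   0x100001f000070000400001000000002600025000240002500026000000000100004000070001f0001001100d00513,
   0x1d000140001a0002c000080001c0002b0000200027000020001c000080002c000330001a000130001801100700b13,
   0x3900035000110000b0000600003000040001c0002b00002000010000300028000060000b000110003901100a00813,
   0x21000140001a0002c0003300008000040000100027000010000400008000330002c0001a000140002101100d00513,
   0x3d0003e00019000180002000017000120002300031000230000c0000d000140001d000190003d0003e01100700b13,
   0x22000150004000015000220050040020a,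
   0x20000180004200018000200050010050c]

theorem check0 : (Nat.beq (0 + just0.length) 72 && checkList cert just0 0) = true := by
  decide +kernel

end Cfsg.Agent.StemU62L4C0
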