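import Cfsg.Agent.Lib.CosetCertOrder

/-! Table of the cosets of the subgroup on the first 3 generators in the group on 4 generators. -/

set_option autoImplicit false
set_option maxRecDepth 100000
set_option Elab.async false

namespace Cfsg.Agent.StemU62L4Data

open Cfsg.Agent.CosetCertCore Cfsg.Agent.CosetCertTable

/-- The certificate. -/
noncomputable def cert : Cert where
  F := (.leaf 0x180000183000000013000013300000001a00001a400000001700001720000000120000121000000019000019400000001100001120000000160000161000000010000010400000001a00001a300000001a00001a200000001800001810000000140000141000000016000016200000001200001230000000170000171000000016000016400000000c00000c3000000012000012400000000f00000f200000000900000920000000150000151000000010000010100000000a00000a300000000700000720000000060000064000000004000004400000000900000930000000030000034000000002000002400000000600000630000000040000042000000001000001100000000000000030000000000000002000000000000000100000000d000010300000001300000f10000000170000154000000018000014400000000b000008300000000a00000d10000000190000152000000005000003200000001100000c100000000e000009100000001a000019100000001900001430000000180000132000000017000011300000001600000f300000001500000e300000001400000e200000001300000d400000001200000c200000001100000b400000001000000b200000000f00000a400000000e000008400000000d000008200000000c000007400000000b000007100000000a0000062000000009000005400000000800000510000000070000043000000006000003100000000500000230000000040000021000000003000001300000000200000120000000010000004)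
  D := (.leaf 0x190000001800000017000000160000001500000014000000130000001200000011000000100000000f0000000e0000000d0000000c0000000b0000000a0000000900000008000000070000000600000005000000040000000300000002000000010000000000000000)
  rels := [[0, 0],
    [1, 1],
    [2, 2],
    [3, 3],
    [0, 3, 0, 3],
    [1, 2, 1, 2],
    [0, 1, 0, 1, 0, 1],
    [0, 2, 0, 2, 0, 2],
    [1, 3, 1, 3, 1, 3],
    [2, 3, 2, 3, 2, 3],
    [1, 2, 0, 2, 1, 2, 1, 0, 1, 2],
    [0, 3, 1, 3, 0, 3, 1, 0, 1, 3],
    [0, 3, 2, 3, 0, 3, 2, 0, 2, 3],
    [1, 3, 2, 3, 1, 2, 3, 1, 3, 2],
    [0, 3, 2, 1, 0, 1, 2, 3, 0, 3, 2, 1, 0, 1, 2, 3],
    [3, 2, 3, 1, 3, 2, 3, 2, 3, 1, 3, 2],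
    [2, 0, 2, 3, 1, 3, 2, 0, 2, 1, 3, 2, 1, 0, 1, 2, 3, 1]]
  sgens := [[0], [1], [2]]

/-- The table. -/
noncomputable def table : Table where
  T := (.leaf 0x1a0001a0001a000190001900014000150001a0001400018000130001800015000110001700017000160000f0001600016000170000e000190001500018000190000e000140000d00013000180000f00012000120000c000120000b00017000110000c000100000d0000b000100000a000160000f00013000080001500014000090001300010000080000a000070000c0001200011000110000800010000070000f0000a000060000d0000500009000090000e0000e0000b0000d000050000c00004000070000b00006000060000a00003000090000200003000080000400007000040000200003000010000500006000020000500001000040000000003000020000100001000000000000000)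
  E := (.leaf 0x450003e0003d0001900042000180001d000190002000047000170003c0002100016000440003800037000150003a0004000021000140001d000320002000018000130003b00012000460001700022000350003900011000430001000016000410001b0003f000230000f000310000e0001500034000220000d00014000130001a00012000230000c0001e0000b00036000110001b000100001f0000f0000a0000e00030000090001e000080002c000330001a0000d0001f0000c000070000b000060002f0000a0002e00029000090000500008000040001c000070002d0000600028000030002b000020001c000050002a0000400001000030000000002000010002700000000260002500024)
  Fn := (.leaf 0x1a00001900001800001700001600001500001400001300001200001100001000000f00000e00000d00000c00000b00000a000009000008000007000006000005000004000003000002000001000000)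
  Par := (.leaf 0x1900001420001310001120000f20000e20000e10000d30000c10000b30000b10000a3000083000081000073000070000061000053000050000042000030000022000020000012000011000003000000)
  N := 27
  NG := 4

end Cfsg.Agent.StemU62L4Data
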