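import Cfsg.Agent.Lib.StemU62Checks

/-!
The 693 transvections of `PSU₆(2)` with their tables.
-/

set_option autoImplicit false
set_option maxRecDepth 100000
set_option linter.unusedSectionVars false

namespace Cfsg.Agent.StemU62Points

open Cfsg.Agent.CosetCertCore Cfsg.Agent.CosetCertTable
open Cfsg.Agent.CosetCertU62 (toV toF dig mulF hC cardF scaled_sound toF_hC toF_xor toF_mul dig_lt mulF_lt hC_lt)
open Cfsg.Agent.StemU62Checks
open Cfsg.Agent.OrthUnitaryHerm Cfsg.Agent.OrthUnitaryTransvection Cfsg.Agent.OrthUnitaryPSU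

theorem point_ok {p : ℕ} (hp : p < 693) :
    isoOk p = true ∧ parOk p = true ∧ (∀ x < 7, moveOk p x = true ∧ varOk p x = true) ∧
      ∀ w ∈ StemU62Data.words, run w p = p := by
  have h := pts3 p hp
  simp only [pointsOk, Bool.and_eq_true] at h
  obtain ⟨⟨⟨⟨h1, h2⟩, h3⟩, h4⟩, h5⟩ := h
  refine ⟨h1, h2, fun x hx => ⟨(allFrom_iff _ _ _).1 h3 x (Nat.zero_le _) (by omega),
    (allFrom_iff _ _ _).1 h4 x (Nat.zero_le _) (by omega)⟩, ?_⟩
  have : ∀ L : List (List ℕ), (List.rec (motive := fun _ => Bool) true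
      (fun w _ ih => Nat.beq (run w p) p && ih) L) = true → ∀ w ∈ L, run w p = p := by
    intro L
    induction L with
    | nil => intro _ w hw; simp at hw
    | cons a L ih =>
      intro h w hw
      simp only [Bool.and_eq_true, Nat.beq_eq] at h
      rcases List.mem_cons.1 hw with rfl | hw
      · exact h.1
      · exact ih h.2 w hw
  exact this _ h5

theorem gp_lt {x : ℕ} (hx : x < 7) : gp x < 693 := by
  have := List.all_eq_true.1 gpos_ok.1 x (List.mem_range.2 hx)
  simpa using this

theorem img_lt {p x : ℕ} (hp : p < 693) (hx : x < 7) : img p x < 693 ∧ img (img p x) x = p := by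
  have h := ((point_ok hp).2.2.1 x hx).1
  simp only [moveOk, Bool.and_eq_true, Nat.blt_eq, Nat.beq_eq] at h
  exact h.1

theorem run_cons (x : ℕ) (w : List ℕ) (p : ℕ) : run (x :: w) p = run w (img p x) := by
  simp only [run, force_eq]

theorem run_append : ∀ (w v : List ℕ) (p : ℕ), run (w ++ v) p = run v (run w p)
  | [], _, _ => rfl
  | x :: w, v, p => by rw [List.cons_append, run_cons, run_append w v, run_cons]

theorem run_lt : ∀ (w : List ℕ), (∀ x ∈ w, x < 7) → ∀ p < 693, run w p < 693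
  | [], _, _, hp => hp
  | x :: w, hw, p, hp => by
    rw [run_cons]
    exact run_lt w (fun y hy => hw y (List.mem_cons_of_mem _ hy)) _
      (img_lt hp (hw x (List.mem_cons_self ..))).1

theorem word_lt {w : List ℕ} (hw : w ∈ StemU62Data.words) : ∀ x ∈ w, x < 7 := by
  intro x hx
  have := List.all_eq_true.1 (List.all_eq_true.1 words_ok w hw) x hx
  simpa using this

section

variable {F : Type} [Field F] [Fintype F] [UnitaryF4Geo.FourField F] {w : F} (hw : w ^ 2 = w + 1)

/-- The vector of a point. -/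
def vec (w : F) (c : ℕ) : Fin 6 → F := toV w c

include hw

theorem vec_iso {p : ℕ} (hp : p < 693) : hermForm 6 F 2 (vec w (vc p)) (vec w (vc p)) = 0 := by
  have h := (point_ok hp).1
  simp only [isoOk, Bool.and_eq_true, Nat.beq_eq] at h
  rw [vec, ← toF_hC hw, h.2]
  simp [toF]

theorem one_skew : (1 : F) + 1 ^ 2 = 0 := by rw [one_pow]; exact UnitaryF4Geo.add_self 1

/-- The transvection at a point. -/
noncomputable def tq {p : ℕ} (hp : p < 693) : SU 6 F 2 :=
  tv cardF (vec w (vc p)) 1 (vec_iso hw hp) (one_skew hw)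

/-- The image in the projective group. -/
noncomputable def tp (p : ℕ) : PSU 6 F 2 :=
  if hp : p < 693 then QuotientGroup.mk (tq hw hp) else 1

theorem tp_sq (p : ℕ) : tp hw p * tp hw p = 1 := by
  unfold tp
  split
  · rw [← QuotientGroup.mk_mul]
    refine (congrArg _ ?_).trans (QuotientGroup.mk_one _)
    apply su_ext
    intro x
    rw [act_mul, tq, tv_act, tv_act, herm_add_left, herm_smul_left, vec_iso hw ‹_›, mul_zero,
      add_zero, one_mul, add_assoc, ← add_smul, UnitaryF4Geo.add_self, zero_smul, add_zero, act_one]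
  · rw [one_mul]

theorem tp_conj {p x : ℕ} (hp : p < 693) (hx : x < 7) :
    tp hw (gp x) * tp hw p * (tp hw (gp x))⁻¹ = tp hw (img p x) := by
  obtain ⟨hi, -⟩ := img_lt hp hx
  rw [tp, tp, tp, dif_pos hp, dif_pos (gp_lt hx), dif_pos hi, ← QuotientGroup.mk_inv,
    ← QuotientGroup.mk_mul, ← QuotientGroup.mk_mul]
  refine congrArg _ ?_
  have h := ((point_ok hp).2.2.1 x hx).1
  simp only [moveOk, Bool.and_eq_true] at h
  obtain ⟨c, hc, e⟩ := scaled_sound hw h.2
  have e2 : act (tq hw (gp_lt hx)) (vec w (vc p)) = c • vec w (vc (img p x)) := by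
    refine (Eq.trans ?_ e.symm)
    rw [tq, tv_act, one_mul, vec, vec, ← toF_hC hw]
    funext d
    rw [toF_xor hw (dig_lt _ _) (mulF_lt _ _), toF_mul hw (hC_lt _ _) (dig_lt _ _)]
    rfl
  rw [tq] at e2
  rw [tq, tq, tv_conj]
  apply su_ext
  intro y
  simp only [e2, tv_act, herm_smul_right, smul_smul]
  have hsub : OrthUnitaryTransvection.act (tq hw hi) y =
      y + (1 * hermForm 6 F 2 y (vec w (vc (img p x)))) • vec w (vc (img p x)) := tv_act _ _ _ _ _ _
  rw [hsub]
  congr 2
  have := UnitaryF4Geo.cube hc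
  linear_combination hermForm 6 F 2 y (vec w (vc (img p x))) * this

theorem center_bot : Subgroup.center (PSU 6 F 2) = ⊥ := CosetCertU62.center_psu

theorem closure_points : Subgroup.closure {g | ∃ p < 693, g = tp hw p} = ⊤ := by
  have hs := QuotientGroup.mk'_surjective (Subgroup.center (SU 6 F 2))
  rw [← Subgroup.map_top_of_surjective _ hs,
    ← tGroup_eq_top (F := F) (n := 6) cardF (by norm_num) (by norm_num), tGroup,
    MonoidHom.map_closure]
  refine le_antisymm (Subgroup.closure_mono ?_) ((Subgroup.closure_le _).2 ?_)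
  · rintro g ⟨p, hp, rfl⟩
    refine ⟨tq hw hp, ⟨_, 1, vec_iso hw hp, ?_⟩, by rw [tp, dif_pos hp]; rfl⟩
    rfl
  rintro _ ⟨A, ⟨v, c, hv, hA⟩, rfl⟩
  rcases eq_tv_or_one cardF hv hA with rfl | ⟨hc, rfl, hv0⟩
  · rw [map_one]; exact Subgroup.one_mem _
  by_cases hc0 : c = 0
  · subst hc0
    have : tv cardF v 0 hv hc = 1 := su_ext fun x => by
      rw [tv_act, zero_mul, zero_smul, add_zero, act_one]
    rw [this, map_one]; exact Subgroup.one_mem _
  have hc1 : c = 1 := (UnitaryF4Geo.fixed_cases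
    (UnitaryF4Geo.eq_of_add_eq_zero hc).symm).resolve_left hc0
  subst hc1
  choose n hn hnu using fun d => CosetCertU62.toF_surj hw (v d)
  set N := n 0 + 4 * n 1 + 16 * n 2 + 64 * n 3 + 256 * n 4 + 1024 * n 5 with hN
  have h0 := hn 0; have h1 := hn 1; have h2 := hn 2; have h3 := hn 3; have h4 := hn 4; have h5 := hn 5
  have hd : ∀ d : Fin 6, dig N d = n d := by
    intro d
    have e : ∀ x k, dig x k = x / 2 ^ (2 * k) % 4 := fun x k => by
      unfold CosetCertU62.dig
      show (x >>> (2 * k)) &&& (2 ^ 2 - 1) = _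
      rw [Nat.and_two_pow_sub_one_eq_mod, Nat.shiftRight_eq_div_pow]
    rw [e]
    fin_cases d <;> simp <;> omega
  have hNv : toV w N = v := funext fun d => by rw [toV, hd, hnu]
  have hN0 : N ≠ 0 := fun h => hv0 (by rw [← hNv, h]; funext d; simp [toV, dig, toF])
  have hN1 : hC N N = 0 := by
    by_contra hh
    exact CosetCertU62.toF_ne hw (hC_lt N N) hh (by rw [toF_hC hw, hNv, hv])
  have h := idx2 N (by omega)
  have hb0 : Nat.beq N 0 = false := by rw [← Bool.not_eq_true, Nat.beq_eq]; exact hN0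
  simp only [idxOk, hb0, Bool.false_or, Nat.beq_eq.mpr hN1, Bool.not_true, force_eq,
    Bool.and_eq_true, Nat.blt_eq] at h
  obtain ⟨hlt, hsc⟩ := h
  obtain ⟨μ, hμ, e⟩ := scaled_sound hw hsc
  refine Subgroup.subset_closure ⟨_, hlt, ?_⟩
  rw [tp, dif_pos hlt]
  refine congrArg _ (su_ext fun x => ?_)
  have e' : v = μ • vec w (vc _) := hNv.symm.trans e.symm
  rw [tq, tv_act, tv_act, e', herm_smul_right, smul_smul]
  congr 2
  have := UnitaryF4Geo.cube hμ
  linear_combination hermForm 6 F 2 x (vec w (vc (entry StemU62Data.idxTbl 16 N))) * this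

theorem closure_gens : Subgroup.closure {g | ∃ x < 7, g = tp hw (gp x)} = ⊤ := by
  set H := Subgroup.closure {g | ∃ x < 7, g = tp hw (gp x)} with hH
  rw [eq_top_iff, ← closure_points hw, Subgroup.closure_le]
  rintro _ ⟨p, hp, rfl⟩
  induction p using Nat.strong_induction_on with
  | _ p ih =>
    by_cases h0 : p = 0
    · exact Subgroup.subset_closure ⟨0, by norm_num, by rw [h0, gpos_ok.2]⟩
    · have h := (point_ok hp).2.1
      simp only [parOk, Bool.or_eq_true, Bool.and_eq_true, Nat.beq_eq, Nat.blt_eq] at h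
      obtain ⟨⟨h1, h2⟩, h3⟩ := h.resolve_left h0
      have hq : par p / 16 < 693 := h1.trans hp
      rw [← h3, ← tp_conj hw hq h2]
      have hx : tp hw (gp (par p % 16)) ∈ H := Subgroup.subset_closure ⟨_, h2, rfl⟩
      exact mul_mem (mul_mem hx (ih _ h1 hq)) (inv_mem hx)

theorem eq_one_of_fix {g : PSU 6 F 2} (h : ∀ p < 693, g * tp hw p * g⁻¹ = tp hw p) : g = 1 := by
  rw [← Subgroup.mem_bot, ← center_bot (F := F) hw, Subgroup.mem_center_iff]
  intro y
  have hy : y ∈ Subgroup.closure {g | ∃ p < 693, g = tp hw p} := by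
    rw [closure_points hw]; exact Subgroup.mem_top y
  induction hy using Subgroup.closure_induction with
  | mem a ha =>
    obtain ⟨p, hp, rfl⟩ := ha
    exact (mul_inv_eq_iff_eq_mul.1 (h p hp)).symm
  | one => rw [one_mul, mul_one]
  | mul a b _ _ ha hb => rw [mul_assoc, hb, ← mul_assoc, ha, mul_assoc]
  | inv a _ ha => rw [inv_mul_eq_iff_eq_mul, ← mul_assoc, ha, mul_inv_cancel_right]

end

end Cfsg.Agent.StemU62Points
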