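import Cfsg.Agent.Lib.StemU62Points

/-!
In a central extension of `PSU₆(2)` the transvections can be lifted equivariantly.

The defects of an arbitrary lift along the Schreier graph have order two and add up to zero along every
relator cycle; the elimination shows that they all vanish.
-/

set_option autoImplicit false
set_option maxRecDepth 100000
set_option linter.unusedSectionVars false

namespace Cfsg.Agent.StemU62Sign

open Cfsg.Agent.CosetCertCore Cfsg.Agent.CosetCertTable
open Cfsg.Agent.StemU62Checks Cfsg.Agent.StemU62Points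
open Subgroup
open scoped IsMulCommutative

variable {F : Type} [Field F] [Fintype F] [UnitaryF4Geo.FourField F] {w : F} (hw : w ^ 2 = w + 1)
variable {Γ : Type*} [Group Γ] (σ : Γ →* PSU 6 F 2) (hs : Function.Surjective σ)

/-- Lifts of the seven generators. -/
noncomputable def S (x : ℕ) : Γ := (hs (tp hw (gp x))).choose

theorem σ_S (x : ℕ) : σ (S hw σ hs x) = tp hw (gp x) := (hs (tp hw (gp x))).choose_spec

/-- Lifts of the points, along the tree. -/
noncomputable def L (q : ℕ) : Γ :=
  if h : q ≠ 0 ∧ par q / 16 < q then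
    S hw σ hs (par q % 16) * L (par q / 16) * (S hw σ hs (par q % 16))⁻¹
  else S hw σ hs 0
termination_by q
decreasing_by exact h.2

theorem par_ok {q : ℕ} (hq : q < 693) (h0 : q ≠ 0) :
    par q / 16 < q ∧ par q % 16 < 7 ∧ img (par q / 16) (par q % 16) = q := by
  have h := (point_ok hq).2.1
  simp only [parOk, Bool.or_eq_true, Bool.and_eq_true, Nat.beq_eq, Nat.blt_eq] at h
  obtain ⟨⟨h1, h2⟩, h3⟩ := h.resolve_left h0
  exact ⟨h1, h2, h3⟩

theorem L_zero : L hw σ hs 0 = S hw σ hs 0 := by rw [L]; simp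

theorem L_step {q : ℕ} (hq : q < 693) (h0 : q ≠ 0) :
    L hw σ hs q =
      S hw σ hs (par q % 16) * L hw σ hs (par q / 16) * (S hw σ hs (par q % 16))⁻¹ := by
  conv_lhs => rw [L]
  rw [dif_pos ⟨h0, (par_ok hq h0).1⟩]

theorem σ_L : ∀ {q : ℕ}, q < 693 → σ (L hw σ hs q) = tp hw q := by
  intro q
  induction q using Nat.strong_induction_on with
  | _ q ih =>
    intro hq
    by_cases h0 : q = 0
    · subst h0; rw [L_zero, σ_S, gpos_ok.2]
    · obtain ⟨h1, h2, h3⟩ := par_ok hq h0
      rw [L_step hw σ hs hq h0, map_mul, map_mul, map_inv, σ_S, ih _ h1 (h1.trans hq),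
        tp_conj hw (h1.trans hq) h2, h3]

variable (hc : σ.ker ≤ center Γ)
include hc

theorem L_sq : ∀ {q : ℕ}, q < 693 →
    L hw σ hs q * L hw σ hs q = S hw σ hs 0 * S hw σ hs 0 := by
  have hz : S hw σ hs 0 * S hw σ hs 0 ∈ center Γ :=
    hc (by rw [MonoidHom.mem_ker, map_mul, σ_S, tp_sq])
  intro q
  induction q using Nat.strong_induction_on with
  | _ q ih =>
    intro hq
    by_cases h0 : q = 0
    · subst h0; rw [L_zero]
    · obtain ⟨h1, -, -⟩ := par_ok hq h0
      rw [L_step hw σ hs hq h0]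
      generalize S hw σ hs (par q % 16) = s
      have := mem_center_iff.1 hz s
      calc _ = s * (L hw σ hs (par q / 16) * L hw σ hs (par q / 16)) * s⁻¹ := by group
        _ = _ := by rw [ih _ h1 (h1.trans hq), this, mul_inv_cancel_right]

theorem S_sq_center (x : ℕ) : S hw σ hs x * S hw σ hs x ∈ center Γ :=
  hc (by rw [MonoidHom.mem_ker, map_mul, σ_S, tp_sq])

/-- The defect of the lift along an edge. -/
noncomputable def E (p x : ℕ) : Γ :=
  (L hw σ hs (img p x))⁻¹ * (S hw σ hs x * L hw σ hs p * (S hw σ hs x)⁻¹)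

theorem conj_L (p x : ℕ) :
    S hw σ hs x * L hw σ hs p * (S hw σ hs x)⁻¹ = L hw σ hs (img p x) * E hw σ hs p x := by
  rw [E, mul_inv_cancel_left]

theorem E_central {p x : ℕ} (hp : p < 693) (hx : x < 7) : E hw σ hs p x ∈ center Γ := by
  refine hc ?_
  rw [MonoidHom.mem_ker, E, map_mul, map_inv, map_mul, map_mul, map_inv, σ_S,
    σ_L hw σ hs (img_lt hp hx).1, σ_L hw σ hs hp, tp_conj hw hp hx, inv_mul_cancel]

theorem E_sq {p x : ℕ} (hp : p < 693) (hx : x < 7) :
    E hw σ hs p x * E hw σ hs p x = 1 := by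
  have he := mem_center_iff.1 (E_central hw σ hs hc hp hx)
  have h1 : (L hw σ hs (img p x) * E hw σ hs p x) * (L hw σ hs (img p x) * E hw σ hs p x) =
      S hw σ hs x * (L hw σ hs p * L hw σ hs p) * (S hw σ hs x)⁻¹ := by
    rw [← conj_L hw σ hs hc p x]; group
  rw [L_sq hw σ hs hc hp,
    mem_center_iff.1 (hc (by rw [MonoidHom.mem_ker, map_mul, σ_S, tp_sq])) (S hw σ hs x),
    mul_inv_cancel_right, mul_assoc, ← mul_assoc (E hw σ hs p x) (L hw σ hs (img p x)),
    ← he (L hw σ hs (img p x)), mul_assoc (L hw σ hs (img p x)) (E hw σ hs p x), ← mul_assoc,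
    L_sq hw σ hs hc (img_lt hp hx).1] at h1
  exact mul_eq_left.1 h1

theorem E_back {p x : ℕ} (hp : p < 693) (hx : x < 7) :
    E hw σ hs (img p x) x = E hw σ hs p x := by
  obtain ⟨hq, hqp⟩ := img_lt hp hx
  have he := mem_center_iff.1 (E_central hw σ hs hc hp hx) (S hw σ hs x)
  have hsq := mem_center_iff.1 (S_sq_center hw σ hs hc x) (L hw σ hs p)
  set s := S hw σ hs x
  have h1 : L hw σ hs p = L hw σ hs p * E hw σ hs (img p x) x * E hw σ hs p x := by
    calc L hw σ hs p = (s * s) * L hw σ hs p * (s * s)⁻¹ := by rw [← hsq, mul_inv_cancel_right]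
      _ = s * (s * L hw σ hs p * s⁻¹) * s⁻¹ := by group
      _ = (s * L hw σ hs (img p x) * s⁻¹) * (s * E hw σ hs p x * s⁻¹) := by
        rw [conj_L hw σ hs hc p x]; group
      _ = _ := by rw [conj_L hw σ hs hc (img p x) x, hqp, he, mul_inv_cancel_right]
  have h2 : E hw σ hs (img p x) x * E hw σ hs p x = 1 := by
    rw [mul_assoc] at h1
    exact mul_eq_left.1 h1.symm
  exact (mul_eq_one_iff_eq_inv.1 h2).trans (inv_eq_of_mul_eq_one_right (E_sq hw σ hs hc hp hx))

theorem E_zero {p x : ℕ} (hp : p < 693) (hx : x < 7) (h : zeroOk p x = true) :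
    E hw σ hs p x = 1 := by
  obtain ⟨hq, hqp⟩ := img_lt hp hx
  simp only [zeroOk, force_eq, Bool.or_eq_true, Bool.and_eq_true, Nat.beq_eq,
    Bool.not_eq_true'] at h
  have tree : ∀ a b y : ℕ, y < 7 → b < 693 → b ≠ 0 → par b = a * 16 + y →
      img a y = b ∧ E hw σ hs a y = 1 := by
    intro a b y hy hb hb0 hpar
    obtain ⟨-, -, h3⟩ := par_ok hb hb0
    have e1 : par b / 16 = a := by omega
    have e2 : par b % 16 = y := by omega
    rw [e1, e2] at h3
    refine ⟨h3, ?_⟩
    have h4 := L_step hw σ hs hb hb0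
    rw [e1, e2] at h4
    rw [E, h3, ← h4, inv_mul_cancel]
  rcases h with (⟨h1, h2⟩ | ⟨h1, h2⟩) | ⟨h1, h2⟩
  · exact (tree p (img p x) x hx hq (by intro e; simp [e] at h1) h2).2
  · have := (tree (img p x) p x hx hp (by intro e; simp [e] at h1) h2).2
    rwa [E_back hw σ hs hc hp hx] at this
  · rw [E, h2]
    have hker : (S hw σ hs x)⁻¹ * L hw σ hs p ∈ center Γ := by
      refine hc ?_
      rw [MonoidHom.mem_ker, map_mul, map_inv, σ_S, σ_L hw σ hs hp, h1, inv_mul_cancel]
    have := mem_center_iff.1 hker (S hw σ hs x)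
    rw [inv_mul_eq_one, eq_mul_inv_iff_mul_eq]
    calc L hw σ hs p * S hw σ hs x
        = S hw σ hs x * ((S hw σ hs x)⁻¹ * L hw σ hs p * S hw σ hs x) := by group
      _ = _ := by rw [← this]; group

/-- The value of an unknown, written additively. -/
noncomputable def v (j : ℕ) : Additive (center Γ) :=
  if h : rep j / 16 < 693 ∧ rep j % 16 < 7 then
    Additive.ofMul ⟨E hw σ hs (rep j / 16) (rep j % 16), E_central hw σ hs hc h.1 h.2⟩
  else 0

theorem v_two (j : ℕ) : v hw σ hs hc j + v hw σ hs hc j = 0 := by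
  unfold v
  split
  · next h => exact congrArg Additive.ofMul (Subtype.ext (E_sq hw σ hs hc h.1 h.2))
  · exact add_zero _

/-- The value of a mask. -/
noncomputable def ev (f : ℕ) : Additive (center Γ) :=
  ∑ j ∈ Finset.range V, if f.testBit j then v hw σ hs hc j else 0

theorem ev_xor (a b : ℕ) : ev hw σ hs hc (a ^^^ b) = ev hw σ hs hc a + ev hw σ hs hc b := by
  rw [ev, ev, ev, ← Finset.sum_add_distrib]
  refine Finset.sum_congr rfl fun j _ => ?_
  rw [Nat.testBit_xor]
  cases a.testBit j <;> cases b.testBit j <;> simp [v_two]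

theorem ev_zero : ev hw σ hs hc 0 = 0 := by simp [ev]

/-- The contribution of one edge. -/
def bitMask (v : ℕ) : ℕ := cond (Nat.beq v 0) 0 (Nat.shiftLeft 1 (v - 1))

theorem ev_bit {p x : ℕ} (hp : p < 693) (hx : x < 7) :
    ev hw σ hs hc (bitMask (vmv p x)) = Additive.ofMul ⟨E hw σ hs p x, E_central hw σ hs hc hp hx⟩ := by
  obtain ⟨hq, hqp⟩ := img_lt hp hx
  have h := ((point_ok hp).2.2.1 x hx).2
  simp only [varOk, force_eq] at h
  by_cases h0 : vmv p x = 0
  · rw [h0] at h
    simp only [show Nat.beq 0 0 = true from rfl, cond_true] at h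
    rw [h0, show bitMask 0 = 0 from rfl, ev_zero]
    refine congrArg Additive.ofMul (?_ : (1 : center Γ) = _)
    exact Subtype.ext (E_zero hw σ hs hc hp hx h).symm
  · rw [show Nat.beq (vmv p x) 0 = false by rw [← Bool.not_eq_true, Nat.beq_eq]; exact h0,
      cond_false] at h
    simp only [Bool.and_eq_true, Bool.or_eq_true, Nat.ble_eq, Nat.beq_eq] at h
    obtain ⟨hV, hr⟩ := h
    set j := vmv p x - 1 with hj
    rw [bitMask, show Nat.beq (vmv p x) 0 = false by rw [← Bool.not_eq_true, Nat.beq_eq]; exact h0,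
      cond_false, show Nat.shiftLeft 1 (vmv p x - 1) = 2 ^ j from Nat.one_shiftLeft j, ev,
      Finset.sum_eq_single j]
    · rw [Nat.testBit_two_pow_self, if_pos rfl, v]
      rcases hr with hr | hr
      · rw [dif_pos ⟨by omega, by omega⟩]
        exact congrArg Additive.ofMul (Subtype.ext (by
          show E hw σ hs (rep j / 16) (rep j % 16) = E hw σ hs p x
          rw [hr, show (p * 16 + x) / 16 = p by omega, show (p * 16 + x) % 16 = x by omega]))
      · rw [dif_pos ⟨by omega, by omega⟩]
        exact congrArg Additive.ofMul (Subtype.ext (by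
          show E hw σ hs (rep j / 16) (rep j % 16) = E hw σ hs p x
          rw [hr, show (img p x * 16 + x) / 16 = img p x by omega,
            show (img p x * 16 + x) % 16 = x by omega, E_back hw σ hs hc hp hx]))
    · intro b _ hb
      rw [Nat.testBit_two_pow, if_neg]
      simpa using hb.symm
    · intro hn
      exact absurd (Finset.mem_range.2 (by omega)) hn

omit hc in
theorem cycMask_cons (x : ℕ) (u : List ℕ) (p : ℕ) :
    cycMask (x :: u) p = bitMask (vmv p x) ^^^ cycMask u (img p x) := by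
  simp only [cycMask, force_eq, bitMask]

theorem path : ∀ (u : List ℕ), (∀ x ∈ u, x < 7) → ∀ p < 693,
    val (S hw σ hs) u.reverse * L hw σ hs p * (val (S hw σ hs) u.reverse)⁻¹ =
      L hw σ hs (run u p) * ((Additive.toMul (ev hw σ hs hc (cycMask u p)) : center Γ) : Γ) := by
  intro u
  induction u with
  | nil => intro _ p _; simp [val_nil, ev_zero, cycMask, run]
  | cons x u ih =>
    intro hu p hp
    have hx := hu x (List.mem_cons_self ..)
    have hval : val (S hw σ hs) (x :: u).reverse = val (S hw σ hs) u.reverse * S hw σ hs x := by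
      unfold CosetCertCore.val
      simp [List.map_append]
    rw [hval, cycMask_cons, ev_xor, ev_bit hw σ hs hc hp hx, run_cons]
    set P := val (S hw σ hs) u.reverse with hP
    calc P * S hw σ hs x * L hw σ hs p * (P * S hw σ hs x)⁻¹
        = P * (S hw σ hs x * L hw σ hs p * (S hw σ hs x)⁻¹) * P⁻¹ := by group
      _ = P * L hw σ hs (img p x) * P⁻¹ * (P * E hw σ hs p x * P⁻¹) := by
        rw [conj_L hw σ hs hc]; group
      _ = _ := by
        rw [ih (fun y hy => hu y (List.mem_cons_of_mem _ hy)) _ (img_lt hp hx).1,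
          mem_center_iff.1 (E_central hw σ hs hc hp hx) P, mul_inv_cancel_right, mul_assoc,
          toMul_add, Subgroup.coe_mul, toMul_ofMul,
          mem_center_iff.1 (E_central hw σ hs hc hp hx)]

theorem σ_val {u : List ℕ} (hu : ∀ x ∈ u, x < 7) {p : ℕ} (hp : p < 693) :
    σ (val (S hw σ hs) u.reverse) * tp hw p * (σ (val (S hw σ hs) u.reverse))⁻¹ =
      tp hw (run u p) := by
  have h := congrArg σ (path hw σ hs hc u hu p hp)
  rw [map_mul, map_mul, map_inv, σ_L hw σ hs hp, map_mul,
    σ_L hw σ hs (run_lt u hu p hp)] at h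
  rw [h]
  have hEker : ∀ f, σ ((Additive.toMul (ev hw σ hs hc f) : center Γ) : Γ) = 1 := by
    intro f
    rw [ev]
    refine Finset.sum_induction _
      (fun a : Additive (center Γ) => σ ((Additive.toMul a : center Γ) : Γ) = 1)
      (fun a b ha hb => ?_) ?_ fun j _ => ?_
    · rw [toMul_add, Subgroup.coe_mul, map_mul, ha, hb, mul_one]
    · rw [toMul_zero, Subgroup.coe_one, map_one]
    · split_ifs
      · unfold v
        split
        · next hh =>
          show σ (E hw σ hs (rep j / 16) (rep j % 16)) = 1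
          rw [E, map_mul, map_inv, map_mul, map_mul, map_inv, σ_S,
            σ_L hw σ hs (img_lt hh.1 hh.2).1, σ_L hw σ hs hh.1, tp_conj hw hh.1 hh.2, inv_mul_cancel]
        · rw [toMul_zero, Subgroup.coe_one, map_one]
      · rw [toMul_zero, Subgroup.coe_one, map_one]
  rw [hEker, mul_one]

theorem ev_cycle {u : List ℕ} (hu : u ∈ StemU62Data.words) {p : ℕ} (hp : p < 693) :
    ev hw σ hs hc (cycMask u p) = 0 := by
  have hlt := word_lt hu
  have hfix : ∀ q < 693, run u q = q := fun q hq => (point_ok hq).2.2.2 u hu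
  have h1 : val (S hw σ hs) u.reverse ∈ center Γ := by
    refine hc (MonoidHom.mem_ker.2 (eq_one_of_fix hw fun q hq => ?_))
    rw [σ_val hw σ hs hc hlt hq, hfix q hq]
  have h2 := path hw σ hs hc u hlt p hp
  rw [← mem_center_iff.1 h1, mul_inv_cancel_right, hfix p hp] at h2
  have h3 := left_eq_mul.1 h2
  exact congrArg Additive.ofMul (Subtype.ext h3 : (Additive.toMul (ev hw σ hs hc (cycMask u p))) = 1)

theorem ev_xall : ∀ l : List ℕ, (∀ f ∈ l, ev hw σ hs hc f = 0) →
    ev hw σ hs hc (CenSplitStable50.xall l) = 0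
  | [], _ => ev_zero hw σ hs hc
  | a :: l, h => by
    rw [CenSplitStable50.xall, ev_xor, h a (List.mem_cons_self ..),
      ev_xall l fun f hf => h f (List.mem_cons_of_mem _ hf), add_zero]

theorem steps_sound : ∀ (l : List (ℕ × ℕ × List ℕ)) (i : ℕ),
    (∀ j < i, ev hw σ hs hc (mask j) = 0) → stepsOk l i = true →
      ∀ j < i + l.length, ev hw σ hs hc (mask j) = 0 := by
  intro l
  induction l with
  | nil => intro i h _ j hj; exact h j hj
  | cons s l ih =>
    intro i h hok j hj
    have hok' : (Nat.blt s.1 StemU62Data.words.length && Nat.blt s.2.1 693 &&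
        s.2.2.all (fun j => Nat.blt j i) &&
        Nat.beq (mask i) (cycMask (StemU62Data.words.getD s.1 []) s.2.1 ^^^
          CenSplitStable50.xall (s.2.2.map mask)) && stepsOk l (i + 1)) = true := by
      simpa only [stepsOk, force_eq] using hok
    simp only [Bool.and_eq_true, Nat.blt_eq, Nat.beq_eq, List.all_eq_true] at hok'
    obtain ⟨⟨⟨⟨h1, h2⟩, h3⟩, h4⟩, h5⟩ := hok'
    refine ih (i + 1) (fun k hk => ?_) h5 j (by rw [List.length_cons] at hj; omega)
    rcases Nat.lt_succ_iff_lt_or_eq.1 hk with hk | rfl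
    · exact h k hk
    · rw [h4, ev_xor, ev_cycle hw σ hs hc (by
        rw [List.getD_eq_getElem _ _ h1]; exact List.getElem_mem h1) h2, zero_add]
      refine ev_xall hw σ hs hc _ fun f hf => ?_
      obtain ⟨a, ha, rfl⟩ := List.mem_map.1 hf
      exact h a (h3 a ha)

theorem mask_zero : ∀ j < V, ev hw σ hs hc (mask j) = 0 := by
  have e : ∀ (l : List (ℕ × ℕ × List ℕ)) (i n : ℕ), l.length = n → stepsOk l i = true →
      (∀ j < i, ev hw σ hs hc (mask j) = 0) → ∀ j < i + n, ev hw σ hs hc (mask j) = 0 :=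
    fun l i n hn hok h => hn ▸ steps_sound hw σ hs hc l i h hok
  have h1 := e _ 0 236 (by decide +kernel) st0 (fun j hj => absurd hj (Nat.not_lt_zero _))
  have h2 := e _ 236 236 (by decide +kernel) st236 h1
  have h3 := e _ 472 236 (by decide +kernel) st472 h2
  have h4 := e _ 708 236 (by decide +kernel) st708 h3
  have h5 := e _ 944 236 (by decide +kernel) st944 h4
  have h6 := e _ 1180 236 (by decide +kernel) st1180 h5
  have h7 := e _ 1416 236 (by decide +kernel) st1416 h6
  have h8 := e _ 1652 236 (by decide +kernel) st1652 h7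
  have h9 := e _ 1888 236 (by decide +kernel) st1888 h8
  exact e _ 2124 236 (by decide +kernel) st2124 h9

theorem v_zero : ∀ j < V, v hw σ hs hc j = 0 := by
  intro j
  induction j using Nat.strong_induction_on with
  | _ j ih =>
    intro hj
    have hVV : V = 2360 := rfl
    have h := mask_zero hw σ hs hc (V - 1 - j) (by omega)
    have ht := tri2 (V - 1 - j) (by omega)
    simp only [triOk, Nat.beq_eq, show V - 1 - (V - 1 - j) = j by simp only [V] at hj ⊢; omega] at ht
    have hbit : (mask (V - 1 - j)).testBit j = true ∧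
        ∀ k > j, (mask (V - 1 - j)).testBit k = false := by
      have hsh : ∀ k, (mask (V - 1 - j)).testBit (j + k) = Nat.testBit 1 k := fun k => by
        rw [← Nat.testBit_shiftRight]
        exact congrArg (fun n => Nat.testBit n k) ht
      refine ⟨by simpa using hsh 0, fun k hk => ?_⟩
      obtain ⟨d, rfl⟩ : ∃ d, k = j + (d + 1) := ⟨k - j - 1, by omega⟩
      rw [hsh, Nat.testBit_one_eq_true_iff_self_eq_zero.not.2 (by omega) |> Bool.eq_false_iff.2]
    rw [ev, Finset.sum_eq_single j] at h
    · rwa [hbit.1, if_pos rfl] at h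
    · intro k hk hkj
      rcases lt_or_gt_of_ne hkj with hk' | hk'
      · split_ifs
        · exact ih k hk' (Finset.mem_range.1 hk)
        · rfl
      · rw [hbit.2 k hk']; rfl
    · intro hn; exact absurd (Finset.mem_range.2 hj) hn

/-- The lifts are equivariant. -/
theorem equivariant {p x : ℕ} (hp : p < 693) (hx : x < 7) :
    S hw σ hs x * L hw σ hs p * (S hw σ hs x)⁻¹ = L hw σ hs (img p x) := by
  rw [conj_L hw σ hs hc]
  have h := ev_bit hw σ hs hc hp hx
  have h0 : ev hw σ hs hc (bitMask (vmv p x)) = 0 := by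
    rw [ev]
    refine Finset.sum_eq_zero fun j hj => ?_
    rw [v_zero hw σ hs hc j (Finset.mem_range.1 hj), ite_self]
  rw [h0] at h
  have : (1 : center Γ) = ⟨E hw σ hs p x, E_central hw σ hs hc hp hx⟩ := congrArg Additive.toMul h
  rw [show E hw σ hs p x = 1 from (congrArg Subtype.val this).symm, mul_one]

end Cfsg.Agent.StemU62Sign
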