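import Cfsg.Agent.Lib.CosetCertU62

/-!
The diagonal automorphism of `PSU₆(2)` on the generators of the double cover, and a relator that
separates the double cover from its twist.
-/

set_option autoImplicit false
set_option maxRecDepth 100000
set_option linter.unusedSectionVars false

namespace Cfsg.Agent.StemU62Twist

open Cfsg.Agent.CosetCertCore Cfsg.Agent.CosetCertTable Cfsg.Agent.CosetCertPres
open Cfsg.Agent.CosetCertU62 Cfsg.Agent.CosetCertRestrict Cfsg.Agent.CosetCertOrder
open Cfsg.Agent.OrthUnitaryHerm Cfsg.Agent.OrthUnitaryTransvection Cfsg.Agent.OrthUnitaryPSU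
open scoped Matrix

/-- For each of the eight transvection generators: the image of it under the diagonal automorphism,
as a conjugate `u a u⁻¹` of a generator. -/
def images : List (List ℕ × ℕ) :=
  [([], 1),
   ([8, 2, 6, 7, 4, 8, 5, 4, 3, 2], 1),
   ([], 3),
   ([], 4),
   ([], 5),
   ([7], 6),
   ([], 6),
   ([7, 4, 8, 2, 6, 5, 4, 3, 2], 1)]

/-- A relator of the projective group in which every generator occurs an even number of times. -/
def witness : List ℕ := [6, 8, 4, 8, 3, 5, 4, 7, 6, 8, 4, 8, 3, 5, 4, 7, 6, 8, 4, 8, 3, 5, 4, 7, 6, 8, 4, 8, 3, 5, 4, 7, 6, 8, 4, 8, 3, 5, 4, 7, 4, 7, 6, 5, 4, 3, 4, 7, 6, 5, 4, 3, 4, 7, 6, 5, 4, 3]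

/-- Half of the letters of the relator. -/
def half : List ℕ := [3, 3, 3, 3, 4, 4, 4, 4, 4, 4, 4, 4, 5, 5, 5, 5, 6, 6, 6, 6, 7, 7, 7, 7, 8, 8, 8, 8, 8]

/-- A point moved by the image of the relator. -/
def movedPt : ℕ := 1

/-- The image word of generator `k + 1`. -/
def fword (k : ℕ) : List ℕ :=
  let t := images.getD k ([], 1)
  t.1 ++ t.2 :: t.1.reverse

/-- A packed vector from its digits. -/
def pack (f : ℕ → ℕ) : ℕ := f 0 + 4 * f 1 + 16 * f 2 + 64 * f 3 + 256 * f 4 + 1024 * f 5

/-- The transvection of generator `x` on packed vectors. -/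
noncomputable def mvc (x v : ℕ) : ℕ :=
  pack fun d => dig v d ^^^ mulF (hC v (cen (x - 1))) (dig (cen (x - 1)) d)

/-- A word of transvections on packed vectors, applied from the right. -/
noncomputable def actc (u : List ℕ) (v : ℕ) : ℕ :=
  List.rec (motive := fun _ => ℕ) v (fun x _ ih => mvc x ih) u

/-- The image of a centre under the word is the scaled centre, up to a scalar. -/
noncomputable def imageOk (k : ℕ) : Bool :=
  let t := images.getD k ([], 1)
  decide (1 ≤ t.2 ∧ t.2 ≤ 8) && t.1.all (fun x => decide (1 ≤ x ∧ x ≤ 8)) &&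
    scaled (cen k) (fun d => cond (Nat.beq d 0)
      (mulF 3 (dig (actc t.1 (cen (t.2 - 1))) d)) (dig (actc t.1 (cen (t.2 - 1))) d))

theorem images_ok : (List.range 8).all imageOk = true := by decide +kernel

theorem witness_ok : (witness.all fun x => decide (1 ≤ x ∧ x ≤ 8)) = true ∧
    List.Perm witness (half ++ half) := by decide +kernel

/-- The relator fixes every point and its image does not. -/
noncomputable def runsOk (i : ℕ) : Bool := Nat.beq (T22.run (flat witness) i) i

theorem runs1 : AllBelow runsOk 1755 := AllBelow.step (AllBelow.zero _) 1755 (by decide +kernel)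
theorem runs2 : AllBelow runsOk 3510 := AllBelow.step runs1 1755 (by decide +kernel)

theorem moved : movedPt < 3510 ∧
    T22.run (flat (witness.flatMap fun x => fword (x - 1))) movedPt ≠ movedPt := by
  decide +kernel

/-- The scaling factors. -/
def dd {F : Type} [Field F] (w : F) : Fin 6 → F := fun i => if i = 0 then w else 1

variable {F : Type} [Field F] [Fintype F] [UnitaryF4Geo.FourField F] {w : F} (hw : w ^ 2 = w + 1)
include hw

theorem dd_ne (i : Fin 6) : dd w i ≠ 0 := by
  unfold dd; split_ifs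
  · exact (UnitaryF4Geo.omega_ne hw).1
  · exact one_ne_zero

/-- Conjugation of a matrix by the scaling. -/
noncomputable def conjMat (d : Fin 6 → F) (M : Matrix (Fin 6) (Fin 6) F) : Matrix (Fin 6) (Fin 6) F :=
  Matrix.diagonal d * M * Matrix.diagonal d⁻¹

omit hw in
theorem diag_mulVec (d x : Fin 6 → F) : Matrix.diagonal d *ᵥ x = d * x := by
  funext i; rw [Matrix.mulVec_diagonal]; rfl

omit hw in
theorem herm_scale {d : Fin 6 → F} (hd : ∀ i, d i ≠ 0) (x y : Fin 6 → F) :
    hermForm 6 F 2 (d * x) (d * y) = hermForm 6 F 2 x y := by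
  refine Finset.sum_congr rfl fun i _ => ?_
  simp only [Pi.mul_apply]
  have := UnitaryF4Geo.cube (hd i)
  linear_combination (x i * y i ^ 2) * this

omit hw in
theorem exists_scale {d : Fin 6 → F} (hd : ∀ i, d i ≠ 0) (g : SU 6 F 2) :
    ∃ g' : SU 6 F 2, ∀ x, act g' (d * x) = d * act g x := by
  let M := ((g : Matrix.SpecialLinearGroup (Fin 6) F) : Matrix (Fin 6) (Fin 6) F)
  have hdet : (conjMat d M).det = 1 := by
    rw [conjMat, Matrix.det_mul, Matrix.det_mul, Matrix.det_diagonal, Matrix.det_diagonal,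
      (g : Matrix.SpecialLinearGroup (Fin 6) F).det_coe, mul_one, ← Finset.prod_mul_distrib,
      Finset.prod_eq_one fun i _ => by rw [Pi.inv_apply, mul_inv_cancel₀ (hd i)]]
  have hcx : ∀ x, conjMat d M *ᵥ (d * x) = d * (M *ᵥ x) := by
    intro x
    rw [conjMat, ← Matrix.mulVec_mulVec, ← Matrix.mulVec_mulVec, diag_mulVec, diag_mulVec]
    congr 2
    funext i
    simp [Pi.mul_apply, inv_mul_cancel_left₀ (hd i)]
  refine ⟨mkSU (conjMat d M) hdet fun u v => ?_, hcx⟩
  obtain ⟨x, rfl⟩ : ∃ x, d * x = u := ⟨d⁻¹ * u, funext fun i => by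
    simp [mul_inv_cancel_left₀ (hd i)]⟩
  obtain ⟨y, rfl⟩ : ∃ y, d * y = v := ⟨d⁻¹ * v, funext fun i => by
    simp [mul_inv_cancel_left₀ (hd i)]⟩
  rw [hcx, hcx, herm_scale hd, herm_scale hd]
  exact herm_act g x y

omit hw in
/-- Conjugation by a diagonal unitary matrix. -/
noncomputable def scaleHom {d : Fin 6 → F} (hd : ∀ i, d i ≠ 0) : SU 6 F 2 →* SU 6 F 2 :=
  MonoidHom.mk' (fun g => (exists_scale hd g).choose) fun a b => su_ext fun y => by
    obtain ⟨x, rfl⟩ : ∃ x, d * x = y := ⟨d⁻¹ * y, funext fun i => by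
      simp [mul_inv_cancel_left₀ (hd i)]⟩
    rw [act_mul, (exists_scale hd (a * b)).choose_spec, (exists_scale hd b).choose_spec,
      (exists_scale hd a).choose_spec, act_mul]

omit hw in
theorem scaleHom_spec {d : Fin 6 → F} (hd : ∀ i, d i ≠ 0) (g : SU 6 F 2) (x : Fin 6 → F) :
    act (scaleHom hd g) (d * x) = d * act g x := (exists_scale hd g).choose_spec x

/-- The diagonal automorphism of the special unitary group. -/
noncomputable def tw : SU 6 F 2 ≃* SU 6 F 2 :=
  MonoidHom.toMulEquiv (scaleHom (dd_ne hw))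
    (scaleHom (d := (dd w)⁻¹) fun i => inv_ne_zero (dd_ne hw i))
    (MonoidHom.ext fun g => su_ext fun x => by
      have h1 := scaleHom_spec (d := (dd w)⁻¹) (fun i => inv_ne_zero (dd_ne hw i))
        (scaleHom (dd_ne hw) g) (dd w * x)
      have hx : ∀ z : Fin 6 → F, (dd w)⁻¹ * (dd w * z) = z := fun z => funext fun i => by
        simp [inv_mul_cancel_left₀ (dd_ne hw i)]
      rw [hx, scaleHom_spec, hx] at h1
      exact h1)
    (MonoidHom.ext fun g => su_ext fun x => by
      have h1 := scaleHom_spec (dd_ne hw)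
        (scaleHom (d := (dd w)⁻¹) (fun i => inv_ne_zero (dd_ne hw i)) g) ((dd w)⁻¹ * x)
      have hx : ∀ z : Fin 6 → F, dd w * ((dd w)⁻¹ * z) = z := fun z => funext fun i => by
        simp [mul_inv_cancel_left₀ (dd_ne hw i)]
      rw [hx, scaleHom_spec, hx] at h1
      exact h1)

/-- The diagonal automorphism of the projective group. -/
noncomputable def phi : PSU 6 F 2 ≃* PSU 6 F 2 :=
  QuotientGroup.congr _ _ (tw hw) (by
    ext y
    constructor
    · rintro ⟨x, hx, rfl⟩
      refine Subgroup.mem_center_iff.2 fun z => ?_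
      simpa using congrArg (tw hw) (Subgroup.mem_center_iff.1 hx ((tw hw).symm z))
    · intro hy
      refine ⟨(tw hw).symm y, Subgroup.mem_center_iff.2 fun z => (tw hw).injective ?_,
        (tw hw).apply_symm_apply y⟩
      simpa using Subgroup.mem_center_iff.1 hy (tw hw z))

theorem phi_mk (g : SU 6 F 2) :
    phi hw (QuotientGroup.mk g) = QuotientGroup.mk (scaleHom (dd_ne hw) g) := rfl

theorem theta_gen (k : ℕ) (hk : k < 8) :
    theta hw (g9 (k + 1)) = QuotientGroup.mk (tr hw k hk) := by
  have h := inv_mem (mem_R_gen hw k hk)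
  rw [Prod.inv_mk, inv_inv] at h
  refine (unique_g hw (exists_g hw (g9 (k + 1))).choose_spec h).trans (congrArg _ ?_)
  rw [inv_eq_iff_mul_eq_one]
  apply su_ext
  intro x
  rw [act_mul, tr, tv_act, tv_act, herm_add_left, herm_smul_left, cen_herm hw k hk, mul_zero,
    add_zero, one_mul, add_assoc, ← add_smul, UnitaryF4Geo.add_self, zero_smul, add_zero, act_one]

omit hw in
theorem dig_pack (f : ℕ → ℕ) (hf : ∀ d, f d < 4) {d : ℕ} (hd : d < 6) : dig (pack f) d = f d := by
  have e : ∀ x k, dig x k = x / 2 ^ (2 * k) % 4 := fun x k => by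
    unfold CosetCertU62.dig
    show (x >>> (2 * k)) &&& (2 ^ 2 - 1) = _
    rw [Nat.and_two_pow_sub_one_eq_mod, Nat.shiftRight_eq_div_pow]
  have := hf 0; have := hf 1; have := hf 2; have := hf 3; have := hf 4; have := hf 5
  rw [e, pack]
  interval_cases d <;> omega

/-- The product of the transvections of a word. -/
noncomputable def trw (x : ℕ) : SU 6 F 2 :=
  if h : x - 1 < 8 then tr hw (x - 1) h else 1

theorem act_word : ∀ (u : List ℕ), (∀ x ∈ u, 1 ≤ x ∧ x ≤ 8) → ∀ v,
    act (val (trw hw) u) (toV w v) = toV w (actc u v) := by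
  intro u
  induction u with
  | nil => intro _ v; exact act_one _
  | cons x u ih =>
    intro hu v
    obtain ⟨h1, h2⟩ := hu x (List.mem_cons_self ..)
    rw [val_cons, act_mul, ih (fun y hy => hu y (List.mem_cons_of_mem _ hy)), trw,
      dif_pos (show x - 1 < 8 by omega), tr, tv_act, one_mul, ← toF_hC hw]
    funext d
    show toF w (dig (actc u v) d) + toF w _ * toF w (dig (cen (x - 1)) d) = toF w (dig (mvc x (actc u v)) d)
    rw [mvc, dig_pack _ (fun d => xor_lt (dig_lt _ _) (mulF_lt _ _)) d.2,
      toF_xor hw (dig_lt _ _) (mulF_lt _ _), toF_mul hw (hC_lt _ _) (dig_lt _ _)]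

theorem theta_val : ∀ (u : List ℕ), (∀ x ∈ u, 1 ≤ x ∧ x ≤ 8) →
    theta hw (val g9 u) = QuotientGroup.mk (val (trw hw) u) := by
  intro u
  induction u with
  | nil => intro _; exact map_one _
  | cons x u ih =>
    intro hu
    obtain ⟨h1, h2⟩ := hu x (List.mem_cons_self ..)
    rw [val_cons, val_cons, map_mul, ih fun y hy => hu y (List.mem_cons_of_mem _ hy),
      QuotientGroup.mk_mul, trw, dif_pos (show x - 1 < 8 by omega),
      ← theta_gen hw (x - 1) (by omega), show x - 1 + 1 = x by omega]

theorem g9_inv {x : ℕ} (h1 : 1 ≤ x) (h8 : x ≤ 8) :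
    theta hw (g9 x) * theta hw (g9 x) = 1 := by
  obtain ⟨k, rfl⟩ : ∃ k, x = k + 1 := ⟨x - 1, by omega⟩
  rw [theta_gen hw k (by omega), ← QuotientGroup.mk_mul]
  refine (congrArg _ ?_).trans (QuotientGroup.mk_one _)
  apply su_ext
  intro x
  rw [act_mul, tr, tv_act, tv_act, herm_add_left, herm_smul_left, cen_herm hw k (by omega), mul_zero,
    add_zero, one_mul, add_assoc, ← add_smul, UnitaryF4Geo.add_self, zero_smul, add_zero, act_one]

/-- The image word represents the image of a generator. -/
theorem theta_fword {k : ℕ} (hk : k < 8) :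
    theta hw (val g9 (fword k)) = phi hw (theta hw (g9 (k + 1))) := by
  have h := List.all_eq_true.1 images_ok k (List.mem_range.2 hk)
  simp only [imageOk, Bool.and_eq_true, decide_eq_true_eq, List.all_eq_true] at h
  obtain ⟨⟨ha, hu⟩, hsc⟩ := h
  set t := images.getD k ([], 1) with ht
  have hinv : theta hw (val g9 t.1.reverse) = (theta hw (val g9 t.1))⁻¹ := by
    have : ∀ l : List ℕ, (∀ x ∈ l, 1 ≤ x ∧ x ≤ 8) →
        theta hw (val g9 l.reverse) = (theta hw (val g9 l))⁻¹ := by
      intro l
      induction l with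
      | nil => intro _; simp [CosetCertCore.val]
      | cons x l ih =>
        intro hl
        obtain ⟨h1, h2⟩ := hl x (List.mem_cons_self ..)
        rw [List.reverse_cons, CosetCertPres.val_append, val_cons, val_cons, val_nil, mul_one,
          map_mul, map_mul, mul_inv_rev, ih fun y hy => hl y (List.mem_cons_of_mem _ hy),
          inv_eq_of_mul_eq_one_right (g9_inv hw h1 h2)]
    exact this _ hu
  rw [fword, ← ht, CosetCertPres.val_append, val_cons, map_mul, map_mul, hinv, theta_val hw _ hu,
    show g9 t.2 = g9 (t.2 - 1 + 1) by rw [show t.2 - 1 + 1 = t.2 by omega],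
    theta_gen hw (t.2 - 1) (by omega), theta_gen hw k hk, ← mul_assoc, ← QuotientGroup.mk_inv,
    ← QuotientGroup.mk_mul, ← QuotientGroup.mk_mul, phi_mk, tr, tr, tv_conj]
  refine congrArg _ (su_ext fun y => ?_)
  obtain ⟨x, rfl⟩ : ∃ x, dd w * x = y := ⟨(dd w)⁻¹ * y, funext fun i => by
    simp [mul_inv_cancel_left₀ (dd_ne hw i)]⟩
  rw [scaleHom_spec, tv_act, tv_act]
  set n := actc t.1 (cen (t.2 - 1)) with hn
  rw [show act (val (trw hw) t.1) (toV w (cen (t.2 - 1))) = toV w n from act_word hw _ hu _]
  obtain ⟨c, hc, e⟩ := scaled_sound hw hsc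
  -- `c • cen k` is the inverse image of the new centre
  have e2 : toV w n = dd w * (c • toV w (cen k)) := by
    rw [e]
    funext d
    simp only [Pi.mul_apply, dd, toV]
    by_cases hd : d = 0
    · subst hd
      simp only [if_true]
      show toF w (dig n 0) = w * toF w (cond (Nat.beq 0 0) (mulF 3 (dig n 0)) (dig n 0))
      rw [show Nat.beq 0 0 = true from rfl, cond_true, toF_mul hw (by norm_num) (dig_lt _ _),
        ← mul_assoc]
      have : w * toF w 3 = 1 := by
        simp [toF]
        linear_combination hw + w * UnitaryF4Geo.two_eq_zero (F := F)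
      rw [this, one_mul]
    · have hd' : Nat.beq (d : ℕ) 0 = false := by
        rw [← Bool.not_eq_true, Nat.beq_eq]
        exact fun h0 => hd (Fin.ext h0)
      simp only [if_neg hd, one_mul]
      show toF w (dig n d) = toF w (cond (Nat.beq (d : ℕ) 0) (mulF 3 (dig n d)) (dig n d))
      rw [hd', cond_false]
  rw [e2, herm_scale (dd_ne hw), herm_smul_right, mul_add (dd w), mul_smul_comm, one_mul, one_mul,
    mul_smul_comm, smul_smul]
  congr 2
  have := UnitaryF4Geo.cube hc
  linear_combination hermForm 6 F 2 x (toV w (cen k)) * this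

omit hw in
theorem val_witness :
    val g9 witness = 1 ∧ val g9 (witness.flatMap fun x => fword (x - 1)) ≠ 1 := by
  have hlt : ∀ k ∈ witness, k < 9 := fun k hk => by
    have := List.all_eq_true.1 witness_ok.1 k hk
    simp only [decide_eq_true_eq] at this
    omega
  constructor
  · apply Subtype.ext
    rw [val_g9, OneMemClass.coe_one]
    have h := eq_of_run (a := flat witness) (b := []) (flat_letters hlt) (by simp) fun i hi => by
      have := runs2 i hi
      simpa [runsOk, Table.run_nil] using this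
    simpa [CosetCertCore.val] using h
  · intro h
    obtain ⟨hp, hne⟩ := moved
    refine hne ?_
    have hlet : ∀ x ∈ flat (witness.flatMap fun x => fword (x - 1)), x < T22.NG :=
      flat_letters fun k hk => by
        have hb : (witness.flatMap fun x => fword (x - 1)).all (fun x => decide (x < 9)) = true := by
          decide +kernel
        simpa using List.all_eq_true.1 hb k hk
    have h2 := congrArg Subtype.val h
    rw [val_g9, OneMemClass.coe_one] at h2
    have h3 := rho_val_apply CosetCertFi22U.enumerated hlet ⟨movedPt, hp⟩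
    rw [h2] at h3
    simpa using h3.symm

end Cfsg.Agent.StemU62Twist
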