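import Mathlib
import Cfsg.Prelude.Def_GeometricClasses
import Cfsg.Agent.Lib.PrimeOrderModule84
import Cfsg.Agent.Lib.SemisimpleConjGL
import Cfsg.Agent.Lib.SubfieldRational
import Cfsg.Agent.Lib.PSLCard

/-!
Elements of odd prime order modulo scalars and subfield subgroups of `SL_n(q)`.
-/

set_option autoImplicit false

namespace Cfsg.Agent.SubfieldDerange84

open Module Polynomial Cfsg.Agent.PrimeOrderModule84

universe u

variable {F : Type u} [Field F] {n : ℕ} {F₀ : Subfield F}

/-- `A` is similar to a scalar multiple of a matrix with entries in `F₀`. -/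
def Sub (F₀ : Subfield F) (A : Matrix (Fin n) (Fin n) F) : Prop :=
  ∃ (s : F) (B : Matrix (Fin n) (Fin n) F₀) (P : GL (Fin n) F), s ≠ 0 ∧
    (P : Matrix (Fin n) (Fin n) F) * A = (s • B.map (F₀.subtype : F₀ →+* F)) * (P : Matrix (Fin n) (Fin n) F)

theorem sub_of_mem [NeZero n] (x P : Matrix.SpecialLinearGroup (Fin n) F)
    (h : P⁻¹ * x * P ∈ ((Cfsg.Geo.subfieldSubgroup F₀ 1).comap
      (Matrix.SpecialLinearGroup.toGL : Matrix.SpecialLinearGroup (Fin n) F →* GL (Fin n) F))) :
    Sub F₀ (x : Matrix (Fin n) (Fin n) F) := by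
  obtain ⟨g', hg', he⟩ := Subgroup.mem_map.mp (Subgroup.mem_comap.1 h)
  obtain ⟨a, ⟨B, rfl⟩, b, hb, rfl⟩ := Subgroup.mem_sup_of_normal_right.mp hg'
  obtain ⟨c, hc⟩ := (Cfsg.Geo.mem_scalars_iff b).mp hb
  refine ⟨c, (B : Matrix (Fin n) (Fin n) F₀), Matrix.SpecialLinearGroup.toGL P⁻¹, c.ne_zero, ?_⟩
  have h1 : Matrix.SpecialLinearGroup.toGL P⁻¹ * Matrix.SpecialLinearGroup.toGL x =
      (Matrix.GeneralLinearGroup.map (F₀.subtype : F₀ →+* F) B * b) * Matrix.SpecialLinearGroup.toGL P⁻¹ := by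
    rw [show Matrix.GeneralLinearGroup.map (F₀.subtype : F₀ →+* F) B * b =
      Matrix.SpecialLinearGroup.toGL (P⁻¹ * x * P) by simpa using he, ← map_mul, ← map_mul]
    congr 1
    group
  have h2 := congrArg (fun g : GL (Fin n) F => (g : Matrix (Fin n) (Fin n) F)) h1
  simpa [hc, Matrix.GeneralLinearGroup.map] using h2

theorem mem_of_sub [Finite F] [NeZero n] (x : Matrix.SpecialLinearGroup (Fin n) F)
    (hss : Module.End.IsSemisimple (Matrix.toLin' (x : Matrix (Fin n) (Fin n) F)))
    (h : Sub F₀ (x : Matrix (Fin n) (Fin n) F)) :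
    ∃ P : Matrix.SpecialLinearGroup (Fin n) F, P⁻¹ * x * P ∈ ((Cfsg.Geo.subfieldSubgroup F₀ 1).comap
      (Matrix.SpecialLinearGroup.toGL : Matrix.SpecialLinearGroup (Fin n) F →* GL (Fin n) F)) := by
  classical
  obtain ⟨s, B, P, hs, hP⟩ := h
  set Pi : Matrix (Fin n) (Fin n) F := ((P⁻¹ : GL (Fin n) F) : Matrix (Fin n) (Fin n) F) with hPi
  have hPid : Pi.det ≠ 0 := ((Matrix.isUnit_iff_isUnit_det _).1 (P⁻¹).isUnit).ne_zero
  obtain ⟨T, hT, hTd⟩ := SemisimpleConjGL.exists_gl_commute_det hss (inv_ne_zero hPid)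
  let S : Matrix.SpecialLinearGroup (Fin n) F :=
    ⟨(T : Matrix (Fin n) (Fin n) F) * Pi, by rw [Matrix.det_mul, hTd, inv_mul_cancel₀ hPid]⟩
  refine ⟨S, Subgroup.mem_comap.2 ((SubfieldRational.mem_subfieldSubgroup_iff 1 _).2 fun u => ⟨s, B.mulVec u, ?_⟩)⟩
  simp only [SubfieldRational.rat, Units.val_one, Matrix.one_mulVec]
  have hTx : T * Matrix.SpecialLinearGroup.toGL x = Matrix.SpecialLinearGroup.toGL x * T := Units.ext hT
  have hS : Matrix.SpecialLinearGroup.toGL S = T * P⁻¹ := Units.ext rfl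
  have hR : (Matrix.SpecialLinearGroup.toGL (S⁻¹ * x * S) : Matrix (Fin n) (Fin n) F) =
      s • B.map (F₀.subtype : F₀ →+* F) := by
    rw [map_mul, map_mul, map_inv, hS, mul_inv_rev, inv_inv, mul_assoc, mul_assoc,
      ← mul_assoc (Matrix.SpecialLinearGroup.toGL x) T, ← hTx, ← mul_assoc, ← mul_assoc, ← mul_assoc,
      inv_mul_cancel_right, Units.val_mul, Units.val_mul, Matrix.SpecialLinearGroup.coe_GL_coe_matrix,
      hP, mul_assoc, ← Units.val_mul, mul_inv_cancel, Units.val_one, mul_one]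
  rw [hR, Matrix.smul_mulVec]
  congr 1
  funext i
  exact (RingHom.map_mulVec (F₀.subtype : F₀ →+* F) B u i).symm

/-- Eigenspace dimensions of similar matrices. -/
theorem finrank_ker_conj {A M : Matrix (Fin n) (Fin n) F} (P : GL (Fin n) F)
    (h : (P : Matrix (Fin n) (Fin n) F) * A = M * (P : Matrix (Fin n) (Fin n) F)) (lam : F) :
    finrank F ↥(LinearMap.ker (Matrix.toLin' A - lam • 1)) =
      finrank F ↥(LinearMap.ker (Matrix.toLin' M - lam • 1)) := by
  set L := Matrix.toLin' (P : Matrix (Fin n) (Fin n) F) with hL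
  have hLinj : Function.Injective L := by
    refine Function.LeftInverse.injective (g := Matrix.toLin' ((P⁻¹ : GL (Fin n) F) : Matrix (Fin n) (Fin n) F)) fun v => ?_
    rw [hL, ← LinearMap.comp_apply, ← Matrix.toLin'_mul, ← Units.val_mul, inv_mul_cancel, Units.val_one,
      Matrix.toLin'_one, LinearMap.id_apply]
  have hLs : Function.Surjective L := LinearMap.injective_iff_surjective.1 hLinj
  have hLA : ∀ v, L (Matrix.toLin' A v) = Matrix.toLin' M (L v) := fun v => by
    rw [hL, ← LinearMap.comp_apply, ← Matrix.toLin'_mul, h, Matrix.toLin'_mul, LinearMap.comp_apply]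
  have hmap : (LinearMap.ker (Matrix.toLin' A - lam • 1)).map L =
      LinearMap.ker (Matrix.toLin' M - lam • 1) := by
    ext v
    obtain ⟨u, rfl⟩ := hLs v
    rw [LinearMap.mem_ker, LinearMap.sub_apply, LinearMap.smul_apply, Module.End.one_apply, ← hLA,
      ← map_smul, ← map_sub, map_eq_zero_iff L hLinj]
    constructor
    · rintro ⟨w, hw, e⟩
      rw [← hLinj e]
      exact hw
    · exact fun hu => ⟨u, hu, rfl⟩
  rw [← hmap, ← (Submodule.equivMapOfInjective L hLinj _).finrank_eq]

variable [Fintype F]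

/-- Frobenius symmetry of the eigenspaces of a rational matrix. -/
theorem finrank_ker_frob {q₀ : ℕ} (hF₀ : Nat.card ↥F₀ = q₀) {p e : ℕ} [Fact p.Prime] [CharP F p]
    (hq₀ : q₀ = p ^ e) (B : Matrix (Fin n) (Fin n) F₀) (μ : F) :
    finrank F ↥(LinearMap.ker (Matrix.toLin' (B.map (F₀.subtype : F₀ →+* F)) - μ • 1)) =
      finrank F ↥(LinearMap.ker (Matrix.toLin' (B.map (F₀.subtype : F₀ →+* F)) - μ ^ q₀ • 1)) := by
  classical
  haveI : Fintype F₀ := Fintype.ofFinite _
  set τ : F →+* F := iterateFrobenius F p e with hτ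
  have hτa : ∀ a, τ a = a ^ q₀ := fun a => by rw [hτ, iterateFrobenius_def, hq₀]
  have hτb : Function.Bijective τ := Finite.injective_iff_bijective.1 τ.injective
  have hfix : ∀ a : F₀, τ (a : F) = a := fun a => by
    rw [hτa, ← hF₀, Nat.card_eq_fintype_card]
    exact_mod_cast congrArg Subtype.val (FiniteField.pow_card a)
  set M := B.map (F₀.subtype : F₀ →+* F)
  have hM : M.map τ = M := by ext i j; exact hfix (B i j)
  have hkey : ∀ v, (Matrix.toLin' M - τ μ • 1) (fun i => τ (v i)) = fun i => τ ((Matrix.toLin' M - μ • 1) v i) := by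
    intro v
    funext i
    simp only [LinearMap.sub_apply, LinearMap.smul_apply, Module.End.one_apply, Matrix.toLin'_apply,
      Pi.sub_apply, Pi.smul_apply, smul_eq_mul, map_sub, map_mul]
    congr 1
    conv_lhs => rw [← hM]
    exact (RingHom.map_mulVec τ M v i).symm
  have hcard : Nat.card ↥(LinearMap.ker (Matrix.toLin' M - μ • 1)) =
      Nat.card ↥(LinearMap.ker (Matrix.toLin' M - τ μ • 1)) := by
    refine Nat.card_congr (Equiv.subtypeEquiv (Equiv.piCongrRight fun _ => Equiv.ofBijective τ hτb) fun v => ?_)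
    show v ∈ LinearMap.ker _ ↔ (fun i => τ (v i)) ∈ LinearMap.ker _
    rw [LinearMap.mem_ker, LinearMap.mem_ker, hkey]
    constructor
    · intro hv; funext i; rw [hv]; simp
    · intro hv; funext i; exact τ.injective (by simpa using congrFun hv i)
  rw [Module.natCard_eq_pow_finrank (K := F) (V := ↥(LinearMap.ker (Matrix.toLin' M - μ • 1))),
    Module.natCard_eq_pow_finrank (K := F) (V := ↥(LinearMap.ker (Matrix.toLin' M - τ μ • 1))),
    Nat.card_eq_fintype_card, hτa] at hcard
  exact Nat.pow_right_injective Fintype.one_lt_card hcard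

/-- Eigenvalue symmetry forced by a subfield subgroup. -/
theorem Sub.symm_eigen {q₀ : ℕ} (hF₀ : Nat.card ↥F₀ = q₀) {p e : ℕ} [Fact p.Prime] [CharP F p]
    (hq₀ : q₀ = p ^ e) {A : Matrix (Fin n) (Fin n) F} (h : Sub F₀ A) :
    ∃ t : F, t ≠ 0 ∧ ∀ lam : F, finrank F ↥(LinearMap.ker (Matrix.toLin' A - lam • 1)) =
      finrank F ↥(LinearMap.ker (Matrix.toLin' A - (t * lam ^ q₀) • 1)) := by
  obtain ⟨s, B, P, hs, hP⟩ := h
  refine ⟨s * (s⁻¹) ^ q₀, mul_ne_zero hs (pow_ne_zero _ (inv_ne_zero hs)), fun lam => ?_⟩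
  have hsm : ∀ μ : F, finrank F ↥(LinearMap.ker (Matrix.toLin' A - μ • 1)) =
      finrank F ↥(LinearMap.ker (Matrix.toLin' (B.map (F₀.subtype : F₀ →+* F)) - (s⁻¹ * μ) • 1)) := fun μ => by
    rw [finrank_ker_conj P hP]
    have : Matrix.toLin' (s • B.map (F₀.subtype : F₀ →+* F)) - μ • 1 =
        s • (Matrix.toLin' (B.map (F₀.subtype : F₀ →+* F)) - (s⁻¹ * μ) • 1) := by
      rw [smul_sub, map_smul, smul_smul, ← mul_assoc, mul_inv_cancel₀ hs, one_mul]
    rw [this, LinearMap.ker_smul _ _ hs]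
  rw [hsm, hsm, finrank_ker_frob hF₀ hq₀, mul_pow, ← mul_assoc, ← mul_assoc, inv_mul_cancel₀ hs, one_mul]

omit [Fintype F] in
/-- Extending scalars keeps the dimension of a kernel. -/
theorem finrank_ker_map (B : Matrix (Fin n) (Fin n) F₀) :
    finrank F ↥(LinearMap.ker (Matrix.toLin' (B.map (F₀.subtype : F₀ →+* F)))) =
      finrank F₀ ↥(LinearMap.ker (Matrix.toLin' B)) := by
  classical
  set ι : F₀ →+* F := F₀.subtype
  have hLI : ∀ (d : ℕ) (L : Matrix (Fin n) (Fin d) F₀), Function.Injective (Matrix.toLin' L) →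
      Function.Injective (Matrix.toLin' (L.map ι)) := by
    intro d L hL
    obtain ⟨M, hM⟩ := LinearMap.exists_leftInverse_of_injective (Matrix.toLin' L) (LinearMap.ker_eq_bot.2 hL)
    have h1 : LinearMap.toMatrix' M * L = 1 := by
      apply Matrix.toLin'.injective
      rw [Matrix.toLin'_mul, Matrix.toLin'_toMatrix', hM, Matrix.toLin'_one]
    refine Function.LeftInverse.injective (g := Matrix.toLin' ((LinearMap.toMatrix' M).map ι)) fun v => ?_
    rw [← LinearMap.comp_apply, ← Matrix.toLin'_mul, ← Matrix.map_mul, h1,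
      Matrix.map_one ι (map_zero ι) (map_one ι), Matrix.toLin'_one, LinearMap.id_apply]
  have hcomp : ∀ {d : ℕ} (L : Matrix (Fin n) (Fin d) F₀),
      Matrix.toLin' (B.map ι) ∘ₗ Matrix.toLin' (L.map ι) = Matrix.toLin' ((B * L).map ι) := fun L => by
    rw [← Matrix.toLin'_mul, ← Matrix.map_mul]
  let K := LinearMap.ker (Matrix.toLin' B)
  let R := LinearMap.range (Matrix.toLin' B)
  let e := Module.finBasis F₀ ↥K
  let L := LinearMap.toMatrix' (K.subtype ∘ₗ e.equivFun.symm.toLinearMap)
  have hL : Function.Injective (Matrix.toLin' L) := by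
    rw [Matrix.toLin'_toMatrix']
    exact K.injective_subtype.comp e.equivFun.symm.injective
  have hBL : B * L = 0 := by
    apply Matrix.toLin'.injective
    rw [Matrix.toLin'_mul, Matrix.toLin'_toMatrix', map_zero]
    exact LinearMap.ext fun v => (e.equivFun.symm v).2
  have h1 : finrank F₀ ↥K ≤ finrank F ↥(LinearMap.ker (Matrix.toLin' (B.map ι))) := by
    have := LinearMap.finrank_range_of_inj (hLI _ L hL)
    rw [Module.finrank_fin_fun] at this
    rw [← this]
    refine Submodule.finrank_mono ?_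
    rintro _ ⟨v, rfl⟩
    rw [LinearMap.mem_ker, ← LinearMap.comp_apply, hcomp, hBL]
    simp [Matrix.map_zero ι (map_zero ι)]
  let f := Module.finBasis F₀ ↥R
  obtain ⟨S, hS⟩ := LinearMap.exists_rightInverse_of_surjective (Matrix.toLin' B).rangeRestrict
    (LinearMap.range_eq_top.2 (Matrix.toLin' B).surjective_rangeRestrict)
  let L' := LinearMap.toMatrix' (S ∘ₗ f.equivFun.symm.toLinearMap)
  have hBL' : Function.Injective (Matrix.toLin' (B * L')) := by
    rw [Matrix.toLin'_mul, Matrix.toLin'_toMatrix']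
    intro u v huv
    apply f.equivFun.symm.injective
    have h3 : ∀ w, (Matrix.toLin' B).rangeRestrict (S w) = w := fun w => LinearMap.congr_fun hS w
    rw [← h3 (f.equivFun.symm u), ← h3 (f.equivFun.symm v)]
    exact Subtype.ext huv
  have h2 : finrank F₀ ↥R ≤ finrank F ↥(LinearMap.range (Matrix.toLin' (B.map ι))) := by
    have := LinearMap.finrank_range_of_inj (hLI _ (B * L') hBL')
    rw [Module.finrank_fin_fun] at this
    rw [← this, ← hcomp]
    exact Submodule.finrank_mono (LinearMap.range_comp_le_range _ _)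
  have h3 := LinearMap.finrank_range_add_finrank_ker (Matrix.toLin' (B.map ι))
  have h4 := LinearMap.finrank_range_add_finrank_ker (Matrix.toLin' B)
  rw [Module.finrank_fin_fun] at h3 h4
  change finrank F _ = finrank F₀ ↥K
  change finrank F₀ ↥R + finrank F₀ ↥K = n at h4
  omega

variable {r : ℕ} [Fact r.Prime]

/-- A single block is not rational when the orbits differ. -/
theorem not_sub_block {q₀ : ℕ} (hF₀ : Nat.card ↥F₀ = q₀) (hr : (r : F) ≠ 0)
    (hc : 2 ≤ orderOf (Fintype.card F : ZMod r))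
    (hlt : orderOf (Fintype.card F : ZMod r) < orderOf (q₀ : ZMod r)) {A : Matrix (Fin n) (Fin n) F}
    (hA : A ^ r = 1) (hn : 0 < n)
    (hk : finrank F ↥(LinearMap.ker (Matrix.toLin' A - 1)) + orderOf (Fintype.card F : ZMod r) = n) :
    ¬ Sub F₀ A := by
  classical
  haveI : Fintype F₀ := Fintype.ofFinite _
  rintro ⟨s, B, P, hs, hP⟩
  have hrq : ¬ r ∣ Fintype.card F - 1 := fun hd => by
    have h1 := (card_pow_eq_one_iff (F := F) (r := r) 1).2 (by rwa [pow_one])
    rw [pow_one] at h1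
    rw [h1, orderOf_one] at hc
    omega
  have hpow : ∀ i : ℕ, (P : Matrix (Fin n) (Fin n) F) * A ^ i =
      (s • B.map (F₀.subtype : F₀ →+* F)) ^ i * (P : Matrix (Fin n) (Fin n) F) := by
    intro i
    induction i with
    | zero => simp
    | succ i ih => rw [pow_succ', ← mul_assoc, hP, mul_assoc, ih, ← mul_assoc, ← pow_succ']
  have hBr : s ^ r • (B ^ r).map (F₀.subtype : F₀ →+* F) = 1 := by
    have := hpow r
    rw [hA, mul_one, _root_.smul_pow] at this
    rw [Matrix.map_pow]
    exact (Units.mul_left_inj P).1 (this.symm.trans (one_mul _).symm)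
  have hsr : s ^ r * ((B ^ r) ⟨0, hn⟩ ⟨0, hn⟩ : F) = 1 := by
    simpa using congrFun (congrFun hBr ⟨0, hn⟩) ⟨0, hn⟩
  set b := (B ^ r) ⟨0, hn⟩ ⟨0, hn⟩ with hb
  have hb0 : (b : F) ≠ 0 := fun e => by rw [e, mul_zero] at hsr; exact zero_ne_one hsr
  have hbf : (b : F) ^ (Fintype.card F₀ - 1) = 1 := by
    have := FiniteField.pow_card_sub_one_eq_one b (fun e => hb0 (by rw [e]; rfl))
    exact_mod_cast congrArg Subtype.val this
  have hsf : s ^ (Fintype.card F₀ - 1) = 1 := by
    have h1 : (s ^ (Fintype.card F₀ - 1)) ^ r = 1 := by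
      rw [← pow_mul, mul_comm, pow_mul, eq_inv_of_mul_eq_one_left hsr, inv_pow, hbf, inv_one]
    have := pow_gcd_eq_one.2 ⟨h1, FiniteField.pow_card_sub_one_eq_one (s ^ (Fintype.card F₀ - 1)) (pow_ne_zero _ hs)⟩
    rwa [(Fact.out : r.Prime).coprime_iff_not_dvd.2 hrq, pow_one] at this
  obtain ⟨s₀, hs₀⟩ : ∃ s₀ : F₀, (s₀ : F) = s := by
    by_contra hne
    push Not at hne
    let P₀ : F[X] := X ^ Fintype.card F₀ - X
    have h1 : (1 : ℕ) < Fintype.card F₀ := Fintype.one_lt_card
    have hroots : insert s (Finset.univ.image fun a : F₀ => (a : F)) ⊆ P₀.roots.toFinset := by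
      intro a ha
      rw [Multiset.mem_toFinset, mem_roots (FiniteField.X_pow_card_sub_X_ne_zero F h1), IsRoot.def,
        eval_sub, eval_pow, eval_X, sub_eq_zero]
      rcases Finset.mem_insert.1 ha with rfl | ha
      · conv_lhs => rw [← Nat.sub_add_cancel h1.le, pow_succ, hsf, one_mul]
      · obtain ⟨c, -, rfl⟩ := Finset.mem_image.1 ha
        exact_mod_cast congrArg Subtype.val (FiniteField.pow_card c)
    have h2 := ((Finset.card_le_card hroots).trans (Multiset.toFinset_card_le _)).trans (card_roots' P₀)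
    rw [Finset.card_insert_of_notMem, Finset.card_image_of_injective _ Subtype.val_injective,
      Finset.card_univ, FiniteField.X_pow_card_sub_X_natDegree_eq F h1] at h2
    · omega
    · simp only [Finset.mem_image, Finset.mem_univ, true_and, not_exists]
      exact hne
  set B' : Matrix (Fin n) (Fin n) F₀ := s₀ • B with hB'
  have hB'map : B'.map (F₀.subtype : F₀ →+* F) = s • B.map (F₀.subtype : F₀ →+* F) := by
    ext i j; simp [hB', hs₀]
  have hB'1 : B' ^ r = 1 := by
    apply Matrix.map_injective (F₀.subtype).injective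
    show (B' ^ r).map (F₀.subtype : F₀ →+* F) = (1 : Matrix (Fin n) (Fin n) F₀).map (F₀.subtype : F₀ →+* F)
    rw [Matrix.map_pow, hB'map, _root_.smul_pow, ← Matrix.map_pow, hBr,
      Matrix.map_one (F₀.subtype : F₀ →+* F) (map_zero _) (map_one _)]
  have hr0 : (r : F₀) ≠ 0 := fun e => hr (by simpa using congrArg (Subtype.val : F₀ → F) e)
  have hg : (Matrix.toLin' B') ^ r = 1 := by
    rw [← Matrix.toLin'_pow, hB'1, Matrix.toLin'_one]; rfl
  have h1 := finrank_modEq hr0 hg (W := ⊤) le_top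
  rw [top_inf_eq, finrank_top, Module.finrank_fin_fun, ← Nat.card_eq_fintype_card, hF₀] at h1
  have h2 : finrank F ↥(LinearMap.ker (Matrix.toLin' A - 1)) =
      finrank F₀ ↥(LinearMap.ker (Matrix.toLin' B' - 1)) := by
    have h3 := finrank_ker_conj P (hB'map ▸ hP) (1 : F)
    rw [one_smul] at h3
    rw [h3]
    have h4 : Matrix.toLin' B' - 1 = Matrix.toLin' (B' - 1) := by
      rw [map_sub, Matrix.toLin'_one]; rfl
    have h5 : Matrix.toLin' (B'.map (F₀.subtype : F₀ →+* F)) - 1 =
        Matrix.toLin' ((B' - 1).map (F₀.subtype : F₀ →+* F)) := by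
      rw [Matrix.map_sub _ (map_sub (F₀.subtype : F₀ →+* F)),
        Matrix.map_one (F₀.subtype : F₀ →+* F) (map_zero _) (map_one _), map_sub, Matrix.toLin'_one]
      rfl
    rw [h4, h5, finrank_ker_map]
  rw [← h2] at h1
  have h6 := (Nat.modEq_iff_dvd' (show finrank F ↥(LinearMap.ker (Matrix.toLin' A - 1)) ≤ n by omega)).1 h1.symm
  rw [show n - finrank F ↥(LinearMap.ker (Matrix.toLin' A - 1)) = orderOf (Fintype.card F : ZMod r) by omega] at h6
  have := Nat.le_of_dvd (by omega) h6
  omega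

/-- A matrix with `B ^ r = 1` and prescribed characteristic polynomial. -/
theorem exists_rational {K : Type*} [Field K] (P : K[X]) (hP : P.Monic) {N : ℕ}
    (hd : P ∣ (X ^ r - 1) ^ N) :
    ∀ {m : ℕ}, P.natDegree = m → ∃ B : Matrix (Fin m) (Fin m) K, B ^ r = 1 ∧ B.charpoly = P := by
  classical
  have key : ∀ d, ∀ P : K[X], P.natDegree = d → P.Monic → P ∣ (X ^ r - 1) ^ N →
      ∃ B : Matrix (Fin d) (Fin d) K, B ^ r = 1 ∧ B.charpoly = P := by
    intro d
    induction d using Nat.strong_induction_on with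
    | _ d ih =>
      intro P hPd hP hd
      by_cases hu : IsUnit P
      · have hP1 := hP.eq_one_of_isUnit hu
        subst hP1
        rw [natDegree_one] at hPd
        subst hPd
        exact ⟨1, one_pow r, by rw [Matrix.charpoly, Matrix.det_isEmpty]⟩
      obtain ⟨e, hem, hei, P', rfl⟩ := exists_monic_irreducible_factor P hu
      have hP'm : P'.Monic := hem.of_mul_monic_left hP
      rw [hem.natDegree_mul hP'm] at hPd
      have hed : 0 < e.natDegree := hei.natDegree_pos
      obtain ⟨B', hB', hB'c⟩ := ih P'.natDegree (by omega) P' rfl hP'm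
        (dvd_trans (dvd_mul_left P' e) hd)
      have her : e ∣ X ^ r - 1 := hei.prime.dvd_of_dvd_pow (dvd_trans (dvd_mul_right e P') hd)
      let pb := AdjoinRoot.powerBasis' hem
      have hdim : pb.dim = e.natDegree := rfl
      let Be : Matrix (Fin e.natDegree) (Fin e.natDegree) K :=
        Matrix.reindexAlgEquiv K K (finCongr hdim) (Algebra.leftMulMatrix pb.basis pb.gen)
      have hBe : Be ^ r = 1 := by
        have hroot : (AdjoinRoot.root e) ^ r = 1 := by
          obtain ⟨u, hu'⟩ := her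
          have := congrArg (AdjoinRoot.mk e) hu'
          rw [map_mul, AdjoinRoot.mk_self, zero_mul, map_sub, map_pow, AdjoinRoot.mk_X, map_one,
            sub_eq_zero] at this
          exact this
        show (Matrix.reindexAlgEquiv K K (finCongr hdim) (Algebra.leftMulMatrix pb.basis pb.gen)) ^ r = 1
        rw [← map_pow, ← map_pow, AdjoinRoot.powerBasis'_gen, hroot, map_one, map_one]
      have hBec : Be.charpoly = e := by
        show (Matrix.reindex (finCongr hdim) (finCongr hdim) (Algebra.leftMulMatrix pb.basis pb.gen)).charpoly = e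
        rw [Matrix.charpoly_reindex, charpoly_leftMulMatrix, AdjoinRoot.powerBasis'_gen,
          AdjoinRoot.minpoly_root hem.ne_zero, hem.leadingCoeff, inv_one, map_one, mul_one]
      let E : Fin e.natDegree ⊕ Fin P'.natDegree ≃ Fin d := finSumFinEquiv.trans (finCongr hPd)
      refine ⟨Matrix.reindexAlgEquiv K K E (Matrix.fromBlocks Be 0 0 B'), ?_, ?_⟩
      · have hblk : ∀ i : ℕ, (Matrix.fromBlocks Be 0 0 B') ^ i = Matrix.fromBlocks (Be ^ i) 0 0 (B' ^ i) := by
          intro i
          induction i with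
          | zero => simp
          | succ i ih => rw [pow_succ, ih, Matrix.fromBlocks_multiply]; simp [pow_succ]
        rw [← map_pow, hblk, hBe, hB', Matrix.fromBlocks_one, map_one]
      · show (Matrix.reindex E E (Matrix.fromBlocks Be 0 0 B')).charpoly = e * P'
        rw [Matrix.charpoly_reindex, Matrix.charpoly_fromBlocks_zero₁₂, hBec, hB'c]
  intro m hm
  exact key m P hm hP hd

/-- Rational characteristic polynomial gives membership. -/
theorem sub_of_charpoly (hr : (r : F) ≠ 0) {A : Matrix (Fin n) (Fin n) F} (hA : A ^ r = 1)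
    (P : F₀[X]) (hP : P.map (F₀.subtype : F₀ →+* F) = A.charpoly)
    (hd : A.charpoly ∣ (X ^ r - 1) ^ n) : Sub F₀ A := by
  classical
  have hPm : P.Monic := monic_of_injective (F₀.subtype : F₀ →+* F).injective (hP ▸ A.charpoly_monic)
  have hPd : P.natDegree = n := by
    rw [← natDegree_map (F₀.subtype : F₀ →+* F), hP, Matrix.charpoly_natDegree_eq_dim, Fintype.card_fin]
  have hPdvd : P ∣ (X ^ r - 1) ^ n := by
    rw [← map_dvd_map (F₀.subtype : F₀ →+* F) (F₀.subtype : F₀ →+* F).injective hPm, hP]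
    simpa using hd
  obtain ⟨B, hB, hBc⟩ := exists_rational P hPm hPdvd hPd
  have hB' : (B.map (F₀.subtype : F₀ →+* F)) ^ r = 1 := by
    rw [← Matrix.map_pow, hB, Matrix.map_one (F₀.subtype : F₀ →+* F) (map_zero _) (map_one _)]
  obtain ⟨Q, hQ⟩ := SemisimpleConjGL.exists_gl_conj (SemisimpleConjGL.isSemisimple_of_pow_eq_one hr hA)
    (SemisimpleConjGL.isSemisimple_of_pow_eq_one hr hB') (by rw [Matrix.charpoly_map, hBc, hP])
  exact ⟨1, B, Q, one_ne_zero, by rw [one_smul]; exact hQ⟩

omit [Fintype F] in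
/-- Factors of the characteristic polynomial of an element of order `r`. -/
theorem charpoly_factor {A : Matrix (Fin n) (Fin n) F} (hA : A ^ r = 1) {e : F[X]} (hei : Irreducible e)
    (hd : e ∣ A.charpoly) : e ∣ X ^ r - 1 := by
  obtain ⟨x, hx0, hx⟩ := SemisimpleConjGL.exists_ker_of_dvd_charpoly (Matrix.toLin' A) hei
    (by rw [Matrix.charpoly_toLin']; exact hd)
  by_contra hnd
  obtain ⟨u, w, huw⟩ := hei.coprime_iff_not_dvd.2 hnd
  apply hx0
  have hg : (Matrix.toLin' A) ^ r = 1 := by rw [← Matrix.toLin'_pow, hA, Matrix.toLin'_one]; rfl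
  have := congrArg (fun P : F[X] => aeval (Matrix.toLin' A) P x) huw
  simpa [hx, hg] using this.symm

omit [Fintype F] in
theorem charpoly_dvd {A : Matrix (Fin n) (Fin n) F} (hA : A ^ r = 1) :
    A.charpoly ∣ (X ^ r - 1) ^ n := by
  have key : ∀ d, ∀ D : F[X], D.natDegree ≤ d → D.Monic → D ∣ A.charpoly → D ∣ (X ^ r - 1) ^ d := by
    intro d
    induction d with
    | zero => intro D hD hDm _; rw [eq_one_of_monic_natDegree_zero hDm (by omega)]; exact one_dvd _
    | succ d ih =>
      intro D hD hDm hDd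
      by_cases hu : IsUnit D
      · rw [hDm.eq_one_of_isUnit hu]; exact one_dvd _
      obtain ⟨e, hem, hei, D', rfl⟩ := exists_monic_irreducible_factor D hu
      have hD'm : D'.Monic := hem.of_mul_monic_left hDm
      rw [hem.natDegree_mul hD'm] at hD
      rw [pow_succ']
      exact mul_dvd_mul (charpoly_factor hA hei (dvd_trans (dvd_mul_right e D') hDd))
        (ih D' (by have := hei.natDegree_pos; omega) hD'm (dvd_trans (dvd_mul_left D' e) hDd))
  exact key n _ (by rw [Matrix.charpoly_natDegree_eq_dim, Fintype.card_fin]) A.charpoly_monic dvd_rfl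

/-- Equal orbit sizes: every element of order `r` is rational. -/
theorem sub_of_order_eq {q₀ : ℕ} (hF₀ : Nat.card ↥F₀ = q₀) (hr : (r : F) ≠ 0)
    (hcc : orderOf (q₀ : ZMod r) = orderOf (Fintype.card F : ZMod r))
    {A : Matrix (Fin n) (Fin n) F} (hA : A ^ r = 1) : Sub F₀ A := by
  classical
  haveI : Fintype F₀ := Fintype.ofFinite _
  set ι : F₀ →+* F := F₀.subtype
  have hr0 : (r : F₀) ≠ 0 := fun e => hr (by simpa using congrArg (Subtype.val : F₀ → F) e)
  have hfac : ∀ e : F[X], e.Monic → Irreducible e → e ∣ A.charpoly → ∃ h : F₀[X], h.map ι = e := by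
    intro e hem hei hed
    have her := charpoly_factor hA hei hed
    by_cases he1 : e ∣ X - C 1
    · have h1 : Associated e (X - C 1) := hei.associated_of_dvd (irreducible_X_sub_C 1) he1
      refine ⟨X - C 1, ?_⟩
      rw [eq_of_monic_of_associated hem (monic_X_sub_C 1) h1]
      simp
    haveI : Fact (Irreducible e) := ⟨hei⟩
    haveI : Module.Finite F (AdjoinRoot e) := (AdjoinRoot.powerBasis' hem).finite
    haveI : Finite (AdjoinRoot e) := Module.finite_of_finite F
    haveI : Fintype (AdjoinRoot e) := Fintype.ofFinite _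
    have hroot : (AdjoinRoot.root e) ^ r = 1 := by
      obtain ⟨u, hu'⟩ := her
      have := congrArg (AdjoinRoot.mk e) hu'
      rw [map_mul, AdjoinRoot.mk_self, zero_mul, map_sub, map_pow, AdjoinRoot.mk_X, map_one,
        sub_eq_zero] at this
      exact this
    have hne1 : AdjoinRoot.root e ≠ 1 := fun h1 => he1 (by
      rw [← AdjoinRoot.mk_eq_zero, map_sub, AdjoinRoot.mk_X, map_one, map_one, h1, sub_self])
    have hne0 : AdjoinRoot.root e ≠ 0 := fun h1 => by
      rw [h1, zero_pow (Fact.out : r.Prime).ne_zero] at hroot; exact zero_ne_one hroot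
    have hord : orderOf (AdjoinRoot.root e) = r := orderOf_eq_prime hroot hne1
    have hdvd : r ∣ Fintype.card (AdjoinRoot e) - 1 := by
      rw [← hord]
      exact orderOf_dvd_of_pow_eq_one (FiniteField.pow_card_sub_one_eq_one _ hne0)
    have hcard : Fintype.card (AdjoinRoot e) = Fintype.card F ^ e.natDegree := by
      rw [Module.card_eq_pow_finrank (K := F), (AdjoinRoot.powerBasis' hem).finrank]
      rfl
    rw [hcard, ← card_pow_eq_one_iff, ← orderOf_dvd_iff_pow_eq_one] at hdvd
    have hce : orderOf (Fintype.card F : ZMod r) ≤ e.natDegree := Nat.le_of_dvd hei.natDegree_pos hdvd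
    have hprod : ∀ d, ∀ D : F₀[X], D.natDegree ≤ d → D.Monic → D ∣ X ^ r - 1 → e ∣ D.map ι →
        ∃ h : F₀[X], h.map ι = e := by
      intro d
      induction d with
      | zero =>
        intro D hD hDm _ heD
        rw [eq_one_of_monic_natDegree_zero hDm (by omega), Polynomial.map_one] at heD
        exact absurd (isUnit_of_dvd_one heD) hei.not_isUnit
      | succ d ih =>
        intro D hD hDm hDd heD
        by_cases hu : IsUnit D
        · rw [hDm.eq_one_of_isUnit hu, Polynomial.map_one] at heD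
          exact absurd (isUnit_of_dvd_one heD) hei.not_isUnit
        obtain ⟨h, hhm, hhi, D', rfl⟩ := exists_monic_irreducible_factor D hu
        have hD'm : D'.Monic := hhm.of_mul_monic_left hDm
        rw [hhm.natDegree_mul hD'm] at hD
        rw [Polynomial.map_mul] at heD
        rcases hei.prime.dvd_or_dvd heD with h1 | h1
        · refine ⟨h, (Polynomial.eq_of_monic_of_dvd_of_natDegree_le hem (hhm.map ι) h1 ?_)⟩
          rw [natDegree_map]
          have := natDegree_le_order hr0 hhi (dvd_trans (dvd_mul_right h D') hDd)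
          rw [← Nat.card_eq_fintype_card, hF₀, hcc] at this
          omega
        · exact ih D' (by have := hhi.natDegree_pos; omega) hD'm (dvd_trans (dvd_mul_left D' h) hDd) h1
    exact hprod _ (X ^ r - 1) le_rfl (monic_X_pow_sub_C (1 : F₀) (Fact.out : r.Prime).ne_zero) dvd_rfl
      (by simpa using her)
  have key : ∀ d, ∀ D : F[X], D.natDegree ≤ d → D.Monic → D ∣ A.charpoly → ∃ P : F₀[X], P.map ι = D := by
    intro d
    induction d with
    | zero => intro D hD hDm _; exact ⟨1, by rw [eq_one_of_monic_natDegree_zero hDm (by omega), Polynomial.map_one]⟩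
    | succ d ih =>
      intro D hD hDm hDd
      by_cases hu : IsUnit D
      · exact ⟨1, by rw [hDm.eq_one_of_isUnit hu, Polynomial.map_one]⟩
      obtain ⟨e, hem, hei, D', rfl⟩ := exists_monic_irreducible_factor D hu
      have hD'm : D'.Monic := hem.of_mul_monic_left hDm
      rw [hem.natDegree_mul hD'm] at hD
      obtain ⟨P', hP'⟩ := ih D' (by have := hei.natDegree_pos; omega) hD'm (dvd_trans (dvd_mul_left D' e) hDd)
      obtain ⟨h, hh⟩ := hfac e hem hei (dvd_trans (dvd_mul_right e D') hDd)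
      exact ⟨h * P', by rw [Polynomial.map_mul, hh, hP']⟩
  obtain ⟨P, hP⟩ := key _ A.charpoly le_rfl A.charpoly_monic dvd_rfl
  exact sub_of_charpoly hr hA P hP (charpoly_dvd hA)

omit [Fintype F] in
/-- The rational special linear group lies in the subfield subgroup. -/
theorem card_SL_dvd [NeZero n] :
    Nat.card (Matrix.SpecialLinearGroup (Fin n) F₀) ∣ Nat.card ((Cfsg.Geo.subfieldSubgroup F₀ 1).comap
      (Matrix.SpecialLinearGroup.toGL : Matrix.SpecialLinearGroup (Fin n) F →* GL (Fin n) F) :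
        Subgroup (Matrix.SpecialLinearGroup (Fin n) F)) := by
  classical
  set H := (Cfsg.Geo.subfieldSubgroup F₀ 1).comap
    (Matrix.SpecialLinearGroup.toGL : Matrix.SpecialLinearGroup (Fin n) F →* GL (Fin n) F) with hH
  let φ : Matrix.SpecialLinearGroup (Fin n) F₀ →* Matrix.SpecialLinearGroup (Fin n) F :=
    Matrix.SpecialLinearGroup.map (F₀.subtype : F₀ →+* F)
  have hinj : Function.Injective φ := fun A B h => Subtype.ext
    (Matrix.map_injective (F₀.subtype).injective (congrArg Subtype.val h))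
  have hle : φ.range ≤ H := by
    rintro _ ⟨A, rfl⟩
    refine Subgroup.mem_comap.2 ((SubfieldRational.mem_subfieldSubgroup_iff 1 _).2 fun u =>
      ⟨1, (A : Matrix (Fin n) (Fin n) F₀).mulVec u, ?_⟩)
    simp only [SubfieldRational.rat, Units.val_one, Matrix.one_mulVec, one_smul]
    funext i
    exact (RingHom.map_mulVec (F₀.subtype : F₀ →+* F) (A : Matrix (Fin n) (Fin n) F₀) u i).symm
  rw [Nat.card_congr (MonoidHom.ofInjective hinj).toEquiv]
  exact Subgroup.card_dvd_of_le hle

/-- The index is prime to `r` when the orbit sizes agree and `r ≠ k`. -/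
theorem not_dvd_index [NeZero n] {q₀ k : ℕ} (hF₀ : Nat.card ↥F₀ = q₀)
    (hqk : Fintype.card F = q₀ ^ k) (hr : (r : F) ≠ 0) (hk0 : 0 < k) (hrk : ¬ r ∣ k)
    (hcc : orderOf (q₀ : ZMod r) = orderOf (Fintype.card F : ZMod r)) :
    ¬ r ∣ ((Cfsg.Geo.subfieldSubgroup F₀ 1).comap
      (Matrix.SpecialLinearGroup.toGL : Matrix.SpecialLinearGroup (Fin n) F →* GL (Fin n) F)).index := by
  classical
  haveI : Fintype F₀ := Fintype.ofFinite _
  set H := (Cfsg.Geo.subfieldSubgroup F₀ 1).comap
    (Matrix.SpecialLinearGroup.toGL : Matrix.SpecialLinearGroup (Fin n) F →* GL (Fin n) F) with hH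
  have hq₀2 : 1 < q₀ := by rw [← hF₀]; exact Finite.one_lt_card
  have hrq0 : ¬ r ∣ q₀ := fun hd => natCast_card_ne_zero (r := r) hr (by
    rw [hqk, Nat.cast_pow, (ZMod.natCast_eq_zero_iff _ _).2 hd, zero_pow hk0.ne'])
  have hgeom : ∀ j, ¬ orderOf (q₀ : ZMod r) ∣ j ∨ ¬ r ∣ ∑ l ∈ Finset.range k, (q₀ ^ j) ^ l := by
    intro j
    by_cases hd : orderOf (q₀ : ZMod r) ∣ j
    · right
      rw [← ZMod.natCast_eq_zero_iff, Nat.cast_sum]
      simp only [Nat.cast_pow, orderOf_dvd_iff_pow_eq_one.1 hd, one_pow, Finset.sum_const,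
        Finset.card_range, nsmul_eq_mul, mul_one]
      rwa [ZMod.natCast_eq_zero_iff]
    · exact Or.inl hd
  have hrp := (Fact.out : r.Prime)
  have hfac : ∀ i j, ¬ r ∣ (q₀ ^ i) ^ (k - 1) * ∑ l ∈ Finset.range k, (q₀ ^ j) ^ l := by
    intro i j hd
    rcases hrp.dvd_mul.1 hd with h1 | h1
    · exact hrq0 (hrp.dvd_of_dvd_pow (hrp.dvd_of_dvd_pow h1))
    · rcases hgeom j with h2 | h2
      · have h3 : r ∣ (q₀ ^ k) ^ j - 1 := by
          rw [← pow_mul, mul_comm k j, pow_mul,
            ← geom_sum_mul_of_one_le (show 1 ≤ q₀ ^ j from Nat.one_le_pow _ _ (by omega)) k]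
          exact dvd_mul_of_dvd_left h1 _
        rw [← hqk, ← card_pow_eq_one_iff, ← orderOf_dvd_iff_pow_eq_one, ← hcc] at h3
        exact h2 h3
      · exact h2 h1
  have hsub : Nat.card (Matrix.SpecialLinearGroup (Fin n) F₀) ∣ Nat.card H := card_SL_dvd
  have hstep : ∀ i : Fin n, (q₀ ^ k) ^ n - (q₀ ^ k) ^ (i : ℕ) = (q₀ ^ n - q₀ ^ (i : ℕ)) *
      ((q₀ ^ (i : ℕ)) ^ (k - 1) * ∑ l ∈ Finset.range k, (q₀ ^ (n - (i : ℕ))) ^ l) := by
    intro i
    rw [sub_eq_mul i.2.le, sub_eq_mul (q := q₀) i.2.le, pow_right_comm q₀ k (n - (i : ℕ)),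
      ← geom_sum_mul_of_one_le (show 1 ≤ q₀ ^ (n - (i : ℕ)) from Nat.one_le_pow _ _ (by omega)) k,
      pow_right_comm q₀ k (i : ℕ)]
    conv_lhs => arg 1; rw [show k = k - 1 + 1 by omega, pow_succ]
    ring
  have hGL : Nat.card (GL (Fin n) F) = Nat.card (GL (Fin n) F₀) * ∏ i : Fin n,
      ((q₀ ^ (i : ℕ)) ^ (k - 1) * ∑ l ∈ Finset.range k, (q₀ ^ (n - (i : ℕ))) ^ l) := by
    rw [Matrix.card_GL_field, Matrix.card_GL_field, hqk, ← Nat.card_eq_fintype_card, hF₀,
      ← Finset.prod_mul_distrib]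
    exact Finset.prod_congr rfl fun i _ => hstep i
  rw [← PSLCard.card_SL_mul_card_units, ← PSLCard.card_SL_mul_card_units, PSLCard.card_units_field,
    PSLCard.card_units_field, hF₀, Nat.card_eq_fintype_card (α := F), hqk] at hGL
  obtain ⟨t, ht⟩ := hsub
  have hc := H.card_mul_index
  rw [← geom_sum_mul_of_one_le (show 1 ≤ q₀ by omega) k, ← hc, ht] at hGL
  have hpos : 0 < Nat.card (Matrix.SpecialLinearGroup (Fin n) F₀) * (q₀ - 1) :=
    Nat.mul_pos Nat.card_pos (by omega)
  have h3 : t * H.index * (∑ l ∈ Finset.range k, q₀ ^ l) = ∏ i : Fin n,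
      ((q₀ ^ (i : ℕ)) ^ (k - 1) * ∑ l ∈ Finset.range k, (q₀ ^ (n - (i : ℕ))) ^ l) :=
    Nat.eq_of_mul_eq_mul_left hpos (by linear_combination hGL)
  intro hd
  have h4 := dvd_mul_of_dvd_left (dvd_mul_of_dvd_right hd t) (∑ l ∈ Finset.range k, q₀ ^ l)
  rw [h3, hrp.prime.dvd_finsetProd_iff] at h4
  obtain ⟨i, -, hi⟩ := h4
  exact hfac _ _ hi

end Cfsg.Agent.SubfieldDerange84
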