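import Cfsg.Agent.S5650

/-!
Overgroups of a symplectic subfield group in characteristic 2, any dimension at least 4: they contain every
transvection. Products of short root elements along one rational Lagrangian plane give an irrational transvection
with rational centre, and a commutator identity then gives all parameters.
-/

set_option autoImplicit false
set_option linter.unusedSectionVars false

namespace Cfsg.Agent.SubfieldSympTwo97

open Cfsg.Agent.TransvectionMax
open Cfsg.Agent.S5650 (sg sg_act sg_conj sg_preserves sg_add sg_zero st_pair st_two st_four exists_perp_notMem fr_range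
  mem_perp_range)
open scoped MatrixGroups Matrix

variable {F : Type*} [Field F] {ι : Type} [Fintype ι] [DecidableEq ι]

section Identities

variable {g : (ι → F) → (ι → F) → F} (hg : Cfsg.Geo.IsSymplecticForm g) (h2 : (2 : F) = 0)
  {a b a' : ι → F} (hab : g a b = 0) (ha'b : g a' b = 0)
include hg h2 hab

theorem first_pair (p q : F) :
    st g (p • a + q • b) 1 * st g (p • a + q • b + p • b) 1 = sg g a b (p ^ 2) * st g b (p ^ 2) :=
  gl_ext fun x => by
    simp only [mul_act, sg_act hg hab, st_act hg, hg.bilinear.add_left, hg.bilinear.add_right,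
      hg.bilinear.smul_left, hg.bilinear.smul_right, hg.alternating, hab, TransvectionSymp.skew_zero hg hab]
    funext i
    simp only [Pi.add_apply, Pi.smul_apply, smul_eq_mul]
    linear_combination ((p ^ 2 * g x a + p * q * g x b) * a i + (p * q * g x a + q ^ 2 * g x b + p * q * g x b) * b i) * h2

theorem shift_pair (z : F) : sg g a (a + b) z * st g (a + b) z = st g a z * st g b z :=
  gl_ext fun x => by
    have h1 : g a (a + b) = 0 := by rw [hg.bilinear.add_right, hg.alternating, hab, add_zero]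
    simp only [mul_act, sg_act hg h1, st_act hg, hg.bilinear.add_left, hg.bilinear.add_right,
      hg.bilinear.smul_left, hg.bilinear.smul_right, hg.alternating, hab, TransvectionSymp.skew_zero hg hab]
    funext i
    simp only [Pi.add_apply, Pi.smul_apply, smul_eq_mul]
    linear_combination (z * g x a * a i + z * g x a * b i + z * g x b * a i) * h2

include ha'b in
theorem moved (haa : g a a' = 1) (s κ w : F) :
    sg g (a + s • a') b κ * st g b w * (sg g a b κ * st g b w) = sg g a' b (s * κ) * st g b (s * κ ^ 2) :=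
  gl_ext fun x => by
    have h1 : g (a + s • a') b = 0 := by rw [hg.bilinear.add_left, hg.bilinear.smul_left, hab, ha'b]; ring
    have haa' : g a' a = -1 := by rw [hg.skew, haa]
    simp only [mul_act, sg_act hg h1, sg_act hg hab, sg_act hg ha'b, st_act hg, hg.bilinear.add_left,
      hg.bilinear.add_right, hg.bilinear.smul_left, hg.bilinear.smul_right, hg.alternating, hab, ha'b, haa, haa',
      TransvectionSymp.skew_zero hg hab, TransvectionSymp.skew_zero hg ha'b]
    funext i
    simp only [Pi.add_apply, Pi.smul_apply, smul_eq_mul]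
    linear_combination (κ * g x b * a i + (κ * g x a + w * g x b) * b i) * h2

theorem sg_st_comm (u w : F) : st g b w * sg g a b u = sg g a b u * st g b w :=
  gl_ext fun x => by
    simp only [mul_act, sg_act hg hab, st_act hg, hg.bilinear.add_left, hg.bilinear.smul_left, hg.alternating,
      hab, TransvectionSymp.skew_zero hg hab]
    module

theorem E_mul (u w u' w' : F) :
    sg g a b u * st g b w * (sg g a b u' * st g b w') = sg g a b (u + u') * st g b (w + w') := by
  rw [mul_assoc, ← mul_assoc (st g b w), sg_st_comm hg h2 hab, ← mul_assoc, ← mul_assoc, sg_add hg hab, mul_assoc,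
    st_add hg]

end Identities

set_option maxHeartbeats 1600000

theorem all_transvections [Fintype F] (h2 : (2 : F) = 0) (h4 : 4 ≤ Fintype.card ι) (F₀ : Subfield F) (r : ℕ)
    (hr : r.Prime) (hcard : Fintype.card F = Nat.card F₀ ^ r) (P : GL ι F) (ζ : F) (hζ : ζ ≠ 0)
    (f : (ι → F) → (ι → F) → F) (hf : Cfsg.Geo.IsSymplecticForm f)
    (hP : Cfsg.Geo.IsFormRationalStructure f F₀ ζ P) (M : Subgroup (GL ι F))
    (hrat : ∀ (u : ι → F₀) (c : F₀), st (fun x y => ζ * f x y) (SubfieldRational.rat P u) (c : F) ∈ M)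
    (hiso : ∀ h ∈ M, ∀ x y, f ((h : Matrix ι ι F) *ᵥ x) ((h : Matrix ι ι F) *ᵥ y) = f x y)
    (hne : ¬ M ≤ Cfsg.Geo.subfieldSubgroup F₀ P) :
    ∀ u c, st (fun x y => ζ * f x y) u c ∈ M := by
  classical
  set g : (ι → F) → (ι → F) → F := fun x y => ζ * f x y with hgdef
  have hfF := hf
  have hg : Cfsg.Geo.IsSymplecticForm g := by
    refine ⟨⟨?_, ?_, ?_, ?_⟩, ?_, ?_, ?_⟩
    · intro x y v; simp only [hgdef, hfF.bilinear.add_left]; ring
    · intro c x v; simp only [hgdef, hfF.bilinear.smul_left]; ring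
    · intro v x y; simp only [hgdef, hfF.bilinear.add_right]; ring
    · intro c v x; simp only [hgdef, hfF.bilinear.smul_right]; ring
    · intro v w; simp only [hgdef, hfF.skew v w]; ring
    · intro v; simp only [hgdef, hfF.alternating, mul_zero]
    · intro v hv
      obtain ⟨⟨w, hw⟩, ⟨w', hw'⟩⟩ := hfF.nondegenerate v hv
      exact ⟨⟨w, mul_ne_zero hζ hw⟩, ⟨w', mul_ne_zero hζ hw'⟩⟩
  have hgb := hg.bilinear
  set f0 := SubfieldRational.form hP
  have hf0 : Cfsg.Geo.IsSymplecticForm f0 := SubfieldRational.form_symplectic hP hζ hfF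
  have hb0 := hf0.bilinear
  set R : (ι → F₀) → (ι → F) := SubfieldRational.rat P with hRdef
  have hgR : ∀ a b, g (R a) (R b) = (f0 a b : F) := fun a b => rfl
  have hgR0 : ∀ {a b}, f0 a b = 0 → g (R a) (R b) = 0 := fun h => by rw [hgR, h, ZeroMemClass.coe_zero]
  haveI : Nonempty ι := Fintype.card_pos_iff.1 (by omega)
  -- values on rational vectors
  have hvals : ∀ (u : ι → F) (c : F), c ≠ 0 → (∀ x, g u (R x) / c ∈ F₀) →
      ∃ w, u = c • R w := by
    intro u c hc hx
    let lu : (ι → F₀) →ₗ[F₀] F₀ :=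
      { toFun := fun x => -(⟨g u (R x) / c, hx x⟩ : F₀)
        map_add' := fun x y => Subtype.ext (by
          push_cast
          simp only [hRdef, SubfieldRational.rat_add, hgb.add_right]
          ring)
        map_smul' := fun t x => Subtype.ext (by
          push_cast
          simp only [hRdef, SubfieldRational.rat_smul, hgb.smul_right, RingHom.id_apply, smul_eq_mul]
          push_cast
          simp only [id_eq]
          ring) }
    obtain ⟨w, hw⟩ := exists_row hb0 hf0.nondegenerate (fun i => lu (Pi.single i 1))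
    have hw' : ∀ x, f0 x w = lu x := fun x => by
      rw [← hw, LinearMap.pi_apply_eq_sum_univ lu x, dotProduct]
      refine Finset.sum_congr rfl fun i _ => ?_
      rw [smul_eq_mul, mul_comm]
      congr 2
      funext k
      simp [Pi.single_apply, eq_comm]
    refine ⟨w, ?_⟩
    by_contra hne
    obtain ⟨z, hz⟩ := (hg.nondegenerate _ (sub_ne_zero.mpr hne)).1
    apply hz
    refine SubfieldRational.eq_zero_of_rat (F₀ := F₀) P (fLeft hgb (u - c • R w)) (fun x => ?_) z
    change g (R x) (u - c • R w) = 0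
    have h2 : (f0 x w : F) = -(g u (R x) / c) := by rw [hw']; rfl
    rw [TransvectionMax.sub_right hgb, hgb.smul_right, hgR, h2, hg.skew (R x) u]
    field_simp
    ring
  have hgK : ∀ {h : GL ι F}, h ∈ M →
      ∀ x y, g ((h : Matrix ι ι F) *ᵥ x) ((h : Matrix ι ι F) *ᵥ y) = g x y := fun hh x y =>
    congrArg (ζ * ·) (hiso _ hh x y)
  have hconj : ∀ {h : GL ι F}, h ∈ M → ∀ {v c}, st g v c ∈ M →
      st g ((h : Matrix ι ι F) *ᵥ v) c ∈ M := fun {h} hh {v c} hv => by
    rw [← st_conj hg (hgK hh)]
    exact M.mul_mem (M.mul_mem hh hv) (M.inv_mem hh)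
  have hsconj : ∀ {h : GL ι F}, h ∈ M → ∀ {a b u w}, sg g a b u * st g b w ∈ M →
      sg g ((h : Matrix ι ι F) *ᵥ a) ((h : Matrix ι ι F) *ᵥ b) u * st g ((h : Matrix ι ι F) *ᵥ b) w ∈ M :=
    fun {h} hh {a b u w} hv => by
    rw [← sg_conj hg (hgK hh), ← st_conj hg (hgK hh),
      show h * sg g a b u * h⁻¹ * (h * st g b w * h⁻¹) = h * (sg g a b u * st g b w) * h⁻¹ by group]
    exact M.mul_mem (M.mul_mem hh hv) (M.inv_mem hh)
  have hT1 : ∀ a, st g (R a) 1 ∈ M := fun a => hrat a 1
  have hsgc : ∀ a b (c : F), st g (R (a + b)) c ∈ M → st g (R a) (-c) ∈ M → st g (R b) (-c) ∈ M →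
      sg g (R a) (R b) c ∈ M := fun a b c e1 e2 e3 =>
    M.mul_mem (M.mul_mem (by rw [hRdef, ← SubfieldRational.rat_add]; exact e1) e2) e3
  have hsgF0 : ∀ a b (c : F₀), sg g (R a) (R b) (c : F) ∈ M := fun a b c =>
    hsgc a b c (hrat _ c) (hrat a (-c)) (hrat b (-c))
  have hsg1 : ∀ a b, sg g (R a) (R b) 1 ∈ M := fun a b => hsgF0 a b 1
  -- square roots
  have hsq0 : ∀ t : F₀, ∃ s : F₀, t = s ^ 2 := fun t => by
    haveI : Fintype F₀ := Fintype.ofFinite _
    obtain ⟨y, hy⟩ := FiniteField.isSquare_of_char_two (F := F₀)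
      (CharP.ringChar_of_prime_eq_zero Nat.prime_two
        (F₀.subtype.injective (by rw [map_natCast, map_zero]; exact_mod_cast h2))) t
    exact ⟨y, by rw [hy, sq]⟩
  have hsqrt : ∀ {x : F}, x ^ 2 ∈ F₀ → x ∈ F₀ := by
    intro x hx
    obtain ⟨y, hy⟩ := hsq0 ⟨_, hx⟩
    have hy' : x ^ 2 = (y : F) ^ 2 := by simpa using congrArg Subtype.val hy
    have h3 : x = y := by
      have : (x - y) ^ 2 = 0 := by linear_combination hy' + ((y : F) * y - x * y) * h2
      exact sub_eq_zero.mp (pow_eq_zero_iff two_ne_zero |>.mp this)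
    exact h3 ▸ y.2
  have hneg : ∀ x : F, -x = x := fun x => by linear_combination (-x) * h2
  -- a transvection with irrational centre
  obtain ⟨g', hgM, hgn⟩ := Set.not_subset.mp hne
  rw [SetLike.mem_coe, SubfieldRational.mem_subfieldSubgroup_iff] at hgn
  push Not at hgn
  obtain ⟨u0, hu0⟩ := hgn
  set u := (g' : Matrix ι ι F) *ᵥ R u0 with hudef
  have hu : st g u 1 ∈ M := by rw [hudef]; exact hconj hgM (hT1 u0)
  have step : ∀ {v : ι → F} {a b c}, st g v 1 ∈ M → f0 a b = 0 → f0 c a = 0 → f0 c b = 0 →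
      st g (R c + g v (R c) • (g v (R a) • R b + g v (R b) • R a)) 1 ∈ M := by
    intro v a b c hv hab hca hcb
    set d := g v (R a) • R b + g v (R b) • R a with hddef
    have hvd : g v d = 0 := by
      rw [hddef, hgb.add_right, hgb.smul_right, hgb.smul_right]
      linear_combination (g v (R a) * g v (R b)) * h2
    have hcd : g (R c) d = 0 := by
      rw [hddef, hgb.add_right, hgb.smul_right, hgb.smul_right, hgR0 hca, hgR0 hcb]; ring
    set v1 := v + g v (R c) • R c with hv1def
    have hv1 : st g v1 1 ∈ M := by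
      have := hconj (hT1 c) hv
      rwa [st_act hg, one_mul] at this
    have hmv : ∀ x, (sg g (R a) (R b) 1 : Matrix ι ι F) *ᵥ x = x + g x (R a) • R b + g x (R b) • R a :=
      fun x => by rw [sg_act hg (hgR0 hab), one_mul, one_mul]
    have h5 := hconj (hsg1 a b) hv
    rw [hmv, add_assoc, ← hddef] at h5
    have h6 := hconj (hsg1 a b) hv1
    rw [hmv, add_assoc] at h6
    have he1 : g v1 (R a) = g v (R a) := by
      rw [hv1def, hgb.add_left, hgb.smul_left, hgR0 hca, mul_zero, add_zero]
    have he2 : g v1 (R b) = g v (R b) := by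
      rw [hv1def, hgb.add_left, hgb.smul_left, hgR0 hcb, mul_zero, add_zero]
    rw [he1, he2, ← hddef] at h6
    have h7 := M.mul_mem (M.mul_mem h5 hv) (M.mul_mem h6 hv1)
    rw [hv1def, st_four hg hvd hcd h2] at h7
    exact (M.mul_mem_cancel_right (hT1 c)).mp h7
  -- duals of an orthogonal pair
  have hdual : ∀ {a b}, f0 a b = 0 → a ∉ Submodule.span F₀ {b} →
      ∃ a', f0 a a' = 1 ∧ f0 b a' = 0 := by
    intro a b _ hab
    obtain ⟨y, hy, hy'⟩ := TransvectionSymp.exists_perp_ne hf0 hab
    exact ⟨(f0 a y)⁻¹ • y, by rw [hb0.smul_right, inv_mul_cancel₀ hy'],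
      by rw [hb0.smul_right, show f0 b y = 0 from hy b (Submodule.mem_span_singleton_self b), mul_zero]⟩
  -- a transvection with centre in a rational Lagrangian plane
  obtain ⟨a, b, p, q, hab, habn, hb00, hv, hz⟩ : ∃ a b p q, f0 a b = 0 ∧ a ∉ Submodule.span F₀ {b} ∧ b ≠ 0 ∧
      st g (p • R a + q • R b) 1 ∈ M ∧ p ^ 2 ∉ F₀ := by
    by_contra! hall
    obtain ⟨w, hw⟩ := hvals u 1 one_ne_zero fun a => by
      rw [div_one]
      rcases eq_or_ne a 0 with rfl | ha
      · rw [hRdef, SubfieldRational.rat_zero, TransvectionMax.zero_right hgb]; exact F₀.zero_mem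
      obtain ⟨b, hb, hbn⟩ := exists_perp_notMem hb0 (Submodule.span F₀ (Set.range ![a]))
        (Submodule.span F₀ (Set.range ![a])) (by have := fr_range ![a]; omega)
      have hab : f0 a b = 0 := mem_perp_range hb0 hb 0
      have hba : f0 b a = 0 := TransvectionSymp.skew_zero hf0 hab
      have hbn' : b ∉ Submodule.span F₀ {a} := by simpa using hbn
      have hb' : b ≠ 0 := fun h => hbn' (h ▸ Submodule.zero_mem _)
      have han : a ∉ Submodule.span F₀ {b} := S5650.notMem_span_symm ha hbn'
      set A := g u (R a)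
      set B := g u (R b)
      -- centres from the three choices
      have hboth : ∀ p q, st g (p • R a + q • R b) 1 ∈ M → p ∈ F₀ ∧ q ∈ F₀ := fun p q h =>
        ⟨hsqrt (hall a b p q hab han hb' h),
          hsqrt (hall b a q p hba hbn' ha (by rwa [add_comm]))⟩
      obtain ⟨e1, e1'⟩ := hboth (1 + A * B) (A * A) (by
        have h := step hu hab (hf0.alternating a) hab
        convert h using 2
        module)
      exact hsqrt (by rwa [sq])
    exact hu0 1 w hw
  obtain ⟨a', haa, hba'⟩ := hdual hab habn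
  obtain ⟨b', hbb, hab'⟩ := hdual (TransvectionSymp.skew_zero hf0 hab) (S5650.notMem_span_symm hb00 habn)
  have gab : g (R a) (R b) = 0 := hgR0 hab
  have ga'b : g (R a') (R b) = 0 := hgR0 (TransvectionSymp.skew_zero hf0 hba')
  have gaa : g (R a) (R a') = 1 := by rw [hgR, haa, OneMemClass.coe_one]
  -- rational isometries fixing the second vector
  have hz0 : p ^ 2 ∈ F₀ → False := hz
  set z := p ^ 2 with hzdef
  have m1 : (sg g (R b) (R a') 1 : Matrix ι ι F) *ᵥ R a = R a + R b ∧
      (sg g (R b) (R a') 1 : Matrix ι ι F) *ᵥ R b = R b := by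
    rw [sg_act hg (hgR0 hba'), sg_act hg (hgR0 hba'), gab, gaa, hgR0 hba', hg.alternating]
    simp
  have m2 : (sg g (R a) (R b') 1 : Matrix ι ι F) *ᵥ R a = R a ∧
      (sg g (R a) (R b') 1 : Matrix ι ι F) *ᵥ R b = R a + R b := by
    have hbb' : g (R b) (R b') = 1 := by rw [hgR, hbb, OneMemClass.coe_one]
    rw [sg_act hg (hgR0 hab'), sg_act hg (hgR0 hab'), hgR0 hab', hbb', hg.alternating,
      hgR0 (TransvectionSymp.skew_zero hf0 hab)]
    simp [add_comm]
  have m3 : (st g (R (a' - a)) 1 : Matrix ι ι F) *ᵥ R a = R a' ∧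
      (st g (R (a' - a)) 1 : Matrix ι ι F) *ᵥ R b = R b := by
    rw [st_act hg, st_act hg, hRdef, SubfieldRational.rat_sub, ← hRdef, TransvectionMax.sub_right hgb,
      TransvectionMax.sub_right hgb, gaa, hg.alternating, hgR0 hba', hgR0 (TransvectionSymp.skew_zero hf0 hab)]
    simp
  have m4 : (st g (R (a - a')) 1 : Matrix ι ι F) *ᵥ R a' = R a ∧
      (st g (R (a - a')) 1 : Matrix ι ι F) *ᵥ R b = R b := by
    rw [st_act hg, st_act hg, hRdef, SubfieldRational.rat_sub, ← hRdef, TransvectionMax.sub_right hgb,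
      TransvectionMax.sub_right hgb, hg.skew (R a') (R a), gaa, hg.alternating, hgR0 hba',
      hgR0 (TransvectionSymp.skew_zero hf0 hab), hneg]
    simp
  let E : F → F → Prop := fun x w => sg g (R a') (R b) x * st g (R b) w ∈ M
  have hX : sg g (R a) (R b) z * st g (R b) z ∈ M := by
    rw [hzdef, ← first_pair hg h2 gab p q]
    refine M.mul_mem hv ?_
    have h := hconj (hsg1 b a') hv
    rw [Matrix.mulVec_add, Matrix.mulVec_smul, Matrix.mulVec_smul, m1.1, m1.2] at h
    convert h using 2
    module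
  have hZ : st g (R a) z * st g (R b) z ∈ M := by
    rw [← shift_pair hg h2 gab z]
    have h := hsconj (hsg1 a b') hX
    rwa [m2.1, m2.2] at h
  have hX' : E z z := by
    have h := hsconj (hT1 (a' - a)) hX
    rwa [m3.1, m3.2] at h
  have hZ' : st g (R a') z * st g (R b) z ∈ M := by
    have hh := hT1 (a' - a)
    have e1 := st_conj hg (hgK hh) (R a) z
    have e2 := st_conj hg (hgK hh) (R b) z
    rw [m3.1] at e1
    rw [m3.2] at e2
    rw [← e1, ← e2]
    convert M.mul_mem (M.mul_mem hh hZ) (M.inv_mem hh) using 1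
    group
  have hzero : ∀ w, E 0 w ↔ st g (R b) w ∈ M := fun w => by simp [E, sg_zero hg ga'b]
  have hEadd : ∀ {x w x' w'}, E x w → E x' w' → E (x + x') (w + w') := fun {x w x' w'} e e' => by
    show _ ∈ M
    rw [← E_mul hg h2 ga'b]
    exact M.mul_mem e e'
  have hmove : ∀ {s κ w} (h : GL ι F), h ∈ M → (h : Matrix ι ι F) *ᵥ R a = R a + s • R a' →
      (h : Matrix ι ι F) *ᵥ R b = R b → sg g (R a) (R b) κ * st g (R b) w ∈ M → E (s * κ) (s * κ ^ 2) := by
    intro s κ w h hh e1 e2 hm
    show _ ∈ M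
    rw [← moved hg h2 gab ga'b gaa s κ w]
    refine M.mul_mem ?_ hm
    have := hsconj hh hm
    rwa [e1, e2] at this
  have hE1 : E z (z ^ 2) := by
    have := hmove (s := 1) _ (hT1 a') (by rw [st_act hg, gaa]; simp)
      (by rw [st_act hg, hgR0 hba']; simp) hX
    rwa [one_mul, one_mul] at this
  have hE2 : E (z ^ 2) (z ^ 3) := by
    have := hmove (s := z) _ hZ' (by rw [mul_act, st_act hg, st_act hg, gab, mul_zero, zero_smul, add_zero, gaa,
      mul_one])
      (by rw [mul_act, st_act hg, st_act hg, hg.alternating]; simp [hgR0 hba']) hX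
    rwa [show z * z = z ^ 2 by ring, show z * z ^ 2 = z ^ 3 by ring] at this
  have hdouble : ∀ x : F, x + x = 0 := fun x => by linear_combination x * h2
  obtain ⟨e0, he0, he0n⟩ : ∃ e, st g (R b) e ∈ M ∧ e ∉ F₀ := by
    by_cases hc : z ^ 2 + z ∈ F₀
    · set c : F₀ := ⟨_, hc⟩
      have hEc : E (c : F) 0 := by
        show _ ∈ M
        rw [st_zero hg, mul_one]
        exact hsgF0 a' b c
      have h := hEadd (hEadd hE2 hEc) hX'
      rw [show z ^ 2 + (c : F) + z = 0 from (by
        show z ^ 2 + (z ^ 2 + z) + z = 0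
        linear_combination (z ^ 2 + z) * h2)] at h
      refine ⟨_, (hzero _).1 h, fun h5 => ?_⟩
      have hcne : (c : F) ≠ 0 := by
        show z ^ 2 + z ≠ 0
        intro h6
        apply hz
        rcases mul_eq_zero.1 (show z * (z + 1) = 0 by linear_combination h6) with h7 | h7
        · rw [h7]; exact F₀.zero_mem
        · rw [eq_neg_of_add_eq_zero_left h7]; exact F₀.neg_mem F₀.one_mem
      apply hz
      have h6 : (c : F) * z ∈ F₀ := by
        have := F₀.add_mem h5 c.2
        convert this using 1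
        show (z ^ 2 + z) * z = z ^ 3 + 0 + z + (z ^ 2 + z)
        linear_combination (-z) * h2
      have := F₀.div_mem h6 c.2
      rwa [mul_div_cancel_left₀ _ hcne] at this
    · have h := hEadd hE1 hX'
      rw [hdouble] at h
      exact ⟨_, (hzero _).1 h, hc⟩
  -- scalar sets
  let C : F → Prop := fun c => ∀ a, st g (R a) c ∈ M
  have hnd : Cfsg.Geo.IsNondegenerateOn f0 (⊤ : Submodule F₀ (ι → F₀)) := fun v _ hv =>
    ⟨(hf0.nondegenerate v hv).1.elim fun w hw => ⟨w, Submodule.mem_top, hw⟩,
      (hf0.nondegenerate v hv).2.elim fun w hw => ⟨w, Submodule.mem_top, hw⟩⟩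
  have hlift : ∀ a (c : F₀), SubfieldRational.lift P (st f0 a c) = st g (R a) (c : F) := fun a c =>
    SubfieldRational.ext_rat (F₀ := F₀) P fun u => by
      rw [SubfieldRational.lift_act, st_act hf0, st_act hg, hgR, SubfieldRational.rat_add,
        SubfieldRational.rat_smul, Subfield.coe_mul]
  have hliftM : ∀ {h : GL ι F₀},
      h ∈ Subgroup.closure {k | ∃ u ∈ (⊤ : Submodule F₀ _), ∃ c, k = st f0 u c} →
      SubfieldRational.lift P h ∈ M := by
    intro h hh
    induction hh using Subgroup.closure_induction with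
    | mem k hk => obtain ⟨v, -, c, rfl⟩ := hk; rw [hlift]; exact hrat v c
    | one => rw [map_one]; exact M.one_mem
    | mul a b _ _ ha hb => rw [map_mul]; exact M.mul_mem ha hb
    | inv a _ ha => rw [map_inv]; exact M.inv_mem ha
  have hC : ∀ {c}, st g (R b) c ∈ M → C c := by
    intro c h d
    rcases eq_or_ne d 0 with rfl | hd
    · rw [show st g (R 0) c = 1 from gl_ext fun x => by
        rw [st_act hg, one_act, hRdef, SubfieldRational.rat_zero, TransvectionMax.zero_right hgb, mul_zero,
          zero_smul, add_zero]]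
      exact M.one_mem
    · obtain ⟨h', hh', hha⟩ := TransvectionSymp.move_vec hf0 hnd Submodule.mem_top Submodule.mem_top hb00 hd
      have := hconj (hliftM hh') h
      rwa [SubfieldRational.lift_act, hha] at this
  have hC0 : ∀ t : F₀, C (t : F) := fun t d => hrat d t
  have hCe := hC he0
  -- commutators
  have hEC : ∀ {κ ν}, C κ → C ν → E (ν * κ) (ν * κ ^ 2) := fun {κ ν} hκ hν =>
    hmove (s := ν) _ (hν a') (by rw [st_act hg, gaa, mul_one])
      (by rw [st_act hg, hgR0 hba']; simp)
      (w := 0) (by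
        rw [st_zero hg, mul_one]
        exact hsgc a b κ (hκ _) (by rw [hneg]; exact hκ _) (by rw [hneg]; exact hκ _))
  have hEmul : ∀ {x w ν}, E x w → C ν → E (ν * x) (ν * x ^ 2) := fun {x w ν} e hν =>
    hmove (s := ν) (w := w) _ (hν a') (by rw [st_act hg, gaa, mul_one])
      (by rw [st_act hg, hgR0 hba']; simp)
      (by
        have h := hsconj (hT1 (a - a')) e
        rwa [m4.1, m4.2] at h)
  let U : F → Prop := fun x => ∃ w, E x w
  have hU0 : ∀ t : F₀, U (t : F) := fun t => ⟨0, by
    show _ ∈ M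
    rw [st_zero hg, mul_one]; exact hsgF0 a' b t⟩
  let S₀ : Subalgebra F₀ F :=
    { carrier := {x | ∀ y, U y → U (x * y)}
      mul_mem' := fun {x x'} hx hx' y hy => by rw [mul_assoc]; exact hx _ (hx' y hy)
      add_mem' := fun {x x'} hx hx' y hy => by
        obtain ⟨w, e⟩ := hx y hy
        obtain ⟨w', e'⟩ := hx' y hy
        exact ⟨_, by rw [add_mul]; exact hEadd e e'⟩
      one_mem' := fun y hy => by rwa [one_mul]
      zero_mem' := fun y hy => by rw [zero_mul]; simpa using hU0 0
      algebraMap_mem' := fun t y ⟨w, hy⟩ => ⟨_, hEmul hy (hC0 t)⟩ }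
  have hUall : ∀ x, U x := fun x => by
    have hx : x ∈ S₀ := SubfieldRational.subalgebra_eq_top hr hcard S₀ (x := e0)
      (fun y ⟨w, hy⟩ => ⟨_, hEmul hy hCe⟩) he0n ▸ Algebra.mem_top
    simpa using hx 1 (by simpa using hU0 1)
  have hdiff : ∀ x, C (x ^ 2 * (e0 + e0 ^ 2)) := fun x => by
    obtain ⟨w, e⟩ := hUall x
    have e1 := hEmul e hCe
    have e2 := hEmul e (hC0 1)
    rw [OneMemClass.coe_one, one_mul, one_mul] at e2
    obtain ⟨w', e'⟩ := hUall (e0 * x)
    have e3 := hEmul e' (hC0 1)
    rw [OneMemClass.coe_one, one_mul, one_mul] at e3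
    have h := hEadd e1 e3
    rw [hdouble] at h
    have h' := hC ((hzero _).1 h)
    rwa [show e0 * x ^ 2 + (e0 * x) ^ 2 = x ^ 2 * (e0 + e0 ^ 2) by ring] at h'
  have hCC : ∀ c, C c := fun c => by
    have hne' : e0 + e0 ^ 2 ≠ 0 := fun h => he0n (by
      rcases mul_eq_zero.1 (show e0 * (e0 + 1) = 0 by linear_combination h) with h5 | h5
      · rw [h5]; exact F₀.zero_mem
      · rw [eq_neg_of_add_eq_zero_left h5]; exact F₀.neg_mem F₀.one_mem)
    obtain ⟨y, hy⟩ := FiniteField.isSquare_of_char_two (F := F)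
      (CharP.ringChar_of_prime_eq_zero Nat.prime_two (by simpa using h2)) (c / (e0 + e0 ^ 2))
    have := hdiff y
    rwa [sq, ← hy, div_mul_cancel₀ _ hne'] at this
  let S : (ι → F) → Prop := fun x => ∀ c, st g x c ∈ M
  have hSR : ∀ a, S (R a) := fun a c => hCC c a
  have hSsmul : ∀ {x} (s : F), S x → S (s • x) := fun s hx c => by rw [st_smul hg]; exact hx _
  have hScomb : ∀ {x y}, S x → S y → g x y ≠ 0 → S (x + y) := by
    intro x y hx hy hxy c
    have h := hconj (hy (g x y)⁻¹) (hx c)
    rwa [st_act hg, inv_mul_cancel₀ hxy, one_smul] at h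
  have hSaddR : ∀ {x} v, S x → S (x + R v) := by
    intro x v hx
    by_cases hxv : g x (R v) ≠ 0
    · exact hScomb hx (hSR v) hxv
    push Not at hxv
    rcases eq_or_ne v 0 with rfl | hv0
    · rwa [hRdef, SubfieldRational.rat_zero, add_zero]
    by_cases hall : ∀ z, f0 v z = 1 → g x (R z) ∈ F₀
    · obtain ⟨z0, hz0⟩ := (hf0.nondegenerate v hv0).2
      set z1 := (f0 v z0)⁻¹ • z0
      have hz1 : f0 v z1 = 1 := by rw [hb0.smul_right, inv_mul_cancel₀ hz0]
      obtain ⟨w, hw⟩ := hvals x 1 one_ne_zero fun y => by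
        rw [div_one]
        have h1 := hall z1 hz1
        have h2 := hall (y + (1 - f0 v y) • z1) (by
          rw [hb0.add_right, hb0.smul_right, hz1]; ring)
        rw [hRdef, SubfieldRational.rat_add, SubfieldRational.rat_smul, hgb.add_right, hgb.smul_right] at h2
        have := F₀.sub_mem h2 (F₀.mul_mem (1 - f0 v y).2 h1)
        convert this using 1
        simp only [hRdef]
        ring
      rw [hw, one_smul, hRdef, ← SubfieldRational.rat_add]
      exact hSR _
    push Not at hall
    obtain ⟨z, hz, hxz⟩ := hall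
    have hxz0 : g x (R z) ≠ 0 := fun h => hxz (by rw [h]; exact F₀.zero_mem)
    have hvz : g (R v) (R z) = 1 := by rw [hgR, hz, OneMemClass.coe_one]
    have h1 := hScomb hx (hSR z) hxz0
    have h2 := hScomb h1 (hSR v) (by
      rw [hgb.add_left, hxv, zero_add, hg.skew, hvz]; exact neg_ne_zero.mpr one_ne_zero)
    have h3 := hScomb h2 (hSsmul (-1) (hSR z)) (by
      rw [hgb.smul_right, hgb.add_left, hgb.add_left, hg.alternating, add_zero, hvz]
      intro h
      apply hxz
      have h4 : g x (R z) = ((-1 : F₀) : F) := by push_cast; linear_combination -h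
      rw [h4]; exact (-1 : F₀).2)
    have h5 : x + R z + R v + (-1 : F) • R z = x + R v := by module
    rwa [h5] at h3
  have hSall : ∀ x, S x := by
    intro x
    obtain ⟨y, rfl⟩ := SubfieldRational.exists_combination (F₀ := F₀) P x
    induction (Finset.univ : Finset ι) using Finset.induction with
    | empty =>
      rw [Finset.sum_empty, ← SubfieldRational.rat_zero (F₀ := F₀) P]
      exact hSR 0
    | insert i t hit ih =>
      rw [Finset.sum_insert hit, add_comm]
      rcases eq_or_ne (y i) 0 with hy | hy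
      · rwa [hy, zero_smul, add_zero]
      · have := hSsmul (y i) (hSaddR (Pi.single i 1) (hSsmul (y i)⁻¹ ih))
        rwa [smul_add, smul_smul, mul_inv_cancel₀ hy, one_smul] at this
  exact fun u c => hSall u c

end Cfsg.Agent.SubfieldSympTwo97
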