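import Mathlib
import Cfsg.Agent.Lib.ComponentsThompsonWielandt

/-!
Primitive groups with a suborbit on which the point stabiliser induces an alternating or symmetric group.
-/

open Subgroup Equiv
open scoped commutatorElement

set_option autoImplicit false
set_option linter.unusedSectionVars false

namespace Cfsg.Agent.SuborbitAlt20

variable {G : Type*} [Group G]

/-- `K` normalises `A`. -/
def Inv (K A : Subgroup G) : Prop := ∀ k ∈ K, ∀ x ∈ A, k * x * k⁻¹ ∈ A

theorem Inv.self (K : Subgroup G) : Inv K K := fun _ hk _ hx =>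
  mul_mem (mul_mem hk hx) (inv_mem hk)

theorem Inv.mono {K K' A : Subgroup G} (h : Inv K A) (hle : K' ≤ K) : Inv K' A :=
  fun k hk => h k (hle hk)

theorem Inv.inf {K A B : Subgroup G} (h : Inv K A) (h' : Inv K B) : Inv K (A ⊓ B) :=
  fun k hk x hx => ⟨h k hk x hx.1, h' k hk x hx.2⟩

theorem Inv.le_comap {K A : Subgroup G} (h : Inv K A) {k : G} (hk : k ∈ K) :
    A ≤ A.comap (MulAut.conj k).toMonoidHom := fun x hx => h k hk x hx

theorem Inv.commutator {K A B : Subgroup G} (h : Inv K A) (h' : Inv K B) : Inv K ⁅A, B⁆ := by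
  intro k hk x hx
  refine (commutator_le.mpr fun a ha b hb => ?_ : ⁅A, B⁆ ≤ (⁅A, B⁆).comap (MulAut.conj k).toMonoidHom) hx
  rw [mem_comap, map_commutatorElement]
  exact commutator_mem_commutator (h k hk a ha) (h' k hk b hb)

theorem Inv.map_eq [Finite G] {K A : Subgroup G} (h : Inv K A) {k : G} (hk : k ∈ K) :
    A.map (MulAut.conj k).toMonoidHom = A := by
  refine eq_of_le_of_card_ge ?_ (card_map_of_injective (MulAut.conj k).injective).ge
  rintro _ ⟨x, hx, rfl⟩
  exact h k hk x hx

theorem inv_of_map_eq {K A : Subgroup G}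
    (h : ∀ k ∈ K, A.map (MulAut.conj k).toMonoidHom = A) : Inv K A := fun k hk x hx => by
  rw [← h k hk]
  exact mem_map_of_mem _ hx

theorem commutator_le_left_of_inv {K A B : Subgroup G} (hA : Inv K A) (hB : B ≤ K) :
    ⁅A, B⁆ ≤ A := by
  refine commutator_le.mpr fun a ha b hb => ?_
  rw [commutatorElement_def, show a * b * a⁻¹ * b⁻¹ = a * (b * a⁻¹ * b⁻¹) by group]
  exact mul_mem ha (hA b (hB hb) _ (inv_mem ha))

theorem eq_bot_of_normal_of_le {H N : Subgroup G} (hH : H.normalCore = ⊥) (hN : N ≤ H)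
    (h : normalizer (N : Set G) = ⊤) : N = ⊥ := by
  haveI : N.Normal := normalizer_eq_top_iff.mp h
  exact le_bot_iff.mp (hH ▸ normal_le_normalCore.mpr hN)

section perm

variable {α : Type*} [Fintype α] [DecidableEq α]

theorem alt_not_comm (hα : 5 ≤ Nat.card α) : ¬ IsMulCommutative (alternatingGroup α) := by
  intro h
  have hne := alternatingGroup.center_eq_bot (α := α) (by omega)
  have htop : Subgroup.center (alternatingGroup α) = ⊤ := by
    rw [eq_top_iff]
    intro x _
    exact mem_center_iff.mpr fun y => mul_comm' y x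
  haveI : Nontrivial (alternatingGroup α) := alternatingGroup.nontrivial_of_three_le_card
    (by omega)
  exact (bot_ne_top (α := Subgroup (alternatingGroup α))) (hne ▸ htop)

theorem alt_commutator (hα : 5 ≤ Nat.card α) :
    ⁅alternatingGroup α, alternatingGroup α⁆ = alternatingGroup α := by
  have h5 : 5 ≤ Fintype.card α := by rwa [← Nat.card_eq_fintype_card]
  haveI := alternatingGroup.isSimpleGroup hα
  haveI : (commutator (alternatingGroup α)).Normal := inferInstance
  rcases IsSimpleGroup.eq_bot_or_eq_top_of_normal (commutator (alternatingGroup α)) inferInstance with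
    h | h
  · exact absurd (commutator_eq_bot_iff _ |>.mp h) (alt_not_comm hα)
  · have := congrArg (Subgroup.map (alternatingGroup α).subtype) h
    rw [_root_.commutator_def, map_commutator, ← MonoidHom.range_eq_map, Subgroup.range_subtype] at this
    exact this

/-- A nontrivial subgroup normalised by the alternating group contains it. -/
theorem alt_le_of_inv (hα : 5 ≤ Nat.card α) {S : Subgroup (Perm α)}
    (h : Inv (alternatingGroup α) S) (hne : S ≠ ⊥) : alternatingGroup α ≤ S := by
  have h5 : 5 ≤ Fintype.card α := by rwa [← Nat.card_eq_fintype_card]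
  haveI := alternatingGroup.isSimpleGroup hα
  have hn : (S.subgroupOf (alternatingGroup α)).Normal := ⟨fun x hx k => h k k.2 x hx⟩
  rcases IsSimpleGroup.eq_bot_or_eq_top_of_normal _ hn with e | e
  · exfalso
    have hinf : S ⊓ alternatingGroup α = ⊥ := by
      rw [← disjoint_iff, ← subgroupOf_eq_bot]; exact e
    have hc : ∀ s ∈ S, ∀ a ∈ alternatingGroup α, a * s = s * a := by
      intro s hs a ha
      have h1 : a * s * a⁻¹ * s⁻¹ ∈ S ⊓ alternatingGroup α := by
        refine mem_inf.mpr ⟨mul_mem (h a ha s hs) (inv_mem hs), ?_⟩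
        rw [show a * s * a⁻¹ * s⁻¹ = a * (s * a⁻¹ * s⁻¹) by group]
        exact mul_mem ha ((inferInstance : (alternatingGroup α).Normal).conj_mem _
          (Subgroup.inv_mem (alternatingGroup α) ha) s)
      rw [hinf, mem_bot, ← commutatorElement_def] at h1
      exact commutatorElement_eq_one_iff_mul_comm.mp h1
    apply hne
    rw [eq_bot_iff]
    intro s hs
    rw [mem_bot]
    by_contra hs1
    obtain ⟨x, hx⟩ : ∃ x, s x ≠ x := by
      by_contra hh
      push Not at hh
      exact hs1 (Equiv.ext hh)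
    obtain ⟨y, hy1, hy2⟩ : ∃ y, y ∉ ({x, s x} : Finset α) ∧ y ≠ s (s x) := by
      have hcard : ({x, s x, s (s x)} : Finset α).card ≤ 3 := Finset.card_le_three
      obtain ⟨y, -, hy⟩ := Finset.exists_mem_notMem_of_card_lt_card
        (s := ({x, s x, s (s x)} : Finset α)) (t := Finset.univ) (by rw [Finset.card_univ]; omega)
      simp only [Finset.mem_insert, Finset.mem_singleton, not_or] at hy ⊢
      exact ⟨y, ⟨hy.1, hy.2.1⟩, hy.2.2⟩
    obtain ⟨z, hz⟩ : ∃ z, z ∉ ({x, s x, y} : Finset α) := by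
      have hcard : ({x, s x, y} : Finset α).card ≤ 3 := Finset.card_le_three
      obtain ⟨z, -, hz⟩ := Finset.exists_mem_notMem_of_card_lt_card
        (s := ({x, s x, y} : Finset α)) (t := Finset.univ) (by rw [Finset.card_univ]; omega)
      exact ⟨z, hz⟩
    simp only [Finset.mem_insert, Finset.mem_singleton, not_or] at hy1 hz
    have ha : Equiv.swap (s x) y * Equiv.swap (s x) z ∈ alternatingGroup α := by
      rw [Equiv.Perm.mem_alternatingGroup, map_mul, Equiv.Perm.sign_swap (Ne.symm hy1.2),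
        Equiv.Perm.sign_swap (Ne.symm hz.2.1)]
      rfl
    have := congrArg (fun f : Perm α => f x) (hc s hs _ ha)
    simp only [Perm.mul_apply] at this
    rw [Equiv.swap_apply_of_ne_of_ne (a := s x) (b := z) (x := x) (Ne.symm hx) (Ne.symm hz.1),
      Equiv.swap_apply_of_ne_of_ne (a := s x) (b := y) (x := x) (Ne.symm hx) (Ne.symm hy1.1),
      Equiv.swap_apply_left, Equiv.swap_apply_of_ne_of_ne hz.2.1 hz.2.2] at this
    exact hz.2.1 this
  · exact subgroupOf_eq_top.mp e

theorem card_alt (hα : 2 ≤ Nat.card α) :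
    2 * Nat.card (alternatingGroup α) = (Nat.card α).factorial := by
  haveI : Nontrivial α := Finite.one_lt_card_iff_nontrivial.mp (by omega)
  rw [← Nat.card_perm]
  simp only [Nat.card_eq_fintype_card]
  exact two_mul_card_alternatingGroup

/-- A subgroup of small index contains the alternating group. -/
theorem alt_le_of_card (hα : 5 ≤ Nat.card α) {I J : Subgroup (Perm α)} (hI : alternatingGroup α ≤ I)
    (hJI : J ≤ I) (h : Nat.card I < Nat.card α * Nat.card J) : alternatingGroup α ≤ J := by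
  have h5 : 5 ≤ Fintype.card α := by rwa [← Nat.card_eq_fintype_card]
  haveI := alternatingGroup.isSimpleGroup hα
  set A := alternatingGroup α
  by_contra hle
  set J0 := J.subgroupOf A with hJ0
  have hne : J0 ≠ ⊤ := fun e => hle (subgroupOf_eq_top.mp e)
  have hcore : J0.normalCore = ⊥ := by
    rcases IsSimpleGroup.eq_bot_or_eq_top_of_normal J0.normalCore inferInstance with e | e
    · exact e
    · exact absurd (top_le_iff.mp (e ▸ J0.normalCore_le)) hne
  have hdvd : Nat.card A ∣ J0.index.factorial := by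
    have hinj : Function.Injective (MulAction.toPermHom A (A ⧸ J0)) := by
      rw [← MonoidHom.ker_eq_bot_iff, ← normalCore_eq_ker]
      exact hcore
    rw [index_eq_card, ← Nat.card_perm]
    exact card_dvd_of_injective _ hinj
  have hlt : J0.index < Nat.card α := by
    -- `[A : J ⊓ A] ≤ [I : J]`
    have h2 : J0.index ≤ J.relIndex I := relIndex_le_of_le_right hI (by
      rw [relIndex]; exact index_ne_zero_of_finite)
    have h3 : J.relIndex I * Nat.card J = Nat.card I := by
      rw [mul_comm, ← Nat.card_congr (subgroupOfEquivOfLe hJI).toEquiv]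
      exact card_mul_index (J.subgroupOf I)
    by_contra hge
    push Not at hge
    have := Nat.mul_le_mul_right (Nat.card J) (hge.trans h2)
    omega
  have h4 := Nat.le_of_dvd (Nat.factorial_pos _) hdvd
  have h5' := Nat.factorial_le (Nat.le_sub_one_of_lt hlt)
  have h6 := card_alt (α := α) (by omega)
  obtain ⟨n, hn⟩ : ∃ n, Nat.card α = n + 1 := ⟨Nat.card α - 1, by omega⟩
  rw [hn, Nat.factorial_succ] at h6
  rw [hn, Nat.add_sub_cancel] at h5'
  have hpos := Nat.factorial_pos n
  nlinarith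

end perm

/-- `R/N` is almost simple with alternating socle. -/
def AS (N R : Subgroup G) : Prop :=
  ∃ m, 5 ≤ m ∧ ∃ f : R →* Perm (Fin m), f.ker = N.subgroupOf R ∧ alternatingGroup (Fin m) ≤ f.range

theorem AS.mk' {N R : Subgroup G} {α : Type*} [Fintype α] [DecidableEq α] (f : R →* Perm α)
    (hα : 5 ≤ Nat.card α) (hker : f.ker = N.subgroupOf R) (hr : alternatingGroup α ≤ f.range) :
    AS N R := by
  obtain ⟨e⟩ : Nonempty (α ≃ Fin (Nat.card α)) := ⟨(Fintype.equivFin α).trans
    (finCongr Nat.card_eq_fintype_card.symm)⟩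
  refine ⟨Nat.card α, hα, e.permCongrHom.toMonoidHom.comp f, ?_, fun σ hσ => ?_⟩
  · rw [← hker]
    ext x
    simp [MonoidHom.mem_ker]
  · have : e.symm.permCongrHom σ ∈ alternatingGroup α := by
      rw [Equiv.Perm.mem_alternatingGroup, Equiv.permCongrHom_coe, Equiv.Perm.sign_permCongr]
      exact hσ
    obtain ⟨x, hx⟩ := hr this
    refine ⟨x, ?_⟩
    rw [MonoidHom.comp_apply, hx]
    ext i
    simp

variable {N R : Subgroup G}

theorem AS.not_le (h : AS N R) : ¬ R ≤ N := by
  obtain ⟨m, hm, f, hker, hr⟩ := h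
  intro hle
  have : f.ker = ⊤ := by rw [hker, subgroupOf_eq_top]; exact hle
  have hbot : f.range = ⊥ := MonoidHom.range_eq_bot_iff.mpr (MonoidHom.ker_eq_top_iff.mp this)
  rw [hbot] at hr
  haveI : Nontrivial (alternatingGroup (Fin m)) := alternatingGroup.nontrivial_of_three_le_card
    (by rw [Nat.card_fin]; omega)
  exact (Subgroup.nontrivial_iff_ne_bot _).mp ‹_› (le_bot_iff.mp hr)

theorem AS.big (h : AS N R) {A : Subgroup G} (hAR : A ≤ R) (hA : Inv R A) (hne : ¬ A ≤ N) :
    ∀ x ∈ ⁅R, R⁆, x ∈ A ⊔ N := by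
  obtain ⟨m, hm, f, hker, hr⟩ := h
  set A' := A.subgroupOf R
  have hne' : A'.map f ≠ ⊥ := by
    rw [Ne, Subgroup.map_eq_bot_iff, hker]
    exact fun e => hne fun x hx => e (x := ⟨x, hAR hx⟩) hx
  have hinv : Inv (alternatingGroup (Fin m)) (A'.map f) := by
    rintro σ hσ _ ⟨x, hx, rfl⟩
    obtain ⟨k, rfl⟩ := hr hσ
    exact ⟨k * x * k⁻¹, hA k k.2 x hx, by simp⟩
  have hbig := alt_le_of_inv (by simpa using hm) hinv hne'
  have hcomm : (⁅(⊤ : Subgroup R), (⊤ : Subgroup R)⁆ : Subgroup R).map f ≤ alternatingGroup (Fin m) := by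
    rw [map_commutator]
    refine (commutator_mono le_top le_top).trans ?_
    rw [← _root_.commutator_def]
    exact fun y hy => Equiv.Perm.mem_alternatingGroup.mpr
      (Abelianization.commutator_subset_ker Equiv.Perm.sign hy)
  intro x hx
  have hxR : x ∈ R := (commutator_le.mpr fun a ha b hb =>
    (mul_mem (mul_mem (mul_mem ha hb) (inv_mem ha)) (inv_mem hb)) : ⁅R, R⁆ ≤ R) hx
  have hx' : (⟨x, hxR⟩ : R) ∈ (⁅(⊤ : Subgroup R), (⊤ : Subgroup R)⁆ : Subgroup R) := by
    have e : ⁅R, R⁆ = (⁅(⊤ : Subgroup R), (⊤ : Subgroup R)⁆ : Subgroup R).map R.subtype := by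
      rw [map_commutator, ← MonoidHom.range_eq_map, Subgroup.range_subtype]
    rw [e] at hx
    obtain ⟨y, hy, hyx⟩ := hx
    rwa [show (⟨x, hxR⟩ : R) = y from Subtype.ext hyx.symm]
  obtain ⟨a, ha, hax⟩ := hbig (hcomm (mem_map_of_mem f hx'))
  have : a⁻¹ * (⟨x, hxR⟩ : R) ∈ f.ker := by
    rw [MonoidHom.mem_ker, map_mul, map_inv, hax, inv_mul_cancel]
  rw [hker] at this
  have hx2 : x = (a : G) * ((a : G)⁻¹ * x) := by group
  rw [hx2]
  exact mul_mem (mem_sup_left ha) (mem_sup_right this)

/-- Two invariant subgroups commute modulo `N` only trivially. -/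
theorem AS.prime (h : AS N R) {A B : Subgroup G} (hAR : A ≤ R) (hBR : B ≤ R) (hA : Inv R A)
    (hB : Inv R B) (hc : ⁅A, B⁆ ≤ N) : A ≤ N ∨ B ≤ N := by
  obtain ⟨m, hm, f, hker, hr⟩ := h
  by_contra hcon
  push Not at hcon
  have hbig : ∀ C : Subgroup G, C ≤ R → Inv R C → ¬ C ≤ N →
      alternatingGroup (Fin m) ≤ (C.subgroupOf R).map f := by
    intro C hC hI hne
    refine alt_le_of_inv (by simpa using hm) ?_ ?_
    · rintro σ hσ _ ⟨x, hx, rfl⟩
      obtain ⟨k, rfl⟩ := hr hσ
      exact ⟨k * x * k⁻¹, hI k k.2 x hx, by simp⟩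
    · rw [Ne, Subgroup.map_eq_bot_iff, hker]
      exact fun e => hne fun x hx => e (x := ⟨x, hC hx⟩) hx
  have hle : ⁅A.subgroupOf R, B.subgroupOf R⁆ ≤ f.ker := by
    rw [hker]
    intro x hx
    rw [mem_subgroupOf]
    refine hc ?_
    have := mem_map_of_mem R.subtype hx
    rwa [map_commutator, map_subgroupOf_eq_of_le hAR, map_subgroupOf_eq_of_le hBR] at this
  have h1 := commutator_mono (hbig A hAR hA hcon.1) (hbig B hBR hB hcon.2)
  rw [alt_commutator (by simpa using hm), ← map_commutator, (Subgroup.map_eq_bot_iff _).mpr hle,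
    le_bot_iff] at h1
  haveI : Nontrivial (alternatingGroup (Fin m)) := alternatingGroup.nontrivial_of_three_le_card
    (by rw [Nat.card_fin]; omega)
  exact (Subgroup.nontrivial_iff_ne_bot _).mp ‹_› h1

theorem AS.eq (h : AS N R) {A : Subgroup G} (hNA : N ≤ A) (hAR : A ≤ R) (hA : Inv R A)
    (h' : AS A R) : A = N := by
  refine le_antisymm ?_ hNA
  by_contra hle
  have h1 : ⁅R, R⁆ ≤ A := fun x hx => (sup_le le_rfl hNA) (h.big hAR hA hle x hx)
  rcases h'.prime le_rfl le_rfl (Inv.self R) (Inv.self R) h1 with e | e <;> exact h'.not_le e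

/-- Image of an invariant subgroup. -/
theorem AS.restrict (h : AS N R) {A : Subgroup G} (hAR : A ≤ R) (hA : Inv R A) (hne : ¬ A ≤ N) :
    AS (A ⊓ N) A := by
  obtain ⟨m, hm, f, hker, hr⟩ := h
  refine ⟨m, hm, f.comp (inclusion hAR), ?_, ?_⟩
  · ext x
    rw [MonoidHom.mem_ker, MonoidHom.comp_apply, ← MonoidHom.mem_ker, hker]
    simp [mem_subgroupOf, x.2]
  · refine (alt_le_of_inv (by simpa using hm) ?_ ?_).trans le_rfl
    · rintro σ hσ _ ⟨x, rfl⟩
      obtain ⟨k, rfl⟩ := hr hσ
      exact ⟨⟨(k : G) * x * (k : G)⁻¹, hA k k.2 x x.2⟩, by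
        simp only [MonoidHom.comp_apply]
        rw [← map_inv, ← map_mul, ← map_mul]
        rfl⟩
    · rw [Ne, MonoidHom.range_eq_bot_iff]
      intro e
      refine hne fun x hx => ?_
      have : inclusion hAR ⟨x, hx⟩ ∈ f.ker := MonoidHom.mem_ker.mpr (DFunLike.congr_fun e ⟨x, hx⟩)
      rw [hker] at this
      exact this

section family

variable {ι : Type*} [Finite ι] {K : Subgroup G} (Ni : ι → Subgroup G)
  (hAS : ∀ i, Inv K (Ni i)) (hsol : Group.IsSolvable (K ⊓ ⨅ i, Ni i : Subgroup G))

include hAS hsol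

/-- A prime quotient of a normal subgroup factors through a member of the family. -/
theorem exists_le_of_prime {R N : Subgroup G} (hRK : R ≤ K) (hR : Inv K R) (h : AS N R) :
    ∃ i, R ⊓ Ni i ≤ N := by
  classical
  by_contra hcon
  push Not at hcon
  haveI := Fintype.ofFinite ι
  have hstep : ∀ s : Finset ι, ¬ R ⊓ (⨅ i ∈ s, Ni i) ≤ N ∧ Inv R (R ⊓ (⨅ i ∈ s, Ni i)) := by
    intro s
    induction s using Finset.induction_on with
    | empty =>
      simp only [Finset.notMem_empty, iInf_false, iInf_top, inf_top_eq]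
      exact ⟨h.not_le, Inv.self R⟩
    | insert i s hi ih =>
      rw [Finset.iInf_insert]
      have hB : Inv R (R ⊓ Ni i) := (Inv.self R).inf ((hAS i).mono hRK)
      have e : R ⊓ (Ni i ⊓ ⨅ j ∈ s, Ni j) = (R ⊓ Ni i) ⊓ (R ⊓ ⨅ j ∈ s, Ni j) := by
        rw [inf_inf_distrib_left]
      refine ⟨fun hle => ?_, e ▸ hB.inf ih.2⟩
      rcases h.prime inf_le_left inf_le_left hB ih.2 ((le_inf (commutator_le_left_of_inv hB inf_le_left)
        ((commutator_comm _ _).trans_le (commutator_le_left_of_inv ih.2 inf_le_left))).trans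
        (e ▸ hle)) with e' | e'
      · exact hcon i e'
      · exact ih.1 e'
  obtain ⟨hS, hSi⟩ := hstep Finset.univ
  set S := R ⊓ ⨅ i ∈ (Finset.univ : Finset ι), Ni i
  haveI : Group.IsSolvable (S : Subgroup G) := by
    refine solvable_of_solvable_injective (f := inclusion (show S ≤ K ⊓ ⨅ i, Ni i from ?_))
      (inclusion_injective _)
    exact le_inf (inf_le_left.trans hRK) (inf_le_right.trans (le_iInf fun i =>
      iInf₂_le i (Finset.mem_univ i)))
  obtain ⟨k, hk⟩ := (isSolvable_def S).mp inferInstance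
  have hdesc : ∀ n, Inv R ((derivedSeries S n).map S.subtype) ∧
      ((derivedSeries S n).map S.subtype ≤ N → S ≤ N) := by
    intro n
    induction n with
    | zero => rw [derivedSeries_zero, ← MonoidHom.range_eq_map, Subgroup.range_subtype]; exact ⟨hSi, id⟩
    | succ n ih =>
      rw [derivedSeries_succ, map_commutator]
      refine ⟨ih.1.commutator ih.1, fun hle => ih.2 ?_⟩
      rcases h.prime ((map_subtype_le _).trans inf_le_left) ((map_subtype_le _).trans inf_le_left)
        ih.1 ih.1 hle with e | e <;> exact e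
  exact hS ((hdesc k).2 (by rw [hk, Subgroup.map_bot]; exact bot_le))

/-- Kernels of almost simple quotients of normal subgroups are normal. -/
theorem good_of_family (hQ : ∀ i, ¬ K ≤ Ni i → AS (K ⊓ Ni i) K) {R N : Subgroup G} (hRK : R ≤ K)
    (hR : Inv K R) (hNR : N ≤ R) (hN : Inv R N) (h : AS N R) : Inv K N := by
  obtain ⟨i, hi⟩ := exists_le_of_prime Ni hAS hsol hRK hR h
  have hRi : ¬ R ≤ Ni i := fun e => h.not_le (le_trans (le_inf le_rfl e) hi)
  have hKi : ¬ K ≤ Ni i := fun e => hRi (hRK.trans e)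
  have hres := (hQ i hKi).restrict hRK hR fun e => hRi (e.trans inf_le_right)
  rw [← inf_assoc, inf_eq_left.mpr hRK] at hres
  rw [hres.eq hi hNR hN h]
  exact hR.inf (hAS i)

end family

/-- A family of conjugate subgroups whose pairwise intersections are controlled is constant. -/
theorem side [Finite G] {X : Type*} (x0 : X) {K K2 : Subgroup G} (N : X → Subgroup G)
    (hle : ∀ x, N x ≤ K) (hinv : ∀ x, Inv K (N x)) (hAS : ∀ x, AS (N x) K)
    (hcard : ∀ x, Nat.card (N x) = Nat.card (N x0)) (hR2 : N x0 ≤ K2) (hRi : Inv K2 (N x0))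
    (hgood : ∀ R M : Subgroup G, R ≤ K2 → Inv K2 R → M ≤ R → Inv R M → AS M R → Inv K2 M)
    (htr : ∀ x y, x ≠ x0 → y ≠ x0 → ∃ k ∈ K2, (N x).map (MulAut.conj k).toMonoidHom = N y)
    (hpair : ∀ u v x, u ≠ v → x ≠ x0 → ∃ h : G, N u = (N x0).map (MulAut.conj h).toMonoidHom ∧
      N v = (N x).map (MulAut.conj h).toMonoidHom)
    (h3 : ∃ x y, x ≠ x0 ∧ y ≠ x0 ∧ x ≠ y) :
    ∀ x, N x = N x0 := by
  by_contra hcon
  have hne : ∀ x, x ≠ x0 → N x ≠ N x0 := by
    intro x hx e
    refine hcon fun v => ?_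
    by_cases hv : v = x0
    · rw [hv]
    obtain ⟨h, h1, h2⟩ := hpair x0 v x (Ne.symm hv) hx
    rw [h2, e, ← h1]
  have hneall : ∀ u v, u ≠ v → N u ≠ N v := by
    intro u v huv e
    obtain ⟨x, y, hx, -, -⟩ := h3
    obtain ⟨h, h1, h2⟩ := hpair u v x huv hx
    exact hne x hx (map_injective (MulAut.conj h).injective ((h2.symm.trans e.symm).trans h1))
  have hnle : ∀ u v, u ≠ v → ¬ N u ≤ N v := fun u v huv hl =>
    hneall u v huv (eq_of_le_of_card_ge hl (by rw [hcard u, hcard v]))
  have hinter : ∀ x y, x ≠ x0 → y ≠ x0 → N x0 ⊓ N x = N x0 ⊓ N y := by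
    intro x y hx hy
    obtain ⟨k, hk, hky⟩ := htr x y hx hy
    have hi : Inv K2 (N x0 ⊓ N x) := hgood (N x0) _ hR2 hRi inf_le_left
      ((Inv.self _).inf ((hinv x).mono (hle x0)))
      ((hAS x).restrict (hle x0) (hinv x0) (hnle x0 x hx.symm))
    have := hi.map_eq hk
    rw [Subgroup.map_inf _ _ _ (MulAut.conj k).injective, hRi.map_eq hk, hky] at this
    exact this.symm
  obtain ⟨x, y, hx, hy, hxy⟩ := h3
  have hc : ⁅N x0, N y⁆ ≤ N x := by
    refine (le_inf (commutator_le_left_of_inv (hinv x0) (hle y))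
      ((commutator_comm _ _).trans_le (commutator_le_left_of_inv (hinv y) (hle x0)))).trans ?_
    rw [← hinter x y hx hy]
    exact inf_le_right
  rcases (hAS x).prime (hle x0) (hle y) (hinv x0) (hinv y) hc with e | e
  · exact hnle x0 x hx.symm e
  · exact hnle y x hxy.symm e

open ComponentsThompsonWielandt in
theorem mem_cor_of {M Y : Subgroup G} {x : G} (hx : x ∈ M) (h : ∀ m ∈ M, m * x * m⁻¹ ∈ Y) :
    x ∈ cor M Y :=
  ⟨⟨x, hx⟩, fun m => mem_subgroupOf.mpr (h m m.2), rfl⟩

theorem of_mem_cor {M Y : Subgroup G} {x : G}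
    (hx : x ∈ ComponentsThompsonWielandt.cor M Y) : x ∈ M ∧ ∀ m ∈ M, m * x * m⁻¹ ∈ Y := by
  obtain ⟨y, hy, rfl⟩ := hx
  exact ⟨y.2, fun m hm => mem_subgroupOf.mp (hy ⟨m, hm⟩)⟩

section action

open MulAction

variable {Ω : Type*} [MulAction G Ω]

/-- The kernel of the stabiliser of `a` on the orbit of `b`. -/
def Ker (a b : Ω) : Subgroup G :=
  (toPermHom (stabilizer G a) (orbit (stabilizer G a) b)).ker.map (stabilizer G a).subtype

theorem mem_Ker {a b : Ω} {x : G} :
    x ∈ Ker (G := G) a b ↔ x • a = a ∧ ∀ y ∈ orbit (stabilizer G a) b, x • y = y := by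
  constructor
  · rintro ⟨h, hh, rfl⟩
    exact ⟨h.2, fun y hy => congrArg Subtype.val
      (Equiv.ext_iff.mp (MonoidHom.mem_ker.mp hh) ⟨y, hy⟩)⟩
  · rintro ⟨h1, h2⟩
    exact ⟨⟨x, h1⟩, MonoidHom.mem_ker.mpr (Equiv.ext fun y => Subtype.ext (h2 y y.2)), rfl⟩

theorem Ker_le_left {a b : Ω} : Ker (G := G) a b ≤ stabilizer G a := fun _ hx => (mem_Ker.mp hx).1

theorem Ker_le_orbit {a b x : Ω} (hx : x ∈ orbit (stabilizer G a) b) :
    Ker (G := G) a b ≤ stabilizer G x := fun _ hk => (mem_Ker.mp hk).2 x hx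

theorem Ker_le_right {a b : Ω} : Ker (G := G) a b ≤ stabilizer G b :=
  Ker_le_orbit (mem_orbit_self b)

theorem Ker_map (a b : Ω) (g : G) :
    (Ker (G := G) a b).map (MulAut.conj g).toMonoidHom = Ker (g • a) (g • b) := by
  ext x
  rw [mem_map_equiv, mem_Ker, mem_Ker, MulAut.conj_symm_apply]
  have key : ∀ z : Ω, (g⁻¹ * x * g) • z = z ↔ x • g • z = g • z := fun z => by
    rw [mul_smul, mul_smul, inv_smul_eq_iff]
  refine and_congr (key a) ⟨?_, ?_⟩
  · rintro h _ ⟨⟨m, hm⟩, rfl⟩
    have hm' : g⁻¹ * m * g ∈ stabilizer G a := by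
      rw [MulAction.mem_stabilizer_iff, mul_smul, mul_smul, MulAction.mem_stabilizer_iff.mp hm,
        inv_smul_smul]
    have := (key _).mp (h ((g⁻¹ * m * g) • b) ⟨⟨_, hm'⟩, rfl⟩)
    simp only [mul_smul, smul_inv_smul] at this
    exact this
  · rintro h _ ⟨⟨m, hm⟩, rfl⟩
    have hm' : g * m * g⁻¹ ∈ stabilizer G (g • a) := by
      rw [MulAction.mem_stabilizer_iff, mul_smul, mul_smul, inv_smul_smul,
        MulAction.mem_stabilizer_iff.mp hm]
    have := h ((g * m * g⁻¹) • g • b) ⟨⟨_, hm'⟩, rfl⟩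
    simp only [mul_smul, inv_smul_smul] at this
    exact (key _).mpr this

theorem Ker_inv (a b : Ω) : Inv (stabilizer G a) (Ker a b) := by
  rintro k hk x ⟨h, hh, rfl⟩
  exact ⟨⟨k, hk⟩ * h * ⟨k, hk⟩⁻¹, (MonoidHom.normal_ker _).conj_mem h hh _, rfl⟩

/-- `Ker x a` and `Ker b a` are conjugate for `x` in the orbit. -/
theorem card_inf_smul (a b : Ω) (g : G) :
    Nat.card (stabilizer G (g • a) ⊓ stabilizer G (g • b) : Subgroup G) =
      Nat.card (stabilizer G a ⊓ stabilizer G b : Subgroup G) := by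
  rw [MulAction.stabilizer_smul_eq_stabilizer_map_conj, MulAction.stabilizer_smul_eq_stabilizer_map_conj,
    ← Subgroup.map_inf _ _ _ (MulAut.conj g).injective, card_map_of_injective (MulAut.conj g).injective]

/-- `Ker x a` and `Ker b a` are conjugate for `x` in the orbit. -/
theorem Ker_conj {a b x : Ω} (h : stabilizer G a) (hx : (h : G) • b = x) :
    (Ker (G := G) b a).map (MulAut.conj (h : G)).toMonoidHom = Ker x a := by
  rw [Ker_map, hx, show (h : G) • a = a from h.2]

/-- The kernels of the second level. -/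
def Sec (a b : Ω) : Subgroup G :=
  Ker (G := G) a b ⊓ ⨅ x : orbit (stabilizer G a) b, Ker (x : Ω) a

theorem Sec_le_cor (a b : Ω) :
    Sec (G := G) a b ≤ ComponentsThompsonWielandt.cor (stabilizer G a) (Ker a b ⊓ Ker b a) := by
  intro x hx
  obtain ⟨h1, h2⟩ := mem_inf.mp hx
  refine mem_cor_of (Ker_le_left h1) fun m hm => mem_inf.mpr ⟨Ker_inv a b m hm x h1, ?_⟩
  have hmem : m⁻¹ • b ∈ orbit (stabilizer G a) b := ⟨⟨m⁻¹, inv_mem hm⟩, rfl⟩
  have := mem_iInf.mp h2 ⟨_, hmem⟩
  rw [← Ker_conj (a := a) (b := b) ⟨m⁻¹, inv_mem hm⟩ rfl, mem_map_equiv,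
    MulAut.conj_symm_apply, inv_inv] at this
  exact this

theorem cor_eq (a b : Ω) :
    ComponentsThompsonWielandt.cor (stabilizer G a) (stabilizer G a ⊓ stabilizer G b) = Ker a b := by
  ext x
  constructor
  · intro hx
    obtain ⟨h1, h2⟩ := of_mem_cor hx
    refine mem_Ker.mpr ⟨h1, ?_⟩
    rintro _ ⟨⟨m, hm⟩, rfl⟩
    have := (mem_inf.mp (h2 m⁻¹ (inv_mem hm))).2
    rw [MulAction.mem_stabilizer_iff, inv_inv, mul_smul, mul_smul, inv_smul_eq_iff] at this
    exact this
  · intro hx
    exact mem_cor_of (Ker_le_left hx) fun m hm =>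
      mem_inf.mpr ⟨Ker_le_left (Ker_inv a b m hm x hx), Ker_le_right (Ker_inv a b m hm x hx)⟩

theorem le_Ker_of {a b : Ω} {A : Subgroup G} (hA : Inv (stabilizer G a) A)
    (h1 : A ≤ stabilizer G a) (h2 : A ≤ stabilizer G b) : A ≤ Ker a b := by
  refine fun x hx => mem_Ker.mpr ⟨h1 hx, ?_⟩
  rintro _ ⟨⟨m, hm⟩, rfl⟩
  have := h2 (hA m⁻¹ (inv_mem hm) x hx)
  rw [MulAction.mem_stabilizer_iff, inv_inv, mul_smul, mul_smul, inv_smul_eq_iff] at this
  exact this

variable [Finite G] [Finite Ω]

theorem card_orbit_mul (a b : Ω) :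
    Nat.card (orbit (stabilizer G a) b) * Nat.card (stabilizer G a ⊓ stabilizer G b : Subgroup G) =
      Nat.card (stabilizer G a) := by
  have e : (stabilizer G a ⊓ stabilizer G b).subgroupOf (stabilizer G a) =
      stabilizer (stabilizer G a) b := by
    ext x
    simp [mem_subgroupOf, MulAction.mem_stabilizer_iff, Subgroup.smul_def,
      show (x : G) • a = a from x.2]
  rw [← Nat.card_congr (subgroupOfEquivOfLe (inf_le_left : stabilizer G a ⊓ stabilizer G b ≤ _)).toEquiv,
    e, mul_comm, ← Nat.card_congr (orbitEquivQuotientStabilizer (stabilizer G a) b).symm, ← index_eq_card]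
  exact card_mul_index _

theorem card_range_mul (a b : Ω) :
    Nat.card (toPermHom (stabilizer G a) (orbit (stabilizer G a) b)).range * Nat.card (Ker (G := G) a b) =
      Nat.card (stabilizer G a) := by
  rw [← index_ker, Ker, card_map_of_injective (stabilizer G a).subtype_injective, mul_comm]
  exact card_mul_index _

/-- The suborbit has length `d` and induces a group containing the alternating group. -/
def Alt (G : Type*) [Group G] [MulAction G Ω] (d : ℕ) (a b : Ω) : Prop :=
  Nat.card (orbit (stabilizer G a) b) = d ∧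
    d.factorial * Nat.card (Ker (G := G) a b) ≤ 2 * Nat.card (stabilizer G a)

theorem Alt.translate {d : ℕ} {a b : Ω} (h : Alt G d a b) (g : G) : Alt G d (g • a) (g • b) := by
  have hst : ∀ z : Ω, stabilizer G (g • z) = (stabilizer G z).map (MulAut.conj g).toMonoidHom :=
    fun z => MulAction.stabilizer_smul_eq_stabilizer_map_conj g z
  have hcard : Nat.card (stabilizer G (g • a)) = Nat.card (stabilizer G a) := by
    rw [hst, card_map_of_injective (MulAut.conj g).injective]
  refine ⟨?_, by rw [← Ker_map, card_map_of_injective (MulAut.conj g).injective, hcard]; exact h.2⟩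
  have e1 := card_orbit_mul (G := G) (g • a) (g • b)
  have hL : Nat.card (stabilizer G (g • a) ⊓ stabilizer G (g • b) : Subgroup G) =
      Nat.card (stabilizer G a ⊓ stabilizer G b : Subgroup G) := by
    rw [hst, hst, ← Subgroup.map_inf _ _ _ (MulAut.conj g).injective,
      card_map_of_injective (MulAut.conj g).injective]
  rw [hcard, hL, ← card_orbit_mul a b] at e1
  exact (Nat.eq_of_mul_eq_mul_right Nat.card_pos e1).trans h.1

section perms

variable {α : Type*} [Fintype α] [DecidableEq α]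

theorem exists_even_map (hα : 4 ≤ Nat.card α) {p q u v : α} (hpq : p ≠ q) (huv : u ≠ v) :
    ∃ σ ∈ alternatingGroup α, σ p = u ∧ σ q = v := by
  rw [Nat.card_eq_fintype_card] at hα
  set τ := Equiv.swap (Equiv.swap p u q) v * Equiv.swap p u
  have hq : τ q = v := by simp [τ]
  have hp : τ p = u := by
    have h1 : u ≠ Equiv.swap p u q := fun e => hpq ((Equiv.swap p u).injective (by
      rw [Equiv.swap_apply_left]; exact e))
    simp [τ, Equiv.swap_apply_of_ne_of_ne h1 huv]
  rcases Int.units_eq_one_or (Equiv.Perm.sign τ) with h | h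
  · exact ⟨τ, Equiv.Perm.mem_alternatingGroup.mpr h, hp, hq⟩
  · obtain ⟨x, -, y, -, hxy, hx, hy⟩ : ∃ x ∈ (Finset.univ : Finset α), ∃ y ∈ (Finset.univ : Finset α),
        x ≠ y ∧ x ∉ ({u, v} : Finset α) ∧ y ∉ ({u, v} : Finset α) := by
      have hc : 2 ≤ ((Finset.univ : Finset α) \ {u, v}).card := by
        rw [Finset.card_sdiff, Finset.inter_univ, Finset.card_univ]
        have := (Finset.card_le_two : ({u, v} : Finset α).card ≤ 2)
        omega
      obtain ⟨x, hx, y, hy, hxy⟩ := Finset.one_lt_card.mp hc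
      simp only [Finset.mem_sdiff] at hx hy
      exact ⟨x, hx.1, y, hy.1, hxy, hx.2, hy.2⟩
    simp only [Finset.mem_insert, Finset.mem_singleton, not_or] at hx hy
    refine ⟨Equiv.swap x y * τ, ?_, ?_, ?_⟩
    · rw [Equiv.Perm.mem_alternatingGroup, map_mul, h, Equiv.Perm.sign_swap hxy]
      rfl
    · rw [Perm.mul_apply, hp, Equiv.swap_apply_of_ne_of_ne (Ne.symm hx.1) (Ne.symm hy.1)]
    · rw [Perm.mul_apply, hq, Equiv.swap_apply_of_ne_of_ne (Ne.symm hx.2) (Ne.symm hy.2)]

end perms

variable {d : ℕ}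

attribute [local instance] Fintype.ofFinite

open scoped Classical in
theorem Alt.range {a b : Ω} (h : Alt G d a b) (h6 : 6 ≤ d) :
    alternatingGroup (orbit (stabilizer G a) b) ≤
      (toPermHom (stabilizer G a) (orbit (stabilizer G a) b)).range := by
  refine alt_le_of_card (by rw [h.1]; omega) (I := ⊤) le_top le_top ?_
  have h1 := card_range_mul (G := G) a b
  have h2 : d.factorial ≤ 2 * Nat.card (toPermHom (stabilizer G a) (orbit (stabilizer G a) b)).range := by
    refine Nat.le_of_mul_le_mul_right (h.2.trans ?_) (Nat.card_pos (α := Ker (G := G) a b))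
    rw [mul_assoc, h1]
  rw [Subgroup.card_top, Nat.card_perm, h.1]
  have := Nat.factorial_pos d
  nlinarith

theorem Alt.two_trans {a b : Ω} (h : Alt G d a b) (h6 : 6 ≤ d) {p q u v : orbit (stabilizer G a) b}
    (hpq : p ≠ q) (huv : u ≠ v) :
    ∃ k ∈ stabilizer G a, k • (p : Ω) = u ∧ k • (q : Ω) = v := by
  classical
  obtain ⟨σ, hσ, h1, h2⟩ := exists_even_map (by rw [h.1]; omega) hpq huv
  obtain ⟨k, rfl⟩ := h.range h6 hσ
  exact ⟨k, k.2, congrArg Subtype.val h1, congrArg Subtype.val h2⟩

open scoped Classical in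
/-- The two point stabiliser induces at least the alternating group on the rest of the suborbit. -/
theorem Alt.pointHom {a b : Ω} (h : Alt G d a b) (h6 : 6 ≤ d) :
    ∃ f : (stabilizer G a ⊓ stabilizer G b : Subgroup G) →*
        Perm {y : orbit (stabilizer G a) b // (y : Ω) ≠ b},
      f.ker = (Ker a b).subgroupOf _ ∧ alternatingGroup _ ≤ f.range ∧
      Nat.card {y : orbit (stabilizer G a) b // (y : Ω) ≠ b} = d - 1 ∧
      ∀ k y, (((f k) y).1 : Ω) = (k : G) • ((y.1 : orbit (stabilizer G a) b) : Ω) := by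
  have hcard : Nat.card {y : orbit (stabilizer G a) b // (y : Ω) ≠ b} = d - 1 := by
    rw [← h.1, Nat.card_eq_fintype_card, Nat.card_eq_fintype_card, Fintype.card_subtype_compl]
    congr 1
    rw [Fintype.card_eq_one_iff]
    exact ⟨⟨⟨b, mem_orbit_self b⟩, rfl⟩, fun y => Subtype.ext (Subtype.ext y.2)⟩
  let π := (toPermHom (stabilizer G a) (orbit (stabilizer G a) b)).comp
    (inclusion (inf_le_left : stabilizer G a ⊓ stabilizer G b ≤ stabilizer G a))
  have hπ : ∀ k (y : orbit (stabilizer G a) b),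
      (y : Ω) ≠ b ↔ ((π k y : orbit (stabilizer G a) b) : Ω) ≠ b := by
    intro k y
    show _ ↔ (k : G) • (y : Ω) ≠ b
    rw [not_iff_not]
    have hk : (k : G) • b = b := k.2.2
    exact ⟨fun e => (congrArg ((k : G) • ·) e).trans hk, fun e => smul_left_cancel (k : G) (e.trans hk.symm)⟩
  let f : (stabilizer G a ⊓ stabilizer G b : Subgroup G) →*
      Perm {y : orbit (stabilizer G a) b // (y : Ω) ≠ b} := MonoidHom.mk'
    (fun k => (π k).subtypePerm fun y => (hπ k y).symm) fun k l => by
      ext y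
      exact congrArg (fun z : Perm _ => ((z y.1 : orbit (stabilizer G a) b) : Ω)) (map_mul π k l)
  refine ⟨f, ?_, ?_, hcard, fun k y => rfl⟩
  · ext k
    rw [MonoidHom.mem_ker, mem_subgroupOf, mem_Ker]
    constructor
    · intro e
      refine ⟨k.2.1, fun y hy => ?_⟩
      by_cases hyb : y = b
      · rw [hyb]; exact k.2.2
      · exact congrArg (fun z => ((z.1 : orbit (stabilizer G a) b) : Ω))
          (Equiv.ext_iff.mp e ⟨⟨y, hy⟩, hyb⟩)
    · intro hk
      ext y
      exact hk.2 _ y.1.2
  · intro σ hσ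
    have hof : Equiv.Perm.ofSubtype σ ∈ alternatingGroup (orbit (stabilizer G a) b) := by
      rw [Equiv.Perm.mem_alternatingGroup, Equiv.Perm.sign_ofSubtype]
      exact hσ
    obtain ⟨k, hk⟩ := h.range h6 hof
    have hkb : (k : G) • b = b := by
      have := congrArg (fun z : Perm (orbit (stabilizer G a) b) =>
        ((z ⟨b, mem_orbit_self b⟩ : orbit (stabilizer G a) b) : Ω)) hk
      rw [Equiv.Perm.ofSubtype_apply_of_not_mem σ (by simp)] at this
      exact this
    refine ⟨⟨k, k.2, hkb⟩, ?_⟩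
    ext y
    have := congrArg (fun z : Perm (orbit (stabilizer G a) b) =>
      ((z y.1 : orbit (stabilizer G a) b) : Ω)) hk
    rw [Equiv.Perm.ofSubtype_apply_coe] at this
    exact this

theorem Alt.as_point {a b : Ω} (h : Alt G d a b) (h6 : 6 ≤ d) :
    AS (Ker (G := G) a b) (stabilizer G a ⊓ stabilizer G b) := by
  classical
  obtain ⟨f, hker, hr, hcard, -⟩ := h.pointHom h6
  exact AS.mk' f (by rw [hcard]; omega) hker hr

theorem relIndex_point_le {a b : Ω} {A : Subgroup G} (hA : A ≤ stabilizer G a ⊓ stabilizer G b) :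
    (Ker (G := G) a b).relIndex A ≤ (Nat.card (orbit (stabilizer G a) b) - 1).factorial := by
  classical
  let π := (toPermHom (stabilizer G a) (orbit (stabilizer G a) b)).comp
    (inclusion (hA.trans inf_le_left))
  let f : A →* stabilizer (Perm (orbit (stabilizer G a) b))
      (⟨b, mem_orbit_self b⟩ : orbit (stabilizer G a) b) :=
    π.codRestrict _ fun k => Subtype.ext (show (k : G) • b = b from (hA k.2).2)
  have e : f.ker = (Ker a b).subgroupOf A := by
    ext k
    rw [MonoidHom.mem_ker, mem_subgroupOf, mem_Ker]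
    constructor
    · exact fun e => ⟨(hA k.2).1, fun y hy =>
        congrArg Subtype.val (Equiv.ext_iff.mp (congrArg Subtype.val e) ⟨y, hy⟩)⟩
    · exact fun hk => Subtype.ext (Equiv.ext fun y => Subtype.ext (hk.2 y y.2))
  rw [relIndex, ← e, index_ker]
  exact (Nat.le_of_dvd Nat.card_pos (card_subgroup_dvd_card _)).trans
    (ComponentsThompsonWielandt.card_perm_stabilizer _).le

open scoped Classical in
/-- A normal subgroup in the image. -/
theorem Alt.image_big {a b : Ω} (h : Alt G d a b) (h6 : 6 ≤ d) {S A : Subgroup G}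
    (hS : S ≤ stabilizer G a)
    (hSbig : alternatingGroup (orbit (stabilizer G a) b) ≤
      (S.subgroupOf (stabilizer G a)).map (toPermHom (stabilizer G a) (orbit (stabilizer G a) b)))
    (hAS : A ≤ S) (hA : Inv S A) (hne : ¬ A ≤ Ker a b) :
    alternatingGroup (orbit (stabilizer G a) b) ≤
      (A.subgroupOf (stabilizer G a)).map (toPermHom (stabilizer G a) (orbit (stabilizer G a) b)) := by
  refine alt_le_of_inv (by rw [h.1]; omega) ?_ ?_
  · rintro σ hσ _ ⟨x, hx, rfl⟩
    obtain ⟨k, hk, rfl⟩ := hSbig hσ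
    exact ⟨k * x * k⁻¹, hA k hk x hx, by rw [map_mul, map_mul, map_inv]⟩
  · intro e
    rw [Subgroup.map_eq_bot_iff] at e
    refine hne fun x hx => ?_
    exact ⟨⟨x, hS (hAS hx)⟩, e hx, rfl⟩

theorem relIndex_of_image {a b : Ω} {A : Subgroup G} (hA : A ≤ stabilizer G a) :
    (Ker (G := G) a b).relIndex A =
      Nat.card ((A.subgroupOf (stabilizer G a)).map
        (toPermHom (stabilizer G a) (orbit (stabilizer G a) b))) := by
  classical
  set π := toPermHom (stabilizer G a) (orbit (stabilizer G a) b)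
  have e : ((π.comp (inclusion hA)).ker) = (Ker a b).subgroupOf A := by
    ext k
    rw [MonoidHom.mem_ker, mem_subgroupOf, MonoidHom.comp_apply]
    constructor
    · exact fun e => ⟨inclusion hA k, e, rfl⟩
    · rintro ⟨y, hy, hyk⟩
      rw [show inclusion hA k = y from Subtype.ext hyk.symm]
      exact hy
  rw [relIndex, ← e, index_ker, MonoidHom.range_comp, Subgroup.inclusion_range]

/-- A group with a second level kernel that is soluble has no large alternating quotient. -/
theorem no_big {a b : Ω} {u v : Ω} (hd : Nat.card (orbit (stabilizer G b) a) = d)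
    (huv : Alt G d u v) (h6 : 6 ≤ d) (hle : Ker (G := G) a b ≤ stabilizer G u)
    (hsol : Group.IsSolvable (Sec (G := G) a b))
    (hbig : d.factorial ≤ 2 * (Ker (G := G) u v).relIndex (Ker a b)) : False := by
  classical
  set K := Ker (G := G) a b
  have hxd : ∀ x : orbit (stabilizer G a) b, Nat.card (orbit (stabilizer G (x : Ω)) a) = d := by
    intro x
    obtain ⟨m, hm⟩ := x.2
    have hm' : (m : G) • b = x := hm
    have e1 := card_orbit_mul (G := G) (x : Ω) a
    have e2 := card_orbit_mul (G := G) b a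
    have hst : ∀ z : Ω, Nat.card (stabilizer G ((m : G) • z)) = Nat.card (stabilizer G z) := fun z => by
      rw [MulAction.stabilizer_smul_eq_stabilizer_map_conj, card_map_of_injective (MulAut.conj _).injective]
    have hL : Nat.card (stabilizer G (x : Ω) ⊓ stabilizer G a : Subgroup G) =
        Nat.card (stabilizer G b ⊓ stabilizer G a : Subgroup G) := by
      have h' := card_inf_smul (G := G) b a (m : G)
      rwa [hm', show (m : G) • a = a from m.2] at h'
    rw [hL, ← hm', hst b, ← e2, hd] at e1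
    rw [← hm']
    exact Nat.eq_of_mul_eq_mul_right Nat.card_pos e1
  set π := toPermHom (stabilizer G u) (orbit (stabilizer G u) v)
  have hrange : alternatingGroup (orbit (stabilizer G u) v) ≤ (π.comp (inclusion hle)).range := by
    refine alt_le_of_card (by rw [huv.1]; omega) (I := ⊤) le_top le_top ?_
    rw [relIndex_of_image hle] at hbig
    rw [Subgroup.card_top, Nat.card_perm, huv.1, MonoidHom.range_comp, Subgroup.inclusion_range]
    have := Nat.factorial_pos d
    nlinarith
  have hker : (π.comp (inclusion hle)).ker = (K ⊓ Ker u v).subgroupOf K := by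
    ext k
    rw [MonoidHom.mem_ker, mem_subgroupOf, MonoidHom.comp_apply]
    constructor
    · exact fun e => mem_inf.mpr ⟨k.2, inclusion hle k, e, rfl⟩
    · rintro ⟨-, y, hy, hyk⟩
      rw [show inclusion hle k = y from Subtype.ext hyk.symm]
      exact hy
  have has : AS (K ⊓ Ker u v) K := AS.mk' (π.comp (inclusion hle)) (by rw [huv.1]; omega) hker hrange
  obtain ⟨x, hx⟩ := exists_le_of_prime (K := K) (fun x : orbit (stabilizer G a) b => Ker (x : Ω) a)
    (fun x => (Ker_inv (x : Ω) a).mono (Ker_le_orbit x.2)) hsol le_rfl (Inv.self K) has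
  have h1 := relIndex_point_le (A := K) (a := (x : Ω)) (b := a)
    (le_inf (Ker_le_orbit x.2) Ker_le_left)
  have h2 : (K ⊓ Ker u v).relIndex K ≤ (K ⊓ Ker (x : Ω) a).relIndex K :=
    relIndex_le_of_le_left hx (by rw [relIndex]; exact index_ne_zero_of_finite)
  rw [inf_relIndex_left, inf_relIndex_left] at h2
  rw [hxd x] at h1
  obtain ⟨n, rfl⟩ : ∃ n, d = n + 1 := ⟨d - 1, by omega⟩
  rw [Nat.factorial_succ] at hbig
  rw [Nat.add_sub_cancel] at h1
  have := Nat.factorial_pos n
  nlinarith

end action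

section main

open MulAction

variable {Ω : Type*} [MulAction G Ω] [FaithfulSMul G Ω] [Finite G] [Finite Ω]

attribute [local instance] Fintype.ofFinite

theorem core_eq_bot (htr : IsPretransitive G Ω) (c : Ω) : (stabilizer G c).normalCore = ⊥ := by
  rw [eq_bot_iff]
  intro x hx
  refine mem_bot.mpr (eq_of_smul_eq_smul fun y : Ω => ?_)
  obtain ⟨k, rfl⟩ := MulAction.exists_smul_eq G c y
  have := MulAction.mem_stabilizer_iff.mp (hx k⁻¹)
  rw [inv_inv, mul_smul, mul_smul, inv_smul_eq_iff] at this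
  rw [one_smul, this]

theorem eq_bot_of_two [Nontrivial Ω] (hprim : IsPreprimitive G Ω) {a b : Ω}
    (hne : stabilizer G a ≠ stabilizer G b) {A : Subgroup G} (hA : A ≤ stabilizer G a)
    (h1 : Inv (stabilizer G a) A) (h2 : Inv (stabilizer G b) A) : A = ⊥ := by
  refine eq_bot_of_normal_of_le (core_eq_bot hprim.toIsPretransitive a) hA ?_
  have hN : ∀ z : Ω, Inv (stabilizer G z) A → stabilizer G z ≤ normalizer (A : Set G) := fun z hz k hk => by
    rw [mem_normalizer_iff]
    refine fun x => ⟨fun hx => hz k hk x hx, fun hx => ?_⟩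
    have := hz k⁻¹ (inv_mem hk) _ hx
    simpa [mul_assoc] using this
  have hM := MulAction.IsPreprimitive.isCoatom_stabilizer_of_isPreprimitive (G := G) a
  rcases (hN a h1).lt_or_eq with h | h
  · exact hM.2 _ h
  · exfalso
    have hle := (hN b h2).trans h.ge
    rcases hle.lt_or_eq with h' | h'
    · exact hM.1 ((MulAction.IsPreprimitive.isCoatom_stabilizer_of_isPreprimitive (G := G) b).2 _ h')
    · exact hne h'.symm

theorem sol_or [Nontrivial Ω] (hprim : IsPreprimitive G Ω) {a b : Ω}
    (hne : stabilizer G a ≠ stabilizer G b) :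
    Group.IsSolvable (Sec (G := G) a b) ∨ Group.IsSolvable (Sec (G := G) b a) := by
  have := hprim.toIsPretransitive
  have hctrl : ∀ c e : Ω, ComponentsBender.Ctrl (stabilizer G c) (stabilizer G e) :=
    fun c e => ComponentsThompsonWielandt.ctrl_of_isCoatom_core
      (MulAction.IsPreprimitive.isCoatom_stabilizer_of_isPreprimitive (G := G) c)
      (core_eq_bot hprim.toIsPretransitive c) _
  obtain ⟨g, hg⟩ := MulAction.exists_smul_eq G a b
  have hconj : stabilizer G b = (stabilizer G a).map (MulAut.conj g).toMonoidHom := by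
    rw [← hg]
    exact MulAction.stabilizer_smul_eq_stabilizer_map_conj g a
  have ea := cor_eq (G := G) a b
  have eb := cor_eq (G := G) b a
  rw [inf_comm] at eb
  by_cases hA2 : ComponentsThompsonWielandt.cor (stabilizer G a) (Ker (G := G) a b ⊓ Ker b a) = ⊥
  · left
    have : Sec (G := G) a b = ⊥ := le_bot_iff.mp (hA2 ▸ Sec_le_cor a b)
    rw [this]; infer_instance
  by_cases hB2 : ComponentsThompsonWielandt.cor (stabilizer G b) (Ker (G := G) a b ⊓ Ker b a) = ⊥
  · right
    have : Sec (G := G) b a = ⊥ := by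
      rw [inf_comm] at hB2
      exact le_bot_iff.mp (hB2 ▸ Sec_le_cor b a)
    rw [this]; infer_instance
  left
  rw [← ea, ← eb] at hA2 hB2
  obtain ⟨p, hp, h1, -⟩ := ComponentsThompsonWielandt.isPGroup_gen (hctrl a b) (hctrl b a) hne hA2 hB2
  haveI := Fact.mk hp
  have hp2 := ComponentsThompsonWielandt.isPGroup_cor (hctrl a b) (hctrl b a) hne hconj h1 hA2
  rw [ea, eb] at hp2
  haveI := (hp2.to_le (Sec_le_cor a b)).isNilpotent
  infer_instance

variable {d : ℕ}

/-- The kernel on the out-orbit of `b` is the kernel on the in-orbit of `b`. -/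
theorem Ker_shift [Nontrivial Ω] (hprim : IsPreprimitive G Ω) {a b c : Ω} (h6 : 6 ≤ d)
    (hne : stabilizer G a ≠ stabilizer G b) (hab : Alt G d a b) (hbc : Alt G d b c)
    (hcard : Nat.card (stabilizer G b) = Nat.card (stabilizer G a))
    (hK : Nat.card (Ker (G := G) b c) = Nat.card (Ker (G := G) a b))
    (hKne : Ker (G := G) a b ≠ ⊥) : Ker (G := G) b a = Ker b c := by
  classical
  set L := stabilizer G a ⊓ stabilizer G b
  set π := toPermHom (stabilizer G b) (orbit (stabilizer G b) c)
  set J := (L.subgroupOf (stabilizer G b)).map π with hJdef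
  have hd : Nat.card (orbit (stabilizer G b) a) = d := by
    have e1 := card_orbit_mul (G := G) b a
    have e2 := card_orbit_mul (G := G) a b
    rw [inf_comm, hcard, ← e2, hab.1] at e1
    exact Nat.eq_of_mul_eq_mul_right Nat.card_pos e1
  have hnotK : ¬ Ker a b ≤ Ker (G := G) b c := fun h => hKne (by
    have e := eq_of_le_of_card_ge h hK.le
    exact eq_bot_of_two hprim hne Ker_le_left (Ker_inv a b) (e ▸ Ker_inv b c))
  by_cases hbig : alternatingGroup (orbit (stabilizer G b) c) ≤ J
  · exfalso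
    have himgK := hbc.image_big h6 (S := L) (A := Ker a b) inf_le_right hbig
      (le_inf Ker_le_left Ker_le_right) ((Ker_inv a b).mono inf_le_left) hnotK
    have halt := card_alt (α := orbit (stabilizer G b) c) (by rw [hbc.1]; omega)
    rw [hbc.1] at halt
    rcases sol_or hprim hne with hs | hs
    · refine no_big hd hbc h6 Ker_le_right hs ?_
      rw [relIndex_of_image Ker_le_right]
      exact halt.symm.le.trans (Nat.mul_le_mul_left 2 (card_le_of_le himgK))
    · by_cases hB : Ker (G := G) b a ≤ Ker b c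
      · -- then the kernels agree and the two point stabiliser is too small
        have hba : Alt G d b a := ⟨hd, le_trans (Nat.mul_le_mul_left _ (card_le_of_le hB)) hbc.2⟩
        have hK' : Ker (G := G) b c ≤ Ker b a := by
          by_contra hnot
          have himg := hba.image_big h6 (S := stabilizer G b) (A := Ker b c) le_rfl
            ((hba.range h6).trans (le_of_eq (by
              rw [MonoidHom.range_eq_map, Subgroup.subgroupOf_self])))
            Ker_le_left (Ker_inv b c) hnot
          have e1 := relIndex_of_image (G := G) (a := b) (b := a) (A := Ker b c) Ker_le_left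
          have halt' := card_alt (α := orbit (stabilizer G b) a) (by rw [hd]; omega)
          rw [hd] at halt'
          have hle := card_le_of_le himg
          rw [← e1, relIndex] at hle
          have e2 := card_mul_index ((Ker (G := G) b a).subgroupOf (Ker b c))
          rw [Nat.card_congr (subgroupOfEquivOfLe hB).toEquiv] at e2
          -- `|K' : B| ≤ 2`
          have h3 : d.factorial * Nat.card (Ker (G := G) b c) ≤ 2 * Nat.card (stabilizer G b) := hbc.2
          have h4 := card_range_mul (G := G) b a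
          have h5 : Nat.card (toPermHom (stabilizer G b) (orbit (stabilizer G b) a)).range ≤ d.factorial := by
            refine (Nat.card_le_card_of_injective _ Subtype.val_injective).trans ?_
            rw [Nat.card_perm, hd]
          have h6' : Nat.card (Ker (G := G) b c) ≤ 2 * Nat.card (Ker (G := G) b a) := by
            refine Nat.le_of_mul_le_mul_left (h3.trans ?_) (Nat.factorial_pos d)
            rw [← h4, mul_left_comm d.factorial]
            exact Nat.mul_le_mul_left 2 (Nat.mul_le_mul_right _ h5)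
          have h7 := Nat.factorial_le (show 6 ≤ d from h6)
          rw [show (6 : ℕ).factorial = 720 from rfl] at h7
          have hBpos := Nat.card_pos (α := Ker (G := G) b a)
          nlinarith
        have e1 := relIndex_of_image (G := G) (a := b) (b := c) (A := L) inf_le_right
        have hJle := card_le_of_le hbig
        rw [← hJdef, ← e1, relIndex] at *
        have hKL : Ker (G := G) b c ≤ L := le_inf (hK'.trans Ker_le_right) Ker_le_left
        have e2 := card_mul_index ((Ker (G := G) b c).subgroupOf L)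
        rw [Nat.card_congr (subgroupOfEquivOfLe hKL).toEquiv] at e2
        have e3 := card_orbit_mul (G := G) b a
        rw [inf_comm, hd] at e3
        have e4 := card_range_mul (G := G) b c
        have h5 : Nat.card π.range ≤ d.factorial := by
          refine (Nat.card_le_card_of_injective _ Subtype.val_injective).trans ?_
          rw [Nat.card_perm, hbc.1]
        have hKpos := Nat.card_pos (α := Ker (G := G) b c)
        have h8 : d * ((Ker (G := G) b c).subgroupOf L).index ≤ d.factorial := by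
          refine Nat.le_of_mul_le_mul_right ?_ hKpos
          rw [mul_assoc, mul_comm _ (Nat.card (Ker (G := G) b c)), e2, e3, ← e4]
          exact Nat.mul_le_mul_right _ h5
        nlinarith [Nat.factorial_pos d]
      · have himgB := hbc.image_big h6 (S := L) (A := Ker b a) inf_le_right hbig
          (le_inf Ker_le_right Ker_le_left) ((Ker_inv b a).mono inf_le_right) hB
        refine no_big (a := b) (b := a) hab.1 hbc h6 Ker_le_left hs ?_
        rw [relIndex_of_image Ker_le_left]
        exact halt.symm.le.trans (Nat.mul_le_mul_left 2 (card_le_of_le himgB))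
  · have hLb : L ≤ stabilizer G b := inf_le_right
    have hsmall : d * Nat.card J ≤ Nat.card π.range := by
      by_contra h
      push Not at h
      exact hbig (alt_le_of_card (by rw [hbc.1]; omega) (hbc.range h6) (map_le_range _ _)
        (by rw [hbc.1]; exact h))
    have e1 := relIndex_of_image (G := G) (a := b) (b := c) (A := L) hLb
    rw [← hJdef, relIndex] at e1
    have e2 := card_mul_index ((Ker (G := G) b c).subgroupOf L)
    have e2' : Nat.card ((Ker (G := G) b c).subgroupOf L) = Nat.card (Ker (G := G) b c ⊓ L : Subgroup G) := by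
      rw [← inf_subgroupOf_right, Nat.card_congr (subgroupOfEquivOfLe inf_le_right).toEquiv]
    rw [e1, e2'] at e2
    have e3 := card_orbit_mul (G := G) b a
    rw [inf_comm, hd] at e3
    have e4 := card_range_mul (G := G) b c
    have hKpos := Nat.card_pos (α := Ker (G := G) b c)
    have hle : Nat.card (Ker (G := G) b c) ≤ Nat.card (Ker (G := G) b c ⊓ L : Subgroup G) := by
      refine Nat.le_of_mul_le_mul_left ?_ (Nat.card_pos (α := π.range))
      rw [e4, ← e3, ← e2, mul_comm _ (Nat.card J), ← mul_assoc]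
      exact Nat.mul_le_mul_right _ hsmall
    have hKL : Ker (G := G) b c ≤ L :=
      inf_eq_left.mp (eq_of_le_of_card_ge inf_le_left hle)
    have hK'B : Ker (G := G) b c ≤ Ker b a :=
      le_Ker_of (Ker_inv b c) Ker_le_left (hKL.trans inf_le_left)
    refine le_antisymm ?_ hK'B
    by_contra hnot
    exact hbig ((hbc.image_big h6 (S := stabilizer G b) (A := Ker b a) le_rfl
      ((hbc.range h6).trans (le_of_eq (by rw [MonoidHom.range_eq_map, Subgroup.subgroupOf_self])))
      Ker_le_left (Ker_inv b a) hnot).trans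
      (Subgroup.map_mono fun x hx => (mem_inf.mpr ⟨Ker_le_right hx, Ker_le_left hx⟩ : (x : G) ∈ L)))

/-- The out-family of an edge is constant. -/
theorem side_const {a b : Ω} (h6 : 6 ≤ d) (hab : Alt G d a b)
    (hin : ∀ x ∈ orbit (stabilizer G a) b, Alt G d x a)
    (hcard : Nat.card (Ker (G := G) b a) = Nat.card (Ker (G := G) a b))
    (hKx : ∀ x ∈ orbit (stabilizer G a) b, ¬ Ker (G := G) a b ≤ Ker x a)
    (hgood : ∀ R M : Subgroup G, R ≤ Ker b a → Inv (Ker b a) R → M ≤ R → Inv R M → AS M R →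
      Inv (Ker (G := G) b a) M) :
    Inv (stabilizer G a) (Ker (G := G) a b ⊓ Ker b a) := by
  classical
  set K := Ker (G := G) a b
  let N : orbit (stabilizer G a) b → Subgroup G := fun x => K ⊓ Ker (x : Ω) a
  let x0 : orbit (stabilizer G a) b := ⟨b, mem_orbit_self b⟩
  have hNmap : ∀ (x y : orbit (stabilizer G a) b) (m : G), m ∈ stabilizer G a → m • (x : Ω) = y →
      N y = (N x).map (MulAut.conj m).toMonoidHom := by
    intro x y m hm hxy
    show K ⊓ Ker (y : Ω) a = (K ⊓ Ker (x : Ω) a).map _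
    rw [Subgroup.map_inf _ _ _ (MulAut.conj m).injective, (Ker_inv a b).map_eq hm, Ker_map,
      hxy, show m • a = a from hm]
  have hinvK : ∀ x, Inv K (N x) := fun x =>
    (Inv.self K).inf ((Ker_inv (x : Ω) a).mono (Ker_le_orbit x.2))
  have htrans : ∀ x : orbit (stabilizer G a) b, ∃ m ∈ stabilizer G a, m • (x0 : Ω) = x := fun x => by
    obtain ⟨m, hm⟩ := x.2
    exact ⟨m, m.2, hm⟩
  have hKL : K ≤ stabilizer G a ⊓ stabilizer G b := le_inf Ker_le_left Ker_le_right
  -- transitivity of `Ker b a`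
  obtain ⟨f, hker, hr, hfc, hf⟩ := hab.pointHom h6
  have hBL : Ker (G := G) b a ≤ stabilizer G a ⊓ stabilizer G b := le_inf Ker_le_right Ker_le_left
  have hBimg : alternatingGroup _ ≤ ((Ker (G := G) b a).subgroupOf (stabilizer G a ⊓ stabilizer G b)).map f := by
    refine alt_le_of_inv (by rw [hfc]; omega) ?_ ?_
    · rintro σ hσ _ ⟨z, hz, rfl⟩
      obtain ⟨k, rfl⟩ := hr hσ
      exact ⟨k * z * k⁻¹, Ker_inv b a (k : G) k.2.2 (z : G) (mem_subgroupOf.mp hz), by rw [map_mul, map_mul, map_inv]⟩
    · rw [Ne, Subgroup.map_eq_bot_iff, hker]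
      intro e
      refine hKx b (mem_orbit_self b) ?_
      exact (eq_of_le_of_card_ge (fun z hz => e (x := ⟨z, hBL hz⟩) hz) hcard.ge).ge
  have hconst := side x0 (K := K) (K2 := Ker b a) N (fun x => inf_le_left) hinvK
    (fun x => ((hin x x.2).as_point h6).restrict (le_inf (Ker_le_orbit x.2) Ker_le_left)
      ((Ker_inv a b).mono inf_le_right) (hKx x x.2))
    (fun x => by
      obtain ⟨m, hm, hmx⟩ := htrans x
      rw [hNmap x0 x m hm hmx, card_map_of_injective (MulAut.conj m).injective])
    inf_le_right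
    (((Ker_inv a b).mono Ker_le_right).inf (Inv.self _))
    hgood
    (fun x y hx hy => by
      have hx' : (x : Ω) ≠ b := fun e => hx (Subtype.ext e)
      have hy' : (y : Ω) ≠ b := fun e => hy (Subtype.ext e)
      by_cases hxy : x = y
      · exact ⟨1, one_mem _, by subst hxy; rw [(hinvK x).map_eq (one_mem _)]⟩
      obtain ⟨p, q, hpq, hpne, hqne⟩ : ∃ p q : {y : orbit (stabilizer G a) b // (y : Ω) ≠ b},
          p ≠ q ∧ p = ⟨x, hx'⟩ ∧ q = ⟨y, hy'⟩ :=
        ⟨_, _, fun e => hxy (congrArg Subtype.val e), rfl, rfl⟩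
      obtain ⟨σ, hσ, h1, -⟩ := exists_even_map (by rw [hfc]; omega) hpq (hpq.symm)
      obtain ⟨k, hk, rfl⟩ := hBimg hσ
      refine ⟨k, hk, (hNmap x y k k.2.1 ?_).symm⟩
      have := congrArg (fun z : {y : orbit (stabilizer G a) b // (y : Ω) ≠ b} => ((z.1 : orbit (stabilizer G a) b) : Ω)) h1
      rw [hf, hpne, hqne] at this
      exact this)
    (fun u v x huv hx => by
      obtain ⟨k, hk, h1, h2⟩ := hab.two_trans h6 (Ne.symm hx) huv
      exact ⟨k, hNmap x0 u k hk h1, hNmap x v k hk h2⟩)
    (by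
      have : 1 < Nat.card {y : orbit (stabilizer G a) b // (y : Ω) ≠ b} := by rw [hfc]; omega
      haveI := Finite.one_lt_card_iff_nontrivial.mp this
      obtain ⟨x, y, hxy⟩ := exists_pair_ne {y : orbit (stabilizer G a) b // (y : Ω) ≠ b}
      exact ⟨x.1, y.1, fun e => x.2 (congrArg Subtype.val e), fun e => y.2 (congrArg Subtype.val e),
        fun e => hxy (Subtype.ext e)⟩)
  refine inv_of_map_eq fun k hk => ?_
  obtain ⟨m, hm⟩ : ∃ y : orbit (stabilizer G a) b, (y : Ω) = k • b := ⟨⟨k • b, ⟨⟨k, hk⟩, rfl⟩⟩, rfl⟩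
  exact (hNmap x0 m k hk hm.symm).symm.trans (hconst m)

variable [Nontrivial Ω]

/-- The data of the configuration. -/
structure Config (d : ℕ) (a b : Ω) (g : G) : Prop where
  prim : IsPreprimitive G Ω
  h6 : 6 ≤ d
  hg : g • a = b
  alt : Alt G d a b
  ne : Ker (G := G) a b ≠ ⊥
  stab : stabilizer G a ≠ stabilizer G b

theorem Config.shift {a b : Ω} {g : G} (h : Config d a b g) (m : G) :
    Ker (G := G) (m • b) (m • a) = Ker (m • b) (m • g • b) := by
  rw [← Ker_map, ← Ker_map]
  congr 1
  refine Ker_shift h.prim h.h6 h.stab h.alt ?_ ?_ ?_ h.ne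
  · have := h.alt.translate g
    rwa [h.hg] at this
  · rw [← h.hg, MulAction.stabilizer_smul_eq_stabilizer_map_conj,
      card_map_of_injective (MulAut.conj g).injective]
  · have e := Ker_map (G := G) a b g
    rw [h.hg] at e
    rw [← e, card_map_of_injective (MulAut.conj g).injective]

theorem Config.ker_back {a b : Ω} {g : G} (h : Config d a b g) :
    (Ker (G := G) a b).map (MulAut.conj g).toMonoidHom = Ker b a := by
  have := h.shift 1
  simp only [one_smul] at this
  rw [Ker_map, h.hg, this]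

theorem Config.alt_back {a b : Ω} {g : G} (h : Config d a b g) : Alt G d b a := by
  have hcard : Nat.card (stabilizer G b) = Nat.card (stabilizer G a) := by
    rw [← h.hg, MulAction.stabilizer_smul_eq_stabilizer_map_conj,
      card_map_of_injective (MulAut.conj g).injective]
  refine ⟨?_, ?_⟩
  · have e1 := card_orbit_mul (G := G) b a
    have e2 := card_orbit_mul (G := G) a b
    rw [inf_comm, hcard, ← e2, h.alt.1] at e1
    exact Nat.eq_of_mul_eq_mul_right Nat.card_pos e1
  · rw [← h.ker_back, card_map_of_injective (MulAut.conj g).injective, hcard]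
    exact h.alt.2

theorem Config.ker_ne {a b : Ω} {g : G} (h : Config d a b g) : ¬ Ker (G := G) a b ≤ Ker b a := by
  intro hle
  have e := eq_of_le_of_card_ge hle (by
    rw [← h.ker_back, card_map_of_injective (MulAut.conj g).injective])
  exact h.ne (eq_bot_of_two h.prim h.stab Ker_le_left (Ker_inv a b) (e ▸ Ker_inv b a))

/-- Normal kernels. -/
theorem Config.good {a b : Ω} {g : G} (h : Config d a b g) :
    ∀ K : Subgroup G, (K = Ker a b ∨ K = Ker b a) → ∀ R M : Subgroup G, R ≤ K → Inv K R → M ≤ R →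
      Inv R M → AS M R → Inv K M := by
  have key : ∀ (u v : Ω), Alt G d v u → Group.IsSolvable (Sec (G := G) u v) →
      ∀ R M : Subgroup G, R ≤ Ker u v → Inv (Ker u v) R → M ≤ R → Inv R M → AS M R →
        Inv (Ker (G := G) u v) M := by
    intro u v halt hs R M
    refine good_of_family (fun x : orbit (stabilizer G u) v => Ker (x : Ω) u)
      (fun x => (Ker_inv (x : Ω) u).mono (Ker_le_orbit x.2)) hs fun x hx => ?_
    obtain ⟨m, hm⟩ := x.2
    have hax : Alt G d (x : Ω) u := by
      have := halt.translate (m : G)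
      rwa [show (m : G) • v = x from hm, show (m : G) • u = u from m.2] at this
    exact (hax.as_point h.h6).restrict (le_inf (Ker_le_orbit x.2) Ker_le_left)
      ((Ker_inv u v).mono inf_le_right) hx
  have transfer : ∀ (K : Subgroup G) (m : G), (∀ R M : Subgroup G, R ≤ K → Inv K R → M ≤ R →
      Inv R M → AS M R → Inv K M) → ∀ R M : Subgroup G, R ≤ K.map (MulAut.conj m).toMonoidHom →
      Inv (K.map (MulAut.conj m).toMonoidHom) R → M ≤ R → Inv R M → AS M R →
      Inv (K.map (MulAut.conj m).toMonoidHom) M := by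
    intro K m hK R M hR hRi hM hMi has
    set c := (MulAut.conj m).toMonoidHom
    have hinv : ∀ {A B : Subgroup G}, Inv (A.map c) B → Inv A (B.comap c) := fun {A B} hAB k hk x hx => by
      rw [mem_comap, map_mul, map_mul, map_inv]
      exact hAB _ (mem_map_of_mem c hk) _ hx
    have hRc : R.comap c ≤ K := fun x hx => by
      obtain ⟨y, hy, e⟩ := hR hx
      exact (MulAut.conj m).injective e ▸ hy
    have hasc : AS (M.comap c) (R.comap c) := by
      obtain ⟨q, hq, f, hf, hfr⟩ := has
      let ι : (R.comap c : Subgroup G) →* R := MonoidHom.mk' (fun x => ⟨c x, x.2⟩)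
        fun x y => Subtype.ext (map_mul c _ _)
      refine ⟨q, hq, f.comp ι, ?_, ?_⟩
      · ext x
        rw [MonoidHom.mem_ker, MonoidHom.comp_apply, ← MonoidHom.mem_ker, hf]
        rfl
      · rintro σ hσ
        obtain ⟨y, rfl⟩ := hfr hσ
        obtain ⟨z, hz⟩ := (MulAut.conj m).surjective (y : G)
        exact ⟨⟨z, show c z ∈ R from hz ▸ y.2⟩, congrArg f (Subtype.ext hz)⟩
    have hres := hK (R.comap c) (M.comap c) hRc (hinv hRi) (comap_mono hM)
      (fun k hk x hx => by
        rw [mem_comap, map_mul, map_mul, map_inv]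
        exact hMi _ hk _ hx) hasc
    rintro _ ⟨k, hk, rfl⟩ x hx
    obtain ⟨z, rfl⟩ := (MulAut.conj m).surjective x
    have := hres k hk z hx
    rw [mem_comap, map_mul, map_mul, map_inv] at this
    exact this
  have e : (Ker (G := G) b a).map (MulAut.conj g⁻¹).toMonoidHom = Ker a b := by
    rw [← h.ker_back, map_map, show (MulAut.conj g⁻¹).toMonoidHom.comp (MulAut.conj g).toMonoidHom =
      MonoidHom.id G from MonoidHom.ext fun z => by simp [mul_assoc], Subgroup.map_id]
  rintro K hK
  rcases sol_or h.prim h.stab with hs | hs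
  · rcases hK with rfl | rfl
    · exact key a b h.alt_back hs
    · rw [← h.ker_back]; exact transfer _ g (key a b h.alt_back hs)
  · rcases hK with rfl | rfl
    · rw [← e]; exact transfer _ g⁻¹ (key b a h.alt hs)
    · exact key b a h.alt hs

theorem Config.inf_eq_bot {a b : Ω} {g : G} (h : Config d a b g) :
    Ker (G := G) a b ⊓ Ker b a = ⊥ := by
  have hst : stabilizer G b ≠ stabilizer G a := h.stab.symm
  refine eq_bot_of_two h.prim h.stab (inf_le_left.trans Ker_le_left) ?_ ?_
  · refine side_const h.h6 h.alt ?_ ?_ ?_ (h.good _ (Or.inr rfl))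
    · rintro _ ⟨⟨m, hm⟩, rfl⟩
      have := h.alt_back.translate m
      rwa [MulAction.mem_stabilizer_iff.mp hm] at this
    · rw [← h.ker_back, card_map_of_injective (MulAut.conj g).injective]
    · rintro _ ⟨⟨m, hm⟩, rfl⟩ hle
      refine h.ker_ne fun z hz => ?_
      have hz' := hle (Ker_inv a b m hm z hz)
      change m * z * m⁻¹ ∈ Ker (G := G) (m • b) a at hz'
      conv at hz' => arg 1; arg 2; rw [← show m • a = a from hm]
      rw [← Ker_map, mem_map_equiv, MulAut.conj_symm_apply] at hz'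
      simpa [mul_assoc] using hz'
  · rw [inf_comm]
    refine side_const h.h6 h.alt_back ?_ ?_ ?_ (h.good _ (Or.inl rfl))
    · rintro _ ⟨⟨m, hm⟩, rfl⟩
      have := h.alt.translate m
      rwa [MulAction.mem_stabilizer_iff.mp hm] at this
    · rw [← h.ker_back, card_map_of_injective (MulAut.conj g).injective]
    · rintro _ ⟨⟨m, hm⟩, rfl⟩ hle
      refine h.ker_ne ?_
      have hz' : Ker (G := G) b a ≤ Ker a b := fun z hz => by
        have hz' := hle (Ker_inv b a m hm z hz)
        change m * z * m⁻¹ ∈ Ker (G := G) (m • a) b at hz'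
        conv at hz' => arg 1; arg 2; rw [← show m • b = b from hm]
        rw [← Ker_map, mem_map_equiv, MulAut.conj_symm_apply] at hz'
        simpa [mul_assoc] using hz'
      exact (eq_of_le_of_card_ge hz' (by
        rw [← h.ker_back, card_map_of_injective (MulAut.conj g).injective])).ge

theorem classify {a b : Ω} {g : G} (h : Config d a b g) :
    ((toPermHom (stabilizer G a) (orbit (stabilizer G a) b)).range.index = 2 ∧
      Nonempty (stabilizer G a ≃* alternatingGroup (Fin d) × alternatingGroup (Fin (d - 1)))) ∨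
    ((toPermHom (stabilizer G a) (orbit (stabilizer G a) b)).range = ⊤ ∧
      (Nonempty (stabilizer G a ≃* Equiv.Perm (Fin d) × Equiv.Perm (Fin (d - 1))) ∨
       Nonempty (stabilizer G a ≃* Equiv.Perm (Fin d) × alternatingGroup (Fin (d - 1))) ∨
       Nonempty (stabilizer G a ≃* ((Equiv.Perm.sign.comp (MonoidHom.fst (Equiv.Perm (Fin d))
          (Equiv.Perm (Fin (d - 1))))) *
         (Equiv.Perm.sign.comp (MonoidHom.snd (Equiv.Perm (Fin d)) (Equiv.Perm (Fin (d - 1)))))).ker))) := by
  classical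
  set H := stabilizer G a
  set L := stabilizer G a ⊓ stabilizer G b
  set K := Ker (G := G) a b
  set B := Ker (G := G) b a
  have hR : K ⊓ B = ⊥ := h.inf_eq_bot
  have hd6 := h.h6
  obtain ⟨f, hker, hr, hfc, -⟩ := h.alt_back.pointHom h.h6
  set π := toPermHom H (orbit H b)
  have hBK : Nat.card B = Nat.card K := by
    show Nat.card (Ker (G := G) b a) = Nat.card (Ker (G := G) a b)
    rw [← h.ker_back, card_map_of_injective (MulAut.conj g).injective]
  have hkB : ∀ {z : G}, z ∈ K → z ∈ stabilizer G b ⊓ stabilizer G a := fun hz =>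
    mem_inf.mpr ⟨Ker_le_right hz, Ker_le_left hz⟩
  -- the image of the kernel
  have hKimg : alternatingGroup _ ≤ (K.subgroupOf (stabilizer G b ⊓ stabilizer G a)).map f := by
    refine alt_le_of_inv (by rw [hfc]; omega) ?_ ?_
    · rintro σ hσ _ ⟨z, hz, rfl⟩
      obtain ⟨k, rfl⟩ := hr hσ
      exact ⟨k * z * k⁻¹, Ker_inv a b (k : G) k.2.2 (z : G) (mem_subgroupOf.mp hz),
        by rw [map_mul, map_mul, map_inv]⟩
    · rw [Ne, Subgroup.map_eq_bot_iff, hker]
      exact fun e => h.ker_ne fun z hz => e (x := ⟨z, hkB hz⟩) hz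
  -- the centraliser of the kernel
  set C := (centralizer (K : Set G)).subgroupOf H with hC
  have hCn : C.Normal := by
    refine ⟨fun x hx k => ?_⟩
    rw [hC, mem_subgroupOf, mem_centralizer_iff] at hx ⊢
    intro z hz
    have := hx _ (Ker_inv a b _ (inv_mem k.2) z hz)
    rw [inv_inv] at this
    simp only [Subgroup.coe_mul, InvMemClass.coe_inv]
    calc z * ((k : G) * x * (k : G)⁻¹) = k * (((k : G)⁻¹ * z * k) * x) * (k : G)⁻¹ := by group
      _ = k * ((x : G) * ((k : G)⁻¹ * z * k)) * (k : G)⁻¹ := by rw [this]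
      _ = (k : G) * x * (k : G)⁻¹ * z := by group
  have hBC : B.subgroupOf H ≤ C := fun x hx => by
    rw [hC, mem_subgroupOf, mem_centralizer_iff]
    intro k hk
    have h1 : k * x * k⁻¹ * (x : G)⁻¹ ∈ K ⊓ B := by
      refine mem_inf.mpr ⟨?_, mul_mem (Ker_inv b a k (Ker_le_right hk) x hx) (Subgroup.inv_mem B hx)⟩
      rw [show k * x * k⁻¹ * (x : G)⁻¹ = k * ((x : G) * k⁻¹ * (x : G)⁻¹) by group]
      exact mul_mem hk (Ker_inv a b (x : G) x.2 k⁻¹ (Subgroup.inv_mem K hk))
    rw [hR, mem_bot, ← commutatorElement_def] at h1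
    exact commutatorElement_eq_one_iff_mul_comm.mp h1
  have hCimg : alternatingGroup (orbit H b) ≤ C.map π := by
    refine alt_le_of_inv (by rw [h.alt.1]; omega) ?_ ?_
    · rintro σ hσ _ ⟨z, hz, rfl⟩
      obtain ⟨k, rfl⟩ := h.alt.range h.h6 hσ
      exact ⟨k * z * k⁻¹, hCn.conj_mem z hz k, by rw [map_mul, map_mul, map_inv]⟩
    · rw [Ne, Subgroup.map_eq_bot_iff]
      intro e
      refine h.ker_ne ?_
      have hle : B ≤ K := fun x hx => ⟨⟨x, Ker_le_right hx⟩, e (hBC hx), rfl⟩
      exact (eq_of_le_of_card_ge hle hBK.ge).ge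
  -- decomposition
  have hdec : ∀ x : H, ∃ l : (stabilizer G b ⊓ stabilizer G a : Subgroup G),
      (x : G) * (l : G)⁻¹ ∈ centralizer (K : Set G) := by
    intro x
    let p0 : orbit H b := ⟨b, mem_orbit_self b⟩
    obtain ⟨c, hc, hcb⟩ : ∃ c ∈ C, π c p0 = π x p0 := by
      have h4 : 4 ≤ Nat.card (orbit H b) := by rw [h.alt.1]; omega
      haveI := Finite.one_lt_card_iff_nontrivial.mp (show 1 < Nat.card (orbit H b) by omega)
      obtain ⟨q, hq⟩ := exists_ne p0
      obtain ⟨v, hv⟩ := exists_ne (π x p0)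
      obtain ⟨σ, hσ, h1, -⟩ := exists_even_map h4 hq.symm hv.symm
      obtain ⟨c, hc, rfl⟩ := hCimg hσ
      exact ⟨c, hc, h1⟩
    have hcb' : (c : G) • b = (x : G) • b := congrArg Subtype.val hcb
    refine ⟨⟨(c : G)⁻¹ * x, mem_inf.mpr ⟨?_, mul_mem (Subgroup.inv_mem H c.2) x.2⟩⟩, ?_⟩
    · show ((c : G)⁻¹ * x) • b = b
      rw [mul_smul, ← hcb', inv_smul_smul]
    · have := hCn.conj_mem c hc (x * c⁻¹)
      rw [hC, mem_subgroupOf] at hc
      show (x : G) * ((c : G)⁻¹ * x)⁻¹ ∈ centralizer (K : Set G)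
      rw [show (x : G) * ((c : G)⁻¹ * x)⁻¹ = c by group]
      exact hc
  have hCL : ∀ x : (stabilizer G b ⊓ stabilizer G a : Subgroup G),
      (x : G) ∈ centralizer (K : Set G) → f x = 1 := by
    intro x hx
    by_contra hne
    have halt : alternatingGroup _ ≤ Subgroup.zpowers (f x) := by
      refine alt_le_of_inv (by rw [hfc]; omega) ?_ (by rwa [Ne, zpowers_eq_bot])
      intro σ hσ y hy
      obtain ⟨k, hk, rfl⟩ := hKimg hσ
      obtain ⟨i, rfl⟩ := mem_zpowers_iff.mp hy
      have hcomm : Commute (f k) (f x) := (show Commute k x from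
        Subtype.ext (mem_centralizer_iff.mp hx k hk)).map f
      rw [(hcomm.zpow_right i).eq, mul_inv_cancel_right]
      exact hy
    refine alt_not_comm (α := {y : orbit (stabilizer G b) a // (y : Ω) ≠ a}) (by rw [hfc]; omega)
      ⟨⟨fun y z => Subtype.ext ?_⟩⟩
    obtain ⟨i, hi⟩ := mem_zpowers_iff.mp (halt y.2)
    obtain ⟨j, hj⟩ := mem_zpowers_iff.mp (halt z.2)
    simp only [Subgroup.coe_mul, ← hi, ← hj, ← zpow_add, add_comm]
  choose l hl using hdec
  have huniq : ∀ (x : H) (m : (stabilizer G b ⊓ stabilizer G a : Subgroup G)),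
      (x : G) * (m : G)⁻¹ ∈ centralizer (K : Set G) → f (l x) = f m := by
    intro x m hm
    rw [← mul_inv_eq_one, ← map_inv, ← map_mul]
    refine hCL _ ?_
    have := mul_mem (inv_mem (hl x)) hm
    simpa [mul_assoc] using this
  let ψ : H →* Perm {y : orbit (stabilizer G b) a // (y : Ω) ≠ a} :=
    MonoidHom.mk' (fun x => f (l x)) fun x y => by
      rw [← map_mul]
      refine huniq (x * y) (l x * l y) ?_
      have h1 : (⟨(y : G) * (l y : G)⁻¹, mul_mem y.2 (inv_mem (l y).2.2)⟩ : H) ∈ C := by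
        rw [hC, mem_subgroupOf]; exact hl y
      have h2 := hCn.conj_mem _ h1 x
      rw [hC, mem_subgroupOf] at h2
      have h3 := mul_mem h2 (hl x)
      simpa [mul_assoc] using h3
  have hψ : ∀ (x : H) (hx : (x : G) ∈ stabilizer G b), ψ x = f ⟨x, hx, x.2⟩ := fun x hx =>
    huniq x _ (by simp [one_mem])
  have hψC : ∀ x ∈ C, ψ x = 1 := fun x hx => by
    rw [hC, mem_subgroupOf] at hx
    exact (huniq x 1 (by simpa using hx)).trans (map_one f)
  obtain ⟨e1⟩ : Nonempty (orbit H b ≃ Fin d) :=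
    ⟨(Fintype.equivFin _).trans (finCongr (by rw [← Nat.card_eq_fintype_card]; exact h.alt.1))⟩
  obtain ⟨e2⟩ : Nonempty ({y : orbit (stabilizer G b) a // (y : Ω) ≠ a} ≃ Fin (d - 1)) :=
    ⟨(Fintype.equivFin _).trans (finCongr (by rw [← Nat.card_eq_fintype_card]; exact hfc))⟩
  let Φ : H →* Perm (Fin d) × Perm (Fin (d - 1)) :=
    (e1.permCongrHom.toMonoidHom.comp π).prod (e2.permCongrHom.toMonoidHom.comp ψ)
  have hΦinj : Function.Injective Φ := by
    rw [injective_iff_map_eq_one]
    intro x hx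
    have hx1 : π x = 1 := e1.permCongrHom.injective ((congrArg Prod.fst hx).trans (map_one _).symm)
    have hx2 : ψ x = 1 := e2.permCongrHom.injective ((congrArg Prod.snd hx).trans (map_one _).symm)
    have hxK : (x : G) ∈ K := ⟨x, hx1, rfl⟩
    rw [hψ x (Ker_le_right hxK), ← MonoidHom.mem_ker, hker, mem_subgroupOf] at hx2
    have : (x : G) ∈ K ⊓ B := ⟨hxK, hx2⟩
    rw [hR, mem_bot] at this
    exact Subtype.ext this
  have hA1 : ∀ σ : Perm (Fin d), Equiv.Perm.sign σ = 1 → (σ, 1) ∈ Φ.range := by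
    intro σ hσ
    have h1 : e1.permCongrHom.symm σ ∈ alternatingGroup (orbit H b) := by
      rw [Equiv.Perm.mem_alternatingGroup, ← hσ]
      conv_rhs => rw [← e1.permCongrHom.apply_symm_apply σ, Equiv.permCongrHom_coe, Equiv.Perm.sign_permCongr]
    obtain ⟨c, hc, hcσ⟩ := hCimg h1
    exact ⟨c, Prod.ext (by show e1.permCongrHom (π c) = σ; rw [hcσ, MulEquiv.apply_symm_apply])
      (by show e2.permCongrHom (ψ c) = 1; rw [hψC c hc, map_one])⟩
  have hA2 : ∀ τ : Perm (Fin (d - 1)), Equiv.Perm.sign τ = 1 → (1, τ) ∈ Φ.range := by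
    intro τ hτ
    have h1 : e2.permCongrHom.symm τ ∈ alternatingGroup {y : orbit (stabilizer G b) a // (y : Ω) ≠ a} := by
      rw [Equiv.Perm.mem_alternatingGroup, ← hτ]
      conv_rhs => rw [← e2.permCongrHom.apply_symm_apply τ, Equiv.permCongrHom_coe, Equiv.Perm.sign_permCongr]
    obtain ⟨k, hk, hkτ⟩ := hKimg h1
    refine ⟨⟨k, k.2.2⟩, Prod.ext ?_ ?_⟩
    · show e1.permCongrHom (π _) = 1
      obtain ⟨y, hy, hyk⟩ := mem_subgroupOf.mp hk
      rw [show (⟨k, k.2.2⟩ : H) = y from Subtype.ext hyk.symm, MonoidHom.mem_ker.mp hy, map_one]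
    · show e2.permCongrHom (ψ _) = τ
      rw [hψ _ k.2.1, show (⟨(k : G), k.2.1, k.2.2⟩ : (stabilizer G b ⊓ stabilizer G a : Subgroup G)) = k from rfl,
        hkτ, MulEquiv.apply_symm_apply]
  have hAA : ∀ σ τ, Equiv.Perm.sign σ = 1 → Equiv.Perm.sign τ = 1 → (σ, τ) ∈ Φ.range := by
    intro σ τ hσ hτ
    simpa using mul_mem (hA1 σ hσ) (hA2 τ hτ)
  obtain ⟨eΦ⟩ : Nonempty (H ≃* Φ.range) := ⟨MonoidHom.ofInjective hΦinj⟩
  -- orders
  have hI : Nat.card π.range * Nat.card K = Nat.card (stabilizer G a) := card_range_mul a b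
  have hL := card_orbit_mul (G := G) a b
  rw [h.alt.1] at hL
  have hfL : Nat.card f.range * Nat.card K = Nat.card (stabilizer G a ⊓ stabilizer G b : Subgroup G) := by
    rw [← index_ker, hker, ← hBK, mul_comm,
      ← Nat.card_congr (subgroupOfEquivOfLe (show B ≤ stabilizer G b ⊓ stabilizer G a from
        le_inf Ker_le_left Ker_le_right)).toEquiv, inf_comm (stabilizer G a)]
    exact card_mul_index _
  have hIf : d * Nat.card f.range = Nat.card π.range := by
    refine Nat.eq_of_mul_eq_mul_right (Nat.card_pos (α := K)) ?_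
    rw [mul_assoc, hfL, hL, hI]
  have halt1 : 2 * Nat.card (alternatingGroup (orbit H b)) = d.factorial := by
    rw [card_alt (by rw [h.alt.1]; omega), h.alt.1]
  have hsum := π.range.card_mul_index
  rw [Nat.card_perm, h.alt.1] at hsum
  have hrng : Nat.card (alternatingGroup (orbit H b)) ≤ Nat.card π.range :=
    card_le_of_le (h.alt.range h.h6)
  have hidx : π.range.index ≤ 2 := by
    by_contra hgt
    push Not at hgt
    have := Nat.mul_le_mul hrng hgt
    have := Nat.card_pos (α := alternatingGroup (orbit H b))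
    omega
  obtain ⟨n, rfl⟩ : ∃ n, d = n + 1 := ⟨d - 1, by omega⟩
  have hfac := Nat.factorial_succ n
  have halt2 : 2 * Nat.card (alternatingGroup {y : orbit (stabilizer G b) a // (y : Ω) ≠ a}) = n.factorial := by
    rw [card_alt (by rw [hfc]; omega), hfc, Nat.add_sub_cancel]
  have hidx0 : π.range.index ≠ 0 := index_ne_zero_of_finite
  rcases (show π.range.index = 2 ∨ π.range.index = 1 by omega) with hi | hi
  · refine Or.inl ⟨hi, ?_⟩
    have hrange : π.range = alternatingGroup (orbit H b) := by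
      refine (eq_of_le_of_card_ge (h.alt.range h.h6) ?_).symm
      show Nat.card π.range ≤ Nat.card (alternatingGroup (orbit H b))
      rw [hi] at hsum
      omega
    have hfrange : f.range = alternatingGroup _ := by
      refine (eq_of_le_of_card_ge hr ?_).symm
      refine (Nat.eq_of_mul_eq_mul_left (show 0 < 2 * (n + 1) by omega) ?_).le
      rw [mul_assoc, hIf, mul_comm 2 (n + 1), mul_assoc, halt2, ← hfac, ← hsum, hi, mul_comm]
    have hD : Φ.range = (alternatingGroup (Fin (n + 1))).prod (alternatingGroup (Fin (n + 1 - 1))) := by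
      refine le_antisymm ?_ ?_
      swap
      · intro p hp
        exact hAA p.1 p.2 (Equiv.Perm.mem_alternatingGroup.mp hp.1) (Equiv.Perm.mem_alternatingGroup.mp hp.2)
      rintro _ ⟨x, rfl⟩
      refine ⟨?_, ?_⟩
      · show Equiv.Perm.sign (e1.permCongr (π x)) = 1
        rw [Equiv.Perm.sign_permCongr]
        exact Equiv.Perm.mem_alternatingGroup.mp (hrange ▸ ⟨x, rfl⟩)
      · show Equiv.Perm.sign (e2.permCongr (f (l x))) = 1
        rw [Equiv.Perm.sign_permCongr]
        exact Equiv.Perm.mem_alternatingGroup.mp (hfrange ▸ ⟨l x, rfl⟩)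
    exact ⟨eΦ.trans ((MulEquiv.subgroupCongr hD).trans
      ((alternatingGroup (Fin (n + 1))).prodEquiv (alternatingGroup (Fin (n + 1 - 1)))))⟩
  · refine Or.inr ⟨index_eq_one.mp hi, ?_⟩
    have hfrange : f.range = ⊤ := by
      refine eq_top_of_le_card _ ?_
      rw [Nat.card_perm, hfc, Nat.add_sub_cancel]
      refine (Nat.eq_of_mul_eq_mul_left (show 0 < n + 1 by omega) ?_).ge
      rw [hIf, ← hfac, ← hsum, hi, mul_one]
    have hp1 : ∃ p ∈ Φ.range, Equiv.Perm.sign p.1 = -1 := by
      haveI : Nontrivial (Fin (n + 1)) := Fin.nontrivial_iff_two_le.mpr (by omega)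
      obtain ⟨σ, hσ⟩ := Equiv.Perm.sign_surjective (Fin (n + 1)) (-1)
      obtain ⟨x, hx⟩ := (index_eq_one.mp hi).ge (mem_top (e1.permCongrHom.symm σ))
      exact ⟨Φ x, ⟨x, rfl⟩, by show Equiv.Perm.sign (e1.permCongrHom (π x)) = -1; rw [hx, MulEquiv.apply_symm_apply, hσ]⟩
    have hp2 : ∃ p ∈ Φ.range, Equiv.Perm.sign p.2 = -1 := by
      haveI : Nontrivial (Fin (n + 1 - 1)) := Fin.nontrivial_iff_two_le.mpr (by omega)
      obtain ⟨τ, hτ⟩ := Equiv.Perm.sign_surjective (Fin (n + 1 - 1)) (-1)
      obtain ⟨m, hm⟩ := hfrange.ge (mem_top (e2.permCongrHom.symm τ))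
      refine ⟨Φ ⟨m, m.2.2⟩, ⟨_, rfl⟩, ?_⟩
      show Equiv.Perm.sign (e2.permCongrHom (ψ _)) = -1
      rw [hψ _ m.2.1, show (⟨(m : G), m.2.1, m.2.2⟩ : (stabilizer G b ⊓ stabilizer G a : Subgroup G)) = m from rfl,
        hm, MulEquiv.apply_symm_apply, hτ]
    have hclass : ∀ p q : Perm (Fin (n + 1)) × Perm (Fin (n + 1 - 1)), p ∈ Φ.range →
        Equiv.Perm.sign q.1 = Equiv.Perm.sign p.1 → Equiv.Perm.sign q.2 = Equiv.Perm.sign p.2 →
          q ∈ Φ.range := by
      intro p q hp h1 h2
      have := mul_mem (hAA (q.1 * p.1⁻¹) (q.2 * p.2⁻¹) (by rw [map_mul, map_inv, h1, mul_inv_cancel])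
        (by rw [map_mul, map_inv, h2, mul_inv_cancel])) hp
      rwa [show (q.1 * p.1⁻¹, q.2 * p.2⁻¹) * p = q from
        Prod.ext (inv_mul_cancel_right _ _) (inv_mul_cancel_right _ _)] at this
    obtain ⟨p, hp, hps⟩ := hp1
    obtain ⟨q, hq, hqs⟩ := hp2
    set S := ((Equiv.Perm.sign.comp (MonoidHom.fst (Perm (Fin (n + 1))) (Perm (Fin (n + 1 - 1))))) *
      (Equiv.Perm.sign.comp (MonoidHom.snd (Perm (Fin (n + 1))) (Perm (Fin (n + 1 - 1)))))).ker with hS
    have hmemS : ∀ r, r ∈ S ↔ Equiv.Perm.sign r.1 * Equiv.Perm.sign r.2 = 1 := fun r => by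
      rw [hS, MonoidHom.mem_ker]; rfl
    by_cases hle : Φ.range ≤ S
    · refine Or.inr (Or.inr ⟨eΦ.trans (MulEquiv.subgroupCongr (le_antisymm hle fun r hr' => ?_))⟩)
      rw [hmemS] at hr'
      have hp' := (hmemS p).mp (hle hp)
      rcases Int.units_eq_one_or (Equiv.Perm.sign r.1) with e | e
      · rw [e, one_mul] at hr'
        exact hAA r.1 r.2 e hr'
      · rw [hps] at hp'
        rw [e] at hr'
        exact hclass p r hp (e.trans hps.symm) (mul_left_cancel (hr'.trans hp'.symm))
    · refine Or.inl ⟨eΦ.trans ((MulEquiv.subgroupCongr ?_).trans Subgroup.topEquiv)⟩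
      obtain ⟨w, hw, hwS⟩ := SetLike.not_le_iff_exists.mp hle
      rw [hmemS] at hwS
      obtain ⟨u, hu, hu1, hu2⟩ : ∃ u ∈ Φ.range, Equiv.Perm.sign u.1 = -1 ∧ Equiv.Perm.sign u.2 = 1 := by
        rcases Int.units_eq_one_or (Equiv.Perm.sign w.1) with e1' | e1' <;>
          rcases Int.units_eq_one_or (Equiv.Perm.sign w.2) with e2' | e2' <;>
          rw [e1', e2'] at hwS <;> simp at hwS
        · rcases Int.units_eq_one_or (Equiv.Perm.sign p.2) with e | e
          · exact ⟨p, hp, hps, e⟩
          · exact ⟨p * w, mul_mem hp hw, by simp [hps, e1'], by simp [e, e2']⟩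
        · exact ⟨w, hw, e1', e2'⟩
      obtain ⟨v, hv, hv1, hv2⟩ : ∃ v ∈ Φ.range, Equiv.Perm.sign v.1 = 1 ∧ Equiv.Perm.sign v.2 = -1 := by
        rcases Int.units_eq_one_or (Equiv.Perm.sign q.1) with e | e
        · exact ⟨q, hq, e, hqs⟩
        · exact ⟨q * u, mul_mem hq hu, by simp [e, hu1], by simp [hqs, hu2]⟩
      rw [eq_top_iff]
      rintro ⟨σ, τ⟩ -
      rcases Int.units_eq_one_or (Equiv.Perm.sign σ) with e1' | e1' <;>
        rcases Int.units_eq_one_or (Equiv.Perm.sign τ) with e2' | e2'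
      · exact hAA σ τ e1' e2'
      · exact hclass v _ hv (e1'.trans hv1.symm) (e2'.trans hv2.symm)
      · exact hclass u _ hu (e1'.trans hu1.symm) (e2'.trans hu2.symm)
      · exact hclass (u * v) _ (mul_mem hu hv) (by simp [e1', hu1, hv1]) (by simp [e2', hu2, hv2])

end main

end Cfsg.Agent.SuborbitAlt20
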