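import Mathlib
import Cfsg.Agent.S2858
import Cfsg.Agent.Lib.LocGroup56
import Cfsg.Agent.Lib.TwoInvolutions

/-!
Primitive groups with a suborbit of length three (Sims, Wong): the amalgam of two adjacent point
stabilisers reduces to Goldschmidt's amalgams.
-/

set_option autoImplicit false
set_option linter.all false

namespace Cfsg.Agent.SuborbitThree

open Subgroup
open scoped Pointwise

variable {X : Type*} [Group X]

theorem card_mul_rel (H K : Subgroup X) (h : H ≤ K) : Nat.card H * H.relIndex K = Nat.card K := by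
  rw [← Subgroup.relIndex_bot_left H, ← Subgroup.relIndex_bot_left K]
  exact Subgroup.relIndex_mul_relIndex ⊥ H K bot_le h

/-- A group of order `3 |T|` with `T` a Sylow `2`-subgroup that is not normal. -/
theorem quotient_perm_three [Finite X] (T : Sylow 2 X) (hT : (T : Subgroup X).index = 3)
    (hn : ¬ (T : Subgroup X).Normal) :
    Nonempty (X ⧸ Cfsg.pCore 2 X ≃* Equiv.Perm (Fin 3)) := by
  haveI : Fact (Nat.Prime 2) := ⟨Nat.prime_two⟩
  haveI : Fact (Nat.Prime 3) := ⟨Nat.prime_three⟩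
  set Q := Cfsg.pCore 2 X with hQ
  haveI : Q.Normal := Cfsg.pCore_normal 2 X
  set C := (T : Subgroup X).normalCore with hC
  have hCQ : C = Q := le_antisymm
    (LocGroup56.le_pCore inferInstance (T.isPGroup'.to_le (normalCore_le _)))
    (normal_le_normalCore.mpr (LocGroup56.pCore_le_sylow T))
  let f := MulAction.toPermHom X (X ⧸ (T : Subgroup X))
  have hker : f.ker = Q := by rw [← hCQ, hC, normalCore_eq_ker]
  haveI : Finite (X ⧸ (T : Subgroup X)) := inferInstance
  have h3 : Nat.card (X ⧸ (T : Subgroup X)) = 3 := hT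
  let e3 : X ⧸ (T : Subgroup X) ≃ Fin 3 := (Finite.equivFin _).trans (finCongr h3)
  have hdvd : Nat.card f.range ∣ 6 := by
    have := Subgroup.card_subgroup_dvd_card f.range
    rwa [Nat.card_perm, h3] at this
  have hidx : Q.index = Nat.card f.range := by
    rw [← hker, Subgroup.index_ker]
  have h3d : 3 ∣ Q.index := by
    rw [← hT]; exact Subgroup.index_dvd_of_le (LocGroup56.pCore_le_sylow T)
  have h6 : Q.index = 6 := by
    have hle := Nat.le_of_dvd (by norm_num) (hidx ▸ hdvd)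
    obtain ⟨k, hk⟩ := h3d
    have hk0 : Q.index ≠ 0 := Subgroup.index_ne_zero_of_finite
    have : k = 1 ∨ k = 2 := by omega
    rcases this with rfl | rfl
    · exfalso
      apply hn
      have hr := Subgroup.relIndex_mul_index (LocGroup56.pCore_le_sylow (p := 2) T)
      rw [← hQ, hk, hT] at hr
      have h1 : Q.relIndex (T : Subgroup X) = 1 := by omega
      rw [show (T : Subgroup X) = Q from
        le_antisymm (Subgroup.relIndex_eq_one.mp h1) (LocGroup56.pCore_le_sylow T)]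
      infer_instance
    · omega
  have hsurj : Function.Surjective f := by
    rw [← MonoidHom.range_eq_top]
    exact Subgroup.eq_top_of_card_eq _ (by rw [← hidx, h6, Nat.card_perm, h3]; rfl)
  exact ⟨((QuotientGroup.quotientMulEquivOfEq hker.symm).trans
    (QuotientGroup.quotientKerEquivOfSurjective f hsurj)).trans e3.permCongrHom⟩

/-- The dihedral group of order twelve. -/
theorem dihedral_six [Finite X] (hcard : Nat.card X = 12) (T : Sylow 2 X)
    (hT : (T : Subgroup X).index = 3) (hn : ¬ (T : Subgroup X).Normal) {q : X} (hq : q ∈ Cfsg.pCore 2 X)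
    (hq1 : q ≠ 1) (hQ2 : Nat.card (Cfsg.pCore 2 X) = 2) {s : X} (hs : s ∉ Cfsg.pCore 2 X)
    (hs2 : s * s = 1) : Nonempty (X ≃* DihedralGroup 6) := by
  classical
  haveI : (Cfsg.pCore 2 X).Normal := Cfsg.pCore_normal 2 X
  haveI : Fact (Nat.Prime 2) := ⟨Nat.prime_two⟩
  haveI : Fact (Nat.Prime 3) := ⟨Nat.prime_three⟩
  obtain ⟨e⟩ := quotient_perm_three T hT hn
  have hmem : ∀ w ∈ Cfsg.pCore 2 X, w = 1 ∨ w = q := by
    intro w hw
    by_contra hne
    push Not at hne
    haveI := Fintype.ofFinite (Cfsg.pCore 2 X)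
    have hle : ({⟨1, one_mem _⟩, ⟨q, hq⟩, ⟨w, hw⟩} : Finset (Cfsg.pCore 2 X)).card ≤ 2 := by
      calc _ ≤ Fintype.card (Cfsg.pCore 2 X) := Finset.card_le_univ _
        _ = 2 := by rw [← Nat.card_eq_fintype_card, hQ2]
    rw [Finset.card_insert_of_notMem (by simp [hq1.symm, hne.1.symm]),
      Finset.card_insert_of_notMem (by simp [hne.2.symm]), Finset.card_singleton] at hle
    omega
  have hqq : q * q = 1 := by
    rcases hmem _ (mul_mem hq hq) with e | e
    · exact e
    · exact absurd (mul_left_cancel (e.trans (mul_one q).symm)) hq1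
  have hqc : ∀ g : X, g * q = q * g := by
    intro g
    rcases hmem _ ((inferInstance : (Cfsg.pCore 2 X).Normal).conj_mem q hq g) with e | e
    · exact absurd (conj_eq_one_iff.mp e) hq1
    · exact mul_inv_eq_iff_eq_mul.mp e
  obtain ⟨r, hr⟩ := exists_prime_orderOf_dvd_card' (G := X) 3 (by rw [hcard]; norm_num)
  let π := e.toMonoidHom.comp (QuotientGroup.mk' (Cfsg.pCore 2 X))
  have hπ : ∀ g, π g = 1 ↔ g ∈ Cfsg.pCore 2 X := fun g => by simp [π]
  have hr3 : r * r * r = 1 := by rw [← pow_three', ← hr]; exact pow_orderOf_eq_one r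
  have hr1 : r ≠ 1 := fun e => by simp [e] at hr
  have hrQ : π r ≠ 1 := by
    intro h
    rcases hmem r ((hπ r).mp h) with e | e
    · exact hr1 e
    · rw [e, hqq, one_mul] at hr3; exact hq1 hr3
  have hsQ : π s ≠ 1 := fun h => hs ((hπ s).mp h)
  have key : ∀ a b : Equiv.Perm (Fin 3), a * a = 1 → b * b * b = 1 → a ≠ 1 → b ≠ 1 →
      a * b * a * b = 1 := by decide
  have h1 : π (s * r * s * r) = 1 := by
    rw [map_mul, map_mul, map_mul]
    exact key _ _ (by rw [← map_mul, hs2, map_one])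
      (by rw [← map_mul, ← map_mul, hr3, map_one]) hsQ hrQ
  have hsrs : s * r * s = r⁻¹ := by
    rcases hmem _ ((hπ _).mp h1) with e | e
    · exact eq_inv_of_mul_eq_one_left e
    · exfalso
      have e1 : s * r * s = q * r⁻¹ := by rw [← e]; group
      have h2 : (s * r * s) * (s * r * s) * (s * r * s) = 1 := by
        calc (s * r * s) * (s * r * s) * (s * r * s) = s * r * (s * s) * r * (s * s) * r * s := by group
          _ = s * (r * r * r) * s := by rw [hs2]; group
          _ = 1 := by rw [hr3, mul_one, hs2]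
      rw [e1] at h2
      have hc := hqc r⁻¹
      have : q * r⁻¹ * (q * r⁻¹) * (q * r⁻¹) = q * (q * q) * (r * r * r)⁻¹ := by
        have hm := (show Commute q r⁻¹ from hc.symm).mul_pow 3
        simp only [pow_succ, pow_zero, one_mul] at hm
        rw [hm]; group
      rw [this, hqq, mul_one, hr3, inv_one, mul_one] at h2
      exact hq1 h2
  set y := s * (r * q) with hy
  have hs1 : s ≠ 1 := fun e => hs (e ▸ one_mem _)
  have hos : orderOf s = 2 := orderOf_eq_prime (by rw [pow_two, hs2]) hs1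
  have hy2 : y * y = 1 := by
    calc y * y = s * r * (q * s) * (r * q) := by rw [hy]; group
      _ = (s * r * s) * (q * r) * q := by rw [← hqc s]; group
      _ = r⁻¹ * (r * q) * q := by rw [hsrs, hqc r]
      _ = q * q := by group
      _ = 1 := hqq
  have hy1 : y ≠ 1 := by
    intro e
    have h2 : π y = 1 := by rw [e, map_one]
    rw [hy, map_mul, map_mul, (hπ q).mpr hq, mul_one] at h2
    have key' : ∀ a b : Equiv.Perm (Fin 3), a * a = 1 → b * b * b = 1 → a ≠ 1 → a * b ≠ 1 := by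
      decide
    exact key' _ _ (by rw [← map_mul, hs2, map_one])
      (by rw [← map_mul, ← map_mul, hr3, map_one]) hsQ h2
  have hoy : orderOf y = 2 := orderOf_eq_prime (by rw [pow_two, hy2]) hy1
  have hsy : s * y = r * q := by rw [hy, ← mul_assoc, hs2, one_mul]
  have hord : orderOf (s * y) = 6 := by
    rw [hsy, Commute.orderOf_mul_eq_mul_orderOf_of_coprime (hqc r)]
    · rw [hr, orderOf_eq_prime (by rw [pow_two, hqq]) hq1]
    · rw [hr, orderOf_eq_prime (by rw [pow_two, hqq]) hq1]; norm_num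
  have hne : s ≠ y := fun e => by
    have h2 : s * y = 1 := by rw [← e]; exact hs2
    rw [h2, orderOf_one] at hord; omega
  have hinj := TwoInvolutions.dihedralHom_injective hos hoy hne
  let φ := TwoInvolutions.dihedralHom hos hoy
  haveI : NeZero (orderOf (s * y)) := ⟨by omega⟩
  have hbij : Function.Bijective φ := by
    haveI := Fintype.ofFinite X
    refine (Fintype.bijective_iff_injective_and_card φ).mpr ⟨hinj, ?_⟩
    rw [DihedralGroup.card, ← Nat.card_eq_fintype_card, hcard, hord]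
  exact ⟨(MulEquiv.ofBijective φ hbij).symm.trans (hord ▸ MulEquiv.refl _)⟩

/-- Two conjugate groups meeting in a subgroup of index three. -/
theorem amalgam [Finite X] (P₁ P₂ : Subgroup X) (hgen : P₁ ⊔ P₂ = ⊤) {x : X}
    (hx : P₂ = P₁.map (MulAut.conj x).toMonoidHom)
    (hi : (P₁ ⊓ P₂).relIndex P₁ = 3) (hfaith : ∀ N : Subgroup X, N.Normal → N ≤ P₁ ⊓ P₂ → N = ⊥) :
    Nonempty (P₁ ≃* Multiplicative (ZMod 3)) ∨ Nonempty (P₁ ≃* Equiv.Perm (Fin 3)) ∨
      Nonempty (P₁ ≃* DihedralGroup 6) ∨ Nonempty (P₁ ≃* Equiv.Perm (Fin 4)) ∨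
      Nonempty (P₁ ≃* Equiv.Perm (Fin 4) × Multiplicative (ZMod 2)) := by
  classical
  haveI : Fact (Nat.Prime 2) := ⟨Nat.prime_two⟩
  haveI : Fact (Nat.Prime 3) := ⟨Nat.prime_three⟩
  set T := P₁ ⊓ P₂ with hTdef
  let e12 : P₁ ≃* P₂ :=
    (P₁.equivMapOfInjective (MulAut.conj x).toMonoidHom (MulAut.conj x).injective).trans
      (MulEquiv.subgroupCongr hx.symm)
  have hc : Nat.card P₂ = Nat.card P₁ := (Nat.card_congr e12.toEquiv).symm
  have hc1 : Nat.card T * 3 = Nat.card P₁ := by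
    rw [← hi]; exact card_mul_rel _ _ inf_le_left
  have hi2 : T.relIndex P₂ = 3 := by
    have h1 := card_mul_rel T P₂ inf_le_right
    rw [hc, ← hc1] at h1
    exact Nat.eq_of_mul_eq_mul_left Nat.card_pos h1
  -- the odd part of `T` is normalised by both
  have hcore : ∀ P : Subgroup X, T ≤ P → T.relIndex P = 3 → ∀ g ∈ P, ∀ t ∈ T,
      Odd (orderOf t) → g * t * g⁻¹ ∈ T := by
    intro P hTP hTi g hg t ht hodd
    let T' := T.subgroupOf P
    have hcard : Nat.card (P ⧸ T') = 3 := hTi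
    let f := MulAction.toPermHom P (P ⧸ T')
    let t' : P := ⟨t, hTP ht⟩
    have ht' : f t' = 1 := by
      have hfix : t' • (QuotientGroup.mk 1 : P ⧸ T') = QuotientGroup.mk 1 := by
        refine (QuotientGroup.eq.mpr ?_).symm
        simpa [T', t', mem_subgroupOf] using ht
      have hd : orderOf (f t') ∣ orderOf t := by
        rw [show orderOf t = orderOf t' from Subgroup.orderOf_coe t']
        exact orderOf_map_dvd f t'
      have key : ∀ σ : Equiv.Perm (Fin 3), ∀ i : Fin 3, σ i = i → σ * σ = 1 := by decide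
      let e3 : P ⧸ T' ≃ Fin 3 := (Finite.equivFin _).trans (finCongr hcard)
      have h2 : e3.permCongrHom (f t') * e3.permCongrHom (f t') = 1 :=
        key _ (e3 (QuotientGroup.mk 1)) (by
          show e3 (f t' (e3.symm (e3 _))) = _
          rw [Equiv.symm_apply_apply]; exact congrArg e3 hfix)
      rw [← map_mul] at h2
      have h3 : f t' * f t' = 1 := e3.permCongrHom.injective (by rw [h2, map_one])
      have hd2 : orderOf (f t') ∣ 2 := orderOf_dvd_of_pow_eq_one (by rw [pow_two, h3])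
      rcases (Nat.dvd_prime Nat.prime_two).mp hd2 with e | e
      · exact orderOf_eq_one_iff.mp e
      · rw [e] at hd
        obtain ⟨k, hk⟩ := hodd
        omega
    have h1 := DFunLike.congr_fun ht' (QuotientGroup.mk (⟨g, hg⟩⁻¹ : P) : P ⧸ T')
    have h2 := QuotientGroup.eq.mp h1.symm
    simpa [T', t', mem_subgroupOf, mul_assoc] using h2
  have hnorm : ∀ (N : Subgroup X), (∀ g ∈ P₁, ∀ n ∈ N, g * n * g⁻¹ ∈ N) →
      (∀ g ∈ P₂, ∀ n ∈ N, g * n * g⁻¹ ∈ N) → N ≤ T → N = ⊥ := by
    intro N h1 h2 hle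
    refine hfaith N (normalizer_eq_top_iff.mp (top_unique (hgen ▸ sup_le ?_ ?_))) hle
    · exact fun g hg => mem_normalizer_iff.mpr fun n => ⟨h1 g hg n, fun hn => by
        simpa [mul_assoc] using h1 g⁻¹ (inv_mem hg) _ hn⟩
    · exact fun g hg => mem_normalizer_iff.mpr fun n => ⟨h2 g hg n, fun hn => by
        simpa [mul_assoc] using h2 g⁻¹ (inv_mem hg) _ hn⟩
  let N := Subgroup.closure {t : X | t ∈ T ∧ Odd (orderOf t)}
  have hNn : ∀ P : Subgroup X, T ≤ P → T.relIndex P = 3 → ∀ g ∈ P, ∀ n ∈ N, g * n * g⁻¹ ∈ N := by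
    intro P hTP hTi g hg n hn
    refine (show N ≤ N.comap (MulAut.conj g).toMonoidHom from (closure_le _).mpr ?_) hn
    rintro t ⟨ht, hodd⟩
    refine Subgroup.subset_closure ⟨hcore P hTP hTi g hg t ht hodd, ?_⟩
    show Odd (orderOf ((MulAut.conj g).toMonoidHom t))
    rwa [orderOf_injective _ (MulAut.conj g).injective]
  have hNbot : N = ⊥ := hnorm N (hNn P₁ inf_le_left hi) (hNn P₂ inf_le_right hi2)
    ((closure_le _).mpr fun t ht => ht.1)
  have hT2 : IsPGroup 2 T := by
    rintro ⟨t, ht⟩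
    obtain ⟨k, m, hm, e⟩ := Nat.exists_eq_pow_mul_and_not_dvd (orderOf_pos t).ne' 2 (by norm_num)
    refine ⟨k, Subtype.ext ?_⟩
    have h1 : orderOf (t ^ 2 ^ k) = m := by
      rw [orderOf_pow_of_dvd (by positivity) (e ▸ dvd_mul_right _ _), e,
        Nat.mul_div_cancel_left _ (by positivity)]
    have h2 : t ^ 2 ^ k ∈ N := Subgroup.subset_closure ⟨pow_mem ht _, by
      rw [h1]; exact Nat.not_even_iff_odd.mp (fun he => hm he.two_dvd)⟩
    rw [hNbot, mem_bot] at h2
    exact h2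
  have hS : ∀ P : Subgroup X, T ≤ P → T.relIndex P = 3 →
      ∃ S : Sylow 2 P, (S : Subgroup P) = T.subgroupOf P := by
    intro P hTP hTi
    refine ⟨(hT2.of_equiv (subgroupOfEquivOfLe hTP).symm).toSylow ?_, rfl⟩
    show ¬ 2 ∣ T.relIndex P
    rw [hTi]; norm_num
  obtain ⟨S₁, hS₁⟩ := hS P₁ inf_le_left hi
  obtain ⟨S₂, hS₂⟩ := hS P₂ inf_le_right hi2
  have i1 : (S₁ : Subgroup P₁).index = 3 := by rw [hS₁]; exact hi
  have i2 : (S₂ : Subgroup P₂).index = 3 := by rw [hS₂]; exact hi2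
  -- normality transfers
  have htransfer : (S₁ : Subgroup P₁).Normal → (S₂ : Subgroup P₂).Normal := by
    intro hn
    haveI := hn
    have h1 : Cfsg.pCore 2 P₁ = (S₁ : Subgroup P₁) :=
      le_antisymm (LocGroup56.pCore_le_sylow S₁) (LocGroup56.le_pCore hn S₁.isPGroup')
    have hc' : Nat.card (Cfsg.pCore 2 P₂) = Nat.card (S₂ : Subgroup P₂) := by
      rw [← LocGroup56.pCore_map_equiv 2 e12,
        ← Nat.card_congr ((Cfsg.pCore 2 P₁).equivMapOfInjective e12.toMonoidHom e12.injective).toEquiv, h1,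
        hS₁, hS₂, Nat.card_congr (subgroupOfEquivOfLe (inf_le_left : T ≤ P₁)).toEquiv,
        Nat.card_congr (subgroupOfEquivOfLe (inf_le_right : T ≤ P₂)).toEquiv]
    rw [← Subgroup.eq_of_le_of_card_ge (LocGroup56.pCore_le_sylow S₂) hc'.ge]
    exact Cfsg.pCore_normal 2 _
  by_cases hn1 : (S₁ : Subgroup P₁).Normal
  · -- cyclic of order three
    left
    have hn2 := htransfer hn1
    have hTbot : T = ⊥ := by
      refine hnorm T (fun g hg t ht => ?_) (fun g hg t ht => ?_) le_rfl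
      · rw [hS₁] at hn1
        have := hn1.conj_mem ⟨t, inf_le_left (a := P₁) ht⟩ (mem_subgroupOf.mpr ht) ⟨g, hg⟩
        simpa [mem_subgroupOf] using this
      · rw [hS₂] at hn2
        have := hn2.conj_mem ⟨t, inf_le_right (a := P₁) ht⟩ (mem_subgroupOf.mpr ht) ⟨g, hg⟩
        simpa [mem_subgroupOf] using this
    have : Nat.card P₁ = 3 := by rw [← hc1, hTbot, Subgroup.card_bot]
    exact ⟨mulEquivOfPrimeCardEq (p := 3) this (by simp)⟩
  have hn2 : ¬ (S₂ : Subgroup P₂).Normal := by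
    intro hn
    apply hn1
    haveI := hn
    have h1 : Cfsg.pCore 2 P₂ = (S₂ : Subgroup P₂) :=
      le_antisymm (LocGroup56.pCore_le_sylow S₂) (LocGroup56.le_pCore hn S₂.isPGroup')
    have hc' : Nat.card (Cfsg.pCore 2 P₁) = Nat.card (S₁ : Subgroup P₁) := by
      rw [Nat.card_congr ((Cfsg.pCore 2 P₁).equivMapOfInjective e12.toMonoidHom e12.injective).toEquiv,
        LocGroup56.pCore_map_equiv 2 e12, h1,
        hS₁, hS₂, Nat.card_congr (subgroupOfEquivOfLe (inf_le_left : T ≤ P₁)).toEquiv,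
        Nat.card_congr (subgroupOfEquivOfLe (inf_le_right : T ≤ P₂)).toEquiv]
    rw [← Subgroup.eq_of_le_of_card_ge (LocGroup56.pCore_le_sylow S₁) hc'.ge]
    exact Cfsg.pCore_normal 2 _
  obtain ⟨q1⟩ := quotient_perm_three S₁ i1 hn1
  obtain ⟨q2⟩ := quotient_perm_three S₂ i2 hn2
  have hcT : ∀ P : Subgroup X, T ≤ P → ∀ S : Sylow 2 P, (S : Subgroup P) = T.subgroupOf P →
      Cfsg.pCoreOf 2 P ≤ T := by
    rintro P hTP S hS _ ⟨q, hq, rfl⟩
    have := LocGroup56.pCore_le_sylow S hq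
    rwa [hS, mem_subgroupOf] at this
  by_cases hch : centralizer (Cfsg.pCore 2 P₁ : Set P₁) ≤ Cfsg.pCore 2 P₁
  · -- Goldschmidt's amalgams
    have hch2 := LocGroup56.charP_equiv e12 hch
    have conv : ∀ P : Subgroup X, centralizer (Cfsg.pCore 2 P : Set P) ≤ Cfsg.pCore 2 P →
        P ⊓ centralizer (Cfsg.pCoreOf 2 P : Set X) ≤ Cfsg.pCoreOf 2 P := by
      intro P hP g ⟨hgP, hgc⟩
      refine ⟨⟨g, hgP⟩, hP (mem_centralizer_iff.mpr fun q hq => Subtype.ext ?_), rfl⟩
      exact mem_centralizer_iff.mp hgc q ⟨q, hq, rfl⟩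
    have hT1 : T ≠ ⊥ := by
      intro e
      apply hn1
      rw [hS₁, e, bot_subgroupOf]
      infer_instance
    set Om := Cfsg.omegaOne 2 (T ⊓ centralizer (T : Set X)) with hOm
    have hOmT : Om ≤ T := (Subgroup.closure_le _).mpr fun z hz => hz.1.1
    have hOm1 : Om ≠ ⊥ := by
      haveI : Nontrivial T := (Subgroup.nontrivial_iff_ne_bot T).mpr hT1
      haveI := hT2.center_nontrivial
      obtain ⟨z, hz⟩ := exists_prime_orderOf_dvd_card' (G := Subgroup.center T) 2 (by
        obtain ⟨n, hn0, hn⟩ := ((hT2.to_subgroup (Subgroup.center T)).nontrivial_iff_card).mp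
          inferInstance
        rw [hn]; exact dvd_pow_self 2 hn0.ne')
      intro e
      have hzO : ((z : T) : X) ∈ Om := by
        refine Subgroup.subset_closure ⟨⟨(z : T).2, ?_⟩, ?_⟩
        · exact mem_centralizer_iff.mpr fun t ht =>
            congrArg Subtype.val (Subgroup.mem_center_iff.mp z.2 ⟨t, ht⟩)
        · have := pow_orderOf_eq_one z
          rw [hz] at this
          exact congrArg (fun w : Subgroup.center T => ((w : T) : X)) this
      rw [e, mem_bot] at hzO
      have : z = 1 := Subtype.ext (Subtype.ext hzO)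
      rw [this, orderOf_one] at hz; omega
    -- `T` may be fixed by a conjugation from `P₁` to `P₂`
    obtain ⟨y, hy, hyT⟩ : ∃ y : X, P₂ = P₁.map (MulAut.conj y).toMonoidHom ∧
        ∀ t ∈ T, y * t * y⁻¹ ∈ T := by
      let S' : Sylow 2 P₂ := S₁.comapOfInjective e12.symm.toMonoidHom e12.symm.injective
        (by rw [MonoidHom.range_eq_top.mpr e12.symm.surjective]; exact le_top)
      obtain ⟨h, hh⟩ := MulAction.exists_smul_eq P₂ S' S₂
      refine ⟨(h : X) * x, ?_, fun t ht => ?_⟩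
      · rw [map_mul, show (MulAut.conj (h : X) * MulAut.conj x).toMonoidHom =
          (MulAut.conj (h : X)).toMonoidHom.comp (MulAut.conj x).toMonoidHom from rfl,
          ← Subgroup.map_map, ← hx]
        refine (le_antisymm ?_ ?_).symm
        · rintro _ ⟨g, hg, rfl⟩
          exact mul_mem (mul_mem h.2 hg) (inv_mem h.2)
        · exact fun g hg => ⟨(h : X)⁻¹ * g * h, mul_mem (mul_mem (inv_mem h.2) hg) h.2, by
            show (h : X) * ((h : X)⁻¹ * g * h) * (h : X)⁻¹ = g
            group⟩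
      · have h1 : e12 ⟨t, inf_le_left (a := P₁) ht⟩ ∈ (S' : Subgroup P₂) := by
          show e12.symm (e12 _) ∈ (S₁ : Subgroup P₁)
          rw [MulEquiv.symm_apply_apply, hS₁, mem_subgroupOf]; exact ht
        have h2 : h * e12 ⟨t, inf_le_left (a := P₁) ht⟩ * h⁻¹ ∈ (S₂ : Subgroup P₂) := by
          rw [← hh, Sylow.coe_subgroup_smul]
          exact Subgroup.smul_mem_pointwise_smul _ (MulAut.conj h) _ h1
        rw [hS₂, mem_subgroupOf] at h2
        rw [show (h : X) * x * t * ((h : X) * x)⁻¹ = (h : X) * (x * t * x⁻¹) * (h : X)⁻¹ by group]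
        exact h2
    have hyinv : ∀ t ∈ T, y⁻¹ * t * y ∈ T := by
      intro t ht
      let f : T → T := fun w => ⟨y * w * y⁻¹, hyT w w.2⟩
      have hf : Function.Injective f := fun u v e => Subtype.ext (by
        simpa [f] using congrArg Subtype.val e)
      obtain ⟨w, hw⟩ := Finite.injective_iff_surjective.mp hf ⟨t, ht⟩
      have e : y * (w : X) * y⁻¹ = t := congrArg Subtype.val hw
      rw [← e, show y⁻¹ * (y * (w : X) * y⁻¹) * y = w by group]; exact w.2
    have hyOm : ∀ z ∈ Om, y * z * y⁻¹ ∈ Om ∧ y⁻¹ * z * y ∈ Om := by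
      have gen : ∀ u : X, (∀ t ∈ T, u * t * u⁻¹ ∈ T) → (∀ t ∈ T, u⁻¹ * t * u ∈ T) →
          ∀ z ∈ Om, u * z * u⁻¹ ∈ Om := by
        intro u hu hu' z hz
        refine (show Om ≤ Om.comap (MulAut.conj u).toMonoidHom from
          (Subgroup.closure_le _).mpr ?_) hz
        rintro z ⟨⟨hzT, hzc⟩, hz2⟩
        refine Subgroup.subset_closure ⟨⟨hu z hzT, mem_centralizer_iff.mpr fun t ht => ?_⟩, ?_⟩
        · show t * (u * z * u⁻¹) = u * z * u⁻¹ * t
          calc t * (u * z * u⁻¹) = u * ((u⁻¹ * t * u) * z) * u⁻¹ := by group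
            _ = u * (z * (u⁻¹ * t * u)) * u⁻¹ := by
              rw [mem_centralizer_iff.mp hzc _ (hu' t ht)]
            _ = _ := by group
        · show (u * z * u⁻¹) ^ 2 = 1
          rw [conj_pow, hz2, mul_one, mul_inv_cancel]
      exact fun z hz => ⟨gen y hyT hyinv z hz, by
        simpa using gen y⁻¹ (fun t ht => by simpa using hyinv t ht)
          (fun t ht => by simpa using hyT t ht) z hz⟩
    have h5 : ¬ P₁ ≤ centralizer (Om : Set X) ∧ ¬ P₂ ≤ centralizer (Om : Set X) := by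
      have one : ∀ (P Q : Subgroup X) (u : X), Q = P.map (MulAut.conj u).toMonoidHom →
          (∀ z ∈ Om, u⁻¹ * z * u ∈ Om) → P ≤ centralizer (Om : Set X) →
          Q ≤ centralizer (Om : Set X) := by
        intro P Q u hQ hu hP
        rw [hQ]
        rintro _ ⟨g, hg, rfl⟩
        refine mem_centralizer_iff.mpr fun z hz => ?_
        show z * (u * g * u⁻¹) = u * g * u⁻¹ * z
        calc z * (u * g * u⁻¹) = u * ((u⁻¹ * z * u) * g) * u⁻¹ := by group
          _ = u * (g * (u⁻¹ * z * u)) * u⁻¹ := by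
            rw [mem_centralizer_iff.mp (hP hg) _ (hu z hz)]
          _ = _ := by group
      have both : P₁ ≤ centralizer (Om : Set X) → P₂ ≤ centralizer (Om : Set X) → False :=
        fun a b => hOm1 (hnorm Om
          (fun g hg z hz => by
            rw [← mem_centralizer_iff.mp (a hg) z hz, mul_inv_cancel_right]; exact hz)
          (fun g hg z hz => by
            rw [← mem_centralizer_iff.mp (b hg) z hz, mul_inv_cancel_right]; exact hz) hOmT)
      refine ⟨fun a => both a (one P₁ P₂ y hy (fun z hz => (hyOm z hz).2) a), fun b => ?_⟩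
      refine both (one P₂ P₁ y⁻¹ ?_ (fun z hz => by simpa using (hyOm z hz).1) b) b
      rw [hy, Subgroup.map_map]
      conv_lhs => rw [← Subgroup.map_id P₁]
      congr 1
      ext g
      simp [mul_assoc]
    rcases Cfsg.Agent.S2858.result P₁ P₂ hgen T rfl
        (by rintro P (rfl | rfl); exacts [conv _ hch, conv _ hch2])
        (by rintro P (rfl | rfl); exacts [⟨S₁, hS₁⟩, ⟨S₂, hS₂⟩])
        hfaith
        (by rintro P (rfl | rfl); exacts [⟨q1⟩, ⟨q2⟩])
        (by rintro P (rfl | rfl); exacts [h5.1, h5.2]) with ⟨⟨e⟩, -⟩ | ⟨⟨e⟩, -⟩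
    · exact Or.inr (Or.inr (Or.inr (Or.inl ⟨e⟩)))
    · exact Or.inr (Or.inr (Or.inr (Or.inr ⟨e.trans MulEquiv.prodComm⟩)))
  -- an element of order three centralises the core
  have hch2 : ¬ centralizer (Cfsg.pCore 2 P₂ : Set P₂) ≤ Cfsg.pCore 2 P₂ := fun hh =>
    hch (LocGroup56.charP_equiv e12.symm hh)
  set Q₁ := Cfsg.pCoreOf 2 P₁ with hQ₁
  set Q₂ := Cfsg.pCoreOf 2 P₂ with hQ₂
  have hQn : ∀ P : Subgroup X, ∀ g ∈ P, ∀ q ∈ Cfsg.pCoreOf 2 P, g * q * g⁻¹ ∈ Cfsg.pCoreOf 2 P := by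
    rintro P g hg _ ⟨q, hq, rfl⟩
    exact ⟨⟨g, hg⟩ * q * ⟨g, hg⟩⁻¹, (Cfsg.pCore_normal 2 P).conj_mem q hq ⟨g, hg⟩, rfl⟩
  have hcentr : ∀ P : Subgroup X, ∀ S : Sylow 2 P, (S : Subgroup P) = T.subgroupOf P →
      (S : Subgroup P).index = 3 →
      ¬ centralizer (Cfsg.pCore 2 P : Set P) ≤ Cfsg.pCore 2 P →
      ∃ r ∈ P, r ∉ T ∧ ∀ q ∈ Cfsg.pCoreOf 2 P, r * q = q * r := by
    intro P S hS hSi hP
    obtain ⟨r, hr, hrS⟩ : ∃ r ∈ centralizer (Cfsg.pCore 2 P : Set P), r ∉ (S : Subgroup P) := by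
      by_contra hn
      push Not at hn
      haveI : (Cfsg.pCore 2 P).Normal := Cfsg.pCore_normal 2 _
      exact hP (LocGroup56.le_pCore inferInstance (S.isPGroup'.to_le hn))
    refine ⟨r, r.2, fun hrT => hrS (by rw [hS]; exact mem_subgroupOf.mpr hrT), ?_⟩
    rintro _ ⟨q, hq, rfl⟩
    exact congrArg Subtype.val (mem_centralizer_iff.mp hr q hq).symm
  obtain ⟨r1, hr1, hr1T, hr1c⟩ := hcentr P₁ S₁ hS₁ i1 hch
  obtain ⟨r2, hr2, hr2T, hr2c⟩ := hcentr P₂ S₂ hS₂ i2 hch2
  have hQ1T : Q₁ ≤ T := hcT P₁ inf_le_left S₁ hS₁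
  have hQ2T : Q₂ ≤ T := hcT P₂ inf_le_right S₂ hS₂
  have hnD : ∀ P : Subgroup X, T ≤ P → T.relIndex P = 3 → ∀ r ∈ P, r ∉ T →
      (∀ q ∈ Q₁ ⊓ Q₂, r * q = q * r) → ∀ g ∈ P, ∀ n ∈ Q₁ ⊓ Q₂, g * n * g⁻¹ ∈ Q₁ ⊓ Q₂ := by
    intro P hTP hTi r hrP hrT hr g hg n hn
    let K := T ⊔ zpowers r
    have hKP : K ≤ P := sup_le hTP (zpowers_le.mpr hrP)
    have hKe : K = P := by
      have h1 := Subgroup.relIndex_mul_relIndex T K P le_sup_left hKP
      rw [hTi] at h1
      rcases (Nat.dvd_prime Nat.prime_three).mp (Dvd.intro _ h1) with e | e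
      · exact absurd (Subgroup.relIndex_eq_one.mp e (le_sup_right (a := T) (mem_zpowers r))) hrT
      · exact le_antisymm hKP (Subgroup.relIndex_eq_one.mp (by rw [e] at h1; omega))
    have hK : K ≤ normalizer ((Q₁ ⊓ Q₂ : Subgroup X) : Set X) := by
      refine sup_le (fun t ht => mem_normalizer_iff.mpr fun m => ⟨fun hm =>
        ⟨hQn P₁ t (inf_le_left (a := P₁) ht) m hm.1, hQn P₂ t (inf_le_right (a := P₁) ht) m hm.2⟩,
        fun hm => ⟨?_, ?_⟩⟩) (zpowers_le.mpr (centralizer_le_normalizer _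
          (mem_centralizer_iff.mpr fun q hq => (hr q hq).symm)))
      · simpa [mul_assoc] using hQn P₁ t⁻¹ (inv_mem (inf_le_left (a := P₁) ht)) _ hm.1
      · simpa [mul_assoc] using hQn P₂ t⁻¹ (inv_mem (inf_le_right (a := P₁) ht)) _ hm.2
    exact (mem_normalizer_iff.mp (hK (hKe.symm ▸ hg)) n).mp hn
  have hD : Q₁ ⊓ Q₂ = ⊥ := hnorm _
    (hnD P₁ inf_le_left hi r1 hr1 hr1T fun q hq => hr1c q hq.1)
    (hnD P₂ inf_le_right hi2 r2 hr2 hr2T fun q hq => hr2c q hq.2) (inf_le_left.trans hQ1T)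
  have hidx : ∀ P : Subgroup X, T ≤ P → T.relIndex P = 3 →
      Nonempty (P ⧸ Cfsg.pCore 2 P ≃* Equiv.Perm (Fin 3)) → Cfsg.pCoreOf 2 P ≤ T →
      (Cfsg.pCoreOf 2 P).relIndex T = 2 := by
    rintro P hTP hTi ⟨e⟩ hle
    have h1 := Subgroup.relIndex_mul_relIndex _ _ _ hle hTP
    have h2 : (Cfsg.pCoreOf 2 P).relIndex P = 6 := by
      show ((Cfsg.pCoreOf 2 P).subgroupOf P).index = 6
      rw [show (Cfsg.pCoreOf 2 P).subgroupOf P = Cfsg.pCore 2 P from
        Subgroup.comap_map_eq_self_of_injective P.subtype_injective _, Subgroup.index_eq_card,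
        Nat.card_congr e.toEquiv, Nat.card_perm, Nat.card_fin]
      rfl
    rw [hTi, h2] at h1; omega
  have x1 := hidx P₁ inf_le_left hi ⟨q1⟩ hQ1T
  have x2 := hidx P₂ inf_le_right hi2 ⟨q2⟩ hQ2T
  have hQle : Nat.card Q₁ ≤ 2 := by
    rw [← Subgroup.relIndex_bot_left, ← hD, Subgroup.inf_relIndex_left]
    exact (Subgroup.relIndex_le_of_le_right hQ1T (by rw [x2]; norm_num)).trans x2.le
  have hT2' : Nat.card T = Nat.card Q₁ * 2 := by
    rw [← x1]; exact (card_mul_rel _ _ hQ1T).symm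
  have hQcard : Nat.card (Cfsg.pCore 2 P₁) = Nat.card Q₁ :=
    Nat.card_congr ((Cfsg.pCore 2 P₁).equivMapOfInjective P₁.subtype P₁.subtype_injective).toEquiv
  have hpos : 0 < Nat.card Q₁ := Nat.card_pos
  rcases (show Nat.card Q₁ = 1 ∨ Nat.card Q₁ = 2 by omega) with h1 | h2
  · right; left
    have hb : Cfsg.pCore 2 P₁ = ⊥ := Subgroup.eq_bot_of_card_eq _ (by rw [hQcard, h1])
    exact ⟨((QuotientGroup.quotientBot (G := P₁)).symm.trans
      (QuotientGroup.quotientMulEquivOfEq hb.symm)).trans q1⟩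
  · right; right; left
    have hcard2 : Nat.card Q₂ * 2 = Nat.card T := by
      rw [← x2]; exact card_mul_rel _ _ hQ2T
    obtain ⟨s, hs, hs1⟩ : ∃ s ∈ Q₂, s ≠ (1 : X) := by
      refine (Subgroup.bot_or_exists_ne_one Q₂).resolve_left fun e => ?_
      rw [e, Subgroup.card_bot] at hcard2
      omega
    have hsQ1 : s ∉ Q₁ := fun h => hs1 (by
      have : s ∈ Q₁ ⊓ Q₂ := ⟨h, hs⟩
      rwa [hD, mem_bot] at this)
    obtain ⟨q, hq, hq1⟩ : ∃ q ∈ Q₁, q ≠ (1 : X) :=
      (Subgroup.bot_or_exists_ne_one Q₁).resolve_left fun e => by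
        rw [e, Subgroup.card_bot] at h2; omega
    obtain ⟨q', hq', rfl⟩ := hq
    have hs2 : s * s = 1 := by
      haveI := Fintype.ofFinite Q₂
      have hc2 : Nat.card Q₂ = 2 := by omega
      have := pow_card_eq_one' (G := Q₂) (x := ⟨s, hs⟩)
      rw [hc2, pow_two] at this
      exact congrArg Subtype.val this
    exact dihedral_six (by rw [← hc1, hT2', h2]) S₁ i1 hn1 hq'
      (fun e => hq1 (by rw [e]; rfl)) (by rw [hQcard, h2])
      (s := ⟨s, inf_le_left (a := P₁) (hQ2T hs)⟩) (fun h => hsQ1 ⟨_, h, rfl⟩) (Subtype.ext hs2)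

/-- The stabiliser of a primitive group with a suborbit of length three. -/
theorem stabilizer_cases {G Ω : Type*} [Group G] [Finite G] [MulAction G Ω] [FaithfulSMul G Ω]
    (hprim : MulAction.IsPreprimitive G Ω) (a b : Ω)
    (h3 : Nat.card (MulAction.orbit (MulAction.stabilizer G a) b) = 3) :
    Nonempty (MulAction.stabilizer G a ≃* Multiplicative (ZMod 3)) ∨
      Nonempty (MulAction.stabilizer G a ≃* Equiv.Perm (Fin 3)) ∨
      Nonempty (MulAction.stabilizer G a ≃* DihedralGroup 6) ∨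
      Nonempty (MulAction.stabilizer G a ≃* Equiv.Perm (Fin 4)) ∨
      Nonempty (MulAction.stabilizer G a ≃* Equiv.Perm (Fin 4) × Multiplicative (ZMod 2)) := by
  haveI := hprim
  have hab : a ≠ b := by
    rintro rfl
    have : MulAction.orbit (MulAction.stabilizer G a) a = {a} :=
      Set.eq_singleton_iff_unique_mem.mpr ⟨MulAction.mem_orbit_self a,
        by rintro _ ⟨g, rfl⟩; exact g.2⟩
    rw [this] at h3
    simp at h3
  haveI : Nontrivial Ω := ⟨a, b, hab⟩
  obtain ⟨x, hx⟩ := MulAction.exists_smul_eq G a b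
  have hP : MulAction.stabilizer G b =
      (MulAction.stabilizer G a).map (MulAut.conj x).toMonoidHom := by
    rw [← hx]; exact MulAction.stabilizer_smul_eq_stabilizer_map_conj x a
  have hrel : (MulAction.stabilizer G a ⊓ MulAction.stabilizer G b).relIndex
      (MulAction.stabilizer G a) = 3 := by
    rw [← h3, Subgroup.inf_relIndex_left]
    show ((MulAction.stabilizer G b).subgroupOf (MulAction.stabilizer G a)).index = _
    rw [show (MulAction.stabilizer G b).subgroupOf (MulAction.stabilizer G a) =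
      MulAction.stabilizer (MulAction.stabilizer G a) b from rfl,
      MulAction.index_stabilizer]
    exact (Nat.card_coe_set_eq _).symm
  have hco := MulAction.IsPreprimitive.isCoatom_stabilizer_of_isPreprimitive (G := G) a
  have hgen : MulAction.stabilizer G a ⊔ MulAction.stabilizer G b = ⊤ := by
    refine hco.2 _ (lt_of_le_of_ne le_sup_left fun e => ?_)
    have hle : MulAction.stabilizer G b ≤ MulAction.stabilizer G a := e.symm ▸ le_sup_right
    have heq : MulAction.stabilizer G b = MulAction.stabilizer G a := by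
      refine Subgroup.eq_of_le_of_card_ge hle ?_
      rw [hP, ← Nat.card_congr ((MulAction.stabilizer G a).equivMapOfInjective _
        (MulAut.conj x).injective).toEquiv]
    rw [heq, inf_idem, Subgroup.relIndex_self] at hrel
    omega
  refine amalgam _ _ hgen hP hrel fun N hN hle => (Subgroup.eq_bot_iff_forall N).mpr fun n hn => ?_
  refine eq_of_smul_eq_smul fun ω : Ω => ?_
  obtain ⟨g, rfl⟩ := MulAction.exists_smul_eq G a ω
  have h2 : g⁻¹ * n * g⁻¹⁻¹ ∈ N := hN.conj_mem n hn g⁻¹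
  have h1 := MulAction.mem_stabilizer_iff.mp (hle h2).1
  rw [inv_inv, mul_smul, mul_smul, inv_smul_eq_iff] at h1
  rw [h1, one_smul]

end Cfsg.Agent.SuborbitThree
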