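import Mathlib
import Cfsg.Agent.Lib.OrderDSupersolvable
import Cfsg.Agent.Lib.TransferAlperin
import Cfsg.Agent.Lib.IsolatedPElement

/-!
# Supersolvability from the subgroups generated by two conjugate elements

If for distinct primes `p`, `q` the subgroup generated by a `p`-element and its conjugate by a
`q`-element never has order divisible by `q ^ 2`, the group is supersolvable. The core is a
statement about a supersolvable group acting faithfully and irreducibly on an elementary abelian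
`p`-group such that each `q`-element acts by a single scalar on its commutator space.
-/

set_option autoImplicit false

open Subgroup

universe u

namespace Cfsg.Agent.SupersolvablePairs

section action

variable {M V : Type*} [Group M] [CommGroup V] {p : ℕ} (φ : M →* MulAut V)

/-- The elements multiplied by `a` under `y`. -/
def Eig (y : M) (a : ℕ) : Subgroup V :=
  MonoidHom.eqLocus (φ y).toMonoidHom (powMonoidHom a)

theorem mem_Eig {y : M} {a : ℕ} {v : V} : v ∈ Eig φ y a ↔ φ y v = v ^ a := Iff.rfl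

variable (hexp : ∀ v : V, v ^ p = 1)

include hexp in
theorem pow_congr {a b : ℕ} (h : (a : ZMod p) = b) (v : V) : v ^ a = v ^ b := by
  rw [ZMod.natCast_eq_natCast_iff] at h
  rw [pow_eq_pow_iff_modEq]
  exact h.of_dvd (orderOf_dvd_of_pow_eq_one (hexp v))

include hexp in
theorem cast_eq_of_pow_eq [hp : Fact p.Prime] {a b : ℕ} {v : V} (hv : v ≠ 1)
    (h : v ^ a = v ^ b) : (a : ZMod p) = b := by
  rw [pow_eq_pow_iff_modEq, orderOf_eq_prime (hexp v) hv] at h
  rwa [ZMod.natCast_eq_natCast_iff]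

include hexp in
theorem Eig_congr {a b : ℕ} (h : (a : ZMod p) = b) (y : M) : Eig φ y a = Eig φ y b := by
  ext v
  rw [mem_Eig, mem_Eig, pow_congr hexp h]

include hexp in
theorem eq_one_of_mem_Eig [hp : Fact p.Prime] {y : M} {a b : ℕ} (hab : (a : ZMod p) ≠ b) {v : V}
    (ha : v ∈ Eig φ y a) (hb : v ∈ Eig φ y b) : v = 1 := by
  by_contra hv
  rw [mem_Eig] at ha hb
  exact hab (cast_eq_of_pow_eq hexp hv (ha.symm.trans hb))

theorem Eig_pow {y : M} {a : ℕ} {v : V} (hv : v ∈ Eig φ y a) (i : ℕ) :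
    v ∈ Eig φ (y ^ i) (a ^ i) := by
  induction i with
  | zero => simp [mem_Eig]
  | succ i ih =>
    rw [mem_Eig] at ih hv ⊢
    rw [pow_succ y, map_mul, MulAut.mul_apply, hv, map_pow, ih, ← pow_mul, pow_succ]

theorem Eig_mul {y z : M} {a b : ℕ} {v : V} (hy : v ∈ Eig φ y a) (hz : v ∈ Eig φ z b) :
    v ∈ Eig φ (y * z) (a * b) := by
  rw [mem_Eig] at hy hz ⊢
  rw [map_mul, MulAut.mul_apply, hz, map_pow, hy, ← pow_mul]

theorem Eig_conj {m y : M} {a : ℕ} {v : V} (hv : v ∈ Eig φ (m⁻¹ * y * m) a) :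
    φ m v ∈ Eig φ y a := by
  rw [mem_Eig] at hv ⊢
  rw [map_mul, map_mul, MulAut.mul_apply, MulAut.mul_apply, map_inv] at hv
  have h := congrArg (φ m) hv
  rw [map_pow, ← MulAut.mul_apply, mul_inv_cancel, MulAut.one_apply] at h
  exact h

/-- The displacement of `v` by `y`. -/
def disp (y : M) : V →* V :=
  (φ y).toMonoidHom / MonoidHom.id V

theorem disp_apply (y : M) (v : V) : disp φ y v = φ y v / v := rfl

/-- Every element of order a power of a prime other than `p` sends each displacement to one of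
its multiples. -/
def LineProp (p : ℕ) : Prop :=
  ∀ (q : ℕ) (y : M), q.Prime → q ≠ p → (∃ i, orderOf y = q ^ i) →
    ∀ v : V, φ y (disp φ y v) ∈ zpowers (disp φ y v)

include hexp in
theorem exists_scalar [Finite V] [hp : Fact p.Prime] (hinj : Function.Injective φ) {y : M}
    {q i : ℕ} (hq : q.Prime) (hqp : q ≠ p) (hy : orderOf y = q ^ i)
    (hline : ∀ v : V, φ y (disp φ y v) ∈ zpowers (disp φ y v)) :
    ∃ a : ℕ, (∀ v : V, disp φ y v ∈ Eig φ y a) ∧ (y ≠ 1 → (a : ZMod p) ≠ 1) := by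
  by_cases hall : ∀ v : V, disp φ y v = 1
  · refine ⟨0, fun v => by rw [hall v]; exact one_mem _, fun hy1 => absurd (hinj ?_) hy1⟩
    rw [map_one]
    apply MulEquiv.ext
    intro v
    have h := hall v
    rw [disp_apply, div_eq_one] at h
    simpa using h
  push Not at hall
  obtain ⟨v0, hv0⟩ := hall
  have hex : ∀ v : V, ∃ a : ℕ, φ y (disp φ y v) = disp φ y v ^ a := fun v => by
    obtain ⟨a, ha⟩ := mem_powers_iff_mem_zpowers.mpr (hline v)
    exact ⟨a, ha.symm⟩
  obtain ⟨a, ha⟩ := hex v0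
  have hmem : ∀ v : V, disp φ y v ∈ Eig φ y a := by
    intro v
    set u := disp φ y v0 with hu
    set w := disp φ y v with hw
    by_cases hwu : w ∈ zpowers u
    · exact (zpowers_le (H := Eig φ y a)).mpr ha hwu
    obtain ⟨b, hb⟩ := hex v
    obtain ⟨c, hc⟩ := hex (v0 * v)
    rw [map_mul, map_mul, ← hu, ← hw, ha, hb, mul_pow] at hc
    rw [← hw] at hb
    have hac : u ^ a = u ^ c := by
      have h1 : u ^ ((a : ℤ) - c) = w ^ ((c : ℤ) - b) := by
        rw [zpow_sub, zpow_sub, zpow_natCast, zpow_natCast, zpow_natCast, zpow_natCast,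
          mul_inv_eq_iff_eq_mul, eq_comm, mul_right_comm, mul_inv_eq_iff_eq_mul, eq_comm, hc]
        rw [mul_comm]
      by_contra hne
      have hcb : ¬ (p : ℤ) ∣ (c : ℤ) - b := by
        intro hd
        apply hne
        have h2 : w ^ ((c : ℤ) - b) = 1 := by
          obtain ⟨k, hk⟩ := hd
          rw [hk, zpow_mul, zpow_natCast, hexp, one_zpow]
        rw [h2, zpow_sub, mul_inv_eq_one, zpow_natCast, zpow_natCast] at h1
        exact h1
      apply hwu
      obtain ⟨s, hs⟩ : ∃ s : ℤ, (((c : ℤ) - b) * s : ℤ) ≡ 1 [ZMOD p] := by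
        refine ⟨((((c : ℤ) - b : ℤ) : ZMod p)⁻¹).val, ?_⟩
        rw [← ZMod.intCast_eq_intCast_iff]
        push_cast
        rw [ZMod.natCast_zmod_val, mul_inv_cancel₀]
        intro h0
        apply hcb
        rw [← ZMod.intCast_zmod_eq_zero_iff_dvd]
        push_cast
        exact h0
      have h3 : w = u ^ (((a : ℤ) - c) * s) := by
        rw [zpow_mul, h1, ← zpow_mul]
        conv_lhs => rw [← zpow_one w]
        refine zpow_eq_zpow_iff_modEq.mpr (hs.symm.of_dvd ?_)
        exact Int.natCast_dvd_natCast.mpr (orderOf_dvd_of_pow_eq_one (hexp w))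
      rw [h3]
      exact zpow_mem_zpowers u _
    rw [hac] at hc
    rw [mem_Eig, hb, pow_congr hexp (cast_eq_of_pow_eq hexp hv0 hac) w]
    exact mul_left_cancel hc
  refine ⟨a, hmem, fun _ ha1 => ?_⟩
  -- if the scalar is `1`, then `y` has order a power of `p`
  apply hv0
  have h1 : ∀ w : V, φ y (disp φ y w) = disp φ y w := fun w => by
    have := hmem w
    rwa [mem_Eig, pow_congr hexp (a := a) (b := 1) (by simpa using ha1), pow_one] at this
  have hiter : ∀ n : ℕ, φ (y ^ n) v0 = v0 * disp φ y v0 ^ n := by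
    intro n
    induction n with
    | zero => simp
    | succ n ih =>
      have h2 : φ y v0 = v0 * disp φ y v0 := by rw [disp_apply, mul_div_cancel]
      rw [pow_succ', map_mul, MulAut.mul_apply, ih, map_mul, map_pow, h1, h2, pow_succ', mul_assoc]
  have h3 := hiter (orderOf y)
  rw [pow_orderOf_eq_one, map_one, MulAut.one_apply, left_eq_mul, hy] at h3
  have hcop : Nat.Coprime (q ^ i) p := ((Nat.coprime_primes hq hp.out).mpr hqp).pow_left i
  exact orderOf_eq_one_iff.mp (Nat.eq_one_of_dvd_coprimes hcop (orderOf_dvd_of_pow_eq_one h3)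
    (orderOf_dvd_of_pow_eq_one (hexp _)))

theorem Eig_one_eq_ker (y : M) : Eig φ y 1 = (disp φ y).ker := by
  ext v
  rw [mem_Eig, MonoidHom.mem_ker, disp_apply, div_eq_one, pow_one]

include hexp in
theorem Eig_sup_eq_top [Finite V] [hp : Fact p.Prime] {y : M} {a : ℕ}
    (hmem : ∀ v : V, disp φ y v ∈ Eig φ y a) (ha : (a : ZMod p) ≠ 1) :
    Eig φ y 1 ⊔ Eig φ y a = ⊤ := by
  have hinf : Eig φ y 1 ⊓ Eig φ y a = ⊥ := by
    rw [eq_bot_iff]
    intro v hv
    obtain ⟨h1, h2⟩ := mem_inf.mp hv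
    exact mem_bot.mpr (eq_one_of_mem_Eig φ hexp (b := 1) (by simpa using ha) h2 h1)
  refine eq_of_le_of_card_ge le_top ?_
  rw [PGroupsBasic.card_sup_of_normal hinf, card_top]
  have h1 : (disp φ y).range ≤ Eig φ y a := by
    rintro _ ⟨v, rfl⟩
    exact hmem v
  calc Nat.card V = (disp φ y).ker.index * Nat.card (disp φ y).ker := by
        rw [mul_comm]; exact (card_mul_index _).symm
    _ = Nat.card (disp φ y).range * Nat.card (disp φ y).ker := by rw [index_ker]
    _ ≤ Nat.card (Eig φ y a) * Nat.card (Eig φ y 1) := by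
        rw [← Eig_one_eq_ker]; exact Nat.mul_le_mul_right _ (card_le_of_le h1)
    _ = _ := mul_comm _ _

include hexp in
theorem value_eq [Finite V] [hp : Fact p.Prime] {y : M} {a b : ℕ}
    (hmem : ∀ v : V, disp φ y v ∈ Eig φ y a) {v : V} (hv : v ≠ 1) (hb : v ∈ Eig φ y b)
    (hb1 : (b : ZMod p) ≠ 1) : (b : ZMod p) = a := by
  by_contra hne
  have h1 : disp φ y v ∈ Eig φ y b := by
    rw [disp_apply]
    exact div_mem (by rw [(mem_Eig φ).mp hb]; exact pow_mem hb b) hb
  have h2 := eq_one_of_mem_Eig φ hexp hne h1 (hmem v)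
  rw [disp_apply, div_eq_one, (mem_Eig φ).mp hb] at h2
  exact hb1 (by simpa using cast_eq_of_pow_eq hexp hv (h2.trans (pow_one v).symm))

/-- The subgroup of elements acting as scalars. -/
def scalarSubgroup [Finite M] : Subgroup M :=
  { carrier := {y | ∃ a : ℕ, ∀ v : V, φ y v = v ^ a}
    one_mem' := ⟨1, fun v => by simp⟩
    mul_mem' := fun {x y} ⟨a, ha⟩ ⟨b, hb⟩ => ⟨a * b, fun v => by
      rw [map_mul, MulAut.mul_apply, hb, map_pow, ha, ← pow_mul]⟩
    inv_mem' := fun {x} ⟨a, ha⟩ => ⟨a ^ (orderOf x - 1), fun v => by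
      have h : ∀ n : ℕ, φ (x ^ n) v = v ^ a ^ n := fun n => Eig_pow φ (ha v) n
      have hx : x⁻¹ = x ^ (orderOf x - 1) := by
        refine inv_eq_of_mul_eq_one_right ?_
        rw [← pow_succ', Nat.sub_add_cancel (orderOf_pos x), pow_orderOf_eq_one]
      rw [hx, h]⟩ }

theorem scalarSubgroup_normal [Finite M] : (scalarSubgroup φ).Normal := by
  refine ⟨fun x hx y => ?_⟩
  obtain ⟨a, ha⟩ := hx
  refine ⟨a, fun v => ?_⟩
  rw [map_mul, map_mul, MulAut.mul_apply, MulAut.mul_apply, ha, map_pow, map_inv,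
    ← MulAut.mul_apply, mul_inv_cancel, MulAut.one_apply]

theorem exists_mem_ne_one {K : Subgroup V} (hK : K ≠ ⊥) : ∃ v ∈ K, v ≠ 1 :=
  K.bot_or_exists_ne_one.resolve_left hK

/-- A supersolvable group acting faithfully and irreducibly with the line property acts on a
group of prime order. -/
theorem card_eq_prime [Finite M] [Finite V] [Nontrivial V] [hp : Fact p.Prime]
    (hinj : Function.Injective φ) (hexp : ∀ v : V, v ^ p = 1)
    (hirr : ∀ K : Subgroup V, (∀ m : M, ∀ v ∈ K, φ m v ∈ K) → K = ⊥ ∨ K = ⊤)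
    (hline : LineProp φ p) (hM : Cfsg.IsSupersolvable M) : Nat.card V = p := by
  classical
  set Z := scalarSubgroup φ with hZ
  haveI : Z.Normal := scalarSubgroup_normal φ
  by_cases hall : ∀ m : M, m ∈ Z
  · obtain ⟨v, hv⟩ := exists_ne (1 : V)
    rcases hirr (zpowers v) (fun m w hw => by
      obtain ⟨a, ha⟩ := hall m
      rw [ha w]
      exact pow_mem hw a) with h | h
    · exact absurd (zpowers_eq_bot.mp h) hv
    · rw [← card_top (G := V), ← h, Nat.card_zpowers, orderOf_eq_prime (hexp v) hv]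
  exfalso
  push Not at hall
  obtain ⟨m1, hm1⟩ := hall
  set π := QuotientGroup.mk' Z with hπ
  haveI : Nontrivial (M ⧸ Z) :=
    ⟨π m1, 1, fun h => hm1 (by rwa [← MonoidHom.mem_ker, hπ, QuotientGroup.ker_mk'] at h)⟩
  obtain ⟨B, hBn, hBp⟩ := Supersolvable.exists_normal_prime (Supersolvable.quotient hM Z)
  obtain ⟨x, hx, hxo⟩ := PGroupsBasic.exists_orderOf_eq_of_ne_bot
    (hp := ⟨hBp⟩) (IsPGroup.of_card (n := 1) (pow_one (Nat.card B)).symm)
    (Supersolvable.ne_bot_of_prime hBp)
  set s := Nat.card B with hs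
  haveI : Fact s.Prime := ⟨hBp⟩
  have hBx : zpowers x = B :=
    eq_of_le_of_card_ge ((zpowers_le).mpr hx) (by rw [Nat.card_zpowers, hxo])
  obtain ⟨x0, hx0⟩ := QuotientGroup.mk'_surjective Z x
  rw [← hx0] at hxo hBx
  obtain ⟨m, ⟨i0, hb⟩, hfb⟩ := OrderDSupersolvable.exists_primary_lift π x0 hBp
    ⟨1, by rw [pow_one]; exact hxo⟩
  set b := x0 ^ m with hbdef
  have hbZ : b ∉ Z := by
    intro h
    rw [← QuotientGroup.ker_mk' Z, MonoidHom.mem_ker, ← hπ, hfb] at h
    rw [h, orderOf_one] at hxo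
    exact hBp.one_lt.ne hxo
  have hconj : ∀ g : M, ∃ (i : ℕ), ∃ z ∈ Z, g⁻¹ * b * g = b ^ i * z := by
    intro g
    have h1 : π (g⁻¹ * b * g) ∈ B := by
      have h2 : π b ∈ B := by rw [hfb, ← hBx]; exact mem_zpowers _
      have := hBn.conj_mem _ h2 (π g)⁻¹
      simpa using this
    rw [← hBx, ← hfb] at h1
    obtain ⟨i, hi⟩ := mem_powers_iff_mem_zpowers.mpr h1
    refine ⟨i, (b ^ i)⁻¹ * (g⁻¹ * b * g), ?_, by group⟩
    rw [← QuotientGroup.ker_mk' Z, MonoidHom.mem_ker, ← hπ, map_mul, map_inv, map_pow]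
    exact inv_mul_eq_one.mpr hi
  -- `s` is not `p`
  have hsp : s ≠ p := by
    intro hsp
    have hb1 : b ≠ 1 := fun h => hbZ (h ▸ one_mem Z)
    have hord : orderOf b = p ^ i0 := hsp ▸ hb
    have hfix : ∃ v : V, v ≠ 1 ∧ φ b v = v := by
      have hbp : IsPGroup p (zpowers (φ b)) := by
        obtain ⟨j, -, hj⟩ := (Nat.dvd_prime_pow hp.out).mp
          (hord ▸ orderOf_map_dvd φ b : orderOf (φ b) ∣ p ^ i0)
        exact IsPGroup.of_card (n := j) (by rw [Nat.card_zpowers, hj])
      obtain ⟨v0, hv0⟩ := exists_ne (1 : V)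
      have hdvd : p ∣ Nat.card V := by
        rw [← orderOf_eq_prime (hexp v0) hv0]
        exact orderOf_dvd_natCard v0
      have h1 : (1 : V) ∈ MulAction.fixedPoints (zpowers (φ b)) V := fun k => smul_one k
      have h2 := hbp.card_modEq_card_fixedPoints V
      have h3 : p ∣ Nat.card (MulAction.fixedPoints (zpowers (φ b)) V) := by
        rw [Nat.ModEq, Nat.mod_eq_zero_of_dvd hdvd] at h2
        exact Nat.dvd_of_mod_eq_zero h2.symm
      haveI : Nonempty (MulAction.fixedPoints (zpowers (φ b)) V) := ⟨⟨1, h1⟩⟩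
      have h4 : 1 < Nat.card (MulAction.fixedPoints (zpowers (φ b)) V) :=
        hp.out.one_lt.trans_le (Nat.le_of_dvd Nat.card_pos h3)
      rw [Finite.one_lt_card_iff_nontrivial] at h4
      obtain ⟨⟨v, hv⟩, hv1⟩ := exists_ne (⟨1, h1⟩ : MulAction.fixedPoints (zpowers (φ b)) V)
      exact ⟨v, fun h => hv1 (Subtype.ext h), hv ⟨φ b, mem_zpowers _⟩⟩
    -- every conjugate of `b` is a power of `b`
    have hpow : ∀ g : M, ∃ j : ℕ, g⁻¹ * b * g = b ^ j := by
      intro g
      obtain ⟨i, z, hz, hgz⟩ := hconj g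
      obtain ⟨a, ha⟩ := hz
      have hz1 : z ^ (p - 1) = 1 := by
        apply hinj
        rw [map_one]
        apply MulEquiv.ext
        intro v
        have h1 : φ (z ^ (p - 1)) v = v ^ a ^ (p - 1) := Eig_pow φ (ha v) _
        rw [h1, MulAut.one_apply]
        have ha0 : (a : ZMod p) ≠ 0 := by
          intro h0
          obtain ⟨v0, hv0⟩ := exists_ne (1 : V)
          apply hv0
          apply (φ z).injective
          rw [ha, pow_congr hexp (a := a) (b := 0) (by simpa using h0), pow_zero, map_one]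
        conv_rhs => rw [← pow_one v]
        refine pow_congr hexp ?_ v
        rw [Nat.cast_pow, ZMod.pow_card_sub_one_eq_one ha0, Nat.cast_one]
      have hcomm : Commute (b ^ i) z := by
        apply hinj
        rw [map_mul, map_mul]
        apply MulEquiv.ext
        intro v
        rw [MulAut.mul_apply, MulAut.mul_apply, ha, ha, map_pow]
      have h1 : (g⁻¹ * b * g) ^ (p - 1) = b ^ (i * (p - 1)) := by
        rw [hgz, hcomm.mul_pow, hz1, mul_one, ← pow_mul]
      have hcop : (p - 1).Coprime (orderOf (g⁻¹ * b * g)) := by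
        have he : orderOf (g⁻¹ * b * g) = p ^ i0 := by
          have h2 := IsolatedPElement.orderOf_conj g⁻¹ b
          rw [inv_inv] at h2
          rw [h2, hord]
        rw [he]
        refine Nat.Coprime.pow_right _ ((hp.out.coprime_iff_not_dvd.mpr fun hd => ?_).symm)
        have := hp.out.two_le
        have := Nat.le_of_dvd (by omega) hd
        omega
      obtain ⟨k, hk⟩ := exists_pow_eq_self_of_coprime hcop
      exact ⟨i * (p - 1) * k, by rw [← hk, h1, ← pow_mul]⟩
    rcases hirr (Eig φ b 1) (fun g v hv => by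
      obtain ⟨j, hj⟩ := hpow g
      refine Eig_conj φ ?_
      rw [hj]
      simpa using Eig_pow φ hv j) with h | h
    · obtain ⟨v, hv1, hv⟩ := hfix
      have : v ∈ Eig φ b 1 := by rw [mem_Eig, pow_one, hv]
      rw [h, mem_bot] at this
      exact hv1 this
    · apply hb1
      apply hinj
      rw [map_one]
      apply MulEquiv.ext
      intro v
      have : v ∈ Eig φ b 1 := h ▸ mem_top v
      rwa [mem_Eig, pow_one] at this
  -- the two eigenspaces of `b`
  have hb1 : b ≠ 1 := fun h => hbZ (h ▸ one_mem Z)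
  obtain ⟨a, hmem, ha'⟩ := exists_scalar φ hexp hinj hBp hsp hb (hline s b hBp hsp ⟨i0, hb⟩)
  have ha := ha' hb1
  set C := Eig φ b 1 with hC
  set I := Eig φ b a with hI
  have htop : C ⊔ I = ⊤ := Eig_sup_eq_top φ hexp hmem ha
  have hCI : ∀ v : V, v ∈ C → v ∈ I → v = 1 := fun v h1 h2 =>
    eq_one_of_mem_Eig φ hexp (b := 1) (by simpa using ha) h2 h1
  have hCtop : C ≠ ⊤ := fun h => hbZ ⟨1, fun v => (mem_Eig φ).mp (by first | (rw [← hC, h]; exact mem_top v) | (rw [← hI, h]; exact mem_top v))⟩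
  have hItop : I ≠ ⊤ := fun h => hbZ ⟨a, fun v => (mem_Eig φ).mp (by first | (rw [← hC, h]; exact mem_top v) | (rw [← hI, h]; exact mem_top v))⟩
  have hCbot : C ≠ ⊥ := fun h => hItop (by rw [← htop, h, bot_sup_eq])
  have hIbot : I ≠ ⊥ := fun h => hCtop (by rw [← htop, h, sup_bot_eq])
  have hpart : ∀ (v : V) (c : ℕ), v ∈ Eig φ b c → (c : ZMod p) ≠ 1 → v ∈ I := by
    intro v c hv hc
    rcases eq_or_ne v 1 with rfl | hne
    · exact one_mem _
    · rw [hI, ← Eig_congr φ hexp (value_eq φ hexp hmem hne hv hc)]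
      exact hv
  have hdec : ∀ v : V, ∃ c ∈ C, ∃ w ∈ I, c * w = v := fun v => by
    obtain ⟨c, hc, w, hw, e⟩ := mem_sup.mp (htop ▸ mem_top v : v ∈ C ⊔ I)
    exact ⟨c, hc, w, hw, e⟩
  have hdiag : ∀ (g : M) (c1 c2 : ℕ), (∀ v ∈ C, v ∈ Eig φ g c1) → (∀ v ∈ I, v ∈ Eig φ g c2) →
      ∀ v : V, ∃ c ∈ C, ∃ w ∈ I, c * w = v ∧ φ g v = c ^ c1 * w ^ c2 := fun g c1 c2 h1 h2 v => by
    obtain ⟨c, hc, w, hw, e⟩ := hdec v
    exact ⟨c, hc, w, hw, e, by rw [← e, map_mul, (mem_Eig φ).mp (h1 c hc),
      (mem_Eig φ).mp (h2 w hw)]⟩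
  -- some element moves `C` into `I`
  obtain ⟨g, i, μ, hC', hI', hμ⟩ : ∃ (g : M) (i μ : ℕ), (∀ v ∈ C, φ g v ∈ Eig φ b μ) ∧
      (∀ v ∈ I, φ g v ∈ Eig φ b (a ^ i * μ)) ∧ (μ : ZMod p) ≠ 1 := by
    by_contra hnone
    push Not at hnone
    suffices hinv : ∀ (g : M), ∀ v ∈ C, φ g v ∈ C by
      rcases hirr C hinv with h | h
      · exact hCbot h
      · exact hCtop h
    intro g v hv
    obtain ⟨i, z, ⟨μ, hμ⟩, hgz⟩ := hconj g
    have hmap : ∀ (c : ℕ) (u : V), u ∈ Eig φ b c → φ g u ∈ Eig φ b (c ^ i * μ) := by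
      intro c u hu
      refine Eig_conj φ ?_
      rw [hgz]
      exact Eig_mul φ (Eig_pow φ hu i) (hμ u)
    have h1 : ∀ u ∈ C, φ g u ∈ Eig φ b μ := fun u hu => by simpa using hmap 1 u hu
    rw [hC, Eig_congr φ hexp (a := 1) (b := μ) (by simpa using (hnone g i μ h1 (hmap a)).symm)]
    exact h1 v hv
  have hgC : ∀ v ∈ C, φ g v ∈ I := fun v hv => hpart _ μ (hC' v hv) hμ
  have hgI : ∀ v ∈ I, φ g v ∈ C := by
    by_contra hnot
    push Not at hnot
    obtain ⟨v, hv, hv'⟩ := hnot
    have hne : ((a ^ i * μ : ℕ) : ZMod p) ≠ 1 := by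
      intro h1
      apply hv'
      rw [hC, ← Eig_congr φ hexp (a := a ^ i * μ) (b := 1) (by simpa using h1)]
      exact hI' v hv
    have hall : ∀ w : V, φ g w ∈ I := by
      intro w
      obtain ⟨c, hc, u, hu, rfl⟩ := hdec w
      rw [map_mul]
      exact mul_mem (hgC c hc) (hpart _ _ (hI' u hu) hne)
    refine hItop (eq_top_iff.mpr fun w _ => ?_)
    have := hall ((φ g).symm w)
    rwa [MulEquiv.apply_symm_apply] at this
  have honto : ∀ (h : M), (∀ v ∈ C, φ h v ∈ I) → (∀ v ∈ I, φ h v ∈ C) →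
      (∀ v ∈ I, ∃ w ∈ C, φ h w = v) ∧ (∀ v ∈ C, ∃ w ∈ I, φ h w = v) := by
    intro h h1 h2
    constructor <;> intro v hv <;> obtain ⟨c, hc, u, hu, e⟩ := hdec ((φ h).symm v)
    · refine ⟨c, hc, ?_⟩
      have e' : φ h c * φ h u = v := by rw [← map_mul, e, MulEquiv.apply_symm_apply]
      have : φ h u = 1 := by
        refine hCI _ (h2 u hu) ?_
        have h3 := mul_mem (inv_mem (h1 c hc)) hv
        rwa [← e', inv_mul_cancel_left] at h3
      rwa [this, mul_one] at e'
    · refine ⟨u, hu, ?_⟩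
      have e' : φ h c * φ h u = v := by rw [← map_mul, e, MulEquiv.apply_symm_apply]
      have : φ h c = 1 := by
        refine hCI _ ?_ (h1 c hc)
        have h3 := mul_mem hv (inv_mem (h2 u hu))
        rwa [← e', mul_inv_cancel_right] at h3
      rwa [this, one_mul] at e'
  obtain ⟨hsurI, hsurC⟩ := honto g hgC hgI
  -- the conjugate of `b` by `g`
  obtain ⟨b', hb'⟩ : ∃ b' : M, b' = g * b * g⁻¹ := ⟨_, rfl⟩
  have hb'I : ∀ v ∈ I, v ∈ Eig φ b' 1 := by
    intro v hv
    obtain ⟨w, hw, rfl⟩ := hsurI v hv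
    refine Eig_conj φ ?_
    have e : g⁻¹ * b' * g = b := by rw [hb']; group
    rwa [e]
  have hb'C : ∀ v ∈ C, v ∈ Eig φ b' a := by
    intro v hv
    obtain ⟨w, hw, rfl⟩ := hsurC v hv
    refine Eig_conj φ ?_
    have e : g⁻¹ * b' * g = b := by rw [hb']; group
    rwa [e]
  have hbb : Commute b b' := by
    apply hinj
    apply MulEquiv.ext
    intro v
    obtain ⟨c, hc, w, hw, e⟩ := hdec v
    rw [map_mul φ b b', map_mul φ b' b, MulAut.mul_apply, MulAut.mul_apply, ← e]
    simp only [map_mul, map_pow, (mem_Eig φ).mp (hb'C c hc), (mem_Eig φ).mp (hb'I w hw),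
      (mem_Eig φ).mp hc, (mem_Eig φ).mp hw, pow_one]
  obtain ⟨c0, hc0, hc01⟩ := exists_mem_ne_one hCbot
  obtain ⟨w0, hw0, hw01⟩ := exists_mem_ne_one hIbot
  have hsq : ((a * a : ℕ) : ZMod p) = 1 := by
    by_contra hne
    set y := b ^ 2 * b' with hy
    have hyo : ∃ j, orderOf y = s ^ j := by
      have hdv : orderOf y ∣ s ^ i0 := by
        rw [orderOf_dvd_iff_pow_eq_one, hy, (hbb.pow_left 2).mul_pow, ← pow_mul, mul_comm,
          pow_mul, ← hb, pow_orderOf_eq_one, one_pow, one_mul, hb',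
          ← IsolatedPElement.orderOf_conj g b, pow_orderOf_eq_one]
      obtain ⟨j, -, hj⟩ := (Nat.dvd_prime_pow hBp).mp hdv
      exact ⟨j, hj⟩
    obtain ⟨j, hj⟩ := hyo
    obtain ⟨c, hcmem, -⟩ := exists_scalar φ hexp hinj hBp hsp hj (hline s y hBp hsp ⟨j, hj⟩)
    have h1 : c0 ∈ Eig φ y a := by
      have := Eig_mul φ (Eig_pow φ hc0 2) (hb'C c0 hc0)
      simpa [hy] using this
    have h2 : w0 ∈ Eig φ y (a * a) := by
      have := Eig_mul φ (Eig_pow φ hw0 2) (hb'I w0 hw0)
      simpa [hy, sq] using this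
    have e1 := value_eq φ hexp hcmem hc01 h1 ha
    have e2 := value_eq φ hexp hcmem hw01 h2 hne
    have h3 : (a : ZMod p) * a = (a : ZMod p) * 1 := by rw [mul_one, ← Nat.cast_mul, e2, e1]
    have ha0 : (a : ZMod p) ≠ 0 := by
      intro h0
      apply hw01
      apply (φ b).injective
      rw [(mem_Eig φ).mp hw0, pow_congr hexp (a := a) (b := 0) (by simpa using h0), pow_zero,
        map_one]
    exact ha (mul_left_cancel₀ ha0 h3)
  have ham : (a : ZMod p) = -1 := by
    rw [Nat.cast_mul] at hsq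
    exact (mul_self_eq_one_iff.mp hsq).resolve_left ha
  have hpowI : ∀ v : V, v ^ a = v⁻¹ := by
    intro v
    refine eq_inv_of_mul_eq_one_left ?_
    rw [← pow_succ, pow_congr hexp (a := a + 1) (b := 0) (by simp [ham]), pow_zero]
  have hp2 : p ≠ 2 := by
    intro h2
    subst h2
    exact ha (ham.trans (ZMod.neg_eq_self_mod_two (1 : ZMod 2)))
  have hs2 : s = 2 := by
    have hb2 : b ^ 2 = 1 := by
      apply hinj
      rw [map_one]
      apply MulEquiv.ext
      intro v
      obtain ⟨c, hc, w, hw, e, e'⟩ := hdiag (b ^ 2) (1 ^ 2) (a ^ 2)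
        (fun v hv => Eig_pow φ hv 2) (fun v hv => Eig_pow φ hv 2) v
      rw [e', pow_congr hexp (a := a ^ 2) (b := 1) (by rw [sq]; simpa using hsq), one_pow, pow_one,
        pow_one, e, MulAut.one_apply]
    have hd : s ∣ 2 := by
      have h1 : orderOf b ∣ 2 := orderOf_dvd_of_pow_eq_one hb2
      rcases Nat.eq_zero_or_pos i0 with h0 | h0
      · rw [h0, pow_zero] at hb
        exact absurd (orderOf_eq_one_iff.mp hb) hb1
      · exact (hb ▸ dvd_pow_self s h0.ne' : s ∣ orderOf b).trans h1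
    exact (Nat.prime_dvd_prime_iff_eq hBp Nat.prime_two).mp hd
  -- a `2`-element exchanging `C` and `I`
  have hodd : ∀ n : ℕ, (Even n → (∀ v ∈ C, φ (g ^ n) v ∈ C) ∧ (∀ v ∈ I, φ (g ^ n) v ∈ I)) ∧
      (Odd n → (∀ v ∈ C, φ (g ^ n) v ∈ I) ∧ (∀ v ∈ I, φ (g ^ n) v ∈ C)) := by
    intro n
    induction n with
    | zero => simp
    | succ n ih =>
      constructor
      · intro hev
        obtain ⟨h1, h2⟩ := ih.2 (by simpa [Nat.even_add_one] using hev)
        constructor <;> intro v hv <;> rw [pow_succ', map_mul, MulAut.mul_apply]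
        · exact hgI _ (h1 v hv)
        · exact hgC _ (h2 v hv)
      · intro hod
        obtain ⟨h1, h2⟩ := ih.1 (by simpa [Nat.odd_add_one] using hod)
        constructor <;> intro v hv <;> rw [pow_succ', map_mul, MulAut.mul_apply]
        · exact hgC _ (h1 v hv)
        · exact hgI _ (h2 v hv)
  set n := orderOf g / 2 ^ (orderOf g).factorization 2 with hn
  have hnodd : Odd n := by
    rw [← Nat.not_even_iff_odd, even_iff_two_dvd]
    exact Nat.not_dvd_ordCompl Nat.prime_two (orderOf_pos g).ne'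
  obtain ⟨hmC, hmI⟩ := (hodd n).2 hnodd
  obtain ⟨g2, hg2⟩ : ∃ g2 : M, g2 = g ^ n := ⟨_, rfl⟩
  rw [← hg2] at hmC hmI
  have hg2o : orderOf g2 = 2 ^ (orderOf g).factorization 2 := by
    rw [hg2, orderOf_pow_of_dvd (fun h0 => Nat.not_odd_zero (h0 ▸ hnodd)) (Nat.ordCompl_dvd _ 2),
      Nat.div_div_self (Nat.ordProj_dvd _ 2) (orderOf_pos g).ne']
  obtain ⟨c, hcmem, -⟩ := exists_scalar φ hexp hinj Nat.prime_two (Ne.symm hp2) hg2o
    (hline 2 g2 Nat.prime_two (Ne.symm hp2) ⟨_, hg2o⟩)
  have hinv : ∀ w ∈ C, φ g2 (φ g2 w) = w := by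
    intro w hw
    rcases eq_or_ne w 1 with rfl | hw1
    · simp
    set u := φ g2 w with hu
    have h1 : φ g2 (disp φ g2 w) = disp φ g2 w ^ c := hcmem w
    rw [disp_apply, ← hu, map_div, ← hu, div_pow, div_eq_div_iff_mul_eq_mul, ← pow_succ] at h1
    have huI := hmC w hw
    have h2 : φ g2 u * w ^ c = 1 :=
      hCI _ (mul_mem (hmI u huI) (pow_mem hw c)) (h1.symm ▸ pow_mem huI _)
    have h3 : u ^ (c + 1) = 1 := by rw [← h1, h2]
    have hu1 : u ≠ 1 := fun h => hw1 ((φ g2).injective (by rw [← hu, h, map_one]))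
    have hc1 : ((c + 1 : ℕ) : ZMod p) = (0 : ℕ) :=
      cast_eq_of_pow_eq hexp hu1 (by rw [h3, pow_zero])
    have h4 : w ^ (c + 1) = 1 := by rw [pow_congr hexp hc1, pow_zero]
    rw [pow_succ'] at h4
    exact mul_right_cancel (h2.trans h4.symm)
  obtain ⟨hsurI2, -⟩ := honto g2 hmC hmI
  obtain ⟨y, hy⟩ : ∃ y : M, y = b * g2 := ⟨_, rfl⟩
  have hyI : ∀ v ∈ I, φ y v = φ g2 v := by
    intro v hv
    rw [hy, map_mul, MulAut.mul_apply, (mem_Eig φ).mp (hmI v hv), pow_one]
  have hyC : ∀ v ∈ C, φ y v = (φ g2 v)⁻¹ := by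
    intro v hv
    rw [hy, map_mul, MulAut.mul_apply, (mem_Eig φ).mp (hmC v hv), hpowI]
  have hy2 : ∀ v : V, φ y (φ y v) = v⁻¹ := by
    intro v
    obtain ⟨c', hc', w, hw, rfl⟩ := hdec v
    obtain ⟨w', hw', rfl⟩ := hsurI2 w hw
    rw [map_mul, map_mul, hyC c' hc', hyI _ hw, map_inv, hyI _ (hmC c' hc'), hinv c' hc',
      hinv w' hw', hyC w' hw', mul_inv]
  have hy4 : y ^ 4 = 1 := by
    apply hinj
    rw [map_one]
    apply MulEquiv.ext
    intro v
    rw [map_pow]
    change (φ y) ((φ y) ((φ y) ((φ y) v))) = v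
    rw [hy2, hy2, inv_inv]
  have hyo : ∃ j, orderOf y = 2 ^ j := by
    obtain ⟨j, -, hj⟩ := (Nat.dvd_prime_pow Nat.prime_two).mp
      (orderOf_dvd_of_pow_eq_one hy4 : orderOf y ∣ 2 ^ 2)
    exact ⟨j, hj⟩
  obtain ⟨j, hj⟩ := hyo
  obtain ⟨d, hdmem, hd'⟩ := exists_scalar φ hexp hinj Nat.prime_two (Ne.symm hp2) hj
    (hline 2 y Nat.prime_two (Ne.symm hp2) ⟨j, hj⟩)
  -- `y` has no fixed points, so it is scalar
  have hfpf : Eig φ y 1 = ⊥ := by
    rw [eq_bot_iff]
    intro v hv
    rw [mem_Eig, pow_one] at hv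
    have h1 := hy2 v
    rw [hv, hv] at h1
    rw [mem_bot]
    by_contra hne
    have h2 : v ^ 2 = 1 := by rw [sq]; nth_rw 2 [h1]; exact mul_inv_cancel v
    have h3 := orderOf_eq_prime (hexp v) hne
    exact hp2 ((Nat.prime_dvd_prime_iff_eq hp.out Nat.prime_two).mp
      (h3 ▸ orderOf_dvd_of_pow_eq_one h2))
  have hyne : y ≠ 1 := by
    intro h
    obtain ⟨v, hv⟩ := exists_ne (1 : V)
    have hv' : v ∈ Eig φ y 1 := by simp [mem_Eig, h]
    rw [hfpf, mem_bot] at hv'
    exact hv hv'
  have htop2 := Eig_sup_eq_top φ hexp hdmem (hd' hyne)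
  rw [hfpf, bot_sup_eq] at htop2
  have h1 : c0 ∈ Eig φ y d := htop2 ▸ mem_top c0
  rw [mem_Eig, hyC c0 hc0] at h1
  have h2 : (φ g2 c0)⁻¹ = 1 := hCI _ (h1 ▸ pow_mem hc0 d) (inv_mem (hmC c0 hc0))
  exact hc01 ((φ g2).injective (by rw [map_one]; exact inv_eq_one.mp h2))

end action

/-- The hypothesis: for distinct primes `p`, `q`, a `p`-element and a conjugate of it by a
`q`-element generate a subgroup of order not divisible by `q ^ 2`. -/
def PairProp (G : Type u) [Group G] : Prop :=
  ∀ (p q : ℕ), p.Prime → q.Prime → p ≠ q → ∀ (x g : G), (∃ a : ℕ, orderOf x = p ^ a) →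
    (∃ b : ℕ, orderOf g = q ^ b) →
      ¬ q ^ 2 ∣ Nat.card ↥(zpowers x ⊔ zpowers (g * x * g⁻¹))

theorem pairProp_subgroup {G : Type u} [Group G] (h : PairProp G) (H : Subgroup G) :
    PairProp H := by
  intro p q hp hq hne x g hx hg
  have h1 := h p q hp hq hne (x : G) (g : G) (by simpa [orderOf_coe] using hx)
    (by simpa [orderOf_coe] using hg)
  rw [← card_map_of_injective H.subtype_injective]
  rw [Subgroup.map_sup, MonoidHom.map_zpowers, MonoidHom.map_zpowers]
  simpa using h1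

theorem pairProp_quotient {G : Type u} [Group G] [Finite G] (h : PairProp G) (N : Subgroup G)
    [N.Normal] : PairProp (G ⧸ N) := by
  intro p q hp hq hne x g hx hg
  obtain ⟨x0, rfl⟩ := QuotientGroup.mk'_surjective N x
  obtain ⟨g0, rfl⟩ := QuotientGroup.mk'_surjective N g
  obtain ⟨m, hm, hfm⟩ := OrderDSupersolvable.exists_primary_lift _ x0 hp hx
  obtain ⟨n, hn, hfn⟩ := OrderDSupersolvable.exists_primary_lift _ g0 hq hg
  intro hd
  apply h p q hp hq hne _ _ hm hn
  refine hd.trans ?_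
  have e : (zpowers (x0 ^ m) ⊔ zpowers (g0 ^ n * x0 ^ m * (g0 ^ n)⁻¹)).map (QuotientGroup.mk' N) =
      zpowers (QuotientGroup.mk' N x0) ⊔ zpowers (QuotientGroup.mk' N g0 * QuotientGroup.mk' N x0 *
        (QuotientGroup.mk' N g0)⁻¹) := by
    rw [Subgroup.map_sup, MonoidHom.map_zpowers, MonoidHom.map_zpowers, map_mul, map_mul, map_inv,
      hfm, hfn]
  rw [← e]
  exact card_map_dvd _ _

/-- A group all of whose proper subgroups and proper quotients are supersolvable is solvable. -/
theorem isSolvable_of_proper {G : Type u} [Group G] [Finite G] [Nontrivial G]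
    (hsub : ∀ H : Subgroup G, H ≠ ⊤ → Cfsg.IsSupersolvable H)
    (hquot : ∀ (N : Subgroup G) [N.Normal], N ≠ ⊥ → Cfsg.IsSupersolvable (G ⧸ N)) :
    Group.IsSolvable G := by
  have hc : Nat.card G ≠ 1 := Finite.one_lt_card.ne'
  set p := (Nat.card G).minFac with hp
  haveI : Fact p.Prime := ⟨Nat.minFac_prime hc⟩
  have hext : ∀ (N : Subgroup G) [N.Normal], N ≠ ⊥ → Group.IsSolvable N → Group.IsSolvable G := by
    intro N _ hN _
    haveI := Supersolvable.isSolvable (hquot N hN)
    exact Group.isSolvable_of_ker_le_range N.subtype (QuotientGroup.mk' N) (by simp)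
  by_cases hnp : Cfsg.HasNormalPComplement p G
  · have hK := TransferPResidual.hasNormalPComplement_iff_not_dvd.mp hnp
    set K := Cfsg.pResidual p G with hKdef
    by_cases hbot : K = ⊥
    · have hnil := (TransferPResidual.pResidual_eq_bot_iff.mp hbot : IsPGroup p G).isNilpotent
      exact @IsNilpotent.to_isSolvable G _ hnil
    · refine hext K hbot (Supersolvable.isSolvable (hsub K fun e => hK ?_))
      rw [e, card_top]
      exact Nat.minFac_dvd _
  · obtain ⟨P⟩ : Nonempty (Sylow p G) := inferInstance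
    by_contra hns
    apply hnp
    refine TransferAlperin.hasNormalPComplement_of_local P fun T hT _ _ _ g hg hcop => ?_
    rcases eq_or_ne T ⊥ with rfl | hne
    · rw [mem_centralizer_iff]
      intro t ht
      rw [mem_bot.mp ht, one_mul, mul_one]
    have hTp : IsPGroup p T := P.isPGroup'.to_le hT
    by_cases htop : normalizer (T : Set G) = ⊤
    · haveI := normalizer_eq_top_iff.mp htop
      exact absurd (hext T hne (CoprimeAction.isSolvable_of_isPGroup hTp)) hns
    set X := normalizer (T : Set G) with hX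
    haveI : (T.subgroupOf X).Normal := normal_subgroupOf_of_le_normalizer le_rfl
    have hcop1 : (p - 1).Coprime (orderOf g) := by
      refine Nat.coprime_of_dvd fun q hq h1 h2 => ?_
      have := Nat.minFac_le_of_dvd hq.two_le (h2.trans (orderOf_dvd_natCard g))
      have h3 : 0 < p - 1 := by have := (Fact.out : p.Prime).two_le; omega
      have := Nat.le_of_dvd h3 h1
      omega
    obtain ⟨m, hm⟩ := exists_pow_eq_self_of_coprime hcop1
    rw [← pow_mul, mul_comm, pow_mul] at hm
    rw [mem_centralizer_iff]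
    intro t ht
    have h1 := Supersolvable.commute_of_coprime (hsub X htop) p (T.subgroupOf X)
      (hTp.comap_subtype) ⟨g, hg⟩ (by rwa [orderOf_mk])
      (Or.inr ⟨⟨g, hg⟩ ^ m, Subtype.ext (by simpa using hm.symm)⟩) ⟨t, le_normalizer ht⟩
      (mem_subgroupOf.mpr ht)
    exact (congrArg Subtype.val h1).symm

/-- **The criterion.** -/
theorem supersolvable {G : Type u} [Group G] [Finite G] (h : PairProp G) :
    Cfsg.IsSupersolvable G := by
  suffices ∀ (n : ℕ) (X : Type u) [Group X] [Finite X], Nat.card X = n → PairProp X →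
      Cfsg.IsSupersolvable X from this _ G rfl h
  intro n
  induction n using Nat.strong_induction_on with
  | _ n ih =>
    intro X _ _ hn hX
    rcases subsingleton_or_nontrivial X with hs | hnt
    · exact Supersolvable.of_subsingleton
    have hsub : ∀ H : Subgroup X, H ≠ ⊤ → Cfsg.IsSupersolvable H := fun H hH =>
      ih _ (hn ▸ lt_of_le_of_ne (card_le_card_group H) fun e =>
        hH (eq_top_of_card_eq H e)) H rfl (pairProp_subgroup hX H)
    have hquot : ∀ (N : Subgroup X) [N.Normal], N ≠ ⊥ → Cfsg.IsSupersolvable (X ⧸ N) :=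
      fun N _ hN => ih _ (hn ▸ Supersolvable.card_quotient_lt N hN) (X ⧸ N) rfl
        (pairProp_quotient hX N)
    haveI hsol := isSolvable_of_proper hsub hquot
    classical
    -- a minimal normal subgroup
    have hex : ∃ c, ∃ N : Subgroup X, N.Normal ∧ N ≠ ⊥ ∧ Nat.card N = c :=
      ⟨_, ⊤, inferInstance, top_ne_bot, rfl⟩
    obtain ⟨N, hNn, hNne, hNc⟩ := Nat.find_spec hex
    haveI := hNn
    have hmin : ∀ K : Subgroup X, K.Normal → K ≤ N → K ≠ ⊥ → K = N := fun K hK hle hne =>
      eq_of_le_of_card_ge hle (hNc ▸ Nat.find_le ⟨K, hK, hne, rfl⟩)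
    have hab : ∀ a ∈ N, ∀ b ∈ N, a * b = b * a := by
      have hlt : ⁅N, N⁆ = ⊥ := by
        by_contra hne
        have heq := hmin ⁅N, N⁆ (commutator_normal N N) (commutator_le_self N) hne
        haveI : Nontrivial N := (nontrivial_iff_ne_bot N).mpr hNne
        have h1 := Group.IsSolvable.commutator_lt_top_of_nontrivial (G := N)
        have h2 := congrArg (Subgroup.map N.subtype) (eq_top_iff.mpr (le_refl (⊤ : Subgroup N)))
        apply h1.ne
        apply map_injective N.subtype_injective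
        rw [map_subtype_commutator, heq, ← MonoidHom.range_eq_map, range_subtype]
      intro a ha b hb
      have h1 := commutator_mem_commutator ha hb
      rw [hlt, mem_bot] at h1
      exact commutatorElement_eq_one_iff_mul_comm.mp h1
    set p := (Nat.card N).minFac with hp
    haveI hpf : Fact p.Prime := ⟨Nat.minFac_prime fun h1 => hNne (eq_bot_of_card_eq _ h1)⟩
    let Ω : Subgroup X :=
      { carrier := {x | x ∈ N ∧ x ^ p = 1}
        one_mem' := ⟨one_mem _, one_pow p⟩
        mul_mem' := fun {a b} ha hb => ⟨mul_mem ha.1 hb.1, by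
          rw [(show Commute a b from hab a ha.1 b hb.1).mul_pow, ha.2, hb.2, one_mul]⟩
        inv_mem' := fun {a} ha => ⟨inv_mem ha.1, by rw [inv_pow, ha.2, inv_one]⟩ }
    have hΩ : Ω = N := by
      refine hmin Ω ⟨fun x hx g => ⟨Normal.conj_mem inferInstance x hx.1 g, ?_⟩⟩ (fun x hx => hx.1) ?_
      · rw [conj_pow, hx.2, mul_one, mul_inv_cancel]
      · intro hbot
        obtain ⟨x, hxo⟩ := exists_prime_orderOf_dvd_card' (G := N) p (Nat.minFac_dvd _)
        have h1 : (x : X) ∈ Ω := ⟨x.2, by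
          rw [← orderOf_dvd_iff_pow_eq_one, orderOf_coe, hxo]⟩
        rw [hbot, mem_bot] at h1
        rw [← orderOf_coe, h1, orderOf_one] at hxo
        exact hpf.out.one_lt.ne hxo
    have hexpG : ∀ x ∈ N, x ^ p = 1 := fun x hx => (hΩ.symm ▸ hx : x ∈ Ω).2
    by_cases hfr : N ≤ frattini X
    · exact SupersolvableCriteria.of_quotient_le_frattini N hfr (hquot N hNne)
    obtain ⟨L, hL, hNL⟩ : ∃ L : Subgroup X, IsCoatom L ∧ ¬ N ≤ L := by
      by_contra hall
      push Not at hall
      exact hfr fun x hx => OrderDSubgroups.mem_frattini_of_forall fun L hL => hall L hL hx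
    have hsup : N ⊔ L = ⊤ := hL.2 _ (lt_of_le_of_ne le_sup_right fun e => hNL (e ▸ le_sup_left))
    have hNnorm : ∀ K : Subgroup X, (∀ n ∈ N, ∀ k ∈ K, n * k * n⁻¹ ∈ K) →
        (∀ l ∈ L, ∀ k ∈ K, l * k * l⁻¹ ∈ K) → K.Normal := by
      intro K h1 h2
      rw [← normalizer_eq_top_iff, eq_top_iff, ← hsup]
      exact sup_le (fun n hn' => OrderDSubgroups.mem_normalizer_of_forall (h1 n hn'))
        (fun l hl => OrderDSubgroups.mem_normalizer_of_forall (h2 l hl))
    -- the kernel of the action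
    set K0 := centralizer (N : Set X) ⊓ L with hK0
    have hK0n : K0.Normal := by
      refine hNnorm K0 (fun x hx k hk => ?_) (fun l hl k hk => mem_inf.mpr ⟨?_, ?_⟩)
      · rw [mem_centralizer_iff.mp (mem_inf.mp hk).1 x hx, mul_inv_cancel_right]
        exact hk
      · exact (inferInstance : (centralizer (N : Set X)).Normal).conj_mem _ (mem_inf.mp hk).1 l
      · exact mul_mem (mul_mem hl (mem_inf.mp hk).2) (inv_mem hl)
    have hNLbot : N ⊓ L = ⊥ := by
      by_contra hne
      have h1 : (N ⊓ L).Normal := by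
        refine hNnorm _ (fun x hx k hk => ?_) (fun l hl k hk => mem_inf.mpr ⟨?_, ?_⟩)
        · rw [hab x hx k (mem_inf.mp hk).1, mul_inv_cancel_right]
          exact hk
        · exact hNn.conj_mem _ (mem_inf.mp hk).1 l
        · exact mul_mem (mul_mem hl (mem_inf.mp hk).2) (inv_mem hl)
      exact hNL ((hmin _ h1 inf_le_left hne).symm.le.trans inf_le_right)
    by_cases hK : K0 = ⊥
    swap
    · haveI := hK0n
      refine Supersolvable.of_injective
        ((QuotientGroup.mk' K0).prod (QuotientGroup.mk' N)) ?_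
        (Supersolvable.prod (hquot K0 hK) (hquot N hNne))
      rw [← MonoidHom.ker_eq_bot_iff, MonoidHom.ker_prod, QuotientGroup.ker_mk',
        QuotientGroup.ker_mk', eq_bot_iff, ← hNLbot, hK0]
      exact le_inf inf_le_right (inf_le_left.trans inf_le_right)
    refine Supersolvable.of_prime_normal N ?_ (hquot N hNne)
    letI : CommGroup N :=
      { (inferInstance : Group N) with mul_comm := fun a b => Subtype.ext (hab a a.2 b b.2) }
    haveI : Nontrivial N := (nontrivial_iff_ne_bot N).mpr hNne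
    set φ : L →* MulAut N := (MulAut.conjNormal (G := X) (H := N)).comp L.subtype with hφ
    have hφv : ∀ (l : L) (v : N), ((φ l v : N) : X) = (l : X) * v * (l : X)⁻¹ := fun l v => rfl
    have hinj : Function.Injective φ := by
      rw [← MonoidHom.ker_eq_bot_iff, eq_bot_iff]
      intro l hl
      have h1 : (l : X) ∈ K0 := by
        refine mem_inf.mpr ⟨mem_centralizer_iff.mpr fun v hv => ?_, l.2⟩
        have h2 := congrArg Subtype.val (DFunLike.congr_fun (MonoidHom.mem_ker.mp hl) ⟨v, hv⟩)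
        rw [hφv] at h2
        exact (mul_inv_eq_iff_eq_mul.mp h2).symm
      rw [hK, mem_bot] at h1
      exact mem_bot.mpr (Subtype.ext h1)
    have hLtop : L ≠ ⊤ := hL.1
    refine (card_eq_prime φ hinj (fun v => Subtype.ext (by simpa using hexpG v v.2)) ?_ ?_
      (hsub L hLtop)).symm ▸ hpf.out
    · intro K hKinv
      have h1 : (K.map N.subtype).Normal := by
        refine hNnorm _ (fun x hx k hk => ?_) (fun l hl k hk => ?_)
        · rw [hab x hx k (map_subtype_le _ hk), mul_inv_cancel_right]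
          exact hk
        · obtain ⟨v, hv, rfl⟩ := mem_map.mp hk
          exact mem_map.mpr ⟨φ ⟨l, hl⟩ v, hKinv _ v hv, hφv _ _⟩
      by_cases hb : K = ⊥
      · exact Or.inl hb
      · refine Or.inr (map_injective N.subtype_injective ?_)
        rw [hmin _ h1 (map_subtype_le K) fun e => hb ((map_eq_bot_iff_of_injective _
          N.subtype_injective).mp e), ← MonoidHom.range_eq_map, range_subtype]
    · intro q y hq hqp hy v
      set c := disp φ y v with hc
      have hcX : (c : X) = (y : X) * ((v : X) * (y : X) * (v : X)⁻¹)⁻¹ := by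
        rw [hc, disp_apply, div_eq_mul_inv, coe_mul, coe_inv, hφv]
        group
      have hvo : ∃ e, orderOf (v : X) = p ^ e := by
        obtain ⟨e, -, he⟩ := (Nat.dvd_prime_pow hpf.out).mp
          (orderOf_dvd_of_pow_eq_one (hexpG v v.2) |>.trans (pow_one p).symm.dvd)
        exact ⟨e, he⟩
      have hnd := hX q p hq hpf.out hqp (y : X) (v : X) (by simpa [orderOf_coe] using hy) hvo
      set H := zpowers (y : X) ⊔ zpowers ((v : X) * (y : X) * (v : X)⁻¹) with hH
      have h1 : (c : X) ∈ H := hcX ▸ mul_mem (mem_sup_left (mem_zpowers _))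
        (inv_mem (mem_sup_right (mem_zpowers _)))
      have h2 : ((φ y c : N) : X) ∈ H := by
        rw [hφv]
        exact mul_mem (mul_mem (mem_sup_left (mem_zpowers _)) h1)
          (inv_mem (mem_sup_left (mem_zpowers _)))
      set Y := zpowers c ⊔ zpowers (φ y c) with hY
      have hYH : Nat.card Y ∣ Nat.card H := by
        rw [← card_map_of_injective (f := N.subtype) N.subtype_injective]
        refine card_dvd_of_le ?_
        rw [hY, Subgroup.map_sup, MonoidHom.map_zpowers, MonoidHom.map_zpowers]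
        exact sup_le ((zpowers_le).mpr h1) ((zpowers_le).mpr h2)
      obtain ⟨j, hj⟩ : ∃ j, Nat.card Y = p ^ j := by
        refine IsPGroup.exists_card_eq (p := p) (G := Y) fun w => ⟨1, ?_⟩
        refine Subtype.ext (Subtype.ext ?_)
        simpa using hexpG _ (w : N).2
      have hj1 : j ≤ 1 := by
        by_contra hlt
        apply hnd
        exact (pow_dvd_pow p (by omega : 2 ≤ j)).trans (hj ▸ hYH)
      rcases eq_or_ne c 1 with hc1 | hc1
      · rw [hc1, map_one]
        exact one_mem _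
      have hle : zpowers c ≤ Y := le_sup_left
      have hYc : zpowers c = Y := by
        refine eq_of_le_of_card_ge hle ?_
        rw [hj, Nat.card_zpowers, orderOf_eq_prime (Subtype.ext (by simpa using hexpG c c.2)) hc1]
        exact (Nat.pow_le_pow_right hpf.out.pos hj1).trans (pow_one p).le
      rw [hYc]
      exact mem_sup_right (mem_zpowers _)

end Cfsg.Agent.SupersolvablePairs
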