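import Cfsg.Agent.Lib.SuzRankThree84Base

/-!
Certificates for orbits and orders of subgroups of Suz given by words, in the action on 1782 points.
-/

set_option autoImplicit false
set_option maxRecDepth 100000

namespace Cfsg.Agent.SuzInvol76

open Cfsg.Agent.CosetCertCore Cfsg.Agent.CosetCertTable
open Cfsg.Agent.SuzRankThree84

/-- The word of a list of indices of listed words. -/
def wd (S : List (List Nat)) (ix : List Nat) : List Nat := (ix.map fun i => S.getD i []).flatten

/-- The subgroup generated by listed words. -/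
noncomputable def cl (S : List (List Nat)) : Subgroup (Equiv.Perm Pt) :=
  Subgroup.closure {g | ∃ w ∈ S, g = el w}

/-- All letters are generators. -/
def okS (S : List (List Nat)) : Bool := S.all ok7

/-- A number determining an element. -/
noncomputable def code (w : List Nat) : Nat :=
  force (app w 0) fun o => force (app w 562) fun a => force (app w 499) fun b =>
  force (app w 1308) fun c => force (app w 1167) fun d =>
    o + 2048 * (a + 2048 * (b + 2048 * (c + 2048 * d)))

/-- No repetitions. -/
noncomputable def nd : List Nat → Bool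
  | [] => true
  | x :: l => l.all (fun y => !Nat.beq y x) && nd l

theorem nd_iff {l : List Nat} (h : nd l = true) : l.Nodup := by
  induction l with
  | nil => exact List.nodup_nil
  | cons x l ih =>
    simp only [nd, Bool.and_eq_true, List.all_eq_true, Bool.not_eq_true'] at h
    refine List.nodup_cons.mpr ⟨fun hx => ?_, ih h.2⟩
    have := h.1 x hx
    simp at this

theorem el_eq_of_code {u v : List Nat} (hu : ok7 u = true) (hv : ok7 v = true)
    (h : code u = code v) : el u = el v := by
  simp only [code, force_eq] at h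
  have := app_lt hu (i := 0) (by norm_num)
  have := app_lt hu (i := 562) (by norm_num)
  have := app_lt hu (i := 499) (by norm_num)
  have := app_lt hu (i := 1308) (by norm_num)
  have := app_lt hu (i := 1167) (by norm_num)
  have := app_lt hv (i := 0) (by norm_num)
  have := app_lt hv (i := 562) (by norm_num)
  have := app_lt hv (i := 499) (by norm_num)
  have := app_lt hv (i := 1308) (by norm_num)
  have := app_lt hv (i := 1167) (by norm_num)
  have key : app u 0 = app v 0 ∧ app u 562 = app v 562 ∧ app u 499 = app v 499 ∧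
      app u 1308 = app v 1308 ∧ app u 1167 = app v 1167 := by omega
  obtain ⟨e0, e1, e2, e3, e4⟩ := key
  have hone : (el v)⁻¹ * el u = 1 := by
    refine aut_eq_one (SUZ_le (mul_mem (inv_mem (el_mem_SUZ v)) (el_mem_SUZ u))) fun k hk => ?_
    rw [Equiv.Perm.mul_apply, Equiv.Perm.inv_eq_iff_eq]
    simp only [List.mem_cons, List.not_mem_nil, or_false] at hk
    rcases hk with hk | hk | hk | hk | hk <;>
      exact Fin.ext (by rw [el_app hu, el_app hv, hk]; assumption)
  exact (inv_mul_eq_one.mp hone).symm

theorem code_congr {u v : List Nat} (hu : ok7 u = true) (hv : ok7 v = true) (h : el u = el v) :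
    code u = code v := by
  have key : ∀ i, i < 1782 → app u i = app v i := fun i hi => by
    show app u ((pt i hi : Pt) : Nat) = app v ((pt i hi : Pt) : Nat)
    rw [← el_app hu, h, el_app hv]
  simp only [code, force_eq, key 0 (by norm_num), key 562 (by norm_num), key 499 (by norm_num),
    key 1308 (by norm_num), key 1167 (by norm_num)]

theorem ok7_append {u v : List Nat} (hu : ok7 u = true) (hv : ok7 v = true) :
    ok7 (u ++ v) = true := by
  simp only [ok7, List.all_append, Bool.and_eq_true] at *
  exact ⟨hu, hv⟩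

theorem ok7_wd {S : List (List Nat)} (hS : okS S = true) (ix : List Nat) : ok7 (wd S ix) = true := by
  induction ix with
  | nil => rfl
  | cons i l ih =>
    show ok7 (S.getD i [] ++ wd S l) = true
    refine ok7_append ?_ ih
    by_cases hi : i < S.length
    · rw [List.getD_eq_getElem _ _ hi]
      exact List.all_eq_true.mp hS _ (List.getElem_mem hi)
    · rw [List.getD_eq_default _ _ (Nat.le_of_not_lt hi)]
      rfl

theorem el_mem_cl {S : List (List Nat)} {w : List Nat} (h : w ∈ S) : el w ∈ cl S :=
  Subgroup.subset_closure ⟨w, h, rfl⟩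

theorem el_wd_mem (S : List (List Nat)) (ix : List Nat) : el (wd S ix) ∈ cl S := by
  induction ix with
  | nil => rw [show wd S [] = [] from rfl, el_nil]; exact one_mem _
  | cons i l ih =>
    rw [show wd S (i :: l) = S.getD i [] ++ wd S l from rfl, el_append]
    refine mul_mem ?_ ih
    by_cases hi : i < S.length
    · rw [List.getD_eq_getElem _ _ hi]
      exact el_mem_cl (List.getElem_mem hi)
    · rw [List.getD_eq_default _ _ (Nat.le_of_not_lt hi), el_nil]
      exact one_mem _

theorem cl_le {S : List (List Nat)} {K : Subgroup (Equiv.Perm Pt)} (h : ∀ w ∈ S, el w ∈ K) :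
    cl S ≤ K := (Subgroup.closure_le K).mpr (by rintro _ ⟨w, hw, rfl⟩; exact h w hw)

theorem cl_mono {S S' : List (List Nat)} (h : S'.all (fun w => S.contains w) = true) :
    cl S' ≤ cl S :=
  cl_le fun w hw => el_mem_cl (List.contains_iff_mem.mp (List.all_eq_true.mp h w hw))

theorem cl_le_SUZ (S : List (List Nat)) : cl S ≤ SUZ := cl_le fun w _ => el_mem_SUZ w

/-- The listed words fix the listed points. -/
noncomputable def fixB (S : List (List Nat)) (pre : List Nat) : Bool :=
  S.all fun w => ok7 w && pre.all fun p => Nat.blt p 1782 && Nat.beq (app w p) p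

theorem cl_fix {S : List (List Nat)} {pre : List Nat} (h : fixB S pre = true)
    {g : Equiv.Perm Pt} (hg : g ∈ cl S) {p : Nat} (hp : p ∈ pre) (hp' : p < 1782) :
    g (pt p hp') = pt p hp' := by
  refine MulAction.mem_stabilizer_iff.mp (cl_le (K := MulAction.stabilizer _ (pt p hp')) ?_ hg)
  intro w hw
  have h1 := List.all_eq_true.mp h w hw
  simp only [Bool.and_eq_true, List.all_eq_true, Nat.beq_eq, Nat.blt_eq] at h1
  exact Fin.ext (by
    show ((el w (pt p hp') : Pt) : Nat) = p
    rw [el_app h1.1]; exact (h1.2 p hp).2)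

/-- An orbit given by a transversal. -/
noncomputable def orbOK (S : List (List Nat)) (b : Nat) (T : List (List Nat)) : Bool :=
  force b fun b => Nat.blt b 1782 && okS S &&
    let pts := T.map fun ix => app (wd S ix) b
    pts.contains b && nd pts && pts.all fun p => S.all fun w => pts.contains (app w p)

variable {S S' : List (List Nat)} {b : Nat} {T : List (List Nat)}

theorem orbOK_spec (h : orbOK S b T = true) : ∃ hb : b < 1782, okS S = true ∧
    (MulAction.orbit (cl S) (pt b hb)).ncard = T.length := by
  simp only [orbOK, force_eq, Bool.and_eq_true, Nat.blt_eq] at h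
  obtain ⟨⟨hb, hS⟩, ⟨hcb, hnd⟩, hcl⟩ := h
  refine ⟨hb, hS, ?_⟩
  set pts := T.map fun ix => app (wd S ix) b with hpts
  have hmemlt : ∀ p ∈ pts, p < 1782 := by
    intro p hp
    obtain ⟨ix, -, rfl⟩ := List.mem_map.mp hp
    exact app_lt (ok7_wd hS ix) hb
  have horb : ∀ x : Pt, x ∈ MulAction.orbit (cl S) (pt b hb) ↔ (x : Nat) ∈ pts := by
    intro x
    constructor
    · rintro ⟨⟨g, hg⟩, rfl⟩
      show ((g (pt b hb) : Pt) : Nat) ∈ pts
      induction hg using Subgroup.closure_induction_left with
      | one => exact List.contains_iff_mem.mp hcb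
      | mul_left w hw y _ ih =>
        obtain ⟨w, hwS, rfl⟩ := hw
        rw [Equiv.Perm.mul_apply, el_app (List.all_eq_true.mp hS w hwS)]
        exact List.contains_iff_mem.mp (List.all_eq_true.mp (List.all_eq_true.mp hcl _ ih) w hwS)
      | inv_mul_cancel w hw y _ ih =>
        obtain ⟨w, hwS, rfl⟩ := hw
        have hok := List.all_eq_true.mp hS w hwS
        have hst : Set.MapsTo (el w) {q : Pt | (q : Nat) ∈ pts} {q : Pt | (q : Nat) ∈ pts} :=
          fun q hq => by
            show ((el w q : Pt) : Nat) ∈ pts
            rw [el_app hok]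
            exact List.contains_iff_mem.mp
              (List.all_eq_true.mp (List.all_eq_true.mp hcl _ hq) w hwS)
        have hbij : Set.SurjOn (el w) {q : Pt | (q : Nat) ∈ pts} {q : Pt | (q : Nat) ∈ pts} :=
          (((Set.toFinite _).injOn_iff_bijOn_of_mapsTo hst).mp (el w).injective.injOn).surjOn
        obtain ⟨q, hq, hqe⟩ := hbij ih
        rw [Equiv.Perm.mul_apply, show (el w)⁻¹ (y (pt b hb)) = q by
          rw [Equiv.Perm.inv_eq_iff_eq, hqe]]
        exact hq
    · intro hx
      obtain ⟨ix, hix, hxe⟩ := List.mem_map.mp hx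
      exact ⟨⟨el (wd S ix), el_wd_mem S ix⟩,
        Fin.ext (by show ((el (wd S ix) (pt b hb) : Pt) : Nat) = _; rw [el_app (ok7_wd hS ix)]; exact hxe)⟩
  have himg : (Fin.val '' MulAction.orbit (cl S) (pt b hb)) = ↑pts.toFinset := by
    ext p
    simp only [Set.mem_image, List.coe_toFinset, Set.mem_ofPred_eq]
    exact ⟨fun ⟨x, hx, e⟩ => e ▸ (horb x).mp hx,
      fun hp => ⟨pt p (hmemlt p hp), (horb _).mpr hp, rfl⟩⟩
  rw [← Set.ncard_image_of_injective _ Fin.val_injective, himg, Set.ncard_coe_finset,
    List.toFinset_card_of_nodup (nd_iff hnd), hpts, List.length_map]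

/-- A stage of a chain. -/
noncomputable def stageB (S S' : List (List Nat)) (b : Nat) (T : List (List Nat)) : Bool :=
  orbOK S b T && (S'.all fun w => S.contains w) && fixB S' [b]

theorem stage_dvd (h : stageB S S' b T = true) :
    T.length * Nat.card (cl S') ∣ Nat.card (cl S) := by
  simp only [stageB, Bool.and_eq_true] at h
  obtain ⟨⟨ho, hsub⟩, hfix⟩ := h
  obtain ⟨hb, -, hcard⟩ := orbOK_spec ho
  rw [← Subgroup.index_mul_card (MulAction.stabilizer (cl S) (pt b hb)),
    MulAction.index_stabilizer, hcard]
  refine Nat.mul_dvd_mul_left _ ?_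
  refine dvd_trans (dvd_of_eq ?_) (Subgroup.card_dvd_of_injective
    ((Subgroup.inclusion (cl_mono hsub)).codRestrict (MulAction.stabilizer (cl S) (pt b hb))
      fun g => cl_fix hfix g.2 List.mem_cons_self hb)
    fun x y e => Subgroup.inclusion_injective (cl_mono hsub) (congrArg Subtype.val e))
  rfl

/-- The products of a generator and a transversal element are sifted. -/
noncomputable def siftB (S S' : List (List Nat)) (T : List (List Nat))
    (D : List (Nat × List Nat)) : Bool :=
  okS S && okS S' && T.contains [] && Nat.beq D.length (T.length * S.length) &&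
    allFrom (fun i => allFrom (fun j =>
      force (D.getD (i * S.length + j) (0, [])).1 fun k =>
      Nat.blt k T.length &&
      Nat.beq (code (S.getD j [] ++ wd S (T.getD i [])))
        (code (wd S (T.getD k []) ++ wd S' (D.getD (i * S.length + j) (0, [])).2)))
      S.length 0) T.length 0

theorem stage_le {D : List (Nat × List Nat)} (h : siftB S S' T D = true) :
    Nat.card (cl S) ≤ T.length * Nat.card (cl S') := by
  simp only [siftB, Bool.and_eq_true] at h
  obtain ⟨⟨⟨⟨hS, hS'⟩, hnil⟩, -⟩, hall⟩ := h
  set P : Set (Equiv.Perm Pt) := {g | ∃ i < T.length, ∃ k ∈ cl S', g = el (wd S (T.getD i [])) * k}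
    with hP
  have hstep : ∀ w ∈ S, ∀ g ∈ P, el w * g ∈ P := by
    rintro w hw _ ⟨i, hi, k, hk, rfl⟩
    obtain ⟨j, hj, rfl⟩ := List.mem_iff_getElem.mp hw
    have h1 := (allFrom_iff _ _ _).mp ((allFrom_iff _ _ _).mp hall i (Nat.zero_le _) (by simpa using hi))
      j (Nat.zero_le _) (by simpa using hj)
    simp only [force_eq, Bool.and_eq_true, Nat.blt_eq, Nat.beq_eq] at h1
    obtain ⟨hkT, hcode⟩ := h1
    rw [List.getD_eq_getElem S [] hj] at hcode
    have he := el_eq_of_code (ok7_append (List.all_eq_true.mp hS _ (List.getElem_mem hj))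
      (ok7_wd hS _)) (ok7_append (ok7_wd hS _) (ok7_wd hS' _)) hcode
    refine ⟨_, hkT, el (wd S' (D.getD (i * S.length + j) (0, [])).2) * k,
      mul_mem (el_wd_mem S' _) hk, ?_⟩
    rw [← mul_assoc, ← el_append, he, el_append, mul_assoc]
  have hone : (1 : Equiv.Perm Pt) ∈ P := by
    obtain ⟨i, hi, he⟩ := List.mem_iff_getElem.mp (List.contains_iff_mem.mp hnil)
    exact ⟨i, hi, 1, one_mem _, by
      rw [List.getD_eq_getElem _ _ hi, he, show wd S [] = [] from rfl, el_nil, mul_one]⟩
  have hle : (cl S : Set (Equiv.Perm Pt)) ⊆ P := by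
    intro g hg
    induction hg using Subgroup.closure_induction_left with
    | one => exact hone
    | mul_left w hw y _ ih => obtain ⟨w, hwS, rfl⟩ := hw; exact hstep w hwS y ih
    | inv_mul_cancel w hw y _ ih =>
      obtain ⟨w, hwS, rfl⟩ := hw
      have hst : Set.MapsTo (el w * ·) P P := fun q hq => hstep w hwS q hq
      obtain ⟨q, hq, hqe⟩ := (((Set.toFinite P).injOn_iff_bijOn_of_mapsTo hst).mp
        (mul_right_injective (el w)).injOn).surjOn ih
      rw [show (el w)⁻¹ * y = q by rw [← hqe, inv_mul_cancel_left]]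
      exact hq
  let f : Fin T.length × cl S' → Equiv.Perm Pt := fun p => el (wd S (T.getD p.1 [])) * p.2
  calc Nat.card (cl S) = (cl S : Set (Equiv.Perm Pt)).ncard := rfl
    _ ≤ (Set.range f).ncard := Set.ncard_le_ncard (fun g hg => by
        obtain ⟨i, hi, k, hk, rfl⟩ := hle hg
        exact ⟨(⟨i, hi⟩, ⟨k, hk⟩), rfl⟩) (Set.toFinite _)
    _ ≤ Nat.card (Fin T.length × cl S') := by
        rw [← Nat.card_coe_set_eq]; exact Finite.card_range_le f
    _ = _ := by rw [Nat.card_prod, Nat.card_fin]

theorem cl_nil : Nat.card (cl []) = 1 := by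
  rw [show cl [] = ⊥ by simp [cl]]
  exact Subgroup.card_bot

end Cfsg.Agent.SuzInvol76
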