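import Mathlib

/-!
Words in the seven generators of Suz used in the study of its involution centralisers.
The data only feeds a checker; nothing here is assumed.
-/

set_option autoImplicit false
set_option maxRecDepth 100000

namespace Cfsg.Agent.SuzInvol76Data

/-- Generators of stage 0 of the centraliser of the first letter -/
def caGen0 : List (List Nat) :=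
  [[0],[2],[3],[4],[5],[6],[1,2,5,1,0,1,5,2,1],[1,2,6,1,0,1,6,2,1],[1,0,1,0,2,1,3,2,3,1,0,1,2,0,1],[1,0,2,1,0,1,3,2,3,1,2,0,1,0,1,3,4,1,0,1,0,2,1,3,2,3,1,0,1,2,0,2,5,1,0,1,5,2,1,3,1,2,5,1,0,1,5,2,1],[4,1,0,2,1,0,1,3,2,3,1,2,0,1,0,1,3,4,3,1,2,5,1,0,1,5,2,0,1,0,2,1,3,2,3,1,0,1,2,0,1,4,3,1,2,5,1,0,1,5,2,1],[1,2,5,1,0,1,5,2,1,3,4,1,0,2,1,0,1,3,2,3,1,2,0,1,0,2,5,1,0,1,5,2,1,3,4,3,1,0,1,0,2,1,3,2,3,1,0,1,2,0,1,4,1,0,2,1,0,1,3,2,3,1,2,0,1,0,1,3,4,1,0,1,0,2,1,3,2,3,1,0,1,2,0,2,5,1,0,1,5,2,1,3,1,2,5,1,0,1,5,2,0,2,1,0,1,3,2,3,1,2,0,1,0,1,3,4,1,0,1,0,2,1,3,2,3,1,0,1,2,0,2,5,1,0,1,5,2,1,3,1,2,5,1,0,1,5,2,1],[1,2,5,1,0,1,5,2,1,3,4,1,0,2,1,0,1,3,2,3,1,2,0,1,0,2,5,1,0,1,5,2,1,3,4,3,1,0,1,0,2,1,3,2,3,1,0,1,2,0,1,4,1,0,2,1,0,1,3,2,3,1,2,0,1,0,1,3,4,1,0,1,0,2,1,3,2,3,1,0,1,2,0,2,5,1,0,1,5,2,1,3,1,2,5,1,0,1,5,2,0,2,1,0,1,3,2,3,1,2,0,1,0,1,3,4,1,0,1,0,2,1,3,2,3,1,0,1,2,0,2,5,1,0,1,5,2,1,3,1,2,5,1,0,1,5,2,1,3]]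

/-- Transversal of stage 0 -/
def caIx0 : List (List Nat) :=
  [[],[5],[7],[7,5],[2,7],[9,7],[10,7],[12,7],[2,7,5],[12,7,5],[3,2,7],[6,2,7],[7,2,7],[10,2,7],[6,9,7],[7,9,7],[8,9,7],[10,9,7],[12,9,7],[2,10,7],[6,10,7],[7,10,7],[8,10,7],[7,12,7],[3,2,7,5],[6,2,7,5],[7,2,7,5],[7,12,7,5],[7,3,2,7],[7,6,2,7],[6,7,2,7],[9,7,2,7],[10,7,2,7],[11,7,2,7],[12,7,2,7],[7,10,2,7],[7,6,9,7],[6,7,9,7],[8,7,9,7],[10,7,9,7],[12,7,9,7],[7,2,10,7],[8,7,10,7],[9,7,10,7],[10,7,10,7],[12,7,10,7],[2,7,12,7],[12,7,12,7],[2,7,12,7,5],[12,7,12,7,5],[10,7,3,2,7],[3,11,7,2,7],[3,12,7,2,7],[9,7,2,10,7]]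

/-- Generators of stage 1 of the centraliser of the first letter -/
def caGen1 : List (List Nat) :=
  [[3],[4],[1,2,5,1,0,1,5,2,1],[1,0,1,0,2,1,3,2,3,1,0,1,2,0,1],[1,0,2,1,0,1,3,2,3,1,2,0,1,0,1,3,4,1,0,1,0,2,1,3,2,3,1,0,1,2,0,2,5,1,0,1,5,2,1,3,1,2,5,1,0,1,5,2,1],[4,1,0,2,1,0,1,3,2,3,1,2,0,1,0,1,3,4,3,1,2,5,1,0,1,5,2,0,1,0,2,1,3,2,3,1,0,1,2,0,1,4,3,1,2,5,1,0,1,5,2,1],[1,2,5,1,0,1,5,2,1,3,4,1,0,2,1,0,1,3,2,3,1,2,0,1,0,2,5,1,0,1,5,2,1,3,4,3,1,0,1,0,2,1,3,2,3,1,0,1,2,0,1,4,1,0,2,1,0,1,3,2,3,1,2,0,1,0,1,3,4,1,0,1,0,2,1,3,2,3,1,0,1,2,0,2,5,1,0,1,5,2,1,3,1,2,5,1,0,1,5,2,0,2,1,0,1,3,2,3,1,2,0,1,0,1,3,4,1,0,1,0,2,1,3,2,3,1,0,1,2,0,2,5,1,0,1,5,2,1,3,1,2,5,1,0,1,5,2,1],[1,2,5,1,0,1,5,2,1,3,4,1,0,2,1,0,1,3,2,3,1,2,0,1,0,2,5,1,0,1,5,2,1,3,4,3,1,0,1,0,2,1,3,2,3,1,0,1,2,0,1,4,1,0,2,1,0,1,3,2,3,1,2,0,1,0,1,3,4,1,0,1,0,2,1,3,2,3,1,0,1,2,0,2,5,1,0,1,5,2,1,3,1,2,5,1,0,1,5,2,0,2,1,0,1,3,2,3,1,2,0,1,0,1,3,4,1,0,1,0,2,1,3,2,3,1,0,1,2,0,2,5,1,0,1,5,2,1,3,1,2,5,1,0,1,5,2,1,3]]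

/-- Transversal of stage 1 -/
def caIx1 : List (List Nat) :=
  [[],[1],[2],[3],[0,1],[2,1],[3,1],[4,1],[5,1],[6,1],[0,2],[3,2],[4,2],[5,2],[7,2],[0,3],[1,3],[2,3],[3,3],[4,3],[5,3],[6,3],[7,3],[2,0,1],[3,0,1],[4,0,1],[5,0,1],[0,2,1],[3,2,1],[4,2,1],[5,2,1],[6,2,1],[7,2,1],[0,3,1],[1,3,1],[2,3,1],[3,3,1],[4,3,1],[5,3,1],[6,3,1],[7,3,1],[0,4,1],[2,4,1],[3,4,1],[4,4,1],[5,4,1],[6,4,1],[7,4,1],[0,5,1],[1,5,1],[2,5,1],[3,5,1],[4,5,1],[6,5,1],[7,5,1],[0,6,1],[2,6,1],[3,6,1],[4,6,1],[1,0,2],[2,0,2],[3,0,2],[4,0,2],[5,0,2],[0,3,2],[1,3,2],[2,3,2],[3,3,2],[4,3,2],[5,3,2],[6,3,2],[2,4,2],[5,4,2],[7,4,2],[0,5,2],[1,5,2],[2,5,2],[3,5,2],[0,7,2],[1,7,2],[2,7,2],[4,7,2],[1,0,3],[2,0,3],[4,0,3]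,[0,1,3],[2,1,3],[3,1,3],[6,1,3],[7,1,3],[0,2,3],[3,2,3],[4,2,3],[0,3,3],[7,3,3],[0,4,3],[1,4,3],[3,4,3],[5,4,3],[7,4,3],[1,5,3],[2,5,3],[3,5,3],[5,5,3],[0,6,3],[1,6,3],[3,6,3],[4,6,3],[6,6,3],[7,6,3],[0,7,3],[3,7,3],[5,7,3],[6,7,3],[7,7,3],[3,2,0,1],[4,2,0,1],[5,2,0,1],[0,3,0,1],[1,3,0,1],[5,3,0,1],[6,3,0,1],[0,4,0,1],[2,4,0,1],[3,4,0,1],[5,4,0,1],[7,4,0,1],[1,5,0,1],[2,5,0,1],[5,5,0,1],[6,5,0,1],[3,0,2,1],[4,0,2,1],[5,0,2,1],[1,3,2,1],[3,3,2,1],[4,3,2,1],[7,3,2,1],[1,4,2,1],[2,4,2,1],[3,4,2,1],[5,4,2,1],[7,4,2,1],[0,5,2,1],[2,5,2,1],[3,5,2,1],[4,5,2,1],[7,5,2,1],[0,6,2,1],[2,6,2,1],[3,6,2,1],[4,6,2,1],[6,6,2,1],[0,7,2,1],[2,7,2,1],[4,7,2,1],[1,0,3,1],[4,0,3,1],[5,0,3,1],[0,1,3,1]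,[2,1,3,1],[4,1,3,1],[5,1,3,1],[7,1,3,1],[3,2,3,1],[7,2,3,1],[1,3,3,1],[5,3,3,1],[0,4,3,1],[1,4,3,1],[4,4,3,1],[5,4,3,1],[6,4,3,1],[2,5,3,1],[3,5,3,1],[4,5,3,1],[6,5,3,1],[1,6,3,1],[2,6,3,1],[6,6,3,1],[0,7,3,1],[1,7,3,1],[3,7,3,1],[4,7,3,1],[1,0,4,1],[3,0,4,1],[4,0,4,1],[0,2,4,1],[3,2,4,1],[5,2,4,1],[6,2,4,1],[1,3,4,1],[4,3,4,1],[6,3,4,1],[0,4,4,1],[1,4,4,1],[2,4,4,1],[4,4,4,1],[7,4,4,1],[0,5,4,1],[1,5,4,1],[2,5,4,1],[2,7,4,1],[5,7,4,1],[3,0,5,1],[0,1,5,1],[2,1,5,1],[3,1,5,1],[5,1,5,1],[7,1,5,1],[4,2,5,1],[6,2,5,1],[2,3,5,1],[3,3,5,1],[6,3,5,1],[1,4,5,1],[5,4,5,1],[0,6,5,1],[2,6,5,1],[2,7,5,1],[3,7,5,1],[4,0,6,1],[3,2,6,1],[5,2,6,1],[2,3,6,1],[4,3,6,1],[7,3,6,1],[7,4,6,1],[3,1,0,2]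,[5,1,0,2],[0,2,0,2],[2,3,0,2],[3,4,0,2],[5,4,0,2],[3,5,0,2],[5,5,0,2],[4,0,3,2],[5,0,3,2],[3,2,3,2],[5,4,3,2],[6,5,3,2],[2,6,3,2],[0,2,4,2],[4,2,4,2],[7,2,4,2],[2,5,4,2],[4,5,4,2],[0,1,5,2],[3,1,5,2],[5,1,5,2],[6,1,5,2],[4,3,5,2],[3,1,7,2],[5,1,7,2],[6,1,7,2],[0,4,7,2],[7,1,0,3],[0,4,0,3],[1,0,2,3],[5,3,2,3],[2,7,3,3],[1,0,4,3],[5,1,4,3],[6,1,4,3],[7,1,4,3],[3,3,4,3],[1,5,4,3],[2,5,4,3],[3,5,4,3],[1,7,4,3],[5,2,5,3],[1,3,5,3],[3,3,5,3],[4,3,5,3],[3,5,5,3],[3,0,6,3],[3,1,6,3],[4,1,6,3],[7,3,6,3],[3,4,6,3],[6,7,6,3],[1,0,7,3],[0,5,7,3],[5,4,2,0,1],[2,5,2,0,1],[1,0,3,0,1],[2,0,3,0,1],[0,1,3,0,1],[3,5,3,0,1],[1,6,3,0,1],[5,1,5,0,1],[5,2,5,0,1],[0,3,0,2,1],[7,3,0,2,1],[3,4,0,2,1],[5,4,0,2,1],[4,1,3,2,1],[1,4,3,2,1],[1,7,3,2,1],[7,7,3,2,1],[4,2,4,2,1],[5,2,4,2,1],[1,3,4,2,1],[3,7,4,2,1],[5,7,4,2,1],[4,0,5,2,1],[2,7,5,2,1],[3,7,5,2,1],[5,0,6,2,1],[0,4,6,2,1],[3,4,6,2,1],[2,0,1,3,1],[0,5,1,3,1],[5,3,2,3,1],[5,1,4,3,1],[7,2,6,3,1],[7,3,0,4,1],[4,5,2,4,1],[1,4,3,4,1],[5,4,3,5,2]]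

/-- Generators of stage 2 of the centraliser of the first letter -/
def caGen2 : List (List Nat) :=
  [[3],[1,0,2,1,0,1,3,2,3,1,2,0,1,0,1,3,4,1,0,1,0,2,1,3,2,3,1,0,1,2,0,2,5,1,0,1,5,2,1,3,1,2,5,1,0,1,5,2,1],[4,1,0,2,1,0,1,3,2,3,1,2,0,1,0,1,3,4,3,1,2,5,1,0,1,5,2,0,1,0,2,1,3,2,3,1,0,1,2,0,1,4,3,1,2,5,1,0,1,5,2,1],[1,2,5,1,0,1,5,2,1,3,4,1,0,2,1,0,1,3,2,3,1,2,0,1,0,2,5,1,0,1,5,2,1,3,4,3,1,0,1,0,2,1,3,2,3,1,0,1,2,0,1,4,1,0,2,1,0,1,3,2,3,1,2,0,1,0,1,3,4,1,0,1,0,2,1,3,2,3,1,0,1,2,0,2,5,1,0,1,5,2,1,3,1,2,5,1,0,1,5,2,0,2,1,0,1,3,2,3,1,2,0,1,0,1,3,4,1,0,1,0,2,1,3,2,3,1,0,1,2,0,2,5,1,0,1,5,2,1,3,1,2,5,1,0,1,5,2,1],[1,2,5,1,0,1,5,2,1,3,4,1,0,2,1,0,1,3,2,3,1,2,0,1,0,2,5,1,0,1,5,2,1,3,4,3,1,0,1,0,2,1,3,2,3,1,0,1,2,0,1,4,1,0,2,1,0,1,3,2,3,1,2,0,1,0,1,3,4,1,0,1,0,2,1,3,2,3,1,0,1,2,0,2,5,1,0,1,5,2,1,3,1,2,5,1,0,1,5,2,0,2,1,0,1,3,2,3,1,2,0,1,0,1,3,4,1,0,1,0,2,1,3,2,3,1,0,1,2,0,2,5,1,0,1,5,2,1,3,1,2,5,1,0,1,5,2,1,3]]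

/-- Transversal of stage 2 -/
def caIx2 : List (List Nat) :=
  [[],[1],[2],[0,1],[2,1],[3,1],[4,1],[1,2],[2,2],[3,2],[1,0,1],[2,0,1],[0,2,1],[4,2,1],[2,4,1],[3,3,2]]

/-- Generators of stage 3 of the centraliser of the first letter -/
def caGen3 : List (List Nat) :=
  [[3],[1,2,5,1,0,1,5,2,1,3,4,1,0,2,1,0,1,3,2,3,1,2,0,1,0,2,5,1,0,1,5,2,1,3,4,3,1,0,1,0,2,1,3,2,3,1,0,1,2,0,1,4,1,0,2,1,0,1,3,2,3,1,2,0,1,0,1,3,4,1,0,1,0,2,1,3,2,3,1,0,1,2,0,2,5,1,0,1,5,2,1,3,1,2,5,1,0,1,5,2,0,2,1,0,1,3,2,3,1,2,0,1,0,1,3,4,1,0,1,0,2,1,3,2,3,1,0,1,2,0,2,5,1,0,1,5,2,1,3,1,2,5,1,0,1,5,2,1],[1,2,5,1,0,1,5,2,1,3,4,1,0,2,1,0,1,3,2,3,1,2,0,1,0,2,5,1,0,1,5,2,1,3,4,3,1,0,1,0,2,1,3,2,3,1,0,1,2,0,1,4,1,0,2,1,0,1,3,2,3,1,2,0,1,0,1,3,4,1,0,1,0,2,1,3,2,3,1,0,1,2,0,2,5,1,0,1,5,2,1,3,1,2,5,1,0,1,5,2,0,2,1,0,1,3,2,3,1,2,0,1,0,1,3,4,1,0,1,0,2,1,3,2,3,1,0,1,2,0,2,5,1,0,1,5,2,1,3,1,2,5,1,0,1,5,2,1,3]]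

/-- Transversal of stage 3 -/
def caIx3 : List (List Nat) :=
  [[],[0],[1],[0,1]]

/-- Generators of stage 4 of the centraliser of the first letter -/
def caGen4 : List (List Nat) :=
  [[1,2,5,1,0,1,5,2,1,3,4,1,0,2,1,0,1,3,2,3,1,2,0,1,0,2,5,1,0,1,5,2,1,3,4,3,1,0,1,0,2,1,3,2,3,1,0,1,2,0,1,4,1,0,2,1,0,1,3,2,3,1,2,0,1,0,1,3,4,1,0,1,0,2,1,3,2,3,1,0,1,2,0,2,5,1,0,1,5,2,1,3,1,2,5,1,0,1,5,2,0,2,1,0,1,3,2,3,1,2,0,1,0,1,3,4,1,0,1,0,2,1,3,2,3,1,0,1,2,0,2,5,1,0,1,5,2,1,3,1,2,5,1,0,1,5,2,1,3]]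

/-- Transversal of stage 4 -/
def caIx4 : List (List Nat) :=
  [[],[0],[0,0]]

/-- Sifting of stage 0 of the Levi group -/
def lSift0 : List (Nat × List Nat) :=
  [(0,[0]),(0,[1]),(0,[2]),(0,[3]),(1,[]),(0,[4]),(0,[5]),(1,[0]),(2,[]),(1,[2]),(1,[3,0]),(0,[]),(1,[4,5]),(1,[5,5]),(3,[]),(1,[]),(4,[]),(5,[]),(2,[1]),(3,[5]),(2,[5]),(2,[]),(6,[]),(7,[]),(6,[5,0]),(3,[1]),(6,[5,4]),(5,[5]),(7,[]),(4,[2]),(2,[]),(8,[]),(4,[1]),(9,[]),(10,[]),(6,[5,0]),(5,[3,0]),(8,[]),(2,[]),(6,[5,0,1]),(5,[5]),(6,[5,4]),(5,[4,5]),(3,[]),(11,[]),(3,[4,5]),(5,[5,1,3]),(2,[3]),(3,[3]),(4,[]),(12,[]),(3,[]),(11,[5,0]),(7,[1]),(13,[]),(12,[5,5,2,4]),(11,[5,0]),(14,[]),(5,[]),(4,[]),(11,[5,0,1]),(12,[5,5,2,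4]),(13,[]),(10,[]),(9,[5,2,5,4]),(15,[]),(13,[]),(15,[5,1]),(16,[]),(17,[]),(9,[]),(18,[]),(18,[2,5,5]),(12,[5,5,2,4]),(18,[2,1]),(15,[5]),(18,[2]),(8,[4,5]),(17,[5,2,4]),(6,[]),(7,[4,5]),(8,[5,1,3]),(10,[4,5]),(9,[4,5]),(13,[5,5,2,4]),(7,[]),(17,[5,2,4]),(10,[5,5,2,4]),(16,[5,1,2,4]),(17,[5,5,2,4]),(16,[5,5,2,4]),(12,[5,5,2,4]),(19,[]),(16,[5,5]),(9,[]),(17,[1]),(18,[2]),(15,[5]),(14,[5,5,2,4]),(8,[]),(14,[3,0]),(14,[2]),(19,[5,1,2,4,2,1]),(20,[]),(20,[5,2,5,4]),(18,[2,5,5]),(20,[4,2,4]),(9,[]),(16,[5,5]),(9,[5,1]),(11,[3]),(8,[5,5]),(17,[]),(16,[5,5,2,4]),(13,[5]),(15,[5]),(12,[5,5,2,4,1]),(4,[]),(7,[]),(16,[]),(11,[2,4,2,0]),(12,[2,4,2,0]),(18,[2]),(13,[1]),(8,[]),(11,[5,0]),(15,[5,2]),(10,[]),(10,[5,2]),(17,[2]),(10,[1,2]),(7,[2]),(4,[2]),(19,[2]),(13,[]),(19,[2,0]),(19,[5,2,5,4]),(14,[5,1,2,4,2,1]),(14,[5,5,2,4]),(14,[]),(20,[5,2,5,4]),(15,[2,4,2]),(20,[3,2]),(20,[5,5,2,4]),(20,[5,1,2,4,2,1]),(19,[5,5,2,4]),(19,[5,2,5,4])]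

/-- Generators of stage 0 -/
def lGen0 : List (List Nat) :=
  [[0],[1],[2],[5],[6],[1,5,0,1,0,1],[5,1,5,0,1,0,1,5]]

/-- Transversal of stage 0 -/
def lIx0 : List (List Nat) :=
  [[],[4],[1,4],[0,1,4],[2,1,4],[3,1,4],[1,0,1,4],[2,0,1,4],[3,2,1,4],[5,2,1,4],[6,2,1,4],[2,1,0,1,4],[1,2,0,1,4],[5,2,0,1,4],[1,3,2,1,4],[2,5,2,1,4],[5,5,2,1,4],[6,5,2,1,4],[1,6,2,1,4],[1,5,2,0,1,4],[5,1,3,2,1,4]]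

/-- Sifting of stage 1 of the Levi group -/
def lSift1 : List (Nat × List Nat) :=
  [(0,[3,2,2]),(1,[]),(0,[0]),(0,[1]),(0,[2]),(0,[3]),(2,[]),(0,[]),(3,[]),(4,[]),(2,[3,3]),(1,[3,3]),(1,[]),(5,[]),(6,[]),(5,[2,2]),(5,[3,1]),(4,[3,3]),(6,[]),(3,[0]),(1,[]),(7,[]),(8,[]),(9,[]),(5,[2,2]),(4,[1]),(7,[]),(1,[]),(4,[3,3]),(5,[3,1]),(4,[2]),(2,[]),(10,[]),(2,[2]),(1,[3,3,2]),(2,[3,3,2]),(3,[]),(11,[]),(2,[]),(10,[2,2]),(12,[]),(11,[2,0,3,2]),(10,[2,2]),(13,[]),(4,[]),(3,[]),(11,[2,0,3,2]),(12,[]),(9,[]),(8,[2,3,0,2]),(14,[]),(12,[]),(15,[]),(16,[]),(8,[]),(17,[]),(17,[0,3]),(11,[2,0,3,2]),(14,[3,3]),(17,[0]),(7,[2]),(16,[0,3,1,0]),(5,[]),(6,[2]),(9,[2]),(8,[2]),(12,[2,0,3,2]),(6,[]),(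16,[0,3,1,0]),(9,[2,0,3,2]),(16,[2,0,3,2]),(15,[2,0,3,2]),(11,[2,0,3,2]),(18,[]),(15,[3]),(8,[]),(17,[0]),(14,[3,3]),(13,[2,0,3,2]),(7,[]),(13,[1]),(13,[0]),(19,[]),(19,[2,3,0,2]),(17,[0,3]),(19,[0,2,1,0]),(8,[]),(15,[3]),(10,[3,3,2]),(7,[3]),(16,[]),(15,[2,0,3,2]),(12,[3,3]),(14,[3,3]),(3,[]),(6,[]),(15,[]),(10,[3,0,2]),(11,[3,0,2]),(17,[0]),(7,[]),(10,[2,2]),(14,[3,3,0]),(9,[]),(9,[3,3,0]),(16,[0]),(6,[0]),(3,[0]),(18,[0]),(12,[]),(18,[3,2,2,0]),(18,[2,3,0,2]),(13,[2,0,3,2]),(13,[]),(19,[2,3,0,2]),(14,[2,0,3]),(19,[3,3,2,0]),(19,[2,0,3,2]),(18,[2,0,3,2]),(18,[2,3,0,2])]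

/-- Generators of stage 1 -/
def lGen1 : List (List Nat) :=
  [[0],[1],[2],[5],[1,5,0,1,0,1],[5,1,5,0,1,0,1,5]]

/-- Transversal of stage 1 -/
def lIx1 : List (List Nat) :=
  [[],[1],[0,1],[2,1],[3,1],[1,0,1],[2,0,1],[3,2,1],[4,2,1],[5,2,1],[2,1,0,1],[1,2,0,1],[4,2,0,1],[1,3,2,1],[2,4,2,1],[4,4,2,1],[5,4,2,1],[1,5,2,1],[1,4,2,0,1],[4,1,3,2,1]]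

/-- Sifting of stage 2 of the Levi group -/
def lSift2 : List (Nat × List Nat) :=
  [(1,[]),(2,[]),(3,[]),(0,[0]),(0,[]),(4,[]),(5,[]),(6,[]),(4,[]),(0,[]),(2,[0]),(7,[]),(8,[]),(7,[]),(7,[0]),(2,[0,0]),(2,[]),(1,[]),(9,[]),(10,[]),(11,[]),(10,[]),(12,[]),(13,[]),(14,[]),(9,[]),(11,[0]),(14,[0]),(15,[]),(3,[]),(0,[0,0]),(3,[0]),(3,[]),(15,[]),(10,[0]),(9,[0]),(13,[0,0]),(6,[]),(13,[]),(12,[]),(12,[0,0]),(5,[]),(14,[0]),(11,[0]),(5,[]),(12,[0,0]),(15,[0]),(4,[0,0]),(10,[0]),(11,[0]),(1,[]),(8,[0,0]),(9,[0]),(14,[0]),(4,[]),(15,[0,0]),(6,[]),(13,[0,0]),(8,[0]),(1,[0,0]),(7,[]),(8,[]),(6,[0]),(5,[0])]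

/-- Generators of stage 2 -/
def lGen2 : List (List Nat) :=
  [[2],[5],[1,5,0,1,0,1],[5,1,5,0,1,0,1,5]]

/-- Transversal of stage 2 -/
def lIx2 : List (List Nat) :=
  [[],[0],[1],[2],[1,0],[2,0],[3,0],[3,1],[0,2],[2,1,0],[3,1,0],[0,2,0],[2,2,0],[3,2,0],[0,3,0],[0,3,1]]

/-- Sifting of stage 3 of the Levi group -/
def lSift3 : List (Nat × List Nat) :=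
  [(1,[]),(2,[]),(0,[])]

/-- Generators of stage 3 -/
def lGen3 : List (List Nat) :=
  [[5,1,5,0,1,0,1,5]]

/-- Transversal of stage 3 -/
def lIx3 : List (List Nat) :=
  [[],[0],[0,0]]

/-- Conjugators of the first letter in the Levi group -/
def aConj : List (List Nat) :=
  [[],[1],[0,1],[2,1],[5,1],[6,1],[1,0,1],[2,0,1],[5,0,1],[6,0,1],[5,2,1],[6,2,1],[6,5,1],[5,6,1],[0,1,0,1],[2,1,0,1],[5,1,0,1],[6,1,0,1],[1,2,0,1],[5,2,0,1],[6,2,0,1],[1,5,0,1],[1,6,0,1],[1,5,2,1],[6,5,2,1],[1,6,2,1],[5,6,2,1],[1,6,5,1],[1,5,6,1],[2,0,1,0,1],[5,0,1,0,1],[6,0,1,0,1],[1,2,1,0,1],[5,2,1,0,1],[6,2,1,0,1],[1,5,1,0,1],[6,5,1,0,1],[1,6,1,0,1],[5,6,1,0,1],[0,1,2,0,1],[5,1,2,0,1],[6,1,2,0,1],[1,5,2,0,1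],[1,6,2,0,1],[0,1,5,0,1],[2,1,5,0,1],[6,1,5,0,1],[0,1,6,0,1],[2,1,6,0,1],[5,1,6,0,1],[6,1,5,2,1],[1,6,5,2,1],[5,1,6,2,1],[1,5,6,2,1],[0,1,6,5,1],[2,1,6,5,1],[5,1,6,5,1],[0,1,5,6,1],[2,1,5,6,1],[6,1,5,6,1],[1,2,0,1,0,1],[5,2,0,1,0,1],[6,2,0,1,0,1],[1,5,0,1,0,1],[1,6,0,1,0,1],[0,1,2,1,0,1],[5,1,2,1,0,1],[6,1,2,1,0,1],[1,5,2,1,0,1],[6,5,2,1,0,1],[1,6,2,1,0,1],[5,6,2,1,0,1],[0,1,5,1,0,1],[2,1,5,1,0,1],[6,1,5,1,0,1],[1,6,5,1,0,1],[0,1,6,1,0,1],[2,1,6,1,0,1],[5,1,6,1,0,1],[1,5,6,1,0,1],[1,0,1,2,0,1],[5,0,1,2,0,1],[6,0,1,2,0,1],[1,5,1,2,0,1],[6,5,1,2,0,1],[1,6,1,2,0,1],[5,6,1,2,0,1],[0,1,5,2,0,1],[2,1,5,2,0,1],[6,1,5,2,0,1],[0,1,6,2,0,1],[2,1,6,2,0,1],[5,1,6,2,0,1],[1,0,1,5,0,1],[2,0,1,5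,0,1],[6,2,1,5,0,1],[5,6,1,5,0,1],[1,0,1,6,0,1],[2,0,1,6,0,1],[5,2,1,6,0,1],[6,5,1,6,0,1],[1,6,1,5,2,1],[0,1,6,5,2,1],[2,1,6,5,2,1],[1,5,1,6,2,1],[0,1,5,6,2,1],[2,1,5,6,2,1],[2,0,1,6,5,1],[5,0,1,6,5,1],[5,2,1,6,5,1],[2,0,1,5,6,1],[6,0,1,5,6,1],[6,2,1,5,6,1],[5,0,1,2,1,0,1],[6,0,1,2,1,0,1],[1,5,1,2,1,0,1],[6,5,1,2,1,0,1],[1,6,1,2,1,0,1],[5,6,1,2,1,0,1],[0,1,5,2,1,0,1],[2,1,5,2,1,0,1],[6,1,5,2,1,0,1],[1,6,5,2,1,0,1],[0,1,6,2,1,0,1],[2,1,6,2,1,0,1],[5,1,6,2,1,0,1],[1,5,6,2,1,0,1],[2,0,1,5,1,0,1],[6,2,1,5,1,0,1],[2,1,6,5,1,0,1],[2,0,1,6,1,0,1],[5,2,1,6,1,0,1],[2,1,5,6,1,0,1],[2,1,5,1,2,0,1],[1,6,5,1,2,0,1],[2,1,6,1,2,0,1],[1,5,6,1,2,0,1],[2,0,1,5,2,0,1],[6,0,1,5,2,0,1],[6,2,1,5,2,0,1],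[2,0,1,6,2,0,1],[5,0,1,6,2,0,1],[5,2,1,6,2,0,1],[1,6,2,1,5,0,1],[5,6,2,1,5,0,1],[1,5,2,1,6,0,1],[6,5,2,1,6,0,1],[2,1,6,1,5,2,1],[1,0,1,6,5,2,1],[2,0,1,6,5,2,1],[2,1,5,1,6,2,1],[1,0,1,5,6,2,1],[2,0,1,5,6,2,1],[1,2,0,1,6,5,1],[5,2,0,1,6,5,1],[1,5,2,1,6,5,1],[1,2,0,1,5,6,1],[6,2,0,1,5,6,1],[1,6,2,1,5,6,1],[1,5,0,1,2,1,0,1],[1,6,0,1,2,1,0,1],[0,1,5,1,2,1,0,1],[2,1,5,1,2,1,0,1],[6,1,5,1,2,1,0,1],[1,6,5,1,2,1,0,1],[0,1,6,1,2,1,0,1],[2,1,6,1,2,1,0,1],[5,1,6,1,2,1,0,1],[1,5,6,1,2,1,0,1],[1,0,1,5,2,1,0,1],[2,0,1,5,2,1,0,1],[6,2,1,5,2,1,0,1],[1,6,1,5,2,1,0,1],[5,6,1,5,2,1,0,1],[0,1,6,5,2,1,0,1],[2,1,6,5,2,1,0,1],[1,0,1,6,2,1,0,1],[2,0,1,6,2,1,0,1],[5,2,1,6,2,1,0,1],[1,5,1,6,2,1,0,1],[6,5,1,6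,2,1,0,1],[0,1,5,6,2,1,0,1],[2,1,5,6,2,1,0,1],[1,2,0,1,5,1,0,1],[1,6,2,1,5,1,0,1],[1,2,0,1,6,1,0,1],[1,5,2,1,6,1,0,1],[0,1,6,5,1,2,0,1],[2,1,6,5,1,2,0,1],[0,1,5,6,1,2,0,1],[2,1,5,6,1,2,0,1],[1,2,0,1,5,2,0,1],[6,2,0,1,5,2,0,1],[1,6,2,1,5,2,0,1],[1,2,0,1,6,2,0,1],[5,2,0,1,6,2,0,1],[1,5,2,1,6,2,0,1],[0,1,6,2,1,5,0,1],[5,1,6,2,1,5,0,1],[1,5,6,2,1,5,0,1],[0,1,5,2,1,6,0,1],[6,1,5,2,1,6,0,1],[1,6,5,2,1,6,0,1],[0,1,0,1,6,5,2,1],[2,1,0,1,6,5,2,1],[1,2,0,1,6,5,2,1],[0,1,0,1,5,6,2,1],[2,1,0,1,5,6,2,1],[1,2,0,1,5,6,2,1],[0,1,2,0,1,6,5,1],[5,1,2,0,1,6,5,1],[6,1,2,0,1,6,5,1],[1,5,2,0,1,6,5,1],[0,1,5,2,1,6,5,1],[6,1,5,2,1,6,5,1],[0,1,2,0,1,5,6,1],[5,1,2,0,1,5,6,1],[6,1,2,0,1,5,6,1],[1,6,2,0,1,5,6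,1],[0,1,6,2,1,5,6,1],[5,1,6,2,1,5,6,1],[2,0,1,5,1,2,1,0,1],[6,2,1,5,1,2,1,0,1],[2,1,6,5,1,2,1,0,1],[2,0,1,6,1,2,1,0,1],[5,2,1,6,1,2,1,0,1],[2,1,5,6,1,2,1,0,1],[1,6,2,1,5,2,1,0,1],[5,6,2,1,5,2,1,0,1],[0,1,6,1,5,2,1,0,1],[2,1,6,1,5,2,1,0,1],[2,0,1,6,5,2,1,0,1],[1,5,2,1,6,2,1,0,1],[6,5,2,1,6,2,1,0,1],[0,1,5,1,6,2,1,0,1],[2,1,5,1,6,2,1,0,1],[2,0,1,5,6,2,1,0,1],[6,1,2,0,1,5,1,0,1],[0,1,6,2,1,5,1,0,1],[5,1,6,2,1,5,1,0,1],[5,1,2,0,1,6,1,0,1],[0,1,5,2,1,6,1,0,1],[6,1,5,2,1,6,1,0,1],[2,0,1,6,5,1,2,0,1],[2,0,1,5,6,1,2,0,1],[6,1,2,0,1,5,2,0,1],[1,6,2,0,1,5,2,0,1],[0,1,6,2,1,5,2,0,1],[5,1,2,0,1,6,2,0,1],[1,5,2,0,1,6,2,0,1],[0,1,5,2,1,6,2,0,1],[1,0,1,6,2,1,5,0,1],[6,1,5,6,2,1,5,0,1],[1,0,1,5,2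,1,6,0,1],[5,1,6,5,2,1,6,0,1],[2,0,1,0,1,6,5,2,1],[1,2,1,0,1,6,5,2,1],[0,1,2,0,1,6,5,2,1],[5,1,2,0,1,6,5,2,1],[6,1,2,0,1,6,5,2,1],[2,0,1,0,1,5,6,2,1],[1,2,1,0,1,5,6,2,1],[0,1,2,0,1,5,6,2,1],[5,1,2,0,1,5,6,2,1],[6,1,2,0,1,5,6,2,1],[6,0,1,2,0,1,6,5,1],[1,5,1,2,0,1,6,5,1],[6,5,1,2,0,1,6,5,1],[1,0,1,5,2,1,6,5,1],[5,0,1,2,0,1,5,6,1],[1,6,1,2,0,1,5,6,1],[5,6,1,2,0,1,5,6,1],[1,0,1,6,2,1,5,6,1],[1,2,0,1,5,1,2,1,0,1],[1,2,0,1,6,1,2,1,0,1],[0,1,6,2,1,5,2,1,0,1],[5,1,6,2,1,5,2,1,0,1],[1,5,6,2,1,5,2,1,0,1],[2,0,1,6,1,5,2,1,0,1],[1,2,0,1,6,5,2,1,0,1],[0,1,5,2,1,6,2,1,0,1],[6,1,5,2,1,6,2,1,0,1],[1,6,5,2,1,6,2,1,0,1],[2,0,1,5,1,6,2,1,0,1],[1,2,0,1,5,6,2,1,0,1],[5,0,1,6,2,1,5,1,0,1],[6,0,1,5,2,1,6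,1,0,1],[1,2,0,1,6,5,1,2,0,1],[1,2,0,1,5,6,1,2,0,1],[1,6,1,2,0,1,5,2,0,1],[0,1,6,2,0,1,5,2,0,1],[5,1,6,2,0,1,5,2,0,1],[1,5,1,2,0,1,6,2,0,1],[0,1,5,2,0,1,6,2,0,1],[6,1,5,2,0,1,6,2,0,1],[5,1,2,1,0,1,6,5,2,1],[5,0,1,2,0,1,6,5,2,1],[1,6,0,1,2,0,1,6,5,1],[1,6,5,1,2,0,1,6,5,1],[2,1,0,1,5,2,1,6,5,1],[1,5,0,1,2,0,1,5,6,1],[1,5,6,1,2,0,1,5,6,1],[2,1,0,1,6,2,1,5,6,1],[6,1,2,0,1,5,1,2,1,0,1],[5,1,2,0,1,6,1,2,1,0,1],[6,1,5,6,2,1,5,2,1,0,1],[5,1,2,0,1,6,5,2,1,0,1],[5,1,6,5,2,1,6,2,1,0,1],[6,1,2,0,1,5,6,2,1,0,1],[5,1,2,0,1,6,5,1,2,0,1],[6,1,2,0,1,5,6,1,2,0,1],[0,1,6,1,2,0,1,5,2,0,1],[0,1,5,1,2,0,1,6,2,0,1],[2,1,6,0,1,2,0,1,6,5,1],[2,1,5,0,1,2,0,1,5,6,1]]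

/-- Sylow generators -/
def twGen : List (List Nat) :=
  [[0],[2],[5],[6],[1,5,2,1,0,1,5,2,1],[1,6,2,1,0,1,6,2,1]]

/-- Sylow elements -/
def twElts : List (List Nat) :=
  [[],[0],[2],[5],[6],[1,5,2,1,0,1,5,2,1],[1,6,2,1,0,1,6,2,1],[2,0],[5,0],[6,0],[1,5,2,1,0,1,5,2,1,0],[1,6,2,1,0,1,6,2,1,0],[5,2],[6,2],[1,5,2,1,0,1,5,1,2,1],[1,6,2,1,0,1,6,1,2,1],[6,5],[1,5,1,2,1,0,1,5,2,1],[1,6,2,1,0,1,6,2,1,5],[5,6],[1,5,2,1,0,1,5,2,1,6],[1,6,1,2,1,0,1,6,2,1],[6,1,5,2,1,0,1,5,2,1],[1,6,5,2,1,6,5,1,6,2,0,1],[5,1,6,2,1,0,1,6,2,1],[1,5,6,2,1,5,6,1,5,2,0,1],[5,2,0],[6,2,0],[1,5,2,1,0,1,5,1,2,1,0],[1,6,2,1,0,1,6,1,2,1,0],[1,5,1,2,1,0,1,5,2,1,0],[1,6,2,1,0,1,6,2,1,5,0],[1,5,2,1,0,1,5,2,1,6,0],[1,6,1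,2,1,0,1,6,2,1,0],[6,1,5,2,1,0,1,5,2,1,0],[1,6,5,2,1,6,5,1,6,2,0,1,0],[5,1,6,2,1,0,1,6,2,1,0],[1,5,6,2,1,5,6,1,5,2,0,1,0],[6,5,2],[1,5,1,2,1,0,1,5,1,2,1],[5,6,2],[1,6,1,2,1,0,1,6,1,2,1],[1,5,2,1,0,1,5,2,1,6,5],[1,6,1,2,1,0,1,6,2,1,5],[6,1,5,1,2,1,0,1,5,2,1],[1,5,2,0,1,6,5,1,6,2,1,5,1],[1,5,6,2,1,5,6,1,2,0,1,5,1],[1,5,1,2,1,0,1,5,2,1,6],[1,6,2,1,0,1,6,2,1,5,6],[1,6,5,2,1,6,5,1,2,0,1,6,1],[5,1,6,1,2,1,0,1,6,2,1],[1,6,2,0,1,5,6,1,5,2,1,6,1],[5,6,1,5,2,1,0,1,5,2,1],[1,6,1,5,2,1,6,5,1,6,2,0,1],[5,1,6,5,2,1,6,5,1,6,2,0,1],[6,5,1,6,2,1,0,1,6,2,1],[1,5,1,6,2,1,5,6,1,5,2,0,1],[6,1,5,6,2,1,5,6,1,5,2,0,1],[1,5,1,2,1,0,1,5,1,2,1,0],[1,6,1,2,1,0,1,6,1,2,1,0],[1,0,1,2,0,1,5,6,1,2,0,1,0,1],[6,1,5,1,6,2,1,5,6,1,5,2,0,1],[1,0,1,2,0,1,6,5,1,2,0,1,0,1],[5,1,6,1,5,2,1,6,5,1,6,2,0,1]]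

/-- Sylow generators -/
def thGen : List (List Nat) :=
  [[2,1],[6,5,1,2,0,1,6,2,1,0,1,5,0]]

/-- Sylow elements -/
def thElts : List (List Nat) :=
  [[],[2,1],[6,5,1,2,0,1,6,2,1,0,1,5,0],[1,2],[5,1,6,2,0,1,0,1,5,6,2,1,5],[5,1,2,0,1,6,0,1,2,0,1,5,2],[6,1,2,0,1,5,0,1,2,0,1,6,2],[5,6,1,2,0,1,5,2,1,0,1,6,0],[5,1,6,5,2,1,0,1,6,2,0,1,5]]

/-- An element of order five -/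
def five : List Nat :=
  [1,0]

/-- An element of order seven -/
def seven : List Nat :=
  [6,5,2,1]

/-- Fixed points of the fifth letter -/
def fixE : List Nat :=
  [0,1,2,3,4,5,6,7,9,10,11,16,17,19,21,22,30,32,36,41,68,260,293,315,317,388,415,437,438,470,471,472,473,569,614,615,644,688,689,690,901,995]

/-- Fixed points of the first letter -/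
def fixA : List Nat :=
  [0,1,16,29,30,51,52,68,86,109,168,169,228,259,260,304,347,352,407,439,450,456,474,513,518,593,603,643,644,661,669,687,688,690,750,870,884,961,995,1002,1231,1265,1608,1690,1750,1754,1755,1759,1773,1774,1775,1779,1780,1781]

/-- Words moving base points to the origin -/
def toZero : List (List Nat) :=
  [[],[6,1,2,3,2,1,5,6,1,2,3],[6,1,0,2,1,0]]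

/-- Generators of base stabiliser 0 -/
def kGen0 : List (List Nat) :=
  [[0],[1],[2],[3],[4],[5],[5,2,0],[2,1,0,1,2],[0,1,2,3,2,1,0],[2,1,0,1,2,0,2,5,0,1,2,3,2,1,0,2,1,0,1,2,5,2,1,2,3,2,1,0,5,2,1,2,3,2,1,0,5,2,0],[0,2,5,0,1,2,3,2,1,2,5,0,1,2,3,2,1,2,5,2,1,0,1,2,0,1,2,3,2,1,0,5,2,0,2,1,0,1,2,4,0,1,2,3,2,1,0,4,2,1,0,1,2,0,2,5,0,1,2,3,2,1,0,2,1,0,1,2,5,2,1,2,3,2,1,0,5,2,1,2,3,2,1,0,5,2,0],[2,1,0,1,2,0,2,5,0,1,2,3,2,1,0,2,1,0,1,2,5,2,1,2,3,2,1,0,5,2,1,2,3,2,1,0,5,2,1,2,3,2,1,0,2,1,0,1,2,0,2,5,0,1,2,3,2,1,0,2,1,0,1,2,5,2,1,2,3,2,1,0,5,2,1,2,3,2,1,0,5,2,1,2,3,2,1,0]]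

/-- Transversal of base stabiliser 0 -/
def kIx0 : List (List Nat) :=
  [[],[0],[2],[3],[5],[1,0],[3,0],[7,0],[8,0],[9,0],[1,2],[3,2],[7,2],[9,2],[2,3],[4,3],[5,3],[6,3],[7,3],[8,3],[9,3],[10,3],[1,5],[7,5],[8,5],[9,5],[0,1,0],[7,1,0],[2,3,0],[4,3,0],[6,3,0],[8,3,0],[9,3,0],[10,3,0],[2,7,0],[8,7,0],[9,7,0],[0,8,0],[1,8,0],[4,8,0],[10,8,0],[3,1,2],[8,1,2],[4,3,2],[8,3,2],[10,3,2],[0,7,2],[9,7,2],[0,9,2],[2,9,2],[4,9,2],[5,9,2],[6,9,2],[9,9,2],[10,9,2],[4,2,3],[9,2,3],[10,2,3],[5,4,3],[6,4,3],[7,4,3],[8,4,3],[9,4,3],[10,4,3],[7,5,3],[10,5,3],[8,6,3],[10,6,3],[2,7,3],[8,7,3],[10,7,3],[4,8,3],[10,8,3],[4,9,3],[10,9,3],[8,10,3],[9,10,3],[4,8,5],[10,8,5],[4,9,5],[6,9,5],[10,9,5],[4,2,3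,0],[10,2,3,0],[6,4,3,0],[8,4,3,0],[9,4,3,0],[10,4,3,0],[9,6,3,0],[10,6,3,0],[4,8,3,0],[5,8,3,0],[10,8,3,0],[4,9,3,0],[10,9,3,0],[8,10,3,0],[9,10,3,0],[4,8,7,0],[9,8,7,0],[10,8,7,0],[4,0,8,0],[10,0,8,0],[4,1,8,0],[10,1,8,0],[3,4,8,0],[9,4,8,0],[10,4,8,0],[3,10,8,0],[9,10,8,0],[4,3,1,2],[10,3,1,2],[4,8,1,2],[10,8,1,2],[8,4,3,2],[9,4,3,2],[10,4,3,2],[4,8,3,2],[10,8,3,2],[8,10,3,2],[4,9,7,2],[10,9,7,2],[4,0,9,2],[10,0,9,2],[4,2,9,2],[10,2,9,2],[3,4,9,2],[5,4,9,2],[6,4,9,2],[9,4,9,2],[10,4,9,2],[1,5,9,2],[10,5,9,2],[10,6,9,2],[1,9,9,2],[4,9,9,2],[10,9,9,2],[3,10,9,2],[9,10,9,2],[3,4,2,3],[8,4,2,3],[9,4,2,3],[10,4,2,3],[4,9,2,3],[10,9,2,3],[3,10,2,3],[8,10,2,3],[9,10,2,3],[7,5,4,3],[10,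5,4,3],[3,6,4,3],[8,6,4,3],[9,6,4,3],[10,6,4,3],[2,7,4,3],[6,7,4,3],[8,7,4,3],[9,7,4,3],[10,7,4,3],[0,8,4,3],[1,8,4,3],[3,8,4,3],[5,8,4,3],[6,8,4,3],[7,8,4,3],[9,8,4,3],[10,8,4,3],[0,9,4,3],[1,9,4,3],[2,9,4,3],[3,9,4,3],[5,9,4,3],[8,9,4,3],[9,9,4,3],[8,10,4,3],[10,7,5,3],[10,8,6,3],[3,10,6,3],[10,2,7,3],[4,8,7,3],[10,8,7,3],[9,10,7,3],[9,4,8,3],[10,4,8,3],[8,10,8,3],[8,4,9,3],[10,4,9,3],[8,10,9,3],[0,8,10,3],[4,8,10,3],[5,8,10,3],[6,8,10,3],[9,8,10,3],[10,8,10,3],[0,9,10,3],[1,9,10,3],[3,9,10,3],[5,9,10,3],[9,9,10,3],[9,4,8,5],[10,4,8,5],[9,10,8,5],[3,4,9,5],[6,4,9,5],[9,4,9,5],[10,4,9,5],[10,6,9,5],[3,10,9,5],[9,10,9,5],[8,4,2,3,0],[10,4,2,3,0],[8,10,2,3,0],[3,6,4,3,0],[9,6,4,3,0]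,[10,6,4,3,0],[0,8,4,3,0],[1,8,4,3,0],[4,8,4,3,0],[5,8,4,3,0],[6,8,4,3,0],[7,8,4,3,0],[0,9,4,3,0],[1,9,4,3,0],[2,9,4,3,0],[6,9,4,3,0],[7,9,4,3,0],[8,9,4,3,0],[9,9,4,3,0],[8,10,4,3,0],[9,10,4,3,0],[4,9,6,3,0],[10,9,6,3,0],[9,10,6,3,0],[3,4,8,3,0],[5,4,8,3,0],[9,4,8,3,0],[10,4,8,3,0],[10,5,8,3,0],[3,10,8,3,0],[8,10,8,3,0],[9,10,8,3,0],[3,4,9,3,0],[8,4,9,3,0],[9,4,9,3,0],[10,4,9,3,0],[3,10,9,3,0],[8,10,9,3,0],[9,10,9,3,0],[0,8,10,3,0],[1,8,10,3,0],[4,8,10,3,0],[5,8,10,3,0],[6,8,10,3,0],[0,9,10,3,0],[1,9,10,3,0],[6,9,10,3,0],[7,9,10,3,0],[9,4,8,7,0],[10,4,8,7,0],[4,9,8,7,0],[10,9,8,7,0],[9,10,8,7,0],[3,4,0,8,0],[3,10,0,8,0],[3,10,1,8,0],[2,3,4,8,0],[1,9,4,8,0],[2,9,4,8,0],[3,9,4,8,0],[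5,9,4,8,0],[6,9,4,8,0],[7,9,4,8,0],[8,9,4,8,0],[3,10,4,8,0],[9,10,4,8,0],[2,3,10,8,0],[8,3,10,8,0],[1,9,10,8,0],[5,9,10,8,0],[6,9,10,8,0],[7,9,10,8,0],[10,4,3,1,2],[8,10,3,1,2],[3,4,8,1,2],[10,4,8,1,2],[3,10,8,1,2],[0,8,4,3,2],[5,8,4,3,2],[6,8,4,3,2],[10,8,4,3,2],[0,9,4,3,2],[1,9,4,3,2],[3,9,4,3,2],[4,9,4,3,2],[5,9,4,3,2],[6,9,4,3,2],[10,4,8,3,2],[0,8,10,3,2],[4,8,10,3,2],[5,8,10,3,2],[6,8,10,3,2],[9,4,9,7,2],[10,4,9,7,2],[3,10,9,7,2],[9,10,9,7,2],[3,4,0,9,2],[10,4,0,9,2],[3,10,0,9,2],[8,10,0,9,2],[10,4,2,9,2],[2,3,4,9,2],[6,3,4,9,2],[7,3,4,9,2],[9,3,4,9,2],[10,3,4,9,2],[1,5,4,9,2],[8,5,4,9,2],[9,5,4,9,2],[10,5,4,9,2],[3,6,4,9,2],[10,6,4,9,2],[1,9,4,9,2],[2,9,4,9,2],[4,9,4,9,2],[7,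9,4,9,2],[8,9,4,9,2],[9,10,4,9,2],[10,1,5,9,2],[8,10,6,9,2],[4,1,9,9,2],[10,1,9,9,2],[3,4,9,9,2],[10,4,9,9,2],[3,10,9,9,2],[8,10,9,9,2],[2,3,10,9,2],[4,3,10,9,2],[6,3,10,9,2],[7,3,10,9,2],[0,9,10,9,2],[1,9,10,9,2],[2,9,10,9,2],[2,3,4,2,3],[8,3,4,2,3],[3,8,4,2,3],[6,8,4,2,3],[3,9,4,2,3],[5,9,4,2,3],[8,9,4,2,3],[3,10,4,2,3],[8,10,4,2,3],[9,10,4,2,3],[10,4,9,2,3],[8,10,9,2,3],[2,3,10,2,3],[4,3,10,2,3],[6,3,10,2,3],[0,8,10,2,3],[4,8,10,2,3],[6,8,10,2,3],[7,8,10,2,3],[10,8,10,2,3],[9,9,10,2,3],[0,8,6,4,3],[3,8,6,4,3],[4,8,6,4,3],[5,8,6,4,3],[6,8,6,4,3],[10,8,6,4,3],[4,9,6,4,3],[3,10,6,4,3],[9,2,7,4,3],[10,2,7,4,3],[10,6,7,4,3],[10,8,7,4,3],[8,9,7,4,3],[9,10,7,4,3],[3,1,8,4,3],[5,1,8,4,3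],[6,1,8,4,3],[7,3,8,4,3],[0,7,8,4,3],[3,7,8,4,3],[9,7,8,4,3],[2,9,8,4,3],[4,9,8,4,3],[11,9,8,4,3],[10,1,9,4,3],[8,3,9,4,3],[9,3,9,4,3],[3,8,9,4,3],[5,9,9,4,3],[4,8,10,4,3],[9,10,2,7,3],[5,9,4,8,3],[0,1,9,10,3],[2,1,9,10,3],[6,9,4,8,5],[6,3,4,9,5],[7,3,4,9,5],[8,3,10,9,5],[2,9,6,4,3,0],[3,9,6,4,3,0],[6,9,6,4,3,0],[10,0,8,4,3,0],[8,0,9,4,3,0],[2,1,9,4,3,0],[6,1,9,4,3,0],[8,6,9,4,3,0],[10,9,10,6,3,0],[8,3,4,9,3,0],[0,9,10,8,7,0],[2,3,4,0,8,0],[9,1,9,4,3,2],[1,6,8,10,3,2],[10,1,5,4,9,2],[2,9,10,4,9,2]]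

/-- Generators of base stabiliser 1 -/
def kGen1 : List (List Nat) :=
  [[4],[5,2,0],[2,1,0,1,2],[0,1,2,3,2,1,0],[2,1,0,1,2,0,2,5,0,1,2,3,2,1,0,2,1,0,1,2,5,2,1,2,3,2,1,0,5,2,1,2,3,2,1,0,5,2,0],[0,2,5,0,1,2,3,2,1,2,5,0,1,2,3,2,1,2,5,2,1,0,1,2,0,1,2,3,2,1,0,5,2,0,2,1,0,1,2,4,0,1,2,3,2,1,0,4,2,1,0,1,2,0,2,5,0,1,2,3,2,1,0,2,1,0,1,2,5,2,1,2,3,2,1,0,5,2,1,2,3,2,1,0,5,2,0],[2,1,0,1,2,0,2,5,0,1,2,3,2,1,0,2,1,0,1,2,5,2,1,2,3,2,1,0,5,2,1,2,3,2,1,0,5,2,1,2,3,2,1,0,2,1,0,1,2,0,2,5,0,1,2,3,2,1,0,2,1,0,1,2,5,2,1,2,3,2,1,0,5,2,1,2,3,2,1,0,5,2,1,2,3,2,1,0]]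

/-- Transversal of base stabiliser 1 -/
def kIx1 : List (List Nat) :=
  [[],[1],[2],[2,1],[3,1],[4,1],[1,2],[3,2],[4,2],[3,2,1],[4,2,1],[0,3,1],[1,3,1],[2,3,1],[4,3,1],[5,3,1],[1,4,1],[3,1,2],[4,1,2],[0,3,2],[1,3,2],[2,3,2],[4,3,2],[5,3,2],[2,4,2],[0,3,2,1],[1,3,2,1],[2,3,2,1],[4,3,2,1],[5,3,2,1],[1,4,2,1],[2,4,2,1],[1,0,3,1],[2,0,3,1],[4,0,3,1],[5,0,3,1],[2,1,3,1],[3,1,3,1],[4,1,3,1],[5,1,3,1],[1,2,3,1],[3,2,3,1],[5,2,3,1],[0,4,3,1],[2,4,3,1],[5,4,3,1],[4,5,3,1],[2,1,4,1],[0,3,1,2],[1,3,1,2],[2,3,1,2],[4,3,1,2],[5,3,1,2],[2,4,1,2],[1,0,3,2],[2,0,3,2],[4,0,3,2],[5,0,3,2],[2,1,3,2],[3,1,3,2],[5,1,3,2],[1,2,3,2],[5,2,3,2],[0,4,3,2],[1,4,3,2],[5,4,3,2],[4,5,3,2],[1,0,3,2,1],[2,0,3,2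,1],[4,0,3,2,1],[5,0,3,2,1],[5,1,3,2,1],[3,2,3,2,1],[5,2,3,2,1],[0,4,3,2,1],[1,4,3,2,1],[5,4,3,2,1],[4,5,3,2,1],[3,2,4,2,1],[2,1,0,3,1],[3,1,0,3,1],[4,1,0,3,1],[5,1,0,3,1],[1,2,0,3,1],[3,2,0,3,1],[4,2,0,3,1],[5,2,0,3,1],[0,4,0,3,1],[1,4,0,3,1],[2,4,0,3,1],[3,4,0,3,1],[4,4,0,3,1],[4,5,0,3,1],[5,2,1,3,1],[0,3,1,3,1],[5,3,1,3,1],[0,4,1,3,1],[5,4,1,3,1],[3,5,1,3,1],[4,5,1,3,1],[4,1,2,3,1],[5,1,2,3,1],[0,3,2,3,1],[5,3,2,3,1],[3,5,2,3,1],[4,5,2,3,1],[2,0,4,3,1],[5,0,4,3,1],[5,2,4,3,1],[3,5,4,3,1],[1,4,5,3,1],[2,4,5,3,1],[4,4,5,3,1],[1,0,3,1,2],[2,0,3,1,2],[4,0,3,1,2],[5,0,3,1,2],[5,1,3,1,2],[5,2,3,1,2],[0,4,3,1,2],[5,4,3,1,2],[4,5,3,1,2],[2,1,0,3,2],[3,1,0,3,2],[4,1,0,3,2],[5,1,0,3,2],[1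,2,0,3,2],[4,2,0,3,2],[5,2,0,3,2],[2,4,0,3,2],[4,4,0,3,2],[5,2,1,3,2],[0,3,1,3,2],[5,3,1,3,2],[4,5,1,3,2],[5,1,2,3,2],[3,5,2,3,2],[1,0,4,3,2],[5,1,4,3,2],[1,4,5,3,2],[2,4,5,3,2],[4,1,0,3,2,1],[5,1,0,3,2,1],[3,2,0,3,2,1],[4,2,0,3,2,1],[5,2,0,3,2,1],[0,4,0,3,2,1],[1,4,0,3,2,1],[2,4,0,3,2,1],[3,4,0,3,2,1],[4,4,0,3,2,1],[4,5,0,3,2,1],[4,5,1,3,2,1],[0,3,2,3,2,1],[5,3,2,3,2,1],[3,5,2,3,2,1],[4,5,2,3,2,1],[1,0,4,3,2,1],[5,0,4,3,2,1],[5,1,4,3,2,1],[3,5,4,3,2,1],[1,4,5,3,2,1],[2,4,5,3,2,1],[4,4,5,3,2,1],[0,3,2,4,2,1],[5,3,2,4,2,1],[4,2,1,0,3,1],[5,2,1,0,3,1],[1,3,1,0,3,1],[2,3,1,0,3,1],[0,4,1,0,3,1],[1,4,1,0,3,1],[2,4,1,0,3,1],[4,4,1,0,3,1],[3,1,2,0,3,1],[4,1,2,0,3,1],[5,1,2,0,3,1],[0,3,2,0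,3,1],[2,3,2,0,3,1],[4,3,2,0,3,1],[5,3,2,0,3,1],[0,4,2,0,3,1],[1,4,2,0,3,1],[2,4,2,0,3,1],[3,4,2,0,3,1],[4,5,2,0,3,1],[1,0,4,0,3,1],[2,0,4,0,3,1],[3,0,4,0,3,1],[2,1,4,0,3,1],[3,1,4,0,3,1],[4,1,4,0,3,1],[1,2,4,0,3,1],[4,2,4,0,3,1],[1,3,4,0,3,1],[2,4,4,0,3,1],[1,4,5,0,3,1],[5,4,5,0,3,1],[4,5,2,1,3,1],[5,0,4,1,3,1],[3,5,4,1,3,1],[0,3,5,1,3,1],[2,3,5,1,3,1],[5,3,5,1,3,1],[1,4,5,1,3,1],[0,4,1,2,3,1],[5,4,1,2,3,1],[3,5,1,2,3,1],[4,5,1,2,3,1],[4,0,3,2,3,1],[0,3,5,2,3,1],[2,3,5,2,3,1],[4,3,5,2,3,1],[2,4,5,2,3,1],[4,4,5,2,3,1],[3,2,0,4,3,1],[5,2,0,4,3,1],[3,5,2,4,3,1],[2,1,4,5,3,1],[1,2,4,5,3,1],[2,4,4,5,3,1],[4,1,0,3,1,2],[5,1,0,3,1,2],[4,2,0,3,1,2],[5,2,0,3,1,2],[2,4,0,3,1,2],[4,4,0,3,1,2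],[3,5,1,3,1,2],[1,4,5,3,1,2],[2,4,5,3,1,2],[4,2,1,0,3,2],[5,2,1,0,3,2],[0,3,1,0,3,2],[1,3,1,0,3,2],[5,3,1,0,3,2],[1,4,1,0,3,2],[4,1,2,0,3,2],[5,1,2,0,3,2],[2,4,2,0,3,2],[4,4,2,0,3,2],[1,2,4,0,3,2],[3,2,4,0,3,2],[3,5,2,1,3,2],[4,5,1,2,3,2],[0,3,5,2,3,2],[1,3,5,2,3,2],[3,5,1,4,3,2],[2,1,4,5,3,2],[1,2,4,5,3,2],[0,4,1,0,3,2,1],[1,4,1,0,3,2,1],[2,4,1,0,3,2,1],[4,4,1,0,3,2,1],[2,3,2,0,3,2,1],[4,3,2,0,3,2,1],[5,3,2,0,3,2,1],[0,4,2,0,3,2,1],[1,4,2,0,3,2,1],[4,4,2,0,3,2,1],[1,0,4,0,3,2,1],[3,0,4,0,3,2,1],[4,1,4,0,3,2,1],[4,2,4,0,3,2,1],[1,3,4,0,3,2,1],[2,3,4,0,3,2,1],[1,4,5,0,3,2,1],[5,4,5,0,3,2,1],[1,4,5,1,3,2,1],[4,4,5,1,3,2,1],[5,0,3,2,3,2,1],[3,5,3,2,3,2,1],[0,3,5,2,3,2,1],[2,3,5,2,3,2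,1],[4,3,5,2,3,2,1],[2,4,5,2,3,2,1],[4,4,5,2,3,2,1],[2,3,5,4,3,2,1],[5,0,3,2,4,2,1],[0,4,2,1,0,3,1],[2,4,2,1,0,3,1],[4,4,2,1,0,3,1],[1,2,4,1,0,3,1],[2,3,1,2,0,3,1],[0,4,1,2,0,3,1],[2,4,1,2,0,3,1],[2,0,3,2,0,3,1],[1,2,3,2,0,3,1],[5,2,3,2,0,3,1],[2,0,4,2,0,3,1],[4,2,4,2,0,3,1],[2,1,0,4,0,3,1],[1,2,0,4,0,3,1],[2,3,1,4,0,3,1],[4,1,2,4,0,3,1],[2,4,5,2,1,3,1],[4,4,5,2,1,3,1],[2,0,3,5,1,3,1],[3,2,3,5,1,3,1],[3,1,4,5,1,3,1],[5,3,5,1,2,3,1],[4,4,5,1,2,3,1],[2,4,0,3,2,3,1],[2,0,3,5,2,3,1],[1,4,4,5,2,3,1],[1,3,2,0,4,3,1],[2,3,2,0,4,3,1],[5,3,5,2,4,3,1],[4,2,1,4,5,3,1],[4,1,2,4,5,3,1],[2,4,2,0,3,1,2],[0,3,5,1,3,1,2],[4,4,2,1,0,3,2],[1,0,3,1,0,3,2],[5,1,3,1,0,3,2],[1,3,2,4,0,3,2]]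

/-- Generators of base stabiliser 2 -/
def kGen2 : List (List Nat) :=
  [[4],[0,1,2,3,2,1,0],[2,1,0,1,2,0,2,5,0,1,2,3,2,1,0,2,1,0,1,2,5,2,1,2,3,2,1,0,5,2,1,2,3,2,1,0,5,2,0],[0,2,5,0,1,2,3,2,1,2,5,0,1,2,3,2,1,2,5,2,1,0,1,2,0,1,2,3,2,1,0,5,2,0,2,1,0,1,2,4,0,1,2,3,2,1,0,4,2,1,0,1,2,0,2,5,0,1,2,3,2,1,0,2,1,0,1,2,5,2,1,2,3,2,1,0,5,2,1,2,3,2,1,0,5,2,0],[2,1,0,1,2,0,2,5,0,1,2,3,2,1,0,2,1,0,1,2,5,2,1,2,3,2,1,0,5,2,1,2,3,2,1,0,5,2,1,2,3,2,1,0,2,1,0,1,2,0,2,5,0,1,2,3,2,1,0,2,1,0,1,2,5,2,1,2,3,2,1,0,5,2,1,2,3,2,1,0,5,2,1,2,3,2,1,0]]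

/-- Transversal of base stabiliser 2 -/
def kIx2 : List (List Nat) :=
  [[],[1],[2],[0,1],[2,1],[3,1],[0,2],[1,2],[2,2],[3,2],[2,0,1],[3,0,1],[0,2,1],[1,2,1],[2,2,1],[3,2,1],[2,3,1],[2,0,2],[3,0,2],[0,2,2],[1,2,2],[2,2,2],[3,2,2],[2,3,2],[0,2,0,1],[1,2,0,1],[2,2,0,1],[3,2,0,1],[2,3,0,1],[1,0,2,1],[2,0,2,1],[3,0,2,1],[0,1,2,1],[3,1,2,1],[0,2,2,1],[1,2,2,1],[2,2,2,1],[3,2,2,1],[1,3,2,1],[2,3,2,1],[2,2,3,1],[3,2,3,1],[0,2,0,2],[1,2,0,2],[2,2,0,2],[3,2,0,2],[2,3,0,2],[1,0,2,2],[2,0,2,2],[3,0,2,2],[0,1,2,2],[3,1,2,2],[0,2,2,2],[1,2,2,2],[2,2,2,2],[3,2,2,2],[1,3,2,2],[2,3,2,2],[2,2,3,2],[3,2,3,2],[1,0,2,0,1],[2,0,2,0,1],[3,0,2,0,1],[4,0,2,0,1],[0,2,2,0,1],[1,2,2,0,1],[3,2,2,0,1],[4,2,2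,0,1],[2,3,2,0,1],[3,2,3,0,1],[2,1,0,2,1],[0,2,0,2,1],[1,2,0,2,1],[2,2,0,2,1],[3,2,0,2,1],[2,3,0,2,1],[1,0,2,2,1],[2,0,2,2,1],[3,0,2,2,1],[0,1,2,2,1],[3,1,2,2,1],[1,2,2,2,1],[2,2,2,2,1],[1,3,2,2,1],[2,3,2,2,1],[2,1,3,2,1],[2,2,3,2,1],[3,2,3,2,1],[0,2,2,3,1],[1,2,2,3,1],[3,2,2,3,1],[2,3,2,3,1],[1,0,2,0,2],[2,0,2,0,2],[3,0,2,0,2],[4,0,2,0,2],[0,2,2,0,2],[1,2,2,0,2],[4,2,2,0,2],[2,3,2,0,2],[3,2,3,0,2],[2,1,0,2,2],[0,2,0,2,2],[1,2,0,2,2],[2,2,0,2,2],[3,2,0,2,2],[2,3,0,2,2],[1,0,2,2,2],[2,0,2,2,2],[3,0,2,2,2],[0,1,2,2,2],[3,1,2,2,2],[1,3,2,2,2],[2,3,2,2,2],[2,1,3,2,2],[2,2,3,2,2],[3,2,3,2,2],[0,2,2,3,2],[1,2,2,3,2],[3,2,2,3,2],[2,1,0,2,0,1],[0,2,0,2,0,1],[1,2,0,2,0,1],[3,2,0,2,0,1],[4,2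,0,2,0,1],[2,3,0,2,0,1],[2,4,0,2,0,1],[3,0,2,2,0,1],[4,0,2,2,0,1],[0,1,2,2,0,1],[3,1,2,2,0,1],[1,3,2,2,0,1],[2,3,2,2,0,1],[4,3,2,2,0,1],[1,4,2,2,0,1],[3,4,2,2,0,1],[2,2,3,2,0,1],[1,2,1,0,2,1],[2,2,1,0,2,1],[1,0,2,0,2,1],[2,0,2,0,2,1],[3,0,2,0,2,1],[4,0,2,0,2,1],[4,2,2,0,2,1],[3,2,3,0,2,1],[0,2,0,2,2,1],[1,2,1,3,2,1],[2,2,1,3,2,1],[1,2,2,3,2,1],[1,0,2,2,3,1],[2,0,2,2,3,1],[3,0,2,2,3,1],[3,1,2,2,3,1],[1,3,2,2,3,1],[3,2,0,2,0,2],[3,1,2,2,0,2],[3,4,2,2,0,2],[1,0,2,0,2,2],[3,2,3,0,2,2],[0,2,0,2,2,2]]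

/-- An element of the base stabiliser not centralising the fifth letter -/
def kOut : List Nat :=
  [2,1,0,1,2,0,2,5,0,1,2,3,2,1,0,2,1,0,1,2,5,2,1,2,3,2,1,0,5,2,1,2,3,2,1,0,5,2,1,2,3,2,1,0,2,1,0,1,2,0,2,5,0,1,2,3,2,1,0,2,1,0,1,2,5,2,1,2,3,2,1,0,5,2,1,2,3,2,1,0,5,2,1,2,3,2,1,0]

/-- A second involution fixing the fixed points -/
def vWord : List Nat :=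
  [3,2,3,2,1,3,2,3,2,1,3,2,3,2,1,3,2,3,2,1,3,2,3,2,1,4,1,2,3,2,3,1,2,3,2,3,1,2,3,2,3,1,2,3,2,3,1,2,3,2,3]

end Cfsg.Agent.SuzInvol76Data
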