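import Cfsg.Agent.Lib.SuzInvol76Cert
import Cfsg.Agent.Lib.SuzInvol76Data

/-!
Checks of the word data for the involution centralisers of Suz.
-/

set_option autoImplicit false
set_option maxRecDepth 100000
set_option Elab.async false

namespace Cfsg.Agent.SuzInvol76

open Cfsg.Agent.CosetCertCore Cfsg.Agent.CosetCertTable
open Cfsg.Agent.SuzRankThree84 Cfsg.Agent.SuzInvol76Data

/-- The listed words commute with a word. -/
noncomputable def commB (S : List (List Nat)) (c : List Nat) : Bool :=
  okS S && ok7 c && S.all fun w => Nat.beq (code (w ++ c)) (code (c ++ w))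

/-- The listed words are closed under products. -/
noncomputable def grpB (S : List (List Nat)) : Bool :=
  let cs := S.map code
  okS S && cs.contains (code []) && nd cs && S.all fun u => S.all fun v => cs.contains (code (u ++ v))

/-- The listed words only use letters of the Levi group. -/
def letB (S : List (List Nat)) : Bool := S.all fun w => w.all fun i => lGen0.contains [i]

/-- The conjugate of the first letter by a word. -/
def cw (r : List Nat) : List Nat := r ++ [0] ++ r.reverse

/-- The codes of the conjugates of the first letter. -/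
noncomputable def clsCodes : List Nat := aConj.map fun r => code (cw r)

/-- The orbit of the origin. -/
noncomputable def lOrb : List Nat := lIx0.map fun ix => app (wd lGen0 ix) 0

/-- The number of fixed points in the orbit of the origin. -/
noncomputable def countB (w : List Nat) : Nat := (lOrb.filter fun p => Nat.beq (app w p) p).length

theorem ca_stages : stageB caGen0 caGen1 0 caIx0 = true ∧ stageB caGen1 caGen2 310 caIx1 = true ∧
    stageB caGen2 caGen3 3 caIx2 = true ∧ stageB caGen3 caGen4 8 caIx3 = true ∧
    stageB caGen4 [] 4 caIx4 = true := by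
  refine ⟨?_, ?_, ?_, ?_, ?_⟩ <;> decide +kernel

theorem ca_len : caIx0.length = 54 ∧ caIx1.length = 320 ∧ caIx2.length = 16 ∧ caIx3.length = 4 ∧
    caIx4.length = 3 := by decide +kernel

theorem ca_comm : commB caGen0 [0] = true := by decide +kernel

theorem l_stages : stageB lGen0 lGen1 0 lIx0 = true ∧ stageB lGen1 lGen2 1 lIx1 = true ∧
    stageB lGen2 lGen3 2 lIx2 = true ∧ stageB lGen3 [] 3 lIx3 = true := by
  refine ⟨?_, ?_, ?_, ?_⟩ <;> decide +kernel

theorem l_sifts : siftB lGen0 lGen1 lIx0 lSift0 = true ∧ siftB lGen1 lGen2 lIx1 lSift1 = true ∧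
    siftB lGen2 lGen3 lIx2 lSift2 = true ∧ siftB lGen3 [] lIx3 lSift3 = true := by
  refine ⟨?_, ?_, ?_, ?_⟩ <;> decide +kernel

theorem l_len : lIx0.length = 21 ∧ lIx1.length = 20 ∧ lIx2.length = 16 ∧ lIx3.length = 3 := by
  decide +kernel

theorem l_comm : commB lGen0 [4] = true := by decide +kernel

theorem cls_ok : okS aConj = true ∧ letB aConj = true ∧ lGen0.contains [0] = true ∧
    nd clsCodes = true ∧ aConj.length = 315 := by
  refine ⟨?_, ?_, ?_, ?_, ?_⟩ <;> decide +kernel

theorem comm_conj_ok : (aConj.any fun r => !Nat.beq (code (cw r)) (code [0]) &&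
    Nat.beq (code (cw r ++ [0])) (code ([0] ++ cw r))) = true := by decide +kernel

theorem tw_ok : grpB twElts = true ∧ letB twElts = true ∧ twElts.length = 64 := by
  refine ⟨?_, ?_, ?_⟩ <;> decide +kernel

theorem tw_invol : (twElts.all fun w => Nat.beq (code w) (code []) ||
    !Nat.beq (code (w ++ w)) (code []) || clsCodes.contains (code w)) = true := by decide +kernel

theorem th_ok : grpB thElts = true ∧ letB thElts = true ∧ thElts.length = 9 := by
  refine ⟨?_, ?_, ?_⟩ <;> decide +kernel

theorem th_count : (thElts.all fun w => Nat.beq (code w) (code []) || Nat.beq (countB w) 3) = true := by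
  decide +kernel

theorem five_ok : letB [five] = true ∧ okS [five] = true ∧ code five ≠ code [] ∧
    code (five ++ five ++ five ++ five ++ five) = code [] ∧ countB five = 1 := by
  refine ⟨?_, ?_, ?_, ?_, ?_⟩ <;> decide +kernel

theorem seven_ok : letB [seven] = true ∧ okS [seven] = true ∧ code seven ≠ code [] ∧
    code (seven ++ seven ++ seven ++ seven ++ seven ++ seven ++ seven) = code [] ∧
    countB seven = 0 := by
  refine ⟨?_, ?_, ?_, ?_, ?_⟩ <;> decide +kernel

/-! ### The centraliser of the fifth letter -/

theorem fixE_ok : allFrom (fun i => fixE.contains i == Nat.beq (app [4] i) i) 1782 0 = true ∧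
    nd fixE = true ∧ fixE.length = 42 := by
  refine ⟨?_, ?_, ?_⟩ <;> decide +kernel

theorem fixA_ok : allFrom (fun i => fixA.contains i == Nat.beq (app [0] i) i) 1782 0 = true ∧
    nd fixA = true ∧ fixA.length = 54 := by
  refine ⟨?_, ?_, ?_⟩ <;> decide +kernel

/-- The candidates for the image of a point under elements fixing some base points. -/
noncomputable def cands (pre : List (List Nat)) (v : Nat) : List Nat :=
  fixE.filter fun j => pre.all fun w => Nat.beq (lab (app w j)) (lab (app w v))

/-- A word moves a point to the origin. -/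
noncomputable def zeroB (w : List Nat) (b : Nat) : Bool := ok7 w && Nat.beq (app w b) 0

theorem toZero_ok : zeroB (toZero.getD 0 []) 0 = true ∧ zeroB (toZero.getD 1 []) 315 = true ∧
    zeroB (toZero.getD 2 []) 19 = true := by
  refine ⟨?_, ?_, ?_⟩ <;> decide +kernel

theorem cands_len : [0, 315, 19, 437].all (fun v => fixE.contains v) = true ∧
    (cands [] 0).length = 42 ∧ (cands [toZero.getD 0 []] 315).length = 16 ∧
    (cands [toZero.getD 1 [], toZero.getD 0 []] 19).length = 15 ∧
    (cands [toZero.getD 2 [], toZero.getD 1 [], toZero.getD 0 []] 437).length = 4 := by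
  refine ⟨?_, ?_, ?_, ?_, ?_⟩ <;> decide +kernel

theorem k_orbs : (orbOK kGen0 315 kIx0 && fixB kGen0 [0]) = true ∧
    (orbOK kGen1 19 kIx1 && fixB kGen1 [315, 0]) = true ∧
    (orbOK kGen2 437 kIx2 && fixB kGen2 [19, 315, 0]) = true ∧
    kIx0.length = 416 ∧ kIx1.length = 315 ∧ kIx2.length = 160 := by
  refine ⟨?_, ?_, ?_, ?_, ?_, ?_⟩ <;> decide +kernel

theorem kOut_ok : fixB [kOut] [437, 19, 315, 0] = true ∧
    code (kOut ++ [4]) ≠ code ([4] ++ kOut) := by
  refine ⟨?_, ?_⟩ <;> decide +kernel

theorem v_ok : fixB [vWord] [437, 19, 315, 0] = true ∧ fixB [[4]] [437, 19, 315, 0] = true ∧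
    code (vWord ++ [4]) = code ([4] ++ vWord) ∧ code (vWord ++ vWord) = code [] ∧
    code vWord ≠ code [] ∧ code vWord ≠ code [4] ∧ code [4] ≠ code [] ∧
    code ([4] ++ [4]) = code [] := by
  refine ⟨?_, ?_, ?_, ?_, ?_, ?_, ?_, ?_⟩ <;> decide +kernel

end Cfsg.Agent.SuzInvol76
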