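import Cfsg.Agent.Lib.SuzTypeClasses62

/-!
# Fusion of the central involution inside a subgroup containing its centraliser

In a group of Suzuki sporadic type a subgroup containing `C(z)` that conjugates `z` to a further
element of `C(z)` conjugates `z` to a further element of `Q`.
-/

set_option autoImplicit false

namespace Cfsg.Agent.SuzTypeRadical62

open Subgroup Cfsg.Agent.LargeExtraspecial Cfsg.Agent.LargeExtraspecialPair
open Cfsg.Agent.SuzTypeModel62 Cfsg.Agent.SuzTypeCoord62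

variable {G : Type*} [Group G] [Finite G]

namespace Ctx

variable {Q Q' : Subgroup G} {z t : G} {ν : G → M4} {d : G}
  {ρ : ↥(Sx z t) →* Equiv.Perm (Fin 5)} (D : Ctx Q Q' z t ν d ρ)
include D

/-- An involution commuting with `z` is moved into `R` by the centraliser of `z`. -/
theorem into_R_cent {x : G} (hxz : x * z = z * x) (hxx : x * x = 1) :
    ∃ c, c * z = z * c ∧ c * x * c⁻¹ ∈ D.P.R := by
  obtain ⟨t', ht', htx, hcase⟩ := D.exists_sing_comm hxz hxx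
  obtain ⟨c, hcz, hct⟩ := D.H.transitive ht' D.sing
  refine ⟨c, hcz, ?_⟩
  set y := c * x * c⁻¹ with hy
  have hyy : y * y = 1 := by
    calc y * y = c * (x * x) * c⁻¹ := by rw [hy]; group
      _ = 1 := by rw [hxx]; group
  have hyS : y ∈ Sx z t := by
    refine mem_Sx.mpr ⟨?_, ?_⟩
    · have h1 : Commute c z := hcz
      exact ((h1.mul_left hxz).mul_left h1.inv_left).eq
    · rw [hy, ← hct]
      calc c * x * c⁻¹ * (c * t' * c⁻¹) = c * (x * t') * c⁻¹ := by group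
        _ = c * (t' * x) * c⁻¹ := by rw [htx]
        _ = c * t' * c⁻¹ * (c * x * c⁻¹) := by group
  have hcC : c ∈ centralizer ({z} : Set G) := mem_centralizer_singleton_iff.mpr hcz
  have hciC : c⁻¹ ∈ centralizer ({z} : Set G) := inv_mem hcC
  refine D.mem_R_iff.mp ((D.rho_eq_one (c := ⟨y, hyS⟩)).mp ?_)
  set σ := ρ ⟨y, hyS⟩ with hσ
  have hσ2 : σ * σ = 1 := by
    rw [hσ, ← map_mul, show (⟨y, hyS⟩ : ↥(Sx z t)) * ⟨y, hyS⟩ = 1 from Subtype.ext hyy, map_one]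
  rcases perm_two σ hσ2 with e | ⟨i, j, hij, e⟩ | ⟨⟨v, i, hv⟩, hfix⟩
  · exact e
  · have := D.sign_rho ⟨y, hyS⟩
    rw [← hσ, e, Equiv.Perm.sign_swap hij] at this
    exact absurd this (by decide)
  exfalso
  have key : ∀ a ∈ Cx Q t, y * a * y⁻¹ * a⁻¹ ∈ Cx Q t ∧
      ν (y * a * y⁻¹ * a⁻¹) = act σ (ν a) + ν a := fun a ha => by
    have hm := D.H.conj_Cx hyS ha
    refine ⟨mul_mem hm (inv_mem ha), ?_⟩
    rw [D.K.add _ hm _ (inv_mem ha), D.H.nu_inv D.sing D.K ha, hσ, D.hρ ⟨y, hyS⟩ a ha]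
  rcases hcase with ⟨q₀, hq₀, hq⟩ | hno
  · set q := c * q₀ * c⁻¹ with hqd
    have hqQ : q ∈ Q := D.H.h.norm c hcz q₀ hq₀
    have hqt : q * y * q⁻¹ * y⁻¹ = t := by
      rw [← hct, ← hq, hqd, hy]; group
    have h1 : y * q⁻¹ * y⁻¹ = q⁻¹ * t := by
      rw [← hqt]; group
    have h2 : y * q * y⁻¹ = t * q := by
      calc y * q * y⁻¹ = (y * q⁻¹ * y⁻¹)⁻¹ := by group
        _ = t * q := by rw [h1, mul_inv_rev, inv_inv, D.P.h'.toExt.inv_z]
    have h3 : t * q * t = q := by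
      have : y * (q * q) * y⁻¹ = q * q := by
        rcases D.H.h.sq q hqQ with e | e <;> rw [e]
        · group
        · rw [(mem_Sx.mp hyS).1, mul_inv_cancel_right]
      rw [show y * (q * q) * y⁻¹ = (y * q * y⁻¹) * (y * q * y⁻¹) by group, h2,
        show t * q * (t * q) = t * q * t * q by group] at this
      exact mul_right_cancel this
    have hqC : q ∈ Cx Q t := mem_Cx.mpr ⟨hqQ, by
      conv_lhs => rw [← h3]
      rw [mul_assoc (t * q) t t, D.sing.2.1, mul_one]⟩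
    have hσq : act σ (ν q) = ν q := by
      rw [hσ, D.hρ ⟨y, hyS⟩ q hqC, h2, D.K.add _ (D.H.x_mem D.sing) q hqC,
        (D.K.ker t (D.H.x_mem D.sing)).mpr (Or.inr (Or.inr (Or.inl rfl))), zero_add]
    obtain ⟨v', hv'⟩ := hfix _ hσq
    obtain ⟨a, ha, rfl⟩ := D.K.surj v'
    obtain ⟨hm, hνm⟩ := key a ha
    set m := y * a * y⁻¹ * a⁻¹ with hmd
    have hu : InU z t (q * m⁻¹) :=
      (D.H.nu_eq D.sing D.K hqC hm).mp (by rw [hνm, hv'])
    have hym : y * m * y⁻¹ = m⁻¹ := by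
      calc y * m * y⁻¹ = (y * y) * a * (y * y)⁻¹ * (y * a * y⁻¹)⁻¹ := by rw [hmd]; group
        _ = m⁻¹ := by rw [hyy, hmd]; group
    have hyq : y * q * y⁻¹ = (q * m⁻¹) * m⁻¹ := by
      calc y * q * y⁻¹ = (y * (q * m⁻¹) * y⁻¹) * (y * m * y⁻¹) := by group
        _ = _ := by rw [D.H.U_comm D.sing hu hyS, mul_inv_cancel_right, hym]
    rw [h2] at hyq
    have hmm : t = m⁻¹ * m⁻¹ := by
      have hqm : Commute (q * m⁻¹) (m⁻¹ * m⁻¹) := by
        have := (show Commute m (q * m⁻¹) from D.H.U_comm D.sing hu (D.H.Cx_le_Sx hm)).inv_left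
        exact (this.mul_left this).symm
      calc t = ((q * m⁻¹) * m⁻¹) * q⁻¹ := by rw [← hyq, mul_inv_cancel_right]
        _ = ((q * m⁻¹) * (m⁻¹ * m⁻¹)) * (q * m⁻¹)⁻¹ := by group
        _ = m⁻¹ * m⁻¹ := by rw [hqm.eq, mul_inv_cancel_right]
    rcases D.H.h.sq m⁻¹ (mem_Cx.mp (inv_mem hm)).1 with e | e <;> rw [e] at hmm
    exacts [D.sing.2.2.1 hmm, D.sing.2.2.2 hmm]
  · obtain ⟨a, ha, rfl⟩ := D.K.surj v
    obtain ⟨hm, hνm⟩ := key a ha
    set m := y * a * y⁻¹ * a⁻¹ with hmd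
    rw [hv] at hνm
    have hms : Sing Q z m := by
      refine ⟨(mem_Cx.mp hm).1, by rw [D.K.sq m hm, hνm, f_pt, zp_zero], fun e => pt_ne i ?_,
        fun e => pt_ne i ?_⟩
      · rw [← hνm, e]; exact D.H.nu_one D.sing D.K
      · rw [← hνm, e]; exact (D.K.ker z (D.H.z_mem D.sing)).mpr (Or.inr (Or.inl rfl))
    have ha0 : c⁻¹ * a * c ∈ Q := by
      have := D.H.h.norm c⁻¹ (mem_centralizer_singleton_iff.mp hciC) a (mem_Cx.mp ha).1
      rwa [inv_inv] at this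
    refine hno _ ha0 ?_
    have hc' := D.H.conj_sing hciC hms
    have e : c⁻¹ * m * c⁻¹⁻¹ = c⁻¹ * a * c * x * (c⁻¹ * a * c)⁻¹ * x⁻¹ := by
      calc c⁻¹ * m * c⁻¹⁻¹ = c⁻¹ * m⁻¹ * c := by
            rw [inv_eq_of_mul_eq_one_right hms.2.1, inv_inv]
        _ = _ := by rw [hmd, hy]; group
    rwa [e] at hc'

/-- An element of `R` outside `Q` of the class of `z` is moved into `Q'` inside the centraliser. -/
theorem to_Q'_cent {a₀ b₀ : G} (ha₀ : a₀ ∈ Cx Q t) (hb₀ : b₀ ∈ Cx Q' z) (hα : ν a₀ = α₀)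
    (hβ : ev ν d b₀ = β₀) {r : G} (hr : r ∈ D.P.R) (hrr : r * r = 1) (hrQ : r ∉ Q)
    (hrz : IsConj r z) : ∃ c, c * z = z * c ∧ c * r * c⁻¹ ∈ Q' := by
  obtain ⟨a, ha, b, hb, rfl⟩ := D.decomp hr
  rw [D.sq_R ha hb, ← vv_zero z t] at hrr
  have h := D.vv_inj hrr
  simp only [Prod.ext_iff, Prod.fst_zero, Prod.snd_zero] at h
  have hf1 : f (ν a) = B (ν a) (ev ν d b) := eq_of_two h.1
  have hf2 : f (ev ν d b) = B (ν a) (ev ν d b) := eq_of_two h.2
  have hr2 : (a * b) * (a * b) = 1 := by rw [D.sq_R ha hb, hrr, vv_zero]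
  rcases two_eq (B (ν a) (ev ν d b)) with hB | hB
  · rw [hB] at hf1 hf2
    rcases zero_cases _ _ hf1 hf2 hB with e | e | e
    · have haV : a ∈ Cx Q' z := D.V_le_C' (D.inU_iff.mp ((D.K.ker a ha).mp e))
      exact ⟨1, by simp, by simpa using (mem_Cx.mp (mul_mem haV hb)).1⟩
    · have hbV : b ∈ Cx Q t := D.V_le_Cx ((D.ev_eq_zero hb).mp e)
      exact absurd (mem_Cx.mp (mul_mem ha hbV)).1 hrQ
    · obtain ⟨a₁, ha₁, he₁, hd₁⟩ := D.d_conj_C' hb
      have hv : a * a₁⁻¹ ∈ D.P.V :=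
        D.inU_iff.mp ((D.H.nu_eq D.sing D.K ha ha₁).mp (by rw [he₁, e]))
      have hw : d⁻¹ * (a * b) * d ∈ Q' := by
        rw [show d⁻¹ * (a * b) * d = (d⁻¹ * (a * a₁⁻¹) * d) * (d⁻¹ * (a₁ * b) * d) by group, ← hd₁,
          show d⁻¹ * (d * b * d⁻¹) * d = b by group]
        exact Q'.mul_mem (mem_Cx.mp (D.V_le_C' (D.d_inv_V hv))).1 (mem_Cx.mp hb).1
      exact ⟨d⁻¹, (show Commute d z from D.H.h.comm d D.hd).inv_left.eq, by rwa [inv_inv]⟩
  · rw [hB] at hf1 hf2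
    obtain ⟨σ, hσ, hσa, hσb⟩ := even_transitive hf1 hf2 hB
    obtain ⟨c, rfl⟩ := D.exists_rho_eq hσ
    rw [← hα, D.hρ c a₀ ha₀] at hσa
    rw [← hβ, ← D.ev_conj hb₀] at hσb
    set a' := (c : G) * a₀ * (c : G)⁻¹ with ha'
    set b' := (c : G) * b₀ * (c : G)⁻¹ with hb'
    have ha'm : a' ∈ Cx Q t := D.H.conj_Cx c.2 ha₀
    have hb'm : b' ∈ Cx Q' z := D.conj_C' c.2 hb₀
    have hva : a * a'⁻¹ ∈ D.P.V :=
      D.inU_iff.mp ((D.H.nu_eq D.sing D.K ha ha'm).mp hσa.symm)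
    have hvb : b * b'⁻¹ ∈ D.P.V := by
      have hbi : ev ν d b'⁻¹ = ev ν d b' := by
        have := D.ev_mul (D.triv_of_R (D.C'_le_R hb'm)) (D.C'_le_Sx (inv_mem hb'm))
        rw [mul_inv_cancel, D.ev_one] at this
        exact eq_of_add this.symm
      refine (D.ev_eq_zero (mul_mem hb (inv_mem hb'm))).mp ?_
      rw [D.ev_mul (D.triv_of_R (D.C'_le_R hb)) (D.C'_le_Sx (inv_mem hb'm)), hbi, hσb, add_self]
    obtain ⟨p, hp⟩ := D.vv_surj (mul_mem hva hvb)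
    have hab : a * b = (c : G) * (vv z t p * (a₀ * b₀)) * (c : G)⁻¹ := by
      have hc := D.vv_comm_Sx p c.2
      have h1 : Commute a' (b * b'⁻¹) := D.P.V_comm (D.Cx_le_R ha'm) hvb
      calc a * b = (a * a'⁻¹) * (a' * (b * b'⁻¹)) * b' := by group
        _ = ((a * a'⁻¹) * (b * b'⁻¹)) * (a' * b') := by rw [h1.eq]; group
        _ = (vv z t p * (c : G)) * (a₀ * b₀) * (c : G)⁻¹ := by rw [hp, ha', hb']; group
        _ = _ := by rw [← hc]; group
    obtain ⟨α, h1, h2⟩ := dual_surj p.1 p.2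
    obtain ⟨a₂, ha₂, rfl⟩ := D.K.surj α
    have hcm := D.comm_R ha₂ (one_mem (Cx Q' z)) ha₀ hb₀
    rw [mul_one, D.ev_one, hα, hβ,
      show cm (ν a₂, 0) (α₀, β₀) = p by
        simp only [cm, B_zero_left, B_zero_right, add_zero]; rw [h1, h2]] at hcm
    refine absurd (hrz.symm.trans (isConj_iff.mpr ⟨a₂⁻¹ * (c : G)⁻¹, ?_⟩)) (D.not_conj ha₀ hb₀ hα hβ)
    rw [hab, ← hcm]
    group

end Ctx

/-- Fusion of `z` into `Q` happens inside any subgroup containing `C(z)` in which `z` is not isolated. -/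
theorem fus_of_fus_cent {Q : Subgroup G} {z : G} (H : Hyp Q z)
    (fus : ∃ g : G, g * z * g⁻¹ ∈ Q ∧ g * z * g⁻¹ ≠ z) (K : Subgroup G)
    (hC : centralizer ({z} : Set G) ≤ K) {h : G} (hh : h ∈ K)
    (hcomm : h * z * h⁻¹ * z = z * (h * z * h⁻¹)) (hne : h * z * h⁻¹ ≠ z) :
    ∃ g ∈ K, g * z * g⁻¹ ∈ Q ∧ g * z * g⁻¹ ≠ z := by
  by_cases hxQ : h * z * h⁻¹ ∈ Q
  · exact ⟨h, hh, hxQ, hne⟩
  obtain ⟨g₀, hg₀Q, hg₀z⟩ := fus
  obtain ⟨Q', t, htQ, htne, ν, d, ρ, D⟩ : ∃ (Q' : Subgroup G) (t : G), t ∈ Q ∧ t ≠ z ∧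
      ∃ ν d ρ, Ctx Q Q' z t ν d ρ := ⟨_, _, hg₀Q, hg₀z, exists_ctx H hg₀Q hg₀z⟩
  have hmem : ∀ {c : G}, c * z = z * c → c ∈ K := fun hc => hC (mem_centralizer_singleton_iff.mpr hc)
  have hzz : z * z = 1 := H.h.zz
  -- move the conjugate into `R`
  obtain ⟨c, hcz, hcR⟩ := D.into_R_cent hcomm (by
    calc h * z * h⁻¹ * (h * z * h⁻¹) = h * (z * z) * h⁻¹ := by group
      _ = 1 := by rw [hzz]; group)
  have hnQ : ∀ {c x : G}, c * z = z * c → x ∉ Q → c * x * c⁻¹ ∉ Q := fun {c x} hc hx hm => hx (by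
    have h1 := H.h.norm c⁻¹ (show Commute c z from hc).inv_left.eq _ hm
    rwa [show c⁻¹ * (c * x * c⁻¹) * c⁻¹⁻¹ = x by group] at h1)
  obtain ⟨a₀, ha₀, b₀, hb₀, hα, hβ, -, -⟩ := D.exists_y
  obtain ⟨c', hc'z, hc'Q⟩ := D.to_Q'_cent ha₀ hb₀ hα hβ hcR
    (by
      calc c * (h * z * h⁻¹) * c⁻¹ * (c * (h * z * h⁻¹) * c⁻¹) = c * h * (z * z) * h⁻¹ * c⁻¹ := by group
        _ = 1 := by rw [hzz]; group)
    (hnQ hcz hxQ) (isConj_iff.mpr ⟨(c * h)⁻¹, by group⟩)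
  set k := c' * c * h with hk
  have hkK : k ∈ K := mul_mem (mul_mem (hmem hc'z) (hmem hcz)) hh
  set y := k * z * k⁻¹ with hy
  have hyQ' : y ∈ Q' := by
    rw [hy, hk, show c' * c * h * z * (c' * c * h)⁻¹ = c' * (c * (h * z * h⁻¹) * c⁻¹) * c'⁻¹ by group]
    exact hc'Q
  have hynQ : y ∉ Q := by
    rw [hy, hk, show c' * c * h * z * (c' * c * h)⁻¹ = c' * (c * (h * z * h⁻¹) * c⁻¹) * c'⁻¹ by group]
    exact hnQ hc'z (hnQ hcz hxQ)
  have hyz : y * z = z * y := by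
    have h1 : Commute (h * z * h⁻¹) z := hcomm
    have h2 : Commute c z := hcz
    have h3 : Commute c' z := hc'z
    rw [hy, hk, show c' * c * h * z * (c' * c * h)⁻¹ = c' * (c * (h * z * h⁻¹) * c⁻¹) * c'⁻¹ by group]
    exact ((h3.mul_left ((h2.mul_left h1).mul_left h2.inv_left)).mul_left h3.inv_left).eq
  -- elements commuting with `y` lie in the subgroup
  have hcy : ∀ r : G, r * y = y * r → r ∈ K := fun r hr => by
    have h1 : k⁻¹ * r * k ∈ K := hmem (by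
      have : k⁻¹ * (r * y) * k = k⁻¹ * (y * r) * k := by rw [hr]
      rw [hy] at this
      calc k⁻¹ * r * k * z = k⁻¹ * (r * (k * z * k⁻¹)) * k := by group
        _ = k⁻¹ * (k * z * k⁻¹ * r) * k := this
        _ = z * (k⁻¹ * r * k) := by group)
    have := mul_mem (mul_mem hkK h1) (inv_mem hkK)
    rwa [show k * (k⁻¹ * r * k) * k⁻¹ = r by group] at this
  have hzQ' : z ∈ Q' := D.P.zQ'
  obtain ⟨q, hq, hqz⟩ := D.P.h'.partner z hzQ' H.h.ne_one htne.symm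
  obtain ⟨r, hr, hrz, hry⟩ : ∃ r ∈ Q', r * z * r⁻¹ = t * z ∧ r * y = y * r := by
    rcases D.P.h'.conj q hq y hyQ' with hqy | hqy
    · exact ⟨q, hq, hqz, mul_inv_eq_iff_eq_mul.mp hqy⟩
    by_contra hcon
    have hbad : ∀ b ∈ Q', b * z = z * b → b * y = y * b := by
      intro b hb hbz
      rcases D.P.h'.conj b hb y hyQ' with e | e
      · exact mul_inv_eq_iff_eq_mul.mp e
      refine absurd ⟨q * b, mul_mem hq hb, ?_, ?_⟩ hcon
      · calc q * b * z * (q * b)⁻¹ = q * (b * z * b⁻¹) * q⁻¹ := by group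
          _ = q * z * q⁻¹ := by rw [mul_inv_eq_iff_eq_mul.mpr hbz]
          _ = t * z := hqz
      · refine mul_inv_eq_iff_eq_mul.mp ?_
        calc q * b * y * (q * b)⁻¹ = q * (b * y * b⁻¹) * q⁻¹ := by group
          _ = (q * t * q⁻¹) * (q * y * q⁻¹) := by rw [e]; group
          _ = t * (t * y) := by rw [hqy, mul_inv_eq_iff_eq_mul.mpr (D.P.h'.comm q hq)]
          _ = y := by rw [← mul_assoc, D.P.h'.zz, one_mul]
    have hall : ∀ a ∈ Q', y * z * a = a * (y * z) := by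
      intro a ha
      have key : ∀ b ∈ Q', b * z = z * b → y * z * b = b * (y * z) := fun b hb hbz => by
        calc y * z * b = y * (b * z) := by rw [mul_assoc, hbz]
          _ = b * (y * z) := by rw [← mul_assoc, ← hbad b hb hbz, mul_assoc]
      rcases D.P.h'.conj a ha z hzQ' with e | e
      · exact key a ha (mul_inv_eq_iff_eq_mul.mp e)
      · have hb : q⁻¹ * a * z = z * (q⁻¹ * a) := by
          refine mul_inv_eq_iff_eq_mul.mp ?_
          calc q⁻¹ * a * z * (q⁻¹ * a)⁻¹ = q⁻¹ * (a * z * a⁻¹) * q := by group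
            _ = q⁻¹ * (q * z * q⁻¹) * q := by rw [e, hqz]
            _ = z := by group
        have h1 := key _ (mul_mem (inv_mem hq) ha) hb
        have hqyz : y * z * q = q * (y * z) := by
          refine (mul_inv_eq_iff_eq_mul.mp ?_).symm
          calc q * (y * z) * q⁻¹ = (q * y * q⁻¹) * (q * z * q⁻¹) := by group
            _ = (y * t) * (t * z) := by rw [hqy, hqz, ← D.P.h'.comm y hyQ']
            _ = y * (t * t) * z := by group
            _ = y * z := by rw [D.P.h'.zz, mul_one]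
        calc y * z * a = (y * z * q) * (q⁻¹ * a) := by group
          _ = q * (y * z * (q⁻¹ * a)) := by rw [hqyz]; group
          _ = a * (y * z) := by rw [h1]; group
    rcases D.P.h'.cent (y * z) (fun a ha => hall a ha) with e | e
    · exact hynQ (by rw [eq_inv_of_mul_eq_one_left e]; exact inv_mem H.h.mem)
    · exact hynQ (by rw [← mul_inv_eq_iff_eq_mul.mpr e.symm]; exact mul_mem D.P.z'Q (inv_mem H.h.mem))
  refine ⟨r, hcy r hry, hrz ▸ mul_mem D.P.z'Q H.h.mem, fun e => ?_⟩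
  have e1 : t * z = z := hrz.symm.trans e
  exact D.P.h'.ne_one (mul_eq_right.mp e1)

end Cfsg.Agent.SuzTypeRadical62
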