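import Mathlib

/-!
Small group-theoretic facts: groups of odd order dividing 20160 without elements of composite order,
conjugation of elements of prime power order into a Sylow subgroup, counting in orbits.
-/

set_option autoImplicit false

namespace Cfsg.Agent.SuzInvol76

variable {G : Type*} [Group G] [Finite G]

/-- No commuting elements of orders `p` and `q`. -/
def NoPair (G : Type*) [Group G] (p q : ℕ) : Prop :=
  ∀ x y : G, orderOf x = p → orderOf y = q → x * y ≠ y * x

theorem NoPair.symm {p q : ℕ} (h : NoPair G p q) : NoPair G q p := fun x y hx hy e => h y x hy hx e.symm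

theorem exists_comm_of_normal {p q : ℕ} (hp : p.Prime) (hq : q.Prime) (N : Subgroup G) [N.Normal]
    (hN : Nat.card N = p) (h : ∀ d, d ∣ p - 1 → d ∣ Nat.card G → q ∣ Nat.card G / d) :
    ¬ NoPair G p q := by
  intro hno
  haveI := Fact.mk hp
  haveI := Fact.mk hq
  haveI : IsCyclic N := isCyclic_of_prime_card hN
  set f : G →* MulAut N := MulAut.conjNormal
  have hr1 : Nat.card f.range ∣ p - 1 := by
    have := Subgroup.card_subgroup_dvd_card f.range
    rwa [IsCyclic.card_mulAut, hN, Nat.totient_prime hp] at this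
  have hmul : Nat.card f.range * Nat.card f.ker = Nat.card G := by
    rw [mul_comm, ← Subgroup.index_ker f, Subgroup.card_mul_index]
  have hr2 : Nat.card f.range ∣ Nat.card G := Dvd.intro _ hmul
  have hk : q ∣ Nat.card f.ker := by
    have := h _ hr1 hr2
    rwa [← hmul, Nat.mul_div_cancel_left _ Nat.card_pos] at this
  obtain ⟨y, hy⟩ := exists_prime_orderOf_dvd_card' q hk
  obtain ⟨x, hx⟩ := exists_prime_orderOf_dvd_card' p (dvd_of_eq hN.symm)
  refine hno (x : G) (y : G) ?_ ?_ ?_
  · rw [← hx]; exact Subgroup.orderOf_coe x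
  · rw [← hy]; exact Subgroup.orderOf_coe y
  · have h1 : f (y : G) x = x := by rw [MonoidHom.mem_ker.mp y.2]; rfl
    have h2 := congrArg Subtype.val h1
    rw [show ((f (y : G) x : N) : G) = (y : G) * (x : G) * (y : G)⁻¹ from rfl] at h2
    exact (mul_inv_eq_iff_eq_mul.mp h2).symm

theorem sylow_card {p : ℕ} [Fact p.Prime] {n k : ℕ} (hn : Nat.card G = p ^ k * n) (hpn : ¬ p ∣ n)
    (P : Sylow p G) : Nat.card (P : Subgroup G) = p ^ k := by
  have hn0 : n ≠ 0 := fun h => hpn (h ▸ dvd_zero p)
  have hp : p.Prime := Fact.out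
  rw [P.card_eq_multiplicity, hn, Nat.factorization_mul (pow_ne_zero k hp.ne_zero) hn0,
    Nat.Prime.factorization_pow hp, Finsupp.add_apply, Finsupp.single_eq_same,
    Nat.factorization_eq_zero_of_not_dvd hpn, add_zero]

theorem sylow_cases {p : ℕ} [Fact p.Prime] {n k : ℕ} (hn : Nat.card G = p ^ k * n) (hpn : ¬ p ∣ n)
    (P : Sylow p G) :
    (P : Subgroup G).Normal ∨ (1 < Nat.card (Sylow p G) ∧ Nat.card (Sylow p G) ∣ n ∧
      Nat.card (Sylow p G) % p = 1) := by
  have hmod : Nat.card (Sylow p G) % p = 1 := by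
    have := card_sylow_modEq_one p G
    rwa [Nat.ModEq, Nat.mod_eq_of_lt (Nat.Prime.one_lt Fact.out)] at this
  have hdvd : Nat.card (Sylow p G) ∣ n := by
    have := P.card_dvd_index
    have hi := Subgroup.card_mul_index (P : Subgroup G)
    rw [sylow_card hn hpn P, hn] at hi
    rwa [Nat.eq_of_mul_eq_mul_left (pow_pos (Nat.Prime.pos Fact.out) k) hi] at this
  rcases Nat.lt_or_ge 1 (Nat.card (Sylow p G)) with h | h
  · exact Or.inr ⟨h, hdvd, hmod⟩
  · haveI : Subsingleton (Sylow p G) := Finite.card_le_one_iff_subsingleton.mp h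
    exact Or.inl (Sylow.normal_of_subsingleton (G := G) P)

theorem not_45 (h : Nat.card G = 45) : ¬ NoPair G 5 3 := by
  haveI : Fact (Nat.Prime 5) := ⟨by norm_num⟩
  obtain ⟨P⟩ := Sylow.nonempty (p := 5) (G := G)
  rcases sylow_cases (k := 1) (n := 9) (by rw [h]; norm_num) (by norm_num) P with hP | ⟨h1, h2, h3⟩
  · haveI := hP
    refine exists_comm_of_normal (by norm_num) (by norm_num) (P : Subgroup G)
      (by rw [sylow_card (k := 1) (n := 9) (by rw [h]; norm_num) (by norm_num) P]; norm_num) ?_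
    intro d hd hd'
    rw [h] at hd' ⊢
    have : d ≤ 4 := Nat.le_of_dvd (by norm_num) hd
    interval_cases d <;> simp_all
  · have : Nat.card (Sylow 5 G) ≤ 9 := Nat.le_of_dvd (by norm_num) h2
    interval_cases Nat.card (Sylow 5 G) <;> simp_all

theorem not_63 (h : Nat.card G = 63) : ¬ NoPair G 7 3 := by
  haveI : Fact (Nat.Prime 7) := ⟨by norm_num⟩
  obtain ⟨P⟩ := Sylow.nonempty (p := 7) (G := G)
  rcases sylow_cases (k := 1) (n := 9) (by rw [h]; norm_num) (by norm_num) P with hP | ⟨h1, h2, h3⟩
  · haveI := hP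
    refine exists_comm_of_normal (by norm_num) (by norm_num) (P : Subgroup G)
      (by rw [sylow_card (k := 1) (n := 9) (by rw [h]; norm_num) (by norm_num) P]; norm_num) ?_
    intro d hd hd'
    rw [h] at hd' ⊢
    have : d ≤ 6 := Nat.le_of_dvd (by norm_num) hd
    interval_cases d <;> simp_all
  · have : Nat.card (Sylow 7 G) ≤ 9 := Nat.le_of_dvd (by norm_num) h2
    interval_cases Nat.card (Sylow 7 G) <;> simp_all

theorem not_105 (h : Nat.card G = 105) : NoPair G 5 7 → False := by
  intro hno
  haveI : Fact (Nat.Prime 5) := ⟨by norm_num⟩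
  haveI : Fact (Nat.Prime 7) := ⟨by norm_num⟩
  obtain ⟨P⟩ := Sylow.nonempty (p := 5) (G := G)
  have hPc : Nat.card (P : Subgroup G) = 5 := by
    rw [sylow_card (k := 1) (n := 21) (by rw [h]; norm_num) (by norm_num) P]; norm_num
  rcases sylow_cases (k := 1) (n := 21) (by rw [h]; norm_num) (by norm_num) P with hP | ⟨h1, h2, h3⟩
  · haveI := hP
    refine exists_comm_of_normal (p := 5) (q := 7) (by norm_num) (by norm_num) (P : Subgroup G) hPc ?_ hno
    intro d hd hd'
    rw [h] at hd' ⊢
    have : d ≤ 4 := Nat.le_of_dvd (by norm_num) hd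
    interval_cases d <;> simp_all
  -- a normal complement of order 21
  have hnum : Nat.card (Sylow 5 G) = 21 := by
    have : Nat.card (Sylow 5 G) ≤ 21 := Nat.le_of_dvd (by norm_num) h2
    interval_cases Nat.card (Sylow 5 G) <;> simp_all
  have hnorm : Subgroup.normalizer ((P : Subgroup G) : Set G) = (P : Subgroup G) := by
    refine (Subgroup.eq_of_le_of_card_ge Subgroup.le_normalizer ?_).symm
    have h4 := Subgroup.card_mul_index (Subgroup.normalizer ((P : Subgroup G) : Set G))
    rw [show (Subgroup.normalizer ((P : Subgroup G) : Set G)).index = 21 from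
      P.card_eq_index_normalizer.symm.trans hnum, h] at h4
    omega
  haveI : IsCyclic (P : Subgroup G) := isCyclic_of_prime_card hPc
  have hcomm : Subgroup.normalizer ((P : Subgroup G) : Set G) ≤
      Subgroup.centralizer ((P : Subgroup G) : Set G) := by
    rw [hnorm]
    intro x hx
    refine Subgroup.mem_centralizer_iff.mpr fun y hy => ?_
    exact congrArg Subtype.val (IsCyclic.commGroup.mul_comm (⟨y, hy⟩ : (P : Subgroup G)) ⟨x, hx⟩)
  have hK := MonoidHom.ker_transferSylow_isComplement' P hcomm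
  set K := (MonoidHom.transferSylow P hcomm).ker
  have hKc : Nat.card K = 21 := by
    have := hK.card_mul
    rw [hPc, h] at this
    omega
  obtain ⟨Q⟩ := Sylow.nonempty (p := 7) (G := K)
  have hQc : Nat.card (Q : Subgroup K) = 7 := by
    rw [sylow_card (k := 1) (n := 3) (by rw [hKc]; norm_num) (by norm_num) Q]; norm_num
  rcases sylow_cases (k := 1) (n := 3) (by rw [hKc]; norm_num) (by norm_num) Q with hQ | ⟨a1, a2, a3⟩
  · haveI : (Q : Subgroup K).Characteristic := Q.characteristic_of_normal hQ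
    haveI : ((Q : Subgroup K).map K.subtype).Normal := ConjAct.normal_of_characteristic_of_normal
    refine exists_comm_of_normal (p := 7) (q := 5) (by norm_num) (by norm_num) ((Q : Subgroup K).map K.subtype)
      (by rw [Subgroup.card_map_of_injective (Subgroup.subtype_injective _), hQc]) ?_ hno.symm
    intro d hd hd'
    rw [h] at hd' ⊢
    have : d ≤ 6 := Nat.le_of_dvd (by norm_num) hd
    interval_cases d <;> simp_all
  · have : Nat.card (Sylow 7 K) ≤ 3 := Nat.le_of_dvd (by norm_num) a2
    interval_cases Nat.card (Sylow 7 K) <;> simp_all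

theorem not_315 (h : Nat.card G = 315) : NoPair G 5 7 → NoPair G 5 3 → False := by
  intro h57 h53
  haveI : Fact (Nat.Prime 5) := ⟨by norm_num⟩
  obtain ⟨P⟩ := Sylow.nonempty (p := 5) (G := G)
  have hPc : Nat.card (P : Subgroup G) = 5 := by
    rw [sylow_card (k := 1) (n := 63) (by rw [h]; norm_num) (by norm_num) P]; norm_num
  rcases sylow_cases (k := 1) (n := 63) (by rw [h]; norm_num) (by norm_num) P with hP | ⟨h1, h2, h3⟩
  · haveI := hP
    refine exists_comm_of_normal (p := 5) (q := 7) (by norm_num) (by norm_num) (P : Subgroup G) hPc ?_ h57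
    intro d hd hd'
    rw [h] at hd' ⊢
    have : d ≤ 4 := Nat.le_of_dvd (by norm_num) hd
    interval_cases d <;> simp_all
  have hnum : Nat.card (Sylow 5 G) = 21 := by
    have : Nat.card (Sylow 5 G) ≤ 63 := Nat.le_of_dvd (by norm_num) h2
    interval_cases Nat.card (Sylow 5 G) <;> simp_all
  set N := Subgroup.normalizer ((P : Subgroup G) : Set G) with hN
  have hNc : Nat.card N = 15 := by
    have h4 := Subgroup.card_mul_index N
    rw [show N.index = 21 from P.card_eq_index_normalizer.symm.trans hnum, h] at h4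
    omega
  haveI : ((P : Subgroup G).subgroupOf N).Normal := Subgroup.normal_in_normalizer
  refine exists_comm_of_normal (G := N) (p := 5) (q := 3) (by norm_num) (by norm_num)
    ((P : Subgroup G).subgroupOf N) ?_ ?_ fun x y hx hy e => h53 (x : G) (y : G) ?_ ?_ ?_
  · rw [Nat.card_congr (Subgroup.subgroupOfEquivOfLe Subgroup.le_normalizer).toEquiv, hPc]
  · intro d hd hd'
    rw [hNc] at hd' ⊢
    have : d ≤ 4 := Nat.le_of_dvd (by norm_num) hd
    interval_cases d <;> simp_all
  · rw [← hx]; exact Subgroup.orderOf_coe x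
  · rw [← hy]; exact Subgroup.orderOf_coe y
  · exact congrArg Subtype.val e

/-- An odd group of order dividing 20160 without elements of order 15, 21 or 35 is small. -/
theorem card_le_of_noPair (hodd : Odd (Nat.card G)) (hdvd : Nat.card G ∣ 20160) (h53 : NoPair G 5 3)
    (h73 : NoPair G 7 3) (h57 : NoPair G 5 7) : Nat.card G ≤ 39 := by
  have h315 : Nat.card G ∣ 315 := by
    have hc : Nat.Coprime (Nat.card G) (2 ^ 6) :=
      Nat.Coprime.pow_right _ (Nat.coprime_two_right.mpr hodd)
    exact hc.dvd_of_dvd_mul_left (m := 2 ^ 6) (by simpa using hdvd)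
  have hle : Nat.card G ≤ 315 := Nat.le_of_dvd (by norm_num) h315
  by_contra hlt
  have hmem : Nat.card G ∈ Nat.divisors 315 := Nat.mem_divisors.mpr ⟨h315, by norm_num⟩
  rw [show Nat.divisors 315 = {1, 3, 5, 7, 9, 15, 21, 35, 45, 63, 105, 315} by decide +kernel] at hmem
  simp only [Finset.mem_insert, Finset.mem_singleton] at hmem
  rcases hmem with e | e | e | e | e | e | e | e | e | e | e | e
  all_goals first
    | omega
    | exact not_45 e h53
    | exact not_63 e h73
    | exact not_105 e h57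
    | exact not_315 e h57 h53

/-- An element of prime power order lies in a conjugate of any Sylow subgroup. -/
theorem conj_into {p n k : ℕ} [Fact p.Prime] (L P : Subgroup G) (hP : P ≤ L)
    (hPc : Nat.card P = p ^ k) (hL : Nat.card L = p ^ k * n) (hpn : ¬ p ∣ n) {x : G} (hx : x ∈ L)
    {j : ℕ} (hxo : orderOf x = p ^ j) : ∃ g ∈ L, g * x * g⁻¹ ∈ P := by
  have hp' : IsPGroup p (P.subgroupOf L) := IsPGroup.of_card (n := k) (by
    rw [Nat.card_congr (Subgroup.subgroupOfEquivOfLe hP).toEquiv, hPc])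
  obtain ⟨S, hS⟩ := hp'.exists_le_sylow
  have heq : P.subgroupOf L = (S : Subgroup L) := Subgroup.eq_of_le_of_card_ge hS (by
    rw [sylow_card hL hpn S, Nat.card_congr (Subgroup.subgroupOfEquivOfLe hP).toEquiv, hPc])
  have hxp : IsPGroup p (Subgroup.zpowers (⟨x, hx⟩ : L)) := IsPGroup.of_card (n := j) (by
    rw [Nat.card_zpowers, ← hxo, Subgroup.orderOf_mk])
  obtain ⟨T, hT⟩ := hxp.exists_le_sylow
  obtain ⟨g, hg⟩ := MulAction.exists_smul_eq L T S
  refine ⟨g, g.2, ?_⟩
  have hmem : g * ⟨x, hx⟩ * g⁻¹ ∈ (S : Subgroup L) := by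
    rw [← hg, Sylow.coe_subgroup_smul]
    exact ⟨⟨x, hx⟩, hT (Subgroup.mem_zpowers _), rfl⟩
  rw [← heq, Subgroup.mem_subgroupOf] at hmem
  exact hmem

/-- A permutation of prime order `q` fixes each point of a small invariant set. -/
theorem fix_of_small {α : Type*} {g : Equiv.Perm α} {q : ℕ} (hq : q.Prime) (hg : g ^ q = 1)
    {S : Set α} (hSf : S.Finite) (hSq : S.ncard < q) (hinv : ∀ x ∈ S, g x ∈ S) {x : α} (hx : x ∈ S) :
    g x = x := by
  classical
  have hbij : ∀ y, y ∈ S ↔ g y ∈ S := fun y => ⟨hinv y, fun h => by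
    obtain ⟨w, hw, e⟩ :=
      ((hSf.injOn_iff_bijOn_of_mapsTo (fun z hz => hinv z hz)).mp g.injective.injOn).surjOn h
    rwa [← g.injective e]⟩
  haveI := hSf.to_subtype
  set σ : Equiv.Perm S := g.subtypePerm fun y => (hbij y).symm with hσ
  have h1 : σ ^ q = 1 := by
    ext y
    rw [hσ, Equiv.Perm.subtypePerm_pow]
    show (g ^ q) (y : α) = (y : α)
    rw [hg]; rfl
  have h3 : orderOf σ ∣ Nat.card (Equiv.Perm S) := orderOf_dvd_natCard σ
  rw [Nat.card_perm, Nat.card_coe_set_eq] at h3
  rcases (Nat.dvd_prime hq).mp (orderOf_dvd_of_pow_eq_one h1) with h4 | h4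
  · have := congrArg (fun τ : Equiv.Perm S => ((τ ⟨x, hx⟩ : S) : α)) (orderOf_eq_one_iff.mp h4)
    simpa [hσ] using this
  · rw [h4] at h3
    exact absurd (hq.dvd_factorial.mp h3) (Nat.not_le.mpr hSq)

end Cfsg.Agent.SuzInvol76
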