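import Cfsg.Agent.Lib.SuzInvol76Checks
import Cfsg.Agent.Lib.SuzInvol76Group

/-!
Facts on the two involution centralisers of the presented group Suz.
-/

set_option autoImplicit false
set_option maxRecDepth 100000

namespace Cfsg.Agent.SuzInvol76

open Cfsg.Agent.CosetCertCore Cfsg.Agent.CosetCertTable Cfsg.Agent.CosetCertPres
open Cfsg.Agent.SuzRankThree84 Cfsg.Agent.SuzInvol76Data

/-- The element of the presented group of a word. -/
noncomputable def ev (w : List Nat) : CosetCertSuzGData.pres.Grp := val CosetCertSuzGData.pres.gg w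

instance : Finite CosetCertSuzGData.pres.Grp := CosetCertSuzSimple.upper.1

theorem act0_ev (w : List Nat) : act0 (ev w) = el w := rfl

/-- The first letter. -/
noncomputable def eA : CosetCertSuzGData.pres.Grp := ev [0]

/-- The fifth letter. -/
noncomputable def eE : CosetCertSuzGData.pres.Grp := ev [4]

theorem el_ok {w : List Nat} {S : List (List Nat)} (hS : okS S = true) (hw : w ∈ S) : ok7 w = true :=
  List.all_eq_true.mp hS w hw

/-! ### General consequences of the checks -/

theorem comm_of {S : List (List Nat)} {c : List Nat} (h : commB S c = true) {g : Equiv.Perm Pt}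
    (hg : g ∈ cl S) : g * el c = el c * g := by
  simp only [commB, Bool.and_eq_true] at h
  obtain ⟨⟨hS, hc⟩, hall⟩ := h
  refine Subgroup.mem_centralizer_singleton_iff.mp
    (cl_le (K := Subgroup.centralizer {el c}) (fun w hw => ?_) hg)
  refine Subgroup.mem_centralizer_singleton_iff.mpr ?_
  rw [← el_append, ← el_append]
  exact el_eq_of_code (ok7_append (el_ok hS hw) hc) (ok7_append hc (el_ok hS hw))
    (Nat.beq_eq.mp (List.all_eq_true.mp hall w hw))

theorem el_letters_mem {w : List Nat} (h : (w.all fun i => lGen0.contains [i]) = true) :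
    el w ∈ cl lGen0 := by
  induction w with
  | nil => rw [el_nil]; exact one_mem _
  | cons i l ih =>
    rw [List.all_cons, Bool.and_eq_true] at h
    rw [show i :: l = [i] ++ l from rfl, el_append]
    exact mul_mem (el_mem_cl (List.contains_iff_mem.mp h.1)) (ih h.2)

theorem grp_spec {S : List (List Nat)} (h : grpB S = true) :
    Nat.card (cl S) = S.length ∧ ∀ g ∈ cl S, ∃ w ∈ S, g = el w := by
  simp only [grpB, Bool.and_eq_true] at h
  obtain ⟨⟨⟨hS, hone⟩, hnd⟩, hcl⟩ := h
  have hfind : ∀ {w : List Nat}, ok7 w = true → (S.map code).contains (code w) = true →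
      ∃ u ∈ S, el w = el u := by
    intro w hw hc
    obtain ⟨u, hu, e⟩ := List.mem_map.mp (List.contains_iff_mem.mp hc)
    exact ⟨u, hu, el_eq_of_code hw (el_ok hS hu) e.symm⟩
  have key : ∀ g ∈ cl S, ∃ w ∈ S, g = el w := by
    intro g hg
    induction hg using Subgroup.closure_induction_left with
    | one =>
      obtain ⟨u, hu, e⟩ := hfind rfl hone
      exact ⟨u, hu, by rw [← e, el_nil]⟩
    | mul_left x hx y _ ih =>
      obtain ⟨u, hu, rfl⟩ := hx
      obtain ⟨v, hv, rfl⟩ := ih
      obtain ⟨w, hw, e⟩ := hfind (ok7_append (el_ok hS hu) (el_ok hS hv))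
        (List.all_eq_true.mp (List.all_eq_true.mp hcl u hu) v hv)
      exact ⟨w, hw, by rw [← e, el_append]⟩
    | inv_mul_cancel x hx y _ ih =>
      obtain ⟨u, hu, rfl⟩ := hx
      obtain ⟨v, hv, rfl⟩ := ih
      set M : Set (Equiv.Perm Pt) := {g | ∃ w ∈ S, g = el w} with hM
      have hst : Set.MapsTo (el u * ·) M M := by
        rintro _ ⟨w, hw, rfl⟩
        obtain ⟨w', hw', e⟩ := hfind (ok7_append (el_ok hS hu) (el_ok hS hw))
          (List.all_eq_true.mp (List.all_eq_true.mp hcl u hu) w hw)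
        exact ⟨w', hw', by rw [← e, el_append]⟩
      obtain ⟨q, hq, hqe⟩ := (((Set.toFinite M).injOn_iff_bijOn_of_mapsTo hst).mp
        (mul_right_injective (el u)).injOn).surjOn (show el v ∈ M from ⟨v, hv, rfl⟩)
      rw [show (el u)⁻¹ * el v = q by rw [← hqe, inv_mul_cancel_left]]
      exact hq
  refine ⟨?_, key⟩
  have himg : (cl S : Set (Equiv.Perm Pt)) = ↑(S.map el).toFinset := by
    ext g
    simp only [List.coe_toFinset, Set.mem_ofPred_eq, List.mem_map, SetLike.mem_coe]
    exact ⟨fun hg => by obtain ⟨w, hw, rfl⟩ := key g hg; exact ⟨w, hw, rfl⟩,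
      fun ⟨w, hw, e⟩ => e ▸ el_mem_cl hw⟩
  have hnd' : (S.map el).Nodup := by
    refine List.Nodup.map_on ?_ (List.Nodup.of_map code (nd_iff hnd))
    intro u hu v hv e
    exact List.inj_on_of_nodup_map (nd_iff hnd) hu hv (code_congr (el_ok hS hu) (el_ok hS hv) e)
  rw [← SetLike.coe_sort_coe, Nat.card_coe_set_eq, himg, Set.ncard_coe_finset,
    List.toFinset_card_of_nodup hnd', List.length_map]

/-- Fixed points of a word from a list. -/
theorem fixed_ncard {F : List Nat} {c : List Nat}
    (h : allFrom (fun i => F.contains i == Nat.beq (app c i) i) 1782 0 = true) (hnd : nd F = true)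
    (hc : ok7 c = true) (hlt : F.all (fun i => Nat.blt i 1782) = true) :
    {x : Pt | el c x = x}.ncard = F.length := by
  have hmem : ∀ x : Pt, el c x = x ↔ (x : Nat) ∈ F := by
    intro x
    have h1 := eq_of_beq ((allFrom_iff _ _ _).mp h x (Nat.zero_le _) (by simpa using pt_lt x))
    rw [← List.contains_iff_mem, h1, Nat.beq_eq, ← el_app hc, Fin.val_eq_val]
  have himg : Fin.val '' {x : Pt | el c x = x} = ↑F.toFinset := by
    ext p
    simp only [Set.mem_image, List.coe_toFinset, Set.mem_ofPred_eq]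
    refine ⟨fun ⟨x, hx, e⟩ => e ▸ (hmem x).mp hx, fun hp => ?_⟩
    have hp' : p < 1782 := Nat.blt_eq.mp (List.all_eq_true.mp hlt p hp)
    exact ⟨pt p hp', (hmem (pt p hp')).mpr hp, rfl⟩
  rw [← Set.ncard_image_of_injective _ Fin.val_injective, himg, Set.ncard_coe_finset,
    List.toFinset_card_of_nodup (nd_iff hnd)]

/-- The two letters are not conjugate. -/
theorem not_isConj : ¬ IsConj eA eE := by
  intro h
  obtain ⟨g, hg⟩ := isConj_iff.mp h
  have h1 : act0 g * el [0] * (act0 g)⁻¹ = el [4] := by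
    rw [← act0_ev, ← act0_ev, ← map_inv, ← map_mul, ← map_mul]
    exact congrArg act0 hg
  have himg : act0 g '' {x : Pt | el [0] x = x} = {x : Pt | el [4] x = x} := by
    ext x
    constructor
    · rintro ⟨y, hy, rfl⟩
      show el [4] (act0 g y) = act0 g y
      rw [← h1]
      simp only [Equiv.Perm.mul_apply, Equiv.Perm.coe_inv, Equiv.symm_apply_apply]
      rw [show el [0] y = y from hy]
    · intro hx
      refine ⟨(act0 g)⁻¹ x, ?_, by simp⟩
      show el [0] ((act0 g)⁻¹ x) = (act0 g)⁻¹ x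
      have h2 : act0 g (el [0] ((act0 g)⁻¹ x)) = x := by
        have := hx
        rw [Set.mem_ofPred_eq, ← h1] at this
        simpa using this
      rw [Equiv.Perm.coe_inv, ← Equiv.eq_symm_apply] at h2
      exact h2
  have h2 := congrArg Set.ncard himg
  rw [Set.ncard_image_of_injective _ (act0 g).injective, fixed_ncard fixA_ok.1 fixA_ok.2.1 rfl
    (by decide +kernel), fixed_ncard fixE_ok.1 fixE_ok.2.1 rfl (by decide +kernel), fixA_ok.2.2,
    fixE_ok.2.2] at h2
  omega

theorem card_comap {S : List (List Nat)} : Nat.card ((cl S).comap act0) = Nat.card (cl S) := by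
  have h := Nat.card_congr (Subgroup.equivMapOfInjective ((cl S).comap act0) act0 act0_injective).toEquiv
  rw [Subgroup.map_comap_eq_self (show cl S ≤ act0.range from cl_le_SUZ S)] at h
  exact h

/-- A subgroup centralising the first letter, of order divisible by `3317760`. -/
theorem cent_eA : ∃ C : Subgroup CosetCertSuzGData.pres.Grp,
    (∀ x ∈ C, x * eA = eA * x) ∧ 3317760 ∣ Nat.card C := by
  refine ⟨(cl caGen0).comap act0, fun x hx => act0_injective ?_, ?_⟩
  · rw [map_mul, map_mul]
    exact comm_of ca_comm hx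
  · rw [card_comap]
    obtain ⟨s0, s1, s2, s3, s4⟩ := ca_stages
    obtain ⟨l0, l1, l2, l3, l4⟩ := ca_len
    have d4 : 3 ∣ Nat.card (cl caGen4) := by
      have := stage_dvd s4; rwa [cl_nil, mul_one, l4] at this
    have d3 : 4 * 3 ∣ Nat.card (cl caGen3) :=
      (Nat.mul_dvd_mul_left 4 d4).trans (l3 ▸ stage_dvd s3)
    have d2 : 16 * (4 * 3) ∣ Nat.card (cl caGen2) :=
      (Nat.mul_dvd_mul_left 16 d3).trans (l2 ▸ stage_dvd s2)
    have d1 : 320 * (16 * (4 * 3)) ∣ Nat.card (cl caGen1) :=
      (Nat.mul_dvd_mul_left 320 d2).trans (l1 ▸ stage_dvd s1)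
    exact (show 3317760 = 54 * (320 * (16 * (4 * 3))) by norm_num) ▸
      (Nat.mul_dvd_mul_left 54 d1).trans (l0 ▸ stage_dvd s0)

/-! ### The Levi group -/

/-- The Levi group. -/
noncomputable def LL : Subgroup (Equiv.Perm Pt) := cl lGen0

theorem card_LL : Nat.card LL = 20160 := by
  obtain ⟨s0, s1, s2, s3⟩ := l_stages
  obtain ⟨t0, t1, t2, t3⟩ := l_sifts
  obtain ⟨l0, l1, l2, l3⟩ := l_len
  refine le_antisymm ?_ (Nat.le_of_dvd Nat.card_pos ?_)
  · have a3 : Nat.card (cl lGen3) ≤ 3 := by
      have := stage_le t3; rwa [cl_nil, mul_one, l3] at this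
    have a2 : Nat.card (cl lGen2) ≤ 16 * 3 :=
      (l2 ▸ stage_le t2).trans (Nat.mul_le_mul_left 16 a3)
    have a1 : Nat.card (cl lGen1) ≤ 20 * (16 * 3) :=
      (l1 ▸ stage_le t1).trans (Nat.mul_le_mul_left 20 a2)
    exact (l0 ▸ stage_le t0).trans ((Nat.mul_le_mul_left 21 a1).trans (by norm_num))
  · have d3 : 3 ∣ Nat.card (cl lGen3) := by
      have := stage_dvd s3; rwa [cl_nil, mul_one, l3] at this
    have d2 : 16 * 3 ∣ Nat.card (cl lGen2) :=
      (Nat.mul_dvd_mul_left 16 d3).trans (l2 ▸ stage_dvd s2)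
    have d1 : 20 * (16 * 3) ∣ Nat.card (cl lGen1) :=
      (Nat.mul_dvd_mul_left 20 d2).trans (l1 ▸ stage_dvd s1)
    exact (show 20160 = 21 * (20 * (16 * 3)) by norm_num) ▸
      (Nat.mul_dvd_mul_left 21 d1).trans (l0 ▸ stage_dvd s0)

theorem el_cw (r : List Nat) : el (cw r) = el r * el [0] * (el r)⁻¹ := by
  rw [cw, el_append, el_append, el_reverse]

theorem cw_ok {r : List Nat} (h : ok7 r = true) : ok7 (cw r) = true := by
  refine ok7_append (ok7_append h rfl) ?_
  simpa [ok7] using h

theorem cw_mem {r : List Nat} (h : r ∈ aConj) : el (cw r) ∈ LL := by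
  obtain ⟨-, hl, h0, -⟩ := cls_ok
  have hr := el_letters_mem (List.all_eq_true.mp hl r h)
  rw [el_cw]
  exact mul_mem (mul_mem hr (el_mem_cl (List.contains_iff_mem.mp h0))) (inv_mem hr)

theorem isConj_cw (r : List Nat) : IsConj (ev (cw r)) eA := by
  refine isConj_iff.mpr ⟨(ev r)⁻¹, act0_injective ?_⟩
  simp only [map_mul, map_inv, inv_inv, act0_ev, el_cw, eA]
  group

/-- Every involution of the Levi group is conjugate to the first letter. -/
theorem LL_invol {g : CosetCertSuzGData.pres.Grp} (hg : act0 g ∈ LL) (h2 : orderOf g = 2) :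
    IsConj g eA := by
  haveI : Fact (Nat.Prime 2) := ⟨Nat.prime_two⟩
  obtain ⟨hgrp, hlet, hlen⟩ := tw_ok
  obtain ⟨hcard, hmem⟩ := grp_spec hgrp
  have ho : orderOf (act0 g) = 2 ^ 1 := by rw [orderOf_injective act0 act0_injective, h2, pow_one]
  have hle : cl twElts ≤ LL := cl_le fun w hw => el_letters_mem (List.all_eq_true.mp hlet w hw)
  obtain ⟨k, hk, hkm⟩ := conj_into LL (cl twElts) hle (p := 2) (k := 6) (n := 315)
    (by rw [hcard, hlen]; norm_num) (by rw [card_LL]; norm_num) (by norm_num) hg ho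
  obtain ⟨w, hw, he⟩ := hmem _ hkm
  obtain ⟨k', rfl⟩ : k ∈ act0.range := cl_le_SUZ lGen0 hk
  have hS : okS twElts = true := by
    simp only [grpB, Bool.and_eq_true] at hgrp; exact hgrp.1.1.1
  have hgw : k' * g * k'⁻¹ = ev w := act0_injective (by rw [map_mul, map_mul, map_inv, he, act0_ev])
  have hinv := List.all_eq_true.mp tw_invol w hw
  simp only [Bool.or_eq_true, Bool.not_eq_true', Nat.beq_eq] at hinv
  rcases hinv with (h1 | h1) | h1
  · exfalso
    have : act0 g = 1 := by
      rw [← conj_eq_one_iff (a := act0 k') (b := act0 g), he, el_eq_of_code (el_ok hS hw) rfl h1, el_nil]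
    rw [this, orderOf_one] at ho
    norm_num at ho
  · exfalso
    have hsq : el (w ++ w) = el [] := by
      rw [el_append, el_nil, ← he]
      have : act0 g * act0 g = 1 := by
        have := pow_orderOf_eq_one (act0 g)
        rwa [ho, pow_one, pow_two] at this
      rw [show act0 k' * act0 g * (act0 k')⁻¹ * (act0 k' * act0 g * (act0 k')⁻¹) =
        act0 k' * (act0 g * act0 g) * (act0 k')⁻¹ by group, this]
      group
    have := code_congr (ok7_append (el_ok hS hw) (el_ok hS hw)) rfl hsq
    simp [this] at h1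
  · obtain ⟨r, hr, hre⟩ := List.mem_map.mp (List.contains_iff_mem.mp h1)
    have hew : ev w = ev (cw r) := act0_injective (by
      rw [act0_ev, act0_ev]
      exact el_eq_of_code (el_ok hS hw) (cw_ok (el_ok cls_ok.1 hr)) hre.symm)
    exact (isConj_iff.mpr ⟨k', hgw.trans hew⟩).trans (isConj_cw r)

/-- The fixed points in the orbit of the origin. -/
noncomputable def fixO (g : Equiv.Perm Pt) : Set Pt := {x : Pt | (x : Nat) ∈ lOrb ∧ g x = x}

theorem lOrb_nodup : lOrb.Nodup := by
  have h := l_stages.1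
  simp only [stageB, orbOK, force_eq, Bool.and_eq_true] at h
  exact nd_iff h.1.1.2.1.2

theorem lOrb_inv {g : Equiv.Perm Pt} (hg : g ∈ LL) {x : Pt} (hx : (x : Nat) ∈ lOrb) :
    ((g x : Pt) : Nat) ∈ lOrb := by
  have h := l_stages.1
  simp only [stageB, orbOK, force_eq, Bool.and_eq_true] at h
  obtain ⟨⟨⟨⟨-, hS⟩, -, hcl⟩, -⟩, -⟩ := h
  induction hg using Subgroup.closure_induction_left generalizing x with
  | one => simpa using hx
  | mul_left w hw y _ ih =>
    obtain ⟨w, hwS, rfl⟩ := hw
    rw [Equiv.Perm.mul_apply, el_app (el_ok hS hwS)]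
    exact List.contains_iff_mem.mp (List.all_eq_true.mp (List.all_eq_true.mp hcl _ (ih hx)) w hwS)
  | inv_mul_cancel w hw y _ ih =>
    obtain ⟨w, hwS, rfl⟩ := hw
    have hst : Set.MapsTo (el w) {q : Pt | (q : Nat) ∈ lOrb} {q : Pt | (q : Nat) ∈ lOrb} := by
      intro q hq
      show ((el w q : Pt) : Nat) ∈ lOrb
      rw [el_app (el_ok hS hwS)]
      exact List.contains_iff_mem.mp (List.all_eq_true.mp (List.all_eq_true.mp hcl _ hq) w hwS)
    obtain ⟨q, hq, hqe⟩ := (((Set.toFinite {q : Pt | (q : Nat) ∈ lOrb}).injOn_iff_bijOn_of_mapsTo hst).mp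
      (el w).injective.injOn).surjOn (ih hx)
    rw [Equiv.Perm.mul_apply, show (el w)⁻¹ (y x) = q by rw [Equiv.Perm.inv_eq_iff_eq, hqe]]
    exact hq

theorem lOrb_lt : lOrb.all (fun i => Nat.blt i 1782) = true := by decide +kernel

theorem fixO_el {w : List Nat} (hw : ok7 w = true) : (fixO (el w)).ncard = countB w := by
  have himg : Fin.val '' fixO (el w) =
      ↑((lOrb.filter fun p => Nat.beq (app w p) p).toFinset) := by
    ext p
    simp only [Set.mem_image, List.coe_toFinset, Set.mem_ofPred_eq, List.mem_filter, Nat.beq_eq]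
    constructor
    · rintro ⟨x, ⟨hx, hfx⟩, rfl⟩
      exact ⟨hx, by rw [← el_app hw, hfx]⟩
    · rintro ⟨hp, he⟩
      have hp' : p < 1782 := Nat.blt_eq.mp (List.all_eq_true.mp lOrb_lt p hp)
      exact ⟨pt p hp', ⟨hp, Fin.ext (by rw [el_app hw]; exact he)⟩, rfl⟩
  rw [← Set.ncard_image_of_injective _ Fin.val_injective, himg, Set.ncard_coe_finset,
    List.toFinset_card_of_nodup (lOrb_nodup.filter _), countB]

theorem fixO_conj {g k : Equiv.Perm Pt} (hk : k ∈ LL) :
    (fixO (k * g * k⁻¹)).ncard = (fixO g).ncard := by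
  rw [show fixO (k * g * k⁻¹) = k '' fixO g from ?_, Set.ncard_image_of_injective _ k.injective]
  ext x
  constructor
  · rintro ⟨hx, hf⟩
    refine ⟨k⁻¹ x, ⟨lOrb_inv (inv_mem hk) hx, ?_⟩, by simp⟩
    have := congrArg (k⁻¹ : Equiv.Perm Pt) hf
    simpa [Equiv.Perm.mul_apply] using this
  · rintro ⟨y, ⟨hy, hf⟩, rfl⟩
    exact ⟨lOrb_inv hk hy, by simp [Equiv.Perm.mul_apply, hf]⟩

theorem fix_count_prime {w : List Nat} (q : ℕ) [Fact q.Prime] (hS : okS [w] = true)
    (hl : letB [w] = true) (hne : code w ≠ code []) (hpow : el w ^ q = 1) {n : ℕ}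
    (hn : Nat.card LL = q ^ 1 * n) (hqn : ¬ q ∣ n)
    {g : Equiv.Perm Pt} (hg : g ∈ LL) (ho : orderOf g = q) : (fixO g).ncard = countB w := by
  have hw : ok7 w = true := el_ok hS List.mem_cons_self
  have hwL : el w ∈ LL := el_letters_mem (List.all_eq_true.mp hl w List.mem_cons_self)
  have how : orderOf (el w) = q := orderOf_eq_prime hpow fun e => hne
    (code_congr hw rfl (e.trans el_nil.symm))
  obtain ⟨k, hk, hkm⟩ := conj_into LL (Subgroup.zpowers (el w))
    ((Subgroup.zpowers_le).mpr hwL) (k := 1) (n := n)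
    (by rw [Nat.card_zpowers, how, pow_one]) hn hqn hg (j := 1) (by rw [ho, pow_one])
  have hk2 : orderOf (k * g * k⁻¹) = q := by
    rw [show k * g * k⁻¹ = MulAut.conj k g from rfl, MulEquiv.orderOf_eq, ho]
  have hgen : Subgroup.zpowers (k * g * k⁻¹) = Subgroup.zpowers (el w) :=
    Subgroup.eq_of_le_of_card_ge (Subgroup.zpowers_le.mpr hkm)
      (by rw [Nat.card_zpowers, Nat.card_zpowers, hk2, how])
  rw [← fixO_conj hk, ← fixO_el hw]
  congr 1
  have hsub : ∀ {a b : Equiv.Perm Pt}, a ∈ Subgroup.zpowers b → fixO b ⊆ fixO a := by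
    intro a b hab x hx
    refine ⟨hx.1, ?_⟩
    show a • x = x
    refine MulAction.mem_stabilizer_iff.mp ?_
    exact (Subgroup.zpowers_le (H := MulAction.stabilizer (Equiv.Perm Pt) x)).mpr
      (MulAction.mem_stabilizer_iff.mpr hx.2) hab
  exact Set.Subset.antisymm (hsub (hgen ▸ Subgroup.mem_zpowers (el w)))
    (hsub (hgen ▸ Subgroup.mem_zpowers (k * g * k⁻¹)))

theorem fix_count_three {g : Equiv.Perm Pt} (hg : g ∈ LL) (ho : orderOf g = 3) :
    (fixO g).ncard = 3 := by
  haveI : Fact (Nat.Prime 3) := ⟨Nat.prime_three⟩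
  obtain ⟨hgrp, hlet, hlen⟩ := th_ok
  obtain ⟨hcard, hmem⟩ := grp_spec hgrp
  have hS : okS thElts = true := by
    simp only [grpB, Bool.and_eq_true] at hgrp; exact hgrp.1.1.1
  have hle : cl thElts ≤ LL := cl_le fun w hw => el_letters_mem (List.all_eq_true.mp hlet w hw)
  obtain ⟨k, hk, hkm⟩ := conj_into LL (cl thElts) hle (p := 3) (k := 2) (n := 2240)
    (by rw [hcard, hlen]; norm_num) (by rw [card_LL]; norm_num) (by norm_num) hg (j := 1)
    (by rw [ho, pow_one])
  obtain ⟨w, hw, he⟩ := hmem _ hkm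
  have hc := List.all_eq_true.mp th_count w hw
  simp only [Bool.or_eq_true, Nat.beq_eq] at hc
  rcases hc with hc | hc
  · exfalso
    have : g = 1 := by
      rw [← conj_eq_one_iff (a := k) (b := g), he, el_eq_of_code (el_ok hS hw) rfl hc, el_nil]
    rw [this, orderOf_one] at ho
    omega
  · rw [← fixO_conj hk, he, fixO_el (el_ok hS hw), hc]

theorem el_pow_five : el five ^ 5 = 1 := by
  obtain ⟨-, hS, -, hc, -⟩ := five_ok
  have h := el_ok hS List.mem_cons_self
  have e := el_eq_of_code (ok7_append (ok7_append (ok7_append (ok7_append h h) h) h) h) rfl hc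
  rw [el_append, el_append, el_append, el_append, el_nil] at e
  rw [← e]
  simp only [pow_succ, pow_zero, one_mul]

theorem el_pow_seven : el seven ^ 7 = 1 := by
  obtain ⟨-, hS, -, hc, -⟩ := seven_ok
  have h := el_ok hS List.mem_cons_self
  have e := el_eq_of_code (ok7_append (ok7_append (ok7_append (ok7_append
    (ok7_append (ok7_append h h) h) h) h) h) h) rfl hc
  rw [el_append, el_append, el_append, el_append, el_append, el_append, el_nil] at e
  rw [← e]
  simp only [pow_succ, pow_zero, one_mul]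

theorem fix_count_five {g : Equiv.Perm Pt} (hg : g ∈ LL) (ho : orderOf g = 5) :
    (fixO g).ncard = 1 := by
  haveI : Fact (Nat.Prime 5) := ⟨by norm_num⟩
  rw [fix_count_prime 5 five_ok.2.1 five_ok.1 five_ok.2.2.1 el_pow_five (n := 4032)
    (by rw [card_LL]; norm_num) (by norm_num) hg ho, five_ok.2.2.2.2]

theorem fix_count_seven {g : Equiv.Perm Pt} (hg : g ∈ LL) (ho : orderOf g = 7) :
    (fixO g).ncard = 0 := by
  haveI : Fact (Nat.Prime 7) := ⟨by norm_num⟩
  rw [fix_count_prime 7 seven_ok.2.1 seven_ok.1 seven_ok.2.2.1 el_pow_seven (n := 2880)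
    (by rw [card_LL]; norm_num) (by norm_num) hg ho, seven_ok.2.2.2.2]

theorem no_comm {x y : Equiv.Perm Pt} (hx : x ∈ LL) (hy : y ∈ LL) {q a b : ℕ} (hq : q.Prime)
    (hyo : orderOf y = q) (ha : (fixO x).ncard = a) (hb : (fixO y).ncard = b) (haq : a < q)
    (hab : b < a) : x * y ≠ y * x := by
  intro hxy
  have hsub : fixO x ⊆ fixO y := by
    intro p hp
    refine ⟨hp.1, fix_of_small hq (by rw [← hyo]; exact pow_orderOf_eq_one y) (Set.toFinite _)
      (ha.symm ▸ haq) ?_ hp⟩
    intro r hr
    refine ⟨lOrb_inv hy hr.1, ?_⟩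
    rw [← Equiv.Perm.mul_apply, hxy, Equiv.Perm.mul_apply, hr.2]
  have := Set.ncard_le_ncard hsub (Set.toFinite _)
  omega

/-- The Levi group inside the centraliser of the fifth letter. -/
theorem exists_L : ∃ L : Subgroup CosetCertSuzGData.pres.Grp,
    (∀ x ∈ L, x * eE = eE * x) ∧ Nat.card L = 20160 ∧ (∀ x ∈ L, orderOf x = 2 → IsConj x eA) ∧
      ∀ X ≤ L, Odd (Nat.card X) → Nat.card X ≤ 39 := by
  refine ⟨LL.comap act0, fun x hx => act0_injective ?_, by rw [LL, card_comap]; exact card_LL,
    fun x hx h2 => LL_invol hx h2, fun X hX hodd => ?_⟩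
  · rw [map_mul, map_mul]
    exact comm_of l_comm hx
  · have hdvd : Nat.card X ∣ 20160 := by
      have := Subgroup.card_dvd_of_le hX
      rwa [show Nat.card (LL.comap act0) = 20160 by rw [LL, card_comap]; exact card_LL] at this
    have ho : ∀ x : X, orderOf (act0 (x : CosetCertSuzGData.pres.Grp)) = orderOf x := fun x => by
      rw [orderOf_injective act0 act0_injective, Subgroup.orderOf_coe]
    have hm : ∀ x : X, act0 (x : CosetCertSuzGData.pres.Grp) ∈ LL := fun x => hX x.2
    have hc : ∀ x y : X, x * y = y * x →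
        act0 (x : CosetCertSuzGData.pres.Grp) * act0 (y : CosetCertSuzGData.pres.Grp) =
          act0 (y : CosetCertSuzGData.pres.Grp) * act0 (x : CosetCertSuzGData.pres.Grp) :=
      fun x y e => by rw [← map_mul, ← map_mul]; exact congrArg act0 (congrArg Subtype.val e)
    refine card_le_of_noPair hodd hdvd ?_ ?_ ?_
    · intro x y hx hy e
      refine no_comm (hm y) (hm x) (q := 5) (by norm_num) ((ho x).trans hx)
        (fix_count_three (hm y) ((ho y).trans hy)) (fix_count_five (hm x) ((ho x).trans hx))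
        (by norm_num) (by norm_num) (hc y x e.symm)
    · intro x y hx hy e
      refine no_comm (hm y) (hm x) (q := 7) (by norm_num) ((ho x).trans hx)
        (fix_count_three (hm y) ((ho y).trans hy)) (fix_count_seven (hm x) ((ho x).trans hx))
        (by norm_num) (by norm_num) (hc y x e.symm)
    · intro x y hx hy e
      refine no_comm (hm x) (hm y) (q := 7) (by norm_num) ((ho y).trans hy)
        (fix_count_five (hm x) ((ho x).trans hx)) (fix_count_seven (hm y) ((ho y).trans hy))
        (by norm_num) (by norm_num) (hc x y e)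

/-- Many conjugates of the first letter commute with the fifth. -/
theorem many : 315 ≤ {x : CosetCertSuzGData.pres.Grp | x * eE = eE * x ∧ IsConj x eA}.ncard := by
  classical
  obtain ⟨hS, -, -, hnd, hlen⟩ := cls_ok
  have hnd' : (aConj.map fun r => ev (cw r)).Nodup := by
    refine List.Nodup.map_on ?_ (List.Nodup.of_map _ (nd_iff hnd))
    intro r hr r' hr' e
    exact List.inj_on_of_nodup_map (nd_iff hnd) hr hr'
      (code_congr (cw_ok (el_ok hS hr)) (cw_ok (el_ok hS hr')) (congrArg act0 e))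
  calc 315 = ((aConj.map fun r => ev (cw r)).toFinset : Set CosetCertSuzGData.pres.Grp).ncard := by
        rw [Set.ncard_coe_finset, List.toFinset_card_of_nodup hnd', List.length_map, hlen]
    _ ≤ _ := Set.ncard_le_ncard (fun x hx => by
        simp only [List.coe_toFinset, Set.mem_ofPred_eq, List.mem_map] at hx
        obtain ⟨r, hr, rfl⟩ := hx
        exact ⟨act0_injective (by rw [map_mul, map_mul]; exact comm_of l_comm (cw_mem hr)),
          isConj_cw r⟩) (by
        haveI : Finite CosetCertSuzGData.pres.Grp := CosetCertSuzSimple.upper.1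
        exact Set.toFinite _)

/-- The first letter is not isolated. -/
theorem comm_conj : ∃ g : CosetCertSuzGData.pres.Grp,
    g * eA * g⁻¹ * eA = eA * (g * eA * g⁻¹) ∧ g * eA * g⁻¹ ≠ eA := by
  obtain ⟨r, hr, h⟩ := List.any_eq_true.mp comm_conj_ok
  simp only [Bool.and_eq_true, Bool.not_eq_true', Nat.beq_eq] at h
  have hok := cw_ok (el_ok cls_ok.1 hr)
  have he : act0 (ev r * eA * (ev r)⁻¹) = el (cw r) := by
    rw [map_mul, map_mul, map_inv, eA, act0_ev, act0_ev, el_cw]
  refine ⟨ev r, act0_injective ?_, fun e => ?_⟩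
  · rw [map_mul, map_mul act0 eA, he, eA, act0_ev, ← el_append, ← el_append]
    exact el_eq_of_code (ok7_append hok rfl) (ok7_append rfl hok) h.2
  · have h1 := congrArg act0 e
    rw [he, eA, act0_ev] at h1
    have := code_congr hok rfl h1
    simp [this] at h

/-! ### The order of the centraliser of the fifth letter -/

/-- The elements of the group fixing some points. -/
def Fx (pre : List Nat) : Subgroup (Equiv.Perm Pt) where
  carrier := {σ | σ ∈ SUZ ∧ Fixes σ pre}
  one_mem' := ⟨one_mem _, fun _ _ => rfl⟩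
  mul_mem' := fun {a b} ha hb => ⟨mul_mem ha.1 hb.1, fun k hk => by
    rw [Equiv.Perm.mul_apply, hb.2 k hk, ha.2 k hk]⟩
  inv_mem' := fun {a} ha => ⟨inv_mem ha.1, fun k hk => by
    rw [Equiv.Perm.inv_eq_iff_eq, ha.2 k hk]⟩

/-- The elements of the centraliser of the fifth letter fixing some points. -/
noncomputable def Ex (pre : List Nat) : Subgroup (Equiv.Perm Pt) :=
  Fx pre ⊓ Subgroup.centralizer {el [4]}

theorem card_fix_split (K : Subgroup (Equiv.Perm Pt)) (v : Nat) (hv : v < 1782)
    (K' : Subgroup (Equiv.Perm Pt)) (h : ∀ g, g ∈ K' ↔ g ∈ K ∧ g (pt v hv) = pt v hv) :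
    Nat.card K = (MulAction.orbit K (pt v hv)).ncard * Nat.card K' := by
  have e : Nat.card (MulAction.stabilizer K (pt v hv)) = Nat.card K' := by
    refine Nat.card_congr
      { toFun := fun g => ⟨g.1.1, (h _).mpr ⟨g.1.2, g.2⟩⟩
        invFun := fun g => ⟨⟨g.1, ((h _).mp g.2).1⟩, ((h _).mp g.2).2⟩
        left_inv := fun _ => rfl
        right_inv := fun _ => rfl }
  rw [← e, ← MulAction.index_stabilizer, Subgroup.index_mul_card]

theorem Fx_cons {pre : List Nat} {v : Nat} (hv : v < 1782) (g : Equiv.Perm Pt) :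
    g ∈ Fx (v :: pre) ↔ g ∈ Fx pre ∧ g (pt v hv) = pt v hv := by
  constructor
  · exact fun hg => ⟨⟨hg.1, fun k hk => hg.2 k (List.mem_cons_of_mem _ hk)⟩,
      hg.2 _ List.mem_cons_self⟩
  · rintro ⟨hg, hv'⟩
    refine ⟨hg.1, fun k hk => ?_⟩
    rcases List.mem_cons.mp hk with hk | hk
    · rw [show k = pt v hv from Fin.ext hk]; exact hv'
    · exact hg.2 k hk

theorem Fx_step {pre : List Nat} {v : Nat} {S T : List (List Nat)}
    (h : (orbOK S v T && fixB S pre) = true) :
    T.length * Nat.card (Fx (v :: pre)) ≤ Nat.card (Fx pre) := by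
  rw [Bool.and_eq_true] at h
  obtain ⟨hv, -, hn⟩ := orbOK_spec h.1
  have hle : cl S ≤ Fx pre := fun g hg => ⟨cl_le_SUZ S hg, fun k hk => cl_fix h.2 hg hk (pt_lt k)⟩
  rw [card_fix_split (Fx pre) v hv (Fx (v :: pre)) (Fx_cons hv), ← hn]
  refine Nat.mul_le_mul_right _ (Set.ncard_le_ncard ?_ (Set.toFinite _))
  rintro _ ⟨g, rfl⟩
  exact ⟨⟨g.1, hle g.2⟩, rfl⟩

theorem card_K : Nat.card (Fx [437, 19, 315, 0]) ≤ 12 := by
  obtain ⟨h0, h1, h2, l0, l1, l2⟩ := k_orbs
  have e : Fx [0] = Hp := by
    ext g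
    refine ⟨fun hg => mem_Hp_of_zero hg.1 (hg.2 _ List.mem_cons_self), fun hg => ⟨Hp_le hg, fun k hk => ?_⟩⟩
    rw [List.mem_singleton] at hk
    rw [show k = pt 0 (by norm_num) from Fin.ext hk]
    exact Hp_zero hg
  have a0 := Fx_step h0
  have a1 := Fx_step h1
  have a2 := Fx_step h2
  rw [l0, e, card_Hp] at a0
  rw [l1] at a1
  rw [l2] at a2
  omega

theorem E_step {pre : List Nat} {pw : List (List Nat)} {v : Nat} {n : Nat}
    (hv : fixE.contains v = true) (hv' : v < 1782)
    (hpw : ∀ w ∈ pw, ∃ b ∈ pre, zeroB w b = true ∧ b < 1782)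
    (hn : (cands pw v).length = n) : Nat.card (Ex pre) ≤ n * Nat.card (Ex (v :: pre)) := by
  rw [card_fix_split (Ex pre) v hv' (Ex (v :: pre)) fun g => by
    simp only [Ex, Subgroup.mem_inf, Fx_cons hv']; tauto]
  refine Nat.mul_le_mul_right _ ?_
  have hsub : Fin.val '' MulAction.orbit (Ex pre) (pt v hv') ⊆ ↑(cands pw v).toFinset := by
    rintro _ ⟨_, ⟨⟨g, hgF, hgc⟩, rfl⟩, rfl⟩
    simp only [List.coe_toFinset, Set.mem_ofPred_eq, cands, List.mem_filter, List.all_eq_true,
      Nat.beq_eq]
    have hfix : ∀ x : Pt, el [4] x = x ↔ (x : Nat) ∈ fixE := by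
      intro x
      have h1 := eq_of_beq ((allFrom_iff _ _ _).mp fixE_ok.1 x (Nat.zero_le _) (by simpa using pt_lt x))
      rw [← List.contains_iff_mem, h1, Nat.beq_eq, ← el_app rfl, Fin.val_eq_val]
    refine ⟨(hfix _).mp ?_, fun w hw => ?_⟩
    · show el [4] (g (pt v hv')) = g (pt v hv')
      rw [← Equiv.Perm.mul_apply, ← Subgroup.mem_centralizer_singleton_iff.mp hgc,
        Equiv.Perm.mul_apply, (hfix _).mpr (List.contains_iff_mem.mp hv)]
    · obtain ⟨b, hb, hz, hb'⟩ := hpw w hw
      simp only [zeroB, Bool.and_eq_true, Nat.beq_eq] at hz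
      have hw0 : el w (pt b hb') = pt 0 (by norm_num) := Fin.ext (by rw [el_app hz.1]; exact hz.2)
      have hmem : el w * g * (el w)⁻¹ ∈ Hp := by
        refine mem_Hp_of_zero (mul_mem (mul_mem (el_mem_SUZ w) hgF.1) (inv_mem (el_mem_SUZ w))) ?_
        rw [Equiv.Perm.mul_apply, Equiv.Perm.mul_apply, ← hw0, Equiv.Perm.coe_inv,
          Equiv.symm_apply_apply, hgF.2 _ hb]
      have h1 := lab_inv hmem (el w (pt v hv'))
      rw [Equiv.Perm.mul_apply, Equiv.Perm.mul_apply, Equiv.Perm.coe_inv, Equiv.symm_apply_apply,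
        el_app hz.1, el_app hz.1] at h1
      exact h1
  rw [← Set.ncard_image_of_injective _ Fin.val_injective, ← hn]
  exact (Set.ncard_le_ncard hsub (Finset.finite_toSet _)).trans
    (by rw [Set.ncard_coe_finset]; exact List.toFinset_card_le _)

theorem card_last : Nat.card (Ex [437, 19, 315, 0]) ≤ 4 := by
  obtain ⟨hv, he, hve, hvv, hv1, hv4, he1, hee⟩ := v_ok
  obtain ⟨hk, hkne⟩ := kOut_ok
  have hfx : ∀ {w : List Nat}, fixB [w] [437, 19, 315, 0] = true →
      ok7 w = true ∧ el w ∈ Fx [437, 19, 315, 0] := by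
    intro w h
    have h' := h
    simp only [fixB, List.all_cons, List.all_nil, Bool.and_true, Bool.and_eq_true] at h'
    exact ⟨h'.1, el_mem_SUZ w, fun k hk => cl_fix h (el_mem_cl List.mem_cons_self) hk (pt_lt k)⟩
  obtain ⟨hvok, hvF⟩ := hfx hv
  obtain ⟨heok, heF⟩ := hfx he
  obtain ⟨hkok, hkF⟩ := hfx hk
  have ce : el vWord * el [4] = el [4] * el vWord := by
    rw [← el_append, ← el_append]; exact el_eq_of_code (ok7_append hvok heok) (ok7_append heok hvok) hve
  have cvv : el vWord * el vWord = 1 := by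
    rw [← el_append, ← el_nil]; exact el_eq_of_code (ok7_append hvok hvok) rfl hvv
  have cee : el [4] * el [4] = 1 := by
    rw [← el_append, ← el_nil]; exact el_eq_of_code (ok7_append heok heok) rfl hee
  set M := Ex [437, 19, 315, 0] with hM
  have hvM : el vWord ∈ M := ⟨hvF, Subgroup.mem_centralizer_singleton_iff.mpr ce⟩
  have heM : el [4] ∈ M := ⟨heF, Subgroup.mem_centralizer_singleton_iff.mpr rfl⟩
  have hlt : M < Fx [437, 19, 315, 0] := lt_of_le_of_ne inf_le_left fun e => hkne (by
    have : el kOut ∈ M := e ▸ hkF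
    refine code_congr (ok7_append hkok heok) (ok7_append heok hkok) ?_
    rw [el_append, el_append]
    exact Subgroup.mem_centralizer_singleton_iff.mp this.2)
  have hdvd := Subgroup.card_dvd_of_le hlt.le
  have hle : 2 * Nat.card M ≤ Nat.card (Fx [437, 19, 315, 0]) := by
    obtain ⟨t, ht⟩ := hdvd
    rcases Nat.lt_or_ge t 2 with h2 | h2
    · exfalso
      refine hlt.ne (Subgroup.eq_of_le_of_card_ge hlt.le ?_)
      rw [ht]; interval_cases t <;> simp
    · rw [ht, mul_comm 2]; exact Nat.mul_le_mul_left _ h2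
  -- a four group inside
  have f4 : 4 ∣ Nat.card M := by
    have hev : el [4] * el vWord * el [4] = el vWord := by rw [← ce, mul_assoc, cee, mul_one]
    let V : Subgroup (Equiv.Perm Pt) :=
      { carrier := {1, el [4], el vWord, el [4] * el vWord}
        one_mem' := Or.inl rfl
        mul_mem' := by
          intro a b ha hb
          have e1 : el [4] * (el [4] * el vWord) = el vWord := by rw [← mul_assoc, cee, one_mul]
          have e2 : el vWord * (el [4] * el vWord) = el [4] := by
            rw [← mul_assoc, ce, mul_assoc, cvv, mul_one]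
          have e3 : el [4] * el vWord * el vWord = el [4] := by rw [mul_assoc, cvv, mul_one]
          have e4 : el [4] * el vWord * (el [4] * el vWord) = 1 := by
            rw [← mul_assoc, hev, cvv]
          simp only [Set.mem_insert_iff, Set.mem_singleton_iff] at ha hb ⊢
          rcases ha with rfl | rfl | rfl | rfl <;> rcases hb with rfl | rfl | rfl | rfl <;>
            simp [cee, cvv, ce, e1, e2, e3, e4, hev]
        inv_mem' := by
          intro a ha
          simp only [Set.mem_insert_iff, Set.mem_singleton_iff] at ha ⊢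
          rcases ha with rfl | rfl | rfl | rfl
          · simp
          · exact Or.inr (Or.inl (inv_eq_of_mul_eq_one_right cee))
          · exact Or.inr (Or.inr (Or.inl (inv_eq_of_mul_eq_one_right cvv)))
          · refine Or.inr (Or.inr (Or.inr ?_))
            rw [mul_inv_rev, inv_eq_of_mul_eq_one_right cee, inv_eq_of_mul_eq_one_right cvv, ce] }
    have hV : Nat.card V = 4 := by
      have n1 : (1 : Equiv.Perm Pt) ≠ el [4] := fun e =>
        he1 (code_congr heok rfl (e.symm.trans el_nil.symm))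
      have n2 : (1 : Equiv.Perm Pt) ≠ el vWord := fun e =>
        hv1 (code_congr hvok rfl (e.symm.trans el_nil.symm))
      have n4 : el [4] ≠ el vWord := fun e => hv4 (code_congr hvok heok e.symm)
      have n3 : (1 : Equiv.Perm Pt) ≠ el [4] * el vWord := fun e => n4 (by
        have := congrArg (el [4] * ·) e
        simpa [← mul_assoc, cee] using this)
      have n5 : el [4] ≠ el [4] * el vWord := fun e => n2 (mul_eq_left.mp e.symm).symm
      have n6 : el vWord ≠ el [4] * el vWord := fun e => n1 (mul_eq_right.mp e.symm).symm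
      rw [← SetLike.coe_sort_coe, Nat.card_coe_set_eq]
      show ({1, el [4], el vWord, el [4] * el vWord} : Set (Equiv.Perm Pt)).ncard = 4
      rw [Set.ncard_insert_of_notMem (by simp [n1, n2, n3]),
        Set.ncard_insert_of_notMem (by simp [n4, n5]), Set.ncard_pair n6]
    rw [← hV]
    refine Subgroup.card_dvd_of_le ?_
    rintro a (rfl | rfl | rfl | rfl)
    exacts [one_mem _, heM, hvM, mul_mem heM hvM]
  have := card_K
  have hpos : 0 < Nat.card M := Nat.card_pos
  obtain ⟨c, hc⟩ := f4
  omega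

/-- The centraliser of the fifth letter is small. -/
theorem card_cent_eE : Nat.card (Subgroup.centralizer ({eE} : Set CosetCertSuzGData.pres.Grp)) ≤ 161280 := by
  obtain ⟨z0, z1, z2⟩ := toZero_ok
  obtain ⟨hF, c0, c1, c2, c3⟩ := cands_len
  simp only [List.all_cons, List.all_nil, Bool.and_true, Bool.and_eq_true] at hF
  have s0 := E_step (pre := []) (v := 0) hF.1 (by norm_num) (by simp) c0
  have s1 := E_step (pre := [0]) (v := 315) hF.2.1 (by norm_num) (by
    intro w hw; rw [List.mem_singleton] at hw; exact ⟨0, by simp, hw ▸ z0, by norm_num⟩) c1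
  have s2 := E_step (pre := [315, 0]) (v := 19) hF.2.2.1 (by norm_num) (by
    intro w hw
    simp only [List.mem_cons, List.not_mem_nil, or_false] at hw
    rcases hw with rfl | rfl
    exacts [⟨315, by simp, z1, by norm_num⟩, ⟨0, by simp, z0, by norm_num⟩]) c2
  have s3 := E_step (pre := [19, 315, 0]) (v := 437) hF.2.2.2 (by norm_num) (by
    intro w hw
    simp only [List.mem_cons, List.not_mem_nil, or_false] at hw
    rcases hw with rfl | rfl | rfl
    exacts [⟨19, by simp, z2, by norm_num⟩, ⟨315, by simp, z1, by norm_num⟩,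
      ⟨0, by simp, z0, by norm_num⟩]) c3
  have hlast := card_last
  have hle : (Subgroup.centralizer ({eE} : Set CosetCertSuzGData.pres.Grp)).map act0 ≤ Ex [] := by
    rintro _ ⟨x, hx, rfl⟩
    refine ⟨⟨⟨x, rfl⟩, fun k hk => absurd hk List.not_mem_nil⟩, ?_⟩
    refine Subgroup.mem_centralizer_singleton_iff.mpr ?_
    rw [← act0_ev, ← map_mul, ← map_mul]
    exact congrArg act0 (Subgroup.mem_centralizer_singleton_iff.mp hx)
  have h := Subgroup.card_le_of_le hle
  rw [Subgroup.card_map_of_injective act0_injective] at h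
  omega

end Cfsg.Agent.SuzInvol76
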