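import Cfsg.Agent.Lib.SuzInvol76Strong
import Cfsg.Agent.Lib.LargeExtraspecialSetting
import Cfsg.Agent.Lib.SuzTypeOrder62
import Cfsg.Prelude.Def_Classical

/-!
The hypotheses of the uniqueness theorem for Suz put into the working form.
-/

set_option autoImplicit false

namespace Cfsg.Agent.SuzInvol76

open Subgroup Cfsg.Agent.SuzTypeCoord62

variable {G : Type*} [Group G] [Finite G] {z : G}

/-- The working form of the hypotheses. -/
theorem setting (hz : orderOf z = 2) (Q : Subgroup (Subgroup.centralizer ({z} : Set G))) [Q.Normal]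
    (hF : Cfsg.generalizedFittingSubgroup (Subgroup.centralizer ({z} : Set G)) = Q)
    (hQ : Cfsg.IsExtraspecial 2 Q) (hcard : Nat.card Q = 2 ^ 7)
    (e : (Subgroup.centralizer ({z} : Set G)) ⧸ Q ≃*
      Cfsg.Omega (ZMod 2) (Cfsg.quadFormMinus 2 (ZMod 2) 1 1))
    (hnwc : ∃ g : G, (∃ hq : g * z * g⁻¹ ∈ Subgroup.centralizer ({z} : Set G),
      (⟨g * z * g⁻¹, hq⟩ : Subgroup.centralizer ({z} : Set G)) ∈ Q) ∧ g * z * g⁻¹ ≠ z) :
    Hyp (Q.map (Subgroup.centralizer ({z} : Set G)).subtype) z ∧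
      ∃ g : G, g * z * g⁻¹ ∈ Q.map (Subgroup.centralizer ({z} : Set G)).subtype ∧ g * z * g⁻¹ ≠ z := by
  obtain ⟨hL, -⟩ := LargeExtraspecialSetting.lhyp_of_fitting hz Q hF hQ
  obtain ⟨g, ⟨hq, hgQ⟩, hgz⟩ := hnwc
  refine ⟨⟨hL, ?_, ?_⟩, g, ⟨_, hgQ, rfl⟩, hgz⟩
  · rw [Subgroup.card_map_of_injective (Subgroup.subtype_injective _), hcard]; norm_num
  · rw [Subgroup.card_eq_card_quotient_mul_card_subgroup Q, Nat.card_congr e.toEquiv,
      SuzTypeOrder62.card_omega, hcard]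
    norm_num

/-- Under the hypotheses of the uniqueness theorem a nontrivial image of Suz is everything. -/
theorem isoSuz_of_hom (hz : orderOf z = 2) (Q : Subgroup (Subgroup.centralizer ({z} : Set G))) [Q.Normal]
    (hF : Cfsg.generalizedFittingSubgroup (Subgroup.centralizer ({z} : Set G)) = Q)
    (hQ : Cfsg.IsExtraspecial 2 Q) (hcard : Nat.card Q = 2 ^ 7)
    (e : (Subgroup.centralizer ({z} : Set G)) ⧸ Q ≃*
      Cfsg.Omega (ZMod 2) (Cfsg.quadFormMinus 2 (ZMod 2) 1 1))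
    (hnwc : ∃ g : G, (∃ hq : g * z * g⁻¹ ∈ Subgroup.centralizer ({z} : Set G),
      (⟨g * z * g⁻¹, hq⟩ : Subgroup.centralizer ({z} : Set G)) ∈ Q) ∧ g * z * g⁻¹ ≠ z)
    (φ : Cfsg.Spor.Suz →* G) (hne : φ ≠ 1) : Cfsg.Spor.IsoSuz G := by
  obtain ⟨H, fus⟩ := setting hz Q hF hQ hcard e hnwc
  exact iso_of_hom H fus φ hne

end Cfsg.Agent.SuzInvol76
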