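import Cfsg.Agent.Lib.SuzInvol76Model
import Cfsg.Agent.Lib.SuzInvol76Fus

/-!
A group of Suzuki sporadic type receiving a nontrivial homomorphism from Suz is Suz.

The image contains the centraliser of `z`; fixed point counting on the cosets of the image shows that it
contains the centraliser of the second class of involutions, and then it is the whole group because
otherwise it would be strongly embedded while there are two classes of involutions.
-/

set_option autoImplicit false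
set_option linter.style.haveILetI false

namespace Cfsg.Agent.SuzInvol76

open Subgroup Cfsg.Agent.SuzTypeCoord62 Cfsg.Agent.SuzTypeRadical62
open Cfsg.Agent.LargeExtraspecial

variable {G : Type*} [Group G] [Finite G] {Q : Subgroup G} {z : G}

theorem two_classes (H : Hyp Q z) (fus : ∃ g : G, g * z * g⁻¹ ∈ Q ∧ g * z * g⁻¹ ≠ z) :
    ∃ u : G, orderOf u = 2 ∧ ¬ IsConj z u ∧
      (∀ x : G, orderOf x = 2 → IsConj x z ∨ IsConj x u) ∧
      ∀ x : G, orderOf x = 2 → ∃ g, g * x * g⁻¹ ∈ centralizer ({z} : Set G) := by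
  obtain ⟨g, hgQ, hgz⟩ := fus
  obtain ⟨ν, d, ρ, D⟩ := exists_ctx H (g := g) hgQ hgz
  obtain ⟨a₀, ha₀, b₀, hb₀, hα, hβ, hsq, hne⟩ := D.exists_y
  refine ⟨a₀ * b₀, orderOf_eq_prime (by rw [pow_two]; exact hsq) hne, D.not_conj ha₀ hb₀ hα hβ,
    fun x hx => ?_, fun x hx => D.in_C hx⟩
  obtain ⟨g₁, hg₁⟩ := D.in_C hx
  have hxx : x * x = 1 := by rw [← pow_two, ← hx]; exact pow_orderOf_eq_one x
  obtain ⟨g₂, hg₂⟩ := D.into_R (mem_centralizer_singleton_iff.mp hg₁) (by
    calc g₁ * x * g₁⁻¹ * (g₁ * x * g₁⁻¹) = g₁ * (x * x) * g₁⁻¹ := by group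
      _ = 1 := by rw [hxx]; group)
  have hconj : IsConj x (g₂ * (g₁ * x * g₁⁻¹) * g₂⁻¹) := isConj_iff.mpr ⟨g₂ * g₁, by group⟩
  rcases D.class_R ha₀ hb₀ hα hβ hg₂ (by
      calc g₂ * (g₁ * x * g₁⁻¹) * g₂⁻¹ * (g₂ * (g₁ * x * g₁⁻¹) * g₂⁻¹)
          = g₂ * g₁ * (x * x) * g₁⁻¹ * g₂⁻¹ := by group
        _ = 1 := by rw [hxx]; group)
      (fun h => by
        have h2 : x = 1 := conj_eq_one_iff.mp (conj_eq_one_iff.mp h)
        rw [h2] at hx
        simp at hx) with h | h
  · exact Or.inl (hconj.trans h)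
  · exact Or.inr (hconj.trans h)

/-- An involution central in a subgroup of order `2 ^ 13` is conjugate to `z`. -/
theorem isConj_z_of_card (H : Hyp Q z) {x : G} (hx : orderOf x = 2)
    (hd : 2 ^ 13 ∣ Nat.card (centralizer ({x} : Set G))) : IsConj x z := by
  haveI : Fact (Nat.Prime 2) := ⟨Nat.prime_two⟩
  obtain ⟨P, hQP⟩ := H.h.toExt.isPGroup.exists_le_sylow
  have hcases : ∀ w : G, (∀ y ∈ (P : Subgroup G), y * w = w * y) → w = 1 ∨ w = z :=
    fun w hw => H.h.cent w fun y hy => (hw y (hQP hy)).symm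
  have hPz : (P : Subgroup G) ≤ centralizer ({z} : Set G) := by
    have hne : Nontrivial ↥(P : Subgroup G) :=
      ⟨⟨⟨z, hQP H.h.mem⟩, 1, fun e => H.h.ne_one (congrArg Subtype.val e)⟩⟩
    haveI := P.isPGroup'.center_nontrivial
    obtain ⟨⟨⟨w, hwP⟩, hwc⟩, hw1⟩ := exists_ne (1 : Subgroup.center ↥(P : Subgroup G))
    have hwcomm : ∀ y ∈ (P : Subgroup G), y * w = w * y := fun y hy =>
      congrArg Subtype.val (mem_center_iff.mp hwc ⟨y, hy⟩)
    rcases hcases w hwcomm with e | e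
    · exact absurd (Subtype.ext (Subtype.ext e)) hw1
    · subst e; exact fun y hy => mem_centralizer_singleton_iff.mpr (hwcomm y hy)
  obtain ⟨n, hn⟩ := P.isPGroup'.exists_card_eq
  have hn13 : n ≤ 13 := by
    have h1 : 2 ^ n ∣ 128 * 25920 := hn ▸ H.cardC ▸ Subgroup.card_dvd_of_le hPz
    by_contra hlt
    have : 2 ^ 14 ∣ 128 * 25920 := (pow_dvd_pow 2 (by omega)).trans h1
    norm_num at this
  obtain ⟨R, hR⟩ := Sylow.exists_subgroup_card_pow_prime 2 hd
  set R' := R.map (centralizer ({x} : Set G)).subtype with hR'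
  have hR'c : Nat.card R' = 2 ^ 13 := by
    rw [hR', Subgroup.card_map_of_injective (Subgroup.subtype_injective _), hR]
  obtain ⟨S, hS⟩ := (IsPGroup.of_card (n := 13) hR'c).exists_le_sylow
  obtain ⟨g, hg⟩ := MulAction.exists_smul_eq G S P
  have hSc : Nat.card (S : Subgroup G) = 2 ^ n := by
    rw [← hn, ← hg, Sylow.coe_subgroup_smul]
    exact Nat.card_congr (Subgroup.equivSMul (MulAut.conj g) (S : Subgroup G)).toEquiv
  have hSeq : R' = (S : Subgroup G) := Subgroup.eq_of_le_of_card_ge hS (by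
    rw [hSc, hR'c]; exact Nat.pow_le_pow_right (by norm_num) hn13)
  refine isConj_iff.mpr ⟨g, ?_⟩
  have hcm : ∀ y ∈ (P : Subgroup G), y * (g * x * g⁻¹) = g * x * g⁻¹ * y := by
    intro y hy
    rw [← hg, Sylow.coe_subgroup_smul] at hy
    obtain ⟨s, hs, rfl⟩ := hy
    rw [← hSeq, hR'] at hs
    obtain ⟨⟨r, hr⟩, -, rfl⟩ := hs
    show g * r * g⁻¹ * (g * x * g⁻¹) = g * x * g⁻¹ * (g * r * g⁻¹)
    calc g * r * g⁻¹ * (g * x * g⁻¹) = g * (r * x) * g⁻¹ := by group
      _ = g * (x * r) * g⁻¹ := by rw [mem_centralizer_singleton_iff.mp hr]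
      _ = g * x * g⁻¹ * (g * r * g⁻¹) := by group
  rcases hcases (g * x * g⁻¹) hcm with e | e
  · exfalso
    rw [conj_eq_one_iff] at e
    simp [e] at hx
  · exact e

theorem orderOf_ev {i : Nat} (h : ev [i] ≠ 1) : orderOf (ev [i]) = 2 := by
  refine orderOf_eq_prime ?_ h
  have := CosetCertPres.gg_sq CosetCertSuzG.good i
  simpa [ev, CosetCertCore.val, pow_two] using this

theorem orderOf_eA : orderOf eA = 2 := orderOf_ev fun e => by
  obtain ⟨g, -, h⟩ := comm_conj
  exact h (by rw [show eA = 1 from e]; group)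

theorem orderOf_eE : orderOf eE = 2 := orderOf_ev fun e => by
  have h := card_cent_eE
  rw [show eE = 1 from e, show centralizer ({1} : Set CosetCertSuzGData.pres.Grp) = ⊤ from
    eq_top_iff.mpr fun x _ => mem_centralizer_singleton_iff.mpr (by simp), Subgroup.card_top,
    CosetCertSuzSimple.card_and_faithful.1] at h
  norm_num at h

/-- Involutions with odd product are conjugate; with even product some involution centralises both. -/
theorem dihedral_cases {x y : G} (hx : x * x = 1) (hy : y * y = 1) :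
    IsConj y x ∨ ∃ w : G, orderOf w = 2 ∧ w * x = x * w ∧ w * y = y * w := by
  set r := x * y with hr
  have hxi : x⁻¹ = x := inv_eq_of_mul_eq_one_right hx
  have hyi : y⁻¹ = y := inv_eq_of_mul_eq_one_right hy
  have hyr : y * r * y⁻¹ = r⁻¹ := by
    rw [hr, mul_inv_rev, hxi, hyi]
    simp [mul_assoc, hy]
  have hxr : x * r * x⁻¹ = r⁻¹ := by
    rw [hr, mul_inv_rev, hxi, hyi, ← mul_assoc, hx, one_mul]
  rcases Nat.even_or_odd (orderOf r) with ⟨k, hk⟩ | ⟨k, hk⟩
  · right
    have hpos := orderOf_pos r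
    have hw : orderOf (r ^ k) = 2 := by
      rw [orderOf_pow' r (by omega : k ≠ 0), hk, show k + k = 2 * k by ring, Nat.gcd_mul_left_left,
        Nat.mul_div_cancel _ (by omega)]
    have hwi : (r ^ k)⁻¹ = r ^ k := inv_eq_of_mul_eq_one_right (by
      rw [← pow_add, ← hk, pow_orderOf_eq_one])
    refine ⟨r ^ k, hw, (mul_inv_eq_iff_eq_mul.mp ?_).symm, (mul_inv_eq_iff_eq_mul.mp ?_).symm⟩
    · rw [← conj_pow, hxr, inv_pow, hwi]
    · rw [← conj_pow, hyr, inv_pow, hwi]
  · left
    refine isConj_iff.mpr ⟨r ^ (k + 1), ?_⟩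
    have h1 : y * (r ^ (k + 1))⁻¹ = r ^ (k + 1) * y := by
      rw [← mul_inv_eq_iff_eq_mul, ← inv_pow, ← conj_pow,
        show y * r⁻¹ * y⁻¹ = r by rw [show y * r⁻¹ * y⁻¹ = (y * r * y⁻¹)⁻¹ by group, hyr, inv_inv]]
    calc r ^ (k + 1) * y * (r ^ (k + 1))⁻¹ = r ^ (k + 1) * (r ^ (k + 1) * y) := by
          rw [mul_assoc, h1]
      _ = r ^ (orderOf r) * (r * y) := by
          rw [← mul_assoc, ← pow_add, hk, show k + 1 + (k + 1) = 2 * k + 1 + 1 by ring, pow_succ,
            mul_assoc]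
      _ = x := by rw [pow_orderOf_eq_one, one_mul, hr, mul_assoc, hy, mul_one]

/-- The case in which the first letter goes to `z`. -/
theorem surjective_of_eq (H : Hyp Q z) (fus : ∃ g : G, g * z * g⁻¹ ∈ Q ∧ g * z * g⁻¹ ≠ z)
    (φ : CosetCertSuzGData.pres.Grp →* G) (hinj : Function.Injective φ) (hA : φ eA = z) :
    Function.Surjective φ := by
  classical
  set G₀ := φ.range with hG₀
  set u := φ eE with hu
  have hzG : z ∈ G₀ := hA ▸ ⟨eA, rfl⟩
  have huG : u ∈ G₀ := ⟨eE, rfl⟩
  have huo : orderOf u = 2 := by rw [hu, orderOf_injective φ hinj]; exact orderOf_eE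
  -- the centraliser of `z`
  have hCz : centralizer ({z} : Set G) ≤ G₀ := by
    obtain ⟨C, hC, hdvd⟩ := cent_eA
    have hle : C.map φ ≤ centralizer ({z} : Set G) := by
      rintro _ ⟨c, hc, rfl⟩
      rw [mem_centralizer_singleton_iff, ← hA, ← map_mul, ← map_mul, hC c hc]
    have heq : C.map φ = centralizer ({z} : Set G) := Subgroup.eq_of_le_of_card_ge hle (by
      rw [H.cardC, Subgroup.card_map_of_injective hinj]
      exact Nat.le_of_dvd Nat.card_pos hdvd)
    rw [← heq, hG₀, MonoidHom.range_eq_map]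
    exact Subgroup.map_mono le_top
  have hQle : Q ≤ G₀ := fun q hq => hCz (mem_centralizer_singleton_iff.mpr (H.h.comm q hq))
  -- the hypotheses inside the image
  obtain ⟨g₁, hg₁c, hg₁n⟩ := comm_conj
  obtain ⟨g, hgG, hgQ, hgz⟩ := fus_of_fus_cent H fus G₀ hCz (h := φ g₁) ⟨g₁, rfl⟩
    (by rw [← hA, ← map_inv, ← map_mul, ← map_mul, ← map_mul, ← map_mul, hg₁c])
    (by rw [← hA, ← map_inv, ← map_mul, ← map_mul]; exact fun e => hg₁n (hinj e))
  have H₀ : Hyp (Q.subgroupOf G₀) (⟨z, hzG⟩ : G₀) := by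
    refine ⟨⟨⟨H.h.mem, fun e => H.h.ne_one (congrArg Subtype.val e), Subtype.ext H.h.zz,
      fun x hx => Subtype.ext (H.h.comm _ hx), fun x hx => ?_, fun x hx y hy => ?_,
      fun x hx h1 h2 => ?_⟩, fun x hx => ?_, fun x hx y hy => ?_, ?_⟩, ?_, ?_⟩
    · rcases H.h.sq _ hx with e | e
      exacts [Or.inl (Subtype.ext e), Or.inr (Subtype.ext e)]
    · rcases H.h.conj _ hx _ hy with e | e
      exacts [Or.inl (Subtype.ext e), Or.inr (Subtype.ext e)]
    · obtain ⟨y, hy, e⟩ := H.h.partner _ hx (fun e => h1 (Subtype.ext e)) (fun e => h2 (Subtype.ext e))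
      exact ⟨⟨y, hQle hy⟩, hy, Subtype.ext e⟩
    · rcases H.h.cent _ (fun y hy => congrArg Subtype.val (hx ⟨y, hQle hy⟩ hy)) with e | e
      exacts [Or.inl (Subtype.ext e), Or.inr (Subtype.ext e)]
    · exact H.h.norm _ (congrArg Subtype.val hx) _ hy
    · obtain ⟨x, hx, h1, h2⟩ := H.h.big
      exact ⟨⟨x, hQle hx⟩, hx, fun e => h1 (congrArg Subtype.val e), fun e => h2 (congrArg Subtype.val e)⟩
    · rw [Nat.card_congr (Subgroup.subgroupOfEquivOfLe hQle).toEquiv, H.cardQ]
    · rw [show centralizer ({(⟨z, hzG⟩ : G₀)} : Set G₀) = (centralizer ({z} : Set G)).subgroupOf G₀ from ?_,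
        Nat.card_congr (Subgroup.subgroupOfEquivOfLe hCz).toEquiv, H.cardC]
      ext x
      rw [Subgroup.mem_subgroupOf, mem_centralizer_singleton_iff, mem_centralizer_singleton_iff]
      exact ⟨congrArg Subtype.val, fun e => Subtype.ext e⟩
  obtain ⟨v₀, -, -, hcls₀, -⟩ := two_classes H₀
    ⟨⟨g, hgG⟩, hgQ, fun e => hgz (congrArg Subtype.val e)⟩
  have horder : ∀ {x : G} (hx : x ∈ G₀), orderOf x = 2 → orderOf (⟨x, hx⟩ : G₀) = 2 :=
    fun hx h => by rwa [Subgroup.orderOf_mk]
  have hzu₀ : ¬ IsConj (⟨z, hzG⟩ : G₀) ⟨u, huG⟩ := by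
    intro h
    obtain ⟨⟨_, k, rfl⟩, hk⟩ := isConj_iff.mp h
    refine not_isConj (isConj_iff.mpr ⟨k, hinj ?_⟩)
    rw [map_mul, map_mul, map_inv, hA]
    exact congrArg Subtype.val hk
  have hcl : ∀ {x : G} (hx : x ∈ G₀), orderOf x = 2 →
      IsConj (⟨x, hx⟩ : G₀) ⟨z, hzG⟩ ∨ IsConj (⟨x, hx⟩ : G₀) ⟨u, huG⟩ := by
    intro x hx h
    have hu' := (hcls₀ _ (horder huG huo)).resolve_left fun e => hzu₀ e.symm
    rcases hcls₀ _ (horder hx h) with e | e
    exacts [Or.inl e, Or.inr (e.trans hu'.symm)]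
  have down : ∀ {a b : G₀}, IsConj a b → IsConj (a : G) b := fun h => MonoidHom.map_isConj G₀.subtype h
  have hnc : ¬ IsConj z u := by
    intro hzu
    obtain ⟨v, hvo, hvz, -, hin⟩ := two_classes H fus
    obtain ⟨c, hc⟩ := hin v hvo
    have ho : orderOf (c * v * c⁻¹) = 2 := by
      rw [show c * v * c⁻¹ = MulAut.conj c v from rfl, MulEquiv.orderOf_eq, hvo]
    have hv : IsConj v (c * v * c⁻¹) := isConj_iff.mpr ⟨c, rfl⟩
    rcases hcl (hCz hc) ho with e | e
    · exact hvz ((hv.trans (down e)).symm)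
    · exact hvz (hzu.trans (hv.trans (down e)).symm)
  have hzconj : ∀ {x : G} (hx : x ∈ G₀), IsConj x z → ∃ k ∈ G₀, k * z * k⁻¹ = x := by
    intro x hx h
    have ho : orderOf x = 2 := by
      obtain ⟨c, rfl⟩ := isConj_iff.mp h.symm
      rw [show c * z * c⁻¹ = MulAut.conj c z from rfl, MulEquiv.orderOf_eq, H.h.toExt.orderOf_z]
    obtain ⟨k, hk⟩ := isConj_iff.mp ((hcl hx ho).resolve_right fun e => hnc (h.symm.trans (down e))).symm
    exact ⟨k, k.2, congrArg Subtype.val hk⟩
  -- `z` fixes one point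
  have hone : ∀ {g : G}, g⁻¹ * z * g ∈ G₀ → g ∈ G₀ := by
    intro g hg
    obtain ⟨k, hk, e⟩ := hzconj hg (isConj_iff.mpr ⟨g, by group⟩)
    have : g * k ∈ centralizer ({z} : Set G) := by
      rw [mem_centralizer_singleton_iff]
      calc g * k * z = g * (k * z * k⁻¹) * k := by group
        _ = z * (g * k) := by rw [e]; group
    have := mul_mem (hCz this) (inv_mem hk)
    rwa [mul_inv_cancel_right] at this
  have huniq : ∀ {x : G}, IsConj x z → ∀ p q : G ⧸ G₀, x • p = p → x • q = q → p = q := by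
    intro x hx p q
    induction p using QuotientGroup.induction_on with
    | H a =>
      induction q using QuotientGroup.induction_on with
      | H b =>
        intro ha hb
        obtain ⟨c, rfl⟩ := isConj_iff.mp hx.symm
        have key : ∀ a : G, (c * z * c⁻¹) • (a : G ⧸ G₀) = a → c⁻¹ * a ∈ G₀ := by
          intro a h
          refine hone ?_
          rw [MulAction.Quotient.smul_coe, smul_eq_mul, QuotientGroup.eq] at h
          have h' := inv_mem h
          rwa [show ((c * z * c⁻¹ * a)⁻¹ * a)⁻¹ = (c⁻¹ * a)⁻¹ * z * (c⁻¹ * a) by group] at h'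
        rw [QuotientGroup.eq]
        have := mul_mem (inv_mem (key a ha)) (key b hb)
        rwa [show (c⁻¹ * a)⁻¹ * (c⁻¹ * b) = a⁻¹ * b by group] at this
  -- the centraliser of `u`
  have hCu : centralizer ({u} : Set G) ≤ G₀ := by
    set U := centralizer ({u} : Set G) with hU
    haveI : Fintype (G ⧸ G₀) := Fintype.ofFinite _
    haveI : Fintype G := Fintype.ofFinite _
    set o : G ⧸ G₀ := ((1 : G) : G ⧸ G₀) with ho_def
    set F : Finset (G ⧸ G₀) := Finset.univ.filter fun p => ∃ h ∈ U, h • o = p with hF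
    set Z : Finset G := Finset.univ.filter fun x => x ∈ U ∧ IsConj x z with hZ
    have hUmem : ∀ {h : G}, h ∈ U → h * u = u * h := fun hh => mem_centralizer_singleton_iff.mp hh
    have hpt : ∀ {x : G}, x ∈ U → IsConj x z → ∃ p ∈ F, x • p = p := by
      intro x hxU hx
      obtain ⟨c, rfl⟩ := isConj_iff.mp hx.symm
      have hfix : (c * z * c⁻¹) • (c : G ⧸ G₀) = (c : G ⧸ G₀) := by
        rw [MulAction.Quotient.smul_coe, smul_eq_mul, QuotientGroup.eq,
          show (c * z * c⁻¹ * c)⁻¹ * c = z⁻¹ by group]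
        exact inv_mem hzG
      have hufix : u • (c : G ⧸ G₀) = (c : G ⧸ G₀) :=
        huniq hx _ _ (by rw [← mul_smul, hUmem hxU, mul_smul, hfix]) hfix
      have hm : c⁻¹ * u * c ∈ G₀ := by
        rw [MulAction.Quotient.smul_coe, smul_eq_mul, QuotientGroup.eq] at hufix
        have h' := inv_mem hufix
        rwa [show ((u * c)⁻¹ * c)⁻¹ = c⁻¹ * u * c by group] at h'
      have huc : IsConj (c⁻¹ * u * c) u := isConj_iff.mpr ⟨c, by group⟩
      have hmo : orderOf (c⁻¹ * u * c) = 2 := by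
        rw [show c⁻¹ * u * c = MulAut.conj c⁻¹ u by simp, MulEquiv.orderOf_eq, huo]
      obtain ⟨k, hk⟩ := isConj_iff.mp
        ((hcl hm hmo).resolve_left fun e => hnc ((down e).symm.trans huc)).symm
      have hk' : (k : G) * u * (k : G)⁻¹ = c⁻¹ * u * c := congrArg Subtype.val hk
      refine ⟨(c : G ⧸ G₀), Finset.mem_filter.mpr ⟨Finset.mem_univ _, c * k, ?_, ?_⟩, hfix⟩
      · rw [hU, mem_centralizer_singleton_iff]
        calc c * k * u = c * ((k : G) * u * (k : G)⁻¹) * k := by group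
          _ = u * (c * k) := by rw [hk']; group
      · rw [ho_def, MulAction.Quotient.smul_coe, smul_eq_mul, mul_one, QuotientGroup.eq,
          show (c * k : G)⁻¹ * c = (k : G)⁻¹ by group]
        exact inv_mem k.2
    have hoF : o ∈ F := Finset.mem_filter.mpr ⟨Finset.mem_univ _, 1, one_mem _, one_smul _ _⟩
    have hFinv : ∀ {x : G} {p : G ⧸ G₀}, x ∈ U → p ∈ F → x • p ∈ F := by
      intro x p hx hp
      obtain ⟨h, hh, rfl⟩ := (Finset.mem_filter.mp hp).2
      exact Finset.mem_filter.mpr ⟨Finset.mem_univ _, x * h, mul_mem hx hh, mul_smul x h o⟩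
    set Z₁ : Finset G := Z.filter fun x => x • o = o with hZ₁
    have hN : 315 ≤ Z₁.card := by
      have h1 := many
      rw [← Set.ncard_image_of_injective _ hinj] at h1
      refine h1.trans ?_
      rw [← Set.ncard_coe_finset]
      refine Set.ncard_le_ncard ?_ (Finset.finite_toSet _)
      rintro _ ⟨x, ⟨hxc, hxA⟩, rfl⟩
      simp only [hZ₁, hZ, Finset.coe_filter, Finset.mem_univ, true_and, Set.mem_ofPred_eq, Finset.mem_filter]
      refine ⟨⟨?_, hA ▸ MonoidHom.map_isConj φ hxA⟩, ?_⟩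
      · rw [hU, mem_centralizer_singleton_iff, hu, ← map_mul, ← map_mul, hxc]
      · rw [ho_def, MulAction.Quotient.smul_coe, smul_eq_mul, mul_one, QuotientGroup.eq, mul_one]
        exact inv_mem ⟨x, rfl⟩
    have hfib : ∀ p ∈ F, (Z.filter fun x => x • p = p).card = Z₁.card := by
      intro p hp
      obtain ⟨h, hh, rfl⟩ := (Finset.mem_filter.mp hp).2
      symm
      refine Finset.card_bij' (fun x _ => h * x * h⁻¹) (fun x _ => h⁻¹ * x * h) ?_ ?_ ?_ ?_
      · intro x hx
        obtain ⟨hxZ, hxo⟩ := Finset.mem_filter.mp hx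
        obtain ⟨-, hxU, hxz⟩ := Finset.mem_filter.mp hxZ
        refine Finset.mem_filter.mpr ⟨Finset.mem_filter.mpr ⟨Finset.mem_univ _,
          mul_mem (mul_mem hh hxU) (inv_mem hh),
          (IsConj.symm (isConj_iff.mpr ⟨h, rfl⟩)).trans hxz⟩, ?_⟩
        rw [← mul_smul, inv_mul_cancel_right, mul_smul, hxo]
      · intro x hx
        obtain ⟨hxZ, hxo⟩ := Finset.mem_filter.mp hx
        obtain ⟨-, hxU, hxz⟩ := Finset.mem_filter.mp hxZ
        refine Finset.mem_filter.mpr ⟨Finset.mem_filter.mpr ⟨Finset.mem_univ _,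
          mul_mem (mul_mem (inv_mem hh) hxU) hh,
          (IsConj.symm (isConj_iff.mpr ⟨h⁻¹, by group⟩)).trans hxz⟩, ?_⟩
        rw [mul_smul, mul_smul, hxo, inv_smul_smul]
      · intro x _; group
      · intro x _; group
    have hZcard : Z.card = F.card * Z₁.card := by
      have hdis : (F : Set (G ⧸ G₀)).PairwiseDisjoint fun p => Z.filter fun x => x • p = p := by
        intro p _ q _ hpq
        refine Finset.disjoint_left.mpr fun x hxp hxq => hpq ?_
        obtain ⟨hxZ, hp⟩ := Finset.mem_filter.mp hxp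
        exact huniq (Finset.mem_filter.mp hxZ).2.2 _ _ hp (Finset.mem_filter.mp hxq).2
      have hcov : F.biUnion (fun p => Z.filter fun x => x • p = p) = Z := by
        ext x
        simp only [Finset.mem_biUnion, Finset.mem_filter]
        refine ⟨fun ⟨_, _, hx, _⟩ => hx, fun hx => ?_⟩
        obtain ⟨p, hp, hpx⟩ := hpt (Finset.mem_filter.mp hx).2.1 (Finset.mem_filter.mp hx).2.2
        exact ⟨p, hp, hx, hpx⟩
      rw [← hcov, Finset.card_biUnion hdis, Finset.sum_congr rfl hfib, Finset.sum_const, smul_eq_mul]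
    by_contra hnot
    obtain ⟨h₀, hh₀, hh₀n⟩ := SetLike.not_le_iff_exists.mp hnot
    have hF2 : 1 < F.card := Finset.one_lt_card.mpr ⟨o, hoF, h₀ • o, hFinv hh₀ hoF, fun e => hh₀n (by
      rw [ho_def, MulAction.Quotient.smul_coe, smul_eq_mul, mul_one, QuotientGroup.eq, inv_one,
        one_mul] at e
      exact e)⟩
    -- many elements with the same image of a point
    set T : Finset (G × (G ⧸ G₀)) := (Z ×ˢ F).filter fun t => t.1 • t.2 ≠ t.2 with hT
    have hTcard : F.offDiag.card * Z₁.card ≤ T.card := by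
      have hfix : ((Z ×ˢ F).filter fun t => ¬ t.1 • t.2 ≠ t.2).card = Z.card := by
        refine Finset.card_bij (fun t _ => t.1) ?_ ?_ ?_
        · intro t ht; exact (Finset.mem_product.mp (Finset.mem_filter.mp ht).1).1
        · intro s hs t ht e
          obtain ⟨hsp, hs'⟩ := Finset.mem_filter.mp hs
          obtain ⟨htp, ht'⟩ := Finset.mem_filter.mp ht
          refine Prod.ext e (huniq (Finset.mem_filter.mp (Finset.mem_product.mp hsp).1).2.2 _ _
            (not_not.mp hs') ?_)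
          rw [e]; exact not_not.mp ht'
        · intro x hx
          obtain ⟨p, hp, hpx⟩ := hpt (Finset.mem_filter.mp hx).2.1 (Finset.mem_filter.mp hx).2.2
          exact ⟨(x, p), Finset.mem_filter.mpr ⟨Finset.mem_product.mpr ⟨hx, hp⟩, not_not.mpr hpx⟩, rfl⟩
      have htot := Finset.card_filter_add_card_filter_not (s := Z ×ˢ F) (fun t => t.1 • t.2 ≠ t.2)
      rw [hfix, Finset.card_product, ← hT] at htot
      rw [Finset.offDiag_card, tsub_mul]
      have e1 : F.card * F.card * Z₁.card = Z.card * F.card := by rw [hZcard]; ring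
      have e2 : F.card * Z₁.card = Z.card := hZcard.symm
      omega
    have hmaps : ∀ t ∈ T, (t.2, t.1 • t.2) ∈ F.offDiag := by
      intro t ht
      obtain ⟨htp, hne⟩ := Finset.mem_filter.mp ht
      obtain ⟨hx, hp⟩ := Finset.mem_product.mp htp
      exact Finset.mem_offDiag.mpr ⟨hp, hFinv (Finset.mem_filter.mp hx).2.1 hp, hne.symm⟩
    obtain ⟨⟨p, q⟩, hpq, hcard⟩ := Finset.exists_le_card_fiber_of_mul_le_card_of_maps_to hmaps
      (Finset.card_pos.mp (by
        rw [Finset.offDiag_card]; exact Nat.sub_pos_of_lt (lt_mul_self hF2))) hTcard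
    obtain ⟨hpF, hqF, hne⟩ := Finset.mem_offDiag.mp hpq
    set E := T.filter fun t => (t.2, t.1 • t.2) = (p, q) with hE
    obtain ⟨h, hh, hhp'⟩ := (Finset.mem_filter.mp hpF).2
    have hhp : h • o = p := hhp'
    set D : Subgroup G := U ⊓ MulAction.stabilizer G o ⊓ MulAction.stabilizer G (h⁻¹ • q) with hD
    have hE' : ∀ t ∈ E, t.1 ∈ U ∧ t.1 * t.1 = 1 ∧ t.1 • p = q ∧ t.1 • q = p ∧ t.2 = p := by
      intro t ht
      obtain ⟨htT, he⟩ := Finset.mem_filter.mp ht
      simp only [Prod.mk.injEq] at he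
      obtain ⟨hxU, hxz⟩ := (Finset.mem_filter.mp (Finset.mem_product.mp (Finset.mem_filter.mp htT).1).1).2
      have hxx : t.1 * t.1 = 1 := by
        obtain ⟨c, hc⟩ := isConj_iff.mp hxz.symm
        rw [← hc, show c * z * c⁻¹ * (c * z * c⁻¹) = c * (z * z) * c⁻¹ by group, H.h.zz]; group
      refine ⟨hxU, hxx, he.1 ▸ he.2, ?_, he.1⟩
      rw [← he.2, ← mul_smul, hxx, one_smul, he.1]
    obtain ⟨t₀, ht₀⟩ : E.Nonempty := Finset.card_pos.mp (by
      change Z₁.card ≤ E.card at hcard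
      omega)
    have hDcard : Z₁.card ≤ Nat.card D := by
      change Z₁.card ≤ E.card at hcard
      refine hcard.trans ?_
      obtain ⟨h0U, -, h0p, h0q, -⟩ := hE' t₀ ht₀
      rw [← Fintype.card_coe, ← Nat.card_eq_fintype_card]
      refine Nat.card_le_card_of_injective
        (fun t => (⟨h⁻¹ * (t.1.1 * t₀.1) * h, ?_⟩ : D)) ?_
      · obtain ⟨htU, -, htp, htq, -⟩ := hE' t.1 t.2
        refine Subgroup.mem_inf.mpr ⟨Subgroup.mem_inf.mpr
          ⟨mul_mem (mul_mem (inv_mem hh) (mul_mem htU h0U)) hh, ?_⟩, ?_⟩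
        · show (h⁻¹ * (t.1.1 * t₀.1) * h) • o = o
          rw [mul_smul, mul_smul, mul_smul, hhp, h0p, htq, ← hhp, inv_smul_smul]
        · show (h⁻¹ * (t.1.1 * t₀.1) * h) • (h⁻¹ • q) = h⁻¹ • q
          rw [mul_smul, mul_smul, mul_smul, smul_inv_smul, h0q, htp]
      · intro s t e
        have e' : s.1.1 = t.1.1 := by simpa using congrArg Subtype.val e
        exact Subtype.ext (Prod.ext e' ((hE' s.1 s.2).2.2.2.2.trans (hE' t.1 t.2).2.2.2.2.symm))
    have hne' : o ≠ h⁻¹ • q := fun e => hne (by rw [← hhp, e, smul_inv_smul])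
    -- no conjugate of `z` there
    have hDz : ∀ x ∈ D, ¬ IsConj x z := fun x hx hxz => hne' (huniq hxz _ _ hx.1.2 hx.2)
    have hDG : D ≤ G₀ := by
      intro x hx
      have : x • o = o := hx.1.2
      rw [ho_def, MulAction.Quotient.smul_coe, smul_eq_mul, mul_one, QuotientGroup.eq, mul_one,
        inv_mem_iff] at this
      exact this
    -- inside the model
    obtain ⟨L, hLc, hLcard, hLinv, hLodd⟩ := exists_L
    set D₀ := D.comap φ with hD₀
    have hD₀card : Nat.card D₀ = Nat.card D := by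
      have h1 := Nat.card_congr (Subgroup.equivMapOfInjective D₀ φ hinj).toEquiv
      rwa [hD₀, Subgroup.map_comap_eq_self hDG] at h1
    set C := centralizer ({eE} : Set CosetCertSuzGData.pres.Grp) with hC
    have hD₀C : D₀ ≤ C := fun x hx => mem_centralizer_singleton_iff.mpr (hinj (by
      rw [map_mul, map_mul]; exact hUmem hx.1.1))
    have hLC : L ≤ C := fun x hx => mem_centralizer_singleton_iff.mpr (hLc x hx)
    have hX : Nat.card ↥(L ⊓ D₀) ≤ 39 := by
      refine hLodd _ inf_le_left ?_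
      by_contra hev
      haveI : Fact (Nat.Prime 2) := ⟨Nat.prime_two⟩
      obtain ⟨x, hxo⟩ := exists_prime_orderOf_dvd_card' (G := ↥(L ⊓ D₀)) 2
        (even_iff_two_dvd.mp (Nat.not_odd_iff_even.mp hev))
      rw [← Subgroup.orderOf_coe] at hxo
      exact hDz (φ x) x.2.2 (hA ▸ MonoidHom.map_isConj φ (hLinv x x.2.1 hxo))
    have h1 : Nat.card ↥(L ⊓ D₀) * L.relIndex D₀ = Nat.card D₀ := by
      rw [← Subgroup.inf_relIndex_right, Subgroup.relIndex,
        ← Nat.card_congr (Subgroup.subgroupOfEquivOfLe (inf_le_right : L ⊓ D₀ ≤ D₀)).toEquiv,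
        Subgroup.card_mul_index]
    have h2 : L.relIndex D₀ ≤ L.relIndex C :=
      Subgroup.relIndex_le_of_le_right hD₀C Subgroup.index_ne_zero_of_finite
    have h3 : 20160 * L.relIndex C = Nat.card C := by
      rw [← hLcard, Subgroup.relIndex,
        ← Nat.card_congr (Subgroup.subgroupOfEquivOfLe hLC).toEquiv, Subgroup.card_mul_index]
    have h4 : Nat.card C ≤ 161280 := card_cent_eE
    have h5 : L.relIndex C ≤ 8 := by omega
    have h6 : Nat.card D₀ ≤ 39 * 8 := h1 ▸ Nat.mul_le_mul hX (h2.trans h5)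
    omega
  -- strong embedding
  have hcent : ∀ {x : G}, x ∈ G₀ → orderOf x = 2 → centralizer ({x} : Set G) ≤ G₀ := by
    intro x hx ho y hy
    have key : ∀ v ∈ G₀, centralizer ({v} : Set G) ≤ G₀ → (∃ k ∈ G₀, k * v * k⁻¹ = x) → y ∈ G₀ := by
      intro v _ hv hk
      obtain ⟨k, hk, rfl⟩ := hk
      have h1 : k⁻¹ * y * k ∈ centralizer ({v} : Set G) := by
        rw [mem_centralizer_singleton_iff]
        have h2 := mem_centralizer_singleton_iff.mp hy
        calc k⁻¹ * y * k * v = k⁻¹ * (y * (k * v * k⁻¹)) * k := by group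
          _ = k⁻¹ * (k * v * k⁻¹ * y) * k := by rw [h2]
          _ = v * (k⁻¹ * y * k) := by group
      have := mul_mem (mul_mem hk (hv h1)) (inv_mem hk)
      rwa [show k * (k⁻¹ * y * k) * k⁻¹ = y by group] at this
    rcases hcl hx ho with e | e <;> obtain ⟨k, hk⟩ := isConj_iff.mp e.symm
    · exact key z hzG hCz ⟨k, k.2, congrArg Subtype.val hk⟩
    · exact key u huG hCu ⟨k, k.2, congrArg Subtype.val hk⟩
  have hall : ∀ y : G, orderOf y = 2 → y ∈ G₀ := by
    intro y hy
    by_contra hyn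
    have hyy : y * y = 1 := by rw [← pow_two, ← hy]; exact pow_orderOf_eq_one y
    have key : ∀ x ∈ G₀, orderOf x = 2 → IsConj y x := by
      intro x hx ho
      have hxx : x * x = 1 := by rw [← pow_two, ← ho]; exact pow_orderOf_eq_one x
      refine (dihedral_cases hxx hyy).resolve_right ?_
      rintro ⟨w, hwo, hwx, hwy⟩
      exact hyn (hcent (hcent hx ho (mem_centralizer_singleton_iff.mpr hwx)) hwo
        (mem_centralizer_singleton_iff.mpr hwy.symm))
    exact hnc ((key z hzG H.h.toExt.orderOf_z).symm.trans (key u huG huo))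
  intro x
  have h1 : x⁻¹ * z * x ∈ G₀ := hall _ (by
    rw [show x⁻¹ * z * x = MulAut.conj x⁻¹ z by simp, MulEquiv.orderOf_eq, H.h.toExt.orderOf_z])
  exact hone h1

/-- A group of Suzuki sporadic type receiving a nontrivial homomorphism from Suz is isomorphic to it. -/
theorem bijective_of_hom (H : Hyp Q z) (fus : ∃ g : G, g * z * g⁻¹ ∈ Q ∧ g * z * g⁻¹ ≠ z)
    (φ : Cfsg.Spor.Suz →* G) (hne : φ ≠ 1) : Function.Bijective φ := by
  let φ' : CosetCertSuzGData.pres.Grp →* G := φ
  have hinj : Function.Injective φ' := by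
    rw [← MonoidHom.ker_eq_bot_iff]
    haveI := CosetCertSuzSimple.simple
    rcases (MonoidHom.normal_ker φ').eq_bot_or_eq_top with h | h
    · exact h
    · exact absurd (MonoidHom.ker_eq_top_iff.mp h) hne
  refine ⟨hinj, ?_⟩
  have ho : orderOf (φ' eA) = 2 := by rw [orderOf_injective φ' hinj]; exact orderOf_eA
  obtain ⟨c, hc⟩ := isConj_iff.mp (isConj_z_of_card H ho (by
    obtain ⟨C, hC, hd⟩ := cent_eA
    refine (show 2 ^ 13 ∣ 3317760 by norm_num).trans (hd.trans ?_)
    rw [← Subgroup.card_map_of_injective hinj]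
    refine Subgroup.card_dvd_of_le ?_
    rintro _ ⟨x, hx, rfl⟩
    rw [mem_centralizer_singleton_iff, ← map_mul, ← map_mul, hC x hx]))
  have h := surjective_of_eq H fus ((MulAut.conj c).toMonoidHom.comp φ')
    ((MulAut.conj c).injective.comp hinj) hc
  intro y
  obtain ⟨x, hx⟩ := h (c * y * c⁻¹)
  exact ⟨x, (MulAut.conj c).injective hx⟩

/-- The isomorphism form. -/
theorem iso_of_hom (H : Hyp Q z) (fus : ∃ g : G, g * z * g⁻¹ ∈ Q ∧ g * z * g⁻¹ ≠ z)
    (φ : Cfsg.Spor.Suz →* G) (hne : φ ≠ 1) : Cfsg.Spor.IsoSuz G :=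
  ⟨(MulEquiv.ofBijective φ (bijective_of_hom H fus φ hne)).symm⟩

end Cfsg.Agent.SuzInvol76
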