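import Mathlib
import Cfsg.Agent.Lib.SuzY42Setup
import Cfsg.Agent.Lib.SuzTypePair62
import Cfsg.Agent.Lib.L34Syl83Chart
import Cfsg.Agent.Lib.FieldFour15

/-!
# The subgroup of type `L₃(4)` centralised by a three-element, in coordinates

In a group of Suzuki sporadic type the `2`-elements of `C(z, t, y)` form a group with the
multiplication of unitriangular matrices of degree three over four elements.
-/

set_option autoImplicit false
set_option maxRecDepth 20000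
set_option linter.constructorNameAsVariable false

namespace Cfsg.Agent.SuzLChart29

open Subgroup Cfsg.Agent.LargeExtraspecial Cfsg.Agent.SuzTypeCoord62 Cfsg.Agent.SuzTypeModel62
open Cfsg.Agent.SuzTypeRadical62 Cfsg.Agent.FieldFour15

variable {G : Type*} [Group G]

/-- First binary digit of a field element with respect to `1, a`. -/
def c₁ : K4 → ZMod 2
  | .o => 0
  | .l => 1
  | .a => 0
  | .b => 1

/-- Second binary digit. -/
def c₂ : K4 → ZMod 2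
  | .o => 0
  | .l => 0
  | .a => 1
  | .b => 1

/-- The element of the four group with a given field coordinate. -/
def pc : K4 → ZMod 2 × ZMod 2
  | .o => (0, 0)
  | .l => (1, 0)
  | .a => (1, 1)
  | .b => (0, 1)

theorem c₁_add : ∀ x y, c₁ (x + y) = c₁ x + c₁ y := by decide
theorem c₂_add : ∀ x y, c₂ (x + y) = c₂ x + c₂ y := by decide
theorem pc_add : ∀ x y, pc (x + y) = pc x + pc y := by decide
theorem pc_surj : ∀ p, ∃ x, pc x = p := by decide
theorem pc_zero : ∀ x, pc x = 0 → x = 0 := by decide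

/-- Coordinates of an element of a fixed line pair. -/
def co (i : Fin 5) (x : K4) : M4 × M4 := (c₁ x • pt i, c₂ x • pt i)

theorem cm_co : ∀ i j, i ≠ j → ∀ x y, cm (co j x) (co i y) = pc (x * y) := by decide +kernel

theorem co_eq : ∀ i j, i ≠ j → ∀ x y, co i x = co j y → x = 0 ∧ y = 0 := by decide +kernel

theorem fixed_pts : ∀ σ : Equiv.Perm (Fin 5), σ ^ 3 = 1 → σ ≠ 1 → ∃ i j, i ≠ j ∧ σ i = i ∧
    σ j = j ∧ ∀ α : M4, act σ α = α → α = 0 ∨ α = pt i ∨ α = pt j ∨ α = pt i + pt j := by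
  decide +kernel

theorem cover : ∀ (i j : Fin 5) (α β : M4), (α = 0 ∨ α = pt i ∨ α = pt j ∨ α = pt i + pt j) →
    (β = 0 ∨ β = pt i ∨ β = pt j ∨ β = pt i + pt j) →
    ∃ x y, α = (co i x).1 + (co j y).1 ∧ β = (co i x).2 + (co j y).2 := by
  intro i j α β hα hβ
  have key : ∀ k l : ZMod 2, ∃ x, c₁ x = k ∧ c₂ x = l := by decide
  obtain ⟨k₁, l₁, rfl⟩ : ∃ k l : ZMod 2, α = k • pt i + l • pt j := by
    rcases hα with rfl | rfl | rfl | rfl
    exacts [⟨0, 0, by simp⟩, ⟨1, 0, by simp⟩, ⟨0, 1, by simp⟩, ⟨1, 1, by simp⟩]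
  obtain ⟨k₂, l₂, rfl⟩ : ∃ k l : ZMod 2, β = k • pt i + l • pt j := by
    rcases hβ with rfl | rfl | rfl | rfl
    exacts [⟨0, 0, by simp⟩, ⟨1, 0, by simp⟩, ⟨0, 1, by simp⟩, ⟨1, 1, by simp⟩]
  obtain ⟨x, hx1, hx2⟩ := key k₁ k₂
  obtain ⟨y, hy1, hy2⟩ := key l₁ l₂
  exact ⟨x, y, by simp [co, hx1, hy1], by simp [co, hx2, hy2]⟩

variable [Finite G]

/-- The data of the chart. -/
structure Data (Q : Subgroup G) (z t y : G) (S : Subgroup G)
    (h : L34Syl83.Chart K4 S) : Prop where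
  mem_iff : ∀ s, s ∈ S ↔ s ∈ Sx z t ∧ s * y = y * s ∧ s ^ 8 = 1
  Z_iff : ∀ s, s ∈ h.Z ↔ InU z t s
  mem_z : z ∈ h.Z
  mem_t : t ∈ h.Z
  xA : h.μ 0 1 0 ∈ Q
  xB : h.μ 1 0 0 ∈ Q
  A_Q : ∀ a ∈ h.A, a ∈ Q → InU z t a ∨ InU z t (h.μ 0 1 0 * a)
  B_Q : ∀ a ∈ h.B, a ∈ Q → InU z t a ∨ InU z t (h.μ 1 0 0 * a)

/-- The chart on the `2`-elements of `C(z, t, y)`. -/
theorem exists_chart {Q : Subgroup G} {z y t : G} (Y : SuzY42Setup.Yd Q z y) (ht : Sing Q z t)
    (hyt : y * t = t * y) :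
    ∃ (S : Subgroup G) (h : L34Syl83.Chart K4 S), Data Q z t y S h := by
  obtain ⟨g, -, hgz, -⟩ := Y.swap ht hyt
  obtain ⟨Q', ν, d, ρ, D⟩ : ∃ (Q' : Subgroup G) (ν : G → M4) (d : G)
      (ρ : ↥(Sx z t) →* Equiv.Perm (Fin 5)), Ctx Q Q' z t ν d ρ := by
    subst hgz
    exact ⟨_, SuzTypeRadical62.exists_ctx Y.H (g := g) ht.1 ht.2.2.2⟩
  have hy := Y.mem_Sx hyt
  set yy : ↥(Sx z t) := ⟨y, hy⟩ with hyy
  have hσ3 : ρ yy ^ 3 = 1 := by
    rw [← map_pow, show yy ^ 3 = 1 from Subtype.ext Y.y3, map_one]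
  have hσ1 : ρ yy ≠ 1 := fun e => Y.y1 (by
    have h4 : y ^ 4 = 1 := D.P.R_pow (D.rho_R.1 e)
    rwa [pow_succ, Y.y3, one_mul] at h4)
  obtain ⟨i, j, hij, hi, hj, hfix⟩ := fixed_pts _ hσ3 hσ1
  -- the four group is centralised by `y`
  have hEy : ∀ v ∈ D.P.V, y * v * y⁻¹ = v := fun v hv => by
    rw [D.H.U_comm D.sing (D.inU_iff.mpr hv) hy, mul_inv_cancel_right]
  have hV2 : ∀ v ∈ D.P.V, v * v = 1 := fun v hv => D.P.E_sq (D.P.V_le_E hv)
  have hfixed : ∀ a : G, a⁻¹ * (y * a * y⁻¹) ∈ D.P.V → a * y = y * a := by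
    intro a hv
    set v := a⁻¹ * (y * a * y⁻¹) with hvd
    have e1 : y * a * y⁻¹ = a * v := by rw [hvd]; group
    have hev := hEy v hv
    have e3 : y ^ 3 * a * (y ^ 3)⁻¹ = a * v ^ 3 := by
      calc y ^ 3 * a * (y ^ 3)⁻¹ = y * (y * (y * a * y⁻¹) * y⁻¹) * y⁻¹ := by
            rw [pow_succ, pow_two]; group
        _ = y * (y * (a * v) * y⁻¹) * y⁻¹ := by rw [e1]
        _ = y * (y * a * y⁻¹ * (y * v * y⁻¹)) * y⁻¹ := by group
        _ = y * (a * v * v) * y⁻¹ := by rw [e1, hev]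
        _ = y * a * y⁻¹ * (y * v * y⁻¹) * (y * v * y⁻¹) := by group
        _ = a * v ^ 3 := by rw [e1, hev]; simp [pow_succ, mul_assoc]
    rw [Y.y3, one_mul, inv_one, mul_one, left_eq_mul, pow_succ, pow_two, hV2 v hv, one_mul] at e3
    rw [e3, mul_one, mul_inv_eq_iff_eq_mul] at e1
    exact e1.symm
  have liftA : ∀ k, ρ yy k = k → ∃ a ∈ Cx Q t, ν a = pt k ∧ a * y = y * a ∧ a * a = 1 := by
    intro k hk
    obtain ⟨a, ha, hνa⟩ := D.K.surj (pt k)
    have ha' : y * a * y⁻¹ ∈ Cx Q t := D.H.conj_Cx hy ha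
    have hν' : ν (y * a * y⁻¹) = pt k := by rw [← D.hρ yy a ha, hνa, act_pt, hk]
    refine ⟨a, ha, hνa, hfixed a (D.inU_iff.1 ((D.K.ker _ (mul_mem (inv_mem ha) ha')).1 ?_)), ?_⟩
    · rw [D.K.add _ (inv_mem ha) _ ha', D.H.nu_inv D.sing D.K ha, hν', hνa, add_self]
    · rw [D.K.sq a ha, hνa, f_pt, zp_zero]
  have liftB : ∀ k, ρ yy k = k → ∃ b ∈ Cx Q' z, ev ν d b = pt k ∧ b * y = y * b ∧ b * b = 1 := by
    intro k hk
    obtain ⟨b, hb, hνb⟩ := D.ev_surj (pt k)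
    have hb' : y * b * y⁻¹ ∈ Cx Q' z := D.conj_C' hy hb
    have hν' : ev ν d (y * b * y⁻¹) = pt k := by rw [D.ev_conj (c := yy) hb, hνb, act_pt, hk]
    have hbi : ev ν d b⁻¹ = pt k := by
      have := D.ev_mul (D.triv_of_R (D.C'_le_R hb)) (D.C'_le_Sx (inv_mem hb))
      rw [mul_inv_cancel, D.ev_one] at this
      rw [← hνb]
      exact eq_of_add this.symm |>.symm |>.symm
    refine ⟨b, hb, hνb, hfixed b ((D.ev_eq_zero (mul_mem (inv_mem hb) hb')).1 ?_), ?_⟩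
    · rw [D.ev_mul (D.triv_of_R (D.C'_le_R (inv_mem hb))) (D.C'_le_Sx hb'), hν', hbi, add_self]
    · rw [D.sq_C' b hb, hνb, f_pt]
      exact vv_zero z t
  obtain ⟨a₁, ha₁, na₁, ya₁, sa₁⟩ := liftA j hj
  obtain ⟨a₂, ha₂, na₂, ya₂, sa₂⟩ := liftB j hj
  obtain ⟨b₁, hb₁, nb₁, yb₁, sb₁⟩ := liftA i hi
  obtain ⟨b₂, hb₂, nb₂, yb₂, sb₂⟩ := liftB i hi
  -- elements with given coordinates
  have mk : ∀ (k : Fin 5) (p q : G), p ∈ Cx Q t → q ∈ Cx Q' z → ν p = pt k → ev ν d q = pt k →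
      ∀ x, zp p (c₁ x) ∈ Cx Q t ∧ zp q (c₂ x) ∈ Cx Q' z ∧
        (ν (zp p (c₁ x)), ev ν d (zp q (c₂ x))) = co k x := by
    intro k p q hp hq np nq x
    have key : ∀ u : ZMod 2, zp p u ∈ Cx Q t ∧ ν (zp p u) = u • pt k := by
      intro u
      rcases two_eq u with rfl | rfl
      · rw [zp_zero, zero_smul]; exact ⟨one_mem _, D.H.nu_one D.sing D.K⟩
      · rw [zp_one, one_smul]; exact ⟨hp, np⟩
    have key' : ∀ u : ZMod 2, zp q u ∈ Cx Q' z ∧ ev ν d (zp q u) = u • pt k := by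
      intro u
      rcases two_eq u with rfl | rfl
      · rw [zp_zero, zero_smul]; exact ⟨one_mem _, D.ev_one⟩
      · rw [zp_one, one_smul]; exact ⟨hq, nq⟩
    exact ⟨(key _).1, (key' _).1, by rw [(key _).2, (key' _).2]; rfl⟩
  set φA : K4 → G := fun x => zp a₁ (c₁ x) * zp a₂ (c₂ x) with hφA
  set φB : K4 → G := fun x => zp b₁ (c₁ x) * zp b₂ (c₂ x) with hφB
  set v : K4 → G := fun x => vv z t (pc x) with hv
  have hA := mk j a₁ a₂ ha₁ ha₂ na₁ na₂
  have hB := mk i b₁ b₂ hb₁ hb₂ nb₁ nb₂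
  have hvR : ∀ x, v x ∈ D.P.R := fun x => D.P.V_le_R (D.vv_mem _)
  have hAR : ∀ x, φA x ∈ D.P.R := fun x => mul_mem (D.Cx_le_R (hA x).1) (D.C'_le_R (hA x).2.1)
  have hBR : ∀ x, φB x ∈ D.P.R := fun x => mul_mem (D.Cx_le_R (hB x).1) (D.C'_le_R (hB x).2.1)
  have hvc : ∀ x r, r ∈ D.P.R → r * v x = v x * r := fun x r hr => D.vv_comm _ hr
  have hcomm : ∀ x x', φA x * φB x' = φB x' * φA x * v (x * x') := by
    intro x x'
    have e := D.comm_R (hA x).1 (hA x).2.1 (hB x').1 (hB x').2.1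
    rw [(hA x).2.2, (hB x').2.2, cm_co i j hij] at e
    rw [mul_inv_eq_iff_eq_mul, mul_inv_eq_iff_eq_mul] at e
    rw [hvc _ _ (mul_mem (hBR x') (hAR x))]
    exact e.trans (mul_assoc _ _ _)
  have hself : ∀ (k : Fin 5) (p q : G), p ∈ Cx Q t → q ∈ Cx Q' z → ν p = pt k → ev ν d q = pt k →
      Commute p q := by
    intro k p q hp hq np nq
    have e := D.comm_ab p hp q hq
    rw [np, nq, B_self] at e
    rw [show ((0 : ZMod 2), (0 : ZMod 2)) = 0 from rfl, vv_zero, mul_inv_eq_one,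
      mul_inv_eq_iff_eq_mul] at e
    exact e
  have zpadd : ∀ (p q : G), p * p = 1 → q * q = 1 → Commute p q → ∀ x x',
      zp p (c₁ (x + x')) * zp q (c₂ (x + x')) =
        zp p (c₁ x) * zp q (c₂ x) * (zp p (c₁ x') * zp q (c₂ x')) := by
    intro p q hp hq hpq x x'
    rw [c₁_add, c₂_add, zp_add hp, zp_add hq]
    have hc : Commute (zp q (c₂ x)) (zp p (c₁ x')) := by
      rcases two_eq (c₂ x) with e | e <;> rcases two_eq (c₁ x') with e' | e' <;>
        simp [e, e', zp_zero, zp_one, hpq.symm]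
    rw [hc.mul_mul_mul_comm]
  have hAadd := zpadd a₁ a₂ sa₁ sa₂ (hself j _ _ ha₁ ha₂ na₁ na₂)
  have hBadd := zpadd b₁ b₂ sb₁ sb₂ (hself i _ _ hb₁ hb₂ nb₁ nb₂)
  have hvadd : ∀ x x', v (x + x') = v x * v x' := fun x x' => by
    rw [hv]; simp only [pc_add]; exact D.vv_add _ _
  set μ : K4 → K4 → K4 → G := fun a b c => φB b * φA a * v c with hμ
  have hmul : ∀ a b c a' b' c', μ a b c * μ a' b' c' = μ (a + a') (b + b') (c + c' + a * b') := by
    intro a b c a' b' c'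
    show φB b * φA a * v c * (φB b' * φA a' * v c') =
      φB (b + b') * φA (a + a') * v (c + c' + a * b')
    have eA : φA (a + a') = φA a * φA a' := hAadd a a'
    have eB : φB (b + b') = φB b * φB b' := hBadd b b'
    calc φB b * φA a * v c * (φB b' * φA a' * v c')
        = φB b * φA a * (φB b' * φA a' * v c) * v c' := by
          rw [hvc c _ (mul_mem (hBR b') (hAR a'))]; group
      _ = φB b * (φA a * φB b') * φA a' * v c * v c' := by group
      _ = φB b * φB b' * (φA a * (v (a * b') * φA a')) * v c * v c' := by rw [hcomm]; group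
      _ = φB b * φB b' * (φA a * (φA a' * v (a * b'))) * v c * v c' := by
          rw [← hvc _ _ (hAR a')]
      _ = φB (b + b') * φA (a + a') * (v (a * b') * v c * v c') := by rw [eA, eB]; group
      _ = _ := by rw [← hvadd, ← hvadd, show a * b' + c + c' = c + c' + a * b' by ring]
  have h0A : φA 0 = 1 := by
    show zp a₁ 0 * zp a₂ 0 = 1
    rw [zp_zero, zp_zero, mul_one]
  have h0B : φB 0 = 1 := by
    show zp b₁ 0 * zp b₂ 0 = 1
    rw [zp_zero, zp_zero, mul_one]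
  have h0v : v 0 = 1 := vv_zero z t
  have hker : ∀ a b c, μ a b c = 1 → a = 0 ∧ b = 0 ∧ c = 0 := by
    intro a b c e
    have hvi : v c * v c = 1 := hV2 _ (D.vv_mem _)
    have hBi : φB b * φB b = 1 := by
      have := hBadd b b
      rw [CharTwo.add_self_eq_zero] at this
      exact this.symm.trans h0B
    have e' : φA a = φB b * v c := by
      calc φA a = φB b * φB b * φA a * (v c * v c) := by rw [hBi, hvi, one_mul, mul_one]
        _ = φB b * (φB b * φA a * v c) * v c := by group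
        _ = φB b * v c := by rw [show φB b * φA a * v c = 1 from e, mul_one]
    rw [show φB b * v c = zp b₁ (c₁ b) * v c * zp b₂ (c₂ b) by
      rw [hφB, mul_assoc, hvc c _ (D.C'_le_R (hB b).2.1), ← mul_assoc]] at e'
    have hvC : v c ∈ Cx Q t := D.V_le_Cx (D.vv_mem _)
    obtain ⟨u₁, u₂⟩ := D.decomp_unique (hA a).1 (hA a).2.1 (mul_mem (hB b).1 hvC) (hB b).2.1 e'
    rw [D.K.add _ (hB b).1 _ hvC, (D.K.ker _ hvC).2 (D.inU_iff.2 (D.vv_mem _)), add_zero] at u₁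
    have h1 := (hA a).2.2
    have h2 := (hB b).2.2
    rw [u₁, u₂] at h1
    obtain ⟨rfl, rfl⟩ := co_eq j i hij.symm a b (h1.symm.trans h2)
    have e3 : φB 0 * φA 0 * v c = 1 := e
    rw [h0A, h0B, one_mul, one_mul] at e3
    exact ⟨rfl, rfl, pc_zero c (D.vv_inj (e3.trans (vv_zero z t).symm))⟩
  have hinv : ∀ a b c, (μ a b c)⁻¹ = μ a b (c + a * b) := by
    intro a b c
    refine inv_eq_of_mul_eq_one_right ?_
    rw [hmul, CharTwo.add_self_eq_zero, CharTwo.add_self_eq_zero,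
      show c + (c + a * b) + a * b = (c + c) + (a * b + a * b) by ring, CharTwo.add_self_eq_zero,
      CharTwo.add_self_eq_zero, add_zero]
    show φB 0 * φA 0 * v 0 = 1
    rw [h0A, h0B, h0v, one_mul, one_mul]
  have hinj : ∀ a b c a' b' c', μ a b c = μ a' b' c' → a = a' ∧ b = b' ∧ c = c' := by
    intro a b c a' b' c' e
    have h1 := mul_inv_eq_one.2 e
    rw [hinv, hmul] at h1
    obtain ⟨ea, eb, ec⟩ := hker _ _ _ h1
    have ha := CharTwo.add_eq_zero.1 ea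
    have hb := CharTwo.add_eq_zero.1 eb
    subst ha hb
    refine ⟨rfl, rfl, CharTwo.add_eq_zero.1 ?_⟩
    rwa [show c + (c' + a * b) + a * b = c + c' + (a * b + a * b) by ring,
      CharTwo.add_self_eq_zero, add_zero] at ec
  let S : Subgroup G :=
    { carrier := {s | ∃ a b c, μ a b c = s}
      one_mem' := ⟨0, 0, 0, by show φB 0 * φA 0 * v 0 = 1; rw [h0A, h0B, h0v, one_mul, one_mul]⟩
      mul_mem' := by rintro _ _ ⟨a, b, c, rfl⟩ ⟨a', b', c', rfl⟩; exact ⟨_, _, _, (hmul ..).symm⟩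
      inv_mem' := by rintro _ ⟨a, b, c, rfl⟩; exact ⟨_, _, _, (hinv ..).symm⟩ }
  let h : L34Syl83.Chart K4 S := ⟨μ, K4.card_eq, hmul, hinj, fun _ => Iff.rfl⟩
  have hvU : ∀ c, InU z t (v c) := fun c => D.inU_iff.2 (D.vv_mem _)
  have hsurjv : ∀ s, InU z t s → ∃ c, v c = s := by
    intro s hs
    obtain ⟨p, rfl⟩ := D.vv_surj (D.inU_iff.1 hs)
    obtain ⟨c, hc⟩ := pc_surj p
    exact ⟨c, by rw [hv]; exact congrArg (vv z t) hc⟩
  have hμv : ∀ c, μ 0 0 c = v c := fun c => by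
    show φB 0 * φA 0 * v c = v c
    rw [h0A, h0B, one_mul, one_mul]
  have hZ : ∀ s, s ∈ h.Z ↔ InU z t s := fun s => by
    rw [h.mem_Z]
    constructor
    · rintro ⟨c, rfl⟩
      show InU z t (μ 0 0 c)
      rw [hμv]; exact hvU c
    · intro hs
      obtain ⟨c, rfl⟩ := hsurjv s hs
      exact ⟨c, hμv c⟩
  refine ⟨S, h, ⟨fun s => ⟨?_, ?_⟩, hZ, (hZ z).2 (Or.inr (Or.inl rfl)),
    (hZ t).2 (Or.inr (Or.inr (Or.inl rfl))), ?_, ?_, ?_, ?_⟩⟩
  · rintro ⟨a, b, c, rfl⟩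
    have hr : μ a b c ∈ D.P.R := mul_mem (mul_mem (hBR b) (hAR a)) (hvR c)
    refine ⟨D.R_le_Sx hr, ?_, ?_⟩
    · have h1 : ∀ p, p * y = y * p → ∀ u, Commute (zp p u) y := fun p hp u => by
        rcases two_eq u with rfl | rfl
        · rw [zp_zero]; exact Commute.one_left y
        · rw [zp_one]; exact hp
      exact ((((h1 _ yb₁ _).mul_left (h1 _ yb₂ _)).mul_left ((h1 _ ya₁ _).mul_left (h1 _ ya₂ _))).mul_left
        (show Commute (v c) y from (mul_inv_eq_iff_eq_mul.1 (hEy _ (D.vv_mem _))).symm)).eq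
    · rw [show (8 : ℕ) = 4 * 2 from rfl, pow_mul, D.P.R_pow hr, one_pow]
  · rintro ⟨hs, hsy, hs8⟩
    have hρ : ρ ⟨s, hs⟩ * ρ yy = ρ yy * ρ ⟨s, hs⟩ := by
      rw [← map_mul, ← map_mul]
      exact congrArg ρ (Subtype.ext hsy)
    have hρ8 : ρ ⟨s, hs⟩ ^ 8 = 1 := by
      rw [← map_pow, show (⟨s, hs⟩ : ↥(Sx z t)) ^ 8 = 1 from Subtype.ext hs8, map_one]
    have hr : s ∈ D.P.R := by
      refine (D.rho_R (c := ⟨s, hs⟩)).1 ?_
      rcases SuzY42Setup.perm_cent _ hσ3 hσ1 _ (D.sign_rho _) hρ with e | e | e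
      · exact e
      · rw [e, pow_succ, show (7 : ℕ) = 3 * 2 + 1 from rfl, pow_succ, pow_mul, hσ3] at hρ8
        simp only [one_pow, one_mul] at hρ8
        exact absurd (show ρ yy = 1 by
          calc ρ yy = ρ yy ^ 3 * (ρ yy * ρ yy)⁻¹ := by group
            _ = 1 := by rw [hσ3, hρ8, inv_one, one_mul]) hσ1
      · rw [e, ← pow_two, ← pow_mul, show 2 * 8 = 3 * 5 + 1 from rfl, pow_succ, pow_mul, hσ3,
          one_pow, one_mul] at hρ8
        exact absurd hρ8 hσ1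
    obtain ⟨p, hp, q, hq, rfl⟩ := D.decomp hr
    have hp' : y * p * y⁻¹ ∈ Cx Q t := D.H.conj_Cx hy hp
    have hq' : y * q * y⁻¹ ∈ Cx Q' z := D.conj_C' hy hq
    obtain ⟨u₁, u₂⟩ := D.decomp_unique hp' hq' hp hq (by
      rw [show y * p * y⁻¹ * (y * q * y⁻¹) = y * (p * q) * y⁻¹ by group, ← hsy,
        mul_inv_cancel_right])
    have f₁ : act (ρ yy) (ν p) = ν p := (D.hρ yy p hp).trans u₁
    have f₂ : act (ρ yy) (ev ν d q) = ev ν d q := (D.ev_conj (c := yy) hq).symm.trans u₂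
    obtain ⟨x, w, e₁, e₂⟩ := cover i j _ _ (hfix _ f₁) (hfix _ f₂)
    -- same coordinates
    set r := φB x * φA w with hrd
    have hrR : r ∈ D.P.R := mul_mem (hBR x) (hAR w)
    have hsw : r = zp b₁ (c₁ x) * (φA w) * (zp b₂ (c₂ x)) *
        ((φA w)⁻¹ * (zp b₂ (c₂ x))⁻¹ * φA w * zp b₂ (c₂ x))⁻¹ := by rw [hrd, hφB]; group
    obtain ⟨m₁, hm₁, m₂, hm₂, hrm⟩ := D.decomp hrR
    have hco : ν m₁ = ν p ∧ ev ν d m₂ = ev ν d q := by
      have hu : (φA w)⁻¹ * (zp b₂ (c₂ x))⁻¹ * φA w * zp b₂ (c₂ x) ∈ D.P.V := by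
        have := D.comm_V (inv_mem (hAR w)) (inv_mem (D.C'_le_R (hB x).2.1))
        simpa [mul_assoc] using this
      set u := (φA w)⁻¹ * (zp b₂ (c₂ x))⁻¹ * φA w * zp b₂ (c₂ x) with hud
      have hui : u⁻¹ ∈ Cx Q' z := D.V_le_C' (inv_mem hu)
      have e : (zp b₁ (c₁ x) * zp a₁ (c₁ w)) * (zp a₂ (c₂ w) * zp b₂ (c₂ x) * u⁻¹) = m₁ * m₂ := by
        rw [← hrm, hsw, hφA]; group
      obtain ⟨k₁, k₂⟩ := D.decomp_unique (mul_mem (hB x).1 (hA w).1)
        (mul_mem (mul_mem (hA w).2.1 (hB x).2.1) hui) hm₁ hm₂ e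
      have hAw : ν (zp a₁ (c₁ w)) = (co j w).1 ∧ ev ν d (zp a₂ (c₂ w)) = (co j w).2 :=
        Prod.ext_iff.1 (hA w).2.2
      have hBx : ν (zp b₁ (c₁ x)) = (co i x).1 ∧ ev ν d (zp b₂ (c₂ x)) = (co i x).2 :=
        Prod.ext_iff.1 (hB x).2.2
      refine ⟨?_, ?_⟩
      · rw [← k₁, D.K.add _ (hB x).1 _ (hA w).1, e₁, hBx.1, hAw.1]
      · rw [← k₂, D.ev_mul (D.triv_of_R (mul_mem (D.C'_le_R (hA w).2.1) (D.C'_le_R (hB x).2.1)))
            (D.C'_le_Sx hui),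
          (D.ev_eq_zero hui).2 (inv_mem hu), zero_add,
          D.ev_mul (D.triv_of_R (D.C'_le_R (hA w).2.1)) (D.C'_le_Sx (hB x).2.1), e₂, hBx.2, hAw.2]
    have hd1 : m₁⁻¹ * p ∈ D.P.V := D.inU_iff.1 ((D.K.ker _ (mul_mem (inv_mem hm₁) hp)).1 (by
      rw [D.K.add _ (inv_mem hm₁) _ hp, D.H.nu_inv D.sing D.K hm₁, hco.1, add_self]))
    have hd2 : m₂⁻¹ * q ∈ D.P.V := (D.ev_eq_zero (mul_mem (inv_mem hm₂) hq)).1 (by
      rw [D.ev_mul (D.triv_of_R (D.C'_le_R (inv_mem hm₂))) (D.C'_le_Sx hq)]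
      have hmi : ev ν d m₂⁻¹ = ev ν d m₂ := by
        have := D.ev_mul (D.triv_of_R (D.C'_le_R hm₂)) (D.C'_le_Sx (inv_mem hm₂))
        rw [mul_inv_cancel, D.ev_one] at this
        exact eq_of_add this.symm
      rw [hmi, hco.2, add_self])
    have hrest : r⁻¹ * (p * q) ∈ D.P.V := by
      rw [hrm, show (m₁ * m₂)⁻¹ * (p * q) = m₂⁻¹ * (m₁⁻¹ * p) * m₂ * (m₂⁻¹ * q) by group]
      refine mul_mem ?_ hd2
      rw [mul_assoc m₂⁻¹, ← D.P.V_comm (D.C'_le_R hm₂) hd1, inv_mul_cancel_left]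
      exact hd1
    obtain ⟨c, hc⟩ := hsurjv _ (D.inU_iff.2 hrest)
    exact ⟨w, x, c, by
      show φB x * φA w * v c = p * q
      rw [← hrd, hc]; group⟩
  · show φB 1 * φA 0 * v 0 ∈ Q
    rw [h0A, h0v, mul_one, mul_one]
    show zp b₁ 1 * zp b₂ 0 ∈ Q
    rw [zp_one, zp_zero, mul_one]
    exact (mem_Cx.1 hb₁).1
  · show φB 0 * φA 1 * v 0 ∈ Q
    rw [h0B, h0v, one_mul, mul_one]
    show zp a₁ 1 * zp a₂ 0 ∈ Q
    rw [zp_one, zp_zero, mul_one]
    exact (mem_Cx.1 ha₁).1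
  · intro s hs hsQ
    obtain ⟨b, c, rfl⟩ := hs
    have hU : ∀ w ∈ Cx Q t, ν w = 0 → InU z t w := fun w hw e => (D.K.ker w hw).1 e
    change φB b * φA 0 * v c ∈ Q at hsQ
    show InU z t (φB b * φA 0 * v c) ∨ InU z t (φB 1 * φA 0 * v 0 * (φB b * φA 0 * v c))
    rw [h0A, mul_one, h0v, mul_one, mul_one] at *
    have hb2 : zp b₂ (c₂ b) ∈ D.P.V := by
      have hvQ : v c ∈ Q := (mem_Cx.1 (D.V_le_Cx (D.vv_mem _))).1
      have h1 : φB b ∈ Q := by simpa using mul_mem hsQ (inv_mem hvQ)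
      have h2 : zp b₂ (c₂ b) ∈ Q := by
        have := mul_mem (inv_mem (mem_Cx.1 (hB b).1).1) h1
        simpa [hφB] using this
      rw [← D.E_eq]
      exact ⟨h2, (mem_Cx.1 (hB b).2.1).1⟩
    have hc2 : c₂ b = 0 := by
      rcases two_eq (c₂ b) with e | e
      · exact e
      · exfalso
        rw [e, zp_one, ← D.ev_eq_zero hb₂, nb₂] at hb2
        exact pt_ne i hb2
    have hb : b = 0 ∨ b = 1 := by
      exact (show ∀ k : K4, c₂ k = 0 → k = 0 ∨ k = 1 by decide) b hc2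
    rcases hb with rfl | rfl
    · left; rw [h0B, one_mul]; exact hvU c
    · right
      have h1 : φB 1 * φB 1 = 1 := by
        have := (hBadd 1 1).symm
        rw [CharTwo.add_self_eq_zero] at this
        exact this.trans (by
          show zp b₁ 0 * zp b₂ 0 = 1
          rw [zp_zero, zp_zero, mul_one])
      rw [← mul_assoc, h1, one_mul]
      exact hvU c
  · intro s hs hsQ
    obtain ⟨a, c, rfl⟩ := hs
    change φB 0 * φA a * v c ∈ Q at hsQ
    show InU z t (φB 0 * φA a * v c) ∨ InU z t (φB 0 * φA 1 * v 0 * (φB 0 * φA a * v c))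
    rw [h0B, one_mul, h0v, one_mul, mul_one] at *
    have ha2 : zp a₂ (c₂ a) ∈ D.P.V := by
      have hvQ : v c ∈ Q := (mem_Cx.1 (D.V_le_Cx (D.vv_mem _))).1
      have h1 : φA a ∈ Q := by simpa using mul_mem hsQ (inv_mem hvQ)
      have h2 : zp a₂ (c₂ a) ∈ Q := by
        have := mul_mem (inv_mem (mem_Cx.1 (hA a).1).1) h1
        simpa [hφA] using this
      rw [← D.E_eq]
      exact ⟨h2, (mem_Cx.1 (hA a).2.1).1⟩
    have hc2 : c₂ a = 0 := by
      rcases two_eq (c₂ a) with e | e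
      · exact e
      · exfalso
        rw [e, zp_one, ← D.ev_eq_zero ha₂, na₂] at ha2
        exact pt_ne j ha2
    have ha : a = 0 ∨ a = 1 := by
      exact (show ∀ k : K4, c₂ k = 0 → k = 0 ∨ k = 1 by decide) a hc2
    rcases ha with rfl | rfl
    · left; rw [h0A, one_mul]; exact hvU c
    · right
      have h1 : φA 1 * φA 1 = 1 := by
        have := (hAadd 1 1).symm
        rw [CharTwo.add_self_eq_zero] at this
        exact this.trans (by
          show zp a₁ 0 * zp a₂ 0 = 1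
          rw [zp_zero, zp_zero, mul_one])
      rw [← mul_assoc, h1, one_mul]
      exact hvU c

omit [Finite G] in
/-- The data are symmetric in the two elementary abelian subgroups. -/
theorem Data.swap {Q : Subgroup G} {z t y : G} {S : Subgroup G} {h : L34Syl83.Chart K4 S}
    (D : Data Q z t y S h) : Data Q z t y S h.swap := by
  have e1 : h.swap.μ 0 1 0 = h.μ 1 0 0 := show h.μ 1 0 (0 + 0 * 1) = _ by simp
  have e2 : h.swap.μ 1 0 0 = h.μ 0 1 0 := show h.μ 0 1 (0 + 1 * 0) = _ by simp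
  refine ⟨D.mem_iff, ?_, ?_, ?_, ?_, ?_, ?_, ?_⟩
  · rw [L34Syl83.Chart.swap_Z]; exact D.Z_iff
  · rw [L34Syl83.Chart.swap_Z]; exact D.mem_z
  · rw [L34Syl83.Chart.swap_Z]; exact D.mem_t
  · rw [e1]; exact D.xB
  · rw [e2]; exact D.xA
  · rw [L34Syl83.Chart.swap_A, e1]; exact D.B_Q
  · rw [L34Syl83.Chart.swap_B, e2]; exact D.A_Q

end Cfsg.Agent.SuzLChart29
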