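import Mathlib
import Cfsg.Agent.Lib.SuzY42Setup

/-!
# Four groups inverted by an element of order three in a group of Suzuki sporadic type

At most six four groups of `C(z) ∩ C(t)` centralising a given involution of `C_Q(t)` admit a
fixed-point-free action of `y`.
-/

set_option autoImplicit false
set_option maxRecDepth 100000
set_option synthInstance.maxSize 2000
set_option synthInstance.maxHeartbeats 200000

namespace Cfsg.Agent.SuzLFour96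

open Subgroup Cfsg.Agent.LargeExtraspecial Cfsg.Agent.SuzTypeModel62 Cfsg.Agent.SuzTypeCoord62
open Cfsg.Agent.SuzTypeRadical62

/-! ### Finite facts -/

theorem pairs_mem : ∀ σ : Equiv.Perm (Fin 5), σ ^ 3 = 1 → σ ≠ 1 → ∃ α₀ : M4,
    ∀ α : M4, α + act σ α + act σ (act σ α) = 0 →
    ∀ β : M4, β + act σ β + act σ (act σ β) = 0 →
      f α + B α β = 0 → f β + B α β = 0 → (α = 0 ∧ β = 0) ∨
      (α = α₀ ∧ (β = act σ α₀ ∨ β = act σ (act σ α₀))) ∨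
      (act σ α = α₀ ∧ (act σ β = act σ α₀ ∨ act σ β = act σ (act σ α₀))) ∨
      (act σ (act σ α) = α₀ ∧
        (act σ (act σ β) = act σ α₀ ∨ act σ (act σ β) = act σ (act σ α₀))) := by
  decide +kernel

theorem klein_unique : ∀ σ : Equiv.Perm (Fin 5), σ ^ 3 = 1 → σ ≠ 1 → ∀ i, σ i = i →
    ∀ τ : Equiv.Perm (Fin 5), τ i = i → τ * τ = 1 → Equiv.Perm.sign τ = 1 → τ ≠ 1 →
    ∀ τ' : Equiv.Perm (Fin 5), τ' i = i → τ' * τ' = 1 → Equiv.Perm.sign τ' = 1 → τ' ≠ 1 →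
      τ = τ' ∨ τ = σ * τ' * σ⁻¹ ∨ τ = σ * (σ * τ' * σ⁻¹) * σ⁻¹ := by
  decide +kernel

/-- The possible coordinates of a correction. -/
def corr (σ τ : Equiv.Perm (Fin 5)) (i : Fin 5) : Finset M4 :=
  Finset.univ.filter fun α => B α (pt i) = 0 ∧ act τ α + α = 0 ∧
    act τ α + act (σ * (σ * τ * σ⁻¹) * σ⁻¹) (act σ α) + act σ (act σ α) = 0

theorem corr_le : ∀ σ : Equiv.Perm (Fin 5), σ ^ 3 = 1 → σ ≠ 1 → ∀ i, σ i = i →
    ∀ τ : Equiv.Perm (Fin 5), τ i = i → τ * τ = 1 → Equiv.Perm.sign τ = 1 → τ ≠ 1 →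
      (corr σ τ i).card ≤ 2 := by
  decide +kernel

theorem ncard_le_of_rel {α β : Type*} [Finite β] {S : Set α} {P : Set β} (r : α → β → Prop)
    (h : ∀ a ∈ S, ∃ b ∈ P, r a b) (hinj : ∀ a ∈ S, ∀ a' ∈ S, ∀ b, r a b → r a' b → a = a') :
    S.ncard ≤ P.ncard := by
  choose g hg hr using h
  rw [← Nat.card_coe_set_eq, ← Nat.card_coe_set_eq]
  refine Nat.card_le_card_of_injective (fun a : S => (⟨g a a.2, hg a a.2⟩ : P)) fun a a' e => ?_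
  have e' : g a a.2 = g a' a'.2 := congrArg Subtype.val e
  exact Subtype.ext (hinj _ a.2 _ a'.2 _ (hr _ a.2) (e' ▸ hr _ a'.2))

variable {G : Type*} [Group G]

/-- The four groups counted. -/
def Good (z t y x : G) (W : Subgroup G) : Prop :=
  W ≤ Sx z t ∧ Nat.card W = 4 ∧ (∀ w ∈ W, w * w = 1) ∧ (∀ w ∈ W, y * w * y⁻¹ ∈ W) ∧
    (∀ w ∈ W, y * w = w * y → w = 1) ∧ (∀ w ∈ W, w * x = x * w)

namespace Good

variable [Finite G] {z t y x : G} {W W' : Subgroup G}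

theorem orbit (hy : y ^ 3 = 1) (h : Good z t y x W) {w : G} (hw : w ∈ W) (h1 : w ≠ 1) :
    (W : Set G) = {1, w, y * w * y⁻¹, y * (y * w * y⁻¹) * y⁻¹} ∧
      w * (y * w * y⁻¹) * (y * (y * w * y⁻¹) * y⁻¹) = 1 := by
  obtain ⟨-, hc, hsq, hinv, hfix, -⟩ := h
  set w1 := y * w * y⁻¹ with hw1
  set w2 := y * w1 * y⁻¹ with hw2
  have m1 : w1 ∈ W := hinv w hw
  have m2 : w2 ∈ W := hinv w1 m1
  have n1 : w1 ≠ w := fun e => h1 (hfix w hw (mul_inv_eq_iff_eq_mul.mp e))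
  have a1 : w1 ≠ 1 := fun e => h1 (conj_eq_one_iff.mp e)
  have a2 : w2 ≠ 1 := fun e => a1 (conj_eq_one_iff.mp e)
  have n2 : w2 ≠ w1 := fun e => a1 (hfix w1 m1 (mul_inv_eq_iff_eq_mul.mp e))
  have n3 : w2 ≠ w := fun e => n1 (by
    calc w1 = y * w * y⁻¹ := rfl
      _ = y * w2 * y⁻¹ := by rw [e]
      _ = y ^ 3 * w * (y ^ 3)⁻¹ := by rw [hw2, hw1]; simp only [pow_succ, pow_zero]; group
      _ = w := by rw [hy]; group)
  have hset : (W : Set G) = {1, w, w1, w2} := by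
    refine (Set.eq_of_subset_of_ncard_le ?_ ?_ (Set.toFinite _)).symm
    · simp only [Set.insert_subset_iff, Set.singleton_subset_iff, SetLike.mem_coe]
      exact ⟨one_mem _, hw, m1, m2⟩
    · rw [← Nat.card_coe_set_eq, SetLike.coe_sort_coe, hc]
      have c1 : (1 : G) ∉ ({w, w1, w2} : Set G) := by simp [h1.symm, a1.symm, a2.symm]
      have c2 : w ∉ ({w1, w2} : Set G) := by simp [n1.symm, n3.symm]
      rw [Set.ncard_insert_of_notMem c1, Set.ncard_insert_of_notMem c2, Set.ncard_pair n2.symm]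
  refine ⟨hset, ?_⟩
  have hm : w * w1 ∈ (W : Set G) := mul_mem hw m1
  rw [hset] at hm
  simp only [Set.mem_insert_iff, Set.mem_singleton_iff] at hm
  rcases hm with e | e | e | e
  · exact absurd (mul_left_cancel (e.trans (hsq w hw).symm)) n1
  · exact absurd (mul_eq_left.mp e) a1
  · exact absurd (mul_eq_right.mp e) h1
  · rw [e]; exact hsq w2 m2

theorem eq_of_mem (hy : y ^ 3 = 1) (h : Good z t y x W) (h' : Good z t y x W') {w : G}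
    (hw : w ∈ W) (hw' : w ∈ W') (h1 : w ≠ 1) : W = W' :=
  SetLike.coe_injective ((h.orbit hy hw h1).1.trans (h'.orbit hy hw' h1).1.symm)

theorem exists_ne_one (h : Good z t y x W) : ∃ w ∈ W, w ≠ 1 := by
  by_contra! e
  have := h.2.1
  rw [(Subgroup.eq_bot_iff_forall W).mpr e, Subgroup.card_bot] at this
  omega

end Good

variable [Finite G] {Q Q' : Subgroup G} {z t d y x : G} {ν : G → M4}
  {ρ : ↥(Sx z t) →* Equiv.Perm (Fin 5)}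

/-- The coordinates of an element of the radical. -/
def Co (Q Q' : Subgroup G) (z t : G) (ν : G → M4) (d r : G) (p : M4 × M4) : Prop :=
  ∃ a ∈ Cx Q t, ∃ b ∈ Cx Q' z, r = a * b ∧ ν a = p.1 ∧ ev ν d b = p.2

section Coordinates

variable (D : Ctx Q Q' z t ν d ρ)
include D

theorem co_exists {r : G} (hr : r ∈ D.P.R) : ∃ p, Co Q Q' z t ν d r p := by
  obtain ⟨a, ha, b, hb, e⟩ := D.decomp hr
  exact ⟨(ν a, ev ν d b), a, ha, b, hb, e, rfl, rfl⟩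

theorem co_unique {r : G} {p q : M4 × M4} (hp : Co Q Q' z t ν d r p)
    (hq : Co Q Q' z t ν d r q) : p = q := by
  obtain ⟨a, ha, b, hb, rfl, e1, e2⟩ := hp
  obtain ⟨a', ha', b', hb', e, e1', e2'⟩ := hq
  obtain ⟨u1, u2⟩ := D.decomp_unique ha hb ha' hb' e
  exact Prod.ext (by rw [← e1, ← e1', u1]) (by rw [← e2, ← e2', u2])

theorem co_one : Co Q Q' z t ν d 1 0 :=
  ⟨1, one_mem _, 1, one_mem _, (mul_one 1).symm, D.H.nu_one D.sing D.K, D.ev_one⟩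

theorem co_mul {r s : G} {p q : M4 × M4} (hp : Co Q Q' z t ν d r p)
    (hq : Co Q Q' z t ν d s q) : Co Q Q' z t ν d (r * s) (p + q) := by
  obtain ⟨a, ha, b, hb, rfl, e1, e2⟩ := hp
  obtain ⟨a', ha', b', hb', rfl, e1', e2'⟩ := hq
  set c := b * a' * b⁻¹ * a'⁻¹ with hc
  have hcV : c ∈ D.P.V := D.comm_V (D.C'_le_R hb) (D.Cx_le_R ha')
  have hcC : c ∈ Cx Q t := D.V_le_Cx hcV
  have hc0 : ν c = 0 := (D.K.ker _ hcC).mpr (D.inU_iff.mpr hcV)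
  refine ⟨a * c * a', mul_mem (mul_mem ha hcC) ha', b * b', mul_mem hb hb', by rw [hc]; group,
    ?_, ?_⟩
  · rw [D.K.add _ (mul_mem ha hcC) _ ha', D.K.add _ ha _ hcC, hc0, add_zero, e1, e1']
    rfl
  · rw [D.ev_mul (D.triv_of_R (D.C'_le_R hb)) (D.C'_le_Sx hb'), e2, e2', add_comm]
    rfl

theorem co_conj (c : ↥(Sx z t)) {r : G} {p : M4 × M4} (hp : Co Q Q' z t ν d r p) :
    Co Q Q' z t ν d ((c : G) * r * (c : G)⁻¹) (act (ρ c) p.1, act (ρ c) p.2) := by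
  obtain ⟨a, ha, b, hb, rfl, e1, e2⟩ := hp
  refine ⟨_, D.H.conj_Cx c.2 ha, _, D.conj_C' c.2 hb, by group, ?_, ?_⟩
  · rw [← D.hρ c a ha, e1]
  · rw [D.ev_conj hb, e2]

theorem co_zero {r : G} (hp : Co Q Q' z t ν d r 0) : r ∈ D.P.V := by
  obtain ⟨a, ha, b, hb, rfl, e1, e2⟩ := hp
  exact mul_mem (D.inU_iff.mp ((D.K.ker a ha).mp e1)) ((D.ev_eq_zero hb).mp e2)

theorem co_eq {r s : G} (hr : r ∈ D.P.R) {p : M4 × M4} (hp : Co Q Q' z t ν d r p)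
    (hq : Co Q Q' z t ν d s p) : r⁻¹ * s ∈ D.P.V := by
  obtain ⟨q, hi⟩ := co_exists D (inv_mem hr)
  have h := co_mul D hi hp
  rw [inv_mul_cancel] at h
  have h0 := co_unique D h (co_one D)
  have h' := co_mul D hi hq
  rw [h0] at h'
  exact co_zero D h'

theorem co_sq {r : G} {p : M4 × M4} (hp : Co Q Q' z t ν d r p) (hr : r * r = 1) :
    f p.1 + B p.1 p.2 = 0 ∧ f p.2 + B p.1 p.2 = 0 := by
  obtain ⟨a, ha, b, hb, rfl, e1, e2⟩ := hp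
  rw [D.sq_R ha hb, e1, e2, ← vv_zero z t] at hr
  exact Prod.ext_iff.mp (D.vv_inj hr)

theorem co_comm {r : G} {p : M4 × M4} {u : M4} (hp : Co Q Q' z t ν d r p)
    (hx : x ∈ Cx Q t) (hu : ν x = u) (hc : r * x = x * r) : B p.1 u = 0 ∧ B p.2 u = 0 := by
  obtain ⟨a, ha, b, hb, rfl, e1, e2⟩ := hp
  have h := D.comm_R ha hb hx (one_mem _)
  rw [mul_one, hc, mul_inv_cancel_right, mul_inv_cancel, e1, e2, hu, D.ev_one,
    ← vv_zero z t] at h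
  have h' := Prod.ext_iff.mp (D.vv_inj h).symm
  simp only [cm, B_zero_right, add_zero, zero_add, Prod.fst_zero, Prod.snd_zero] at h'
  obtain ⟨k1, k2⟩ := h'
  rw [k2, add_zero] at k1
  exact ⟨k1, by rw [B_comm]; exact k2⟩

end Coordinates

theorem lift_unique (D : Ctx Q Q' z t ν d ρ) (yS : y ∈ Sx z t) (y3 : y ^ 3 = 1)
    {W W' : Subgroup G} (h : Good z t y x W) (h' : Good z t y x W') {w w' : G} (hw : w ∈ W)
    (h1 : w ≠ 1) (hw' : w' ∈ W') (h1' : w' ≠ 1) (hv : w⁻¹ * w' ∈ D.P.V) : W = W' := by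
  set v := w⁻¹ * w' with hvd
  have hU := D.inU_iff.mpr hv
  have hc : ∀ c ∈ Sx z t, c * v = v * c := fun c hc => D.H.U_comm D.sing hU hc
  have hvv : v * v = 1 := (D.H.U_inv D.sing hU).1
  have e : w' = w * v := by rw [hvd]; group
  have p' := (h'.orbit y3 hw' h1').2
  have p := (h.orbit y3 hw h1).2
  have hwS := h.1 hw
  set w1 := y * w * y⁻¹ with hw1
  set w2 := y * w1 * y⁻¹ with hw2
  have m1 : w1 ∈ Sx z t := h.1 (h.2.2.2.1 w hw)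
  have m2 : w2 ∈ Sx z t := h.1 (h.2.2.2.1 _ (h.2.2.2.1 w hw))
  have hvy : v * y⁻¹ = y⁻¹ * v := (hc _ (inv_mem yS)).symm
  have e1 : y * w' * y⁻¹ = w1 * v := by
    rw [e, hw1, show y * (w * v) * y⁻¹ = y * w * (v * y⁻¹) by group, hvy]
    group
  have e2 : y * (y * w' * y⁻¹) * y⁻¹ = w2 * v := by
    rw [e1, hw2, show y * (w1 * v) * y⁻¹ = y * w1 * (v * y⁻¹) by group, hvy]
    group
  rw [e2, e1, e] at p'
  have hv1 : v = 1 := by
    calc v = w * w1 * w2 * (v * v * v) := by rw [p, hvv, one_mul, one_mul]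
      _ = w * w1 * (w2 * (v * v)) * v := by group
      _ = w * w1 * ((v * v) * w2) * v := by rw [hvv, mul_one, one_mul]
      _ = w * (w1 * v) * v * w2 * v := by group
      _ = w * (v * w1) * v * w2 * v := by rw [hc w1 m1]
      _ = w * v * (w1 * v) * (w2 * v) := by group
      _ = 1 := p'
  rw [hv1, mul_one] at e
  exact h.eq_of_mem y3 h' hw (e ▸ hw') h1

section Count

variable (D : Ctx Q Q' z t ν d ρ) (yS : y ∈ Sx z t) (y3 : y ^ 3 = 1)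
  (hσ1 : ρ ⟨y, yS⟩ ≠ 1) (hx : x ∈ Cx Q t) {i : Fin 5} (hi : ν x = pt i)

include D y3 in
theorem sigma_three : ρ ⟨y, yS⟩ ^ 3 = 1 := by
  rw [← map_pow, show (⟨y, yS⟩ : ↥(Sx z t)) ^ 3 = 1 from Subtype.ext y3, map_one]

include D hx hi in
theorem rho_fix {c : G} (hc : c ∈ Sx z t) (hcx : c * x = x * c) : ρ ⟨c, hc⟩ i = i := by
  apply pt_inj
  rw [← act_pt, ← hi, D.hρ ⟨c, hc⟩ x hx]
  show ν (c * x * c⁻¹) = _
  rw [hcx, mul_inv_cancel_right]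

include D hσ1 y3 in
theorem count_low : {W : Subgroup G | Good z t y x W ∧ W ≤ D.P.R}.ncard ≤ 2 := by
  set σ := ρ ⟨y, yS⟩ with hσ
  obtain ⟨α₀, hα⟩ := pairs_mem σ (sigma_three D yS y3) hσ1
  refine le_trans (ncard_le_of_rel
    (fun W p => ∃ w ∈ W, w ≠ 1 ∧ Co Q Q' z t ν d w p)
    (P := {(α₀, act σ α₀), (α₀, act σ (act σ α₀))}) ?_ ?_) ((Set.ncard_insert_le _ _).trans (by
      rw [Set.ncard_singleton]))
  · rintro W ⟨h, hR⟩
    obtain ⟨w, hw, h1⟩ := h.exists_ne_one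
    obtain ⟨p, hp⟩ := co_exists D (hR hw)
    have hp1 := co_conj D ⟨y, yS⟩ hp
    have hp2 := co_conj D ⟨y, yS⟩ hp1
    simp only [← hσ] at hp1 hp2
    have m1 := h.2.2.2.1 w hw
    have m2 := h.2.2.2.1 _ m1
    obtain ⟨hset, hprod⟩ := h.orbit y3 hw h1
    have hs := co_mul D (co_mul D hp hp1) hp2
    rw [hprod] at hs
    have hs0 := co_unique D hs (co_one D)
    have hne : ¬ (p.1 = 0 ∧ p.2 = 0) := by
      rintro ⟨e1, e2⟩
      have : p = 0 := Prod.ext e1 e2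
      rw [this] at hp
      exact h1 (h.2.2.2.2.1 w hw (D.H.U_comm D.sing (D.inU_iff.mpr (co_zero D hp)) yS))
    obtain ⟨q1, q2⟩ := co_sq D hp (h.2.2.1 w hw)
    have key := hα p.1 (congrArg Prod.fst hs0) p.2 (congrArg Prod.snd hs0) q1 q2
    have n1 : y * w * y⁻¹ ≠ 1 := fun e => h1 (conj_eq_one_iff.mp e)
    have n2 : y * (y * w * y⁻¹) * y⁻¹ ≠ 1 := fun e => n1 (conj_eq_one_iff.mp e)
    simp only [Set.mem_insert_iff, Set.mem_singleton_iff]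
    rcases key.resolve_left hne with ⟨ea, eb⟩ | ⟨ea, eb⟩ | ⟨ea, eb⟩
    · exact ⟨p, eb.imp (fun e => Prod.ext ea e) (fun e => Prod.ext ea e), w, hw, h1, hp⟩
    · exact ⟨_, eb.imp (fun e => Prod.ext ea e) (fun e => Prod.ext ea e), _, m1, n1, hp1⟩
    · exact ⟨_, eb.imp (fun e => Prod.ext ea e) (fun e => Prod.ext ea e), _, m2, n2, hp2⟩
  · rintro W ⟨h, hR⟩ W' ⟨h', -⟩ p ⟨w, hw, h1, hp⟩ ⟨w', hw', h1', hp'⟩
    exact lift_unique D yS y3 h h' hw h1 hw' h1' (co_eq D (hR hw) hp hp')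

include D yS y3 in
theorem not_mem_R {W : Subgroup G} (h : Good z t y x W) (hR : ¬ W ≤ D.P.R) {w : G}
    (hw : w ∈ W) (h1 : w ≠ 1) : w ∉ D.P.R := by
  intro hwR
  have hc : ∀ u ∈ D.P.R, y * u * y⁻¹ ∈ D.P.R := fun u hu => by
    obtain ⟨a, ha, b, hb, rfl⟩ := D.decomp hu
    rw [show y * (a * b) * y⁻¹ = (y * a * y⁻¹) * (y * b * y⁻¹) by group]
    exact mul_mem (D.Cx_le_R (D.H.conj_Cx yS ha)) (D.C'_le_R (D.conj_C' yS hb))
  apply hR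
  intro u hu
  have : u ∈ (W : Set G) := hu
  rw [(h.orbit y3 hw h1).1] at this
  rcases this with rfl | rfl | rfl | rfl
  exacts [one_mem _, hwR, hc _ hwR, hc _ (hc _ hwR)]

include D hσ1 y3 hx hi in
theorem count_high (hσi : ρ ⟨y, yS⟩ i = i) :
    {W : Subgroup G | Good z t y x W ∧ ¬ W ≤ D.P.R}.ncard ≤ 4 := by
  classical
  rcases Set.eq_empty_or_nonempty {W : Subgroup G | Good z t y x W ∧ ¬ W ≤ D.P.R} with e | ⟨W₀, h₀, hR₀⟩
  · rw [e, Set.ncard_empty]; exact Nat.zero_le _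
  set σ := ρ ⟨y, yS⟩ with hσ
  have s3 := sigma_three D yS y3
  have hy' : ∀ (c : G) (hc : c ∈ Sx z t) (hc' : y * c * y⁻¹ ∈ Sx z t),
      ρ ⟨y * c * y⁻¹, hc'⟩ = σ * ρ ⟨c, hc⟩ * σ⁻¹ := fun c hc hc' => by
    rw [hσ, ← map_inv, ← map_mul, ← map_mul]
    rfl
  have facts : ∀ {W : Subgroup G} (h : Good z t y x W), ¬ W ≤ D.P.R → ∀ {w : G} (hw : w ∈ W),
      w ≠ 1 → ρ ⟨w, h.1 hw⟩ i = i ∧ ρ ⟨w, h.1 hw⟩ * ρ ⟨w, h.1 hw⟩ = 1 ∧
        ρ ⟨w, h.1 hw⟩ ≠ 1 := by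
    intro W h hR w hw h1
    refine ⟨rho_fix D hx hi _ (h.2.2.2.2.2 w hw), ?_,
      fun e => not_mem_R D yS y3 h hR hw h1 (D.rho_R.mp e)⟩
    rw [← map_mul, show (⟨w, h.1 hw⟩ : ↥(Sx z t)) * ⟨w, h.1 hw⟩ = 1 from
      Subtype.ext (h.2.2.1 w hw), map_one]
  obtain ⟨w₀, hw₀, n₀⟩ := h₀.exists_ne_one
  set τ := ρ ⟨w₀, h₀.1 hw₀⟩ with hτ
  obtain ⟨t1, t2, t3⟩ := facts h₀ hR₀ hw₀ n₀
  rw [← hτ] at t1 t2 t3
  set F := corr σ τ i with hF
  refine le_trans (ncard_le_of_rel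
    (fun W p => ∃ w ∈ W, w ≠ 1 ∧ w₀ * w ∈ D.P.R ∧ Co Q Q' z t ν d (w₀ * w) p)
    (P := (↑(F ×ˢ F) : Set (M4 × M4))) ?_ ?_) ?_
  · rintro W ⟨h, hR⟩
    obtain ⟨v, hv, v1⟩ := h.exists_ne_one
    obtain ⟨w, hw, w1, hwτ⟩ : ∃ w, ∃ hw : w ∈ W, w ≠ 1 ∧ ρ ⟨w, h.1 hw⟩ = τ := by
      have m1 := h.2.2.2.1 v hv
      have m2 := h.2.2.2.1 _ m1
      have n1 : y * v * y⁻¹ ≠ 1 := fun e => v1 (conj_eq_one_iff.mp e)
      obtain ⟨u1, u2, u3⟩ := facts h hR hv v1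
      rcases klein_unique σ s3 hσ1 i hσi τ t1 t2 (D.sign_rho _) t3 _ u1 u2 (D.sign_rho _) u3
        with e | e | e
      · exact ⟨v, hv, v1, e.symm⟩
      · exact ⟨_, m1, n1, by rw [hy' v (h.1 hv), e]⟩
      · exact ⟨_, m2, fun e' => n1 (conj_eq_one_iff.mp e'),
          by rw [hy' _ (h.1 m1), hy' v (h.1 hv), e]⟩
    set r := w₀ * w with hr
    have hrR : r ∈ D.P.R := by
      refine (D.rho_R (c := ⟨r, mul_mem (h₀.1 hw₀) (h.1 hw)⟩)).mp ?_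
      show ρ (⟨w₀, h₀.1 hw₀⟩ * ⟨w, h.1 hw⟩) = 1
      rw [map_mul, hwτ]
      exact t2
    obtain ⟨p, hp⟩ := co_exists D hrR
    have hrx : r * x = x * r := by
      rw [hr, mul_assoc, h.2.2.2.2.2 w hw, ← mul_assoc, h₀.2.2.2.2.2 w₀ hw₀, mul_assoc]
    obtain ⟨b1, b2⟩ := co_comm D hp hx hi hrx
    have hw₀i : w₀⁻¹ = w₀ := inv_eq_of_mul_eq_one_right (h₀.2.2.1 w₀ hw₀)
    have hwr : w = w₀ * r := by
      rw [hr, ← mul_assoc, h₀.2.2.1 w₀ hw₀, one_mul]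
    have hp0 := co_conj D ⟨w₀, h₀.1 hw₀⟩ hp
    rw [← hτ] at hp0
    have hs : w₀ * r * w₀⁻¹ * r = 1 := by
      calc w₀ * r * w₀⁻¹ * r = (w₀ * r) * (w₀ * r) := by rw [hw₀i]; group
        _ = 1 := by rw [← hwr]; exact h.2.2.1 w hw
    have hq := co_mul D hp0 hp
    rw [hs] at hq
    have hq0 := co_unique D hq (co_one D)
    set v₁ := y * w₀ * y⁻¹ with hv₁
    set v₂ := y * v₁ * y⁻¹ with hv₂
    have m₁ : v₁ ∈ W₀ := h₀.2.2.2.1 _ hw₀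
    have m₂ : v₂ ∈ W₀ := h₀.2.2.2.1 _ m₁
    have hp1 := co_conj D ⟨y, yS⟩ hp
    have hp2 := co_conj D ⟨y, yS⟩ hp1
    have hp12 := co_conj D ⟨v₂, h₀.1 m₂⟩ hp1
    rw [hy' v₁ (h₀.1 m₁), hy' w₀ (h₀.1 hw₀), ← hτ, ← hσ] at hp12
    rw [← hσ] at hp2
    have hprod₀ : w₀ * v₁ * v₂ = 1 := (h₀.orbit y3 hw₀ n₀).2
    have hprod : w * (y * w * y⁻¹) * (y * (y * w * y⁻¹) * y⁻¹) = 1 := (h.orbit y3 hw w1).2
    have hs2 : (w₀ * r * w₀⁻¹) * (v₂ * (y * r * y⁻¹) * v₂⁻¹) * (y * (y * r * y⁻¹) * y⁻¹)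
        = 1 := by
      have e : v₂ = (w₀ * v₁)⁻¹ := eq_inv_of_mul_eq_one_right hprod₀
      have e' : v₂ = w₀ * v₁ := by
        have : v₂⁻¹ = v₂ := inv_eq_of_mul_eq_one_right (h₀.2.2.1 v₂ m₂)
        rw [← this, e, inv_inv]
      calc _ = (w₀ * r * w₀⁻¹) * ((w₀ * v₁) * (y * r * y⁻¹) * v₂) *
            (y * (y * r * y⁻¹) * y⁻¹) := by rw [← e', inv_eq_of_mul_eq_one_right (h₀.2.2.1 v₂ m₂)]
        _ = (w₀ * r) * (y * (w₀ * r) * y⁻¹) * (y * (y * (w₀ * r) * y⁻¹) * y⁻¹) := by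
            rw [hv₂, hv₁]; group
        _ = 1 := by rw [← hwr]; exact hprod
    have hq' := co_mul D (co_mul D hp0 hp12) hp2
    rw [show ((⟨v₂, h₀.1 m₂⟩ : ↥(Sx z t)) : G) = v₂ from rfl,
      show ((⟨y, yS⟩ : ↥(Sx z t)) : G) = y from rfl,
      show ((⟨w₀, h₀.1 hw₀⟩ : ↥(Sx z t)) : G) = w₀ from rfl, hs2] at hq'
    have hq0' := co_unique D hq' (co_one D)
    refine ⟨p, ?_, w, hw, w1, hrR, hp⟩
    simp only [Finset.coe_product, Set.mem_prod, Finset.mem_coe, hF, corr, Finset.mem_filter,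
      Finset.mem_univ, true_and]
    exact ⟨⟨b1, congrArg Prod.fst hq0, congrArg Prod.fst hq0'⟩,
      b2, congrArg Prod.snd hq0, congrArg Prod.snd hq0'⟩
  · rintro W ⟨h, -⟩ W' ⟨h', -⟩ p ⟨w, hw, h1, hr, hp⟩ ⟨w', hw', h1', -, hp'⟩
    refine lift_unique D yS y3 h h' hw h1 hw' h1' ?_
    have := co_eq D hr hp hp'
    rwa [show (w₀ * w)⁻¹ * (w₀ * w') = w⁻¹ * w' by group] at this
  · rw [Set.ncard_coe_finset, Finset.card_product]
    have := corr_le σ s3 hσ1 i hσi τ t1 t2 (D.sign_rho _) t3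
    exact Nat.mul_le_mul this this

end Count

/-- At most six four groups of `C(z) ∩ C(t)` commuting with `x` are acted on without fixed
points by `y`. -/
theorem ncard_le_six {Q : Subgroup G} {z y : G} (Y : SuzY42Setup.Yd Q z y) {t x : G}
    (ht : Sing Q z t) (hyt : y * t = t * y) (hx : x ∈ Cx Q t) (hxy : x * y = y * x)
    (hxx : x * x = 1) (hxU : ¬ InU z t x) :
    {W : Subgroup G | W ≤ Sx z t ∧ Nat.card W = 4 ∧ (∀ w ∈ W, w * w = 1) ∧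
      (∀ w ∈ W, y * w * y⁻¹ ∈ W) ∧ (∀ w ∈ W, y * w = w * y → w = 1) ∧
      (∀ w ∈ W, w * x = x * w)}.ncard ≤ 6 := by
  obtain ⟨g, rfl⟩ := Y.exists_conj ht
  obtain ⟨ν, d, ρ, D⟩ := SuzTypeRadical62.exists_ctx Y.H (g := g) ht.1 ht.2.2.2
  have yS := Y.mem_Sx hyt
  have hσ1 : ρ ⟨y, yS⟩ ≠ 1 := fun e => Y.y1 (by
    have h4 : y ^ 4 = 1 := D.P.R_pow (D.rho_R.1 e)
    rwa [pow_succ, Y.y3, one_mul] at h4)
  have hf : f (ν x) = 0 := zp_inj D.H.h.ne_one (by rw [← D.K.sq x hx, hxx, zp_zero])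
  obtain ⟨i, hi⟩ := ((f_zero_iff _).mp hf).resolve_left fun e => hxU ((D.K.ker x hx).mp e)
  have hσi : ρ ⟨y, yS⟩ i = i := rho_fix D hx hi yS hxy.symm
  refine le_trans (Set.ncard_le_ncard
    (t := {W : Subgroup G | Good z (g * z * g⁻¹) y x W ∧ W ≤ D.P.R} ∪
      {W : Subgroup G | Good z (g * z * g⁻¹) y x W ∧ ¬ W ≤ D.P.R}) (fun W hW => ?_) (Set.toFinite _)) ?_
  · by_cases hR : W ≤ D.P.R
    · exact Or.inl ⟨hW, hR⟩
    · exact Or.inr ⟨hW, hR⟩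
  · exact (Set.ncard_union_le _ _).trans
      (Nat.add_le_add (count_low D yS Y.y3 hσ1) (count_high D yS Y.y3 hσ1 hx hi hσi))

end Cfsg.Agent.SuzLFour96
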