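import Mathlib
import Cfsg.Agent.Lib.SuzLChart29

/-!
The normaliser of an elementary abelian subgroup of order `16` of a Sylow `2`-subgroup of the
subgroup of type `L₃(4)` has at least `8064` elements inside the centraliser of the three-element.
-/

set_option autoImplicit false
set_option linter.style.haveILetI false

namespace Cfsg.Agent.SuzLNorm76

open Subgroup Cfsg.Agent.LargeExtraspecial Cfsg.Agent.SuzTypeCoord62
open Cfsg.Agent.FieldFour15

variable {G : Type*} [Group G] [Finite G]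

/-- The orbit of an element bounds the order of a subgroup from below. -/
theorem ncard_mul_cent_le (K : Subgroup G) (x : G) (O : Set G)
    (h : ∀ o ∈ O, ∃ k ∈ K, k * x * k⁻¹ = o) :
    O.ncard * Nat.card ↥(K ⊓ centralizer ({x} : Set G)) ≤ Nat.card K := by
  letI : MulAction ↥K G := MulAction.compHom G (ConjAct.toConjAct.toMonoidHom.comp K.subtype)
  have ha : ∀ (k : ↥K) (g : G), k • g = (k : G) * g * (k : G)⁻¹ := fun k g =>
    ConjAct.smul_def (ConjAct.toConjAct (k : G)) g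
  have hsub : O ⊆ MulAction.orbit ↥K x := fun o ho => by
    obtain ⟨k, hk, e⟩ := h o ho
    exact ⟨⟨k, hk⟩, (ha _ _).trans e⟩
  have hs : Nat.card (MulAction.stabilizer ↥K x) = Nat.card ↥(K ⊓ centralizer ({x} : Set G)) :=
    Nat.card_congr
      { toFun := fun c => ⟨(c : ↥K), (c : ↥K).2, mem_centralizer_singleton_iff.mpr
          (mul_inv_eq_iff_eq_mul.mp ((ha c x).symm.trans c.2))⟩
        invFun := fun c => ⟨⟨c, c.2.1⟩, (ha _ x).trans
          (mul_inv_eq_iff_eq_mul.mpr (mem_centralizer_singleton_iff.mp c.2.2))⟩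
        left_inv := fun _ => rfl
        right_inv := fun _ => rfl }
  rw [← Subgroup.index_mul_card (MulAction.stabilizer ↥K x), MulAction.index_stabilizer, hs]
  exact Nat.mul_le_mul_right _ (Set.ncard_le_ncard hsub (Set.toFinite _))

/-- The number of conjugates of a subgroup under another one. -/
theorem ncard_conj_mul (H₀ D : Subgroup G) :
    {W : Subgroup G | ∃ c ∈ H₀, W = D.map (MulAut.conj c).toMonoidHom}.ncard *
      Nat.card ↥(H₀ ⊓ normalizer (D : Set G)) = Nat.card H₀ := by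
  letI : MulAction ↥H₀ (Subgroup G) :=
    { smul := fun c W => W.map (MulAut.conj (c : G)).toMonoidHom
      one_smul := fun W => by
        show W.map (MulAut.conj ((1 : ↥H₀) : G)).toMonoidHom = W
        rw [OneMemClass.coe_one, map_one]
        exact Subgroup.map_id W
      mul_smul := fun c d W => by
        show W.map (MulAut.conj ((c * d : ↥H₀) : G)).toMonoidHom =
          (W.map (MulAut.conj (d : G)).toMonoidHom).map (MulAut.conj (c : G)).toMonoidHom
        rw [Subgroup.map_map, Subgroup.coe_mul, map_mul]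
        rfl }
  have horb : {W : Subgroup G | ∃ c ∈ H₀, W = D.map (MulAut.conj c).toMonoidHom} =
      MulAction.orbit ↥H₀ D := by
    ext W
    exact ⟨fun ⟨c, hc, e⟩ => ⟨⟨c, hc⟩, e.symm⟩, fun ⟨c, e⟩ => ⟨c, c.2, e.symm⟩⟩
  have key : ∀ c : G, D.map (MulAut.conj c).toMonoidHom = D ↔ c ∈ normalizer (D : Set G) := by
    intro c
    rw [Subgroup.mem_normalizer_iff]
    constructor
    · intro e a
      constructor
      · intro ha
        rw [← e]
        exact ⟨a, ha, rfl⟩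
      · intro ha
        rw [← e] at ha
        obtain ⟨b, hb, hbe⟩ := ha
        rwa [← (MulAut.conj c).injective (show MulAut.conj c b = MulAut.conj c a from hbe)]
    · intro hc
      ext a
      constructor
      · rintro ⟨b, hb, rfl⟩
        exact (hc b).mp hb
      · intro ha
        refine ⟨c⁻¹ * a * c, (hc _).mpr ?_, ?_⟩
        · rwa [show c * (c⁻¹ * a * c) * c⁻¹ = a by group]
        · show c * (c⁻¹ * a * c) * c⁻¹ = a
          group
  have hs : Nat.card (MulAction.stabilizer ↥H₀ D) = Nat.card ↥(H₀ ⊓ normalizer (D : Set G)) :=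
    Nat.card_congr
      { toFun := fun c => ⟨(c : ↥H₀), (c : ↥H₀).2, (key _).mp c.2⟩
        invFun := fun c => ⟨⟨c, c.2.1⟩, (key _).mpr c.2.2⟩
        left_inv := fun _ => rfl
        right_inv := fun _ => rfl }
  rw [horb, ← hs, ← MulAction.index_stabilizer, Subgroup.index_mul_card]

/-- An element mapping a finite subgroup into itself normalises it. -/
theorem mem_normalizer_of_forall {A : Subgroup G} {g : G} (h : ∀ a ∈ A, g * a * g⁻¹ ∈ A) :
    g ∈ normalizer (A : Set G) := by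
  have e : A.map (MulAut.conj g).toMonoidHom = A :=
    Subgroup.eq_of_le_of_card_ge (by rintro _ ⟨a, ha, rfl⟩; exact h a ha)
      (by rw [Subgroup.card_map_of_injective (MulAut.conj g).injective])
  refine Subgroup.mem_normalizer_iff.mpr fun a => ⟨h a, fun ha => ?_⟩
  rw [← e] at ha
  obtain ⟨b, hb, hbe⟩ := ha
  rwa [← (MulAut.conj g).injective (show MulAut.conj g b = MulAut.conj g a from hbe)]

variable {Q : Subgroup G} {z y t : G} {S : Subgroup G} {h : L34Syl83.Chart K4 S}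

omit [Finite G] in
theorem x_notMem_Z : h.μ 0 1 0 ∉ h.Z := fun hx => by
  obtain ⟨c, e⟩ := h.mem_Z.1 hx
  exact one_ne_zero (h.inj _ _ _ _ _ _ e).2.1.symm

/-- A conjugation fixing the centre sends `A` into one of the two elementary abelian subgroups. -/
theorem move (Dt : SuzLChart29.Data Q z t y S h) {g : G} (hgy : g * y = y * g)
    (hgZ : ∀ a ∈ h.Z, g * a * g⁻¹ ∈ h.Z) :
    (∀ a ∈ h.A, g * a * g⁻¹ ∈ h.A) ∨ (∀ a ∈ h.A, g * a * g⁻¹ ∈ h.B) := by
  have hZi : ∀ a, g * a * g⁻¹ ∈ h.Z → a ∈ h.Z := fun a ha => by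
    have hn := mem_normalizer_of_forall (A := h.Z) hgZ
    exact (Subgroup.mem_normalizer_iff.mp hn a).mpr ha
  have hcomm : ∀ a : G, a * y = y * a → (g * a * g⁻¹) * y = y * (g * a * g⁻¹) := fun a ha => by
    have hg : Commute g y := hgy
    exact ((hg.mul_left ha).mul_left hg.inv_left).eq
  have hS : ∀ a ∈ h.A, g * a * g⁻¹ ∈ S := by
    intro a ha
    obtain ⟨-, haY, -⟩ := (Dt.mem_iff a).mp (h.A_le ha)
    have hcz : ∀ w ∈ h.Z, (g * a * g⁻¹) * w = w * (g * a * g⁻¹) := by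
      intro w hw
      have hw' : g⁻¹ * w * g ∈ h.Z := hZi _ (by
        rwa [show g * (g⁻¹ * w * g) * g⁻¹ = w by group])
      calc g * a * g⁻¹ * w = g * (a * (g⁻¹ * w * g)) * g⁻¹ := by group
        _ = g * (g⁻¹ * w * g * a) * g⁻¹ := by rw [h.A_comm ha (h.Z_le_A hw')]
        _ = w * (g * a * g⁻¹) := by group
    refine (Dt.mem_iff _).mpr ⟨SuzTypeCoord62.mem_Sx.mpr ⟨hcz z Dt.mem_z, hcz t Dt.mem_t⟩,
      hcomm a haY, ?_⟩
    rw [conj_pow, show (8 : ℕ) = 2 * 4 from rfl, pow_mul, pow_two, h.A_sq ha, one_pow, mul_one,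
      mul_inv_cancel]
  have hx : h.μ 0 1 0 ∈ h.A := ⟨1, 0, rfl⟩
  have hxn : g * h.μ 0 1 0 * g⁻¹ ∉ h.Z := fun e => x_notMem_Z (hZi _ e)
  have hx2 : g * h.μ 0 1 0 * g⁻¹ * (g * h.μ 0 1 0 * g⁻¹) = 1 := by
    calc g * h.μ 0 1 0 * g⁻¹ * (g * h.μ 0 1 0 * g⁻¹) = g * (h.μ 0 1 0 * h.μ 0 1 0) * g⁻¹ := by group
      _ = 1 := by rw [h.A_sq hx]; group
  have hab : ∀ a ∈ h.A, g * a * g⁻¹ * (g * h.μ 0 1 0 * g⁻¹) =
      g * h.μ 0 1 0 * g⁻¹ * (g * a * g⁻¹) := by
    intro a ha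
    calc g * a * g⁻¹ * (g * h.μ 0 1 0 * g⁻¹) = g * (a * h.μ 0 1 0) * g⁻¹ := by group
      _ = g * (h.μ 0 1 0 * a) * g⁻¹ := by rw [h.A_comm ha hx]
      _ = _ := by group
  rcases h.involutions (hS _ hx) hx2 with e | e
  · exact Or.inl fun a ha => h.mem_A_of_comm (hS a ha) e hxn (hab a ha)
  · refine Or.inr fun a ha => ?_
    have := h.swap.mem_A_of_comm (x := g * a * g⁻¹) (a := g * h.μ 0 1 0 * g⁻¹) (hS a ha)
      (by rwa [L34Syl83.Chart.swap_A]) (by rwa [L34Syl83.Chart.swap_Z]) (hab a ha)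
    rwa [L34Syl83.Chart.swap_A] at this

/-- The lower bound for the normaliser. -/
theorem card_norm (Y : SuzY42Setup.Yd Q z y) (ht : Sing Q z t) (hyt : y * t = t * y)
    (Dt : SuzLChart29.Data Q z t y S h) :
    8064 ≤ Nat.card ↥(centralizer ({y} : Set G) ⊓ normalizer (h.A : Set G)) := by
  classical
  set x := h.μ 0 1 0 with hxdef
  have hxA : x ∈ h.A := ⟨1, 0, rfl⟩
  have hxZ : x ∉ h.Z := x_notMem_Z
  have hSy : ∀ s ∈ S, s * y = y * s := fun s hs => ((Dt.mem_iff s).mp hs).2.1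
  have hSz : ∀ s ∈ S, s * z = z * s := fun s hs =>
    (SuzTypeCoord62.mem_Sx.mp ((Dt.mem_iff s).mp hs).1).1
  have hzz := Y.H.h.zz
  have hZQ : ∀ a ∈ h.Z, a ∈ Q := fun a ha => by
    rcases (Dt.Z_iff a).mp ha with e | e | e | e <;> subst e
    exacts [one_mem _, Y.H.h.mem, ht.1, mul_mem Y.H.h.mem ht.1]
  set D := h.A ⊓ Q with hD
  have hzD : z ∈ D := ⟨h.Z_le_A Dt.mem_z, Y.H.h.mem⟩
  have htD : t ∈ D := ⟨h.Z_le_A Dt.mem_t, ht.1⟩
  have hxD : x ∈ D := ⟨hxA, Dt.xA⟩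
  have hx2 : x * x = 1 := h.A_sq hxA
  have hDset : (D : Set G) = (h.Z : Set G) ∪ (fun a => x * a) '' (h.Z : Set G) := by
    ext a
    constructor
    · rintro ⟨ha, haQ⟩
      rcases Dt.A_Q a ha haQ with e | e
      · exact Or.inl ((Dt.Z_iff a).mpr e)
      · exact Or.inr ⟨x * a, (Dt.Z_iff _).mpr e, by simp [← mul_assoc, hx2]⟩
    · rintro (ha | ⟨b, hb, rfl⟩)
      · exact ⟨h.Z_le_A ha, hZQ a ha⟩
      · exact ⟨mul_mem hxA (h.Z_le_A hb), mul_mem Dt.xA (hZQ b hb)⟩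
  have hD8 : Nat.card D = 8 := by
    rw [← SetLike.coe_sort_coe, Nat.card_coe_set_eq, hDset, Set.ncard_union_eq ?_ (Set.toFinite _)
      (Set.toFinite _), Set.ncard_image_of_injective _ (mul_right_injective x),
      ← Nat.card_coe_set_eq, SetLike.coe_sort_coe, h.card_Z]
    refine Set.disjoint_left.mpr fun a ha ⟨b, hb, e⟩ => hxZ ?_
    have e' : x * b = a := e
    rw [show x = a * b⁻¹ by rw [← e', mul_inv_cancel_right]]
    exact mul_mem ha (inv_mem hb)
  have hDy : ∀ a ∈ D, a * y = y * a := fun a ha => hSy a (h.A_le ha.1)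
  set U := centralizer ({y} : Set G) with hU
  set H₀ := centralizer ({z} : Set G) ⊓ U with hH₀
  -- normalising `D` forces normalising `A`
  have hDA : ∀ g ∈ U, g ∈ normalizer (D : Set G) → g ∈ normalizer (h.A : Set G) := by
    intro g hgy hgD
    have hgy' : Commute g y := mem_centralizer_singleton_iff.mp hgy
    refine mem_normalizer_of_forall fun a ha => ?_
    have hcD : ∀ w ∈ D, g * a * g⁻¹ * w = w * (g * a * g⁻¹) := by
      intro w hw
      have hw' : g⁻¹ * w * g ∈ D := (Subgroup.mem_normalizer_iff.mp hgD _).mpr (by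
        rwa [show g * (g⁻¹ * w * g) * g⁻¹ = w by group])
      calc g * a * g⁻¹ * w = g * (a * (g⁻¹ * w * g)) * g⁻¹ := by group
        _ = g * (g⁻¹ * w * g * a) * g⁻¹ := by rw [h.A_comm ha hw'.1]
        _ = w * (g * a * g⁻¹) := by group
    refine h.mem_A_of_comm ((Dt.mem_iff _).mpr
      ⟨SuzTypeCoord62.mem_Sx.mpr ⟨hcD z hzD, hcD t htD⟩,
        ((hgy'.mul_left (hSy a (h.A_le ha))).mul_left hgy'.inv_left).eq, ?_⟩) hxA hxZ (hcD x hxD)
    rw [conj_pow, show (8 : ℕ) = 2 * 4 from rfl, pow_mul, pow_two, h.A_sq ha, one_pow, mul_one,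
      mul_inv_cancel]
  set K := H₀ ⊓ normalizer (D : Set G) with hK
  set O := {W : Subgroup G | ∃ c ∈ H₀, W = D.map (MulAut.conj c).toMonoidHom} with hO
  -- at most six conjugates of `D`
  have hmem : ∀ W ∈ O, Nat.card W = 8 ∧ z ∈ W ∧
      ∀ a ∈ W, a ∈ Q ∧ a * a = 1 ∧ a * y = y * a ∧ ∀ b ∈ W, a * b = b * a := by
    rintro _ ⟨c, ⟨hcz, hcy⟩, rfl⟩
    have hcz' := mem_centralizer_singleton_iff.mp hcz
    refine ⟨by rw [Subgroup.card_map_of_injective (MulAut.conj c).injective, hD8],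
      ⟨z, hzD, by show c * z * c⁻¹ = z; rw [hcz', mul_inv_cancel_right]⟩, ?_⟩
    rintro _ ⟨a, ha, rfl⟩
    refine ⟨Y.H.h.norm c hcz' a ha.2, ?_, ?_, ?_⟩
    · rw [← map_mul, h.A_sq ha.1, map_one]
    · have hc : Commute c y := mem_centralizer_singleton_iff.mp hcy
      exact ((hc.mul_left (hDy a ha)).mul_left hc.inv_left).eq
    · rintro _ ⟨b, hb, rfl⟩
      rw [← map_mul, ← map_mul, h.A_comm ha.1 hb.1]
  have htwo : {W ∈ O | t ∈ W}.ncard ≤ 2 := by
    refine (Set.ncard_le_ncard (t := ({D, h.B ⊓ Q} : Set (Subgroup G))) ?_ (Set.toFinite _)).trans ?_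
    · rintro W ⟨hW, htW⟩
      obtain ⟨hW8, hzW, hWmem⟩ := hmem W hW
      have hWS : ∀ a ∈ W, a ∈ S := by
        intro a ha
        obtain ⟨-, h2, hy', hab⟩ := hWmem a ha
        refine (Dt.mem_iff a).mpr ⟨SuzTypeCoord62.mem_Sx.mpr ⟨hab z hzW, hab t htW⟩, hy', ?_⟩
        rw [show (8 : ℕ) = 2 * 4 from rfl, pow_mul, pow_two, h2, one_pow]
      obtain ⟨a, haW, haZ⟩ : ∃ a ∈ W, a ∉ h.Z := SetLike.not_le_iff_exists.mp fun hle => by
        have := Subgroup.card_le_of_le hle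
        rw [h.card_Z, hW8] at this
        omega
      rcases h.involutions (hWS a haW) (hWmem a haW).2.1 with e | e
      · refine Or.inl (Subgroup.eq_of_le_of_card_ge (fun b hb =>
          ⟨h.mem_A_of_comm (hWS b hb) e haZ ((hWmem b hb).2.2.2 a haW), (hWmem b hb).1⟩) ?_)
        rw [hW8, hD8]
      · refine Or.inr (Set.mem_singleton_iff.mpr (Subgroup.eq_of_le_of_card_ge (fun b hb => ⟨?_, (hWmem b hb).1⟩) ?_))
        · have := h.swap.mem_A_of_comm (x := b) (a := a) (hWS b hb)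
            (by rwa [L34Syl83.Chart.swap_A]) (by rwa [L34Syl83.Chart.swap_Z])
            ((hWmem b hb).2.2.2 a haW)
          rwa [L34Syl83.Chart.swap_A] at this
        · rw [hW8]
          refine le_trans (Subgroup.card_le_of_le (H := h.B ⊓ Q) (K := h.B ⊓ Q) le_rfl) ?_
          have hsub : ((h.B ⊓ Q : Subgroup G) : Set G) ⊆
              (h.Z : Set G) ∪ (fun b => h.μ 1 0 0 * b) '' (h.Z : Set G) := by
            rintro b ⟨hb, hbQ⟩
            rcases Dt.B_Q b hb hbQ with e' | e'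
            · exact Or.inl ((Dt.Z_iff b).mpr e')
            · refine Or.inr ⟨_, (Dt.Z_iff _).mpr e', ?_⟩
              show h.μ 1 0 0 * (h.μ 1 0 0 * b) = b
              rw [← mul_assoc, h.B_sq ⟨1, 0, rfl⟩, one_mul]
          rw [← SetLike.coe_sort_coe, Nat.card_coe_set_eq]
          refine (Set.ncard_le_ncard hsub (Set.toFinite _)).trans ((Set.ncard_union_le _ _).trans ?_)
          rw [Set.ncard_image_of_injective _ (mul_right_injective _), ← Nat.card_coe_set_eq,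
            SetLike.coe_sort_coe, h.card_Z]
    · exact (Set.ncard_insert_le _ _).trans (by rw [Set.ncard_singleton])
  have hsix : O.ncard ≤ 6 := by
    set T : Set G := {s | Sing Q z s ∧ y * s = s * y} with hT
    haveI : Fintype G := Fintype.ofFinite G
    haveI : Fintype (Subgroup G) := Fintype.ofFinite _
    have hTc : T.ncard = 18 := Y.card_sing
    have hfib : ∀ s ∈ T.toFinset, (O.toFinset.filter fun W : Subgroup G => s ∈ W).card ≤ 2 := by
      intro s hs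
      obtain ⟨hs1, hs2⟩ := Set.mem_toFinset.mp hs
      obtain ⟨c, hcz, hcy, e⟩ := Y.trans_sing hs1 hs2 ht hyt
      have hc : c ∈ H₀ := ⟨mem_centralizer_singleton_iff.mpr hcz, mem_centralizer_singleton_iff.mpr hcy⟩
      refine le_trans ?_ htwo
      rw [← Set.ncard_coe_finset]
      refine Set.ncard_le_ncard_of_injOn (fun W : Subgroup G => W.map (MulAut.conj c).toMonoidHom)
        ?_ ?_ (Set.toFinite _)
      · intro W hW
        simp only [Finset.coe_filter, Set.mem_toFinset, Set.mem_ofPred_eq] at hW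
        obtain ⟨⟨d, hd, rfl⟩, hsW⟩ := hW
        refine ⟨⟨c * d, mul_mem hc hd, ?_⟩, ⟨s, hsW, e⟩⟩
        rw [Subgroup.map_map, map_mul]
        rfl
      · exact fun W _ W' _ e' => Subgroup.map_injective (MulAut.conj c).injective e'
    have hbig : ∀ W ∈ O.toFinset, 6 ≤ (T.toFinset.filter fun s => s ∈ W).card := by
      intro W hW
      obtain ⟨hW8, hzW, hWmem⟩ := hmem W (Set.mem_toFinset.mp hW)
      have h1 : (((W : Set G) \ {1}) \ {z}).ncard = 6 := by
        rw [Set.ncard_diff_singleton_of_mem (show z ∈ (W : Set G) \ {1} from ⟨hzW, Y.H.h.ne_one⟩),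
          Set.ncard_diff_singleton_of_mem (one_mem W), ← Nat.card_coe_set_eq, SetLike.coe_sort_coe,
          hW8]
      rw [← h1, ← Set.ncard_coe_finset]
      refine Set.ncard_le_ncard ?_ (Finset.finite_toSet _)
      rintro a ⟨⟨ha, ha1⟩, haz⟩
      simp only [Finset.coe_filter, Set.mem_toFinset, Set.mem_ofPred_eq]
      obtain ⟨haQ, ha2, hay, -⟩ := hWmem a ha
      exact ⟨⟨⟨haQ, ha2, ha1, haz⟩, hay.symm⟩, ha⟩
    have hcount := Finset.card_mul_le_card_mul (fun (W : Subgroup G) (s : G) => s ∈ W)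
      (s := O.toFinset) (t := T.toFinset) (m := 6) (n := 2) hbig hfib
    rw [← Set.ncard_eq_toFinset_card', ← Set.ncard_eq_toFinset_card', hTc] at hcount
    omega
  have hmul : O.ncard * Nat.card K = 3456 := (ncard_conj_mul H₀ D).trans Y.card_Cz
  -- the two-part of the stabiliser
  have hK128 : 128 ∣ Nat.card K := by
    obtain ⟨d, hd, hdt⟩ := Y.ext_Q₀.partner t (Y.mem_Q₀.mpr ⟨ht.1, hyt⟩) ht.2.2.1 ht.2.2.2
    obtain ⟨hdQ, hdy⟩ := Y.mem_Q₀.mp hd
    set M := K ⊓ normalizer (h.Z : Set G) with hM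
    have hdM : d ∈ M := by
      refine ⟨⟨⟨mem_centralizer_singleton_iff.mpr (Y.H.h.comm d hdQ),
        mem_centralizer_singleton_iff.mpr hdy.symm⟩, ?_⟩, ?_⟩
      · refine mem_normalizer_of_forall fun a ha => ?_
        rcases Y.H.h.conj d hdQ a ha.2 with e | e <;> rw [e]
        exacts [ha, mul_mem hzD ha]
      · refine mem_normalizer_of_forall fun a ha => ?_
        rcases Y.H.h.conj d hdQ a (hZQ a ha) with e | e <;> rw [e]
        exacts [ha, mul_mem Dt.mem_z ha]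
    set M₀ := M ⊓ centralizer ({t} : Set G) with hM₀
    have hSM : S ≤ M₀ := by
      intro s hs
      obtain ⟨hsx, hsy, -⟩ := (Dt.mem_iff s).mp hs
      refine ⟨⟨⟨⟨mem_centralizer_singleton_iff.mpr (hSz s hs), mem_centralizer_singleton_iff.mpr hsy⟩, ?_⟩, ?_⟩,
        mem_centralizer_singleton_iff.mpr (SuzTypeCoord62.mem_Sx.mp hsx).2⟩
      · exact mem_normalizer_of_forall fun a ha =>
          ⟨(Subgroup.mem_normalizer_iff.mp (h.S_le_normalizer_A hs) a).mp ha.1,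
            Y.H.h.norm s (hSz s hs) a ha.2⟩
      · exact mem_normalizer_of_forall fun a ha => by
          rw [← h.Z_comm ha hs, mul_inv_cancel_right]; exact ha
    have hidx : (M₀.subgroupOf M).index = 2 := by
      refine Subgroup.index_eq_two_iff.mpr ⟨⟨d, hdM⟩, fun b => ?_⟩
      have hb2 : ∀ g : G, g ∈ M → g * t * g⁻¹ = t ∨ g * t * g⁻¹ = z * t := by
        intro g hg
        have hgt := (Subgroup.mem_normalizer_iff.mp hg.2 t).mp Dt.mem_t
        have hgz := mem_centralizer_singleton_iff.mp hg.1.1.1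
        rcases (Dt.Z_iff _).mp hgt with e | e | e | e
        · exact absurd (conj_eq_one_iff.mp e) ht.2.2.1
        · refine absurd ?_ ht.2.2.2
          calc t = g⁻¹ * (g * t * g⁻¹) * g := by group
            _ = g⁻¹ * (z * g) := by rw [e, mul_assoc]
            _ = z := by rw [← hgz, inv_mul_cancel_left]
        · exact Or.inl e
        · exact Or.inr e
      have hiff : ∀ g : G, g ∈ M → (g ∈ M₀ ↔ g * t * g⁻¹ = t) := fun g hg =>
        ⟨fun h0 => mul_inv_eq_iff_eq_mul.mpr (mem_centralizer_singleton_iff.mp h0.2),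
          fun e => ⟨hg, mem_centralizer_singleton_iff.mpr (mul_inv_eq_iff_eq_mul.mp e)⟩⟩
      have hne : z * t ≠ t := fun e => Y.H.h.ne_one (mul_eq_right.mp e)
      have hzb : (b : G) * z * (b : G)⁻¹ = z :=
        mul_inv_eq_iff_eq_mul.mpr (mem_centralizer_singleton_iff.mp b.2.1.1.1)
      have hbd : (b : G) * d * t * ((b : G) * d)⁻¹ = z * ((b : G) * t * (b : G)⁻¹) := by
        calc (b : G) * d * t * ((b : G) * d)⁻¹ = (b : G) * (d * t * d⁻¹) * (b : G)⁻¹ := by group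
          _ = ((b : G) * z * (b : G)⁻¹) * ((b : G) * t * (b : G)⁻¹) := by rw [hdt]; group
          _ = _ := by rw [hzb]
      have hzzt : z * (z * t) = t := by rw [← mul_assoc, hzz, one_mul]
      simp only [Subgroup.mem_subgroupOf, Subgroup.coe_mul]
      rcases hb2 b b.2 with e | e
      · refine Or.inr ⟨(hiff _ b.2).mpr e, fun h0 => hne ?_⟩
        have := (hiff _ (mul_mem b.2 hdM)).mp h0
        rwa [hbd, e] at this
      · refine Or.inl ⟨(hiff _ (mul_mem b.2 hdM)).mpr (by rw [hbd, e, hzzt]), fun h0 => hne ?_⟩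
        exact e.symm.trans ((hiff _ b.2).mp h0)
    have h1 := Subgroup.card_mul_index (M₀.subgroupOf M)
    rw [hidx, Nat.card_congr (Subgroup.subgroupOfEquivOfLe (show M₀ ≤ M from inf_le_left)).toEquiv] at h1
    have h2 : 64 ∣ Nat.card M₀ := h.card_S ▸ Subgroup.card_dvd_of_le hSM
    refine dvd_trans ?_ (Subgroup.card_dvd_of_le (show M ≤ K from inf_le_left))
    rw [← h1]
    exact Nat.mul_dvd_mul h2 (dvd_refl 2)
  have hK1152 : 1152 ≤ Nat.card K := by
    obtain ⟨m, hm⟩ := hK128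
    have h27 : O.ncard * m = 27 := by
      rw [hm] at hmul
      have : O.ncard * m * 128 = 3456 := by rw [← hmul]; ring
      omega
    have hdiv : O.ncard ∣ 27 := Dvd.intro _ h27
    have hO3 : O.ncard ≤ 3 := by
      have hpos : O.ncard ≠ 0 := fun e => by rw [e, zero_mul] at h27; omega
      by_contra hlt
      interval_cases hn : O.ncard <;> omega
    have : 9 ≤ m := by
      by_contra hlt
      have : O.ncard * m ≤ 3 * 8 := Nat.mul_le_mul hO3 (by omega)
      omega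
    omega
  set N := U ⊓ normalizer (h.A : Set G) with hN
  have hKN : K ≤ N ⊓ centralizer ({z} : Set G) := fun g hg =>
    ⟨⟨hg.1.2, hDA g hg.1.2 hg.2⟩, hg.1.1⟩
  have hKD : ∀ g ∈ K, ∀ a ∈ D, g * a * g⁻¹ ∈ D := fun g hg a ha =>
    (Subgroup.mem_normalizer_iff.mp hg.2 a).mp ha
  -- transitivity on the singular elements of `D`
  set Ot := {s : G | ∃ k ∈ K, k * t * k⁻¹ = s} with hOt
  set D' := ((D : Set G) \ {1}) \ {z} with hD'
  have hD'6 : D'.ncard = 6 := by
    rw [hD', Set.ncard_diff_singleton_of_mem (show z ∈ (D : Set G) \ {1} from ⟨hzD, Y.H.h.ne_one⟩),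
      Set.ncard_diff_singleton_of_mem (one_mem D), ← Nat.card_coe_set_eq, SetLike.coe_sort_coe, hD8]
  have hOtD : Ot ⊆ D' := by
    rintro _ ⟨k, hk, rfl⟩
    refine ⟨⟨hKD k hk t htD, fun e => ht.2.2.1 (conj_eq_one_iff.mp e)⟩, fun e => ht.2.2.2 ?_⟩
    have hkz := mem_centralizer_singleton_iff.mp hk.1.1
    calc t = k⁻¹ * (k * t * k⁻¹) * k := by group
      _ = k⁻¹ * (z * k) := by rw [Set.mem_singleton_iff.mp e, mul_assoc]
      _ = z := by rw [← hkz, inv_mul_cancel_left]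
  have hOteq : Ot = D' := by
    refine Set.eq_of_subset_of_ncard_le hOtD ?_ (Set.toFinite _)
    have h1 := SuzTypeRadical62.card_le_mul_cent K t Ot fun q hq => ⟨q, hq, rfl⟩
    have h2 : Nat.card ↥(K ⊓ centralizer ({t} : Set G)) ≤ 192 := by
      rw [← Y.card_CS ht hyt]
      exact Subgroup.card_le_of_le fun g hg => ⟨⟨hg.1.1.1, hg.2⟩, hg.1.1.2⟩
    have h3 : Nat.card K ≤ Ot.ncard * 192 := h1.trans (Nat.mul_le_mul_left _ h2)
    omega
  -- an element of the normaliser moving `z`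
  obtain ⟨n, hnN, hnz⟩ : ∃ n ∈ N, n * z * n⁻¹ ∈ D' := by
    have hzt : Sing Q z (z * t) := by
      obtain ⟨d1, d2, -⟩ := Y.H.U_distinct ht
      refine ⟨mul_mem Y.H.h.mem ht.1, ?_, d1, d2⟩
      calc z * t * (z * t) = z * (t * z) * t := by group
        _ = z * z * (t * t) := by rw [Y.H.h.comm t ht.1]; group
        _ = 1 := by rw [hzz, ht.2.1, one_mul]
    have hyzt : y * (z * t) = z * t * y := ((show Commute y z from Y.yz).mul_right hyt).eq
    obtain ⟨g₁, hg₁y, hg₁z, hg₁t⟩ := Y.swap ht hyt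
    obtain ⟨g₂, hg₂y, hg₂z, hg₂t⟩ := Y.swap hzt hyzt
    have hZ : ∀ g : G, g * z * g⁻¹ ∈ h.Z → g * t * g⁻¹ ∈ h.Z → ∀ a ∈ h.Z, g * a * g⁻¹ ∈ h.Z := by
      intro g gz gt a ha
      rcases (Dt.Z_iff a).mp ha with e | e | e | e <;> subst e
      · simp [one_mem]
      · exact gz
      · exact gt
      · rw [show g * (z * t) * g⁻¹ = (g * z * g⁻¹) * (g * t * g⁻¹) by group]
        exact mul_mem gz gt
    have hZ₁ := hZ g₁ (hg₁z.symm ▸ Dt.mem_t) (hg₁t.symm ▸ Dt.mem_z)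
    have hg₂t' : g₂ * t * g₂⁻¹ = t := by
      calc g₂ * t * g₂⁻¹ = (g₂ * z * g₂⁻¹) * (g₂ * (z * t) * g₂⁻¹) := by
            rw [show g₂ * z * g₂⁻¹ * (g₂ * (z * t) * g₂⁻¹) = g₂ * (z * z * t) * g₂⁻¹ by group, hzz,
              one_mul]
        _ = z * t * z := by rw [hg₂z, hg₂t]
        _ = t := by rw [mul_assoc, Y.H.h.comm t ht.1, ← mul_assoc, hzz, one_mul]
    have hZ₂ := hZ g₂ (by rw [hg₂z]; exact mul_mem Dt.mem_z Dt.mem_t) (by rw [hg₂t']; exact Dt.mem_t)
    have ht' : t ∈ D' := ⟨⟨htD, ht.2.2.1⟩, ht.2.2.2⟩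
    have hzt' : z * t ∈ D' := ⟨⟨mul_mem hzD htD, hzt.2.2.1⟩, hzt.2.2.2⟩
    have mk : ∀ g : G, g * y = y * g → (∀ a ∈ h.A, g * a * g⁻¹ ∈ h.A) → g ∈ N := fun g hg ha =>
      ⟨mem_centralizer_singleton_iff.mpr hg, mem_normalizer_of_forall ha⟩
    rcases move Dt hg₁y hZ₁ with hA₁ | hA₁
    · exact ⟨g₁, mk g₁ hg₁y hA₁, hg₁z.symm ▸ ht'⟩
    rcases move Dt hg₂y hZ₂ with hA₂ | hA₂
    · exact ⟨g₂, mk g₂ hg₂y hA₂, hg₂z.symm ▸ hzt'⟩
    -- both exchange the two subgroups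
    have hB₁ : ∀ a ∈ h.B, g₁ * a * g₁⁻¹ ∈ h.A := by
      rcases move Dt.swap hg₁y (by rwa [L34Syl83.Chart.swap_Z]) with hB | hB
      · rw [L34Syl83.Chart.swap_A] at hB
        have hc := h.B_comm (hA₁ x hxA) (hB (h.μ 1 0 0) ⟨1, 0, rfl⟩)
        have hc' : x * h.μ 1 0 0 = h.μ 1 0 0 * x := by
          calc x * h.μ 1 0 0 = g₁⁻¹ * (g₁ * x * g₁⁻¹ * (g₁ * h.μ 1 0 0 * g₁⁻¹)) * g₁ := by group
            _ = g₁⁻¹ * (g₁ * h.μ 1 0 0 * g₁⁻¹ * (g₁ * x * g₁⁻¹)) * g₁ := by rw [hc]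
            _ = _ := by group
        have := (h.commute_iff _ _ _ _ _ _).1 hc'
        simp at this
      · rw [L34Syl83.Chart.swap_A, L34Syl83.Chart.swap_B] at hB
        exact hB
    refine ⟨g₁ * g₂, mk _ ((show Commute g₁ y from hg₁y).mul_left hg₂y).eq fun a ha => ?_, ?_⟩
    · rw [show g₁ * g₂ * a * (g₁ * g₂)⁻¹ = g₁ * (g₂ * a * g₂⁻¹) * g₁⁻¹ by group]
      exact hB₁ _ (hA₂ a ha)
    · have e : g₁ * g₂ * z * (g₁ * g₂)⁻¹ = z * t := by
        calc g₁ * g₂ * z * (g₁ * g₂)⁻¹ = g₁ * (g₂ * z * g₂⁻¹) * g₁⁻¹ := by group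
          _ = (g₁ * z * g₁⁻¹) * (g₁ * t * g₁⁻¹) := by rw [hg₂z]; group
          _ = z * t := by rw [hg₁z, hg₁t, Y.H.h.comm t ht.1]
      rw [e]; exact hzt'
  have hKn : ∀ g ∈ K, g ∈ N := fun g hg => (hKN hg).1
  have hreach : ∀ o ∈ (D : Set G) \ {1}, ∃ k ∈ N, k * z * k⁻¹ = o := by
    intro o ho
    by_cases hoz : o = z
    · exact ⟨1, one_mem _, by simp [hoz]⟩
    rw [← hOteq] at hnz
    obtain ⟨k₀, hk₀, e₀⟩ := hnz
    have hoO : o ∈ Ot := hOteq.symm ▸ ⟨ho, hoz⟩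
    obtain ⟨k, hk, e⟩ := hoO
    refine ⟨k * k₀⁻¹ * n, mul_mem (mul_mem (hKn k hk) (inv_mem (hKn k₀ hk₀))) hnN, ?_⟩
    calc k * k₀⁻¹ * n * z * (k * k₀⁻¹ * n)⁻¹ = k * k₀⁻¹ * (n * z * n⁻¹) * k₀ * k⁻¹ := by group
      _ = k * t * k⁻¹ := by rw [← e₀]; group
      _ = o := e
  have h7 : ((D : Set G) \ {1}).ncard = 7 := by
    rw [Set.ncard_diff_singleton_of_mem (one_mem D), ← Nat.card_coe_set_eq, SetLike.coe_sort_coe, hD8]
  have hfin := ncard_mul_cent_le N z _ hreach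
  rw [h7] at hfin
  have := Subgroup.card_le_of_le hKN
  omega

end Cfsg.Agent.SuzLNorm76
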