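import Mathlib
import Cfsg.Agent.Lib.SuzTypePair62

/-!
# Coordinates on the radical of the centraliser of two commuting involutions

In a group of Suzuki sporadic type: joint coordinates on `R`, and finite facts about an element
of order three in the alternating group of degree five acting on them.
-/

set_option autoImplicit false

namespace Cfsg.Agent.SuzV48

open Subgroup Cfsg.Agent.LargeExtraspecial Cfsg.Agent.LargeExtraspecialPair
open Cfsg.Agent.SuzTypeModel62 Cfsg.Agent.SuzTypeCoord62 Cfsg.Agent.SuzTypeRadical62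

variable {G : Type*} [Group G] [Finite G]

/-- The action on pairs. -/
def act2 (σ : Equiv.Perm (Fin 5)) (p : M4 × M4) : M4 × M4 := (act σ p.1, act σ p.2)

/-- The square of a pair. -/
def sq2 (p : M4 × M4) : ZMod 2 × ZMod 2 := (f p.1 + B p.1 p.2, f p.2 + B p.1 p.2)

/-- A moved vector. -/
def Mov (σ : Equiv.Perm (Fin 5)) (a : M4) : Prop :=
  a ≠ 0 ∧ a + act σ a + act σ (act σ a) = 0

instance (σ : Equiv.Perm (Fin 5)) (a : M4) : Decidable (Mov σ a) :=
  inferInstanceAs (Decidable (_ ∧ _))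

theorem exists_w : ∀ σ : Equiv.Perm (Fin 5), σ ^ 3 = 1 → σ ≠ 1 →
    ∃ a, Mov σ a ∧ Mov σ (act σ a) ∧ sq2 (a, act σ a) = 0 := by
  decide +kernel

set_option synthInstance.maxSize 2000 in
set_option synthInstance.maxHeartbeats 200000 in
theorem mov_twice : ∀ σ : Equiv.Perm (Fin 5), σ ^ 3 = 1 → σ ≠ 1 → ∀ a, Mov σ a →
    (∀ x, act σ x = x → B x a = 0) ∧ act σ a ≠ a ∧ act σ (act σ a) ≠ a ∧
    act σ a ≠ 0 ∧ (∀ τ : Equiv.Perm (Fin 5), Equiv.Perm.sign τ = 1 → act τ a = a →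
      act τ (act σ a) = act σ a → τ = 1) ∧
    ∃ x, B x a = 1 ∧ B x (act σ a) = 1 := by
  decide +kernel

set_option synthInstance.maxSize 2000 in
set_option synthInstance.maxHeartbeats 200000 in
theorem split : ∀ σ : Equiv.Perm (Fin 5), σ ^ 3 = 1 → σ ≠ 1 → ∀ a, Mov σ a →
    ∀ p q : M4, cm (p, q) (a, act σ a) = 0 → cm (p, q) (act σ a, act σ (act σ a)) = 0 →
    ∃ x, (x = 0 ∨ x = a ∨ x = act σ a ∨ x = a + act σ a) ∧
      act σ (p + x) = p + x ∧ act σ (q + act σ x) = q + act σ x := by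
  decide +kernel

theorem fixed_card : ∀ σ : Equiv.Perm (Fin 5), σ ^ 3 = 1 → σ ≠ 1 →
    (Finset.univ.filter fun p : M4 => act σ p = p).card = 4 := by
  decide +kernel

set_option synthInstance.maxSize 2000 in
set_option synthInstance.maxHeartbeats 200000 in
theorem cand_tau : ∀ σ : Equiv.Perm (Fin 5), σ ^ 3 = 1 → σ ≠ 1 → ∀ τ : Equiv.Perm (Fin 5),
    τ * τ = 1 → Equiv.Perm.sign τ = 1 → (∀ x, act σ x = x → act τ x = x) → τ = 1 := by
  decide +kernel

set_option synthInstance.maxSize 2000 in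
set_option synthInstance.maxHeartbeats 200000 in
theorem cand_cls : ∀ σ : Equiv.Perm (Fin 5), σ ^ 3 = 1 → σ ≠ 1 → ∀ a b : M4,
    (a, b) ≠ (0, 0) → a + act σ a + act σ (act σ a) = 0 → b + act σ b + act σ (act σ b) = 0 →
    sq2 (a, b) = 0 → Mov σ a ∧ Mov σ (act σ a) ∧
      (b = act σ a ∨ (b = act (σ * σ) a ∧ Mov (σ * σ) a ∧ Mov (σ * σ) (act (σ * σ) a))) := by
  decide +kernel

set_option synthInstance.maxSize 2000 in
set_option synthInstance.maxHeartbeats 200000 in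
theorem cand_orbit : ∀ σ : Equiv.Perm (Fin 5), σ ^ 3 = 1 → σ ≠ 1 → ∀ a b : M4,
    Mov σ a → Mov σ b → b = a ∨ b = act σ a ∨ b = a + act σ a := by
  decide +kernel

theorem B_symm : ∀ a b : M4, B a b = B b a := by decide +kernel

theorem act_zero_aux (σ : Equiv.Perm (Fin 5)) : act σ (0 : M4) = 0 := map_zero (actHom σ)

theorem act3_aux (σ : Equiv.Perm (Fin 5)) (h : σ ^ 3 = 1) (a : M4) :
    act σ (act σ (act σ a)) = a := by
  rw [← act_mul, ← act_mul, show σ * σ * σ = σ ^ 3 by rw [pow_succ, pow_two], h,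
    act_one]

namespace Ctx

variable {Q Q' : Subgroup G} {z t : G} {ν : G → M4} {d : G}
  {ρ : ↥(Sx z t) →* Equiv.Perm (Fin 5)} (D : SuzTypeRadical62.Ctx Q Q' z t ν d ρ)

/-- `r` has the coordinates `p`. -/
def Co (_D : SuzTypeRadical62.Ctx Q Q' z t ν d ρ) (r : G) (p : M4 × M4) : Prop :=
  ∃ a ∈ Cx Q t, ∃ b ∈ Cx Q' z, r = a * b ∧ ν a = p.1 ∧ ev ν d b = p.2

include D

theorem co_exists {r : G} (hr : r ∈ D.P.R) : ∃ p, Co D r p := by
  obtain ⟨a, ha, b, hb, rfl⟩ := D.decomp hr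
  exact ⟨(ν a, ev ν d b), a, ha, b, hb, rfl, rfl, rfl⟩

theorem co_mem {r : G} {p : M4 × M4} (h : Co D r p) : r ∈ D.P.R := by
  obtain ⟨a, ha, b, hb, rfl, -, -⟩ := h
  exact mul_mem (D.Cx_le_R ha) (D.C'_le_R hb)

theorem co_unique {r : G} {p q : M4 × M4} (h : Co D r p) (h' : Co D r q) : p = q := by
  obtain ⟨a, ha, b, hb, rfl, e1, e2⟩ := h
  obtain ⟨a', ha', b', hb', e, e1', e2'⟩ := h'
  obtain ⟨u1, u2⟩ := D.decomp_unique ha hb ha' hb' e
  exact Prod.ext (by rw [← e1, u1, e1']) (by rw [← e2, u2, e2'])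

theorem co_surj (p : M4 × M4) : ∃ r, Co D r p := by
  obtain ⟨a, ha, e1⟩ := D.K.surj p.1
  obtain ⟨b, hb, e2⟩ := D.ev_surj p.2
  exact ⟨a * b, a, ha, b, hb, rfl, e1, e2⟩

theorem co_Cx {a : G} (ha : a ∈ Cx Q t) : Co D a (ν a, 0) :=
  ⟨a, ha, 1, one_mem _, (mul_one a).symm, rfl, D.ev_one⟩

theorem co_V {u : G} (hu : u ∈ D.P.V) : Co D u 0 :=
  ⟨u, D.V_le_Cx hu, 1, one_mem _, (mul_one u).symm,
    (D.K.ker u (D.V_le_Cx hu)).mpr (D.inU_iff.mpr hu), D.ev_one⟩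

theorem co_zero {r : G} (h : Co D r 0) : r ∈ D.P.V := by
  obtain ⟨a, ha, b, hb, rfl, e1, e2⟩ := h
  exact mul_mem (D.inU_iff.mp ((D.K.ker a ha).mp e1)) ((D.ev_eq_zero hb).mp e2)

theorem co_mul {r s : G} {p q : M4 × M4} (h : Co D r p) (h' : Co D s q) :
    Co D (r * s) (p + q) := by
  obtain ⟨a, ha, b, hb, rfl, e1, e2⟩ := h
  obtain ⟨a', ha', b', hb', rfl, e1', e2'⟩ := h'
  set u := b * a' * b⁻¹ * a'⁻¹ with hu
  have huV : u ∈ D.P.V := D.comm_V (D.C'_le_R hb) (D.Cx_le_R ha')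
  have huC := D.V_le_Cx huV
  have hc : u * a' * b = b * a' := by rw [hu]; group
  refine ⟨a * (u * a'), mul_mem ha (mul_mem huC ha'), b * b', mul_mem hb hb', ?_, ?_, ?_⟩
  · calc a * b * (a' * b') = a * (b * a') * b' := by group
      _ = a * (u * a' * b) * b' := by rw [hc]
      _ = _ := by group
  · rw [D.K.add a ha _ (mul_mem huC ha'), D.K.add u huC a' ha',
      (D.K.ker u huC).mpr (D.inU_iff.mpr huV), zero_add, e1, e1']
    rfl
  · rw [D.ev_mul (D.triv_of_R (D.C'_le_R hb)) (D.C'_le_Sx hb'), e2, e2', add_comm]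
    rfl

theorem co_conj {c : ↥(Sx z t)} {r : G} {p : M4 × M4} (h : Co D r p) :
    Co D ((c : G) * r * (c : G)⁻¹) (act2 (ρ c) p) := by
  obtain ⟨a, ha, b, hb, rfl, e1, e2⟩ := h
  refine ⟨_, D.H.conj_Cx c.2 ha, _, D.conj_C' c.2 hb, by group, ?_, ?_⟩
  · rw [← D.hρ c a ha, e1]; rfl
  · rw [D.ev_conj hb, e2]; rfl

theorem co_comm {r s : G} {p q : M4 × M4} (h : Co D r p) (h' : Co D s q) :
    r * s * r⁻¹ * s⁻¹ = vv z t (cm p q) := by
  obtain ⟨a, ha, b, hb, rfl, e1, e2⟩ := h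
  obtain ⟨a', ha', b', hb', rfl, e1', e2'⟩ := h'
  rw [D.comm_R ha hb ha' hb', e1, e2, e1', e2']

theorem co_commute {r s : G} {p q : M4 × M4} (h : Co D r p) (h' : Co D s q) :
    r * s = s * r ↔ cm p q = 0 := by
  have e := co_comm D h h'
  constructor
  · intro hc
    refine D.vv_inj (e.symm.trans ?_)
    rw [vv_zero, mul_inv_eq_one, mul_inv_eq_iff_eq_mul, hc]
  · intro h0
    rw [h0, vv_zero, mul_inv_eq_one, mul_inv_eq_iff_eq_mul] at e
    exact e

theorem co_sq {r : G} {p : M4 × M4} (h : Co D r p) : r * r = vv z t (sq2 p) := by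
  obtain ⟨a, ha, b, hb, rfl, e1, e2⟩ := h
  rw [D.sq_R ha hb, e1, e2]
  rfl

/-- Fixed coordinates give a fixed element. -/
theorem co_fixed {c : ↥(Sx z t)} (h3 : (c : G) ^ 3 = 1) {r : G} {p : M4 × M4} (h : Co D r p)
    (hp : act2 (ρ c) p = p) : (c : G) * r = r * (c : G) := by
  have hr := co_mem D h
  have h' := co_conj D (c := c) h
  rw [hp] at h'
  set v := r⁻¹ * ((c : G) * r * (c : G)⁻¹) with hv
  have hv0 : v ∈ D.P.V := by
    obtain ⟨q, hq⟩ := co_exists D (mul_mem (inv_mem hr) (co_mem D h'))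
    have e := co_mul D h hq
    rw [← mul_assoc r r⁻¹, mul_inv_cancel, one_mul] at e
    have := co_unique D e h'
    have hq0 : q = 0 := by simpa using this
    exact co_zero D (hq0 ▸ hq)
  obtain ⟨k, hk⟩ := D.vv_surj hv0
  have hcv : Commute (c : G) v := by rw [hk]; exact D.vv_comm_Sx k c.2
  have hrv : (c : G) * r * (c : G)⁻¹ = r * v := by rw [hv]; group
  have hstep : ∀ x : G, Commute (c : G) x →
      (c : G) * (r * x) * (c : G)⁻¹ = r * (v * x) := fun x hx => by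
    calc (c : G) * (r * x) * (c : G)⁻¹ = (c : G) * r * (c : G)⁻¹ * ((c : G) * x * (c : G)⁻¹) := by
          group
      _ = r * (v * x) := by rw [hrv, hx.eq, mul_inv_cancel_right, mul_assoc]
  have hvv : v * v = 1 := (D.H.U_inv D.sing (D.inU_iff.mpr hv0)).1
  have e3 : (c : G) ^ 3 * r * ((c : G) ^ 3)⁻¹ = r * v := by
    calc (c : G) ^ 3 * r * ((c : G) ^ 3)⁻¹
        = (c : G) * ((c : G) * ((c : G) * r * (c : G)⁻¹) * (c : G)⁻¹) * (c : G)⁻¹ := by
          simp only [pow_succ, pow_zero, one_mul]; group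
      _ = r * v := by
          rw [hrv, hstep v hcv, hstep (v * v) (hcv.mul_right hcv), hvv, mul_one]
  rw [h3, one_mul, inv_one, mul_one] at e3
  rw [← e3, mul_inv_eq_iff_eq_mul] at hrv
  exact hrv

end Ctx

end Cfsg.Agent.SuzV48
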