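import Mathlib
import Cfsg.Agent.Lib.SuzVCoord48
import Cfsg.Agent.Lib.SuzY42Setup

/-!
# The four group inverted freely by an element of order three

In a group of Suzuki sporadic type, with `y` of order three in `C(z)` and `t` a non-central
involution of `Q` commuting with `y`: a four group `V` in `C(z) ∩ C(t)` normalised by `y`,
centralised by `Q ∩ C(y) ∩ C(t)`, with `C(z) ∩ C(V) = V × S` and `S = C(z) ∩ C(y) ∩ C(V)`
of order 64.
-/

set_option autoImplicit false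
set_option linter.unusedSectionVars false

namespace Cfsg.Agent.SuzVLocal48

open Subgroup Cfsg.Agent.LargeExtraspecial Cfsg.Agent.LargeExtraspecialPair
open Cfsg.Agent.SuzV48
open Cfsg.Agent.SuzTypeModel62 Cfsg.Agent.SuzTypeCoord62 Cfsg.Agent.SuzTypeRadical62

variable {G : Type*} [Group G] [Finite G]

/-- A four group with the given coordinates. -/
structure VData {Q Q' : Subgroup G} {z t : G} {ν : G → M4} {d : G}
    {ρ : ↥(Sx z t) →* Equiv.Perm (Fin 5)} (D : SuzTypeRadical62.Ctx Q Q' z t ν d ρ) (y : G)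
    (σ : Equiv.Perm (Fin 5)) (a : M4) (V : Subgroup G) (v v1 : G) : Prop where
  hyS : y ∈ Sx z t
  hy3 : y ^ 3 = 1
  hy1 : y ≠ 1
  hσ : ρ ⟨y, hyS⟩ = σ
  ha : Mov σ a
  ha' : Mov σ (act σ a)
  memV : ∀ g : G, g ∈ V ↔ g = 1 ∨ g = v ∨ g = v1 ∨ g = v * v1
  hv : SuzV48.Ctx.Co D v (a, act σ a)
  hv1 : SuzV48.Ctx.Co D v1 (act σ a, act σ (act σ a))
  conj0 : y * v * y⁻¹ = v1
  conj1 : y * v1 * y⁻¹ = v * v1
  conj2 : y * (v * v1) * y⁻¹ = v
  hv_sq : v * v = 1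
  hv1_sq : v1 * v1 = 1
  hv3_sq : v * v1 * (v * v1) = 1
  hcomm : v * v1 = v1 * v

/-- Split centraliser. -/
theorem card_split {H : Type*} [Group H] [Finite H] {A S C : Subgroup H} (hA : A ≤ C) (hS : S ≤ C)
    (h : ∀ c ∈ C, ∃ a ∈ A, ∃ s ∈ S, c = a * s) (hi : ∀ a ∈ A, a ∈ S → a = 1) :
    Nat.card C = Nat.card A * Nat.card S := by
  rw [← Nat.card_prod]
  refine (Nat.card_congr (Equiv.ofBijective
    (fun p : A × S => (⟨(p.1 : H) * p.2, mul_mem (hA p.1.2) (hS p.2.2)⟩ : C)) ⟨?_, ?_⟩)).symm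
  · rintro ⟨⟨a, ha⟩, s, hs⟩ ⟨⟨a', ha'⟩, s', hs'⟩ e
    have e' : a * s = a' * s' := congrArg Subtype.val e
    have h1 : a'⁻¹ * a = s' * s⁻¹ := by
      rw [inv_mul_eq_iff_eq_mul, ← mul_assoc, eq_mul_inv_iff_mul_eq, e']
    have h2 := hi _ (mul_mem (inv_mem ha') ha) (h1 ▸ mul_mem hs' (inv_mem hs))
    rw [inv_mul_eq_one] at h2
    subst h2
    have := mul_left_cancel e'
    subst this
    rfl
  · rintro ⟨c, hc⟩
    obtain ⟨a, ha, s, hs, rfl⟩ := h c hc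
    exact ⟨(⟨a, ha⟩, ⟨s, hs⟩), rfl⟩

/-- The action of `y` is a three-cycle. -/
theorem sigma_props {Q Q' : Subgroup G} {z t y : G} {ν : G → M4} {d : G}
    {ρ : ↥(Sx z t) →* Equiv.Perm (Fin 5)} (D : SuzTypeRadical62.Ctx Q Q' z t ν d ρ)
    (hyS : y ∈ Sx z t) (hy3 : y ^ 3 = 1) (hy1 : y ≠ 1) :
    ρ ⟨y, hyS⟩ ^ 3 = 1 ∧ ρ ⟨y, hyS⟩ ≠ 1 := by
  refine ⟨?_, fun e => hy1 ?_⟩
  · rw [← map_pow, show (⟨y, hyS⟩ : ↥(Sx z t)) ^ 3 = 1 from Subtype.ext hy3, map_one]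
  · have h4 : y ^ 4 = 1 := D.P.R_pow (D.rho_R.1 e)
    rwa [pow_succ, hy3, one_mul] at h4

set_option maxHeartbeats 1000000 in
theorem exists_data {Q Q' : Subgroup G} {z t y : G} {ν : G → M4} {d : G}
    {ρ : ↥(Sx z t) →* Equiv.Perm (Fin 5)} (D : SuzTypeRadical62.Ctx Q Q' z t ν d ρ)
    (hyS : y ∈ Sx z t) (hy3 : y ^ 3 = 1) (hy1 : y ≠ 1) :
    ∃ a V v v1, VData D y (ρ ⟨y, hyS⟩) a V v v1 := by
  set yy : ↥(Sx z t) := ⟨y, hyS⟩ with hyy
  set σ := ρ yy with hσ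
  obtain ⟨hσ3, hσ1⟩ : σ ^ 3 = 1 ∧ σ ≠ 1 := sigma_props D hyS hy3 hy1
  obtain ⟨a, ha, ha', hsq⟩ := exists_w σ hσ3 hσ1
  set w : M4 × M4 := (a, act σ a) with hw
  set w' : M4 × M4 := (act σ a, act σ (act σ a)) with hw'
  have hww' : act2 σ w = w' := rfl
  obtain ⟨r, hr⟩ := Ctx.co_surj D w
  have hrR := Ctx.co_mem D hr
  set r1 := y * r * y⁻¹ with hr1d
  have hr1 : Ctx.Co D r1 (act2 σ w) := Ctx.co_conj D (c := yy) hr
  rw [hww'] at hr1
  set r2 := y * r1 * y⁻¹ with hr2d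
  have hr2 : Ctx.Co D r2 (act2 σ w') := Ctx.co_conj D (c := yy) hr1
  have hsum : w + w' + act2 σ w' = 0 := Prod.ext ha.2 ha'.2
  have hu : r * r1 * r2 ∈ D.P.V := by
    have := Ctx.co_mul D (Ctx.co_mul D hr hr1) hr2
    rw [hsum] at this
    exact Ctx.co_zero D this
  set u := r * r1 * r2 with hud
  have huy : Commute y u := by
    obtain ⟨k, hk⟩ := D.vv_surj hu
    rw [hk]
    exact D.vv_comm_Sx k hyS
  have huR : ∀ {x : G}, x ∈ D.P.R → Commute x u := fun hx => D.P.V_comm hx hu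
  have huu : u * u = 1 := (D.H.U_inv D.sing (D.inU_iff.mpr hu)).1
  -- the three involutions
  set v := r * u with hvd
  have hv : Ctx.Co D v w := by
    have := Ctx.co_mul D hr (Ctx.co_V D hu)
    rwa [add_zero] at this
  set v1 := y * v * y⁻¹ with hv1d
  have hv1 : Ctx.Co D v1 (act2 σ w) := Ctx.co_conj D (c := yy) hv
  rw [hww'] at hv1
  set v2 := y * v1 * y⁻¹ with hv2d
  have hprod : v * v1 * v2 = 1 := by
    have e1 : v1 = r1 * u := by
      rw [hv1d, hvd, show y * (r * u) * y⁻¹ = y * r * y⁻¹ * (y * u * y⁻¹) by group, huy.eq,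
        mul_inv_cancel_right]
    have e2 : v2 = r2 * u := by
      rw [hv2d, e1, show y * (r1 * u) * y⁻¹ = y * r1 * y⁻¹ * (y * u * y⁻¹) by group, huy.eq,
        mul_inv_cancel_right]
    have c1 : u * r1 = r1 * u := (huR (Ctx.co_mem D hr1)).symm.eq
    have c2 : u * r2 = r2 * u := (huR (Ctx.co_mem D hr2)).symm.eq
    rw [hvd, e1, e2]
    calc r * u * (r1 * u) * (r2 * u) = r * (u * r1) * (u * r2) * u := by group
      _ = r * r1 * (u * r2) * u * u := by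
        simp only [c1, c2]
        rw [show r * (r1 * u) * (r2 * u) * u = r * r1 * (u * r2) * (u * u) by group, c2]
        group
      _ = r * r1 * r2 * (u * u * u) := by rw [c2]; group
      _ = 1 := by rw [← hud, huu, one_mul, huu]
  have hv_sq : v * v = 1 := by rw [Ctx.co_sq D hv, hsq, vv_zero]
  have hv1_sq : v1 * v1 = 1 := by
    rw [hv1d, show y * v * y⁻¹ * (y * v * y⁻¹) = y * (v * v) * y⁻¹ by group, hv_sq]
    group
  have hv2_sq : v2 * v2 = 1 := by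
    rw [hv2d, show y * v1 * y⁻¹ * (y * v1 * y⁻¹) = y * (v1 * v1) * y⁻¹ by group, hv1_sq]
    group
  have hvv1 : v * v1 = v2 := by
    rw [eq_inv_of_mul_eq_one_left hprod]
    exact inv_eq_of_mul_eq_one_right hv2_sq
  have hinv : ∀ {x : G}, x * x = 1 → x⁻¹ = x := fun h => inv_eq_of_mul_eq_one_right h
  have hcomm : v * v1 = v1 * v := by
    have : (v * v1)⁻¹ = v * v1 := hinv (by rw [hvv1, hv2_sq])
    rwa [mul_inv_rev, hinv hv_sq, hinv hv1_sq, eq_comm] at this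
  have hyv2 : y * v2 * y⁻¹ = v := by
    have h3 : y * y * y = 1 := by rw [← hy3, pow_succ, pow_two]
    rw [hv2d, hv1d, show y * (y * (y * v * y⁻¹) * y⁻¹) * y⁻¹ = y * y * y * v * (y * y * y)⁻¹ by
      group, h3, one_mul, inv_one, mul_one]
  let V : Subgroup G :=
    { carrier := {g | g = 1 ∨ g = v ∨ g = v1 ∨ g = v * v1}
      one_mem' := Or.inl rfl
      mul_mem' := by
        have e1 : v * (v * v1) = v1 := by rw [← mul_assoc, hv_sq, one_mul]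
        have e2 : v * v1 * v = v1 := by rw [hcomm, mul_assoc, hv_sq, mul_one]
        have e3 : v1 * (v * v1) = v := by rw [hcomm, ← mul_assoc, hv1_sq, one_mul]
        have e4 : v * v1 * v1 = v := by rw [mul_assoc, hv1_sq, mul_one]
        have e5 : v * v1 * (v * v1) = 1 := by rw [hvv1, hv2_sq]
        have e6 : v1 * v = v * v1 := hcomm.symm
        rintro p q (rfl | rfl | rfl | rfl) (rfl | rfl | rfl | rfl) <;>
          simp [hv_sq, hv1_sq, e1, e2, e3, e4, e5, e6]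
      inv_mem' := by
        rintro p (rfl | rfl | rfl | rfl)
        · exact Or.inl inv_one
        · exact Or.inr (Or.inl (hinv hv_sq))
        · exact Or.inr (Or.inr (Or.inl (hinv hv1_sq)))
        · exact Or.inr (Or.inr (Or.inr (hinv (by rw [hvv1, hv2_sq])))) }
  refine ⟨a, V, v, v1, ⟨hyS, hy3, hy1, rfl, ha, ha', fun g => Iff.rfl, hv, hv1, rfl, ?_, ?_,
    hv_sq, hv1_sq, ?_, hcomm⟩⟩
  · rw [← hv2d, hvv1]
  · rw [hvv1, hyv2]
  · rw [hvv1, hv2_sq]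

namespace VData

variable {Q Q' : Subgroup G} {z t y : G} {ν : G → M4} {d : G}
  {ρ : ↥(Sx z t) →* Equiv.Perm (Fin 5)} {D : SuzTypeRadical62.Ctx Q Q' z t ν d ρ}
  {σ : Equiv.Perm (Fin 5)} {a : M4} {V : Subgroup G} {v v1 : G}
  (W : VData D y σ a V v v1)
include W

theorem sigma : σ ^ 3 = 1 ∧ σ ≠ 1 := W.hσ ▸ sigma_props D W.hyS W.hy3 W.hy1

theorem v_mem : v ∈ V := (W.memV v).mpr (Or.inr (Or.inl rfl))

theorem v1_mem : v1 ∈ V := (W.memV v1).mpr (Or.inr (Or.inr (Or.inl rfl)))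

theorem co3 : Ctx.Co D (v * v1) (a + act σ a, act σ a + act σ (act σ a)) :=
  Ctx.co_mul D W.hv W.hv1

theorem le_R : ∀ g ∈ V, g ∈ D.P.R := by
  intro g hg
  rcases (W.memV g).mp hg with rfl | rfl | rfl | rfl
  exacts [one_mem _, Ctx.co_mem D W.hv, Ctx.co_mem D W.hv1,
    mul_mem (Ctx.co_mem D W.hv) (Ctx.co_mem D W.hv1)]

theorem le_Sx : V ≤ Sx z t := fun g hg => D.R_le_Sx (W.le_R g hg)

theorem sq : ∀ g ∈ V, g * g = 1 := by
  intro g hg
  rcases (W.memV g).mp hg with rfl | rfl | rfl | rfl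
  exacts [one_mul 1, W.hv_sq, W.hv1_sq, W.hv3_sq]

theorem norm : ∀ g ∈ V, y * g * y⁻¹ ∈ V := by
  intro g hg
  rcases (W.memV g).mp hg with rfl | rfl | rfl | rfl
  · rw [mul_one, mul_inv_cancel]; exact one_mem _
  · rw [W.conj0]; exact W.v1_mem
  · rw [W.conj1]; exact mul_mem W.v_mem W.v1_mem
  · rw [W.conj2]; exact W.v_mem

theorem ne : v ≠ 1 ∧ v1 ≠ 1 ∧ v ≠ v1 ∧ v * v1 ≠ 1 := by
  obtain ⟨-, hne1, -, hne0, -⟩ := mov_twice σ W.sigma.1 W.sigma.2 a W.ha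
  have h0 : ∀ {p}, Ctx.Co D 1 p → p = 0 := fun h =>
    Ctx.co_unique D h (Ctx.co_V D (one_mem _))
  refine ⟨fun e => W.ha.1 (congrArg Prod.fst (h0 (e ▸ W.hv))),
    fun e => hne0 (congrArg Prod.fst (h0 (e ▸ W.hv1))), ?_, ?_⟩
  · exact fun e => hne1 (congrArg Prod.fst (Ctx.co_unique D W.hv1 (e ▸ W.hv)))
  · intro e
    have h := congrArg Prod.fst (h0 (e ▸ W.co3))
    exact hne1 (eq_of_add h).symm

theorem card : Nat.card V = 4 := by
  obtain ⟨nv, nv1, nvv1, nv3⟩ := W.ne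
  rw [← SetLike.coe_sort_coe, Nat.card_coe_set_eq]
  have hset : (V : Set G) = ({1, v, v1, v * v1} : Set G) := by
    ext g
    simp only [SetLike.mem_coe, W.memV, Set.mem_insert_iff, Set.mem_singleton_iff]
  have c1 : (1 : G) ∉ ({v, v1, v * v1} : Set G) := by
    simp [nv.symm, nv1.symm, nv3.symm]
  have c2 : v ∉ ({v1, v * v1} : Set G) := by simp [nvv1, nv1]
  have c3 : v1 ≠ v * v1 := fun e => nv (mul_eq_right.mp e.symm)
  rw [hset, Set.ncard_insert_of_notMem c1, Set.ncard_insert_of_notMem c2, Set.ncard_pair c3]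

theorem fpf : ∀ g ∈ V, y * g = g * y → g = 1 := by
  obtain ⟨nv, nv1, nvv1, -⟩ := W.ne
  intro g hg hc
  have hc' : y * g * y⁻¹ = g := by rw [hc, mul_inv_cancel_right]
  rcases (W.memV g).mp hg with rfl | rfl | rfl | rfl
  · rfl
  · rw [W.conj0] at hc'
    exact absurd hc'.symm nvv1
  · rw [W.conj1] at hc'
    exact absurd (mul_eq_right.mp hc') nv
  · rw [W.conj2] at hc'
    exact absurd (left_eq_mul.mp hc') nv1

theorem commV {c : G} (h1 : c * v = v * c) (h2 : c * v1 = v1 * c) :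
    ∀ g ∈ V, c * g = g * c := by
  intro g hg
  rcases (W.memV g).mp hg with rfl | rfl | rfl | rfl
  · simp
  · exact h1
  · exact h2
  · exact (show Commute c v from h1).mul_right h2

theorem abel : ∀ g ∈ V, ∀ h ∈ V, g * h = h * g := by
  intro g hg
  exact W.commV (W.commV rfl W.hcomm g hg).symm (W.commV W.hcomm.symm rfl g hg).symm

theorem fixed_cm {p : M4 × M4} (hp : act2 σ p = p) :
    cm p (a, act σ a) = 0 ∧ cm p (act σ a, act σ (act σ a)) = 0 := by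
  obtain ⟨hσ3, hσ1⟩ := W.sigma
  have hm : Mov σ (act σ (act σ a)) := by
    obtain ⟨hne1, -⟩ : act σ a ≠ a ∧ True := ⟨(mov_twice σ hσ3 hσ1 a W.ha).2.1, trivial⟩
    refine ⟨fun e => hne1 ?_, ?_⟩
    · have h := W.ha.2
      rw [e, add_zero] at h
      exact (eq_of_add h).symm
    · rw [act3_aux σ hσ3]
      refine Eq.trans ?_ W.ha.2
      abel
  have p1 : act σ p.1 = p.1 := congrArg Prod.fst hp
  have p2 : act σ p.2 = p.2 := congrArg Prod.snd hp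
  have o : ∀ {x : M4}, act σ x = x →
      B x a = 0 ∧ B x (act σ a) = 0 ∧ B x (act σ (act σ a)) = 0 := fun {x} hx =>
    ⟨(mov_twice σ hσ3 hσ1 a W.ha).1 x hx, (mov_twice σ hσ3 hσ1 _ W.ha').1 x hx,
      (mov_twice σ hσ3 hσ1 _ hm).1 x hx⟩
  obtain ⟨k1, k2, k3⟩ := o p1
  obtain ⟨l1, l2, l3⟩ := o p2
  constructor <;>
    simp only [cm, B_symm a p.2, B_symm (act σ a) p.2, k1, k2, k3, l1, l2, l3, add_zero] <;> rfl

theorem comm_case {x : G} {p : M4 × M4} (hx : Ctx.Co D x p) {q : G} (hq : q ∈ Q) :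
    x * q * x⁻¹ * q⁻¹ ∈ D.P.V ∨
      (x * q * x⁻¹ * q⁻¹ ∈ Cx Q t ∧ ν (x * q * x⁻¹ * q⁻¹) = p.2) := by
  have hxR := Ctx.co_mem D hx
  by_cases hqt : q * t = t * q
  · exact Or.inl (D.comm_V hxR (D.Cx_le_R (mem_Cx.mpr ⟨hq, hqt⟩)))
  · refine Or.inr ?_
    have hdt : d⁻¹ * t * d⁻¹⁻¹ = z * t := by
      refine (D.H.h.not_comm_iff D.sing.1 (Q.inv_mem D.hd)).mp fun e => ?_
      have hcm : Commute d t := by simpa using (show Commute d⁻¹ t from e).inv_left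
      exact (D.H.h.not_comm_iff D.sing.1 D.hd).mpr D.ed hcm
    have ha0 : q * d⁻¹ ∈ Cx Q t := mem_Cx.mpr ⟨Q.mul_mem hq (Q.inv_mem D.hd),
      mul_inv_eq_iff_eq_mul.mp
        (D.H.h.mul_fix hq ((D.H.h.not_comm_iff D.sing.1 hq).mp hqt) hdt)⟩
    set a0 := q * d⁻¹ with ha0d
    have hm : x * d * x⁻¹ * d⁻¹ ∈ Cx Q t := D.ev_mem (D.R_le_Sx hxR)
    set m := x * d * x⁻¹ * d⁻¹ with hmd
    have hk : x * a0 * x⁻¹ * a0⁻¹ ∈ D.P.V := D.comm_V hxR (D.Cx_le_R ha0)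
    have e : x * q * x⁻¹ * q⁻¹ = x * a0 * x⁻¹ * a0⁻¹ * (a0 * m * a0⁻¹) := by
      rw [hmd, ha0d]; group
    have hkC := D.V_le_Cx hk
    have ham : a0 * m * a0⁻¹ ∈ Cx Q t := mul_mem (mul_mem ha0 hm) (inv_mem ha0)
    rw [e]
    refine ⟨mul_mem hkC ham, ?_⟩
    rw [D.K.add _ hkC _ ham, (D.K.ker _ hkC).mpr (D.inU_iff.mpr hk), zero_add,
      D.K.add _ (mul_mem ha0 hm) _ (inv_mem ha0), D.K.add _ ha0 _ hm,
      D.H.nu_inv D.sing D.K ha0]
    obtain ⟨aa, haa, bb, hbb, rfl, -, e2⟩ := hx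
    have hev : ν m = p.2 := by
      rw [hmd]
      show ev ν d (aa * bb) = _
      rw [D.ev_mul (D.triv_of_R (D.Cx_le_R haa)) (D.C'_le_Sx hbb), D.ev_Cx haa, add_zero, e2]
    rw [hev, add_comm (ν a0), add_assoc, SuzTypeModel62.add_self, add_zero]

theorem get_t {x : G} {p : M4 × M4} (hx : Ctx.Co D x p) {s : M4} (h1 : B s p.1 = 1)
    (h2 : B s p.2 = 1) : ∃ q ∈ Q, x * q * x⁻¹ * q⁻¹ = t := by
  obtain ⟨q, hq, rfl⟩ := D.K.surj s
  refine ⟨q, (mem_Cx.mp hq).1, ?_⟩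
  have hs : cm p (ν q, 0) = (0, 1) := by
    simp only [cm, SuzTypeModel62.B_zero_right, B_symm p.1 (ν q), h1, h2]
    rfl
  rw [Ctx.co_comm D hx (Ctx.co_Cx D hq), hs, vv, zp_zero, zp_one, one_mul]

theorem cent_R {c : G} (hcz : c * z = z * c) (hcv : c * v = v * c) (hcv1 : c * v1 = v1 * c) :
    c ∈ D.P.R := by
  obtain ⟨hσ3, hσ1⟩ := W.sigma
  obtain ⟨horth, hne1, hne2, hne0, hfix, x0, hx0, hx0'⟩ := mov_twice σ hσ3 hσ1 a W.ha
  obtain ⟨horth', hne1', -, hne0', hfix', x1, hx1, hx1'⟩ := mov_twice σ hσ3 hσ1 (act σ a) W.ha'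
  obtain ⟨q0, hq0, et0⟩ := W.get_t W.hv hx0 hx0'
  obtain ⟨q1, hq1, et1⟩ := W.get_t W.hv1 hx1 hx1'
  have hQc : ∀ q ∈ Q, c * q * c⁻¹ ∈ Q := fun q hq => D.H.h.norm c hcz q hq
  have key : ∀ {x : G}, c * x = x * c → ∀ {q : G}, x * q * x⁻¹ * q⁻¹ = t →
      x * (c * q * c⁻¹) * x⁻¹ * (c * q * c⁻¹)⁻¹ = c * t * c⁻¹ := by
    intro x hx q e
    have hc : Commute c x := hx
    rw [← e]
    calc x * (c * q * c⁻¹) * x⁻¹ * (c * q * c⁻¹)⁻¹
        = (x * c) * q * (c⁻¹ * x⁻¹) * (c * q⁻¹ * c⁻¹) := by group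
      _ = (c * x) * q * (x⁻¹ * c⁻¹) * (c * q⁻¹ * c⁻¹) := by
          rw [hc.eq, hc.inv_inv.eq]
      _ = _ := by group
  have k0 := key hcv et0
  have k1 := key hcv1 et1
  have a0' := W.comm_case W.hv (hQc q0 hq0)
  have a1' := W.comm_case W.hv1 (hQc q1 hq1)
  rw [k0] at a0'
  rw [k1] at a1'
  have hin : c * t * c⁻¹ ∈ D.P.V := by
    rcases a0' with h | ⟨-, h⟩
    · exact h
    rcases a1' with h' | ⟨-, h'⟩
    · exact h'
    exact absurd (h'.symm.trans h) hne1'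
  have hτ : ∀ {c' : ↥(Sx z t)} {p q : M4 × M4} {x x' : G}, Ctx.Co D x p → Ctx.Co D x' q →
      (c' : G) * x * (c' : G)⁻¹ = x' → act2 (ρ c') p = q := by
    intro c' p q x x' hp hq e
    exact Ctx.co_unique D (e ▸ Ctx.co_conj D (c := c') hp) hq
  rcases D.P.mem_V.mp hin with e | e | e | e
  · exact absurd (conj_eq_one_iff.mp e) D.sing.2.2.1
  · exfalso
    apply D.sing.2.2.2
    calc t = c⁻¹ * (c * t * c⁻¹) * c := by group
      _ = c⁻¹ * (z * c) := by rw [e, mul_assoc]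
      _ = z := by rw [← hcz]; group
  · have hcS : c ∈ Sx z t := SuzTypeCoord62.mem_Sx.mpr ⟨hcz, mul_inv_eq_iff_eq_mul.mp e⟩
    have h1 := hτ (c' := ⟨c, hcS⟩) W.hv W.hv (show c * v * c⁻¹ = v by rw [hcv, mul_inv_cancel_right])
    have hρ : ρ ⟨c, hcS⟩ = 1 := hfix _ (D.sign_rho _) (congrArg Prod.fst h1)
      (congrArg Prod.snd h1)
    exact D.rho_R.mp hρ
  · exfalso
    have hdz : Commute d⁻¹ z := (show Commute d z from D.H.h.comm d D.hd).inv_left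
    have hcS : d⁻¹ * c ∈ Sx z t := by
      refine SuzTypeCoord62.mem_Sx.mpr ⟨(hdz.mul_left hcz).eq, mul_inv_eq_iff_eq_mul.mp ?_⟩
      rw [show d⁻¹ * c * t * (d⁻¹ * c)⁻¹ = d⁻¹ * (c * t * c⁻¹) * d by group, e, ← D.ed]
      group
    have hx : ∀ {x : G} {p : M4 × M4}, Ctx.Co D x p → c * x = x * c →
        act2 (ρ ⟨d⁻¹ * c, hcS⟩) p = (p.2, 0) + p := by
      intro x p hxp hcx
      have hxR := Ctx.co_mem D hxp
      have hmC : x * d * x⁻¹ * d⁻¹ ∈ Cx Q t := D.ev_mem (D.R_le_Sx hxR)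
      have hν : ν (d⁻¹ * (x * d * x⁻¹ * d⁻¹) * d) = p.2
          ∧ d⁻¹ * (x * d * x⁻¹ * d⁻¹) * d ∈ Cx Q t := by
        have hev : ν (x * d * x⁻¹ * d⁻¹) = p.2 := by
          obtain ⟨aa, haa, bb, hbb, rfl, -, e2⟩ := hxp
          show ev ν d (aa * bb) = _
          rw [D.ev_mul (D.triv_of_R (D.Cx_le_R haa)) (D.C'_le_Sx hbb), D.ev_Cx haa, add_zero, e2]
        rcases D.H.h.conj d⁻¹ (Q.inv_mem D.hd) _ (mem_Cx.mp hmC).1 with w | w <;>
          rw [inv_inv] at w <;> rw [w]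
        · exact ⟨hev, hmC⟩
        · refine ⟨?_, mul_mem (D.H.z_mem D.sing) hmC⟩
          rw [D.K.add z (D.H.z_mem D.sing) _ hmC, (D.K.ker z (D.H.z_mem D.sing)).mpr
            (Or.inr (Or.inl rfl)), zero_add, hev]
      refine hτ hxp (Ctx.co_mul D (hν.1 ▸ Ctx.co_Cx D hν.2) hxp) ?_
      show d⁻¹ * c * x * (d⁻¹ * c)⁻¹ = _
      rw [show d⁻¹ * c * x * (d⁻¹ * c)⁻¹ = d⁻¹ * (c * x * c⁻¹) * d by group, hcx,
        mul_inv_cancel_right]
      group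
    have h1 := hx W.hv hcv
    have h2 := hx W.hv1 hcv1
    have f1 : act (ρ ⟨d⁻¹ * c, hcS⟩) (act σ a) = act σ a := by
      simpa [act2] using congrArg Prod.snd h1
    have f2 : act (ρ ⟨d⁻¹ * c, hcS⟩) (act σ (act σ a)) = act σ (act σ a) := by
      simpa [act2] using congrArg Prod.snd h2
    have hρ := hfix' _ (D.sign_rho _) f1 f2
    have h := congrArg Prod.fst h1
    rw [hρ] at h
    simp only [act2, act_one, Prod.fst_add] at h
    exact hne0 (by simpa using h)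

theorem fixed_of_comm {c : G} {p : M4 × M4} (hp : Ctx.Co D c p) (hcy : c * y = y * c) :
    act2 σ p = p := by
  refine Ctx.co_unique D (W.hσ ▸ Ctx.co_conj D (c := ⟨y, W.hyS⟩) hp) ?_
  show Ctx.Co D (y * c * y⁻¹) p
  rwa [← hcy, mul_inv_cancel_right]

theorem mem_S_iff {c : G} : c ∈ centralizer ({z} : Set G) ⊓ centralizer ({y} : Set G)
    ⊓ centralizer (V : Set G) ↔ c * z = z * c ∧ c * y = y * c ∧ ∀ g ∈ V, c * g = g * c := by
  rw [mem_inf, mem_inf, mem_centralizer_singleton_iff, mem_centralizer_singleton_iff,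
    mem_centralizer_iff]
  exact ⟨fun h => ⟨h.1.1, h.1.2, fun g hg => (h.2 g hg).symm⟩,
    fun h => ⟨⟨h.1, h.2.1⟩, fun g hg => (h.2.2 g hg).symm⟩⟩

theorem mem_C_iff {c : G} : c ∈ centralizer ({z} : Set G) ⊓ centralizer (V : Set G) ↔
    c * z = z * c ∧ ∀ g ∈ V, c * g = g * c := by
  rw [mem_inf, mem_centralizer_singleton_iff, mem_centralizer_iff]
  exact ⟨fun h => ⟨h.1, fun g hg => (h.2 g hg).symm⟩,
    fun h => ⟨h.1, fun g hg => (h.2 g hg).symm⟩⟩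

theorem S_mk {c : G} {p : M4 × M4} (hp : Ctx.Co D c p) (hfix : act2 σ p = p) :
    c ∈ centralizer ({z} : Set G) ⊓ centralizer ({y} : Set G) ⊓ centralizer (V : Set G) := by
  refine W.mem_S_iff.mpr ⟨(SuzTypeCoord62.mem_Sx.mp (D.R_le_Sx (Ctx.co_mem D hp))).1,
    (Ctx.co_fixed D (c := ⟨y, W.hyS⟩) W.hy3 hp (by rw [W.hσ]; exact hfix)).symm, W.commV ?_ ?_⟩
  · exact (Ctx.co_commute D hp W.hv).mpr (W.fixed_cm hfix).1
  · exact (Ctx.co_commute D hp W.hv1).mpr (W.fixed_cm hfix).2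

theorem S_comm {s : G} (hs : s ∈ Sx z t) (hsy : s * y = y * s) (hs8 : s ^ 8 = 1) :
    s ∈ centralizer ({z} : Set G) ⊓ centralizer ({y} : Set G) ⊓ centralizer (V : Set G) := by
  obtain ⟨hσ3, hσ1⟩ := W.sigma
  have hs' : ρ ⟨s, hs⟩ * σ = σ * ρ ⟨s, hs⟩ := by
    rw [← W.hσ, ← map_mul, ← map_mul]
    exact congrArg ρ (Subtype.ext hsy)
  have h8 : ρ ⟨s, hs⟩ ^ 8 = 1 := by
    rw [← map_pow, show (⟨s, hs⟩ : ↥(Sx z t)) ^ 8 = 1 from Subtype.ext hs8, map_one]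
  have hsR : s ∈ D.P.R := by
    refine (D.rho_R (c := ⟨s, hs⟩)).mp ?_
    rcases SuzY42Setup.perm_cent _ hσ3 hσ1 _ (D.sign_rho _) hs' with e | e | e
    · exact e
    · exfalso
      rw [e, show σ ^ 8 = (σ ^ 3) ^ 2 * (σ * σ) by group, hσ3, one_pow, one_mul] at h8
      exact hσ1 (by rw [← hσ3, pow_succ, pow_two, h8, one_mul])
    · exfalso
      rw [e, show (σ * σ) ^ 8 = (σ ^ 3) ^ 5 * σ by rw [← pow_two, ← pow_mul, ← pow_mul, ← pow_succ], hσ3, one_pow, one_mul] at h8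
      exact hσ1 h8
  obtain ⟨p, hp⟩ := Ctx.co_exists D hsR
  exact W.S_mk hp (W.fixed_of_comm hp hsy)

theorem U0 {u : G} (hu : u ∈ Q) (huy : u * y = y * u) (hut : u * t = t * u) :
    ∀ g ∈ V, u * g = g * u := by
  have huC : u ∈ Cx Q t := mem_Cx.mpr ⟨hu, hut⟩
  exact (W.mem_S_iff.mp
    (W.S_mk (Ctx.co_Cx D huC) (W.fixed_of_comm (Ctx.co_Cx D huC) huy))).2.2

theorem meet_Q : ∀ g ∈ V, g ∈ Q → g = 1 := by
  obtain ⟨hσ3, hσ1⟩ := W.sigma
  obtain ⟨horth, hne1, hne2, hne0, hfix, x0, hx0, hx0'⟩ := mov_twice σ hσ3 hσ1 a W.ha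
  obtain ⟨horth', hne1', -, hne0', hfix', x1, hx1, hx1'⟩ := mov_twice σ hσ3 hσ1 (act σ a) W.ha'
  intro g hg hgQ
  have hgC : g ∈ Cx Q t := mem_Cx.mpr ⟨hgQ, (SuzTypeCoord62.mem_Sx.mp (W.le_Sx hg)).2⟩
  rcases (W.memV g).mp hg with rfl | rfl | rfl | rfl
  · rfl
  · exact absurd (congrArg Prod.snd (Ctx.co_unique D W.hv (Ctx.co_Cx D hgC))) hne0
  · exact absurd (congrArg Prod.snd (Ctx.co_unique D W.hv1 (Ctx.co_Cx D hgC))) hne0'
  · exfalso
    have h := congrArg Prod.snd (Ctx.co_unique D W.co3 (Ctx.co_Cx D hgC))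
    simp only at h
    apply W.ha.1
    have h3 := W.ha.2
    rwa [add_assoc, h, add_zero] at h3

theorem cent_t : centralizer ({z} : Set G) ⊓ centralizer (V : Set G) ≤ Sx z t := fun c hc => by
  obtain ⟨h1, h2⟩ := W.mem_C_iff.mp hc
  exact D.R_le_Sx (W.cent_R h1 (h2 v W.v_mem) (h2 v1 W.v1_mem))

theorem split : ∀ c ∈ centralizer ({z} : Set G) ⊓ centralizer (V : Set G), ∃ g ∈ V,
    ∃ s ∈ centralizer ({z} : Set G) ⊓ centralizer ({y} : Set G) ⊓ centralizer (V : Set G),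
      c = g * s := by
  intro c hc
  obtain ⟨hσ3, hσ1⟩ := W.sigma
  obtain ⟨hcz, hcV⟩ := W.mem_C_iff.mp hc
  obtain ⟨⟨p, q⟩, hp⟩ :=
    Ctx.co_exists D (W.cent_R hcz (hcV v W.v_mem) (hcV v1 W.v1_mem))
  obtain ⟨x, hx, f1, f2⟩ := SuzV48.split σ hσ3 hσ1 a W.ha p q
    ((Ctx.co_commute D hp W.hv).mp (hcV v W.v_mem))
    ((Ctx.co_commute D hp W.hv1).mp (hcV v1 W.v1_mem))
  obtain ⟨e, heV, hex⟩ : ∃ e ∈ V, Ctx.Co D e (x, act σ x) := by
    rcases hx with rfl | rfl | rfl | rfl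
    · exact ⟨1, one_mem _, by rw [act_zero_aux]; exact Ctx.co_V D (one_mem _)⟩
    · exact ⟨v, W.v_mem, W.hv⟩
    · exact ⟨v1, W.v1_mem, W.hv1⟩
    · exact ⟨v * v1, mul_mem W.v_mem W.v1_mem, by rw [act_add]; exact W.co3⟩
  refine ⟨e, heV, e * c, ?_, by rw [← mul_assoc, W.sq e heV, one_mul]⟩
  refine W.S_mk (Ctx.co_mul D hex hp) ?_
  show (act σ (x + p), act σ (act σ x + q)) = (x + p, act σ x + q)
  rw [add_comm x p, add_comm (act σ x) q, f1, f2]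

theorem cardS : Nat.card ↥(centralizer ({z} : Set G) ⊓ centralizer ({y} : Set G)
    ⊓ centralizer (V : Set G)) = 64 := by
  classical
  obtain ⟨hσ3, hσ1⟩ := W.sigma
  set S := centralizer ({z} : Set G) ⊓ centralizer ({y} : Set G) ⊓ centralizer (V : Set G)
    with hSd
  have hSR : ∀ c : ↥S, (c : G) ∈ D.P.R := fun c => by
    obtain ⟨h1, -, h3⟩ := W.mem_S_iff.mp c.2
    exact W.cent_R h1 (h3 v W.v_mem) (h3 v1 W.v1_mem)
  choose π hπ using fun c : ↥S => Ctx.co_exists D (hSR c)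
  let φ : ↥S →* Multiplicative (M4 × M4) := MonoidHom.mk'
    (fun c => Multiplicative.ofAdd (π c)) fun c c' => by
      rw [← ofAdd_add]
      exact congrArg Multiplicative.ofAdd
        (Ctx.co_unique D (hπ (c * c')) (Ctx.co_mul D (hπ c) (hπ c')))
  have hker : Nat.card φ.ker = 4 := by
    have hmem : ∀ k : ZMod 2 × ZMod 2, vv z t k ∈ S := fun k =>
      W.S_mk (Ctx.co_V D (D.vv_mem k)) (Prod.ext (act_zero_aux σ) (act_zero_aux σ))
    have hkm : ∀ k, (⟨vv z t k, hmem k⟩ : ↥S) ∈ φ.ker := fun k => by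
      show Multiplicative.ofAdd (π _) = 1
      rw [Ctx.co_unique D (hπ ⟨vv z t k, hmem k⟩) (Ctx.co_V D (D.vv_mem k))]
      rfl
    rw [← Nat.card_congr (Equiv.ofBijective
      (fun k => (⟨⟨vv z t k, hmem k⟩, hkm k⟩ : φ.ker)) ⟨fun k k' e => D.vv_inj
        (congrArg (fun x : φ.ker => ((x : ↥S) : G)) e), fun c => ?_⟩)]
    · rw [Nat.card_prod, Nat.card_zmod]
    · have h0 : π (c : ↥S) = 0 := congrArg Multiplicative.toAdd c.2
      obtain ⟨k, hk⟩ := D.vv_surj (Ctx.co_zero D (h0 ▸ hπ (c : ↥S)))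
      exact ⟨k, Subtype.ext (Subtype.ext hk.symm)⟩
  let F := {x : M4 // act σ x = x}
  have hrange : Nat.card φ.range = Nat.card (F × F) := by
    refine Nat.card_congr
      { toFun := fun p => (⟨(Multiplicative.toAdd (p : Multiplicative (M4 × M4))).1, ?_⟩,
          ⟨(Multiplicative.toAdd (p : Multiplicative (M4 × M4))).2, ?_⟩)
        invFun := fun p => ⟨Multiplicative.ofAdd ((p.1 : M4), (p.2 : M4)), ?_⟩
        left_inv := fun p => rfl
        right_inv := fun p => rfl }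
    · obtain ⟨c, hc⟩ := p.2
      rw [← hc]
      exact congrArg Prod.fst (W.fixed_of_comm (hπ c) (W.mem_S_iff.mp c.2).2.1)
    · obtain ⟨c, hc⟩ := p.2
      rw [← hc]
      exact congrArg Prod.snd (W.fixed_of_comm (hπ c) (W.mem_S_iff.mp c.2).2.1)
    · obtain ⟨c, hc⟩ := Ctx.co_surj D ((p.1 : M4), (p.2 : M4))
      have hmem := W.S_mk hc (Prod.ext p.1.2 p.2.2)
      exact ⟨⟨c, hmem⟩, congrArg Multiplicative.ofAdd (Ctx.co_unique D (hπ ⟨c, hmem⟩) hc)⟩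
  have hF : Nat.card F = 4 := by
    rw [Nat.card_eq_fintype_card, Fintype.card_subtype]
    exact fixed_card σ hσ3 hσ1
  rw [← Subgroup.card_mul_index φ.ker, Subgroup.index_ker, hker, hrange, Nat.card_prod, hF]

theorem cardCV : Nat.card ↥(centralizer ({z} : Set G) ⊓ centralizer (V : Set G)) = 256 := by
  rw [card_split (A := V)
    (S := centralizer ({z} : Set G) ⊓ centralizer ({y} : Set G) ⊓ centralizer (V : Set G))
    (fun g hg => W.mem_C_iff.mpr ⟨(SuzTypeCoord62.mem_Sx.mp (W.le_Sx hg)).1, W.abel g hg⟩)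
    (fun c hc => W.mem_C_iff.mpr ⟨(W.mem_S_iff.mp hc).1, (W.mem_S_iff.mp hc).2.2⟩)
    W.split (fun g hg hgS => W.fpf g hg (W.mem_S_iff.mp hgS).2.1.symm), W.card, W.cardS]

end VData

/-- A candidate for the four group: intrinsic in `z`, `t`, `y`. -/
def Cand (z t y : G) (V : Subgroup G) : Prop :=
  Nat.card V = 4 ∧ (∀ v ∈ V, v * v = 1) ∧ V ≤ Sx z t ∧ (∀ v ∈ V, y * v * y⁻¹ ∈ V) ∧
    (∀ v ∈ V, y * v = v * y → v = 1) ∧
    (∀ s ∈ Sx z t, s * y = y * s → s ^ 8 = 1 → ∀ v ∈ V, s * v = v * s)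

namespace Cand

variable {z t y : G} {V : Subgroup G} (C : Cand z t y V)
include C

theorem card : Nat.card V = 4 := C.1

theorem sq : ∀ v ∈ V, v * v = 1 := C.2.1

theorem le : V ≤ Sx z t := C.2.2.1

theorem norm : ∀ v ∈ V, y * v * y⁻¹ ∈ V := C.2.2.2.1

theorem fpf : ∀ v ∈ V, y * v = v * y → v = 1 := C.2.2.2.2.1

theorem S_comm : ∀ s ∈ Sx z t, s * y = y * s → s ^ 8 = 1 → ∀ v ∈ V, s * v = v * s := C.2.2.2.2.2

theorem comm : ∀ g ∈ V, ∀ h ∈ V, g * h = h * g := by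
  intro g hg h hh
  have hi : ∀ {x}, x ∈ V → x⁻¹ = x := fun hx => inv_eq_of_mul_eq_one_right (C.sq _ hx)
  calc g * h = (g * h)⁻¹ := (hi (mul_mem hg hh)).symm
    _ = h * g := by rw [mul_inv_rev, hi hg, hi hh]

theorem inv (hy3 : y ^ 3 = 1) : Cand z t y⁻¹ V := by
  refine ⟨C.card, C.sq, C.le, fun v hv => ?_, fun v hv h => C.fpf v hv ?_,
    fun s hs hsy => C.S_comm s hs ?_⟩
  · have e : y⁻¹ = y * y := inv_eq_of_mul_eq_one_right (by rw [← hy3, pow_three])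
    rw [e, show y * y * v * (y * y)⁻¹ = y * (y * v * y⁻¹) * y⁻¹ by group]
    exact C.norm _ (C.norm v hv)
  · have := (show Commute y⁻¹ v from h).inv_left
    rwa [inv_inv] at this
  · have := (show Commute s y⁻¹ from hsy).inv_right
    rwa [inv_inv] at this

theorem orbit (hy3 : y ^ 3 = 1) {v : G} (hv : v ∈ V) :
    v * (y * v * y⁻¹) * (y * (y * v * y⁻¹) * y⁻¹) = 1 := by
  set v1 := y * v * y⁻¹ with hv1d
  set v2 := y * v1 * y⁻¹ with hv2d
  have h1 : v1 ∈ V := C.norm v hv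
  have h2 : v2 ∈ V := C.norm v1 h1
  have e3 : y * v2 * y⁻¹ = v := by
    have h3 : y * y * y = 1 := by rw [← hy3, pow_succ, pow_two]
    rw [hv2d, hv1d, show y * (y * (y * v * y⁻¹) * y⁻¹) * y⁻¹ = y * y * y * v * (y * y * y)⁻¹ by
      group, h3, one_mul, inv_one, mul_one]
  refine C.fpf _ (mul_mem (mul_mem hv h1) h2) (mul_inv_eq_iff_eq_mul.mp ?_)
  calc y * (v * v1 * v2) * y⁻¹ = (y * v * y⁻¹) * (y * v1 * y⁻¹) * (y * v2 * y⁻¹) := by group
    _ = v1 * v2 * v := by rw [e3]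
    _ = v * v1 * v2 := (C.comm _ (mul_mem h1 h2) _ hv).trans (mul_assoc v v1 v2).symm

end Cand

section Ctxs

variable {Q Q' : Subgroup G} {z t y : G} {ν : G → M4} {d : G}
  {ρ : ↥(Sx z t) →* Equiv.Perm (Fin 5)} (D : SuzTypeRadical62.Ctx Q Q' z t ν d ρ)
include D

theorem cand_of_data {σ : Equiv.Perm (Fin 5)} {a : M4} {V : Subgroup G} {v v1 : G}
    (W : VData D y σ a V v v1) : Cand z t y V :=
  ⟨W.card, W.sq, W.le_Sx, W.norm, W.fpf, fun _ hs hsy hs8 =>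
    (W.mem_S_iff.mp (W.S_comm hs hsy hs8)).2.2⟩

theorem data_of_coord {V : Subgroup G} (C : Cand z t y V) (hyS : y ∈ Sx z t) (hy3 : y ^ 3 = 1)
    (hy1 : y ≠ 1) {σ : Equiv.Perm (Fin 5)} (hσ : ρ ⟨y, hyS⟩ = σ) {v : G} (hv : v ∈ V)
    {a : M4} (ha : Mov σ a) (ha' : Mov σ (act σ a)) (hco : Ctx.Co D v (a, act σ a)) :
    VData D y σ a V v (y * v * y⁻¹) := by
  obtain ⟨hσ3, hσ1⟩ : σ ^ 3 = 1 ∧ σ ≠ 1 := hσ ▸ sigma_props D hyS hy3 hy1
  obtain ⟨-, hne1, -, hne0, -⟩ := mov_twice σ hσ3 hσ1 a ha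
  have hco1 : Ctx.Co D (y * v * y⁻¹) (act2 σ (a, act σ a)) := by
    have h := Ctx.co_conj D (c := ⟨y, hyS⟩) hco
    rw [hσ] at h
    exact h
  change Ctx.Co D _ (act σ a, act σ (act σ a)) at hco1
  set v1 := y * v * y⁻¹ with hv1d
  have h1 : v1 ∈ V := C.norm v hv
  have horb := C.orbit hy3 hv
  rw [← hv1d] at horb
  have hc2 : y * v1 * y⁻¹ = v * v1 := by
    rw [← inv_eq_of_mul_eq_one_right horb]
    exact inv_eq_of_mul_eq_one_right (C.sq _ (mul_mem hv h1))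
  have h0 : ∀ {p}, Ctx.Co D 1 p → p = 0 := fun h =>
    Ctx.co_unique D h (Ctx.co_V D (one_mem _))
  have nv : v ≠ 1 := fun e => ha.1 (congrArg Prod.fst (h0 (e ▸ hco)))
  have nv1 : v1 ≠ 1 := fun e => hne0 (congrArg Prod.fst (h0 (e ▸ hco1)))
  have nvv1 : v ≠ v1 := fun e => hne1 (congrArg Prod.fst (Ctx.co_unique D hco1 (e ▸ hco)))
  have nv3 : v * v1 ≠ 1 := fun e => nvv1
    ((inv_eq_of_mul_eq_one_right e).symm.trans (inv_eq_of_mul_eq_one_right (C.sq v hv))).symm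
  have hset : (V : Set G) = ({1, v, v1, v * v1} : Set G) := by
    refine (Set.eq_of_subset_of_ncard_le ?_ ?_ (Set.toFinite _)).symm
    · rintro g (rfl | rfl | rfl | rfl)
      exacts [one_mem _, hv, h1, mul_mem hv h1]
    · have c1 : (1 : G) ∉ ({v, v1, v * v1} : Set G) := by simp [nv.symm, nv1.symm, nv3.symm]
      have c2 : v ∉ ({v1, v * v1} : Set G) := by simp [nvv1, nv1]
      have c3 : v1 ≠ v * v1 := fun e => nv (mul_eq_right.mp e.symm)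
      rw [Set.ncard_insert_of_notMem c1, Set.ncard_insert_of_notMem c2, Set.ncard_pair c3,
        ← Nat.card_coe_set_eq]
      exact C.card.le
  refine ⟨hyS, hy3, hy1, hσ, ha, ha', fun g => ?_, hco, hco1, rfl, hc2, ?_, C.sq v hv,
    C.sq v1 h1, C.sq _ (mul_mem hv h1), C.comm v hv v1 h1⟩
  · rw [← SetLike.mem_coe, hset]
    simp
  · rw [← hc2, hv1d, show y * (y * (y * v * y⁻¹) * y⁻¹) * y⁻¹ = y ^ 3 * v * (y ^ 3)⁻¹ by
      simp only [pow_succ, pow_zero, one_mul]; group, hy3]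
    group

theorem cand_data {V : Subgroup G} (C : Cand z t y V) (hyS : y ∈ Sx z t) (hy3 : y ^ 3 = 1)
    (hy1 : y ≠ 1) : ∃ a v v1, VData D y (ρ ⟨y, hyS⟩) a V v v1 ∨
      VData D y⁻¹ (ρ ⟨y⁻¹, inv_mem hyS⟩) a V v v1 := by
  set σ := ρ ⟨y, hyS⟩ with hσ
  obtain ⟨hσ3, hσ1⟩ : σ ^ 3 = 1 ∧ σ ≠ 1 := sigma_props D hyS hy3 hy1
  have : Nontrivial V := Finite.one_lt_card_iff_nontrivial.1 (by rw [C.card]; norm_num)
  obtain ⟨⟨v, hv⟩, hv1'⟩ := exists_ne (1 : V)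
  have hvne : v ≠ 1 := fun e => hv1' (Subtype.ext e)
  have hvS := C.le hv
  have hτ : ρ ⟨v, hvS⟩ = 1 := by
    refine cand_tau σ hσ3 hσ1 _ ?_ (D.sign_rho _) fun x hx => ?_
    · rw [← map_mul, show (⟨v, hvS⟩ : ↥(Sx z t)) * ⟨v, hvS⟩ = 1 from Subtype.ext (C.sq v hv),
        map_one]
    · obtain ⟨r, hr⟩ := Ctx.co_surj D (x, 0)
      have hrR := Ctx.co_mem D hr
      have hfx : act2 σ (x, 0) = (x, 0) := Prod.ext hx (act_zero_aux σ)
      have hry := Ctx.co_fixed D (c := ⟨y, hyS⟩) hy3 hr hfx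
      have h8 : r ^ 8 = 1 := by
        rw [show 8 = 4 * 2 from rfl, pow_mul, D.P.R_pow hrR, one_pow]
      have hc := C.S_comm r (D.R_le_Sx hrR) hry.symm h8 v hv
      have h' := Ctx.co_conj D (c := ⟨v, hvS⟩) hr
      have e : v * r * v⁻¹ = r := by rw [← hc, mul_inv_cancel_right]
      exact congrArg Prod.fst (Ctx.co_unique D (e ▸ h') hr)
  obtain ⟨⟨a, b⟩, hab⟩ := Ctx.co_exists D (D.rho_R.mp hτ)
  have hab1 : Ctx.Co D (y * v * y⁻¹) (act2 σ (a, b)) := by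
    have h := Ctx.co_conj D (c := ⟨y, hyS⟩) hab
    rw [← hσ] at h
    exact h
  have hab2 : Ctx.Co D (y * (y * v * y⁻¹) * y⁻¹) (act2 σ (act2 σ (a, b))) := by
    have h := Ctx.co_conj D (c := ⟨y, hyS⟩) hab1
    rw [← hσ] at h
    exact h
  have hsum := Ctx.co_unique D
    ((C.orbit hy3 hv) ▸ Ctx.co_mul D (Ctx.co_mul D hab hab1) hab2) (Ctx.co_V D (one_mem _))
  have hne : (a, b) ≠ ((0, 0) : M4 × M4) := by
    intro e
    rw [e] at hab
    have hfx : act2 (ρ ⟨y, hyS⟩) ((0, 0) : M4 × M4) = (0, 0) := by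
      unfold act2
      rw [act_zero_aux]
    exact hvne (C.fpf v hv (Ctx.co_fixed D (c := ⟨y, hyS⟩) hy3 hab hfx))
  have hsq : sq2 (a, b) = 0 := by
    apply D.vv_inj
    rw [← Ctx.co_sq D hab, C.sq v hv, vv_zero]
  obtain ⟨ha, ha', hb⟩ := cand_cls σ hσ3 hσ1 a b hne (congrArg Prod.fst hsum)
    (congrArg Prod.snd hsum) hsq
  rcases hb with rfl | ⟨rfl, hb, hb'⟩
  · exact ⟨a, v, _, Or.inl (data_of_coord D C hyS hy3 hy1 rfl hv ha ha' hab)⟩
  · have hσi : ρ ⟨y⁻¹, inv_mem hyS⟩ = σ * σ := by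
      rw [hσ, ← map_mul]
      refine congrArg ρ (Subtype.ext ?_)
      exact inv_eq_of_mul_eq_one_right (by rw [← hy3, pow_three]; rfl)
    refine ⟨a, v, y⁻¹ * v * y⁻¹⁻¹, Or.inr ?_⟩
    rw [hσi]
    exact data_of_coord D (C.inv hy3) (inv_mem hyS) (by rw [inv_pow, hy3, inv_one])
      (inv_ne_one.mpr hy1) hσi hv hb hb' hab

theorem data_eq {σ : Equiv.Perm (Fin 5)} {a b : M4} {V V' : Subgroup G} {v v1 w w1 : G}
    (W : VData D y σ a V v v1) (W' : VData D y σ b V' w w1) : V = V' := by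
  obtain ⟨hσ3, hσ1⟩ := W.sigma
  obtain ⟨g, hg, hgco⟩ : ∃ g ∈ V, Ctx.Co D g (b, act σ b) := by
    rcases cand_orbit σ hσ3 hσ1 a b W.ha W'.ha with rfl | rfl | rfl
    · exact ⟨v, W.v_mem, W.hv⟩
    · exact ⟨v1, W.v1_mem, W.hv1⟩
    · exact ⟨v * v1, mul_mem W.v_mem W.v1_mem, by rw [act_add]; exact W.co3⟩
  have C := cand_of_data D W
  have C' := cand_of_data D W'
  set u := g⁻¹ * w with hu
  obtain ⟨p, hp⟩ := Ctx.co_exists D
    (mul_mem (inv_mem (Ctx.co_mem D hgco)) (Ctx.co_mem D W'.hv) : u ∈ D.P.R)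
  have hp0 : p = 0 := by
    have e := Ctx.co_mul D hgco hp
    rw [mul_inv_cancel_left] at e
    simpa using Ctx.co_unique D e W'.hv
  have huV : u ∈ D.P.V := Ctx.co_zero D (hp0 ▸ hp)
  have huy : Commute y u := by
    obtain ⟨k, hk⟩ := D.vv_surj huV
    rw [hk]
    exact D.vv_comm_Sx k W.hyS
  have hcR : ∀ x ∈ D.P.R, x * u = u * x := fun x hx => D.P.V_comm hx huV
  have huu : u * u = 1 := (D.H.U_inv D.sing (D.inU_iff.mpr huV)).1
  have hw : w = g * u := by rw [hu, mul_inv_cancel_left]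
  have h' := C'.orbit W.hy3 W'.v_mem
  have h := C.orbit W.hy3 hg
  have hg1 := W.le_R _ (C.norm g hg)
  have hg2 := W.le_R _ (C.norm _ (C.norm g hg))
  have hw1 : y * w * y⁻¹ = y * g * y⁻¹ * u := by
    rw [hw, show y * (g * u) * y⁻¹ = y * g * y⁻¹ * (y * u * y⁻¹) by group, huy.eq,
      mul_inv_cancel_right]
  have hw2 : y * (y * w * y⁻¹) * y⁻¹ = y * (y * g * y⁻¹) * y⁻¹ * u := by
    rw [hw1, show y * (y * g * y⁻¹ * u) * y⁻¹ = y * (y * g * y⁻¹) * y⁻¹ * (y * u * y⁻¹) by group,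
      huy.eq, mul_inv_cancel_right]
  set g1 := y * g * y⁻¹ with hg1d
  set g2 := y * g1 * y⁻¹ with hg2d
  have hu1 : u = 1 := by
    rw [hw2, hw1, hw] at h'
    calc u = g * g1 * g2 * (u * u * u) := by rw [h, one_mul, huu, one_mul]
      _ = g * (g1 * u) * (g2 * u) * u := by
          rw [show g * (g1 * u) * (g2 * u) * u = g * g1 * (u * g2) * (u * u) by group,
            ← hcR g2 hg2]
          group
      _ = g * (u * g1) * (g2 * u) * u := by rw [hcR g1 hg1]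
      _ = g * u * g1 * (u * g2) * u := by
          rw [← hcR g2 hg2]; group
      _ = g * u * (g1 * u) * (g2 * u) := by
          rw [show g * u * g1 * (u * g2) * u = g * u * (g1 * u) * (g2 * u) by group]
      _ = 1 := h'
  have hwV : w ∈ V := by rw [hw, hu1, mul_one]; exact hg
  refine (Subgroup.eq_of_le_of_card_ge ?_ (by rw [W.card, W'.card])).symm
  have hw1V : w1 ∈ V := by rw [← W'.conj0]; exact W.norm w hwV
  intro x hx
  rcases (W'.memV x).mp hx with rfl | rfl | rfl | rfl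
  exacts [one_mem _, hwV, hw1V, mul_mem hwV hw1V]

end Ctxs

section Yds

variable {Q : Subgroup G} {z y t : G}

theorem centralizer_inv (y : G) :
    centralizer ({y⁻¹} : Set G) = centralizer ({y} : Set G) := by
  ext g
  rw [mem_centralizer_singleton_iff, mem_centralizer_singleton_iff]
  exact ⟨fun h => by simpa using (show Commute g y⁻¹ from h).inv_right.eq,
    fun h => (show Commute g y from h).inv_right.eq⟩

theorem exists_setup (Y : SuzY42Setup.Yd Q z y) (ht : Sing Q z t) :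
    ∃ (Q' : Subgroup G) (ν : G → M4) (d : G) (ρ : ↥(Sx z t) →* Equiv.Perm (Fin 5)),
      SuzTypeRadical62.Ctx Q Q' z t ν d ρ := by
  obtain ⟨g, rfl⟩ := Y.exists_conj ht
  obtain ⟨ν, d, ρ, D⟩ := SuzTypeRadical62.exists_ctx Y.H (g := g) ht.1 ht.2.2.2
  exact ⟨_, ν, d, ρ, D⟩

theorem cand_cases (Y : SuzY42Setup.Yd Q z y) (ht : Sing Q z t) (hyt : y * t = t * y)
    {P : Subgroup G → Prop} {V : Subgroup G} (C : Cand z t y V)
    (h : ∀ (Q' : Subgroup G) (ν : G → M4) (d : G) (ρ : ↥(Sx z t) →* Equiv.Perm (Fin 5))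
      (D : SuzTypeRadical62.Ctx Q Q' z t ν d ρ) (y' : G) (σ : Equiv.Perm (Fin 5)) (a : M4)
      (v v1 : G), (y' = y ∨ y' = y⁻¹) → VData D y' σ a V v v1 → P V) : P V := by
  obtain ⟨Q', ν, d, ρ, D⟩ := exists_setup Y ht
  obtain ⟨a, v, v1, W | W⟩ := cand_data D C (Y.mem_Sx hyt) Y.y3 Y.y1
  exacts [h Q' ν d ρ D y _ a v v1 (Or.inl rfl) W, h Q' ν d ρ D y⁻¹ _ a v v1 (Or.inr rfl) W]

theorem exists_cand (Y : SuzY42Setup.Yd Q z y) (ht : Sing Q z t) (hyt : y * t = t * y) :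
    ∃ V, Cand z t y V := by
  obtain ⟨Q', ν, d, ρ, D⟩ := exists_setup Y ht
  obtain ⟨a, V, v, v1, W⟩ := exists_data D (Y.mem_Sx hyt) Y.y3 Y.y1
  exact ⟨V, cand_of_data D W⟩

theorem exists_two (Y : SuzY42Setup.Yd Q z y) (ht : Sing Q z t) (hyt : y * t = t * y) :
    ∃ V V', Cand z t y V ∧ Cand z t y V' ∧ V ≠ V' := by
  obtain ⟨Q', ν, d, ρ, D⟩ := exists_setup Y ht
  obtain ⟨a, V, v, v1, W⟩ := exists_data D (Y.mem_Sx hyt) Y.y3 Y.y1
  have hy3' : y⁻¹ ^ 3 = 1 := by rw [inv_pow, Y.y3, inv_one]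
  obtain ⟨b, V', w, w1, W'⟩ :=
    exists_data D (inv_mem (Y.mem_Sx hyt)) hy3' (inv_ne_one.mpr Y.y1)
  have C' := (cand_of_data D W').inv hy3'
  rw [inv_inv] at C'
  refine ⟨V, V', cand_of_data D W, C', fun e => ?_⟩
  subst e
  set σ := ρ ⟨y, Y.mem_Sx hyt⟩ with hσ
  have hσ' : ρ ⟨y⁻¹, inv_mem (Y.mem_Sx hyt)⟩ = σ⁻¹ := by
    rw [hσ, ← map_inv]
    rfl
  obtain ⟨hσ3, hσ1⟩ := W.sigma
  have hg : ∀ g ∈ V, g ≠ 1 → ∃ x, Ctx.Co D g (x, act σ x) := by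
    intro g hg hg1
    rcases (W.memV g).mp hg with rfl | rfl | rfl | rfl
    · exact absurd rfl hg1
    · exact ⟨_, W.hv⟩
    · exact ⟨_, W.hv1⟩
    · exact ⟨a + act σ a, by rw [act_add]; exact W.co3⟩
  obtain ⟨x, hx⟩ := hg w W'.v_mem W'.ne.1
  have e := Ctx.co_unique D hx W'.hv
  have e1 : x = b := congrArg Prod.fst e
  have e2 : act σ x = act (ρ ⟨y⁻¹, inv_mem (Y.mem_Sx hyt)⟩) b := congrArg Prod.snd e
  rw [e1, hσ'] at e2
  obtain ⟨hb3, hb1⟩ := W'.sigma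
  obtain ⟨-, -, hne2, -⟩ := mov_twice _ hb3 hb1 b W'.ha
  apply hne2
  rw [hσ', ← e2, ← act_mul, inv_mul_cancel, act_one]

/-- Among any three candidates two are equal. -/
theorem cand_two (Y : SuzY42Setup.Yd Q z y) (ht : Sing Q z t) (hyt : y * t = t * y)
    {V₁ V₂ V₃ : Subgroup G} (C₁ : Cand z t y V₁) (C₂ : Cand z t y V₂) (C₃ : Cand z t y V₃) :
    V₁ = V₂ ∨ V₁ = V₃ ∨ V₂ = V₃ := by
  obtain ⟨Q', ν, d, ρ, D⟩ := exists_setup Y ht
  obtain ⟨a₁, v₁, w₁, W₁ | W₁⟩ := cand_data D C₁ (Y.mem_Sx hyt) Y.y3 Y.y1 <;>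
    obtain ⟨a₂, v₂, w₂, W₂ | W₂⟩ := cand_data D C₂ (Y.mem_Sx hyt) Y.y3 Y.y1 <;>
      obtain ⟨a₃, v₃, w₃, W₃ | W₃⟩ := cand_data D C₃ (Y.mem_Sx hyt) Y.y3 Y.y1
  all_goals
    first
      | exact Or.inl (data_eq D W₁ W₂)
      | exact Or.inr (Or.inl (data_eq D W₁ W₃))
      | exact Or.inr (Or.inr (data_eq D W₂ W₃))

theorem Cand.meet_Q (Y : SuzY42Setup.Yd Q z y) (ht : Sing Q z t) (hyt : y * t = t * y)
    {V : Subgroup G} (C : Cand z t y V) : V ⊓ Q = ⊥ := by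
  refine cand_cases Y ht hyt C (P := fun V => V ⊓ Q = ⊥) ?_
  intro Q' ν d ρ D y' σ a v v1 hy' W
  rw [eq_bot_iff]
  exact fun g hg => W.meet_Q g hg.1 hg.2

theorem Cand.cent_le (Y : SuzY42Setup.Yd Q z y) (ht : Sing Q z t) (hyt : y * t = t * y)
    {V : Subgroup G} (C : Cand z t y V) :
    centralizer ({z} : Set G) ⊓ centralizer (V : Set G) ≤ Sx z t := by
  refine cand_cases Y ht hyt C
    (P := fun V => centralizer ({z} : Set G) ⊓ centralizer (V : Set G) ≤ Sx z t) ?_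
  intro Q' ν d ρ D y' σ a v v1 hy' W
  exact W.cent_t

theorem cent_zyV (Y : SuzY42Setup.Yd Q z y) (ht : Sing Q z t) (hyt : y * t = t * y)
    {V : Subgroup G} (C : Cand z t y V) :
    Nat.card ↥(centralizer ({z} : Set G) ⊓ centralizer ({y} : Set G)
      ⊓ centralizer (V : Set G)) = 64 := by
  refine cand_cases Y ht hyt C (P := fun V => Nat.card ↥(centralizer ({z} : Set G)
    ⊓ centralizer ({y} : Set G) ⊓ centralizer (V : Set G)) = 64) ?_
  intro Q' ν d ρ D y' σ a v v1 hy' W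
  rcases hy' with rfl | rfl
  · exact W.cardS
  · exact centralizer_inv y ▸ W.cardS

theorem cent_zV (Y : SuzY42Setup.Yd Q z y) (ht : Sing Q z t) (hyt : y * t = t * y)
    {V : Subgroup G} (C : Cand z t y V) :
    Nat.card ↥(centralizer ({z} : Set G) ⊓ centralizer (V : Set G)) = 256 := by
  refine cand_cases Y ht hyt C
    (P := fun V => Nat.card ↥(centralizer ({z} : Set G) ⊓ centralizer (V : Set G)) = 256) ?_
  intro Q' ν d ρ D y' σ a v v1 hy' W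
  exact W.cardCV

/-- `C(z) ∩ C(V) = V S`. -/
theorem cent_zV_split (Y : SuzY42Setup.Yd Q z y) (ht : Sing Q z t) (hyt : y * t = t * y)
    {V : Subgroup G} (C : Cand z t y V) {c : G}
    (hc : c ∈ centralizer ({z} : Set G) ⊓ centralizer (V : Set G)) :
    ∃ v ∈ V, ∃ s ∈ centralizer ({z} : Set G) ⊓ centralizer ({y} : Set G)
      ⊓ centralizer (V : Set G), c = v * s := by
  revert c
  refine cand_cases Y ht hyt C (P := fun V => ∀ {c : G},
    c ∈ centralizer ({z} : Set G) ⊓ centralizer (V : Set G) →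
    ∃ v ∈ V, ∃ s ∈ centralizer ({z} : Set G) ⊓ centralizer ({y} : Set G)
      ⊓ centralizer (V : Set G), c = v * s) ?_
  intro Q' ν d ρ D y' σ a v v1 hy' W c hc
  rcases hy' with rfl | rfl
  · exact W.split c hc
  · exact centralizer_inv y ▸ W.split c hc

end Yds

end Cfsg.Agent.SuzVLocal48
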