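import Mathlib
import Cfsg.Agent.Lib.SuzVLocal48
import Cfsg.Agent.Lib.SuzLFour96
import Cfsg.Agent.Lib.SuzLNorm76
import Cfsg.Agent.Lib.SuzLChart29
import Cfsg.Agent.Lib.L34Syl83Core29
import Cfsg.Agent.Lib.CNFactsPSL34_57

/-!
# The subgroup `L₃(4)` centralised by a four group and a three-element

In a group of Suzuki sporadic type, the centraliser of a four group `V` and of the three-element `y`
acting on it is `PSL₃(4)`.
-/

set_option autoImplicit false
set_option linter.style.haveILetI false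

namespace Cfsg.Agent.SuzLRecog29

open Subgroup Cfsg.Agent.LargeExtraspecial Cfsg.Agent.SuzTypeCoord62
open Cfsg.Agent.SuzVLocal48 Cfsg.Agent.FieldFour15

universe u

variable {G : Type u} [Group G]

/-- `C(V) ∩ C(y)`. -/
abbrev Lsub (V : Subgroup G) (y : G) : Subgroup G :=
  centralizer (V : Set G) ⊓ centralizer ({y} : Set G)

theorem mem_Lsub {V : Subgroup G} {y c : G} :
    c ∈ Lsub V y ↔ (∀ v ∈ V, v * c = c * v) ∧ c * y = y * c := by
  rw [mem_inf, mem_centralizer_singleton_iff, mem_centralizer_iff]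
  rfl

theorem mem_cent_Lsub {V : Subgroup G} {a y c : G} :
    c ∈ centralizer ({a} : Set G) ⊓ Lsub V y ↔
      c * a = a * c ∧ (∀ v ∈ V, v * c = c * v) ∧ c * y = y * c := by
  rw [mem_inf, mem_centralizer_singleton_iff, mem_Lsub]

/-- Conjugation by an element of `C(y)` respects candidates. -/
theorem cand_map {z t z' t' y : G} {V : Subgroup G} (hV : Cand z t y V) {g : G}
    (hgy : g * y = y * g) (hS : ∀ c, c ∈ Sx z' t' ↔ g⁻¹ * c * g ∈ Sx z t) :
    Cand z' t' y (V.map (MulAut.conj g).toMonoidHom) := by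
  obtain ⟨h1, h2, h3, h4, h5, h6⟩ := hV
  have hgy' : Commute g y := hgy
  refine ⟨by rw [Subgroup.card_map_of_injective (f := (MulAut.conj g).toMonoidHom)
    (MulAut.conj g).injective, h1], ?_, ?_, ?_, ?_, ?_⟩
  · rintro _ ⟨v, hv, rfl⟩
    rw [← map_mul, h2 v hv, map_one]
  · rintro _ ⟨v, hv, rfl⟩
    exact (hS _).2 (by simpa [mul_assoc] using h3 hv)
  · rintro _ ⟨v, hv, rfl⟩
    refine ⟨y * v * y⁻¹, h4 v hv, ?_⟩
    show g * (y * v * y⁻¹) * g⁻¹ = y * (g * v * g⁻¹) * y⁻¹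
    calc g * (y * v * y⁻¹) * g⁻¹ = (g * y) * v * (g * y)⁻¹ := by group
      _ = (y * g) * v * (y * g)⁻¹ := by rw [hgy]
      _ = _ := by group
  · rintro _ ⟨v, hv, rfl⟩ e
    simp only [MulEquiv.coe_toMonoidHom, MulAut.conj_apply] at e ⊢
    rw [h5 v hv ?_, mul_one, mul_inv_cancel]
    have e' : Commute y (g * v * g⁻¹) := e
    have := ((hgy'.inv_left.symm.mul_right e').mul_right hgy'.symm).eq
    simpa [mul_assoc] using this
  · intro s hs hsy hs8 w hw
    obtain ⟨v, hv, rfl⟩ := hw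
    simp only [MulEquiv.coe_toMonoidHom, MulAut.conj_apply]
    have hsy' : (g⁻¹ * s * g) * y = y * (g⁻¹ * s * g) :=
      ((hgy'.inv_left.mul_left (show Commute s y from hsy)).mul_left hgy').eq
    have := h6 _ ((hS s).1 hs) hsy'
      (by rw [show g⁻¹ * s * g = g⁻¹ * s * g⁻¹⁻¹ by group, conj_pow, hs8]; group) v hv
    calc s * (g * v * g⁻¹) = g * (g⁻¹ * s * g * v) * g⁻¹ := by group
      _ = g * (v * (g⁻¹ * s * g)) * g⁻¹ := by rw [this]
      _ = g * v * g⁻¹ * s := by group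

/-- A four group on which `y` acts fixed-point-freely has the same centraliser with `y` as each of
its involutions. -/
theorem Lsub_eq {z t y : G} {V : Subgroup G} (hV : Cand z t y V) {v : G} (hv : v ∈ V)
    (hv1 : v ≠ 1) : Lsub V y = centralizer ({v} : Set G) ⊓ centralizer ({y} : Set G) := by
  obtain ⟨h1, h2, -, h4, h5, -⟩ := hV
  ext c
  rw [mem_Lsub, mem_inf, mem_centralizer_singleton_iff, mem_centralizer_singleton_iff]
  refine ⟨fun ⟨a, b⟩ => ⟨(a v hv).symm, b⟩, fun ⟨a, b⟩ => ⟨fun w hw => ?_, b⟩⟩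
  set v' := y * v * y⁻¹ with hv'
  have d1 : v' ≠ v := fun e => hv1 (h5 v hv (mul_inv_eq_iff_eq_mul.1 e))
  have d2 : v' ≠ 1 := fun e => hv1 (conj_eq_one_iff.1 e)
  have d3 : v * v' ≠ 1 := fun e => d1 (mul_left_cancel (a := v) (e.trans (h2 v hv).symm))
  have hall : ({1, v, v', v * v'} : Set G) = (V : Set G) := by
    haveI : Finite V := Nat.finite_of_card_ne_zero (by omega)
    refine Set.eq_of_subset_of_ncard_le ?_ ?_ (Set.toFinite _)
    · rintro a (rfl | rfl | rfl | rfl)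
      exacts [one_mem V, hv, h4 v hv, mul_mem hv (h4 v hv)]
    · have c1 : (1 : G) ∉ ({v, v', v * v'} : Set G) := by simp [hv1.symm, d2.symm, d3.symm]
      have c2 : v ∉ ({v', v * v'} : Set G) := by simp [d1.symm, d2]
      have c3 : v' ∉ ({v * v'} : Set G) := by simp [hv1]
      rw [Set.ncard_insert_of_notMem c1, Set.ncard_insert_of_notMem c2,
        Set.ncard_insert_of_notMem c3, Set.ncard_singleton, ← Nat.card_coe_set_eq]
      exact le_of_eq h1
  have hc : Commute v c := (show Commute c v from a).symm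
  have hy : Commute y c := (show Commute c y from b).symm
  have hc' : Commute v' c := (hy.mul_left hc).mul_left hy.inv_left
  rw [← SetLike.mem_coe, ← hall] at hw
  rcases hw with rfl | rfl | rfl | rfl
  exacts [(Commute.one_left c).eq, hc.eq, hc'.eq, (hc.mul_left hc').eq]

theorem Sx_mul {z t : G} (hz : z * z = 1) : Sx z (z * t) = Sx z t := by
  ext c
  rw [mem_Sx, mem_Sx]
  constructor
  · rintro ⟨h1, h2⟩
    refine ⟨h1, ?_⟩
    have := ((show Commute c z from h1).mul_right (show Commute c (z * t) from h2)).eq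
    rwa [← mul_assoc z z t, hz, one_mul] at this
  · rintro ⟨h1, h2⟩
    exact ⟨h1, ((show Commute c z from h1).mul_right h2).eq⟩

variable [Finite G]

/-- Counting cosets by an invariant. -/
theorem card_le_fibre {α : Type*} {K H : Subgroup G} (hHK : H ≤ K) (f : G → α) (s : Set α)
    (hs : s.Finite) (hmem : ∀ g ∈ K, f g ∈ s)
    (hf : ∀ g ∈ K, ∀ g' ∈ K, f g = f g' → g⁻¹ * g' ∈ H) :
    Nat.card K ≤ s.ncard * Nat.card H := by
  haveI := hs.to_subtype
  have hinj : Function.Injective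
      (fun q : ↥K ⧸ H.subgroupOf K => (⟨f (q.out : G), hmem _ q.out.2⟩ : s)) := by
    intro q q' e
    have h := hf _ q.out.2 _ q'.out.2 (congrArg Subtype.val e)
    rw [← QuotientGroup.out_eq' q, ← QuotientGroup.out_eq' q', QuotientGroup.eq]
    exact h
  have h1 := Nat.card_le_card_of_injective _ hinj
  rw [Nat.card_coe_set_eq] at h1
  rw [← (H.subgroupOf K).card_mul_index, Nat.card_congr (subgroupOfEquivOfLe hHK).toEquiv,
    mul_comm]
  exact Nat.mul_le_mul_right _ h1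

variable {Q : Subgroup G} {z y t : G} (Y : SuzY42Setup.Yd Q z y) (ht : Sing Q z t)
  (hyt : y * t = t * y) {V : Subgroup G} (hV : Cand z t y V)
include Y ht hyt hV

/-- The centralisers in `L` of the three involutions of `⟨z, t⟩`. -/
theorem card_cent {e : G} (he : InU z t e) (he1 : e ≠ 1) :
    Nat.card ↥(centralizer ({e} : Set G) ⊓ Lsub V y) = 64 := by
  have key : ∀ (t' : G) (V' : Subgroup G), Sing Q z t' → y * t' = t' * y → Cand z t' y V' →
      Nat.card ↥(centralizer ({z} : Set G) ⊓ Lsub V' y) = 64 := by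
    intro t' V' ht' hyt' hV'
    have h := SuzVLocal48.cent_zyV Y ht' hyt' hV'
    rw [inf_assoc] at h
    rwa [Lsub, inf_comm (centralizer (V' : Set G))]
  have hzt : Commute z t := Y.H.zx ht
  have moved : ∀ t', Sing Q z t' → y * t' = t' * y → Sx z t' = Sx z t →
      Nat.card ↥(centralizer ({t'} : Set G) ⊓ Lsub V y) = 64 := by
    intro t' ht' hyt' hS
    obtain ⟨g, hgy, hgz, hgt⟩ := Y.swap ht' hyt'
    have hc : Cand z t' y (V.map (MulAut.conj g).toMonoidHom) := by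
      refine cand_map hV hgy fun c => ?_
      rw [← hS, mem_Sx, mem_Sx]
      constructor
      · rintro ⟨h1, h2⟩
        exact ⟨mul_left_cancel (a := g) (mul_right_cancel (b := g⁻¹) (by
            simp only [mul_assoc, mul_inv_cancel_left] at *
            rw [← hgz] at h2
            simpa [mul_assoc] using h2)),
          mul_left_cancel (a := g) (mul_right_cancel (b := g⁻¹) (by
            rw [← hgt] at h1
            simpa [mul_assoc] using h1))⟩
      · rintro ⟨h1, h2⟩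
        refine ⟨?_, ?_⟩
        · rw [← hgt]
          calc c * (g * t' * g⁻¹) = g * (g⁻¹ * c * g * t') * g⁻¹ := by group
            _ = g * (t' * (g⁻¹ * c * g)) * g⁻¹ := by rw [h2]
            _ = g * t' * g⁻¹ * c := by group
        · rw [← hgz]
          calc c * (g * z * g⁻¹) = g * (g⁻¹ * c * g * z) * g⁻¹ := by group
            _ = g * (z * (g⁻¹ * c * g)) * g⁻¹ := by rw [h1]
            _ = g * z * g⁻¹ * c := by group
    have hgy' : Commute g y := hgy
    have e : centralizer ({z} : Set G) ⊓ Lsub (V.map (MulAut.conj g).toMonoidHom) y =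
        (centralizer ({t'} : Set G) ⊓ Lsub V y).map (MulAut.conj g).toMonoidHom := by
      ext c
      rw [L34Syl83.mem_map_conj, mem_cent_Lsub, mem_cent_Lsub]
      constructor
      · rintro ⟨h1, h2, h3⟩
        refine ⟨?_, fun v hv => ?_,
          ((hgy'.inv_left.mul_left (show Commute c y from h3)).mul_left hgy').eq⟩
        · rw [← hgt] at h1
          calc g⁻¹ * c * g * t' = g⁻¹ * (c * (g * t' * g⁻¹)) * g := by group
            _ = t' * (g⁻¹ * c * g) := by rw [h1]; group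
        · have := h2 _ (mem_map_of_mem _ hv)
          simp only [MulEquiv.coe_toMonoidHom, MulAut.conj_apply] at this
          calc v * (g⁻¹ * c * g) = g⁻¹ * (g * v * g⁻¹ * c) * g := by group
            _ = g⁻¹ * c * g * v := by rw [this]; group
      · rintro ⟨h1, h2, h3⟩
        refine ⟨?_, ?_, ?_⟩
        · rw [← hgt]
          calc c * (g * t' * g⁻¹) = g * (g⁻¹ * c * g * t') * g⁻¹ := by group
            _ = g * t' * g⁻¹ * c := by rw [h1]; group
        · rintro _ ⟨v, hv, rfl⟩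
          simp only [MulEquiv.coe_toMonoidHom, MulAut.conj_apply]
          calc g * v * g⁻¹ * c = g * (v * (g⁻¹ * c * g)) * g⁻¹ := by group
            _ = c * (g * v * g⁻¹) := by rw [h2 v hv]; group
        · have := ((hgy'.mul_left (show Commute (g⁻¹ * c * g) y from h3)).mul_left hgy'.inv_left).eq
          simpa [mul_assoc] using this
    have h64 := key t' _ ht' hyt' hc
    rwa [e, Subgroup.card_map_of_injective (f := (MulAut.conj g).toMonoidHom)
      (MulAut.conj g).injective] at h64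
  rcases he with rfl | rfl | rfl | rfl
  · exact absurd rfl he1
  · exact key t V ht hyt hV
  · exact moved _ ht hyt rfl
  · obtain ⟨d1, d2, d3⟩ := Y.H.U_distinct ht
    refine moved _ ⟨Q.mul_mem Y.H.h.mem ht.1, ?_, d1, d2⟩
      ((show Commute y z from Y.yz).mul_right hyt).eq (Sx_mul Y.H.h.zz)
    rw [(show Commute t z from hzt.symm).mul_mul_mul_comm z t, Y.H.h.zz, ht.2.1, one_mul]

variable {S : Subgroup G} {h : L34Syl83.Chart K4 S} (Dt : SuzLChart29.Data Q z t y S h)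
include Dt

theorem S_le : S ≤ centralizer ({z} : Set G) ⊓ Lsub V y := by
  intro s hs
  obtain ⟨hsx, hsy, hs8⟩ := (Dt.mem_iff s).1 hs
  exact ⟨mem_centralizer_singleton_iff.2 (mem_Sx.1 hsx).1,
    mem_Lsub.2 ⟨fun v hv => (hV.2.2.2.2.2 s hsx hsy hs8 v hv).symm, hsy⟩⟩

/-- An element of `L` normalising `A` moves the centre. -/
theorem moves : ∃ n ∈ Lsub V y, n ∈ normalizer (h.A : Set G) ∧
    ∃ w ∈ h.Z, n * w * n⁻¹ ∉ h.Z := by
  classical
  set N := centralizer ({y} : Set G) ⊓ normalizer (h.A : Set G) with hN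
  have hN' : 8064 ≤ Nat.card N := SuzLNorm76.card_norm Y ht hyt Dt
  set x := h.μ 0 1 0 with hx
  have hxA : x ∈ h.A := ⟨1, 0, rfl⟩
  obtain ⟨hxS, hxy, -⟩ := (Dt.mem_iff x).1 (h.A_le hxA)
  have hxQ : x ∈ Cx Q t := mem_Cx.2 ⟨Dt.xA, (mem_Sx.1 hxS).2⟩
  have hxU : ¬ InU z t x := fun e => by
    obtain ⟨c, hc⟩ := h.mem_Z.1 ((Dt.Z_iff x).2 e)
    exact one_ne_zero (h.inj _ _ _ _ _ _ hc).2.1.symm
  have hzA : z ∈ h.A := h.Z_le_A Dt.mem_z
  have htA : t ∈ h.A := h.Z_le_A Dt.mem_t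
  set Ω := {W : Subgroup G | (∀ a ∈ h.A, ∀ w ∈ W, w * a = a * w) ∧ Nat.card W = 4 ∧
    (∀ w ∈ W, w * w = 1) ∧ (∀ w ∈ W, y * w * y⁻¹ ∈ W) ∧ ∀ w ∈ W, y * w = w * y → w = 1} with hΩ
  have hΩ6 : Ω.ncard ≤ 6 := by
    refine le_trans (Set.ncard_le_ncard ?_ (Set.toFinite _))
      (SuzLFour96.ncard_le_six Y ht hyt hxQ hxy (h.A_sq hxA) hxU)
    rintro W ⟨h1, h2, h3, h4, h5⟩
    exact ⟨fun w hw => mem_Sx.2 ⟨h1 z hzA w hw, h1 t htA w hw⟩, h2, h3, h4, h5,
      fun w hw => h1 x hxA w hw⟩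
  have hmem : ∀ g ∈ N, V.map (MulAut.conj g).toMonoidHom ∈ Ω := by
    rintro g ⟨hgy, hgA⟩
    have hgy' : Commute g y := mem_centralizer_singleton_iff.1 hgy
    obtain ⟨h1, h2, -, h4, h5, h6⟩ := hV
    refine ⟨?_, by rw [Subgroup.card_map_of_injective (f := (MulAut.conj g).toMonoidHom)
      (MulAut.conj g).injective, h1], ?_, ?_, ?_⟩
    · intro a ha w hw
      rw [L34Syl83.mem_map_conj] at hw
      have ha' := L34Syl83.conj'_mem_of_normalizer hgA ha
      obtain ⟨e1, e2, e3⟩ := (Dt.mem_iff _).1 (h.A_le ha')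
      have := h6 _ e1 e2 e3 _ hw
      calc w * a = g * (g⁻¹ * w * g * (g⁻¹ * a * g)) * g⁻¹ := by group
        _ = a * w := by rw [← this]; group
    · intro w hw
      rw [L34Syl83.mem_map_conj] at hw
      calc w * w = g * (g⁻¹ * w * g * (g⁻¹ * w * g)) * g⁻¹ := by group
        _ = 1 := by rw [h2 _ hw]; group
    · intro w hw
      rw [L34Syl83.mem_map_conj] at hw ⊢
      have := h4 _ hw
      rwa [show y * (g⁻¹ * w * g) * y⁻¹ = g⁻¹ * (y * w * y⁻¹) * g by
        calc y * (g⁻¹ * w * g) * y⁻¹ = (y * g⁻¹) * w * (y * g⁻¹)⁻¹ := by group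
          _ = (g⁻¹ * y) * w * (g⁻¹ * y)⁻¹ := by rw [hgy'.inv_left.eq]
          _ = _ := by group] at this
    · intro w hw e
      rw [L34Syl83.mem_map_conj] at hw
      have := h5 _ hw ((hgy'.symm.inv_right.mul_right e).mul_right hgy'.symm).eq
      calc w = g * (g⁻¹ * w * g) * g⁻¹ := by group
        _ = 1 := by rw [this]; group
  set K := N ⊓ normalizer (V : Set G) with hK
  have hK1 : Nat.card N ≤ 6 * Nat.card K := by
    refine le_trans (card_le_fibre (K := N) (H := K) inf_le_left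
      (fun g => V.map (MulAut.conj g).toMonoidHom) Ω (Set.toFinite _) hmem fun g hg g' hg' e => ?_) ?_
    · refine Subgroup.mem_inf.2 ⟨mul_mem (inv_mem hg) hg', L34Syl83.mem_normalizer_of_forall fun v hv => ?_⟩
      have := L34Syl83.conj_mem_map g' hv
      rw [← show V.map (MulAut.conj g).toMonoidHom = V.map (MulAut.conj g').toMonoidHom from e,
        L34Syl83.mem_map_conj] at this
      simpa [mul_assoc] using this
    · exact Nat.mul_le_mul_right _ hΩ6
  -- some element of `K` moves the centre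
  obtain ⟨g, hg, w, hw, hgw⟩ : ∃ g ∈ K, ∃ w ∈ h.Z, g * w * g⁻¹ ∉ h.Z := by
    by_contra hcon
    push Not at hcon
    set K₁ := K ⊓ centralizer ({z} : Set G) with hK₁
    set K₂ := K₁ ⊓ centralizer ({t} : Set G) with hK₂
    have hZ3 : ∀ g ∈ K, ∀ e ∈ h.Z, e ≠ 1 → g * e * g⁻¹ ∈ ({z, t, z * t} : Set G) := by
      intro g hg e he he1
      rcases (Dt.Z_iff _).1 (hcon g hg e he) with h1 | h1 | h1 | h1
      · exact absurd (conj_eq_one_iff.1 h1) he1
      all_goals simp [h1]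
    have hf : ∀ (a : G) (g g' : G), g * a * g⁻¹ = g' * a * g'⁻¹ → g⁻¹ * g' ∈ centralizer ({a} : Set G) := by
      intro a g g' e
      refine mem_centralizer_singleton_iff.2 ?_
      calc g⁻¹ * g' * a = g⁻¹ * (g' * a * g'⁻¹) * g' := by group
        _ = a * (g⁻¹ * g') := by rw [← e]; group
    have e1 : Nat.card K ≤ 3 * Nat.card K₁ := by
      refine le_trans (card_le_fibre (K := K) (H := K₁) inf_le_left (fun g => g * z * g⁻¹)
        {z, t, z * t} (Set.toFinite _) (fun g hg => hZ3 g hg z Dt.mem_z Y.H.h.ne_one)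
        fun g hg g' hg' e => Subgroup.mem_inf.2 ⟨mul_mem (inv_mem hg) hg', hf z g g' e⟩) (Nat.mul_le_mul_right _ ?_)
      exact (Set.ncard_insert_le _ _).trans (Nat.add_le_add_right
        ((Set.ncard_insert_le _ _).trans (by rw [Set.ncard_singleton])) 1)
    have e2 : Nat.card K₁ ≤ 2 * Nat.card K₂ := by
      refine le_trans (card_le_fibre (K := K₁) (H := K₂) inf_le_left (fun g => g * t * g⁻¹)
        {t, z * t} (Set.toFinite _) (fun g hg => ?_)
        fun g hg g' hg' e => Subgroup.mem_inf.2 ⟨mul_mem (inv_mem hg) hg', hf t g g' e⟩) (Nat.mul_le_mul_right _ ?_)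
      · rcases hZ3 g hg.1 t Dt.mem_t ht.2.2.1 with h1 | h1
        · exfalso
          have hgz : g * z * g⁻¹ = z :=
            mul_inv_eq_iff_eq_mul.2 (mem_centralizer_singleton_iff.1 hg.2)
          exact ht.2.2.2 ((MulAut.conj g).injective (h1.trans hgz.symm))
        · exact h1
      · exact (Set.ncard_insert_le _ _).trans (by rw [Set.ncard_singleton])
    have e3 : Nat.card K₂ ≤ 192 := by
      rw [← Y.card_CS ht hyt]
      exact Nat.le_of_dvd Nat.card_pos
        (Subgroup.card_dvd_of_le fun g hg => ⟨⟨hg.1.2, hg.2⟩, hg.1.1.1.1⟩)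
    omega
  obtain ⟨⟨hgy, hgA⟩, hgV⟩ := hg
  have hgy' : Commute g y := mem_centralizer_singleton_iff.1 hgy
  obtain ⟨h1, h2, -, h4, h5, -⟩ := hV
  obtain ⟨v, hv, hv1⟩ : ∃ v ∈ V, v ≠ 1 := by
    haveI : Nontrivial V := Finite.one_lt_card_iff_nontrivial.1 (by omega)
    obtain ⟨⟨v, hv⟩, hne⟩ := exists_ne (1 : V)
    exact ⟨v, hv, fun e => hne (Subtype.ext e)⟩
  set v' := y * v * y⁻¹ with hv'
  set v'' := y * v' * y⁻¹ with hv''
  have hv'm : v' ∈ V := h4 v hv
  have hv''m : v'' ∈ V := h4 v' hv'm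
  have d1 : v' ≠ v := fun e => hv1 (h5 v hv (mul_inv_eq_iff_eq_mul.1 e))
  have d1' : v' ≠ 1 := fun e => hv1 (conj_eq_one_iff.1 e)
  have d2 : v'' ≠ v' := fun e => d1' (h5 v' hv'm (mul_inv_eq_iff_eq_mul.1 e))
  have d2' : v'' ≠ 1 := fun e => d1' (conj_eq_one_iff.1 e)
  have hy3 : y * v'' * y⁻¹ = v := by
    calc y * v'' * y⁻¹ = y ^ 3 * v * (y ^ 3)⁻¹ := by rw [hv'', hv', pow_succ, pow_two]; group
      _ = v := by rw [Y.y3]; group
  have d3 : v'' ≠ v := fun e => d1 (by rw [e] at hy3; exact hy3)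
  have hall : (V : Set G) = {1, v, v', v''} := by
    refine (Set.eq_of_subset_of_ncard_le ?_ ?_ (Set.toFinite _)).symm
    · rintro a (rfl | rfl | rfl | rfl)
      exacts [one_mem V, hv, hv'm, hv''m]
    · have c1 : (1 : G) ∉ ({v, v', v''} : Set G) := by simp [hv1.symm, d1'.symm, d2'.symm]
      have c2 : v ∉ ({v', v''} : Set G) := by simp [d1.symm, d3.symm]
      rw [Set.ncard_insert_of_notMem c1, Set.ncard_insert_of_notMem c2, Set.ncard_pair d2.symm,
        ← Nat.card_coe_set_eq]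
      exact le_of_eq h1
  have hgv : g * v * g⁻¹ ∈ V := L34Syl83.conj_mem_of_normalizer hgV hv
  obtain ⟨i, hi⟩ : ∃ i : ℕ, y ^ i * v * (y ^ i)⁻¹ = g * v * g⁻¹ := by
    rw [← SetLike.mem_coe, hall] at hgv
    rcases hgv with e | e | e | e
    · exact absurd (conj_eq_one_iff.1 e) hv1
    · exact ⟨0, by rw [e]; simp⟩
    · exact ⟨1, by rw [e, pow_one]⟩
    · exact ⟨2, by rw [e, hv'', hv', pow_two]; group⟩
  set n := (y ^ i)⁻¹ * g with hn
  have hny : Commute n y := ((Commute.refl y).pow_left i).inv_left.mul_left hgy'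
  have hnv : n * v * n⁻¹ = v := by
    rw [hn, show (y ^ i)⁻¹ * g * v * ((y ^ i)⁻¹ * g)⁻¹ = (y ^ i)⁻¹ * (g * v * g⁻¹) * y ^ i by group,
      ← hi]
    group
  have hfix : ∀ a, n * a * n⁻¹ = a → n * (y * a * y⁻¹) * n⁻¹ = y * a * y⁻¹ := by
    intro a e
    calc n * (y * a * y⁻¹) * n⁻¹ = (n * y) * a * (n * y)⁻¹ := by group
      _ = (y * n) * a * (y * n)⁻¹ := by rw [hny.eq]
      _ = y * (n * a * n⁻¹) * y⁻¹ := by group
      _ = _ := by rw [e]
  have hyA : ∀ a ∈ h.A, (y ^ i)⁻¹ * a * y ^ i = a := by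
    intro a ha
    have hc : Commute a y := ((Dt.mem_iff a).1 (h.A_le ha)).2.1
    rw [mul_assoc, (hc.pow_right i).eq, inv_mul_cancel_left]
  refine ⟨n, mem_Lsub.2 ⟨fun a ha => ?_, hny.eq⟩,
    L34Syl83.mem_normalizer_of_forall fun a ha => ?_, w, hw, ?_⟩
  · have e : n * a * n⁻¹ = a := by
      rw [← SetLike.mem_coe, hall] at ha
      rcases ha with rfl | rfl | rfl | rfl
      · simp
      · exact hnv
      · exact hfix _ hnv
      · exact hfix _ (hfix _ hnv)
    exact (mul_inv_eq_iff_eq_mul.1 e).symm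
  · have := L34Syl83.conj_mem_of_normalizer hgA ha
    rw [hn, show (y ^ i)⁻¹ * g * a * ((y ^ i)⁻¹ * g)⁻¹ = (y ^ i)⁻¹ * (g * a * g⁻¹) * y ^ i by group,
      hyA _ this]
    exact this
  · rw [hn, show (y ^ i)⁻¹ * g * w * ((y ^ i)⁻¹ * g)⁻¹ = (y ^ i)⁻¹ * (g * w * g⁻¹) * y ^ i by group,
      hyA _ (L34Syl83.conj_mem_of_normalizer hgA (h.Z_le_A hw))]
    exact hgw

omit Dt in
/-- `C(V) ∩ C(y)` is `PSL₃(4)`. -/
theorem exists_iso : z ∈ Lsub V y ∧ y ∉ Lsub V y ∧
    ∃ (F0 : Type) (_ : Field F0) (_ : Fintype F0), Fintype.card F0 = 4 ∧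
      Nonempty (Lsub V y ≃* Matrix.ProjectiveSpecialLinearGroup (Fin 3) F0) := by
  classical
  haveI : Fact (Nat.Prime 2) := ⟨Nat.prime_two⟩
  obtain ⟨S, h, Dt⟩ := SuzLChart29.exists_chart Y ht hyt
  have hSle := S_le Y ht hyt hV Dt
  set L := Lsub V y with hLd
  have hSL : S ≤ L := hSle.trans inf_le_right
  have hzL : z ∈ L := hSL (h.Z_le Dt.mem_z)
  have hyL : y ∉ L := by
    intro hy
    have h1 := hV.1
    haveI : Nontrivial V := Finite.one_lt_card_iff_nontrivial.1 (by omega)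
    obtain ⟨⟨v, hv⟩, hne⟩ := exists_ne (1 : V)
    exact hne (Subtype.ext (hV.2.2.2.2.1 v hv ((mem_Lsub.1 hy).1 v hv).symm))
  refine ⟨hzL, hyL, ?_⟩
  have hSc : ∀ e, InU z t e → e ≠ 1 → centralizer ({e} : Set G) ⊓ L = S := by
    intro e he he1
    refine (Subgroup.eq_of_le_of_card_ge (fun s (hs : s ∈ S) => Subgroup.mem_inf.2
      ⟨mem_centralizer_singleton_iff.2 (h.Z_comm ((Dt.Z_iff e).2 he) hs).symm, hSL hs⟩) ?_).symm
    · rw [card_cent Y ht hyt hV he he1, h.card_S]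
  -- `S` is a Sylow subgroup
  have hS2 : IsPGroup 2 (S.subgroupOf L) := IsPGroup.of_card (n := 6)
    (by rw [Nat.card_congr (subgroupOfEquivOfLe hSL).toEquiv, h.card_S]; norm_num)
  obtain ⟨P, hP⟩ := hS2.exists_le_sylow
  have hPS : (P : Subgroup L) = S.subgroupOf L := by
    haveI : Nontrivial (P : Subgroup L) := by
      rw [← Finite.one_lt_card_iff_nontrivial]
      have := Subgroup.card_le_of_le hP
      rw [Nat.card_congr (subgroupOfEquivOfLe hSL).toEquiv, h.card_S] at this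
      omega
    obtain ⟨⟨e, he⟩, heo⟩ : ∃ e : center (P : Subgroup L), orderOf e = 2 := by
      haveI := P.2.center_nontrivial
      refine exists_prime_orderOf_dvd_card' 2 ?_
      obtain ⟨k, hk⟩ := IsPGroup.iff_card.1 (P.2.to_subgroup (center (P : Subgroup L)))
      rw [hk]
      refine dvd_pow_self 2 fun h0 => ?_
      have := Finite.one_lt_card (α := center (P : Subgroup L))
      rw [hk, h0] at this
      omega
    have hec : ∀ p ∈ (P : Subgroup L), ((e : L) : G) * (p : G) = (p : G) * ((e : L) : G) := fun p hp =>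
      congrArg (fun q : (P : Subgroup L) => ((q : L) : G)) (Subgroup.mem_center_iff.1 he ⟨p, hp⟩).symm
    have he1 : ((e : L) : G) ≠ 1 := fun e' => by
      rw [show (⟨e, he⟩ : center (P : Subgroup L)) = 1 from
        Subtype.ext (Subtype.ext (Subtype.ext e')), orderOf_one] at heo
      omega
    have hzP : (⟨z, hzL⟩ : L) ∈ (P : Subgroup L) := hP (h.Z_le Dt.mem_z)
    have heS : ((e : L) : G) ∈ S := by
      rw [← hSc z (Or.inr (Or.inl rfl)) Y.H.h.ne_one]
      exact ⟨mem_centralizer_singleton_iff.2 (hec _ hzP), (e : L).2⟩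
    have heZ : ((e : L) : G) ∈ h.Z :=
      h.mem_Z_of_comm heS fun s hs => hec ⟨s, hSL hs⟩ (hP hs)
    refine le_antisymm (fun p hp => ?_) hP
    show (p : G) ∈ S
    rw [← hSc _ ((Dt.Z_iff _).1 heZ) he1]
    exact ⟨mem_centralizer_singleton_iff.2 (hec p hp).symm, p.2⟩
  let hc' := h.restrict hSL
  let hL : L34Syl83.Chart K4 (P : Subgroup L) :=
    ⟨hc'.μ, hc'.card_F, hc'.mul, hc'.inj, fun x => by rw [hPS]; exact hc'.mem x⟩
  have hmA : ∀ x : L, x ∈ hL.A ↔ (x : G) ∈ h.A := fun x => by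
    constructor
    · rintro ⟨b, c, rfl⟩; exact ⟨b, c, rfl⟩
    · rintro ⟨b, c, e⟩; exact ⟨b, c, Subtype.ext e⟩
  have hmB : ∀ x : L, x ∈ hL.swap.A ↔ (x : G) ∈ h.swap.A := fun x => by
    constructor
    · rintro ⟨b, c, rfl⟩; exact ⟨b, c, rfl⟩
    · rintro ⟨b, c, e⟩; exact ⟨b, c, Subtype.ext e⟩
  have hmZ : ∀ x : L, x ∈ hL.Z ↔ (x : G) ∈ h.Z := fun x => by
    rw [hL.mem_Z, h.mem_Z]
    exact ⟨fun ⟨c, e⟩ => ⟨c, congrArg Subtype.val e⟩, fun ⟨c, e⟩ => ⟨c, Subtype.ext e⟩⟩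
  have fixFalse : ∀ (h' : L34Syl83.Chart K4 S) (hL' : L34Syl83.Chart K4 (P : Subgroup L)),
      SuzLChart29.Data Q z t y S h' → (∀ x : L, x ∈ hL'.A ↔ (x : G) ∈ h'.A) →
      (∀ x : L, x ∈ hL'.Z ↔ (x : G) ∈ h'.Z) → ¬ hL'.FixZ ⊤ := by
    intro h' hL' Dt' hA' hZ' hfix
    obtain ⟨n, hn, hnA, w, hw, hnw⟩ := moves Y ht hyt hV Dt'
    have hwL : w ∈ L := hSL (h'.Z_le hw)
    refine hnw ((hZ' _).1 (hfix ⟨n, hn⟩ (Subgroup.mem_top _) ?_ ⟨w, hwL⟩ ((hZ' _).2 hw)))
    exact L34Syl83.mem_normalizer_of_forall fun a ha =>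
      (hA' _).2 (L34Syl83.conj_mem_of_normalizer hnA ((hA' a).1 ha))
  have hA := fixFalse h hL Dt hmA hmZ
  have hB := fixFalse h.swap hL.swap Dt.swap hmB (fun x => by
    rw [L34Syl83.Chart.swap_Z, L34Syl83.Chart.swap_Z]; exact hmZ x)
  have hU : ∀ e : L, e ∈ hL.Z → InU z t (e : G) := fun e he => (Dt.Z_iff _).1 ((hmZ e).1 he)
  have hcent : ∀ e : L, e ∈ hL.Z → e ≠ 1 →
      ∀ c : L, c * e = e * c → (c : G) ∈ S := by
    intro e he he1 c hc
    rw [← hSc _ (hU e he) (fun e' => he1 (Subtype.ext e'))]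
    exact ⟨mem_centralizer_singleton_iff.2 (congrArg Subtype.val hc), c.2⟩
  obtain ⟨N, F0, _, _, hn, hodd, -, h0, ⟨φ⟩⟩ := hL.cit_psl hA hB fun e he he1 =>
    hS2.to_le fun c hc => hcent e he he1 c (mem_centralizer_singleton_iff.1 hc)
  haveI := hn
  -- involutions lie in `N`
  have hinv : ∀ a : L, a * a = 1 → a ∈ N := by
    intro a ha
    rw [← QuotientGroup.eq_one_iff]
    have h1 : orderOf (a : L ⧸ N) ∣ 2 := orderOf_dvd_of_pow_eq_one (by
      rw [pow_two, ← QuotientGroup.mk_mul, ha, QuotientGroup.mk_one])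
    have h2 : orderOf (a : L ⧸ N) ∣ N.index := by
      rw [Subgroup.index_eq_card]; exact orderOf_dvd_natCard _
    have h3 := Nat.dvd_gcd h1 h2
    rw [(Nat.coprime_two_left.2 hodd).gcd_eq_one, Nat.dvd_one, orderOf_eq_one_iff] at h3
    exact h3
  have hSN : ∀ s : L, (s : G) ∈ S → s ∈ N := by
    intro s hs
    obtain ⟨a, b, c, e⟩ := (h.mem _).1 hs
    have hm : h.μ a b c = h.μ a 0 0 * h.μ 0 b (c + a * b) := by
      rw [h.mul]; congr 1 <;> simp [add_assoc, h.two]
    have ha : h.μ a 0 0 ∈ L := hSL (h.mem' _ _ _)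
    have hb : h.μ 0 b (c + a * b) ∈ L := hSL (h.mem' _ _ _)
    rw [show s = ⟨_, ha⟩ * ⟨_, hb⟩ from Subtype.ext (e.symm.trans hm)]
    exact mul_mem (hinv _ (Subtype.ext ((h.sq_eq_one_iff _ _ _).2 (Or.inr rfl))))
      (hinv _ (Subtype.ext ((h.sq_eq_one_iff _ _ _).2 (Or.inl rfl))))
  have htop : N = ⊤ := by
    refine top_le_iff.1 fun q _ => ?_
    set zL : L := ⟨z, hzL⟩ with hzLd
    have hz2 : zL * zL = 1 := Subtype.ext Y.H.h.zz
    have hz1 : zL ≠ 1 := fun e => Y.H.h.ne_one (congrArg Subtype.val e)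
    have hq2 : q * zL * q⁻¹ * (q * zL * q⁻¹) = 1 := by rw [conj_mul, hz2, mul_one, mul_inv_cancel]
    have ho : ∀ (a : L) (ha : a * a = 1), a ≠ 1 → orderOf (φ ⟨a, hinv a ha⟩) = 2 := by
      intro a ha ha1
      rw [MulEquiv.orderOf_eq]
      exact orderOf_eq_prime (Subtype.ext (by rw [pow_two]; exact ha))
        fun e => ha1 (congrArg Subtype.val e)
    obtain ⟨m, hm⟩ := isConj_iff.1 (CNFactsPSL34_57.one_class h0 _ _ (ho _ hq2
      (fun e => hz1 (conj_eq_one_iff.1 e))) (ho _ hz2 hz1))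
    have hm' : (φ.symm m : L) * (q * zL * q⁻¹) * (φ.symm m : L)⁻¹ = zL := by
      have := congrArg (fun r => ((φ.symm r : N) : L)) hm
      simpa using this
    have hmq : ((φ.symm m : L) * q) * zL = zL * ((φ.symm m : L) * q) := by
      rw [← mul_inv_eq_iff_eq_mul]
      exact (by group : (φ.symm m : L) * q * zL * ((φ.symm m : L) * q)⁻¹ =
        (φ.symm m : L) * (q * zL * q⁻¹) * (φ.symm m : L)⁻¹).trans hm'
    have hqS := hSN _ (hcent zL ((hmZ zL).2 Dt.mem_z) hz1 _ hmq)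
    simpa using mul_mem (inv_mem (φ.symm m).2) hqS
  exact ⟨F0, inferInstance, inferInstance, h0,
    ⟨(Subgroup.topEquiv.symm.trans (MulEquiv.subgroupCongr htop.symm)).trans φ⟩⟩

end Cfsg.Agent.SuzLRecog29
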