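import Cfsg.Agent.Lib.SuzM11Lift40

/-!
The preimage in the centraliser of `y` of the elementary abelian subgroup of order 81: it is
elementary abelian of order 243 and self-centralising, and contains 22 conjugates of `y` or its
inverse.
-/

set_option autoImplicit false
set_option linter.unusedSectionVars false
set_option maxRecDepth 100000
set_option maxHeartbeats 400000

namespace Cfsg.Agent.SuzM11Abelian40

open Subgroup Cfsg.Agent.SuzY42Setup Cfsg.Agent.SuzY42Quotient Cfsg.Agent.SuzM11Lift40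
open Cfsg.Agent.U43LineFacts40 Cfsg.Agent.U43CoreFacts40 Cfsg.Agent.U43LineWeak40
open Cfsg.Agent.U43LineCheck40 (add3 roots std app lin)

variable {G : Type*} [Group G] [Finite G] {Q : Subgroup G} {z y : G} (Y : Yd Q z y)
  {K : Type} [Field K] [Fintype K] (hF : Fintype.card K = 3 ^ 2) {c : K} (hcc : c * c = -1)
  (θ : CY y ⧸ N y ≃* Cfsg.PSU 4 K 3) (hθ : θ (zb Y) = sZ c)

/-- The abelian subgroup of `G`. -/
noncomputable def AG : Subgroup G := ((AM hF hcc).comap (pi θ)).map (CY y).subtype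

theorem mem_AG {a : G} :
    a ∈ AG hF hcc θ ↔ ∃ l : CY y, (l : G) = a ∧ ∃ i < 81, sA c i = pi θ l := by
  constructor
  · rintro ⟨l, hl, rfl⟩
    exact ⟨l, rfl, hl⟩
  · rintro ⟨l, rfl, hl⟩
    exact ⟨l, hl, rfl⟩

theorem y_mem_AG : y ∈ AG hF hcc θ := by
  refine (mem_AG hF hcc θ).2 ⟨yc y, rfl, 0, by norm_num, ?_⟩
  rw [sA_zero hF hcc, eq_comm]
  simpa using pi_yc θ 1

theorem AG_le : AG hF hcc θ ≤ CY y := map_subtype_le _

include Y hF hcc hθ

theorem card_CY : Nat.card ↥(CY y) = 3 * 3265920 := by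
  have h := card_mul_index (pi θ).ker
  rw [index_ker, MonoidHom.range_eq_top.2 (pi_surj θ), card_top,
    PSUFourThree56.card_PSU (by rw [hF]; rfl), pi_ker,
    Nat.card_congr (subgroupOfEquivOfLe (show zpowers y ≤ CY y from zpowers_le.2 (mem_CY.2 rfl))).toEquiv,
    Nat.card_zpowers, ord_y Y] at h
  exact h.symm

theorem card_comap (H : Subgroup (Cfsg.PSU 4 K 3)) :
    Nat.card ↥(H.comap (pi θ)) = 3 * Nat.card H := by
  have h1 := card_mul_index (H.comap (pi θ))
  have h2 := card_mul_index H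
  rw [index_comap_of_surjective H (pi_surj θ), card_CY Y hF hcc θ hθ] at h1
  rw [PSUFourThree56.card_PSU (by rw [hF]; rfl)] at h2
  have hpos : 0 < H.index := Nat.pos_of_ne_zero Subgroup.index_ne_zero_of_finite
  refine Nat.eq_of_mul_eq_mul_right hpos ?_
  rw [h1, mul_assoc, h2]

theorem card_AG : Nat.card ↥(AG hF hcc θ) = 243 := by
  rw [AG, card_map_of_injective (CY y).subtype_injective, card_comap Y hF hcc θ hθ,
    card_AM hF hcc]

/-- A root moved to a power of `y` times a fixed lift, by an element of `C(y)`. -/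
theorem move {r : ℕ} (hr : r < 360) {a : CY y} {i : ℕ} (hi : i < 81) (ha : pi θ a = sA c i) :
    ∃ h : CY y, pi θ (h * a * h⁻¹) = sA c (app (lin r) i) := by
  obtain ⟨h, hh⟩ := pi_surj θ (sR c r)
  exact ⟨h, by rw [map_mul, map_mul, map_inv, hh, ha, conj_app hF hcc hr hi]⟩

theorem cube_of {a : CY y} {e : ℕ} (he : e ∈ std ∨ e = 3 ∨ e = 6) (ha : pi θ a = sA c e) :
    a ^ 3 = 1 ∧ ∃ l : CY y, Fx Q z y l ∧ pi θ l = sA c e ∧ ∃ t : ℕ, a = l * yc y ^ t := by
  obtain ⟨l, hl, hfx, hl3⟩ := exists_lift Y hF hcc θ hθ he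
  obtain ⟨t, ht⟩ := exists_pow ((pi_eq θ).1 (hl.trans ha.symm))
  have hal : a = l * yc y ^ t := Subtype.ext (by
    rw [Subgroup.coe_mul, SubgroupClass.coe_pow, show ((yc y : CY y) : G) = y from rfl, ← ht,
      mul_inv_cancel_left])
  refine ⟨?_, l, hfx, hl, t, hal⟩
  have hc : Commute l (yc y ^ t) := Subtype.ext (by
    rw [Subgroup.coe_mul, Subgroup.coe_mul, SubgroupClass.coe_pow]
    exact ((comm_y l).pow_left t).symm.eq)
  apply Subtype.ext
  rw [hal, hc.mul_pow, Subgroup.coe_mul, SubgroupClass.coe_pow, SubgroupClass.coe_pow,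
    SubgroupClass.coe_pow, hl3, show ((yc y : CY y) : G) = y from rfl, ← pow_mul, mul_comm t,
    pow_mul, Y.y3, one_pow, one_mul]
  rfl

theorem root_cube {a : CY y} {i : ℕ} (hi : i ∈ roots) (ha : pi θ a = sA c i) : a ^ 3 = 1 := by
  obtain ⟨r, hr, hc⟩ := root_reach hi
  obtain ⟨h, hh⟩ := move Y hF hcc θ hθ hr (root_lt i hi).1 ha
  have h3 : (h * a * h⁻¹) ^ 3 = 1 := by
    rcases hc with e | e <;> rw [e] at hh <;>
      exact (cube_of Y hF hcc θ hθ (Or.inl (by simp [std])) hh).1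
  rw [conj_pow] at h3
  exact conj_eq_one_iff.1 h3

theorem root_comm {a b : CY y} {i j : ℕ} (hi : i ∈ roots) (hj : j ∈ roots) (hne : i ≠ j)
    (hne' : add3 i j ≠ 0) (ha : pi θ a = sA c i) (hb : pi θ b = sA c j) : Commute a b := by
  obtain ⟨r, hr, hci, hcj⟩ := root_pair hi hj hne hne'
  obtain ⟨h, hh⟩ := pi_surj θ (sR c r)
  have h1 : pi θ (h * a * h⁻¹) = sA c (app (lin r) i) := by
    rw [map_mul, map_mul, map_inv, hh, ha, conj_app hF hcc hr (root_lt i hi).1]
  have h2 : pi θ (h * b * h⁻¹) = sA c (app (lin r) j) := by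
    rw [map_mul, map_mul, map_inv, hh, hb, conj_app hF hcc hr (root_lt j hj).1]
  have he1 : app (lin r) i ∈ std ∨ app (lin r) i = 3 ∨ app (lin r) i = 6 :=
    Or.inl (by rcases hci with e | e <;> simp [e, std])
  have he2 : app (lin r) j ∈ std ∨ app (lin r) j = 3 ∨ app (lin r) j = 6 := Or.inr hcj
  obtain ⟨-, l, hl, hle, t, et⟩ := cube_of Y hF hcc θ hθ he1 h1
  obtain ⟨-, m, hm, hme, s, es⟩ := cube_of Y hF hcc θ hθ he2 h2
  have hlm : Commute l m := fx_unique Y θ (hl.mul hm) (hm.mul hl) (by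
    rw [map_mul, map_mul, hle, hme, sA_comm hF hcc (app_lt _ _) (app_lt _ _)])
  have hyc : ∀ (x : CY y) (u : ℕ), Commute x (yc y ^ u) := fun x u => by
    refine Commute.pow_right (Subtype.ext ?_) u
    exact mem_CY.1 x.2
  have hc' : Commute (h * a * h⁻¹) (h * b * h⁻¹) := by
    rw [et, es]
    exact ((hlm.mul_right (hyc l s)).mul_left ((hyc m t).symm.mul_right ((hyc _ s))))
  have := hc'.map (MulAut.conj h⁻¹).toMonoidHom
  simpa [mul_assoc] using this

theorem all_lifts : ∀ j < 81, ∀ a : CY y, pi θ a = sA c j →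
    a ^ 3 = 1 ∧ ∀ k < 4, ∀ b : CY y, pi θ b = sA c (3 ^ k) → Commute a b := by
  have hyc : ∀ (x : CY y) (u : ℕ), Commute x (yc y ^ u) := fun x u => by
    refine Commute.pow_right (Subtype.ext ?_) u
    exact mem_CY.1 x.2
  have hbase : ∀ k < 4, ∀ l < 4, ∀ a b : CY y, pi θ a = sA c (3 ^ k) → pi θ b = sA c (3 ^ l) →
      Commute a b := by
    intro k hk l hl a b ha hb
    by_cases hkl : k = l
    · subst hkl
      obtain ⟨t, ht⟩ := exists_pow ((pi_eq θ).1 (ha.trans hb.symm))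
      have : b = a * yc y ^ t := Subtype.ext (by
        rw [Subgroup.coe_mul, SubgroupClass.coe_pow, show ((yc y : CY y) : G) = y from rfl, ← ht,
          mul_inv_cancel_left])
      rw [this]
      exact (Commute.refl a).mul_right (hyc a t)
    · refine root_comm Y hF hcc θ hθ (root_facts.2.2 k hk) (root_facts.2.2 l hl) ?_ ?_ ha hb
      · interval_cases k <;> interval_cases l <;> first | omega | decide
      · interval_cases k <;> interval_cases l <;> first | omega | decide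
  intro j
  induction j using Nat.strong_induction_on with
  | _ j ih =>
    intro hj a ha
    rcases add3_table j hj with rfl | ⟨j', hj', k, hk, e, -⟩
    · rw [sA_zero hF hcc] at ha
      obtain ⟨t, ht⟩ := exists_pow ((pi_eq_one θ).1 ha)
      have : a = yc y ^ t := Subtype.ext (by rw [SubgroupClass.coe_pow]; exact ht)
      rw [this]
      refine ⟨Subtype.ext ?_, fun k _ b _ => (hyc b t).symm⟩
      rw [SubgroupClass.coe_pow, SubgroupClass.coe_pow, show ((yc y : CY y) : G) = y from rfl,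
        ← pow_mul, mul_comm t, pow_mul, Y.y3, one_pow]
      rfl
    · obtain ⟨b, hb⟩ := pi_surj θ (sA c (3 ^ k))
      have ha' : pi θ (a * b⁻¹) = sA c j' := by
        rw [map_mul, map_inv, ha, hb, ← e, ← sA_step hF hcc (by omega) hk, mul_inv_cancel_right]
      obtain ⟨h3, hc⟩ := ih j' hj' (by omega) _ ha'
      have hb3 := root_cube Y hF hcc θ hθ (root_facts.2.2 k hk) hb
      have hab : a = a * b⁻¹ * b := by group
      rw [hab]
      refine ⟨by rw [(hc k hk b hb).mul_pow, h3, hb3, one_mul], fun l hl d hd => ?_⟩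
      exact (hc l hl d hd).mul_left (hbase k hk l hl b d hb hd)

theorem AG_props {a b : G} (ha : a ∈ AG hF hcc θ) (hb : b ∈ AG hF hcc θ) :
    a * b = b * a ∧ a ^ 3 = 1 := by
  obtain ⟨a, rfl, i, hi, ei⟩ := (mem_AG hF hcc θ).1 ha
  obtain ⟨b, rfl, j, hj, ej⟩ := (mem_AG hF hcc θ).1 hb
  refine ⟨?_, ?_⟩
  swap
  · rw [← SubgroupClass.coe_pow, (all_lifts Y hF hcc θ hθ i hi a ei.symm).1]; rfl
  suffices h : Commute a b from congrArg Subtype.val h.eq
  clear ha hb
  induction j using Nat.strong_induction_on generalizing b with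
  | _ j ih =>
    rcases add3_table j hj with rfl | ⟨j', hj', k, hk, e, -⟩
    · rw [sA_zero hF hcc] at ej
      exact Subtype.ext (by
        obtain ⟨t, ht⟩ := exists_pow ((pi_eq_one θ).1 ej.symm)
        rw [Subgroup.coe_mul, Subgroup.coe_mul, ht]
        exact ((comm_y a).pow_left t).symm.eq)
    · obtain ⟨d, hd⟩ := pi_surj θ (sA c (3 ^ k))
      have hb' : pi θ (b * d⁻¹) = sA c j' := by
        rw [map_mul, map_inv, ← ej, hd, ← e, ← sA_step hF hcc (by omega) hk, mul_inv_cancel_right]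
      have hab : b = b * d⁻¹ * d := by group
      rw [hab]
      exact (ih j' hj' _ (by omega) hb'.symm).mul_right
        ((all_lifts Y hF hcc θ hθ i hi a ei.symm).2 k hk d hd)

theorem centralizer_AG : centralizer (AG hF hcc θ : Set G) = AG hF hcc θ := by
  refine le_antisymm (fun x hx => ?_) (fun x hx => mem_centralizer_iff.2
    fun b hb => (AG_props Y hF hcc θ hθ hb hx).1)
  have hxy : x * y = y * x := (mem_centralizer_iff.1 hx y (y_mem_AG hF hcc θ)).symm
  have hm : pi θ ⟨x, mem_CY.2 hxy⟩ ∈ centralizer (AM hF hcc : Set (Cfsg.PSU 4 K 3)) := by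
    refine mem_centralizer_iff.2 fun m hm => ?_
    obtain ⟨l, rfl⟩ := pi_surj θ m
    rw [← map_mul, ← map_mul]
    exact congrArg _ (Subtype.ext (mem_centralizer_iff.1 hx _ ⟨l, hm, rfl⟩))
  rw [centralizer_AM hF hcc] at hm
  exact ⟨_, hm, rfl⟩

theorem good_y : Good y y ∧ Good y y⁻¹ :=
  ⟨⟨1, Or.inl (by group)⟩, ⟨1, Or.inr (by group)⟩⟩

theorem root_good {i : ℕ} (hi : i ∈ roots) :
    ∃! a : CY y, pi θ a = sA c i ∧ Good y (a : G) := by
  obtain ⟨r, hr, hc⟩ := root_reach hi
  have he : app (lin r) i ∈ std := by rcases hc with e | e <;> simp [e, std]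
  obtain ⟨h, hh⟩ := pi_surj θ (sR c r)
  obtain ⟨l, hl, hfx, -⟩ := exists_lift Y hF hcc θ hθ (Or.inl he)
  refine ⟨h⁻¹ * l * h, ⟨?_, ?_⟩, ?_⟩
  · rw [map_mul, map_mul, map_inv, hh, hl, ← conj_app hF hcc hr (root_lt i hi).1]
    group
  · have hg := (good_lift Y hF hcc θ hθ hfx (by
      rcases hc with e | e <;> rw [e] at hl
      exacts [Or.inl hl, Or.inr hl])).conj ((h : G)⁻¹)
    rw [inv_inv] at hg
    exact hg
  · rintro a ⟨ha, hg⟩
    have h1 : pi θ (h * a * h⁻¹) = sA c (app (lin r) i) := by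
      rw [map_mul, map_mul, map_inv, hh, ha, conj_app hF hcc hr (root_lt i hi).1]
    have hg' : Good y ((h * a * h⁻¹ : CY y) : G) := by
      rw [Subgroup.coe_mul, Subgroup.coe_mul, Subgroup.coe_inv]
      exact hg.conj _
    obtain ⟨-, hf⟩ := good_form Y hF hcc θ hθ he h1 hg'
    rw [← fx_unique Y θ hf hfx (h1.trans hl.symm)]
    group

theorem good_cases {a : CY y} {i : ℕ} (hi : i < 81) (ha : pi θ a = sA c i)
    (hg : Good y (a : G)) : i = 0 ∨ i ∈ roots := by
  refine or_iff_not_imp_left.2 fun h0 => ?_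
  obtain ⟨r, hr, he⟩ := class_std hi h0
  obtain ⟨h, hh⟩ := move Y hF hcc θ hθ hr hi ha
  have hg' : Good y ((h * a * h⁻¹ : CY y) : G) := by
    rw [Subgroup.coe_mul, Subgroup.coe_mul, Subgroup.coe_inv]
    exact hg.conj _
  obtain ⟨hlt, -⟩ := good_form Y hF hcc θ hθ he hh hg'
  refine root_of hr hi ?_
  rcases std_cases he with e | e | e | e | e | e <;> rw [e] at hlt
  · exact Or.inl e
  · exact Or.inr e
  all_goals omega

theorem y_ne_inv : y ≠ y⁻¹ := fun e => Y.y1 (k_two Y (mem_zpowers y) (by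
  nth_rewrite 2 [e]; exact mul_inv_cancel y))

theorem y_pow_cases {k : G} (hk : k ∈ zpowers y) : k = 1 ∨ k = y ∨ k = y⁻¹ := by
  obtain ⟨t, rfl⟩ := exists_pow hk
  rw [← pow_mod_orderOf, ord_y Y]
  rcases (by omega : t % 3 = 0 ∨ t % 3 = 1 ∨ t % 3 = 2) with e | e | e <;> rw [e]
  · exact Or.inl (pow_zero y)
  · exact Or.inr (Or.inl (pow_one y))
  · exact Or.inr (Or.inr (eq_inv_of_mul_eq_one_left (by rw [← pow_succ, Y.y3])))

theorem card_good : {a : G | a ∈ AG hF hcc θ ∧ Good y a}.ncard = 22 := by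
  classical
  choose f hf hu using fun i : roots.toFinset =>
    root_good Y hF hcc θ hθ (List.mem_toFinset.1 i.2)
  have hset : {a : G | a ∈ AG hF hcc θ ∧ Good y a}
      = {y, y⁻¹} ∪ Set.range (fun i => ((f i : CY y) : G)) := by
    ext a
    constructor
    · rintro ⟨ha, hg⟩
      obtain ⟨l, rfl, i, hi, ei⟩ := (mem_AG hF hcc θ).1 ha
      rcases good_cases Y hF hcc θ hθ hi ei.symm hg with rfl | hr
      · rw [sA_zero hF hcc] at ei
        rcases y_pow_cases Y hF hcc θ hθ ((pi_eq_one θ).1 ei.symm) with e | e | e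
        · exfalso
          obtain ⟨g, hg⟩ := hg
          rw [e, mul_one, mul_inv_cancel] at hg
          rcases hg with h | h
          · exact Y.y1 h.symm
          · exact Y.y1 (inv_eq_one.1 h.symm)
        · exact Or.inl (Or.inl e)
        · exact Or.inl (Or.inr e)
      · exact Or.inr ⟨⟨i, List.mem_toFinset.2 hr⟩,
          congrArg Subtype.val (hu ⟨i, List.mem_toFinset.2 hr⟩ l ⟨ei.symm, hg⟩).symm⟩
    · rintro ((rfl | rfl) | ⟨i, rfl⟩)
      · exact ⟨y_mem_AG hF hcc θ, (good_y Y hF hcc θ hθ).1⟩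
      · exact ⟨inv_mem (y_mem_AG hF hcc θ), (good_y Y hF hcc θ hθ).2⟩
      · exact ⟨(mem_AG hF hcc θ).2 ⟨_, rfl, i.1, (root_lt i.1 (List.mem_toFinset.1 i.2)).1,
          (hf i).1.symm⟩, (hf i).2⟩
  have hinj : Function.Injective (fun i => ((f i : CY y) : G)) := by
    intro i j e
    have e' : f i = f j := Subtype.ext e
    refine Subtype.ext (sA_inj hF hcc (c := c) (root_lt i.1 (List.mem_toFinset.1 i.2)).1
      (root_lt j.1 (List.mem_toFinset.1 j.2)).1 ?_)
    rw [← (hf i).1, ← (hf j).1, e']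
  have hdis : Disjoint ({y, y⁻¹} : Set G) (Set.range fun i => ((f i : CY y) : G)) := by
    rw [Set.disjoint_left]
    rintro a ha ⟨i, rfl⟩
    have h1 : pi θ (f i) = 1 := by
      refine (pi_eq_one θ).2 ?_
      rcases ha with e | e <;> (replace e : ((f i : CY y) : G) = _ := e; rw [e])
      exacts [mem_zpowers y, inv_mem (mem_zpowers y)]
    rw [(hf i).1, ← sA_zero hF hcc] at h1
    exact (root_lt i.1 (List.mem_toFinset.1 i.2)).2
      (sA_inj hF hcc (root_lt i.1 (List.mem_toFinset.1 i.2)).1 (by norm_num) h1)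
  rw [hset, Set.ncard_union_eq hdis (Set.toFinite _) (Set.toFinite _),
    Set.ncard_pair (y_ne_inv Y hF hcc θ hθ), Set.ncard_range_of_injective hinj,
    Nat.card_eq_fintype_card, Fintype.card_coe,
    List.toFinset_card_of_nodup root_facts.1, root_facts.2.1]

end Cfsg.Agent.SuzM11Abelian40
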