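import Cfsg.Agent.Lib.U43LineCheck40
import Cfsg.Agent.Lib.U43SylowData40

/-!
Finite checks for the centraliser of the standard involution of `PSU₄(3)`: a Sylow 2-subgroup and
the centralisers of eight elements of order three in its core.
-/

set_option autoImplicit false
set_option maxRecDepth 100000
set_option Elab.async false

namespace Cfsg.Agent.U43SylowCheck40

open Cfsg.Agent.U43FastOps40 Cfsg.Agent.U43CoverOps51 Cfsg.Agent.U43Type38Model22 Cfsg.Agent.U43LineData40
open Cfsg.Agent.U43SylowData40 Cfsg.Agent.U43LineCheck40

/-- The standard involution. -/
def cZ : List Nat := mulC (gC 0) (gC 0)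
/-- A generator of the Sylow subgroup. -/
def cG (k : Nat) : List Nat := unpk (genList.getD k 0)
/-- An element of the Sylow subgroup. -/
def cL (i : Nat) : List Nat := unpk (sylList.getD i 0)

/-- Commutation up to a scalar. -/
def comC (A B : List Nat) : Bool := eqvF (mulF A B) (mulF B A)

theorem valid_G : (valid cZ && (List.range 6).all fun k => valid (cG k)) = true := by
  decide +kernel

theorem valid_L : ((List.range 128).all fun i => valid (cL i)) = true := by decide +kernel

theorem first : (cL 0 == oneC && eqvF (mulF cZ cZ) oneC && !eqvF cZ oneC &&
    comC cZ (cA 1) && comC cZ (cA 3) && (List.range 6).all fun k => comC cZ (cG k)) = true := by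
  decide +kernel

theorem par : ((List.range 128).all fun i => i == 0 ||
    mulList.getD (parList.getD i 0) 0 == i && Nat.blt (parList.getD i 0 / 6) i) = true := by
  decide +kernel

theorem mul : ((List.range 128).all fun i => (List.range 6).all fun k =>
    Nat.blt (mulList.getD (6 * i + k) 0) 128 &&
    eqvF (mulF (cL i) (cG k)) (cL (mulList.getD (6 * i + k) 0))) = true := by
  decide +kernel

theorem distinct : ((List.range 128).all fun j => (List.range j).all fun i =>
    !eqvF (cL i) (cL j)) = true := by
  decide +kernel

theorem inter : ((List.range 128).all fun t => coreList.contains t ||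
    [1, 2, 3, 6].any fun e =>
      let X := mulF (cA e) (mulF (cL t) (starC (cA e)))
      (List.range 128).all fun i => !eqvF X (cL i)) = true := by
  decide +kernel

theorem core_lt : (coreList.length == 32 && coreList.all fun t => Nat.blt t 128) = true := by
  decide +kernel

theorem cent : ([1, 2, 4, 8, 7, 5].all fun e =>
    (coreList.filter fun t => comC (cA e) (cL t)).length == if Nat.blt e 3 then 8 else 2) = true := by
  decide +kernel

theorem four : (coreList.any fun t => eqvF (mulF (cL t) (cL t)) cZ && comC (cA 1) (cL t)) = true := by
  decide +kernel

end Cfsg.Agent.U43SylowCheck40
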