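import Cfsg.Agent.Lib.U43LineFacts40
import Cfsg.Agent.Lib.U43SylowCheck40

/-!
The normal subgroup of order 32 of the centraliser of the standard involution of `PSU₄(3)` and the
centralisers in it of six elements of order three.
-/

set_option autoImplicit false
set_option linter.unusedSectionVars false
set_option maxRecDepth 100000
set_option maxHeartbeats 400000

namespace Cfsg.Agent.U43CoreFacts40

open Cfsg Cfsg.Agent.U43FastOps40 Cfsg.Agent.U43Type38Model22 Cfsg.Agent.U43LineData40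
open Cfsg.Agent.U43LineCheck40 Cfsg.Agent.U43LineRep40 Cfsg.Agent.U43SylowData40
open Cfsg.Agent.U43LineFacts40 Cfsg.Agent.U43SylowCheck40

theorem vZ : valid cZ = true := by
  have h := valid_G
  simp only [Bool.and_eq_true] at h
  exact h.1

theorem vG {k : ℕ} (hk : k < 6) : valid (cG k) = true := by
  have h := valid_G
  simp only [Bool.and_eq_true] at h
  exact all_range h.2 hk

theorem vL {i : ℕ} (hi : i < 128) : valid (cL i) = true := all_range valid_L hi

theorem std_cases {e : ℕ} (he : e ∈ std) :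
    e = 1 ∨ e = 2 ∨ e = 4 ∨ e = 8 ∨ e = 7 ∨ e = 5 := by
  simpa [std] using he

theorem core_nodup : coreList.Nodup := by decide +kernel

section model

variable {K : Type*} [Field K] [Fintype K] (hF : Fintype.card K = 3 ^ 2) {c : K}
  (hcc : c * c = -1)

/-- The standard involution. -/
noncomputable def sZ (c : K) : PSU 4 K 3 := el c cZ

/-- An element of the Sylow subgroup. -/
noncomputable def sL (c : K) (i : ℕ) : PSU 4 K 3 := el c (cL i)

/-- A generator of the Sylow subgroup. -/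
noncomputable def sP (c : K) (k : ℕ) : PSU 4 K 3 := el c (cG k)

include hF hcc

theorem comC_iff {A B : List ℕ} (hA : valid A = true) (hB : valid B = true) :
    comC A B = true ↔ el c A * el c B = (el c B * el c A : PSU 4 K 3) := by
  rw [comC, mulF_valid hA hB, mulF_valid hB hA, eqvF_wf (wf_mul B A)]
  exact ⟨el_mul₂ hF hcc hA hB hB hA, eqv_of_eq hF hcc (wf_mul A B)
    (rep_mul hF hcc (rep_valid hF hcc hA) (rep_valid hF hcc hB))
    (rep_mul hF hcc (rep_valid hF hcc hB) (rep_valid hF hcc hA))⟩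

theorem first_facts : sL c 0 = (1 : PSU 4 K 3) ∧ sZ c * sZ c = (1 : PSU 4 K 3) ∧
    sZ c ≠ (1 : PSU 4 K 3) ∧
    sZ c * sA c 1 = (sA c 1 * sZ c : PSU 4 K 3) ∧ sZ c * sA c 3 = (sA c 3 * sZ c : PSU 4 K 3) ∧
    ∀ k < 6, sZ c * sP c k = (sP c k * sZ c : PSU 4 K 3) := by
  have h := U43SylowCheck40.first
  simp only [Bool.and_eq_true] at h
  obtain ⟨⟨⟨⟨⟨h0, h1⟩, h2⟩, h3⟩, h4⟩, h5⟩ := h
  have hv : valid oneC = true := by decide +kernel
  refine ⟨?_, ?_, ?_, (comC_iff hF hcc vZ (vA (by norm_num))).1 h3,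
    (comC_iff hF hcc vZ (vA (by norm_num))).1 h4,
    fun k hk => (comC_iff hF hcc vZ (vG hk)).1 (all_range h5 hk)⟩
  · rw [sL, show cL 0 = oneC by simpa using h0, el_one hF hcc hv]
  · rw [← el_one hF hcc hv]; exact eq_mulF hF hcc vZ vZ hv h1
  · rw [← el_one hF hcc hv]
    rw [eqvF_wf (wf_valid hv)] at h2
    exact ne_of_not_eqv hF hcc (wf_valid vZ) (rep_valid hF hcc vZ) (rep_valid hF hcc hv) h2

theorem orderOf_sZ : orderOf (sZ c : PSU 4 K 3) = 2 :=
  orderOf_eq_prime (by rw [pow_two]; exact (first_facts hF hcc).2.1) (first_facts hF hcc).2.2.1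

theorem comm_std {e : ℕ} (he : e ∈ std ∨ e = 3 ∨ e = 6) :
    Commute (sZ c : PSU 4 K 3) (sA c e) := by
  obtain ⟨-, -, -, h1, h3, -⟩ := first_facts hF hcc
  have c1 : Commute (sZ c : PSU 4 K 3) (sA c 1) := h1
  have c3 : Commute (sZ c : PSU 4 K 3) (sA c 3) := h3
  have key : ∀ i j : ℕ, i < 81 → j < 81 → Commute (sZ c : PSU 4 K 3) (sA c i) →
      Commute (sZ c : PSU 4 K 3) (sA c j) → Commute (sZ c : PSU 4 K 3) (sA c (add3 i j)) :=
    fun i j hi hj a b => sA_add hF hcc hi hj ▸ a.mul_right b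
  have c2 : Commute (sZ c : PSU 4 K 3) (sA c 2) := key 1 1 (by norm_num) (by norm_num) c1 c1
  have c6 : Commute (sZ c : PSU 4 K 3) (sA c 6) := key 3 3 (by norm_num) (by norm_num) c3 c3
  rcases he with he | rfl | rfl
  · rcases std_cases he with rfl | rfl | rfl | rfl | rfl | rfl
    · exact c1
    · exact c2
    · exact key 1 3 (by norm_num) (by norm_num) c1 c3
    · exact key 2 6 (by norm_num) (by norm_num) c2 c6
    · exact key 1 6 (by norm_num) (by norm_num) c1 c6
    · exact key 2 3 (by norm_num) (by norm_num) c2 c3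
  · exact c3
  · exact c6

/-- The Sylow subgroup. -/
noncomputable def SY (c : K) : Subgroup (PSU 4 K 3) :=
  Subgroup.closure ((fun k => sP c k) '' {k | k < 6})

theorem step_L {i k : ℕ} (hi : i < 128) (hk : k < 6) :
    mulList.getD (6 * i + k) 0 < 128 ∧
      sL c i * sP c k = (sL c (mulList.getD (6 * i + k) 0) : PSU 4 K 3) := by
  have h := List.all_eq_true.1 (all_range U43SylowCheck40.mul hi) k (List.mem_range.2 hk)
  simp only [Bool.and_eq_true, Nat.blt_eq] at h
  exact ⟨h.1, eq_mulF hF hcc (vL hi) (vG hk) (vL h.1) h.2⟩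

theorem mem_SY_iff {x : PSU 4 K 3} : x ∈ SY c ↔ ∃ i < 128, sL c i = x := by
  constructor
  · intro hx
    refine induction_right (fun x => ∃ i < 128, sL c i = x)
      ⟨0, by norm_num, (first_facts hF hcc).1⟩ ?_ hx
    rintro _ ⟨k, hk, rfl⟩ _ ⟨i, hi, rfl⟩
    exact ⟨_, (step_L hF hcc hi hk).1, (step_L hF hcc hi hk).2.symm⟩
  · rintro ⟨i, hi, rfl⟩
    induction i using Nat.strong_induction_on with
    | _ i ih =>
      rcases Nat.eq_zero_or_pos i with rfl | hpos
      · rw [(first_facts hF hcc).1]; exact one_mem _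
      · have h := all_range U43SylowCheck40.par hi
        simp only [Bool.or_eq_true, Bool.and_eq_true, beq_iff_eq, Nat.ne_of_gt hpos, false_or,
          Nat.blt_eq] at h
        obtain ⟨e, hlt⟩ := h
        set q := parList.getD i 0
        have hm : q % 6 < 6 := Nat.mod_lt _ (by norm_num)
        obtain ⟨-, e'⟩ := step_L hF hcc (i := q / 6) (k := q % 6) (by omega) hm
        rw [show 6 * (q / 6) + q % 6 = q by omega, e] at e'
        rw [← e']
        exact mul_mem (ih _ hlt (by omega)) (Subgroup.subset_closure ⟨_, hm, rfl⟩)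

theorem sL_inj {i j : ℕ} (hi : i < 128) (hj : j < 128) (e : sL c i = (sL c j : PSU 4 K 3)) :
    i = j := by
  by_contra hne
  have key : ∀ i j, j < 128 → i < j → sL c i ≠ (sL c j : PSU 4 K 3) := by
    intro i j hj hij
    have h := List.all_eq_true.1 (all_range distinct hj) i (List.mem_range.2 hij)
    rw [eqvF_wf (wf_valid (vL hj))] at h
    exact ne_of_not_eqv hF hcc (wf_valid (vL (by omega))) (rep_valid hF hcc (vL (by omega)))
      (rep_valid hF hcc (vL hj)) h
  rcases Nat.lt_or_ge i j with hlt | hge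
  · exact key i j hj hlt e
  · exact key j i hi (by omega) e.symm

theorem card_SY : Nat.card ↥(SY c : Subgroup (PSU 4 K 3)) = 128 := by
  let f : Fin 128 → PSU 4 K 3 := fun i => sL c i.1
  have hinj : Function.Injective f := fun a b e => Fin.ext (sL_inj hF hcc a.2 b.2 e)
  have hset : ((SY c : Subgroup (PSU 4 K 3)) : Set (PSU 4 K 3)) = Set.range f := by
    ext x
    rw [SetLike.mem_coe, mem_SY_iff hF hcc]
    exact ⟨fun ⟨i, hi, e⟩ => ⟨⟨i, hi⟩, e⟩, fun ⟨i, e⟩ => ⟨i, i.2, e⟩⟩
  have h := Set.ncard_range_of_injective hinj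
  rw [Nat.card_fin, ← hset, ← Nat.card_coe_set_eq] at h
  exact h

theorem SY_le : SY c ≤ Subgroup.centralizer ({sZ c} : Set (PSU 4 K 3)) := by
  refine (Subgroup.closure_le _).2 ?_
  rintro _ ⟨k, hk, rfl⟩
  exact Subgroup.mem_centralizer_singleton_iff.2 ((first_facts hF hcc).2.2.2.2.2 k hk).symm

variable (hC : Nat.card ↥(Subgroup.centralizer ({sZ c} : Set (PSU 4 K 3))) = 1152)
  {T : Subgroup (PSU 4 K 3)} (hTC : T ≤ Subgroup.centralizer ({sZ c} : Set (PSU 4 K 3)))
  (hT : Nat.card T = 32)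
  (hn : ∀ g ∈ Subgroup.centralizer ({sZ c} : Set (PSU 4 K 3)), ∀ t ∈ T, g * t * g⁻¹ ∈ T)

include hC hTC hT hn

theorem core_le : T ≤ SY c := by
  haveI : Fact (Nat.Prime 2) := ⟨Nat.prime_two⟩
  have h1 : IsPGroup 2 T := IsPGroup.of_card (n := 5) (by rw [hT]; norm_num)
  have h2 : IsPGroup 2 (SY c : Subgroup (PSU 4 K 3)) :=
    IsPGroup.of_card (n := 7) (by rw [card_SY hF hcc]; norm_num)
  have hnorm : SY c ≤ Subgroup.normalizer (T : Set (PSU 4 K 3)) := fun g hg =>
    Subgroup.mem_normalizer_fintype fun t ht => hn g (SY_le hF hcc hg) t ht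
  obtain ⟨n, hn'⟩ := IsPGroup.iff_card.1 (h1.to_sup_of_normal_left' h2 hnorm)
  have hd : 2 ^ n ∣ 1152 := hn' ▸ hC ▸ Subgroup.card_dvd_of_le (sup_le hTC (SY_le hF hcc))
  have hle : n ≤ 7 := by
    by_contra hle
    have : 2 ^ 8 ∣ 1152 := (pow_dvd_pow 2 (by omega)).trans hd
    norm_num at this
  have heq : SY c = T ⊔ SY c := Subgroup.eq_of_le_of_card_ge le_sup_right (by
    rw [hn', card_SY hF hcc]
    exact (Nat.pow_le_pow_right (by norm_num) hle).trans (by norm_num))
  rw [heq]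
  exact le_sup_left

theorem core_form {x : PSU 4 K 3} : x ∈ T ↔ ∃ t ∈ coreList, sL c t = x := by
  have hle : ∀ x ∈ T, ∃ t ∈ coreList, sL c t = x := by
    intro x hx
    obtain ⟨t, ht, rfl⟩ := (mem_SY_iff hF hcc).1 (core_le hF hcc hC hTC hT hn hx)
    refine ⟨t, ?_, rfl⟩
    by_contra hnot
    have h := all_range inter ht
    simp only [Bool.or_eq_true, List.contains_iff_mem, hnot, false_or, List.any_eq_true] at h
    obtain ⟨e, he, hne⟩ := h
    have he' : e < 81 ∧ (e ∈ std ∨ e = 3 ∨ e = 6) := by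
      simp only [List.mem_cons, List.not_mem_nil, or_false] at he
      rcases he with rfl | rfl | rfl | rfl <;> simp [std]
    have hm : sA c e * sL c t * (sA c e)⁻¹ ∈ T :=
      hn _ (Subgroup.mem_centralizer_singleton_iff.2 (comm_std hF hcc he'.2).eq.symm) _ hx
    obtain ⟨i, hi, ei⟩ := (mem_SY_iff hF hcc).1 (core_le hF hcc hC hTC hT hn hm)
    have hne' := List.all_eq_true.1 hne i (List.mem_range.2 hi)
    have hs : Wf (starC (cA e)) := wf_map _ fun _ => by
      unfold U43CoverOps51.fconj; exact U43Field51.mk_lt _ _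
    rw [mulF_eq _ _ (valid_lt (vL ht)) (wf_lt hs),
      mulF_eq _ _ (valid_lt (vA he'.1)) (wf_lt (wf_mul _ _)), eqvF_wf (wf_valid (vL hi))] at hne'
    refine ne_of_not_eqv hF hcc (wf_mul _ _) (rep_mul hF hcc (rep_valid hF hcc (vA he'.1))
      (rep_mul hF hcc (rep_valid hF hcc (vL ht))
        (rep_inv hF hcc (vA he'.1) (rep_valid hF hcc (vA he'.1))))) (rep_valid hF hcc (vL hi))
      hne' ?_
    rw [← mul_assoc]
    exact ei.symm
  have hlt : coreList.length = 32 ∧ ∀ t ∈ coreList, t < 128 := by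
    have h := core_lt
    simp only [Bool.and_eq_true, beq_iff_eq, List.all_eq_true, Nat.blt_eq] at h
    exact h
  have hsub : (T : Set (PSU 4 K 3)) ⊆ sL c '' {t | t ∈ coreList} := fun x hx => hle x hx
  have hcard : (sL c '' {t | t ∈ coreList} : Set (PSU 4 K 3)).ncard ≤ (T : Set (PSU 4 K 3)).ncard := by
    refine (Set.ncard_image_le (List.finite_toSet coreList)).trans ?_
    rw [← Nat.card_coe_set_eq (T : Set (PSU 4 K 3)),
      show Nat.card ↥(T : Set (PSU 4 K 3)) = 32 from hT, ← hlt.1, ← List.coe_toFinset,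
      Set.ncard_coe_finset]
    exact List.toFinset_card_le _
  have heq := Set.eq_of_subset_of_ncard_le hsub hcard ((List.finite_toSet coreList).image _)
  exact ⟨hle x, fun ⟨t, ht, e⟩ => by rw [← e, ← SetLike.mem_coe, heq]; exact ⟨t, ht, rfl⟩⟩

theorem card_cent {e : ℕ} (he : e ∈ std) :
    Nat.card ↥(T ⊓ Subgroup.centralizer ({sA c e} : Set (PSU 4 K 3))) = if e < 3 then 8 else 2 := by
  classical
  have he81 : e < 81 := by rcases std_cases he with rfl | rfl | rfl | rfl | rfl | rfl <;> norm_num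
  have hlt : ∀ t ∈ coreList, t < 128 := by
    have h := core_lt
    simp only [Bool.and_eq_true, List.all_eq_true, Nat.blt_eq] at h
    exact h.2
  set L := coreList.filter fun t => comC (cA e) (cL t) with hL
  have hset : ((T ⊓ Subgroup.centralizer ({sA c e} : Set (PSU 4 K 3)) : Subgroup _) : Set (PSU 4 K 3))
      = sL c '' {t | t ∈ L} := by
    ext x
    simp only [SetLike.mem_coe, Subgroup.mem_inf, core_form hF hcc hC hTC hT hn,
      Subgroup.mem_centralizer_singleton_iff, Set.mem_image, Set.mem_setOf_eq, hL, List.mem_filter]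
    constructor
    · rintro ⟨⟨t, ht, rfl⟩, h⟩
      exact ⟨t, ⟨ht, (comC_iff hF hcc (vA he81) (vL (hlt t ht))).2 h.symm⟩, rfl⟩
    · rintro ⟨t, ⟨ht, h⟩, rfl⟩
      exact ⟨⟨t, ht, rfl⟩, ((comC_iff hF hcc (vA he81) (vL (hlt t ht))).1 h).symm⟩
  have hc := List.all_eq_true.1 U43SylowCheck40.cent e he
  simp only [beq_iff_eq] at hc
  have hinj : Set.InjOn (sL c : ℕ → PSU 4 K 3) {t | t ∈ L} := fun a ha b hb h => sL_inj hF hcc
    (hlt a (List.mem_filter.1 ha).1) (hlt b (List.mem_filter.1 hb).1) h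
  rw [show Nat.card ↥(T ⊓ Subgroup.centralizer ({sA c e} : Set (PSU 4 K 3))) = ((T ⊓
      Subgroup.centralizer ({sA c e} : Set (PSU 4 K 3)) : Subgroup _) : Set (PSU 4 K 3)).ncard
    from Nat.card_coe_set_eq _, hset, Set.InjOn.ncard_image hinj, ← List.coe_toFinset,
    Set.ncard_coe_finset, List.toFinset_card_of_nodup (core_nodup.filter _), hc]
  rcases std_cases he with rfl | rfl | rfl | rfl | rfl | rfl <;> rfl

theorem exists_four : ∃ t ∈ T, t * t = sZ c ∧ t * sA c 1 = (sA c 1 * t : PSU 4 K 3) := by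
  have hlt : ∀ t ∈ coreList, t < 128 := by
    have h := core_lt
    simp only [Bool.and_eq_true, List.all_eq_true, Nat.blt_eq] at h
    exact h.2
  have h := U43SylowCheck40.four
  simp only [List.any_eq_true, Bool.and_eq_true] at h
  obtain ⟨t, ht, h1, h2⟩ := h
  exact ⟨sL c t, (core_form hF hcc hC hTC hT hn).2 ⟨t, ht, rfl⟩,
    eq_mulF hF hcc (vL (hlt t ht)) (vL (hlt t ht)) vZ h1,
    ((comC_iff hF hcc (vA (by norm_num)) (vL (hlt t ht))).1 h2).symm⟩

end model

end Cfsg.Agent.U43CoreFacts40
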