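import Cfsg.Agent.Lib.U43LineFacts40

/-!
Weak closure of the elementary abelian subgroup of order 81 in the stabiliser of an isotropic line
of `PSU₄(3)`, and the orbits of the stabiliser on it.
-/

set_option autoImplicit false
set_option linter.unusedSectionVars false
set_option maxRecDepth 100000
set_option maxHeartbeats 400000

namespace Cfsg.Agent.U43LineWeak40

open Cfsg Cfsg.Agent.U43LineData40 Cfsg.Agent.U43LineCheck40 Cfsg.Agent.U43LineFacts40

theorem class_std {i : ℕ} (hi : i < 81) (h0 : i ≠ 0) :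
    ∃ r < 360, app (lin r) i ∈ std := by
  have h := all_range classes hi
  simp only [Bool.or_eq_true, beq_iff_eq, h0, false_or, List.any_eq_true] at h
  obtain ⟨l, hl, hc⟩ := h
  obtain ⟨r, hr, rfl⟩ := exists_lin hl
  exact ⟨r, hr, List.contains_iff_mem.1 hc⟩

theorem root_of {r i : ℕ} (hr : r < 360) (hi : i < 81)
    (h : app (lin r) i = 1 ∨ app (lin r) i = 2) : i ∈ roots := by
  have h' := all_range (List.all_eq_true.1 roots_iff _ (lin_mem hr)) hi
  rcases h with e | e <;> simpa [e, List.contains_iff_mem] using h'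

theorem root_reach {i : ℕ} (hi : i ∈ roots) :
    ∃ r < 360, app (lin r) i = 1 ∨ app (lin r) i = 2 := by
  have h := List.all_eq_true.1 roots_reach i hi
  simp only [List.any_eq_true, Bool.or_eq_true, beq_iff_eq] at h
  obtain ⟨l, hl, hc⟩ := h
  obtain ⟨r, hr, rfl⟩ := exists_lin hl
  exact ⟨r, hr, hc⟩

theorem root_lt : ∀ i ∈ roots, i < 81 ∧ i ≠ 0 := by decide +kernel

theorem root_facts : roots.Nodup ∧ roots.length = 20 ∧
    ∀ k < 4, 3 ^ k ∈ roots := by decide +kernel

theorem root_pair {i j : ℕ} (hi : i ∈ roots) (hj : j ∈ roots) (hne : i ≠ j)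
    (hne' : add3 i j ≠ 0) :
    ∃ r < 360, (app (lin r) i = 1 ∨ app (lin r) i = 2) ∧
      (app (lin r) j = 3 ∨ app (lin r) j = 6) := by
  have h := List.all_eq_true.1 (List.all_eq_true.1 pairs i hi) j hj
  simp only [Bool.or_eq_true, beq_iff_eq, hne, hne', false_or, List.any_eq_true,
    Bool.and_eq_true] at h
  obtain ⟨l, hl, hc⟩ := h
  obtain ⟨r, hr, rfl⟩ := exists_lin hl
  exact ⟨r, hr, hc⟩

theorem root_kernel {r : ℕ} (hr : r < 360)
    (h : ∀ i ∈ roots, app (lin r) i = i ∨ app (lin r) i = add3 i i) : r = 0 := by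
  by_contra h0
  have h' := all_range kernel hr
  simp only [Bool.or_eq_true, beq_iff_eq, h0, false_or, List.any_eq_true, Bool.not_eq_true',
    Bool.or_eq_false_iff, beq_eq_false_iff_ne] at h'
  obtain ⟨i, hi, h1, h2⟩ := h'
  exact (h i hi).elim h1 h2

section model

variable {K : Type*} [Field K] [Fintype K] (hF : Fintype.card K = 3 ^ 2) {c : K}
  (hcc : c * c = -1)

include hF hcc

theorem app_of_conj {i r j m : ℕ} (hi : i < 81) (hr : r < 360) (hj : j < 81) (hm : m < 81)
    (e : sA c i * sR c r * sA c j * (sA c i * sR c r)⁻¹ = sA c m) : app (lin r) j = m :=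
  sA_inj hF hcc (app_lt _ _) hm ((conj_form hF hcc hi hr hj).symm.trans e)

theorem app_pow {r k : ℕ} (hr : r < 360) (hk : k < 4) : app (lin r) (3 ^ k) = img (lin r) k :=
  sA_inj hF hcc (app_lt _ _) (img_lt (lin_mem hr) hk)
    ((conj_app hF hcc hr (pow_lt hk)).symm.trans (conj_step hF hcc hr hk))

theorem lin_zero_app {k : ℕ} (hk : k < 4) : img (lin 0) k = 3 ^ k := by
  have h := List.all_eq_true.1 U43LineCheck40.lin_zero k (List.mem_range.2 hk)
  simpa using h

theorem same_action {x x' : PSU 4 K 3}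
    (hx : ∀ k < 4, x * sA c (3 ^ k) * x⁻¹ = x' * sA c (3 ^ k) * x'⁻¹) :
    x⁻¹ * x' ∈ AM hF hcc := by
  rw [← centralizer_AM hF hcc, Subgroup.mem_centralizer_iff]
  rintro _ ⟨j, hj, rfl⟩
  have key : ∀ k < 4, Commute (x⁻¹ * x') (sA c (3 ^ k)) := fun k hk => by
    show x⁻¹ * x' * sA c (3 ^ k) = sA c (3 ^ k) * (x⁻¹ * x')
    calc x⁻¹ * x' * sA c (3 ^ k) = x⁻¹ * (x' * sA c (3 ^ k) * x'⁻¹) * x' := by group
      _ = sA c (3 ^ k) * (x⁻¹ * x') := by rw [← hx k hk]; group
  induction j using Nat.strong_induction_on with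
  | _ j ih =>
    rcases add3_table j hj with rfl | ⟨j', hj', k, hk, e, -⟩
    · rw [sA_zero hF hcc, one_mul, mul_one]
    · rw [← e, ← sA_step hF hcc (by omega) hk]
      exact ((show Commute (x⁻¹ * x') (sA c j') from (ih j' hj' (by omega)).symm).mul_right
        (key k hk)).symm.eq

/-- The elementary abelian subgroup is weakly closed in its normaliser. -/
theorem weak {E : Subgroup (PSU 4 K 3)} (hE : E ≤ Subgroup.normalizer (AM hF hcc : Set (PSU 4 K 3)))
    (hcard : Nat.card E = 81) (hab : ∀ x ∈ E, ∀ y ∈ E, x * y = y * x)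
    (h3 : ∀ x ∈ E, x ^ 3 = 1) : E = AM hF hcc := by
  classical
  refine Subgroup.eq_of_le_of_card_ge ?_ (by rw [hcard, card_AM hF hcc])
  set A := AM hF hcc with hA
  set N := Subgroup.normalizer (A : Set (PSU 4 K 3)) with hN
  let f : E →* N ⧸ A.subgroupOf N :=
    (QuotientGroup.mk' (A.subgroupOf N)).comp (Subgroup.inclusion hE)
  have hker : ∀ x : E, x ∈ f.ker ↔ (x : PSU 4 K 3) ∈ A := fun x =>
    (QuotientGroup.eq_one_iff _).trans Subgroup.mem_subgroupOf
  have hquot : Nat.card (N ⧸ A.subgroupOf N) = 360 := by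
    have h := Subgroup.card_eq_card_quotient_mul_card_subgroup (A.subgroupOf N)
    have hsub : Nat.card (A.subgroupOf N) = 81 := by
      rw [Nat.card_congr (Subgroup.subgroupOfEquivOfLe (show A ≤ N from Subgroup.le_normalizer)).toEquiv]
      exact card_AM hF hcc
    have hNc : Nat.card N = 29160 := (card_norm hF hcc).1
    rw [hsub, hNc] at h
    omega
  have hk : 9 ≤ Nat.card f.ker := by
    have h1 : Nat.card f.range ∣ 360 := hquot ▸ Subgroup.card_subgroup_dvd_card _
    have h2 : Nat.card f.ker * Nat.card f.range = 81 := by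
      rw [← hcard, ← Subgroup.index_ker, Subgroup.card_mul_index]
    have key : ∀ d ∈ Nat.divisors 360, d ∣ 81 → d ≤ 9 := by decide
    have h3' : Nat.card f.range ≤ 9 :=
      key _ (Nat.mem_divisors.2 ⟨h1, by norm_num⟩) (Dvd.intro_left _ h2)
    nlinarith
  have form : ∀ x : E, (x : PSU 4 K 3) ∉ A → ∃ r < 360, r ≠ 0 ∧ ord3 (lin r) = true ∧
      ∀ j < 81, (x : PSU 4 K 3) * sA c j * (x : PSU 4 K 3)⁻¹ = sA c (app (lin r) j) := by
    intro x hxA
    obtain ⟨i, hi, r, hr, e⟩ := norm_form hF hcc (hE x.2)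
    have hconj : ∀ j < 81, (x : PSU 4 K 3) * sA c j * (x : PSU 4 K 3)⁻¹ = sA c (app (lin r) j) :=
      fun j hj => by rw [e]; exact conj_form hF hcc hi hr hj
    have hr0 : r ≠ 0 := fun h => hxA (by rw [e, h, sR_zero hF hcc, mul_one]; exact mem_AM hF hcc hi)
    refine ⟨r, hr, hr0, ?_, hconj⟩
    simp only [ord3, Bool.and_eq_true, Bool.not_eq_true', beq_eq_false_iff_ne, List.all_eq_true,
      List.mem_range, beq_iff_eq]
    refine ⟨?_, fun k hk => ?_⟩
    · have h := all_range lin_values hr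
      simp only [Bool.or_eq_true, beq_iff_eq, hr0, false_or, Bool.not_eq_true',
        beq_eq_false_iff_ne] at h
      exact h
    · refine sA_inj hF hcc (app_lt _ _) (pow_lt hk) ?_
      rw [← hconj _ (app_lt _ _), ← hconj _ (img_lt (lin_mem hr) hk), ← app_pow hF hcc hr hk,
        ← hconj _ (pow_lt hk)]
      rw [show ∀ t a : PSU 4 K 3, t * (t * (t * a * t⁻¹) * t⁻¹) * t⁻¹ = (t * t * t) * a * (t * t * t)⁻¹
          from fun t a => by group, show (x : PSU 4 K 3) * x * x = 1 by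
            rw [← pow_two, ← pow_succ]; exact h3 _ x.2]
      group
  have fix : ∀ (x : E) {r : ℕ}, r < 360 →
      (∀ j < 81, (x : PSU 4 K 3) * sA c j * (x : PSU 4 K 3)⁻¹ = sA c (app (lin r) j)) →
      ∀ d : f.ker, ∀ j < 81, sA c j = (d : E).1 → app (lin r) j = j := by
    intro x r _ hconj d j hj e
    refine sA_inj hF hcc (app_lt _ _) hj ?_
    rw [← hconj j hj, e, hab _ x.2 _ (d : E).2, mul_inv_cancel_right]
  have bound : ∀ (L : List ℕ), (∀ d : f.ker, ∃ j ∈ L, j < 81 ∧ sA c j = (d : E).1) →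
      Nat.card f.ker ≤ L.length := by
    intro L h
    choose g hg hg' hg'' using h
    have hinj : Function.Injective (fun d => (⟨g d, List.mem_toFinset.2 (hg d)⟩ : L.toFinset)) := by
      intro d d' e
      have e' : g d = g d' := congrArg Subtype.val e
      exact Subtype.ext (Subtype.ext ((hg'' d).symm.trans (e' ▸ hg'' d')))
    refine (Nat.card_le_card_of_injective _ hinj).trans ?_
    rw [Nat.card_eq_fintype_card, Fintype.card_coe]
    exact List.toFinset_card_le L
  by_contra hle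
  obtain ⟨x, hxE, hxA⟩ := SetLike.not_le_iff_exists.1 hle
  obtain ⟨r, hr, -, ho, hconj⟩ := form ⟨x, hxE⟩ hxA
  have hco : ∀ d : f.ker, ∃ j < 81, sA c j = (d : E).1 := fun d => (hker d).1 d.2
  have hk9 : Nat.card f.ker ≤ 9 := by
    refine (bound (fixed (lin r)) fun d => ?_).trans ?_
    · obtain ⟨j, hj, e⟩ := hco d
      exact ⟨j, List.mem_filter.2 ⟨List.mem_range.2 hj, by simpa using fix _ hr hconj d j hj e⟩, hj, e⟩
    · have h := List.all_eq_true.1 fixed_one _ (lin_mem hr)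
      simpa [ho] using h
  -- a second element outside the span of the first
  have hex : ∃ x' : E, (x' : PSU 4 K 3) ∉ A ∧ f x' ∉ Subgroup.zpowers (f ⟨x, hxE⟩) := by
    have h2 : Nat.card f.ker * Nat.card f.range = 81 := by
      rw [← hcard, ← Subgroup.index_ker, Subgroup.card_mul_index]
    have hrange : Nat.card f.range = 9 := by
      rw [show Nat.card f.ker = 9 by omega] at h2
      omega
    have hz : Nat.card (Subgroup.zpowers (f ⟨x, hxE⟩)) ≤ 3 := by
      rw [Nat.card_zpowers]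
      refine orderOf_le_of_pow_eq_one (by norm_num) ?_
      have hx3 : (⟨x, hxE⟩ : E) ^ 3 = 1 := Subtype.ext (by
        rw [SubgroupClass.coe_pow]
        exact h3 x hxE)
      rw [← map_pow, hx3, map_one]
    have hnot : ¬ f.range ≤ Subgroup.zpowers (f ⟨x, hxE⟩) := fun h => by
      have := Nat.le_of_dvd Nat.card_pos (Subgroup.card_dvd_of_le h)
      omega
    obtain ⟨_, ⟨x', rfl⟩, hx'⟩ := SetLike.not_le_iff_exists.1 hnot
    refine ⟨x', fun h => hx' ?_, hx'⟩
    rw [MonoidHom.mem_ker.1 ((hker x').2 h)]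
    exact one_mem _
  obtain ⟨x', hx'A, hx'z⟩ := hex
  obtain ⟨r', hr', -, ho', hconj'⟩ := form x' hx'A
  have hsame : ∀ (n : ℕ), (∀ k < 4, (⟨x, hxE⟩ : E).1 ^ n * sA c (3 ^ k) * ((⟨x, hxE⟩ : E).1 ^ n)⁻¹
      = x'.1 * sA c (3 ^ k) * x'.1⁻¹) → False := by
    intro n hn
    have h := same_action hF hcc hn
    have h' : (⟨x, hxE⟩ ^ n)⁻¹ * x' ∈ f.ker := (hker _).2 h
    rw [MonoidHom.mem_ker, map_mul, map_inv, inv_mul_eq_one, map_pow] at h'
    exact hx'z (h' ▸ Subgroup.npow_mem_zpowers _ n)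
  have hmem : ∀ {l}, ord3 l = true → l ∈ linList → l ∈ ord3s := fun h hl =>
    List.mem_filter.2 ⟨hl, h⟩
  have h := List.all_eq_true.1 (List.all_eq_true.1 fixed_two _ (hmem ho (lin_mem hr))) _
    (hmem ho' (lin_mem hr'))
  simp only [Bool.or_eq_true, Bool.not_eq_true', List.all_eq_true, List.all_eq_false,
    List.mem_range, beq_iff_eq, Bool.not_eq_eq_eq_not, Bool.not_true, beq_eq_false_iff_ne] at h
  rcases h with ((h | h) | h) | h
  · obtain ⟨k, hk, hne⟩ := h
    refine hne (sA_inj hF hcc (app_lt _ _) (app_lt _ _) ?_)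
    rw [← hconj _ (img_lt (lin_mem hr') hk), ← hconj' _ (img_lt (lin_mem hr) hk),
      ← app_pow hF hcc hr hk, ← app_pow hF hcc hr' hk, ← hconj _ (pow_lt hk), ← hconj' _ (pow_lt hk)]
    calc _ = ((⟨x, hxE⟩ : E).1 * x'.1) * sA c (3 ^ k) * ((⟨x, hxE⟩ : E).1 * x'.1)⁻¹ := by group
      _ = (x'.1 * (⟨x, hxE⟩ : E).1) * sA c (3 ^ k) * (x'.1 * (⟨x, hxE⟩ : E).1)⁻¹ := by
        rw [hab _ hxE _ x'.2]
      _ = _ := by group
  · refine hsame 1 fun k hk => ?_
    rw [pow_one, hconj _ (pow_lt hk), hconj' _ (pow_lt hk), app_pow hF hcc hr hk,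
      app_pow hF hcc hr' hk, h k hk]
  · refine hsame 2 fun k hk => ?_
    rw [show (⟨x, hxE⟩ : E).1 ^ 2 * sA c (3 ^ k) * ((⟨x, hxE⟩ : E).1 ^ 2)⁻¹
        = (⟨x, hxE⟩ : E).1 * ((⟨x, hxE⟩ : E).1 * sA c (3 ^ k) * (⟨x, hxE⟩ : E).1⁻¹)
          * (⟨x, hxE⟩ : E).1⁻¹ by rw [pow_two]; group,
      hconj _ (pow_lt hk), hconj _ (app_lt _ _), hconj' _ (pow_lt hk), app_pow hF hcc hr hk,
      app_pow hF hcc hr' hk, h k hk]
  · have : Nat.card f.ker ≤ 3 := by
      refine (bound ((fixed (lin r)).filter fun i => app (lin r') i == i) fun d => ?_).trans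
        (by simpa using h)
      obtain ⟨j, hj, e⟩ := hco d
      refine ⟨j, List.mem_filter.2 ⟨List.mem_filter.2 ⟨List.mem_range.2 hj, ?_⟩, ?_⟩, hj, e⟩
      · simpa using fix _ hr hconj d j hj e
      · simpa using fix _ hr' hconj' d j hj e
    omega

end model

end Cfsg.Agent.U43LineWeak40
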