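import Cfsg.Agent.Lib.SuzY42Quotient
import Cfsg.Agent.Lib.U43LineWeak40
import Cfsg.Agent.Lib.U43CoreFacts40

/-!
Lifting the elementary abelian subgroup of order 81 of `PSU₄(3)` to the centraliser of the element
`y` of order three in a group of Suzuki sporadic type, and the elements of the lift conjugate to `y`
or its inverse.
-/

set_option autoImplicit false
set_option linter.unusedSectionVars false
set_option maxRecDepth 100000
set_option maxHeartbeats 400000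

namespace Cfsg.Agent.SuzM11Lift40

open Subgroup Cfsg.Agent.SuzY42Setup Cfsg.Agent.SuzY42Quotient
open Cfsg.Agent.U43LineFacts40 Cfsg.Agent.U43CoreFacts40 Cfsg.Agent.U43LineWeak40
open Cfsg.Agent.U43LineCheck40 (add3 roots std app lin)
open Cfsg.Agent.SuzTypeCoord62 (Sing Sx)

variable {G : Type*} [Group G] [Finite G] {Q : Subgroup G} {z y : G} (Y : Yd Q z y)
  {K : Type} [Field K] [Fintype K] (hF : Fintype.card K = 3 ^ 2) {c : K} (hcc : c * c = -1)
  (θ : CY y ⧸ N y ≃* Cfsg.PSU 4 K 3) (hθ : θ (zb Y) = sZ c)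

/-- The projection onto `PSU₄(3)`. -/
def pi : CY y →* Cfsg.PSU 4 K 3 := θ.toMonoidHom.comp (pr y)

theorem pi_surj : Function.Surjective (pi θ) := θ.surjective.comp (pr_surj y)

theorem pi_eq_one {l : CY y} : pi θ l = 1 ↔ (l : G) ∈ zpowers y := by
  rw [← pr_eq_one]
  exact map_eq_one_iff θ θ.injective

theorem pi_eq {l l' : CY y} : pi θ l = pi θ l' ↔ (l : G)⁻¹ * l' ∈ zpowers y := by
  rw [← pr_eq]
  exact θ.injective.eq_iff

theorem pi_ker : (pi θ).ker = N y := by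
  ext l
  rw [MonoidHom.mem_ker, pi_eq_one, mem_subgroupOf]

/-- An element of `C(y)` centralising `z` and `[Q, y]`. -/
def Fx (Q : Subgroup G) (z y : G) (l : CY y) : Prop :=
  (l : G) * z = z * l ∧ ∀ w ∈ ⁅Q, zpowers y⁆, Commute (l : G) w

theorem Fx.mul {l l' : CY y} (h : Fx Q z y l) (h' : Fx Q z y l') : Fx Q z y (l * l') :=
  ⟨((show Commute (l : G) z from h.1).mul_left h'.1).eq, fun w hw => (h.2 w hw).mul_left (h'.2 w hw)⟩

theorem Fx.inv {l : CY y} (h : Fx Q z y l) : Fx Q z y l⁻¹ :=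
  ⟨(show Commute (l : G) z from h.1).inv_left.eq, fun w hw => (h.2 w hw).inv_left⟩

theorem fx_one : Fx Q z y (1 : CY y) := ⟨by simp, fun w _ => Commute.one_left w⟩

theorem exists_pow {k : G} (hk : k ∈ zpowers y) : ∃ t : ℕ, k = y ^ t := by
  obtain ⟨t, ht⟩ := mem_powers_iff_mem_zpowers.2 hk
  exact ⟨t, ht.symm⟩

theorem comm_y (l : CY y) : Commute y (l : G) := (mem_CY.1 l.2).symm

/-- `y` as an element of its centraliser. -/
def yc (y : G) : CY y := ⟨y, mem_CY.2 rfl⟩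

theorem pi_yc (t : ℕ) : pi θ (yc y ^ t) = 1 :=
  (pi_eq_one θ).2 (by rw [SubgroupClass.coe_pow]; exact pow_mem (mem_zpowers y) t)

include Y

theorem ord_y : orderOf y = 3 := orderOf_eq_prime Y.y3 Y.y1

theorem fx_unique {l l' : CY y} (h : Fx Q z y l) (h' : Fx Q z y l') (e : pi θ l = pi θ l') :
    l = l' := by
  have hk : (l : G)⁻¹ * l' ∈ zpowers y := (pi_eq θ).1 e
  exact Subtype.ext (inv_mul_eq_one.1 (k_W Y hk fun w hw =>
    ((h.2 w hw).inv_left.mul_left (h'.2 w hw)).eq))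

theorem exists_adjust {l : G} (hly : l * y = y * l) (hlz : l * z = z * l) :
    ∃ i : ℕ, ∀ w ∈ ⁅Q, zpowers y⁆, Commute ((y ^ i)⁻¹ * l) w := by
  obtain ⟨i, hi⟩ := Y.adjust_W hlz hly
  obtain ⟨xw, yw, q, -⟩ := Y.exists_quat_W
  obtain ⟨w, hw, hwc⟩ := q.inner hi
  set p := (y ^ i)⁻¹ * l with hp
  have hpy : Commute y p := (Commute.self_pow y i).inv_right.mul_right (show Commute l y from hly).symm
  set v := y * w * y⁻¹ with hv
  have hvW : v ∈ ⁅Q, zpowers y⁆ := Y.y_W hw Y.yz rfl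
  have hvc : ∀ g ∈ ⁅Q, zpowers y⁆, Commute (v⁻¹ * p) g := by
    intro g hg
    have hy' : y⁻¹ * g * y ∈ ⁅Q, zpowers y⁆ := by
      have := Y.y_W hg (l := y⁻¹) (show Commute y z from Y.yz).inv_left.eq
        (Commute.refl y).inv_left.eq
      rwa [inv_inv] at this
    have h := (show Commute (w⁻¹ * p) (y⁻¹ * g * y) from hwc _ hy')
    have e1 : v⁻¹ * p = y * (w⁻¹ * p) * y⁻¹ := by
      rw [hv, show y * (w⁻¹ * p) * y⁻¹ = y * w⁻¹ * (p * y⁻¹) by group, ← hpy.inv_left.eq]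
      group
    have := h.map (MulAut.conj y).toMonoidHom
    simp only [MulEquiv.coe_toMonoidHom, MulAut.conj_apply] at this
    rwa [← e1, show y * (y⁻¹ * g * y) * y⁻¹ = g by group] at this
  have hdiff : ∀ g ∈ ⁅Q, zpowers y⁆, g * (v⁻¹ * w) = (v⁻¹ * w) * g := by
    intro g hg
    have := (hvc g hg).mul_left (show Commute (w⁻¹ * p) g from hwc g hg).inv_left
    rw [show v⁻¹ * p * (w⁻¹ * p)⁻¹ = v⁻¹ * w by group] at this
    exact this.eq.symm
  have hwy : v = w := by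
    rcases Y.ext_W.central (mul_mem (inv_mem hvW) hw) (fun g hg => hdiff g hg) with e | e
    · exact inv_mul_eq_one.1 e
    · exfalso
      have e' : w = v * z := inv_mul_eq_iff_eq_mul.1 e
      have hyz : Commute y z := Y.yz
      have s1 : y * w * y⁻¹ = w * z := by
        rw [← hv, e', mul_assoc, Y.H.h.zz, mul_one]
      have hz1 : y * z * y⁻¹ = z := by rw [hyz.eq, mul_inv_cancel_right]
      have s2 : y * (w * z) * y⁻¹ = w := by
        rw [show y * (w * z) * y⁻¹ = (y * w * y⁻¹) * (y * z * y⁻¹) by group, s1, hz1, mul_assoc,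
          Y.H.h.zz, mul_one]
      have s3 : y ^ 3 * w * (y ^ 3)⁻¹ = w * z := by
        rw [show y ^ 3 * w * (y ^ 3)⁻¹ = y * (y * (y * w * y⁻¹) * y⁻¹) * y⁻¹ by
          rw [pow_succ, pow_two]; group, s1, s2, s1]
      rw [Y.y3, one_mul, inv_one, mul_one] at s3
      exact Y.H.h.ne_one (mul_left_cancel (s3.symm.trans (mul_one w).symm))
  have hwy' : y * w = w * y := mul_inv_eq_iff_eq_mul.1 hwy
  refine ⟨i, fun g hg => ?_⟩
  have hwcent : Commute w g := by
    rcases Y.inter (Y.mem_Q₀.2 ⟨Y.W_le hw, hwy'⟩) hw with e | e <;> rw [e]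
    · exact Commute.one_left g
    · exact (show Commute g z from Y.H.h.comm g (Y.W_le hg)).symm
  show Commute p g
  rw [show p = w * (w⁻¹ * p) by group]
  exact hwcent.mul_left (hwc g hg)

include hθ

theorem exists_fx {m : Cfsg.PSU 4 K 3} (hm : Commute (sZ c) m) :
    ∃ l : CY y, pi θ l = m ∧ Fx Q z y l := by
  obtain ⟨l, hl, hlz⟩ := lift_z Y (c := θ.symm m) (by
    apply θ.injective
    rw [map_mul, map_mul, MulEquiv.apply_symm_apply, hθ, hm.eq])
  obtain ⟨i, hi⟩ := exists_adjust Y (mem_CY.1 l.2) hlz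
  refine ⟨(yc y ^ i)⁻¹ * l, ?_, ?_, fun w hw => ?_⟩
  · rw [map_mul, map_inv, pi_yc, inv_one, one_mul]
    show θ (pr y l) = m
    rw [hl, MulEquiv.apply_symm_apply]
  · show (((yc y ^ i)⁻¹ * l : CY y) : G) * z = z * _
    rw [Subgroup.coe_mul, Subgroup.coe_inv, SubgroupClass.coe_pow]
    exact (((show Commute y z from Y.yz).pow_left i).inv_left.mul_left hlz).eq
  · rw [Subgroup.coe_mul, Subgroup.coe_inv, SubgroupClass.coe_pow]
    exact hi w hw

include hF hcc

/-- The image of `C_Q(y)`. -/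
theorem core_data :
    Nat.card ↥(centralizer ({sZ c} : Set (Cfsg.PSU 4 K 3))) = 1152 ∧
      ((emb Y).range.map θ.toMonoidHom) ≤ centralizer ({sZ c} : Set (Cfsg.PSU 4 K 3)) ∧
      Nat.card ↥((emb Y).range.map θ.toMonoidHom) = 32 ∧
      ∀ g ∈ centralizer ({sZ c} : Set (Cfsg.PSU 4 K 3)), ∀ t ∈ (emb Y).range.map θ.toMonoidHom,
        g * t * g⁻¹ ∈ (emb Y).range.map θ.toMonoidHom := by
  refine ⟨?_, ?_, ?_, ?_⟩
  · have e : (centralizer ({zb Y} : Set (CY y ⧸ N y))).map θ.toMonoidHom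
        = centralizer ({sZ c} : Set (Cfsg.PSU 4 K 3)) := by
      ext m
      rw [mem_map_equiv, mem_centralizer_singleton_iff, mem_centralizer_singleton_iff]
      constructor
      · intro h
        have := congrArg θ h
        rwa [map_mul, map_mul, MulEquiv.apply_symm_apply, hθ] at this
      · intro h
        apply θ.injective
        rw [map_mul, map_mul, MulEquiv.apply_symm_apply, hθ, h]
    rw [← e, card_map_of_injective θ.injective, card_centralizer Y]
  · rintro _ ⟨_, ⟨q, rfl⟩, rfl⟩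
    rw [mem_centralizer_singleton_iff, ← hθ]
    show θ (emb Y q) * θ (zb Y) = θ (zb Y) * θ (emb Y q)
    rw [← map_mul, ← map_mul, mem_centralizer_singleton_iff.1 (emb_mem Y q)]
  · rw [card_map_of_injective θ.injective, ← Y.card_Q₀]
    exact (Nat.card_congr (MonoidHom.ofInjective (emb_inj Y)).toEquiv).symm
  · rintro g hg _ ⟨_, ⟨q, rfl⟩, rfl⟩
    obtain ⟨l, rfl, hl⟩ := exists_fx Y θ hθ
      (m := g) (mem_centralizer_singleton_iff.1 hg).symm
    refine ⟨emb Y ⟨(l : G) * q * (l : G)⁻¹, Y.H.h.norm _ hl.1 _ q.2.1,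
      (CY y).mul_mem ((CY y).mul_mem l.2 (Q₀_CY Y q.2)) ((CY y).inv_mem l.2)⟩, ⟨_, rfl⟩, ?_⟩
    show θ (pr y (l * Subgroup.inclusion (Q₀_CY Y) q * l⁻¹)) = pi θ l * θ (emb Y q) * (pi θ l)⁻¹
    rw [map_mul, map_mul, map_inv, map_mul, map_mul, map_inv]
    rfl

theorem card_Q₀_fix {l : CY y} (hl : Fx Q z y l) {e : ℕ} (he : e ∈ std) (hle : pi θ l = sA c e) :
    Nat.card ↥(Q ⊓ centralizer (zpowers y : Set G) ⊓ centralizer ({(l : G)} : Set G))
      = if e < 3 then 8 else 2 := by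
  obtain ⟨hC, h1, h2, h3⟩ := core_data Y hF hcc θ hθ
  rw [← card_cent hF hcc hC h1 h2 h3 he]
  set Q₀ := Q ⊓ centralizer (zpowers y : Set G) with hQ₀
  have key : ∀ q : Q₀, θ (emb Y q) * sA c e = sA c e * θ (emb Y q) ↔ (q : G) * l = l * q := by
    intro q
    rw [← hle, eq_comm, eq_comm (a := (q : G) * l), ← emb_comm_iff Y hl.1 q]
    show θ (pr y l) * θ (emb Y q) = θ (emb Y q) * θ (pr y l) ↔ _
    rw [← map_mul, ← map_mul]
    exact θ.injective.eq_iff
  have e' : ((Q₀ ⊓ centralizer ({(l : G)} : Set G)).subgroupOf Q₀).map (θ.toMonoidHom.comp (emb Y))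
      = (emb Y).range.map θ.toMonoidHom ⊓ centralizer ({sA c e} : Set (Cfsg.PSU 4 K 3)) := by
    ext m
    constructor
    · rintro ⟨q, hq, rfl⟩
      exact ⟨⟨_, ⟨q, rfl⟩, rfl⟩, mem_centralizer_singleton_iff.2
        ((key q).2 (mem_centralizer_singleton_iff.1 (mem_subgroupOf.1 hq).2))⟩
    · rintro ⟨⟨_, ⟨q, rfl⟩, rfl⟩, hm⟩
      exact ⟨q, mem_subgroupOf.2 ⟨q.2, mem_centralizer_singleton_iff.2
        ((key q).1 (mem_centralizer_singleton_iff.1 hm))⟩, rfl⟩
  have hinj : Function.Injective (θ.toMonoidHom.comp (emb Y)) := θ.injective.comp (emb_inj Y)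
  rw [← e', card_map_of_injective hinj]
  exact (Nat.card_congr (subgroupOfEquivOfLe inf_le_left).toEquiv).symm

theorem card_CQ_lt {l : CY y} (hl : Fx Q z y l) {e : ℕ} (he : e ∈ std) (hle : pi θ l = sA c e)
    (hl3 : (l : G) ^ 3 = 1) {t : ℕ} (h : t % 3 ≠ 0 ∨ 3 ≤ e) :
    Nat.card ↥(Q ⊓ centralizer ({y ^ t * (l : G)} : Set G)) < 32 := by
  set Q₀ := Q ⊓ centralizer (zpowers y : Set G) with hQ₀
  have hfix := card_Q₀_fix Y hF hcc θ hθ hl he hle
  set D := Q₀ ⊓ centralizer ({(l : G)} : Set G) with hD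
  have split : ∀ q ∈ Q ⊓ centralizer ({y ^ t * (l : G)} : Set G),
      ∃ cc ∈ D, ∃ w ∈ ⁅Q, zpowers y⁆, y ^ t * w = w * y ^ t ∧ q = cc * w := by
    rintro q ⟨hq, hqc⟩
    obtain ⟨cc, hc, w, hw, rfl⟩ := LargeExtraspecialAct.decompose Y.H.h.toExt Y.act Y.odd_y hq
    have e1 := mem_centralizer_singleton_iff.1 hqc
    have hcy : Commute (y ^ t) cc := (show Commute y cc from (Y.mem_Q₀.1 hc).2).pow_left t
    have hc' : (l : G) * cc * (l : G)⁻¹ ∈ Q₀ := ⟨Y.H.h.norm _ hl.1 _ hc.1,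
      (CY y).mul_mem ((CY y).mul_mem l.2 (Q₀_CY Y hc)) ((CY y).inv_mem l.2)⟩
    have hyz : Commute (y ^ t) z := (show Commute y z from Y.yz).pow_left t
    have hw' : y ^ t * w * (y ^ t)⁻¹ ∈ ⁅Q, zpowers y⁆ :=
      Y.y_W hw hyz.eq ((Commute.refl y).pow_left t).eq
    have hcy' : Commute (y ^ t) ((l : G) * cc * (l : G)⁻¹) :=
      (show Commute y _ from (Y.mem_Q₀.1 hc').2).pow_left t
    have e2 : (l : G) * cc * (l : G)⁻¹ * (y ^ t * w * (y ^ t)⁻¹) = cc * w := by
      have hlw : (l : G) * w * (l : G)⁻¹ = w := by rw [(hl.2 w hw).eq, mul_inv_cancel_right]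
      calc (l : G) * cc * (l : G)⁻¹ * (y ^ t * w * (y ^ t)⁻¹)
          = y ^ t * ((l : G) * cc * (l : G)⁻¹ * ((l : G) * w * (l : G)⁻¹)) * (y ^ t)⁻¹ := by
            rw [hlw, ← mul_assoc (y ^ t) _ w, hcy'.eq]; group
        _ = y ^ t * (l : G) * (cc * w) * (y ^ t * (l : G))⁻¹ := by group
        _ = cc * w := by rw [← e1, mul_inv_cancel_right]
    rcases Y.fibre hc' hc hw' hw e2 with ⟨d1, d2⟩ | ⟨d1, -⟩
    · exact ⟨cc, ⟨hc, mem_centralizer_singleton_iff.2 (mul_inv_eq_iff_eq_mul.1 d1).symm⟩, w, hw,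
        mul_inv_eq_iff_eq_mul.1 d2, rfl⟩
    · exfalso
      have hlz : (l : G) * z * (l : G)⁻¹ = z := by rw [hl.1, mul_inv_cancel_right]
      have s2 : (l : G) * (z * cc) * (l : G)⁻¹ = cc := by
        rw [show (l : G) * (z * cc) * (l : G)⁻¹ = (l : G) * z * (l : G)⁻¹ * ((l : G) * cc * (l : G)⁻¹)
          by group, hlz, d1, ← mul_assoc, Y.H.h.zz, one_mul]
      have s : (l : G) ^ 3 * cc * ((l : G) ^ 3)⁻¹ = z * cc := by
        rw [show (l : G) ^ 3 * cc * ((l : G) ^ 3)⁻¹ =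
          (l : G) * ((l : G) * ((l : G) * cc * (l : G)⁻¹) * (l : G)⁻¹) * (l : G)⁻¹ by
            rw [pow_succ, pow_two]; group, d1, s2, d1]
      rw [hl3, one_mul, inv_one, mul_one] at s
      exact Y.H.h.ne_one (mul_right_cancel (s.symm.trans (one_mul cc).symm))
  rcases Nat.eq_zero_or_pos (t % 3) with ht | ht
  · have he3 : 3 ≤ e := h.resolve_left (by simp [ht])
    rw [if_neg (by omega)] at hfix
    let f : D × ↥⁅Q, zpowers y⁆ → G := fun p => (p.1 : G) * p.2
    have hsub : (Q ⊓ centralizer ({y ^ t * (l : G)} : Set G) : Subgroup G).carrier ⊆ Set.range f := by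
      intro q hq
      obtain ⟨cc, hc, w, hw, -, rfl⟩ := split q hq
      exact ⟨⟨⟨cc, hc⟩, ⟨w, hw⟩⟩, rfl⟩
    have hr : (Set.range f).ncard ≤ 16 := by
      rw [← Nat.card_coe_set_eq]
      refine (Finite.card_range_le f).trans ?_
      rw [Nat.card_prod, hfix, Y.cardW]
    have := Set.ncard_le_ncard hsub (Set.toFinite _)
    rw [← Nat.card_coe_set_eq] at this
    exact lt_of_le_of_lt (le_trans this hr) (by norm_num)
  · have hle' : Q ⊓ centralizer ({y ^ t * (l : G)} : Set G) ≤ D := by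
      intro q hq
      obtain ⟨cc, hc, w, hw, hyw, rfl⟩ := split q hq
      have hy : y * w = w * y := by
        have hc1 : Commute (y ^ t) w := hyw
        have h3 : y ^ t = y ^ (t % 3) := by rw [← ord_y Y, pow_mod_orderOf]
        rcases (by omega : t % 3 = 1 ∨ t % 3 = 2) with e | e <;> rw [h3, e] at hc1
        · rwa [pow_one] at hc1
        · have h4 : (y ^ 2) ^ 2 = y := by rw [← pow_mul, pow_succ, Y.y3, one_mul]
          exact h4 ▸ (hc1.pow_left 2).eq
      have hcz : z ∈ D := ⟨Y.ext_Q₀.mem, mem_centralizer_singleton_iff.2 hl.1.symm⟩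
      rcases Y.inter (Y.mem_Q₀.2 ⟨Y.W_le hw, hy⟩) hw with rfl | rfl
      · rw [mul_one]; exact hc
      · exact mul_mem hc hcz
    have := (Subgroup.card_le_card_group (Q ⊓ centralizer ({y ^ t * (l : G)} : Set G))).trans le_rfl
    calc Nat.card ↥(Q ⊓ centralizer ({y ^ t * (l : G)} : Set G))
        ≤ Nat.card D := Nat.le_of_dvd Nat.card_pos (card_dvd_of_le hle')
      _ < 32 := by rw [hfix]; split_ifs <;> norm_num

/-- Conjugate in `G` to `y` or its inverse. -/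
def Good (y a : G) : Prop := ∃ g : G, g * a * g⁻¹ = y ∨ g * a * g⁻¹ = y⁻¹

omit hF hcc hθ Y in
theorem Good.conj {a : G} (h : Good y a) (k : G) : Good y (k * a * k⁻¹) := by
  obtain ⟨g, hg⟩ := h
  exact ⟨g * k⁻¹, by rwa [show g * k⁻¹ * (k * a * k⁻¹) * (g * k⁻¹)⁻¹ = g * a * g⁻¹ by group]⟩

omit hF hcc hθ Y in
theorem Good.of_conj {a : G} (k : G) (h : Good y (k * a * k⁻¹)) : Good y a := by
  have := h.conj k⁻¹
  rwa [show k⁻¹ * (k * a * k⁻¹) * k⁻¹⁻¹ = a by group] at this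

omit hF hcc hθ Y in
theorem Good.inv {a : G} (h : Good y a) : Good y a⁻¹ := by
  obtain ⟨g, hg⟩ := h
  refine ⟨g, ?_⟩
  rw [show g * a⁻¹ * g⁻¹ = (g * a * g⁻¹)⁻¹ by group]
  rcases hg with e | e <;> rw [e]
  · exact Or.inr rfl
  · exact Or.inl (inv_inv y)

theorem good_CQ {a : G} (hay : a * y = y * a) (haz : a * z = z * a) (hg : Good y a) :
    Nat.card ↥(Q ⊓ centralizer ({a} : Set G)) = 32 := by
  obtain ⟨g, hg⟩ := hg
  set u := g * z * g⁻¹ with hu
  have huy : u * y = y * u := by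
    have h1 : Commute a z := haz
    have h2 : Commute (g * a * g⁻¹) u := by
      show g * a * g⁻¹ * (g * z * g⁻¹) = g * z * g⁻¹ * (g * a * g⁻¹)
      rw [show g * a * g⁻¹ * (g * z * g⁻¹) = g * (a * z) * g⁻¹ by group, h1.eq]; group
    rcases hg with e | e <;> rw [e] at h2
    · exact h2.symm.eq
    · exact (Commute.inv_left_iff.1 h2).symm.eq
  have hu2 : u * u = 1 := by
    rw [hu, show g * z * g⁻¹ * (g * z * g⁻¹) = g * (z * z) * g⁻¹ by group, Y.H.h.zz]; group
  set uc : CY y := ⟨u, mem_CY.2 huy⟩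
  have ho : orderOf (pi θ uc) = 2 := by
    refine orderOf_eq_prime ?_ fun e => ?_
    · rw [← map_pow, ← map_one (pi θ)]
      exact congrArg _ (Subtype.ext (by rw [SubgroupClass.coe_pow, pow_two]; exact hu2))
    · exact Y.H.h.ne_one (conj_eq_one_iff.1 (k_two Y ((pi_eq_one θ).1 e) hu2))
  obtain ⟨m, hm⟩ := isConj_iff.1 (U43Type38Facts22.isConj_PSU hF (pi θ uc) (sZ c) ho
    (orderOf_sZ hF hcc))
  obtain ⟨h, rfl⟩ := pi_surj θ m
  have hz' : z = (h : G) * u * (h : G)⁻¹ := by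
    have hp : pi θ ⟨z, z_mem Y⟩ = pi θ (h * uc * h⁻¹) := by
      rw [map_mul, map_mul, map_inv, hm, ← hθ, zb_eq]
      rfl
    refine eq_of_four Y (Y.H.h.pow_four Y.H.h.mem) ?_ Y.yz.symm ((pi_eq θ).1 hp)
    show ((h : G) * u * (h : G)⁻¹) ^ 4 = 1
    rw [conj_pow, show u ^ 4 = 1 by rw [pow_succ, pow_succ, pow_two, hu2, one_mul, hu2], mul_one,
      mul_inv_cancel]
  set k := (h : G) * g with hk
  have hkz : k * z = z * k := by
    conv_rhs => rw [hz', hu]
    rw [hk]; group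
  have hka : k * a * k⁻¹ = y ∨ k * a * k⁻¹ = y⁻¹ := by
    have hh : (h : G) * y = y * h := mem_CY.1 h.2
    rw [show k * a * k⁻¹ = (h : G) * (g * a * g⁻¹) * (h : G)⁻¹ by rw [hk]; group]
    rcases hg with e | e <;> rw [e]
    · exact Or.inl (by rw [hh, mul_inv_cancel_right])
    · exact Or.inr (by rw [(show Commute (h : G) y from hh).inv_right.eq, mul_inv_cancel_right])
  have hC : centralizer ({k * a * k⁻¹} : Set G) = centralizer (zpowers y : Set G) := by
    rw [zpowers_eq_closure, centralizer_closure]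
    ext x
    rw [mem_centralizer_singleton_iff, mem_centralizer_singleton_iff]
    rcases hka with e | e <;> rw [e]
    exact ⟨fun h' => (Commute.inv_right_iff.1 h'), fun h' => Commute.inv_right h'⟩
  have hmap : (Q ⊓ centralizer ({a} : Set G)).map (MulAut.conj k).toMonoidHom
      = Q ⊓ centralizer (zpowers y : Set G) := by
    rw [← hC]
    ext x
    rw [mem_map_equiv, MulAut.conj_symm_apply]
    simp only [mem_inf, mem_centralizer_singleton_iff]
    refine and_congr ⟨fun h1 => ?_, fun h1 => ?_⟩ ⟨fun h1 => ?_, fun h1 => ?_⟩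
    · have := Y.H.h.norm k hkz _ h1
      rwa [show k * (k⁻¹ * x * k) * k⁻¹ = x by group] at this
    · have := Y.H.h.norm k⁻¹ (show Commute k z from hkz).inv_left.eq _ h1
      rwa [inv_inv] at this
    · calc x * (k * a * k⁻¹) = k * ((k⁻¹ * x * k) * a) * k⁻¹ := by group
        _ = k * a * k⁻¹ * x := by rw [h1]; group
    · calc (k⁻¹ * x * k) * a = k⁻¹ * (x * (k * a * k⁻¹)) * k := by group
        _ = a * (k⁻¹ * x * k) := by rw [h1]; group
  rw [← Y.card_Q₀, ← hmap, card_map_of_injective (MulAut.conj k).injective]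

/-- The fixed lift of a coordinate. -/
theorem exists_lift {e : ℕ} (he : e ∈ std ∨ e = 3 ∨ e = 6) :
    ∃ l : CY y, pi θ l = sA c e ∧ Fx Q z y l ∧ (l : G) ^ 3 = 1 := by
  have he81 : e < 81 := by
    rcases he with he | rfl | rfl
    · rcases std_cases he with rfl | rfl | rfl | rfl | rfl | rfl <;> norm_num
    · norm_num
    · norm_num
  obtain ⟨l, hl, hfx⟩ := exists_fx Y θ hθ (comm_std hF hcc he)
  refine ⟨l, hl, hfx, ?_⟩
  have : l ^ 3 = 1 := fx_unique Y θ ((hfx.mul hfx).mul hfx |> fun h => by rwa [pow_succ, pow_two])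
    fx_one (by rw [map_pow, hl, AM_three hF hcc (mem_AM hF hcc he81), map_one])
  rw [← SubgroupClass.coe_pow, this]
  rfl

theorem good_lift {l : CY y} (hl : Fx Q z y l) (hle : pi θ l = sA c 1 ∨ pi θ l = sA c 2) :
    Good y (l : G) := by
  suffices h1 : ∀ l : CY y, Fx Q z y l → pi θ l = sA c 1 → Good y (l : G) by
    rcases hle with e | e
    · exact h1 l hl e
    · have h := h1 l⁻¹ hl.inv (by
        rw [map_inv, e, sA_inv hF hcc (by norm_num : 2 < 81)]; rfl)
      rw [Subgroup.coe_inv] at h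
      simpa using h.inv
  intro l hl hle
  obtain ⟨l', hl', hfx', hl3⟩ := exists_lift Y hF hcc θ hθ (e := 1) (Or.inl (by simp [std]))
  obtain rfl := fx_unique Y θ hl hfx' (hle.trans hl'.symm)
  obtain ⟨hC, h1, h2, h3⟩ := core_data Y hF hcc θ hθ
  obtain ⟨t, ⟨_, ⟨q, rfl⟩, rfl⟩, htt, htc⟩ := exists_four hF hcc hC h1 h2 h3
  have hqq : (q : G) * q = z := by
    have : emb Y (q * q) = zb Y := θ.injective (by rw [map_mul, map_mul, hθ]; exact htt)
    exact congrArg Subtype.val (emb_inj Y this)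
  have hql : (l : G) * q = q * l := by
    refine (emb_comm_iff Y hl.1 q).1 (θ.injective ?_)
    rw [map_mul, map_mul]
    show pi θ l * _ = _ * pi θ l
    rw [hle]
    exact htc.symm
  obtain ⟨xw, yw, qW, -⟩ := Y.exists_quat_W
  have hcw : Commute (q : G) xw := Y.comm_W q.2 qW.hx
  set v := (q : G) * xw with hv
  have hvv : v * v = 1 := by
    rw [hv, hcw.symm.mul_mul_mul_comm, hqq, qW.xx, Y.H.h.zz]
  have hne : ∀ d, (d = 1 ∨ d = z) → v ≠ d := by
    intro d hd e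
    have hdW : d ∈ ⁅Q, zpowers y⁆ := by rcases hd with rfl | rfl; exacts [one_mem _, Y.z_mem_W]
    have hqW : (q : G) ∈ ⁅Q, zpowers y⁆ := by
      rw [eq_mul_inv_of_mul_eq (hv.symm.trans e)]
      exact mul_mem hdW (inv_mem qW.hx)
    rcases Y.inter q.2 hqW with e' | e' <;> rw [e'] at hqq
    · exact Y.H.h.ne_one (hqq.symm.trans (one_mul 1))
    · exact Y.H.h.ne_one (hqq.symm.trans Y.H.h.zz)
  have hsing : Sing Q z v :=
    ⟨mul_mem q.2.1 (Y.W_le qW.hx), hvv, hne 1 (Or.inl rfl), hne z (Or.inr rfl)⟩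
  have hlv : (l : G) * v = v * l :=
    ((show Commute (l : G) q from hql).mul_right (hl.2 xw qW.hx)).eq
  have hlS : (l : G) ∈ Sx z v := SuzTypeCoord62.mem_Sx.2 ⟨hl.1, hlv⟩
  obtain ⟨t0, ht0, hyt0⟩ := Y.exists_sing
  obtain ⟨γ, hγz, hγ⟩ := Y.H.transitive ht0 hsing
  have hyS : γ * y * γ⁻¹ ∈ Sx z v := by
    refine SuzTypeCoord62.mem_Sx.2 ⟨(((show Commute γ z from hγz).mul_left Y.yz).mul_left
      (show Commute γ z from hγz).inv_left).eq, ?_⟩
    rw [← hγ]
    calc γ * y * γ⁻¹ * (γ * t0 * γ⁻¹) = γ * (y * t0) * γ⁻¹ := by group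
      _ = γ * t0 * γ⁻¹ * (γ * y * γ⁻¹) := by rw [hyt0]; group
  have hl1 : (l : G) ≠ 1 := fun e => by
    have : sA c 1 = sA c 0 := by
      rw [← hle, show l = 1 from Subtype.ext e, map_one, sA_zero hF hcc]
    exact absurd (sA_inj hF hcc (by norm_num) (by norm_num) this) (by norm_num)
  obtain ⟨s, -, hs⟩ := conj_three_sub (Y.nine hsing) hlS hyS hl3 hl1
    (by rw [conj_pow, Y.y3, mul_one, mul_inv_cancel]) (fun e => Y.y1 (conj_eq_one_iff.1 e))
  refine ⟨γ⁻¹ * s, ?_⟩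
  rw [show γ⁻¹ * s * (l : G) * (γ⁻¹ * s)⁻¹ = γ⁻¹ * (s * (l : G) * s⁻¹) * γ by group]
  rcases hs with e | e <;> rw [e]
  · exact Or.inl (by group)
  · exact Or.inr (by group)

theorem good_form {a : CY y} {e : ℕ} (he : e ∈ std) (hae : pi θ a = sA c e)
    (hg : Good y (a : G)) : e < 3 ∧ Fx Q z y a := by
  obtain ⟨l, hl, hfx, hl3⟩ := exists_lift Y hF hcc θ hθ (Or.inl he)
  obtain ⟨t, ht⟩ := exists_pow ((pi_eq θ).1 (hl.trans hae.symm))
  have ha : (a : G) = y ^ t * l := by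
    rw [← ((comm_y l).pow_left t).symm.eq, ← ht, mul_inv_cancel_left]
  have haz : (a : G) * z = z * a := by
    rw [ha]; exact (((show Commute y z from Y.yz).pow_left t).mul_left hfx.1).eq
  have h32 := good_CQ Y hF hcc θ hθ (mem_CY.1 a.2) haz hg
  by_cases h : t % 3 ≠ 0 ∨ 3 ≤ e
  · have := card_CQ_lt Y hF hcc θ hθ hfx he hl hl3 h
    rw [← ha, h32] at this
    omega
  · push Not at h
    refine ⟨h.2, ?_⟩
    have : y ^ t = 1 := by rw [← pow_mod_orderOf, ord_y Y, h.1, pow_zero]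
    have hal : a = l := Subtype.ext (by rw [ha, this, one_mul])
    rw [hal]; exact hfx

end Cfsg.Agent.SuzM11Lift40
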