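import Cfsg.Agent.Lib.SuzM11Abelian40
import Cfsg.Agent.Lib.M11Eleven40
import Cfsg.Agent.Lib.M11Unique99Main
import Cfsg.Agent.Lib.GolaySimple
import Cfsg.Prelude.Def_Spor_Mathieu

/-!
The normaliser of the elementary abelian subgroup of order 243 in a group of Suzuki sporadic type:
its order, the simplicity of the quotient of order 7920 and a Sylow 3-subgroup of the whole group.
-/

set_option autoImplicit false
set_option linter.unusedSectionVars false
set_option maxRecDepth 100000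
set_option maxHeartbeats 400000

namespace Cfsg.Agent.SuzM11Norm40

open Subgroup Cfsg.Agent.SuzY42Setup Cfsg.Agent.SuzY42Quotient Cfsg.Agent.SuzM11Lift40
open Cfsg.Agent.SuzM11Abelian40
open Cfsg.Agent.U43LineFacts40 Cfsg.Agent.U43CoreFacts40 Cfsg.Agent.U43LineWeak40
open Cfsg.Agent.U43LineCheck40 (add3 roots std app lin)

variable {G : Type*} [Group G] [Finite G] {Q : Subgroup G} {z y : G} (Y : Yd Q z y)
  {K : Type} [Field K] [Fintype K] (hF : Fintype.card K = 3 ^ 2) {c : K} (hcc : c * c = -1)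
  (θ : CY y ⧸ N y ≃* Cfsg.PSU 4 K 3) (hθ : θ (zb Y) = sZ c)

/-- The normaliser of the abelian subgroup. -/
noncomputable def NG : Subgroup G := normalizer (AG hF hcc θ : Set G)

include Y hF hcc hθ

theorem mem_norm_iff (l : CY y) :
    (l : G) ∈ NG hF hcc θ ↔ pi θ l ∈ normalizer (AM hF hcc : Set (Cfsg.PSU 4 K 3)) := by
  constructor
  · intro hl
    refine mem_normalizer_fintype fun m hm => ?_
    obtain ⟨a, rfl⟩ := pi_surj θ m
    have := (mem_normalizer_iff.1 hl (a : G)).1 ⟨a, hm, rfl⟩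
    obtain ⟨b, hb, e⟩ := this
    rw [← map_inv, ← map_mul, ← map_mul]
    rwa [show l * a * l⁻¹ = b from Subtype.ext e.symm]
  · intro hl
    refine mem_normalizer_fintype fun a ha => ?_
    obtain ⟨b, hb, rfl⟩ := ha
    refine ⟨l * b * l⁻¹, ?_, rfl⟩
    show pi θ (l * b * l⁻¹) ∈ AM hF hcc
    rw [map_mul, map_mul, map_inv]
    exact (mem_normalizer_iff.1 hl _).1 hb

theorem card_CY_norm : Nat.card ↥(CY y ⊓ NG hF hcc θ) = 87480 := by
  have e : CY y ⊓ NG hF hcc θ
      = ((normalizer (AM hF hcc : Set (Cfsg.PSU 4 K 3))).comap (pi θ)).map (CY y).subtype := by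
    ext x
    constructor
    · rintro ⟨hx, hn⟩
      exact ⟨⟨x, hx⟩, (mem_norm_iff Y hF hcc θ hθ ⟨x, hx⟩).1 hn, rfl⟩
    · rintro ⟨l, hl, rfl⟩
      exact ⟨l.2, (mem_norm_iff Y hF hcc θ hθ l).2 hl⟩
  rw [e, card_map_of_injective (CY y).subtype_injective, card_comap Y hF hcc θ hθ,
    (card_norm hF hcc).1]

/-- The image in `PSU₄(3)` of a subgroup of `C(y)` containing `y`. -/
theorem card_image {E : Subgroup (CY y)} (hy : yc y ∈ E) :
    Nat.card E = 3 * Nat.card (E.map (pi θ)) := by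
  have hle : (pi θ).ker ≤ E := by
    intro l hl
    obtain ⟨t, ht⟩ := exists_pow ((pi_eq_one θ).1 hl)
    have : l = yc y ^ t := Subtype.ext (by rw [SubgroupClass.coe_pow]; exact ht)
    rw [this]
    exact pow_mem hy t
  rw [← card_comap Y hF hcc θ hθ, comap_map_eq_self hle]

/-- Conjugation into the abelian subgroup, for conjugates containing `y`. -/
theorem conj_into {g : G} (hy : g⁻¹ * y * g ∈ AG hF hcc θ) :
    ∃ h : CY y, (h : G) * g ∈ NG hF hcc θ := by
  haveI : Fact (Nat.Prime 3) := ⟨Nat.prime_three⟩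
  set E : Subgroup G := (AG hF hcc θ).map (MulAut.conj g).toMonoidHom with hEdef
  have hyE : y ∈ E := ⟨_, hy, by
    show g * (g⁻¹ * y * g) * g⁻¹ = y; group⟩
  have hEab : ∀ a ∈ E, ∀ b ∈ E, a * b = b * a ∧ a ^ 3 = 1 := by
    rintro _ ⟨a, ha, rfl⟩ _ ⟨b, hb, rfl⟩
    refine ⟨?_, ?_⟩
    · rw [← map_mul, ← map_mul, (AG_props Y hF hcc θ hθ ha hb).1]
    · rw [← map_pow, (AG_props Y hF hcc θ hθ ha hb).2, map_one]
  have hEle : E ≤ CY y := fun a ha => mem_CY.2 (hEab a ha y hyE).1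
  set E' : Subgroup (CY y) := E.subgroupOf (CY y) with hE'
  have hcardE : Nat.card E = 243 := by
    rw [hEdef, card_map_of_injective (MulAut.conj g).injective, card_AG Y hF hcc θ hθ]
  set F := E'.map (pi θ) with hFdef
  have hF81 : Nat.card F = 81 := by
    have h := card_image Y hF hcc θ hθ (E := E') (mem_subgroupOf.2 hyE)
    rw [Nat.card_congr (subgroupOfEquivOfLe hEle).toEquiv, hcardE] at h
    rw [hFdef]; omega
  have hFab : ∀ a ∈ F, ∀ b ∈ F, a * b = b * a ∧ a ^ 3 = 1 := by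
    rintro _ ⟨a, ha, rfl⟩ _ ⟨b, hb, rfl⟩
    obtain ⟨h1, h2⟩ := hEab _ (mem_subgroupOf.1 ha) _ (mem_subgroupOf.1 hb)
    refine ⟨?_, ?_⟩
    · rw [← map_mul, ← map_mul]; exact congrArg _ (Subtype.ext h1)
    · rw [← map_pow, ← map_one (pi θ)]
      exact congrArg _ (Subtype.ext (by rw [SubgroupClass.coe_pow]; exact h2))
  obtain ⟨R, hR⟩ := (IsPGroup.of_card (p := 3) (n := 4) (by rw [hF81]; norm_num) :
    IsPGroup 3 F).exists_le_sylow
  obtain ⟨S, hS⟩ := Sylow.exists_subgroup_card_pow_prime (p := 3) (n := 6)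
    (G := ↥(normalizer (AM hF hcc : Set (Cfsg.PSU 4 K 3)))) (by rw [(card_norm hF hcc).1]; norm_num)
  set S' := S.map (normalizer (AM hF hcc : Set (Cfsg.PSU 4 K 3))).subtype with hS'def
  have hS' : Nat.card S' = 3 ^ 6 := by
    rw [hS'def, card_map_of_injective (Subgroup.subtype_injective _), hS]
  obtain ⟨R', hR'⟩ := (IsPGroup.of_card (p := 3) (n := 6) hS' : IsPGroup 3 S').exists_le_sylow
  have hRS : (R' : Subgroup (Cfsg.PSU 4 K 3)) = S' := by
    refine (eq_of_le_of_card_ge hR' ?_).symm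
    obtain ⟨n, hn⟩ := IsPGroup.iff_card.1 R'.isPGroup'
    have hd : 3 ^ n ∣ 3265920 := by
      rw [← hn, ← PSUFourThree56.card_PSU (K := K) (by rw [hF]; rfl)]
      exact card_subgroup_dvd_card _
    rw [hn, hS']
    refine Nat.pow_le_pow_right (by norm_num) ?_
    by_contra hlt
    have : 3 ^ 7 ∣ 3265920 := (pow_dvd_pow 3 (by omega)).trans hd
    norm_num at this
  obtain ⟨m, hm⟩ := MulAction.exists_smul_eq (Cfsg.PSU 4 K 3) R R'
  obtain ⟨h, rfl⟩ := pi_surj θ m
  set F' := F.map (MulAut.conj (pi θ h)).toMonoidHom with hF'def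
  have hF'S : F' ≤ normalizer (AM hF hcc : Set (Cfsg.PSU 4 K 3)) := by
    refine le_trans ?_ (map_subtype_le S)
    rw [← hS'def, ← hRS, ← hm, Sylow.coe_subgroup_smul]
    exact map_mono hR
  have hF'A : F' = AM hF hcc := weak hF hcc hF'S
    (by rw [hF'def, card_map_of_injective (MulAut.conj (pi θ h)).injective, hF81])
    (by rintro _ ⟨a, ha, rfl⟩ _ ⟨b, hb, rfl⟩; rw [← map_mul, ← map_mul, (hFab a ha b hb).1])
    (by rintro _ ⟨a, ha, rfl⟩; rw [← map_pow, (hFab a ha a ha).2, map_one])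
  refine ⟨h, mem_normalizer_fintype fun a ha => ?_⟩
  have haE : g * a * g⁻¹ ∈ E := ⟨a, ha, rfl⟩
  refine ⟨h * ⟨g * a * g⁻¹, hEle haE⟩ * h⁻¹, ?_, ?_⟩
  · show pi θ _ ∈ AM hF hcc
    rw [← hF'A, map_mul, map_mul, map_inv]
    exact ⟨_, ⟨⟨g * a * g⁻¹, hEle haE⟩, mem_subgroupOf.2 haE, rfl⟩, rfl⟩
  · show (h : G) * (g * a * g⁻¹) * (h : G)⁻¹ = (h : G) * g * a * ((h : G) * g)⁻¹
    group

theorem exists_inverter : ∃ n ∈ NG hF hcc θ, n * y * n⁻¹ = y⁻¹ := by
  obtain ⟨t, ht, hyt⟩ := Y.exists_sing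
  obtain ⟨n, -, hn⟩ := Y.inverter ht hyt
  have hy : n⁻¹ * y * n ∈ AG hF hcc θ := by
    have : n⁻¹ * y * n = y⁻¹ := by
      calc n⁻¹ * y * n = n⁻¹ * (y⁻¹)⁻¹ * n := by rw [inv_inv]
        _ = n⁻¹ * (n * y * n⁻¹)⁻¹ * n := by rw [hn]
        _ = y⁻¹ := by group
    rw [this]; exact inv_mem (y_mem_AG hF hcc θ)
  obtain ⟨h, hh⟩ := conj_into Y hF hcc θ hθ hy
  refine ⟨_, hh, ?_⟩
  rw [show (h : G) * n * y * ((h : G) * n)⁻¹ = (h : G) * (n * y * n⁻¹) * (h : G)⁻¹ by group, hn,
    (show Commute (h : G) y from mem_CY.1 h.2).inv_right.eq, mul_inv_cancel_right]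

theorem trans_good {a : G} (ha : a ∈ AG hF hcc θ) (hg : Good y a) :
    ∃ k ∈ NG hF hcc θ, k * y * k⁻¹ = a := by
  obtain ⟨g, hg⟩ := hg
  obtain ⟨n, hn, hny⟩ := exists_inverter Y hF hcc θ hθ
  have hy : g⁻¹ * y * g ∈ AG hF hcc θ := by
    rcases hg with e | e
    · have h1 : g⁻¹ * y * g = a := by
        calc g⁻¹ * y * g = g⁻¹ * (g * a * g⁻¹) * g := by rw [e]
          _ = a := by group
      rw [h1]; exact ha
    · have h1 : g⁻¹ * y * g = a⁻¹ := by
        calc g⁻¹ * y * g = g⁻¹ * (g * a * g⁻¹)⁻¹ * g := by rw [e, inv_inv]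
          _ = a⁻¹ := by group
      rw [h1]; exact inv_mem ha
  obtain ⟨h, hh⟩ := conj_into Y hF hcc θ hθ hy
  have hc : Commute (h : G) y := mem_CY.1 h.2
  rcases hg with e | e
  · refine ⟨_, inv_mem hh, ?_⟩
    rw [inv_inv, show ((h : G) * g)⁻¹ * y * ((h : G) * g) = g⁻¹ * ((h : G)⁻¹ * (y * h)) * g by group,
      ← hc.eq, inv_mul_cancel_left, ← e]
    group
  · refine ⟨_, mul_mem (inv_mem hh) hn, ?_⟩
    rw [show ((h : G) * g)⁻¹ * n * y * (((h : G) * g)⁻¹ * n)⁻¹
      = g⁻¹ * ((h : G)⁻¹ * (n * y * n⁻¹ * h)) * g by group, hny, ← hc.inv_right.eq,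
      inv_mul_cancel_left, ← e]
    group

theorem card_NG : Nat.card ↥(NG hF hcc θ) = 22 * 87480 := by
  let φ : ↥(NG hF hcc θ) →* MulAut G := MulAut.conj.comp (NG hF hcc θ).subtype
  letI : MulAction ↥(NG hF hcc θ) G := MulAction.compHom G φ
  have hsmul : ∀ (k : ↥(NG hF hcc θ)) (a : G), k • a = (k : G) * a * (k : G)⁻¹ := fun k a => rfl
  have horb : MulAction.orbit ↥(NG hF hcc θ) y = {a : G | a ∈ AG hF hcc θ ∧ Good y a} := by
    ext a
    constructor
    · rintro ⟨k, rfl⟩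
      show k • y ∈ AG hF hcc θ ∧ Good y (k • y)
      rw [hsmul]
      exact ⟨(mem_normalizer_iff.1 k.2 y).1 (y_mem_AG hF hcc θ),
        (good_y Y hF hcc θ hθ).1.conj _⟩
    · rintro ⟨ha, hg⟩
      obtain ⟨k, hk, e⟩ := trans_good Y hF hcc θ hθ ha hg
      exact ⟨⟨k, hk⟩, (hsmul ⟨k, hk⟩ y).trans e⟩
  have hstab : Nat.card (MulAction.stabilizer ↥(NG hF hcc θ) y) = 87480 := by
    rw [← card_CY_norm Y hF hcc θ hθ]
    exact Nat.card_congr
      { toFun := fun k => ⟨((k : ↥(NG hF hcc θ)) : G),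
          mem_CY.2 (mul_inv_eq_iff_eq_mul.1 ((hsmul _ _).symm.trans k.2)),
          (k : ↥(NG hF hcc θ)).2⟩
        invFun := fun k => ⟨⟨k, k.2.2⟩, (hsmul _ _).trans
          (mul_inv_eq_iff_eq_mul.2 (mem_CY.1 k.2.1))⟩
        left_inv := fun _ => rfl
        right_inv := fun _ => rfl }
  rw [← card_mul_index (MulAction.stabilizer ↥(NG hF hcc θ) y), MulAction.index_stabilizer, horb,
    card_good Y hF hcc θ hθ, hstab, mul_comm]

theorem AG_normal : ((AG hF hcc θ).subgroupOf (NG hF hcc θ)).Normal :=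
  ⟨fun a ha k => mem_subgroupOf.2 ((mem_normalizer_iff.1 k.2 _).1 (mem_subgroupOf.1 ha))⟩

theorem pm_y {k : G} (hk : k ∈ normalizer (zpowers y : Set G)) :
    k * y * k⁻¹ = y ∨ k * y * k⁻¹ = y⁻¹ := by
  rcases y_pow_cases Y hF hcc θ hθ ((mem_normalizer_iff.1 hk y).1 (mem_zpowers y)) with e | e | e
  · exact absurd (conj_eq_one_iff.1 e) Y.y1
  · exact Or.inl e
  · exact Or.inr e

theorem m11 [((AG hF hcc θ).subgroupOf (NG hF hcc θ)).Normal] :
    Cfsg.Spor.IsoM11 (↥(NG hF hcc θ) ⧸ (AG hF hcc θ).subgroupOf (NG hF hcc θ)) := by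
  classical
  set NA := NG hF hcc θ with hNA
  set A' := (AG hF hcc θ).subgroupOf NA with hA'
  have hAN : AG hF hcc θ ≤ NA := le_normalizer
  have hcA' : Nat.card A' = 243 := by
    rw [hA', Nat.card_congr (subgroupOfEquivOfLe hAN).toEquiv, card_AG Y hF hcc θ hθ]
  have hcH : Nat.card (NA ⧸ A') = 7920 := by
    have h := card_eq_card_quotient_mul_card_subgroup A'
    have hN : Nat.card NA = 22 * 87480 := card_NG Y hF hcc θ hθ
    rw [hcA', hN] at h
    omega
  set T : Subgroup NA := (CY y).subgroupOf NA with hT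
  have hcT : Nat.card T = 87480 := by
    rw [← card_CY_norm Y hF hcc θ hθ, hT, ← inf_subgroupOf_right]
    exact Nat.card_congr (subgroupOfEquivOfLe inf_le_right).toEquiv
  set S : Subgroup NA := (normalizer (zpowers y : Set G)).subgroupOf NA with hS
  obtain ⟨n, hnA, hny⟩ := exists_inverter Y hF hcc θ hθ
  have hTS : T ≤ S := fun k hk =>
    mem_subgroupOf.2 (centralizer_le_normalizer _ (mem_subgroupOf.1 hk))
  have hnS : (⟨n, hnA⟩ : NA) ∈ S := by
    refine mem_subgroupOf.2 (mem_normalizer_fintype fun x hx => ?_)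
    obtain ⟨j, rfl⟩ := hx
    show n * y ^ j * n⁻¹ ∈ zpowers y
    rw [← conj_zpow, hny]
    exact zpow_mem (inv_mem (mem_zpowers y)) j
  have hrel : T.relIndex S = 2 := by
    refine relIndex_eq_two_iff.2 ⟨⟨n, hnA⟩, hnS, fun b hb => ?_⟩
    have hmem : ∀ k : NA, k ∈ T ↔ (k : G) * y * (k : G)⁻¹ = y := fun k =>
      mem_subgroupOf.trans (mem_CY.trans mul_inv_eq_iff_eq_mul.symm)
    rw [xor_iff_not_iff', hmem, hmem]
    rw [show ((b * ⟨n, hnA⟩ : NA) : G) * y * ((b * ⟨n, hnA⟩ : NA) : G)⁻¹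
      = (b : G) * (n * y * n⁻¹) * (b : G)⁻¹ by rw [Subgroup.coe_mul]; group, hny,
      show (b : G) * y⁻¹ * (b : G)⁻¹ = ((b : G) * y * (b : G)⁻¹)⁻¹ by group]
    rcases pm_y Y hF hcc θ hθ (mem_subgroupOf.1 hb) with e | e <;> rw [e]
    · simp [(y_ne_inv Y hF hcc θ hθ).symm]
    · simp [(y_ne_inv Y hF hcc θ hθ).symm]
  have hidx : S.index = 11 := by
    have h1 := card_mul_index S
    have h2 : Nat.card T * T.relIndex S = Nat.card S := by
      rw [relIndex, ← Nat.card_congr (subgroupOfEquivOfLe hTS).toEquiv]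
      exact card_mul_index _
    have hN : Nat.card NA = 22 * 87480 := card_NG Y hF hcc θ hθ
    rw [← h2, hcT, hrel, hN] at h1
    omega
  have hAT : A' ≤ T := fun k hk => mem_subgroupOf.2 (AG_le hF hcc θ (mem_subgroupOf.1 hk))
  set f := MulAction.toPermHom NA (NA ⧸ S) with hf
  have hker : f.ker = S.normalCore := by rw [normalCore_eq_ker]
  have hAf : A' ≤ f.ker := hker ▸ normal_le_normalCore.2 (hAT.trans hTS)
  set fb := QuotientGroup.lift A' f hAf with hfb
  set q := QuotientGroup.mk' A' with hq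
  have hfq : ∀ k, fb (q k) = f k := fun k => rfl
  have htr : ∀ a b : NA ⧸ S, ∃ k, fb k a = b := by
    intro a b
    obtain ⟨k, hk⟩ := MulAction.exists_smul_eq NA a b
    exact ⟨q k, hk⟩
  -- elements of the core fixing `y` lie in the abelian subgroup
  have hcore : ∀ x ∈ S.normalCore, x ∈ T → x ∈ A' := by
    intro x hx hxT
    set l : CY y := ⟨(x : G), mem_subgroupOf.1 hxT⟩ with hl
    obtain ⟨i, hi, r, hr, e⟩ := norm_form hF hcc ((mem_norm_iff Y hF hcc θ hθ l).1 x.2)
    suffices hr0 : r = 0 by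
      rw [hr0, sR_zero hF hcc, mul_one] at e
      exact mem_subgroupOf.2 ((mem_AG hF hcc θ).2 ⟨l, rfl, i, hi, e.symm⟩)
    refine root_kernel hr fun j hj => ?_
    obtain ⟨a, ⟨ha, hga⟩, -⟩ := root_good Y hF hcc θ hθ hj
    have haA : (a : G) ∈ AG hF hcc θ :=
      (mem_AG hF hcc θ).2 ⟨a, rfl, j, (root_lt j hj).1, ha.symm⟩
    obtain ⟨k, hk, hky⟩ := trans_good Y hF hcc θ hθ haA hga
    have hxk : (⟨k, hk⟩ : NA)⁻¹ * x * ⟨k, hk⟩ ∈ S := by
      have := S.normalCore_le (S.normalCore_normal.conj_mem x hx (⟨k, hk⟩ : NA)⁻¹)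
      rwa [inv_inv] at this
    have hpm := pm_y Y hF hcc θ hθ (mem_subgroupOf.1 hxk)
    have hconj : (l : G) * a * (l : G)⁻¹ = a ∨ (l : G) * a * (l : G)⁻¹ = (a : G)⁻¹ := by
      rw [Subgroup.coe_mul, Subgroup.coe_mul, Subgroup.coe_inv] at hpm
      rw [← hky]
      rcases hpm with e | e
      · left
        calc (x : G) * (k * y * k⁻¹) * (x : G)⁻¹
            = k * (k⁻¹ * x * k * y * (k⁻¹ * x * k)⁻¹) * k⁻¹ := by group
          _ = k * y * k⁻¹ := by rw [e]
      · right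
        calc (x : G) * (k * y * k⁻¹) * (x : G)⁻¹
            = k * (k⁻¹ * x * k * y * (k⁻¹ * x * k)⁻¹) * k⁻¹ := by group
          _ = (k * y * k⁻¹)⁻¹ := by rw [e]; group
    have hj81 := (root_lt j hj).1
    have hpi : pi θ (l * a * l⁻¹) = sA c (app (lin r) j) := by
      rw [map_mul, map_mul, map_inv, e, ha, conj_form hF hcc hi hr hj81]
    rcases hconj with e' | e'
    · left
      refine sA_inj hF hcc (app_lt _ _) hj81 ?_
      rw [← hpi, show l * a * l⁻¹ = a from Subtype.ext e', ha]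
    · right
      refine sA_inj hF hcc (app_lt _ _) (add3_lt _ _) ?_
      rw [← hpi, show l * a * l⁻¹ = a⁻¹ from Subtype.ext e', map_inv, ha, sA_inv hF hcc hj81]
  have hkfb : Nat.card fb.ker ≤ 2 := by
    have hk : fb.ker = f.ker.map q := QuotientGroup.ker_lift _ _ _
    by_cases h : ∀ x ∈ S.normalCore, x ∈ T
    · have hb : fb.ker = ⊥ := by
        rw [hk, Subgroup.map_eq_bot_iff, hq, QuotientGroup.ker_mk', hker]
        exact fun x hx => hcore x hx (h x hx)
      rw [hb, card_bot]; norm_num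
    · push Not at h
      obtain ⟨x0, hx0, hx0T⟩ := h
      have hsub : ∀ m ∈ fb.ker, m = 1 ∨ m = q x0 := by
        intro m hm
        rw [hk, hker] at hm
        obtain ⟨x, hx, rfl⟩ := hm
        by_cases hxT : x ∈ T
        · exact Or.inl ((QuotientGroup.eq_one_iff x).2 (hcore x hx hxT))
        · right
          refine (QuotientGroup.eq).2 (hcore _ (mul_mem (inv_mem hx) hx0) ?_)
          have hpmT : ∀ u : NA, u ∈ S → u ∉ T → (u : G) * y * (u : G)⁻¹ = y⁻¹ := by
            intro u hu hu'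
            rcases pm_y Y hF hcc θ hθ (mem_subgroupOf.1 hu) with e | e
            · exact absurd (mem_subgroupOf.2 (mem_CY.2 (mul_inv_eq_iff_eq_mul.1 e))) hu'
            · exact e
          have e1 := hpmT x (S.normalCore_le hx) hxT
          have e2 := hpmT x0 (S.normalCore_le hx0) hx0T
          refine mem_subgroupOf.2 (mem_CY.2 (mul_inv_eq_iff_eq_mul.1 ?_))
          rw [Subgroup.coe_mul, Subgroup.coe_inv]
          calc (x : G)⁻¹ * x0 * y * ((x : G)⁻¹ * x0)⁻¹
              = (x : G)⁻¹ * ((x0 : G) * y * (x0 : G)⁻¹) * x := by group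
            _ = (x : G)⁻¹ * ((x : G) * y * (x : G)⁻¹) * x := by rw [e1, e2]
            _ = y := by group
      have hsub' : (fb.ker : Set (NA ⧸ A')) ⊆ {1, q x0} := fun m hm => hsub m hm
      have := Set.ncard_le_ncard hsub' (Set.toFinite _)
      rw [← Nat.card_coe_set_eq] at this
      exact le_trans this ((Set.ncard_insert_le _ _).trans (by rw [Set.ncard_singleton]))
  have hgen : T.map q ≤ Subgroup.closure {h : NA ⧸ A' | h ^ 3 = 1} := by
    let ι : T →* CY y :=
      { toFun := fun t => ⟨((t : NA) : G), mem_subgroupOf.1 t.2⟩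
        map_one' := rfl
        map_mul' := fun _ _ => rfl }
    set D : Subgroup T := (Subgroup.closure {h : NA ⧸ A' | h ^ 3 = 1}).comap (q.comp T.subtype)
      with hD
    have cube : ∀ t : T, ((t : NA) : G) ^ 3 ∈ AG hF hcc θ → t ∈ D := fun t ht =>
      subset_closure (show (q (t : NA)) ^ 3 = 1 by
        rw [← map_pow]
        exact (QuotientGroup.eq_one_iff _).2 (mem_subgroupOf.2 (by rwa [SubgroupClass.coe_pow])))
    have lift : ∀ m ∈ normalizer (AM hF hcc : Set (Cfsg.PSU 4 K 3)),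
        ∃ t : T, pi θ (ι t) = m := by
      intro m hm
      obtain ⟨l, rfl⟩ := pi_surj θ m
      exact ⟨⟨⟨(l : G), (mem_norm_iff Y hF hcc θ hθ l).2 hm⟩, mem_subgroupOf.2 l.2⟩, rfl⟩
    have hHN : HN hF hcc ≤ D.map ((pi θ).comp ι) := by
      refine (Subgroup.closure_le _).2 ?_
      intro m hm
      have hmN : m ∈ normalizer (AM hF hcc : Set (Cfsg.PSU 4 K 3)) := by
        rcases hm with hm | hm | hm
        · exact le_normalizer hm
        · exact hm ▸ HN_le hF hcc (sS_HN hF hcc (by norm_num))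
        · rw [Set.mem_singleton_iff.1 hm]; exact HN_le hF hcc (sS_HN hF hcc (by norm_num))
      have h3 : m ^ 3 = 1 := by
        rcases hm with hm | hm | hm
        · exact AM_three hF hcc hm
        · exact hm ▸ sS_three hF hcc (by norm_num)
        · rw [Set.mem_singleton_iff.1 hm]; exact sS_three hF hcc (by norm_num)
      obtain ⟨t, rfl⟩ := lift m hmN
      refine ⟨t, cube t ?_, rfl⟩
      rw [← map_pow, pi_eq_one] at h3
      exact zpowers_le.2 (y_mem_AG hF hcc θ) h3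
    rintro _ ⟨x, hx, rfl⟩
    have hxN := (mem_norm_iff Y hF hcc θ hθ (ι ⟨x, hx⟩)).1 x.2
    rw [norm_eq hF hcc] at hxN
    obtain ⟨t, ht, e⟩ := hHN hxN
    have hd : t⁻¹ * ⟨x, hx⟩ ∈ D := by
      refine cube _ (pow_mem ?_ 3)
      have : pi θ (ι (t⁻¹ * ⟨x, hx⟩)) = 1 := by
        rw [map_mul, map_inv, map_mul, map_inv, inv_mul_eq_one]
        exact e
      exact zpowers_le.2 (y_mem_AG hF hcc θ) ((pi_eq_one θ).1 this)
    have hmul := mul_mem ht hd
    rw [mul_inv_cancel_left] at hmul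
    exact hmul
  have hcS : 360 ∣ Nat.card (T.map q) := by
    let qT : T →* NA ⧸ A' := q.comp T.subtype
    have hr : qT.range = T.map q := by rw [MonoidHom.range_comp, range_subtype]
    have h := card_mul_index qT.ker
    rw [index_ker, hr, hcT] at h
    have hk : Nat.card qT.ker = 243 := by
      rw [← hcA', ← Nat.card_congr (subgroupOfEquivOfLe hAT).toEquiv]
      have e : qT.ker = A'.subgroupOf T := by
        ext t
        exact (QuotientGroup.eq_one_iff _).trans mem_subgroupOf.symm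
      rw [e]
    rw [hk] at h
    exact dvd_of_eq (by omega)
  haveI : IsSimpleGroup (NA ⧸ A') := M11Eleven40.isSimple hcH
    (show Nat.card (NA ⧸ S) = 11 from hidx) fb htr hkfb (T.map q) hcS hgen
  haveI := Cfsg.Agent.GolaySimple.isSimpleGroup_M11
  exact M11Unique99.iso_of_card hcH Cfsg.Agent.GolayM24.card_M11

theorem sylow_data : ∃ P0 : Subgroup G, P0 ≤ CY y ∧ Nat.card P0 = 3 ^ 7 ∧
    AG hF hcc θ ≤ P0 ∧ ¬ 3 ^ 8 ∣ Nat.card G := by
  haveI : Fact (Nat.Prime 3) := ⟨Nat.prime_three⟩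
  have hAle : AG hF hcc θ ≤ CY y ⊓ NG hF hcc θ := le_inf (AG_le hF hcc θ) le_normalizer
  set C := CY y ⊓ NG hF hcc θ with hC
  set A' := (AG hF hcc θ).subgroupOf C with hA'
  have hcA : Nat.card A' = 3 ^ 5 := by
    rw [hA', Nat.card_congr (subgroupOfEquivOfLe hAle).toEquiv, card_AG Y hF hcc θ hθ]
    norm_num
  have hcC : 3 ^ 7 ∣ Nat.card C := by rw [card_CY_norm Y hF hcc θ hθ]; norm_num
  obtain ⟨R, hR, hAR⟩ := Sylow.exists_subgroup_card_pow_prime_le 3 hcC A' hcA (by norm_num)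
  set P0 := R.map C.subtype with hP0
  have hP0c : Nat.card P0 = 3 ^ 7 := by rw [hP0, card_map_of_injective C.subtype_injective, hR]
  have hP0C : P0 ≤ C := map_subtype_le R
  have hAP : AG hF hcc θ ≤ P0 := fun a ha => ⟨⟨a, hAle ha⟩, hAR (mem_subgroupOf.2 ha), rfl⟩
  refine ⟨P0, hP0C.trans inf_le_left, hP0c, hAP, fun h38 => ?_⟩
  -- conjugates of the abelian subgroup inside `P0` are equal to it
  have hwk : ∀ g : G, (AG hF hcc θ).map (MulAut.conj g).toMonoidHom ≤ P0 → g ∈ NG hF hcc θ := by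
    intro g hg
    set E := (AG hF hcc θ).map (MulAut.conj g).toMonoidHom with hEdef
    have hEab : ∀ a ∈ E, ∀ b ∈ E, a * b = b * a ∧ a ^ 3 = 1 := by
      rintro _ ⟨a, ha, rfl⟩ _ ⟨b, hb, rfl⟩
      refine ⟨?_, ?_⟩
      · rw [← map_mul, ← map_mul, (AG_props Y hF hcc θ hθ ha hb).1]
      · rw [← map_pow, (AG_props Y hF hcc θ hθ ha hb).2, map_one]
    have hEle : E ≤ CY y := hg.trans (hP0C.trans inf_le_left)
    have hcardE : Nat.card E = 243 := by
      rw [hEdef, card_map_of_injective (MulAut.conj g).injective, card_AG Y hF hcc θ hθ]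
    set F := (E.subgroupOf (CY y)).map (pi θ) with hFdef
    have hFN : F ≤ normalizer (AM hF hcc : Set (Cfsg.PSU 4 K 3)) := by
      rintro _ ⟨a, ha, rfl⟩
      exact (mem_norm_iff Y hF hcc θ hθ a).1 (hP0C (hg (mem_subgroupOf.1 ha))).2
    have hFab : ∀ a ∈ F, ∀ b ∈ F, a * b = b * a ∧ a ^ 3 = 1 := by
      rintro _ ⟨a, ha, rfl⟩ _ ⟨b, hb, rfl⟩
      obtain ⟨h1, h2⟩ := hEab _ (mem_subgroupOf.1 ha) _ (mem_subgroupOf.1 hb)
      refine ⟨?_, ?_⟩
      · rw [← map_mul, ← map_mul]; exact congrArg _ (Subtype.ext h1)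
      · rw [← map_pow, ← map_one (pi θ)]
        exact congrArg _ (Subtype.ext (by rw [SubgroupClass.coe_pow]; exact h2))
    by_cases hyE : y ∈ E
    · have hF81 : Nat.card F = 81 := by
        have h := card_image Y hF hcc θ hθ (E := E.subgroupOf (CY y)) (mem_subgroupOf.2 hyE)
        rw [Nat.card_congr (subgroupOfEquivOfLe hEle).toEquiv, hcardE] at h
        rw [hFdef]; omega
      have hFA := weak hF hcc hFN hF81 (fun a ha b hb => (hFab a ha b hb).1)
        (fun a ha => (hFab a ha a ha).2)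
      have hEA : E ≤ AG hF hcc θ := fun a ha => ⟨⟨a, hEle ha⟩,
        show pi θ _ ∈ AM hF hcc from hFA ▸ ⟨_, mem_subgroupOf.2 ha, rfl⟩, rfl⟩
      exact mem_normalizer_fintype fun a ha => hEA ⟨a, ha, rfl⟩
    · exfalso
      set E' := E.subgroupOf (CY y) with hE'
      have hinj : Function.Injective ((pi θ).comp E'.subtype) := by
        rw [← MonoidHom.ker_eq_bot_iff, eq_bot_iff]
        intro a ha
        have ha' : ((a : CY y) : G) ∈ zpowers y := (pi_eq_one θ).1 ha
        rcases y_pow_cases Y hF hcc θ hθ ha' with e | e | e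
        · exact mem_bot.2 (Subtype.ext (Subtype.ext e))
        · exact absurd (e ▸ mem_subgroupOf.1 a.2) hyE
        · exact absurd (by simpa [e] using inv_mem (mem_subgroupOf.1 a.2)) hyE
      have hFc : Nat.card F = 243 := by
        rw [hFdef, show E'.map (pi θ) = ((pi θ).comp E'.subtype).range by
          rw [MonoidHom.range_comp, range_subtype],
          ← Nat.card_congr (MonoidHom.ofInjective hinj).toEquiv,
          Nat.card_congr (subgroupOfEquivOfLe hEle).toEquiv, hcardE]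
      obtain ⟨W, hW⟩ := Sylow.exists_subgroup_card_pow_prime (p := 3) (n := 4) (G := F)
        (by rw [hFc]; norm_num)
      have hWc : Nat.card (W.map F.subtype) = 81 := by
        rw [card_map_of_injective F.subtype_injective, hW]; norm_num
      have hWF : W.map F.subtype ≤ F := map_subtype_le W
      have hWA := weak hF hcc (hWF.trans hFN) hWc
        (fun a ha b hb => (hFab a (hWF ha) b (hWF hb)).1)
        (fun a ha => (hFab a (hWF ha) a (hWF ha)).2)
      have hle : F ≤ AM hF hcc := by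
        rw [← centralizer_AM hF hcc]
        intro a ha
        rw [← hWA]
        exact mem_centralizer_iff.2 fun b hb => (hFab b (hWF hb) a ha).1
      have := Nat.le_of_dvd Nat.card_pos (card_dvd_of_le hle)
      rw [hFc, card_AM hF hcc] at this
      omega
  have hnorm : normalizer (P0 : Set G) ≤ NG hF hcc θ := by
    intro g hg
    refine hwk g ?_
    rintro _ ⟨a, ha, rfl⟩
    exact (mem_normalizer_iff.1 hg a).1 (hAP ha)
  have hd := Sylow.prime_dvd_card_quotient_normalizer (n := 7) h38 hP0c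
  have h2 := card_eq_card_quotient_mul_card_subgroup
    (P0.comap (normalizer (P0 : Set G)).subtype)
  have h3 : Nat.card (P0.comap (normalizer (P0 : Set G)).subtype) = 3 ^ 7 := by
    rw [← hP0c]
    exact Nat.card_congr (subgroupOfEquivOfLe le_normalizer).toEquiv
  have h4 : 3 ^ 8 ∣ Nat.card ↥(NG hF hcc θ) := by
    refine dvd_trans ?_ (card_dvd_of_le hnorm)
    rw [h2, h3, pow_succ']
    exact Nat.mul_dvd_mul_right hd _
  rw [card_NG Y hF hcc θ hθ] at h4
  norm_num at h4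

theorem card_norm_y : Nat.card ↥(normalizer (zpowers y : Set G)) = 2 * (3 * 3265920) := by
  have h := card_mul_index ((CY y).subgroupOf (normalizer (zpowers y : Set G)))
  rw [Nat.card_congr (subgroupOfEquivOfLe
    (show CY y ≤ normalizer (zpowers y : Set G) from centralizer_le_normalizer _)).toEquiv,
    card_CY Y hF hcc θ hθ] at h
  rw [← h, mul_comm 2]
  exact congrArg _ (SuzY42Quotient.relIndex_two Y)

theorem final (X : Subgroup G) (hX : X = zpowers y) (P : Sylow 3 ↥(normalizer (X : Set G))) :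
    ¬ 3 ∣ (((P : Subgroup ↥(normalizer (X : Set G))).map (normalizer (X : Set G)).subtype).index) ∧
      ∃ A : Subgroup G,
        A ≤ (P : Subgroup ↥(normalizer (X : Set G))).map (normalizer (X : Set G)).subtype ∧
        Cfsg.IsElementaryAbelian 3 A ∧ Nat.card A = 3 ^ 5 ∧ centralizer (A : Set G) = A ∧
        ∃ _ : (A.subgroupOf (normalizer (A : Set G))).Normal,
          Cfsg.Spor.IsoM11 (↥(normalizer (A : Set G)) ⧸ A.subgroupOf (normalizer (A : Set G))) := by
  haveI : Fact (Nat.Prime 3) := ⟨Nat.prime_three⟩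
  subst hX
  obtain ⟨P0, hP0C, hP0c, hAP, h38⟩ := sylow_data Y hF hcc θ hθ
  have hP0N : P0 ≤ (normalizer (zpowers y : Set G)) := hP0C.trans (centralizer_le_normalizer _)
  have hcNX : Nat.card (normalizer (zpowers y : Set G)) = 2 * (3 * 3265920) := card_norm_y Y hF hcc θ hθ
  have hfac : (Nat.card (normalizer (zpowers y : Set G))).factorization 3 = 7 := by
    rw [hcNX, show 2 * (3 * 3265920) = 3 ^ 7 * 8960 by norm_num,
      Nat.factorization_mul (by norm_num) (by norm_num), Nat.factorization_pow]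
    simp [Nat.prime_three.factorization, Nat.factorization_eq_zero_of_not_dvd]
  have hPc : Nat.card P = 3 ^ 7 := by rw [P.card_eq_multiplicity, hfac]
  set PG := (P : Subgroup (normalizer (zpowers y : Set G))).map (normalizer (zpowers y : Set G)).subtype with hPG
  have hPGc : Nat.card PG = 3 ^ 7 := by
    rw [hPG, card_map_of_injective (normalizer (zpowers y : Set G)).subtype_injective]; exact hPc
  refine ⟨fun hd => h38 ?_, ?_⟩
  · rw [← card_mul_index PG, hPGc, pow_succ]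
    exact Nat.mul_dvd_mul_left _ hd
  let R : Sylow 3 (normalizer (zpowers y : Set G)) := Sylow.ofCard (P0.subgroupOf (normalizer (zpowers y : Set G))) (by
    rw [Nat.card_congr (subgroupOfEquivOfLe hP0N).toEquiv, hP0c, hfac])
  obtain ⟨m, hm⟩ := MulAction.exists_smul_eq (normalizer (zpowers y : Set G)) R P
  set φ : MulAut G := MulAut.conj (m : G) with hφ
  have hmap : P0.map φ.toMonoidHom ≤ PG := by
    rintro _ ⟨x, hx, rfl⟩
    refine ⟨m * ⟨x, hP0N hx⟩ * m⁻¹, ?_, rfl⟩
    rw [← hm, Sylow.coe_subgroup_smul]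
    exact ⟨⟨x, hP0N hx⟩, mem_subgroupOf.2 hx, rfl⟩
  set A0 := AG hF hcc θ with hA0
  set A := A0.map φ.toMonoidHom with hA
  have hnA : normalizer (A : Set G) = (NG hF hcc θ).map φ.toMonoidHom :=
    (map_equiv_normalizer_eq A0 φ).symm
  haveI hnorm : (A.subgroupOf (normalizer (A : Set G))).Normal :=
    ⟨fun a ha k => mem_subgroupOf.2 ((mem_normalizer_iff.1 k.2 _).1 (mem_subgroupOf.1 ha))⟩
  refine ⟨A, (map_mono hAP).trans hmap, ⟨⟨⟨fun a b => Subtype.ext ?_⟩⟩, ?_⟩, ?_, ?_, hnorm, ?_⟩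
  · obtain ⟨a', ha, e⟩ := a.2
    obtain ⟨b', hb, e'⟩ := b.2
    rw [Subgroup.coe_mul, Subgroup.coe_mul, ← e, ← e', ← map_mul, ← map_mul,
      (AG_props Y hF hcc θ hθ ha hb).1]
  · rintro _ ⟨a, ha, rfl⟩
    rw [← map_pow, (AG_props Y hF hcc θ hθ ha ha).2, map_one]
  · rw [hA, card_map_of_injective φ.injective, hA0, card_AG Y hF hcc θ hθ]; norm_num
  · have hC : centralizer (A : Set G) = (centralizer (A0 : Set G)).map φ.toMonoidHom := by
      ext x
      rw [mem_map_equiv, mem_centralizer_iff, mem_centralizer_iff]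
      constructor
      · intro h b hb
        apply φ.injective
        rw [map_mul, map_mul, MulEquiv.apply_symm_apply]
        exact h _ ⟨b, hb, rfl⟩
      · rintro h _ ⟨b, hb, rfl⟩
        have := congrArg φ (h b hb)
        rwa [map_mul, map_mul, MulEquiv.apply_symm_apply] at this
    rw [hC, hA, hA0, centralizer_AG Y hF hcc θ hθ]
  · haveI := AG_normal Y hF hcc θ hθ
    obtain ⟨e⟩ := m11 Y hF hcc θ hθ
    let ψ : ↥(NG hF hcc θ) ≃* ↥(normalizer (A : Set G)) :=
      ((NG hF hcc θ).equivMapOfInjective φ.toMonoidHom φ.injective).trans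
        (MulEquiv.subgroupCongr hnA.symm)
    have hψ : (A0.subgroupOf (NG hF hcc θ)).map ψ.toMonoidHom
        = A.subgroupOf (normalizer (A : Set G)) := by
      ext x
      constructor
      · rintro ⟨k, hk, rfl⟩
        exact mem_subgroupOf.2 ⟨(k : G), mem_subgroupOf.1 hk, rfl⟩
      · intro hx
        obtain ⟨a, ha, e⟩ := mem_subgroupOf.1 hx
        refine ⟨⟨a, le_normalizer ha⟩, mem_subgroupOf.2 ha, Subtype.ext e⟩
    exact ⟨(QuotientGroup.congr _ _ ψ hψ).symm.trans e⟩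

end Cfsg.Agent.SuzM11Norm40
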