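import Mathlib
import Cfsg.Agent.S0497

/-!
Sylow arithmetic in a group whose Sylow subgroups of order five and seven are self-centralising,
with normalisers of order `10` and `21`.
-/

set_option autoImplicit false
set_option maxRecDepth 100000

namespace Cfsg.Agent.SuzPresArith50

open Subgroup

universe u

variable {G : Type u} [Group G] [Finite G]

/-- A group of prime order acting fixed-point-freely on a coprime group fixes a Sylow subgroup for
each prime, so every prime-power part is `1` modulo that prime. -/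
theorem coprime_mod (p : ℕ) [Fact p.Prime] (P K : Subgroup G) (hP : Nat.card P = p)
    (hPK : P ≤ normalizer (K : Set G)) (hfix : ∀ x ∈ K, (∀ a ∈ P, a * x = x * a) → x = 1)
    (hK : ¬ p ∣ Nat.card K) (q : ℕ) [Fact q.Prime] :
    q ^ (Nat.card K).factorization q ≡ 1 [MOD p] := by
  classical
  letI act : MulDistribMulAction ↥P ↥K :=
    MulDistribMulAction.compHom ↥K ((normalizerMonoidHom K).comp (Subgroup.inclusion hPK))
  have hpg : IsPGroup p ↥P := IsPGroup.of_card (n := 1) (by rw [hP, pow_one])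
  have hS : ¬ p ∣ Nat.card (Sylow q ↥K) := by
    intro h
    obtain ⟨Q⟩ := (inferInstance : Nonempty (Sylow q ↥K))
    exact hK (h.trans (Q.card_dvd_index.trans (index_dvd_card _)))
  obtain ⟨Q, hQ⟩ := hpg.nonempty_fixed_point_of_prime_not_dvd_card (Sylow q ↥K) hS
  have hmem : ∀ a : ↥P, ∀ x : ↥K, x ∈ (Q : Subgroup ↥K) → a • x ∈ (Q : Subgroup ↥K) := by
    intro a x hx
    have h := hQ a
    have h2 : a • x ∈ ((a • Q : Sylow q ↥K) : Subgroup ↥K) :=
      Subgroup.smul_mem_pointwise_smul x a _ hx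
    rwa [h] at h2
  letI actQ : MulAction ↥P ↥(Q : Subgroup ↥K) :=
    { smul := fun a x => ⟨a • (x : ↥K), hmem a x x.2⟩
      one_smul := fun x => Subtype.ext (one_smul ↥P (x : ↥K))
      mul_smul := fun a b x => Subtype.ext (mul_smul a b (x : ↥K)) }
  have h1 := hpg.card_modEq_card_fixedPoints ↥(Q : Subgroup ↥K)
  have h2 : Nat.card (MulAction.fixedPoints ↥P ↥(Q : Subgroup ↥K)) = 1 := by
    rw [Nat.card_eq_one_iff_unique]
    constructor
    · refine ⟨fun x y => ?_⟩
      have key : ∀ w : MulAction.fixedPoints ↥P ↥(Q : Subgroup ↥K),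
          (((w : ↥(Q : Subgroup ↥K)) : ↥K) : G) = 1 := by
        intro w
        refine hfix _ ((w : ↥(Q : Subgroup ↥K)) : ↥K).2 fun a ha => ?_
        have h := congrArg (fun v : ↥(Q : Subgroup ↥K) => ((v : ↥K) : G)) (w.2 ⟨a, ha⟩)
        exact mul_inv_eq_iff_eq_mul.1 h
      exact Subtype.ext (Subtype.ext (Subtype.ext (by rw [key, key])))
    · exact ⟨⟨1, fun a => Subtype.ext (smul_one a)⟩⟩
  rw [h2, Q.card_eq_multiplicity] at h1
  exact h1

theorem comm_of_prime {G' : Type*} [Group G'] {p : ℕ} [Fact p.Prime] {Q : Subgroup G'}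
    (hQ : Nat.card Q = p) : ∀ a ∈ Q, ∀ b ∈ Q, a * b = b * a := by
  haveI : IsCyclic ↥Q := isCyclic_of_prime_card hQ
  intro a ha b hb
  obtain ⟨g, hg⟩ := IsCyclic.exists_generator (α := ↥Q)
  obtain ⟨i, hi⟩ := mem_zpowers_iff.1 (hg ⟨a, ha⟩)
  obtain ⟨j, hj⟩ := mem_zpowers_iff.1 (hg ⟨b, hb⟩)
  have h : (g ^ i) * (g ^ j) = (g ^ j) * (g ^ i) := by rw [← zpow_add, ← zpow_add, add_comm]
  rw [hi, hj] at h
  exact congrArg Subtype.val h

/-- The hypothesis on `p`: one class of subgroups of order `p`, self-centralising, with normaliser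
of order `m`. -/
structure Nice (G : Type u) [Group G] (p m : ℕ) : Prop where
  sylow : p ∣ Nat.card G ∧ ¬ p * p ∣ Nat.card G
  cent : ∀ P : Subgroup G, Nat.card P = p → Nat.card (centralizer (P : Set G)) = p
  norm : ∀ P : Subgroup G, Nat.card P = p → Nat.card (normalizer (P : Set G)) = m

theorem exists_sylow_card {p : ℕ} [Fact p.Prime] {H : Subgroup G} (hp : p ∣ Nat.card H)
    (hpp : ¬ p * p ∣ Nat.card H) (P : Sylow p ↥H) : Nat.card (P : Subgroup ↥H) = p := by
  rw [P.card_eq_multiplicity]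
  have h1 : 0 < (Nat.card H).factorization p :=
    (Fact.out : p.Prime).factorization_pos_of_dvd Nat.card_pos.ne' hp
  have h2 : (Nat.card H).factorization p < 2 := by
    by_contra h
    push Not at h
    exact hpp (by
      rw [← pow_two]
      exact (pow_dvd_pow p h).trans (Nat.ordProj_dvd _ _))
  rw [show (Nat.card H).factorization p = 1 by omega, pow_one]

/-- Sylow's theorem inside a subgroup. -/
theorem Nice.count {p m : ℕ} [Fact p.Prime] (N : Nice G p m) (H : Subgroup G)
    (hp : p ∣ Nat.card H) : ∃ (P : Sylow p ↥H) (k : ℕ), Nat.card (P : Subgroup ↥H) = p ∧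
      p ∣ k ∧ k ∣ m ∧ Nat.card (normalizer ((P : Subgroup ↥H) : Set ↥H)) = k ∧
      k ∣ Nat.card H ∧ Nat.card H / k % p = 1 := by
  obtain ⟨P⟩ := (inferInstance : Nonempty (Sylow p ↥H))
  have hP := exists_sylow_card hp
    (fun h => N.sylow.2 (h.trans (card_subgroup_dvd_card H))) P
  refine ⟨P, _, hP, ?_, ?_, rfl, card_subgroup_dvd_card _, ?_⟩
  · exact (dvd_of_eq hP.symm).trans (card_dvd_of_le le_normalizer)
  · rw [← N.norm ((P : Subgroup ↥H).map H.subtype) (by
        rw [card_map_of_injective (f := H.subtype) (K := (P : Subgroup ↥H)) H.subtype_injective,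
          hP])]
    rw [← card_map_of_injective (f := H.subtype) (K := normalizer ((P : Subgroup ↥H) : Set ↥H))
      H.subtype_injective]
    exact card_dvd_of_le (le_normalizer_map _)
  · have h1 := card_mul_index (normalizer ((P : Subgroup ↥H) : Set ↥H))
    have h3 : Nat.card (Sylow p ↥H) = (normalizer ((P : Subgroup ↥H) : Set ↥H)).index :=
      Sylow.card_eq_index_normalizer P
    rw [← h3] at h1
    have h2 := card_sylow_modEq_one p ↥H
    rw [← h1, Nat.mul_div_cancel_left _ Nat.card_pos]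
    rw [Nat.ModEq] at h2
    rw [h2, Nat.one_mod_eq_one]
    exact (Fact.out : p.Prime).one_lt.ne'

/-- Burnside's transfer theorem for a subgroup in which a Sylow subgroup is its own normaliser. -/
theorem Nice.complement {p m : ℕ} [Fact p.Prime] (N : Nice G p m) (H : Subgroup G)
    (P : Sylow p ↥H) (hP : Nat.card (P : Subgroup ↥H) = p)
    (hN : Nat.card (normalizer ((P : Subgroup ↥H) : Set ↥H)) = p) (q : ℕ) [Fact q.Prime] :
    q ^ (Nat.card H / p).factorization q ≡ 1 [MOD p] := by
  have hNP : normalizer ((P : Subgroup ↥H) : Set ↥H) = (P : Subgroup ↥H) :=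
    (eq_of_le_of_card_ge le_normalizer (by rw [hP, hN])).symm
  have hle : normalizer ((P : Subgroup ↥H) : Set ↥H) ≤ centralizer ((P : Subgroup ↥H) : Set ↥H) := by
    rw [hNP]
    intro a ha b hb
    exact comm_of_prime hP b hb a ha
  have hcomp := MonoidHom.ker_transferSylow_isComplement' P hle
  set K := (MonoidHom.transferSylow P hle).ker
  have hK : Nat.card K * p = Nat.card H := by rw [← hcomp.card_mul, hP]
  have hdiv : Nat.card H / p = Nat.card K := by
    rw [← hK, Nat.mul_div_cancel _ (Fact.out : p.Prime).pos]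
  rw [hdiv]
  refine coprime_mod p (P : Subgroup ↥H) K hP ?_ ?_
    (MonoidHom.not_dvd_card_ker_transferSylow P hle) q
  · rw [normalizer_eq_top K]
    exact le_top
  · intro x hx hcom
    have h1 : (x : G) ∈ centralizer ((((P : Subgroup ↥H).map H.subtype) : Subgroup G) : Set G) := by
      intro a ha
      obtain ⟨a', ha', rfl⟩ := ha
      exact congrArg Subtype.val (hcom a' ha')
    have hPc : (P : Subgroup ↥H).map H.subtype ≤
        centralizer ((((P : Subgroup ↥H).map H.subtype) : Subgroup G) : Set G) := by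
      rintro _ ⟨a, ha, rfl⟩ _ ⟨b, hb, rfl⟩
      exact congrArg Subtype.val (comm_of_prime hP b hb a ha)
    have hcard := card_map_of_injective (f := H.subtype) (K := (P : Subgroup ↥H)) H.subtype_injective
    have heq := eq_of_le_of_card_ge hPc
      (by rw [hcard, hP, N.cent _ (by rw [hcard, hP])])
    rw [← heq] at h1
    obtain ⟨x', hx', he⟩ := h1
    have hxP : x ∈ (P : Subgroup ↥H) := by rwa [← Subtype.ext he]
    have : x ∈ K ⊓ (P : Subgroup ↥H) := ⟨hx, hxP⟩
    rwa [hcomp.disjoint.eq_bot, mem_bot] at this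

theorem check_div : ∀ m ∈ Finset.Icc 2 41, 20160 % m = 0 →
    (m ≤ 7 ∨ m = 15 ∨ m = 21 ∨ m = 35 ∨ m = 10) ∨
    (7 ∣ 20160 / m ∧ ∀ k ∈ ({7, 21} : Finset ℕ), ¬ (k ∣ 20160 / m ∧ 20160 / m / k % 7 = 1)) ∨
    (5 ∣ 20160 / m ∧ ∀ k ∈ ({5, 10} : Finset ℕ), ¬ (k ∣ 20160 / m ∧ 20160 / m / k % 5 = 1)) := by
  decide +kernel

theorem dvd_split : ∀ {k : ℕ}, 7 ∣ k → k ∣ 21 → k ∈ ({7, 21} : Finset ℕ) := by
  intro k h h'
  have := Nat.le_of_dvd (by norm_num) h'
  interval_cases k <;> first | (exfalso; omega) | decide | (exfalso; revert h h'; decide)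

theorem dvd_split' : ∀ {k : ℕ}, 5 ∣ k → k ∣ 10 → k ∈ ({5, 10} : Finset ℕ) := by
  intro k h h'
  have := Nat.le_of_dvd (by norm_num) h'
  interval_cases k <;> first | (exfalso; omega) | decide | (exfalso; revert h h'; decide)

/-- The simple groups used. -/
structure Group34 (G : Type u) [Group G] : Prop where
  card : Nat.card G = 20160
  simple : IsSimpleGroup G
  seven : Nice G 7 21
  five : Nice G 5 10

theorem Group34.not_ten (L : Group34 G) (H : Subgroup G) : Nat.card H ≠ 2016 := by
  intro h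
  haveI : Fact (Nat.Prime 7) := ⟨by norm_num⟩
  obtain ⟨P, k, hP, h1, h2, hk, h3, h4⟩ := L.seven.count H (by rw [h]; norm_num)
  rw [h] at h3 h4
  have hk7 : k = 7 := by
    have := dvd_split h1 h2
    simp only [Finset.mem_insert, Finset.mem_singleton] at this
    rcases this with rfl | rfl
    · rfl
    · norm_num at h4
  have := L.seven.complement H P hP (hk.trans hk7) 2
  rw [h, show (2016 : ℕ) / 7 = 2 ^ 5 * 9 by norm_num,
    Nat.factorization_mul (by norm_num) (by norm_num), Finsupp.add_apply,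
    Nat.prime_two.factorization_pow, Finsupp.single_eq_same,
    Nat.factorization_eq_zero_of_not_dvd (by norm_num : ¬ 2 ∣ 9)] at this
  exact absurd this (by decide)

/-- Subgroups of small index. -/
theorem Group34.small (L : Group34 G) (H : Subgroup G) (h : H.index < 42) :
    H.index = 1 ∨ H.index = 15 ∨ H.index = 21 ∨ H.index = 35 := by
  haveI := L.simple
  haveI : Fact (Nat.Prime 7) := ⟨by norm_num⟩
  haveI : Fact (Nat.Prime 5) := ⟨by norm_num⟩
  have hmul := H.card_mul_index
  rw [L.card] at hmul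
  have hpos : H.index ≠ 0 := index_ne_zero_of_finite
  by_cases h1 : H.index = 1
  · exact Or.inl h1
  have hd : 20160 % H.index = 0 := by rw [← hmul]; exact Nat.mul_mod_left _ _
  have hc : Nat.card H = 20160 / H.index := by
    rw [← hmul, Nat.mul_div_cancel _ (Nat.pos_of_ne_zero hpos)]
  rcases check_div H.index (by rw [Finset.mem_Icc]; omega) hd with h2 | ⟨h2, h3⟩ | ⟨h2, h3⟩
  · rcases h2 with h2 | h2 | h2 | h2 | h2
    · exfalso
      rcases (H.normalCore_normal).eq_bot_or_eq_top with hc' | hc'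
      · have hk : Function.Injective (MulAction.toPermHom G (G ⧸ H)) :=
          (MonoidHom.ker_eq_bot_iff _).1 (by rw [← normalCore_eq_ker, hc'])
        have h5 := Nat.card_le_card_of_injective _ hk
        rw [L.card, Nat.card_perm] at h5
        have h6 := Nat.factorial_le (show Nat.card (G ⧸ H) ≤ 7 from h2)
        simp only [Nat.factorial] at h6
        omega
      · have := top_le_iff.1 (hc' ▸ H.normalCore_le)
        rw [this, index_top] at h1
        exact h1 rfl
    · exact Or.inr (Or.inl h2)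
    · exact Or.inr (Or.inr (Or.inl h2))
    · exact Or.inr (Or.inr (Or.inr h2))
    · exact absurd (by rw [hc, h2]) (L.not_ten H)
  · exfalso
    obtain ⟨-, k, -, k1, k2, -, k3, k4⟩ := L.seven.count H (hc ▸ h2)
    exact h3 k (dvd_split k1 k2) ⟨hc ▸ k3, hc ▸ k4⟩
  · exfalso
    obtain ⟨-, k, -, k1, k2, -, k3, k4⟩ := L.five.count H (hc ▸ h2)
    exact h3 k (dvd_split' k1 k2) ⟨hc ▸ k3, hc ▸ k4⟩

theorem check_odd : ∀ m ∈ Finset.Icc 16 315, 315 % m = 0 → m = 21 ∨ m = 45 ∨
    (7 ∣ 8 * m ∧ ∀ k ∈ ({7, 21} : Finset ℕ), ¬ (k ∣ 8 * m ∧ 8 * m / k % 7 = 1)) ∨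
    (5 ∣ 8 * m ∧ ∀ k ∈ ({5, 10} : Finset ℕ), ¬ (k ∣ 8 * m ∧ 8 * m / k % 5 = 1)) := by
  decide +kernel

/-- Subgroups with Sylow `2`-subgroup of order eight. -/
theorem Group34.case (L : Group34 G) (H : Subgroup G) (h8 : 8 ∣ Nat.card H)
    (h16 : ¬ 16 ∣ Nat.card H) (hbig : 125 ≤ Nat.card H) :
    Nat.card H = 168 ∨ Nat.card H = 360 := by
  haveI : Fact (Nat.Prime 7) := ⟨by norm_num⟩
  haveI : Fact (Nat.Prime 5) := ⟨by norm_num⟩
  obtain ⟨m, hm⟩ := h8
  have hdvd : 8 * m ∣ 20160 := hm ▸ L.card ▸ card_subgroup_dvd_card H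
  have hm2 : m ∣ 2520 := Nat.dvd_of_mul_dvd_mul_left (by norm_num : 0 < 8) hdvd
  have hodd : ¬ 2 ∣ m := fun h' => h16 (hm ▸ Nat.mul_dvd_mul_left 8 h')
  have hco : Nat.Coprime m 8 :=
    Nat.Coprime.pow_right 3 ((Nat.prime_two.coprime_iff_not_dvd.2 hodd).symm)
  have hm315 : m ∣ 315 := hco.dvd_of_dvd_mul_right hm2
  have hmle := Nat.le_of_dvd (by norm_num) hm315
  rcases check_odd m (by rw [Finset.mem_Icc]; omega) (Nat.dvd_iff_mod_eq_zero.1 hm315) with
    h | h | ⟨h2, h3⟩ | ⟨h2, h3⟩
  · exact Or.inl (by omega)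
  · exact Or.inr (by omega)
  · exfalso
    obtain ⟨-, k, -, k1, k2, -, k3, k4⟩ := L.seven.count H (hm ▸ h2)
    exact h3 k (dvd_split k1 k2) ⟨hm ▸ k3, hm ▸ k4⟩
  · exfalso
    obtain ⟨-, k, -, k1, k2, -, k3, k4⟩ := L.five.count H (hm ▸ h2)
    exact h3 k (dvd_split' k1 k2) ⟨hm ▸ k3, hm ▸ k4⟩

theorem two_pow_mod : ∀ i ≤ 3, 2 ^ i % 5 = 1 → i = 0 := by decide

theorem three_pow_mod : ∀ i ≤ 2, 3 ^ i % 5 = 1 → i = 0 := by decide

theorem div72_one : ∀ n ≤ 72, 72 % n = 0 → ¬ 2 ∣ n → ¬ 3 ∣ n → n = 1 := by decide +kernel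

/-- A subgroup of order `360` is simple. -/
theorem Group34.simple360 (L : Group34 G) (H : Subgroup G) (h : Nat.card H = 360) :
    IsSimpleGroup ↥H := by
  haveI : Fact (Nat.Prime 5) := ⟨by norm_num⟩
  haveI : Nontrivial ↥H := Finite.one_lt_card_iff_nontrivial.1 (by omega)
  refine ⟨fun N hN => ?_⟩
  have hNdvd : Nat.card N ∣ 360 := h ▸ card_subgroup_dvd_card N
  obtain ⟨P, k, hP, k1, k2, hk, k3, k4⟩ := L.five.count H (by rw [h]; norm_num)
  rw [h] at k3 k4
  have hk10 : k = 10 := by
    have := dvd_split' k1 k2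
    simp only [Finset.mem_insert, Finset.mem_singleton] at this
    rcases this with rfl | rfl
    · norm_num at k4
    · rfl
  by_cases h5 : 5 ∣ Nat.card N
  · -- `N` contains all thirty-six Sylow subgroups of order five
    right
    obtain ⟨Q⟩ := (inferInstance : Nonempty (Sylow 5 ↥N))
    have hsN : Nat.card (Sylow 5 ↥H) = 36 := by
      have h3 : Nat.card (Sylow 5 ↥H) = (normalizer ((P : Subgroup ↥H) : Set ↥H)).index :=
        Sylow.card_eq_index_normalizer P
      have h1 := card_mul_index (normalizer ((P : Subgroup ↥H) : Set ↥H))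
      rw [hk, hk10, h] at h1
      omega
    have hQ : Nat.card (Q : Subgroup ↥N) = 5 := exists_sylow_card h5
      (fun h' => by have := h'.trans hNdvd; norm_num at this) Q
    let Q' : Sylow 5 ↥H := Sylow.ofCard ((Q : Subgroup ↥N).map N.subtype) (by
      rw [card_map_of_injective N.subtype_injective, hQ, h,
        show (360 : ℕ) = 5 ^ 1 * 72 by norm_num, Nat.factorization_mul (by norm_num) (by norm_num),
        Finsupp.add_apply, (Fact.out : Nat.Prime 5).factorization_pow, Finsupp.single_eq_same,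
        Nat.factorization_eq_zero_of_not_dvd (by norm_num : ¬ 5 ∣ 72)]
      norm_num)
    have hall : ∀ R : Sylow 5 ↥H, (R : Subgroup ↥H) ≤ N := by
      intro R
      obtain ⟨g, rfl⟩ := MulAction.exists_smul_eq ↥H Q' R
      intro x hx
      rw [Sylow.coe_subgroup_smul] at hx
      obtain ⟨w, hw, rfl⟩ := hx
      obtain ⟨w', -, rfl⟩ := hw
      exact hN.conj_mem _ w'.2 g
    have hle : 36 ≤ Nat.card (Sylow 5 ↥N) := by
      rw [← hsN]
      exact Nat.card_le_card_of_injective (fun R => R.subtype (hall R))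
        fun R R' e => Sylow.subtype_injective (hP := hall R) (hQ := hall R') e
    obtain ⟨-, kN, -, n1, n2, hkN, n3, -⟩ :=
      L.five.count (N.map H.subtype) (by rwa [card_map_of_injective H.subtype_injective])
    have hkN5 : 5 ≤ Nat.card (normalizer ((Q : Subgroup ↥N) : Set ↥N)) :=
      hQ.symm.le.trans (Nat.le_of_dvd Nat.card_pos (card_dvd_of_le le_normalizer))
    have hidx := card_mul_index (normalizer ((Q : Subgroup ↥N) : Set ↥N))
    have h3 : Nat.card (Sylow 5 ↥N) = (normalizer ((Q : Subgroup ↥N) : Set ↥N)).index :=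
      Sylow.card_eq_index_normalizer Q
    rw [← h3] at hidx
    have h180 : 180 ≤ Nat.card N := by
      rw [← hidx]
      calc 180 = 5 * 36 := by norm_num
        _ ≤ _ := Nat.mul_le_mul hkN5 hle
    rcases eq_or_ne (Nat.card N) 360 with he | he
    · exact eq_top_of_card_eq N (by rw [he, h])
    exfalso
    have hN180 : Nat.card N = 180 := by
      obtain ⟨t, ht⟩ := hNdvd
      rcases Nat.lt_or_ge t 2 with ht2 | ht2
      · interval_cases t <;> omega
      · rcases Nat.lt_or_ge t 3 with ht3 | ht3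
        · interval_cases t; omega
        · have := Nat.mul_le_mul h180 ht3
          omega
    -- then a Sylow subgroup of order five of `N` is its own normaliser
    set N' := N.map H.subtype with hN'
    have hN'c : Nat.card N' = 180 := by rw [hN', card_map_of_injective H.subtype_injective, hN180]
    obtain ⟨PN, kk, hPN, j1, j2, hkk, j3, j4⟩ := L.five.count N' (by rw [hN'c]; norm_num)
    rw [hN'c] at j3 j4
    have hkk5 : kk = 5 := by
      have := dvd_split' j1 j2
      simp only [Finset.mem_insert, Finset.mem_singleton] at this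
      rcases this with rfl | rfl
      · rfl
      · norm_num at j4
    have := L.five.complement N' PN hPN (hkk.trans hkk5) 2
    rw [hN'c, show (180 : ℕ) / 5 = 2 ^ 2 * 9 by norm_num,
      Nat.factorization_mul (by norm_num) (by norm_num), Finsupp.add_apply,
      Nat.prime_two.factorization_pow, Finsupp.single_eq_same,
      Nat.factorization_eq_zero_of_not_dvd (by norm_num : ¬ 2 ∣ 9)] at this
    exact absurd this (by decide)
  · left
    have hc : Nat.card N ∣ 72 :=
      ((Fact.out : Nat.Prime 5).coprime_iff_not_dvd.2 h5).symm.dvd_of_dvd_mul_left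
        (by rw [show 5 * 72 = 360 from rfl]; exact hNdvd)
    have hfix : ∀ x ∈ N, (∀ a ∈ (P : Subgroup ↥H), a * x = x * a) → x = 1 := by
      intro x hx hcom
      have h1 : (x : G) ∈ centralizer ((((P : Subgroup ↥H).map H.subtype) : Subgroup G) : Set G) := by
        intro a ha
        obtain ⟨a', ha', rfl⟩ := ha
        exact congrArg Subtype.val (hcom a' ha')
      have hcard := card_map_of_injective (f := H.subtype) (K := (P : Subgroup ↥H)) H.subtype_injective
      have ho : orderOf (x : G) ∣ 5 := by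
        have := L.five.cent _ (hcard.trans hP)
        rw [← this]
        exact orderOf_dvd_natCard _ h1
      have ho' : orderOf x ∣ Nat.card N := orderOf_dvd_natCard _ hx
      rw [Subgroup.orderOf_coe] at ho
      rcases (Nat.dvd_prime (Fact.out : Nat.Prime 5)).1 ho with h' | h'
      · exact orderOf_eq_one_iff.1 h'
      · exact absurd (h' ▸ ho') h5
    haveI := hN
    have hmod := coprime_mod 5 (P : Subgroup ↥H) N hP
      (by rw [normalizer_eq_top N]; exact le_top) hfix h5
    have key : ∀ q : ℕ, q.Prime → ∀ i, (Nat.card N).factorization q = i → q ^ i % 5 = 1 := by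
      intro q hq i hi
      haveI := Fact.mk hq
      have := hmod q
      rwa [hi] at this
    have hb2 : (Nat.card N).factorization 2 ≤ 3 := by
      refine (Nat.factorization_le_iff_dvd Nat.card_pos.ne' (by norm_num)).2 hc 2 |>.trans (le_of_eq ?_)
      rw [show (72 : ℕ) = 2 ^ 3 * 9 by norm_num, Nat.factorization_mul (by norm_num) (by norm_num),
        Finsupp.add_apply, Nat.prime_two.factorization_pow, Finsupp.single_eq_same,
        Nat.factorization_eq_zero_of_not_dvd (by norm_num : ¬ 2 ∣ 9)]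
    have hb3 : (Nat.card N).factorization 3 ≤ 2 := by
      refine (Nat.factorization_le_iff_dvd Nat.card_pos.ne' (by norm_num)).2 hc 3 |>.trans (le_of_eq ?_)
      rw [show (72 : ℕ) = 3 ^ 2 * 8 by norm_num, Nat.factorization_mul (by norm_num) (by norm_num),
        Finsupp.add_apply, Nat.prime_three.factorization_pow, Finsupp.single_eq_same,
        Nat.factorization_eq_zero_of_not_dvd (by norm_num : ¬ 3 ∣ 8)]
    have e2 := two_pow_mod _ hb2 (key 2 Nat.prime_two _ rfl)
    have e3 := three_pow_mod _ hb3 (key 3 Nat.prime_three _ rfl)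
    refine eq_bot_of_card_eq N (div72_one _ (Nat.le_of_dvd (by norm_num) hc)
      (Nat.dvd_iff_mod_eq_zero.1 hc) (fun h' => ?_) fun h' => ?_)
    · have := Nat.prime_two.factorization_pos_of_dvd Nat.card_pos.ne' h'
      omega
    · have := Nat.prime_three.factorization_pos_of_dvd Nat.card_pos.ne' h'
      omega

set_option synthInstance.maxSize 4096 in
set_option synthInstance.maxHeartbeats 400000 in
set_option maxHeartbeats 4000000 in
theorem alt_six_pairs : ∀ f : ↥(alternatingGroup (Fin 6)), f * f = 1 →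
    ∀ g : ↥(alternatingGroup (Fin 6)), g * g = 1 →
    (f * g) * (f * g) * ((f * g) * (f * g)) = 1 → (f * g) * (f * g) ≠ 1 →
    ∃ b : ↥(alternatingGroup (Fin 6)), b ≠ 1 ∧ b * b = 1 ∧ (b * f) ^ 3 = 1 ∧ (b * g) ^ 3 = 1 ∧
      (b * f * g) ^ 5 = 1 := by
  decide +kernel

/-- The generator `b` of a subgroup of order `360`. -/
theorem Group34.six (L : Group34 G) {f g z : G} (H : Subgroup G) (h : Nat.card H = 360)
    (hf : f ∈ H) (hg : g ∈ H) (hf2 : f * f = 1) (hg2 : g * g = 1)
    (hfg : (f * g) * (f * g) = z) (hz2 : z * z = 1) (hz1 : z ≠ 1) :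
    ∃ b ∈ H, orderOf b = 2 ∧ (b * f) ^ 3 = 1 ∧ (b * g) ^ 3 = 1 ∧ (b * f * g) ^ 5 = 1 := by
  haveI := L.simple360 H h
  obtain ⟨e⟩ := S0497.result (G := ↥H) h
  set F : ↥H := ⟨f, hf⟩
  set Gg : ↥H := ⟨g, hg⟩
  obtain ⟨b, b1, b2, b3, b4, b5⟩ := alt_six_pairs (e F)
    (by rw [← map_mul, show F * F = 1 from Subtype.ext hf2, map_one]) (e Gg)
    (by rw [← map_mul, show Gg * Gg = 1 from Subtype.ext hg2, map_one])
    (by rw [← map_mul, ← map_mul, ← map_mul,
      show F * Gg * (F * Gg) * (F * Gg * (F * Gg)) = 1 from Subtype.ext (by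
        show f * g * (f * g) * (f * g * (f * g)) = 1
        rw [hfg, hz2]), map_one])
    (fun h' => hz1 (by
      rw [← map_mul, ← map_mul, MulEquiv.map_eq_one_iff] at h'
      rw [← hfg]
      exact congrArg Subtype.val h'))
  haveI := Fact.mk Nat.prime_two
  have t : ∀ {x : ↥(alternatingGroup (Fin 6))}, x = 1 → ((e.symm x : ↥H) : G) = 1 := fun hx => by
    rw [hx, map_one, OneMemClass.coe_one]
  refine ⟨(e.symm b : ↥H), (e.symm b).2, ?_, ?_, ?_, ?_⟩
  · refine orderOf_eq_prime ?_ fun h' => b1 ?_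
    · have := t b2
      rw [map_mul, Subgroup.coe_mul] at this
      rw [pow_two]; exact this
    · have : e.symm b = 1 := Subtype.ext h'
      rwa [MulEquiv.map_eq_one_iff] at this
  · have := t b3
    simp only [map_pow, map_mul, MulEquiv.symm_apply_apply, SubgroupClass.coe_pow,
      Subgroup.coe_mul] at this
    exact this
  · have := t b4
    simp only [map_pow, map_mul, MulEquiv.symm_apply_apply, SubgroupClass.coe_pow,
      Subgroup.coe_mul] at this
    exact this
  · have := t b5
    simp only [map_pow, map_mul, MulEquiv.symm_apply_apply, SubgroupClass.coe_pow,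
      Subgroup.coe_mul] at this
    exact this

end Cfsg.Agent.SuzPresArith50
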