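import Cfsg.Agent.Lib.SuzPresModel50
import Cfsg.Agent.Lib.PSLCard

/-!
The completion of `SuzPresModel50.complete_tP` in an arbitrary copy of `PSL₃(4)`.
-/

set_option autoImplicit false

namespace Cfsg.Agent.SuzPresL34Gen50

open Cfsg.Agent.FieldFour15 Cfsg.Agent.L34Cover60 Cfsg.Agent.SuzPresModel50

universe u

/-- A copy of `PSL₃(4)` is isomorphic to the model. -/
theorem exists_equiv {L : Type u} [Group L] {F : Type} [Field F] [Fintype F]
    (hF : Fintype.card F = 4) (e : L ≃* Matrix.ProjectiveSpecialLinearGroup (Fin 3) F) :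
    Nonempty (L ≃* P3) := by
  refine ⟨e.trans (PSLCard.pslEquivOfCard ?_)⟩
  rw [Nat.card_eq_fintype_card, Nat.card_eq_fintype_card, hF, K4.card_eq]

theorem orderOf_tP : orderOf tP = 2 := by
  haveI := Fact.mk Nat.prime_two
  refine orderOf_eq_prime ?_ ?_
  · rw [pow_two, tP, pr_mul_eq_one, φ_mk (show t9.det = .l by decide)]
    decide
  · intro e
    rw [tP, pr_eq_one_iff, φ_mk (show t9.det = .l by decide)] at e
    exact absurd e (by decide)

/-- An isomorphism to the model carrying a given involution to the transvection. -/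
theorem exists_equiv_tP {L : Type u} [Group L] {F : Type} [Field F] [Fintype F]
    (hF : Fintype.card F = 4) (e : L ≃* Matrix.ProjectiveSpecialLinearGroup (Fin 3) F)
    {z : L} (hz : orderOf z = 2) : ∃ θ : L ≃* P3, θ z = tP := by
  obtain ⟨ψ⟩ := exists_equiv hF e
  obtain ⟨k, hk⟩ := isConj_iff.1 (CNFactsPSL34_57.one_class K4.card_eq (ψ z) tP
    (by rw [ψ.orderOf_eq, hz]) orderOf_tP)
  exact ⟨ψ.trans (MulAut.conj k), hk⟩

/-- The completion of a dihedral group of involutions to generators. -/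
theorem complete {L : Type u} [Group L] {F : Type} [Field F] [Fintype F]
    (hF : Fintype.card F = 4) (e : L ≃* Matrix.ProjectiveSpecialLinearGroup (Fin 3) F)
    {z f g c b : L} (hz : orderOf z = 2) (hf : f * f = 1) (hg : g * g = 1) (hc : c * c = 1)
    (hfg : (f * g) * (f * g) = z) (hcf : c * f = f * c) (hcg : c * g = g * c) (hc1 : c ≠ 1)
    (hct : c ≠ z) (hb : orderOf b = 2) (hbf : (b * f) ^ 3 = 1) (hbg : (b * g) ^ 3 = 1)
    (hbfg : (b * f * g) ^ 5 = 1) :
    (z * b) ^ 5 = 1 ∧
      (((b * c) ^ 3 = 1 ∧ (z * b * (c * f)) ^ 5 = 1 ∧ (b * c * (f * g)) ^ 7 = 1) ∨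
        ((b * (c * z)) ^ 3 = 1 ∧ (z * b * (c * z * f)) ^ 5 = 1 ∧
          (b * (c * z) * (f * g)) ^ 7 = 1)) ∧
      ¬ ((b * c) ^ 3 = 1 ∧ (b * (c * z)) ^ 3 = 1) := by
  obtain ⟨θ, hθ⟩ := exists_equiv_tP hF e hz
  have m1 : ∀ x y : L, x * y = 1 → θ x * θ y = 1 := fun x y h => by rw [← map_mul, h, map_one]
  have m2 : ∀ x y : L, x * y = y * x → θ x * θ y = θ y * θ x := fun x y h => by
    rw [← map_mul, h, map_mul]
  have h := complete_tP (m1 f f hf) (m1 g g hg) (m1 c c hc)
    (by rw [← hθ, ← hfg]; simp only [map_mul]) (m2 c f hcf) (m2 c g hcg)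
    (fun e' => hc1 (θ.injective (by rw [e', map_one])))
    (fun e' => hct (θ.injective (by rw [e', hθ]))) (by rw [θ.orderOf_eq, hb])
    (by rw [← map_mul, ← map_pow, hbf, map_one]) (by rw [← map_mul, ← map_pow, hbg, map_one])
    (by rw [← map_mul, ← map_mul, ← map_pow, hbfg, map_one])
  rw [← hθ] at h
  simpa only [← map_mul, ← map_pow, MulEquiv.map_eq_one_iff] using h

/-- The involutions centralising `f` and `g` besides `z` differ by it. -/
theorem unique_c {L : Type u} [Group L] {F : Type} [Field F] [Fintype F]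
    (hF : Fintype.card F = 4) (e : L ≃* Matrix.ProjectiveSpecialLinearGroup (Fin 3) F)
    {z f g c c' : L} (hz : orderOf z = 2) (hf : f * f = 1) (hg : g * g = 1)
    (hfg : (f * g) * (f * g) = z) (hzf : f * z = z * f) (hzg : g * z = z * g) (hf1 : f ≠ 1)
    (hft : f ≠ z) (hg1 : g ≠ 1) (hgt : g ≠ z) (hc : c * c = 1) (hcf : c * f = f * c)
    (hcg : c * g = g * c) (hc1 : c ≠ 1) (hct : c ≠ z) (hc' : c' * c' = 1)
    (hcf' : c' * f = f * c') (hcg' : c' * g = g * c') (hc1' : c' ≠ 1) (hct' : c' ≠ z) :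
    c' = c ∨ c' = c * z := by
  obtain ⟨θ, hθ⟩ := exists_equiv_tP hF e hz
  have m1 : ∀ x y : L, x * y = 1 → θ x * θ y = 1 := fun x y h => by rw [← map_mul, h, map_one]
  have m2 : ∀ x y : L, x * y = y * x → θ x * θ y = θ y * θ x := fun x y h => by
    rw [← map_mul, h, map_mul]
  have m3 : ∀ x : L, x ≠ 1 → θ x ≠ 1 := fun x h e' => h (θ.injective (by rw [e', map_one]))
  have m4 : ∀ x : L, x ≠ z → θ x ≠ tP := fun x h e' => h (θ.injective (by rw [e', hθ]))
  have h := uniq_tP (m1 f f hf) (m1 g g hg) (by rw [← hθ, ← hfg]; simp only [map_mul])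
    (hθ ▸ m2 f z hzf) (hθ ▸ m2 g z hzg) (m3 f hf1) (m4 f hft) (m3 g hg1) (m4 g hgt)
    (m1 c c hc) (m2 c f hcf) (m2 c g hcg) (m3 c hc1) (m4 c hct)
    (m1 c' c' hc') (m2 c' f hcf') (m2 c' g hcg') (m3 c' hc1') (m4 c' hct')
  rw [← hθ] at h
  simp only [← map_mul, MulEquiv.map_eq_one_iff] at h
  have hzc : c * z = z * c := by
    rw [← hfg]
    exact ((Commute.mul_right hcf hcg).mul_right (Commute.mul_right hcf hcg)).eq
  rcases h with h | h
  · exact Or.inl ((mul_left_cancel (hc.trans h.symm)).symm)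
  · right
    rw [mul_assoc] at h
    have h2 : c' * z = c := (mul_left_cancel (hc.trans h.symm)).symm
    have hz2 : z * z = 1 := by rw [← pow_two, ← hz, pow_orderOf_eq_one]
    rw [← h2, mul_assoc, hz2, mul_one]

theorem cz_inj : ∀ p q : K4 × K4 × K4, (cz p).cd = (cz q).cd → p = q := by decide +kernel

theorem cz_comm : ∀ p : K4 × K4 × K4, (cz p).mul t9 = t9.mul (cz p) := by decide +kernel

theorem card_cent_tP : Nat.card (Subgroup.centralizer ({tP} : Set P3)) = 64 := by
  have hd : t9.det = .l := by decide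
  have hinj : Function.Injective fun p => pr (mk (cz p)) := fun p q h => cz_inj p q (by
    have := cd_eq_of_pr h
    rwa [φ_mk (det_cz p), φ_mk (det_cz q)] at this)
  have he : (Subgroup.centralizer ({tP} : Set P3) : Set P3) =
      Set.range fun p => pr (mk (cz p)) := by
    ext x
    constructor
    · intro hx
      obtain ⟨p, hp⟩ := cent_tP (Subgroup.mem_centralizer_singleton_iff.1 hx)
      exact ⟨p, hp.symm⟩
    · rintro ⟨p, rfl⟩
      refine Subgroup.mem_centralizer_singleton_iff.2 ?_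
      show pr (mk (cz p)) * pr (mk t9) = pr (mk t9) * pr (mk (cz p))
      rw [← map_mul, ← map_mul]
      congr 1
      exact φ_injective (by rw [φ_mul, φ_mul, φ_mk hd, φ_mk (det_cz p), cz_comm])
  show Nat.card ((Subgroup.centralizer ({tP} : Set P3) : Subgroup P3) : Set P3) = 64
  rw [he, Nat.card_range_of_injective hinj, Nat.card_prod, Nat.card_prod, Nat.card_eq_fintype_card,
    K4.card_eq]

/-- The centraliser of an involution has order `64`. -/
theorem card_cent {L : Type u} [Group L] {F : Type} [Field F] [Fintype F]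
    (hF : Fintype.card F = 4) (e : L ≃* Matrix.ProjectiveSpecialLinearGroup (Fin 3) F)
    {z : L} (hz : orderOf z = 2) : Nat.card (Subgroup.centralizer ({z} : Set L)) = 64 := by
  obtain ⟨θ, hθ⟩ := exists_equiv_tP hF e hz
  rw [← card_cent_tP]
  refine Nat.card_congr (Equiv.subtypeEquiv θ.toEquiv fun x => ?_)
  show x ∈ Subgroup.centralizer ({z} : Set L) ↔ θ x ∈ Subgroup.centralizer ({tP} : Set P3)
  rw [Subgroup.mem_centralizer_singleton_iff, Subgroup.mem_centralizer_singleton_iff, ← hθ,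
    ← map_mul, ← map_mul, θ.injective.eq_iff]

/-- Involutions are conjugate. -/
theorem isConj_invol {L : Type u} [Group L] {F : Type} [Field F] [Fintype F]
    (hF : Fintype.card F = 4) (e : L ≃* Matrix.ProjectiveSpecialLinearGroup (Fin 3) F)
    {a b : L} (ha : orderOf a = 2) (hb : orderOf b = 2) : IsConj a b := by
  obtain ⟨c, hc⟩ := isConj_iff.1 (CNFactsPSL34_57.one_class hF (e a) (e b)
    (by rw [e.orderOf_eq, ha]) (by rw [e.orderOf_eq, hb]))
  exact isConj_iff.2 ⟨e.symm c, e.injective (by simp [hc])⟩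

end Cfsg.Agent.SuzPresL34Gen50
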