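import Cfsg.Agent.Lib.SuzPresData50
import Cfsg.Agent.Lib.SuzPresL34Gen50
import Cfsg.Agent.Lib.PSLSimple

/-!
Elementary consequences of `SuzPresData50.Data`.
-/

set_option autoImplicit false

namespace Cfsg.Agent.SuzPresBase50

open Subgroup Cfsg.Agent.SuzPresData50

universe u

variable {G : Type u} [Group G]

theorem mem_cy {y x : G} : x ∈ centralizer ({y} : Set G) ↔ x * y = y * x :=
  mem_centralizer_singleton_iff

theorem mem_Lv {v y x : G} : x ∈ Lv v y ↔ x * v = v * x ∧ x * y = y * x := by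
  rw [Lv, mem_inf, mem_centralizer_singleton_iff, mem_centralizer_singleton_iff]

theorem comm_zpow {y x k : G} (h : x * y = y * x) (hk : k ∈ zpowers y) : x * k = k * x := by
  obtain ⟨i, rfl⟩ := hk
  exact (Commute.zpow_right h i).eq

theorem zpowers_le_cy (y : G) : zpowers y ≤ centralizer ({y} : Set G) :=
  zpowers_le.2 (mem_cy.2 rfl)

/-- `H⟨y⟩` for a subgroup `H` centralising `y`. -/
def mulX (H : Subgroup G) (y : G) (hH : H ≤ centralizer ({y} : Set G)) : Subgroup G where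
  carrier := {w | ∃ k ∈ zpowers y, w * k⁻¹ ∈ H}
  one_mem' := ⟨1, one_mem _, by simp⟩
  mul_mem' := by
    rintro a b ⟨k, hk, ha⟩ ⟨l, hl, hb⟩
    refine ⟨k * l, mul_mem hk hl, ?_⟩
    have e : a * b * (k * l)⁻¹ = a * k⁻¹ * (b * l⁻¹) := by
      have h1 : b * l⁻¹ * k⁻¹ = k⁻¹ * (b * l⁻¹) :=
        comm_zpow (mem_cy.1 (hH hb)) (inv_mem hk)
      calc a * b * (k * l)⁻¹ = a * (b * l⁻¹ * k⁻¹) := by simp [mul_assoc]
        _ = a * (k⁻¹ * (b * l⁻¹)) := by rw [h1]
        _ = a * k⁻¹ * (b * l⁻¹) := by simp [mul_assoc]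
    rw [e]
    exact mul_mem ha hb
  inv_mem' := by
    rintro a ⟨k, hk, ha⟩
    refine ⟨k⁻¹, inv_mem hk, ?_⟩
    have h1 : a * k⁻¹ * k = k * (a * k⁻¹) := comm_zpow (mem_cy.1 (hH ha)) hk
    rw [inv_mul_cancel_right] at h1
    have h2 : k * a = a * k := by
      conv_rhs => rw [h1]
      simp [mul_assoc]
    have h3 : a⁻¹ * k⁻¹⁻¹ = (a * k⁻¹)⁻¹ := by
      rw [inv_inv, mul_inv_rev, inv_inv, eq_comm]
      exact (Commute.inv_right h2).eq
    rw [h3]
    exact inv_mem ha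

variable {H : Subgroup G} {y : G} (hH : H ≤ centralizer ({y} : Set G))

theorem mem_mulX {w : G} : w ∈ mulX H y hH ↔ ∃ k ∈ zpowers y, w * k⁻¹ ∈ H := Iff.rfl

theorem le_mulX : H ≤ mulX H y hH := fun x hx => ⟨1, one_mem _, by simpa using hx⟩

theorem mulX_le_cy : mulX H y hH ≤ centralizer ({y} : Set G) := by
  rintro w ⟨k, hk, h⟩
  have := mul_mem (hH h) (zpowers_le_cy y hk)
  rwa [inv_mul_cancel_right] at this

theorem card_mulX [Finite G] (hdisj : ∀ x ∈ H, x ∈ zpowers y → x = 1) :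
    Nat.card (mulX H y hH) = Nat.card H * Nat.card (zpowers y) := by
  rw [← Nat.card_prod]
  symm
  refine Nat.card_congr (Equiv.ofBijective
    (fun p : ↥H × ↥(zpowers y) => (⟨p.1.1 * p.2.1, p.2.1, p.2.2, by simp⟩ : mulX H y hH))
    ⟨fun p q h => ?_, fun w => ?_⟩)
  · have e : p.1.1 * p.2.1 = q.1.1 * q.2.1 := congrArg Subtype.val h
    have e' : (q.1.1)⁻¹ * p.1.1 = q.2.1 * (p.2.1)⁻¹ := by
      rw [inv_mul_eq_iff_eq_mul, ← mul_assoc, ← e, mul_inv_cancel_right]
    have h1 := hdisj _ (mul_mem (inv_mem q.1.2) p.1.2) (e' ▸ mul_mem q.2.2 (inv_mem p.2.2))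
    rw [inv_mul_eq_one] at h1
    exact Prod.ext (Subtype.ext h1.symm) (Subtype.ext (mul_left_cancel (h1 ▸ e)))
  · obtain ⟨k, hk, h⟩ := w.2
    exact ⟨(⟨_, h⟩, ⟨k, hk⟩), Subtype.ext (by simp)⟩

/-- The consequences of `(v · v^y) = v^{y⁻¹}`. -/
theorem four_cube {v y k e : G} (v2 : v * v = 1) (vfour : v * (y * v * y⁻¹) = y⁻¹ * v * y)
    (y3 : y ^ 3 = 1) (he : e = v ∨ e = y * v * y⁻¹ ∨ e = y⁻¹ * v * y)
    (hk : k = y ∨ k = y⁻¹) : (k * e) ^ 3 = 1 := by
  have hy : y * (y * y) = 1 := by rw [← y3]; simp [pow_succ, mul_assoc]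
  have hyy : y * y = y⁻¹ := eq_inv_of_mul_eq_one_right hy
  have hb : (y * v * y⁻¹) * (y * v * y⁻¹) = 1 := by
    calc (y * v * y⁻¹) * (y * v * y⁻¹) = y * (v * v) * y⁻¹ := by group
      _ = 1 := by rw [v2]; group
  have hc : (y⁻¹ * v * y) * (y⁻¹ * v * y) = 1 := by
    calc (y⁻¹ * v * y) * (y⁻¹ * v * y) = y⁻¹ * (v * v) * y := by group
      _ = 1 := by rw [v2]; group
  have P1 : v * (y * v * y⁻¹) * (y⁻¹ * v * y) = 1 := by rw [vfour, hc]
  have P2 : (y * v * y⁻¹) * v * (y⁻¹ * v * y) = 1 := by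
    have h1 : (y * v * y⁻¹) * v = y⁻¹ * v * y := by
      have hi : ((y⁻¹ * v * y) : G)⁻¹ = y⁻¹ * v * y := inv_eq_of_mul_eq_one_left hc
      rw [← vfour, mul_inv_rev, inv_eq_of_mul_eq_one_left hb, inv_eq_of_mul_eq_one_left v2] at hi
      exact hi.trans vfour
    rw [h1, hc]
  have hrot : ∀ a b : G, a * b = 1 → b * a = 1 := fun a b h => mul_eq_one_comm.1 h
  have key1 : ∀ e : G, (y * e) ^ 3 = (y * e * y⁻¹) * (y⁻¹ * e * y) * e := fun e => by
    have : (y * e) ^ 3 = (y * e * y⁻¹) * ((y * y) * e * (y * y)⁻¹) * (y * (y * y) * e) := by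
      simp only [pow_succ, pow_zero, one_mul]; group
    rw [this, hy, one_mul, hyy, inv_inv]
  have key2 : ∀ e : G, (y⁻¹ * e) ^ 3 = (y⁻¹ * e * y) * (y * e * y⁻¹) * e := fun e => by
    have : (y⁻¹ * e) ^ 3 =
        (y⁻¹ * e * y) * ((y * y)⁻¹ * e * (y * y)) * ((y * (y * y))⁻¹ * e) := by
      simp only [pow_succ, pow_zero, one_mul]; group
    rw [this, hy, inv_one, one_mul, hyy, inv_inv]
  have c1 : y * (y⁻¹ * v * y) * y⁻¹ = v := by group
  have c2 : y⁻¹ * (y * v * y⁻¹) * y = v := by group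
  have c3 : y * (y * v * y⁻¹) * y⁻¹ = y⁻¹ * v * y := by
    rw [show y * (y * v * y⁻¹) * y⁻¹ = (y * y) * v * (y * y)⁻¹ by group, hyy, inv_inv]
  have c4 : y⁻¹ * (y⁻¹ * v * y) * y = y * v * y⁻¹ := by
    rw [show y⁻¹ * (y⁻¹ * v * y) * y = (y * y)⁻¹ * v * (y * y) by group, hyy, inv_inv]
  have hAB : v * (y * v * y⁻¹) = y⁻¹ * v * y := vfour
  have hBA : (y * v * y⁻¹) * v = y⁻¹ * v * y := by
    calc (y * v * y⁻¹) * v = ((y * v * y⁻¹) * v * (y⁻¹ * v * y)) * (y⁻¹ * v * y) := by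
          rw [mul_assoc _ (y⁻¹ * v * y) (y⁻¹ * v * y), hc, mul_one]
      _ = y⁻¹ * v * y := by rw [P2, one_mul]
  set A := v with hA
  set B := y * v * y⁻¹ with hB
  set C := y⁻¹ * v * y with hC
  have t1 : B * C * A = 1 := by
    calc B * C * A = (B * A) * (B * A) := by rw [← hAB]; simp only [mul_assoc]
      _ = 1 := by rw [hBA, hc]
  have t2 : C * A * B = 1 := by rw [mul_assoc, hAB, hc]
  have t3 : C * B * A = 1 := by rw [mul_assoc, hBA, hc]
  have t4 : A * C * B = 1 := by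
    calc A * C * B = (A * B) * (A * B) := by rw [← hBA]; simp only [mul_assoc]
      _ = 1 := by rw [hAB, hc]
  rcases hk with hk | hk <;> subst hk <;> rcases he with he | he | he <;> subst he
  · rw [key1]; exact t1
  · rw [key1, c3, c2]; exact t2
  · rw [key1, c1, c4]; exact P1
  · rw [key2]; exact t3
  · rw [key2, c2, c3]; exact t4
  · rw [key2, c4, c1]; exact P2

end Cfsg.Agent.SuzPresBase50

namespace Cfsg.Agent.SuzPresData50.Data

open Subgroup Cfsg.Agent.SuzPresBase50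

universe u

variable {G : Type u} [Group G] {y z v v₁ f g c : G} (D : Data y z v v₁ f g c)
include D

theorem card_X : Nat.card (zpowers y) = 3 := by
  haveI := Fact.mk Nat.prime_three
  rw [Nat.card_zpowers, orderOf_eq_prime D.y3 D.y1]

theorem eq_one_or_gen {k : G} (hk : k ∈ zpowers y) : k = 1 ∨ k = y ∨ k = y⁻¹ := by
  obtain ⟨i, rfl⟩ := hk
  show y ^ i = 1 ∨ y ^ i = y ∨ y ^ i = y⁻¹
  rw [zpow_eq_zpow_emod' i D.y3]
  have h : i % ((3 : ℕ) : ℤ) = 0 ∨ i % ((3 : ℕ) : ℤ) = 1 ∨ i % ((3 : ℕ) : ℤ) = 2 := by omega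
  rcases h with h | h | h <;> rw [h]
  · exact Or.inl (zpow_zero y)
  · exact Or.inr (Or.inl (zpow_one y))
  · refine Or.inr (Or.inr (eq_inv_of_mul_eq_one_left ?_))
    rw [show (2 : ℤ) = ((2 : ℕ) : ℤ) from rfl, zpow_natCast, ← pow_succ]
    exact D.y3

theorem zpow_sq {k : G} (hk : k ∈ zpowers y) (h : k * k = 1) : k = 1 := by
  rcases D.eq_one_or_gen hk with rfl | rfl | rfl
  · rfl
  · have := D.y3
    rw [pow_succ, pow_two, h, one_mul] at this
    exact this
  · have h' : y * y = 1 := by simpa [mul_inv_rev] using congrArg Inv.inv h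
    have := D.y3
    rw [pow_succ, pow_two, h', one_mul] at this
    rw [this, inv_one]

theorem v1_ne : v₁ * y = y * v₁ → False := by
  obtain ⟨h, hy, he⟩ := D.conj
  intro hc
  have hyi : h⁻¹ * y = y * h⁻¹ := (Commute.inv_left hy).eq
  refine D.vy ?_
  have hv : v = h⁻¹ * v₁ * h := by rw [← he]; group
  rw [hv]
  calc y * (h⁻¹ * v₁ * h) = y * h⁻¹ * (v₁ * h) := by simp [mul_assoc]
    _ = h⁻¹ * (y * v₁) * h := by rw [← hyi]; simp [mul_assoc]
    _ = h⁻¹ * (v₁ * y) * h := by rw [hc]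
    _ = h⁻¹ * v₁ * (y * h) := by simp [mul_assoc]
    _ = h⁻¹ * v₁ * (h * y) := by rw [hy]
    _ = h⁻¹ * v₁ * h * y := by simp [mul_assoc]

theorem y_not_mem {x : G} (hx : x = v ∨ x = v₁) : y ∉ Lv x y := by
  intro h
  rcases hx with rfl | rfl
  · exact D.vy (mem_Lv.1 h).1
  · exact D.v1_ne (mem_Lv.1 h).1.symm

theorem disj {x : G} (hx : x = v ∨ x = v₁) : ∀ w ∈ Lv x y, w ∈ zpowers y → w = 1 := by
  intro w hw hk
  rcases D.eq_one_or_gen hk with rfl | rfl | rfl
  · rfl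
  · exact absurd hw (D.y_not_mem hx)
  · exact absurd (by simpa using inv_mem hw) (D.y_not_mem hx)

theorem zf : z * f = f * z := by
  have hfi : f⁻¹ = f := inv_eq_of_mul_eq_one_left D.f2
  have hgi : g⁻¹ = g := inv_eq_of_mul_eq_one_left D.g2
  have hzi : z⁻¹ = z := inv_eq_of_mul_eq_one_left D.z2
  have hgf : g * f * (g * f) = z := by
    rw [← hzi, ← D.fg]
    simp only [mul_inv_rev, hfi, hgi, mul_assoc]
  calc z * f = f * (g * f * (g * f)) := by rw [← D.fg]; simp only [mul_assoc]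
    _ = f * z := by rw [hgf]

theorem zg : z * g = g * z := by
  have hfi : f⁻¹ = f := inv_eq_of_mul_eq_one_left D.f2
  have hgi : g⁻¹ = g := inv_eq_of_mul_eq_one_left D.g2
  have hzi : z⁻¹ = z := inv_eq_of_mul_eq_one_left D.z2
  have hgf : g * f * (g * f) = z := by
    rw [← hzi, ← D.fg]
    simp only [mul_inv_rev, hfi, hgi, mul_assoc]
  calc z * g = (g * f * (g * f)) * g := by rw [hgf]
    _ = g * z := by rw [← D.fg]; simp only [mul_assoc]

theorem zc : z * c = c * z := by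
  rw [← D.fg]
  exact ((Commute.mul_left (D.cf.symm : Commute f c) D.cg.symm).mul_left
    (Commute.mul_left (D.cf.symm : Commute f c) D.cg.symm)).eq

theorem z_mem : z ∈ Lv v y := by
  rw [← D.fg]
  exact mul_mem (mul_mem D.f_mem D.g_mem) (mul_mem D.f_mem D.g_mem)

theorem f_mem₁ : f ∈ Lv v₁ y := mem_Lv.2 ⟨D.v1f.symm, (mem_Lv.1 D.f_mem).2⟩

theorem g_mem₁ : g ∈ Lv v₁ y := mem_Lv.2 ⟨D.v1g.symm, (mem_Lv.1 D.g_mem).2⟩

theorem z_mem₁ : z ∈ Lv v₁ y := by
  rw [← D.fg]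
  exact mul_mem (mul_mem D.f_mem₁ D.g_mem₁) (mul_mem D.f_mem₁ D.g_mem₁)

theorem alt : Data y z v v₁ f g (c * z) where
  y3 := D.y3
  y1 := D.y1
  card_cy := D.card_cy
  card_cyz := D.card_cyz
  perfect := D.perfect
  normal_cy := D.normal_cy
  v2 := D.v2
  vy := D.vy
  vfour := D.vfour
  z2 := D.z2
  z1 := D.z1
  f2 := D.f2
  g2 := D.g2
  c2 := by
    calc c * z * (c * z) = c * (z * c) * z := by simp only [mul_assoc]
      _ = c * c * (z * z) := by rw [D.zc]; simp only [mul_assoc]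
      _ = 1 := by rw [D.c2, D.z2, one_mul]
  fg := D.fg
  cf := (Commute.mul_left (D.cf : Commute c f) D.zf).eq
  cg := (Commute.mul_left (D.cg : Commute c g) D.zg).eq
  c1 := fun h => D.cne (by
    calc c = c * z * z := by rw [mul_assoc, D.z2, mul_one]
      _ = z := by rw [h, one_mul])
  cne := fun h => D.c1 (mul_eq_right.1 h)
  f_mem := D.f_mem
  g_mem := D.g_mem
  c_mem := mul_mem D.c_mem D.z_mem
  iso := D.iso
  conj := D.conj
  v1f := D.v1f
  v1g := D.v1g
  v1c := fun h => D.v1c (by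
    have hz1 : z * v₁ = v₁ * z := (mem_Lv.1 D.z_mem₁).1
    have h' : Commute v₁ ((c * z) * z) :=
      Commute.mul_right (show Commute v₁ (c * z) from h) hz1.symm
    rw [mul_assoc, D.z2, mul_one] at h'
    exact h'.eq)
  meet := D.meet
  five := D.five
  swap := fun d hd => by
    have hd2 := hd.sq
    have e : d * (c * z) * d = d * c * d * z := by
      rw [mul_assoc d c d, mul_assoc d (c * d) z, mul_assoc c d z, hd.cz]
      simp only [mul_assoc]
    rw [e]
    rcases D.swap d hd with h | h | h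
    · exact Or.inl (by rw [h])
    · exact Or.inr (Or.inl (by rw [h]))
    · refine Or.inr (Or.inr ?_)
      have hzq : Commute z (d * c * d) :=
        ((show Commute z d from hd.cz.symm).mul_right D.zc).mul_right hd.cz.symm
      have hzp : Commute z (c * (d * c * d)) := Commute.mul_right D.zc hzq
      calc c * z * (d * c * d * z) * (c * z * (d * c * d * z))
          = (c * (z * (d * c * d)) * z) * (c * (z * (d * c * d)) * z) := by simp only [mul_assoc]
        _ = (c * (d * c * d) * (z * z)) * (c * (d * c * d) * (z * z)) := by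
            rw [hzq.eq]; simp only [mul_assoc]
        _ = z := by rw [D.z2, mul_one]; exact h
  three := fun d t hd h1 h2 t3 ty tz tc tq => by
    have e : d * (c * z) * d = d * c * d * z := by
      rw [mul_assoc d c d, mul_assoc d (c * d) z, mul_assoc c d z, hd.cz]
      simp only [mul_assoc]
    rw [e] at h1 h2 tq
    have h1' : d * c * d ≠ c := fun h => h1 (by rw [h])
    have h2' : d * c * d ≠ c * z := fun h => h2 (by rw [h])
    have tc' : Commute t (c * z * z) := Commute.mul_right tc tz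
    have tq' : Commute t (d * c * d * z * z) := Commute.mul_right tq tz
    rw [mul_assoc c, D.z2, mul_one] at tc'
    rw [mul_assoc (d * c * d), D.z2, mul_one] at tq'
    exact D.three d t hd h1' h2' t3 ty tz tc'.eq tq'.eq

end Cfsg.Agent.SuzPresData50.Data
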