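import Cfsg.Agent.Lib.SuzYdExists2

/-!
In a group of Suzuki sporadic type: the centraliser of the element `y` of order three is perfect,
and each of its proper normal subgroups lies in `⟨y⟩`.
-/

set_option autoImplicit false
set_option linter.unusedSectionVars false

namespace Cfsg.Agent.SuzPresCY2

open Subgroup Cfsg.Agent.SuzTypeCoord62 Cfsg.Agent.SuzY42Setup Cfsg.Agent.SuzY42Quotient
open scoped commutatorElement

variable {G : Type*} [Group G] [Finite G] {Q : Subgroup G} {z y : G}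

theorem CY_eq (y : G) : CY y = centralizer ({y} : Set G) := by
  ext g
  rw [mem_CY, mem_centralizer_singleton_iff]

theorem exists_iso (Y : Yd Q z y) :
    ∃ (K : Type) (_ : Field K) (_ : Fintype K), Fintype.card K = 9 ∧
      Nonempty (CY y ⧸ N y ≃* Cfsg.PSU 4 K 3) := by
  obtain ⟨H₁, H₂, Qc, hK', hn₁, hn₂, ⟨e₁⟩, ⟨e₂⟩, hmeet, hQn, hQeq, hFc, hnwc', hH, hQQg⟩ :=
    SuzY42Quotient.type_data Y
  haveI := hQn
  haveI : Fact (Nat.Prime 3) := ⟨Nat.prime_three⟩
  letI : Fintype (GaloisField 3 2) := Fintype.ofFinite _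
  have hK : Fintype.card (GaloisField 3 2) = 9 := by
    rw [← Nat.card_eq_fintype_card, GaloisField.card 3 2 (by norm_num)]; norm_num
  exact ⟨GaloisField 3 2, inferInstance, inferInstance, hK,
    Cfsg.Agent.S5390.result (zb Y) (orderOf_zb Y) H₁ H₂ hK' hn₁ hn₂ e₁ e₂ hmeet Qc
      hQeq hFc hnwc' hH hQQg (GaloisField 3 2) hK⟩

theorem perfect (Y : Yd Q z y) :
    ⁅centralizer ({y} : Set G), centralizer ({y} : Set G)⁆ = centralizer ({y} : Set G) := by
  obtain ⟨K, _, _, hK, ⟨e⟩⟩ := exists_iso Y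
  have hp : ⁅(⊤ : Subgroup (CY y)), ⊤⁆ = ⊤ := (quasisimple Y hK e).1.1
  have h := congrArg (Subgroup.map (CY y).subtype) hp
  rw [map_commutator, ← MonoidHom.range_eq_map, range_subtype, CY_eq] at h
  exact h

theorem normal_cy (Y : Yd Q z y) : ∀ M : Subgroup G, M ≤ centralizer ({y} : Set G) →
    (∀ x ∈ centralizer ({y} : Set G), ∀ n ∈ M, x * n * x⁻¹ ∈ M) →
    M ≤ zpowers y ∨ M = centralizer ({y} : Set G) := by
  intro M hle hn
  rw [← CY_eq] at hle hn ⊢
  obtain ⟨K, _, _, hK, ⟨e⟩⟩ := exists_iso Y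
  haveI : IsSimpleGroup (Cfsg.PSU 4 K 3) :=
    OrthUnitaryPSU.isSimpleGroup_PSU (by rw [hK]; norm_num) (by norm_num) (by norm_num)
  haveI : IsSimpleGroup (CY y ⧸ N y) := e.isSimpleGroup
  set M' := M.subgroupOf (CY y) with hM'
  haveI : M'.Normal := ⟨fun n hnm g => mem_subgroupOf.2 (hn g g.2 n (mem_subgroupOf.1 hnm))⟩
  haveI hmap : (M'.map (pr y)).Normal := Subgroup.Normal.map inferInstance (pr y) (pr_surj y)
  rcases hmap.eq_bot_or_eq_top with h | h
  · refine Or.inl fun m hm => ?_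
    have h1 : pr y ⟨m, hle hm⟩ = 1 :=
      Subgroup.mem_bot.1 (h ▸ ⟨_, mem_subgroupOf.2 hm, rfl⟩)
    exact pr_eq_one.1 h1
  · refine Or.inr (le_antisymm hle ?_)
    haveI : M'.Normal := inferInstance
    have hp : ⁅(⊤ : Subgroup (CY y)), ⊤⁆ = ⊤ := (quasisimple Y hK e).1.1
    have hall : ⁅(⊤ : Subgroup (CY y)), ⊤⁆ ≤ M' := by
      rw [Subgroup.commutator_le]
      intro a _ b _
      obtain ⟨a', ha', ea⟩ : pr y a ∈ M'.map (pr y) := h ▸ mem_top _
      obtain ⟨b', hb', eb⟩ : pr y b ∈ M'.map (pr y) := h ▸ mem_top _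
      obtain ⟨u, hu, rfl⟩ : ∃ u ∈ N y, a = a' * u :=
        ⟨a'⁻¹ * a, mem_subgroupOf.2 (pr_eq.1 ea), (mul_inv_cancel_left a' a).symm⟩
      obtain ⟨v, hv, rfl⟩ : ∃ v ∈ N y, b = b' * v :=
        ⟨b'⁻¹ * b, mem_subgroupOf.2 (pr_eq.1 eb), (mul_inv_cancel_left b' b).symm⟩
      have cu : ∀ l, Commute u l := fun l => (central hu l).symm
      have cv : ∀ l, Commute v l := fun l => (central hv l).symm
      have e1 : ⁅a' * u, b' * v⁆ = ⁅a', b'⁆ := by
        calc ⁅a' * u, b' * v⁆ = a' * (u * b') * (v * (u⁻¹ * a'⁻¹)) * v⁻¹ * b'⁻¹ := by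
              rw [commutatorElement_def]; group
          _ = a' * (b' * u) * ((u⁻¹ * a'⁻¹) * v) * v⁻¹ * b'⁻¹ := by
              rw [(cu b').eq, (cv _).eq]
          _ = ⁅a', b'⁆ := by rw [commutatorElement_def]; group
      rw [e1, commutatorElement_def]
      exact mul_mem (mul_mem (mul_mem ha' hb') (inv_mem ha')) (inv_mem hb')
    intro x hx
    exact mem_subgroupOf.1 (hall (hp.symm ▸ mem_top (⟨x, hx⟩ : CY y)))

end Cfsg.Agent.SuzPresCY2
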