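import Mathlib

/-!
The local data from which the seven generators of the Suzuki sporadic group are found.
-/

set_option autoImplicit false

namespace Cfsg.Agent.SuzPresData50

open Subgroup

universe u

variable {G : Type u} [Group G]

/-- The subgroup `C(v) ∩ C(y)`. -/
abbrev Lv (v y : G) : Subgroup G := centralizer ({v} : Set G) ⊓ centralizer ({y} : Set G)

/-- An involution centralising `z`, `f`, `g` and inverting `y`. -/
structure Inverter (y z f g d : G) : Prop where
  sq : d * d = 1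
  inv : d * y * d = y⁻¹
  cz : d * z = z * d
  cf : d * f = f * d
  cg : d * g = g * d

/-- `v` and its conjugates under `y` are the involutions of a fixed-point-free four group `V`,
`v₁` is one of a second such four group conjugate to `V` in `C(y)`, and `f`, `g`, `c` generate
`Q ∩ C(V) ∩ C(y)`. -/
structure Data (y z v v₁ f g c : G) : Prop where
  y3 : y ^ 3 = 1
  y1 : y ≠ 1
  card_cy : Nat.card (centralizer ({y} : Set G)) = 9797760
  card_cyz : Nat.card ↥(centralizer ({y} : Set G) ⊓ centralizer ({z} : Set G)) = 3456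
  perfect : ⁅centralizer ({y} : Set G), centralizer ({y} : Set G)⁆ = centralizer ({y} : Set G)
  normal_cy : ∀ N : Subgroup G, N ≤ centralizer ({y} : Set G) →
    (∀ x ∈ centralizer ({y} : Set G), ∀ n ∈ N, x * n * x⁻¹ ∈ N) →
    N ≤ zpowers y ∨ N = centralizer ({y} : Set G)
  v2 : v * v = 1
  vy : y * v ≠ v * y
  vfour : v * (y * v * y⁻¹) = y⁻¹ * v * y
  z2 : z * z = 1
  z1 : z ≠ 1
  f2 : f * f = 1
  g2 : g * g = 1
  c2 : c * c = 1
  fg : (f * g) * (f * g) = z
  cf : c * f = f * c
  cg : c * g = g * c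
  c1 : c ≠ 1
  cne : c ≠ z
  f_mem : f ∈ Lv v y
  g_mem : g ∈ Lv v y
  c_mem : c ∈ Lv v y
  iso : ∃ (F : Type) (_ : Field F) (_ : Fintype F), Fintype.card F = 4 ∧
    Nonempty (↥(Lv v y) ≃* Matrix.ProjectiveSpecialLinearGroup (Fin 3) F)
  conj : ∃ h, h * y = y * h ∧ h * v * h⁻¹ = v₁
  v1f : v₁ * f = f * v₁
  v1g : v₁ * g = g * v₁
  v1c : v₁ * c ≠ c * v₁
  meet : ∀ x ∈ Lv v y, x * z = z * x → ∀ k ∈ zpowers y, (x * k) * v₁ = v₁ * (x * k) →
    x ∈ closure ({f, g} : Set G)
  five : ∃ ρ : ↥(closure ({v, v₁, y} : Set G)) →* Equiv.Perm (Fin 5), Function.Injective ρ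
  swap : ∀ d, Inverter y z f g d → d * c * d = c ∨ d * c * d = c * z ∨
    (c * (d * c * d)) * (c * (d * c * d)) = z
  three : ∀ d t, Inverter y z f g d → d * c * d ≠ c → d * c * d ≠ c * z → t ^ 3 = 1 →
    t * y = y * t → t * z = z * t → t * c = c * t → t * (d * c * d) = (d * c * d) * t →
    t ∈ zpowers y

end Cfsg.Agent.SuzPresData50
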