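import Cfsg.Agent.Lib.SuzY42Setup
import Cfsg.Agent.Lib.SuzPresData50

/-!
The part of the local data for the generators of the Suzuki sporadic group that lives in the
centraliser of `y` in the extraspecial group `Q`.
-/

set_option autoImplicit false

namespace Cfsg.Agent.SuzPresD84

open Subgroup Cfsg.Agent.LargeExtraspecial Cfsg.Agent.SuzTypeCoord62 Cfsg.Agent.SuzY42Setup

universe u

variable {G : Type u} [Group G] [Finite G] {Q : Subgroup G} {z y t : G}

/-- `C_Q(y)`. -/
abbrev Q₀ (Q : Subgroup G) (y : G) : Subgroup G := Q ⊓ centralizer (zpowers y : Set G)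

theorem mk_Q₀ (Y : Yd Q z y) {q : G} (hq : q ∈ Q) (hqy : y * q = q * y) : q ∈ Q₀ Q y :=
  Y.mem_Q₀.2 ⟨hq, hqy⟩

theorem zz_fix (Y : Yd Q z y) {q : G} (hq : q ∈ Q) : Commute q z := Y.H.h.comm q hq

/-- The commutator of two elements of `Q` which do not commute is `z`. -/
theorem swap_eq (Y : Yd Q z y) {a b : G} (ha : a ∈ Q) (hb : b ∈ Q) (h : a * b ≠ b * a) :
    a * b = z * b * a := by
  rcases Y.H.h.conj a ha b hb with e | e
  · exact absurd (mul_inv_eq_iff_eq_mul.1 e) h
  · rw [mul_inv_eq_iff_eq_mul] at e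
    exact e

/-- The square of the product of two involutions of `Q` which do not commute is `z`. -/
theorem prod_sq (Y : Yd Q z y) {a b : G} (ha : a ∈ Q) (hb : b ∈ Q) (haa : a * a = 1)
    (hbb : b * b = 1) (h : a * b ≠ b * a) : (a * b) * (a * b) = z := by
  calc (a * b) * (a * b) = (z * b * a) * (a * b) := by rw [← swap_eq Y ha hb h]
    _ = z * (b * (a * a) * b) := by group
    _ = z := by rw [haa, mul_one, hbb, mul_one]

/-- The product of two elements not commuting with `c` commutes with `c`. -/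
theorem two_swap (Y : Yd Q z y) {a b c : G} (ha : a ∈ Q) (hb : b ∈ Q) (hc : c ∈ Q)
    (h1 : a * c ≠ c * a) (h2 : b * c ≠ c * b) : a * b * c = c * (a * b) := by
  have e1 := swap_eq Y ha hc h1
  have e2 := swap_eq Y hb hc h2
  have haz := (zz_fix Y ha).eq
  calc a * b * c = a * (b * c) := mul_assoc ..
    _ = a * z * c * b := by rw [e2]; group
    _ = z * (a * c) * b := by rw [haz]; group
    _ = z * z * (c * (a * b)) := by rw [e1]; group
    _ = c * (a * b) := by rw [Y.H.h.zz, one_mul]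

/-- Half of the elements of `C_Q(y)` outside `C(t)` are involutions. -/
theorem inv_card (Y : Yd Q z y) (ht : Sing Q z t) (hyt : y * t = t * y) :
    12 ≤ {a : G | a ∈ Q₀ Q y ∧ a * t = t * a ∧ a * a = 1}.ncard := by
  classical
  have htQ : t ∈ Q₀ Q y := mk_Q₀ Y ht.1 hyt
  set All : Set G := {q : G | q ∈ Q₀ Q y ∧ q * q = 1} with hAll
  set Inn : Set G := {a : G | a ∈ Q₀ Q y ∧ a * t = t * a ∧ a * a = 1} with hInn
  set Out : Set G := {a : G | a ∈ Q₀ Q y ∧ a * t ≠ t * a} with hOut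
  set OutI : Set G := {a : G | a ∈ Q₀ Q y ∧ a * t ≠ t * a ∧ a * a = 1} with hOutI
  have h20 : All.ncard = 20 := Y.card_inv
  have hOutc : Out.ncard = 16 := by
    have hs : Out = (Q₀ Q y : Set G) \ (Q₀ Q y ⊓ centralizer ({t} : Set G) : Subgroup G) := by
      ext a
      simp only [hOut, Set.mem_setOf_eq, Set.mem_diff, SetLike.mem_coe, mem_inf,
        mem_centralizer_singleton_iff]
      tauto
    rw [hs, Set.ncard_diff (fun a ha => ha.1), ← Nat.card_coe_set_eq, ← Nat.card_coe_set_eq]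
    simp only [SetLike.coe_sort_coe]
    rw [Y.card_Q₀, Y.card_Q₀_cent ht hyt]
  have hflip : ∀ a ∈ OutI, a * t ∈ Out \ OutI := by
    rintro a ⟨haQ, hat, haa⟩
    refine ⟨⟨mul_mem haQ htQ, fun e => hat ?_⟩, fun h => ?_⟩
    · exact mul_right_cancel (b := t) (by rw [e]; group)
    · have hz := prod_sq Y haQ.1 ht.1 haa ht.2.1 hat
      exact Y.H.h.ne_one (hz.symm.trans h.2.2)
  have hle : OutI.ncard ≤ (Out \ OutI).ncard :=
    Set.ncard_le_ncard_of_injOn (fun a => a * t) hflip
      (fun a _ b _ e => mul_right_cancel e) (Set.toFinite _)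
  have hsub : OutI ⊆ Out := fun a h => ⟨h.1, h.2.1⟩
  rw [Set.ncard_diff hsub, hOutc] at hle
  have hunion : All = Inn ∪ OutI := by
    ext a
    simp only [hAll, hInn, hOutI, Set.mem_setOf_eq, Set.mem_union]
    tauto
  have := Set.ncard_union_le Inn OutI
  rw [← hunion, h20] at this
  omega

/-- Two involutions of `C_Q(y) ∩ C(t)` with product of order four. -/
theorem exists_fg (Y : Yd Q z y) (ht : Sing Q z t) (hyt : y * t = t * y) :
    ∃ f g : G, f ∈ Cx Q t ∧ g ∈ Cx Q t ∧ y * f = f * y ∧ y * g = g * y ∧ f * f = 1 ∧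
      g * g = 1 ∧ (f * g) * (f * g) = z := by
  classical
  set A : Subgroup G := Q₀ Q y ⊓ centralizer ({t} : Set G) with hA
  have hA16 : Nat.card A = 16 := Y.card_Q₀_cent ht hyt
  set I : Set G := {a : G | a ∈ Q₀ Q y ∧ a * t = t * a ∧ a * a = 1} with hI
  have hI12 : 12 ≤ I.ncard := inv_card Y ht hyt
  have hIA : I ⊆ A := fun a h => ⟨h.1, mem_centralizer_singleton_iff.2 h.2.1⟩
  by_contra hne
  push Not at hne
  have hcomm : ∀ a ∈ I, ∀ b ∈ I, a * b = b * a := by
    intro a ha b hb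
    by_contra h
    exact hne a b (mem_Cx.2 ⟨ha.1.1, ha.2.1⟩) (mem_Cx.2 ⟨hb.1.1, hb.2.1⟩)
      (Y.mem_Q₀.1 ha.1).2 (Y.mem_Q₀.1 hb.1).2 ha.2.2 hb.2.2
      (prod_sq Y ha.1.1 hb.1.1 ha.2.2 hb.2.2 h)
  have hcl : closure I = A := by
    refine Subgroup.eq_of_le_of_card_ge ((closure_le _).2 hIA) ?_
    have h1 : I.ncard ≤ Nat.card (closure I) := by
      rw [← SetLike.coe_sort_coe, Nat.card_coe_set_eq]
      exact Set.ncard_le_ncard subset_closure (Set.toFinite _)
    have h2 : Nat.card (closure I) ∣ Nat.card A :=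
      Subgroup.card_dvd_of_le ((closure_le _).2 hIA)
    rw [hA16] at h2 ⊢
    have h3 : Nat.card (closure I) ≤ 16 := Nat.le_of_dvd (by norm_num) h2
    interval_cases (Nat.card (closure I)) <;> omega
  have habel : ∀ a ∈ A, ∀ b ∈ A, a * b = b * a := fun a ha b hb => by
    have key : ∀ x ∈ closure I, ∀ c ∈ closure I, x * c = c * x := by
      intro x hx c hc
      induction hx using Subgroup.closure_induction with
      | mem x hx =>
        induction hc using Subgroup.closure_induction with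
        | mem c hc => exact hcomm x hx c hc
        | one => simp
        | mul p q _ _ hp hq => exact (Commute.mul_right (hp : Commute x p) hq).eq
        | inv p _ hp => exact (Commute.inv_right (hp : Commute x p)).eq
      | one => simp
      | mul p q _ _ hp hq => exact (Commute.mul_left (hp : Commute p c) hq).eq
      | inv p _ hp => exact (Commute.inv_left (hp : Commute p c)).eq
    exact key a (hcl ▸ ha) b (hcl ▸ hb)
  -- an element outside `C(t)`
  obtain ⟨q, hq, hqt⟩ : ∃ q ∈ Q₀ Q y, q * t ≠ t * q := by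
    by_contra hno
    push Not at hno
    rcases Y.ext_Q₀.central (mk_Q₀ Y ht.1 hyt) hno with e | e
    exacts [ht.2.2.1 e, ht.2.2.2 e]
  -- `A` and `q` generate `C_Q(y)`, so elements of `A` commuting with `q` are central
  have hgen : A ⊔ zpowers q = Q₀ Q y := by
    refine Subgroup.eq_of_le_of_card_ge (sup_le inf_le_left (zpowers_le.2 hq)) ?_
    have hd : Nat.card (A ⊔ zpowers q : Subgroup G) ∣ Nat.card (Q₀ Q y) :=
      Subgroup.card_dvd_of_le (sup_le inf_le_left (zpowers_le.2 hq))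
    have hd2 : Nat.card A ∣ Nat.card (A ⊔ zpowers q : Subgroup G) :=
      Subgroup.card_dvd_of_le le_sup_left
    rw [hA16] at hd2
    rw [Y.card_Q₀] at hd ⊢
    have hne16 : Nat.card (A ⊔ zpowers q : Subgroup G) ≠ 16 := fun h => hqt (by
      have : A = A ⊔ zpowers q := Subgroup.eq_of_le_of_card_ge le_sup_left (by rw [h, hA16])
      exact mem_centralizer_singleton_iff.1
        (show q ∈ A from this ▸ mem_sup_right (mem_zpowers q)).2)
    have h3 := Nat.le_of_dvd (by norm_num) hd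
    have h4 : 0 < Nat.card (A ⊔ zpowers q : Subgroup G) := Nat.card_pos
    obtain ⟨k, hk⟩ := hd2
    obtain ⟨m, hm⟩ := hd
    have hk1 : k = 2 ∨ k ≤ 1 := by omega
    omega
  have hcen : ∀ a ∈ A, a * q = q * a → a = 1 ∨ a = z := fun a ha haq =>
    Y.ext_Q₀.central ha.1 fun x hx => by
      have : Q₀ Q y ≤ centralizer ({a} : Set G) := hgen ▸ sup_le
        (fun b hb => mem_centralizer_singleton_iff.2 (habel b hb a ha))
        (zpowers_le.2 (mem_centralizer_singleton_iff.2 haq.symm))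
      exact mem_centralizer_singleton_iff.1 (this hx)
  -- hence `A ⊆ {1, z, a₀, a₀ z}`
  by_cases hall : ∀ a ∈ A, a * q = q * a
  · have : (A : Set G) ⊆ {1, z} := fun a ha => by simpa using hcen a ha (hall a ha)
    have := Set.ncard_le_ncard this (Set.toFinite _)
    have h2 : ({1, z} : Set G).ncard ≤ 2 := (Set.ncard_insert_le _ _).trans (by simp)
    rw [← Nat.card_coe_set_eq, SetLike.coe_sort_coe, hA16] at this
    omega
  · push Not at hall
    obtain ⟨a₀, ha₀, h0⟩ := hall
    have : (A : Set G) ⊆ {1, z, a₀⁻¹, a₀⁻¹ * z} := fun a ha => by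
      by_cases h : a * q = q * a
      · rcases hcen a ha h with e | e <;> simp [e]
      · rcases hcen (a₀ * a) (mul_mem ha₀ ha) (two_swap Y ha₀.1.1 ha.1.1 hq.1 h0 h) with e | e
        · simp [eq_inv_of_mul_eq_one_right e]
        · simp [show a = a₀⁻¹ * z by rw [← e, inv_mul_cancel_left]]
    have h1 := Set.ncard_le_ncard this (Set.toFinite _)
    have h2 : ({1, z, a₀⁻¹, a₀⁻¹ * z} : Set G).ncard ≤ 4 := by
      refine (Set.ncard_insert_le _ _).trans ?_
      refine Nat.succ_le_succ ((Set.ncard_insert_le _ _).trans ?_)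
      refine Nat.succ_le_succ ((Set.ncard_insert_le _ _).trans ?_)
      simp
    rw [← Nat.card_coe_set_eq, SetLike.coe_sort_coe, hA16] at h1
    omega

section Pair

variable {f g : G}

theorem not_comm (Y : Yd Q z y) (hff : f * f = 1) (hgg : g * g = 1)
    (hfg : (f * g) * (f * g) = z) : f * g ≠ g * f := fun e => by
  have : (f * g) * (f * g) = 1 := by
    nth_rewrite 2 [e]
    rw [mul_assoc, ← mul_assoc g, hgg, one_mul, hff]
  exact Y.H.h.ne_one (hfg.symm.trans this)

/-- The elements of `C_Q(y)` commuting with `t`, `f`, `g`. -/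
theorem common (Y : Yd Q z y) (ht : Sing Q z t) (hyt : y * t = t * y) (hf : f ∈ Cx Q t)
    (hg : g ∈ Cx Q t) (hfy : y * f = f * y) (hgy : y * g = g * y) (hff : f * f = 1)
    (hgg : g * g = 1) (hfg : (f * g) * (f * g) = z) {a : G} (ha : a ∈ Q) (hay : y * a = a * y)
    (hat : a * t = t * a) (haf : a * f = f * a) (hag : a * g = g * a) : InU z t a := by
  classical
  have hne := not_comm Y hff hgg hfg
  set A : Subgroup G := Q₀ Q y ⊓ centralizer ({t} : Set G) with hA
  set B : Subgroup G := A ⊓ centralizer ({f} : Set G) with hB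
  set C : Subgroup G := B ⊓ centralizer ({g} : Set G) with hC
  have hfA : f ∈ A := ⟨mk_Q₀ Y hf.1 hfy, mem_centralizer_singleton_iff.2 (mem_Cx.1 hf).2⟩
  have hgA : g ∈ A := ⟨mk_Q₀ Y hg.1 hgy, mem_centralizer_singleton_iff.2 (mem_Cx.1 hg).2⟩
  have hfB : f ∈ B := ⟨hfA, mem_centralizer_singleton_iff.2 rfl⟩
  have half : ∀ {X X' : Subgroup G}, X ≤ X' → ∀ {x : G}, x ∈ X' → x ∉ X →
      2 * Nat.card X ≤ Nat.card X' := by
    intro X X' hle x hx hxn
    obtain ⟨k, hk⟩ := Subgroup.card_dvd_of_le hle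
    have hk0 : k ≠ 0 := fun e => by rw [e, mul_zero] at hk; exact Nat.card_pos.ne' hk
    have hk1 : k ≠ 1 := fun e => hxn (by
      have h : X = X' := Subgroup.eq_of_le_of_card_ge hle (by rw [hk, e, mul_one])
      exact h ▸ hx)
    have hk2 : 2 ≤ k := by omega
    rw [hk, Nat.mul_comm 2]
    exact Nat.mul_le_mul_left _ hk2
  have h1 : 2 * Nat.card B ≤ Nat.card A := half inf_le_left hgA fun h =>
    hne (mem_centralizer_singleton_iff.1 h.2).symm
  have h2 : 2 * Nat.card C ≤ Nat.card B := half inf_le_left hfB fun h => hne (mem_centralizer_singleton_iff.1 h.2)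
  rw [show Nat.card A = 16 from Y.card_Q₀_cent ht hyt] at h1
  have hU : ∀ u, InU z t u → u ∈ C := by
    have hzC : z ∈ C := ⟨⟨⟨Y.ext_Q₀.mem, mem_centralizer_singleton_iff.2
        (zz_fix Y ht.1).eq.symm⟩, mem_centralizer_singleton_iff.2 (zz_fix Y hf.1).eq.symm⟩,
      mem_centralizer_singleton_iff.2 (zz_fix Y hg.1).eq.symm⟩
    have htC : t ∈ C := ⟨⟨⟨mk_Q₀ Y ht.1 hyt, mem_centralizer_singleton_iff.2 rfl⟩,
        mem_centralizer_singleton_iff.2 (mem_Cx.1 hf).2.symm⟩,
      mem_centralizer_singleton_iff.2 (mem_Cx.1 hg).2.symm⟩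
    rintro u (rfl | rfl | rfl | rfl)
    exacts [one_mem _, hzC, htC, mul_mem hzC htC]
  have haC : a ∈ C := ⟨⟨⟨mk_Q₀ Y ha hay, mem_centralizer_singleton_iff.2 hat⟩,
    mem_centralizer_singleton_iff.2 haf⟩, mem_centralizer_singleton_iff.2 hag⟩
  by_contra hn
  obtain ⟨d1, d2, d3⟩ := Y.H.U_distinct ht
  have hsub : ({a, 1, z, t, z * t} : Set G) ⊆ C := by
    rintro u (rfl | hu)
    · exact haC
    · exact hU u (by simpa [InU] using hu)
  have h5 : ({a, 1, z, t, z * t} : Set G).ncard = 5 := by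
    have c0 : a ∉ ({1, z, t, z * t} : Set G) := fun h => hn (by simpa [InU] using h)
    have c1 : (1 : G) ∉ ({z, t, z * t} : Set G) := by
      simp [Y.H.h.ne_one.symm, ht.2.2.1.symm, d1.symm]
    have c2 : z ∉ ({t, z * t} : Set G) := by simp [ht.2.2.2.symm, d2.symm]
    rw [Set.ncard_insert_of_notMem c0, Set.ncard_insert_of_notMem c1,
      Set.ncard_insert_of_notMem c2, Set.ncard_pair d3.symm]
  have h6 := Set.ncard_le_ncard hsub (Set.toFinite _)
  rw [h5, ← Nat.card_coe_set_eq, SetLike.coe_sort_coe] at h6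
  omega

/-- A further involution of `C_Q(y, f, g)` not commuting with `t`. -/
theorem exists_sing_off (Y : Yd Q z y) (ht : Sing Q z t) (hyt : y * t = t * y)
    (hf : f ∈ Cx Q t) (hg : g ∈ Cx Q t) (hfy : y * f = f * y) (hgy : y * g = g * y)
    (hff : f * f = 1) (hgg : g * g = 1) (hfg : (f * g) * (f * g) = z) :
    ∃ t₁, Sing Q z t₁ ∧ y * t₁ = t₁ * y ∧ t₁ * f = f * t₁ ∧ t₁ * g = g * t₁ ∧
      t₁ * t ≠ t * t₁ := by
  have hne := not_comm Y hff hgg hfg
  obtain ⟨hfQ, hft⟩ := mem_Cx.1 hf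
  obtain ⟨hgQ, hgt⟩ := mem_Cx.1 hg
  obtain ⟨q, hq, hqy, hqt⟩ : ∃ q, q ∈ Q ∧ y * q = q * y ∧ q * t ≠ t * q := by
    by_contra hno
    push Not at hno
    rcases Y.ext_Q₀.central (mk_Q₀ Y ht.1 hyt)
      (fun x hx => hno x (Y.mem_Q₀.1 hx).1 (Y.mem_Q₀.1 hx).2) with e | e
    exacts [ht.2.2.1 e, ht.2.2.2 e]
  -- correct `q` to commute with `f`, then with `g`
  obtain ⟨q₁, hq₁, hq₁y, hq₁t, hq₁f⟩ : ∃ q, q ∈ Q ∧ y * q = q * y ∧ q * t ≠ t * q ∧
      q * f = f * q := by
    by_cases h : q * f = f * q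
    · exact ⟨q, hq, hqy, hqt, h⟩
    · exact ⟨q * g, Q.mul_mem hq hgQ, (Commute.mul_right (hqy : Commute y q) hgy).eq,
        fun e => hqt (mul_right_cancel (b := g) (by
          rw [mul_assoc, ← hgt, ← mul_assoc, e, mul_assoc])),
        two_swap Y hq hgQ hfQ h (Ne.symm hne)⟩
  obtain ⟨q₂, hq₂, hq₂y, hq₂t, hq₂f, hq₂g⟩ : ∃ q, q ∈ Q ∧ y * q = q * y ∧ q * t ≠ t * q ∧
      q * f = f * q ∧ q * g = g * q := by
    by_cases h : q₁ * g = g * q₁
    · exact ⟨q₁, hq₁, hq₁y, hq₁t, hq₁f, h⟩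
    · exact ⟨q₁ * f, Q.mul_mem hq₁ hfQ, (Commute.mul_right (hq₁y : Commute y q₁) hfy).eq,
        fun e => hq₁t (mul_right_cancel (b := f) (by
          rw [mul_assoc, ← hft, ← mul_assoc, e, mul_assoc])),
        (Commute.mul_left (hq₁f : Commute q₁ f) rfl).eq,
        two_swap Y hq₁ hfQ hgQ h hne⟩
  have sing : ∀ {s : G}, s ∈ Q → s * s = 1 → s * t ≠ t * s → Sing Q z s := fun {s} hs h2 hst =>
    ⟨hs, h2, fun e => hst (by simp [e]), fun e => hst (by rw [e]; exact (zz_fix Y ht.1).eq.symm)⟩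
  rcases Y.H.h.sq q₂ hq₂ with e | e
  · exact ⟨q₂, sing hq₂ e hq₂t, hq₂y, hq₂f, hq₂g, hq₂t⟩
  · have hn : q₂ * t * t ≠ t * (q₂ * t) := fun h => hq₂t (mul_right_cancel (b := t) (by
      rw [h]; group))
    have h2 : (q₂ * t) * (q₂ * t) = 1 := by
      have := swap_eq Y ht.1 hq₂ (Ne.symm hq₂t)
      calc q₂ * t * (q₂ * t) = q₂ * (t * q₂) * t := by group
        _ = (q₂ * z) * q₂ * (t * t) := by rw [this]; group
        _ = z * (q₂ * q₂) := by rw [(zz_fix Y hq₂).eq, ht.2.1, mul_one, mul_assoc]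
        _ = 1 := by rw [e, Y.H.h.zz]
    exact ⟨q₂ * t, sing (Q.mul_mem hq₂ ht.1) h2 hn,
      (Commute.mul_right (hq₂y : Commute y q₂) hyt).eq,
      (Commute.mul_left (hq₂f : Commute q₂ f) hft.symm).eq,
      (Commute.mul_left (hq₂g : Commute q₂ g) hgt.symm).eq, hn⟩

/-- An involution inverting `y` and centralising `z`, `f`, `g` fixes `t` modulo `z` or moves it to
an involution not commuting with it. -/
theorem swap (Y : Yd Q z y) (ht : Sing Q z t) (hyt : y * t = t * y)
    (hf : f ∈ Cx Q t) (hg : g ∈ Cx Q t) (hfy : y * f = f * y) (hgy : y * g = g * y)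
    (hff : f * f = 1) (hgg : g * g = 1) (hfg : (f * g) * (f * g) = z) :
    ∀ d, SuzPresData50.Inverter y z f g d → d * t * d = t ∨ d * t * d = t * z ∨
      (t * (d * t * d)) * (t * (d * t * d)) = z := by
  intro d hd
  have hdi : d⁻¹ = d := inv_eq_of_mul_eq_one_right hd.sq
  set t' := d * t * d with ht'
  have ht'Q : t' ∈ Q := by
    have := Y.H.h.norm d hd.cz t ht.1
    rwa [hdi] at this
  have ht'2 : t' * t' = 1 := by
    calc t' * t' = d * t * (d * d) * t * d := by rw [ht']; group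
      _ = d * (t * t) * d := by rw [hd.sq]; group
      _ = 1 := by rw [ht.2.1, mul_one, hd.sq]
  by_cases hc : t' * t = t * t'
  · have hyd : y * d = d * y⁻¹ := by
      rw [← hd.inv, show d * (d * y * d) = (d * d) * y * d by group, hd.sq, one_mul]
    have hdy : d * y = y⁻¹ * d := by
      rw [← hd.inv, mul_assoc _ d d, hd.sq, mul_one]
    have hy' : y * t' = t' * y := by
      calc y * (d * t * d) = (y * d) * t * d := by group
        _ = d * (y⁻¹ * t) * d := by rw [hyd]; group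
        _ = d * (t * y⁻¹) * d := by rw [(Commute.inv_left (hyt : Commute y t)).eq]
        _ = d * t * (y⁻¹ * d) := by group
        _ = d * t * d * y := by rw [← hdy]; group
    have conjc : ∀ {w : G}, d * w = w * d → t * w = w * t → t' * w = w * t' := fun {w} h h' => by
      exact ((Commute.mul_left (h : Commute d w) h').mul_left h).eq
    rcases common Y ht hyt hf hg hfy hgy hff hgg hfg ht'Q hy' hc (conjc hd.cf (mem_Cx.1 hf).2.symm)
      (conjc hd.cg (mem_Cx.1 hg).2.symm) with e | e | e | e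
    · exfalso
      apply ht.2.2.1
      calc t = d * d * t * (d * d) := by rw [hd.sq]; group
        _ = d * t' * d := by rw [ht']; group
        _ = 1 := by rw [e, mul_one, hd.sq]
    · exfalso
      apply ht.2.2.2
      calc t = d * d * t * (d * d) := by rw [hd.sq]; group
        _ = d * t' * d := by rw [ht']; group
        _ = z := by rw [e, hd.cz, mul_assoc, hd.sq, mul_one]
    · exact Or.inl e
    · exact Or.inr (Or.inl (by rw [e, (zz_fix Y ht.1).eq]))
  · exact Or.inr (Or.inr (prod_sq Y ht.1 ht'Q ht.2.1 ht'2 (Ne.symm hc)))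

end Pair

/-- An element of order three commuting with `y`, `z`, `t` is a power of `y`. -/
theorem three {f g : G} (Y : Yd Q z y) (ht : Sing Q z t) (hyt : y * t = t * y) :
    ∀ d l, SuzPresData50.Inverter y z f g d → d * t * d ≠ t → d * t * d ≠ t * z → l ^ 3 = 1 →
      l * y = y * l → l * z = z * l → l * t = t * l → l * (d * t * d) = (d * t * d) * l →
      l ∈ zpowers y :=
  fun _ l _ _ _ h3 hly hlz hlt _ => Y.mem_zpowers_y ht hyt (mem_Sx.2 ⟨hlz, hlt⟩) hly
    (by rw [show (9 : ℕ) = 3 * 3 from rfl, pow_mul, h3, one_pow])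

end Cfsg.Agent.SuzPresD84
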