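import Cfsg.Agent.Lib.SuzPresBase50

/-!
The involution `d` found in `⟨v, v₁, y⟩`, a subgroup of a symmetric group of degree five.
-/

set_option autoImplicit false
set_option maxRecDepth 100000
set_option maxHeartbeats 1000000
set_option synthInstance.maxHeartbeats 400000
set_option synthInstance.maxSize 4096

namespace Cfsg.Agent.SuzPresFive50

open Equiv

/-- An involution inverting `τ` with product of order three with a conjugate of `σ`. -/
def Good (τ σ d : Perm (Fin 5)) : Prop :=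
  d * d = 1 ∧ d * τ * d = τ⁻¹ ∧
    ((d * σ) ^ 3 = 1 ∨ (d * (τ * σ * τ⁻¹)) ^ 3 = 1 ∨ (d * (τ⁻¹ * σ * τ)) ^ 3 = 1)

instance (τ σ d : Perm (Fin 5)) : Decidable (Good τ σ d) := by unfold Good; infer_instance

/-- The standard three-cycle. -/
def τ₀ : Perm (Fin 5) := Equiv.swap 0 1 * Equiv.swap 1 2

/-- The finite lemma for the standard three-cycle. -/
theorem perm_d₀ : ∀ σ : Perm (Fin 5), σ * σ = 1 →
    τ₀ * σ ≠ σ * τ₀ → σ * (τ₀ * σ * τ₀⁻¹) = τ₀⁻¹ * σ * τ₀ → ∀ s : Perm (Fin 5), s * s = 1 →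
    τ₀ * s ≠ s * τ₀ → s * (τ₀ * s * τ₀⁻¹) = τ₀⁻¹ * s * τ₀ →
    s ≠ σ → s ≠ τ₀ * σ * τ₀⁻¹ → s ≠ τ₀⁻¹ * σ * τ₀ →
    (Good τ₀ σ (σ * s * σ * s * σ) ∧ σ * s * σ * s * σ * σ * (σ * s * σ * s * σ) = s) ∨
      Good τ₀ σ (σ * s * σ) := by
  decide +kernel

theorem cycleType_three {τ : Perm (Fin 5)} (h3 : τ ^ 3 = 1) (h1 : τ ≠ 1) :
    τ.cycleType = {3} := by
  haveI : Fact (Nat.Prime 3) := ⟨Nat.prime_three⟩
  obtain ⟨n, hn⟩ := Equiv.Perm.cycleType_prime_order (σ := τ)
    (by rw [orderOf_eq_prime h3 h1]; exact Nat.prime_three)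
  rw [orderOf_eq_prime h3 h1] at hn
  have hs : τ.cycleType.sum ≤ 5 := by
    rw [Equiv.Perm.sum_cycleType]
    exact (τ.support.card_le_univ).trans (by simp)
  rw [hn, Multiset.sum_replicate, smul_eq_mul] at hs
  rw [hn, show n = 0 by omega]
  rfl

/-- The finite lemma. -/
theorem perm_d (τ : Perm (Fin 5)) (h3 : τ ^ 3 = 1) (h1 : τ ≠ 1) (σ : Perm (Fin 5))
    (hσ : σ * σ = 1) (hτσ : τ * σ ≠ σ * τ) (hσ4 : σ * (τ * σ * τ⁻¹) = τ⁻¹ * σ * τ)
    (s : Perm (Fin 5)) (hs : s * s = 1) (hτs : τ * s ≠ s * τ)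
    (hs4 : s * (τ * s * τ⁻¹) = τ⁻¹ * s * τ) (hne1 : s ≠ σ) (hne2 : s ≠ τ * σ * τ⁻¹)
    (hne3 : s ≠ τ⁻¹ * σ * τ) :
    (Good τ σ (σ * s * σ * s * σ) ∧ σ * s * σ * s * σ * σ * (σ * s * σ * s * σ) = s) ∨
      Good τ σ (σ * s * σ) := by
  obtain ⟨π, hπ⟩ := isConj_iff.1 ((Equiv.Perm.isConj_iff_cycleType_eq).2
    ((cycleType_three h3 h1).trans (cycleType_three (τ := τ₀) (by decide) (by decide)).symm))
  -- `c` is conjugation by `π`
  set c : Perm (Fin 5) →* Perm (Fin 5) := (MulAut.conj π).toMonoidHom with hc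
  have hci : Function.Injective c := (MulAut.conj π).injective
  have hcτ : c τ = τ₀ := hπ
  have h := perm_d₀ (c σ) (by rw [← map_mul, hσ, map_one])
    (by rw [← hcτ, ← map_mul, ← map_mul]; exact fun e => hτσ (hci e))
    (by simp only [← hcτ, ← map_inv, ← map_mul, hσ4])
    (c s) (by rw [← map_mul, hs, map_one])
    (by rw [← hcτ, ← map_mul, ← map_mul]; exact fun e => hτs (hci e))
    (by simp only [← hcτ, ← map_inv, ← map_mul, hs4])
    (fun e => hne1 (hci e))
    (by rw [← hcτ]; simp only [← map_inv, ← map_mul]; exact fun e => hne2 (hci e))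
    (by rw [← hcτ]; simp only [← map_inv, ← map_mul]; exact fun e => hne3 (hci e))
  simpa only [Good, ← hcτ, ← map_inv, ← map_mul, ← map_pow, map_eq_one_iff c hci, hci.eq_iff] using h

universe u

variable {G : Type u} [Group G] {y z v v₁ f g c : G}

open Cfsg.Agent.SuzPresData50 Cfsg.Agent.SuzPresBase50 Subgroup

/-- The generators `d` and `e`. -/
theorem exists_de (D : Data y z v v₁ f g c) : ∃ d e : G,
    Inverter y z f g d ∧ (d * e) ^ 3 = 1 ∧ (e = v ∨ e = y * v * y⁻¹ ∨ e = y⁻¹ * v * y) ∧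
    (∀ x : G, x * v = v * x → x * v₁ = v₁ * x → x * d = d * x) ∧ d * c * d ≠ c := by
  obtain ⟨ρ, hρ⟩ := D.five
  obtain ⟨h, hhy, hhv⟩ := D.conj
  have hv : v ∈ closure ({v, v₁, y} : Set G) := subset_closure (Or.inl rfl)
  have hv1 : v₁ ∈ closure ({v, v₁, y} : Set G) := subset_closure (Or.inr (Or.inl rfl))
  have hy : y ∈ closure ({v, v₁, y} : Set G) := subset_closure (Or.inr (Or.inr rfl))
  set V : ↥(closure ({v, v₁, y} : Set G)) := ⟨v, hv⟩
  set W : ↥(closure ({v, v₁, y} : Set G)) := ⟨v₁, hv1⟩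
  set Y : ↥(closure ({v, v₁, y} : Set G)) := ⟨y, hy⟩
  have hy' : h * y * h⁻¹ = y := by rw [hhy, mul_inv_cancel_right]
  have w2 : v₁ * v₁ = 1 := by
    rw [← hhv]
    calc h * v * h⁻¹ * (h * v * h⁻¹) = h * (v * v) * h⁻¹ := by group
      _ = 1 := by rw [D.v2]; group
  have wfour : v₁ * (y * v₁ * y⁻¹) = y⁻¹ * v₁ * y := by
    rw [← hhv]
    calc h * v * h⁻¹ * (y * (h * v * h⁻¹) * y⁻¹)
        = h * v * h⁻¹ * (h * y * h⁻¹ * (h * v * h⁻¹) * (h * y * h⁻¹)⁻¹) := by rw [hy']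
      _ = h * (v * (y * v * y⁻¹)) * h⁻¹ := by group
      _ = h * (y⁻¹ * v * y) * h⁻¹ := by rw [D.vfour]
      _ = (h * y * h⁻¹)⁻¹ * (h * v * h⁻¹) * (h * y * h⁻¹) := by group
      _ = _ := by rw [hy']
  have hcv : c * v = v * c := (mem_Lv.1 D.c_mem).1
  have hcy : c * y = y * c := (mem_Lv.1 D.c_mem).2
  have hne : ∀ x : G, x * c = c * x → v₁ ≠ x := fun x hx e => D.v1c (e ▸ hx)
  have key := perm_d (ρ Y) (by rw [← map_pow, show Y ^ 3 = 1 from Subtype.ext D.y3, map_one])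
    (fun e => D.y1 (congrArg Subtype.val (hρ (e.trans (map_one ρ).symm))))
    (ρ V) (by rw [← map_mul, show V * V = 1 from Subtype.ext D.v2, map_one])
    (fun e => D.vy (congrArg Subtype.val (hρ (by simpa only [map_mul] using e) : Y * V = V * Y)))
    (by simp only [← map_inv, ← map_mul]; exact congrArg ρ (Subtype.ext D.vfour))
    (ρ W) (by rw [← map_mul, show W * W = 1 from Subtype.ext w2, map_one])
    (fun e => D.v1_ne (congrArg Subtype.val
      (hρ (by simpa only [map_mul] using e.symm) : W * Y = Y * W)))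
    (by simp only [← map_inv, ← map_mul]; exact congrArg ρ (Subtype.ext wfour))
    (fun e => hne v hcv.symm (congrArg Subtype.val (hρ e)))
    (fun e => hne (y * v * y⁻¹)
      (((Commute.mul_left hcy.symm hcv.symm).mul_left (Commute.inv_left hcy.symm)).eq)
      (congrArg Subtype.val (hρ (by simpa only [map_mul, map_inv] using e) : W = Y * V * Y⁻¹)))
    (fun e => hne (y⁻¹ * v * y)
      (((Commute.mul_left (Commute.inv_left hcy.symm) hcv.symm).mul_left hcy.symm).eq)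
      (congrArg Subtype.val (hρ (by simpa only [map_mul, map_inv] using e) : W = Y⁻¹ * V * Y)))
  have finish : ∀ D' : ↥(closure ({v, v₁, y} : Set G)), Good (ρ Y) (ρ V) (ρ D') →
      (∀ x : G, x * v = v * x → x * v₁ = v₁ * x → x * (D' : G) = (D' : G) * x) →
      ((D' : G) * c * D' = c → v₁ * c = c * v₁) → ∃ d e : G,
      Inverter y z f g d ∧ (d * e) ^ 3 = 1 ∧ (e = v ∨ e = y * v * y⁻¹ ∨ e = y⁻¹ * v * y) ∧
      (∀ x : G, x * v = v * x → x * v₁ = v₁ * x → x * d = d * x) ∧ d * c * d ≠ c := by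
    intro D' hG hcom hc'
    obtain ⟨h1, h2, h3⟩ := hG
    simp only [← map_inv, ← map_mul, ← map_pow, map_eq_one_iff ρ hρ, hρ.eq_iff] at h1 h2 h3
    have hfd := hcom f (mem_Lv.1 D.f_mem).1 D.v1f.symm
    have hgd := hcom g (mem_Lv.1 D.g_mem).1 D.v1g.symm
    have hzd := hcom z (mem_Lv.1 D.z_mem).1 (mem_Lv.1 D.z_mem₁).1
    refine ⟨D', ?_⟩
    rcases h3 with h3 | h3 | h3
    · exact ⟨v, ⟨congrArg Subtype.val h1, congrArg Subtype.val h2, hzd.symm, hfd.symm, hgd.symm⟩,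
        congrArg Subtype.val h3, Or.inl rfl, hcom, fun e => D.v1c (hc' e)⟩
    · exact ⟨y * v * y⁻¹,
        ⟨congrArg Subtype.val h1, congrArg Subtype.val h2, hzd.symm, hfd.symm, hgd.symm⟩,
        congrArg Subtype.val h3, Or.inr (Or.inl rfl), hcom, fun e => D.v1c (hc' e)⟩
    · exact ⟨y⁻¹ * v * y,
        ⟨congrArg Subtype.val h1, congrArg Subtype.val h2, hzd.symm, hfd.symm, hgd.symm⟩,
        congrArg Subtype.val h3, Or.inr (Or.inr rfl), hcom, fun e => D.v1c (hc' e)⟩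
  have hdc : ∀ d : G, d * d = 1 → d * c * d = c → d * c = c * d := fun d hd e => by
    conv_rhs => rw [← e]
    rw [mul_assoc (d * c) d d, hd, mul_one]
  rcases key with ⟨hG, hrec⟩ | hG
  · refine finish (V * W * V * W * V) (by simpa only [map_mul] using hG) ?_ ?_
    · intro x h1 h2
      exact ((((Commute.mul_right h1 h2).mul_right h1).mul_right h2).mul_right h1).eq
    · intro e
      have h1 := hG.1
      simp only [← map_mul, map_eq_one_iff ρ hρ] at h1
      have hd := hdc _ (congrArg Subtype.val h1) e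
      simp only [← map_mul, hρ.eq_iff] at hrec
      have hw : v₁ = v * v₁ * v * v₁ * v * v * (v * v₁ * v * v₁ * v) :=
        (congrArg Subtype.val hrec).symm
      rw [hw]
      exact ((Commute.mul_left hd hcv.symm).mul_left hd).eq
  · refine finish (V * W * V) (by simpa only [map_mul] using hG) ?_ ?_
    · intro x h1 h2
      exact ((Commute.mul_right h1 h2).mul_right h1).eq
    · intro e
      have h1 := hG.1
      simp only [← map_mul, map_eq_one_iff ρ hρ] at h1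
      have hd := hdc _ (congrArg Subtype.val h1) e
      have hw : v₁ = v * (v * v₁ * v) * v := by
        simp only [← mul_assoc, D.v2, one_mul]
        rw [mul_assoc, D.v2, mul_one]
      rw [hw]
      exact ((Commute.mul_left hcv.symm hd).mul_left hcv.symm).eq

end Cfsg.Agent.SuzPresFive50
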