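import Cfsg.Agent.Lib.CosetCertSuzAbcd50
import Cfsg.Agent.Lib.CosetCertSuzNxq50
import Cfsg.Agent.Lib.CosetCertPres

/-!
Consequences of the relations on six of the generators of the presented Suzuki sporadic group, in
an arbitrary finite group.
-/

set_option autoImplicit false
set_option maxRecDepth 100000

namespace Cfsg.Agent.SuzPresWords50

open Cfsg.Agent.CosetCertCore Cfsg.Agent.CosetCertTable Cfsg.Agent.CosetCertOrder
open Cfsg.Agent.CosetCertPres

universe u

/-- The relations on six generators `a b c d f g`. -/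
structure Six {G : Type u} [Group G] (a b c d f g : G) : Prop where
  aa : a * a = 1
  bb : b * b = 1
  cc : c * c = 1
  dd : d * d = 1
  ff : f * f = 1
  gg : g * g = 1
  ab : (a * b) ^ 5 = 1
  ac : (a * c) ^ 2 = 1
  ad : (a * d) ^ 2 = 1
  af : (a * f) ^ 2 = 1
  ag : (a * g) ^ 2 = 1
  bc : (b * c) ^ 3 = 1
  bd : (b * d) ^ 2 = 1
  bf : (b * f) ^ 3 = 1
  bg : (b * g) ^ 3 = 1
  cd : (c * d) ^ 8 = 1
  cf : (c * f) ^ 2 = 1
  cg : (c * g) ^ 2 = 1
  df : (d * f) ^ 2 = 1
  dg : (d * g) ^ 2 = 1
  fg : (f * g) ^ 4 = 1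
  acd : a * ((c * d) ^ 4)⁻¹ = 1
  afg : a * ((f * g) ^ 2)⁻¹ = 1
  abcf : (a * b * c * f) ^ 5 = 1
  bfg : (b * f * g) ^ 5 = 1

/-- A power of a product of two generators. -/
def pp (i j n : Nat) : Wx := .pow (.mul (.gen i) (.gen j)) n

/-- A square of one generator. -/
def sq (i : Nat) : Wx := .mul (.gen i) (.gen i)

/-- The word whose triviality is the extra relation of the quotient. -/
def yW : Wx :=
  .pow (.mul (.mul (.mul (.mul (.gen 1) (.gen 2)) (.gen 3)) (.gen 2)) (.gen 3)) 5

/-- The relators on `a b c d`. -/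
def four : List Wx :=
  [sq 0, pp 0 1 5, pp 0 2 2, pp 0 3 2, sq 1, pp 1 2 3, pp 1 3 2, sq 2, pp 2 3 8, sq 3,
    .mul (.gen 0) (.inv (.pow (.mul (.gen 2) (.gen 3)) 4))]

/-- The relators of the quotient. -/
def six : List Wx :=
  [sq 0, pp 0 1 5, pp 0 2 2, pp 0 3 2, pp 0 4 2, pp 0 5 2, sq 1, pp 1 2 3, pp 1 3 2, pp 1 4 3,
    pp 1 5 3, sq 2, pp 2 3 8, pp 2 4 2, pp 2 5 2, sq 3, pp 3 4 2, pp 3 5 2, sq 4, pp 4 5 4, sq 5,
    .mul (.gen 0) (.inv (.pow (.mul (.gen 2) (.gen 3)) 4)),
    .mul (.gen 0) (.inv (.pow (.mul (.gen 4) (.gen 5)) 2)),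
    .pow (.mul (.mul (.mul (.gen 0) (.gen 1)) (.gen 2)) (.gen 4)) 5,
    .pow (.mul (.mul (.gen 1) (.gen 4)) (.gen 5)) 5, yW]

theorem four_eq : CosetCertSuzAbcd50Data.cert.rels = four.map Wx.letters := by decide +kernel

theorem six_eq : CosetCertSuzNxq50Data.cert.rels = six.map Wx.letters := by decide +kernel

variable {G : Type u} [Group G]

/-- The generators by number. -/
def gen6 (a b c d f g : G) (i : Nat) : G := [a, b, c, d, f, g].getD i 1

theorem gen6_sq {a b c d f g : G} (h : Six a b c d f g) :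
    ∀ i, gen6 a b c d f g i * gen6 a b c d f g i = 1
  | 0 => h.aa
  | 1 => h.bb
  | 2 => h.cc
  | 3 => h.dd
  | 4 => h.ff
  | 5 => h.gg
  | n + 6 => by simp [gen6]

theorem Six.map {H : Type*} [Group H] {a b c d f g : G} (h : Six a b c d f g) (φ : G →* H) :
    Six (φ a) (φ b) (φ c) (φ d) (φ f) (φ g) := by
  constructor <;> simp only [← map_mul, ← map_inv, ← map_pow] <;>
    first
      | rw [h.aa, map_one] | rw [h.bb, map_one] | rw [h.cc, map_one] | rw [h.dd, map_one]
      | rw [h.ff, map_one] | rw [h.gg, map_one] | rw [h.ab, map_one] | rw [h.ac, map_one]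
      | rw [h.ad, map_one] | rw [h.af, map_one] | rw [h.ag, map_one] | rw [h.bc, map_one]
      | rw [h.bd, map_one] | rw [h.bf, map_one] | rw [h.bg, map_one] | rw [h.cd, map_one]
      | rw [h.cf, map_one] | rw [h.cg, map_one] | rw [h.df, map_one] | rw [h.dg, map_one]
      | rw [h.fg, map_one] | rw [h.acd, map_one] | rw [h.afg, map_one] | rw [h.abcf, map_one]
      | rw [h.bfg, map_one]

theorem four_eval {a b c d f g : G} (h : Six a b c d f g) :
    ∀ e ∈ four, e.eval (gen6 a b c d f g) = 1 := by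
  simp [four, sq, pp, Wx.eval, gen6, h.aa, h.bb, h.cc, h.dd, h.ab, h.ac, h.ad, h.bc, h.bd, h.cd,
    h.acd]

theorem six_eval {a b c d f g : G} (h : Six a b c d f g) (hy : (b * c * d * c * d) ^ 5 = 1) :
    ∀ e ∈ six, e.eval (gen6 a b c d f g) = 1 := by
  simp [six, sq, pp, yW, Wx.eval, gen6, h.aa, h.bb, h.cc, h.dd, h.ff, h.gg, h.ab, h.ac, h.ad,
    h.af, h.ag, h.bc, h.bd, h.bf, h.bg, h.cd, h.cf, h.cg, h.df, h.dg, h.fg, h.acd, h.afg, h.abcf,
    h.bfg, hy]

/-- The seven words that hold in the group on `a b c d`. -/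
def yWords : List Wx :=
  [.pow yW 3, .mul (.mul (.mul yW (.gen 0)) (.inv yW)) (.gen 0),
    .mul (.mul (.mul yW (.gen 1)) (.inv yW)) (.gen 1),
    .mul (.mul (.mul yW (.gen 2)) (.inv yW)) (.gen 2),
    .mul (.mul (.mul yW (.gen 3)) yW) (.gen 3)]

theorem run_yWords : (yWords.all fun e =>
    (e.letters.all fun x => Nat.blt x 4) &&
      Nat.beq (CosetCertSuzAbcd50Data.table.run e.letters 0) 0) = true := by decide +kernel

theorem eval_yWords {H : Type} [Group H] {a b c d f g : H} (h : Six a b c d f g) :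
    ∀ e ∈ yWords, e.eval (gen6 a b c d f g) = 1 := by
  intro e he
  have hr := List.all_eq_true.1 run_yWords e he
  simp only [Bool.and_eq_true, List.all_eq_true, Nat.blt_eq, Nat.beq_eq] at hr
  have hren : ∀ w : List Nat, (∀ x ∈ w, x < 4) → w.map (ren [0, 1, 2, 3]) = w := by
    intro w hw
    conv_rhs => rw [← List.map_id w]
    refine List.map_congr_left fun x hx => ?_
    have := hw x hx
    interval_cases x <;> rfl
  have hN : CosetCertSuzAbcd50Data.table.NG = 4 := by decide +kernel
  have key := word_eq_one (gen6 a b c d f g) (gen6_sq h) CosetCertSuzAbcd50.closed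
    (σ := [0, 1, 2, 3]) (by simp)
    (by
      intro w hw
      rw [four_eq, List.mem_map] at hw
      obtain ⟨e', he', rfl⟩ := hw
      rw [hren _ (fun x hx => ?_), val_letters _ (gen6_sq h), four_eval h e' he']
      have := List.all_eq_true.1 (show (four.all fun e => e.letters.all fun x => Nat.blt x 4) = true
        by decide +kernel) e' he'
      simpa only [Nat.blt_eq] using List.all_eq_true.1 this x hx)
    (by decide +kernel) e.letters (fun x hx => hN ▸ hr.1 x hx) hr.2
  rw [hren _ hr.1, val_letters _ (gen6_sq h)] at key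
  exact key

/-- `y₀ = (bcdcd)⁵` has order dividing three, centralises `a`, `b`, `c` and is inverted by `d`. -/
theorem y_facts [Finite G] {a b c d f g : G} (h : Six a b c d f g) :
    ((b * c * d * c * d) ^ 5) ^ 3 = 1 ∧
      (b * c * d * c * d) ^ 5 * a * ((b * c * d * c * d) ^ 5)⁻¹ * a = 1 ∧
      (b * c * d * c * d) ^ 5 * b * ((b * c * d * c * d) ^ 5)⁻¹ * b = 1 ∧
      (b * c * d * c * d) ^ 5 * c * ((b * c * d * c * d) ^ 5)⁻¹ * c = 1 ∧
      (b * c * d * c * d) ^ 5 * d * (b * c * d * c * d) ^ 5 * d = 1 := by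
  haveI : Small.{0} G := Countable.toSmall G
  let e : G ≃* Shrink.{0} G := (Shrink.mulEquiv).symm
  have key := eval_yWords (h.map e.toMonoidHom)
  simp only [yWords, List.forall_mem_cons, Wx.eval, yW, gen6, List.getD_cons_zero,
    List.getD_cons_succ, MulEquiv.coe_toMonoidHom, ← map_mul, ← map_pow, ← map_inv,
    MulEquiv.map_eq_one_iff, List.not_mem_nil, IsEmpty.forall_iff, implies_true, and_true] at key
  exact key

/-- With `y₀ = 1` the six generators span at most `324` cosets of `⟨a, b, c, f, g⟩`. -/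
theorem card_span_le [Finite G] {a b c d f g : G} (h : Six a b c d f g)
    (hy : (b * c * d * c * d) ^ 5 = 1) :
    Nat.card (Subgroup.closure ({a, b, c, d, f, g} : Set G)) ≤
      324 * Nat.card (Subgroup.closure ({a, b, c, f, g} : Set G)) := by
  haveI : Small.{0} G := Countable.toSmall G
  let e : G ≃* Shrink.{0} G := (Shrink.mulEquiv).symm
  set gg := gen6 (e a) (e b) (e c) (e d) (e f) (e g) with hgg
  have h' : Six (e a) (e b) (e c) (e d) (e f) (e g) := h.map e.toMonoidHom
  have hy' : (e b * e c * e d * e c * e d) ^ 5 = 1 := by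
    rw [← map_mul, ← map_mul, ← map_mul, ← map_mul, ← map_pow, hy, map_one]
  have hren : ∀ w : List Nat, (∀ x ∈ w, x < 6) → w.map (ren [0, 1, 2, 3, 4, 5]) = w := by
    intro w hw
    conv_rhs => rw [← List.map_id w]
    refine List.map_congr_left fun x hx => ?_
    have := hw x hx
    interval_cases x <;> rfl
  have hle := (span_card_le gg (gen6_sq h') CosetCertSuzNxq50.closed
    (σ := [0, 1, 2, 3, 4, 5]) (by decide +kernel) (by simp)
    (by
      intro w hw
      rw [six_eq, List.mem_map] at hw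
      obtain ⟨e', he', rfl⟩ := hw
      rw [hren _ (fun x hx => ?_), val_letters _ (gen6_sq h')]
      · exact six_eval h' hy' e' he'
      have := List.all_eq_true.1 (show (six.all fun e => e.letters.all fun x => Nat.blt x 6) = true
        by decide +kernel) e' he'
      simpa only [Nat.blt_eq] using List.all_eq_true.1 this x hx)
    (τ := [0, 1, 2, 4, 5]) (by simp)
    (by
      intro w hw
      have hs : CosetCertSuzNxq50Data.cert.sgens = [[0], [1], [2], [4], [5]] := rfl
      rw [hs] at hw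
      simp only [List.mem_cons, List.not_mem_nil, or_false] at hw
      rcases hw with rfl | rfl | rfl | rfl | rfl <;>
        exact (show val gg [_] ∈ _ by
          rw [val_cons, val_nil, mul_one]
          exact Subgroup.subset_closure ⟨_, by decide, rfl⟩))
    ⟨inferInstance, le_rfl⟩).2
  have hN : CosetCertSuzNxq50Data.table.N = 324 := by decide +kernel
  rw [hN] at hle
  have hmap : ∀ (σ : List Nat) (T : Set G), {x | ∃ i ∈ σ, x = gg i} = e '' T →
      Nat.card (span gg σ) = Nat.card (Subgroup.closure T) := by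
    intro σ T hT
    rw [span, hT, ← MulEquiv.coe_toMonoidHom, ← MonoidHom.map_closure,
      Subgroup.card_map_of_injective e.injective]
  rw [hmap [0, 1, 2, 3, 4, 5] {a, b, c, d, f, g} (by ext x; simp [hgg, gen6, eq_comm]),
    hmap [0, 1, 2, 4, 5] {a, b, c, f, g} (by ext x; simp [hgg, gen6, eq_comm])] at hle
  exact hle

end Cfsg.Agent.SuzPresWords50
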