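import Cfsg.Agent.Lib.SuzPresMeet50
import Cfsg.Agent.Lib.SuzPresFive50
import Cfsg.Agent.Lib.SuzPresWords50
import Cfsg.Prelude.Def_Spor_Suz

/-!
A nontrivial homomorphism from the presented Suzuki sporadic group.
-/

set_option autoImplicit false

namespace Cfsg.Agent.SuzPresGlue50

open Subgroup Cfsg.Agent.SuzPresData50 Cfsg.Agent.SuzPresBase50
open scoped commutatorElement

universe u

variable {G : Type u} [Group G]

theorem sq_mul {x y : G} (hx : x * x = 1) (hy : y * y = 1) (h : x * y = y * x) :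
    (x * y) ^ 2 = 1 := by
  rw [(show Commute x y from h).mul_pow, pow_two, pow_two, hx, hy, one_mul]

theorem pow_swap {x y : G} {n : ℕ} (hx : x * x = 1) (h : (x * y) ^ n = 1) : (y * x) ^ n = 1 := by
  have e : y * x = x * (x * y) * x⁻¹ := by
    rw [inv_eq_of_mul_eq_one_left hx, ← mul_assoc x x y, hx, one_mul]
  rw [e, conj_pow, h]
  group

/-- A homomorphism from the presented group given the relations. -/
theorem hom_of {a b c d e f g : G} (S : SuzPresWords50.Six a b c d f g) (ee : e * e = 1)
    (ea : a * e = e * a) (eb : b * e = e * b) (ec : c * e = e * c) (ef : f * e = e * f)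
    (eg : g * e = e * g) (de : (d * e) ^ 3 = 1)
    (big : ((b * c * d * c * d) ^ 5 * e) ^ 3 = 1) (a1 : a ≠ 1) :
    ∃ φ : Cfsg.Spor.Suz →* G, φ ≠ 1 := by
  let im : Cfsg.Spor.Suz.Gen → G := fun x => match x with
    | .a => a | .b => b | .c => c | .d => d | .e => e | .f => f | .g => g
  have hae := sq_mul S.aa ee ea
  have hbe := sq_mul S.bb ee eb
  have hce := sq_mul S.cc ee ec
  have hfe := sq_mul S.ff ee ef
  have hge := sq_mul S.gg ee eg
  have hcox : ∀ x y, (im x * im y) ^ Cfsg.Spor.coxLabel Cfsg.Spor.Suz.edges x y = 1 := by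
    intro x y
    cases x <;> cases y <;>
      simp only [Cfsg.Spor.coxLabel, Cfsg.Spor.Suz.edges, List.find?, reduceCtorEq, if_false,
        if_true, and_true, true_and, and_false, false_and, or_false, false_or, or_self,
        decide_true, decide_false, pow_one, im] <;>
      first
        | exact S.aa | exact S.bb | exact S.cc | exact S.dd | exact ee | exact S.ff | exact S.gg
        | exact S.ab | exact S.ac | exact S.ad | exact S.af | exact S.ag
        | exact S.bc | exact S.bd | exact S.bf | exact S.bg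
        | exact S.cd | exact S.cf | exact S.cg | exact S.df | exact S.dg | exact S.fg
        | exact hae | exact hbe | exact hce | exact hfe | exact hge | exact de
        | exact pow_swap S.aa S.ab | exact pow_swap S.aa S.ac | exact pow_swap S.aa S.ad
        | exact pow_swap S.aa S.af | exact pow_swap S.aa S.ag | exact pow_swap S.aa hae
        | exact pow_swap S.bb S.bc | exact pow_swap S.bb S.bd | exact pow_swap S.bb S.bf
        | exact pow_swap S.bb S.bg | exact pow_swap S.bb hbe
        | exact pow_swap S.cc S.cd | exact pow_swap S.cc S.cf | exact pow_swap S.cc S.cg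
        | exact pow_swap S.cc hce | exact pow_swap S.dd S.df | exact pow_swap S.dd S.dg
        | exact pow_swap S.dd de | exact pow_swap S.ff S.fg | exact pow_swap S.ff hfe
        | exact pow_swap S.gg hge
  have hrel : ∀ r ∈ Cfsg.Spor.coxRelators Cfsg.Spor.Suz.edges ∪ {r | r ∈ Cfsg.Spor.Suz.extra},
      FreeGroup.lift im r = 1 := by
    rintro r (⟨x, -, y, -, rfl⟩ | hr)
    · rw [map_pow, map_mul, FreeGroup.lift_apply_of, FreeGroup.lift_apply_of]
      exact hcox x y
    · simp only [Set.mem_setOf_eq, Cfsg.Spor.Suz.extra, List.mem_cons, List.not_mem_nil,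
        or_false] at hr
      rcases hr with rfl | rfl | rfl | rfl | rfl <;>
        simp only [map_mul, map_inv, map_pow, FreeGroup.lift_apply_of, Cfsg.Spor.Suz.a,
          Cfsg.Spor.Suz.b, Cfsg.Spor.Suz.c, Cfsg.Spor.Suz.d, Cfsg.Spor.Suz.e, Cfsg.Spor.Suz.f,
          Cfsg.Spor.Suz.g, im]
      · exact S.acd
      · exact S.afg
      · exact S.abcf
      · exact S.bfg
      · exact big
  refine ⟨PresentedGroup.toGroup hrel, fun h => a1 ?_⟩
  have := congrArg (fun φ : Cfsg.Spor.Suz →* G => φ (PresentedGroup.of Cfsg.Spor.Suz.Gen.a)) h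
  rw [PresentedGroup.toGroup.of] at this
  exact this

variable [Finite G]

/-- The `c`-choice is settled: the construction. -/
theorem core {y z v v₁ f g c b : G} (D : Data y z v v₁ f g c) (W : SuzPresMeet50.Facts.{u})
    (hbL : b ∈ Lv v y) (hb2 : b * b = 1) (hb1 : b * v₁ = v₁ * b) (hbf : (b * f) ^ 3 = 1)
    (hbg : (b * g) ^ 3 = 1) (hbfg : (b * f * g) ^ 5 = 1) (hzb : (z * b) ^ 5 = 1)
    (hbc : (b * c) ^ 3 = 1) (habcf : (z * b * (c * f)) ^ 5 = 1)
    (h7 : (b * c * (f * g)) ^ 7 = 1) (hne : (b * (c * z)) ^ 3 ≠ 1) :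
    ∃ φ : Cfsg.Spor.Suz →* G, φ ≠ 1 := by
  haveI := Fact.mk Nat.prime_two
  haveI : Fact (Nat.Prime 5) := ⟨by norm_num⟩
  haveI : Fact (Nat.Prime 7) := ⟨by norm_num⟩
  obtain ⟨F, _, _, hF, ⟨eL⟩⟩ := D.iso
  obtain ⟨d, e, hd, hde, he, hcom, hdc⟩ := SuzPresFive50.exists_de D
  set C : Subgroup G := centralizer ({y} : Set G) with hC
  have hbd : b * d = d * b := hcom b (mem_Lv.1 hbL).1 hb1
  have hzc := D.zc
  -- the conjugate of `c`
  have hdcz : d * c * d ≠ c * z := fun h => hne (by
    have e1 : b * (c * z) = d * (b * c) * d⁻¹ := by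
      rw [inv_eq_of_mul_eq_one_left hd.sq, ← h, ← mul_assoc d b c, ← hbd]
      simp only [mul_assoc]
    rw [e1, conj_pow, hbc]
    group)
  have hpair : (c * (d * c * d)) * (c * (d * c * d)) = z := by
    rcases D.swap d hd with h | h | h
    · exact absurd h hdc
    · exact absurd h hdcz
    · exact h
  set q := d * c * d with hq
  have hdy : ∀ x : G, x * y = y * x → d * x * d * y = y * (d * x * d) := by
    intro x hx
    have e1 : d * y = y⁻¹ * d := by
      rw [← hd.inv, mul_assoc _ d d, hd.sq, mul_one]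
    have e2 : d * y⁻¹ = y * d := by
      have h1 : y⁻¹ * d = d * y := e1.symm
      calc d * y⁻¹ = y * (y⁻¹ * d) * y⁻¹ := by group
        _ = y * (d * y) * y⁻¹ := by rw [h1]
        _ = y * d := by group
    calc d * x * d * y = d * x * (y⁻¹ * d) := by rw [mul_assoc _ d y, e1]
      _ = d * (x * y⁻¹) * d := by simp only [mul_assoc]
      _ = d * (y⁻¹ * x) * d := by rw [(Commute.inv_right (show Commute x y from hx)).eq]
      _ = (d * y⁻¹) * x * d := by simp only [mul_assoc]
      _ = y * (d * x * d) := by rw [e2]; simp only [mul_assoc]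
  have hcy := (mem_Lv.1 D.c_mem).2
  have hby := (mem_Lv.1 hbL).2
  have hqy : q * y = y * q := hdy c hcy
  have hq2 : q * q = 1 := by
    calc q * q = d * c * (d * d) * c * d := by simp only [hq, mul_assoc]
      _ = 1 := by rw [hd.sq, mul_one, mul_assoc d c c, D.c2, mul_one, hd.sq]
  have hzq : z * q = q * z :=
    (((show Commute z d from hd.cz.symm).mul_right hzc).mul_right hd.cz.symm).eq
  have hfq : q * f = f * q :=
    (((show Commute d f from hd.cf).mul_left D.cf).mul_left hd.cf).eq
  have hgq : q * g = g * q :=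
    (((show Commute d g from hd.cg).mul_left D.cg).mul_left hd.cg).eq
  have hq1 : q ≠ 1 := fun h => D.c1 (by
    have : d * (d * c * d) * d = c := by
      rw [← mul_assoc, ← mul_assoc, hd.sq, one_mul, mul_assoc, hd.sq, mul_one]
    rw [← this, ← hq, h, mul_one, hd.sq])
  have hqz : q ≠ z := fun h => D.cne (by
    have : d * (d * c * d) * d = c := by
      rw [← mul_assoc, ← mul_assoc, hd.sq, one_mul, mul_assoc, hd.sq, mul_one]
    rw [← this, ← hq, h, hd.cz, mul_assoc, hd.sq, mul_one])
  have hqL : q ∉ Lv v y := by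
    intro hm
    have hsub : ∀ {x : G} (hx : x ∈ Lv v y) {w : G} (hw : w ∈ Lv v y), x * w = w * x →
        (⟨x, hx⟩ : ↥(Lv v y)) * ⟨w, hw⟩ = ⟨w, hw⟩ * ⟨x, hx⟩ := fun _ _ _ h => Subtype.ext h
    have hne' : ∀ {x : G} (hx : x ∈ Lv v y) {w : G} (hw : w ∈ Lv v y), x ≠ w →
        (⟨x, hx⟩ : ↥(Lv v y)) ≠ ⟨w, hw⟩ := fun _ _ _ h e => h (congrArg Subtype.val e)
    have hf1 : f ≠ 1 := fun h => D.z1 (by rw [← D.fg, h, one_mul, D.g2])
    have hg1 : g ≠ 1 := fun h => D.z1 (by rw [← D.fg, h, mul_one, D.f2])
    have hfz : f ≠ z := fun h => D.z1 (by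
      have hfg' : f * g = g * f := by rw [h]; exact D.zg
      rw [← D.fg, show f * g * (f * g) = f * (g * f) * g by simp only [mul_assoc], ← hfg',
        show f * (f * g) * g = (f * f) * (g * g) by simp only [mul_assoc], D.f2, D.g2, one_mul])
    have hgz : g ≠ z := fun h => D.z1 (by
      have hfg' : f * g = g * f := by rw [h]; exact D.zf.symm
      rw [← D.fg, show f * g * (f * g) = f * (g * f) * g by simp only [mul_assoc], ← hfg',
        show f * (f * g) * g = (f * f) * (g * g) by simp only [mul_assoc], D.f2, D.g2, one_mul])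
    have hz2 : orderOf (⟨z, D.z_mem⟩ : ↥(Lv v y)) = 2 :=
      orderOf_eq_prime (Subtype.ext (by rw [pow_two]; exact D.z2)) (hne' D.z_mem (one_mem _) D.z1)
    rcases SuzPresL34Gen50.unique_c hF eL hz2 (Subtype.ext D.f2) (Subtype.ext D.g2)
      (show (⟨f, D.f_mem⟩ : ↥(Lv v y)) * ⟨g, D.g_mem⟩ * (⟨f, D.f_mem⟩ * ⟨g, D.g_mem⟩) = ⟨z, D.z_mem⟩
        from Subtype.ext D.fg)
      (hsub _ _ D.zf.symm) (hsub _ _ D.zg.symm) (hne' D.f_mem (one_mem _) hf1) (hne' _ _ hfz)
      (hne' D.g_mem (one_mem _) hg1) (hne' _ _ hgz)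
      (show (⟨c, D.c_mem⟩ : ↥(Lv v y)) * ⟨c, D.c_mem⟩ = 1 from Subtype.ext D.c2)
      (hsub _ _ D.cf) (hsub _ _ D.cg) (hne' D.c_mem (one_mem _) D.c1) (hne' _ _ D.cne)
      (show (⟨q, hm⟩ : ↥(Lv v y)) * ⟨q, hm⟩ = 1 from Subtype.ext hq2)
      (hsub _ _ hfq) (hsub _ _ hgq) (hne' hm (one_mem _) hq1) (hne' _ _ hqz) with h | h
    · exact hdc (congrArg Subtype.val h)
    · exact hdcz (congrArg Subtype.val h)
  -- relations
  have hzz : z⁻¹ = z := inv_eq_of_mul_eq_one_left D.z2
  have hcd4 : (c * d) ^ 4 = z := by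
    rw [← hpair]
    simp only [hq, pow_succ, pow_zero, one_mul, mul_assoc]
  have hfg2 : (f * g) ^ 2 = z := by rw [pow_two, D.fg]
  have S : SuzPresWords50.Six z b c d f g :=
    { aa := D.z2
      bb := hb2
      cc := D.c2
      dd := hd.sq
      ff := D.f2
      gg := D.g2
      ab := hzb
      ac := sq_mul D.z2 D.c2 hzc
      ad := sq_mul D.z2 hd.sq hd.cz.symm
      af := sq_mul D.z2 D.f2 D.zf
      ag := sq_mul D.z2 D.g2 D.zg
      bc := hbc
      bd := sq_mul hb2 hd.sq hbd
      bf := hbf
      bg := hbg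
      cd := by rw [show (c * d) ^ 8 = (c * d) ^ 4 * (c * d) ^ 4 by rw [← pow_add], hcd4, D.z2]
      cf := sq_mul D.c2 D.f2 D.cf
      cg := sq_mul D.c2 D.g2 D.cg
      df := sq_mul hd.sq D.f2 hd.cf
      dg := sq_mul hd.sq D.g2 hd.cg
      fg := by rw [show (f * g) ^ 4 = (f * g) ^ 2 * (f * g) ^ 2 by rw [← pow_add], hfg2, D.z2]
      acd := by rw [hcd4, mul_inv_cancel]
      afg := by rw [hfg2, mul_inv_cancel]
      abcf := by rw [show z * b * c * f = z * b * (c * f) by simp only [mul_assoc]]; exact habcf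
      bfg := hbfg }
  obtain ⟨hy3, hya, -, hyc, hyd⟩ := SuzPresWords50.y_facts S
  set k := (b * c * d * c * d) ^ 5 with hk
  have hky : k * y = y * k := by
    have h1 : Commute (b * c * d * c * d) y := by
      rw [show b * c * d * c * d = b * c * q by simp only [hq, mul_assoc]]
      exact (Commute.mul_left hby hcy).mul_left hqy
    exact (h1.pow_left 5).eq
  have hkc : ∀ x : G, x * x = 1 → k * x * k⁻¹ * x = 1 → k * x = x * k := fun x hx h => by
    have := mul_eq_one_iff_eq_inv.1 h
    rw [inv_eq_of_mul_eq_one_left hx] at this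
    exact mul_inv_eq_iff_eq_mul.1 this
  have hkc' := hkc c D.c2 hyc
  have hkq : k * q = q * k := by
    have h1 : k * d = d * k⁻¹ := by
      calc k * d = (k * d * k * d) * (d * k⁻¹) := by
            rw [show k * d * k * d * (d * k⁻¹) = k * d * k * (d * d) * k⁻¹ by simp only [mul_assoc],
              hd.sq, mul_one, mul_inv_cancel_right]
        _ = d * k⁻¹ := by rw [hyd, one_mul]
    have h2 : k⁻¹ * d = d * k := by
      calc k⁻¹ * d = k⁻¹ * (d * k⁻¹) * k := by group
        _ = k⁻¹ * (k * d) * k := by rw [h1]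
        _ = d * k := by group
    have h3 : k⁻¹ * c = c * k⁻¹ := (Commute.inv_left (show Commute k c from hkc')).eq
    calc k * q = (k * d) * c * d := by simp only [hq, mul_assoc]
      _ = d * (k⁻¹ * c) * d := by rw [h1]; simp only [mul_assoc]
      _ = d * c * (k⁻¹ * d) := by rw [h3]; simp only [mul_assoc]
      _ = q * k := by rw [h2]; simp only [hq, mul_assoc]
  have hkX : k ∈ zpowers y :=
    D.three d k hd hdc hdcz hy3 hky (hkc z D.z2 hya) hkc' hkq
  -- `k` is not trivial
  have hk1 : k ≠ 1 := by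
    intro hk0
    have hcount := SuzPresWords50.card_span_le S hk0
    set J := closure ({z, b, c, d, f, g} : Set G) with hJ
    set five : Set G := {z, b, c, f, g}
    have hfive : closure five = Lv v y := by
      have hle : closure five ≤ Lv v y := by
        rw [closure_le]
        rintro x (rfl | rfl | rfl | rfl | rfl)
        exacts [D.z_mem, hbL, D.c_mem, D.f_mem, D.g_mem]
      set H : Subgroup ↥(Lv v y) := (closure five).subgroupOf (Lv v y) with hH
      have hcard : Nat.card H = Nat.card (closure five) :=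
        Nat.card_congr (subgroupOfEquivOfLe hle).toEquiv
      have hmem : ∀ x ∈ five, x ∈ closure five := fun x hx => subset_closure hx
      have hzH : z ∈ closure five := hmem _ (Or.inl rfl)
      have hbH : b ∈ closure five := hmem _ (Or.inr (Or.inl rfl))
      have hcH : c ∈ closure five := hmem _ (Or.inr (Or.inr (Or.inl rfl)))
      have hfH : f ∈ closure five := hmem _ (Or.inr (Or.inr (Or.inr (Or.inl rfl))))
      have hgH : g ∈ closure five := hmem _ (Or.inr (Or.inr (Or.inr (Or.inr rfl))))
      have h5 : 5 ∣ Nat.card (closure five) := by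
        have ho : orderOf (z * b) = 5 := orderOf_eq_prime hzb fun h => by
          have hbz : b = z := by
            calc b = z * (z * b) := by rw [← mul_assoc, D.z2, one_mul]
              _ = z := by rw [h, mul_one]
          rw [hbz, pow_succ, sq_mul D.z2 D.c2 hzc, one_mul] at hbc
          exact D.cne (by
            calc c = z * (z * c) := by rw [← mul_assoc, D.z2, one_mul]
              _ = z := by rw [hbc, mul_one])
        exact ho ▸ orderOf_dvd_natCard _ (mul_mem hzH hbH)
      have h7' : 7 ∣ Nat.card (closure five) := by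
        have ho : orderOf (b * c * (f * g)) = 7 := orderOf_eq_prime h7 fun h => by
          have e1 : b * c = (f * g)⁻¹ := mul_eq_one_iff_eq_inv.1 h
          rw [e1, inv_pow, inv_eq_one, pow_succ, hfg2] at hbc
          refine D.z1 ?_
          calc z = (f * g) ^ 2 := hfg2.symm
            _ = (z * (f * g)) ^ 2 := by
              rw [(show Commute z (f * g) from Commute.mul_right D.zf D.zg).mul_pow, pow_two z, D.z2,
                one_mul]
            _ = 1 := by rw [hbc, one_pow]
        exact ho ▸ orderOf_dvd_natCard _ (mul_mem (mul_mem hbH hcH) (mul_mem hfH hgH))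
      have h16 : 16 ∣ Nat.card (closure five) := by
        obtain ⟨hD8, -⟩ := SuzPresMeet50.d8 D.f2 D.g2 D.fg D.z2 D.z1
        set P := closure ({f, g, c} : Set G) with hP
        have hPle : P ≤ Lv v y ⊓ centralizer ({z} : Set G) := by
          rw [hP, closure_le]
          rintro x (rfl | rfl | rfl)
          exacts [⟨D.f_mem, mem_centralizer_singleton_iff.2 D.zf.symm⟩,
            ⟨D.g_mem, mem_centralizer_singleton_iff.2 D.zg.symm⟩,
            ⟨D.c_mem, mem_centralizer_singleton_iff.2 hzc.symm⟩]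
        have hdvd : Nat.card P ∣ 2 ^ 6 := by
          have hz2 : orderOf (⟨z, D.z_mem⟩ : ↥(Lv v y)) = 2 := orderOf_eq_prime
            (Subtype.ext (by rw [pow_two]; exact D.z2)) (fun h => D.z1 (congrArg Subtype.val h))
          refine (card_dvd_of_le hPle).trans (dvd_of_eq ?_)
          rw [show (2 : ℕ) ^ 6 = 64 from rfl, ← SuzPresL34Gen50.card_cent hF eL hz2]
          exact Nat.card_congr
            { toFun := fun x => ⟨⟨x.1, x.2.1⟩, mem_centralizer_singleton_iff.2
                (Subtype.ext (mem_centralizer_singleton_iff.1 x.2.2))⟩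
              invFun := fun x => ⟨x.1.1, x.1.2, mem_centralizer_singleton_iff.2
                (congrArg Subtype.val (mem_centralizer_singleton_iff.1 x.2))⟩
              left_inv := fun x => rfl
              right_inv := fun x => rfl }
        have hDP : closure ({f, g} : Set G) ≤ P := by
          refine closure_mono ?_
          rintro x (rfl | rfl)
          exacts [Or.inl rfl, Or.inr (Or.inl rfl)]
        have hlt : 8 < Nat.card P := by
          refine lt_of_le_of_ne (hD8 ▸ Nat.le_of_dvd Nat.card_pos (card_dvd_of_le hDP)) fun h => ?_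
          have heq := eq_of_le_of_card_ge hDP (by rw [hD8, h])
          have hcD : c ∈ closure ({f, g} : Set G) := by
            rw [heq]
            exact subset_closure (Or.inr (Or.inr rfl))
          have : closure ({f, g} : Set G) ≤ Lv v₁ y := by
            rw [closure_le]
            rintro x (rfl | rfl)
            exacts [D.f_mem₁, D.g_mem₁]
          exact D.v1c (mem_Lv.1 (this hcD)).1.symm
        obtain ⟨i, hi, hcP⟩ := (Nat.dvd_prime_pow Nat.prime_two).1 hdvd
        have h16P : 16 ∣ Nat.card P := by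
          rw [hcP] at hlt ⊢
          have : 3 < i := (Nat.pow_lt_pow_iff_right (a := 2) (by norm_num)).1 hlt
          exact (show (16 : ℕ) = 2 ^ 4 by norm_num) ▸ pow_dvd_pow 2 (by omega)
        refine h16P.trans (card_dvd_of_le ?_)
        rw [hP, closure_le]
        rintro x (rfl | rfl | rfl)
        exacts [hfH, hgH, hcH]
      have h560 : 560 ∣ Nat.card (closure five) := by
        have h35 := Nat.Coprime.mul_dvd_of_dvd_of_dvd (by norm_num : Nat.Coprime 5 7) h5 h7'
        exact Nat.Coprime.mul_dvd_of_dvd_of_dvd (by norm_num : Nat.Coprime 16 (5 * 7)) h16 h35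
      have hidx := Subgroup.card_mul_index H
      rw [W.card_eq hF eL, hcard] at hidx
      obtain ⟨t, ht⟩ := h560
      rw [ht] at hidx
      have hH36 : H.index ∣ 36 := ⟨t, by nlinarith⟩
      have hHle : H.index ≤ 36 := Nat.le_of_dvd (by norm_num) hH36
      rcases W.small hF eL H (by omega) with h | h | h
      · exact le_antisymm hle fun x hx => by
          have : (⟨x, hx⟩ : ↥(Lv v y)) ∈ H := by rw [index_eq_one.1 h]; exact mem_top _
          exact this
      · rw [h] at hH36; norm_num at hH36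
      · rw [h] at hH36; norm_num at hH36
    rw [hfive, W.card_eq hF eL] at hcount
    -- `C ≤ J`
    have hLJ : Lv v y ≤ J := by
      rw [← hfive]
      refine closure_mono ?_
      rintro x (rfl | rfl | rfl | rfl | rfl)
      exacts [Or.inl rfl, Or.inr (Or.inl rfl), Or.inr (Or.inr (Or.inl rfl)),
        Or.inr (Or.inr (Or.inr (Or.inr (Or.inl rfl)))),
        Or.inr (Or.inr (Or.inr (Or.inr (Or.inr rfl))))]
    have hdJ : d ∈ J := subset_closure (Or.inr (Or.inr (Or.inr (Or.inl rfl))))
    have hJC : J ⊓ C ≤ centralizer ({y} : Set G) := inf_le_right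
    set T := mulX (J ⊓ C) y hJC with hT
    have hLy : Lv v y ≤ centralizer ({y} : Set G) := inf_le_right
    set K := mulX (Lv v y) y hLy with hK
    have hKT : K ≤ T := by
      rintro x ⟨k', hk', hx⟩
      exact ⟨k', hk', hLJ hx, hLy hx⟩
    have hKcard : Nat.card K = 60480 := by
      rw [hK, card_mulX hLy (D.disj (Or.inl rfl)), W.card_eq hF eL, D.card_X]
    -- the conjugate of `L` by `d`
    let ψ : ↥(Lv v y) →* G := (MulAut.conj d).toMonoidHom.comp (Lv v y).subtype
    have hdd : d⁻¹ = d := inv_eq_of_mul_eq_one_left hd.sq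
    have hψ : ∀ x : ↥(Lv v y), ψ x = d * (x : G) * d := fun x => by
      show d * (x : G) * d⁻¹ = _
      rw [hdd]
    have hψT : ψ.range ≤ T := by
      rintro _ ⟨x, rfl⟩
      rw [hψ]
      exact le_mulX hJC ⟨mul_mem (mul_mem hdJ (hLJ x.2)) hdJ, mem_cy.2 (hdy _ (mem_Lv.1 x.2).2)⟩
    have hqK : q ∉ K := by
      rintro ⟨k', hk', hl⟩
      have hc' : q * k'⁻¹ = k'⁻¹ * q := comm_zpow hqy (inv_mem hk')
      have h2 : q * k'⁻¹ * (q * k'⁻¹) = k'⁻¹ * k'⁻¹ := by
        calc q * k'⁻¹ * (q * k'⁻¹) = q * (k'⁻¹ * q) * k'⁻¹ := by simp only [mul_assoc]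
          _ = (q * q) * (k'⁻¹ * k'⁻¹) := by rw [← hc']; simp only [mul_assoc]
          _ = k'⁻¹ * k'⁻¹ := by rw [hq2, one_mul]
      have hk2 : k'⁻¹ * k'⁻¹ = 1 :=
        D.disj (Or.inl rfl) _ (h2 ▸ mul_mem hl hl) (mul_mem (inv_mem hk') (inv_mem hk'))
      rw [D.zpow_sq (inv_mem hk') hk2, mul_one] at hl
      exact hqL hl
    have hidx15 : 15 ≤ (K.comap ψ).index := by
      have hne1 : (K.comap ψ).index ≠ 1 := fun h => hqK (by
        have : (⟨c, D.c_mem⟩ : ↥(Lv v y)) ∈ K.comap ψ := by
          rw [index_eq_one.1 h]; exact mem_top _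
        rw [mem_comap, hψ] at this
        exact this)
      by_contra hlt
      push Not at hlt
      rcases W.small hF eL _ (show (K.comap ψ).index < 42 by omega) with h | h | h <;> omega
    have hr15 : 15 ≤ K.relIndex T := by
      refine hidx15.trans ?_
      rw [Subgroup.index_comap]
      exact relIndex_le_of_le_right hψT (by rw [relIndex]; exact index_ne_zero_of_finite)
    have hTcard : K.relIndex T * 60480 = Nat.card T := by
      have h1 := (K.subgroupOf T).card_mul_index
      rw [Nat.card_congr (subgroupOfEquivOfLe hKT).toEquiv, hKcard] at h1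
      rw [relIndex, ← h1, mul_comm]
    have hTC : T ≤ C := mulX_le_cy hJC
    set T' := T.subgroupOf C with hT'
    have hT'card : Nat.card T' = Nat.card T := Nat.card_congr (subgroupOfEquivOfLe hTC).toEquiv
    have hTtop : T' = ⊤ := by
      have h1 := T'.card_mul_index
      rw [hT'card, ← hTcard, show Nat.card C = 9797760 from D.card_cy] at h1
      have h2 : K.relIndex T * T'.index = 162 := by nlinarith
      have hidx : T'.index ≤ 9 := by
        have h3 : T'.index ≤ 10 := by nlinarith
        by_contra h4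
        have h5 : T'.index = 10 := by omega
        rw [h5] at h2
        omega
      have hcore := D.normal_cy (T'.normalCore.map C.subtype) (map_subtype_le _) (fun x hx n hn => by
        obtain ⟨n', hn', rfl⟩ := hn
        exact ⟨_, (normalCore_normal T').conj_mem n' hn' ⟨x, hx⟩, rfl⟩)
      rcases hcore with hc | hc
      · exfalso
        have hk3 : Nat.card T'.normalCore ≤ 3 := by
          rw [← card_map_of_injective C.subtype_injective, ← D.card_X]
          exact Nat.le_of_dvd Nat.card_pos (card_dvd_of_le hc)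
        have h6 := Subgroup.card_eq_card_quotient_mul_card_subgroup
          (MulAction.toPermHom C (↥C ⧸ T')).ker
        have h7'' : Nat.card (↥C ⧸ (MulAction.toPermHom C (↥C ⧸ T')).ker) ≤ Nat.factorial 9 := by
          refine (Nat.card_le_card_of_injective _
            (QuotientGroup.kerLift_injective (MulAction.toPermHom C (↥C ⧸ T')))).trans ?_
          rw [Nat.card_perm]
          exact Nat.factorial_le hidx
        rw [← normalCore_eq_ker] at h6 h7''
        rw [show Nat.card C = 9797760 from D.card_cy] at h6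
        have := Nat.mul_le_mul h7'' hk3
        rw [← h6] at this
        norm_num [Nat.factorial] at this
      · refine top_le_iff.1 fun x _ => ?_
        have hx : (x : G) ∈ T'.normalCore.map C.subtype := hc ▸ x.2
        obtain ⟨x', hx', e'⟩ := hx
        rw [← Subtype.ext e']
        exact normalCore_le T' hx'
    have hCJ : C ≤ J := by
      have hper : ⁅C, C⁆ = C := D.perfect
      rw [← hper, commutator_le]
      intro x hx w hw
      have hx' : x ∈ T := by
        have : (⟨x, hx⟩ : C) ∈ T' := by rw [hTtop]; exact mem_top _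
        exact this
      have hw' : w ∈ T := by
        have : (⟨w, hw⟩ : C) ∈ T' := by rw [hTtop]; exact mem_top _
        exact this
      obtain ⟨k₁, hk₁, hx1⟩ := hx'
      obtain ⟨k₂, hk₂, hw1⟩ := hw'
      have hc1 : ∀ {s t : G}, s * y = y * s → t ∈ zpowers y → Commute s t :=
        fun h ht => comm_zpow h ht
      obtain ⟨x', rfl⟩ : ∃ x', x = x' * k₁ := ⟨x * k₁⁻¹, by simp⟩
      obtain ⟨w', rfl⟩ : ∃ w', w = w' * k₂ := ⟨w * k₂⁻¹, by simp⟩
      rw [mul_inv_cancel_right] at hx1 hw1
      have hxy := mem_cy.1 hx1.2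
      have hwy := mem_cy.1 hw1.2
      have e1 : ⁅x' * k₁, w' * k₂⁆ = ⁅x', w'⁆ := by
        have hk₁y : k₁ * y = y * k₁ := mem_cy.1 (zpowers_le_cy y hk₁)
        have a1 : k₁ * (w' * k₂) = (w' * k₂) * k₁ :=
          ((hc1 hwy hk₁).symm.mul_right (hc1 hk₁y hk₂)).eq
        have a2 : k₂ * x'⁻¹ = x'⁻¹ * k₂ :=
          ((hc1 hxy hk₂).inv_left.symm).eq
        rw [commutatorElement_def, commutatorElement_def, mul_inv_rev, mul_inv_rev]
        calc x' * k₁ * (w' * k₂) * (k₁⁻¹ * x'⁻¹) * (k₂⁻¹ * w'⁻¹)
            = x' * (k₁ * (w' * k₂)) * (k₁⁻¹ * x'⁻¹) * (k₂⁻¹ * w'⁻¹) := by simp only [mul_assoc]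
          _ = x' * w' * (k₂ * x'⁻¹) * (k₂⁻¹ * w'⁻¹) := by
              rw [a1]; simp only [mul_assoc, mul_inv_cancel_left]
          _ = x' * w' * x'⁻¹ * w'⁻¹ := by
              rw [a2]; simp only [mul_assoc, mul_inv_cancel_left]
      rw [e1, commutatorElement_def]
      exact mul_mem (mul_mem (mul_mem hx1.1 hw1.1) (inv_mem hx1.1)) (inv_mem hw1.1)
    have := Nat.le_of_dvd Nat.card_pos (card_dvd_of_le hCJ)
    rw [show Nat.card C = 9797760 from D.card_cy] at this
    omega
  -- the homomorphism
  have hee : e * e = 1 := by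
    rcases he with rfl | rfl | rfl
    · exact D.v2
    · calc y * v * y⁻¹ * (y * v * y⁻¹) = y * (v * v) * y⁻¹ := by group
        _ = 1 := by rw [D.v2]; group
    · calc y⁻¹ * v * y * (y⁻¹ * v * y) = y⁻¹ * (v * v) * y := by group
        _ = 1 := by rw [D.v2]; group
  have hce : ∀ x ∈ Lv v y, x * e = e * x := by
    intro x hx
    have h1 : Commute x v := (mem_Lv.1 hx).1
    have h2 : Commute x y := (mem_Lv.1 hx).2
    rcases he with rfl | rfl | rfl
    · exact h1.eq
    · exact ((h2.mul_right h1).mul_right h2.inv_right).eq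
    · exact ((h2.inv_right.mul_right h1).mul_right h2).eq
  refine hom_of S hee (hce z D.z_mem) (hce b hbL) (hce c D.c_mem) (hce f D.f_mem)
    (hce g D.g_mem) hde ?_ D.z1
  rw [← hk]
  rcases D.eq_one_or_gen hkX with h | h | h
  · exact absurd h hk1
  · exact four_cube D.v2 D.vfour D.y3 he (Or.inl h)
  · exact four_cube D.v2 D.vfour D.y3 he (Or.inr h)

/-- A nontrivial homomorphism from the presented group, given the local data. -/
theorem exists_phi_of {y z v v₁ f g c : G} (D : Data y z v v₁ f g c)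
    (W : SuzPresMeet50.Facts.{u}) : ∃ φ : Cfsg.Spor.Suz →* G, φ ≠ 1 := by
  haveI := Fact.mk Nat.prime_two
  obtain ⟨F, _, _, hF, ⟨eL⟩⟩ := D.iso
  obtain ⟨b, hbL, hb2, hb1, hbf, hbg, hbfg⟩ := SuzPresMeet50.exists_b D W
  have hbb : b * b = 1 := by rw [← pow_two, ← hb2, pow_orderOf_eq_one]
  set bL : ↥(Lv v y) := ⟨b, hbL⟩
  set cL : ↥(Lv v y) := ⟨c, D.c_mem⟩
  set fL : ↥(Lv v y) := ⟨f, D.f_mem⟩
  set gL : ↥(Lv v y) := ⟨g, D.g_mem⟩
  set zL : ↥(Lv v y) := ⟨z, D.z_mem⟩
  obtain ⟨hzb, hor, hnot⟩ := SuzPresL34Gen50.complete hF eL (z := zL) (f := fL) (g := gL)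
    (c := cL) (b := bL)
    (orderOf_eq_prime (Subtype.ext (by rw [pow_two]; exact D.z2))
      (fun h => D.z1 (congrArg Subtype.val h)))
    (Subtype.ext D.f2) (Subtype.ext D.g2) (Subtype.ext D.c2) (Subtype.ext D.fg)
    (Subtype.ext D.cf) (Subtype.ext D.cg) (fun h => D.c1 (congrArg Subtype.val h))
    (fun h => D.cne (congrArg Subtype.val h))
    (by rw [← Subgroup.orderOf_coe]; exact hb2) (Subtype.ext hbf) (Subtype.ext hbg)
    (Subtype.ext hbfg)
  rcases hor with ⟨h3, h5, h7⟩ | ⟨h3, h5, h7⟩
  · exact core D W hbL hbb hb1 hbf hbg hbfg (congrArg Subtype.val hzb) (congrArg Subtype.val h3)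
      (congrArg Subtype.val h5) (congrArg Subtype.val h7)
      (fun h => hnot ⟨h3, Subtype.ext h⟩)
  · refine core D.alt W hbL hbb hb1 hbf hbg hbfg (congrArg Subtype.val hzb)
      (congrArg Subtype.val h3) (congrArg Subtype.val h5) (congrArg Subtype.val h7) (fun h => ?_)
    rw [mul_assoc c z z, D.z2, mul_one] at h
    exact hnot ⟨Subtype.ext h, h3⟩

end Cfsg.Agent.SuzPresGlue50
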