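import Cfsg.Agent.Lib.SuzPresL34Sub96
import Cfsg.Agent.Lib.SuzPresGlue50

/-!
# A non-trivial image of the presented Suzuki group from the local data
-/

set_option autoImplicit false

namespace Cfsg.Agent.SuzPresExists29

universe u

/-- The facts about subgroups of `PSL₃(4)` used by the presentation argument. -/
theorem facts : SuzPresMeet50.Facts.{u} :=
  ⟨fun hF _ _ e => SuzPresL34Sub96.card_eq hF e,
   fun hF _ _ e H h => SuzPresL34Sub96.index_small hF e H h,
   fun hF _ _ e H h => SuzPresL34Sub96.invol_count hF e H h,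
   fun hF _ _ e H h1 h2 h3 => SuzPresL34Sub96.card_eight_odd hF e H h1 h2 h3,
   fun hF _ _ e _ _ _ H h a b c d f g i hC =>
    SuzPresL34Sub96.exists_b hF e H h a b c d f g i hC⟩

/-- A non-trivial homomorphism from the presented group. -/
theorem exists_phi {G : Type u} [Group G] [Finite G] {y z v v₁ f g c : G}
    (D : SuzPresData50.Data y z v v₁ f g c) : ∃ φ : Cfsg.Spor.Suz →* G, φ ≠ 1 :=
  SuzPresGlue50.exists_phi_of D facts

end Cfsg.Agent.SuzPresExists29
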