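import Mathlib
import Cfsg.Agent.Lib.SuzY42Setup

/-!
Four groups with a fixed-point-free action of `y` inside `C(z)` next to a frame `t, t₁, f, g` of
`C_Q(y)`: they lie in `Q` as soon as they centralise the frame, and two of them, each fixing one of
`t` and `t₁`, generate with `y` a group with a faithful action on five involutions.
-/

set_option autoImplicit false
set_option linter.unusedSectionVars false
set_option linter.style.haveILetI false

namespace Cfsg.Agent.SuzPresFrame76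

open Subgroup Cfsg.Agent.LargeExtraspecial Cfsg.Agent.SuzTypeCoord62 Cfsg.Agent.SuzY42Quat
open scoped commutatorElement

variable {G : Type*} [Group G] [Finite G]

/-- A frame of `C_Q(y)`. -/
structure Fr (Q : Subgroup G) (z y t t₁ f g : G) : Prop where
  tQ : t ∈ Q
  ty : y * t = t * y
  t2 : t * t = 1
  t₁Q : t₁ ∈ Q
  t₁y : y * t₁ = t₁ * y
  t₁2 : t₁ * t₁ = 1
  fQ : f ∈ Q
  fy : y * f = f * y
  f2 : f * f = 1
  gQ : g ∈ Q
  gy : y * g = g * y
  g2 : g * g = 1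
  fg : f * g * (f * g) = z
  ft : f * t = t * f
  gt : g * t = t * g
  ft₁ : f * t₁ = t₁ * f
  gt₁ : g * t₁ = t₁ * g
  ne : t₁ * t ≠ t * t₁

/-- An involution whose conjugates under `y` form a four group with trivial fixed points. -/
structure Four (y w : G) : Prop where
  sq : w * w = 1
  rel : w * (y * w * y⁻¹) = y⁻¹ * w * y
  move : y * w ≠ w * y

theorem conj_comm {a b p : G} (h : a * b = b * a) (hp : p * b = b * p) :
    p * a * p⁻¹ * b = b * (p * a * p⁻¹) :=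
  (((show Commute p b from hp).mul_left (show Commute a b from h)).mul_left
    (show Commute p b from hp).inv_left).eq

variable {Q : Subgroup G} {z y : G}

/-- The third conjugate. -/
theorem four_rot (y3 : y ^ 3 = 1) {w : G} (h : Four y w) :
    Four y (y * w * y⁻¹) ∧ y * (y * w * y⁻¹) * y⁻¹ = y⁻¹ * w * y := by
  have e : y * y = y⁻¹ := (inv_eq_of_mul_eq_one_right (by rw [← y3]; simp [pow_succ, mul_assoc])).symm
  have e2 : y * (y * w * y⁻¹) * y⁻¹ = y⁻¹ * w * y := by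
    calc y * (y * w * y⁻¹) * y⁻¹ = (y * y) * w * (y * y)⁻¹ := by group
      _ = y⁻¹ * w * y := by rw [e, inv_inv]
  refine ⟨⟨?_, ?_, fun e' => h.move ?_⟩, e2⟩
  · calc y * w * y⁻¹ * (y * w * y⁻¹) = y * (w * w) * y⁻¹ := by group
      _ = 1 := by rw [h.sq]; group
  · rw [e2, show y⁻¹ * (y * w * y⁻¹) * y = w by group]
    calc y * w * y⁻¹ * (y⁻¹ * w * y) = y * (w * (y * w * y⁻¹)) * y⁻¹ := by
          rw [← e2]; group
      _ = w := by rw [h.rel]; group
  · calc y * w = y⁻¹ * (y * (y * w * y⁻¹)) * y := by group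
      _ = y⁻¹ * (y * w * y⁻¹ * y) * y := by rw [e']
      _ = w * y := by group

theorem four_comm {w : G} (h : Four y w) : (y * w * y⁻¹) * w = y⁻¹ * w * y := by
  have hi : w⁻¹ = w := inv_eq_of_mul_eq_one_right h.sq
  have h2 := congrArg (·⁻¹) h.rel
  simp only [mul_inv_rev, hi, inv_inv] at h2
  simpa [mul_assoc] using h2

variable {t t₁ f g : G} (Y : SuzY42Setup.Yd Q z y) (F : Fr Q z y t t₁ f g)
include Y F

theorem mems : t ∈ Q ⊓ centralizer (zpowers y : Set G) ∧ t₁ ∈ Q ⊓ centralizer (zpowers y : Set G) ∧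
    f ∈ Q ⊓ centralizer (zpowers y : Set G) ∧ g ∈ Q ⊓ centralizer (zpowers y : Set G) :=
  ⟨Y.mem_Q₀.2 ⟨F.tQ, F.ty⟩, Y.mem_Q₀.2 ⟨F.t₁Q, F.t₁y⟩, Y.mem_Q₀.2 ⟨F.fQ, F.fy⟩,
    Y.mem_Q₀.2 ⟨F.gQ, F.gy⟩⟩

theorem nc_fg : f * g ≠ g * f := fun e => Y.H.h.ne_one (by
  calc z = f * g * (f * g) := F.fg.symm
    _ = f * g * (g * f) := by nth_rewrite 2 [e]; rfl
    _ = f * (g * g) * f := by group
    _ = 1 := by rw [F.g2, mul_one, F.f2])

/-- A subgroup containing the frame contains `C_Q(y)`. -/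
theorem gen_le {K : Subgroup G} (ht : t ∈ K) (ht₁ : t₁ ∈ K) (hf : f ∈ K) (hg : g ∈ K) :
    Q ⊓ centralizer (zpowers y : Set G) ≤ K := by
  obtain ⟨mt, mt₁, mf, mg⟩ := mems Y F
  set Q₀ := Q ⊓ centralizer (zpowers y : Set G)
  have hz : z ∈ K := F.fg ▸ mul_mem (mul_mem hf hg) (mul_mem hf hg)
  set P := K ⊓ Q₀ with hP
  set P₁ := P ⊓ centralizer ({f} : Set G) with hP₁
  set P₂ := P₁ ⊓ centralizer ({g} : Set G) with hP₂
  set P₃ := P₂ ⊓ centralizer ({t} : Set G) with hP₃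
  set P₄ := P₃ ⊓ centralizer ({t₁} : Set G) with hP₄
  have step : ∀ {A B : Subgroup G}, A ≤ B → ∀ {x : G}, x ∈ B → x ∉ A →
      2 * Nat.card A ≤ Nat.card B := by
    intro A B hle x hxB hxA
    obtain ⟨k, hk⟩ := Subgroup.card_dvd_of_le hle
    rw [hk, mul_comm 2]
    refine Nat.mul_le_mul_left _ ?_
    by_contra hlt
    have : A = B := Subgroup.eq_of_le_of_card_ge hle (by
      rw [hk]; interval_cases k <;> simp)
    exact hxA (this ▸ hxB)
  have hzc : ∀ {a : G}, a ∈ Q → z ∈ centralizer ({a} : Set G) := fun ha =>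
    mem_centralizer_singleton_iff.2 (Y.H.h.comm _ ha).symm
  have m : ∀ {a b : G}, a * b = b * a → a ∈ centralizer ({b} : Set G) := fun e =>
    mem_centralizer_singleton_iff.2 e
  have n : ∀ {a b : G}, a * b ≠ b * a → a ∉ centralizer ({b} : Set G) := fun e h =>
    e (mem_centralizer_singleton_iff.1 h)
  have s1 : 2 * Nat.card P₁ ≤ Nat.card P :=
    step inf_le_left ⟨hg, mg⟩ fun h => n (fun e => nc_fg Y F e.symm) h.2
  have s2 : 2 * Nat.card P₂ ≤ Nat.card P₁ :=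
    step inf_le_left ⟨⟨hf, mf⟩, m rfl⟩ fun h => n (nc_fg Y F) h.2
  have s3 : 2 * Nat.card P₃ ≤ Nat.card P₂ :=
    step inf_le_left ⟨⟨⟨ht₁, mt₁⟩, m F.ft₁.symm⟩, m F.gt₁.symm⟩ fun h => n F.ne h.2
  have s4 : 2 * Nat.card P₄ ≤ Nat.card P₃ :=
    step inf_le_left ⟨⟨⟨⟨ht, mt⟩, m F.ft.symm⟩, m F.gt.symm⟩, m rfl⟩ fun h => n F.ne.symm h.2
  have s5 : 2 ≤ Nat.card P₄ := by
    have : zpowers z ≤ P₄ := zpowers_le.2
      ⟨⟨⟨⟨⟨hz, Y.ext_Q₀.mem⟩, hzc F.fQ⟩, hzc F.gQ⟩, hzc F.tQ⟩, hzc F.t₁Q⟩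
    have h2 := Subgroup.card_le_of_le this
    rwa [Nat.card_zpowers, Y.H.h.toExt.orderOf_z] at h2
  have hPeq : P = Q₀ := Subgroup.eq_of_le_of_card_ge inf_le_right (by rw [Y.card_Q₀]; omega)
  exact hPeq ▸ inf_le_left

theorem comm_Q₀ {l : G} (h1 : l * t = t * l) (h2 : l * t₁ = t₁ * l) (h3 : l * f = f * l)
    (h4 : l * g = g * l) {q : G} (hq : q ∈ Q ⊓ centralizer (zpowers y : Set G)) : l * q = q * l := by
  have h := gen_le Y F (K := centralizer ({l} : Set G)) (mem_centralizer_singleton_iff.2 h1.symm)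
    (mem_centralizer_singleton_iff.2 h2.symm) (mem_centralizer_singleton_iff.2 h3.symm)
    (mem_centralizer_singleton_iff.2 h4.symm) hq
  exact (mem_centralizer_singleton_iff.1 h).symm

/-- Elements of `C_Q(y)` commuting with the frame are central. -/
theorem central {c : G} (hc : c ∈ Q ⊓ centralizer (zpowers y : Set G)) (h1 : c * t = t * c)
    (h2 : c * t₁ = t₁ * c) (h3 : c * f = f * c) (h4 : c * g = g * c) : c = 1 ∨ c = z :=
  Y.ext_Q₀.central hc fun _ hq => (comm_Q₀ Y F h1 h2 h3 h4 hq).symm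

/-- An element of `Q` centralising `C_Q(y)` lies in `[Q, y]`. -/
theorem mem_W {q : G} (hq : q ∈ Q)
    (hc : ∀ c ∈ Q ⊓ centralizer (zpowers y : Set G), q * c = c * q) : q ∈ ⁅Q, zpowers y⁆ := by
  obtain ⟨c, hc0, w, hw, rfl⟩ := LargeExtraspecialAct.decompose Y.H.h.toExt Y.act Y.odd_y hq
  rcases Y.ext_Q₀.central hc0 (fun d hd => by
    have h1 : Commute (c * w) d := hc d hd
    have h2 : Commute w d := (Y.comm_W hd hw).symm
    have := h1.mul_left h2.inv_left
    rw [mul_inv_cancel_right] at this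
    exact this.eq.symm) with e | e <;> subst e
  · simpa using hw
  · exact mul_mem Y.z_mem_W hw

/-- An element of `C(z)` centralising `C_Q(y)` and acting on `[Q, y]` trivially modulo `z` is in `Q`. -/
theorem mem_Q_of_triv {l : G} (hlz : l * z = z * l)
    (hc : ∀ c ∈ Q ⊓ centralizer (zpowers y : Set G), l * c = c * l)
    (hT : Triv ⁅Q, zpowers y⁆ z l) : l ∈ Q := by
  obtain ⟨xw, yw, q, -⟩ := Y.exists_quat_W
  obtain ⟨w, hw, hwc⟩ := q.inner hT
  have key : ∀ a ∈ Q, (w⁻¹ * l) * a = a * (w⁻¹ * l) := by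
    intro a ha
    obtain ⟨c, hc0, u, hu, rfl⟩ := LargeExtraspecialAct.decompose Y.H.h.toExt Y.act Y.odd_y ha
    have h1 : Commute (w⁻¹ * l) c :=
      (show Commute w c from (Y.comm_W hc0 hw).symm).inv_left.mul_left (hc c hc0)
    exact (h1.mul_right (hwc u hu)).eq
  rcases Y.H.h.cent _ key with e | e
  · rw [← inv_mul_eq_one.1 e]; exact Y.W_le hw
  · rw [inv_mul_eq_iff_eq_mul.1 e]; exact mul_mem (Y.W_le hw) Y.H.h.mem

/-- A fixed-point-free four group of `C(z)` centralising the frame lies in `Q`. -/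
theorem four_mem_Q {w : G} (hw : Four y w) (hwz : w * z = z * w) (h1 : w * t = t * w)
    (h2 : w * t₁ = t₁ * w) (h3 : w * f = f * w) (h4 : w * g = g * w) : w ∈ Q := by
  obtain ⟨xw, yw, q, C⟩ := Y.exists_quat_W
  have hz := Y.H.h.zz
  have hy : ∀ {a b : G}, y * b = b * y → a * b = b * a → y * a * y⁻¹ * b = b * (y * a * y⁻¹) :=
    fun hb hab => conj_comm hab hb
  have norm : ∀ {l : G}, l * z = z * l →
      (∀ c ∈ Q ⊓ centralizer (zpowers y : Set G), l * c = c * l) →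
      ∀ u ∈ ⁅Q, zpowers y⁆, l * u * l⁻¹ ∈ ⁅Q, zpowers y⁆ := by
    intro l hl hc u hu
    exact mem_W Y F (Y.H.h.norm l hl u (Y.W_le hu)) fun c hc0 =>
      conj_comm (Y.comm_W hc0 hu).symm (hc c hc0)
  -- a member fixing the class of `xw` lies in `Q`
  have fix_case : ∀ l : G, Four y l → l * z = z * l → l * t = t * l → l * t₁ = t₁ * l →
      l * f = f * l → l * g = g * l → Eqz z (l * xw * l⁻¹) xw → l ∈ Q := by
    intro l hl hlz a1 a2 a3 a4 hfx
    have hc : ∀ c ∈ Q ⊓ centralizer (zpowers y : Set G), l * c = c * l := fun c hc =>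
      comm_Q₀ Y F a1 a2 a3 a4 hc
    refine mem_Q_of_triv Y F hlz hc (q.triv_of hlz hfx ?_)
    set l' := y * l * y⁻¹ with hl'
    set l'' := y⁻¹ * l * y with hl''
    have hl'z : l' * z = z * l' := hy Y.yz hlz
    obtain ⟨hrot, e2⟩ := four_rot Y.y3 hl
    rcases q.cases _ (norm hlz hc yw q.hy) with e | e | e | e
    · exfalso
      refine q.not_one.2 ?_
      have := e.conj (p := l⁻¹) (show Commute l z from hlz).inv_left.eq
      simpa [mul_assoc] using this
    · exfalso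
      refine q.ne_y ?_
      have h' := ((e.trans hz (hfx.symm hz))).conj (p := l⁻¹) (show Commute l z from hlz).inv_left.eq
      rwa [show l⁻¹ * (l * yw * l⁻¹) * l⁻¹⁻¹ = yw by group,
        show l⁻¹ * (l * xw * l⁻¹) * l⁻¹⁻¹ = xw by group] at h'
    · exact e
    · exfalso
      -- then `l'` moves `xw yw` to `xw`, and `l''` fixes `xw yw`
      have k1 : Eqz z (l' * (xw * yw) * l'⁻¹) xw := by
        have h' := e.conj Y.yz
        rw [show y * (l * yw * l⁻¹) * y⁻¹ = l' * (y * yw * y⁻¹) * l'⁻¹ by rw [hl']; group, C.ay,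
          show y * (xw * yw) * y⁻¹ = (y * xw * y⁻¹) * (y * yw * y⁻¹) by group, C.ax, C.ay] at h'
        refine h'.trans hz (Or.inl ?_)
        have hxy : yw * xw = z * xw * yw := mul_inv_eq_iff_eq_mul.1 q.yx
        calc yw * (xw * yw) = (yw * xw) * yw := by group
          _ = z * xw * (yw * yw) := by rw [hxy]; group
          _ = z * (xw * z) := by rw [q.yy, mul_assoc]
          _ = xw := by rw [q.comm _ q.hx, ← mul_assoc, hz, one_mul]
      have k2 : Eqz z (l'' * (xw * yw) * l''⁻¹) xw := by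
        have h' := (k1.conj hlz).trans hz hfx
        rwa [show l * (l' * (xw * yw) * l'⁻¹) * l⁻¹ = (l * l') * (xw * yw) * (l * l')⁻¹ by group,
          hl.rel, ← hl''] at h'
      have k3 : Eqz z (l'' * (xw * yw) * l''⁻¹) (xw * yw) := by
        have h' := (hfx.conj Y.yz).conj Y.yz
        rwa [show y * (y * (l * xw * l⁻¹) * y⁻¹) * y⁻¹ =
            (y * (y * l * y⁻¹) * y⁻¹) * (y * (y * xw * y⁻¹) * y⁻¹) * (y * (y * l * y⁻¹) * y⁻¹)⁻¹ by group,
          e2, C.ax, C.ay, ← hl''] at h'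
      have hk : Eqz z (xw * yw) xw := (k3.symm hz).trans hz k2
      apply q.not_one.2
      have h1' : Eqz z (xw⁻¹ * (xw * yw)) (xw⁻¹ * xw) :=
        (Eqz.rfl' z xw⁻¹).mul hz (q.comm _ (inv_mem q.hx)) hk
      rwa [inv_mul_cancel_left, inv_mul_cancel] at h1'
  obtain ⟨hrot, e2⟩ := four_rot Y.y3 hw
  obtain ⟨hrot2, -⟩ := four_rot Y.y3 hrot
  rw [e2] at hrot2
  have hyi : ∀ {a b : G}, y * b = b * y → a * b = b * a → y⁻¹ * a * y * b = b * (y⁻¹ * a * y) := by
    intro a b hb hab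
    have := conj_comm (p := y⁻¹) hab (show Commute y b from hb).inv_left.eq
    rwa [inv_inv] at this
  have back : ∀ {a : G}, y * a * y⁻¹ ∈ Q → a ∈ Q := fun {a} ha => by
    have := Y.H.h.norm y⁻¹ (show Commute y z from Y.yz).inv_left.eq _ ha
    rwa [show y⁻¹ * (y * a * y⁻¹) * y⁻¹⁻¹ = a by group] at this
  by_cases f0 : Eqz z (w * xw * w⁻¹) xw
  · exact fix_case w hw hwz h1 h2 h3 h4 f0
  by_cases f1 : Eqz z (y * w * y⁻¹ * xw * (y * w * y⁻¹)⁻¹) xw
  · exact back (fix_case _ hrot (hy Y.yz hwz) (hy F.ty h1) (hy F.t₁y h2) (hy F.fy h3) (hy F.gy h4) f1)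
  by_cases f2 : Eqz z (y⁻¹ * w * y * xw * (y⁻¹ * w * y)⁻¹) xw
  · have h := fix_case _ hrot2 (hyi Y.yz hwz) (hyi F.ty h1) (hyi F.t₁y h2) (hyi F.fy h3)
      (hyi F.gy h4) f2
    have := Y.H.h.norm y Y.yz _ h
    rwa [show y * (y⁻¹ * w * y) * y⁻¹ = w by group] at this
  exfalso
  have share : ∀ {l l' l'' : G}, l * z = z * l → l * l = 1 → l * l' = l'' →
      Eqz z (l' * xw * l'⁻¹) (l * xw * l⁻¹) → Eqz z (l'' * xw * l''⁻¹) xw := by
    intro l l' l'' hlz hll e12 e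
    have h' := e.conj hlz
    rwa [show l * (l' * xw * l'⁻¹) * l⁻¹ = (l * l') * xw * (l * l')⁻¹ by group,
      show l * (l * xw * l⁻¹) * l⁻¹ = (l * l) * xw * (l * l)⁻¹ by group, hll, one_mul, inv_one,
      mul_one, e12] at h'
  have hcw : ∀ c ∈ Q ⊓ centralizer (zpowers y : Set G), w * c = c * w := fun c hc =>
    comm_Q₀ Y F h1 h2 h3 h4 hc
  have cls : ∀ l : G, l * z = z * l → (∀ c ∈ Q ⊓ centralizer (zpowers y : Set G), l * c = c * l) →
      ¬ Eqz z (l * xw * l⁻¹) xw →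
      Eqz z (l * xw * l⁻¹) yw ∨ Eqz z (l * xw * l⁻¹) (xw * yw) := by
    intro l hlz hlc hne
    rcases q.cases _ (norm hlz hlc xw q.hx) with e | e | e | e
    · refine absurd ?_ q.not_one.1
      have := e.conj (p := l⁻¹) (show Commute l z from hlz).inv_left.eq
      simpa [mul_assoc] using this
    · exact absurd e hne
    · exact Or.inl e
    · exact Or.inr e
  have hw'z : y * w * y⁻¹ * z = z * (y * w * y⁻¹) := hy Y.yz hwz
  have r01 : w * (y * w * y⁻¹) = y⁻¹ * w * y := hw.rel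
  have r12 : y * w * y⁻¹ * (y⁻¹ * w * y) = w := by
    have := hrot.rel
    rwa [e2, show y⁻¹ * (y * w * y⁻¹) * y = w by group] at this
  have r02 : w * (y⁻¹ * w * y) = y * w * y⁻¹ := by rw [← r01, ← mul_assoc, hw.sq, one_mul]
  rcases cls w hwz hcw f0 with a | a <;>
    rcases cls _ hw'z (fun c hc => hy (Y.mem_Q₀.1 hc).2 (hcw c hc)) f1 with b | b <;>
    rcases cls _ (hyi Y.yz hwz) (fun c hc => hyi (Y.mem_Q₀.1 hc).2 (hcw c hc)) f2 with c | c
  all_goals first
    | exact f2 (share hwz hw.sq r01 (b.trans hz (a.symm hz)))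
    | exact f0 (share hw'z hrot.sq r12 (c.trans hz (b.symm hz)))
    | exact f1 (share hwz hw.sq r02 (c.trans hz (a.symm hz)))

end Cfsg.Agent.SuzPresFrame76
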