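import Mathlib
import Cfsg.Agent.Lib.SuzPresFrame76

/-!
Two fixed-point-free four groups centralising `z`, `f`, `g`, the first fixing `t` and moving `t₁`,
the second fixing `t₁` and moving `t`: with `y` they generate a group acting faithfully on five
involutions of `Q ∩ C(f) ∩ C(g)`.
-/

set_option autoImplicit false
set_option linter.unusedSectionVars false
set_option linter.style.haveILetI false

namespace Cfsg.Agent.SuzPresFive76

open Subgroup Cfsg.Agent.LargeExtraspecial Cfsg.Agent.SuzTypeCoord62 Cfsg.Agent.SuzY42Quat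
open Cfsg.Agent.SuzPresFrame76
open scoped commutatorElement

variable {G : Type*} [Group G] [Finite G]

/-- The first point of the orbit of `y`. -/
def orb (y m : G) : Set G := {m, y * m * y⁻¹, y⁻¹ * m * y}

/-- Mapping a finite set into itself. -/
theorem mem_normalizer_of_maps {S : Set G} {g : G} (h : ∀ a ∈ S, g * a * g⁻¹ ∈ S) :
    g ∈ Subgroup.normalizer S := by
  have e : (fun a => g * a * g⁻¹) '' S = S := Set.eq_of_subset_of_ncard_le
    (Set.image_subset_iff.2 h)
    (by rw [Set.ncard_image_of_injective _ (fun a b hab => mul_left_cancel (mul_right_cancel hab))])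
    (Set.toFinite _)
  refine Subgroup.mem_set_normalizer_iff.2 fun a => ⟨h a, fun ha => ?_⟩
  rw [← e] at ha
  obtain ⟨b, hb, hbe⟩ := ha
  exact (mul_left_cancel (mul_right_cancel hbe) : b = a) ▸ hb

theorem sq_of_eqz {z a b : G} (hz : z * z = 1) (hb : b * z = z * b) (e : Eqz z a b) :
    a * a = b * b := by
  rcases e with rfl | rfl
  · rfl
  · calc z * b * (z * b) = z * (b * z) * b := by group
      _ = z * z * (b * b) := by rw [hb]; group
      _ = b * b := by rw [hz, one_mul]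

theorem comm_of_eqz {z a b u : G} (hz : z * z = 1) (hu : u * z = z * u) (e : Eqz z a b)
    (h : u * a = a * u) : u * b = b * u := by
  have hb : b = a ∨ b = z * a := e.symm hz
  rcases hb with rfl | rfl
  · exact h
  · exact ((show Commute u z from hu).mul_right h).eq

variable {Q : Subgroup G} {z y t t₁ f g : G}

theorem orb_invariant {w : G} (hw : Four y w) {e a : G} (he : y * e = e * y)
    (ha : w * a = a * w) :
    ∀ x ∈ ({a, e} : Set G) ∪ orb y (w * e * w⁻¹),
      w * x * w⁻¹ ∈ ({a, e} : Set G) ∪ orb y (w * e * w⁻¹) := by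
  have hw' : w⁻¹ = w := inv_eq_of_mul_eq_one_right hw.sq
  have e1 : y * (w * e * w⁻¹) * y⁻¹ = (y * w * y⁻¹) * e * (y * w * y⁻¹)⁻¹ := by
    calc y * (w * e * w⁻¹) * y⁻¹ = (y * w * y⁻¹) * (y * e * y⁻¹) * (y * w * y⁻¹)⁻¹ := by group
      _ = _ := by rw [he, mul_inv_cancel_right]
  have e2 : y⁻¹ * (w * e * w⁻¹) * y = (y⁻¹ * w * y) * e * (y⁻¹ * w * y)⁻¹ := by
    calc y⁻¹ * (w * e * w⁻¹) * y = (y⁻¹ * w * y) * (y⁻¹ * e * y) * (y⁻¹ * w * y)⁻¹ := by group
      _ = _ := by rw [show y⁻¹ * e * y = e by rw [mul_assoc, ← he, inv_mul_cancel_left]]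
  have r01 : w * (y * w * y⁻¹) = y⁻¹ * w * y := hw.rel
  have r02 : w * (y⁻¹ * w * y) = y * w * y⁻¹ := by rw [← r01, ← mul_assoc, hw.sq, one_mul]
  intro x hx
  simp only [Set.mem_union, Set.mem_insert_iff, Set.mem_singleton_iff, orb] at hx ⊢
  rcases hx with (rfl | rfl) | rfl | rfl | rfl
  · exact Or.inl (Or.inl (by rw [ha, mul_inv_cancel_right]))
  · exact Or.inr (Or.inl rfl)
  · refine Or.inl (Or.inr ?_)
    rw [show ∀ d, w * (w * d * w⁻¹) * w⁻¹ = (w * w) * d * (w * w)⁻¹ from fun d => by group,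
      hw.sq]
    group
  · refine Or.inr (Or.inr (Or.inr ?_))
    rw [e1, e2, ← r01]; group
  · refine Or.inr (Or.inr (Or.inl ?_))
    rw [e1, e2, ← r02]; group

theorem orb_y (y3 : y ^ 3 = 1) (m : G) :
    ∀ x ∈ orb y m, y * x * y⁻¹ ∈ orb y m := by
  have e : y * y = y⁻¹ := (inv_eq_of_mul_eq_one_right (by rw [← y3]; simp [pow_succ, mul_assoc])).symm
  intro x hx
  simp only [orb, Set.mem_insert_iff, Set.mem_singleton_iff] at hx ⊢
  rcases hx with rfl | rfl | rfl
  · exact Or.inr (Or.inl rfl)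
  · refine Or.inr (Or.inr ?_)
    rw [show y * (y * m * y⁻¹) * y⁻¹ = (y * y) * m * (y * y)⁻¹ by group, e, inv_inv]
  · exact Or.inl (by group)

theorem orb_eq_of_mem (y3 : y ^ 3 = 1) {m n : G} (h : n ∈ orb y m) : orb y n = orb y m := by
  have e : y * y = y⁻¹ := (inv_eq_of_mul_eq_one_right (by rw [← y3]; simp [pow_succ, mul_assoc])).symm
  have e' : y⁻¹ * y⁻¹ = y := by rw [← mul_inv_rev, e, inv_inv]
  simp only [orb, Set.mem_insert_iff, Set.mem_singleton_iff] at h
  ext x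
  simp only [orb, Set.mem_insert_iff, Set.mem_singleton_iff]
  rcases h with rfl | rfl | rfl
  · exact Iff.rfl
  · rw [show y * (y * m * y⁻¹) * y⁻¹ = (y * y) * m * (y * y)⁻¹ by group, e, inv_inv,
      show y⁻¹ * (y * m * y⁻¹) * y = m by group]
    tauto
  · rw [show y * (y⁻¹ * m * y) * y⁻¹ = m by group,
      show y⁻¹ * (y⁻¹ * m * y) * y = (y⁻¹ * y⁻¹) * m * (y⁻¹ * y⁻¹)⁻¹ by simp [mul_assoc], e']
    tauto

variable (Y : SuzY42Setup.Yd Q z y) (F : Fr Q z y t t₁ f g)
include Y F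

/-- The elements of `C_Q(y)` commuting with `f` and `g`. -/
theorem cq_cases {c : G} (hc : c ∈ Q ⊓ centralizer (zpowers y : Set G)) (hf : c * f = f * c)
    (hg : c * g = g * c) :
    Eqz z c 1 ∨ Eqz z c t ∨ Eqz z c t₁ ∨ Eqz z c (t * t₁) := by
  obtain ⟨mt, mt₁, -, -⟩ := mems Y F
  have hzz := Y.H.h.zz
  have hcQ := hc.1
  have hz : ∀ {a : G}, a ∈ Q → Commute z a := fun ha => (Y.H.h.comm _ ha).symm
  have conjv : ∀ {d : G}, d ∈ Q ⊓ centralizer (zpowers y : Set G) → d * f = f * d → d * g = g * d →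
      c * t * c⁻¹ = d * t * d⁻¹ → c * t₁ * c⁻¹ = d * t₁ * d⁻¹ → Eqz z c d := by
    intro d hd df dg e1 e2
    have key : ∀ {a : G}, c * a * c⁻¹ = d * a * d⁻¹ → (d⁻¹ * c) * a = a * (d⁻¹ * c) := fun {a} e =>
      mul_inv_eq_iff_eq_mul.1 (by
        rw [show d⁻¹ * c * a * (d⁻¹ * c)⁻¹ = d⁻¹ * (c * a * c⁻¹) * d by group, e]; group)
    rcases central Y F (mul_mem (inv_mem hd) hc) (key e1) (key e2)
      (((show Commute d f from df).inv_left.mul_left hf).eq)
      (((show Commute d g from dg).inv_left.mul_left hg).eq) with e | e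
    · exact Or.inl (inv_mul_eq_one.1 e).symm
    · exact Or.inr (by rw [inv_mul_eq_iff_eq_mul.1 e, (hz hd.1).eq])
  have fix : ∀ {a : G}, a * a = 1 → a * a * a⁻¹ = a := fun _ => by group
  have e10 : t₁ * t * t₁⁻¹ = z * t := (Y.H.h.not_comm_iff F.tQ F.t₁Q).1 F.ne
  have e01 : t * t₁ * t⁻¹ = z * t₁ := (Y.H.h.not_comm_iff F.t₁Q F.tQ).1 F.ne.symm
  have e11 : t * t₁ * t * (t * t₁)⁻¹ = z * t := by
    rw [show t * t₁ * t * (t * t₁)⁻¹ = t * (t₁ * t * t₁⁻¹) * t⁻¹ by group, e10,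
      ← mul_assoc, ← (hz F.tQ).eq]
    group
  have e12 : t * t₁ * t₁ * (t * t₁)⁻¹ = z * t₁ := by
    rw [show t * t₁ * t₁ * (t * t₁)⁻¹ = t * (t₁ * t₁ * t₁⁻¹) * t⁻¹ by group, fix F.t₁2, e01]
  rcases Y.H.h.conj c hcQ t F.tQ with a | a <;> rcases Y.H.h.conj c hcQ t₁ F.t₁Q with b | b
  · exact Or.inl (conjv (one_mem _) (by simp) (by simp) (by rw [a]; group) (by rw [b]; group))
  · exact Or.inr (Or.inl (conjv mt F.ft.symm F.gt.symm (by rw [a, fix F.t2]) (by rw [b, e01])))
  · exact Or.inr (Or.inr (Or.inl (conjv mt₁ F.ft₁.symm F.gt₁.symm (by rw [a, e10])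
      (by rw [b, fix F.t₁2]))))
  · exact Or.inr (Or.inr (Or.inr (conjv (mul_mem mt mt₁)
      ((show Commute t f from F.ft.symm).mul_left F.ft₁.symm).eq
      ((show Commute t g from F.gt.symm).mul_left F.gt₁.symm).eq
      (by rw [a, e11]) (by rw [b, e12]))))

/-- An involution of `Q` commuting with `f` and `g`, other than `1` and `z`. -/
theorem sing_cases {xw yw : G} (q : Quat ⁅Q, zpowers y⁆ z xw yw) {m : G} (hm : m ∈ Q)
    (hm2 : m * m = 1) (h1 : ¬ Eqz z m 1) (hf : m * f = f * m) (hg : m * g = g * m) :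
    Eqz z m t ∨ Eqz z m t₁ ∨ Eqz z m (t * t₁ * xw) ∨ Eqz z m (t * t₁ * yw) ∨
      Eqz z m (t * t₁ * (xw * yw)) := by
  have hzz := Y.H.h.zz
  obtain ⟨c, hc, w, hw, rfl⟩ := LargeExtraspecialAct.decompose Y.H.h.toExt Y.act Y.odd_y hm
  obtain ⟨mt, mt₁, mf, mg⟩ := mems Y F
  have cc : ∀ {d : G}, d ∈ Q ⊓ centralizer (zpowers y : Set G) → (c * w) * d = d * (c * w) →
      c * d = d * c := by
    intro d hd e
    have := (show Commute (c * w) d from e).mul_left
      (show Commute w d from (Y.comm_W hd hw).symm).inv_left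
    rwa [mul_inv_cancel_right] at this
  have hsq : c * w * (c * w) = c * c * (w * w) :=
    (show Commute w c from (Y.comm_W hc hw).symm).mul_mul_mul_comm _ _
  rw [hsq] at hm2
  have hzc : ∀ {a : G}, a ∈ Q → a * z = z * a := fun ha => Y.H.h.comm _ ha
  have hr : t * t₁ * (t * t₁) = z := by
    rw [show t * t₁ * (t * t₁) = t * (t₁ * t * t₁⁻¹) * (t₁ * t₁) by group,
      (Y.H.h.not_comm_iff F.tQ F.t₁Q).1 F.ne, F.t₁2, ← mul_assoc, hzc F.tQ, mul_assoc z, F.t2]
    group
  -- `w` is central when `c` is an involution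
  have wtriv : c * c = 1 → Eqz z w 1 := by
    intro e
    rw [e, one_mul] at hm2
    rcases q.cases w hw with k | k | k | k
    · exact k
    · exact absurd ((sq_of_eqz hzz (hzc (Y.W_le q.hx)) k).symm.trans hm2) (by
        rw [q.xx]; exact Y.H.h.ne_one)
    · exact absurd ((sq_of_eqz hzz (hzc (Y.W_le q.hy)) k).symm.trans hm2) (by
        rw [q.yy]; exact Y.H.h.ne_one)
    · exact absurd ((sq_of_eqz hzz (hzc (Y.W_le (mul_mem q.hx q.hy))) k).symm.trans hm2) (by
        rw [q.xy_sq]; exact Y.H.h.ne_one)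
  rcases cq_cases Y F hc (cc mf hf) (cc mg hg) with k | k | k | k
  · refine absurd ?_ h1
    have := k.mul hzz (by simp) (wtriv (by
      rw [sq_of_eqz hzz (by simp) k, one_mul]))
    rwa [mul_one] at this
  · refine Or.inl ?_
    have := k.mul hzz (hzc F.tQ) (wtriv (by rw [sq_of_eqz hzz (hzc F.tQ) k, F.t2]))
    rwa [mul_one] at this
  · refine Or.inr (Or.inl ?_)
    have := k.mul hzz (hzc F.t₁Q) (wtriv (by rw [sq_of_eqz hzz (hzc F.t₁Q) k, F.t₁2]))
    rwa [mul_one] at this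
  · have hrz := hzc (mul_mem F.tQ F.t₁Q)
    rcases q.cases w hw with l | l | l | l
    · exfalso
      rw [sq_of_eqz hzz hrz k, sq_of_eqz hzz (by simp) l, hr, one_mul, mul_one] at hm2
      exact Y.H.h.ne_one hm2
    exacts [Or.inr (Or.inr (Or.inl (k.mul hzz hrz l))),
      Or.inr (Or.inr (Or.inr (Or.inl (k.mul hzz hrz l)))),
      Or.inr (Or.inr (Or.inr (Or.inr (k.mul hzz hrz l))))]

/-- Three classes moved cyclically by `y`: every such involution off the classes of `t` and `t₁` lies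
in the orbit of any other, modulo `z`. -/
theorem same_orbit {m n : G} (hm : m ∈ Q) (hm2 : m * m = 1) (hm1 : ¬ Eqz z m 1)
    (hmt : ¬ Eqz z m t) (hmt₁ : ¬ Eqz z m t₁) (hmf : m * f = f * m) (hmg : m * g = g * m)
    (hn : n ∈ Q) (hn2 : n * n = 1) (hn1 : ¬ Eqz z n 1) (hnt : ¬ Eqz z n t) (hnt₁ : ¬ Eqz z n t₁)
    (hnf : n * f = f * n) (hng : n * g = g * n) :
    ∃ a ∈ orb y m, Eqz z n a := by
  obtain ⟨xw, yw, q, C⟩ := Y.exists_quat_W
  have hzz := Y.H.h.zz
  have hyi : y⁻¹ * z = z * y⁻¹ := (show Commute y z from Y.yz).inv_left.eq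
  have hyr : y * (t * t₁) * y⁻¹ = t * t₁ := by
    rw [((show Commute y t from F.ty).mul_right F.t₁y).eq, mul_inv_cancel_right]
  have s1 : y * (t * t₁ * xw) * y⁻¹ = t * t₁ * yw := by
    rw [show y * (t * t₁ * xw) * y⁻¹ = (y * (t * t₁) * y⁻¹) * (y * xw * y⁻¹) by group, hyr, C.ax]
  have s2 : y * (t * t₁ * yw) * y⁻¹ = t * t₁ * (xw * yw) := by
    rw [show y * (t * t₁ * yw) * y⁻¹ = (y * (t * t₁) * y⁻¹) * (y * yw * y⁻¹) by group, hyr, C.ay]
  have e : y * y = y⁻¹ := (inv_eq_of_mul_eq_one_right (by rw [← Y.y3]; simp [pow_succ, mul_assoc])).symm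
  have s20 : y⁻¹ * (t * t₁ * xw) * y = t * t₁ * (xw * yw) := by
    rw [← s2, ← s1, show y * (y * (t * t₁ * xw) * y⁻¹) * y⁻¹
      = (y * y) * (t * t₁ * xw) * (y * y)⁻¹ by group, e, inv_inv]
  have s10 : y⁻¹ * (t * t₁ * yw) * y = t * t₁ * xw := by rw [← s1]; group
  have s12 : y⁻¹ * (t * t₁ * (xw * yw)) * y = t * t₁ * yw := by rw [← s2]; group
  have s21 : y * (t * t₁ * (xw * yw)) * y⁻¹ = t * t₁ * xw := by rw [← s20]; group
  have up : ∀ {p p' : G}, Eqz z m p → y * p * y⁻¹ = p' → Eqz z n p' →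
      ∃ a ∈ orb y m, Eqz z n a := fun {p p'} h h' hn =>
    ⟨y * m * y⁻¹, Or.inr (Or.inl rfl), hn.trans hzz ((h' ▸ h.conj Y.yz).symm hzz)⟩
  have down : ∀ {p p' : G}, Eqz z m p → y⁻¹ * p * y = p' → Eqz z n p' →
      ∃ a ∈ orb y m, Eqz z n a := by
    intro p p' h h' hn
    refine ⟨y⁻¹ * m * y, Or.inr (Or.inr rfl), hn.trans hzz (Eqz.symm hzz ?_)⟩
    have := h.conj hyi
    rwa [inv_inv, h'] at this
  have same : ∀ {p : G}, Eqz z m p → Eqz z n p → ∃ a ∈ orb y m, Eqz z n a := fun {p} h hn =>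
    ⟨m, Or.inl rfl, hn.trans hzz (h.symm hzz)⟩
  rcases sing_cases Y F q hm hm2 hm1 hmf hmg with a | a | a | a | a
  · exact absurd a hmt
  · exact absurd a hmt₁
  all_goals rcases sing_cases Y F q hn hn2 hn1 hnf hng with b | b | b | b | b
  all_goals first
    | exact absurd b hnt
    | exact absurd b hnt₁
    | exact same a b
    | exact up a s1 b
    | exact up a s2 b
    | exact up a s21 b
    | exact down a s20 b
    | exact down a s10 b
    | exact down a s12 b

/-- Two four groups, each moving one of `t`, `t₁`, generate with `y` a group on five letters. -/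
theorem five (ht : ¬ Eqz z t 1) (ht₁ : ¬ Eqz z t₁ 1) {v v₁ : G} (hv : Four y v) (hv₁ : Four y v₁)
    (vz : v * z = z * v) (vt : v * t = t * v) (vf : v * f = f * v) (vg : v * g = g * v)
    (vt₁ : v * t₁ ≠ t₁ * v)
    (wz : v₁ * z = z * v₁) (wt₁ : v₁ * t₁ = t₁ * v₁) (wf : v₁ * f = f * v₁) (wg : v₁ * g = g * v₁)
    (wt : v₁ * t ≠ t * v₁) :
    ∃ ρ : ↥(closure ({v, v₁, y} : Set G)) →* Equiv.Perm (Fin 5), Function.Injective ρ := by
  classical
  obtain ⟨xw, yw, q, C⟩ := Y.exists_quat_W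
  have hzz := Y.H.h.zz
  have hzc : ∀ {a : G}, a ∈ Q → a * z = z * a := fun ha => Y.H.h.comm _ ha
  -- images of `t₁` under `v` and of `t` under `v₁`
  have image : ∀ {w a b : G}, Four y w → w * z = z * w → w * f = f * w → w * g = g * w →
      b * a ≠ a * b → a ∈ Q → y * a = a * y → a * a = 1 → ¬ Eqz z a 1 → a * f = f * a →
      a * g = g * a → w * b = b * w → w * a ≠ a * w → b ∈ Q →
      w * a * w⁻¹ ∈ Q ∧ w * a * w⁻¹ * (w * a * w⁻¹) = 1 ∧ ¬ Eqz z (w * a * w⁻¹) 1 ∧
        ¬ Eqz z (w * a * w⁻¹) b ∧ ¬ Eqz z (w * a * w⁻¹) a ∧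
        w * a * w⁻¹ * f = f * (w * a * w⁻¹) ∧ w * a * w⁻¹ * g = g * (w * a * w⁻¹) := by
    intro w a b hw wz' wf' wg' hba haQ hay ha2 ha1 haf hag hwb hwa hbQ
    have back : ∀ {c : G}, Eqz z (w * a * w⁻¹) (w * c * w⁻¹) → Eqz z a c := fun {c} e => by
      have := e.conj (p := w⁻¹) (show Commute w z from wz').inv_left.eq
      rwa [show w⁻¹ * (w * a * w⁻¹) * w⁻¹⁻¹ = a by group,
        show w⁻¹ * (w * c * w⁻¹) * w⁻¹⁻¹ = c by group] at this
    refine ⟨Y.H.h.norm w wz' a haQ, ?_, fun e => ha1 (back (by simpa using e)), fun e => ?_,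
      fun e => ?_, conj_comm haf wf', conj_comm hag wg'⟩
    · rw [show w * a * w⁻¹ * (w * a * w⁻¹) = w * (a * a) * w⁻¹ by group, ha2]; group
    · have h' : Eqz z a b := back (by rwa [hwb, mul_inv_cancel_right])
      rcases h' with h' | h'
      · exact hba (by rw [h'])
      · exact hba (by rw [h']; exact ((show Commute b z from hzc hbQ).mul_right rfl).eq)
    · rcases e with e | e
      · exact hwa (mul_inv_eq_iff_eq_mul.1 e)
      · have hyi : y⁻¹ * a * y = a := by rw [mul_assoc, ← hay, inv_mul_cancel_left]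
        have e' : (y * w * y⁻¹) * a * (y * w * y⁻¹)⁻¹ = z * a := by
          calc (y * w * y⁻¹) * a * (y * w * y⁻¹)⁻¹ = y * (w * (y⁻¹ * a * y) * w⁻¹) * y⁻¹ := by group
            _ = (y * z) * a * y⁻¹ := by rw [hyi, e]; group
            _ = z * (y * a * y⁻¹) := by rw [Y.yz]; group
            _ = z * a := by rw [hay, mul_inv_cancel_right]
        have e'' : (y⁻¹ * w * y) * a * (y⁻¹ * w * y)⁻¹ = z * a := by
          calc (y⁻¹ * w * y) * a * (y⁻¹ * w * y)⁻¹ = y⁻¹ * (w * (y * a * y⁻¹) * w⁻¹) * y := by group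
            _ = (y⁻¹ * z) * a * y := by rw [hay, mul_inv_cancel_right, e]; group
            _ = z * (y⁻¹ * a * y) := by rw [(show Commute y z from Y.yz).inv_left.eq]; group
            _ = z * a := by rw [hyi]
        rw [← hw.rel, show w * (y * w * y⁻¹) * a * (w * (y * w * y⁻¹))⁻¹
          = w * ((y * w * y⁻¹) * a * (y * w * y⁻¹)⁻¹) * w⁻¹ by group, e', ← mul_assoc, wz',
          mul_assoc z w a, mul_assoc z (w * a), e, Y.H.h.z_mul_z_mul] at e''
        exact Y.H.h.z_mul_ne a e''.symm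
  obtain ⟨mQ, m2, m1, mt, mt₁, mf, mg⟩ := image hv vz vf vg (fun e => F.ne e.symm) F.t₁Q F.t₁y
    F.t₁2 ht₁ F.ft₁.symm F.gt₁.symm vt vt₁ F.tQ
  obtain ⟨nQ, n2, n1, nt₁, nt, nf, ng⟩ := image hv₁ wz wf wg F.ne F.tQ F.ty F.t2 ht F.ft.symm
    F.gt.symm wt₁ wt F.t₁Q
  set m := v * t₁ * v⁻¹ with hm
  obtain ⟨p, hp, hnp⟩ := same_orbit Y F mQ m2 m1 mt mt₁ mf mg nQ n2 n1 nt nt₁ nf ng
  -- the representative of the class of `t`
  obtain ⟨e, he, hey, heQ, hep⟩ : ∃ e, Eqz z e t ∧ y * e = e * y ∧ e ∈ Q ∧ v₁ * e * v₁⁻¹ = p := by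
    rcases hnp with d | d
    · exact ⟨t, Or.inl rfl, F.ty, F.tQ, d⟩
    · refine ⟨z * t, Or.inr rfl, ((show Commute y z from Y.yz).mul_right F.ty).eq,
        mul_mem Y.H.h.mem F.tQ, ?_⟩
      rw [← mul_assoc, wz, mul_assoc z v₁ t, mul_assoc z (v₁ * t), d, Y.H.h.z_mul_z_mul]
  have horb : orb y (v₁ * e * v₁⁻¹) = orb y m := by rw [hep]; exact orb_eq_of_mem Y.y3 hp
  set S : Set G := ({e, t₁} : Set G) ∪ orb y m with hS
  have ve : v * e = e * v := by
    rcases he with rfl | rfl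
    · exact vt
    · exact ((show Commute v z from vz).mul_right vt).eq
  have hvS : v ∈ Subgroup.normalizer S :=
    mem_normalizer_of_maps (orb_invariant hv F.t₁y ve)
  have hwS : v₁ ∈ Subgroup.normalizer S := by
    refine mem_normalizer_of_maps ?_
    have := orb_invariant hv₁ hey wt₁
    rwa [horb, show ({t₁, e} : Set G) = {e, t₁} from Set.pair_comm _ _] at this
  have hyS : y ∈ Subgroup.normalizer S := by
    refine mem_normalizer_of_maps fun a ha => ?_
    rcases ha with ha | ha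
    · refine Or.inl ?_
      rcases ha with rfl | rfl
      · exact Or.inl (by rw [hey, mul_inv_cancel_right])
      · exact Or.inr (by rw [F.t₁y, mul_inv_cancel_right]; rfl)
    · exact Or.inr (orb_y Y.y3 m a ha)
  set U := closure ({v, v₁, y} : Set G) with hU
  have hvU : v ∈ U := subset_closure (by simp)
  have hwU : v₁ ∈ U := subset_closure (by simp)
  have hyU : y ∈ U := subset_closure (by simp)
  have hUS : U ≤ Subgroup.normalizer S := (closure_le _).2 (by
    rintro x (rfl | rfl | rfl)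
    exacts [hvS, hwS, hyS])
  have hUc : ∀ {a : G}, v * a = a * v → v₁ * a = a * v₁ → y * a = a * y →
      ∀ u ∈ U, u * a = a * u := fun {a} p1 p2 p3 u hu =>
    mem_centralizer_singleton_iff.1 (((closure_le _).2 (by
      rintro x (rfl | rfl | rfl) <;> exact mem_centralizer_singleton_iff.2 (by assumption))
        : U ≤ centralizer ({a} : Set G)) hu)
  have uz := hUc vz wz Y.yz
  have uf := hUc vf wf F.fy
  have ug := hUc vg wg F.gy
  -- five points
  have hcard : S.ncard = 5 := by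
    have hyi : y⁻¹ * z = z * y⁻¹ := (show Commute y z from Y.yz).inv_left.eq
    have hmy : y * m * y⁻¹ ≠ m := by
      intro h
      have hm0 : m ∈ Q ⊓ centralizer (zpowers y : Set G) :=
        Y.mem_Q₀.2 ⟨mQ, mul_inv_eq_iff_eq_mul.1 h⟩
      rcases cq_cases Y F hm0 mf mg with k | k | k | k
      · exact m1 k
      · exact mt k
      · exact mt₁ k
      · have hh := sq_of_eqz hzz (hzc (mul_mem F.tQ F.t₁Q)) k
        rw [m2] at hh
        refine F.ne ?_
        calc t₁ * t = t₁⁻¹ * t⁻¹ := by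
              rw [inv_eq_of_mul_eq_one_right F.t₁2, inv_eq_of_mul_eq_one_right F.t2]
          _ = (t * t₁)⁻¹ := by group
          _ = t * t₁ := inv_eq_of_mul_eq_one_right hh.symm
    have het₁ : e ≠ t₁ := by
      rcases he with rfl | rfl
      · exact fun h => F.ne (by rw [h])
      · intro h
        refine F.ne ?_
        rw [← h]
        exact ((show Commute z t from (hzc F.tQ).symm).mul_left rfl).eq
    have mem_orb : ∀ {a}, a ∈ orb y m → ¬ Eqz z a t ∧ ¬ Eqz z a t₁ := by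
      intro a ha
      simp only [orb, Set.mem_insert_iff, Set.mem_singleton_iff] at ha
      have pull : ∀ {p b : G}, p * z = z * p → p * b = b * p → Eqz z (p * m * p⁻¹) b → Eqz z m b := by
        intro p b hp hb h'
        have := h'.conj (p := p⁻¹) (show Commute p z from hp).inv_left.eq
        rwa [show p⁻¹ * (p * m * p⁻¹) * p⁻¹⁻¹ = m by group, inv_inv,
          show p⁻¹ * b * p = b by rw [mul_assoc, ← hb, inv_mul_cancel_left]] at this
      rcases ha with rfl | rfl | rfl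
      · exact ⟨mt, mt₁⟩
      · exact ⟨fun h => mt (pull Y.yz F.ty h), fun h => mt₁ (pull Y.yz F.t₁y h)⟩
      · exact ⟨fun h => mt (pull hyi (show Commute y t from F.ty).inv_left.eq (by rwa [inv_inv])),
          fun h => mt₁ (pull hyi (show Commute y t₁ from F.t₁y).inv_left.eq (by rwa [inv_inv]))⟩
    have heo : e ∉ orb y m := fun h => (mem_orb h).1 he
    have ht₁o : t₁ ∉ orb y m := fun h => (mem_orb h).2 (Or.inl rfl)
    have h3 : (orb y m).ncard = 3 := by
      have a1 : m ≠ y⁻¹ * m * y := fun h => hmy (by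
        conv_lhs => rw [h]
        group)
      have a2 : y * m * y⁻¹ ≠ y⁻¹ * m * y := fun h => by
        have h' : y * (y * m * y⁻¹) * y⁻¹ = m := by rw [h]; group
        apply hmy
        have h3 : y * (y * (y * m * y⁻¹) * y⁻¹) * y⁻¹ = m := by
          rw [show y * (y * (y * m * y⁻¹) * y⁻¹) * y⁻¹ = y ^ 3 * m * (y ^ 3)⁻¹ by
            simp only [pow_succ, pow_zero, one_mul]; group, Y.y3]
          group
        rwa [h'] at h3
      rw [orb, Set.ncard_insert_of_notMem (by simp [Ne.symm hmy, a1]), Set.ncard_pair a2]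
    rw [hS, Set.ncard_union_eq (Set.disjoint_left.2 (by rintro a (rfl | rfl) <;> assumption))
      (Set.toFinite _) (Set.toFinite _), Set.ncard_pair het₁, h3]
  let toP : U → Equiv.Perm S := fun u =>
    Equiv.Perm.subtypePerm (MulAut.conj (u : G)).toEquiv
      fun a => (Subgroup.mem_set_normalizer_iff.1 (hUS u.2) a).symm
  let ρ₀ : U →* Equiv.Perm S := MonoidHom.mk' toP fun u u' => Equiv.ext fun a => Subtype.ext (by
    show ((u * u' : U) : G) * a * ((u * u' : U) : G)⁻¹ = u * (u' * a * (u' : G)⁻¹) * (u : G)⁻¹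
    rw [Subgroup.coe_mul]; group)
  let eq5 : S ≃ Fin 5 := Finite.equivFinOfCardEq (by rw [Nat.card_coe_set_eq, hcard])
  let ρ : U →* Equiv.Perm (Fin 5) := (eq5.permCongrHom.toMonoidHom).comp ρ₀
  -- the kernel
  have hker : ∀ u : U, ρ u = 1 → (u : G) = 1 ∨ (u : G) = z := by
    intro u hu
    have h0 : ρ₀ u = 1 := eq5.permCongrHom.injective (by rw [map_one]; exact hu)
    have hfix : ∀ a ∈ S, (u : G) * a = a * u := fun a ha => by
      have h' : (u : G) * a * (u : G)⁻¹ = a :=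
        congrArg (fun π : Equiv.Perm S => ((π ⟨a, ha⟩ : S) : G)) h0
      exact mul_inv_eq_iff_eq_mul.1 h'
    have huz := uz _ u.2
    have ut : (u : G) * t = t * u :=
      comm_of_eqz hzz huz he (hfix e (Or.inl (Or.inl rfl)))
    have ut₁ : (u : G) * t₁ = t₁ * u := hfix t₁ (Or.inl (Or.inr rfl))
    have u0 : ∀ c ∈ Q ⊓ centralizer (zpowers y : Set G), (u : G) * c = c * u := fun c hc =>
      comm_Q₀ Y F ut ut₁ (uf _ u.2) (ug _ u.2) hc
    -- the points of the orbit represent the three classes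
    have hr : (u : G) * (t * t₁) = t * t₁ * u :=
      ((show Commute (u : G) t from ut).mul_right ut₁).eq
    have strip : ∀ {a b : G}, a ∈ S → Eqz z a (t * t₁ * b) → (u : G) * b = b * u := by
      intro a b ha hab
      have h1' : Commute (u : G) (t * t₁ * b) := comm_of_eqz hzz huz hab (hfix a ha)
      have := (show Commute (u : G) (t * t₁) from hr).inv_right.mul_right h1'
      rwa [inv_mul_cancel_left] at this
    have hS1 : y * m * y⁻¹ ∈ S := Or.inr (Or.inr (Or.inl rfl))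
    have hS0 : m ∈ S := Or.inr (Or.inl rfl)
    have hS2 : y⁻¹ * m * y ∈ S := Or.inr (Or.inr (Or.inr rfl))
    have hyr : y * (t * t₁) * y⁻¹ = t * t₁ := by
      rw [((show Commute y t from F.ty).mul_right F.t₁y).eq, mul_inv_cancel_right]
    have hyr' : y⁻¹ * (t * t₁) * y = t * t₁ := by
      conv_lhs => rw [← hyr]
      group
    have up : ∀ {b : G}, Eqz z m (t * t₁ * b) → (u : G) * (y * b * y⁻¹) = y * b * y⁻¹ * u := by
      intro b hb
      refine strip hS1 ?_
      have := hb.conj Y.yz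
      rwa [show y * (t * t₁ * b) * y⁻¹ = y * (t * t₁) * y⁻¹ * (y * b * y⁻¹) by group, hyr] at this
    have down : ∀ {b : G}, Eqz z m (t * t₁ * b) →
        (u : G) * (y⁻¹ * b * y) = y⁻¹ * b * y * u := by
      intro b hb
      refine strip hS2 ?_
      have := hb.conj (p := y⁻¹) (show Commute y z from Y.yz).inv_left.eq
      rwa [inv_inv, show y⁻¹ * (t * t₁ * b) * y = y⁻¹ * (t * t₁) * y * (y⁻¹ * b * y) by group,
        hyr'] at this
    have both : (u : G) * xw = xw * u ∧ (u : G) * yw = yw * u := by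
      have p1 : y * yw * y⁻¹ = xw * yw := C.ay
      rcases sing_cases Y F q mQ m2 m1 mf mg with a | a | a | a | a
      · exact absurd a mt
      · exact absurd a mt₁
      · have := up a
        rw [C.ax] at this
        exact ⟨strip hS0 a, this⟩
      · have := down a
        rw [show y⁻¹ * yw * y = xw by rw [← C.ax]; group] at this
        exact ⟨this, strip hS0 a⟩
      · have h1' := down a
        rw [show y⁻¹ * (xw * yw) * y = yw by rw [← p1]; group] at h1'
        have h2' := (show Commute (u : G) (xw * yw) from strip hS0 a).mul_right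
          (show Commute (u : G) yw from h1').inv_right
        rw [mul_inv_cancel_right] at h2'
        exact ⟨h2', h1'⟩
    refine Y.H.h.cent _ fun x hx => ?_
    obtain ⟨c, hc, w, hw, rfl⟩ := LargeExtraspecialAct.decompose Y.H.h.toExt Y.act Y.odd_y hx
    exact ((show Commute (u : G) c from u0 c hc).mul_right (q.comm_of huz both.1 both.2 hw)).eq
  refine ⟨ρ, (injective_iff_map_eq_one ρ).2 fun u hu => ?_⟩
  rcases hker u hu with hu1 | huz'
  · exact Subtype.ext hu1
  exfalso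
  have hzU : z ∈ U := huz' ▸ u.2
  -- `v`, `v₁` and `z` lie in the derived subgroup
  have inD : ∀ {w : G} (hw : Four y w) (hwU : w ∈ U), (⟨w, hwU⟩ : U) ∈ commutator U := by
    intro w hw hwU
    have hc : (⁅(⟨y, hyU⟩ : U), ⟨w, hwU⟩⁆ : U) ∈ commutator U :=
      Subgroup.commutator_mem_commutator (mem_top _) (mem_top _)
    have := Subgroup.Normal.conj_mem inferInstance _ hc ⟨y, hyU⟩
    refine (Subtype.ext ?_ : (_ : U) = ⟨w, hwU⟩) ▸ this
    show y * (y * w * y⁻¹ * w⁻¹) * y⁻¹ = w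
    rw [inv_eq_of_mul_eq_one_right hw.sq, four_comm hw]
    group
  have genU : ∀ K : Subgroup U, (⟨v, hvU⟩ : U) ∈ K → (⟨v₁, hwU⟩ : U) ∈ K →
      (⟨y, hyU⟩ : U) ∈ K → ∀ a : U, a ∈ K := by
    intro K a1 a2 a3 a
    obtain ⟨a, ha⟩ := a
    induction ha using closure_induction with
    | mem x hx =>
      rcases hx with rfl | rfl | rfl
      exacts [a1, a2, a3]
    | one => exact one_mem K
    | mul a b ha hb iha ihb => exact mul_mem iha ihb
    | inv a ha iha => exact inv_mem iha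
  have hDker : ∀ {A : Type} [CommGroup A] (φ : U →* A), commutator U ≤ φ.ker := fun φ =>
    Abelianization.commutator_subset_ker φ
  have zD : (⟨z, hzU⟩ : U) ∈ commutator U := by
    set ab := (Abelianization.of : U →* Abelianization U)
    have hk : ∀ {a : U}, ab a = 1 ↔ a ∈ commutator U := fun {a} => by
      rw [← MonoidHom.mem_ker, Abelianization.ker_of]
    have hcube : ∀ a : U, ab a ^ 3 = 1 := by
      intro a
      have := genU ((powMonoidHom 3).comp ab).ker
        (by simp [MonoidHom.mem_ker, hk.2 (inD hv hvU)])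
        (by simp [MonoidHom.mem_ker, hk.2 (inD hv₁ hwU)])
        (by
          show ab ⟨y, hyU⟩ ^ 3 = 1
          rw [← map_pow, show (⟨y, hyU⟩ : U) ^ 3 = 1 from Subtype.ext Y.y3, map_one]) a
      exact this
    refine hk.1 ?_
    have h2 : ab ⟨z, hzU⟩ * ab ⟨z, hzU⟩ = 1 := by
      rw [← map_mul, show (⟨z, hzU⟩ : U) * ⟨z, hzU⟩ = 1 from Subtype.ext hzz, map_one]
    have h3 := hcube ⟨z, hzU⟩
    rwa [pow_succ, pow_two, h2, one_mul] at h3
  -- the image is even
  have hsign : ∀ a : U, Equiv.Perm.sign (ρ a) = 1 := by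
    refine genU (Equiv.Perm.sign.comp ρ).ker (hDker _ (inD hv hvU)) (hDker _ (inD hv₁ hwU)) ?_
    have h3 : (Equiv.Perm.sign.comp ρ) ⟨y, hyU⟩ ^ 3 = 1 := by
      rw [← map_pow, show (⟨y, hyU⟩ : U) ^ 3 = 1 from Subtype.ext Y.y3, map_one]
    rwa [pow_succ, pow_two, Int.units_mul_self, one_mul] at h3
  have hK : Nat.card ρ.ker ∣ 2 := by
    have hle : ρ.ker.map U.subtype ≤ zpowers z := by
      rintro _ ⟨a, ha, rfl⟩
      rcases hker a ha with d | d
      · rw [show U.subtype a = 1 from d]; exact one_mem _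
      · rw [show U.subtype a = z from d]; exact mem_zpowers z
    have := Subgroup.card_dvd_of_le hle
    rwa [Subgroup.card_map_of_injective U.subtype_injective, Nat.card_zpowers,
      Y.H.h.toExt.orderOf_z] at this
  have hR : Nat.card ρ.range ∣ 60 := by
    have hle : ρ.range ≤ alternatingGroup (Fin 5) := by
      rintro _ ⟨a, rfl⟩
      exact hsign a
    have := Subgroup.card_dvd_of_le hle
    rwa [show Nat.card (alternatingGroup (Fin 5)) = 60 from by
      rw [nat_card_alternatingGroup, Nat.card_eq_fintype_card, Fintype.card_fin]; rfl] at this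
  have hcardU : Nat.card U ∣ 120 := by
    rw [← Subgroup.card_mul_index ρ.ker, Subgroup.index_ker]
    exact mul_dvd_mul hK hR
  -- an abelian subgroup of order eight
  set vu : U := ⟨v, hvU⟩ with hvu
  set v' := y * v * y⁻¹ with hv'
  have hv'U : v' ∈ U := mul_mem (mul_mem hyU hvU) (inv_mem hyU)
  set P : Subgroup U := closure {⟨z, hzU⟩, vu, ⟨v', hv'U⟩} with hP
  have hvv' : v * v' = v' * v := hv.rel.trans (four_comm hv).symm
  have v'z : v' * z = z * v' := conj_comm vz Y.yz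
  have hcom : ∀ a ∈ ({⟨z, hzU⟩, vu, ⟨v', hv'U⟩} : Set U),
      ∀ b ∈ ({⟨z, hzU⟩, vu, ⟨v', hv'U⟩} : Set U), a * b = b * a := by
    rintro a (rfl | rfl | rfl) b (rfl | rfl | rfl) <;> apply Subtype.ext
    exacts [rfl, vz.symm, v'z.symm, vz, rfl, hvv', v'z, hvv'.symm, rfl]
  haveI hPc : IsMulCommutative P := isMulCommutative_closure hcom
  have hP2 : IsPGroup 2 P := by
    intro a
    refine ⟨1, Subtype.ext ?_⟩
    obtain ⟨a, ha⟩ := a
    show a ^ 2 = 1
    induction ha using closure_induction with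
    | mem x hx =>
      apply Subtype.ext
      rcases hx with rfl | rfl | rfl
      · exact (pow_two z).trans hzz
      · exact (pow_two v).trans hv.sq
      · exact (pow_two v').trans ((four_rot Y.y3 hv).1.sq)
    | one => exact one_pow 2
    | mul a b ha hb iha ihb =>
      have hab : Commute a b := congrArg Subtype.val
        (hPc.is_comm.comm (⟨a, ha⟩ : P) ⟨b, hb⟩)
      rw [hab.mul_pow, iha, ihb, one_mul]
    | inv a ha iha => rw [inv_pow, iha, inv_one]
  have hP8 : 8 ≤ Nat.card P := by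
    -- four proper steps
    let inj : Fin 2 × Fin 2 × Fin 2 → P := fun i =>
      (⟨⟨z, hzU⟩, subset_closure (by simp)⟩ : P) ^ (i.1 : ℕ) *
        (⟨vu, subset_closure (by simp)⟩ : P) ^ (i.2.1 : ℕ) *
        (⟨⟨v', hv'U⟩, subset_closure (by simp)⟩ : P) ^ (i.2.2 : ℕ)
    suffices h : Function.Injective inj by
      simpa using Nat.card_le_card_of_injective inj h
    have nvz : ∀ {a : G}, y * a ≠ a * y → a ≠ 1 ∧ a ≠ z := fun h =>
      ⟨fun h' => h (by rw [h']; simp), fun h' => h (by rw [h']; exact Y.yz)⟩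
    obtain ⟨hr1, e2⟩ := four_rot Y.y3 hv
    obtain ⟨hr2, -⟩ := four_rot Y.y3 hr1
    rw [e2] at hr2
    obtain ⟨a1, a2⟩ := nvz hv.move
    obtain ⟨b1, b2⟩ := nvz hr1.move
    obtain ⟨c1, c2⟩ := nvz hr2.move
    have hcv : v * v' = y⁻¹ * v * y := hv.rel
    have hzv : ∀ {a : G}, a ≠ z → a * a = 1 → z * a ≠ 1 := fun {a} h ha h' => h (by
      rw [← inv_eq_of_mul_eq_one_right ha, ← eq_inv_of_mul_eq_one_left h'])
    -- the coordinates of the identity
    have triv : ∀ i j k : Fin 2, z ^ (i : ℕ) * v ^ (j : ℕ) * v' ^ (k : ℕ) = 1 →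
        i = 0 ∧ j = 0 ∧ k = 0 := by
      intro i j k h
      fin_cases i <;> fin_cases j <;> fin_cases k <;> simp at h ⊢
      exacts [b1 h, a1 h, c1 (hcv ▸ h), Y.H.h.ne_one h, hzv b2 hr1.sq h, hzv a2 hv.sq h,
        hzv c2 hr2.sq (hcv ▸ (mul_assoc z v v' ▸ h))]
    intro i j hij
    have hh : z ^ (i.1 : ℕ) * v ^ (i.2.1 : ℕ) * v' ^ (i.2.2 : ℕ) =
        z ^ (j.1 : ℕ) * v ^ (j.2.1 : ℕ) * v' ^ (j.2.2 : ℕ) :=
      congrArg (fun a : P => ((a : U) : G)) hij
    have key : ∀ {a : G} (p p' : Fin 2), a * a = 1 →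
        a ^ (p : ℕ) * a ^ (p' : ℕ) = a ^ ((p + p' : Fin 2) : ℕ) := by
      intro a p p' ha
      fin_cases p <;> fin_cases p' <;> simp [ha]
    have hh2 : z ^ ((i.1 + j.1 : Fin 2) : ℕ) * v ^ ((i.2.1 + j.2.1 : Fin 2) : ℕ) *
        v' ^ ((i.2.2 + j.2.2 : Fin 2) : ℕ) = 1 := by
      rw [← key _ _ hzz, ← key _ _ hv.sq, ← key _ _ hr1.sq]
      have c1' : ∀ a b : ℕ, Commute (z ^ a) (v ^ b) := fun a b =>
        (show Commute z v from vz.symm).pow_pow a b
      have c2' : ∀ a b : ℕ, Commute (z ^ a) (v' ^ b) := fun a b =>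
        (show Commute z v' from v'z.symm).pow_pow a b
      have c3' : ∀ a b : ℕ, Commute (v ^ a) (v' ^ b) := fun a b =>
        (show Commute v v' from hvv').pow_pow a b
      calc z ^ (i.1 : ℕ) * z ^ (j.1 : ℕ) * (v ^ (i.2.1 : ℕ) * v ^ (j.2.1 : ℕ)) *
            (v' ^ (i.2.2 : ℕ) * v' ^ (j.2.2 : ℕ))
          = (z ^ (i.1 : ℕ) * v ^ (i.2.1 : ℕ)) * (z ^ (j.1 : ℕ) * v ^ (j.2.1 : ℕ)) *
            (v' ^ (i.2.2 : ℕ) * v' ^ (j.2.2 : ℕ)) := by
            rw [(c1' _ _).mul_mul_mul_comm]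
        _ = (z ^ (i.1 : ℕ) * v ^ (i.2.1 : ℕ) * v' ^ (i.2.2 : ℕ)) *
            (z ^ (j.1 : ℕ) * v ^ (j.2.1 : ℕ) * v' ^ (j.2.2 : ℕ)) := by
            rw [((c2' _ _).mul_left (c3' _ _)).mul_mul_mul_comm]
        _ = 1 := by
            rw [hh]
            calc _ = ((z ^ (j.1 : ℕ) * z ^ (j.1 : ℕ)) * (v ^ (j.2.1 : ℕ) * v ^ (j.2.1 : ℕ))) *
                  (v' ^ (j.2.2 : ℕ) * v' ^ (j.2.2 : ℕ)) := by
                  rw [(c1' _ _).mul_mul_mul_comm, ((c2' _ _).mul_left (c3' _ _)).mul_mul_mul_comm]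
              _ = 1 := by
                  rw [key _ _ hzz, key _ _ hv.sq, key _ _ hr1.sq]
                  simp only [show ∀ p : Fin 2, p + p = 0 from by decide, Fin.val_zero, pow_zero,
                    one_mul]
    obtain ⟨d1, d2, d3⟩ := triv _ _ _ hh2
    have two : ∀ p p' : Fin 2, p + p' = 0 → p = p' := by decide
    exact Prod.ext (two _ _ d1) (Prod.ext (two _ _ d2) (two _ _ d3))
  obtain ⟨n, hn⟩ := hP2.exists_card_eq
  have hidx : Odd P.index := by
    have h1' := Subgroup.card_mul_index P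
    rw [hn] at h1' hP8
    obtain ⟨k, hk⟩ := hcardU
    have hn3 : 3 ≤ n := by
      by_contra hlt
      interval_cases n <;> omega
    rw [← h1'] at hk
    by_contra hev
    rw [Nat.not_odd_iff_even] at hev
    obtain ⟨r, hr⟩ := hev
    have : 2 ^ 4 ∣ 120 := by
      refine ⟨2 ^ (n - 3) * r * k, ?_⟩
      rw [hk, hr, show n = 3 + (n - 3) by omega, pow_add, Nat.add_sub_cancel_left]
      ring
    norm_num at this
  letI : CommGroup P := { (inferInstance : Group P) with mul_comm := hPc.is_comm.comm }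
  have key : ∀ (k : ℕ) (g₀ : U), g₀⁻¹ * (⟨z, hzU⟩ : U) ^ k * g₀ ∈ P →
      g₀⁻¹ * (⟨z, hzU⟩ : U) ^ k * g₀ = (⟨z, hzU⟩ : U) ^ k := by
    intro k g₀ _
    have : Commute g₀ ⟨z, hzU⟩ := Subtype.ext (uz _ g₀.2)
    rw [(this.pow_right k).inv_left.eq, inv_mul_cancel_right]
  have ht' := MonoidHom.transfer_eq_pow (MonoidHom.id P) (⟨z, hzU⟩ : U) key
  have h1' : MonoidHom.transfer (MonoidHom.id P) (⟨z, hzU⟩ : U) = 1 :=
    Abelianization.commutator_subset_ker _ zD
  rw [h1', MonoidHom.id_apply] at ht'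
  have hz1 : z ^ P.index = 1 := (congrArg (fun a : P => ((a : U) : G)) ht').symm
  obtain ⟨r, hr⟩ := hidx
  rw [hr, pow_succ, pow_mul, pow_two, hzz, one_pow, one_mul] at hz1
  exact Y.H.h.ne_one hz1

end Cfsg.Agent.SuzPresFive76
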