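import Mathlib
import Cfsg.Agent.Lib.SuzY42Quotient
import Cfsg.Agent.S5390
import Cfsg.Agent.Lib.U43Type38Facts22
import Cfsg.Agent.Lib.LargeExtraspecialAct

/-!
In a group of Suzuki sporadic type: the order of the centraliser of the element `y` of order three
of `SuzY42Setup.Yd`, and the existence of such an element.
-/

set_option autoImplicit false
set_option linter.unusedSectionVars false

namespace Cfsg.Agent.SuzYdExists2

open Subgroup Cfsg.Agent.LargeExtraspecial Cfsg.Agent.SuzTypeCoord62 Cfsg.Agent.SuzY42Setup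
  Cfsg.Agent.SuzY42Quotient

variable {G : Type*} [Group G] [Finite G] {Q : Subgroup G} {z y : G}

theorem card_CY (Y : Yd Q z y) : Nat.card (SuzY42Quotient.CY y) = 9797760 := by
  obtain ⟨H₁, H₂, Qc, hK', hn₁, hn₂, ⟨e₁⟩, ⟨e₂⟩, hmeet, hQn, hQeq, hFc, hnwc', hH, hQQg⟩ :=
    SuzY42Quotient.type_data Y
  haveI := hQn
  haveI : Fact (Nat.Prime 3) := ⟨Nat.prime_three⟩
  letI : Fintype (GaloisField 3 2) := Fintype.ofFinite _
  have hK : Fintype.card (GaloisField 3 2) = 9 := by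
    rw [← Nat.card_eq_fintype_card, GaloisField.card 3 2 (by norm_num)]; norm_num
  obtain ⟨e⟩ := Cfsg.Agent.S5390.result (zb Y) (orderOf_zb Y) H₁ H₂ hK' hn₁ hn₂ e₁ e₂ hmeet Qc
    hQeq hFc hnwc' hH hQQg (GaloisField 3 2) hK
  have hq : Nat.card (CY y ⧸ N y) = 3265920 :=
    U43Type38Facts22.card_eq (by rw [hK]; rfl) e
  have hN : Nat.card (N y) = 3 := by
    have hle : zpowers y ≤ CY y := by
      rw [zpowers_le, mem_CY]
    rw [Nat.card_congr (subgroupOfEquivOfLe hle).toEquiv, Nat.card_zpowers,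
      orderOf_eq_prime Y.y3 Y.y1]
  rw [card_eq_card_quotient_mul_card_subgroup (N y), hq, hN]

open SuzTypeModel62 SuzTypeRadical62
open scoped commutatorElement

/-- The three cycle `(0 1 2)`. -/
def cyc : Equiv.Perm (Fin 5) := Equiv.swap 0 1 * Equiv.swap 1 2

/-- The image of `[Q, y]` in the coordinates. -/
def comImage : Finset M4 := {0, pt 0 + pt 1, pt 1 + pt 2, pt 0 + pt 2}

theorem comImage_add : ∀ x ∈ comImage, ∀ x' ∈ comImage, x + x' ∈ comImage := by decide +kernel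

theorem comImage_card : comImage.card = 4 := by decide +kernel

theorem act_cyc : ∀ x, x + act cyc x ∈ comImage := by decide +kernel

theorem comImage_f : f ((pt 0 + pt 1) + (pt 1 + pt 2)) + f (pt 0 + pt 1) + f (pt 1 + pt 2) = 1 := by
  decide +kernel

theorem act_cyc_pow (x : M4) : ∀ n : ℕ, x + act (cyc ^ n) x ∈ comImage
  | 0 => by rw [pow_zero, act_one, add_self]; decide +kernel
  | n + 1 => by
    have h := comImage_add _ (act_cyc_pow x n) _ (act_cyc (act (cyc ^ n) x))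
    rw [← add_assoc, add_assoc x (act (cyc ^ n) x) (act (cyc ^ n) x), add_self, add_zero,
      ← act_mul, ← pow_succ'] at h
    exact h

theorem exists_y {t : G} {Q' : Subgroup G} {ν : G → M4} {d : G}
    {ρ : ↥(Sx z t) →* Equiv.Perm (Fin 5)} (D : Ctx Q Q' z t ν d ρ) :
    ∃ c : ↥(Sx z t), (c : G) ^ 3 = 1 ∧ (c : G) ≠ 1 ∧ ρ c = cyc := by
  obtain ⟨c, hc⟩ := D.exists_rho_eq (σ := cyc) (by decide)
  have hk : (c ^ 3 : ↥(Sx z t)) ∈ ρ.ker := by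
    rw [MonoidHom.mem_ker, map_pow, hc]; decide
  have h1 : ((⟨c ^ 3, hk⟩ : ρ.ker) : ρ.ker) ^ 1024 = 1 := by
    rw [← D.card_ker]; exact pow_card_eq_one'
  have h2 : (c ^ 3) ^ 1024 = 1 := congrArg Subtype.val h1
  have hρ : ρ (c ^ 1024) = cyc := by
    rw [map_pow, hc, show 1024 = 3 * 341 + 1 from rfl, pow_succ, pow_mul,
      show cyc ^ 3 = 1 by decide, one_pow, one_mul]
  refine ⟨c ^ 1024, ?_, fun e => ?_, hρ⟩
  · rw [← SubgroupClass.coe_pow, ← pow_mul, mul_comm, pow_mul, h2]; rfl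
  · have : c ^ 1024 = 1 := Subtype.ext e
    rw [this, map_one] at hρ
    revert hρ; decide

theorem exists_yd_of_ctx {t : G} {Q' : Subgroup G} {ν : G → M4} {d : G}
    {ρ : ↥(Sx z t) →* Equiv.Perm (Fin 5)} (D : Ctx Q Q' z t ν d ρ)
    (fus : ∃ g : G, g * z * g⁻¹ ∈ Q ∧ g * z * g⁻¹ ≠ z) : ∃ y, Yd Q z y := by
  have H := D.H
  have hgQ : t ∈ Q := D.sing.1
  have hgz : t ≠ z := D.sing.2.2.2
  obtain ⟨c, hy3, hy1, hρ⟩ := exists_y D
  obtain ⟨hyz, hyt⟩ := mem_Sx.mp c.2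
  set y := (c : G) with hy
  set A := zpowers y with hAdef
  have hodd : Odd (Nat.card A) := by
    haveI := Fact.mk Nat.prime_three
    rw [Nat.card_zpowers, orderOf_eq_prime hy3 hy1]; decide
  have hAz : ∀ a ∈ A, a * z = z * a := by
    rintro _ ⟨k, rfl⟩
    exact (Commute.zpow_left hyz k).eq
  have hAt : ∀ a ∈ A, a * t = t * a := by
    rintro _ ⟨k, rfl⟩
    exact (Commute.zpow_left hyt k).eq
  have hA : ∀ a ∈ A, ∀ x ∈ Q, a * x * a⁻¹ ∈ Q := fun a ha => H.h.norm a (hAz a ha)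
  have hE := H.h.toExt
  obtain ⟨d₀, hd₀, ed₀⟩ := LargeExtraspecialAct.partner_fixed hE hA hodd hgQ hAt D.sing.2.2.1 hgz
  set S : Subgroup G :=
    { carrier := {w | w ∈ Cx Q t ∧ ν w ∈ comImage}
      one_mem' := ⟨one_mem _, by rw [H.nu_one D.sing D.K]; decide +kernel⟩
      mul_mem' := fun ha hb =>
        ⟨mul_mem ha.1 hb.1, by rw [D.K.add _ ha.1 _ hb.1]; exact comImage_add _ ha.2 _ hb.2⟩
      inv_mem' := fun ha => ⟨inv_mem ha.1, by rw [H.nu_inv D.sing D.K ha.1]; exact ha.2⟩ } with hS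
  have hmemS : ∀ w, w ∈ S ↔ w ∈ Cx Q t ∧ ν w ∈ comImage := fun _ => Iff.rfl
  have hνz : ν z = 0 := (D.K.ker z (H.z_mem D.sing)).mpr (Or.inr (Or.inl rfl))
  have hcom : ∀ (n : ℕ) (a : G), a ∈ Cx Q t →
      a * y ^ n * a⁻¹ * (y ^ n)⁻¹ ∈ Cx Q t ∧
      ν (a * y ^ n * a⁻¹ * (y ^ n)⁻¹) = ν a + act (cyc ^ n) (ν a) := by
    intro n a ha
    have hc : ((c ^ n : ↥(Sx z t)) : G) = y ^ n := rfl
    have h1 := H.conj_Cx (c := y ^ n) (hc ▸ (c ^ n).2) (inv_mem ha)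
    have h2 := D.hρ (c ^ n) a⁻¹ (inv_mem ha)
    rw [hc, map_pow, hρ, H.nu_inv D.sing D.K ha] at h2
    have e : a * y ^ n * a⁻¹ * (y ^ n)⁻¹ = a * (y ^ n * a⁻¹ * (y ^ n)⁻¹) := by group
    rw [e]
    exact ⟨mul_mem ha h1, by rw [D.K.add _ ha _ h1, ← h2]⟩
  have hWS : ⁅Q, A⁆ ≤ S := by
    rw [Subgroup.commutator_le]
    intro q hq b hb
    obtain ⟨n, rfl⟩ : ∃ n : ℕ, y ^ n = b :=
      Submonoid.mem_powers_iff _ _ |>.mp ((mem_powers_iff_mem_zpowers).mpr hb)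
    have key : ∀ a ∈ Cx Q t, a * y ^ n * a⁻¹ * (y ^ n)⁻¹ ∈ S := fun a ha =>
      (hmemS _).mpr ⟨(hcom n a ha).1, by rw [(hcom n a ha).2]; exact act_cyc_pow _ n⟩
    rw [commutatorElement_def]
    by_cases hqt : q * t = t * q
    · exact key q (mem_Cx.mpr ⟨hq, hqt⟩)
    · have hdq : d₀ * q ∈ Cx Q t := mem_Cx.mpr ⟨Q.mul_mem hd₀.1 hq, mul_inv_eq_iff_eq_mul.mp
        (hE.mul_fix hd₀.1 ed₀ ((hE.not_comm_iff hgQ hq).mp hqt))⟩
      have hw := key _ hdq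
      have hdy : d₀ * y ^ n * d₀⁻¹ = y ^ n := by
        rw [← mem_centralizer_iff.mp hd₀.2 _ (A.pow_mem (mem_zpowers y) n), mul_inv_cancel_right]
      have e : q * y ^ n * q⁻¹ * (y ^ n)⁻¹ =
          d₀⁻¹ * (d₀ * q * y ^ n * (d₀ * q)⁻¹ * (y ^ n)⁻¹) * d₀⁻¹⁻¹ := by
        calc q * y ^ n * q⁻¹ * (y ^ n)⁻¹
            = d₀⁻¹ * (d₀ * q * y ^ n * (d₀ * q)⁻¹ * (d₀ * y ^ n * d₀⁻¹)⁻¹) * d₀⁻¹⁻¹ := by group
          _ = _ := by rw [hdy]
      rw [e]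
      rcases hE.conj _ (Q.inv_mem hd₀.1) _ ((mem_Cx.mp hw.1).1) with e' | e'
      · rw [e']; exact hw
      · rw [e']
        refine mul_mem ((hmemS z).mpr ⟨H.z_mem D.sing, ?_⟩) hw
        rw [hνz]; decide +kernel
  have hcW : ∀ w ∈ ⁅Q, A⁆, d₀ * w = w * d₀ := fun w hw =>
    LargeExtraspecialAct.commute_commutator hE hA hd₀ hw
  have htW : t ∉ ⁅Q, A⁆ := fun h => by
    exact (hE.not_comm_iff hgQ hd₀.1).mpr ed₀ (hcW t h)
  have hztW : z * t ∉ ⁅Q, A⁆ := fun h => (hE.not_comm_iff hgQ hd₀.1).mpr ed₀ <|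
    mul_left_cancel (a := z) (calc
      z * (d₀ * t) = d₀ * (z * t) := by rw [← mul_assoc, ← hE.comm d₀ hd₀.1, mul_assoc]
      _ = z * t * d₀ := hcW _ h
      _ = z * (t * d₀) := mul_assoc _ _ _)
  obtain ⟨a₀, ha₀, e₀⟩ := D.K.surj (pt 0)
  obtain ⟨a₁, ha₁, e₁⟩ := D.K.surj (pt 1)
  have hgen : ∀ a ∈ Cx Q t, a * y ^ 1 * a⁻¹ * (y ^ 1)⁻¹ ∈ ⁅Q, A⁆ := fun a ha => by
    rw [← commutatorElement_def, pow_one]
    exact commutator_mem_commutator (mem_Cx.mp ha).1 (mem_zpowers y)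
  set w₁ := a₀ * y ^ 1 * a₀⁻¹ * (y ^ 1)⁻¹ with hw₁
  set w₂ := a₁ * y ^ 1 * a₁⁻¹ * (y ^ 1)⁻¹ with hw₂
  have hν₁ : ν w₁ = pt 0 + pt 1 := by
    rw [hw₁, (hcom 1 a₀ ha₀).2, e₀, pow_one, act_pt]; rfl
  have hν₂ : ν w₂ = pt 1 + pt 2 := by
    rw [hw₂, (hcom 1 a₁ ha₁).2, e₁, pow_one, act_pt]; rfl
  have hconj : w₁ * w₂ * w₁⁻¹ = z * w₂ := by
    rw [H.conj_eq D.sing D.K (hcom 1 a₀ ha₀).1 (hcom 1 a₁ ha₁).1, hν₁, hν₂, comImage_f, zp_one]
  have hzW : z ∈ ⁅Q, A⁆ := by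
    have := mul_mem (mul_mem (mul_mem (hgen a₀ ha₀) (hgen a₁ ha₁)) (inv_mem (hgen a₀ ha₀)))
      (inv_mem (hgen a₁ ha₁))
    rwa [← hw₁, ← hw₂, hconj, mul_inv_cancel_right] at this
  refine ⟨y, H, fus, hy3, hy1, hyz, ?_,
    ⟨w₁, hgen a₀ ha₀, w₂, hgen a₁ ha₁, fun e => hE.z_mul_ne w₂ (hconj.symm.trans
      (by rw [e, mul_inv_cancel_right]))⟩⟩
  let φ : ↥⁅Q, A⁆ →* Multiplicative M4 :=
    MonoidHom.mk' (fun w => Multiplicative.ofAdd (ν (w : G))) fun a b => by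
      rw [coe_mul, D.K.add _ ((hmemS _).mp (hWS a.2)).1 _ ((hmemS _).mp (hWS b.2)).1, ofAdd_add]
  have hφ : ∀ w : ↥⁅Q, A⁆, (φ w).toAdd = ν (w : G) := fun _ => rfl
  have hrange : Nat.card φ.range = 4 := by
    refine Eq.trans ?_ comImage_card
    rw [← Fintype.card_coe, ← Nat.card_eq_fintype_card]
    refine Nat.card_congr (Equiv.subtypeEquiv Multiplicative.toAdd fun x => ⟨?_, fun hx => ?_⟩)
    · rintro ⟨w, rfl⟩
      rw [hφ]; exact ((hmemS _).mp (hWS w.2)).2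
    · simp only [comImage, Finset.mem_insert, Finset.mem_singleton] at hx
      rcases hx with e | e | e | e
      · exact ⟨1, Multiplicative.toAdd.injective (by rw [e, map_one]; rfl)⟩
      · exact ⟨⟨w₁, hgen a₀ ha₀⟩, Multiplicative.toAdd.injective (by rw [e, hφ]; exact hν₁)⟩
      · exact ⟨⟨w₂, hgen a₁ ha₁⟩, Multiplicative.toAdd.injective (by rw [e, hφ]; exact hν₂)⟩
      · refine ⟨⟨w₁, hgen a₀ ha₀⟩ * ⟨w₂, hgen a₁ ha₁⟩, Multiplicative.toAdd.injective ?_⟩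
        rw [map_mul, toAdd_mul, hφ, hφ, e, hν₁, hν₂]; decide +kernel
  have hker : Nat.card φ.ker = 2 := by
    rw [← SetLike.coe_sort_coe, Nat.card_coe_set_eq,
      ← Set.ncard_image_of_injective _ Subtype.val_injective]
    rw [show Subtype.val '' (φ.ker : Set ↥⁅Q, A⁆) = ({1, z} : Set G) from ?_]
    · exact Set.ncard_pair hE.ne_one.symm
    ext x
    simp only [Set.mem_image, SetLike.mem_coe, MonoidHom.mem_ker, Set.mem_insert_iff,
      Set.mem_singleton_iff]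
    constructor
    · rintro ⟨w, hw, rfl⟩
      have h0 : ν (w : G) = 0 := by rw [← hφ, hw]; rfl
      rcases (D.K.ker _ ((hmemS _).mp (hWS w.2)).1).mp h0 with e | e | e | e
      · exact Or.inl e
      · exact Or.inr e
      · exact absurd (e ▸ w.2) htW
      · exact absurd (e ▸ w.2) hztW
    · rintro (e | e)
      · exact ⟨1, map_one φ, e.symm⟩
      · exact ⟨⟨z, hzW⟩, Multiplicative.toAdd.injective (by rw [hφ]; exact hνz), e.symm⟩
  rw [← Subgroup.card_mul_index φ.ker, Subgroup.index_ker, hker, hrange]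

/-- An element of order three whose commutator with `Q` is quaternion of order eight. -/
theorem exists_yd (H : Hyp Q z) (fus : ∃ g : G, g * z * g⁻¹ ∈ Q ∧ g * z * g⁻¹ ≠ z) :
    ∃ y, Yd Q z y := by
  obtain ⟨g, hgQ, hgz⟩ := fus
  obtain ⟨ν, d, ρ, D⟩ := exists_ctx H hgQ hgz
  exact exists_yd_of_ctx D ⟨g, hgQ, hgz⟩

end Cfsg.Agent.SuzYdExists2
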