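import Mathlib
import Cfsg.Agent.Lib.SuzPresData50
import Cfsg.Agent.Lib.SuzPresD84
import Cfsg.Agent.Lib.SuzPresFive76
import Cfsg.Agent.Lib.SuzPresCY2
import Cfsg.Agent.Lib.SuzYdExists2
import Cfsg.Agent.Lib.SuzLRecog29

/-!
# The local data for the presentation of the Suzuki group
-/

set_option autoImplicit false
set_option linter.style.haveILetI false

namespace Cfsg.Agent.SuzPresExistsData29

open Subgroup Cfsg.Agent.LargeExtraspecial Cfsg.Agent.SuzTypeCoord62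
open Cfsg.Agent.SuzVLocal48 Cfsg.Agent.FieldFour15

universe u

variable {G : Type u} [Group G] [Finite G] {Q : Subgroup G} {z y t : G}

/-- Elements of the `2`-part of `C(z, t, y)` fixing a second singular element lie in `⟨f, g⟩`. -/
theorem mem_fg (Y : SuzY42Setup.Yd Q z y) {S : Subgroup G} {h : L34Syl83.Chart K4 S}
    (Dt : SuzLChart29.Data Q z t y S h) {t₁ f g : G}
    (hf : f ∈ S) (hg : g ∈ S) (hff : f * f = 1) (hgg : g * g = 1) (hfg : (f * g) * (f * g) = z)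
    (ht₁f : f * t₁ = t₁ * f) (ht₁g : g * t₁ = t₁ * g) (hne : t₁ * t ≠ t * t₁)
    (hz1 : z * t₁ = t₁ * z) {s : G} (hs : s ∈ S) (hst : s * t₁ = t₁ * s) :
    s ∈ closure ({f, g} : Set G) := by
  obtain ⟨af, bf, cf, ef⟩ := (h.mem f).1 hf
  obtain ⟨ag, bg, cg, eg⟩ := (h.mem g).1 hg
  have hnc : f * g ≠ g * f := SuzPresD84.not_comm Y hff hgg hfg
  have hdet : af * bg ≠ ag * bf := fun e => hnc (by
    rw [← ef, ← eg]; exact (h.commute_iff _ _ _ _ _ _).2 e)
  -- commutators with elements of `S` fixing `t₁` are `1` or `z`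
  have key : ∀ x w : G, x ∈ S → w ∈ S → x * t₁ = t₁ * x → w * t₁ = t₁ * w →
      x * w = w * x ∨ x * w = z * (w * x) := by
    intro x w hx hw hxt hwt
    obtain ⟨p, q, r, ex⟩ := (h.mem x).1 hx
    obtain ⟨p', q', r', ew⟩ := (h.mem w).1 hw
    have e : x * w * x⁻¹ = h.μ 0 0 (p * q' + p' * q) * w := by
      rw [← ex, ← ew, h.conj, h.mul]
      congr 1 <;> ring
    set ζ := h.μ 0 0 (p * q' + p' * q) with hζ
    have hζt : ζ * t₁ = t₁ * ζ := by
      have hh : Commute (x * w * x⁻¹ * w⁻¹) t₁ :=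
        (((show Commute x t₁ from hxt).mul_left (show Commute w t₁ from hwt)).mul_left
          (show Commute x t₁ from hxt).inv_left).mul_left (show Commute w t₁ from hwt).inv_left
      rwa [e, mul_inv_cancel_right] at hh
    have hζU : InU z t ζ := (Dt.Z_iff ζ).1 (h.mem_Z.2 ⟨_, rfl⟩)
    have hxw : x * w = ζ * (w * x) := by
      rw [← mul_assoc, ← e, inv_mul_cancel_right]
    rcases hζU with e1 | e1 | e1 | e1
    · exact Or.inl (by rw [hxw, e1, one_mul])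
    · exact Or.inr (by rw [hxw, e1])
    · exact absurd (by rw [← e1]; exact hζt.symm) hne
    · refine absurd ?_ hne
      rw [e1] at hζt
      have h' := ((show Commute z t₁ from hz1).mul_left (show Commute (z * t) t₁ from hζt)).eq
      rw [← mul_assoc z z t, Y.H.h.zz, one_mul] at h'
      exact h'.symm
  have hzS : z ∈ S := h.Z_le Dt.mem_z
  have hcz : ∀ w ∈ S, z * w = w * z := fun w hw => h.Z_comm Dt.mem_z hw
  have hfgz : f * g = z * (g * f) := (key f g hf hg ht₁f ht₁g).resolve_left hnc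
  have hgfz : g * f = z * (f * g) := by rw [hfgz, ← mul_assoc, Y.H.h.zz, one_mul]
  -- adjust `s` to centralise `f` and `g`
  set K := closure ({f, g} : Set G) with hK
  have hfK : f ∈ K := subset_closure (by simp)
  have hgK : g ∈ K := subset_closure (by simp)
  have hzK : z ∈ K := hfg ▸ mul_mem (mul_mem hfK hgK) (mul_mem hfK hgK)
  have fix : ∀ (x a b : G), x ∈ S → x * t₁ = t₁ * x → a ∈ S → b ∈ S → a * t₁ = t₁ * a →
      b * t₁ = t₁ * b → b ∈ K → a * b = z * (b * a) →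
      ∃ x' ∈ S, x' * t₁ = t₁ * x' ∧ x' * a = a * x' ∧ (x' ∈ K → x ∈ K) ∧
        (x * b = b * x → x' * b = b * x') := by
    intro x a b hx hxt ha hb hat hbt hbK hab
    rcases key x a hx ha hxt hat with e | e
    · exact ⟨x, hx, hxt, e, id, id⟩
    · refine ⟨x * b, mul_mem hx hb, ((show Commute x t₁ from hxt).mul_left hbt).eq, ?_,
        fun h' => by simpa using mul_mem h' (inv_mem hbK),
        fun h' => ((show Commute x b from h').mul_left (Commute.refl b)).eq⟩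
      have hba : b * a = z * (a * b) := by rw [hab, ← mul_assoc, Y.H.h.zz, one_mul]
      calc x * b * a = x * (b * a) := mul_assoc ..
        _ = x * (z * (a * b)) := by rw [hba]
        _ = z * (x * (a * b)) := by rw [← mul_assoc, ← hcz x hx, mul_assoc]
        _ = z * (z * (a * x) * b) := by rw [← mul_assoc x a b, e]
        _ = z * z * (a * (x * b)) := by simp only [mul_assoc]
        _ = a * (x * b) := by rw [Y.H.h.zz, one_mul]
  obtain ⟨s₁, hs₁, hs₁t, hs₁f, hK1, -⟩ := fix s f g hs hst hf hg ht₁f ht₁g hgK hfgz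
  obtain ⟨s₂, hs₂, hs₂t, hs₂g, hK2, hcf⟩ := fix s₁ g f hs₁ hs₁t hg hf ht₁g ht₁f hfK hgfz
  refine hK1 (hK2 ?_)
  have hs₂f : s₂ * f = f * s₂ := hcf hs₁f
  obtain ⟨p, q, r, es⟩ := (h.mem s₂).1 hs₂
  rw [← es, ← ef] at hs₂f
  rw [← es, ← eg] at hs₂g
  have c1 := (h.commute_iff _ _ _ _ _ _).1 hs₂f
  have c2 := (h.commute_iff _ _ _ _ _ _).1 hs₂g
  have hp : p = 0 := by
    by_contra hp
    exact hdet (mul_left_cancel₀ hp (by linear_combination af * c2 - ag * c1))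
  have hq : q = 0 := by
    by_contra hq
    exact hdet (mul_left_cancel₀ hq (by linear_combination bf * c2 - bg * c1))
  have hU : InU z t s₂ := (Dt.Z_iff s₂).1 (h.mem_Z.2 ⟨r, by rw [← es, hp, hq]⟩)
  rcases hU with e1 | e1 | e1 | e1
  · rw [e1]; exact one_mem K
  · rw [e1]; exact hzK
  · exact absurd (by rw [← e1]; exact hs₂t.symm) hne
  · refine absurd ?_ hne
    rw [e1] at hs₂t
    have h' := ((show Commute z t₁ from hz1).mul_left (show Commute (z * t) t₁ from hs₂t)).eq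
    rw [← mul_assoc z z t, Y.H.h.zz, one_mul] at h'
    exact h'.symm

theorem four_of_cand {V : Subgroup G} (hy3 : y ^ 3 = 1) (C : Cand z t y V) {v : G} (hv : v ∈ V)
    (hv1 : v ≠ 1) : SuzPresFrame76.Four y v := by
  refine ⟨C.sq v hv, ?_, fun e => hv1 (C.fpf v hv e)⟩
  have h2 : y * (y * v * y⁻¹) * y⁻¹ ∈ V := C.norm _ (C.norm v hv)
  have ho := mul_eq_one_iff_eq_inv.1 (C.orbit hy3 hv)
  rw [inv_eq_of_mul_eq_one_right (C.sq _ h2)] at ho
  have hyy : y * y = y⁻¹ := (inv_eq_of_mul_eq_one_right (by rw [← hy3, pow_three])).symm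
  calc v * (y * v * y⁻¹) = y * (y * v * y⁻¹) * y⁻¹ := ho
    _ = (y * y) * v * (y * y)⁻¹ := by group
    _ = y⁻¹ * v * y := by rw [hyy, inv_inv]

/-- The local data exists. -/
theorem exists_data (Y : SuzY42Setup.Yd Q z y) :
    ∃ v v₁ f g c, SuzPresData50.Data y z v v₁ f g c := by
  classical
  obtain ⟨t, ht, hyt⟩ := Y.exists_sing
  obtain ⟨V, hV⟩ := exists_cand Y ht hyt
  obtain ⟨f, g, hfC, hgC, hfy, hgy, hff, hgg, hfg⟩ := SuzPresD84.exists_fg Y ht hyt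
  obtain ⟨hfQ, hft⟩ := mem_Cx.1 hfC
  obtain ⟨hgQ, hgt⟩ := mem_Cx.1 hgC
  obtain ⟨t₁, ht₁, hyt₁, ht₁f, ht₁g, hne⟩ :=
    SuzPresD84.exists_sing_off Y ht hyt hfC hgC hfy hgy hff hgg hfg
  have hzQ : ∀ {a : G}, a ∈ Q → a * z = z * a := fun ha => Y.H.h.comm _ ha
  have hpow : ∀ {a : G}, a * a = 1 → a ^ 8 = 1 := fun {a} ha => by
    rw [show (8 : ℕ) = 2 * 4 from rfl, pow_mul, pow_two, ha, one_pow]
  obtain ⟨c, hcz, hcy, hct⟩ := Y.trans_sing ht hyt ht₁ hyt₁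
  have hV₁ : Cand z t₁ y (V.map (MulAut.conj c).toMonoidHom) := by
    refine SuzLRecog29.cand_map hV hcy fun w => ?_
    rw [mem_Sx, mem_Sx, ← hct]
    have hcz' : Commute c z := hcz
    constructor
    · rintro ⟨h1, h2⟩
      refine ⟨((hcz'.inv_left.mul_left (show Commute w z from h1)).mul_left hcz').eq, ?_⟩
      calc c⁻¹ * w * c * t = c⁻¹ * (w * (c * t * c⁻¹)) * c := by group
        _ = t * (c⁻¹ * w * c) := by rw [h2]; group
    · rintro ⟨h1, h2⟩
      refine ⟨?_, ?_⟩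
      · have := ((hcz'.mul_left (show Commute (c⁻¹ * w * c) z from h1)).mul_left hcz'.inv_left).eq
        simpa [mul_assoc] using this
      · calc w * (c * t * c⁻¹) = c * (c⁻¹ * w * c * t) * c⁻¹ := by group
          _ = c * t * c⁻¹ * w := by rw [h2]; group
  obtain ⟨v, hv, hv1⟩ : ∃ v ∈ V, v ≠ 1 := by
    haveI : Nontrivial V := Finite.one_lt_card_iff_nontrivial.1 (by rw [hV.card]; norm_num)
    obtain ⟨⟨v, hv⟩, hne'⟩ := exists_ne (1 : V)
    exact ⟨v, hv, fun e => hne' (Subtype.ext e)⟩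
  set v₁ := c * v * c⁻¹ with hv₁d
  have hv₁ : v₁ ∈ V.map (MulAut.conj c).toMonoidHom := ⟨v, hv, rfl⟩
  have hv₁1 : v₁ ≠ 1 := fun e => hv1 (conj_eq_one_iff.1 e)
  set V₁ := V.map (MulAut.conj c).toMonoidHom with hV₁d
  have four := four_of_cand Y.y3 hV hv hv1
  have four₁ := four_of_cand Y.y3 hV₁ hv₁ hv₁1
  have fcom : ∀ w ∈ V, f * w = w * f := hV.S_comm f (mem_Sx.2 ⟨hzQ hfQ, hft⟩) hfy.symm (hpow hff)
  have gcom : ∀ w ∈ V, g * w = w * g := hV.S_comm g (mem_Sx.2 ⟨hzQ hgQ, hgt⟩) hgy.symm (hpow hgg)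
  have fcom₁ : ∀ w ∈ V₁, f * w = w * f :=
    hV₁.S_comm f (mem_Sx.2 ⟨hzQ hfQ, ht₁f.symm⟩) hfy.symm (hpow hff)
  have gcom₁ : ∀ w ∈ V₁, g * w = w * g :=
    hV₁.S_comm g (mem_Sx.2 ⟨hzQ hgQ, ht₁g.symm⟩) hgy.symm (hpow hgg)
  obtain ⟨vz, vt⟩ := mem_Sx.1 (hV.le hv)
  obtain ⟨wz, wt₁⟩ := mem_Sx.1 (hV₁.le hv₁)
  have F : SuzPresFrame76.Fr Q z y t t₁ f g :=
    ⟨ht.1, hyt, ht.2.1, ht₁.1, hyt₁, ht₁.2.1, hfQ, hfy, hff, hgQ, hgy, hgg, hfg, hft, hgt,
      ht₁f.symm, ht₁g.symm, hne⟩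
  have notQ : ∀ {x : G} {t' : G} {W : Subgroup G}, Sing Q z t' → y * t' = t' * y →
      Cand z t' y W → x ∈ W → x ≠ 1 → x ∉ Q := by
    intro x t' W h1 h2 h3 hx hx1 hxQ
    exact hx1 (Subgroup.mem_bot.1 (h3.meet_Q Y h1 h2 ▸ Subgroup.mem_inf.2 ⟨hx, hxQ⟩))
  have vt₁ : v * t₁ ≠ t₁ * v := fun e => notQ ht hyt hV hv hv1
    (SuzPresFrame76.four_mem_Q Y F four vz vt e (fcom v hv).symm (gcom v hv).symm)
  have wt : v₁ * t ≠ t * v₁ := fun e => notQ ht₁ hyt₁ hV₁ hv₁ hv₁1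
    (SuzPresFrame76.four_mem_Q Y F four₁ wz e wt₁ (fcom₁ v₁ hv₁).symm (gcom₁ v₁ hv₁).symm)
  have hLv : SuzLRecog29.Lsub V y = SuzPresData50.Lv v y := SuzLRecog29.Lsub_eq hV hv hv1
  obtain ⟨-, -, F0, i1, i2, h0, ⟨e⟩⟩ := SuzLRecog29.exists_iso Y ht hyt hV
  have eqz : ∀ {a : G}, Sing Q z a → ¬ SuzY42Quat.Eqz z a 1 := by
    rintro a ha (e | e)
    · exact ha.2.2.1 e
    · exact ha.2.2.2 (by rw [e, mul_one])
  refine ⟨v, v₁, f, g, t, {
    y3 := Y.y3
    y1 := Y.y1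
    card_cy := SuzPresCY2.CY_eq y ▸ SuzYdExists2.card_CY Y
    card_cyz := by rw [inf_comm]; exact Y.card_Cz
    perfect := SuzPresCY2.perfect Y
    normal_cy := SuzPresCY2.normal_cy Y
    v2 := hV.sq v hv
    vy := four.move
    vfour := four.rel
    z2 := Y.H.h.zz
    z1 := Y.H.h.ne_one
    f2 := hff
    g2 := hgg
    c2 := ht.2.1
    fg := hfg
    cf := hft.symm
    cg := hgt.symm
    c1 := ht.2.2.1
    cne := ht.2.2.2
    f_mem := ⟨mem_centralizer_singleton_iff.2 (fcom v hv), mem_centralizer_singleton_iff.2 hfy.symm⟩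
    g_mem := ⟨mem_centralizer_singleton_iff.2 (gcom v hv), mem_centralizer_singleton_iff.2 hgy.symm⟩
    c_mem := ⟨mem_centralizer_singleton_iff.2 vt.symm, mem_centralizer_singleton_iff.2 hyt.symm⟩
    iso := ⟨F0, i1, i2, h0, ⟨(MulEquiv.subgroupCongr hLv.symm).trans e⟩⟩
    conj := ⟨c, hcy, rfl⟩
    v1f := (fcom₁ v₁ hv₁).symm
    v1g := (gcom₁ v₁ hv₁).symm
    v1c := wt
    meet := ?_
    five := SuzPresFive76.five Y F (eqz ht) (eqz ht₁) four four₁ vz vt (fcom v hv).symm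
      (gcom v hv).symm vt₁ wz wt₁ (fcom₁ v₁ hv₁).symm (gcom₁ v₁ hv₁).symm wt
    swap := SuzPresD84.swap Y ht hyt hfC hgC hfy hgy hff hgg hfg
    three := SuzPresD84.three Y ht hyt }⟩
  -- the meet
  intro x hx hxz k hk hxk
  obtain ⟨S, h, Dt⟩ := SuzLChart29.exists_chart Y ht hyt
  rw [← hLv] at hx
  obtain ⟨hxV, hxy⟩ := SuzLRecog29.mem_Lsub.1 hx
  have hxt : x ∈ Sx z t := hV.cent_le Y ht hyt
    ⟨mem_centralizer_singleton_iff.2 hxz, mem_centralizer_iff.2 hxV⟩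
  have hx64 : x ^ 64 = 1 := by
    have hmem : x ∈ centralizer ({z} : Set G) ⊓ centralizer ({y} : Set G) ⊓ centralizer (V : Set G) :=
      ⟨⟨mem_centralizer_singleton_iff.2 hxz, mem_centralizer_singleton_iff.2 hxy⟩,
        mem_centralizer_iff.2 hxV⟩
    have := pow_card_eq_one' (x := (⟨x, hmem⟩ : ↥(centralizer ({z} : Set G) ⊓ centralizer ({y} : Set G)
      ⊓ centralizer (V : Set G))))
    rw [SuzVLocal48.cent_zyV Y ht hyt hV] at this
    exact congrArg Subtype.val this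
  obtain ⟨n, rfl⟩ := mem_zpowers_iff.1 hk
  have hcxy : Commute x (y ^ n) := (show Commute x y from hxy).zpow_right n
  have hk64 : (x * y ^ n) ^ 64 = y ^ n := by
    have hk3 : (y ^ n) ^ 63 = 1 := by
      rw [show (63 : ℕ) = 3 * 21 from rfl, pow_mul, ← zpow_natCast (y ^ n) 3, ← zpow_mul,
        mul_comm n, zpow_mul, zpow_natCast, Y.y3, one_zpow, one_pow]
    rw [hcxy.mul_pow, hx64, one_mul, show (64 : ℕ) = 63 + 1 from rfl, pow_succ, hk3, one_mul]
  have hkv : Commute (y ^ n) v₁ := by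
    rw [← hk64]; exact (show Commute (x * y ^ n) v₁ from hxk).pow_left 64
  have hk1 : y ^ n = 1 := by
    by_contra hk1
    have hm : n % 3 = 1 ∨ n % 3 = 2 := by
      rcases (by omega : n % 3 = 0 ∨ n % 3 = 1 ∨ n % 3 = 2) with e | e | e
      · refine absurd ?_ hk1
        rw [← Int.mul_ediv_add_emod n 3, e, add_zero, zpow_mul,
          show y ^ (3 : ℤ) = 1 by exact_mod_cast Y.y3, one_zpow]
      · exact Or.inl e
      · exact Or.inr e
    have he : y ^ n = y ^ (n % 3) := by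
      conv_lhs => rw [← Int.mul_ediv_add_emod n 3]
      rw [zpow_add, zpow_mul, show y ^ (3 : ℤ) = 1 by exact_mod_cast Y.y3, one_zpow, one_mul]
    rcases hm with e | e
    · rw [he, e, zpow_one] at hkv
      exact four₁.move hkv.eq
    · rw [he, e] at hkv
      have hy2 : y ^ (2 : ℤ) = y⁻¹ := by
        rw [zpow_two]; exact (inv_eq_of_mul_eq_one_right (by rw [← Y.y3, pow_three])).symm
      rw [hy2] at hkv
      exact four₁.move (Commute.inv_left_iff.1 hkv).eq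
  rw [hk1, mul_one] at hxk
  have hx₁ : ∀ w ∈ V₁, w * x = x * w := by
    have hL := SuzLRecog29.Lsub_eq hV₁ hv₁ hv₁1
    exact (SuzLRecog29.mem_Lsub.1 (hL ▸ (Subgroup.mem_inf.2
      ⟨mem_centralizer_singleton_iff.2 hxk, mem_centralizer_singleton_iff.2 hxy⟩))).1
  have hxt₁ : x ∈ Sx z t₁ := hV₁.cent_le Y ht₁ hyt₁
    ⟨mem_centralizer_singleton_iff.2 hxz, mem_centralizer_iff.2 hx₁⟩
  have memS : ∀ {a : G}, a ∈ Q → a * t = t * a → y * a = a * y → a * a = 1 → a ∈ S := fun ha h1 h2 h3 =>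
    (Dt.mem_iff _).2 ⟨mem_Sx.2 ⟨hzQ ha, h1⟩, h2.symm, hpow h3⟩
  have hxS : x ∈ S := by
    have hle : S ≤ centralizer ({z} : Set G) ⊓ centralizer ({y} : Set G) ⊓ centralizer (V : Set G) := by
      intro s hs
      obtain ⟨h1, h2, h3⟩ := (Dt.mem_iff s).1 hs
      exact ⟨⟨mem_centralizer_singleton_iff.2 (mem_Sx.1 h1).1, mem_centralizer_singleton_iff.2 h2⟩,
        mem_centralizer_iff.2 fun w hw => (hV.S_comm s h1 h2 h3 w hw).symm⟩
    rw [Subgroup.eq_of_le_of_card_ge hle (by rw [SuzVLocal48.cent_zyV Y ht hyt hV, h.card_S])]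
    exact ⟨⟨mem_centralizer_singleton_iff.2 hxz, mem_centralizer_singleton_iff.2 hxy⟩,
      mem_centralizer_iff.2 hxV⟩
  exact mem_fg Y Dt (memS hfQ hft hfy hff) (memS hgQ hgt hgy hgg) hff hgg hfg ht₁f.symm ht₁g.symm
    hne (hzQ ht₁.1).symm hxS (mem_Sx.1 hxt₁).2

end Cfsg.Agent.SuzPresExistsData29
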