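import Mathlib

/-!
A generation property of pairs of involutions of the alternating group of degree six.
-/

set_option autoImplicit false
set_option maxRecDepth 100000
set_option synthInstance.maxSize 4000
set_option synthInstance.maxHeartbeats 400000

namespace Cfsg.Agent.SuzPresL34ASix96

/-- The chosen double transposition. -/
def f0 : Equiv.Perm (Fin 6) := Equiv.swap 0 1 * Equiv.swap 2 3

theorem conj_f0 : ∀ f : Equiv.Perm (Fin 6), f * f = 1 → f ≠ 1 → Equiv.Perm.sign f = 1 →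
    ∃ c : Equiv.Perm (Fin 6), c * f = f0 * c ∧ Equiv.Perm.sign c = 1 := by
  decide +kernel

theorem exists_third : ∀ g : Equiv.Perm (Fin 6), g * g = 1 →
    (f0 * g) * (f0 * g) ≠ 1 → (f0 * g) * (f0 * g) * ((f0 * g) * (f0 * g)) = 1 →
    Equiv.Perm.sign g = 1 →
    ∃ b : Equiv.Perm (Fin 6), b * b = 1 ∧ b ≠ 1 ∧ (b * f0) ^ 3 = 1 ∧ (b * g) ^ 3 = 1 ∧
      (b * f0 * g) ^ 5 = 1 ∧ Equiv.Perm.sign b = 1 := by
  decide +kernel

end Cfsg.Agent.SuzPresL34ASix96
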