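import Mathlib
import Cfsg.Agent.Lib.Part11Tools
import Cfsg.Agent.Lib.CharInducedBurnside
import Cfsg.Agent.Lib.SimpleOrder

/-!
# Subgroups of the simple group `PSL₃(4)`

Possible small indices, subgroups of order `8` times odd, and the generation property of the
subgroups of order `360`.
-/

set_option autoImplicit false
set_option linter.unusedSectionVars false
set_option synthInstance.maxSize 1000

namespace Cfsg.Agent.SuzPresL34Sub96

open Subgroup

/-! ### Groups in which commuting elements of coprime order are trivial -/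

/-- Two commuting elements of coprime orders: one is trivial. -/
def Sep (K : Type*) [Group K] : Prop :=
  ∀ x y : K, x * y = y * x → (orderOf x).Coprime (orderOf y) → x = 1 ∨ y = 1

theorem Sep.subgroup {K : Type*} [Group K] (h : Sep K) (H : Subgroup K) : Sep H := by
  intro x y hxy hco
  rw [← Subgroup.orderOf_coe, ← Subgroup.orderOf_coe] at hco
  exact (h x y (congrArg Subtype.val hxy) hco).imp Subtype.ext Subtype.ext

variable {K : Type*} [Group K] [Finite K]

/-- A coprime subgroup normalising another one acts freely on it. -/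
theorem free_dvd (hK : Sep K) {A Z : Subgroup K}
    (hn : ∀ a ∈ A, ∀ z ∈ Z, a * z * a⁻¹ ∈ Z) (hco : (Nat.card A).Coprime (Nat.card Z)) :
    Nat.card A ∣ Nat.card Z - 1 := by
  classical
  letI : MulAction A {z : K // z ∈ Z ∧ z ≠ 1} :=
    { smul := fun a z => ⟨(a : K) * z * (a : K)⁻¹, hn a a.2 z z.2.1,
        fun e => z.2.2 (conj_eq_one_iff.mp e)⟩
      one_smul := fun z => Subtype.ext (by show (1 : K) * z * 1⁻¹ = _; group)
      mul_smul := fun a b z => Subtype.ext (by
        show (a : K) * b * z * ((a : K) * b)⁻¹ = a * (b * z * (b : K)⁻¹) * (a : K)⁻¹; group) }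
  have hfree : ∀ z : {z : K // z ∈ Z ∧ z ≠ 1}, MulAction.stabilizer A z = ⊥ := by
    intro z
    rw [Subgroup.eq_bot_iff_forall]
    intro a ha
    have e : (a : K) * z * (a : K)⁻¹ = z := congrArg Subtype.val (MulAction.mem_stabilizer_iff.mp ha)
    refine Subtype.ext ((hK a z (mul_inv_eq_iff_eq_mul.mp e) ?_).resolve_right z.2.2)
    exact (hco.of_dvd_left (Subgroup.orderOf_dvd_natCard A a.2)).of_dvd_right
      (Subgroup.orderOf_dvd_natCard Z z.2.1)
  have h := Nat.card_congr (MulAction.selfEquivOrbitsQuotientProd hfree)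
  rw [Nat.card_prod] at h
  have hc : Nat.card {z : K // z ∈ Z ∧ z ≠ 1} = Nat.card Z - 1 := by
    rw [show {z : K // z ∈ Z ∧ z ≠ 1} = ↥((Z : Set K) \ {1}) from rfl, Nat.card_coe_set_eq,
      Set.ncard_diff_singleton_of_mem Z.one_mem, ← Nat.card_coe_set_eq]
    rfl
  exact ⟨_, by rw [← hc, h, mul_comm]⟩

/-- An involution acting without fixed points on an odd subgroup inverts it. -/
theorem inverts (hK : Sep K) {W : Subgroup K} (hW : Odd (Nat.card W)) {i : K} (hi : i * i = 1)
    (hi1 : i ≠ 1) (hn : ∀ w ∈ W, i * w * i ∈ W) : ∀ w ∈ W, i * w * i = w⁻¹ := by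
  have ho : orderOf i = 2 := orderOf_eq_prime (by rw [pow_two, hi]) hi1
  let φ : W → W := fun w => ⟨(w : K)⁻¹ * (i * w * i), mul_mem (inv_mem w.2) (hn w w.2)⟩
  have hinj : Function.Injective φ := by
    intro a b e
    have e' : (a : K)⁻¹ * (i * a * i) = (b : K)⁻¹ * (i * b * i) := congrArg Subtype.val e
    set c := (b : K) * (a : K)⁻¹ with hc
    have hcm : c ∈ W := mul_mem b.2 (inv_mem a.2)
    have hci : i * c = c * i := by
      have e2 : c = (i * b * i) * (i * a * i)⁻¹ := by
        rw [eq_mul_inv_iff_mul_eq, hc]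
        calc (b : K) * (a : K)⁻¹ * (i * a * i) = b * ((a : K)⁻¹ * (i * a * i)) := by group
          _ = i * b * i := by rw [e']; group
      have e3 : i * c * i⁻¹ = c := by
        conv_rhs => rw [e2]
        rw [hc]; group
      exact mul_inv_eq_iff_eq_mul.mp e3
    have hco : (orderOf i).Coprime (orderOf c) := by
      rw [ho]
      exact Nat.coprime_two_left.mpr (hW.of_dvd_nat (Subgroup.orderOf_dvd_natCard W hcm))
    rcases hK i c hci hco with h | h
    · exact absurd h hi1
    · exact Subtype.ext (mul_inv_eq_one.mp h).symm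
  intro w hw
  obtain ⟨a, ha⟩ := (Finite.injective_iff_surjective.mp hinj) ⟨w, hw⟩
  have e : (a : K)⁻¹ * (i * a * i) = w := congrArg Subtype.val ha
  have hii : i⁻¹ = i := inv_eq_of_mul_eq_one_right hi
  rw [← e, mul_inv_rev, mul_inv_rev, mul_inv_rev, inv_inv, hii]
  calc i * ((a : K)⁻¹ * (i * a * i)) * i = i * (a : K)⁻¹ * i * a * (i * i) := by group
    _ = _ := by rw [hi, mul_one]; group

theorem card_mul_relIndex_of_le {A B : Subgroup K} (h : A ≤ B) :
    Nat.card A * A.relIndex B = Nat.card B := by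
  rw [← relIndex_bot_left A, relIndex_mul_relIndex _ _ _ bot_le h, relIndex_bot_left]

theorem card_sup_inf (A B : Subgroup K) [B.Normal] :
    Nat.card ↥(A ⊔ B) * Nat.card ↥(A ⊓ B) = Nat.card A * Nat.card B := by
  have h1 : Nat.card ↥(A ⊔ B) = Nat.card B * B.relIndex A := by
    rw [← Subgroup.relIndex_sup_right (H := A) (K := B)]
    exact (card_mul_relIndex_of_le le_sup_right).symm
  have h2 : Nat.card A = Nat.card ↥(A ⊓ B) * B.relIndex A := by
    rw [← Subgroup.inf_relIndex_right B A, inf_comm A B]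
    exact (card_mul_relIndex_of_le inf_le_right).symm
  rw [h1, h2]; ring

theorem card_cent (hK : Sep K) {p : ℕ} [hp : Fact p.Prime] (hp2 : ¬ p ^ 2 ∣ Nat.card K) {x : K}
    (hx : orderOf x = p) : centralizer ({x} : Set K) = zpowers x := by
  have hle : zpowers x ≤ centralizer ({x} : Set K) :=
    zpowers_le.mpr (mem_centralizer_singleton_iff.mpr rfl)
  refine (Subgroup.eq_of_le_of_card_ge hle ?_).symm
  rw [Nat.card_zpowers, hx]
  have hP : IsPGroup p (centralizer ({x} : Set K)) := by
    intro c
    have hc0 : orderOf (c : K) ≠ 0 := (orderOf_pos _).ne'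
    refine ⟨(orderOf (c : K)).factorization p, Subtype.ext ?_⟩
    show (c : K) ^ (p ^ (orderOf (c : K)).factorization p) = 1
    set d := (c : K) ^ (p ^ (orderOf (c : K)).factorization p) with hd
    have hod : orderOf d = orderOf (c : K) / p ^ (orderOf (c : K)).factorization p := by
      rw [hd, orderOf_pow_of_dvd (pow_ne_zero _ hp.out.ne_zero) (Nat.ordProj_dvd _ _)]
    have hdx : x * d = d * x :=
      (show Commute x (c : K) from (mem_centralizer_singleton_iff.mp c.2).symm).pow_right _
    refine (hK x d hdx ?_).resolve_left fun e => hp.out.ne_one (by rw [← hx, e, orderOf_one])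
    rw [hx, hod]
    exact Nat.coprime_ordCompl hp.out hc0
  obtain ⟨k, hk⟩ := IsPGroup.iff_card.mp hP
  rw [hk]
  have hk2 : k < 2 := by
    by_contra h
    exact hp2 ((pow_dvd_pow p (not_lt.mp h)).trans
      (hk ▸ Subgroup.card_subgroup_dvd_card _))
  calc p ^ k ≤ p ^ 1 := Nat.pow_le_pow_right hp.out.pos (by omega)
    _ = p := pow_one p

/-- The Sylow count at a prime dividing the order once. -/
theorem norm_card (hK : Sep K) {p : ℕ} [hp : Fact p.Prime] (hp2 : ¬ p ^ 2 ∣ Nat.card K) {x : K}
    (hx : orderOf x = p) :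
    ∃ e, Nat.card (normalizer (zpowers x : Set K)) = p * e ∧ e ∣ p - 1 ∧ p * e ∣ Nat.card K ∧
      (Nat.card K / (p * e)) % p = 1 := by
  classical
  set N := normalizer (zpowers x : Set K) with hN
  have hc : centralizer (zpowers x : Set K) = zpowers x := by
    conv_lhs => rw [Subgroup.zpowers_eq_closure, centralizer_closure]
    exact card_cent hK hp2 hx
  have hker : Nat.card (zpowers x).normalizerMonoidHom.ker = p := by
    rw [normalizerMonoidHom_ker, hc,
      Nat.card_congr (Subgroup.subgroupOfEquivOfLe le_normalizer).toEquiv, Nat.card_zpowers, hx]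
  have hmul := Subgroup.card_mul_index (zpowers x).normalizerMonoidHom.ker
  rw [hker, Subgroup.index_ker] at hmul
  have hdiv : Nat.card (zpowers x).normalizerMonoidHom.range ∣ p - 1 := by
    refine (Subgroup.card_subgroup_dvd_card _).trans (dvd_of_eq ?_)
    rw [IsCyclic.card_mulAut, Nat.card_zpowers, hx, Nat.totient_prime hp.out]
  refine ⟨_, hmul.symm, hdiv, hmul ▸ Subgroup.card_subgroup_dvd_card N, ?_⟩
  have hPc : Nat.card (zpowers x) = p ^ (Nat.card K).factorization p := by
    rw [Nat.card_zpowers, hx]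
    have h1 : p ∣ Nat.card K := hx ▸ orderOf_dvd_natCard x
    have h2 : (Nat.card K).factorization p = 1 := by
      have a := (hp.out.dvd_iff_one_le_factorization Nat.card_pos.ne').mp h1
      have b : ¬ 2 ≤ (Nat.card K).factorization p := fun h =>
        hp2 ((hp.out.pow_dvd_iff_le_factorization Nat.card_pos.ne').mpr h)
      omega
    rw [h2, pow_one]
  let P : Sylow p K := Sylow.ofCard (zpowers x) hPc
  have h := card_sylow_modEq_one p K
  rw [Sylow.card_eq_index_normalizer P] at h
  have hidx : N.index = Nat.card K / (p * Nat.card (zpowers x).normalizerMonoidHom.range) := by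
    rw [hmul]
    exact (Nat.eq_div_of_mul_eq_right Nat.card_pos.ne' (Subgroup.card_mul_index N))
  rw [← hidx]
  change (normalizer ((P : Subgroup K) : Set K)).index ≡ 1 [MOD p] at h
  rw [Sylow.coe_ofCard] at h
  exact Eq.trans h (Nat.mod_eq_of_lt hp.out.one_lt)

theorem exists_complement (hK : Sep K) {p : ℕ} [hp : Fact p.Prime] (hp2 : ¬ p ^ 2 ∣ Nat.card K)
    {x : K} (hx : orderOf x = p) (hN : Nat.card (normalizer (zpowers x : Set K)) = p) :
    ∃ M : Subgroup K, M.Normal ∧ p * Nat.card M = Nat.card K := by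
  obtain ⟨e, he, -, hdvd, -⟩ := norm_card hK hp2 hx
  have hPc : Nat.card (zpowers x) = p ^ (Nat.card K).factorization p := by
    rw [Nat.card_zpowers, hx]
    have h1 : p ∣ Nat.card K := hx ▸ orderOf_dvd_natCard x
    have h2 : (Nat.card K).factorization p = 1 := by
      have a := (hp.out.dvd_iff_one_le_factorization Nat.card_pos.ne').mp h1
      have b : ¬ 2 ≤ (Nat.card K).factorization p := fun h =>
        hp2 ((hp.out.pow_dvd_iff_le_factorization Nat.card_pos.ne').mpr h)
      omega
    rw [h2, pow_one]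
  let P : Sylow p K := Sylow.ofCard (zpowers x) hPc
  have hP : normalizer ((P : Subgroup K) : Set K) ≤ centralizer ((P : Subgroup K) : Set K) := by
    have hcoe : (P : Subgroup K) = zpowers x := Sylow.coe_ofCard _ _
    rw [hcoe, ← Subgroup.eq_of_le_of_card_ge (le_normalizer (H := zpowers x))
      (by rw [hN, Nat.card_zpowers, hx])]
    intro a ha
    rw [mem_centralizer_iff]
    rintro b ⟨k, rfl⟩
    obtain ⟨l, rfl⟩ := ha
    exact (Commute.refl x).zpow_zpow k l
  have hcompl := MonoidHom.ker_transferSylow_isComplement' P hP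
  refine ⟨(MonoidHom.transferSylow P hP).ker, inferInstance, ?_⟩
  have := hcompl.card_mul
  rw [show Nat.card (P : Subgroup K) = p by rw [Sylow.coe_ofCard, Nat.card_zpowers, hx]] at this
  rw [mul_comm, this]

/-- An element of order `p` outside a normal subgroup normalises one of its Sylow subgroups. -/
theorem frattini_mod (hK : Sep K) {p r : ℕ} [hp : Fact p.Prime] [hr : Fact r.Prime] (hpr : p ≠ r)
    (hpK : p ∣ Nat.card K) {M : Subgroup K} [M.Normal] (hM : ¬ p ∣ Nat.card M) :
    p ∣ r ^ (Nat.card M).factorization r - 1 := by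
  classical
  obtain ⟨R⟩ : Nonempty (Sylow r M) := inferInstance
  have h := Sylow.normalizer_sup_eq_top R
  set S := (R : Subgroup M).map M.subtype with hS
  have hpS : p ∣ Nat.card (normalizer (S : Set K)) := by
    have h1 : p ∣ Nat.card ↥(normalizer (S : Set K) ⊔ M : Subgroup K) := by
      rw [h, Subgroup.card_top]; exact hpK
    have h2 : Nat.card ↥(normalizer (S : Set K) ⊔ M : Subgroup K) ∣
        Nat.card (normalizer (S : Set K)) * Nat.card M := by
      refine ⟨Nat.card ↥(normalizer (S : Set K) ⊓ M : Subgroup K), ?_⟩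
      exact (card_sup_inf _ M).symm
    exact (hp.out.dvd_mul.mp (h1.trans h2)).resolve_right hM
  obtain ⟨y, hy⟩ := exists_prime_orderOf_dvd_card' (G := ↥(normalizer (S : Set K))) p hpS
  have hSc : Nat.card S = r ^ (Nat.card M).factorization r := by
    rw [hS, Subgroup.card_map_of_injective M.subtype_injective]
    exact Sylow.card_eq_multiplicity R
  rw [← hSc]
  have hyc : Nat.card (zpowers (y : K)) = p := by
    rw [Nat.card_zpowers, Subgroup.orderOf_coe, hy]
  rw [← hyc]
  refine free_dvd hK (fun a ha z hz => ?_) ?_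
  · exact (Subgroup.mem_normalizer_iff.mp (zpowers_le.mpr y.2 ha) z).mp hz
  · rw [hyc, hSc]
    exact ((Nat.coprime_primes hp.out hr.out).mpr hpr).pow_right _

/-! ### The facts used -/

/-- Properties of `PSL₃(4)`. -/
structure Facts (L : Type*) [Group L] : Prop where
  card : Nat.card L = 20160
  simple : IsSimpleGroup L
  ord : ∀ g : L, g ^ 5 = 1 ∨ g ^ 7 = 1 ∨ g ^ 12 = 1
  cit : ∀ j g : L, orderOf j = 2 → g * j = j * g → ∃ k : ℕ, g ^ (2 ^ k) = 1
  sylow : ∀ P : Subgroup L, Nat.card P = 64 →
    22 ≤ {x : L | x ∈ P ∧ orderOf x = 2}.ncard ∧ ∃ a ∈ P, ∃ b ∈ P, a * b ≠ b * a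

namespace Facts

variable {L : Type*} [Group L] [Finite L] (F : Facts L)
include F

theorem sep : Sep L := by
  have key : ∀ x y : L, x * y = y * x → (orderOf x).Coprime (orderOf y) → 2 ∣ orderOf x → y = 1 := by
    intro x y hxy hco h2
    obtain ⟨m, hm⟩ := h2
    have hx0 := orderOf_pos x
    have hm0 : m ≠ 0 := fun h => by rw [h, mul_zero] at hm; omega
    have hj : orderOf (x ^ m) = 2 := by
      rw [orderOf_pow_of_dvd hm0 (hm ▸ dvd_mul_left m 2), hm, Nat.mul_div_cancel _ (Nat.pos_of_ne_zero hm0)]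
    obtain ⟨k, hk⟩ := F.cit _ y hj ((show Commute y x from hxy.symm).pow_right m)
    have hc2 : (orderOf y).Coprime 2 := (hco.of_dvd_left (hm ▸ dvd_mul_right 2 m)).symm
    exact orderOf_eq_one_iff.mp (Nat.Coprime.eq_one_of_dvd (hc2.pow_right k)
      (orderOf_dvd_of_pow_eq_one hk))
  intro x y hxy hco
  by_cases hx : 2 ∣ orderOf x
  · exact Or.inr (key x y hxy hco hx)
  by_cases hy : 2 ∣ orderOf y
  · exact Or.inl (key y x hxy.symm hco.symm hy)
  have hn : orderOf (x * y) = orderOf x * orderOf y :=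
    (show Commute x y from hxy).orderOf_mul_eq_mul_orderOf_of_coprime hco
  have hd : orderOf x * orderOf y ∣ 5 ∨ orderOf x * orderOf y ∣ 7 ∨ orderOf x * orderOf y ∣ 12 := by
    rw [← hn]
    exact (F.ord (x * y)).imp orderOf_dvd_of_pow_eq_one
      (fun h => h.imp orderOf_dvd_of_pow_eq_one orderOf_dvd_of_pow_eq_one)
  have hle : orderOf x ≤ 12 ∧ orderOf y ≤ 12 := by
    rcases hd with h | h | h <;>
      exact ⟨(Nat.le_of_dvd (by norm_num) (dvd_of_mul_right_dvd h)).trans (by norm_num),
        (Nat.le_of_dvd (by norm_num) (dvd_of_mul_left_dvd h)).trans (by norm_num)⟩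
  suffices orderOf x = 1 ∨ orderOf y = 1 from this.imp orderOf_eq_one_iff.mp orderOf_eq_one_iff.mp
  have arith : ∀ a < 13, ∀ b < 13, ¬ 2 ∣ a → ¬ 2 ∣ b → Nat.gcd a b = 1 →
      (a * b ∣ 5 ∨ a * b ∣ 7 ∨ a * b ∣ 12) → a = 1 ∨ b = 1 := by decide +kernel
  exact arith _ (by omega) _ (by omega) hx hy hco hd

theorem not_nine (g : L) : orderOf g ≠ 9 := by
  intro h
  rcases F.ord g with e | e | e <;>
    · have := orderOf_dvd_of_pow_eq_one e
      rw [h] at this
      norm_num at this

theorem not_comm : ¬ IsMulCommutative L := by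
  haveI := F.simple
  exact SimpleOrder.not_comm_of_not_prime (by rw [F.card]; norm_num)

theorem norm_seven {x : L} (hx : orderOf x = 7) : Nat.card (normalizer (zpowers x : Set L)) = 21 := by
  haveI := Fact.mk (show Nat.Prime 7 by norm_num)
  obtain ⟨e, h1, h2, -, h4⟩ := norm_card F.sep (by rw [F.card]; norm_num) hx
  rw [F.card] at h4
  have := Nat.le_of_dvd (by norm_num) h2
  rw [h1]
  interval_cases e <;> omega

theorem norm_five {x : L} (hx : orderOf x = 5) : Nat.card (normalizer (zpowers x : Set L)) = 10 := by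
  haveI := Fact.mk (show Nat.Prime 5 by norm_num)
  obtain ⟨e, h1, h2, -, h4⟩ := norm_card F.sep (by rw [F.card]; norm_num) hx
  rw [F.card] at h4
  have := Nat.le_of_dvd (by norm_num) h2
  rw [h1]
  interval_cases e <;> omega

theorem sub_card_dvd (H : Subgroup L) : Nat.card H ∣ 20160 := F.card ▸ Subgroup.card_subgroup_dvd_card H

theorem not_sq {H : Subgroup L} {p : ℕ} (hp : p = 5 ∨ p = 7) : ¬ p ^ 2 ∣ Nat.card H := fun h => by
  have := h.trans (F.sub_card_dvd H)
  rcases hp with rfl | rfl <;> norm_num at this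

/-- The Sylow counts in a subgroup. -/
theorem count (H : Subgroup L) {p k : ℕ} [hp : Fact p.Prime] (hpk : p = 5 ∧ k = 2 ∨ p = 7 ∧ k = 3)
    (hd : p ∣ Nat.card H) :
    ∃ x : H, orderOf x = p ∧ ((Nat.card (normalizer (zpowers x : Set H)) = p ∧
      (Nat.card H / p) % p = 1) ∨ (Nat.card (normalizer (zpowers x : Set H)) = p * k ∧
      p * k ∣ Nat.card H ∧ (Nat.card H / (p * k)) % p = 1)) := by
  obtain ⟨x, hx⟩ := exists_prime_orderOf_dvd_card' (G := H) p hd
  refine ⟨x, hx, ?_⟩
  obtain ⟨e, h1, -, h3, h4⟩ := norm_card (F.sep.subgroup H) (F.not_sq (hpk.imp And.left And.left)) hx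
  have hle : (normalizer (zpowers x : Set H)).map H.subtype ≤
      normalizer (zpowers (x : L) : Set L) := by
    have e : zpowers (x : L) = (zpowers x).map H.subtype := (MonoidHom.map_zpowers H.subtype x).symm
    rw [e]
    exact Subgroup.le_normalizer_map _
  have hdk : p * e ∣ p * k := by
    rw [← h1, ← Subgroup.card_map_of_injective H.subtype_injective]
    refine (Subgroup.card_dvd_of_le hle).trans (dvd_of_eq ?_)
    have hxL : orderOf (x : L) = p := by rw [Subgroup.orderOf_coe, hx]
    rcases hpk with ⟨rfl, rfl⟩ | ⟨rfl, rfl⟩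
    · exact F.norm_five hxL
    · exact F.norm_seven hxL
  have hek : e ∣ k := Nat.dvd_of_mul_dvd_mul_left hp.out.pos hdk
  have hkp : k.Prime := by rcases hpk with ⟨-, rfl⟩ | ⟨-, rfl⟩ <;> norm_num
  rcases (Nat.dvd_prime hkp).mp hek with rfl | rfl
  · exact Or.inl ⟨by rw [h1, mul_one], by simpa using h4⟩
  · exact Or.inr ⟨h1, h3, h4⟩

theorem false_of_five (H : Subgroup L) {n : ℕ} (hn : Nat.card H = n) (h5 : 5 ∣ n)
    (ha : (n / 5) % 5 ≠ 1) (hb : ¬ (10 ∣ n ∧ (n / 10) % 5 = 1)) : False := by
  haveI := Fact.mk (show Nat.Prime 5 by norm_num)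
  obtain ⟨x, -, ⟨-, h⟩ | ⟨-, h, h'⟩⟩ := F.count H (k := 2) (Or.inl ⟨rfl, rfl⟩) (hn ▸ h5)
  · exact ha (hn ▸ h)
  · exact hb (hn ▸ ⟨h, h'⟩)

theorem false_of_seven (H : Subgroup L) {n r : ℕ} [Fact r.Prime] (hn : Nat.card H = n) (h7 : 7 ∣ n)
    (hb : ¬ (21 ∣ n ∧ (n / 21) % 7 = 1)) (hr : r ≠ 7)
    (ha : (n / 7) % 7 ≠ 1 ∨ ¬ 7 ∣ r ^ (n / 7).factorization r - 1) : False := by
  haveI := Fact.mk (show Nat.Prime 7 by norm_num)
  obtain ⟨x, hx, ⟨hN, h⟩ | ⟨-, h, h'⟩⟩ := F.count H (k := 3) (Or.inr ⟨rfl, rfl⟩) (hn ▸ h7)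
  · rcases ha with ha | ha
    · exact ha (hn ▸ h)
    · obtain ⟨M, hM, hMc⟩ := exists_complement (F.sep.subgroup H) (F.not_sq (Or.inr rfl)) hx hN
      have hMn : Nat.card M = n / 7 := by rw [← hn, ← hMc]; omega
      refine ha (hMn ▸ frattini_mod (F.sep.subgroup H) hr.symm (hn ▸ h7) fun hd => ?_)
      exact F.not_sq (H := H) (Or.inr rfl) (hMc ▸ by rw [pow_two]; exact mul_dvd_mul_left 7 hd)
  · exact hb (hn ▸ ⟨h, h'⟩)

theorem card_ne_576 (H : Subgroup L) : Nat.card H ≠ 576 := by
  intro hH
  classical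
  haveI : Group.IsSolvable H :=
    CharInduced.solvable_of_card_two_primes 2 3 6 2 Nat.prime_two Nat.prime_three (by rw [hH]; norm_num)
  haveI : Nontrivial H := Finite.one_lt_card_iff_nontrivial.mp (by rw [hH]; norm_num)
  obtain ⟨r, N, hr, hNn, hN1, hNp⟩ := Part11.exists_normal_pGroup (Q := H)
  haveI := Fact.mk hr
  haveI : Nontrivial N := (Subgroup.nontrivial_iff_ne_bot N).mpr hN1
  set Z := (center N).map N.subtype with hZ
  haveI : Z.Normal := by rw [hZ]; infer_instance
  have hZne : 1 < Nat.card Z := by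
    rw [hZ, Subgroup.card_map_of_injective N.subtype_injective]
    haveI := hNp.center_nontrivial
    exact Finite.one_lt_card
  obtain ⟨k, hk⟩ := (hNp.to_subgroup (center N)).map N.subtype |>.exists_card_eq
  rw [← hZ] at hk
  have hd : r ^ k ∣ 576 := hk ▸ hH ▸ Subgroup.card_subgroup_dvd_card Z
  have hk0 : k ≠ 0 := fun h => by rw [h, pow_zero] at hk; omega
  have hr23 : r = 2 ∨ r = 3 := by
    have h : r ∣ 2 ^ 6 * 3 ^ 2 := (dvd_pow_self r hk0).trans (by simpa using hd)
    rcases hr.dvd_mul.mp h with h | h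
    · exact Or.inl ((Nat.prime_dvd_prime_iff_eq hr Nat.prime_two).mp (hr.dvd_of_dvd_pow h))
    · exact Or.inr ((Nat.prime_dvd_prime_iff_eq hr Nat.prime_three).mp (hr.dvd_of_dvd_pow h))
  have free : ∀ (q m : ℕ) [Fact q.Prime], q ≠ r → q ^ m ∣ 576 → q ^ m ∣ r ^ k - 1 := by
    intro q m hq hqr hqm
    obtain ⟨A, hA⟩ := Sylow.exists_subgroup_card_pow_prime (G := H) q (hH ▸ hqm)
    rw [← hA, ← hk]
    refine free_dvd (F.sep.subgroup H) (fun a _ z hz => ‹Z.Normal›.conj_mem z hz a) ?_
    rw [hA, hk]
    exact (((Nat.coprime_primes hq.out hr).mpr hqr).pow _ _)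
  haveI := Fact.mk Nat.prime_two
  haveI := Fact.mk Nat.prime_three
  rcases hr23 with rfl | rfl
  · have h9 := free 3 2 (by norm_num) (by norm_num)
    have hk6 : k ≤ 6 := by
      by_contra h
      have := (pow_dvd_pow 2 (show 7 ≤ k by omega)).trans hd
      norm_num at this
    interval_cases k <;> (try omega) <;> (try norm_num at h9)
    obtain ⟨a, ha, b, hb, hab⟩ := (F.sylow (Z.map H.subtype)
      (by rw [Subgroup.card_map_of_injective H.subtype_injective, hk]; norm_num)).2
    obtain ⟨a', ha', rfl⟩ := ha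
    obtain ⟨b', hb', rfl⟩ := hb
    obtain ⟨a'', ha'', rfl⟩ := ha'
    obtain ⟨b'', -, rfl⟩ := hb'
    exact hab (congrArg (fun u : N => ((u : H) : L)) (Subgroup.mem_center_iff.mp ha'' b'').symm)
  · have h64 := free 2 6 (by norm_num) (by norm_num)
    have hk2 : k ≤ 2 := by
      by_contra h
      have := (pow_dvd_pow 3 (show 3 ≤ k by omega)).trans hd
      norm_num at this
    interval_cases k <;> (try omega) <;> (try norm_num at h64)

theorem index_ge (H : Subgroup L) (hH : H ≠ ⊤) : 8 ≤ H.index := by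
  haveI := F.simple
  refine SimpleOrder.le_index F.not_comm ?_ H hH
  rw [F.card]
  decide

theorem index_small (H : Subgroup L) (h : H.index < 42) :
    H.index = 1 ∨ H.index = 15 ∨ H.index = 21 := by
  by_cases hH : H = ⊤
  · exact Or.inl (by rw [hH, Subgroup.index_top])
  refine Or.inr ?_
  have h8 := F.index_ge H hH
  have hc := Subgroup.card_mul_index H
  rw [F.card] at hc
  have hd : H.index ∣ 20160 := ⟨_, (hc.symm.trans (mul_comm _ _))⟩
  haveI := Fact.mk Nat.prime_three
  haveI := Fact.mk (show Nat.Prime 5 by norm_num)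
  generalize hm : H.index = m at h h8 hc hd
  have hcases : m = 8 ∨ m = 9 ∨ m = 10 ∨ m = 12 ∨ m = 14 ∨ m = 15 ∨ m = 16 ∨ m = 18 ∨ m = 20 ∨
      m = 21 ∨ m = 24 ∨ m = 28 ∨ m = 30 ∨ m = 32 ∨ m = 35 ∨ m = 36 ∨ m = 40 := by
    interval_cases m <;> omega
  rcases hcases with rfl | rfl | rfl | rfl | rfl | rfl | rfl | rfl | rfl | rfl | rfl | rfl | rfl |
    rfl | rfl | rfl | rfl
  · exact (F.false_of_five H (n := 2520) (by omega) (by norm_num) (by norm_num) (by norm_num)).elim
  · exact (F.false_of_seven H (n := 2240) (r := 3) (by omega) (by norm_num) (by norm_num) (by norm_num)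
      (Or.inl (by norm_num))).elim
  · exact (F.false_of_seven H (n := 2016) (r := 3) (by omega) (by norm_num) (by norm_num) (by norm_num)
      (Or.inr (by rw [fact_288]; norm_num))).elim
  · exact (F.false_of_seven H (n := 1680) (r := 3) (by omega) (by norm_num) (by norm_num) (by norm_num)
      (Or.inl (by norm_num))).elim
  · exact (F.false_of_five H (n := 1440) (by omega) (by norm_num) (by norm_num) (by norm_num)).elim
  · exact Or.inl rfl
  · exact (F.false_of_seven H (n := 1260) (r := 3) (by omega) (by norm_num) (by norm_num) (by norm_num)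
      (Or.inl (by norm_num))).elim
  · exact (F.false_of_seven H (n := 1120) (r := 3) (by omega) (by norm_num) (by norm_num) (by norm_num)
      (Or.inl (by norm_num))).elim
  · exact (F.false_of_seven H (n := 1008) (r := 3) (by omega) (by norm_num) (by norm_num) (by norm_num)
      (Or.inl (by norm_num))).elim
  · exact Or.inr rfl
  · exact (F.false_of_seven H (n := 840) (r := 5) (by omega) (by norm_num) (by norm_num) (by norm_num)
      (Or.inr (by rw [fact_120]; norm_num))).elim
  · exact (F.false_of_five H (n := 720) (by omega) (by norm_num) (by norm_num) (by norm_num)).elim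
  · exact (F.false_of_seven H (n := 672) (r := 3) (by omega) (by norm_num) (by norm_num) (by norm_num)
      (Or.inl (by norm_num))).elim
  · exact (F.false_of_seven H (n := 630) (r := 3) (by omega) (by norm_num) (by norm_num) (by norm_num)
      (Or.inl (by norm_num))).elim
  · exact (F.card_ne_576 H (by omega)).elim
  · exact (F.false_of_seven H (n := 560) (r := 3) (by omega) (by norm_num) (by norm_num) (by norm_num)
      (Or.inl (by norm_num))).elim
  · exact (F.false_of_seven H (n := 504) (r := 3) (by omega) (by norm_num) (by norm_num) (by norm_num)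
      (Or.inl (by norm_num))).elim
where
  fact_288 : (2016 / 7 : ℕ).factorization 3 = 2 := by
    rw [show (2016 / 7 : ℕ) = 3 ^ 2 * 32 by norm_num, Nat.factorization_mul (by norm_num) (by norm_num),
      Finsupp.add_apply, Nat.prime_three.factorization_pow, Finsupp.single_eq_same,
      Nat.factorization_eq_zero_of_not_dvd (by norm_num : ¬ 3 ∣ 32)]
  fact_120 : (840 / 7 : ℕ).factorization 5 = 1 := by
    rw [show (840 / 7 : ℕ) = 5 ^ 1 * 24 by norm_num, Nat.factorization_mul (by norm_num) (by norm_num),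
      Finsupp.add_apply, (show Nat.Prime 5 by norm_num).factorization_pow, Finsupp.single_eq_same,
      Nat.factorization_eq_zero_of_not_dvd (by norm_num : ¬ 5 ∣ 24)]

theorem invol_count (H : Subgroup L) (h : H.index = 15 ∨ H.index = 21) :
    22 ≤ {x : L | x ∈ H ∧ orderOf x = 2}.ncard := by
  haveI := Fact.mk Nat.prime_two
  have hc := Subgroup.card_mul_index H
  rw [F.card] at hc
  obtain ⟨P, hP⟩ := Sylow.exists_subgroup_card_pow_prime (G := H) 2 (n := 6) (by
    rcases h with h | h <;> rw [h] at hc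
    · exact ⟨21, by omega⟩
    · exact ⟨15, by omega⟩)
  refine (F.sylow (P.map H.subtype) (by
    rw [Subgroup.card_map_of_injective H.subtype_injective, hP]; norm_num)).1.trans ?_
  exact Set.ncard_le_ncard (fun x hx => ⟨map_subtype_le _ hx.1, hx.2⟩) (Set.toFinite _)

theorem card_eight_odd (H : Subgroup L) (h8 : 8 ∣ Nat.card H) (h16 : ¬ 16 ∣ Nat.card H)
    (hbig : 125 ≤ Nat.card H) : Nat.card H = 168 ∨ Nat.card H = 360 := by
  obtain ⟨k, hk⟩ := h8
  have hd := F.sub_card_dvd H
  rw [hk] at hd
  have hkd : k ∣ 2520 := Nat.dvd_of_mul_dvd_mul_left (by norm_num) (show 8 * k ∣ 8 * 2520 from hd)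
  have hodd : ¬ 2 ∣ k := fun ⟨j, hj⟩ => h16 ⟨j, by omega⟩
  have hk315 : k ∣ 315 := by
    have hco : k.Coprime (2 ^ 3) :=
      (Nat.Coprime.symm (Nat.prime_two.coprime_iff_not_dvd.mpr hodd)).pow_right 3
    exact hco.dvd_of_dvd_mul_left (show k ∣ 2 ^ 3 * 315 by simpa using hkd)
  haveI := Fact.mk Nat.prime_three
  haveI := Fact.mk (show Nat.Prime 5 by norm_num)
  have hcases : k = 21 ∨ k = 35 ∨ k = 45 ∨ k = 63 ∨ k = 105 ∨ k = 315 := by
    have : k ∈ Nat.divisors 315 := Nat.mem_divisors.mpr ⟨hk315, by norm_num⟩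
    rw [show Nat.divisors 315 = {1, 3, 5, 7, 9, 15, 21, 35, 45, 63, 105, 315} by decide +kernel] at this
    simp only [Finset.mem_insert, Finset.mem_singleton] at this
    omega
  rcases hcases with rfl | rfl | rfl | rfl | rfl | rfl
  · exact Or.inl hk
  · exact (F.false_of_seven H (n := 280) (r := 3) hk (by norm_num) (by norm_num) (by norm_num)
      (Or.inl (by norm_num))).elim
  · exact Or.inr hk
  · exact (F.false_of_seven H (n := 504) (r := 3) hk (by norm_num) (by norm_num) (by norm_num)
      (Or.inl (by norm_num))).elim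
  · have hc := Subgroup.card_mul_index H
    rw [F.card, hk] at hc
    rcases F.index_small H (by omega) with e | e | e <;> omega
  · exact (F.false_of_five H (n := 2520) hk (by norm_num) (by norm_num) (by norm_num)).elim

theorem simple_of_360 (H : Subgroup L) (hH : Nat.card H = 360) {i j : H} (hi : i * i = 1)
    (hj : j * j = 1) (hij : i * j = j * i) (hi1 : i ≠ 1) (hj1 : j ≠ 1) (hne : i ≠ j) :
    IsSimpleGroup H := by
  classical
  haveI := Fact.mk Nat.prime_two
  haveI := Fact.mk (show Nat.Prime 5 by norm_num)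
  have hs := F.sep.subgroup H
  haveI : Nontrivial H := Finite.one_lt_card_iff_nontrivial.mp (by rw [hH]; norm_num)
  -- odd normal subgroups
  have hodd : ∀ M : Subgroup H, M.Normal → Odd (Nat.card M) → M = ⊥ := by
    intro M hM ho
    rw [Subgroup.eq_bot_iff_forall]
    intro w hw
    have hn : ∀ {a : H}, a * a = 1 → ∀ w ∈ M, a * w * a ∈ M := fun {a} ha w hw => by
      have := hM.conj_mem w hw a
      rwa [inv_eq_of_mul_eq_one_right ha] at this
    have h1 := inverts hs ho hi hi1 (hn hi)
    have h2 := inverts hs ho hj hj1 (hn hj)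
    have hc : (i * j) * w = w * (i * j) := by
      have e : i * j * w * (j * i) = w := by
        calc i * j * w * (j * i) = i * (j * w * j) * i := by group
          _ = w := by rw [h2 w hw, h1 _ (inv_mem hw), inv_inv]
      calc i * j * w = i * j * w * (j * (i * i) * j) := by rw [hi, mul_one, hj, mul_one]
        _ = (i * j * w * (j * i)) * (i * j) := by group
        _ = w * (i * j) := by rw [e]
    refine (hs (i * j) w hc ?_).resolve_left fun e => hne ?_
    · rw [orderOf_eq_prime (p := 2) ?_ ?_]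
      · exact Nat.coprime_two_left.mpr (ho.of_dvd_nat (Subgroup.orderOf_dvd_natCard M hw))
      · rw [pow_two]
        calc i * j * (i * j) = i * (j * i) * j := by group
          _ = 1 := by rw [← hij, ← mul_assoc, hi, one_mul, hj]
      · intro e
        exact hne ((eq_inv_of_mul_eq_one_left e).trans (inv_eq_of_mul_eq_one_right hj))
    · exact (eq_inv_of_mul_eq_one_left e).trans (inv_eq_of_mul_eq_one_right hj)
  -- normal subgroups of order prime to five
  have hfive : ∀ M : Subgroup H, M.Normal → ¬ 5 ∣ Nat.card M → M = ⊥ := by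
    intro M hM h5
    by_cases ho : Odd (Nat.card M)
    · exact hodd M hM ho
    exfalso
    have h := frattini_mod hs (p := 5) (r := 2) (by norm_num) (by rw [hH]; norm_num) h5
    have hle : (Nat.card M).factorization 2 ≤ 3 := by
      have hd : Nat.card M ∣ 360 := hH ▸ Subgroup.card_subgroup_dvd_card M
      by_contra hh
      have := ((Nat.prime_two.pow_dvd_iff_le_factorization Nat.card_pos.ne').mpr
        (show 4 ≤ _ by omega)).trans hd
      norm_num at this
    have hpos := (Nat.prime_two.dvd_iff_one_le_factorization (Nat.card_pos (α := M)).ne').mp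
      (Nat.not_odd_iff_even.mp ho).two_dvd
    interval_cases (Nat.card M).factorization 2 <;> norm_num at h
  refine ⟨fun N hN => or_iff_not_imp_left.mpr fun hN1 => ?_⟩
  by_cases h5 : 5 ∣ Nat.card N
  swap
  · exact absurd (hfive N hN h5) hN1
  obtain ⟨x, hx⟩ := exists_prime_orderOf_dvd_card' (G := N) 5 h5
  have hxH : orderOf (x : H) = 5 := by rw [Subgroup.orderOf_coe, hx]
  have hsq : ∀ {M : Subgroup H}, ¬ 5 ^ 2 ∣ Nat.card M := fun {M} h => by
    have := h.trans (hH ▸ Subgroup.card_subgroup_dvd_card M)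
    norm_num at this
  have hsqH : ¬ 5 ^ 2 ∣ Nat.card H := by rw [hH]; norm_num
  obtain ⟨e, he, he4, -, hemod⟩ := norm_card hs hsqH hxH
  obtain ⟨e', he', he'4, he'N, he'mod⟩ := norm_card (hs.subgroup N) hsq hx
  rw [hH] at hemod
  have he2 : e = 2 := by
    have := Nat.le_of_dvd (by norm_num) he4
    interval_cases e <;> omega
  subst he2
  -- Frattini
  have hPc : Nat.card (zpowers x) = 5 ^ (Nat.card N).factorization 5 := by
    rw [Nat.card_zpowers, hx]
    have a := ((show Nat.Prime 5 by norm_num).dvd_iff_one_le_factorization Nat.card_pos.ne').mp h5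
    have b : ¬ 2 ≤ (Nat.card N).factorization 5 := fun h =>
      hsq (((show Nat.Prime 5 by norm_num).pow_dvd_iff_le_factorization Nat.card_pos.ne').mpr h)
    rw [show (Nat.card N).factorization 5 = 1 by omega, pow_one]
  have hmap : (zpowers x).map N.subtype = zpowers (x : H) := MonoidHom.map_zpowers N.subtype x
  have hfr : normalizer (zpowers (x : H) : Set H) ⊔ N = ⊤ := by
    have h := Sylow.normalizer_sup_eq_top (Sylow.ofCard (zpowers x) hPc)
    rwa [Sylow.coe_ofCard, hmap] at h
  haveI := hN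
  have hcard := card_sup_inf (normalizer (zpowers (x : H) : Set H)) N
  rw [hfr, Subgroup.card_top, hH, he] at hcard
  have hint : Nat.card ↥(normalizer (zpowers (x : H) : Set H) ⊓ N : Subgroup H) = 5 * e' := by
    rw [← he', ← Nat.card_congr (Subgroup.subgroupOfEquivOfLe (inf_le_right :
      normalizer (zpowers (x : H) : Set H) ⊓ N ≤ N)).toEquiv]
    congr
    rw [Subgroup.inf_subgroupOf_right]
    have hz : ∀ m : N, (m : H) ∈ zpowers (x : H) ↔ m ∈ zpowers x := fun m => by
      rw [← hmap]
      exact Subgroup.mem_map_iff_mem N.subtype_injective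
    ext n
    simp only [Subgroup.mem_subgroupOf, Subgroup.mem_normalizer_iff, SetLike.mem_coe]
    constructor
    · intro h m
      rw [← hz, ← hz]
      exact h (m : H)
    · intro h m
      constructor
      · intro hm
        have hmN : m ∈ N := zpowers_le.mpr x.2 hm
        exact (hz _).mpr ((h ⟨m, hmN⟩).mp ((hz ⟨m, hmN⟩).mp hm))
      · intro hm
        have hmN : m ∈ N := by
          have h1 : (n : H) * m * (n : H)⁻¹ ∈ N := zpowers_le.mpr x.2 hm
          have h2 := mul_mem (mul_mem (inv_mem n.2) h1) n.2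
          rwa [show (n : H)⁻¹ * ((n : H) * m * (n : H)⁻¹) * n = m by group] at h2
        exact (hz ⟨m, hmN⟩).mpr ((h ⟨m, hmN⟩).mpr ((hz (n * ⟨m, hmN⟩ * n⁻¹)).mp hm))
  rw [hint] at hcard
  have he'2 : e' = 1 ∨ e' = 2 := by
    have h5e : 5 * e' ∣ 10 := by
      rw [← hint]
      exact (Subgroup.card_dvd_of_le inf_le_left).trans (dvd_of_eq he)
    exact (Nat.dvd_prime Nat.prime_two).mp
      (Nat.dvd_of_mul_dvd_mul_left (by norm_num) (show 5 * e' ∣ 5 * 2 from h5e))
  rcases he'2 with rfl | rfl
  · exfalso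
    have hN180 : Nat.card N = 180 := by omega
    obtain ⟨M, hMn, hMc⟩ := exists_complement (hs.subgroup N) hsq hx (by rw [he', mul_one])
    rw [hN180] at hMc
    have hM36 : Nat.card M = 36 := by omega
    have hMiff : ∀ n : N, n ∈ M ↔ n ^ 36 = 1 := by
      intro n
      refine ⟨fun hn => ?_, fun hn => ?_⟩
      · have := pow_card_eq_one' (G := M) (x := ⟨n, hn⟩)
        rw [hM36] at this
        exact congrArg Subtype.val this
      · rw [← QuotientGroup.eq_one_iff]
        have h5' : (QuotientGroup.mk n : N ⧸ M) ^ 5 = 1 := by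
          have := pow_card_eq_one' (G := N ⧸ M) (x := QuotientGroup.mk n)
          have hc := Subgroup.card_eq_card_quotient_mul_card_subgroup M
          rw [hN180, hM36] at hc
          rwa [show Nat.card (N ⧸ M) = 5 by omega] at this
        have h36 : (QuotientGroup.mk n : N ⧸ M) ^ 36 = 1 := by
          rw [← QuotientGroup.mk_pow, hn]; rfl
        have := pow_gcd_eq_one.mpr ⟨h5', h36⟩
        simpa using this
    have hM' : (M.map N.subtype).Normal := by
      constructor
      rintro _ ⟨m, hm, rfl⟩ g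
      refine ⟨⟨g * (m : H) * g⁻¹, hN.conj_mem m m.2 g⟩, (hMiff _).mpr (Subtype.ext ?_), rfl⟩
      simp only [SubmonoidClass.coe_pow, Subgroup.coe_one]
      rw [conj_pow, ← Subgroup.coe_pow, (hMiff m).mp hm, Subgroup.coe_one, mul_one, mul_inv_cancel]
    have := hfive _ hM' (by rw [Subgroup.card_map_of_injective N.subtype_injective, hM36]; norm_num)
    have hc := congrArg (fun X : Subgroup H => Nat.card X) this
    simp only [Subgroup.card_map_of_injective N.subtype_injective, hM36, Subgroup.card_bot] at hc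
    omega
  · exact Subgroup.eq_top_of_card_eq N (by rw [hH]; omega)

end Facts

end Cfsg.Agent.SuzPresL34Sub96
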