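import Cfsg.Agent.Lib.SuzPresL34Facts96
import Cfsg.Agent.Lib.SuzPresL34ASix96
import Cfsg.Agent.Lib.TransvectionConj
import Cfsg.Agent.Lib.PSLSimple
import Cfsg.Agent.S2550
import Cfsg.Agent.S0497

/-!
# Subgroups of `PSL₃(4)`

Order, small indices, involutions of the point stabilisers, subgroups of order eight times odd, and
a third involution for the subgroups of order `360`.
-/

set_option autoImplicit false
set_option linter.unusedSectionVars false

namespace Cfsg.Agent.SuzPresL34Sub96

open Matrix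
open scoped MatrixGroups

universe u

section Model

variable {F : Type} [Field F] [Fintype F]

local notation "proj" => QuotientGroup.mk' (Subgroup.center SL(3, F))
local notation "PSL₃" => Matrix.ProjectiveSpecialLinearGroup (Fin 3) F

theorem cm (A B : SL(3, F)) : (A * B).1 = A.1 * B.1 := rfl

theorem c1 : (1 : SL(3, F)).1 = 1 := rfl

theorem cp (A : SL(3, F)) (n : ℕ) : (A ^ n).1 = A.1 ^ n := by
  induction n with
  | zero => rfl
  | succ n ih => rw [pow_succ, pow_succ, cm, ih]

theorem rank_zero {M : Matrix (Fin 3) (Fin 3) F} (h : M.rank = 0) : M = 0 := by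
  have h' : M.mulVecLin.range = ⊥ := Submodule.finrank_eq_zero.mp h
  exact Matrix.toLin'.injective (by
    rw [map_zero, Matrix.toLin'_apply']
    exact LinearMap.range_eq_bot.mp h')

theorem char_two (hF : Fintype.card F = 4) : (2 : F) = 0 := by
  have h : ((4 : ℕ) : F) = 0 := by rw [← hF]; exact FiniteField.cast_card_eq_zero F
  exact mul_self_eq_zero.mp (by push_cast at h; linear_combination h)

theorem proj_eq {X Y : SL(3, F)} {r : F} (h : (X).1 = r • (Y).1) :
    proj X = proj Y := by
  have hz : Y⁻¹ * X ∈ Subgroup.center SL(3, F) := by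
    have he : ((Y⁻¹ * X : SL(3, F))).1 = r • 1 := by
      rw [cm, h, Matrix.mul_smul, ← cm,
        inv_mul_cancel, c1]
    rw [Subgroup.mem_center_iff]
    intro g
    apply Subtype.ext
    rw [cm g, cm _ g, he, Matrix.mul_smul,
      Matrix.smul_mul, mul_one, one_mul]
  exact (QuotientGroup.eq.mpr hz).symm

/-- The standard transvection. -/
def T0 : SL(3, F) := ⟨!![1, 0, 0; 1, 1, 0; 0, 0, 1], by simp [Matrix.det_fin_three]⟩

theorem T0_transvection (h2 : (2 : F) = 0) :
    Cfsg.IsTransvection ((T0 : SL(3, F))).1 := by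
  have hN : ((T0 : SL(3, F))).1 - 1 = vecMulVec ![0, 1, 0] ![1, 0, 0] := by
    ext i j
    fin_cases i <;> fin_cases j <;> simp [T0, vecMulVec]
  refine ⟨?_, ?_⟩
  · refine le_antisymm ?_ (Nat.one_le_iff_ne_zero.mpr fun h => ?_)
    · rw [hN]; exact Matrix.rank_vecMulVec_le _ _
    · replace h := rank_zero h
      rw [hN] at h
      have := congrArg (fun M : Matrix (Fin 3) (Fin 3) F => M 1 0) h
      simp [vecMulVec] at this
  · rw [hN]
    ext i j
    fin_cases i <;> fin_cases j <;> simp [Matrix.mul_apply, Fin.sum_univ_three, vecMulVec]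

theorem conj_T0 (hF : Fintype.card F = 4) {j : PSL₃} (hj : orderOf j = 2) :
    IsConj j (proj T0) := by
  have h2 := char_two hF
  obtain ⟨s, rfl⟩ := QuotientGroup.mk'_surjective _ j
  have hs2 : s * s ∈ Subgroup.center SL(3, F) := by
    have := pow_orderOf_eq_one (proj s)
    rw [hj, pow_two, ← map_mul] at this
    exact (QuotientGroup.eq_one_iff _).mp this
  set z := s * s with hz
  have hz3 : z ^ 3 = 1 := by
    obtain ⟨r, hr, he⟩ := Matrix.SpecialLinearGroup.mem_center_iff.mp hs2
    rw [Fintype.card_fin] at hr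
    apply Subtype.ext
    rw [cp, ← he, ← map_pow, hr, map_one, c1]
  set s₀ := s * z with hs0
  have hs0z : proj s₀ = proj s := by
    rw [hs0, map_mul, show proj z = 1 from (QuotientGroup.eq_one_iff _).mpr hs2, mul_one]
  have hsq : s₀ * s₀ = 1 := by
    rw [hs0]
    calc s * z * (s * z) = s * s * (z * z) := by
          rw [hz]; group
      _ = z ^ 3 := by rw [← hz, pow_three]
      _ = 1 := hz3
  have hne : s₀ ≠ 1 := fun e => by
    rw [← hs0z, e, map_one, orderOf_one] at hj
    omega
  set N := (s₀).1 - 1 with hN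
  have hNN : N * N = 0 := by
    have hM : (s₀).1 * s₀ = 1 := by
      rw [← cm, hsq, c1]
    have h : N * N = (s₀).1 * s₀ + 1 -
        (2 : F) • (s₀).1 := by
      rw [hN, two_smul]; noncomm_ring
    rw [h, hM, h2, zero_smul, sub_zero]
    ext i j
    fin_cases i <;> fin_cases j <;> simp [← two_mul, h2] <;> linear_combination h2
  have hN0 : N ≠ 0 := fun h => hne (Subtype.ext (by
    rw [hN, sub_eq_zero] at h; rw [h, c1]))
  have hrank : N.rank = 1 := by
    have h1 := Matrix.rank_add_rank_le_card_of_mul_eq_zero hNN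
    rw [Fintype.card_fin] at h1
    have : N.rank ≠ 0 := fun h => hN0 (rank_zero h)
    omega
  rw [← hs0z]
  exact MonoidHom.map_isConj proj
    (TransvectionConj.isConj_three s₀ T0 ⟨hrank, hNN⟩ (T0_transvection h2))

theorem cit (hF : Fintype.card F = 4) :
    ∀ j : PSL₃, orderOf j = 2 → IsPGroup 2 (Subgroup.centralizer ({j} : Set PSL₃)) := by
  intro j hj
  haveI : Fact (Nat.Prime 2) := ⟨Nat.prime_two⟩
  have h2 := char_two hF
  obtain ⟨c, hc⟩ := isConj_iff.mp (conj_T0 hF hj)
  refine fun h => ⟨2, ?_⟩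
  obtain ⟨g, hg⟩ := QuotientGroup.mk'_surjective (Subgroup.center SL(3, F)) (c * (h : PSL₃) * c⁻¹)
  have hcomm : proj (g * T0) = proj (T0 * g) := by
    rw [map_mul, map_mul, hg, ← hc]
    have := Subgroup.mem_centralizer_singleton_iff.mp h.2
    calc c * (h : PSL₃) * c⁻¹ * (c * j * c⁻¹) = c * ((h : PSL₃) * j) * c⁻¹ := by group
      _ = c * (j * (h : PSL₃)) * c⁻¹ := by rw [this]
      _ = _ := by group
  obtain ⟨r, -, hr⟩ := Matrix.SpecialLinearGroup.mem_center_iff.mp (QuotientGroup.eq.mp hcomm.symm)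
  have heq : (g).1 * (T0 : SL(3, F)) =
      r • (((T0 : SL(3, F))).1 * g) := by
    rw [← cm, ← cm,
      show g * T0 = T0 * g * ((T0 * g)⁻¹ * (g * T0)) by rw [mul_inv_cancel_left],
      cm _ ((T0 * g)⁻¹ * (g * T0)), ← hr]
    ext i k
    simp [Matrix.scalar_apply, Matrix.mul_diagonal, mul_comm]
  set M := (g).1 with hM
  have ent : ∀ i k, (M * ((T0 : SL(3, F))).1) i k =
      r * (((T0 : SL(3, F))).1 * M) i k := fun i k => by rw [heq]; rfl
  simp only [T0, Matrix.mul_apply, Fin.sum_univ_three] at ent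
  have e00 := ent 0 0
  have e01 := ent 0 1
  have e02 := ent 0 2
  have e10 := ent 1 0
  have e11 := ent 1 1
  have e21 := ent 2 1
  have e22 := ent 2 2
  have e20 := ent 2 0
  have e12 := ent 1 2
  simp at e00 e01 e02 e10 e11 e21 e22 e20 e12
  have hdet : M.det = 1 := g.2
  rw [Matrix.det_fin_three] at hdet
  have hr1 : r = 1 := by
    by_contra hr1
    have z : ∀ x : F, x = r * x → x = 0 := fun x hx =>
      (mul_eq_zero.mp (show (r - 1) * x = 0 by linear_combination -hx)).resolve_left
        (sub_ne_zero.mpr hr1)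
    have a01 := z _ e01
    have a02 := z _ e02
    rw [a01, add_zero] at e00
    have a00 := z _ e00
    rw [a00, a01, a02] at hdet
    simp at hdet
  rw [hr1, one_mul] at e00 e10 e11 e20 e12
  have a01 : M 0 1 = 0 := by linear_combination e00
  have a21 : M 2 1 = 0 := by linear_combination e20
  have a02 : M 0 2 = 0 := by linear_combination -e12
  have a11 : M 1 1 = M 0 0 := by linear_combination e10
  rw [a01, a02, a21, a11] at hdet
  ring_nf at hdet
  have a0 : M 0 0 ≠ 0 := fun h0 => by rw [h0] at hdet; simp at hdet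
  have hp := FiniteField.pow_card_sub_one_eq_one (M 0 0) a0
  rw [hF] at hp
  have a22 : M 2 2 = M 0 0 := by linear_combination (M 0 0) * hdet - (M 2 2) * hp
  have hg4 : (M * M) * (M * M) = (M 0 0) ^ 4 • (1 : Matrix (Fin 3) (Fin 3) F) := by
    haveI : CharP F 2 := CharTwo.of_one_ne_zero_of_two_eq_zero one_ne_zero h2
    ext i k
    fin_cases i <;> fin_cases k <;>
      simp [Matrix.mul_apply, Fin.sum_univ_three, a01, a02, a21, a11, a22] <;> ring_nf <;>
      simp [h2, show (4 : F) = 2 * 2 by norm_num, show (6 : F) = 2 * 3 by norm_num]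
  have h4 : proj (g ^ 4) = proj 1 := proj_eq (r := (M 0 0) ^ 4) (by
    rw [cp, c1, ← hM, ← hg4]
    noncomm_ring)
  rw [map_pow, hg, map_one, conj_pow, conj_eq_one_iff] at h4
  exact Subtype.ext h4

open Cfsg.Agent.S2550 (M4 mm rM stepM)

theorem model_fact' : ∀ a b : M4, ((rM a b 5).2.1 = 0 ∧ (rM a b 5).2.2 = 0) ∨
    ((rM a b 12).2.1 = 0 ∧ (rM a b 12).2.2 = 0) ∨ ((rM a b 7).2.1 = 0 ∧ (rM a b 7).2.2 = 0) := by
  decide +kernel

theorem ord_fact (hK : Fintype.card F = 4) (x : PSL₃) : x ^ 5 = 1 ∨ x ^ 7 = 1 ∨ x ^ 12 = 1 := by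
  classical
  obtain ⟨g, rfl⟩ := QuotientGroup.mk'_surjective _ x
  haveI : CharP F 2 := CharTwo.of_one_ne_zero_of_two_eq_zero one_ne_zero (char_two hK)
  -- scalar powers of `g`
  obtain ⟨w, hw0, hw1⟩ : ∃ w : F, w ≠ 0 ∧ w ≠ 1 := by
    by_contra hcon
    push Not at hcon
    have : Fintype.card F ≤ 2 := by
      rw [← Finset.card_univ]
      refine (Finset.card_le_card (t := {0, 1}) fun x _ => ?_).trans Finset.card_le_two
      by_cases hx : x = 0
      · simp [hx]
      · simp [hcon x hx]
    omega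
  have h2 : (2 : F) = 0 := CharTwo.two_eq_zero
  have hw : w * w = 1 + w := by
    have h3 : w ^ 3 = 1 := by
      have := FiniteField.pow_card_sub_one_eq_one w hw0
      rwa [hK] at this
    have h' : (w - 1) * (w * w - (1 + w)) = 0 := by linear_combination h3 + (1 - w ^ 2) * h2
    exact sub_eq_zero.1 ((mul_eq_zero.1 h').resolve_left (sub_ne_zero.2 hw1))
  let φ : M4 → F := fun p => (ZMod.castHom (dvd_refl 2) F p.1) + (ZMod.castHom (dvd_refl 2) F p.2) * w
  have hφadd : ∀ p q, φ (p + q) = φ p + φ q := by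
    intro p q; simp only [φ, Prod.fst_add, Prod.snd_add, map_add]; ring
  have hφmul : ∀ p q, φ (mm p q) = φ p * φ q := by
    intro p q; simp only [φ, mm, map_add, map_mul]; linear_combination -(ZMod.castHom (dvd_refl 2) F p.2) * (ZMod.castHom (dvd_refl 2) F q.2) * hw
  have hφinj : Function.Injective φ := by
    have hz : ∀ p, φ p = 0 → p = 0 := by
      rintro ⟨x, y⟩ h
      have hd : ∀ x : ZMod 2, x = 0 ∨ x = 1 := by decide
      rcases hd x with rfl | rfl <;> rcases hd y with rfl | rfl
      · rfl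
      · exact absurd (by simpa [φ] using h) hw0
      · exact absurd (by simpa [φ] using h) (one_ne_zero (α := F))
      · refine absurd ?_ hw1
        have h' : (1 : F) + w = 0 := by simpa [φ] using h
        rw [CharTwo.add_eq_zero] at h'
        exact h'.symm
    intro p q h
    have h' : φ (p + q) = 0 := by rw [hφadd, h, CharTwo.add_self_eq_zero]
    have := hz _ h'
    exact Prod.ext (CharTwo.add_eq_zero.1 (congrArg Prod.fst this)) (CharTwo.add_eq_zero.1 (congrArg Prod.snd this))
  have hφsurj : Function.Surjective φ := by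
    refine ((Fintype.bijective_iff_injective_and_card φ).2 ⟨hφinj, ?_⟩).2
    rw [hK]; rfl
  let M : Matrix (Fin 3) (Fin 3) F := (g : Matrix (Fin 3) (Fin 3) F)
  obtain ⟨a, ha⟩ := hφsurj (M.charpoly.coeff 2)
  obtain ⟨b, hb⟩ := hφsurj (M.charpoly.coeff 1)
  have hM : M ^ 3 = φ a • M ^ 2 + φ b • M + 1 := by
    have hd : M.charpoly.natDegree = 3 := by rw [Matrix.charpoly_natDegree_eq_dim, Fintype.card_fin]
    have h := M.aeval_self_charpoly
    rw [Polynomial.aeval_eq_sum_range, hd] at h
    have hlc : M.charpoly.coeff 3 = 1 := by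
      have := M.charpoly_monic
      rw [Polynomial.Monic, Polynomial.leadingCoeff, hd] at this
      exact this
    have hc0 : M.charpoly.coeff 0 = 1 := by
      have hdet := Matrix.det_eq_sign_charpoly_coeff M
      rw [g.2, Fintype.card_fin, CharTwo.neg_eq, one_pow, one_mul] at hdet
      exact hdet.symm
    simp only [Finset.sum_range_succ, Finset.sum_range_zero, zero_add, pow_zero, pow_one, hlc, hc0, one_smul, ← ha, ← hb] at h
    ext i j
    have hij := congrFun (congrFun h i) j
    simp only [Matrix.add_apply, Matrix.smul_apply, Matrix.zero_apply] at hij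
    simp only [Matrix.add_apply, Matrix.smul_apply]
    rw [CharTwo.add_eq_zero] at hij
    rw [← hij]
    ring
  have hpow : ∀ k, M ^ k = φ (rM a b k).1 • (1 : Matrix (Fin 3) (Fin 3) F) + φ (rM a b k).2.1 • M + φ (rM a b k).2.2 • M ^ 2 := by
    intro k
    induction k with
    | zero => simp [rM, φ]
    | succ k ih =>
      rw [pow_succ, ih]
      simp only [rM, stepM, hφadd, hφmul, add_mul, Matrix.smul_mul, one_mul, ← pow_two, ← pow_succ, hM, smul_add,
        smul_smul, add_smul]
      rw [mul_comm (φ a), mul_comm (φ b)]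
      abel
  have hscal : ∀ k, (rM a b k).2.1 = 0 → (rM a b k).2.2 = 0 → g ^ k ∈ Subgroup.center (Matrix.SpecialLinearGroup (Fin 3) F) := by
    intro k h1 h2'
    rw [Subgroup.mem_center_iff]
    intro x
    apply Subtype.ext
    have hz : φ (0 : M4) = 0 := by simp [φ]
    rw [Matrix.SpecialLinearGroup.coe_mul, Matrix.SpecialLinearGroup.coe_mul, Matrix.SpecialLinearGroup.coe_pow,
      hpow k, h1, h2', hz, zero_smul, zero_smul, add_zero, add_zero, Matrix.smul_mul, Matrix.mul_smul, one_mul, mul_one]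
  have hp : ∀ k, g ^ k ∈ Subgroup.center SL(3, F) → (proj g) ^ k = 1 := fun k h => by
    rw [← map_pow]
    exact (QuotientGroup.eq_one_iff _).mpr h
  rcases model_fact' a b with ⟨h1, h2'⟩ | ⟨h1, h2'⟩ | ⟨h1, h2'⟩
  · exact Or.inl (hp 5 (hscal 5 h1 h2'))
  · exact Or.inr (Or.inr (hp 12 (hscal 12 h1 h2')))
  · exact Or.inr (Or.inl (hp 7 (hscal 7 h1 h2')))

theorem card_psl (hF : Fintype.card F = 4) : Nat.card PSL₃ = 20160 := by
  have h4' : Nat.card F = 4 := by rw [Nat.card_eq_fintype_card, hF]
  have h1 := PSLCard.card_SL (F := F) 3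
  have h2 := PSLCard.card_PSL_mul (F := F) 3
  rw [h4', Fin.prod_univ_three] at h1
  rw [h4'] at h2
  norm_num at h1 h2
  omega

/-- An upper unitriangular matrix. -/
def um (p : F × F × F) : SL(3, F) :=
  ⟨!![1, p.1, p.2.1; 0, 1, p.2.2; 0, 0, 1], by simp [Matrix.det_fin_three]⟩

theorem um_mul (p q : F × F × F) :
    um p * um q = um (p.1 + q.1, p.2.1 + q.2.1 + p.1 * q.2.2, p.2.2 + q.2.2) := by
  apply Subtype.ext
  rw [cm]
  ext i j
  fin_cases i <;> fin_cases j <;> simp [um, Matrix.mul_apply, Fin.sum_univ_three] <;> ring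

theorem um_zero : um (0 : F × F × F) = 1 := by
  apply Subtype.ext
  ext i j
  fin_cases i <;> fin_cases j <;> simp [um]

theorem um_inj : Function.Injective fun p : F × F × F => proj (um p) := by
  intro p q h
  obtain ⟨r, -, hr⟩ := Matrix.SpecialLinearGroup.mem_center_iff.mp (QuotientGroup.eq.mp h)
  have e : (um q).1 = (um p).1 * Matrix.scalar (Fin 3) r := by
    rw [hr, ← cm, mul_inv_cancel_left]
  have e00 := congrArg (fun M : Matrix (Fin 3) (Fin 3) F => M 0 0) e
  have e01 := congrArg (fun M : Matrix (Fin 3) (Fin 3) F => M 0 1) e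
  have e02 := congrArg (fun M : Matrix (Fin 3) (Fin 3) F => M 0 2) e
  have e12 := congrArg (fun M : Matrix (Fin 3) (Fin 3) F => M 1 2) e
  simp [um, Matrix.mul_apply, Fin.sum_univ_three, Matrix.scalar_apply, Matrix.diagonal] at e00 e01 e02 e12
  subst e00
  simp at e01 e02 e12
  exact Prod.ext e01.symm (Prod.ext e02.symm e12.symm)

/-- The image of the upper unitriangular group. -/
def UT (h2 : (2 : F) = 0) : Subgroup PSL₃ where
  carrier := Set.range fun p : F × F × F => proj (um p)
  one_mem' := ⟨0, by simp only [um_zero, map_one]⟩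
  mul_mem' := by
    rintro _ _ ⟨p, rfl⟩ ⟨q, rfl⟩
    exact ⟨_, by simp only; rw [← map_mul, um_mul]⟩
  inv_mem' := by
    rintro _ ⟨p, rfl⟩
    refine ⟨(p.1, p.2.1 + p.1 * p.2.2, p.2.2), (inv_eq_of_mul_eq_one_right ?_).symm⟩
    show proj (um p) * proj (um _) = 1
    rw [← map_mul, um_mul, ← map_one proj, ← um_zero]
    refine congrArg (fun v => proj (um v)) (Prod.ext ?_ (Prod.ext ?_ ?_)) <;>
      simp only [Prod.fst_zero, Prod.snd_zero] <;>
      first
        | linear_combination p.1 * h2
        | linear_combination p.2.2 * h2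
        | linear_combination (p.2.1 + p.1 * p.2.2) * h2

theorem sylow_fact (hF : Fintype.card F = 4) (P : Subgroup PSL₃) (hP : Nat.card P = 64) :
    22 ≤ {x : PSL₃ | x ∈ P ∧ orderOf x = 2}.ncard ∧ ∃ a ∈ P, ∃ b ∈ P, a * b ≠ b * a := by
  classical
  haveI : Fact (Nat.Prime 2) := ⟨Nat.prime_two⟩
  have h2 := char_two hF
  have hU : Nat.card (UT (F := F) h2) = 64 := by
    show Nat.card (Set.range fun p : F × F × F => proj (um p)) = 64
    rw [Nat.card_range_of_injective um_inj, Nat.card_prod, Nat.card_prod,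
      Nat.card_eq_fintype_card, hF]
  have hc : Nat.card PSL₃ = 2 ^ 6 * 315 := by rw [card_psl hF]; rfl
  have hf : (Nat.card PSL₃).factorization 2 = 6 := by
    rw [hc, Nat.factorization_mul (by norm_num) (by norm_num), Finsupp.add_apply,
      Nat.prime_two.factorization_pow, Finsupp.single_eq_same,
      Nat.factorization_eq_zero_of_not_dvd (by norm_num : ¬ 2 ∣ 315)]
  let S : Sylow 2 PSL₃ := Sylow.ofCard P (by rw [hP, hf]; norm_num)
  let T : Sylow 2 PSL₃ := Sylow.ofCard (UT (F := F) h2) (by rw [hU, hf]; norm_num)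
  obtain ⟨g, hg⟩ := MulAction.exists_smul_eq PSL₃ T S
  have key : ∀ p : F × F × F, g * proj (um p) * g⁻¹ ∈ P := fun p => by
    have e : ((g • T : Sylow 2 PSL₃) : Subgroup PSL₃) = P := by rw [hg]; exact Sylow.coe_ofCard _ _
    rw [← e, Sylow.coe_subgroup_smul, Sylow.coe_ofCard]
    exact ⟨_, ⟨p, rfl⟩, rfl⟩
  constructor
  · let A : Finset (F × F × F) := (({0} : Finset F) ×ˢ (Finset.univ : Finset (F × F))).erase 0 ∪
      ((Finset.univ : Finset F).erase 0 ×ˢ ((Finset.univ : Finset F) ×ˢ ({0} : Finset F)))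
    have hA : 22 ≤ A.card := by
      rw [Finset.card_union_of_disjoint]
      · rw [Finset.card_erase_of_mem (by simp), Finset.card_product, Finset.card_product,
          Finset.card_product, Finset.card_erase_of_mem (Finset.mem_univ _)]
        simp [hF]
      · rw [Finset.disjoint_left]
        rintro ⟨a, b⟩ h1 h2
        simp only [Finset.mem_erase, Finset.mem_product, Finset.mem_singleton] at h1 h2
        exact h2.1.1 h1.2.1
    refine hA.trans ?_
    rw [← Set.ncard_coe_finset]
    refine Set.ncard_le_ncard_of_injOn (fun p => g * proj (um p) * g⁻¹) ?_ ?_ (Set.toFinite _)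
    · intro p hp
      refine ⟨key p, ?_⟩
      have hne : p ≠ 0 := by
        rintro rfl
        simp [A] at hp
      have hac : p.1 * p.2.2 = 0 := by
        simp only [A, Finset.coe_union, Set.mem_union, Finset.mem_coe, Finset.mem_erase,
          Finset.mem_product, Finset.mem_singleton] at hp
        rcases hp with ⟨-, h, -⟩ | ⟨-, -, h⟩ <;> rw [h] <;> ring
      refine orderOf_eq_prime ?_ fun e => hne (um_inj ?_)
      · rw [conj_pow, pow_two, ← map_mul, um_mul,
          show (p.1 + p.1, p.2.1 + p.2.1 + p.1 * p.2.2, p.2.2 + p.2.2) = (0 : F × F × F) from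
            Prod.ext (show p.1 + p.1 = 0 by linear_combination p.1 * h2)
              (Prod.ext (show p.2.1 + p.2.1 + p.1 * p.2.2 = 0 by
                  linear_combination p.2.1 * h2 + hac)
                (show p.2.2 + p.2.2 = 0 by linear_combination p.2.2 * h2)),
          um_zero, map_one, mul_one, mul_inv_cancel]
      · show proj (um p) = proj (um 0)
        rw [um_zero, map_one]
        exact conj_eq_one_iff.mp e
    · intro p _ q _ e
      exact um_inj (mul_left_cancel (mul_right_cancel e))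
  · refine ⟨_, key (1, 0, 0), _, key (0, 0, 1), fun e => ?_⟩
    have e' : proj (um (1, 0, 0) * um (0, 0, 1)) = proj (um ((0, 0, 1) : F × F × F) * um (1, 0, 0)) := by
      have h : g * (proj (um (1, 0, 0)) * proj (um (0, 0, 1))) * g⁻¹
          = g * (proj (um ((0, 0, 1) : F × F × F)) * proj (um (1, 0, 0))) * g⁻¹ := by
        simpa [mul_assoc] using e
      rw [map_mul, map_mul]
      exact mul_left_cancel (mul_right_cancel h)
    rw [um_mul, um_mul] at e'
    have := congrArg (fun v : F × F × F => v.2.1) (um_inj e')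
    simp at this

theorem facts_psl (hF : Fintype.card F = 4) : Facts PSL₃ where
  card := card_psl hF
  simple := PSLSimple.isSimpleGroup_PSL (PSLSimple.commutator_SL_eq_top (by simp))
  ord := ord_fact hF
  cit := fun j g hj hc => by
    obtain ⟨k, hk⟩ := cit hF j hj ⟨g, Subgroup.mem_centralizer_singleton_iff.mpr hc⟩
    exact ⟨k, congrArg Subtype.val hk⟩
  sylow := sylow_fact hF

end Model

/-- The facts transported along an isomorphism. -/
theorem Facts.ofEquiv {X : Type*} [Group X] [Finite X] {L : Type u} [Group L] (hX : Facts X)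
    (e : L ≃* X) : Facts L where
  card := (Nat.card_congr e.toEquiv).trans hX.card
  simple := by
    haveI := hX.simple
    haveI : Nontrivial L := e.toEquiv.nontrivial
    exact IsSimpleGroup.isSimpleGroup_of_surjective e.symm.toMonoidHom e.symm.surjective
  ord := fun g => by
    simpa only [← map_pow, EmbeddingLike.map_eq_one_iff] using hX.ord (e g)
  cit := fun j g hj hc => by
    obtain ⟨k, hk⟩ := hX.cit (e j) (e g) (by rw [e.orderOf_eq, hj]) (by rw [← map_mul, hc, map_mul])
    exact ⟨k, e.injective (by rw [map_pow, hk, map_one])⟩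
  sylow := fun P hP => by
    obtain ⟨h22, a, ha, b, hb, hab⟩ := hX.sylow (P.map e.toMonoidHom)
      (by rw [Subgroup.card_map_of_injective (f := e.toMonoidHom) e.injective, hP])
    refine ⟨h22.trans ?_, ?_⟩
    · refine Set.ncard_le_ncard_of_injOn e.symm ?_ e.symm.injective.injOn
        (Set.Finite.subset ((Set.toFinite (Set.univ : Set X)).image e.symm)
          fun x _ => ⟨e x, trivial, e.symm_apply_apply x⟩)
      rintro x ⟨⟨y, hy, rfl⟩, ho⟩
      refine ⟨by simpa using hy, ?_⟩
      rw [e.symm.orderOf_eq]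
      exact ho
    · obtain ⟨a', ha', rfl⟩ := ha
      obtain ⟨b', hb', rfl⟩ := hb
      exact ⟨a', ha', b', hb', fun h => hab (by
        show e a' * e b' = e b' * e a'
        rw [← map_mul, h, map_mul])⟩

variable {F : Type} [Field F] [Fintype F] {L : Type u} [Group L]

theorem finite_of_equiv (e : L ≃* Matrix.ProjectiveSpecialLinearGroup (Fin 3) F) : Finite L :=
  Finite.of_equiv _ e.symm.toEquiv

theorem facts (hF : Fintype.card F = 4) (e : L ≃* Matrix.ProjectiveSpecialLinearGroup (Fin 3) F) :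
    Facts L :=
  (facts_psl hF).ofEquiv e

theorem card_eq (hF : Fintype.card F = 4) (e : L ≃* Matrix.ProjectiveSpecialLinearGroup (Fin 3) F) :
    Nat.card L = 20160 :=
  (facts hF e).card

theorem index_small (hF : Fintype.card F = 4)
    (e : L ≃* Matrix.ProjectiveSpecialLinearGroup (Fin 3) F) (H : Subgroup L) (h : H.index < 42) :
    H.index = 1 ∨ H.index = 15 ∨ H.index = 21 := by
  haveI := finite_of_equiv e
  exact (facts hF e).index_small H h

theorem invol_count (hF : Fintype.card F = 4)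
    (e : L ≃* Matrix.ProjectiveSpecialLinearGroup (Fin 3) F) (H : Subgroup L)
    (h : H.index = 15 ∨ H.index = 21) : 22 ≤ {x : L | x ∈ H ∧ orderOf x = 2}.ncard := by
  haveI := finite_of_equiv e
  exact (facts hF e).invol_count H h

theorem card_eight_odd (hF : Fintype.card F = 4)
    (e : L ≃* Matrix.ProjectiveSpecialLinearGroup (Fin 3) F) (H : Subgroup L)
    (h8 : 8 ∣ Nat.card H) (h16 : ¬ 16 ∣ Nat.card H) (hbig : 125 ≤ Nat.card H) :
    Nat.card H = 168 ∨ Nat.card H = 360 := by
  haveI := finite_of_equiv e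
  exact (facts hF e).card_eight_odd H h8 h16 hbig

theorem exists_b (hF : Fintype.card F = 4)
    (e : L ≃* Matrix.ProjectiveSpecialLinearGroup (Fin 3) F) {f g z : L} (H : Subgroup L)
    (h : Nat.card H = 360) (hf : f ∈ H) (hg : g ∈ H) (hff : f * f = 1) (hgg : g * g = 1)
    (hfg : (f * g) * (f * g) = z) (hzz : z * z = 1) (hz1 : z ≠ 1)
    (_hC : ∀ x ∈ H, x * z = z * x → x ∈ Subgroup.closure ({f, g} : Set L)) :
    ∃ b ∈ H, orderOf b = 2 ∧ (b * f) ^ 3 = 1 ∧ (b * g) ^ 3 = 1 ∧ (b * f * g) ^ 5 = 1 := by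
  haveI := finite_of_equiv e
  have hFL := facts hF e
  set f' : H := ⟨f, hf⟩
  set g' : H := ⟨g, hg⟩
  set z' : H := f' * g' * (f' * g') with hz'
  have hff' : f' * f' = 1 := Subtype.ext hff
  have hgg' : g' * g' = 1 := Subtype.ext hgg
  have hzv : (z' : L) = z := hfg
  have hzz' : z' * z' = 1 := Subtype.ext (by rw [Subgroup.coe_mul, hzv]; exact hzz)
  have hz1' : z' ≠ 1 := fun e' => hz1 (by rw [← hzv, e']; rfl)
  have hfne : f' ≠ 1 := fun e' => hz1' (by rw [hz', e', one_mul, hgg'])
  have hfi : f'⁻¹ = f' := inv_eq_of_mul_eq_one_right hff'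
  have hgi : g'⁻¹ = g' := inv_eq_of_mul_eq_one_right hgg'
  have hzi : z'⁻¹ = z' := inv_eq_of_mul_eq_one_right hzz'
  have hfz : f' * z' = z' * f' := by
    calc f' * z' = f' * z'⁻¹ := by rw [hzi]
      _ = f' * ((g' * f') * (g' * f')) := by rw [hz', _root_.mul_inv_rev, _root_.mul_inv_rev, hfi, hgi]
      _ = z' * f' := by rw [hz']; simp only [mul_assoc]
  have hne : f' ≠ z' := fun e' => by
    have h1 : g' * f' * g' = 1 := by
      calc g' * f' * g' = f' * (f' * g' * (f' * g')) := by
            simp only [← mul_assoc, hff', one_mul]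
        _ = 1 := by rw [← hz', ← e', hff']
    apply hfne
    calc f' = g' * (g' * f' * g') * g' := by
          simp only [← mul_assoc, hgg', one_mul]
          rw [mul_assoc, hgg', mul_one]
      _ = 1 := by rw [h1, mul_one, hgg']
  haveI := hFL.simple_of_360 H h hff' hzz' hfz hfne hz1' hne
  obtain ⟨σ⟩ := Cfsg.Agent.S0497.result (G := H) h
  set p : alternatingGroup (Fin 6) := σ f'
  obtain ⟨c, hc, hcs⟩ := SuzPresL34ASix96.conj_f0 p.1
    (congrArg Subtype.val (show p * p = 1 by rw [← map_mul, hff', map_one]))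
    (fun e' => hfne (σ.injective (by rw [map_one]; exact Subtype.ext e')))
    (Equiv.Perm.mem_alternatingGroup.mp p.2)
  set c' : alternatingGroup (Fin 6) := ⟨c, Equiv.Perm.mem_alternatingGroup.mpr hcs⟩
  set ψ := σ.trans (MulAut.conj c') with hψ
  have hψf : ((ψ f' : alternatingGroup (Fin 6)) : Equiv.Perm (Fin 6)) = SuzPresL34ASix96.f0 := by
    show c * p.1 * c⁻¹ = _
    rw [hc, mul_inv_cancel_right]
  have hψz : ((ψ z' : alternatingGroup (Fin 6)) : Equiv.Perm (Fin 6))
      = SuzPresL34ASix96.f0 * (ψ g' : Equiv.Perm (Fin 6)) *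
        (SuzPresL34ASix96.f0 * (ψ g' : Equiv.Perm (Fin 6))) := by
    rw [hz', map_mul, map_mul, Subgroup.coe_mul, Subgroup.coe_mul, hψf]
  obtain ⟨b, hb2, hb1, hbf, hbg, hb5, hbs⟩ := SuzPresL34ASix96.exists_third (ψ g').1
    (congrArg Subtype.val (show ψ g' * ψ g' = 1 by rw [← map_mul, hgg', map_one]))
    (by
      rw [← hψz]
      exact fun e' => hz1' (ψ.injective (by rw [map_one]; exact Subtype.ext e')))
    (by
      rw [← hψz]
      exact congrArg Subtype.val (show ψ z' * ψ z' = 1 by rw [← map_mul, hzz', map_one]))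
    (Equiv.Perm.mem_alternatingGroup.mp (ψ g').2)
  set b' := ψ.symm ⟨b, Equiv.Perm.mem_alternatingGroup.mpr hbs⟩ with hb'
  have hψb : (ψ b').1 = b := by rw [hb', MulEquiv.apply_symm_apply]
  have lift : ∀ u : H, ((ψ u : alternatingGroup (Fin 6)) : Equiv.Perm (Fin 6)) = 1 → (u : L) = 1 :=
    fun u hu => by
      rw [show u = 1 from ψ.injective (by rw [map_one]; exact Subtype.ext hu)]; rfl
  refine ⟨b', b'.2, orderOf_eq_prime ?_ ?_, ?_, ?_, ?_⟩
  · rw [pow_two]
    exact lift (b' * b') (by rw [map_mul, Subgroup.coe_mul, hψb, hb2])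
  · intro e'
    apply hb1
    rw [← hψb, show b' = 1 from Subtype.ext e', map_one]
    rfl
  · exact lift ((b' * f') ^ 3) (by
      rw [map_pow, map_mul, Subgroup.coe_pow, Subgroup.coe_mul, hψb, hψf, hbf])
  · exact lift ((b' * g') ^ 3) (by
      rw [map_pow, map_mul, Subgroup.coe_pow, Subgroup.coe_mul, hψb, hbg])
  · exact lift ((b' * f' * g') ^ 5) (by
      rw [map_pow, map_mul, map_mul, Subgroup.coe_pow, Subgroup.coe_mul, Subgroup.coe_mul, hψb,
        hψf, hb5])

end Cfsg.Agent.SuzPresL34Sub96
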