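import Mathlib
import Cfsg.Agent.Lib.SuzPresData50
import Cfsg.Agent.Lib.SuzPresFive76
import Cfsg.Agent.Lib.SuzPresD84
import Cfsg.Agent.Lib.SuzPresCY2
import Cfsg.Agent.Lib.SuzLRecog29
import Cfsg.Agent.Lib.SuzYdExists2

/-!
The local data from which the seven generators of the Suzuki sporadic group are found.
-/

set_option autoImplicit false
set_option linter.unusedSectionVars false
set_option linter.style.haveILetI false

namespace Cfsg.Agent.SuzPresLocal76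

open Subgroup Cfsg.Agent.LargeExtraspecial Cfsg.Agent.SuzTypeCoord62 Cfsg.Agent.SuzY42Quat
open Cfsg.Agent.SuzVLocal48 Cfsg.Agent.SuzPresFrame76
open scoped commutatorElement

variable {G : Type*} [Group G] [Finite G] {Q : Subgroup G} {z y : G}

theorem triv_pow {K : Subgroup G} {p : G} (hz : z * z = 1) (h : Triv K z p) :
    ∀ n : ℕ, Triv K z (p ^ n)
  | 0 => ⟨by simp, fun g _ => Or.inl (by simp)⟩
  | n + 1 => by
    have ih := triv_pow hz h n
    refine ⟨((show Commute p z from h.pz).pow_left (n + 1)).eq, fun g hg => ?_⟩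
    have := (ih.fix g hg).conj h.pz
    rw [show p * (p ^ n * g * (p ^ n)⁻¹) * p⁻¹ = p ^ (n + 1) * g * (p ^ (n + 1))⁻¹ by
      rw [pow_succ']; group] at this
    exact this.trans hz (h.fix g hg)

theorem not_triv (Y : SuzY42Setup.Yd Q z y) : ¬ Triv ⁅Q, zpowers y⁆ z y := by
  intro h
  obtain ⟨xw, yw, q, C⟩ := Y.exists_quat_W
  have := h.fix xw q.hx
  rw [C.ax] at this
  exact q.ne_y this

theorem eq_one_of_triv (Y : SuzY42Setup.Yd Q z y) {i : ℕ} (h : Triv ⁅Q, zpowers y⁆ z (y ^ i)) :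
    y ^ i = 1 := by
  have hmod : y ^ i = y ^ (i % 3) := pow_eq_pow_mod i Y.y3
  rw [hmod] at h ⊢
  have := Nat.mod_lt i (show 3 > 0 by norm_num)
  interval_cases i % 3
  · simp
  · exact absurd (by simpa using h) (not_triv Y)
  · refine absurd ?_ (not_triv Y)
    have h4 := triv_pow Y.H.h.zz h 2
    rwa [← pow_mul, show 2 * 2 = 3 + 1 from rfl, pow_add, Y.y3, one_mul, pow_one] at h4

/-- The local data. -/
theorem exists_data (Y : SuzY42Setup.Yd Q z y) :
    ∃ v v₁ f g c, SuzPresData50.Data y z v v₁ f g c := by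
  obtain ⟨t, ht, hyt⟩ := Y.exists_sing
  obtain ⟨f, g, hf, hg, hfy, hgy, hff, hgg, hfg⟩ := SuzPresD84.exists_fg Y ht hyt
  obtain ⟨hfQ, hft⟩ := mem_Cx.1 hf
  obtain ⟨hgQ, hgt⟩ := mem_Cx.1 hg
  obtain ⟨t₁, ht₁, hyt₁, ht₁f, ht₁g, ht₁t⟩ :=
    SuzPresD84.exists_sing_off Y ht hyt hf hg hfy hgy hff hgg hfg
  have F : Fr Q z y t t₁ f g := ⟨ht.1, hyt, ht.2.1, ht₁.1, hyt₁, ht₁.2.1, hfQ, hfy, hff, hgQ, hgy,
    hgg, hfg, hft, hgt, ht₁f.symm, ht₁g.symm, ht₁t⟩
  have hzQ : ∀ {a : G}, a ∈ Q → a * z = z * a := fun ha => Y.H.h.comm _ ha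
  obtain ⟨h, hhz, hhy, hht⟩ := Y.trans_sing ht hyt ht₁ hyt₁
  have hhi : ∀ {a b : G}, h * b = b * h → a * b = b * a → h⁻¹ * a * h * b = b * (h⁻¹ * a * h) := by
    intro a b hb hab
    have := conj_comm (p := h⁻¹) hab (show Commute h b from hb).inv_left.eq
    rwa [inv_inv] at this
  -- commuting with `t₁` is commuting of the conjugate with `t`
  have pull : ∀ {a : G}, a * t₁ = t₁ * a → h⁻¹ * a * h * t = t * (h⁻¹ * a * h) := by
    intro a e
    rw [← hht] at e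
    calc h⁻¹ * a * h * t = h⁻¹ * (a * (h * t * h⁻¹)) * h := by group
      _ = h⁻¹ * (h * t * h⁻¹ * a) * h := by rw [e]
      _ = t * (h⁻¹ * a * h) := by group
  have push : ∀ {a : G}, a * t = t * a → h * a * h⁻¹ * t₁ = t₁ * (h * a * h⁻¹) := by
    intro a e
    rw [← hht]
    calc h * a * h⁻¹ * (h * t * h⁻¹) = h * (a * t) * h⁻¹ := by group
      _ = h * (t * a) * h⁻¹ := by rw [e]
      _ = h * t * h⁻¹ * (h * a * h⁻¹) := by group
  obtain ⟨V, hV⟩ := exists_cand Y ht hyt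
  haveI : Nontrivial V := Finite.one_lt_card_iff_nontrivial.1 (by rw [hV.card]; norm_num)
  obtain ⟨⟨v, hv⟩, hv1'⟩ := exists_ne (1 : V)
  have hv1 : v ≠ 1 := fun e => hv1' (Subtype.ext e)
  have hvS := SuzTypeCoord62.mem_Sx.1 (hV.le hv)
  obtain ⟨vz, vt⟩ := hvS
  have h8 : ∀ {a : G}, a * a = 1 → a ^ 8 = 1 := fun {a} e => by
    rw [show 8 = 2 * 4 from rfl, pow_mul, pow_two, e, one_pow]
  have vf : v * f = f * v :=
    (hV.S_comm f (SuzTypeCoord62.mem_Sx.2 ⟨hzQ hfQ, hft⟩) hfy.symm (h8 hff) v hv).symm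
  have vg : v * g = g * v :=
    (hV.S_comm g (SuzTypeCoord62.mem_Sx.2 ⟨hzQ hgQ, hgt⟩) hgy.symm (h8 hgg) v hv).symm
  have e2 : y * (y * v * y⁻¹) * y⁻¹ = y⁻¹ * v * y := by
    have e : y * y = y⁻¹ :=
      (inv_eq_of_mul_eq_one_right (by rw [← Y.y3]; simp [pow_succ, mul_assoc])).symm
    rw [show y * (y * v * y⁻¹) * y⁻¹ = (y * y) * v * (y * y)⁻¹ by group, e, inv_inv]
  have hfour : Four y v := by
    refine ⟨hV.sq v hv, ?_, fun e => hv1 (hV.fpf v hv e)⟩
    have ho := hV.orbit Y.y3 hv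
    rw [e2] at ho
    rw [eq_inv_of_mul_eq_one_left ho]
    refine inv_eq_of_mul_eq_one_right ?_
    rw [show y⁻¹ * v * y * (y⁻¹ * v * y) = y⁻¹ * (v * v) * y by group, hV.sq v hv]
    group
  set v₁ := h * v * h⁻¹ with hv₁
  have hfour₁ : Four y v₁ := by
    have c1 : ∀ a : G, y * (h * a * h⁻¹) * y⁻¹ = h * (y * a * y⁻¹) * h⁻¹ := fun a => by
      rw [show y * (h * a * h⁻¹) * y⁻¹ = (y * h) * a * (y * h)⁻¹ by group, ← hhy]; group
    refine ⟨?_, ?_, fun e => hfour.move ?_⟩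
    · rw [hv₁, show h * v * h⁻¹ * (h * v * h⁻¹) = h * (v * v) * h⁻¹ by group, hfour.sq]; group
    · have c2 : y⁻¹ * (h * v * h⁻¹) * y = h * (y⁻¹ * v * y) * h⁻¹ := by
        have := c1 (y⁻¹ * v * y)
        rw [show y * (y⁻¹ * v * y) * y⁻¹ = v by group] at this
        rw [← this]; group
      rw [hv₁, c1, c2, ← hfour.rel]; group
    · have := c1 v
      rw [← hv₁, e, mul_inv_cancel_right, hv₁, mul_left_inj, mul_right_inj] at this
      exact mul_inv_eq_iff_eq_mul.1 this.symm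
  have wz : v₁ * z = z * v₁ := conj_comm vz hhz
  have wt₁ : v₁ * t₁ = t₁ * v₁ := push vt
  have wfg : ∀ a : G, a ∈ Q → y * a = a * y → a * a = 1 → a * t₁ = t₁ * a →
      v₁ * a = a * v₁ := by
    intro a ha hay haa hat
    have h1 : h⁻¹ * a * h ∈ Sx z t :=
      SuzTypeCoord62.mem_Sx.2 ⟨hhi hhz (hzQ ha), pull hat⟩
    have h2 := hV.S_comm _ h1 (hhi hhy hay.symm) (h8 (by
      rw [show h⁻¹ * a * h * (h⁻¹ * a * h) = h⁻¹ * (a * a) * h by group, haa]; group)) v hv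
    calc v₁ * a = h * (v * (h⁻¹ * a * h)) * h⁻¹ := by rw [hv₁]; group
      _ = h * (h⁻¹ * a * h * v) * h⁻¹ := by rw [h2]
      _ = a * v₁ := by rw [hv₁]; group
  have wf := wfg f hfQ hfy hff ht₁f.symm
  have wg := wfg g hgQ hgy hgg ht₁g.symm
  have hvQ : v ∉ Q := fun hq => hv1 (by
    have h' : v ∈ V ⊓ Q := ⟨hv, hq⟩
    rwa [Cand.meet_Q Y ht hyt hV, mem_bot] at h')
  have vt₁ : v * t₁ ≠ t₁ * v := fun e => hvQ (four_mem_Q Y F hfour vz vt e vf vg)
  have wt : v₁ * t ≠ t * v₁ := fun e => hvQ (by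
    have hq := four_mem_Q Y F hfour₁ wz e wt₁ wf wg
    have := Y.H.h.norm h⁻¹ (show Commute h z from hhz).inv_left.eq _ hq
    rwa [show h⁻¹ * v₁ * h⁻¹⁻¹ = v by rw [hv₁]; group] at this)
  have hL : SuzLRecog29.Lsub V y = SuzPresData50.Lv v y := SuzLRecog29.Lsub_eq hV hv hv1
  -- `C(z, y, V)`
  obtain ⟨S, ch, D⟩ := SuzLChart29.exists_chart Y ht hyt
  set K := centralizer ({z} : Set G) ⊓ centralizer ({y} : Set G) ⊓ centralizer (V : Set G)
  have hSK : S = K := by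
    refine Subgroup.eq_of_le_of_card_ge (fun s hs => ?_) ?_
    · obtain ⟨h1, h2, h3⟩ := (D.mem_iff s).1 hs
      exact ⟨⟨mem_centralizer_singleton_iff.2 (SuzTypeCoord62.mem_Sx.1 h1).1,
        mem_centralizer_singleton_iff.2 h2⟩,
        mem_centralizer_iff.2 fun w hw => (hV.S_comm s h1 h2 h3 w hw).symm⟩
    · rw [cent_zyV Y ht hyt hV, ch.card_S]
  have inS : ∀ {a : G}, a * z = z * a → a ∈ SuzPresData50.Lv v y → a ∈ S := by
    intro a haz ha
    rw [hSK]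
    exact ⟨⟨mem_centralizer_singleton_iff.2 haz, ha.2⟩, (hL ▸ ha : a ∈ SuzLRecog29.Lsub V y).1⟩
  have memLv : ∀ {a : G}, a * v = v * a → a * y = y * a → a ∈ SuzPresData50.Lv v y := fun h1 h2 =>
    ⟨mem_centralizer_singleton_iff.2 h1, mem_centralizer_singleton_iff.2 h2⟩
  refine ⟨v, v₁, f, g, t, ?_⟩
  refine
    { y3 := Y.y3
      y1 := Y.y1
      card_cy := by rw [← SuzPresCY2.CY_eq]; exact SuzYdExists2.card_CY Y
      card_cyz := by rw [inf_comm]; exact Y.card_Cz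
      perfect := SuzPresCY2.perfect Y
      normal_cy := SuzPresCY2.normal_cy Y
      v2 := hfour.sq
      vy := hfour.move
      vfour := hfour.rel
      z2 := Y.H.h.zz
      z1 := Y.H.h.ne_one
      f2 := hff
      g2 := hgg
      c2 := ht.2.1
      fg := hfg
      cf := hft.symm
      cg := hgt.symm
      c1 := ht.2.2.1
      cne := ht.2.2.2
      f_mem := memLv vf.symm hfy.symm
      g_mem := memLv vg.symm hgy.symm
      c_mem := memLv vt.symm hyt.symm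
      iso := hL ▸ (SuzLRecog29.exists_iso Y ht hyt hV).2.2
      conj := ⟨h, hhy, hv₁.symm⟩
      v1f := wf
      v1g := wg
      v1c := wt
      meet := ?_
      five := SuzPresFive76.five Y F
        (fun e => e.elim ht.2.2.1 fun e => ht.2.2.2 (by simpa using e))
        (fun e => e.elim ht₁.2.2.1 fun e => ht₁.2.2.2 (by simpa using e))
        hfour hfour₁ vz vt vf vg vt₁ wz wt₁ wf wg wt
      swap := SuzPresD84.swap Y ht hyt hf hg hfy hgy hff hgg hfg
      three := SuzPresD84.three Y ht hyt }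
  intro x hx hxz k hk hxk
  have hxy : x * y = y * x := mem_centralizer_singleton_iff.1 hx.2
  have hxS := inS hxz hx
  obtain ⟨hxSx, -, hx8⟩ := (D.mem_iff x).1 hxS
  have hxt := (SuzTypeCoord62.mem_Sx.1 hxSx).2
  -- `k = 1`
  obtain ⟨n, rfl⟩ := mem_powers_iff_mem_zpowers.2 hk
  simp only at hxk
  have hxn : Commute x (y ^ n) := (show Commute x y from hxy).pow_right n
  have hpow : (x * y ^ n) ^ 16 = y ^ n := by
    rw [hxn.mul_pow, show x ^ 16 = (x ^ 8) ^ 2 by rw [← pow_mul], hx8, one_pow, one_mul, ← pow_mul,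
      pow_eq_pow_mod (n * 16) Y.y3, pow_eq_pow_mod n Y.y3]
    congr 1
    omega
  have hkv : Commute (y ^ n) v₁ := hpow ▸ (show Commute (x * y ^ n) v₁ from hxk).pow_left 16
  have hn0 : y ^ n = 1 := by
    rw [pow_eq_pow_mod n Y.y3] at hkv ⊢
    have := Nat.mod_lt n (show 3 > 0 by norm_num)
    interval_cases n % 3
    · simp
    · exact absurd (show Commute y v₁ by simpa using hkv).eq hfour₁.move
    · refine absurd ?_ hfour₁.move
      have h4 := hkv.pow_left 2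
      rw [← pow_mul, show 2 * 2 = 3 + 1 from rfl, pow_add, Y.y3, one_mul, pow_one] at h4
      exact h4.eq
  rw [hn0, mul_one] at hxk
  -- `x` centralises `t₁`
  have hxt₁ : x * t₁ = t₁ * x := by
    have hv' : h⁻¹ * x * h * v = v * (h⁻¹ * x * h) := by
      calc h⁻¹ * x * h * v = h⁻¹ * (x * v₁) * h := by rw [hv₁]; group
        _ = h⁻¹ * (v₁ * x) * h := by rw [hxk]
        _ = v * (h⁻¹ * x * h) := by rw [hv₁]; group
    have h1 := inS (hhi hhz hxz) (memLv hv' (hhi hhy hxy))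
    have h2 := push (SuzTypeCoord62.mem_Sx.1 ((D.mem_iff _).1 h1).1).2
    rwa [show h * (h⁻¹ * x * h) * h⁻¹ = x by group] at h2
  have inS' : ∀ {a : G}, a ∈ Q → y * a = a * y → a * a = 1 → a * t = t * a → a ∈ S :=
    fun ha hay haa hat => (D.mem_iff _).2
      ⟨SuzTypeCoord62.mem_Sx.2 ⟨hzQ ha, hat⟩, hay.symm, h8 haa⟩
  -- action on `f` and `g`
  have act : ∀ a : G, a ∈ S → a * t₁ = t₁ * a → x * a * x⁻¹ = a ∨ x * a * x⁻¹ = z * a := by
    intro a ha hat
    obtain ⟨a₁, b₁, c₁, rfl⟩ := (ch.mem x).1 hxS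
    obtain ⟨a₂, b₂, c₂, rfl⟩ := (ch.mem a).1 ha
    have hZ : ch.μ a₁ b₁ c₁ * ch.μ a₂ b₂ c₂ * (ch.μ a₁ b₁ c₁)⁻¹ * (ch.μ a₂ b₂ c₂)⁻¹ ∈ ch.Z := by
      rw [ch.conj, ch.inv, ch.mul, ch.two, ch.two]
      exact ch.mem_Z.2 ⟨_, rfl⟩
    set X := ch.μ a₁ b₁ c₁
    set A := ch.μ a₂ b₂ c₂
    set m := X * A * X⁻¹ * A⁻¹ with hm
    have hmt : Commute m t₁ :=
      (((show Commute X t₁ from hxt₁).mul_left hat).mul_left
        (show Commute X t₁ from hxt₁).inv_left).mul_left (show Commute A t₁ from hat).inv_left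
    have hXA : X * A * X⁻¹ = m * A := by rw [hm, inv_mul_cancel_right]
    rcases (D.Z_iff m).1 hZ with e | e | e | e
    · exact Or.inl (by rw [hXA, e, one_mul])
    · exact Or.inr (by rw [hXA, e])
    · exact absurd (e ▸ hmt : Commute t t₁).eq.symm ht₁t
    · refine absurd (Eq.symm ?_) ht₁t
      have h1 : Commute (z * t) t₁ := e ▸ hmt
      have h2 := (show Commute z t₁ from (hzQ ht₁.1).symm).inv_left.mul_left h1
      rw [inv_mul_cancel_left] at h2
      exact h2.eq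
  set H := closure ({f, g} : Set G) with hH
  have hfH : f ∈ H := subset_closure (by simp)
  have hgH : g ∈ H := subset_closure (by simp)
  have hzH : z ∈ H := hfg ▸ mul_mem (mul_mem hfH hgH) (mul_mem hfH hgH)
  have hfS := inS' hfQ hfy hff hft
  have hgS := inS' hgQ hgy hgg hgt
  have hne : ¬ f * g = g * f := nc_fg Y F
  have cgf : g * f * g⁻¹ = z * f :=
    (Y.H.h.not_comm_iff hfQ hgQ).1 fun e => hne e.symm
  have cfg : f * g * f⁻¹ = z * g := (Y.H.h.not_comm_iff hgQ hfQ).1 hne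
  have cfgf : f * g * f * (f * g)⁻¹ = z * f := by
    rw [show f * g * f * (f * g)⁻¹ = f * (g * f * g⁻¹) * f⁻¹ by group, cgf,
      ← mul_assoc f z f, hzQ hfQ]
    group
  have cfgg : f * g * g * (f * g)⁻¹ = z * g := by
    rw [show f * g * g * (f * g)⁻¹ = f * (g * g * g⁻¹) * f⁻¹ by group,
      show g * g * g⁻¹ = g by group, cfg]
  -- correct `x` by an element of `⟨f, g⟩`
  obtain ⟨d, hdH, hdS, hdt, hdt₁, ef, eg⟩ : ∃ d ∈ H, d ∈ S ∧ d * t = t * d ∧ d * t₁ = t₁ * d ∧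
      x * f * x⁻¹ = d * f * d⁻¹ ∧ x * g * x⁻¹ = d * g * d⁻¹ := by
    rcases act f hfS ht₁f.symm with a | a <;> rcases act g hgS ht₁g.symm with b | b
    · exact ⟨1, one_mem _, one_mem _, by simp, by simp, by rw [a]; group, by rw [b]; group⟩
    · exact ⟨f, hfH, hfS, hft, ht₁f.symm, by rw [a]; group, by rw [b, cfg]⟩
    · exact ⟨g, hgH, hgS, hgt, ht₁g.symm, by rw [a, cgf], by rw [b]; group⟩
    · exact ⟨f * g, mul_mem hfH hgH, mul_mem hfS hgS,
        ((show Commute f t from hft).mul_left hgt).eq,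
        ((show Commute f t₁ from ht₁f.symm).mul_left ht₁g.symm).eq,
        by rw [a, cfgf], by rw [b, cfgg]⟩
  set x' := d⁻¹ * x with hx'
  suffices hx'1 : x' = 1 ∨ x' = z by
    have : x = d * x' := by rw [hx', mul_inv_cancel_left]
    rcases hx'1 with e | e <;> rw [this, e]
    · exact mul_mem hdH (one_mem _)
    · exact mul_mem hdH hzH
  have hx'S : x' ∈ S := mul_mem (inv_mem hdS) hxS
  obtain ⟨hx'Sx, hx'y, hx'8⟩ := (D.mem_iff _).1 hx'S
  obtain ⟨hx'z, hx't⟩ := SuzTypeCoord62.mem_Sx.1 hx'Sx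
  have hx't₁ : x' * t₁ = t₁ * x' :=
    ((show Commute d t₁ from hdt₁).inv_left.mul_left hxt₁).eq
  have key : ∀ {a : G}, x * a * x⁻¹ = d * a * d⁻¹ → x' * a = a * x' := fun {a} e =>
    mul_inv_eq_iff_eq_mul.1 (by
      rw [hx', show d⁻¹ * x * a * (d⁻¹ * x)⁻¹ = d⁻¹ * (x * a * x⁻¹) * d by group, e]; group)
  have hc : ∀ c ∈ Q ⊓ centralizer (zpowers y : Set G), x' * c = c * x' := fun c hc =>
    comm_Q₀ Y F hx't hx't₁ (key ef) (key eg) hc
  obtain ⟨i, hi⟩ := Y.adjust_W hx'z hx'y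
  have hyi : y ^ i = 1 := by
    refine eq_one_of_triv Y ?_
    have h16 := triv_pow Y.H.h.zz hi 32
    have hcm : Commute (y ^ i)⁻¹ x' := ((show Commute y x' from hx'y.symm).pow_left i).inv_left
    rwa [hcm.mul_pow, show x' ^ 32 = (x' ^ 8) ^ 4 by rw [← pow_mul], hx'8, one_pow, mul_one,
      inv_pow, show ((y ^ i) ^ 32)⁻¹ = y ^ i by
        refine inv_eq_of_mul_eq_one_right ?_
        rw [← pow_mul, ← pow_add, pow_eq_pow_mod _ Y.y3, show (i * 32 + i) % 3 = 0 by omega,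
          pow_zero]] at h16
  rw [hyi, inv_one, one_mul] at hi
  have hq := mem_Q_of_triv Y F hx'z hc hi
  exact central Y F (Y.mem_Q₀.2 ⟨hq, hx'y.symm⟩) hx't hx't₁ (key ef) (key eg)

end Cfsg.Agent.SuzPresLocal76
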