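import Mathlib

/-!
The orbits of a subgroup of type `PSL₃(4)` on the `162` cosets of a conjugate of its product with the
centre, in a group of the order of `3·U₄(3)`.
-/

set_option autoImplicit false

namespace Cfsg.Agent.SuzPresOrbit50

open MulAction

universe u v

/-- Orbits of small size, as used below. -/
theorem small_split : ∀ k ∈ ({1, 2, 3, 6, 9} : Finset ℕ), ∀ i ∈ Finset.range 3, ∀ j ∈ Finset.range 3,
    15 * i + 21 * j + k = 42 → k = 6 ∧ i = 1 ∧ j = 1 := by decide

theorem divisors_162 : ∀ k ≤ 42, k ∣ 162 → 0 < k →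
    k ∈ ({1, 2, 3, 6, 9} : Finset ℕ) ∨ 162 / k ≤ 9 := by decide

/-- A union of orbits all of size `15` or `21`. -/
theorem exists_split {L : Type u} [Group L] [Finite L] {α : Type v} [Finite α] [MulAction L α] :
    ∀ (n : ℕ) (S : Set α), S.ncard = n → (∀ g : L, ∀ x ∈ S, g • x ∈ S) →
      (∀ x ∈ S, (orbit L x).ncard = 15 ∨ (orbit L x).ncard = 21) →
      ∃ i j, n = 15 * i + 21 * j ∧ (0 < i → ∃ x ∈ S, (orbit L x).ncard = 15) ∧
        (0 < j → ∃ x ∈ S, (orbit L x).ncard = 21) := by
  intro n
  induction n using Nat.strong_induction_on with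
  | _ n ih =>
    intro S hn hS hsz
    rcases S.eq_empty_or_nonempty with rfl | ⟨x, hx⟩
    · exact ⟨0, 0, by simpa using hn.symm, by simp, by simp⟩
    · have hsub : orbit L x ⊆ S := by
        rintro _ ⟨g, rfl⟩
        exact hS g x hx
      have hd := Set.ncard_diff hsub (Set.toFinite _)
      have hle := Set.ncard_le_ncard hsub (Set.toFinite _)
      have hpos := hsz x hx
      obtain ⟨i, j, e, h15, h21⟩ := ih (S \ orbit L x).ncard (by omega) _ rfl
        (fun g y hy => ⟨hS g y hy.1, fun hg => hy.2 (by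
          obtain ⟨g', hg'⟩ := hg
          exact ⟨g⁻¹ * g', show (g⁻¹ * g') • x = y by rw [mul_smul]; exact inv_smul_eq_iff.2 hg'⟩)⟩)
        (fun y hy => hsz y hy.1)
      rcases hpos with h | h
      · have en : n = 15 * (i + 1) + 21 * j := by clear h15 h21 ih hS hsz; omega
        exact ⟨i + 1, j, en, fun _ => ⟨x, hx, h⟩,
          fun hj => (h21 hj).imp fun y hy => ⟨hy.1.1, hy.2⟩⟩
      · have en : n = 15 * i + 21 * (j + 1) := by clear h15 h21 ih hS hsz; omega
        exact ⟨i, j + 1, en, fun hi => (h15 hi).imp fun y hy => ⟨hy.1.1, hy.2⟩,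
          fun _ => ⟨x, hx, h⟩⟩

/-- Conjugate involutions of a transitive action of odd degree with at least `22` involutions in a
point stabiliser fix at least three points of it. -/
theorem three_fixed {L : Type u} [Group L] [Finite L] {α : Type v} [Finite α] [MulAction L α]
    {z : L} (hz : orderOf z = 2) (hI : {t : L | orderOf t = 2}.ncard = 315)
    (hconj : ∀ t : L, orderOf t = 2 → IsConj z t) (x : α)
    (hn : (orbit L x).ncard = 15 ∨ (orbit L x).ncard = 21)
    (h22 : 22 ≤ {t : L | t ∈ stabilizer L x ∧ orderOf t = 2}.ncard) :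
    3 ≤ (orbit L x ∩ fixedBy α z).ncard := by
  classical
  haveI := Fact.mk Nat.prime_two
  -- all involutions fix equally many points
  have key : ∀ t : L, orderOf t = 2 →
      (orbit L x ∩ fixedBy α t).ncard = (orbit L x ∩ fixedBy α z).ncard := by
    intro t ht
    obtain ⟨c, rfl⟩ := isConj_iff.1 (hconj t ht)
    have : orbit L x ∩ fixedBy α (c * z * c⁻¹) = (fun y => c • y) '' (orbit L x ∩ fixedBy α z) := by
      ext y
      constructor
      · rintro ⟨hy, hy'⟩
        refine ⟨c⁻¹ • y, ⟨?_, ?_⟩, smul_inv_smul c y⟩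
        · obtain ⟨g, rfl⟩ := hy
          exact ⟨c⁻¹ * g, mul_smul _ _ _⟩
        · rw [mem_fixedBy] at hy' ⊢
          calc z • c⁻¹ • y = c⁻¹ • ((c * z * c⁻¹) • y) := by simp only [← mul_smul]; group
            _ = c⁻¹ • y := by rw [hy']
      · rintro ⟨y, ⟨hy, hy'⟩, rfl⟩
        refine ⟨?_, ?_⟩
        · obtain ⟨g, rfl⟩ := hy
          exact ⟨c * g, mul_smul _ _ _⟩
        · rw [mem_fixedBy] at hy' ⊢
          show (c * z * c⁻¹) • c • y = c • y
          conv_rhs => rw [← hy']
          simp only [← mul_smul]; group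
    rw [this, Set.ncard_image_of_injective _ (MulAction.injective c)]
  -- every point of the orbit is fixed by at least `22` involutions
  have h22' : ∀ y ∈ orbit L x, 22 ≤ {t : L | orderOf t = 2 ∧ t • y = y}.ncard := by
    rintro _ ⟨g, rfl⟩
    refine h22.trans ?_
    refine Set.ncard_le_ncard_of_injOn (fun t => g * t * g⁻¹) ?_ ?_ (Set.toFinite _)
    · rintro t ⟨ht, ho⟩
      refine ⟨?_, ?_⟩
      · rw [← MulAut.conj_apply, MulEquiv.orderOf_eq, ho]
      · show (g * t * g⁻¹) • g • x = g • x
        conv_rhs => rw [← mem_stabilizer_iff.1 ht]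
        simp only [← mul_smul]; group
    · intro a _ b _ hab
      simpa using hab
  -- double count
  have hdc : ∀ f : ℕ, (∀ t : L, orderOf t = 2 → (orbit L x ∩ fixedBy α t).ncard = f) →
      22 * (orbit L x).ncard ≤ 315 * f := by
    intro f hf
    set O := (Set.toFinite (orbit L x)).toFinset with hO
    set I := (Set.toFinite {t : L | orderOf t = 2}).toFinset with hIdef
    have hIc : I.card = 315 := by rw [hIdef, ← Set.ncard_eq_toFinset_card, hI]
    have hOc : O.card = (orbit L x).ncard := by rw [hO, ← Set.ncard_eq_toFinset_card]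
    have e := Finset.sum_card_bipartiteAbove_eq_sum_card_bipartiteBelow
      (fun (t : L) (y : α) => t • y = y) (s := I) (t := O)
    have e1 : ∀ t ∈ I, (O.bipartiteAbove (fun (t : L) (y : α) => t • y = y) t).card = f := by
      intro t ht
      rw [← hf t (by simpa [hIdef] using ht), ← Set.ncard_coe_finset]
      congr 1
      ext y
      simp [Finset.bipartiteAbove, hO, mem_fixedBy]
    have e2 : ∀ y ∈ O, 22 ≤ (I.bipartiteBelow (fun (t : L) (y : α) => t • y = y) y).card := by
      intro y hy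
      refine (h22' y (by simpa [hO] using hy)).trans (le_of_eq ?_)
      rw [← Set.ncard_coe_finset]
      congr 1
      ext t
      simp [Finset.bipartiteBelow, hIdef]
    rw [Finset.sum_congr rfl e1, Finset.sum_const, smul_eq_mul, hIc] at e
    have := Finset.card_nsmul_le_sum O _ 22 e2
    rw [smul_eq_mul, hOc, ← e] at this
    omega
  have hf2 := hdc _ key
  -- parity
  letI : MulAction (Subgroup.zpowers z) ↥(orbit L x) :=
    MulAction.compHom _ (Subgroup.zpowers z).subtype
  have hp : IsPGroup 2 (Subgroup.zpowers z) := IsPGroup.of_card (n := 1) (by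
    rw [Nat.card_zpowers, hz, pow_one])
  have hmod := hp.card_modEq_card_fixedPoints ↥(orbit L x)
  have he : Nat.card (fixedPoints (Subgroup.zpowers z) ↥(orbit L x)) =
      (orbit L x ∩ fixedBy α z).ncard := by
    rw [← Nat.card_coe_set_eq]
    refine Nat.card_congr
      { toFun := fun y => ⟨(y.1 : α), y.1.2, ?_⟩
        invFun := fun y => ⟨⟨y.1, y.2.1⟩, ?_⟩
        left_inv := fun y => rfl
        right_inv := fun y => rfl }
    · exact congrArg Subtype.val (y.2 ⟨z, Subgroup.mem_zpowers z⟩)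
    · rintro ⟨w, hw⟩
      apply Subtype.ext
      show w • y.1 = y.1
      obtain ⟨k, rfl⟩ := hw
      exact (stabilizer L y.1).zpow_mem (show z ∈ stabilizer L y.1 from y.2.2) k
  rw [he, Nat.card_coe_set_eq] at hmod
  have hm : (orbit L x).ncard % 2 = (orbit L x ∩ fixedBy α z).ncard % 2 := hmod
  rcases hn with hn | hn <;> rw [hn] at hf2 hm <;> omega

/-- The setting: `L ≅ PSL₃(4)` inside `C`, and a subgroup `K` conjugate to `L × Z(C)`. -/
theorem card_meet {C : Type u} [Group C] [Finite C] (L L₁ K X : Subgroup C) (z : L)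
    (hC : Nat.card C = 9797760) (hK : Nat.card K = 60480) (hX : Nat.card X = 3)
    (hnormal : ∀ N : Subgroup C, N.Normal → N ≤ X ∨ N = ⊤)
    (hL₁ : L₁ ≤ K) (hconj : ∃ h : C, L.map (MulAut.conj h).toMonoidHom = L₁)
    (hKuniq : ∀ h : C, L.map (MulAut.conj h).toMonoidHom ≤ K →
      L.map (MulAut.conj h).toMonoidHom = L₁)
    (hKnorm : ∀ k ∈ K, L₁.map (MulAut.conj k).toMonoidHom = L₁)
    (hKinv : ∀ x ∈ K, x * x = 1 → x ∈ L₁)
    (hz : orderOf z = 2) (hcz : Nat.card (Subgroup.centralizer ({(z : C)} : Set C)) = 3456)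
    (hLcard : Nat.card L = 20160) (hLz : Nat.card (Subgroup.centralizer ({z} : Set L)) = 64)
    (hLconj : ∀ t : L, orderOf t = 2 → IsConj z t)
    (hsmall : ∀ H : Subgroup L, H.index < 42 → H.index = 1 ∨ H.index = 15 ∨ H.index = 21)
    (hinv : ∀ H : Subgroup L, H.index = 15 ∨ H.index = 21 →
      22 ≤ {x : L | x ∈ H ∧ orderOf x = 2}.ncard)
    (hcase : ∀ H : Subgroup L, 8 ∣ Nat.card H → ¬ 16 ∣ Nat.card H → 125 ≤ Nat.card H →
      Nat.card H = 168 ∨ Nat.card H = 360)
    (hzK : (z : C) ∈ K) (h8 : 8 ∣ Nat.card (K.subgroupOf L))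
    (h16 : ¬ 16 ∣ Nat.card (K.subgroupOf L))
    (hMz : Nat.card ↥(K.subgroupOf L ⊓ Subgroup.centralizer ({z} : Set L)) = 8) :
    Nat.card (K.subgroupOf L) = 360 := by
  classical
  haveI := Fact.mk Nat.prime_two
  set Ω := C ⧸ K
  have hΩ : Nat.card Ω = 162 := by
    have := Subgroup.card_eq_card_quotient_mul_card_subgroup K
    rw [hC, hK] at this
    show Nat.card (C ⧸ K) = 162
    omega
  set p₁ : Ω := ((1 : C) : C ⧸ K) with hp₁
  have hstab : stabilizer L p₁ = K.subgroupOf L := by
    ext l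
    rw [mem_stabilizer_iff, Subgroup.mem_subgroupOf, hp₁]
    show (((l : C) * 1 : C) : C ⧸ K) = ((1 : C) : C ⧸ K) ↔ _
    rw [mul_one, eq_comm, QuotientGroup.eq, inv_one, one_mul]
  have hOcard : (orbit L p₁).ncard * Nat.card (K.subgroupOf L) = 20160 := by
    rw [← hstab, ← hLcard, ← Nat.card_coe_set_eq,
      Nat.card_congr (orbitEquivQuotientStabilizer L p₁),
      ← Subgroup.card_eq_card_quotient_mul_card_subgroup]
  have hOle : (orbit L p₁).ncard ≤ 162 := by
    rw [← hΩ, ← Set.ncard_univ]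
    exact Set.ncard_le_ncard (Set.subset_univ _) (Set.toFinite _)
  have hbig : 125 ≤ Nat.card (K.subgroupOf L) := by
    by_contra hlt
    push Not at hlt
    have := Nat.mul_le_mul hOle (Nat.le_of_lt_succ hlt)
    rw [hOcard] at this
    omega
  rcases hcase _ h8 h16 hbig with h168 | h360
  swap
  · exact h360
  exfalso
  rw [h168] at hOcard
  have hO120 : (orbit L p₁).ncard = 120 := by omega
  -- the fixed points
  set F : Set Ω := fixedPoints L Ω with hF
  have hfix : ∀ h : C, ((h : C ⧸ K) ∈ F) ↔ L.map (MulAut.conj h⁻¹).toMonoidHom = L₁ := by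
    intro h
    have e : ((h : C ⧸ K) ∈ F) ↔ L.map (MulAut.conj h⁻¹).toMonoidHom ≤ K := by
      constructor
      · rintro hh _ ⟨l, hl, rfl⟩
        have := hh ⟨l, hl⟩
        change ((l * h : C) : C ⧸ K) = (h : C ⧸ K) at this
        rw [eq_comm, QuotientGroup.eq] at this
        simpa [mul_assoc] using this
      · intro hh l
        show (((l : C) * h : C) : C ⧸ K) = (h : C ⧸ K)
        rw [eq_comm, QuotientGroup.eq]
        simpa [mul_assoc] using hh ⟨l, l.2, rfl⟩
    rw [e]
    exact ⟨hKuniq _, fun h' => h' ▸ hL₁⟩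
  obtain ⟨h₀, hh₀⟩ := hconj
  set p₀ : Ω := ((h₀⁻¹ : C) : C ⧸ K) with hp₀
  have hp₀F : p₀ ∈ F := (hfix h₀⁻¹).2 (by rw [inv_inv]; exact hh₀)
  set N := Subgroup.normalizer (L : Set C) with hN
  have hmapmul : ∀ a b : C, L.map (MulAut.conj (a * b)).toMonoidHom =
      (L.map (MulAut.conj b).toMonoidHom).map (MulAut.conj a).toMonoidHom := by
    intro a b
    rw [Subgroup.map_map]
    congr 1
    ext x
    simp [mul_assoc]
  have hNF : orbit N p₀ = F := by
    ext p
    induction p using QuotientGroup.induction_on with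
    | H h =>
      constructor
      · rintro ⟨⟨n, hn⟩, e⟩
        change ((n * h₀⁻¹ : C) : C ⧸ K) = (h : C ⧸ K) at e
        have hm : L.map (MulAut.conj n⁻¹).toMonoidHom = L :=
          Subgroup.mem_normalizer_iff_map_conj_eq.1 (Subgroup.inv_mem _ hn)
        rw [← e, hfix, mul_inv_rev, inv_inv, hmapmul, hm, hh₀]
      · intro hh
        have h1 := (hfix h).1 hh
        refine ⟨⟨h * h₀, ?_⟩, ?_⟩
        · refine Subgroup.mem_normalizer_iff_map_conj_eq.2 ?_
          show L.map (MulAut.conj (h * h₀)).toMonoidHom = L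
          rw [hmapmul, hh₀, ← h1, ← hmapmul, mul_inv_cancel]
          ext x
          simp
        · show ((h * h₀ * h₀⁻¹ : C) : C ⧸ K) = (h : C ⧸ K)
          rw [mul_inv_cancel_right]
  have hNstab : Nat.card (stabilizer N p₀) = 60480 := by
    rw [← hK]
    refine Nat.card_congr
      { toFun := fun n => ⟨h₀ * (n.1 : C) * h₀⁻¹, ?_⟩
        invFun := fun k => ⟨⟨h₀⁻¹ * (k : C) * h₀, ?_⟩, ?_⟩
        left_inv := fun n => by apply Subtype.ext; apply Subtype.ext; simp [mul_assoc]
        right_inv := fun k => by apply Subtype.ext; simp [mul_assoc] }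
    · have := n.2
      rw [mem_stabilizer_iff] at this
      change (((n.1 : C) * h₀⁻¹ : C) : C ⧸ K) = ((h₀⁻¹ : C) : C ⧸ K) at this
      rw [eq_comm, QuotientGroup.eq, inv_inv] at this
      simpa [mul_assoc] using this
    · refine Subgroup.mem_normalizer_iff_map_conj_eq.2 ?_
      show L.map (MulAut.conj (h₀⁻¹ * (k : C) * h₀)).toMonoidHom = L
      rw [hmapmul, hh₀]
      have e2 : L₁.map (MulAut.conj (h₀⁻¹ * (k : C))).toMonoidHom =
          (L₁.map (MulAut.conj (k : C)).toMonoidHom).map (MulAut.conj h₀⁻¹).toMonoidHom := by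
        rw [Subgroup.map_map]
        congr 1
        ext x
        simp [mul_assoc]
      rw [e2, hKnorm k k.2, ← hh₀, ← hmapmul, inv_mul_cancel]
      ext x
      simp
    · rw [mem_stabilizer_iff]
      show ((h₀⁻¹ * (k : C) * h₀ * h₀⁻¹ : C) : C ⧸ K) = ((h₀⁻¹ : C) : C ⧸ K)
      rw [mul_inv_cancel_right, eq_comm, QuotientGroup.eq, inv_inv, mul_inv_cancel_left]
      exact k.2
  have hNk : F.ncard * 60480 = Nat.card N := by
    rw [← hNF, ← hNstab, ← Nat.card_coe_set_eq, Nat.card_congr (orbitEquivQuotientStabilizer N p₀),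
      ← Subgroup.card_eq_card_quotient_mul_card_subgroup]
  have hk162 : F.ncard ∣ 162 := by
    have h1 : F.ncard * 60480 ∣ 162 * 60480 := by
      rw [hNk, show 162 * 60480 = 9797760 by norm_num, ← hC]
      exact Subgroup.card_subgroup_dvd_card N
    exact Nat.dvd_of_mul_dvd_mul_right (by norm_num) h1
  have hdisj : Disjoint F (orbit L p₁) := by
    rw [Set.disjoint_left]
    intro p hp hp'
    have e : orbit L p₁ ⊆ {p} := by
      rw [← orbit_eq_iff.2 hp']
      rintro _ ⟨g, rfl⟩
      exact Set.mem_singleton_iff.2 (hp g)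
    have := Set.ncard_le_ncard e (Set.toFinite _)
    rw [hO120, Set.ncard_singleton] at this
    omega
  set R : Set Ω := (F ∪ orbit L p₁)ᶜ with hR
  have hsum : F.ncard + 120 + R.ncard = 162 := by
    have h1 := Set.ncard_add_ncard_compl (F ∪ orbit L p₁)
    rw [hΩ, Set.ncard_union_eq hdisj (Set.toFinite _) (Set.toFinite _), hO120] at h1
    exact h1
  have hk0 : 0 < F.ncard := (Set.ncard_pos (Set.toFinite _)).2 ⟨p₀, hp₀F⟩
  have hk5 : F.ncard ∈ ({1, 2, 3, 6, 9} : Finset ℕ) := by
    rcases divisors_162 _ (by omega) hk162 hk0 with h | h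
    · exact h
    exfalso
    have hidx : Nat.card (C ⧸ N) ≤ 9 := by
      have h1 := Subgroup.card_eq_card_quotient_mul_card_subgroup N
      rw [hC, ← hNk] at h1
      have h2 : Nat.card (C ⧸ N) * F.ncard = 162 := by nlinarith
      rw [← Nat.div_eq_of_eq_mul_left hk0 h2.symm]
      exact h
    have hcore := hnormal (Subgroup.normalCore N) (Subgroup.normalCore_normal _)
    rcases hcore with hc | hc
    · rw [Subgroup.normalCore_eq_ker] at hc
      have h1 := Subgroup.card_eq_card_quotient_mul_card_subgroup (MulAction.toPermHom C (C ⧸ N)).ker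
      have h2 : Nat.card (C ⧸ (MulAction.toPermHom C (C ⧸ N)).ker) ≤ Nat.factorial 9 := by
        refine (Nat.card_le_card_of_injective _
          (QuotientGroup.kerLift_injective (MulAction.toPermHom C (C ⧸ N)))).trans ?_
        rw [Nat.card_perm]
        exact Nat.factorial_le hidx
      have h3 := Nat.le_of_dvd (by rw [hX]; norm_num) (Subgroup.card_dvd_of_le hc)
      rw [hX] at h3
      rw [hC] at h1
      have := Nat.mul_le_mul h2 h3
      rw [← h1] at this
      norm_num [Nat.factorial] at this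
    · have hNtop : N = ⊤ := top_le_iff.1 (hc ▸ Subgroup.normalCore_le N)
      have e' : Nat.card N = 9797760 := by rw [hNtop, Subgroup.card_top, hC]
      rw [← hNk] at e'
      omega
  -- the remaining orbits
  have hRinv : ∀ g : L, ∀ p ∈ R, g • p ∈ R := by
    intro g p hp hgp
    rcases hgp with h | ⟨g', h⟩
    · exact hp (Or.inl (by
        intro l
        have := h (g * l * g⁻¹)
        rwa [← mul_smul, inv_mul_cancel_right, mul_smul, smul_left_cancel_iff] at this))
    · exact hp (Or.inr ⟨g⁻¹ * g', by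
        show (g⁻¹ * g') • p₁ = p
        rw [mul_smul, show g' • p₁ = g • p from h, inv_smul_smul]⟩)
  have hRsz : ∀ p ∈ R, (orbit L p).ncard = 15 ∨ (orbit L p).ncard = 21 := by
    intro p hp
    have hsub : orbit L p ⊆ R := by
      rintro _ ⟨g, rfl⟩
      exact hRinv g p hp
    have hle := Set.ncard_le_ncard hsub (Set.toFinite _)
    have hidx : (stabilizer L p).index = (orbit L p).ncard := by
      rw [Subgroup.index, ← Nat.card_congr (orbitEquivQuotientStabilizer L p), Nat.card_coe_set_eq]
    rcases hsmall (stabilizer L p) (by omega) with h | h | h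
    · refine absurd (Or.inl ?_) hp
      intro l
      have : l ∈ stabilizer L p := by
        rw [Subgroup.index_eq_one.1 h]
        exact Subgroup.mem_top _
      exact this
    · left; omega
    · right; omega
  obtain ⟨i, j, e, h15, h21⟩ := exists_split R.ncard R rfl hRinv hRsz
  obtain ⟨hk6, rfl, rfl⟩ := small_split _ hk5 i (by rw [Finset.mem_range]; omega) j
    (by rw [Finset.mem_range]; omega) (by omega)
  obtain ⟨q, hq, hq15⟩ := h15 one_pos
  obtain ⟨r, hr, hr21⟩ := h21 one_pos
  -- the involutions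
  have hI : {t : L | orderOf t = 2}.ncard = 315 := by
    have horb : orbit (ConjAct L) z = {t : L | orderOf t = 2} := by
      ext t
      constructor
      · rintro ⟨g, rfl⟩
        show orderOf (MulAut.conj (ConjAct.ofConjAct g) z) = 2
        rw [MulEquiv.orderOf_eq, hz]
      · intro ht
        obtain ⟨g, hg⟩ := isConj_iff.1 (hLconj t ht)
        exact ⟨ConjAct.toConjAct g, hg⟩
    have hst : Nat.card (stabilizer (ConjAct L) z) = 64 := by
      rw [← hLz]
      refine Nat.card_congr
        { toFun := fun g => ⟨ConjAct.ofConjAct g.1, ?_⟩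
          invFun := fun g => ⟨ConjAct.toConjAct g.1, ?_⟩
          left_inv := fun g => rfl
          right_inv := fun g => rfl }
      · have h : ConjAct.ofConjAct g.1 * z * (ConjAct.ofConjAct g.1)⁻¹ = z := g.2
        exact Subgroup.mem_centralizer_singleton_iff.2 (mul_inv_eq_iff_eq_mul.1 h)
      · show g.1 * z * (g.1)⁻¹ = z
        exact mul_inv_eq_iff_eq_mul.2 (Subgroup.mem_centralizer_singleton_iff.1 g.2)
    have h1 := Subgroup.card_eq_card_quotient_mul_card_subgroup (stabilizer (ConjAct L) z)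
    rw [← Nat.card_congr (orbitEquivQuotientStabilizer (ConjAct L) z), hst, horb,
      Nat.card_coe_set_eq, show Nat.card (ConjAct L) = Nat.card L from rfl, hLcard] at h1
    omega
  -- at most eighteen fixed points
  set Z : Set Ω := fixedBy Ω z with hZ
  have hZ18 : Z.ncard ≤ 18 := by
    let S : Set C := {h | h⁻¹ * (z : C) * h ∈ K}
    have hpre : (QuotientGroup.mk : C → C ⧸ K) ⁻¹' Z = S := by
      ext h
      show (z • (h : C ⧸ K) = (h : C ⧸ K)) ↔ _
      show ((((z : C) * h : C)) : C ⧸ K) = (h : C ⧸ K) ↔ _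
      rw [eq_comm, QuotientGroup.eq, ← mul_assoc]
      rfl
    have hS : S.ncard = 60480 * Z.ncard := by
      rw [← hpre, ← Nat.card_coe_set_eq, Nat.card_congr (QuotientGroup.preimageMkEquivSubgroupProdSet K Z),
        Nat.card_prod, hK, Nat.card_coe_set_eq]
    have hz2 : (z : C) * z = 1 := by
      rw [← Subgroup.coe_mul, ← pow_two, ← hz, pow_orderOf_eq_one, Subgroup.coe_one]
    have hne : ∀ h : C, h⁻¹ * (z : C) * h ≠ 1 := by
      intro h e
      have : (z : C) = 1 := by
        calc (z : C) = h * (h⁻¹ * (z : C) * h) * h⁻¹ := by group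
          _ = 1 := by rw [e]; group
      rw [OneMemClass.coe_eq_one] at this
      rw [this, orderOf_one] at hz
      omega
    let I : Set C := {w | w ∈ L₁ ∧ orderOf w = 2}
    have hIc : I.ncard = 315 := by
      rw [← hI, ← Set.ncard_image_of_injective {t : L | orderOf t = 2}
        (f := fun t : L => MulAut.conj h₀ (t : C))
        ((MulAut.conj h₀).injective.comp Subtype.val_injective)]
      congr 1
      ext w
      constructor
      · rintro ⟨hw, hw2⟩
        rw [← hh₀] at hw
        obtain ⟨l, hl, rfl⟩ := hw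
        refine ⟨⟨l, hl⟩, ?_, rfl⟩
        show orderOf (⟨l, hl⟩ : L) = 2
        rw [← Subgroup.orderOf_coe]
        simpa only [MulEquiv.coe_toMonoidHom, MulEquiv.orderOf_eq] using hw2
      · rintro ⟨t, ht, rfl⟩
        refine ⟨hh₀ ▸ ⟨t, t.2, rfl⟩, ?_⟩
        rw [MulEquiv.orderOf_eq, Subgroup.orderOf_coe]
        exact ht
    have hto : ∀ h ∈ S, h⁻¹ * (z : C) * h ∈ I := by
      intro h hh
      have hsq : h⁻¹ * (z : C) * h * (h⁻¹ * (z : C) * h) = 1 := by
        calc h⁻¹ * (z : C) * h * (h⁻¹ * (z : C) * h) = h⁻¹ * ((z : C) * z) * h := by group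
          _ = 1 := by rw [hz2]; group
      exact ⟨hKinv _ hh hsq, orderOf_eq_prime (by rw [pow_two]; exact hsq) (hne h)⟩
    let rep : C → C := fun w => if hw : ∃ h, h⁻¹ * (z : C) * h = w then hw.choose else 1
    have hrep : ∀ h : C, (rep (h⁻¹ * (z : C) * h))⁻¹ * (z : C) * rep (h⁻¹ * (z : C) * h) =
        h⁻¹ * (z : C) * h := by
      intro h
      have hw : ∃ k, k⁻¹ * (z : C) * k = h⁻¹ * (z : C) * h := ⟨h, rfl⟩
      simp only [rep, dif_pos hw]
      exact hw.choose_spec
    have hle : S.ncard ≤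
        (I ×ˢ (Subgroup.centralizer ({(z : C)} : Set C) : Set C)).ncard := by
      refine Set.ncard_le_ncard_of_injOn
        (fun h => (h⁻¹ * (z : C) * h, h * (rep (h⁻¹ * (z : C) * h))⁻¹)) ?_ ?_ (Set.toFinite _)
      · intro h hh
        refine ⟨hto h hh, Subgroup.mem_centralizer_singleton_iff.2 ?_⟩
        have := hrep h
        generalize rep (h⁻¹ * (z : C) * h) = r at this ⊢
        calc h * r⁻¹ * (z : C) = h * (r⁻¹ * (z : C) * r) * r⁻¹ := by group
          _ = h * (h⁻¹ * (z : C) * h) * r⁻¹ := by rw [this]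
          _ = (z : C) * (h * r⁻¹) := by group
      · intro a _ b _ hab
        simp only [Prod.mk.injEq] at hab
        obtain ⟨h1, h2⟩ := hab
        rw [h1] at h2
        exact mul_right_cancel h2
    have e2 : (Subgroup.centralizer ({(z : C)} : Set C) : Set C).ncard = 3456 := by
      rw [← Nat.card_coe_set_eq]; exact hcz
    rw [Set.ncard_prod, hS, hIc, e2] at hle
    omega
  -- and at least twenty
  have hFZ : F ⊆ Z := fun p hp => hp z
  have hqZ := three_fixed hz hI hLconj q (Or.inl hq15) (hinv _ (Or.inl (by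
    rw [Subgroup.index, ← Nat.card_congr (orbitEquivQuotientStabilizer L q), Nat.card_coe_set_eq,
      hq15])))
  have hrZ := three_fixed hz hI hLconj r (Or.inr hr21) (hinv _ (Or.inr (by
    rw [Subgroup.index, ← Nat.card_congr (orbitEquivQuotientStabilizer L r), Nat.card_coe_set_eq,
      hr21])))
  set S₀ := Subgroup.centralizer ({z} : Set L) with hS₀
  have horb8 : (orbit S₀ p₁).ncard = 8 := by
    have hcl : ∀ s : L, s • p₁ = p₁ → s ∈ K.subgroupOf L := fun s h => by rw [← hstab]; exact h
    have hcl' : ∀ s : L, s ∈ K.subgroupOf L → s • p₁ = p₁ := fun s h => by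
      rw [← hstab] at h; exact h
    have h1 : Nat.card (stabilizer S₀ p₁) = 8 := by
      rw [← hMz]
      exact Nat.card_congr
        { toFun := fun s => ⟨s.1.1, hcl _ s.2, s.1.2⟩
          invFun := fun s => ⟨⟨s.1, s.2.2⟩, hcl' s.1 s.2.1⟩
          left_inv := fun s => rfl
          right_inv := fun s => rfl }
    have h2 := Subgroup.card_eq_card_quotient_mul_card_subgroup (stabilizer S₀ p₁)
    rw [h1, ← Nat.card_congr (orbitEquivQuotientStabilizer S₀ p₁), Nat.card_coe_set_eq, hLz] at h2
    omega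
  have hsubZ : orbit S₀ p₁ ⊆ orbit L p₁ ∩ Z := by
    rintro _ ⟨s, rfl⟩
    refine ⟨⟨s.1, rfl⟩, ?_⟩
    show z • (s.1 • p₁) = s.1 • p₁
    rw [← mul_smul, ← Subgroup.mem_centralizer_singleton_iff.1 s.2, mul_smul]
    congr 1
    have : z ∈ stabilizer L p₁ := by rw [hstab, Subgroup.mem_subgroupOf]; exact hzK
    exact this
  have hqR : orbit L q ⊆ R := by rintro _ ⟨g, rfl⟩; exact hRinv g q hq
  have hrR : orbit L r ⊆ R := by rintro _ ⟨g, rfl⟩; exact hRinv g r hr
  have hqr : Disjoint (orbit L q) (orbit L r) := by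
    rw [Set.disjoint_left]
    intro p hpq hpr
    rw [← orbit_eq_iff.2 hpq, orbit_eq_iff.2 hpr] at hq15
    omega
  have hO8 : 8 ≤ (orbit L p₁ ∩ Z).ncard := horb8 ▸ Set.ncard_le_ncard hsubZ (Set.toFinite _)
  have d1 : Disjoint (orbit L q ∩ Z) (orbit L r ∩ Z) :=
    hqr.mono Set.inter_subset_left Set.inter_subset_left
  have d2 : Disjoint F (orbit L p₁ ∩ Z) := hdisj.mono_right Set.inter_subset_left
  have d3 : Disjoint (F ∪ orbit L p₁ ∩ Z) (orbit L q ∩ Z ∪ orbit L r ∩ Z) := by
    rw [Set.disjoint_left]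
    intro p hp hp'
    have hpR : p ∈ R := hp'.elim (fun h => hqR h.1) (fun h => hrR h.1)
    exact hpR (hp.imp id (fun h => h.1))
  have hall : (F ∪ orbit L p₁ ∩ Z) ∪ (orbit L q ∩ Z ∪ orbit L r ∩ Z) ⊆ Z :=
    Set.union_subset (Set.union_subset hFZ Set.inter_subset_right)
      (Set.union_subset Set.inter_subset_right Set.inter_subset_right)
  have := Set.ncard_le_ncard hall (Set.toFinite _)
  rw [Set.ncard_union_eq d3 (Set.toFinite _) (Set.toFinite _),
    Set.ncard_union_eq d2 (Set.toFinite _) (Set.toFinite _),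
    Set.ncard_union_eq d1 (Set.toFinite _) (Set.toFinite _), hk6] at this
  rw [← hZ] at hqZ hrZ
  omega

end Cfsg.Agent.SuzPresOrbit50
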