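import Cfsg.Agent.Lib.SuzPresBase50
import Cfsg.Agent.Lib.SuzPresOrbit50

/-!
The intersection of the two subgroups of type `PSL₃(4)` and the generator `b`.
-/

set_option autoImplicit false

namespace Cfsg.Agent.SuzPresMeet50

open Subgroup Cfsg.Agent.SuzPresData50 Cfsg.Agent.SuzPresBase50

universe u

/-- The facts about subgroups of a copy of `PSL₃(4)` that are used. -/
structure Facts : Prop where
  card_eq : ∀ {F : Type} [Field F] [Fintype F], Fintype.card F = 4 → ∀ {L : Type u} [Group L],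
    (L ≃* Matrix.ProjectiveSpecialLinearGroup (Fin 3) F) → Nat.card L = 20160
  small : ∀ {F : Type} [Field F] [Fintype F], Fintype.card F = 4 → ∀ {L : Type u} [Group L],
    (L ≃* Matrix.ProjectiveSpecialLinearGroup (Fin 3) F) → ∀ H : Subgroup L, H.index < 42 →
      H.index = 1 ∨ H.index = 15 ∨ H.index = 21
  inv : ∀ {F : Type} [Field F] [Fintype F], Fintype.card F = 4 → ∀ {L : Type u} [Group L],
    (L ≃* Matrix.ProjectiveSpecialLinearGroup (Fin 3) F) → ∀ H : Subgroup L,
      H.index = 15 ∨ H.index = 21 → 22 ≤ {x : L | x ∈ H ∧ orderOf x = 2}.ncard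
  case : ∀ {F : Type} [Field F] [Fintype F], Fintype.card F = 4 → ∀ {L : Type u} [Group L],
    (L ≃* Matrix.ProjectiveSpecialLinearGroup (Fin 3) F) → ∀ H : Subgroup L,
      8 ∣ Nat.card H → ¬ 16 ∣ Nat.card H → 125 ≤ Nat.card H →
        Nat.card H = 168 ∨ Nat.card H = 360
  six : ∀ {F : Type} [Field F] [Fintype F], Fintype.card F = 4 → ∀ {L : Type u} [Group L],
    (L ≃* Matrix.ProjectiveSpecialLinearGroup (Fin 3) F) → ∀ {f g z : L} (H : Subgroup L),
      Nat.card H = 360 → f ∈ H → g ∈ H → f * f = 1 → g * g = 1 → (f * g) * (f * g) = z →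
      z * z = 1 → z ≠ 1 → (∀ x ∈ H, x * z = z * x → x ∈ Subgroup.closure ({f, g} : Set L)) →
      ∃ b ∈ H, orderOf b = 2 ∧ (b * f) ^ 3 = 1 ∧ (b * g) ^ 3 = 1 ∧ (b * f * g) ^ 5 = 1

/-- A dihedral group of order eight generated by two involutions. -/
theorem d8 {L : Type u} [Group L] [Finite L] {f g z : L} (hf : f * f = 1) (hg : g * g = 1)
    (hfg : (f * g) * (f * g) = z) (hz2 : z * z = 1) (hz1 : z ≠ 1) :
    Nat.card (closure ({f, g} : Set L)) = 8 ∧
      ∀ x ∈ closure ({f, g} : Set L), x * x = 1 ∨ x * x = z := by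
  haveI := Fact.mk Nat.prime_two
  set r := f * g with hr
  have hfi : f⁻¹ = f := inv_eq_of_mul_eq_one_left hf
  have hgi : g⁻¹ = g := inv_eq_of_mul_eq_one_left hg
  have hr4 : r ^ (4 : ℕ) = 1 := by
    rw [show r ^ (4 : ℕ) = (r * r) * (r * r) by simp only [pow_succ, pow_zero, one_mul, mul_assoc],
      hfg, hz2]
  have hinv : f * r * f = r⁻¹ := by
    rw [hr, mul_inv_rev, hgi, hfi, ← mul_assoc f f g, hf, one_mul]
  have hswap : ∀ n : ℤ, r ^ n * f = f * r ^ (-n) := by
    intro n
    have h1 : (f * r * f⁻¹) ^ n = f * r ^ n * f⁻¹ := conj_zpow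
    rw [hfi, hinv, inv_zpow'] at h1
    rw [h1, ← mul_assoc, ← mul_assoc, hf, one_mul]
  let D : Subgroup L :=
    { carrier := {x | ∃ n : ℤ, x = r ^ n ∨ x = f * r ^ n}
      one_mem' := ⟨0, Or.inl (by simp)⟩
      mul_mem' := by
        rintro a b ⟨m, rfl | rfl⟩ ⟨n, rfl | rfl⟩
        · exact ⟨m + n, Or.inl (zpow_add r m n).symm⟩
        · exact ⟨-m + n, Or.inr (by rw [← mul_assoc, hswap, mul_assoc, ← zpow_add])⟩
        · exact ⟨m + n, Or.inr (by rw [mul_assoc, ← zpow_add])⟩
        · refine ⟨-m + n, Or.inl ?_⟩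
          rw [show f * r ^ m * (f * r ^ n) = f * (r ^ m * f) * r ^ n by simp only [mul_assoc],
            hswap, ← mul_assoc f f, hf, one_mul, ← zpow_add]
      inv_mem' := by
        rintro a ⟨m, rfl | rfl⟩
        · exact ⟨-m, Or.inl (zpow_neg r m).symm⟩
        · exact ⟨m, Or.inr (by rw [mul_inv_rev, hfi, ← zpow_neg, hswap, neg_neg])⟩ }
  have hle : closure ({f, g} : Set L) ≤ D := by
    rw [closure_le]
    rintro x (rfl | rfl)
    · exact ⟨0, Or.inr (by simp)⟩
    · exact ⟨1, Or.inr (by rw [zpow_one, hr, ← mul_assoc, hf, one_mul])⟩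
  have hsq : ∀ x ∈ closure ({f, g} : Set L), x * x = 1 ∨ x * x = z := by
    intro x hx
    obtain ⟨n, rfl | rfl⟩ := hle hx
    · rw [← zpow_add, ← two_mul, _root_.zpow_mul, zpow_two, hfg]
      rcases Int.even_or_odd n with ⟨m, rfl⟩ | ⟨m, rfl⟩
      · left; rw [zpow_add, ← (Commute.refl z).mul_zpow, hz2, one_zpow]
      · right; rw [zpow_add, zpow_one, _root_.zpow_mul, zpow_two, hz2, one_zpow, one_mul]
    · left
      rw [show f * r ^ n * (f * r ^ n) = f * (r ^ n * f) * r ^ n by simp only [mul_assoc], hswap,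
        ← mul_assoc f f, hf, one_mul, ← zpow_add, neg_add_cancel, zpow_zero]
  refine ⟨?_, hsq⟩
  have hrD : r ∈ closure ({f, g} : Set L) :=
    mul_mem (subset_closure (Or.inl rfl)) (subset_closure (Or.inr rfl))
  have hfD : f ∈ closure ({f, g} : Set L) := subset_closure (Or.inl rfl)
  have hor : orderOf r = 2 ^ (1 + 1) := orderOf_eq_prime_pow
    (by rw [pow_one, pow_two, hfg]; exact hz1) (by simpa using hr4)
  have hfz : f ∉ zpowers r := by
    rintro ⟨n, hn⟩
    have hc : r * f = f * r := by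
      rw [← hn]
      exact ((Commute.refl r).zpow_right n).eq
    refine hz1 ?_
    rw [← hfg]
    have : f * r * f = r := by rw [← hc, mul_assoc, hf, mul_one]
    rw [hinv] at this
    nth_rewrite 1 [← this]
    exact inv_mul_cancel r
  have h4 : Nat.card (zpowers r) = 4 := by rw [Nat.card_zpowers, hor]; norm_num
  have hdvd : 4 ∣ Nat.card (closure ({f, g} : Set L)) :=
    h4 ▸ card_dvd_of_le (zpowers_le.2 hrD)
  have hgt : 4 < Nat.card (closure ({f, g} : Set L)) := by
    refine lt_of_le_of_ne (Nat.le_of_dvd Nat.card_pos hdvd) fun h => hfz ?_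
    have := eq_of_le_of_card_ge (zpowers_le.2 hrD) (by rw [h4, h])
    rw [this]
    exact hfD
  have hle8 : Nat.card (closure ({f, g} : Set L)) ≤ 8 := by
    have hh : (closure ({f, g} : Set L) : Set L) ⊆
        (zpowers r : Set L) ∪ (fun x => f * x) '' (zpowers r : Set L) := by
      intro x hx
      obtain ⟨n, rfl | rfl⟩ := hle hx
      · exact Or.inl ⟨n, rfl⟩
      · exact Or.inr ⟨_, ⟨n, rfl⟩, rfl⟩
    have h1 := (Set.ncard_le_ncard hh (Set.toFinite _)).trans (Set.ncard_union_le _ _)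
    rw [Set.ncard_image_of_injective _ (mul_right_injective f), ← Nat.card_coe_set_eq,
      ← Nat.card_coe_set_eq] at h1
    change Nat.card (closure ({f, g} : Set L)) ≤ Nat.card (zpowers r) + Nat.card (zpowers r) at h1
    omega
  obtain ⟨q, hq⟩ := hdvd
  omega

/-- No subgroup of order divisible by `16` whose centraliser of `z` is the dihedral group. -/
theorem not_sixteen {L : Type u} [Group L] [Finite L] {f g z : L} (hz1 : z ≠ 1)
    (hfg : (f * g) * (f * g) = z) (hD : Nat.card (closure ({f, g} : Set L)) = 8)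
    (hsq : ∀ x ∈ closure ({f, g} : Set L), x * x = 1 ∨ x * x = z) (M : Subgroup L)
    (hfM : f ∈ M) (hgM : g ∈ M)
    (hMz : ∀ x ∈ M, x * z = z * x → x ∈ closure ({f, g} : Set L)) :
    ¬ 16 ∣ Nat.card M := by
  haveI := Fact.mk Nat.prime_two
  intro h
  have hle : closure ({f, g} : Set L) ≤ M := by
    rw [closure_le]
    rintro x (rfl | rfl)
    · exact hfM
    · exact hgM
  have hH : Nat.card ((closure ({f, g} : Set L)).subgroupOf M) = 2 ^ 3 := by
    rw [Nat.card_congr (subgroupOfEquivOfLe hle).toEquiv, hD]; rfl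
  obtain ⟨P, hP, hDP⟩ := Sylow.exists_subgroup_card_pow_succ (p := 2) (n := 3)
    (by simpa using h) hH
  have hidx : (((closure ({f, g} : Set L)).subgroupOf M).subgroupOf P).index = 2 := by
    have h1 := card_mul_index (((closure ({f, g} : Set L)).subgroupOf M).subgroupOf P)
    rw [Nat.card_congr (subgroupOfEquivOfLe hDP).toEquiv, hH, hP] at h1
    omega
  have hn := normal_of_index_eq_two hidx
  have hlt : ∃ k : P, ((k : M) : L) ∉ closure ({f, g} : Set L) := by
    by_contra hc
    push Not at hc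
    have : P ≤ (closure ({f, g} : Set L)).subgroupOf M := fun x hx => hc ⟨x, hx⟩
    have := card_dvd_of_le this
    rw [hP, hH] at this
    norm_num at this
  obtain ⟨k, hk⟩ := hlt
  have hr : (⟨f * g, mul_mem hfM hgM⟩ : M) ∈ P :=
    hDP (show f * g ∈ closure ({f, g} : Set L) from
      mul_mem (subset_closure (Or.inl rfl)) (subset_closure (Or.inr rfl)))
  have hw := hn.conj_mem ⟨_, hr⟩ (show f * g ∈ closure ({f, g} : Set L) from
    mul_mem (subset_closure (Or.inl rfl)) (subset_closure (Or.inr rfl))) k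
  have hw' : ((k : M) : L) * (f * g) * ((k : M) : L)⁻¹ ∈ closure ({f, g} : Set L) := hw
  refine hk (hMz _ (k : M).2 ?_)
  generalize ((k : M) : L) = x at hw' ⊢
  have e : x * (f * g) * x⁻¹ * (x * (f * g) * x⁻¹) = x * z * x⁻¹ := by rw [← hfg]; group
  rcases hsq _ hw' with h2 | h2 <;> rw [e] at h2
  · exact absurd (conj_eq_one_iff.1 h2) hz1
  · exact mul_inv_eq_iff_eq_mul.1 h2

variable {G : Type u} [Group G] [Finite G] {y z v v₁ f g c : G}

/-- The generator `b`. -/
theorem exists_b (D : Data y z v v₁ f g c) (W : Facts.{u}) :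
    ∃ b ∈ Lv v y, orderOf b = 2 ∧ b * v₁ = v₁ * b ∧ (b * f) ^ 3 = 1 ∧ (b * g) ^ 3 = 1 ∧
      (b * f * g) ^ 5 = 1 := by
  haveI := Fact.mk Nat.prime_two
  obtain ⟨F, _, _, hF, ⟨eL⟩⟩ := D.iso
  have hL₁y : Lv v₁ y ≤ centralizer ({y} : Set G) := inf_le_right
  have hLy : Lv v y ≤ centralizer ({y} : Set G) := inf_le_right
  set K := mulX (Lv v₁ y) y hL₁y with hKdef
  set M : Subgroup ↥(Lv v y) := K.subgroupOf (Lv v y) with hMdef
  set fL : ↥(Lv v y) := ⟨f, D.f_mem⟩ with hfL
  set gL : ↥(Lv v y) := ⟨g, D.g_mem⟩ with hgL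
  set zL : ↥(Lv v y) := ⟨z, D.z_mem⟩ with hzL
  have hfM : fL ∈ M := le_mulX hL₁y D.f_mem₁
  have hgM : gL ∈ M := le_mulX hL₁y D.g_mem₁
  have hclos : ∀ x : ↥(Lv v y), (x : G) ∈ closure ({f, g} : Set G) →
      x ∈ closure ({fL, gL} : Set ↥(Lv v y)) := by
    intro x hx
    have e : closure ({f, g} : Set G) =
        (closure ({fL, gL} : Set ↥(Lv v y))).map (Lv v y).subtype := by
      rw [MonoidHom.map_closure, Set.image_pair]
      rfl
    rw [e] at hx
    obtain ⟨x', hx', he⟩ := hx
    rwa [← Subtype.ext he]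
  have hMz : ∀ x ∈ M, x * zL = zL * x → x ∈ closure ({fL, gL} : Set ↥(Lv v y)) := by
    intro x hx hxz
    obtain ⟨k, hk, hl⟩ := (mem_mulX hL₁y).1 (mem_subgroupOf.1 hx)
    refine hclos x (D.meet x x.2 (congrArg Subtype.val hxz) k⁻¹ (inv_mem hk) ?_)
    exact (mem_Lv.1 hl).1
  have hf2 : fL * fL = 1 := Subtype.ext D.f2
  have hg2 : gL * gL = 1 := Subtype.ext D.g2
  have hfg : fL * gL * (fL * gL) = zL := Subtype.ext D.fg
  have hz2 : zL * zL = 1 := Subtype.ext D.z2
  have hz1 : zL ≠ 1 := fun h => D.z1 (congrArg Subtype.val h)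
  obtain ⟨hD8, hsq⟩ := d8 hf2 hg2 hfg hz2 hz1
  have hDle : closure ({fL, gL} : Set ↥(Lv v y)) ≤ M := by
    rw [closure_le]
    rintro x (rfl | rfl)
    · exact hfM
    · exact hgM
  have h8 : 8 ∣ Nat.card M := hD8 ▸ card_dvd_of_le hDle
  have h16 := not_sixteen hz1 hfg hD8 hsq M hfM hgM hMz
  have hfz : ∀ x ∈ ({fL, gL} : Set ↥(Lv v y)),
      x ∈ centralizer ({zL} : Set ↥(Lv v y)) := by
    rintro x (rfl | rfl)
    · exact mem_centralizer_singleton_iff.2 (Subtype.ext D.zf.symm)
    · exact mem_centralizer_singleton_iff.2 (Subtype.ext D.zg.symm)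
  have hMc : M ⊓ centralizer ({zL} : Set ↥(Lv v y)) = closure ({fL, gL} : Set ↥(Lv v y)) :=
    le_antisymm (fun x hx => hMz x hx.1 (mem_centralizer_singleton_iff.1 hx.2))
      (le_inf hDle ((closure_le _).2 hfz))
  -- the count
  set C : Subgroup G := centralizer ({y} : Set G) with hC
  set L' := (Lv v y).subgroupOf C with hL'
  let e : ↥L' ≃* ↥(Lv v y) := subgroupOfEquivOfLe hLy
  set eL' := e.trans eL with heL'
  set zL' : ↥L' := ⟨⟨z, hLy D.z_mem⟩, D.z_mem⟩ with hzL'
  obtain ⟨h, hhy, hhv⟩ := D.conj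
  have hh : h ∈ C := mem_cy.2 hhy
  have hcardL₁ : Nat.card (Lv v₁ y) = 20160 := by
    rw [← W.card_eq hF eL]
    refine (Nat.card_congr (Equiv.subtypeEquiv (MulAut.conj h).toEquiv fun x => ?_)).symm
    show x ∈ Lv v y ↔ h * x * h⁻¹ ∈ Lv v₁ y
    have hy' : h * y * h⁻¹ = y := by rw [hhy, mul_inv_cancel_right]
    rw [mem_Lv, mem_Lv, ← hhv]
    constructor
    · rintro ⟨h1, h2⟩
      refine ⟨?_, ?_⟩
      · calc h * x * h⁻¹ * (h * v * h⁻¹) = h * (x * v) * h⁻¹ := by group
          _ = _ := by rw [h1]; group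
      · calc h * x * h⁻¹ * y = h * x * h⁻¹ * (h * y * h⁻¹) := by rw [hy']
          _ = h * (x * y) * h⁻¹ := by group
          _ = h * (y * x) * h⁻¹ := by rw [h2]
          _ = h * y * h⁻¹ * (h * x * h⁻¹) := by group
          _ = y * (h * x * h⁻¹) := by rw [hy']
    · rintro ⟨h1, h2⟩
      refine ⟨?_, ?_⟩
      · calc x * v = h⁻¹ * (h * x * h⁻¹ * (h * v * h⁻¹)) * h := by group
          _ = _ := by rw [h1]; group
      · calc x * y = h⁻¹ * (h * x * h⁻¹ * (h * y * h⁻¹)) * h := by group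
          _ = h⁻¹ * (h * x * h⁻¹ * y) * h := by rw [hy']
          _ = h⁻¹ * (y * (h * x * h⁻¹)) * h := by rw [h2]
          _ = h⁻¹ * (h * y * h⁻¹ * (h * x * h⁻¹)) * h := by rw [hy']
          _ = y * x := by group
  have hKC : K ≤ C := mulX_le_cy hL₁y
  have hcardK : Nat.card K = 60480 := by
    rw [hKdef, card_mulX hL₁y (D.disj (Or.inr rfl)), hcardL₁, D.card_X]
  have hKinv : ∀ x ∈ K, x * x = 1 → x ∈ Lv v₁ y := by
    intro x hx hxx
    obtain ⟨k, hk, hl⟩ := (mem_mulX hL₁y).1 hx
    have hk1 : k⁻¹ * k⁻¹ = 1 := by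
      have hc : x * k⁻¹ = k⁻¹ * x :=
        comm_zpow (mem_cy.1 (hKC hx)) (inv_mem hk)
      have h2 : x * k⁻¹ * (x * k⁻¹) = k⁻¹ * k⁻¹ := by
        calc x * k⁻¹ * (x * k⁻¹) = x * (k⁻¹ * x) * k⁻¹ := by simp only [mul_assoc]
          _ = (x * x) * (k⁻¹ * k⁻¹) := by rw [← hc]; simp only [mul_assoc]
          _ = k⁻¹ * k⁻¹ := by rw [hxx, one_mul]
      exact D.disj (Or.inr rfl) _ (h2 ▸ mul_mem hl hl) (mul_mem (inv_mem hk) (inv_mem hk))
    rw [D.zpow_sq (inv_mem hk) hk1, mul_one] at hl
    exact hl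
  have h360 : Nat.card M = 360 := by
    have hL'c : Nat.card L' = 20160 := W.card_eq hF eL'
    have hz'2 : orderOf zL' = 2 := orderOf_eq_prime
      (Subtype.ext (Subtype.ext (by rw [pow_two]; exact D.z2)))
      (fun h => D.z1 (congrArg (fun x : ↥L' => ((x : ↥C) : G)) h))
    have hgen : closure {t : ↥L' | orderOf t = 2} = ⊤ := by
      haveI : IsSimpleGroup (Matrix.ProjectiveSpecialLinearGroup (Fin 3) F) :=
        PSLSimple.isSimpleGroup_PSL_fin (by norm_num) (by intro h; omega)
      haveI : Nontrivial ↥L' := nontrivial_of_ne zL' 1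
        (fun h => by rw [h, orderOf_one] at hz'2; omega)
      haveI : IsSimpleGroup ↥L' := IsSimpleGroup.isSimpleGroup_of_surjective
        eL'.symm.toMonoidHom eL'.symm.surjective
      have hnorm : (closure {t : ↥L' | orderOf t = 2}).Normal := by
        refine ⟨fun x hx k => ?_⟩
        induction hx using closure_induction with
        | mem t ht =>
          exact subset_closure (show orderOf (MulAut.conj k t) = 2 by rw [MulEquiv.orderOf_eq]; exact ht)
        | one => simp
        | mul a b _ _ ha hb =>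
          rw [show k * (a * b) * k⁻¹ = (k * a * k⁻¹) * (k * b * k⁻¹) by group]
          exact mul_mem ha hb
        | inv a _ ha =>
          rw [show k * a⁻¹ * k⁻¹ = (k * a * k⁻¹)⁻¹ by group]
          exact inv_mem ha
      rcases hnorm.eq_bot_or_eq_top with h' | h'
      · have hmem : zL' ∈ Subgroup.closure {t : ↥L' | orderOf t = 2} :=
          Subgroup.subset_closure (show orderOf zL' = 2 from hz'2)
        rw [h', Subgroup.mem_bot] at hmem
        rw [hmem, orderOf_one] at hz'2
        omega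
      · exact h'
    have hcoe : ∀ x : ↥L', ((e x : ↥(Lv v y)) : G) = ((x : ↥C) : G) := fun x => by
      exact Subgroup.subgroupOfEquivOfLe_apply_coe hLy x
    have hmem : ∀ x : ↥L', x ∈ (K.subgroupOf C).subgroupOf L' ↔ e x ∈ M := fun x => by
      rw [hMdef, mem_subgroupOf, mem_subgroupOf, mem_subgroupOf, hcoe]
    have key := SuzPresOrbit50.card_meet L' ((Lv v₁ y).subgroupOf C) (K.subgroupOf C)
      ((zpowers y).subgroupOf C) zL'
      D.card_cy
      (by rw [Nat.card_congr (subgroupOfEquivOfLe hKC).toEquiv, hcardK])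
      (by rw [Nat.card_congr (subgroupOfEquivOfLe (zpowers_le_cy y)).toEquiv, D.card_X])
      (fun N hN => by
        rcases D.normal_cy (N.map C.subtype) (map_subtype_le N) (fun x hx n hn => by
            obtain ⟨n', hn', rfl⟩ := hn
            exact ⟨_, hN.conj_mem n' hn' ⟨x, hx⟩, rfl⟩) with h' | h'
        · exact Or.inl fun n hn => h' ⟨n, hn, rfl⟩
        · refine Or.inr (top_le_iff.1 fun n _ => ?_)
          have : (n : G) ∈ N.map C.subtype := h' ▸ n.2
          obtain ⟨n', hn', e'⟩ := this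
          rwa [← Subtype.ext e'])
      (fun x hx => le_mulX hL₁y hx)
      ⟨⟨h, hh⟩, by
        refine eq_of_le_of_card_ge ?_ ?_
        · rintro _ ⟨x, hx, rfl⟩
          have hx' := mem_Lv.1 (show (x : G) ∈ Lv v y from hx)
          show h * (x : G) * h⁻¹ ∈ Lv v₁ y
          refine mem_Lv.2 ⟨?_, ?_⟩
          · rw [← hhv]
            calc h * (x : G) * h⁻¹ * (h * v * h⁻¹) = h * ((x : G) * v) * h⁻¹ := by group
              _ = _ := by rw [hx'.1]; group
          · exact mem_cy.1 (mul_mem (mul_mem hh x.2) (inv_mem hh))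
        · rw [card_map_of_injective (MulAut.conj _).injective, hL'c,
            Nat.card_congr (subgroupOfEquivOfLe hL₁y).toEquiv, hcardL₁]⟩
      (fun k hk => by
        refine eq_of_le_of_card_ge ?_ ?_
        · rintro _ ⟨x, hx, rfl⟩
          have hx' : x ∈ closure (C.subtype ⁻¹' (Set.univ) : Set ↥C) := subset_closure trivial
          clear hx'
          have hsub : ∀ t : ↥L', MulAut.conj k (t : ↥C) ∈ (Lv v₁ y).subgroupOf C := by
            intro t
            have htop : t ∈ closure {t : ↥L' | orderOf t = 2} := hgen ▸ Subgroup.mem_top t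
            induction htop using closure_induction with
            | mem t ht =>
              refine hKinv _ (hk ⟨t, t.2, rfl⟩) ?_
              have h2 : t * t = 1 := by rw [← pow_two, ← ht, pow_orderOf_eq_one]
              have h3 : ((t : ↥C) : G) * ((t : ↥C) : G) = 1 :=
                congrArg (fun x : ↥L' => ((x : ↥C) : G)) h2
              show (k : G) * ((t : ↥C) : G) * (k : G)⁻¹ * ((k : G) * ((t : ↥C) : G) * (k : G)⁻¹) = 1
              calc (k : G) * ((t : ↥C) : G) * (k : G)⁻¹ * ((k : G) * ((t : ↥C) : G) * (k : G)⁻¹)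
                  = (k : G) * (((t : ↥C) : G) * ((t : ↥C) : G)) * (k : G)⁻¹ := by group
                _ = 1 := by rw [h3]; group
            | one => simp
            | mul a b _ _ ha hb => rw [Subgroup.coe_mul, map_mul]; exact mul_mem ha hb
            | inv a _ ha => rw [Subgroup.coe_inv, map_inv]; exact inv_mem ha
          exact hsub ⟨x, hx⟩
        · rw [card_map_of_injective (MulAut.conj _).injective, hL'c,
            Nat.card_congr (subgroupOfEquivOfLe hL₁y).toEquiv, hcardL₁])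
      (fun k hk => by
        refine eq_of_le_of_card_ge ?_ (card_map_of_injective (MulAut.conj _).injective).ge
        rintro _ ⟨x, hx, rfl⟩
        obtain ⟨k₀, hk₀, hl⟩ := (mem_mulX hL₁y).1 (mem_subgroupOf.1 hk)
        show (k : G) * (x : G) * (k : G)⁻¹ ∈ Lv v₁ y
        have hxk : (x : G) * k₀ = k₀ * (x : G) := comm_zpow (mem_cy.1 x.2) hk₀
        have e' : (k : G) * (x : G) * (k : G)⁻¹ = (k * k₀⁻¹) * x * ((k : G) * k₀⁻¹)⁻¹ := by
          calc (k : G) * (x : G) * (k : G)⁻¹ = k * k₀⁻¹ * (k₀ * x) * (k : G)⁻¹ := by group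
            _ = k * k₀⁻¹ * (x * k₀) * (k : G)⁻¹ := by rw [hxk]
            _ = _ := by group
        rw [e']
        exact mul_mem (mul_mem hl hx) (inv_mem hl))
      (fun x hx hxx => hKinv _ hx (congrArg Subtype.val hxx))
      hz'2
      (by
        rw [← D.card_cyz]
        exact Nat.card_congr
          { toFun := fun x => ⟨(x.1 : G), x.1.2, mem_centralizer_singleton_iff.2
              (congrArg Subtype.val (mem_centralizer_singleton_iff.1 x.2))⟩
            invFun := fun x => ⟨⟨(x : G), x.2.1⟩, mem_centralizer_singleton_iff.2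
              (Subtype.ext (mem_centralizer_singleton_iff.1 x.2.2))⟩
            left_inv := fun x => rfl
            right_inv := fun x => rfl })
      hL'c (SuzPresL34Gen50.card_cent hF eL' hz'2)
      (fun t ht => SuzPresL34Gen50.isConj_invol hF eL' hz'2 ht)
      (W.small hF eL') (W.inv hF eL') (W.case hF eL')
      (le_mulX hL₁y D.z_mem₁)
      (by rwa [Nat.card_congr (Equiv.subtypeEquiv e.toEquiv hmem :
        ↥((K.subgroupOf C).subgroupOf L') ≃ ↥M)])
      (by rwa [Nat.card_congr (Equiv.subtypeEquiv e.toEquiv hmem :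
        ↥((K.subgroupOf C).subgroupOf L') ≃ ↥M)])
      (by
        rw [← hD8, ← hMc]
        refine Nat.card_congr (Equiv.subtypeEquiv e.toEquiv fun x => ?_)
        rw [Subgroup.mem_inf, Subgroup.mem_inf, mem_centralizer_singleton_iff,
          mem_centralizer_singleton_iff]
        refine and_congr (hmem x) ?_
        have hzc : ((zL' : ↥C) : G) = z := rfl
        constructor
        · intro h'
          refine Subtype.ext ?_
          show (e x : G) * z = z * (e x : G)
          rw [hcoe, ← hzc]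
          exact congrArg (fun w : ↥L' => ((w : ↥C) : G)) h'
        · intro h'
          refine Subtype.ext (Subtype.ext ?_)
          show ((x : ↥C) : G) * z = z * ((x : ↥C) : G)
          rw [← hcoe]
          exact congrArg Subtype.val h')
    rw [← key]
    exact (Nat.card_congr (Equiv.subtypeEquiv e.toEquiv hmem :
      ↥((K.subgroupOf C).subgroupOf L') ≃ ↥M)).symm
  obtain ⟨b, hbM, hb2, hbf, hbg, hbfg⟩ := W.six hF eL M h360 hfM hgM hf2 hg2 hfg hz2 hz1 hMz
  refine ⟨b, b.2, by rw [Subgroup.orderOf_coe, hb2], ?_, congrArg Subtype.val hbf,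
    congrArg Subtype.val hbg, congrArg Subtype.val hbfg⟩
  have hbb : (b : G) * b = 1 := by
    have : b * b = 1 := by rw [← pow_two, ← hb2, pow_orderOf_eq_one]
    exact congrArg Subtype.val this
  exact (mem_Lv.1 (hKinv _ (mem_subgroupOf.1 hbM) hbb)).1

end Cfsg.Agent.SuzPresMeet50
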