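import Cfsg.Agent.Lib.L34Cover60
import Cfsg.Agent.Lib.CNFactsPSL34_57

/-!
Finite checks in `PSL₃(4)` for the presentation of the Suzuki sporadic group: the centralisers of
elements of order `5` and `7`, and the completion of a dihedral group of order `8` of involutions
to the generators of a copy of `PSL₃(4)`.
-/

set_option autoImplicit false
set_option maxRecDepth 100000
set_option maxHeartbeats 0
set_option Elab.async false

namespace Cfsg.Agent.SuzPresModel50

open scoped MatrixGroups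
open Cfsg.Agent.FieldFour15 Cfsg.Agent.L34Cover60 Cfsg.Agent.L34CoverChecks60

/-- The nine entries give a scalar matrix. -/
def isSc (m : M9) : Bool :=
  match m with
  | ⟨.o, _, _, _, _, _, _, _, _⟩ => false
  | ⟨x, .o, .o, .o, y, .o, .o, .o, z⟩ => decide (x = y ∧ x = z)
  | _ => false

/-- Scalar multiples of the identity. -/
theorem isSc_smul : ∀ l : K4, l ≠ .o → isSc (M9.smul l M9.one) = true := by decide

theorem isSc_spec {m : M9} (h : isSc m = true) :
    m.a00 ≠ .o ∧ m = M9.smul m.a00 M9.one := by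
  obtain ⟨a, b, c, d, e, f, g, i, j⟩ := m
  cases a <;> cases b <;> try (simp [isSc] at h)
  all_goals (cases c <;> cases d <;> cases f <;> cases g <;> cases i <;> try (simp at h))
  all_goals (obtain ⟨rfl, rfl⟩ := h; exact ⟨by decide, rfl⟩)

theorem pr_eq_one_iff {g : S3} : pr g = 1 ↔ isSc (φ g) = true := by
  constructor
  · intro h
    obtain ⟨r, hr, hrs⟩ := Matrix.SpecialLinearGroup.mem_center_iff.1 ((QuotientGroup.eq_one_iff _).1 h)
    have hr0 : r ≠ .o := by
      rintro rfl
      exact absurd hr (by decide)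
    have e : φ g = M9.smul r M9.one := by
      rw [← ofMat_one, ← ofMat_smul, φ, ← hrs]
      congr 1
      ext i j
      fin_cases i <;> fin_cases j <;> simp [Matrix.scalar_apply]
    rw [e]
    exact isSc_smul r hr0
  · intro h
    obtain ⟨h0, e⟩ := isSc_spec h
    rw [← φ_one] at e
    rw [pr_eq_of_smul h0 e, map_one]

theorem pr_mul_eq_one {g h : S3} : pr g * pr h = 1 ↔ isSc ((φ g).mul (φ h)) = true := by
  rw [← map_mul, pr_eq_one_iff, φ_mul]

theorem surj_pr : Function.Surjective pr := QuotientGroup.mk'_surjective _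

/-- Entries on the diagonal line of a scalar multiple. -/
theorem pr_comm {g h : S3} (e : pr g * pr h = pr h * pr g) :
    ∃ r : K4, r ≠ .o ∧ (φ g).mul (φ h) = M9.smul r ((φ h).mul (φ g)) := by
  rw [← map_mul, ← map_mul] at e
  obtain ⟨r, hr, hrs⟩ :=
    Matrix.SpecialLinearGroup.mem_center_iff.1 (QuotientGroup.eq.1 e.symm)
  refine ⟨r, ?_, ?_⟩
  · rintro rfl
    exact absurd hr (by decide)
  · rw [← φ_mul, ← φ_mul, show g * h = h * g * ((h * g)⁻¹ * (g * h)) by rw [mul_inv_cancel_left],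
      φ, Matrix.SpecialLinearGroup.coe_mul _ ((h * g)⁻¹ * (g * h)), ← hrs, φ, ← ofMat_smul]
    congr 1
    ext i j
    simp [Matrix.scalar_apply, Matrix.mul_diagonal, mul_comm]

/-! ### A transvection and its centraliser -/

/-- The transvection. -/
def t9 : M9 := ⟨.l, .o, .o, .l, .l, .o, .o, .o, .l⟩

/-- The element given by a transvection. -/
def tP : P3 := pr (mk t9)

/-- The elements centralising the transvection. -/
def cz (p : K4 × K4 × K4) : M9 := ⟨.l, .o, .o, p.1, .l, p.2.1, p.2.2, .o, .l⟩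

theorem solve₁ : ∀ r x y : K4, r ≠ .o → r ≠ .l → K4.add x y = K4.mul r x → y = K4.mul r y →
    x = .o ∧ y = .o := by decide

theorem solve₂ : ∀ r x : K4, r ≠ .l → x = K4.mul r x → x = .o := by decide

theorem cent_scale : ∀ x s t u w : K4, K4.mul x (K4.mul x w) = .l →
    x ≠ .o ∧ w = x ∧ M9.smul (K4.inv x) ⟨x, .o, .o, s, x, t, u, .o, w⟩ =
      cz (K4.mul (K4.inv x) s, K4.mul (K4.inv x) t, K4.mul (K4.inv x) u) := by decide

theorem det_shape : ∀ x s t u w : K4,
    M9.det ⟨x, .o, .o, s, x, t, u, .o, w⟩ = K4.mul x (K4.mul x w) := by decide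

theorem add_eq_left : ∀ x y : K4, K4.add x y = x → y = .o := by decide

theorem add_eq_mid : ∀ x y w : K4, K4.add x y = K4.add w x → y = w := by decide

/-- The centraliser of the transvection. -/
theorem cent_tP {x : P3} (h : x * tP = tP * x) : ∃ p, x = pr (mk (cz p)) := by
  obtain ⟨g, rfl⟩ := surj_pr x
  obtain ⟨r, hr, e⟩ := pr_comm h
  rw [φ_mk (show t9.det = .l by decide)] at e
  have hd : (φ g).det = .l := by
    rw [← det_toMat, φ, toMat_ofMat]
    exact g.2
  generalize hm : φ g = m at e hd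
  obtain ⟨a, b, c, d, e', f, u, v, w⟩ := m
  simp only [t9, M9.mul, M9.smul, M9.mk.injEq] at e
  obtain ⟨e00, e01, e02, e10, e11, e12, e20, e21, e22⟩ := e
  have hz : ∀ q : K4, K4.mul q .o = .o := by decide
  have ho : ∀ q : K4, K4.mul .o q = .o := by decide
  have hl : ∀ q : K4, K4.mul q .l = q := by decide
  have hl' : ∀ q : K4, K4.mul .l q = q := by decide
  have hao : ∀ q : K4, K4.add q .o = q := by decide
  have hoa : ∀ q : K4, K4.add .o q = q := by decide
  simp only [hz, ho, hl, hl', hao, hoa] at e00 e01 e02 e10 e11 e12 e20 e21 e22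
  by_cases hr1 : r = .l
  · subst hr1
    simp only [hl'] at e00 e01 e02 e10 e11 e12 e20 e21 e22
    have hb : b = .o := add_eq_left a b e00
    have hc : c = .o := by
      clear * - e12
      revert e12; revert c f; decide
    have hv : v = .o := add_eq_left u v e20
    have he : e' = a := by
      clear * - e10 hb
      subst hb
      revert e10; revert a d e'; decide
    subst hb hc hv he
    rw [det_shape] at hd
    obtain ⟨h0, hw, hsc⟩ := cent_scale _ d f u w hd
    refine ⟨(K4.mul (K4.inv e') d, K4.mul (K4.inv e') f, K4.mul (K4.inv e') u),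
      (pr_eq_of_smul (g := mk (cz (K4.mul (K4.inv e') d, K4.mul (K4.inv e') f, K4.mul (K4.inv e') u)))
        (h := g) (l := K4.inv e') (fun hh => h0 ?_) ?_).symm⟩
    · clear * - hh
      revert hh; revert e'; decide
    · rw [hm, φ_mk, hsc]
      show M9.det (cz _) = .l
      simp only [cz]
      generalize K4.mul (K4.inv e') d = p, K4.mul (K4.inv e') f = q, K4.mul (K4.inv e') u = s
      revert p q s; decide
  · exfalso
    obtain ⟨ha, hb⟩ := solve₁ r a b hr hr1 e00 e01
    have hc := solve₂ r c hr1 e02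
    subst ha hb hc
    have : M9.det ⟨.o, .o, .o, d, e', f, u, v, w⟩ = .o := by
      clear * - d
      revert d e' f u v w; decide
    rw [this] at hd
    exact absurd hd (by decide)

/-! ### Involutions -/

/-- A transvection from a vector and a functional. -/
def tv9 (v w : K4 × K4 × K4) : M9 :=
  ⟨K4.add .l (K4.mul v.1 w.1), K4.mul v.1 w.2.1, K4.mul v.1 w.2.2,
    K4.mul v.2.1 w.1, K4.add .l (K4.mul v.2.1 w.2.1), K4.mul v.2.1 w.2.2,
    K4.mul v.2.2 w.1, K4.mul v.2.2 w.2.1, K4.add .l (K4.mul v.2.2 w.2.2)⟩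

/-- Pairing. -/
def dot (v w : K4 × K4 × K4) : K4 :=
  K4.add (K4.add (K4.mul v.1 w.1) (K4.mul v.2.1 w.2.1)) (K4.mul v.2.2 w.2.2)

theorem invol_tv {x : P3} (hx : orderOf x = 2) :
    ∃ v w, dot v w = .o ∧ (tv9 v w).det = .l ∧ x = pr (mk (tv9 v w)) := by
  have hF : Fintype.card K4 = 4 := K4.card_eq
  obtain ⟨c, hc⟩ := isConj_iff.1 ((CNFactsPSL34_57.conj_T0 hF hx).symm)
  obtain ⟨g, rfl⟩ := surj_pr c
  have e : x = pr (g * CNFactsPSL34_57.T0 * g⁻¹) := by
    rw [← hc, map_mul, map_mul, map_inv]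
    rfl
  have h1 : g.1 * (g⁻¹).1 = 1 := by
    rw [← Matrix.SpecialLinearGroup.coe_mul, mul_inv_cancel, Matrix.SpecialLinearGroup.coe_one]
  have h2 : (g⁻¹).1 * g.1 = 1 := by
    rw [← Matrix.SpecialLinearGroup.coe_mul, inv_mul_cancel, Matrix.SpecialLinearGroup.coe_one]
  set A := g.1 with hA
  set B := (g⁻¹).1 with hB
  have key : (g * CNFactsPSL34_57.T0 * g⁻¹).1 =
      toMat (tv9 (A 0 1, A 1 1, A 2 1) (B 0 0, B 0 1, B 0 2)) := by
    rw [Matrix.SpecialLinearGroup.coe_mul, Matrix.SpecialLinearGroup.coe_mul, ← hA, ← hB]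
    have eT : (CNFactsPSL34_57.T0 (F := K4)).1 = 1 + Matrix.single 1 0 1 := by
      ext i j
      fin_cases i <;> fin_cases j <;> rfl
    rw [eT, Matrix.mul_add, Matrix.mul_one, Matrix.add_mul, h1]
    ext i j
    fin_cases i <;> fin_cases j <;>
      simp [toMat, tv9, Matrix.mul_apply, Fin.sum_univ_three, Matrix.single_apply] <;> rfl
  refine ⟨(A 0 1, A 1 1, A 2 1), (B 0 0, B 0 1, B 0 2), ?_, ?_, ?_⟩
  rotate_left 2
  · rw [e]
    congr 1
    apply φ_injective
    rw [φ_mk, φ, key, ofMat_toMat]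
    rw [← det_toMat, ← key]
    exact Matrix.SpecialLinearGroup.det_coe _
  · have hh := congrFun (congrFun h2 0) 1
    simp [Matrix.mul_apply, Fin.sum_univ_three] at hh
    simp only [dot]
    generalize A 0 1 = p, A 1 1 = q, A 2 1 = s, B 0 0 = p', B 0 1 = q', B 0 2 = s' at hh ⊢
    revert hh
    clear * -
    revert p q s p' q' s'
    decide +kernel
  · rw [← det_toMat, ← key]
    exact Matrix.SpecialLinearGroup.det_coe _

/-! ### The completion -/

/-- The other twenty-six involutions centralising the transvection. -/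
def L24 : List (K4 × K4 × K4) :=
  ([.o, .l, .a, .b].flatMap fun r => [.l, .a, .b].flatMap fun s => [(r, .o, s), (r, s, .o)]) ++
    [(.a, .o, .o), (.b, .o, .o)]

/-- All of `K4`. -/
def all4 : List K4 := [.o, .l, .a, .b]

/-- All triples. -/
def all64 : List (K4 × K4 × K4) :=
  all4.flatMap fun r => all4.flatMap fun s => all4.map fun t => (r, s, t)

/-- Normalised vectors. -/
def V21 : List (K4 × K4 × K4) :=
  (all4.flatMap fun s => all4.map fun t => (.l, s, t)) ++ (all4.map fun t => (.o, .l, t)) ++ [(.o, .o, .l)]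

/-- The third power is scalar. -/
def cube (m : M9) : Bool := isSc (m.mul (m.mul m))

/-- The fifth power is scalar. -/
def fifth (m : M9) : Bool := isSc (m.mul ((m.mul m).mul (m.mul m)))

/-- The seventh power is scalar. -/
def seventh (m : M9) : Bool :=
  let m3 := m.mul (m.mul m)
  isSc (m.mul (m3.mul m3))

/-- What is claimed of the involutions `f`, `g`, `c`, `b`. -/
def concl (f g c b : M9) : Bool :=
  let zb := t9.mul b
  let c' := c.mul t9
  fifth zb &&
    ((cube (b.mul c) && (fifth (zb.mul (c.mul f)) && seventh ((b.mul c).mul (f.mul g)))) ||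
      (cube (b.mul c') && (fifth (zb.mul (c'.mul f)) && seventh ((b.mul c').mul (f.mul g))))) &&
    !(cube (b.mul c) && cube (b.mul c'))

/-- The check at one `f`. -/
def checkF (p : K4 × K4 × K4) : Bool :=
  let f := cz p
  V21.all fun v => all64.all fun w =>
    decide (dot v w ≠ .o) || decide (w = (.o, .o, .o)) ||
      (let b := tv9 v w
       let bf := b.mul f
       !cube bf || L24.all fun q =>
        let g := cz q
        let fg := f.mul g
        !(cube (b.mul g) && isSc ((fg.mul fg).mul t9) && fifth (bf.mul g)) || L24.all fun u =>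
          let c := cz u
          !(isSc ((c.mul f).mul (c.mul f)) && isSc ((c.mul g).mul (c.mul g))) || concl f g c b)

theorem check_all : L24.all checkF = true := by decide +kernel

/-- The check that the centraliser of `f` and `g` is small. -/
def uniqF (p : K4 × K4 × K4) : Bool :=
  let f := cz p
  L24.all fun q =>
    let g := cz q
    let fg := f.mul g
    !(isSc ((fg.mul fg).mul t9)) || L24.all fun u =>
      let c := cz u
      !(isSc ((c.mul f).mul (c.mul f)) && isSc ((c.mul g).mul (c.mul g))) || L24.all fun u' =>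
        let c' := cz u'
        !(isSc ((c'.mul f).mul (c'.mul f)) && isSc ((c'.mul g).mul (c'.mul g))) ||
          (isSc (c.mul c') || isSc ((c.mul c').mul t9))

theorem uniq_all : L24.all uniqF = true := by decide +kernel

theorem mem_L24 : ∀ p : K4 × K4 × K4, isSc ((cz p).mul (cz p)) = true → isSc (cz p) = false →
    isSc ((cz p).mul t9) = false → p ∈ L24 := by decide +kernel

theorem det_cz : ∀ p, (cz p).det = .l := by decide +kernel

/-- Multiply a vector by a scalar. -/
def sv (l : K4) (v : K4 × K4 × K4) : K4 × K4 × K4 := (K4.mul l v.1, K4.mul l v.2.1, K4.mul l v.2.2)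

theorem exists_norm : ∀ v : K4 × K4 × K4, v = (.o, .o, .o) ∨
    ∃ l ∈ [K4.l, .a, .b], sv l v ∈ V21 := by decide +kernel

theorem tv9_sv : ∀ l ∈ [K4.l, .a, .b], ∀ x y : K4,
    K4.mul x y = K4.mul (K4.mul l x) (K4.mul (K4.inv l) y) := by decide +kernel

theorem mem_all64 : ∀ p : K4 × K4 × K4, p ∈ all64 := by decide +kernel

theorem tv9_zero : ∀ v w, v = (K4.o, K4.o, K4.o) ∨ w = (K4.o, K4.o, K4.o) →
    tv9 v w = M9.one := by decide +kernel

/-- Every involution is a normalised transvection. -/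
theorem invol_norm {x : P3} (hx : orderOf x = 2) : ∃ v ∈ V21, ∃ w ∈ all64,
    dot v w = .o ∧ w ≠ (.o, .o, .o) ∧ (tv9 v w).det = .l ∧ x = pr (mk (tv9 v w)) := by
  obtain ⟨v, w, h, hd, rfl⟩ := invol_tv hx
  have h1 : pr (mk (tv9 v w)) ≠ 1 := fun e => by rw [e, orderOf_one] at hx; omega
  have hne : tv9 v w ≠ M9.one := fun e => h1 (pr_eq_one_iff.2 (by rw [φ_mk hd, e]; decide))
  rcases exists_norm v with hv | ⟨l, hl, hv⟩
  · exact absurd (tv9_zero v w (Or.inl hv)) hne
  · have e : tv9 (sv l v) (sv (K4.inv l) w) = tv9 v w := by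
      simp only [tv9, sv, ← tv9_sv l hl]
    refine ⟨_, hv, _, mem_all64 _, ?_, fun e' => hne ?_, e.symm ▸ hd, by rw [e]⟩
    · rw [← h]
      simp only [dot, sv, ← tv9_sv l hl]
    · rw [← e]
      exact tv9_zero _ _ (Or.inr e')

theorem pr_sq {m : M9} (h : m.det = .l) (e : pr (mk m) * pr (mk m) = 1) : isSc (m.mul m) = true := by
  rw [pr_mul_eq_one, φ_mk h] at e
  exact e

theorem cube_iff {g : S3} : pr g ^ 3 = 1 ↔ cube (φ g) = true := by
  rw [← map_pow, pr_eq_one_iff, pow_succ', pow_two, φ_mul, φ_mul]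
  rfl

theorem fifth_iff {g : S3} : pr g ^ 5 = 1 ↔ fifth (φ g) = true := by
  rw [← map_pow, pr_eq_one_iff, show g ^ 5 = g * ((g * g) * (g * g)) by simp only [pow_succ, pow_zero, one_mul, mul_assoc], φ_mul, φ_mul, φ_mul]
  rfl

theorem seventh_iff {g : S3} : pr g ^ 7 = 1 ↔ seventh (φ g) = true := by
  rw [← map_pow, pr_eq_one_iff,
    show g ^ 7 = g * ((g * (g * g)) * (g * (g * g))) by simp only [pow_succ, pow_zero, one_mul, mul_assoc],
    φ_mul, φ_mul, φ_mul, φ_mul]
  rfl

theorem mem_of {x : P3} (h2 : x * x = 1) (h : x * tP = tP * x) (h1 : x ≠ 1) (ht : x ≠ tP) :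
    ∃ p ∈ L24, x = pr (mk (cz p)) := by
  obtain ⟨p, rfl⟩ := cent_tP h
  refine ⟨p, mem_L24 p (pr_sq (det_cz p) h2) ?_ ?_, rfl⟩
  · by_contra e
    exact h1 (pr_eq_one_iff.2 (by rw [φ_mk (det_cz p)]; simpa using e))
  · by_contra e
    refine ht ?_
    have : pr (mk (cz p)) * tP = 1 := by
      rw [tP, pr_mul_eq_one, φ_mk (det_cz p), φ_mk (show t9.det = .l by decide)]
      simpa using e
    have hh : tP * tP = 1 := by
      rw [tP, pr_mul_eq_one, φ_mk (show t9.det = .l by decide)]
      decide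
    calc pr (mk (cz p)) = pr (mk (cz p)) * (tP * tP) := by rw [hh, mul_one]
      _ = tP := by rw [← mul_assoc, this, one_mul]

/-- The completion, at the transvection. -/
theorem complete_tP {f g c b : P3} (hf : f * f = 1) (hg : g * g = 1) (hc : c * c = 1)
    (hfg : (f * g) * (f * g) = tP) (hcf : c * f = f * c) (hcg : c * g = g * c) (hc1 : c ≠ 1)
    (hct : c ≠ tP) (hb : orderOf b = 2) (hbf : (b * f) ^ 3 = 1) (hbg : (b * g) ^ 3 = 1)
    (hbfg : (b * f * g) ^ 5 = 1) :
    (tP * b) ^ 5 = 1 ∧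
      (((b * c) ^ 3 = 1 ∧ (tP * b * (c * f)) ^ 5 = 1 ∧ (b * c * (f * g)) ^ 7 = 1) ∨
        ((b * (c * tP)) ^ 3 = 1 ∧ (tP * b * (c * tP * f)) ^ 5 = 1 ∧
          (b * (c * tP) * (f * g)) ^ 7 = 1)) ∧
      ¬ ((b * c) ^ 3 = 1 ∧ (b * (c * tP)) ^ 3 = 1) := by
  have hd : t9.det = .l := by decide
  have hfi : f⁻¹ = f := inv_eq_of_mul_eq_one_left hf
  have hgi : g⁻¹ = g := inv_eq_of_mul_eq_one_left hg
  have ht1 : tP ≠ 1 := fun e => by
    have := pr_eq_one_iff.1 e
    rw [φ_mk hd] at this
    exact absurd this (by decide)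
  have htf : f * tP = tP * f := by
    have htt : tP⁻¹ = tP := inv_eq_of_mul_eq_one_left (by
      rw [tP, pr_mul_eq_one, φ_mk hd]; decide)
    have e1 : f * tP * f = tP⁻¹ := by
      rw [← hfg]
      calc f * (f * g * (f * g)) * f = (f * f) * g * f * g * f := by simp only [mul_assoc]
        _ = g * f * g * f := by rw [hf, one_mul]
        _ = (f * g * (f * g))⁻¹ := by simp only [mul_inv_rev, hfi, hgi, mul_assoc]
    rw [htt] at e1
    calc f * tP = f * tP * (f * f) := by rw [hf, mul_one]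
      _ = (f * tP * f) * f := by simp only [mul_assoc]
      _ = tP * f := by rw [e1]
  have htg : g * tP = tP * g := by
    rw [← hfg]
    calc g * (f * g * (f * g)) = (g * f * g * f) * g := by simp only [mul_assoc]
      _ = (f * g * (f * g))⁻¹ * g := by simp only [mul_inv_rev, hfi, hgi, mul_assoc]
      _ = _ := by
        rw [show (f * g * (f * g))⁻¹ = f * g * (f * g) by
          rw [hfg]; exact inv_eq_of_mul_eq_one_left (by rw [tP, pr_mul_eq_one, φ_mk hd]; decide)]
  have htc : c * tP = tP * c := by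
    rw [← hfg]
    exact ((Commute.mul_right hcf hcg).mul_right (Commute.mul_right hcf hcg)).eq
  have hf1 : f ≠ 1 := fun e => ht1 (by rw [← hfg, e, one_mul, hg])
  have hg1 : g ≠ 1 := fun e => ht1 (by rw [← hfg, e, mul_one, hf])
  have hft : f ≠ tP := fun e => ht1 (by
    have hh : f * g = g * f := by rw [e, htg]
    rw [← hfg, show f * g * (f * g) = f * (g * f) * g by simp only [mul_assoc], ← hh,
      show f * (f * g) * g = (f * f) * (g * g) by simp only [mul_assoc], hf, hg, one_mul])
  have hgt : g ≠ tP := fun e => ht1 (by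
    have hh : f * g = g * f := by rw [e, htf]
    rw [← hfg, show f * g * (f * g) = f * (g * f) * g by simp only [mul_assoc], ← hh,
      show f * (f * g) * g = (f * f) * (g * g) by simp only [mul_assoc], hf, hg, one_mul])
  obtain ⟨p, hp, rfl⟩ := mem_of hf htf hf1 hft
  obtain ⟨q, hq, rfl⟩ := mem_of hg htg hg1 hgt
  obtain ⟨u, hu, rfl⟩ := mem_of hc htc hc1 hct
  obtain ⟨v, hv, w, hw, hdot, hw0, hdet, rfl⟩ := invol_norm hb
  have key := List.all_eq_true.1 check_all p hp
  simp only [checkF, List.all_eq_true, Bool.or_eq_true, decide_eq_true_eq, Bool.not_eq_true',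
    Bool.and_eq_false_imp, Bool.and_eq_true] at key
  have hpd := det_cz p
  have hqd := det_cz q
  have hud := det_cz u
  have k1 := (key v hv w hw).resolve_left (not_or.2 ⟨fun e => e hdot, hw0⟩)
  have hA : cube ((tv9 v w).mul (cz p)) = true := by
    rw [← map_mul, cube_iff, φ_mul, φ_mk hdet, φ_mk hpd] at hbf; exact hbf
  have k2 := k1.resolve_left (by simp [hA]) q hq
  have hB : cube ((tv9 v w).mul (cz q)) = true := by
    rw [← map_mul, cube_iff, φ_mul, φ_mk hdet, φ_mk hqd] at hbg; exact hbg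
  have hC : fifth (((tv9 v w).mul (cz p)).mul (cz q)) = true := by
    rw [← map_mul, ← map_mul, fifth_iff, φ_mul, φ_mul, φ_mk hdet, φ_mk hpd, φ_mk hqd] at hbfg
    exact hbfg
  have hD : isSc ((((cz p).mul (cz q)).mul ((cz p).mul (cz q))).mul t9) = true := by
    have : pr (mk (cz p) * mk (cz q) * (mk (cz p) * mk (cz q))) * tP = 1 := by
      rw [map_mul, map_mul, hfg, tP, pr_mul_eq_one, φ_mk hd]; decide
    rw [tP, pr_mul_eq_one, φ_mul, φ_mul, φ_mk hpd, φ_mk hqd, φ_mk hd] at this
    exact this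
  have k3 := k2.resolve_left (by simp [hB, hC, hD]) u hu
  have hE : ∀ {s : M9}, s.det = .l → pr (mk (cz u)) * pr (mk s) = pr (mk s) * pr (mk (cz u)) →
      pr (mk s) * pr (mk s) = 1 → isSc (((cz u).mul s).mul ((cz u).mul s)) = true := by
    intro s hs hcom hss
    have : pr (mk (cz u) * mk s) * pr (mk (cz u) * mk s) = 1 := by
      rw [map_mul, Commute.mul_mul_mul_comm (show Commute (pr (mk s)) (pr (mk (cz u))) from hcom.symm),
        hc, hss, one_mul]
    rw [pr_mul_eq_one, φ_mul, φ_mk hud, φ_mk hs] at this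
    exact this
  have k4 := k3.resolve_left (by simp [hE hpd hcf hf, hE hqd hcg hg])
  simp only [concl, Bool.and_eq_true, Bool.or_eq_true, Bool.not_eq_true',
    Bool.and_eq_false_imp] at k4
  simp only [tP, ← map_mul, cube_iff, fifth_iff, seventh_iff, φ_mul, φ_mk hdet, φ_mk hpd, φ_mk hud, φ_mk hqd, φ_mk hd]
  obtain ⟨⟨k5, k6⟩, k7⟩ := k4
  exact ⟨k5, k6, fun ⟨x, y⟩ => Bool.false_ne_true ((k7 x).symm.trans y)⟩

/-- The involutions centralising `f` and `g` besides the transvection differ by it. -/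
theorem uniq_tP {f g c c' : P3} (hf : f * f = 1) (hg : g * g = 1) (hfg : (f * g) * (f * g) = tP)
    (htf : f * tP = tP * f) (htg : g * tP = tP * g) (hf1 : f ≠ 1) (hft : f ≠ tP) (hg1 : g ≠ 1)
    (hgt : g ≠ tP) (hc : c * c = 1) (hcf : c * f = f * c) (hcg : c * g = g * c) (hc1 : c ≠ 1)
    (hct : c ≠ tP) (hc' : c' * c' = 1) (hcf' : c' * f = f * c') (hcg' : c' * g = g * c')
    (hc1' : c' ≠ 1) (hct' : c' ≠ tP) : c * c' = 1 ∨ c * c' * tP = 1 := by
  have hd : t9.det = .l := by decide
  have htc : c * tP = tP * c := by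
    rw [← hfg]
    exact ((Commute.mul_right hcf hcg).mul_right (Commute.mul_right hcf hcg)).eq
  have htc' : c' * tP = tP * c' := by
    rw [← hfg]
    exact ((Commute.mul_right hcf' hcg').mul_right (Commute.mul_right hcf' hcg')).eq
  obtain ⟨p, hp, rfl⟩ := mem_of hf htf hf1 hft
  obtain ⟨q, hq, rfl⟩ := mem_of hg htg hg1 hgt
  obtain ⟨u, hu, rfl⟩ := mem_of hc htc hc1 hct
  obtain ⟨u', hu', rfl⟩ := mem_of hc' htc' hc1' hct'
  have key := List.all_eq_true.1 uniq_all p hp
  simp only [uniqF, List.all_eq_true, Bool.or_eq_true, Bool.not_eq_true', Bool.and_eq_false_imp,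
    Bool.and_eq_true] at key
  have hD : isSc ((((cz p).mul (cz q)).mul ((cz p).mul (cz q))).mul t9) = true := by
    have : pr (mk (cz p) * mk (cz q) * (mk (cz p) * mk (cz q))) * tP = 1 := by
      rw [map_mul, map_mul, hfg, tP, pr_mul_eq_one, φ_mk hd]; decide
    rw [tP, pr_mul_eq_one, φ_mul, φ_mul, φ_mk (det_cz p), φ_mk (det_cz q), φ_mk hd] at this
    exact this
  have hE : ∀ {w s : K4 × K4 × K4}, pr (mk (cz w)) * pr (mk (cz w)) = 1 →
      pr (mk (cz w)) * pr (mk (cz s)) = pr (mk (cz s)) * pr (mk (cz w)) →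
      pr (mk (cz s)) * pr (mk (cz s)) = 1 →
      isSc (((cz w).mul (cz s)).mul ((cz w).mul (cz s))) = true := by
    intro w s hww hcom hss
    have : pr (mk (cz w) * mk (cz s)) * pr (mk (cz w) * mk (cz s)) = 1 := by
      rw [map_mul, Commute.mul_mul_mul_comm (show Commute (pr (mk (cz s))) (pr (mk (cz w))) from hcom.symm),
        hww, hss, one_mul]
    rw [pr_mul_eq_one, φ_mul, φ_mk (det_cz w), φ_mk (det_cz s)] at this
    exact this
  have k2 := (key q hq).resolve_left (by simp [hD]) u hu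
  have k3 := k2.resolve_left (by simp [hE hc hcf hf, hE hc hcg hg]) u' hu'
  have k4 := k3.resolve_left (by simp [hE hc' hcf' hf, hE hc' hcg' hg])
  simp only [tP, ← map_mul, pr_eq_one_iff, φ_mul, φ_mk (det_cz u), φ_mk (det_cz u'), φ_mk hd]
  exact k4

/-! ### Elements of order five and seven -/

/-- Companion matrix of order seven. -/
def w7 : M9 := ⟨.o, .o, .l, .l, .o, .o, .o, .l, .l⟩

/-- Companion matrix of order five. -/
def w5 : M9 := ⟨.o, .o, .l, .l, .o, .l, .o, .l, .a⟩

/-- The matrix with given first column intertwining a companion matrix. -/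
def colMat (W : M9) (r : K4) (v : K4 × K4 × K4) : M9 :=
  let u : K4 × K4 × K4 :=
    (K4.mul r (dot (W.a00, W.a01, W.a02) v), K4.mul r (dot (W.a10, W.a11, W.a12) v),
      K4.mul r (dot (W.a20, W.a21, W.a22) v))
  ⟨v.1, u.1, K4.mul r (dot (W.a00, W.a01, W.a02) u),
    v.2.1, u.2.1, K4.mul r (dot (W.a10, W.a11, W.a12) u),
    v.2.2, u.2.2, K4.mul r (dot (W.a20, W.a21, W.a22) u)⟩

/-- The check: the centraliser is the cyclic group. -/
def centOK (W : M9) (n : ℕ) : Bool :=
  [K4.l, .a, .b].all fun r => all64.all fun v =>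
    let g := colMat W r v
    !(decide (g.det = .l) && decide (g.mul W = M9.smul r (W.mul g))) ||
      (List.range n).any fun j => [K4.l, .a, .b].any fun l => decide (g = M9.smul l (W.pow j))

theorem cent7 : centOK w7 7 = true := by decide +kernel

theorem cent5 : centOK w5 5 = true := by decide +kernel

/-- A companion matrix. -/
def IsComp (W : M9) : Prop :=
  W.a00 = .o ∧ W.a10 = .l ∧ W.a20 = .o ∧ W.a01 = .o ∧ W.a11 = .o ∧ W.a21 = .l

theorem mem_zpowers_of_comm {W : M9} {n : ℕ} (hW : IsComp W) (hWd : W.det = .l)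
    (hok : centOK W n = true) {x : P3} (h : x * pr (mk W) = pr (mk W) * x) :
    x ∈ Subgroup.zpowers (pr (mk W)) := by
  obtain ⟨g, rfl⟩ := surj_pr x
  obtain ⟨r, hr, e⟩ := pr_comm h
  rw [φ_mk hWd] at e
  have hd : (φ g).det = .l := by
    rw [← det_toMat, φ, toMat_ofMat]
    exact g.2
  generalize hm : φ g = m at e hd
  have hcol : m = colMat W r (m.a00, m.a10, m.a20) := by
    obtain ⟨W0, W1, W2, W3, W4, W5, W6, W7, W8⟩ := W
    obtain ⟨rfl, rfl, rfl, rfl, rfl, rfl⟩ := hW
    obtain ⟨a, b, c, d, e', f, u, v, w⟩ := m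
    simp only [M9.mul, M9.smul, M9.mk.injEq] at e
    obtain ⟨e00, e01, -, e10, e11, -, e20, e21, -⟩ := e
    have hz : ∀ q : K4, K4.mul q .o = .o := by decide
    have hl : ∀ q : K4, K4.mul q .l = q := by decide
    have hao : ∀ q : K4, K4.add q .o = q := by decide
    have hoa : ∀ q : K4, K4.add .o q = q := by decide
    simp only [hz, hl, hao, hoa] at e00 e01 e10 e11 e20 e21
    simp only [colMat, dot, M9.mk.injEq]
    refine ⟨trivial, ?_, ?_, trivial, ?_, ?_, trivial, ?_, ?_⟩ <;>
      simp_all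
  have key := hok
  simp only [centOK, List.all_eq_true, List.any_eq_true, Bool.or_eq_true, Bool.not_eq_true',
    Bool.and_eq_false_imp, decide_eq_true_eq, decide_eq_false_iff_not, List.mem_range] at key
  have hmem : r ∈ [K4.l, .a, .b] := by
    clear * - hr
    revert hr; revert r; decide
  obtain ⟨j, -, l, hl, hg⟩ := (key r hmem _ (mem_all64 (m.a00, m.a10, m.a20))).resolve_left (by
    rw [← hcol]; exact fun h' => h' hd e)
  refine Subgroup.mem_zpowers_iff.2 ⟨j, ?_⟩
  rw [zpow_natCast, ← map_pow]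
  refine (pr_eq_of_smul (l := l) ?_ ?_).symm
  · clear * - hl
    revert hl; revert l; decide
  · rw [hm, φ_pow, φ_mk hWd, hcol]
    exact hg

theorem card_cent_of {W : M9} {n : ℕ} [Fact n.Prime] (hW : IsComp W) (hWd : W.det = .l)
    (hok : centOK W n = true) (hn : isSc (W.pow n) = true) (h1 : isSc W = false) :
    orderOf (pr (mk W)) = n ∧ Nat.card ↥(Subgroup.centralizer ({pr (mk W)} : Set P3)) = n := by
  have ho : orderOf (pr (mk W)) = n := orderOf_eq_prime
    (by rw [← map_pow, pr_eq_one_iff, φ_pow, φ_mk hWd, hn])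
    (fun e => by rw [pr_eq_one_iff, φ_mk hWd, h1] at e; exact absurd e (by decide))
  refine ⟨ho, ?_⟩
  have he : Subgroup.centralizer ({pr (mk W)} : Set P3) = Subgroup.zpowers (pr (mk W)) := by
    refine le_antisymm (fun x hx => mem_zpowers_of_comm hW hWd hok
      (Subgroup.mem_centralizer_singleton_iff.1 hx)) ?_
    rw [Subgroup.zpowers_le]
    exact Subgroup.mem_centralizer_singleton_iff.2 rfl
  rw [he, Nat.card_zpowers, ho]

end Cfsg.Agent.SuzPresModel50
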