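import Cfsg.Agent.Lib.CosetCertSuzSimple
import Cfsg.Agent.Lib.CosetCertRestrict
import Cfsg.Agent.Lib.SuzRankThree84Data

/-!
The rank three action of Suz on 1782 points: words, the point stabiliser, the invariant graph and a
bound for its automorphism group by refinement along a base.
-/

set_option autoImplicit false
set_option maxRecDepth 100000
set_option linter.style.haveILetI false

namespace Cfsg.Agent.SuzRankThree84

open Cfsg.Agent.CosetCertCore Cfsg.Agent.CosetCertTable Cfsg.Agent.CosetCertPres Cfsg.Agent.CosetCertOrder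

/-- The points. -/
abbrev Pt : Type := Fin CosetCertSuzGData.table.N

/-- The number of points. -/
theorem N_eq : CosetCertSuzGData.table.N = 1782 := rfl

/-- A point. -/
def pt (i : Nat) (hi : i < 1782) : Pt := ⟨i, hi⟩

theorem pt_lt (i : Pt) : (i : Nat) < 1782 := i.2

/-- The action of the presented group. -/
noncomputable def act0 : CosetCertSuzGData.pres.Grp →* Equiv.Perm Pt := rho CosetCertSuzG.enumerated

theorem act0_injective : Function.Injective act0 := CosetCertSuzSimple.card_and_faithful.2

/-- The element of a word. -/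
noncomputable def el (w : List Nat) : Equiv.Perm Pt := act0 (val CosetCertSuzGData.pres.gg w)

/-- Image of a point under the element of a word. -/
noncomputable def app (w : List Nat) (i : Nat) : Nat := CosetCertSuzGData.table.run w.reverse i

/-- Letters are generators. -/
def ok7 (w : List Nat) : Bool := w.all fun x => Nat.blt x 7

/-- Letters are generators of the point stabiliser. -/
def ok6 (w : List Nat) : Bool := w.all fun x => Nat.blt x 6

theorem ok7_of_ok6 {w : List Nat} (h : ok6 w = true) : ok7 w = true := by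
  simp only [ok6, ok7, List.all_eq_true, Nat.blt_eq] at h ⊢
  exact fun x hx => (h x hx).trans (by norm_num)

theorem el_nil : el [] = 1 := by simp [el, val]

theorem el_append (u v : List Nat) : el (u ++ v) = el u * el v := by
  simp [el, val_append]

theorem el_reverse (w : List Nat) : el w.reverse = (el w)⁻¹ := by
  simp [el, val_reverse _ (gg_sq CosetCertSuzG.good)]

theorem el_app {w : List Nat} (hw : ok7 w = true) (i : Pt) : ((el w i : Pt) : Nat) = app w i := by
  simp only [ok7, List.all_eq_true, Nat.blt_eq] at hw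
  have h := CosetCertRestrict.rho_val_apply CosetCertSuzG.enumerated (w := w.reverse)
    (fun x hx => hw x (List.mem_reverse.mp hx)) i
  have h2 : (act0 (val CosetCertSuzGData.pres.gg w.reverse))⁻¹ = el w := by
    show (el w.reverse)⁻¹ = el w
    rw [el_reverse, inv_inv]
  rw [← h2]
  exact h

theorem app_lt {w : List Nat} (hw : ok7 w = true) {i : Nat} (hi : i < 1782) : app w i < 1782 := by
  rw [show i = ((pt i hi : Pt) : Nat) from rfl, ← el_app hw]
  exact pt_lt _

/-! ### Labels and the point stabiliser -/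

/-- The suborbit of a point: 0, or 1 for 1365 points, or 2 for 416 points. -/
noncomputable def lab (i : Nat) : Nat := oLabel (entry CosetCertSuzGData.orbTbl 48 i)

/-- The group. -/
noncomputable def SUZ : Subgroup (Equiv.Perm Pt) := act0.range

/-- The subgroup of the presented group. -/
noncomputable def Hg : Subgroup CosetCertSuzGData.pres.Grp :=
  span CosetCertSuzGData.pres.gg [0, 1, 2, 3, 4, 5]

/-- The stabiliser of the origin. -/
noncomputable def Hp : Subgroup (Equiv.Perm Pt) := Hg.map act0

theorem el_mem_SUZ (w : List Nat) : el w ∈ SUZ := ⟨_, rfl⟩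

theorem Hp_le : Hp ≤ SUZ := by
  rintro _ ⟨k, -, rfl⟩
  exact ⟨k, rfl⟩

theorem el_mem {w : List Nat} (hw : ok6 w = true) : el w ∈ Hp := by
  refine ⟨_, ?_, rfl⟩
  simp only [ok6, List.all_eq_true, Nat.blt_eq] at hw
  unfold val
  refine list_prod_mem fun y hy => ?_
  obtain ⟨x, hx, rfl⟩ := List.mem_map.mp hy
  refine Subgroup.subset_closure ⟨x, ?_, rfl⟩
  have := hw x hx
  interval_cases x <;> simp

theorem sub_eq_Hg : CosetCertSuzGData.pres.sub CosetCertSuzGData.subgens = Hg := by
  rw [CosetCertPres.sub_eq CosetCertSuzG.enumerated, Hg, span]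
  congr 1
  ext k
  simp [CosetCertSuzGData.subgens, Wx.letters, val]

theorem sgens_single : ∀ x ∈ [0, 1, 2, 3, 4, 5], [x] ∈ CosetCertSuzGData.cert.sgens := by decide +kernel

theorem lab_inv {g : Equiv.Perm Pt} (hg : g ∈ Hp) (i : Pt) : lab (g i : Pt) = lab i := by
  obtain ⟨k, hk, rfl⟩ := hg
  exact CosetCertRestrict.label_span CosetCertSuzG.enumerated CosetCertSuzG.orbits
    (σ := [0, 1, 2, 3, 4, 5]) (by decide) sgens_single hk i

theorem Hp_zero {g : Equiv.Perm Pt} (hg : g ∈ Hp) : g (pt 0 (by norm_num)) = pt 0 (by norm_num) := by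
  obtain ⟨k, hk, rfl⟩ := hg
  exact rho_sub_zero CosetCertSuzG.enumerated k (sub_eq_Hg.symm ▸ hk)

theorem mem_Hp_of_zero {g : Equiv.Perm Pt} (hg : g ∈ SUZ)
    (h0 : g (pt 0 (by norm_num)) = pt 0 (by norm_num)) : g ∈ Hp := by
  obtain ⟨k, rfl⟩ := hg
  obtain ⟨φ, hφ0, hφ⟩ := exists_coset_equiv CosetCertSuzG.enumerated
  have h1 := hφ k (pt 0 (by norm_num))
  change φ (act0 k (pt 0 (by norm_num))) = _ at h1
  rw [h0] at h1
  change φ ⟨0, CosetCertSuzG.enumerated.table.npos⟩ = k • φ ⟨0, CosetCertSuzG.enumerated.table.npos⟩ at h1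
  rw [hφ0, MulAction.Quotient.smul_coe, smul_eq_mul, mul_one, QuotientGroup.eq, inv_one, one_mul,
    sub_eq_Hg] at h1
  exact ⟨k, h1, rfl⟩

theorem exists_to_zero (i : Pt) : ∃ g ∈ SUZ, g i = pt 0 (by norm_num) := by
  obtain ⟨φ, hφ0, hφ⟩ := exists_coset_equiv CosetCertSuzG.enumerated
  obtain ⟨k, hk⟩ := QuotientGroup.mk_surjective (φ i)
  refine ⟨act0 k⁻¹, ⟨k⁻¹, rfl⟩, φ.injective ?_⟩
  show φ (rho CosetCertSuzG.enumerated k⁻¹ i) = φ ⟨0, CosetCertSuzG.enumerated.table.npos⟩
  rw [hφ, hφ0, ← hk, MulAction.Quotient.smul_coe, smul_eq_mul, inv_mul_cancel]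

theorem card_SUZ : Nat.card SUZ = 448345497600 := by
  rw [← CosetCertSuzSimple.card_and_faithful.1]
  exact (Nat.card_congr (MonoidHom.ofInjective act0_injective).toEquiv).symm

theorem card_Hp : Nat.card Hp = 251596800 := by
  have h1 : Nat.card Hp = Nat.card Hg :=
    Nat.card_congr (Subgroup.equivMapOfInjective _ _ act0_injective).symm.toEquiv
  have h2 := Subgroup.card_mul_index Hg
  rw [← sub_eq_Hg, index_sub CosetCertSuzG.enumerated, CosetCertSuzSimple.card_and_faithful.1,
    sub_eq_Hg, N_eq] at h2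
  rw [h1]
  omega

theorem root_facts : (∀ k < 3, CosetCertSuzGData.roots.getD k 0 < 1782) ∧ lab 0 = 0 ∧ lab 1 = 1 ∧
    lab 47 = 2 := by
  refine ⟨by decide +kernel, ?_, ?_, ?_⟩ <;> decide +kernel

theorem trans_lab {i j : Pt} (h : lab i = lab j) : ∃ g ∈ Hp, g i = j := by
  have hlt : ∀ p : Pt, lab p < 3 := by
    have := (allFrom_iff (fun p => Nat.blt (lab p) 3) 1782 0).mp (by decide +kernel)
    intro p
    exact Nat.blt_eq.mp (this p (Nat.zero_le _) (by simpa using pt_lt p))
  obtain ⟨φ, -, hφ⟩ := exists_coset_equiv CosetCertSuzG.enumerated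
  set k := lab j with hk
  have hk3 : k < 3 := hlt j
  have hr := root_facts.1 k hk3
  have hrl : lab (CosetCertSuzGData.roots.getD k 0) = k := by
    obtain ⟨-, a, b, c⟩ := root_facts
    interval_cases k
    · exact a
    · exact b
    · exact c
  have horb := exists_orbit CosetCertSuzG.enumerated CosetCertSuzG.orbits k
    (CosetCertSuzGData.roots.getD k 0) hr rfl hrl φ hφ
  have key : ∀ p : Pt, lab p = k → ∃ g ∈ Hp, g ⟨_, hr⟩ = p := by
    intro p hp
    have hmem : φ p ∈ φ '' {i | oLabel (entry CosetCertSuzGData.orbTbl 48 i) = k} := ⟨p, hp, rfl⟩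
    rw [← horb] at hmem
    obtain ⟨⟨g, hg⟩, hgp⟩ := hmem
    refine ⟨act0 g, ⟨g, sub_eq_Hg ▸ hg, rfl⟩, φ.injective ?_⟩
    exact (hφ g _).trans hgp
  obtain ⟨a, ha, hai⟩ := key i h
  obtain ⟨b, hb, hbj⟩ := key j rfl
  exact ⟨b * a⁻¹, mul_mem hb (inv_mem ha), by
    rw [Equiv.Perm.mul_apply, ← hai, Equiv.Perm.coe_inv, Equiv.symm_apply_apply, hbj]⟩

/-! ### The graph -/

/-- Neighbours: translates of the suborbit of 416 points. -/
def R0 (i j : Pt) : Prop := ∃ g ∈ SUZ, g i = pt 0 (by norm_num) ∧ lab (g j : Pt) = 2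

theorem R0_iff {g : Equiv.Perm Pt} (hg : g ∈ SUZ) {i : Pt} (hi : g i = pt 0 (by norm_num)) (j : Pt) :
    R0 i j ↔ lab (g j : Pt) = 2 := by
  refine ⟨?_, fun h => ⟨g, hg, hi, h⟩⟩
  rintro ⟨f, hf, hfi, hfj⟩
  have hm : g * f⁻¹ ∈ Hp := mem_Hp_of_zero (mul_mem hg (inv_mem hf)) (by
    rw [Equiv.Perm.mul_apply, ← hfi, Equiv.Perm.coe_inv, Equiv.symm_apply_apply, hi, hfi])
  have h := lab_inv hm (f j)
  rw [Equiv.Perm.mul_apply, Equiv.Perm.coe_inv, Equiv.symm_apply_apply, hfj] at h
  exact h

theorem R0_map {g : Equiv.Perm Pt} (hg : g ∈ SUZ) (i j : Pt) : R0 (g i) (g j) ↔ R0 i j := by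
  obtain ⟨f, hf, hfi⟩ := exists_to_zero i
  rw [R0_iff hf hfi j, R0_iff (g := f * g⁻¹) (mul_mem hf (inv_mem hg)) (i := g i)
    (by rw [Equiv.Perm.mul_apply, Equiv.Perm.coe_inv, Equiv.symm_apply_apply, hfi]) (g j),
    Equiv.Perm.mul_apply, Equiv.Perm.coe_inv, Equiv.symm_apply_apply]

theorem R0_zero (j : Pt) : R0 (pt 0 (by norm_num)) j ↔ lab j = 2 :=
  R0_iff (g := 1) (one_mem _) rfl j

/-- The automorphism group of the graph. -/
def autR : Subgroup (Equiv.Perm Pt) where
  carrier := {σ | ∀ i j, R0 (σ i) (σ j) ↔ R0 i j}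
  one_mem' := fun _ _ => Iff.rfl
  mul_mem' := fun {a b} ha hb i j => (ha (b i) (b j)).trans (hb i j)
  inv_mem' := fun {a} ha i j => by
    have := ha (a⁻¹ i) (a⁻¹ j)
    simp only [Equiv.Perm.coe_inv, Equiv.apply_symm_apply] at this
    exact this.symm

theorem SUZ_le : SUZ ≤ autR := fun _ hg i j => R0_map hg i j

theorem Hp_le_aut : Hp ≤ autR := Hp_le.trans SUZ_le

/-! ### Refinement along a base -/

/-- The mask of all points. -/
def full : Nat := 2 ^ 1782 - 1

theorem testBit_full {i : Nat} (h : i < 1782) : full.testBit i = true := by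
  rw [full, Nat.testBit_two_pow_sub_one]
  simpa using h

/-- A row is right. -/
noncomputable def rowOK (e : Nat × List Nat × Nat) : Bool :=
  Nat.blt e.1 1782 && ok7 e.2.1 && Nat.beq (app e.2.1 e.1) 0 &&
    allFrom (fun j => Nat.testBit e.2.2 j == Nat.beq (lab (app e.2.1 j)) 2) 1782 0

/-- The row of a base point. -/
def rowMask (b : Nat) : Nat := ((rows.find? fun e => Nat.beq e.1 b).getD (0, [], 0)).2.2

/-- A row is available. -/
def hasRow (b : Nat) : Bool := (rows.find? fun e => Nat.beq e.1 b).isSome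

theorem rows_ok : rows.all rowOK = true := by decide +kernel

theorem row_spec {b : Nat} (hb : b < 1782) (h : hasRow b = true) (j : Pt) :
    R0 (pt b hb) j ↔ (rowMask b).testBit j = true := by
  unfold hasRow at h
  unfold rowMask
  cases he : rows.find? fun e => Nat.beq e.1 b with
  | none => rw [he] at h; exact Bool.noConfusion h
  | some e =>
    have hmem := List.mem_of_find?_eq_some he
    have heb : e.1 = b := by simpa using List.find?_some he
    have hok := List.all_eq_true.mp rows_ok e hmem
    simp only [rowOK, Bool.and_eq_true, Nat.beq_eq, Nat.blt_eq] at hok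
    obtain ⟨⟨⟨-, hw⟩, h0⟩, hall⟩ := hok
    have hj := (allFrom_iff _ _ _).mp hall j (Nat.zero_le _) (by simpa using pt_lt j)
    have hz : el e.2.1 (pt b hb) = pt 0 (by norm_num) := Fin.ext (by
      rw [el_app hw]; show app e.2.1 b = 0; rw [← heb]; exact h0)
    rw [R0_iff (el_mem_SUZ _) hz j, el_app hw, Option.getD_some, eq_of_beq hj, Nat.beq_eq]

/-- The class of a point under the stabiliser of a list of points. -/
def classMask : List Nat → Nat → Nat
  | [], _ => full
  | b :: bs, v =>
    (if Nat.testBit (rowMask b) v then rowMask b else full ^^^ rowMask b) &&&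
      ((full ^^^ (1 <<< b)) &&& classMask bs v)

/-- The points of a mask, counted. -/
noncomputable def popc (m : Nat) : Nat :=
  Nat.rec (motive := fun _ => Nat) 0 (fun i ih => cond (Nat.testBit m i) (ih + 1) ih) 1782

theorem popc_eq (m : Nat) :
    popc m = (Finset.univ.filter fun i : Pt => m.testBit i = true).card := by
  have key : ∀ n, (Nat.rec (motive := fun _ => Nat) 0
      (fun i ih => cond (Nat.testBit m i) (ih + 1) ih) n : Nat) =
      ((Finset.range n).filter fun i => m.testBit i = true).card := by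
    intro n
    induction n with
    | zero => rfl
    | succ n ih =>
      show cond (m.testBit n) _ _ = _
      rw [Finset.range_add_one, Finset.filter_insert]
      cases h : m.testBit n
      · simp [ih]
      · simp [ih]
  rw [popc, key, ← Finset.card_image_of_injective _ Fin.val_injective]
  congr 1
  ext j
  simp only [Finset.mem_filter, Finset.mem_range, Finset.mem_image, Finset.mem_univ, true_and]
  exact ⟨fun ⟨a, b⟩ => ⟨⟨j, a⟩, b, rfl⟩, fun ⟨i, a, b⟩ => b ▸ ⟨pt_lt i, a⟩⟩

/-- The base sequence is as stated. -/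
noncomputable def baseOK : List Nat → List (Nat × Nat) → Bool
  | pre, [] => allFrom (fun i => pre.contains i || Nat.beq (classMask pre i) (1 <<< i)) 1782 0
  | pre, (v, n) :: rest =>
    Nat.blt v 1782 && !(pre.contains v) && hasRow v && Nat.ble (popc (classMask pre v)) n &&
      baseOK (v :: pre) rest

/-- The product of the class sizes. -/
def baseSize : List (Nat × Nat) → Nat
  | [] => 1
  | (_, n) :: rest => n * baseSize rest

/-- Being a row point. -/
def RowPts (pre : List Nat) : Prop := ∀ b ∈ pre, b < 1782 ∧ hasRow b = true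

/-- Fixing some points. -/
def Fixes (σ : Equiv.Perm Pt) (pre : List Nat) : Prop := ∀ k : Pt, (k : Nat) ∈ pre → σ k = k

/-- The automorphisms fixing some points. -/
def fixAut (pre : List Nat) : Subgroup (Equiv.Perm Pt) where
  carrier := {σ | σ ∈ autR ∧ Fixes σ pre}
  one_mem' := ⟨one_mem _, fun _ _ => rfl⟩
  mul_mem' := fun {a b} ha hb => ⟨mul_mem ha.1 hb.1, fun k hk => by
    rw [Equiv.Perm.mul_apply, hb.2 k hk, ha.2 k hk]⟩
  inv_mem' := fun {a} ha => ⟨inv_mem ha.1, fun k hk => by
    rw [Equiv.Perm.inv_eq_iff_eq, ha.2 k hk]⟩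

theorem testBit_classMask {σ : Equiv.Perm Pt} (hσ : σ ∈ autR) :
    ∀ (pre : List Nat), RowPts pre → Fixes σ pre → ∀ v : Pt, (v : Nat) ∉ pre →
      (classMask pre v).testBit (σ v : Pt) = true
  | [], _, _, _, _ => testBit_full (pt_lt _)
  | b :: bs, hrow, hfix, v, hv => by
    obtain ⟨hb, hbr⟩ := hrow b List.mem_cons_self
    have hfb : σ (pt b hb) = pt b hb := hfix _ List.mem_cons_self
    have hne : ((σ v : Pt) : Nat) ≠ b := by
      intro e
      have : σ v = σ (pt b hb) := by rw [hfb]; exact Fin.ext e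
      exact hv (by rw [σ.injective this]; exact List.mem_cons_self)
    have hr : (rowMask b).testBit (σ v : Pt) = (rowMask b).testBit v := by
      rw [Bool.eq_iff_iff, ← row_spec hb hbr, ← row_spec hb hbr]
      conv_lhs => rw [← hfb]
      exact hσ _ _
    rw [classMask, Nat.testBit_and, Nat.testBit_and,
      testBit_classMask hσ bs (fun x hx => hrow x (List.mem_cons_of_mem _ hx))
        (fun k hk => hfix k (List.mem_cons_of_mem _ hk)) v (fun h => hv (List.mem_cons_of_mem _ h)),
      Nat.testBit_xor, testBit_full (pt_lt _), Nat.one_shiftLeft, Nat.testBit_two_pow,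
      decide_eq_false hne.symm]
    split_ifs with hvr
    · rw [hr, hvr]; rfl
    · rw [Nat.testBit_xor, testBit_full (pt_lt _), hr, eq_false_of_ne_true hvr]; rfl

theorem fix_all : ∀ (L : List (Nat × Nat)) (pre : List Nat), RowPts pre → baseOK pre L = true →
    ∀ σ ∈ fixAut pre, (∀ e ∈ L, 1 < e.2 → ∀ h : e.1 < 1782, σ (pt e.1 h) = pt e.1 h) → σ = 1
  | [], pre, hrow, hok, σ, hσ, _ => by
    refine Equiv.ext fun k => ?_
    rw [Equiv.Perm.one_apply]
    by_cases hk : (k : Nat) ∈ pre
    · exact hσ.2 k hk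
    · have h := (allFrom_iff _ _ _).mp hok k (Nat.zero_le _) (by simpa using pt_lt k)
      rw [Bool.or_eq_true, List.contains_iff_mem, Nat.beq_eq] at h
      have hbit := testBit_classMask hσ.1 pre hrow hσ.2 k hk
      rw [h.resolve_left hk, Nat.one_shiftLeft, Nat.testBit_two_pow, decide_eq_true_eq] at hbit
      exact Fin.ext hbit.symm
  | (v, n) :: L, pre, hrow, hok, σ, hσ, hL => by
    simp only [baseOK, Bool.and_eq_true, Nat.blt_eq, Bool.not_eq_true', Nat.ble_eq] at hok
    obtain ⟨⟨⟨⟨hv, hvp⟩, hvr⟩, hn⟩, hrest⟩ := hok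
    have hvp' : v ∉ pre := fun h => Bool.false_ne_true (hvp.symm.trans (List.contains_iff_mem.mpr h))
    have hfix : σ (pt v hv) = pt v hv := by
      by_cases h1 : 1 < n
      · exact hL (v, n) List.mem_cons_self h1 hv
      · rw [popc_eq] at hn
        refine (Finset.card_le_one.mp (hn.trans (Nat.le_of_not_lt h1)) (σ (pt v hv)) ?_ (pt v hv) ?_)
        · exact Finset.mem_filter.mpr ⟨Finset.mem_univ _, testBit_classMask hσ.1 pre hrow hσ.2 (pt v hv) hvp'⟩
        · exact Finset.mem_filter.mpr ⟨Finset.mem_univ _,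
            testBit_classMask (one_mem autR) pre hrow (fun _ _ => rfl) (pt v hv) hvp'⟩
    refine fix_all L (v :: pre) (List.forall_mem_cons.mpr ⟨⟨hv, hvr⟩, hrow⟩) hrest σ
      ⟨hσ.1, fun k hk => ?_⟩ fun e he => hL e (List.mem_cons_of_mem _ he)
    rcases List.mem_cons.mp hk with hk | hk
    · rw [show k = pt v hv from Fin.ext hk]; exact hfix
    · exact hσ.2 k hk

theorem card_fix_le : ∀ (L : List (Nat × Nat)) (pre : List Nat), RowPts pre → baseOK pre L = true →
    Nat.card (fixAut pre) ≤ baseSize L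
  | [], pre, hrow, hok => by
    rw [baseSize]
    have : Subsingleton (fixAut pre) := ⟨fun a b => Subtype.ext (by
      rw [fix_all [] pre hrow hok a.1 a.2 (by simp), fix_all [] pre hrow hok b.1 b.2 (by simp)])⟩
    exact Finite.card_le_one_iff_subsingleton.mpr this
  | (v, n) :: L, pre, hrow, hok => by
    simp only [baseOK, Bool.and_eq_true, Nat.blt_eq, Bool.not_eq_true', Nat.ble_eq] at hok
    obtain ⟨⟨⟨⟨hv, hvp⟩, hvr⟩, hn⟩, hrest⟩ := hok
    have hvp' : v ∉ pre := fun h => Bool.false_ne_true (hvp.symm.trans (List.contains_iff_mem.mpr h))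
    have hih := card_fix_le L (v :: pre) (List.forall_mem_cons.mpr ⟨⟨hv, hvr⟩, hrow⟩) hrest
    have hstab : Nat.card (MulAction.stabilizer (fixAut pre) (pt v hv)) =
        Nat.card (fixAut (v :: pre)) :=
      Nat.card_congr
        { toFun := fun g => ⟨g.1.1, g.1.2.1, fun k hk => by
            rcases List.mem_cons.mp hk with hk | hk
            · rw [show k = pt v hv from Fin.ext hk]; exact g.2
            · exact g.1.2.2 k hk⟩
          invFun := fun g => ⟨⟨g.1, g.2.1, fun k hk => g.2.2 k (List.mem_cons_of_mem _ hk)⟩,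
            g.2.2 _ List.mem_cons_self⟩
          left_inv := fun _ => rfl
          right_inv := fun _ => rfl }
    have horb : (MulAction.orbit (fixAut pre) (pt v hv)).ncard ≤ n := by
      have hsub : MulAction.orbit (fixAut pre) (pt v hv) ⊆
          ↑(Finset.univ.filter fun u : Pt => (classMask pre v).testBit u = true) := by
        rintro _ ⟨σ, rfl⟩
        rw [Finset.coe_filter, Set.mem_ofPred_eq]
        exact ⟨Finset.mem_univ _, testBit_classMask σ.2.1 pre hrow σ.2.2 (pt v hv) hvp'⟩
      refine (Set.ncard_le_ncard hsub (Finset.finite_toSet _)).trans ?_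
      rw [Set.ncard_coe_finset, ← popc_eq]
      exact hn
    calc Nat.card (fixAut pre)
        = (MulAction.orbit (fixAut pre) (pt v hv)).ncard * Nat.card (fixAut (v :: pre)) := by
          rw [← hstab, ← MulAction.index_stabilizer, Subgroup.index_mul_card]
      _ ≤ n * baseSize L := Nat.mul_le_mul horb hih
      _ = baseSize ((v, n) :: L) := rfl

theorem bnd_ok : baseOK [] bndChain = true := by decide +kernel

theorem det_ok : baseOK [] detChain = true := by decide +kernel

theorem bnd_size : baseSize bndChain = 896690995200 := by decide +kernel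

/-- The automorphism group is at most twice as big as the group. -/
theorem card_autR_le : Nat.card autR ≤ 896690995200 := by
  refine le_trans (le_of_eq ?_) (bnd_size ▸ card_fix_le bndChain [] (by simp [RowPts]) bnd_ok)
  exact Nat.card_congr
    { toFun := fun σ => ⟨σ.1, σ.2, fun k hk => absurd hk List.not_mem_nil⟩
      invFun := fun σ => ⟨σ.1, σ.2.1⟩
      left_inv := fun _ => rfl
      right_inv := fun _ => rfl }

theorem det_pts : ∀ e ∈ detChain, 1 < e.2 → e.1 ∈ [0, 562, 499, 1308, 1167] := by decide +kernel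

/-- An automorphism is determined by five points. -/
theorem aut_eq_one {σ : Equiv.Perm Pt} (hσ : σ ∈ autR)
    (h : ∀ k : Pt, (k : Nat) ∈ [0, 562, 499, 1308, 1167] → σ k = k) : σ = 1 :=
  fix_all detChain [] (by simp [RowPts]) det_ok σ ⟨hσ, fun k hk => absurd hk List.not_mem_nil⟩
    fun e he h1 hv => h (pt e.1 hv) (det_pts e he h1)

/-! ### Fingerprints -/

/-- The images of four points. -/
noncomputable def fp (w : List Nat) : Nat :=
  force (app w 562) fun a => force (app w 499) fun b => force (app w 1308) fun c =>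
  force (app w 1167) fun d => a + 2048 * (b + 2048 * (c + 2048 * d))

/-- Elements of the point stabiliser with the same fingerprint are equal. -/
theorem el_eq {u v : List Nat} (hu : ok6 u = true) (hv : ok6 v = true) (h : fp u = fp v) :
    el u = el v := by
  simp only [fp, force_eq] at h
  have hu7 := ok7_of_ok6 hu
  have hv7 := ok7_of_ok6 hv
  have := app_lt hu7 (i := 562) (by norm_num)
  have := app_lt hu7 (i := 499) (by norm_num)
  have := app_lt hu7 (i := 1308) (by norm_num)
  have := app_lt hu7 (i := 1167) (by norm_num)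
  have := app_lt hv7 (i := 562) (by norm_num)
  have := app_lt hv7 (i := 499) (by norm_num)
  have := app_lt hv7 (i := 1308) (by norm_num)
  have := app_lt hv7 (i := 1167) (by norm_num)
  have key : app u 562 = app v 562 ∧ app u 499 = app v 499 ∧ app u 1308 = app v 1308 ∧
      app u 1167 = app v 1167 := by omega
  obtain ⟨e1, e2, e3, e4⟩ := key
  have hone : (el v)⁻¹ * el u = 1 := by
    refine aut_eq_one (Hp_le_aut (mul_mem (inv_mem (el_mem hv)) (el_mem hu))) fun k hk => ?_
    rw [Equiv.Perm.mul_apply, Equiv.Perm.inv_eq_iff_eq]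
    simp only [List.mem_cons, List.not_mem_nil, or_false] at hk
    rcases hk with hk | hk | hk | hk | hk
    · have hk0 : k = pt 0 (by norm_num) := Fin.ext hk
      rw [hk0, Hp_zero (el_mem hu), Hp_zero (el_mem hv)]
    all_goals exact Fin.ext (by rw [el_app hu7, el_app hv7, hk]; assumption)
  exact (inv_mul_eq_one.mp hone).symm

end Cfsg.Agent.SuzRankThree84
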