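import Cfsg.Agent.Lib.SuzRankThree84Base

/-!
The point stabiliser in Suz: a class of elements of order three, and the classification of its subgroups
of index 416 (they are point stabilisers on the suborbit of 416 points).
-/

set_option autoImplicit false
set_option maxRecDepth 100000
set_option linter.style.haveILetI false

namespace Cfsg.Agent.SuzRankThree84

open Cfsg.Agent.CosetCertCore Cfsg.Agent.CosetCertTable Cfsg.Agent.CosetCertPres

/-! ### Words -/

theorem el_single (x : Nat) : (el [x])⁻¹ = el [x] := (el_reverse [x]).symm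

theorem el_pow (w : List Nat) : ∀ n, el (List.replicate n w).flatten = el w ^ n
  | 0 => by simp [el_nil]
  | n + 1 => by rw [List.replicate_succ, List.flatten_cons, el_append, el_pow w n, pow_succ']

theorem ok6_append {u v : List Nat} : ok6 (u ++ v) = true ↔ ok6 u = true ∧ ok6 v = true := by
  simp [ok6, List.all_append]

theorem ok6_flatten {L : List (List Nat)} (h : ∀ w ∈ L, ok6 w = true) : ok6 L.flatten = true := by
  simp only [ok6, List.all_eq_true] at h ⊢
  intro x hx
  obtain ⟨w, hw, hxw⟩ := List.mem_flatten.mp hx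
  exact h w hw x hxw

theorem el_flatten_mem {K : Subgroup (Equiv.Perm Pt)} :
    ∀ {L : List (List Nat)}, (∀ w ∈ L, el w ∈ K) → el L.flatten ∈ K
  | [], _ => by simp [el_nil]
  | w :: L, h => by
    rw [List.flatten_cons, el_append]
    exact mul_mem (h w List.mem_cons_self)
      (el_flatten_mem fun v hv => h v (List.mem_cons_of_mem _ hv))

theorem el_pow_flatten_mem {K : Subgroup (Equiv.Perm Pt)} {w : List Nat} (h : el w ∈ K) (n : Nat) :
    el (List.replicate n w).flatten ∈ K := by
  rw [el_pow]; exact pow_mem h n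

theorem fp_congr {u v : List Nat} (hu : ok7 u = true) (hv : ok7 v = true) (h : el u = el v) :
    fp u = fp v := by
  have key : ∀ i, i < 1782 → app u i = app v i := fun i hi => by
    have h' := el_app hu (pt i hi)
    rw [h, el_app hv] at h'
    exact h'.symm
  simp only [fp, force_eq, key 562 (by norm_num), key 499 (by norm_num), key 1308 (by norm_num),
    key 1167 (by norm_num)]

/-! ### Orbits and stabilisers -/

open scoped Classical in
/-- An orbit. -/
noncomputable def orb (K : Subgroup (Equiv.Perm Pt)) (p : Pt) : Finset Pt :=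
  Finset.univ.filter fun q => ∃ k ∈ K, k p = q

theorem mem_orb {K : Subgroup (Equiv.Perm Pt)} {p q : Pt} : q ∈ orb K p ↔ ∃ k ∈ K, k p = q := by
  simp [orb]

theorem mem_orb_self (K : Subgroup (Equiv.Perm Pt)) (p : Pt) : p ∈ orb K p :=
  mem_orb.mpr ⟨1, one_mem _, rfl⟩

/-- A set invariant under a group. -/
def Inv (K : Subgroup (Equiv.Perm Pt)) (O : Finset Pt) : Prop := ∀ k ∈ K, ∀ i ∈ O, k i ∈ O

theorem inv_orb (K : Subgroup (Equiv.Perm Pt)) (p : Pt) : Inv K (orb K p) := by
  intro k hk i hi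
  obtain ⟨l, hl, rfl⟩ := mem_orb.mp hi
  exact mem_orb.mpr ⟨k * l, mul_mem hk hl, rfl⟩

theorem card_orb_mul (K : Subgroup (Equiv.Perm Pt)) (p : Pt) :
    (orb K p).card * Nat.card ↥(K ⊓ MulAction.stabilizer (Equiv.Perm Pt) p) = Nat.card K := by
  classical
  have h1 : (orb K p).card = (MulAction.orbit K p).ncard := by
    rw [← Set.ncard_coe_finset]
    congr 1
    ext q
    rw [Finset.mem_coe, mem_orb]
    exact ⟨fun ⟨k, hk, e⟩ => ⟨⟨k, hk⟩, e⟩, fun ⟨k, e⟩ => ⟨k, k.2, e⟩⟩
  have h2 : Nat.card ↥(K ⊓ MulAction.stabilizer (Equiv.Perm Pt) p) =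
      Nat.card (MulAction.stabilizer K p) :=
    Nat.card_congr
      { toFun := fun g => ⟨⟨g.1, g.2.1⟩, g.2.2⟩
        invFun := fun g => ⟨g.1.1, g.1.2, g.2⟩
        left_inv := fun _ => rfl
        right_inv := fun _ => rfl }
  rw [h1, h2, ← MulAction.index_stabilizer, Subgroup.index_mul_card]

/-- The points of a mask. -/
noncomputable def pts (m : Nat) : Finset Pt := Finset.univ.filter fun i : Pt => m.testBit i = true

theorem mem_pts {m : Nat} {i : Pt} : i ∈ pts m ↔ m.testBit i = true := by simp [pts]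

theorem pts_or (a b : Nat) : pts (a ||| b) = pts a ∪ pts b := by
  ext i
  simp [mem_pts, Nat.testBit_or]

theorem pts_single (j : Nat) (hj : j < 1782) : pts (1 <<< j) = {pt j hj} := by
  ext i
  rw [mem_pts, Nat.one_shiftLeft, Nat.testBit_two_pow, decide_eq_true_eq, Finset.mem_singleton]
  exact ⟨fun e => Fin.ext e.symm, fun e => by rw [e]; rfl⟩

/-- The point of a tree entry. -/
def ePt (e : Nat) : Nat := Nat.land e 2047

/-- Its parent. -/
def ePar (e : Nat) : Nat := Nat.land (Nat.shiftRight e 11) 2047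

/-- The number of its generator. -/
def eGen (e : Nat) : Nat := Nat.shiftRight e 22

/-- A tree of images of a root under some words. -/
noncomputable def treeOK (gens : List (List Nat)) : Nat → List Nat → Bool
  | _, [] => true
  | mask, e :: es =>
    Nat.blt (ePt e) 1782 && Nat.blt (ePar e) 1782 && Nat.blt (eGen e) gens.length &&
      Nat.testBit mask (ePar e) && !(Nat.testBit mask (ePt e)) &&
      Nat.beq (app (gens.getD (eGen e) []) (ePar e)) (ePt e) &&
      treeOK gens (mask ||| 1 <<< ePt e) es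

/-- The points of a tree. -/
def treeMask : Nat → List Nat → Nat
  | mask, [] => mask
  | mask, e :: es => treeMask (mask ||| 1 <<< ePt e) es

theorem tree_spec {gens : List (List Nat)} (hg : ∀ w ∈ gens, ok7 w = true)
    {K : Subgroup (Equiv.Perm Pt)} (hK : ∀ w ∈ gens, el w ∈ K) (r : Pt) :
    ∀ (es : List Nat) (mask : Nat), treeOK gens mask es = true →
      (∀ i ∈ pts mask, i ∈ orb K r) →
      (∀ i ∈ pts (treeMask mask es), i ∈ orb K r) ∧
        (pts (treeMask mask es)).card = (pts mask).card + es.length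
  | [], _, _, h => ⟨h, by simp [treeMask]⟩
  | e :: es, mask, hok, h => by
    simp only [treeOK, Bool.and_eq_true, Nat.blt_eq, Bool.not_eq_true', Nat.beq_eq] at hok
    obtain ⟨⟨⟨⟨⟨⟨he, hp⟩, hgl⟩, hpar⟩, hnot⟩, himg⟩, hrest⟩ := hok
    have hmem : gens.getD (eGen e) [] ∈ gens := by
      rw [List.getD_eq_getElem _ _ hgl]; exact List.getElem_mem _
    have himg' : el (gens.getD (eGen e) []) (pt (ePar e) hp) = pt (ePt e) he :=
      Fin.ext (by rw [el_app (hg _ hmem)]; exact himg)
    have hnew : pt (ePt e) he ∈ orb K r := by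
      obtain ⟨k, hk, hkr⟩ := mem_orb.mp (h (pt (ePar e) hp) (mem_pts.mpr hpar))
      exact mem_orb.mpr ⟨el (gens.getD (eGen e) []) * k, mul_mem (hK _ hmem) hk, by
        rw [Equiv.Perm.mul_apply, hkr, himg']⟩
    have hpts : pts (mask ||| 1 <<< ePt e) = pts mask ∪ {pt (ePt e) he} := by
      rw [pts_or, pts_single _ he]
    obtain ⟨h1, h2⟩ := tree_spec hg hK r es _ hrest (fun i hi => by
      rw [hpts, Finset.mem_union, Finset.mem_singleton] at hi
      rcases hi with hi | rfl
      · exact h i hi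
      · exact hnew)
    refine ⟨h1, ?_⟩
    show (pts (treeMask (mask ||| 1 <<< ePt e) es)).card = _
    rw [h2, hpts, Finset.card_union_of_disjoint (Finset.disjoint_singleton_right.mpr fun hh => by
      rw [mem_pts] at hh
      exact Bool.false_ne_true (hnot.symm.trans hh)), Finset.card_singleton, List.length_cons]
    omega

/-- The mask of a part. -/
def partMask (q : Nat × List Nat) : Nat := treeMask (1 <<< q.1) q.2

/-- The size of a part. -/
def partSize (q : Nat × List Nat) : Nat := q.2.length + 1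

/-- Parts are orbit pieces. -/
noncomputable def partsOK (gens : List (List Nat)) (parts : List (Nat × List Nat)) : Bool :=
  gens.all ok7 && parts.all fun q => Nat.blt q.1 1782 && treeOK gens (1 <<< q.1) q.2

/-- Parts exhaust a domain. -/
def coverOK : Nat → List (Nat × List Nat) → Nat → Bool
  | acc, [], D => Nat.beq acc D
  | acc, q :: qs, D => Nat.beq (acc &&& partMask q) 0 && coverOK (acc ||| partMask q) qs D

/-- The sums of sublists. -/
def sums : List Nat → List Nat
  | [] => [0]
  | c :: cs => sums cs ++ (sums cs).map (c + ·)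

theorem part_spec {gens : List (List Nat)} {parts : List (Nat × List Nat)}
    (hok : partsOK gens parts = true) {K : Subgroup (Equiv.Perm Pt)} (hK : ∀ w ∈ gens, el w ∈ K)
    {q : Nat × List Nat} (hq : q ∈ parts) :
    ∃ hr : q.1 < 1782, (pts (partMask q) ⊆ orb K (pt q.1 hr)) ∧
      (pts (partMask q)).card = partSize q := by
  simp only [partsOK, Bool.and_eq_true, List.all_eq_true, Nat.blt_eq] at hok
  obtain ⟨hg, hall⟩ := hok
  obtain ⟨hr, ht⟩ := hall q hq
  obtain ⟨h1, h2⟩ := tree_spec hg hK (pt q.1 hr) q.2 _ ht (fun i hi => by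
    rw [pts_single _ hr, Finset.mem_singleton] at hi
    exact hi ▸ mem_orb_self _ _)
  refine ⟨hr, h1, ?_⟩
  rw [partMask, h2, pts_single _ hr, Finset.card_singleton, partSize, add_comm]

/-- An invariant set meeting a part contains it. -/
theorem part_sub {gens : List (List Nat)} {parts : List (Nat × List Nat)}
    (hok : partsOK gens parts = true) {K : Subgroup (Equiv.Perm Pt)} (hK : ∀ w ∈ gens, el w ∈ K)
    {q : Nat × List Nat} (hq : q ∈ parts) {O : Finset Pt} (hO : Inv K O) {i : Pt} (hiO : i ∈ O)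
    (hiq : i ∈ pts (partMask q)) : pts (partMask q) ⊆ O := by
  obtain ⟨hr, hsub, -⟩ := part_spec hok hK hq
  intro j hj
  obtain ⟨k, hk, hki⟩ := mem_orb.mp (hsub hiq)
  obtain ⟨l, hl, hlj⟩ := mem_orb.mp (hsub hj)
  have hr' : pt q.1 hr ∈ O := by
    have := hO k⁻¹ (inv_mem hk) i hiO
    rwa [← hki, Equiv.Perm.coe_inv, Equiv.symm_apply_apply] at this
  exact hlj ▸ hO l hl _ hr'

/-- The possible sizes of an invariant set. -/
theorem card_mem_sums {gens : List (List Nat)} {all : List (Nat × List Nat)}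
    (hok : partsOK gens all = true) {K : Subgroup (Equiv.Perm Pt)} (hK : ∀ w ∈ gens, el w ∈ K)
    {O : Finset Pt} (hO : Inv K O) :
    ∀ (qs : List (Nat × List Nat)) (acc D : Nat), (∀ q ∈ qs, q ∈ all) → coverOK acc qs D = true →
      pts acc ⊆ pts D ∧ (O ∩ (pts D \ pts acc)).card ∈ sums (qs.map partSize)
  | [], acc, D, _, hc => by
    rw [coverOK, Nat.beq_eq] at hc
    subst hc
    simp [sums]
  | q :: qs, acc, D, hmem, hc => by
    rw [coverOK, Bool.and_eq_true, Nat.beq_eq] at hc
    obtain ⟨hd, hrest⟩ := hc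
    obtain ⟨hsub, hsum⟩ := card_mem_sums hok hK hO qs _ D
      (fun x hx => hmem x (List.mem_cons_of_mem _ hx)) hrest
    rw [pts_or] at hsub hsum
    refine ⟨Finset.union_subset_left hsub, ?_⟩
    have hdis : ∀ i, i ∈ pts acc → i ∉ pts (partMask q) := by
      intro i h1 h2
      rw [mem_pts] at h1 h2
      have : (acc &&& partMask q).testBit i = true := by rw [Nat.testBit_and, h1, h2]; rfl
      rw [hd, Nat.zero_testBit] at this
      exact Bool.false_ne_true this
    have hsplit : O ∩ (pts D \ pts acc) =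
        (O ∩ pts (partMask q)) ∪ (O ∩ (pts D \ (pts acc ∪ pts (partMask q)))) := by
      ext i
      simp only [Finset.mem_inter, Finset.mem_union, Finset.mem_sdiff]
      constructor
      · intro h
        by_cases hi : i ∈ pts (partMask q)
        · exact Or.inl ⟨h.1, hi⟩
        · exact Or.inr ⟨h.1, h.2.1, fun hh => hh.elim h.2.2 hi⟩
      · rintro (⟨h1, h2⟩ | ⟨h1, h2, h3⟩)
        · exact ⟨h1, hsub (Finset.mem_union_right _ h2), fun hh => hdis i hh h2⟩
        · exact ⟨h1, h2, fun hh => h3 (Or.inl hh)⟩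
    rw [hsplit, Finset.card_union_of_disjoint (Finset.disjoint_left.mpr fun i hi hi' => by
      simp only [Finset.mem_inter, Finset.mem_union, Finset.mem_sdiff] at hi hi'
      exact hi'.2.2 (Or.inr hi.2))]
    rw [List.map_cons, sums, List.mem_append, List.mem_map]
    rcases (O ∩ pts (partMask q)).eq_empty_or_nonempty with h | ⟨i, hi⟩
    · left
      rw [h, Finset.card_empty, zero_add]
      exact hsum
    · right
      rw [Finset.mem_inter] at hi
      have hqa := hmem q List.mem_cons_self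
      rw [Finset.inter_eq_right.mpr (part_sub hok hK hqa hO hi.1 hi.2),
        (part_spec hok hK hqa).2.2]
      exact ⟨_, hsum, rfl⟩

/-! ### Suborbits of the stabiliser -/

theorem masks_ok : allFrom (fun i => (Nat.testBit nMask i == Nat.beq (lab i) 2) &&
    (Nat.testBit fMask i == Nat.beq (lab i) 1)) 1782 0 = true := by decide +kernel

theorem mem_nMask {i : Pt} : i ∈ pts nMask ↔ lab i = 2 := by
  have h := (allFrom_iff _ _ _).mp masks_ok i (Nat.zero_le _) (by simpa using pt_lt i)
  rw [Bool.and_eq_true] at h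
  rw [mem_pts, eq_of_beq h.1, Nat.beq_eq]

theorem mem_fMask {i : Pt} : i ∈ pts fMask ↔ lab i = 1 := by
  have h := (allFrom_iff _ _ _).mp masks_ok i (Nat.zero_le _) (by simpa using pt_lt i)
  rw [Bool.and_eq_true] at h
  rw [mem_pts, eq_of_beq h.2, Nat.beq_eq]

theorem card_lab (k : Nat) :
    (Finset.univ.filter fun i : Pt => lab i = k).card = countLabel CosetCertSuzGData.orbTbl k 1782 := by
  rw [countLabel_eq, ← Finset.card_image_of_injective _ Fin.val_injective]
  congr 1
  ext j
  simp only [Finset.mem_filter, Finset.mem_range, Finset.mem_image, Finset.mem_univ, true_and]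
  exact ⟨fun ⟨i, a, b⟩ => b ▸ ⟨pt_lt i, a⟩, fun ⟨a, b⟩ => ⟨⟨j, a⟩, b, rfl⟩⟩

theorem card_nMask : (pts nMask).card = 416 := by
  rw [← CosetCertSuzG.count2, ← card_lab]
  exact congrArg Finset.card (Finset.ext fun i => by simp [mem_nMask])

theorem card_fMask : (pts fMask).card = 1365 := by
  rw [← CosetCertSuzG.count1, ← card_lab]
  exact congrArg Finset.card (Finset.ext fun i => by simp [mem_fMask])

theorem orb_Hp (p : Pt) : orb Hp p = Finset.univ.filter fun i : Pt => lab i = lab p := by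
  ext q
  rw [mem_orb, Finset.mem_filter]
  constructor
  · rintro ⟨k, hk, rfl⟩
    exact ⟨Finset.mem_univ _, lab_inv hk p⟩
  · rintro ⟨-, h⟩
    exact trans_lab h.symm

theorem card_stab_n {p : Pt} (hp : lab p = 2) :
    Nat.card ↥(Hp ⊓ MulAction.stabilizer (Equiv.Perm Pt) p) = 604800 := by
  have h := card_orb_mul Hp p
  rw [orb_Hp, hp, card_lab, CosetCertSuzG.count2, card_Hp] at h
  omega

theorem card_stab_f {p : Pt} (hp : lab p = 1) :
    Nat.card ↥(Hp ⊓ MulAction.stabilizer (Equiv.Perm Pt) p) = 184320 := by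
  have h := card_orb_mul Hp p
  rw [orb_Hp, hp, card_lab, CosetCertSuzG.count1, card_Hp] at h
  omega

theorem orb_sub {K : Subgroup (Equiv.Perm Pt)} (hK : K ≤ Hp) (p : Pt) :
    ∀ q ∈ orb K p, lab q = lab p := by
  intro q hq
  obtain ⟨k, hk, rfl⟩ := mem_orb.mp hq
  exact lab_inv (hK hk) p

/-! ### The class -/

/-- Read a packed word. -/
noncomputable def unpack (e : Nat) : List Nat :=
  Nat.rec (motive := fun _ => Nat → List Nat) (fun _ => [])
    (fun _ ih p => Nat.land p 7 :: ih (Nat.shiftRight p 3)) (Nat.land e 31) (Nat.shiftRight e 5)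

/-- The word of a class member. -/
noncomputable def rwd (i : Nat) : List Nat :=
  unpack (entry uTbl 68 i) ++ r0 ++ (unpack (entry uTbl 68 i)).reverse

/-- Its fingerprint. -/
noncomputable def fpT (i : Nat) : Nat := entry fpTbl 44 i

/-- Conjugation by a generator on the class. -/
noncomputable def ci (x i : Nat) : Nat :=
  Nat.land (Nat.shiftRight (entry cTbl 78 i) (13 * x)) 8191

/-- Conjugation by a word on the class. -/
noncomputable def cj (w : List Nat) (i : Nat) : Nat :=
  List.rec (motive := fun _ => Nat) i (fun x _ ih => force ih fun k => ci x k) w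

/-- A member is as tabulated. -/
noncomputable def memOK (i : Nat) : Bool := ok6 (rwd i) && Nat.beq (fp (rwd i)) (fpT i)

/-- Conjugation by a generator is as tabulated. -/
noncomputable def stepOK (x i : Nat) : Bool :=
  force (ci x i) fun k => Nat.blt k 4160 &&
    cond (Nat.blt k i) (Nat.beq (ci x k) i) (Nat.beq (fp (x :: (rwd i ++ [x]))) (fpT k))

/-- The ranks are as tabulated. -/
noncomputable def rankOK (i : Nat) : Bool :=
  force (entry rkTbl 13 i) fun k =>
    Nat.blt k 4160 && Nat.beq (entry srtTbl 44 k) (fpT i) && Nat.beq (entry ivTbl 13 k) i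

theorem mem_chk1 : allFrom memOK 2080 0 = true := by decide +kernel
theorem mem_chk2 : allFrom memOK 2080 2080 = true := by decide +kernel

theorem mem_ok {i : Nat} (hi : i < 4160) : ok6 (rwd i) = true ∧ fp (rwd i) = fpT i := by
  have h : memOK i = true := by
    by_cases h : i < 2080
    · exact (allFrom_iff _ _ _).mp mem_chk1 i (Nat.zero_le _) (by omega)
    · exact (allFrom_iff _ _ _).mp mem_chk2 i (by omega) (by omega)
  simpa [memOK] using h

theorem step_chk0 : allFrom (stepOK 0) 4160 0 = true := by decide +kernel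
theorem step_chk1 : allFrom (stepOK 1) 4160 0 = true := by decide +kernel
theorem step_chk2 : allFrom (stepOK 2) 4160 0 = true := by decide +kernel
theorem step_chk3 : allFrom (stepOK 3) 4160 0 = true := by decide +kernel
theorem step_chk4 : allFrom (stepOK 4) 4160 0 = true := by decide +kernel
theorem step_chk5 : allFrom (stepOK 5) 4160 0 = true := by decide +kernel

theorem step_ok {x i : Nat} (hx : x < 6) (hi : i < 4160) : stepOK x i = true := by
  have key : allFrom (stepOK x) 4160 0 = true := by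
    interval_cases x
    · exact step_chk0
    · exact step_chk1
    · exact step_chk2
    · exact step_chk3
    · exact step_chk4
    · exact step_chk5
  exact (allFrom_iff _ _ _).mp key i (Nat.zero_le _) (by omega)

theorem rank_chk : allFrom rankOK 4160 0 = true ∧
    allFrom (fun j => Nat.blt (entry srtTbl 44 j) (entry srtTbl 44 (j + 1))) 4159 0 = true := by
  decide +kernel

/-- A member of the class. -/
noncomputable def E (i : Nat) : Equiv.Perm Pt := el (rwd i)

theorem E_mem {i : Nat} (hi : i < 4160) : E i ∈ Hp := el_mem (mem_ok hi).1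

theorem E_step {x i : Nat} (hx : x < 6) (hi : i < 4160) :
    ci x i < 4160 ∧ el [x] * E i * (el [x])⁻¹ = E (ci x i) := by
  have main : ∀ a, a < 4160 → a ≤ ci x a →
      ci x a < 4160 ∧ el [x] * E a * (el [x])⁻¹ = E (ci x a) := by
    intro a ha hle
    have h := step_ok hx ha
    simp only [stepOK, force_eq, Bool.and_eq_true, Nat.blt_eq] at h
    obtain ⟨hlt, hc⟩ := h
    rw [show Nat.blt (ci x a) a = false by
      rw [← Bool.not_eq_true, Nat.blt_eq]; omega, cond_false, Nat.beq_eq] at hc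
    refine ⟨hlt, ?_⟩
    have e : el (x :: (rwd a ++ [x])) = el [x] * E a * el [x] := by
      rw [show x :: (rwd a ++ [x]) = [x] ++ rwd a ++ [x] by simp, el_append, el_append]
      rfl
    rw [el_single, ← e]
    refine el_eq ?_ (mem_ok hlt).1 (hc.trans (mem_ok hlt).2.symm)
    rw [show x :: (rwd a ++ [x]) = [x] ++ rwd a ++ [x] by simp, ok6_append, ok6_append]
    exact ⟨⟨by simp [ok6, hx], (mem_ok ha).1⟩, by simp [ok6, hx]⟩
  by_cases hle : i ≤ ci x i
  · exact main i hi hle
  · have h := step_ok hx hi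
    simp only [stepOK, force_eq, Bool.and_eq_true, Nat.blt_eq] at h
    obtain ⟨hlt, hc⟩ := h
    rw [Nat.blt_eq.mpr (Nat.lt_of_not_le hle), cond_true, Nat.beq_eq] at hc
    obtain ⟨-, h2⟩ := main (ci x i) hlt (by omega)
    rw [hc] at h2
    refine ⟨hlt, ?_⟩
    rw [← h2, el_single]
    have hsq : el [x] * el [x] = 1 := mul_eq_one_iff_inv_eq.mpr (el_single x)
    calc el [x] * (el [x] * E (ci x i) * el [x]) * el [x]
        = (el [x] * el [x]) * E (ci x i) * (el [x] * el [x]) := by simp only [mul_assoc]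
      _ = E (ci x i) := by rw [hsq, one_mul, mul_one]

theorem E_cj : ∀ (w : List Nat), ok6 w = true → ∀ i, i < 4160 →
    cj w i < 4160 ∧ el w * E i * (el w)⁻¹ = E (cj w i)
  | [], _, i, hi => ⟨hi, by simp [el_nil, cj]⟩
  | x :: w, hw, i, hi => by
    simp only [ok6, List.all_cons, Bool.and_eq_true, Nat.blt_eq] at hw
    obtain ⟨h1, h2⟩ := E_cj w hw.2 i hi
    obtain ⟨h3, h4⟩ := E_step hw.1 h1
    have hc : cj (x :: w) i = ci x (cj w i) := by simp only [cj, force_eq]
    rw [hc]
    refine ⟨h3, ?_⟩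
    rw [show x :: w = [x] ++ w from rfl, el_append, ← h4, ← h2, mul_inv_rev]
    simp only [mul_assoc]

theorem el_act0 (x : Nat) : act0 (CosetCertSuzGData.pres.gg x) = el [x] := by
  simp [el, val]

theorem class_closed {h : Equiv.Perm Pt} (hh : h ∈ Hp) :
    ∀ i, i < 4160 → ∃ j, j < 4160 ∧ h * E i * h⁻¹ = E j := by
  obtain ⟨k, hk, rfl⟩ := hh
  induction hk using Subgroup.closure_induction'' with
  | mem y hy =>
    obtain ⟨x, hx, rfl⟩ := hy
    intro i hi
    rw [el_act0]
    have hx6 : x < 6 := by simp at hx; omega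
    exact ⟨_, E_step hx6 hi⟩
  | inv_mem y hy =>
    obtain ⟨x, hx, rfl⟩ := hy
    intro i hi
    rw [map_inv, el_act0, el_single]
    have hx6 : x < 6 := by simp at hx; omega
    exact ⟨_, E_step hx6 hi⟩
  | one => intro i hi; exact ⟨i, hi, by simp⟩
  | mul a b _ _ ha hb =>
    intro i hi
    obtain ⟨j, hj, hje⟩ := hb i hi
    obtain ⟨l, hl, hle⟩ := ha j hj
    refine ⟨l, hl, ?_⟩
    rw [map_mul, mul_inv_rev, ← hle, ← hje]
    simp only [mul_assoc]

theorem srt_mono : ∀ a b, a < b → b < 4160 → entry srtTbl 44 a < entry srtTbl 44 b := by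
  intro a b
  induction b with
  | zero => exact fun h => absurd h (Nat.not_lt_zero _)
  | succ b ih =>
    intro hab hb
    have h := Nat.blt_eq.mp ((allFrom_iff _ _ _).mp rank_chk.2 b (Nat.zero_le _) (by omega))
    rcases Nat.lt_succ_iff_lt_or_eq.mp hab with h' | rfl
    · exact (ih h' (by omega)).trans h
    · exact h

theorem E_inj {i j : Nat} (hi : i < 4160) (hj : j < 4160) (h : E i = E j) : i = j := by
  have hf := fp_congr (ok7_of_ok6 (mem_ok hi).1) (ok7_of_ok6 (mem_ok hj).1) h
  rw [(mem_ok hi).2, (mem_ok hj).2] at hf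
  have a := (allFrom_iff _ _ _).mp rank_chk.1 i (Nat.zero_le _) (by omega)
  have b := (allFrom_iff _ _ _).mp rank_chk.1 j (Nat.zero_le _) (by omega)
  simp only [rankOK, force_eq, Bool.and_eq_true, Nat.blt_eq, Nat.beq_eq] at a b
  obtain ⟨⟨a1, a2⟩, a3⟩ := a
  obtain ⟨⟨b1, b2⟩, b3⟩ := b
  rcases lt_trichotomy (entry rkTbl 13 i) (entry rkTbl 13 j) with hlt | heq | hgt
  · have := srt_mono _ _ hlt b1; omega
  · rw [← a3, heq, b3]
  · have := srt_mono _ _ hgt a1; omega

/-! ### Centralisers -/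

/-- The centraliser in a subgroup. -/
def cent (K : Subgroup (Equiv.Perm Pt)) (r : Equiv.Perm Pt) : Subgroup (Equiv.Perm Pt) :=
  K ⊓ Subgroup.centralizer {r}

theorem mem_cent {K : Subgroup (Equiv.Perm Pt)} {r g : Equiv.Perm Pt} :
    g ∈ cent K r ↔ g ∈ K ∧ r * g = g * r := by
  simp [cent, Subgroup.mem_centralizer_iff]

/-- The conjugates under a subgroup. -/
def conjSet (K : Subgroup (Equiv.Perm Pt)) (r : Equiv.Perm Pt) : Set (Equiv.Perm Pt) :=
  {g | ∃ k ∈ K, k * r * k⁻¹ = g}

theorem card_conj (K : Subgroup (Equiv.Perm Pt)) (r : Equiv.Perm Pt) :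
    (conjSet K r).ncard * Nat.card (cent K r) = Nat.card K := by
  let Kc : Subgroup (ConjAct (Equiv.Perm Pt)) := K.map ConjAct.toConjAct.toMonoidHom
  have hcard : Nat.card Kc = Nat.card K :=
    (Nat.card_congr (Subgroup.equivMapOfInjective K ConjAct.toConjAct.toMonoidHom
      ConjAct.toConjAct.injective).toEquiv).symm
  have horb : MulAction.orbit Kc r = conjSet K r := by
    ext g
    constructor
    · rintro ⟨⟨_, k, hk, rfl⟩, rfl⟩
      exact ⟨k, hk, by simp [Subgroup.smul_def, ConjAct.smul_def]⟩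
    · rintro ⟨k, hk, rfl⟩
      exact ⟨⟨_, k, hk, rfl⟩, by simp [Subgroup.smul_def, ConjAct.smul_def]⟩
  have hst : Nat.card (MulAction.stabilizer Kc r) = Nat.card (cent K r) := by
    refine (Nat.card_congr (Equiv.ofBijective (fun g : cent K r =>
      (⟨⟨ConjAct.toConjAct g.1, g.1, (mem_cent.mp g.2).1, rfl⟩, by
        rw [MulAction.mem_stabilizer_iff, Subgroup.smul_def, ConjAct.smul_def]
        simp only [ConjAct.ofConjAct_toConjAct]
        rw [← (mem_cent.mp g.2).2, mul_inv_cancel_right]⟩ : MulAction.stabilizer Kc r)) ⟨?_, ?_⟩)).symm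
    · intro a b hab
      exact Subtype.ext (ConjAct.toConjAct.injective
        (congrArg (fun x : MulAction.stabilizer Kc r => (x.1 : ConjAct (Equiv.Perm Pt))) hab))
    · rintro ⟨⟨_, k, hk, rfl⟩, hs⟩
      refine ⟨⟨k, mem_cent.mpr ⟨hk, ?_⟩⟩, rfl⟩
      rw [MulAction.mem_stabilizer_iff, Subgroup.smul_def, ConjAct.smul_def] at hs
      simp only [MulEquiv.toMonoidHom_eq_coe, MonoidHom.coe_coe, ConjAct.ofConjAct_toConjAct] at hs
      conv_lhs => rw [← hs]
      rw [inv_mul_cancel_right]
  rw [← horb, ← MulAction.index_stabilizer, ← hst, Subgroup.index_mul_card, hcard]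

/-- The class, as a set. -/
theorem conjSet_ncard {i : Nat} (hi : i < 4160) :
    (conjSet Hp (E i)).ncard = 4160 := by
  have hsub : ∀ j, j < 4160 → E j ∈ conjSet Hp (E i) := by
    intro j hj
    have key : ∀ a, a < 4160 → E a ∈ conjSet Hp (el r0) := by
      intro a ha
      have hw : ok6 (unpack (entry uTbl 68 a)) = true := by
        have := (mem_ok ha).1
        simp only [rwd, ok6_append] at this
        exact this.1.1
      refine ⟨el (unpack (entry uTbl 68 a)), el_mem hw, ?_⟩
      rw [E, rwd, el_append, el_append, el_reverse]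
    obtain ⟨k, hk, hke⟩ := key i hi
    obtain ⟨l, hl, hle⟩ := key j hj
    refine ⟨l * k⁻¹, mul_mem hl (inv_mem hk), ?_⟩
    rw [← hle, ← hke]
    simp [mul_assoc]
  have heq : conjSet Hp (E i) = E '' ↑(Finset.range 4160) := by
    ext g
    constructor
    · rintro ⟨k, hk, rfl⟩
      obtain ⟨j, hj, he⟩ := class_closed hk i hi
      exact ⟨j, Finset.mem_coe.mpr (Finset.mem_range.mpr hj), he.symm⟩
    · rintro ⟨j, hj, rfl⟩
      exact hsub j (Finset.mem_range.mp hj)
  rw [heq, Set.InjOn.ncard_image (fun a ha b hb h =>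
    E_inj (Finset.mem_range.mp ha) (Finset.mem_range.mp hb) h), Set.ncard_coe_finset, Finset.card_range]

theorem card_cent {i : Nat} (hi : i < 4160) : Nat.card (cent Hp (E i)) = 60480 := by
  have h := card_conj Hp (E i)
  rw [conjSet_ncard hi, card_Hp] at h
  omega

/-- A subgroup of index prime to `p` contains a conjugate of each `p`-subgroup. -/
theorem exists_conj {p : ℕ} [Fact p.Prime] {P J : Subgroup (Equiv.Perm Pt)} (hP : P ≤ Hp) (hJ : J ≤ Hp)
    (hp : IsPGroup p P) (n : Nat) (hn : Nat.card J * n = Nat.card Hp) (hdvd : ¬ p ∣ n) :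
    ∃ h ∈ Hp, ∀ g ∈ P, h⁻¹ * g * h ∈ J := by
  have hidx : (J.subgroupOf Hp).index = n := by
    have h2 := Subgroup.card_mul_index (J.subgroupOf Hp)
    rw [Nat.card_congr (Subgroup.subgroupOfEquivOfLe hJ).toEquiv, ← hn] at h2
    exact Nat.eq_of_mul_eq_mul_left Nat.card_pos h2
  letI : MulAction P (Hp ⧸ J.subgroupOf Hp) := MulAction.compHom _ (Subgroup.inclusion hP)
  obtain ⟨q, hq⟩ := hp.nonempty_fixed_point_of_prime_not_dvd_card (α := Hp ⧸ J.subgroupOf Hp)
    (by rw [← Subgroup.index_eq_card, hidx]; exact hdvd)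
  obtain ⟨h, rfl⟩ := QuotientGroup.mk_surjective q
  refine ⟨h, h.2, fun g hg => ?_⟩
  have := hq ⟨g, hg⟩
  change ((Subgroup.inclusion hP ⟨g, hg⟩ * h : Hp) : Hp ⧸ J.subgroupOf Hp) = _ at this
  rw [eq_comm, QuotientGroup.eq, Subgroup.mem_subgroupOf] at this
  simpa [mul_assoc] using this

/-- Conjugating a subgroup. -/
noncomputable def cnj (h : Equiv.Perm Pt) (J : Subgroup (Equiv.Perm Pt)) : Subgroup (Equiv.Perm Pt) :=
  J.map (MulAut.conj h).toMonoidHom

theorem mem_cnj {h g : Equiv.Perm Pt} {J : Subgroup (Equiv.Perm Pt)} :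
    g ∈ cnj h J ↔ h⁻¹ * g * h ∈ J := by
  constructor
  · rintro ⟨j, hj, rfl⟩
    simpa [mul_assoc] using hj
  · intro hg
    exact ⟨_, hg, by simp [mul_assoc]⟩

theorem cnj_le {h : Equiv.Perm Pt} (hh : h ∈ Hp) {J : Subgroup (Equiv.Perm Pt)} (hJ : J ≤ Hp) :
    cnj h J ≤ Hp := by
  intro g hg
  have h1 := mul_mem (mul_mem hh (hJ (mem_cnj.mp hg))) (inv_mem hh)
  simpa [mul_assoc] using h1

theorem card_cnj (h : Equiv.Perm Pt) (J : Subgroup (Equiv.Perm Pt)) :
    Nat.card (cnj h J) = Nat.card J :=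
  (Nat.card_congr (Subgroup.equivMapOfInjective J _ (MulAut.conj h).injective).toEquiv).symm

/-! ### Subgroups of index 416 -/

/-- The root of the orbit of a member. -/
noncomputable def rtR (i : Nat) : Nat := Nat.land (entry rtTbl 19 i) 8191

/-- The word from the root. -/
noncomputable def rtW (i : Nat) : List Nat :=
  (List.replicate (Nat.land (Nat.shiftRight (entry rtTbl 19 i) 13) 7) wX).flatten ++
    (List.replicate (Nat.shiftRight (entry rtTbl 19 i) 16) wY).flatten

/-- The roots are as tabulated. -/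
noncomputable def rtOK (i : Nat) : Bool :=
  Nat.blt (rtR i) 4160 && Nat.beq (cj (rtW i) (rtR i)) i &&
    ((cases13.any fun c => Nat.beq c.1 (rtR i) && (c.2.1.isEmpty || small.contains i)) ||
      (casesJ.any fun c => Nat.beq c.1 (rtR i) && (c.2.1.isEmpty || small.contains i)))

theorem rt_chk : allFrom rtOK 4160 0 = true := by decide +kernel

/-- The words of a case. -/
noncomputable def caseGens (i : Nat) (extra : List (List Nat)) : List (List Nat) :=
  [wX, wY, rwd i] ++ extra

/-- The further elements of a case have order dividing seven and centralise the class member. -/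
noncomputable def extraOK (i : Nat) (extra : List (List Nat)) : Bool :=
  Nat.blt i 4160 && extra.all fun g => ok6 g && Nat.beq (fp (List.replicate 7 g).flatten) (fp []) &&
    Nat.beq (fp (g ++ rwd i)) (fp (rwd i ++ g))

/-- A case with a long cycle. -/
noncomputable def ok13 (c : Nat × List (List Nat) × List Nat × Nat × Nat) : Bool :=
  extraOK c.1 c.2.1 &&
    force c.2.2.2.1 fun j => Nat.blt j 1782 &&
      let W := (List.replicate c.2.2.2.2 (c.2.2.1.map fun k => (caseGens c.1 c.2.1).getD k []).flatten).flatten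
      ok7 W && !(Nat.beq (app W j) j) && Nat.beq (app (List.replicate 13 W).flatten j) j

/-- A case with a fixed point. -/
noncomputable def okJ (c : Nat × List (List Nat) × Nat × List (Nat × List Nat)) : Bool :=
  extraOK c.1 c.2.1 && Nat.blt c.2.2.1 1782 && Nat.testBit nMask c.2.2.1 &&
    partsOK (caseGens c.1 c.2.1) c.2.2.2 && coverOK (1 <<< c.2.2.1) c.2.2.2 nMask &&
    decide (c.2.2.2.map partSize = [100, 315])

theorem c13_chk : cases13.all ok13 = true := by decide +kernel

theorem cJ_chk : casesJ.all okJ = true := by decide +kernel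

theorem small_len : small.length = 60 := by decide +kernel

theorem xy_ok : ok6 wX = true ∧ ok6 wY = true ∧ ok6 r0 = true ∧
    fp (wX ++ wY) = fp (wY ++ wX) ∧ fp (List.replicate 5 wX).flatten = fp [] ∧
    fp (List.replicate 5 wY).flatten = fp [] ∧ fp (List.replicate 3 r0).flatten = fp [] ∧
    fp r0 ≠ fp [] ∧ fp wX ≠ fp [] ∧
    ∀ k < 5, fp wY ≠ fp (List.replicate k wX).flatten := by decide +kernel

theorem ok6_replicate {w : List Nat} (hw : ok6 w = true) (n : Nat) :
    ok6 (List.replicate n w).flatten = true :=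
  ok6_flatten fun v hv => List.eq_of_mem_replicate hv ▸ hw

theorem pow_eq_one {w : List Nat} (hw : ok6 w = true) (n : Nat)
    (h : fp (List.replicate n w).flatten = fp []) : el w ^ n = 1 := by
  rw [← el_pow, el_eq (ok6_replicate hw n) rfl h, el_nil]

/-- The group of order 25. -/
noncomputable def Q : Subgroup (Equiv.Perm Pt) := Subgroup.closure {el wX, el wY}

theorem Q_le : Q ≤ Hp := by
  rw [Q, Subgroup.closure_le]
  rintro g (rfl | rfl)
  exacts [el_mem xy_ok.1, el_mem xy_ok.2.1]

theorem Q_pgroup : IsPGroup 5 Q := by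
  obtain ⟨hx, hy, -, hxy, hx5, hy5, -⟩ := xy_ok
  have hc : el wX * el wY = el wY * el wX := by
    rw [← el_append, ← el_append]
    exact el_eq (ok6_append.mpr ⟨hx, hy⟩) (ok6_append.mpr ⟨hy, hx⟩) hxy
  have hx' := pow_eq_one hx 5 hx5
  have hy' := pow_eq_one hy 5 hy5
  have hcomm : IsMulCommutative Q := Subgroup.isMulCommutative_closure (by
    rintro a (rfl | rfl) b (rfl | rfl)
    exacts [rfl, hc, hc.symm, rfl])
  intro g
  refine ⟨1, ?_⟩
  rw [pow_one]
  obtain ⟨g, hg⟩ := g
  refine Subtype.ext ?_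
  show g ^ 5 = 1
  induction hg using Subgroup.closure_induction with
  | mem g hg => rcases hg with rfl | rfl <;> assumption
  | one => simp
  | mul a b ha hb iha ihb =>
    have hab : Commute a b := congrArg Subtype.val (hcomm.is_comm.comm (⟨a, ha⟩ : Q) ⟨b, hb⟩)
    rw [hab.mul_pow, iha, ihb, one_mul]
  | inv a _ iha => rw [inv_pow, iha, inv_one]

/-- Elements fixing a point. -/
def Fix (K : Subgroup (Equiv.Perm Pt)) (p : Pt) : Prop := ∀ g ∈ K, g p = p

theorem eq_stab {K : Subgroup (Equiv.Perm Pt)} {p : Pt} (hK : K ≤ Hp) (h : Fix K p)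
    (hc : Nat.card ↥(Hp ⊓ MulAction.stabilizer (Equiv.Perm Pt) p) ≤ Nat.card K) :
    K = Hp ⊓ MulAction.stabilizer (Equiv.Perm Pt) p :=
  Subgroup.eq_of_le_of_card_ge (le_inf hK fun g hg => h g hg) hc

/-- A subgroup of index 416 containing the group of order 25 fixes a point of the suborbit. -/
theorem fix_of_Q_le {J : Subgroup (Equiv.Perm Pt)} (hJ : J ≤ Hp) (hc : Nat.card J = 604800)
    (hQ : Q ≤ J) : ∃ p : Pt, lab p = 2 ∧ Fix J p := by
  have hX : el wX ∈ J := hQ (Subgroup.subset_closure (Or.inl rfl))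
  have hY : el wY ∈ J := hQ (Subgroup.subset_closure (Or.inr rfl))
  obtain ⟨-, -, hr6, -, -, -, hr3, -⟩ := xy_ok
  haveI : Fact (Nat.Prime 3) := ⟨Nat.prime_three⟩
  have hp3 : IsPGroup 3 (Subgroup.zpowers (el r0)) := by
    intro g
    obtain ⟨n, hn⟩ := Subgroup.mem_zpowers_iff.mp g.2
    refine ⟨1, Subtype.ext ?_⟩
    show (g.1) ^ (3 ^ 1) = 1
    rw [pow_one, ← hn, ← zpow_natCast, ← zpow_mul, mul_comm, zpow_mul, zpow_natCast,
      pow_eq_one hr6 3 hr3, one_zpow]
  obtain ⟨h, hh, hconj⟩ := exists_conj (P := Subgroup.zpowers (el r0))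
    (by rw [Subgroup.zpowers_le]; exact el_mem hr6) hJ hp3 416 (by rw [hc, card_Hp]) (by norm_num)
  have hzero : E 0 = el r0 := by
    have h0 : rwd 0 = r0 := by decide +kernel
    rw [E, h0]
  obtain ⟨i₀, hi₀, hE₀⟩ := class_closed (inv_mem hh) 0 (by norm_num)
  rw [inv_inv, hzero] at hE₀
  have hiJ : E i₀ ∈ J := hE₀ ▸ hconj _ (Subgroup.mem_zpowers _)
  -- roots
  have hroot : ∀ i, i < 4160 → E i ∈ J → rtR i < 4160 ∧ E (rtR i) ∈ J ∧
      ((∃ c ∈ cases13, c.1 = rtR i ∧ (c.2.1 = [] ∨ i ∈ small)) ∨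
        (∃ c ∈ casesJ, c.1 = rtR i ∧ (c.2.1 = [] ∨ i ∈ small))) := by
    intro i hi hiJ
    have h := (allFrom_iff _ _ _).mp rt_chk i (Nat.zero_le _) (by omega)
    simp only [rtOK, Bool.and_eq_true, Bool.or_eq_true, Nat.blt_eq, Nat.beq_eq, List.any_eq_true,
      List.isEmpty_iff, List.contains_iff_mem] at h
    obtain ⟨⟨hr, hw⟩, hcase⟩ := h
    have hwok : ok6 (rtW i) = true :=
      ok6_append.mpr ⟨ok6_replicate xy_ok.1 _, ok6_replicate xy_ok.2.1 _⟩
    have hwJ : el (rtW i) ∈ J := by
      rw [rtW, el_append]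
      exact mul_mem (el_pow_flatten_mem hX _) (el_pow_flatten_mem hY _)
    obtain ⟨-, he⟩ := E_cj _ hwok _ hr
    rw [hw] at he
    refine ⟨hr, ?_, hcase⟩
    have : E (rtR i) = (el (rtW i))⁻¹ * E i * el (rtW i) := by
      rw [← he]; simp [mul_assoc]
    rw [this]
    exact mul_mem (mul_mem (inv_mem hwJ) hiJ) hwJ
  obtain ⟨i, hi, hiJ', hcases⟩ : ∃ i, i < 4160 ∧ E i ∈ J ∧
      ((∃ c ∈ cases13, c.1 = rtR i ∧ (c.2.1 = [] ∨ ∀ j, j < 4160 → E j ∈ J → j ∈ small)) ∨
        (∃ c ∈ casesJ, c.1 = rtR i ∧ (c.2.1 = [] ∨ ∀ j, j < 4160 → E j ∈ J → j ∈ small))) := by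
    by_cases hbig : ∃ j, j < 4160 ∧ E j ∈ J ∧ j ∉ small
    · obtain ⟨j, hj, hjJ, hjs⟩ := hbig
      exact ⟨j, hj, hjJ, (hroot j hj hjJ).2.2.imp
        (fun ⟨c, h1, h2, h3⟩ => ⟨c, h1, h2, Or.inl (h3.resolve_right hjs)⟩)
        (fun ⟨c, h1, h2, h3⟩ => ⟨c, h1, h2, Or.inl (h3.resolve_right hjs)⟩)⟩
    · have hall : ∀ j, j < 4160 → E j ∈ J → j ∈ small := fun j hj hjJ => by
        by_contra hjs; exact hbig ⟨j, hj, hjJ, hjs⟩
      exact ⟨i₀, hi₀, hiJ, (hroot i₀ hi₀ hiJ).2.2.imp
        (fun ⟨c, h1, h2, _⟩ => ⟨c, h1, h2, Or.inr hall⟩)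
        (fun ⟨c, h1, h2, _⟩ => ⟨c, h1, h2, Or.inr hall⟩)⟩
  obtain ⟨hr, hrJ, -⟩ := hroot i hi hiJ'
  -- the further elements lie in the subgroup
  have hextra : ∀ extra, extraOK (rtR i) extra = true →
      (extra = [] ∨ ∀ j, j < 4160 → E j ∈ J → j ∈ small) →
      ∀ w ∈ caseGens (rtR i) extra, el w ∈ J := by
    intro extra hok hor w hw
    simp only [caseGens, List.cons_append, List.nil_append, List.mem_cons] at hw
    rcases hw with rfl | rfl | rfl | hw
    · exact hX
    · exact hY
    · exact hrJ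
    rcases hor with rfl | hall
    · exact absurd hw List.not_mem_nil
    simp only [extraOK, Bool.and_eq_true, List.all_eq_true, Nat.beq_eq, Nat.blt_eq] at hok
    obtain ⟨⟨hg6, hg7⟩, hgc⟩ := hok.2 w hw
    set g := el w with hg
    have hg7' : g ^ 7 = 1 := pow_eq_one hg6 7 hg7
    have hgC : g ∈ cent Hp (E (rtR i)) := by
      refine mem_cent.mpr ⟨el_mem hg6, ?_⟩
      rw [E, hg, ← el_append, ← el_append]
      exact el_eq (ok6_append.mpr ⟨(mem_ok hr).1, hg6⟩) (ok6_append.mpr ⟨hg6, (mem_ok hr).1⟩) hgc.symm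
    by_contra hgJ
    have hsm : (conjSet J (E (rtR i))).ncard ≤ 60 := by
      have hsub : conjSet J (E (rtR i)) ⊆ E '' {j | j ∈ small} := by
        rintro _ ⟨k, hk, rfl⟩
        obtain ⟨j, hj, he⟩ := class_closed (hJ hk) _ hr
        refine ⟨j, hall j hj ?_, he.symm⟩
        rw [← he]
        exact mul_mem (mul_mem hk hrJ) (inv_mem hk)
      refine (Set.ncard_le_ncard hsub ((List.finite_toSet small).image _)).trans ?_
      refine (Set.ncard_image_le (List.finite_toSet small)).trans ?_
      rw [← small_len, show {j | j ∈ small} = ↑small.toFinset by ext; simp, Set.ncard_coe_finset]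
      exact List.toFinset_card_le _
    have h1 := card_conj J (E (rtR i))
    rw [hc] at h1
    have h2 : 10080 ≤ Nat.card (cent J (E (rtR i))) := by
      have := Nat.mul_le_mul_right (Nat.card (cent J (E (rtR i)))) hsm
      omega
    haveI : Fact (Nat.Prime 7) := ⟨by norm_num⟩
    have hord : orderOf g = 7 := orderOf_eq_prime hg7' fun h1 => hgJ (h1 ▸ one_mem J)
    have hinter : Subgroup.zpowers g ⊓ J = ⊥ := by
      have hdvd : Nat.card ↥(Subgroup.zpowers g ⊓ J) ∣ 7 := by
        have h := Subgroup.card_dvd_of_le (inf_le_left : Subgroup.zpowers g ⊓ J ≤ Subgroup.zpowers g)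
        rwa [Nat.card_zpowers, hord] at h
      rcases (Nat.dvd_prime (by norm_num)).mp hdvd with h | h
      · exact Subgroup.card_eq_one.mp h
      · exfalso
        have heq : Subgroup.zpowers g ⊓ J = Subgroup.zpowers g := Subgroup.eq_of_le_of_card_ge inf_le_left
          (by rw [Nat.card_zpowers, hord, h])
        exact hgJ (inf_eq_left.mp heq (Subgroup.mem_zpowers g))
    let f : Subgroup.zpowers g × cent J (E (rtR i)) → cent Hp (E (rtR i)) := fun x =>
      ⟨x.1.1 * x.2.1, mul_mem ((Subgroup.zpowers_le.mpr hgC) x.1.2)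
        ((inf_le_inf_right _ hJ) x.2.2)⟩
    have hf : Function.Injective f := by
      rintro ⟨⟨a, ha⟩, ⟨b, hb⟩⟩ ⟨⟨a', ha'⟩, ⟨b', hb'⟩⟩ he
      have he' : a * b = a' * b' := congrArg Subtype.val he
      have hm : a'⁻¹ * a ∈ J := by
        have : a'⁻¹ * a = b' * b⁻¹ := by
          rw [eq_mul_inv_iff_mul_eq, mul_assoc, he', inv_mul_cancel_left]
        rw [this]
        exact mul_mem hb'.1 (inv_mem hb.1)
      have hz : a'⁻¹ * a ∈ Subgroup.zpowers g := mul_mem (inv_mem ha') ha
      have h1 : a'⁻¹ * a = 1 := Subgroup.mem_bot.mp (hinter ▸ Subgroup.mem_inf.mpr ⟨hz, hm⟩)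
      have ha2 : a = a' := by rw [← mul_one a', ← h1, mul_inv_cancel_left]
      subst ha2
      obtain rfl : b = b' := mul_left_cancel he'
      rfl
    have h3 := Nat.card_le_card_of_injective f hf
    rw [Nat.card_prod, Nat.card_zpowers, hord, card_cent hr] at h3
    omega
  rcases hcases with ⟨c, hcm, hcr, hce⟩ | ⟨c, hcm, hcr, hce⟩
  · exfalso
    have hok := (List.all_eq_true.mp c13_chk) c hcm
    simp only [ok13, force_eq, Bool.and_eq_true, Bool.not_eq_true', Nat.blt_eq, Nat.beq_eq] at hok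
    obtain ⟨hx, hj, ⟨hW, hne⟩, hper⟩ := hok
    rw [hcr] at hx
    have hgens := hextra _ hx hce
    set W := (List.replicate c.2.2.2.2
      (c.2.2.1.map fun k => (caseGens c.1 c.2.1).getD k []).flatten).flatten with hWdef
    have hWJ : el W ∈ J := by
      refine el_pow_flatten_mem (el_flatten_mem fun w hw => ?_) _
      obtain ⟨k, -, rfl⟩ := List.mem_map.mp hw
      rw [List.getD_eq_getElem?_getD]
      rcases hk : (caseGens c.1 c.2.1)[k]? with _ | v
      · simp [el_nil]
      · exact hgens v (hcr ▸ List.mem_of_getElem? hk)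
    have hW13 : ok7 (List.replicate 13 W).flatten = true := by
      simp only [ok7, List.all_eq_true] at hW ⊢
      intro x hx
      obtain ⟨w, hw, hxw⟩ := List.mem_flatten.mp hx
      exact hW x (List.eq_of_mem_replicate hw ▸ hxw)
    have h13 : Function.IsPeriodicPt (el W) 13 (pt c.2.2.2.1 hj) := by
      show (el W)^[13] _ = _
      rw [← Equiv.Perm.coe_pow, ← el_pow]
      exact Fin.ext (by rw [el_app hW13]; exact hper)
    have hJp : Function.IsPeriodicPt (el W) 604800 (pt c.2.2.2.1 hj) := by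
      show (el W)^[604800] _ = _
      have hd := Subgroup.orderOf_dvd_natCard J hWJ
      rw [hc] at hd
      have h2 : el W ^ 604800 = 1 := orderOf_dvd_iff_pow_eq_one.mp hd
      rw [← Equiv.Perm.coe_pow, h2]
      rfl
    have h1 := h13.gcd hJp
    rw [show Nat.gcd 13 604800 = 1 by norm_num] at h1
    have : el W (pt c.2.2.2.1 hj) = pt c.2.2.2.1 hj := h1
    have := congrArg Fin.val this
    rw [el_app hW] at this
    have hb : Nat.beq (app W c.2.2.2.1) c.2.2.2.1 = true := Nat.beq_eq.mpr this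
    rw [hb] at hne
    exact Bool.noConfusion hne
  · have hok := (List.all_eq_true.mp cJ_chk) c hcm
    simp only [okJ, Bool.and_eq_true, Nat.blt_eq, decide_eq_true_eq] at hok
    obtain ⟨⟨⟨⟨⟨hx, hp⟩, hpn⟩, hparts⟩, hcover⟩, hsizes⟩ := hok
    rw [hcr] at hx hparts
    have hgens := hextra _ hx hce
    refine ⟨pt _ hp, mem_nMask.mp (mem_pts.mpr hpn), fun g hg => ?_⟩
    set O := orb J (pt c.2.2.1 hp) with hO
    obtain ⟨-, hsum⟩ := card_mem_sums hparts hgens (inv_orb J (pt c.2.2.1 hp)) _ _ _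
      (fun q hq => hq) hcover
    rw [hsizes, pts_single _ hp] at hsum
    have hsubO : O ⊆ pts nMask := fun q hq =>
      mem_nMask.mpr ((orb_sub hJ _ q hq).trans (mem_nMask.mp (mem_pts.mpr hpn)))
    have heq : O ∩ (pts nMask \ {pt c.2.2.1 hp}) = O.erase (pt c.2.2.1 hp) := by
      ext q
      simp only [Finset.mem_inter, Finset.mem_sdiff, Finset.mem_singleton, Finset.mem_erase]
      exact ⟨fun h => ⟨h.2.2, h.1⟩, fun h => ⟨h.2, hsubO h.2, h.1⟩⟩
    rw [← hO, heq, Finset.card_erase_of_mem (show pt c.2.2.1 hp ∈ O from mem_orb_self _ _)] at hsum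
    have hdvd : O.card ∣ 604800 := ⟨_, (hc ▸ card_orb_mul J (pt c.2.2.1 hp)).symm⟩
    have hpos : 0 < O.card := Finset.card_pos.mpr ⟨_, mem_orb_self _ _⟩
    simp only [sums, List.map_cons, List.map_nil, List.nil_append, List.cons_append, List.mem_cons,
      List.not_mem_nil, or_false] at hsum
    have hone : O.card = 1 := by
      rcases hsum with h | h | h | h
      · omega
      all_goals (exfalso; rw [show O.card = _ from (Nat.sub_eq_iff_eq_add hpos).mp h] at hdvd;
                 norm_num at hdvd)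
    obtain ⟨q, hq⟩ := Finset.card_eq_one.mp hone
    have h1 : g (pt c.2.2.1 hp) ∈ O := mem_orb.mpr ⟨g, hg, rfl⟩
    have h2 : pt c.2.2.1 hp ∈ O := mem_orb_self _ _
    rw [hq, Finset.mem_singleton] at h1 h2
    rw [h1, h2]

/-- A subgroup of index 416 of the point stabiliser is the stabiliser of a point of the suborbit. -/
theorem sub416 {J : Subgroup (Equiv.Perm Pt)} (hJ : J ≤ Hp) (hc : Nat.card J = 604800) :
    ∃ p : Pt, lab p = 2 ∧ J = Hp ⊓ MulAction.stabilizer (Equiv.Perm Pt) p := by
  haveI : Fact (Nat.Prime 5) := ⟨by norm_num⟩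
  obtain ⟨h, hh, hconj⟩ := exists_conj Q_le hJ Q_pgroup 416 (by rw [hc, card_Hp]) (by norm_num)
  obtain ⟨p, hp, hfix⟩ := fix_of_Q_le (cnj_le hh hJ) ((card_cnj h J).trans hc)
    fun g hg => mem_cnj.mpr (hconj g hg)
  have hp' : lab (h⁻¹ p : Pt) = 2 := (lab_inv (inv_mem hh) p).trans hp
  refine ⟨h⁻¹ p, hp', eq_stab hJ (fun g hg => ?_) (by rw [card_stab_n hp', hc])⟩
  have := hfix (h * g * h⁻¹) (mem_cnj.mpr (by simpa [mul_assoc] using hg))
  rw [Equiv.Perm.mul_apply, Equiv.Perm.mul_apply] at this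
  exact (Equiv.Perm.eq_inv_iff_eq).mpr this

end Cfsg.Agent.SuzRankThree84
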