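import Cfsg.Agent.Lib.SuzRankThree84Parab

/-!
A rank three group on 1782 points with the point stabiliser of Suz has the same graph, hence is Suz.
-/

set_option autoImplicit false
set_option maxRecDepth 100000
set_option linter.style.haveILetI false

namespace Cfsg.Agent.SuzRankThree84

open Cfsg.Agent.CosetCertCore Cfsg.Agent.CosetCertTable Cfsg.Agent.CosetCertPres

/-- The origin. -/
def p0 : Pt := pt 0 (by norm_num)
/-- The root of the suborbit of 416 points. -/
def pN : Pt := pt 47 (by norm_num)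
/-- The root of the suborbit of 1365 points. -/
def pF : Pt := pt 1 (by norm_num)

theorem lab_p0 : lab p0 = 0 := root_facts.2.1
theorem lab_pN : lab pN = 2 := root_facts.2.2.2
theorem lab_pF : lab pF = 1 := root_facts.2.2.1

theorem lab_cases (j : Pt) : j = p0 ∨ lab j = 1 ∨ lab j = 2 := by
  have h : allFrom (fun i => Nat.beq i 0 || (Nat.beq (lab i) 1 || Nat.beq (lab i) 2)) 1782 0 = true := by
    decide +kernel
  have := (allFrom_iff _ _ _).mp h j (Nat.zero_le _) (by simpa using pt_lt j)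
  simp only [Bool.or_eq_true, Nat.beq_eq] at this
  exact this.imp (fun e => Fin.ext e) id

theorem to_pN {j : Pt} (h : lab j = 2) : ∃ k ∈ Hp, k pN = j := trans_lab (lab_pN.trans h.symm)

theorem to_pF {j : Pt} (h : lab j = 1) : ∃ k ∈ Hp, k pF = j := trans_lab (lab_pF.trans h.symm)

open scoped Classical in
/-- The row of a relation. -/
noncomputable def row (R : Pt → Pt → Prop) (i : Pt) : Finset Pt := Finset.univ.filter fun j => R i j

theorem mem_row {R : Pt → Pt → Prop} {i j : Pt} : j ∈ row R i ↔ R i j := by simp [row]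

/-- What determines the graph. -/
structure Good (R : Pt → Pt → Prop) : Prop where
  inv : ∀ k ∈ Hp, ∀ i j, R (k i) (k j) ↔ R i j
  symm : ∀ i j, R i j → R j i
  irrefl : ∀ i, ¬ R i i
  zero : ∀ j, R p0 j ↔ lab j = 2
  card : ∀ i, (row R i).card = 416
  cN : (row R pN ∩ pts nMask).card = 100
  cF : (row R pF ∩ pts nMask).card = 96

theorem Good.inv_row {R : Pt → Pt → Prop} (h : Good R) (p : Pt) (m : Nat) (hm : m = nMask ∨ m = fMask) :
    Inv (Hp ⊓ MulAction.stabilizer (Equiv.Perm Pt) p) (row R p ∩ pts m) := by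
  intro k hk i hi
  rw [Finset.mem_inter, mem_row] at hi ⊢
  have hp : k p = p := hk.2
  refine ⟨by rw [← hp]; exact (h.inv k hk.1 p i).mpr hi.1, ?_⟩
  rcases hm with rfl | rfl
  · exact mem_nMask.mpr ((lab_inv hk.1 i).trans (mem_nMask.mp hi.2))
  · exact mem_fMask.mpr ((lab_inv hk.1 i).trans (mem_fMask.mp hi.2))

theorem Good.card_F {R : Pt → Pt → Prop} (h : Good R) : (row R pF ∩ pts fMask).card = 320 := by
  have hu : row R pF = (row R pF ∩ pts nMask) ∪ (row R pF ∩ pts fMask) := by
    ext j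
    simp only [Finset.mem_union, Finset.mem_inter, mem_nMask, mem_fMask, mem_row]
    refine ⟨fun hj => ?_, fun hj => hj.elim And.left And.left⟩
    rcases lab_cases j with rfl | hl | hl
    · have := (h.zero pF).mp (h.symm _ _ hj)
      rw [lab_pF] at this
      exact absurd this (by norm_num)
    · exact Or.inr ⟨hj, hl⟩
    · exact Or.inl ⟨hj, hl⟩
  have hd : Disjoint (row R pF ∩ pts nMask) (row R pF ∩ pts fMask) := by
    refine Finset.disjoint_left.mpr fun j hj hj' => ?_
    simp only [Finset.mem_inter, mem_nMask, mem_fMask] at hj hj'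
    omega
  have := h.card pF
  rw [hu, Finset.card_union_of_disjoint hd, h.cF] at this
  omega

/-- There is only one such graph. -/
theorem Good.unique {R S : Pt → Pt → Prop} (hR : Good R) (hS : Good S) :
    ∀ i j, R i j ↔ S i j := by
  have notMem : ∀ {T : Pt → Pt → Prop}, Good T → ∀ p m, p ∉ row T p ∩ pts m :=
    fun hT p m hp => hT.irrefl p (mem_row.mp (Finset.mem_inter.mp hp).1)
  have eF : row R pF ∩ pts nMask = row S pF ∩ pts nMask :=
    uniq1N (hR.inv_row pF _ (Or.inl rfl)) (hS.inv_row pF _ (Or.inl rfl)) Finset.inter_subset_right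
      Finset.inter_subset_right hR.cF hS.cF
  have eFF : row R pF ∩ pts fMask = row S pF ∩ pts fMask :=
    uniq1F (hR.inv_row pF _ (Or.inr rfl)) (hS.inv_row pF _ (Or.inr rfl)) Finset.inter_subset_right
      Finset.inter_subset_right (notMem hR _ _) (notMem hS _ _) hR.card_F hS.card_F
  have eN : row R pN ∩ pts nMask = row S pN ∩ pts nMask :=
    uniq47 (hR.inv_row pN _ (Or.inl rfl)) (hS.inv_row pN _ (Or.inl rfl)) Finset.inter_subset_right
      Finset.inter_subset_right (notMem hR _ _) (notMem hS _ _) hR.cN hS.cN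
  have use : ∀ {p q : Pt} {m : Nat}, row R p ∩ pts m = row S p ∩ pts m → q ∈ pts m → (R p q ↔ S p q) := by
    intro p q m he hq
    have := Finset.ext_iff.mp he q
    simpa [mem_row, hq] using this
  have hFrow : ∀ j, R pF j ↔ S pF j := by
    intro j
    rcases lab_cases j with rfl | hl | hl
    · have hz : ∀ {T : Pt → Pt → Prop}, Good T → ¬ T pF p0 := fun hT hh => by
        have := (hT.zero pF).mp (hT.symm _ _ hh)
        rw [lab_pF] at this
        exact absurd this (by norm_num)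
      exact iff_of_false (hz hR) (hz hS)
    · exact use eFF (mem_fMask.mpr hl)
    · exact use eF (mem_nMask.mpr hl)
  have hNrow : ∀ j, R pN j ↔ S pN j := by
    intro j
    rcases lab_cases j with rfl | hl | hl
    · exact iff_of_true (hR.symm _ _ ((hR.zero pN).mpr lab_pN)) (hS.symm _ _ ((hS.zero pN).mpr lab_pN))
    · obtain ⟨k, hk, rfl⟩ := to_pF hl
      have hkN : k (k⁻¹ pN) = pN := by simp
      conv_lhs => rw [← hkN]
      conv_rhs => rw [← hkN]
      rw [hR.inv k hk, hS.inv k hk]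
      exact ⟨fun h => hS.symm _ _ ((hFrow _).mp (hR.symm _ _ h)),
        fun h => hR.symm _ _ ((hFrow _).mpr (hS.symm _ _ h))⟩
    · exact use eN (mem_nMask.mpr hl)
  intro i j
  rcases lab_cases i with rfl | hl | hl
  · rw [hR.zero, hS.zero]
  · obtain ⟨k, hk, rfl⟩ := to_pF hl
    have hkj : k (k⁻¹ j) = j := by simp
    rw [← hkj, hR.inv k hk, hS.inv k hk]
    exact hFrow _
  · obtain ⟨k, hk, rfl⟩ := to_pN hl
    have hkj : k (k⁻¹ j) = j := by simp
    rw [← hkj, hR.inv k hk, hS.inv k hk]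
    exact hNrow _

/-- Number of indices below the bound passing a test. -/
noncomputable def cntB (f : Nat → Bool) : Nat :=
  Nat.rec (motive := fun _ => Nat) 0 (fun i ih => cond (f i) (ih + 1) ih) 1782

theorem cntB_eq (f : Nat → Bool) : cntB f = (Finset.univ.filter fun i : Pt => f i = true).card := by
  have key : ∀ n, (Nat.rec (motive := fun _ => Nat) 0 (fun i ih => cond (f i) (ih + 1) ih) n : Nat) =
      ((Finset.range n).filter fun i => f i = true).card := by
    intro n
    induction n with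
    | zero => rfl
    | succ n ih =>
      show cond (f n) _ _ = _
      rw [Finset.range_add_one, Finset.filter_insert]
      cases h : f n <;> simp [ih]
  rw [cntB, key, ← Finset.card_image_of_injective _ Fin.val_injective]
  congr 1
  ext j
  simp only [Finset.mem_filter, Finset.mem_range, Finset.mem_image, Finset.mem_univ, true_and]
  exact ⟨fun ⟨a, b⟩ => ⟨⟨j, a⟩, b, rfl⟩, fun ⟨i, a, b⟩ => b ▸ ⟨pt_lt i, a⟩⟩

theorem count_check : app [6] 1 = 0 ∧ app [6, 1, 2, 3, 2, 1, 6] 47 = 0 ∧
    lab (app [6, 1, 2, 3, 2, 1, 6] 0) = 2 ∧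
    cntB (fun j => Nat.beq (lab j) 2 && Nat.beq (lab (app [6, 1, 2, 3, 2, 1, 6] j)) 2) = 100 ∧
    cntB (fun j => Nat.beq (lab j) 2 && Nat.beq (lab (app [6] j)) 2) = 96 := by decide +kernel

theorem card_R0_inter {p : Pt} {w : List Nat} (hw : ok7 w = true) (h0 : app w p = 0) :
    (row R0 p ∩ pts nMask).card = cntB (fun j => Nat.beq (lab j) 2 && Nat.beq (lab (app w j)) 2) := by
  rw [cntB_eq]
  congr 1
  ext j
  have hz : el w p = pt 0 (by norm_num) := Fin.ext (by rw [el_app hw]; exact h0)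
  simp [mem_row, mem_nMask, R0_iff (el_mem_SUZ w) hz, el_app hw, and_comm]

theorem good_R0 : Good R0 := by
  obtain ⟨hF0, hN0, hsymm, hcN, hcF⟩ := count_check
  refine ⟨fun k hk i j => R0_map (Hp_le hk) i j, ?_, ?_, R0_zero, ?_, ?_, ?_⟩
  · intro i j hij
    obtain ⟨g, hg, hgi⟩ := exists_to_zero i
    have hlj : lab (g j : Pt) = 2 := (R0_iff hg hgi j).mp hij
    obtain ⟨k, hk, hkj⟩ := to_pN hlj
    rw [← R0_map hg, hgi, ← hkj, ← show k p0 = pt 0 (by norm_num) from Hp_zero hk,
      R0_map (Hp_le hk)]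
    exact (R0_iff (el_mem_SUZ [6, 1, 2, 3, 2, 1, 6]) (Fin.ext (by rw [el_app (by decide)]; exact hN0))
      p0).mpr (by rw [el_app (by decide)]; exact hsymm)
  · rintro i ⟨g, -, hgi, hl⟩
    rw [hgi] at hl
    exact absurd (lab_p0.symm.trans hl) (by norm_num)
  · intro i
    obtain ⟨g, hg, hgi⟩ := exists_to_zero i
    rw [← card_nMask]
    refine Finset.card_bij' (fun j _ => g j) (fun j _ => g⁻¹ j) (fun j hj => ?_) (fun j hj => ?_)
      (fun j _ => by simp) (fun j _ => by simp)
    · exact mem_nMask.mpr ((R0_iff hg hgi j).mp (mem_row.mp hj))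
    · rw [mem_row, R0_iff hg hgi]
      simpa using mem_nMask.mp hj
  · rw [card_R0_inter (by decide) hN0]; exact hcN
  · rw [card_R0_inter (by decide) hF0]; exact hcF

section

variable {Ω : Type*} [Fintype Ω] [DecidableEq Ω] {G : Subgroup (Equiv.Perm Ω)} {a : Ω}
  (φ : Hp ≃* MulAction.stabilizer G a)

/-- The element of the rank three group. -/
noncomputable def img (k : Hp) : G := (φ k : MulAction.stabilizer G a)

theorem img_smul_a (k : Hp) : img φ k • a = a := (φ k).2

theorem img_mul (k l : Hp) : img φ (k * l) = img φ k * img φ l := by simp [img]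

theorem img_surj {g : G} (hg : g • a = a) : ∃ k : Hp, img φ k = g :=
  ⟨φ.symm ⟨g, hg⟩, by simp [img]⟩

/-- The preimage of a point stabiliser. -/
noncomputable def stOf (x : Ω) : Subgroup (Equiv.Perm Pt) :=
  (((MulAction.stabilizer (MulAction.stabilizer G a) x)).comap φ.toMonoidHom).map Hp.subtype

theorem mem_stOf {x : Ω} {g : Equiv.Perm Pt} :
    g ∈ stOf φ x ↔ ∃ h : g ∈ Hp, img φ ⟨g, h⟩ • x = x := by
  constructor
  · rintro ⟨k, hk, rfl⟩
    exact ⟨k.2, hk⟩
  · rintro ⟨h, hx⟩
    exact ⟨⟨g, h⟩, hx, rfl⟩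

theorem stOf_le (x : Ω) : stOf φ x ≤ Hp := fun _ hg => (mem_stOf φ |>.mp hg).1

theorem card_stOf (x : Ω) :
    (MulAction.orbit (MulAction.stabilizer G a) x).ncard * Nat.card (stOf φ x) = 251596800 := by
  have h1 : Nat.card (stOf φ x) = Nat.card (MulAction.stabilizer (MulAction.stabilizer G a) x) := by
    refine (Nat.card_congr (Subgroup.equivMapOfInjective _ _ Hp.subtype_injective).toEquiv).symm.trans ?_
    exact Nat.card_congr (φ.toEquiv.subtypeEquiv fun _ => Iff.rfl)
  rw [h1, ← MulAction.index_stabilizer, Subgroup.index_mul_card, ← Nat.card_congr φ.toEquiv, card_Hp]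

end

set_option maxHeartbeats 1600000 in
/-- A rank three group of this kind is Suz. -/
theorem iso_of_rank_three {Ω : Type*} [Fintype Ω] [DecidableEq Ω] (hΩ : Fintype.card Ω = 1782)
    (G : Subgroup (Equiv.Perm Ω)) [MulAction.IsPretransitive G Ω] (a : Ω)
    (φ : Hp ≃* MulAction.stabilizer G a) (b c : Ω)
    (hb : (MulAction.orbit (MulAction.stabilizer G a) b).ncard = 416)
    (hc : (MulAction.orbit (MulAction.stabilizer G a) c).ncard = 1365) :
    Nonempty (G ≃* SUZ) := by
  classical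
  set Nb : Finset Ω := Finset.univ.filter (· ∈ MulAction.orbit (MulAction.stabilizer G a) b) with hNb
  set Nc : Finset Ω := Finset.univ.filter (· ∈ MulAction.orbit (MulAction.stabilizer G a) c) with hNc
  have cb : Nb.card = 416 := by
    rw [← hb, ← Set.ncard_coe_finset]; congr 1; ext; simp [hNb]
  have cc : Nc.card = 1365 := by
    rw [← hc, ← Set.ncard_coe_finset]; congr 1; ext; simp [hNc]
  have horb_a : ∀ x, x ∈ MulAction.orbit (MulAction.stabilizer G a) a → x = a := by
    rintro _ ⟨g, rfl⟩; exact g.2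
  have ha_b : a ∉ Nb := fun h => by
    simp only [hNb, Finset.mem_filter, Finset.mem_univ, true_and] at h
    rw [← MulAction.orbit_eq_iff] at h
    have : MulAction.orbit (MulAction.stabilizer G a) b ⊆ {a} := h ▸ fun x hx => horb_a x hx
    have := Set.ncard_le_ncard this (Set.finite_singleton a)
    rw [hb, Set.ncard_singleton] at this; omega
  have ha_c : a ∉ Nc := fun h => by
    simp only [hNc, Finset.mem_filter, Finset.mem_univ, true_and] at h
    rw [← MulAction.orbit_eq_iff] at h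
    have : MulAction.orbit (MulAction.stabilizer G a) c ⊆ {a} := h ▸ fun x hx => horb_a x hx
    have := Set.ncard_le_ncard this (Set.finite_singleton a)
    rw [hc, Set.ncard_singleton] at this; omega
  have hbc : Disjoint Nb Nc := Finset.disjoint_left.mpr fun x h1 h2 => by
    simp only [hNb, hNc, Finset.mem_filter, Finset.mem_univ, true_and] at h1 h2
    rw [← MulAction.orbit_eq_iff] at h1 h2
    rw [← h1, h2, hc] at hb
    omega
  have htot : ∀ x : Ω, x = a ∨ x ∈ Nb ∨ x ∈ Nc := by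
    have hu : ({a} ∪ (Nb ∪ Nc) : Finset Ω) = Finset.univ := by
      refine Finset.eq_univ_of_card _ ?_
      rw [Finset.card_union_of_disjoint (by simp [ha_b, ha_c]), Finset.card_union_of_disjoint hbc,
        Finset.card_singleton, cb, cc, hΩ]
    intro x
    have := hu ▸ Finset.mem_univ x
    simpa using this
  have hsm : ∀ (g : G) (x : Ω), g • a = a → (g • x ∈ Nb ↔ x ∈ Nb) ∧ (g • x ∈ Nc ↔ x ∈ Nc) := by
    intro g x hg
    have : MulAction.orbit (MulAction.stabilizer G a) (g • x) = MulAction.orbit (MulAction.stabilizer G a) x :=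
      MulAction.orbit_smul (⟨g, hg⟩ : MulAction.stabilizer G a) x
    simp only [hNb, hNc, Finset.mem_filter, Finset.mem_univ, true_and, ← MulAction.orbit_eq_iff, this,
      and_self]
  -- orbits as translates
  have hNb_mem : ∀ x ∈ Nb, ∀ y ∈ Nb, ∃ g : G, g • a = a ∧ g • x = y := by
    intro x hx y hy
    simp only [hNb, Finset.mem_filter, Finset.mem_univ, true_and] at hx hy
    obtain ⟨g, rfl⟩ := hx
    obtain ⟨h, rfl⟩ := hy
    exact ⟨(h * g⁻¹ : MulAction.stabilizer G a), (h * g⁻¹).2, by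
      show (h * g⁻¹) • (g • b) = h • b
      rw [mul_smul, inv_smul_smul]⟩
  -- the base points
  obtain ⟨b', hb'N, hb'st⟩ : ∃ b' ∈ Nb, stOf φ b' = H47 := by
    have hcard := card_stOf φ b
    rw [hb] at hcard
    obtain ⟨p, hp, hst⟩ := sub416 (stOf_le φ b) (by omega)
    obtain ⟨k, hk, hkp⟩ := to_pN hp
    refine ⟨img φ ⟨k, hk⟩⁻¹ • b, ?_, ?_⟩
    · refine (hsm _ b (img_smul_a φ _)).1.mpr ?_
      simp [hNb]
    ext g
    rw [mem_stOf, H47, Subgroup.mem_inf, MulAction.mem_stabilizer_iff]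
    refine ⟨fun ⟨h, he⟩ => ⟨h, ?_⟩, fun ⟨h, he⟩ => ⟨h, ?_⟩⟩
    · have h2 : k * g * k⁻¹ ∈ stOf φ b := (mem_stOf φ).mpr ⟨mul_mem (mul_mem hk h) (inv_mem hk), by
        rw [show (⟨k * g * k⁻¹, _⟩ : Hp) = ⟨k, hk⟩ * ⟨g, h⟩ * ⟨k, hk⟩⁻¹ from rfl, img_mul, img_mul,
          mul_smul, mul_smul, he, ← mul_smul, ← img_mul, mul_inv_cancel]
        simp [img]⟩
      rw [hst, Subgroup.mem_inf, MulAction.mem_stabilizer_iff, Equiv.Perm.smul_def] at h2
      have h3 := h2.2
      rw [← hkp] at h3
      simp at h3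
      exact h3
    · have h2 : k * g * k⁻¹ ∈ stOf φ b := by
        rw [hst, Subgroup.mem_inf, MulAction.mem_stabilizer_iff, Equiv.Perm.smul_def]
        refine ⟨mul_mem (mul_mem hk h) (inv_mem hk), ?_⟩
        rw [← hkp]
        simpa [pN] using congrArg k he
      obtain ⟨h3, he3⟩ := (mem_stOf φ).mp h2
      rw [show (⟨k * g * k⁻¹, h3⟩ : Hp) = ⟨k, hk⟩ * ⟨g, h⟩ * ⟨k, hk⟩⁻¹ from rfl, img_mul, img_mul,
        mul_smul, mul_smul, smul_eq_iff_eq_inv_smul] at he3
      rw [he3, show img φ ⟨k, hk⟩⁻¹ = (img φ ⟨k, hk⟩)⁻¹ by simp [img]]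
  -- the orbital of the suborbit of 416 points
  let Rel : Ω → Ω → Prop := fun x y => ∃ g : G, g • a = x ∧ g • b' ∈ ({y} : Set Ω)
  let rw' : Ω → Finset Ω := fun x => Finset.univ.filter (Rel x)
  have hmem : ∀ x y, y ∈ rw' x ↔ Rel x y := by simp [rw']
  have hRinv : ∀ (g : G) x y, Rel (g • x) (g • y) ↔ Rel x y := by
    intro g x y
    refine ⟨fun ⟨h, h1, h2⟩ => ⟨g⁻¹ * h, ?_, ?_⟩, fun ⟨h, h1, h2⟩ => ⟨g * h, ?_, ?_⟩⟩
    · rw [mul_smul, h1, inv_smul_smul]
    · rw [Set.mem_singleton_iff] at h2 ⊢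
      rw [mul_smul, h2, inv_smul_smul]
    · rw [mul_smul, h1]
    · rw [Set.mem_singleton_iff] at h2 ⊢
      rw [mul_smul, h2]
  have hRa : ∀ y, Rel a y ↔ y ∈ Nb := by
    intro y
    refine ⟨fun ⟨g, h1, h2⟩ => ?_, fun hy => ?_⟩
    · rw [Set.mem_singleton_iff] at h2
      exact h2 ▸ (hsm g b' h1).1.mpr hb'N
    · obtain ⟨g, h1, h2⟩ := hNb_mem b' hb'N y hy
      exact ⟨g, h1, h2⟩
  have hrow_smul : ∀ (g : G) x, rw' (g • x) = (rw' x).image (fun y => g • y) := by
    intro g x
    ext y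
    rw [Finset.mem_image, hmem]
    refine ⟨fun h => ⟨g⁻¹ • y, ?_, smul_inv_smul g y⟩, ?_⟩
    · rw [hmem, ← hRinv g, smul_inv_smul]; exact h
    · rintro ⟨z, hz, rfl⟩
      exact (hRinv g x z).mpr ((hmem x z).mp hz)
  have hrow : ∀ x, (rw' x).card = 416 := by
    intro x
    obtain ⟨g, rfl⟩ := MulAction.exists_smul_eq G a x
    rw [hrow_smul, Finset.card_image_of_injective _ (MulAction.injective g), ← cb]
    congr 1
    ext y
    rw [hmem, hRa]
  have hcol : ∀ x, (Finset.univ.filter fun y => Rel y x).card = 416 := by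
    have hconst : ∀ x, (Finset.univ.filter fun y => Rel y x).card =
        (Finset.univ.filter fun y => Rel y a).card := by
      intro x
      obtain ⟨g, rfl⟩ := MulAction.exists_smul_eq G a x
      rw [← Finset.card_image_of_injective (Finset.univ.filter fun y => Rel y a) (MulAction.injective g)]
      congr 1
      ext y
      simp only [Finset.mem_image, Finset.mem_filter, Finset.mem_univ, true_and]
      refine ⟨fun h => ⟨g⁻¹ • y, ?_, smul_inv_smul g y⟩, ?_⟩
      · rw [← hRinv g, smul_inv_smul]; exact h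
      · rintro ⟨z, hz, rfl⟩
        exact (hRinv g z a).mpr hz
    have hdc := Finset.sum_card_bipartiteAbove_eq_sum_card_bipartiteBelow Rel
      (s := Finset.univ) (t := Finset.univ)
    simp only [Finset.bipartiteAbove, Finset.bipartiteBelow] at hdc
    rw [Finset.sum_congr rfl (fun x _ => hrow x), Finset.sum_congr rfl (fun x _ => hconst x),
      Finset.sum_const, Finset.sum_const, Finset.card_univ, hΩ, smul_eq_mul, smul_eq_mul] at hdc
    intro x
    rw [hconst x]
    exact (Nat.eq_of_mul_eq_mul_left (by norm_num) hdc).symm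
  have hirr : ∀ x, ¬ Rel x x := by
    intro x
    obtain ⟨g, rfl⟩ := MulAction.exists_smul_eq G a x
    rw [hRinv, hRa]
    exact ha_b
  have hsymm_a : ∀ y, Rel y a → y ∈ Nb := by
    set T := Finset.univ.filter fun y => Rel y a with hT
    have hTinv : ∀ (g : G), g • a = a → ∀ y ∈ T, g • y ∈ T := by
      intro g hg y hy
      simp only [hT, Finset.mem_filter, Finset.mem_univ, true_and] at hy ⊢
      rw [← hg]
      exact (hRinv g y a).mpr hy
    have haT : a ∉ T := by simp [hT, hirr]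
    have hTb : ∀ y ∈ T, y ∈ Nb := by
      by_contra hne
      push Not at hne
      obtain ⟨y, hy, hyb⟩ := hne
      rcases htot y with rfl | h | h
      · exact haT hy
      · exact hyb h
      · have hsub : Nc ⊆ T := by
          intro z hz
          simp only [hNc, Finset.mem_filter, Finset.mem_univ, true_and] at h hz
          obtain ⟨g, rfl⟩ := h
          obtain ⟨k, rfl⟩ := hz
          have := hTinv (k * g⁻¹ : MulAction.stabilizer G a) (k * g⁻¹).2 _ hy
          rwa [show ((k * g⁻¹ : MulAction.stabilizer G a) : G) • (g • c) = k • c by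
            show (k * g⁻¹) • (g • c) = k • c
            rw [mul_smul, inv_smul_smul]] at this
        have := Finset.card_le_card hsub
        rw [cc, hcol a] at this
        omega
    intro y hy
    exact hTb y (by simp [hT, hy])
  have hsymm : ∀ x y, Rel x y → Rel y x := by
    intro x y hxy
    obtain ⟨g, rfl⟩ := MulAction.exists_smul_eq G a y
    rw [← hRinv g⁻¹, inv_smul_smul] at hxy
    rw [← hRinv g⁻¹, inv_smul_smul, hRa]
    exact hsymm_a _ hxy
  -- the identification of the suborbit of 416 points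
  have hstN : ∀ k l : Hp, (k : Equiv.Perm Pt) pN = (l : Equiv.Perm Pt) pN → img φ k • b' = img φ l • b' := by
    intro k l hkl
    have : ((l⁻¹ * k : Hp) : Equiv.Perm Pt) ∈ stOf φ b' := by
      rw [hb'st]
      exact ⟨(l⁻¹ * k : Hp).2, by
        show ((l⁻¹ * k : Hp) : Equiv.Perm Pt) pN = pN
        rw [Subgroup.coe_mul, Equiv.Perm.mul_apply, hkl, InvMemClass.coe_inv, Equiv.Perm.coe_inv,
          Equiv.symm_apply_apply]⟩
    obtain ⟨h, he⟩ := (mem_stOf φ).mp this
    rw [show (⟨_, h⟩ : Hp) = l⁻¹ * k from rfl, img_mul, mul_smul] at he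
    rw [show img φ l⁻¹ = (img φ l)⁻¹ by simp [img], inv_smul_eq_iff] at he
    exact he
  let fN : Pt → Ω := fun i => if h : lab i = 2 then
    img φ ⟨(to_pN h).choose, (to_pN h).choose_spec.1⟩ • b' else a
  have fN_eq : ∀ (k : Hp), fN ((k : Equiv.Perm Pt) pN) = img φ k • b' := by
    intro k
    have h : lab ((k : Equiv.Perm Pt) pN : Pt) = 2 := (lab_inv k.2 pN).trans lab_pN
    simp only [fN, dif_pos h]
    exact hstN _ _ (to_pN h).choose_spec.2
  have fN_map : ∀ (k : Hp) (i : Pt), lab i = 2 → fN ((k : Equiv.Perm Pt) i) = img φ k • fN i := by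
    intro k i hi
    obtain ⟨l, hl, rfl⟩ := to_pN hi
    rw [show (k : Equiv.Perm Pt) (l pN) = ((k * ⟨l, hl⟩ : Hp) : Equiv.Perm Pt) pN from rfl, fN_eq,
      show l pN = ((⟨l, hl⟩ : Hp) : Equiv.Perm Pt) pN from rfl, fN_eq, img_mul, mul_smul]
  have fN_inj : ∀ i j : Pt, lab i = 2 → lab j = 2 → fN i = fN j → i = j := by
    intro i j hi hj he
    obtain ⟨k, hk, rfl⟩ := to_pN hi
    obtain ⟨l, hl, rfl⟩ := to_pN hj
    change fN (((⟨k, hk⟩ : Hp) : Equiv.Perm Pt) pN) = fN (((⟨l, hl⟩ : Hp) : Equiv.Perm Pt) pN) at he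
    rw [fN_eq, fN_eq] at he
    have : l⁻¹ * k ∈ stOf φ b' := (mem_stOf φ).mpr ⟨mul_mem (inv_mem hl) hk, by
      rw [show (⟨l⁻¹ * k, _⟩ : Hp) = ⟨l, hl⟩⁻¹ * ⟨k, hk⟩ from rfl, img_mul, mul_smul, he, ← mul_smul,
        ← img_mul, inv_mul_cancel]
      simp [img]⟩
    rw [hb'st, H47, Subgroup.mem_inf, MulAction.mem_stabilizer_iff, Equiv.Perm.smul_def,
      Equiv.Perm.mul_apply, Equiv.Perm.inv_eq_iff_eq] at this
    exact this.2
  have fN_Nb : ∀ i : Pt, lab i = 2 → fN i ∈ Nb := by
    intro i hi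
    obtain ⟨k, hk, rfl⟩ := to_pN hi
    rw [show k pN = ((⟨k, hk⟩ : Hp) : Equiv.Perm Pt) pN from rfl, fN_eq]
    exact (hsm _ _ (img_smul_a φ _)).1.mpr hb'N
  have hpre : ∀ x : Ω, ∀ S : Finset Pt, S = Finset.univ.filter (fun i : Pt => lab i = 2 ∧ Rel x (fN i)) →
      S ⊆ pts nMask ∧ Inv (stOf φ x) S ∧ S.card = (rw' x ∩ Nb).card := by
    intro x S hS
    subst hS
    refine ⟨fun i hi => mem_nMask.mpr (Finset.mem_filter.mp hi).2.1, ?_, ?_⟩
    · intro k hk i hi
      obtain ⟨hkH, hkx⟩ := (mem_stOf φ).mp hk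
      simp only [Finset.mem_filter, Finset.mem_univ, true_and] at hi ⊢
      refine ⟨(lab_inv hkH i).trans hi.1, ?_⟩
      rw [show k i = ((⟨k, hkH⟩ : Hp) : Equiv.Perm Pt) i from rfl, fN_map _ _ hi.1, ← hkx, hRinv]
      exact hi.2
    · refine Finset.card_bij (fun i _ => fN i) (fun i hi => ?_) (fun i hi j hj h => ?_) (fun y hy => ?_)
      · simp only [Finset.mem_filter, Finset.mem_univ, true_and] at hi
        exact Finset.mem_inter.mpr ⟨(hmem _ _).mpr hi.2, fN_Nb i hi.1⟩
      · simp only [Finset.mem_filter, Finset.mem_univ, true_and] at hi hj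
        exact fN_inj i j hi.1 hj.1 h
      · rw [Finset.mem_inter] at hy
        obtain ⟨g, hg, hgy⟩ := hNb_mem b' hb'N y hy.2
        obtain ⟨k, rfl⟩ := img_surj φ hg
        refine ⟨(k : Equiv.Perm Pt) pN, ?_, (fN_eq k).trans hgy⟩
        simp only [Finset.mem_filter, Finset.mem_univ, true_and]
        exact ⟨(lab_inv k.2 pN).trans lab_pN, by rw [fN_eq, hgy]; exact (hmem _ _).mp hy.1⟩
  -- the parameters
  have hlam : (rw' b' ∩ Nb).card ∈ [0, 315, 100, 415] := by
    obtain ⟨h1, h2, h3⟩ := hpre b' _ rfl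
    rw [← h3]
    refine sums47 (hb'st ▸ h2) h1 fun h => ?_
    simp only [Finset.mem_filter, Finset.mem_univ, true_and] at h
    have e : fN pN = b' := by
      have := fN_eq 1
      simpa [img] using this
    exact hirr b' (by have := h.2; rwa [show pt 47 (by norm_num) = pN from rfl, e] at this)
  set lam := (rw' b' ∩ Nb).card with hlamdef
  have hlamx : ∀ x ∈ Nb, (rw' x ∩ Nb).card = lam := by
    intro x hx
    obtain ⟨g, hg, rfl⟩ := hNb_mem b' hb'N x hx
    rw [hrow_smul, hlamdef, ← Finset.card_image_of_injective (rw' b' ∩ Nb) (MulAction.injective g)]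
    congr 1
    ext y
    simp only [Finset.mem_inter, Finset.mem_image]
    refine ⟨?_, ?_⟩
    · rintro ⟨⟨z, hz, rfl⟩, hy⟩
      exact ⟨z, ⟨hz, (hsm g z hg).1.mp hy⟩, rfl⟩
    · rintro ⟨z, ⟨hz, hz'⟩, rfl⟩
      exact ⟨⟨z, hz, rfl⟩, (hsm g z hg).1.mpr hz'⟩
  have hb'a : a ∈ rw' b' := (hmem _ _).mpr (hsymm a b' ((hRa b').mpr hb'N))
  have hout : ∀ x ∈ Nb, (rw' x ∩ Nc).card + lam + 1 = 416 := by
    intro x hx
    rw [← hlamx x hx, ← hrow x]
    have hu : rw' x = insert a ((rw' x ∩ Nc) ∪ (rw' x ∩ Nb)) := by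
      ext y
      simp only [Finset.mem_insert, Finset.mem_union, Finset.mem_inter]
      refine ⟨fun hy => ?_, ?_⟩
      · rcases htot y with h | h | h
        exacts [Or.inl h, Or.inr (Or.inr ⟨hy, h⟩), Or.inr (Or.inl ⟨hy, h⟩)]
      · rintro (rfl | h | h)
        exacts [(hmem _ _).mpr (hsymm _ x ((hRa x).mpr hx)), h.1, h.1]
    conv_rhs => rw [hu]
    rw [Finset.card_insert_of_notMem (by simp [ha_b, ha_c]),
      Finset.card_union_of_disjoint (Disjoint.mono Finset.inter_subset_right Finset.inter_subset_right hbc.symm)]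
  set mu := (rw' c ∩ Nb).card with hmudef
  have hmux : ∀ y ∈ Nc, (Nb.filter fun x => Rel x y).card = mu := by
    intro y hy
    have e : (Nb.filter fun x => Rel x y) = rw' y ∩ Nb := by
      ext x
      simp only [Finset.mem_filter, Finset.mem_inter, hmem]
      exact ⟨fun h => ⟨hsymm _ _ h.2, h.1⟩, fun h => ⟨h.2, hsymm _ _ h.1⟩⟩
    rw [e]
    simp only [hNc, Finset.mem_filter, Finset.mem_univ, true_and] at hy
    obtain ⟨g, rfl⟩ := hy
    show (rw' ((g : G) • c) ∩ Nb).card = mu
    rw [hrow_smul, hmudef, ← Finset.card_image_of_injective (rw' c ∩ Nb) (MulAction.injective (g : G))]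
    congr 1
    ext z
    simp only [Finset.mem_inter, Finset.mem_image]
    refine ⟨?_, ?_⟩
    · rintro ⟨⟨w, hw, rfl⟩, hz⟩
      exact ⟨w, ⟨hw, (hsm g w g.2).1.mp hz⟩, rfl⟩
    · rintro ⟨w, ⟨hw, hw'⟩, rfl⟩
      exact ⟨⟨w, hw, rfl⟩, (hsm g w g.2).1.mpr hw'⟩
  have hcount : 416 * (415 - lam) = 1365 * mu := by
    have hdc := Finset.sum_card_bipartiteAbove_eq_sum_card_bipartiteBelow Rel (s := Nb) (t := Nc)
    simp only [Finset.bipartiteAbove, Finset.bipartiteBelow] at hdc
    have e : ∀ x ∈ Nb, (Nc.filter (Rel x)).card = 415 - lam := by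
      intro x hx
      have h := hout x hx
      rw [show Nc.filter (Rel x) = rw' x ∩ Nc by ext y; simp [hmem, and_comm]]
      omega
    rw [Finset.sum_congr rfl e, Finset.sum_congr rfl hmux, Finset.sum_const, Finset.sum_const, cb, cc,
      smul_eq_mul, smul_eq_mul] at hdc
    exact hdc
  have h415 : lam ≠ 415 := by
    intro h
    set X := insert a Nb with hX
    have hXb : ∀ x ∈ Nb, rw' x ⊆ X := by
      intro x hx y hy
      have h0 := hout x hx
      rcases htot y with e | e | e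
      · rw [e]; exact Finset.mem_insert_self _ _
      · exact Finset.mem_insert_of_mem e
      · exfalso
        have : 0 < (rw' x ∩ Nc).card := Finset.card_pos.mpr ⟨y, Finset.mem_inter.mpr ⟨hy, e⟩⟩
        omega
    have hXx : ∀ x ∈ X, insert x (rw' x) = X := by
      intro x hx
      refine Finset.eq_of_subset_of_card_le ?_ ?_
      · refine Finset.insert_subset hx ?_
        rcases Finset.mem_insert.mp hx with rfl | hx
        · exact fun y hy => Finset.mem_insert_of_mem ((hRa y).mp ((hmem _ _).mp hy))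
        · exact hXb x hx
      · rw [Finset.card_insert_of_notMem (fun hh => hirr x ((hmem _ _).mp hh)), hrow,
          hX, Finset.card_insert_of_notMem ha_b, cb]
    let GX : Subgroup G :=
      { carrier := {g | X.image (fun y => g • y) = X}
        one_mem' := by simp
        mul_mem' := fun {g h} hg hh => by
          show X.image (fun y => (g * h) • y) = X
          conv_rhs => rw [← hg, ← hh, Finset.image_image]
          simp [Function.comp_def, mul_smul]
        inv_mem' := fun {g} hg => by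
          show X.image (fun y => g⁻¹ • y) = X
          conv_lhs => rw [← hg, Finset.image_image]
          simp [Function.comp_def] }
    have hmemGX : ∀ g : G, g • a ∈ X → g ∈ GX := by
      intro g hg
      show X.image (fun y => g • y) = X
      have h1 : insert a (rw' a) = X := hXx a (Finset.mem_insert_self _ _)
      conv_lhs => rw [← h1, Finset.image_insert, ← hrow_smul]
      exact hXx _ hg
    have horb : MulAction.orbit GX a = (X : Set Ω) := by
      ext x
      constructor
      · rintro ⟨⟨g, hg⟩, rfl⟩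
        have : g • a ∈ X.image (fun y => g • y) :=
          Finset.mem_image.mpr ⟨a, Finset.mem_insert_self _ _, rfl⟩
        rw [hg] at this
        exact this
      · intro hx
        obtain ⟨g, rfl⟩ := MulAction.exists_smul_eq G a x
        exact ⟨⟨g, hmemGX g hx⟩, rfl⟩
    have h1 : Nat.card GX = 417 * Nat.card (MulAction.stabilizer GX a) := by
      rw [← Subgroup.index_mul_card (MulAction.stabilizer GX a), MulAction.index_stabilizer, horb,
        Set.ncard_coe_finset, hX, Finset.card_insert_of_notMem ha_b, cb]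
    have h2 : Nat.card (MulAction.stabilizer GX a) = Nat.card (MulAction.stabilizer G a) :=
      Nat.card_congr
        { toFun := fun g => ⟨g.1.1, g.2⟩
          invFun := fun g => ⟨⟨g.1, hmemGX g.1 (g.2.symm ▸ Finset.mem_insert_self _ _)⟩, g.2⟩
          left_inv := fun _ => rfl
          right_inv := fun _ => rfl }
    have h3 : Nat.card G = 1782 * Nat.card (MulAction.stabilizer G a) := by
      rw [← Subgroup.index_mul_card (MulAction.stabilizer G a),
        MulAction.index_stabilizer_of_transitive, Nat.card_eq_fintype_card, hΩ]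
    have h4 := Subgroup.card_subgroup_dvd_card GX
    rw [h1, h2, h3] at h4
    have h5 : 417 ∣ 1782 := Nat.dvd_of_mul_dvd_mul_right Nat.card_pos h4
    norm_num at h5
  have hmu : lam = 100 ∧ mu = 96 := by
    simp only [List.mem_cons, List.not_mem_nil, or_false] at hlam
    rcases hlam with h | h | h | h <;> omega
  obtain ⟨hlam100, hmu96⟩ := hmu
  -- the suborbit of 1365 points
  obtain ⟨c', hc'N, hc'st⟩ : ∃ c' ∈ Nc, stOf φ c' = H1 := by
    have hcard := card_stOf φ c
    rw [hc] at hcard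
    rcases sub1365 (stOf_le φ c) (by omega) with ⟨p, hp, hst⟩ | hno
    · obtain ⟨k, hk, hkp⟩ := to_pF hp
      refine ⟨img φ ⟨k, hk⟩⁻¹ • c, ?_, ?_⟩
      · refine (hsm _ c (img_smul_a φ _)).2.mpr ?_
        simp [hNc]
      ext g
      rw [mem_stOf, H1, Subgroup.mem_inf, MulAction.mem_stabilizer_iff]
      refine ⟨fun ⟨h, he⟩ => ⟨h, ?_⟩, fun ⟨h, he⟩ => ⟨h, ?_⟩⟩
      · have h2 : k * g * k⁻¹ ∈ stOf φ c := (mem_stOf φ).mpr ⟨mul_mem (mul_mem hk h) (inv_mem hk), by
          rw [show (⟨k * g * k⁻¹, _⟩ : Hp) = ⟨k, hk⟩ * ⟨g, h⟩ * ⟨k, hk⟩⁻¹ from rfl, img_mul, img_mul,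
            mul_smul, mul_smul, he, ← mul_smul, ← img_mul, mul_inv_cancel]
          simp [img]⟩
        rw [hst, Subgroup.mem_inf, MulAction.mem_stabilizer_iff, Equiv.Perm.smul_def] at h2
        have h3 := h2.2
        rw [← hkp] at h3
        simp at h3
        exact h3
      · have h2 : k * g * k⁻¹ ∈ stOf φ c := by
          rw [hst, Subgroup.mem_inf, MulAction.mem_stabilizer_iff, Equiv.Perm.smul_def]
          refine ⟨mul_mem (mul_mem hk h) (inv_mem hk), ?_⟩
          rw [← hkp]
          simpa [pF] using congrArg k he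
        obtain ⟨h3, he3⟩ := (mem_stOf φ).mp h2
        rw [show (⟨k * g * k⁻¹, h3⟩ : Hp) = ⟨k, hk⟩ * ⟨g, h⟩ * ⟨k, hk⟩⁻¹ from rfl, img_mul, img_mul,
          mul_smul, mul_smul, smul_eq_iff_eq_inv_smul] at he3
        rw [he3, show img φ ⟨k, hk⟩⁻¹ = (img φ ⟨k, hk⟩)⁻¹ by simp [img]]
    · obtain ⟨h1, h2, h3⟩ := hpre c _ rfl
      exact absurd (h3.trans (hmudef.symm.trans hmu96)) (hno _ h1 h2)
  have hstF : ∀ k l : Hp, (k : Equiv.Perm Pt) pF = (l : Equiv.Perm Pt) pF ↔
      img φ k • c' = img φ l • c' := by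
    intro k l
    have key : ((l⁻¹ * k : Hp) : Equiv.Perm Pt) ∈ stOf φ c' ↔ img φ (l⁻¹ * k) • c' = c' :=
      ⟨fun h => ((mem_stOf φ).mp h).2, fun h => (mem_stOf φ).mpr ⟨(l⁻¹ * k : Hp).2, h⟩⟩
    rw [hc'st, H1, Subgroup.mem_inf, MulAction.mem_stabilizer_iff, Equiv.Perm.smul_def, img_mul,
      mul_smul] at key
    constructor
    · intro h
      have h2 := key.mp ⟨(l⁻¹ * k : Hp).2, by
        show ((l⁻¹ * k : Hp) : Equiv.Perm Pt) pF = pF
        rw [Subgroup.coe_mul, Equiv.Perm.mul_apply, h, InvMemClass.coe_inv, Equiv.Perm.coe_inv,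
          Equiv.symm_apply_apply]⟩
      rw [show img φ l⁻¹ = (img φ l)⁻¹ by simp [img], inv_smul_eq_iff] at h2
      exact h2
    · intro h
      have h2 := (key.mpr (by rw [h, show img φ l⁻¹ = (img φ l)⁻¹ by simp [img], inv_smul_smul])).2
      rw [Subgroup.coe_mul, Equiv.Perm.mul_apply, InvMemClass.coe_inv, Equiv.Perm.inv_eq_iff_eq] at h2
      exact h2
  -- the bijection
  let f : Pt → Ω := fun i => if h : lab i = 1 then
    img φ ⟨(to_pF h).choose, (to_pF h).choose_spec.1⟩ • c' else fN i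
  have f_pF : ∀ k : Hp, f ((k : Equiv.Perm Pt) pF) = img φ k • c' := by
    intro k
    have h : lab ((k : Equiv.Perm Pt) pF : Pt) = 1 := (lab_inv k.2 pF).trans lab_pF
    simp only [f, dif_pos h]
    exact (hstF _ _).mp (to_pF h).choose_spec.2
  have f_two : ∀ i : Pt, lab i = 2 → f i = fN i := fun i hi => dif_neg (by omega)
  have f_p0 : f p0 = a := by
    simp only [f, fN, dif_neg (show ¬ lab p0 = 1 by rw [lab_p0]; omega),
      dif_neg (show ¬ lab p0 = 2 by rw [lab_p0]; omega)]
  have f_map : ∀ (k : Hp) (i : Pt), f ((k : Equiv.Perm Pt) i) = img φ k • f i := by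
    intro k i
    rcases lab_cases i with rfl | hl | hl
    · rw [show (k : Equiv.Perm Pt) p0 = p0 from Hp_zero k.2, f_p0, img_smul_a]
    · obtain ⟨l, hl', rfl⟩ := to_pF hl
      rw [show (k : Equiv.Perm Pt) (l pF) = ((k * ⟨l, hl'⟩ : Hp) : Equiv.Perm Pt) pF from rfl, f_pF,
        show l pF = ((⟨l, hl'⟩ : Hp) : Equiv.Perm Pt) pF from rfl, f_pF, img_mul, mul_smul]
    · rw [f_two _ ((lab_inv k.2 i).trans hl), f_two _ hl, fN_map _ _ hl]
  have f_class : ∀ i : Pt, (lab i = 1 → f i ∈ Nc) ∧ (lab i = 2 → f i ∈ Nb) := by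
    intro i
    refine ⟨fun hl => ?_, fun hl => f_two i hl ▸ fN_Nb i hl⟩
    obtain ⟨k, hk, rfl⟩ := to_pF hl
    rw [show k pF = ((⟨k, hk⟩ : Hp) : Equiv.Perm Pt) pF from rfl, f_pF]
    exact (hsm _ _ (img_smul_a φ _)).2.mpr hc'N
  have f_inj : Function.Injective f := by
    intro i j he
    rcases lab_cases i with rfl | hi | hi <;> rcases lab_cases j with rfl | hj | hj
    · rfl
    · exact absurd ((he.symm.trans f_p0) ▸ (f_class j).1 hj) ha_c
    · exact absurd ((he.symm.trans f_p0) ▸ (f_class j).2 hj) ha_b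
    · exact absurd ((he.trans f_p0) ▸ (f_class i).1 hi) ha_c
    · obtain ⟨k, hk, rfl⟩ := to_pF hi
      obtain ⟨l, hl, rfl⟩ := to_pF hj
      change f (((⟨k, hk⟩ : Hp) : Equiv.Perm Pt) pF) = f (((⟨l, hl⟩ : Hp) : Equiv.Perm Pt) pF) at he
      rw [f_pF, f_pF] at he
      exact (hstF _ _).mpr he
    · exact absurd ((f_class i).1 hi) (Finset.disjoint_left.mp hbc (he ▸ (f_class j).2 hj))
    · exact absurd ((he.trans f_p0) ▸ (f_class i).2 hi) ha_b
    · exact absurd ((f_class j).1 hj) (Finset.disjoint_left.mp hbc (he ▸ (f_class i).2 hi))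
    · rw [f_two i hi, f_two j hj] at he
      exact fN_inj i j hi hj he
  have f_bij : Function.Bijective f :=
    (Fintype.bijective_iff_injective_and_card f).mpr ⟨f_inj, by rw [Fintype.card_fin, hΩ, N_eq]⟩
  let fe : Pt ≃ Ω := Equiv.ofBijective f f_bij
  let R : Pt → Pt → Prop := fun i j => Rel (f i) (f j)
  have f_N : ∀ j, f j ∈ Nb ↔ lab j = 2 := by
    intro j
    refine ⟨fun h => ?_, fun h => (f_class j).2 h⟩
    rcases lab_cases j with rfl | hl | hl
    · exact absurd (f_p0 ▸ h) ha_b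
    · exact absurd ((f_class j).1 hl) (Finset.disjoint_left.mp hbc h)
    · exact hl
  have hcardR : ∀ i, (row R i).card = 416 := by
    intro i
    rw [← hrow (f i)]
    refine Finset.card_bij (fun j _ => f j) (fun j hj => (hmem _ _).mpr (mem_row.mp hj))
      (fun j _ l _ h => f_inj h) (fun y hy => ?_)
    obtain ⟨j, rfl⟩ := f_bij.2 y
    exact ⟨j, mem_row.mpr ((hmem _ _).mp hy), rfl⟩
  have hinterR : ∀ i, (row R i ∩ pts nMask).card = (rw' (f i) ∩ Nb).card := by
    intro i
    refine Finset.card_bij (fun j _ => f j) (fun j hj => ?_) (fun j _ l _ h => f_inj h) (fun y hy => ?_)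
    · rw [Finset.mem_inter] at hj ⊢
      exact ⟨(hmem _ _).mpr (mem_row.mp hj.1), (f_N j).mpr (mem_nMask.mp hj.2)⟩
    · obtain ⟨j, rfl⟩ := f_bij.2 y
      rw [Finset.mem_inter] at hy
      exact ⟨j, Finset.mem_inter.mpr ⟨mem_row.mpr ((hmem _ _).mp hy.1),
        mem_nMask.mpr ((f_N j).mp hy.2)⟩, rfl⟩
  have hgood : Good R := by
    refine ⟨fun k hk i j => ?_, fun i j => hsymm _ _, fun i => hirr _, fun j => ?_, hcardR, ?_, ?_⟩
    · show Rel (f (((⟨k, hk⟩ : Hp) : Equiv.Perm Pt) i)) (f (((⟨k, hk⟩ : Hp) : Equiv.Perm Pt) j)) ↔ _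
      rw [f_map, f_map]
      exact hRinv _ _ _
    · show Rel (f p0) (f j) ↔ _
      rw [f_p0, hRa, f_N]
    · rw [hinterR, f_two _ lab_pN]
      have : fN pN = b' := by simpa [img] using fN_eq 1
      rw [this, ← hlamdef, hlam100]
    · rw [hinterR]
      have : f pF = c' := by simpa [img] using f_pF 1
      rw [this, ← hmu96, ← hmux c' hc'N]
      congr 1
      ext x
      simp only [Finset.mem_filter, Finset.mem_inter, hmem]
      exact ⟨fun h => ⟨h.2, hsymm _ _ h.1⟩, fun h => ⟨hsymm _ _ h.2, h.1⟩⟩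
  have heqR : ∀ i j, R i j ↔ R0 i j := hgood.unique good_R0
  -- transport
  let ψ : Equiv.Perm Ω ≃* Equiv.Perm Pt := Equiv.permCongrHom fe.symm
  have hψ : ∀ (g : Equiv.Perm Ω) (i : Pt), ψ g i = fe.symm (g (fe i)) := fun _ _ => rfl
  set G' := G.map ψ.toMonoidHom with hG'
  have hG'le : G' ≤ autR := by
    rintro _ ⟨g, hg, rfl⟩ i j
    show R0 (ψ g i) (ψ g j) ↔ R0 i j
    rw [← heqR, ← heqR]
    show Rel (f (fe.symm (g (fe i)))) (f (fe.symm (g (fe j)))) ↔ Rel (f i) (f j)
    simp only [show ∀ x, f (fe.symm x) = x from fun x => fe.apply_symm_apply x]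
    exact hRinv ⟨g, hg⟩ (fe i) (fe j)
  have hHpG : Hp ≤ G' := by
    intro k hk
    refine ⟨_, (img φ ⟨k, hk⟩).2, ?_⟩
    refine Equiv.ext fun i => fe.injective ?_
    show fe (fe.symm _) = fe (k i)
    rw [fe.apply_symm_apply]
    exact (f_map ⟨k, hk⟩ i).symm
  have hG'card : Nat.card G' = Nat.card SUZ := by
    rw [hG', ← Nat.card_congr (Subgroup.equivMapOfInjective G _ ψ.injective).toEquiv,
      ← Subgroup.index_mul_card (MulAction.stabilizer G a), MulAction.index_stabilizer_of_transitive,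
      Nat.card_eq_fintype_card, hΩ, ← Nat.card_congr φ.toEquiv, card_Hp, card_SUZ]
  have hidx : SUZ.relIndex autR ≤ 2 ∧ SUZ.relIndex autR ≠ 0 := by
    have h1 := Subgroup.card_mul_index (SUZ.subgroupOf autR)
    rw [Nat.card_congr (Subgroup.subgroupOfEquivOfLe SUZ_le).toEquiv, card_SUZ] at h1
    change 448345497600 * SUZ.relIndex autR = _ at h1
    have h2 := card_autR_le
    rw [← h1] at h2
    refine ⟨by omega, fun h0 => ?_⟩
    rw [h0, mul_zero] at h1
    exact absurd h1.symm Nat.card_pos.ne'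
  have hrel : SUZ.relIndex G' ≤ 2 :=
    (Subgroup.relIndex_le_of_le_right hG'le hidx.2).trans hidx.1
  have hSUZeq : G' = SUZ := by
    set S := SUZ ⊓ G' with hS
    have hcardS : Nat.card G' ≤ 2 * Nat.card S := by
      have h1 := Subgroup.card_mul_index (S.subgroupOf G')
      rw [Nat.card_congr (Subgroup.subgroupOfEquivOfLe (inf_le_right : S ≤ G')).toEquiv] at h1
      change Nat.card S * S.relIndex G' = _ at h1
      rw [hS, Subgroup.inf_relIndex_right] at h1
      rw [← hS] at h1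
      rw [← h1]
      exact le_trans (Nat.mul_le_mul_left _ hrel) (by rw [mul_comm])
    rcases CosetCertSuzSimple.maximal (S.comap act0) (by
      rw [sub_eq_Hg]
      intro k hk
      exact ⟨⟨k, rfl⟩, hHpG ⟨k, hk, rfl⟩⟩) with h | h
    · exfalso
      have hle : S ≤ Hp := by
        intro g hg
        obtain ⟨k, rfl⟩ := hg.1
        have : k ∈ S.comap act0 := hg
        rw [h, sub_eq_Hg] at this
        exact ⟨k, this, rfl⟩
      have := Subgroup.card_le_of_le hle
      rw [hG'card, card_SUZ] at hcardS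
      rw [card_Hp] at this
      omega
    · have hle : SUZ ≤ G' := by
        rintro _ ⟨k, rfl⟩
        have : k ∈ S.comap act0 := h ▸ Subgroup.mem_top k
        exact this.2
      exact (Subgroup.eq_of_le_of_card_ge hle hG'card.le).symm
  exact ⟨(Subgroup.equivMapOfInjective G _ ψ.injective).trans (MulEquiv.subgroupCongr hSUZeq)⟩

end Cfsg.Agent.SuzRankThree84
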