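import Cfsg.Agent.Lib.SuzRankThree84Class

/-!
The point stabiliser in Suz: the classification of its subgroups of index 1365, and the invariant
subsets of the two point stabilisers on the suborbits.
-/

set_option autoImplicit false
set_option maxRecDepth 100000
set_option linter.style.haveILetI false

namespace Cfsg.Agent.SuzRankThree84

open Cfsg.Agent.CosetCertCore Cfsg.Agent.CosetCertTable Cfsg.Agent.CosetCertPres

theorem pts_zero : pts 0 = ∅ := by
  ext i
  simp [mem_pts]

theorem unique_part {gens : List (List Nat)} {all : List (Nat × List Nat)}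
    (hok : partsOK gens all = true) {K : Subgroup (Equiv.Perm Pt)} (hK : ∀ w ∈ gens, el w ∈ K)
    {O : Finset Pt} (hO : Inv K O) {q : Nat × List Nat} {qs : List (Nat × List Nat)}
    (hmem : ∀ x ∈ q :: qs, x ∈ all) {acc D : Nat} (hc : coverOK acc (q :: qs) D = true)
    (hsub : O ⊆ pts D \ pts acc) (hcard : O.card = partSize q)
    (hne : partSize q ∉ sums (qs.map partSize)) : O = pts (partMask q) := by
  have hqa := hmem q List.mem_cons_self
  rcases (O ∩ pts (partMask q)).eq_empty_or_nonempty with h | ⟨i, hi⟩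
  · exfalso
    rw [coverOK, Bool.and_eq_true] at hc
    obtain ⟨-, hsum⟩ :=
      card_mem_sums hok hK hO qs _ D (fun x hx => hmem x (List.mem_cons_of_mem _ hx)) hc.2
    refine hne (hcard ▸ ?_)
    have heq : O ∩ (pts D \ pts (acc ||| partMask q)) = O := by
      refine Finset.inter_eq_left.mpr fun j hj => ?_
      have hj' := Finset.mem_sdiff.mp (hsub hj)
      rw [Finset.mem_sdiff, pts_or, Finset.mem_union]
      refine ⟨hj'.1, fun hh => hh.elim hj'.2 fun hq => ?_⟩
      have : j ∈ (∅ : Finset Pt) := h ▸ Finset.mem_inter.mpr ⟨hj, hq⟩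
      exact absurd this (Finset.notMem_empty j)
    rw [heq] at hsum
    exact hsum
  · rw [Finset.mem_inter] at hi
    exact (Finset.eq_of_subset_of_card_le (part_sub hok hK hqa hO hi.1 hi.2)
      (by rw [hcard, (part_spec hok hK hqa).2.2])).symm

/-! ### A 2-subgroup -/

/-- Its generators. -/
def uW (k : Nat) : List Nat := (uData.getD k ([], [], [])).1

/-- Products of generators. -/
def uProd (t : List Nat) : List Nat := (t.map uW).flatten

/-- A step of the chain. -/
noncomputable def uOK (i : Nat) : Bool :=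
  ok6 (uW i) && Nat.beq (app (uW i) 1) 1 &&
    (uData.getD i ([], [], [])).2.1.all (fun k => Nat.blt k i) &&
    Nat.beq (fp (uW i ++ uW i)) (fp (uProd (uData.getD i ([], [], [])).2.1)) &&
    allFrom (fun j => ((uData.getD i ([], [], [])).2.2.getD j []).all (fun k => Nat.blt k i) &&
      Nat.beq (fp ((uW i).reverse ++ uW j ++ uW i))
        (fp (uProd ((uData.getD i ([], [], [])).2.2.getD j [])))) i 0

theorem u_chk : allFrom uOK 12 0 = true := by decide +kernel

/-- The first generators. -/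
noncomputable def uGrp (i : Nat) : Subgroup (Equiv.Perm Pt) :=
  Subgroup.closure {g | ∃ k < i, el (uW k) = g}

theorem uW_ok {k : Nat} (hk : k < 12) : ok6 (uW k) = true ∧ app (uW k) 1 = 1 := by
  have h := (allFrom_iff _ _ _).mp u_chk k (Nat.zero_le _) (by omega)
  simp only [uOK, Bool.and_eq_true, Nat.beq_eq] at h
  exact ⟨h.1.1.1.1, h.1.1.1.2⟩

theorem uGrp_le : uGrp 12 ≤ Hp ⊓ MulAction.stabilizer (Equiv.Perm Pt) (pt 1 (by norm_num)) := by
  rw [uGrp, Subgroup.closure_le]
  rintro _ ⟨k, hk, rfl⟩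
  exact ⟨el_mem (uW_ok hk).1, Fin.ext (by
    show ((el (uW k) (pt 1 _) : Pt) : Nat) = 1
    rw [el_app (ok7_of_ok6 (uW_ok hk).1)]
    exact (uW_ok hk).2)⟩

theorem uProd_mem {i : Nat} {t : List Nat} (h : ∀ k ∈ t, k < i) : el (uProd t) ∈ uGrp i := by
  refine el_flatten_mem fun w hw => ?_
  obtain ⟨k, hk, rfl⟩ := List.mem_map.mp hw
  exact Subgroup.subset_closure ⟨k, h k hk, rfl⟩

theorem uProd_ok {i : Nat} (hi : i ≤ 12) {t : List Nat} (h : ∀ k ∈ t, k < i) : ok6 (uProd t) = true := by
  refine ok6_flatten fun w hw => ?_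
  obtain ⟨k, hk, rfl⟩ := List.mem_map.mp hw
  exact (uW_ok ((h k hk).trans_le hi)).1

theorem uGrp_two : ∀ i, i ≤ 12 → ∀ g ∈ uGrp i, ∃ n, g ^ (2 ^ n) = 1
  | 0, _, g, hg => by
    have h0 : uGrp 0 = ⊥ := by simp [uGrp]
    rw [h0, Subgroup.mem_bot] at hg
    exact ⟨0, by simp [hg]⟩
  | i + 1, hi, g, hg => by
    have hi' : i < 12 := hi
    have h := (allFrom_iff _ _ _).mp u_chk i (Nat.zero_le _) (by omega)
    simp only [uOK, Bool.and_eq_true, Nat.beq_eq, List.all_eq_true, Nat.blt_eq] at h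
    obtain ⟨⟨⟨⟨hu, -⟩, hsl⟩, hsq⟩, hcj⟩ := h
    set u := el (uW i) with hu'
    have hsq' : u * u ∈ uGrp i := by
      rw [hu', ← el_append, el_eq (ok6_append.mpr ⟨hu, hu⟩) (uProd_ok (le_of_lt hi') hsl) hsq]
      exact uProd_mem hsl
    have hn1 : ∀ v ∈ uGrp i, u⁻¹ * v * u ∈ uGrp i := by
      intro v hv
      induction hv using Subgroup.closure_induction with
      | mem v hv =>
        obtain ⟨j, hj, rfl⟩ := hv
        have hj' := (allFrom_iff _ _ _).mp hcj j (Nat.zero_le _) (by omega)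
        simp only [Bool.and_eq_true, Nat.beq_eq, List.all_eq_true, Nat.blt_eq] at hj'
        rw [hu', ← el_reverse, ← el_append, ← el_append, el_eq (ok6_append.mpr ⟨ok6_append.mpr
          ⟨by simpa [ok6] using hu, (uW_ok (hj.trans hi')).1⟩, hu⟩) (uProd_ok (le_of_lt hi') hj'.1) hj'.2]
        exact uProd_mem hj'.1
      | one => simp
      | mul a b _ _ ha hb =>
        have := mul_mem ha hb
        simpa [mul_assoc] using this
      | inv a _ ha =>
        have := inv_mem ha
        simpa [mul_assoc] using this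
    have hn2 : ∀ v ∈ uGrp i, u * v * u⁻¹ ∈ uGrp i := by
      intro v hv
      have := mul_mem (mul_mem hsq' (hn1 v hv)) (inv_mem hsq')
      simpa [mul_assoc] using this
    have key : ∀ x ∈ uGrp (i + 1), x ∈ uGrp i ∨ x * u⁻¹ ∈ uGrp i := by
      intro x hx
      induction hx using Subgroup.closure_induction with
      | mem x hx =>
        obtain ⟨k, hk, rfl⟩ := hx
        rcases Nat.lt_succ_iff_lt_or_eq.mp hk with hk | rfl
        · exact Or.inl (Subgroup.subset_closure ⟨k, hk, rfl⟩)
        · exact Or.inr (by simp [hu'])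
      | one => exact Or.inl (one_mem _)
      | mul a b _ _ ha hb =>
        rcases ha with ha | ha <;> rcases hb with hb | hb
        · exact Or.inl (mul_mem ha hb)
        · exact Or.inr (by simpa [mul_assoc] using mul_mem ha hb)
        · right
          have := mul_mem ha (hn2 b hb)
          simpa [mul_assoc] using this
        · left
          have := mul_mem (mul_mem ha (hn2 _ hb)) hsq'
          simpa [mul_assoc] using this
      | inv a _ ha =>
        rcases ha with ha | ha
        · exact Or.inl (inv_mem ha)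
        · right
          have := mul_mem (hn1 _ (inv_mem ha)) (inv_mem hsq')
          simpa [mul_assoc] using this
    have hg2 : g * g ∈ uGrp i := by
      rcases key g hg with h | h
      · exact mul_mem h h
      · have := mul_mem (mul_mem h (hn2 _ h)) hsq'
        simpa [mul_assoc] using this
    obtain ⟨n, hn⟩ := uGrp_two i (le_of_lt hi') _ hg2
    exact ⟨n + 1, by rw [pow_succ', pow_mul, pow_two, hn]⟩

theorem uGrp_pgroup : IsPGroup 2 (uGrp 12) := fun g => by
  obtain ⟨n, hn⟩ := uGrp_two 12 le_rfl g.1 g.2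
  exact ⟨n, Subtype.ext hn⟩

/-! ### Subgroups of index 1365 -/

/-- The mask of the five points. -/
def ellMask : Nat := (1 <<< 1) ||| partMask (pU.getD 0 (0, []))

/-- The five points. -/
noncomputable def Ell : Finset Pt := pts ellMask

theorem pU_ok : partsOK ((List.range 12).map uW) pU = true ∧ coverOK (1 <<< 1) pU fMask = true ∧
    pU.map partSize = [4, 16, 64, 256, 1024] ∧ 0 < pU.length := by decide +kernel

theorem pU_gens : ∀ w ∈ (List.range 12).map uW, el w ∈ uGrp 12 := by
  intro w hw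
  obtain ⟨k, hk, rfl⟩ := List.mem_map.mp hw
  exact Subgroup.subset_closure ⟨k, List.mem_range.mp hk, rfl⟩

theorem u_sums : ∀ s ∈ sums [4, 16, 64, 256, 1024], (s + 1) ∣ 184320 → s = 0 ∨ s = 4 := by
  decide +kernel

theorem p1F_ok : partsOK g1 p1F = true ∧ coverOK (1 <<< 1) p1F fMask = true ∧
    p1F.map partSize = [20, 320, 1024] ∧ (g1.all ok6 && g1.all fun w => Nat.beq (app w 1) 1) = true ∧
    Nat.testBit (partMask (p1F.getD 0 (0, []))) (pU.getD 0 (0, [])).1 = true := by decide +kernel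

theorem g1_mem : ∀ w ∈ g1, el w ∈ Hp ⊓ MulAction.stabilizer (Equiv.Perm Pt) (pt 1 (by norm_num)) := by
  intro w hw
  have h := p1F_ok.2.2.2.1
  simp only [Bool.and_eq_true, List.all_eq_true, Nat.beq_eq] at h
  exact ⟨el_mem (h.1 w hw), Fin.ext (by
    show ((el w (pt 1 _) : Pt) : Nat) = 1
    rw [el_app (ok7_of_ok6 (h.1 w hw))]
    exact h.2 w hw)⟩

/-- The setwise stabiliser of the five points. -/
noncomputable def lineStab : Subgroup (Equiv.Perm Pt) where
  carrier := {g | g ∈ Hp ∧ ∀ i, g i ∈ Ell ↔ i ∈ Ell}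
  one_mem' := ⟨one_mem _, fun _ => Iff.rfl⟩
  mul_mem' := fun {a b} ha hb => ⟨mul_mem ha.1 hb.1, fun i => (ha.2 (b i)).trans (hb.2 i)⟩
  inv_mem' := fun {a} ha => ⟨inv_mem ha.1, fun i => by
    have := ha.2 (a⁻¹ i)
    rw [Equiv.Perm.coe_inv, Equiv.apply_symm_apply] at this
    exact this.symm⟩

theorem ell_facts : Ell.card = 5 ∧ ∃ a : Pt, a ∈ Ell ∧ (a : Nat) = (pU.getD 0 (0, [])).1 ∧
    pt 1 (by norm_num) ∈ Ell ∧ a ≠ pt 1 (by norm_num) := by
  have h : popc ellMask = 5 ∧ (pU.getD 0 (0, [])).1 < 1782 ∧ (pU.getD 0 (0, [])).1 ≠ 1 ∧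
      Nat.testBit ellMask (pU.getD 0 (0, [])).1 = true ∧ Nat.testBit ellMask 1 = true := by
    decide +kernel
  obtain ⟨hc, ha, hne, ht, h1⟩ := h
  refine ⟨(popc_eq _).symm.trans hc, pt _ ha, mem_pts.mpr ht, rfl, mem_pts.mpr h1,
    fun e => hne (congrArg Fin.val e)⟩

theorem card_lineStab_le : Nat.card lineStab ≤ 184320 := by
  obtain ⟨hE, a, haE, hav, h1E, ha1⟩ := ell_facts
  have h := card_orb_mul lineStab (pt 1 (by norm_num))
  have hle : (orb lineStab (pt 1 (by norm_num))).card ≤ 5 := by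
    rw [← hE]
    refine Finset.card_le_card fun q hq => ?_
    obtain ⟨k, hk, rfl⟩ := mem_orb.mp hq
    exact (hk.2 _).mpr h1E
  set S1 := lineStab ⊓ MulAction.stabilizer (Equiv.Perm Pt) (pt 1 (by norm_num)) with hS1
  have h2 := card_orb_mul S1 a
  have hle2 : (orb S1 a).card ≤ 4 := by
    refine (Finset.card_le_card (t := Ell.erase (pt 1 (by norm_num))) fun q hq => ?_).trans (by
      rw [Finset.card_erase_of_mem h1E, hE])
    obtain ⟨k, hk, rfl⟩ := mem_orb.mp hq
    refine Finset.mem_erase.mpr ⟨fun e => ha1 (k.injective ?_), (hk.1.2 _).mpr haE⟩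
    rw [e]
    exact hk.2.symm
  set H1 := Hp ⊓ MulAction.stabilizer (Equiv.Perm Pt) (pt 1 (by norm_num)) with hH1
  have h3 := card_orb_mul H1 a
  have hge : 20 ≤ (orb H1 a).card := by
    obtain ⟨hok, -, hsz, -, hbit⟩ := p1F_ok
    have hlen : 0 < p1F.length := by
      have := congrArg List.length hsz
      simp at this; omega
    have hq : p1F.getD 0 (0, []) ∈ p1F := by
      rw [List.getD_eq_getElem _ _ hlen]; exact List.getElem_mem _
    have hs := part_sub hok g1_mem hq (inv_orb H1 a) (mem_orb_self _ _)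
      (mem_pts.mpr (hav ▸ hbit))
    refine le_trans (le_of_eq ?_) (Finset.card_le_card hs)
    rw [(part_spec hok g1_mem hq).2.2, List.getD_eq_getElem _ _ hlen]
    have := List.getElem_map (f := partSize) (l := p1F) (i := 0) (h := by simpa using hlen)
    simp only [hsz] at this
    exact this
  have hc1 : Nat.card H1 = 184320 := card_stab_f root_facts.2.2.1
  have hsub : Nat.card ↥(S1 ⊓ MulAction.stabilizer (Equiv.Perm Pt) a) ≤
      Nat.card ↥(H1 ⊓ MulAction.stabilizer (Equiv.Perm Pt) a) :=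
    Subgroup.card_le_of_le fun g hg => ⟨⟨hg.1.1.1, hg.1.2⟩, hg.2⟩
  have h4 := Nat.mul_le_mul hge (le_refl (Nat.card ↥(H1 ⊓ MulAction.stabilizer (Equiv.Perm Pt) a)))
  rw [h3, hc1] at h4
  have h5 := Nat.mul_le_mul hle2 hsub
  rw [h2] at h5
  have h6 := Nat.mul_le_mul hle (le_refl (Nat.card S1))
  rw [h] at h6
  omega

theorem pL_ok : partsOK gL pL = true ∧ coverOK 0 pL nMask = true ∧
    pL.map partSize = [160, 256] ∧ gL.all ok6 = true ∧
    (gL.all fun w => allFrom (fun i => Nat.testBit ellMask i == Nat.testBit ellMask (app w i)) 1782 0)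
      = true := by decide +kernel

theorem gL_mem : ∀ w ∈ gL, el w ∈ lineStab := by
  intro w hw
  obtain ⟨-, -, -, hok, hinv⟩ := pL_ok
  have hw6 := (List.all_eq_true.mp hok) w hw
  refine ⟨el_mem hw6, fun i => ?_⟩
  have h := (allFrom_iff _ _ _).mp ((List.all_eq_true.mp hinv) w hw) i (Nat.zero_le _)
    (by simpa using pt_lt i)
  rw [Ell, mem_pts, mem_pts, eq_of_beq h, el_app (ok7_of_ok6 hw6)]

/-- A subgroup of index 1365 fixes a point of its suborbit, or has no invariant set of 96 points. -/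
theorem sub1365 {J : Subgroup (Equiv.Perm Pt)} (hJ : J ≤ Hp) (hc : Nat.card J = 184320) :
    (∃ p : Pt, lab p = 1 ∧ J = Hp ⊓ MulAction.stabilizer (Equiv.Perm Pt) p) ∨
      ∀ O : Finset Pt, O ⊆ pts nMask → Inv J O → O.card ≠ 96 := by
  haveI : Fact (Nat.Prime 2) := ⟨Nat.prime_two⟩
  obtain ⟨h, hh, hconj⟩ := exists_conj (uGrp_le.trans inf_le_left) hJ uGrp_pgroup 1365
    (by rw [hc, card_Hp]) (by norm_num)
  set J' := cnj h J with hJ'
  have hJ'le : J' ≤ Hp := cnj_le hh hJ
  have hJ'c : Nat.card J' = 184320 := (card_cnj h J).trans hc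
  have hU : uGrp 12 ≤ J' := fun g hg => mem_cnj.mpr (hconj g hg)
  have hgens : ∀ w ∈ (List.range 12).map uW, el w ∈ J' := fun w hw => hU (pU_gens w hw)
  obtain ⟨hok, hcov, hsz, hlen⟩ := pU_ok
  have h1 : lab (pt 1 (by norm_num) : Pt) = 1 := root_facts.2.2.1
  set O := orb J' (pt 1 (by norm_num)) with hO
  obtain ⟨-, hsum⟩ := card_mem_sums hok hgens (inv_orb J' _) _ _ _ (fun q hq => hq) hcov
  have hOF : O ⊆ pts fMask := fun q hq => mem_fMask.mpr ((orb_sub hJ'le _ q hq).trans h1)
  have heq : O ∩ (pts fMask \ pts (1 <<< 1)) = O.erase (pt 1 (by norm_num)) := by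
    rw [pts_single 1 (by norm_num)]
    ext q
    simp only [Finset.mem_inter, Finset.mem_sdiff, Finset.mem_singleton, Finset.mem_erase]
    exact ⟨fun h => ⟨h.2.2, h.1⟩, fun h => ⟨h.2, hOF h.2, h.1⟩⟩
  rw [← hO, heq, hsz, Finset.card_erase_of_mem (show pt 1 (by norm_num) ∈ O from mem_orb_self _ _)] at hsum
  have hpos : 0 < O.card := Finset.card_pos.mpr ⟨_, mem_orb_self _ _⟩
  have hdvd : (O.card - 1 + 1) ∣ 184320 := by
    rw [Nat.sub_add_cancel hpos]
    exact ⟨_, (hJ'c ▸ card_orb_mul J' (pt 1 (by norm_num))).symm⟩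
  rcases u_sums _ hsum hdvd with h0 | h4
  · left
    have hfix : Fix J' (pt 1 (by norm_num)) := by
      intro g hg
      obtain ⟨q, hq⟩ := Finset.card_eq_one.mp (show O.card = 1 by omega)
      have e1 : g (pt 1 (by norm_num)) ∈ O := mem_orb.mpr ⟨g, hg, rfl⟩
      have e2 : pt 1 (by norm_num) ∈ O := mem_orb_self _ _
      rw [hq, Finset.mem_singleton] at e1 e2
      rw [e1, e2]
    have hp : lab (h⁻¹ (pt 1 (by norm_num)) : Pt) = 1 := (lab_inv (inv_mem hh) _).trans h1
    refine ⟨h⁻¹ (pt 1 (by norm_num)), hp, eq_stab hJ (fun g hg => ?_) (by rw [card_stab_f hp, hc])⟩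
    have := hfix (h * g * h⁻¹) (mem_cnj.mpr (by simpa [mul_assoc] using hg))
    rw [Equiv.Perm.mul_apply, Equiv.Perm.mul_apply] at this
    exact (Equiv.Perm.eq_inv_iff_eq).mpr this
  · right
    have hOE : O = Ell := by
      obtain ⟨q, qs, hpU⟩ : ∃ q qs, pU = q :: qs := by
        cases hp : pU with
        | nil => rw [hp] at hlen; exact absurd hlen (by simp)
        | cons q qs => exact ⟨q, qs, rfl⟩
      have hsz' := hsz
      rw [hpU, List.map_cons, List.cons.injEq] at hsz'
      have hinv : Inv (uGrp 12) (O.erase (pt 1 (by norm_num))) := by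
        intro k hk i hi
        rw [Finset.mem_erase] at hi ⊢
        refine ⟨fun e => hi.1 (k.injective ?_), inv_orb J' _ k (hU hk) i hi.2⟩
        rw [e]
        exact ((uGrp_le hk).2).symm
      have := unique_part hok pU_gens hinv (q := q) (qs := qs) (fun x hx => hpU ▸ hx) (hpU ▸ hcov)
        (by rw [← heq]; exact Finset.inter_subset_right)
        (by rw [Finset.card_erase_of_mem (show pt 1 (by norm_num) ∈ O from mem_orb_self _ _), h4, hsz'.1])
        (by rw [hsz'.1, hsz'.2]; decide)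
      rw [Ell, ellMask, hpU, List.getD_cons_zero, pts_or, pts_single 1 (by norm_num), ← this,
        ← Finset.insert_eq, Finset.insert_erase (show pt 1 (by norm_num) ∈ O from mem_orb_self _ _)]
    have hle : J' ≤ lineStab := fun g hg => ⟨hJ'le hg, fun i => by
      rw [← hOE]
      refine ⟨fun hi => ?_, inv_orb J' _ g hg i⟩
      have := inv_orb J' _ g⁻¹ (inv_mem hg) _ hi
      rwa [Equiv.Perm.coe_inv, Equiv.symm_apply_apply] at this⟩
    have hJ'eq : J' = lineStab := Subgroup.eq_of_le_of_card_ge hle (card_lineStab_le.trans hJ'c.ge)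
    intro S hS hSinv hS96
    obtain ⟨hokL, hcovL, hszL, -, -⟩ := pL_ok
    have hinv : Inv J' (S.image h) := by
      intro k hk i hi
      obtain ⟨j, hj, rfl⟩ := Finset.mem_image.mp hi
      exact Finset.mem_image.mpr ⟨(h⁻¹ * k * h : Equiv.Perm Pt) j,
        hSinv _ (mem_cnj.mp hk) j hj, by simp⟩
    obtain ⟨-, hsumL⟩ := card_mem_sums hokL (fun w hw => hJ'eq ▸ gL_mem w hw) hinv _ _ _
      (fun q hq => hq) hcovL
    have : S.image h ∩ (pts nMask \ pts 0) = S.image h := by
      rw [pts_zero, Finset.sdiff_empty, Finset.inter_eq_left]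
      intro i hi
      obtain ⟨j, hj, rfl⟩ := Finset.mem_image.mp hi
      exact mem_nMask.mpr ((lab_inv hh j).trans (mem_nMask.mp (hS hj)))
    rw [this, hszL, Finset.card_image_of_injective _ h.injective, hS96] at hsumL
    exact absurd hsumL (by decide)

/-! ### Invariant sets of the point stabilisers -/

theorem p47_ok : partsOK g47 p47 = true ∧ coverOK (1 <<< 47) p47 nMask = true ∧
    p47.map partSize = [100, 315] ∧
    (g47.all ok6 && g47.all fun w => Nat.beq (app w 47) 47) = true := by decide +kernel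

/-- The stabiliser of 47. -/
noncomputable def H47 : Subgroup (Equiv.Perm Pt) :=
  Hp ⊓ MulAction.stabilizer (Equiv.Perm Pt) (pt 47 (by norm_num))

/-- The stabiliser of 1. -/
noncomputable def H1 : Subgroup (Equiv.Perm Pt) :=
  Hp ⊓ MulAction.stabilizer (Equiv.Perm Pt) (pt 1 (by norm_num))

theorem g47_mem : ∀ w ∈ g47, el w ∈ H47 := by
  intro w hw
  have h := p47_ok.2.2.2
  simp only [Bool.and_eq_true, List.all_eq_true, Nat.beq_eq] at h
  exact ⟨el_mem (h.1 w hw), Fin.ext (by
    show ((el w (pt 47 _) : Pt) : Nat) = 47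
    rw [el_app (ok7_of_ok6 (h.1 w hw))]
    exact h.2 w hw)⟩

/-- The size of an invariant set of the stabiliser of 47 in its suborbit. -/
theorem sums47 {O : Finset Pt} (hO : Inv H47 O) (hsub : O ⊆ pts nMask)
    (h47 : pt 47 (by norm_num) ∉ O) : O.card ∈ [0, 315, 100, 415] := by
  obtain ⟨hok, hcov, hsz, -⟩ := p47_ok
  obtain ⟨-, hsum⟩ := card_mem_sums hok g47_mem hO _ _ _ (fun q hq => hq) hcov
  rw [hsz, pts_single 47 (by norm_num), Finset.inter_eq_left.mpr (fun i hi =>
    Finset.mem_sdiff.mpr ⟨hsub hi, fun e => h47 (by rw [Finset.mem_singleton] at e; exact e ▸ hi)⟩)] at hsum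
  simpa [sums] using hsum

/-- The invariant 100-set of the stabiliser of 47. -/
theorem uniq47 {O O' : Finset Pt} (hO : Inv H47 O) (hO' : Inv H47 O')
    (hsub : O ⊆ pts nMask) (hsub' : O' ⊆ pts nMask) (h47 : pt 47 (by norm_num) ∉ O)
    (h47' : pt 47 (by norm_num) ∉ O') (hc : O.card = 100) (hc' : O'.card = 100) : O = O' := by
  obtain ⟨hok, hcov, hsz, -⟩ := p47_ok
  obtain ⟨q, r, hp⟩ : ∃ q r, p47 = [q, r] :=
    List.length_eq_two.mp (by simpa using congrArg List.length hsz)
  rw [hp] at hok hcov hsz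
  simp only [List.map_cons, List.map_nil, List.cons.injEq, and_true] at hsz
  have key : ∀ S : Finset Pt, Inv H47 S → S ⊆ pts nMask → pt 47 (by norm_num) ∉ S → S.card = 100 →
      S = pts (partMask q) := fun S hS hs hn hcS =>
    unique_part hok g47_mem hS (qs := [r]) (fun x hx => hx) hcov
      (fun i hi => Finset.mem_sdiff.mpr ⟨hs hi, fun e => hn (by
        rw [pts_single 47 (by norm_num), Finset.mem_singleton] at e; exact e ▸ hi)⟩)
      (by rw [hcS, hsz.1]) (by rw [List.map_cons, List.map_nil, hsz.1, hsz.2]; decide)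
  rw [key O hO hsub h47 hc, key O' hO' hsub' h47' hc']

theorem p1N_ok : partsOK g1 p1N = true ∧ coverOK 0 p1N nMask = true ∧
  p1N.map partSize = [96, 320] := by decide +kernel

/-- The invariant 96-set of the stabiliser of 1. -/
theorem uniq1N {O O' : Finset Pt} (hO : Inv H1 O) (hO' : Inv H1 O')
    (hsub : O ⊆ pts nMask) (hsub' : O' ⊆ pts nMask) (hc : O.card = 96) (hc' : O'.card = 96) :
    O = O' := by
  obtain ⟨hok, hcov, hsz⟩ := p1N_ok
  obtain ⟨q, r, hp⟩ : ∃ q r, p1N = [q, r] :=
    List.length_eq_two.mp (by simpa using congrArg List.length hsz)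
  rw [hp] at hok hcov hsz
  simp only [List.map_cons, List.map_nil, List.cons.injEq, and_true] at hsz
  have key : ∀ S : Finset Pt, Inv H1 S → S ⊆ pts nMask → S.card = 96 → S = pts (partMask q) :=
    fun S hS hs hcS => unique_part hok g1_mem hS (qs := [r]) (fun x hx => hx) hcov
      (by rw [pts_zero, Finset.sdiff_empty]; exact hs)
      (by rw [hcS, hsz.1]) (by rw [List.map_cons, List.map_nil, hsz.1, hsz.2]; decide)
  rw [key O hO hsub hc, key O' hO' hsub' hc']

theorem p1F_swap : coverOK (1 <<< 1)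
    [p1F.getD 1 (0, []), p1F.getD 0 (0, []), p1F.getD 2 (0, [])] fMask = true := by decide +kernel

/-- The invariant 320-set of the stabiliser of 1 in its suborbit. -/
theorem uniq1F {O O' : Finset Pt} (hO : Inv H1 O) (hO' : Inv H1 O')
    (hsub : O ⊆ pts fMask) (hsub' : O' ⊆ pts fMask) (h1 : pt 1 (by norm_num) ∉ O)
    (h1' : pt 1 (by norm_num) ∉ O') (hc : O.card = 320) (hc' : O'.card = 320) : O = O' := by
  obtain ⟨hok, -, hsz, -, -⟩ := p1F_ok
  have hcov := p1F_swap
  obtain ⟨s, q, r, hp⟩ : ∃ s q r, p1F = [s, q, r] :=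
    List.length_eq_three.mp (by simpa using congrArg List.length hsz)
  rw [hp] at hok hcov hsz
  simp only [List.map_cons, List.map_nil, List.cons.injEq, and_true] at hsz
  have hcov' : coverOK (1 <<< 1) [q, s, r] fMask = true := hcov
  have key : ∀ S : Finset Pt, Inv H1 S → S ⊆ pts fMask → pt 1 (by norm_num) ∉ S → S.card = 320 →
      S = pts (partMask q) := fun S hS hs hn hcS =>
    unique_part hok g1_mem hS (qs := [s, r])
      (fun x hx => by
        simp only [List.mem_cons, List.not_mem_nil, or_false] at hx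
        rcases hx with rfl | rfl | rfl <;> simp) hcov'
      (fun i hi => Finset.mem_sdiff.mpr ⟨hs hi, fun e => hn (by
        rw [pts_single 1 (by norm_num), Finset.mem_singleton] at e; exact e ▸ hi)⟩)
      (by rw [hcS, hsz.2.1]) (by
        rw [List.map_cons, List.map_cons, List.map_nil, hsz.1, hsz.2.1, hsz.2.2]; decide)
  rw [key O hO hsub h1 hc, key O' hO' hsub' h1' hc']

end Cfsg.Agent.SuzRankThree84
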