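import Cfsg.Agent.Lib.SuzRankThree84Base
import Cfsg.Agent.Lib.SuzSyl11Data

/-!
Checkers for centralizers in Suz: equality of words by five base points, and a bound for a centralizer
by the possible images of a few seed points in the rank three graph.
-/

set_option autoImplicit false
set_option maxRecDepth 100000

namespace Cfsg.Agent.SuzSyl11

open Cfsg.Agent.CosetCertCore Cfsg.Agent.CosetCertTable Cfsg.Agent.SuzRankThree84

/-! ### Adjacency -/

/-- Read a packed word. -/
noncomputable def unp (e : Nat) : List Nat :=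
  Nat.rec (motive := fun _ => Nat → List Nat) (fun _ => [])
    (fun _ ih p => Nat.land p 7 :: ih (Nat.shiftRight p 3)) (Nat.land e 31) (Nat.shiftRight e 5)

/-- The word taking a point to the origin. -/
noncomputable def tw (i : Nat) : List Nat := unp (entry twTbl 64 i)

/-- Adjacency of two points. -/
noncomputable def adj (b j : Nat) : Bool := Nat.beq (lab (app (tw b) j)) 2

/-- A word is right. -/
noncomputable def twOK (i : Nat) : Bool := ok7 (tw i) && Nat.beq (app (tw i) i) 0

theorem tw_chk : allFrom twOK 1782 0 = true := by decide +kernel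

theorem adj_spec {b : Nat} (hb : b < 1782) (j : Pt) : R0 (pt b hb) j ↔ adj b j = true := by
  have h := (allFrom_iff _ _ _).mp tw_chk b (Nat.zero_le _) (by omega)
  simp only [twOK, Bool.and_eq_true, Nat.beq_eq] at h
  rw [R0_iff (el_mem_SUZ _) (i := pt b hb) (g := el (tw b)) (Fin.ext (by rw [el_app h.1]; exact h.2)) j,
    el_app h.1, adj, Nat.beq_eq]

theorem adj_map {σ : Equiv.Perm Pt} (hσ : σ ∈ autR) (i j : Pt) : adj (σ i : Pt) (σ j : Pt) = adj i j := by
  rw [Bool.eq_iff_iff, ← adj_spec (pt_lt (σ i)), ← adj_spec (pt_lt i)]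
  exact hσ i j

/-! ### Equality of words -/

/-- Two words give the same element. -/
noncomputable def eqv (u v : List Nat) : Bool :=
  ok7 u && ok7 v && [0, 562, 499, 1308, 1167].all fun p => Nat.beq (app u p) (app v p)

theorem eqv_sound {u v : List Nat} (h : eqv u v = true) : el u = el v := by
  simp only [eqv, Bool.and_eq_true, List.all_eq_true, Nat.beq_eq] at h
  obtain ⟨⟨hu, hv⟩, hall⟩ := h
  have hone : (el v)⁻¹ * el u = 1 := by
    refine aut_eq_one (SUZ_le (mul_mem (inv_mem (el_mem_SUZ v)) (el_mem_SUZ u))) fun k hk => ?_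
    rw [Equiv.Perm.mul_apply, Equiv.Perm.inv_eq_iff_eq]
    exact Fin.ext (by rw [el_app hu, el_app hv]; exact hall _ hk)
  exact (inv_mul_eq_one.mp hone).symm

theorem el_ne {u v : List Nat} (hu : ok7 u = true) (hv : ok7 v = true) {p : Nat} (hp : p < 1782)
    (h : Nat.beq (app u p) (app v p) = false) : el u ≠ el v := by
  intro e
  have h1 := el_app hu (pt p hp)
  rw [e, el_app hv] at h1
  have h2 : Nat.beq (app u p) (app v p) = true := Nat.beq_eq.mpr h1.symm
  rw [h] at h2
  exact Bool.noConfusion h2

/-! ### Candidates for the images of seeds -/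

/-- The mask of a point with a row. -/
def rowOf (c : Nat) : Option Nat := (rowTbl.find? fun e => Nat.beq e.1 c).map Prod.snd

/-- A row is right. -/
noncomputable def rowRight (e : Nat × Nat) : Bool :=
  Nat.blt e.1 1782 && allFrom (fun j => Nat.testBit e.2 j == adj e.1 j) 1782 0

theorem row_chk : rowTbl.all rowRight = true := by decide +kernel

theorem rowOf_spec {c m : Nat} (h : rowOf c = some m) (j : Pt) : m.testBit j = adj c j := by
  simp only [rowOf, Option.map_eq_some_iff] at h
  obtain ⟨e, he, rfl⟩ := h
  have hec : e.1 = c := by simpa using List.find?_some he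
  have hok := List.all_eq_true.mp row_chk e (List.mem_of_find?_eq_some he)
  simp only [rowRight, Bool.and_eq_true] at hok
  have := (allFrom_iff _ _ _).mp hok.2 j (Nat.zero_le _) (by simpa using pt_lt j)
  rw [← hec]
  exact eq_of_beq this

/-- Restrict the candidates by one earlier seed. -/
noncomputable def maskStep (v : Nat) (p : Nat × Nat) (acc : Nat) : Nat :=
  match rowOf p.2 with
  | none => acc
  | some m => (if adj p.1 v then m else full ^^^ m) &&& acc

/-- The candidates allowed by the earlier seeds. -/
noncomputable def candMask (ps : List (Nat × Nat)) (v : Nat) : Nat := ps.foldr (maskStep v) full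

/-- Compatible with the earlier seeds. -/
noncomputable def chkPrev (ps : List (Nat × Nat)) (w z : Nat) : Bool :=
  ps.all fun p => (Nat.beq p.1 w == Nat.beq p.2 z) && (adj p.1 w == adj p.2 z)

/-- A candidate image of a seed. -/
noncomputable def chk (E : List (List Nat)) (ps : List (Nat × Nat)) (v q : Nat) : Bool :=
  chkPrev ps v q && E.all fun e => force (app e v) fun w => force (app e q) fun z =>
    (Nat.beq w v == Nat.beq z q) && (adj v w == adj q z) && chkPrev ps w z

/-- The numbers below a bound with a property. -/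
noncomputable def cands (p : Nat → Bool) (n : Nat) : List Nat :=
  Nat.rec (motive := fun _ => List Nat) [] (fun i ih => cond (p i) (i :: ih) ih) n

theorem mem_cands {p : Nat → Bool} {n i : Nat} (hi : i < n) (hp : p i = true) : i ∈ cands p n := by
  induction n with
  | zero => omega
  | succ n ih =>
    show i ∈ cond (p n) (n :: cands p n) (cands p n)
    rcases Nat.lt_succ_iff_lt_or_eq.mp hi with h | rfl
    · cases p n
      · exact ih h
      · exact List.mem_cons_of_mem _ (ih h)
    · rw [hp]; exact List.mem_cons_self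

/-- The possible images of the seeds, the last seed first. -/
noncomputable def leaves (E : List (List Nat)) : List Nat → List (List (Nat × Nat))
  | [] => [[]]
  | v :: vs => (leaves E vs).flatMap fun ps => force (candMask ps v) fun m =>
      (cands (fun q => Nat.testBit m q && chk E ps v q) 1782).map fun q => (v, q) :: ps

/-- The image of a point, as a number. -/
noncomputable def img (g : Equiv.Perm Pt) (i : Nat) : Nat :=
  if h : i < 1782 then ((g (pt i h) : Pt) : Nat) else 0

theorem img_pt (g : Equiv.Perm Pt) {i : Nat} (h : i < 1782) : img g i = ((g (pt i h) : Pt) : Nat) :=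
  dif_pos h

theorem beq_img (g : Equiv.Perm Pt) (i j : Pt) :
    Nat.beq ((g i : Pt) : Nat) (g j : Pt) = Nat.beq (i : Nat) j := by
  rw [Bool.eq_iff_iff, Nat.beq_eq, Nat.beq_eq, Fin.val_inj, Fin.val_inj, g.injective.eq_iff]

theorem chkPrev_img {g : Equiv.Perm Pt} (hg : g ∈ autR) {vs : List Nat}
    (hvs : ∀ v ∈ vs, v < 1782) (w : Pt) :
    chkPrev (vs.map fun v => (v, img g v)) w (g w : Pt) = true := by
  simp only [chkPrev, List.all_eq_true, List.mem_map]
  rintro _ ⟨b, hb, rfl⟩
  rw [img_pt g (hvs b hb), Bool.and_eq_true]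
  exact ⟨by rw [beq_img g (pt b (hvs b hb)) w]; exact beq_self_eq_true _,
    by rw [adj_map hg (pt b (hvs b hb)) w]; exact beq_self_eq_true _⟩

theorem candMask_img {g : Equiv.Perm Pt} (hg : g ∈ autR) (v : Pt) :
    ∀ vs : List Nat, (∀ b ∈ vs, b < 1782) →
      (candMask (vs.map fun b => (b, img g b)) v).testBit (g v : Pt) = true
  | [], _ => testBit_full (pt_lt _)
  | b :: vs, hvs => by
    have ih := candMask_img hg v vs fun x hx => hvs x (List.mem_cons_of_mem _ hx)
    rw [List.map_cons, candMask, List.foldr_cons]
    show (maskStep v (b, img g b) (candMask (vs.map fun b => (b, img g b)) v)).testBit _ = true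
    unfold maskStep
    dsimp only
    cases hr : rowOf (img g b) with
    | none => exact ih
    | some m =>
      have hm := rowOf_spec hr (g v)
      rw [img_pt g (hvs b List.mem_cons_self), adj_map hg (pt b (hvs b List.mem_cons_self)) v] at hm
      change m.testBit _ = adj b v at hm
      dsimp only
      rw [Nat.testBit_and, ih, Bool.and_true]
      cases ha : adj b v
      · rw [if_neg Bool.false_ne_true, Nat.testBit_xor, testBit_full (pt_lt _), hm, ha]; rfl
      · rw [if_pos rfl, hm, ha]

theorem mem_leaves {g : Equiv.Perm Pt} (hg : g ∈ autR) {E : List (List Nat)}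
    (hE : ∀ e ∈ E, ok7 e = true) (hcomm : ∀ e ∈ E, Commute g (el e)) :
    ∀ vs : List Nat, (∀ v ∈ vs, v < 1782) → (vs.map fun v => (v, img g v)) ∈ leaves E vs
  | [], _ => List.mem_singleton.mpr rfl
  | v :: vs, hvs => by
    have hvs' : ∀ b ∈ vs, b < 1782 := fun b hb => hvs b (List.mem_cons_of_mem _ hb)
    have hv := hvs v List.mem_cons_self
    rw [leaves, List.mem_flatMap]
    refine ⟨_, mem_leaves hg hE hcomm vs hvs', ?_⟩
    rw [force_eq, List.map_cons, List.mem_map]
    refine ⟨img g v, mem_cands (by rw [img_pt g hv]; exact pt_lt _) ?_, rfl⟩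
    rw [img_pt g hv, Bool.and_eq_true]
    refine ⟨candMask_img hg (pt v hv) vs hvs', ?_⟩
    simp only [chk, force_eq, Bool.and_eq_true, List.all_eq_true]
    refine ⟨chkPrev_img hg hvs' (pt v hv), fun e he => ?_⟩
    have hw : app e v = ((el e (pt v hv) : Pt) : Nat) := (el_app (hE e he) (pt v hv)).symm
    have hz : app e (g (pt v hv) : Pt) = ((g (el e (pt v hv)) : Pt) : Nat) := by
      rw [← el_app (hE e he), ← Equiv.Perm.mul_apply, ← (hcomm e he).eq, Equiv.Perm.mul_apply]
    rw [hw, hz]
    refine ⟨⟨?_, ?_⟩, chkPrev_img hg hvs' _⟩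
    · rw [beq_img g (el e (pt v hv)) (pt v hv)]; exact beq_self_eq_true _
    · rw [adj_map hg (pt v hv) (el e (pt v hv))]; exact beq_self_eq_true _

/-! ### Points determined by others -/

/-- Each point in turn is determined by its adjacencies to the earlier ones. -/
noncomputable def detOK : List Nat → List Nat → Bool
  | _, [] => true
  | pts, v :: rest => Nat.blt v 1782 &&
      (pts.contains v || allFrom (fun u => Nat.beq u v ||
        !(pts.all fun p => (adj p v == adj p u) && !(Nat.beq p u))) 1782 0) &&
      detOK (v :: pts) rest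

theorem det_fix {g : Equiv.Perm Pt} (hg : g ∈ autR) :
    ∀ rest pts : List Nat, detOK pts rest = true → (∀ p ∈ pts, p < 1782) →
      (∀ k : Pt, (k : Nat) ∈ pts → g k = k) →
      ∀ k : Pt, (k : Nat) ∈ pts ∨ (k : Nat) ∈ rest → g k = k
  | [], _, _, _, hfix, k, hk => by
    rcases hk with hk | hk
    · exact hfix k hk
    · exact absurd hk List.not_mem_nil
  | v :: rest, pts, hok, hlt, hfix, k, hk => by
    simp only [detOK, Bool.and_eq_true, Nat.blt_eq, Bool.or_eq_true] at hok
    obtain ⟨⟨hv, hone⟩, hrest⟩ := hok
    have hfv : ∀ i : Pt, (i : Nat) = v → g i = i := by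
      intro i hi
      by_cases hmem : v ∈ pts
      · exact hfix i (by rw [hi]; exact hmem)
      rcases hone with h | h
      · exact absurd (List.contains_iff_mem.mp h) hmem
      have h' := (allFrom_iff _ _ _).mp h (g i : Pt) (Nat.zero_le _) (by simpa using pt_lt (g i))
      rw [Bool.or_eq_true, Nat.beq_eq] at h'
      rcases h' with h' | h'
      · exact Fin.ext (h'.trans hi.symm)
      exfalso
      apply Bool.false_ne_true
      rw [Bool.not_eq_true'] at h'
      refine h'.symm.trans ?_
      rw [List.all_eq_true]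
      intro p hp
      have hp2 := hlt p hp
      have hfp := hfix (pt p hp2) hp
      have h1 := adj_map hg (pt p hp2) i
      rw [hfp] at h1
      change adj p (g i : Pt) = adj p i at h1
      rw [Bool.and_eq_true, Bool.not_eq_true']
      refine ⟨by rw [h1, hi]; exact beq_self_eq_true _, ?_⟩
      rw [← Bool.not_eq_true, Nat.beq_eq]
      intro e
      have e' : g (pt p hp2) = g i := by rw [hfp]; exact Fin.ext e
      apply hmem
      rw [← hi, ← g.injective e']
      exact hp
    refine det_fix hg rest (v :: pts) hrest (List.forall_mem_cons.mpr ⟨hv, hlt⟩) (fun i hi => ?_) k ?_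
    · rcases List.mem_cons.mp hi with h | h
      · exact hfv i h
      · exact hfix i h
    · rcases hk with h | h
      · exact Or.inl (List.mem_cons_of_mem _ h)
      · rcases List.mem_cons.mp h with h | h
        · exact Or.inl (List.mem_cons.mpr (Or.inl h))
        · exact Or.inr h

/-- Five base points are determined. -/
noncomputable def pinOK (E : List (List Nat)) (seeds pts ch : List Nat) : Bool :=
  (pts.all fun p => E.any fun e => seeds.any fun s => Nat.blt s 1782 && Nat.beq (app e s) p) &&
    detOK pts ch && [0, 562, 499, 1308, 1167].all fun b => pts.contains b || ch.contains b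

/-- An automorphism commuting with the words is determined by the images of the seeds. -/
theorem pin {g : Equiv.Perm Pt} (hg : g ∈ autR) {E : List (List Nat)} (hE : ∀ e ∈ E, ok7 e = true)
    (hcomm : ∀ e ∈ E, Commute g (el e)) {seeds pts ch : List Nat} (hok : pinOK E seeds pts ch = true)
    (hfix : ∀ s : Pt, (s : Nat) ∈ seeds → g s = s) : g = 1 := by
  simp only [pinOK, Bool.and_eq_true, List.all_eq_true, List.any_eq_true, Bool.or_eq_true,
    Nat.blt_eq, Nat.beq_eq] at hok
  obtain ⟨⟨hp, hd⟩, hb⟩ := hok
  have hlt : ∀ p ∈ pts, p < 1782 := fun p hm => by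
    obtain ⟨e, he, s, hs, hs2, rfl⟩ := hp p hm
    exact app_lt (hE e he) hs2
  have hpts : ∀ k : Pt, (k : Nat) ∈ pts → g k = k := fun k hk => by
    obtain ⟨e, he, s, hs, hs2, hsk⟩ := hp k hk
    have hk' : el e (pt s hs2) = k := Fin.ext (by rw [el_app (hE e he)]; exact hsk)
    rw [← hk', ← Equiv.Perm.mul_apply, (hcomm e he).eq, Equiv.Perm.mul_apply,
      hfix (pt s hs2) hs]
  refine aut_eq_one hg fun k hk => det_fix hg ch pts hd hlt hpts k ?_
  exact (hb _ hk).imp List.contains_iff_mem.mp List.contains_iff_mem.mp

open scoped Classical in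
/-- A group of automorphisms commuting with the words is bounded by the number of leaves. -/
theorem card_le_leaves {G : Type*} [Group G] [Finite G] (Φ : G →* Equiv.Perm Pt)
    (hΦ : Function.Injective Φ) (haut : ∀ g, Φ g ∈ autR) {EL ED : List (List Nat)}
    (hEL : ∀ e ∈ EL, ok7 e = true) (hED : ∀ e ∈ ED, ok7 e = true) {seeds pts ch : List Nat}
    (hseeds : ∀ v ∈ seeds, v < 1782) (hok : pinOK ED seeds pts ch = true) (K : Subgroup G)
    (hL : ∀ g ∈ K, ∀ e ∈ EL, Commute (Φ g) (el e)) (hD : ∀ g ∈ K, ∀ e ∈ ED, Commute (Φ g) (el e)) :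
    Nat.card K ≤ (leaves EL seeds).length := by
  let f : K → {l // l ∈ (leaves EL seeds).toFinset} := fun g =>
    ⟨_, List.mem_toFinset.mpr (mem_leaves (haut g.1) hEL (hL g.1 g.2) seeds hseeds)⟩
  have hf : Function.Injective f := by
    intro a b hab
    have hmap := congrArg Subtype.val hab
    have hs := List.map_inj_left.mp hmap
    have hone : Φ (b.1⁻¹ * a.1) = 1 := by
      have hK : b.1⁻¹ * a.1 ∈ K := mul_mem (inv_mem b.2) a.2
      refine pin (haut _) hED (hD _ hK) hok fun s hs2 => ?_
      have h1 := (Prod.ext_iff.mp (hs _ hs2)).2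
      rw [img_pt _ (pt_lt s), img_pt _ (pt_lt s)] at h1
      rw [map_mul, map_inv, Equiv.Perm.mul_apply, Equiv.Perm.inv_eq_iff_eq]
      exact Fin.ext h1
    exact Subtype.ext (inv_mul_eq_one.mp (hΦ (hone.trans (map_one Φ).symm))).symm
  have h := Nat.card_le_card_of_injective f hf
  rw [Nat.card_eq_finsetCard] at h
  exact h.trans (List.toFinset_card_le _)

end Cfsg.Agent.SuzSyl11
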