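import Cfsg.Agent.Lib.SuzSyl11FiveData

/-!
The normalizer of a Sylow 5-subgroup of Suz and the classes of subgroups of order five.
-/

set_option autoImplicit false
set_option maxRecDepth 100000
set_option linter.style.haveILetI false

namespace Cfsg.Agent.SuzSyl11

open Cfsg.Agent.CosetCertCore Cfsg.Agent.CosetCertTable
open Cfsg.Agent.SuzRankThree84

/-- A product of powers of two elements. -/
def pe {G : Type*} [Monoid G] (x y : G) (n : Nat) : G := x ^ (n / 5) * y ^ (n % 5)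

/-- The data found in Suz. -/
structure Data5 (G : Type*) [Group G] [Finite G] where
  x : G
  y : G
  K : Comp →* G
  K_inj : Function.Injective K
  x_pow : x ^ 5 = 1
  y_pow : y ^ 5 = 1
  comm : Commute x y
  indep : ∀ n, 0 < n → n < 25 → pe x y n ≠ 1
  norm : ∀ h, ∃ a b : Nat, a < 25 ∧ b < 25 ∧ K h * x * (K h)⁻¹ = pe x y a ∧
    K h * y * (K h)⁻¹ = pe x y b
  f : G → Nat
  f_conj : ∀ g h, f (h * g * h⁻¹) = f g
  f_ne : f x ≠ f y
  f_powx : ∀ k, k % 5 ≠ 0 → f (x ^ k) = f x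
  f_powy : ∀ k, k % 5 ≠ 0 → f (y ^ k) = f y
  line : ∀ n, 0 < n → n < 25 → ∃ c : G, ∃ k, k % 5 ≠ 0 ∧
    ((tag5 n = 0 ∧ c * pe x y n * c⁻¹ = x ^ k) ∨ (tag5 n = 1 ∧ c * pe x y n * c⁻¹ = y ^ k))
  bound : Nat.card (Subgroup.centralizer ({x, y} : Set G)) ≤ 50

theorem exists_data5 {G : Type*} [Group G] [Finite G] (M : Model G) : Nonempty (Data5 G) := by
  obtain ⟨hx, hy, hc⟩ := x5_facts
  obtain ⟨okx, oky, hf⟩ := nfix_chk
  set x := M.lift wx5 with hxdef
  set y := M.lift wy5 with hydef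
  have hpw : ∀ n, n < 25 → M.lift (pw5 n) = pe x y n := by
    intro n hn
    have h := (allFrom_iff _ _ _).mp pw_chk n (Nat.zero_le _) (by omega)
    simp only [pwOK, Bool.and_eq_true] at h
    rw [M.lift_eq h.1, prod5, M.lift_append, M.lift_pow, M.lift_pow]
    rfl
  let K : Comp →* G :=
    { toFun := fun a => M.lift (kw a)
      map_one' := (M.lift_eq k_one).trans M.lift_nil
      map_mul' := fun a b => (M.lift_eq (k_mul a b)).trans (M.lift_append _ _) }
  have hx5 : x ^ 5 = 1 := by rw [← M.lift_pow, M.lift_eq hx, M.lift_nil]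
  have hy5 : y ^ 5 = 1 := by rw [← M.lift_pow, M.lift_eq hy, M.lift_nil]
  refine ⟨⟨x, y, K, ?_, hx5, hy5, ?_, ?_, ?_, fun g => fixNum (M.Φ g), ?_, ?_, ?_, ?_, ?_, ?_⟩⟩
  · rw [injective_iff_map_eq_one]
    intro a ha
    rcases k_inj a with h | h
    · exact h
    · rw [Bool.and_eq_true, Bool.not_eq_true'] at h
      exact absurd (ha.trans M.lift_nil.symm) (M.lift_ne h.1 rfl h.2)
  · show M.lift wx5 * M.lift wy5 = M.lift wy5 * M.lift wx5
    rw [← M.lift_append, ← M.lift_append, M.lift_eq hc]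
  · intro n h0 hn
    have h := (allFrom_iff _ _ _).mp pw_chk n (Nat.zero_le _) (by omega)
    simp only [pwOK, Bool.and_eq_true, Bool.or_eq_true, Bool.not_eq_true', Nat.beq_eq] at h
    rcases h.2 with h2 | h2
    · omega
    · rw [← hpw n hn, ← M.lift_nil]
      have hok : ok7 (pw5 n) = true := by
        have := h.1
        simp only [eqv, Bool.and_eq_true] at this
        exact this.1.1
      exact M.lift_ne hok rfl h2
  · intro h
    have hk := kn_chk h
    simp only [knOK, Bool.and_eq_true, Nat.blt_eq] at hk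
    obtain ⟨⟨⟨ha, hb⟩, e1⟩, e2⟩ := hk
    refine ⟨(kn h).1, (kn h).2, ha, hb, ?_, ?_⟩
    · rw [← hpw _ ha, ← M.lift_eq e1, M.lift_append, M.lift_append, M.lift_reverse]
      rfl
    · rw [← hpw _ hb, ← M.lift_eq e2, M.lift_append, M.lift_append, M.lift_reverse]
      rfl
  · intro g h
    show fixNum (M.Φ (h * g * h⁻¹)) = fixNum (M.Φ g)
    rw [map_mul, map_mul, map_inv, fixNum_conj]
  · show fixNum (M.Φ x) ≠ fixNum (M.Φ y)
    rw [M.Φ_lift, M.Φ_lift, fixNum_el okx, fixNum_el oky]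
    intro e
    rw [e] at hf
    have : Nat.beq (nfix wy5) (nfix wy5) = true := Nat.beq_eq.mpr rfl
    rw [hf] at this
    exact Bool.noConfusion this
  · intro k hk
    show fixNum (M.Φ (x ^ k)) = fixNum (M.Φ x)
    rw [map_pow]
    exact fixNum_pow (by rw [← map_pow, hx5, map_one]) hk
  · intro k hk
    show fixNum (M.Φ (y ^ k)) = fixNum (M.Φ y)
    rw [map_pow]
    exact fixNum_pow (by rw [← map_pow, hy5, map_one]) hk
  · intro n h0 hn
    have h := (allFrom_iff _ _ _).mp line_chk n (Nat.zero_le _) (by omega)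
    rw [tag5]
    generalize he : lineTbl.getD n (0, 0, 0) = e
    simp only [lineOK, he, Bool.or_eq_true, Nat.beq_eq, Bool.and_eq_true, Nat.blt_eq,
      Bool.not_eq_true'] at h
    rcases h with h | ⟨⟨⟨hlt, hne⟩, hd⟩, hq⟩
    · omega
    have hne' : e.2.1 ≠ 0 := fun e0 => by
      rw [e0] at hne
      exact Bool.noConfusion hne
    have hq' := M.lift_eq hq
    rw [M.lift_append, M.lift_append, M.lift_reverse, hpw n hn, hpw _ hlt] at hq'
    by_cases ht : e.2.2 = 0
    · rw [show Nat.beq e.2.2 0 = true from Nat.beq_eq.mpr ht, cond_true, Nat.beq_eq] at hd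
      refine ⟨M.lift (kTbl.getD e.1 (0, [])).2, e.2.1 / 5, by omega, Or.inl ⟨ht, ?_⟩⟩
      rw [hq', pe, hd, pow_zero, mul_one]
    · rw [show Nat.beq e.2.2 0 = false from Bool.eq_false_iff.mpr fun h => ht (Nat.beq_eq.mp h),
        cond_false, Nat.beq_eq] at hd
      have ht1 : e.2.2 = 1 := by
        have hall : ∀ t ∈ lineTbl, t.2.2 = 0 ∨ t.2.2 = 1 := by decide +kernel
        have hlen : n < lineTbl.length := by
          rw [show lineTbl.length = 25 by decide +kernel]; exact hn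
        have := hall e (by rw [← he, List.getD_eq_getElem _ _ hlen]; exact List.getElem_mem _)
        exact this.resolve_left ht
      refine ⟨M.lift (kTbl.getD e.1 (0, [])).2, e.2.1 % 5, by omega, Or.inr ⟨ht1, ?_⟩⟩
      rw [hq', pe, hd, pow_zero, one_mul]
  · have key : ∀ g ∈ Subgroup.centralizer ({x, y} : Set G), ∀ n, n < 25 →
        Commute (M.Φ g) (el (pw5 n)) := by
      intro g hg n hn
      refine M.commute_el ?_
      rw [hpw n hn]
      have h1 : Commute g x := ((Subgroup.mem_centralizer_iff.mp hg) x (by simp)).symm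
      have h2 : Commute g y := ((Subgroup.mem_centralizer_iff.mp hg) y (by simp)).symm
      exact (h1.pow_right _).mul_right (h2.pow_right _)
    have hok : ∀ n, n < 25 → ok7 (pw5 n) = true := by
      intro n hn
      have h := (allFrom_iff _ _ _).mp pw_chk n (Nat.zero_le _) (by omega)
      simp only [pwOK, eqv, Bool.and_eq_true] at h
      exact h.1.1.1
    have hEL : ∀ e ∈ el5, ∃ n, n < 25 ∧ pw5 n = e := by
      intro e he
      obtain ⟨n, hn, rfl⟩ := List.mem_map.mp he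
      exact ⟨n, by fin_cases hn <;> norm_num, rfl⟩
    refine le_trans (card_le_leaves M.Φ M.inj M.mem (EL := el5) (ED := ed5) ?_ ?_ (seeds := seeds5)
      (by decide) pin5 _ ?_ ?_) (Nat.le_of_ble_eq_true leaves5)
    · intro e he
      obtain ⟨n, hn, rfl⟩ := hEL e he
      exact hok n hn
    · intro e he
      obtain ⟨n, hn, rfl⟩ := List.mem_map.mp he
      exact hok n (List.mem_range.mp hn)
    · intro g hg e he
      obtain ⟨n, hn, rfl⟩ := hEL e he
      exact key g hg n hn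
    · intro g hg e he
      obtain ⟨n, hn, rfl⟩ := List.mem_map.mp he
      exact key g hg n (List.mem_range.mp hn)

namespace Data5

variable {G : Type*} [Group G] [Finite G] (D : Data5 G)

/-- A conjugate of the data. -/
def conj (h : G) : Data5 G :=
  have hp : ∀ n, pe (MulAut.conj h D.x) (MulAut.conj h D.y) n = MulAut.conj h (pe D.x D.y n) :=
    fun n => by rw [pe, pe, map_mul, map_pow, map_pow]
  have hf : ∀ g, D.f (MulAut.conj h g) = D.f g := fun g => D.f_conj g h
  { x := MulAut.conj h D.x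
    y := MulAut.conj h D.y
    K := (MulAut.conj h).toMonoidHom.comp D.K
    K_inj := (MulAut.conj h).injective.comp D.K_inj
    x_pow := by rw [← map_pow, D.x_pow, map_one]
    y_pow := by rw [← map_pow, D.y_pow, map_one]
    comm := D.comm.map (MulAut.conj h).toMonoidHom
    indep := fun n h0 hn e => D.indep n h0 hn ((MulAut.conj h).injective (by
      rw [← hp, e, map_one]))
    norm := fun k => by
      obtain ⟨a, b, ha, hb, e1, e2⟩ := D.norm k
      refine ⟨a, b, ha, hb, ?_, ?_⟩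
      · rw [hp, MonoidHom.comp_apply, MulEquiv.coe_toMonoidHom, ← map_inv, ← map_mul, ← map_mul, e1]
      · rw [hp, MonoidHom.comp_apply, MulEquiv.coe_toMonoidHom, ← map_inv, ← map_mul, ← map_mul, e2]
    f := D.f
    f_conj := D.f_conj
    f_ne := by rw [hf, hf]; exact D.f_ne
    f_powx := fun k hk => by rw [← map_pow, hf, hf, D.f_powx k hk]
    f_powy := fun k hk => by rw [← map_pow, hf, hf, D.f_powy k hk]
    line := fun n h0 hn => by
      obtain ⟨c, k, hk, h'⟩ := D.line n h0 hn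
      refine ⟨MulAut.conj h c, k, hk, ?_⟩
      rw [hp, ← map_inv, ← map_mul, ← map_mul, ← map_pow, ← map_pow]
      rcases h' with ⟨t, e⟩ | ⟨t, e⟩
      · exact Or.inl ⟨t, congrArg _ e⟩
      · exact Or.inr ⟨t, congrArg _ e⟩
    bound := by
      rw [← Set.image_pair, card_centralizer_conj]
      exact D.bound }

theorem pe_pair (a b : Nat) : pe D.x D.y (a % 5 * 5 + b % 5) = D.x ^ a * D.y ^ b := by
  rw [pe, show (a % 5 * 5 + b % 5) / 5 = a % 5 by omega,
    show (a % 5 * 5 + b % 5) % 5 = b % 5 by omega,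
    ← pow_eq_pow_mod a D.x_pow, ← pow_eq_pow_mod b D.y_pow]

theorem pe_mul (a b : Nat) : pe D.x D.y a * pe D.x D.y b =
    pe D.x D.y ((a / 5 + b / 5) % 5 * 5 + (a % 5 + b % 5) % 5) := by
  rw [pe_pair, pe, pe, pow_add, pow_add, mul_assoc, ← mul_assoc (D.y ^ (a % 5)),
    ((D.comm.symm).pow_pow (a % 5) (b / 5)).eq]
  simp only [mul_assoc]

/-- The index of the inverse. -/
def invIdx (a : Nat) : Nat := (4 * (a / 5)) % 5 * 5 + (4 * (a % 5)) % 5

theorem invIdx_lt (a : Nat) : invIdx a < 25 := by rw [invIdx]; omega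

theorem pe_inv {a : Nat} (ha : a < 25) : pe D.x D.y (invIdx a) * pe D.x D.y a = 1 := by
  have key : ∀ i : Fin 25, (invIdx i / 5 + (i : Nat) / 5) % 5 * 5 +
      (invIdx i % 5 + (i : Nat) % 5) % 5 = 0 := by decide +kernel
  have h := key ⟨a, ha⟩
  simp only at h
  rw [pe_mul, h]
  simp [pe]

/-- The group of order 25. -/
def P : Subgroup G where
  carrier := Set.range fun n : Fin 25 => pe D.x D.y n
  mul_mem' := by
    rintro _ _ ⟨a, rfl⟩ ⟨b, rfl⟩
    exact ⟨⟨(a / 5 + b / 5 : Nat) % 5 * 5 + ((a : Nat) % 5 + (b : Nat) % 5) % 5, by omega⟩,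
      (D.pe_mul a b).symm⟩
  one_mem' := ⟨0, by simp [pe]⟩
  inv_mem' := by
    rintro _ ⟨a, rfl⟩
    exact ⟨⟨invIdx a, invIdx_lt a⟩, eq_inv_of_mul_eq_one_left (D.pe_inv a.2)⟩

theorem mem_P {g : G} : g ∈ D.P ↔ ∃ n, n < 25 ∧ g = pe D.x D.y n :=
  ⟨fun ⟨n, e⟩ => ⟨n, n.2, e.symm⟩, fun ⟨n, hn, e⟩ => ⟨⟨n, hn⟩, e.symm⟩⟩

theorem x_mem : D.x ∈ D.P := D.mem_P.mpr ⟨5, by norm_num, by simp [pe]⟩

theorem y_mem : D.y ∈ D.P := D.mem_P.mpr ⟨1, by norm_num, by simp [pe]⟩

theorem pe_inj {a b : Nat} (ha : a < 25) (hb : b < 25) (h : pe D.x D.y a = pe D.x D.y b) :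
    a = b := by
  by_contra hne
  have key : ∀ i j : Fin 25, i ≠ j →
      0 < (invIdx j / 5 + (i : Nat) / 5) % 5 * 5 + (invIdx j % 5 + (i : Nat) % 5) % 5 := by
    decide +kernel
  refine D.indep ((invIdx b / 5 + a / 5) % 5 * 5 + (invIdx b % 5 + a % 5) % 5)
    (key ⟨a, ha⟩ ⟨b, hb⟩ fun e => hne (congrArg Fin.val e)) (by omega) ?_
  rw [← pe_mul, h, D.pe_inv hb]

theorem card_P : Nat.card D.P = 25 := by
  have e : Nat.card (Fin 25) = Nat.card D.P := by
    refine Nat.card_congr (Equiv.ofBijective (fun n => (⟨pe D.x D.y n, n, rfl⟩ : D.P))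
      ⟨fun a b h => Fin.ext (D.pe_inj a.2 b.2 (congrArg Subtype.val h)), fun g => ?_⟩)
    obtain ⟨n, hn⟩ := g.2
    exact ⟨n, Subtype.ext hn⟩
  rw [← e, Nat.card_fin]

theorem f_pe {n : Nat} (h0 : 0 < n) (hn : n < 25) :
    D.f (pe D.x D.y n) = if tag5 n = 0 then D.f D.x else D.f D.y := by
  obtain ⟨c, k, hk, ⟨t, e⟩ | ⟨t, e⟩⟩ := D.line n h0 hn
  · rw [if_pos t, ← D.f_conj _ c, e, D.f_powx k hk]
  · rw [if_neg (by omega), ← D.f_conj _ c, e, D.f_powy k hk]

include D in
theorem tag_le {n : Nat} (h0 : 0 < n) (hn : n < 25) : tag5 n ≤ 1 := by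
  obtain ⟨c, k, hk, ⟨t, e⟩ | ⟨t, e⟩⟩ := D.line n h0 hn <;> omega

theorem conj_pe (g : G) {a b : Nat} (hx : g * D.x * g⁻¹ = pe D.x D.y a)
    (hy : g * D.y * g⁻¹ = pe D.x D.y b) (n : Nat) :
    g * pe D.x D.y n * g⁻¹ = pe D.x D.y (comb5 a b n) := by
  have h1 : g * pe D.x D.y n * g⁻¹ =
      (g * D.x * g⁻¹) ^ (n / 5) * (g * D.y * g⁻¹) ^ (n % 5) := by
    rw [conj_pow, conj_pow, pe]
    group
  rw [h1, hx, hy, comb5, pe_pair, pe, pe, (D.comm.pow_pow _ _).mul_pow,
    (D.comm.pow_pow _ _).mul_pow, ← pow_mul, ← pow_mul, ← pow_mul, ← pow_mul, pow_add, pow_add]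
  rw [show a / 5 * (n / 5) = n / 5 * (a / 5) from Nat.mul_comm _ _,
    show b / 5 * (n % 5) = n % 5 * (b / 5) from Nat.mul_comm _ _,
    show a % 5 * (n / 5) = n / 5 * (a % 5) from Nat.mul_comm _ _,
    show b % 5 * (n % 5) = n % 5 * (b % 5) from Nat.mul_comm _ _,
    mul_assoc, ← mul_assoc (D.y ^ (n / 5 * (a % 5))),
    ((D.comm.symm).pow_pow (n / 5 * (a % 5)) (n % 5 * (b / 5))).eq]
  simp only [mul_assoc]

theorem adm_of_normalizes (g : G) {a b : Fin 25} (hx : g * D.x * g⁻¹ = pe D.x D.y a)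
    (hy : g * D.y * g⁻¹ = pe D.x D.y b) : adm5 (a, b) = true := by
  simp only [adm5, List.all_eq_true, List.mem_range, Bool.and_eq_true, Bool.not_eq_true',
    Nat.beq_eq]
  intro k hk
  have he := D.conj_pe g hx hy (k + 1)
  have hlt : comb5 a b (k + 1) < 25 := by rw [comb5]; omega
  have hne : comb5 a b (k + 1) ≠ 0 := by
    intro e0
    rw [e0] at he
    apply D.indep (k + 1) (by omega) (by omega)
    have h1 : pe D.x D.y (k + 1) = g⁻¹ * pe D.x D.y 0 * g := by rw [← he]; group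
    rw [h1]
    simp [pe]
  refine ⟨Bool.eq_false_iff.mpr fun e => hne (Nat.beq_eq.mp e), ?_⟩
  have hf : D.f (g * pe D.x D.y (k + 1) * g⁻¹) = D.f (pe D.x D.y (k + 1)) := D.f_conj _ _
  rw [he, D.f_pe (Nat.pos_of_ne_zero hne) hlt, D.f_pe (n := k + 1) (Nat.succ_pos k) (by omega)] at hf
  have h1 := D.tag_le (Nat.pos_of_ne_zero hne) hlt
  have h2 := D.tag_le (n := k + 1) (Nat.succ_pos k) (by omega)
  split_ifs at hf with t1 t2 t2
  · omega
  · exact absurd hf D.f_ne
  · exact absurd hf.symm D.f_ne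
  · omega

theorem card_normalizer_le : Nat.card (Subgroup.normalizer (D.P : Set G)) ≤ 24 * 50 := by
  classical
  letI := Fintype.ofFinite G
  set N := Subgroup.normalizer (D.P : Set G) with hN
  have hmem : ∀ g ∈ N, ∀ z ∈ D.P, g * z * g⁻¹ ∈ D.P := fun g hg z hz =>
    (Subgroup.mem_normalizer_iff.mp hg z).mp hz
  have himg : ∀ g ∈ N, ∃ p : Fin 25 × Fin 25,
      g * D.x * g⁻¹ = pe D.x D.y p.1 ∧ g * D.y * g⁻¹ = pe D.x D.y p.2 := fun g hg => by
    obtain ⟨a, ha⟩ := hmem g hg _ D.x_mem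
    obtain ⟨b, hb⟩ := hmem g hg _ D.y_mem
    exact ⟨(a, b), ha.symm, hb.symm⟩
  let i : N → Fin 25 × Fin 25 := fun g => (himg g.1 g.2).choose
  have hi : ∀ g : N, g.1 * D.x * g.1⁻¹ = pe D.x D.y (i g).1 ∧
      g.1 * D.y * g.1⁻¹ = pe D.x D.y (i g).2 := fun g => (himg g.1 g.2).choose_spec
  have hcard := Finset.card_le_mul_card_image (s := (Finset.univ : Finset N)) (f := i) 50 ?_
  · rw [Nat.card_eq_fintype_card, ← Finset.card_univ]
    refine hcard.trans ?_
    rw [mul_comm 24]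
    refine Nat.mul_le_mul_left 50 (le_trans (Finset.card_le_card ?_) adm5_card)
    intro p hp
    obtain ⟨g, -, rfl⟩ := Finset.mem_image.mp hp
    exact Finset.mem_filter.mpr ⟨Finset.mem_univ _, D.adm_of_normalizes g.1 (hi g).1 (hi g).2⟩
  intro p hp
  obtain ⟨g0, -, hg0⟩ := Finset.mem_image.mp hp
  let F := (Finset.univ : Finset N).filter fun g => i g = p
  show F.card ≤ 50
  have hF : ∀ g : F, g0.1⁻¹ * g.1.1 ∈ Subgroup.centralizer ({D.x, D.y} : Set G) := by
    intro g
    have hg : i g.1 = p := (Finset.mem_filter.mp g.2).2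
    have key : ∀ z, g.1.1 * z * g.1.1⁻¹ = g0.1 * z * g0.1⁻¹ →
        z * (g0.1⁻¹ * g.1.1) = g0.1⁻¹ * g.1.1 * z := by
      intro z hz
      calc z * (g0.1⁻¹ * g.1.1) = g0.1⁻¹ * (g0.1 * z * g0.1⁻¹) * g.1.1 := by group
        _ = g0.1⁻¹ * (g.1.1 * z * g.1.1⁻¹) * g.1.1 := by rw [hz]
        _ = g0.1⁻¹ * g.1.1 * z := by group
    rw [Subgroup.mem_centralizer_iff]
    intro z hz
    rcases hz with rfl | rfl
    · exact key _ (by rw [(hi g.1).1, (hi g0).1, hg, hg0])
    · exact key _ (by rw [(hi g.1).2, (hi g0).2, hg, hg0])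
  have := Nat.card_le_card_of_injective (fun g : F =>
    (⟨_, hF g⟩ : Subgroup.centralizer ({D.x, D.y} : Set G))) fun u v e =>
      Subtype.ext (Subtype.ext (mul_left_cancel (congrArg Subtype.val e)))
  rw [Nat.card_eq_finsetCard] at this
  exact this.trans D.bound

theorem K_mem (h : Comp) : D.K h ∈ Subgroup.normalizer (D.P : Set G) := by
  obtain ⟨a, b, ha, hb, e1, e2⟩ := D.norm h
  have hm : D.P.map (MulAut.conj (D.K h)).toMonoidHom = D.P := by
    refine Subgroup.eq_of_le_of_card_ge ?_ ?_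
    · rintro _ ⟨z, hz, rfl⟩
      obtain ⟨n, hn, rfl⟩ := D.mem_P.mp hz
      exact D.mem_P.mpr ⟨comb5 a b n, by rw [comb5]; omega, D.conj_pe _ e1 e2 n⟩
    · exact le_of_eq (Nat.card_congr (D.P.equivMapOfInjective _
        (MulAut.conj (D.K h)).injective).toEquiv)
  rw [Subgroup.mem_normalizer_iff]
  intro n
  constructor
  · intro hn
    rw [← hm]
    exact ⟨n, hn, rfl⟩
  · intro hn
    rw [← hm] at hn
    obtain ⟨m, hm', he⟩ := hn
    rwa [← (MulAut.conj (D.K h)).injective he]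

theorem card_comp : Nat.card Comp = 24 := by
  rw [Nat.card_prod, Nat.card_congr Multiplicative.toAdd, Nat.card_zmod, Nat.card_eq_fintype_card,
    Fintype.card_perm, Fintype.card_fin]
  rfl

theorem six_hundred_dvd : 600 ∣ Nat.card (Subgroup.normalizer (D.P : Set G)) := by
  have h1 : 25 ∣ Nat.card (Subgroup.normalizer (D.P : Set G)) :=
    D.card_P ▸ Subgroup.card_dvd_of_le Subgroup.le_normalizer
  have h2 : 24 ∣ Nat.card (Subgroup.normalizer (D.P : Set G)) :=
    card_comp ▸ Subgroup.card_dvd_of_injective (D.K.codRestrict _ D.K_mem) (fun a b e =>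
      D.K_inj (congrArg Subtype.val e))
  exact Nat.Coprime.mul_dvd_of_dvd_of_dvd (by norm_num : Nat.Coprime 25 24) h1 h2

theorem order_x : orderOf D.x = 5 :=
  haveI := prime5
  orderOf_eq_prime D.x_pow fun e => D.indep 5 (by norm_num) (by norm_num) (by simp [pe, e])

theorem order_y : orderOf D.y = 5 :=
  haveI := prime5
  orderOf_eq_prime D.y_pow fun e => D.indep 1 (by norm_num) (by norm_num) (by simp [pe, e])

theorem eq_zpowers {c u z : G} (hu : orderOf u = 5) (hz : orderOf z = 5)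
    (h : c * u * c⁻¹ ∈ Subgroup.zpowers z) :
    (Subgroup.zpowers u).map (MulAut.conj c).toMonoidHom = Subgroup.zpowers z := by
  refine Subgroup.eq_of_le_of_card_ge ?_ (le_of_eq ?_)
  · rw [MonoidHom.map_zpowers, Subgroup.zpowers_le]
    exact h
  · rw [Nat.card_zpowers, hz, ← hu, ← Nat.card_zpowers]
    exact Nat.card_congr ((Subgroup.zpowers u).equivMapOfInjective _
      (MulAut.conj c).injective).toEquiv

theorem conclusion (hG : Nat.card G = suzOrder) (S : Sylow 5 G) (hS : (S : Subgroup G) = D.P) :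
    (∃ A B : Subgroup G, Nat.card A = 5 ∧ Nat.card B = 5 ∧
      (∀ g : G, A.map (MulAut.conj g).toMonoidHom ≠ B) ∧
      ∀ C : Subgroup G, Nat.card C = 5 →
        ∃ g : G, C.map (MulAut.conj g).toMonoidHom = A ∨ C.map (MulAut.conj g).toMonoidHom = B) ∧
    Nat.card (S : Subgroup G) = 25 ∧
    Nat.card ↥(Subgroup.normalizer ((S : Subgroup G) : Set G)) = 600 ∧
    Nonempty (↥(Subgroup.normalizer ((S : Subgroup G) : Set G)) ⧸
      (S : Subgroup G).subgroupOf (Subgroup.normalizer ((S : Subgroup G) : Set G)) ≃*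
        Multiplicative (ZMod 4) × Equiv.Perm (Fin 3)) := by
  haveI := prime5
  obtain ⟨s, hs1, hs2⟩ := sylow_count S rfl
  rw [hS, hG] at hs2
  have hN : Nat.card (Subgroup.normalizer (D.P : Set G)) = 600 := by
    have hle := D.card_normalizer_le
    have hpos : 0 < Nat.card (Subgroup.normalizer (D.P : Set G)) := Nat.card_pos
    obtain ⟨d, hd⟩ := D.six_hundred_dvd
    rw [hd] at hs2 hle hpos ⊢
    replace hs2 : 600 * d * s = 448345497600 := hs2
    have : d ≤ 2 := by omega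
    interval_cases d <;> omega
  refine ⟨⟨Subgroup.zpowers D.x, Subgroup.zpowers D.y, by rw [Nat.card_zpowers, D.order_x],
    by rw [Nat.card_zpowers, D.order_y], ?_, ?_⟩, ?_, ?_, ?_⟩
  · intro g hg
    have hmem : MulAut.conj g D.x ∈ Subgroup.zpowers D.y :=
      hg ▸ ⟨D.x, Subgroup.mem_zpowers _, rfl⟩
    obtain ⟨k, hk⟩ :=
      (isOfFinOrder_of_finite D.y).mem_powers_iff_mem_zpowers.mpr hmem
    have hk5 : k % 5 ≠ 0 := by
      intro h0
      have : MulAut.conj g D.x = 1 := by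
        rw [← hk]
        show D.y ^ k = 1
        rw [pow_eq_pow_mod k D.y_pow, h0, pow_zero]
      have hx1 : D.x = 1 := (MulAut.conj g).injective (this.trans (map_one _).symm)
      have := D.order_x
      rw [hx1, orderOf_one] at this
      omega
    apply D.f_ne
    rw [← D.f_conj D.x g, ← D.f_powy k hk5]
    exact congrArg D.f hk.symm
  · intro C hC
    obtain ⟨c, hc⟩ : ∃ c, Subgroup.zpowers c = C := by
      exact (Subgroup.isCyclic_iff_exists_zpowers_eq_top C).mp (isCyclic_of_prime_card hC)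
    subst hc
    rw [Nat.card_zpowers] at hC
    obtain ⟨Q, hQ⟩ := (IsPGroup.of_card (p := 5) (n := 1)
      (show Nat.card (Subgroup.zpowers c) = 5 ^ 1 by rw [Nat.card_zpowers, hC, pow_one])).exists_le_sylow
    obtain ⟨h, hh⟩ := sylow_conj Q S
    have hmem : h * c * h⁻¹ ∈ D.P := by
      rw [← hS, hh]
      exact ⟨c, hQ (Subgroup.mem_zpowers _), rfl⟩
    obtain ⟨n, hn, he⟩ := D.mem_P.mp hmem
    have h0 : 0 < n := by
      refine Nat.pos_of_ne_zero fun e => ?_
      rw [e] at he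
      have hc1 : c = 1 := (MulAut.conj h).injective ((he.trans (by simp [pe])).trans (map_one _).symm)
      rw [hc1, orderOf_one] at hC
      omega
    obtain ⟨d, k, -, ⟨-, e⟩ | ⟨-, e⟩⟩ := D.line n h0 hn
    · refine ⟨d * h, Or.inl (eq_zpowers hC D.order_x ?_)⟩
      rw [show d * h * c * (d * h)⁻¹ = d * (h * c * h⁻¹) * d⁻¹ by group, he, e]
      exact pow_mem (Subgroup.mem_zpowers _) k
    · refine ⟨d * h, Or.inr (eq_zpowers hC D.order_y ?_)⟩
      rw [show d * h * c * (d * h)⁻¹ = d * (h * c * h⁻¹) * d⁻¹ by group, he, e]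
      exact pow_mem (Subgroup.mem_zpowers _) k
  · rw [hS, D.card_P]
  · rw [hS, hN]
  · rw [hS]
    set N := Subgroup.normalizer (D.P : Set G) with hNdef
    let q : Comp →* N ⧸ D.P.subgroupOf N :=
      (QuotientGroup.mk' _).comp (D.K.codRestrict N D.K_mem)
    have hinj : Function.Injective q := by
      rw [injective_iff_map_eq_one]
      intro a ha
      have hm : D.K a ∈ D.P := Subgroup.mem_subgroupOf.mp ((QuotientGroup.eq_one_iff _).mp ha)
      have h25 : orderOf (D.K a) ∣ 25 := D.card_P ▸ Subgroup.orderOf_dvd_natCard _ hm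
      have h24 : orderOf (D.K a) ∣ 24 := by
        rw [orderOf_injective D.K D.K_inj, ← card_comp]
        exact orderOf_dvd_natCard a
      have h1 := orderOf_eq_one_iff.mp (Nat.eq_one_of_dvd_coprimes (by norm_num) h25 h24)
      exact D.K_inj (h1.trans (map_one D.K).symm)
    have hcard : Nat.card (N ⧸ D.P.subgroupOf N) = 24 := by
      have hmul := Subgroup.card_mul_index (D.P.subgroupOf N)
      rw [Nat.card_congr (Subgroup.subgroupOfEquivOfLe Subgroup.le_normalizer).toEquiv, D.card_P,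
        hN, Subgroup.index_eq_card] at hmul
      omega
    exact ⟨(MulEquiv.ofBijective q ((Nat.bijective_iff_injective_and_card _).mpr
      ⟨hinj, by rw [hcard, card_comp]⟩)).symm⟩

end Data5

/-- The normalizer of a Sylow 5-subgroup of Suz, and the two classes of subgroups of order 5. -/
theorem sylow_five {G : Type*} [Group G] (h : Cfsg.Spor.IsoSuz G) (S : Sylow 5 G) :
    (∃ A B : Subgroup G, Nat.card A = 5 ∧ Nat.card B = 5 ∧
      (∀ g : G, A.map (MulAut.conj g).toMonoidHom ≠ B) ∧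
      ∀ C : Subgroup G, Nat.card C = 5 →
        ∃ g : G, C.map (MulAut.conj g).toMonoidHom = A ∨ C.map (MulAut.conj g).toMonoidHom = B) ∧
    Nat.card (S : Subgroup G) = 25 ∧
    Nat.card ↥(Subgroup.normalizer ((S : Subgroup G) : Set G)) = 600 ∧
    Nonempty (↥(Subgroup.normalizer ((S : Subgroup G) : Set G)) ⧸
      (S : Subgroup G).subgroupOf (Subgroup.normalizer ((S : Subgroup G) : Set G)) ≃*
        Multiplicative (ZMod 4) × Equiv.Perm (Fin 3)) := by
  haveI := prime5
  obtain ⟨M⟩ := model_of_iso h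
  haveI := M.finite
  obtain ⟨D⟩ := exists_data5 M
  have hG : Nat.card G = 5 ^ 2 * 17933819904 := M.card
  have hS := sylow_card S 2 hG (by norm_num)
  let P0 : Sylow 5 G := Sylow.ofCard D.P (by
    rw [D.card_P, ← Sylow.card_eq_multiplicity S, hS]
    norm_num)
  obtain ⟨k, hk⟩ := sylow_conj P0 S
  refine (D.conj k).conclusion M.card S ?_
  rw [hk, Sylow.coe_ofCard]
  refine Subgroup.eq_of_le_of_card_ge ?_ (le_of_eq ?_)
  · rintro _ ⟨z, hz, rfl⟩
    obtain ⟨n, hn, rfl⟩ := D.mem_P.mp hz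
    refine (D.conj k).mem_P.mpr ⟨n, hn, ?_⟩
    show MulAut.conj k (D.x ^ (n / 5) * D.y ^ (n % 5)) =
      (MulAut.conj k D.x) ^ (n / 5) * (MulAut.conj k D.y) ^ (n % 5)
    rw [map_mul, map_pow, map_pow]
  · rw [Data5.card_P, Nat.card_congr (D.P.equivMapOfInjective _ (MulAut.conj k).injective).toEquiv.symm,
      Data5.card_P]

end Cfsg.Agent.SuzSyl11
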