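import Cfsg.Agent.Lib.SuzSyl11Model

/-!
The subgroup of order 25 of Suz: the facts checked in the graph.
-/

set_option autoImplicit false
set_option maxRecDepth 100000
set_option Elab.async false

namespace Cfsg.Agent.SuzSyl11

open Cfsg.Agent.CosetCertCore Cfsg.Agent.CosetCertTable
open Cfsg.Agent.SuzRankThree84

/-- The expected quotient. -/
abbrev Comp : Type := Multiplicative (ZMod 4) × Equiv.Perm (Fin 3)

/-- The word of an element of the group of order 25. -/
def pw5 (n : Nat) : List Nat := pwTbl.getD n []

/-- The same element as a product of powers. -/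
def prod5 (n : Nat) : List Nat :=
  (List.replicate (n / 5) wx5).flatten ++ (List.replicate (n % 5) wy5).flatten

/-- The code of an element of the complement. -/
def kcode (h : Comp) : Nat :=
  (Multiplicative.toAdd h.1).val + 4 * ((h.2 0 : Nat) + 3 * (h.2 1 : Nat))

/-- The word of an element of the complement. -/
def kw (h : Comp) : List Nat :=
  ((kTbl.find? fun e => Nat.beq e.1 (kcode h)).getD (0, [])).2

/-- The images of the two generators. -/
def kn (h : Comp) : Nat × Nat := normTbl.getD (kTbl.findIdx fun e => Nat.beq e.1 (kcode h)) (0, 0)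

/-- The type of an element: 0 for the first generator, 1 for the second. -/
def tag5 (n : Nat) : Nat := (lineTbl.getD n (0, 0, 0)).2.2

/-- The image of an element under the map given by the images of the generators. -/
def comb5 (a b n : Nat) : Nat :=
  (n / 5 * (a / 5) + n % 5 * (b / 5)) % 5 * 5 + (n / 5 * (a % 5) + n % 5 * (b % 5)) % 5

/-- Possible images of the generators under an automorphism preserving the types. -/
def adm5 (p : Fin 25 × Fin 25) : Bool :=
  (List.range 24).all fun k =>
    !(Nat.beq (comb5 p.1 p.2 (k + 1)) 0) && Nat.beq (tag5 (comb5 p.1 p.2 (k + 1))) (tag5 (k + 1))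

theorem adm5_card : (Finset.univ.filter fun p : Fin 25 × Fin 25 => adm5 p = true).card ≤ 24 := by
  decide +kernel

/-- An element is as tabulated. -/
noncomputable def pwOK (n : Nat) : Bool :=
  eqv (pw5 n) (prod5 n) && (Nat.beq n 0 || !eqv (pw5 n) [])

theorem pw_chk : allFrom pwOK 25 0 = true := by decide +kernel

theorem x5_facts : eqv (List.replicate 5 wx5).flatten [] = true ∧
    eqv (List.replicate 5 wy5).flatten [] = true ∧ eqv (wx5 ++ wy5) (wy5 ++ wx5) = true := by
  decide +kernel

theorem k_one : eqv (kw 1) [] = true := by decide +kernel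

/-- The multiplication table at one first component. -/
def MulRow (z : ZMod 4) : Prop :=
  ∀ (p : Equiv.Perm (Fin 3)) (b : Comp),
    eqv (kw ((Multiplicative.ofAdd z, p) * b)) (kw (Multiplicative.ofAdd z, p) ++ kw b) = true

theorem k_mul0 : MulRow 0 := by unfold MulRow; decide +kernel

theorem k_mul1 : MulRow 1 := by unfold MulRow; decide +kernel

theorem k_mul2 : MulRow 2 := by unfold MulRow; decide +kernel

theorem k_mul3 : MulRow 3 := by unfold MulRow; decide +kernel

theorem k_mul : ∀ a b : Comp, eqv (kw (a * b)) (kw a ++ kw b) = true := by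
  rintro ⟨z, p⟩ b
  have hz : ∀ z : ZMod 4, z = 0 ∨ z = 1 ∨ z = 2 ∨ z = 3 := by decide
  have key : ∀ z : ZMod 4, MulRow z := by
    intro z
    rcases hz z with rfl | rfl | rfl | rfl
    exacts [k_mul0, k_mul1, k_mul2, k_mul3]
  exact key (Multiplicative.toAdd z) p b

theorem k_inj : ∀ a : Comp, a = 1 ∨ (ok7 (kw a) && !eqv (kw a) []) = true := by decide +kernel

/-- The complement normalizes. -/
noncomputable def knOK (h : Comp) : Bool :=
  Nat.blt (kn h).1 25 && Nat.blt (kn h).2 25 &&
    eqv (kw h ++ wx5 ++ (kw h).reverse) (pw5 (kn h).1) &&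
    eqv (kw h ++ wy5 ++ (kw h).reverse) (pw5 (kn h).2)

theorem kn_chk : ∀ h : Comp, knOK h = true := by decide +kernel

/-- An element is conjugate to a power of one of the generators. -/
noncomputable def lineOK (n : Nat) : Bool :=
  Nat.beq n 0 ||
    (let e := lineTbl.getD n (0, 0, 0)
     let c := (kTbl.getD e.1 (0, [])).2
     Nat.blt e.2.1 25 && !(Nat.beq e.2.1 0) &&
      (cond (Nat.beq e.2.2 0) (Nat.beq (e.2.1 % 5) 0) (Nat.beq (e.2.1 / 5) 0)) &&
      eqv (c ++ pw5 n ++ c.reverse) (pw5 e.2.1))

theorem line_chk : allFrom lineOK 25 0 = true := by decide +kernel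

/-- The seeds, the last one first. -/
def seeds5 : List Nat := [81, 995, 0]

/-- Words used for the bound. -/
def el5 : List (List Nat) := [5, 10, 1, 21].map pw5

/-- Words used for pinning. -/
def ed5 : List (List Nat) := (List.range 25).map pw5

theorem leaves5 : Nat.ble (leaves el5 seeds5).length 50 = true := by decide +kernel

theorem pin5 : pinOK ed5 seeds5 pts5 [562, 499, 1308, 1167] = true := by decide +kernel

/-- Number of fixed points of a word. -/
noncomputable def nfix (w : List Nat) : Nat := (cands (fun i => Nat.beq (app w i) i) 1782).length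

theorem nfix_chk : ok7 wx5 = true ∧ ok7 wy5 = true ∧ Nat.beq (nfix wx5) (nfix wy5) = false := by
  decide +kernel

theorem cands_length (p : Nat → Bool) (n : Nat) :
    (cands p n).length = ((Finset.range n).filter fun i => p i = true).card := by
  induction n with
  | zero => rfl
  | succ n ih =>
    show (cond (p n) (n :: cands p n) (cands p n)).length = _
    rw [Finset.range_add_one, Finset.filter_insert]
    cases h : p n
    · simp [ih]
    · simp [ih]

open scoped Classical in
/-- Number of fixed points. -/
noncomputable def fixNum (σ : Equiv.Perm Pt) : Nat := (Finset.univ.filter fun i => σ i = i).card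

theorem fixNum_el {w : List Nat} (hw : ok7 w = true) : fixNum (el w) = nfix w := by
  classical
  rw [nfix, cands_length, fixNum, ← Finset.card_image_of_injective _ Fin.val_injective]
  congr 1
  ext j
  simp only [Finset.mem_filter, Finset.mem_range, Finset.mem_image, Finset.mem_univ, true_and,
    Nat.beq_eq]
  exact ⟨fun ⟨i, a, b⟩ => b ▸ ⟨pt_lt i, by rw [← el_app hw i, a]⟩,
    fun ⟨a, b⟩ => ⟨⟨j, a⟩, Fin.ext (by rw [el_app hw]; exact b), rfl⟩⟩

theorem fixNum_conj (σ τ : Equiv.Perm Pt) : fixNum (τ * σ * τ⁻¹) = fixNum σ := by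
  classical
  rw [fixNum, fixNum]
  conv_rhs => rw [← Finset.card_image_of_injective _ τ.injective]
  congr 1
  ext i
  simp only [Finset.mem_filter, Finset.mem_image, Finset.mem_univ, true_and]
  constructor
  · intro h
    refine ⟨τ⁻¹ i, ?_, by simp⟩
    have h' : τ (σ (τ⁻¹ i)) = i := h
    exact τ.injective (h'.trans (by simp))
  · rintro ⟨j, hj, e⟩
    rw [← e]
    simp [hj]

theorem fixNum_pow {σ : Equiv.Perm Pt} (h5 : σ ^ 5 = 1) {k : Nat} (hk : k % 5 ≠ 0) :
    fixNum (σ ^ k) = fixNum σ := by
  classical
  obtain ⟨m, hm⟩ : ∃ m, k * m % 5 = 1 := by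
    have : k % 5 = 1 ∨ k % 5 = 2 ∨ k % 5 = 3 ∨ k % 5 = 4 := by omega
    rcases this with h | h | h | h
    exacts [⟨1, by omega⟩, ⟨3, by omega⟩, ⟨2, by omega⟩, ⟨4, by omega⟩]
  rw [fixNum, fixNum]
  congr 1
  ext i
  simp only [Finset.mem_filter, Finset.mem_univ, true_and]
  constructor
  · intro h
    have h2 : ((σ ^ k) ^ m) i = i := Equiv.Perm.pow_apply_eq_self_of_apply_eq_self h m
    rw [← pow_mul, ← Nat.div_add_mod (k * m) 5, pow_add, pow_mul, h5, one_pow, one_mul, hm,
      pow_one] at h2
    exact h2
  · intro h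
    exact Equiv.Perm.pow_apply_eq_self_of_apply_eq_self h k

end Cfsg.Agent.SuzSyl11
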