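import Cfsg.Agent.Lib.SuzSyl11Engine

/-!
A group isomorphic to Suz as a group of automorphisms of the graph, and small lemmas on conjugates.
-/

set_option autoImplicit false
set_option maxRecDepth 100000

namespace Cfsg.Agent.SuzSyl11

open Cfsg.Agent.CosetCertCore Cfsg.Agent.CosetCertTable Cfsg.Agent.CosetCertPres
open Cfsg.Agent.SuzRankThree84

/-- The order of Suz. -/
abbrev suzOrder : Nat := 448345497600

/-- A faithful action with elements realising every word. -/
structure Model (G : Type*) [Group G] where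
  /-- the action -/
  Φ : G →* Equiv.Perm Pt
  inj : Function.Injective Φ
  mem : ∀ g, Φ g ∈ autR
  /-- the element of a word -/
  lift : List Nat → G
  Φ_lift : ∀ w, Φ (lift w) = el w
  card : Nat.card G = suzOrder

theorem model_of_iso {G : Type*} [Group G] (h : Cfsg.Spor.IsoSuz G) : Nonempty (Model G) := by
  obtain ⟨ψ⟩ := h
  let ψ' : G ≃* CosetCertSuzGData.pres.Grp := ψ
  refine ⟨⟨act0.comp ψ'.toMonoidHom, act0_injective.comp ψ'.injective,
    fun g => SUZ_le ⟨ψ' g, rfl⟩, fun w => ψ'.symm (val CosetCertSuzGData.pres.gg w), fun w => ?_, ?_⟩⟩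
  · show act0 (ψ' (ψ'.symm _)) = el w
    rw [MulEquiv.apply_symm_apply]
    rfl
  · exact (Nat.card_congr ψ'.toEquiv).trans CosetCertSuzSimple.card_and_faithful.1

namespace Model

variable {G : Type*} [Group G] (M : Model G)

theorem lift_append (u v : List Nat) : M.lift (u ++ v) = M.lift u * M.lift v :=
  M.inj (by rw [map_mul, M.Φ_lift, M.Φ_lift, M.Φ_lift, el_append])

theorem lift_nil : M.lift [] = 1 := M.inj (by rw [map_one, M.Φ_lift, el_nil])

theorem lift_reverse (w : List Nat) : M.lift w.reverse = (M.lift w)⁻¹ :=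
  M.inj (by rw [map_inv, M.Φ_lift, M.Φ_lift, el_reverse])

theorem lift_pow (w : List Nat) : ∀ n : Nat, M.lift (List.replicate n w).flatten = M.lift w ^ n
  | 0 => by rw [pow_zero, List.replicate_zero, List.flatten_nil, lift_nil]
  | n + 1 => by rw [List.replicate_succ, List.flatten_cons, lift_append, lift_pow w n, pow_succ']

theorem lift_eq {u v : List Nat} (h : eqv u v = true) : M.lift u = M.lift v :=
  M.inj (by rw [M.Φ_lift, M.Φ_lift, eqv_sound h])

theorem lift_ne {u v : List Nat} (hu : ok7 u = true) (hv : ok7 v = true) (h : eqv u v = false) :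
    M.lift u ≠ M.lift v := by
  intro e
  have e' : el u = el v := by rw [← M.Φ_lift u, ← M.Φ_lift v, e]
  have key : eqv u v = true := by
    simp only [eqv, hu, hv, Bool.true_and, List.all_eq_true, Nat.beq_eq]
    intro p hp
    have hlt : p < 1782 := by
      simp only [List.mem_cons, List.not_mem_nil, or_false] at hp
      rcases hp with rfl | rfl | rfl | rfl | rfl <;> norm_num
    show app u ((pt p hlt : Pt) : Nat) = app v ((pt p hlt : Pt) : Nat)
    rw [← el_app hu, ← el_app hv, e']
  rw [h] at key
  exact Bool.noConfusion key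

theorem commute_el {g : G} {w : List Nat} (h : Commute g (M.lift w)) : Commute (M.Φ g) (el w) :=
  M.Φ_lift w ▸ h.map M.Φ

include M in
theorem finite : Finite G := Nat.finite_of_card_ne_zero (by rw [M.card]; norm_num [suzOrder])

end Model

/-! ### Conjugates -/

variable {G : Type*} [Group G]

theorem map_conj_centralizer (s : Set G) (h : G) :
    (Subgroup.centralizer s).map (MulAut.conj h).toMonoidHom =
      Subgroup.centralizer ((MulAut.conj h) '' s) := by
  ext g
  rw [Subgroup.mem_map, Subgroup.mem_centralizer_iff]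
  constructor
  · rintro ⟨c, hc, rfl⟩ _ ⟨a, ha, rfl⟩
    rw [MulEquiv.coe_toMonoidHom, ← map_mul, Subgroup.mem_centralizer_iff.mp hc a ha, map_mul]
  · intro hg
    refine ⟨(MulAut.conj h).symm g, Subgroup.mem_centralizer_iff.mpr fun a ha => ?_,
      (MulAut.conj h).apply_symm_apply g⟩
    apply (MulAut.conj h).injective
    rw [map_mul, map_mul, MulEquiv.apply_symm_apply, hg _ ⟨a, ha, rfl⟩]

theorem card_centralizer_conj (s : Set G) (h : G) :
    Nat.card (Subgroup.centralizer ((MulAut.conj h) '' s)) = Nat.card (Subgroup.centralizer s) := by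
  rw [← map_conj_centralizer]
  exact (Nat.card_congr ((Subgroup.centralizer s).equivMapOfInjective _
    (MulAut.conj h).injective).toEquiv).symm

theorem mem_centralizer_singleton {g x : G} :
    g ∈ Subgroup.centralizer ({x} : Set G) ↔ Commute g x := by
  rw [Subgroup.mem_centralizer_iff]
  exact ⟨fun h => (h x rfl).symm, fun h a ha => by rw [Set.mem_singleton_iff.mp ha]; exact h.eq.symm⟩

theorem centralizer_zpowers (x : G) :
    Subgroup.centralizer (Subgroup.zpowers x : Set G) = Subgroup.centralizer {x} := by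
  rw [Subgroup.zpowers_eq_closure, Subgroup.centralizer_closure]

/-- The size of a Sylow subgroup. -/
theorem sylow_card [Finite G] {p m : Nat} [hp : Fact p.Prime] (P : Sylow p G) (k : Nat)
    (h : Nat.card G = p ^ k * m) (hm : ¬ p ∣ m) : Nat.card P = p ^ k := by
  have hm0 : m ≠ 0 := fun e => hm (by rw [e]; exact dvd_zero p)
  rw [P.card_eq_multiplicity, h, Nat.factorization_mul (pow_ne_zero _ hp.out.ne_zero) hm0]
  simp [Nat.Prime.factorization_pow hp.out, Nat.factorization_eq_zero_of_not_dvd hm]

/-- Every Sylow subgroup is a conjugate of a given one. -/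
theorem sylow_conj [Finite G] {p : Nat} [Fact p.Prime] (P Q : Sylow p G) :
    ∃ h : G, (Q : Subgroup G) = (P : Subgroup G).map (MulAut.conj h).toMonoidHom := by
  obtain ⟨h, rfl⟩ := MulAction.exists_smul_eq G P Q
  exact ⟨h, rfl⟩

/-- The normalizer of a Sylow subgroup and the number of Sylow subgroups. -/
theorem sylow_count [Finite G] {p : Nat} [Fact p.Prime] (P : Sylow p G) {n : Nat}
    (hn : Nat.card (Subgroup.normalizer ((P : Subgroup G) : Set G)) = n) :
    ∃ s, s % p = 1 % p ∧ n * s = Nat.card G := by
  refine ⟨Nat.card (Sylow p G), card_sylow_modEq_one p G, ?_⟩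
  rw [P.card_eq_index_normalizer, ← hn]
  exact Subgroup.card_mul_index _

theorem prime7 : Fact (Nat.Prime 7) := ⟨by norm_num⟩
theorem prime5 : Fact (Nat.Prime 5) := ⟨by norm_num⟩

end Cfsg.Agent.SuzSyl11
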