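import Cfsg.Agent.Lib.SuzSyl11Model

/-!
The centralizer and the normalizer of a Sylow 7-subgroup of Suz.
-/

set_option autoImplicit false
set_option maxRecDepth 100000

namespace Cfsg.Agent.SuzSyl11

open Cfsg.Agent.CosetCertCore Cfsg.Agent.CosetCertTable
open Cfsg.Agent.SuzRankThree84

/-! ### Checks -/

/-- The code of a permutation of four letters. -/
def code4 (a : Equiv.Perm (Fin 4)) : Nat := (a 0 : Nat) + 4 * (a 1 : Nat) + 16 * (a 2 : Nat)

/-- The word of an even permutation. -/
def a4w (a : alternatingGroup (Fin 4)) : List Nat :=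
  ((a4Tbl.find? fun e => Nat.beq e.1 (code4 a.1)).getD (0, [])).2

theorem a4_mul : ∀ a b : alternatingGroup (Fin 4), eqv (a4w (a * b)) (a4w a ++ a4w b) = true := by
  decide +kernel

theorem a4_one : eqv (a4w 1) [] = true := by decide +kernel

theorem a4_inj : ∀ a : alternatingGroup (Fin 4), a = 1 ∨ (ok7 (a4w a) && !eqv (a4w a) []) = true := by
  decide +kernel

theorem a4_comm : ∀ a : alternatingGroup (Fin 4), eqv (a4w a ++ wx7) (wx7 ++ a4w a) = true := by
  decide +kernel

theorem x7_facts : eqv (List.replicate 7 wx7).flatten [] = true ∧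
    (ok7 wx7 && !eqv wx7 []) = true ∧
    eqv (wy7 ++ wx7 ++ wy7.reverse) (List.replicate 3 wx7).flatten = true := by
  decide +kernel

/-- The seeds, the last one first. -/
def seeds7 : List Nat := [146, 1777, 1758, 895, 0]

/-- The powers of the element of order seven. -/
def pow7 : List (List Nat) := (List.range 7).map fun k => (List.replicate k wx7).flatten

theorem leaves7 : Nat.ble (leaves [wx7] seeds7).length 336 = true := by decide +kernel

theorem pin7 : pinOK pow7 seeds7 pts7 ch7 = true := by decide +kernel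

theorem ok_pow7 : pow7.all ok7 = true := by decide +kernel

/-! ### The group theory -/

/-- The data found in Suz. -/
structure Data7 (G : Type*) [Group G] [Finite G] where
  x : G
  y : G
  ψ : alternatingGroup (Fin 4) →* G
  ψ_inj : Function.Injective ψ
  x_pow : x ^ 7 = 1
  x_ne : x ≠ 1
  comm : ∀ a, Commute (ψ a) x
  y_x : y * x * y⁻¹ = x ^ 3
  bound : Nat.card (Subgroup.centralizer ({x} : Set G)) ≤ 336

theorem exists_data7 {G : Type*} [Group G] [Finite G] (M : Model G) : Nonempty (Data7 G) := by
  obtain ⟨h7, hne, hy⟩ := x7_facts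
  rw [Bool.and_eq_true, Bool.not_eq_true'] at hne
  let ψ : alternatingGroup (Fin 4) →* G :=
    { toFun := fun a => M.lift (a4w a)
      map_one' := (M.lift_eq a4_one).trans M.lift_nil
      map_mul' := fun a b => (M.lift_eq (a4_mul a b)).trans (M.lift_append _ _) }
  refine ⟨⟨M.lift wx7, M.lift wy7, ψ, ?_, ?_, ?_, ?_, ?_, ?_⟩⟩
  · rw [injective_iff_map_eq_one]
    intro a ha
    rcases a4_inj a with h | h
    · exact h
    · rw [Bool.and_eq_true, Bool.not_eq_true'] at h
      exact absurd (ha.trans M.lift_nil.symm) (M.lift_ne h.1 rfl h.2)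
  · rw [← M.lift_pow, M.lift_eq h7, M.lift_nil]
  · exact fun e => M.lift_ne hne.1 rfl hne.2 (e.trans M.lift_nil.symm)
  · intro a
    show M.lift (a4w a) * M.lift wx7 = M.lift wx7 * M.lift (a4w a)
    rw [← M.lift_append, ← M.lift_append, M.lift_eq (a4_comm a)]
  · rw [← M.lift_reverse, ← M.lift_append, ← M.lift_append, ← M.lift_pow, M.lift_eq hy]
  · refine le_trans (card_le_leaves M.Φ M.inj M.mem (EL := [wx7]) (ED := pow7) ?_
      (List.all_eq_true.mp ok_pow7) (seeds := seeds7) (by decide) pin7 _ ?_ ?_) (Nat.le_of_ble_eq_true leaves7)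
    · intro e he
      rw [List.mem_singleton.mp he]
      exact hne.1
    · intro g hg e he
      rw [List.mem_singleton.mp he]
      exact M.commute_el (mem_centralizer_singleton.mp hg)
    · intro g hg e he
      obtain ⟨k, -, rfl⟩ := List.mem_map.mp he
      refine M.commute_el ?_
      rw [M.lift_pow]
      exact (mem_centralizer_singleton.mp hg).pow_right k

namespace Data7

variable {G : Type*} [Group G] [Finite G] (D : Data7 G)

/-- A conjugate of the data. -/
def conj (h : G) : Data7 G where
  x := MulAut.conj h D.x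
  y := MulAut.conj h D.y
  ψ := (MulAut.conj h).toMonoidHom.comp D.ψ
  ψ_inj := (MulAut.conj h).injective.comp D.ψ_inj
  x_pow := by rw [← map_pow, D.x_pow, map_one]
  x_ne := fun e => D.x_ne ((MulAut.conj h).injective (e.trans (map_one _).symm))
  comm a := (D.comm a).map (MulAut.conj h).toMonoidHom
  y_x := by rw [← map_inv, ← map_mul, ← map_mul, D.y_x, map_pow]
  bound := by rw [← Set.image_singleton, card_centralizer_conj]; exact D.bound

theorem order_x : orderOf D.x = 7 :=
  haveI := prime7
  orderOf_eq_prime D.x_pow D.x_ne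

/-- The product map into the centralizer. -/
def prodHom : Subgroup.zpowers D.x × alternatingGroup (Fin 4) →*
    Subgroup.centralizer ({D.x} : Set G) where
  toFun p := ⟨p.1.1 * D.ψ p.2, by
    refine mul_mem (mem_centralizer_singleton.mpr ?_) (mem_centralizer_singleton.mpr (D.comm p.2))
    obtain ⟨k, hk⟩ := Subgroup.mem_zpowers_iff.mp p.1.2
    rw [← hk]
    exact (Commute.refl D.x).zpow_left k⟩
  map_one' := Subtype.ext (by simp)
  map_mul' p q := Subtype.ext (by
    obtain ⟨k, hk⟩ := Subgroup.mem_zpowers_iff.mp q.1.2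
    have h : Commute (D.ψ p.2) (q.1.1) := hk ▸ (D.comm p.2).zpow_right k
    simp only [Prod.fst_mul, Prod.snd_mul, Subgroup.coe_mul, map_mul]
    rw [mul_assoc, ← mul_assoc (q.1.1 : G), ← h.eq]
    simp only [mul_assoc])

theorem prodHom_inj : Function.Injective D.prodHom := by
  rw [injective_iff_map_eq_one]
  rintro ⟨u, a⟩ he
  have he' : (u : G) * D.ψ a = 1 := congrArg Subtype.val he
  have hu : orderOf (u : G) ∣ 7 := by
    rw [Subgroup.orderOf_coe]
    have h := orderOf_dvd_natCard u
    rwa [Nat.card_zpowers, D.order_x] at h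
  have ha : orderOf (u : G) ∣ 12 := by
    rw [eq_inv_of_mul_eq_one_left he', orderOf_inv, orderOf_injective D.ψ D.ψ_inj]
    have h := orderOf_dvd_natCard a
    rwa [show Nat.card (alternatingGroup (Fin 4)) = 12 by
      rw [Nat.card_eq_fintype_card]; decide] at h
  have h1 : (u : G) = 1 := orderOf_eq_one_iff.mp (Nat.eq_one_of_dvd_coprimes (by norm_num) hu ha)
  refine Prod.ext (Subtype.ext h1) (D.ψ_inj ?_)
  rw [h1, one_mul] at he'
  exact he'.trans (map_one D.ψ).symm

theorem card_dom : Nat.card (Subgroup.zpowers D.x × alternatingGroup (Fin 4)) = 84 := by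
  rw [Nat.card_prod, Nat.card_zpowers, D.order_x, Nat.card_eq_fintype_card,
    show Fintype.card (alternatingGroup (Fin 4)) = 12 by decide]

theorem card_mulAut : Nat.card (MulAut (Subgroup.zpowers D.x)) = 6 := by
  rw [IsCyclic.card_mulAut, Nat.card_zpowers, D.order_x, Nat.totient_prime (by norm_num)]

theorem y_mem : D.y ∈ Subgroup.normalizer (Subgroup.zpowers D.x : Set G) := by
  have hm : (Subgroup.zpowers D.x).map (MulAut.conj D.y).toMonoidHom = Subgroup.zpowers D.x := by
    refine Subgroup.eq_of_le_of_card_ge ?_ ?_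
    · rw [MonoidHom.map_zpowers, Subgroup.zpowers_le]
      show D.y * D.x * D.y⁻¹ ∈ _
      rw [D.y_x]
      exact pow_mem (Subgroup.mem_zpowers _) 3
    · exact le_of_eq (Nat.card_congr ((Subgroup.zpowers D.x).equivMapOfInjective _
        (MulAut.conj D.y).injective).toEquiv)
  rw [Subgroup.mem_normalizer_iff]
  intro n
  constructor
  · intro hn
    rw [← hm]
    exact ⟨n, hn, rfl⟩
  · intro hn
    rw [← hm] at hn
    obtain ⟨m, hm', he⟩ := hn
    rwa [← (MulAut.conj D.y).injective he]

theorem card_normalizer_eq :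
    Nat.card (Subgroup.normalizer (Subgroup.zpowers D.x : Set G)) =
      6 * Nat.card (Subgroup.centralizer ({D.x} : Set G)) := by
  set H := Subgroup.zpowers D.x with hH
  set f := H.normalizerMonoidHom with hf
  have hker : Nat.card f.ker = Nat.card (Subgroup.centralizer ({D.x} : Set G)) := by
    rw [hf, Subgroup.normalizerMonoidHom_ker, ← centralizer_zpowers]
    exact Nat.card_congr (Subgroup.subgroupOfEquivOfLe
      (show Subgroup.centralizer (H : Set G) ≤ Subgroup.normalizer (H : Set G) from
        Subgroup.centralizer_le_normalizer _)).toEquiv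
  have hdvd : Nat.card f.range ∣ 6 := D.card_mulAut ▸ Subgroup.card_subgroup_dvd_card _
  let α : MulAut H := f ⟨D.y, D.y_mem⟩
  have hα : ∀ n : Nat, ((α ^ n) ⟨D.x, Subgroup.mem_zpowers _⟩ : H).1 = D.x ^ 3 ^ n := by
    intro n
    induction n with
    | zero => simp
    | succ n ih =>
      rw [pow_succ', MulAut.mul_apply]
      show D.y * ((α ^ n) ⟨D.x, Subgroup.mem_zpowers _⟩ : H).1 * D.y⁻¹ = _
      rw [ih, ← conj_pow, D.y_x, ← pow_mul, ← pow_succ']
  have hn : ∀ n : Nat, α ^ n = 1 → 3 ^ n % 7 = 1 := by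
    intro n h
    have := hα n
    rw [h, MulAut.one_apply] at this
    have h2 : D.x ^ 1 = D.x ^ 3 ^ n := by rw [pow_one]; exact this
    rw [pow_eq_pow_iff_modEq, D.order_x] at h2
    exact h2.symm.trans rfl
  have hr : Nat.card f.range = 6 := by
    have hpow : α ^ Nat.card f.range = 1 := by
      have := pow_card_eq_one' (x := (⟨α, ⟨_, rfl⟩⟩ : f.range))
      exact congrArg Subtype.val this
    have h := hn _ hpow
    have hle : Nat.card f.range ≤ 6 := Nat.le_of_dvd (by norm_num) hdvd
    have hpos : 0 < Nat.card f.range := Nat.card_pos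
    interval_cases hc : Nat.card f.range <;> first | omega | (norm_num at h) | rfl
  have hmul := Subgroup.card_mul_index f.ker
  rw [Subgroup.index_ker, hker, hr, mul_comm] at hmul
  exact hmul.symm

theorem conclusion (hG : Nat.card G = suzOrder) (B : Sylow 7 G)
    (hB : (B : Subgroup G) = Subgroup.zpowers D.x) :
    Nonempty (↥(Subgroup.centralizer ((B : Subgroup G) : Set G)) ≃*
        Multiplicative (ZMod 7) × alternatingGroup (Fin 4)) ∧
      Nat.card ↥(Subgroup.normalizer ((B : Subgroup G) : Set G)) = 504 := by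
  haveI := prime7
  obtain ⟨s, hs1, hs2⟩ := sylow_count B rfl
  rw [hB, D.card_normalizer_eq, hG] at hs2
  set c := Nat.card (Subgroup.centralizer ({D.x} : Set G)) with hc
  have h84 : 84 ∣ c := D.card_dom ▸ Subgroup.card_dvd_of_injective D.prodHom D.prodHom_inj
  have hb : c ≤ 336 := D.bound
  have hpos : 0 < c := Nat.card_pos
  obtain ⟨d, hd⟩ := h84
  have hd1 : c = 84 := by
    have hd4 : d ≤ 4 := by omega
    have hd0 : 0 < d := by omega
    replace hs2 : 6 * c * s = 448345497600 := hs2
    rw [hd] at hs2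
    interval_cases d <;> omega
  rw [hB, D.card_normalizer_eq, ← hc, hd1]
  refine ⟨⟨?_⟩, rfl⟩
  have hbij : Function.Bijective D.prodHom :=
    (Nat.bijective_iff_injective_and_card _).mpr ⟨D.prodHom_inj, by rw [D.card_dom, ← hd1]⟩
  have e7 : Subgroup.zpowers D.x ≃* Multiplicative (ZMod 7) :=
    mulEquivOfCyclicCardEq (by rw [Nat.card_zpowers, D.order_x, Nat.card_congr Multiplicative.toAdd,
      Nat.card_zmod])
  exact ((MulEquiv.subgroupCongr (centralizer_zpowers D.x)).trans
    (MulEquiv.ofBijective D.prodHom hbij).symm).trans (e7.prodCongr (MulEquiv.refl _))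

end Data7

/-- The centralizer and normalizer of a Sylow 7-subgroup of Suz. -/
theorem sylow_seven {G : Type*} [Group G] (h : Cfsg.Spor.IsoSuz G) (B : Sylow 7 G) :
    Nonempty (↥(Subgroup.centralizer ((B : Subgroup G) : Set G)) ≃*
        Multiplicative (ZMod 7) × alternatingGroup (Fin 4)) ∧
      Nat.card ↥(Subgroup.normalizer ((B : Subgroup G) : Set G)) = 504 := by
  haveI := prime7
  obtain ⟨M⟩ := model_of_iso h
  haveI := M.finite
  obtain ⟨D⟩ := exists_data7 M
  have hG : Nat.card G = 7 ^ 1 * 64049356800 := M.card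
  have hB := sylow_card B 1 hG (by norm_num)
  let P : Sylow 7 G := Sylow.ofCard (Subgroup.zpowers D.x) (by
    rw [Nat.card_zpowers, D.order_x, ← Sylow.card_eq_multiplicity B, hB, pow_one])
  obtain ⟨k, hk⟩ := sylow_conj P B
  refine (D.conj k).conclusion M.card B ?_
  rw [hk, Sylow.coe_ofCard, MonoidHom.map_zpowers]
  rfl

end Cfsg.Agent.SuzSyl11
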