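import Mathlib

/-!
Binary actions on cosets: representatives, transport and two criteria against binarity.
-/

set_option autoImplicit false

namespace Cfsg.Agent.SuzukiBinary

variable {X Y : Type*} [Group X] [Group Y]

/-- The action of `X` on the cosets of `H` is binary. -/
def Binary (H : Subgroup X) : Prop :=
  ∀ (n : ℕ) (I J : Fin n → X ⧸ H), 2 ≤ n →
    (∀ i j : Fin n, i ≠ j → ∃ g : X, g • I i = J i ∧ g • I j = J j) →
      ∃ g : X, ∀ i, g • I i = J i

/-- `g` carries the coset of `a` to the coset of `b`. -/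
def Carries (H : Subgroup X) (g a b : X) : Prop := (g * a)⁻¹ * b ∈ H

theorem smul_coe_eq_iff (H : Subgroup X) (g a b : X) :
    g • (a : X ⧸ H) = (b : X ⧸ H) ↔ Carries H g a b := by
  rw [MulAction.Quotient.smul_coe, smul_eq_mul]
  exact QuotientGroup.eq

theorem binary_iff (H : Subgroup X) :
    Binary H ↔ ∀ (n : ℕ) (a b : Fin n → X), 2 ≤ n →
      (∀ i j : Fin n, i ≠ j → ∃ g, Carries H g (a i) (b i) ∧ Carries H g (a j) (b j)) →
        ∃ g, ∀ i, Carries H g (a i) (b i) := by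
  refine ⟨fun h n a b hn hp => ?_, fun h n I J hn hp => ?_⟩
  · obtain ⟨g, hg⟩ := h n (fun i => (a i : X ⧸ H)) (fun i => (b i : X ⧸ H)) hn fun i j hij => by
      obtain ⟨g, h1, h2⟩ := hp i j hij
      exact ⟨g, (smul_coe_eq_iff H _ _ _).mpr h1, (smul_coe_eq_iff H _ _ _).mpr h2⟩
    exact ⟨g, fun i => (smul_coe_eq_iff H _ _ _).mp (hg i)⟩
  · choose a ha using fun i => QuotientGroup.mk_surjective (I i)
    choose b hb using fun i => QuotientGroup.mk_surjective (J i)
    obtain ⟨g, hg⟩ := h n a b hn fun i j hij => by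
      obtain ⟨g, h1, h2⟩ := hp i j hij
      rw [← ha i, ← hb i, smul_coe_eq_iff] at h1
      rw [← ha j, ← hb j, smul_coe_eq_iff] at h2
      exact ⟨g, h1, h2⟩
    exact ⟨g, fun i => by rw [← ha i, ← hb i, smul_coe_eq_iff]; exact hg i⟩

theorem Binary.map {H : Subgroup X} (h : Binary H) (e : X ≃* Y) :
    Binary (H.map e.toMonoidHom) := by
  rw [binary_iff] at h ⊢
  intro n a b hn hp
  have key : ∀ g a b : Y, Carries (H.map e.toMonoidHom) g a b ↔
      Carries H (e.symm g) (e.symm a) (e.symm b) := by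
    intro g a b
    rw [Carries, Carries, Subgroup.mem_map_equiv, map_mul, map_inv, map_mul]
  obtain ⟨g, hg⟩ := h n (fun i => e.symm (a i)) (fun i => e.symm (b i)) hn fun i j hij => by
    obtain ⟨g, h1, h2⟩ := hp i j hij
    exact ⟨e.symm g, (key _ _ _).mp h1, (key _ _ _).mp h2⟩
  exact ⟨e g, fun i => (key _ _ _).mpr (by rw [e.symm_apply_apply]; exact hg i)⟩

theorem map_map_symm (H : Subgroup X) (e : X ≃* Y) :
    (H.map e.toMonoidHom).map e.symm.toMonoidHom = H := by
  ext x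
  rw [Subgroup.mem_map_equiv, Subgroup.mem_map_equiv, MulEquiv.symm_symm, e.symm_apply_apply]

theorem binary_map_iff (H : Subgroup X) (e : X ≃* Y) :
    Binary (H.map e.toMonoidHom) ↔ Binary H :=
  ⟨fun h => by have := h.map e.symm; rwa [map_map_symm] at this, fun h => h.map e⟩

/-- The regular action is binary. -/
theorem binary_bot : Binary (⊥ : Subgroup X) := by
  rw [binary_iff]
  intro n a b hn hp
  have key : ∀ g a b : X, Carries (⊥ : Subgroup X) g a b ↔ g = b * a⁻¹ := by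
    intro g a b
    rw [Carries, Subgroup.mem_bot, inv_mul_eq_one, eq_mul_inv_iff_mul_eq]
  let i₀ : Fin n := ⟨0, by omega⟩
  refine ⟨b i₀ * (a i₀)⁻¹, fun i => (key _ _ _).mpr ?_⟩
  by_cases hi : i₀ = i
  · rw [← hi]
  · obtain ⟨g, h1, h2⟩ := hp i₀ i hi
    rw [← (key _ _ _).mp h1, (key _ _ _).mp h2]

/-- The configuration which defeats binarity. -/
def Tri (M K : Subgroup X) : Prop :=
  ∃ u ∈ M, ∃ v ∈ M, ∃ x ∈ K, ∃ k ∈ K, ∃ l ∈ K,
    x⁻¹ * (u * k * u⁻¹) = v * l * v⁻¹ ∧
      ∀ g ∈ K, u⁻¹ * g * u ∈ K → v⁻¹ * (g⁻¹ * x) * v ∉ K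

/-- Three cosets. -/
theorem not_binary_of_tri_top {H : Subgroup X} (h : Tri ⊤ H) : ¬ Binary H := by
  obtain ⟨u, -, v, -, x, hx, k, hk, l, hl, e, hno⟩ := h
  rw [binary_iff]
  intro hB
  have el : v⁻¹ * (u * k * u⁻¹)⁻¹ * x * v = l⁻¹ := by
    have h' : (u * k * u⁻¹)⁻¹ * x = v * l⁻¹ * v⁻¹ := by
      have := congrArg (fun z => z⁻¹) e
      simpa [mul_assoc] using this
    rw [show v⁻¹ * (u * k * u⁻¹)⁻¹ * x * v = v⁻¹ * ((u * k * u⁻¹)⁻¹ * x) * v by group, h']
    group
  obtain ⟨g, hg⟩ := hB 3 ![1, u, v] ![1, u, x * v] (by norm_num) fun i j hij => by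
    have c01 : ∃ g, Carries H g 1 1 ∧ Carries H g u u :=
      ⟨1, by simp [Carries], by simp [Carries]⟩
    have c02 : ∃ g, Carries H g 1 1 ∧ Carries H g v (x * v) :=
      ⟨x, by simpa [Carries] using hx, by simp [Carries]⟩
    have c12 : ∃ g, Carries H g u u ∧ Carries H g v (x * v) := by
      refine ⟨u * k * u⁻¹, ?_, ?_⟩
      · rw [Carries, show (u * k * u⁻¹ * u)⁻¹ * u = k⁻¹ by group]
        exact inv_mem hk
      · rw [Carries, show (u * k * u⁻¹ * v)⁻¹ * (x * v) = v⁻¹ * (u * k * u⁻¹)⁻¹ * x * v by group, el]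
        exact inv_mem hl
    have s01 := c01.imp fun _ h => And.symm h
    have s02 := c02.imp fun _ h => And.symm h
    have s12 := c12.imp fun _ h => And.symm h
    fin_cases i <;> fin_cases j <;> first
      | exact absurd rfl hij
      | exact c01
      | exact c02
      | exact c12
      | exact s01
      | exact s02
      | exact s12
  have h0 := hg 0
  have h1 := hg 1
  have h2 := hg 2
  simp only [Carries, Matrix.cons_val] at h0 h1 h2
  have hgH : g ∈ H := by simpa using h0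
  refine hno g hgH ?_ ?_
  · have := inv_mem h1
    rwa [show ((g * u)⁻¹ * u)⁻¹ = u⁻¹ * g * u by group] at this
  · rwa [show (g * v)⁻¹ * (x * v) = v⁻¹ * (g⁻¹ * x) * v by group] at h2

/-- Four cosets: the configuration inside a suborbit. -/
theorem not_binary_of_tri {H K : Subgroup X} (b : X)
    (hK : ∀ g, g ∈ K ↔ g ∈ H ∧ b⁻¹ * g * b ∈ H) (h : Tri H K) : ¬ Binary H := by
  obtain ⟨u, hu, v, hv, x, hx, k, hk, l, hl, e, hno⟩ := h
  rw [binary_iff]
  intro hB
  have el : (u * k * u⁻¹)⁻¹ * x = v * l⁻¹ * v⁻¹ := by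
    have := congrArg (fun z => z⁻¹) e
    simpa [mul_assoc] using this
  obtain ⟨g, hg⟩ := hB 4 ![1, b, u * b, v * b] ![1, b, u * b, x * v * b] (by norm_num) fun i j hij => by
    have c01 : ∃ g, Carries H g 1 1 ∧ Carries H g b b :=
      ⟨1, by simp [Carries], by simp [Carries]⟩
    have c02 : ∃ g, Carries H g 1 1 ∧ Carries H g (u * b) (u * b) :=
      ⟨1, by simp [Carries], by simp [Carries]⟩
    have c12 : ∃ g, Carries H g b b ∧ Carries H g (u * b) (u * b) :=
      ⟨1, by simp [Carries], by simp [Carries]⟩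
    have hx' := (hK x).mp hx
    have c03 : ∃ g, Carries H g 1 1 ∧ Carries H g (v * b) (x * v * b) :=
      ⟨x, by simpa [Carries] using hx'.1, by simp [Carries, mul_assoc]⟩
    have c13 : ∃ g, Carries H g b b ∧ Carries H g (v * b) (x * v * b) := by
      refine ⟨x, ?_, by simp [Carries, mul_assoc]⟩
      rw [Carries, show (x * b)⁻¹ * b = (b⁻¹ * x * b)⁻¹ by group]
      exact inv_mem hx'.2
    have c23 : ∃ g, Carries H g (u * b) (u * b) ∧ Carries H g (v * b) (x * v * b) := by
      refine ⟨u * k * u⁻¹, ?_, ?_⟩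
      · rw [Carries, show (u * k * u⁻¹ * (u * b))⁻¹ * (u * b) = (b⁻¹ * k * b)⁻¹ by group]
        exact inv_mem ((hK k).mp hk).2
      · rw [Carries, show (u * k * u⁻¹ * (v * b))⁻¹ * (x * v * b) =
          b⁻¹ * v⁻¹ * ((u * k * u⁻¹)⁻¹ * x) * v * b by group, el,
          show b⁻¹ * v⁻¹ * (v * l⁻¹ * v⁻¹) * v * b = (b⁻¹ * l * b)⁻¹ by group]
        exact inv_mem ((hK l).mp hl).2
    have s01 := c01.imp fun _ h => And.symm h
    have s02 := c02.imp fun _ h => And.symm h
    have s12 := c12.imp fun _ h => And.symm h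
    have s03 := c03.imp fun _ h => And.symm h
    have s13 := c13.imp fun _ h => And.symm h
    have s23 := c23.imp fun _ h => And.symm h
    fin_cases i <;> fin_cases j <;> first
      | exact absurd rfl hij
      | exact c01
      | exact c02
      | exact c12
      | exact c03
      | exact c13
      | exact c23
      | exact s01
      | exact s02
      | exact s12
      | exact s03
      | exact s13
      | exact s23
  have h0 := hg 0
  have h1 := hg 1
  have h2 := hg 2
  have h3 := hg 3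
  simp only [Carries, Matrix.cons_val] at h0 h1 h2 h3
  have hgH : g ∈ H := by simpa using h0
  have h1' : b⁻¹ * g * b ∈ H := by
    have := inv_mem h1
    rwa [show ((g * b)⁻¹ * b)⁻¹ = b⁻¹ * g * b by group] at this
  have hgK : g ∈ K := (hK g).mpr ⟨hgH, h1'⟩
  refine hno g hgK ((hK _).mpr ⟨mul_mem (mul_mem (inv_mem hu) hgH) hu, ?_⟩) ((hK _).mpr ⟨?_, ?_⟩)
  · have := inv_mem h2
    rwa [show ((g * (u * b))⁻¹ * (u * b))⁻¹ = b⁻¹ * (u⁻¹ * g * u) * b by group] at this
  · exact mul_mem (mul_mem (inv_mem hv) (mul_mem (inv_mem hgH) ((hK x).mp hx).1)) hv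
  · rwa [show (g * (v * b))⁻¹ * (x * v * b) = b⁻¹ * (v⁻¹ * (g⁻¹ * x) * v) * b by group] at h3

end Cfsg.Agent.SuzukiBinary
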