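import Cfsg.Agent.Lib.SuzukiGroupTrace
import Cfsg.Agent.Lib.SuzukiGroupBinaryCrit

/-!
The cosets of the centre of a Sylow 2-subgroup of the Suzuki group form a binary action.
-/

set_option autoImplicit false

namespace Cfsg.Agent.SuzukiBinary

open scoped LinearAlgebra.Projectivization
open MulAction Cfsg.Agent.SuzukiGroupBasic Cfsg.Agent.SuzukiGroupStructure
open Cfsg.Agent.SuzukiGroupCentralizer

variable {F : Type*} [Field F] {m : ℕ} [hP : Param F m]

set_option quotPrecheck false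
local notation "G" => ↥(Cfsg.Sz F m)
local notation "∞" => Cfsg.suzukiPointInfinity F
local notation "o" => Cfsg.suzukiPointZero F

variable (F m) in
/-- The centre of the standard Sylow 2-subgroup. -/
def zInf : Subgroup ↥(Cfsg.Sz F m) where
  carrier := {g | ∃ b, g = Ts 0 b}
  one_mem' := ⟨0, Ts_zero.symm⟩
  mul_mem' := by
    rintro _ _ ⟨b, rfl⟩ ⟨c, rfl⟩
    exact ⟨b + c + sg m 0 * 0, by rw [Ts_mul, add_zero]⟩
  inv_mem' := by
    rintro _ ⟨b, rfl⟩
    exact ⟨_, Ts_inv 0 b⟩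

theorem zInf_normal_borel {h : G} (hh : h • ∞ = ∞) {z : G} (hz : z ∈ zInf F m) :
    h * z * h⁻¹ ∈ zInf F m := by
  obtain ⟨a, c, k, rfl⟩ := fix_inf_iff.mp hh
  obtain ⟨b, rfl⟩ := hz
  refine ⟨(k : F) * sg m (k : F) * b, ?_⟩
  rw [show Ts a c * Hs k * Ts 0 b * (Ts a c * Hs k : G)⁻¹ =
    Ts a c * (Hs k * Ts 0 b * (Hs k)⁻¹) * (Ts a c)⁻¹ by group, Hs_Ts, mul_zero]
  rw [(commute_Ts_iff (m := m) 0 _).mpr rfl _ (Ts_mem a c), mul_inv_cancel_right]

theorem fix_zInf {z : G} (hz : z ∈ zInf F m) : z • ∞ = ∞ := by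
  obtain ⟨b, rfl⟩ := hz
  exact Ts_smul_inf 0 b

theorem sq_zInf {z : G} (hz : z ∈ zInf F m) : z * z = 1 := by
  obtain ⟨b, rfl⟩ := hz
  rw [← pow_two, Ts_sq_eq_one]

variable (m) in
/-- `z` lies in the conjugate of the centre belonging to the coset of `a`. -/
def InZ (a z : ↥(Cfsg.Sz F m)) : Prop := a⁻¹ * z * a ∈ zInf F m

theorem InZ.fix {a z : G} (h : InZ m a z) : z • (a • ∞) = a • ∞ := by
  rw [show z = a * (a⁻¹ * z * a) * a⁻¹ by group, conj_smul_eq, fix_zInf h]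

theorem InZ.unique_fix {a z : G} (h : InZ m a z) (h1 : z ≠ 1) {p : ℙ F (Fin 4 → F)}
    (hp : p ∈ suzukiOvoid F m) (hfix : z • p = p) : p = a • ∞ := by
  obtain ⟨b, hb⟩ := h
  have hne : (Ts 0 b : G) ≠ 1 := fun e => h1 (by
    rw [show z = a * (a⁻¹ * z * a) * a⁻¹ by group, hb, e, mul_one, mul_inv_cancel])
  have := Ts_fix hne (smul_mem_ovoid a⁻¹ hp) (by
    rw [← hb, mul_smul, smul_inv_smul, mul_smul, hfix])
  exact inv_smul_eq_iff.mp this

theorem InZ.congr {a a' z : G} (h : InZ m a z) (e : a • ∞ = a' • ∞) : InZ m a' z := by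
  have hh : (a'⁻¹ * a) • ∞ = ∞ := by rw [mul_smul, e, inv_smul_smul]
  have := zInf_normal_borel hh h
  rwa [show a'⁻¹ * a * (a⁻¹ * z * a) * (a'⁻¹ * a)⁻¹ = a'⁻¹ * z * a' by group] at this

theorem InZ.eq_one {a a' z : G} (h : InZ m a z) (h' : InZ m a' z) (e : a • ∞ ≠ a' • ∞) : z = 1 := by
  by_contra h1
  exact e (h.unique_fix h1 (smul_mem_ovoid a' inf_mem) h'.fix).symm

theorem InZ.inv_eq {a z : G} (h : InZ m a z) : z⁻¹ = z := by
  have h2 := sq_zInf h
  rw [show a⁻¹ * z * a * (a⁻¹ * z * a) = a⁻¹ * (z * z) * a by group] at h2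
  refine inv_eq_of_mul_eq_one_right ?_
  rw [show z * z = a * (a⁻¹ * (z * z) * a) * a⁻¹ by group, h2, mul_one, mul_inv_cancel]

/-- The product of two involutions with different fixed points is no involution. -/
theorem InZ.left_or_right {a a' a'' z z' : G} (h : InZ m a z) (h' : InZ m a' z')
    (h'' : InZ m a'' (z * z')) (e : a • ∞ ≠ a' • ∞) : z = 1 ∨ z' = 1 := by
  by_contra hc
  push Not at hc
  have hcomm : z * z' = z' * z := by
    conv_lhs => rw [← h''.inv_eq]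
    rw [mul_inv_rev, h.inv_eq, h'.inv_eq]
  have hfix : z • (z' • a • ∞) = z' • a • ∞ := by
    rw [← mul_smul, hcomm, mul_smul, h.fix]
  exact e (h'.unique_fix hc.2 (smul_mem_ovoid a inf_mem)
    (h.unique_fix hc.1 (smul_mem_ovoid z' (smul_mem_ovoid a inf_mem)) hfix))

theorem carries_inZ {g g' a b : G} (h : Carries (zInf F m) g a b) (h' : Carries (zInf F m) g' a b) :
    InZ m a (g⁻¹ * g') := by
  have := mul_mem h (inv_mem h')
  rwa [show (g * a)⁻¹ * b * ((g' * a)⁻¹ * b)⁻¹ = a⁻¹ * (g⁻¹ * g') * a by group] at this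

theorem carries_of_inZ {g g' a b : G} (h : Carries (zInf F m) g' a b) (hz : InZ m a (g⁻¹ * g')) :
    Carries (zInf F m) g a b := by
  have := mul_mem hz h
  rwa [show a⁻¹ * (g⁻¹ * g') * a * ((g' * a)⁻¹ * b) = (g * a)⁻¹ * b by group] at this

variable (F m) in
theorem binary_zInf : Binary (zInf F m) := by
  rw [binary_iff]
  intro n a b hn hp
  let i₀ : Fin n := ⟨0, by omega⟩
  by_cases hall : ∀ i, a i • ∞ = a i₀ • ∞
  · refine ⟨b i₀ * (a i₀)⁻¹, fun i => ?_⟩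
    have h0 : Carries (zInf F m) (b i₀ * (a i₀)⁻¹) (a i₀) (b i₀) := by
      rw [Carries, inv_mul_cancel_right, inv_mul_cancel]; exact one_mem _
    by_cases hi : i₀ = i
    · rw [← hi]; exact h0
    · obtain ⟨g, h1, h2⟩ := hp i₀ i hi
      exact carries_of_inZ h2 ((carries_inZ h0 h1).congr (hall i).symm)
  push Not at hall
  obtain ⟨j, hj⟩ := hall
  have h0j : i₀ ≠ j := fun e => hj (by rw [e])
  obtain ⟨g, hg0, hgj⟩ := hp i₀ j h0j
  refine ⟨g, fun i => ?_⟩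
  by_cases hi : i₀ = i
  · rw [← hi]; exact hg0
  by_cases hji : j = i
  · rw [← hji]; exact hgj
  obtain ⟨g1, h10, h1i⟩ := hp i₀ i hi
  by_cases hpi : a i • ∞ = a i₀ • ∞
  · exact carries_of_inZ h1i ((carries_inZ hg0 h10).congr hpi.symm)
  obtain ⟨g2, h2j, h2i⟩ := hp j i hji
  have z1 : InZ m (a i₀) (g⁻¹ * g1) := carries_inZ hg0 h10
  have z2 : InZ m (a i) (g1⁻¹ * g2) := carries_inZ h1i h2i
  have z3 : InZ m (a j) (g⁻¹ * g2) := carries_inZ hgj h2j
  have key : g⁻¹ * g1 = 1 := by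
    rcases z1.left_or_right z2 (a'' := a j) (by
      rw [show g⁻¹ * g1 * (g1⁻¹ * g2) = g⁻¹ * g2 by group]; exact z3) (Ne.symm hpi) with h | h
    · exact h
    · rw [inv_mul_eq_one] at h
      rw [← h] at z3
      exact z1.eq_one z3 hj.symm
  rw [inv_mul_eq_one.mp key]
  exact h1i

end Cfsg.Agent.SuzukiBinary
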