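import Cfsg.Agent.Lib.SuzukiGroupBinaryPoint

/-!
Proper subgroups of the centre of a Sylow 2-subgroup: annihilators with respect to the trace form.
-/

set_option autoImplicit false

namespace Cfsg.Agent.SuzukiBinary

open scoped LinearAlgebra.Projectivization
open MulAction Cfsg.Agent.SuzukiGroupBasic Cfsg.Agent.SuzukiGroupStructure
open Cfsg.Agent.SuzukiGroupTrace Cfsg.Agent.SuzukiGroupUChar

variable {F : Type*} [Field F] {m : ℕ} [hP : Param F m]

set_option quotPrecheck false
local notation "G" => ↥(Cfsg.Sz F m)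
local notation "qq" => (2 ^ (2 * m + 1) : ℕ)

variable (m) in
/-- The annihilator with respect to the trace form. -/
def perp (X : AddSubgroup F) : AddSubgroup F where
  carrier := {μ | ∀ e ∈ X, Tr m (μ * e) = 0}
  zero_mem' := fun e _ => by rw [zero_mul, Tr_zero]
  add_mem' := fun h1 h2 e he => by rw [add_mul, Tr_add, h1 e he, h2 e he, add_zero]
  neg_mem' := fun {x} h e he => by
    have := charTwo (F := F) (m := m)
    rw [CharTwo.neg_eq]; exact h e he

theorem card_mul_perp (X : AddSubgroup F) : Nat.card X * Nat.card (perp m X) = qq := by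
  classical
  have := finiteF (F := F) (m := m)
  have : Fintype F := Fintype.ofFinite F
  have h1 : ∀ μ : F, ∑ e : X, psi m (μ * (e : F)) = if μ ∈ perp m X then (Nat.card X : ℂ) else 0 := by
    intro μ
    by_cases hμ : μ ∈ perp m X
    · rw [if_pos hμ, Finset.sum_congr (s₁ := (Finset.univ : Finset X)) rfl fun e _ => show psi m (μ * (e : F)) = 1 by
        rw [psi, if_pos (hμ e e.2)], Finset.sum_const, Finset.card_univ, nsmul_eq_mul, mul_one,
        Nat.card_eq_fintype_card]
    · rw [if_neg hμ]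
      obtain ⟨e₀, he₀, hne⟩ : ∃ e₀ ∈ X, Tr m (μ * e₀) ≠ 0 := by
        by_contra hc
        push Not at hc
        exact hμ hc
      have hv : psi m (μ * e₀) = -1 := by rw [psi, if_neg hne]
      have h : ∑ e : X, psi m (μ * (e : F)) = psi m (μ * e₀) * ∑ e : X, psi m (μ * (e : F)) := by
        rw [Finset.mul_sum]
        exact (Fintype.sum_equiv (Equiv.addLeft (⟨e₀, he₀⟩ : X)) _ _ fun e => by
          simp [mul_add, psi_add]).symm
      rw [hv] at h
      linear_combination h / 2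
  have h2 : ∀ e : X, ∑ μ : F, psi m (μ * (e : F)) = if e = 0 then (qq : ℂ) else 0 := by
    intro e
    by_cases he : e = 0
    · rw [if_pos he, he, Finset.sum_congr (s₁ := (Finset.univ : Finset F)) rfl fun μ _ => show psi m (μ * ((0 : X) : F)) = 1 by
        rw [ZeroMemClass.coe_zero, mul_zero, psi_zero], Finset.sum_const, Finset.card_univ,
        nsmul_eq_mul, mul_one, ← Nat.card_eq_fintype_card, natCard (F := F) (m := m)]
    · rw [if_neg he, ← sum_psi (m := m) (c := (e : F)) (fun h => he (Subtype.ext h))]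
      exact Finset.sum_congr rfl fun μ _ => by rw [mul_comm]
  have h3 := Finset.sum_comm (s := (Finset.univ : Finset F)) (t := (Finset.univ : Finset X))
    (f := fun μ e => psi m (μ * (e : F)))
  rw [Finset.sum_congr rfl fun μ _ => h1 μ, Finset.sum_congr rfl fun e _ => h2 e,
    Finset.sum_ite_eq', if_pos (Finset.mem_univ _), Finset.sum_ite, Finset.sum_const_zero, add_zero,
    Finset.sum_const, nsmul_eq_mul, ← Fintype.card_subtype, ← Nat.card_eq_fintype_card] at h3
  rw [mul_comm]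
  exact_mod_cast h3

/-- An additive subgroup with trivial annihilator is everything. -/
theorem eq_top_of_perp {X : AddSubgroup F} (h : ∀ μ ∈ perp m X, μ = 0) : X = ⊤ := by
  have := finiteF (F := F) (m := m)
  have h1 := card_mul_perp (m := m) X
  rw [show perp m X = ⊥ from (AddSubgroup.eq_bot_iff_forall _).mpr h, AddSubgroup.card_bot,
    mul_one, ← natCard (F := F) (m := m)] at h1
  exact AddSubgroup.eq_top_of_card_eq _ h1

/-- A small additive subgroup misses one of its multiples. -/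
theorem exists_scalar {X : AddSubgroup F} (h : Nat.card X * Nat.card X < qq) :
    ∃ a : F, ∀ x ∈ X, a * x ∈ X → x = 0 := by
  classical
  have := finiteF (F := F) (m := m)
  by_contra hc
  push Not at hc
  choose f h1 h2 h3 using hc
  refine h.not_ge ?_
  rw [← natCard (F := F) (m := m), ← Nat.card_prod]
  refine Nat.card_le_card_of_injective (fun a => ((⟨f a, h1 a⟩ : X), (⟨a * f a, h2 a⟩ : X)))
    fun a b e => ?_
  have e1 : f a = f b := congrArg (fun p : X × X => (p.1 : F)) e
  have e2 : a * f a = b * f b := congrArg (fun p : X × X => (p.2 : F)) e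
  rw [← e1] at e2
  exact mul_right_cancel₀ (h3 a) e2

theorem exists_torus_scale {c : F} (hc : c ≠ 0) :
    ∃ k : Fˣ, ∀ e : F, (Hs k : G) * Ts 0 e * (Hs k)⁻¹ = Ts 0 (c * e) ∧
      (Hs k : G)⁻¹ * Ts 0 e * Hs k = Ts 0 (c⁻¹ * e) := by
  obtain ⟨k, hk⟩ := exists_mul_sg (m := m) c
  have hk0 : k ≠ 0 := by rintro rfl; rw [zero_mul] at hk; exact hc hk.symm
  refine ⟨Units.mk0 k hk0, fun e => ?_⟩
  have h1 : ∀ e : F, (Hs (Units.mk0 k hk0) : G) * Ts 0 e * (Hs (Units.mk0 k hk0))⁻¹ = Ts 0 (c * e) :=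
    fun e => by rw [Hs_Ts, Units.val_mk0, mul_zero, hk]
  refine ⟨h1 e, ?_⟩
  have h2 := h1 (c⁻¹ * e)
  rw [mul_inv_cancel_left₀ hc] at h2
  rw [← h2]; group

theorem Ts_zero_add (e f : F) : (Ts 0 e : G) * Ts 0 f = Ts 0 (e + f) := by
  rw [Ts_mul, add_zero, sg_zero, zero_mul, add_zero]

theorem Ts_zero_inv (e : F) : (Ts 0 e : G)⁻¹ = Ts 0 e := by
  rw [Ts_inv, mul_zero, add_zero]

/-- A proper nontrivial subgroup of the centre. -/
theorem not_binary_of_zInf {H : Subgroup G} (hH : H ≤ zInf F m) (hbot : H ≠ ⊥)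
    (hne : H ≠ zInf F m) : ¬ Binary H := by
  classical
  have := charTwo (F := F) (m := m)
  have := finiteF (F := F) (m := m)
  let E : AddSubgroup F :=
    { carrier := {e | (Ts 0 e : G) ∈ H}
      zero_mem' := by show (Ts 0 0 : G) ∈ H; rw [Ts_zero]; exact one_mem _
      add_mem' := fun {e f} he hf => by
        show (Ts 0 (e + f) : G) ∈ H
        rw [← Ts_zero_add]; exact mul_mem he hf
      neg_mem' := fun {e} he => by
        show (Ts 0 (-e) : G) ∈ H
        rw [CharTwo.neg_eq]; exact he }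
  have hE : ∀ e, e ∈ E ↔ (Ts 0 e : G) ∈ H := fun e => Iff.rfl
  obtain ⟨l₀, hl₀, hl₀0⟩ : ∃ l ∈ E, l ≠ 0 := by
    by_contra hc
    push Not at hc
    refine hbot ((Subgroup.eq_bot_iff_forall _).mpr fun g hg => ?_)
    obtain ⟨e, rfl⟩ := hH hg
    rw [hc e hg, Ts_zero]
  have hLne : ∃ μ ∈ perp m E, μ ≠ 0 := by
    by_contra hc
    push Not at hc
    refine hne (le_antisymm hH ?_)
    rintro _ ⟨e, rfl⟩
    exact (hE e).mp (eq_top_of_perp hc ▸ AddSubgroup.mem_top e)
  have hcard : Nat.card E * Nat.card E < qq ∨ Nat.card (perp m E) * Nat.card (perp m E) < qq := by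
    by_contra hc
    push Not at hc
    obtain ⟨i, -, hi⟩ := (Nat.dvd_prime_pow Nat.prime_two).mp
      (Dvd.intro (Nat.card (perp m E)) (card_mul_perp (m := m) E) : Nat.card E ∣ qq)
    have h1 := card_mul_perp (m := m) E
    have hsq : Nat.card E * Nat.card E = qq := by
      have h3 : Nat.card E * Nat.card E * (Nat.card (perp m E) * Nat.card (perp m E)) = qq * qq := by
        rw [← h1]; ring
      have hq : 0 < qq := by positivity
      nlinarith [hc.1, hc.2, h3, hq]
    rw [hi, ← pow_add] at hsq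
    have := Nat.pow_right_injective (le_refl 2) hsq
    omega
  rcases hcard with hsm | hsm
  · -- the subgroup is small
    obtain ⟨a, ha⟩ := exists_scalar hsm
    have ha0 : a ≠ 0 := fun h => hl₀0 (ha _ hl₀ (by rw [h, zero_mul]; exact zero_mem _))
    have ha1 : a ≠ 1 := fun h => hl₀0 (ha _ hl₀ (by rw [h, one_mul]; exact hl₀))
    have hc0 : 1 + a ≠ 0 := fun h => ha1 (CharTwo.add_eq_zero.mp h).symm
    obtain ⟨ka, hka⟩ := exists_torus_scale (m := m) ha0
    obtain ⟨kc, hkc⟩ := exists_torus_scale (m := m) hc0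
    refine not_binary_of_tri_top ⟨Hs ka, Subgroup.mem_top _, Hs kc, Subgroup.mem_top _, Ts 0 l₀, hl₀,
      Ts 0 l₀, hl₀, Ts 0 l₀, hl₀, ?_, fun g hg hgu hx => ?_⟩
    · rw [(hka l₀).1, (hkc l₀).1, Ts_zero_inv, Ts_zero_add, add_mul, one_mul]
    obtain ⟨e, rfl⟩ := hH hg
    rw [(hka e).2] at hgu
    have he : e = 0 := by
      have h := ha (a⁻¹ * e) hgu (by rw [mul_inv_cancel_left₀ ha0]; exact hg)
      exact (mul_eq_zero.mp h).resolve_left (inv_ne_zero ha0)
    rw [he, Ts_zero, inv_one, one_mul, (hkc l₀).2] at hx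
    set e' := (1 + a)⁻¹ * l₀ with he'
    have hl : l₀ = e' + a * e' := by
      rw [show e' + a * e' = (1 + a) * e' by ring, he', mul_inv_cancel_left₀ hc0]
    have hae : a * e' ∈ E := by
      have h := E.add_mem hl₀ (show e' ∈ E from hx)
      rwa [show l₀ + e' = a * e' by rw [hl]; grind] at h
    have := ha e' hx hae
    rw [this, mul_zero, add_zero] at hl
    exact hl₀0 hl
  · -- the annihilator is small
    obtain ⟨l, hl, hl0⟩ := hLne
    obtain ⟨a, ha⟩ := exists_scalar hsm
    have ha0 : a ≠ 0 := fun h => hl0 (ha _ hl (by rw [h, zero_mul]; exact zero_mem _))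
    have ha1 : a ≠ 1 := fun h => hl0 (ha _ hl (by rw [h, one_mul]; exact hl))
    set c := 1 + a with hc
    have hc0 : c ≠ 0 := fun h => ha1 (CharTwo.add_eq_zero.mp h).symm
    obtain ⟨ka, hka⟩ := exists_torus_scale (m := m) (inv_ne_zero ha0)
    obtain ⟨kc, hkc⟩ := exists_torus_scale (m := m) (inv_ne_zero hc0)
    obtain ⟨e₀, he₀, hTr⟩ : ∃ e₀ ∈ E, Tr m (c * l * e₀) ≠ 0 := by
      by_contra hcon
      push Not at hcon
      refine hl0 (ha l hl ?_)
      have hcl : c * l ∈ perp m E := hcon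
      have h := AddSubgroup.add_mem _ hcl hl
      rwa [show c * l + l = a * l by rw [hc]; grind] at h
    let BC : AddSubgroup F :=
      E.map (AddMonoidHom.mulLeft a⁻¹) ⊔ E.map (AddMonoidHom.mulLeft c⁻¹)
    have hBC : BC = ⊤ := eq_top_of_perp (m := m) fun μ hμ => by
      have hA : a⁻¹ * μ ∈ perp m E := fun e he => by
        rw [show a⁻¹ * μ * e = μ * (a⁻¹ * e) by ring]
        exact hμ _ (AddSubgroup.mem_sup_left ⟨e, he, rfl⟩)
      have hC : c⁻¹ * μ ∈ perp m E := fun e he => by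
        rw [show c⁻¹ * μ * e = μ * (c⁻¹ * e) by ring]
        exact hμ _ (AddSubgroup.mem_sup_right ⟨e, he, rfl⟩)
      have hsum := AddSubgroup.add_mem _ hA hC
      have hmul : a * (a⁻¹ * μ + c⁻¹ * μ) = c⁻¹ * μ := by
        have e1 : a * a⁻¹ = 1 := mul_inv_cancel₀ ha0
        have e2 : (1 + a) * c⁻¹ = 1 := mul_inv_cancel₀ hc0
        grind
      have := ha _ hsum (by rw [hmul]; exact hC)
      rw [this, mul_zero, eq_comm, mul_eq_zero] at hmul
      exact hmul.resolve_left (inv_ne_zero hc0)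
    obtain ⟨_, ⟨e₁, he₁, rfl⟩, _, ⟨e₂, he₂, rfl⟩, hdec⟩ :=
      AddSubgroup.mem_sup.mp (hBC ▸ AddSubgroup.mem_top e₀ : e₀ ∈ BC)
    simp only [AddMonoidHom.coe_mulLeft] at hdec
    refine not_binary_of_tri_top ⟨Hs ka, Subgroup.mem_top _, Hs kc, Subgroup.mem_top _, Ts 0 e₀, he₀,
      Ts 0 e₁, he₁, Ts 0 e₂, he₂, ?_, fun g hg hgu hx => ?_⟩
    · rw [(hka e₁).1, (hkc e₂).1, Ts_zero_inv, Ts_zero_add]
      congr 1
      rw [← hdec]; grind
    obtain ⟨e, rfl⟩ := hH hg
    rw [(hka e).2, inv_inv] at hgu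
    rw [Ts_zero_inv, Ts_zero_add, (hkc _).2, inv_inv] at hx
    refine hTr ?_
    have h1 : Tr m (l * (c * (e + e₀))) = 0 := hl _ hx
    have h2 : Tr m (l * e) = 0 := hl _ hg
    have h3 : Tr m (l * (a * e)) = 0 := hl _ hgu
    rw [show l * (c * (e + e₀)) = l * e + l * (a * e) + c * l * e₀ by rw [hc]; ring, Tr_add, Tr_add,
      h2, h3, add_zero, zero_add] at h1
    exact h1

end Cfsg.Agent.SuzukiBinary
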