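import Cfsg.Agent.Lib.SuzukiGroupUChar
import Cfsg.Agent.Lib.SuzukiGroupBinaryCenter

/-!
Subgroups of the Suzuki group fixing a point: the action on their cosets is not binary, unless
the subgroup is trivial or is the centre of a Sylow 2-subgroup.
-/

set_option autoImplicit false

namespace Cfsg.Agent.SuzukiBinary

open scoped LinearAlgebra.Projectivization
open MulAction Cfsg.Agent.SuzukiGroupBasic Cfsg.Agent.SuzukiGroupStructure
open Cfsg.Agent.SuzukiGroupCentralizer Cfsg.Agent.SuzukiGroupGow Cfsg.Agent.SuzukiGroupTrace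

variable {F : Type*} [Field F] {m : ℕ} [hP : Param F m]

set_option quotPrecheck false
local notation "G" => ↥(Cfsg.Sz F m)
local notation "∞" => Cfsg.suzukiPointInfinity F
local notation "o" => Cfsg.suzukiPointZero F

/-! ### Subgroups containing a torus element -/

theorem eq_one_of_mem_unipotent_commute {k : Fˣ} (hk : k ≠ 1) {v : G}
    (hv : v ∈ (unipotent : Subgroup G)) (hc : Commute v (Hs k)) : v = 1 := by
  obtain ⟨a, b, rfl⟩ := hv
  obtain ⟨l, hl⟩ := commute_Hs_eq hk hc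
  obtain ⟨rfl, rfl, -⟩ := Ts_Hs_injective (c := 0) (d := 0) (k := 1) (l := l)
    (show (Ts a b : G) * Hs 1 = Ts 0 0 * Hs l by rw [Hs_one, mul_one, Ts_zero, one_mul, hl])
  exact Ts_zero

/-- A torus element is conjugate to each element of its coset of the unipotent group. -/
theorem exists_conj_Hs {M : Subgroup G} {c : Fˣ} (hc : c ≠ 1) (hcM : (Hs c : G) ∈ M) {t : G}
    (ht : t ∈ (unipotent : Subgroup G) ⊓ M) :
    ∃ v ∈ (unipotent : Subgroup G) ⊓ M, v * Hs c * v⁻¹ = t * Hs c := by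
  let S : Subgroup G := (unipotent : Subgroup G) ⊓ M
  have hmem : ∀ v : ↥S, (v : G) * Hs c * (v : G)⁻¹ * (Hs c)⁻¹ ∈ S := fun v => by
    obtain ⟨h1, h2⟩ := Subgroup.mem_inf.mp v.2
    refine Subgroup.mem_inf.mpr ⟨?_, mul_mem (mul_mem (mul_mem h2 hcM) (inv_mem h2)) (inv_mem hcM)⟩
    rw [show (v : G) * Hs c * (v : G)⁻¹ * (Hs c)⁻¹ = (v : G) * (Hs c * (v : G)⁻¹ * (Hs c)⁻¹) by group]
    exact mul_mem h1 (conj_mem_unipotent (Hs_smul_inf c) (inv_mem h1))
  let f : ↥S → ↥S := fun v => ⟨_, hmem v⟩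
  have hinj : Function.Injective f := by
    intro v w e
    have e' : (v : G) * Hs c * (v : G)⁻¹ = (w : G) * Hs c * (w : G)⁻¹ :=
      mul_right_cancel (congrArg Subtype.val e)
    have hcomm : Commute ((w : G)⁻¹ * (v : G)) (Hs c) := by
      show (w : G)⁻¹ * (v : G) * Hs c = Hs c * ((w : G)⁻¹ * (v : G))
      calc (w : G)⁻¹ * (v : G) * Hs c = (w : G)⁻¹ * ((v : G) * Hs c * (v : G)⁻¹) * (v : G) := by group
        _ = Hs c * ((w : G)⁻¹ * (v : G)) := by rw [e']; group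
    exact Subtype.ext (inv_mul_eq_one.mp
      (eq_one_of_mem_unipotent_commute hc
        (mul_mem (inv_mem (Subgroup.mem_inf.mp w.2).1) (Subgroup.mem_inf.mp v.2).1) hcomm)).symm
  obtain ⟨v, hv⟩ := Finite.injective_iff_surjective.mp hinj ⟨t, ht⟩
  exact ⟨v, v.2, by rw [← show (v : G) * Hs c * (v : G)⁻¹ * (Hs c)⁻¹ = t from
    congrArg Subtype.val hv, inv_mul_cancel_right]⟩

theorem pt_ne_zero_point {a b : F} (h : (Ts a b : G) ≠ 1) : (Ts a b : G) • o ≠ o := fun e =>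
  inf_ne_zero (Ts_fix h zero_mem e).symm

/-- A torus element and a translation defeat binarity. -/
theorem tri_of_torus {M K : Subgroup G} {k : Fˣ} (hk : k ≠ 1) (hkK : (Hs k : G) ∈ K) (hKM : K ≤ M)
    {a b : F} (hu : (Ts a b : G) ∈ M) (hu1 : (Ts a b : G) ≠ 1)
    (hK : ∀ g ∈ K, (g • ∞ = ∞ ∧ g • o = o) ∨ (g • ∞ = o ∧ g • o = ∞)) : Tri M K := by
  have := charTwo (F := F) (m := m)
  have hkM : (Hs k : G) ∈ M := hKM hkK
  have hk2 : k * k ≠ 1 := fun e => hk (Units.ext (by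
    have h2 : (k : F) ^ 2 = 1 := by rw [pow_two, ← Units.val_mul, e, Units.val_one]
    have h3 : ((k : F) + 1) ^ 2 = 0 := by rw [CharTwo.add_sq, h2, one_pow, CharTwo.add_self_eq_zero]
    exact CharTwo.add_eq_zero.mp (pow_eq_zero_iff two_ne_zero |>.mp h3)))
  set u : G := Ts a b
  have hkkM : (Hs (k * k) : G) ∈ M := by rw [← Hs_mul]; exact mul_mem hkM hkM
  have hkkK : (Hs (k * k) : G) ∈ K := by rw [← Hs_mul]; exact mul_mem hkK hkK
  have ht : Hs k * u * (Hs k)⁻¹ * (Hs (k * k) * u⁻¹ * (Hs (k * k))⁻¹) ∈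
      (unipotent : Subgroup G) ⊓ M :=
    Subgroup.mem_inf.mpr ⟨mul_mem (conj_mem_unipotent (Hs_smul_inf k) (Ts_mem a b))
      (conj_mem_unipotent (Hs_smul_inf _) (inv_mem (Ts_mem a b))),
      mul_mem (mul_mem (mul_mem hkM hu) (inv_mem hkM))
        (mul_mem (mul_mem hkkM (inv_mem hu)) (inv_mem hkkM))⟩
  obtain ⟨v, hvS, hv⟩ := exists_conj_Hs hk2 hkkM ht
  obtain ⟨hvU, hvM⟩ := Subgroup.mem_inf.mp hvS
  obtain ⟨c, d, rfl⟩ := hvU
  have e : ((Hs k)⁻¹)⁻¹ * (u * Hs k * u⁻¹) = Ts c d * Hs (k * k) * (Ts c d : G)⁻¹ := by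
    rw [hv, ← Hs_mul]; group
  refine ⟨u, hu, Ts c d, hvM, (Hs k)⁻¹, inv_mem hkK, Hs k, hkK, Hs (k * k),
    hkkK, e, fun g hg hgu hx => ?_⟩
  have huo : u • o ≠ o := pt_ne_zero_point hu1
  have huinf : u • ∞ = ∞ := Ts_smul_inf a b
  have huo' : u • o ≠ ∞ := fun e => inf_ne_zero
    (smul_left_cancel u (huinf.trans e.symm))
  -- the element `g` fixes three points
  have hg1 : g = 1 := by
    have h2 : (g • ∞ = ∞ ∧ g • (u • o) = u • o) ∨ (g • ∞ = u • o) := by
      rcases hK _ hgu with ⟨h1, h2⟩ | ⟨h1, h2⟩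
      · rw [mul_smul, mul_smul, huinf, inv_smul_eq_iff, huinf] at h1
        rw [mul_smul, mul_smul, inv_smul_eq_iff] at h2
        exact Or.inl ⟨h1, h2⟩
      · rw [mul_smul, mul_smul, huinf, inv_smul_eq_iff] at h1
        exact Or.inr h1
    rcases hK g hg with ⟨h1, h1'⟩ | ⟨h1, h1'⟩
    · rcases h2 with ⟨-, h2⟩ | h2
      · exact eq_one_of_fix_three inf_mem zero_mem (smul_mem_ovoid u zero_mem) inf_ne_zero
          (Ne.symm huo) (Ne.symm huo') h1 h1' h2
      · exact absurd (h2.symm.trans h1) huo'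
    · rcases h2 with ⟨h2, -⟩ | h2
      · exact absurd (h2.symm.trans h1) inf_ne_zero
      · exact absurd (h2.symm.trans h1) huo
  rw [hg1, inv_one, one_mul] at hx
  have hxfix : ((Hs k)⁻¹ : G) • ∞ = ∞ := by rw [inv_smul_eq_iff, Hs_smul_inf]
  have hvo : (Hs k : G) • ((Ts c d : G) • o) = (Ts c d : G) • o := by
    rcases hK _ hx with ⟨-, h2⟩ | ⟨h1, -⟩
    · rw [mul_smul, mul_smul, inv_smul_eq_iff, inv_smul_eq_iff] at h2
      exact h2.symm
    · rw [mul_smul, mul_smul, Ts_smul_inf, hxfix, inv_smul_eq_iff.mpr (Ts_smul_inf c d).symm] at h1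
      exact absurd h1 inf_ne_zero
  have hv1 : (Ts c d : G) = 1 := by
    by_contra hne
    rcases Hs_fix hk (smul_mem_ovoid _ zero_mem) hvo with h | h
    · exact inf_ne_zero (smul_left_cancel (Ts c d : G) ((Ts_smul_inf c d).trans h.symm))
    · exact pt_ne_zero_point hne h
  rw [hv1, ← Hs_mul, inv_one, mul_one, one_mul, inv_inv] at e
  have e' := mul_left_cancel e
  refine hu1 (eq_one_of_mem_unipotent_commute hk (Ts_mem a b) ?_)
  show u * Hs k = Hs k * u
  calc u * Hs k = u * Hs k * u⁻¹ * u := by group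
    _ = Hs k * u := by rw [e']

/-- Subgroups stabilising the two points `∞`, `o` and containing a torus element. -/
theorem not_binary_of_two_points {H : Subgroup G} {k : Fˣ} (hk : k ≠ 1) (hkH : (Hs k : G) ∈ H)
    (hH : ∀ g ∈ H, (g • ∞ = ∞ ∧ g • o = o) ∨ (g • ∞ = o ∧ g • o = ∞)) : ¬ Binary H :=
  not_binary_of_tri_top (tri_of_torus hk hkH le_top (a := 1) (b := 0) (Subgroup.mem_top _)
    (fun e => one_ne_zero (Ts_eq_one e).1) hH)

/-- A subgroup of the Borel subgroup with a torus element. -/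
theorem not_binary_of_borel_torus {H : Subgroup G} (hH : ∀ g ∈ H, g • ∞ = ∞) {k : Fˣ} (hk : k ≠ 1)
    (hkH : (Hs k : G) ∈ H) : ¬ Binary H := by
  by_cases ho : ∀ g ∈ H, g • o = o
  · exact not_binary_of_two_points hk hkH fun g hg => Or.inl ⟨hH g hg, ho g hg⟩
  push Not at ho
  obtain ⟨h, hh, hho⟩ := ho
  obtain ⟨a, b, l, rfl⟩ := fix_inf_iff.mp (hH h hh)
  have hab : (Ts a b : G) ≠ 1 := fun e => hho (by rw [e, one_mul, Hs_smul_zero])
  have hU := mul_mem (Ts_mem (m := m) a b)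
    (conj_mem_unipotent (g := (Hs k : G)) (Hs_smul_inf k) (inv_mem (Ts_mem (m := m) a b)))
  have eC : (Ts a b * Hs l * Hs k * (Ts a b * Hs l)⁻¹ * (Hs k)⁻¹ : G) =
      Ts a b * (Hs k * (Ts a b)⁻¹ * (Hs k)⁻¹) := by
    rw [show (Ts a b * Hs l * Hs k * (Ts a b * Hs l)⁻¹ * (Hs k)⁻¹ : G) =
      Ts a b * (Hs l * Hs k * (Hs l)⁻¹) * (Ts a b)⁻¹ * (Hs k)⁻¹ by group, Hs_mul, mul_comm l,
      ← Hs_mul]
    group
  have hCH : Ts a b * (Hs k * (Ts a b)⁻¹ * (Hs k : G)⁻¹) ∈ H :=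
    eC ▸ mul_mem (mul_mem (mul_mem hh hkH) (inv_mem hh)) (inv_mem hkH)
  obtain ⟨c, d, hcd⟩ := hU
  rw [hcd] at hCH
  have hne : (Ts c d : G) ≠ 1 := fun e => hab (eq_one_of_mem_unipotent_commute hk (Ts_mem a b) (by
    show (Ts a b : G) * Hs k = Hs k * Ts a b
    calc (Ts a b : G) * Hs k = Ts a b * (Hs k * (Ts a b)⁻¹ * (Hs k)⁻¹) * (Hs k * Ts a b) := by group
      _ = Hs k * Ts a b := by rw [hcd, e, one_mul]))
  let K : Subgroup G := H ⊓ H.map (MulAut.conj (Ws : G)).toMonoidHom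
  have hK : ∀ g, g ∈ K ↔ g ∈ H ∧ (Ws : G)⁻¹ * g * Ws ∈ H := fun g => by
    rw [Subgroup.mem_inf, Subgroup.mem_map_equiv, MulAut.conj_symm_apply]
  refine not_binary_of_tri Ws hK (tri_of_torus hk ((hK _).mpr ⟨hkH, ?_⟩) inf_le_left hCH hne
    fun g hg => Or.inl ⟨hH g ((hK g).mp hg).1, ?_⟩)
  · rw [show (Ws : G)⁻¹ * Hs k * Ws = Ws * Hs k * Ws⁻¹ by rw [Ws_inv], Ws_Hs]
    rw [show (Hs k⁻¹ : G) = (Hs k)⁻¹ from map_inv (torusHom : Fˣ →* G) k]
    exact inv_mem hkH
  · have := hH _ ((hK g).mp hg).2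
    rwa [mul_smul, mul_smul, inv_smul_eq_iff, Ws_smul_inf] at this

/-! ### Subgroups of the unipotent group -/

theorem exists_sg_ratio {c : F} (hc : c ≠ 0) : ∃ d : F, d ≠ 0 ∧ sg m d = c * d := by
  have := finiteF (F := F) (m := m)
  let f : F → F := fun d => sg m d / d
  have hinj : Function.Injective f := by
    intro d e h
    by_cases hd : d = 0
    · subst hd
      by_contra he
      have : sg m e / e = 0 := by simpa [f] using h.symm
      rcases div_eq_zero_iff.mp this with h' | h'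
      exacts [he (sg_eq_zero.mp h').symm, he h'.symm]
    by_cases he : e = 0
    · subst he
      have : sg m d / d = 0 := by simpa [f] using h
      rcases div_eq_zero_iff.mp this with h' | h'
      exacts [absurd (sg_eq_zero.mp h') hd, absurd h' hd]
    have h' : sg m d * e = sg m e * d := (div_eq_div_iff hd he).mp h
    rcases eq_zero_or_one_of_sg_self (m := m) (x := d / e) (by
      rw [sg_div, div_eq_div_iff (sg_ne_zero he) he, h']; ring) with h1 | h1
    · exact absurd h1 (div_ne_zero hd he)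
    · exact (div_eq_one_iff_eq he).mp h1
  obtain ⟨d, hd⟩ := Finite.injective_iff_surjective.mp hinj c
  have hd0 : d ≠ 0 := fun h => hc (by rw [← hd]; simp [f, h])
  exact ⟨d, hd0, (div_eq_iff hd0).mp hd⟩

/-- A subgroup of the unipotent group with an element of order four. -/
theorem not_binary_of_unipotent {H : Subgroup G} (hH : H ≤ (unipotent : Subgroup G)) {a b : F}
    (hab : (Ts a b : G) ∈ H) (ha : a ≠ 0) : ¬ Binary H := by
  have := charTwo (F := F) (m := m)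
  have hff : ff m a b ≠ 0 := fun h => ha (ff_eq_zero h).1
  have hsaa : sg m a * a ≠ 0 := mul_ne_zero (sg_ne_zero ha) ha
  obtain ⟨d, hd0, hd⟩ := exists_sg_ratio (m := m) (c := a * sg m a / ff m a b)
    (div_ne_zero (mul_ne_zero ha (sg_ne_zero ha)) hff)
  set X : G := Ts a b with hX
  have hX1 : X ≠ 1 := fun e => ha (Ts_eq_one e).1
  set y : G := Ws * Ts 0 d * Ws with hy
  have hWW : ∀ p : ℙ F (Fin 4 → F), (Ws : G) • (Ws : G) • p = p := fun p => by
    rw [← mul_smul, Ws_mul_Ws, one_smul]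
  have hT0 : (Ts 0 d : G) ≠ 1 := fun h => hd0 (Ts_eq_one h).2
  have hyinf : y • ∞ ≠ ∞ := by
    intro e
    rw [hy, mul_smul, mul_smul, Ws_smul_inf] at e
    have e' := congrArg (fun p => (Ws : G) • p) e
    rw [hWW, Ws_smul_inf] at e'
    exact pt_ne_zero_point hT0 e'
  obtain ⟨u, hu⟩ : ∃ u : G, u * X ^ 2 * u⁻¹ = y := by
    refine isConj_iff.mp ?_
    rw [hX, Ts_sq]
    exact ((Ts_zero_normal hsaa).trans (Ts_zero_normal hd0).symm).trans
      (isConj_iff.mpr ⟨Ws, by rw [Ws_inv]⟩)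
  have huinf : u • ∞ = o := by
    have h1 : y • (u • ∞) = u • ∞ := by
      rw [← hu, conj_smul_eq, hX, Ts_sq, Ts_smul_inf]
    rw [hy, mul_smul, mul_smul] at h1
    have h2 := congrArg (fun p => (Ws : G) • p) h1
    rw [hWW] at h2
    have h3 := Ts_fix (fun h => hd0 (Ts_eq_one h).2)
      (smul_mem_ovoid _ (smul_mem_ovoid u inf_mem)) h2
    have h4 := congrArg (fun p => (Ws : G) • p) h3
    rw [hWW] at h4
    rw [h4, Ws_smul_inf]
  set z : G := X * y with hzdef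
  have hz1 : z ≠ 1 := fun e => hyinf (by
    rw [show y = X⁻¹ * z by rw [hzdef]; group, e, mul_one, inv_smul_eq_iff, hX, Ts_smul_inf])
  have htr : trM z = 0 := by
    rw [hzdef, hX, hy, trM_Ts_Ws, sg_zero, ff, ff, sg_zero]
    rw [show a * b + a ^ 2 * sg m a + sg m b = ff m a b from rfl, hd]
    field_simp
    grind
  have hns : ¬ Semi z := fun hs => trM_ne_zero hs htr
  obtain ⟨v, l, hlH, hlinf, hl1, hvl⟩ : ∃ v l : G, l ∈ H ∧ l • ∞ = ∞ ∧ l ≠ 1 ∧ z = v * l * v⁻¹ := by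
    have key : ∀ l : G, l ∈ H → l • ∞ = ∞ → l ≠ 1 → IsConj l z →
        ∃ v l : G, l ∈ H ∧ l • ∞ = ∞ ∧ l ≠ 1 ∧ z = v * l * v⁻¹ := by
      intro l h1 h2 h3 hc
      obtain ⟨v, hv⟩ := isConj_iff.mp hc
      exact ⟨v, l, h1, h2, h3, hv.symm⟩
    rcases not_semi_cases hz1 hns with ⟨-, hc⟩ | ⟨-, e, hc⟩
    · refine key (X ^ 2) (pow_mem hab 2) ?_ ?_ ?_ <;> rw [hX, Ts_sq]
      · exact Ts_smul_inf _ _
      · exact fun h => hsaa (Ts_eq_one h).2
      · exact (Ts_zero_normal hsaa).trans hc.symm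
    · have hinv : X⁻¹ = Ts a (b + sg m a * a) := Ts_inv a b
      have hsum : Tr m ((b + sg m a * a) / (a * sg m a)) = Tr m (b / (a * sg m a)) + 1 := by
        rw [add_div, mul_comm (sg m a), div_self (mul_ne_zero ha (sg_ne_zero ha)), Tr_add, Tr_one]
      have he : Tr m e = Tr m (b / (a * sg m a)) ∨ Tr m e = Tr m (b / (a * sg m a)) + 1 := by
        rcases Tr_val (m := m) e with h | h <;>
          rcases Tr_val (m := m) (b / (a * sg m a)) with h' | h' <;> rw [h, h'] <;>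
          simp [CharTwo.add_self_eq_zero]
      rcases he with h | h
      · refine key X hab (Ts_smul_inf a b) hX1 (IsConj.trans ?_ hc.symm)
        exact isConj_Ts ha one_ne_zero (by rw [sg_one, mul_one, div_one, h])
      · refine key X⁻¹ (inv_mem hab) (by rw [hinv]; exact Ts_smul_inf _ _)
          (inv_ne_one.mpr hX1) (IsConj.trans ?_ hc.symm)
        rw [hinv]
        exact isConj_Ts ha one_ne_zero (by rw [sg_one, mul_one, div_one, h, hsum])
  refine not_binary_of_tri_top ⟨u, Subgroup.mem_top _, v, Subgroup.mem_top _, X⁻¹, inv_mem hab,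
    X ^ 2, pow_mem hab 2, l, hlH, ?_, fun g hg hgu hx => ?_⟩
  · rw [inv_inv, hu, ← hvl]
  have hUfix : ∀ g ∈ H, g • ∞ = ∞ := fun g hg => mem_stabilizer_iff.mp (unipotent_le_borel (hH hg))
  have hg1 : g = 1 := by
    by_contra hne
    have hfix : g • o = o := by
      have := hUfix _ hgu
      rwa [mul_smul, mul_smul, huinf, inv_smul_eq_iff, huinf] at this
    obtain ⟨c, e, rfl⟩ := hH hg
    exact pt_ne_zero_point hne hfix
  rw [hg1, inv_one, one_mul] at hx
  have hfixv : X⁻¹ • (v • ∞) = v • ∞ := by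
    have := hUfix _ hx
    rwa [mul_smul, mul_smul, inv_smul_eq_iff] at this
  have hv : v • ∞ = ∞ := by
    rw [Ts_inv] at hfixv
    exact Ts_fix (fun h => ha (Ts_eq_one h).1) (smul_mem_ovoid v inf_mem) hfixv
  refine hyinf ?_
  have hz : z • ∞ = ∞ := by
    rw [hvl, ← hv, conj_smul_eq, hlinf, hv]
  rw [show y = X⁻¹ * z by rw [hzdef]; group, mul_smul, hz, inv_smul_eq_iff, hX, Ts_smul_inf]

end Cfsg.Agent.SuzukiBinary
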