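import Cfsg.Agent.Lib.SuzukiGroupCover
import Cfsg.Agent.Lib.SuzukiGroupBinaryPoint

/-!
Subgroups of the Suzuki group normalising a cyclic part and meeting it: the action on their cosets
is not binary.
-/

set_option autoImplicit false

namespace Cfsg.Agent.SuzukiBinary

open scoped LinearAlgebra.Projectivization
open MulAction Cfsg.Agent.SuzukiGroupBasic Cfsg.Agent.SuzukiGroupStructure
open Cfsg.Agent.SuzukiGroupCentralizer Cfsg.Agent.SuzukiGroupTori Cfsg.Agent.SuzukiGroupPartition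
open Cfsg.Agent.SuzukiGroupNormalizers Cfsg.Agent.SuzukiGroupGow Cfsg.Agent.SuzukiGroupTrace
open Cfsg.Agent.SuzukiGroupCover Cfsg.Agent.SuzukiGroupUChar

variable {F : Type*} [Field F] {m : ℕ} [hP : Param F m]

set_option quotPrecheck false
local notation "G" => ↥(Cfsg.Sz F m)
local notation "∞" => Cfsg.suzukiPointInfinity F
local notation "o" => Cfsg.suzukiPointZero F
local notation "qq" => (2 ^ (2 * m + 1) : ℕ)
local notation "N[" U "]" => Subgroup.normalizer ((U : Subgroup ↥(Cfsg.Sz F m)) : Set ↥(Cfsg.Sz F m))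

omit hP in
theorem orderOf_conj' (c g : G) : orderOf (c * g * c⁻¹) = orderOf g := by
  rw [← MulAut.conj_apply, MulEquiv.orderOf_eq]

omit hP in
theorem orderOf_conj'' (c g : G) : orderOf (c⁻¹ * g * c) = orderOf g := by
  simpa using orderOf_conj' c⁻¹ g

/-- An element of the normaliser with semisimple conjugate lies in the part. -/
theorem semi_mem {V : Subgroup G} (hV : IsCycPart F m V) {x : G} (hx : x ∈ N[V]) (hs : Semi x) : x ∈ V :=
  hV.mem_of_not_dvd_four hx hs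

theorem mem_of_commute {V : Subgroup G} (hV : IsCycPart F m V) {x g : G} (hx : x ∈ V) (hx1 : x ≠ 1)
    (h : g * x = x * g) : g ∈ V := by
  rw [← hV.eq_centralizer hx hx1]
  exact Subgroup.mem_centralizer_singleton_iff.mpr h

theorem normalises_of_conj {V : Subgroup G} (hV : IsCycPart F m V) {x b : G} (hx : x ∈ V)
    (hx1 : x ≠ 1) (hxb : b⁻¹ * x * b ∈ V) : b ∈ N[V] := by
  have hmap : V.map (MulAut.conj b).toMonoidHom = V :=
    part_eq (isPart_map hV.isPart b) hV.isPart hx1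
      ⟨b⁻¹ * x * b, hxb, by simp [mul_assoc]⟩ hx
  rw [Subgroup.mem_normalizer_iff]
  intro g
  conv_rhs => rw [← hmap, Subgroup.mem_map_equiv, MulAut.conj_symm_apply]
  rw [show b⁻¹ * (b * g * b⁻¹) * b = g by group]

/-- The centre of a Sylow subgroup does not fit into the normaliser of a cyclic part. -/
theorem exists_not_normalises {V : Subgroup G} (hV : IsCycPart F m V) {g : G} (hg : orderOf g ∣ 4)
    (hg1 : g ≠ 1) : ∃ b : G, b * g = g * b ∧ b ∉ N[V] := by
  have := finiteF (F := F) (m := m)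
  obtain ⟨c, a, a', hc⟩ := exists_conj_Ts_of_even hg1 hg
  by_contra hcon
  push Not at hcon
  have hz : ∀ e : F, c⁻¹ * Ts 0 e * c ∈ N[V] := by
    intro e
    refine hcon _ ?_
    rw [show g = c⁻¹ * Ts a a' * c by rw [← hc]; group]
    have := (commute_Ts_iff (m := m) 0 e).mpr rfl _ (Ts_mem a a')
    calc c⁻¹ * Ts 0 e * c * (c⁻¹ * Ts a a' * c) = c⁻¹ * (Ts 0 e * Ts a a') * c := by group
      _ = c⁻¹ * (Ts a a' * Ts 0 e) * c := by rw [this]
      _ = c⁻¹ * Ts a a' * c * (c⁻¹ * Ts 0 e * c) := by group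
  let f : F × ↥V → ↥(N[V]) := fun p =>
    ⟨c⁻¹ * Ts 0 p.1 * c * (p.2 : G), (N[V]).mul_mem (hz p.1) (Subgroup.le_normalizer p.2.property)⟩
  have hf : Function.Injective f := by
    rintro ⟨e, v⟩ ⟨e', v'⟩ h
    have h' : c⁻¹ * Ts 0 e * c * (v : G) = c⁻¹ * Ts 0 e' * c * (v' : G) := congrArg Subtype.val h
    have hmem : c⁻¹ * ((Ts 0 e' : G)⁻¹ * Ts 0 e) * c ∈ V := by
      have : c⁻¹ * ((Ts 0 e' : G)⁻¹ * Ts 0 e) * c = (v' : G) * (v : G)⁻¹ := by
        rw [eq_mul_inv_iff_mul_eq]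
        calc c⁻¹ * ((Ts 0 e' : G)⁻¹ * Ts 0 e) * c * (v : G)
            = (c⁻¹ * Ts 0 e' * c)⁻¹ * (c⁻¹ * Ts 0 e * c * (v : G)) := by group
          _ = (v' : G) := by rw [h']; group
      rw [this]; exact mul_mem v'.2 (inv_mem v.2)
    have h1 : (Ts 0 e' : G)⁻¹ * Ts 0 e = 1 := by
      by_contra hne
      refine hV.not_dvd_four hmem (fun h => hne ?_) ?_
      · rw [show (Ts 0 e' : G)⁻¹ * Ts 0 e = c * (c⁻¹ * ((Ts 0 e' : G)⁻¹ * Ts 0 e) * c) * c⁻¹ by group,
          h, mul_one, mul_inv_cancel]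
      · rw [orderOf_conj'', Ts_inv, Ts_mul]
        exact orderOf_Ts_dvd _ _
    obtain ⟨-, rfl⟩ := Ts_injective (inv_mul_eq_one.mp h1)
    exact Prod.ext rfl (Subtype.ext (mul_left_cancel h'))
  have hle := Nat.card_le_card_of_injective f hf
  rw [Nat.card_prod, natCard (F := F) (m := m)] at hle
  have h4 : Nat.card (N[V]) ≤ 4 * Nat.card V := by
    rcases hV.card_normalizer with ⟨-, h⟩ | ⟨-, h⟩ <;> omega
  have h8 := q_ge (F := F) (m := m)
  have hpos : 0 < Nat.card V := Nat.card_pos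
  have := Nat.le_of_mul_le_mul_right (hle.trans h4) hpos
  omega

theorem not_inverts_mul {W : Subgroup G} {u y z : G} (hu : orderOf u = 2) (hW : IsCycPart F m W)
    (hy : y ∈ W) (hy1 : y ≠ 1) (hz : Semi z) (hz2 : z * z ∈ W) (huyz : u = y * z ∨ u = z * y) :
    False := by
  have hU : IsCycPart F m (Subgroup.centralizer {z}) := cyclic_centralizer hz.ne_one hz
  have hzU : z ∈ Subgroup.centralizer {z} := Subgroup.mem_centralizer_singleton_iff.mpr rfl
  have hz21 : z * z ≠ 1 := fun e => hz ((orderOf_dvd_of_pow_eq_one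
    (show z ^ 2 = 1 by rw [pow_two, e])).trans (by norm_num))
  have e : Subgroup.centralizer {z} = W := part_eq hU.isPart hW.isPart hz21 (mul_mem hzU hzU) hz2
  rw [e] at hzU
  have huW : u ∈ W := by
    rcases huyz with h | h <;> rw [h]
    exacts [mul_mem hy hzU, mul_mem hzU hy]
  exact hW.not_dvd_four huW (fun h => by rw [h, orderOf_one] at hu; norm_num at hu)
    (by rw [hu]; norm_num)

/-- A subgroup of a cyclic part. -/
theorem not_binary_of_cyc {V : Subgroup G} (hV : IsCycPart F m V) {H : Subgroup G} (hH : H ≤ V)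
    (hbot : H ≠ ⊥) : ¬ Binary H := by
  classical
  have := charTwo (F := F) (m := m)
  have := finiteF (F := F) (m := m)
  obtain ⟨x₀, hx₀, hx₀1⟩ : ∃ x ∈ H, x ≠ 1 := by
    by_contra hc
    push Not at hc
    exact hbot ((Subgroup.eq_bot_iff_forall _).mpr hc)
  have hs₀ : Semi x₀ := hV.not_dvd_four (hH hx₀) hx₀1
  set γ := trM x₀ with hγ
  have hγ0 : γ ≠ 0 := trM_ne_zero hs₀
  set v₀ := tg m γ with hv₀
  have hsv : sg m v₀ = γ := sg_tg γ
  set x : G := Ws * Ts 0 v₀ with hxdef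
  have htrx : trM x = γ := by
    rw [hxdef, show (Ws * Ts 0 v₀ : G) = Ws * Hs 1 * Ts 0 v₀ by rw [Hs_one, mul_one],
      trM_Ws_Hs_Ts, Units.val_one, ff, sg_zero, hsv, show tg m (1 : F) = 1 from one_pow _]
    ring
  obtain ⟨d, hd⟩ := isConj_iff.mp (isConj_of_trM hs₀ htrx)
  rw [← binary_map_iff H (MulAut.conj d)]
  have hV' := hV.map d
  have hxH : x ∈ H.map (MulAut.conj d).toMonoidHom := ⟨x₀, hx₀, hd⟩
  have hH' : H.map (MulAut.conj d).toMonoidHom ≤ V.map (MulAut.conj d).toMonoidHom :=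
    Subgroup.map_mono hH
  revert hV' hxH hH'
  generalize H.map (MulAut.conj d).toMonoidHom = K
  generalize V.map (MulAut.conj d).toMonoidHom = U
  intro hV' hxK hKU
  have hsx : Semi x := semi_of_trM (htrx.symm ▸ hγ0)
  have hxU := hKU hxK
  -- the auxiliary translation
  obtain ⟨e, he0, hTr, hbad⟩ : ∃ e : F, e ≠ 0 ∧ Tr m (tg m (tg m γ) / sg m e) = 1 ∧
      sg m e / e * sg m (sg m e / e) ≠ v₀ := by
    set c := tg m (tg m γ) with hc
    have hc0 : c ≠ 0 := tg_ne_zero (tg_ne_zero hγ0)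
    have mk : ∀ p : F, Tr m p = 1 → ∃ e : F, e ≠ 0 ∧ c / sg m e = p := by
      intro p hp
      have hp0 : p ≠ 0 := fun h => by rw [h, Tr_zero] at hp; exact zero_ne_one hp
      refine ⟨tg m (c / p), tg_ne_zero (div_ne_zero hc0 hp0), ?_⟩
      rw [sg_tg]; field_simp
    obtain ⟨t, ht0, ht1⟩ := exists_ne_zero_one (F := F) (m := m)
    have hs0 : sg m t + t ≠ 0 := fun h => by
      rcases eq_zero_or_one_of_sg_self (CharTwo.add_eq_zero.mp h) with h | h
      exacts [ht0 h, ht1 h]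
    have hp2 : Tr m (1 + (sg m t + t)) = 1 := by
      rw [Tr_add, Tr_add, Tr_sg, CharTwo.add_self_eq_zero, add_zero, Tr_one]
    obtain ⟨e₁, he₁, hp₁⟩ := mk 1 Tr_one
    obtain ⟨e₂, he₂, hp₂⟩ := mk _ hp2
    by_cases h1 : sg m e₁ / e₁ * sg m (sg m e₁ / e₁) = v₀
    · refine ⟨e₂, he₂, by rw [hp₂, hp2], fun h2 => hs0 ?_⟩
      have hw := mul_sg_injective (h1.trans h2.symm)
      have he : e₁ = e₂ := by
        rcases eq_zero_or_one_of_sg_self (m := m) (x := e₁ / e₂) (by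
          rw [sg_div, div_eq_div_iff (sg_ne_zero he₂) he₂]
          have := (div_eq_div_iff he₁ he₂).mp hw
          linear_combination this) with h | h
        · exact absurd h (div_ne_zero he₁ he₂)
        · exact (div_eq_one_iff_eq he₂).mp h
      rw [he, hp₂] at hp₁
      rwa [add_eq_left] at hp₁
    · exact ⟨e₁, he₁, by rw [hp₁, Tr_one], h1⟩
  set c := tg m (tg m γ) with hc
  have hc2 : c * c = γ := by rw [hc, tg_mul_tg, sg_tg]
  set w := sg m e / e with hw
  have hse := sg_ne_zero (m := m) he0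
  have hw0 : w ≠ 0 := div_ne_zero hse he0
  set α := w * sg m w with hα
  set R := c + sg m w * (w ^ 2 + w + 1) with hR
  obtain ⟨s, hs⟩ := exists_sg_add (m := m) (y := R / sg m e) (by
    have hsw : sg m w = e ^ 2 / sg m e := by rw [hw, sg_div, sg_sg]
    rw [show R / sg m e = c / sg m e + (1 + e / sg m e + (e / sg m e) ^ 2) by
      rw [hR, hsw, hw]; field_simp, Tr_add, Tr_add, Tr_add, Tr_one, Tr_sq, hTr]
    grind)
  set β := e * s with hβ
  have hkey : sg m β + w * β = R := by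
    have h1 : sg m e * (sg m s + s) = R := by rw [hs]; field_simp
    have h2 : w * e = sg m e := by rw [hw]; field_simp
    rw [hβ, sg_mul]
    linear_combination h1 + s * h2
  clear_value β
  set b := β + v₀ with hb
  set T : G := Ts w b with hT
  set y : G := T * x * T⁻¹ with hy
  have htr : trM (x * y) = γ := by
    have hcyc : trM (x * y) =
        trM (Ts w (β + α) * (Ws * Ts w β * Ws) : G) := by
      have e1 : (Ts 0 v₀ : G) * T⁻¹ = Ts w (β + α) := by
        rw [hT, Ts_inv, Ts_mul, zero_add, sg_zero, zero_mul, add_zero, hb, hα]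
        congr 1
        grind
      have e2 : (Ts 0 v₀ : G) * T = Ts w β := by
        rw [hT, Ts_mul, zero_add, sg_zero, zero_mul, add_zero, hb]
        congr 1
        grind
      rw [hy, hxdef, show (Ws * Ts 0 v₀ * (T * (Ws * Ts 0 v₀) * T⁻¹) : G) =
        Ws * (Ts 0 v₀ * T) * Ws * (Ts 0 v₀ * T⁻¹) by group, e1, e2, trM_mul_comm]
    rw [hcyc, trM_Ts_Ws, ff, ff, sg_add, hα, sg_mul, sg_sg]
    rw [← hc2]
    have hR' : w * β + w ^ 2 * sg m w + sg m β + w * sg m w + sg m w = c := by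
      have : sg m β + w * β + sg m w * (w ^ 2 + w + 1) = c := by rw [hkey, hR]; grind
      linear_combination this
    have h2 : (2 : F) = 0 := CharTwo.two_eq_zero
    linear_combination (w * sg m w * β + w ^ 2 * sg m w * (w * β + w ^ 2 * sg m w + sg m β) -
      (w * β + w ^ 2 * sg m w + sg m β) * (w * sg m w) -
      (w * β + w ^ 2 * sg m w + sg m β) * sg m w - w * sg m w * sg m w) * h2 +
      (w * β + w ^ 2 * sg m w + sg m β + w * sg m w + sg m w + c) * hR'
  have hTN : T ∉ N[U] := by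
    intro hTN
    have hTT : T * T = Ts 0 α := by rw [← pow_two, hT, Ts_sq, hα, mul_comm]
    have hα0 : α ≠ 0 := mul_ne_zero hw0 (sg_ne_zero hw0)
    have ho2 : orderOf (T * T) = 2 := by
      rw [hTT]
      exact orderOf_eq_prime (Ts_sq_eq_one.mpr rfl) (fun e => hα0 (Ts_eq_one e).2)
    have hinv := hV'.invert (mul_mem hTN hTN) ho2 hxU
    rw [hTT, hxdef, mul_inv_rev, Ws_inv, show (Ts 0 v₀ : G)⁻¹ = Ts 0 v₀ by rw [Ts_inv, mul_zero, add_zero],
      show (Ts 0 α : G)⁻¹ = Ts 0 α by rw [Ts_inv, mul_zero, add_zero]] at hinv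
    have h := congrArg (fun g : G => g • ∞) hinv
    simp only [mul_smul, Ts_smul_inf, Ws_smul_inf, Ts_smul_zero] at h
    exact hbad (pt_injective h).2
  obtain ⟨v, hv⟩ := isConj_iff.mp (isConj_of_trM hsx (htr.trans htrx.symm))
  refine not_binary_of_tri_top ⟨T, Subgroup.mem_top _, v, Subgroup.mem_top _, x⁻¹, inv_mem hxK, x, hxK,
    x, hxK, by rw [inv_inv, hv, hy], fun g hg hgu hbd => ?_⟩
  by_cases hg1 : g = 1
  · rw [hg1, inv_one, one_mul] at hbd
    have hx1 : x⁻¹ ≠ 1 := inv_ne_one.mpr hsx.ne_one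
    have hvN : v ∈ N[U] := normalises_of_conj hV' (inv_mem hxU) hx1 (hKU hbd)
    have hxy : x * y ∈ U := hv ▸ (Subgroup.mem_normalizer_iff.mp hvN x).mp hxU
    have hyU : y ∈ U := by
      have := mul_mem (inv_mem hxU) hxy
      rwa [inv_mul_cancel_left] at this
    refine hTN (normalises_of_conj hV' hyU ?_ ?_)
    · exact fun e => hsx.ne_one (conj_eq_one_iff.mp e)
    · rwa [show T⁻¹ * y * T = x by rw [hy]; group]
  · exact hTN (normalises_of_conj hV' (hKU hg) hg1 (hKU hgu))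

/-- A subgroup normalising a cyclic part and meeting it. -/
theorem not_binary_of_normalises {V : Subgroup G} (hV : IsCycPart F m V) {H : Subgroup G}
    (hH : H ≤ N[V]) {x₀ : G} (hx₀ : x₀ ∈ H) (hx₀V : x₀ ∈ V) (hx₀1 : x₀ ≠ 1) : ¬ Binary H := by
  classical
  have hs₀ : Semi x₀ := hV.not_dvd_four hx₀V hx₀1
  have hsemiH : ∀ g ∈ H, Semi g → g ∈ V := fun g hg hs => semi_mem hV (hH hg) hs
  by_cases hle : H ≤ V
  · exact not_binary_of_cyc hV hle fun e => hx₀1 (Subgroup.mem_bot.mp (e ▸ hx₀))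
  obtain ⟨u, huH, huV⟩ : ∃ u ∈ H, u ∉ V := SetLike.not_le_iff_exists.mp hle
  have hord : ∀ g ∈ H, g ∉ V → orderOf g = 2 ∨ orderOf g = 4 := by
    intro g hg hgV
    have h4 : orderOf g ∣ 4 := by
      by_contra h; exact hgV (hsemiH g hg h)
    obtain ⟨i, hi, e⟩ := (Nat.dvd_prime_pow Nat.prime_two).mp (show orderOf g ∣ 2 ^ 2 from h4)
    interval_cases i
    · exact absurd (orderOf_eq_one_iff.mp e ▸ one_mem V) hgV
    · exact Or.inl e
    · exact Or.inr e
  by_cases h4 : ∃ g ∈ H, orderOf g = 4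
  · obtain ⟨g, hg, hg4⟩ := h4
    have hg1 : g ≠ 1 := fun e => by rw [e, orderOf_one] at hg4; norm_num at hg4
    have hgV : g ∉ V := fun h => hV.not_dvd_four h hg1 (by rw [hg4])
    obtain ⟨b, hbg, hbN⟩ := exists_not_normalises hV (dvd_of_eq hg4) hg1
    let K : Subgroup G := H ⊓ H.map (MulAut.conj b).toMonoidHom
    have hK : ∀ x, x ∈ K ↔ x ∈ H ∧ b⁻¹ * x * b ∈ H := fun x => by
      rw [Subgroup.mem_inf, Subgroup.mem_map_equiv, MulAut.conj_symm_apply]
    have hgK : g ∈ K := (hK g).mpr ⟨hg, by rwa [mul_assoc, ← hbg, inv_mul_cancel_left]⟩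
    have hKV : ∀ x ∈ K, x ∈ V → x = 1 := by
      intro x hx hxV
      by_contra hne
      refine hbN (normalises_of_conj hV hxV hne (hsemiH _ ((hK x).mp hx).2 ?_))
      rw [Semi, orderOf_conj'']
      exact hV.not_dvd_four hxV hne
    have hnorm : ∀ n ∈ H, ∀ z ∈ V, n * z * n⁻¹ ∈ V := fun n hn z hz =>
      (Subgroup.mem_normalizer_iff.mp (hH hn) z).mp hz
    have hnorm' : ∀ n ∈ H, ∀ z ∈ V, n⁻¹ * z * n ∈ V := fun n hn z hz => by
      simpa using hnorm n⁻¹ (inv_mem hn) z hz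
    let S : Subgroup G := H ⊓ V
    let f : ↥S → ↥S := fun z => ⟨(z : G) * (g * (z : G)⁻¹ * g⁻¹),
      Subgroup.mem_inf.mpr ⟨mul_mem (Subgroup.mem_inf.mp z.2).1
          (mul_mem (mul_mem hg (inv_mem (Subgroup.mem_inf.mp z.2).1)) (inv_mem hg)),
        mul_mem (Subgroup.mem_inf.mp z.2).2 (hnorm g hg _ (inv_mem (Subgroup.mem_inf.mp z.2).2))⟩⟩
    have hcg : ∀ z ∈ V, z * g = g * z → z = 1 := fun z hz e => by
      by_contra hne; exact hgV (mem_of_commute hV hz hne e.symm)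
    have hf : Function.Injective f := by
      intro z z' e
      have e' : (z : G) * (g * (z : G)⁻¹ * g⁻¹) = (z' : G) * (g * (z' : G)⁻¹ * g⁻¹) :=
        congrArg Subtype.val e
      refine Subtype.ext (inv_mul_eq_one.mp (hcg _ (mul_mem (inv_mem (Subgroup.mem_inf.mp z'.2).2)
        (Subgroup.mem_inf.mp z.2).2) ?_)).symm
      calc (z' : G)⁻¹ * (z : G) * g
          = (z' : G)⁻¹ * ((z : G) * (g * (z : G)⁻¹ * g⁻¹)) * g * (z : G) := by group
        _ = g * ((z' : G)⁻¹ * (z : G)) := by rw [e']; group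
    obtain ⟨⟨v, hvS⟩, hv⟩ := Finite.injective_iff_surjective.mp hf
      ⟨g⁻¹ * x₀ * g * (g * x₀⁻¹ * g⁻¹), Subgroup.mem_inf.mpr
        ⟨mul_mem (mul_mem (mul_mem (inv_mem hg) hx₀) hg) (mul_mem (mul_mem hg (inv_mem hx₀)) (inv_mem hg)),
          mul_mem (hnorm' g hg _ hx₀V) (hnorm g hg _ (inv_mem hx₀V))⟩⟩
    obtain ⟨hvH, hvV⟩ := Subgroup.mem_inf.mp hvS
    have hv' : v * g * v⁻¹ = g⁻¹ * x₀ * g * (g * x₀⁻¹) := by
      have h : v * (g * v⁻¹ * g⁻¹) = g⁻¹ * x₀ * g * (g * x₀⁻¹ * g⁻¹) := congrArg Subtype.val hv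
      calc v * g * v⁻¹ = v * (g * v⁻¹ * g⁻¹) * g := by group
        _ = g⁻¹ * x₀ * g * (g * x₀⁻¹) := by rw [h]; group
    refine not_binary_of_tri b hK ⟨x₀, hx₀, v, hvH, g, hgK, g * g, mul_mem hgK hgK, g, hgK, ?_,
      fun z hz hzu hbd => ?_⟩
    · rw [hv']; group
    have hz1 : z = 1 := by
      refine hKV z hz (mem_of_commute hV hx₀V hx₀1 ?_)
      have hc : z⁻¹ * (x₀⁻¹ * z * x₀) = 1 := by
        refine hKV _ (mul_mem (inv_mem hz) hzu) ?_
        rw [show z⁻¹ * (x₀⁻¹ * z * x₀) = z⁻¹ * x₀⁻¹ * z * x₀ by group]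
        exact mul_mem (hnorm' z ((hK z).mp hz).1 _ (inv_mem hx₀V)) hx₀V
      calc z * x₀ = x₀ * z * (z⁻¹ * (x₀⁻¹ * z * x₀)) := by group
        _ = x₀ * z := by rw [hc, mul_one]
    rw [hz1, inv_one, one_mul] at hbd
    have hc : g⁻¹ * (v⁻¹ * g * v) = 1 := by
      refine hKV _ (mul_mem (inv_mem hgK) hbd) ?_
      rw [show g⁻¹ * (v⁻¹ * g * v) = g⁻¹ * v⁻¹ * g * v by group]
      exact mul_mem (hnorm' g hg _ (inv_mem hvV)) hvV
    have hv1 : v = 1 := hcg v hvV (by
      calc v * g = v * g * (g⁻¹ * (v⁻¹ * g * v)) := by rw [hc, mul_one]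
        _ = g * v := by group)
    rw [hv1, one_mul, inv_one, mul_one] at hv'
    have hgg : g * g ∈ V := mem_of_commute hV hx₀V hx₀1 (by
      calc g * g * x₀ = g * g * x₀ * 1 := by rw [mul_one]
        _ = g * (g⁻¹ * x₀ * g * (g * x₀⁻¹)) * x₀ := by rw [mul_one, ← hv']
        _ = x₀ * (g * g) := by group)
    have ho : orderOf (g * g) = 2 := by
      rw [← pow_two, orderOf_pow' g two_ne_zero, hg4]; norm_num
    exact hV.not_dvd_four hgg (fun h => by rw [h, orderOf_one] at ho; norm_num at ho) (by rw [ho]; norm_num)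
  push Not at h4
  have hinvol : ∀ g ∈ H, g ∉ V → orderOf g = 2 := fun g hg hgV =>
    (hord g hg hgV).resolve_right (h4 g hg)
  have ho : orderOf u = 2 := hinvol u huH huV
  have hinv : ∀ g ∈ H, g ∉ V → g * x₀ * g⁻¹ = x₀⁻¹ := fun g hg hgV =>
    hV.invert (hH hg) (hinvol g hg hgV) hx₀V
  obtain ⟨y, z, hy, hz, hu⟩ : Pair x₀ u := by
    refine (semi_invol hs₀).of_conj ?_
    have hns : ¬ Semi u := fun h => h (by rw [ho]; norm_num)
    rcases not_semi_cases (fun e : u = 1 => huV (by rw [e]; exact one_mem V)) hns with ⟨-, h⟩ | ⟨h, -⟩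
    · exact h
    · exact absurd (by rw [← ho]; exact pow_orderOf_eq_one u) h
  obtain ⟨u₀, rfl⟩ := isConj_iff.mp hy
  obtain ⟨v, rfl⟩ := isConj_iff.mp hz
  set y := u₀ * x₀ * u₀⁻¹
  set z := v * x₀ * v⁻¹
  have hsy : Semi y := by rw [Semi, orderOf_conj']; exact hs₀
  have hsz : Semi z := by rw [Semi, orderOf_conj']; exact hs₀
  have hno_y : u * y * u⁻¹ ≠ y⁻¹ := by
    intro h
    have e1 : z * y * z⁻¹ = y⁻¹ := by
      rw [hu] at h
      calc z * y * z⁻¹ = y⁻¹ * (y * z * y * (y * z)⁻¹) * y := by group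
        _ = y⁻¹ := by rw [h]; group
    refine not_inverts_mul ho (cyclic_centralizer hsy.ne_one hsy)
      (Subgroup.mem_centralizer_singleton_iff.mpr rfl) hsy.ne_one hsz
      (Subgroup.mem_centralizer_singleton_iff.mpr ?_) (Or.inl hu)
    calc z * z * y = z * (z * y * z⁻¹) * z := by group
      _ = z * y⁻¹ * z := by rw [e1]
      _ = (z * y * z⁻¹)⁻¹ * (z * z) := by group
      _ = y * (z * z) := by rw [e1, inv_inv]
  have hno_z : u * z * u⁻¹ ≠ z⁻¹ := by
    intro h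
    have e1 : y * z * y⁻¹ = z⁻¹ := by
      rw [hu] at h
      calc y * z * y⁻¹ = y * z * z * (y * z)⁻¹ := by group
        _ = z⁻¹ := h
    refine not_inverts_mul ho (cyclic_centralizer hsz.ne_one hsz)
      (Subgroup.mem_centralizer_singleton_iff.mpr rfl) hsz.ne_one hsy
      (Subgroup.mem_centralizer_singleton_iff.mpr ?_) (Or.inr hu)
    calc y * y * z = y * (y * z * y⁻¹) * y := by group
      _ = y * z⁻¹ * y := by rw [e1]
      _ = (y * z * y⁻¹)⁻¹ * (y * y) := by group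
      _ = z * (y * y) := by rw [e1, inv_inv]
  have huu : u * u = 1 := by rw [← pow_two, ← ho, pow_orderOf_eq_one]
  have hui : u⁻¹ = u := inv_eq_of_mul_eq_one_right huu
  refine not_binary_of_tri_top ⟨u₀, Subgroup.mem_top _, v, Subgroup.mem_top _, u, huH, x₀, hx₀, x₀⁻¹,
    inv_mem hx₀, ?_, fun g hg hgu hbd => ?_⟩
  · show u⁻¹ * y = v * x₀⁻¹ * v⁻¹
    rw [hu, show v * x₀⁻¹ * v⁻¹ = z⁻¹ by simp only [z]; group]
    group
  by_cases hg1 : g = 1
  · rw [hg1, inv_one, one_mul] at hbd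
    have hbdV : v⁻¹ * u * v ∉ V := fun h => hV.not_dvd_four h
      (fun e => huV ((show u = 1 by rw [show u = v * (v⁻¹ * u * v) * v⁻¹ by group, e]; group) ▸ one_mem V))
      (by rw [orderOf_conj'', ho]; norm_num)
    refine hno_z ?_
    calc u * z * u⁻¹ = v * (v⁻¹ * u * v * x₀ * (v⁻¹ * u * v)⁻¹) * v⁻¹ := by simp only [z]; group
      _ = z⁻¹ := by rw [hinv _ hbd hbdV]; simp only [z]; group
  by_cases hgV : g ∈ V
  · have hguV : u₀⁻¹ * g * u₀ ∈ V := hsemiH _ hgu (by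
      rw [Semi, orderOf_conj'']; exact hV.not_dvd_four hgV hg1)
    have hcomm := hV.comm hguV hx₀V
    have hyV : y ∈ V := mem_of_commute hV hgV hg1 (by
      calc y * g = u₀ * (x₀ * (u₀⁻¹ * g * u₀)) * u₀⁻¹ := by simp only [y]; group
        _ = g * y := by rw [← hcomm]; simp only [y]; group)
    exact hno_y (hV.invert (hH huH) ho hyV)
  by_cases hgu' : g = u
  · rw [hgu'] at hgu
    have hguV : u₀⁻¹ * u * u₀ ∉ V := fun h => hV.not_dvd_four h
      (fun e => huV ((show u = 1 by rw [show u = u₀ * (u₀⁻¹ * u * u₀) * u₀⁻¹ by group, e]; group) ▸ one_mem V))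
      (by rw [orderOf_conj'', ho]; norm_num)
    refine hno_y ?_
    calc u * y * u⁻¹ = u₀ * (u₀⁻¹ * u * u₀ * x₀ * (u₀⁻¹ * u * u₀)⁻¹) * u₀⁻¹ := by simp only [y]; group
      _ = y⁻¹ := by rw [hinv _ hgu hguV]; simp only [y]; group
  · have htV : g⁻¹ * u ∈ V := mem_of_commute hV hx₀V hx₀1 (by
      calc g⁻¹ * u * x₀ = g⁻¹ * (u * x₀ * u⁻¹) * u := by group
        _ = g⁻¹ * x₀⁻¹ * u := by rw [hinv u huH huV]
        _ = g⁻¹ * (g * x₀ * g⁻¹) * u := by rw [hinv g hg hgV]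
        _ = x₀ * (g⁻¹ * u) := by group)
    have ht1 : g⁻¹ * u ≠ 1 := fun e => hgu' (inv_mul_eq_one.mp e)
    have hbV : v⁻¹ * (g⁻¹ * u) * v ∈ V := hsemiH _ hbd (by
      rw [Semi, orderOf_conj'']; exact hV.not_dvd_four htV ht1)
    have hcomm := hV.comm hbV hx₀V
    have hzV : z ∈ V := mem_of_commute hV htV ht1 (by
      calc z * (g⁻¹ * u) = v * (x₀ * (v⁻¹ * (g⁻¹ * u) * v)) * v⁻¹ := by simp only [z]; group
        _ = g⁻¹ * u * z := by rw [← hcomm]; simp only [z]; group)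
    exact hno_z (hV.invert (hH huH) ho hzV)

end Cfsg.Agent.SuzukiBinary
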