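import Cfsg.Agent.Lib.SuzukiGroupClassification
import Cfsg.Agent.Lib.SuzukiGroupBinaryElem
import Cfsg.Agent.Lib.SuzukiGroupBinaryTori

/-!
The coset actions of the Suzuki group which are binary.
-/

set_option autoImplicit false

namespace Cfsg.Agent.SuzukiBinary

open scoped LinearAlgebra.Projectivization
open MulAction Cfsg.Agent.SuzukiGroupBasic Cfsg.Agent.SuzukiGroupStructure
open Cfsg.Agent.SuzukiGroupCentralizer Cfsg.Agent.SuzukiGroupPartition
open Cfsg.Agent.SuzukiGroupNormalizers Cfsg.Agent.SuzukiGroupClassification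

variable {F : Type*} [Field F] {m : ℕ} [hP : Param F m]

set_option quotPrecheck false
local notation "G" => ↥(Cfsg.Sz F m)
local notation "∞" => Cfsg.suzukiPointInfinity F
local notation "o" => Cfsg.suzukiPointZero F

/-! ### Matrix entries of a subfield subgroup -/

theorem entries_fixed {j : ℕ} {g : G} (hg : g ∈ SuzukiGroupSubfield.subSz F m j) :
    ∀ r s, ((g : Matrix.SpecialLinearGroup (Fin 4) F) : Matrix (Fin 4) (Fin 4) F) r s ^ 2 ^ (2 * j + 1) =
      ((g : Matrix.SpecialLinearGroup (Fin 4) F) : Matrix (Fin 4) (Fin 4) F) r s := by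
  have := charTwo (F := F) (m := m)
  have : Fact (Nat.Prime 2) := ⟨Nat.prime_two⟩
  have : ExpChar F 2 := ExpChar.prime Nat.prime_two
  set φ : F →+* F := iterateFrobenius F 2 (2 * j + 1) with hφ
  let ψ := (Matrix.SpecialLinearGroup.map φ :
    Matrix.SpecialLinearGroup (Fin 4) F →* Matrix.SpecialLinearGroup (Fin 4) F)
  have hφx : ∀ x, φ x = x ^ 2 ^ (2 * j + 1) := fun x => rfl
  have key : ψ (g : Matrix.SpecialLinearGroup (Fin 4) F) = g := by
    have hle : SuzukiGroupSubfield.subSz F m j ≤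
        MonoidHom.eqLocus (ψ.comp (Cfsg.Sz F m).subtype) (Cfsg.Sz F m).subtype := by
      rw [SuzukiGroupSubfield.subSz, Subgroup.closure_le]
      have hdiag : ∀ x : F, φ x = x → φ (tg m x) = tg m x := fun x hx => by
        rw [tg, map_pow, hx]
      have hsg : ∀ x : F, φ x = x → φ (sg m x) = sg m x := fun x hx => by
        rw [sg, map_pow, hx]
      rintro _ ((⟨a, b, ha, hb, rfl⟩ | ⟨l, hl, rfl⟩) | rfl)
      · rw [← hφx] at ha hb
        refine sl_ext ?_
        show φ.mapMatrix (Tm m a b) = Tm m a b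
        ext r s
        fin_cases r <;> fin_cases s <;>
          simp [Tm, ff, hsg, ha, hb, map_add, map_mul, map_pow]
      · rw [← hφx] at hl
        refine sl_ext ?_
        show φ.mapMatrix (Hm m (l : F)) = Hm m (l : F)
        ext r s
        fin_cases r <;> fin_cases s <;>
          simp [Hm, hdiag, hl, map_mul, map_inv₀]
      · refine sl_ext ?_
        show φ.mapMatrix (suzukiForm F) = suzukiForm F
        ext r s
        fin_cases r <;> fin_cases s <;> simp [suzukiForm]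
    exact hle hg
  intro r s
  have := congrFun (congrFun (congrArg (fun z : Matrix.SpecialLinearGroup (Fin 4) F =>
    (z : Matrix (Fin 4) (Fin 4) F)) key) r) s
  exact this

/-- A torus element outside the subfield moves every entry off the diagonal out of the subfield. -/
theorem fix_two_of_conj {j : ℕ} {l : Fˣ} (hl : (l : F) ^ 2 ^ (2 * j + 1) ≠ l) {g : G}
    (hg : g ∈ SuzukiGroupSubfield.subSz F m j)
    (hg' : (Hs l : G)⁻¹ * g * Hs l ∈ SuzukiGroupSubfield.subSz F m j) : g • ∞ = ∞ ∧ g • o = o := by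
  have := charTwo (F := F) (m := m)
  set Q := 2 ^ (2 * j + 1) with hQ
  set M : Matrix (Fin 4) (Fin 4) F := ((g : Matrix.SpecialLinearGroup (Fin 4) F) : Matrix (Fin 4) (Fin 4) F)
  set M' : Matrix (Fin 4) (Fin 4) F :=
    ((((Hs l : G)⁻¹ * g * Hs l : G) : Matrix.SpecialLinearGroup (Fin 4) F) : Matrix (Fin 4) (Fin 4) F)
  set d : Fin 4 → F := ![(l : F) * tg m (l : F), tg m (l : F), (tg m (l : F))⁻¹, ((l : F) * tg m (l : F))⁻¹]
    with hd
  have hrel : ∀ r s, d r * M' r s = M r s * d s := by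
    intro r s
    have e : (Hs l : G) * ((Hs l : G)⁻¹ * g * Hs l) = g * Hs l := by group
    have e' : Hm m (l : F) * M' = M * Hm m (l : F) :=
      congrArg (fun z : G => ((z : Matrix.SpecialLinearGroup (Fin 4) F) : Matrix (Fin 4) (Fin 4) F)) e
    have := congrFun (congrFun e' r) s
    rwa [Hm, Matrix.diagonal_mul, Matrix.mul_diagonal] at this
  have hl0 : (l : F) ≠ 0 := l.ne_zero
  have ht0 : tg m (l : F) ≠ 0 := tg_ne_zero hl0
  have hsl : sg m (l : F) ^ Q ≠ sg m (l : F) := fun h => hl (by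
    have h' := congrArg (tg m) h
    rwa [← sg_pow, tg_sg, tg_sg] at h')
  have hlsl : ((l : F) * sg m (l : F)) ^ Q ≠ (l : F) * sg m (l : F) := fun h => hl (lam_pow_eq h)
  have hl2 : ((l : F) ^ 2 * sg m (l : F)) ^ Q ≠ (l : F) ^ 2 * sg m (l : F) := fun h => hlsl (by
    have h' := congrArg (tg m) h
    rwa [show (l : F) ^ 2 * sg m (l : F) = sg m ((l : F) * sg m (l : F)) by
      rw [sg_mul, sg_sg, mul_comm], ← sg_pow, tg_sg, tg_sg] at h')
  have hzero : ∀ r s (c : F), c ^ Q ≠ c → (d r = c * d s ∨ d s = c * d r) → M r s = 0 := by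
    intro r s c hc hds
    by_contra hne
    have hds0 : ∀ i, d i ≠ 0 := by
      intro i; rw [hd]; fin_cases i <;> simp [hl0, ht0]
    have hM : M r s ^ Q = M r s := entries_fixed hg r s
    have hM' : M' r s ^ Q = M' r s := entries_fixed hg' r s
    have hr := hrel r s
    rcases hds with e | e
    · rw [e] at hr
      have e2 : c * M' r s = M r s := mul_right_cancel₀ (hds0 s) (by linear_combination hr)
      refine hc ?_
      have hne' : M' r s ≠ 0 := fun h => hne (by rw [← e2, h, mul_zero])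
      have := congrArg (fun x => x ^ Q) e2
      simp only [mul_pow, hM', hM] at this
      exact mul_right_cancel₀ hne' (this.trans e2.symm)
    · rw [e] at hr
      have e2 : M' r s = M r s * c := mul_left_cancel₀ (hds0 r) (by linear_combination hr)
      refine hc ?_
      have := congrArg (fun x => x ^ Q) e2
      simp only [mul_pow, hM', hM] at this
      exact mul_left_cancel₀ hne (this.symm.trans e2)
  have htt : tg m (l : F) * tg m (l : F) = sg m (l : F) := tg_mul_tg _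
  have c10 : M 1 0 = 0 := hzero 1 0 _ hl (Or.inr (by simp [hd]))
  have c20 : M 2 0 = 0 := hzero 2 0 _ hlsl (Or.inr (by
    simp only [hd, ← htt, Matrix.cons_val]; field_simp))
  have c30 : M 3 0 = 0 := hzero 3 0 _ hl2 (Or.inr (by
    simp only [hd, ← htt, Matrix.cons_val]; field_simp))
  have c03 : M 0 3 = 0 := hzero 0 3 _ hl2 (Or.inl (by
    simp only [hd, ← htt, Matrix.cons_val]; field_simp))
  have c13 : M 1 3 = 0 := hzero 1 3 _ hlsl (Or.inl (by
    simp only [hd, ← htt, Matrix.cons_val]; field_simp))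
  have c23 : M 2 3 = 0 := hzero 2 3 _ hl (Or.inl (by
    simp only [hd, Matrix.cons_val]; field_simp))
  constructor
  · rw [smul_def]
    refine smul_mk_eq _ _ _ (M 0 0) ?_
    ext r
    simp only [Matrix.mulVec, dotProduct, Fin.sum_univ_four, Pi.smul_apply, smul_eq_mul]
    show M r 0 * _ + M r 1 * _ + M r 2 * _ + M r 3 * _ = _
    fin_cases r <;> simp [c10, c20, c30]
  · rw [smul_def]
    refine smul_mk_eq _ _ _ (M 3 3) ?_
    ext r
    simp only [Matrix.mulVec, dotProduct, Fin.sum_univ_four, Pi.smul_apply, smul_eq_mul]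
    show M r 0 * _ + M r 1 * _ + M r 2 * _ + M r 3 * _ = _
    fin_cases r <;> simp [c03, c13, c23]

/-- Subfield subgroups. -/
theorem not_binary_subSz {j : ℕ} (hj : 1 ≤ j) (hdiv : 2 * j + 1 ∣ 2 * m + 1)
    (hne : SuzukiGroupSubfield.subSz F m j ≠ ⊤) : ¬ Binary (SuzukiGroupSubfield.subSz F m j) := by
  classical
  obtain ⟨l, hl⟩ : ∃ l : Fˣ, (l : F) ^ 2 ^ (2 * j + 1) ≠ l := by
    by_contra hc
    push Not at hc
    have hall : ∀ x : F, x ^ 2 ^ (2 * j + 1) = x := fun x => by
      by_cases hx : x = 0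
      · subst hx; exact zero_pow (Nat.two_pow_pos _).ne'
      · exact hc (Units.mk0 x hx)
    refine hne (eq_top_iff.mpr ((subSz_self F m).ge.trans ?_))
    rw [SuzukiGroupSubfield.subSz, Subgroup.closure_le]
    rintro _ ((⟨a, b, -, -, rfl⟩ | ⟨l, -, rfl⟩) | rfl)
    exacts [Subgroup.subset_closure (Or.inl (Or.inl ⟨a, b, hall a, hall b, rfl⟩)),
      Subgroup.subset_closure (Or.inl (Or.inr ⟨l, hall _, rfl⟩)), Subgroup.subset_closure (Or.inr rfl)]
  obtain ⟨k, hk1, hk⟩ : ∃ k : Fˣ, k ≠ 1 ∧ (k : F) ^ 2 ^ (2 * j + 1) = k := by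
    let : Fintype (GaloisField 2 (2 * j + 1)) := Fintype.ofFinite _
    have : Param (GaloisField 2 (2 * j + 1)) j := Param.mk' hj (by
      rw [← Nat.card_eq_fintype_card, GaloisField.card 2 (2 * j + 1) (by omega)])
    obtain ⟨ι⟩ := SuzukiGroupSubfield.exists_ringHom (F := F) (m := m)
      (K := GaloisField 2 (2 * j + 1)) (k := j) hdiv
    obtain ⟨t, ht0, ht1⟩ := exists_ne_zero_one (F := GaloisField 2 (2 * j + 1)) (m := j)
    refine ⟨Units.mk0 (ι t) (by rwa [map_ne_zero]), fun e => ht1 (ι.injective ?_), ?_⟩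
    · rw [map_one]; simpa using congrArg Units.val e
    · rw [Units.val_mk0, ← map_pow, pow_q]
  let H := SuzukiGroupSubfield.subSz F m j
  let K : Subgroup G := H ⊓ H.map (MulAut.conj (Hs l : G)).toMonoidHom
  have hK : ∀ g, g ∈ K ↔ g ∈ H ∧ (Hs l : G)⁻¹ * g * Hs l ∈ H := fun g => by
    rw [Subgroup.mem_inf, Subgroup.mem_map_equiv, MulAut.conj_symm_apply]
  have hkH : (Hs k : G) ∈ H := Subgroup.subset_closure (Or.inl (Or.inr ⟨k, hk, rfl⟩))
  refine not_binary_of_tri (Hs l) hK (tri_of_torus hk1 ((hK _).mpr ⟨hkH, ?_⟩) inf_le_left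
    (a := 1) (b := 0) ?_ (fun e => one_ne_zero (Ts_eq_one e).1)
    fun g hg => Or.inl (fix_two_of_conj hl ((hK g).mp hg).1 ((hK g).mp hg).2))
  · rwa [mul_assoc, Hs_mul, mul_comm k, ← Hs_mul, inv_mul_cancel_left]
  · exact Subgroup.subset_closure (Or.inl (Or.inl ⟨1, 0, one_pow _, zero_pow (Nat.two_pow_pos _).ne', rfl⟩))

/-! ### The criterion -/

theorem not_binary_of_fix_inf {H : Subgroup G} (hH : ∀ g ∈ H, g • ∞ = ∞) (hbot : H ≠ ⊥)
    (hne : H ≠ zInf F m) : ¬ Binary H := by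
  classical
  by_cases hU : H ≤ (unipotent : Subgroup G)
  · by_cases ha : ∃ a b, a ≠ 0 ∧ (Ts a b : G) ∈ H
    · obtain ⟨a, b, ha, hab⟩ := ha
      exact not_binary_of_unipotent hU hab ha
    · refine not_binary_of_zInf (fun g hg => ?_) hbot hne
      obtain ⟨a, b, rfl⟩ := hU hg
      push Not at ha
      by_cases h0 : a = 0
      · exact ⟨b, by rw [h0]⟩
      · exact absurd hg (ha a b h0)
  obtain ⟨g, hg, hgU⟩ := SetLike.not_le_iff_exists.mp hU
  obtain ⟨a, b, k, rfl⟩ := fix_inf_iff.mp (hH g hg)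
  have hk : k ≠ 1 := fun e => hgU (by rw [e, Hs_one, mul_one]; exact Ts_mem a b)
  obtain ⟨v, hv, hvk⟩ := exists_conj_Hs (M := (⊤ : Subgroup G)) hk (Subgroup.mem_top _)
    (Subgroup.mem_inf.mpr ⟨Ts_mem (m := m) a b, Subgroup.mem_top _⟩)
  have hv' : (v⁻¹ : G) • ∞ = ∞ :=
    mem_stabilizer_iff.mp (unipotent_le_borel (inv_mem (Subgroup.mem_inf.mp hv).1))
  rw [← binary_map_iff H (MulAut.conj v⁻¹)]
  refine not_binary_of_borel_torus (fun g hg => ?_) hk ⟨_, hg, ?_⟩
  · obtain ⟨h, hh, rfl⟩ := hg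
    show (v⁻¹ * h * (v⁻¹)⁻¹ : G) • ∞ = ∞
    rw [← hv', conj_smul_eq, hH h hh]
  · show v⁻¹ * (Ts a b * Hs k) * (v⁻¹)⁻¹ = Hs k
    rw [← hvk]; group

theorem not_binary_of_normaliser {V : Subgroup G} (hV : IsCycPart F m V) {H : Subgroup G}
    (hH : H ≤ Subgroup.normalizer (V : Set G))
    (hfix : ∀ p ∈ suzukiOvoid F m, ¬ H ≤ stabilizer G p) : ¬ Binary H := by
  classical
  obtain ⟨x, hx, hxV, hx1⟩ : ∃ x ∈ H, x ∈ V ∧ x ≠ 1 := by
    by_contra hc
    push Not at hc
    have hp : IsPGroup 2 H := by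
      intro g
      refine ⟨2, ?_⟩
      have h4 : orderOf (g : G) ∣ 4 := by
        by_contra h
        exact h (hc g g.2 (hV.mem_of_not_dvd_four (hH g.2) h) ▸ by rw [orderOf_one]; exact one_dvd 4)
      exact Subtype.ext (by rw [SubmonoidClass.coe_pow]; exact orderOf_dvd_iff_pow_eq_one.mp h4)
    obtain ⟨c, hc'⟩ := exists_conj_unipotent_of_isPGroup H hp
    refine hfix (c⁻¹ • ∞) (smul_mem_ovoid _ inf_mem) fun g hg => ?_
    have h := mem_stabilizer_iff.mp (unipotent_le_borel (hc' g hg))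
    rw [mul_smul, mul_smul] at h
    rwa [mem_stabilizer_iff, eq_inv_smul_iff]
  exact not_binary_of_normalises hV hH hx hxV hx1

/-- Which coset actions of the Suzuki group are binary. -/
theorem binary_iff_zInf (H : Subgroup G) (hH : H ≠ ⊤) :
    Binary H ↔ H = ⊥ ∨ ∃ c : G, H = (zInf F m).map (MulAut.conj c).toMonoidHom := by
  refine ⟨fun hB => ?_, ?_⟩
  swap
  · rintro (rfl | ⟨c, rfl⟩)
    exacts [binary_bot, (binary_zInf F m).map _]
  by_contra hcon
  push Not at hcon
  obtain ⟨hbot, hne⟩ := hcon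
  by_cases hfix : ∃ p ∈ suzukiOvoid F m, H ≤ stabilizer G p
  · obtain ⟨p, hp, hle⟩ := hfix
    obtain ⟨c, rfl⟩ := exists_to_inf (m := m) hp
    refine not_binary_of_fix_inf (H := H.map (MulAut.conj c⁻¹).toMonoidHom) ?_ ?_ ?_ (hB.map _)
    · rintro _ ⟨g, hg, rfl⟩
      show (c⁻¹ * g * (c⁻¹)⁻¹ : G) • ∞ = ∞
      rw [inv_inv, mul_smul, mul_smul, mem_stabilizer_iff.mp (hle hg), inv_smul_smul]
    · exact fun e => hbot ((Subgroup.map_eq_bot_iff_of_injective H (MulAut.conj c⁻¹).injective).mp e)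
    · intro e
      refine hne c ?_
      rw [← e, map_conj_map, mul_inv_cancel, conj_map_one]
  push Not at hfix
  rcases classification H with ⟨p, hp, hle⟩ | ⟨V, hV, hle⟩ | ⟨j, hj, hdiv, c, rfl⟩
  · exact hfix p hp hle
  · exact not_binary_of_normaliser hV hle hfix hB
  · refine not_binary_subSz hj hdiv (fun e => hH ?_) ((binary_map_iff _ _).mp hB)
    rw [e]
    exact Subgroup.map_top_of_surjective _ (MulAut.conj c).surjective

end Cfsg.Agent.SuzukiBinary
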