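import Cfsg.Agent.Lib.SuzukiGroupSolubilizer

/-!
The class equation of a subgroup of the Suzuki group induced by the partition.
-/

set_option autoImplicit false

namespace Cfsg.Agent.SuzukiGroupClassEquation

open scoped Matrix Pointwise LinearAlgebra.Projectivization
open MulAction Cfsg.Agent.SuzukiGroupBasic Cfsg.Agent.SuzukiGroupStructure
open Cfsg.Agent.SuzukiGroupCentralizer Cfsg.Agent.SuzukiGroupTori Cfsg.Agent.SuzukiGroupPartition
open Cfsg.Agent.SuzukiGroupNilpotent Cfsg.Agent.SuzukiGroupNormalizers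
open Cfsg.Agent.SuzukiGroupSolubilizer

variable {F : Type*} [Field F] {m : ℕ} [hP : Param F m]

set_option quotPrecheck false
local notation "G" => ↥(Cfsg.Sz F m)
local notation "qq" => (2 ^ (2 * m + 1) : ℕ)
local notation "rr" => (2 ^ (m + 1) : ℕ)
local notation "N[" U "]" => Subgroup.normalizer ((U : Subgroup ↥(Cfsg.Sz F m)) : Set ↥(Cfsg.Sz F m))

/-- The nontrivial traces on `M` of the cyclic parts. -/
def IsMPart (M W : Subgroup ↥(Cfsg.Sz F m)) : Prop :=
  W ≠ ⊥ ∧ ∃ V, IsCycPart F m V ∧ W = V ⊓ M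

variable {M : Subgroup ↥(Cfsg.Sz F m)}

theorem IsMPart.le {W : Subgroup G} (hW : IsMPart M W) : W ≤ M := by
  obtain ⟨-, V, -, rfl⟩ := hW; exact inf_le_right

theorem IsMPart.map {W : Subgroup G} (hW : IsMPart M W) {x : G} (hx : x ∈ M) :
    IsMPart M (W.map (MulAut.conj x).toMonoidHom) := by
  obtain ⟨hne, V, hV, rfl⟩ := hW
  refine ⟨fun h => hne ((Subgroup.map_eq_bot_iff_of_injective _ (MulAut.conj x).injective).mp h),
    V.map (MulAut.conj x).toMonoidHom, hV.map x, ?_⟩
  rw [Subgroup.map_inf V M (MulAut.conj x).toMonoidHom (MulAut.conj x).injective]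
  have : M.map (MulAut.conj x).toMonoidHom = M :=
    (Subgroup.mem_normalizer_iff_map_conj_eq).mp (Subgroup.le_normalizer hx)
  rw [this]

theorem IsMPart.eq_inf_centralizer {W : Subgroup G} (hW : IsMPart M W) {u : G} (hu : u ∈ W)
    (h1 : u ≠ 1) : Subgroup.centralizer {u} ⊓ M = W ∧ ¬ orderOf u ∣ 4 := by
  obtain ⟨-, V, hV, rfl⟩ := hW
  exact ⟨by rw [hV.eq_centralizer hu.1 h1], hV.not_dvd_four hu.1 h1⟩

theorem isMPart_centralizer {u : G} (hu : u ∈ M) (h4 : ¬ orderOf u ∣ 4) :
    IsMPart M (Subgroup.centralizer {u} ⊓ M) := by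
  have h1 : u ≠ 1 := fun e => h4 (by rw [e, orderOf_one]; norm_num)
  refine ⟨fun h => h1 ?_, _, cyclic_centralizer h1 h4, rfl⟩
  have : u ∈ Subgroup.centralizer {u} ⊓ M := ⟨Subgroup.mem_centralizer_singleton_iff.mpr rfl, hu⟩
  rwa [h, Subgroup.mem_bot] at this

theorem IsMPart.exists_ne {W : Subgroup G} (hW : IsMPart M W) : ∃ u ∈ W, u ≠ 1 :=
  (Subgroup.bot_or_exists_ne_one W).resolve_left hW.1

theorem mem_normalizer_part {M V : Subgroup G} (hV : IsCycPart F m V) (hne : (V ⊓ M : Subgroup G) ≠ ⊥) {x : G}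
    (hx : x ∈ M) : x ∈ N[(V ⊓ M : Subgroup G)] ↔ x ∈ N[V] := by
  constructor
  · intro h
    obtain ⟨u, hu, h1⟩ := (Subgroup.bot_or_exists_ne_one (V ⊓ M)).resolve_left hne
    rw [Subgroup.mem_normalizer_iff_map_conj_eq]
    refine part_eq (hV.map x).isPart hV.isPart (g := x * u * x⁻¹) (fun e => h1 (conj_eq_one_iff.mp e))
      ⟨u, hu.1, rfl⟩ ((Subgroup.mem_normalizer_iff.mp h u).mp hu).1
  · intro h
    refine Subgroup.mem_normalizer_iff.mpr fun u => ?_
    have h1 := Subgroup.mem_normalizer_iff.mp h u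
    have h2 := Subgroup.mem_normalizer_iff.mp (Subgroup.le_normalizer hx) u
    exact ⟨fun hu => ⟨h1.mp hu.1, h2.mp hu.2⟩, fun hu => ⟨h1.mpr hu.1, h2.mpr hu.2⟩⟩

/-- The numerical data of a trace. -/
structure Data (M W : Subgroup ↥(Cfsg.Sz F m)) (c : ℕ) : Prop where
  cases : c = 1 ∨ c = 2 ∨ c = 4
  card_eq : Nat.card ↥(M ⊓ N[W]) = c * Nat.card W
  three : 3 ≤ Nat.card W
  five : c = 4 → 5 ≤ Nat.card W ∧ ∃ w ∈ M, orderOf w = 4
  invs : Nat.card {u : ↥(Cfsg.Sz F m) // u ∈ M ⊓ N[W] ∧ orderOf u = 2} =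
    if c = 1 then 0 else Nat.card W

theorem IsMPart.data {W : Subgroup G} (hW : IsMPart M W) : ∃ c, Data M W c := by
  classical
  have := finiteF (F := F) (m := m)
  have : Fact (Nat.Prime 2) := ⟨Nat.prime_two⟩
  have hne := hW.1
  obtain ⟨u₀, hu₀, hu₀1⟩ := hW.exists_ne
  obtain ⟨-, V, hV, rfl⟩ := hW
  have hN : M ⊓ N[V ⊓ M] = M ⊓ N[V] := by
    ext x
    simp only [Subgroup.mem_inf]
    exact and_congr_right fun hx => mem_normalizer_part hV hne hx
  obtain ⟨c₀, hc₀⟩ : ∃ c₀, (c₀ = 2 ∧ Nat.card V = qq - 1 ∨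
      c₀ = 4 ∧ Nat.card V ∈ ({qq + rr + 1, qq - rr + 1} : Set ℕ)) ∧ Nat.card (N[V]) = c₀ * Nat.card V := by
    rcases hV.card_normalizer with ⟨h, hk⟩ | ⟨h, hk⟩
    exacts [⟨2, Or.inl ⟨rfl, h⟩, hk⟩, ⟨4, Or.inr ⟨rfl, h⟩, hk⟩]
  obtain ⟨hc₀, hk⟩ := hc₀
  set X := M ⊓ N[V] with hX
  let f : X →* (↥(N[V]) ⧸ V.subgroupOf N[V]) :=
    (QuotientGroup.mk' _).comp (Subgroup.inclusion inf_le_right)
  have hker : Nat.card f.ker = Nat.card ↥(V ⊓ M) := by
    refine Nat.card_eq_of_bijective (fun z : f.ker => (⟨((z : X) : G), ?_, (z : X).2.1⟩ : ↥(V ⊓ M))) ⟨?_, ?_⟩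
    · have h := z.2
      rw [MonoidHom.mem_ker, MonoidHom.comp_apply, QuotientGroup.mk'_apply, QuotientGroup.eq_one_iff] at h
      exact h
    · intro a b h
      exact Subtype.ext (Subtype.ext (congrArg (fun z : ↥(V ⊓ M) => (z : G)) h))
    · rintro ⟨v, hv, hvM⟩
      refine ⟨⟨⟨v, hvM, Subgroup.le_normalizer hv⟩, ?_⟩, rfl⟩
      rw [MonoidHom.mem_ker, MonoidHom.comp_apply, QuotientGroup.mk'_apply, QuotientGroup.eq_one_iff]
      exact hv
  have hQ : Nat.card (↥(N[V]) ⧸ V.subgroupOf N[V]) = c₀ := by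
    have h1 := Subgroup.card_mul_index (V.subgroupOf N[V])
    rw [Nat.card_congr (Subgroup.subgroupOfEquivOfLe Subgroup.le_normalizer).toEquiv, hk,
      Subgroup.index_eq_card, mul_comm c₀] at h1
    exact Nat.eq_of_mul_eq_mul_left Nat.card_pos h1
  set c := Nat.card f.range with hc
  have hcd : c ∣ c₀ := hQ ▸ Subgroup.card_subgroup_dvd_card f.range
  have hcard : Nat.card X = c * Nat.card ↥(V ⊓ M) := by
    rw [← Subgroup.card_mul_index f.ker, Subgroup.index_ker, hker, mul_comm]
  have hc124 : c = 1 ∨ c = 2 ∨ c = 4 := by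
    rcases hc₀ with ⟨rfl, -⟩ | ⟨rfl, -⟩
    · rcases (Nat.dvd_prime Nat.prime_two).mp hcd with h | h <;> simp [h]
    · have := Nat.le_of_dvd four_pos hcd
      interval_cases c <;> omega
  have hW' : Nat.card ↥(V ⊓ M) ∣ Nat.card V := Subgroup.card_dvd_of_le inf_le_left
  have hone : Nat.card ↥(V ⊓ M) ≠ 1 := fun h => hne (Subgroup.card_eq_one.mp h)
  have hodd : ¬ 2 ∣ Nat.card ↥(V ⊓ M) := fun h => hV.odd (h.trans hW')
  have hpos : 0 < Nat.card ↥(V ⊓ M) := Nat.card_pos
  have hthree : 3 ≤ Nat.card ↥(V ⊓ M) := by omega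
  have hnot : ∀ u, orderOf u = 2 → u ∉ V := fun u ho hu =>
    hV.not_dvd_four hu (fun e => by rw [e, orderOf_one] at ho; norm_num at ho) (by rw [ho]; norm_num)
  have hinv : Nat.card {u : G // u ∈ X ∧ orderOf u = 2} = if c = 1 then 0 else Nat.card ↥(V ⊓ M) := by
    by_cases h1 : c = 1
    · rw [if_pos h1]
      have : IsEmpty {u : G // u ∈ X ∧ orderOf u = 2} := ⟨fun ⟨u, hu, ho⟩ => by
        have h2 : 2 ∣ Nat.card X := ho ▸ X.orderOf_dvd_natCard hu
        rw [hcard, h1, one_mul] at h2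
        exact hodd h2⟩
      exact Nat.card_of_isEmpty
    rw [if_neg h1]
    obtain ⟨⟨v, hvX⟩, hvo⟩ : ∃ v : X, orderOf v = 2 := by
      refine exists_prime_orderOf_dvd_card' 2 ?_
      rw [hcard]
      rcases hc124 with h | h | h <;> rw [h] <;> first | exact absurd h h1 | exact Dvd.dvd.mul_right (by norm_num) _
    have hvo' : orderOf v = 2 := (Subgroup.orderOf_coe (⟨v, hvX⟩ : X)).trans hvo
    have hv2 : v * v = 1 := by rw [← pow_two, ← hvo', pow_orderOf_eq_one]
    symm
    refine Nat.card_eq_of_bijective (fun h : ↥(V ⊓ M) => ⟨v * h,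
      mul_mem hvX ⟨h.2.2, Subgroup.le_normalizer h.2.1⟩, ?_⟩) ⟨?_, ?_⟩
    · refine orderOf_eq_prime ?_ fun e => hnot v hvo' ?_
      · calc (v * (h : G)) ^ 2 = (v * h * v⁻¹) * (v * v) * h := by rw [pow_two]; group
          _ = 1 := by rw [hV.invert hvX.2 hvo' h.2.1, hv2, mul_one, inv_mul_cancel]
      · rw [show v = (h : G)⁻¹ from eq_inv_of_mul_eq_one_left e]; exact inv_mem h.2.1
    · intro a b h
      exact Subtype.ext (mul_left_cancel (congrArg Subtype.val h))
    · rintro ⟨w, hw, hwo⟩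
      have hmem : v⁻¹ * w ∈ V := by
        rw [← hV.eq_centralizer hu₀.1 hu₀1, Subgroup.mem_centralizer_singleton_iff]
        have e1 := hV.invert hw.2 hwo hu₀.1
        have e2 := hV.invert hvX.2 hvo' hu₀.1
        have h' : w * u₀ * w⁻¹ = v * u₀ * v⁻¹ := e1.trans e2.symm
        calc v⁻¹ * w * u₀ = v⁻¹ * (w * u₀ * w⁻¹) * w := by group
          _ = u₀ * (v⁻¹ * w) := by rw [h']; group
      exact ⟨⟨v⁻¹ * w, hmem, (show v⁻¹ * w ∈ M from mul_mem (inv_mem hvX.1) hw.1)⟩, Subtype.ext (mul_inv_cancel_left v w)⟩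
  refine ⟨c, hc124, by rw [hN, hcard], hthree, fun h4 => ⟨?_, ?_⟩, ?_⟩
  · -- the torus case
    rcases hc₀ with ⟨rfl, -⟩ | ⟨-, hVc⟩
    · have := Nat.le_of_dvd two_pos hcd; omega
    · by_contra h5
      have h33 : Nat.card ↥(V ⊓ M) = 3 := by omega
      have hT : IsTorus V := by
        rcases hV.cases with ⟨hq, -⟩ | ⟨hT, -⟩
        · exfalso
          obtain ⟨h1, h2, -, -⟩ := r_facts (F := F) (m := m)
          have := four_le_r (F := F) (m := m)
          rcases hVc with h | h <;> first | omega | (rw [Set.mem_singleton_iff] at h; omega)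
        · exact hT
      exact (coprime_sub_one Nat.prime_three ((h33 ▸ hW').trans hT.card_dvd)).2.1 rfl
  · by_contra hno
    push Not at hno
    let : Fintype G := Fintype.ofFinite _
    have hsub : (Finset.univ.filter fun u : G => u ∈ X) ⊆
        (Finset.univ.filter fun u : G => u ∈ V ⊓ M) ∪
          (Finset.univ.filter fun u : G => u ∈ X ∧ orderOf u = 2) := by
      intro u hu
      simp only [Finset.mem_filter, Finset.mem_univ, true_and] at hu
      simp only [Finset.mem_union, Finset.mem_filter, Finset.mem_univ, true_and]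
      by_cases huV : u ∈ V
      · exact Or.inl ⟨huV, hu.1⟩
      have h4' : orderOf u ∣ 4 := by_contra fun h => huV (hV.mem_of_not_dvd_four hu.2 h)
      obtain ⟨i, hi⟩ := exists_pow_of_dvd_four h4'
      have h5 := Nat.le_of_dvd four_pos h4'
      have : i < 3 := by
        by_contra h
        have : 2 ^ 3 ≤ 2 ^ i := Nat.pow_le_pow_right two_pos (by omega)
        omega
      interval_cases i
      · exact absurd (orderOf_eq_one_iff.mp hi ▸ V.one_mem) huV
      · exact Or.inr ⟨hu, hi⟩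
      · exact absurd hi (hno u hu.1)
    have := (Finset.card_le_card hsub).trans (Finset.card_union_le _ _)
    have e1 : (Finset.univ.filter fun u : G => u ∈ X).card = Nat.card X := by
      rw [Nat.card_eq_fintype_card, Fintype.card_subtype]
    have e2 : (Finset.univ.filter fun u : G => u ∈ V ⊓ M).card = Nat.card ↥(V ⊓ M) := by
      rw [Nat.card_eq_fintype_card, Fintype.card_subtype]
    have e3 : (Finset.univ.filter fun u : G => u ∈ X ∧ orderOf u = 2).card =
        Nat.card {u : G // u ∈ X ∧ orderOf u = 2} := by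
      rw [Nat.card_eq_fintype_card, Fintype.card_subtype]
    rw [e1, e2, e3, hcard, h4, hinv, if_neg (by omega : c ≠ 1)] at this
    omega
  · rw [hN]; exact hinv

theorem Data.map {W : Subgroup G} {c : ℕ} (h : Data M W c) {x : G} (hx : x ∈ M) :
    Nat.card (W.map (MulAut.conj x).toMonoidHom) = Nat.card W ∧
    Nat.card {u : G // u ∈ M ⊓ N[W.map (MulAut.conj x).toMonoidHom] ∧ orderOf u = 2} =
      if c = 1 then 0 else Nat.card W := by
  refine ⟨Subgroup.card_map_of_injective (MulAut.conj x).injective, ?_⟩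
  rw [← h.invs]
  refine Nat.card_congr ((MulAut.conj x).symm.toEquiv.subtypeEquiv fun u => ?_)
  rw [normalizer_map]
  change _ ↔ (MulAut.conj x).symm u ∈ M ⊓ _ ∧ orderOf ((MulAut.conj x).symm u) = 2
  rw [MulEquiv.orderOf_eq, Subgroup.mem_inf, Subgroup.mem_inf, Subgroup.mem_map_equiv,
    MulAut.conj_symm_apply]
  have : x⁻¹ * u * x ∈ M ↔ u ∈ M :=
    ⟨fun h => by simpa [mul_assoc] using mul_mem (mul_mem hx h) (inv_mem hx),
      fun h => mul_mem (mul_mem (inv_mem hx) h) hx⟩
  rw [this]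

/-- The weight of a class. -/
noncomputable def wt (c v : ℕ) : ℚ := ((v : ℚ) - 1) / ((c : ℚ) * (v : ℚ))

/-- The 2-elements of `M` other than `1`. -/
noncomputable def eCount (M : Subgroup ↥(Cfsg.Sz F m)) : ℕ :=
  Nat.card {u : ↥(Cfsg.Sz F m) // u ∈ M ∧ u ≠ 1 ∧ orderOf u ∣ 4}

/-- The non-commuting ordered pairs of involutions of `M`. -/
noncomputable def pCount (M : Subgroup ↥(Cfsg.Sz F m)) : ℕ :=
  Nat.card {p : ↥(Cfsg.Sz F m) × ↥(Cfsg.Sz F m) //
    (p.1 ∈ M ∧ orderOf p.1 = 2) ∧ (p.2 ∈ M ∧ orderOf p.2 = 2) ∧ ¬ Commute p.1 p.2}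

theorem not_dvd_four_mul {z u : G} (hz : orderOf z = 2) (hu : orderOf u = 2) (hne : ¬ Commute z u) :
    ¬ orderOf (z * u) ∣ 4 := by
  intro h
  have hz2 : z * z = 1 := by rw [← pow_two, ← hz, pow_orderOf_eq_one]
  have hu2 : u * u = 1 := by rw [← pow_two, ← hu, pow_orderOf_eq_one]
  have hz1 : z ≠ 1 := fun e => by rw [e, orderOf_one] at hz; norm_num at hz
  have hu1 : u ≠ 1 := fun e => by rw [e, orderOf_one] at hu; norm_num at hu
  set d := z * u with hd
  have hzd : z * d * z⁻¹ = d⁻¹ := by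
    rw [hd, inv_eq_of_mul_eq_one_right hz2, mul_inv_rev, inv_eq_of_mul_eq_one_right hu2,
      inv_eq_of_mul_eq_one_right hz2, ← mul_assoc, hz2, one_mul]
  -- a central involution of the dihedral group commutes with both
  have hd2 : d * d ≠ 1 := fun e => hne (by
    have : d⁻¹ = d := inv_eq_of_mul_eq_one_right e
    rw [hd, mul_inv_rev, inv_eq_of_mul_eq_one_right hu2, inv_eq_of_mul_eq_one_right hz2] at this
    exact this.symm)
  have hd4 : d * d * (d * d) = 1 := by
    rw [← pow_two, ← pow_two, ← pow_mul]; exact orderOf_dvd_iff_pow_eq_one.mp h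
  have hj : orderOf (d * d) = 2 := orderOf_eq_prime (by rw [pow_two]; exact hd4) hd2
  obtain ⟨P, hP⟩ := exists_sylow_mem (g := d * d) (by rw [hj]; norm_num)
  have hcz : Commute z (d * d) := by
    have h1 : z * (d * d) * z⁻¹ = d * d := by
      rw [← conj_mul, hzd, ← mul_inv_rev, inv_eq_of_mul_eq_one_right hd4]
    exact mul_inv_eq_iff_eq_mul.mp h1
  have hu' : u = z * d := by rw [hd, ← mul_assoc, hz2, one_mul]
  have hcu : Commute u (d * d) := by
    rw [hu']; exact hcz.mul_left ((Commute.refl d).mul_right (Commute.refl d))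
  have hPz := mem_part_of_commute hd2 (Or.inl ⟨P, rfl⟩) hP hcz
  have hPu := mem_part_of_commute hd2 (Or.inl ⟨P, rfl⟩) hP hcu
  -- involutions in one Sylow subgroup commute
  obtain ⟨c, hc⟩ := exists_conj_sylow P
  rw [hc, Subgroup.mem_map] at hPz hPu
  obtain ⟨z', ⟨a, b, rfl⟩, rfl⟩ := hPz
  obtain ⟨u', ⟨a', b', rfl⟩, rfl⟩ := hPu
  change orderOf (MulAut.conj c (Ts a b : G)) = 2 at hz
  rw [MulEquiv.orderOf_eq] at hz
  obtain rfl : a = 0 := by by_contra ha; rw [orderOf_Ts_of_ne ha] at hz; norm_num at hz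
  refine hne (Commute.map (?_ : Commute (Ts 0 b : G) (Ts a' b')) (MulAut.conj c))
  exact ((commute_Ts_iff (m := m) 0 b).mpr rfl _ (Ts_mem a' b')).symm

variable (M) in
theorem exists_classes : ∃ (𝒦 : Finset (Subgroup G)) (c : Subgroup G → ℕ),
    (∀ K ∈ 𝒦, IsMPart M K ∧ Data M K (c K)) ∧
    (∀ W, IsMPart M W → ∃ K ∈ 𝒦, ∃ x ∈ M, W = K.map (MulAut.conj x).toMonoidHom) ∧
    (Nat.card M : ℚ) = 1 + eCount M + Nat.card M * ∑ K ∈ 𝒦, wt (c K) (Nat.card K) ∧
    (pCount M : ℚ) = Nat.card M *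
      ∑ K ∈ 𝒦, (if c K = 1 then 0 else ((Nat.card K : ℚ) - 1) / (c K : ℚ)) := by
  classical
  have := finiteF (F := F) (m := m)
  let : Fintype G := Fintype.ofFinite _
  let : Fintype (Subgroup G) := Fintype.ofFinite _
  let Mf : Finset G := Finset.univ.filter fun x => x ∈ M
  set 𝒲 : Finset (Subgroup G) := Finset.univ.filter (IsMPart M) with h𝒲
  let cls : Subgroup G → Finset (Subgroup G) := fun W =>
    Mf.image fun x : G => W.map (MulAut.conj x).toMonoidHom
  have hone : ∀ W : Subgroup G, W.map (MulAut.conj (1 : G)).toMonoidHom = W := fun W => by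
    ext x; simp
  have hself : ∀ W : Subgroup G, W ∈ cls W := fun W =>
    Finset.mem_image.mpr ⟨1, by simp [Mf], hone W⟩
  have hclseq : ∀ (W : Subgroup G) (x : G), x ∈ M → cls (W.map (MulAut.conj x).toMonoidHom) = cls W := by
    intro W x hx
    ext V
    simp only [cls, Mf, Finset.mem_image, Finset.mem_filter, Finset.mem_univ, true_and]
    constructor
    · rintro ⟨d, hd, rfl⟩; exact ⟨d * x, mul_mem hd hx, (map_conj_map W x d).symm⟩
    · rintro ⟨d, hd, rfl⟩
      exact ⟨d * x⁻¹, mul_mem hd (inv_mem hx), by rw [map_conj_map, inv_mul_cancel_right]⟩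
  have hex : ∀ C ∈ 𝒲.image cls, ∃ W, IsMPart M W ∧ cls W = C := by
    intro C hC
    obtain ⟨W, hW, rfl⟩ := Finset.mem_image.mp hC
    exact ⟨W, (Finset.mem_filter.mp hW).2, rfl⟩
  choose! rep hrep hrepcls using hex
  choose! c hc using fun (W : Subgroup G) (hW : IsMPart M W) => hW.data
  set 𝒦 := (𝒲.image cls).image rep with h𝒦
  have hmem : ∀ K ∈ 𝒦, IsMPart M K := by
    intro K hK
    obtain ⟨C, hC, rfl⟩ := Finset.mem_image.mp hK
    exact hrep C hC
  have hmaps : ∀ W ∈ 𝒲, cls W ∈ 𝒲.image cls := fun W hW => Finset.mem_image_of_mem _ hW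
  -- sums of class functions
  have hsum : ∀ f : Subgroup G → ℕ, (∀ W ∈ 𝒲, ∀ x ∈ M, f (W.map (MulAut.conj x).toMonoidHom) = f W) →
      ((∑ W ∈ 𝒲, f W : ℕ) : ℚ) =
        Nat.card M * ∑ K ∈ 𝒦, (f K : ℚ) / ((c K : ℚ) * (Nat.card K : ℚ)) := by
    intro f hf
    have hinj : Set.InjOn rep ↑(𝒲.image cls) := fun C hC D hD e => by
      rw [← hrepcls C hC, ← hrepcls D hD, e]
    rw [← Finset.sum_fiberwise_of_maps_to hmaps, Nat.cast_sum, h𝒦, Finset.sum_image hinj,
      Finset.mul_sum]
    refine Finset.sum_congr rfl fun C hC => ?_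
    have hK := hrep C hC
    set K := rep C with hKdef
    have hfib : (𝒲.filter fun W => cls W = C) = cls K := by
      ext W
      simp only [Finset.mem_filter]
      constructor
      · rintro ⟨-, h⟩
        rw [hrepcls C hC, ← h]; exact hself W
      · intro h
        obtain ⟨x, hx, rfl⟩ := Finset.mem_image.mp h
        simp only [Mf, Finset.mem_filter, Finset.mem_univ, true_and] at hx
        refine ⟨Finset.mem_filter.mpr ⟨Finset.mem_univ _, hK.map hx⟩, ?_⟩
        rw [hclseq K x hx, hrepcls C hC]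
    rw [hfib, Finset.sum_const_nat (m := f K) (fun W hW => by
      obtain ⟨x, hx, rfl⟩ := Finset.mem_image.mp hW
      simp only [Mf, Finset.mem_filter, Finset.mem_univ, true_and] at hx
      exact hf K (Finset.mem_filter.mpr ⟨Finset.mem_univ _, hK⟩) x hx)]
    have hcard : (cls K).card * Nat.card ↥(M ⊓ N[K]) = Nat.card M := by
      have e : Nat.card M = Mf.card := by rw [Nat.card_eq_fintype_card, Fintype.card_subtype]
      rw [e, Finset.card_eq_sum_card_image (fun x : G => K.map (MulAut.conj x).toMonoidHom) Mf]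
      symm
      refine Finset.sum_const_nat fun W hW => ?_
      obtain ⟨x, hx, rfl⟩ := Finset.mem_image.mp hW
      simp only [Mf, Finset.mem_filter, Finset.mem_univ, true_and] at hx
      rw [Nat.card_eq_fintype_card, ← Fintype.card_coe]
      refine Fintype.card_congr ?_
      refine (Equiv.mulLeft x⁻¹).subtypeEquiv fun y => ?_
      simp only [Mf, Finset.mem_filter, Finset.mem_univ, true_and, Equiv.coe_mulLeft, Subgroup.mem_inf]
      rw [Subgroup.mem_normalizer_iff_map_conj_eq]
      change _ ↔ _ ∧ K.map (MulAut.conj (x⁻¹ * y)).toMonoidHom = K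
      refine ⟨fun ⟨hy, h⟩ => ⟨mul_mem (inv_mem hx) hy, ?_⟩, fun ⟨hy, h⟩ => ⟨?_, ?_⟩⟩
      · rw [← map_conj_map, h, map_conj_map, inv_mul_cancel, hone]
      · simpa using mul_mem hx hy
      · have h2 := congrArg (fun W : Subgroup G => W.map (MulAut.conj x).toMonoidHom) h
        rwa [map_conj_map, mul_inv_cancel_left] at h2
    obtain ⟨hc1, hc2, hc3, -, -⟩ := hc K hK
    rw [hc2] at hcard
    rw [Nat.cast_mul, ← hcard]
    push_cast
    have hc0 : (c K : ℚ) ≠ 0 := by
      rcases hc1 with h | h | h <;> rw [h] <;> norm_num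
    have hv0 : (Nat.card K : ℚ) ≠ 0 := Nat.cast_ne_zero.mpr (by omega)
    field_simp
  refine ⟨𝒦, c, fun K hK => ⟨hmem K hK, hc K (hmem K hK)⟩, ?_, ?_, ?_⟩
  · intro W hW
    have hC : cls W ∈ 𝒲.image cls := hmaps W (Finset.mem_filter.mpr ⟨Finset.mem_univ _, hW⟩)
    refine ⟨rep (cls W), Finset.mem_image_of_mem _ hC, ?_⟩
    have h := hself W
    rw [← hrepcls _ hC] at h
    obtain ⟨x, hx, he⟩ := Finset.mem_image.mp h
    exact ⟨x, (Finset.mem_filter.mp hx).2, he.symm⟩
  · -- the elements of M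
    have hcardM : Nat.card M = 1 + eCount M + ∑ W ∈ 𝒲, (Nat.card W - 1) := by
      let E := Mf.filter fun u => u ≠ 1 ∧ orderOf u ∣ 4
      let R := Mf.filter fun u => ¬ orderOf u ∣ 4
      have hE : eCount M = E.card := by
        rw [eCount, Nat.card_eq_fintype_card, Fintype.card_subtype]
        congr 1
        ext u
        simp [E, Mf]
      have hsplit : Mf = (insert 1 E) ∪ R := by
        ext u
        simp only [Finset.mem_union, Finset.mem_insert, E, R, Mf, Finset.mem_filter, Finset.mem_univ,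
          true_and]
        constructor
        · intro hu
          by_cases h1 : u = 1
          · exact Or.inl (Or.inl h1)
          by_cases h4 : orderOf u ∣ 4
          exacts [Or.inl (Or.inr ⟨hu, h1, h4⟩), Or.inr ⟨hu, h4⟩]
        · rintro ((rfl | h) | h)
          exacts [one_mem M, h.1, h.1]
      have hd : Disjoint (insert 1 E) R := by
        rw [Finset.disjoint_left]
        intro u hu hu'
        simp only [R, Finset.mem_filter] at hu'
        rcases Finset.mem_insert.mp hu with rfl | hu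
        · exact hu'.2 (by rw [orderOf_one]; norm_num)
        · exact hu'.2 (Finset.mem_filter.mp hu).2.2
      have hR : R.card = ∑ W ∈ 𝒲, (Nat.card W - 1) := by
        rw [Finset.card_eq_sum_card_fiberwise (f := fun u : G => Subgroup.centralizer {u} ⊓ M) (t := 𝒲)
          (fun u hu => by
            simp only [R, Mf, Finset.mem_coe, Finset.mem_filter, Finset.mem_univ, true_and] at hu
            simp only [𝒲, Finset.mem_coe, Finset.mem_filter, Finset.mem_univ, true_and]
            exact isMPart_centralizer hu.1 hu.2)]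
        refine Finset.sum_congr rfl fun W hW => ?_
        simp only [𝒲, Finset.mem_filter, Finset.mem_univ, true_and] at hW
        rw [Nat.card_eq_fintype_card, Fintype.card_subtype, ← Finset.card_erase_of_mem
          (s := Finset.univ.filter fun x : G => x ∈ W) (a := 1) (by simp)]
        congr 1
        ext u
        simp only [R, Mf, Finset.mem_erase, Finset.mem_filter, Finset.mem_univ, true_and]
        constructor
        · rintro ⟨⟨hu, h4⟩, rfl⟩
          exact ⟨fun e => h4 (by rw [e, orderOf_one]; norm_num),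
            Subgroup.mem_centralizer_singleton_iff.mpr rfl, hu⟩
        · rintro ⟨h1, huW⟩
          exact ⟨⟨hW.le huW, (hW.eq_inf_centralizer huW h1).2⟩, (hW.eq_inf_centralizer huW h1).1⟩
      have e : Nat.card M = Mf.card := by rw [Nat.card_eq_fintype_card, Fintype.card_subtype]
      rw [e, hsplit, Finset.card_union_of_disjoint hd,
        Finset.card_insert_of_notMem (by simp [E]), hE, hR, add_comm 1]
    have h := hsum (fun W => Nat.card W - 1) fun W _ x _ => by
      rw [Subgroup.card_map_of_injective (MulAut.conj x).injective]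
    have e : ∀ K ∈ 𝒦, (((Nat.card K - 1 : ℕ) : ℚ)) / ((c K : ℚ) * (Nat.card K : ℚ)) = wt (c K) (Nat.card K) := by
      intro K hK
      have := (hc K (hmem K hK)).three
      rw [wt, Nat.cast_sub (by omega), Nat.cast_one]
    rw [Finset.sum_congr rfl e] at h
    conv_lhs => rw [hcardM]
    push_cast at h ⊢
    rw [h]
  · -- pairs of involutions
    let P := (Finset.univ : Finset (G × G)).filter fun p =>
      (p.1 ∈ M ∧ orderOf p.1 = 2) ∧ (p.2 ∈ M ∧ orderOf p.2 = 2) ∧ ¬ Commute p.1 p.2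
    have hPc : pCount M = P.card := by
      rw [pCount, Nat.card_eq_fintype_card, Fintype.card_subtype]
    let inv : Subgroup G → Finset G := fun W =>
      Finset.univ.filter fun u => u ∈ M ⊓ N[W] ∧ orderOf u = 2
    let nt : Subgroup G → Finset G := fun W => Finset.univ.filter fun d => d ∈ W ∧ d ≠ 1
    have hP : P.card = ∑ W ∈ 𝒲, (inv W).card * (nt W).card := by
      simp only [← Finset.card_product]
      rw [← Finset.card_sigma]
      refine Finset.card_bij'
        (fun p _ => ⟨Subgroup.centralizer {p.1 * p.2} ⊓ M, (p.1, p.1 * p.2)⟩)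
        (fun x _ => (x.2.1, x.2.1 * x.2.2)) ?_ ?_ ?_ ?_
      · intro p hp
        simp only [P, Finset.mem_filter, Finset.mem_univ, true_and] at hp
        obtain ⟨⟨h1, o1⟩, ⟨h2, o2⟩, hnc⟩ := hp
        have h4 := not_dvd_four_mul o1 o2 hnc
        have hd1 : p.1 * p.2 ≠ 1 := fun e => h4 (by rw [e, orderOf_one]; norm_num)
        have hWp := isMPart_centralizer (M := M) (mul_mem h1 h2) h4
        have hz2 : p.1 * p.1 = 1 := by rw [← pow_two, ← o1, pow_orderOf_eq_one]
        have hu2 : p.2 * p.2 = 1 := by rw [← pow_two, ← o2, pow_orderOf_eq_one]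
        have hN : p.1 ∈ N[Subgroup.centralizer {p.1 * p.2} ⊓ M] := by
          rw [mem_normalizer_part (cyclic_centralizer hd1 h4) hWp.1 h1,
            Subgroup.mem_normalizer_iff_map_conj_eq]
          have hcy : IsCycPart F m (Subgroup.centralizer {p.1 * p.2}) := cyclic_centralizer hd1 h4
          refine part_eq (hcy.map p.1).isPart hcy.isPart (g := p.1 * (p.1 * p.2) * p.1⁻¹)
            (fun e => hd1 (conj_eq_one_iff.mp e))
            ⟨_, Subgroup.mem_centralizer_singleton_iff.mpr rfl, rfl⟩ ?_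
          have e : p.1 * (p.1 * p.2) * p.1⁻¹ = (p.1 * p.2)⁻¹ := by
            rw [inv_eq_of_mul_eq_one_right hz2, mul_inv_rev, inv_eq_of_mul_eq_one_right hu2,
              inv_eq_of_mul_eq_one_right hz2, ← mul_assoc, hz2, one_mul]
          rw [e]
          exact inv_mem (Subgroup.mem_centralizer_singleton_iff.mpr rfl)
        simp only [Finset.mem_sigma, Finset.mem_product, 𝒲, inv, nt, Finset.mem_filter,
          Finset.mem_univ, true_and]
        exact ⟨hWp, ⟨⟨h1, hN⟩, o1⟩, ⟨Subgroup.mem_centralizer_singleton_iff.mpr rfl, mul_mem h1 h2⟩, hd1⟩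
      · rintro ⟨W, z, d⟩ hx
        simp only [Finset.mem_sigma, Finset.mem_product, 𝒲, inv, nt, Finset.mem_filter,
          Finset.mem_univ, true_and] at hx
        obtain ⟨hW, ⟨⟨hzM, hzN⟩, oz⟩, hd, hd1⟩ := hx
        obtain ⟨hne, V, hV, rfl⟩ := hW
        have hzV : z ∈ N[V] := (mem_normalizer_part hV hne hzM).mp hzN
        have hinv := hV.invert hzV oz hd.1
        have hz2 : z * z = 1 := by rw [← pow_two, ← oz, pow_orderOf_eq_one]
        simp only [P, Finset.mem_filter, Finset.mem_univ, true_and]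
        refine ⟨⟨hzM, oz⟩, ⟨mul_mem hzM hd.2, orderOf_eq_prime ?_ ?_⟩, ?_⟩
        · calc (z * d) ^ 2 = (z * d * z⁻¹) * (z * z) * d := by rw [pow_two]; group
            _ = 1 := by rw [hinv, hz2, mul_one, inv_mul_cancel]
        · intro e
          exact hV.not_dvd_four hd.1 hd1 (by
            rw [show d = z⁻¹ from eq_inv_of_mul_eq_one_right e, orderOf_inv, oz]; norm_num)
        · intro hcom
          have h1 : z * d = d * z := by
            have e1 : z * (z * d) = z * d * z := hcom.eq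
            rw [mul_assoc z d z] at e1
            exact mul_left_cancel e1
          rw [h1, mul_inv_cancel_right] at hinv
          refine hV.not_dvd_four hd.1 hd1 ?_
          refine (orderOf_dvd_of_pow_eq_one (n := 2) ?_).trans (by norm_num)
          rw [pow_two]; nth_rewrite 2 [hinv]; exact mul_inv_cancel d
      · intro p hp
        simp only [P, Finset.mem_filter, Finset.mem_univ, true_and] at hp
        have hz2 : p.1 * p.1 = 1 := by rw [← pow_two, ← hp.1.2, pow_orderOf_eq_one]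
        refine Prod.ext rfl ?_
        change p.1 * (p.1 * p.2) = p.2
        rw [← mul_assoc, hz2, one_mul]
      · rintro ⟨W, z, d⟩ hx
        simp only [Finset.mem_sigma, Finset.mem_product, 𝒲, inv, nt, Finset.mem_filter,
          Finset.mem_univ, true_and] at hx
        obtain ⟨hW, ⟨-, oz⟩, hd, hd1⟩ := hx
        have hz2 : z * z = 1 := by rw [← pow_two, ← oz, pow_orderOf_eq_one]
        have e : z * (z * d) = d := by rw [← mul_assoc, hz2, one_mul]
        simp only [e, (hW.eq_inf_centralizer hd hd1).1]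
    have hnt : ∀ W : Subgroup G, (nt W).card = Nat.card W - 1 := by
      intro W
      rw [Nat.card_eq_fintype_card, Fintype.card_subtype, ← Finset.card_erase_of_mem
        (s := Finset.univ.filter fun x : G => x ∈ W) (a := 1) (by simp)]
      congr 1
      ext x
      simp [nt, and_comm]
    have hinvW : ∀ W : Subgroup G, (inv W).card = Nat.card {u : G // u ∈ M ⊓ N[W] ∧ orderOf u = 2} :=
      fun W => by rw [Nat.card_eq_fintype_card, Fintype.card_subtype]
    rw [hPc, hP, hsum (fun W => (inv W).card * (nt W).card) ?_]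
    · congr 1
      refine Finset.sum_congr rfl fun K hK => ?_
      obtain ⟨hc1, -, hc3, -, hinvK⟩ := hc K (hmem K hK)
      rw [Nat.cast_mul, hinvW, hnt, hinvK, Nat.cast_sub (by omega), Nat.cast_one]
      have hv0 : (Nat.card K : ℚ) ≠ 0 := Nat.cast_ne_zero.mpr (by omega)
      rcases hc1 with h | h | h <;> simp [h] <;> field_simp
    · intro W hW x hx
      simp only [𝒲, Finset.mem_filter, Finset.mem_univ, true_and] at hW
      obtain ⟨h1, h2⟩ := (hc W hW).map hx
      rw [hnt, hnt, h1, hinvW, hinvW, h2, (hc W hW).invs]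

end Cfsg.Agent.SuzukiGroupClassEquation
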