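import Cfsg.Agent.Lib.SuzukiGroupTrace

/-!
Every nontrivial element of the Suzuki group is a product of two conjugates of any given element of
order greater than two.
-/

set_option autoImplicit false

namespace Cfsg.Agent.SuzukiGroupCover

open Cfsg.Agent.SuzukiGroupBasic Cfsg.Agent.SuzukiGroupStructure
open Cfsg.Agent.SuzukiGroupGow Cfsg.Agent.SuzukiGroupTrace

variable {F : Type*} [Field F] {m : ℕ} [hP : Param F m]

set_option quotPrecheck false
local notation "G" => ↥(Cfsg.Sz F m)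

/-- `g` is a product of two conjugates of `x`. -/
def Pair (x g : G) : Prop := ∃ y₁ y₂ : G, IsConj x y₁ ∧ IsConj x y₂ ∧ g = y₁ * y₂

omit hP in
theorem Pair.of_conj {x g g' : G} (h : Pair x g') (hc : IsConj g g') : Pair x g := by
  obtain ⟨y₁, y₂, h1, h2, rfl⟩ := h
  obtain ⟨c, hc⟩ := isConj_iff.mp hc.symm
  exact ⟨c * y₁ * c⁻¹, c * y₂ * c⁻¹, h1.trans (isConj_iff.mpr ⟨c, rfl⟩),
    h2.trans (isConj_iff.mpr ⟨c, rfl⟩), by rw [← hc]; group⟩

theorem pair_of_trM {x y g : G} (hx : Semi x) (h1 : trM y = trM x) (h2 : trM (y * g) = trM x) :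
    Pair x g := by
  have hy : Semi y := semi_of_trM (h1.symm ▸ trM_ne_zero hx)
  exact ⟨y⁻¹, y * g, isConj_of_trM hx ((trM_inv hy).trans h1), isConj_of_trM hx h2,
    (inv_mul_cancel_left y g).symm⟩

theorem semi_invol {x : G} (hx : Semi x) : Pair x (Ts 0 1) := by
  have := charTwo (F := F) (m := m)
  obtain ⟨z, hz0, hz⟩ := exists_quad (m := m) (trM x)
  obtain ⟨v, hv⟩ := exists_sg_add (m := m) (y := (trM x * z + 1) * sg m z + 1) (by
    rw [Tr_add, Tr_one, show (trM x * z + 1) * sg m z = trM x * z * sg m z + sg m z by ring,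
      Tr_add, Tr_sg, add_comm (Tr m (trM x * z * sg m z)), ← Tr_add, hz, CharTwo.add_self_eq_zero])
  have hsz := sg_ne_zero (m := m) hz0
  set l : Fˣ := Units.mk0 (sg m z)⁻¹ (inv_ne_zero hsz)
  have hl : tg m (l : F) = z⁻¹ := by rw [Units.val_mk0, tg_inv, tg_sg]
  have key : ∀ w : F, sg m w + w = sg m v + v → trM (Ws * Hs l * Ts 1 w : G) = trM x := by
    intro w hw
    rw [trM_Ws_Hs_Ts, hl, Units.val_mk0, ff, sg_one]
    have : w + 1 + sg m w = (trM x * z + 1) * sg m z := by grind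
    rw [one_mul, one_pow, mul_one, this]
    field_simp
    grind
  refine pair_of_trM hx (key v rfl) ?_
  rw [mul_assoc, Ts_mul, add_zero, mul_zero, add_zero]
  refine key _ ?_
  rw [sg_add, sg_one]; grind

theorem semi_four {x : G} (hx : Semi x) (h : F) : Pair x (Ts 1 h) := by
  have := charTwo (F := F) (m := m)
  set γ := trM x
  set v₀ := tg m γ
  have hv : sg m v₀ = γ := sg_tg γ
  obtain ⟨p, hp0, hp⟩ := exists_quad (m := m) v₀
  have hsp := sg_ne_zero (m := m) hp0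
  obtain ⟨w, hw, hwε⟩ := exists_sg_add_Tr (m := m) (y := p ^ 2 + v₀ * p * sg m p + 1)
    (by rw [Tr_add, Tr_add, Tr_sq, ← Tr_add, hp, Tr_one, CharTwo.add_self_eq_zero]) h
  set a := p⁻¹ with ha
  have ha0 : a ≠ 0 := inv_ne_zero hp0
  have hsa := sg_ne_zero (m := m) ha0
  refine Pair.of_conj (g' := Ts a (w * (a * sg m a))) ?_ (isConj_Ts one_ne_zero ha0 ?_)
  · have h1 : trM (Ws * Hs 1 * Ts 0 v₀ : G) = γ := by
      rw [trM_Ws_Hs_Ts, Units.val_one, ff, sg_zero, hv, show tg m (1 : F) = 1 from one_pow _]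
      ring
    refine pair_of_trM (y := Ws * Hs 1 * Ts 0 v₀) hx h1 ?_
    rw [mul_assoc, Ts_mul, zero_add, sg_zero, zero_mul, add_zero, trM_Ws_Hs_Ts, Units.val_one,
      show tg m (1 : F) = 1 from one_pow _, ff, sg_add, sg_mul, sg_mul, sg_sg, hv]
    have e1 : p * a = 1 := mul_inv_cancel₀ hp0
    have e2 : sg m p * sg m a = 1 := by rw [← sg_mul, e1, sg_one]
    grind
  · rw [sg_one, mul_one, div_one, mul_div_assoc, div_self (mul_ne_zero ha0 hsa), mul_one, hwε]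

theorem four_semi {g : G} (hg : Semi g) (e : F) : Pair (Ts 1 e) g := by
  have := charTwo (F := F) (m := m)
  set γ := trM g
  obtain ⟨p, hp0, hp⟩ := exists_quad (m := m) (tg m γ)
  have hsp := sg_ne_zero (m := m) hp0
  set c := p⁻¹
  have hc0 : c ≠ 0 := inv_ne_zero hp0
  have hsc := sg_ne_zero (m := m) hc0
  set Z := tg m (tg m ((γ / sg m c + 1) / c ^ 2)) with hZdef
  have hZ2 : Z ^ 2 = (γ / sg m c + 1) / c ^ 2 := by
    rw [hZdef, pow_two, tg_mul_tg, sg_tg]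
  have hTr : Tr m Z = 1 := by
    rw [← Tr_sq, hZ2, show (γ / sg m c + 1) / c ^ 2 = γ * sg m p * p ^ 2 + p ^ 2 by
      simp only [c, sg_inv]; field_simp, Tr_add, Tr_sq,
      show γ * sg m p * p ^ 2 = sg m (tg m γ * p * sg m p) by rw [sg_mul, sg_mul, sg_tg, sg_sg],
      Tr_sg, add_comm, ← Tr_add, hp]
  obtain ⟨z, hz, hzε⟩ := exists_sg_add_Tr (m := m) (y := Z + 1)
    (by rw [Tr_add, hTr, Tr_one, CharTwo.add_self_eq_zero]) e
  have h1 : IsConj (Ts 1 e : G) (Ts 1 z) := isConj_Ts_one hzε.symm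
  have h2 : IsConj (Ts 1 e : G) (Ts c (z * (c * sg m c))) :=
    isConj_Ts one_ne_zero hc0 (by
      rw [sg_one, mul_one, div_one, mul_div_assoc, div_self (mul_ne_zero hc0 hsc), mul_one, hzε])
  have h3 : IsConj (Ts 1 e : G) (Ws * Ts c (z * (c * sg m c)) * Ws) :=
    h2.trans (isConj_iff.mpr ⟨Ws, by rw [Ws_inv]⟩)
  refine Pair.of_conj (g' := Ts 1 z * (Ws * Ts c (z * (c * sg m c)) * Ws))
    ⟨_, _, h1, h3, rfl⟩ ?_
  refine isConj_of_trM hg ?_
  rw [trM_Ts_Ws, sg_one, ff, ff, sg_mul, sg_mul, sg_sg, sg_one]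
  have e1 : sg m c * (1 + c ^ 2 * Z ^ 2) = γ := by
    rw [hZ2]; field_simp; grind
  show _ = γ
  rw [← e1]
  grind

theorem four_four (e h : F) : Pair (Ts 1 e : G) (Ts 1 h) := by
  have := charTwo (F := F) (m := m)
  obtain ⟨a, ha0, ha1⟩ := exists_ne_zero_one (F := F) (m := m)
  set c := 1 + a with hc
  have hc0 : c ≠ 0 := fun h' => ha1 (CharTwo.add_eq_zero.mp h').symm
  set α := a * sg m a with hαd
  set β := c * sg m c with hβd
  have hα : α ≠ 0 := mul_ne_zero ha0 (sg_ne_zero ha0)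
  have hβ : β ≠ 0 := mul_ne_zero hc0 (sg_ne_zero hc0)
  have hne : α / β ≠ 1 := by
    intro h'
    rw [div_eq_one_iff_eq hβ, hαd, hβd, hc, sg_add, sg_one] at h'
    refine sg_ne_self_add_one (m := m) a ?_
    grind
  set R := h + sg m a * c
  obtain ⟨w, hw1, hw2⟩ := exists_Tr_Tr (m := m) (div_ne_zero hα hβ) hne e (e + R / β)
  set w' := (R + w * α) / β
  have hw' : Tr m w' = Tr m e := by
    rw [show w' = R / β + w * (α / β) by simp only [w']; ring, Tr_add, hw2, Tr_add]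
    grind
  have hsum : w * α + w' * β + sg m a * c = h := by
    simp only [w']; rw [div_mul_cancel₀ _ hβ]; grind
  refine ⟨Ts a (w * α), Ts c (w' * β), isConj_Ts one_ne_zero ha0 ?_, isConj_Ts one_ne_zero hc0 ?_, ?_⟩
  · rw [sg_one, mul_one, div_one, ← hαd, mul_div_assoc, div_self hα, mul_one, hw1]
  · rw [sg_one, mul_one, div_one, ← hβd, mul_div_assoc, div_self hβ, mul_one, hw']
  · rw [Ts_mul, hsum]
    congr 1
    grind

theorem pair {x g : G} (hx : x ^ 2 ≠ 1) (hg : g ≠ 1) : Pair x g := by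
  have hx1 : x ≠ 1 := fun h => hx (by rw [h, one_pow])
  by_cases hsx : Semi x
  · by_cases hsg : Semi g
    · obtain ⟨u, v, e⟩ := SuzukiGroupGow.exists_mul hsx hsg
      exact ⟨_, _, isConj_iff.mpr ⟨u, rfl⟩, isConj_iff.mpr ⟨v, rfl⟩, e⟩
    · rcases not_semi_cases hg hsg with ⟨-, hc⟩ | ⟨-, h, hc⟩
      exacts [(semi_invol hsx).of_conj hc, (semi_four hsx h).of_conj hc]
  · obtain ⟨e, hxe⟩ : ∃ e, IsConj x (Ts 1 e) :=
      (not_semi_cases hx1 hsx).elim (fun h => absurd h.1 hx) (fun h => h.2)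
    have key : Pair (Ts 1 e : G) g := by
      by_cases hsg : Semi g
      · exact four_semi hsg e
      · rcases not_semi_cases hg hsg with ⟨-, hc⟩ | ⟨-, h, hc⟩
        · refine Pair.of_conj ⟨Ts 1 e, Ts 1 e, IsConj.refl _, IsConj.refl _, ?_⟩ hc
          rw [← pow_two, Ts_sq, sg_one, one_mul]
        · exact (four_four e h).of_conj hc
    obtain ⟨y₁, y₂, h1, h2, e'⟩ := key
    exact ⟨y₁, y₂, hxe.trans h1, hxe.trans h2, e'⟩

theorem exists_conj_mul {x g : G} (hx : x ^ 2 ≠ 1) (hg : g ≠ 1) :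
    ∃ u v : G, g = (u * x * u⁻¹) * (v * x * v⁻¹) := by
  obtain ⟨y₁, y₂, h1, h2, rfl⟩ := pair hx hg
  obtain ⟨u, rfl⟩ := isConj_iff.mp h1
  obtain ⟨v, rfl⟩ := isConj_iff.mp h2
  exact ⟨u, v, rfl⟩

end Cfsg.Agent.SuzukiGroupCover
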