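import Cfsg.Agent.Lib.SuzukiGroupPrincipal
import Cfsg.Prelude.Def_DegreeGraph

/-!
The degrees of the irreducible characters of the Suzuki group.
-/

set_option autoImplicit false

namespace Cfsg.Agent.SuzukiGroupDegrees

open scoped ComplexConjugate
open MulAction Cfsg.Agent.SuzukiGroupBasic Cfsg.Agent.SuzukiGroupStructure
open Cfsg.Agent.SuzukiGroupCentralizer Cfsg.Agent.SuzukiGroupTrace Cfsg.Agent.SuzukiGroupUChar
open Cfsg.Agent.SuzukiGroupMultOne Cfsg.Agent.SuzukiGroupGow Cfsg.Agent.CharBasic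

variable {F : Type*} [Field F] [Fintype F] {m : ℕ} [hP : Param F m]

set_option quotPrecheck false
local notation "G" => ↥(Cfsg.Sz F m)
local notation "qq" => (2 ^ (2 * m + 1) : ℕ)
local notation "kk" => (2 ^ m : ℕ)

theorem qk : qq = 2 * (kk * kk) := by rw [pow_succ', two_mul m, pow_add]

theorem centralizer_z : Subgroup.centralizer ({(Ts 0 1 : G)} : Set G) = (unipotent : Subgroup G) := by
  ext g
  rw [Subgroup.mem_centralizer_singleton_iff]
  constructor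
  · intro h
    exact commute_Ts_mem (fun e => one_ne_zero (Ts_eq_one e).2) h
  · exact fun hg => (commute_Ts_iff (m := m) (0 : F) 1).mpr rfl g hg

theorem isConj_z_iff {a b : F} : IsConj (Ts a b : G) (Ts 0 1) ↔ a = 0 ∧ b ≠ 0 := by
  constructor
  · intro h
    obtain ⟨c, hc⟩ := isConj_iff.mp h
    refine ⟨?_, ?_⟩
    · rw [← Ts_sq_eq_one (m := m) (a := a) (b := b), ← conj_eq_one_iff (a := c), ← conj_pow, hc,
        Ts_sq_eq_one]
    · rintro rfl
      have ha : a = 0 := by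
        rw [← Ts_sq_eq_one (m := m) (a := a) (b := (0 : F)), ← conj_eq_one_iff (a := c), ← conj_pow, hc,
          Ts_sq_eq_one]
      rw [ha, Ts_zero, mul_one, mul_inv_cancel] at hc
      exact one_ne_zero (Ts_eq_one hc.symm).2
  · rintro ⟨rfl, hb⟩
    exact Ts_zero_normal hb

theorem conj_apply_one {χ : G → ℂ} (hχ : Cfsg.IsCharacter G χ) : conj (χ 1) = χ 1 := by
  obtain ⟨n, hn⟩ := isCharacter_apply_one hχ
  rw [hn, map_natCast]

theorem conj_apply_z {χ : G → ℂ} (hχ : Cfsg.IsCharacter G χ) :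
    conj (χ (Ts 0 1)) = χ (Ts 0 1) := by
  have := charTwo (F := F) (m := m)
  rw [← isCharacter_inv hχ]
  congr 1
  rw [Ts_inv, sg_zero, zero_mul, add_zero]

theorem col_one_one [Fintype (Cfsg.IrrCharacter G)] :
    ∑ χ : Cfsg.IrrCharacter G, (χ : G → ℂ) 1 * (χ : G → ℂ) 1 = (Nat.card G : ℂ) := by
  classical
  have h := CharBasicOrth.sum_irr_mul_conj (1 : G) 1
  rw [if_pos (IsConj.refl _)] at h
  rw [← show Nat.card (Subgroup.centralizer ({(1 : G)} : Set G)) = Nat.card G by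
    rw [show Subgroup.centralizer ({(1 : G)} : Set G) = ⊤ from eq_top_iff.mpr fun g _ =>
      Subgroup.mem_centralizer_singleton_iff.mpr (by rw [mul_one, one_mul]), Subgroup.card_top]]
  convert h using 2 with χ
  · ext; simp
  · rw [conj_apply_one (isCharacter_of_isIrrCharacter χ.2)]

theorem col_z_z [Fintype (Cfsg.IrrCharacter G)] :
    ∑ χ : Cfsg.IrrCharacter G, (χ : G → ℂ) (Ts 0 1) * (χ : G → ℂ) (Ts 0 1) = (qq : ℂ) ^ 2 := by
  classical
  have h := CharBasicOrth.sum_irr_mul_conj (Ts 0 1 : G) (Ts 0 1)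
  rw [if_pos (IsConj.refl _), centralizer_z, natCard_unipotent, Nat.cast_pow] at h
  convert h using 2 with χ
  · ext; simp
  · rw [conj_apply_z (isCharacter_of_isIrrCharacter χ.2)]

theorem col_one_z [Fintype (Cfsg.IrrCharacter G)] :
    ∑ χ : Cfsg.IrrCharacter G, (χ : G → ℂ) 1 * (χ : G → ℂ) (Ts 0 1) = 0 := by
  classical
  have h := CharBasicOrth.sum_irr_mul_conj (1 : G) (Ts 0 1)
  rw [if_neg (fun e => one_ne_zero (Ts_eq_one (isConj_one_right.mp e)).2)] at h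
  convert h using 2 with χ
  · ext; simp
  · rw [conj_apply_z (isCharacter_of_isIrrCharacter χ.2)]

theorem col_S_one [Fintype (Cfsg.IrrCharacter G)] (c : F) :
    ∑ χ : Cfsg.IrrCharacter G, (χ : G → ℂ) 1 * S (χ : G → ℂ) c = (Nat.card G : ℂ) := by
  classical
  simp only [S, Finset.mul_sum]
  rw [Finset.sum_comm, Finset.sum_eq_single (0 : F)]
  · rw [Finset.sum_comm, Finset.sum_eq_single (0 : F)]
    · rw [← col_one_one (F := F) (m := m)]
      refine Finset.sum_congr rfl fun χ _ => ?_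
      rw [mul_zero, psi_zero, one_mul, Ts_zero]
    · intro b _ hb
      have h := CharBasicOrth.sum_irr_mul_conj (Ts 0 b : G) 1
      rw [if_neg (fun e => hb (Ts_eq_one (isConj_one_left.mp e)).2)] at h
      refine Eq.trans ?_ h
      refine Finset.sum_congr (by ext; simp) fun χ _ => ?_
      rw [mul_zero, psi_zero, one_mul, conj_apply_one (isCharacter_of_isIrrCharacter χ.2), mul_comm]
    · exact fun h => absurd (Finset.mem_univ _) h
  · intro a _ ha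
    rw [Finset.sum_comm]
    refine Finset.sum_eq_zero fun b _ => ?_
    have h := CharBasicOrth.sum_irr_mul_conj (Ts a b : G) 1
    rw [if_neg (fun e => ha (Ts_eq_one (isConj_one_left.mp e)).1)] at h
    rw [← mul_zero (psi m (c * a)), ← h, Finset.mul_sum]
    refine Finset.sum_congr (by ext; simp) fun χ _ => ?_
    rw [conj_apply_one (isCharacter_of_isIrrCharacter χ.2)]
    ring
  · exact fun h => absurd (Finset.mem_univ _) h

theorem col_S_z [Fintype (Cfsg.IrrCharacter G)] :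
    ∑ χ : Cfsg.IrrCharacter G, (χ : G → ℂ) (Ts 0 1) * S (χ : G → ℂ) 1 =
      ((qq : ℂ) - 1) * (qq : ℂ) ^ 2 := by
  classical
  have hval : ∀ a b : F, ∑ χ : Cfsg.IrrCharacter G,
      (χ : G → ℂ) (Ts 0 1) * (psi m (1 * a) * (χ : G → ℂ) (Ts a b)) =
      if a = 0 ∧ b ≠ 0 then (qq : ℂ) ^ 2 else 0 := by
    intro a b
    have h := CharBasicOrth.sum_irr_mul_conj (Ts a b : G) (Ts 0 1)
    have e : ∑ χ : Cfsg.IrrCharacter G, (χ : G → ℂ) (Ts 0 1) * (psi m (1 * a) * (χ : G → ℂ) (Ts a b)) =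
        psi m (1 * a) * (if IsConj (Ts a b : G) (Ts 0 1) then
          (Nat.card (Subgroup.centralizer ({(Ts a b : G)} : Set G)) : ℂ) else 0) := by
      rw [← h, Finset.mul_sum]
      refine Finset.sum_congr (by ext; simp) fun χ _ => ?_
      rw [conj_apply_z (isCharacter_of_isIrrCharacter χ.2)]
      ring
    rw [e]
    by_cases hc : a = 0 ∧ b ≠ 0
    · obtain ⟨rfl, hb⟩ := hc
      obtain ⟨g, hg⟩ := isConj_iff.mp ((Ts_zero_normal (m := m) hb).symm)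
      rw [if_pos (Ts_zero_normal hb), if_pos (⟨rfl, hb⟩ : (0 : F) = 0 ∧ b ≠ 0), mul_zero, psi_zero, one_mul, ← hg,
        SuzukiGroupTori.centralizer_conj, Subgroup.card_map_of_injective (MulAut.conj g).injective,
        centralizer_z, natCard_unipotent, Nat.cast_pow]
    · rw [if_neg hc, if_neg (fun h => hc (isConj_z_iff.mp h)), mul_zero]
  simp only [S, Finset.mul_sum]
  rw [Finset.sum_comm, Finset.sum_congr rfl fun a _ => Finset.sum_comm,
    Finset.sum_congr rfl fun a _ => Finset.sum_congr rfl fun b _ => hval a b, Finset.sum_eq_single (0 : F)]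
  · simp only [true_and]
    rw [← Finset.sum_filter, Finset.sum_const, Finset.filter_ne', Finset.card_erase_of_mem (Finset.mem_univ _),
      Finset.card_univ, card_F (F := F) (m := m), nsmul_eq_mul, Nat.cast_sub Nat.one_le_two_pow, Nat.cast_one]
  · exact fun a _ ha => Finset.sum_eq_zero fun b _ => if_neg fun h => ha h.1
  · exact fun h => absurd (Finset.mem_univ _) h

theorem S_of_const {χ : G → ℂ} {v : ℂ} (h : ∀ a b : F, (Ts a b : G) ≠ 1 → χ (Ts a b) = v) :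
    S χ 0 = χ 1 + ((qq : ℂ) ^ 2 - 1) * v ∧ S χ 1 = χ 1 - v := by
  classical
  have e : ∀ c : F, S χ c = (χ 1 - v) + v * ∑ a : F, ∑ _b : F, psi m (c * a) := by
    intro c
    have : ∀ a b : F, psi m (c * a) * χ (Ts a b) =
        (if a = 0 ∧ b = 0 then χ 1 - v else 0) + v * psi m (c * a) := by
      intro a b
      by_cases hab : a = 0 ∧ b = 0
      · rw [if_pos hab, hab.1, hab.2, Ts_zero, mul_zero, psi_zero]; ring
      · rw [if_neg hab, h a b (fun e => hab (Ts_eq_one e))]; ring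
    simp only [S, this, Finset.sum_add_distrib, Finset.mul_sum]
    congr 1
    rw [Finset.sum_eq_single (0 : F), Finset.sum_eq_single (0 : F)]
    · simp
    · exact fun b _ hb => if_neg fun h => hb h.2
    · exact fun h => absurd (Finset.mem_univ _) h
    · exact fun a _ ha => Finset.sum_eq_zero fun b _ => if_neg fun h => ha h.1
    · exact fun h => absurd (Finset.mem_univ _) h
  refine ⟨?_, ?_⟩
  · rw [e]
    simp only [zero_mul, psi_zero, Finset.sum_const, Finset.card_univ, card_F (F := F) (m := m), nsmul_eq_mul]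
    ring
  · rw [e, Finset.sum_comm]
    simp only [sum_psi (one_ne_zero' F), Finset.sum_const_zero, mul_zero, add_zero]

theorem St_Ts {a b : F} (h : (Ts a b : G) ≠ 1) : St (Ts a b : G) = 0 := by
  have hone : Nat.card (fixedBy (Ov F m) (Ts a b : G)) = 1 := by
    refine Nat.card_eq_one_iff_unique.mpr ⟨⟨fun p q => Subtype.ext (Subtype.ext ?_)⟩,
      ⟨⟨⟨_, inf_mem⟩, mem_fixedBy.mpr (Subtype.ext (Ts_smul_inf a b))⟩⟩⟩
    rw [Ts_fix h p.1.2 (congrArg Subtype.val p.2), Ts_fix h q.1.2 (congrArg Subtype.val q.2)]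
  rw [St, hone, Nat.cast_one, sub_self]

/-- Arithmetic: the excluded values of the parameter `s`. -/
theorem not_dvd_middle {k s : ℕ} (hk : 2 ≤ k) (hk2 : 2 ∣ k) (h1 : 2 * k ≤ s + 1) (h2 : s ≤ 2 * k + 1)
    (hd : 1 + k * s ∣ (2 * (k * k)) ^ 2 + 1) : False := by
  rcases (show s = 2 * k ∨ s = 2 * k + 1 ∨ s + 1 = 2 * k by omega) with h | h | h
  · subst h
    have hd' : (1 + k * (2 * k) : ℤ) ∣ (2 * (k * k)) ^ 2 + 1 := by exact_mod_cast hd
    have h3 : (1 + k * (2 * k) : ℤ) ∣ 2 := by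
      have e : (2 : ℤ) = ((2 * (k * k)) ^ 2 + 1 : ℤ) - (1 + k * (2 * k)) * (2 * (k * k) - 1) := by ring
      exact (dvd_sub hd' (dvd_mul_right _ _)).trans (dvd_of_eq e.symm)
    have := Int.le_of_dvd (by norm_num) h3
    nlinarith
  · subst h
    have hd' : (1 + k * (2 * k + 1) : ℤ) ∣ (2 * (k * k)) ^ 2 + 1 := by exact_mod_cast hd
    have h3 : (1 + k * (2 * k + 1) : ℤ) ∣ 3 * (1 + k) := by
      have e : (3 * (1 + k) : ℤ) = 2 * ((2 * (k * k)) ^ 2 + 1 : ℤ) -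
          (1 + k * (2 * k + 1)) * (4 * (k * k) - 2 * k - 1) := by ring
      exact (dvd_sub (Dvd.dvd.mul_left hd' _) (dvd_mul_right _ _)).trans (dvd_of_eq e.symm)
    have := Int.le_of_dvd (by positivity) h3
    nlinarith
  · obtain ⟨t, rfl⟩ : ∃ t, k = t + 1 := ⟨k - 1, by omega⟩
    obtain rfl : s = 2 * t + 1 := by omega
    have hd' : (1 + (t + 1) * (2 * t + 1) : ℤ) ∣ (2 * ((t + 1) * (t + 1))) ^ 2 + 1 := by
      exact_mod_cast hd
    have h3 : (1 + (t + 1) * (2 * t + 1) : ℤ) ∣ 3 * t := by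
      have e : (3 * t : ℤ) = (1 + (t + 1) * (2 * t + 1)) * (4 * ((t + 1) * (t + 1)) + 2 * (t + 1) - 1) -
          2 * ((2 * ((t + 1) * (t + 1))) ^ 2 + 1 : ℤ) := by ring
      exact (dvd_sub (dvd_mul_right _ _) (Dvd.dvd.mul_left hd' _)).trans (dvd_of_eq e.symm)
    have := Int.le_of_dvd (by omega) h3
    nlinarith

theorem cusp_data : ∃ E : Set (Cfsg.IrrCharacter G), ∃ a s : Cfsg.IrrCharacter G → ℕ,
    (∀ χ, χ ∉ E → (χ : G → ℂ) 1 ∈ ({(1 : ℂ), (qq : ℂ) ^ 2, (qq : ℂ) ^ 2 + 1} : Set ℂ)) ∧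
    (∃ χ : Cfsg.IrrCharacter G, (χ : G → ℂ) 1 = 1) ∧
    (∃ χ : Cfsg.IrrCharacter G, (χ : G → ℂ) 1 = (qq : ℂ) ^ 2) ∧
    (∃ χ : Cfsg.IrrCharacter G, (χ : G → ℂ) 1 = (qq : ℂ) ^ 2 + 1) ∧
    (∀ χ ∈ E, (χ : G → ℂ) 1 = ((qq : ℂ) - 1) * ((a χ : ℂ) + (kk : ℂ) * (s χ : ℂ))) ∧
    (∀ χ ∈ E, a χ = 0 ∧ s χ = 1 ∨ a χ = 1 ∧ s χ = 2 * kk + 2 ∨ a χ = 1 ∧ s χ + 2 = 2 * kk) ∧
    (∃ χ ∈ E, a χ = 0) ∧ (∃ χ ∈ E, a χ = 1 ∧ s χ = 2 * kk + 2) ∧
      ∃ χ ∈ E, a χ = 1 ∧ s χ + 2 = 2 * kk := by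
  classical
  have : Fintype G := Fintype.ofFinite G
  have : Finite (Cfsg.IrrCharacter G) := CharBasicOrth.finite_irrCharacter
  let _ : Fintype (Cfsg.IrrCharacter G) := Fintype.ofFinite _
  obtain ⟨f, hf, hfv⟩ := SuzukiGroupPrincipal.exists_principal (F := F) (m := m)
  set triv : Cfsg.IrrCharacter G := CharBasicDecomp.trivIrr G with htriv
  set K : Finset (Cfsg.IrrCharacter G) := insert triv (insert StIrr (Finset.univ.image f)) with hK
  set E : Finset (Cfsg.IrrCharacter G) := Finset.univ \ K with hE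
  choose p a s hd hz hp ha using fun χ : Cfsg.IrrCharacter G =>
    params (isCharacter_of_isIrrCharacter χ.2)
  have h8 := SuzukiGroupTori.q_ge (F := F) (m := m)
  have hm1 : 1 ≤ m := one_le (F := F) (m := m)
  have hk2 : 2 ∣ kk := dvd_pow_self 2 (by omega)
  have hk : 2 ≤ kk := Nat.le_of_dvd (by positivity) hk2
  have hq2 := q_ne (m := m)
  have hkC : ((2 : ℂ) ^ m) = (kk : ℂ) := by push_cast; ring
  have hqC : (qq : ℂ) = 2 * ((kk : ℂ) * kk) := by exact_mod_cast congrArg (Nat.cast (R := ℂ)) (qk (m := m))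
  have hk0 : (kk : ℂ) ≠ 0 := Nat.cast_ne_zero.mpr (by omega)
  have hq10 : (qq : ℂ) - 1 ≠ 0 := by
    have e : ((qq - 1 : ℕ) : ℂ) = (qq : ℂ) - 1 := by rw [Nat.cast_sub Nat.one_le_two_pow, Nat.cast_one]
    rw [← e, Nat.cast_ne_zero]; omega
  -- values on the known characters
  have vt : ∀ g : G, (triv : G → ℂ) g = 1 := fun g => rfl
  obtain ⟨t0, t1⟩ := S_of_const (χ := (triv : G → ℂ)) (v := 1) fun a b _ => vt _
  rw [vt] at t0 t1
  obtain ⟨u0, u1⟩ := S_of_const (χ := St) (v := 0) (fun a b h => St_Ts (F := F) (m := m) h)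
  rw [St_one] at u0 u1
  have w : ∀ j, (f j : G → ℂ) 1 = (qq : ℂ) ^ 2 + 1 ∧ (f j : G → ℂ) (Ts 0 1) = 1 ∧
      S (f j : G → ℂ) 0 = 2 * (qq : ℂ) ^ 2 ∧ S (f j : G → ℂ) 1 = (qq : ℂ) ^ 2 := fun j => by
    obtain ⟨e0, e1⟩ := S_of_const (χ := (f j : G → ℂ)) (v := 1) (hfv j).2
    rw [(hfv j).1] at e0 e1
    exact ⟨(hfv j).1, (hfv j).2 0 1 (fun e => one_ne_zero (Ts_eq_one e).2), by rw [e0]; ring,
      by rw [e1]; ring⟩
  have hzne : (Ts 0 1 : G) ≠ 1 := fun e => one_ne_zero (Ts_eq_one e).2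
  have hne1 : triv ≠ StIrr := fun h => by
    have : ((1 : ℕ) : ℂ) = ((qq ^ 2 : ℕ) : ℂ) := by
      push_cast
      have := congrArg (fun c : Cfsg.IrrCharacter G => (c : G → ℂ) 1) h
      change (1 : ℂ) = St (1 : G) at this
      rw [St_one] at this
      push_cast at this
      exact this
    have := Nat.cast_injective this
    nlinarith
  have hne2 : ∀ j, f j ≠ triv ∧ f j ≠ StIrr := fun j => by
    constructor
    · intro h
      have := (w j).1
      rw [h, vt] at this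
      exact hq2 (by linear_combination -this)
    · intro h
      have := (w j).1
      rw [h] at this
      change St (1 : G) = _ at this
      rw [St_one] at this
      exact one_ne_zero (by linear_combination -this : (1 : ℂ) = 0)
  have hsplit : ∀ X : Cfsg.IrrCharacter G → ℂ,
      ∑ χ, X χ = (X triv + (X StIrr + ∑ j, X (f j))) + ∑ χ ∈ E, X χ := by
    intro X
    rw [← Finset.sum_sdiff (Finset.subset_univ K), ← hE, add_comm, hK, Finset.sum_insert,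
      Finset.sum_insert, Finset.sum_image fun i _ j _ h => hf h]
    · simpa using fun j => (hne2 j).2
    · simp only [Finset.mem_insert, Finset.mem_image, Finset.mem_univ, true_and, not_or, not_exists]
      exact ⟨hne1, fun j => (hne2 j).1⟩
  have hn : ((2 ^ (2 * m) - 1 : ℕ) : ℂ) = (kk : ℂ) * kk - 1 := by
    rw [Nat.cast_sub Nat.one_le_two_pow, two_mul, pow_add]; push_cast; ring
  have hG : (Nat.card G : ℂ) = (qq : ℂ) ^ 2 * ((qq : ℂ) ^ 2 + 1) * ((qq : ℂ) - 1) := by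
    rw [natCard_Sz]; push_cast [Nat.cast_sub Nat.one_le_two_pow]; ring
  -- the number p vanishes on the cuspidal characters
  have hPsum : ∑ χ ∈ E, (χ : G → ℂ) 1 * (p χ : ℂ) = 0 := by
    have h := col_S_one (F := F) (m := m) 0
    rw [hsplit] at h
    simp only [(w _).1, (w _).2.2.1, Finset.sum_const, Finset.card_univ, Fintype.card_fin, nsmul_eq_mul, hn] at h
    change (1 : ℂ) * S (triv : G → ℂ) 0 + (St (1 : G) * S St 0 + _) + _ = _ at h
    rw [t0, u0, St_one, hG, Finset.sum_congr rfl (g := fun χ : Cfsg.IrrCharacter G =>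
      (qq : ℂ) ^ 2 * ((χ : G → ℂ) 1 * (p χ : ℂ))) (fun χ _ => by rw [hp χ]; ring), ← Finset.mul_sum] at h
    refine mul_left_cancel₀ hq2 ?_
    rw [mul_zero]
    rw [hqC] at h ⊢
    linear_combination h
  have hp0 : ∀ χ ∈ E, p χ = 0 := by
    choose n hn0 hn1 using fun χ : Cfsg.IrrCharacter G => isIrrCharacter_apply_one χ.2
    have h : ∑ χ ∈ E, n χ * p χ = 0 := by
      apply Nat.cast_injective (R := ℂ)
      push_cast
      rw [← hPsum]
      exact Finset.sum_congr rfl fun χ _ => by rw [hn1]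
    intro χ hχ
    exact (Nat.mul_eq_zero.mp ((Finset.sum_eq_zero_iff.mp h) χ hχ)).resolve_left (Nat.pos_iff_ne_zero.mp (hn0 χ))
  have hdE : ∀ χ ∈ E, (χ : G → ℂ) 1 = ((qq : ℂ) - 1) * ((a χ : ℂ) + (kk : ℂ) * (s χ : ℂ)) := fun χ hχ => by
    rw [hd χ, hp0 χ hχ, hkC]; push_cast; ring
  have hzE : ∀ χ ∈ E, (χ : G → ℂ) (Ts 0 1) = ((qq : ℂ) - 1) * (a χ : ℂ) - (kk : ℂ) * (s χ : ℂ) := fun χ hχ => by
    rw [hz χ, hp0 χ hχ, hkC]; push_cast; ring
  have ha1 : ∀ χ, a χ ≤ 1 := fun χ => S_one_le χ.2 (ha χ)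
  have haa : ∀ χ, (a χ : ℂ) * (a χ : ℂ) = (a χ : ℂ) := fun χ => by
    rcases Nat.le_one_iff_eq_zero_or_eq_one.mp (ha1 χ) with e | e <;> simp [e]
  -- the sums over the cuspidal characters
  have e1 : ((qq : ℂ) - 1) * (((∑ χ ∈ E, a χ : ℕ) : ℂ) + (kk : ℂ) * ((∑ χ ∈ E, a χ * s χ : ℕ) : ℂ)) =
      ((qq : ℂ) ^ 2 + 1) * ((qq : ℂ) - 1) - (qq : ℂ) ^ 2 - ((kk : ℂ) * kk - 1) * ((qq : ℂ) ^ 2 + 1) := by
    have h := col_S_one (F := F) (m := m) 1
    rw [hsplit] at h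
    simp only [(w _).1, (w _).2.2.2, Finset.sum_const, Finset.card_univ, Fintype.card_fin, nsmul_eq_mul, hn] at h
    change (1 : ℂ) * S (triv : G → ℂ) 1 + (St (1 : G) * S St 1 + _) + _ = _ at h
    rw [t1, u1, St_one, hG, Finset.sum_congr rfl (g := fun χ : Cfsg.IrrCharacter G =>
      (qq : ℂ) ^ 2 * (((qq : ℂ) - 1) * ((a χ : ℂ) + (kk : ℂ) * ((a χ : ℂ) * (s χ : ℂ))))) (fun χ hχ => by
        rw [ha χ, hdE χ hχ]
        linear_combination ((qq : ℂ) ^ 2 * ((qq : ℂ) - 1)) * haa χ),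
      ← Finset.mul_sum, ← Finset.mul_sum, Finset.sum_add_distrib, ← Finset.mul_sum] at h
    refine mul_left_cancel₀ hq2 ?_
    rw [Nat.cast_sum, Nat.cast_sum]
    simp only [Nat.cast_mul]
    linear_combination h
  have e2 : ((qq : ℂ) - 1) * ((∑ χ ∈ E, a χ : ℕ) : ℂ) - (kk : ℂ) * ((∑ χ ∈ E, a χ * s χ : ℕ) : ℂ) =
      ((qq : ℂ) - 1) - ((kk : ℂ) * kk - 1) := by
    have h := col_S_z (F := F) (m := m)
    rw [hsplit] at h
    simp only [(w _).2.1, (w _).2.2.2, Finset.sum_const, Finset.card_univ, Fintype.card_fin, nsmul_eq_mul, hn] at h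
    change (1 : ℂ) * S (triv : G → ℂ) 1 + (St (Ts 0 1 : G) * S St 1 + _) + _ = _ at h
    rw [t1, u1, St_Ts hzne, Finset.sum_congr rfl (g := fun χ : Cfsg.IrrCharacter G =>
      (qq : ℂ) ^ 2 * (((qq : ℂ) - 1) * (a χ : ℂ) - (kk : ℂ) * ((a χ : ℂ) * (s χ : ℂ)))) (fun χ hχ => by
        rw [ha χ, hzE χ hχ]
        linear_combination ((qq : ℂ) ^ 2 * ((qq : ℂ) - 1)) * haa χ),
      ← Finset.mul_sum, Finset.sum_sub_distrib, ← Finset.mul_sum, ← Finset.mul_sum] at h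
    refine mul_left_cancel₀ hq2 ?_
    rw [Nat.cast_sum, Nat.cast_sum]
    simp only [Nat.cast_mul]
    linear_combination h
  have e3 : (qq : ℂ) ^ 2 * ((kk : ℂ) * kk) * ((∑ χ ∈ E, s χ * s χ : ℕ) : ℂ) =
      (Nat.card G : ℂ) + (qq : ℂ) ^ 2 - (qq : ℂ) ^ 4 * ((kk : ℂ) * kk) := by
    have h : ∑ χ : Cfsg.IrrCharacter G, ((χ : G → ℂ) 1 - (χ : G → ℂ) (Ts 0 1)) ^ 2 =
        (Nat.card G : ℂ) + (qq : ℂ) ^ 2 := by
      have e : ∀ χ : Cfsg.IrrCharacter G, ((χ : G → ℂ) 1 - (χ : G → ℂ) (Ts 0 1)) ^ 2 =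
          (χ : G → ℂ) 1 * (χ : G → ℂ) 1 - 2 * ((χ : G → ℂ) 1 * (χ : G → ℂ) (Ts 0 1)) +
            (χ : G → ℂ) (Ts 0 1) * (χ : G → ℂ) (Ts 0 1) := fun χ => by ring
      rw [Finset.sum_congr rfl fun χ _ => e χ, Finset.sum_add_distrib, Finset.sum_sub_distrib,
        ← Finset.mul_sum, col_one_one, col_one_z, col_z_z, mul_zero, sub_zero]
    rw [hsplit] at h
    simp only [(w _).1, (w _).2.1, Finset.sum_const, Finset.card_univ, Fintype.card_fin, nsmul_eq_mul, hn] at h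
    change ((1 : ℂ) - 1) ^ 2 + ((St (1 : G) - St (Ts 0 1 : G)) ^ 2 + _) + _ = _ at h
    rw [St_one, St_Ts hzne, Finset.sum_congr rfl (g := fun χ : Cfsg.IrrCharacter G =>
      (qq : ℂ) ^ 2 * ((kk : ℂ) * kk) * ((s χ : ℂ) * (s χ : ℂ))) (fun χ hχ => by
        rw [hdE χ hχ, hzE χ hχ]; ring), ← Finset.mul_sum] at h
    rw [Nat.cast_sum]
    simp only [Nat.cast_mul]
    linear_combination h
  have hA : ((∑ χ ∈ E, a χ : ℕ) : ℂ) = (kk : ℂ) * kk := by
    have h0 : (qq : ℂ) * ((qq : ℂ) - 1) ≠ 0 := mul_ne_zero (Nat.cast_ne_zero.mpr (by omega)) hq10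
    refine mul_left_cancel₀ h0 ?_
    rw [hqC] at e1 e2 ⊢
    linear_combination e1 + (2 * ((kk : ℂ) * kk) - 1) * e2
  have hB : ((∑ χ ∈ E, a χ * s χ : ℕ) : ℂ) = (kk : ℂ) * ((qq : ℂ) - 2) := by
    refine mul_left_cancel₀ hk0 ?_
    rw [hA] at e2
    rw [hqC] at e2 ⊢
    linear_combination -e2
  have hC : ((∑ χ ∈ E, s χ * s χ : ℕ) : ℂ) = (qq : ℂ) ^ 2 - 2 * (qq : ℂ) + 2 := by
    refine mul_left_cancel₀ (mul_ne_zero hq2 (mul_ne_zero hk0 hk0)) ?_
    rw [e3, hG, hqC]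
    ring
  -- the integral identity
  set g : Cfsg.IrrCharacter G → ℤ := fun χ =>
    (s χ : ℤ) * s χ + (a χ : ℤ) * (4 * ((kk : ℤ) * kk) - 4 - 4 * (kk : ℤ) * s χ) with hg
  have hsum : ∑ χ ∈ E, g χ = 2 := by
    have : ((∑ χ ∈ E, g χ : ℤ) : ℂ) = ((2 : ℤ) : ℂ) := by
      have e : ((∑ χ ∈ E, g χ : ℤ) : ℂ) = ((∑ χ ∈ E, s χ * s χ : ℕ) : ℂ) +
          (4 * ((kk : ℂ) * kk) - 4) * ((∑ χ ∈ E, a χ : ℕ) : ℂ) -
          4 * (kk : ℂ) * ((∑ χ ∈ E, a χ * s χ : ℕ) : ℂ) := by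
        simp only [hg]
        push_cast
        simp only [Finset.mul_sum, ← Finset.sum_add_distrib, ← Finset.sum_sub_distrib]
        exact Finset.sum_congr rfl fun χ _ => by ring
      rw [e, hA, hB, hC, hqC]
      push_cast
      ring
    exact_mod_cast this
  have hdvd : ∀ χ ∈ E, a χ + kk * s χ ∣ qq ^ 2 * (qq ^ 2 + 1) ∧ 0 < a χ + kk * s χ := by
    intro χ hχ
    obtain ⟨n, hn0, hn, hdd⟩ := CharBasicInt.exists_apply_one_dvd_card χ.2
    have hne : n = (qq - 1) * (a χ + kk * s χ) := by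
      apply Nat.cast_injective (R := ℂ)
      rw [← hn, hdE χ hχ]
      push_cast [Nat.cast_sub Nat.one_le_two_pow]
      ring
    rw [natCard_Sz, hne, mul_comm (qq - 1)] at hdd
    refine ⟨Nat.dvd_of_mul_dvd_mul_right (by omega) hdd, ?_⟩
    rw [hne] at hn0
    exact Nat.pos_of_mul_pos_left hn0
  have hbound : ∀ χ ∈ E, a χ = 0 ∧ 1 ≤ s χ ∨ a χ = 1 ∧ (s χ + 2 ≤ 2 * kk ∨ 2 * kk + 2 ≤ s χ) := by
    intro χ hχ
    obtain ⟨hdv, hpos⟩ := hdvd χ hχ
    rcases Nat.le_one_iff_eq_zero_or_eq_one.mp (ha1 χ) with e | e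
    · refine Or.inl ⟨e, ?_⟩
      rw [e, zero_add] at hpos
      exact Nat.pos_of_mul_pos_left hpos
    · refine Or.inr ⟨e, ?_⟩
      by_contra hc
      push Not at hc
      rw [e] at hdv
      have hodd : Nat.Coprime (1 + kk * s χ) (qq ^ 2) := by
        refine Nat.Coprime.pow_right 2 (Nat.Coprime.pow_right _
          ((Nat.prime_two.coprime_iff_not_dvd.mpr ?_).symm))
        have : 2 ∣ kk * s χ := Dvd.dvd.mul_right hk2 _
        omega
      have hd' := hodd.dvd_of_dvd_mul_left hdv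
      rw [qk] at hd'
      exact not_dvd_middle hk hk2 (by omega) (by omega) hd'
  have hgnn : ∀ χ ∈ E, 0 ≤ g χ ∧ (g χ ≤ 2 →
      a χ = 0 ∧ s χ = 1 ∨ a χ = 1 ∧ s χ = 2 * kk + 2 ∧ g χ = 0 ∨ a χ = 1 ∧ s χ + 2 = 2 * kk ∧ g χ = 0) := by
    intro χ hχ
    rcases hbound χ hχ with ⟨e, h1⟩ | ⟨e, h1⟩
    · have eg : g χ = ((s χ * s χ : ℕ) : ℤ) := by simp only [hg, e]; push_cast; ring
      refine ⟨by rw [eg]; exact Int.natCast_nonneg _, fun h2 => Or.inl ⟨e, ?_⟩⟩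
      rw [eg] at h2
      have h3 : s χ * s χ ≤ 2 := by exact_mod_cast h2
      nlinarith
    · have eg : g χ = ((s χ : ℤ) - 2 * (kk : ℤ)) ^ 2 - 4 := by simp only [hg, e]; push_cast; ring
      rcases h1 with h1 | h1
      · have h1' : (s χ : ℤ) + 2 ≤ 2 * (kk : ℤ) := by exact_mod_cast h1
        refine ⟨by rw [eg]; nlinarith, fun h2 => Or.inr (Or.inr ?_)⟩
        rw [eg] at h2 ⊢
        have : (s χ : ℤ) + 2 = 2 * (kk : ℤ) := by nlinarith
        exact ⟨e, by exact_mod_cast this, by rw [← this]; ring⟩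
      · have h1' : 2 * (kk : ℤ) + 2 ≤ (s χ : ℤ) := by exact_mod_cast h1
        refine ⟨by rw [eg]; nlinarith, fun h2 => Or.inr (Or.inl ?_)⟩
        rw [eg] at h2 ⊢
        have : (s χ : ℤ) = 2 * (kk : ℤ) + 2 := by nlinarith
        exact ⟨e, by exact_mod_cast this, by rw [this]; ring⟩
  have hcases : ∀ χ ∈ E,
      a χ = 0 ∧ s χ = 1 ∨ a χ = 1 ∧ s χ = 2 * kk + 2 ∧ g χ = 0 ∨ a χ = 1 ∧ s χ + 2 = 2 * kk ∧ g χ = 0 :=
    fun χ hχ => (hgnn χ hχ).2 (hsum ▸ Finset.single_le_sum (fun x hx => (hgnn x hx).1) hχ)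
  refine ⟨↑E, a, s, ?_, ⟨triv, rfl⟩, ⟨StIrr, St_one⟩, ⟨f ⟨0, ?_⟩, (w _).1⟩, fun χ hχ => hdE χ hχ,
    fun χ hχ => ?_, ?_, ?_, ?_⟩
  · intro χ hχ
    simp only [hE, Finset.mem_coe, Finset.mem_sdiff, Finset.mem_univ, true_and, not_not, hK,
      Finset.mem_insert, Finset.mem_image] at hχ
    rcases hχ with rfl | rfl | ⟨j, rfl⟩
    · exact Or.inl rfl
    · exact Or.inr (Or.inl St_one)
    · exact Or.inr (Or.inr (w j).1)
  · have : 2 ≤ 2 ^ (2 * m) := Nat.le_of_dvd (by positivity) (dvd_pow_self 2 (by omega))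
    omega
  · rcases hcases χ hχ with h | h | h
    exacts [Or.inl h, Or.inr (Or.inl ⟨h.1, h.2.1⟩), Or.inr (Or.inr ⟨h.1, h.2.1⟩)]
  · by_contra hc
    push Not at hc
    have : ∑ χ ∈ E, g χ = 0 := Finset.sum_eq_zero fun χ hχ => by
      rcases hcases χ hχ with h | h | h
      exacts [absurd h.1 (hc χ hχ), h.2.2, h.2.2]
    omega
  all_goals
    by_contra hc
    push Not at hc
    have hA' : ∑ χ ∈ E, a χ = kk * kk := by exact_mod_cast hA
    have hB' : ((∑ χ ∈ E, a χ * s χ : ℕ) : ℤ) = (kk : ℤ) * (2 * ((kk : ℤ) * kk) - 2) := by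
      rw [hqC] at hB; exact_mod_cast hB
    have hkz : (2 : ℤ) ≤ (kk : ℤ) := by exact_mod_cast hk
  · have e : ((∑ χ ∈ E, a χ * s χ : ℕ) : ℤ) = (2 * (kk : ℤ) - 2) * ((∑ χ ∈ E, a χ : ℕ) : ℤ) := by
      push_cast
      rw [Finset.mul_sum]
      refine Finset.sum_congr rfl fun χ hχ => ?_
      rcases hcases χ hχ with h | h | h
      · rw [h.1]; simp
      · exact absurd h.2.1 (hc χ hχ h.1)
      · rw [h.1, show (s χ : ℤ) = 2 * (kk : ℤ) - 2 by
          have := congrArg (Nat.cast (R := ℤ)) h.2.1; push_cast at this ⊢; linarith]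
        push_cast; ring
    rw [hB', hA', Nat.cast_mul] at e
    nlinarith
  · have e : ((∑ χ ∈ E, a χ * s χ : ℕ) : ℤ) = (2 * (kk : ℤ) + 2) * ((∑ χ ∈ E, a χ : ℕ) : ℤ) := by
      push_cast
      rw [Finset.mul_sum]
      refine Finset.sum_congr rfl fun χ hχ => ?_
      rcases hcases χ hχ with h | h | h
      · rw [h.1]; simp
      · rw [h.1, h.2.1]; push_cast; ring
      · exact absurd h.2.1 (hc χ hχ h.1)
    rw [hB', hA', Nat.cast_mul] at e
    nlinarith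

/-- The degrees of the irreducible characters. -/
theorem charDegrees_eq : Cfsg.charDegrees G =
    {1, qq ^ 2, qq ^ 2 + 1, (qq - 1) * kk, (qq - 1) * (qq + 2 * kk + 1), (qq - 1) * (qq - 2 * kk + 1)} := by
  obtain ⟨E, a, s, hK, ⟨x1, h1⟩, ⟨x2, h2⟩, ⟨x3, h3⟩, hd, hcases, ⟨x4, hx4, h4⟩, ⟨x5, hx5, h5⟩, ⟨x6, hx6, h6⟩⟩ :=
    cusp_data (F := F) (m := m)
  have hdeg : ∀ (χ : Cfsg.IrrCharacter G) (n : ℕ), (χ : G → ℂ) 1 = (n : ℂ) →
      Cfsg.charDegree (χ : G → ℂ) = n := fun χ n h => by simp [Cfsg.charDegree, h]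
  have hcusp : ∀ χ ∈ E, Cfsg.charDegree (χ : G → ℂ) = (qq - 1) * (a χ + kk * s χ) := fun χ hχ =>
    hdeg χ _ (by rw [hd χ hχ]; push_cast [Nat.cast_sub Nat.one_le_two_pow]; ring)
  have h2k : 2 * kk ≤ qq := by
    rw [qk (m := m)]; exact Nat.mul_le_mul_left 2 (Nat.le_mul_self _)
  have hp : ∀ χ ∈ E, a χ = 1 → s χ = 2 * kk + 2 → a χ + kk * s χ = qq + 2 * kk + 1 := by
    intro χ _ e e'; rw [e, e', qk (m := m)]; ring
  have hm' : ∀ χ ∈ E, a χ = 1 → s χ + 2 = 2 * kk → a χ + kk * s χ = qq - 2 * kk + 1 := by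
    intro χ _ e e'
    have : kk * s χ + 2 * kk = qq := by rw [qk (m := m), ← mul_comm kk 2, ← mul_add, e']; ring
    omega
  ext n
  simp only [Cfsg.charDegrees, Set.mem_setOf_eq, Set.mem_insert_iff, Set.mem_singleton_iff]
  constructor
  · rintro ⟨χ, rfl⟩
    by_cases hχ : χ ∈ E
    · rw [hcusp χ hχ]
      rcases hcases χ hχ with ⟨e, e'⟩ | ⟨e, e'⟩ | ⟨e, e'⟩
      · rw [e, e']; simp
      · rw [hp χ hχ e e']; simp
      · rw [hm' χ hχ e e']; simp
    · rcases hK χ hχ with h | h | h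
      · exact Or.inl (hdeg χ 1 (by rw [h, Nat.cast_one]))
      · exact Or.inr (Or.inl (hdeg χ _ (by push_cast at h ⊢; exact h)))
      · exact Or.inr (Or.inr (Or.inl (hdeg χ _ (by have h' := Set.mem_singleton_iff.mp h; push_cast at h' ⊢; exact h'))))
  · rintro (rfl | rfl | rfl | rfl | rfl | rfl)
    · exact ⟨x1, hdeg x1 1 (by rw [h1, Nat.cast_one])⟩
    · exact ⟨x2, hdeg x2 _ (by push_cast at h2 ⊢; exact h2)⟩
    · exact ⟨x3, hdeg x3 _ (by push_cast at h3 ⊢; exact h3)⟩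
    · refine ⟨x4, ?_⟩
      rw [hcusp x4 hx4]
      rcases hcases x4 hx4 with ⟨e, e'⟩ | ⟨e, -⟩ | ⟨e, -⟩
      · rw [e, e']; simp
      all_goals rw [h4] at e; exact absurd e zero_ne_one
    · exact ⟨x5, by rw [hcusp x5 hx5, hp x5 hx5 h5.1 h5.2]⟩
    · exact ⟨x6, by rw [hcusp x6 hx6, hm' x6 hx6 h6.1 h6.2]⟩

end Cfsg.Agent.SuzukiGroupDegrees
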