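import Cfsg.Agent.Lib.SuzukiGroupSolubilizer
import Cfsg.Agent.Lib.SuzukiGroupTI

/-!
Actions of the Suzuki group in which non-identity elements fix at most two points.
-/

set_option autoImplicit false

namespace Cfsg.Agent.SuzukiGroupFixity

open scoped Matrix Pointwise LinearAlgebra.Projectivization
open MulAction Cfsg.Agent.SuzukiGroupBasic Cfsg.Agent.SuzukiGroupStructure
open Cfsg.Agent.SuzukiGroupCentralizer Cfsg.Agent.SuzukiGroupTori Cfsg.Agent.SuzukiGroupPartition
open Cfsg.Agent.SuzukiGroupNilpotent Cfsg.Agent.SuzukiGroupNormalizers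
open Cfsg.Agent.SuzukiGroupSolubilizer

variable {F : Type*} [Field F] {m : ℕ} [hP : Param F m]

set_option quotPrecheck false
local notation "G" => ↥(Cfsg.Sz F m)
local notation "qq" => (2 ^ (2 * m + 1) : ℕ)
local notation "∞" => Cfsg.suzukiPointInfinity F
local notation "N[" U "]" => Subgroup.normalizer ((U : Subgroup ↥(Cfsg.Sz F m)) : Set ↥(Cfsg.Sz F m))

variable {Ω : Type*} [Finite Ω] [MulAction ↥(Cfsg.Sz F m) Ω]

theorem three_fix (hfix : ∀ g : G, g ≠ 1 → Nat.card (fixedBy Ω g) ≤ 2) {g : G} (hg : g ≠ 1)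
    {a b c : Ω} (ha : g • a = a) (hb : g • b = b) (hc : g • c = c) :
    a = b ∨ a = c ∨ b = c := by
  classical
  by_contra h
  push Not at h
  have h1 : ({a, b, c} : Set Ω) ⊆ fixedBy Ω g := by
    rintro x (rfl | rfl | rfl) <;> assumption
  have h2 := Set.ncard_le_ncard h1 (Set.toFinite _)
  have h3 : ({a, b, c} : Set Ω).ncard = 3 :=
    Set.ncard_eq_three.mpr ⟨a, b, c, h.1, h.2.1, h.2.2, rfl⟩
  rw [h3, ← Nat.card_coe_set_eq] at h2
  exact absurd (h2.trans (hfix g hg)) (by norm_num)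

/-- If `g` fixes `α`, `k • α` and `k • k • α`, then `k²` fixes `α`. -/
theorem sq_fix (hfix : ∀ g : G, g ≠ 1 → Nat.card (fixedBy Ω g) ≤ 2) {g : G} (hg : g ≠ 1)
    {α : Ω} {k : G} (ha : g • α = α) (hb : g • (k • α) = k • α)
    (hc : g • (k • k • α) = k • k • α) : (k * k) • α = α := by
  rw [mul_smul]
  rcases three_fix hfix hg ha hb hc with h | h | h
  · rw [← h, ← h]
  · exact h.symm
  · have := MulAction.injective k h
    rw [← this, ← this]

theorem fix_of_odd {k : G} {α : Ω} (hk : ¬ 2 ∣ orderOf k) (h : (k * k) • α = α) : k • α = α := by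
  obtain ⟨j, hj⟩ : ∃ j, orderOf k + 1 = 2 * j := ⟨(orderOf k + 1) / 2, by omega⟩
  have h1 : (k * k) ^ j ∈ stabilizer G α := pow_mem (show k * k ∈ stabilizer G α from h) j
  rwa [← pow_two, ← pow_mul, ← hj, pow_succ, pow_orderOf_eq_one, one_mul] at h1

theorem Hs_order_odd (k : Fˣ) : ¬ 2 ∣ orderOf (Hs k : G) := by
  intro h
  have h1 := h.trans (orderOf_Hs_dvd k)
  have h2 : 2 ∣ qq := dvd_pow_self 2 (by omega)
  have := Nat.one_le_two_pow (n := 2 * m + 1)
  omega

/-- If some involution fixes a point, then the stabiliser of a point is a Borel subgroup. -/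
theorem stabilizer_eq_borel [IsPretransitive G Ω]
    (hfix : ∀ g : G, g ≠ 1 → Nat.card (fixedBy Ω g) ≤ 2)
    (hex : ∃ g : G, g ≠ 1 ∧ Nat.card (fixedBy Ω g) = 2)
    {α₀ : Ω} {z : G} (hz : orderOf z = 2) (hzα : z • α₀ = α₀) :
    ∃ α : Ω, stabilizer G α = SuzukiGroupStructure.borel := by
  have := charTwo (F := F) (m := m)
  have hne : (Ts 0 1 : G) ≠ 1 := fun e => one_ne_zero (Ts_eq_one e).2
  obtain ⟨c, hc⟩ : ∃ c : G, c * z * c⁻¹ = Ts 0 1 := by
    obtain ⟨c, h | h⟩ := conj_or_inv (Or.inl rfl) hz (orderOf_Ts_zero (m := m) (one_ne_zero (α := F)))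
    · exact ⟨c, h⟩
    · exact ⟨c, by rw [h]; exact inv_eq_of_mul_eq_one_right (by rw [← pow_two]; exact Ts_sq_eq_one.mpr rfl)⟩
  set α := c • α₀
  have hα : (Ts 0 1 : G) • α = α := by rw [← hc, mul_smul, mul_smul, inv_smul_smul, hzα]
  refine ⟨α, ?_⟩
  have hcentral : ∀ u ∈ (unipotent : Subgroup G), Commute (Ts 0 1 : G) u := fun u hu =>
    ((commute_Ts_iff (m := m) 0 1).mpr rfl u hu).symm
  have hU2 : ∀ u ∈ (unipotent : Subgroup G), (u * u) • α = α := fun u hu => by
    refine sq_fix hfix hne hα ?_ ?_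
    · rw [← mul_smul, (hcentral u hu).eq, mul_smul, hα]
    · rw [← mul_smul u, ← mul_smul, (hcentral _ (mul_mem hu hu)).eq, mul_smul, hα]
  have hZ : ∀ b : F, (Ts 0 b : G) • α = α := fun b => by
    obtain ⟨a, ha⟩ := exists_mul_sg (m := m) b
    have := hU2 _ (Ts_mem a 0)
    rwa [← pow_two, Ts_sq, mul_comm, ha] at this
  have hB2 : ∀ k : G, k • ∞ = ∞ → (Ts 0 1 : G) • (k • α) = k • α := by
    intro k hk
    obtain ⟨a, d, l, hl⟩ := fix_inf_iff.mp (show k⁻¹ • ∞ = ∞ by rw [inv_smul_eq_iff, hk])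
    have h1 : k⁻¹ * Ts 0 1 * k = (Ts 0 ((l : F) * sg m (l : F) * 1) : G) := by
      rw [← SuzukiGroupTI.conj_Ts_zero a d l, ← hl, inv_inv]
    have h2 := hZ ((l : F) * sg m (l : F) * 1)
    rw [← h1, mul_smul, mul_smul, inv_smul_eq_iff] at h2
    exact h2
  have hHs : ∀ l : Fˣ, (Hs l : G) • α = α := fun l => by
    refine fix_of_odd (Hs_order_odd l) (sq_fix hfix hne hα (hB2 _ (Hs_smul_inf l)) ?_)
    rw [← mul_smul (Hs l : G)]; exact hB2 _ (by rw [mul_smul, Hs_smul_inf l, Hs_smul_inf l])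
  obtain ⟨k₀, hk0, hk1⟩ := exists_ne_zero_one (F := F) (m := m)
  have hk1' : 1 + k₀ ≠ 0 := fun e => hk1 (CharTwo.add_eq_zero.mp e).symm
  set l : Fˣ := Units.mk0 k₀ hk0 with hl
  have hcomm : ∀ a : F, ∃ d : F, (Ts ((1 + k₀) * a) d : G) • α = α := by
    intro a
    set T : G := Ts a 0 with hT
    have hTm : T • ∞ = ∞ := Ts_smul_inf a 0
    have h1 : (Hs l : G) • T • α = T • α := by
      rcases three_fix hfix hne hα (hB2 T hTm) (c := (Hs l : G) • T • α) (by
        rw [← mul_smul (Hs l : G)]; exact hB2 _ (by rw [mul_smul, hTm, Hs_smul_inf])) with h | h | h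
      · rw [← h, hHs]
      · have h' : (Hs l : G) • α = (Hs l : G) • T • α := (hHs l).trans h
        rw [← MulAction.injective _ h', hHs]
      · exact h.symm
    have h2 : (T⁻¹ * Hs l * T * (Hs l)⁻¹) • α = α := by
      rw [mul_smul, inv_smul_eq_iff.mpr (hHs l).symm, mul_smul, mul_smul, h1, inv_smul_smul]
    rw [show T⁻¹ * Hs l * T * (Hs l)⁻¹ = T⁻¹ * (Hs l * T * (Hs l)⁻¹) by group, hT, Ts_inv, Hs_Ts,
      Ts_mul, hl, Units.val_mk0] at h2
    exact ⟨_, by rw [add_mul, one_mul]; exact h2⟩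
  have hUfix : ∀ a b : F, (Ts a b : G) • α = α := by
    intro a b
    obtain ⟨d, hd⟩ := hcomm (a / (1 + k₀))
    rw [mul_div_cancel₀ _ hk1'] at hd
    have h := hZ (d + b)
    have e : (Ts a b : G) = Ts a d * Ts 0 (d + b) := by
      rw [Ts_mul, add_zero, mul_zero, add_zero, ← add_assoc, CharTwo.add_self_eq_zero, zero_add]
    rw [e, mul_smul, h, hd]
  have hBle : (SuzukiGroupStructure.borel : Subgroup G) ≤ stabilizer G α := fun g hg => by
    obtain ⟨a, b, k, rfl⟩ := fix_inf_iff.mp (mem_stabilizer_iff.mp hg)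
    rw [mem_stabilizer_iff, mul_smul, hHs, hUfix]
  refine le_antisymm (fun g hg => ?_) hBle
  by_contra hgB
  have hg' : g • ∞ ≠ ∞ := fun e => hgB (mem_stabilizer_iff.mpr e)
  have htop : ∀ x : G, x • α = α := by
    intro x
    obtain ⟨s, hs, hsx⟩ : ∃ s ∈ stabilizer G α, s • ∞ = x • ∞ := by
      by_cases hx : x • ∞ = ∞
      · exact ⟨1, one_mem _, by rw [one_smul, hx]⟩
      · obtain ⟨b, hb1, hb2⟩ := two_trans (m := m) inf_mem (smul_mem_ovoid g inf_mem) inf_mem
          (smul_mem_ovoid x inf_mem) (Ne.symm hg') (Ne.symm hx)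
        exact ⟨b * g, mul_mem (hBle (mem_stabilizer_iff.mpr hb1)) hg, by rw [mul_smul, hb2]⟩
    have h1 : s⁻¹ * x ∈ stabilizer G α :=
      hBle (mem_stabilizer_iff.mpr (by rw [mul_smul, ← hsx, inv_smul_smul]))
    have h2 := mul_mem hs h1
    rwa [mul_inv_cancel_left] at h2
  obtain ⟨w, -, hw⟩ := hex
  have : Subsingleton Ω := ⟨fun a b => by
    obtain ⟨x, rfl⟩ := exists_smul_eq G α a
    obtain ⟨y, rfl⟩ := exists_smul_eq G α b
    rw [htop, htop]⟩
  have := Finite.card_le_one_iff_subsingleton.mpr (inferInstance : Subsingleton (fixedBy Ω w))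
  omega

/-- If no involution fixes a point, the point stabilisers are the tori of order `q - 1`. -/
theorem natCard_stabilizer_odd (hfix : ∀ g : G, g ≠ 1 → Nat.card (fixedBy Ω g) ≤ 2)
    (hodd : ∀ z : G, orderOf z = 2 → ∀ α : Ω, z • α ≠ α) {α : Ω} {g : G} (hg : g ≠ 1)
    (hgα : g • α = α) : Nat.card (stabilizer G α) = qq - 1 := by
  classical
  have := finiteF (F := F) (m := m)
  set H := stabilizer G α with hH
  have h4 : ∀ h ∈ H, h ≠ 1 → ¬ orderOf h ∣ 4 := by
    intro h hh h1 hd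
    obtain ⟨i, hi⟩ := exists_pow_of_dvd_four hd
    rcases i with - | i
    · exact h1 (orderOf_eq_one_iff.mp hi)
    · refine hodd (h ^ (2 ^ i)) ?_ α (mem_stabilizer_iff.mp (pow_mem hh _))
      rw [orderOf_pow, hi, Nat.gcd_eq_right (pow_dvd_pow 2 i.le_succ), pow_succ,
        Nat.mul_div_cancel_left _ (Nat.two_pow_pos i)]
  -- the centraliser of a non-identity element of `H` is a torus of order `q - 1` inside `H`
  have key : ∀ h ∈ H, h ≠ 1 → IsCycPart F m (Subgroup.centralizer {h}) ∧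
      Subgroup.centralizer {h} ≤ H ∧ Nat.card (Subgroup.centralizer {h}) = qq - 1 := by
    intro h hh h1
    obtain ⟨hcyc, hcard⟩ := cyclic_centralizer h1 (h4 h hh h1)
    set U := Subgroup.centralizer {h} with hU
    have hUc : IsCycPart F m U := ⟨hcyc, hcard⟩
    have hhU : h ∈ U := Subgroup.mem_centralizer_singleton_iff.mpr rfl
    have hle : U ≤ H := fun k hk => by
      have hc1 : Commute k h := Subgroup.mem_centralizer_singleton_iff.mp hk
      refine fix_of_odd (fun h2 => hUc.odd (h2.trans (U.orderOf_dvd_natCard hk))) ?_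
      refine sq_fix hfix h1 hh ?_ ?_
      · rw [← mul_smul, ← hc1.eq, mul_smul, mem_stabilizer_iff.mp hh]
      · rw [← mul_smul k, ← mul_smul, ← (Commute.mul_left hc1 hc1).eq, mul_smul,
          mem_stabilizer_iff.mp hh]
    refine ⟨hUc, hle, ?_⟩
    rcases hUc.card_normalizer with ⟨hc, -⟩ | ⟨-, hN⟩
    · exact hc
    · exfalso
      obtain ⟨⟨w, hwN, hwo⟩⟩ : Nonempty {v : G // v ∈ N[U] ∧ orderOf v = 4} := by
        refine (Nat.card_pos_iff.mp ?_).1
        rw [hUc.card_order_four (by norm_num) hN]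
        exact Nat.mul_pos (by norm_num) Nat.card_pos
      have hfixw : ∀ k ∈ N[U], h • (k • α) = k • α := by
        intro k hk
        have h3 : k⁻¹ * h * k ∈ U := (Subgroup.mem_normalizer_iff.mp hk _).mpr
          (by rw [show k * (k⁻¹ * h * k) * k⁻¹ = h by group]; exact hhU)
        have h5 := mem_stabilizer_iff.mp (hle h3)
        rwa [mul_smul, mul_smul, inv_smul_eq_iff] at h5
      refine hodd (w * w) ?_ α (sq_fix hfix h1 hh (hfixw w hwN) ?_)
      · rw [← pow_two, orderOf_pow, hwo]; norm_num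
      · rw [← mul_smul w]; exact hfixw _ (mul_mem hwN hwN)
  let : Fintype G := Fintype.ofFinite _
  let : Fintype (Subgroup G) := Fintype.ofFinite _
  obtain ⟨hU₀, hU₀le, hU₀c⟩ := key g hgα hg
  set U₀ := Subgroup.centralizer {g}
  let T : Finset (Subgroup G) := Finset.univ.filter fun V => IsCycPart F m V ∧ V ≤ H ∧ Nat.card V = qq - 1
  have h8 := q_ge (F := F) (m := m)
  have hsum : Nat.card H - 1 = T.card * (qq - 2) := by
    rw [Nat.card_eq_fintype_card, Fintype.card_subtype, ← Finset.card_erase_of_mem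
      (s := Finset.univ.filter fun x : G => x ∈ H) (a := 1) (by simp)]
    rw [Finset.card_eq_sum_card_fiberwise (f := fun x : G => Subgroup.centralizer {x}) (t := T)
      (fun x hx => by
        simp only [Finset.mem_coe, Finset.mem_erase, Finset.mem_filter, Finset.mem_univ, true_and] at hx
        obtain ⟨e1, e2, e3⟩ := key x hx.2 hx.1
        simp only [T, Finset.mem_coe, Finset.mem_filter, Finset.mem_univ, true_and]
        exact ⟨e1, e2, e3⟩)]
    refine Finset.sum_const_nat fun V hV => ?_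
    simp only [T, Finset.mem_filter, Finset.mem_univ, true_and] at hV
    rw [show qq - 2 = Nat.card V - 1 by omega, Nat.card_eq_fintype_card (α := V), Fintype.card_subtype,
      ← Finset.card_erase_of_mem (s := Finset.univ.filter fun x : G => x ∈ V) (a := 1) (by simp)]
    congr 1
    ext x
    simp only [Finset.mem_erase, Finset.mem_filter, Finset.mem_univ, true_and]
    constructor
    · rintro ⟨⟨hx1, hxH⟩, rfl⟩
      exact ⟨hx1, Subgroup.mem_centralizer_singleton_iff.mpr rfl⟩
    · rintro ⟨hx1, hxV⟩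
      exact ⟨⟨hx1, hV.2.1 hxV⟩, hV.1.eq_centralizer hxV hx1⟩
  -- each member of `T` has as many conjugates in `H` as its index
  have hinj : ∀ V ∈ T, ∃ f : H ⧸ V.subgroupOf H → T, Function.Injective f ∧
      ∀ x, (f x : Subgroup G) = V.map (MulAut.conj ((x.out : H) : G)).toMonoidHom := by
    intro V hV
    simp only [T, Finset.mem_filter, Finset.mem_univ, true_and] at hV
    refine ⟨fun x => ⟨V.map (MulAut.conj ((x.out : H) : G)).toMonoidHom, ?_⟩, ?_,
      fun x => rfl⟩
    · simp only [T, Finset.mem_filter, Finset.mem_univ, true_and]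
      refine ⟨hV.1.map _, ?_, ?_⟩
      · rintro _ ⟨v, hv, rfl⟩
        exact mul_mem (mul_mem x.out.2 (hV.2.1 hv)) (inv_mem x.out.2)
      · exact (Subgroup.card_map_of_injective (MulAut.conj _).injective).trans hV.2.2
    · intro x y h
      have h1 : V.map (MulAut.conj ((x.out : H) : G)).toMonoidHom =
          V.map (MulAut.conj ((y.out : H) : G)).toMonoidHom := congrArg Subtype.val h
      set k := ((x.out : H) : G)⁻¹ * ((y.out : H) : G) with hk
      have hkH : k ∈ H := mul_mem (inv_mem x.out.2) y.out.2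
      have hkN : k ∈ N[V] := by
        rw [Subgroup.mem_normalizer_iff_map_conj_eq]
        change V.map (MulAut.conj k).toMonoidHom = V
        rw [hk, ← map_conj_map, ← h1, map_conj_map, inv_mul_cancel]
        ext z; simp
      rw [← QuotientGroup.out_eq' x, ← QuotientGroup.out_eq' y, QuotientGroup.eq,
        Subgroup.mem_subgroupOf, Subgroup.coe_mul, Subgroup.coe_inv]
      change k ∈ V
      by_cases hk1 : k = 1
      · rw [hk1]; exact one_mem V
      · exact hV.1.mem_of_not_dvd_four hkN (h4 k hkH hk1)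
  have hidx : ∀ V ∈ T, Nat.card H = (qq - 1) * Nat.card (H ⧸ V.subgroupOf H) := by
    intro V hV
    simp only [T, Finset.mem_filter, Finset.mem_univ, true_and] at hV
    rw [← Subgroup.card_mul_index (V.subgroupOf H), Subgroup.index_eq_card,
      Nat.card_congr (Subgroup.subgroupOfEquivOfLe hV.2.1).toEquiv, hV.2.2]
  have hU₀T : U₀ ∈ T := by
    simp only [T, Finset.mem_filter, Finset.mem_univ, true_and]; exact ⟨hU₀, hU₀le, hU₀c⟩
  obtain ⟨f, hf, hfconj⟩ := hinj U₀ hU₀T
  set n := Nat.card (H ⧸ U₀.subgroupOf H)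
  have hH' : Nat.card H = (qq - 1) * n := hidx U₀ hU₀T
  have hTn : T.card = n := by
    refine le_antisymm (le_of_not_gt fun hlt => ?_) ?_
    · have hns : ¬ Function.Surjective f := fun hs => by
        have := Nat.card_eq_of_bijective f ⟨hf, hs⟩
        rw [Nat.card_eq_fintype_card (α := T), Fintype.card_coe] at this
        omega
      simp only [Function.Surjective, not_forall, not_exists] at hns
      obtain ⟨⟨V, hV⟩, hVf⟩ := hns
      obtain ⟨f', hf', hf'conj⟩ := hinj V hV
      have hn' : Nat.card (H ⧸ V.subgroupOf H) = n :=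
        Nat.eq_of_mul_eq_mul_left (by omega : 0 < qq - 1) ((hidx V hV).symm.trans hH')
      have hd : Function.Injective (Sum.elim f f') := by
        refine hf.sumElim hf' fun x y e => ?_
        have ek := hfconj x
        have ek' := hf'conj y
        set k := ((x.out : H) : G)
        set k' := ((y.out : H) : G)
        have hk : k ∈ H := x.out.2
        have hk' : k' ∈ H := y.out.2
        -- then `V` would be in the range of `f`
        have e1 : V = U₀.map (MulAut.conj (k'⁻¹ * k)).toMonoidHom := by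
          rw [← map_conj_map, ← ek, e, ek', map_conj_map, inv_mul_cancel]
          ext z; simp
        let z : H ⧸ U₀.subgroupOf H := ((⟨k'⁻¹ * k, mul_mem (inv_mem hk') hk⟩ : H) : H ⧸ U₀.subgroupOf H)
        refine hVf z (Subtype.ext ?_)
        change (f z : Subgroup G) = V
        obtain ⟨u, hu⟩ := QuotientGroup.mk_out_eq_mul (U₀.subgroupOf H) ⟨k'⁻¹ * k, mul_mem (inv_mem hk') hk⟩
        rw [hfconj z, hu, Subgroup.coe_mul, ← map_conj_map, e1]
        congr 1
        exact (Subgroup.mem_normalizer_iff_map_conj_eq).mp (Subgroup.le_normalizer u.2)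
      have h2 := Nat.card_le_card_of_injective _ hd
      rw [Nat.card_sum, hn', Nat.card_eq_fintype_card (α := T), Fintype.card_coe] at h2
      change n + n ≤ T.card at h2
      have h3 : (qq - 2) * (n + n) ≤ (qq - 2) * T.card := Nat.mul_le_mul_left _ h2
      have hn0 : 0 < n := Nat.card_pos
      have h5 : (qq - 1) * n + n ≤ (qq - 2) * (n + n) := by
        obtain ⟨j, hj⟩ : ∃ j, qq = j + 5 := ⟨qq - 5, by omega⟩
        rw [hj, show j + 5 - 1 = j + 4 by omega, show j + 5 - 2 = j + 3 by omega]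
        nlinarith
      rw [mul_comm T.card] at hsum
      omega
    · have := Nat.card_le_card_of_injective f hf
      rwa [Nat.card_eq_fintype_card (α := T), Fintype.card_coe] at this
  rw [hTn] at hsum
  have hn0 : 0 < n := Nat.card_pos
  have e : (qq - 1) * n = n * (qq - 2) + n := by
    obtain ⟨j, hj⟩ : ∃ j, qq = j + 2 := ⟨qq - 2, by omega⟩
    rw [hj, show j + 2 - 1 = j + 1 by omega, Nat.add_sub_cancel]; ring
  have hn1 : n = 1 := by omega
  rw [hH', hn1, mul_one]

theorem fixity_two [IsPretransitive G Ω] (hfix : ∀ g : G, g ≠ 1 → Nat.card (fixedBy Ω g) ≤ 2)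
    (hex : ∃ g : G, g ≠ 1 ∧ Nat.card (fixedBy Ω g) = 2) :
    (Nat.card Ω = qq ^ 2 + 1 ∧ IsMultiplyPretransitive G Ω 2) ∨
      (Nat.card Ω = qq ^ 2 * (qq ^ 2 + 1) ∧ ∀ α : Ω, Nat.card (stabilizer G α) = qq - 1) := by
  have := finiteF (F := F) (m := m)
  obtain ⟨g, hg, hgc⟩ := hex
  obtain ⟨⟨α, hgα⟩⟩ : Nonempty (fixedBy Ω g) := (Nat.card_pos_iff.mp (by omega)).1
  by_cases hinv : ∃ z : G, orderOf z = 2 ∧ ∃ α₀ : Ω, z • α₀ = α₀
  · obtain ⟨z, hz, α₀, hzα⟩ := hinv
    obtain ⟨β, hβ⟩ := stabilizer_eq_borel hfix ⟨g, hg, hgc⟩ hz hzα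
    refine Or.inl ⟨?_, ?_⟩
    · rw [← index_stabilizer_of_transitive G β, hβ, index_borel]
    · rw [is_two_pretransitive_iff]
      intro a b c d hab hcd
      obtain ⟨x, rfl⟩ := exists_smul_eq G β a
      obtain ⟨y, rfl⟩ := exists_smul_eq G β b
      obtain ⟨u, rfl⟩ := exists_smul_eq G β c
      obtain ⟨v, rfl⟩ := exists_smul_eq G β d
      have hiff : ∀ s t : G, s • β = t • β ↔ s • ∞ = t • ∞ := by
        intro s t
        rw [eq_comm, ← inv_smul_eq_iff, ← mul_smul, ← mem_stabilizer_iff, hβ, mem_stabilizer_iff,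
          mul_smul, inv_smul_eq_iff, eq_comm]
      obtain ⟨w, hw1, hw2⟩ := two_trans (m := m) (smul_mem_ovoid x inf_mem) (smul_mem_ovoid y inf_mem)
        (smul_mem_ovoid u inf_mem) (smul_mem_ovoid v inf_mem) (fun h => hab ((hiff x y).mpr h))
        (fun h => hcd ((hiff u v).mpr h))
      refine ⟨w, ?_, ?_⟩
      · rw [← mul_smul, hiff, mul_smul, hw1]
      · rw [← mul_smul, hiff, mul_smul, hw2]
  · push Not at hinv
    have hc := natCard_stabilizer_odd hfix (fun z hz α₀ => hinv z hz α₀) hg hgα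
    refine Or.inr ⟨?_, fun β => ?_⟩
    · have h1 := Subgroup.card_mul_index (stabilizer G α)
      rw [index_stabilizer_of_transitive G α, hc, natCard_Sz, mul_comm (qq - 1)] at h1
      exact Nat.eq_of_mul_eq_mul_right (by have := q_ge (F := F) (m := m); omega) h1
    · obtain ⟨x, rfl⟩ := exists_smul_eq G α β
      rw [stabilizer_smul_eq_stabilizer_map_conj,
        Subgroup.card_map_of_injective (MulAut.conj x).injective, hc]

end Cfsg.Agent.SuzukiGroupFixity
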