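import Cfsg.Agent.Lib.SuzukiGroupNormalizers
import Cfsg.Agent.Lib.CharBasicPerm
import Cfsg.Agent.Lib.CharBasicInt
import Cfsg.Agent.Lib.CharBasicDecomp
import Cfsg.Agent.Lib.CharBasicLinear
import Cfsg.Agent.Lib.CharInducedBasic
import Cfsg.Agent.Lib.CharInducedRep
import Cfsg.Agent.Lib.BlockTheoryIdem
import Cfsg.Agent.Lib.ZStarCount
import Cfsg.Agent.S0914

/-!
The Steinberg character of the Suzuki group and Gow's theorem: every semisimple element is a product
of two conjugates of any given semisimple element.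
-/

set_option autoImplicit false

namespace Cfsg.Agent.SuzukiGroupGow

open scoped Matrix Pointwise LinearAlgebra.Projectivization ComplexConjugate
open MulAction Cfsg.Agent.SuzukiGroupBasic Cfsg.Agent.SuzukiGroupStructure
open Cfsg.Agent.SuzukiGroupCentralizer Cfsg.Agent.SuzukiGroupTori Cfsg.Agent.SuzukiGroupPartition
open Cfsg.Agent.SuzukiGroupNormalizers
open Cfsg.Agent.CharBasic

variable {F : Type*} [Field F] {m : ℕ} [hP : Param F m]

set_option quotPrecheck false
local notation "G" => ↥(Cfsg.Sz F m)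
local notation "qq" => (2 ^ (2 * m + 1) : ℕ)
local notation "∞" => Cfsg.suzukiPointInfinity F
local notation "o" => Cfsg.suzukiPointZero F

/-- The ovoid as a type. -/
abbrev Ov (F : Type*) [Field F] (m : ℕ) : Type _ :=
  {p : ℙ F (Fin 4 → F) // p ∈ suzukiOvoid F m}

instance ovoidAction : MulAction ↥(Cfsg.Sz F m) (Ov F m) where
  smul g p := ⟨g • p.1, smul_mem_ovoid g p.2⟩
  one_smul p := Subtype.ext (one_smul _ p.1)
  mul_smul g h p := Subtype.ext (mul_smul g h p.1)

theorem coe_smul (g : G) (p : Ov F m) : ((g • p : Ov F m) : ℙ F (Fin 4 → F)) = g • p.1 := rfl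

theorem finite_ov : Finite (Ov F m) := by
  have := finiteF (F := F) (m := m)
  exact Subtype.finite

theorem natCard_ov : Nat.card (Ov F m) = qq ^ 2 + 1 := by
  have := finiteF (F := F) (m := m)
  rw [← natCard (F := F) (m := m)]
  exact (Nat.card_coe_set_eq _).trans (ncard_ovoid (F := F) (m := m))

/-- Semisimple nontrivial elements: those whose order does not divide 4. -/
def Semi (g : G) : Prop := ¬ orderOf g ∣ 4

theorem Semi.ne_one {g : G} (hg : Semi g) : g ≠ 1 := fun h => hg (by rw [h, orderOf_one]; exact one_dvd 4)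

theorem natCard_fixedBy_semi {g : G} (hg : Semi g) :
    Nat.card (fixedBy (Ov F m) g) = 0 ∨ Nat.card (fixedBy (Ov F m) g) = 2 := by
  rcases exists_conj_Ts_or_Hs hg.ne_one with hf | ⟨c, a, b, hab⟩ | ⟨c, k, hk, hck⟩
  · left
    have : IsEmpty (fixedBy (Ov F m) g) := ⟨fun p => hf _ p.1.2 (congrArg Subtype.val p.2)⟩
    exact Nat.card_of_isEmpty
  · exact absurd (by rw [← MulEquiv.orderOf_eq (MulAut.conj c), MulAut.conj_apply, hab]
                     exact orderOf_Ts_dvd a b) hg
  · right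
    have hfix : ∀ p : ℙ F (Fin 4 → F), (Hs k : G) • p = p → g • (c⁻¹ • p) = c⁻¹ • p := by
      intro p hp
      rw [← hck, mul_smul, mul_smul] at hp
      rw [eq_inv_smul_iff]
      exact hp
    refine Nat.card_eq_two_iff.mpr
      ⟨⟨⟨c⁻¹ • ∞, smul_mem_ovoid _ inf_mem⟩, mem_fixedBy.mpr (Subtype.ext (hfix _ (Hs_smul_inf k)))⟩,
        ⟨⟨c⁻¹ • o, smul_mem_ovoid _ zero_mem⟩, mem_fixedBy.mpr (Subtype.ext (hfix _ (Hs_smul_zero k)))⟩,
        fun h => inf_ne_zero (MulAction.injective c⁻¹ (congrArg (fun z : fixedBy (Ov F m) g => z.1.1) h)),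
        Set.eq_univ_of_forall ?_⟩
    rintro ⟨⟨p, hp⟩, hpf⟩
    have h1 : (Hs k : G) • (c • p) = c • p := by
      rw [← hck, conj_smul_eq]
      exact congrArg (c • ·) (congrArg Subtype.val hpf)
    rcases Hs_fix hk (smul_mem_ovoid c hp) h1 with h2 | h2
    · left; exact Subtype.ext (Subtype.ext (eq_inv_smul_iff.mpr h2))
    · right; exact Subtype.ext (Subtype.ext (eq_inv_smul_iff.mpr h2))

/-- The Steinberg character. -/
noncomputable def St (g : G) : ℂ := (Nat.card (fixedBy (Ov F m) g) : ℂ) - 1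

theorem St_semi {g : G} (hg : Semi g) : St g = 1 ∨ St g = -1 := by
  rcases natCard_fixedBy_semi hg with h | h <;> [right; left] <;> rw [St, h] <;> norm_num

theorem St_one : St (1 : G) = (qq : ℂ) ^ 2 := by
  rw [St, show fixedBy (Ov F m) (1 : G) = Set.univ from Set.eq_univ_of_forall fun p => one_smul G p,
    Nat.card_congr (Equiv.Set.univ _), natCard_ov]
  push_cast
  ring

theorem pretransitive : IsPretransitive G (Ov F m) := by
  refine ⟨fun p q => ?_⟩
  obtain ⟨g, hg⟩ := exists_to_inf (m := m) p.2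
  obtain ⟨g', hg'⟩ := exists_to_inf (m := m) q.2
  refine ⟨g' * g⁻¹, Subtype.ext ?_⟩
  rw [coe_smul, mul_smul, ← hg, inv_smul_smul, hg']

theorem card_orbits_one : Nat.card (orbitRel.Quotient G (Ov F m)) = 1 := by
  have := pretransitive (F := F) (m := m)
  have : Nonempty (Ov F m) := ⟨⟨∞, inf_mem⟩⟩
  exact Nat.card_eq_one_iff_unique.mpr ⟨(pretransitive_iff_subsingleton_quotient G (Ov F m)).mp ‹_›,
    ⟨Quotient.mk'' ⟨∞, inf_mem⟩⟩⟩

theorem card_orbits_two : Nat.card (orbitRel.Quotient G (Ov F m × Ov F m)) = 2 := by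
  refine Nat.card_eq_two_iff.mpr
    ⟨Quotient.mk'' (⟨∞, inf_mem⟩, ⟨∞, inf_mem⟩), Quotient.mk'' (⟨∞, inf_mem⟩, ⟨o, zero_mem⟩), ?_,
      Set.eq_univ_of_forall ?_⟩
  · intro h
    obtain ⟨g, hg⟩ := Quotient.exact' h
    have h1 := congrArg (fun z : Ov F m × Ov F m => z.1.1) hg
    have h2 := congrArg (fun z : Ov F m × Ov F m => z.2.1) hg
    exact inf_ne_zero (MulAction.injective g (h1.trans h2.symm))
  · intro z
    induction z using Quotient.inductionOn' with
    | h z =>
      obtain ⟨⟨p, hp⟩, ⟨q, hq⟩⟩ := z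
      by_cases hpq : p = q
      · obtain ⟨g, hg⟩ := exists_to_inf (m := m) hp
        subst hpq
        exact Or.inl (Quotient.sound' ⟨g, Prod.ext (Subtype.ext hg) (Subtype.ext hg)⟩)
      · obtain ⟨g, h1, h2⟩ := two_trans (m := m) inf_mem zero_mem hp hq inf_ne_zero hpq
        exact Or.inr (Quotient.sound' ⟨g, Prod.ext (Subtype.ext h1) (Subtype.ext h2)⟩)

theorem St_eq :
    (St : G → ℂ) = (fun g : G => (Nat.card (fixedBy (Ov F m) g) : ℂ)) - fun _ => 1 := rfl

theorem isIrrCharacter_St : Cfsg.IsIrrCharacter G (St : G → ℂ) := by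
  classical
  have := finite_ov (F := F) (m := m)
  have := Fintype.ofFinite G
  set π : G → ℂ := fun g => (Nat.card (fixedBy (Ov F m) g) : ℂ) with hπ
  have hgen : Cfsg.IsGeneralizedCharacter G (St : G → ℂ) := by
    rw [St_eq]
    exact CharBasicDecomp.isGeneralizedCharacter_sub
      (CharBasicDecomp.isGeneralizedCharacter_of_isCharacter (CharBasicPerm.isCharacter_fixedBy _))
      (CharBasicDecomp.isGeneralizedCharacter_of_isCharacter CharBasicDecomp.isCharacter_one)
  have hππ : Cfsg.classInner π π = 2 := by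
    rw [hπ, CharBasicPerm.classInner_fixedBy_self, card_orbits_two]; norm_num
  have hπ1 : Cfsg.classInner π (fun _ => 1) = 1 := by
    rw [hπ, CharBasicPerm.classInner_fixedBy_one, card_orbits_one]; norm_num
  have h1π : Cfsg.classInner (fun _ => 1) π = 1 := by
    rw [← CharBasicOrth.conj_classInner, hπ1, map_one]
  have h11 : Cfsg.classInner (fun _ : G => (1 : ℂ)) (fun _ => 1) = 1 := by
    rw [Cfsg.classInner]
    simp only [map_one, mul_one, Finset.sum_const, Finset.card_univ, nsmul_eq_mul, ← Nat.card_eq_fintype_card]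
    exact inv_mul_cancel₀ (Nat.cast_ne_zero.mpr Nat.card_pos.ne')
  have hnorm : Cfsg.classInner (St : G → ℂ) St = 1 := by
    rw [St_eq, CharBasicOrth.classInner_sub_left, CharBasicOrth.classInner_sub_right,
      CharBasicOrth.classInner_sub_right, hππ, hπ1, h1π, h11]
    norm_num
  obtain ⟨χ, hχ, h | h⟩ := CharBasicDecomp.eq_or_neg_irr_of_norm_one hgen hnorm
  · rw [h]; exact hχ
  · exfalso
    obtain ⟨n, hn, hn1⟩ := isIrrCharacter_apply_one hχ
    have h1 := congrFun h 1
    rw [St_one, Pi.neg_apply, hn1] at h1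
    have : ((qq ^ 2 + n : ℕ) : ℂ) = 0 := by rw [Nat.cast_add, Nat.cast_pow]; linear_combination h1
    have := Nat.cast_eq_zero.mp this
    omega

/-- The Steinberg character as an element of the set of irreducible characters. -/
noncomputable def StIrr : Cfsg.IrrCharacter G := ⟨St, isIrrCharacter_St⟩

theorem odd_part_odd : ¬ 2 ∣ (qq ^ 2 + 1) * (qq - 1) := by
  have h2 : 2 ∣ qq := dvd_pow_self 2 (by omega)
  have h : 0 < qq := by positivity
  have h3 : 2 ∣ qq ^ 2 := dvd_pow h2 two_ne_zero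
  rw [Nat.prime_two.dvd_mul]
  omega

/-- A character of full 2-degree vanishes on elements of even order. -/
theorem eq_zero_of_even {χ : Cfsg.IrrCharacter G} {d : ℕ} (hd : (χ : G → ℂ) 1 = d)
    (hdvd : qq ^ 2 ∣ d) {g : G} (hg : 2 ∣ orderOf g) : (χ : G → ℂ) g = 0 := by
  classical
  have : Fintype G := Fintype.ofFinite G
  have : Fact (Nat.Prime 2) := ⟨Nat.prime_two⟩
  obtain ⟨M, hM⟩ := ZStarCount.exists_isPModular 2 Nat.prime_two
  obtain ⟨n, hn0, hn, hdd⟩ := CharBasicInt.exists_apply_one_dvd_card χ.2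
  have hnd : n = d := Nat.cast_injective (hn.symm.trans hd)
  subst hnd
  have hblock : Cfsg.blockOf M (χ : G → ℂ) = {χ} := by
    refine (S0914.result 2 M hM χ).mp fun h2 => odd_part_odd (m := m) ?_
    rw [show Cfsg.charDegree (χ : G → ℂ) = n by simp [Cfsg.charDegree, hn]] at h2
    obtain ⟨e, rfl⟩ := hdvd
    obtain ⟨f, hf⟩ := hdd
    have hq2 : 0 < qq ^ 2 := by positivity
    rw [hf, Nat.mul_div_cancel_left _ hn0] at h2
    rw [SuzukiGroupStructure.natCard_Sz, mul_assoc, mul_assoc] at hf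
    rw [Nat.eq_of_mul_eq_mul_left hq2 hf]
    exact dvd_mul_of_dvd_right h2 e
  have h2 := BlockTheoryIdem.weak_orthogonality hM (BlockTheoryIdem.isPBlock_blockOf χ)
    (x := 1) (by simp) hg
  simp only [hblock, Set.mem_singleton_iff, Finset.sum_ite_eq', Finset.mem_univ, if_true, mul_eq_zero] at h2
  exact (map_eq_zero _).mp (h2.resolve_left (BlockTheoryCentre.irr_one_ne_zero χ))

/-- The only character of full 2-degree is the Steinberg character. -/
theorem eq_St {χ : Cfsg.IrrCharacter G} {d : ℕ} (hd : (χ : G → ℂ) 1 = d) (hdvd : qq ^ 2 ∣ d) :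
    χ = StIrr := by
  classical
  have := finite_ov (F := F) (m := m)
  have : Fintype G := Fintype.ofFinite G
  set B : Subgroup G := SuzukiGroupStructure.borel with hBdef
  have : Fintype B := Fintype.ofFinite B
  set U : Subgroup G := SuzukiGroupStructure.unipotent with hUdef
  have hvan : ∀ u ∈ U, u ≠ 1 → (χ : G → ℂ) u = 0 := by
    rintro u ⟨a, b, rfl⟩ hu
    refine eq_zero_of_even hd hdvd ?_
    obtain ⟨i, hi⟩ := exists_pow_of_dvd_four (orderOf_Ts_dvd (F := F) (m := m) a b)
    rcases i with - | i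
    · exact absurd (orderOf_eq_one_iff.mp hi) hu
    · rw [hi]; exact dvd_pow_self 2 (by omega)
  have hd0 : d ≠ 0 := by
    rintro rfl
    exact isIrrCharacter_apply_one_ne_zero χ.2 (by simpa using hd)
  -- a linear character of the Borel subgroup inside `χ`
  have hUn : (U.subgroupOf B).Normal :=
    ⟨fun u hu b => conj_mem_unipotent (mem_stabilizer_iff.mp b.2) hu⟩
  set Q := B ⧸ U.subgroupOf B
  have hQc : ∀ a b : Q, a * b = b * a := by
    have hrep : ∀ a : Q, ∃ k : Fˣ, a = QuotientGroup.mk (⟨Hs k, mem_stabilizer_iff.mpr (Hs_smul_inf k)⟩ : B) := by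
      intro a
      induction a using QuotientGroup.induction_on with
      | _ b =>
        obtain ⟨x, y, k, hb⟩ := fix_inf_iff.mp (mem_stabilizer_iff.mp b.2)
        refine ⟨k, QuotientGroup.eq.mpr ?_⟩
        show ((b : G))⁻¹ * Hs k ∈ U
        rw [hb, mul_inv_rev, mul_assoc]
        have := conj_mem_unipotent (g := (Hs k : G)⁻¹) (by rw [inv_smul_eq_iff, Hs_smul_inf])
          (inv_mem (Ts_mem (m := m) x y))
        rw [inv_inv, mul_assoc] at this
        exact this
    intro a b
    obtain ⟨k, rfl⟩ := hrep a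
    obtain ⟨l, rfl⟩ := hrep b
    rw [← QuotientGroup.mk_mul, ← QuotientGroup.mk_mul]
    exact congrArg _ (Subtype.ext (show (Hs k : G) * Hs l = Hs l * Hs k by rw [Hs_mul, Hs_mul, mul_comm]))
  have : Fintype Q := Fintype.ofFinite Q
  set χB : B → ℂ := fun b => (χ : G → ℂ) b with hχB
  have hχBc : Cfsg.IsCharacter B χB := isCharacter_comap B.subtype (isCharacter_of_isIrrCharacter χ.2)
  obtain ⟨lam, hlam⟩ : ∃ lam : Q →* ℂˣ,
      Cfsg.classInner (fun b : B => (lam (QuotientGroup.mk b) : ℂ)) χB ≠ 0 := by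
    by_contra hcon
    push Not at hcon
    have hsum : ∀ b : B, ∑ ψ : Cfsg.IrrCharacter Q, (ψ : Q → ℂ) (QuotientGroup.mk b) =
        if (b : G) ∈ U then (Nat.card Q : ℂ) else 0 := by
      intro b
      have h := CharBasicOrth.sum_irr_mul_conj (QuotientGroup.mk b : Q) 1
      have h1 : ∀ ψ : Cfsg.IrrCharacter Q, (ψ : Q → ℂ) 1 = 1 := fun ψ =>
        CharBasicLinear.apply_one_eq_one_of_comm hQc ψ.2
      simp only [h1, map_one, mul_one] at h
      rw [h]
      have hiff : IsConj (QuotientGroup.mk b : Q) 1 ↔ (b : G) ∈ U := by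
        rw [isConj_comm, isConj_one_right, QuotientGroup.eq_one_iff]; rfl
      by_cases hb : (b : G) ∈ U
      · rw [if_pos hb, if_pos (hiff.mpr hb)]
        congr 1
        have : Subgroup.centralizer ({(QuotientGroup.mk b : Q)} : Set Q) = ⊤ :=
          eq_top_iff.mpr fun a _ => Subgroup.mem_centralizer_singleton_iff.mpr (hQc a _)
        rw [this, Subgroup.card_top]
      · rw [if_neg hb, if_neg (fun h => hb (hiff.mp h))]
    have hzero : ∑ b : B, (∑ ψ : Cfsg.IrrCharacter Q, (ψ : Q → ℂ) (QuotientGroup.mk b)) * conj (χB b) = 0 := by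
      simp only [Finset.sum_mul]
      rw [Finset.sum_comm]
      refine Finset.sum_eq_zero fun ψ _ => ?_
      obtain ⟨l, hl⟩ := CharBasicLinear.exists_hom_of_comm hQc ψ.2
      have := hcon l
      rw [Cfsg.classInner, mul_eq_zero] at this
      rw [hl]
      exact this.resolve_left (inv_ne_zero (Nat.cast_ne_zero.mpr Nat.card_pos.ne'))
    simp only [hsum, ite_mul, zero_mul] at hzero
    rw [Finset.sum_eq_single (1 : B)] at hzero
    · rw [if_pos (show ((1 : B) : G) ∈ U from one_mem U)] at hzero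
      simp [hχB, hd, hd0] at hzero
    · intro b _ hb
      split_ifs with hbU
      · rw [show χB b = 0 from hvan b hbU (fun e => hb (Subtype.ext e)), map_zero, mul_zero]
      · rfl
    · simp
  set θ : B → ℂ := fun b => (lam (QuotientGroup.mk b) : ℂ) with hθ
  have hθc : Cfsg.IsCharacter B θ :=
    CharBasicDecomp.isCharacter_linear (lam.comp (QuotientGroup.mk' (U.subgroupOf B)))
  have hIc := CharInduced.isCharacter_ind B hθc
  set I := Cfsg.indFun B θ with hI
  have hI1 : I 1 = ((qq ^ 2 + 1 : ℕ) : ℂ) := by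
    rw [hI, CharInduced.ind_one_apply, show B.index = _ from index_borel]
    simp [hθ]
  obtain ⟨c, hcval, hc⟩ := CharBasicDecomp.exists_mult hIc
  have hchi : c χ ≠ 0 := by
    intro h0
    refine hlam ?_
    have h1 := hcval χ
    rw [h0, Nat.cast_zero, hI, CharInduced.inner_ind_left (H := B) θ
      (isClassFunction_of_isCharacter (isCharacter_of_isIrrCharacter χ.2))] at h1
    exact h1
  set triv : Cfsg.IrrCharacter G := CharBasicDecomp.trivIrr G
  have hne : χ ≠ triv := by
    rintro rfl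
    change ((1 : ℂ)) = d at hd
    rw [← Nat.cast_one] at hd
    rw [← Nat.cast_injective hd, Nat.dvd_one] at hdvd
    have := q_ge (F := F) (m := m)
    nlinarith
  have hdeg : (qq ^ 2 + 1 : ℕ) = ∑ ψ : Cfsg.IrrCharacter G, c ψ * Cfsg.charDegree (ψ : G → ℂ) := by
    refine Nat.cast_injective (R := ℂ) ?_
    rw [← hI1, hc, Nat.cast_sum, Finset.sum_apply]
    refine Finset.sum_congr rfl fun ψ _ => ?_
    obtain ⟨n, -, hn⟩ := isIrrCharacter_apply_one ψ.2
    simp [Cfsg.charDegree, hn]
  have hdd : Cfsg.charDegree (χ : G → ℂ) = d := by simp [Cfsg.charDegree, hd]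
  rw [← Finset.add_sum_erase _ _ (Finset.mem_univ χ), hdd] at hdeg
  have hdle : qq ^ 2 ≤ d := Nat.le_of_dvd (Nat.pos_of_ne_zero hd0) hdvd
  have hq8 := q_ge (F := F) (m := m)
  have hrest : ∑ ψ ∈ Finset.univ.erase χ, c ψ * Cfsg.charDegree (ψ : G → ℂ) = 1 := by
    have h1 : d ≤ c χ * d := Nat.le_mul_of_pos_left d (Nat.pos_of_ne_zero hchi)
    have h2 : c χ * d ≤ qq ^ 2 + 1 := by omega
    obtain ⟨e, he⟩ := hdvd
    have he1 : c χ * e = 1 := by
      have h3 : qq ^ 2 * (c χ * e) ≤ qq ^ 2 + 1 := by rw [mul_left_comm, ← he]; exact h2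
      have h4 : 0 < c χ * e := Nat.pos_of_ne_zero fun h0 => by
        rcases Nat.mul_eq_zero.mp h0 with h0 | h0
        · exact hchi h0
        · exact hd0 (by rw [he, h0, mul_zero])
      by_contra h5
      have : qq ^ 2 * 2 ≤ qq ^ 2 * (c χ * e) := Nat.mul_le_mul_left _ (by omega)
      nlinarith
    have : c χ * d = qq ^ 2 := by rw [he, mul_left_comm, he1, mul_one]
    omega
  obtain ⟨ψ₀, hψ₀, hψ₀ne⟩ := Finset.exists_ne_zero_of_sum_ne_zero (by rw [hrest]; exact one_ne_zero)
  have hle := Finset.single_le_sum (f := fun ψ : Cfsg.IrrCharacter G => c ψ * Cfsg.charDegree (ψ : G → ℂ))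
    (fun ψ _ => Nat.zero_le _) hψ₀
  rw [hrest] at hle
  have hprod : c ψ₀ * Cfsg.charDegree (ψ₀ : G → ℂ) = 1 := by
    have := Nat.pos_of_ne_zero hψ₀ne
    omega
  obtain ⟨hc₀, hd₀⟩ := mul_eq_one.mp hprod
  have hψ₀1 : (ψ₀ : G → ℂ) 1 = 1 := by
    obtain ⟨n, -, hn⟩ := isIrrCharacter_apply_one ψ₀.2
    rw [show Cfsg.charDegree (ψ₀ : G → ℂ) = n by simp [Cfsg.charDegree, hn]] at hd₀
    rw [hn, hd₀, Nat.cast_one]
  have hψtriv : (ψ₀ : G → ℂ) = fun _ => 1 := by
    obtain ⟨l, hl⟩ := CharBasicLinear.exists_hom_of_apply_one_eq_one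
      (isCharacter_of_isIrrCharacter ψ₀.2) hψ₀1
    have hker : commutator G ≤ l.ker := Abelianization.commutator_subset_ker l
    rw [SuzukiGroupStructure.commutator_eq_top] at hker
    funext g
    rw [hl]
    show ((l g : ℂˣ) : ℂ) = 1
    rw [show l g = 1 from hker (Subgroup.mem_top g), Units.val_one]
  -- hence `lam` is trivial
  have hθ1 : Cfsg.classInner θ (fun _ : B => (1 : ℂ)) ≠ 0 := by
    have h1 := hcval ψ₀
    rw [hc₀, hψtriv, hI, CharInduced.inner_ind_left (H := B) θ
      (isClassFunction_of_isCharacter CharBasicDecomp.isCharacter_one)] at h1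
    rw [h1]; norm_num
  have hθtriv : θ = fun _ => 1 := by
    by_contra hne'
    exact hθ1 (CharBasicOrth.classInner_irr_ne
      (CharBasicDecomp.isIrrCharacter_linear (lam.comp (QuotientGroup.mk' (U.subgroupOf B))))
      CharBasicDecomp.isIrrCharacter_one hne')
  have hsumB : ∑ b : B, conj (χB b) ≠ 0 := by
    intro h0
    refine hlam ?_
    change Cfsg.classInner θ χB = 0
    rw [hθtriv, Cfsg.classInner]
    simp [h0]
  -- so `χ` meets the permutation character
  have hpi : Cfsg.classInner (fun g : G => (Nat.card (fixedBy (Ov F m) g) : ℂ)) (χ : G → ℂ) ≠ 0 := by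
    have := Fintype.ofFinite (Ov F m)
    have hcount : ∑ g : G, (Nat.card (fixedBy (Ov F m) g) : ℂ) * conj ((χ : G → ℂ) g) =
        ∑ p : Ov F m, ∑ g : G, if g • p = p then conj ((χ : G → ℂ) g) else 0 := by
      rw [Finset.sum_comm]
      refine Finset.sum_congr rfl fun g _ => ?_
      rw [← Finset.sum_filter, Finset.sum_const, nsmul_eq_mul, Nat.card_eq_fintype_card]
      congr 2
      rw [← Fintype.card_subtype]
      exact Fintype.card_congr (Equiv.refl _)
    have hconst : ∀ p : Ov F m, (∑ g : G, if g • p = p then conj ((χ : G → ℂ) g) else 0) =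
        ∑ b : B, conj (χB b) := by
      intro p
      obtain ⟨c, hc'⟩ := exists_to_inf (m := m) p.2
      rw [← Finset.sum_filter]
      refine Finset.sum_bij' (fun g hg => (⟨c⁻¹ * g * c, ?_⟩ : B)) (fun b _ => c * (b : G) * c⁻¹)
        (fun _ _ => Finset.mem_univ _) ?_ ?_ ?_ ?_
      · rw [hBdef, mem_stabilizer_iff, mul_smul, mul_smul, hc', inv_smul_eq_iff, hc']
        exact congrArg Subtype.val (Finset.mem_filter.mp hg).2
      · intro b _
        refine Finset.mem_filter.mpr ⟨Finset.mem_univ _, Subtype.ext ?_⟩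
        rw [coe_smul, ← hc', conj_smul_eq, mem_stabilizer_iff.mp b.2]
      · intro g _; group
      · intro b _; exact Subtype.ext (by simp [mul_assoc])
      · intro g _
        show _ = conj ((χ : G → ℂ) (c⁻¹ * g * c))
        congr 1
        exact apply_eq_of_isConj (isClassFunction_of_isCharacter (isCharacter_of_isIrrCharacter χ.2))
          (isConj_iff.mpr ⟨c⁻¹, by group⟩)
    rw [Cfsg.classInner, hcount, Finset.sum_congr rfl fun p _ => hconst p, Finset.sum_const,
      nsmul_eq_mul]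
    refine mul_ne_zero (inv_ne_zero (Nat.cast_ne_zero.mpr Nat.card_pos.ne'))
      (mul_ne_zero (Nat.cast_ne_zero.mpr ?_) hsumB)
    rw [Finset.card_univ, ← Nat.card_eq_fintype_card, natCard_ov]
    omega
  by_contra hχ
  refine hpi ?_
  have hsplit : (fun g : G => (Nat.card (fixedBy (Ov F m) g) : ℂ)) = (St : G → ℂ) + fun _ => 1 := by
    funext g; simp [St]
  rw [hsplit, CharBasicOrth.classInner_add_left,
    CharBasicOrth.classInner_irr_ne isIrrCharacter_St χ.2 (fun e => hχ (Subtype.ext e.symm)),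
    CharBasicOrth.classInner_irr_ne CharBasicDecomp.isIrrCharacter_one χ.2
      (fun e => hne (Subtype.ext e.symm)), add_zero]

theorem index_centralizer_semi {g : G} (hg : Semi g) :
    ∃ t : ℕ, ¬ 2 ∣ t ∧ (Subgroup.centralizer ({g} : Set G)).index = qq ^ 2 * t := by
  obtain ⟨hcyc, hcard⟩ := cyclic_centralizer hg.ne_one hg
  have hU : IsCycPart F m (Subgroup.centralizer {g}) := ⟨hcyc, hcard⟩
  have hodd := hU.odd
  have hq8 := q_ge (F := F) (m := m)
  have hcop : Nat.Coprime (Nat.card (Subgroup.centralizer {g})) (qq ^ 2) :=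
    Nat.Coprime.pow_right 2 (Nat.Coprime.pow_right _
      ((Nat.prime_two.coprime_iff_not_dvd.mpr hodd).symm))
  have hmul := Subgroup.card_mul_index (Subgroup.centralizer {g})
  rw [SuzukiGroupStructure.natCard_Sz, mul_assoc] at hmul
  obtain ⟨t, ht⟩ := hcop.dvd_of_dvd_mul_left (Dvd.intro _ hmul)
  refine ⟨t, fun h => odd_part_odd (m := m) (by rw [ht]; exact dvd_mul_of_dvd_right h _), ?_⟩
  have hpos : 0 < Nat.card (Subgroup.centralizer {g}) := Nat.card_pos
  rw [ht, mul_left_comm] at hmul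
  exact Nat.eq_of_mul_eq_mul_left hpos hmul

/-- **Gow's theorem** for the Suzuki group. -/
theorem exists_mul {x g : G} (hx : Semi x) (hg : Semi g) :
    ∃ u v : G, g = (u * x * u⁻¹) * (v * x * v⁻¹) := by
  classical
  have : Fintype G := Fintype.ofFinite G
  by_contra hcon
  push Not at hcon
  let f : G → ℂ := fun z => if IsConj x z then 1 else 0
  have hf0 : ∀ y, f y * f (y⁻¹ * g) = 0 := by
    intro y
    by_cases h1 : IsConj x y
    · by_cases h2 : IsConj x (y⁻¹ * g)
      · obtain ⟨u, hu⟩ := isConj_iff.mp h1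
        obtain ⟨v, hv⟩ := isConj_iff.mp h2
        exact absurd (by rw [hu, hv, mul_inv_cancel_left]) (hcon u v)
      · rw [show f (y⁻¹ * g) = 0 from if_neg h2, mul_zero]
    · rw [show f y = 0 from if_neg h1, zero_mul]
  have hcls : ∀ z : G, ∑ χ : Cfsg.IrrCharacter G, (χ : G → ℂ) z * conj ((χ : G → ℂ) x) =
      (Nat.card (Subgroup.centralizer ({x} : Set G)) : ℂ) * f z := by
    intro z
    rw [CharBasicOrth.sum_irr_mul_conj]
    by_cases h : IsConj x z
    · obtain ⟨c, hc⟩ := isConj_iff.mp h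
      rw [if_pos h.symm]
      simp only [f, if_pos h, mul_one, Nat.cast_inj]
      rw [← hc, centralizer_conj, Subgroup.card_map_of_injective (MulAut.conj c).injective]
    · rw [if_neg fun e => h e.symm, show f z = 0 from if_neg h, mul_zero]
  set C : ℂ := ∑ y : G, f y with hC
  have hC0 : C ≠ 0 := by
    have hC' : C = ((Finset.univ.filter (IsConj x)).card : ℂ) := by
      rw [hC]; simp only [f, Finset.sum_boole]
    rw [hC', Nat.cast_ne_zero]
    exact Finset.card_ne_zero.mpr ⟨x, Finset.mem_filter.mpr ⟨Finset.mem_univ _, IsConj.refl x⟩⟩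
  have hfc : Cfsg.IsClassFunction G (fun z => f z⁻¹) := by
    intro z h
    simp only [f]
    congr 1
    refine propext ⟨fun e => e.trans ?_, fun e => e.trans ?_⟩
    · exact isConj_iff.mpr ⟨h⁻¹, by group⟩
    · exact isConj_iff.mpr ⟨h, by group⟩
  have hinner : ∀ χ : Cfsg.IrrCharacter G, ∑ y : G, f y * (χ : G → ℂ) (y⁻¹ * g) =
      C * conj ((χ : G → ℂ) x) * (χ : G → ℂ) g / (χ : G → ℂ) 1 := by
    rintro ⟨χ, n, ρ, hρ, rfl⟩
    have hs := CharBasicInt.sum_smul_rep_eq ρ hfc
    have e1 : ∑ y : G, f y * ρ.character (y⁻¹ * g) = ∑ z : G, f z⁻¹ * ρ.character (z * g) := by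
      rw [← Equiv.sum_comp (Equiv.inv G) (fun z => f z⁻¹ * ρ.character (z * g))]
      simp
    have e2 : ∑ z : G, f z⁻¹ * ρ.character (z * g) =
        LinearMap.trace ℂ _ ((∑ z : G, f z⁻¹ • ρ z) * ρ g) := by
      rw [Finset.sum_mul, map_sum]
      refine Finset.sum_congr rfl fun z _ => ?_
      rw [smul_mul_assoc, map_smul, ← map_mul, smul_eq_mul]
      rfl
    have e3 : ∑ z : G, f z⁻¹ * ρ.character z = C * conj (ρ.character x) := by
      rw [← Equiv.sum_comp (Equiv.inv G), hC, Finset.sum_mul]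
      refine Finset.sum_congr rfl fun y _ => ?_
      simp only [Equiv.inv_apply, inv_inv, f]
      split_ifs with h
      · rw [one_mul, one_mul, ← character_inv,
          apply_eq_of_isConj (isClassFunction_character ρ) (show IsConj x⁻¹ y⁻¹ by
            obtain ⟨c, hc⟩ := isConj_iff.mp h
            exact isConj_iff.mpr ⟨c, by rw [← hc]; group⟩)]
      · simp
    rw [e1, e2, hs, e3, smul_mul_assoc, ← Module.End.one_eq_id, one_mul, map_smul, smul_eq_mul]
    show _ * ρ.character g = _ * ρ.character g / ρ.character 1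
    rw [Representation.char_one]
    ring
  have hzero : ∑ χ : Cfsg.IrrCharacter G,
      conj ((χ : G → ℂ) x) ^ 2 * ((χ : G → ℂ) g / (χ : G → ℂ) 1) = 0 := by
    have h1 : ∑ y : G, f y * ((Nat.card (Subgroup.centralizer ({x} : Set G)) : ℂ) * f (y⁻¹ * g)) = 0 :=
      Finset.sum_eq_zero fun y _ => by rw [mul_left_comm, hf0, mul_zero]
    simp only [← hcls, Finset.mul_sum] at h1
    rw [Finset.sum_comm] at h1
    have h2 : C * (∑ χ : Cfsg.IrrCharacter G,
        conj ((χ : G → ℂ) x) ^ 2 * ((χ : G → ℂ) g / (χ : G → ℂ) 1)) = 0 := by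
      rw [Finset.mul_sum, ← h1]
      refine Finset.sum_congr rfl fun χ _ => ?_
      simp only [← mul_assoc]
      rw [← Finset.sum_mul, hinner χ]
      ring
    exact (mul_eq_zero.mp h2).resolve_left hC0
  obtain ⟨t, ht2, hh⟩ := index_centralizer_semi hg
  set h := (Subgroup.centralizer ({g} : Set G)).index with hhdef
  have hint : ∀ χ : Cfsg.IrrCharacter G, χ ≠ StIrr →
      IsIntegral ℤ (conj ((χ : G → ℂ) x) ^ 2 * ((h : ℂ) * (χ : G → ℂ) g / (χ : G → ℂ) 1) / 2) := by
    intro χ hχ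
    have hconj : IsIntegral ℤ (conj ((χ : G → ℂ) x)) := by
      rw [← isCharacter_inv (isCharacter_of_isIrrCharacter χ.2) x]
      exact isCharacter_integral (isCharacter_of_isIrrCharacter χ.2) _
    rw [mul_div_assoc]
    refine (hconj.pow 2).mul ?_
    obtain ⟨χ', n, ρ, hρ, rfl⟩ := χ
    have hω := CharBasicInt.isIntegral_classSum ρ g
    rw [← hhdef] at hω
    change IsIntegral ℤ ((h : ℂ) * ρ.character g / ρ.character 1 / 2)
    rw [Representation.char_one]
    set d := Module.finrank ℂ (Fin n → ℂ) with hd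
    have hd0 : d ≠ 0 := (finrank_pos_of_irreducible ρ).ne'
    have hnd : ¬ qq ^ 2 ∣ d := fun hdv => hχ (eq_St (d := d) (Representation.char_one ρ) hdv)
    obtain ⟨a, d', hd', hda⟩ := Nat.exists_eq_pow_mul_and_not_dvd hd0 2 (by norm_num)
    have hale : 2 ^ (a + 1) ∣ qq ^ 2 := by
      rw [← pow_mul]
      refine pow_dvd_pow 2 ?_
      by_contra hlt
      exact hnd (by rw [hda, ← pow_mul]; exact dvd_mul_of_dvd_left (pow_dvd_pow 2 (by omega)) d')
    obtain ⟨e, he⟩ := hale
    obtain ⟨k, hk⟩ : ∃ k, d' = 2 * k + 1 := ⟨d' / 2, by omega⟩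
    have hχg : IsIntegral ℤ (ρ.character g) := isIntegral_character ρ g
    have hs : IsIntegral ℤ (((e * t : ℕ) : ℂ) * ρ.character g -
        (k : ℂ) * ((h : ℂ) * ρ.character g / (d : ℂ))) := by
      refine IsIntegral.sub ((map_natCast (algebraMap ℤ ℂ) (e * t) ▸ isIntegral_algebraMap).mul hχg) ?_
      exact (map_natCast (algebraMap ℤ ℂ) k ▸ isIntegral_algebraMap).mul hω
    convert hs using 1
    have hh' : (h : ℂ) = (2 : ℂ) ^ (a + 1) * ((e : ℂ) * t) := by
      rw [hh, he]; push_cast; ring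
    have hd'' : (d : ℂ) = (2 : ℂ) ^ a * (2 * k + 1) := by
      rw [hda, hk]; push_cast; ring
    have hk0 : (2 * (k : ℂ) + 1) ≠ 0 := by exact_mod_cast (show 2 * k + 1 ≠ 0 by omega)
    rw [hh', hd'']
    push_cast
    field_simp
    ring
  have hsum : ∑ χ : Cfsg.IrrCharacter G,
      conj ((χ : G → ℂ) x) ^ 2 * ((h : ℂ) * (χ : G → ℂ) g / (χ : G → ℂ) 1) / 2 = 0 := by
    have h0 : ∑ χ : Cfsg.IrrCharacter G, (h : ℂ) / 2 *
        (conj ((χ : G → ℂ) x) ^ 2 * ((χ : G → ℂ) g / (χ : G → ℂ) 1)) = 0 := by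
      rw [← Finset.mul_sum, hzero, mul_zero]
    refine Eq.trans (Finset.sum_congr rfl fun χ _ => ?_) h0
    ring
  rw [← Finset.add_sum_erase _ _ (Finset.mem_univ (StIrr (F := F) (m := m)))] at hsum
  have hrest := IsIntegral.sum (R := ℤ) (s := Finset.univ.erase (StIrr (F := F) (m := m))) _
    fun χ hχ => hint χ (Finset.ne_of_mem_erase hχ)
  have hSt : IsIntegral ℤ (conj (St x) ^ 2 * ((h : ℂ) * St g / St (1 : G)) / 2) := by
    have e := eq_neg_of_add_eq_zero_left hsum
    change IsIntegral ℤ (conj ((StIrr : Cfsg.IrrCharacter G).1 x) ^ 2 *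
      ((h : ℂ) * (StIrr : Cfsg.IrrCharacter G).1 g / (StIrr : Cfsg.IrrCharacter G).1 1) / 2)
    rw [e]
    exact hrest.neg
  have hx2 : conj (St x) ^ 2 = 1 := by
    rcases St_semi hx with e | e <;> rw [e] <;> simp
  have hq0 : (qq : ℂ) ^ 2 ≠ 0 := by simp
  rw [hx2, one_mul, St_one, hh] at hSt
  have ht : IsIntegral ℤ ((t : ℂ) / (2 : ℕ)) := by
    rcases St_semi hg with e | e <;> rw [e] at hSt
    · convert hSt using 1
      push_cast; field_simp
    · convert hSt.neg using 1
      push_cast; field_simp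
  exact ht2 (CharBasicInt.dvd_of_isIntegral_div two_ne_zero ht)

end Cfsg.Agent.SuzukiGroupGow
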