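import Cfsg.Agent.Lib.SuzukiGroupUChar

/-!
The Gelfand-Graev character of the Suzuki group is multiplicity free; numerical parameters of the
characters.
-/

set_option autoImplicit false

namespace Cfsg.Agent.SuzukiGroupMultOne

open scoped ComplexConjugate
open MulAction Cfsg.Agent.SuzukiGroupBasic Cfsg.Agent.SuzukiGroupStructure
open Cfsg.Agent.SuzukiGroupTrace Cfsg.Agent.SuzukiGroupUChar Cfsg.Agent.CharBasic

variable {F : Type*} [Field F] [Fintype F] {m : ℕ} [hP : Param F m]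

set_option quotPrecheck false
local notation "G" => ↥(Cfsg.Sz F m)
local notation "qq" => (2 ^ (2 * m + 1) : ℕ)

/-- The twisted sum of a class function over the Sylow subgroup. -/
noncomputable def S (χ : ↥(Cfsg.Sz F m) → ℂ) (c : F) : ℂ :=
  ∑ a : F, ∑ b : F, psi m (c * a) * χ (Ts a b)

theorem card_F : Fintype.card F = qq := by
  rw [← Nat.card_eq_fintype_card, natCard (F := F) (m := m)]

theorem S_scale {χ : G → ℂ} (hχ : Cfsg.IsClassFunction G χ) {c : F} (hc : c ≠ 0) :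
    S χ c = S χ 1 := by
  set k : Fˣ := Units.mk0 c hc
  have hs : c * sg m c ≠ 0 := mul_ne_zero hc (sg_ne_zero hc)
  symm
  refine (Fintype.sum_equiv (Equiv.mulLeft₀ c hc) _ _ fun a => ?_).symm
  refine Fintype.sum_equiv (Equiv.mulLeft₀ _ hs) _ _ fun b => ?_
  show psi m (c * a) * χ (Ts a b) = psi m (1 * (c * a)) * χ (Ts (c * a) (c * sg m c * b))
  rw [one_mul, ← hχ (Ts a b) (Hs k), Hs_Ts]
  rfl

theorem sum_S {χ : G → ℂ} (hχ : Cfsg.IsClassFunction G χ) :
    S χ 0 + ((qq : ℂ) - 1) * S χ 1 = (qq : ℂ) * (χ 1 + ((qq : ℂ) - 1) * χ (Ts 0 1)) := by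
  classical
  have e1 : ∑ c : F, S χ c = S χ 0 + ((qq : ℂ) - 1) * S χ 1 := by
    rw [← Finset.add_sum_erase _ _ (Finset.mem_univ (0 : F))]
    congr 1
    rw [Finset.sum_congr rfl fun c hc => S_scale hχ (Finset.ne_of_mem_erase hc), Finset.sum_const,
      Finset.card_erase_of_mem (Finset.mem_univ _), Finset.card_univ, card_F (F := F) (m := m),
      nsmul_eq_mul, Nat.cast_sub Nat.one_le_two_pow, Nat.cast_one]
  rw [← e1]
  simp only [S]
  rw [Finset.sum_comm, Finset.sum_eq_single (0 : F)]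
  · simp only [mul_zero, psi_zero, one_mul, Finset.sum_const, Finset.card_univ, card_F (F := F) (m := m),
      nsmul_eq_mul]
    congr 1
    rw [← Finset.add_sum_erase _ _ (Finset.mem_univ (0 : F)), Ts_zero]
    congr 1
    rw [Finset.sum_congr rfl fun b hb =>
      apply_eq_of_isConj hχ (Ts_zero_normal (Finset.ne_of_mem_erase hb)),
      Finset.sum_const, Finset.card_erase_of_mem (Finset.mem_univ _), Finset.card_univ,
      card_F (F := F) (m := m), nsmul_eq_mul, Nat.cast_sub Nat.one_le_two_pow, Nat.cast_one]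
  · intro a _ ha
    rw [Finset.sum_comm]
    refine Finset.sum_eq_zero fun b _ => ?_
    rw [← Finset.sum_mul, show ∑ c : F, psi m (c * a) = 0 by
      rw [Finset.sum_congr rfl fun c _ => by rw [mul_comm c a]]; exact sum_psi ha, zero_mul]
  · exact fun h => absurd (Finset.mem_univ _) h

variable {n : ℕ} (ρ : Representation ℂ ↥(Cfsg.Sz F m) (Fin n → ℂ))

/-- The projection to the `psi (c ·)`-isotypic part for the Sylow subgroup. -/
noncomputable def P (c : F) : Module.End ℂ (Fin n → ℂ) :=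
  ((qq : ℂ) ^ 2)⁻¹ • ∑ a : F, ∑ b : F, psi m (c * a) • ρ (Ts a b)

theorem q_ne : (qq : ℂ) ^ 2 ≠ 0 := pow_ne_zero _ (Nat.cast_ne_zero.mpr (Nat.two_pow_pos _).ne')

theorem T_mul_P (c a b : F) : ρ (Ts a b) * P ρ c = psi m (c * a) • P ρ c := by
  rw [P, mul_smul_comm, smul_comm (psi m (c * a))]
  congr 1
  rw [Finset.mul_sum, Finset.smul_sum]
  refine Fintype.sum_equiv (Equiv.addLeft a) _ _ fun x => ?_
  rw [Finset.mul_sum, Finset.smul_sum]
  refine Fintype.sum_equiv (Equiv.addLeft (b + sg m a * x)) _ _ fun y => ?_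
  simp only [Equiv.coe_addLeft, mul_smul_comm, ← map_mul, smul_smul]
  rw [Ts_mul, mul_add, psi_add, ← mul_assoc, psi_mul_self, one_mul]
  congr 3
  ring

theorem P_mul_T (c a b : F) : P ρ c * ρ (Ts a b) = psi m (c * a) • P ρ c := by
  rw [P, smul_mul_assoc, smul_comm (psi m (c * a))]
  congr 1
  rw [Finset.sum_mul, Finset.smul_sum]
  refine Fintype.sum_equiv (Equiv.addRight a) _ _ fun x => ?_
  rw [Finset.sum_mul, Finset.smul_sum]
  refine Fintype.sum_equiv (Equiv.addLeft (b + sg m x * a)) _ _ fun y => ?_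
  simp only [Equiv.coe_addLeft, Equiv.coe_addRight, smul_mul_assoc, ← map_mul, smul_smul]
  rw [Ts_mul, mul_add, psi_add, mul_comm (psi m (c * x)), ← mul_assoc, psi_mul_self, one_mul]
  congr 3
  ring

theorem P_idem (c : F) : P ρ c * P ρ c = P ρ c := by
  conv_lhs => arg 1; rw [P]
  rw [smul_mul_assoc, Finset.sum_mul]
  simp only [Finset.sum_mul, smul_mul_assoc, T_mul_P, smul_smul, psi_mul_self, one_smul,
    Finset.sum_const, Finset.card_univ, card_F (F := F) (m := m), ← Nat.cast_smul_eq_nsmul ℂ]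
  rw [show ((qq : ℂ) ^ 2)⁻¹ * ((qq : ℂ) * (qq : ℂ)) = 1 by
    rw [← pow_two, inv_mul_cancel₀ (q_ne (m := m))], one_smul]

theorem trace_P (c : F) : LinearMap.trace ℂ _ (P ρ c) = ((qq : ℂ) ^ 2)⁻¹ * S ρ.character c := by
  rw [P, map_smul, smul_eq_mul, S]
  simp only [map_sum, map_smul, smul_eq_mul]
  rfl

theorem S_eq_finrank (c : F) :
    S ρ.character c = (qq : ℂ) ^ 2 * (Module.finrank ℂ (LinearMap.range (P ρ c)) : ℂ) := by
  have hp : LinearMap.IsProj (LinearMap.range (P ρ c)) (P ρ c) :=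
    ⟨fun x => LinearMap.mem_range_self _ x, fun x hx => by
      obtain ⟨y, rfl⟩ := hx
      exact LinearMap.congr_fun (P_idem ρ c) y⟩
  rw [← hp.trace, trace_P, ← mul_assoc, mul_inv_cancel₀ (q_ne (m := m)), one_mul]

theorem exists_nat_S {χ : G → ℂ} (hχ : Cfsg.IsCharacter G χ) (c : F) :
    ∃ k : ℕ, S χ c = (qq : ℂ) ^ 2 * k := by
  obtain ⟨n, ρ, rfl⟩ := hχ
  exact ⟨_, S_eq_finrank ρ c⟩

/-- The compression of a group element. -/
noncomputable def A (g : G) : Module.End ℂ (Fin n → ℂ) := P ρ 1 * ρ g * P ρ 1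

theorem A_Ts_mul (a b : F) (g : G) : A ρ (Ts a b * g) = psi m a • A ρ g := by
  rw [A, A, map_mul, ← mul_assoc, P_mul_T, one_mul, smul_mul_assoc, smul_mul_assoc]

theorem A_mul_Ts (g : G) (a b : F) : A ρ (g * Ts a b) = psi m a • A ρ g := by
  rw [A, A, map_mul, mul_assoc, mul_assoc, T_mul_P, one_mul, mul_smul_comm, mul_smul_comm, ← mul_assoc]

theorem A_Hs {l : Fˣ} (hl : l ≠ 1) : A ρ (Hs l) = 0 := by
  have := charTwo (F := F) (m := m)
  have hl1 : (l : F) + 1 ≠ 0 := fun h => hl (Units.ext (CharTwo.add_eq_zero.mp h))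
  obtain ⟨a, ha⟩ := exists_psi_eq_neg_one (m := m) hl1
  rw [add_mul, one_mul, psi_add] at ha
  have e : (Hs l : G) * Ts a 0 = Ts ((l : F) * a) 0 * Hs l := by
    rw [← mul_inv_eq_iff_eq_mul, Hs_Ts, mul_zero]
  have e2 := congrArg (A ρ) e
  rw [A_Ts_mul, A_mul_Ts] at e2
  by_contra hX
  have h := smul_left_injective ℂ hX e2
  rw [← h, psi_mul_self] at ha
  norm_num at ha

theorem A_inv (g : G) : A ρ g⁻¹ = A ρ g := by
  rcases bruhat g with h | ⟨a, b, h, hh, rfl⟩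
  · obtain ⟨a, b, l, rfl⟩ := fix_inf_iff.mp h
    rw [A_Ts_mul, mul_inv_rev, Ts_inv, A_mul_Ts]
    congr 1
    by_cases hl : l = 1
    · rw [hl, Hs_one, inv_one]
    · rw [show (Hs l : G)⁻¹ = Hs l⁻¹ from
        inv_eq_of_mul_eq_one_right (by rw [Hs_mul, mul_inv_cancel, Hs_one]),
        A_Hs ρ hl, A_Hs ρ (inv_ne_one.mpr hl)]
  · obtain ⟨c, d, l, rfl⟩ := fix_inf_iff.mp hh
    have hli : (Hs l : G)⁻¹ = Hs l⁻¹ :=
      inv_eq_of_mul_eq_one_right (by rw [Hs_mul, mul_inv_cancel, Hs_one])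
    obtain ⟨c', d', e⟩ : ∃ c' d', (Ts c d : G) * Hs l = Hs l * Ts c' d' := by
      obtain ⟨c', d', he⟩ := conj_mem_unipotent (g := (Hs l : G)⁻¹) (by rw [hli, Hs_smul_inf])
        (Ts_mem (m := m) c d)
      refine ⟨c', d', ?_⟩
      rw [← he]; group
    have hWH : ((Ws : G) * Hs l)⁻¹ = Ws * Hs l := by
      rw [mul_inv_rev, Ws_inv, hli, ← Ws_Hs, Ws_inv, mul_assoc, Ws_mul_Ws, mul_one]
    rw [e, show (Ts a b : G) * Ws * (Hs l * Ts c' d') = Ts a b * ((Ws * Hs l) * Ts c' d') by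
      simp only [mul_assoc], A_Ts_mul, A_mul_Ts, mul_inv_rev, mul_inv_rev, hWH, Ts_inv, Ts_inv,
      mul_assoc, A_Ts_mul, A_mul_Ts, smul_comm]

theorem A_comm (g h : G) : A ρ g * A ρ h = A ρ h * A ρ g := by
  have := charTwo (F := F) (m := m)
  have e : ∀ g h : G, A ρ g * A ρ h =
      ((qq : ℂ) ^ 2)⁻¹ • ∑ a : F, ∑ b : F, psi m a • A ρ (g * Ts a b * h) := by
    intro g h
    have e1 : A ρ g * A ρ h = P ρ 1 * ρ g * P ρ 1 * ρ h * P ρ 1 := by
      rw [A, A]
      calc P ρ 1 * ρ g * P ρ 1 * (P ρ 1 * ρ h * P ρ 1)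
          = P ρ 1 * ρ g * (P ρ 1 * P ρ 1) * ρ h * P ρ 1 := by simp only [mul_assoc]
        _ = _ := by rw [P_idem]
    rw [e1]
    conv_lhs => arg 1; arg 1; arg 2; rw [P]
    simp only [mul_smul_comm, smul_mul_assoc, Finset.mul_sum, Finset.sum_mul, A, map_mul, one_mul,
      mul_assoc]
  have e2 : A ρ g * A ρ h = A ρ h⁻¹ * A ρ g⁻¹ := by
    rw [e, e]
    congr 1
    refine Finset.sum_congr rfl fun a _ => ?_
    refine Fintype.sum_equiv (Equiv.addRight (sg m a * a)) _ _ fun b => ?_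
    rw [Equiv.coe_addRight, ← A_inv ρ (g * Ts a b * h), mul_inv_rev, mul_inv_rev, Ts_inv, mul_assoc]
  rw [e2, A_inv, A_inv]

/-- Multiplicity one. -/
theorem finrank_le_one [ρ.IsIrreducible] :
    Module.finrank ℂ (LinearMap.range (P ρ 1)) ≤ 1 := by
  classical
  set W := LinearMap.range (P ρ 1) with hW
  rcases Nat.eq_zero_or_pos (Module.finrank ℂ W) with h0 | h0
  · omega
  have : Nontrivial W := Module.finrank_pos_iff.mp h0
  have hAW : ∀ g v, A ρ g v ∈ W := fun g v => by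
    rw [A, mul_assoc, Module.End.mul_apply]; exact LinearMap.mem_range_self _ _
  have hfix : ∀ v ∈ W, P ρ 1 v = v := by
    rintro v ⟨x, rfl⟩; exact LinearMap.congr_fun (P_idem ρ 1) x
  -- cyclic for every nonzero vector
  have hgen : ∀ v ∈ W, v ≠ 0 → ∀ x ∈ W, x ∈ Submodule.span ℂ (Set.range fun g : G => A ρ g v) := by
    intro v hv hv0 x hx
    let M : Subrepresentation ρ := ⟨Submodule.span ℂ (Set.range fun g : G => ρ g v), fun g y hy => by
      have := Submodule.mem_map_of_mem (f := ρ g) hy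
      rw [Submodule.map_span, ← Set.range_comp] at this
      refine Submodule.span_mono ?_ this
      rintro _ ⟨h, rfl⟩
      exact ⟨g * h, by simp⟩⟩
    rcases eq_bot_or_eq_top M with h | h
    · exfalso
      have : v ∈ M.toSubmodule := Submodule.subset_span ⟨1, by simp⟩
      rw [h] at this
      exact hv0 ((Submodule.mem_bot ℂ).mp this)
    · have hx' : x ∈ Submodule.span ℂ (Set.range fun g : G => ρ g v) := by
        show x ∈ M.toSubmodule
        rw [h]; exact Submodule.mem_top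
      have := Submodule.mem_map_of_mem (f := P ρ 1) hx'
      rw [Submodule.map_span, ← Set.range_comp, hfix x hx] at this
      refine Submodule.span_mono ?_ this
      rintro _ ⟨g, rfl⟩
      exact ⟨g, by simp [A, hfix v hv]⟩
  have hscal : ∀ g, ∃ μ : ℂ, ∀ x ∈ W, A ρ g x = μ • x := by
    intro g
    obtain ⟨μ, hμ⟩ := Module.End.exists_eigenvalue ((A ρ g).restrict (p := W) (q := W) fun v _ => hAW g v)
    obtain ⟨w, hw⟩ := hμ.exists_hasEigenvector
    refine ⟨μ, fun x hx => ?_⟩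
    have hw' : A ρ g (w : Fin n → ℂ) = μ • (w : Fin n → ℂ) := congrArg Subtype.val hw.apply_eq_smul
    refine Submodule.span_induction ?_ ?_ ?_ ?_ (hgen w w.2 (fun e => hw.2 (Subtype.ext e)) x hx)
    · rintro _ ⟨h, rfl⟩
      show A ρ g (A ρ h (w : Fin n → ℂ)) = μ • A ρ h (w : Fin n → ℂ)
      rw [← Module.End.mul_apply, A_comm, Module.End.mul_apply, hw', map_smul]
    · simp
    · intro a b _ _ ha hb; rw [map_add, ha, hb, smul_add]
    · intro c a _ ha; rw [map_smul, ha, smul_comm]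
  obtain ⟨v, hv⟩ := exists_ne (0 : W)
  refine (Submodule.finrank_mono (t := Submodule.span ℂ {(v : Fin n → ℂ)}) fun x hx => ?_).trans
    ((finrank_span_le_card _).trans (by simp))
  refine Submodule.span_le.mpr ?_ (hgen v v.2 (fun e => hv (Subtype.ext e)) x hx)
  rintro _ ⟨g, rfl⟩
  obtain ⟨μ, hμ⟩ := hscal g
  exact Submodule.mem_span_singleton.mpr ⟨μ, (hμ v v.2).symm⟩

omit ρ in
theorem S_one_le {χ : G → ℂ} (hχ : Cfsg.IsIrrCharacter G χ) {k : ℕ}
    (hk : S χ 1 = (qq : ℂ) ^ 2 * k) : k ≤ 1 := by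
  obtain ⟨n, ρ, hρ, rfl⟩ := hχ
  rw [S_eq_finrank] at hk
  have := Nat.cast_injective (R := ℂ) (mul_left_cancel₀ (q_ne (m := m)) hk)
  rw [← this]
  exact finrank_le_one ρ

theorem params {χ : G → ℂ} (hχ : Cfsg.IsCharacter G χ) :
    ∃ p a s : ℕ, χ 1 = (p : ℂ) + ((qq : ℂ) - 1) * ((a : ℂ) + (2 : ℂ) ^ m * s) ∧
      χ (Ts 0 1) = (p : ℂ) + ((qq : ℂ) - 1) * a - (2 : ℂ) ^ m * s ∧
      S χ 0 = (qq : ℂ) ^ 2 * p ∧ S χ 1 = (qq : ℂ) ^ 2 * a := by
  obtain ⟨D, N, hd, hz⟩ := exists_split hχ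
  obtain ⟨p, hp⟩ := exists_nat_S hχ 0
  obtain ⟨a, ha⟩ := exists_nat_S hχ 1
  have hq := q_ne (m := m)
  have hD : (D : ℂ) = (p : ℂ) + ((qq : ℂ) - 1) * a := by
    have e := sum_S (isClassFunction_of_isCharacter hχ)
    rw [hp, ha, hz] at e
    exact mul_left_cancel₀ hq (by linear_combination -e)
  have h8 := SuzukiGroupTori.q_ge (F := F) (m := m)
  have hq1 : ((qq - 1 : ℕ) : ℂ) = (qq : ℂ) - 1 := by
    rw [Nat.cast_sub Nat.one_le_two_pow, Nat.cast_one]
  have hq10 : ((qq - 1 : ℕ) : ℂ) ≠ 0 := Nat.cast_ne_zero.mpr (by omega)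
  have hint : IsIntegral ℤ (((2 ^ m * N : ℕ) : ℂ) / ((qq - 1 : ℕ) : ℂ)) := by
    have e : ((2 ^ m * N : ℕ) : ℂ) / ((qq - 1 : ℕ) : ℂ) = (D : ℂ) - χ (Ts 0 1) := by
      rw [div_eq_iff hq10, hq1]
      linear_combination hz - hd
    rw [e]
    exact (map_natCast (algebraMap ℤ ℂ) D ▸ isIntegral_algebraMap).sub (isCharacter_integral hχ _)
  have hdvd : (qq - 1) ∣ 2 ^ m * N := CharBasicInt.dvd_of_isIntegral_div (by omega) hint
  have hcop : Nat.Coprime (qq - 1) (2 ^ m) := by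
    refine Nat.Coprime.pow_right m (Nat.Coprime.symm ((Nat.prime_two.coprime_iff_not_dvd).mpr ?_))
    have : 2 ∣ qq := dvd_pow_self 2 (by omega)
    omega
  obtain ⟨s, hs⟩ := hcop.dvd_of_dvd_mul_left hdvd
  refine ⟨p, a, s, ?_, ?_, hp, ha⟩
  · rw [hd, hD, hs]
    push_cast [Nat.cast_sub Nat.one_le_two_pow]
    ring
  · have e : ((qq : ℂ) - 1) * χ (Ts 0 1) = ((qq : ℂ) - 1) * ((D : ℂ) - (2 : ℂ) ^ m * s) := by
      rw [hs] at hd
      push_cast [Nat.cast_sub Nat.one_le_two_pow] at hd ⊢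
      push_cast at hz
      linear_combination hz - hd
    rw [mul_left_cancel₀ (by rw [← hq1]; exact hq10) e, hD]

end Cfsg.Agent.SuzukiGroupMultOne
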