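import Cfsg.Agent.Lib.SuzukiGroupPartition
import Cfsg.Agent.Lib.SuzukiGroupLie

/-!
Nilpotent subgroups of the Suzuki group and the minimal covers.
-/

set_option autoImplicit false

namespace Cfsg.Agent.SuzukiGroupNilpotent

open scoped Matrix Pointwise LinearAlgebra.Projectivization
open MulAction Cfsg.Agent.SuzukiGroupBasic Cfsg.Agent.SuzukiGroupStructure
open Cfsg.Agent.SuzukiGroupCentralizer Cfsg.Agent.SuzukiGroupTori Cfsg.Agent.SuzukiGroupPartition

variable {F : Type*} [Field F] {m : ℕ} [hP : Param F m]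

set_option quotPrecheck false
local notation "G" => ↥(Cfsg.Sz F m)
local notation "qq" => (2 ^ (2 * m + 1) : ℕ)
local notation "rr" => (2 ^ (m + 1) : ℕ)
local notation "∞" => Cfsg.suzukiPointInfinity F

variable (F m) in
/-- The parts of the partition. -/
def IsPart (U : Subgroup ↥(Cfsg.Sz F m)) : Prop :=
  (∃ P : Sylow 2 ↥(Cfsg.Sz F m), U = (P : Subgroup ↥(Cfsg.Sz F m))) ∨
    (IsCyclic U ∧ Nat.card U ∈ ({qq - 1, qq + rr + 1, qq - rr + 1} : Set ℕ))

theorem mem_part_of_commute {g h : G} (hg : g ≠ 1) {U : Subgroup G} (hU : IsPart F m U)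
    (hgU : g ∈ U) (hc : Commute h g) : h ∈ U := by
  rcases hU with ⟨P, rfl⟩ | ⟨hcyc, hcard⟩
  · obtain ⟨c, a, b, hab⟩ := exists_conj_Ts_of_even hg (orderOf_mem_sylow hgU)
    have hne : (Ts a b : G) ≠ 1 := hab ▸ fun e => hg (conj_eq_one_iff.mp e)
    have hc' := commute_Ts_mem hne (hab ▸ Commute.conj hc c)
    have hQ : ∀ x : G, c * x * c⁻¹ ∈ (unipotent : Subgroup G) →
        x ∈ ((c⁻¹ • sylowU : Sylow 2 G) : Subgroup G) := fun x hx => by
      rw [Sylow.coe_subgroup_smul, coe_sylowU, Subgroup.mem_pointwise_smul_iff_inv_smul_mem]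
      rw [map_inv, inv_inv]
      exact hx
    rw [sylow_unique hg hgU (hQ g (hab ▸ Ts_mem a b))]
    exact hQ h hc'
  · rw [(eq_centralizer_of_card hcyc hcard hgU hg).1]
    exact Subgroup.mem_centralizer_singleton_iff.mpr hc

theorem le_part_of_nilpotent {A : Subgroup G} [Group.IsNilpotent A] {g : G} (hg : g ≠ 1)
    (hgA : g ∈ A) {U : Subgroup G} (hU : IsPart F m U) (hgU : g ∈ U) : A ≤ U := by
  have : Nontrivial A := ⟨⟨g, hgA⟩, 1, fun e => hg (congrArg Subtype.val e)⟩
  obtain ⟨z, hz, hz1⟩ := (Subgroup.bot_or_exists_ne_one (Subgroup.center A)).resolve_left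
    (Group.IsNilpotent.center_ne_bot A)
  have hcomm : ∀ x ∈ A, Commute x (z : G) := fun x hx =>
    congrArg Subtype.val (Subgroup.mem_center_iff.mp hz ⟨x, hx⟩)
  have hzU : (z : G) ∈ U := mem_part_of_commute hg hU hgU (hcomm g hgA).symm
  exact fun x hx => mem_part_of_commute (fun e => hz1 (Subtype.ext e)) hU hzU (hcomm x hx)

variable (F m) in
/-- A cover by proper subgroups. -/
def IsCover (𝓐 : Finset (Subgroup ↥(Cfsg.Sz F m))) : Prop :=
  (∀ A ∈ 𝓐, A ≠ ⊤) ∧ ∀ g : ↥(Cfsg.Sz F m), ∃ A ∈ 𝓐, g ∈ A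

theorem two_mul_natCard_ne : Nat.card G ≠ qq - 1 ∧ ∀ A : Subgroup G, IsTorus A → A ≠ ⊤ := by
  have := finiteF (F := F) (m := m)
  have h8 := q_ge (F := F) (m := m)
  have hG : qq ^ 2 + 1 < Nat.card G := by
    rw [natCard_Sz]
    have h1 : qq ^ 2 + 1 < 2 * (qq ^ 2 + 1) := by omega
    refine h1.trans_le ?_
    have h2 : 2 ≤ qq ^ 2 * (qq - 1) := by
      calc 2 ≤ 1 * 2 := le_rfl
        _ ≤ qq ^ 2 * (qq - 1) := Nat.mul_le_mul (Nat.one_le_pow _ _ (by omega)) (by omega)
    calc 2 * (qq ^ 2 + 1) ≤ (qq ^ 2 * (qq - 1)) * (qq ^ 2 + 1) := Nat.mul_le_mul_right _ h2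
      _ = qq ^ 2 * (qq ^ 2 + 1) * (qq - 1) := by ring
  constructor
  · have : qq ≤ qq ^ 2 := Nat.le_self_pow two_ne_zero _
    omega
  · intro A hA e
    have := Nat.le_of_dvd (by positivity) hA.card_dvd
    rw [e, Subgroup.card_top] at this
    omega

theorem card_cover_nilpotent (𝓐 : Finset (Subgroup G)) (h𝓐 : IsCover F m 𝓐)
    (hnil : ∀ A ∈ 𝓐, Group.IsNilpotent A) : ∃ 𝓑 : Finset (Subgroup G), IsCover F m 𝓑 ∧ 𝓑.card < 𝓐.card := by
  classical
  have := finiteF (F := F) (m := m)
  let : Fintype G := Fintype.ofFinite _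
  let : Fintype (Subgroup G) := Fintype.ofFinite _
  have : Fact (Nat.Prime 2) := ⟨Nat.prime_two⟩
  let : Fintype (Sylow 2 G) := Fintype.ofFinite _
  have hfin : (suzukiOvoid F m).Finite := Set.toFinite _
  let Bor : Finset (Subgroup G) := hfin.toFinset.image fun p => stabilizer G p
  let Tor : Finset (Subgroup G) := Finset.univ.filter IsTorus
  let H₀ : Subgroup G := (torusHom : Fˣ →* G).range
  have h8 := q_ge (F := F) (m := m)
  refine ⟨Bor ∪ Tor, ⟨?_, ?_⟩, ?_⟩
  · intro A hA
    rcases Finset.mem_union.mp hA with h | h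
    · obtain ⟨p, hp, rfl⟩ := Finset.mem_image.mp h
      rw [Set.Finite.mem_toFinset] at hp
      intro htop
      obtain ⟨c, hc⟩ := exists_to_inf (m := m) hp
      have h2 : (c * Ws * c⁻¹) ∈ stabilizer G p := by rw [htop]; exact Subgroup.mem_top _
      rw [mem_stabilizer_iff, ← hc, conj_smul_eq] at h2
      have h3 := MulAction.injective c h2
      rw [Ws_smul_inf] at h3
      exact inf_ne_zero h3.symm
    · simp only [Tor, Finset.mem_filter, Finset.mem_univ, true_and] at h
      exact two_mul_natCard_ne.2 A h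
  · intro g
    by_cases hf : FixFree g
    · exact ⟨Subgroup.centralizer {g}, Finset.mem_union_right _ (by
        simp only [Tor, Finset.mem_filter, Finset.mem_univ, true_and]; exact ⟨g, hf, rfl⟩),
        Subgroup.mem_centralizer_singleton_iff.mpr rfl⟩
    · simp only [FixFree, not_forall, ne_eq, not_not] at hf
      obtain ⟨p, hp, hpg⟩ := hf
      exact ⟨stabilizer G p, Finset.mem_union_left _ (Finset.mem_image.mpr
        ⟨p, (Set.Finite.mem_toFinset _).mpr hp, rfl⟩), hpg⟩
  · -- every part contains a member of the nilpotent cover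
    let Syl : Finset (Subgroup G) := Finset.univ.image fun P : Sylow 2 G => (P : Subgroup G)
    have hSyl : Syl.card = qq ^ 2 + 1 := by
      rw [Finset.card_image_of_injective _ (fun P Q h => Sylow.ext h), Finset.card_univ,
        ← Nat.card_eq_fintype_card, Sylow.card_eq_index_normalizer (sylowU : Sylow 2 G),
        ← index_borel (F := F) (m := m), ← normalizer_unipotent (F := F) (m := m)]
      rfl
    have hBor : Bor.card ≤ qq ^ 2 + 1 := by
      refine Finset.card_image_le.trans ?_
      rw [← Set.ncard_eq_toFinset_card _ hfin, ncard_ovoid, natCard (F := F) (m := m)]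
    have hH₀ : IsCyclic H₀ ∧ Nat.card H₀ = qq - 1 := ⟨isCyclic_torus, natCard_torus⟩
    let Parts : Finset (Subgroup G) := insert H₀ (Syl ∪ Tor)
    have hparts : ∀ U ∈ Parts, IsPart F m U := by
      intro U hU
      rcases Finset.mem_insert.mp hU with rfl | hU
      · exact Or.inr ⟨hH₀.1, by rw [hH₀.2]; simp⟩
      rcases Finset.mem_union.mp hU with hU | hU
      · obtain ⟨P, -, rfl⟩ := Finset.mem_image.mp hU
        exact Or.inl ⟨P, rfl⟩
      · simp only [Tor, Finset.mem_filter, Finset.mem_univ, true_and] at hU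
        obtain ⟨g, hg, rfl⟩ := hU
        refine Or.inr (cyclic_centralizer hg.ne_one fun h4 => ?_)
        obtain ⟨i, hi⟩ := exists_pow_of_dvd_four h4
        rcases i with - | i
        · exact hg.ne_one (orderOf_eq_one_iff.mp hi)
        · have h1 : 2 ∣ qq ^ 2 + 1 := (hi ▸ dvd_pow_self 2 (by omega) : 2 ∣ orderOf g).trans hg.orderOf_dvd
          have h2 : 2 ∣ qq ^ 2 := dvd_pow (dvd_pow_self 2 (by omega)) two_ne_zero
          omega
    have hne : ∀ U ∈ Parts, ∃ g ∈ U, g ≠ 1 := by
      intro U hU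
      refine (Subgroup.bot_or_exists_ne_one U).resolve_left fun e => ?_
      obtain ⟨hr2, hrlt, -, -⟩ := r_facts (F := F) (m := m)
      rcases hparts U hU with ⟨P, rfl⟩ | ⟨-, hc⟩
      · obtain ⟨c, hc⟩ := exists_conj_sylow P
        have : Nat.card ((unipotent : Subgroup G).map (MulAut.conj c).toMonoidHom) =
            Nat.card (unipotent : Subgroup G) :=
          Subgroup.card_map_of_injective (MulAut.conj c).injective
        rw [← hc, e, Subgroup.card_bot, natCard_unipotent] at this
        have : qq ≤ qq ^ 2 := Nat.le_self_pow two_ne_zero _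
        omega
      · rw [e, Subgroup.card_bot] at hc
        have hr : 1 ≤ rr := Nat.one_le_two_pow
        rcases hc with h | h | h <;> first | omega | (rw [Set.mem_singleton_iff] at h; omega)
    choose! w hwU hw1 using hne
    have hmem : ∀ U ∈ Parts, ∃ A ∈ 𝓐, A ≤ U ∧ A ≠ ⊥ := by
      intro U hU
      obtain ⟨A, hA, hgA⟩ := h𝓐.2 (w U)
      have := hnil A hA
      exact ⟨A, hA, le_part_of_nilpotent (hw1 U hU) hgA (hparts U hU) (hwU U hU),
        fun e => hw1 U hU (by simpa [e] using hgA)⟩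
    choose! φ hφA hφle hφne using hmem
    have hinj : Set.InjOn φ Parts := by
      intro U hU V hV h
      obtain ⟨g, hg, hg1⟩ := (Subgroup.bot_or_exists_ne_one _).resolve_left (hφne U hU)
      exact ExistsUnique.unique (existsUnique_part hg1) ⟨hparts U hU, hφle U hU hg⟩
        ⟨hparts V hV, hφle V hV (h ▸ hg)⟩
    have hcard : Parts.card = qq ^ 2 + 1 + Tor.card + 1 := by
      have hd : Disjoint Syl Tor := by
        rw [Finset.disjoint_left]
        intro U hU hU'
        obtain ⟨P, -, rfl⟩ := Finset.mem_image.mp hU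
        simp only [Tor, Finset.mem_filter, Finset.mem_univ, true_and] at hU'
        obtain ⟨g, hg, hP⟩ := hU'
        have hgP : g ∈ (P : Subgroup G) := hP ▸ Subgroup.mem_centralizer_singleton_iff.mpr rfl
        obtain ⟨i, hi⟩ := exists_pow_of_dvd_four (orderOf_mem_sylow hgP)
        rcases i with - | i
        · exact hg.ne_one (orderOf_eq_one_iff.mp hi)
        · have h1 : 2 ∣ qq ^ 2 + 1 := (hi ▸ dvd_pow_self 2 (by omega) : 2 ∣ orderOf g).trans hg.orderOf_dvd
          have h2 : 2 ∣ qq ^ 2 := dvd_pow (dvd_pow_self 2 (by omega)) two_ne_zero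
          omega
      have hnot : H₀ ∉ Syl ∪ Tor := by
        intro h
        rcases Finset.mem_union.mp h with h | h
        · obtain ⟨P, -, hP⟩ := Finset.mem_image.mp h
          have h1 := hH₀.2
          obtain ⟨c, hc⟩ := exists_conj_sylow P
          rw [← hP, hc, Subgroup.card_map_of_injective (MulAut.conj c).injective,
            natCard_unipotent] at h1
          have : qq ≤ qq ^ 2 := Nat.le_self_pow two_ne_zero _
          omega
        · simp only [Tor, Finset.mem_filter, Finset.mem_univ, true_and] at h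
          have h1 := hH₀.2
          obtain ⟨p, hp, hpd⟩ := Nat.exists_prime_and_dvd (show Nat.card H₀ ≠ 1 by omega)
          exact (coprime_sub_one hp (hpd.trans h.card_dvd)).2.2 (h1 ▸ hpd)
      rw [Finset.card_insert_of_notMem hnot, Finset.card_union_of_disjoint hd, hSyl]
    have := Finset.card_le_card_of_injOn φ (fun U hU => hφA U hU) hinj
    have := Finset.card_union_le Bor Tor
    omega

end Cfsg.Agent.SuzukiGroupNilpotent
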