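import Cfsg.Agent.Lib.SuzukiGroupMultOne

/-!
The principal series characters of the Suzuki group.
-/

set_option autoImplicit false

namespace Cfsg.Agent.SuzukiGroupPrincipal

open scoped ComplexConjugate Matrix LinearAlgebra.Projectivization
open MulAction Cfsg.Agent.SuzukiGroupBasic Cfsg.Agent.SuzukiGroupStructure
open Cfsg.Agent.SuzukiGroupCentralizer Cfsg.Agent.SuzukiGroupTrace Cfsg.Agent.CharBasic

variable {F : Type*} [Field F] {m : ℕ} [hP : Param F m]

set_option quotPrecheck false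
local notation "G" => ↥(Cfsg.Sz F m)
local notation "BB" => (SuzukiGroupStructure.borel : Subgroup ↥(Cfsg.Sz F m))
local notation "qq" => (2 ^ (2 * m + 1) : ℕ)
local notation "∞" => Cfsg.suzukiPointInfinity F
local notation "o" => Cfsg.suzukiPointZero F

theorem exists_coords (b : ↥BB) : ∃ k : Fˣ, ∃ x y : F, (b : G) = Ts x y * Hs k := by
  obtain ⟨x, y, k, h⟩ := fix_inf_iff.mp (mem_stabilizer_iff.mp b.2)
  exact ⟨k, x, y, h⟩

/-- The torus component of an element of the Borel subgroup. -/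
noncomputable def kOf (b : ↥BB) : Fˣ := (exists_coords b).choose

theorem kOf_eq {b : ↥BB} {x y : F} {k : Fˣ} (h : (b : G) = Ts x y * Hs k) : kOf b = k := by
  obtain ⟨x', y', h'⟩ := (exists_coords b).choose_spec
  exact (Ts_Hs_injective (h'.symm.trans h)).2.2

/-- The projection of the Borel subgroup onto the torus. -/
noncomputable def kHom : ↥BB →* Fˣ := MonoidHom.mk' kOf fun b c => by
  obtain ⟨k, x, y, hb⟩ := exists_coords b
  obtain ⟨l, x', y', hc⟩ := exists_coords c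
  rw [kOf_eq hb, kOf_eq hc]
  obtain ⟨x'', y'', h''⟩ := conj_mem_unipotent (g := (Hs k : G)) (Hs_smul_inf k) (Ts_mem (m := m) x' y')
  refine kOf_eq (x := x + x'') (y := y + y'' + sg m x * x'') ?_
  rw [Subgroup.coe_mul, hb, hc, ← Hs_mul, ← Ts_mul, ← h'']
  group

theorem Ts_mem_borel (a b : F) : (Ts a b : G) ∈ BB := mem_stabilizer_iff.mpr (Ts_smul_inf a b)
theorem Hs_mem_borel (k : Fˣ) : (Hs k : G) ∈ BB := mem_stabilizer_iff.mpr (Hs_smul_inf k)

theorem kHom_Hs (k : Fˣ) : kHom (⟨Hs k, Hs_mem_borel k⟩ : ↥BB) = k :=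
  kOf_eq (x := 0) (y := 0) (by rw [Ts_zero, one_mul])

theorem kHom_Ts (a b : F) : kHom (⟨Ts a b, Ts_mem_borel a b⟩ : ↥BB) = 1 :=
  kOf_eq (x := a) (y := b) (by rw [Hs_one, mul_one])

/-- The character of the Borel subgroup attached to a character of the torus. -/
noncomputable def th (L : Fˣ →* ℂˣ) (b : ↥BB) : ℂ := (L (kHom b) : ℂ)

theorem th_conj (L : Fˣ →* ℂˣ) {x g : G} (hx : x ∈ BB) (hg : g ∈ BB) :
    extendByZero BB (th L) (x⁻¹ * g * x) = (L (kHom ⟨g, hg⟩) : ℂ) := by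
  have h : x⁻¹ * g * x = (((⟨x, hx⟩ : ↥BB)⁻¹ * ⟨g, hg⟩ * ⟨x, hx⟩ : ↥BB) : G) := rfl
  rw [h, CharInduced.ext_zero_coe]
  simp only [th]
  congr 2
  rw [map_mul, map_mul, map_inv, mul_comm, mul_inv_cancel_left]

variable [Fintype ↥(Cfsg.Sz F m)]

/-- The induced character. -/
noncomputable def PS (L : Fˣ →* ℂˣ) : ↥(Cfsg.Sz F m) → ℂ :=
  Cfsg.indFun BB (th L)

theorem PS_one (L : Fˣ →* ℂˣ) : PS L (1 : G) = (qq : ℂ) ^ 2 + 1 := by
  rw [PS, CharInduced.ind_one_apply, show (BB).index = _ from index_borel]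
  simp [th]

theorem PS_Ts (L : Fˣ →* ℂˣ) {a b : F} (h : (Ts a b : G) ≠ 1) : PS L (Ts a b : G) = 1 := by
  classical
  rw [PS, CharInduced.indFun_apply, ← Finset.sum_filter_add_sum_filter_not Finset.univ (fun x : G => x ∈ BB),
    Finset.sum_congr rfl (g := fun _ => (1 : ℂ)) (fun x hx => by
      rw [th_conj L (Finset.mem_filter.mp hx).2 (Ts_mem_borel a b), kHom_Ts, map_one, Units.val_one]),
    Finset.sum_eq_zero (s := Finset.univ.filter fun x : G => ¬ x ∈ BB) fun x hx => ?_, add_zero, Finset.sum_const, nsmul_eq_mul, mul_one,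
    ← Fintype.card_subtype, ← Nat.card_eq_fintype_card]
  · exact inv_mul_cancel₀ (Nat.cast_ne_zero.mpr Nat.card_pos.ne')
  · refine CharInduced.ext_zero_of_not_mem (th L) fun hm => (Finset.mem_filter.mp hx).2 ?_
    refine mem_stabilizer_iff.mpr (Ts_fix h (smul_mem_ovoid x inf_mem) ?_)
    have := mem_stabilizer_iff.mp hm
    rwa [mul_smul, mul_smul, inv_smul_eq_iff] at this

theorem PS_Hs (L : Fˣ →* ℂˣ) {k : Fˣ} (hk : k ≠ 1) :
    PS L (Hs k : G) = (L k : ℂ) + (L k⁻¹ : ℂ) := by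
  classical
  have key : ∀ x : G, extendByZero BB (th L) (x⁻¹ * Hs k * x) =
      (if x ∈ BB then (L k : ℂ) else 0) + (if Ws⁻¹ * x ∈ BB then (L k⁻¹ : ℂ) else 0) := by
    intro x
    have hexcl : x ∈ BB → ¬ Ws⁻¹ * x ∈ BB := fun h1 h2 => by
      rw [mem_stabilizer_iff] at h1 h2
      rw [mul_smul, h1, inv_smul_eq_iff, Ws_smul_inf] at h2
      exact inf_ne_zero h2
    by_cases h1 : x ∈ BB
    · rw [if_pos h1, if_neg (hexcl h1), add_zero, th_conj L h1 (Hs_mem_borel k), kHom_Hs]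
    by_cases h2 : Ws⁻¹ * x ∈ BB
    · rw [if_neg h1, if_pos h2, zero_add, show x⁻¹ * (Hs k : G) * x =
        (Ws⁻¹ * x)⁻¹ * (Ws⁻¹ * Hs k * Ws) * (Ws⁻¹ * x) by group,
        show (Ws⁻¹ : G) * Hs k * Ws = Hs k⁻¹ by
          rw [← Ws_Hs k]; simp only [Ws_inv], th_conj L h2 (Hs_mem_borel k⁻¹), kHom_Hs]
    rw [if_neg h1, if_neg h2, add_zero]
    refine CharInduced.ext_zero_of_not_mem (th L) fun hm => ?_
    rw [mem_stabilizer_iff, mul_smul, mul_smul, inv_smul_eq_iff] at hm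
    rcases Hs_fix hk (smul_mem_ovoid x inf_mem) hm with h | h
    · exact h1 (mem_stabilizer_iff.mpr h)
    · exact h2 (mem_stabilizer_iff.mpr (by rw [mul_smul, inv_smul_eq_iff, h, Ws_smul_inf]))
  have hB : ∀ w : G, ((Finset.univ.filter fun x : G => w * x ∈ BB).card : ℂ) = (Nat.card ↥BB : ℂ) := by
    intro w
    rw [← Fintype.card_subtype, ← Nat.card_eq_fintype_card]
    exact congrArg Nat.cast (Nat.card_congr ((Equiv.mulLeft w).subtypeEquiv fun x => Iff.rfl))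
  rw [PS, CharInduced.indFun_apply, Finset.sum_congr rfl fun x _ => key x, Finset.sum_add_distrib,
    ← Finset.sum_filter, ← Finset.sum_filter, Finset.sum_const, Finset.sum_const, nsmul_eq_mul,
    nsmul_eq_mul, hB, show ((Finset.univ.filter fun x : G => x ∈ BB).card : ℂ) = (Nat.card ↥BB : ℂ) by
      simpa using hB 1, ← mul_add, inv_mul_cancel_left₀ (Nat.cast_ne_zero.mpr Nat.card_pos.ne')]

theorem isConj_Ts_Hs (a b : F) {k : Fˣ} (hk : k ≠ 1) : IsConj (Hs k : G) (Ts a b * Hs k) := by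
  have := finiteF (F := F) (m := m)
  let f : ↥(unipotent : Subgroup G) → ↥(unipotent : Subgroup G) := fun u =>
    ⟨(u : G) * (Hs k * (u : G)⁻¹ * (Hs k : G)⁻¹),
      mul_mem u.2 (conj_mem_unipotent (Hs_smul_inf k) (inv_mem u.2))⟩
  have hinj : Function.Injective f := by
    intro u v h
    have e : (u : G) * (Hs k * (u : G)⁻¹ * (Hs k : G)⁻¹) = (v : G) * (Hs k * (v : G)⁻¹ * (Hs k : G)⁻¹) :=
      congrArg Subtype.val h
    obtain ⟨w, hw⟩ : ∃ w : ↥(unipotent : Subgroup G), (w : G) = (v : G)⁻¹ * u :=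
      ⟨v⁻¹ * u, rfl⟩
    have e2 : (Hs k : G) * (w : G) * (Hs k : G)⁻¹ = w := by
      rw [hw]
      calc (Hs k : G) * ((v : G)⁻¹ * (u : G)) * (Hs k : G)⁻¹
          = (v : G)⁻¹ * ((v : G) * (Hs k * (v : G)⁻¹ * (Hs k : G)⁻¹)) * (Hs k * (u : G) * (Hs k : G)⁻¹) := by group
        _ = (v : G)⁻¹ * (u : G) := by rw [← e]; group
    obtain ⟨_, x, y, rfl⟩ := w
    rw [Hs_Ts] at e2
    obtain ⟨hx, hy⟩ := Ts_injective e2
    have hk1 : (k : F) ≠ 1 := fun h => hk (Units.ext h)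
    have hx0 : x = 0 := (mul_left_eq_self₀.mp hx).resolve_left hk1
    have hy0 : y = 0 := (mul_left_eq_self₀.mp hy).resolve_left fun h => hk1
      (SuzukiGroupUChar.mul_sg_injective (m := m) (h.trans (by rw [sg_one, one_mul])))
    refine Subtype.ext ?_
    change (Ts x y : G) = (v : G)⁻¹ * u at hw
    rw [hx0, hy0, Ts_zero] at hw
    exact (inv_mul_eq_one.mp hw.symm).symm
  obtain ⟨u, hu⟩ := (Finite.injective_iff_surjective.mp hinj) ⟨Ts a b, Ts_mem a b⟩
  refine isConj_iff.mpr ⟨u, ?_⟩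
  rw [← show (u : G) * (Hs k * (u : G)⁻¹ * (Hs k : G)⁻¹) = Ts a b from congrArg Subtype.val hu]
  group

variable [Fintype F] [DecidableEq F]

theorem sum_borel [Fintype ↥BB] (f : ↥BB → ℂ) : ∑ b, f b = ∑ x : F, ∑ y : F, ∑ k : Fˣ,
    f ⟨Ts x y * Hs k, mul_mem (Ts_mem_borel x y) (Hs_mem_borel k)⟩ := by
  have hbij : Function.Bijective fun p : (F × F) × Fˣ =>
      (⟨Ts p.1.1 p.1.2 * Hs p.2, mul_mem (Ts_mem_borel _ _) (Hs_mem_borel _)⟩ : ↥BB) := by
    constructor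
    · rintro ⟨⟨a, b⟩, k⟩ ⟨⟨c, d⟩, l⟩ h
      obtain ⟨rfl, rfl, rfl⟩ := Ts_Hs_injective (congrArg Subtype.val h)
      rfl
    · rintro ⟨g, hg⟩
      obtain ⟨a, b, k, rfl⟩ := fix_inf_iff.mp (mem_stabilizer_iff.mp hg)
      exact ⟨((a, b), k), rfl⟩
  rw [← Fintype.sum_prod_type', ← Fintype.sum_prod_type' (f := fun (p : F × F) (k : Fˣ) =>
    f ⟨Ts p.1 p.2 * Hs k, mul_mem (Ts_mem_borel _ _) (Hs_mem_borel _)⟩)]
  exact (Function.Bijective.sum_comp hbij f).symm

theorem norm_PS (L : Fˣ →* ℂˣ) (hL : L * L ≠ 1) : Cfsg.classInner (PS L : G → ℂ) (PS L) = 1 := by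
  classical
  have : Fintype ↥BB := Fintype.ofFinite _
  rw [show Cfsg.classInner (PS L : G → ℂ) (PS L) =
      Cfsg.classInner (th L) (fun b : ↥BB => PS L (b : G)) from
    CharInduced.inner_ind_left (H := BB) (th L) (CharInduced.isClassFunction_ind BB (th L)),
    Cfsg.classInner, sum_borel]
  simp only [th]
  have hk : ∀ (x y : F) (k : Fˣ),
      kHom (⟨Ts x y * Hs k, mul_mem (Ts_mem_borel x y) (Hs_mem_borel k)⟩ : ↥BB) = k :=
    fun x y k => kOf_eq rfl
  simp only [hk]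
  have hval : ∀ (x y : F) (k : Fˣ), k ≠ 1 →
      (L k : ℂ) * conj (PS L (Ts x y * Hs k : G)) = 1 + (((L * L) k : ℂˣ) : ℂ) := by
    intro x y k hk1
    rw [show PS L (Ts x y * Hs k : G) = PS L (Hs k : G) from
      (apply_eq_of_isConj (CharInduced.isClassFunction_ind BB (th L)) (isConj_Ts_Hs x y hk1)).symm,
      PS_Hs L hk1, map_add, ← CharBasic.isCharacter_inv (CharBasicDecomp.isCharacter_linear L),
      ← CharBasic.isCharacter_inv (CharBasicDecomp.isCharacter_linear L), inv_inv, mul_add, map_inv,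
      Units.mul_inv, MonoidHom.mul_apply, Units.val_mul]
  have hsum : ∀ x y : F, ∑ k : Fˣ, (L k : ℂ) * conj (PS L (Ts x y * Hs k : G)) =
      (if x = 0 ∧ y = 0 then (qq : ℂ) ^ 2 else 0) + 1 + ((qq : ℂ) - 2) + (0 - 1) := by
    intro x y
    rw [← Finset.add_sum_erase _ _ (Finset.mem_univ (1 : Fˣ)),
      Finset.sum_congr rfl fun k hk' => hval x y k (Finset.ne_of_mem_erase hk'), Finset.sum_add_distrib,
      Finset.sum_erase_eq_sub (f := fun k : Fˣ => (((L * L) k : ℂˣ) : ℂ)) (Finset.mem_univ 1),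
      show ∑ k : Fˣ, (((L * L) k : ℂˣ) : ℂ) = 0 from
        sum_hom_units_eq_zero ((Units.coeHom ℂ).comp (L * L)) (fun h => hL (MonoidHom.ext fun k =>
          Units.ext (DFunLike.congr_fun h k))),
      map_one, map_one, Units.val_one, Hs_one, mul_one, one_mul]
    rw [Finset.sum_const, Finset.card_erase_of_mem (Finset.mem_univ _), Finset.card_univ,
      ← Nat.card_eq_fintype_card, Nat.card_units, natCard (F := F) (m := m), nsmul_eq_mul, mul_one]
    have hq : (2 : ℕ) ≤ qq := by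
      have := SuzukiGroupTori.q_ge (F := F) (m := m); omega
    rw [show qq - 1 - 1 = qq - 2 by omega, Nat.cast_sub hq]
    by_cases hxy : x = 0 ∧ y = 0
    · rw [if_pos hxy, hxy.1, hxy.2, Ts_zero, PS_one, map_add, map_pow, map_natCast, map_one]
      push_cast
      ring
    · rw [if_neg hxy, PS_Ts L (fun e => hxy (Ts_eq_one e)), map_one]
      push_cast
      ring
  simp only [hsum]
  rw [Finset.sum_congr rfl fun x _ => Finset.sum_add_distrib]
  simp only [Finset.sum_add_distrib, Finset.sum_const, Finset.card_univ, nsmul_eq_mul,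
    ← Nat.card_eq_fintype_card, natCard (F := F) (m := m)]
  rw [Finset.sum_eq_single (0 : F) (fun x _ hx => Finset.sum_eq_zero fun y _ => if_neg fun h => hx h.1)
    (fun h => absurd (Finset.mem_univ _) h), Finset.sum_eq_single (0 : F)
    (fun y _ hy => if_neg fun h => hy h.2) (fun h => absurd (Finset.mem_univ _) h),
    if_pos ⟨rfl, rfl⟩, natCard_borel]
  push_cast [Nat.cast_sub Nat.one_le_two_pow]
  have h1 : ((2 : ℂ) ^ (2 * m + 1)) ≠ 0 := pow_ne_zero _ two_ne_zero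
  have h2 : (2 : ℂ) ^ (2 * m + 1) - 1 ≠ 0 := by
    intro h
    have : ((qq : ℕ) : ℂ) = ((1 : ℕ) : ℂ) := by push_cast; linear_combination h
    have := Nat.cast_injective this
    have := SuzukiGroupTori.q_ge (F := F) (m := m)
    omega
  field_simp
  ring

theorem isIrr_PS (L : Fˣ →* ℂˣ) (hL : L * L ≠ 1) : Cfsg.IsIrrCharacter G (PS L) := by
  have hchar : Cfsg.IsCharacter G (PS L) :=
    CharInduced.isCharacter_ind BB (θ := th L) (CharBasicDecomp.isCharacter_linear (L.comp kHom))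
  obtain ⟨χ, hχ, h | h⟩ := CharBasicDecomp.eq_or_neg_irr_of_norm_one
    (CharBasicDecomp.isGeneralizedCharacter_of_isCharacter hchar) (norm_PS L hL)
  · rw [h]; exact hχ
  · exfalso
    obtain ⟨n, hn, hn1⟩ := isIrrCharacter_apply_one hχ
    have h1 := congrFun h 1
    rw [PS_one, Pi.neg_apply, hn1] at h1
    have : ((qq ^ 2 + 1 + n : ℕ) : ℂ) = 0 := by
      rw [Nat.cast_add, Nat.cast_add, Nat.cast_pow, Nat.cast_one]; linear_combination h1
    have := Nat.cast_eq_zero.mp this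
    omega

/-- The principal series. -/
theorem exists_principal : ∃ f : Fin (2 ^ (2 * m) - 1) → Cfsg.IrrCharacter G,
    Function.Injective f ∧ ∀ j, (f j : G → ℂ) 1 = (qq : ℂ) ^ 2 + 1 ∧
      ∀ a b : F, (Ts a b : G) ≠ 1 → (f j : G → ℂ) (Ts a b) = 1 := by
  classical
  set N := qq - 1 with hN
  have hh : qq = 2 * 2 ^ (2 * m) := pow_succ' _ _
  have hN0 : N ≠ 0 := by have := SuzukiGroupTori.q_ge (F := F) (m := m); omega
  set z : ℂ := Complex.exp (2 * Real.pi * Complex.I / N)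
  have hz : IsPrimitiveRoot z N := Complex.isPrimitiveRoot_exp N hN0
  obtain ⟨g, hg⟩ := IsCyclic.exists_generator (α := Fˣ)
  have hgo : orderOf g = N := by
    rw [orderOf_eq_card_of_forall_mem_zpowers hg, Nat.card_units, natCard (F := F) (m := m)]
  set ζ : ℂˣ := (hz.isUnit hN0).unit with hζdef
  have hζ : IsPrimitiveRoot ζ N := IsPrimitiveRoot.coe_units_iff.mp hz
  let L : ℕ → (Fˣ →* ℂˣ) := fun i => monoidHomOfForallMemZpowers hg (g' := ζ ^ i)
    (orderOf_dvd_of_pow_eq_one (by rw [hgo, ← pow_mul, mul_comm, pow_mul, hζ.pow_eq_one, one_pow]))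
  have hLg : ∀ i, L i g = ζ ^ i := fun i => monoidHomOfForallMemZpowers_apply_gen hg _
  have hL2 : ∀ j : Fin (2 ^ (2 * m) - 1), L (j + 1) * L (j + 1) ≠ 1 := by
    intro j h
    have := DFunLike.congr_fun h g
    rw [MonoidHom.mul_apply, hLg, ← pow_add, MonoidHom.one_apply, hζ.pow_eq_one_iff_dvd] at this
    have := Nat.le_of_dvd (by omega) this
    have := j.2
    omega
  refine ⟨fun j => ⟨PS (L (j + 1)), isIrr_PS _ (hL2 j)⟩, fun i j h => ?_,
    fun j => ⟨PS_one _, fun a b hab => PS_Ts _ hab⟩⟩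
  have hg1 : g ≠ 1 := fun e => by rw [e, orderOf_one] at hgo; have := j.2; omega
  have h1 : PS (L (i + 1)) (Hs g : G) = PS (L (j + 1)) (Hs g : G) :=
    congrArg (fun c : Cfsg.IrrCharacter G => (c : G → ℂ) (Hs g)) h
  rw [PS_Hs _ hg1, PS_Hs _ hg1, map_inv, map_inv, hLg, hLg, Units.val_inv_eq_inv_val,
    Units.val_inv_eq_inv_val] at h1
  set x : ℂ := ((ζ ^ ((i : ℕ) + 1) : ℂˣ) : ℂ) with hxdef
  set y : ℂ := ((ζ ^ ((j : ℕ) + 1) : ℂˣ) : ℂ) with hydef
  have hx : x ≠ 0 := Units.ne_zero _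
  have hy : y ≠ 0 := Units.ne_zero _
  have h2 : (x - y) * (x * y - 1) = 0 := by
    field_simp at h1
    linear_combination h1
  have hi := i.2
  have hj := j.2
  rcases mul_eq_zero.mp h2 with h3 | h3
  · have h4 : ζ ^ ((i : ℕ) + 1) = ζ ^ ((j : ℕ) + 1) := Units.ext (sub_eq_zero.mp h3)
    have := hζ.pow_inj (by omega) (by omega) h4
    exact Fin.ext (by omega)
  · have h4 : ζ ^ ((i : ℕ) + 1 + ((j : ℕ) + 1)) = 1 := Units.ext (by
      rw [pow_add, Units.val_mul, Units.val_one]; exact sub_eq_zero.mp h3)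
    rw [hζ.pow_eq_one_iff_dvd] at h4
    have := Nat.le_of_dvd (by omega) h4
    omega

end Cfsg.Agent.SuzukiGroupPrincipal
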