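import Cfsg.Agent.Lib.SuzukiGroupGow

/-!
Traces in the natural representation of the Suzuki group: they separate the semisimple classes.
The classes of the 2-elements and the absolute trace of the field.
-/

set_option autoImplicit false

namespace Cfsg.Agent.SuzukiGroupTrace

open scoped Matrix Pointwise LinearAlgebra.Projectivization
open MulAction Cfsg.Agent.SuzukiGroupBasic Cfsg.Agent.SuzukiGroupStructure
open Cfsg.Agent.SuzukiGroupCentralizer Cfsg.Agent.SuzukiGroupTori Cfsg.Agent.SuzukiGroupPartition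
open Cfsg.Agent.SuzukiGroupNormalizers Cfsg.Agent.SuzukiGroupGow

variable {F : Type*} [Field F] {m : ℕ} [hP : Param F m]

set_option quotPrecheck false
local notation "G" => ↥(Cfsg.Sz F m)
local notation "qq" => (2 ^ (2 * m + 1) : ℕ)
local notation "rr" => (2 ^ (m + 1) : ℕ)

/-! ### The absolute trace of the field -/

/-- The absolute trace. -/
def Tr (m : ℕ) (x : F) : F := ∑ i ∈ Finset.range (2 * m + 1), x ^ 2 ^ i

include hP in
theorem Tr_add (x y : F) : Tr m (x + y) = Tr m x + Tr m y := by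
  have := charTwo (F := F) (m := m)
  simp only [Tr, ← Finset.sum_add_distrib]
  exact Finset.sum_congr rfl fun i _ => add_pow_char_pow x y 2 i

omit hP in
theorem Tr_zero : Tr m (0 : F) = 0 := Finset.sum_eq_zero fun i _ => zero_pow (by positivity)

include hP in
theorem Tr_one : Tr m (1 : F) = 1 := by
  have := charTwo (F := F) (m := m)
  simp only [Tr, one_pow, Finset.sum_const, Finset.card_range, nsmul_eq_mul, mul_one]
  push_cast
  rw [CharTwo.two_eq_zero]
  ring

include hP in
theorem Tr_sq (x : F) : Tr m (x ^ 2) = Tr m x := by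
  simp only [Tr, ← pow_mul, ← pow_succ']
  rw [Finset.sum_range_succ (fun i => x ^ 2 ^ (i + 1)), Finset.sum_range_succ' (fun i => x ^ 2 ^ i),
    pow_q, pow_zero, pow_one]

include hP in
theorem Tr_sg (x : F) : Tr m (sg m x) = Tr m x := by
  have : ∀ (j : ℕ) (y : F), Tr m (y ^ 2 ^ j) = Tr m y := by
    intro j
    induction j with
    | zero => intro y; simp
    | succ j ih => intro y; rw [pow_succ, pow_mul, Tr_sq, ih]
  exact this (m + 1) x

include hP in
theorem Tr_val (x : F) : Tr m x = 0 ∨ Tr m x = 1 := by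
  have := charTwo (F := F) (m := m)
  have h : Tr m x ^ 2 = Tr m x := by
    conv_rhs => rw [← Tr_sq]
    simp only [Tr]
    rw [CharTwo.sum_sq]
    exact Finset.sum_congr rfl fun i _ => by rw [← pow_mul, ← pow_mul, mul_comm]
  have : Tr m x * (Tr m x - 1) = 0 := by linear_combination h
  rcases mul_eq_zero.1 this with e | e
  exacts [Or.inl e, Or.inr (sub_eq_zero.1 e)]

include hP in
theorem exists_Tr_eq_one {z : F} (hz : z ≠ 0) : ∃ c : F, Tr m (z * c) = 1 :=
  ⟨z⁻¹, by rw [mul_inv_cancel₀ hz, Tr_one]⟩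

include hP in
theorem exists_sg_add {y : F} (hy : Tr m y = 0) : ∃ c, sg m c + c = y := by
  have := charTwo (F := F) (m := m)
  have := finiteF (F := F) (m := m)
  let ψ : F →+ F := AddMonoidHom.mk' (fun c => sg m c + c + Tr m c) fun a b => by
    rw [sg_add, Tr_add]; ring
  have hψ : ∀ c, Tr m (ψ c) = Tr m c := fun c => by
    show Tr m (sg m c + c + Tr m c) = _
    rw [Tr_add, Tr_add, Tr_sg, CharTwo.add_self_eq_zero, zero_add]
    rcases Tr_val (m := m) c with e | e <;> rw [e] <;> [exact Tr_zero; exact Tr_one]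
  have hinj : Function.Injective ψ := by
    rw [injective_iff_map_eq_zero]
    intro c hc
    have h0 : Tr m c = 0 := by rw [← hψ, hc, Tr_zero]
    have h1 : sg m c + c + Tr m c = 0 := hc
    rw [h0, add_zero, CharTwo.add_eq_zero] at h1
    rcases eq_zero_or_one_of_sg_self h1 with e | e
    · exact e
    · rw [e, Tr_one] at h0; exact absurd h0 one_ne_zero
  obtain ⟨c, hc⟩ := (Finite.injective_iff_surjective.mp hinj) y
  have h0 : Tr m c = 0 := by rw [← hψ, hc, hy]
  refine ⟨c, ?_⟩
  rw [← hc]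
  show sg m c + c = sg m c + c + Tr m c
  rw [h0, add_zero]

include hP in
theorem exists_sg_add_Tr {y : F} (hy : Tr m y = 0) (e : F) :
    ∃ c, sg m c + c = y ∧ Tr m c = Tr m e := by
  have := charTwo (F := F) (m := m)
  obtain ⟨c, hc⟩ := exists_sg_add (m := m) hy
  by_cases h : Tr m c = Tr m e
  · exact ⟨c, hc, h⟩
  · refine ⟨c + 1, ?_, ?_⟩
    · rw [sg_add, sg_one, ← hc]; grind
    · rw [Tr_add, Tr_one]
      rcases Tr_val (m := m) c with a | a <;> rcases Tr_val (m := m) e with b | b <;>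
        rw [a, b] at h ⊢ <;> simp_all [CharTwo.add_self_eq_zero]

include hP in
/-- Two independent functionals. -/
theorem exists_Tr_Tr {r : F} (h0 : r ≠ 0) (h1 : r ≠ 1) (e f : F) :
    ∃ w, Tr m w = Tr m e ∧ Tr m (w * r) = Tr m f := by
  have := charTwo (F := F) (m := m)
  obtain ⟨s, hs0, hs1⟩ : ∃ s, Tr m s = 0 ∧ Tr m (s * r) = 1 := by
    by_contra hcon
    push Not at hcon
    have hk : ∀ s, Tr m s = 0 → Tr m (s * r) = 0 := fun s hs =>
      (Tr_val (s * r)).resolve_right (hcon s hs)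
    -- then `w ↦ Tr (w r)` is a multiple of the trace
    have hlin : ∀ w, Tr m (w * r) = Tr m r * Tr m w := by
      intro w
      rcases Tr_val (m := m) w with e | e
      · rw [e, mul_zero, hk w e]
      · have := hk (w + 1) (by rw [Tr_add, e, Tr_one, CharTwo.add_self_eq_zero])
        rw [add_mul, one_mul, Tr_add, CharTwo.add_eq_zero] at this
        rw [e, mul_one, this]
    rcases Tr_val (m := m) r with hr | hr
    · obtain ⟨c, hc⟩ := exists_Tr_eq_one (m := m) h0
      rw [mul_comm, hlin, hr, zero_mul] at hc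
      exact one_ne_zero hc.symm
    · have hne : r + 1 ≠ 0 := fun h => h1 (CharTwo.add_eq_zero.mp h)
      obtain ⟨c, hc⟩ := exists_Tr_eq_one (m := m) hne
      rw [add_mul, one_mul, Tr_add, mul_comm, hlin, hr, one_mul, CharTwo.add_self_eq_zero] at hc
      exact one_ne_zero hc.symm
  obtain ⟨t, ht0, ht1⟩ : ∃ t, Tr m t = 1 ∧ Tr m (t * r) = 0 := by
    rcases Tr_val (m := m) r with e | e
    · exact ⟨1, Tr_one, by rw [one_mul, e]⟩
    · exact ⟨1 + s, by rw [Tr_add, Tr_one, hs0, add_zero],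
        by rw [add_mul, one_mul, Tr_add, e, hs1, CharTwo.add_self_eq_zero]⟩
  rcases Tr_val (m := m) e with a | a <;> rcases Tr_val (m := m) f with b | b <;> rw [a, b]
  · exact ⟨0, Tr_zero, by rw [zero_mul, Tr_zero]⟩
  · exact ⟨s, hs0, hs1⟩
  · exact ⟨t, ht0, ht1⟩
  · exact ⟨t + s, by rw [Tr_add, ht0, hs0, add_zero], by rw [add_mul, Tr_add, ht1, hs1, zero_add]⟩

include hP in
/-- The quadratic form `p ↦ Tr (p + c p σp)` is not identically zero. -/
theorem exists_quad (c : F) : ∃ p, p ≠ 0 ∧ Tr m (p + c * p * sg m p) = 1 := by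
  have := charTwo (F := F) (m := m)
  suffices h : ∃ p, Tr m (p + c * p * sg m p) = 1 by
    obtain ⟨p, hp⟩ := h
    refine ⟨p, ?_, hp⟩
    rintro rfl
    rw [sg_zero, mul_zero, add_zero, Tr_zero] at hp
    exact zero_ne_one hp
  by_contra hcon
  push Not at hcon
  have hQ : ∀ p, Tr m (p + c * p * sg m p) = 0 := fun p => (Tr_val _).resolve_right (hcon p)
  have key : ∀ p, tg m (c * p) + c * sg m p = 0 := by
    intro p
    by_contra hne
    obtain ⟨s, hs⟩ := exists_Tr_eq_one (m := m) hne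
    have e : Tr m (c * p * sg m s) = Tr m (tg m (c * p) * s) := by
      rw [← Tr_sg (tg m (c * p) * s), sg_mul, sg_tg]
    have h := hQ (p + s)
    rw [show p + s + c * (p + s) * sg m (p + s) =
      (p + c * p * sg m p) + (s + c * s * sg m s) + (c * p * sg m s + c * sg m p * s) by
        rw [sg_add]; ring, Tr_add, Tr_add, hQ, hQ, Tr_add, e, ← Tr_add, ← add_mul, hs] at h
    simp at h
  have hc0 : c ≠ 0 := by
    rintro rfl
    have := hQ 1
    rw [zero_mul, zero_mul, add_zero, Tr_one] at this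
    exact one_ne_zero this
  have hc1 : tg m c = c := by
    have := key 1
    rwa [mul_one, sg_one, mul_one, CharTwo.add_eq_zero] at this
  obtain ⟨p, hp0, hp1⟩ := exists_ne_zero_one (F := F) (m := m)
  have h2 := key p
  rw [tg_mul, hc1, ← mul_add, mul_eq_zero] at h2
  have h3 := congrArg (sg m) (CharTwo.add_eq_zero.mp (h2.resolve_left hc0))
  rw [sg_tg, sg_sg] at h3
  exact hp1 ((mul_left_eq_self₀.mp ((pow_two p).symm.trans h3.symm)).resolve_right hp0)

/-! ### Classes of 2-elements -/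

theorem Ts_normal {a : F} (ha : a ≠ 0) (b : F) : IsConj (Ts a b : G) (Ts 1 (b / (a * sg m a))) := by
  refine isConj_iff.mpr ⟨Hs (Units.mk0 a⁻¹ (inv_ne_zero ha)), ?_⟩
  rw [Hs_Ts]
  simp only [Units.val_mk0, sg_inv, inv_mul_cancel₀ ha]
  congr 1
  have := sg_ne_zero (m := m) ha
  field_simp

theorem isConj_Ts_one {b d : F} (h : Tr m b = Tr m d) : IsConj (Ts 1 b : G) (Ts 1 d) := by
  have := charTwo (F := F) (m := m)
  obtain ⟨c, hc⟩ := exists_sg_add (m := m) (y := b + d)
    (by rw [Tr_add, h, CharTwo.add_self_eq_zero])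
  refine isConj_iff.mpr ⟨Ts c 0, ?_⟩
  rw [Ts_inv, Ts_mul, Ts_mul]
  congr 1
  · grind
  · simp only [sg_add, sg_one]; grind

theorem isConj_Ts {a b a' b' : F} (ha : a ≠ 0) (ha' : a' ≠ 0)
    (h : Tr m (b / (a * sg m a)) = Tr m (b' / (a' * sg m a'))) :
    IsConj (Ts a b : G) (Ts a' b') :=
  ((Ts_normal ha b).trans (isConj_Ts_one h)).trans (Ts_normal ha' b').symm

theorem Ts_zero_normal {b : F} (hb : b ≠ 0) : IsConj (Ts 0 b : G) (Ts 0 1) := by
  obtain ⟨k, hk⟩ := exists_mul_sg (m := m) b⁻¹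
  have hk0 : k ≠ 0 := by rintro rfl; rw [zero_mul] at hk; exact inv_ne_zero hb hk.symm
  refine isConj_iff.mpr ⟨Hs (Units.mk0 k hk0), ?_⟩
  rw [Hs_Ts, Units.val_mk0, mul_zero, hk, inv_mul_cancel₀ hb]

theorem not_semi_cases {g : G} (hg : g ≠ 1) (h : ¬ Semi g) :
    (g ^ 2 = 1 ∧ IsConj g (Ts 0 1)) ∨ (g ^ 2 ≠ 1 ∧ ∃ e, IsConj g (Ts 1 e)) := by
  obtain ⟨c, a, b, hab⟩ := exists_conj_Ts_of_even hg (not_not.mp h)
  have hconj : IsConj g (Ts a b) := isConj_iff.mpr ⟨c, hab⟩
  have h2 : g ^ 2 = 1 ↔ a = 0 := by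
    rw [← Ts_sq_eq_one (m := m) (a := a) (b := b), ← hab, conj_pow, conj_eq_one_iff]
  by_cases ha : a = 0
  · subst ha
    refine Or.inl ⟨h2.mpr rfl, hconj.trans (Ts_zero_normal ?_)⟩
    rintro rfl
    rw [Ts_zero, conj_eq_one_iff] at hab
    exact hg hab
  · exact Or.inr ⟨fun e => ha (h2.mp e), _, hconj.trans (Ts_normal ha b)⟩

/-! ### The trace of the natural representation -/

/-- The trace in the natural four-dimensional representation. -/
def trM (g : G) : F := Matrix.trace ((g : Matrix.SpecialLinearGroup (Fin 4) F) : Matrix (Fin 4) (Fin 4) F)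

theorem trM_mul_comm (g h : G) : trM (g * h) = trM (h * g) := Matrix.trace_mul_comm _ _

theorem trM_conj {g h : G} (hc : IsConj g h) : trM g = trM h := by
  obtain ⟨c, rfl⟩ := isConj_iff.mp hc
  rw [trM_mul_comm (c * g), inv_mul_cancel_left]

theorem trM_Ts (a b : F) : trM (Ts a b : G) = 0 := by
  have := charTwo (F := F) (m := m)
  show Matrix.trace (Tm m a b) = 0
  simp [Matrix.trace, Fin.sum_univ_four, Tm]
  grind

theorem trM_Ws_Hs_Ts (l : Fˣ) (u v : F) :
    trM (Ws * Hs l * Ts u v : G) = tg m (l : F) * (sg m u + (l : F) * ff m u v) := by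
  show Matrix.trace (suzukiForm F * Matrix.diagonal _ * Tm m u v) = _
  rw [Matrix.mul_assoc]
  simp only [Matrix.trace, Matrix.diag, Matrix.mul_apply, Fin.sum_univ_four, Matrix.diagonal_mul]
  simp [suzukiForm, Tm]
  ring

theorem trM_Ts_Ws (a b c d : F) :
    trM (Ts a b * (Ws * Ts c d * Ws) : G) =
      a * sg m a * d + b * (c * sg m c) + sg m a * sg m c + ff m a b * ff m c d := by
  have := charTwo (F := F) (m := m)
  show Matrix.trace (Tm m a b * (suzukiForm F * Tm m c d * suzukiForm F)) = _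
  simp [Matrix.trace, Fin.sum_univ_four, Matrix.mul_apply, suzukiForm, Tm]
  grind

theorem trM_not_semi {g : G} (h : ¬ Semi g) : trM g = 0 := by
  by_cases hg : g = 1
  · rw [hg, ← Ts_zero, trM_Ts]
  · obtain ⟨c, a, b, hab⟩ := exists_conj_Ts_of_even hg (not_not.mp h)
    rw [trM_conj (isConj_iff.mpr ⟨c, hab⟩), trM_Ts]

theorem semi_of_trM {g : G} (h : trM g ≠ 0) : Semi g := fun h4 => h (trM_not_semi fun hs => hs h4)

theorem isCycPart_of_isTorus {A : Subgroup G} (hA : IsTorus A) : IsCycPart F m A := by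
  obtain ⟨g, hg, rfl⟩ := hA
  refine cyclic_centralizer hg.ne_one fun h => ?_
  obtain ⟨c, a, b, hab⟩ := exists_conj_Ts_of_even hg.ne_one h
  have := hg.conj c
  rw [hab] at this
  exact this _ inf_mem (Ts_smul_inf a b)

theorem exists_reps : ∃ V₀ V₁ V₂ : Subgroup G, IsCycPart F m V₀ ∧ IsCycPart F m V₁ ∧ IsCycPart F m V₂ ∧
    Nat.card V₀ = qq - 1 ∧ Nat.card V₁ = qq + rr + 1 ∧ Nat.card V₂ = qq - rr + 1 := by
  obtain ⟨A₁, A₂, h1, h2, c1, c2, -⟩ := exists_tori (F := F) (m := m)
  exact ⟨_, A₁, A₂, isCycPart_H₀, isCycPart_of_isTorus h1, isCycPart_of_isTorus h2, natCard_torus, c1, c2⟩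

theorem card_classes_le {U : Subgroup G} (hU : IsCycPart F m U) {c : ℕ}
    (hc : Nat.card (Subgroup.normalizer (U : Set G)) = c * Nat.card U) :
    ∃ I : Finset (ConjClasses G), c * I.card ≤ Nat.card U - 1 ∧
      ∀ u ∈ U, u ≠ 1 → ConjClasses.mk u ∈ I := by
  classical
  have : Fintype G := Fintype.ofFinite G
  set S := Finset.univ.filter fun u : G => u ∈ U ∧ u ≠ 1 with hS
  refine ⟨S.image ConjClasses.mk, ?_, fun u hu h1 => Finset.mem_image_of_mem _ (by simp [hS, hu, h1])⟩
  have hScard : S.card = Nat.card U - 1 := by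
    rw [Nat.card_eq_fintype_card, Fintype.card_subtype, ← Finset.card_erase_of_mem
      (s := Finset.univ.filter fun x : G => x ∈ U) (a := 1) (by simp)]
    congr 1
    ext x
    simp [hS, and_comm]
  rw [← hScard]
  refine Finset.mul_card_image_le_card _ _ fun q hq => ?_
  obtain ⟨u, hu, rfl⟩ := Finset.mem_image.mp hq
  obtain ⟨huU, hu1⟩ := (Finset.mem_filter.mp hu).2
  set N := Finset.univ.filter fun n : G => n ∈ Subgroup.normalizer (U : Set G) with hN
  set O := N.image fun n => n * u * n⁻¹ with hO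
  have hsub : O ⊆ S.filter fun z => ConjClasses.mk z = ConjClasses.mk u := by
    intro z hz
    obtain ⟨n, hn, rfl⟩ := Finset.mem_image.mp hz
    have hn' : n ∈ Subgroup.normalizer (U : Set G) := (Finset.mem_filter.mp hn).2
    refine Finset.mem_filter.mpr ⟨Finset.mem_filter.mpr ⟨Finset.mem_univ _,
      (Subgroup.mem_normalizer_iff.mp hn' u).mp huU, fun e => hu1 (conj_eq_one_iff.mp e)⟩, ?_⟩
    exact ConjClasses.mk_eq_mk_iff_isConj.mpr (isConj_iff.mpr ⟨n, rfl⟩).symm
  have hle : N.card ≤ Nat.card U * O.card := by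
    refine Finset.card_le_mul_card_image _ _ fun z hz => ?_
    obtain ⟨n₀, -, rfl⟩ := Finset.mem_image.mp hz
    rw [Nat.card_eq_fintype_card, Fintype.card_subtype]
    refine Finset.card_le_card_of_injOn (fun n => n₀⁻¹ * n) (fun n hn => ?_) fun a _ b _ h => mul_left_cancel h
    simp only [Finset.mem_coe, Finset.mem_filter, Finset.mem_univ, true_and] at hn ⊢
    rw [← hU.eq_centralizer huU hu1, Subgroup.mem_centralizer_singleton_iff]
    calc n₀⁻¹ * n * u = n₀⁻¹ * (n * u * n⁻¹) * n := by group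
      _ = u * (n₀⁻¹ * n) := by rw [hn.2]; group
  have hNcard : N.card = c * Nat.card U := by
    rw [← hc, Nat.card_eq_fintype_card, Fintype.card_subtype]
  rw [hNcard, mul_comm (Nat.card U)] at hle
  exact (Nat.le_of_mul_le_mul_right hle Nat.card_pos).trans (Finset.card_le_card hsub)

theorem semi_facts : (∀ g : G, Semi g → trM g ≠ 0) ∧
    ∀ g h : G, Semi g → Semi h → trM g = trM h → IsConj g h := by
  classical
  have := finiteF (F := F) (m := m)
  have : Fintype G := Fintype.ofFinite G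
  have : Fintype F := Fintype.ofFinite F
  obtain ⟨V₀, V₁, V₂, h0, h1, h2, c0, c1, c2⟩ := exists_reps (F := F) (m := m)
  obtain ⟨hr1, hr2, -, -⟩ := r_facts (F := F) (m := m)
  have hr4 := four_le_r (F := F) (m := m)
  have h8 := q_ge (F := F) (m := m)
  have n0 : Nat.card (Subgroup.normalizer (V₀ : Set G)) = 2 * Nat.card V₀ := by
    rcases h0.card_normalizer with ⟨-, h⟩ | ⟨h, -⟩
    · exact h
    · simp only [Set.mem_insert_iff, Set.mem_singleton_iff] at h; omega
  have n1 : Nat.card (Subgroup.normalizer (V₁ : Set G)) = 4 * Nat.card V₁ := by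
    rcases h1.card_normalizer with ⟨h, -⟩ | ⟨-, h⟩
    · omega
    · exact h
  have n2 : Nat.card (Subgroup.normalizer (V₂ : Set G)) = 4 * Nat.card V₂ := by
    rcases h2.card_normalizer with ⟨h, -⟩ | ⟨-, h⟩
    · omega
    · exact h
  obtain ⟨I₀, b0, m0⟩ := card_classes_le h0 n0
  obtain ⟨I₁, b1, m1⟩ := card_classes_le h1 n1
  obtain ⟨I₂, b2, m2⟩ := card_classes_le h2 n2
  set C := (Finset.univ.filter fun g : G => Semi g).image ConjClasses.mk with hC
  have hCsub : C ⊆ I₀ ∪ I₁ ∪ I₂ := by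
    intro q hq
    obtain ⟨g, hg, rfl⟩ := Finset.mem_image.mp hq
    have hg' : Semi g := (Finset.mem_filter.mp hg).2
    have hU : IsCycPart F m (Subgroup.centralizer {g}) := cyclic_centralizer hg'.ne_one hg'
    have key : ∀ V : Subgroup G, IsCycPart F m V → Nat.card (Subgroup.centralizer {g}) = Nat.card V →
        ∃ u ∈ V, u ≠ 1 ∧ ConjClasses.mk g = ConjClasses.mk u := by
      intro V hV he
      obtain ⟨c, hc⟩ := hU.conj_of_card_eq hV he
      refine ⟨c * g * c⁻¹, ?_, fun e => hg'.ne_one (conj_eq_one_iff.mp e),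
        ConjClasses.mk_eq_mk_iff_isConj.mpr (isConj_iff.mpr ⟨c, rfl⟩)⟩
      rw [hc]
      exact ⟨g, Subgroup.mem_centralizer_singleton_iff.mpr rfl, rfl⟩
    simp only [Finset.mem_union]
    rcases hU.2 with h | h | h
    · obtain ⟨u, hu, hu1, e⟩ := key V₀ h0 (h.trans c0.symm)
      exact Or.inl (Or.inl (e ▸ m0 u hu hu1))
    · obtain ⟨u, hu, hu1, e⟩ := key V₁ h1 (h.trans c1.symm)
      exact Or.inl (Or.inr (e ▸ m1 u hu hu1))
    · obtain ⟨u, hu, hu1, e⟩ := key V₂ h2 ((Set.mem_singleton_iff.mp h).trans c2.symm)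
      exact Or.inr (e ▸ m2 u hu hu1)
  have hCle : C.card ≤ qq - 1 := by
    have := (Finset.card_le_card hCsub).trans
      ((Finset.card_union_le _ _).trans (Nat.add_le_add_right (Finset.card_union_le _ _) _))
    rw [c0] at b0; rw [c1] at b1; rw [c2] at b2
    omega
  let f : ConjClasses G → F := Quotient.lift trM fun a b (h : IsConj a b) => trM_conj h
  have hS : Finset.univ.erase (0 : F) ⊆ C.image f := by
    intro γ hγ
    have hγ0 : γ ≠ 0 := Finset.ne_of_mem_erase hγ
    have ht : trM (Ws * Hs 1 * Ts 0 (tg m γ) : G) = γ := by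
      rw [trM_Ws_Hs_Ts, Units.val_one, sg_zero, one_mul, zero_add, ff, sg_tg, sg_zero]
      simp [tg]
    refine Finset.mem_image.mpr ⟨ConjClasses.mk (Ws * Hs 1 * Ts 0 (tg m γ)),
      Finset.mem_image_of_mem _ (Finset.mem_filter.mpr ⟨Finset.mem_univ _, semi_of_trM ?_⟩), ht⟩
    rwa [ht]
  have hScard : (Finset.univ.erase (0 : F)).card = qq - 1 := by
    rw [Finset.card_erase_of_mem (Finset.mem_univ _), Finset.card_univ, ← Nat.card_eq_fintype_card,
      natCard (F := F) (m := m)]
  have hle := Finset.card_image_le (f := f) (s := C)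
  have heq : Finset.univ.erase (0 : F) = C.image f :=
    Finset.eq_of_subset_of_card_le hS (hle.trans (hCle.trans hScard.ge))
  have hinj : Set.InjOn f C := Finset.card_image_iff.mp
    (le_antisymm hle (by rw [← heq, hScard]; exact hCle))
  have hmem : ∀ g : G, Semi g → ConjClasses.mk g ∈ C := fun g hg =>
    Finset.mem_image_of_mem _ (Finset.mem_filter.mpr ⟨Finset.mem_univ _, hg⟩)
  refine ⟨fun g hg => ?_, fun g h hg hh e => ?_⟩
  · have : f (ConjClasses.mk g) ∈ Finset.univ.erase (0 : F) := heq ▸ Finset.mem_image_of_mem f (hmem g hg)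
    exact Finset.ne_of_mem_erase this
  · exact ConjClasses.mk_eq_mk_iff_isConj.mp (hinj (hmem g hg) (hmem h hh) e)

theorem trM_ne_zero {g : G} (hg : Semi g) : trM g ≠ 0 := semi_facts.1 g hg

theorem isConj_of_trM {g h : G} (hg : Semi g) (e : trM h = trM g) : IsConj g h :=
  semi_facts.2 g h hg (semi_of_trM (e.symm ▸ trM_ne_zero hg)) e.symm

theorem trM_inv {g : G} (hg : Semi g) : trM g⁻¹ = trM g := by
  have hU : IsCycPart F m (Subgroup.centralizer {g}) := cyclic_centralizer hg.ne_one hg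
  obtain ⟨v, hv, hvo⟩ := hU.exists_involution
  exact (trM_conj (isConj_iff.mpr
    ⟨v, hU.invert hv hvo (Subgroup.mem_centralizer_singleton_iff.mpr rfl)⟩)).symm

end Cfsg.Agent.SuzukiGroupTrace
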