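import Cfsg.Agent.Lib.SuzukiGroupTrace

/-!
Characters of the Sylow 2-subgroup of the Suzuki group: the linear characters used for the
Gelfand-Graev construction, and the degree of the characters which are nontrivial on the centre.
-/

set_option autoImplicit false

namespace Cfsg.Agent.SuzukiGroupUChar

open scoped ComplexConjugate
open Cfsg.Agent.SuzukiGroupBasic Cfsg.Agent.SuzukiGroupStructure
open Cfsg.Agent.SuzukiGroupTrace Cfsg.Agent.CharBasic

variable {F : Type*} [Field F] {m : ℕ} [hP : Param F m]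

set_option quotPrecheck false
local notation "G" => ↥(Cfsg.Sz F m)
local notation "UU" => ↥(unipotent : Subgroup ↥(Cfsg.Sz F m))
local notation "qq" => (2 ^ (2 * m + 1) : ℕ)

/-- The sign of the absolute trace. -/
noncomputable def psi (m : ℕ) (a : F) : ℂ := open scoped Classical in if Tr m a = 0 then 1 else -1

omit hP in
theorem psi_zero : psi m (0 : F) = 1 := by rw [psi, if_pos Tr_zero]

theorem psi_one : psi m (1 : F) = -1 := by
  rw [psi, if_neg]; rw [Tr_one]; exact one_ne_zero

theorem psi_add (a b : F) : psi m (a + b) = psi m a * psi m b := by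
  have := charTwo (F := F) (m := m)
  rcases Tr_val (m := m) a with x | x <;> rcases Tr_val (m := m) b with y | y <;>
    simp [psi, Tr_add, x, y, CharTwo.add_self_eq_zero]

omit hP in
theorem psi_mul_self (a : F) : psi m a * psi m a = 1 := by
  rw [psi]; split_ifs <;> norm_num

omit hP in
theorem psi_ne_zero (a : F) : psi m a ≠ 0 := fun h => by
  have := psi_mul_self (m := m) a
  rw [h, mul_zero] at this
  exact zero_ne_one this

omit hP in
theorem conj_psi (a : F) : conj (psi m a) = psi m a := by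
  rw [psi]; split_ifs <;> simp

theorem exists_psi_eq_neg_one {z : F} (hz : z ≠ 0) : ∃ c, psi m (z * c) = -1 := by
  obtain ⟨c, hc⟩ := exists_Tr_eq_one (m := m) hz
  exact ⟨c, by rw [psi, if_neg]; rw [hc]; exact one_ne_zero⟩

theorem sum_psi [Fintype F] {c : F} (hc : c ≠ 0) : ∑ a : F, psi m (c * a) = 0 := by
  obtain ⟨a₀, ha₀⟩ := exists_psi_eq_neg_one (m := m) hc
  have h : ∑ a : F, psi m (c * a) = psi m (c * a₀) * ∑ a : F, psi m (c * a) := by
    rw [Finset.mul_sum]
    exact (Fintype.sum_equiv (Equiv.addLeft a₀) _ _ fun a => by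
      simp [mul_add, psi_add]).symm
  rw [ha₀] at h
  linear_combination h / 2

/-- An element of the Sylow subgroup. -/
def UT (a b : F) : ↥(unipotent : Subgroup ↥(Cfsg.Sz F m)) := ⟨Ts a b, Ts_mem a b⟩

theorem coe_UT (a b : F) : ((UT a b : UU) : G) = Ts a b := rfl

theorem UT_mul (a b c d : F) :
    (UT a b : UU) * UT c d = UT (a + c) (b + d + sg m a * c) :=
  Subtype.ext (Ts_mul a b c d)

theorem UT_zero : (UT 0 0 : UU) = 1 := Subtype.ext Ts_zero

theorem UT_bijective :
    Function.Bijective fun p : F × F => (UT p.1 p.2 : UU) :=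
  ⟨fun p q h => Prod.ext (Ts_injective (congrArg Subtype.val h)).1
      (Ts_injective (congrArg Subtype.val h)).2,
    by rintro ⟨_, a, b, rfl⟩; exact ⟨(a, b), rfl⟩⟩

theorem sum_U [Fintype F] [Fintype UU] (f : UU → ℂ) :
    ∑ u, f u = ∑ a : F, ∑ b : F, f (UT a b) := by
  rw [← Fintype.sum_prod_type']
  exact (Function.Bijective.sum_comp UT_bijective f).symm

theorem UT_conj (a b c d : F) :
    (UT c d : UU) * UT a b * (UT c d)⁻¹ =
      UT a b * UT 0 (sg m c * a + sg m a * c) := by
  have := charTwo (F := F) (m := m)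
  refine Subtype.ext ?_
  show (Ts c d : G) * Ts a b * (Ts c d)⁻¹ = Ts a b * Ts 0 _
  rw [Ts_inv, Ts_mul, Ts_mul, Ts_mul]
  congr 1
  · grind
  · simp only [sg_add]; grind

theorem UT_mem_center (b : F) :
    (UT 0 b : UU) ∈ Subgroup.center UU :=
  mem_center_unipotent.mpr ⟨b, rfl⟩

theorem mul_sg_injective {a c : F} (h : a * sg m a = c * sg m c) : a = c := by
  have := finiteF (F := F) (m := m)
  exact (Finite.injective_iff_surjective.mpr (exists_mul_sg (F := F) (m := m))) h

/-- A character of the centre which is trivial on all commutators `[T a, -]`, for two values of `a`. -/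
theorem radical_unique {μ : F → ℂ} (hμ : ∀ x y, μ (x + y) = μ x * μ y) (hμ1 : ∃ x, μ x ≠ 1)
    {a₁ a₂ : F} (h1 : a₁ ≠ 0) (h2 : a₂ ≠ 0)
    (r1 : ∀ c, μ (sg m c * a₁ + sg m a₁ * c) = 1) (r2 : ∀ c, μ (sg m c * a₂ + sg m a₂ * c) = 1) :
    a₁ = a₂ := by
  have := charTwo (F := F) (m := m)
  by_contra hne
  have hker : ∀ a, a ≠ 0 → (∀ c, μ (sg m c * a + sg m a * c) = 1) → ∀ y, Tr m y = 0 →
      μ (a * sg m a * y) = 1 := by
    intro a _ r y hy
    obtain ⟨c, hc⟩ := exists_sg_add (m := m) hy
    rw [← r (a * c), ← hc, sg_mul]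
    congr 1
    ring
  set α₁ := a₁ * sg m a₁ with hα₁
  set α₂ := a₂ * sg m a₂ with hα₂
  have n1 : α₁ ≠ 0 := mul_ne_zero h1 (sg_ne_zero h1)
  have n2 : α₂ ≠ 0 := mul_ne_zero h2 (sg_ne_zero h2)
  obtain ⟨w, hw0, hw1⟩ := exists_Tr_Tr (m := m) (div_ne_zero n1 n2)
    (fun e => hne (mul_sg_injective ((div_eq_one_iff_eq n2).mp e))) 0 1
  rw [Tr_zero] at hw0
  rw [Tr_one] at hw1
  obtain ⟨x, hx⟩ := hμ1
  apply hx
  rcases Tr_val (m := m) (x / α₂) with e | e
  · rw [← hker a₂ h2 r2 _ e, ← hα₂, mul_div_cancel₀ _ n2]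
  · have e' : Tr m ((x + w * α₁) / α₂) = 0 := by
      rw [add_div, mul_div_assoc, Tr_add, e, hw1, CharTwo.add_self_eq_zero]
    have h3 := hker a₂ h2 r2 _ e'
    rw [← hα₂, mul_div_cancel₀ _ n2, hμ, mul_comm w, hker a₁ h1 r1 w hw0, mul_one] at h3
    exact h3

theorem irr_degree {n : ℕ} (ρ : Representation ℂ UU (Fin n → ℂ))
    [ρ.IsIrreducible] (h : ∃ b, ρ (UT 0 b) ≠ 1) : n = 2 ^ m := by
  classical
  have := finiteF (F := F) (m := m)
  have : Fintype F := Fintype.ofFinite F
  have : Fintype UU := Fintype.ofFinite _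
  have := charTwo (F := F) (m := m)
  have hn : (n : ℂ) ≠ 0 := by
    have := finrank_pos_of_irreducible ρ
    rw [Module.finrank_pi, Fintype.card_fin] at this
    exact Nat.cast_ne_zero.mpr this.ne'
  have hinj : ∀ c d : ℂ, (c • LinearMap.id : Module.End ℂ (Fin n → ℂ)) = d • LinearMap.id → c = d := by
    intro c d e
    have := congrArg (LinearMap.trace ℂ (Fin n → ℂ)) e
    simpa [hn] using this
  choose μ hμ using fun b : F => exists_scalar_of_mem_center ρ (UT_mem_center (m := m) b)
  have hmul : ∀ x y, μ (x + y) = μ x * μ y := by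
    intro x y
    refine hinj _ _ ?_
    rw [← hμ, show (UT 0 (x + y) : UU) = UT 0 x * UT 0 y by
      rw [UT_mul, sg_zero, zero_mul, add_zero, add_zero], map_mul, hμ, hμ]
    simp [Module.End.mul_eq_comp, LinearMap.comp_smul, smul_smul, mul_comm]
  have hne : ∃ x, μ x ≠ 1 := by
    obtain ⟨b, hb⟩ := h
    exact ⟨b, fun e => hb (by rw [hμ, e, one_smul]; rfl)⟩
  set R := Finset.univ.filter fun a : F => ∀ c, μ (sg m c * a + sg m a * c) = 1 with hR
  have hout : ∀ a b, a ∉ R → ρ.character (UT a b) = 0 := by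
    intro a b ha
    obtain ⟨c, hc⟩ : ∃ c, μ (sg m c * a + sg m a * c) ≠ 1 := by simpa [hR] using ha
    have e := ρ.char_conj (UT a b) (UT c 0)
    rw [UT_conj, Representation.character, map_mul, hμ, Module.End.mul_eq_comp, LinearMap.comp_smul,
      LinearMap.comp_id, map_smul, smul_eq_mul] at e
    change μ _ * ρ.character _ = ρ.character _ at e
    by_contra h0
    exact hc (mul_right_cancel₀ h0 (e.trans (one_mul _).symm))
  have hin : ∀ a b, a ∈ R → ρ.character (UT a b) * conj (ρ.character (UT a b)) = (n : ℂ) ^ 2 := by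
    intro a b ha
    have hcomm : ∀ v : UU, ρ v * ρ (UT a b) = ρ (UT a b) * ρ v := by
      intro v
      obtain ⟨⟨c, d⟩, rfl⟩ := UT_bijective.2 v
      have e := congrArg ρ (UT_conj (m := m) a b c d)
      rw [map_mul, map_mul, map_mul, hμ, (Finset.mem_filter.mp ha).2 c, one_smul,
        ← Module.End.one_eq_id, mul_one] at e
      calc ρ (UT c d) * ρ (UT a b) = ρ (UT c d) * ρ (UT a b) * (ρ (UT c d)⁻¹ * ρ (UT c d)) := by
            rw [← map_mul ρ (UT c d)⁻¹, inv_mul_cancel, map_one, mul_one]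
        _ = ρ (UT a b) * ρ (UT c d) := by rw [← mul_assoc, e]
    obtain ⟨s, hs, hs'⟩ := exists_scalar_of_commute ρ (ρ (UT a b)) fun g v => by
      rw [← Module.End.mul_apply, ← hcomm, Module.End.mul_apply]
    obtain ⟨t, ht, ht'⟩ := exists_scalar_of_commute ρ (ρ (UT a b)⁻¹) fun g v => by
      rw [← Module.End.mul_apply, ← Module.End.mul_apply]
      congr 1
      have e : ρ (UT a b)⁻¹ * (ρ g * ρ (UT a b)) * ρ (UT a b)⁻¹ =
          ρ (UT a b)⁻¹ * (ρ (UT a b) * ρ g) * ρ (UT a b)⁻¹ := by rw [hcomm g]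
      simp only [← map_mul] at e ⊢
      simp only [mul_assoc, mul_inv_cancel, mul_one, inv_mul_cancel_left] at e
      exact e
    have hst : s * t = 1 := by
      refine hinj _ _ ?_
      have e : ρ (UT a b) * ρ (UT a b)⁻¹ = 1 := by rw [← map_mul, mul_inv_cancel, map_one]
      rw [hs, ht] at e
      simpa [Module.End.mul_eq_comp, LinearMap.comp_smul, smul_smul, Module.End.one_eq_id, mul_comm] using e
    rw [← character_inv, Representation.character, Representation.character, hs', ht']
    simp only [Module.finrank_pi, Fintype.card_fin]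
    linear_combination (n : ℂ) ^ 2 * hst
  have hnorm : ∑ u, ρ.character u * conj (ρ.character u) =
      ((Nat.card UU : ℕ) : ℂ) := by
    have h1 := CharBasicOrth.classInner_irr_self
      (χ := ρ.character) ⟨n, ρ, inferInstance, rfl⟩
    rw [Cfsg.classInner] at h1
    exact ((inv_mul_eq_one₀ (Nat.cast_ne_zero.mpr Nat.card_pos.ne')).mp h1).symm
  rw [sum_U, natCard_unipotent] at hnorm
  have hrow : ∀ a : F, ∑ b : F, ρ.character (UT a b) * conj (ρ.character (UT a b)) =
      if a ∈ R then (qq : ℂ) * (n : ℂ) ^ 2 else 0 := by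
    intro a
    split_ifs with ha
    · rw [Finset.sum_congr rfl fun b _ => hin a b ha, Finset.sum_const, Finset.card_univ,
        ← Nat.card_eq_fintype_card, natCard (F := F) (m := m), nsmul_eq_mul]
    · exact Finset.sum_eq_zero fun b _ => by rw [hout a b ha, zero_mul]
  rw [Finset.sum_congr rfl fun a _ => hrow a, Finset.sum_ite_mem, Finset.univ_inter,
    Finset.sum_const, nsmul_eq_mul] at hnorm
  have h0R : (0 : F) ∈ R := by
    refine Finset.mem_filter.mpr ⟨Finset.mem_univ _, fun c => ?_⟩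
    rw [sg_zero, mul_zero, zero_mul, add_zero]
    refine hinj _ _ ?_
    rw [← hμ, UT_zero, map_one, one_smul]
    rfl
  have hR2 : R.card ≤ 2 := by
    have : (R.erase 0).card ≤ 1 := Finset.card_le_one.mpr fun x hx y hy =>
      radical_unique hmul hne (Finset.ne_of_mem_erase hx) (Finset.ne_of_mem_erase hy)
        (Finset.mem_filter.mp (Finset.mem_of_mem_erase hx)).2
        (Finset.mem_filter.mp (Finset.mem_of_mem_erase hy)).2
    rw [Finset.card_erase_of_mem h0R] at this
    omega
  have hRpos : 0 < R.card := Finset.card_pos.mpr ⟨0, h0R⟩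
  have key : R.card * n ^ 2 = qq := by
    have : R.card * (qq * n ^ 2) = qq ^ 2 := by exact_mod_cast hnorm
    have hq : 0 < qq := by positivity
    exact Nat.eq_of_mul_eq_mul_left hq (by rw [← pow_two, ← this, mul_left_comm])
  obtain ⟨i, -, rfl⟩ : ∃ i ≤ 2 * m + 1, n = 2 ^ i :=
    (Nat.dvd_prime_pow Nat.prime_two).mp
      (dvd_trans (dvd_pow_self n two_ne_zero) (Dvd.intro_left _ key))
  rcases Nat.lt_or_ge R.card 2 with hR1 | hR1
  · rw [show R.card = 1 by omega, one_mul, ← pow_mul] at key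
    have := Nat.pow_right_injective le_rfl key
    omega
  · rw [show R.card = 2 by omega, ← pow_mul, ← pow_succ'] at key
    have := Nat.pow_right_injective le_rfl key
    rw [show i = m by omega]

theorem exists_split {χ : G → ℂ} (hχ : Cfsg.IsCharacter G χ) :
    ∃ D N : ℕ, χ 1 = (D : ℂ) + (2 ^ m * N : ℕ) ∧
      χ 1 + ((qq : ℂ) - 1) * χ (Ts 0 1) = (qq : ℂ) * D := by
  classical
  have := finiteF (F := F) (m := m)
  have : Fintype F := Fintype.ofFinite F
  have : Fintype UU := Fintype.ofFinite _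
  set χU : UU → ℂ := χ ∘ (unipotent : Subgroup G).subtype with hχU
  obtain ⟨c, -, hc⟩ := CharBasicDecomp.exists_mult (χ := χU) (isCharacter_comap _ hχ)
  have hθ : ∀ θ : Cfsg.IrrCharacter UU, ∃ D N : ℕ,
      (θ : UU → ℂ) 1 = (D : ℂ) + (2 ^ m * N : ℕ) ∧
      ∑ b : F, (θ : UU → ℂ) (UT 0 b) = (qq : ℂ) * D := by
    rintro ⟨θ, n, ρ, hρ, rfl⟩
    by_cases htriv : ∀ b, ρ (UT 0 b) = 1
    · refine ⟨n, 0, ?_, ?_⟩
      · show ρ.character 1 = _
        rw [Representation.char_one]; simp
      · show ∑ b : F, ρ.character (UT 0 b) = _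
        rw [Finset.sum_congr rfl fun b _ => show ρ.character (UT 0 b) = (n : ℂ) by
          rw [Representation.character, htriv b]; simp, Finset.sum_const, Finset.card_univ,
          ← Nat.card_eq_fintype_card, natCard (F := F) (m := m), nsmul_eq_mul]
    · push Not at htriv
      have hn := irr_degree ρ htriv
      refine ⟨0, 1, ?_, ?_⟩
      · show ρ.character 1 = _
        rw [Representation.char_one]; simp [hn]
      · show ∑ b : F, ρ.character (UT 0 b) = _
        rw [Nat.cast_zero, mul_zero]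
        obtain ⟨b₀, hb₀⟩ := htriv
        obtain ⟨μ, hμ⟩ := exists_scalar_of_mem_center ρ (UT_mem_center (m := m) b₀)
        have hμ1 : μ ≠ 1 := fun e => hb₀ (by rw [hμ, e, one_smul]; rfl)
        have e : ∑ b : F, ρ.character (UT 0 b) = μ * ∑ b : F, ρ.character (UT 0 b) := by
          rw [Finset.mul_sum]
          refine (Fintype.sum_equiv (Equiv.addLeft b₀) _ _ fun b => ?_).symm
          show μ * ρ.character (UT 0 b) = ρ.character (UT 0 (b₀ + b))
          rw [show (UT 0 (b₀ + b) : UU) = UT 0 b₀ * UT 0 b by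
            rw [UT_mul, sg_zero, zero_mul, add_zero, add_zero], Representation.character,
            Representation.character, map_mul, hμ, Module.End.mul_eq_comp, LinearMap.smul_comp,
            LinearMap.id_comp, map_smul, smul_eq_mul]
        by_contra h0
        exact hμ1 (mul_right_cancel₀ h0 (e.symm.trans (one_mul _).symm))
  choose D N hD1 hD2 using hθ
  refine ⟨∑ θ, c θ * D θ, ∑ θ, c θ * N θ, ?_, ?_⟩
  · have e : χ 1 = χU 1 := rfl
    rw [e, hc, Finset.sum_apply, Finset.mul_sum, Nat.cast_sum, Nat.cast_sum, ← Finset.sum_add_distrib]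
    refine Finset.sum_congr rfl fun θ _ => ?_
    rw [Pi.smul_apply, smul_eq_mul, hD1]
    push_cast; ring
  · have e : ∑ b : F, χU (UT 0 b) = (qq : ℂ) * ((∑ θ, c θ * D θ : ℕ) : ℂ) := by
      simp only [hc, Finset.sum_apply, Pi.smul_apply, smul_eq_mul]
      rw [Finset.sum_comm, Nat.cast_sum, Finset.mul_sum]
      refine Finset.sum_congr rfl fun θ _ => ?_
      rw [← Finset.mul_sum, hD2]
      push_cast; ring
    rw [← e, ← Finset.add_sum_erase _ _ (Finset.mem_univ (0 : F))]
    congr 1
    · show χ 1 = χ (Ts 0 0)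
      rw [Ts_zero]
    · rw [Finset.sum_congr rfl fun b hb => show χU (UT 0 b) = χ (Ts 0 1) from
        apply_eq_of_isConj (isClassFunction_of_isCharacter hχ) (Ts_zero_normal (Finset.ne_of_mem_erase hb)),
        Finset.sum_const, Finset.card_erase_of_mem (Finset.mem_univ _), Finset.card_univ,
        ← Nat.card_eq_fintype_card, natCard (F := F) (m := m), nsmul_eq_mul,
        Nat.cast_sub Nat.one_le_two_pow, Nat.cast_one]

end Cfsg.Agent.SuzukiGroupUChar
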