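import Cfsg.Agent.Lib.AdditiveCharTwo

/-!
Field-theoretic facts behind Higman's theorem on Suzuki 2-groups: the characters
`θ ↦ θ / σ θ` (`σ ≠ 1`) are pairwise non-conjugate, and a space of functions on field automorphisms that is
closed under multiplication by these characters splits into its coordinates.
-/

set_option autoImplicit false

namespace Cfsg.Agent.SuzukiHigmanCoeff

open Cfsg.Agent.AdditiveCharTwo

variable {F : Type*} [Field F] [Fintype F] [CharP F 2]

theorem frobenius_eq {a b : F} (h : a * a = b * b) : a = b := by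
  rcases mul_self_eq_mul_self_iff.mp h with h | h
  · exact h
  · rw [h, CharTwo.neg_eq]

theorem eq_of_char_conj {σ τ ρ : F ≃+* F} (hσ : σ ≠ RingEquiv.refl F) (hτ : τ ≠ RingEquiv.refl F)
    {θ : F} (hgen : ∀ x : F, x ≠ 0 → ∃ j : ℕ, θ ^ j = x) (hθ : θ ≠ 0)
    (h : ρ (θ / σ θ) = θ / τ θ) : σ = τ ∧ ρ = RingEquiv.refl F := by
  classical
  have := finite_aut (F := F)
  have := Fintype.ofFinite (F ≃+* F)
  set π : F ≃+* F := σ.trans ρ with hπ
  have hne : ∀ (f : F ≃+* F) {x : F}, x ≠ 0 → f x ≠ 0 := fun f x hx =>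
    (map_ne_zero_iff _ f.injective).mpr hx
  have key : ∀ x, ρ x * τ x = x * π x := by
    intro x
    rcases eq_or_ne x 0 with rfl | hx
    · simp
    obtain ⟨j, rfl⟩ := hgen x hx
    rw [map_div₀, div_eq_div_iff (hne ρ (hne σ hθ)) (hne τ hθ)] at h
    simp only [map_pow, ← mul_pow]
    exact congrArg (· ^ j) h
  have hsum : ∀ x, ρ x + τ x = x + π x := by
    intro x
    have h1 := key (x + 1)
    simp only [map_add, map_one] at h1
    linear_combination h1 - key x
  by_cases hπ1 : π = RingEquiv.refl F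
  · exfalso
    have hρτ : ρ = τ := RingEquiv.ext fun x => by
      have := hsum x
      rw [hπ1, RingEquiv.refl_apply, CharTwo.add_self_eq_zero, CharTwo.add_eq_zero] at this
      exact this
    have hρ : ρ = RingEquiv.refl F := RingEquiv.ext fun x => frobenius_eq (by
      have := key x
      rwa [← hρτ, hπ1] at this)
    refine hσ (RingEquiv.ext fun x => ρ.injective ?_)
    have := congrArg (fun f : F ≃+* F => f x) hπ1
    simpa [hπ, hρ] using this
  have hρτ : ρ ≠ τ := fun e => hπ1 (RingEquiv.ext fun x => by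
    have := hsum x
    rw [e, CharTwo.add_self_eq_zero, eq_comm, CharTwo.add_eq_zero] at this
    exact this.symm)
  have hc : (Pi.single ρ (1 : F) + Pi.single τ 1 : (F ≃+* F) → F) =
      Pi.single (RingEquiv.refl F) 1 + Pi.single π 1 := by
    refine comb_injective (AddMonoidHom.ext fun x => ?_)
    have := hsum x
    simpa [comb, add_mul, Finset.sum_add_distrib, Pi.single_apply] using this
  have hρ1 : ρ = RingEquiv.refl F := by
    by_contra e
    have h2 := congrFun hc (RingEquiv.refl F)
    simp [Pi.single_apply, Ne.symm e, Ne.symm hτ, Ne.symm hπ1] at h2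
  refine ⟨?_, hρ1⟩
  have hπσ : π = σ := by ext x; simp [hπ, hρ1]
  by_contra e
  have h2 := congrFun hc τ
  simp [Pi.single_apply, Ne.symm hρτ, hτ, hπσ, Ne.symm e] at h2

/-- The character attached to an automorphism. -/
def chi (θ : F) (σ : F ≃+* F) : F := θ / σ θ

omit [Fintype F] in
theorem zmod_eq (a : ZMod 2) : a = 0 ∨ a = 1 := by revert a; decide

/-- A polynomial separating two characters. -/
theorem exists_separating {σ τ : F ≃+* F} (hσ : σ ≠ RingEquiv.refl F) (hτ : τ ≠ RingEquiv.refl F)
    (hστ : σ ≠ τ) {θ : F} (hgen : ∀ x : F, x ≠ 0 → ∃ j : ℕ, θ ^ j = x) (hθ : θ ≠ 0)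
    [Algebra (ZMod 2) F] : ∃ p : Polynomial (ZMod 2),
      Polynomial.aeval (chi θ τ) p = 0 ∧ Polynomial.aeval (chi θ σ) p ≠ 0 := by
  have := Fact.mk Nat.prime_two
  refine ⟨minpoly (ZMod 2) (chi θ τ), minpoly.aeval _ _, fun h => hστ ?_⟩
  have hint : IsIntegral (ZMod 2) (chi θ τ) := Algebra.IsIntegral.isIntegral _
  have he : minpoly (ZMod 2) (chi θ τ) = minpoly (ZMod 2) (chi θ σ) :=
    minpoly.eq_of_irreducible_of_monic (minpoly.irreducible hint) h (minpoly.monic hint)
  obtain ⟨g, hg⟩ := (Normal.minpoly_eq_iff_mem_orbit F).mp he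
  exact ((eq_of_char_conj (ρ := g.toRingEquiv) hσ hτ hgen hθ hg).1)

/-- An additive set of functions closed under multiplication by the characters splits. -/
theorem single_mem (R : AddSubgroup ((F ≃+* F) → F)) {θ : F}
    (hgen : ∀ x : F, x ≠ 0 → ∃ j : ℕ, θ ^ j = x) (hθ : θ ≠ 0)
    (hmul : ∀ v ∈ R, (fun σ => chi θ σ * v σ) ∈ R) (h1 : ∀ v ∈ R, v (RingEquiv.refl F) = 0)
    [DecidableEq (F ≃+* F)] {v : (F ≃+* F) → F} (hv : v ∈ R) (σ : F ≃+* F) :
    Pi.single σ (v σ) ∈ R := by
  classical
  rcases eq_or_ne σ (RingEquiv.refl F) with rfl | hσ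
  · rw [h1 v hv, Pi.single_zero]; exact zero_mem _
  have := finite_aut (F := F)
  have := Fintype.ofFinite (F ≃+* F)
  let _ : Algebra (ZMod 2) F := ZMod.algebra F 2
  let L : Subring ((F ≃+* F) → F) :=
    { carrier := {u | ∀ w ∈ R, (fun ρ => u ρ * w ρ) ∈ R}
      mul_mem' := fun {a b} ha hb w hw => by
        have := ha _ (hb w hw)
        convert this using 1
        funext ρ; simp [mul_assoc]
      one_mem' := fun w hw => by simpa using hw
      add_mem' := fun {a b} ha hb w hw => by
        convert R.add_mem (ha w hw) (hb w hw) using 1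
        funext ρ; simp [add_mul]
      zero_mem' := fun w hw => by
        convert R.zero_mem using 1
        funext ρ; simp
      neg_mem' := fun {a} ha w hw => by
        convert R.neg_mem (ha w hw) using 1
        funext ρ; simp }
  have hchi : chi θ ∈ L := hmul
  have hpoly : ∀ p : Polynomial (ZMod 2), (fun ρ => Polynomial.aeval (chi θ ρ) p) ∈ L := by
    intro p
    induction p using Polynomial.induction_on' with
    | add p q hp hq =>
      convert L.add_mem hp hq using 1
      funext ρ; simp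
    | monomial j a =>
      rcases zmod_eq a with rfl | rfl
      · convert L.zero_mem using 1
        funext ρ; simp
      · convert pow_mem hchi j using 1
        funext ρ; simp
  have hsep : ∀ τ : F ≃+* F, ∃ p : Polynomial (ZMod 2),
      (τ ≠ σ → τ ≠ RingEquiv.refl F → Polynomial.aeval (chi θ τ) p = 0) ∧
        Polynomial.aeval (chi θ σ) p ≠ 0 := by
    intro τ
    by_cases h : τ ≠ σ ∧ τ ≠ RingEquiv.refl F
    · obtain ⟨p, h1', h2⟩ := exists_separating hσ h.2 h.1.symm hgen hθ
      exact ⟨p, fun _ _ => h1', h2⟩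
    · exact ⟨1, fun h1' h2 => absurd ⟨h1', h2⟩ h, by simp⟩
  choose p hp hpσ using hsep
  set u : (F ≃+* F) → F := fun ρ => Polynomial.aeval (chi θ ρ) (∏ τ, p τ) with hu
  have hw := (pow_mem (hpoly (∏ τ, p τ)) (Fintype.card F - 1) : u ^ (Fintype.card F - 1) ∈ L) v hv
  convert hw using 1
  funext ρ
  rcases eq_or_ne ρ σ with rfl | hne
  · rw [Pi.single_eq_same, Pi.pow_apply, FiniteField.pow_card_sub_one_eq_one, one_mul]
    simp only [hu, map_prod]
    exact Finset.prod_ne_zero_iff.mpr fun τ _ => hpσ τ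
  · rw [Pi.single_eq_of_ne hne]
    rcases eq_or_ne ρ (RingEquiv.refl F) with rfl | hρ
    · rw [h1 v hv, mul_zero]
    · have h0 : u ρ = 0 := by
        simp only [hu, map_prod]
        exact Finset.prod_eq_zero (Finset.mem_univ ρ) (hp ρ hne hρ)
      show 0 = u ρ ^ _ * v ρ
      rw [h0, zero_pow (by have := Fintype.one_lt_card (α := F); omega), zero_mul]

/-- A nonzero additive set closed under a character `θ / σ θ` is everything. -/
theorem eq_top_of_mul_mem (X : AddSubgroup F) {θ : F}
    (hgen : ∀ x : F, x ≠ 0 → ∃ j : ℕ, θ ^ j = x) (hθ : θ ≠ 0) {σ : F ≃+* F}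
    (hσ : σ ≠ RingEquiv.refl F) (hmul : ∀ x ∈ X, chi θ σ * x ∈ X) {x₀ : F} (hx₀ : x₀ ∈ X)
    (h0 : x₀ ≠ 0) : X = ⊤ := by
  classical
  have := Fact.mk Nat.prime_two
  let _ : Algebra (ZMod 2) F := ZMod.algebra F 2
  have hfix : IntermediateField.adjoin (ZMod 2) {chi θ σ} = ⊤ := by
    have hbot : (IntermediateField.adjoin (ZMod 2) {chi θ σ}).fixingSubgroup = ⊥ := by
      refine (Subgroup.eq_bot_iff_forall _).mpr fun g hg => AlgEquiv.ext fun x => ?_
      rw [IntermediateField.mem_fixingSubgroup_iff] at hg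
      have h := eq_of_char_conj (ρ := g.toRingEquiv) hσ hσ hgen hθ
        (hg _ (IntermediateField.mem_adjoin_simple_self _ _))
      exact DFunLike.congr_fun h.2 x
    rw [← IsGalois.fixedField_fixingSubgroup (IntermediateField.adjoin (ZMod 2) {chi θ σ}), hbot,
      IntermediateField.fixedField_bot]
  have hall : ∀ y : F, ∀ x ∈ X, y * x ∈ X := by
    intro y
    have hy : y ∈ (IntermediateField.adjoin (ZMod 2) {chi θ σ}).toSubalgebra := by
      rw [hfix]; trivial
    rw [IntermediateField.adjoin_simple_toSubalgebra_of_isAlgebraic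
      (Algebra.IsAlgebraic.isAlgebraic _)] at hy
    induction hy using Algebra.adjoin_induction with
    | mem z hz => rw [Set.mem_singleton_iff.mp hz]; exact hmul
    | algebraMap r =>
      intro x hx
      rcases zmod_eq r with rfl | rfl
      · simp
      · simpa using hx
    | add a b _ _ ha hb => intro x hx; rw [add_mul]; exact X.add_mem (ha x hx) (hb x hx)
    | mul a b _ _ ha hb => intro x hx; rw [mul_assoc]; exact ha _ (hb x hx)
  refine AddSubgroup.eq_top_iff' X |>.mpr fun y => ?_
  have := hall (y * x₀⁻¹) x₀ hx₀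
  rwa [mul_assoc, inv_mul_cancel₀ h0, mul_one] at this

end Cfsg.Agent.SuzukiHigmanCoeff
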