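import Cfsg.Agent.Lib.SuzukiTwoGroup
import Cfsg.Agent.Lib.SuzukiTypeA
import Cfsg.Agent.Lib.SuzukiHigmanCoeff

/-!
Higman's theorem on Suzuki 2-groups, class-two part: every square is central.
-/

set_option autoImplicit false

namespace Cfsg.Agent.SuzukiHigmanClass

open Cfsg.Agent.SuzukiTwo Cfsg.Agent.AdditiveCharTwo Cfsg.Agent.SuzukiHigmanCoeff

variable {P : Type*} [Group P] [Finite P] {K : Subgroup (MulAut P)} (hS : Setup P K)
include hS

omit [Finite P] in
/-- `K` acts without fixed points. -/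
theorem eq_one_of_fixed {k : K} (hk : k ≠ 1) {g : P} (h : (k : MulAut P) g = g) : g = 1 := by
  by_contra hg
  classical
  have hex : ∃ i : ℕ, g ^ 2 ^ i = 1 := hS.isP g
  obtain ⟨i, hi⟩ : ∃ i, Nat.find hex = i + 1 := by
    refine Nat.exists_eq_succ_of_ne_zero fun h0 => hg ?_
    have := Nat.find_spec hex
    rwa [h0, pow_zero, pow_one] at this
  have h2 := Nat.find_spec hex
  rw [hi, pow_succ, pow_mul, pow_two] at h2
  have h1 : g ^ 2 ^ i ≠ 1 := Nat.find_min hex (by omega)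
  refine hk ((hS.reg _ _ h1 h2 h1 h2).unique (by rw [map_pow, h]) ?_)
  rw [Subgroup.coe_one, MulAut.one_apply]

omit [Finite P] in
theorem center_inv (k : K) {x : P} (hx : x ∈ Subgroup.center P) :
    (k : MulAut P) x ∈ Subgroup.center P := by
  rw [Subgroup.mem_center_iff]
  intro g
  have := congrArg (k : MulAut P) (Subgroup.mem_center_iff.1 hx ((k : MulAut P).symm g))
  simpa using this

/-- `g⁻¹ k g` runs over the whole group. -/
theorem exists_inv_mul_map {k : K} (hk : k ≠ 1) (p : P) :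
    ∃ g : P, g⁻¹ * (k : MulAut P) g = p := by
  have hinj : Function.Injective fun g : P => g⁻¹ * (k : MulAut P) g := fun g g' h => by
    have : (k : MulAut P) (g' * g⁻¹) = g' * g⁻¹ := by
      rw [map_mul, map_inv]
      calc (k : MulAut P) g' * ((k : MulAut P) g)⁻¹
          = g' * (g'⁻¹ * (k : MulAut P) g') * (g⁻¹ * (k : MulAut P) g)⁻¹ * g⁻¹ := by group
        _ = g' * g⁻¹ := by rw [show g⁻¹ * (k : MulAut P) g = g'⁻¹ * (k : MulAut P) g' from h]; group
    exact (mul_inv_eq_one.1 (eq_one_of_fixed hS hk this)).symm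
  exact Finite.surjective_of_injective hinj p

/-- Two squares commuting with the `InY` elements: `g²` centralises `InY Z`. -/
theorem sq_comm_inY {y : P} (hy : InY (Subgroup.center P) y) (g : P) :
    y * (g * g) = g * g * y := by
  set c := y * g * y⁻¹ * g⁻¹ with hcdef
  have hc : c ∈ Subgroup.center P := hy.2 g
  have hg : y * g = c * g * y := by simp only [hcdef]; group
  calc y * (g * g) = (y * g) * g := by group
    _ = c * g * (y * g) := by conv_lhs => rw [hg]
                              group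
    _ = c * (g * c) * g * y := by rw [hg]; group
    _ = c * (c * g) * g * y := by rw [Subgroup.mem_center_iff.1 hc g]
    _ = (c * c) * (g * g) * y := by group
    _ = _ := by rw [center_sq hS c hc, one_mul]

/-- Squares are central, by contradiction. -/
theorem sq_mem_center (x : P) : x * x ∈ Subgroup.center P := by
  classical
  by_contra hx
  set Z := Subgroup.center P with hZdef
  have hZn : Z.Normal := inferInstance
  have hz2 := center_sq hS
  have hinvZ : ∀ e : P, e * e = 1 → e ∈ Z := fun e he => mem_center_of_invol hS he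
  -- the subgroup generated by the squares and the centre
  set C := Subgroup.closure ((Set.range fun g : P => g * g) ∪ (Z : Set P)) with hC
  have hZC : Z ≤ C := fun z hz => Subgroup.subset_closure (Or.inr hz)
  have hsqC : ∀ g, g * g ∈ C := fun g => Subgroup.subset_closure (Or.inl ⟨g, rfl⟩)
  have hCmap : ∀ f : MulAut P, (∀ z ∈ Z, f z ∈ Z) → ∀ c ∈ C, f c ∈ C := fun f hf c hc => by
    induction hc using Subgroup.closure_induction with
    | mem c hc =>
      rcases hc with ⟨g, rfl⟩ | hc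
      · rw [map_mul]; exact hsqC _
      · exact hZC (hf c hc)
    | one => rw [map_one]; exact one_mem _
    | mul a b _ _ ha hb => rw [map_mul]; exact mul_mem ha hb
    | inv a _ ha => rw [map_inv]; exact inv_mem ha
  have hCn : C.Normal := ⟨fun c hc g =>
    hCmap (MulAut.conj g) (fun z hz => hZn.conj_mem z hz g) c hc⟩
  have hCcomm : ∀ y, InY Z y → ∀ c ∈ C, y * c = c * y := fun y hy c hc => by
    induction hc using Subgroup.closure_induction with
    | mem c hc =>
      rcases hc with ⟨g, rfl⟩ | hc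
      · exact sq_comm_inY hS hy g
      · exact Subgroup.mem_center_iff.1 hc y
    | one => simp
    | mul a b _ _ ha hb => exact Commute.mul_right (show Commute y a from ha) hb
    | inv a _ ha => exact Commute.inv_right (show Commute y a from ha)
  have hne : C ≠ Z := fun h => hx (h ▸ hsqC x)
  obtain ⟨y₀, hy₀C, hy₀Z, hy₀⟩ := exists_above hS hZn hZC hne
  -- the subgroup `Y₀`
  let Y₀ : Subgroup P :=
    { carrier := {y | y ∈ C ∧ InY Z y}
      mul_mem' := fun ha hb => ⟨mul_mem ha.1 hb.1, inY_mul hZn ha.2 hb.2⟩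
      one_mem' := ⟨one_mem C, inY_of_mem hZn (one_mem Z)⟩
      inv_mem' := fun ha => ⟨inv_mem ha.1, inY_inv hZn ha.2⟩ }
  have hY₀c : ∀ a ∈ Y₀, ∀ b ∈ Y₀, a * b = b * a := fun a ha b hb => hCcomm a ha.2 b hb.1
  have hY₀k : ∀ k : K, ∀ a ∈ Y₀, (k : MulAut P) a ∈ Y₀ := fun k a ha =>
    ⟨hCmap _ (fun z hz => center_inv hS k hz) a ha.1,
      inY_map hZn (fun k z hz => center_inv hS k hz) k ha.2⟩
  have hZY₀ : Z ≤ Y₀ := fun z hz => ⟨hZC hz, inY_of_mem hZn hz⟩
  have hY₀n : Y₀.Normal := ⟨fun a ha g => ⟨hCn.conj_mem a ha.1 g, by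
    rw [show g * a * g⁻¹ = (a * g * a⁻¹ * g⁻¹)⁻¹ * a by group]
    exact inY_mul hZn (inY_of_mem hZn (inv_mem (ha.2.2 g))) ha.2⟩⟩
  let S : Set (Subgroup P) := {A | A.Normal ∧ Y₀ ≤ A ∧
    (∀ a ∈ A, ∀ b ∈ A, a * b = b * a) ∧ ∀ k : K, ∀ a ∈ A, (k : MulAut P) a ∈ A}
  obtain ⟨A, ⟨hAn, hYA, hAc, hAk⟩, hmaxA⟩ := (Set.toFinite S).exists_maximal
    ⟨Y₀, hY₀n, le_rfl, hY₀c, hY₀k⟩
  have hy₀A : y₀ ∈ A := hYA ⟨hy₀C, hy₀⟩
  have hy₀2 : y₀ * y₀ ≠ 1 := fun h => hy₀Z (hinvZ _ h)
  obtain ⟨a, hA⟩ := exists_homo hS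
    (fun h => hy₀2 (by rw [h, Subgroup.mem_bot] at hy₀A; rw [hy₀A, one_mul])) hAc hAk
  obtain ⟨b, hY⟩ := exists_homo hS (A := Y₀)
    (fun h => hy₀2 (by
      have h1 : y₀ ∈ Y₀ := ⟨hy₀C, hy₀⟩
      rw [h, Subgroup.mem_bot] at h1; rw [h1, one_mul])) hY₀c hY₀k
  have hinvA : ∀ e : P, e * e = 1 → e ∈ A := fun e he => hYA (hZY₀ (hinvZ e he))
  have hmax : ∀ B : Subgroup P, B.Normal → A ≤ B → (∀ x ∈ B, ∀ y ∈ B, x * y = y * x) →
      (∀ k : K, ∀ x ∈ B, (k : MulAut P) x ∈ B) → B = A :=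
    fun B hB hle hc hk => le_antisymm (hmaxA ⟨hB, hYA.trans hle, hc, hk⟩ hle) hle
  have ha : a = 2 := by
    have h1 : 2 ≤ a := by
      by_contra h
      have h2 := hA.exp y₀ hy₀A
      rw [show a = 1 by have := hA.pos; omega, pow_one, pow_two] at h2
      exact hy₀2 h2
    by_contra h
    have htop : (⊤ : Subgroup P) ≠ A := fun e => by
      obtain ⟨p, q, hpq⟩ := hS.noncomm
      exact hpq (hAc p (e ▸ Subgroup.mem_top p) q (e ▸ Subgroup.mem_top q))
    obtain ⟨y, -, hyA, hy⟩ := exists_above hS hAn le_top htop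
    exact false_of_maximal hS hA hAn hinvA hmax (by omega) ⟨y, hy, hyA⟩
  subst ha
  have hb : 2 ≤ b := by
    by_contra h
    have h2 := hY.exp y₀ ⟨hy₀C, hy₀⟩
    rw [show b = 1 by have := hY.pos; omega, pow_one, pow_two] at h2
    exact hy₀2 h2
  have hAY : A ≤ Y₀ := homo_le hS hA hY hYA hb
  have hA_sq : ∀ w ∈ A, w * w ∈ Z := fun w hw => (hAY hw).2.1
  have hA_com : ∀ w ∈ A, ∀ g, g * w * g⁻¹ * w⁻¹ ∈ Z := fun w hw g => by
    rw [show g * w * g⁻¹ * w⁻¹ = (w * g * w⁻¹ * g⁻¹)⁻¹ by group]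
    exact inv_mem ((hAY hw).2.2 g)
  have hsqA : ∀ g, g * g ∈ A := fun g => centralizer_eq hS hA hAn hinvA hmax le_rfl fun w hw =>
    (sq_comm_inY hS (hAY hw).2 g).symm
  have hcomA : ∀ g h, g * h * g⁻¹ * h⁻¹ ∈ A := fun g h => by
    rw [show g * h * g⁻¹ * h⁻¹ = (g * h * (g * h)) * (h⁻¹ * h⁻¹) * (h * (g⁻¹ * g⁻¹) * h⁻¹) by group]
    exact mul_mem (mul_mem (hsqA _) (hsqA _)) (hAn.conj_mem _ (hsqA _) h)
  have hroot : ∀ e : P, e * e = 1 → ∃ w ∈ A, w * w = e := fun e he => by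
    obtain ⟨w, hw, hwe⟩ := pi_surj hS hA he
    exact ⟨w, hw, by simpa [pow_two] using hwe⟩
  -- the field
  obtain ⟨n, hn⟩ := (hS.isP.to_subgroup Z).exists_card_eq
  let _ : CommGroup Z :=
    { (inferInstance : Group Z) with
      mul_comm := fun u v => Subtype.ext (Subgroup.mem_center_iff.1 v.2 u) }
  obtain ⟨e₁, e₂, he12, he₁, he₁2, he₂, he₂2⟩ := hS.two
  have hn0 : n ≠ 0 := by
    rintro rfl
    have h1 : (⟨e₁, hinvZ _ he₁2⟩ : Z) = 1 := by
      have := (Nat.card_eq_one_iff_unique.1 (hn.trans (pow_zero 2))).1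
      exact Subsingleton.elim _ _
    exact he₁ (congrArg Subtype.val h1)
  let actZ : K →* AddMonoid.End (Additive Z) :=
    { toFun := fun k => MonoidHom.toAdditive
        { toFun := fun z : Z => (⟨(k : MulAut P) (z : P), center_inv hS k z.2⟩ : Z)
          map_one' := Subtype.ext (map_one (k : MulAut P))
          map_mul' := fun z z' => Subtype.ext (map_mul (k : MulAut P) z.1 z'.1) }
      map_one' := AddMonoidHom.ext fun z => rfl
      map_mul' := fun k l => AddMonoidHom.ext fun z => rfl }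
  have hKc : ∀ k l : K, k * l = l * k := fun k l =>
    Subtype.ext (MulEquiv.ext fun x => k_comm hS k l x)
  obtain ⟨e, he1, he, he'⟩ := SuzukiTypeA.field_model hKc actZ (fun v w hv hw => by
      obtain ⟨k, hk, -⟩ := hS.reg (v.toMul : Z).1 (w.toMul : Z).1
        (fun h => hv ((Subtype.ext h : (v.toMul : Z) = 1)))
        (hz2 _ (v.toMul : Z).2)
        (fun h => hw ((Subtype.ext h : (w.toMul : Z) = 1))) (hz2 _ (w.toMul : Z).2)
      refine ⟨k, ?_⟩
      show (_ : Z) = (w.toMul : Z)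
      exact Subtype.ext hk)
    hn0 (show Nat.card (Additive Z) = 2 ^ n from hn)
    (v₀ := Additive.ofMul (⟨e₁, hinvZ _ he₁2⟩ : Z))
    (fun h => he₁ (congrArg (fun v : Additive Z => (v.toMul : Z).1) h))
  let F := GaloisField 2 n
  let _ : Fintype F := Fintype.ofFinite F
  have := finite_aut (F := F)
  let _ : Fintype (F ≃+* F) := Fintype.ofFinite _
  let i : F → P := fun x => ((e x).toMul : Z).1
  have hi : ∀ x z, i (x + z) = i x * i z := fun x z =>
    congrArg (fun v : Additive Z => (v.toMul : Z).1) (map_add e x z)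
  have hi0 : i 0 = 1 := congrArg (fun v : Additive Z => (v.toMul : Z).1) (map_zero e)
  have hiZ : ∀ x, i x ∈ Z := fun x => (e x).toMul.2
  have hi2 : ∀ x, i x * i x = 1 := fun x => hz2 _ (hiZ x)
  have hiinj : Function.Injective i := fun x z h => e.injective (Subtype.ext h)
  have hirange : ∀ p ∈ Z, ∃ x, i x = p := fun p hpZ =>
    ⟨e.symm (Additive.ofMul ⟨p, hpZ⟩), congrArg (fun v : Additive Z => (v.toMul : Z).1)
      (e.apply_symm_apply _)⟩
  choose θ hθ0 hθ using he'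
  have hθi : ∀ k x, i (θ k * x) = (k : MulAut P) (i x) := fun k x =>
    congrArg (fun v : Additive Z => (v.toMul : Z).1) (hθ k x)
  obtain ⟨k₀, hk₀⟩ := hS.cyc.exists_generator
  have hθone : θ 1 = 1 := hiinj (by
    rw [← mul_one (θ 1), hθi, Subgroup.coe_one, MulAut.one_apply])
  have hθpow : ∀ j : ℕ, θ (k₀ ^ j) = θ k₀ ^ j := fun j => by
    induction j with
    | zero => rw [pow_zero, pow_zero, hθone]
    | succ j ih =>
      refine hiinj ?_
      rw [← mul_one (θ (k₀ ^ (j + 1))), hθi, pow_succ', Subgroup.coe_mul, MulAut.mul_apply,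
        ← hθi, mul_one, ← hθi, ih, pow_succ']
  have hgen : ∀ x : F, x ≠ 0 → ∃ j : ℕ, θ k₀ ^ j = x := fun x hx0 => by
    obtain ⟨k, hk⟩ := he x hx0
    have hkx : θ k = x := by
      refine e.injective ?_
      rw [← mul_one (θ k), hθ, ← hk, mul_one]
    obtain ⟨j, rfl⟩ := (Submonoid.mem_powers_iff k k₀).1 (mem_powers_iff_mem_zpowers.2 (hk₀ k))
    exact ⟨j, by rw [← hθpow]; exact hkx⟩
  have hk₀1 : k₀ ≠ 1 := fun h => he12 (by
    obtain ⟨k, hk, -⟩ := hS.reg e₁ e₂ he₁ he₁2 he₂ he₂2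
    obtain ⟨j, rfl⟩ := Subgroup.mem_zpowers_iff.1 (hk₀ k)
    simpa [h] using hk)
  have hθk₀ : θ k₀ ≠ 0 := hθ0 k₀
  -- the commutator maps
  choose r hrA hr using fun x => hroot (i x) (hi2 x)
  choose D hD using fun g x => hirange _ (hA_com (r x) (hrA x) g)
  have hkey : ∀ g w, w ∈ A → ∀ x, w * w = i x → g * w * g⁻¹ * w⁻¹ = i (D g x) := by
    intro g w hw x hwx
    have hz : (r x)⁻¹ * w * ((r x)⁻¹ * w) = 1 := by
      calc (r x)⁻¹ * w * ((r x)⁻¹ * w) = (r x)⁻¹ * (w * (r x)⁻¹) * w := by group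
        _ = (r x)⁻¹ * ((r x)⁻¹ * w) * w := by rw [hAc w hw _ (inv_mem (hrA x))]
        _ = (r x * r x)⁻¹ * (w * w) := by group
        _ = 1 := by rw [hr, hwx, inv_mul_cancel]
    have hc : (r x)⁻¹ * w ∈ Z := hinvZ _ hz
    rw [hD g x]
    calc g * w * g⁻¹ * w⁻¹
        = g * r x * (((r x)⁻¹ * w) * g⁻¹ * ((r x)⁻¹ * w)⁻¹) * (r x)⁻¹ := by group
      _ = g * r x * g⁻¹ * (r x)⁻¹ := by
        rw [← Subgroup.mem_center_iff.1 hc g⁻¹, mul_inv_cancel_right]
  have hDadd : ∀ g x z, D g (x + z) = D g x + D g z := fun g x z => by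
    refine hiinj ?_
    rw [← hkey g _ (mul_mem (hrA x) (hrA z)) (x + z) (by
      calc r x * r z * (r x * r z) = r x * (r z * r x) * r z := by group
        _ = (r x * r x) * (r z * r z) := by rw [hAc _ (hrA z) _ (hrA x)]; group
        _ = _ := by rw [hr, hr, hi]), hi, hD, hD]
    calc g * (r x * r z) * g⁻¹ * (r x * r z)⁻¹
        = g * r x * g⁻¹ * (g * r z * g⁻¹ * (r z)⁻¹) * (r x)⁻¹ := by group
      _ = g * r x * g⁻¹ * ((r x)⁻¹ * (g * r z * g⁻¹ * (r z)⁻¹)) := by
        rw [Subgroup.mem_center_iff.1 (hA_com (r z) (hrA z) g) (r x)⁻¹]; group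
      _ = _ := by group
  have hDmul : ∀ g h x, D (g * h) x = D g x + D h x := fun g h x => by
    refine hiinj ?_
    rw [hi, hD, hD, hD]
    have hh := hA_com (r x) (hrA x) h
    calc g * h * r x * (g * h)⁻¹ * (r x)⁻¹
        = g * (h * r x * h⁻¹ * (r x)⁻¹) * g⁻¹ * (g * r x * g⁻¹ * (r x)⁻¹) := by group
      _ = (h * r x * h⁻¹ * (r x)⁻¹) * (g * r x * g⁻¹ * (r x)⁻¹) := by
        rw [Subgroup.mem_center_iff.1 hh g, mul_inv_cancel_right]
      _ = _ := (Subgroup.mem_center_iff.1 hh _).symm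
  have hDA : ∀ g, g ∈ A ↔ ∀ x, D g x = 0 := fun g => by
    refine ⟨fun hg x => hiinj ?_, fun h => centralizer_eq hS hA hAn hinvA hmax le_rfl fun w hw => ?_⟩
    · rw [hD, hi0, hAc g hg _ (hrA x)]; group
    · obtain ⟨x, hx'⟩ := hirange _ (hA_sq w hw)
      have h1 := hkey g w hw x hx'.symm
      rw [h x, hi0, mul_inv_eq_one, mul_inv_eq_iff_eq_mul] at h1
      exact h1
  have hDk : ∀ (k : K) g x, D ((k : MulAut P) g) (θ k * x) = θ k * D g x := fun k g x => by
    refine hiinj ?_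
    rw [hθi, hD g x, ← hkey ((k : MulAut P) g) _ (hA.inv k _ (hrA x)) (θ k * x) (by
      rw [← map_mul, hr, hθi])]
    simp
  -- the coefficients
  choose c hc using fun g => comb_surjective (F := F) (AddMonoidHom.mk' (D g) (hDadd g))
  have hcD : ∀ g x, D g x = ∑ σ, c g σ * σ x := fun g x => (DFunLike.congr_fun (hc g) x).symm
  have hcmul : ∀ g h, c (g * h) = c g + c h := fun g h => comb_injective (AddMonoidHom.ext fun x => by
    show ∑ σ, c (g * h) σ * σ x = ∑ σ, (c g + c h) σ * σ x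
    simp only [Pi.add_apply, add_mul, Finset.sum_add_distrib, ← hcD, hDmul])
  have hcA : ∀ g, g ∈ A ↔ c g = 0 := fun g => by
    rw [hDA g]
    refine ⟨fun h => comb_injective (AddMonoidHom.ext fun x => ?_), fun h x => by simp [hcD, h]⟩
    show ∑ σ, c g σ * σ x = ∑ σ, (0 : (F ≃+* F) → F) σ * σ x
    simp [← hcD, h x]
  have hck : ∀ g, c (((k₀ : K) : MulAut P) g) = fun σ => chi (θ k₀) σ * c g σ := fun g =>
    comb_injective (AddMonoidHom.ext fun x => by
      show ∑ σ, c (((k₀ : K) : MulAut P) g) σ * σ x = ∑ σ, chi (θ k₀) σ * c g σ * σ x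
      have hx' : x = θ k₀ * ((θ k₀)⁻¹ * x) := by rw [← mul_assoc, mul_inv_cancel₀ hθk₀, one_mul]
      rw [← hcD]
      conv_lhs => rw [hx', hDk, hcD, Finset.mul_sum]
      refine Finset.sum_congr rfl fun σ _ => ?_
      rw [chi, map_mul, map_inv₀]
      ring)
  have hc1 : ∀ g, c g (RingEquiv.refl F) = 0 := fun p => by
    obtain ⟨g, rfl⟩ := exists_inv_mul_map hS hk₀1 p
    have h1 : c g⁻¹ = c g := by
      have := hcmul g⁻¹ g
      rw [inv_mul_cancel, (hcA 1).1 (one_mem A)] at this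
      funext σ
      exact CharTwo.add_eq_zero.1 (congrFun this.symm σ)
    rw [hcmul, Pi.add_apply, hck, h1]
    show c g _ + θ k₀ / θ k₀ * c g _ = 0
    rw [div_self hθk₀, one_mul, CharTwo.add_self_eq_zero]
  let R : AddSubgroup ((F ≃+* F) → F) :=
    { carrier := Set.range c
      add_mem' := by rintro _ _ ⟨g, rfl⟩ ⟨h, rfl⟩; exact ⟨g * h, hcmul g h⟩
      zero_mem' := ⟨1, (hcA 1).1 (one_mem A)⟩
      neg_mem' := by
        rintro _ ⟨g, rfl⟩
        exact ⟨g, by funext σ; exact (CharTwo.neg_eq _).symm⟩ }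
  have hsingle : ∀ g σ, ∃ h, c h = Pi.single σ (c g σ) := fun g σ =>
    single_mem R hgen hθk₀ (by rintro _ ⟨g, rfl⟩; exact ⟨_, hck g⟩)
      (by rintro _ ⟨g, rfl⟩; exact hc1 g) ⟨g, rfl⟩ σ
  let Pure : (F ≃+* F) → P → Prop := fun σ g => ∀ τ, τ ≠ σ → c g τ = 0
  have hDpure : ∀ {σ g}, Pure σ g → ∀ x, D g x = c g σ * σ x := fun {σ g} hg x => by
    rw [hcD]
    exact Finset.sum_eq_single σ (fun τ _ hτ => by rw [hg τ hτ, zero_mul])
      (fun h => absurd (Finset.mem_univ σ) h)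
  have hpure_ne : ∀ {σ g}, Pure σ g → g ∉ A → c g σ ≠ 0 := fun {σ g} hg hgA h0 =>
    hgA ((hcA g).2 (funext fun τ => by
      rcases eq_or_ne τ σ with rfl | hτ
      · exact h0
      · exact hg τ hτ))
  have hpure_sq : ∀ {σ g}, Pure σ g → g * g ∈ Z := fun {σ g} hg => by
    by_cases hgA : g ∈ A
    · exact hA_sq g hgA
    obtain ⟨x, hx'⟩ := hirange _ (hA_sq _ (hsqA g))
    have h1 := hkey g (g * g) (hsqA g) x hx'.symm
    have h2 : i (D g x) = i 0 := by rw [← h1, hi0]; group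
    have h3 := hiinj h2
    rw [hDpure hg, mul_eq_zero] at h3
    have hx0 := (map_eq_zero_iff σ σ.injective).1 (h3.resolve_left (hpure_ne hg hgA))
    exact hinvZ _ (by rw [← hx', hx0, hi0])
  -- squares of commutators
  have hdouble : ∀ g h, g * g ∈ Z → ∀ x, (g * h * g⁻¹ * h⁻¹) * (g * h * g⁻¹ * h⁻¹) = i x →
      D g x = x := by
    intro g h hg x hx'
    have h1 := hkey g _ (hcomA g h) x hx'
    have h2 : (g * g) * h * (g * g)⁻¹ * h⁻¹ = 1 := by
      rw [← Subgroup.mem_center_iff.1 hg h]; group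
    have h3 : i (D g x + x) = i 0 := by
      rw [hi, ← h1, ← hx', hi0, ← h2]; group
    exact CharTwo.add_eq_zero.1 (hiinj h3)
  have hpair : ∀ {σ τ u v}, σ ≠ RingEquiv.refl F → τ ≠ RingEquiv.refl F → Pure σ u → Pure τ v →
      u * v * u⁻¹ * v⁻¹ ∈ Z := by
    intro σ τ u v hσ hτ hu hv
    by_cases huA : u ∈ A
    · rw [show u * v * u⁻¹ * v⁻¹ = (v * u * v⁻¹ * u⁻¹)⁻¹ by group]
      exact inv_mem (hA_com u huA v)
    choose φ hφ using fun g => hirange _ (hA_sq _ (hcomA g v))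
    by_contra hnot
    have hx0 : φ u ≠ 0 := fun h0 => hnot (hinvZ _ (by rw [← hφ, h0, hi0]))
    have hφmul : ∀ g g', φ (g * g') = φ g + φ g' := fun g g' => by
      refine hiinj ?_
      rw [hi, hφ, hφ, hφ]
      set b := g' * v * g'⁻¹ * v⁻¹ with hb'
      set a := g * v * g⁻¹ * v⁻¹ with ha'
      set z := g * b * g⁻¹ * b⁻¹ with hz'
      have hzZ : z ∈ Z := hA_com b (hcomA g' v) g
      have e1 : g * g' * v * (g * g')⁻¹ * v⁻¹ = z * b * a := by
        simp only [hz', hb', ha']; group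
      rw [e1]
      calc z * b * a * (z * b * a) = z * (b * a * z) * (b * a) := by group
        _ = z * (z * (b * a)) * (b * a) := by rw [Subgroup.mem_center_iff.1 hzZ (b * a)]
        _ = (z * z) * (b * (a * b) * a) := by group
        _ = b * (b * a) * a := by rw [hz2 z hzZ, one_mul, hAc a (hcomA g v) b (hcomA g' v)]
        _ = (b * b) * (a * a) := by group
        _ = _ := Subgroup.mem_center_iff.1 (hA_sq _ (hcomA g v)) _
    have hDφ : ∀ g, Pure σ g → c g σ * σ (φ g) = φ g := fun g hg => by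
      rw [← hDpure hg]; exact hdouble g v (hpure_sq hg) _ (hφ g).symm
    have hDv : ∀ g, Pure σ g → c v τ * τ (φ g) = φ g := fun g hg => by
      rw [← hDpure hv]
      refine hdouble v g (hpure_sq hv) _ ?_
      rw [show v * g * v⁻¹ * g⁻¹ = (g * v * g⁻¹ * v⁻¹)⁻¹ by group, ← mul_inv_rev, ← hφ g,
        inv_eq_of_mul_eq_one_right (hi2 (φ g))]
    have hPmul : ∀ g g', Pure σ g → Pure σ g' → Pure σ (g * g') := fun g g' hg hg' τ' hτ' => by
      rw [hcmul, Pi.add_apply, hg τ' hτ', hg' τ' hτ', add_zero]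
    have hker : ∀ g, Pure σ g → φ g = 0 → c g σ = 0 := fun g hg h0 => by
      have h1 := hDφ _ (hPmul u g hu hg)
      rw [hφmul, h0, add_zero, hcmul, Pi.add_apply, add_mul, hDφ u hu, add_eq_left, mul_eq_zero] at h1
      exact h1.resolve_right fun h => hx0 ((map_eq_zero_iff σ σ.injective).1 h)
    let X : AddSubgroup F :=
      { carrier := {x | ∃ g, Pure σ g ∧ c g σ = x}
        add_mem' := by
          rintro _ _ ⟨g, hg, rfl⟩ ⟨g', hg', rfl⟩
          exact ⟨g * g', hPmul g g' hg hg', by rw [hcmul]; rfl⟩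
        zero_mem' := ⟨1, fun τ' _ => congrFun ((hcA 1).1 (one_mem A)) τ',
          congrFun ((hcA 1).1 (one_mem A)) σ⟩
        neg_mem' := by rintro _ ⟨g, hg, rfl⟩; exact ⟨g, hg, (CharTwo.neg_eq _).symm⟩ }
    have hX : X = ⊤ := eq_top_of_mul_mem X hgen hθk₀ hσ (by
      rintro _ ⟨g, hg, rfl⟩
      refine ⟨((k₀ : K) : MulAut P) g, fun τ' hτ' => ?_, by rw [hck]⟩
      rw [hck]; simp [hg τ' hτ']) (x₀ := c u σ) ⟨u, hu, rfl⟩ (hpure_ne hu huA)
    choose G hG hGc using fun x : F => (show x ∈ X from hX ▸ AddSubgroup.mem_top x)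
    have hinj : Function.Injective fun x => φ (G x) := fun x z h => by
      have h1 := hker _ (hPmul _ _ (hG x) (hG z))
        (by rw [hφmul, show φ (G x) = φ (G z) from h, CharTwo.add_self_eq_zero])
      rw [hcmul, Pi.add_apply, hGc, hGc, CharTwo.add_eq_zero] at h1
      exact h1
    have hsurj := Finite.surjective_of_injective hinj
    obtain ⟨x₁, hx₁⟩ := hsurj 1
    have hcv : c v τ = 1 := by
      have := hDv _ (hG x₁)
      rwa [show φ (G x₁) = 1 from hx₁, map_one, mul_one] at this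
    refine hτ (RingEquiv.ext fun z => ?_)
    obtain ⟨x₂, hx₂⟩ := hsurj z
    have := hDv _ (hG x₂)
    rwa [hcv, one_mul, show φ (G x₂) = z from hx₂] at this
  -- the generators
  let T : Set P := {g | g ∈ A ∨ ∃ σ, σ ≠ RingEquiv.refl F ∧ Pure σ g}
  have hT : Subgroup.closure T = ⊤ := by
    rw [eq_top_iff]
    intro g _
    have hsum : ∀ s : Finset (F ≃+* F), ∃ h ∈ Subgroup.closure T,
        c h = fun τ => if τ ∈ s then c g τ else 0 := by
      intro s
      induction s using Finset.induction with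
      | empty => exact ⟨1, one_mem _, by funext τ; simp [(hcA 1).1 (one_mem A)]⟩
      | insert σ s hσs ih =>
        obtain ⟨h, hh, hhc⟩ := ih
        obtain ⟨h', hh'⟩ := hsingle g σ
        refine ⟨h' * h, mul_mem (Subgroup.subset_closure ?_) hh, ?_⟩
        · rcases eq_or_ne σ (RingEquiv.refl F) with rfl | hσ
          · refine Or.inl ((hcA h').2 ?_)
            rw [hh', hc1, Pi.single_zero]
          · exact Or.inr ⟨σ, hσ, fun τ hτ => by rw [hh', Pi.single_eq_of_ne hτ]⟩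
        · funext τ
          rw [hcmul, Pi.add_apply, hh', hhc]
          rcases eq_or_ne τ σ with rfl | hτ
          · simp [hσs]
          · simp [hτ]
    obtain ⟨h, hh, hhc⟩ := hsum Finset.univ
    have hmem : g * h⁻¹ ∈ A := (hcA _).2 (by
      have h1 : c h⁻¹ = c h := by
        have := hcmul h⁻¹ h
        rw [inv_mul_cancel, (hcA 1).1 (one_mem A)] at this
        funext σ
        exact CharTwo.add_eq_zero.1 (congrFun this.symm σ)
      funext τ
      rw [hcmul, Pi.add_apply, h1, hhc]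
      simp [CharTwo.add_self_eq_zero])
    have := mul_mem (Subgroup.subset_closure (Or.inl hmem) : g * h⁻¹ ∈ Subgroup.closure T) hh
    rwa [inv_mul_cancel_right] at this
  have hTT : ∀ u ∈ T, ∀ v ∈ T, u * v * u⁻¹ * v⁻¹ ∈ Z := by
    intro u hu v hv
    rcases hv with hv | ⟨τ, hτ, hv⟩
    · exact hA_com v hv u
    rcases hu with hu | ⟨σ, hσ, hu⟩
    · rw [show u * v * u⁻¹ * v⁻¹ = (v * u * v⁻¹ * u⁻¹)⁻¹ by group]
      exact inv_mem (hA_com u hu v)
    · exact hpair hσ hτ hu hv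
  let Y : Subgroup P :=
    { carrier := {y | InY Z y}
      mul_mem' := fun ha hb => inY_mul hZn ha hb
      one_mem' := inY_of_mem hZn (one_mem Z)
      inv_mem' := fun ha => inY_inv hZn ha }
  have hY : ⊤ ≤ Y := by
    rw [← hT, Subgroup.closure_le]
    intro u hu
    refine ⟨?_, ?_⟩
    · rcases hu with hu | ⟨σ, -, hu⟩
      · exact hA_sq u hu
      · exact hpure_sq hu
    · let H : Subgroup P :=
        { carrier := {h | u * h * u⁻¹ * h⁻¹ ∈ Z}
          mul_mem' := fun {a b} ha hb => by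
            show u * (a * b) * u⁻¹ * (a * b)⁻¹ ∈ Z
            rw [show u * (a * b) * u⁻¹ * (a * b)⁻¹ =
              (u * a * u⁻¹ * a⁻¹) * (a * (u * b * u⁻¹ * b⁻¹) * a⁻¹) by group]
            exact mul_mem ha (hZn.conj_mem _ hb a)
          one_mem' := by show u * 1 * u⁻¹ * 1⁻¹ ∈ Z; simp
          inv_mem' := fun {a} ha => by
            show u * a⁻¹ * u⁻¹ * a⁻¹⁻¹ ∈ Z
            rw [show u * a⁻¹ * u⁻¹ * a⁻¹⁻¹ = a⁻¹ * (u * a * u⁻¹ * a⁻¹)⁻¹ * a⁻¹⁻¹ by group]
            exact hZn.conj_mem _ (inv_mem ha) a⁻¹ }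
      have hH : ⊤ ≤ H := by
        rw [← hT, Subgroup.closure_le]
        exact fun v hv => hTT u hu v hv
      exact fun p => hH (Subgroup.mem_top p)
  exact hx (hY (Subgroup.mem_top x)).1

/-- Commutators are central. -/
theorem commutator_mem_center (x y : P) : x⁻¹ * y⁻¹ * x * y ∈ Subgroup.center P := by
  rw [show x⁻¹ * y⁻¹ * x * y = (x⁻¹ * x⁻¹) * (x * (y⁻¹ * y⁻¹) * x⁻¹) * (x * y * (x * y)) by group]
  exact mul_mem (mul_mem (sq_mem_center hS _)
    ((inferInstance : (Subgroup.center P).Normal).conj_mem _ (sq_mem_center hS _) x))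
    (sq_mem_center hS _)

/-- The exponent is 4. -/
theorem pow_four (x : P) : x ^ 4 = 1 := by
  rw [show 4 = 2 * 2 from rfl, pow_mul, pow_two x, pow_two]
  exact center_sq hS _ (sq_mem_center hS x)

end Cfsg.Agent.SuzukiHigmanClass
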