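import Mathlib

/-!
Relations between sums of two powers of two modulo a large divisor of `2 ^ n - 1`.
-/

set_option autoImplicit false
set_option synthInstance.maxSize 4096

namespace Cfsg.Agent.SuzukiSolvArith31

/-- A sum of two powers of two determines the exponents. -/
theorem two_pow_add_inj {A B C E : ℕ} (h : 2 ^ A + 2 ^ B = 2 ^ C + 2 ^ E) :
    (A = C ∧ B = E) ∨ (A = E ∧ B = C) := by
  wlog hAB : A ≤ B generalizing A B
  · rcases this (A := B) (B := A) (by rw [← h, add_comm]) (le_of_not_ge hAB) with h' | h'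
    · exact Or.inr ⟨h'.2, h'.1⟩
    · exact Or.inl ⟨h'.2, h'.1⟩
  wlog hCE : C ≤ E generalizing C E
  · exact (this (C := E) (E := C) (by rw [h, add_comm]) (le_of_not_ge hCE)).symm
  left
  rcases lt_trichotomy A C with hlt | heq | hgt
  · exfalso
    obtain ⟨b, rfl⟩ : ∃ b, B = A + b := ⟨B - A, by omega⟩
    obtain ⟨c, rfl⟩ : ∃ c, C = A + (c + 1) := ⟨C - A - 1, by omega⟩
    obtain ⟨e, rfl⟩ : ∃ e, E = A + (e + 1) := ⟨E - A - 1, by omega⟩
    simp only [pow_add, ← mul_add, pow_one] at h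
    have h1 : 1 + 2 ^ b = 2 ^ c * 2 + 2 ^ e * 2 :=
      Nat.eq_of_mul_eq_mul_left (pow_pos two_pos A) (by linear_combination h)
    rcases b with _ | b
    · have := Nat.one_le_two_pow (n := c); have := Nat.one_le_two_pow (n := e); omega
    · rw [pow_succ] at h1; omega
  · subst heq
    exact ⟨rfl, Nat.pow_right_injective le_rfl (Nat.add_left_cancel h)⟩
  · exfalso
    obtain ⟨e, rfl⟩ : ∃ e, E = C + e := ⟨E - C, by omega⟩
    obtain ⟨a, rfl⟩ : ∃ a, A = C + (a + 1) := ⟨A - C - 1, by omega⟩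
    obtain ⟨b, rfl⟩ : ∃ b, B = C + (b + 1) := ⟨B - C - 1, by omega⟩
    simp only [pow_add, ← mul_add, pow_one] at h
    have h1 : 2 ^ a * 2 + 2 ^ b * 2 = 1 + 2 ^ e :=
      Nat.eq_of_mul_eq_mul_left (pow_pos two_pos C) (by linear_combination h)
    rcases e with _ | e
    · have := Nat.one_le_two_pow (n := a); have := Nat.one_le_two_pow (n := b); omega
    · rw [pow_succ] at h1; omega

/-- Four residues fit, after a rotation, in an initial segment leaving a quarter free. -/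
theorem exists_rotation {n a b c e : ℕ} (ha : a < n) (hb : b < n) (hc : c < n) (he : e < n) :
    ∃ r, ∀ x, x = a ∨ x = b ∨ x = c ∨ x = e → (x + r) % n ≤ n - (n + 3) / 4 := by
  let G := (n + 3) / 4
  have hG : n ≤ 4 * G ∧ G ≤ n := by simp only [G]; omega
  have sorted : ∀ a b c e : ℕ, a ≤ b → b ≤ c → c ≤ e → e < n →
      ∃ r, (a + r) % n ≤ n - G ∧ (b + r) % n ≤ n - G ∧ (c + r) % n ≤ n - G ∧ (e + r) % n ≤ n - G := by
    intro a b c e hab hbc hce he
    have key : ∀ s, s ≤ n → ∀ x, x < n →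
        (x + (n - s)) % n = if s ≤ x then x - s else x + n - s := by
      intro s hs x hx
      split
      · rw [show x + (n - s) = (x - s) + n by omega, Nat.add_mod_right, Nat.mod_eq_of_lt (by omega)]
      · rw [show x + (n - s) = x + n - s by omega, Nat.mod_eq_of_lt (by omega)]
    rcases Nat.lt_or_ge (b - a) G with h1 | h1
    swap
    · refine ⟨n - b, ?_⟩
      rw [key b (by omega) a (by omega), key b (by omega) b (by omega), key b (by omega) c (by omega),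
        key b (by omega) e he]
      split_ifs <;> omega
    rcases Nat.lt_or_ge (c - b) G with h2 | h2
    swap
    · refine ⟨n - c, ?_⟩
      rw [key c (by omega) a (by omega), key c (by omega) b (by omega), key c (by omega) c (by omega),
        key c (by omega) e he]
      split_ifs <;> omega
    rcases Nat.lt_or_ge (e - c) G with h3 | h3
    swap
    · refine ⟨n - e, ?_⟩
      rw [key e (by omega) a (by omega), key e (by omega) b (by omega), key e (by omega) c (by omega),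
        key e (by omega) e he]
      split_ifs <;> omega
    refine ⟨n - a, ?_⟩
    rw [key a (by omega) a (by omega), key a (by omega) b (by omega), key a (by omega) c (by omega),
      key a (by omega) e he]
    split_ifs <;> omega
  let Good : ℕ → ℕ → ℕ → ℕ → Prop := fun a b c e =>
    ∃ r, (a + r) % n ≤ n - G ∧ (b + r) % n ≤ n - G ∧ (c + r) % n ≤ n - G ∧ (e + r) % n ≤ n - G
  have s1 : ∀ a b c e, Good b a c e → Good a b c e := fun _ _ _ _ ⟨r, h1, h2, h3, h4⟩ => ⟨r, h2, h1, h3, h4⟩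
  have s2 : ∀ a b c e, Good a c b e → Good a b c e := fun _ _ _ _ ⟨r, h1, h2, h3, h4⟩ => ⟨r, h1, h3, h2, h4⟩
  have s3 : ∀ a b c e, Good a b e c → Good a b c e := fun _ _ _ _ ⟨r, h1, h2, h3, h4⟩ => ⟨r, h1, h2, h4, h3⟩
  have t3 : ∀ a b c e, a ≤ b → b ≤ c → a < n → b < n → c < n → e < n → Good a b c e := by
    intro a b c e hab hbc ha hb hc he
    rcases le_total c e with h | h
    · exact sorted a b c e hab hbc h he
    refine s3 _ _ _ _ ?_
    rcases le_total b e with h' | h'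
    · exact sorted a b e c hab h' h hc
    refine s2 _ _ _ _ ?_
    rcases le_total a e with h'' | h''
    · exact sorted a e b c h'' h' hbc hc
    · exact s1 _ _ _ _ (sorted e a b c h'' hab hbc hc)
  have t2 : ∀ a b c e, a ≤ b → a < n → b < n → c < n → e < n → Good a b c e := by
    intro a b c e hab ha hb hc he
    rcases le_total b c with h | h
    · exact t3 a b c e hab h ha hb hc he
    refine s2 _ _ _ _ ?_
    rcases le_total a c with h' | h'
    · exact t3 a c b e h' h ha hc hb he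
    · exact s1 _ _ _ _ (t3 c a b e h' hab hc ha hb he)
  obtain ⟨r, h1, h2, h3, h4⟩ : Good a b c e := by
    rcases le_total a b with h | h
    · exact t2 a b c e h ha hb hc he
    · exact s1 _ _ _ _ (t2 b a c e h hb ha hc he)
  refine ⟨r, ?_⟩
  rintro x (rfl | rfl | rfl | rfl) <;> assumption

variable {n m : ℕ}

/-- The divisor is large. -/
theorem large (hn : 5 ≤ n) (hm : m ∣ 2 ^ n - 1) (hmn : 2 ^ n - 1 ∣ m * n)
    (hex : ¬ (n = 6 ∧ m = 21)) : 2 ^ (n - (n + 3) / 4 + 1) < m := by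
  obtain ⟨d, hd⟩ := hm
  have h2n : 1 < 2 ^ n := Nat.one_lt_two_pow (by omega)
  have hm0 : 0 < m := by
    rcases Nat.eq_zero_or_pos m with rfl | h
    · omega
    · exact h
  have hdn : d ∣ n := by
    rw [hd] at hmn
    exact Nat.dvd_of_mul_dvd_mul_left hm0 hmn
  have hd0 : 0 < d := Nat.pos_of_dvd_of_pos hdn (by omega)
  suffices h : d * 2 ^ (n - (n + 3) / 4 + 1) + 1 < 2 ^ n by
    have h' : d * 2 ^ (n - (n + 3) / 4 + 1) < d * m := by rw [mul_comm d m, ← hd]; omega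
    exact Nat.lt_of_mul_lt_mul_left h'
  rcases Nat.lt_or_ge n 28 with hs | hs
  · have hfin : ∀ N < 28, ∀ D < 28, 5 ≤ N → ¬ (N = 6 ∧ D = 3) → D ∣ N → (2 ^ N - 1) % D = 0 →
        D * 2 ^ (N - (N + 3) / 4 + 1) + 1 < 2 ^ N := by decide
    refine hfin n hs d (lt_of_le_of_lt (Nat.le_of_dvd (by omega) hdn) hs) hn ?_ hdn ?_
    · rintro ⟨rfl, rfl⟩
      exact hex ⟨rfl, by norm_num at hd; omega⟩
    · rw [hd, Nat.mul_mod_left]
  · have hdle : d ≤ n := Nat.le_of_dvd (by omega) hdn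
    have key : ∀ g, 7 ≤ g → 8 * g + 2 ≤ 2 ^ g := by
      intro g hg
      induction g, hg using Nat.le_induction with
      | base => norm_num
      | succ g hg ih => rw [pow_succ]; omega
    obtain ⟨G, hG⟩ : ∃ G, (n + 3) / 4 = G := ⟨_, rfl⟩
    rw [hG]
    have h1 := key G (by omega)
    have h2 : 2 ^ n = 2 ^ G * 2 ^ (n - G) := by rw [← pow_add]; congr 1; omega
    rw [pow_succ, h2]
    have h3 : 1 ≤ 2 ^ (n - G) := Nat.one_le_two_pow
    have h4 : 2 * d + 1 < 8 * G + 2 := by omega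
    nlinarith

theorem modEq_period (hm : m ∣ 2 ^ n - 1) (x : ℕ) : 2 ^ x ≡ 2 ^ (x % n) [MOD m] := by
  have h1 : 2 ^ n ≡ 1 [MOD m] := ((Nat.modEq_iff_dvd' Nat.one_le_two_pow).mpr hm).symm
  conv_lhs => rw [← Nat.mod_add_div x n, pow_add, pow_mul]
  simpa using (Nat.ModEq.refl (2 ^ (x % n))).mul (h1.pow (x / n))

/-- Apart from one exception, equal sums modulo the divisor have equal exponents. -/
theorem rel (hn : 5 ≤ n) (hm : m ∣ 2 ^ n - 1) (hmn : 2 ^ n - 1 ∣ m * n) (hex : ¬ (n = 6 ∧ m = 21))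
    {a b c e : ℕ} (ha : a < n) (hb : b < n) (hc : c < n) (he : e < n)
    (h : 2 ^ a + 2 ^ b ≡ 2 ^ c + 2 ^ e [MOD m]) : (a = c ∧ b = e) ∨ (a = e ∧ b = c) := by
  obtain ⟨r, hr⟩ := exists_rotation ha hb hc he
  have hrot : ∀ x, 2 ^ x * 2 ^ r ≡ 2 ^ ((x + r) % n) [MOD m] := fun x => by
    rw [← pow_add]; exact modEq_period hm _
  have h1 := h.mul_right (2 ^ r)
  rw [add_mul, add_mul] at h1
  have h2 : 2 ^ ((a + r) % n) + 2 ^ ((b + r) % n) ≡ 2 ^ ((c + r) % n) + 2 ^ ((e + r) % n) [MOD m] :=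
    (((hrot a).add (hrot b)).symm.trans h1).trans ((hrot c).add (hrot e))
  have hsmall : ∀ x y, (x = a ∨ x = b ∨ x = c ∨ x = e) → (y = a ∨ y = b ∨ y = c ∨ y = e) →
      2 ^ ((x + r) % n) + 2 ^ ((y + r) % n) < m := fun x y hx hy => by
    refine lt_of_le_of_lt ?_ (large hn hm hmn hex)
    have h3 := Nat.pow_le_pow_right two_pos (hr x hx)
    have h4 := Nat.pow_le_pow_right two_pos (hr y hy)
    rw [pow_succ]; omega
  have h3 := h2.eq_of_lt_of_lt (hsmall a b (by simp) (by simp)) (hsmall c e (by simp) (by simp))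
  have hinj : ∀ x y, x < n → y < n → (x + r) % n = (y + r) % n → x = y := fun x y hx hy hxy => by
    have h5 : x + r ≡ y + r [MOD n] := hxy
    exact h5.add_right_cancel'.eq_of_lt_of_lt hx hy
  rcases two_pow_add_inj h3 with ⟨e1, e2⟩ | ⟨e1, e2⟩
  · exact Or.inl ⟨hinj _ _ ha hc e1, hinj _ _ hb he e2⟩
  · exact Or.inr ⟨hinj _ _ ha he e1, hinj _ _ hb hc e2⟩

/-- The small cases. -/
theorem small_cases (hn2 : 2 ≤ n) (hm : m ∣ 2 ^ n - 1) (hmn : 2 ^ n - 1 ∣ m * n)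
    (hs : ¬ (5 ≤ n ∧ ¬ (n = 6 ∧ m = 21))) :
    (n = 2 ∧ m = 3) ∨ (n = 3 ∧ m = 7) ∨ (n = 4 ∧ m = 15) ∨ (n = 6 ∧ m = 21) := by
  by_cases h5 : 5 ≤ n
  · right; right; right; exact not_not.mp fun h => hs ⟨h5, h⟩
  have hfin : ∀ N < 5, ∀ M < 16, 2 ≤ N → M ∣ 2 ^ N - 1 → 2 ^ N - 1 ∣ M * N →
      (N = 2 ∧ M = 3) ∨ (N = 3 ∧ M = 7) ∨ (N = 4 ∧ M = 15) := by decide
  have hpos : 0 < 2 ^ n - 1 := by
    have : 1 < 2 ^ n := Nat.one_lt_two_pow (by omega)
    omega
  have h16 : 2 ^ n ≤ 16 := (Nat.pow_le_pow_right two_pos (by omega : n ≤ 4)).trans le_rfl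
  have hmle := Nat.le_of_dvd hpos hm
  rcases hfin n (by omega) m (by omega) hn2 hm hmn with h | h | h
  · exact Or.inl h
  · exact Or.inr (Or.inl h)
  · exact Or.inr (Or.inr (Or.inl h))

/-- Non-conjugacy of the characters. -/
theorem conj_rel (hn2 : 2 ≤ n) (hm : m ∣ 2 ^ n - 1) (hmn : 2 ^ n - 1 ∣ m * n) {s t u : ℕ}
    (hs : s < n) (ht : t < n) (hu : u < n) (hs0 : s ≠ 0) (ht0 : t ≠ 0)
    (h : 2 ^ u + 2 ^ t ≡ 2 ^ ((u + s) % n) + 2 ^ 0 [MOD m]) : s = t := by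
  by_cases hb : 5 ≤ n ∧ ¬ (n = 6 ∧ m = 21)
  · rcases rel hb.1 hm hmn hb.2 hu ht (Nat.mod_lt _ (by omega)) (by omega) h with ⟨-, e⟩ | ⟨e, e'⟩
    · exact absurd e ht0
    · subst e
      rw [e', zero_add, Nat.mod_eq_of_lt hs]
  · have hfin : ∀ p ∈ [(2, 3), (3, 7), (4, 15), (6, 21)], ∀ s < p.1, ∀ t < p.1, ∀ u < p.1,
        s ≠ 0 → t ≠ 0 → (2 ^ u + 2 ^ t) % p.2 = (2 ^ ((u + s) % p.1) + 2 ^ 0) % p.2 → s = t := by
      decide
    exact hfin (n, m) (by
      rcases small_cases hn2 hm hmn hb with ⟨rfl, rfl⟩ | ⟨rfl, rfl⟩ | ⟨rfl, rfl⟩ | ⟨rfl, rfl⟩ <;> simp)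
      s hs t ht u hu hs0 ht0 h

/-- Only equal exponents give a bilinear invariant. -/
theorem alt_rel (hn2 : 2 ≤ n) (hm : m ∣ 2 ^ n - 1) (hmn : 2 ^ n - 1 ∣ m * n) {i j : ℕ}
    (hi : i < n) (hj : j < n) (h : 2 ^ i + 2 ^ j ≡ 1 [MOD m]) : i = j := by
  by_cases hb : 5 ≤ n ∧ ¬ (n = 6 ∧ m = 21)
  · have h1 : 2 ^ (n - 1) + 2 ^ (n - 1) ≡ 1 [MOD m] := by
      rw [← two_mul, ← pow_succ', show n - 1 + 1 = n by omega]
      simpa using modEq_period hm n
    rcases rel hb.1 hm hmn hb.2 hi hj (by omega) (by omega) (h.trans h1.symm) with ⟨e, e'⟩ | ⟨e, e'⟩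
    · rw [e, e']
    · rw [e, e']
  · have hfin : ∀ p ∈ [(2, 3), (3, 7), (4, 15), (6, 21)], ∀ i < p.1, ∀ j < p.1,
        (2 ^ i + 2 ^ j) % p.2 = 1 % p.2 → i = j := by decide
    exact hfin (n, m) (by
      rcases small_cases hn2 hm hmn hb with ⟨rfl, rfl⟩ | ⟨rfl, rfl⟩ | ⟨rfl, rfl⟩ | ⟨rfl, rfl⟩ <;> simp)
      i hi j hj h

end Cfsg.Agent.SuzukiSolvArith31
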