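import Cfsg.Agent.Lib.SuzukiSolvModel31

/-!
Higman's theorem for a solvable transitive group of automorphisms, class-two part: every square is
central (after `Lib/SuzukiHigmanClass`).
-/

set_option autoImplicit false

namespace Cfsg.Agent.SuzukiSolvClass31

open Cfsg.Agent.SuzukiSolvGroup31 Cfsg.Agent.AdditiveCharTwo Cfsg.Agent.SuzukiSolvCoeff31
open Cfsg.Agent.SuzukiHigmanCoeff (chi)
open Cfsg.Agent.SuzukiSolvModel31 (Model)

variable {P : Type*} [Group P] [Finite P] {K : Subgroup (MulAut P)} (hS : Setup P K)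
  {F : Type} [Field F] [Fintype F] [CharP F 2] {n : ℕ} {θ : F} {i : F → P}

theorem i_zero {i : F → P} (hi : ∀ x z, i (x + z) = i x * i z) : i 0 = 1 := by
  have := hi 0 0
  rw [add_zero] at this
  exact mul_eq_left.1 this.symm

/-- A proper subfield fixed by an automorphism is small. -/
theorem card_fixed_le {τ : F ≃+* F} (hτ : τ ≠ RingEquiv.refl F) :
    Nat.card {x : F // τ x = x} * Nat.card {x : F // τ x = x} ≤ Nat.card F := by
  obtain ⟨y, hy⟩ : ∃ y, τ y ≠ y := by
    by_contra h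
    exact hτ (RingEquiv.ext fun x => not_not.mp fun hx => h ⟨x, hx⟩)
  rw [← Nat.card_prod]
  refine Nat.card_le_card_of_injective (fun p => p.1.1 + p.2.1 * y) fun p p' h => ?_
  have h' : p.1.1 + p.2.1 * y = p'.1.1 + p'.2.1 * y := h
  by_cases h2 : p.2.1 = p'.2.1
  · rw [h2] at h'
    exact Prod.ext (Subtype.ext (add_right_cancel h')) (Subtype.ext h2)
  · exfalso
    have hne : p.2.1 - p'.2.1 ≠ 0 := sub_ne_zero.mpr h2
    have hy' : y = (p'.1.1 - p.1.1) / (p.2.1 - p'.2.1) := by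
      rw [eq_div_iff hne]; linear_combination h'
    exact hy (by rw [hy', map_div₀, map_sub, map_sub, p.1.2, p.2.2, p'.1.2, p'.2.2])

include hS

omit hS in
/-- The scalar automorphism has no fixed points. -/
theorem eq_one_of_fixed (hP : IsPGroup 2 P) (hM : Model K F n θ i) {k : K}
    (hk : ∀ x, i (θ * x) = (k : MulAut P) (i x)) {g : P} (h : (k : MulAut P) g = g) : g = 1 := by
  by_contra hg
  classical
  have hex : ∃ j : ℕ, g ^ 2 ^ j = 1 := hP g
  obtain ⟨j, hj⟩ : ∃ j, Nat.find hex = j + 1 := by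
    refine Nat.exists_eq_succ_of_ne_zero fun h0 => hg ?_
    have := Nat.find_spec hex
    rwa [h0, pow_zero, pow_one] at this
  have h2 := Nat.find_spec hex
  rw [hj, pow_succ, pow_mul, pow_two] at h2
  have h1 : g ^ 2 ^ j ≠ 1 := Nat.find_min hex (by omega)
  obtain ⟨x, hx⟩ := hM.range _ h2
  have h3 := hk x
  rw [hx, map_pow, h, ← hx] at h3
  have h4 : (θ - 1) * x = 0 := by linear_combination hM.inj h3
  rcases mul_eq_zero.1 h4 with h5 | h5
  · exact hM.data.ne_one (sub_eq_zero.1 h5)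
  · exact h1 (by rw [← hx, h5, i_zero hM.add])

include hS

omit [Finite P] in
theorem center_inv (k : K) {x : P} (hx : x ∈ Subgroup.center P) :
    (k : MulAut P) x ∈ Subgroup.center P := by
  rw [Subgroup.mem_center_iff]
  intro g
  have := congrArg (k : MulAut P) (Subgroup.mem_center_iff.1 hx ((k : MulAut P).symm g))
  simpa using this

/-- `g⁻¹ k g` runs over the whole group. -/
theorem exists_inv_mul_map (hM : Model K F n θ i) {k : K}
    (hk : ∀ x, i (θ * x) = (k : MulAut P) (i x)) (p : P) :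
    ∃ g : P, g⁻¹ * (k : MulAut P) g = p := by
  have hinj : Function.Injective fun g : P => g⁻¹ * (k : MulAut P) g := fun g g' h => by
    have : (k : MulAut P) (g' * g⁻¹) = g' * g⁻¹ := by
      rw [map_mul, map_inv]
      calc (k : MulAut P) g' * ((k : MulAut P) g)⁻¹
          = g' * (g'⁻¹ * (k : MulAut P) g') * (g⁻¹ * (k : MulAut P) g)⁻¹ * g⁻¹ := by group
        _ = g' * g⁻¹ := by rw [show g⁻¹ * (k : MulAut P) g = g'⁻¹ * (k : MulAut P) g' from h]; group
    exact (mul_inv_eq_one.1 (eq_one_of_fixed hS.isP hM hk this)).symm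
  exact Finite.surjective_of_injective hinj p

/-- Two squares commuting with the `InY` elements: `g²` centralises `InY Z`. -/
theorem sq_comm_inY {y : P} (hy : InY (Subgroup.center P) y) (g : P) :
    y * (g * g) = g * g * y := by
  set c := y * g * y⁻¹ * g⁻¹ with hcdef
  have hc : c ∈ Subgroup.center P := hy.2 g
  have hg : y * g = c * g * y := by simp only [hcdef]; group
  calc y * (g * g) = (y * g) * g := by group
    _ = c * g * (y * g) := by conv_lhs => rw [hg]
                              group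
    _ = c * (g * c) * g * y := by rw [hg]; group
    _ = c * (c * g) * g * y := by rw [Subgroup.mem_center_iff.1 hc g]
    _ = (c * c) * (g * g) * y := by group
    _ = _ := by rw [center_sq hS c hc, one_mul]

/-- Squares are central, by contradiction. -/
theorem sq_mem_center (hM : Model K F n θ i) (x : P) : x * x ∈ Subgroup.center P := by
  classical
  by_contra hx
  set Z := Subgroup.center P with hZdef
  have hZn : Z.Normal := inferInstance
  have hz2 := center_sq hS
  have hinvZ : ∀ e : P, e * e = 1 → e ∈ Z := fun e he => mem_center_of_invol hS he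
  -- the subgroup generated by the squares and the centre
  set C := Subgroup.closure ((Set.range fun g : P => g * g) ∪ (Z : Set P)) with hC
  have hZC : Z ≤ C := fun z hz => Subgroup.subset_closure (Or.inr hz)
  have hsqC : ∀ g, g * g ∈ C := fun g => Subgroup.subset_closure (Or.inl ⟨g, rfl⟩)
  have hCmap : ∀ f : MulAut P, (∀ z ∈ Z, f z ∈ Z) → ∀ c ∈ C, f c ∈ C := fun f hf c hc => by
    induction hc using Subgroup.closure_induction with
    | mem c hc =>
      rcases hc with ⟨g, rfl⟩ | hc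
      · rw [map_mul]; exact hsqC _
      · exact hZC (hf c hc)
    | one => rw [map_one]; exact one_mem _
    | mul a b _ _ ha hb => rw [map_mul]; exact mul_mem ha hb
    | inv a _ ha => rw [map_inv]; exact inv_mem ha
  have hCn : C.Normal := ⟨fun c hc g =>
    hCmap (MulAut.conj g) (fun z hz => hZn.conj_mem z hz g) c hc⟩
  have hCcomm : ∀ y, InY Z y → ∀ c ∈ C, y * c = c * y := fun y hy c hc => by
    induction hc using Subgroup.closure_induction with
    | mem c hc =>
      rcases hc with ⟨g, rfl⟩ | hc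
      · exact sq_comm_inY hS hy g
      · exact Subgroup.mem_center_iff.1 hc y
    | one => simp
    | mul a b _ _ ha hb => exact Commute.mul_right (show Commute y a from ha) hb
    | inv a _ ha => exact Commute.inv_right (show Commute y a from ha)
  have hne : C ≠ Z := fun h => hx (h ▸ hsqC x)
  obtain ⟨y₀, hy₀C, hy₀Z, hy₀⟩ := exists_above hS hZn hZC hne
  -- the subgroup `Y₀`
  let Y₀ : Subgroup P :=
    { carrier := {y | y ∈ C ∧ InY Z y}
      mul_mem' := fun ha hb => ⟨mul_mem ha.1 hb.1, inY_mul hZn ha.2 hb.2⟩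
      one_mem' := ⟨one_mem C, inY_of_mem hZn (one_mem Z)⟩
      inv_mem' := fun ha => ⟨inv_mem ha.1, inY_inv hZn ha.2⟩ }
  have hY₀c : ∀ a ∈ Y₀, ∀ b ∈ Y₀, a * b = b * a := fun a ha b hb => hCcomm a ha.2 b hb.1
  have hY₀k : ∀ k : K, ∀ a ∈ Y₀, (k : MulAut P) a ∈ Y₀ := fun k a ha =>
    ⟨hCmap _ (fun z hz => center_inv hS k hz) a ha.1,
      inY_map hZn (fun k z hz => center_inv hS k hz) k ha.2⟩
  have hZY₀ : Z ≤ Y₀ := fun z hz => ⟨hZC hz, inY_of_mem hZn hz⟩
  have hY₀n : Y₀.Normal := ⟨fun a ha g => ⟨hCn.conj_mem a ha.1 g, by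
    rw [show g * a * g⁻¹ = (a * g * a⁻¹ * g⁻¹)⁻¹ * a by group]
    exact inY_mul hZn (inY_of_mem hZn (inv_mem (ha.2.2 g))) ha.2⟩⟩
  let S : Set (Subgroup P) := {A | A.Normal ∧ Y₀ ≤ A ∧
    (∀ a ∈ A, ∀ b ∈ A, a * b = b * a) ∧ ∀ k : K, ∀ a ∈ A, (k : MulAut P) a ∈ A}
  obtain ⟨A, ⟨hAn, hYA, hAc, hAk⟩, hmaxA⟩ := (Set.toFinite S).exists_maximal
    ⟨Y₀, hY₀n, le_rfl, hY₀c, hY₀k⟩
  have hy₀A : y₀ ∈ A := hYA ⟨hy₀C, hy₀⟩
  have hy₀2 : y₀ * y₀ ≠ 1 := fun h => hy₀Z (hinvZ _ h)
  obtain ⟨a, hA⟩ := exists_homo hS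
    (fun h => hy₀2 (by rw [h, Subgroup.mem_bot] at hy₀A; rw [hy₀A, one_mul])) hAc hAk
  obtain ⟨b, hY⟩ := exists_homo hS (A := Y₀)
    (fun h => hy₀2 (by
      have h1 : y₀ ∈ Y₀ := ⟨hy₀C, hy₀⟩
      rw [h, Subgroup.mem_bot] at h1; rw [h1, one_mul])) hY₀c hY₀k
  have hinvA : ∀ e : P, e * e = 1 → e ∈ A := fun e he => hYA (hZY₀ (hinvZ e he))
  have hmax : ∀ B : Subgroup P, B.Normal → A ≤ B → (∀ x ∈ B, ∀ y ∈ B, x * y = y * x) →
      (∀ k : K, ∀ x ∈ B, (k : MulAut P) x ∈ B) → B = A :=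
    fun B hB hle hc hk => le_antisymm (hmaxA ⟨hB, hYA.trans hle, hc, hk⟩ hle) hle
  have ha : a = 2 := by
    have h1 : 2 ≤ a := by
      by_contra h
      have h2 := hA.exp y₀ hy₀A
      rw [show a = 1 by have := hA.pos; omega, pow_one, pow_two] at h2
      exact hy₀2 h2
    by_contra h
    have htop : (⊤ : Subgroup P) ≠ A := fun e => by
      obtain ⟨p, q, hpq⟩ := hS.noncomm
      exact hpq (hAc p (e ▸ Subgroup.mem_top p) q (e ▸ Subgroup.mem_top q))
    obtain ⟨y, -, hyA, hy⟩ := exists_above hS hAn le_top htop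
    exact false_of_maximal hS hA hAn hinvA hmax (by omega) ⟨y, hy, hyA⟩
  subst ha
  have hb : 2 ≤ b := by
    by_contra h
    have h2 := hY.exp y₀ ⟨hy₀C, hy₀⟩
    rw [show b = 1 by have := hY.pos; omega, pow_one, pow_two] at h2
    exact hy₀2 h2
  have hAY : A ≤ Y₀ := homo_le hS hA hY hYA hb
  have hA_sq : ∀ w ∈ A, w * w ∈ Z := fun w hw => (hAY hw).2.1
  have hA_com : ∀ w ∈ A, ∀ g, g * w * g⁻¹ * w⁻¹ ∈ Z := fun w hw g => by
    rw [show g * w * g⁻¹ * w⁻¹ = (w * g * w⁻¹ * g⁻¹)⁻¹ by group]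
    exact inv_mem ((hAY hw).2.2 g)
  have hsqA : ∀ g, g * g ∈ A := fun g => centralizer_eq hS hA hAn hinvA hmax le_rfl fun w hw =>
    (sq_comm_inY hS (hAY hw).2 g).symm
  have hcomA : ∀ g h, g * h * g⁻¹ * h⁻¹ ∈ A := fun g h => by
    rw [show g * h * g⁻¹ * h⁻¹ = (g * h * (g * h)) * (h⁻¹ * h⁻¹) * (h * (g⁻¹ * g⁻¹) * h⁻¹) by group]
    exact mul_mem (mul_mem (hsqA _) (hsqA _)) (hAn.conj_mem _ (hsqA _) h)
  have hroot : ∀ e : P, e * e = 1 → ∃ w ∈ A, w * w = e := fun e he => by
    obtain ⟨w, hw, hwe⟩ := pi_surj hS hA he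
    exact ⟨w, hw, by simpa [pow_two] using hwe⟩
  -- the field
  have := finite_aut (F := F)
  let _ : Fintype (F ≃+* F) := Fintype.ofFinite _
  have hi := hM.add
  have hi0 : i 0 = 1 := i_zero hi
  have hi2 := hM.sq
  have hiZ : ∀ x, i x ∈ Z := fun x => hinvZ _ (hi2 x)
  have hiinj := hM.inj
  have hirange : ∀ p ∈ Z, ∃ x, i x = p := fun p hpZ => hM.range p (hz2 p hpZ)
  obtain ⟨k₀, hθi⟩ := hM.scal
  have hθk₀ : θ ≠ 0 := hM.data.ne
  -- the commutator maps
  choose r hrA hr using fun x => hroot (i x) (hi2 x)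
  choose D hD using fun g x => hirange _ (hA_com (r x) (hrA x) g)
  have hkey : ∀ g w, w ∈ A → ∀ x, w * w = i x → g * w * g⁻¹ * w⁻¹ = i (D g x) := by
    intro g w hw x hwx
    have hz : (r x)⁻¹ * w * ((r x)⁻¹ * w) = 1 := by
      calc (r x)⁻¹ * w * ((r x)⁻¹ * w) = (r x)⁻¹ * (w * (r x)⁻¹) * w := by group
        _ = (r x)⁻¹ * ((r x)⁻¹ * w) * w := by rw [hAc w hw _ (inv_mem (hrA x))]
        _ = (r x * r x)⁻¹ * (w * w) := by group
        _ = 1 := by rw [hr, hwx, inv_mul_cancel]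
    have hc : (r x)⁻¹ * w ∈ Z := hinvZ _ hz
    rw [hD g x]
    calc g * w * g⁻¹ * w⁻¹
        = g * r x * (((r x)⁻¹ * w) * g⁻¹ * ((r x)⁻¹ * w)⁻¹) * (r x)⁻¹ := by group
      _ = g * r x * g⁻¹ * (r x)⁻¹ := by
        rw [← Subgroup.mem_center_iff.1 hc g⁻¹, mul_inv_cancel_right]
  have hDadd : ∀ g x z, D g (x + z) = D g x + D g z := fun g x z => by
    refine hiinj ?_
    rw [← hkey g _ (mul_mem (hrA x) (hrA z)) (x + z) (by
      calc r x * r z * (r x * r z) = r x * (r z * r x) * r z := by group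
        _ = (r x * r x) * (r z * r z) := by rw [hAc _ (hrA z) _ (hrA x)]; group
        _ = _ := by rw [hr, hr, hi]), hi, hD, hD]
    calc g * (r x * r z) * g⁻¹ * (r x * r z)⁻¹
        = g * r x * g⁻¹ * (g * r z * g⁻¹ * (r z)⁻¹) * (r x)⁻¹ := by group
      _ = g * r x * g⁻¹ * ((r x)⁻¹ * (g * r z * g⁻¹ * (r z)⁻¹)) := by
        rw [Subgroup.mem_center_iff.1 (hA_com (r z) (hrA z) g) (r x)⁻¹]; group
      _ = _ := by group
  have hDmul : ∀ g h x, D (g * h) x = D g x + D h x := fun g h x => by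
    refine hiinj ?_
    rw [hi, hD, hD, hD]
    have hh := hA_com (r x) (hrA x) h
    calc g * h * r x * (g * h)⁻¹ * (r x)⁻¹
        = g * (h * r x * h⁻¹ * (r x)⁻¹) * g⁻¹ * (g * r x * g⁻¹ * (r x)⁻¹) := by group
      _ = (h * r x * h⁻¹ * (r x)⁻¹) * (g * r x * g⁻¹ * (r x)⁻¹) := by
        rw [Subgroup.mem_center_iff.1 hh g, mul_inv_cancel_right]
      _ = _ := (Subgroup.mem_center_iff.1 hh _).symm
  have hDA : ∀ g, g ∈ A ↔ ∀ x, D g x = 0 := fun g => by
    refine ⟨fun hg x => hiinj ?_, fun h => centralizer_eq hS hA hAn hinvA hmax le_rfl fun w hw => ?_⟩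
    · rw [hD, hi0, hAc g hg _ (hrA x)]; group
    · obtain ⟨x, hx'⟩ := hirange _ (hA_sq w hw)
      have h1 := hkey g w hw x hx'.symm
      rw [h x, hi0, mul_inv_eq_one, mul_inv_eq_iff_eq_mul] at h1
      exact h1
  have hDk : ∀ (k : K) (a : F) (ρ : F ≃+* F), (∀ x, i (a * ρ x) = (k : MulAut P) (i x)) →
      ∀ g x, D ((k : MulAut P) g) (a * ρ x) = a * ρ (D g x) := fun k a ρ hka g x => by
    refine hiinj ?_
    rw [hka, hD g x, ← hkey ((k : MulAut P) g) _ (hA.inv k _ (hrA x)) (a * ρ x) (by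
      rw [← map_mul, hr, hka])]
    simp
  -- the coefficients
  choose c hc using fun g => comb_surjective (F := F) (AddMonoidHom.mk' (D g) (hDadd g))
  have hcD : ∀ g x, D g x = ∑ σ, c g σ * σ x := fun g x => (DFunLike.congr_fun (hc g) x).symm
  have hcmul : ∀ g h, c (g * h) = c g + c h := fun g h => comb_injective (AddMonoidHom.ext fun x => by
    show ∑ σ, c (g * h) σ * σ x = ∑ σ, (c g + c h) σ * σ x
    simp only [Pi.add_apply, add_mul, Finset.sum_add_distrib, ← hcD, hDmul])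
  have hcA : ∀ g, g ∈ A ↔ c g = 0 := fun g => by
    rw [hDA g]
    refine ⟨fun h => comb_injective (AddMonoidHom.ext fun x => ?_), fun h x => by simp [hcD, h]⟩
    show ∑ σ, c g σ * σ x = ∑ σ, (0 : (F ≃+* F) → F) σ * σ x
    simp [← hcD, h x]
  have hck : ∀ g, c (((k₀ : K) : MulAut P) g) = fun σ => chi (θ) σ * c g σ := fun g =>
    comb_injective (AddMonoidHom.ext fun x => by
      show ∑ σ, c (((k₀ : K) : MulAut P) g) σ * σ x = ∑ σ, chi (θ) σ * c g σ * σ x
      have hx' : x = θ * ((θ)⁻¹ * x) := by rw [← mul_assoc, mul_inv_cancel₀ hθk₀, one_mul]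
      rw [← hcD]
      conv_lhs => rw [hx']
      have hDθ := hDk k₀ θ (RingEquiv.refl F) (fun x => by rw [RingEquiv.refl_apply]; exact hθi x)
      simp only [RingEquiv.refl_apply] at hDθ
      rw [hDθ, hcD, Finset.mul_sum]
      refine Finset.sum_congr rfl fun σ _ => ?_
      rw [chi, map_mul, map_inv₀]
      ring)
  have hc1 : ∀ g, c g (RingEquiv.refl F) = 0 := fun p => by
    obtain ⟨g, rfl⟩ := exists_inv_mul_map hS hM hθi p
    have h1 : c g⁻¹ = c g := by
      have := hcmul g⁻¹ g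
      rw [inv_mul_cancel, (hcA 1).1 (one_mem A)] at this
      funext σ
      exact CharTwo.add_eq_zero.1 (congrFun this.symm σ)
    rw [hcmul, Pi.add_apply, hck, h1]
    show c g _ + θ / θ * c g _ = 0
    rw [div_self hθk₀, one_mul, CharTwo.add_self_eq_zero]
  let R : AddSubgroup ((F ≃+* F) → F) :=
    { carrier := Set.range c
      add_mem' := by rintro _ _ ⟨g, rfl⟩ ⟨h, rfl⟩; exact ⟨g * h, hcmul g h⟩
      zero_mem' := ⟨1, (hcA 1).1 (one_mem A)⟩
      neg_mem' := by
        rintro _ ⟨g, rfl⟩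
        exact ⟨g, by funext σ; exact (CharTwo.neg_eq _).symm⟩ }
  have hsingle : ∀ g σ, ∃ h, c h = Pi.single σ (c g σ) := fun g σ =>
    single_mem R hM.data (by rintro _ ⟨g, rfl⟩; exact ⟨_, hck g⟩)
      (by rintro _ ⟨g, rfl⟩; exact hc1 g) ⟨g, rfl⟩ σ
  let Pure : (F ≃+* F) → P → Prop := fun σ g => ∀ τ, τ ≠ σ → c g τ = 0
  have hDpure : ∀ {σ g}, Pure σ g → ∀ x, D g x = c g σ * σ x := fun {σ g} hg x => by
    rw [hcD]
    exact Finset.sum_eq_single σ (fun τ _ hτ => by rw [hg τ hτ, zero_mul])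
      (fun h => absurd (Finset.mem_univ σ) h)
  have hpure_ne : ∀ {σ g}, Pure σ g → g ∉ A → c g σ ≠ 0 := fun {σ g} hg hgA h0 =>
    hgA ((hcA g).2 (funext fun τ => by
      rcases eq_or_ne τ σ with rfl | hτ
      · exact h0
      · exact hg τ hτ))
  have hpure_sq : ∀ {σ g}, Pure σ g → g * g ∈ Z := fun {σ g} hg => by
    by_cases hgA : g ∈ A
    · exact hA_sq g hgA
    obtain ⟨x, hx'⟩ := hirange _ (hA_sq _ (hsqA g))
    have h1 := hkey g (g * g) (hsqA g) x hx'.symm
    have h2 : i (D g x) = i 0 := by rw [← h1, hi0]; group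
    have h3 := hiinj h2
    rw [hDpure hg, mul_eq_zero] at h3
    have hx0 := (map_eq_zero_iff σ σ.injective).1 (h3.resolve_left (hpure_ne hg hgA))
    exact hinvZ _ (by rw [← hx', hx0, hi0])
  -- squares of commutators
  have hdouble : ∀ g h, g * g ∈ Z → ∀ x, (g * h * g⁻¹ * h⁻¹) * (g * h * g⁻¹ * h⁻¹) = i x →
      D g x = x := by
    intro g h hg x hx'
    have h1 := hkey g _ (hcomA g h) x hx'
    have h2 : (g * g) * h * (g * g)⁻¹ * h⁻¹ = 1 := by
      rw [← Subgroup.mem_center_iff.1 hg h]; group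
    have h3 : i (D g x + x) = i 0 := by
      rw [hi, ← h1, ← hx', hi0, ← h2]; group
    exact CharTwo.add_eq_zero.1 (hiinj h3)
  have hpair : ∀ {σ τ u v}, σ ≠ RingEquiv.refl F → τ ≠ RingEquiv.refl F → Pure σ u → Pure τ v →
      u * v * u⁻¹ * v⁻¹ ∈ Z := by
    intro σ τ u v hσ hτ hu hv
    by_cases huA : u ∈ A
    · rw [show u * v * u⁻¹ * v⁻¹ = (v * u * v⁻¹ * u⁻¹)⁻¹ by group]
      exact inv_mem (hA_com u huA v)
    choose φ hφ using fun g => hirange _ (hA_sq _ (hcomA g v))
    by_contra hnot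
    have hx0 : φ u ≠ 0 := fun h0 => hnot (hinvZ _ (by rw [← hφ, h0, hi0]))
    have hφmul : ∀ g g', φ (g * g') = φ g + φ g' := fun g g' => by
      refine hiinj ?_
      rw [hi, hφ, hφ, hφ]
      set b := g' * v * g'⁻¹ * v⁻¹ with hb'
      set a := g * v * g⁻¹ * v⁻¹ with ha'
      set z := g * b * g⁻¹ * b⁻¹ with hz'
      have hzZ : z ∈ Z := hA_com b (hcomA g' v) g
      have e1 : g * g' * v * (g * g')⁻¹ * v⁻¹ = z * b * a := by
        simp only [hz', hb', ha']; group
      rw [e1]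
      calc z * b * a * (z * b * a) = z * (b * a * z) * (b * a) := by group
        _ = z * (z * (b * a)) * (b * a) := by rw [Subgroup.mem_center_iff.1 hzZ (b * a)]
        _ = (z * z) * (b * (a * b) * a) := by group
        _ = b * (b * a) * a := by rw [hz2 z hzZ, one_mul, hAc a (hcomA g v) b (hcomA g' v)]
        _ = (b * b) * (a * a) := by group
        _ = _ := Subgroup.mem_center_iff.1 (hA_sq _ (hcomA g v)) _
    have hDφ : ∀ g, Pure σ g → c g σ * σ (φ g) = φ g := fun g hg => by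
      rw [← hDpure hg]; exact hdouble g v (hpure_sq hg) _ (hφ g).symm
    have hDv : ∀ g, Pure σ g → c v τ * τ (φ g) = φ g := fun g hg => by
      rw [← hDpure hv]
      refine hdouble v g (hpure_sq hv) _ ?_
      rw [show v * g * v⁻¹ * g⁻¹ = (g * v * g⁻¹ * v⁻¹)⁻¹ by group, ← mul_inv_rev, ← hφ g,
        inv_eq_of_mul_eq_one_right (hi2 (φ g))]
    have hPmul : ∀ g g', Pure σ g → Pure σ g' → Pure σ (g * g') := fun g g' hg hg' τ' hτ' => by
      rw [hcmul, Pi.add_apply, hg τ' hτ', hg' τ' hτ', add_zero]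
    have hker : ∀ g, Pure σ g → φ g = 0 → c g σ = 0 := fun g hg h0 => by
      have h1 := hDφ _ (hPmul u g hu hg)
      rw [hφmul, h0, add_zero, hcmul, Pi.add_apply, add_mul, hDφ u hu, add_eq_left, mul_eq_zero] at h1
      exact h1.resolve_right fun h => hx0 ((map_eq_zero_iff σ σ.injective).1 h)
    have hker : ∀ g, Pure σ g → φ g = 0 → g ∈ A := fun g hg h0 => (hcA g).2 (funext fun τ' => by
      rcases eq_or_ne τ' σ with rfl | hτ'
      · exact hker g hg h0
      · exact hg τ' hτ')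
    -- commuting Galois group
    have hcom : ∀ (ρ π : F ≃+* F) x, ρ (π x) = π (ρ x) := fun ρ π x => by
      obtain ⟨s, -, hs⟩ := exists_exponent hM.data ρ
      obtain ⟨t, -, ht⟩ := exists_exponent hM.data π
      rw [hs, ht, hs, ht, ← pow_mul, ← pow_mul, mul_comm]
    have hPk : ∀ (k : K) π g, Pure π g → Pure π ((k : MulAut P) g) := by
      intro k π g hg
      obtain ⟨a, ρ, ha, hka⟩ := hM.semi k
      have h1 : c ((k : MulAut P) g) = fun τ' => if τ' = π then a * ρ (c g π) / π a else 0 :=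
        comb_injective (AddMonoidHom.ext fun y => by
          show ∑ τ', c ((k : MulAut P) g) τ' * τ' y =
            ∑ τ', (if τ' = π then a * ρ (c g π) / π a else 0) * τ' y
          rw [← hcD]
          have hy : y = a * ρ (ρ.symm (y / a)) := by
            rw [RingEquiv.apply_symm_apply, mul_div_cancel₀ _ ha]
          conv_lhs => rw [hy, hDk k a ρ hka, hDpure hg, map_mul, hcom ρ π, RingEquiv.apply_symm_apply,
            map_div₀]
          simp only [ite_mul, zero_mul, Finset.sum_ite_eq', Finset.mem_univ, if_true]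
          ring)
      intro τ' hτ'
      rw [h1]
      exact if_neg hτ'
    -- the squared commutators cover the centre
    have hcover : ∀ z : F, z ≠ 0 → ∃ r s : F, (σ r = r ∧ r ≠ 0) ∧ (τ s = s ∧ s ≠ 0) ∧
        z = φ u * s * r := by
      intro z hz
      obtain ⟨k, hk⟩ := hS.trans (i (φ u)) (i z)
        (fun h => hx0 (hiinj (h.trans hi0.symm))) (hi2 _)
        (fun h => hz (hiinj (h.trans hi0.symm))) (hi2 _)
      set g := (k : MulAut P) u with hgdef
      set w := (k : MulAut P) v with hwdef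
      have hg : Pure σ g := hPk k σ u hu
      have hw : Pure τ w := hPk k τ v hv
      have hgA : g ∉ A := fun h => huA (by simpa [hgdef, ← MulAut.mul_apply] using hA.inv k⁻¹ _ h)
      have hzsq : g * w * g⁻¹ * w⁻¹ * (g * w * g⁻¹ * w⁻¹) = i z := by
        rw [← hk, hφ u, hgdef, hwdef]; simp
      have hz1 : φ g ≠ 0 := fun h => hgA (hker g hg h)
      have e1 : c g σ * σ z = z := by
        rw [← hDpure hg]; exact hdouble g w (hpure_sq hg) _ hzsq
      have e2 : c v τ * τ (φ g) = φ g := hDv g hg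
      have e3 : c v τ * τ (φ u) = φ u := hDv u hu
      have e4 : c g σ * σ (φ g) = φ g := hDφ g hg
      have hcg : c g σ ≠ 0 := hpure_ne hg hgA
      have hcv : c v τ ≠ 0 := fun h => hx0 (by rw [← e3, h, zero_mul])
      refine ⟨z / φ g, φ g / φ u, ⟨?_, div_ne_zero hz hz1⟩, ⟨?_, div_ne_zero hz1 hx0⟩, ?_⟩
      · conv_rhs => rw [← e1, ← e4]
        rw [map_div₀, mul_div_mul_left _ _ hcg]
      · conv_rhs => rw [← e2, ← e3]
        rw [map_div₀, mul_div_mul_left _ _ hcv]
      · field_simp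
    -- counting
    have h1 := card_fixed_le hσ
    have h2 := card_fixed_le hτ
    classical
    let Sσ := (Finset.univ : Finset F).filter fun x => σ x = x ∧ x ≠ 0
    let Sτ := (Finset.univ : Finset F).filter fun x => τ x = x ∧ x ≠ 0
    have hSc : ∀ π : F ≃+* F, ((Finset.univ : Finset F).filter fun x => π x = x ∧ x ≠ 0).card + 1 =
        Nat.card {x : F // π x = x} := by
      intro π
      have : ((Finset.univ : Finset F).filter fun x => π x = x ∧ x ≠ 0) =
          ((Finset.univ : Finset F).filter fun x => π x = x).erase 0 := by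
        ext x; simp [and_comm]
      rw [this, Finset.card_erase_add_one (by simp), Nat.card_eq_fintype_card, Fintype.card_subtype]
    have h3 : ((Finset.univ : Finset F).erase 0).card ≤ (Sσ ×ˢ Sτ).card := by
      refine Finset.card_le_card_of_surjOn (fun p => φ u * p.2 * p.1) ?_
      intro z hz
      obtain ⟨r, s, hr', hs', e⟩ := hcover z (Finset.ne_of_mem_erase hz)
      exact ⟨(r, s), by simp [Sσ, Sτ, hr', hs'], e.symm⟩
    rw [Finset.card_product, Finset.card_erase_of_mem (Finset.mem_univ _), Finset.card_univ] at h3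
    rw [← hSc σ, Nat.card_eq_fintype_card (α := F)] at h1
    rw [← hSc τ, Nat.card_eq_fintype_card (α := F)] at h2
    have h4 : 4 ≤ Fintype.card F := by
      rw [hM.data.card]
      exact le_trans (by norm_num) (Nat.pow_le_pow_right two_pos hM.data.two_le)
    have hσ1 : 1 ≤ Sσ.card := Finset.card_pos.2 ⟨1, by simp [Sσ]⟩
    have hτ1 : 1 ≤ Sτ.card := Finset.card_pos.2 ⟨1, by simp [Sτ]⟩
    change Fintype.card F - 1 ≤ Sσ.card * Sτ.card at h3
    change (Sσ.card + 1) * (Sσ.card + 1) ≤ Fintype.card F at h1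
    change (Sτ.card + 1) * (Sτ.card + 1) ≤ Fintype.card F at h2
    have h3' : Fintype.card F ≤ Sσ.card * Sτ.card + 1 := by omega
    nlinarith
  -- the generators
  let T : Set P := {g | g ∈ A ∨ ∃ σ, σ ≠ RingEquiv.refl F ∧ Pure σ g}
  have hT : Subgroup.closure T = ⊤ := by
    rw [eq_top_iff]
    intro g _
    have hsum : ∀ s : Finset (F ≃+* F), ∃ h ∈ Subgroup.closure T,
        c h = fun τ => if τ ∈ s then c g τ else 0 := by
      intro s
      induction s using Finset.induction with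
      | empty => exact ⟨1, one_mem _, by funext τ; simp [(hcA 1).1 (one_mem A)]⟩
      | insert σ s hσs ih =>
        obtain ⟨h, hh, hhc⟩ := ih
        obtain ⟨h', hh'⟩ := hsingle g σ
        refine ⟨h' * h, mul_mem (Subgroup.subset_closure ?_) hh, ?_⟩
        · rcases eq_or_ne σ (RingEquiv.refl F) with rfl | hσ
          · refine Or.inl ((hcA h').2 ?_)
            rw [hh', hc1, Pi.single_zero]
          · exact Or.inr ⟨σ, hσ, fun τ hτ => by rw [hh', Pi.single_eq_of_ne hτ]⟩
        · funext τ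
          rw [hcmul, Pi.add_apply, hh', hhc]
          rcases eq_or_ne τ σ with rfl | hτ
          · simp [hσs]
          · simp [hτ]
    obtain ⟨h, hh, hhc⟩ := hsum Finset.univ
    have hmem : g * h⁻¹ ∈ A := (hcA _).2 (by
      have h1 : c h⁻¹ = c h := by
        have := hcmul h⁻¹ h
        rw [inv_mul_cancel, (hcA 1).1 (one_mem A)] at this
        funext σ
        exact CharTwo.add_eq_zero.1 (congrFun this.symm σ)
      funext τ
      rw [hcmul, Pi.add_apply, h1, hhc]
      simp [CharTwo.add_self_eq_zero])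
    have := mul_mem (Subgroup.subset_closure (Or.inl hmem) : g * h⁻¹ ∈ Subgroup.closure T) hh
    rwa [inv_mul_cancel_right] at this
  have hTT : ∀ u ∈ T, ∀ v ∈ T, u * v * u⁻¹ * v⁻¹ ∈ Z := by
    intro u hu v hv
    rcases hv with hv | ⟨τ, hτ, hv⟩
    · exact hA_com v hv u
    rcases hu with hu | ⟨σ, hσ, hu⟩
    · rw [show u * v * u⁻¹ * v⁻¹ = (v * u * v⁻¹ * u⁻¹)⁻¹ by group]
      exact inv_mem (hA_com u hu v)
    · exact hpair hσ hτ hu hv
  let Y : Subgroup P :=
    { carrier := {y | InY Z y}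
      mul_mem' := fun ha hb => inY_mul hZn ha hb
      one_mem' := inY_of_mem hZn (one_mem Z)
      inv_mem' := fun ha => inY_inv hZn ha }
  have hY : ⊤ ≤ Y := by
    rw [← hT, Subgroup.closure_le]
    intro u hu
    refine ⟨?_, ?_⟩
    · rcases hu with hu | ⟨σ, -, hu⟩
      · exact hA_sq u hu
      · exact hpure_sq hu
    · let H : Subgroup P :=
        { carrier := {h | u * h * u⁻¹ * h⁻¹ ∈ Z}
          mul_mem' := fun {a b} ha hb => by
            show u * (a * b) * u⁻¹ * (a * b)⁻¹ ∈ Z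
            rw [show u * (a * b) * u⁻¹ * (a * b)⁻¹ =
              (u * a * u⁻¹ * a⁻¹) * (a * (u * b * u⁻¹ * b⁻¹) * a⁻¹) by group]
            exact mul_mem ha (hZn.conj_mem _ hb a)
          one_mem' := by show u * 1 * u⁻¹ * 1⁻¹ ∈ Z; simp
          inv_mem' := fun {a} ha => by
            show u * a⁻¹ * u⁻¹ * a⁻¹⁻¹ ∈ Z
            rw [show u * a⁻¹ * u⁻¹ * a⁻¹⁻¹ = a⁻¹ * (u * a * u⁻¹ * a⁻¹)⁻¹ * a⁻¹⁻¹ by group]
            exact hZn.conj_mem _ (inv_mem ha) a⁻¹ }
      have hH : ⊤ ≤ H := by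
        rw [← hT, Subgroup.closure_le]
        exact fun v hv => hTT u hu v hv
      exact fun p => hH (Subgroup.mem_top p)
  exact hx (hY (Subgroup.mem_top x)).1

/-- Commutators are central. -/
theorem commutator_mem_center (hM : Model K F n θ i) (x y : P) : x⁻¹ * y⁻¹ * x * y ∈ Subgroup.center P := by
  rw [show x⁻¹ * y⁻¹ * x * y = (x⁻¹ * x⁻¹) * (x * (y⁻¹ * y⁻¹) * x⁻¹) * (x * y * (x * y)) by group]
  exact mul_mem (mul_mem (sq_mem_center hS hM _)
    ((inferInstance : (Subgroup.center P).Normal).conj_mem _ (sq_mem_center hS hM _) x))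
    (sq_mem_center hS hM _)

/-- The exponent is 4. -/
theorem pow_four (hM : Model K F n θ i) (x : P) : x ^ 4 = 1 := by
  rw [show 4 = 2 * 2 from rfl, pow_mul, pow_two x, pow_two]
  exact center_sq hS _ (sq_mem_center hS hM x)

end Cfsg.Agent.SuzukiSolvClass31
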