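import Cfsg.Agent.Lib.SuzukiHigmanCoeff
import Cfsg.Agent.Lib.SuzukiSolvArith31

/-!
Field facts for Higman's theorem when only a subgroup of small index of the multiplicative group acts.
-/

set_option autoImplicit false

namespace Cfsg.Agent.SuzukiSolvCoeff31

open Cfsg.Agent.AdditiveCharTwo
open Cfsg.Agent.SuzukiHigmanCoeff (chi zmod_eq)

variable {F : Type*} [Field F] [Fintype F] [CharP F 2]

/-- A field of order `2 ^ n` with an element whose order has index dividing `n`. -/
structure Data (F : Type*) [Field F] [Fintype F] (n : ℕ) (θ : F) : Prop where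
  card : Fintype.card F = 2 ^ n
  two_le : 2 ≤ n
  ne : θ ≠ 0
  big : 2 ^ n - 1 ∣ orderOf θ * n

variable {n : ℕ} {θ : F}

omit [CharP F 2] in
theorem Data.dvd (hd : Data F n θ) : orderOf θ ∣ 2 ^ n - 1 := by
  rw [← hd.card]
  exact orderOf_dvd_of_pow_eq_one (FiniteField.pow_card_sub_one_eq_one θ hd.ne)

omit [CharP F 2] in
theorem Data.ne_one (hd : Data F n θ) : θ ≠ 1 := fun h => by
  have h1 := hd.big
  rw [h, orderOf_one, one_mul] at h1
  have h2 := Nat.le_of_dvd (by have := hd.two_le; omega) h1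
  have h3 : n + 1 < 2 ^ n := by
    clear h1 h2
    have := hd.two_le
    clear h hd
    induction n, this using Nat.le_induction with
    | base => norm_num
    | succ k hk ih => rw [pow_succ]; omega
  omega

/-- Automorphisms are powers of the squaring map. -/
theorem exists_exponent (hd : Data F n θ) (σ : F ≃+* F) :
    ∃ s, s < n ∧ ∀ x : F, σ x = x ^ 2 ^ s := by
  have := Fact.mk Nat.prime_two
  letI : Algebra (ZMod 2) F := ZMod.algebra F 2
  have hfr : Module.finrank (ZMod 2) F = n := by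
    have h1 := Module.card_eq_pow_finrank (K := ZMod 2) (V := F)
    rw [hd.card, ZMod.card] at h1
    exact (Nat.pow_right_injective le_rfl h1).symm
  obtain ⟨s, hs⟩ := (FiniteField.bijective_frobeniusAlgEquivOfAlgebraic_pow (ZMod 2) F).2
    (AlgEquiv.ofRingEquiv (f := σ) fun r =>
      DFunLike.congr_fun (RingHom.ext_zmod ((σ : F →+* F).comp (algebraMap (ZMod 2) F))
        (algebraMap (ZMod 2) F)) r)
  refine ⟨s.1, lt_of_lt_of_eq s.2 hfr, fun x => ?_⟩
  have h1 := DFunLike.congr_fun hs x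
  simp only [AlgEquiv.coe_pow, FiniteField.coe_frobeniusAlgEquivOfAlgebraic_iterate, ZMod.card] at h1
  exact h1.symm

/-- The characters of distinct nontrivial automorphisms are not conjugate. -/
theorem eq_of_char_conj (hd : Data F n θ) {σ τ ρ : F ≃+* F} (hσ : σ ≠ RingEquiv.refl F)
    (hτ : τ ≠ RingEquiv.refl F) (h : ρ (θ / σ θ) = θ / τ θ) : σ = τ := by
  obtain ⟨s, hs, hse⟩ := exists_exponent hd σ
  obtain ⟨t, ht, hte⟩ := exists_exponent hd τ
  obtain ⟨u, hu, hue⟩ := exists_exponent hd ρ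
  have hs0 : s ≠ 0 := fun e => hσ (RingEquiv.ext fun x => by simp [hse, e])
  have ht0 : t ≠ 0 := fun e => hτ (RingEquiv.ext fun x => by simp [hte, e])
  rw [hue, hse, hte, div_pow, div_eq_div_iff (pow_ne_zero _ (pow_ne_zero _ hd.ne))
    (pow_ne_zero _ hd.ne), ← pow_mul, ← pow_add, ← pow_succ', ← pow_add] at h
  have h1 : 2 ^ u + 2 ^ t ≡ 2 ^ (s + u) + 1 [MOD orderOf θ] :=
    (IsOfFinOrder.pow_eq_pow_iff_modEq (isOfFinOrder_iff_pow_eq_one.mpr
      ⟨Fintype.card F - 1, by have := Fintype.one_lt_card (α := F); omega,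
        FiniteField.pow_card_sub_one_eq_one θ hd.ne⟩)).mp h
  have h2 : 2 ^ u + 2 ^ t ≡ 2 ^ ((u + s) % n) + 2 ^ 0 [MOD orderOf θ] := by
    rw [add_comm u s]
    exact h1.trans ((SuzukiSolvArith31.modEq_period hd.dvd (s + u)).add_right 1)
  have := SuzukiSolvArith31.conj_rel hd.two_le hd.dvd hd.big hs ht hu hs0 ht0 h2
  exact RingEquiv.ext fun x => by rw [hse, hte, this]

/-- A polynomial separating two characters. -/
theorem exists_separating {σ τ : F ≃+* F} (hσ : σ ≠ RingEquiv.refl F) (hτ : τ ≠ RingEquiv.refl F)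
    (hστ : σ ≠ τ) (hd : Data F n θ)
    [Algebra (ZMod 2) F] : ∃ p : Polynomial (ZMod 2),
      Polynomial.aeval (chi θ τ) p = 0 ∧ Polynomial.aeval (chi θ σ) p ≠ 0 := by
  have := Fact.mk Nat.prime_two
  refine ⟨minpoly (ZMod 2) (chi θ τ), minpoly.aeval _ _, fun h => hστ ?_⟩
  have hint : IsIntegral (ZMod 2) (chi θ τ) := Algebra.IsIntegral.isIntegral _
  have he : minpoly (ZMod 2) (chi θ τ) = minpoly (ZMod 2) (chi θ σ) :=
    minpoly.eq_of_irreducible_of_monic (minpoly.irreducible hint) h (minpoly.monic hint)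
  obtain ⟨g, hg⟩ := (Normal.minpoly_eq_iff_mem_orbit F).mp he
  exact eq_of_char_conj (ρ := g.toRingEquiv) hd hσ hτ hg

/-- An additive set of functions closed under multiplication by the characters splits. -/
theorem single_mem (R : AddSubgroup ((F ≃+* F) → F)) {θ : F} (hd : Data F n θ)
    (hmul : ∀ v ∈ R, (fun σ => chi θ σ * v σ) ∈ R) (h1 : ∀ v ∈ R, v (RingEquiv.refl F) = 0)
    [DecidableEq (F ≃+* F)] {v : (F ≃+* F) → F} (hv : v ∈ R) (σ : F ≃+* F) :
    Pi.single σ (v σ) ∈ R := by
  classical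
  rcases eq_or_ne σ (RingEquiv.refl F) with rfl | hσ
  · rw [h1 v hv, Pi.single_zero]; exact zero_mem _
  have := finite_aut (F := F)
  have := Fintype.ofFinite (F ≃+* F)
  let _ : Algebra (ZMod 2) F := ZMod.algebra F 2
  let L : Subring ((F ≃+* F) → F) :=
    { carrier := {u | ∀ w ∈ R, (fun ρ => u ρ * w ρ) ∈ R}
      mul_mem' := fun {a b} ha hb w hw => by
        have := ha _ (hb w hw)
        convert this using 1
        funext ρ; simp [mul_assoc]
      one_mem' := fun w hw => by simpa using hw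
      add_mem' := fun {a b} ha hb w hw => by
        convert R.add_mem (ha w hw) (hb w hw) using 1
        funext ρ; simp [add_mul]
      zero_mem' := fun w hw => by
        convert R.zero_mem using 1
        funext ρ; simp
      neg_mem' := fun {a} ha w hw => by
        convert R.neg_mem (ha w hw) using 1
        funext ρ; simp }
  have hchi : chi θ ∈ L := hmul
  have hpoly : ∀ p : Polynomial (ZMod 2), (fun ρ => Polynomial.aeval (chi θ ρ) p) ∈ L := by
    intro p
    induction p using Polynomial.induction_on' with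
    | add p q hp hq =>
      convert L.add_mem hp hq using 1
      funext ρ; simp
    | monomial j a =>
      rcases zmod_eq a with rfl | rfl
      · convert L.zero_mem using 1
        funext ρ; simp
      · convert pow_mem hchi j using 1
        funext ρ; simp
  have hsep : ∀ τ : F ≃+* F, ∃ p : Polynomial (ZMod 2),
      (τ ≠ σ → τ ≠ RingEquiv.refl F → Polynomial.aeval (chi θ τ) p = 0) ∧
        Polynomial.aeval (chi θ σ) p ≠ 0 := by
    intro τ
    by_cases h : τ ≠ σ ∧ τ ≠ RingEquiv.refl F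
    · obtain ⟨p, h1', h2⟩ := exists_separating hσ h.2 h.1.symm hd
      exact ⟨p, fun _ _ => h1', h2⟩
    · exact ⟨1, fun h1' h2 => absurd ⟨h1', h2⟩ h, by simp⟩
  choose p hp hpσ using hsep
  set u : (F ≃+* F) → F := fun ρ => Polynomial.aeval (chi θ ρ) (∏ τ, p τ) with hu
  have hw := (pow_mem (hpoly (∏ τ, p τ)) (Fintype.card F - 1) : u ^ (Fintype.card F - 1) ∈ L) v hv
  convert hw using 1
  funext ρ
  rcases eq_or_ne ρ σ with rfl | hne
  · rw [Pi.single_eq_same, Pi.pow_apply, FiniteField.pow_card_sub_one_eq_one, one_mul]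
    simp only [hu, map_prod]
    exact Finset.prod_ne_zero_iff.mpr fun τ _ => hpσ τ
  · rw [Pi.single_eq_of_ne hne]
    rcases eq_or_ne ρ (RingEquiv.refl F) with rfl | hρ
    · rw [h1 v hv, mul_zero]
    · have h0 : u ρ = 0 := by
        simp only [hu, map_prod]
        exact Finset.prod_eq_zero (Finset.mem_univ ρ) (hp ρ hne hρ)
      show 0 = u ρ ^ _ * v ρ
      rw [h0, zero_pow (by have := Fintype.one_lt_card (α := F); omega), zero_mul]

theorem frobenius_bij : Function.Bijective fun x : F => x * x :=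
  Finite.injective_iff_bijective.mp fun _ _ h => SuzukiHigmanCoeff.frobenius_eq h

/-- An alternating biadditive map commuting with `θ` is zero. -/
theorem alt_zero (hd : Data F n θ) (B : F →+ F →+ F) (halt : ∀ x, B x x = 0)
    (heq : ∀ x y, B (θ * x) (θ * y) = θ * B x y) : ∀ x y, B x y = 0 := by
  classical
  have := finite_aut (F := F)
  have := Fintype.ofFinite (F ≃+* F)
  obtain ⟨S, c, hc⟩ := exists_coeff₂ B
  let C : (F ≃+* F) → (F ≃+* F) → F := fun σ τ => if (σ, τ) ∈ S then c (σ, τ) else 0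
  have hC : ∀ x y, B x y = ∑ σ, ∑ τ, C σ τ * (σ x * τ y) := fun x y => by
    rw [hc, ← Fintype.sum_prod_type' (f := fun σ τ => C σ τ * (σ x * τ y))]
    simp [C, ite_mul]
  have hzero : ∀ σ τ, C σ τ * (σ θ * τ θ) = θ * C σ τ := by
    intro σ τ
    have h1 : ∀ x : F, (fun τ => ∑ σ, C σ τ * (σ θ * τ θ) * σ x) =
        fun τ => ∑ σ, θ * C σ τ * σ x := fun x => comb_injective (AddMonoidHom.ext fun y => by
      show ∑ τ, (∑ σ, C σ τ * (σ θ * τ θ) * σ x) * τ y = ∑ τ, (∑ σ, θ * C σ τ * σ x) * τ y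
      have := heq x y
      rw [hC, hC, Finset.mul_sum, Finset.sum_comm] at this
      simp only [Finset.sum_mul]
      convert this using 1
      · refine Finset.sum_congr rfl fun τ _ => Finset.sum_congr rfl fun σ _ => ?_
        simp only [map_mul]; ring
      · simp only [Finset.mul_sum]
        rw [Finset.sum_comm]
        refine Finset.sum_congr rfl fun σ _ => Finset.sum_congr rfl fun τ _ => ?_
        ring)
    exact congrFun (comb_injective (F := F) (AddMonoidHom.ext fun x => congrFun (h1 x) τ) :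
      (fun σ => C σ τ * (σ θ * τ θ)) = fun σ => θ * C σ τ) σ
  have hdiag : ∀ σ τ, C σ τ ≠ 0 → σ = τ := by
    intro σ τ hne
    obtain ⟨s, hs, hse⟩ := exists_exponent hd σ
    obtain ⟨t, ht, hte⟩ := exists_exponent hd τ
    have h := hzero σ τ
    rw [mul_comm θ, mul_right_inj' hne, hse, hte, ← pow_add] at h
    have h' : θ ^ (2 ^ s + 2 ^ t) = θ ^ 1 := by rw [h, pow_one]
    have h1 := (IsOfFinOrder.pow_eq_pow_iff_modEq (isOfFinOrder_iff_pow_eq_one.mpr
      ⟨Fintype.card F - 1, by have := Fintype.one_lt_card (α := F); omega,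
        FiniteField.pow_card_sub_one_eq_one θ hd.ne⟩)).mp h'
    have := SuzukiSolvArith31.alt_rel hd.two_le hd.dvd hd.big hs ht h1
    exact RingEquiv.ext fun x => by rw [hse, hte, this]
  have hB : ∀ x y, B x y = B 1 (x * y) := fun x y => by
    rw [hC, hC]
    refine Finset.sum_congr rfl fun σ _ => Finset.sum_congr rfl fun τ _ => ?_
    by_cases h0 : C σ τ = 0
    · simp [h0]
    · rw [hdiag σ τ h0]; simp
  intro x y
  rw [hB]
  have h := halt (x * y)
  rw [hB] at h
  obtain ⟨w, hw⟩ := (frobenius_bij (F := F)).2 (x * y)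
  simp only at hw
  have h' := halt w
  rw [hB, hw] at h'
  exact h'

end Cfsg.Agent.SuzukiSolvCoeff31
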