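import Cfsg.Agent.Lib.SuzukiSolvGroup31
import Cfsg.Agent.Lib.SuzukiSolvCoeff31
import Cfsg.Agent.Lib.TransitiveLinearMain75

/-!
The semilinear model of the involutions of a 2-group with a solvable group of automorphisms transitive on
them, and the resulting setup for Higman's theorem.
-/

set_option autoImplicit false

namespace Cfsg.Agent.SuzukiSolvModel31

open Cfsg.Agent.SuzukiSolvCoeff31 (Data)

variable {P : Type*} [Group P] [Finite P]

/-- Semilinear coordinates on the involutions. -/
structure Model (Y : Subgroup (MulAut P)) (F : Type) [Field F] [Fintype F] [CharP F 2] (n : ℕ) (θ : F)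
    (i : F → P) : Prop where
  data : Data F n θ
  add : ∀ x z, i (x + z) = i x * i z
  inj : Function.Injective i
  sq : ∀ x, i x * i x = 1
  range : ∀ p : P, p * p = 1 → ∃ x, i x = p
  semi : ∀ k : Y, ∃ (a : F) (σ : F ≃+* F), a ≠ 0 ∧ ∀ x, i (a * σ x) = (k : MulAut P) (i x)
  scal : ∃ k : Y, ∀ x, i (θ * x) = (k : MulAut P) (i x)

theorem invol_central (hP : IsPGroup 2 P) (Y : Subgroup (MulAut P))
    (htwo : ∃ x : P, x ≠ 1 ∧ x * x = 1)
    (htr : ∀ x y : P, x ≠ 1 → x * x = 1 → y ≠ 1 → y * y = 1 → ∃ k : Y, (k : MulAut P) x = y)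
    {x : P} (hx : x * x = 1) : x ∈ Subgroup.center P := by
  rcases eq_or_ne x 1 with rfl | hx1
  · exact one_mem _
  obtain ⟨w, hw, -⟩ := htwo
  haveI : Nontrivial P := ⟨⟨w, 1, hw⟩⟩
  haveI := hP.center_nontrivial
  haveI := Fact.mk Nat.prime_two
  obtain ⟨j, hj⟩ := (hP.to_subgroup (Subgroup.center P)).exists_card_eq
  have h2 : 2 ∣ Nat.card (Subgroup.center P) := by
    rcases j with _ | j
    · exact absurd hj (by simpa using (Finite.one_lt_card (α := Subgroup.center P)).ne')
    · rw [hj]; exact dvd_pow_self 2 (Nat.succ_ne_zero j)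
  obtain ⟨c, hc⟩ := exists_prime_orderOf_dvd_card' 2 h2
  rw [orderOf_eq_prime_iff] at hc
  obtain ⟨k, rfl⟩ := htr c.1 x (fun h => hc.2 (Subtype.ext h))
    (by have := congrArg Subtype.val hc.1; simpa [pow_two] using this) hx1 hx
  rw [Subgroup.mem_center_iff]
  intro g
  have := congrArg (k : MulAut P) (Subgroup.mem_center_iff.1 c.2 ((k : MulAut P).symm g))
  simpa using this

theorem exists_model (hP : IsPGroup 2 P) (Y : Subgroup (MulAut P)) (hY : Group.IsSolvable Y)
    (htwo : ∃ x y : P, x ≠ y ∧ x ≠ 1 ∧ x * x = 1 ∧ y ≠ 1 ∧ y * y = 1)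
    (htr : ∀ x y : P, x ≠ 1 → x * x = 1 → y ≠ 1 → y * y = 1 → ∃ k : Y, (k : MulAut P) x = y) :
    ∃ (F : Type) (_ : Field F) (_ : Fintype F) (_ : CharP F 2) (n : ℕ) (θ : F) (i : F → P),
      Model Y F n θ i := by
  classical
  haveI := Fact.mk Nat.prime_two
  obtain ⟨p₁, p₂, hp12, hp₁, hp₁2, hp₂, hp₂2⟩ := htwo
  have hcen : ∀ {x : P}, x * x = 1 → x ∈ Subgroup.center P :=
    fun hx => invol_central hP Y ⟨p₁, hp₁, hp₁2⟩ htr hx
  let E : Subgroup P :=
    { carrier := {x | x * x = 1}
      mul_mem' := fun {x y} hx hy => by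
        have hx' : x * x = 1 := hx
        have hy' : y * y = 1 := hy
        show x * y * (x * y) = 1
        calc x * y * (x * y) = x * (y * x) * y := by group
          _ = x * (x * y) * y := by rw [Subgroup.mem_center_iff.1 (hcen hx') y]
          _ = (x * x) * (y * y) := by group
          _ = 1 := by rw [hx', hy', one_mul]
      one_mem' := one_mul 1
      inv_mem' := fun {x} hx => by
        show x⁻¹ * x⁻¹ = 1
        rw [← mul_inv_rev, show x * x = 1 from hx, inv_one] }
  letI : CommGroup E :=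
    { (inferInstance : Group E) with
      mul_comm := fun u v => Subtype.ext (Subgroup.mem_center_iff.1 (hcen v.2) u) }
  letI : Module (ZMod 2) (Additive E) := AddCommGroup.zmodModule fun v => by
    rw [two_nsmul]
    exact Subtype.ext v.toMul.2
  have hmapE : ∀ (k : MulAut P) (u : E), k u.1 ∈ E := fun k u => by
    show k u.1 * k u.1 = 1
    rw [← map_mul, show u.1 * u.1 = 1 from u.2, map_one]
  let eqv : MulAut P → (Additive E ≃+ Additive E) := fun k =>
    MulEquiv.toAdditive
      { toFun := fun u => ⟨k u.1, hmapE k u⟩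
        invFun := fun u => ⟨k⁻¹ u.1, hmapE k⁻¹ u⟩
        left_inv := fun u => Subtype.ext (k.symm_apply_apply u.1)
        right_inv := fun u => Subtype.ext (k.apply_symm_apply u.1)
        map_mul' := fun u v => Subtype.ext (map_mul k u.1 v.1) }
  let ρ₀ : Y →* (Additive E ≃ₗ[ZMod 2] Additive E) :=
    { toFun := fun k =>
        { eqv k.1 with map_smul' := fun r v => ZMod.map_smul (eqv k.1).toAddMonoidHom r v }
      map_one' := LinearEquiv.ext fun v => rfl
      map_mul' := fun k l => LinearEquiv.ext fun v => rfl }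
  have hρ₀ : ∀ (k : Y) (v : Additive E), ((ρ₀ k v).toMul : P) = (k : MulAut P) (v.toMul : P) :=
    fun k v => rfl
  haveI : Nontrivial (Additive E) :=
    ⟨⟨Additive.ofMul ⟨p₁, hp₁2⟩, 0, fun h => hp₁ (congrArg (fun v : Additive E => (v.toMul : P)) h)⟩⟩
  haveI := hY
  haveI : Finite (MulAut P) :=
    Finite.of_injective (fun k : MulAut P => (k : P → P)) DFunLike.coe_injective
  haveI : Finite ρ₀.range := Finite.of_surjective ρ₀.rangeRestrict ρ₀.rangeRestrict_surjective
  have hsol : Group.IsSolvable ρ₀.range :=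
    solvable_of_surjective (f := ρ₀.rangeRestrict) ρ₀.rangeRestrict_surjective
  have htrans : TransitiveLinearField75.IsTransRep ρ₀.range.subtype := by
    refine ⟨Subtype.val_injective, fun v w hv hw => ?_⟩
    obtain ⟨k, hk⟩ := htr v.toMul.1 w.toMul.1
      (fun h => hv (show v = 0 from Additive.toMul.injective (Subtype.ext h))) v.toMul.2
      (fun h => hw (show w = 0 from Additive.toMul.injective (Subtype.ext h))) w.toMul.2
    exact ⟨⟨ρ₀ k, k, rfl⟩, Additive.toMul.injective (Subtype.ext hk)⟩
  obtain ⟨j, hj⟩ := (hP.to_subgroup E).exists_card_eq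
  have hcardV : Nat.card (Additive E) = 2 ^ j := hj
  rcases TransitiveLinearMain75.main htrans hsol with ⟨F, hF, hFf, e, he⟩ | hbad
  swap
  · exfalso
    rw [hcardV] at hbad
    simp only [Set.mem_insert_iff, Set.mem_singleton_iff] at hbad
    rcases j with _ | j
    · simp at hbad
    · have : 2 ∣ 2 ^ (j + 1) := dvd_pow_self 2 j.succ_ne_zero
      omega
  have hchar : CharP F 2 := CharP.charP_iff_prime_eq_zero Nat.prime_two |>.mpr (by
    have h := congrArg e (show e.symm 1 + e.symm 1 = 0 from Additive.toMul.injective (Subtype.ext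
      (e.symm 1).toMul.2))
    rw [map_add, e.apply_symm_apply, map_zero] at h
    norm_num
    linear_combination h)
  haveI := hchar
  have := AdditiveCharTwo.finite_aut (F := F)
  let i : F → P := fun x => ((e.symm x).toMul : P)
  have hsemi : ∀ k : Y, ∃ (a : F) (σ : F ≃+* F), a ≠ 0 ∧
      ∀ x, i (a * σ x) = (k : MulAut P) (i x) := by
    intro k
    obtain ⟨a, σ, ha⟩ := he ⟨ρ₀ k, k, rfl⟩
    refine ⟨a, σ, fun h0 => ?_, fun x => ?_⟩
    · have h1 := ha (e.symm 1)
      rw [h0, zero_mul] at h1
      have h2 : (ρ₀ k) (e.symm 1) = 0 := e.injective (h1.trans (map_zero e).symm)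
      rw [LinearEquiv.map_eq_zero_iff, EmbeddingLike.map_eq_zero_iff] at h2
      exact one_ne_zero h2
    · show ((e.symm (a * σ x)).toMul : P) = _
      have h := ha (e.symm x)
      rw [e.apply_symm_apply] at h
      rw [← h, e.symm_apply_apply]
      rfl
  choose a σ ha hi using hsemi
  have hinj : Function.Injective i := fun x z h =>
    e.symm.injective (Additive.toMul.injective (Subtype.ext h))
  have hau : ∀ (k : Y) (b : F) (τ : F ≃+* F), (∀ x, i (b * τ x) = (k : MulAut P) (i x)) →
      b = a k ∧ τ = σ k := by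
    intro k b τ h
    have h1 : ∀ x, b * τ x = a k * σ k x := fun x => hinj ((h x).trans (hi k x).symm)
    have hb : b = a k := by simpa using h1 1
    refine ⟨hb, RingEquiv.ext fun x => mul_left_cancel₀ (ha k) ?_⟩
    rw [← h1 x, hb]
  have hcomp : ∀ k l : Y, a (k * l) = a k * σ k (a l) ∧ σ (k * l) = (σ l).trans (σ k) := by
    intro k l
    refine ((hau (k * l) (a k * σ k (a l)) ((σ l).trans (σ k))) fun x => ?_).imp Eq.symm Eq.symm
    rw [RingEquiv.trans_apply, mul_assoc, ← map_mul, hi, hi, Subgroup.coe_mul, MulAut.mul_apply]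
  obtain ⟨hone_a, hone_σ⟩ := hau 1 1 (RingEquiv.refl F) fun x => by simp
  let π : Y →* RingAut F :=
    { toFun := fun k => σ k
      map_one' := hone_σ.symm
      map_mul' := fun k l => (hcomp k l).2 }
  have hπ : ∀ k, k ∈ π.ker ↔ σ k = RingEquiv.refl F := fun k => Iff.rfl
  let f : π.ker →* Fˣ :=
    { toFun := fun k => Units.mk0 (a k.1) (ha k.1)
      map_one' := Units.ext hone_a.symm
      map_mul' := fun k l => Units.ext (by
        show a (k.1 * l.1) = a k.1 * a l.1
        rw [(hcomp k.1 l.1).1, (hπ k.1).1 k.2]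
        rfl) }
  obtain ⟨⟨θu, hθu⟩, hgen⟩ := (inferInstance : IsCyclic f.range).exists_generator
  have hm : orderOf (θu : F) = Nat.card f.range := by
    rw [orderOf_units, ← Subgroup.orderOf_mk θu hθu, orderOf_eq_card_of_forall_mem_zpowers hgen]
  -- the cardinality of the field
  have hcardF : Fintype.card F = 2 ^ j := by
    rw [← Nat.card_eq_fintype_card, ← Nat.card_congr e.toEquiv, hcardV]
  have hj2 : 2 ≤ j := by
    by_contra h
    have h3 : ({1, p₁, p₂} : Finset P).card = 3 := by
      rw [Finset.card_insert_of_notMem, Finset.card_insert_of_notMem, Finset.card_singleton]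
      · simp [hp12]
      · simp [hp₁.symm, hp₂.symm]
    haveI := Fintype.ofFinite E
    have h4 := Finset.card_le_card_of_injOn (s := ({1, p₁, p₂} : Finset P))
      (t := (Finset.univ : Finset E).map ⟨Subtype.val, Subtype.val_injective⟩) id (fun p hp => by
        simp only [Finset.coe_insert, Finset.coe_singleton, Set.mem_insert_iff,
          Set.mem_singleton_iff] at hp
        simp only [Finset.coe_map, Set.mem_image, Finset.coe_univ, Set.mem_univ, true_and,
          Function.Embedding.coeFn_mk, id_eq]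
        rcases hp with rfl | rfl | rfl
        · exact ⟨1, rfl⟩
        · exact ⟨⟨_, hp₁2⟩, rfl⟩
        · exact ⟨⟨_, hp₂2⟩, rfl⟩) (fun _ _ _ _ h => h)
    rw [h3, Finset.card_map, Finset.card_univ, ← Nat.card_eq_fintype_card] at h4
    have : Nat.card E = 2 ^ j := hj
    interval_cases j <;> simp_all
  have hgal : π.ker.index ∣ j := by
    rw [Subgroup.index_ker]
    refine (Subgroup.card_subgroup_dvd_card π.range).trans (dvd_of_eq ?_)
    letI : Algebra (ZMod 2) F := ZMod.algebra F 2
    have eA : (F ≃ₐ[ZMod 2] F) ≃ (F ≃+* F) :=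
      { toFun := fun σ => σ.toRingEquiv
        invFun := fun σ => AlgEquiv.ofRingEquiv (f := σ) fun r =>
          DFunLike.congr_fun (RingHom.ext_zmod ((σ : F →+* F).comp (algebraMap (ZMod 2) F))
            (algebraMap (ZMod 2) F)) r
        left_inv := fun σ => by ext; rfl
        right_inv := fun σ => by ext; rfl }
    rw [← Nat.card_congr eA, IsGalois.card_aut_eq_finrank]
    have h1 := Module.card_eq_pow_finrank (K := ZMod 2) (V := F)
    rw [hcardF, ZMod.card] at h1
    exact (Nat.pow_right_injective le_rfl h1).symm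
  -- the stabilizer of one
  let S : Subgroup Y :=
    { carrier := {k | a k = 1}
      one_mem' := hone_a.symm
      mul_mem' := fun {k l} hk hl => by
        show a (k * l) = 1
        rw [(hcomp k l).1, show a k = 1 from hk, show a l = 1 from hl, map_one, one_mul]
      inv_mem' := fun {k} hk => by
        show a k⁻¹ = 1
        have h := (hcomp k⁻¹ k).1
        rw [inv_mul_cancel, ← hone_a, show a k = 1 from hk, map_one, mul_one] at h
        exact h.symm }
  have hSidx : S.index = 2 ^ j - 1 := by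
    have hfib : ∀ k l : Y, QuotientGroup.mk (s := S) k = QuotientGroup.mk l ↔ a k = a l := by
      intro k l
      rw [QuotientGroup.eq]
      show a (k⁻¹ * l) = 1 ↔ _
      have h1 : a l = a k * σ k (a (k⁻¹ * l)) := by
        rw [← (hcomp k (k⁻¹ * l)).1, mul_inv_cancel_left]
      constructor
      · intro h; rw [h1, h, map_one, mul_one]
      · intro h
        rw [h] at h1
        have h2 : σ k (a (k⁻¹ * l)) = σ k 1 := by
          rw [map_one]; exact (mul_right_eq_self₀.mp h1.symm).resolve_right (ha l)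
        exact (σ k).injective h2
    let g : Y ⧸ S → {x : F // x ≠ 0} := fun q => ⟨a q.out, ha _⟩
    have hg : Function.Bijective g := by
      refine ⟨fun q q' h => ?_, fun x => ?_⟩
      · rw [← QuotientGroup.out_eq' q, ← QuotientGroup.out_eq' q']
        exact (hfib _ _).2 (congrArg Subtype.val h)
      · obtain ⟨k, hk⟩ := htr (i 1) (i x.1)
          (fun h => one_ne_zero (α := F) (hinj (h.trans (show (1 : P) = i 0 by simp [i]))))
          (e.symm 1).toMul.2
          (fun h => x.2 (hinj (h.trans (show (1 : P) = i 0 by simp [i]))))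
          (e.symm x.1).toMul.2
        refine ⟨QuotientGroup.mk k, Subtype.ext ?_⟩
        show a _ = x.1
        rw [(hfib (Quotient.out _) k).1 (QuotientGroup.out_eq' _)]
        refine hinj ?_
        rw [← hk, ← hi k 1, map_one, mul_one]
    rw [Subgroup.index, Nat.card_eq_of_bijective g hg, Nat.card_eq_fintype_card,
      Fintype.card_subtype_compl, Fintype.card_subtype_eq, hcardF]
  have hker : f.ker = S.subgroupOf π.ker := by
    ext k
    rw [MonoidHom.mem_ker, Subgroup.mem_subgroupOf, Units.ext_iff]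
    rfl
  refine ⟨F, hF, hFf, hchar, j, (θu : F), i, ⟨hcardF, hj2, θu.ne_zero, ?_⟩, fun x z => ?_, hinj,
    fun x => (e.symm x).toMul.2, fun p hp => ⟨e (Additive.ofMul ⟨p, hp⟩), by simp [i]⟩,
    fun k => ⟨a k, σ k, ha k, hi k⟩, ?_⟩
  · rw [hm, ← Subgroup.index_ker, hker, ← hSidx]
    refine dvd_trans ?_ (Nat.mul_dvd_mul_left _ hgal)
    rw [← Subgroup.relIndex, ← Subgroup.inf_relIndex_right, Subgroup.relIndex_mul_index inf_le_right]
    exact Subgroup.index_dvd_of_le inf_le_left
  · show ((e.symm (x + z)).toMul : P) = _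
    rw [map_add]
    rfl
  · obtain ⟨k, hk⟩ := hθu
    refine ⟨k.1, fun x => ?_⟩
    have h := hi k.1 x
    rw [(hπ k.1).1 k.2] at h
    rw [show (θu : F) = a k.1 from (congrArg Units.val hk).symm]
    exact h

/-- The setup of Higman's theorem. -/
theorem setup_of_model {Y : Subgroup (MulAut P)} {F : Type} [Field F] [Fintype F] [CharP F 2]
    {n : ℕ} {θ : F} {i : F → P} (hM : Model Y F n θ i) (hP : IsPGroup 2 P)
    (hnc : ∃ x y : P, x * y ≠ y * x)
    (htwo : ∃ x y : P, x ≠ y ∧ x ≠ 1 ∧ x * x = 1 ∧ y ≠ 1 ∧ y * y = 1)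
    (htr : ∀ x y : P, x ≠ 1 → x * x = 1 → y ≠ 1 → y * y = 1 → ∃ k : Y, (k : MulAut P) x = y) :
    SuzukiSolvGroup31.Setup P Y := by
  refine ⟨hP, hnc, htwo, htr, fun β hmem hl hr halt heq u v hu hv => ?_⟩
  choose b hb using fun x z => hM.range _ (hmem (i x) (i z) (hM.sq x) (hM.sq z))
  have hi0 : i 0 = 1 := by
    have := hM.add 0 0
    rw [add_zero] at this
    exact mul_eq_left.1 this.symm
  let B : F →+ F →+ F := AddMonoidHom.mk'
    (fun x => AddMonoidHom.mk' (b x) fun z z' => hM.inj (by
      rw [hM.add, hb, hb, hb, hM.add, hr _ _ _ (hM.sq x) (hM.sq z) (hM.sq z')]))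
    fun x x' => AddMonoidHom.ext fun z => hM.inj (by
      show i (b (x + x') z) = i (b x z + b x' z)
      rw [hM.add, hb, hb, hb, hM.add, hl _ _ _ (hM.sq x) (hM.sq x') (hM.sq z)])
  obtain ⟨k, hk⟩ := hM.scal
  have h := SuzukiSolvCoeff31.alt_zero hM.data B
    (fun x => hM.inj (by show i (b x x) = i 0; rw [hb, hi0, halt _ (hM.sq x)]))
    (fun x z => hM.inj (by
      show i (b (θ * x) (θ * z)) = i (θ * b x z)
      rw [hb, hk, hk, hk, hb, heq k _ _ (hM.sq x) (hM.sq z)]))
  obtain ⟨x, rfl⟩ := hM.range u hu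
  obtain ⟨z, rfl⟩ := hM.range v hv
  rw [← hb, show b x z = 0 from h x z, hi0]

end Cfsg.Agent.SuzukiSolvModel31
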