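import Cfsg.Prelude.Def_LieRecognition
import Cfsg.Agent.Lib.PGroupsBasic

/-!
Suzuki 2-groups: the centre is elementary abelian and consists of the identity and the involutions.
-/

set_option autoImplicit false

namespace Cfsg.Agent.SuzukiTwo

variable {P : Type*} [Group P] [Finite P] {K : Subgroup (MulAut P)}

/-- The data of a Suzuki 2-group with a chosen cyclic group of automorphisms. -/
structure Setup (P : Type*) [Group P] (K : Subgroup (MulAut P)) : Prop where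
  isP : IsPGroup 2 P
  noncomm : ∃ x y : P, x * y ≠ y * x
  two : ∃ x y : P, x ≠ y ∧ x ≠ 1 ∧ x * x = 1 ∧ y ≠ 1 ∧ y * y = 1
  cyc : IsCyclic K
  reg : ∀ x y : P, x ≠ 1 → x * x = 1 → y ≠ 1 → y * y = 1 → ∃! k : K, (k : MulAut P) x = y

/-- `A` is abelian, invariant under `K`, of exponent exactly `2 ^ a`. -/
structure Homo (K : Subgroup (MulAut P)) (A : Subgroup P) (a : ℕ) : Prop where
  comm : ∀ x ∈ A, ∀ y ∈ A, x * y = y * x
  inv : ∀ k : K, ∀ x ∈ A, (k : MulAut P) x ∈ A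
  pos : 1 ≤ a
  exp : ∀ x ∈ A, x ^ 2 ^ a = 1
  ex : ∃ x ∈ A, x ^ 2 ^ (a - 1) ≠ 1

variable (hS : Setup P K)

include hS

omit [Finite P] in
theorem k_comm (k l : K) (x : P) :
    (k : MulAut P) ((l : MulAut P) x) = (l : MulAut P) ((k : MulAut P) x) := by
  obtain ⟨g, hg⟩ := hS.cyc.exists_generator
  obtain ⟨i, rfl⟩ := Subgroup.mem_zpowers_iff.1 (hg k)
  obtain ⟨j, rfl⟩ := Subgroup.mem_zpowers_iff.1 (hg l)
  rw [← MulAut.mul_apply, ← MulAut.mul_apply, ← Subgroup.coe_mul, ← Subgroup.coe_mul,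
    (Commute.refl g).zpow_zpow i j |>.eq]

theorem exists_central_invol : ∃ c : P, c ≠ 1 ∧ c * c = 1 ∧ c ∈ Subgroup.center P := by
  have : Nontrivial P := by
    obtain ⟨x, y, hxy, -⟩ := hS.two
    exact ⟨⟨x, y, hxy⟩⟩
  have := hS.isP.center_nontrivial
  obtain ⟨n, hn⟩ := (hS.isP.to_subgroup (Subgroup.center P)).exists_card_eq
  have h2 : 2 ∣ Nat.card (Subgroup.center P) := by
    rcases n with _ | n
    · exact absurd hn (by simpa using (Finite.one_lt_card (α := Subgroup.center P)).ne')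
    · rw [hn]; exact dvd_pow_self 2 (by omega)
  have := Fact.mk Nat.prime_two
  obtain ⟨c, hc⟩ := exists_prime_orderOf_dvd_card' 2 h2
  rw [orderOf_eq_prime_iff] at hc
  refine ⟨c, fun h => hc.2 (Subtype.ext h), ?_, c.2⟩
  have := congrArg Subtype.val hc.1
  simpa [pow_two] using this

theorem mem_center_of_invol {x : P} (hx : x * x = 1) : x ∈ Subgroup.center P := by
  rcases eq_or_ne x 1 with rfl | hx1
  · exact one_mem _
  · obtain ⟨c, hc1, hc2, hc⟩ := exists_central_invol hS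
    obtain ⟨k, hk, -⟩ := hS.reg c x hc1 hc2 hx1 hx
    rw [← hk, Subgroup.mem_center_iff]
    intro g
    have := congrArg (k : MulAut P) (Subgroup.mem_center_iff.1 hc ((k : MulAut P).symm g))
    simpa using this

theorem invol_comm {x : P} (hx : x * x = 1) (g : P) : g * x = x * g :=
  Subgroup.mem_center_iff.1 (mem_center_of_invol hS hx) g

theorem invol_mul {x y : P} (hx : x * x = 1) (hy : y * y = 1) : x * y * (x * y) = 1 := by
  calc x * y * (x * y) = x * (y * x) * y := by group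
    _ = x * (x * y) * y := by rw [invol_comm hS hx y]
    _ = (x * x) * (y * y) := by group
    _ = 1 := by rw [hx, hy, one_mul]

omit hS [Finite P] in
theorem apply_inv_apply (k : K) (x : P) : (k : MulAut P) ((↑(k⁻¹) : MulAut P) x) = x := by
  rw [← MulAut.mul_apply, ← Subgroup.coe_mul, mul_inv_cancel, Subgroup.coe_one, MulAut.one_apply]

omit hS [Finite P] in
theorem invol_map (k : MulAut P) {x : P} (hx : x * x = 1) : k x * k x = 1 := by
  rw [← map_mul, hx, map_one]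

/-- `K` has odd order. -/
theorem odd_card : Odd (Nat.card K) := by
  obtain ⟨c, hc1, hc2, -⟩ := exists_central_invol hS
  let E : Subgroup P :=
    { carrier := {x | x * x = 1}
      mul_mem' := fun hx hy => invol_mul hS hx hy
      one_mem' := one_mul 1
      inv_mem' := fun {x} hx => by
        show x⁻¹ * x⁻¹ = 1
        rw [← mul_inv_rev, show x * x = 1 from hx, inv_one] }
  let f : K → {e : E // e ≠ 1} := fun k =>
    ⟨⟨(k : MulAut P) c, invol_map _ hc2⟩, fun h =>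
      hc1 ((map_eq_one_iff (k : MulAut P) (k : MulAut P).injective).1 (congrArg Subtype.val h))⟩
  have hf : Function.Bijective f := by
    refine ⟨fun k l h => ?_, fun e => ?_⟩
    · have h' : (k : MulAut P) c = (l : MulAut P) c :=
        congrArg (fun z : {e : E // e ≠ 1} => (z.1 : P)) h
      exact (hS.reg c ((k : MulAut P) c) hc1 hc2
        (fun h1 => hc1 ((map_eq_one_iff _ (k : MulAut P).injective).1 h1))
        (invol_map _ hc2)).unique rfl h'.symm
    · obtain ⟨k, hk, -⟩ := hS.reg c (e.1 : P) hc1 hc2 (fun h => e.2 (Subtype.ext h)) e.1.2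
      exact ⟨k, Subtype.ext (Subtype.ext hk)⟩
  have hcard : Nat.card K + 1 = Nat.card E := by
    classical
    rw [Nat.card_eq_of_bijective f hf, ← Finite.card_option,
      Nat.card_congr (Equiv.optionSubtypeNe (1 : E))]
  obtain ⟨n, hn⟩ := (hS.isP.to_subgroup E).exists_card_eq
  rcases n with _ | n
  · have : Nontrivial E := ⟨⟨⟨c, hc2⟩, 1, fun h => hc1 (congrArg Subtype.val h)⟩⟩
    have := Finite.one_lt_card (α := E)
    omega
  · rw [← Nat.not_even_iff_odd]
    intro he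
    have : Even (Nat.card E) := by rw [hn]; exact Nat.even_pow.2 ⟨even_two, by omega⟩
    rw [← hcard, Nat.even_add_one] at this
    exact this he

/-- An equivariant alternating pairing on the involutions is trivial. -/
theorem alt_trivial (β : P → P → P)
    (hmem : ∀ u v, u * u = 1 → v * v = 1 → β u v * β u v = 1)
    (hl : ∀ u u' v, u * u = 1 → u' * u' = 1 → v * v = 1 → β (u * u') v = β u v * β u' v)
    (hr : ∀ u v v', u * u = 1 → v * v = 1 → v' * v' = 1 → β u (v * v') = β u v * β u v')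
    (halt : ∀ u, u * u = 1 → β u u = 1)
    (heq : ∀ (k : K) u v, u * u = 1 → v * v = 1 →
      β ((k : MulAut P) u) ((k : MulAut P) v) = (k : MulAut P) (β u v))
    {u v : P} (hu : u * u = 1) (hv : v * v = 1) : β u v = 1 := by
  have symm : ∀ x y, x * x = 1 → y * y = 1 → β x y = β y x := by
    intro x y hx hy
    have h := halt _ (invol_mul hS hx hy)
    rw [hl _ _ _ hx hy (invol_mul hS hx hy), hr _ _ _ hx hx hy, hr _ _ _ hy hx hy, halt x hx,
      halt y hy, one_mul, mul_one] at h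
    exact mul_right_cancel (h.trans (hmem y x hy hx).symm)
  have h1l : ∀ y, y * y = 1 → β 1 y = 1 := fun y hy => by
    have := hl 1 1 y (one_mul 1) (one_mul 1) hy
    rw [one_mul] at this
    exact mul_eq_left.1 this.symm
  rcases eq_or_ne u 1 with rfl | hu1
  · exact h1l v hv
  rcases eq_or_ne v 1 with rfl | hv1
  · rw [symm _ _ hu hv]; exact h1l u hu
  obtain ⟨k, rfl, -⟩ := hS.reg u v hu1 hu hv1 hv
  clear hv1 hv
  obtain ⟨l, rfl⟩ : ∃ l : K, k = l * l := by
    obtain ⟨m, hm⟩ := odd_card hS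
    refine ⟨k ^ (m + 1), ?_⟩
    rw [← pow_add, show m + 1 + (m + 1) = Nat.card K + 1 by omega, pow_succ, pow_card_eq_one',
      one_mul]
  by_cases hlu : (l : MulAut P) u = u
  · rw [Subgroup.coe_mul, MulAut.mul_apply, hlu, hlu, halt u hu]
  let g : P → P := fun w => β u w
  have hku : (l : MulAut P) u * (l : MulAut P) u = 1 := invol_map _ hu
  have hne : (l : MulAut P) u * u ≠ 1 := fun h => hlu (mul_right_cancel (h.trans hu.symm))
  obtain ⟨m, hm, -⟩ := hS.reg u _ hu1 hu hne (invol_mul hS hku hu)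
  have hrel : ∀ w, w * w = 1 → (m : MulAut P) w = (l : MulAut P) w * w := by
    intro w hw
    rcases eq_or_ne w 1 with rfl | hw1
    · simp
    · obtain ⟨j, rfl, -⟩ := hS.reg u w hu1 hu hw1 hw
      rw [k_comm hS, hm, map_mul, k_comm hS j l]
  have hgk : ∀ j : K, g ((j : MulAut P) u) = (j : MulAut P) (g ((↑(j⁻¹) : MulAut P) u)) := by
    intro j
    show β u _ = (j : MulAut P) (β u _)
    rw [← heq j _ _ hu (invol_map _ hu), ← MulAut.mul_apply, ← Subgroup.coe_mul, mul_inv_cancel,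
      Subgroup.coe_one, MulAut.one_apply]
    exact symm _ _ hu (invol_map _ hu)
  have hgm : g ((m : MulAut P) u) = g ((l : MulAut P) u) := by
    show β u _ = β u _
    rw [hm, hr _ _ _ hu hku hu, halt u hu, mul_one]
  have hgkm : g ((↑(l * m) : MulAut P) u) =
      g ((↑(l * l) : MulAut P) u) * g ((l : MulAut P) u) := by
    show β u _ = β u _ * β u _
    simp only [Subgroup.coe_mul, MulAut.mul_apply, hm, map_mul]
    exact hr _ _ _ hu (invol_map _ hku) hku
  have hid : (↑(l⁻¹) : MulAut P) u * (↑(m⁻¹) : MulAut P) u = (↑((l * m)⁻¹) : MulAut P) u := by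
    apply (↑(l * m) : MulAut P).injective
    rw [map_mul]
    simp only [← MulAut.mul_apply, ← Subgroup.coe_mul, mul_inv_cancel, Subgroup.coe_one,
      MulAut.one_apply]
    have e1 : l * m * l⁻¹ = m := by
      apply Subtype.ext
      ext x
      simp only [Subgroup.coe_mul, MulAut.mul_apply]
      rw [k_comm hS m l⁻¹, ← MulAut.mul_apply, ← Subgroup.coe_mul, mul_inv_cancel,
        Subgroup.coe_one, MulAut.one_apply]
    rw [e1, mul_assoc, mul_inv_cancel, mul_one, hm, mul_assoc, invol_comm hS hku u, ← mul_assoc,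
      hku, one_mul]
  have hkey : g ((↑(l * m) : MulAut P) u) = g ((l : MulAut P) u) := by
    rw [hgk (l * m)]
    show (↑(l * m) : MulAut P) (β u _) = _
    rw [← hid, hr _ _ _ hu (invol_map _ hu) (invol_map _ hu), map_mul, Subgroup.coe_mul,
      MulAut.mul_apply, MulAut.mul_apply]
    rw [k_comm hS l m (β u _)]
    change (m : MulAut P) ((l : MulAut P) (g ((↑(l⁻¹) : MulAut P) u))) *
      (l : MulAut P) ((m : MulAut P) (g ((↑(m⁻¹) : MulAut P) u))) = _
    rw [← hgk l, ← hgk m, hgm]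
    have hmem' : g ((l : MulAut P) u) * g ((l : MulAut P) u) = 1 := hmem _ _ hu hku
    rw [hrel _ hmem', mul_assoc, invol_comm hS (invol_map _ hmem') (g ((l : MulAut P) u)),
      ← mul_assoc, invol_map _ hmem', one_mul]
  rw [hkey] at hgkm
  exact mul_eq_right.1 hgkm.symm

variable {A : Subgroup P} {a : ℕ}

omit hS [Finite P] in
theorem pi_mem (hA : Homo K A a) {x : P} (hx : x ∈ A) :
    x ^ 2 ^ (a - 1) * x ^ 2 ^ (a - 1) = 1 := by
  rw [← pow_add, ← two_mul, ← pow_succ', Nat.sub_add_cancel hA.pos]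
  exact hA.exp x hx

omit [Finite P] in
theorem pi_surj (hA : Homo K A a) {e : P} (he : e * e = 1) : ∃ x ∈ A, x ^ 2 ^ (a - 1) = e := by
  rcases eq_or_ne e 1 with rfl | he1
  · exact ⟨1, A.one_mem, one_pow _⟩
  · obtain ⟨x, hx, hx1⟩ := hA.ex
    obtain ⟨k, hk, -⟩ := hS.reg _ e hx1 (pi_mem hA hx) he1 he
    exact ⟨(k : MulAut P) x, hA.inv k x hx, by rw [← map_pow, hk]⟩

omit [Finite P] in
theorem exists_root (hA : Homo K A a) : ∀ j, j < a → ∀ x ∈ A, x ^ 2 ^ j = 1 →
    ∃ y ∈ A, x = y * y := by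
  intro j
  induction j with
  | zero => exact fun _ x _ h => ⟨1, A.one_mem, by simpa using h⟩
  | succ j ih =>
    intro hj x hx h
    have h2 : x ^ 2 ^ j * x ^ 2 ^ j = 1 := by rwa [← pow_add, ← two_mul, ← pow_succ']
    obtain ⟨z, hz, hze⟩ := pi_surj hS hA h2
    let w := z ^ 2 ^ (a - 1 - j - 1)
    have hw : w ∈ A := A.pow_mem hz _
    have hw2 : (w * w) ^ 2 ^ j = x ^ 2 ^ j := by
      rw [← hze, ← pow_two, ← pow_mul, ← pow_mul, ← pow_succ', ← pow_add]
      congr 2; omega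
    obtain ⟨y, hy, hye⟩ := ih (by omega) (x * (w * w)⁻¹)
      (A.mul_mem hx (A.inv_mem (A.mul_mem hw hw))) (by
      rw [(show Commute x (w * w)⁻¹ from hA.comm _ hx _ (A.inv_mem (A.mul_mem hw hw))).mul_pow,
        inv_pow, hw2, mul_inv_cancel])
    refine ⟨y * w, A.mul_mem hy hw, ?_⟩
    calc x = x * (w * w)⁻¹ * (w * w) := by group
      _ = y * y * (w * w) := by rw [hye]
      _ = y * (y * w) * w := by group
      _ = y * (w * y) * w := by rw [hA.comm y hy w hw]
      _ = y * w * (y * w) := by group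

omit [Finite P] in
theorem exists_fourth (hA : Homo K A a) {j : ℕ} (hj : j + 2 ≤ a) {x : P} (hx : x ∈ A)
    (h : x ^ 2 ^ j = 1) : ∃ y ∈ A, x = y ^ 4 := by
  obtain ⟨y, hy, rfl⟩ := exists_root hS hA j (by omega) x hx h
  obtain ⟨z, hz, rfl⟩ := exists_root hS hA (j + 1) (by omega) y hy (by
    rw [pow_succ', pow_mul, pow_two]; exact h)
  refine ⟨z, hz, ?_⟩
  rw [show (4 : ℕ) = 2 + 2 from rfl, pow_add, pow_two]

theorem exists_homo {A : Subgroup P} (hne : A ≠ ⊥) (hcomm : ∀ x ∈ A, ∀ y ∈ A, x * y = y * x)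
    (hinv : ∀ k : K, ∀ x ∈ A, (k : MulAut P) x ∈ A) : ∃ a, Homo K A a := by
  classical
  have hex : ∃ a, ∀ x ∈ A, x ^ 2 ^ a = 1 := by
    obtain ⟨n, hn⟩ := hS.isP.exists_card_eq
    exact ⟨n, fun x _ => by rw [← hn]; exact pow_card_eq_one'⟩
  have h1 : 1 ≤ Nat.find hex := by
    by_contra h
    obtain ⟨x, hx, hx1⟩ := (Subgroup.bot_or_exists_ne_one A).resolve_left hne
    have := Nat.find_spec hex x hx
    rw [show Nat.find hex = 0 by omega, pow_zero, pow_one] at this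
    exact hx1 this
  refine ⟨Nat.find hex, hcomm, hinv, h1, Nat.find_spec hex, ?_⟩
  by_contra h
  push Not at h
  have := Nat.find_min' hex h
  omega

omit [Finite P] in
/-- A self-map behaving like a multiple of itself on its image has exponent two. -/
theorem image_invol (hA : Homo K A a) (θ : P → P) (hmem : ∀ x ∈ A, θ x ∈ A)
    (hhom : ∀ x ∈ A, ∀ n : ℕ, θ (x ^ n) = θ x ^ n)
    (hθ : ∀ x ∈ A, θ (θ x) = θ x ^ 2 ∨ θ (θ x) = (θ x ^ 2)⁻¹)
    (h0 : ∀ x ∈ A, θ x ^ 2 ^ (a - 2) = 1) : ∀ x ∈ A, θ x * θ x = 1 := by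
  suffices ∀ j, j + 2 ≤ a → (∀ x ∈ A, θ x ^ 2 ^ j = 1) → ∀ x ∈ A, θ x * θ x = 1 by
    rcases Nat.lt_or_ge a 2 with h | h
    · intro x hx
      have := h0 x hx
      rw [show a - 2 = 0 by omega, pow_zero, pow_one] at this
      rw [this, one_mul]
    · exact this (a - 2) (by omega) h0
  intro j
  induction j with
  | zero =>
    intro _ h x hx
    have := h x hx
    rw [pow_zero, pow_one] at this
    rw [this, one_mul]
  | succ j ih =>
    intro hj h x hx
    rcases j with _ | j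
    · simpa [pow_two] using h x hx
    refine ih (by omega) (fun z hz => ?_) x hx
    obtain ⟨w, hw, hwe⟩ := exists_fourth hS hA hj (hmem z hz) (h z hz)
    have h4 : θ (θ z) ^ 2 ^ j = 1 := by
      rw [hwe, hhom w hw, ← pow_mul, show 4 * 2 ^ j = 2 ^ (j + 2) by ring]
      exact h w hw
    rw [pow_succ', pow_mul]
    rcases hθ z hz with e | e <;> rw [e] at h4
    · exact h4
    · rwa [inv_pow, inv_eq_one] at h4

/-- `y` is an involution modulo `A` that is central modulo `A`. -/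
def InY (A : Subgroup P) (y : P) : Prop := y * y ∈ A ∧ ∀ p : P, y * p * y⁻¹ * p⁻¹ ∈ A

section Above

variable (hn : A.Normal)
include hn

omit hS [Finite P] in
theorem inY_of_mem {x : P} (hx : x ∈ A) : InY A x :=
  ⟨A.mul_mem hx hx, fun p => by
    simpa only [mul_assoc] using A.mul_mem hx (hn.conj_mem _ (A.inv_mem hx) p)⟩

omit hS [Finite P] in
theorem inY_mul {y y' : P} (hy : InY A y) (hy' : InY A y') : InY A (y * y') := by
  refine ⟨?_, fun p => ?_⟩
  · rw [show y * y' * (y * y') =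
      (y * (y' * y * y'⁻¹ * y⁻¹) * y⁻¹) * (y * y) * (y' * y') by group]
    exact A.mul_mem (A.mul_mem (hn.conj_mem _ (hy'.2 y) y) hy.1) hy'.1
  · rw [show y * y' * p * (y * y')⁻¹ * p⁻¹ =
      (y * (y' * p * y'⁻¹ * p⁻¹) * y⁻¹) * (y * p * y⁻¹ * p⁻¹) by group]
    exact A.mul_mem (hn.conj_mem _ (hy'.2 p) y) (hy.2 p)

omit hS [Finite P] in
theorem inY_inv {y : P} (hy : InY A y) : InY A y⁻¹ := by
  have : y⁻¹ = y * (y * y)⁻¹ := by group
  rw [this]
  exact inY_mul hn hy (inY_of_mem hn (A.inv_mem hy.1))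

omit hS [Finite P] in
theorem inY_map (hinv : ∀ k : K, ∀ x ∈ A, (k : MulAut P) x ∈ A) (k : K) {y : P} (hy : InY A y) :
    InY A ((k : MulAut P) y) := by
  refine ⟨by rw [← map_mul]; exact hinv k _ hy.1, fun p => ?_⟩
  have := hinv k _ (hy.2 ((k : MulAut P).symm p))
  simpa using this

theorem exists_above {C : Subgroup P} [C.Normal] (hle : A ≤ C) (hne : C ≠ A) :
    ∃ y ∈ C, y ∉ A ∧ InY A y := by
  have := hn
  have := Fact.mk Nat.prime_two
  have hQ := hS.isP.to_quotient A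
  have : (C.map (QuotientGroup.mk' A)).Normal :=
    Subgroup.Normal.map ‹_› _ (QuotientGroup.mk'_surjective A)
  have hne' : C.map (QuotientGroup.mk' A) ≠ ⊥ := fun h => hne (le_antisymm (by
    rwa [Subgroup.map_eq_bot_iff, QuotientGroup.ker_mk'] at h) hle)
  have hne2 := PGroupsBasic.inf_center_ne_bot hQ hne'
  obtain ⟨n, hn'⟩ := (hQ.to_subgroup (C.map (QuotientGroup.mk' A) ⊓ Subgroup.center _)).exists_card_eq
  rcases n with _ | n
  · exact absurd (Subgroup.card_eq_one.1 (by simpa using hn')) hne2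
  obtain ⟨c, hc⟩ := exists_prime_orderOf_dvd_card' 2
    (hn' ▸ dvd_pow_self 2 (Nat.succ_ne_zero n))
  obtain ⟨q, ⟨y, hyC, rfl⟩, hcen⟩ := c
  rw [orderOf_eq_prime_iff] at hc
  refine ⟨y, hyC, fun hy => hc.2 (Subtype.ext ((QuotientGroup.eq_one_iff y).2 hy)), ?_, fun p => ?_⟩
  · refine (QuotientGroup.eq_one_iff _).1 ?_
    have h2 := congrArg Subtype.val hc.1
    rw [QuotientGroup.mk_mul, ← pow_two]
    exact h2
  · rw [← QuotientGroup.eq_one_iff]
    have h2 := Subgroup.mem_center_iff.1 hcen (QuotientGroup.mk' A p)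
    simp only [QuotientGroup.mk'_apply] at h2
    simp only [QuotientGroup.mk_mul, QuotientGroup.mk_inv]
    rw [← h2]; group

end Above

theorem homo_le {B : Subgroup P} {b : ℕ} (hA : Homo K A a) (hB : Homo K B b) (hle : B ≤ A)
    (hab : a ≤ b) : A ≤ B := by
  suffices ∀ j, j ≤ b → ∀ x ∈ A, x ^ 2 ^ j = 1 → x ∈ B from
    fun x hx => this a hab x hx (hA.exp x hx)
  intro j
  induction j with
  | zero =>
    intro _ x _ h
    rw [pow_zero, pow_one] at h
    rw [h]; exact B.one_mem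
  | succ j ih =>
    intro hj x hx h
    have h2 : x ^ 2 ^ j * x ^ 2 ^ j = 1 := by rwa [← pow_add, ← two_mul, ← pow_succ']
    obtain ⟨z, hz, hze⟩ := pi_surj hS hB h2
    let w := z ^ 2 ^ (b - 1 - j)
    have hw : w ∈ B := B.pow_mem hz _
    have hw2 : w ^ 2 ^ j = x ^ 2 ^ j := by
      rw [← hze, ← pow_mul, ← pow_add]
      congr 2; omega
    have := ih (by omega) (x * w⁻¹) (A.mul_mem hx (A.inv_mem (hle hw))) (by
      rw [(show Commute x w⁻¹ from hA.comm _ hx _ (A.inv_mem (hle hw))).mul_pow, inv_pow, hw2,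
        mul_inv_cancel])
    simpa [mul_assoc] using B.mul_mem this hw

variable (hA : Homo K A a) (hn : A.Normal) (hinvA : ∀ x : P, x * x = 1 → x ∈ A)
  (hmax : ∀ B : Subgroup P, B.Normal → A ≤ B → (∀ x ∈ B, ∀ y ∈ B, x * y = y * x) →
    (∀ k : K, ∀ x ∈ B, (k : MulAut P) x ∈ B) → B = A)

section SelfCentralising

include hA hn hinvA hmax

theorem centralizer_eq (ha : 2 ≤ a) {y : P} (hy : ∀ x ∈ A, y * x = x * y) : y ∈ A := by
  by_contra hyA
  have := hn
  let C := Subgroup.centralizer (A : Set P)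
  have hCn : C.Normal := Subgroup.normal_centralizer
  have hmemC : ∀ {z}, z ∈ C ↔ ∀ x ∈ A, z * x = x * z := fun {z} => by
    rw [Subgroup.mem_centralizer_iff]
    exact ⟨fun h x hx => (h x hx).symm, fun h x hx => (h x hx).symm⟩
  have hAC : A ≤ C := fun x hx => hmemC.2 fun x' hx' => hA.comm x hx x' hx'
  obtain ⟨y₀, hy₀C, hy₀A, hy₀⟩ := exists_above hS hn hAC fun h => hyA (h ▸ hmemC.2 hy)
  let InC : P → Prop := fun z => InY A z ∧ z ∈ C
  have hmulC : ∀ {z z'}, InC z → InC z' → InC (z * z') := fun h h' =>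
    ⟨inY_mul hn h.1 h'.1, C.mul_mem h.2 h'.2⟩
  have hinvC : ∀ {z}, InC z → InC z⁻¹ := fun h => ⟨inY_inv hn h.1, C.inv_mem h.2⟩
  have hCk : ∀ (k : K) {z}, InC z → InC ((k : MulAut P) z) := fun k z h =>
    ⟨inY_map hn hA.inv k h.1, hmemC.2 fun x hx => by
      have h1 := congrArg (k : MulAut P) (hmemC.1 h.2 _ (hA.inv k⁻¹ x hx))
      rw [map_mul, map_mul, apply_inv_apply] at h1
      exact h1⟩
  have hc : ∀ {z z'}, InC z → InC z' →
      (z * z' * z⁻¹ * z'⁻¹) * (z * z' * z⁻¹ * z'⁻¹) = 1 := by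
    intro z z' hz hz'
    have h1 : z * (z * z' * z⁻¹ * z'⁻¹) = (z * z' * z⁻¹ * z'⁻¹) * z :=
      hmemC.1 hz.2 _ (hz.1.2 z')
    have h2 : z' * (z * z) = (z * z) * z' := hmemC.1 hz'.2 _ hz.1.1
    calc (z * z' * z⁻¹ * z'⁻¹) * (z * z' * z⁻¹ * z'⁻¹)
        = (z * z' * z⁻¹ * z'⁻¹) * z * (z' * z⁻¹ * z'⁻¹) := by group
      _ = z * (z * z' * z⁻¹ * z'⁻¹) * (z' * z⁻¹ * z'⁻¹) := by rw [h1]
      _ = (z * z) * z' * (z * z)⁻¹ * z'⁻¹ := by group
      _ = 1 := by rw [← h2]; group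
  let s : P → P := fun z => (z * z) ^ 2 ^ (a - 1)
  have hs2 : ∀ {z}, InC z → s z * s z = 1 := fun h => pi_mem hA h.1.1
  have hsmul : ∀ {z z'}, InC z → InC z' → s (z * z') = s z * s z' := by
    intro z z' hz hz'
    have hcA : z' * z * z'⁻¹ * z⁻¹ ∈ A := hz'.1.2 z
    have e : z * z' * (z * z') = (z' * z * z'⁻¹ * z⁻¹) * ((z * z) * (z' * z')) := by
      calc z * z' * (z * z') = z * (z' * z * z'⁻¹ * z⁻¹) * z * (z' * z') := by group
        _ = _ := by rw [hmemC.1 hz.2 _ hcA]; group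
    show (z * z' * (z * z')) ^ _ = _
    rw [e, (show Commute (z' * z * z'⁻¹ * z⁻¹) ((z * z) * (z' * z')) from
      hA.comm _ hcA _ (A.mul_mem hz.1.1 hz'.1.1)).mul_pow,
      (show Commute (z * z) (z' * z') from hA.comm _ hz.1.1 _ hz'.1.1).mul_pow]
    have : (z' * z * z'⁻¹ * z⁻¹) ^ 2 ^ (a - 1) = 1 := by
      rw [show a - 1 = (a - 2) + 1 by omega, pow_succ', pow_mul, pow_two, hc hz' hz, one_pow]
    rw [this, one_mul]
  have hker : ∀ {z}, InC z → s z = 1 → z ∈ A := by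
    intro z hz h
    obtain ⟨x, hx, hxe⟩ := exists_root hS hA (a - 1) (by omega) _ hz.1.1 h
    have : z * x⁻¹ * (z * x⁻¹) = 1 := by
      calc z * x⁻¹ * (z * x⁻¹) = z * (x⁻¹ * z) * x⁻¹ := by group
        _ = z * (z * x⁻¹) * x⁻¹ := by rw [hmemC.1 hz.2 _ (A.inv_mem hx)]
        _ = (z * z) * (x * x)⁻¹ := by group
        _ = 1 := by rw [hxe]; group
    simpa [mul_assoc] using A.mul_mem (hinvA _ this) hx
  have hs0 : s y₀ ≠ 1 := fun h => hy₀A (hker ⟨hy₀, hy₀C⟩ h)
  have hsurj : ∀ u, u * u = 1 → ∃ z, InC z ∧ s z = u := by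
    intro u hu
    rcases eq_or_ne u 1 with rfl | hu1
    · exact ⟨1, ⟨inY_of_mem hn A.one_mem, C.one_mem⟩, by simp [s]⟩
    · obtain ⟨k, hk, -⟩ := hS.reg _ u hs0 (hs2 ⟨hy₀, hy₀C⟩) hu1 hu
      exact ⟨_, hCk k ⟨hy₀, hy₀C⟩, by rw [← hk]; simp [s]⟩
  choose f hf hfs using hsurj
  let c : P → P → P := fun z z' => z * z' * z⁻¹ * z'⁻¹
  have cl : ∀ {z₁ z₂ v}, InC z₁ → InC z₂ → InC v → c (z₁ * z₂) v = c z₁ v * c z₂ v := by
    intro z₁ z₂ v h₁ h₂ hv
    calc z₁ * z₂ * v * (z₁ * z₂)⁻¹ * v⁻¹ = z₁ * c z₂ v * z₁⁻¹ * c z₁ v := by simp only [c]; group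
      _ = c z₁ v * c z₂ v := by
        rw [hmemC.1 h₁.2 _ (h₂.1.2 v), mul_inv_cancel_right, hA.comm _ (h₂.1.2 v) _ (h₁.1.2 v)]
  have crel : ∀ {z z'}, InC z → InC z' → c z z' = (c z' z)⁻¹ := fun _ _ => by simp only [c]; group
  have cr : ∀ {v z₁ z₂}, InC v → InC z₁ → InC z₂ → c v (z₁ * z₂) = c v z₁ * c v z₂ := by
    intro v z₁ z₂ hv h₁ h₂
    rw [crel hv (hmulC h₁ h₂), cl h₁ h₂ hv, crel hv h₁, crel hv h₂, mul_inv_rev]
    exact hA.comm _ (A.inv_mem (h₂.1.2 v)) _ (A.inv_mem (h₁.1.2 v))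
  have cA : ∀ {z v}, z ∈ A → InC v → c z v = 1 := fun {z v} hz hv => by
    show z * v * z⁻¹ * v⁻¹ = 1
    rw [← hmemC.1 hv.2 z hz]; group
  have cwd : ∀ {z z' v}, InC z → InC z' → InC v → s z = s z' → c z v = c z' v ∧ c v z = c v z' := by
    intro z z' v hz hz' hv h
    have hmem : z⁻¹ * z' ∈ A := by
      refine hker (hmulC (hinvC hz) hz') ?_
      have h1 : s z⁻¹ * s z = 1 := by
        rw [← hsmul (hinvC hz) hz, inv_mul_cancel]; simp [s]
      rw [hsmul (hinvC hz) hz', ← h, h1]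
    have e : c z v = c z' v := by
      have := cl hz (hmulC (hinvC hz) hz') hv
      rw [mul_inv_cancel_left, cA hmem hv, mul_one] at this
      exact this.symm
    exact ⟨e, by rw [crel hv hz, crel hv hz', e]⟩
  classical
  let β : P → P → P := fun u v =>
    if h : u * u = 1 ∧ v * v = 1 then c (f u h.1) (f v h.2) else 1
  have hβ : ∀ {u v z z'}, InC z → InC z' → u * u = 1 → v * v = 1 → s z = u → s z' = v →
      β u v = c z z' := by
    intro u v z z' hz hz' hu hv e e'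
    simp only [β, dif_pos (And.intro hu hv)]
    rw [(cwd (hf u hu) hz (hf v hv) ((hfs u hu).trans e.symm)).1,
      (cwd (hf v hv) hz' hz ((hfs v hv).trans e'.symm)).2]
  have hall : ∀ {z z'}, InC z → InC z' → c z z' = 1 := by
    intro z z' hz hz'
    rw [← hβ hz hz' (hs2 hz) (hs2 hz') rfl rfl]
    refine alt_trivial hS β ?_ ?_ ?_ ?_ ?_ (hs2 hz) (hs2 hz')
    · intro u v hu hv
      rw [hβ (hf u hu) (hf v hv) hu hv (hfs u hu) (hfs v hv)]
      exact hc (hf u hu) (hf v hv)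
    · intro u u' v hu hu' hv
      rw [hβ (hmulC (hf u hu) (hf u' hu')) (hf v hv) (invol_mul hS hu hu') hv
        (by rw [hsmul (hf u hu) (hf u' hu'), hfs, hfs]) (hfs v hv),
        cl (hf u hu) (hf u' hu') (hf v hv),
        hβ (hf u hu) (hf v hv) hu hv (hfs u hu) (hfs v hv),
        hβ (hf u' hu') (hf v hv) hu' hv (hfs u' hu') (hfs v hv)]
    · intro u v v' hu hv hv'
      rw [hβ (hf u hu) (hmulC (hf v hv) (hf v' hv')) hu (invol_mul hS hv hv')
        (hfs u hu) (by rw [hsmul (hf v hv) (hf v' hv'), hfs, hfs]),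
        cr (hf u hu) (hf v hv) (hf v' hv'),
        hβ (hf u hu) (hf v hv) hu hv (hfs u hu) (hfs v hv),
        hβ (hf u hu) (hf v' hv') hu hv' (hfs u hu) (hfs v' hv')]
    · intro u hu
      rw [hβ (hf u hu) (hf u hu) hu hu (hfs u hu) (hfs u hu)]
      simp [c]
    · intro k u v hu hv
      rw [hβ (hCk k (hf u hu)) (hCk k (hf v hv)) (invol_map _ hu) (invol_map _ hv)
        (by simp only [s, ← map_mul, ← map_pow]; exact congrArg _ (hfs u hu))
        (by simp only [s, ← map_mul, ← map_pow]; exact congrArg _ (hfs v hv)),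
        hβ (hf u hu) (hf v hv) hu hv (hfs u hu) (hfs v hv)]
      simp [c]
  let B : Subgroup P :=
    { carrier := {z | InC z}
      mul_mem' := hmulC
      one_mem' := ⟨inY_of_mem hn A.one_mem, C.one_mem⟩
      inv_mem' := hinvC }
  have hBA : B = A := hmax B ⟨fun z hz p => by
      refine ⟨?_, hCn.conj_mem z hz.2 p⟩
      rw [show p * z * p⁻¹ = (z * p * z⁻¹ * p⁻¹)⁻¹ * z by group]
      exact inY_mul hn (inY_of_mem hn (A.inv_mem (hz.1.2 p))) hz.1⟩
    (fun x hx => ⟨inY_of_mem hn hx, hAC hx⟩)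
    (fun x hx z hz => by
      have h : x * z * x⁻¹ * z⁻¹ = 1 := hall hx hz
      rwa [mul_inv_eq_one, mul_inv_eq_iff_eq_mul] at h)
    (fun k z hz => hCk k hz)
  exact hy₀A (hBA ▸ (show y₀ ∈ B from ⟨hy₀, hy₀C⟩))

end SelfCentralising

/-! ### The conjugation maps on `A` -/

section Conj

omit hS [Finite P]

/-- The commutator map of `y`. -/
def dd (y x : P) : P := y * x * y⁻¹ * x⁻¹

include hA hn

theorem dd_mem {y x : P} (hx : x ∈ A) : dd y x ∈ A :=
  A.mul_mem (hn.conj_mem x hx y) (A.inv_mem hx)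

theorem dd_mul {y x x' : P} (hx : x ∈ A) (hx' : x' ∈ A) : dd y (x * x') = dd y x * dd y x' := by
  calc dd y (x * x') = y * x * y⁻¹ * (dd y x' * x⁻¹) := by simp only [dd]; group
    _ = y * x * y⁻¹ * (x⁻¹ * dd y x') := by rw [hA.comm _ (dd_mem hA hn hx') _ (A.inv_mem hx)]
    _ = dd y x * dd y x' := by simp only [dd]; group

theorem dd_pow {y x : P} (hx : x ∈ A) (n : ℕ) : dd y (x ^ n) = dd y x ^ n := by
  induction n with
  | zero => simp [dd]
  | succ n ih => rw [pow_succ, pow_succ, dd_mul hA hn (A.pow_mem hx n) hx, ih]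

theorem conj_eq {y x : P} : y * x * y⁻¹ = dd y x * x := by simp only [dd]; group

theorem dd_dd {y x : P} (hy : InY A y) (hx : x ∈ A) : dd y (dd y x) = (dd y x ^ 2)⁻¹ := by
  have h1 : y * (y * x * y⁻¹) * y⁻¹ = x := by
    calc y * (y * x * y⁻¹) * y⁻¹ = (y * y) * x * (y * y)⁻¹ := by group
      _ = x := by rw [hA.comm _ hy.1 _ hx]; group
  have hm := hn.conj_mem x hx y
  calc dd y (dd y x) = (y * (y * x * y⁻¹) * y⁻¹) * (y * x * y⁻¹)⁻¹ * (dd y x)⁻¹ := by
        simp only [dd]; group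
    _ = x * (y * x * y⁻¹)⁻¹ * (dd y x)⁻¹ := by rw [h1]
    _ = (dd y x ^ 2)⁻¹ := by rw [pow_two]; simp only [dd]; group

theorem dd_comp {y y' x : P} (hy : InY A y) (hx : x ∈ A) :
    dd (y * y') x = dd y (dd y' x) * (dd y' x * dd y x) := by
  calc dd (y * y') x = (y * dd y' x * y⁻¹) * dd y x := by simp only [dd]; group
    _ = dd y (dd y' x) * (dd y' x * dd y x) := by simp only [dd]; group

end Conj

section Main

variable (ha : 3 ≤ a)

include hA hn

theorem dd_invol {y x : P} (hx : x * x = 1) : dd y x = 1 := by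
  simp only [dd]; rw [invol_comm hS hx y]; group

theorem dd_pi {y x : P} (hx : x ∈ A) : dd y x ^ 2 ^ (a - 1) = 1 := by
  rw [← dd_pow hA hn hx]; exact dd_invol hS hA hn (pi_mem hA hx)

theorem dd_root {y x : P} (hx : x ∈ A) : ∃ m ∈ A, dd y x = m * m :=
  exists_root hS hA (a - 1) (by have := hA.pos; omega) _ (dd_mem hA hn hx) (dd_pi hS hA hn hx)

/-- The first approximation of the commutator map. -/
def ff (a : ℕ) (y x : P) : P := dd y x ^ 2 ^ (a - 2)

omit hS [Finite P] hA hn in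
theorem ff_map (k : MulAut P) (y x : P) : k (ff a y x) = ff a (k y) (k x) := by
  simp only [ff, dd, map_pow, map_mul, map_inv]

include ha

theorem ff_invol {y x : P} (hx : x ∈ A) : ff a y x * ff a y x = 1 := by
  rw [ff, ← pow_add, ← two_mul, ← pow_succ', show a - 2 + 1 = a - 1 by omega]
  exact dd_pi hS hA hn hx

theorem ff_mul {y x x' : P} (hx : x ∈ A) (hx' : x' ∈ A) :
    ff a y (x * x') = ff a y x * ff a y x' := by
  rw [ff, dd_mul hA hn hx hx', (show Commute _ _ from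
    hA.comm _ (dd_mem hA hn hx) _ (dd_mem hA hn hx')).mul_pow]; rfl

theorem ff_congr {y x x' : P} (hx : x ∈ A) (hx' : x' ∈ A)
    (h : x ^ 2 ^ (a - 1) = x' ^ 2 ^ (a - 1)) : ff a y x = ff a y x' := by
  obtain ⟨w, hw, hwe⟩ := exists_root hS hA (a - 1) (by omega) (x⁻¹ * x')
    (A.mul_mem (A.inv_mem hx) hx') (by
    rw [(show Commute x⁻¹ x' from hA.comm _ (A.inv_mem hx) _ hx').mul_pow, inv_pow, h,
      inv_mul_cancel])
  have : ff a y x' = ff a y x * (ff a y w * ff a y w) := by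
    rw [← ff_mul hS hA hn ha hw hw, ← ff_mul hS hA hn ha hx (A.mul_mem hw hw), ← hwe,
      mul_inv_cancel_left]
  rw [this, ff_invol hS hA hn ha hw, mul_one]

theorem ff_comp {y y' x : P} (hy : InY A y) (hx : x ∈ A) :
    ff a (y * y') x = ff a y' x * ff a y x := by
  obtain ⟨m, hm, hme⟩ := dd_root hS hA hn (y := y') hx
  have h1 := dd_mem hA hn (y := y') hx
  have h2 := dd_mem hA hn (y := y) hx
  rw [ff, dd_comp hA hn hy hx, (show Commute _ _ from
    hA.comm _ (dd_mem hA hn h1) _ (A.mul_mem h1 h2)).mul_pow,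
    (show Commute _ _ from hA.comm _ h1 _ h2).mul_pow]
  have : dd y (dd y' x) ^ 2 ^ (a - 2) = 1 := by
    rw [hme, dd_mul hA hn hm hm, ← pow_two, ← pow_mul, ← pow_succ',
      show a - 2 + 1 = a - 1 by omega]
    exact dd_pi hS hA hn hm
  rw [this, one_mul]; rfl

theorem ff_root {y x m : P} (hy : InY A y) (hx : x ∈ A) (hm : m ∈ A) (hme : dd y x = m * m) :
    m ^ 2 ^ (a - 1) = ff a y x ∧ ff a y m = ff a y x := by
  have e : m ^ 2 ^ (a - 1) = ff a y x := by
    rw [ff, hme, ← pow_two, ← pow_mul, ← pow_succ', show a - 2 + 1 = a - 1 by omega]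
  refine ⟨e, ?_⟩
  have h1 : dd y m ^ 2 = ((m ^ 2) ^ 2)⁻¹ := by
    have := dd_dd hA hn hy hx
    rw [hme, ← pow_two, dd_pow hA hn hm] at this
    exact this
  have hc : Commute (dd y m) (m ^ 2) := hA.comm _ (dd_mem hA hn hm) _ (A.pow_mem hm 2)
  have h2 : (dd y m * m ^ 2) ^ 2 ^ (a - 2) = 1 := by
    rw [show a - 2 = (a - 3) + 1 by omega, pow_succ' 2 (a - 3), pow_mul, hc.mul_pow, h1, inv_mul_cancel,
      one_pow]
  rw [hc.mul_pow, ← pow_mul m, ← pow_succ', show a - 2 + 1 = a - 1 by omega, e] at h2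
  exact mul_right_cancel (h2.trans (ff_invol hS hA hn ha hx).symm)

include hinvA hmax

theorem no_translation {y₀ : P} (hy₀ : InY A y₀) (h1 : ∀ x ∈ A, ff a y₀ x = 1) : y₀ ∈ A := by
  by_contra hy₀A
  let InT : P → Prop := fun y => InY A y ∧ ∀ x ∈ A, ff a y x = 1
  have hd : ∀ {y}, InT y → ∀ x ∈ A, dd y x * dd y x = 1 := fun {y} hy =>
    image_invol hS hA (dd y) (fun x hx => dd_mem hA hn hx) (fun x hx n => dd_pow hA hn hx n)
      (fun x hx => Or.inr (dd_dd hA hn hy.1 hx)) hy.2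
  have hmul : ∀ {y y'}, InT y → InT y' → InT (y * y') := fun hy hy' =>
    ⟨inY_mul hn hy.1 hy'.1, fun x hx => by
      rw [ff_comp hS hA hn ha hy.1 hx, hy.2 x hx, hy'.2 x hx, one_mul]⟩
  have hofA : ∀ {z}, z ∈ A → InT z := fun {z} hz => ⟨inY_of_mem hn hz, fun x hx => by
    rw [ff, show dd z x = 1 by simp only [dd]; rw [hA.comm z hz x hx]; group, one_pow]⟩
  have hinv : ∀ {y}, InT y → InT y⁻¹ := fun {y} hy => by
    have e : y⁻¹ = y * (y * y)⁻¹ := by group
    rw [e]; exact hmul hy (hofA (A.inv_mem hy.1.1))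
  have hk : ∀ (k : K) {y}, InT y → InT ((k : MulAut P) y) := fun k y hy =>
    ⟨inY_map hn hA.inv k hy.1, fun x hx => by
      have h := congrArg (k : MulAut P) (hy.2 _ (hA.inv k⁻¹ x hx))
      rw [map_one, ff_map, apply_inv_apply] at h
      exact h⟩
  have hddE : ∀ {y x x'}, InT y → x ∈ A → x' ∈ A → x ^ 2 ^ (a - 1) = x' ^ 2 ^ (a - 1) →
      dd y x = dd y x' := by
    intro y x x' hy hx hx' h
    obtain ⟨w, hw, hwe⟩ := exists_root hS hA (a - 1) (by omega) (x⁻¹ * x')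
      (A.mul_mem (A.inv_mem hx) hx') (by
      rw [(show Commute x⁻¹ x' from hA.comm _ (A.inv_mem hx) _ hx').mul_pow, inv_pow, h,
        inv_mul_cancel])
    have e : dd y x' = dd y x * dd y (w * w) := by
      rw [← dd_mul hA hn hx (A.mul_mem hw hw), ← hwe, mul_inv_cancel_left]
    rw [e, dd_mul hA hn hw hw, hd hy w hw, mul_one]
  let s : P → P := fun z => (z * z) ^ 2 ^ (a - 1)
  have hs2 : ∀ {z}, InT z → s z * s z = 1 := fun h => pi_mem hA h.1.1
  have hsmul : ∀ {z z'}, InT z → InT z' → s (z * z') = s z * s z' := by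
    intro z z' hz hz'
    let c := z' * z * z'⁻¹ * z⁻¹
    have hcA : c ∈ A := hz'.1.2 z
    have e1 : dd z' c * (c * c) = (dd z (z' * z'))⁻¹ := by simp [dd, c, mul_inv_rev, mul_assoc]
    have h4 : c ^ 4 = 1 := by
      have h := congrArg (· ^ 2) e1
      simp only [inv_pow] at h
      rw [(show Commute (dd z' c) (c * c) from
        hA.comm _ (dd_mem hA hn hcA) _ (A.mul_mem hcA hcA)).mul_pow, pow_two (dd z' c),
        hd hz' c hcA, one_mul, pow_two (dd z (z' * z')), hd hz _ hz'.1.1, inv_one,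
        ← pow_two c, ← pow_mul] at h
      exact h
    have hcp : c ^ 2 ^ (a - 1) = 1 := by
      rw [show a - 1 = 2 + (a - 3) by omega, pow_add, pow_mul, show (2 : ℕ) ^ 2 = 4 from rfl, h4,
        one_pow]
    obtain ⟨w, hw, hwe⟩ := exists_root hS hA (a - 1) (by omega) c hcA hcp
    have hdc : dd z c = 1 := by rw [hwe, dd_mul hA hn hw hw, hd hz w hw]
    have e2 : z * z' * (z * z') = c * ((z * z) * (z' * z')) := by
      calc z * z' * (z * z') = (z * c * z⁻¹) * ((z * z) * (z' * z')) := by simp only [c]; group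
        _ = _ := by rw [conj_eq hA hn, hdc, one_mul]
    show (z * z' * (z * z')) ^ _ = _
    rw [e2, (show Commute c ((z * z) * (z' * z')) from
      hA.comm _ hcA _ (A.mul_mem hz.1.1 hz'.1.1)).mul_pow, hcp, one_mul,
      (show Commute (z * z) (z' * z') from hA.comm _ hz.1.1 _ hz'.1.1).mul_pow]
  have hker : ∀ {z}, InT z → s z = 1 → z ∈ A := by
    intro z hz h
    obtain ⟨x, hx, hxe⟩ := exists_root hS hA (a - 1) (by omega) _ hz.1.1 h
    have hz' : InT (z * x⁻¹) := hmul hz (hofA (A.inv_mem hx))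
    let e := dd z x⁻¹
    have he : z * x⁻¹ * (z * x⁻¹) = e := by
      calc z * x⁻¹ * (z * x⁻¹) = (z * x⁻¹ * z⁻¹) * (z * z) * x⁻¹ := by group
        _ = e := by rw [conj_eq hA hn, hxe]; simp only [e]; group
    have he2 : e * e = 1 := hd hz _ (A.inv_mem hx)
    have heA : e ∈ A := dd_mem hA hn (A.inv_mem hx)
    obtain ⟨w, hw, hwe⟩ := exists_root hS hA 1 (by omega) e heA (by rw [pow_one, pow_two, he2])
    obtain ⟨v, hv, hve⟩ := exists_root hS hA 2 (by omega) w hw (by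
      rw [show 2 ^ 2 = 2 * 2 from rfl, pow_mul, pow_two w, ← hwe, pow_two, he2])
    have hdw : dd (z * x⁻¹) w = 1 := by rw [hve, dd_mul hA hn hv hv, hd hz' v hv]
    have hinvol : z * x⁻¹ * w * (z * x⁻¹ * w) = 1 := by
      calc z * x⁻¹ * w * (z * x⁻¹ * w)
          = (z * x⁻¹ * w * (z * x⁻¹)⁻¹) * (z * x⁻¹ * (z * x⁻¹)) * w := by group
        _ = w * e * w := by rw [conj_eq hA hn, hdw, one_mul, he]
        _ = w * (w * w) * w := by rw [← hwe]
        _ = (w * w) * (w * w) := by group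
        _ = 1 := by rw [← hwe, he2]
    have := A.mul_mem (hinvA _ hinvol) (A.mul_mem (A.inv_mem hw) hx)
    simpa [mul_assoc] using this
  have hs0 : s y₀ ≠ 1 := fun h => hy₀A (hker ⟨hy₀, h1⟩ h)
  have hsurj : ∀ u, u * u = 1 → ∃ z, InT z ∧ s z = u := by
    intro u hu
    rcases eq_or_ne u 1 with rfl | hu1
    · exact ⟨1, hofA A.one_mem, by simp [s]⟩
    · obtain ⟨k, hke, -⟩ := hS.reg _ u hs0 (hs2 ⟨hy₀, h1⟩) hu1 hu
      exact ⟨_, hk k ⟨hy₀, h1⟩, by rw [← hke]; simp [s]⟩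
  choose f hf hfs using hsurj
  choose g hg hgp using fun u (hu : u * u = 1) => pi_surj hS hA hu
  classical
  let β : P → P → P := fun u v =>
    if h : u * u = 1 ∧ v * v = 1 then dd (f u h.1) (g v h.2) else 1
  have hβ : ∀ {u v z x}, InT z → x ∈ A → u * u = 1 → v * v = 1 → s z = u →
      x ^ 2 ^ (a - 1) = v → β u v = dd z x := by
    intro u v z x hz hx hu hv e e'
    simp only [β, dif_pos (And.intro hu hv)]
    rw [hddE (hf u hu) (hg v hv) hx ((hgp v hv).trans e'.symm)]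
    have hmem : z⁻¹ * f u hu ∈ A := by
      refine hker (hmul (hinv hz) (hf u hu)) ?_
      have h3 : s z⁻¹ * s z = 1 := by rw [← hsmul (hinv hz) hz, inv_mul_cancel]; simp [s]
      rw [hsmul (hinv hz) (hf u hu), hfs, ← e, h3]
    have h2 := dd_comp hA hn (y' := z⁻¹ * f u hu) hz.1 hx
    rw [mul_inv_cancel_left] at h2
    rw [h2, show dd (z⁻¹ * f u hu) x = 1 by
      simp only [dd]; rw [hA.comm _ hmem x hx]; group]
    simp [dd]
  have hall : ∀ {z x}, InT z → x ∈ A → dd z x = 1 := by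
    intro z x hz hx
    rw [← hβ hz hx (hs2 hz) (pi_mem hA hx) rfl rfl]
    refine alt_trivial hS β ?_ ?_ ?_ ?_ ?_ (hs2 hz) (pi_mem hA hx)
    · intro u v hu hv
      rw [hβ (hf u hu) (hg v hv) hu hv (hfs u hu) (hgp v hv)]
      exact hd (hf u hu) _ (hg v hv)
    · intro u u' v hu hu' hv
      rw [hβ (hmul (hf u hu) (hf u' hu')) (hg v hv) (invol_mul hS hu hu') hv
        (by rw [hsmul (hf u hu) (hf u' hu'), hfs, hfs]) (hgp v hv),
        dd_comp hA hn (hf u hu).1 (hg v hv),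
        dd_invol hS hA hn (hd (hf u' hu') _ (hg v hv)), one_mul,
        hA.comm _ (dd_mem hA hn (hg v hv)) _ (dd_mem hA hn (hg v hv)),
        hβ (hf u hu) (hg v hv) hu hv (hfs u hu) (hgp v hv),
        hβ (hf u' hu') (hg v hv) hu' hv (hfs u' hu') (hgp v hv)]
    · intro u v v' hu hv hv'
      rw [hβ (hf u hu) (A.mul_mem (hg v hv) (hg v' hv')) hu (invol_mul hS hv hv') (hfs u hu)
        (by rw [(show Commute _ _ from hA.comm _ (hg v hv) _ (hg v' hv')).mul_pow, hgp, hgp]),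
        dd_mul hA hn (hg v hv) (hg v' hv'),
        hβ (hf u hu) (hg v hv) hu hv (hfs u hu) (hgp v hv),
        hβ (hf u hu) (hg v' hv') hu hv' (hfs u hu) (hgp v' hv')]
    · intro u hu
      rw [hβ (hf u hu) (hf u hu).1.1 hu hu (hfs u hu) (hfs u hu)]
      simp only [dd]; group
    · intro k u v hu hv
      rw [hβ (hk k (hf u hu)) (hA.inv k _ (hg v hv)) (invol_map _ hu) (invol_map _ hv)
        (by simp only [s, ← map_mul, ← map_pow]; exact congrArg _ (hfs u hu))
        (by rw [← map_pow, hgp]),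
        hβ (hf u hu) (hg v hv) hu hv (hfs u hu) (hgp v hv)]
      simp [dd]
  refine hy₀A (centralizer_eq hS hA hn hinvA hmax (by omega) fun x hx => ?_)
  have h := hall ⟨hy₀, h1⟩ hx
  simp only [dd] at h
  rwa [mul_inv_eq_one, mul_inv_eq_iff_eq_mul] at h

theorem ff_trivial_or (u₀ : P) (hu₀ : u₀ * u₀ = 1) (hu₁ : u₀ ≠ 1) {y : P} (hy : InY A y) :
    (∀ x ∈ A, ff a y x = 1) ∨ ∀ x ∈ A, ff a y x = x ^ 2 ^ (a - 1) := by
  have hcommute : ∀ {y y' x m m'}, InY A y → InY A y' → x ∈ A → m ∈ A → m' ∈ A →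
      dd y x = m * m → dd y' x = m' * m' → ff a y m' = ff a y' m := by
    intro y y' x m m' hy hy' hx hm hm' e e'
    have h1 : dd (y * y') x = dd (y' * y) x := by
      let c := y' * y * y'⁻¹ * y⁻¹
      have hc : c ∈ A := hy'.2 y
      have hm2 : y * y' * x * (y * y')⁻¹ ∈ A := hn.conj_mem x hx _
      have e3 : y' * y * x * (y' * y)⁻¹ = y * y' * x * (y * y')⁻¹ := by
        calc y' * y * x * (y' * y)⁻¹ = c * (y * y' * x * (y * y')⁻¹) * c⁻¹ := by
              simp only [c]; group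
          _ = _ := by rw [hA.comm _ hc _ hm2]; group
      simp only [dd, e3]
    rw [dd_comp hA hn hy hx, dd_comp hA hn hy' hx,
      hA.comm _ (dd_mem hA hn hx) _ (dd_mem hA hn hx)] at h1
    have h2 := mul_right_cancel h1
    rw [e', e, dd_mul hA hn hm' hm', dd_mul hA hn hm hm, ← pow_two, ← pow_two] at h2
    have h3 := congrArg (· ^ 2 ^ (a - 3)) h2
    simp only [← pow_mul, ← pow_succ', show a - 3 + 1 = a - 2 by omega] at h3
    exact h3
  let Good : P → P → Prop := fun u z => InY A z → ∀ x ∈ A, x ^ 2 ^ (a - 1) = u →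
    ff a z x = 1 ∨ ff a z x = u
  classical
  have := Fintype.ofFinite P
  have : Nonempty {u : P // u * u = 1 ∧ u ≠ 1} := ⟨⟨u₀, hu₀, hu₁⟩⟩
  obtain ⟨⟨u, hu, hu1⟩, hmaxu⟩ := Finite.exists_max
    (fun u : {u : P // u * u = 1 ∧ u ≠ 1} => Nat.card {z : P // Good u.1 z})
  have hgood : ∀ z, Good u z := by
    by_contra hcon
    push Not at hcon
    obtain ⟨z, hz⟩ := hcon
    simp only [Good, not_forall, not_or] at hz
    obtain ⟨hzY, x, hx, hxu, hz1, hzu⟩ := hz
    obtain ⟨m, hm, hme⟩ := dd_root hS hA hn (y := z) hx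
    obtain ⟨e1, e2⟩ := ff_root hS hA hn ha hzY hx hm hme
    let u' := ff a z x
    have hu' : u' * u' = 1 := ff_invol hS hA hn ha hx
    have hsub : ∀ z', Good u z' → Good u' z' := by
      intro z' hz' hz'Y x' hx' hx'e
      rw [ff_congr hS hA hn ha hx' hm (hx'e.trans e1.symm)]
      obtain ⟨m', hm', hme'⟩ := dd_root hS hA hn (y := z') hx
      rw [← hcommute hzY hz'Y hx hm hm' hme hme']
      obtain ⟨e1', -⟩ := ff_root hS hA hn ha hz'Y hx hm' hme'
      rcases hz' hz'Y x hx hxu with h | h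
      · left
        rw [ff_congr hS hA hn ha hm' A.one_mem (by rw [e1', h, one_pow])]
        simp [ff, dd]
      · right
        rw [ff_congr hS hA hn ha hm' hx (by rw [e1', h, hxu])]
    have hzgood : Good u' z := fun hzY x' hx' hx'e => Or.inr (by
      rw [ff_congr hS hA hn ha hx' hm (hx'e.trans e1.symm), e2])
    have hlt : Nat.card {w : P // Good u w} < Nat.card {w : P // Good u' w} := by
      rw [Nat.card_eq_fintype_card, Nat.card_eq_fintype_card]
      refine Fintype.card_lt_of_injective_of_notMem (fun w => ⟨w.1, hsub _ w.2⟩)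
        (fun w w' h => Subtype.ext (congrArg (fun q : {w : P // Good u' w} => q.1) h))
        (b := ⟨z, hzgood⟩) ?_
      rintro ⟨⟨w, hw⟩, he⟩
      have : w = z := congrArg Subtype.val he
      subst this
      rcases hw hzY x hx hxu with h | h
      · exact hz1 h
      · exact hzu h
    exact absurd (hmaxu ⟨u', hu', hz1⟩) (not_le.2 hlt)
  have hall : ∀ v, v * v = 1 → v ≠ 1 → ∀ x ∈ A, x ^ 2 ^ (a - 1) = v →
      ff a y x = 1 ∨ ff a y x = v := by
    intro v hv hv1 x hx hxv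
    obtain ⟨k, rfl, -⟩ := hS.reg u v hu1 hu hv1 hv
    have hxk := hA.inv k⁻¹ x hx
    have he : ((↑(k⁻¹) : MulAut P) x) ^ 2 ^ (a - 1) = u := by
      rw [← map_pow, hxv, ← MulAut.mul_apply, ← Subgroup.coe_mul, inv_mul_cancel,
        Subgroup.coe_one, MulAut.one_apply]
    have h := hgood _ (inY_map hn hA.inv k⁻¹ hy) _ hxk he
    have e : ff a ((↑(k⁻¹) : MulAut P) y) ((↑(k⁻¹) : MulAut P) x) =
        (↑(k⁻¹) : MulAut P) (ff a y x) := by simp [ff, dd]
    rw [e] at h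
    rcases h with h | h
    · exact Or.inl ((map_eq_one_iff _ (MulEquiv.injective _)).1 h)
    · refine Or.inr ((↑(k⁻¹) : MulAut P).injective ?_)
      rw [h, ← MulAut.mul_apply, ← Subgroup.coe_mul, inv_mul_cancel, Subgroup.coe_one,
        MulAut.one_apply]
  have hzero : ∀ x ∈ A, x ^ 2 ^ (a - 1) = 1 → ff a y x = 1 := fun x hx h => by
    rw [ff_congr hS hA hn ha hx A.one_mem (by rw [h, one_pow])]; simp [ff, dd]
  by_contra hcon
  push Not at hcon
  obtain ⟨⟨x, hx, hxne⟩, x', hx', hx'ne⟩ := hcon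
  have hxv : x ^ 2 ^ (a - 1) ≠ 1 := fun h => hxne (hzero x hx h)
  have hx'v : x' ^ 2 ^ (a - 1) ≠ 1 := fun h => hx'ne (by rw [h]; exact hzero x' hx' h)
  have e1 := (hall _ (pi_mem hA hx) hxv x hx rfl).resolve_left hxne
  have e2 := (hall _ (pi_mem hA hx') hx'v x' hx' rfl).resolve_right hx'ne
  have hxx : (x * x') ^ 2 ^ (a - 1) = x ^ 2 ^ (a - 1) * x' ^ 2 ^ (a - 1) :=
    (show Commute x x' from hA.comm _ hx _ hx').mul_pow _
  have e3 : ff a y (x * x') = x ^ 2 ^ (a - 1) := by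
    rw [ff_mul hS hA hn ha hx hx', e1, e2, mul_one]
  rcases eq_or_ne ((x * x') ^ 2 ^ (a - 1)) 1 with h | h
  · rw [hzero _ (A.mul_mem hx hx') h] at e3
    exact hxv e3.symm
  · rcases hall _ (pi_mem hA (A.mul_mem hx hx')) h _ (A.mul_mem hx hx') rfl with h' | h'
    · rw [h'] at e3; exact hxv e3.symm
    · rw [h', hxx] at e3; exact hx'v (mul_eq_left.1 e3)

theorem false_of_maximal (hA' : ∃ y : P, InY A y ∧ y ∉ A) : False := by
  obtain ⟨y, hy, hyA⟩ := hA'
  obtain ⟨p, q, hpq, hp1, hp, hq1, hq⟩ := hS.two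
  have hid : ∀ {z}, InY A z → z ∉ A → ∀ x ∈ A, ff a z x = x ^ 2 ^ (a - 1) := fun {z} hz hzA =>
    (ff_trivial_or hS hA hn hinvA hmax ha p hp hp1 hz).resolve_left fun h =>
      hzA (no_translation hS hA hn hinvA hmax ha hz h)
  let δ : P → P := fun x => y * x * y⁻¹ * x
  have hδm : ∀ x ∈ A, δ x ∈ A := fun x hx => A.mul_mem (hn.conj_mem x hx y) hx
  have hδd : ∀ x ∈ A, δ x = dd y x * x ^ 2 := fun x _ => by
    simp only [δ, dd, pow_two]; group
  have hδmul : ∀ x ∈ A, ∀ x' ∈ A, δ (x * x') = δ x * δ x' := by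
    intro x hx x' hx'
    have h := hn.conj_mem x' hx' y
    calc δ (x * x') = y * x * y⁻¹ * ((y * x' * y⁻¹) * x) * x' := by simp only [δ]; group
      _ = y * x * y⁻¹ * (x * (y * x' * y⁻¹)) * x' := by rw [hA.comm _ h _ hx]
      _ = _ := by simp only [δ]; group
  have hδpow : ∀ x ∈ A, ∀ n : ℕ, δ (x ^ n) = δ x ^ n := by
    intro x hx n
    induction n with
    | zero => simp [δ]
    | succ n ih => rw [pow_succ, pow_succ, hδmul _ (A.pow_mem hx n) _ hx, ih]
  have hδE : ∀ x ∈ A, δ x * δ x = 1 := by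
    refine image_invol hS hA δ hδm hδpow (fun x hx => Or.inl ?_) (fun x hx => ?_)
    · have h1 : y * (y * x * y⁻¹) * y⁻¹ = x := by
        calc y * (y * x * y⁻¹) * y⁻¹ = (y * y) * x * (y * y)⁻¹ := by group
          _ = x := by rw [hA.comm _ hy.1 _ hx]; group
      calc δ (δ x) = (y * (y * x * y⁻¹) * y⁻¹) * (y * x * y⁻¹) * δ x := by simp only [δ]; group
        _ = x * (y * x * y⁻¹) * δ x := by rw [h1]
        _ = δ x ^ 2 := by rw [hA.comm _ hx _ (hn.conj_mem x hx y), pow_two]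
    · rw [hδd x hx, (show Commute _ _ from
        hA.comm _ (dd_mem hA hn hx) _ (A.pow_mem hx 2)).mul_pow, ← pow_mul, ← pow_succ',
        show a - 2 + 1 = a - 1 by omega]
      show ff a y x * _ = 1
      rw [hid hy hyA x hx]
      exact pi_mem hA hx
  have hyy : y * y * (y * y) = 1 := by
    have h1 : δ (y * y) = (y * y) ^ 2 := by simp only [δ, pow_two]; group
    have h2 := hδE _ hy.1
    rw [h1, ← pow_two, ← pow_mul] at h2
    obtain ⟨w, hw, hwe⟩ := exists_root hS hA 2 (by omega) _ hy.1 h2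
    rw [← pow_two, ← h1, hwe, hδmul w hw w hw]
    exact hδE w hw
  have hsq : ∀ x ∈ A, y * x * (y * x) = δ x * (y * y) := by
    intro x hx
    calc y * x * (y * x) = (y * x * y⁻¹) * ((y * y) * x) := by group
      _ = _ := by rw [hA.comm _ hy.1 _ hx]; simp only [δ]; group
  have hne : ∀ x ∈ A, δ x ≠ y * y := fun x hx h => hyA (by
    have h' : y * x * (y * x) = 1 := by rw [hsq x hx, h, hyy]
    simpa [mul_assoc] using A.mul_mem (hinvA _ h') (A.inv_mem hx))
  have hy1 : y * y ≠ 1 := fun h => hne 1 A.one_mem (by rw [h]; simp [δ])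
  have himage : ∀ v, v * v = 1 → v ≠ 1 → ∃ x ∈ A, δ x = v * (y * y) := by
    intro v hv hv1
    obtain ⟨k, hk, -⟩ := hS.reg _ v hy1 hyy hv1 hv
    have hky : InY A ((k : MulAut P) y) := inY_map hn hA.inv k hy
    have hkA : (k : MulAut P) y ∉ A := fun h => hyA (by
      simpa [← MulAut.mul_apply] using hA.inv k⁻¹ _ h)
    have hx : y⁻¹ * (k : MulAut P) y ∈ A := by
      refine no_translation hS hA hn hinvA hmax ha (inY_mul hn (inY_inv hn hy) hky) fun x hx => ?_
      have hiA : y⁻¹ ∉ A := fun h => hyA (inv_mem_iff.1 h)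
      rw [ff_comp hS hA hn ha (inY_inv hn hy) hx, hid hky hkA x hx, hid (inY_inv hn hy) hiA x hx]
      exact pi_mem hA hx
    refine ⟨_, hx, ?_⟩
    have h := hsq _ hx
    rw [mul_inv_cancel_left, ← map_mul, hk] at h
    rw [h, mul_assoc, hyy, mul_one]
  obtain ⟨v, hv, hv1, hvne⟩ : ∃ v : P, v * v = 1 ∧ v ≠ 1 ∧ v ≠ y * y := by
    by_cases h : p = y * y
    · exact ⟨q, hq, hq1, fun h' => hpq (h.trans h'.symm)⟩
    · exact ⟨p, hp, hp1, h⟩
  obtain ⟨x₁, hx₁, e₁⟩ := himage v hv hv1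
  obtain ⟨x₂, hx₂, e₂⟩ := himage (v * (y * y)) (invol_mul hS hv hyy) fun h =>
    hvne (mul_right_cancel (h.trans hyy.symm))
  rw [mul_assoc v, hyy, mul_one] at e₂
  refine hne (x₂ * x₁) (A.mul_mem hx₂ hx₁) ?_
  rw [hδmul _ hx₂ _ hx₁, e₁, e₂, ← mul_assoc, hv, one_mul]

end Main

omit hA hn hinvA hmax in
theorem center_sq : ∀ z ∈ Subgroup.center P, z * z = 1 := by
  by_contra hcon
  push Not at hcon
  obtain ⟨z, hz, hz2⟩ := hcon
  have hZne : Subgroup.center P ≠ ⊥ := fun h => hz2 (by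
    rw [h, Subgroup.mem_bot] at hz; rw [hz, one_mul])
  have hZinv : ∀ k : K, ∀ x ∈ Subgroup.center P, (k : MulAut P) x ∈ Subgroup.center P := by
    intro k x hx
    rw [Subgroup.mem_center_iff]
    intro g
    have := congrArg (k : MulAut P) (Subgroup.mem_center_iff.1 hx ((k : MulAut P).symm g))
    simpa using this
  obtain ⟨e, he⟩ := exists_homo hS hZne
    (fun x hx y _ => (Subgroup.mem_center_iff.1 hx y).symm) hZinv
  have he2 : 2 ≤ e := by
    by_contra h
    have h1 := he.exp z hz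
    rw [show e = 1 by have := he.pos; omega, pow_one, pow_two] at h1
    exact hz2 h1
  let S : Set (Subgroup P) := {A | A.Normal ∧ Subgroup.center P ≤ A ∧
    (∀ x ∈ A, ∀ y ∈ A, x * y = y * x) ∧ ∀ k : K, ∀ x ∈ A, (k : MulAut P) x ∈ A}
  obtain ⟨A, ⟨hAn, hZA, hAc, hAk⟩, hmaxA⟩ := (Set.toFinite S).exists_maximal
    ⟨Subgroup.center P, inferInstance, le_rfl, he.comm, hZinv⟩
  obtain ⟨a, hA⟩ := exists_homo hS (fun h => hZne (le_bot_iff.1 (h ▸ hZA))) hAc hAk
  have hinvA : ∀ x : P, x * x = 1 → x ∈ A := fun x hx => hZA (mem_center_of_invol hS hx)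
  have hmax : ∀ B : Subgroup P, B.Normal → A ≤ B → (∀ x ∈ B, ∀ y ∈ B, x * y = y * x) →
      (∀ k : K, ∀ x ∈ B, (k : MulAut P) x ∈ B) → B = A :=
    fun B hB hle hc hk => le_antisymm (hmaxA ⟨hB, hZA.trans hle, hc, hk⟩ hle) hle
  have ha2 : 2 ≤ a := by
    by_contra h
    have h1 := hA.exp z (hZA hz)
    rw [show a = 1 by have := hA.pos; omega, pow_one, pow_two] at h1
    exact hz2 h1
  have hlt : e < a := by
    by_contra h
    have hle := homo_le hS hA he hZA (not_lt.1 h)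
    obtain ⟨x, y, hxy⟩ := hS.noncomm
    have hx : x ∈ A := centralizer_eq hS hA hAn hinvA hmax ha2 fun w hw =>
      Subgroup.mem_center_iff.1 (hle hw) x
    exact hxy (Subgroup.mem_center_iff.1 (hle hx) y).symm
  have hne : (⊤ : Subgroup P) ≠ A := by
    intro h
    obtain ⟨x, y, hxy⟩ := hS.noncomm
    exact hxy (hAc x (h ▸ Subgroup.mem_top x) y (h ▸ Subgroup.mem_top y))
  obtain ⟨y, -, hyA, hy⟩ := exists_above hS hAn le_top hne
  exact false_of_maximal hS hA hAn hinvA hmax (by omega) ⟨y, hy, hyA⟩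

end Cfsg.Agent.SuzukiTwo
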