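import Cfsg.Agent.Lib.SuzukiTypeStructure65

/-!
Nonabelian groups in the setting of `SuzukiTypeStructure65`: order `q³`, class two, and the squaring
map in coordinates `F × F` is `T a² + c a b + S b²` with `c ≠ 0`.
-/

set_option autoImplicit false
set_option linter.all false
set_option maxHeartbeats 1000000

namespace Cfsg.Agent.SuzukiTypeStructure65

open Subgroup
open scoped commutatorElement

universe u

theorem comm_mul_left {G : Type*} [Group G] (a b c : G) :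
    ⁅a * b, c⁆ = a * ⁅b, c⁆ * a⁻¹ * ⁅a, c⁆ := by
  simp only [commutatorElement_def]; group

theorem comm_mul_right {G : Type*} [Group G] (a b c : G) :
    ⁅a, b * c⁆ = ⁅a, b⁆ * (b * ⁅a, c⁆ * b⁻¹) := by
  simp only [commutatorElement_def]; group

theorem map_comm {G : Type*} [Group G] (f : G ≃* G) (a b : G) : f ⁅a, b⁆ = ⁅f a, f b⁆ := by
  simp only [commutatorElement_def, map_mul, map_inv]

variable {Q : Type u} [Group Q] [Finite Q] {n : ℕ}
variable {T : Setting Q n} {F : Type} [Field F] [Finite F] [CharP F 2] (K : Coord T F)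

namespace Coord

/-- The commutator coordinate when the commutator is fixed. -/
theorem val_comm_left {a a' b : Q} (h : ⁅a, b⁆ ∈ T.C) (h' : ⁅a', b⁆ ∈ T.C) :
    K.val ⁅a * a', b⁆ = K.val ⁅a, b⁆ + K.val ⁅a', b⁆ := by
  rw [comm_mul_left, T.conj_eq h' a, K.val_mul h' h, add_comm]

theorem val_comm_right {a b b' : Q} (h : ⁅a, b⁆ ∈ T.C) (h' : ⁅a, b'⁆ ∈ T.C) :
    K.val ⁅a, b * b'⁆ = K.val ⁅a, b⁆ + K.val ⁅a, b'⁆ := by
  rw [comm_mul_right, T.conj_eq h' b, K.val_mul h h']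

theorem val_comm_ρ {a b : Q} (h : ⁅a, b⁆ ∈ T.C) :
    K.val ⁅T.ρ a, T.ρ b⁆ = K.lam * K.val ⁅a, b⁆ := by
  rw [← map_comm, K.val_ρ h]

theorem pi2_conj (hcm : ∀ x y : Q, x ∈ T.Q2 → ⁅y, x⁆ ∈ T.C) {x : Q} (hx : x ∈ T.Q2) (y : Q) :
    y * x * y⁻¹ ∈ T.Q2 ∧ K.pi2 (y * x * y⁻¹) = K.pi2 x := by
  have e : y * x * y⁻¹ = ⁅y, x⁆ * x := by simp [commutatorElement_def]
  rw [e, K.pi2_mul (T.C_le_Q2 (hcm x y hx)) hx, K.pi2_C (hcm x y hx), zero_add]
  exact ⟨mul_mem (T.C_le_Q2 (hcm x y hx)) hx, rfl⟩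

include K in
theorem Q2_commute (hcm : ∀ x y : Q, x ∈ T.Q2 → ⁅y, x⁆ ∈ T.C) {a b : Q} (ha : a ∈ T.Q2)
    (hb : b ∈ T.Q2) : Commute a b := by
  have h := K.alt T.Q2 K.pi2 (fun a b => K.val ⁅a, b⁆) (fun _ h => T.ρ_Q2 h)
    (fun a ha a' ha' => K.pi2_mul ha ha') (fun a ha => K.pi2_ρ ha)
    (fun a ha a' ha' b hb => K.val_comm_left (hcm b a hb) (hcm b a' hb))
    (fun a ha b hb b' hb' => K.val_comm_right (hcm b a hb) (hcm b' a hb'))
    (fun a ha b hb => K.val_comm_ρ (hcm b a hb))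
    (fun a ha h b hb => by
      show K.val ⁅a, b⁆ = 0
      rw [(T.comm_one (K.mem_C_of_pi2 ha h) b).1, K.val_one])
    (fun b hb h a ha => by
      show K.val ⁅a, b⁆ = 0
      rw [(T.comm_one (K.mem_C_of_pi2 hb h) a).2, K.val_one])
    (fun a ha => by
      show K.val ⁅a, a⁆ = 0
      rw [commutatorElement_self, K.val_one]) a ha b hb
  exact commutatorElement_eq_one_iff_commute.1 (K.val_eq_zero (hcm b a hb) h)

include K in
theorem card_Q2 [T.C.Normal] (hne : T.C ≠ ⊤) : Nat.card T.Q2 = (2 ^ n) ^ 2 := by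
  let f : T.Q2 →* Multiplicative F :=
    MonoidHom.mk' (fun x => Multiplicative.ofAdd (K.pi2 x.1)) fun x y => by
      show Multiplicative.ofAdd (K.pi2 (x.1 * y.1)) = _
      rw [K.pi2_mul x.2 y.2]; rfl
  have hs : Function.Surjective f := fun t => by
    obtain ⟨x, hx, e⟩ := K.pi2_surj hne t.toAdd
    exact ⟨⟨x, hx⟩, congrArg Multiplicative.ofAdd e⟩
  have hk : f.ker = T.C.subgroupOf T.Q2 := by
    ext x
    rw [MonoidHom.mem_ker, mem_subgroupOf]
    exact ⟨fun h => K.mem_C_of_pi2 x.2 (congrArg Multiplicative.toAdd h),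
      fun h => congrArg Multiplicative.ofAdd (K.pi2_C h)⟩
  have h := f.ker.card_mul_index
  rw [index_ker, MonoidHom.range_eq_top.2 hs, card_top, hk,
    Nat.card_congr (subgroupOfEquivOfLe (fun x hx => T.C_le_Q2 hx)).toEquiv, T.card,
    Nat.card_congr Multiplicative.toAdd, K.card] at h
  rw [← h, pow_two]

set_option maxHeartbeats 4000000 in
include K in
theorem no_tower [T.C.Normal] (hne : T.C ≠ ⊤) (hcard : Nat.card Q = (2 ^ n) ^ 4)
    (hsq : ∀ x, x * x ∈ T.Q2) (hcm2 : ∀ x y : Q, ⁅x, y⁆ ∈ T.Q2)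
    (hcm : ∀ x y : Q, x ∈ T.Q2 → ⁅y, x⁆ ∈ T.C) : False := by
  classical
  have hcm' : ∀ x y : Q, x ∈ T.Q2 → ⁅x, y⁆ ∈ T.C := fun x y hx => by
    rw [← commutatorElement_inv]; exact inv_mem (hcm x y hx)
  have conj2 := fun {x : Q} (hx : x ∈ T.Q2) (y : Q) => K.pi2_conj hcm hx y
  -- the third layer
  let Q3 : Subgroup Q :=
    { carrier := {x | T.dl x ∈ T.Q2}
      one_mem' := by show T.dl 1 ∈ T.Q2; rw [T.dl_one]; exact one_mem _
      mul_mem' := fun {x y} hx hy => by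
        show T.dl (x * y) ∈ T.Q2
        rw [T.dl_mul]
        have := (conj2 hx y⁻¹).1
        rw [inv_inv] at this
        exact mul_mem this hy
      inv_mem' := fun {x} hx => by
        show T.dl x⁻¹ ∈ T.Q2
        rw [T.dl_inv]
        exact (conj2 (inv_mem hx) x).1 }
  have m3 : ∀ {x : Q}, x ∈ Q3 ↔ T.dl x ∈ T.Q2 := Iff.rfl
  have ρ3 : ∀ a ∈ Q3, T.ρ a ∈ Q3 := fun a ha => by
    rw [m3, T.dl_ρ]; exact T.ρ_Q2 ha
  set p3 : Q → F := fun x => K.pi2 (T.dl x) with hp3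
  have h3mul : ∀ a ∈ Q3, ∀ b ∈ Q3, p3 (a * b) = p3 a + p3 b := fun a ha b hb => by
    have h := conj2 (x := T.dl a) ha b⁻¹
    rw [inv_inv] at h
    show K.pi2 (T.dl (a * b)) = _
    rw [T.dl_mul, K.pi2_mul h.1 hb, h.2]
  have h3ρ : ∀ a ∈ Q3, p3 (T.ρ a) = K.lam * p3 a := fun a ha => by
    show K.pi2 (T.dl (T.ρ a)) = _
    rw [T.dl_ρ, K.pi2_ρ ha]
  have h23 : ∀ a ∈ T.Q2, a ∈ Q3 ∧ p3 a = 0 := fun a ha => ⟨T.C_le_Q2 ha, K.pi2_C ha⟩
  have h3ker : ∀ a ∈ Q3, p3 a = 0 → a ∈ T.Q2 := fun a ha h => K.mem_C_of_pi2 ha h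
  have hdl3 : ∀ y, T.dl y ∈ Q3 := fun y => by
    rw [m3, Setting.dl, T.α_dl, ← mul_inv_rev]
    exact inv_mem (hsq _)
  set p : Q → F := fun y => p3 (T.dl y) with hp
  have conj3 : ∀ a ∈ Q3, ∀ y, y * a * y⁻¹ ∈ Q3 ∧ p3 (y * a * y⁻¹) = p3 a := fun a ha y => by
    have e : y * a * y⁻¹ = ⁅y, a⁆ * a := by simp [commutatorElement_def]
    have h := h23 _ (hcm2 y a)
    rw [e, h3mul _ h.1 _ ha, h.2, zero_add]
    exact ⟨mul_mem h.1 ha, rfl⟩
  have hpmul : ∀ a ∈ (⊤ : Subgroup Q), ∀ b ∈ (⊤ : Subgroup Q), p (a * b) = p a + p b :=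
    fun a _ b _ => by
      have h := conj3 _ (hdl3 a) b⁻¹
      rw [inv_inv] at h
      show p3 (T.dl (a * b)) = _
      rw [T.dl_mul, h3mul _ h.1 _ (hdl3 b), h.2]
  have hpρ : ∀ a ∈ (⊤ : Subgroup Q), p (T.ρ a) = K.lam * p a := fun a _ => by
    show p3 (T.dl (T.ρ a)) = _
    rw [T.dl_ρ, h3ρ _ (hdl3 a)]
  have hQ3 : ∃ y, y ∉ Q3 := by
    by_contra hall
    push Not at hall
    let f : Q →* Multiplicative F :=
      MonoidHom.mk' (fun x => Multiplicative.ofAdd (p3 x)) fun x y => by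
        show Multiplicative.ofAdd (p3 (x * y)) = _
        rw [h3mul _ (hall x) _ (hall y)]; rfl
    have h := f.ker.card_mul_index
    have hle : f.ker ≤ T.Q2 := fun x hx => h3ker x (hall x) (congrArg Multiplicative.toAdd hx)
    have h1 : Nat.card f.ker ≤ (2 ^ n) ^ 2 :=
      (Nat.le_of_dvd Nat.card_pos (card_dvd_of_le hle)).trans_eq (K.card_Q2 hne)
    have h2 : f.ker.index ≤ 2 ^ n := by
      rw [index_ker, ← K.card, ← Nat.card_congr (Multiplicative.toAdd (α := F))]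
      exact Nat.le_of_dvd Nat.card_pos (card_subgroup_dvd_card _)
    have h3 : (2 ^ n) ^ 4 ≤ (2 ^ n) ^ 2 * 2 ^ n := by
      rw [← hcard, ← h]; exact Nat.mul_le_mul h1 h2
    rw [← pow_succ] at h3
    exact absurd ((Nat.pow_le_pow_iff_right (Nat.one_lt_two_pow (by have := T.two_le; omega))).1 h3)
      (by norm_num)
  obtain ⟨y₀, hy₀⟩ := hQ3
  have hy₀' : p y₀ ≠ 0 := fun h => hy₀ (h3ker _ (hdl3 y₀) h)
  have psurj : ∀ t, ∃ y ∈ (⊤ : Subgroup Q), p y = t :=
    K.surj_of (fun _ _ => mem_top _) hpρ (Coord.zero_of_add hpmul) (mem_top y₀) hy₀'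
  have p3surj : ∀ t, ∃ x ∈ Q3, p3 x = t := fun t => by
    obtain ⟨y, -, e⟩ := psurj t
    exact ⟨_, hdl3 y, e⟩
  -- the second layer is inverted
  have c22 := fun {a b : Q} (ha : a ∈ T.Q2) (hb : b ∈ T.Q2) => K.Q2_commute hcm ha hb
  have inv2 : ∀ u ∈ T.Q2, T.dl u = (u * u)⁻¹ := by
    intro u hu
    obtain ⟨y, -, hy⟩ := psurj (K.pi2 u)
    set d := T.dl (T.dl y) with hd
    have hd2 : d ∈ T.Q2 := hdl3 y
    have hc : d⁻¹ * u ∈ T.C := K.mem_C_of_pi2 (mul_mem (inv_mem hd2) hu) (by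
      rw [K.pi2_mul (inv_mem hd2) hu, K.pi2_inv hd2, show K.pi2 d = K.pi2 u from hy,
        CharTwo.add_self_eq_zero])
    have hα : T.α u = u⁻¹ := by
      have e : u = d * (d⁻¹ * u) := (mul_inv_cancel_left d u).symm
      rw [e, map_mul, hd, T.α_dl, ← hd, (T.fix _).1 hc, mul_inv_rev, T.inv_eq hc]
      exact (T.central hc _).eq.symm
    rw [Setting.dl, hα, mul_inv_rev]
  have pi2sq : ∀ u ∈ T.Q2, K.pi2 u = K.val (u * u) := fun u hu => by
    rw [Coord.pi2, inv2 u hu, T.inv_eq (T.sq_mem_C hu)]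
  -- the second layer is central in the third
  have cen : ∀ x ∈ Q3, ∀ u ∈ T.Q2, Commute x u := by
    obtain ⟨c, hc⟩ := K.bilin Q3 T.Q2 p3 K.pi2 (fun x u => K.val ⁅x, u⁆) ρ3 (fun _ h => T.ρ_Q2 h)
      h3mul (fun a ha b hb => K.pi2_mul ha hb) h3ρ (fun a ha => K.pi2_ρ ha)
      (fun a _ a' _ b hb => K.val_comm_left (hcm b a hb) (hcm b a' hb))
      (fun a _ b hb b' hb' => K.val_comm_right (hcm b a hb) (hcm b' a hb'))
      (fun a _ b hb => K.val_comm_ρ (hcm b a hb))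
      (fun a ha h b hb => by
        show K.val ⁅a, b⁆ = 0
        rw [commutatorElement_eq_one_iff_commute.2 (c22 (h3ker a ha h) hb), K.val_one])
      (fun b hb h a _ => by
        show K.val ⁅a, b⁆ = 0
        rw [(T.comm_one (K.mem_C_of_pi2 hb h) a).2, K.val_one])
    intro x hx u hu
    have hc0 : c = 0 := by
      set x₀ := T.dl y₀ with hx₀
      have hcom : Commute x₀ (T.dl x₀) := by
        rw [Setting.dl, hx₀, T.α_dl]
        exact (Commute.refl _).inv_right.mul_right (Commute.refl _).inv_right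
      have e := hc x₀ (hdl3 y₀) (T.dl x₀) (hdl3 y₀)
      rw [commutatorElement_eq_one_iff_commute.2 hcom, K.val_one, zero_pow two_ne_zero, eq_comm,
        mul_eq_zero] at e
      exact e.resolve_right (mul_ne_zero hy₀' hy₀')
    have e := hc x hx u hu
    rw [hc0, zero_mul, pow_eq_zero_iff two_ne_zero] at e
    exact commutatorElement_eq_one_iff_commute.1 (K.val_eq_zero (hcm u x hu) e)
  -- the third layer is abelian
  have pc2 : ∀ a b b' : Q, K.pi2 ⁅a, b * b'⁆ = K.pi2 ⁅a, b⁆ + K.pi2 ⁅a, b'⁆ := fun a b b' => by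
    have h := conj2 (hcm2 a b') b
    rw [comm_mul_right, K.pi2_mul (hcm2 a b) h.1, h.2]
  have pc1 : ∀ a a' b : Q, K.pi2 ⁅a * a', b⁆ = K.pi2 ⁅a, b⁆ + K.pi2 ⁅a', b⁆ := fun a a' b => by
    have h := conj2 (hcm2 a' b) a
    rw [comm_mul_left, K.pi2_mul h.1 (hcm2 a b), h.2, add_comm]
  have pcρ : ∀ a b : Q, K.pi2 ⁅T.ρ a, T.ρ b⁆ = K.lam * K.pi2 ⁅a, b⁆ := fun a b => by
    rw [← map_comm, K.pi2_ρ (hcm2 a b)]
  have z3 : ∀ a ∈ Q3, ∀ b ∈ Q3, K.pi2 ⁅a, b⁆ = 0 :=
    K.alt Q3 p3 (fun a b => K.pi2 ⁅a, b⁆) ρ3 h3mul h3ρ (fun a _ a' _ b _ => pc1 a a' b)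
      (fun a _ b _ b' _ => pc2 a b b') (fun a _ b _ => pcρ a b)
      (fun a ha h b hb => by
        show K.pi2 ⁅a, b⁆ = 0
        rw [commutatorElement_eq_one_iff_commute.2 (cen b hb a (h3ker a ha h)).symm,
          K.pi2_C (one_mem _)])
      (fun b hb h a ha => by
        show K.pi2 ⁅a, b⁆ = 0
        rw [commutatorElement_eq_one_iff_commute.2 (cen a ha b (h3ker b hb h)), K.pi2_C (one_mem _)])
      (fun a _ => by
        show K.pi2 ⁅a, a⁆ = 0
        rw [commutatorElement_self, K.pi2_C (one_mem _)])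
  have c3C : ∀ a ∈ Q3, ∀ b ∈ Q3, ⁅a, b⁆ ∈ T.C := fun a ha b hb =>
    K.mem_C_of_pi2 (hcm2 a b) (z3 a ha b hb)
  have ab3 : ∀ a ∈ Q3, ∀ b ∈ Q3, Commute a b := fun a ha b hb =>
    commutatorElement_eq_one_iff_commute.1 (K.val_eq_zero (c3C a ha b hb)
      (K.alt Q3 p3 (fun a b => K.val ⁅a, b⁆) ρ3 h3mul h3ρ
        (fun a ha a' ha' b hb => K.val_comm_left (c3C a ha b hb) (c3C a' ha' b hb))
        (fun a ha b hb b' hb' => K.val_comm_right (c3C a ha b hb) (c3C a ha b' hb'))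
        (fun a ha b hb => K.val_comm_ρ (c3C a ha b hb))
        (fun a ha h b hb => by
          show K.val ⁅a, b⁆ = 0
          rw [commutatorElement_eq_one_iff_commute.2 (cen b hb a (h3ker a ha h)).symm, K.val_one])
        (fun b hb h a ha => by
          show K.val ⁅a, b⁆ = 0
          rw [commutatorElement_eq_one_iff_commute.2 (cen a ha b (h3ker b hb h)), K.val_one])
        (fun a _ => by
          show K.val ⁅a, a⁆ = 0
          rw [commutatorElement_self, K.val_one]) a ha b hb))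
  -- every element of the third layer is inverted
  have hα3 : ∀ z ∈ Q3, T.α z = z⁻¹ := by
    intro z hz
    obtain ⟨y, -, hy⟩ := psurj (p3 z)
    set x := T.dl y with hx
    have hu : x⁻¹ * z ∈ T.Q2 := h3ker _ (mul_mem (inv_mem (hdl3 y)) hz) (by
      have e := h3mul _ (hdl3 y) _ (mul_mem (inv_mem (hdl3 y)) hz)
      rw [mul_inv_cancel_left, show p3 x = p3 z from hy] at e
      exact add_eq_left.1 e.symm)
    have hαu : T.α (x⁻¹ * z) = (x⁻¹ * z)⁻¹ := by
      rw [T.α_eq, inv2 _ hu, mul_inv_rev, mul_inv_cancel_left]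
    have e : z = x * (x⁻¹ * z) := (mul_inv_cancel_left x z).symm
    rw [e, map_mul, hx, T.α_dl, ← hx, hαu, ← mul_inv_rev]
    exact congrArg (·⁻¹) (ab3 x (hdl3 y) _ (h23 _ hu).1).eq.symm
  have p3sq : ∀ z ∈ Q3, p3 z = K.pi2 (z * z) := fun z hz => by
    show K.pi2 (T.dl z) = _
    rw [Setting.dl, hα3 z hz, ← mul_inv_rev, K.pi2_inv (hsq z)]
  -- conjugation on the layers
  obtain ⟨c1, hc1⟩ := K.bilin ⊤ Q3 p p3 (fun y z => K.pi2 ⁅y, z⁆) (fun _ _ => mem_top _) ρ3
    hpmul h3mul hpρ h3ρ (fun a _ a' _ b _ => pc1 a a' b) (fun a _ b _ b' _ => pc2 a b b')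
    (fun a _ b _ => pcρ a b)
    (fun a _ h b hb => z3 a (m3.2 (h3ker _ (hdl3 a) h)) b hb)
    (fun b hb h a _ => K.pi2_C (hcm b a (h3ker b hb h)))
  obtain ⟨c2, hc2⟩ := K.bilin ⊤ T.Q2 p K.pi2 (fun y u => K.val ⁅y, u⁆) (fun _ _ => mem_top _)
    (fun _ h => T.ρ_Q2 h) hpmul (fun a ha b hb => K.pi2_mul ha hb) hpρ (fun a ha => K.pi2_ρ ha)
    (fun a _ a' _ b hb => K.val_comm_left (hcm b a hb) (hcm b a' hb))
    (fun a _ b hb b' hb' => K.val_comm_right (hcm b a hb) (hcm b' a hb'))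
    (fun a _ b hb => K.val_comm_ρ (hcm b a hb))
    (fun a _ h b hb => by
      show K.val ⁅a, b⁆ = 0
      rw [commutatorElement_eq_one_iff_commute.2 (cen a (m3.2 (h3ker _ (hdl3 a) h)) b hb),
        K.val_one])
    (fun b hb h a _ => by
      show K.val ⁅a, b⁆ = 0
      rw [(T.comm_one (K.mem_C_of_pi2 hb h) a).2, K.val_one])
  obtain ⟨y, -, hy⟩ := psurj 1
  set x := T.dl y with hx
  have hx1 : p3 x = 1 := hy
  have hyy : y * y ∈ T.Q2 := hsq y
  have hM : K.pi2 ⁅y, x⁆ = 1 := by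
    have e1 : y⁻¹ * x * y * x = ((y * y) * (y * y))⁻¹ := by
      have h := hα3 (y * y) (h23 _ hyy).1
      rw [map_mul, T.α_eq, ← hx] at h
      calc y⁻¹ * x * y * x = (y * y)⁻¹ * (y * x * (y * x)) := by group
        _ = _ := by rw [h, mul_inv_rev (y * y)]
    have e2 : y⁻¹ * x * y * x = ⁅y⁻¹, x⁆ * (x * x) := by
      simp only [commutatorElement_def]; group
    have h := congrArg K.pi2 (e2.symm.trans e1)
    rw [K.pi2_mul (hcm2 _ _) (hsq x), K.pi2_C (inv_mem (T.sq_mem_C hyy)),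
      ← p3sq x (hdl3 y), hx1, CharTwo.add_eq_zero] at h
    have h' := pc1 y y⁻¹ x
    rw [mul_inv_cancel, commutatorElement_one_left, K.pi2_C (one_mem _), h, eq_comm,
      CharTwo.add_eq_zero] at h'
    exact h'
  have hc1' : c1 = 1 := by
    have e := hc1 y (mem_top _) x (hdl3 y)
    rw [hM, hy, hx1, one_pow, mul_one, mul_one] at e
    exact e.symm
  have hN : ∀ z ∈ Q3, K.val ⁅y, z * z⁆ = K.pi2 ⁅y, z⁆ := by
    intro z hz
    rw [comm_mul_right, (ab3 z hz _ (h23 _ (hcm2 y z)).1).eq, mul_inv_cancel_right,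
      pi2sq _ (hcm2 y z)]
  have hc2' : c2 = 1 := by
    have e := hc2 y (mem_top _) (x * x) (hsq x)
    rw [hN x (hdl3 y), hM, hy, ← p3sq x (hdl3 y), hx1, one_pow, mul_one, mul_one] at e
    exact e.symm
  -- an element outside {0, 1}
  obtain ⟨b, hb0, hb1⟩ : ∃ b : F, b ≠ 0 ∧ b ≠ 1 := by
    by_contra hall
    push Not at hall
    letI : Fintype F := Fintype.ofFinite F
    have hsub : (Finset.univ : Finset F) ⊆ {0, 1} := fun t _ => by
      rcases eq_or_ne t 0 with rfl | ht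
      · simp
      · simp [hall t ht]
    have h := Finset.card_le_card hsub
    have hcF : Fintype.card F = 2 ^ n := by rw [← Nat.card_eq_fintype_card, K.card]
    rw [Finset.card_univ, hcF] at h
    have h4 : 2 ^ 2 ≤ 2 ^ n := Nat.pow_le_pow_right (by norm_num) T.two_le
    have := Finset.card_le_two (a := (0 : F)) (b := 1)
    omega
  obtain ⟨z, hz, hzb⟩ := p3surj b
  set M := ⁅y, z⁆ with hMdef
  have hM2 : M ∈ T.Q2 := hcm2 y z
  have hMb : K.pi2 M ^ 2 = b := by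
    have e := hc1 y (mem_top _) z hz
    rw [hc1', hy, hzb, one_mul, one_mul] at e
    exact e
  have hrel : ⁅y, M⁆ * (M * M) = 1 := by
    have hM' : y * z * y⁻¹ = M * z := by
      simp only [hMdef, commutatorElement_def]; group
    have h := (ab3 (y * y) (h23 _ hyy).1 z hz).eq
    have e : y * (y * z * y⁻¹) * y⁻¹ = z := by
      calc y * (y * z * y⁻¹) * y⁻¹ = y * y * z * (y * y)⁻¹ := by group
        _ = z := by rw [h, mul_inv_cancel_right]
    rw [hM'] at e
    have e' : (y * M * y⁻¹) * (y * z * y⁻¹) = z := Eq.trans (by group) e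
    rw [hM', ← mul_assoc] at e'
    have e'' := mul_eq_right.1 e'
    rw [← e'']
    simp only [commutatorElement_def]; group
  have hNM : K.val ⁅y, M⁆ = K.pi2 M := by
    have h := congrArg K.val hrel
    rw [K.val_mul (hcm M y hM2) (T.sq_mem_C hM2), K.val_one, ← pi2sq M hM2,
      CharTwo.add_eq_zero] at h
    exact h
  have hv : K.pi2 M ^ 2 = K.pi2 M := by
    have e := hc2 y (mem_top _) M hM2
    rw [hNM, hc2', hy, one_mul, one_mul] at e
    exact e
  rw [hv] at hMb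
  rw [hMb] at hv
  have : b * (b - 1) = 0 := by linear_combination hv
  rcases mul_eq_zero.1 this with h | h
  · exact hb0 h
  · exact hb1 (sub_eq_zero.1 h)

end Coord

theorem ker_Q2_of_sq (T : Setting Q n) {F : Type} [Field F] [Finite F] [CharP F 2] (K : Coord T F)
    (hne : T.C ≠ ⊤) [T.C.Normal] (hsq : ∀ x, x * x ∈ T.C) (hcm : ∀ x y : Q, ⁅x, y⁆ ∈ T.C) :
    (∀ x, T.dl x ∈ T.Q2) ∧
      ∀ x y, K.pi2 (T.dl (x * y)) = K.pi2 (T.dl x) + K.pi2 (T.dl y) := by
  have h1 : ∀ x, T.dl x ∈ T.Q2 := fun x => by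
    rw [T.mem_Q2, Setting.dl, T.α_dl, ← mul_inv_rev]
    exact inv_mem (hsq _)
  refine ⟨h1, fun x y => ?_⟩
  have h := K.pi2_conj (fun a b _ => hcm b a) (h1 x) y⁻¹
  rw [inv_inv] at h
  rw [T.dl_mul, K.pi2_mul h.1 (h1 y), h.2]

/-- Order `q³`, squares and commutators fixed. -/
theorem Setting.structure_facts (T : Setting Q n) (hna : ¬ ∀ a b : Q, a * b = b * a) :
    Nat.card Q = (2 ^ n) ^ 3 ∧ (∀ x, x * x ∈ T.C) ∧ ∀ x y : Q, ⁅x, y⁆ ∈ T.C := by
  induction hN : Nat.card Q using Nat.strong_induction_on generalizing Q with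
  | _ N ih =>
    subst hN
    obtain ⟨F, _, _, _, ⟨K⟩⟩ := T.exists_coord
    haveI := T.C_normal
    have hne : T.C ≠ ⊤ := fun h => hna fun a b => (T.central (h ▸ mem_top a) b).eq
    obtain ⟨T', hT'C, hT'α⟩ := T.exists_quot hne
    have hmul : Nat.card Q = Nat.card (Q ⧸ T.C) * 2 ^ n := by
      rw [← T.card]; exact T.C.card_eq_card_quotient_mul_card_subgroup
    by_cases hab : ∀ a b : Q ⧸ T.C, a * b = b * a
    · have hcm : ∀ x y : Q, ⁅x, y⁆ ∈ T.C := fun x y => by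
        rw [← QuotientGroup.eq_one_iff, ← QuotientGroup.mk'_apply, map_commutatorElement,
          commutatorElement_eq_one_iff_mul_comm]
        exact hab _ _
      rcases T'.sq_one_or hab with hel | ⟨k, hk1, hk2⟩
      · have hsq : ∀ x, x * x ∈ T.C := fun x => by
          rw [← QuotientGroup.eq_one_iff, QuotientGroup.mk_mul]; exact hel _
        obtain ⟨hdl, hadd⟩ := ker_Q2_of_sq T K hne hsq hcm
        let f : Q →* Multiplicative F :=
          MonoidHom.mk' (fun x => Multiplicative.ofAdd (K.pi2 (T.dl x))) fun x y => by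
            show Multiplicative.ofAdd (K.pi2 (T.dl (x * y))) = _
            rw [hadd]; rfl
        have hk : f.ker = T.Q2 := by
          ext x
          rw [MonoidHom.mem_ker]
          exact ⟨fun h => K.mem_C_of_pi2 (hdl x) (congrArg Multiplicative.toAdd h),
            fun h => congrArg Multiplicative.ofAdd (K.pi2_C h)⟩
        have hQ2top : T.Q2 ≠ ⊤ := fun htop => hna fun a b =>
          (K.Q2_commute (fun x y _ => hcm y x) (htop ▸ mem_top a) (htop ▸ mem_top b)).eq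
        obtain ⟨x₀, hx₀⟩ : ∃ x, x ∉ T.Q2 := by
          by_contra h; push Not at h; exact hQ2top ((eq_top_iff' _).2 h)
        have hsurj : Function.Surjective f := fun t => by
          obtain ⟨x, -, e⟩ := K.surj_of (A := (⊤ : Subgroup Q)) (p := fun x => K.pi2 (T.dl x))
            (fun _ _ => mem_top _) (fun a _ => by rw [T.dl_ρ, K.pi2_ρ (hdl a)])
            (by rw [T.dl_one, K.pi2_C (one_mem _)]) (mem_top x₀)
            (fun h => hx₀ (K.mem_C_of_pi2 (hdl x₀) h)) t.toAdd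
          exact ⟨x, congrArg Multiplicative.ofAdd e⟩
        have h := f.ker.card_mul_index
        rw [index_ker, MonoidHom.range_eq_top.2 hsurj, card_top, hk, K.card_Q2 hne,
          Nat.card_congr Multiplicative.toAdd, K.card, ← pow_succ] at h
        exact ⟨h.symm, hsq, hcm⟩
      · exfalso
        apply hna
        have hq2 : ∀ x : Q, x ^ 2 ^ k ∈ T.Q2 := fun x => (hT'C _).1 (by
          rw [QuotientGroup.mk_pow]; exact hk1 _)
        have hpadd : ∀ a ∈ (⊤ : Subgroup Q), ∀ b ∈ (⊤ : Subgroup Q),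
            K.pi2 ((a * b) ^ 2 ^ k) = K.pi2 (a ^ 2 ^ k) + K.pi2 (b ^ 2 ^ k) := by
          intro a _ b _
          have hc : (a ^ 2 ^ k * b ^ 2 ^ k)⁻¹ * (a * b) ^ 2 ^ k ∈ T.C := by
            rw [← QuotientGroup.eq, QuotientGroup.mk_mul, QuotientGroup.mk_pow, QuotientGroup.mk_pow,
              QuotientGroup.mk_pow, QuotientGroup.mk_mul, (hab (a : Q ⧸ T.C) b |> fun h =>
                (show Commute (a : Q ⧸ T.C) b from h).mul_pow)]
          conv_lhs => rw [← mul_inv_cancel_left (a ^ 2 ^ k * b ^ 2 ^ k) ((a * b) ^ 2 ^ k)]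
          rw [K.pi2_mul (mul_mem (hq2 a) (hq2 b)) (T.C_le_Q2 hc), K.pi2_C hc, add_zero,
            K.pi2_mul (hq2 a) (hq2 b)]
        have hker : ∀ a : Q, K.pi2 (a ^ 2 ^ k) = 0 → ∀ b : Q, ⁅a, b⁆ = 1 := by
          intro a h b
          obtain ⟨s, hs⟩ := hk2 (a : Q ⧸ T.C) (by
            rw [← QuotientGroup.mk_pow, QuotientGroup.eq_one_iff]
            exact K.mem_C_of_pi2 (hq2 a) h)
          obtain ⟨s, rfl⟩ := QuotientGroup.mk_surjective s
          rw [← QuotientGroup.mk_mul, eq_comm, QuotientGroup.eq] at hs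
          rw [← mul_inv_cancel_left (s * s) a, comm_mul_left (s * s), (T.comm_one hs b).1, mul_one,
            mul_inv_cancel, one_mul, comm_mul_left, T.conj_eq (hcm s b) s, T.sq _ (hcm s b)]
        intro a b
        refine commutatorElement_eq_one_iff_mul_comm.1 (K.val_eq_zero (hcm a b)
          (K.alt ⊤ (fun x => K.pi2 (x ^ 2 ^ k)) (fun a b => K.val ⁅a, b⁆) (fun _ _ => mem_top _)
            hpadd (fun a _ => ?_) (fun a _ a' _ b _ => K.val_comm_left (hcm a b) (hcm a' b))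
            (fun a _ b _ b' _ => K.val_comm_right (hcm a b) (hcm a b'))
            (fun a _ b _ => K.val_comm_ρ (hcm a b))
            (fun a _ h b _ => by
              show K.val ⁅a, b⁆ = 0
              rw [hker a h b, K.val_one])
            (fun b _ h a _ => by
              show K.val ⁅a, b⁆ = 0
              rw [← commutatorElement_inv, hker b h a, inv_one, K.val_one])
            (fun a _ => by
              show K.val ⁅a, a⁆ = 0
              rw [commutatorElement_self, K.val_one]) a (mem_top _) b (mem_top _)))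
        show K.pi2 (T.ρ a ^ 2 ^ k) = _
        rw [← map_pow, K.pi2_ρ (hq2 a)]
    · exfalso
      have hlt : Nat.card (Q ⧸ T.C) < Nat.card Q := by
        rw [hmul]
        exact lt_mul_of_one_lt_right Nat.card_pos
          (Nat.one_lt_two_pow (by have := T.two_le; omega))
      obtain ⟨hc, hs, hcm⟩ := ih _ hlt T' hab rfl
      refine K.no_tower hne (by rw [hmul, hc, ← pow_succ]) (fun x => ?_) (fun x y => ?_)
        (fun x y hx => ?_)
      · rw [← hT'C, QuotientGroup.mk_mul]; exact hs _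
      · rw [← hT'C, ← QuotientGroup.mk'_apply, map_commutatorElement]; exact hcm _ _
      · rw [← QuotientGroup.eq_one_iff, ← QuotientGroup.mk'_apply, map_commutatorElement,
          commutatorElement_eq_one_iff_commute]
        exact (T'.central ((hT'C x).2 hx) _).symm

end Cfsg.Agent.SuzukiTypeStructure65
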