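import Cfsg.Agent.Lib.SuzukiTypeClassify65

/-!
The squaring form in coordinates `F × F`, normalised to `a b` or to an anisotropic norm form.
-/

set_option autoImplicit false
set_option linter.all false
set_option maxHeartbeats 1000000

namespace Cfsg.Agent.SuzukiTypeStructure65

open Subgroup
open scoped commutatorElement

universe u

/-- An additive section commuting with a linear map of odd period. -/
theorem exists_section {F : Type} [Field F] [Finite F] [CharP F 2] {V : Type*} [AddCommGroup V]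
    (h2 : ∀ v : V, v + v = 0) (f : V →+ F) (hf : Function.Surjective f) (P : V →+ V) (lam : F)
    (m : ℕ) (hm : Odd m) (hlm : lam ^ m = 1) (hP : ∀ v, (⇑P)^[m] v = v)
    (hPf : ∀ v, f (P v) = lam * f v) :
    ∃ s : F →+ V, (∀ t, f (s t) = t) ∧ ∀ t, P (s t) = s (lam * t) := by
  letI : Module (ZMod 2) V := AddCommGroup.zmodModule fun v => by rw [two_nsmul]; exact h2 v
  letI : Module (ZMod 2) F := (ZMod.algebra F 2).toModule
  obtain ⟨s0, hs0⟩ := (f.toZModLinearMap 2).exists_rightInverse_of_surjective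
    (LinearMap.range_eq_top.2 hf)
  have h0 : ∀ t, f (s0 t) = t := fun t => LinearMap.congr_fun hs0 t
  have hit : ∀ (k : ℕ) (v : V), f ((⇑P)^[k] v) = lam ^ k * f v := by
    intro k v
    induction k with
    | zero => simp
    | succ k ih => rw [Function.iterate_succ_apply', hPf, ih, pow_succ', mul_assoc]
  refine ⟨AddMonoidHom.mk'
    (fun t => ∑ k ∈ Finset.range m, (⇑P)^[k] (s0 (lam ^ (m - k) * t))) fun a b => ?_,
    fun t => ?_, fun t => ?_⟩
  · rw [← Finset.sum_add_distrib]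
    exact Finset.sum_congr rfl fun k _ => by rw [mul_add, map_add, iterate_map_add]
  · show f (∑ k ∈ Finset.range m, _) = t
    rw [map_sum, Finset.sum_congr rfl (fun k hk => show f _ = t by
      rw [hit, h0, ← mul_assoc, ← pow_add, Nat.add_sub_cancel' (Finset.mem_range.1 hk).le, hlm,
        one_mul]), Finset.sum_const, Finset.card_range, nsmul_eq_mul]
    obtain ⟨j, rfl⟩ := hm
    rw [Nat.cast_add, Nat.cast_mul, Nat.cast_ofNat, CharTwo.two_eq_zero, zero_mul, zero_add,
      Nat.cast_one, one_mul]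
  · show P (∑ k ∈ Finset.range m, _) = ∑ k ∈ Finset.range m, _
    rw [map_sum]
    set A : ℕ → V := fun k => (⇑P)^[k] (s0 (lam ^ (m - k) * (lam * t))) with hA
    show _ = ∑ k ∈ Finset.range m, A k
    have e : ∀ k ∈ Finset.range m, P ((⇑P)^[k] (s0 (lam ^ (m - k) * t))) = A (k + 1) := by
      intro k hk
      rw [Finset.mem_range] at hk
      show _ = (⇑P)^[k + 1] _
      rw [Function.iterate_succ_apply', ← mul_assoc, ← pow_succ,
        show m - (k + 1) + 1 = m - k by omega]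
    rw [Finset.sum_congr rfl e]
    have h1 := Finset.sum_range_succ A m
    rw [Finset.sum_range_succ', show A m = A 0 by
      show (⇑P)^[m] (s0 (lam ^ (m - m) * (lam * t))) = s0 (lam ^ (m - 0) * (lam * t))
      rw [hP, Nat.sub_self, Nat.sub_zero, hlm, pow_zero]] at h1
    exact add_right_cancel h1

variable {Q : Type u} [Group Q] [Finite Q] {n : ℕ}

set_option maxHeartbeats 4000000 in
/-- The squaring form. -/
theorem Setting.exists_form (T : Setting Q n) (hna : ¬ ∀ a b : Q, a * b = b * a)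
    (hρ : ∀ x, (⇑T.ρ)^[2 ^ n - 1] x = x) :
    ∃ (F : Type) (_ : Field F) (_ : Fintype F) (_ : CharP F 2), Fintype.card F = 2 ^ n ∧
      ∃ (p : Q →* Multiplicative (F × F)) (i : Multiplicative F →* Q) (A c S : F), c ≠ 0 ∧
        Function.Surjective p ∧ Function.Injective i ∧ (∀ g, p g = 1 ↔ ∃ u, i u = g) ∧
        ∀ g, g * g = i (Multiplicative.ofAdd
          (A * (p g).toAdd.1 ^ 2 + c * ((p g).toAdd.1 * (p g).toAdd.2) + S * (p g).toAdd.2 ^ 2)) := by
  classical
  obtain ⟨F, iF, iFi, iC, ⟨K⟩⟩ := T.exists_coord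
  obtain ⟨hcard, hsq, hcm⟩ := T.structure_facts hna
  haveI := T.C_normal
  have hne : T.C ≠ ⊤ := fun h => hna fun a b => (T.central (h ▸ mem_top a) b).eq
  obtain ⟨hdl, hadd⟩ := ker_Q2_of_sq T K hne hsq hcm
  set p2 : Q → F := fun x => K.pi2 (T.dl x) with hp2
  have hp2add : ∀ x y, p2 (x * y) = p2 x + p2 y := hadd
  have hp2ρ : ∀ x, p2 (T.ρ x) = K.lam * p2 x := fun x => by
    show K.pi2 (T.dl (T.ρ x)) = _
    rw [T.dl_ρ, K.pi2_ρ (hdl x)]
  have hp2ker : ∀ x, p2 x = 0 → x ∈ T.Q2 := fun x h => K.mem_C_of_pi2 (hdl x) h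
  have hp2Q2 : ∀ x ∈ T.Q2, p2 x = 0 := fun x h => K.pi2_C h
  have hp2one : p2 1 = 0 := hp2Q2 1 (one_mem _)
  have hQ2ne : ∃ x, x ∉ T.Q2 := by
    by_contra h
    push Not at h
    exact hna fun a b => (K.Q2_commute (fun x y _ => hcm y x) (h a) (h b)).eq
  obtain ⟨x₀, hx₀⟩ := hQ2ne
  -- the quotient as an additive group
  have hel : ∀ r : Q ⧸ T.C, r * r = 1 := fun r => by
    obtain ⟨x, rfl⟩ := QuotientGroup.mk_surjective r
    rw [← QuotientGroup.mk_mul, QuotientGroup.eq_one_iff]; exact hsq x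
  letI : CommGroup (Q ⧸ T.C) := { (inferInstance : Group (Q ⧸ T.C)) with
    mul_comm := fun a b => by
      obtain ⟨a, rfl⟩ := QuotientGroup.mk_surjective a
      obtain ⟨b, rfl⟩ := QuotientGroup.mk_surjective b
      show ((a * b : Q) : Q ⧸ T.C) = ((b * a : Q) : Q ⧸ T.C)
      rw [QuotientGroup.eq]
      have := hcm b⁻¹ a⁻¹
      simpa [commutatorElement_def, mul_assoc] using this }
  let f0 : Q →* Multiplicative F :=
    MonoidHom.mk' (fun x => Multiplicative.ofAdd (p2 x)) fun x y => by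
      show Multiplicative.ofAdd (p2 (x * y)) = _
      rw [hp2add]; rfl
  let f1 : Q ⧸ T.C →* Multiplicative F := QuotientGroup.lift T.C f0 fun x hx =>
    congrArg Multiplicative.ofAdd (hp2Q2 x (T.C_le_Q2 hx))
  let f : Additive (Q ⧸ T.C) →+ F := AddMonoidHom.mk'
    (fun v => (f1 (Additive.toMul v)).toAdd) fun a b => by
      show (f1 (Additive.toMul a * Additive.toMul b)).toAdd = _
      rw [map_mul]; rfl
  have hfmk : ∀ x : Q, f (Additive.ofMul (x : Q ⧸ T.C)) = p2 x := fun x => rfl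
  have hf : Function.Surjective f := fun t => by
    obtain ⟨x, -, e⟩ := K.surj_of (A := (⊤ : Subgroup Q)) (p := p2) (fun _ _ => mem_top _)
      (fun a _ => hp2ρ a) hp2one (mem_top x₀) (fun h => hx₀ (hp2ker _ h)) t
    exact ⟨Additive.ofMul (x : Q ⧸ T.C), e⟩
  have hmapρ : T.C ≤ T.C.comap T.ρ.toMonoidHom := fun x hx => T.ρ_mem hx
  let P : Additive (Q ⧸ T.C) →+ Additive (Q ⧸ T.C) :=
    MonoidHom.toAdditive (QuotientGroup.map T.C T.C T.ρ.toMonoidHom hmapρ)
  have hPmk : ∀ x : Q, P (Additive.ofMul (x : Q ⧸ T.C)) = Additive.ofMul ((T.ρ x : Q) : Q ⧸ T.C) :=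
    fun x => rfl
  have hPit : ∀ (k : ℕ) (x : Q), (⇑P)^[k] (Additive.ofMul (x : Q ⧸ T.C)) =
      Additive.ofMul (((⇑T.ρ)^[k] x : Q) : Q ⧸ T.C) := by
    intro k x
    induction k with
    | zero => rfl
    | succ k ih => rw [Function.iterate_succ_apply', ih, hPmk, Function.iterate_succ_apply']
  have hlamit : ∀ (k : ℕ) (x : Q), p2 ((⇑T.ρ)^[k] x) = K.lam ^ k * p2 x := by
    intro k x
    induction k with
    | zero => simp
    | succ k ih => rw [Function.iterate_succ_apply', hp2ρ, ih, pow_succ', mul_assoc]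
  have hlm : K.lam ^ (2 ^ n - 1) = 1 := by
    have h := hlamit (2 ^ n - 1) x₀
    rw [hρ] at h
    exact mul_right_cancel₀ (fun h0 => hx₀ (hp2ker _ h0)) (h.symm.trans (one_mul _).symm)
  obtain ⟨sec, hsec, hsecP⟩ := exists_section (V := Additive (Q ⧸ T.C))
    (fun v => hel (Additive.toMul v)) f hf P K.lam (2 ^ n - 1)
    (Nat.Even.sub_odd Nat.one_le_two_pow
      ((even_iff_two_dvd).2 (dvd_pow_self 2 (by have := T.two_le; omega))) odd_one) hlm
    (fun v => by
      obtain ⟨x, hx⟩ := QuotientGroup.mk_surjective (Additive.toMul v)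
      rw [show v = Additive.ofMul (x : Q ⧸ T.C) by rw [hx]; rfl, hPit, hρ])
    (fun v => by
      obtain ⟨x, hx⟩ := QuotientGroup.mk_surjective (Additive.toMul v)
      rw [show v = Additive.ofMul (x : Q ⧸ T.C) by rw [hx]; rfl, hPmk, hfmk, hfmk, hp2ρ])
  -- lifts of the section
  choose s hs using fun a => QuotientGroup.mk_surjective (Additive.toMul (sec a))
  have hsp : ∀ a, p2 (s a) = a := fun a => by
    rw [← hfmk, hs]; exact hsec a
  have hsadd : ∀ a b, (s a * s b)⁻¹ * s (a + b) ∈ T.C := fun a b => by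
    rw [← QuotientGroup.eq, QuotientGroup.mk_mul, hs, hs, hs, map_add]; rfl
  have hsρ : ∀ a, (T.ρ (s a))⁻¹ * s (K.lam * a) ∈ T.C := fun a => by
    rw [← QuotientGroup.eq, hs, ← hsecP]
    have e : P (sec a) = Additive.ofMul ((T.ρ (s a) : Q) : Q ⧸ T.C) := by
      rw [← hPmk, hs]; rfl
    rw [e]; rfl
  -- the bilinear commutator
  set B : Q → Q → F := fun x y => K.val ⁅x, y⁆ with hB
  have Bl : ∀ x x' y, B (x * x') y = B x y + B x' y := fun x x' y =>
    K.val_comm_left (hcm x y) (hcm x' y)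
  have Br : ∀ x y y', B x (y * y') = B x y + B x y' := fun x y y' =>
    K.val_comm_right (hcm x y) (hcm x y')
  have BC1 : ∀ c ∈ T.C, ∀ y, B c y = 0 ∧ B y c = 0 := fun c hc y => by
    simp only [hB]; rw [(T.comm_one hc y).1, (T.comm_one hc y).2, K.val_one]; exact ⟨rfl, rfl⟩
  have Bcl : ∀ x x', x⁻¹ * x' ∈ T.C → ∀ y, B x' y = B x y ∧ B y x' = B y x := fun x x' h y => by
    rw [← mul_inv_cancel_left x x', Bl, Br, (BC1 _ h y).1, (BC1 _ h y).2, add_zero, add_zero]
    exact ⟨rfl, rfl⟩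
  have Bρ : ∀ x y, B (T.ρ x) (T.ρ y) = K.lam * B x y := fun x y => K.val_comm_ρ (hcm x y)
  obtain ⟨c0, hc0⟩ := K.bilin ⊤ T.Q2 p2 K.pi2 B (fun _ _ => mem_top _) (fun _ h => T.ρ_Q2 h)
    (fun a _ b _ => hp2add a b) (fun a ha b hb => K.pi2_mul ha hb) (fun a _ => hp2ρ a)
    (fun a ha => K.pi2_ρ ha) (fun a _ a' _ b _ => Bl a a' b) (fun a _ b _ b' _ => Br a b b')
    (fun a _ b _ => Bρ a b)
    (fun a _ h b hb => by
      show K.val ⁅a, b⁆ = 0
      rw [commutatorElement_eq_one_iff_commute.2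
        (K.Q2_commute (fun x y _ => hcm y x) (hp2ker a h) hb), K.val_one])
    (fun b hb h a _ => (BC1 b (K.mem_C_of_pi2 hb h) a).2)
  obtain ⟨c1, hc1⟩ := biadd_sq K.lam K.gen (fun a b => B (s a) (s b))
    (fun a a' b => by rw [(Bcl _ _ (hsadd a a') _).1, Bl])
    (fun a b b' => by rw [(Bcl _ _ (hsadd b b') _).2, Br])
    (fun a b => by rw [(Bcl _ _ (hsρ a) _).1, (Bcl _ _ (hsρ b) _).2, Bρ])
  have hc1z : c1 = 0 := by
    have e := hc1 1 1
    simp only [hB] at e
    rw [commutatorElement_self, K.val_one, zero_pow two_ne_zero, mul_one, mul_one] at e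
    exact e.symm
  have Bss : ∀ a b, B (s a) (s b) = 0 := fun a b => by
    have e := hc1 a b
    rwa [hc1z, zero_mul, pow_eq_zero_iff two_ne_zero] at e
  -- squares
  set Sq : Q → F := fun x => K.val (x * x) with hSq
  have hSqmul : ∀ x y, Sq (x * y) = Sq x + Sq y + B x y := fun x y => by
    have e : x * y * (x * y) = (x * x) * (y * y) * ⁅x, y⁆ := by
      have h1 : ⁅x, y⁆ = ⁅y, x⁆ := by rw [← commutatorElement_inv, T.inv_eq (hcm y x)]
      rw [h1]
      have h3 : x * y * (x * y) = x * (⁅y, x⁆ * (x * y)) * y := by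
        simp only [commutatorElement_def]; group
      rw [h3, (T.central (hcm y x) (x * y)).eq]
      have h4 : x * (x * y * ⁅y, x⁆) * y = x * x * y * (⁅y, x⁆ * y) := by group
      rw [h4, (T.central (hcm y x) y).eq]
      group
    simp only [hSq, hB]
    rw [e, K.val_mul (mul_mem (hsq x) (hsq y)) (hcm x y), K.val_mul (hsq x) (hsq y)]
  have hSqC : ∀ c ∈ T.C, Sq c = 0 := fun c hc => by
    simp only [hSq]; rw [T.sq c hc, K.val_one]
  have hSqcl : ∀ x x', x⁻¹ * x' ∈ T.C → Sq x' = Sq x := fun x x' h => by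
    rw [← mul_inv_cancel_left x x', hSqmul, hSqC _ h, (BC1 _ h x).2, add_zero, add_zero]
  have hSqρ : ∀ x, Sq (T.ρ x) = K.lam * Sq x := fun x => by
    simp only [hSq]; rw [← map_mul, K.val_ρ (hsq x)]
  have hlin : ∀ L : F → F, (∀ a b, L (a + b) = L a + L b) → (∀ a, L (K.lam * a) = K.lam * L a) →
      ∀ a, L a = a * L 1 := by
    intro L ha hl a
    rcases eq_or_ne a 0 with rfl | h0
    · rw [zero_mul]
      exact add_eq_left.1 (show L 0 + L 0 = L 0 by rw [← ha, add_zero])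
    obtain ⟨k, rfl⟩ := K.gen a h0
    clear h0
    induction k with
    | zero => simp
    | succ k ih => rw [pow_succ', hl, ih, mul_assoc]
  have hT' := hlin (fun a => Sq (s a))
    (fun a b => by rw [hSqcl _ _ (hsadd a b), hSqmul, Bss, add_zero])
    (fun a => by rw [hSqcl _ _ (hsρ a), hSqρ])
  choose t ht ht' using K.pi2_surj hne
  have htcl : ∀ x ∈ T.Q2, (t (K.pi2 x))⁻¹ * x ∈ T.C := fun x hx =>
    K.mem_C_of_pi2 (mul_mem (inv_mem (ht _)) hx) (by
      rw [K.pi2_mul (inv_mem (ht _)) hx, K.pi2_inv (ht _), ht', CharTwo.add_self_eq_zero])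
  have hS' := hlin (fun b => Sq (t b))
    (fun a b => by
      have e := htcl _ (mul_mem (ht a) (ht b))
      rw [K.pi2_mul (ht a) (ht b), ht', ht'] at e
      rw [← hSqcl _ _ e, hSqmul]
      simp only [hB]
      rw [commutatorElement_eq_one_iff_commute.2
        (K.Q2_commute (fun x y _ => hcm y x) (ht a) (ht b)), K.val_one, add_zero])
    (fun a => by
      have e := htcl _ (T.ρ_Q2 (ht a))
      rw [K.pi2_ρ (ht a), ht'] at e
      rw [← hSqcl _ _ e, hSqρ])
  -- coordinates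
  have hrem : ∀ x, (s (p2 x))⁻¹ * x ∈ T.Q2 := fun x => hp2ker _ (by
    have h := hp2add (s (p2 x)) ((s (p2 x))⁻¹ * x)
    rw [mul_inv_cancel_left, hsp] at h
    exact add_eq_left.1 h.symm)
  set r : Q → F := fun x => K.pi2 ((s (p2 x))⁻¹ * x) with hr
  have hradd : ∀ x y, r (x * y) = r x + r y := by
    intro x y
    have hc : ((s (p2 x))⁻¹ * x * ((s (p2 y))⁻¹ * y))⁻¹ * ((s (p2 (x * y)))⁻¹ * (x * y)) ∈ T.C := by
      rw [← QuotientGroup.eq]
      simp only [QuotientGroup.mk_mul, QuotientGroup.mk_inv, hs, hp2add, map_add, toMul_add]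
      rw [mul_inv, mul_mul_mul_comm]
    show K.pi2 _ = K.pi2 _ + K.pi2 _
    rw [← K.pi2_mul (hrem x) (hrem y)]
    conv_lhs => rw [← mul_inv_cancel_left ((s (p2 x))⁻¹ * x * ((s (p2 y))⁻¹ * y))
      ((s (p2 (x * y)))⁻¹ * (x * y))]
    rw [K.pi2_mul (mul_mem (hrem x) (hrem y)) (T.C_le_Q2 hc), K.pi2_C hc, add_zero]
  let p : Q →* Multiplicative (F × F) :=
    MonoidHom.mk' (fun x => Multiplicative.ofAdd (p2 x, r x)) fun x y => by
      show Multiplicative.ofAdd (p2 (x * y), r (x * y)) = _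
      rw [hp2add, hradd]; rfl
  let sq : F ≃+* F := (frobeniusEquiv F 2).symm
  let i : Multiplicative F →* Q :=
    MonoidHom.mk' (fun u => K.φ (sq u.toAdd)) fun u v => by
      show K.φ (sq (u.toAdd + v.toAdd)) = _
      rw [map_add, K.add]
  have hs0 : s 0 ∈ T.C := by
    rw [← QuotientGroup.eq_one_iff, hs, map_zero]; rfl
  have hrC : ∀ x ∈ T.C, p2 x = 0 ∧ r x = 0 := fun x hx => by
    have h := hp2Q2 x (T.C_le_Q2 hx)
    refine ⟨h, ?_⟩
    show K.pi2 _ = 0
    rw [h]
    exact K.pi2_C (mul_mem (inv_mem hs0) hx)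
  have hform : ∀ x, K.val (x * x) ^ 2 =
      Sq (s 1) ^ 2 * p2 x ^ 2 + c0 * (p2 x * r x) + Sq (t 1) ^ 2 * r x ^ 2 := by
    intro x
    set u := (s (p2 x))⁻¹ * x with hu
    have hu2 : u ∈ T.Q2 := hrem x
    have e1 : Sq u = r x * Sq (t 1) := by
      rw [hSqcl _ _ (htcl u hu2), hS']
    have e2 : B (s (p2 x)) u ^ 2 = c0 * (p2 x * r x) := by
      rw [hc0 _ (mem_top _) u hu2, hsp]
    have e3 : Sq x = p2 x * Sq (s 1) + r x * Sq (t 1) + B (s (p2 x)) u := by
      conv_lhs => rw [← mul_inv_cancel_left (s (p2 x)) x]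
      rw [hSqmul, ← hu, e1, hT']
    show Sq x ^ 2 = _
    rw [e3, CharTwo.add_sq, CharTwo.add_sq, e2]
    ring
  refine ⟨F, iF, iFi, iC, by rw [← Nat.card_eq_fintype_card]; exact K.card, p, i, Sq (s 1) ^ 2, c0,
    Sq (t 1) ^ 2, ?_, ?_, ?_, ?_, ?_⟩
  · intro hc
    apply hna
    have hBall : ∀ x, ∀ v ∈ T.Q2, B x v = 0 := fun x v hv => by
      have e := hc0 x (mem_top _) v hv
      rwa [hc, zero_mul, pow_eq_zero_iff two_ne_zero] at e
    intro a b
    refine commutatorElement_eq_one_iff_mul_comm.1 (K.val_eq_zero (hcm a b) ?_)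
    show B a b = 0
    obtain ⟨u, hu⟩ : ∃ u, u = (s (p2 a))⁻¹ * a := ⟨_, rfl⟩
    obtain ⟨v, hv⟩ : ∃ v, v = (s (p2 b))⁻¹ * b := ⟨_, rfl⟩
    have hu2 : u ∈ T.Q2 := hu ▸ hrem a
    have hv2 : v ∈ T.Q2 := hv ▸ hrem b
    rw [show B a b = B (s (p2 a) * u) (s (p2 b) * v) by
      rw [hu, hv, mul_inv_cancel_left, mul_inv_cancel_left], Bl, Br, Br, Bss,
      hBall _ _ hv2, hBall _ _ hv2]
    have hsym : ∀ u v, B u v = B v u := fun u v => by
      simp only [hB]; rw [← commutatorElement_inv v u, K.val_inv (hcm v u)]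
    rw [hsym _ (s (p2 b)), hBall _ _ hu2, add_zero, add_zero]
  · intro v
    set x := s v.toAdd.1 * t v.toAdd.2
    have h1 : p2 x = v.toAdd.1 := by rw [hp2add, hsp, hp2Q2 _ (ht _), add_zero]
    refine ⟨x, ?_⟩
    show Multiplicative.ofAdd (p2 x, K.pi2 ((s (p2 x))⁻¹ * x)) = v
    rw [h1, inv_mul_cancel_left, ht']; rfl
  · intro a b h
    exact Multiplicative.toAdd.injective (sq.injective (K.inj h))
  · intro g
    constructor
    · intro h
      have h' : (p2 g, r g) = ((0, 0) : F × F) := congrArg Multiplicative.toAdd h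
      have hg2 : (s (p2 g))⁻¹ * g ∈ T.C := K.mem_C_of_pi2 (hrem g) (congrArg Prod.snd h')
      rw [show p2 g = 0 from congrArg Prod.fst h'] at hg2
      have hgC : g ∈ T.C := by
        rw [← mul_inv_cancel_left (s 0) g]; exact mul_mem hs0 hg2
      obtain ⟨w, hw⟩ := K.surj g hgC
      refine ⟨Multiplicative.ofAdd (frobeniusEquiv F 2 w), ?_⟩
      show K.φ (sq (frobeniusEquiv F 2 w)) = g
      rw [RingEquiv.symm_apply_apply]; exact hw
    · rintro ⟨u, rfl⟩
      have h := hrC (i u) (K.mem _)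
      show Multiplicative.ofAdd (p2 (i u), r (i u)) = 1
      rw [h.1, h.2]; rfl
  · intro g
    show g * g = K.φ (sq (Sq (s 1) ^ 2 * p2 g ^ 2 + c0 * (p2 g * r g) + Sq (t 1) ^ 2 * r g ^ 2))
    rw [← hform g, show K.val (g * g) ^ 2 = frobeniusEquiv F 2 (K.val (g * g)) by
      rw [frobeniusEquiv_apply, frobenius_def], RingEquiv.symm_apply_apply]
    exact (K.φ_val (hsq g)).symm

/-- Change of coordinates and scale. -/
theorem normalize {F : Type} [Field F] [Finite F] [CharP F 2] {G : Type*} [Group G]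
    (p : G →* Multiplicative (F × F)) (i : Multiplicative F →* G) {A c S : F} (hc : c ≠ 0)
    (hp : Function.Surjective p) (hi : Function.Injective i) (hk : ∀ g, p g = 1 ↔ ∃ u, i u = g)
    (hq : ∀ g, g * g = i (Multiplicative.ofAdd
      (A * (p g).toAdd.1 ^ 2 + c * ((p g).toAdd.1 * (p g).toAdd.2) + S * (p g).toAdd.2 ^ 2))) :
    ∃ (p' : G →* Multiplicative (F × F)) (i' : Multiplicative F →* G),
      Function.Surjective p' ∧ Function.Injective i' ∧ (∀ g, p' g = 1 ↔ ∃ u, i' u = g) ∧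
      ((∀ g, g * g = i' (Multiplicative.ofAdd ((p' g).toAdd.1 * (p' g).toAdd.2))) ∨
        ∃ T : F, (∀ r : F, r ^ 2 + r ≠ T) ∧ ∀ g, g * g = i' (Multiplicative.ofAdd
          (T * (p' g).toAdd.1 ^ 2 + (p' g).toAdd.1 * (p' g).toAdd.2 + (p' g).toAdd.2 ^ 2))) := by
  have two : (2 : F) = 0 := CharTwo.two_eq_zero
  have build : ∀ (M : F × F →+ F × F) (κ : F), κ ≠ 0 → (∀ v, M v = 0 → v = 0) →
      ∀ q' : F × F → F, (∀ a b : F, κ * (A * a ^ 2 + c * (a * b) + S * b ^ 2) = q' (M (a, b))) →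
      ∃ (p' : G →* Multiplicative (F × F)) (i' : Multiplicative F →* G),
        Function.Surjective p' ∧ Function.Injective i' ∧ (∀ g, p' g = 1 ↔ ∃ u, i' u = g) ∧
        ∀ g, g * g = i' (Multiplicative.ofAdd (q' (p' g).toAdd)) := by
    intro M κ hκ hM q' he
    have hMi : Function.Injective M := (injective_iff_map_eq_zero M).2 hM
    have hMs : Function.Surjective M := Finite.surjective_of_injective hMi
    refine ⟨(AddMonoidHom.toMultiplicative M).comp p,
      i.comp (AddMonoidHom.toMultiplicative (AddMonoidHom.mulLeft κ⁻¹)), ?_, ?_, fun g => ?_,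
      fun g => ?_⟩
    · intro v
      obtain ⟨w, hw⟩ := hMs v.toAdd
      obtain ⟨g, hg⟩ := hp (Multiplicative.ofAdd w)
      refine ⟨g, ?_⟩
      show Multiplicative.ofAdd (M (p g).toAdd) = v
      rw [hg]
      show Multiplicative.ofAdd (M w) = v
      rw [hw]; rfl
    · intro u v h
      have h' : κ⁻¹ * u.toAdd = κ⁻¹ * v.toAdd := congrArg Multiplicative.toAdd (hi h)
      exact Multiplicative.toAdd.injective (mul_left_cancel₀ (inv_ne_zero hκ) h')
    · constructor
      · intro h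
        have h' : M (p g).toAdd = 0 := congrArg Multiplicative.toAdd h
        obtain ⟨u, hu⟩ := (hk g).1 (congrArg Multiplicative.ofAdd (hM _ h'))
        refine ⟨Multiplicative.ofAdd (κ * u.toAdd), ?_⟩
        show i (Multiplicative.ofAdd (κ⁻¹ * (κ * u.toAdd))) = g
        rw [inv_mul_cancel_left₀ hκ]; exact hu
      · rintro ⟨u, rfl⟩
        show Multiplicative.ofAdd (M (p (i _)).toAdd) = 1
        rw [(hk _).2 ⟨_, rfl⟩]
        show Multiplicative.ofAdd (M 0) = 1
        rw [map_zero]; rfl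
    · rw [hq g]
      show _ = i (Multiplicative.ofAdd (κ⁻¹ * q' (M (p g).toAdd)))
      rw [show (p g).toAdd = ((p g).toAdd.1, (p g).toAdd.2) from rfl, ← he,
        inv_mul_cancel_left₀ hκ]
  rcases eq_or_ne S 0 with rfl | hS
  · obtain ⟨p', i', h1, h2, h3, h4⟩ := build
      (AddMonoidHom.mk' (fun v => (v.1, A * v.1 + c * v.2)) fun a b => by ext <;> simp <;> ring)
      1 one_ne_zero (fun v hv => by
        have ha : v.1 = 0 := congrArg Prod.fst hv
        have hb : A * v.1 + c * v.2 = 0 := congrArg Prod.snd hv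
        rw [ha, mul_zero, zero_add, mul_eq_zero] at hb
        exact Prod.ext ha (hb.resolve_left hc))
      (fun v => v.1 * v.2) (fun a b => by
        show _ = a * (A * a + c * b); ring)
    exact ⟨p', i', h1, h2, h3, Or.inl h4⟩
  by_cases hroot : ∃ r : F, S * r ^ 2 + c * r + A = 0
  · obtain ⟨r, hr⟩ := hroot
    obtain ⟨p', i', h1, h2, h3, h4⟩ := build
      (AddMonoidHom.mk' (fun v => (v.2 + r * v.1, S * (v.2 + r * v.1) + c * v.1))
        fun a b => by ext <;> simp <;> ring)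
      1 one_ne_zero (fun v hv => by
        have ha : v.2 + r * v.1 = 0 := congrArg Prod.fst hv
        have hb : S * (v.2 + r * v.1) + c * v.1 = 0 := congrArg Prod.snd hv
        rw [ha, mul_zero, zero_add, mul_eq_zero] at hb
        have h1 := hb.resolve_left hc
        rw [h1, mul_zero, add_zero] at ha
        exact Prod.ext h1 ha)
      (fun v => v.1 * v.2) (fun a b => by
        show _ = (b + r * a) * (S * (b + r * a) + c * a)
        linear_combination -(a ^ 2) * hr + (a ^ 2 * A - r * a * b * S) * two)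
    exact ⟨p', i', h1, h2, h3, Or.inl h4⟩
  push Not at hroot
  obtain ⟨p', i', h1, h2, h3, h4⟩ := build
    (AddMonoidHom.mk' (fun v => (v.1, S / c * v.2)) fun a b => by ext <;> simp <;> ring)
    (S / c ^ 2) (div_ne_zero hS (pow_ne_zero _ hc)) (fun v hv => by
      have ha : v.1 = 0 := congrArg Prod.fst hv
      have hb : S / c * v.2 = 0 := congrArg Prod.snd hv
      exact Prod.ext ha ((mul_eq_zero.1 hb).resolve_left (div_ne_zero hS hc)))
    (fun v => S * A / c ^ 2 * v.1 ^ 2 + v.1 * v.2 + v.2 ^ 2) (fun a b => by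
      show _ = S * A / c ^ 2 * a ^ 2 + a * (S / c * b) + (S / c * b) ^ 2
      field_simp)
  refine ⟨p', i', h1, h2, h3, Or.inr ⟨S * A / c ^ 2, fun r hr => hroot (c * r / S) ?_, h4⟩⟩
  have e : A = c ^ 2 * (r ^ 2 + r) / S := by rw [hr]; field_simp
  rw [e]
  field_simp
  linear_combination c ^ 2 * (r ^ 2 + r) * two

end Cfsg.Agent.SuzukiTypeStructure65
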