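import Mathlib
import Cfsg.Agent.Lib.SU3TwoHeisEmbed
import Cfsg.Agent.Lib.SLDefiningCount
import Cfsg.Agent.Lib.PSLCard

/-!
Central extensions of elementary abelian 2-groups are determined by their squaring maps; the
unitriangular and unitary models with squaring forms `ab` and a norm form.
-/

set_option autoImplicit false
set_option linter.all false

namespace Cfsg.Agent.SuzukiTypeModels65

open Matrix

/-- Two central extensions of a group of exponent two by one of exponent two with the same squaring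
map are isomorphic. -/
theorem ext_iso {G H U V : Type*} [Group G] [Group H] [CommGroup U] [CommGroup V] [Finite G]
    [Finite H] (pG : G →* V) (pH : H →* V) (iG : U →* G) (iH : U →* H)
    (hsH : Function.Surjective pH) (hsG : Function.Surjective pG)
    (hiG : Function.Injective iG) (hiH : Function.Injective iH)
    (hkG : ∀ g, pG g = 1 ↔ ∃ u, iG u = g) (hkH : ∀ h, pH h = 1 ↔ ∃ u, iH u = h)
    (hcH : ∀ u h, Commute (iH u) h)
    (q : V → U) (hqG : ∀ g, g * g = iG (q (pG g))) (hqH : ∀ h, h * h = iH (q (pH h))) :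
    Nonempty (G ≃* H) := by
  classical
  let D : Subgroup (G × H) :=
    { carrier := {d | pG d.1 = pH d.2}
      one_mem' := by simp
      mul_mem' := fun {a b} ha hb => by simp_all
      inv_mem' := fun {a} ha => by simp_all }
  let N : Subgroup (G × H) := (iG.prod iH).range
  have hND : N ≤ D := by
    rintro _ ⟨u, rfl⟩
    show pG (iG u) = pH (iH u)
    rw [(hkG _).2 ⟨u, rfl⟩, (hkH _).2 ⟨u, rfl⟩]
  have hsq : ∀ d ∈ D, d * d ∈ N := fun d hd => ⟨q (pG d.1), by
    ext
    · exact (hqG d.1).symm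
    · rw [show pG d.1 = pH d.2 from hd]; exact (hqH d.2).symm⟩
  let P : Subgroup (G × H) → Prop := fun L => N ≤ L ∧ L ≤ D ∧ ∀ h : H, ((1 : G), h) ∈ L → h = 1
  obtain ⟨L, ⟨hNL, hLD, hL0⟩, hmax⟩ :=
    (Set.toFinite {L : Subgroup (G × H) | P L}).exists_maximal ⟨N, le_rfl, hND, fun h hh => by
      obtain ⟨u, hu⟩ := hh
      have h1 : iG u = 1 := congrArg Prod.fst hu
      have h2 : iH u = h := congrArg Prod.snd hu
      rw [← h2, hiG (h1.trans iG.map_one.symm), map_one]⟩
  -- conjugation inside D is trivial modulo N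
  have hconj : ∀ d ∈ D, ∀ l ∈ L, d * l * d⁻¹ ∈ L := by
    intro d hd l hl
    have e : d * l * d⁻¹ = (d * l) * (d * l) * (l⁻¹ * ((d * d)⁻¹) * l) * l⁻¹ := by group
    rw [e]
    exact mul_mem (mul_mem (hNL (hsq _ (mul_mem hd (hLD hl))))
      (mul_mem (mul_mem (inv_mem hl) (inv_mem (hNL (hsq d hd)))) hl)) (inv_mem hl)
  have hproj : ∀ g : G, ∃ h : H, (g, h) ∈ L := by
    intro g
    obtain ⟨h₀, hh₀⟩ := hsH (pG g)
    set d : G × H := (g, h₀) with hdd
    have hdD : d ∈ D := hh₀.symm
    by_contra hno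
    have hdd' : d * d ∈ L := hNL (hsq d hdD)
    let L' : Subgroup (G × H) :=
      { carrier := {x | x ∈ D ∧ (x ∈ L ∨ x * d ∈ L)}
        one_mem' := ⟨one_mem D, Or.inl (one_mem L)⟩
        mul_mem' := by
          rintro x y ⟨hx, hx'⟩ ⟨hy, hy'⟩
          refine ⟨mul_mem hx hy, ?_⟩
          rcases hx' with hx' | hx' <;> rcases hy' with hy' | hy'
          · exact Or.inl (mul_mem hx' hy')
          · exact Or.inr (by rw [mul_assoc]; exact mul_mem hx' hy')
          · refine Or.inr ?_
            have := mul_mem hx' (hconj _ (inv_mem hdD) _ hy')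
            rwa [show x * d * (d⁻¹ * y * d⁻¹⁻¹) = x * y * d by group] at this
          · refine Or.inl ?_
            have := mul_mem hx' (mul_mem (hconj _ (inv_mem hdD) _ hy') (inv_mem hdd'))
            rwa [show x * d * (d⁻¹ * (y * d) * d⁻¹⁻¹ * (d * d)⁻¹) = x * y by group] at this
        inv_mem' := by
          rintro x ⟨hx, hx'⟩
          refine ⟨inv_mem hx, ?_⟩
          rcases hx' with hx' | hx'
          · exact Or.inl (inv_mem hx')
          · refine Or.inr ?_
            have := hconj d hdD _ (mul_mem (inv_mem hx') hdd')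
            rwa [show d * ((x * d)⁻¹ * (d * d)) * d⁻¹ = x⁻¹ * d by group] at this }
    have hP : P L' := by
      refine ⟨fun x hx => ⟨hND hx, Or.inl (hNL hx)⟩, fun x hx => hx.1, fun h hh => ?_⟩
      rcases hh.2 with h' | h'
      · exact hL0 h h'
      · refine absurd ?_ hno
        refine ⟨h * h₀, ?_⟩
        simpa [hdd, Prod.mk_mul_mk] using h'
    have hle : L' ≤ L := hmax hP (fun x hx => ⟨hLD hx, Or.inl hx⟩)
    exact hno ⟨h₀, hle ⟨hdD, Or.inr hdd'⟩⟩
  choose f hf using hproj
  have huniq : ∀ g h, (g, h) ∈ L → h = f g := by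
    intro g h hg
    have hm := mul_mem hg (inv_mem (hf g))
    rw [show ((g, h) : G × H) * (g, f g)⁻¹ = (1, h * (f g)⁻¹) by simp] at hm
    exact mul_inv_eq_one.1 (hL0 _ hm)
  let φ : G →* H := MonoidHom.mk' f fun a b => (huniq _ _ (mul_mem (hf a) (hf b))).symm
  have hφ : ∀ g, pH (φ g) = pG g := fun g => (hLD (hf g)).symm
  have hφi : ∀ u, φ (iG u) = iH u := fun u => (huniq _ _ (hNL ⟨u, rfl⟩)).symm
  refine ⟨MulEquiv.ofBijective φ ⟨?_, ?_⟩⟩
  · rw [injective_iff_map_eq_one]
    intro g hg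
    have h1 : pG g = 1 := by rw [← hφ, hg, map_one]
    obtain ⟨u, rfl⟩ := (hkG g).1 h1
    rw [hφi] at hg
    rw [hiH (hg.trans iH.map_one.symm), map_one]
  · intro h
    obtain ⟨g, hg⟩ := hsG (pH h)
    have h1 : pH ((φ g)⁻¹ * h) = 1 := by rw [map_mul, map_inv, hφ, hg, inv_mul_cancel]
    obtain ⟨u, hu⟩ := (hkH _).1 h1
    exact ⟨g * iG u, by rw [map_mul, hφi, hu, mul_inv_cancel_left]⟩

/-- Upper unitriangular triples. -/
@[ext] structure UT (F : Type) where
  a : F
  b : F
  z : F

namespace UT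

variable {F : Type} [Field F]

instance : Mul (UT F) := ⟨fun x y => ⟨x.a + y.a, x.b + y.b, x.z + y.z + x.a * y.b⟩⟩
instance : One (UT F) := ⟨⟨0, 0, 0⟩⟩
instance : Inv (UT F) := ⟨fun x => ⟨-x.a, -x.b, -x.z + x.a * x.b⟩⟩

theorem mul_def (x y : UT F) : x * y = ⟨x.a + y.a, x.b + y.b, x.z + y.z + x.a * y.b⟩ := rfl
theorem one_def : (1 : UT F) = ⟨0, 0, 0⟩ := rfl
theorem inv_def (x : UT F) : x⁻¹ = ⟨-x.a, -x.b, -x.z + x.a * x.b⟩ := rfl

instance : Group (UT F) :=
  Group.ofLeftAxioms
    (fun x y w => by ext <;> simp only [mul_def] <;> ring)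
    (fun x => by ext <;> simp [mul_def, one_def])
    (fun x => by ext <;> simp only [mul_def, inv_def, one_def] <;> ring)

/-- Coordinates. -/
def equiv : UT F ≃ F × F × F where
  toFun x := (x.a, x.b, x.z)
  invFun p := ⟨p.1, p.2.1, p.2.2⟩
  left_inv _ := rfl
  right_inv _ := rfl

instance [Finite F] : Finite (UT F) := Finite.of_equiv _ equiv.symm

/-- The matrix of a triple. -/
def mat (x : UT F) : SpecialLinearGroup (Fin 3) F :=
  ⟨!![1, x.a, x.z; 0, 1, x.b; 0, 0, 1], by simp [Matrix.det_fin_three]⟩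

/-- The embedding into `SL₃`. -/
def toSL : UT F →* SpecialLinearGroup (Fin 3) F := MonoidHom.mk' mat fun x y => by
  apply Subtype.ext
  show _ = (mat x).1 * (mat y).1
  ext i j
  fin_cases i <;> fin_cases j <;>
    simp [mat, mul_def, Matrix.mul_apply, Fin.sum_univ_three] <;> ring

theorem toPSL_injective : Function.Injective
    ((QuotientGroup.mk' (Subgroup.center (SpecialLinearGroup (Fin 3) F))).comp toSL) := by
  rw [injective_iff_map_eq_one]
  intro x hx
  obtain ⟨r, -, hr⟩ := Matrix.SpecialLinearGroup.mem_center_iff.1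
    ((QuotientGroup.eq_one_iff (toSL x)).1 hx)
  have h01 := congrFun (congrFun hr 0) 1
  have h02 := congrFun (congrFun hr 0) 2
  have h12 := congrFun (congrFun hr 1) 2
  simp [toSL, mat] at h01 h02 h12
  ext
  · exact h01.symm
  · exact h12.symm
  · exact h02.symm

theorem exists_sylow_equiv [Fintype F] [CharP F 2] :
    ∃ S : Sylow 2 (ProjectiveSpecialLinearGroup (Fin 3) F),
      Nonempty (UT F ≃* ↥(S : Subgroup (ProjectiveSpecialLinearGroup (Fin 3) F))) := by
  haveI : Fact (Nat.Prime 2) := ⟨Nat.prime_two⟩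
  let f : UT F →* ProjectiveSpecialLinearGroup (Fin 3) F := (QuotientGroup.mk' _).comp toSL
  have hf : Function.Injective f := toPSL_injective
  have h1 := SLDefiningCount.sylow_exponent (F := F) (n := 3) (p := 2)
  have h2 := PSLCard.card_PSL_mul (F := F) 3
  have hodd : ¬ 2 ∣ Nat.gcd 3 (Nat.card F - 1) := fun h => by
    have := Nat.dvd_trans h (Nat.gcd_dvd_left _ _)
    norm_num at this
  have hr : Nat.card f.range = Fintype.card F ^ 3 := by
    rw [← Nat.card_congr (MonoidHom.ofInjective hf).toEquiv, Nat.card_congr UT.equiv,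
      Nat.card_prod, Nat.card_prod, Nat.card_eq_fintype_card]
    ring
  refine ⟨Sylow.ofCard f.range ?_, ⟨MonoidHom.ofInjective hf⟩⟩
  rw [← h2, Nat.factorization_mul (fun h => hodd (by rw [h]; exact dvd_zero 2))
    Nat.card_pos.ne', Finsupp.add_apply, Nat.factorization_eq_zero_of_not_dvd hodd, zero_add] at h1
  rw [hr, h1]; rfl

end UT

variable {F : Type} [Field F] [Fintype F] [CharP F 2]

/-- A central extension of `F × F` by `F` with squaring map `ab` is unitriangular. -/
theorem iso_UT {G : Type*} [Group G] [Finite G] (p : G →* Multiplicative (F × F))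
    (i : Multiplicative F →* G) (hs : Function.Surjective p) (hi : Function.Injective i)
    (hk : ∀ g, p g = 1 ↔ ∃ u, i u = g)
    (hq : ∀ g, g * g = i (Multiplicative.ofAdd ((p g).toAdd.1 * (p g).toAdd.2))) :
    Nonempty (G ≃* UT F) := by
  let pH : UT F →* Multiplicative (F × F) :=
    MonoidHom.mk' (fun x => Multiplicative.ofAdd (x.a, x.b)) fun x y => rfl
  let iH : Multiplicative F →* UT F := MonoidHom.mk' (fun u => ⟨0, 0, u.toAdd⟩) fun u v => by
    ext <;> simp [UT.mul_def]
  refine ext_iso p pH i iH (fun v => ⟨⟨v.toAdd.1, v.toAdd.2, 0⟩, rfl⟩) hs hi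
    (fun u v h => congrArg UT.z h) hk ?_ ?_
    (fun v => Multiplicative.ofAdd (v.toAdd.1 * v.toAdd.2)) hq ?_
  · intro x
    constructor
    · intro h
      have h' : (x.a, x.b) = ((0, 0) : F × F) := congrArg Multiplicative.toAdd h
      exact ⟨Multiplicative.ofAdd x.z,
        UT.ext (congrArg Prod.fst h').symm (congrArg Prod.snd h').symm rfl⟩
    · rintro ⟨u, rfl⟩; rfl
  · intro u x
    show _ = _
    ext <;> simp [iH, UT.mul_def, add_comm]
  · intro x
    show x * x = _
    ext
    · simp [iH, pH, UT.mul_def, CharTwo.add_self_eq_zero]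
    · simp [iH, pH, UT.mul_def, CharTwo.add_self_eq_zero]
    · simp [iH, pH, UT.mul_def, CharTwo.add_self_eq_zero]

/-- A central extension of `F × F` by `F` with an anisotropic squaring map is unitary. -/
theorem iso_HU {n : ℕ} (hn : 1 ≤ n) (hF : Fintype.card F = 2 ^ n) {G : Type*} [Group G] [Finite G]
    (p : G →* Multiplicative (F × F)) (i : Multiplicative F →* G) (hs : Function.Surjective p)
    (hi : Function.Injective i) (hk : ∀ g, p g = 1 ↔ ∃ u, i u = g) {T : F}
    (hT : ∀ r : F, r ^ 2 + r ≠ T)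
    (hq : ∀ g, g * g = i (Multiplicative.ofAdd
      (T * (p g).toAdd.1 ^ 2 + (p g).toAdd.1 * (p g).toAdd.2 + (p g).toAdd.2 ^ 2))) :
    ∃ (K : Type) (_ : Field K) (_ : Fintype K), Fintype.card K = 4 ^ n ∧
      ∃ S : Sylow 2 (Cfsg.PSU 3 K (2 ^ n)),
        Nonempty (G ≃* ↥(S : Subgroup (Cfsg.PSU 3 K (2 ^ n)))) := by
  classical
  haveI : Fact (Nat.Prime 2) := ⟨Nat.prime_two⟩
  letI : Fintype (GaloisField 2 (2 * n)) := Fintype.ofFinite _
  have hK : Fintype.card (GaloisField 2 (2 * n)) = 2 ^ (2 * n) := by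
    rw [Fintype.card_eq_nat_card, GaloisField.card 2 (2 * n) (by omega)]
  have hK4 : Fintype.card (GaloisField 2 (2 * n)) = 4 ^ n := by
    rw [hK, pow_mul]; norm_num
  have hK2 : Fintype.card (GaloisField 2 (2 * n)) = (2 ^ n) ^ 2 := by
    rw [hK, ← pow_mul, mul_comm]
  have hKn : Nat.card (GaloisField 2 (2 * n)) = (2 ^ n) ^ 2 := Nat.card_eq_fintype_card.trans hK2
  refine ⟨GaloisField 2 (2 * n), inferInstance, inferInstance, hK4, ?_⟩
  obtain ⟨_, σ, hinv, hσ, hne, hfix, hcard, -, hP⟩ :=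
    SU3TwoHeisEmbed.exists_model (F := GaloisField 2 (2 * n)) hn hK2
  obtain ⟨S⟩ : Nonempty (Sylow 2 (Cfsg.PSU 3 (GaloisField 2 (2 * n)) (2 ^ n))) := ⟨default⟩
  obtain ⟨e⟩ := hP S
  refine ⟨S, ?_⟩
  haveI : Finite (SU3TwoHeis.HU σ) := Nat.finite_of_card_ne_zero (by rw [hcard]; positivity)
  -- F inside the big field
  letI : Algebra (ZMod 2) F := ZMod.algebra F 2
  have hrankK : Module.finrank (ZMod 2) (GaloisField 2 (2 * n)) = 2 * n :=
    GaloisField.finrank 2 (by omega)
  have hrankF : Module.finrank (ZMod 2) F = n := by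
    have h := Module.card_eq_pow_finrank (K := ZMod 2) (V := F)
    rw [hF, ZMod.card] at h
    exact (Nat.pow_right_injective le_rfl h).symm
  obtain ⟨f⟩ := FiniteField.nonempty_algHom_of_finrank_dvd (F := ZMod 2) (K := F)
    (L := GaloisField 2 (2 * n)) (by rw [hrankK, hrankF]; exact dvd_mul_left n 2)
  set K := GaloisField 2 (2 * n)
  have hfσ : ∀ t, σ (f t) = f t := fun t => by
    rw [hσ, ← map_pow, ← hF, FiniteField.pow_card]
  have hfix' : ∀ y : K, σ y = y → ∃ t, f t = y := by
    intro y hy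
    have hbij : Function.Bijective fun t : F => (⟨f t, hfσ t⟩ : SU3TwoHeis.fixd σ) :=
      (Nat.bijective_iff_injective_and_card _).2
        ⟨fun a b h => f.injective (congrArg Subtype.val h), by
          rw [hfix, Nat.card_eq_fintype_card, hF]⟩
    obtain ⟨t, ht⟩ := hbij.2 ⟨y, hy⟩
    exact ⟨t, congrArg Subtype.val ht⟩
  obtain ⟨c, hc⟩ := hne
  set s := c + σ c with hs'
  have hs0 : s ≠ 0 := fun h => hc (CharTwo.add_eq_zero.1 h).symm
  have hσs : σ s = s := by rw [hs', map_add, SU3TwoHeis.invol, add_comm]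
  set ω₀ := c / s with hω₀
  have hσω₀ : σ ω₀ = ω₀ + 1 := by
    rw [hω₀, map_div₀, hσs, div_add_one hs0, hs', ← add_assoc, CharTwo.add_self_eq_zero, zero_add]
  obtain ⟨T₀, hT₀⟩ := hfix' (ω₀ ^ 2 + ω₀) (by
    rw [map_add, map_pow, hσω₀]
    linear_combination (ω₀ + 1) * (CharTwo.two_eq_zero (R := K)))
  have hT₀' : ∀ r : F, r ^ 2 + r ≠ T₀ := by
    intro r hr
    have h : (ω₀ + f r) * (ω₀ + f r + 1) = 0 := by
      have h' := congrArg f hr
      rw [map_add, map_pow] at h'
      linear_combination h'.trans hT₀ + (ω₀ ^ 2 + ω₀ + ω₀ * f r) * (CharTwo.two_eq_zero (R := K))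
    have hfix0 : σ ω₀ = ω₀ := by
      rcases mul_eq_zero.1 h with h | h
      · rw [CharTwo.add_eq_zero.1 h, hfσ]
      · rw [add_assoc] at h
        rw [CharTwo.add_eq_zero.1 h, map_add, hfσ, map_one]
    rw [hσω₀] at hfix0
    exact one_ne_zero (left_eq_add.1 hfix0.symm)
  -- the additive map r ↦ r ^ 2 + r has index two
  let AS : F →+ F := AddMonoidHom.mk' (fun r => r ^ 2 + r) fun a b => by
    linear_combination a * b * (CharTwo.two_eq_zero (R := F))
  have hker : (AS.ker : Set F) = {0, 1} := by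
    ext r
    show r ^ 2 + r = 0 ↔ r ∈ ({0, 1} : Set F)
    rw [show r ^ 2 + r = r * (r + 1) by ring, mul_eq_zero, CharTwo.add_eq_zero]
    simp
  have hidx : AS.range.index = 2 := by
    have h1 := AS.range.card_mul_index
    have h2 := AS.ker.card_mul_index
    rw [AddSubgroup.index_ker] at h2
    have h3 : Nat.card AS.ker = 2 := by
      rw [show Nat.card AS.ker = Nat.card (AS.ker : Set F) from rfl, hker, Nat.card_coe_set_eq,
        Set.ncard_pair zero_ne_one]
    rw [h3] at h2
    have h4 : Nat.card AS.range ≠ 0 := Nat.card_pos.ne'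
    rw [← h2, mul_comm 2] at h1
    exact Nat.eq_of_mul_eq_mul_left (Nat.pos_of_ne_zero h4) h1
  obtain ⟨r, hr⟩ : T + T₀ ∈ AS.range := by
    rw [AddSubgroup.add_mem_iff_of_index_two hidx]
    exact iff_of_false (fun ⟨r, hr⟩ => hT r hr) (fun ⟨r, hr⟩ => hT₀' r hr)
  set ω := ω₀ + f r with hω
  have hσω : σ ω = ω + 1 := by rw [hω, map_add, hσω₀, hfσ]; ring
  have hωT : ω ^ 2 + ω = f T := by
    have h' : f r ^ 2 + f r = f T + f T₀ := by
      rw [← map_pow, ← map_add, ← map_add]; exact congrArg f hr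
    rw [hω]
    linear_combination h' - hT₀ + (ω₀ * f r + f T₀) * (CharTwo.two_eq_zero (R := K))
  let W : F × F →+ K := AddMonoidHom.mk' (fun v => f v.2 + f v.1 * ω) fun a b => by
    simp only [Prod.fst_add, Prod.snd_add, map_add]; ring
  have hWn : ∀ v : F × F, W v * σ (W v) = f (T * v.1 ^ 2 + v.1 * v.2 + v.2 ^ 2) := by
    intro v
    show (f v.2 + f v.1 * ω) * σ (f v.2 + f v.1 * ω) = _
    simp only [map_add, map_mul, map_pow, hfσ, hσω]
    linear_combination f v.1 ^ 2 * hωT + f v.1 * f v.2 * ω * (CharTwo.two_eq_zero (R := K))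
  have hWb : Function.Bijective W := by
    refine (Nat.bijective_iff_injective_and_card _).2 ⟨?_, ?_⟩
    · rw [injective_iff_map_eq_zero]
      intro v hv
      have h0 : f v.2 + f v.1 * ω = 0 := hv
      have h1 := congrArg σ h0
      rw [map_add, map_mul, map_zero, hfσ, hfσ, hσω] at h1
      have hv1 : f v.1 = 0 := by linear_combination h1 - h0
      rw [hv1, zero_mul, add_zero] at h0
      exact Prod.ext (f.injective (hv1.trans (map_zero f).symm))
        (f.injective (h0.trans (map_zero f).symm))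
    · rw [Nat.card_prod, Nat.card_eq_fintype_card, hF]
      exact (hKn.trans (pow_two _)).symm
  let We := AddEquiv.ofBijective W hWb
  let pH : SU3TwoHeis.HU σ →* Multiplicative (F × F) :=
    MonoidHom.mk' (fun x => Multiplicative.ofAdd (We.symm (SU3TwoHeis.fA x))) fun x y => by
      rw [SU3TwoHeis.fA_mul, map_add]; rfl
  let iH : Multiplicative F →* SU3TwoHeis.HU σ :=
    MonoidHom.mk' (fun u => SU3TwoHeis.zc (f u.toAdd) (hfσ _)) fun u v =>
      SU3TwoHeis.ext' (by simp) (by simp [map_add])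
  refine (ext_iso p pH i iH ?_ hs hi ?_ hk ?_ ?_
    (fun v => Multiplicative.ofAdd
      (T * v.toAdd.1 ^ 2 + v.toAdd.1 * v.toAdd.2 + v.toAdd.2 ^ 2)) hq ?_).map fun g => g.trans e.symm
  · intro v
    set a := We v.toAdd
    set na := a * σ a
    refine ⟨⟨(a, c * na / s), ?_⟩, ?_⟩
    · show c * na / s + σ (c * na / s) = na
      rw [map_div₀, map_mul, hσs, show σ na = na from (map_mul σ a (σ a)).trans
        ((congrArg (σ a * ·) (SU3TwoHeis.invol a)).trans (mul_comm _ _)),
        ← add_div, ← add_mul, ← hs']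
      exact mul_div_cancel_left₀ na hs0
    · show Multiplicative.ofAdd (We.symm a) = v
      rw [AddEquiv.symm_apply_apply]; rfl
  · intro u v h
    exact Multiplicative.toAdd.injective (f.injective (congrArg SU3TwoHeis.fB h))
  · intro x
    constructor
    · intro h
      have hA : SU3TwoHeis.fA x = 0 := by
        have h' : We.symm (SU3TwoHeis.fA x) = 0 := congrArg Multiplicative.toAdd h
        rwa [AddEquiv.map_eq_zero_iff] at h'
      obtain ⟨t, ht⟩ := hfix' _ (SU3TwoHeis.fB_fixed hA)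
      exact ⟨Multiplicative.ofAdd t, SU3TwoHeis.ext' hA.symm ht⟩
    · rintro ⟨u, rfl⟩
      show Multiplicative.ofAdd (We.symm (SU3TwoHeis.fA (SU3TwoHeis.zc (f u.toAdd) (hfσ _)))) = 1
      rw [SU3TwoHeis.fA_zc, map_zero]; rfl
  · intro u x
    rw [SU3TwoHeis.commute_iff]
    simp [iH]
  · intro x
    refine SU3TwoHeis.ext' (SU3TwoHeis.sq_fA x) ?_
    rw [SU3TwoHeis.sq_fB]
    show _ = f _
    refine Eq.trans ?_ (hWn (We.symm (SU3TwoHeis.fA x)))
    show _ = We (We.symm _) * σ (We (We.symm _))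
    rw [AddEquiv.apply_symm_apply]

end Cfsg.Agent.SuzukiTypeModels65
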