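import Mathlib

/-!
Nonabelian 2-groups with an involutory automorphism whose fixed points form an elementary abelian
group of order `q` permuted transitively by a commuting automorphism: order `q³`, class 2, and the
squaring form in suitable coordinates.
-/

set_option autoImplicit false
set_option linter.all false

namespace Cfsg.Agent.SuzukiTypeStructure65

open Subgroup
open scoped commutatorElement

universe u

/-- A homogeneous biadditive map squares to a multiple of the product. -/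
theorem biadd_sq {F : Type} [Field F] [Finite F] [CharP F 2] (lam : F)
    (gen : ∀ t : F, t ≠ 0 → ∃ k : ℕ, lam ^ k = t) (h : F → F → F)
    (addl : ∀ a a' b, h (a + a') b = h a b + h a' b)
    (addr : ∀ a b b', h a (b + b') = h a b + h a b')
    (hom : ∀ a b, h (lam * a) (lam * b) = lam * h a b) :
    ∃ c : F, ∀ a b, h a b ^ 2 = c * (a * b) := by
  have h0l : ∀ b, h 0 b = 0 := fun b => add_eq_left.1 (show h 0 b + h 0 b = h 0 b by rw [← addl, add_zero])
  have hscale : ∀ t a b, h (t * a) (t * b) = t * h a b := by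
    intro t a b
    rcases eq_or_ne t 0 with rfl | ht
    · simp [h0l]
    obtain ⟨k, rfl⟩ := gen t ht
    clear ht
    induction k with
    | zero => simp
    | succ k ih => rw [pow_succ', mul_assoc, mul_assoc, hom, ih, mul_assoc]
  refine ⟨h 1 1 ^ 2, fun a b => CharTwo.add_eq_zero.1 ?_⟩
  have two : (2 : F) = 0 := CharTwo.two_eq_zero
  set c := h 1 1 ^ 2
  set g : F → F → F := fun a b => h a b ^ 2 + c * (a * b) with hg
  have gl : ∀ a a' b, g (a + a') b = g a b + g a' b := fun a a' b => by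
    simp only [hg, addl]; linear_combination h a b * h a' b * two
  have gr : ∀ a b b', g a (b + b') = g a b + g a b' := fun a b b' => by
    simp only [hg, addr]; linear_combination h a b * h a b' * two
  have gs : ∀ t a b, g (t * a) (t * b) = t ^ 2 * g a b := fun t a b => by
    simp only [hg, hscale]; ring
  have gz : ∀ b, g 0 b = 0 := fun b => by simp [hg, h0l]
  have gd : ∀ t, g t t = 0 := fun t => by
    have := gs t 1 1
    rw [mul_one] at this
    rw [this, show g 1 1 = c + c * (1 * 1) from rfl, one_mul, mul_one, CharTwo.add_self_eq_zero,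
      mul_zero]
  have gsym : ∀ a b, g a b = g b a := fun a b => by
    have := gd (a + b)
    rw [gl, gr, gr, gd, gd, zero_add, add_zero] at this
    exact CharTwo.add_eq_zero.1 this
  have hinvt : ∀ t, t ≠ 0 → g 1 t = t ^ 2 * g 1 t⁻¹ := fun t ht => by
    rw [← gs, mul_one, mul_inv_cancel₀ ht, gsym]
  have hsq : ∀ t, g 1 (t ^ 2) = 0 := by
    intro t
    rcases eq_or_ne t 0 with rfl | ht
    · rw [zero_pow two_ne_zero, gsym, gz]
    rcases eq_or_ne t 1 with rfl | ht1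
    · rw [one_pow, gd]
    have h1 : t + 1 ≠ 0 := fun h => ht1 (CharTwo.add_eq_zero.1 h)
    have hv : t ^ 2 + t ≠ 0 := by
      rw [show t ^ 2 + t = t * (t + 1) by ring]; exact mul_ne_zero ht h1
    have e : t⁻¹ + (t + 1)⁻¹ = (t ^ 2 + t)⁻¹ := by
      field_simp
      linear_combination t * two
    have eA := hinvt t ht
    have eB := hinvt (t + 1) h1
    have eC := hinvt (t ^ 2 + t) hv
    rw [gr, gd, add_zero] at eB
    rw [← e, gr, gr] at eC
    linear_combination eC - t ^ 2 * eB - (t + 1) ^ 2 * eA + (t ^ 2 + t) * g 1 t * two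
  have h1t : ∀ t, g 1 t = 0 := fun t => by
    obtain ⟨r, rfl⟩ := (frobeniusEquiv F 2).surjective t
    rw [frobeniusEquiv_apply, frobenius_def]
    exact hsq r
  show g a b = 0
  rcases eq_or_ne a 0 with rfl | ha
  · exact gz b
  rw [show g a b = g (a * 1) (a * (b / a)) by rw [mul_one, mul_div_cancel₀ b ha], gs, h1t, mul_zero]

theorem exists_fixed_central {Q : Type u} [Group Q] [Finite Q] [Nontrivial Q] (hQ : IsPGroup 2 Q)
    (α : Q ≃* Q) (invo : ∀ x, α (α x) = x) : ∃ z ∈ center Q, z ≠ 1 ∧ α z = z := by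
  haveI : Fact (Nat.Prime 2) := ⟨Nat.prime_two⟩
  haveI := hQ.center_nontrivial
  obtain ⟨k, hk0, hk⟩ := (hQ.to_subgroup (center Q)).nontrivial_iff_card.1 inferInstance
  obtain ⟨⟨z, hz⟩, hz2⟩ := exists_prime_orderOf_dvd_card' (G := center Q) 2
    (by rw [hk]; exact dvd_pow_self 2 hk0.ne')
  rw [Subgroup.orderOf_mk] at hz2
  have hzz : z * z = 1 := by rw [← pow_two, ← hz2, pow_orderOf_eq_one]
  have hz1 : z ≠ 1 := fun h => by rw [h, orderOf_one] at hz2; omega
  by_cases hfix : α z = z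
  · exact ⟨z, hz, hz1, hfix⟩
  have hαz : α z ∈ center Q := by
    rw [mem_center_iff] at hz ⊢
    intro g
    have h := congrArg α (hz (α g))
    rwa [map_mul, map_mul, invo] at h
  refine ⟨z * α z, mul_mem hz hαz, fun h => hfix ?_, ?_⟩
  · rw [eq_inv_of_mul_eq_one_right h, inv_eq_of_mul_eq_one_right hzz]
  · rw [map_mul, invo, mem_center_iff.1 hz (α z)]

/-- The hypotheses. -/
structure Setting (Q : Type u) [Group Q] (n : ℕ) where
  pg : IsPGroup 2 Q
  α : Q ≃* Q
  ρ : Q ≃* Q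
  invo : ∀ x, α (α x) = x
  comm : ∀ x, α (ρ x) = ρ (α x)
  C : Subgroup Q
  fix : ∀ x, x ∈ C ↔ α x = x
  sq : ∀ x ∈ C, x * x = 1
  card : Nat.card C = 2 ^ n
  two_le : 2 ≤ n
  tr : ∀ x y, x ∈ C → y ∈ C → x ≠ 1 → y ≠ 1 → ∃ k : ℕ, (⇑ρ)^[k] x = y

variable {Q : Type u} [Group Q] [Finite Q] {n : ℕ}

namespace Setting

variable (T : Setting Q n)

theorem ρ_mem {x : Q} (hx : x ∈ T.C) : T.ρ x ∈ T.C := by
  rw [T.fix] at hx ⊢
  rw [T.comm, hx]

theorem iter_mem (k : ℕ) {x : Q} (hx : x ∈ T.C) : (⇑T.ρ)^[k] x ∈ T.C := by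
  induction k with
  | zero => exact hx
  | succ k ih => rw [Function.iterate_succ_apply']; exact T.ρ_mem ih

theorem inv_eq {x : Q} (hx : x ∈ T.C) : x⁻¹ = x := inv_eq_of_mul_eq_one_right (T.sq x hx)

theorem exists_ne : ∃ c ∈ T.C, c ≠ 1 := by
  by_contra h
  push Not at h
  have h1 := T.card
  rw [(eq_bot_iff_forall _).2 h, card_bot] at h1
  have := Nat.one_lt_two_pow (n := n) (by have := T.two_le; omega)
  omega

theorem central {c : Q} (hc : c ∈ T.C) (g : Q) : Commute c g := by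
  rcases eq_or_ne c 1 with rfl | hc1
  · exact Commute.one_left g
  obtain ⟨e, he, he1⟩ := T.exists_ne
  haveI : Nontrivial Q := ⟨⟨e, 1, he1⟩⟩
  obtain ⟨z, hz, hz1, hfix⟩ := exists_fixed_central T.pg T.α T.invo
  obtain ⟨k, hk⟩ := T.tr z c ((T.fix z).2 hfix) hc hz1 hc1
  have : ∀ j, (⇑T.ρ)^[j] z ∈ center Q := by
    intro j
    induction j with
    | zero => exact hz
    | succ j ih =>
      rw [Function.iterate_succ_apply', mem_center_iff]
      intro g
      obtain ⟨g, rfl⟩ := T.ρ.surjective g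
      rw [← map_mul, ← map_mul, mem_center_iff.1 ih g]
  exact (mem_center_iff.1 (hk ▸ this k) g).symm

theorem conj_eq {c : Q} (hc : c ∈ T.C) (g : Q) : g * c * g⁻¹ = c := by
  rw [← (T.central hc g).eq, mul_inv_cancel_right]

theorem C_normal : T.C.Normal := ⟨fun c hc g => by rw [T.conj_eq hc g]; exact hc⟩

theorem comm_one {c : Q} (hc : c ∈ T.C) (g : Q) : ⁅c, g⁆ = 1 ∧ ⁅g, c⁆ = 1 :=
  ⟨commutatorElement_eq_one_iff_commute.2 (T.central hc g),
    commutatorElement_eq_one_iff_commute.2 (T.central hc g).symm⟩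

/-- The displacement. -/
def dl (x : Q) : Q := x⁻¹ * T.α x

theorem dl_mul (x y : Q) : T.dl (x * y) = y⁻¹ * T.dl x * y * T.dl y := by
  simp only [dl, map_mul]; group

theorem dl_one : T.dl 1 = 1 := by simp [dl]

theorem dl_inv (x : Q) : T.dl x⁻¹ = x * (T.dl x)⁻¹ * x⁻¹ := by
  simp only [dl, map_inv]; group

theorem α_dl (x : Q) : T.α (T.dl x) = (T.dl x)⁻¹ := by
  simp only [dl, map_mul, map_inv, T.invo, mul_inv_rev, inv_inv]

theorem dl_ρ (x : Q) : T.dl (T.ρ x) = T.ρ (T.dl x) := by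
  simp only [dl, T.comm, map_mul, map_inv]

theorem α_eq (x : Q) : T.α x = x * T.dl x := by simp [dl]

theorem dl_eq_one_iff (x : Q) : T.dl x = 1 ↔ x ∈ T.C := by
  rw [T.fix, dl, inv_mul_eq_one, eq_comm]

/-- The preimage of the fixed points of the quotient. -/
def Q2 : Subgroup Q where
  carrier := {x | T.dl x ∈ T.C}
  one_mem' := by show T.dl 1 ∈ T.C; rw [T.dl_one]; exact one_mem _
  mul_mem' := fun {x y} hx hy => by
    show T.dl (x * y) ∈ T.C
    have hx' : T.dl x ∈ T.C := hx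
    rw [T.dl_mul, mul_assoc y⁻¹, (T.central hx' y).eq, inv_mul_cancel_left]
    exact mul_mem hx' hy
  inv_mem' := fun {x} hx => by
    show T.dl x⁻¹ ∈ T.C
    rw [T.dl_inv, T.conj_eq (inv_mem hx) x]
    exact inv_mem hx

theorem mem_Q2 {x : Q} : x ∈ T.Q2 ↔ T.dl x ∈ T.C := Iff.rfl

theorem C_le_Q2 {x : Q} (hx : x ∈ T.C) : x ∈ T.Q2 := by
  rw [mem_Q2, (T.dl_eq_one_iff x).2 hx]; exact one_mem _

theorem ρ_Q2 {x : Q} (hx : x ∈ T.Q2) : T.ρ x ∈ T.Q2 := by
  rw [mem_Q2, dl_ρ]; exact T.ρ_mem hx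

theorem dl_mul_Q2 {x : Q} (hx : x ∈ T.Q2) (y : Q) : T.dl (x * y) = T.dl x * T.dl y := by
  rw [T.dl_mul, mul_assoc y⁻¹, (T.central hx y).eq, inv_mul_cancel_left]

theorem sq_mem_C {x : Q} (hx : x ∈ T.Q2) : x * x ∈ T.C := by
  rw [← T.dl_eq_one_iff, T.dl_mul_Q2 hx]
  exact T.sq _ hx

end Setting

/-- The field structure on the fixed points. -/
structure Coord (T : Setting Q n) (F : Type) [Field F] [Finite F] [CharP F 2] where
  φ : F → Q
  mem : ∀ t, φ t ∈ T.C
  add : ∀ a b, φ (a + b) = φ a * φ b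
  inj : Function.Injective φ
  surj : ∀ c ∈ T.C, ∃ t, φ t = c
  lam : F
  hρ : ∀ t, T.ρ (φ t) = φ (lam * t)
  gen : ∀ t : F, t ≠ 0 → ∃ k : ℕ, lam ^ k = t
  card : Nat.card F = 2 ^ n

set_option maxHeartbeats 1000000 in
theorem Setting.exists_coord (T : Setting Q n) :
    ∃ (F : Type) (_ : Field F) (_ : Fintype F) (_ : CharP F 2), Nonempty (Coord T F) := by
  classical
  haveI : Fact (Nat.Prime 2) := ⟨Nat.prime_two⟩
  letI : CommGroup T.C := { (inferInstance : Group T.C) with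
    mul_comm := fun a b => Subtype.ext (T.central a.2 b).eq }
  let P : AddMonoid.End (Additive T.C) :=
    AddMonoidHom.mk' (fun c => Additive.ofMul ⟨T.ρ (Additive.toMul c).1, T.ρ_mem (Additive.toMul c).2⟩)
      fun a b => Additive.toMul.injective (Subtype.ext (map_mul T.ρ _ _))
  have hP : ∀ (k : ℕ) (c : Additive T.C),
      ((Additive.toMul ((P ^ k) c)).1 : Q) = (⇑T.ρ)^[k] (Additive.toMul c).1 := by
    intro k c
    induction k with
    | zero => rfl
    | succ k ih =>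
      rw [pow_succ', Function.iterate_succ_apply', ← ih]
      rfl
  obtain ⟨e, he, he1⟩ := T.exists_ne
  set c0 : Additive T.C := Additive.ofMul ⟨e, he⟩
  have hc0 : c0 ≠ 0 := fun h => he1 (congrArg (fun c : Additive T.C => (Additive.toMul c).1) h)
  have trans : ∀ a b : Additive T.C, a ≠ 0 → b ≠ 0 → ∃ k : ℕ, (P ^ k) a = b := by
    intro a b ha hb
    have ne : ∀ {c : Additive T.C}, c ≠ 0 → (Additive.toMul c).1 ≠ (1 : Q) := fun {c} hc h =>
      hc (Additive.toMul.injective (Subtype.ext h))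
    obtain ⟨k, hk⟩ := T.tr _ _ (Additive.toMul a).2 (Additive.toMul b).2 (ne ha) (ne hb)
    exact ⟨k, Additive.toMul.injective (Subtype.ext ((hP k a).trans hk))⟩
  set R := Subring.closure ({P} : Set (AddMonoid.End (Additive T.C))) with hR
  have hcomm : ∀ r ∈ R, Commute r P := by
    intro r hr
    induction hr using Subring.closure_induction with
    | mem x hx => rw [Set.mem_singleton_iff.1 hx]
    | zero => exact Commute.zero_left P
    | one => exact Commute.one_left P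
    | add x y _ _ hx hy => exact hx.add_left hy
    | neg x _ hx => exact hx.neg_left
    | mul x y _ _ hx hy => exact hx.mul_left hy
  have mulap : ∀ (a b : AddMonoid.End (Additive T.C)) (c : Additive T.C), (a * b) c = a (b c) :=
    fun a b c => rfl
  have zeroap : ∀ c : Additive T.C, (0 : AddMonoid.End (Additive T.C)) c = 0 := fun c => rfl
  have oneap : ∀ c : Additive T.C, (1 : AddMonoid.End (Additive T.C)) c = c := fun c => rfl
  have det : ∀ r ∈ R, ∀ s ∈ R, r c0 = s c0 → r = s := by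
    intro r hr s hs hrs
    refine DFunLike.ext r s fun c => ?_
    rcases eq_or_ne c 0 with rfl | hc
    · exact (map_zero r).trans (map_zero s).symm
    obtain ⟨k, rfl⟩ := trans c0 c hc0 hc
    refine (mulap r (P ^ k) c0).symm.trans (Eq.trans ?_ (mulap s (P ^ k) c0))
    rw [((hcomm r hr).pow_right k).eq, ((hcomm s hs).pow_right k).eq, mulap, mulap, hrs]
  have hPR : P ∈ R := Subring.subset_closure (Set.mem_singleton P)
  have hpow : ∀ k : ℕ, P ^ k ∈ R := by
    intro k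
    induction k with
    | zero => rw [pow_zero]; exact one_mem R
    | succ k ih => rw [pow_succ]; exact mul_mem ih hPR
  have elems : ∀ r ∈ R, r = 0 ∨ ∃ k, r = P ^ k := by
    intro r hr
    rcases eq_or_ne (r c0) 0 with h | h
    · exact Or.inl (det r hr 0 (zero_mem R) (h.trans (zeroap c0).symm))
    · obtain ⟨k, hk⟩ := trans c0 _ hc0 h
      exact Or.inr ⟨k, det r hr _ (hpow k) hk.symm⟩
  have hfield : IsField R := by
    refine ⟨⟨0, 1, fun h => hc0 ?_⟩, fun r s => Subtype.ext ?_, fun {r} hr => ?_⟩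
    · exact (oneap c0).symm.trans ((congrArg (fun x : R => x.1 c0) h).symm.trans (zeroap c0))
    · show r.1 * s.1 = s.1 * r.1
      rcases elems r.1 r.2 with h | ⟨k, h⟩ <;> rcases elems s.1 s.2 with h' | ⟨l, h'⟩ <;>
        rw [h, h'] <;> simp [← pow_add, add_comm]
    · have h0 : r.1 c0 ≠ 0 := fun h => hr (Subtype.ext (det r.1 r.2 0 (zero_mem R) (h.trans (zeroap c0).symm)))
      obtain ⟨l, hl⟩ := trans _ c0 h0 hc0
      refine ⟨⟨P ^ l, hpow l⟩, Subtype.ext ?_⟩
      show r.1 * P ^ l = 1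
      rw [((hcomm r.1 r.2).pow_right l).eq]
      exact det _ (mul_mem (hpow l) r.2) 1 (one_mem R) ((mulap _ _ _).trans (hl.trans (oneap c0).symm))
  letI : Field R := hfield.toField
  have hbij : Function.Bijective fun r : R => r.1 c0 := by
    refine ⟨fun r s h => Subtype.ext (det r.1 r.2 s.1 s.2 h), fun c => ?_⟩
    rcases eq_or_ne c 0 with rfl | hc
    · exact ⟨0, zeroap c0⟩
    · obtain ⟨k, hk⟩ := trans c0 c hc0 hc
      exact ⟨⟨P ^ k, hpow k⟩, hk⟩
  haveI : Finite (Additive T.C) := Finite.of_equiv _ Additive.ofMul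
  haveI : Finite R := Finite.of_injective _ hbij.1
  letI : Fintype R := Fintype.ofFinite R
  have hcardR : Fintype.card R = 2 ^ n := by
    rw [← Nat.card_eq_fintype_card, Nat.card_eq_of_bijective _ hbij, ← T.card]
    exact Nat.card_congr Additive.toMul
  letI : Fintype (GaloisField 2 n) := Fintype.ofFinite _
  have hcardG : Fintype.card (GaloisField 2 n) = 2 ^ n := by
    rw [Fintype.card_eq_nat_card, GaloisField.card 2 n (by have := T.two_le; omega)]
  let e' : GaloisField 2 n ≃+* R := FiniteField.ringEquivOfCardEq (by rw [hcardG, hcardR])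
  refine ⟨GaloisField 2 n, inferInstance, inferInstance, inferInstance, ⟨{
    φ := fun t => (Additive.toMul ((e' t).1 c0)).1
    mem := fun t => (Additive.toMul ((e' t).1 c0)).2
    add := fun a b => by rw [map_add]; rfl
    inj := fun a b h => e'.injective (hbij.1 (Additive.toMul.injective (Subtype.ext h)))
    surj := fun c hc => ?_
    lam := e'.symm ⟨P, Subring.subset_closure rfl⟩
    hρ := fun t => by rw [map_mul, e'.apply_symm_apply]; rfl
    gen := fun t ht => ?_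
    card := by rw [Nat.card_eq_fintype_card, hcardG] }⟩⟩
  · obtain ⟨r, hr⟩ := hbij.2 (Additive.ofMul ⟨c, hc⟩)
    exact ⟨e'.symm r, by rw [e'.apply_symm_apply, show r.1 c0 = _ from hr]; rfl⟩
  · have hne : e' t ≠ 0 := fun h => ht (e'.injective (h.trans (map_zero e').symm))
    rcases elems _ (e' t).2 with h | ⟨k, hk⟩
    · exact absurd (Subtype.ext h) hne
    · exact ⟨k, e'.injective (Subtype.ext (by rw [map_pow, e'.apply_symm_apply, hk]; rfl))⟩

namespace Coord

variable {T : Setting Q n} {F : Type} [Field F] [Finite F] [CharP F 2] (K : Coord T F)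

/-- The coordinate of a fixed point. -/
noncomputable def val (x : Q) : F := Function.invFun K.φ x

theorem val_φ (t : F) : K.val (K.φ t) = t := Function.leftInverse_invFun K.inj t

theorem φ_val {x : Q} (hx : x ∈ T.C) : K.φ (K.val x) = x := Function.invFun_eq (K.surj x hx)

theorem val_mul {x y : Q} (hx : x ∈ T.C) (hy : y ∈ T.C) : K.val (x * y) = K.val x + K.val y := by
  conv_lhs => rw [← K.φ_val hx, ← K.φ_val hy, ← K.add, K.val_φ]

theorem φ_zero : K.φ 0 = 1 :=
  mul_eq_left.1 (show K.φ 0 * K.φ 0 = K.φ 0 by rw [← K.add, add_zero])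

theorem val_one : K.val 1 = 0 := by rw [← K.φ_zero, K.val_φ]

theorem val_eq_zero {x : Q} (hx : x ∈ T.C) (h : K.val x = 0) : x = 1 := by
  rw [← K.φ_val hx, h, K.φ_zero]

theorem val_inv {x : Q} (hx : x ∈ T.C) : K.val x⁻¹ = K.val x := by rw [T.inv_eq hx]

theorem val_ρ {x : Q} (hx : x ∈ T.C) : K.val (T.ρ x) = K.lam * K.val x := by
  conv_lhs => rw [← K.φ_val hx, K.hρ, K.val_φ]

/-- A homogeneous additive function is surjective or zero. -/
theorem surj_of {p : Q → F} {A : Subgroup Q} (hρA : ∀ a ∈ A, T.ρ a ∈ A)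
    (hpρ : ∀ a ∈ A, p (T.ρ a) = K.lam * p a) (h0 : p 1 = 0) {a₀ : Q} (ha₀ : a₀ ∈ A)
    (hne : p a₀ ≠ 0) (t : F) : ∃ a ∈ A, p a = t := by
  rcases eq_or_ne t 0 with rfl | ht
  · exact ⟨1, one_mem A, h0⟩
  obtain ⟨k, hk⟩ := K.gen (t / p a₀) (div_ne_zero ht hne)
  have : ∀ j : ℕ, ∃ a ∈ A, p a = K.lam ^ j * p a₀ := by
    intro j
    induction j with
    | zero => exact ⟨a₀, ha₀, by simp⟩
    | succ j ih =>
      obtain ⟨a, ha, e⟩ := ih
      exact ⟨T.ρ a, hρA a ha, by rw [hpρ a ha, e, pow_succ', mul_assoc]⟩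
  obtain ⟨a, ha, e⟩ := this k
  exact ⟨a, ha, by rw [e, hk, div_mul_cancel₀ t hne]⟩

theorem zero_of_add {p : Q → F} {A : Subgroup Q} (hp : ∀ a ∈ A, ∀ b ∈ A, p (a * b) = p a + p b) :
    p 1 = 0 :=
  add_eq_left.1 (show p 1 + p 1 = p 1 by rw [← hp 1 (one_mem A) 1 (one_mem A), mul_one])

/-- Biadditive equivariant functions through two coordinates. -/
theorem bilin (A B : Subgroup Q) (p r : Q → F) (g : Q → Q → F)
    (hρA : ∀ a ∈ A, T.ρ a ∈ A) (hρB : ∀ b ∈ B, T.ρ b ∈ B)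
    (hp : ∀ a ∈ A, ∀ a' ∈ A, p (a * a') = p a + p a')
    (hr : ∀ b ∈ B, ∀ b' ∈ B, r (b * b') = r b + r b')
    (hpρ : ∀ a ∈ A, p (T.ρ a) = K.lam * p a) (hrρ : ∀ b ∈ B, r (T.ρ b) = K.lam * r b)
    (hgl : ∀ a ∈ A, ∀ a' ∈ A, ∀ b ∈ B, g (a * a') b = g a b + g a' b)
    (hgr : ∀ a ∈ A, ∀ b ∈ B, ∀ b' ∈ B, g a (b * b') = g a b + g a b')
    (hgρ : ∀ a ∈ A, ∀ b ∈ B, g (T.ρ a) (T.ρ b) = K.lam * g a b)
    (hkl : ∀ a ∈ A, p a = 0 → ∀ b ∈ B, g a b = 0)
    (hkr : ∀ b ∈ B, r b = 0 → ∀ a ∈ A, g a b = 0) :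
    ∃ c : F, ∀ a ∈ A, ∀ b ∈ B, g a b ^ 2 = c * (p a * r b) := by
  classical
  by_cases hA : ∀ a ∈ A, p a = 0
  · exact ⟨0, fun a ha b hb => by rw [hkl a ha (hA a ha) b hb]; simp⟩
  by_cases hB : ∀ b ∈ B, r b = 0
  · exact ⟨0, fun a ha b hb => by rw [hkr b hb (hB b hb) a ha]; simp⟩
  push Not at hA hB
  obtain ⟨a₀, ha₀, hne⟩ := hA
  obtain ⟨b₀, hb₀, hne'⟩ := hB
  choose la hla hla' using fun t => K.surj_of hρA hpρ (zero_of_add hp) ha₀ hne t
  choose lb hlb hlb' using fun t => K.surj_of hρB hrρ (zero_of_add hr) hb₀ hne' t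
  have well : ∀ a ∈ A, ∀ b ∈ B, g a b = g (la (p a)) (lb (r b)) := by
    intro a ha b hb
    have m1 : a * (la (p a))⁻¹ ∈ A := mul_mem ha (inv_mem (hla _))
    have m2 : b * (lb (r b))⁻¹ ∈ B := mul_mem hb (inv_mem (hlb _))
    have z1 : p (a * (la (p a))⁻¹) = 0 := by
      have e := hp _ m1 _ (hla (p a))
      rw [inv_mul_cancel_right, hla'] at e
      exact add_eq_right.1 e.symm
    have z2 : r (b * (lb (r b))⁻¹) = 0 := by
      have e := hr _ m2 _ (hlb (r b))
      rw [inv_mul_cancel_right, hlb'] at e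
      exact add_eq_right.1 e.symm
    calc g a b = g (a * (la (p a))⁻¹ * la (p a)) b := by rw [inv_mul_cancel_right]
      _ = g (la (p a)) b := by rw [hgl _ m1 _ (hla _) b hb, hkl _ m1 z1 b hb, zero_add]
      _ = g (la (p a)) (b * (lb (r b))⁻¹ * lb (r b)) := by rw [inv_mul_cancel_right]
      _ = _ := by rw [hgr _ (hla _) _ m2 _ (hlb _), hkr _ m2 z2 _ (hla _), zero_add]
  obtain ⟨c, hc⟩ := biadd_sq K.lam K.gen (fun s t => g (la s) (lb t))
    (fun s s' t => by
      rw [← hgl _ (hla s) _ (hla s') _ (hlb t),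
        well (la s * la s') (mul_mem (hla _) (hla _)) _ (hlb t), hp _ (hla s) _ (hla s'), hla', hla',
        hlb'])
    (fun s t t' => by
      rw [← hgr _ (hla s) _ (hlb t) _ (hlb t'),
        well _ (hla s) (lb t * lb t') (mul_mem (hlb _) (hlb _)), hr _ (hlb t) _ (hlb t'), hlb', hlb',
        hla'])
    (fun s t => by
      rw [← hgρ _ (hla s) _ (hlb t), well _ (hρA _ (hla s)) _ (hρB _ (hlb t)), hpρ _ (hla s),
        hrρ _ (hlb t), hla', hlb'])
  exact ⟨c, fun a ha b hb => by rw [well a ha b hb]; exact hc _ _⟩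

/-- Alternating case. -/
theorem alt (A : Subgroup Q) (p : Q → F) (g : Q → Q → F) (hρA : ∀ a ∈ A, T.ρ a ∈ A)
    (hp : ∀ a ∈ A, ∀ a' ∈ A, p (a * a') = p a + p a') (hpρ : ∀ a ∈ A, p (T.ρ a) = K.lam * p a)
    (hgl : ∀ a ∈ A, ∀ a' ∈ A, ∀ b ∈ A, g (a * a') b = g a b + g a' b)
    (hgr : ∀ a ∈ A, ∀ b ∈ A, ∀ b' ∈ A, g a (b * b') = g a b + g a b')
    (hgρ : ∀ a ∈ A, ∀ b ∈ A, g (T.ρ a) (T.ρ b) = K.lam * g a b)
    (hkl : ∀ a ∈ A, p a = 0 → ∀ b ∈ A, g a b = 0) (hkr : ∀ b ∈ A, p b = 0 → ∀ a ∈ A, g a b = 0)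
    (hself : ∀ a ∈ A, g a a = 0) : ∀ a ∈ A, ∀ b ∈ A, g a b = 0 := by
  obtain ⟨c, hc⟩ := K.bilin A A p p g hρA hρA hp hp hpρ hpρ hgl hgr hgρ hkl hkr
  intro a ha b hb
  by_cases h0 : p a = 0
  · exact hkl a ha h0 b hb
  have hcz : c = 0 := by
    have := hc a ha a ha
    rw [hself a ha, zero_pow two_ne_zero, eq_comm, mul_eq_zero, mul_self_eq_zero] at this
    exact this.resolve_right h0
  have := hc a ha b hb
  rwa [hcz, zero_mul, pow_eq_zero_iff two_ne_zero] at this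

/-- The coordinate on the second layer. -/
noncomputable def pi2 (x : Q) : F := K.val (T.dl x)

theorem pi2_mul {x : Q} (hx : x ∈ T.Q2) {y : Q} (hy : y ∈ T.Q2) :
    K.pi2 (x * y) = K.pi2 x + K.pi2 y := by
  rw [pi2, T.dl_mul_Q2 hx, K.val_mul hx hy]; rfl

theorem pi2_C {x : Q} (hx : x ∈ T.C) : K.pi2 x = 0 := by
  rw [pi2, (T.dl_eq_one_iff x).2 hx, K.val_one]

theorem mem_C_of_pi2 {x : Q} (hx : x ∈ T.Q2) (h : K.pi2 x = 0) : x ∈ T.C :=
  (T.dl_eq_one_iff x).1 (K.val_eq_zero hx h)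

theorem pi2_ρ {x : Q} (hx : x ∈ T.Q2) : K.pi2 (T.ρ x) = K.lam * K.pi2 x := by
  rw [pi2, T.dl_ρ, K.val_ρ hx]; rfl

theorem pi2_inv {x : Q} (hx : x ∈ T.Q2) : K.pi2 x⁻¹ = K.pi2 x := by
  have := K.pi2_mul (inv_mem hx) hx
  rw [inv_mul_cancel, K.pi2_C (one_mem _), eq_comm, CharTwo.add_eq_zero] at this
  exact this

theorem pi2_surj (hne : T.C ≠ ⊤) (t : F) : ∃ x ∈ T.Q2, K.pi2 x = t := by
  haveI := T.C_normal
  haveI : Nontrivial (Q ⧸ T.C) := QuotientGroup.nontrivial_iff.2 hne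
  have hmap : T.C.map T.α.toMonoidHom = T.C := by
    ext x
    constructor
    · rintro ⟨c, hc, rfl⟩
      show T.α c ∈ T.C
      rw [(T.fix c).1 hc]; exact hc
    · intro hx
      exact ⟨x, hx, (T.fix x).1 hx⟩
  obtain ⟨z, -, hz1, hfix⟩ := exists_fixed_central (T.pg.to_quotient T.C)
    (QuotientGroup.congr T.C T.C T.α hmap) (fun x => by
      obtain ⟨x, rfl⟩ := QuotientGroup.mk_surjective x
      show ((T.α (T.α x) : Q) : Q ⧸ T.C) = _
      rw [T.invo])
  obtain ⟨z, rfl⟩ := QuotientGroup.mk_surjective z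
  have hzQ : z ∈ T.Q2 := by
    have h : ((T.α z : Q) : Q ⧸ T.C) = z := hfix
    exact QuotientGroup.eq.1 h.symm
  exact K.surj_of (A := T.Q2) (fun a ha => T.ρ_Q2 ha) (fun a ha => K.pi2_ρ ha)
    (K.pi2_C (one_mem _)) hzQ
    (fun h => hz1 ((QuotientGroup.eq_one_iff z).2 (K.mem_C_of_pi2 hzQ h))) t

end Coord

namespace Setting

variable (T : Setting Q n)

theorem exists_quot (hne : T.C ≠ ⊤) [T.C.Normal] :
    ∃ T' : Setting (Q ⧸ T.C) n, (∀ x : Q, (x : Q ⧸ T.C) ∈ T'.C ↔ x ∈ T.Q2) ∧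
      ∀ x : Q, T'.α x = (T.α x : Q) := by
  obtain ⟨F, _, _, _, ⟨K⟩⟩ := T.exists_coord
  have hmapα : T.C.map T.α.toMonoidHom = T.C := by
    ext x
    constructor
    · rintro ⟨c, hc, rfl⟩
      show T.α c ∈ T.C
      rw [(T.fix c).1 hc]; exact hc
    · intro hx; exact ⟨x, hx, (T.fix x).1 hx⟩
  have hmapρ : T.C.map T.ρ.toMonoidHom = T.C := by
    refine Subgroup.eq_of_le_of_card_ge ?_ (Nat.le_of_eq
      (Subgroup.card_map_of_injective T.ρ.injective).symm)
    rintro _ ⟨c, hc, rfl⟩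
    exact T.ρ_mem hc
  let π := QuotientGroup.mk' T.C
  have hmem : ∀ x : Q, (x : Q ⧸ T.C) ∈ T.Q2.map π ↔ x ∈ T.Q2 := by
    intro x
    constructor
    · rintro ⟨y, hy, e⟩
      have hc : y⁻¹ * x ∈ T.C := QuotientGroup.eq.1 e
      have := mul_mem hy (T.C_le_Q2 hc)
      rwa [mul_inv_cancel_left] at this
    · intro hx; exact ⟨x, hx, rfl⟩
  choose lift hlift hlift' using K.pi2_surj hne
  have heq : ∀ x ∈ T.Q2, ∀ y ∈ T.Q2, K.pi2 x = K.pi2 y → (x : Q ⧸ T.C) = y := by
    intro x hx y hy e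
    rw [QuotientGroup.eq]
    refine K.mem_C_of_pi2 (mul_mem (inv_mem hx) hy) ?_
    rw [K.pi2_mul (inv_mem hx) hy, K.pi2_inv hx, e, CharTwo.add_self_eq_zero]
  have hρit : ∀ (k : ℕ) (x : Q), (⇑(QuotientGroup.congr T.C T.C T.ρ hmapρ))^[k] (x : Q ⧸ T.C) =
      (((⇑T.ρ)^[k] x : Q) : Q ⧸ T.C) := by
    intro k x
    induction k with
    | zero => rfl
    | succ k ih => rw [Function.iterate_succ_apply', ih, Function.iterate_succ_apply']; rfl
  refine ⟨{
    pg := T.pg.to_quotient T.C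
    α := QuotientGroup.congr T.C T.C T.α hmapα
    ρ := QuotientGroup.congr T.C T.C T.ρ hmapρ
    invo := fun x => ?_
    comm := fun x => ?_
    C := T.Q2.map π
    fix := fun x => ?_
    sq := ?_
    card := ?_
    two_le := T.two_le
    tr := ?_ }, hmem, fun x => rfl⟩
  · obtain ⟨x, rfl⟩ := QuotientGroup.mk_surjective x
    show ((T.α (T.α x) : Q) : Q ⧸ T.C) = _
    rw [T.invo]
  · obtain ⟨x, rfl⟩ := QuotientGroup.mk_surjective x
    show ((T.α (T.ρ x) : Q) : Q ⧸ T.C) = ((T.ρ (T.α x) : Q) : Q ⧸ T.C)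
    rw [T.comm]
  · obtain ⟨x, rfl⟩ := QuotientGroup.mk_surjective x
    rw [hmem]
    show _ ↔ ((T.α x : Q) : Q ⧸ T.C) = x
    rw [T.mem_Q2, eq_comm (b := (x : Q ⧸ T.C)), QuotientGroup.eq]
    exact Iff.rfl
  · rintro _ ⟨x, hx, rfl⟩
    rw [← map_mul]
    exact (QuotientGroup.eq_one_iff _).2 (T.sq_mem_C hx)
  · rw [← K.card]
    refine (Nat.card_eq_of_bijective (fun t => (⟨π (lift t), lift t, hlift t, rfl⟩ : T.Q2.map π))
      ⟨fun a b h => ?_, ?_⟩).symm
    · have hc : (lift a)⁻¹ * lift b ∈ T.C := QuotientGroup.eq.1 (congrArg Subtype.val h)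
      have := K.pi2_C hc
      rw [K.pi2_mul (inv_mem (hlift a)) (hlift b), K.pi2_inv (hlift a), hlift', hlift',
        CharTwo.add_eq_zero] at this
      exact this
    · rintro ⟨_, x, hx, rfl⟩
      exact ⟨K.pi2 x, Subtype.ext (heq _ (hlift _) _ hx (hlift' _))⟩
  · rintro _ _ ⟨x, hx, rfl⟩ ⟨y, hy, rfl⟩ hx1 hy1
    have nx : K.pi2 x ≠ 0 := fun h => hx1 ((QuotientGroup.eq_one_iff x).2 (K.mem_C_of_pi2 hx h))
    have ny : K.pi2 y ≠ 0 := fun h => hy1 ((QuotientGroup.eq_one_iff y).2 (K.mem_C_of_pi2 hy h))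
    obtain ⟨k, hk⟩ := K.gen (K.pi2 y / K.pi2 x) (div_ne_zero ny nx)
    refine ⟨k, (hρit k x).trans (heq _ ?_ _ hy ?_)⟩
    · clear hk
      induction k with
      | zero => exact hx
      | succ k ih => rw [Function.iterate_succ_apply']; exact T.ρ_Q2 ih
    · have : ∀ j, (⇑T.ρ)^[j] x ∈ T.Q2 ∧ K.pi2 ((⇑T.ρ)^[j] x) = K.lam ^ j * K.pi2 x := by
        intro j
        induction j with
        | zero => exact ⟨hx, by simp⟩
        | succ j ih =>
          rw [Function.iterate_succ_apply']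
          exact ⟨T.ρ_Q2 ih.1, by rw [K.pi2_ρ ih.1, ih.2, pow_succ', mul_assoc]⟩
      rw [(this k).2, hk, div_mul_cancel₀ _ nx]

theorem sq_one_or {R : Type u} [Group R] [Finite R] (T' : Setting R n)
    (hab : ∀ a b : R, a * b = b * a) :
    (∀ r : R, r * r = 1) ∨
      ∃ k : ℕ, (∀ r : R, r ^ 2 ^ k ∈ T'.C) ∧ ∀ r : R, r ^ 2 ^ k = 1 → ∃ s, r = s * s := by
  classical
  by_cases h : ∀ t : R, t * t = 1 → t ∈ T'.C
  · right
    have hex : ∃ k : ℕ, ∀ r : R, r ^ 2 ^ (k + 1) = 1 := by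
      obtain ⟨m, hm⟩ := IsPGroup.iff_card.1 T'.pg
      refine ⟨m, fun r => ?_⟩
      rw [pow_succ, pow_mul, ← hm, pow_card_eq_one', one_pow]
    set k := Nat.find hex with hk
    have hk1 := Nat.find_spec hex
    have hwit : ∃ r₀ : R, r₀ ^ 2 ^ k ≠ 1 := by
      by_contra hall
      push Not at hall
      cases hkk : k with
      | zero =>
        obtain ⟨c, -, hc1⟩ := T'.exists_ne
        exact hc1 (by simpa [hkk] using hall c)
      | succ j =>
        exact Nat.find_min hex (show j < Nat.find hex by omega) (by rwa [← hkk])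
    refine ⟨k, fun r => h _ (by rw [← pow_add, ← two_mul, ← pow_succ']; exact hk1 r), ?_⟩
    letI : CommGroup R := { (inferInstance : Group R) with mul_comm := hab }
    let f : R →* T'.C := MonoidHom.mk' (fun r => ⟨r ^ 2 ^ k, h _ (by
      rw [← pow_add, ← two_mul, ← pow_succ']; exact hk1 r)⟩) fun a b => Subtype.ext (mul_pow a b _)
    let s2 : R →* R := MonoidHom.mk' (fun r => r * r) fun a b => mul_mul_mul_comm a b a b
    have hle : s2.range ≤ f.ker := by
      rintro _ ⟨s, rfl⟩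
      refine Subtype.ext ?_
      show (s * s) ^ 2 ^ k = 1
      rw [← pow_two, ← pow_mul, ← pow_succ']; exact hk1 s
    have hkerC : Nat.card s2.ker = 2 ^ n := by
      rw [← T'.card, show s2.ker = T'.C from le_antisymm (fun t ht => h t ht) fun t ht => T'.sq t ht]
    have hsurj : Function.Surjective f := by
      rintro ⟨c, hc⟩
      rcases eq_or_ne c 1 with rfl | hc1
      · exact ⟨1, map_one f⟩
      obtain ⟨r₀, hr₀⟩ := hwit
      obtain ⟨j, hj⟩ := T'.tr _ c (f r₀).2 hc hr₀ hc1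
      refine ⟨(⇑T'.ρ)^[j] r₀, Subtype.ext (Eq.trans ?_ hj)⟩
      exact (iterate_map_pow T'.ρ j r₀ (2 ^ k)).symm
    have heq : s2.range = f.ker := by
      refine Subgroup.eq_of_le_of_card_ge hle ?_
      have e1 := f.ker.card_mul_index
      rw [Subgroup.index_ker, MonoidHom.range_eq_top.2 hsurj, Subgroup.card_top, T'.card] at e1
      have e2 := s2.ker.card_mul_index
      rw [Subgroup.index_ker, hkerC] at e2
      rw [← e2, mul_comm] at e1
      exact Nat.le_of_eq (Nat.eq_of_mul_eq_mul_left (Nat.two_pow_pos n) e1)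
    intro r hr
    obtain ⟨s, hs⟩ : r ∈ s2.range := by rw [heq]; exact Subtype.ext hr
    exact ⟨s, hs.symm⟩
  · left
    push Not at h
    obtain ⟨t, ht, htC⟩ := h
    intro r₀
    by_contra hr₀
    -- find an element with square fixed and nontrivial
    obtain ⟨c, ⟨r, rfl⟩, hc1, hcfix⟩ : ∃ c : R, (∃ r, r * r = c) ∧ c ≠ 1 ∧ T'.α c = c := by
      obtain ⟨j, hj, hj1⟩ : ∃ j : R, (∃ r, r * r = j) ∧ j ≠ 1 ∧ j * j = 1 := by
        obtain ⟨m, hm⟩ := T'.pg r₀
        have hex : ∃ m, r₀ ^ 2 ^ m = 1 := ⟨m, hm⟩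
        have h2 : 2 ≤ Nat.find hex := by
          rcases hq : Nat.find hex with _ | _ | l
          · have h := Nat.find_spec hex; rw [hq] at h
            exact absurd (by rw [show r₀ = 1 by simpa using h, mul_one]) hr₀
          · have h := Nat.find_spec hex; rw [hq] at h
            exact absurd (by simpa [pow_two] using h) hr₀
          · omega
        obtain ⟨l, hl⟩ := Nat.exists_eq_add_of_le' h2
        refine ⟨r₀ ^ 2 ^ (l + 1), ⟨r₀ ^ 2 ^ l, by rw [← pow_add, ← two_mul, ← pow_succ']⟩,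
          Nat.find_min hex (by omega), ?_⟩
        rw [← pow_add, ← two_mul, ← pow_succ', show l + 1 + 1 = Nat.find hex by omega]
        exact Nat.find_spec hex
      obtain ⟨r, rfl⟩ := hj
      by_cases hfix : T'.α (r * r) = r * r
      · exact ⟨_, ⟨r, rfl⟩, hj1.1, hfix⟩
      refine ⟨r * r * T'.α (r * r), ⟨r * T'.α r, ?_⟩, fun h => hfix ?_, ?_⟩
      · rw [map_mul, mul_assoc, ← mul_assoc (T'.α r), hab (T'.α r) r]
        simp only [mul_assoc]
      · rw [eq_inv_of_mul_eq_one_right h, inv_eq_of_mul_eq_one_right hj1.2]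
      · rw [map_mul, T'.invo, hab]
    have hdd : T'.dl r * T'.dl r = 1 := by
      have e := (T'.dl_eq_one_iff _).2 ((T'.fix _).2 hcfix)
      rwa [T'.dl_mul, hab r⁻¹, mul_assoc (T'.dl r), inv_mul_cancel, mul_one] at e
    have hdC : T'.dl r ∈ T'.C := by
      rw [T'.fix, T'.α_dl, inv_eq_of_mul_eq_one_right hdd]
    have htdC : T'.dl t ∈ T'.C := by
      rw [T'.fix, T'.α_dl]
      refine inv_eq_of_mul_eq_one_right ?_
      simp only [dl]
      rw [hab t⁻¹, mul_assoc, ← mul_assoc t⁻¹, hab t⁻¹ (T'.α t), mul_assoc (T'.α t), ← mul_assoc,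
        ← map_mul, ht, map_one, one_mul, ← mul_inv_rev, ht, inv_one]
    have htd1 : T'.dl t ≠ 1 := fun h => htC ((T'.dl_eq_one_iff t).1 h)
    by_cases hrd : T'.dl r = 1
    · exact hc1 (T'.sq r ((T'.dl_eq_one_iff r).1 hrd))
    obtain ⟨j, hj⟩ := T'.tr _ _ htdC hdC htd1 hrd
    set t' := (⇑T'.ρ)^[j] t
    have ht'2 : t' * t' = 1 := by
      rw [show t' * t' = (⇑T'.ρ)^[j] (t * t) by rw [iterate_map_mul], ht, iterate_map_one]
    have ht'd : T'.dl t' = T'.dl r := by
      rw [← hj]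
      clear hj ht'2
      induction j with
      | zero => rfl
      | succ j ih => simp only [t', Function.iterate_succ_apply', T'.dl_ρ] at *; rw [ih]
    have hfixrt : r * t'⁻¹ ∈ T'.C := by
      rw [T'.fix, map_mul, map_inv, T'.α_eq r, T'.α_eq t', ht'd]
      rw [mul_inv_rev, mul_assoc, mul_inv_cancel_left]
    have := T'.sq _ hfixrt
    rw [mul_assoc, ← mul_assoc t'⁻¹, hab t'⁻¹ r, mul_assoc r, ← mul_inv_rev, ht'2, inv_one,
      mul_one] at this
    exact hc1 this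

end Setting

end Cfsg.Agent.SuzukiTypeStructure65
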