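import Cfsg.Agent.Lib.SuzukiUniq67Field
import Cfsg.Agent.Lib.SuzukiTwoGroup
import Cfsg.Agent.Lib.SuzukiTypeA
import Cfsg.Agent.Lib.AdditiveCharTwo

/-!
# Uniqueness of the Suzuki groups: coordinates for a Suzuki `2`-group with its automorphisms
-/

set_option autoImplicit false

namespace Cfsg.Agent.SuzukiUniq67

section Cocycle

variable {F : Type} [Field F] [CharP F 2]

/-- Extending a trivialisation of a symmetric cocycle by one element. -/
theorem extend_split [Finite F] (g : F → F → F) (hco : ∀ a c e, g a c + g (a + c) e = g c e + g a (c + e))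
    (hsym : ∀ a c, g a c = g c a) (hdiag : ∀ a, g a a = 0) :
    ∃ h : F → F, ∀ a c : F, g a c = h (a + c) + h a + h c := by
  classical
  let S : Set (AddSubgroup F) :=
    {V | ∃ h : F → F, ∀ x ∈ V, ∀ y ∈ V, g x y = h (x + y) + h x + h y}
  haveI : Finite (AddSubgroup F) := Finite.of_injective (fun V => (V : Set F)) SetLike.coe_injective
  have hbot : (⊥ : AddSubgroup F) ∈ S := by
    refine ⟨0, fun x hx y hy => ?_⟩
    rw [AddSubgroup.mem_bot] at hx hy
    subst hx hy
    simp [hdiag]
  obtain ⟨V, ⟨h, hh⟩, hmax⟩ := (Set.toFinite S).exists_maximal ⟨⊥, hbot⟩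
  suffices hV : ∀ v, v ∈ V from ⟨h, fun a c => hh a (hV a) c (hV c)⟩
  intro v
  by_contra hv
  let V' : AddSubgroup F :=
    { carrier := {z | z ∈ V ∨ z + v ∈ V}
      zero_mem' := Or.inl V.zero_mem
      add_mem' := by
        rintro a b (ha | ha) (hb | hb)
        · exact Or.inl (V.add_mem ha hb)
        · exact Or.inr (by simpa [add_assoc] using V.add_mem ha hb)
        · exact Or.inr (by simpa [add_right_comm] using V.add_mem ha hb)
        · exact Or.inl (by
            have := V.add_mem ha hb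
            rwa [add_add_add_comm, CharTwo.add_self_eq_zero, add_zero] at this)
      neg_mem' := by
        intro a ha
        rwa [CharTwo.neg_eq] }
  let h' : F → F := fun z => if z ∈ V then h z else h (z + v) + g (z + v) v
  have hin : ∀ x ∈ V, h' x = h x := fun x hx => if_pos hx
  have hnot : ∀ x ∈ V, x + v ∉ V := fun x hx hxv => hv (by
    have := V.add_mem hx hxv
    rwa [← add_assoc, CharTwo.add_self_eq_zero, zero_add] at this)
  have hout : ∀ x ∈ V, h' (x + v) = h x + g x v := fun x hx => by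
    simp only [h', if_neg (hnot x hx), add_assoc, CharTwo.add_self_eq_zero, add_zero]
  have hV' : V' ∈ S := by
    refine ⟨h', ?_⟩
    have hc : ∀ x ∈ V, ∀ y ∈ V, g x (y + v) = h' (x + (y + v)) + h' x + h' (y + v) := by
      intro x hx y hy
      rw [hin x hx, hout y hy, ← add_assoc x y v, hout _ (V.add_mem hx hy)]
      have e := hco x y v
      have e0 := hh x hx y hy
      grind
    intro x hx y hy
    rcases hx with hx | hx <;> rcases hy with hy | hy
    · rw [hin x hx, hin y hy, hin _ (V.add_mem hx hy)]; exact hh x hx y hy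
    · have := hc x hx _ hy
      rwa [add_assoc, CharTwo.add_self_eq_zero, add_zero] at this
    · have := hc y hy _ hx
      rw [add_assoc, CharTwo.add_self_eq_zero, add_zero, hsym] at this
      rw [this, add_comm x y]; ring
    · obtain ⟨a, ha, rfl⟩ : ∃ a ∈ V, x = a + v :=
        ⟨x + v, hx, by rw [add_assoc, CharTwo.add_self_eq_zero, add_zero]⟩
      obtain ⟨b, hb, rfl⟩ : ∃ b ∈ V, y = b + v :=
        ⟨y + v, hy, by rw [add_assoc, CharTwo.add_self_eq_zero, add_zero]⟩
      rw [show (a + v) + (b + v) = a + b by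
        rw [add_add_add_comm, CharTwo.add_self_eq_zero, add_zero],
        hin _ (V.add_mem ha hb), hout a ha, hout b hb]
      have e0 := hh a ha b hb
      have e1 := hco a v (b + v)
      have e2 := hco v v b
      have e3 := hco 0 0 b
      have e4 := hdiag v
      have e5 := hdiag 0
      have e6 := hsym v b
      rw [show v + (b + v) = b by rw [add_left_comm, CharTwo.add_self_eq_zero, add_zero]] at e1
      rw [CharTwo.add_self_eq_zero, add_comm v b] at e2
      simp only [add_zero, zero_add] at e3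
      grind
  exact hv (hmax hV' (fun z hz => Or.inl hz)
    (show v ∈ V' from Or.inr (by rw [CharTwo.add_self_eq_zero]; exact V.zero_mem)))

/-- An equivariant cocycle with diagonal `ss θ` is a `cb`. -/
theorem exists_cb [Fintype F] (hne2 : Even (Fintype.card F)) (θ : F ≃+* F)
    (f : F → F → F) (hco : ∀ a c e, f a c + f (a + c) e = f c e + f a (c + e))
    (hdiag : ∀ a, f a a = ss θ a) (heq : ∀ l a c, l ≠ 0 → f (l * a) (l * c) = ss θ l * f a c) :
    ∃ β, ∀ a c, f a c = cb θ β a c := by
  classical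
  have h2 := two_eq_zero' (F := F)
  have hf0 : ∀ a, f 0 a = 0 := fun a => by
    have e := hco 0 0 a
    have e' := hdiag 0
    simp only [add_zero, zero_add, ss_zero] at e e'
    grind
  have hcomm : ∀ a c, f a c + f c a = θ a * c + a * θ c := fun a c => by
    have e1 := hco a c (a + c)
    have e2 := hco c c a
    rw [show c + (a + c) = a by rw [add_left_comm, CharTwo.add_self_eq_zero, add_zero]] at e1
    rw [CharTwo.add_self_eq_zero, add_comm c a, hf0] at e2
    rw [hdiag, hdiag] at e1
    rw [hdiag] at e2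
    have e3 := ss_add θ a c
    grind
  let g : F → F → F := fun a c => f a c + θ a * c
  obtain ⟨h, hh⟩ := extend_split g
    (fun a c e => by have := hco a c e; simp only [g, map_add]; grind)
    (fun a c => by have := hcomm a c; simp only [g]; grind)
    (fun a => by have := hdiag a; simp only [g, ss] at this ⊢; grind)
  have hg : ∀ a c, g a c = h (a + c) + h a + h c := fun a c => hh a c
  let H : F → F := fun a => ∑ l : Fˣ, (ss θ (l : F))⁻¹ * h (l * a)
  have hgl : ∀ (l : Fˣ) a c, g (l * a) (l * c) = ss θ (l : F) * g a c := fun l a c => by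
    simp only [g, heq _ _ _ l.ne_zero, ss, map_mul]; ring
  have hH : ∀ a c, g a c = H (a + c) + H a + H c := by
    intro a c
    simp only [H, ← Finset.sum_add_distrib, ← mul_add, ← hg, mul_add, Finset.sum_add_distrib]
    rw [← Finset.sum_add_distrib, ← Finset.sum_add_distrib]
    rw [Finset.sum_congr rfl (g := fun _ => g a c) fun l _ => by
      rw [← mul_add, ← mul_add, ← hg, hgl, inv_mul_cancel_left₀ (ss_ne θ l.ne_zero)]]
    rw [Finset.sum_const, Finset.card_univ, nsmul_eq_mul, Fintype.card_units]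
    obtain ⟨k, hk⟩ := hne2
    have hpos : 0 < Fintype.card F := Fintype.card_pos
    rw [show Fintype.card F - 1 = 2 * (k - 1) + 1 by omega]
    push_cast
    rw [h2, zero_mul, zero_add, one_mul]
  have hHl : ∀ (μ : Fˣ) a, H (μ * a) = ss θ (μ : F) * H a := by
    intro μ a
    simp only [H, Finset.mul_sum]
    refine Fintype.sum_equiv (Equiv.mulRight μ) _ _ fun l => ?_
    simp only [Equiv.coe_mulRight, Units.val_mul, ss_mul, mul_inv, ← mul_assoc]
    rw [mul_comm (ss θ (μ : F)) (ss θ (l : F))⁻¹, mul_assoc (ss θ (l : F))⁻¹,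
      mul_inv_cancel₀ (ss_ne θ μ.ne_zero), mul_one]
  have h00 : h 0 = 0 := by
    have := hg 0 0
    simp only [g, hf0, map_zero, zero_mul, add_zero] at this
    rw [CharTwo.add_self_eq_zero, zero_add] at this
    exact this.symm
  have hHs : ∀ a, H a = H 1 * ss θ a := fun a => by
    rcases eq_or_ne a 0 with rfl | ha
    · simp [H, ss_zero, h00]
    · have := hHl (Units.mk0 a ha) 1
      rw [mul_one, Units.val_mk0] at this
      rw [this, mul_comm]
  refine ⟨1 + H 1, fun a c => ?_⟩
  have e := hH a c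
  rw [hHs (a + c), hHs a, hHs c, ss_add] at e
  simp only [g] at e
  simp only [cb]
  grind

end Cocycle

/-- Coordinates for a Suzuki `2`-group of order `q²`, equivariant for its automorphisms. -/
theorem exists_coord {P : Type*} [Group P] [Finite P] {K : Subgroup (MulAut P)}
    (hS : SuzukiTwo.Setup P K)
    (hcard : Nat.card P = Nat.card (Subgroup.center P) ^ 2) :
    ∃ (F : Type) (_ : Field F) (_ : Fintype F) (_ : CharP F 2) (θ : F ≃+* F) (β : F)
      (e : F × F ≃ P), Nat.card F = Nat.card (Subgroup.center P) ∧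
      (∀ x, ss θ x = 1 → x = 1) ∧ (∃ r, θ r ≠ r) ∧
      (∀ u v, e (mul θ β u v) = e u * e v) ∧
      ∀ l : F, l ≠ 0 → ∃ k ∈ K, ∀ u, k (e u) = e (kk θ l u) := by
  classical
  obtain ⟨hp, hnc, htwo, hKcyc, hreg⟩ := id hS
  have hz2 := SuzukiTwo.center_sq hS
  have hKc : ∀ k l : K, k * l = l * k := fun k l =>
    Subtype.ext (MulEquiv.ext fun x => SuzukiTwo.k_comm hS k l x)
  -- the centre
  let Z : Subgroup P := Subgroup.center P
  have hZinv : ∀ (k : K) (x : P), x ∈ Z → (k : MulAut P) x ∈ Z := fun k x hx =>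
    SuzukiTwo.mem_center_of_invol hS (SuzukiTwo.invol_map _ (hz2 x hx))
  obtain ⟨n, hn⟩ := (hp.to_subgroup Z).exists_card_eq
  have hn0 : n ≠ 0 := by
    rintro rfl
    obtain ⟨x, z, -, hx1, hx2, -⟩ := htwo
    have h1 : (⟨x, SuzukiTwo.mem_center_of_invol hS hx2⟩ : Z) = 1 := by
      have := (Nat.card_eq_one_iff_unique.1 (hn.trans (pow_zero 2))).1
      exact Subsingleton.elim _ _
    exact hx1 (congrArg Subtype.val h1)
  let _ : CommGroup Z :=
    { (inferInstance : Group Z) with
      mul_comm := fun u v => Subtype.ext (Subgroup.mem_center_iff.1 v.2 u) }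
  let actZ : K →* AddMonoid.End (Additive Z) :=
    { toFun := fun k => MonoidHom.toAdditive
        { toFun := fun z : Z => (⟨(k : MulAut P) (z : P), hZinv k z.1 z.2⟩ : Z)
          map_one' := Subtype.ext (map_one (k : MulAut P))
          map_mul' := fun z z' => Subtype.ext (map_mul (k : MulAut P) z.1 z'.1) }
      map_one' := AddMonoidHom.ext fun z => rfl
      map_mul' := fun k l => AddMonoidHom.ext fun z => rfl }
  have htop : (⊤ : Subgroup P) ≠ Z := fun h => by
    obtain ⟨x, z, hxz⟩ := hnc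
    exact hxz (Subgroup.mem_center_iff.1 (h ▸ Subgroup.mem_top x : x ∈ Z) z).symm
  have : Z.Normal := (inferInstance : (Subgroup.center P).Normal)
  obtain ⟨y, -, hyZ, hy⟩ := SuzukiTwo.exists_above hS this le_top htop
  have hy1 : y * y ≠ 1 := fun h => hyZ (SuzukiTwo.mem_center_of_invol hS h)
  have hy2 : y * y * (y * y) = 1 := hz2 _ hy.1
  obtain ⟨e, he1, he, he'⟩ := SuzukiTypeA.field_model hKc actZ (fun v w hv hw => by
      obtain ⟨k, hk, -⟩ := hreg (v.toMul : Z).1 (w.toMul : Z).1
        (fun h => hv ((Subtype.ext h : (v.toMul : Z) = 1)))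
        (hz2 _ (v.toMul : Z).2)
        (fun h => hw ((Subtype.ext h : (w.toMul : Z) = 1))) (hz2 _ (w.toMul : Z).2)
      refine ⟨k, ?_⟩
      show (_ : Z) = (w.toMul : Z)
      exact Subtype.ext hk)
    hn0 (show Nat.card (Additive Z) = 2 ^ n from hn)
    (v₀ := Additive.ofMul (⟨y * y, hy.1⟩ : Z))
    (fun h => hy1 (congrArg (fun v : Additive Z => (v.toMul : Z).1) h))
  let F := GaloisField 2 n
  let _ : Fintype F := Fintype.ofFinite F
  let i : F → P := fun x => ((e x).toMul : Z).1
  have hi : ∀ x z, i (x + z) = i x * i z := fun x z =>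
    congrArg (fun v : Additive Z => (v.toMul : Z).1) (map_add e x z)
  have hi1 : i 1 = y * y := congrArg (fun v : Additive Z => (v.toMul : Z).1) he1
  have hi0 : i 0 = 1 := congrArg (fun v : Additive Z => (v.toMul : Z).1) (map_zero e)
  have hiinj : Function.Injective i := fun x z h => e.injective (Subtype.ext h)
  have hic : ∀ x p, i x * p = p * i x := fun x p =>
    (Subgroup.mem_center_iff.1 (e x).toMul.2 p).symm
  have hirange : ∀ p ∈ Z, ∃ x, i x = p := fun p hpZ =>
    ⟨e.symm (Additive.ofMul ⟨p, hpZ⟩), congrArg (fun v : Additive Z => (v.toMul : Z).1)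
      (e.apply_symm_apply _)⟩
  have hik : ∀ k : K, ∃ c : F, c ≠ 0 ∧ ∀ x, (k : MulAut P) (i x) = i (c * x) := fun k => by
    obtain ⟨c, hc, hce⟩ := he' k
    exact ⟨c, hc, fun x => (congrArg (fun v : Additive Z => (v.toMul : Z).1) (hce x)).symm⟩
  -- the quotient
  have hcardQ : Nat.card (P ⧸ Z) = 2 ^ n := by
    have h := Z.card_eq_card_quotient_mul_card_subgroup
    rw [hcard, hn, pow_two] at h
    exact (Nat.eq_of_mul_eq_mul_right (pow_pos (by norm_num) n) h).symm
  let kk : F → P ⧸ Z := fun c =>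
    if h : c = 0 then 1 else QuotientGroup.mk' Z (((he c h).choose : MulAut P) y)
  have hsqZ : ∀ {p r : P}, QuotientGroup.mk' Z p = QuotientGroup.mk' Z r → p * p = r * r := by
    intro p r h
    obtain ⟨z, hz, rfl⟩ := (QuotientGroup.mk'_eq_mk' Z).1 h
    calc p * p = p * (p * (z * z)) := by rw [hz2 z hz, mul_one]
      _ = p * (p * z) * z := by group
      _ = p * (z * p) * z := by rw [Subgroup.mem_center_iff.1 hz p]
      _ = p * z * (p * z) := by group
  have hkk : ∀ (c : F) (h : c ≠ 0), ((he c h).choose : MulAut P) y * ((he c h).choose : MulAut P) y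
      = i c := fun c h => by
    have h1 := congrArg (fun v : Additive Z => (v.toMul : Z).1) ((he c h).choose_spec 1)
    simp only [mul_one, he1] at h1
    rw [← map_mul]
    exact h1.symm
  have hkinj : Function.Injective kk := by
    have hne : ∀ (c : F) (h : c ≠ 0),
        QuotientGroup.mk' Z (((he c h).choose : MulAut P) y) ≠ 1 := fun c h h1 => by
      have h2 := (hsqZ (r := 1) (h1.trans (map_one _).symm)).symm.trans (hkk c h)
      rw [one_mul, ← hi0] at h2
      exact h (hiinj h2).symm
    intro c c' h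
    simp only [kk] at h
    split_ifs at h with h1 h2 h2
    · exact h1.trans h2.symm
    · exact absurd h.symm (hne c' h2)
    · exact absurd h (hne c h1)
    · exact hiinj ((hkk c h1).symm.trans ((hsqZ h).trans (hkk c' h2)))
  have hksurj : ∀ w : P ⧸ Z, w ≠ 1 → ∃ k : K, w = QuotientGroup.mk' Z ((k : MulAut P) y) := by
    intro w hw
    obtain ⟨c, rfl⟩ := (hkinj.bijective_of_nat_card_le
      (by rw [hcardQ, GaloisField.card 2 n hn0])).2 w
    simp only [kk] at hw ⊢
    split_ifs at hw ⊢ with h
    · exact absurd rfl hw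
    · exact ⟨_, rfl⟩
  have hsq : ∀ p : P, p * p ∈ Z := fun p => by
    by_cases h : QuotientGroup.mk' Z p = 1
    · rw [hsqZ (h.trans (map_one _).symm), one_mul]; exact one_mem _
    · obtain ⟨k, hk⟩ := hksurj _ h
      rw [hsqZ hk, ← map_mul]
      exact hZinv k _ hy.1
  have hQsq : ∀ w : P ⧸ Z, w * w = 1 := by
    intro w
    obtain ⟨p, rfl⟩ := QuotientGroup.mk'_surjective Z w
    rw [← map_mul]
    exact (QuotientGroup.eq_one_iff _).2 (hsq p)
  let _ : CommGroup (P ⧸ Z) :=
    { (inferInstance : Group (P ⧸ Z)) with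
      mul_comm := fun v w => by
        have := hQsq (v * w)
        calc v * w = (v * w)⁻¹ := (inv_eq_of_mul_eq_one_left this).symm
          _ = w⁻¹ * v⁻¹ := mul_inv_rev v w
          _ = w * v := by rw [inv_eq_of_mul_eq_one_left (hQsq v), inv_eq_of_mul_eq_one_left (hQsq w)] }
  let actW : K →* AddMonoid.End (Additive (P ⧸ Z)) :=
    { toFun := fun k => MonoidHom.toAdditive
        (QuotientGroup.map Z Z (k : MulAut P).toMonoidHom fun x hx => hZinv k x hx)
      map_one' := AddMonoidHom.ext fun w => by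
        obtain ⟨p, hp⟩ := QuotientGroup.mk'_surjective Z w.toMul
        obtain rfl : w = Additive.ofMul (QuotientGroup.mk' Z p) := hp.symm
        rfl
      map_mul' := fun k l => AddMonoidHom.ext fun w => by
        obtain ⟨p, hp⟩ := QuotientGroup.mk'_surjective Z w.toMul
        obtain rfl : w = Additive.ofMul (QuotientGroup.mk' Z p) := hp.symm
        rfl }
  have hactW : ∀ (k : K) (p : P), actW k (Additive.ofMul (QuotientGroup.mk' Z p)) =
      Additive.ofMul (QuotientGroup.mk' Z ((k : MulAut P) p)) := fun _ _ => rfl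
  obtain ⟨f, hf1, hf, -⟩ := SuzukiTypeA.field_model hKc actW (fun v w hv hw => by
      obtain ⟨k, hk⟩ := hksurj v.toMul hv
      obtain ⟨l, hl⟩ := hksurj w.toMul hw
      refine ⟨l * k⁻¹, ?_⟩
      obtain rfl : v = Additive.ofMul (QuotientGroup.mk' Z ((k : MulAut P) y)) := hk
      obtain rfl : w = Additive.ofMul (QuotientGroup.mk' Z ((l : MulAut P) y)) := hl
      rw [hactW, ← MulAut.mul_apply, ← Subgroup.coe_mul, inv_mul_cancel_right])
    hn0 (show Nat.card (Additive (P ⧸ Z)) = 2 ^ n from hcardQ)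
    (v₀ := Additive.ofMul (QuotientGroup.mk' Z y))
    (fun h => hyZ ((QuotientGroup.eq_one_iff y).1 h))
  let π : P → F := fun p => f.symm (Additive.ofMul (QuotientGroup.mk' Z p))
  have hπ : ∀ p r, π (p * r) = π p + π r := fun p r => by
    show f.symm _ = f.symm _ + f.symm _
    rw [← map_add, map_mul]; rfl
  have hπs : Function.Surjective π := fun x => by
    obtain ⟨p, hp⟩ := QuotientGroup.mk'_surjective Z (f x).toMul
    exact ⟨p, by show f.symm _ = x; rw [hp]; exact f.symm_apply_apply x⟩
  have hker : ∀ p, π p = 0 ↔ ∃ x, i x = p := fun p => by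
    constructor
    · intro h
      exact hirange p ((QuotientGroup.eq_one_iff p).1
        (f.symm.injective (h.trans (map_zero f.symm).symm)))
    · rintro ⟨x, rfl⟩
      show f.symm _ = 0
      rw [show (QuotientGroup.mk' Z (i x)) = 1 from (QuotientGroup.eq_one_iff _).2 (e x).toMul.2]
      exact map_zero f.symm
  -- the squaring map
  choose lift hlift using hπs
  choose q hq using fun x : F => hirange _ (hsq (lift x))
  have hqπ : ∀ p, p * p = i (q (π p)) := fun p => by
    rw [hq]
    exact hsqZ (f.symm.injective (hlift (π p)).symm : _)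
  have hq1 : q 1 = 1 := hiinj (by
    rw [hi1, hqπ y]
    congr 2
    exact (f.symm_apply_eq.2 hf1.symm).symm)
  have hq0 : q 0 = 0 := hiinj (by
    rw [hi0, ← (show π 1 = 0 from (hker 1).2 ⟨0, hi0⟩), ← hqπ 1, one_mul])
  have hqmul : ∀ c x, q (c * x) = q c * q x := by
    intro c x
    rcases eq_or_ne c 0 with rfl | hc
    · rw [zero_mul, hq0, zero_mul]
    obtain ⟨k, hk⟩ := hf c hc
    obtain ⟨μ, -, hμ⟩ := hik k
    have key : ∀ x, q (c * x) = μ * q x := fun x => by
      apply hiinj
      have h1 : π ((k : MulAut P) (lift x)) = c * x := by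
        show f.symm _ = _
        rw [f.symm_apply_eq, hk, ← hactW]
        exact congrArg (actW k) (f.symm_apply_eq.1 (hlift x))
      rw [← hμ, hq x, map_mul, ← h1, ← hqπ]
    have h1 := key 1
    rw [mul_one, hq1, mul_one] at h1
    rw [key, h1]
  have hcomm : ∀ p r : P, p * r * p⁻¹ * r⁻¹ = (p * r * (p * r)) * (r * r)⁻¹ * (p * p)⁻¹ := by
    intro p r
    calc p * r * p⁻¹ * r⁻¹ = p * r * (p * ((p * p)⁻¹ * r⁻¹)) := by group
      _ = p * r * (p * (r⁻¹ * (p * p)⁻¹)) := by
        rw [Subgroup.mem_center_iff.1 (inv_mem (hsq p)) r⁻¹]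
      _ = _ := by group
  have h2F : (2 : F) = 0 := by simpa using CharP.cast_eq_zero F 2
  have hineg : ∀ x, (i x)⁻¹ = i x := fun x =>
    inv_eq_of_mul_eq_one_left (hz2 _ (e x).toMul.2)
  have hB : ∀ p r, i (q (π p + π r) + q (π p) + q (π r)) = p * r * p⁻¹ * r⁻¹ := fun p r => by
    rw [hcomm, hqπ, hqπ r, hqπ p, hπ, hineg, hineg, ← hi, ← hi]
    congr 1; ring
  have hcent : ∀ p r : P, p * r * p⁻¹ * r⁻¹ ∈ Z := fun p r => by
    rw [← hB]; exact (e _).toMul.2
  obtain ⟨s, c, hc⟩ := AdditiveCharTwo.exists_coeff_quadratic q fun x z w => by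
    have key : i (q (x + (z + w)) + q x + q (z + w)) =
        i ((q (x + z) + q x + q z) + (q (x + w) + q x + q w)) := by
      have h1 : ∀ u v, i (q (u + v) + q u + q v) = lift u * lift v * (lift u)⁻¹ * (lift v)⁻¹ :=
        fun u v => by rw [← hB, hlift, hlift]
      rw [hi (q (x + z) + q x + q z), h1 x z, h1 x w]
      have h3 := hB (lift x) (lift z * lift w)
      rw [hπ, hlift, hlift, hlift] at h3
      rw [h3]
      calc lift x * (lift z * lift w) * (lift x)⁻¹ * (lift z * lift w)⁻¹
          = (lift x * lift z * (lift x)⁻¹ * (lift z)⁻¹) *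
            (lift z * (lift x * lift w * (lift x)⁻¹ * (lift w)⁻¹) * (lift z)⁻¹) := by group
        _ = _ := by
          rw [Subgroup.mem_center_iff.1 (hcent (lift x) (lift w)) (lift z), mul_inv_cancel_right]
    have h4 := hiinj key
    rw [← add_assoc] at h4
    linear_combination h4 + (q (x + z) + q (x + w) + q z + q w + q x) * h2F
  let χ : F →* F := { toFun := q, map_one' := hq1, map_mul' := hqmul }
  let fam : (F ≃+* F) × (F ≃+* F) → (F →* F) := fun p =>
    ((p.1 : F →+* F) : F →* F) * ((p.2 : F →+* F) : F →* F)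
  obtain ⟨⟨σ, τ⟩, -, hστ⟩ : ∃ p ∈ s, fam p = χ := by
    by_contra hcon
    refine (linearIndependent_monoidHom F F).notMem_span_image
      (x := χ) (s := fam '' (s : Set ((F ≃+* F) × (F ≃+* F)))) ?_ ?_
    · rintro ⟨p, hps, hpe⟩
      exact hcon ⟨p, hps, hpe⟩
    · have : (χ : F → F) = ∑ p ∈ s, c p • (fam p : F → F) := by
        funext x
        show q x = _
        rw [hc x, Finset.sum_apply]
        rfl
      rw [this]
      exact Submodule.sum_mem _ fun p hps => Submodule.smul_mem _ _
        (Submodule.subset_span ⟨fam p, ⟨p, hps, rfl⟩, rfl⟩)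
  have hqe : ∀ x, q x = σ x * τ x := fun x => (DFunLike.congr_fun hστ x).symm
  let φ : F ≃+* F := τ.trans σ.symm
  have hqφ : ∀ x, q x = σ (x * φ x) := fun x => by
    rw [hqe, map_mul]
    exact congrArg _ (σ.apply_symm_apply (τ x)).symm
  have hone : ∀ x, x * φ x = 1 → x = 1 := by
    intro x hx
    have hx0 : x ≠ 0 := fun h => by rw [h, zero_mul] at hx; exact zero_ne_one hx
    obtain ⟨k, hk⟩ := hf x hx0
    have h1 : π ((k : MulAut P) y) = x := by
      show f.symm _ = _
      rw [f.symm_apply_eq, ← mul_one x, hk, hf1, hactW]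
    have h2 : (k : MulAut P) (y * y) = y * y := by
      rw [map_mul, hqπ, h1, hqφ, hx, map_one, hi1]
    obtain ⟨k₀, -, huniq⟩ := hreg (y * y) (y * y) hy1 hy2 hy1 hy2
    have h3 : k = 1 := (huniq k h2).trans (huniq 1 rfl).symm
    rw [h3, show (((1 : K) : MulAut P) y) = y from rfl] at h1
    rw [← h1]
    exact f.symm_apply_eq.2 hf1.symm
  -- the coordinates
  let j : F → P := fun x => i (σ x)
  have hj : ∀ x z, j (x + z) = j x * j z := fun x z => by simp only [j, map_add, hi]
  have hjinj : Function.Injective j := hiinj.comp σ.injective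
  have hj0 : j 0 = 1 := by simp only [j, map_zero, hi0]
  have hsqj : ∀ p, p * p = j (ss φ (π p)) := fun p => by
    show _ = i (σ (π p * φ (π p)))
    rw [hqπ, hqφ]
  have hπy : π y = 1 := f.symm_apply_eq.2 hf1.symm
  have hkey : ∀ (k : K) (c : F), (∀ p, π ((k : MulAut P) p) = c * π p) →
      ∀ x, (k : MulAut P) (j x) = j (ss φ c * x) := by
    intro k c hk x
    obtain ⟨μ, -, hμ⟩ := hik k
    have h1 : q c = μ := by
      apply hiinj
      have h2 := hμ 1
      rw [hi1, map_mul, hqπ, hk, hπy, mul_one, mul_one] at h2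
      exact h2
    show (k : MulAut P) (i (σ x)) = i (σ (c * φ c * x))
    rw [hμ, ← h1, hqφ, ← map_mul]
  have hkex : ∀ c : F, c ≠ 0 → ∃ k : K, ∀ p, π ((k : MulAut P) p) = c * π p := by
    intro c hc
    obtain ⟨k, hk⟩ := hf c hc
    refine ⟨k, fun p => ?_⟩
    show f.symm _ = c * f.symm _
    rw [f.symm_apply_eq, hk, f.apply_symm_apply, hactW]
  choose! kq hkq using hkex
  have hkuniq : ∀ k : K, (∀ p, π ((k : MulAut P) p) = π p) → k = 1 := by
    intro k hk
    have h2 : (k : MulAut P) (y * y) = y * y := by rw [map_mul, hqπ, hk, hqπ y]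
    obtain ⟨k₀, -, huniq⟩ := hreg (y * y) (y * y) hy1 hy2 hy1 hy2
    exact (huniq k h2).trans (huniq 1 rfl).symm
  have hkmul : ∀ c d, c ≠ 0 → d ≠ 0 → kq c * kq d = kq (c * d) := by
    intro c d hc hd
    refine (inv_mul_eq_one.1 (hkuniq ((kq (c * d))⁻¹ * (kq c * kq d)) fun p => ?_)).symm
    have hcd := mul_ne_zero hc hd
    refine mul_left_cancel₀ hcd ?_
    rw [← hkq _ hcd, Subgroup.coe_mul, MulAut.mul_apply, SuzukiTwo.apply_inv_apply,
      Subgroup.coe_mul, MulAut.mul_apply, hkq c hc, hkq d hd, mul_assoc]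
  let X : F → P := fun a => if a = 0 then 1 else (kq a : MulAut P) y
  have hπ1 : π 1 = 0 := (hker 1).2 ⟨0, hi0⟩
  have hXπ : ∀ a, π (X a) = a := fun a => by
    by_cases ha : a = 0
    · simp [X, ha, hπ1]
    · simp only [X, if_neg ha, hkq a ha, hπy, mul_one]
  have hXk : ∀ l a, l ≠ 0 → (kq l : MulAut P) (X a) = X (l * a) := fun l a hl => by
    by_cases ha : a = 0
    · simp only [X, ha, mul_zero, if_true, map_one]
    · simp only [X, if_neg ha, if_neg (mul_ne_zero hl ha), ← hkmul l a hl ha]
      rfl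
  have hπj : ∀ x, π (j x) = 0 := fun x => (hker _).2 ⟨σ x, rfl⟩
  have hπinv : ∀ p, π p⁻¹ = π p := fun p => by
    have h := hπ p⁻¹ p
    rw [inv_mul_cancel, hπ1] at h
    exact CharTwo.add_eq_zero.1 h.symm
  have hfex : ∀ a c, ∃ x, X a * X c = X (a + c) * j x := by
    intro a c
    obtain ⟨x, hx⟩ := (hker ((X (a + c))⁻¹ * (X a * X c))).1 (by
      rw [hπ, hπ, hπinv, hXπ, hXπ, hXπ, CharTwo.add_self_eq_zero])
    exact ⟨σ.symm x, by simp only [j, σ.apply_symm_apply, hx, mul_inv_cancel_left]⟩
  choose co hco' using hfex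
  have hX0 : X 0 = 1 := if_pos rfl
  have hjc : ∀ x p, j x * p = p * j x := fun x p => hic _ p
  have hcocycle : ∀ a c d, co a c + co (a + c) d = co c d + co a (c + d) := by
    intro a c d
    apply hjinj
    refine mul_left_cancel (a := X (a + c + d)) ?_
    calc X (a + c + d) * j (co a c + co (a + c) d)
        = X (a + c + d) * j (co (a + c) d) * j (co a c) := by
          rw [add_comm (co a c), hj, mul_assoc]
      _ = X (a + c) * (X d * j (co a c)) := by rw [← hco', mul_assoc]
      _ = X a * X c * X d := by rw [← hjc, ← mul_assoc, ← hco']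
      _ = X a * (X (c + d) * j (co c d)) := by rw [mul_assoc, hco']
      _ = X (a + (c + d)) * j (co a (c + d)) * j (co c d) := by rw [← mul_assoc, hco']
      _ = X (a + c + d) * j (co c d + co a (c + d)) := by
          rw [add_comm (co c d), hj, mul_assoc, add_assoc a c d]
  have hcodiag : ∀ a, co a a = ss φ a := fun a => by
    apply hjinj
    have h := hco' a a
    rw [CharTwo.add_self_eq_zero, hX0, one_mul, hsqj, hXπ] at h
    exact h.symm
  have hcoeq : ∀ l a c, l ≠ 0 → co (l * a) (l * c) = ss φ l * co a c := by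
    intro l a c hl
    apply hjinj
    have h := congrArg (kq l : MulAut P) (hco' a c)
    rw [map_mul, map_mul, hXk l a hl, hXk l c hl, hXk l _ hl, hkey (kq l) l (hkq l hl),
      hco' (l * a) (l * c), mul_add l a c] at h
    exact mul_left_cancel h
  have hFcard : Fintype.card F = 2 ^ n := by
    rw [← Nat.card_eq_fintype_card, GaloisField.card 2 n hn0]
  obtain ⟨β, hβ⟩ := exists_cb (by rw [hFcard, Nat.even_pow]; exact ⟨even_two, hn0⟩) φ co hcocycle
    hcodiag hcoeq
  let E : F × F → P := fun u => X u.1 * j u.2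
  have hπE : ∀ u, π (E u) = u.1 := fun u => by
    show π (X u.1 * j u.2) = _
    rw [hπ, hXπ, hπj, add_zero]
  have hEinj : Function.Injective E := by
    intro u v h
    have h1 : u.1 = v.1 := by rw [← hπE u, ← hπE v, h]
    refine Prod.ext h1 (hjinj ?_)
    simp only [E, h1] at h
    exact mul_left_cancel h
  have hEsurj : Function.Surjective E := fun p => by
    obtain ⟨x, hx⟩ := (hker ((X (π p))⁻¹ * p)).1 (by
      rw [hπ, hπinv, hXπ, CharTwo.add_self_eq_zero])
    exact ⟨(π p, σ.symm x), by simp only [E, j, σ.apply_symm_apply, hx, mul_inv_cancel_left]⟩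
  have hEmul : ∀ u v, E (mul φ β u v) = E u * E v := fun u v => by
    show X (u.1 + v.1) * j (u.2 + v.2 + cb φ β u.1 v.1) = X u.1 * j u.2 * (X v.1 * j v.2)
    rw [← hβ, hj, hj]
    calc X (u.1 + v.1) * (j u.2 * j v.2 * j (co u.1 v.1))
        = X (u.1 + v.1) * j (co u.1 v.1) * (j u.2 * j v.2) := by rw [← hjc (co u.1 v.1) (j u.2 * j v.2), ← mul_assoc]
      _ = X u.1 * (X v.1 * j u.2) * j v.2 := by rw [← hco']; simp only [mul_assoc]
      _ = _ := by rw [← hjc u.2 (X v.1)]; simp only [mul_assoc]
  refine ⟨F, inferInstance, inferInstance, inferInstance, φ, β, Equiv.ofBijective E ⟨hEinj, hEsurj⟩,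
    ?_, hone, ?_, hEmul, fun l hl => ⟨kq l, (kq l).2, fun u => ?_⟩⟩
  · rw [GaloisField.card 2 n hn0]
    exact hn.symm
  · by_contra! hid
    obtain ⟨p, r, hpr⟩ := hnc
    obtain ⟨u, rfl⟩ := hEsurj p
    obtain ⟨v, rfl⟩ := hEsurj r
    apply hpr
    rw [← hEmul, ← hEmul]
    congr 1
    simp only [mul, cb, hid]
    exact Prod.ext (add_comm _ _) (by ring)
  · show (kq l : MulAut P) (X u.1 * j u.2) = X (l * u.1) * j (ss φ l * u.2)
    rw [map_mul, hXk l _ hl, hkey (kq l) l (hkq l hl)]

end Cfsg.Agent.SuzukiUniq67
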