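import Cfsg.Agent.Lib.SuzukiUniq67Poly

/-!
# Uniqueness of the Suzuki groups: the permutation `f` of the swapping involution

`f` is the action of the involution `w` on `F × F` minus the origin.  Its axioms determine it, and
force the multiplication of `F × F` to be that of the Suzuki groups.
-/

set_option autoImplicit false

namespace Cfsg.Agent.SuzukiUniq67

variable {F : Type*} [Field F]

/-- `x * θ x`. -/
def ss (θ : F ≃+* F) (x : F) : F := x * θ x

/-- The cocycle. -/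
def cb (θ : F ≃+* F) (β a c : F) : F := β * θ a * c + (1 + β) * a * θ c

/-- The multiplication of the kernel. -/
def mul (θ : F ≃+* F) (β : F) (u v : F × F) : F × F :=
  (u.1 + v.1, u.2 + v.2 + cb θ β u.1 v.1)

/-- The torus action. -/
def kk (θ : F ≃+* F) (l : F) (u : F × F) : F × F := (l * u.1, ss θ l * u.2)

theorem ss_mul (θ : F ≃+* F) (x y : F) : ss θ (x * y) = ss θ x * ss θ y := by
  simp only [ss, map_mul]; ring

theorem ss_one (θ : F ≃+* F) : ss θ 1 = 1 := by simp [ss]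

theorem ss_zero (θ : F ≃+* F) : ss θ 0 = 0 := by simp [ss]

theorem ss_ne (θ : F ≃+* F) {x : F} (hx : x ≠ 0) : ss θ x ≠ 0 :=
  mul_ne_zero hx ((map_ne_zero_iff _ θ.injective).2 hx)

theorem ss_inv (θ : F ≃+* F) (x : F) : ss θ x⁻¹ = (ss θ x)⁻¹ := by
  simp only [ss, map_inv₀, mul_inv]

theorem ss_div (θ : F ≃+* F) (x y : F) : ss θ (x / y) = ss θ x / ss θ y := by
  rw [div_eq_mul_inv, ss_mul, ss_inv, ← div_eq_mul_inv]

theorem ss_add (θ : F ≃+* F) (x y : F) : ss θ (x + y) = ss θ x + x * θ y + y * θ x + ss θ y := by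
  simp only [ss, map_add]; ring

theorem cb_zero_left (θ : F ≃+* F) (β c : F) : cb θ β 0 c = 0 := by simp [cb]

theorem cb_zero_right (θ : F ≃+* F) (β a : F) : cb θ β a 0 = 0 := by simp [cb]

theorem cb_self [CharP F 2] (θ : F ≃+* F) (β a : F) : cb θ β a a = ss θ a := by
  have h2 := two_eq_zero' (F := F)
  simp only [cb, ss]
  linear_combination (β * a * θ a) * h2

theorem cb_scale (θ : F ≃+* F) (β l a c : F) :
    cb θ β (l * a) (l * c) = ss θ l * cb θ β a c := by
  simp only [cb, ss, map_mul]; ring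

theorem kk_mul (θ : F ≃+* F) (β l : F) (u v : F × F) :
    kk θ l (mul θ β u v) = mul θ β (kk θ l u) (kk θ l v) := by
  refine Prod.ext (mul_add _ _ _) ?_
  simp only [kk, mul, cb_scale]
  ring

theorem kk_kk (θ : F ≃+* F) (l l' : F) (u : F × F) : kk θ l (kk θ l' u) = kk θ (l * l') u := by
  simp only [kk, ss_mul, mul_assoc]

theorem kk_one (θ : F ≃+* F) (u : F × F) : kk θ 1 u = u := by simp [kk, ss_one]

theorem mul_zero' (θ : F ≃+* F) (β : F) (u : F × F) : mul θ β u 0 = u := by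
  simp [mul, cb_zero_right]

theorem zero_mul' (θ : F ≃+* F) (β : F) (u : F × F) : mul θ β 0 u = u := by
  simp [mul, cb_zero_left]

theorem mul_assoc' (θ : F ≃+* F) (β : F) (u v w : F × F) :
    mul θ β (mul θ β u v) w = mul θ β u (mul θ β v w) := by
  refine Prod.ext (add_assoc _ _ _) ?_
  simp only [mul, cb, map_add]
  ring

/-- The kernel condition: `x ↦ x * θ x` has trivial kernel, and there is no cube root of unity. -/
structure Good (θ : F ≃+* F) : Prop where
  inj : ∀ x : F, ss θ x = 1 → x = 1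
  nocube : ∀ x : F, x * x + x + 1 ≠ 0

theorem Good.ss_injective {θ : F ≃+* F} (h : Good θ) {x y : F} (e : ss θ x = ss θ y) : x = y := by
  rcases eq_or_ne y 0 with rfl | hy
  · by_contra hx
    rw [ss_zero] at e
    exact ss_ne θ hx e
  · exact eq_of_div_eq_one (h.inj _ (by rw [ss_div, e, div_self (ss_ne θ hy)]))

theorem Good.exists_ss [Finite F] {θ : F ≃+* F} (h : Good θ) (e : F) : ∃ r : F, ss θ r = e :=
  (Finite.injective_iff_surjective.1 fun _ _ h' => h.ss_injective h') e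

/-- The properties of the permutation `f`. -/
structure Sys (θ : F ≃+* F) (β : F) (f : F × F → F × F) : Prop where
  f_zero : f 0 = 0
  ne : ∀ y, y ≠ 0 → f y ≠ 0
  invol : ∀ y, f (f y) = y
  equiv : ∀ (l : F) (y : F × F), l ≠ 0 → f (kk θ l y) = kk θ l⁻¹ (f y)
  f_z : f (0, 1) = (1, 0)
  f_P : f (1, 1) = (1, 1)
  rel : ∀ y, y ≠ 0 → y ≠ (1, 0) →
    f (mul θ β (0, 1) (f y)) = mul θ β (1, 0) (f (mul θ β (1, 1) y))

namespace Sys

variable [CharP F 2] {θ : F ≃+* F} {β : F} {f : F × F → F × F} (h : Sys θ β f)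
include h

theorem f_X : f (1, 0) = (0, 1) := by rw [← h.f_z, h.invol]

theorem f_line {r : F} (hr : r ≠ 0) : f (r, 0) = (0, (ss θ r)⁻¹) := by
  have := h.equiv r (1, 0) hr
  rw [h.f_X] at this
  simpa [kk, ss_inv] using this

theorem f_centre {r : F} (hr : r ≠ 0) : f (0, ss θ r) = (r⁻¹, 0) := by
  have := h.equiv r (0, 1) hr
  rw [h.f_z] at this
  simpa [kk] using this

theorem f_first {a : F} (ha : a ≠ 0) (b : F) : f (a, b) = kk θ a⁻¹ (f (1, b / ss θ a)) := by
  rw [← h.equiv a _ ha]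
  congr 1
  simp [kk, mul_div_cancel₀, ss_ne θ ha]

/-- The recursion for `b ↦ f (1, b)`. -/
theorem recursion {x : F} (hx : x ≠ 0) :
    f (1, ss θ x) = mul θ β (x⁻¹, 0) (kk θ x⁻¹ (f (1, 1 + ss θ x))) := by
  have hy : ((0, ss θ x) : F × F) ≠ 0 := fun e => ss_ne θ hx (congrArg Prod.snd e)
  have hy' : ((0, ss θ x) : F × F) ≠ (1, 0) := fun e => zero_ne_one (congrArg Prod.fst e)
  have hrel := h.rel _ hy hy'
  rw [h.f_centre hx] at hrel
  have e1 : mul θ β (0, 1) (x⁻¹, (0 : F)) = kk θ x⁻¹ (1, ss θ x) := by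
    simp [mul, kk, cb_zero_left, ss_inv, inv_mul_cancel₀ (ss_ne θ hx)]
  have e2 : mul θ β (1, 1) ((0 : F), ss θ x) = (1, 1 + ss θ x) := by
    simp [mul, cb_zero_right]
  rw [e1, e2, h.equiv _ _ (inv_ne_zero hx), inv_inv] at hrel
  have e3 : f (1, ss θ x) = kk θ x⁻¹ (kk θ x (f (1, ss θ x))) := by
    rw [kk_kk, inv_mul_cancel₀ hx, kk_one]
  rw [e3, hrel, kk_mul]
  simp [kk]

/-- The second relation, for `y = (t, 0)`. -/
theorem second (hg : Good θ) [Finite F] {t : F} (ht : t ≠ 0) (ht1 : t ≠ 1) :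
    ∃ u, ss θ u * (1 + ss θ t) = ss θ t ∧
      f (1 + t, 1 + cb θ β 1 t) = (1 + u, 1 + cb θ β 1 u) := by
  have hy : ((t, 0) : F × F) ≠ 0 := fun e => ht (congrArg Prod.fst e)
  have hy' : ((t, 0) : F × F) ≠ (1, 0) := fun e => ht1 (congrArg Prod.fst e)
  have hrel := h.rel _ hy hy'
  rw [h.f_line ht] at hrel
  have hst := ss_ne θ ht
  have e1 : mul θ β (0, 1) ((0 : F), (ss θ t)⁻¹) = (0, 1 + (ss θ t)⁻¹) := by
    simp [mul, cb_zero_left]
  have he : (1 : F) + (ss θ t)⁻¹ ≠ 0 := by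
    rw [Ne, CharTwo.add_eq_zero, eq_comm, inv_eq_one]
    exact fun e => ht1 (hg.inj t e)
  obtain ⟨r, hr⟩ := hg.exists_ss (1 + (ss θ t)⁻¹)
  have hr0 : r ≠ 0 := fun e => he (by rw [← hr, e, ss_zero])
  rw [e1, ← hr, h.f_centre hr0] at hrel
  have e2 : mul θ β (1, 1) (t, (0 : F)) = (1 + t, 1 + cb θ β 1 t) := by simp [mul]
  rw [e2] at hrel
  refine ⟨r⁻¹, ?_, ?_⟩
  · rw [ss_inv, hr]
    have hne : (1 : F) + ss θ t ≠ 0 := by
      rw [Ne, CharTwo.add_eq_zero, eq_comm]
      exact fun e => ht1 (hg.inj t e)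
    rw [show (1 : F) + (ss θ t)⁻¹ = (1 + ss θ t) / ss θ t by field_simp; ring, inv_div,
      div_mul_cancel₀ _ hne]
  · have e3 := congrArg (mul θ β (1, 1)) hrel
    rw [← mul_assoc', show mul θ β (1, 1) ((1 : F), (0 : F)) = 0 by
      simp [mul, cb_self, ss_one, CharTwo.add_self_eq_zero], zero_mul'] at e3
    rw [← e3]
    simp [mul]

theorem second_first (hg : Good θ) [Finite F] {t : F} (ht : t ≠ 0) (ht1 : t ≠ 1) :
    ∃ u, ss θ u * (1 + ss θ t) = ss θ t ∧ u ≠ 0 ∧ u ≠ 1 ∧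
      (1 + β * t + (1 + β) * θ t) / ss θ (1 + t) ≠ 0 ∧
      (f (1, (1 + β * t + (1 + β) * θ t) / ss θ (1 + t))).1 = (1 + t) * (1 + u) := by
  obtain ⟨u, hu, hf⟩ := h.second hg ht ht1
  have h1t : (1 : F) + t ≠ 0 := by rw [Ne, CharTwo.add_eq_zero]; exact Ne.symm ht1
  have hst := ss_ne θ ht
  have hu0 : u ≠ 0 := fun e => by rw [e, ss_zero, zero_mul] at hu; exact hst hu.symm
  have hu1 : u ≠ 1 := fun e => by
    rw [e, ss_one, one_mul] at hu
    exact one_ne_zero (by simpa using hu : (1 : F) = 0)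
  have hcb : cb θ β 1 t = β * t + (1 + β) * θ t := by simp [cb]
  rw [hcb, ← add_assoc, h.f_first h1t] at hf
  have hfst : (1 + t)⁻¹ * (f (1, (1 + β * t + (1 + β) * θ t) / ss θ (1 + t))).1 = 1 + u :=
    congrArg Prod.fst hf
  have hval : (f (1, (1 + β * t + (1 + β) * θ t) / ss θ (1 + t))).1 = (1 + t) * (1 + u) := by
    rw [← hfst, mul_inv_cancel_left₀ h1t]
  refine ⟨u, hu, hu0, hu1, fun e => ?_, hval⟩
  rw [e, h.f_X] at hval
  refine mul_ne_zero h1t ?_ hval.symm
  rw [Ne, CharTwo.add_eq_zero]; exact Ne.symm hu1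

theorem swap_arg (β' t : F) (ht : t ≠ 0) :
    (1 + β' * t⁻¹ + (1 + β') * θ t⁻¹) / ss θ (1 + t⁻¹) =
      (ss θ t + β' * θ t + (1 + β') * t) / ss θ (1 + t) := by
  have hθ : θ t ≠ 0 := (map_ne_zero_iff _ θ.injective).2 ht
  have e : ss θ (1 + t⁻¹) = ss θ (1 + t) / ss θ t := by
    rw [← ss_div]; congr 1; field_simp; ring_nf
  rw [e, map_inv₀, div_div_eq_mul_div]
  simp only [ss]
  congr 1
  field_simp

theorem one_add_arg (t : F) (h1t : ss θ (1 + t) ≠ 0) :
    1 + (1 + β * t + (1 + β) * θ t) / ss θ (1 + t) =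
      (ss θ t + β * θ t + (1 + β) * t) / ss θ (1 + t) := by
  have h2 := two_eq_zero' (F := F)
  rw [one_add_div h1t]
  congr 1
  simp only [ss, map_add, map_one]
  grind

/-- The linear equation for `v = t / u`. -/
theorem linear (hg : Good θ) [Finite F] {t : F} (ht : t ≠ 0) (ht1 : t ≠ 1) :
    ∃ v, ss θ v = 1 + ss θ t ∧
      a₁ β t (θ t) * θ v + b₁ β t (θ t) * v = c₁ β t (θ t) ∧
      a₂ β t (θ t) * θ v + b₂ β t (θ t) * v = c₂ β t (θ t) := by
  have h2 := two_eq_zero' (F := F)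
  have hst := ss_ne θ ht
  have hθt : θ t ≠ 0 := (map_ne_zero_iff _ θ.injective).2 ht
  have key : ∀ s : F, s ≠ 0 → s ≠ 1 → ∀ u u', ss θ u * (1 + ss θ s) = ss θ s → u ≠ 0 →
      ss θ u' * (1 + ss θ s⁻¹) = ss θ s⁻¹ →
      (f (1, (1 + β * s + (1 + β) * θ s) / ss θ (1 + s))).1 = (1 + s) * (1 + u) →
      (f (1, (1 + β * s⁻¹ + (1 + β) * θ s⁻¹) / ss θ (1 + s⁻¹))).1 = (1 + s⁻¹) * (1 + u') →
      (1 + β * s + (1 + β) * θ s) / ss θ (1 + s) ≠ 0 →
      ss θ (s / u) = 1 + ss θ s ∧ u' = u / s ∧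
        Ln β s (θ s) * ss θ (s / u + s) = ss θ (s / u + 1 + s) := by
    intro s hs hs1 u u' hu hu0 hu' hf hf' hN
    have hss := ss_ne θ hs
    have h1s : (1 : F) + s ≠ 0 := by rw [Ne, CharTwo.add_eq_zero]; exact Ne.symm hs1
    have hv : ss θ (s / u) = 1 + ss θ s := by
      rw [ss_div, div_eq_iff (ss_ne θ hu0), mul_comm, hu]
    have hu'' : u' = u / s := by
      refine hg.ss_injective ?_
      have hne : (1 : F) + ss θ s⁻¹ ≠ 0 := fun e => by
        rw [e, mul_zero] at hu'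
        exact ss_ne θ (inv_ne_zero hs) hu'.symm
      refine mul_right_cancel₀ hne (hu'.trans ?_)
      rw [ss_div, ss_inv]
      field_simp
      linear_combination -hu
    refine ⟨hv, hu'', ?_⟩
    set b := (1 + β * s + (1 + β) * θ s) / ss θ (1 + s) with hb
    obtain ⟨x, hx⟩ := hg.exists_ss b
    have hx0 : x ≠ 0 := fun e => hN (by rw [← hx, e, ss_zero])
    rw [← hx, h.recursion hx0, hx] at hf
    have h1b : 1 + b = (1 + β * s⁻¹ + (1 + β) * θ s⁻¹) / ss θ (1 + s⁻¹) := by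
      rw [hb, h.swap_arg β s hs, h.one_add_arg s (ss_ne θ h1s)]
    rw [h1b] at hf
    simp only [mul, kk, hf', hu''] at hf
    have hq : (s / u + 1 + s) / (s * (s / u)) = 1 + (1 + s⁻¹) * (1 + u / s) := by
      field_simp
      grind
    have hp : (1 + s) * (1 + u) = x⁻¹ * ((s / u + 1 + s) / (s * (s / u))) := by
      rw [← hf, hq]; ring
    have hp' := congrArg (ss θ) hp
    rw [ss_mul, ss_mul, ss_inv, hx, ss_div, ss_mul θ s] at hp'
    have hvne : ss θ (s / u) ≠ 0 := ss_ne θ (div_ne_zero hs hu0)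
    have e1u : 1 + u = (s / u + s) / (s / u) := by field_simp
    rw [e1u, ss_div, hb] at hp'
    simp only [Ln]
    rw [show s * θ s = ss θ s from rfl]
    rw [hb] at hN
    have hN1 := (div_ne_zero_iff.1 hN).1
    generalize ss θ (s / u + s) = A at hp' ⊢
    generalize ss θ (s / u + 1 + s) = C at hp' ⊢
    generalize ss θ (s / u) = V at hp' hvne
    generalize 1 + β * s + (1 + β) * θ s = N₁ at hp' hN1 ⊢
    have hP := ss_ne θ h1s
    generalize ss θ (1 + s) = P at hp' hP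
    generalize ss θ s = S₀ at hp' hss ⊢
    field_simp at hp'
    linear_combination hp'
  obtain ⟨u, hu, hu0, -, hN, hf⟩ := h.second_first hg ht ht1
  have hti : t⁻¹ ≠ 1 := fun e => ht1 (by rwa [inv_eq_one] at e)
  obtain ⟨u', hu', hu0', -, hN', hf'⟩ := h.second_first hg (inv_ne_zero ht) hti
  obtain ⟨hv, hu'', E1⟩ := key t ht ht1 u u' hu hu0 hu' hf hf' hN
  obtain ⟨-, -, E2⟩ := key t⁻¹ (inv_ne_zero ht) hti u' u hu' hu0' (by rwa [inv_inv]) hf'
    (by rwa [inv_inv]) hN'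
  rw [hu'', show t⁻¹ / (u / t) = t / u / t by field_simp] at E2
  generalize t / u = v at hv E1 E2
  refine ⟨v, hv, ?_, ?_⟩
  · simp only [ss, map_add, map_one] at hv E1
    simp only [a₁, b₁, c₁]
    grind
  · simp only [ss, map_add, map_one, map_div₀, map_inv₀] at hv E2
    simp only [a₂, b₂, c₂, Mn]
    simp only [Ln, map_inv₀] at E2
    field_simp at E2
    grind

theorem elim_zero (hg : Good θ) [Finite F] (hb0 : β ≠ 0) (hb1 : β ≠ 1) (t : F) :
    (t + θ t) * RR β t (θ t) = 0 := by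
  rcases eq_or_ne t 0 with rfl | ht
  · simp
  rcases eq_or_ne t 1 with rfl | ht1
  · simp [CharTwo.add_self_eq_zero]
  rcases eq_or_ne (t + θ t) 0 with he | he
  · rw [he, zero_mul]
  obtain ⟨v, hv, e1, e2⟩ := h.linear hg ht ht1
  have h0 := eliminant_eq_zero e1 e2 (by rw [show v * θ v = ss θ v from rfl, hv]; rfl)
  have h1 : (1 : F) + β ≠ 0 := by rw [Ne, CharTwo.add_eq_zero]; exact Ne.symm hb1
  have h2 : (1 : F) + t ≠ 0 := by rw [Ne, CharTwo.add_eq_zero]; exact Ne.symm ht1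
  have h3 : (1 : F) + θ t ≠ 0 := by
    rw [Ne, CharTwo.add_eq_zero, eq_comm, map_eq_one_iff θ θ.injective]; exact ht1
  have hθt : θ t ≠ 0 := (map_ne_zero_iff _ θ.injective).2 ht
  rcases mul_eq_zero.1 h0 with h0 | h0
  · exact absurd h0 (mul_ne_zero (mul_ne_zero (mul_ne_zero hb0 h1)
      (mul_ne_zero (pow_ne_zero 2 ht) (pow_ne_zero 2 hθt)))
      (mul_ne_zero (mul_ne_zero h2 h3) (pow_ne_zero 2 he)))
  · rw [h0, mul_zero]

/-- For small `h` the parameter `β` lies in the prime field. -/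
theorem beta_mem (hg : Good θ) [Fintype F] {d : ℕ} (hd : ∀ x, θ x = x ^ d)
    (hsz : (2 ≤ d ∧ 5 * d + 2 < Fintype.card F) ∨ (d = 2 ∧ Fintype.card F = 8)) :
    β = 0 ∨ β = 1 := by
  by_cases hb0 : β = 0
  · exact Or.inl hb0
  refine Or.inr (by_contra fun hb1 => hb1 ?_)
  have H := h.elim_zero hg hb0 hb1
  rcases hsz with ⟨h4, hq⟩ | ⟨rfl, hq⟩
  · exact eq_one_of_RR β h4 hq fun x => by rw [← hd]; exact H x
  · obtain ⟨t, ht, ht1⟩ : ∃ t : F, t ≠ 0 ∧ t ≠ 1 := by
      classical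
      by_contra! hall
      have : (Finset.univ : Finset F).card ≤ ({0, 1} : Finset F).card :=
        Finset.card_le_card fun x _ => by
          rcases eq_or_ne x 0 with rfl | hx
          · simp
          · simp [hall x hx]
      rw [Finset.card_univ, hq] at this
      have := this.trans Finset.card_le_two
      omega
    have h8 : t ^ 8 = t := hq ▸ FiniteField.pow_card t
    have hne : t + θ t ≠ 0 := by
      rw [hd, Ne, CharTwo.add_eq_zero]
      intro e
      exact ht1 (mul_left_cancel₀ ht (by rw [← pow_two, ← e, mul_one]))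
    have := (mul_eq_zero.1 (H t)).resolve_left hne
    rw [hd] at this
    exact eq_one_of_RR_eight β t ht ht1 h8 this

omit h in
/-- For `β = 1` the automorphism squares to the Frobenius. -/
theorem theta_sq {f : F × F → F × F} (h : Sys θ 1 f) (hg : Good θ) [Finite F]
    (hne : ∃ r, θ r ≠ r) (t : F) : θ (θ t) = t ^ 2 := by
  have main : ∀ t : F, θ t ≠ t → θ (θ t) = t ^ 2 := by
    intro t hθ
    have ht : t ≠ 0 := fun e => hθ (by rw [e, map_zero])
    have ht1 : t ≠ 1 := fun e => hθ (by rw [e, map_one])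
    have hθt : θ t ≠ 0 := (map_ne_zero_iff _ θ.injective).2 ht
    obtain ⟨v, hv, e1, e2⟩ := h.linear hg ht ht1
    have hTS' : 1 + t * θ t ≠ 0 := by
      rw [Ne, CharTwo.add_eq_zero, eq_comm]
      exact fun e => ht1 (hg.inj t e)
    obtain ⟨hX, hY⟩ := solve_one e1 e2 hθt
      (by rw [Ne, CharTwo.add_eq_zero]; exact Ne.symm ht1)
      (by rw [Ne, CharTwo.add_eq_zero]; exact Ne.symm hθ) hTS'
    have hX' := congrArg θ hX
    simp only [map_mul, map_add, map_one, map_pow] at hX'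
    have h2 := two_eq_zero' (F := F)
    have key : (θ t * (1 + θ t)) * θ (θ t) = (θ t * (1 + θ t)) * t ^ 2 := by
      grind
    refine mul_left_cancel₀ (mul_ne_zero hθt ?_) key
    rw [Ne, CharTwo.add_eq_zero, eq_comm, map_eq_one_iff θ θ.injective]
    exact ht1
  by_cases hθ : θ t = t
  · obtain ⟨r, hr⟩ := hne
    have h1 := main r hr
    have h2 : θ (t + r) ≠ t + r := by rw [map_add, hθ]; exact fun e => hr (add_left_cancel e)
    have h3 := main (t + r) h2
    rw [map_add, map_add, h1] at h3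
    have h4 : (t + r) ^ 2 = t ^ 2 + r ^ 2 := CharTwo.add_sq t r
    rw [h4] at h3
    exact add_right_cancel h3
  · exact main t hθ

omit h in
theorem line_eq {f f' : F × F → F × F} (h : Sys θ β f) (h' : Sys θ β f') (hg : Good θ) [Finite F]
    (b : F) : f (1, b) = f' (1, b) := by
  rcases eq_or_ne b 0 with rfl | hb
  · rw [h.f_X, h'.f_X]
  rcases eq_or_ne b 1 with rfl | hb1
  · rw [h.f_P, h'.f_P]
  obtain ⟨x, hx⟩ := hg.exists_ss b
  have hx0 : x ≠ 0 := fun e => hb (by rw [← hx, e, ss_zero])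
  obtain ⟨y, hy⟩ := hg.exists_ss (1 + b)
  have hy0 : y ≠ 0 := fun e => by
    rw [e, ss_zero, eq_comm, CharTwo.add_eq_zero] at hy
    exact hb1 hy.symm
  have r : ∀ {g : F × F → F × F}, Sys θ β g → g (1, b) = mul θ β (x⁻¹, 0) (kk θ x⁻¹
      (mul θ β (y⁻¹, 0) (kk θ y⁻¹ (g (1, b))))) := fun {g} hs => by
    conv_lhs => rw [← hx, hs.recursion hx0, hx, ← hy, hs.recursion hy0, hy, ← add_assoc,
      CharTwo.add_self_eq_zero, zero_add]
  have e1 := r h
  have e2 := r h'
  have hxy : x⁻¹ * y⁻¹ ≠ 1 := by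
    intro e
    have he := congrArg (ss θ) e
    rw [ss_mul, ss_inv, ss_inv, hx, hy, ss_one, ← mul_inv, inv_eq_one] at he
    exact hg.nocube b (by linear_combination he + two_eq_zero' (F := F))
  have h1 : (f (1, b)).1 = (f' (1, b)).1 := by
    have a1 := congrArg Prod.fst e1
    have a2 := congrArg Prod.fst e2
    simp only [mul, kk] at a1 a2
    refine mul_left_cancel₀ (sub_ne_zero.2 hxy.symm) ?_
    linear_combination a1 - a2
  refine Prod.ext h1 ?_
  have a1 := congrArg Prod.snd e1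
  have a2 := congrArg Prod.snd e2
  simp only [mul, kk] at a1 a2
  rw [h1] at a1
  have hne : 1 - ss θ x⁻¹ * ss θ y⁻¹ ≠ 0 := by
    rw [sub_ne_zero, ← ss_mul]
    exact fun e => hxy (hg.inj _ e.symm)
  refine mul_left_cancel₀ hne ?_
  linear_combination a1 - a2

omit h in
/-- The axioms determine `f`. -/
theorem unique {f f' : F × F → F × F} (h : Sys θ β f) (h' : Sys θ β f') (hg : Good θ) [Finite F] :
    f = f' := by
  funext ⟨a, b⟩
  rcases eq_or_ne a 0 with rfl | ha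
  · rcases eq_or_ne b 0 with rfl | hb
    · exact h.f_zero.trans h'.f_zero.symm
    obtain ⟨r, hr⟩ := hg.exists_ss b
    have hr0 : r ≠ 0 := fun e => hb (by rw [← hr, e, ss_zero])
    rw [← hr, h.f_centre hr0, h'.f_centre hr0]
  · rw [h.f_first ha, h'.f_first ha, line_eq h h' hg]

end Sys

end Cfsg.Agent.SuzukiUniq67
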