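import Cfsg.Agent.Lib.SuzukiUniq67Field

/-!
# Uniqueness of the Suzuki groups: coordinatised permutation groups

An `Inst` is a doubly transitive group on `Option (F × F)` whose point stabiliser consists of the
translations and the torus.  It can be normalised so that the swapping involution acts by the `f` of
`Sys`, and then all such groups coincide.
-/

set_option autoImplicit false

namespace Cfsg.Agent.SuzukiUniq67

variable {F : Type} [Field F]

universe u

/-- A coordinatised group. -/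
structure Inst (θ : F ≃+* F) (β : F) (G : Type u) [Group G] where
  φ : G →* Equiv.Perm (Option (F × F))
  inj : Function.Injective φ
  T : F × F → G
  hT : ∀ v, φ (T v) none = none ∧ ∀ x, φ (T v) (some x) = some (mul θ β v x)
  K : F → G
  hK : ∀ l, l ≠ 0 → φ (K l) none = none ∧ ∀ x, φ (K l) (some x) = some (kk θ l x)
  hB : ∀ g, φ g none = none → φ g (some 0) = some 0 → ∃ l, l ≠ 0 ∧ g = K l
  swap : ∃ w, w * w = 1 ∧ φ w none = some 0 ∧ ∀ l, l ≠ 0 → w * K l * w = K l⁻¹
  three : ∀ g : G, g ^ 3 = 1 → g = 1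

namespace Inst

variable {θ : F ≃+* F} {β : F} {G : Type u} [Group G] (I : Inst θ β G)

theorem ext' {g g' : G} (hn : I.φ g none = I.φ g' none)
    (hs : ∀ x, I.φ g (some x) = I.φ g' (some x)) : g = g' :=
  I.inj (Equiv.ext fun o => by cases o with
    | none => exact hn
    | some x => exact hs x)

theorem T_mul (u v : F × F) : I.T u * I.T v = I.T (mul θ β u v) := by
  refine I.ext' ?_ fun x => ?_
  · simp [(I.hT u).1, (I.hT v).1, (I.hT (mul θ β u v)).1]
  · simp [(I.hT u).2, (I.hT v).2, (I.hT (mul θ β u v)).2, mul_assoc']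

theorem T_zero : I.T 0 = 1 := by
  refine I.ext' ?_ fun x => ?_
  · simp [(I.hT 0).1]
  · simp [(I.hT 0).2, zero_mul']

theorem K_mul {l l' : F} (hl : l ≠ 0) (hl' : l' ≠ 0) : I.K l * I.K l' = I.K (l * l') := by
  refine I.ext' ?_ fun x => ?_
  · simp [(I.hK l hl).1, (I.hK l' hl').1, (I.hK _ (mul_ne_zero hl hl')).1]
  · simp [(I.hK l hl).2, (I.hK l' hl').2, (I.hK _ (mul_ne_zero hl hl')).2, kk_kk]

theorem K_one : I.K 1 = 1 := by
  refine I.ext' ?_ fun x => ?_
  · simp [(I.hK 1 one_ne_zero).1]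
  · simp [(I.hK 1 one_ne_zero).2, kk_one]

theorem K_T {l : F} (hl : l ≠ 0) (v : F × F) : I.K l * I.T v = I.T (kk θ l v) * I.K l := by
  refine I.ext' ?_ fun x => ?_
  · simp [(I.hK l hl).1, (I.hT v).1, (I.hT (kk θ l v)).1]
  · simp [(I.hK l hl).2, (I.hT v).2, (I.hT (kk θ l v)).2, kk_mul]

theorem T_apply_zero (v : F × F) : I.φ (I.T v) (some 0) = some v := by
  rw [(I.hT v).2, mul_zero']

theorem T_inv_apply (v : F × F) : I.φ (I.T v)⁻¹ (some v) = some 0 := by
  rw [map_inv, Equiv.Perm.inv_eq_iff_eq, I.T_apply_zero]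

/-- Change of coordinates. -/
def comap (e : F × F ≃ F × F) {θ' : F ≃+* F} {β' : F}
    (hmul : ∀ u v, e (mul θ' β' u v) = mul θ β (e u) (e v))
    (hkk : ∀ l u, e (kk θ' l u) = kk θ l (e u)) : Inst θ' β' G where
  φ := ((Equiv.optionCongr e).symm.permCongrHom).toMonoidHom.comp I.φ
  inj := ((Equiv.optionCongr e).symm.permCongrHom).injective.comp I.inj
  T v := I.T (e v)
  hT v := by
    refine ⟨?_, fun x => ?_⟩
    · simp [(I.hT (e v)).1]
    · simp [(I.hT (e v)).2, ← hmul, Equiv.symm_apply_eq]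
  K := I.K
  hK l hl := by
    refine ⟨?_, fun x => ?_⟩
    · simp [(I.hK l hl).1]
    · simp [(I.hK l hl).2, ← hkk, Equiv.symm_apply_eq]
  hB g hn hs := by
    have he : e 0 = 0 := by
      have h0 := hkk 0 0
      simp only [kk, ss_zero, zero_mul] at h0
      exact h0
    refine I.hB g ?_ ?_
    · simpa [Equiv.symm_apply_eq] using hn
    · simpa [Equiv.symm_apply_eq, he] using hs
  swap := by
    obtain ⟨w, h1, h2, h3⟩ := I.swap
    have he : e 0 = 0 := by
      have h0 := hkk 0 0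
      simp only [kk, ss_zero, zero_mul] at h0
      exact h0
    exact ⟨w, h1, by simp [h2, Equiv.symm_apply_eq, he], h3⟩
  three := I.three

/-- A swapping involution with `w z w = X w X⁻¹`, `z = (0, c)`, `X = (1, 0)`. -/
def IsGauge (w : G) (c : F) : Prop :=
  w * w = 1 ∧ I.φ w none = some 0 ∧ (∀ l, l ≠ 0 → w * I.K l * w = I.K l⁻¹) ∧
    w * I.T (0, c) * w = I.T (1, 0) * w * (I.T (1, 0))⁻¹

theorem w_zero {w : G} (h1 : w * w = 1) (h2 : I.φ w none = some 0) :
    I.φ w (some 0) = none := by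
  rw [← h2, ← Equiv.Perm.mul_apply, ← map_mul, h1, map_one, Equiv.Perm.one_apply]

theorem w_some {w : G} (h1 : w * w = 1) (h2 : I.φ w none = some 0) {v : F × F} (hv : v ≠ 0) :
    ∃ v', v' ≠ 0 ∧ I.φ w (some v) = some v' := by
  rcases h : I.φ w (some v) with _ | v'
  · exact absurd (Option.some.inj ((I.φ w).injective (h.trans (I.w_zero h1 h2).symm))) hv
  · refine ⟨v', ?_, rfl⟩
    rintro rfl
    exact absurd ((I.φ w).injective (h.trans h2.symm)) (by simp)

variable [CharP F 2]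

theorem exists_gauge_aux :
    ∃ (w : G) (x y : F), w * w = 1 ∧ I.φ w none = some 0 ∧
      (∀ l, l ≠ 0 → w * I.K l * w = I.K l⁻¹) ∧
      w * I.T (0, 1) * w = I.T (x, y) * w * (I.T (x, y))⁻¹ ∧ x ≠ 0 := by
  obtain ⟨w₀, h1, h2, h3⟩ := I.swap
  have hz0 : ((0, 1) : F × F) ≠ 0 := fun e => one_ne_zero (congrArg Prod.snd e)
  set t := w₀ * I.T (0, 1) * w₀ with ht
  obtain ⟨X₀, hX₀, hwz⟩ := I.w_some h1 h2 hz0
  have htn : I.φ t none = some X₀ := by
    rw [ht, map_mul, map_mul, Equiv.Perm.mul_apply, Equiv.Perm.mul_apply, h2, I.T_apply_zero, hwz]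
  have ht0 : I.φ t (some 0) = some 0 := by
    rw [ht, map_mul, map_mul, Equiv.Perm.mul_apply, Equiv.Perm.mul_apply, I.w_zero h1 h2,
      (I.hT _).1, h2]
  have hzz : I.T (0, 1) * I.T (0, 1) = 1 := by
    rw [I.T_mul, ← I.T_zero]
    congr 1
    simp [mul, cb_zero_left, CharTwo.add_self_eq_zero]
  have htt : t * t = 1 := by
    calc t * t = w₀ * (I.T (0, 1) * (w₀ * w₀) * I.T (0, 1)) * w₀ := by rw [ht]; group
      _ = 1 := by rw [h1, mul_one, hzz, mul_one, h1]
  set j := (I.T X₀)⁻¹ * t * I.T X₀ with hj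
  have hjn : I.φ j none = some 0 := by
    rw [hj, map_mul, map_mul, Equiv.Perm.mul_apply, Equiv.Perm.mul_apply, (I.hT _).1, htn,
      I.T_inv_apply]
  have hjj : j * j = 1 := by
    calc j * j = (I.T X₀)⁻¹ * (t * t) * I.T X₀ := by rw [hj]; group
      _ = 1 := by rw [htt, mul_one, inv_mul_cancel]
  obtain ⟨ν, hν, hνe⟩ := I.hB (w₀ * j)
    (by rw [map_mul, Equiv.Perm.mul_apply, hjn, I.w_zero h1 h2])
    (by rw [map_mul, Equiv.Perm.mul_apply, I.w_zero hjj hjn, h2])
  have hje : j = w₀ * I.K ν := by rw [← hνe, ← mul_assoc, h1, one_mul]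
  set a := ν⁻¹ with ha
  have ha0 : a ≠ 0 := inv_ne_zero hν
  have hKw : w₀ * I.K a = I.K a⁻¹ * w₀ := by
    rw [← h3 a ha0, mul_assoc _ w₀ w₀, h1, mul_one]
  set w := w₀ * I.K a with hw
  have hww : w * w = 1 := by
    calc w * w = (w₀ * I.K a * w₀) * I.K a := by rw [hw]; group
      _ = 1 := by rw [h3 a ha0, I.K_mul (inv_ne_zero ha0) ha0, inv_mul_cancel₀ ha0, I.K_one]
  have hwn : I.φ w none = some 0 := by
    rw [hw, map_mul, Equiv.Perm.mul_apply, (I.hK a ha0).1, h2]
  have hwK : ∀ l, l ≠ 0 → w * I.K l * w = I.K l⁻¹ := by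
    intro l hl
    calc w * I.K l * w = (w₀ * (I.K a * I.K l) * w₀) * I.K a := by rw [hw]; group
      _ = I.K l⁻¹ := by
        rw [I.K_mul ha0 hl, h3 _ (mul_ne_zero ha0 hl),
          I.K_mul (inv_ne_zero (mul_ne_zero ha0 hl)) ha0]
        congr 1; field_simp
  set X := kk θ a⁻¹ X₀ with hX
  have hrel : w * I.T (0, 1) * w = I.T X * w * (I.T X)⁻¹ := by
    have e1 : w * I.T (0, 1) * w = I.K a⁻¹ * t * I.K a := by
      calc w * I.T (0, 1) * w = (I.K a⁻¹ * w₀) * I.T (0, 1) * (w₀ * I.K a) := by rw [← hKw, hw]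
        _ = I.K a⁻¹ * t * I.K a := by rw [ht]; group
    have e2 : I.K a⁻¹ * I.K a = 1 := by
      rw [I.K_mul (inv_ne_zero ha0) ha0, inv_mul_cancel₀ ha0, I.K_one]
    have e3 : I.K a⁻¹ * I.T X₀ = I.T X * I.K a⁻¹ := I.K_T (inv_ne_zero ha0) X₀
    have e4 : I.K a⁻¹ * j * I.K a = w := by
      calc I.K a⁻¹ * j * I.K a = (I.K a⁻¹ * w₀) * (I.K ν * I.K a) := by rw [hje]; group
        _ = w := by rw [← hKw, I.K_mul hν ha0, ha, mul_inv_cancel₀ hν, I.K_one, mul_one, hw, ha]
    rw [e1, ← e4, show t = I.T X₀ * j * (I.T X₀)⁻¹ by rw [hj]; group]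
    calc I.K a⁻¹ * (I.T X₀ * j * (I.T X₀)⁻¹) * I.K a
        = (I.K a⁻¹ * I.T X₀) * j * (I.T X₀)⁻¹ * I.K a := by group
      _ = I.T X * I.K a⁻¹ * j * (I.T X₀)⁻¹ * ((I.K a⁻¹)⁻¹) := by
        rw [e3, inv_eq_of_mul_eq_one_right e2]
      _ = I.T X * (I.K a⁻¹ * j) * (I.K a⁻¹ * I.T X₀)⁻¹ := by group
      _ = I.T X * (I.K a⁻¹ * j) * (I.T X * I.K a⁻¹)⁻¹ := by rw [e3]
      _ = I.T X * (I.K a⁻¹ * j * (I.K a⁻¹)⁻¹) * (I.T X)⁻¹ := by group
      _ = _ := by rw [inv_eq_of_mul_eq_one_right e2]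
  refine ⟨w, X.1, X.2, hww, hwn, hwK, hrel, fun hx => ?_⟩
  -- an involution `X` would give an element of order three
  have hXX : I.T X * I.T X = 1 := by
    rw [I.T_mul, ← I.T_zero]
    congr 1
    simp [mul, hx, cb_zero_left, CharTwo.add_self_eq_zero]
  have hwX : I.φ w (some X) = some X := by
    have h := congrArg (fun g => I.φ g (some 0)) hrel
    simp only [map_mul, Equiv.Perm.mul_apply, I.w_zero hww hwn, (I.hT _).1, hwn,
      inv_eq_of_mul_eq_one_right hXX] at h
    rw [I.T_apply_zero] at h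
    have h' := congrArg (I.φ (I.T X)) h.symm
    rw [← Equiv.Perm.mul_apply, ← map_mul, hXX, map_one, Equiv.Perm.one_apply,
      I.T_apply_zero] at h'
    exact h'
  have hwzX : I.φ w (some (0, 1)) = some X := by
    have h := congrArg (fun g => I.φ g none) hrel
    simp only [map_mul, map_inv, Equiv.Perm.mul_apply, hwn, I.T_apply_zero] at h
    rw [h, Equiv.Perm.inv_eq_iff_eq.2 (I.hT X).1.symm, hwn, I.T_apply_zero]
  have hXz : X = (0, 1) := Option.some.inj ((I.φ w).injective (hwX.trans hwzX.symm))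
  rw [hXz, inv_eq_of_mul_eq_one_right hzz] at hrel
  have h3 : (w * I.T (0, 1)) ^ 3 = 1 := by
    calc (w * I.T (0, 1)) ^ 3 = (w * I.T (0, 1) * w) * (I.T (0, 1) * w * I.T (0, 1)) := by
          rw [pow_succ, pow_two]; group
      _ = (w * I.T (0, 1) * w) * (w * I.T (0, 1) * w) := by rw [← hrel]
      _ = w * (I.T (0, 1) * (w * w) * I.T (0, 1)) * w := by group
      _ = 1 := by rw [hww, mul_one, hzz, mul_one, hww]
  have h4 := congrArg (fun g => I.φ g none) (I.three _ h3)
  simp only [map_mul, Equiv.Perm.mul_apply, (I.hT _).1, hwn, map_one, Equiv.Perm.one_apply] at h4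
  exact absurd h4 (by simp)

theorem exists_gauge (I : Inst θ β G) : ∃ (β' c : F) (I' : Inst θ β' G) (w : G), c ≠ 0 ∧ I'.IsGauge w c := by
  obtain ⟨w, x, y, h1, h2, h3, h4, hx⟩ := I.exists_gauge_aux
  have hsx := ss_ne θ hx
  let e : F × F ≃ F × F :=
    { toFun := fun p => (x * p.1, ss θ x * p.2 + y * ss θ p.1)
      invFun := fun p => (p.1 / x, (p.2 + y * ss θ (p.1 / x)) / ss θ x)
      left_inv := fun p => by
        have : x * p.1 / x = p.1 := by field_simp
        ext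
        · exact this
        · simp only [this, add_assoc, CharTwo.add_self_eq_zero, add_zero]
          field_simp
      right_inv := fun p => by
        ext
        · show x * (p.1 / x) = p.1
          field_simp
        · show ss θ x * ((p.2 + y * ss θ (p.1 / x)) / ss θ x) + y * ss θ (p.1 / x) = p.2
          rw [mul_div_cancel₀ _ hsx, add_assoc, CharTwo.add_self_eq_zero, add_zero] }
  have he : ∀ p, e p = (x * p.1, ss θ x * p.2 + y * ss θ p.1) := fun _ => rfl
  have hmul : ∀ u v, e (mul θ (β + y / ss θ x) u v) = mul θ β (e u) (e v) := by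
    intro u v
    simp only [he, mul, cb_scale, ss_add]
    refine Prod.ext (mul_add _ _ _) ?_
    simp only [cb]
    field_simp
    grind
  have hkk : ∀ l u, e (kk θ l u) = kk θ l (e u) := by
    intro l u
    simp only [he, kk, ss_mul]
    exact Prod.ext (mul_left_comm _ _ _) (by ring)
  refine ⟨β + y / ss θ x, (ss θ x)⁻¹, I.comap e hmul hkk, w, inv_ne_zero hsx, h1, ?_, h3, ?_⟩
  · have he0 : e 0 = 0 := by simp [he, ss_zero]
    simp [comap, h2, Equiv.symm_apply_eq, he0]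
  · show w * I.T (e (0, (ss θ x)⁻¹)) * w = I.T (e (1, 0)) * w * (I.T (e (1, 0)))⁻¹
    simp only [he, ss_zero, ss_one, mul_zero, mul_one, add_zero, zero_add,
      mul_inv_cancel₀ hsx]
    exact h4

/-- The permutation of `F × F` induced by `w`. -/
def fperm (w : G) (y : F × F) : F × F := (I.φ w (some y)).getD 0

variable {w : G} {c : F}

theorem fperm_eq (h : I.IsGauge w c) {y : F × F} (hy : y ≠ 0) :
    I.φ w (some y) = some (I.fperm w y) ∧ I.fperm w y ≠ 0 := by
  obtain ⟨v, hv, e⟩ := I.w_some h.1 h.2.1 hy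
  simp [fperm, e, hv]

theorem fperm_zero (h : I.IsGauge w c) : I.fperm w 0 = 0 := by
  simp [fperm, I.w_zero h.1 h.2.1]

theorem fperm_invol (h : I.IsGauge w c) (y : F × F) : I.fperm w (I.fperm w y) = y := by
  rcases eq_or_ne y 0 with rfl | hy
  · rw [I.fperm_zero h, I.fperm_zero h]
  · obtain ⟨e, hne⟩ := I.fperm_eq h hy
    show (I.φ w (some (I.fperm w y))).getD 0 = y
    rw [← e, ← Equiv.Perm.mul_apply, ← map_mul, h.1, map_one, Equiv.Perm.one_apply]
    rfl

theorem fperm_equiv (h : I.IsGauge w c) (l : F) (y : F × F) (hl : l ≠ 0) :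
    I.fperm w (kk θ l y) = kk θ l⁻¹ (I.fperm w y) := by
  rcases eq_or_ne y 0 with rfl | hy
  · simp [kk, Prod.ext_iff, ss_zero, I.fperm_zero h, show ((0, 0) : F × F) = 0 from rfl]
  · obtain ⟨e, hne⟩ := I.fperm_eq h hy
    have hc : w * I.K l = I.K l⁻¹ * w := by
      rw [← h.2.2.1 l hl, mul_assoc _ w w, h.1, mul_one]
    have h' := congrArg (fun g => I.φ g (some y)) hc
    simp only [map_mul, Equiv.Perm.mul_apply, (I.hK l hl).2, e, (I.hK _ (inv_ne_zero hl)).2] at h'
    simp [fperm, h']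

/-- The gauge constant is `1`, and `f` satisfies the axioms. -/
theorem gauge_sys (h : I.IsGauge w c) (hc : c ≠ 0) (hg : Good θ) [Finite F] :
    c = 1 ∧ Sys θ β (I.fperm w) := by
  have hX : mul θ β (1, 1) ((1 : F), (0 : F)) = 0 := by
    simp [mul, cb_self, ss_one, CharTwo.add_self_eq_zero]
  have hTi : (I.T (1, 0))⁻¹ = I.T (1, 1) :=
    inv_eq_of_mul_eq_one_left (by rw [I.T_mul, hX, I.T_zero])
  have hzne : ((0, c) : F × F) ≠ 0 := fun e => hc (congrArg Prod.snd e)
  have hPne : ((1, 1) : F × F) ≠ 0 := fun e => one_ne_zero (congrArg Prod.fst e)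
  have hfz : I.fperm w (0, c) = (1, 0) := by
    have h' := congrArg (fun g => I.φ g none) h.2.2.2
    simp only [map_mul, Equiv.Perm.mul_apply, hTi, h.2.1, I.T_apply_zero, (I.hT _).1] at h'
    simp [fperm, h']
  have hfX : I.fperm w (1, 0) = (0, c) := by rw [← hfz, I.fperm_invol h]
  have hfP : I.fperm w (1, 1) = (1, 1) := by
    have h' := congrArg (fun g => I.φ g (some 0)) h.2.2.2
    simp only [map_mul, Equiv.Perm.mul_apply, hTi, I.T_apply_zero, (I.hT _).1,
      I.w_zero h.1 h.2.1, h.2.1, (I.fperm_eq h hPne).1, (I.hT _).2, Option.some.injEq] at h'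
    have e := congrArg (mul θ β (1, 1)) h'.symm
    rwa [← mul_assoc', hX, zero_mul', mul_zero'] at e
  have hrel : ∀ y, y ≠ 0 → y ≠ (1, 0) →
      I.fperm w (mul θ β (0, c) (I.fperm w y)) =
        mul θ β (1, 0) (I.fperm w (mul θ β (1, 1) y)) := by
    intro y hy hy1
    obtain ⟨e, hne⟩ := I.fperm_eq h hy
    have hP : mul θ β (1, 1) y ≠ 0 := by
      intro e1
      refine hy1 ?_
      have e2 := congrArg (mul θ β (1, 0)) e1
      rw [← mul_assoc', show mul θ β (1, 0) ((1 : F), (1 : F)) = 0 by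
        simp [mul, cb_self, ss_one, CharTwo.add_self_eq_zero], zero_mul', mul_zero'] at e2
      exact e2
    have hz' : mul θ β (0, c) (I.fperm w y) ≠ 0 := by
      intro e1
      refine hy1 ?_
      have e2 := congrArg (mul θ β (0, c)) e1
      rw [← mul_assoc', show mul θ β (0, c) ((0 : F), c) = 0 by
        simp [mul, cb_zero_left, CharTwo.add_self_eq_zero], zero_mul', mul_zero'] at e2
      rw [← I.fperm_invol h y, e2, hfz]
    have h' := congrArg (fun g => I.φ g (some y)) h.2.2.2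
    simp only [map_mul, Equiv.Perm.mul_apply, hTi, e, (I.hT _).2, (I.fperm_eq h hP).1,
      (I.fperm_eq h hz').1, Option.some.injEq] at h'
    exact h'
  have hc1 : c = 1 := by
    obtain ⟨x, hx⟩ := hg.exists_ss c⁻¹
    have hx0 : x ≠ 0 := fun e => inv_ne_zero hc (by rw [← hx, e, ss_zero])
    have hy1 : ((0, (1 : F)) : F × F) ≠ 0 := fun e => one_ne_zero (congrArg Prod.snd e)
    have hy2 : ((0, (1 : F)) : F × F) ≠ (1, 0) := fun e => zero_ne_one (congrArg Prod.fst e)
    have r := hrel _ hy1 hy2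
    have e1 : I.fperm w (0, 1) = (x⁻¹, 0) := by
      have := I.fperm_equiv h x (0, c) hx0
      rw [hfz] at this
      simpa [kk, hx, hc] using this
    have e2 : mul θ β (0, c) (x⁻¹, (0 : F)) = kk θ x⁻¹ (1, 1) := by
      simp [mul, kk, cb_zero_left, ss_inv, hx]
    have e3 : mul θ β (1, 1) ((0 : F), (1 : F)) = (1, 0) := by
      simp [mul, cb_zero_right, CharTwo.add_self_eq_zero]
    rw [e1, e2, e3, I.fperm_equiv h _ _ (inv_ne_zero hx0), hfP, hfX] at r
    have r1 := congrArg Prod.fst r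
    simp [mul, kk] at r1
    rw [r1, ss_one] at hx
    rw [eq_comm, inv_eq_one] at hx
    exact hx
  subst hc1
  exact ⟨rfl, I.fperm_zero h, fun y hy => (I.fperm_eq h hy).2, I.fperm_invol h,
    I.fperm_equiv h, hfz, hfP, hrel⟩

theorem decomp (g : G) (hg : I.φ g none = none) : ∃ v l, l ≠ 0 ∧ g = I.T v * I.K l := by
  rcases h0 : I.φ g (some 0) with _ | v
  · exact absurd ((I.φ g).injective (h0.trans hg.symm)) (by simp)
  · obtain ⟨l, hl, e⟩ := I.hB ((I.T v)⁻¹ * g)
      (by rw [map_mul, Equiv.Perm.mul_apply, hg, map_inv, Equiv.Perm.inv_eq_iff_eq, (I.hT v).1])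
      (by rw [map_mul, Equiv.Perm.mul_apply, h0, I.T_inv_apply])
    exact ⟨v, l, hl, by rw [← e, mul_inv_cancel_left]⟩

universe u'

theorem range_le {G' : Type u'} [Group G'] (J : Inst θ β G') {w' : G'}
    (h : I.IsGauge w c) (h' : J.IsGauge w' c) (hf : I.fperm w = J.fperm w') :
    I.φ.range ≤ J.φ.range := by
  have hT : ∀ v, I.φ (I.T v) = J.φ (J.T v) := fun v => Equiv.ext fun o => by
    cases o with
    | none => rw [(I.hT v).1, (J.hT v).1]
    | some x => rw [(I.hT v).2, (J.hT v).2]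
  have hK : ∀ l, l ≠ 0 → I.φ (I.K l) = J.φ (J.K l) := fun l hl => Equiv.ext fun o => by
    cases o with
    | none => rw [(I.hK l hl).1, (J.hK l hl).1]
    | some x => rw [(I.hK l hl).2, (J.hK l hl).2]
  have hw : I.φ w = J.φ w' := Equiv.ext fun o => by
    cases o with
    | none => rw [h.2.1, h'.2.1]
    | some x =>
      rcases eq_or_ne x 0 with rfl | hx
      · rw [I.w_zero h.1 h.2.1, J.w_zero h'.1 h'.2.1]
      · rw [(I.fperm_eq h hx).1, (J.fperm_eq h' hx).1, hf]
  have hfix : ∀ g, I.φ g none = none → I.φ g ∈ J.φ.range := fun g hg => by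
    obtain ⟨v, l, hl, rfl⟩ := I.decomp g hg
    exact ⟨J.T v * J.K l, by rw [map_mul, map_mul, hT, hK l hl]⟩
  rintro _ ⟨g, rfl⟩
  rcases h0 : I.φ g none with _ | v
  · exact hfix g h0
  · obtain ⟨g', hg'⟩ := hfix (w * (I.T v)⁻¹ * g) (by
      rw [map_mul, map_mul, Equiv.Perm.mul_apply, Equiv.Perm.mul_apply, h0, I.T_inv_apply,
        I.w_zero h.1 h.2.1])
    refine ⟨J.T v * w' * g', ?_⟩
    rw [map_mul, map_mul, hg', ← hT, ← hw, ← map_mul, ← map_mul]
    congr 1
    calc I.T v * w * (w * (I.T v)⁻¹ * g) = I.T v * (w * w) * (I.T v)⁻¹ * g := by group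
      _ = g := by rw [h.1, mul_one, mul_inv_cancel, one_mul]

end Inst

end Cfsg.Agent.SuzukiUniq67
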