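import Mathlib

/-!
# Uniqueness of the Suzuki groups: the polynomial identities for the parameters

Over a field of characteristic two the two linear equations for `v = t / u` and `θ v`, together with
`v * θ v = 1 + t * θ t`, force `β ∈ {0, 1}`, and for `β = 1` determine `v` and `θ v`.
-/

set_option autoImplicit false

namespace Cfsg.Agent.SuzukiUniq67

open Polynomial

variable {F : Type*} [Field F] [CharP F 2]

/-- The numerator attached to `t`. -/
def Ln (β T S : F) : F := (1 + β * T + (1 + β) * S) * (T * S)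

/-- The numerator attached to `t⁻¹`, times `(T * S)²`. -/
def Mn (β T S : F) : F := T * S + β * S + (1 + β) * T

def a₁ (β T S : F) : F := Ln β T S * T + 1 + T
def b₁ (β T S : F) : F := Ln β T S * S + 1 + S
def c₁ (β T S : F) : F := Ln β T S + T + S
def a₂ (β T S : F) : F := Mn β T S + (1 + T) * (T ^ 2 * S ^ 2)
def b₂ (β T S : F) : F := Mn β T S + (1 + S) * (T ^ 2 * S ^ 2)
def c₂ (β T S : F) : F := Mn β T S * (T * S) + (T + S) * (T ^ 2 * S ^ 2)

def det (β T S : F) : F := a₁ β T S * b₂ β T S + a₂ β T S * b₁ β T S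
def numX (β T S : F) : F := a₁ β T S * c₂ β T S + a₂ β T S * c₁ β T S
def numY (β T S : F) : F := b₁ β T S * c₂ β T S + b₂ β T S * c₁ β T S

/-- The cofactor. -/
def RR (β T S : F) : F :=
  β ^ 2 * S ^ 2 +
  (β + β ^ 2) * S ^ 3 +
  (1 + β + β ^ 2) * T * S ^ 2 +
  (1 + β + β ^ 2) * T * S ^ 3 +
  (β + β ^ 2) * T * S ^ 4 +
  (1 + β ^ 2) * T ^ 2 +
  (1 + β + β ^ 2) * T ^ 2 * S +
  (1 + β + β ^ 2) * T ^ 2 * S ^ 3 +
  (1 + β ^ 2) * T ^ 2 * S ^ 4 +
  (β + β ^ 2) * T ^ 3 +
  (1 + β + β ^ 2) * T ^ 3 * S +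
  (1 + β + β ^ 2) * T ^ 3 * S ^ 2 +
  (β + β ^ 2) * T ^ 4 * S +
  β ^ 2 * T ^ 4 * S ^ 2

theorem two_eq_zero' : (2 : F) = 0 := by simpa using CharP.cast_eq_zero F 2

set_option maxHeartbeats 4000000 in
theorem eliminant (β T S : F) :
    numX β T S * numY β T S + (1 + T * S) * det β T S ^ 2 =
      β * (1 + β) * (T ^ 2 * S ^ 2) * ((1 + T) * (1 + S) * (T + S) ^ 2) * RR β T S := by
  simp only [numX, numY, det, a₁, b₁, c₁, a₂, b₂, c₂, Ln, Mn, RR]
  grind

theorem det_one (T S : F) :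
    det 1 T S = S * (1 + T) * (T + S) * (1 + T * S) * (1 + T ^ 2 * S) := by
  simp only [det, a₁, b₁, a₂, b₂, Ln, Mn]
  grind

theorem numX_one (T S : F) : numX 1 T S = S * (1 + T) * (T + S) * (1 + T ^ 2 * S) ^ 2 := by
  simp only [numX, a₁, c₁, a₂, c₂, Ln, Mn]
  grind

theorem numY_one (T S : F) : numY 1 T S = S * (1 + T) * (T + S) * (1 + T * S) ^ 3 := by
  simp only [numY, b₁, c₁, b₂, c₂, Ln, Mn]
  grind

variable {β T S V W : F}

theorem cramer (e1 : a₁ β T S * W + b₁ β T S * V = c₁ β T S)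
    (e2 : a₂ β T S * W + b₂ β T S * V = c₂ β T S) :
    det β T S * V = numX β T S ∧ det β T S * W = numY β T S := by
  have h2 := two_eq_zero' (F := F)
  unfold det numX numY
  constructor
  · linear_combination a₂ β T S * e1 + a₁ β T S * e2 - (a₁ β T S * a₂ β T S * W) * h2
  · linear_combination b₂ β T S * e1 + b₁ β T S * e2 - (b₁ β T S * b₂ β T S * V) * h2

theorem eliminant_eq_zero (e1 : a₁ β T S * W + b₁ β T S * V = c₁ β T S)
    (e2 : a₂ β T S * W + b₂ β T S * V = c₂ β T S) (e3 : V * W = 1 + T * S) :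
    β * (1 + β) * (T ^ 2 * S ^ 2) * ((1 + T) * (1 + S) * (T + S) ^ 2) * RR β T S = 0 := by
  obtain ⟨hX, hY⟩ := cramer e1 e2
  have h2 := two_eq_zero' (F := F)
  rw [← eliminant, ← hX, ← hY]
  linear_combination det β T S ^ 2 * e3 + (1 + T * S) * det β T S ^ 2 * h2

/-- The case `β = 1`. -/
theorem solve_one (e1 : a₁ 1 T S * W + b₁ 1 T S * V = c₁ 1 T S)
    (e2 : a₂ 1 T S * W + b₂ 1 T S * V = c₂ 1 T S) (hS : S ≠ 0) (hT : 1 + T ≠ 0)
    (hTS : T + S ≠ 0) (hTS' : 1 + T * S ≠ 0) :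
    (1 + T * S) * V = 1 + T ^ 2 * S ∧ (1 + T ^ 2 * S) * W = (1 + T * S) ^ 2 := by
  obtain ⟨hX, hY⟩ := cramer e1 e2
  rw [det_one, numX_one] at hX
  rw [det_one, numY_one] at hY
  have hk : S * (1 + T) * (T + S) ≠ 0 := mul_ne_zero (mul_ne_zero hS hT) hTS
  have hD : 1 + T ^ 2 * S ≠ 0 := by
    intro h0
    rw [h0] at hY
    simp only [mul_zero, zero_mul] at hY
    exact mul_ne_zero hk (pow_ne_zero 3 hTS') hY.symm
  refine ⟨mul_left_cancel₀ (mul_ne_zero hk hD) ?_, mul_left_cancel₀ (mul_ne_zero hk hTS') ?_⟩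
  · linear_combination hX
  · linear_combination hY

theorem natDegree_C_mul_X_pow_le' (c : F) {i N : ℕ} (h : i ≤ N) :
    (C c * X ^ i : F[X]).natDegree ≤ N :=
  (natDegree_C_mul_X_pow_le c i).trans h

/-- `(X + X^d) * c * X^e`. -/
noncomputable def mono (d : ℕ) (c : F) (e : ℕ) : F[X] := C c * X ^ (e + 1) + C c * X ^ (e + d)

omit [CharP F 2] in
theorem mono_eval (d : ℕ) (c : F) (e : ℕ) (x : F) :
    (mono d c e).eval x = (x + x ^ d) * (c * x ^ e) := by
  simp only [mono, eval_add, eval_mul, eval_C, eval_pow, eval_X]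
  ring

omit [CharP F 2] in
theorem mono_natDegree (d : ℕ) (c : F) {e N : ℕ} (h1 : 1 ≤ d) (h : e + d ≤ N) :
    (mono d c e).natDegree ≤ N :=
  (natDegree_add_le (C c * X ^ (e + 1)) (C c * X ^ (e + d))).trans
    (max_le ((natDegree_C_mul_X_pow_le c _).trans (by omega))
      ((natDegree_C_mul_X_pow_le c _).trans h))

omit [CharP F 2] in
theorem mono_coeff_three (d : ℕ) (c : F) (e : ℕ) (h1 : e + d ≠ 3) :
    (mono d c e).coeff 3 = if e = 2 then c else 0 := by
  unfold mono
  rw [coeff_add, coeff_C_mul_X_pow, coeff_C_mul_X_pow, if_neg (show ¬ 3 = e + d by omega), add_zero]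
  exact if_congr (by omega) rfl rfl

/-- `(X + X^d) * RR β X X^d` as a polynomial. -/
noncomputable def RP (β : F) (d : ℕ) : F[X] :=
  mono d (β ^ 2) (2 * d) + mono d (β + β ^ 2) (3 * d) + mono d (1 + β + β ^ 2) (1 + 2 * d) +
    mono d (1 + β + β ^ 2) (1 + 3 * d) + mono d (β + β ^ 2) (1 + 4 * d) + mono d (1 + β ^ 2) 2 +
    mono d (1 + β + β ^ 2) (2 + d) + mono d (1 + β + β ^ 2) (2 + 3 * d) +
    mono d (1 + β ^ 2) (2 + 4 * d) +
    mono d (β + β ^ 2) 3 + mono d (1 + β + β ^ 2) (3 + d) + mono d (1 + β + β ^ 2) (3 + 2 * d) +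
    mono d (β + β ^ 2) (4 + d) + mono d (β ^ 2) (4 + 2 * d)

omit [CharP F 2] in
theorem RP_eval (β x : F) (d : ℕ) : (RP β d).eval x = (x + x ^ d) * RR β x (x ^ d) := by
  simp only [RP, RR, eval_add, mono_eval]
  ring

theorem eq_one_of_RR [Fintype F] (β : F) {d : ℕ} (hd : 2 ≤ d) (hdq : 5 * d + 2 < Fintype.card F)
    (h : ∀ x : F, (x + x ^ d) * RR β x (x ^ d) = 0) : β = 1 := by
  have h0 : RP β d = 0 := by
    refine eq_zero_of_natDegree_lt_card_of_eval_eq_zero (RP β d) (f := id) Function.injective_id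
      (fun x => by rw [id, RP_eval, h]) (lt_of_le_of_lt ?_ hdq)
    unfold RP
    refine (natDegree_add_le _ _).trans (max_le ?_ (mono_natDegree d _ (by omega) (by omega)))
    refine (natDegree_add_le _ _).trans (max_le ?_ (mono_natDegree d _ (by omega) (by omega)))
    refine (natDegree_add_le _ _).trans (max_le ?_ (mono_natDegree d _ (by omega) (by omega)))
    refine (natDegree_add_le _ _).trans (max_le ?_ (mono_natDegree d _ (by omega) (by omega)))
    refine (natDegree_add_le _ _).trans (max_le ?_ (mono_natDegree d _ (by omega) (by omega)))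
    refine (natDegree_add_le _ _).trans (max_le ?_ (mono_natDegree d _ (by omega) (by omega)))
    refine (natDegree_add_le _ _).trans (max_le ?_ (mono_natDegree d _ (by omega) (by omega)))
    refine (natDegree_add_le _ _).trans (max_le ?_ (mono_natDegree d _ (by omega) (by omega)))
    refine (natDegree_add_le _ _).trans (max_le ?_ (mono_natDegree d _ (by omega) (by omega)))
    refine (natDegree_add_le _ _).trans (max_le ?_ (mono_natDegree d _ (by omega) (by omega)))
    refine (natDegree_add_le _ _).trans (max_le ?_ (mono_natDegree d _ (by omega) (by omega)))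
    refine (natDegree_add_le _ _).trans (max_le ?_ (mono_natDegree d _ (by omega) (by omega)))
    refine (natDegree_add_le _ _).trans (max_le ?_ (mono_natDegree d _ (by omega) (by omega)))
    exact mono_natDegree d _ (by omega) (by omega)
  have h3 := congrArg (fun p => coeff p 3) h0
  simp (disch := omega) only [RP, coeff_add, mono_coeff_three, coeff_zero] at h3
  simp (disch := omega) only [if_neg] at h3
  simp only [add_zero, zero_add, if_true] at h3
  have hsq : (β + 1) ^ 2 = 0 := by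
    linear_combination h3 + β * two_eq_zero' (F := F)
  rwa [sq_eq_zero_iff, CharTwo.add_eq_zero] at hsq

theorem eq_one_of_RR_eight (β t : F) (ht : t ≠ 0) (ht1 : t ≠ 1) (h7 : t ^ 8 = t)
    (h : RR β t (t ^ 2) = 0) : β = 1 := by
  have h2 := two_eq_zero' (F := F)
  have e7 : t ^ 7 = 1 := mul_left_cancel₀ ht (by rw [← pow_succ', h7, mul_one])
  have hf : t ^ 6 * (1 + t) * (1 + t ^ 2) * (t + t ^ 2) ^ 2 * RR β t (t ^ 2) =
      (1 + β) * (t ^ 2 + t ^ 3) := by
    simp only [RR]
    grind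
  rw [h, mul_zero, eq_comm, mul_eq_zero, CharTwo.add_eq_zero] at hf
  rcases hf with hf | hf
  · exact hf.symm
  · exfalso
    have : t ^ 2 * (1 + t) = 0 := by linear_combination hf
    rcases mul_eq_zero.1 this with h' | h'
    · exact ht (pow_eq_zero_iff two_ne_zero |>.1 h')
    · exact ht1 (CharTwo.add_eq_zero.1 h').symm

end Cfsg.Agent.SuzukiUniq67
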