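import Mathlib

set_option autoImplicit false

namespace Cfsg.Agent.SwapOrbit

open Equiv

variable {α : Type*} [DecidableEq α] [Finite α]

/-- `m` transpositions generate a group all whose orbits have at most `m + 1` points. -/
theorem ncard_orbit_le {m : ℕ} (t : Fin m → Perm α) (ht : ∀ i, (t i).IsSwap) (a : α) :
    (MulAction.orbit (Subgroup.closure (Set.range t)) a).ncard ≤ m + 1 := by
  classical
  cases nonempty_fintype α
  choose u v huv ht using ht
  set O := MulAction.orbit (Subgroup.closure (Set.range t)) a
  have hmove : ∀ i, u i ∈ O ↔ v i ∈ O := by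
    intro i
    have hg : t i ∈ Subgroup.closure (Set.range t) := Subgroup.subset_closure ⟨i, rfl⟩
    have key : ∀ y, y ∈ O → t i y ∈ O := fun y hy => MulAction.mem_orbit_of_mem_orbit (⟨t i, hg⟩ : Subgroup.closure (Set.range t)) hy
    constructor
    · intro h; simpa [ht i] using key _ h
    · intro h; simpa [ht i] using key _ h
  -- grow a connected set from `a`, one transposition at a time
  have grow : ∀ k : ℕ, ∃ (S : Finset α) (I : Finset (Fin m)), a ∈ S ∧ S.card ≤ I.card + 1 ∧ (∀ i ∈ I, u i ∈ S ∧ v i ∈ S) ∧
      (k ≤ I.card ∨ ∀ i, u i ∈ S ↔ v i ∈ S) := by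
    intro k
    induction k with
    | zero => exact ⟨{a}, ∅, by simp, by simp, by simp, Or.inl le_rfl⟩
    | succ k ih =>
      obtain ⟨S, I, h1, h2, h3, h4⟩ := ih
      by_cases hcl : ∀ i, u i ∈ S ↔ v i ∈ S
      · exact ⟨S, I, h1, h2, h3, Or.inr hcl⟩
      · push Not at hcl
        obtain ⟨i, hi⟩ := hcl
        have hk : k ≤ I.card := h4.resolve_right (fun h => by rcases hi with ⟨ha, hb⟩ | ⟨ha, hb⟩ <;> simp_all)
        have hiI : i ∉ I := fun h => by
          have := h3 i h
          rcases hi with ⟨ha, hb⟩ | ⟨ha, hb⟩ <;> simp_all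
        refine ⟨S ∪ {u i, v i}, insert i I, Finset.mem_union_left _ h1, ?_, ?_, Or.inl ?_⟩
        · have h5 : (S ∪ {u i, v i}).card ≤ S.card + 1 := by
            rcases hi with ⟨ha, hb⟩ | ⟨ha, hb⟩
            · refine le_trans (Finset.card_le_card (t := insert (v i) S) ?_) (Finset.card_insert_le _ _)
              intro z hz; simp only [Finset.mem_union, Finset.mem_insert, Finset.mem_singleton] at hz ⊢
              rcases hz with h | rfl | rfl <;> simp_all
            · refine le_trans (Finset.card_le_card (t := insert (u i) S) ?_) (Finset.card_insert_le _ _)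
              intro z hz; simp only [Finset.mem_union, Finset.mem_insert, Finset.mem_singleton] at hz ⊢
              rcases hz with h | rfl | rfl <;> simp_all
          rw [Finset.card_insert_of_notMem hiI]
          omega
        · intro j hj
          rcases Finset.mem_insert.mp hj with rfl | hj
          · simp
          · exact ⟨Finset.mem_union_left _ (h3 j hj).1, Finset.mem_union_left _ (h3 j hj).2⟩
        · rw [Finset.card_insert_of_notMem hiI]; omega
  obtain ⟨S, I, h1, h2, h3, h4⟩ := grow (m + 1)
  have hI : I.card ≤ m := by simpa using Finset.card_le_univ I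
  have hcl : ∀ i, u i ∈ S ↔ v i ∈ S := h4.resolve_left (by omega)
  have hsub : O ⊆ (S : Set α) := by
    rintro _ ⟨⟨g, hg⟩, rfl⟩
    have hinv : ∀ g ∈ Subgroup.closure (Set.range t), ∀ z, g z ∈ S ↔ z ∈ S := by
      intro g hg
      induction hg using Subgroup.closure_induction with
      | mem x hx =>
        obtain ⟨i, rfl⟩ := hx
        intro z
        by_cases hzu : z = u i
        · subst hzu; rw [ht i, Equiv.swap_apply_left]; exact (hcl i).symm
        by_cases hzv : z = v i
        · subst hzv; rw [ht i, Equiv.swap_apply_right]; exact hcl i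
        rw [ht i, Equiv.swap_apply_of_ne_of_ne hzu hzv]
      | one => simp
      | mul x y _ _ hx hy => intro z; rw [Perm.mul_apply, hx, hy]
      | inv x _ hx => intro z; rw [← hx (x⁻¹ z)]; simp
    exact (hinv g hg a).mpr h1
  calc O.ncard ≤ (S : Set α).ncard := Set.ncard_le_ncard hsub
    _ = S.card := Set.ncard_coe_finset S
    _ ≤ m + 1 := by omega

/-- The action of a permutation group on all of its orbits. -/
def orbitHom {β : Type*} (H : Subgroup (Perm β)) : H →* ∀ a : β, Perm (MulAction.orbit H a) :=
  MonoidHom.mk' (fun g a => MulAction.toPerm g) fun g h => funext fun a => Equiv.ext fun x => mul_smul g h x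

/-- Restriction of a permutation group to each of its orbits, jointly injective. -/
theorem orbit_hom_injective (H : Subgroup (Perm α)) :
    Function.Injective (orbitHom H) := by
  rw [injective_iff_map_eq_one]
  intro g hg
  refine Subtype.ext (Equiv.ext fun a => ?_)
  exact congrArg Subtype.val (Equiv.congr_fun (congrFun hg a) ⟨a, MulAction.mem_orbit_self a⟩)

/-- A prime dividing the order of a permutation group is at most some orbit length. -/
theorem le_of_prime_dvd (H : Subgroup (Perm α)) {m : ℕ} (hm : ∀ a : α, (MulAction.orbit H a).ncard ≤ m)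
    {q : ℕ} (hq : q.Prime) (hd : q ∣ Nat.card H) : q ≤ m := by
  classical
  cases nonempty_fintype α
  have h1 := hd.trans (Subgroup.card_dvd_of_injective _ (orbit_hom_injective H))
  rw [Nat.card_pi] at h1
  obtain ⟨a, -, ha⟩ := hq.prime.exists_mem_finset_dvd h1
  rw [Nat.card_perm, hq.dvd_factorial, Nat.card_coe_set_eq] at ha
  exact ha.trans (hm a)

/-- A finite product of solvable groups is solvable. -/
theorem isSolvable_pi {ι : Type*} [Finite ι] (M : ι → Type*) [∀ i, Group (M i)] [h : ∀ i, Group.IsSolvable (M i)] :
    Group.IsSolvable (∀ i, M i) := by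
  classical
  cases nonempty_fintype ι
  choose d hd using fun i => (Group.isSolvable_def (M i)).mp (h i)
  refine (Group.isSolvable_def _).mpr ⟨Finset.univ.sup d, eq_bot_iff.mpr fun g hg => ?_⟩
  rw [Subgroup.mem_bot]
  funext i
  have h1 := map_derivedSeries_le_derivedSeries (Pi.evalMonoidHom M i) (Finset.univ.sup d) (Subgroup.mem_map_of_mem _ hg)
  have h2 := derivedSeries_antitone (M i) (Finset.le_sup (f := d) (Finset.mem_univ i)) h1
  rw [hd i, Subgroup.mem_bot] at h2
  exact h2

end Cfsg.Agent.SwapOrbit
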