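import Cfsg.Agent.Lib.SocleDiag69
import Cfsg.Agent.Lib.TransferTate
import Cfsg.Agent.Lib.PGroupsBasic
import Cfsg.Agent.Lib.HallCore
import Cfsg.Agent.Lib.TransferPResidual
import Cfsg.Agent.S4586

/-!
Groups with trivial `p'`-core that are not almost simple and have a Sylow `p`-subgroup `P` with
`[P : P'] = p²`: an element with centralizer of `p`-part `p²`.
-/

set_option autoImplicit false
set_option linter.style.haveILetI false
open Cfsg Cfsg.Agent Subgroup
open scoped commutatorElement

namespace Cfsg.Agent.SylowAbelianizationSq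

universe u

variable {G : Type u} [Group G] [Finite G] {p : ℕ} [Fact p.Prime]

/-- A `p`-group whose abelianization has order at most `p` is abelian. -/
theorem commutator_eq_bot_of_index {X : Type u} [Group X] [Finite X] (hX : IsPGroup p X)
    (h : (commutator X).index ∣ p) : commutator X = ⊥ := by
  have hp : p.Prime := Fact.out
  rcases (Nat.dvd_prime hp).1 h with h1 | h1
  · have : commutator X = ⊤ := index_eq_one.1 h1
    have htop : frattini X = ⊤ :=
      top_le_iff.1 (this ▸ PGroupsBasic.commutator_le_frattini hX)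
    have := frattini_nongenerating (K := (⊥ : Subgroup X)) (by rw [htop, sup_top_eq])
    haveI : Subsingleton X := by
      rw [← Subgroup.subsingleton_iff]
      exact subsingleton_of_bot_eq_top this
    exact Subsingleton.elim _ _
  · obtain ⟨g, hg⟩ : ∃ g : X, g ∉ commutator X := by
      by_contra hall
      push Not at hall
      rw [show commutator X = ⊤ from top_le_iff.1 fun g _ => hall g, index_top] at h1
      exact hp.one_lt.ne h1
    have htop : zpowers g ⊔ frattini X = ⊤ := by
      refine top_le_iff.1 ?_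
      refine le_trans ?_ (sup_le_sup_left (PGroupsBasic.commutator_le_frattini hX) _)
      by_contra hne
      have hco := PGroupsBasic.isCoatom_of_index_eq (p := p) h1
      rcases hco.le_iff.1 (le_sup_right : commutator X ≤ zpowers g ⊔ commutator X) with h2 | h2
      · exact hne h2.ge
      · exact hg (h2 ▸ mem_sup_left (mem_zpowers g))
    have hz := frattini_nongenerating htop
    rw [_root_.commutator_def, eq_bot_iff, commutator_le]
    intro a _ b _
    obtain ⟨i, rfl⟩ := mem_zpowers_iff.1 (hz.ge (mem_top a))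
    obtain ⟨j, rfl⟩ := mem_zpowers_iff.1 (hz.ge (mem_top b))
    rw [mem_bot, commutatorElement_eq_one_iff_commute]
    exact (Commute.refl g).zpow_zpow i j

/-- The key dichotomy for normal subgroups of a `p`-group with abelianization of order `p²`. -/
theorem top_or_index_eq {X : Type u} [Group X] [Finite X] (hX : IsPGroup p X)
    (hidx : (commutator X).index = p ^ 2) (Q : Subgroup X) [Q.Normal]
    (hQ : ¬ Q ≤ commutator X) : Q = ⊤ ∨ (commutator X ≤ Q ∧ Q.index = p) := by
  have hp : p.Prime := Fact.out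
  set R := Q ⊔ commutator X with hR
  have hdvd : R.index ∣ p ^ 2 := hidx ▸ index_dvd_of_le le_sup_right
  obtain ⟨k, hk, hRi⟩ := (Nat.dvd_prime_pow hp).1 hdvd
  interval_cases k
  · rw [pow_zero, index_eq_one] at hRi
    left
    refine frattini_nongenerating (top_le_iff.1 ?_)
    rw [← hRi]
    exact sup_le le_sup_left ((PGroupsBasic.commutator_le_frattini hX).trans le_sup_right)
  · rw [pow_one] at hRi
    right
    set π := QuotientGroup.mk' Q with hπ
    have hmap : commutator (X ⧸ Q) = (commutator X).map π := by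
      rw [_root_.commutator_def, _root_.commutator_def, map_commutator, ← MonoidHom.range_eq_map,
        MonoidHom.range_eq_top.2 (QuotientGroup.mk'_surjective Q)]
    have hi : (commutator (X ⧸ Q)).index = p := by
      rw [hmap, index_map, hπ, QuotientGroup.ker_mk', sup_comm,
        MonoidHom.range_eq_top.2 (QuotientGroup.mk'_surjective Q), index_top, mul_one, ← hR, hRi]
    have hb := commutator_eq_bot_of_index (hX.to_quotient Q) (hi.dvd)
    rw [hmap, Subgroup.map_eq_bot_iff, hπ, QuotientGroup.ker_mk'] at hb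
    refine ⟨hb, ?_⟩
    rwa [hR, sup_eq_left.2 hb] at hRi
  · exfalso
    refine hQ ?_
    have h1 := relIndex_mul_index (le_sup_right : commutator X ≤ R)
    rw [hRi, hidx] at h1
    have h2 : (commutator X).relIndex R = 1 :=
      Nat.eq_of_mul_eq_mul_right (pow_pos hp.pos 2) (by rw [h1, one_mul])
    exact le_sup_left.trans (relIndex_eq_one.1 h2)

variable (P : Sylow p G)

/-- The derived subgroup of `P` as a subgroup of `P`. -/
theorem index_commutator_eq :
    (commutator (P : Subgroup G)).index =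
      (⁅(P : Subgroup G), (P : Subgroup G)⁆).relIndex (P : Subgroup G) := by
  rw [← map_subtype_commutator, relIndex,
    Subgroup.subgroupOf, comap_map_eq_self_of_injective (P : Subgroup G).subtype_injective]

/-- The dichotomy for `P ∩ W`, `W` a subgroup normalized by `P`. -/
theorem sylow_dichotomy (hidx : (⁅(P : Subgroup G), (P : Subgroup G)⁆).relIndex (P : Subgroup G) = p ^ 2)
    {W : Subgroup G} (hW : (P : Subgroup G) ≤ normalizer (W : Set G))
    (hne : ¬ (P : Subgroup G) ⊓ W ≤ ⁅(P : Subgroup G), (P : Subgroup G)⁆) :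
    (P : Subgroup G) ≤ W ∨ (⁅(P : Subgroup G), (P : Subgroup G)⁆ ≤ W ∧
      W.relIndex (P : Subgroup G) = p) := by
  haveI : (W.subgroupOf (P : Subgroup G)).Normal := normal_subgroupOf_of_le_normalizer hW
  have hQ : ¬ W.subgroupOf (P : Subgroup G) ≤ commutator (P : Subgroup G) := by
    intro h
    refine hne fun x hx => ?_
    rw [← map_subtype_commutator]
    exact ⟨⟨x, hx.1⟩, h hx.2, rfl⟩
  rcases top_or_index_eq P.isPGroup' ((index_commutator_eq P).trans hidx)
    (W.subgroupOf (P : Subgroup G)) hQ with h | ⟨h, h'⟩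
  · exact Or.inl (subgroupOf_eq_top.1 h)
  · refine Or.inr ⟨?_, h'⟩
    rw [← map_subtype_commutator]
    rintro _ ⟨x, hx, rfl⟩
    exact h hx

/-- Tate: a perfect subgroup normalized by `P` meeting it nontrivially meets it outside `P'`. -/
theorem not_inf_le_commutator {W : Subgroup G} (hW : (P : Subgroup G) ≤ normalizer (W : Set G))
    (hperf : commutator W = ⊤) (hne : (P : Subgroup G) ⊓ W ≠ ⊥) :
    ¬ (P : Subgroup G) ⊓ W ≤ ⁅(P : Subgroup G), (P : Subgroup G)⁆ := by
  intro hle
  have hp : p.Prime := Fact.out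
  set H := (P : Subgroup G) ⊔ W with hH
  have hPH : (P : Subgroup G) ≤ H := le_sup_left
  have hWH : W ≤ H := le_sup_right
  set W' := W.subgroupOf H with hW'
  haveI : W'.Normal := normal_subgroupOf_of_le_normalizer (sup_le hW le_normalizer)
  set S : Sylow p H := P.subtype hPH with hS
  have hres : Cfsg.pResidual p H ≤ W' := by
    refine TransferPResidual.pResidual_le_of_isPGroup_quotient ?_
    refine IsPGroup.of_surjective (S.isPGroup') ((QuotientGroup.mk' W').comp (S : Subgroup H).subtype) ?_
    intro y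
    obtain ⟨⟨z, hz⟩, rfl⟩ := QuotientGroup.mk'_surjective W' y
    obtain ⟨a, ha, w, hw, rfl⟩ := (Set.ext_iff.1
      (Subgroup.coe_mul_of_left_le_normalizer_right (P : Subgroup G) W hW) z).1 hz
    refine ⟨⟨⟨a, hPH ha⟩, ha⟩, ?_⟩
    refine QuotientGroup.eq.2 ?_
    show (a⁻¹ * (a * w)) ∈ W
    simpa using hw
  have hcompl : Cfsg.HasNormalPComplement p H := by
    refine TransferTate.hasNormalPComplement_of_le_commutator S fun x hx => ?_
    have h1 := hle ⟨hx.1, hres hx.2⟩
    have h2 : ⁅(S : Subgroup H), (S : Subgroup H)⁆.map H.subtype = ⁅(P : Subgroup G), (P : Subgroup G)⁆ := by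
      rw [map_commutator, hS, Sylow.coe_subtype, map_subgroupOf_eq_of_le hPH]
    rw [← h2] at h1
    obtain ⟨z, hz, hzx⟩ := h1
    exact Subtype.ext hzx ▸ hz
  have hWc : Cfsg.HasNormalPComplement p W :=
    TransferPResidual.hasNormalPComplement_of_injective (inclusion hWH) (inclusion_injective hWH) hcompl
  have hq := TransferPResidual.isPGroup_quotient_pResidual (p := p) (G := W)
  haveI : (Cfsg.pResidual p W).Normal := inferInstance
  have htop : Cfsg.pResidual p W = ⊤ := by
    by_contra hn
    haveI : Nontrivial (W ⧸ Cfsg.pResidual p W) := QuotientGroup.nontrivial_iff.2 hn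
    haveI : Group.IsNilpotent (W ⧸ Cfsg.pResidual p W) := hq.isNilpotent
    refine (Group.IsSolvable.commutator_lt_top_of_nontrivial (W ⧸ Cfsg.pResidual p W)).ne ?_
    rw [_root_.commutator_def, ← MonoidHom.range_eq_top.2 (QuotientGroup.mk'_surjective
      (Cfsg.pResidual p W)), MonoidHom.range_eq_map, ← map_commutator, ← _root_.commutator_def, hperf]
  obtain ⟨z, hz1⟩ := Subgroup.ne_bot_iff_exists_ne_one.1 hne
  have hzW : (z : G) ∈ W := z.2.2
  have hcop := (TransferPResidual.mem_pResidual_iff_coprime hWc ⟨(z : G), hzW⟩).1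
    (htop ▸ mem_top _)
  obtain ⟨k, hk⟩ := IsPGroup.iff_orderOf.1 P.isPGroup' ⟨(z : G), z.2.1⟩
  rw [orderOf_mk] at hk hcop
  rw [hk] at hcop
  rcases Nat.eq_zero_or_pos k with rfl | hk0
  · rw [pow_zero, orderOf_eq_one_iff] at hk
    exact hz1 (Subtype.ext hk)
  · exact hp.one_lt.ne' ((Nat.coprime_pow_left_iff hk0 p p).1 hcop |> (Nat.coprime_self p).1)

/-- A non-abelian group nontrivially meeting `P` whose abelianization is trivial: helper. -/
theorem commutator_eq_top_of_eq {W : Subgroup G} (h : ⁅W, W⁆ = W) : commutator W = ⊤ := by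
  refine map_injective W.subtype_injective ?_
  rw [map_subtype_commutator, h, ← MonoidHom.range_eq_map, range_subtype]

/-- `[P : P'] ≤ p²` and `|P| ≠ p²` give a non-abelian `P`. -/
theorem commutator_ne_bot
    (hidx : (⁅(P : Subgroup G), (P : Subgroup G)⁆).relIndex (P : Subgroup G) = p ^ 2)
    (hcard : Nat.card (P : Subgroup G) ≠ p ^ 2) :
    ⁅(P : Subgroup G), (P : Subgroup G)⁆ ≠ ⊥ := by
  intro h
  rw [h, relIndex_bot_left] at hidx
  exact hcard hidx

/-- The transfer on an element of a normal subgroup. -/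
theorem transfer_apply_of_mem {X A : Type*} [Group X] [CommGroup A] {H : Subgroup X} [H.Normal]
    [H.FiniteIndex] [Fintype (X ⧸ H)] (ϕ : H →* A) (T : H.LeftTransversal) {a : X} (ha : a ∈ H) :
    MonoidHom.transfer ϕ a = ∏ c : X ⧸ H,
      ϕ ⟨(T.2.leftQuotientEquiv c : X)⁻¹ * a * (T.2.leftQuotientEquiv c : X),
        by simpa using Subgroup.Normal.conj_mem inferInstance a ha (T.2.leftQuotientEquiv c : X)⁻¹⟩ := by
  rw [MonoidHom.transfer_def ϕ T a]
  unfold Subgroup.leftTransversals.diff
  refine Finset.prod_congr (Finset.ext fun c => ⟨fun _ => @Finset.mem_univ _ (_) c, fun _ => @Finset.mem_univ _ (_) c⟩)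
    fun c _ => congrArg ϕ (Subtype.ext ?_)
  change (T.2.leftQuotientEquiv c : X)⁻¹ * ((a • T).2.leftQuotientEquiv c : X) =
    (T.2.leftQuotientEquiv c : X)⁻¹ * a * (T.2.leftQuotientEquiv c : X)
  have hfix : a⁻¹ • c = c := by
    induction c using QuotientGroup.induction_on with
    | H r =>
      refine QuotientGroup.eq.2 ?_
      simpa [mul_assoc] using Subgroup.Normal.conj_mem inferInstance a ha r⁻¹
  rw [Subgroup.smul_apply_eq_smul_apply_inv_smul, hfix, smul_eq_mul, mul_assoc]

section socle

open MinNormalFactors SocleDiag69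

variable (hcore : Cfsg.pPrimeCore p G = ⊥) (hpcore : Cfsg.pCore p G = ⊥)

include hcore hpcore in
theorem mns_facts {M : Subgroup G} (hM : IsMNS M) :
    ¬ IsMulCommutative M ∧ commutator M = ⊤ ∧ (P : Subgroup G) ⊓ M ≠ ⊥ := by
  haveI := hM.normal
  have hp : p.Prime := Fact.out
  have hdvd : p ∣ Nat.card M := by
    by_contra h
    refine hM.ne_bot (le_bot_iff.1 (hcore ▸ HallCore.le_pPrimeCore ?_))
    exact (hp.coprime_iff_not_dvd.2 h).symm
  have hab : ¬ IsMulCommutative M := by
    intro hc
    obtain ⟨S⟩ : Nonempty (Sylow p M) := inferInstance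
    haveI hSn : (S : Subgroup M).Normal := ⟨fun a ha g => by
      have : g * a = a * g := hc.is_comm.comm g a
      rwa [this, mul_inv_cancel_right]⟩
    haveI := S.characteristic_of_normal hSn
    haveI : ((S : Subgroup M).map M.subtype).Normal := ConjAct.normal_of_characteristic_of_normal
    have h0 : (S : Subgroup M).map M.subtype = ⊥ :=
      le_bot_iff.1 (hpcore ▸ HallCore.le_pCore (S.isPGroup'.map _))
    rw [map_eq_bot_iff_of_injective _ M.subtype_injective] at h0
    exact S.ne_bot_of_dvd_card hdvd h0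
  refine ⟨hab, commutator_eq_top_of_eq (commutator_eq hM hab), fun h => ?_⟩
  obtain ⟨z, hz⟩ := exists_prime_orderOf_dvd_card' p hdvd
  obtain ⟨T, hT⟩ := (IsPGroup.of_card (p := p) (n := 1) (G := zpowers (z : G))
    (by rw [Nat.card_zpowers, Subgroup.orderOf_coe, hz, pow_one])).exists_le_sylow
  obtain ⟨g, hg⟩ := MulAction.exists_smul_eq G T P
  have hmem : g * (z : G) * g⁻¹ ∈ (P : Subgroup G) ⊓ M := by
    refine ⟨?_, hM.normal.conj_mem _ z.2 g⟩
    rw [← hg, Sylow.coe_subgroup_smul]
    exact ⟨z, hT (mem_zpowers _), rfl⟩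
  rw [h, mem_bot, conj_eq_one_iff, OneMemClass.coe_eq_one] at hmem
  rw [hmem, orderOf_one] at hz
  exact hp.one_lt.ne hz

include hcore hpcore in
theorem mns_unique
    (hidx : (⁅(P : Subgroup G), (P : Subgroup G)⁆).relIndex (P : Subgroup G) = p ^ 2)
    (hcard : Nat.card (P : Subgroup G) ≠ p ^ 2)
    {M₁ M₂ : Subgroup G} (h₁ : IsMNS M₁) (h₂ : IsMNS M₂) : M₁ = M₂ := by
  haveI := h₁.normal
  haveI := h₂.normal
  by_contra hne
  have hinf : M₁ ⊓ M₂ = ⊥ := by
    rcases h₁.min (M₁ ⊓ M₂) inferInstance inf_le_left with h | h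
    · exact h
    rcases h₂.min (M₁ ⊓ M₂) inferInstance inf_le_right with h' | h'
    · exact h'
    exact absurd (h.symm.trans h') hne
  obtain ⟨-, hp₁, hn₁⟩ := mns_facts P hcore hpcore h₁
  obtain ⟨-, hp₂, hn₂⟩ := mns_facts P hcore hpcore h₂
  have hN : ∀ M : Subgroup G, M.Normal → (P : Subgroup G) ≤ normalizer (M : Set G) := fun M hM => by
    haveI := hM
    rw [normalizer_eq_top]; exact le_top
  rcases sylow_dichotomy P hidx (hN M₁ h₁.normal) (not_inf_le_commutator P (hN M₁ h₁.normal) hp₁ hn₁)
    with h | ⟨h, -⟩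
  · exact hn₂ (le_bot_iff.1 (hinf ▸ inf_le_inf_right M₂ h))
  rcases sylow_dichotomy P hidx (hN M₂ h₂.normal) (not_inf_le_commutator P (hN M₂ h₂.normal) hp₂ hn₂)
    with h' | ⟨h', -⟩
  · exact hn₁ (le_bot_iff.1 (hinf ▸ le_inf inf_le_right (inf_le_left.trans h')))
  exact commutator_ne_bot P hidx hcard (le_bot_iff.1 (hinf ▸ le_inf h h'))

omit [Fact p.Prime] in
/-- `P` meets a normal subgroup in a Sylow subgroup. -/
theorem exists_conj_inf [Fact p.Prime] {N S : Subgroup G} [N.Normal] (hSN : S ≤ N) (hS : IsPGroup p S) :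
    ∃ n ∈ N, ∀ s ∈ S, n * s * n⁻¹ ∈ (P : Subgroup G) := by
  have hQp : IsPGroup p (((P : Subgroup G) ⊓ N).subgroupOf N) :=
    (P.isPGroup'.to_le inf_le_left).comap_of_injective _ N.subtype_injective
  obtain ⟨R, hR⟩ := hQp.exists_le_sylow
  have hRe : (R : Subgroup N) = ((P : Subgroup G) ⊓ N).subgroupOf N := by
    refine (eq_of_le_of_card_ge hR ?_).symm
    obtain ⟨T, hT⟩ := (R.isPGroup'.map N.subtype).exists_le_sylow
    obtain ⟨g, hg⟩ := MulAction.exists_smul_eq G T P
    have hle : ((R : Subgroup N).map N.subtype).map (MulAut.conj g).toMonoidHom ≤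
        (P : Subgroup G) ⊓ N := by
      rintro _ ⟨w, hw, rfl⟩
      refine ⟨?_, ?_⟩
      · rw [← hg, Sylow.coe_subgroup_smul]
        exact ⟨w, hT hw, rfl⟩
      · obtain ⟨r, -, rfl⟩ := hw
        exact Subgroup.Normal.conj_mem inferInstance _ r.2 g
    have := card_le_of_le hle
    rw [card_map_of_injective (MulAut.conj g).injective,
      card_map_of_injective N.subtype_injective] at this
    exact this.trans (Nat.card_congr (subgroupOfEquivOfLe inf_le_right).toEquiv).ge
  obtain ⟨T, hT⟩ := (hS.comap_of_injective _ N.subtype_injective).exists_le_sylow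
  obtain ⟨n, hn⟩ := MulAction.exists_smul_eq N T R
  refine ⟨n, n.2, fun s hs => ?_⟩
  have h1 : n * ⟨s, hSN hs⟩ * n⁻¹ ∈ (R : Subgroup N) := by
    rw [← hn, Sylow.coe_subgroup_smul]
    exact ⟨⟨s, hSN hs⟩, hT hs, rfl⟩
  rw [hRe] at h1
  exact h1.1

include hcore hpcore in
theorem factor_facts {N : Subgroup G} (hN : IsMNS N) {U : Subgroup G} (hU : IsFactor N U) :
    commutator U = ⊤ ∧ (P : Subgroup G) ⊓ U ≠ ⊥ := by
  have hp : p.Prime := Fact.out
  haveI := hN.normal
  obtain ⟨hab, -, hPN⟩ := mns_facts P hcore hpcore hN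
  haveI := MinNormalFactors.isSimpleGroup hN hU
  constructor
  · rcases IsSimpleGroup.eq_bot_or_eq_top_of_normal (commutator U) inferInstance with h | h
    · exfalso
      refine not_abelian hN hab hU (PGroupsBasic.isMulCommutative_of_forall fun a ha b hb => ?_)
      have h' : ⁅(⟨a, ha⟩ : U), (⟨b, hb⟩ : U)⁆ ∈ commutator U :=
        commutator_mem_commutator (mem_top _) (mem_top _)
      rw [h, mem_bot] at h'
      exact congrArg Subtype.val (commutatorElement_eq_one_iff_mul_comm.1 h')
    · exact h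
  · intro h
    by_cases hd : p ∣ Nat.card U
    · obtain ⟨z, hz⟩ := exists_prime_orderOf_dvd_card' p hd
      obtain ⟨n, hn, hnS⟩ := exists_conj_inf P (N := N) (S := zpowers (z : G))
        (zpowers_le.2 (hU.le z.2)) (IsPGroup.of_card (p := p) (n := 1)
        (by rw [Nat.card_zpowers, Subgroup.orderOf_coe, hz, pow_one]))
      have hmem : n * (z : G) * n⁻¹ ∈ (P : Subgroup G) ⊓ U :=
        ⟨hnS z (mem_zpowers _), conj_mem_of_le_normalizer (hU.normalized hn) z.2⟩
      rw [h, mem_bot, conj_eq_one_iff, OneMemClass.coe_eq_one] at hmem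
      rw [hmem, orderOf_one] at hz
      exact hp.one_lt.ne hz
    · refine hPN (eq_bot_iff.2 fun q hq => ?_)
      rw [mem_bot]
      have : (⟨q, hq.2⟩ : N) = 1 := by
        refine proj_ext hN hab fun V => ?_
        rw [map_one]
        obtain ⟨g, hg⟩ := exists_conj hN hab hU V.2
        have hc : Nat.card V.1 = Nat.card U := by
          rw [← hg, conjSub, card_map_of_injective (MulAut.conj g).injective]
        obtain ⟨k, hk⟩ := IsPGroup.iff_orderOf.1 P.isPGroup' ⟨q, hq.1⟩
        rw [orderOf_mk] at hk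
        rw [← orderOf_eq_one_iff]
        refine Nat.eq_one_of_dvd_coprimes ((hp.coprime_iff_not_dvd.2 hd).pow_left k) ?_
          (hc ▸ _root_.orderOf_dvd_natCard _)
        exact (orderOf_map_dvd _ _).trans ((orderOf_mk _ _).trans hk).dvd
      exact congrArg Subtype.val this

include hcore hpcore in
/-- No simple factor is normalized by `P`. -/
theorem not_le_normalizer_factor
    (hidx : (⁅(P : Subgroup G), (P : Subgroup G)⁆).relIndex (P : Subgroup G) = p ^ 2)
    (hcard : Nat.card (P : Subgroup G) ≠ p ^ 2) {N : Subgroup G} (hN : IsMNS N)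
    {U U' : Subgroup G} (hU : IsFactor N U) (hU' : IsFactor N U') (hne : U ≠ U') :
    ¬ (P : Subgroup G) ≤ normalizer (U : Set G) := by
  intro hPU
  haveI := hN.normal
  obtain ⟨hperf, hnU⟩ := factor_facts P hcore hpcore hN hU
  obtain ⟨hperf', hnU'⟩ := factor_facts P hcore hpcore hN hU'
  have hinf := hU.inf_eq_bot hU' hne
  have hno : ¬ (P : Subgroup G) ≤ U := fun h =>
    hnU' (le_bot_iff.1 (hinf ▸ inf_le_inf_right U' h))
  obtain ⟨hP'U, hUi⟩ :=
    (sylow_dichotomy P hidx hPU (not_inf_le_commutator P hPU hperf hnU)).resolve_left hno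
  by_cases hPN : (P : Subgroup G) ≤ N
  · have hPU' : (P : Subgroup G) ≤ normalizer (U' : Set G) := hPN.trans hU'.normalized
    have hno' : ¬ (P : Subgroup G) ≤ U' := fun h =>
      hnU (le_bot_iff.1 (hinf ▸ le_inf inf_le_right (inf_le_left.trans h)))
    obtain ⟨hP'U', -⟩ :=
      (sylow_dichotomy P hidx hPU' (not_inf_le_commutator P hPU' hperf' hnU')).resolve_left hno'
    exact commutator_ne_bot P hidx hcard (le_bot_iff.1 (hinf ▸ le_inf hP'U hP'U'))
  · have h1 := relIndex_dvd_of_le_left (P : Subgroup G) hU.le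
    rw [hUi] at h1
    have h2 : N.relIndex (P : Subgroup G) = p := by
      rcases (Nat.dvd_prime (Fact.out : p.Prime)).1 h1 with h | h
      · exact absurd (relIndex_eq_one.1 h) hPN
      · exact h
    have h3 : N.subgroupOf (P : Subgroup G) = U.subgroupOf (P : Subgroup G) := by
      refine (eq_of_le_of_card_ge (show U.subgroupOf (P : Subgroup G) ≤ N.subgroupOf (P : Subgroup G) from fun x hx => hU.le hx) ?_).symm
      have e1 := card_mul_index (U.subgroupOf (P : Subgroup G))
      have e2 := card_mul_index (N.subgroupOf (P : Subgroup G))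
      rw [show (U.subgroupOf (P : Subgroup G)).index = p from hUi] at e1
      rw [show (N.subgroupOf (P : Subgroup G)).index = p from h2] at e2
      exact (Nat.eq_of_mul_eq_mul_right (Fact.out : p.Prime).pos (e2.trans e1.symm)).le
    refine hnU' (le_bot_iff.1 ?_)
    rw [← hinf]
    rintro x ⟨hxP, hxU'⟩
    refine ⟨?_, hxU'⟩
    have : (⟨x, hxP⟩ : (P : Subgroup G)) ∈ N.subgroupOf (P : Subgroup G) := hU'.le hxU'
    rw [h3] at this
    exact this

include hcore hpcore in
/-- `P` has an abelian subgroup `P ∩ N` of index `p`, `N` normal in `G`. -/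
theorem exists_abelian_of_socle
    (hidx : (⁅(P : Subgroup G), (P : Subgroup G)⁆).relIndex (P : Subgroup G) = p ^ 2)
    (hcard : Nat.card (P : Subgroup G) ≠ p ^ 2)
    (hnas : ¬ ∃ S : Subgroup G, S.Normal ∧ IsSimpleGroup S ∧ ¬ IsMulCommutative S ∧
      Subgroup.centralizer (S : Set G) = ⊥) :
    ∃ N : Subgroup G, N.Normal ∧ N.relIndex (P : Subgroup G) = p ∧
      IsMulCommutative (N.subgroupOf (P : Subgroup G)) := by
  classical
  have hp : p.Prime := Fact.out
  haveI : Nontrivial G := by
    by_contra h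
    rw [not_nontrivial_iff_subsingleton] at h
    refine commutator_ne_bot P hidx hcard (Subsingleton.elim _ _)
  obtain ⟨N, -, hN⟩ := exists_isMNS_le (⊤ : Subgroup G) top_ne_bot
  haveI := hN.normal
  obtain ⟨hab, hperf, hPN⟩ := mns_facts P hcore hpcore hN
  have hCN : centralizer (N : Set G) = ⊥ := by
    by_contra hne
    obtain ⟨M, hMC, hM⟩ := exists_isMNS_le _ hne
    rw [mns_unique P hcore hpcore hidx hcard hM hN] at hMC
    exact hab (le_centralizer_iff_isMulCommutative.1 hMC)
  -- two different factors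
  obtain ⟨T, -, hT⟩ := exists_isFactor_le N le_rfl hN.ne_bot le_normalizer
  obtain ⟨g, hg⟩ : ∃ g : G, g ∉ normalizer (T : Set G) := by
    by_contra hall
    push Not at hall
    haveI hTn : T.Normal := normalizer_eq_top_iff.1 (top_le_iff.1 fun g _ => hall g)
    refine hnas ⟨T, hTn, MinNormalFactors.isSimpleGroup hN hT, not_abelian hN hab hT, ?_⟩
    rwa [(hN.min T hTn hT.le).resolve_left hT.ne_bot]
  have hne : conjSub g T ≠ T := fun h => hg (mem_normalizer_of_conjSub_eq h)
  have hfix : ∀ U : Subgroup G, IsFactor N U → ¬ (P : Subgroup G) ≤ normalizer (U : Set G) := by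
    intro U hU
    by_cases h : U = T
    · exact not_le_normalizer_factor P hcore hpcore hidx hcard hN hU (hT.conj hN.normal g)
        (h ▸ hne.symm)
    · exact not_le_normalizer_factor P hcore hpcore hidx hcard hN hU hT h
  have hPnN : (P : Subgroup G) ≤ normalizer (N : Set G) := by
    rw [normalizer_eq_top]; exact le_top
  obtain ⟨hP'N, hNi⟩ := (sylow_dichotomy P hidx hPnN (not_inf_le_commutator P hPnN hperf hPN)).resolve_left
    (fun h => hfix T hT (h.trans hT.normalized))
  refine ⟨N, hN.normal, hNi, ?_⟩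
  set Qs := N.subgroupOf (P : Subgroup G) with hQs
  haveI : Qs.Normal := normal_subgroupOf_of_le_normalizer hPnN
  have hQi : Qs.index = p := hNi
  -- the intersection with every factor is abelian
  have hB : ∀ U : Fac N, IsMulCommutative ((P : Subgroup G) ⊓ U.1 : Subgroup G) ∧
      ∀ q : Qs, (proj hN hab U ⟨((q : (P : Subgroup G)) : G), q.2⟩ : G) ∈ (P : Subgroup G) := by
    intro U
    set B := (P : Subgroup G) ⊓ U.1 with hBdef
    have hBp : IsPGroup p B := P.isPGroup'.to_le inf_le_left
    let π : Qs →* (U.1 : Subgroup G) := (proj hN hab U).comp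
      { toFun := fun q => ⟨((q : (P : Subgroup G)) : G), q.2⟩, map_one' := rfl,
        map_mul' := fun _ _ => rfl }
    have hπ : ∀ q : Qs, (π q : G) ∈ (P : Subgroup G) := by
      have hR : IsPGroup p π.range :=
        (P.isPGroup'.to_subgroup Qs).of_surjective π.rangeRestrict π.rangeRestrict_surjective
      have hle : B.subgroupOf U.1 ≤ π.range := by
        intro b hb
        refine ⟨⟨⟨(b : G), hb.1⟩, U.2.le b.2⟩, ?_⟩
        exact proj_self hN hab U b
      have hge : Nat.card π.range ≤ Nat.card (B.subgroupOf U.1) := by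
        obtain ⟨n, hn, hnS⟩ := exists_conj_inf P (N := N) (S := π.range.map U.1.subtype)
          ((map_subtype_le _).trans U.2.le) (hR.map _)
        have hsub : (π.range.map U.1.subtype).map (MulAut.conj n).toMonoidHom ≤ B := by
          rintro _ ⟨w, hw, rfl⟩
          exact ⟨hnS w hw, conj_mem_of_le_normalizer (U.2.normalized hn) (map_subtype_le _ hw)⟩
        have h1 := card_le_of_le hsub
        rw [card_map_of_injective (MulAut.conj n).injective,
          card_map_of_injective U.1.subtype_injective] at h1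
        exact h1.trans (Nat.card_congr (subgroupOfEquivOfLe (inf_le_right : B ≤ U.1)).toEquiv).ge
      intro q
      have : π q ∈ B.subgroupOf U.1 := by
        rw [eq_of_le_of_card_ge hle hge]; exact ⟨q, rfl⟩
      exact this.1
    refine ⟨?_, hπ⟩
    let ψ : Qs →* B := MonoidHom.mk' (fun q => ⟨π q, hπ q, (π q).2⟩) fun a b =>
      Subtype.ext (by simp)
    let ϕ : Qs →* Abelianization B := Abelianization.of.comp ψ
    set τ := MonoidHom.transfer ϕ with hτ
    -- the stabilizer of the factor in `P` is `P ∩ N`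
    have hst : ∀ r : (P : Subgroup G), (r : G) ∈ normalizer (U.1 : Set G) → r ∈ Qs := by
      have h1 : Qs ≤ (normalizer (U.1 : Set G)).subgroupOf (P : Subgroup G) :=
        fun r hr => U.2.normalized hr
      rcases (PGroupsBasic.isCoatom_of_index_eq (p := p) hQi).le_iff.1 h1 with h | h
      · exact absurd (subgroupOf_eq_top.1 h) (hfix U.1 U.2)
      · exact fun r hr => h.le hr
    have hτb : ∀ b : B, τ ⟨(b : G), b.2.1⟩ = Abelianization.of b := by
      intro b
      set a : (P : Subgroup G) := ⟨(b : G), b.2.1⟩ with ha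
      have haQ : a ∈ Qs := U.2.le b.2.2
      obtain ⟨T₀⟩ : Nonempty Qs.LeftTransversal := inferInstance
      letI := Qs.fintypeQuotientOfFiniteIndex
      rw [hτ, transfer_apply_of_mem ϕ T₀ haQ]
      set α := T₀.2.leftQuotientEquiv with hα
      rw [Fintype.prod_eq_single ((1 : (P : Subgroup G)) : (P : Subgroup G) ⧸ Qs)]
      · set r : (P : Subgroup G) :=
          (α ((1 : (P : Subgroup G)) : (P : Subgroup G) ⧸ Qs) : (P : Subgroup G)) with hr
        have hrQ : r ∈ Qs := by
          have h2 := α.symm_apply_apply ((1 : (P : Subgroup G)) : (P : Subgroup G) ⧸ Qs)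
          have h3 : ((r : (P : Subgroup G)) : (P : Subgroup G) ⧸ Qs) =
              ((1 : (P : Subgroup G)) : (P : Subgroup G) ⧸ Qs) := h2
          rwa [QuotientGroup.eq, mul_one, inv_mem_iff] at h3
        have hψa : ψ ⟨a, haQ⟩ = b := Subtype.ext (show (π ⟨a, haQ⟩ : G) = (b : G) from
          congrArg Subtype.val (proj_self hN hab U ⟨(b : G), b.2.2⟩))
        refine (congrArg ϕ (Subtype.ext ?_ : _ = (⟨r, hrQ⟩ : Qs)⁻¹ * ⟨a, haQ⟩ * ⟨r, hrQ⟩)).trans ?_
        · simp [hr]
        · rw [map_mul, map_mul, map_inv, inv_mul_cancel_comm]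
          exact congrArg Abelianization.of hψa
      · intro c hc
        set r : (P : Subgroup G) := (α c : (P : Subgroup G)) with hr
        have hrQ : r ∉ Qs := by
          intro hrQ
          refine hc ?_
          have h2 := α.symm_apply_apply c
          rw [← h2]
          show ((r : (P : Subgroup G)) : (P : Subgroup G) ⧸ Qs) = _
          rw [QuotientGroup.eq, mul_one, inv_mem_iff]
          exact hrQ
        have hrn : (r : G)⁻¹ ∉ normalizer (U.1 : Set G) := fun h =>
          hrQ (hst r (inv_mem_iff.1 h))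
        have hother : (⟨conjSub (r : G)⁻¹ U.1, U.2.conj hN.normal _⟩ : Fac N) ≠ U := fun h =>
          hrn (mem_normalizer_of_conjSub_eq (congrArg Subtype.val h))
        have hmem : r⁻¹ * a * r ∈ Qs := by
          simpa using Subgroup.Normal.conj_mem inferInstance a haQ r⁻¹
        refine (congrArg ϕ (Subtype.ext ?_ : _ = (⟨r⁻¹ * a * r, hmem⟩ : Qs))).trans ?_
        · simp [hr]
        · have hz : (r : G)⁻¹ * (b : G) * r ∈ conjSub (r : G)⁻¹ U.1 := by
            rw [mem_conjSub]; simpa [mul_assoc] using b.2.2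
          have h4 : ψ ⟨r⁻¹ * a * r, hmem⟩ = 1 := Subtype.ext (show (π ⟨r⁻¹ * a * r, hmem⟩ : G) = 1 from
            congrArg Subtype.val (proj_other hN hab hother ⟨(r : G)⁻¹ * (b : G) * r, hz⟩))
          show Abelianization.of (ψ ⟨r⁻¹ * a * r, hmem⟩) = 1
          rw [h4, map_one]
    -- counting
    have hsurj : Function.Surjective (τ.comp Qs.subtype) := by
      intro x
      induction x using QuotientGroup.induction_on with
      | H b => exact ⟨⟨⟨(b : G), b.2.1⟩, U.2.le b.2.2⟩, hτb b⟩
    have hrel : (commutator (P : Subgroup G)).relIndex Qs = p := by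
      have hle : commutator (P : Subgroup G) ≤ Qs := fun x hx => by
        have h1 : (x : G) ∈ ⁅(P : Subgroup G), (P : Subgroup G)⁆ := by
          rw [← map_subtype_commutator]; exact ⟨x, hx, rfl⟩
        exact hP'N h1
      have h1 := relIndex_mul_index hle
      rw [hQi, index_commutator_eq, hidx, sq] at h1
      exact Nat.eq_of_mul_eq_mul_right hp.pos h1
    have hdvd : Nat.card (Abelianization B) ∣ p := by
      have h1 := index_ker (τ.comp Qs.subtype)
      rw [MonoidHom.range_eq_top.2 hsurj, card_top] at h1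
      rw [← h1]
      refine dvd_trans ?_ hrel.dvd
      refine index_dvd_of_le fun x hx => ?_
      rw [MonoidHom.mem_ker]
      exact Abelianization.commutator_subset_ker τ hx
    have hbot := commutator_eq_bot_of_index hBp
      (show (commutator B).index ∣ p by rw [index_eq_card]; exact hdvd)
    refine PGroupsBasic.isMulCommutative_of_forall fun a ha b hb => ?_
    have h' : ⁅(⟨a, ha⟩ : B), (⟨b, hb⟩ : B)⁆ ∈ commutator B :=
      commutator_mem_commutator (mem_top _) (mem_top _)
    rw [hbot, mem_bot] at h'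
    exact congrArg Subtype.val (commutatorElement_eq_one_iff_mul_comm.1 h')
  refine PGroupsBasic.isMulCommutative_of_forall fun a ha b hb => Subtype.ext ?_
  have : (⟨(a : G), ha⟩ : N) * ⟨(b : G), hb⟩ = ⟨(b : G), hb⟩ * ⟨(a : G), ha⟩ := by
    refine proj_ext hN hab fun U => Subtype.ext ?_
    rw [map_mul, map_mul, Subgroup.coe_mul, Subgroup.coe_mul]
    exact PGroupsBasic.comm_of_isMulCommutative (hB U).1
      ⟨(hB U).2 ⟨a, ha⟩, (proj hN hab U _).2⟩ ⟨(hB U).2 ⟨b, hb⟩, (proj hN hab U _).2⟩
  simpa using congrArg Subtype.val this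

end socle

/-- Existence of an abelian `P ∩ N` of index `p`. -/
theorem exists_abelian (hcore : Cfsg.pPrimeCore p G = ⊥)
    (hcore' : (⁅(P : Subgroup G), (P : Subgroup G)⁆).normalCore = ⊥)
    (hnas : ¬ ∃ S : Subgroup G, S.Normal ∧ IsSimpleGroup S ∧ ¬ IsMulCommutative S ∧
      Subgroup.centralizer (S : Set G) = ⊥)
    (hidx : (⁅(P : Subgroup G), (P : Subgroup G)⁆).relIndex (P : Subgroup G) = p ^ 2)
    (hcard : Nat.card (P : Subgroup G) ≠ p ^ 2) :
    ∃ N : Subgroup G, N.Normal ∧ N.relIndex (P : Subgroup G) = p ∧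
      IsMulCommutative (N.subgroupOf (P : Subgroup G)) := by
  by_cases hpc : Cfsg.pCore p G = ⊥
  · exact exists_abelian_of_socle P hcore hpc hidx hcard hnas
  haveI := HallCore.pCore_normal p G
  obtain ⟨W, hWle, hW⟩ := MinNormalFactors.exists_isMNS_le (Cfsg.pCore p G) hpc
  haveI := hW.normal
  have hWP : W ≤ (P : Subgroup G) := hWle.trans (HallCore.pCore_le_sylow P)
  have hWp : IsPGroup p W := P.isPGroup'.to_le hWP
  have hWc : IsMulCommutative W := by
    by_contra hab
    haveI : Nontrivial W := (nontrivial_iff_ne_bot W).2 hW.ne_bot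
    haveI : Group.IsNilpotent W := hWp.isNilpotent
    exact (Group.IsSolvable.commutator_lt_top_of_nontrivial W).ne
      (commutator_eq_top_of_eq (MinNormalFactors.commutator_eq hW hab))
  have hne : ¬ (P : Subgroup G) ⊓ W ≤ ⁅(P : Subgroup G), (P : Subgroup G)⁆ := by
    rw [inf_eq_right.2 hWP]
    intro h
    exact hW.ne_bot (le_bot_iff.1 (hcore' ▸ normal_le_normalCore.2 h))
  rcases sylow_dichotomy P hidx (by rw [normalizer_eq_top]; exact le_top) hne with h | ⟨-, h⟩
  · exfalso
    refine commutator_ne_bot P hidx hcard ?_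
    rw [← le_antisymm hWP h]
    exact commutator_eq_bot_iff_le_centralizer.2 (le_centralizer_iff_isMulCommutative.2 hWc)
  · exact ⟨W, hW.normal, h, PGroupsBasic.isMulCommutative_of_forall fun a ha b hb =>
      Subtype.ext (PGroupsBasic.comm_of_isMulCommutative hWc ha hb)⟩

/-- Centralizers of elements outside an abelian subgroup of index `p`. -/
theorem card_centralizer_eq {N : Subgroup G} [N.Normal] (hNi : N.relIndex (P : Subgroup G) = p)
    (hab : IsMulCommutative (N.subgroupOf (P : Subgroup G)))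
    (hidx : (⁅(P : Subgroup G), (P : Subgroup G)⁆).relIndex (P : Subgroup G) = p ^ 2)
    {y : G} (hy : y ∈ (P : Subgroup G)) (hyN : y ∉ N) :
    Nat.card ((P : Subgroup G) ⊓ centralizer ({y} : Set G) : Subgroup G) = p ^ 2 := by
  have hp : p.Prime := Fact.out
  set Qs := N.subgroupOf (P : Subgroup G) with hQs
  have hQi : Qs.index = p := hNi
  have h := S4586.index_eq p P.isPGroup' Qs hQi (x := ⟨y, hy⟩) hyN
  have hbot : commutator Qs = ⊥ := by
    rw [_root_.commutator_def, eq_bot_iff, commutator_le]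
    intro a _ b _
    rw [mem_bot, commutatorElement_eq_one_iff_mul_comm]
    exact hab.is_comm.comm a b
  rw [index_commutator_eq, hidx, hbot, card_bot, mul_one, sq] at h
  have hc := Nat.eq_of_mul_eq_mul_left hp.pos h
  set C := (P : Subgroup G) ⊓ centralizer ({y} : Set G) with hC
  have hCN : Nat.card (C ⊓ N : Subgroup G) = p := by
    rw [hc]
    refine Nat.card_congr
      { toFun := fun w => ⟨⟨⟨(w : G), w.2.1.1⟩, w.2.2⟩, ?_⟩
        invFun := fun n => ⟨((n.1 : (P : Subgroup G)) : G), ⟨(n.1 : (P : Subgroup G)).2, ?_⟩, n.1.2⟩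
        left_inv := fun w => rfl
        right_inv := fun n => rfl }
    · refine ⟨1, one_mem _, Subtype.ext ?_⟩
      have := (mem_centralizer_singleton_iff.1 w.2.1.2)
      simp only [map_one, OneMemClass.coe_one, Subgroup.coe_mul, InvMemClass.coe_inv]
      rw [← this]; group
    · obtain ⟨z, hz, hzn⟩ := n.2
      rw [mem_bot.1 hz, map_one] at hzn
      have h1 := congrArg Subtype.val hzn
      simp only [OneMemClass.coe_one, Subgroup.coe_mul, InvMemClass.coe_inv] at h1
      rw [eq_comm, mul_inv_eq_one, mul_inv_eq_iff_eq_mul] at h1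
      exact mem_centralizer_singleton_iff.2 h1.symm
  obtain ⟨k, hk⟩ := IsPGroup.iff_card.1 (P.isPGroup'.to_le (inf_le_left : C ≤ P))
  have hup : Nat.card C ≤ p ^ 2 := by
    have h1 : Nat.card C = Nat.card (C ⊓ N : Subgroup G) * (C ⊓ N).relIndex C := by
      have := relIndex_mul_index (inf_le_left : C ⊓ N ≤ C)
      rw [← (((C ⊓ N).subgroupOf C).card_mul_index), relIndex,
        Nat.card_congr (subgroupOfEquivOfLe (inf_le_left : C ⊓ N ≤ C)).toEquiv]
    rw [h1, hCN, sq]
    refine Nat.mul_le_mul_left _ ?_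
    rw [inf_relIndex_left, ← hNi]
    rw [← relIndex_subgroupOf (inf_le_left : C ≤ (P : Subgroup G))]
    exact Nat.le_of_dvd (Nat.pos_of_ne_zero index_ne_zero_of_finite)
      (relIndex_dvd_index_of_normal _ _)
  have hlow : p < Nat.card C := by
    rw [← hCN]
    refine lt_of_le_of_ne (card_le_of_le inf_le_left) fun heq => hyN ?_
    have := eq_of_le_of_card_ge (inf_le_left : C ⊓ N ≤ C) heq.ge
    exact (this.ge (show y ∈ C from ⟨hy, mem_centralizer_singleton_iff.2 rfl⟩)).2
  rw [hk] at hup hlow ⊢
  have h1 : k ≤ 2 := (Nat.pow_le_pow_iff_right hp.one_lt).1 hup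
  have h2 : 1 < k := by
    by_contra hle
    exact absurd ((Nat.pow_le_pow_right hp.pos (not_lt.1 hle)).trans (pow_one p).le) hlow.not_ge
  rw [show k = 2 by omega]

end Cfsg.Agent.SylowAbelianizationSq
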