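import Mathlib
import Cfsg.Agent.Lib.GolayPerm

/-!
Groups generated by encoded permutations along a composition series with factors of order two:
element lists, orders, and evaluation of counts of fixed points.
-/

set_option autoImplicit false

namespace Cfsg.Agent.SylowCertCodes

open Cfsg Cfsg.Agent.GolayBasic Cfsg.Agent.GolayPerm

/-- pack a list of point numbers -/
def encL : List ℕ → ℕ
  | [] => 0
  | v :: l => v + 32 * encL l

/-- canonical code of a composition -/
def pcomp (P Q : ℕ) : ℕ := encL (pts.map fun i => pimg P (pimg Q i))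

/-- canonical form of a code -/
def pnorm (P : ℕ) : ℕ := encL (pts.map (pimg P))

/-- the code of the identity -/
def pid : ℕ := encL pts

theorem pimg_encL (l : List ℕ) : ∀ (i : ℕ) (h : i < l.length), (∀ v ∈ l, v < 32) → pimg (encL l) i = l[i] := by
  induction l with
  | nil => intro i h; simp at h
  | cons v l ih =>
    intro i h hl
    rw [List.forall_mem_cons] at hl
    have hm : ∀ x : ℕ, x &&& 31 = x % 32 := fun x => Nat.and_two_pow_sub_one_eq_mod x 5
    cases i with
    | zero =>
      simp only [pimg, encL, Nat.mul_zero, Nat.shiftRight_zero, List.getElem_cons_zero, hm]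
      omega
    | succ i =>
      have e : (v + 32 * encL l) >>> (5 * (i + 1)) = encL l >>> (5 * i) := by
        rw [show 5 * (i + 1) = 5 + 5 * i by ring, Nat.shiftRight_add]
        congr 1
        rw [Nat.shiftRight_eq_div_pow]
        omega
      have := ih i (by simpa using h) hl.2
      simp only [pimg] at this ⊢
      rw [encL, e, this, List.getElem_cons_succ]

theorem pts_length : pts.length = 24 := rfl

theorem pts_get (i : ℕ) (hi : i < pts.length) : pts[i] = i := by
  simp only [show pts = List.range 24 from rfl, List.getElem_range]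

theorem pimg_pcomp {P Q i : ℕ} (hP : valid P = true) (hQ : valid Q = true) (hi : i < 24) :
    pimg (pcomp P Q) i = pimg P (pimg Q i) := by
  rw [pcomp, pimg_encL _ i (by simpa [pts_length] using hi)]
  · rw [List.getElem_map, pts_get]
  · intro v hv
    rw [List.mem_map] at hv
    obtain ⟨j, hj, rfl⟩ := hv
    exact lt_trans (pimg_lt hP (pimg_lt hQ (mem_pts.1 hj))) (by norm_num)

/-- `R` encodes the permutation `σ` -/
def Codes (R : ℕ) (σ : Equiv.Perm GolayPt) : Prop := valid R = true ∧ permOf R = σ

theorem valid_of_apply {R : ℕ} (σ : Equiv.Perm GolayPt)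
    (h : ∀ i < 24, pimg R i < 24 ∧ pt (pimg R i) = σ (pt i)) : valid R = true := by
  simp only [valid, Bool.and_eq_true, List.all_eq_true, decide_eq_true_eq, beq_iff_eq]
  refine ⟨fun i hi => (h i (mem_pts.1 hi)).1, eq_of_testBit_lt ?_ (by norm_num) fun j hj => ?_⟩
  · apply Nat.lt_pow_two_of_testBit
    intro j hj
    by_contra hc
    rw [Bool.not_eq_false, testBit_pmask] at hc
    obtain ⟨i, hi, -, rfl⟩ := hc
    exact absurd (h i hi).1 (by omega)
  · have h2 : (16777215 : ℕ).testBit j = true := by
      rw [show (16777215 : ℕ) = 2 ^ 24 - 1 by norm_num, Nat.testBit_two_pow_sub_one]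
      simpa using hj
    rw [h2, testBit_pmask]
    refine ⟨idx (σ.symm (pt j)), idx_lt _, ?_, ?_⟩
    · rw [show (16777215 : ℕ) = 2 ^ 24 - 1 by norm_num, Nat.testBit_two_pow_sub_one]
      simp [idx_lt]
    · have hh := h (idx (σ.symm (pt j))) (idx_lt _)
      rw [pt_idx, Equiv.apply_symm_apply] at hh
      rw [← idx_pt hh.1, hh.2, idx_pt hj]

theorem pcomp_spec {P Q : ℕ} (hP : valid P = true) (hQ : valid Q = true) :
    valid (pcomp P Q) = true ∧ permOf (pcomp P Q) = permOf P * permOf Q := by
  have h : ∀ i < 24, pimg (pcomp P Q) i < 24 ∧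
      pt (pimg (pcomp P Q) i) = (permOf P * permOf Q) (pt i) := by
    intro i hi
    rw [pimg_pcomp hP hQ hi, Equiv.Perm.mul_apply, permOf_apply hQ, permOf_apply hP]
    simp only [pfun, idx_pt hi, idx_pt (pimg_lt hQ hi)]
    exact ⟨pimg_lt hP (pimg_lt hQ hi), trivial⟩
  have hv := valid_of_apply _ h
  refine ⟨hv, Equiv.ext fun p => ?_⟩
  rw [← pt_idx p, permOf_apply hv, pfun, idx_pt (idx_lt p), (h _ (idx_lt p)).2]

theorem pnorm_eq {P Q : ℕ} (hP : valid P = true) (hQ : valid Q = true)
    (h : permOf P = permOf Q) : pnorm P = pnorm Q := by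
  refine congrArg encL (List.map_congr_left fun i hi => ?_)
  have hi' := mem_pts.1 hi
  have e := congrArg (fun σ : Equiv.Perm GolayPt => idx (σ (pt i))) h
  simpa [permOf_apply hP, permOf_apply hQ, pfun, idx_pt hi', idx_pt (pimg_lt hP hi'),
    idx_pt (pimg_lt hQ hi')] using e

theorem pnorm_pcomp {P Q : ℕ} (hP : valid P = true) (hQ : valid Q = true) :
    pnorm (pcomp P Q) = pcomp P Q := by
  exact congrArg encL (List.map_congr_left fun i hi => pimg_pcomp hP hQ (mem_pts.1 hi))

theorem pid_spec : valid pid = true ∧ pnorm pid = pid ∧ permOf pid = 1 := by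
  refine ⟨by decide +kernel, by decide +kernel, ?_⟩
  have hv : valid pid = true := by decide +kernel
  have h : ∀ i ∈ pts, pimg pid i = i := by decide +kernel
  refine Equiv.ext fun p => ?_
  rw [permOf_apply hv, pfun, h _ (mem_pts.2 (idx_lt p)), pt_idx]
  rfl

/-! ### element lists along a composition series -/

/-- all products of the listed generators, each taken at most once -/
def elems : List ℕ → List ℕ
  | [] => [pid]
  | a :: l => elems l ++ (elems l).map (pcomp a)

/-- the certificate of a composition series with factors of order two (last generator first) -/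
def pcOK : List ℕ → Bool
  | [] => true
  | a :: l => pcOK l && valid a && (pnorm a == a) && (elems l).contains (pcomp a a) &&
      l.all (fun b => ((elems l).map fun e => pcomp e a).contains (pcomp a b)) &&
      !(elems l).contains a

/-- the group generated by the listed codes -/
noncomputable def grp (l : List ℕ) : Subgroup (Equiv.Perm GolayPt) :=
  Subgroup.closure {σ | ∃ a ∈ l, permOf a = σ}

theorem elems_valid : ∀ {l : List ℕ}, (∀ a ∈ l, valid a = true) →
    ∀ e ∈ elems l, valid e = true ∧ pnorm e = e := by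
  intro l
  induction l with
  | nil =>
    intro _ e he
    rw [elems, List.mem_singleton] at he
    subst he
    exact ⟨pid_spec.1, pid_spec.2.1⟩
  | cons a l ih =>
    intro h e he
    rw [List.forall_mem_cons] at h
    rw [elems, List.mem_append] at he
    rcases he with he | he
    · exact ih h.2 e he
    · obtain ⟨f, hf, rfl⟩ := List.mem_map.1 he
      exact ⟨(pcomp_spec h.1 (ih h.2 f hf).1).1, pnorm_pcomp h.1 (ih h.2 f hf).1⟩

theorem valid_of_pcOK : ∀ {l : List ℕ}, pcOK l = true → ∀ a ∈ l, valid a = true := by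
  intro l
  induction l with
  | nil => simp
  | cons a l ih =>
    intro h
    simp only [pcOK, Bool.and_eq_true] at h
    rw [List.forall_mem_cons]
    exact ⟨h.1.1.1.1.2, ih h.1.1.1.1.1⟩

theorem grp_cons (a : ℕ) (l : List ℕ) :
    grp (a :: l) = grp l ⊔ Subgroup.zpowers (permOf a) := by
  rw [grp, grp, Subgroup.zpowers_eq_closure, ← Subgroup.closure_union]
  congr 1
  ext σ
  simp [or_comm, eq_comm]

theorem permOf_mem_grp {l : List ℕ} {a : ℕ} (h : a ∈ l) : permOf a ∈ grp l :=
  Subgroup.subset_closure ⟨a, h, rfl⟩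

theorem grp_spec : ∀ {l : List ℕ}, pcOK l = true →
    (∀ σ, σ ∈ grp l ↔ ∃ e ∈ elems l, permOf e = σ) ∧ Nat.card (grp l) = 2 ^ l.length := by
  intro l
  induction l with
  | nil =>
    intro _
    have : grp [] = ⊥ := by simp [grp]
    rw [this]
    simp [elems, pid_spec.2.2, eq_comm]
  | cons a l ih =>
    intro h
    have hval := valid_of_pcOK h
    rw [List.forall_mem_cons] at hval
    simp only [pcOK, Bool.and_eq_true, List.all_eq_true, List.contains_iff_mem,
      Bool.not_eq_true', beq_iff_eq] at h
    obtain ⟨⟨⟨⟨⟨hl, -⟩, han⟩, hsq⟩, hconj⟩, hnot⟩ := h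
    obtain ⟨hmem, hcard⟩ := ih hl
    have hv := elems_valid hval.2
    set H := grp l
    set A := permOf a
    have hA2 : A * A ∈ H := (hmem _).2 ⟨_, hsq, (pcomp_spec hval.1 hval.1).2⟩
    have hAH : ∀ σ ∈ H, A * σ * A⁻¹ ∈ H := by
      intro σ hσ
      have hle : H ≤ H.comap (MulAut.conj A).toMonoidHom := by
        rw [show H = grp l from rfl, grp, Subgroup.closure_le]
        rintro _ ⟨b, hb, rfl⟩
        obtain ⟨e, he, hee⟩ := List.mem_map.1 (hconj b hb)
        show A * permOf b * A⁻¹ ∈ H
        have := congrArg permOf hee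
        rw [(pcomp_spec (hv e he).1 hval.1).2, (pcomp_spec hval.1 (hval.2 b hb)).2] at this
        exact (hmem _).2 ⟨e, he, eq_mul_inv_iff_mul_eq.2 this⟩
      exact hle hσ
    have hAn : A ∉ H := by
      intro hA
      obtain ⟨e, he, hee⟩ := (hmem A).1 hA
      have h1 := pnorm_eq (hv e he).1 hval.1 hee
      rw [(hv e he).2, han] at h1
      subst h1
      have : (elems l).contains e = true := List.contains_iff_mem.2 he
      simp_all
    let K : Subgroup (Equiv.Perm GolayPt) :=
      { carrier := {σ | σ ∈ H ∨ A⁻¹ * σ ∈ H}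
        one_mem' := Or.inl H.one_mem
        inv_mem' := by
          rintro σ (hσ | hσ)
          · exact Or.inl (H.inv_mem hσ)
          · refine Or.inr ?_
            have h1 := hAH _ (H.inv_mem hσ)
            have h2 : A⁻¹ * σ⁻¹ = (A * A)⁻¹ * (A * (A⁻¹ * σ)⁻¹ * A⁻¹) := by group
            rw [h2]
            exact H.mul_mem (H.inv_mem hA2) h1
        mul_mem' := by
          have hinv : ∀ σ ∈ H, A⁻¹ * σ * A ∈ H := fun σ hσ => by
            have h1 := hAH σ hσ
            have h2 : A⁻¹ * σ * A = (A * A)⁻¹ * (A * σ * A⁻¹) * (A * A) := by group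
            rw [h2]
            exact H.mul_mem (H.mul_mem (H.inv_mem hA2) h1) hA2
          rintro σ τ (hσ | hσ) (hτ | hτ)
          · exact Or.inl (H.mul_mem hσ hτ)
          · refine Or.inr ?_
            have h2 : A⁻¹ * (σ * τ) = (A⁻¹ * σ * A) * (A⁻¹ * τ) := by group
            rw [h2]
            exact H.mul_mem (hinv σ hσ) hτ
          · refine Or.inr ?_
            rw [← mul_assoc]
            exact H.mul_mem hσ hτ
          · refine Or.inl ?_
            have h2 : σ * τ = (A * (A⁻¹ * σ) * A⁻¹) * (A * A) * (A⁻¹ * τ) := by group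
            rw [h2]
            exact H.mul_mem (H.mul_mem (hAH _ hσ) hA2) hτ }
    have hK : grp (a :: l) = K := by
      rw [grp_cons]
      refine le_antisymm (sup_le (fun σ hσ => Or.inl hσ) (Subgroup.zpowers_le.2 (Or.inr ?_))) ?_
      · rw [inv_mul_cancel]; exact H.one_mem
      · rintro σ (hσ | hσ)
        · exact (le_sup_left : H ≤ _) hσ
        · rw [← mul_inv_cancel_left A σ]
          exact Subgroup.mul_mem _ ((le_sup_right : Subgroup.zpowers A ≤ _) (Subgroup.mem_zpowers A))
            ((le_sup_left : H ≤ _) hσ)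
    rw [hK]
    refine ⟨fun σ => ⟨?_, ?_⟩, ?_⟩
    · rintro (hσ | hσ)
      · obtain ⟨e, he, hee⟩ := (hmem _).1 hσ
        exact ⟨e, List.mem_append_left _ he, hee⟩
      · obtain ⟨e, he, hee⟩ := (hmem _).1 hσ
        refine ⟨pcomp a e, List.mem_append_right _ (List.mem_map.2 ⟨e, he, rfl⟩), ?_⟩
        rw [(pcomp_spec hval.1 (hv e he).1).2, hee, mul_inv_cancel_left]
    · rintro ⟨e, he, rfl⟩
      rw [elems, List.mem_append] at he
      rcases he with he | he
      · exact Or.inl ((hmem _).2 ⟨e, he, rfl⟩)
      · obtain ⟨f, hf, rfl⟩ := List.mem_map.1 he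
        refine Or.inr ?_
        rw [(pcomp_spec hval.1 (hv f hf).1).2, inv_mul_cancel_left]
        exact (hmem _).2 ⟨f, hf, rfl⟩
    · have hi : (H.subgroupOf K).index = 2 := by
        rw [Subgroup.index_eq_two_iff]
        refine ⟨⟨A, Or.inr (by rw [inv_mul_cancel]; exact H.one_mem)⟩, fun b => ?_⟩
        rcases b.2 with hb | hb
        · exact Or.inr ⟨hb, fun h' => hAn ((H.mul_mem_cancel_left hb).1 h')⟩
        · refine Or.inl ⟨?_, fun h' => hAn ?_⟩
          · show (b : Equiv.Perm GolayPt) * A ∈ H
            have h2 : (b : Equiv.Perm GolayPt) * A = (A * (A⁻¹ * (b : Equiv.Perm GolayPt)) * A⁻¹) * (A * A) := by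
              group
            rw [h2]
            exact H.mul_mem (hAH _ hb) hA2
          · exact H.inv_mem_iff.1 ((H.mul_mem_cancel_right (show (b : Equiv.Perm GolayPt) ∈ H from h')).1 hb)
      rw [← (H.subgroupOf K).index_mul_card, hi,
        Nat.card_congr (Subgroup.subgroupOfEquivOfLe
          (show H ≤ K from fun σ hσ => Or.inl hσ)).toEquiv, hcard, List.length_cons, pow_succ']

theorem elems_append : ∀ {l₁ l₂ : List ℕ}, (∀ a ∈ l₁, valid a = true) → (∀ a ∈ l₂, valid a = true) →
    ∀ e ∈ elems (l₁ ++ l₂), ∃ r ∈ elems l₁, ∃ f ∈ elems l₂, permOf e = permOf r * permOf f := by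
  intro l₁ l₂
  induction l₁ with
  | nil =>
    intro _ _ e he
    exact ⟨pid, List.mem_singleton_self _, e, he, by rw [pid_spec.2.2, one_mul]⟩
  | cons a l ih =>
    intro h1 h2 e he
    rw [List.forall_mem_cons] at h1
    rw [List.cons_append, elems, List.mem_append] at he
    rcases he with he | he
    · obtain ⟨r, hr, f, hf, h⟩ := ih h1.2 h2 e he
      exact ⟨r, List.mem_append_left _ hr, f, hf, h⟩
    · obtain ⟨e', he', rfl⟩ := List.mem_map.1 he
      obtain ⟨r, hr, f, hf, h⟩ := ih h1.2 h2 e' he'
      refine ⟨pcomp a r, List.mem_append_right _ (List.mem_map.2 ⟨r, hr, rfl⟩), f, hf, ?_⟩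
      have hve : valid e' = true :=
        (elems_valid (l := l ++ l₂) (fun x hx => (List.mem_append.1 hx).elim (h1.2 x) (h2 x)) e' he').1
      rw [(pcomp_spec h1.1 hve).2, h, (pcomp_spec h1.1 (elems_valid h1.2 r hr).1).2, mul_assoc]

theorem elems_nodup {l : List ℕ} (h : pcOK l = true) :
    ((elems l).map permOf).Nodup := by
  classical
  have hv := elems_valid (valid_of_pcOK h)
  obtain ⟨hmem, hcard⟩ := grp_spec h
  have hlen : ∀ l : List ℕ, (elems l).length = 2 ^ l.length := by
    intro l
    induction l with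
    | nil => rfl
    | cons a l ih => simp [elems, ih, pow_succ, mul_two]
  have hcard2 : Nat.card (grp l) = ((elems l).map permOf).toFinset.card := by
    rw [← Nat.card_eq_finsetCard]
    refine Nat.card_congr (Equiv.subtypeEquivRight fun σ => ?_)
    simp [hmem]
  rw [List.card_toFinset, hcard, ← hlen l] at hcard2
  rw [← List.dedup_eq_self]
  refine (List.dedup_sublist _).eq_of_length ?_
  rw [← hcard2, List.length_map]

/-! ### fixed points -/

/-- the number of fixed points in a mask -/
def fixIn (m P : ℕ) : ℕ := (pts.filter fun i => m.testBit i && (pimg P i == i)).length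

theorem fixIn_eq {m P : ℕ} (h : valid P = true) :
    fixIn m P = {p ∈ mset m | permOf P p = p}.card := by
  classical
  have hnd : pts.Nodup := by decide
  rw [fixIn, ← List.toFinset_card_of_nodup (hnd.filter _)]
  refine Finset.card_nbij pt ?_ ?_ ?_
  · intro i hi
    simp only [Finset.mem_coe, List.mem_toFinset, List.mem_filter, mem_pts, Bool.and_eq_true,
      beq_iff_eq] at hi
    simp only [Finset.mem_coe, Finset.mem_filter, mem_mset, idx_pt hi.1, permOf_apply h, pfun, hi.2.2]
    exact ⟨hi.2.1, trivial⟩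
  · intro i hi j hj hij
    simp only [Finset.mem_coe, List.mem_toFinset, List.mem_filter, mem_pts] at hi hj
    rw [← idx_pt hi.1, hij, idx_pt hj.1]
  · intro p hp
    simp only [Finset.mem_coe, Finset.mem_filter, mem_mset, permOf_apply h, pfun] at hp
    refine ⟨idx p, ?_, pt_idx p⟩
    simp only [Finset.mem_coe, List.mem_toFinset, List.mem_filter, mem_pts, Bool.and_eq_true,
      beq_iff_eq]
    refine ⟨idx_lt p, hp.1, ?_⟩
    conv_lhs => rw [← idx_pt (pimg_lt h (idx_lt p)), hp.2]

end Cfsg.Agent.SylowCertCodes
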