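import Mathlib
import Cfsg.Agent.Lib.SylowCertCodes
import Cfsg.Agent.Lib.FusionSimpleCrit

/-!
A certificate engine for simplicity of the fusion system of a Mathieu group at the prime two.
-/

set_option autoImplicit false

namespace Cfsg.Agent.SylowCert

open Cfsg Cfsg.Agent.GolayBasic Cfsg.Agent.GolayPerm Cfsg.Agent.SylowCertCodes
open scoped Pointwise

/-! ### index two subgroups -/

theorem exists_index_two {Γ : Type*} [Group Γ] [Finite Γ] (hΓ : IsPGroup 2 Γ) {H : Subgroup Γ}
    (hH : H ≠ ⊤) : ∃ M : Subgroup Γ, H ≤ M ∧ M.index = 2 := by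
  have : Fact (Nat.Prime 2) := ⟨Nat.prime_two⟩
  obtain ⟨M, hM, hle⟩ := (eq_top_or_exists_le_coatom H).resolve_left hH
  refine ⟨M, hle, ?_⟩
  have := hΓ.isNilpotent
  have hn : M.Normal := Subgroup.NormalizerCondition.normal_of_coatom M Group.normalizerCondition_of_isNilpotent hM
  have hne : Nontrivial (Γ ⧸ M) := by
    rw [← Finite.one_lt_card_iff_nontrivial]
    exact Nat.lt_of_le_of_ne (Nat.pos_of_ne_zero Subgroup.index_ne_zero_of_finite)
      (Ne.symm (fun h => hM.1 (Subgroup.index_eq_one.1 h)))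
  obtain ⟨n, hn'⟩ := IsPGroup.iff_card.1 (hΓ.to_quotient M)
  have h1 : 1 ≤ n := by
    rcases Nat.eq_zero_or_pos n with rfl | h
    · have := Finite.one_lt_card (α := Γ ⧸ M)
      simp_all
    · exact h
  obtain ⟨K, hK⟩ := Sylow.exists_subgroup_card_pow_prime 2 (n := 1)
    (show 2 ^ 1 ∣ Nat.card (Γ ⧸ M) by rw [hn']; exact pow_dvd_pow 2 h1)
  have hle' : M ≤ K.comap (QuotientGroup.mk' M) := fun x hx => by
    rw [Subgroup.mem_comap]
    simp [(QuotientGroup.eq_one_iff x).2 hx]
  rcases hle'.eq_or_lt with h | h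
  · exfalso
    have hb : K = ⊥ := by
      rw [← Subgroup.map_comap_eq_self_of_surjective (QuotientGroup.mk'_surjective M) K, ← h,
        QuotientGroup.map_mk'_self]
    rw [hb, Subgroup.card_bot] at hK
    norm_num at hK
  · have ht := hM.2 _ h
    have hKt : K = ⊤ := by
      rw [← Subgroup.map_comap_eq_self_of_surjective (QuotientGroup.mk'_surjective M) K, ht,
        Subgroup.map_top_of_surjective _ (QuotientGroup.mk'_surjective M)]
    rw [hKt, Subgroup.card_top] at hK
    rw [Subgroup.index, hK, pow_one]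

/-! ### invariants -/

/-- fixed points of a permutation in a mask -/
noncomputable def fixP (m : ℕ) (σ : Equiv.Perm GolayPt) : ℕ :=
  {p ∈ mset m | σ p = p}.card

theorem fixP_conj {m : ℕ} {k : Equiv.Perm GolayPt} (hk : k • mset m = mset m)
    (σ : Equiv.Perm GolayPt) : fixP m (k * σ * k⁻¹) = fixP m σ := by
  classical
  rw [fixP, fixP, ← Finset.card_map k.toEmbedding (s := {p ∈ mset m | σ p = p})]
  congr 1
  ext p
  have hmem : p ∈ mset m ↔ k⁻¹ p ∈ mset m := by
    conv_lhs => rw [← hk]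
    rw [← Finset.inv_smul_mem_iff, Equiv.Perm.smul_def]
  simp only [Finset.mem_filter, Finset.mem_map, Equiv.coe_toEmbedding]
  constructor
  · rintro ⟨hp, hfix⟩
    refine ⟨k⁻¹ p, ⟨hmem.1 hp, ?_⟩, by simp⟩
    apply k.injective
    simpa using hfix
  · rintro ⟨x, ⟨hx, hfix⟩, rfl⟩
    refine ⟨hmem.2 (by simpa using hx), ?_⟩
    simp [hfix]

/-- the invariant of an element, on codes -/
def hcode (masks : List ℕ) (P : ℕ) : ℕ :=
  (masks.map (fun m => fixIn m P) ++ masks.map fun m => fixIn m (pcomp P P)).foldl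
    (fun a c => a * 32 + c) 0

/-- the invariant of an element -/
noncomputable def hperm (masks : List ℕ) (σ : Equiv.Perm GolayPt) : ℕ :=
  (masks.map (fun m => fixP m σ) ++ masks.map fun m => fixP m (σ * σ)).foldl
    (fun a c => a * 32 + c) 0

theorem hcode_eq {masks : List ℕ} {P : ℕ} (h : valid P = true) :
    hcode masks P = hperm masks (permOf P) := by
  have h2 := pcomp_spec h h
  unfold hcode hperm fixP
  refine congrArg (List.foldl _ 0) (congrArg₂ (· ++ ·) ?_ ?_)
  · exact List.map_congr_left fun m _ => fixIn_eq h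
  · exact List.map_congr_left fun m _ => by rw [fixIn_eq h2.1, h2.2]

theorem hperm_conj {masks : List ℕ} {k : Equiv.Perm GolayPt}
    (hk : ∀ m ∈ masks, k • mset m = mset m) (σ : Equiv.Perm GolayPt) :
    hperm masks (k * σ * k⁻¹) = hperm masks σ := by
  unfold hperm
  refine congrArg (List.foldl _ 0) (congrArg₂ (· ++ ·) ?_ ?_)
  · exact List.map_congr_left fun m hm => fixP_conj (hk m hm) σ
  · refine List.map_congr_left fun m hm => ?_
    rw [show k * σ * k⁻¹ * (k * σ * k⁻¹) = k * (σ * σ) * k⁻¹ by group]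
    exact fixP_conj (hk m hm) _

/-- the invariant of a coset of the small group, on codes -/
def sig (masks lF : List ℕ) (c : ℕ) : ℕ :=
  ((elems lF).map fun f => hcode masks (pcomp c f) ^ 2).sum

/-- the invariant of a coset of the small group -/
noncomputable def sigP (masks lF : List ℕ) (σ : Equiv.Perm GolayPt) : ℕ :=
  ∑ φ ∈ ((elems lF).map permOf).toFinset, hperm masks (σ * φ) ^ 2

theorem sig_eq {masks lF : List ℕ} (hF : pcOK lF = true) {c : ℕ} (hc : valid c = true) :
    sig masks lF c = sigP masks lF (permOf c) := by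
  classical
  rw [sigP, List.sum_toFinset _ (elems_nodup hF), List.map_map, sig]
  refine congrArg List.sum (List.map_congr_left fun f hf => ?_)
  have hf' := (elems_valid (valid_of_pcOK hF) f hf).1
  simp only [Function.comp_apply]
  rw [hcode_eq (pcomp_spec hc hf').1, (pcomp_spec hc hf').2]

theorem mem_toFinset_elems {l : List ℕ} (h : pcOK l = true) (σ : Equiv.Perm GolayPt) :
    σ ∈ ((elems l).map permOf).toFinset ↔ σ ∈ grp l := by
  rw [(grp_spec h).1, List.mem_toFinset, List.mem_map]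

theorem sigP_mul {masks lF : List ℕ} (hF : pcOK lF = true) (σ : Equiv.Perm GolayPt)
    {ψ : Equiv.Perm GolayPt} (hψ : ψ ∈ grp lF) : sigP masks lF (σ * ψ) = sigP masks lF σ := by
  refine Finset.sum_nbij' (fun φ => ψ * φ) (fun φ => ψ⁻¹ * φ) ?_ ?_ ?_ ?_ ?_
  · intro φ hφ
    simp only [Finset.mem_coe, mem_toFinset_elems hF] at hφ ⊢
    exact Subgroup.mul_mem _ hψ hφ
  · intro φ hφ
    simp only [Finset.mem_coe, mem_toFinset_elems hF] at hφ ⊢
    exact Subgroup.mul_mem _ (Subgroup.inv_mem _ hψ) hφ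
  · intro φ _; exact inv_mul_cancel_left ψ φ
  · intro φ _; exact mul_inv_cancel_left ψ φ
  · intro φ _; rw [mul_assoc]

theorem sigP_conj {masks lF : List ℕ} (hF : pcOK lF = true) {k : Equiv.Perm GolayPt}
    (hk : ∀ m ∈ masks, k • mset m = mset m) (hkn : ∀ φ, φ ∈ grp lF ↔ k * φ * k⁻¹ ∈ grp lF)
    (σ : Equiv.Perm GolayPt) : sigP masks lF (k * σ * k⁻¹) = sigP masks lF σ := by
  refine Finset.sum_nbij' (fun φ => k⁻¹ * φ * k) (fun φ => k * φ * k⁻¹) ?_ ?_ ?_ ?_ ?_
  · intro φ hφ
    simp only [Finset.mem_coe, mem_toFinset_elems hF] at hφ ⊢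
    rw [hkn, show k * (k⁻¹ * φ * k) * k⁻¹ = φ by group]
    exact hφ
  · intro φ hφ
    simp only [Finset.mem_coe, mem_toFinset_elems hF] at hφ ⊢
    exact (hkn φ).1 hφ
  · intro φ _; group
  · intro φ _; group
  · intro φ _
    rw [← hperm_conj hk (σ * (k⁻¹ * φ * k)),
      show k * (σ * (k⁻¹ * φ * k)) * k⁻¹ = k * σ * k⁻¹ * φ by group]

/-! ### odd elements normalising the group centralise it -/

/-- every square lies in the small group, which is generated by squares -/
def sqOK (lR lF : List ℕ) (wit : List (ℕ × ℕ)) : Bool :=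
  (elems (lR ++ lF)).all (fun e => (elems lF).contains (pcomp e e)) &&
  lF.all (fun b => wit.any fun w => (elems (lR ++ lF)).contains w.1 &&
    (elems (lR ++ lF)).contains w.2 && (b == pcomp (pcomp w.1 w.1) (pcomp w.2 w.2)))

/-- the invariant separates the cosets of the generators -/
def sepOK (masks lR lF : List ℕ) : Bool :=
  lR.all fun a => (elems lR).all fun r =>
    if sig masks lF r == sig masks lF a then ((elems lF).map (pcomp a)).contains r else true

theorem odd_centralizes {masks lR lF : List ℕ} {wit : List (ℕ × ℕ)}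
    (hl : pcOK (lR ++ lF) = true) (hF : pcOK lF = true) (hsq : sqOK lR lF wit = true)
    (hsep : sepOK masks lR lF = true) {k : Equiv.Perm GolayPt}
    (hk : ∀ σ, σ ∈ grp (lR ++ lF) ↔ k * σ * k⁻¹ ∈ grp (lR ++ lF))
    (hmask : ∀ m ∈ masks, k • mset m = mset m) {q n : ℕ} [hq : Fact q.Prime] (hq2 : q ≠ 2)
    (hkq : k ^ (q ^ n) = 1) : ∀ σ ∈ grp (lR ++ lF), k * σ = σ * k := by
  classical
  set S := grp (lR ++ lF) with hS
  set Φ := grp lF with hΦ
  have hval := valid_of_pcOK hl
  have hvR : ∀ a ∈ lR, valid a = true := fun a ha => hval a (List.mem_append_left _ ha)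
  have hvF : ∀ a ∈ lF, valid a = true := fun a ha => hval a (List.mem_append_right _ ha)
  have hvS := elems_valid hval
  simp only [sqOK, Bool.and_eq_true, List.all_eq_true, List.any_eq_true, List.contains_iff_mem,
    beq_iff_eq] at hsq
  have hle : Φ ≤ S := by
    rw [hΦ, grp, Subgroup.closure_le]
    rintro _ ⟨b, hb, rfl⟩
    exact permOf_mem_grp (List.mem_append_right _ hb)
  have hsqmem : ∀ σ ∈ S, σ * σ ∈ Φ := by
    intro σ hσ
    obtain ⟨e, he, rfl⟩ := ((grp_spec hl).1 σ).1 hσ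
    exact ((grp_spec hF).1 _).2 ⟨_, hsq.1 e he, (pcomp_spec (hvS e he).1 (hvS e he).1).2⟩
  have hgen : ∀ b ∈ lF, ∃ x ∈ S, ∃ y ∈ S, permOf b = x * x * (y * y) := by
    intro b hb
    obtain ⟨⟨w₁, w₂⟩, -, ⟨hw1, hw2⟩, hw⟩ := hsq.2 b hb
    refine ⟨permOf w₁, ((grp_spec hl).1 _).2 ⟨w₁, hw1, rfl⟩, permOf w₂,
      ((grp_spec hl).1 _).2 ⟨w₂, hw2, rfl⟩, ?_⟩
    have h1 := pcomp_spec (hvS w₁ hw1).1 (hvS w₁ hw1).1
    have h2 := pcomp_spec (hvS w₂ hw2).1 (hvS w₂ hw2).1
    simp only [hw, (pcomp_spec h1.1 h2.1).2, h1.2, h2.2]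
  have hconjΦ : ∀ g : Equiv.Perm GolayPt, (∀ σ ∈ S, g * σ * g⁻¹ ∈ S) → ∀ φ ∈ Φ, g * φ * g⁻¹ ∈ Φ := by
    intro g hg
    have : Φ ≤ Φ.comap (MulAut.conj g).toMonoidHom := by
      conv_lhs => rw [hΦ, grp]
      rw [Subgroup.closure_le]
      rintro _ ⟨b, hb, rfl⟩
      obtain ⟨x, hx, y, hy, h⟩ := hgen b hb
      show g * permOf b * g⁻¹ ∈ Φ
      rw [h, show g * (x * x * (y * y)) * g⁻¹ =
        (g * x * g⁻¹) * (g * x * g⁻¹) * ((g * y * g⁻¹) * (g * y * g⁻¹)) by group]
      exact Φ.mul_mem (hsqmem _ (hg x hx)) (hsqmem _ (hg y hy))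
    exact this
  have hconjS : ∀ s ∈ S, ∀ φ ∈ Φ, s * φ * s⁻¹ ∈ Φ := fun s hs =>
    hconjΦ s fun σ hσ => S.mul_mem (S.mul_mem hs hσ) (S.inv_mem hs)
  have hkΦ : ∀ φ, φ ∈ Φ ↔ k * φ * k⁻¹ ∈ Φ := by
    refine fun φ => ⟨hconjΦ k (fun σ hσ => (hk σ).1 hσ) φ, fun h => ?_⟩
    have h1 := hconjΦ k⁻¹ (fun σ hσ => (hk _).2 (by
      rwa [show k * (k⁻¹ * σ * k⁻¹⁻¹) * k⁻¹ = σ by group])) _ h
    rwa [show k⁻¹ * (k * φ * k⁻¹) * k⁻¹⁻¹ = φ by group] at h1
  -- the action on the cosets of the small group is trivial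
  have hgenR : ∀ a ∈ lR, (permOf a)⁻¹ * (k * permOf a * k⁻¹) ∈ Φ := by
    intro a ha
    have haS : permOf a ∈ S := permOf_mem_grp (List.mem_append_left _ ha)
    obtain ⟨e, he, hee⟩ := ((grp_spec hl).1 _).1 ((hk _).1 haS)
    obtain ⟨r, hr, f, hf, hrf⟩ := elems_append hvR hvF e he
    have hfΦ : permOf f ∈ Φ := ((grp_spec hF).1 _).2 ⟨f, hf, rfl⟩
    have hvr := (elems_valid hvR r hr).1
    have hs : sig masks lF r = sig masks lF a := by
      rw [sig_eq hF hvr, sig_eq hF (hvR a ha), ← sigP_conj hF hmask hkΦ (permOf a), ← hee, hrf,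
        sigP_mul hF _ hfΦ]
    simp only [sepOK, List.all_eq_true] at hsep
    have hc := hsep a ha r hr
    rw [if_pos (by simpa using hs), List.contains_iff_mem, List.mem_map] at hc
    obtain ⟨f', hf', hr'⟩ := hc
    rw [← hee, hrf, ← hr', (pcomp_spec (hvR a ha) (elems_valid hvF f' hf').1).2, mul_assoc,
      inv_mul_cancel_left]
    exact Φ.mul_mem (((grp_spec hF).1 _).2 ⟨f', hf', rfl⟩) hfΦ
  have hall : ∀ σ ∈ S, σ⁻¹ * (k * σ * k⁻¹) ∈ Φ := by
    intro σ hσ
    induction hσ using Subgroup.closure_induction with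
    | mem x hx =>
      obtain ⟨b, hb, rfl⟩ := hx
      rcases List.mem_append.1 hb with hb | hb
      · exact hgenR b hb
      · exact Φ.mul_mem (Φ.inv_mem (permOf_mem_grp hb)) ((hkΦ _).1 (permOf_mem_grp hb))
    | one => simp
    | mul x y _ hy' hx hy =>
      have h1 := hconjS y⁻¹ (S.inv_mem hy') _ hx
      have h2 : (x * y)⁻¹ * (k * (x * y) * k⁻¹) =
          (y⁻¹ * (x⁻¹ * (k * x * k⁻¹)) * y⁻¹⁻¹) * (y⁻¹ * (k * y * k⁻¹)) := by group
      rw [h2]
      exact Φ.mul_mem h1 hy
    | inv x hx' hx =>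
      have h1 := hconjS x hx' _ (Φ.inv_mem hx)
      have h2 : x⁻¹⁻¹ * (k * x⁻¹ * k⁻¹) = x * (x⁻¹ * (k * x * k⁻¹))⁻¹ * x⁻¹ := by group
      rw [h2]
      exact h1
  -- every coset contains an element commuting with `k`
  have hfix : ∀ σ ∈ S, ∃ φ ∈ Φ, k * (σ * φ) * k⁻¹ = σ * φ := by
    intro σ hσ
    let C := {y : Equiv.Perm GolayPt // σ⁻¹ * y ∈ Φ}
    let eC : Φ ≃ C :=
      { toFun := fun φ => ⟨σ * φ, by simp⟩
        invFun := fun y => ⟨σ⁻¹ * y.1, y.2⟩
        left_inv := fun φ => Subtype.ext (inv_mul_cancel_left σ φ.1)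
        right_inv := fun y => Subtype.ext (mul_inv_cancel_left σ y.1) }
    have hC : ∀ y : Equiv.Perm GolayPt, σ⁻¹ * y ∈ Φ ↔ σ⁻¹ * (k * y * k⁻¹) ∈ Φ := by
      intro y
      rw [show σ⁻¹ * (k * y * k⁻¹) =
        (σ⁻¹ * (k * σ * k⁻¹)) * (k * (σ⁻¹ * y) * k⁻¹) by group,
        Φ.mul_mem_cancel_left (hall σ hσ), ← hkΦ]
    let π : Equiv.Perm C := (MulAut.conj k).toEquiv.subtypeEquiv hC
    have hπ : ∀ (m : ℕ) (y : C), ((π ^ m) y).1 = k ^ m * y.1 * (k ^ m)⁻¹ := by
      intro m
      induction m with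
      | zero => simp
      | succ m ih =>
        intro y
        rw [pow_succ', Equiv.Perm.mul_apply]
        show k * ((π ^ m) y).1 * k⁻¹ = _
        rw [ih, pow_succ']
        group
    have : Fintype C := Fintype.ofFinite C
    have hnd : ¬ q ∣ Fintype.card C := by
      rw [← Nat.card_eq_fintype_card, ← Nat.card_congr eC, (grp_spec hF).2]
      exact fun h => hq2 ((Nat.prime_dvd_prime_iff_eq hq.out Nat.prime_two).1
        (hq.out.dvd_of_dvd_pow h))
    obtain ⟨y, hy⟩ := Equiv.Perm.exists_fixed_point_of_prime (n := n) hnd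
      (σ := π) (Equiv.ext fun y => Subtype.ext (by rw [hπ, hkq]; simp))
    refine ⟨σ⁻¹ * y.1, y.2, ?_⟩
    rw [mul_inv_cancel_left]
    exact congrArg Subtype.val hy
  -- so the centraliser of `k` is everything
  intro σ hσ
  by_contra hne
  set H : Subgroup S := (Subgroup.centralizer {k}).subgroupOf S
  have hH : H ≠ ⊤ := fun h => hne (by
    have h1 : (⟨σ, hσ⟩ : S) ∈ H := h ▸ Subgroup.mem_top _
    exact (Subgroup.mem_centralizer_singleton_iff.1 h1).symm)
  obtain ⟨M, hHM, hM⟩ := exists_index_two (IsPGroup.of_card (grp_spec hl).2) hH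
  have hΦM : ∀ φ (h : φ ∈ S), φ ∈ Φ → (⟨φ, h⟩ : S) ∈ M := by
    have : Φ ≤ M.map S.subtype := by
      conv_lhs => rw [hΦ, grp]
      rw [Subgroup.closure_le]
      rintro _ ⟨b, hb, rfl⟩
      obtain ⟨x, hx, y, hy, h⟩ := hgen b hb
      exact ⟨⟨x, hx⟩ * ⟨x, hx⟩ * (⟨y, hy⟩ * ⟨y, hy⟩),
        M.mul_mem (Subgroup.mul_self_mem_of_index_two hM _) (Subgroup.mul_self_mem_of_index_two hM _),
        h.symm⟩
    intro φ h hφ
    obtain ⟨x, hx, hxe⟩ := this hφ
    rwa [show (⟨φ, h⟩ : S) = x from Subtype.ext hxe.symm]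
  have hMtop : M = ⊤ := by
    rw [eq_top_iff]
    rintro ⟨τ, hτ⟩ -
    obtain ⟨φ, hφ, hc⟩ := hfix τ hτ
    have h1 : (⟨τ * φ, S.mul_mem hτ (hle hφ)⟩ : S) ∈ M := hHM (show τ * φ ∈ Subgroup.centralizer {k} by
      rw [Subgroup.mem_centralizer_singleton_iff]
      exact (mul_inv_eq_iff_eq_mul.1 hc).symm)
    have h2 := M.mul_mem h1 (M.inv_mem (hΦM φ (hle hφ) hφ))
    have h3 : (⟨τ * φ, S.mul_mem hτ (hle hφ)⟩ : S) * (⟨φ, hle hφ⟩ : S)⁻¹ = ⟨τ, hτ⟩ :=
      Subtype.ext (mul_inv_cancel_right τ φ)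
    rwa [h3] at h2
  rw [hMtop, Subgroup.index_top] at hM
  exact absurd hM (by norm_num)

/-! ### masks from orbit sizes -/

/-- the orbit of a point, as a mask -/
def omask (l : List ℕ) (i : ℕ) : ℕ :=
  (elems l).foldr (fun e acc => (1 <<< pimg e i) ||| acc) 0

/-- each mask consists of the points of an invariant set with orbits of the given size -/
def maskOK (l : List ℕ) (data : List (ℕ × ℕ × ℕ)) : Bool :=
  data.all fun d => pts.all fun i => d.1.testBit i == (d.2.1.testBit i && (wt (omask l i) == d.2.2))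

theorem testBit_omask (es : List ℕ) (i j : ℕ) :
    (es.foldr (fun e acc => (1 <<< pimg e i) ||| acc) 0).testBit j = true ↔
      ∃ e ∈ es, pimg e i = j := by
  induction es with
  | nil => simp
  | cons e es ih =>
    rw [List.foldr_cons, Nat.testBit_or, Bool.or_eq_true, ih, Nat.one_shiftLeft,
      Nat.testBit_two_pow]
    simp

theorem mset_omask {l : List ℕ} (hl : pcOK l = true) {i : ℕ} (hi : i < 24) (p : GolayPt) :
    p ∈ mset (omask l i) ↔ ∃ σ ∈ grp l, σ (pt i) = p := by
  have hv := elems_valid (valid_of_pcOK hl)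
  rw [mem_mset, omask, testBit_omask]
  constructor
  · rintro ⟨e, he, hp⟩
    refine ⟨permOf e, ((grp_spec hl).1 _).2 ⟨e, he, rfl⟩, ?_⟩
    rw [permOf_apply (hv e he).1, pfun, idx_pt hi, hp, pt_idx]
  · rintro ⟨σ, hσ, rfl⟩
    obtain ⟨e, he, rfl⟩ := ((grp_spec hl).1 σ).1 hσ
    refine ⟨e, he, ?_⟩
    rw [permOf_apply (hv e he).1, pfun, idx_pt hi, idx_pt (pimg_lt (hv e he).1 hi)]

theorem masks_fixed {l : List ℕ} (hl : pcOK l = true) {data : List (ℕ × ℕ × ℕ)}
    (hd : maskOK l data = true) {k : Equiv.Perm GolayPt}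
    (hk : ∀ σ, σ ∈ grp l ↔ k * σ * k⁻¹ ∈ grp l) (hK : ∀ d ∈ data, k • mset d.2.1 = mset d.2.1) :
    ∀ m ∈ data.map Prod.fst, k • mset m = mset m := by
  classical
  intro m hm
  obtain ⟨d, hd', rfl⟩ := List.mem_map.1 hm
  simp only [maskOK, List.all_eq_true, beq_iff_eq] at hd
  have hbit : ∀ p, p ∈ mset d.1 ↔ p ∈ mset d.2.1 ∧ wt (omask l (idx p)) = d.2.2 := by
    intro p
    rw [mem_mset, mem_mset, hd d hd' (idx p) (mem_pts.2 (idx_lt p))]
    simp
  ext p
  rw [← Finset.inv_smul_mem_iff, Equiv.Perm.smul_def, hbit, hbit]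
  have hwt : wt (omask l (idx (k⁻¹ p))) = wt (omask l (idx p)) := by
    rw [← card_mset, ← card_mset, ← Finset.card_map k.toEmbedding]
    congr 1
    ext x
    simp only [Finset.mem_map, Equiv.coe_toEmbedding, mset_omask hl (idx_lt _), pt_idx]
    constructor
    · rintro ⟨y, ⟨σ, hσ, rfl⟩, rfl⟩
      exact ⟨k * σ * k⁻¹, (hk σ).1 hσ, by simp⟩
    · rintro ⟨σ, hσ, rfl⟩
      refine ⟨k⁻¹ (σ p), ⟨k⁻¹ * σ * k, (hk _).2 ?_, by simp⟩, by simp⟩
      rwa [show k * (k⁻¹ * σ * k) * k⁻¹ = σ by group]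
  have hKp : k⁻¹ p ∈ mset d.2.1 ↔ p ∈ mset d.2.1 := by
    conv_rhs => rw [← hK d hd']
    rw [← Finset.inv_smul_mem_iff (a := k), Equiv.Perm.smul_def]
  rw [hKp, hwt]

/-! ### derivations inside a strongly closed subgroup -/

/-- one step: conjugate an earlier element, or multiply two earlier elements -/
inductive Step where
  | conj (i c y : ℕ) : Step
  | mul (i j : ℕ) : Step

/-- one step of a derivation -/
def stepVal (inG : ℕ → Bool) (es D : List ℕ) : Step → Option ℕ
  | .conj i c y =>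
    if inG c && es.contains y && (pcomp c (D.getD i pid) == pcomp y c) then some y else none
  | .mul i j => some (pcomp (D.getD i pid) (D.getD j pid))

/-- a derivation -/
def derive (inG : ℕ → Bool) (es : List ℕ) : List ℕ → List Step → List ℕ
  | D, [] => D
  | D, st :: sts =>
    match stepVal inG es D st with
    | some v => derive inG es (D ++ [v]) sts
    | none => derive inG es D sts

theorem derive_induction {inG : ℕ → Bool} {es : List ℕ} (P : ℕ → Prop) (hid : P pid)
    (hmul : ∀ x y, P x → P y → P (pcomp x y))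
    (hconj : ∀ x c y, P x → inG c = true → y ∈ es → pcomp c x = pcomp y c → P y) :
    ∀ (sts : List Step) (D : List ℕ), (∀ x ∈ D, P x) → ∀ x ∈ derive inG es D sts, P x := by
  intro sts
  induction sts with
  | nil => intro D hD; exact hD
  | cons st sts ih =>
    intro D hD
    have hget : ∀ i, P (D.getD i pid) := by
      intro i
      rcases lt_or_ge i D.length with h | h
      · rw [List.getD_eq_getElem D pid h]; exact hD _ (List.getElem_mem h)
      · rw [List.getD_eq_default D pid h]; exact hid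
    rw [derive]
    cases hst : stepVal inG es D st with
    | none => exact ih D hD
    | some v =>
      refine ih _ fun x hx => ?_
      rcases List.mem_append.1 hx with hx | hx
      · exact hD x hx
      · rw [List.mem_singleton] at hx
        subst hx
        cases st with
        | conj i c y =>
          simp only [stepVal, Bool.and_eq_true, List.contains_iff_mem, beq_iff_eq] at hst
          split at hst
          · rename_i h
            obtain rfl := Option.some.inj hst
            exact hconj _ c _ (hget i) h.1.1 h.1.2 h.2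
          · simp at hst
        | mul i j =>
          simp only [stepVal, Option.some.injEq] at hst
          exact hst ▸ hmul _ _ (hget i) (hget j)

/-- the centre test -/
def zOK (l : List ℕ) (z : ℕ) : Bool :=
  (elems l).all fun e => (e == pid) || (e == z) || l.any fun a => !(pcomp a e == pcomp e a)

open Cfsg.Agent.FusionSimpleCrit in
/-- The engine. -/
theorem isSimple_of_cert (G : Subgroup (Equiv.Perm GolayPt)) (inG : ℕ → Bool)
    (hinG : ∀ c, inG c = true → valid c = true ∧ permOf c ∈ G)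
    (lR lF : List ℕ) (wit : List (ℕ × ℕ)) (data : List (ℕ × ℕ × ℕ)) (z : ℕ) (sts : List Step)
    (m : ℕ) (hm : Odd m) (hcard : Nat.card G = 2 ^ (lR ++ lF).length * m)
    (hpos : 0 < (lR ++ lF).length)
    (hG : (lR ++ lF).all inG = true) (hl : pcOK (lR ++ lF) = true) (hF : pcOK lF = true)
    (hsq : sqOK lR lF wit = true) (hsep : sepOK (data.map Prod.fst) lR lF = true)
    (hd : maskOK (lR ++ lF) data = true)
    (hK : ∀ k ∈ G, ∀ d ∈ data, k • mset d.2.1 = mset d.2.1)
    (hz : zOK (lR ++ lF) z = true) (hzl : (elems (lR ++ lF)).contains z = true)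
    (hder : (lR ++ lF).all (fun a => (derive inG (elems (lR ++ lF)) [z] sts).contains a) = true)
    (S : Sylow 2 G) : (groupFusionSystem (S : Subgroup G)).IsSimple 2 := by
  classical
  have : Fact (Nat.Prime 2) := ⟨Nat.prime_two⟩
  set l := lR ++ lF with hldef
  simp only [List.all_eq_true] at hG hder
  have hval := valid_of_pcOK hl
  have hvS := elems_valid hval
  have hle : grp l ≤ G := by
    rw [grp, Subgroup.closure_le]
    rintro _ ⟨a, ha, rfl⟩
    exact (hinG a (hG a ha)).2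
  have hT0 : IsPGroup 2 ((grp l).subgroupOf G) :=
    IsPGroup.of_card (n := l.length) (by
      rw [Nat.card_congr (Subgroup.subgroupOfEquivOfLe hle).toEquiv, (grp_spec hl).2])
  obtain ⟨T, hT⟩ := hT0.exists_le_sylow
  have hTc : Nat.card T = 2 ^ l.length := by
    rw [T.card_eq_multiplicity, hcard, Nat.factorization_mul (by positivity) hm.pos.ne',
      Finsupp.add_apply, Nat.Prime.factorization_pow Nat.prime_two, Finsupp.single_eq_same,
      Nat.factorization_eq_zero_of_not_dvd (by rw [← even_iff_two_dvd]; exact Nat.not_even_iff_odd.2 hm)]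
    rfl
  have hTeq : (T : Subgroup G) = (grp l).subgroupOf G :=
    (Subgroup.eq_of_le_of_card_ge hT (by
      rw [hTc, Nat.card_congr (Subgroup.subgroupOfEquivOfLe hle).toEquiv, (grp_spec hl).2])).symm
  obtain ⟨g, hg⟩ := MulAction.exists_smul_eq G T S
  -- membership in `S`
  have hmemS : ∀ x : G, x ∈ (S : Subgroup G) ↔ ((g⁻¹ * x * g : G) : Equiv.Perm GolayPt) ∈ grp l := by
    intro x
    rw [← hg, Sylow.coe_subgroup_smul, Subgroup.mem_pointwise_smul_iff_inv_smul_mem, hTeq,
      Subgroup.mem_subgroupOf]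
    simp [MulAut.smul_def]
  refine isSimple_of_closed_gen (fun h => ?_) (fun U hU hne => ?_) ?_
  · have h1 : Nat.card S = 2 ^ l.length := by
      rw [← hTc, S.card_eq_multiplicity, T.card_eq_multiplicity]
    rw [h, Subgroup.card_bot] at h1
    have := Nat.one_lt_two_pow (n := l.length) (by omega)
    omega
  · -- strongly closed subgroups
    refine le_antisymm hU.1 ?_
    obtain ⟨u, huU, hu1, huS, huc⟩ := exists_central_mem hU hne
    set P : ℕ → Prop := fun e => valid e = true ∧ ∃ h : permOf e ∈ G, g * ⟨permOf e, h⟩ * g⁻¹ ∈ U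
      with hP
    have hzP : P z := by
      obtain ⟨e, he, hee⟩ := ((grp_spec hl).1 _).1 ((hmemS u).1 huS)
      have hcomm : ∀ a ∈ l, pcomp a e = pcomp e a := by
        intro a ha
        have hve := (hvS e he).1
        rw [← pnorm_pcomp (hval a ha) hve, ← pnorm_pcomp hve (hval a ha)]
        refine pnorm_eq (pcomp_spec (hval a ha) hve).1 (pcomp_spec hve (hval a ha)).1 ?_
        rw [(pcomp_spec (hval a ha) hve).2, (pcomp_spec hve (hval a ha)).2, hee]
        have haG : permOf a ∈ G := (hinG a (hG a ha)).2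
        have hs : g * ⟨permOf a, haG⟩ * g⁻¹ ∈ (S : Subgroup G) := by
          rw [hmemS]
          simpa [mul_assoc] using permOf_mem_grp ha
        have := congrArg (fun y : G => ((g⁻¹ * y * g : G) : Equiv.Perm GolayPt)) (huc _ hs)
        simpa [mul_assoc] using this
      simp only [zOK, List.all_eq_true, Bool.or_eq_true, List.any_eq_true, beq_iff_eq,
        Bool.not_eq_true', beq_eq_false_iff_ne] at hz
      rcases hz e he with (rfl | rfl) | ⟨a, ha, hne'⟩
      · exfalso
        apply hu1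
        have h0 : (g⁻¹ * u * g : G) = 1 := Subtype.ext (hee.symm.trans pid_spec.2.2)
        calc u = g * (g⁻¹ * u * g) * g⁻¹ := by group
          _ = 1 := by rw [h0]; group
      · refine ⟨(hvS e he).1, hee ▸ (g⁻¹ * u * g).2, ?_⟩
        rw [show (⟨permOf e, hee ▸ (g⁻¹ * u * g).2⟩ : G) = g⁻¹ * u * g from Subtype.ext hee,
          show g * (g⁻¹ * u * g) * g⁻¹ = u by group]
        exact huU
      · exact absurd (hcomm a ha) hne'
    have hall := derive_induction (inG := inG) (es := elems l) P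
      ⟨pid_spec.1, pid_spec.2.2.symm ▸ G.one_mem, by
        have : (⟨permOf pid, pid_spec.2.2.symm ▸ G.one_mem⟩ : G) = 1 := Subtype.ext pid_spec.2.2
        rw [this]; simp⟩
      (by
        rintro x y ⟨hx, hxG, hxU⟩ ⟨hy, hyG, hyU⟩
        refine ⟨(pcomp_spec hx hy).1, (pcomp_spec hx hy).2 ▸ G.mul_mem hxG hyG, ?_⟩
        have : (⟨permOf (pcomp x y), (pcomp_spec hx hy).2 ▸ G.mul_mem hxG hyG⟩ : G) =
            ⟨permOf x, hxG⟩ * ⟨permOf y, hyG⟩ := Subtype.ext (pcomp_spec hx hy).2
        rw [this]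
        have := U.mul_mem hxU hyU
        rwa [show g * (⟨permOf x, hxG⟩ : G) * g⁻¹ * (g * ⟨permOf y, hyG⟩ * g⁻¹) =
          g * (⟨permOf x, hxG⟩ * ⟨permOf y, hyG⟩) * g⁻¹ by group] at this)
      (by
        rintro x c y ⟨hx, hxG, hxU⟩ hc hy he
        obtain ⟨hvc, hcG⟩ := hinG c hc
        have hvy := (hvS y hy).1
        have hyl : permOf y ∈ grp l := ((grp_spec hl).1 _).2 ⟨y, hy, rfl⟩
        refine ⟨hvy, hle hyl, ?_⟩
        have hrel : (⟨permOf c, hcG⟩ : G) * ⟨permOf x, hxG⟩ = ⟨permOf y, hle hyl⟩ * ⟨permOf c, hcG⟩ := by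
          refine Subtype.ext ?_
          have := congrArg permOf he
          rwa [(pcomp_spec hvc hx).2, (pcomp_spec hvy hvc).2] at this
        have hmem := mem_of_conj hU hxU (g := g * ⟨permOf c, hcG⟩ * g⁻¹)
        have e2 : g * (⟨permOf c, hcG⟩ : G) * g⁻¹ * (g * ⟨permOf x, hxG⟩ * g⁻¹) *
            (g * ⟨permOf c, hcG⟩ * g⁻¹)⁻¹ = g * ⟨permOf y, hle hyl⟩ * g⁻¹ := by
          rw [show g * (⟨permOf c, hcG⟩ : G) * g⁻¹ * (g * ⟨permOf x, hxG⟩ * g⁻¹) *
            (g * ⟨permOf c, hcG⟩ * g⁻¹)⁻¹ =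
            g * ((⟨permOf c, hcG⟩ * ⟨permOf x, hxG⟩) * (⟨permOf c, hcG⟩ : G)⁻¹) * g⁻¹ by group,
            hrel, mul_inv_cancel_right]
        rw [e2] at hmem
        refine hmem ((hmemS _).2 ?_)
        simpa [mul_assoc] using hyl)
      sts [z] (by simpa using hzP)
    intro x hx
    have hsub : grp l ≤ (U.comap (MulAut.conj g).toMonoidHom).map G.subtype := by
      rw [grp, Subgroup.closure_le]
      rintro _ ⟨a, ha, rfl⟩
      obtain ⟨-, haG, haU⟩ := hall a (List.contains_iff_mem.1 (hder a ha))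
      exact ⟨⟨permOf a, haG⟩, haU, rfl⟩
    obtain ⟨y, hy, hye⟩ := hsub ((hmemS x).1 hx)
    rw [show y = g⁻¹ * x * g from Subtype.ext hye] at hy
    have hy' : g * (g⁻¹ * x * g) * g⁻¹ ∈ U := hy
    rwa [show g * (g⁻¹ * x * g) * g⁻¹ = x by group] at hy'
  · -- the normalizer
    set N := Subgroup.normalizer ((S : Subgroup G) : Set G)
    set D := Subgroup.closure (((S : Subgroup G) : Set G) ∪ goodSet S)
    have key : Nat.card N ∣ Nat.card (N ⊓ D : Subgroup G) := by
      rw [Nat.dvd_iff_prime_pow_dvd_dvd]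
      intro q j hq hj
      rcases Nat.eq_zero_or_pos j with rfl | hj0
      · simp
      by_cases hq2 : q = 2
      · subst hq2
        have h1 : 2 ^ j ∣ Nat.card S := S.pow_dvd_card_of_pow_dvd_card
          (hj.trans (Subgroup.card_subgroup_dvd_card N))
        refine h1.trans (Subgroup.card_dvd_of_le (le_inf Subgroup.le_normalizer ?_))
        exact fun x hx => Subgroup.subset_closure (Or.inl hx)
      · have : Fact q.Prime := ⟨hq⟩
        obtain ⟨Q⟩ : Nonempty (Sylow q N) := inferInstance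
        refine (Q.pow_dvd_card_of_pow_dvd_card hj).trans ?_
        have hQ : (Q : Subgroup N).map N.subtype ≤ N ⊓ D := by
          rintro _ ⟨⟨k, hkN⟩, hkQ, rfl⟩
          refine ⟨hkN, Subgroup.subset_closure (Or.inr (Or.inl ?_))⟩
          obtain ⟨n, hn⟩ := Q.2 ⟨⟨k, hkN⟩, hkQ⟩
          have hkn : k ^ (q ^ n) = 1 := by
            simpa using congrArg (fun y : (Q : Subgroup N) => ((y : N) : G)) hn
          set K : G := g⁻¹ * k * g with hKdef
          have hKS : ∀ σ, σ ∈ grp l ↔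
              (K : Equiv.Perm GolayPt) * σ * (K : Equiv.Perm GolayPt)⁻¹ ∈ grp l := by
            intro σ
            by_cases hσG : σ ∈ G
            · have h1 := Subgroup.mem_normalizer_iff.1 hkN (g * ⟨σ, hσG⟩ * g⁻¹)
              rw [hmemS, hmemS] at h1
              simpa [hKdef, mul_assoc] using h1
            · refine ⟨fun h => absurd (hle h) hσG, fun h => absurd ?_ hσG⟩
              have := G.mul_mem (G.mul_mem (G.inv_mem K.2) (hle h)) K.2
              simpa [mul_assoc] using this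
          have hKq : (K : Equiv.Perm GolayPt) ^ (q ^ n) = 1 := by
            have : K ^ (q ^ n) = 1 := by
              have e : g⁻¹ * k * g = g⁻¹ * k * g⁻¹⁻¹ := by rw [inv_inv]
              rw [hKdef, e, conj_pow, hkn]; group
            simpa using congrArg Subtype.val this
          have hc := odd_centralizes hl hF hsq hsep hKS
            (masks_fixed hl hd hKS (hK K K.2)) hq2 hKq
          rw [Set.mem_ofPred_eq, Subgroup.mem_centralizer_iff]
          intro x hx
          have h1 := hc _ ((hmemS x).1 hx)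
          rw [hKdef] at h1
          have h2 : (g⁻¹ * k * g) * (g⁻¹ * x * g) = (g⁻¹ * x * g) * (g⁻¹ * k * g) :=
            Subtype.ext h1
          calc x * k = g * ((g⁻¹ * x * g) * (g⁻¹ * k * g)) * g⁻¹ := by group
            _ = g * ((g⁻¹ * k * g) * (g⁻¹ * x * g)) * g⁻¹ := by rw [h2]
            _ = k * x := by group
        rw [Nat.card_congr ((Q : Subgroup N).equivMapOfInjective N.subtype N.subtype_injective).toEquiv]
        exact Subgroup.card_dvd_of_le hQ
    have hND : N ⊓ D = N := Subgroup.eq_of_le_of_card_ge inf_le_left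
      (Nat.le_of_dvd Nat.card_pos key)
    exact inf_eq_left.1 hND

end Cfsg.Agent.SylowCert
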