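import Mathlib
import Cfsg.Prelude.Def_CaseTheorems
import Cfsg.Agent.Lib.SFTTwo
import Cfsg.Agent.Lib.SFTExtend
import Cfsg.Agent.Lib.SFTApps
import Cfsg.Agent.S0502

/-!
# One closure for all four-subgroups of a Sylow 2-subgroup

If a Sylow 2-subgroup `T` has a normal elementary abelian subgroup of order at least eight and `θ`
is a solvable signalizer functor on every elementary abelian subgroup of order at least eight,
then all four-subgroups of `T` have the same closure, a group of odd order.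
-/

set_option autoImplicit false

namespace Cfsg.Agent.SylowCores35

open Cfsg.Agent.SignalizerCoprime Cfsg.Agent.SFTGroup

universe u

variable {G : Type u} [Group G]

/-- The subgroup generated by the values on the non-identity elements. -/
def clo (θ : G → Subgroup G) (U : Subgroup G) : Subgroup G :=
  ⨆ u : {u : G // u ∈ U ∧ u ≠ 1}, θ u.1

theorem le_clo {θ : G → Subgroup G} {U : Subgroup G} {u : G} (hu : u ∈ U) (hu1 : u ≠ 1) :
    θ u ≤ clo θ U :=
  le_iSup (fun c : {c : G // c ∈ U ∧ c ≠ 1} => θ c.1) ⟨u, hu, hu1⟩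

theorem completeAt_two : SFTExtend.CompleteAt.{u} 2 := fun _ _ _ _ _ hS => SFTTwo.complete hS

variable [Finite G] (θ : G → Subgroup G)

/-- A large elementary group and any of its noncyclic subgroups have the same closure. -/
theorem clo_eq_of_le {U B : Subgroup G} (hB : Cfsg.IsElementaryAbelian 2 B)
    (hf : Cfsg.IsSolvableSignalizerFunctor 2 B θ) (hUB : U ≤ B) (hU : 4 ≤ Nat.card U) :
    clo θ U = clo θ B := by
  haveI := Fact.mk Nat.prime_two
  obtain ⟨hfB, -⟩ := hf
  refine le_antisymm (iSup_le fun e => le_clo (hUB e.2.1) e.2.2) (iSup_le fun c => ?_)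
  exact le_of_centralizers_le (elementaryAbelian_of_le hB hUB) (by simpa using hU)
    (hUB.trans (le_normalizer_of_forall (hfB.2.2.1 c.1 c.2.1 c.2.2))) (hfB.2.1 c.1 c.2.1 c.2.2)
    fun e he he1 => (hfB.2.2.2 c.1 c.2.1 c.2.2 e (hUB he) he1).trans (le_clo he he1)

variable (hf : ∀ B : Subgroup G, Cfsg.IsElementaryAbelian 2 B → 8 ≤ Nat.card B →
  Cfsg.IsSolvableSignalizerFunctor 2 B θ)

omit [Finite G] in
theorem elementary_map {H : Type*} [Group H] {f : H →* G} {E : Subgroup H}
    (hE : Cfsg.IsElementaryAbelian 2 E) : Cfsg.IsElementaryAbelian 2 (E.map f) := by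
  refine ⟨⟨⟨fun a b => Subtype.ext ?_⟩⟩, ?_⟩
  · obtain ⟨x, hx, hxa⟩ := a.2
    obtain ⟨y, hy, hyb⟩ := b.2
    simp only [Subgroup.coe_mul]
    rw [← hxa, ← hyb, ← map_mul, ← map_mul]
    exact congrArg _ (congrArg Subtype.val (hE.1.is_comm.comm ⟨x, hx⟩ ⟨y, hy⟩))
  · rintro _ ⟨x, hx, rfl⟩
    rw [← map_pow, hE.2 x hx, map_one]

theorem elementary_of_klein {H : Type*} [Group H] {U : Subgroup H} (hU : IsKleinFour U) :
    Cfsg.IsElementaryAbelian 2 U := by
  refine ⟨⟨⟨mul_comm_of_exponent_two IsKleinFour.exponent_two⟩⟩, fun a ha => ?_⟩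
  have h : (⟨a, ha⟩ : U) * ⟨a, ha⟩ = 1 := IsKleinFour.mul_self _
  rw [pow_two]
  exact congrArg Subtype.val h

omit [Finite G] in
theorem klein_map {H : Type*} [Group H] {f : H →* G} (hfi : Function.Injective f)
    {U : Subgroup H} (hU : IsKleinFour U) : Nat.card (U.map f) = 4 := by
  rw [Subgroup.card_map_of_injective hfi]
  exact IsKleinFour.card_four

include hf in
/-- All four-subgroups of `T` have the same closure, of odd order. -/
theorem exists_closure (T : Sylow 2 G) (E : Subgroup ↥(T : Subgroup G)) [E.Normal]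
    (hE : Cfsg.IsElementaryAbelian 2 E) (hE8 : 8 ≤ Nat.card E) :
    ∃ W : Subgroup G, Odd (Nat.card W) ∧
      ∀ U : Subgroup ↥(T : Subgroup G), IsKleinFour U →
        clo θ (U.map (T : Subgroup G).subtype) = W := by
  haveI := Fact.mk Nat.prime_two
  set ι := (T : Subgroup G).subtype with hι
  have hιi : Function.Injective ι := Subgroup.subtype_injective _
  have hconn := S0502.result T.isPGroup' E hE.1 hE.2 hE8
  have hEe : Cfsg.IsElementaryAbelian 2 (E.map ι) := elementary_map hE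
  have hEc : 8 ≤ Nat.card (E.map ι) := by rwa [Subgroup.card_map_of_injective hιi]
  obtain ⟨hWfam, -⟩ := SFTExtend.closure_mem completeAt_two hEe (by simpa using hEc)
    (hf _ hEe hEc)
  refine ⟨clo θ (E.map ι), ?_, fun U hU => ?_⟩
  · rw [Nat.odd_iff, ← Nat.two_dvd_ne_zero]
    exact hWfam.2.1
  -- a four-subgroup inside `E`
  obtain ⟨k, hk⟩ := IsPGroup.iff_card.1 (T.isPGroup'.to_subgroup E)
  have hk2 : 2 ≤ k := by
    by_contra h
    have : Nat.card E ≤ 2 ^ 1 := hk ▸ Nat.pow_le_pow_right (by norm_num) (by omega)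
    omega
  obtain ⟨U₁, hU₁⟩ := Sylow.exists_subgroup_card_pow_prime (G := ↥E) 2 (n := 2)
    (hk ▸ pow_dvd_pow 2 hk2)
  set U₀ := U₁.map E.subtype with hU₀
  have hU₀E : U₀ ≤ E := Subgroup.map_subtype_le _
  have hU₀4 : Nat.card U₀ = 4 := by
    rw [hU₀, Subgroup.card_map_of_injective E.subtype_injective, hU₁]; norm_num
  have hU₀k : IsKleinFour U₀ := by
    refine ⟨hU₀4, ?_⟩
    haveI : Nontrivial ↥U₀ := by rw [← Finite.one_lt_card_iff_nontrivial, hU₀4]; norm_num
    refine (Monoid.exponent_eq_prime_iff Nat.prime_two).2 fun g hg => orderOf_eq_prime ?_ hg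
    exact Subtype.ext (by simpa using hE.2 _ (hU₀E g.2))
  have hbase : clo θ (U₀.map ι) = clo θ (E.map ι) :=
    clo_eq_of_le θ hEe (hf _ hEe hEc) (Subgroup.map_mono hU₀E) (klein_map hιi hU₀k).ge
  rw [← hbase]
  have hr := hconn U₀ U hU₀k hU
  clear hU
  induction hr with
  | refl => rfl
  | @tail X Y _ hXY ih =>
    obtain ⟨hX, hY, hc⟩ := hXY
    rw [← ih]
    rcases eq_or_ne X Y with rfl | hne
    · rfl
    have hXe : Cfsg.IsElementaryAbelian 2 (X.map ι) := elementary_map (elementary_of_klein hX)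
    have hYe : Cfsg.IsElementaryAbelian 2 (Y.map ι) := elementary_map (elementary_of_klein hY)
    have hel := SFTApps.sup_elementary (p := 2) hXe hYe (by
      rintro _ ⟨a, ha, rfl⟩ _ ⟨b, hb, rfl⟩
      rw [← map_mul, ← map_mul, hc a ha b hb])
    have hX4 := klein_map hιi hX
    have hY4 := klein_map hιi hY
    have h8 : 8 ≤ Nat.card ↥(X.map ι ⊔ Y.map ι) := by
      obtain ⟨j, hj⟩ := IsPGroup.iff_card.1 (isPGroup_of_elementaryAbelian hel)
      rcases Nat.lt_or_ge j 3 with hj3 | hj3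
      · exfalso
        have hle : Nat.card ↥(X.map ι ⊔ Y.map ι) ≤ 4 :=
          hj ▸ Nat.pow_le_pow_right (show 1 ≤ 2 by norm_num) (show j ≤ 2 by omega)
        have e1 := Subgroup.eq_of_le_of_card_ge
          (le_sup_left : X.map ι ≤ X.map ι ⊔ Y.map ι) (hle.trans hX4.ge)
        have e2 := Subgroup.eq_of_le_of_card_ge
          (le_sup_right : Y.map ι ≤ X.map ι ⊔ Y.map ι) (hle.trans hY4.ge)
        exact hne (Subgroup.map_injective hιi (e1.trans e2.symm))
      · exact hj ▸ Nat.pow_le_pow_right (show 1 ≤ 2 by norm_num) hj3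
    rw [clo_eq_of_le θ hel (hf _ hel h8) le_sup_right hY4.ge,
      clo_eq_of_le θ hel (hf _ hel h8) le_sup_left hX4.ge]

end Cfsg.Agent.SylowCores35
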