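import Mathlib

set_option autoImplicit false

/-!
The derived length of a Sylow `p`-subgroup of the symmetric group of degree `n` is `⌊log_p n⌋`.
-/

namespace Cfsg.Agent.SylowDerivedLength

open scoped commutatorElement

universe u v

lemma commutator_le_coatom {G : Type u} [Group G] [Finite G] [Group.IsNilpotent G] {H : Subgroup G} (h : H ≠ ⊤) :
    commutator G ⊔ H ≠ ⊤ := by
  obtain ⟨M, hM, hle⟩ := (eq_top_or_exists_le_coatom H).resolve_left h
  haveI : M.Normal := Subgroup.NormalizerCondition.normal_of_coatom M Group.normalizerCondition_of_isNilpotent hM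
  have hcomm : ∀ a b : G ⧸ M, a * b = b * a := by
    intro a b
    by_cases ha : a = 1
    · simp [ha]
    · have hz : Subgroup.zpowers a = ⊤ := by
        have hle : M ≤ (Subgroup.zpowers a).comap (QuotientGroup.mk' M) := fun m hm => by
          rw [Subgroup.mem_comap, QuotientGroup.mk'_apply, (QuotientGroup.eq_one_iff m).2 hm]; exact one_mem _
        rcases hM.le_iff.1 hle with e | e
        · rw [← Subgroup.map_comap_eq_self_of_surjective (QuotientGroup.mk'_surjective M) (Subgroup.zpowers a), e,
            Subgroup.map_top_of_surjective _ (QuotientGroup.mk'_surjective M)]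
        · exfalso
          obtain ⟨g, rfl⟩ := QuotientGroup.mk'_surjective M a
          apply ha
          have : g ∈ (Subgroup.zpowers (QuotientGroup.mk' M g)).comap (QuotientGroup.mk' M) :=
            Subgroup.mem_zpowers _
          rw [e] at this
          exact (QuotientGroup.eq_one_iff g).2 this
      obtain ⟨i, rfl⟩ := Subgroup.mem_zpowers_iff.1 (hz ▸ Subgroup.mem_top b : b ∈ Subgroup.zpowers a)
      exact ((Commute.refl a).zpow_right i).eq
  have : commutator G ≤ M := by
    rw [commutator_def, Subgroup.commutator_le]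
    intro a _ b _
    rw [← QuotientGroup.eq_one_iff]
    show ((⁅a, b⁆ : G) : G ⧸ M) = 1
    rw [commutatorElement_def]
    simp [hcomm (a : G ⧸ M) (b : G ⧸ M)]
  intro e
  exact hM.1 (top_le_iff.1 (e ▸ sup_le this hle))

lemma derivedSeries_succ_map {G : Type u} [Group G] (k : ℕ) :
    (derivedSeries ↥(commutator G) k).map (commutator G).subtype = derivedSeries G (k + 1) := by
  induction k with
  | zero => rw [derivedSeries_zero, ← MonoidHom.range_eq_map, Subgroup.range_subtype, derivedSeries_one]
  | succ k ih => rw [derivedSeries_succ, Subgroup.map_commutator, ih, ← derivedSeries_succ]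

/-- A `p`-group with orbits of size at most `p^k` acts with derived length at most `k`. -/
theorem upper (p : ℕ) [hp : Fact p.Prime] {α : Type v} [Finite α] (k : ℕ) :
    ∀ {P : Type u} [Group P] [Finite P] [MulAction P α] [FaithfulSMul P α], IsPGroup p P →
      (∀ x : α, Nat.card (MulAction.orbit P x) ≤ p ^ k) → derivedSeries P k = ⊥ := by
  induction k with
  | zero =>
    intro P _ _ _ _ _ hx
    rw [derivedSeries_zero, Subgroup.eq_bot_iff_forall]
    intro g _
    refine FaithfulSMul.eq_of_smul_eq_smul (α := α) fun x => ?_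
    have h1 : Nat.card (MulAction.orbit P x) = 1 :=
      le_antisymm (by simpa using hx x) (haveI := (MulAction.nonempty_orbit (M := P) x).to_subtype; Nat.card_pos)
    haveI : Subsingleton (MulAction.orbit P x) := (Nat.card_eq_one_iff_unique.1 h1).1
    rw [one_smul]
    exact congrArg Subtype.val (Subsingleton.elim (⟨g • x, MulAction.mem_orbit x g⟩ : MulAction.orbit P x)
      ⟨x, MulAction.mem_orbit_self x⟩)
  | succ k ih =>
    intro P _ _ _ _ hP hx
    haveI := hP.isNilpotent
    have hQ : IsPGroup p ↥(commutator P) := hP.to_subgroup _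
    rw [← derivedSeries_succ_map, ih hQ ?_, Subgroup.map_bot]
    intro x
    by_contra hbig
    rw [not_le] at hbig
    have hsub : MulAction.orbit ↥(commutator P) x ⊆ MulAction.orbit P x := by
      rintro _ ⟨q, rfl⟩; exact MulAction.mem_orbit x (q : P)
    have hle := Set.ncard_le_ncard hsub (Set.toFinite _)
    rw [← Nat.card_coe_set_eq, ← Nat.card_coe_set_eq] at hle
    obtain ⟨i, hi⟩ := hQ.card_orbit x
    obtain ⟨j, hj⟩ := hP.card_orbit x
    have h1 := hx x
    rw [hj] at hle h1
    rw [hi] at hle hbig
    have hki : k < i := (Nat.pow_lt_pow_iff_right hp.out.one_lt).1 hbig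
    have hjk : j ≤ k + 1 := (Nat.pow_le_pow_iff_right hp.out.one_lt).1 h1
    have hij : i ≤ j := (Nat.pow_le_pow_iff_right hp.out.one_lt).1 hle
    have heq : MulAction.orbit ↥(commutator P) x = MulAction.orbit P x := by
      refine Set.eq_of_subset_of_ncard_le hsub ?_ (Set.toFinite _)
      rw [← Nat.card_coe_set_eq, ← Nat.card_coe_set_eq, hi, hj]
      exact Nat.pow_le_pow_right hp.out.pos (by omega)
    have htop : commutator P ⊔ MulAction.stabilizer P x = ⊤ := by
      refine Subgroup.eq_top_iff' _ |>.2 fun g => ?_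
      have : g • x ∈ MulAction.orbit ↥(commutator P) x := heq ▸ MulAction.mem_orbit x g
      obtain ⟨q, hq⟩ := this
      have hm : (q : P)⁻¹ * g ∈ MulAction.stabilizer P x := by
        rw [MulAction.mem_stabilizer_iff, mul_smul, inv_smul_eq_iff]; exact hq.symm
      simpa using Subgroup.mul_mem_sup q.2 hm
    have hst : MulAction.stabilizer P x = ⊤ := by
      by_contra h
      exact commutator_le_coatom h htop
    have : Nat.card (MulAction.orbit P x) = 1 := by
      rw [Nat.card_congr (MulAction.orbitEquivQuotientStabilizer P x), hst]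
      exact Subgroup.index_top
    rw [hj] at this
    have : 1 < p ^ j := Nat.one_lt_pow (by omega) hp.out.one_lt
    omega

open RegularWreathProduct in
/-- The derived series of a wreath product covers that of the bottom group, one step later. -/
lemma wreath_step {D Q : Type u} [Group D] [CommGroup Q] [Nontrivial Q] (j : ℕ) :
    ∀ d ∈ derivedSeries D j, ∃ w ∈ derivedSeries (D ≀ᵣ Q) (j + 1), w.right = 1 ∧ w.left 1 = d := by
  classical
  induction j with
  | zero =>
    intro d _
    obtain ⟨q, hq⟩ := exists_ne (1 : Q)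
    let a : D ≀ᵣ Q := ⟨Pi.mulSingle 1 d, 1⟩
    refine ⟨⁅a, inl q⁆, ?_, ?_, ?_⟩
    · rw [derivedSeries_one, commutator_def]
      exact Subgroup.commutator_mem_commutator (Subgroup.mem_top _) (Subgroup.mem_top _)
    · simp [commutatorElement_def, a]
    · simp [commutatorElement_def, a, hq, Pi.mulSingle_eq_of_ne]
  | succ j ih =>
    intro d hd
    rw [derivedSeries_succ, Subgroup.commutator_def] at hd
    induction hd using Subgroup.closure_induction with
    | mem d hd =>
      obtain ⟨a, ha, b, hb, rfl⟩ := hd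
      obtain ⟨u, hu, hu1, rfl⟩ := ih a ha
      obtain ⟨v, hv, hv1, rfl⟩ := ih b hb
      refine ⟨⁅u, v⁆, ?_, ?_, ?_⟩
      · rw [derivedSeries_succ]; exact Subgroup.commutator_mem_commutator hu hv
      · simp [commutatorElement_def, hu1, hv1]
      · simp [commutatorElement_def, hu1, hv1]
    | one => exact ⟨1, one_mem _, rfl, rfl⟩
    | mul a b _ _ ha hb =>
      obtain ⟨u, hu, hu1, hua⟩ := ha
      obtain ⟨v, hv, hv1, hvb⟩ := hb
      exact ⟨u * v, mul_mem hu hv, by simp [hu1, hv1], by simp [hu1, hua, hvb]⟩
    | inv a _ ha =>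
      obtain ⟨u, hu, hu1, hua⟩ := ha
      exact ⟨u⁻¹, inv_mem hu, by simp [hu1], by simp [hu1, hua]⟩

lemma iterated_ne_bot (Q : Type) [CommGroup Q] [Nontrivial Q] (k : ℕ) :
    derivedSeries (IteratedWreathProduct Q (k + 1)) k ≠ ⊥ := by
  induction k with
  | zero =>
    rw [derivedSeries_zero]
    haveI : Nontrivial (IteratedWreathProduct Q (0 + 1)) := by
      obtain ⟨q, hq⟩ := exists_ne (1 : Q)
      exact ⟨RegularWreathProduct.inl q, 1, fun h => hq (congrArg RegularWreathProduct.right h)⟩
    exact top_ne_bot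
  | succ k ih =>
    obtain ⟨⟨d, hd⟩, hne'⟩ := Subgroup.ne_bot_iff_exists_ne_one.1 ih
    have hne : d ≠ 1 := fun e => hne' (Subtype.ext e)
    obtain ⟨w, hw, -, hw1⟩ := wreath_step (D := IteratedWreathProduct Q (k + 1)) (Q := Q) k d hd
    intro e
    have : w ∈ (⊥ : Subgroup (IteratedWreathProduct Q (k + 1) ≀ᵣ Q)) := e ▸ hw
    rw [Subgroup.mem_bot] at this
    subst this
    exact hne hw1.symm

theorem main (p : ℕ) [hp : Fact p.Prime] (n : ℕ) (hn : 1 ≤ n) (P : Sylow p (Equiv.Perm (Fin n))) :
    derivedSeries ↥(P : Subgroup (Equiv.Perm (Fin n))) (Nat.log p n) = ⊥ ∧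
      (1 ≤ Nat.log p n → derivedSeries ↥(P : Subgroup (Equiv.Perm (Fin n))) (Nat.log p n - 1) ≠ ⊥) := by
  classical
  constructor
  · refine upper p (α := Fin n) _ P.isPGroup' fun x => ?_
    obtain ⟨j, hj⟩ := P.isPGroup'.card_orbit x
    rw [hj]
    refine Nat.pow_le_pow_right hp.out.pos (Nat.le_log_of_pow_le hp.out.one_lt ?_)
    rw [← hj]
    simpa using Nat.card_le_card_of_injective (Subtype.val : MulAction.orbit ↥(P : Subgroup (Equiv.Perm (Fin n))) x → Fin n)
      Subtype.val_injective
  · intro h1 hbot
    obtain ⟨k, hk⟩ : ∃ k, Nat.log p n = k + 1 := ⟨Nat.log p n - 1, by omega⟩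
    rw [hk, Nat.add_sub_cancel] at hbot
    have hpk : p ^ (k + 1) ≤ n := hk ▸ Nat.pow_log_le_self p (by omega)
    let C := Multiplicative (ZMod p)
    haveI : NeZero p := ⟨hp.out.ne_zero⟩
    have hC : Nat.card C = p := by simp [C]
    obtain ⟨e⟩ : Nonempty ((Fin (k + 1) → C) ↪ Fin n) := by
      refine Function.Embedding.nonempty_of_card_le ?_
      rw [← Nat.card_eq_fintype_card, ← Nat.card_eq_fintype_card, Nat.card_fun, Nat.card_fin, hC, Nat.card_fin]
      exact hpk
    let f : IteratedWreathProduct C (k + 1) →* Equiv.Perm (Fin n) :=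
      (Equiv.Perm.extendDomainHom (Equiv.ofInjective e e.injective)).comp (iteratedWreathToPermHom C (k + 1))
    have hf : Function.Injective f :=
      (Equiv.Perm.extendDomainHom_injective _).comp (iteratedWreathToPermHomInj C (k + 1))
    have hpg : IsPGroup p f.range := by
      refine IsPGroup.of_card (n := ∑ i ∈ Finset.range (k + 1), p ^ i) ?_
      rw [← Nat.card_congr (MonoidHom.ofInjective hf).toEquiv, IteratedWreathProduct.card, hC]
    obtain ⟨R, hR⟩ := hpg.exists_le_sylow
    let g : IteratedWreathProduct C (k + 1) →* ↥(P : Subgroup (Equiv.Perm (Fin n))) :=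
      (R.equiv P).toMonoidHom.comp ((Subgroup.inclusion hR).comp f.rangeRestrict)
    have hg : Function.Injective g :=
      (R.equiv P).injective.comp ((Subgroup.inclusion_injective hR).comp fun a b h => hf (congrArg Subtype.val h))
    refine iterated_ne_bot C k ((Subgroup.map_eq_bot_iff_of_injective _ hg).1 ?_)
    exact le_bot_iff.1 (hbot ▸ map_derivedSeries_le_derivedSeries g k)

end Cfsg.Agent.SylowDerivedLength
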