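import Mathlib

/-!
An elementary proof of the bound `(2p-1) f ≤ (p-1) n` for the number `f` of points fixed by a Sylow
`p`-subgroup in a transitive action, and its form for Sylow numbers of subgroups.

Points are replaced by their "traces", finite sets of Sylow subgroups. The quantity
`(p-1) n - (2p-1) f` of a counterexample is at most `-p`; passing to the stabiliser of one point
increases it by `p`. Hence any `p` points are fixed by a common Sylow subgroup, which is impossible
for an orbit of length `p` of an element of `p`-power order.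
-/

set_option autoImplicit false

namespace Cfsg.Agent.SylowFixed

open scoped Pointwise Classical

noncomputable section

/-! ### orbits inside invariant finite sets -/

section Orbits

variable {G X : Type*} [Group G] [MulAction G X]

theorem sum_nonneg_of_orbits (Z : Finset X) (f : X → ℤ)
    (h : ∀ z ∈ Z, 0 ≤ ∑ y ∈ Z with y ∈ MulAction.orbit G z, f y) : 0 ≤ ∑ z ∈ Z, f z := by
  rw [← Finset.sum_fiberwise_of_maps_to (t := Z.image fun z => MulAction.orbit G z)
    (g := fun z => MulAction.orbit G z) (fun z hz => Finset.mem_image_of_mem _ hz) f]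
  refine Finset.sum_nonneg fun O hO => ?_
  obtain ⟨z, hz, rfl⟩ := Finset.mem_image.1 hO
  have e : (Z.filter fun y => MulAction.orbit G y = MulAction.orbit G z) =
      Z.filter fun y => y ∈ MulAction.orbit G z :=
    Finset.filter_congr fun y _ => MulAction.orbit_eq_iff
  rw [e]
  exact h z hz

theorem dvd_card_of_forall_not_fixed [Finite G] {p : ℕ} [Fact p.Prime] (hG : IsPGroup p G)
    (Z : Finset X) (hinv : ∀ (g : G), ∀ z ∈ Z, g • z ∈ Z)
    (hfix : ∀ z ∈ Z, ∃ g : G, g • z ≠ z) : p ∣ Z.card := by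
  rw [Finset.card_eq_sum_card_fiberwise (f := fun z => MulAction.orbit G z)
    (t := Z.image fun z => MulAction.orbit G z) (fun z hz => Finset.mem_image_of_mem _ hz)]
  refine Finset.dvd_sum fun O hO => ?_
  obtain ⟨z, hz, rfl⟩ := Finset.mem_image.1 hO
  have hset : ((Z.filter fun y => MulAction.orbit G y = MulAction.orbit G z : Finset X) : Set X) =
      MulAction.orbit G z := by
    ext y
    simp only [Finset.coe_filter, Set.mem_setOf_eq, MulAction.orbit_eq_iff]
    exact ⟨fun h => h.2, fun h => ⟨by obtain ⟨g, rfl⟩ := h; exact hinv g z hz, h⟩⟩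
  rw [← Set.ncard_coe_finset, hset]
  have : Finite (MulAction.orbit G z) := Finite.of_surjective (fun g : G => (⟨g • z, g, rfl⟩ :
    MulAction.orbit G z)) (by rintro ⟨_, g, rfl⟩; exact ⟨g, rfl⟩)
  obtain ⟨n, hn⟩ := hG.card_orbit z
  rw [Nat.card_coe_set_eq] at hn
  rw [hn]
  refine dvd_pow_self p fun h0 => ?_
  subst h0
  rw [pow_zero, Set.ncard_eq_one] at hn
  obtain ⟨a, ha⟩ := hn
  obtain ⟨g, hg⟩ := hfix z hz
  have h1 : g • z ∈ MulAction.orbit G z := MulAction.mem_orbit z g
  have h2 : z ∈ MulAction.orbit G z := MulAction.mem_orbit_self z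
  rw [ha, Set.mem_singleton_iff] at h1 h2
  exact hg (h1.trans h2.symm)

end Orbits

/-! ### traces -/

variable {G : Type*} [Group G] [Finite G] {p : ℕ}

/-- the Sylow subgroups inside `K` -/
def inside (K : Subgroup G) : Finset (Sylow p G) :=
  (Set.toFinite {Q : Sylow p G | (Q : Subgroup G) ≤ K}).toFinset

theorem mem_inside {K : Subgroup G} {Q : Sylow p G} : Q ∈ inside K ↔ (Q : Subgroup G) ≤ K := by
  simp [inside]

/-- a nonempty set of Sylow subgroups of `K`, stabilised by each of its members -/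
def Good (K : Subgroup G) (w : Finset (Sylow p G)) : Prop :=
  w.Nonempty ∧ w ⊆ inside K ∧ ∀ Q ∈ w, (Q : Subgroup G) ≤ MulAction.stabilizer G w

/-- invariance under conjugation by `K` -/
def Inv (K : Subgroup G) (Z : Finset (Finset (Sylow p G))) : Prop :=
  ∀ k ∈ K, ∀ w ∈ Z, k • w ∈ Z

/-- the weight of a trace with respect to a Sylow subgroup -/
def wgt (P : Sylow p G) (w : Finset (Sylow p G)) : ℤ :=
  ((p : ℤ) - 1) - if P ∈ w then 2 * (p : ℤ) - 1 else 0

/-- the total weight -/
def tot (P : Sylow p G) (Z : Finset (Finset (Sylow p G))) : ℤ := ∑ w ∈ Z, wgt P w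

/-- the orbit of a trace -/
def orb (K : Subgroup G) (w : Finset (Sylow p G)) : Finset (Finset (Sylow p G)) :=
  (Set.toFinite (MulAction.orbit K w)).toFinset

/-- the bound for the group `K` -/
def Bound (p : ℕ) (K : Subgroup G) : Prop :=
  ∀ P ∈ inside (p := p) K, ∀ w, Good K w → w ≠ inside K → 0 ≤ tot P (orb K w)

theorem mem_orb {K : Subgroup G} {w v : Finset (Sylow p G)} :
    v ∈ orb K w ↔ ∃ k ∈ K, k • w = v := by
  simp only [orb, Set.Finite.mem_toFinset, MulAction.mem_orbit_iff, Subtype.exists]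
  exact ⟨fun ⟨k, hk, h⟩ => ⟨k, hk, h⟩, fun ⟨k, hk, h⟩ => ⟨k, hk, h⟩⟩

theorem orb_inv (K : Subgroup G) (w : Finset (Sylow p G)) : Inv K (orb K w) := by
  intro k hk v hv
  obtain ⟨l, hl, rfl⟩ := mem_orb.1 hv
  exact mem_orb.2 ⟨k * l, K.mul_mem hk hl, mul_smul k l w⟩

theorem smul_inside {K : Subgroup G} {k : G} (hk : k ∈ K) :
    k • inside (p := p) K = inside K := by
  ext Q
  rw [← Finset.inv_smul_mem_iff, mem_inside, mem_inside]
  constructor
  · intro h
    have := Sylow.smul_le h (⟨k, hk⟩ : K)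
    rwa [show ((⟨k, hk⟩ : K) • k⁻¹ • Q) = Q from smul_inv_smul k Q] at this
  · intro h
    exact Sylow.smul_le h (⟨k⁻¹, K.inv_mem hk⟩ : K)

theorem Good.smul {K : Subgroup G} {w : Finset (Sylow p G)} (h : Good K w) {k : G} (hk : k ∈ K) :
    Good K (k • w) := by
  refine ⟨h.1.smul_finset, ?_, ?_⟩
  · rw [← smul_inside hk]; exact Finset.smul_finset_subset_smul_finset h.2.1
  · intro Q hQ x hx
    rw [MulAction.mem_stabilizer_iff]
    have h1 : k⁻¹ • Q ∈ w := Finset.inv_smul_mem_iff.2 hQ
    have h2 : k⁻¹ * x * k ∈ ((k⁻¹ • Q : Sylow p G) : Subgroup G) := by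
      rw [Sylow.coe_subgroup_smul]
      simpa using Subgroup.smul_mem_pointwise_smul x (MulAut.conj k⁻¹) _ hx
    have h3 := MulAction.mem_stabilizer_iff.1 (h.2.2 _ h1 h2)
    rw [mul_smul, mul_smul, inv_smul_eq_iff] at h3
    exact h3

section

variable [Fact p.Prime]

theorem exists_conj_mem {K : Subgroup G} {P Q : Sylow p G} (hP : (P : Subgroup G) ≤ K)
    (hQ : (Q : Subgroup G) ≤ K) : ∃ k ∈ K, k • Q = P := by
  obtain ⟨g, hg⟩ := MulAction.exists_smul_eq K (Q.subtype hQ) (P.subtype hP)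
  rw [Sylow.smul_subtype] at hg
  exact ⟨g, g.2, Sylow.subtype_injective hg⟩

theorem mem_of_fix {K : Subgroup G} {w : Finset (Sylow p G)} (h : Good K w) {P : Sylow p G}
    (hP : P ∈ inside K) (hPw : (P : Subgroup G) ≤ MulAction.stabilizer G w) : P ∈ w := by
  obtain ⟨Q, hQ⟩ := h.1
  obtain ⟨k, hk, rfl⟩ := exists_conj_mem (le_inf (mem_inside.1 hP) hPw)
    (le_inf (mem_inside.1 (h.2.1 hQ)) (h.2.2 Q hQ))
  have := Finset.smul_mem_smul_finset (a := k) hQ
  rwa [MulAction.mem_stabilizer_iff.1 hk.2] at this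

theorem eq_inside_of_invariant {K : Subgroup G} {w : Finset (Sylow p G)} (h : Good K w)
    (hK : K ≤ MulAction.stabilizer G w) : w = inside K :=
  Finset.Subset.antisymm h.2.1 fun _ hP => mem_of_fix h hP ((mem_inside.1 hP).trans hK)

theorem tot_indep {K : Subgroup G} {P P' : Sylow p G} (hP : P ∈ inside K) (hP' : P' ∈ inside K)
    {Z : Finset (Finset (Sylow p G))} (hZ : Inv K Z) : tot P Z = tot P' Z := by
  obtain ⟨k, hk, rfl⟩ := exists_conj_mem (mem_inside.1 hP') (mem_inside.1 hP)
  refine Finset.sum_nbij' (fun w => k • w) (fun w => k⁻¹ • w) ?_ ?_ ?_ ?_ ?_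
  · intro w hw; exact hZ k hk w hw
  · intro w hw; exact hZ k⁻¹ (K.inv_mem hk) w hw
  · intro w _; exact inv_smul_smul k w
  · intro w _; exact smul_inv_smul k w
  · intro w _; simp only [wgt, Finset.smul_mem_smul_finset_iff]

theorem moved_of_notMem {K : Subgroup G} {w : Finset (Sylow p G)} (h : Good K w) {P : Sylow p G}
    (hP : P ∈ inside K) (hw : P ∉ w) : ∃ g : (P : Subgroup G), g • w ≠ w := by
  by_contra hc
  push Not at hc
  exact hw (mem_of_fix h hP fun g hg => MulAction.mem_stabilizer_iff.2 (hc ⟨g, hg⟩))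

/-- One step: pass to the stabiliser of a point with a largest trace. -/
theorem exists_common_step {K : Subgroup G} (hW : ∀ L < K, Bound p L) {P : Sylow p G}
    (hP : P ∈ inside K) (Z : Finset (Finset (Sylow p G))) (hZ : Inv K Z)
    (hgood : ∀ z ∈ Z, Good K z ∧ z ≠ inside K) (A : Finset (Finset (Sylow p G))) (hA : A ⊆ Z)
    (a : Finset (Sylow p G)) (haA : a ∈ A) (hmax : ∀ z ∈ Z, z.card ≤ a.card)
    (hE : tot P Z + p * A.card ≤ p * ((p : ℤ) - 1))
    (hrec : ∀ L < K, ∀ P' ∈ inside (p := p) L, ∀ (Z' : Finset (Finset (Sylow p G))), Inv L Z' →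
      (∀ z ∈ Z', Good L z ∧ z ≠ inside L) → ∀ A' ⊆ Z', A'.card < A.card →
      tot P' Z' + p * A'.card ≤ p * ((p : ℤ) - 1) → ∃ Q ∈ inside L, ∀ w ∈ A', Q ∈ w) :
    ∃ Q ∈ inside K, ∀ w ∈ A, Q ∈ w := by
  have haZ := hA haA
  obtain ⟨hga, hane⟩ := hgood a haZ
  obtain ⟨R, hRa⟩ := id hga.1
  have hRK := hga.2.1 hRa
  by_cases h1 : A.card ≤ 1
  · refine ⟨R, hRK, fun w hw => ?_⟩
    rwa [Finset.card_le_one.1 h1 w hw a haA]
  have h2 : 2 ≤ A.card := by omega
  set L := K ⊓ MulAction.stabilizer G a with hL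
  have hLK : L < K := lt_of_le_of_ne inf_le_left fun h =>
    hane (eq_inside_of_invariant hga (h ▸ inf_le_right))
  have hins : inside L = a := by
    ext Q
    rw [mem_inside, le_inf_iff]
    exact ⟨fun h => mem_of_fix hga (mem_inside.2 h.1) h.2,
      fun h => ⟨mem_inside.1 (hga.2.1 h), hga.2.2 Q h⟩⟩
  have hRL : R ∈ inside L := hins.symm ▸ hRa
  rw [tot_indep hP hRK hZ] at hE
  set Y := Z.erase a with hY
  have hYinv : Inv L Y := by
    intro k hk w hw
    rw [hY, Finset.mem_erase] at hw ⊢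
    refine ⟨fun h => hw.1 ?_, hZ k hk.1 w hw.2⟩
    rw [← smul_left_cancel_iff k, h, MulAction.mem_stabilizer_iff.1 hk.2]
  have hsplit : tot R Z = tot R Y + -(p : ℤ) := by
    rw [tot, tot, hY, ← Finset.sum_erase_add Z _ haZ]
    congr 1
    rw [wgt, if_pos hRa]; ring
  have hne_a : ∀ w ∈ Y, w ∩ a ≠ a := by
    intro w hw he
    rw [hY, Finset.mem_erase] at hw
    exact hw.1 (Finset.eq_of_subset_of_card_le (Finset.inter_eq_right.1 he) (hmax w hw.2)).symm
  have htr : ∀ k ∈ L, ∀ w : Finset (Sylow p G), k • w ∩ a = k • (w ∩ a) := by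
    intro k hk w
    rw [Finset.smul_finset_inter, MulAction.mem_stabilizer_iff.1 hk.2]
  have hgoodT : ∀ w ∈ Y, w ∩ a ≠ ∅ → Good L (w ∩ a) ∧ w ∩ a ≠ inside L := by
    intro w hw hne
    refine ⟨⟨Finset.nonempty_of_ne_empty hne, ?_, ?_⟩, hins ▸ hne_a w hw⟩
    · rw [hins]; exact Finset.inter_subset_right
    · intro Q hQ x hx
      rw [Finset.mem_inter] at hQ
      rw [MulAction.mem_stabilizer_iff, Finset.smul_finset_inter,
        MulAction.mem_stabilizer_iff.1 ((hgood w (Finset.mem_of_mem_erase hw)).1.2.2 Q hQ.1 hx),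
        MulAction.mem_stabilizer_iff.1 (hga.2.2 Q hQ.2 hx)]
  set T := (Y.image fun w => w ∩ a).erase ∅ with hT
  have hTinv : Inv L T := by
    intro k hk z hz
    rw [hT, Finset.mem_erase, Finset.mem_image] at hz ⊢
    obtain ⟨hz0, w, hw, rfl⟩ := hz
    refine ⟨?_, k • w, hYinv k hk w hw, htr k hk w⟩
    rwa [Ne, Finset.smul_finset_eq_empty]
  have hTgood : ∀ z ∈ T, Good L z ∧ z ≠ inside L := by
    intro z hz
    rw [hT, Finset.mem_erase, Finset.mem_image] at hz
    obtain ⟨hz0, w, hw, rfl⟩ := hz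
    exact hgoodT w hw hz0
  -- orbit sums inside `T`
  have horb : ∀ z ∈ T, 0 ≤ ∑ y ∈ T with y ∈ MulAction.orbit L z, wgt R y := by
    intro z hz
    have e : (T.filter fun y => y ∈ MulAction.orbit L z) = orb L z := by
      ext y
      rw [Finset.mem_filter, orb, Set.Finite.mem_toFinset]
      exact ⟨fun h => h.2, fun h => ⟨by obtain ⟨k, rfl⟩ := h; exact hTinv k k.2 z hz, h⟩⟩
    rw [e]
    exact hW L hLK R hRL z (hTgood z hz).1 (hTgood z hz).2
  have hT0 : 0 ≤ tot R T := sum_nonneg_of_orbits (G := L) T _ horb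
  set B := Y.filter fun w => w ∩ a ≠ ∅ with hB
  set F := Y.filter fun w => ¬ w ∩ a ≠ ∅ with hF
  have hBF : tot R Y = tot R B + tot R F := (Finset.sum_filter_add_sum_filter_not Y _ _).symm
  have hwt : ∀ w, wgt R w = wgt R (w ∩ a) := fun w => by simp [wgt, hRa]
  have hBT : tot R T ≤ tot R B := by
    have hmaps : ∀ w ∈ B, w ∩ a ∈ T := fun w hw => by
      rw [hB, Finset.mem_filter] at hw
      exact Finset.mem_erase.2 ⟨hw.2, Finset.mem_image_of_mem _ hw.1⟩
    have h3 : tot R B = ∑ z ∈ T, ((B.filter fun w => w ∩ a = z).card : ℤ) * wgt R z := by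
      rw [tot, ← Finset.sum_fiberwise_of_maps_to hmaps]
      refine Finset.sum_congr rfl fun z _ => ?_
      rw [Finset.sum_congr rfl (g := fun _ => wgt R z), Finset.sum_const, nsmul_eq_mul]
      intro w hw
      rw [hwt w, (Finset.mem_filter.1 hw).2]
    have h4 : 0 ≤ ∑ z ∈ T, (((B.filter fun w => w ∩ a = z).card : ℤ) - 1) * wgt R z := by
      refine sum_nonneg_of_orbits (G := L) T _ fun z hz => ?_
      have hc : ∀ y ∈ T.filter (fun y => y ∈ MulAction.orbit L z),
          (B.filter fun w => w ∩ a = y).card = (B.filter fun w => w ∩ a = z).card := by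
        intro y hy
        obtain ⟨⟨k, hk⟩, rfl⟩ := (Finset.mem_filter.1 hy).2
        refine Finset.card_nbij' (fun w => k⁻¹ • w) (fun w => k • w) ?_ ?_ ?_ ?_
        · intro w hw
          simp only [Finset.mem_coe, hB, Finset.mem_filter] at hw ⊢
          have e : k⁻¹ • w ∩ a = z := by
            rw [htr k⁻¹ (L.inv_mem hk) w, hw.2]
            exact inv_smul_smul k z
          exact ⟨⟨hYinv _ (L.inv_mem hk) w hw.1.1, e.symm ▸ (Finset.mem_erase.1 hz).1⟩, e⟩
        · intro w hw
          simp only [Finset.mem_coe, hB, Finset.mem_filter] at hw ⊢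
          have e : k • w ∩ a = k • z := by rw [htr k hk w, hw.2]
          refine ⟨⟨hYinv k hk w hw.1.1, ?_⟩, e⟩
          rw [e, Ne, Finset.smul_finset_eq_empty]
          exact (Finset.mem_erase.1 hz).1
        · intro w _; exact smul_inv_smul k w
        · intro w _; exact inv_smul_smul k w
      rw [Finset.sum_congr rfl (g := fun y =>
        (((B.filter fun w => w ∩ a = z).card : ℤ) - 1) * wgt R y) (fun y hy => by rw [hc y hy]),
        ← Finset.mul_sum]
      refine mul_nonneg ?_ (horb z hz)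
      rw [hT, Finset.mem_erase, Finset.mem_image] at hz
      obtain ⟨hz0, w, hw, rfl⟩ := hz
      have : 0 < (B.filter fun w' => w' ∩ a = w ∩ a).card :=
        Finset.card_pos.2 ⟨w, by simp [hB, hw, hz0]⟩
      omega
    rw [h3, tot]
    simp only [sub_mul, one_mul, Finset.sum_sub_distrib] at h4
    linarith
  have hp2 : 2 ≤ p := (Fact.out : p.Prime).two_le
  have hF0 : F = ∅ := by
    by_contra hne
    have hRF : ∀ w ∈ F, R ∉ w := fun w hw hc => by
      rw [hF, Finset.mem_filter] at hw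
      exact hw.2 (Finset.ne_empty_of_mem (Finset.mem_inter.2 ⟨hc, hRa⟩))
    have hdvd : p ∣ F.card := by
      refine dvd_card_of_forall_not_fixed (G := (R : Subgroup G)) R.2 F ?_ fun w hw => ?_
      · rintro ⟨g, hg⟩ w hw
        have hgL : g ∈ L := mem_inside.1 hRL hg
        rw [hF, Finset.mem_filter] at hw ⊢
        refine ⟨hYinv g hgL w hw.1, fun h => hw.2 fun h0 => h ?_⟩
        show g • w ∩ a = ∅
        rw [htr g hgL w, h0, Finset.smul_finset_empty]
      · exact moved_of_notMem (hgood w (Finset.mem_of_mem_erase (Finset.mem_of_mem_filter w hw))).1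
          hRK (hRF w hw)
    have hcard : p ≤ F.card := Nat.le_of_dvd (Finset.card_pos.2 (Finset.nonempty_of_ne_empty hne)) hdvd
    have hFt : tot R F = F.card * ((p : ℤ) - 1) := by
      rw [tot, Finset.sum_congr rfl (g := fun _ => (p : ℤ) - 1) fun w hw => by simp [wgt, hRF w hw],
        Finset.sum_const, nsmul_eq_mul]
    have h5 : (p : ℤ) * ((p : ℤ) - 1) ≤ F.card * ((p : ℤ) - 1) :=
      mul_le_mul_of_nonneg_right (by exact_mod_cast hcard) (by omega)
    nlinarith [(by exact_mod_cast h2 : (2 : ℤ) ≤ A.card)]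
  have hA' : (A.erase a).image (fun w => w ∩ a) ⊆ T := by
    intro z hz
    obtain ⟨w, hw, rfl⟩ := Finset.mem_image.1 hz
    rw [Finset.mem_erase] at hw
    have hwY : w ∈ Y := Finset.mem_erase.2 ⟨hw.1, hA hw.2⟩
    refine Finset.mem_erase.2 ⟨fun h0 => ?_, Finset.mem_image_of_mem _ hwY⟩
    have : w ∈ F := Finset.mem_filter.2 ⟨hwY, not_not.2 h0⟩
    rw [hF0] at this
    exact Finset.notMem_empty _ this
  have hc' : ((A.erase a).image fun w => w ∩ a).card + 1 ≤ A.card := by
    have := Finset.card_image_le (s := A.erase a) (f := fun w => w ∩ a)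
    rw [Finset.card_erase_of_mem haA] at this
    omega
  obtain ⟨Q, hQL, hQ⟩ := hrec L hLK R hRL T hTinv hTgood _ hA' (by omega) (by
    have hF' : tot R F = 0 := by rw [hF0]; rfl
    have : ((((A.erase a).image fun w => w ∩ a).card : ℕ) : ℤ) + 1 ≤ A.card := by exact_mod_cast hc'
    nlinarith)
  refine ⟨Q, mem_inside.2 ((mem_inside.1 hQL).trans inf_le_left), fun w hw => ?_⟩
  by_cases h : w = a
  · rw [h, ← hins]; exact hQL
  · exact (Finset.mem_inter.1 (hQ _ (Finset.mem_image_of_mem _ (Finset.mem_erase.2 ⟨h, hw⟩)))).1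

/-- Any few points are fixed by a common Sylow subgroup. -/
theorem exists_common : ∀ (d : ℕ) (K : Subgroup G), (∀ L ≤ K, Bound p L) → ∀ P ∈ inside (p := p) K,
    ∀ (Z : Finset (Finset (Sylow p G))), Inv K Z → (∀ z ∈ Z, Good K z ∧ z ≠ inside K) →
    ∀ A ⊆ Z, A.card ≤ d → tot P Z + p * A.card ≤ p * ((p : ℤ) - 1) →
    ∃ Q ∈ inside K, ∀ w ∈ A, Q ∈ w := by
  intro d
  induction d with
  | zero =>
    intro K _ P hP Z _ _ A _ hd _
    exact ⟨P, hP, fun w hw => absurd (Finset.card_pos.2 ⟨w, hw⟩) (by omega)⟩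
  | succ d ih =>
    intro K hW P hP Z hZ hgood A hA hd hE
    rcases A.eq_empty_or_nonempty with rfl | hne
    · exact ⟨P, hP, fun w hw => absurd hw (Finset.notMem_empty w)⟩
    obtain ⟨a, ha, hmax⟩ := Finset.exists_max_image A Finset.card hne
    set Z₁ := Z.filter fun z => ∃ k ∈ K, ∃ b ∈ A, k • b = z with hZ₁
    have hsub : A ⊆ Z₁ := fun w hw =>
      Finset.mem_filter.2 ⟨hA hw, 1, K.one_mem, w, hw, one_smul G w⟩
    have hZ₁inv : Inv K Z₁ := by
      intro k hk w hw
      obtain ⟨hwZ, l, hl, b, hb, rfl⟩ := Finset.mem_filter.1 hw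
      exact Finset.mem_filter.2 ⟨hZ k hk _ hwZ, k * l, K.mul_mem hk hl, b, hb, mul_smul k l b⟩
    have hrest : tot P Z₁ ≤ tot P Z := by
      have h0 : 0 ≤ ∑ z ∈ Z with ¬ (∃ k ∈ K, ∃ b ∈ A, k • b = z), wgt P z := by
        refine sum_nonneg_of_orbits (G := K) _ _ fun z hz => ?_
        rw [Finset.mem_filter] at hz
        have e : ((Z.filter fun z => ¬ ∃ k ∈ K, ∃ b ∈ A, k • b = z).filter
            fun y => y ∈ MulAction.orbit K z) = orb K z := by
          ext y
          rw [Finset.mem_filter, Finset.mem_filter, orb, Set.Finite.mem_toFinset]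
          refine ⟨fun h => h.2, fun h => ⟨?_, h⟩⟩
          obtain ⟨⟨k, hk⟩, rfl⟩ := h
          refine ⟨hZ k hk z hz.1, fun ⟨l, hl, b, hb, hlb⟩ => hz.2 ⟨k⁻¹ * l,
            K.mul_mem (K.inv_mem hk) hl, b, hb, ?_⟩⟩
          rw [mul_smul, hlb]
          exact inv_smul_smul k z
        rw [e]
        exact hW K le_rfl P hP z (hgood z hz.1).1 (hgood z hz.1).2
      have h1 : tot P Z₁ + ∑ z ∈ Z with ¬ (∃ k ∈ K, ∃ b ∈ A, k • b = z), wgt P z = tot P Z :=
        Finset.sum_filter_add_sum_filter_not Z _ _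
      linarith
    refine exists_common_step (fun L hL => hW L hL.le) hP Z₁ hZ₁inv
      (fun z hz => hgood z (Finset.mem_of_mem_filter z hz)) A hsub a ha ?_ (by linarith)
      fun L hL P' hP' Z' hZ' hg' A' hA' hc hE' => ih L (fun M hM => hW M (hM.trans hL.le)) P' hP'
        Z' hZ' hg' A' hA' (by omega) hE'
    intro z hz
    obtain ⟨-, k, -, b, hb, rfl⟩ := Finset.mem_filter.1 hz
    rw [Finset.card_smul_finset]
    exact hmax b hb

/-- The bound. -/
theorem bound (K : Subgroup G) : Bound p K := by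
  induction K using WellFoundedLT.induction with
  | ind K IH =>
    intro P hP w hw hne
    by_contra hlt
    push Not at hlt
    set Z := orb K w with hZdef
    have hgood : ∀ z ∈ Z, Good K z ∧ z ≠ inside K := by
      intro z hz
      obtain ⟨k, hk, rfl⟩ := mem_orb.1 hz
      exact ⟨hw.smul hk, fun h => hne (smul_left_cancel k (h.trans (smul_inside hk).symm))⟩
    have hmod : (p : ℤ) ∣ tot P Z := by
      have hd : p ∣ (Z.filter fun z => P ∉ z).card := by
        refine dvd_card_of_forall_not_fixed (G := (P : Subgroup G)) P.2 _ ?_ fun z hz => ?_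
        · rintro ⟨g, hg⟩ z hz
          rw [Finset.mem_filter] at hz ⊢
          refine ⟨orb_inv K w g (mem_inside.1 hP hg) z hz.1, fun h => hz.2 ?_⟩
          have h' : g • P = P := Sylow.smul_eq_iff_mem_normalizer.2 (Subgroup.le_normalizer hg)
          have h2 : g⁻¹ • P ∈ z := Finset.inv_smul_mem_iff.2 h
          rwa [show g⁻¹ • P = P from inv_smul_eq_iff.2 h'.symm] at h2
        · rw [Finset.mem_filter] at hz
          exact moved_of_notMem (hgood z hz.1).1 hP hz.2
      rw [tot, ← Finset.sum_filter_add_sum_filter_not Z (fun z => P ∈ z),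
        Finset.sum_congr rfl (g := fun _ => -(p : ℤ)) (fun z hz => by
          rw [wgt, if_pos (Finset.mem_filter.1 hz).2]; ring),
        Finset.sum_congr rfl (s₁ := Z.filter fun z => ¬ P ∈ z) (g := fun _ => (p : ℤ) - 1) (fun z hz => by
          rw [wgt, if_neg (Finset.mem_filter.1 hz).2, sub_zero]),
        Finset.sum_const, Finset.sum_const, nsmul_eq_mul, nsmul_eq_mul]
      exact dvd_add (dvd_mul_of_dvd_right (dvd_neg.2 dvd_rfl) _)
        (dvd_mul_of_dvd_left (by exact_mod_cast hd) _)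
    have hle : tot P Z ≤ -(p : ℤ) := by
      obtain ⟨c, hc⟩ := hmod
      have hp : (0 : ℤ) < p := by exact_mod_cast (Fact.out : p.Prime).pos
      rw [hc] at hlt ⊢
      have : c ≤ -1 := by nlinarith
      nlinarith
    obtain ⟨u, huZ, hu⟩ : ∃ u ∈ Z, P ∉ u := by
      by_contra hc
      push Not at hc
      refine hne (Finset.Subset.antisymm hw.2.1 fun Q hQ => ?_)
      obtain ⟨k, hk, rfl⟩ := exists_conj_mem (mem_inside.1 hQ) (mem_inside.1 hP)
      have := hc (k⁻¹ • w) (mem_orb.2 ⟨k⁻¹, K.inv_mem hk, rfl⟩)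
      exact Finset.mem_inv_smul_finset_iff.1 this
    obtain ⟨⟨g, hgP⟩, hg⟩ := moved_of_notMem (hgood u huZ).1 hP hu
    have hg : g • u ≠ u := hg
    obtain ⟨e, he⟩ := P.2 ⟨g, hgP⟩
    have he : g ^ p ^ e = 1 := congrArg Subtype.val he
    have hex : ∃ j, g ^ p ^ j • u = u := ⟨e, by rw [he, one_smul]⟩
    obtain ⟨j, hj⟩ : ∃ j, Nat.find hex = j + 1 := by
      refine Nat.exists_eq_succ_of_ne_zero fun h0 => hg ?_
      have := Nat.find_spec hex
      rwa [h0, pow_zero, pow_one] at this
    set h := g ^ p ^ j with hh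
    have hhu : h • u ≠ u := Nat.find_min hex (by omega)
    have hhp : h ^ p • u = u := by
      have := Nat.find_spec hex
      rwa [hj, pow_succ, pow_mul] at this
    have hhK : h ∈ K := mem_inside.1 hP ((P : Subgroup G).pow_mem hgP _)
    set A := (Finset.range p).image fun i => h ^ i • u with hA
    have hAZ : A ⊆ Z := by
      intro z hz
      obtain ⟨i, -, rfl⟩ := Finset.mem_image.1 hz
      exact orb_inv K w _ (K.pow_mem hhK i) u huZ
    have hAcard : A.card ≤ p := Finset.card_image_le.trans (Finset.card_range p).le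
    have hppos : 0 < p := (Fact.out : p.Prime).pos
    have huA : u ∈ A := Finset.mem_image.2 ⟨0, Finset.mem_range.2 hppos, by simp⟩
    have hcard : ∀ z ∈ Z, z.card = u.card := by
      intro z hz
      obtain ⟨k, -, rfl⟩ := mem_orb.1 hz
      obtain ⟨l, -, rfl⟩ := mem_orb.1 huZ
      rw [Finset.card_smul_finset, Finset.card_smul_finset]
    obtain ⟨Q, hQK, hQ⟩ := exists_common_step (fun L hL => IH L hL) hP Z (orb_inv K w) hgood A hAZ
      u huA (fun z hz => (hcard z hz).le) (by
        have : (A.card : ℤ) ≤ p := by exact_mod_cast hAcard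
        nlinarith)
      (fun L hL P' hP' Z' hZ' hg' A' hA' _ hE' => exists_common A'.card L
        (fun M hM => IH M (lt_of_le_of_lt hM hL)) P' hP' Z' hZ' hg' A' hA' le_rfl hE')
    -- the fixer of the orbit
    set N := ⨅ z ∈ A, MulAction.stabilizer G z
    have hmemN : ∀ x, x ∈ N ↔ ∀ z ∈ A, x • z = z := fun x => by
      simp [N, Subgroup.mem_iInf, MulAction.mem_stabilizer_iff]
    have hAinv : ∀ z ∈ A, h • z ∈ A := by
      intro z hz
      obtain ⟨i, hi, rfl⟩ := Finset.mem_image.1 hz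
      rw [Finset.mem_range] at hi
      rw [← mul_smul, ← pow_succ']
      rcases Nat.lt_or_ge (i + 1) p with h1 | h1
      · exact Finset.mem_image.2 ⟨i + 1, Finset.mem_range.2 h1, rfl⟩
      · rw [show i + 1 = p by omega, hhp]; exact huA
    have hnorm : h ∈ Subgroup.normalizer (N : Set G) := by
      have hsurj : ∀ z ∈ A, ∃ y ∈ A, h • y = z := fun z hz => by
        have him : A.image (fun y => h • y) = A := Finset.eq_of_subset_of_card_le
          (Finset.image_subset_iff.2 hAinv)
          (le_of_eq (Finset.card_image_of_injective _ (MulAction.injective h)).symm)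
        rw [← him] at hz
        exact Finset.mem_image.1 hz
      rw [Subgroup.mem_normalizer_iff]
      intro x
      rw [hmemN, hmemN]
      constructor
      · intro hx z hz
        obtain ⟨y, hy, rfl⟩ := hsurj z hz
        rw [mul_smul, mul_smul, inv_smul_smul, hx y hy]
      · intro hx z hz
        have := hx _ (hAinv z hz)
        rw [mul_smul, mul_smul, inv_smul_smul] at this
        exact smul_left_cancel h this
    set M := N ⊔ Subgroup.zpowers h
    have hMn : (N.subgroupOf M).Normal :=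
      Subgroup.normal_subgroupOf_iff_le_normalizer le_sup_left |>.2
        (sup_le Subgroup.le_normalizer (Subgroup.zpowers_le.2 hnorm))
    have hQN : (Q : Subgroup G) ≤ N :=
      le_iInf fun z => le_iInf fun hz => ((hgood z (hAZ hz)).1).2.2 Q (hQ z hz)
    have hndvd : ¬ p ∣ N.relIndex M := by
      intro hd
      apply Q.not_dvd_index
      refine hd.trans ?_
      rw [← Subgroup.relIndex_mul_index (hQN.trans (le_sup_left : N ≤ M)),
        ← Subgroup.relIndex_mul_relIndex _ N M hQN le_sup_left]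
      exact dvd_mul_of_dvd_left (dvd_mul_left _ _) _
    have hmemr : h ^ N.relIndex M ∈ N := by
      have := (N.subgroupOf M).pow_index_mem
        (⟨h, (le_sup_right : _ ≤ M) (Subgroup.mem_zpowers h)⟩ : M)
      simpa [Subgroup.mem_subgroupOf, Subgroup.relIndex] using this
    have h1 : h ^ N.relIndex M ∈ MulAction.stabilizer G u :=
      MulAction.mem_stabilizer_iff.2 ((hmemN _).1 hmemr u huA)
    have h2 : h ^ p ∈ MulAction.stabilizer G u := MulAction.mem_stabilizer_iff.2 hhp
    have hcop : Nat.gcd p (N.relIndex M) = 1 :=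
      (Fact.out : p.Prime).coprime_iff_not_dvd.2 hndvd
    apply hhu
    rw [← MulAction.mem_stabilizer_iff]
    have h3 := Nat.gcd_eq_gcd_ab p (N.relIndex M)
    rw [hcop] at h3
    rw [← zpow_one h, show (1 : ℤ) = ((1 : ℕ) : ℤ) from rfl, h3, zpow_add, zpow_mul, zpow_mul,
      zpow_natCast, zpow_natCast]
    exact Subgroup.mul_mem _ (Subgroup.zpow_mem _ h2 _) (Subgroup.zpow_mem _ h1 _)

/-- The bound, counted in Sylow subgroups. -/
theorem card_good_le {w : Finset (Sylow p G)} (hw : Good ⊤ w)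
    (hne : w ≠ inside (⊤ : Subgroup G)) :
    (2 * p - 1) * w.card ≤ (p - 1) * Nat.card (Sylow p G) := by
  have := Fintype.ofFinite (Sylow p G)
  have hp := (Fact.out : p.Prime).two_le
  set Z := orb ⊤ w
  have h0 : 0 ≤ ∑ P : Sylow p G, tot P Z := Finset.sum_nonneg fun P _ =>
    bound ⊤ P (mem_inside.2 le_top) w hw hne
  unfold tot at h0
  rw [Finset.sum_comm] at h0
  have hc : ∀ z ∈ Z, ∑ P : Sylow p G, wgt P z =
      ((p : ℤ) - 1) * Nat.card (Sylow p G) - (2 * (p : ℤ) - 1) * w.card := by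
    intro z hz
    obtain ⟨k, -, rfl⟩ := mem_orb.1 hz
    simp only [wgt]
    rw [Finset.sum_sub_distrib, Finset.sum_const, Finset.sum_ite_mem, Finset.univ_inter,
      Finset.sum_const, Finset.card_smul_finset, Finset.card_univ, nsmul_eq_mul, nsmul_eq_mul,
      Nat.card_eq_fintype_card]
    ring
  rw [Finset.sum_congr rfl hc, Finset.sum_const, nsmul_eq_mul] at h0
  have hZ : (0 : ℤ) < Z.card := by
    exact_mod_cast Finset.card_pos.2 ⟨w, mem_orb.2 ⟨1, Subgroup.mem_top 1, one_smul G w⟩⟩
  have h1 := nonneg_of_mul_nonneg_right h0 hZ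
  zify [show 1 ≤ p by omega, show 1 ≤ 2 * p by omega]
  linarith

/-- For a proper subgroup containing a Sylow subgroup of a group generated by the Sylow subgroups. -/
theorem card_sylow_subgroup_le (H : Subgroup G) (P : Sylow p G) (hP : (P : Subgroup G) ≤ H)
    (hne : ∃ Q : Sylow p G, ¬ (Q : Subgroup G) ≤ H) :
    (2 * p - 1) * Nat.card (Sylow p H) ≤ (p - 1) * Nat.card (Sylow p G) := by
  have hgood : Good ⊤ (inside (p := p) H) := by
    refine ⟨⟨P, mem_inside.2 hP⟩, fun Q _ => mem_inside.2 le_top, fun Q hQ x hx => ?_⟩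
    exact MulAction.mem_stabilizer_iff.2 (smul_inside (mem_inside.1 hQ hx))
  have h := card_good_le hgood fun h => by
    obtain ⟨Q, hQ⟩ := hne
    exact hQ (mem_inside.1 (h ▸ mem_inside.2 le_top))
  suffices e : Nat.card (Sylow p H) = (inside (p := p) H).card by rw [e]; exact h
  rw [← Nat.card_eq_finsetCard]
  symm
  refine Nat.card_congr (Equiv.ofBijective
    (fun Q : inside (p := p) H => Q.1.subtype (mem_inside.1 Q.2)) ⟨fun Q Q' hQQ =>
      Subtype.ext (Sylow.subtype_injective hQQ), fun R => ?_⟩)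
  obtain ⟨g, hg⟩ := MulAction.exists_smul_eq H (P.subtype hP) R
  rw [Sylow.smul_subtype] at hg
  exact ⟨⟨g • P, mem_inside.2 (Sylow.smul_le hP g)⟩, hg⟩

/-- Fixed points of a Sylow subgroup in a transitive action. -/
theorem card_fixed_le {Ω : Type*} [MulAction G Ω] [Finite Ω] (htrans : MulAction.IsPretransitive G Ω)
    (P : Sylow p G) (hnt : ∃ g ∈ (P : Subgroup G), ∃ a : Ω, g • a ≠ a) :
    (2 * p - 1) * Nat.card (MulAction.fixedPoints (P : Subgroup G) Ω) ≤ (p - 1) * Nat.card Ω := by
  have := Fintype.ofFinite Ω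
  have := Fintype.ofFinite (Sylow p G)
  have hp := (Fact.out : p.Prime).two_le
  let z : Ω → Finset (Sylow p G) := fun a =>
    (Finset.univ : Finset (Sylow p G)).filter fun Q => (Q : Subgroup G) ≤ MulAction.stabilizer G a
  have hzeq : ∀ a, z a = inside (MulAction.stabilizer G a) := fun a => by
    ext Q; simp [z, mem_inside]
  have hall : ∀ a, (2 * p - 1) * (z a).card ≤ (p - 1) * Nat.card (Sylow p G) := by
    intro a
    rcases (z a).eq_empty_or_nonempty with h | ⟨Q₀, hQ₀⟩
    · rw [h, Finset.card_empty, mul_zero]; exact Nat.zero_le _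
    refine card_good_le ⟨⟨Q₀, hQ₀⟩, fun Q _ => mem_inside.2 le_top, fun Q hQ x hx => ?_⟩ fun h => ?_
    · rw [hzeq] at hQ ⊢
      exact MulAction.mem_stabilizer_iff.2 (smul_inside (mem_inside.1 hQ hx))
    · obtain ⟨g, hg, b, hb⟩ := hnt
      obtain ⟨k, rfl⟩ := htrans.exists_smul_eq a b
      have h1 : (k⁻¹ • P : Sylow p G) ∈ z a := by rw [h]; exact mem_inside.2 le_top
      rw [Finset.mem_filter] at h1
      have h2 : k⁻¹ * g * k ∈ ((k⁻¹ • P : Sylow p G) : Subgroup G) := by
        rw [Sylow.coe_subgroup_smul]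
        simpa using Subgroup.smul_mem_pointwise_smul g (MulAut.conj k⁻¹) _ hg
      have h3 := MulAction.mem_stabilizer_iff.1 (h1.2 h2)
      rw [mul_smul, mul_smul, inv_smul_eq_iff] at h3
      exact hb h3
  have hconst : ∀ Q : Sylow p G,
      ((Finset.univ : Finset Ω).filter fun a => (Q : Subgroup G) ≤ MulAction.stabilizer G a).card =
        Nat.card (MulAction.fixedPoints (P : Subgroup G) Ω) := by
    intro Q
    obtain ⟨k, rfl⟩ := MulAction.exists_smul_eq G P Q
    rw [← Nat.card_eq_finsetCard]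
    refine Nat.card_congr (Equiv.subtypeEquiv (MulAction.toPerm k⁻¹) fun a => ?_)
    simp only [Finset.mem_filter, Finset.mem_univ, true_and, MulAction.mem_fixedPoints,
      MulAction.toPerm_apply, Subtype.forall]
    constructor
    · intro h g hg
      have h2 : k * g * k⁻¹ ∈ ((k • P : Sylow p G) : Subgroup G) := by
        rw [Sylow.coe_subgroup_smul]
        simpa using Subgroup.smul_mem_pointwise_smul g (MulAut.conj k) _ hg
      have h3 := MulAction.mem_stabilizer_iff.1 (h h2)
      rw [mul_smul, mul_smul] at h3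
      show g • k⁻¹ • a = k⁻¹ • a
      rw [eq_inv_smul_iff]; exact h3
    · intro h x hx
      rw [Sylow.coe_subgroup_smul, Subgroup.mem_pointwise_smul_iff_inv_smul_mem] at hx
      have h3 : ((MulAut.conj k)⁻¹ • x) • k⁻¹ • a = k⁻¹ • a := h _ hx
      simp only [MulAut.smul_def, MulAut.conj_inv_apply, mul_smul, smul_inv_smul] at h3
      exact MulAction.mem_stabilizer_iff.2 (smul_left_cancel k⁻¹ h3)
  have hsum : ∑ a, (z a).card =
      Nat.card (Sylow p G) * Nat.card (MulAction.fixedPoints (P : Subgroup G) Ω) := by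
    simp only [z, Finset.card_filter]
    rw [Finset.sum_comm, Nat.card_eq_fintype_card (α := Sylow p G)]
    rw [Finset.sum_congr rfl (g := fun _ => Nat.card (MulAction.fixedPoints (P : Subgroup G) Ω))
      fun Q _ => by rw [← Finset.card_filter]; exact hconst Q]
    rw [Finset.sum_const, Finset.card_univ, smul_eq_mul]
  have h := Finset.sum_le_sum (s := (Finset.univ : Finset Ω)) fun a _ => hall a
  rw [← Finset.mul_sum, hsum, Finset.sum_const, Finset.card_univ, smul_eq_mul,
    ← Nat.card_eq_fintype_card] at h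
  have hpos : 0 < Nat.card (Sylow p G) := Nat.card_pos
  refine Nat.le_of_mul_le_mul_left ?_ hpos
  linarith

end

end

end Cfsg.Agent.SylowFixed
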