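import Cfsg.Agent.Lib.BrauerPiSection
import Cfsg.Agent.Lib.CharBasicDecomp
import Cfsg.Agent.Lib.CharBasicInt
import Cfsg.Agent.Lib.BlockTheoryIdem
import Cfsg.Agent.Lib.BlockPrincipal81
import Mathlib.GroupTheory.Transfer

/-!
# Functions of the `p`-part of an element

For a Sylow `p`-subgroup `P` of `G` and a generalized character `l` of `P` that is stable under
fusion in `G`, the function `g ↦ l (g_p)` is a generalized character of `G`.  We also record the
formula for sums of such functions over `G`.
-/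

set_option autoImplicit false

open scoped ComplexConjugate
open Finset

attribute [local instance] Classical.propDecidable

namespace Cfsg.Agent.SylowLift7

open Cfsg Cfsg.Agent.CharBasic Cfsg.Agent.CharBasicOrth Cfsg.Agent.CharBasicDecomp
open Cfsg.Agent.CharInduced Cfsg.Agent.BrauerInduction Cfsg.Agent.BrauerPiSection

universe u

set_option linter.unusedSectionVars false

variable {G : Type u} [Group G] [Finite G]

/-- Integrality of coefficients can be tested on elementary subgroups. -/
theorem exists_int_coeff_of_elementary [Fintype G] {θ : G → ℂ} (hθ : IsClassFunction G θ)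
    (hE : ∀ (E : Subgroup G) [Fintype E] (p : ℕ), p.Prime → IsElementary p E →
      IsGeneralizedCharacter E (fun e : E => θ e)) :
    IsGeneralizedCharacter G θ := by
  refine isGeneralizedCharacter_iff.2 ⟨hθ, fun ψ => ?_⟩
  obtain ⟨χ, hχ⟩ := ψ
  show ∃ n : ℤ, classInner θ χ = n
  have key : ∀ f ∈ indSpan (G := G) IsSomeElementary, ∃ n : ℤ, classInner (f * θ) χ = n := by
    intro f hf
    induction hf using AddSubgroup.closure_induction with
    | mem x hx =>
      obtain ⟨H, φ, ⟨p, hp, hH⟩, hφ, rfl⟩ := hx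
      have : Fintype H := Fintype.ofFinite H
      rw [← ind_mul_res H φ hθ, inner_ind_left H _ (isClassFunction_irr hχ)]
      exact classInner_isGeneralizedCharacter
        (isGeneralizedCharacter_mul (isGeneralizedCharacter_of_isCharacter hφ) (hE H p hp hH))
        (isGeneralizedCharacter_of_isCharacter
          (isCharacter_comap H.subtype (isCharacter_of_isIrrCharacter hχ)))
    | zero => exact ⟨0, by rw [zero_mul, CharInduced.inner_zero_left, Int.cast_zero]⟩
    | add x y _ _ hx hy =>
      obtain ⟨a, ha⟩ := hx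
      obtain ⟨b, hb⟩ := hy
      exact ⟨a + b, by rw [add_mul, CharInduced.inner_add_left, ha, hb, Int.cast_add]⟩
    | neg x _ hx =>
      obtain ⟨a, ha⟩ := hx
      exact ⟨-a, by rw [neg_mul, CharInduced.inner_neg_left, ha, Int.cast_neg]⟩
  have := key _ one_mem_indSpan
  rwa [show (fun _ => (1 : ℂ)) * θ = θ from funext fun _ => one_mul _] at this

variable {p : ℕ} [Fact p.Prime] (P : Sylow p G)

theorem card_mul_index' : Nat.card G = Nat.card (P : Subgroup G) * (P : Subgroup G).index :=
  (Subgroup.card_mul_index _).symm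

/-- The `p`-part of an element. -/
noncomputable def pp (g : G) : G := part P.card_coprime_index g

theorem orderOf_pp (g : G) : orderOf (pp P g) ∣ Nat.card (P : Subgroup G) :=
  orderOf_part (card_mul_index' P) P.card_coprime_index g

theorem pp_eq {x y : G} (hc : Commute x y) (hx : orderOf x ∣ Nat.card (P : Subgroup G))
    (hy : orderOf y ∣ (P : Subgroup G).index) : pp P (x * y) = x :=
  part_mul _ hc hx hy

theorem pp_eq_self {x : G} (hx : orderOf x ∣ Nat.card (P : Subgroup G)) : pp P x = x :=
  part_eq_self _ hx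

theorem pp_eq_one {x : G} (hx : orderOf x ∣ (P : Subgroup G).index) : pp P x = 1 :=
  part_eq_one _ hx

theorem pp_one : pp P 1 = 1 := pp_eq_self P (by rw [orderOf_one]; exact one_dvd _)

theorem pp_conj (c g : G) : pp P (c * g * c⁻¹) = c * pp P g * c⁻¹ := part_conj _ c g

theorem commute_pp (g : G) : Commute g (pp P g) := part_commute _ g

theorem pp_pow (g : G) (k : ℕ) : pp P (g ^ k) = pp P g ^ k := by
  show (g ^ k) ^ _ = (g ^ _) ^ k
  rw [← pow_mul, ← pow_mul, mul_comm]

theorem pp_mul_of_commute {g x : G} (hc : Commute x g) (hx : orderOf x ∣ Nat.card (P : Subgroup G)) :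
    pp P (x * g) = x * pp P g := by
  show (x * g) ^ _ = x * g ^ _
  rw [hc.mul_pow]
  exact congrArg (· * _) (pp_eq_self P hx)

theorem orderOf_rest (g : G) : orderOf ((pp P g)⁻¹ * g) ∣ (P : Subgroup G).index := by
  have h := part_mul_part (card_mul_index' P) P.card_coprime_index g
  have he : (pp P g)⁻¹ * g = part P.card_coprime_index.symm g := by
    rw [inv_mul_eq_iff_eq_mul]; exact h.symm
  rw [he]
  exact orderOf_part (by rw [card_mul_index' P, mul_comm]) _ g

omit [Fact p.Prime] in
theorem orderOf_conj' (c x : G) : orderOf (c * x * c⁻¹) = orderOf x :=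
  ((MulAut.conj c).orderOf_eq x)

/-- An element of `p`-power order is conjugate into `P`. -/
theorem exists_conj_mem {x : G} (hx : orderOf x ∣ Nat.card (P : Subgroup G)) :
    ∃ c : G, c * x * c⁻¹ ∈ (P : Subgroup G) := by
  obtain ⟨k, hk⟩ := P.isPGroup'.exists_card_eq
  rw [hk] at hx
  obtain ⟨j, -, hj⟩ := (Nat.dvd_prime_pow Fact.out).1 hx
  have hpg : IsPGroup p (Subgroup.zpowers x) :=
    IsPGroup.of_card (n := j) (by rw [Nat.card_zpowers, hj])
  obtain ⟨Q, hQ⟩ := hpg.exists_le_sylow
  obtain ⟨c, hc⟩ := MulAction.exists_smul_eq G Q P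
  refine ⟨c, ?_⟩
  have hx' : x ∈ (Q : Subgroup G) := hQ (Subgroup.mem_zpowers x)
  rw [← hc, Sylow.coe_subgroup_smul, ← MulAut.conj_apply]
  exact ⟨x, hx', rfl⟩

theorem exists_isConj_mem {x : G} (hx : orderOf x ∣ Nat.card (P : Subgroup G)) :
    ∃ y : (P : Subgroup G), IsConj x y := by
  obtain ⟨c, hc⟩ := exists_conj_mem P hx
  exact ⟨⟨_, hc⟩, isConj_iff.2 ⟨c, rfl⟩⟩

/-- The class function extending a function on `P`. -/
noncomputable def ext (l : ↥(P : Subgroup G) → ℂ) (g : G) : ℂ :=
  if h : ∃ y : (P : Subgroup G), IsConj g y then l h.choose else 0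

/-- Stability under fusion. -/
def Stable (l : ↥(P : Subgroup G) → ℂ) : Prop :=
  ∀ x y : (P : Subgroup G), IsConj (x : G) y → l x = l y

variable {P}

theorem ext_apply {l : ↥(P : Subgroup G) → ℂ} (hl : Stable P l) {g : G} (y : (P : Subgroup G))
    (hy : IsConj g y) : ext P l g = l y := by
  rw [ext, dif_pos ⟨y, hy⟩]
  exact hl _ _ ((Exists.choose_spec (⟨y, hy⟩ : ∃ y : (P : Subgroup G), IsConj g y)).symm.trans hy)

/-- The function `g ↦ l (g_p)`. -/
noncomputable def lift (P : Sylow p G) (l : ↥(P : Subgroup G) → ℂ) (g : G) : ℂ :=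
  ext P l (pp P g)

theorem lift_apply {l : ↥(P : Subgroup G) → ℂ} (hl : Stable P l) {g : G} (y : (P : Subgroup G))
    (hy : IsConj (pp P g) y) : lift P l g = l y :=
  ext_apply hl y hy

theorem lift_coe {l : ↥(P : Subgroup G) → ℂ} (hl : Stable P l) (y : (P : Subgroup G)) :
    lift P l y = l y := by
  refine lift_apply hl y ?_
  rw [pp_eq_self P (Subgroup.orderOf_dvd_natCard _ y.2)]

theorem lift_regular {l : ↥(P : Subgroup G) → ℂ} (hl : Stable P l) {g : G} (hg : pp P g = 1) :
    lift P l g = l 1 :=
  lift_apply hl 1 (by rw [hg]; exact IsConj.refl _)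

theorem isClassFunction_lift {l : ↥(P : Subgroup G) → ℂ} (hl : Stable P l) :
    IsClassFunction G (lift P l) := by
  intro g c
  obtain ⟨y, hy⟩ := exists_isConj_mem P (orderOf_pp P g)
  rw [lift_apply hl y hy, lift_apply hl y]
  rw [pp_conj]
  exact (isConj_iff.2 ⟨c, rfl⟩ : IsConj (pp P g) (c * pp P g * c⁻¹)).symm.trans hy

theorem lift_pow {l : ↥(P : Subgroup G) → ℂ} (hl : Stable P l) (g : G) {k : ℕ}
    (hk : ∀ y : (P : Subgroup G), l (y ^ k) = l y) : lift P l (g ^ k) = lift P l g := by
  obtain ⟨y, hy⟩ := exists_isConj_mem P (orderOf_pp P g)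
  rw [lift_apply hl y hy, lift_apply hl (y ^ k), hk y]
  rw [pp_pow]
  obtain ⟨c, hc⟩ := isConj_iff.1 hy
  exact isConj_iff.2 ⟨c, by rw [← conj_pow, hc, SubgroupClass.coe_pow]⟩

theorem lift_mul {l l' : ↥(P : Subgroup G) → ℂ} (hl : Stable P l) (hl' : Stable P l') :
    lift P (fun x => l x * l' x) = lift P l * lift P l' := by
  funext g
  obtain ⟨y, hy⟩ := exists_isConj_mem P (orderOf_pp P g)
  rw [Pi.mul_apply, lift_apply hl y hy, lift_apply hl' y hy,
    lift_apply (l := fun x => l x * l' x) (fun a b h => by simp only [hl a b h, hl' a b h]) y hy]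

/-- The lift of a stable generalized character is a generalized character. -/
theorem isGeneralizedCharacter_lift {l : ↥(P : Subgroup G) → ℂ} (hl : Stable P l)
    (hgl : IsGeneralizedCharacter (P : Subgroup G) l) : IsGeneralizedCharacter G (lift P l) := by
  have := Fintype.ofFinite G
  refine exists_int_coeff_of_elementary (isClassFunction_lift hl) fun E _ q hq hE => ?_
  obtain ⟨A, B, hcomm, hsurj, hA, hB⟩ := exists_split hq hE
    (m := Nat.card (P : Subgroup G)) (n := (P : Subgroup G).index)
    (card_mul_index' P ▸ Subgroup.card_subgroup_dvd_card E) P.card_coprime_index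
  -- the projection to `A`
  have hdisj : ∀ a ∈ A, a ∈ B → a = 1 := fun a ha hb =>
    orderOf_eq_one_iff.1 (Nat.eq_one_of_dvd_coprimes P.card_coprime_index (hA a ha) (hB a hb))
  let f : A × B →* E :=
    { toFun := fun z => (z.1 : E) * z.2
      map_one' := by simp
      map_mul' := fun y z => by
        simp only [Prod.fst_mul, Prod.snd_mul, Subgroup.coe_mul]
        rw [mul_assoc, ← mul_assoc (z.1 : E), (hcomm z.1 z.1.2 y.2 y.2.2).eq]
        group }
  have hf : Function.Bijective f := by
    refine ⟨(injective_iff_map_eq_one f).2 fun z hz => ?_, fun e => ?_⟩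
    · have h1 : (z.1 : E) = (z.2 : E)⁻¹ := eq_inv_of_mul_eq_one_left hz
      have h2 := hdisj _ z.1.2 (h1 ▸ B.inv_mem z.2.2)
      rw [h2, one_eq_inv] at h1
      exact Prod.ext (Subtype.ext h2) (Subtype.ext h1)
    · obtain ⟨a, ha, b, hb, he⟩ := hsurj e
      exact ⟨(⟨a, ha⟩, ⟨b, hb⟩), he⟩
  let π : E →* A := (MonoidHom.fst A B).comp (MulEquiv.ofBijective f hf).symm.toMonoidHom
  -- `A` is conjugate into `P`
  let A' : Subgroup G := A.map E.subtype
  have hpg : IsPGroup p A' := by
    intro a
    obtain ⟨e, he, hea⟩ := Subgroup.mem_map.1 a.2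
    obtain ⟨k, hk⟩ := P.isPGroup'.exists_card_eq
    refine ⟨k, Subtype.ext ?_⟩
    rw [SubgroupClass.coe_pow, ← hea, ← map_pow, ← hk, OneMemClass.coe_one,
      orderOf_dvd_iff_pow_eq_one.1 (hA e he), map_one]
  obtain ⟨Q, hQ⟩ := hpg.exists_le_sylow
  obtain ⟨c, hc⟩ := MulAction.exists_smul_eq G Q P
  have hmem : ∀ a : A, c * ((a : E) : G) * c⁻¹ ∈ (P : Subgroup G) := by
    intro a
    rw [← hc, Sylow.coe_subgroup_smul, ← MulAut.conj_apply]
    exact ⟨_, hQ (Subgroup.mem_map.2 ⟨a, a.2, rfl⟩), rfl⟩
  let j : A →* (P : Subgroup G) :=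
    ((MulAut.conj c).toMonoidHom.comp (E.subtype.comp A.subtype)).codRestrict (P : Subgroup G) hmem
  convert isGeneralizedCharacter_comap (j.comp π) hgl using 1
  funext e
  obtain ⟨⟨a, b⟩, rfl⟩ := hf.2 e
  have hπ : π (f (a, b)) = a := by
    show ((MulEquiv.ofBijective f hf).symm (MulEquiv.ofBijective f hf (a, b))).1 = a
    rw [MulEquiv.symm_apply_apply]
  show lift P l ((f (a, b) : E) : G) = l (j (π (f (a, b))))
  rw [hπ]
  refine lift_apply hl (j a) ?_
  have hpp : pp P ((f (a, b) : E) : G) = ((a : E) : G) :=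
    pp_eq P (congrArg Subtype.val (hcomm a a.2 b b.2).eq)
      (by rw [Subgroup.orderOf_coe]; exact hA a a.2) (by rw [Subgroup.orderOf_coe]; exact hB b b.2)
  rw [hpp]
  exact isConj_iff.2 ⟨c, rfl⟩

/-! ### Sums -/

variable (P)

/-- The number of elements with `p`-part `x`. -/
noncomputable def secCard (x : G) : ℕ := Nat.card {g : G // pp P g = x}

/-- The number of conjugates of `x` in `P`. -/
noncomputable def fusCard (x : G) : ℕ := Nat.card {y : (P : Subgroup G) // IsConj x y}

/-- The weight of an element of `P`. -/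
noncomputable def weight (x : G) : ℂ :=
  (secCard P x : ℂ) / ((Nat.card (Subgroup.centralizer ({x} : Set G)) : ℂ) * (fusCard P x : ℂ))

theorem fusCard_congr {x y : G} (h : IsConj x y) : fusCard P x = fusCard P y :=
  Nat.card_congr (Equiv.subtypeEquivRight fun _ =>
    ⟨fun e => h.symm.trans e, fun e => h.trans e⟩)

theorem card_pp_isConj (x : G) :
    (Nat.card {g : G // IsConj x (pp P g)} : ℂ) =
      Nat.card G * secCard P x / Nat.card (Subgroup.centralizer ({x} : Set G)) := by
  have := Fintype.ofFinite G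
  have h1 : Nat.card {g : G // IsConj x (pp P g)} =
      Nat.card {y : G // IsConj x y} * secCard P x := by
    let e : {g : G // IsConj x (pp P g)} ≃ Σ y : {y : G // IsConj x y}, {g : G // pp P g = y} :=
      { toFun := fun g => ⟨⟨pp P g, g.2⟩, ⟨g, rfl⟩⟩
        invFun := fun z => ⟨z.2, by rw [z.2.2]; exact z.1.2⟩
        left_inv := fun g => rfl
        right_inv := fun ⟨⟨y, hy⟩, ⟨g, hg⟩⟩ => by
          simp only at hg
          subst hg
          rfl }
    have : Fintype {y : G // IsConj x y} := Fintype.ofFinite _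
    rw [Nat.card_congr e, Nat.card_sigma, Finset.sum_const_nat (m := secCard P x) fun y _ => ?_,
      Finset.card_univ, Nat.card_eq_fintype_card]
    obtain ⟨c, hc⟩ := isConj_iff.1 y.2
    refine Nat.card_congr ((MulAut.conj c).toEquiv.subtypeEquiv fun g => ?_).symm
    show pp P g = x ↔ pp P (c * g * c⁻¹) = y
    rw [pp_conj, ← hc]
    exact ⟨fun h => by rw [h], fun h => mul_left_cancel (mul_right_cancel h)⟩
  have h2 := card_conj_mul_card_centralizer x
  have hC : (Nat.card (Subgroup.centralizer ({x} : Set G)) : ℂ) ≠ 0 :=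
    Nat.cast_ne_zero.2 Nat.card_pos.ne'
  rw [h1, eq_div_iff hC, ← h2]
  push_cast
  ring

/-- Sums of functions of the `p`-part. -/
theorem sum_pp [Fintype G] [Fintype (P : Subgroup G)] {h : G → ℂ} (hh : IsClassFunction G h) :
    ∑ g : G, h (pp P g) = Nat.card G * ∑ x : (P : Subgroup G), h x * weight P x := by
  have hpos : ∀ g : G, (fusCard P (pp P g) : ℂ) ≠ 0 := fun g => by
    obtain ⟨y, hy⟩ := exists_isConj_mem P (orderOf_pp P g)
    exact Nat.cast_ne_zero.2 (Nat.card_pos_iff.2 ⟨⟨⟨y, hy⟩⟩, inferInstance⟩).ne'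
  calc ∑ g : G, h (pp P g)
      = ∑ g : G, ∑ x : (P : Subgroup G),
          if IsConj (x : G) (pp P g) then h x / (fusCard P x : ℂ) else 0 := by
        refine Finset.sum_congr rfl fun g _ => ?_
        rw [← Finset.sum_filter, Finset.sum_congr rfl fun x hx => ?_, Finset.sum_const,
          nsmul_eq_mul]
        · show h (pp P g) = _ * (h (pp P g) / (fusCard P (pp P g) : ℂ))
          have : (Finset.univ.filter fun x : (P : Subgroup G) => IsConj (x : G) (pp P g)).card =
              fusCard P (pp P g) := by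
            rw [fusCard, Nat.card_eq_fintype_card, Fintype.card_subtype]
            congr 1
            ext x
            simp only [Finset.mem_filter, Finset.mem_univ, true_and]
            exact isConj_comm
          rw [this]
          field_simp [hpos g]
        · have hx' := (Finset.mem_filter.1 hx).2
          rw [apply_eq_of_isConj hh hx', fusCard_congr P hx']
    _ = ∑ x : (P : Subgroup G),
          (Nat.card {g : G // IsConj (x : G) (pp P g)} : ℂ) * (h x / (fusCard P x : ℂ)) := by
        rw [Finset.sum_comm]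
        refine Finset.sum_congr rfl fun x _ => ?_
        rw [← Finset.sum_filter, Finset.sum_const, nsmul_eq_mul, Nat.card_eq_fintype_card,
          Fintype.card_subtype]
    _ = _ := by
        rw [Finset.mul_sum]
        refine Finset.sum_congr rfl fun x _ => ?_
        rw [card_pp_isConj, weight]
        ring

/-- Inner products of lifts. -/
theorem classInner_lift [Fintype G] [Fintype (P : Subgroup G)] {l l' : ↥(P : Subgroup G) → ℂ}
    (hl : Stable P l) (hl' : Stable P l') :
    classInner (lift P l) (lift P l') = ∑ x : (P : Subgroup G), l x * conj (l' x) * weight P x := by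
  have hcl : IsClassFunction G fun g => ext P l g * conj (ext P l' g) := by
    intro g c
    have hiff : ∀ y : (P : Subgroup G), IsConj (c * g * c⁻¹) y ↔ IsConj g y := fun y =>
      ⟨fun e => (isConj_iff.2 ⟨c, rfl⟩ : IsConj g (c * g * c⁻¹)).trans e,
        fun e => (isConj_iff.2 ⟨c, rfl⟩ : IsConj g (c * g * c⁻¹)).symm.trans e⟩
    by_cases h : ∃ y : (P : Subgroup G), IsConj g y
    · obtain ⟨y, hy⟩ := h
      simp only
      rw [ext_apply hl y hy, ext_apply hl' y hy, ext_apply hl y ((hiff y).2 hy),
        ext_apply hl' y ((hiff y).2 hy)]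
    · simp only
      have hz : ∀ (k : ↥(P : Subgroup G) → ℂ) (x : G),
          (¬ ∃ y : (P : Subgroup G), IsConj x y) → ext P k x = 0 := fun _ _ h' => dif_neg h'
      rw [hz l _ h, hz l _ fun ⟨y, hy⟩ => h ⟨y, (hiff y).1 hy⟩, zero_mul, zero_mul]
  rw [classInner]
  have hs := sum_pp P hcl
  rw [show (∑ g : G, lift P l g * conj (lift P l' g)) =
      ∑ g : G, (fun g => ext P l g * conj (ext P l' g)) (pp P g) from rfl, hs, ← mul_assoc,
    inv_mul_cancel₀ (Nat.cast_ne_zero.2 Nat.card_pos.ne'), one_mul]
  refine Finset.sum_congr rfl fun x _ => ?_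
  rw [ext_apply hl x (IsConj.refl _), ext_apply hl' x (IsConj.refl _)]

theorem sum_weight [Fintype G] [Fintype (P : Subgroup G)] :
    ∑ x : (P : Subgroup G), weight P x = 1 := by
  have h := sum_pp P (h := fun _ => (1 : ℂ)) fun _ _ => rfl
  simp only [one_mul, Finset.sum_const, nsmul_eq_mul, mul_one, Finset.card_univ,
    ← Nat.card_eq_fintype_card] at h
  exact (mul_right_eq_self₀.1 h.symm).resolve_right (Nat.cast_ne_zero.2 Nat.card_pos.ne')

theorem weight_one_eq : weight P 1 = (secCard P 1 : ℂ) / Nat.card G := by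
  have h1 : fusCard P 1 = 1 := by
    rw [fusCard, Nat.card_eq_one_iff_unique]
    exact ⟨⟨fun a b => Subtype.ext (Subtype.ext (((isConj_one_right).1 a.2).trans
      ((isConj_one_right).1 b.2).symm))⟩, ⟨⟨1, IsConj.refl _⟩⟩⟩
  have h2 : Subgroup.centralizer ({(1 : G)} : Set G) = ⊤ :=
    eq_top_iff.2 fun g _ => Subgroup.mem_centralizer_singleton_iff.2 (by simp)
  rw [weight, h1, h2, Subgroup.card_top, Nat.cast_one, mul_one]

/-- The section of an element whose centralizer has a normal `p`-complement. -/
theorem secCard_mul_of_burnside {x : G}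
    (hP : (P : Subgroup G) ≤ Subgroup.centralizer ({x} : Set G))
    (hx : orderOf x ∣ Nat.card (P : Subgroup G))
    (hN : ∀ n ∈ Subgroup.normalizer ((P : Subgroup G) : Set G), n * x = x * n →
      ∀ y ∈ (P : Subgroup G), n * y = y * n) :
    secCard P x * Nat.card (P : Subgroup G) =
      Nat.card (Subgroup.centralizer ({x} : Set G)) := by
  set C := Subgroup.centralizer ({x} : Set G) with hC
  let P' : Sylow p C := P.subtype hP
  have hle : Subgroup.normalizer ((P' : Subgroup C) : Set C) ≤
      Subgroup.centralizer ((P' : Subgroup C) : Set C) := by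
    intro n hn
    rw [Subgroup.mem_centralizer_iff]
    intro y hy
    refine Subtype.ext ?_
    have hnx : (n : G) * x = x * n := Subgroup.mem_centralizer_singleton_iff.1 n.2
    refine (hN n ?_ hnx y ?_).symm
    · rw [Subgroup.mem_normalizer_iff] at hn ⊢
      intro z
      constructor
      · intro hz
        exact ((hn ⟨z, hP hz⟩).1 hz :)
      · intro hz
        have hzC : z ∈ C := by
          have h := hP hz
          have : z = (n : G)⁻¹ * ((n : G) * z * (n : G)⁻¹) * n := by group
          rw [this]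
          exact C.mul_mem (C.mul_mem (C.inv_mem n.2) h) n.2
        exact ((hn ⟨z, hzC⟩).2 hz :)
    · exact hy
  have hcomp := MonoidHom.ker_transferSylow_isComplement' P' hle
  set f := MonoidHom.transferSylow P' hle with hf
  set K := f.ker with hK
  have hcard : Nat.card K * Nat.card (P : Subgroup G) = Nat.card C := by
    have h := Subgroup.IsComplement.card_mul_card hcomp
    simp only [SetLike.coe_sort_coe] at h
    rw [← h, Nat.card_congr (Subgroup.subgroupOfEquivOfLe hP).toEquiv.symm]
    rfl
  have hKn : Nat.card K ∣ (P : Subgroup G).index := by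
    refine Nat.dvd_of_mul_dvd_mul_right (Nat.card_pos (α := (P : Subgroup G))) ?_
    rw [hcard, mul_comm _ (Nat.card (P : Subgroup G)), ← card_mul_index' P]
    exact Subgroup.card_subgroup_dvd_card C
  rw [← hcard]
  congr 1
  have hxC : x ∈ C := Subgroup.mem_centralizer_singleton_iff.2 rfl
  symm
  refine Nat.card_congr ?_
  refine Equiv.ofBijective (fun k : K => (⟨x * ((k : C) : G), ?_⟩ : {g : G // pp P g = x})) ⟨?_, ?_⟩
  · refine pp_eq P (Subgroup.mem_centralizer_singleton_iff.1 (k : C).2).symm hx ?_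
    rw [Subgroup.orderOf_coe, Subgroup.orderOf_coe]
    exact (orderOf_dvd_natCard k).trans hKn
  · intro a b h
    exact Subtype.ext (Subtype.ext (mul_left_cancel (congrArg Subtype.val h)))
  · rintro ⟨g, hg⟩
    have hgC : g ∈ C := Subgroup.mem_centralizer_singleton_iff.2 (hg ▸ (commute_pp P g).eq)
    have hk : x⁻¹ * g ∈ C := C.mul_mem (C.inv_mem hxC) hgC
    refine ⟨⟨⟨x⁻¹ * g, hk⟩, ?_⟩, Subtype.ext (mul_inv_cancel_left x g)⟩
    rw [hK, MonoidHom.mem_ker, ← orderOf_eq_one_iff]
    refine Nat.eq_one_of_dvd_coprimes P.card_coprime_index ?_ ?_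
    · rw [← Nat.card_congr (Subgroup.subgroupOfEquivOfLe hP).toEquiv]
      exact orderOf_dvd_natCard _
    · refine (orderOf_map_dvd f _).trans ?_
      have := orderOf_rest P g
      rw [hg] at this
      rwa [← Subgroup.orderOf_coe]

/-- Sums of a character over a union of classes, divided by the degree, are algebraic integers. -/
theorem isIntegral_sum_div [Fintype G] (χ : IrrCharacter G) {h : G → ℂ} (hh : IsClassFunction G h)
    (hint : ∀ g, IsIntegral ℤ (h g)) :
    IsIntegral ℤ ((∑ g : G, h g * (χ : G → ℂ) g) / (χ : G → ℂ) 1) := by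
  obtain ⟨n, ρ, hρ, hχ⟩ := χ.2
  haveI := hρ
  have h1 := CharBasicInt.isIntegral_sum_mul_div ρ hh hint
  rw [← hχ]
  rwa [show ρ.character 1 = (Module.finrank ℂ (Fin n → ℂ) : ℂ) from Representation.char_one ρ]

/-- Congruence of class sums for a character in the principal block. -/
theorem sum_div_sub_mem [Fintype G] {q : ℕ} {M : Ideal AlgInt} (hM : IsPModular q M)
    {χ : IrrCharacter G} (hχ : χ ∈ principalBlock M G) {h : G → ℂ} (hh : IsClassFunction G h)
    (hint : ∀ g, IsIntegral ℤ (h g)) :
    MemLocalIdeal M ((∑ g : G, h g * (χ : G → ℂ) g) / (χ : G → ℂ) 1 - ∑ g : G, h g) := by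
  rw [Finset.sum_div, ← Finset.sum_sub_distrib,
    ← Finset.sum_fiberwise Finset.univ (ConjClasses.mk : G → ConjClasses G)]
  refine BlockTheoryLocalRing.ideal_sum hM fun C _ => ?_
  obtain ⟨g, rfl⟩ := ConjClasses.mk_surjective C
  have hcls : IsClassFunction G (χ : G → ℂ) :=
    isClassFunction_of_isCharacter (isCharacter_of_isIrrCharacter χ.2)
  rw [Finset.sum_congr rfl (g := fun _ => h g * (χ : G → ℂ) g / (χ : G → ℂ) 1 - h g) fun x hx => by
      have hx' : IsConj x g := ConjClasses.mk_eq_mk_iff_isConj.1 (Finset.mem_filter.1 hx).2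
      rw [apply_eq_of_isConj hh hx', apply_eq_of_isConj hcls hx'],
    Finset.sum_const, nsmul_eq_mul]
  have hcard : (Finset.univ.filter fun x : G => ConjClasses.mk x = ConjClasses.mk g).card =
      (Subgroup.centralizer ({g} : Set G)).index := by
    rw [BlockTheoryCentre.index_centralizer_eq, Nat.card_eq_fintype_card, Fintype.card_subtype]
    congr 1
    ext x
    simp only [Finset.mem_filter, Finset.mem_univ, true_and, ConjClasses.mk_eq_mk_iff_isConj]
    exact isConj_comm
  rw [hcard]
  have hm : MemLocalIdeal M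
      (centralChar (fun _ : G => (1 : ℂ)) g - centralChar (χ : G → ℂ) g) := hχ g
  rw [BlockPrincipal81.centralChar_one] at hm
  have := BlockTheoryLocalRing.ideal_mul_left hM
    (BlockTheoryLocalRing.of_isIntegral hM (hint g)) (BlockTheoryLocalRing.ideal_neg hm)
  convert this using 1
  rw [centralChar]
  ring

end Cfsg.Agent.SylowLift7
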