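import Mathlib
import Cfsg.Agent.Lib.SylowCount
import Cfsg.Agent.Lib.CoprimeAction

set_option autoImplicit false

universe u

namespace Cfsg.Agent.SylowNumber

open Pointwise

variable {G : Type*} [Group G] [Finite G] {p : ℕ} [hp : Fact p.Prime]

/-- For a normal `p'`-subgroup with a Sylow `p`-complement the Sylow number is a centralizer index. -/
theorem card_sylow_eq_centralizer (K : Subgroup G) [K.Normal] (P : Sylow p G) (hKP : (P : Subgroup G) ⊓ K = ⊥)
    (htop : (P : Subgroup G) ⊔ K = ⊤) :
    Nat.card (Sylow p G) = (K ⊓ Subgroup.centralizer ((P : Subgroup G) : Set G)).relIndex K := by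
  have h1 : Subgroup.normalizer ((P : Subgroup G) : Set G) ⊔ K = ⊤ :=
    top_le_iff.mp (htop ▸ sup_le (Subgroup.le_normalizer.trans le_sup_left) le_sup_right)
  have h2 : K ⊓ Subgroup.centralizer ((P : Subgroup G) : Set G) = Subgroup.normalizer ((P : Subgroup G) : Set G) ⊓ K := by
    refine le_antisymm (le_inf (inf_le_right.trans (Subgroup.centralizer_le_normalizer _)) inf_le_left) ?_
    rintro k ⟨hk, hkK⟩
    refine ⟨hkK, Subgroup.mem_centralizer_iff.mpr fun y hy => ?_⟩
    have h3 : k * y * k⁻¹ * y⁻¹ ∈ (P : Subgroup G) ⊓ K := by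
      refine Subgroup.mem_inf.mpr ⟨mul_mem ((Subgroup.mem_normalizer_iff.mp hk y).mp hy) (inv_mem (show y ∈ (P : Subgroup G) from hy)), ?_⟩
      have := mul_mem hkK ((inferInstance : K.Normal).conj_mem k⁻¹ (inv_mem hkK) y)
      simpa [mul_assoc] using this
    rw [hKP, Subgroup.mem_bot] at h3
    calc y * k = (k * y * k⁻¹ * y⁻¹) * y * k := by rw [h3, one_mul]
      _ = k * y := by group
  rw [h2, Subgroup.inf_relIndex_right, SylowCount.relIndex_eq_sup, h1, Subgroup.relIndex_top_right,
    P.card_eq_index_normalizer]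
  rfl

/-- Every prime part of the Sylow number in that situation is `1` modulo `p`. -/
theorem ordProj_modEq_one (K : Subgroup G) [K.Normal] (P : Sylow p G) (hKP : (P : Subgroup G) ⊓ K = ⊥)
    (htop : (P : Subgroup G) ⊔ K = ⊤) (l : ℕ) (hl : l.Prime) :
    l ^ (Nat.card (Sylow p G)).factorization l ≡ 1 [MOD p] := by
  haveI := Fact.mk hl
  have hpn := not_dvd_card_sylow p G
  by_cases hlp : l = p
  · subst hlp
    rw [Nat.factorization_eq_zero_of_not_dvd hpn, pow_zero]
  have hpK : ¬ p ∣ Nat.card K := by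
    intro hd
    have h3 := SylowCount.inf_normal_not_dvd P K
    rw [hKP] at h3
    apply h3
    simpa [Subgroup.bot_subgroupOf, Subgroup.index_bot] using hd
  set C := K ⊓ Subgroup.centralizer ((P : Subgroup G) : Set G) with hC
  obtain ⟨L₀⟩ : Nonempty (Sylow l C) := inferInstance
  set U := (L₀ : Subgroup C).map C.subtype
  have hUC : U ≤ C := Subgroup.map_subtype_le _
  have hAK : (P : Subgroup G) ≤ Subgroup.normalizer (K : Set G) := by
    rw [Subgroup.normalizer_eq_top_iff.mpr inferInstance]; exact le_top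
  have hUA : (P : Subgroup G) ≤ Subgroup.normalizer (U : Set G) := by
    intro a ha
    rw [Subgroup.mem_normalizer_iff]
    intro x
    have hfix : ∀ x ∈ U, a * x * a⁻¹ = x := fun x hx => by
      rw [Subgroup.mem_centralizer_iff.mp (hUC hx).2 a ha]; group
    constructor
    · intro hx; rw [hfix x hx]; exact hx
    · intro hx
      have h4 := hfix _ hx
      have : a * x * a⁻¹ = x := mul_left_cancel (a := a) (mul_right_cancel (b := a⁻¹) (by simpa [mul_assoc] using h4))
      rwa [this] at hx
  obtain ⟨k, hk⟩ := P.isPGroup'.exists_card_eq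
  have hcop : (Nat.card (P : Subgroup G)).Coprime (Nat.card K) :=
    hk ▸ Nat.Coprime.pow_left k ((Nat.Prime.coprime_iff_not_dvd hp.out).mpr hpK)
  obtain ⟨L, hUL, hLA⟩ := CoprimeAction.exists_invariant_sylow_ge (p := l) hAK hcop
    (Or.inl (CoprimeAction.isSolvable_of_isPGroup P.isPGroup')) (hUC.trans inf_le_left) (L₀.isPGroup'.map _) hUA
  set V := (L : Subgroup K).map K.subtype
  have hVc : Nat.card V = l ^ (Nat.card K).factorization l := CoprimeAction.card_map_sylow L
  have hVU : V ⊓ C = U := by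
    refine le_antisymm ?_ (le_inf hUL hUC)
    have h1 : U.subgroupOf C ≤ (V ⊓ C).subgroupOf C := fun x hx => ⟨hUL hx, x.2⟩
    have h2 : IsPGroup l ((V ⊓ C).subgroupOf C) := ((L.isPGroup'.map _).to_le inf_le_left).comap_subtype
    have h3 := L₀.is_maximal' h2 (le_trans (by rw [Subgroup.subgroupOf, Subgroup.comap_map_eq_self_of_injective C.subtype_injective]) h1)
    intro x hx
    have : (⟨x, hx.2⟩ : C) ∈ (L₀ : Subgroup C) := h3 ▸ Subgroup.mem_subgroupOf.mpr hx
    exact ⟨_, this, rfl⟩
  have hUc : Nat.card U = l ^ (Nat.card C).factorization l := CoprimeAction.card_map_sylow L₀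
  let act : MulAction (P : Subgroup G) V := MulAction.compHom V (V.normalizerMonoidHom.comp (Subgroup.inclusion hLA))
  have hmod := P.isPGroup'.card_modEq_card_fixedPoints V
  have hsm : ∀ (q : (P : Subgroup G)) (v : V), ((q • v : V) : G) = (q : G) * v * (q : G)⁻¹ := fun _ _ => rfl
  have hfp : Nat.card (MulAction.fixedPoints (P : Subgroup G) V) = Nat.card U := by
    refine Nat.card_congr ⟨fun v => ⟨v.1.1, ?_⟩, fun u => ⟨⟨u.1, hUL u.2⟩, fun q => Subtype.ext ?_⟩,
      fun v => rfl, fun u => rfl⟩
    · rw [← hVU]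
      refine ⟨v.1.2, ⟨Subgroup.map_subtype_le _ v.1.2, Subgroup.mem_centralizer_iff.mpr fun y hy => ?_⟩⟩
      have h := congrArg Subtype.val (v.2 ⟨y, hy⟩)
      rw [hsm] at h
      exact (mul_inv_eq_iff_eq_mul.mp h)
    · rw [hsm]
      show (q : G) * (u : G) * (q : G)⁻¹ = u
      rw [Subgroup.mem_centralizer_iff.mp (hUC u.2).2 q q.2]; group
  rw [hfp, hVc, hUc] at hmod
  have hmul : Nat.card C * Nat.card (Sylow p G) = Nat.card K := by
    rw [card_sylow_eq_centralizer K P hKP htop, ← hC]
    have := Subgroup.relIndex_mul_relIndex ⊥ C K bot_le inf_le_left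
    simpa only [Subgroup.relIndex_bot_left] using this
  rw [← hmul, Nat.factorization_mul Nat.card_pos.ne' Nat.card_pos.ne', Finsupp.add_apply, pow_add] at hmod
  have hcl : Nat.Coprime p (l ^ (Nat.card C).factorization l) :=
    Nat.Coprime.pow_right _ ((Nat.coprime_primes hp.out hl).mpr (Ne.symm hlp))
  exact Nat.ModEq.cancel_left_of_coprime hcl (hmod.trans (by rw [mul_one]))

/-- P. Hall's decomposition of the number of Sylow subgroups. -/
theorem decompose (G : Type u) [Group G] [Finite G] (p : ℕ) [hp : Fact p.Prime] :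
    ∃ l : List ℕ, l.prod = Nat.card (Sylow p G) ∧
      ∀ m ∈ l, (IsPrimePow m ∧ m % p = 1) ∨
        ∃ (S : Type u) (_ : Group S) (_ : Finite S), IsSimpleGroup S ∧ (Group.IsSolvable G → Group.IsSolvable S) ∧
          m = Nat.card (Sylow p S) := by
  generalize hn : Nat.card G = n
  induction n using Nat.strong_induction_on generalizing G with
  | _ n ih =>
    rcases subsingleton_or_nontrivial G with hs | hnt
    · refine ⟨[], ?_, by simp⟩
      haveI : Subsingleton (Sylow p G) := ⟨fun A B => Sylow.ext (Subsingleton.elim _ _)⟩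
      simp
    by_cases hsimple : IsSimpleGroup G
    · exact ⟨[Nat.card (Sylow p G)], by simp, fun m hm => Or.inr ⟨G, inferInstance, inferInstance, hsimple, id, by simpa using hm⟩⟩
    obtain ⟨K, hK, hKb, hKt⟩ : ∃ K : Subgroup G, K.Normal ∧ K ≠ ⊥ ∧ K ≠ ⊤ := by
      by_contra h
      push Not at h
      exact hsimple ⟨fun N hN => (em (N = ⊥)).imp id (fun hb => h N hN hb)⟩
    haveI := hK
    have hlt : ∀ H : Subgroup G, H ≠ ⊤ → Nat.card H < n := fun H hH => hn ▸
      lt_of_le_of_ne (Subgroup.card_le_card_group H) (fun e => hH (Subgroup.eq_top_of_card_eq H e))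
    have hltq : ∀ (H : Subgroup G) [H.Normal], H ≠ ⊥ → Nat.card (G ⧸ H) < n := fun H _ hH => hn ▸ by
      rw [← Subgroup.index_eq_card, ← H.card_mul_index]
      exact lt_mul_of_one_lt_left (Nat.pos_of_ne_zero Subgroup.index_ne_zero_of_finite) ((Subgroup.one_lt_card_iff_ne_bot H).mpr hH)
    obtain ⟨P⟩ : Nonempty (Sylow p G) := inferInstance
    set R := (P : Subgroup G) ⊓ K
    set N := ((P : Subgroup G) ⊔ K) ⊓ Subgroup.normalizer (R : Set G) with hN
    have conv : ∀ {H : Type u} [Group H], (Group.IsSolvable G → Group.IsSolvable H) → ∀ m : ℕ,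
        ((IsPrimePow m ∧ m % p = 1) ∨ ∃ (S : Type u) (_ : Group S) (_ : Finite S), IsSimpleGroup S ∧
          (Group.IsSolvable H → Group.IsSolvable S) ∧ m = Nat.card (Sylow p S)) →
        ((IsPrimePow m ∧ m % p = 1) ∨ ∃ (S : Type u) (_ : Group S) (_ : Finite S), IsSimpleGroup S ∧
          (Group.IsSolvable G → Group.IsSolvable S) ∧ m = Nat.card (Sylow p S)) := by
      intro H _ hsol m hm
      rcases hm with h | ⟨S, i1, i2, h1, h2, h3⟩
      · exact Or.inl h
      · exact Or.inr ⟨S, i1, i2, h1, fun hG => h2 (hsol hG), h3⟩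
    have hquot : ∀ (H : Subgroup G) [H.Normal], Group.IsSolvable G → Group.IsSolvable (G ⧸ H) := fun H _ h => inferInstance
    have hsub : ∀ H : Subgroup G, Group.IsSolvable G → Group.IsSolvable H := fun H h => inferInstance
    by_cases hNt : N = ⊤
    · by_cases hR : R = ⊥
      · have htop : (P : Subgroup G) ⊔ K = ⊤ := top_le_iff.mp (hNt ▸ inf_le_left)
        refine ⟨(Nat.card (Sylow p G)).primeFactors.toList.map (fun q => q ^ (Nat.card (Sylow p G)).factorization q), ?_, ?_⟩
        · rw [Finset.prod_map_toList]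
          exact Nat.prod_factorization_pow_eq_self (n := Nat.card (Sylow p G)) Nat.card_pos.ne'
        · intro m hm
          obtain ⟨q, hq, rfl⟩ := List.mem_map.mp hm
          rw [Finset.mem_toList, Nat.mem_primeFactors] at hq
          refine Or.inl ⟨(hq.1.isPrimePow).pow (hq.1.factorization_pos_of_dvd hq.2.2 hq.2.1).ne', ?_⟩
          have := ordProj_modEq_one K P hR htop q hq.1
          rwa [Nat.ModEq, Nat.one_mod_eq_one.mpr hp.out.ne_one] at this
      · haveI : R.Normal := by
          rw [← Subgroup.normalizer_eq_top_iff]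
          exact top_le_iff.mp (hNt ▸ inf_le_right)
        obtain ⟨l, h1, h2⟩ := ih _ (hltq R hR) (G ⧸ R) rfl
        exact ⟨l, h1.trans (SylowCount.card_sylow_quotient_pGroup R (SylowCount.inf_normal_isPGroup P K)),
          fun m hm => conv (hquot R) m (h2 m hm)⟩
    · obtain ⟨l1, a1, b1⟩ := ih _ (hltq K hKb) (G ⧸ K) rfl
      obtain ⟨l2, a2, b2⟩ := ih _ (hlt K hKt) K rfl
      obtain ⟨l3, a3, b3⟩ := ih _ (hlt N hNt) N rfl
      refine ⟨l1 ++ l2 ++ l3, ?_, ?_⟩
      · rw [List.prod_append, List.prod_append, a1, a2, a3, SylowCount.card_sylow_formula K P N hN]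
      · intro m hm
        rcases List.mem_append.mp hm with hm | hm
        · rcases List.mem_append.mp hm with hm | hm
          · exact conv (hquot K) m (b1 m hm)
          · exact conv (hsub K) m (b2 m hm)
        · exact conv (hsub N) m (b3 m hm)

end Cfsg.Agent.SylowNumber
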