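import Mathlib

set_option autoImplicit false

namespace Cfsg.Agent.SylowPerm

open Pointwise Equiv

/-- The permutation group induced on the Sylow `p`-subgroups: transitive, with a Sylow subgroup that fixes
exactly one point and is normalized by that point's stabilizer. -/
theorem exists_model (G : Type*) [Group G] [Finite G] (p : ℕ) [Fact p.Prime] :
    ∃ (H : Subgroup (Perm (Sylow p G))) (x : Sylow p G) (Q : Sylow p H),
      MulAction.IsPretransitive H (Sylow p G) ∧
      (∀ y, (∀ q ∈ (Q : Subgroup H), q • y = y) ↔ y = x) ∧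
      (∀ g : H, g • x = x → g ∈ Subgroup.normalizer ((Q : Subgroup H) : Set H)) := by
  let φ := MulAction.toPermHom G (Sylow p G)
  obtain ⟨P⟩ : Nonempty (Sylow p G) := inferInstance
  have hsurj : Function.Surjective φ.rangeRestrict := φ.rangeRestrict_surjective
  have hsmul : ∀ (g : G) (y : Sylow p G), φ.rangeRestrict g • y = g • y := fun _ _ => rfl
  refine ⟨φ.range, P, P.mapSurjective hsurj, ⟨fun a b => ?_⟩, fun y => ?_, fun g hg => ?_⟩
  · obtain ⟨g, rfl⟩ := MulAction.exists_smul_eq G a b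
    exact ⟨φ.rangeRestrict g, hsmul g a⟩
  · rw [Sylow.coe_mapSurjective]
    constructor
    · intro h
      have hfix : y ∈ MulAction.fixedPoints (P : Subgroup G) (Sylow p G) := fun q =>
        h _ (Subgroup.mem_map_of_mem _ q.2)
      have := (P : Subgroup G).sylow_mem_fixedPoints_iff.mp hfix
      have h1 := y.is_maximal' (IsPGroup.to_sup_of_normal_left' y.isPGroup' P.isPGroup' this) le_sup_left
      exact Sylow.ext (P.is_maximal' y.isPGroup' (le_sup_right.trans_eq h1))
    · rintro rfl _ ⟨q, hq, rfl⟩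
      rw [hsmul]
      exact Sylow.smul_eq_iff_mem_normalizer.mpr (Subgroup.le_normalizer hq)
  · obtain ⟨g, rfl⟩ := hsurj g
    rw [hsmul] at hg
    rw [Sylow.coe_mapSurjective]
    exact Subgroup.le_normalizer_map _ (Subgroup.mem_map_of_mem _ (Sylow.smul_eq_iff_mem_normalizer.mp hg))

variable {p : ℕ} [hp : Fact p.Prime] {Ω : Type*} [Finite Ω] {H : Subgroup (Perm Ω)} {x : Ω}

theorem card_orbit_eq {R : Subgroup H} (hR : IsPGroup p R) (y : Ω) (hy : ¬ ∀ q ∈ R, q • y = y) :
    ∃ k : ℕ, Nat.card (MulAction.orbit R y) = p ^ (k + 1) := by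
  obtain ⟨k, hk⟩ := hR.card_orbit y
  rcases k with _ | k
  · exfalso
    apply hy
    intro q hq
    have h1 : (MulAction.orbit R y).ncard = 1 := by rw [← Nat.card_coe_set_eq, hk, pow_zero]
    obtain ⟨z, hz⟩ := Set.ncard_eq_one.mp h1
    have hyz : y ∈ ({z} : Set Ω) := hz ▸ MulAction.mem_orbit_self y
    have hqz : (⟨q, hq⟩ : R) • y ∈ ({z} : Set Ω) := hz ▸ MulAction.mem_orbit y _
    exact (Set.mem_singleton_iff.mp hqz).trans (Set.mem_singleton_iff.mp hyz).symm
  · exact ⟨k, hk⟩

/-- A proper block through the unique fixed point of a p-subgroup has more than `p` points. -/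
theorem block_card (R : Subgroup H) (hR : IsPGroup p R) (hfix : ∀ y, (∀ q ∈ R, q • y = y) ↔ y = x)
    {B : Set Ω} (hB : MulAction.IsBlock H B) (hx : x ∈ B) {y : Ω} (hy : y ∈ B) (hne : y ≠ x) :
    p < B.ncard := by
  obtain ⟨k, hk⟩ := card_orbit_eq hR y (fun h => hne ((hfix y).mp h))
  have hsub : MulAction.orbit R y ⊆ B \ {x} := by
    rintro _ ⟨q, rfl⟩
    have hqx : (q : H) • x = x := (hfix x).mpr rfl q q.2
    have e : (q : H) • B = B := MulAction.isBlock_iff_smul_eq_of_nonempty.mp hB ⟨x, ⟨x, hx, hqx⟩, hx⟩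
    refine ⟨e ▸ Set.smul_mem_smul_set hy, fun h => hne ?_⟩
    apply MulAction.injective (q : H)
    exact (Set.mem_singleton_iff.mp h).trans hqx.symm
  have h1 := Set.ncard_le_ncard hsub
  rw [← Nat.card_coe_set_eq, hk] at h1
  have h2 := Set.ncard_sdiff_singleton_of_mem hx (s := B)
  have h3 : p ≤ p ^ (k + 1) := Nat.le_self_pow (by omega) p
  have h4 : 0 < B.ncard := (Set.ncard_pos (Set.toFinite B)).mpr ⟨x, hx⟩
  omega

/-- Primitivity from arithmetic: each proper divisor of the degree is at most `p`. -/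
theorem isPreprimitive (R : Subgroup H) (hR : IsPGroup p R) [MulAction.IsPretransitive H Ω]
    (hfix : ∀ y, (∀ q ∈ R, q • y = y) ↔ y = x)
    (hdiv : ∀ d, d ∣ Nat.card Ω → d ≠ Nat.card Ω → d ≤ p) : MulAction.IsPreprimitive H Ω := by
  refine MulAction.IsPreprimitive.of_isTrivialBlock_base x @fun B hx hB => ?_
  by_cases h : ∀ y ∈ B, y = x
  · exact Or.inl fun a ha b hb => (h a ha).trans (h b hb).symm
  · push Not at h
    obtain ⟨y, hy, hne⟩ := h
    have h1 := block_card R hR hfix hB hx hy hne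
    have h2 := hdiv _ (hB.ncard_dvd_card ⟨x, hx⟩)
    right
    refine Set.eq_of_subset_of_ncard_le (Set.subset_univ _) ?_ (Set.toFinite _)
    rw [Set.ncard_univ]
    by_contra hlt
    have := h2 (by omega)
    omega

end Cfsg.Agent.SylowPerm
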