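import Mathlib

/-!
Sylow 2-subgroups of finite symmetric groups are self-normalising, and so are those of
alternating groups of degree at least 6.
-/

set_option autoImplicit false

open Equiv Equiv.Perm

namespace Cfsg.Agent.SylowTwoSymAlt

variable {α : Type*} [Fintype α] [DecidableEq α]

/-- `z` is a product of disjoint transpositions moving all but at most one point. -/
def Matching (z : Perm α) : Prop :=
  (∀ c ∈ z.cycleFactorsFinset, c.IsSwap) ∧ Fintype.card α ≤ z.support.card + 1

theorem exists_matching : ∃ z : Perm α, Matching z := by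
  obtain ⟨z, hz⟩ := (Equiv.Perm.exists_with_cycleType_iff α
    (m := Multiset.replicate (Fintype.card α / 2) 2)).2
    ⟨by rw [Multiset.sum_replicate, smul_eq_mul]; omega,
     fun a ha => by rw [Multiset.eq_of_mem_replicate ha]⟩
  refine ⟨z, fun c hc => ?_, ?_⟩
  · rw [← card_support_eq_two]
    have : c.support.card ∈ z.cycleType := by
      rw [cycleType_def]
      exact Multiset.mem_map.2 ⟨c, hc, rfl⟩
    rw [hz] at this
    exact Multiset.eq_of_mem_replicate this
  · rw [← sum_cycleType, hz, Multiset.sum_replicate, smul_eq_mul]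
    omega

theorem isSwap_conj {c : Perm α} (g : Perm α) (hc : c.IsSwap) : (g * c * g⁻¹).IsSwap := by
  rw [← card_support_eq_two] at hc ⊢
  rw [card_support_conj]
  exact hc

theorem Matching.conj {z : Perm α} (g : Perm α) (hz : Matching z) : Matching (g * z * g⁻¹) := by
  refine ⟨fun d hd => ?_, by rw [card_support_conj]; exact hz.2⟩
  have hd' : g * (g⁻¹ * d * g) * g⁻¹ ∈ (g * z * g⁻¹).cycleFactorsFinset := by
    simpa [mul_assoc] using hd
  rw [mem_cycleFactorsFinset_conj] at hd'
  simpa [mul_assoc] using isSwap_conj g (hz.1 _ hd')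

theorem Matching.support_card {z : Perm α} (hz : Matching z) :
    z.support.card = 2 * z.cycleFactorsFinset.card := by
  rw [← sum_cycleType, cycleType_def]
  rw [show z.cycleFactorsFinset.1.map (Finset.card ∘ support) =
      z.cycleFactorsFinset.1.map (fun _ => 2) from
    Multiset.map_congr rfl fun c hc => card_support_eq_two.2 (hz.1 c hc)]
  simp [mul_comm]

/-- An element commuting with all the transpositions of a matching squares to 1. -/
theorem Matching.mul_self_eq_one {z x : Perm α} (hz : Matching z)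
    (hx : ∀ c ∈ z.cycleFactorsFinset, Commute x c) : x * x = 1 := by
  have hmove : ∀ c ∈ z.cycleFactorsFinset, ∀ a, x a ∈ c.support ↔ a ∈ c.support := by
    intro c hc a
    simp only [mem_support]
    rw [show c (x a) = x (c a) from (Perm.congr_fun (hx c hc) a).symm]
    simp
  ext a
  rw [Perm.mul_apply, Perm.one_apply]
  by_cases ha : a ∈ z.support
  · set c := z.cycleOf a
    have hc : c ∈ z.cycleFactorsFinset := cycleOf_mem_cycleFactorsFinset_iff.2 ha
    have hca : a ∈ c.support := mem_support_cycleOf_iff.2 ⟨SameCycle.refl _ _, ha⟩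
    obtain ⟨u, v, huv, hcuv⟩ := hz.1 c hc
    have hs : c.support = {u, v} := by rw [hcuv, support_swap huv]
    have h1 := (hmove c hc a).2 hca
    have h2 := (hmove c hc (x a)).2 h1
    by_cases hxa : x a = a
    · rw [hxa, hxa]
    have hxx : x (x a) ≠ x a := fun h => hxa (x.injective h)
    rw [hs] at hca h1 h2
    simp only [Finset.mem_insert, Finset.mem_singleton] at hca h1 h2
    rcases hca with r | r <;> rcases h1 with s | s <;> rcases h2 with t | t <;> grind
  · have hxa : x a ∉ z.support := by
      intro h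
      have hc : z.cycleOf (x a) ∈ z.cycleFactorsFinset :=
        cycleOf_mem_cycleFactorsFinset_iff.2 h
      have hca := (hmove _ hc a).1 (mem_support_cycleOf_iff.2 ⟨SameCycle.refl _ _, h⟩)
      exact ha (mem_cycleFactorsFinset_support_le hc hca)
    have hle : z.supportᶜ.card ≤ 1 := by
      rw [Finset.card_compl]; have := hz.2; omega
    have heq : x a = a := Finset.card_le_one.1 hle _ (by simpa using hxa) _ (by simpa using ha)
    rw [heq, heq]

/-- Every Sylow 2-subgroup contains all the transpositions of some matching. -/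
theorem exists_matching_le (P : Sylow 2 (Perm α)) :
    ∃ z : Perm α, Matching z ∧ ∀ c ∈ z.cycleFactorsFinset, c ∈ (P : Subgroup (Perm α)) := by
  obtain ⟨z, hz⟩ := exists_matching (α := α)
  set K := Subgroup.centralizer (z.cycleFactorsFinset : Set (Perm α))
  have hK : IsPGroup 2 K := by
    intro x
    refine ⟨1, Subtype.ext ?_⟩
    have := hz.mul_self_eq_one (x := (x : Perm α))
      (fun c hc => ((Subgroup.mem_centralizer_iff.1 x.2) c (by exact_mod_cast hc)).symm)
    simpa [pow_two] using this
  obtain ⟨Q, hQ⟩ := hK.exists_le_sylow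
  obtain ⟨g, hg⟩ := MulAction.exists_smul_eq (Perm α) Q P
  refine ⟨g * z * g⁻¹, hz.conj g, fun d hd => ?_⟩
  have hd' : g * (g⁻¹ * d * g) * g⁻¹ ∈ (g * z * g⁻¹).cycleFactorsFinset := by
    simpa [mul_assoc] using hd
  rw [mem_cycleFactorsFinset_conj] at hd'
  have hQ' : g⁻¹ * d * g ∈ (Q : Subgroup (Perm α)) := by
    refine hQ (Subgroup.mem_centralizer_iff.2 fun c hc => ?_)
    rcases eq_or_ne c (g⁻¹ * d * g) with h | h
    · rw [h]
    · exact cycleFactorsFinset_mem_commute' z (by exact_mod_cast hc) hd'
  rw [← hg, Sylow.coe_subgroup_smul, Subgroup.mem_pointwise_smul_iff_inv_smul_mem]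
  simpa [MulAut.smul_def, mul_assoc] using hQ'

theorem not_isThreeCycle_mem {P : Subgroup (Perm α)} (hP : IsPGroup 2 P) {t : Perm α}
    (h3 : t.IsThreeCycle) : t ∉ P := by
  intro ht
  obtain ⟨k, hk⟩ := hP ⟨t, ht⟩
  have : (3 : ℕ) ∣ 2 ^ k := by
    rw [← h3.orderOf]
    exact orderOf_dvd_of_pow_eq_one (by simpa using congrArg Subtype.val hk)
  have := (Nat.Prime.dvd_of_dvd_pow Nat.prime_three this)
  omega

theorem swap_mem_factors {P : Subgroup (Perm α)} (hP : IsPGroup 2 P) {z t : Perm α}
    (hz : Matching z) (hzP : ∀ c ∈ z.cycleFactorsFinset, c ∈ P) (ht : t.IsSwap) (htP : t ∈ P) :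
    t ∈ z.cycleFactorsFinset := by
  obtain ⟨a, b, hab, rfl⟩ := ht
  have key : ∀ a b : α, a ≠ b → Equiv.swap a b ∈ P → a ∈ z.support →
      Equiv.swap a b ∈ z.cycleFactorsFinset := by
    intro a b hab htP ha
    set c := z.cycleOf a
    have hc : c ∈ z.cycleFactorsFinset := cycleOf_mem_cycleFactorsFinset_iff.2 ha
    have hca : a ∈ c.support := mem_support_cycleOf_iff.2 ⟨SameCycle.refl _ _, ha⟩
    obtain ⟨u, v, huv, hcuv⟩ := hz.1 c hc
    rw [hcuv, support_swap huv] at hca
    simp only [Finset.mem_insert, Finset.mem_singleton] at hca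
    obtain ⟨w, haw, hcw⟩ : ∃ w, a ≠ w ∧ c = Equiv.swap a w := by
      rcases hca with rfl | rfl
      · exact ⟨v, huv, hcuv⟩
      · exact ⟨u, huv.symm, by rw [hcuv, Equiv.swap_comm]⟩
    by_cases hwb : w = b
    · rw [← hwb, ← hcw]; exact hc
    exact absurd (P.mul_mem (hcw ▸ hzP c hc) htP)
      (not_isThreeCycle_mem hP (isThreeCycle_swap_mul_swap_same haw hab hwb))
  by_cases ha : a ∈ z.support
  · exact key a b hab htP ha
  · by_cases hb : b ∈ z.support
    · rw [Equiv.swap_comm] at htP ⊢
      exact key b a hab.symm htP hb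
    · have hle : z.supportᶜ.card ≤ 1 := by
        rw [Finset.card_compl]; have := hz.2; omega
      exact absurd (Finset.card_le_one.1 hle a (by simpa using ha) b (by simpa using hb)) hab

theorem sylow_two_normalizer_aux : ∀ (n : ℕ) (α : Type _) [Fintype α] [DecidableEq α],
    Fintype.card α = n → ∀ (P : Sylow 2 (Perm α)),
      ∀ g ∈ Subgroup.normalizer ((P : Subgroup (Perm α)) : Set (Perm α)),
        g ∈ (P : Subgroup (Perm α)) := by
  intro n
  induction n using Nat.strong_induction_on with
  | _ n ih =>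
    intro α _ _ hn P g hg
    rcases Nat.eq_zero_or_pos n with h0 | h0
    · haveI : IsEmpty α := Fintype.card_eq_zero_iff.1 (hn.trans h0)
      rw [Subsingleton.elim g 1]; exact one_mem _
    obtain ⟨z, hz, hzP⟩ := exists_matching_le P
    have hfix : ∀ y ∈ Subgroup.normalizer ((P : Subgroup (Perm α)) : Set (Perm α)),
        y ∈ Subgroup.centralizer ({z} : Set (Perm α)) := by
      intro y hy
      have hsub : (y * z * y⁻¹).cycleFactorsFinset ⊆ z.cycleFactorsFinset := by
        intro d hd
        have hd' : y * (y⁻¹ * d * y) * y⁻¹ ∈ (y * z * y⁻¹).cycleFactorsFinset := by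
          simpa [mul_assoc] using hd
        rw [mem_cycleFactorsFinset_conj] at hd'
        refine swap_mem_factors P.isPGroup' hz hzP ((hz.conj y).1 d hd) ?_
        have := (Subgroup.mem_normalizer_iff.1 hy (y⁻¹ * d * y)).1 (hzP _ hd')
        simpa [mul_assoc] using this
      have hcard : (y * z * y⁻¹).cycleFactorsFinset.card = z.cycleFactorsFinset.card := by
        have e := (hz.conj y).support_card
        rw [card_support_conj, hz.support_card] at e
        omega
      have := cycleFactorsFinset_injective (Finset.eq_of_subset_of_card_le hsub hcard.ge)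
      rw [Subgroup.mem_centralizer_singleton_iff]
      exact eq_mul_inv_iff_mul_eq.1 this.symm |>.symm
    set C := Subgroup.centralizer ({z} : Set (Perm α))
    have hPC : (P : Subgroup (Perm α)) ≤ C := fun y hy => hfix y (Subgroup.le_normalizer hy)
    let P' : Sylow 2 C := P.subtype hPC
    let π := OnCycleFactors.toPermHom z
    have hsurj : Function.Surjective π := by
      intro τ
      refine MonoidHom.mem_range.1 (OnCycleFactors.mem_range_toPermHom_iff.2 fun c => ?_)
      rw [card_support_eq_two.2 (hz.1 _ c.2), card_support_eq_two.2 (hz.1 _ (τ c).2)]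
    have hker : π.ker ≤ (P' : Subgroup C) := by
      refine IsPGroup.le_sylow_of_normal ?_ P'
      intro x
      refine ⟨1, Subtype.ext (Subtype.ext ?_)⟩
      have hx : ∀ c ∈ z.cycleFactorsFinset, Commute ((x : C) : Perm α) c :=
        (OnCycleFactors.mem_ker_toPermHom_iff z (x : C)).1 x.2
      simpa [pow_two] using hz.mul_self_eq_one hx
    have hlt : Fintype.card z.cycleFactorsFinset < n := by
      rw [Fintype.card_coe]
      have := hz.support_card
      have := Finset.card_le_univ z.support
      omega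
    let gC : C := ⟨g, hfix g hg⟩
    have hgN : gC ∈ Subgroup.normalizer ((P' : Subgroup C) : Set C) := by
      rw [Subgroup.mem_normalizer_iff]
      intro h
      exact Subgroup.mem_normalizer_iff.1 hg (h : Perm α)
    have hπ : π gC ∈ ((P'.mapSurjective hsurj : Sylow 2 _) : Subgroup _) := by
      refine ih _ hlt _ rfl _ _ ?_
      rw [Sylow.coe_mapSurjective]
      exact Subgroup.le_normalizer_map π (Subgroup.mem_map_of_mem π hgN)
    rw [Sylow.coe_mapSurjective] at hπ
    obtain ⟨p, hp, hpe⟩ := hπ
    have : p⁻¹ * gC ∈ π.ker := by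
      rw [MonoidHom.mem_ker, map_mul, map_inv, hpe, inv_mul_cancel]
    have := (P' : Subgroup C).mul_mem hp (hker this)
    rw [mul_inv_cancel_left] at this
    exact this

/-- Sylow 2-subgroups of a finite symmetric group are self-normalising. -/
theorem perm_normalizer_eq (P : Sylow 2 (Perm α)) :
    Subgroup.normalizer ((P : Subgroup (Perm α)) : Set (Perm α)) = (P : Subgroup (Perm α)) :=
  le_antisymm (fun g hg => sylow_two_normalizer_aux _ α rfl P g hg) Subgroup.le_normalizer

/-- In any finite group, an element normalising a Sylow p-subgroup with a p-power power in it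
lies in it. -/
theorem mem_of_pow_mem {G : Type*} [Group G] {p : ℕ} (S : Sylow p G) {c : G}
    (hc : c ∈ Subgroup.normalizer ((S : Subgroup G) : Set G)) (h : c ^ p ∈ (S : Subgroup G)) :
    c ∈ (S : Subgroup G) := by
  have hp : IsPGroup p (Subgroup.zpowers c) := by
    rintro ⟨x, hx⟩
    obtain ⟨k, rfl⟩ := Subgroup.mem_zpowers_iff.1 hx
    obtain ⟨j, hj⟩ := S.isPGroup' ⟨c ^ p, h⟩
    refine ⟨j + 1, Subtype.ext ?_⟩
    have hj' : (c ^ p) ^ p ^ j = 1 := by simpa using congrArg Subtype.val hj
    rw [← pow_mul, ← pow_succ'] at hj'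
    show (c ^ k) ^ p ^ (j + 1) = 1
    rw [← zpow_natCast, ← zpow_mul, mul_comm, zpow_mul, zpow_natCast, hj', one_zpow]
  have := IsPGroup.inf_normalizer_sylow hp S
  exact (this ▸ Subgroup.mem_inf.2 ⟨Subgroup.mem_zpowers c, hc⟩ :
    c ∈ Subgroup.zpowers c ⊓ (S : Subgroup G)).2

theorem comm_identity {G : Type*} [Group G] {a b f : G} (hb : b * b = 1) (hf : f * f = 1)
    (hfa : f * a = a * f) (hfb : f * b = b * f) :
    (a * b) ^ 2 = a * b * (b * f) * (b * a) * (f * b) := by
  have e1 : a * b * (b * f) * (b * a) * (f * b) = a * (f * b * (a * f)) * b := by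
    have : a * b * (b * f) * (b * a) * (f * b) = a * (b * b) * (f * b * (a * f)) * b := by group
    rw [this, hb, mul_one]
  have e2 : f * b * (a * f) = b * a := by
    rw [hfb, ← hfa, mul_assoc, ← mul_assoc f f a, hf, one_mul]
  rw [e1, e2, pow_two]; group

theorem mem_normalizer_of_conj_mem {G : Type*} [Group G] [Finite G] (H : Subgroup G) {g : G}
    (h : ∀ x ∈ H, g * x * g⁻¹ ∈ H) : g ∈ Subgroup.normalizer (H : Set G) := by
  rw [Subgroup.mem_normalizer_iff]
  intro x
  refine ⟨h x, fun hx => ?_⟩
  have hinj : Function.Injective (fun y : H => (⟨g * y * g⁻¹, h y y.2⟩ : H)) := by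
    intro a b hab
    simpa using congrArg Subtype.val hab
  obtain ⟨y, hy⟩ := Finite.surjective_of_injective hinj ⟨_, hx⟩
  have : (y : G) = x := by simpa using congrArg Subtype.val hy
  exact this ▸ y.2

/-- Sylow 2-subgroups of an alternating group of degree at least 6 are self-normalising. -/
theorem alternating_normalizer_eq (hα : 6 ≤ Fintype.card α) (S : Sylow 2 (alternatingGroup α)) :
    Subgroup.normalizer ((S : Subgroup (alternatingGroup α)) : Set (alternatingGroup α)) =
      (S : Subgroup (alternatingGroup α)) := by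
  refine le_antisymm (fun g hg => ?_) Subgroup.le_normalizer
  set S' : Subgroup (Perm α) := (S : Subgroup (alternatingGroup α)).map (alternatingGroup α).subtype
  have hS' : IsPGroup 2 S' := S.isPGroup'.map _
  obtain ⟨P, hSP⟩ := hS'.exists_le_sylow
  have hPA : ∀ x : (alternatingGroup α), (x : Perm α) ∈ (P : Subgroup (Perm α)) ↔ x ∈ (S : Subgroup (alternatingGroup α)) := by
    intro x
    have hle : (S : Subgroup (alternatingGroup α)) ≤ (P : Subgroup (Perm α)).subgroupOf (alternatingGroup α) :=
      fun y hy => hSP (Subgroup.mem_map_of_mem _ hy)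
    have heq := S.3 ((P.isPGroup').comap_of_injective (alternatingGroup α).subtype (alternatingGroup α).subtype_injective) hle
    rw [← heq]
    exact Iff.rfl
  obtain ⟨z, hz, hzP⟩ := exists_matching_le P
  have hcard : 3 ≤ z.cycleFactorsFinset.card := by
    have := hz.support_card; have := hz.2; omega
  have hsign : ∀ t : Perm α, t.IsSwap → Perm.sign t = -1 := fun t ht => ht.sign_eq
  have hswap2 : ∀ t : Perm α, t.IsSwap → t * t = 1 := by
    rintro t ⟨a, b, -, rfl⟩; exact Equiv.swap_mul_self a b
  -- transpositions in P normalise S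
  have hτS : ∀ τ : Perm α, τ ∈ (P : Subgroup (Perm α)) → ∀ (s : (alternatingGroup α)) (hs : τ * s * τ⁻¹ ∈ (alternatingGroup α)),
      s ∈ (S : Subgroup (alternatingGroup α)) → (⟨τ * s * τ⁻¹, hs⟩ : (alternatingGroup α)) ∈ (S : Subgroup (alternatingGroup α)) := by
    intro τ hτ s hs hsS
    rw [← hPA] at hsS ⊢
    exact mul_mem (mul_mem hτ hsS) (inv_mem hτ)
  have hAn : ∀ (τ : Perm α) (s : (alternatingGroup α)), τ * s * τ⁻¹ ∈ (alternatingGroup α) := by
    intro τ s
    rw [mem_alternatingGroup, map_mul, map_mul, mem_alternatingGroup.1 s.2, mul_one, ← map_mul,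
      mul_inv_cancel, map_one]
  -- g sends the transpositions of P into P
  have hmove : ∀ τ ∈ z.cycleFactorsFinset, (g : Perm α) * τ * (g : Perm α)⁻¹ ∈
      (P : Subgroup (Perm α)) := by
    intro τ hτ
    obtain ⟨τ', hτ'⟩ : ∃ t, t = (g : Perm α) * τ * (g : Perm α)⁻¹ := ⟨_, rfl⟩
    rw [← hτ']
    have hsw : τ'.IsSwap := hτ' ▸ isSwap_conj _ (hz.1 τ hτ)
    have hcA : τ' * τ ∈ (alternatingGroup α) := by
      rw [mem_alternatingGroup, map_mul, hsign _ hsw, hsign _ (hz.1 τ hτ)]
      decide
    set c : (alternatingGroup α) := ⟨τ' * τ, hcA⟩ with hc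
    have hττ : τ⁻¹ = τ := inv_eq_of_mul_eq_one_right (hswap2 τ (hz.1 τ hτ))
    have hττ' : τ'⁻¹ = τ' := inv_eq_of_mul_eq_one_right (hswap2 τ' hsw)
    have hτ'S : ∀ (s : (alternatingGroup α)), s ∈ (S : Subgroup (alternatingGroup α)) →
        (⟨τ' * s * τ'⁻¹, hAn τ' s⟩ : (alternatingGroup α)) ∈ (S : Subgroup (alternatingGroup α)) := by
      intro s hs
      have h1 := (Subgroup.mem_normalizer_iff''.1 hg s).1 hs
      have h2 := hτS τ (hzP τ hτ) _ (hAn τ _) h1
      have h3 := (Subgroup.mem_normalizer_iff.1 hg _).1 h2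
      convert h3 using 1
      apply Subtype.ext
      simp [hτ', mul_assoc]
    have hcN : c ∈ Subgroup.normalizer ((S : Subgroup (alternatingGroup α)) : Set (alternatingGroup α)) := by
      refine mem_normalizer_of_conj_mem _ fun s hs => ?_
      have h2 := hτ'S _ (hτS τ (hzP τ hτ) s (hAn τ s) hs)
      convert h2 using 1
      apply Subtype.ext
      simp [hc, mul_assoc]
    have hcS : c ∈ (S : Subgroup (alternatingGroup α)) := by
      refine mem_of_pow_mem S hcN ?_
      by_cases hcomm : Commute τ' τ
      · have : c ^ 2 = 1 := Subtype.ext (by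
          show (τ' * τ) ^ 2 = 1
          rw [hcomm.mul_pow, pow_two, pow_two, hswap2 τ' hsw, hswap2 τ (hz.1 τ hτ), one_mul])
        rw [this]; exact one_mem _
      · obtain ⟨f, hf, hfn⟩ : ∃ f ∈ z.cycleFactorsFinset, f ∉ τ'.support.image z.cycleOf := by
          apply Finset.exists_mem_notMem_of_card_lt_card
          have h2 := card_support_eq_two.2 hsw
          have := Finset.card_image_le (s := τ'.support) (f := z.cycleOf)
          omega
        have hfd : Perm.Disjoint f τ' := by
          rw [disjoint_iff_disjoint_support, Finset.disjoint_left]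
          intro x hx hx'
          exact hfn (Finset.mem_image.2 ⟨x, hx', ((cycle_is_cycleOf hx hf)).symm⟩)
        have hfτ' : Commute f τ' := hfd.commute
        have hne : f ≠ τ := fun h => hcomm (h ▸ hfτ').symm
        have hfτ : Commute f τ := cycleFactorsFinset_mem_commute' z hf hτ
        have hsA : τ * f ∈ (alternatingGroup α) := by
          rw [mem_alternatingGroup, map_mul, hsign _ (hz.1 τ hτ), hsign _ (hz.1 f hf)]
          decide
        have hs : (⟨τ * f, hsA⟩ : (alternatingGroup α)) ∈ (S : Subgroup (alternatingGroup α)) :=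
          (hPA _).1 (mul_mem (hzP τ hτ) (hzP f hf))
        have h1 := mul_mem ((Subgroup.mem_normalizer_iff.1 hcN _).1 hs) (inv_mem hs)
        convert h1 using 1
        apply Subtype.ext
        show (τ' * τ) ^ 2 = τ' * τ * (τ * f) * (τ' * τ)⁻¹ * (τ * f)⁻¹
        have hff : f⁻¹ = f := inv_eq_of_mul_eq_one_right (hswap2 f (hz.1 f hf))
        rw [mul_inv_rev, mul_inv_rev, hττ, hττ', hff]
        exact comm_identity (hswap2 τ (hz.1 τ hτ)) (hswap2 f (hz.1 f hf)) hfτ'.eq hfτ.eq
    have := mul_mem ((hPA c).2 hcS) (inv_mem (hzP τ hτ))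
    simpa [hc] using this
  obtain ⟨τ, hτ⟩ : z.cycleFactorsFinset.Nonempty := Finset.card_pos.1 (by omega)
  have hgP : (g : Perm α) ∈ Subgroup.normalizer ((P : Subgroup (Perm α)) : Set (Perm α)) := by
    have key : ∀ x ∈ (P : Subgroup (Perm α)), (g : Perm α) * x * (g : Perm α)⁻¹ ∈
        (P : Subgroup (Perm α)) := by
      intro x hx
      rcases Int.units_eq_one_or (Perm.sign x) with h | h
      · have hxS := (hPA ⟨x, h⟩).1 hx
        exact (hPA _).2 ((Subgroup.mem_normalizer_iff.1 hg _).1 hxS)
      · have hxA : x * τ ∈ (alternatingGroup α) := by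
          rw [mem_alternatingGroup, map_mul, h, hsign _ (hz.1 τ hτ)]; decide
        have hxS := (hPA ⟨_, hxA⟩).1 (mul_mem hx (hzP τ hτ))
        have h1 := (hPA _).2 ((Subgroup.mem_normalizer_iff.1 hg _).1 hxS)
        simpa [mul_assoc] using mul_mem h1 (inv_mem (hmove τ hτ))
    exact mem_normalizer_of_conj_mem _ key
  rw [perm_normalizer_eq] at hgP
  exact (hPA g).1 hgP

end Cfsg.Agent.SylowTwoSymAlt
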