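import Mathlib

/-!
# Three-local data of the symmetric group of degree 8: normal form

`G` has Sylow 3-subgroup `D` of order 9, a homomorphism `F : S₃ × S₅ → G` onto `N(⟨z⟩)`,
and an involution `s` exchanging `z = F(r,1)` and `z' = F(1,c)`.
-/

set_option autoImplicit false

namespace Cfsg.Agent.Sym8Three96

open Equiv

abbrev P3 := Equiv.Perm (Fin 3)
abbrev P5 := Equiv.Perm (Fin 5)

/-- the 3-cycle `(0 1 2)` of `S₃`. -/
def r3 : P3 := swap 0 1 * swap 1 2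

/-- the transposition `(0 1)` of `S₃`. -/
def f3 : P3 := swap 0 1

/-- the 3-cycle `(0 1 2)` of `S₅`. -/
def c5 : P5 := swap 0 1 * swap 1 2

/-- the transposition `(0 1)` of `S₅`. -/
def f5 : P5 := swap 0 1

/-- the transposition `(3 4)` of `S₅`. -/
def t5 : P5 := swap 3 4

theorem r3_cube : r3 ^ 3 = 1 := by decide
theorem c5_cube : c5 ^ 3 = 1 := by decide

theorem p3_three : ∀ a : P3, a * r3 = r3 * a → a = r3 ^ (0 : ℕ) ∨ a = r3 ^ (1 : ℕ) ∨ a = r3 ^ (2 : ℕ) := by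
  decide

theorem p3_gen : ∀ a : P3, a ^ 3 = 1 → a ≠ 1 → a = r3 ∨ a = r3⁻¹ := by decide

theorem p3_conj : ∀ a : P3, a * r3 * a⁻¹ = r3 ∨ a * r3 * a⁻¹ = r3⁻¹ := by decide

theorem p5_no_normal_three : ∀ b : P5, b ^ 3 = 1 → b ≠ 1 →
    ∃ h : P5, h * b * h⁻¹ ≠ b ∧ h * b * h⁻¹ ≠ b⁻¹ := by decide +kernel

theorem p5_conj_c5 : ∀ b : P5, b ^ 3 = 1 → b ≠ 1 → ∃ h : P5, h * b * h⁻¹ = c5 := by decide +kernel

theorem p5_cent_c5 : ∀ l : P5, l * c5 = c5 * l →
    ∃ i : Fin 3, ∃ e : Fin 2, l = c5 ^ (i : ℕ) * t5 ^ (e : ℕ) := by decide +kernel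

theorem p5_inverter : ∀ l : P5, l * c5 * l⁻¹ = c5⁻¹ → l * l = 1 →
    ∃ j : Fin 3, c5 ^ (j : ℕ) * l * (c5 ^ (j : ℕ))⁻¹ = f5 ∨
      c5 ^ (j : ℕ) * l * (c5 ^ (j : ℕ))⁻¹ = f5 * t5 := by decide +kernel

theorem p5_commute_exp3 : ∀ l : P5, l * c5 = c5 * l → l ^ 3 = 1 →
    ∃ j : Fin 3, l = c5 ^ (j : ℕ) := by decide +kernel

theorem invol_cent_form : ∀ (i j : Fin 3) (e : Fin 2),
    (r3 ^ (i : ℕ), c5 ^ (j : ℕ) * t5 ^ (e : ℕ)) * (r3 ^ (i : ℕ), c5 ^ (j : ℕ) * t5 ^ (e : ℕ)) =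
      ((1 : P3), (1 : P5)) →
    (r3 ^ (i : ℕ), c5 ^ (j : ℕ) * t5 ^ (e : ℕ)) ≠ ((1 : P3), (1 : P5)) →
    (r3 ^ (i : ℕ), c5 ^ (j : ℕ) * t5 ^ (e : ℕ)) = ((1 : P3), t5) := by decide +kernel

variable {G : Type*} [Group G]

/-- Normal form of the hypotheses. -/
structure Data (G : Type*) [Group G] where
  P : Sylow 3 G
  F : P3 × P5 →* G
  inj : Function.Injective F
  range_of : ∀ g : G, (g * F (r3, 1) * g⁻¹ = F (r3, 1) ∨ g * F (r3, 1) * g⁻¹ = (F (r3, 1))⁻¹) →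
    ∃ p, F p = g
  memP : ∀ g : G, g ∈ (P : Subgroup G) ↔ ∃ i j : Fin 3, F (r3 ^ (i : ℕ), c5 ^ (j : ℕ)) = g
  s : G
  s_sq : s * s = 1
  s_z : s * F (r3, 1) * s = F (1, c5)
  card_y : Nat.card (Subgroup.centralizer ({F (r3, c5)} : Set G)) = 36
  alt : Bool
  s_iota : s * F (f3, 1) * s = F (1, if alt then f5 * t5 else f5)

namespace Data

variable (d : Data G)

def z : G := d.F (r3, 1)
def z' : G := d.F (1, c5)
/-- the transposition of `S₅` centralising `D`. -/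
def tau : G := d.F (1, t5)
/-- the inverting involution of the factor `S₃`. -/
def iota : G := d.F (f3, 1)
/-- the factor `S₅` of `N(⟨z⟩)`. -/
def L : P5 →* G := d.F.comp (MonoidHom.inr P3 P5)
/-- the factor `S₃` of `N(⟨z⟩)`. -/
def J : P3 →* G := d.F.comp (MonoidHom.inl P3 P5)
/-- conjugation by `s`. -/
def cs : G →* G := (MulAut.conj d.s).toMonoidHom
/-- the map for `N(⟨z'⟩)`. -/
def F' : P3 × P5 →* G := d.cs.comp d.F

theorem s_inv : d.s⁻¹ = d.s := inv_eq_of_mul_eq_one_left d.s_sq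

theorem cs_apply (g : G) : d.cs g = d.s * g * d.s := by
  simp [cs, MulAut.conj_apply, d.s_inv]

theorem cs_cs (g : G) : d.cs (d.cs g) = g := by
  rw [cs_apply, cs_apply]
  simp [mul_assoc, d.s_sq]
  rw [← mul_assoc d.s d.s, d.s_sq, one_mul]

theorem F'_apply (p : P3 × P5) : d.F' p = d.s * d.F p * d.s := d.cs_apply _

theorem F'_inj : Function.Injective d.F' := fun a b h => by
  apply d.inj
  have := congrArg d.cs h
  simpa [F', d.cs_cs] using this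

theorem L_apply (l : P5) : d.L l = d.F (1, l) := rfl
theorem J_apply (a : P3) : d.J a = d.F (a, 1) := rfl

theorem F_eq (a : P3) (l : P5) : d.F (a, l) = d.J a * d.L l := by
  rw [J_apply, L_apply, ← map_mul]; simp

theorem commute_J_L (a : P3) (l : P5) : Commute (d.J a) (d.L l) := by
  rw [Commute, SemiconjBy, J_apply, L_apply, ← map_mul, ← map_mul]; simp

theorem cs_z : d.cs d.z = d.z' := by rw [cs_apply]; exact d.s_z

theorem cs_z' : d.cs d.z' = d.z := by rw [← cs_z, cs_cs]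

theorem z'_eq : d.z' = d.F' (r3, 1) := by rw [← cs_z]; rfl
theorem z_eq : d.z = d.F' (1, c5) := by rw [← cs_z']; rfl

theorem z_mem : d.z ∈ (d.P : Subgroup G) :=
  (d.memP _).2 ⟨1, 0, by simp [z]⟩

theorem z'_mem : d.z' ∈ (d.P : Subgroup G) :=
  (d.memP _).2 ⟨0, 1, by simp [z']⟩

theorem tau_mem_cent {g : G} (hg : g ∈ (d.P : Subgroup G)) : Commute d.tau g := by
  obtain ⟨i, j, rfl⟩ := (d.memP g).1 hg
  have : Commute t5 (c5 ^ (j : ℕ)) := Commute.pow_right (by decide : t5 * c5 = c5 * t5) _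
  rw [Commute, SemiconjBy, tau, ← map_mul, ← map_mul]
  simp [this.eq]

theorem orderOf_tau : orderOf d.tau = 2 := by
  refine orderOf_eq_prime ?_ ?_
  · rw [tau, pow_two, ← map_mul, Prod.mk_mul_mk, show t5 * t5 = 1 from by decide, one_mul]
    exact map_one d.F
  · intro h
    have : ((1 : P3), t5) = 1 := d.inj (by rw [map_one]; exact h)
    exact absurd (congrArg Prod.snd this) (by decide)

/-- elements centralising `z` and `z'`. -/
theorem cent_D_form {g : G} (hz : Commute g d.z) (hz' : Commute g d.z') :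
    ∃ (i j : Fin 3) (e : Fin 2), d.F (r3 ^ (i : ℕ), c5 ^ (j : ℕ) * t5 ^ (e : ℕ)) = g := by
  obtain ⟨⟨a, l⟩, rfl⟩ := d.range_of g (Or.inl (by
    show g * d.z * g⁻¹ = d.z
    rw [hz.eq]; exact mul_inv_cancel_right _ _))
  have h1 : (a, l) * (r3, (1 : P5)) = (r3, 1) * (a, l) := d.inj (by
    rw [map_mul, map_mul]; exact hz)
  have h2 : (a, l) * ((1 : P3), c5) = (1, c5) * (a, l) := d.inj (by
    rw [map_mul, map_mul]; exact hz')
  simp only [Prod.mk_mul_mk, Prod.mk.injEq] at h1 h2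
  obtain ⟨j, e, rfl⟩ := p5_cent_c5 l h2.2
  rcases p3_three a h1.1 with rfl | rfl | rfl
  · exact ⟨0, j, e, rfl⟩
  · exact ⟨1, j, e, rfl⟩
  · exact ⟨2, j, e, rfl⟩

theorem cs_tau : d.cs d.tau = d.tau := by
  have hz : Commute (d.cs d.tau) d.z := by
    rw [← d.cs_z']; exact (d.tau_mem_cent d.z'_mem).map d.cs
  have hz' : Commute (d.cs d.tau) d.z' := by
    rw [← d.cs_z]; exact (d.tau_mem_cent d.z_mem).map d.cs
  obtain ⟨i, j, e, he⟩ := d.cent_D_form hz hz'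
  have hsq : d.cs d.tau * d.cs d.tau = 1 := by
    rw [← map_mul, ← pow_two, ← d.orderOf_tau, pow_orderOf_eq_one, map_one]
  have hne : d.cs d.tau ≠ 1 := fun h => by
    have := congrArg d.cs h
    rw [d.cs_cs, map_one] at this
    exact absurd (orderOf_eq_one_iff.2 this) (by rw [d.orderOf_tau]; norm_num)
  rw [← he, ← map_mul] at hsq
  rw [← he] at hne
  rw [← he, tau]
  have h1 := d.inj (hsq.trans (map_one d.F).symm)
  have h2 : (r3 ^ (i : ℕ), c5 ^ (j : ℕ) * t5 ^ (e : ℕ)) ≠ ((1 : P3), (1 : P5)) :=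
    fun h => hne (by rw [h]; exact map_one d.F)
  exact congrArg d.F (invol_cent_form i j e h1 h2)

theorem F'_t5 : d.F' (1, t5) = d.tau := d.cs_tau

theorem F'_J : d.F' (f3, 1) = d.L (if d.alt then f5 * t5 else f5) := by
  rw [F'_apply]; exact d.s_iota

theorem iota_eq : d.iota = d.F' (1, if d.alt then f5 * t5 else f5) := by
  have := congrArg d.cs d.F'_J
  rw [L_apply, show d.F' (f3, 1) = d.cs (d.F (f3, 1)) from rfl, d.cs_cs] at this
  exact this

theorem range'_of (g : G) (h : g * d.z' * g⁻¹ = d.z' ∨ g * d.z' * g⁻¹ = d.z'⁻¹) :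
    ∃ p, d.F' p = g := by
  obtain ⟨p, hp⟩ := d.range_of (d.cs g) (by
    change d.cs g * d.z * (d.cs g)⁻¹ = d.z ∨ d.cs g * d.z * (d.cs g)⁻¹ = d.z⁻¹
    rw [← d.cs_z', ← map_inv, ← map_mul, ← map_mul, ← map_inv]
    rcases h with h | h
    · exact Or.inl (congrArg d.cs h)
    · exact Or.inr (congrArg d.cs h))
  exact ⟨p, by change d.cs (d.F p) = g; rw [hp, d.cs_cs]⟩

end Data

end Cfsg.Agent.Sym8Three96
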