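import Cfsg.Agent.Lib.Sym8ThreeQuot96
import Cfsg.Agent.Lib.CoxeterTypeA

/-!
# Three-local characterisation of `S₈`: the symmetric group inside `G` (case `alt = false`)

Coxeter path `(01),(12),(23),(34),(45),(56),(67)` from the two subgroups `S₅` of `N(⟨z⟩)` and
`N(⟨z'⟩)`; the relation between the two middle ends comes from `C(ι)/⟨ι⟩ ≅ S₆`.
-/

set_option autoImplicit false
set_option maxRecDepth 20000

namespace Cfsg.Agent.Sym8Three96

open Equiv

/-- `S₃` acting on the first three of five points. -/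
def emb35 : P3 →* P5 :=
  (finSumFinEquiv (m := 3) (n := 2)).permCongrHom.toMonoidHom.comp
    ((Perm.sumCongrHom (Fin 3) (Fin 2)).comp (MonoidHom.inl _ _))

/-- The placement of the five points of the second factor. -/
def place : Perm (Fin 5) := ⟨![2, 3, 4, 0, 1], ![3, 4, 0, 1, 2], by decide, by decide⟩

/-- `S₃ × S₅` on eight points. -/
def E8 : P3 × P5 →* Perm (Fin 8) :=
  (finSumFinEquiv (m := 3) (n := 5)).permCongrHom.toMonoidHom.comp
    ((Perm.sumCongrHom (Fin 3) (Fin 5)).comp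
      (MonoidHom.prodMap (MonoidHom.id P3) (MulAut.conj place).toMonoidHom))

theorem emb35_r3 : emb35 r3 = c5 := by decide
theorem emb35_f3 : emb35 f3 = f5 := by decide
theorem emb35_s12 : emb35 (swap 1 2) = swap 1 2 := by decide
theorem emb35_inj : ∀ a : P3, emb35 a = 1 → a = 1 := by decide
theorem emb35_t5 : ∀ a : P3, t5 * emb35 a = emb35 a * t5 := by decide

theorem s12_conj_t5 : ∃ g : P5, g * swap 1 2 * g⁻¹ = t5 := by decide +kernel
theorem f5_conj_t5 : ∃ g : P5, g * f5 * g⁻¹ = t5 := by decide +kernel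

theorem sign_order_six : ∀ x : Perm (Fin 6), x ^ 6 = 1 → x ^ 2 ≠ 1 → x ^ 3 ≠ 1 →
    Perm.sign x = -1 := by decide +kernel

theorem six_facts : ((swap 0 1 * (swap 2 3 * swap 3 4)) : P5) ^ 6 = 1 ∧
    ((swap 0 1 * (swap 2 3 * swap 3 4)) : P5) ^ 2 ≠ 1 ∧
    ((swap 0 1 * (swap 2 3 * swap 3 4)) : P5) ^ 3 ≠ 1 ∧
    ((swap 2 3 * swap 3 4) : P5) ^ 3 = 1 := by decide +kernel

/-- An embedding of `S₅` in `S₆` sends transpositions to odd permutations. -/
theorem sign_map_swap (ψ : P5 →* Perm (Fin 6)) (hψ : Function.Injective ψ) {σ : P5}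
    (hσ : σ.IsSwap) : Perm.sign (ψ σ) = -1 := by
  obtain ⟨x, y, hxy, rfl⟩ := hσ
  obtain ⟨c, hc⟩ := isConj_iff.1 (Perm.isConj_swap (show (0 : Fin 5) ≠ 1 by decide) hxy)
  rw [← hc, map_mul, map_mul, map_inv, map_mul, map_mul, map_inv, mul_inv_cancel_comm]
  obtain ⟨h6, h2, h3, hc3⟩ := six_facts
  have hne : ∀ {u : P5}, u ≠ 1 → ψ u ≠ 1 := fun hu e => hu (hψ (e.trans (map_one ψ).symm))
  have h1 := sign_order_six (ψ (swap 0 1 * (swap 2 3 * swap 3 4)))
    (by rw [← map_pow, h6, map_one]) (by rw [← map_pow]; exact hne h2)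
    (by rw [← map_pow]; exact hne h3)
  rw [map_mul, map_mul] at h1
  have h4 : Perm.sign (ψ (swap 2 3 * swap 3 4)) = 1 := by
    have h5 : Perm.sign (ψ (swap 2 3 * swap 3 4)) ^ 3 = 1 := by
      rw [← map_pow, ← map_pow, hc3, map_one, map_one]
    rcases Int.units_eq_one_or (Perm.sign (ψ (swap 2 3 * swap 3 4))) with e | e
    · exact e
    · rw [e] at h5; exact absurd h5 (by decide)
  rwa [h4, mul_one] at h1

/-- The odd involutions of `S₆`. -/
def oddInv : List (Perm (Fin 6)) :=
  [swap 0 1, swap 0 2, swap 0 3, swap 0 4, swap 0 5, swap 1 2, swap 1 3, swap 1 4, swap 1 5,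
    swap 2 3, swap 2 4, swap 2 5, swap 3 4, swap 3 5, swap 4 5,
    swap 0 1 * swap 2 3 * swap 4 5, swap 0 1 * swap 2 4 * swap 3 5, swap 0 1 * swap 2 5 * swap 3 4,
    swap 0 2 * swap 1 3 * swap 4 5, swap 0 2 * swap 1 4 * swap 3 5, swap 0 2 * swap 1 5 * swap 3 4,
    swap 0 3 * swap 1 2 * swap 4 5, swap 0 3 * swap 1 4 * swap 2 5, swap 0 3 * swap 1 5 * swap 2 4,
    swap 0 4 * swap 1 2 * swap 3 5, swap 0 4 * swap 1 3 * swap 2 5, swap 0 4 * swap 1 5 * swap 2 3,
    swap 0 5 * swap 1 2 * swap 3 4, swap 0 5 * swap 1 3 * swap 2 4, swap 0 5 * swap 1 4 * swap 2 3]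

theorem mem_oddInv : ∀ x : Perm (Fin 6), x * x = 1 → Perm.sign x = -1 → x ∈ oddInv := by
  decide +kernel

/-- The images of a permutation of six points. -/
def code (σ : Perm (Fin 6)) : List ℕ := (List.finRange 6).map fun i => (σ i : ℕ)

/-- Composition of image lists. -/
def mulL (a b : List ℕ) : List ℕ := b.map fun k => a.getD k 0

/-- Equality of image lists. -/
def eqL : List ℕ → List ℕ → Bool
  | [], [] => true
  | a :: l, b :: m => Nat.beq a b && eqL l m
  | _, _ => false

/-- The identity list. -/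
def idL : List ℕ := [0, 1, 2, 3, 4, 5]

/-- Whether two lists commute. -/
def comL (a b : List ℕ) : Bool := eqL (mulL a b) (mulL b a)

/-- Whether the product has order dividing 3 and the lists differ. -/
def braidL (a b : List ℕ) : Bool :=
  !(eqL a b) && eqL (mulL (mulL a b) (mulL (mulL a b) (mulL a b))) idL

/-- Whether the product squares to one. -/
def sqL (a b : List ℕ) : Bool := eqL (mulL (mulL a b) (mulL a b)) idL

/-- The image lists of the odd involutions. -/
def oddL : List (List ℕ) :=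
  [[1, 0, 2, 3, 4, 5], [2, 1, 0, 3, 4, 5], [3, 1, 2, 0, 4, 5], [4, 1, 2, 3, 0, 5],
    [5, 1, 2, 3, 4, 0], [0, 2, 1, 3, 4, 5], [0, 3, 2, 1, 4, 5], [0, 4, 2, 3, 1, 5],
    [0, 5, 2, 3, 4, 1], [0, 1, 3, 2, 4, 5], [0, 1, 4, 3, 2, 5], [0, 1, 5, 3, 4, 2],
    [0, 1, 2, 4, 3, 5], [0, 1, 2, 5, 4, 3], [0, 1, 2, 3, 5, 4], [1, 0, 3, 2, 5, 4],
    [1, 0, 4, 5, 2, 3], [1, 0, 5, 4, 3, 2], [2, 3, 0, 1, 5, 4], [2, 4, 0, 5, 1, 3],
    [2, 5, 0, 4, 3, 1], [3, 2, 1, 0, 5, 4], [3, 4, 5, 0, 1, 2], [3, 5, 4, 0, 2, 1],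
    [4, 2, 1, 5, 0, 3], [4, 3, 5, 1, 0, 2], [4, 5, 3, 2, 0, 1], [5, 2, 1, 4, 3, 0],
    [5, 3, 4, 1, 2, 0], [5, 4, 3, 2, 1, 0]]

theorem oddL_eq : oddInv.map code = oddL := by decide +kernel

theorem six_bool : (oddL.all fun X => oddL.all fun Y => !(braidL X Y) ||
    oddL.all fun T => !(comL T X && comL T Y) ||
      oddL.all fun A => !(comL A X && comL A Y && braidL A T) ||
        oddL.all fun B => !(comL B Y && braidL B X && braidL B T) ||
          (sqL A B || sqL (mulL (mulL T A) T) B)) = true := by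
  decide +kernel

theorem code_mul (σ τ : Perm (Fin 6)) : code (σ * τ) = mulL (code σ) (code τ) := by
  simp only [code, mulL, List.map_map]
  refine List.map_congr_left fun i _ => ?_
  simp only [Function.comp_apply, Perm.mul_apply]
  rw [List.getD_eq_getElem _ _ (by simp)]
  simp

theorem code_one : code 1 = idL := by decide +kernel

theorem code_inj {σ τ : Perm (Fin 6)} (h : code σ = code τ) : σ = τ :=
  Equiv.ext fun i => Fin.ext (List.map_inj_left.1 h i (List.mem_finRange i))

theorem eqL_iff : ∀ {a b : List ℕ}, eqL a b = true ↔ a = b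
  | [], [] => by simp [eqL]
  | [], _ :: _ => by simp [eqL]
  | _ :: _, [] => by simp [eqL]
  | a :: l, b :: m => by
    simp only [eqL, Bool.and_eq_true, eqL_iff (a := l) (b := m), List.cons.injEq]
    exact and_congr_left' ⟨Nat.eq_of_beq_eq_true, fun h => by rw [h]; exact Nat.beq_refl b⟩

theorem code_eq_iff {σ τ : Perm (Fin 6)} : eqL (code σ) (code τ) = true ↔ σ = τ :=
  eqL_iff.trans ⟨code_inj, fun h => by rw [h]⟩

theorem six_table {X Y T A B : Perm (Fin 6)} (hX : X ∈ oddInv) (hY : Y ∈ oddInv) (hXY : X ≠ Y)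
    (hXY3 : (X * Y) ^ 3 = 1) (hT : T ∈ oddInv) (hTX : T * X = X * T) (hTY : T * Y = Y * T)
    (hA : A ∈ oddInv) (hAX : A * X = X * A) (hAY : A * Y = Y * A) (hAT : A ≠ T)
    (hAT3 : (A * T) ^ 3 = 1) (hB : B ∈ oddInv) (hBY : B * Y = Y * B) (hBX : B ≠ X)
    (hBX3 : (B * X) ^ 3 = 1) (hBT : B ≠ T) (hBT3 : (B * T) ^ 3 = 1) :
    (A * B) ^ 2 = 1 ∨ (T * A * T * B) ^ 2 = 1 := by
  have hm : ∀ {σ}, σ ∈ oddInv → code σ ∈ oddL := fun h => oddL_eq ▸ List.mem_map_of_mem h
  have hcom : ∀ {σ τ : Perm (Fin 6)}, σ * τ = τ * σ → comL (code σ) (code τ) = true := by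
    intro σ τ h
    rw [comL, ← code_mul, ← code_mul, code_eq_iff]; exact h
  have hbr : ∀ {σ τ : Perm (Fin 6)}, σ ≠ τ → (σ * τ) ^ 3 = 1 →
      braidL (code σ) (code τ) = true := by
    intro σ τ h1 h2
    rw [pow_three] at h2
    rw [braidL, ← code_mul, ← code_mul, ← code_mul, ← code_one, Bool.and_eq_true,
      Bool.not_eq_true', ← Bool.not_eq_true, code_eq_iff, code_eq_iff]
    exact ⟨h1, h2⟩
  have h1 := List.all_eq_true.1 (List.all_eq_true.1 six_bool _ (hm hX)) _ (hm hY)
  simp only [hbr hXY hXY3, Bool.not_true, Bool.false_or] at h1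
  have h2 := List.all_eq_true.1 h1 _ (hm hT)
  simp only [hcom hTX, hcom hTY, Bool.and_self, Bool.not_true, Bool.false_or] at h2
  have h3 := List.all_eq_true.1 h2 _ (hm hA)
  simp only [hcom hAX, hcom hAY, hbr hAT hAT3, Bool.and_self, Bool.not_true, Bool.false_or] at h3
  have h4 := List.all_eq_true.1 h3 _ (hm hB)
  simp only [hcom hBY, hbr hBX hBX3, hbr hBT hBT3, Bool.and_self, Bool.not_true, Bool.false_or,
    Bool.or_eq_true] at h4
  simp only [sqL, ← code_mul, ← code_one, code_eq_iff] at h4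
  rw [pow_two, pow_two]
  exact h4

/-- Homomorphisms on a symmetric group agreeing on the adjacent transpositions are equal. -/
theorem hom_ext_adj {M : Type*} [Monoid M] {n : ℕ} {f g : Perm (Fin (n + 1)) →* M}
    (h : ∀ i : Fin n, f (swap i.castSucc i.succ) = g (swap i.castSucc i.succ)) : f = g := by
  refine MonoidHom.ext fun σ => ?_
  have hσ : σ ∈ Submonoid.closure (Set.range fun i : Fin n => swap i.castSucc i.succ) := by
    rw [Perm.mclosure_swap_castSucc_succ]; trivial
  induction hσ using Submonoid.closure_induction with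
  | mem x hx => obtain ⟨i, rfl⟩ := hx; exact h i
  | one => rw [map_one, map_one]
  | mul x y _ _ hx hy => rw [map_mul, map_mul, hx, hy]

variable {G : Type*} [Group G]

namespace Data

variable (d : Data G)

theorem L_injA : Function.Injective d.L := fun a b h => congrArg Prod.snd (d.inj h)

theorem L_t5 : d.L t5 = d.tau := rfl

variable (halt : d.alt = false)
include halt

theorem cs_L_emb (a : P3) : d.cs (d.L (emb35 a)) = d.J a := by
  have key : ((d.cs.comp d.L).comp emb35 : P3 →* G) = d.J := by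
    refine hom_ext_adj fun i => ?_
    have h1 : d.cs (d.L c5) = d.J r3 := d.cs_z'
    have hf : d.cs (d.L f5) = d.J f3 := by
      have := d.iota_eq
      rw [halt] at this
      exact this.symm
    fin_cases i
    · show d.cs (d.L (emb35 f3)) = d.J f3
      rw [emb35_f3]; exact hf
    · show d.cs (d.L (emb35 (swap 1 2))) = d.J (swap 1 2)
      rw [show (swap 1 2 : P3) = f3 * r3 from by decide, map_mul, map_mul, map_mul, map_mul,
        emb35_f3, emb35_r3, hf, h1]
  exact DFunLike.congr_fun key a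

theorem cs_J (a : P3) : d.cs (d.J a) = d.L (emb35 a) := by
  rw [← d.cs_L_emb halt a, d.cs_cs]

omit halt in
/-- The factor `S₅` of `N(⟨z'⟩)`, with either labelling of the last two points. -/
def Lam (β : Bool) : P5 →* G :=
  (d.cs.comp d.L).comp (MulAut.conj (if β then t5 else 1)).toMonoidHom

omit halt in
theorem Lam_apply (β : Bool) (l : P5) :
    d.Lam β l = d.cs (d.L ((if β then t5 else 1) * l * (if β then t5 else 1)⁻¹)) := rfl

omit halt in
theorem Lam_inj (β : Bool) : Function.Injective (d.Lam β) := fun a b h => by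
  rw [Lam_apply, Lam_apply] at h
  have h' := congrArg d.cs h
  rw [d.cs_cs, d.cs_cs] at h'
  exact mul_left_cancel (mul_right_cancel (d.L_injA h'))

omit halt in
theorem Lam_t5 (β : Bool) : d.Lam β t5 = d.tau := by
  have : ∀ β : Bool, (if β then t5 else 1) * t5 * (if β then t5 else 1)⁻¹ = t5 := by decide
  rw [Lam_apply, this, L_t5, cs_tau]

theorem Lam_emb (β : Bool) (a : P3) : d.Lam β (emb35 a) = d.J a := by
  have : ∀ (β : Bool) (a : P3),
      (if β then t5 else 1) * emb35 a * (if β then t5 else 1)⁻¹ = emb35 a := by decide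
  rw [Lam_apply, this, d.cs_L_emb halt]

theorem commute_Lam_L_emb (β : Bool) (a : P3) (l : P5) :
    Commute (d.L (emb35 a)) (d.Lam β l) := by
  rw [← d.cs_J halt, Lam_apply]
  exact (d.commute_J_L a _).map d.cs

variable [Finite G]

omit halt in
include d in
theorem not_twentyseven_dvd : ¬ 27 ∣ Nat.card G := by
  intro h4
  have h6 := d.card_P
  rw [Sylow.card_eq_multiplicity] at h6
  have h7 : (Nat.card G).factorization 3 = 2 :=
    Nat.pow_right_injective (le_refl 2 |>.trans (by norm_num : 2 ≤ 3)) (h6.trans (by norm_num))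
  have h8 := (Nat.Prime.pow_dvd_iff_le_factorization Nat.prime_three Nat.card_pos.ne').1
    (show 3 ^ 3 ∣ Nat.card G by norm_num; exact h4)
  omega

/-- `iota` is conjugate to `tau`. -/
theorem iota_conj : ∃ g : G, g * d.iota * g⁻¹ = d.tau := by
  obtain ⟨g, hg⟩ := f5_conj_t5
  refine ⟨d.Lam false g, ?_⟩
  rw [show d.iota = d.J f3 from rfl, ← d.Lam_emb halt false, emb35_f3, ← map_inv, ← map_mul,
    ← map_mul, hg, d.Lam_t5]

/-- `C(tau)/⟨tau⟩` is `S₆`. -/
theorem Qt_six : Nonempty (d.Qt ≃* Perm (Fin 6)) := by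
  classical
  refine d.Qt_cases.resolve_left fun hn => ?_
  have := hn
  obtain ⟨g, hg⟩ := d.iota_conj halt
  have hmem : ∀ l : P5, g * d.L l * g⁻¹ ∈ d.Ct := fun l => by
    rw [Subgroup.mem_centralizer_singleton_iff, ← hg]
    have := (d.commute_J_L f3 l).map (MulAut.conj g).toMonoidHom
    exact this.eq.symm
  let ψ : P5 →* d.Qt ⧸ d.St := (QuotientGroup.mk' d.St).comp ((QuotientGroup.mk' _).comp
    (((MulAut.conj g).toMonoidHom.comp d.L).codRestrict d.Ct hmem))
  have hker : ∀ l ∈ ψ.ker, l ^ 3 = 1 := by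
    intro l hl
    rw [MonoidHom.mem_ker] at hl
    have h1 : (QuotientGroup.mk (⟨g * d.L l * g⁻¹, hmem l⟩ : d.Ct) : d.Qt) ∈ d.St :=
      (QuotientGroup.eq_one_iff _).1 hl
    have h3 : ∀ w : G, w ∈ (d.P : Subgroup G) → w * d.tau ∈ (d.P : Subgroup G) → False := by
      intro w h1 h2
      have ht := d.cube_P (mul_mem (inv_mem h1) h2)
      rw [inv_mul_cancel_left, pow_succ, pow_two, d.tau_sq, one_mul] at ht
      have := d.orderOf_tau
      rw [ht, orderOf_one] at this
      omega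
    rcases d.St_mem.1 h1 with h | h
    · have h' := d.cube_P h
      rw [conj_pow, conj_eq_one_iff, ← map_pow] at h'
      exact d.L_injA (h'.trans (map_one _).symm)
    · exfalso
      have h' := d.cube_P h
      have hc : Commute (g * d.L l * g⁻¹) d.tau :=
        Subgroup.mem_centralizer_singleton_iff.1 (hmem l)
      rw [hc.mul_pow, pow_succ d.tau, pow_two, d.tau_sq, one_mul, conj_pow, ← map_pow] at h'
      have e1 : g * d.L (l ^ 3) * g⁻¹ = d.tau := by
        rw [← inv_eq_of_mul_eq_one_left h']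
        exact inv_eq_of_mul_eq_one_right d.tau_sq
      rw [← hg] at e1
      have := mul_left_cancel (mul_right_cancel e1)
      exact absurd (congrArg Prod.fst (d.inj this)) (show ¬ (1 : P3) = f3 by decide)
  have hidx : ¬ 3 ∣ Nat.card (d.Qt ⧸ d.St) := fun h3 => by
    refine d.not_twentyseven_dvd ?_
    have h2 : 27 ∣ Nat.card d.Qt := by
      rw [Subgroup.card_eq_card_quotient_mul_card_subgroup d.St, d.card_St]
      exact mul_dvd_mul_right h3 9
    exact h2.trans ((Subgroup.card_quotient_dvd_card _).trans (Subgroup.card_subgroup_dvd_card _))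
  by_cases hbot : ψ.ker = ⊥
  · refine hidx ((show 3 ∣ Nat.card P5 by rw [Nat.card_perm, Nat.card_fin]; decide).trans ?_)
    exact Subgroup.card_dvd_of_injective ψ ((MonoidHom.ker_eq_bot_iff ψ).1 hbot)
  · obtain ⟨⟨b, hb⟩, hb1⟩ := Subgroup.ne_bot_iff_exists_ne_one.1 hbot
    have hb1' : b ≠ 1 := fun e => hb1 (Subtype.ext e)
    obtain ⟨h, hh1, hh2⟩ := p5_no_normal_three b (hker b hb) hb1'
    have hc : h * b * h⁻¹ ∈ ψ.ker := (MonoidHom.normal_ker ψ).conj_mem b hb h
    have : Fact (Nat.Prime 3) := ⟨Nat.prime_three⟩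
    have hp : IsPGroup 3 ψ.ker := fun x => ⟨1, Subtype.ext (hker x x.2)⟩
    obtain ⟨k, hk⟩ := IsPGroup.iff_card.1 hp
    have hdvd := ψ.ker.card_subgroup_dvd_card
    rw [hk, Nat.card_perm, Nat.card_fin] at hdvd
    have hk1 : k ≤ 1 := by
      by_contra hk1
      exact absurd ((pow_dvd_pow 3 (show 2 ≤ k by omega)).trans hdvd) (by decide)
    have hle : Subgroup.zpowers b ≤ ψ.ker := Subgroup.zpowers_le.2 hb
    have heq : Subgroup.zpowers b = ψ.ker := Subgroup.eq_of_le_of_card_ge hle (by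
      rw [hk, Nat.card_zpowers, orderOf_eq_prime (hker b hb) hb1']
      exact (Nat.pow_le_pow_right (by norm_num) hk1).trans (by norm_num))
    rw [← heq, Subgroup.mem_zpowers_iff] at hc
    obtain ⟨m, hm⟩ := hc
    have hb3 : b ^ (3 : ℤ) = 1 := by rw [show (3 : ℤ) = ((3 : ℕ) : ℤ) from rfl, zpow_natCast, hker b hb]
    have e : b ^ m = b ^ (m % 3) := by
      conv_lhs => rw [show m = m % 3 + 3 * (m / 3) by omega, zpow_add, zpow_mul, hb3, one_zpow, mul_one]
    rcases (show m % 3 = 0 ∨ m % 3 = 1 ∨ m % 3 = 2 by omega) with h' | h' | h' <;> rw [e, h'] at hm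
    · exact hb1' (conj_eq_one_iff.1 (hm.symm.trans (zpow_zero b)))
    · exact hh1 (hm.symm.trans (zpow_one b))
    · refine hh2 (hm.symm.trans (eq_inv_of_mul_eq_one_left ?_))
      rw [← zpow_add_one]; exact hb3

omit halt in
theorem card_zpowers_tau :
    Nat.card ((Subgroup.zpowers d.tau).subgroupOf d.Ct) = 2 := by
  rw [Nat.card_congr (Subgroup.subgroupOfEquivOfLe (Subgroup.zpowers_le.2 d.tau_mem_Ct)).toEquiv,
    Nat.card_zpowers, d.orderOf_tau]

/-- `C(tau)` has order 1440. -/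
theorem card_Ct : Nat.card d.Ct = 1440 := by
  obtain ⟨e⟩ := d.Qt_six halt
  rw [Subgroup.card_eq_card_quotient_mul_card_subgroup ((Subgroup.zpowers d.tau).subgroupOf d.Ct),
    d.card_zpowers_tau, Nat.card_congr e.toEquiv, Nat.card_perm, Nat.card_fin]
  rfl

/-- The centraliser of a conjugate of `tau` maps onto `S₆` with kernel generated by it. -/
theorem exists_pi {x g : G} (hg : g * x * g⁻¹ = d.tau) :
    ∃ π : ↥(Subgroup.centralizer ({x} : Set G)) →* Perm (Fin 6),
      ∀ h, π h = 1 ↔ (h : G) = 1 ∨ (h : G) = x := by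
  obtain ⟨e⟩ := d.Qt_six halt
  have hmem : ∀ h : ↥(Subgroup.centralizer ({x} : Set G)), g * (h : G) * g⁻¹ ∈ d.Ct := fun h => by
    rw [Subgroup.mem_centralizer_singleton_iff, ← hg]
    have : Commute (h : G) x := Subgroup.mem_centralizer_singleton_iff.1 h.2
    exact ((Commute.conj_iff g).2 this).eq
  refine ⟨e.toMonoidHom.comp ((QuotientGroup.mk' _).comp
    (((MulAut.conj g).toMonoidHom.comp (Subgroup.centralizer ({x} : Set G)).subtype).codRestrict
      d.Ct hmem)), fun h => ?_⟩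
  simp only [MonoidHom.comp_apply, MulEquiv.coe_toMonoidHom, MulEquiv.map_eq_one_iff,
    QuotientGroup.mk'_apply, QuotientGroup.eq_one_iff, Subgroup.mem_subgroupOf]
  show g * (h : G) * g⁻¹ ∈ Subgroup.zpowers d.tau ↔ _
  constructor
  · intro h1
    rcases d.mem_zpowers_tau h1 with h1 | h1
    · exact Or.inl (conj_eq_one_iff.1 h1)
    · exact Or.inr (mul_left_cancel (mul_right_cancel (h1.trans hg.symm)))
  · rintro (h1 | h1) <;> rw [h1]
    · simp
    · rw [hg]; exact Subgroup.mem_zpowers _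

omit halt [Finite G] in
theorem map_invol {M : Type*} [Group M] (f : P5 →* M) {l : P5} (h : l * l = 1) : f l * f l = 1 := by
  rw [← map_mul, h, map_one]

/-- One of the two labellings makes the middle ends of the path commute. -/
theorem exists_label : ∃ β : Bool, Commute (d.Lam β (swap 2 3)) (d.L (swap 4 0)) := by
  classical
  obtain ⟨g, hg⟩ := d.iota_conj halt
  set C := Subgroup.centralizer ({d.iota} : Set G)
  obtain ⟨π, hπ⟩ : ∃ π : C →* Perm (Fin 6), ∀ h, π h = 1 ↔ (h : G) = 1 ∨ (h : G) = d.iota :=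
    d.exists_pi halt hg
  have hL : ∀ l, d.L l ∈ C := fun l =>
    Subgroup.mem_centralizer_singleton_iff.2 (d.commute_J_L f3 l).symm.eq
  have hiota : ∀ β, d.iota = d.Lam β f5 := fun β => by
    rw [← emb35_f3, d.Lam_emb halt]; rfl
  have ha : ∀ β, d.Lam β (swap 2 3) ∈ C := fun β => by
    rw [Subgroup.mem_centralizer_singleton_iff, hiota β, ← map_mul, ← map_mul]
    exact congrArg _ (by decide)
  set ψ : P5 →* Perm (Fin 6) := π.comp (d.L.codRestrict C hL) with hψdef
  have hψ : Function.Injective ψ := by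
    rw [injective_iff_map_eq_one]
    intro l hl
    rcases (hπ _).1 hl with e | e
    · exact d.L_injA (e.trans (map_one _).symm)
    · exact absurd (congrArg Prod.fst (d.inj e)) (show ¬ (1 : P3) = f3 by decide)
  have hodd : ∀ l : P5, l.IsSwap → ψ l ∈ oddInv := fun l hl => by
    refine mem_oddInv _ ?_ (sign_map_swap ψ hψ hl)
    obtain ⟨x, y, -, rfl⟩ := hl
    exact map_invol ψ (swap_mul_self x y)
  let a' : Bool → C := fun β => ⟨_, ha β⟩
  set A := π (a' false) with hA
  set T := ψ t5 with hT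
  have hT' : T = π ⟨d.L t5, hL t5⟩ := rfl
  have hAT : (a' false : G) * d.L t5 = d.Lam false (swap 2 3 * t5) := by
    rw [map_mul, d.Lam_t5, L_t5]
  have hAT3 : (A * T) ^ 3 = 1 := by
    rw [hA, hT', ← map_mul, ← map_pow]
    refine (hπ _).2 (Or.inl ?_)
    rw [Subgroup.coe_pow, Subgroup.coe_mul, hAT, ← map_pow,
      show ((swap 2 3 * t5 : P5)) ^ 3 = 1 from by decide, map_one]
  have hA2 : A * A = 1 := by
    rw [hA, ← map_mul]
    exact (hπ _).2 (Or.inl (map_invol (d.Lam false) (swap_mul_self 2 3)))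
  have hTodd := hodd t5 ⟨3, 4, by decide, rfl⟩
  have hTs := sign_map_swap ψ hψ (σ := t5) ⟨3, 4, by decide, rfl⟩
  have hAodd : A ∈ oddInv := by
    refine mem_oddInv _ hA2 ?_
    have h1 := congrArg Perm.sign hAT3
    rw [map_pow, map_mul, hTs, map_one] at h1
    rcases Int.units_eq_one_or (Perm.sign A) with e | e
    · rw [e] at h1; exact absurd h1 (by decide)
    · exact e
  have hAne : A ≠ T := by
    intro h
    have h1 : π (a' false * ⟨d.L t5, hL t5⟩) = 1 := by rw [map_mul, ← hA, ← hT', ← h, hA2]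
    have h2 := (hπ _).1 h1
    rw [Subgroup.coe_mul, hAT, hiota false, ← map_one (d.Lam false), (d.Lam_inj false).eq_iff,
      (d.Lam_inj false).eq_iff] at h2
    exact absurd h2 (by decide)
  have hAc : ∀ a : P3, A * ψ (emb35 a) = ψ (emb35 a) * A := fun a => by
    rw [hA, hψdef, MonoidHom.comp_apply, ← map_mul, ← map_mul]
    exact congrArg π (Subtype.ext (d.commute_Lam_L_emb halt false a (swap 2 3)).symm.eq)
  have hne : ∀ {a b : P5}, a ≠ b → ψ a ≠ ψ b := fun h e => h (hψ e)
  have hc : ∀ {a b : P5}, a * b = b * a → ψ a * ψ b = ψ b * ψ a := fun h => by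
    rw [← map_mul, ← map_mul, h]
  have h3 : ∀ {a b : P5}, (a * b) ^ 3 = 1 → (ψ a * ψ b) ^ 3 = 1 := fun h => by
    rw [← map_mul, ← map_pow, h, map_one]
  have hX : (ψ (emb35 f3)) ∈ oddInv := hodd _ ⟨0, 1, by decide, by decide⟩
  have hY : (ψ (emb35 (swap 1 2))) ∈ oddInv := hodd _ ⟨1, 2, by decide, by decide⟩
  have key := six_table hX hY (hne (by decide)) (h3 (by decide)) hTodd (hc (by decide))
    (hc (by decide)) hAodd (hAc f3) (hAc (swap 1 2)) hAne hAT3
    (hodd (swap 4 0) ⟨4, 0, by decide, rfl⟩) (hc (by decide)) (hne (by decide))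
    (h3 (by decide)) (hne (by decide)) (h3 (by decide))
  have hflip : d.Lam true (swap 2 3) = d.L t5 * d.Lam false (swap 2 3) * d.L t5 := by
    rw [L_t5, ← d.Lam_t5 false, ← map_mul, ← map_mul, Lam_apply, Lam_apply]
    exact congrArg (fun w => d.cs (d.L w)) (by decide)
  obtain ⟨β, hβ⟩ : ∃ β, π ((a' β * ⟨d.L (swap 4 0), hL _⟩) ^ 2) = 1 := by
    rcases key with h | h
    · refine ⟨false, ?_⟩
      rw [map_pow, map_mul]; exact h
    · refine ⟨true, ?_⟩
      rw [map_pow, map_mul]
      have : π (a' true) = T * A * T := by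
        rw [hT', hA, ← map_mul, ← map_mul]
        exact congrArg π (Subtype.ext hflip)
      rw [this]; exact h
  refine ⟨β, ?_⟩
  have h2 := (hπ _).1 hβ
  rw [Subgroup.coe_pow, Subgroup.coe_mul] at h2
  change (d.Lam β (swap 2 3) * d.L (swap 4 0)) ^ 2 = 1 ∨
    (d.Lam β (swap 2 3) * d.L (swap 4 0)) ^ 2 = d.iota at h2
  rcases h2 with h2 | h2
  · have i1 := map_invol (d.Lam β) (swap_mul_self (2 : Fin 5) 3)
    have i2 := map_invol d.L (swap_mul_self (4 : Fin 5) 0)
    rw [pow_two] at h2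
    have e := eq_inv_of_mul_eq_one_left h2
    rw [mul_inv_rev, inv_eq_of_mul_eq_one_right i1, inv_eq_of_mul_eq_one_right i2] at e
    exact e
  · exfalso
    -- `iota` would be a square in `C(g₇)`, where it is odd
    obtain ⟨k, hk⟩ := s12_conj_t5
    have hg7 : d.L k * d.L (emb35 (swap 1 2)) * (d.L k)⁻¹ = d.tau := by
      rw [← map_inv, ← map_mul, ← map_mul, emb35_s12, hk]; rfl
    set C7 := Subgroup.centralizer ({d.L (emb35 (swap 1 2))} : Set G)
    obtain ⟨π7, hπ7⟩ : ∃ π7 : C7 →* Perm (Fin 6), ∀ h, π7 h = 1 ↔ (h : G) = 1 ∨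
        (h : G) = d.L (emb35 (swap 1 2)) := d.exists_pi halt hg7
    have hLam : ∀ l, d.Lam β l ∈ C7 := fun l => Subgroup.mem_centralizer_singleton_iff.2
      (d.commute_Lam_L_emb halt β (swap 1 2) l).symm.eq
    have hb7 : d.L (swap 4 0) ∈ C7 := Subgroup.mem_centralizer_singleton_iff.2 (by
      rw [← map_mul, ← map_mul]; exact congrArg _ (by decide))
    set ψ7 : P5 →* Perm (Fin 6) := π7.comp ((d.Lam β).codRestrict C7 hLam) with hψ7def
    have hψ7 : Function.Injective ψ7 := by
      rw [injective_iff_map_eq_one]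
      intro l hl
      rcases (hπ7 _).1 hl with e | e
      · exact d.Lam_inj β (e.trans (map_one _).symm)
      · exfalso
        have e' : d.cs (d.Lam β l) = d.cs (d.L (emb35 (swap 1 2))) := congrArg d.cs e
        rw [Lam_apply, d.cs_cs, d.cs_L_emb halt] at e'
        exact absurd (congrArg Prod.fst (d.inj e')) (show ¬ (1 : P3) = swap 1 2 by decide)
    have hs := sign_map_swap ψ7 hψ7 (σ := f5) ⟨0, 1, by decide, rfl⟩
    have hsq : ψ7 f5 = π7 ((⟨_, hLam (swap 2 3)⟩ * ⟨_, hb7⟩) ^ 2) := by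
      refine congrArg π7 (Subtype.ext ?_)
      show d.Lam β f5 = _
      rw [← hiota β, Subgroup.coe_pow, Subgroup.coe_mul]
      exact h2.symm
    rw [hsq, map_pow, map_pow, Int.units_sq] at hs
    exact absurd hs (by decide)

/-- The generators along the path. -/
def pathGen (β : Bool) : Fin 7 → G :=
  ![d.Lam β (swap 0 1), d.Lam β (swap 1 2), d.Lam β (swap 2 3), d.L (swap 3 4), d.L (swap 4 0),
    d.L (swap 0 1), d.L (swap 1 2)]

omit halt [Finite G] in
theorem E8_table : (∀ i : Fin 2, E8 (swap i.castSucc i.succ, 1) =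
      swap ((![0, 1] : Fin 2 → Fin 8) i) (![1, 2] i)) ∧
    ∀ i : Fin 4, E8 (1, swap ((![3, 4, 0, 1] : Fin 4 → Fin 5) i) (![4, 0, 1, 2] i)) =
      swap ((![3, 4, 5, 6] : Fin 4 → Fin 8) i) (![4, 5, 6, 7] i) := by decide +kernel

omit halt [Finite G] in
theorem p5_word : (swap 2 3 : P5) =
    swap 1 2 * (swap 0 1 * (swap 4 0 * swap 3 4 * swap 4 0) * swap 0 1) * swap 1 2 := by
  decide +kernel

/-- The symmetric group of degree eight inside `G`. -/
theorem exists_sym8 : ∃ Φ : Perm (Fin 8) →* G, Function.Injective Φ ∧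
    ∀ p : P3 × P5, Φ (E8 p) = d.F p := by
  classical
  obtain ⟨β, hβ⟩ := d.exists_label halt
  set p := d.pathGen β with hp
  have hsq : ∀ i, p i * p i = 1 := by
    intro i
    fin_cases i <;> first
      | exact map_invol (d.Lam β) (swap_mul_self _ _)
      | exact map_invol d.L (swap_mul_self _ _)
  have hLL : ∀ (f : P5 →* G) {a b : P5}, a * b = b * a → f a * f b = f b * f a := fun f a b h => by
    rw [← map_mul, ← map_mul, h]
  have hJ : ∀ (a : P3) (l : P5), d.Lam β (emb35 a) * d.L l = d.L l * d.Lam β (emb35 a) := fun a l => by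
    rw [d.Lam_emb halt]; exact (d.commute_J_L a l).eq
  have hT : d.L (swap 3 4) = d.Lam β t5 := by rw [d.Lam_t5]; rfl
  have e01 : (swap 0 1 : P5) = emb35 f3 := by decide
  have e12 : (swap 1 2 : P5) = emb35 (swap 1 2) := by decide
  have h01 : ∀ l, d.Lam β (swap 0 1) * d.L l = d.L l * d.Lam β (swap 0 1) := fun l => by
    rw [e01]; exact hJ f3 l
  have h12 : ∀ l, d.Lam β (swap 1 2) * d.L l = d.L l * d.Lam β (swap 1 2) := fun l => by
    rw [e12]; exact hJ (swap 1 2) l
  have h25 : d.Lam β (swap 2 3) * d.L (swap 0 1) = d.L (swap 0 1) * d.Lam β (swap 2 3) := by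
    rw [e01]; exact (d.commute_Lam_L_emb halt β f3 (swap 2 3)).symm.eq
  have h26 : d.Lam β (swap 2 3) * d.L (swap 1 2) = d.L (swap 1 2) * d.Lam β (swap 2 3) := by
    rw [e12]; exact (d.commute_Lam_L_emb halt β (swap 1 2) (swap 2 3)).symm.eq
  have hfar : ∀ i j : Fin 7, (i : ℕ) + 2 ≤ j → p i * p j = p j * p i := by
    intro i j hij
    fin_cases i <;> fin_cases j <;> first
      | (exfalso; revert hij; decide)
      | (show d.Lam β (swap 0 1) * d.Lam β _ = d.Lam β _ * _; exact hLL _ (by decide))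
      | exact h01 _
      | exact h12 _
      | exact hβ.eq
      | exact h25
      | exact h26
      | (show d.L _ * d.L _ = d.L _ * d.L _; exact hLL _ (by decide))
  have hbr : ∀ i j : Fin 7, (i : ℕ) + 1 = j → (p i * p j) ^ 3 = 1 := by
    intro i j hij
    have h3 : ∀ (f : P5 →* G) {a b : P5}, (a * b) ^ 3 = 1 → (f a * f b) ^ 3 = 1 :=
      fun f a b h => by rw [← map_mul, ← map_pow, h, map_one]
    fin_cases i <;> fin_cases j <;> first
      | (exfalso; revert hij; decide)
      | (show (d.Lam β (swap 2 3) * d.L (swap 3 4)) ^ 3 = 1; rw [hT]; exact h3 _ (by decide))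
      | (show (d.Lam β _ * d.Lam β _) ^ 3 = 1; exact h3 _ (by decide))
      | (show (d.L _ * d.L _) ^ 3 = 1; exact h3 _ (by decide))
  have hl : CoxeterMatrix.IsLiftable (CoxeterMatrix.A 7) p := by
    intro i j
    simp only [CoxeterMatrix.A, Matrix.of_apply]
    show (p i * p j) ^ (if i = j then 1 else if (j : ℕ) + 1 = i ∨ (i : ℕ) + 1 = j then 3 else 2) = 1
    by_cases h : i = j
    · subst h; rw [if_pos rfl, pow_one, hsq]
    rw [if_neg h]
    by_cases ha : (j : ℕ) + 1 = i ∨ (i : ℕ) + 1 = j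
    · rw [if_pos ha]
      rcases ha with ha | ha
      · have h1 := hbr j i ha
        rw [show p i * p j = (p j * p i)⁻¹ by
          rw [mul_inv_rev, inv_eq_of_mul_eq_one_right (hsq i), inv_eq_of_mul_eq_one_right (hsq j)],
          inv_pow, h1, inv_one]
      · exact hbr i j ha
    · rw [if_neg ha]
      have hne : (i : ℕ) ≠ j := fun e => h (Fin.ext e)
      have c : Commute (p i) (p j) := by
        rcases Nat.lt_or_ge i j with hlt | hge
        · exact hfar i j (by omega)
        · exact (hfar j i (by omega)).symm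
      rw [c.mul_pow, pow_two, pow_two, hsq, hsq, one_mul]
  obtain ⟨cs, hcs⟩ := CoxeterTypeA.exists_coxeterSystem 7
  set Φ : Perm (Fin 8) →* G := cs.lift ⟨p, hl⟩ with hΦdef
  have hΦ : ∀ i : Fin 7, Φ (swap i.castSucc i.succ) = p i := fun i => by
    rw [← hcs i]; exact cs.lift_apply_simple hl i
  have hF : Φ.comp E8 = d.F := by
    have h1 : (Φ.comp E8).comp (MonoidHom.inl P3 P5) = d.J := by
      refine hom_ext_adj fun i => ?_
      show Φ (E8 (swap i.castSucc i.succ, 1)) = _
      rw [E8_table.1 i]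
      fin_cases i
      · show Φ (swap ((0 : Fin 7).castSucc) (0 : Fin 7).succ) = d.J f3
        rw [hΦ, ← d.Lam_emb halt β, emb35_f3]; rfl
      · show Φ (swap ((1 : Fin 7).castSucc) (1 : Fin 7).succ) = d.J (swap 1 2)
        rw [hΦ, ← d.Lam_emb halt β, emb35_s12]; rfl
    have h2 : (Φ.comp E8).comp (MonoidHom.inr P3 P5) = d.L := by
      have hs : ∀ i : Fin 4, Φ (E8 (1, swap ((![3, 4, 0, 1] : Fin 4 → Fin 5) i) (![4, 0, 1, 2] i))) =
          d.L (swap ((![3, 4, 0, 1] : Fin 4 → Fin 5) i) (![4, 0, 1, 2] i)) := by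
        intro i
        rw [E8_table.2 i]
        fin_cases i
        · exact hΦ 3
        · exact hΦ 4
        · exact hΦ 5
        · exact hΦ 6
      refine hom_ext_adj fun i => ?_
      show Φ (E8 (1, swap i.castSucc i.succ)) = d.L (swap i.castSucc i.succ)
      have a0 := hs 0
      have a1 := hs 1
      have a2 := hs 2
      have a3 := hs 3
      simp only [Matrix.cons_val_zero, Matrix.cons_val_one, Matrix.cons_val] at a0 a1 a2 a3
      fin_cases i
      · exact a2
      · exact a3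
      · show Φ ((E8.comp (MonoidHom.inr P3 P5)) (swap 2 3)) = d.L (swap 2 3)
        rw [p5_word]
        simp only [map_mul]
        simp only [MonoidHom.comp_apply, MonoidHom.inr_apply, a0, a1, a2, a3]
      · exact a0
    refine MonoidHom.ext fun q => ?_
    obtain ⟨a, l⟩ := q
    have hq : ((a, l) : P3 × P5) = (a, 1) * (1, l) := by simp
    rw [hq, map_mul, map_mul]
    exact congrArg₂ (· * ·) (DFunLike.congr_fun h1 a) (DFunLike.congr_fun h2 l)
  refine ⟨Φ, ?_, fun q => DFunLike.congr_fun hF q⟩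
  rw [← MonoidHom.ker_eq_bot_iff]
  have hK : Φ.ker.Normal := MonoidHom.normal_ker Φ
  set K := Φ.ker.subgroupOf (alternatingGroup (Fin 8)) with hKdef
  haveI : IsSimpleGroup (alternatingGroup (Fin 8)) := alternatingGroup.isSimpleGroup (by simp)
  rcases (hK.subgroupOf (alternatingGroup (Fin 8))).eq_bot_or_eq_top with h | h
  · refine (Subgroup.eq_bot_iff_forall _).2 fun k hk => ?_
    have hc : k ∈ Subgroup.center (Perm (Fin 8)) := by
      rw [Subgroup.mem_center_iff]
      intro g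
      have hA : g * k * g⁻¹ * k⁻¹ ∈ alternatingGroup (Fin 8) := by
        rw [Perm.mem_alternatingGroup, map_mul, map_mul, map_mul, map_inv, map_inv,
          mul_inv_cancel_comm, mul_inv_cancel]
      have hm : (⟨_, hA⟩ : alternatingGroup (Fin 8)) ∈ Φ.ker.subgroupOf (alternatingGroup (Fin 8)) :=
        mul_mem (hK.conj_mem _ hk g) (inv_mem hk)
      rw [h, Subgroup.mem_bot] at hm
      exact mul_inv_eq_iff_eq_mul.1 (mul_inv_eq_one.1 (congrArg Subtype.val hm))
    refine Equiv.ext fun i => ?_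
    by_contra hne
    have htri : ∀ i j : Fin 8, ∃ l, l ≠ i ∧ l ≠ j := by decide
    obtain ⟨l, hli, hlj⟩ := htri i (k i)
    have h1 := congrFun (congrArg DFunLike.coe (Subgroup.mem_center_iff.1 hc (swap (k i) l))) i
    simp only [Perm.mul_apply, swap_apply_left] at h1
    rw [swap_apply_of_ne_of_ne (show i ≠ k i from fun e => hne e.symm) hli.symm] at h1
    exact hlj (by simpa using h1)
  · exfalso
    have hA : E8 (r3, 1) ∈ alternatingGroup (Fin 8) := by
      rw [Perm.mem_alternatingGroup]; decide +kernel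
    have hm : (⟨_, hA⟩ : alternatingGroup (Fin 8)) ∈ Φ.ker.subgroupOf (alternatingGroup (Fin 8)) := by
      rw [h]; exact Subgroup.mem_top _
    change E8 (r3, 1) ∈ Φ.ker at hm
    rw [MonoidHom.mem_ker, ← MonoidHom.comp_apply, hF] at hm
    exact absurd (congrArg Prod.fst (d.inj (hm.trans (map_one _).symm))) (by decide)

end Data

end Cfsg.Agent.Sym8Three96
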