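import Cfsg.Agent.Lib.Sym8ThreeQuot96

/-!
# The exceptional case: vocabulary

When `alt = true` the involution `iota = F(f,1)` equals `L'(dd)` with `dd = (0 1)(3 4)`.
In the model `(A₅ × A₅).4` the subgroup `L` covers the second and `L'` the first factor.
-/

set_option autoImplicit false

namespace Cfsg.Agent.Sym8Three96

open Equiv

/-- `(0 1)(3 4)`. -/
def dd5 : P5 := f5 * t5

/-- `(0 3)(1 4)`. -/
def k5 : P5 := swap 0 3 * swap 1 4

/-- The four group `{1, dd, k, dd k}`. -/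
def InV (v : P5) : Prop := v = 1 ∨ v = dd5 ∨ v = k5 ∨ v = dd5 * k5

instance (v : P5) : Decidable (InV v) := by unfold InV; infer_instance

/-- Even permutations of five points. -/
def IsEven (l : P5) : Prop := Equiv.Perm.sign l = 1

instance (l : P5) : Decidable (IsEven l) := by unfold IsEven; infer_instance

theorem dd5_sq : dd5 * dd5 = 1 := by decide
theorem k5_sq : k5 * k5 = 1 := by decide
theorem dd5_k5 : dd5 * k5 = k5 * dd5 := by decide +kernel
theorem t5_dd5 : t5 * dd5 = dd5 * t5 := by decide +kernel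
theorem t5_k5_t5 : t5 * k5 * t5 = dd5 * k5 := by decide +kernel

/-- An element of order three commuting with `dd` is trivial. -/
theorem dd5_cube_one : ∀ l : P5, l ^ 3 = 1 → l * dd5 = dd5 * l → l = 1 := by decide +kernel

theorem rho_cent_P : ∀ i j : Fin 3,
    ((r3 ^ (i : ℕ), c5 ^ (j : ℕ)) : P3 × P5) * (f3, dd5) = (f3, dd5) * (r3 ^ (i : ℕ), c5 ^ (j : ℕ)) →
      r3 ^ (i : ℕ) = 1 ∧ c5 ^ (j : ℕ) = 1 := by decide +kernel

theorem cti_form : ∀ (a : P3) (i : Fin 3) (e f : Fin 2), a * f3 = f3 * a →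
    (a = 1 ∨ a = f3) ∧ t5 * (c5 ^ (i : ℕ) * t5 ^ (e : ℕ) * f5 ^ (f : ℕ)) =
      (c5 ^ (i : ℕ) * t5 ^ (e : ℕ) * f5 ^ (f : ℕ)) * t5 := by decide +kernel

theorem swap_not_f3 : ∀ a : P3, a * f3 * a⁻¹ ≠ 1 := by decide

namespace Data

variable {G : Type*} [Group G] (d : Data G)

/-- `L'` = the factor `S₅` of `N(⟨z'⟩)`. -/
def L' : P5 →* G := d.cs.comp d.L

/-- The involution `L'(k)`. -/
def cc : G := d.L' k5

theorem L'_apply (l : P5) : d.L' l = d.F' (1, l) := rfl
theorem cs_L (l : P5) : d.cs (d.L l) = d.L' l := rfl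
theorem cs_L' (l : P5) : d.cs (d.L' l) = d.L l := d.cs_cs _
theorem tau_L : d.tau = d.L t5 := rfl
theorem tau_L' : d.tau = d.L' t5 := d.F'_t5.symm
theorem z_L' : d.z = d.L' c5 := d.z_eq
theorem z'_L : d.z' = d.L c5 := rfl

theorem L_inj : Function.Injective d.L := fun _ _ h => congrArg Prod.snd (d.inj h)
theorem L'_inj : Function.Injective d.L' := fun _ _ h => congrArg Prod.snd (d.F'_inj h)

theorem iota_L' (hB : d.alt = true) : d.iota = d.L' dd5 := by
  rw [d.iota_eq, hB]; rfl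

theorem F'_f3 (hB : d.alt = true) : d.F' (f3, 1) = d.L dd5 := by
  rw [d.F'_J, hB]; rfl

theorem rho_eq : d.iota * d.L dd5 = d.F (f3, dd5) := by
  rw [iota, L_apply, F_mul, mul_one, one_mul]

theorem z_commute_L (l : P5) : Commute d.z (d.L l) := d.commute_J_L r3 l

theorem z'_commute_L' (l : P5) : Commute d.z' (d.L' l) := by
  rw [← d.cs_z, ← d.cs_L]; exact (d.z_commute_L l).map d.cs

theorem iota_commute_L (l : P5) : Commute d.iota (d.L l) := d.commute_J_L f3 l

theorem L'_conj (a b : P5) : d.L' a * d.L' b * (d.L' a)⁻¹ = d.L' (a * b * a⁻¹) := by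
  rw [← map_inv, ← map_mul, ← map_mul]

theorem L_conj (a b : P5) : d.L a * d.L b * (d.L a)⁻¹ = d.L (a * b * a⁻¹) := by
  rw [← map_inv, ← map_mul, ← map_mul]

theorem orderOf_z' : orderOf d.z' = 3 := by
  rw [← d.cs_z, show d.cs = (MulAut.conj d.s).toMonoidHom from rfl,
    MulEquiv.coe_toMonoidHom, MulEquiv.orderOf_eq]
  exact d.orderOf_z

theorem iota_commute_z' (hB : d.alt = true) : Commute d.iota d.z' := by
  rw [d.iota_L' hB]; exact (d.z'_commute_L' _).symm

variable [Finite G]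

/-- No subgroup of order nine lies in `C(iota)`. -/
theorem cent_iota_no_nine (hB : d.alt = true) (Q : Subgroup G) (hQ : Nat.card Q = 9)
    (hc : ∀ q ∈ Q, Commute q d.iota) : False := by
  set C := Subgroup.centralizer ({d.iota} : Set G) with hC
  have hQC : Q ≤ C := fun q hq => Subgroup.mem_centralizer_singleton_iff.2 (hc q hq).eq
  have hz'C : d.z' ∈ C :=
    Subgroup.mem_centralizer_singleton_iff.2 (d.iota_commute_z' hB).eq.symm
  have hp : IsPGroup 3 (Subgroup.zpowers (⟨d.z', hz'C⟩ : C)) :=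
    IsPGroup.of_card (n := 1) (by
      rw [Nat.card_zpowers, pow_one, ← Subgroup.orderOf_coe]; exact d.orderOf_z')
  obtain ⟨S, hS⟩ := hp.exists_le_sylow
  have hzS : (⟨d.z', hz'C⟩ : C) ∈ (S : Subgroup C) := hS (Subgroup.mem_zpowers _)
  have h9 : 9 ∣ Nat.card (S : Subgroup C) := by
    have h1 : 3 ^ 2 ∣ Nat.card C := by
      rw [show (3 : ℕ) ^ 2 = 9 by norm_num, ← hQ]; exact Subgroup.card_dvd_of_le hQC
    exact S.pow_dvd_card_of_pow_dvd_card h1
  set T := (S : Subgroup C).map C.subtype with hT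
  obtain ⟨R, hR⟩ := (S.2.map C.subtype).exists_le_sylow
  obtain ⟨g, hg⟩ := MulAction.exists_smul_eq G R d.P
  have hTP : ∀ t ∈ T, g * t * g⁻¹ ∈ (d.P : Subgroup G) := by
    intro t ht
    rw [← hg, Sylow.smul_def, ← SetLike.mem_coe]
    exact Set.smul_mem_smul_set (hR ht)
  have key : ∀ t ∈ T, ∃ i : Fin 3, t = d.z' ^ (i : ℕ) := by
    intro t ht
    have hz : d.z' ∈ T := ⟨_, hzS, rfl⟩
    have hcm : Commute t d.z' := by
      have := (d.comm_P (hTP t ht) (hTP _ hz)).map (MulAut.conj g⁻¹).toMonoidHom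
      simpa [mul_assoc] using this
    have h3 : t ^ 3 = 1 := by
      have := d.cube_P (hTP t ht)
      rwa [conj_pow, conj_eq_one_iff] at this
    obtain ⟨i, l, rfl⟩ := d.cent_z' hcm
    have hti : Commute (d.F' (r3 ^ (i : ℕ), l)) d.iota := by
      obtain ⟨y, -, hy⟩ := ht
      rw [← hy]
      exact Subgroup.mem_centralizer_singleton_iff.1 y.2
    rw [d.iota_L' hB, L'_apply, Commute, SemiconjBy, ← map_mul, ← map_mul] at hti
    have hl : l * dd5 = dd5 * l := congrArg Prod.snd (d.F'_inj hti)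
    rw [← map_pow] at h3
    have hl3 : l ^ 3 = 1 := congrArg Prod.snd (d.F'_inj (h3.trans (map_one d.F').symm))
    refine ⟨i, ?_⟩
    rw [dd5_cube_one l hl3 hl, z'_eq, ← map_pow]
    simp
  have hle : T ≤ Subgroup.zpowers d.z' := fun t ht => by
    obtain ⟨i, rfl⟩ := key t ht; exact pow_mem (Subgroup.mem_zpowers _) _
  have h := Subgroup.card_dvd_of_le hle
  rw [Nat.card_zpowers, d.orderOf_z'] at h
  have h9' : 9 ∣ Nat.card T := by
    rwa [hT, Subgroup.card_map_of_injective C.subtype_injective]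
  exact absurd (h9'.trans h) (by norm_num)

/-- `iota` is not conjugate to `tau`. -/
theorem iota_not_tau (hB : d.alt = true) (g : G) : g * d.tau * g⁻¹ ≠ d.iota := by
  intro h
  refine d.cent_iota_no_nine hB ((d.P : Subgroup G).map (MulAut.conj g).toMonoidHom) ?_ ?_
  · rw [Subgroup.card_map_of_injective (MulEquiv.injective _), d.card_P]
  · rintro q ⟨p, hp, rfl⟩
    rw [← h]
    exact ((d.tau_mem_cent hp).symm).map (MulAut.conj g).toMonoidHom

variable (hT : ∀ g : G, Commute g d.tau → g ∈ Subgroup.normalizer ((d.P : Subgroup G) : Set G))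
include hT

/-- The elements of order 3 of `C(tau)` lie in `P`. -/
theorem cube_mem_P {g : G} (h : Commute g d.tau) (h3 : g ^ 3 = 1) : g ∈ (d.P : Subgroup G) := by
  have hgN := hT g h
  set N := Subgroup.normalizer ((d.P : Subgroup G) : Set G) with hN
  haveI hn : ((d.P : Subgroup G).subgroupOf N).Normal := Subgroup.normal_in_normalizer
  let S : Sylow 3 N := d.P.subtype Subgroup.le_normalizer
  have hp : IsPGroup 3 (Subgroup.zpowers (⟨g, hgN⟩ : N)) := by
    have hd : orderOf (⟨g, hgN⟩ : N) ∣ 3 := orderOf_dvd_of_pow_eq_one (Subtype.ext h3)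
    rcases (Nat.dvd_prime Nat.prime_three).1 hd with h1 | h1
    · exact IsPGroup.of_card (n := 0) (by rw [Nat.card_zpowers, h1, pow_zero])
    · exact IsPGroup.of_card (n := 1) (by rw [Nat.card_zpowers, h1, pow_one])
  obtain ⟨Q, hQ⟩ := hp.exists_le_sylow
  have hSn : (S : Subgroup N).Normal := hn
  have hu := Sylow.unique_of_normal S hSn
  have hQS : Q = S := @Subsingleton.elim _ hu.instSubsingleton Q S
  have := hQ (Subgroup.mem_zpowers (⟨g, hgN⟩ : N))
  rw [hQS] at this
  exact this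

/-- `C(tau) ∩ C(iota)`. -/
theorem cent_tau_iota {g : G} (h1 : Commute g d.tau) (h2 : Commute g d.iota) :
    ∃ (a : P3) (l : P5), (a = 1 ∨ a = f3) ∧ t5 * l = l * t5 ∧ d.F (a, l) = g := by
  obtain ⟨a, i, e, f, k, hg⟩ := d.normalizer_form (hT g h1)
  rcases (show ∀ k : Fin 2, k = 0 ∨ k = 1 by decide) k with rfl | rfl
  · rw [Fin.val_zero, pow_zero, one_mul] at hg
    subst hg
    rw [iota, Commute, SemiconjBy, F_mul, F_mul] at h2
    have ha := congrArg Prod.fst (d.inj h2)
    obtain ⟨h3, h4⟩ := cti_form a i e f ha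
    exact ⟨a, _, h3, h4, rfl⟩
  · exfalso
    simp only [Fin.val_one, pow_one] at hg
    subst hg
    set m := c5 ^ (i : ℕ) * t5 ^ (e : ℕ) * f5 ^ (f : ℕ) with hm
    have h3 : d.s * d.F (a, m) * d.iota * (d.s * d.F (a, m))⁻¹ = d.iota := by
      rw [h2.eq, mul_inv_cancel_right]
    rw [mul_inv_rev, show d.s * d.F (a, m) * d.iota * ((d.F (a, m))⁻¹ * d.s⁻¹) =
      d.s * (d.F (a, m) * d.iota * (d.F (a, m))⁻¹) * d.s⁻¹ by group, iota, F_conj, conj_s] at h3
    simp only [mul_one, mul_inv_cancel] at h3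
    have h4 := congrArg d.cs h3
    rw [d.cs_cs] at h4
    have h5 : Commute (d.F' (f3, 1)) d.z := by
      rw [d.z_eq, Commute, SemiconjBy, ← map_mul, ← map_mul]; simp
    rw [show d.F' (f3, 1) = d.cs (d.F (f3, 1)) from rfl, ← h4, z, Commute, SemiconjBy, F_mul,
      F_mul] at h5
    have h6 : (a * f3 * a⁻¹) * r3 = r3 * (a * f3 * a⁻¹) := congrArg Prod.fst (d.inj h5)
    have : ∀ a : P3, (a * f3 * a⁻¹) * r3 ≠ r3 * (a * f3 * a⁻¹) := by decide
    exact this a h6

/-- `rho = iota * iota₂` is not conjugate to `tau`. -/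
theorem rho_not_tau (hB : d.alt = true) (g : G) : g * d.tau * g⁻¹ ≠ d.F (f3, dd5) := by
  intro hg
  set ρ := d.F (f3, dd5) with hρ
  set D := (d.P : Subgroup G).map (MulAut.conj g).toMonoidHom with hD
  have hDmem : ∀ x, x ∈ D ↔ g⁻¹ * x * g ∈ (d.P : Subgroup G) := by
    intro x
    constructor
    · rintro ⟨p, hp, rfl⟩
      show g⁻¹ * (g * p * g⁻¹) * g ∈ _
      rw [show g⁻¹ * (g * p * g⁻¹) * g = p by group]
      exact hp
    · intro hx; exact ⟨_, hx, by simp [mul_assoc]⟩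
  have hconj : ∀ x : G, Commute x ρ → Commute (g⁻¹ * x * g) d.tau := by
    intro x hx
    have := hx.map (MulAut.conj g⁻¹).toMonoidHom
    rw [← hg] at this
    simpa [mul_assoc] using this
  have hnorm : ∀ x : G, Commute x ρ → ∀ v ∈ D, x * v * x⁻¹ ∈ D := by
    intro x hx v hv
    rw [hDmem] at hv ⊢
    have h := (Subgroup.mem_normalizer_iff.1 (hT _ (hconj x hx)) _).1 hv
    rwa [show g⁻¹ * (x * v * x⁻¹) * g = g⁻¹ * x * g * (g⁻¹ * v * g) * (g⁻¹ * x * g)⁻¹ by group]
  have hDρ : ∀ v ∈ D, Commute v ρ := by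
    rintro v ⟨p, hp, rfl⟩
    rw [← hg]
    exact (d.tau_mem_cent hp).symm.map (MulAut.conj g).toMonoidHom
  have hDc : ∀ v ∈ D, ∀ w ∈ D, Commute v w := by
    rintro v ⟨p, hp, rfl⟩ w ⟨q, hq, rfl⟩
    exact (d.comm_P hp hq).map _
  have hfree : ∀ v ∈ D, Commute v d.tau → v = 1 := by
    intro v hv hvt
    have h3 : v ^ 3 = 1 := by
      obtain ⟨p, hp, rfl⟩ := hv
      rw [← map_pow, d.cube_P hp, map_one]
    obtain ⟨i, j, hij⟩ := (d.memP v).1 (d.cube_mem_P hT hvt h3)
    have h := hDρ v hv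
    rw [← hij, hρ, Commute, SemiconjBy, ← map_mul, ← map_mul] at h
    obtain ⟨e1, e2⟩ := rho_cent_P i j (d.inj h)
    rw [← hij, e1, e2]
    exact map_one d.F
  have htρ : Commute d.tau ρ := d.commute_tau_F (by decide +kernel)
  have hcρ : Commute d.cc ρ := by
    rw [hρ, ← d.rho_eq, d.iota_L' hB]
    refine Commute.mul_right ?_ ?_
    · rw [cc, Commute, SemiconjBy, ← map_mul, ← map_mul, dd5_k5]
    · rw [cc, ← d.F'_f3 hB, L'_apply, Commute, SemiconjBy, ← map_mul, ← map_mul]; simp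
  have hti : d.tau * d.tau = 1 := d.tau_sq
  have hinv : ∀ v ∈ D, d.tau * v * d.tau = v⁻¹ := by
    intro v hv
    have htv : d.tau * v * d.tau ∈ D := by
      have := hnorm _ htρ v hv
      rwa [show d.tau⁻¹ = d.tau from inv_eq_of_mul_eq_one_left hti] at this
    have hfix : Commute (v * (d.tau * v * d.tau)) d.tau := by
      show v * (d.tau * v * d.tau) * d.tau = d.tau * (v * (d.tau * v * d.tau))
      have hc := hDc v hv _ htv
      calc v * (d.tau * v * d.tau) * d.tau = v * d.tau * v * (d.tau * d.tau) := by group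
        _ = v * d.tau * v := by rw [hti, mul_one]
        _ = d.tau * (d.tau * v * d.tau * v) := by
            rw [← mul_assoc, ← mul_assoc, ← mul_assoc, hti, one_mul]
        _ = d.tau * (v * (d.tau * v * d.tau)) := by rw [hc.eq]
    exact eq_inv_of_mul_eq_one_right (hfree _ (mul_mem hv htv) hfix)
  have hcd : d.cc * d.tau * d.cc⁻¹ = d.tau * d.iota := by
    rw [d.tau_L', cc, L'_conj, d.iota_L' hB, ← map_mul]
    congr 1
    decide +kernel
  have hcent : ∀ v ∈ D, Commute v d.iota := by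
    intro v hv
    have hv' : d.cc⁻¹ * v * d.cc ∈ D := by
      simpa using hnorm _ hcρ.inv_left v hv
    have h1 : d.cc * (d.tau * (d.cc⁻¹ * v * d.cc) * d.tau) * d.cc⁻¹ =
        d.cc * (d.cc⁻¹ * v * d.cc)⁻¹ * d.cc⁻¹ :=
      congrArg (fun x => d.cc * x * d.cc⁻¹) (hinv _ hv')
    have h2 : d.cc * (d.tau * (d.cc⁻¹ * v * d.cc) * d.tau) * d.cc⁻¹ =
        (d.cc * d.tau * d.cc⁻¹) * v * (d.cc * d.tau * d.cc⁻¹) := by group
    rw [h2, hcd, show d.cc * (d.cc⁻¹ * v * d.cc)⁻¹ * d.cc⁻¹ = v⁻¹ by group] at h1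
    have hit : Commute d.tau d.iota := d.commute_tau_F (by decide +kernel)
    have hii : d.iota * d.iota = 1 := by
      rw [iota, F_mul, show f3 * f3 = 1 from by decide, mul_one]; exact map_one d.F
    have h3 : d.tau * d.iota * v * (d.tau * d.iota) =
        d.iota * (d.tau * v * d.tau) * d.iota := by
      nth_rewrite 1 [hit.eq]
      group
    rw [h3, hinv v hv] at h1
    have h4 : d.iota * v * d.iota = v := by
      have := congrArg Inv.inv h1
      simp only [mul_inv_rev, inv_inv] at this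
      rwa [inv_eq_of_mul_eq_one_left hii, ← mul_assoc] at this
    show v * d.iota = d.iota * v
    calc v * d.iota = d.iota * v * d.iota * d.iota := by rw [h4]
      _ = d.iota * v := by rw [mul_assoc _ d.iota d.iota, hii, mul_one]
  exact d.cent_iota_no_nine hB D
    (by rw [hD, Subgroup.card_map_of_injective (MulEquiv.injective _), d.card_P]) hcent

omit hT

/-- Outcome 1 for `C(iota) ∩ C(c)`. -/
def IsSmall : Prop :=
  ∀ x : G, Commute x d.iota → Commute x d.cc → ∃ (a : P3) (v : P5), InV v ∧ d.F' (a, v) = x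

/-- Outcome 2 for `C(iota) ∩ C(c)`: the two `A₅` commute. -/
def IsBig : Prop :=
  (∀ a b : P5, IsEven a → IsEven b → Commute (d.L a) (d.L' b)) ∧
    ∀ x : G, Commute x d.iota → Commute x d.cc →
      ∃ (v b : P5), InV v ∧ IsEven b ∧ d.L' v * d.L b = x

end Data

end Cfsg.Agent.Sym8Three96
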