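import Mathlib

/-!
# Commutators with elements of order three in centralisers of involutions of `S₆`
-/

set_option autoImplicit false

namespace Cfsg.Agent.Sym8Three96

open Equiv

abbrev P6 := Equiv.Perm (Fin 6)

def ta : P6 := swap 0 1
def tb : P6 := swap 0 3 * swap 1 4 * swap 2 5
def td : P6 := swap 0 1 * swap 2 3
def cm (m x : P6) : P6 := m * x * m⁻¹ * x⁻¹

/-- the involution `e` is suitable. -/
def EGood (t x e : P6) : Prop :=
  e * e = 1 ∧ e ≠ 1 ∧ e ≠ t ∧ e * x ≠ x * e ∧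
    e * (x * e * x⁻¹) = (x * e * x⁻¹) * e ∧
    ∀ j : Fin 3, e * (x ^ (j : ℕ) * e * (x ^ (j : ℕ))⁻¹) ≠ t

instance (t x e : P6) : Decidable (EGood t x e) := by unfold EGood; infer_instance

/-- a commutator `f` is suitable relative to `e`. -/
def MGood (t x e f : P6) : Prop :=
  f * f ≠ t ∧ (f * f = 1 → f = 1 ∨ ∃ j : Fin 3, f = x ^ (j : ℕ) * e * (x ^ (j : ℕ))⁻¹)

instance (t x e f : P6) : Decidable (MGood t x e f) := by unfold MGood; infer_instance

/-- existence of a suitable square in `C(t)`. -/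
def S6Good (t x : P6) : Prop :=
  ∃ l : P6, l * t = t * l ∧ EGood t x (cm (l * l) x) ∧
    ∀ m : P6, m * t = t * m → MGood t x (cm (l * l) x) (cm m x)

instance (t x : P6) : Decidable (S6Good t x) := by unfold S6Good; infer_instance

theorem s6_rep : ∀ t : P6, t * t = 1 → t ≠ 1 →
    ∃ h : P6, h * t * h⁻¹ = ta ∨ h * t * h⁻¹ = tb ∨ h * t * h⁻¹ = td := by
  intro t ht h1
  have ho : orderOf t = 2 := orderOf_eq_prime (by rw [pow_two, ht]) h1
  obtain ⟨n, hn⟩ := Equiv.Perm.cycleType_prime_order (σ := t) (by rw [ho]; exact Nat.prime_two)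
  rw [ho] at hn
  have hs := t.sum_cycleType_le
  rw [hn, Multiset.sum_replicate, Fintype.card_fin, smul_eq_mul] at hs
  have ha : ta.cycleType = Multiset.replicate 1 2 := by decide +kernel
  have hb : tb.cycleType = Multiset.replicate 3 2 := by decide +kernel
  have hd : td.cycleType = Multiset.replicate 2 2 := by decide +kernel
  have hk : n = 0 ∨ n = 1 ∨ n = 2 := by omega
  rcases hk with rfl | rfl | rfl
  · obtain ⟨h, hh⟩ := isConj_iff.1 (Equiv.Perm.isConj_iff_cycleType_eq.2 (hn.trans ha.symm))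
    exact ⟨h, Or.inl hh⟩
  · obtain ⟨h, hh⟩ := isConj_iff.1 (Equiv.Perm.isConj_iff_cycleType_eq.2 (hn.trans hd.symm))
    exact ⟨h, Or.inr (Or.inr hh)⟩
  · obtain ⟨h, hh⟩ := isConj_iff.1 (Equiv.Perm.isConj_iff_cycleType_eq.2 (hn.trans hb.symm))
    exact ⟨h, Or.inr (Or.inl hh)⟩

theorem td_none : ∀ x : P6, x * td = td * x → x ^ 3 = 1 → x = 1 := by decide +kernel

theorem ta_good : ∀ x : P6, x * ta = ta * x → x ^ 3 = 1 → x ≠ 1 → S6Good ta x := by decide +kernel

theorem tb_good : ∀ x : P6, x * tb = tb * x → x ^ 3 = 1 → x ≠ 1 → S6Good tb x := by decide +kernel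

end Cfsg.Agent.Sym8Three96
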