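import Cfsg.Agent.Lib.Sym8ThreeFourCases96
import Cfsg.Agent.Lib.Sym8ThreeSix96

/-!
# `C(tau)` normalises `P` in the exceptional case

If `C(tau)/⟨tau⟩` were `S₆`, a commutator `e = [n, z']` would be an involution of
`C(iota) ∩ C(c)` commuting with `tau` and with `z' e z'⁻¹` but not with `z'`; neither of the two
possibilities for `C(iota) ∩ C(c)` has one.
-/

set_option autoImplicit false

namespace Cfsg.Agent.Sym8Three96

open Equiv

theorem small_e : ∀ a : P3, a * a = 1 →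
    a * (r3 * a * r3⁻¹) = (r3 * a * r3⁻¹) * a → a * r3 = r3 * a := by decide +kernel

theorem big_e : ∀ l : P5, IsEven l → l * l = 1 → t5 * l * t5⁻¹ = l →
    l * (c5 * l * c5⁻¹) = (c5 * l * c5⁻¹) * l → l = 1 := by decide +kernel

theorem t5_InV : ∀ v : P5, InV v → InV (t5 * v * t5⁻¹) ∧ IsEven v := by decide +kernel

theorem dd_comm_c5 : ¬ (dd5 * c5 = c5 * dd5) := by decide +kernel

namespace Data

variable {G : Type*} [Group G] (d : Data G) [Finite G]

/-- The involution produced by an `S₆` quotient cannot exist. -/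
theorem no_e (hB : d.alt = true) {e : G} (he2 : e * e = 1) (hi : Commute e d.iota)
    (hc : Commute e d.cc) (ht : Commute e d.tau) (hnz : ¬ Commute e d.z')
    (hconj : Commute e (d.z' * e * d.z'⁻¹)) : False := by
  rcases d.four_cases hB with hS | ⟨hEE, hX⟩
  · obtain ⟨a, v, hv, rfl⟩ := hS e hi hc
    apply hnz
    rw [← map_mul] at he2
    rw [z'_eq, ← map_inv, ← map_mul, ← map_mul, Commute, SemiconjBy, ← map_mul, ← map_mul] at hconj
    have ha := small_e a (congrArg Prod.fst (d.F'_inj (he2.trans (map_one d.F').symm)))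
      (congrArg Prod.fst (d.F'_inj hconj))
    rw [z'_eq, Commute, SemiconjBy, ← map_mul, ← map_mul, Prod.mk_mul_mk, Prod.mk_mul_mk, ha,
      mul_one, one_mul]
  · obtain ⟨v, b, hv, hb, rfl⟩ := hX e hi hc
    have hve : IsEven v := (t5_InV v hv).2
    have huniq : ∀ v v' b b' : P5, IsEven v → IsEven v' → IsEven b → IsEven b' →
        d.L' v * d.L b = d.L' v' * d.L b' → v = v' ∧ b = b' := by
      intro v v' b b' hv hv' hb hb' h
      have hev : ∀ a b : P5, IsEven a → IsEven b → IsEven (a⁻¹ * b) ∧ IsEven (b * a⁻¹) := by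
        decide +kernel
      have h2 : d.L' (v'⁻¹ * v) = d.L (b' * b⁻¹) := by
        rw [map_mul, map_inv, map_mul, map_inv, inv_mul_eq_iff_eq_mul, ← mul_assoc,
          eq_mul_inv_iff_mul_eq]
        exact h
      have hb1 : b' * b⁻¹ = 1 := by
        refine central_even _ (hev b b' hb hb').2 ?_ ?_ <;>
        · refine d.L_inj ?_
          rw [map_mul d.L (b' * b⁻¹), map_mul d.L _ (b' * b⁻¹), ← h2]
          refine (hEE _ _ ?_ (hev v' v hv' hv).1).symm.eq
          decide +kernel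
      rw [hb1, map_one, ← map_one d.L', d.L'_inj.eq_iff, inv_mul_eq_one] at h2
      exact ⟨h2.symm, (mul_inv_eq_one.1 hb1).symm⟩
    have hcl : Commute (d.L b) (d.L' v) := hEE b v hb hve
    rw [hcl.mul_mul_mul_comm, ← map_mul, ← map_mul] at he2
    have hb2 : b * b = 1 := by
      have h := huniq (v * v) 1 (b * b) 1 (by rw [(InV_cases v hv).2.2.1]; exact even_inv_mul.1)
        even_inv_mul.1 (even_inv_mul.2.2.2.2.2 b b hb hb) even_inv_mul.1
        (by rw [he2, map_one, map_one, mul_one])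
      exact h.2
    have htb : t5 * b * t5⁻¹ = b := by
      have h1 : d.tau * (d.L' v * d.L b) * d.tau⁻¹ = d.L' v * d.L b := by
        rw [← ht.eq, mul_inv_cancel_right]
      rw [show d.tau * (d.L' v * d.L b) * d.tau⁻¹ =
        (d.tau * d.L' v * d.tau⁻¹) * (d.tau * d.L b * d.tau⁻¹) by group] at h1
      nth_rewrite 1 [d.tau_L'] at h1
      nth_rewrite 1 [d.tau_L'] at h1
      rw [tau_L, L'_conj, L_conj] at h1
      exact (huniq _ _ _ _ (t5_InV _ (t5_InV v hv).1).2 hve (even_conj4 t5 b hb) hb h1).2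
    have hzv : d.z' * (d.L' v * d.L b) * d.z'⁻¹ = d.L' v * d.L (c5 * b * c5⁻¹) := by
      rw [← d.L_conj, ← z'_L, ← mul_assoc, (d.z'_commute_L' v).eq]
      group
    rw [hzv] at hconj
    have hcb : IsEven (c5 * b * c5⁻¹) := even_conj4 c5 b hb
    have h3 := hconj.eq
    rw [(hEE b v hb hve).symm.symm.mul_mul_mul_comm,
      (hEE _ v hcb hve).symm.symm.mul_mul_mul_comm, ← map_mul, ← map_mul, ← map_mul] at h3
    have hb1 := big_e b hb hb2 htb (huniq _ _ _ _
      (even_inv_mul.2.2.2.2.2 v v hve hve) (even_inv_mul.2.2.2.2.2 v v hve hve)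
      (even_inv_mul.2.2.2.2.2 _ _ hb hcb) (even_inv_mul.2.2.2.2.2 _ _ hcb hb) h3).2
    apply hnz
    rw [hb1, map_one, mul_one]
    exact (d.z'_commute_L' v).symm

/-- `C(tau) ≤ N(P)`. -/
theorem cent_tau_normalizer (hB : d.alt = true) (g : G) (hg : Commute g d.tau) :
    g ∈ Subgroup.normalizer ((d.P : Subgroup G) : Set G) := by
  have hgC : g ∈ d.Ct := Subgroup.mem_centralizer_singleton_iff.2 hg.eq
  rcases d.Qt_cases with hn | ⟨⟨e6⟩⟩
  · exact d.mem_norm_of (g := ⟨g, hgC⟩) (by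
      rw [Subgroup.normalizer_eq_top_iff.2 hn]; trivial)
  exfalso
  let ψ0 : d.Ct →* P6 := e6.toMonoidHom.comp (QuotientGroup.mk' _)
  have hker0 : ∀ x : d.Ct, ψ0 x = 1 → (x : G) = 1 ∨ (x : G) = d.tau := by
    intro x hx
    have h : (QuotientGroup.mk x : d.Qt) = QuotientGroup.mk 1 := e6.injective (by
      rw [QuotientGroup.mk_one, map_one]; exact hx)
    simpa using d.mk_eq h
  have hsurj0 : Function.Surjective ψ0 := e6.surjective.comp (QuotientGroup.mk'_surjective _)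
  have hit : Commute d.iota d.tau := (d.commute_tau_F (a := f3) (l := 1) (by simp)).symm
  let i0 : d.Ct := ⟨d.iota, Subgroup.mem_centralizer_singleton_iff.2 hit.eq⟩
  let z0 : d.Ct := ⟨d.z', Subgroup.mem_centralizer_singleton_iff.2 (d.tau_mem_cent d.z'_mem).eq.symm⟩
  let u0 : d.Ct := ⟨d.tau, d.tau_mem_Ct⟩
  have hu0 : ψ0 u0 = 1 := by
    show e6 (QuotientGroup.mk u0 : d.Qt) = 1
    rw [(QuotientGroup.eq_one_iff u0).2 (by rw [Subgroup.mem_subgroupOf]; exact Subgroup.mem_zpowers _),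
      map_one]
  have hτne : d.tau ≠ 1 := fun h => by
    have := orderOf_eq_one_iff.2 h; rw [d.orderOf_tau] at this; norm_num at this
  have hii : d.iota * d.iota = 1 := by
    rw [iota, F_mul, show f3 * f3 = 1 from by decide, mul_one]; exact map_one d.F
  have hine : d.iota ≠ 1 := fun h => by
    have : ((f3, 1) : P3 × P5) = 1 := d.inj (by rw [map_one]; exact h)
    exact absurd (congrArg Prod.fst this) (by decide)
  have hz3 : d.z' ^ 3 = 1 := by rw [← d.orderOf_z']; exact pow_orderOf_eq_one _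
  have hine' : d.iota ≠ d.tau := fun h => by
    have := congrArg Prod.fst (d.inj h)
    exact absurd this (by decide : (f3 : P3) ≠ 1)
  obtain ⟨h, hh⟩ := s6_rep (ψ0 i0)
    (by rw [← map_mul, show i0 * i0 = 1 from Subtype.ext hii, map_one])
    (fun h => by
      rcases hker0 _ h with h | h
      · exact hine h
      · exact hine' h)
  let ψ : d.Ct →* P6 := (MulAut.conj h).toMonoidHom.comp ψ0
  have hker : ∀ x : d.Ct, ψ x = 1 → (x : G) = 1 ∨ (x : G) = d.tau := fun x hx => hker0 x (by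
    simpa [ψ] using hx)
  have hsurj : Function.Surjective ψ := (MulAut.conj h).surjective.comp hsurj0
  have hu : ψ u0 = 1 := by simp [ψ, hu0]
  set t := ψ i0 with ht
  set x := ψ z0 with hx
  have hx3 : x ^ 3 = 1 := by
    rw [hx, ← map_pow, show z0 ^ 3 = 1 from Subtype.ext (by rw [Subgroup.coe_pow]; exact hz3), map_one]
  have hx1 : x ≠ 1 := fun h => by
    rcases hker _ h with h | h
    · have := orderOf_eq_one_iff.2 h; rw [d.orderOf_z'] at this; norm_num at this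
    · have := congrArg orderOf h; rw [d.orderOf_z', d.orderOf_tau] at this; norm_num at this
  have hxt : x * t = t * x := by
    rw [hx, ht, ← map_mul, ← map_mul]
    exact congrArg ψ (Subtype.ext (d.iota_commute_z' hB).eq.symm)
  have hgood : S6Good t x := by
    rcases hh with hh | hh | hh <;> rw [show t = _ from hh] at hxt ⊢
    · exact ta_good x hxt hx3 hx1
    · exact tb_good x hxt hx3 hx1
    · exact absurd (td_none x hxt hx3) hx1
  obtain ⟨l, hlt, ⟨hE2, hE1, hEt, hEx, hEc, hEj⟩, hall⟩ := hgood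
  obtain ⟨m, hm⟩ := hsurj l
  -- conjugation by `c`
  have hcci : Commute d.cc d.iota := by
    rw [d.iota_L' hB, cc, Commute, SemiconjBy, ← map_mul, ← map_mul, dd5_k5]
  have hcct : d.cc * d.tau * d.cc⁻¹ = d.tau * d.iota := by
    rw [d.tau_L', cc, L'_conj, d.iota_L' hB, ← map_mul]
    congr 1
    decide +kernel
  have hccz : d.cc * d.z' * d.cc⁻¹ = d.z' := by
    rw [cc, ← (d.z'_commute_L' k5).eq, mul_inv_cancel_right]
  have hcc2 : d.cc * d.cc = 1 := by rw [cc, ← map_mul, k5_sq, map_one]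
  -- the lift of the square centralises `iota`
  have hmi : Commute ((m * m : d.Ct) : G) d.iota := by
    have h1 : ψ (m * i0 * m⁻¹) = ψ i0 := by
      rw [map_mul, map_mul, map_inv, hm, ← ht, hlt, mul_inv_cancel_right]
    have h2 : ψ ((m * i0 * m⁻¹) * i0⁻¹) = 1 := by rw [map_mul, map_inv, h1, mul_inv_cancel]
    have hmt := Subgroup.mem_centralizer_singleton_iff.1 m.2
    show (m : G) * m * d.iota = d.iota * ((m : G) * m)
    rcases hker _ h2 with h3 | h3 <;> simp only [Subgroup.coe_mul, Subgroup.coe_inv, i0] at h3 <;>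
      rw [mul_inv_eq_iff_eq_mul] at h3
    · rw [one_mul, mul_inv_eq_iff_eq_mul] at h3
      rw [mul_assoc, h3, ← mul_assoc, h3, mul_assoc]
    · rw [mul_inv_eq_iff_eq_mul] at h3
      calc (m : G) * m * d.iota = (m : G) * (d.tau * d.iota * m) := by rw [mul_assoc, h3]
        _ = ((m : G) * d.tau) * d.iota * m := by group
        _ = d.tau * ((m : G) * d.iota) * m := by rw [hmt]; group
        _ = d.tau * d.tau * d.iota * ((m : G) * m) := by rw [h3]; group
        _ = d.iota * ((m : G) * m) := by rw [d.tau_sq, one_mul]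
  set n : d.Ct := m * m with hn
  set eh : G := (n : G) * d.z' * (n : G)⁻¹ * d.z'⁻¹ with heh
  have hehC : eh ∈ d.Ct := mul_mem (mul_mem (mul_mem n.2 z0.2) (inv_mem n.2)) (inv_mem z0.2)
  have hehψ : ψ ⟨eh, hehC⟩ = cm (l * l) x := by
    have : (⟨eh, hehC⟩ : d.Ct) = n * z0 * n⁻¹ * z0⁻¹ := Subtype.ext rfl
    rw [this, map_mul, map_mul, map_mul, map_inv, map_inv, hn, map_mul, hm, ← hx, cm]
  have hehi : Commute eh d.iota :=
    ((hmi.mul_left (d.iota_commute_z' hB).symm).mul_left hmi.inv_left).mul_left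
      (d.iota_commute_z' hB).symm.inv_left
  -- conjugate of `n` by `c`
  have hnc' : d.cc * (n : G) * d.cc⁻¹ ∈ d.Ct := by
    rw [Subgroup.mem_centralizer_singleton_iff]
    have h1 : Commute (n : G) (d.tau * d.iota) :=
      Commute.mul_right (Subgroup.mem_centralizer_singleton_iff.1 n.2) hmi
    have h2 : Commute (d.cc * n * d.cc⁻¹) (d.cc * (d.tau * d.iota) * d.cc⁻¹) :=
      h1.map (MulAut.conj d.cc).toMonoidHom
    have h3 : d.cc * (d.tau * d.iota) * d.cc⁻¹ = d.tau := by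
      rw [show d.cc * (d.tau * d.iota) * d.cc⁻¹ = (d.cc * d.tau * d.cc⁻¹) * (d.cc * d.iota * d.cc⁻¹)
        by group, hcct, hcci.eq, mul_inv_cancel_right, mul_assoc, hii, mul_one]
    rwa [h3] at h2
  set n' : d.Ct := ⟨_, hnc'⟩ with hn'
  set eh' : G := (n' : G) * d.z' * (n' : G)⁻¹ * d.z'⁻¹ with heh'
  have heh'c : eh' = d.cc * eh * d.cc⁻¹ := by
    rw [heh', heh]
    show d.cc * (n : G) * d.cc⁻¹ * d.z' * (d.cc * (n : G) * d.cc⁻¹)⁻¹ * d.z'⁻¹ = _
    conv_lhs => rw [← hccz]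
    group
  have heh'C : eh' ∈ d.Ct := mul_mem (mul_mem (mul_mem n'.2 z0.2) (inv_mem n'.2)) (inv_mem z0.2)
  have hn'i : ψ n' * t = t * ψ n' := by
    rw [ht, ← map_mul, ← map_mul]
    refine congrArg ψ (Subtype.ext ?_)
    show d.cc * n * d.cc⁻¹ * d.iota = d.iota * (d.cc * n * d.cc⁻¹)
    exact (Commute.mul_left (hcci.mul_left hmi) hcci.inv_left).eq
  have heh'ψ : ψ ⟨eh', heh'C⟩ = cm (ψ n') x := by
    have : (⟨eh', heh'C⟩ : d.Ct) = n' * z0 * n'⁻¹ * z0⁻¹ := Subtype.ext rfl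
    rw [this, map_mul, map_mul, map_mul, map_inv, map_inv, ← hx, cm]
  obtain ⟨hP1, hP2⟩ := hall _ hn'i
  have hEne : eh ≠ 1 := fun h => hE1 (by
    rw [← hehψ, show (⟨eh, hehC⟩ : d.Ct) = 1 from Subtype.ext h, map_one])
  -- `eh` is an involution
  have he2 : eh * eh = 1 := by
    rcases hker (⟨eh, hehC⟩ * ⟨eh, hehC⟩) (by rw [map_mul, hehψ, hE2]) with h | h
    · exact h
    · exfalso
      have h' : eh * eh = d.tau := h
      have h2 : eh' * eh' = d.tau * d.iota := by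
        rw [heh'c, show d.cc * eh * d.cc⁻¹ * (d.cc * eh * d.cc⁻¹) = d.cc * (eh * eh) * d.cc⁻¹ by group,
          h', hcct]
      apply hP1
      rw [← heh'ψ, ← map_mul, show (⟨eh', heh'C⟩ * ⟨eh', heh'C⟩ : d.Ct) = u0 * i0 from Subtype.ext h2,
        map_mul, hu, one_mul]
  have he'2 : eh' * eh' = 1 := by
    rw [heh'c, show d.cc * eh * d.cc⁻¹ * (d.cc * eh * d.cc⁻¹) = d.cc * (eh * eh) * d.cc⁻¹ by group, he2]
    group
  -- `c` fixes `eh`
  obtain ⟨j, hj⟩ : ∃ j : Fin 3, cm (ψ n') x =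
      x ^ (j : ℕ) * cm (l * l) x * (x ^ (j : ℕ))⁻¹ := by
    refine (hP2 ?_).resolve_left ?_
    · rw [← heh'ψ, ← map_mul, show (⟨eh', heh'C⟩ * ⟨eh', heh'C⟩ : d.Ct) = 1 from Subtype.ext he'2,
        map_one]
    · intro h
      rw [← heh'ψ] at h
      rcases hker _ h with h | h
      · have h' : eh' = 1 := h
        rw [heh'c, conj_eq_one_iff] at h'
        exact hEne h'
      · have h' : eh' = d.tau := h
        have h2 : eh = d.tau * d.iota := by
          rw [← hcct, ← h', heh'c]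
          calc eh = d.cc * d.cc * eh * (d.cc * d.cc)⁻¹ := by rw [hcc2]; group
            _ = _ := by group
        apply hEt
        rw [← hehψ, show (⟨eh, hehC⟩ : d.Ct) = u0 * i0 from Subtype.ext h2, map_mul, hu, one_mul]
  have hzc : ∀ k : ℕ, d.cc * d.z' ^ k * d.cc⁻¹ = d.z' ^ k := fun k => by
    rw [← conj_pow, hccz]
  have hzC : ∀ k : ℕ, d.z' ^ k * eh * (d.z' ^ k)⁻¹ ∈ d.Ct := fun k =>
    mul_mem (mul_mem (pow_mem z0.2 _) hehC) (inv_mem (pow_mem z0.2 _))
  have hzψ : ∀ k : ℕ, ψ ⟨_, hzC k⟩ = x ^ k * cm (l * l) x * (x ^ k)⁻¹ := fun k => by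
    have : (⟨_, hzC k⟩ : d.Ct) = z0 ^ k * ⟨eh, hehC⟩ * (z0 ^ k)⁻¹ := Subtype.ext (by
      simp [z0])
    rw [this, map_mul, map_mul, map_inv, map_pow, hehψ]
  have hcc' : d.cc * eh' * d.cc⁻¹ = eh := by
    rw [heh'c]
    calc d.cc * (d.cc * eh * d.cc⁻¹) * d.cc⁻¹ = (d.cc * d.cc) * eh * (d.cc * d.cc)⁻¹ := by group
      _ = eh := by rw [hcc2]; group
  have hxred : ∀ k : ℕ, x ^ k = x ^ (k % 3) := fun k => pow_eq_pow_mod k hx3
  have hjj : ∀ j : Fin 3, (j : ℕ) ≠ 0 →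
      x ^ (2 * (j : ℕ)) * cm (l * l) x * (x ^ (2 * (j : ℕ)))⁻¹ ≠ cm (l * l) x := by
    intro j hj0 h
    apply hEx
    have h2 : Commute (x ^ (2 * (j : ℕ))) (cm (l * l) x) := mul_inv_eq_iff_eq_mul.1 h
    rcases (show ∀ j : Fin 3, (j : ℕ) ≠ 0 → (j : ℕ) = 1 ∨ (j : ℕ) = 2 by decide) j hj0 with e | e <;>
      rw [e] at h2
    · have h4 := h2.pow_left 2
      rw [← pow_mul, hxred (2 * 1 * 2)] at h4
      simpa using h4.symm.eq
    · rw [hxred (2 * 2)] at h2
      simpa using h2.symm.eq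
  rw [← heh'ψ, ← hzψ] at hj
  have hcase : eh' = d.z' ^ (j : ℕ) * eh * (d.z' ^ (j : ℕ))⁻¹ := by
    have h := hker (⟨eh', heh'C⟩ * (⟨_, hzC j⟩ : d.Ct)⁻¹) (by rw [map_mul, map_inv, hj, mul_inv_cancel])
    rcases h with h | h <;> simp only [Subgroup.coe_mul, Subgroup.coe_inv] at h <;>
      rw [mul_inv_eq_iff_eq_mul] at h
    · rw [h, one_mul]
    · exfalso
      have h2 : d.cc * eh' * d.cc⁻¹ =
          d.cc * (d.tau * (d.z' ^ (j : ℕ) * eh * (d.z' ^ (j : ℕ))⁻¹)) * d.cc⁻¹ := by rw [h]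
      rw [hcc', show d.cc * (d.tau * (d.z' ^ (j : ℕ) * eh * (d.z' ^ (j : ℕ))⁻¹)) * d.cc⁻¹ =
        (d.cc * d.tau * d.cc⁻¹) * ((d.cc * d.z' ^ (j : ℕ) * d.cc⁻¹) * (d.cc * eh * d.cc⁻¹) *
          (d.cc * d.z' ^ (j : ℕ) * d.cc⁻¹)⁻¹) by group, hcct, hzc, ← heh'c, h] at h2
      have hzt : Commute (d.z' ^ (j : ℕ)) d.tau := ((d.tau_mem_cent d.z'_mem).symm).pow_left _
      have hti : Commute d.tau d.iota := hit.symm
      have h3 : eh = d.iota * (d.z' ^ (2 * (j : ℕ)) * eh * (d.z' ^ (2 * (j : ℕ)))⁻¹) := by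
        rw [show d.z' ^ (j : ℕ) * (d.tau * (d.z' ^ (j : ℕ) * eh * (d.z' ^ (j : ℕ))⁻¹)) *
          (d.z' ^ (j : ℕ))⁻¹ = (d.z' ^ (j : ℕ) * d.tau) * (d.z' ^ (j : ℕ) * eh * (d.z' ^ (j : ℕ))⁻¹) *
          (d.z' ^ (j : ℕ))⁻¹ by group, hzt.eq] at h2
        rw [two_mul, pow_add]
        conv_lhs => rw [h2]
        rw [hti.eq]
        rw [show d.iota * d.tau * (d.tau * d.z' ^ (j : ℕ) * (d.z' ^ (j : ℕ) * eh * (d.z' ^ (j : ℕ))⁻¹) *
          (d.z' ^ (j : ℕ))⁻¹) = d.iota * (d.tau * d.tau) * (d.z' ^ (j : ℕ) * d.z' ^ (j : ℕ) * eh *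
            (d.z' ^ (j : ℕ) * d.z' ^ (j : ℕ))⁻¹) by group, d.tau_sq, mul_one]
      apply hEj ⟨2 * (j : ℕ) % 3, Nat.mod_lt _ (by norm_num)⟩
      have h5 : ψ ⟨eh, hehC⟩ = t * ψ ⟨_, hzC (2 * (j : ℕ))⟩ := by
        rw [ht, ← map_mul]; exact congrArg ψ (Subtype.ext h3)
      rw [hehψ, hzψ, hxred] at h5
      show cm (l * l) x * (x ^ (2 * (j : ℕ) % 3) * cm (l * l) x * (x ^ (2 * (j : ℕ) % 3))⁻¹) = t
      generalize hA : x ^ (2 * (j : ℕ) % 3) * cm (l * l) x * (x ^ (2 * (j : ℕ) % 3))⁻¹ = A at h5 ⊢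
      have hA2 : A * A = 1 := by
        rw [← hA, show ∀ a b : P6, a * b * a⁻¹ * (a * b * a⁻¹) = a * (b * b) * a⁻¹ from
          fun a b => by group, hE2, mul_one, mul_inv_cancel]
      rw [h5, mul_assoc, hA2, mul_one]
  have hj0 : (j : ℕ) = 0 := by
    by_contra hj0
    apply hjj j hj0
    rw [← hzψ, ← hehψ]
    refine congrArg ψ (Subtype.ext ?_)
    show d.z' ^ (2 * (j : ℕ)) * eh * (d.z' ^ (2 * (j : ℕ)))⁻¹ = eh
    conv_rhs => rw [← hcc', hcase]
    rw [show d.cc * (d.z' ^ (j : ℕ) * eh * (d.z' ^ (j : ℕ))⁻¹) * d.cc⁻¹ =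
      (d.cc * d.z' ^ (j : ℕ) * d.cc⁻¹) * (d.cc * eh * d.cc⁻¹) *
        (d.cc * d.z' ^ (j : ℕ) * d.cc⁻¹)⁻¹ by group, hzc, ← heh'c, hcase, two_mul, pow_add]
    group
  rw [hj0, pow_zero, one_mul, inv_one, mul_one] at hcase
  have hec : Commute eh d.cc := (mul_inv_eq_iff_eq_mul.1 (heh'c.symm.trans hcase)).symm
  refine d.no_e hB he2 hehi hec (Subgroup.mem_centralizer_singleton_iff.1 hehC) ?_ ?_
  · intro h
    apply hEx
    rw [← hehψ, hx, ← map_mul, ← map_mul]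
    exact congrArg ψ (Subtype.ext h.eq)
  · have h1 : d.z' ^ 1 * eh * (d.z' ^ 1)⁻¹ = d.z' * eh * d.z'⁻¹ := by rw [pow_one]
    set w := d.z' * eh * d.z'⁻¹ with hw
    have hwψ : ψ ⟨_, hzC 1⟩ = x * cm (l * l) x * x⁻¹ := by rw [hzψ, pow_one]
    rcases hker ((⟨eh, hehC⟩ * ⟨_, hzC 1⟩ : d.Ct) * ((⟨_, hzC 1⟩ : d.Ct) * ⟨eh, hehC⟩)⁻¹)
      (by rw [map_mul, map_inv, map_mul, map_mul, hehψ, hwψ, hEc, mul_inv_cancel]) with h | h <;>
      simp only [Subgroup.coe_mul, Subgroup.coe_inv, h1] at h <;>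
      rw [mul_inv_eq_iff_eq_mul] at h
    · show eh * w = w * eh
      rw [h, one_mul]
    · exfalso
      have hwc : Commute w d.cc :=
        ((d.z'_commute_L' k5).mul_left hec).mul_left (d.z'_commute_L' k5).inv_left
      have h2 : d.cc * (eh * w) * d.cc⁻¹ = eh * w := by
        rw [← (hec.mul_left hwc).eq, mul_inv_cancel_right]
      rw [h, show d.cc * (d.tau * (w * eh)) * d.cc⁻¹ =
        (d.cc * d.tau * d.cc⁻¹) * (d.cc * (w * eh) * d.cc⁻¹) by group, hcct,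
        ← (hwc.mul_left hec).eq, mul_inv_cancel_right] at h2
      exact hine (mul_eq_left.1 (mul_right_cancel h2))

end Data

end Cfsg.Agent.Sym8Three96
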