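import Cfsg.Agent.Lib.Sym8ThreeCaseBBase96
import Cfsg.Agent.Lib.CoprimeGen
import Cfsg.Agent.Lib.HallCore
import Cfsg.Agent.S3331

/-!
# The centraliser of the four group `⟨iota, c⟩`

`X = C(iota) ∩ C(c)` modulo `Vs = L'(V)` has a self-centralising element of order three; a
coprime-action argument with the group `⟨z', q⟩` of order nine removes the `3'`-core, and then
S3331 leaves `S₃`, `A₅` and `PSL(2,7)`, the last being excluded by the local data.
-/

set_option autoImplicit false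

namespace Cfsg.Agent.Sym8Three96

open Equiv

/-- `(2 3)`. -/
def h5 : P5 := swap 2 3

/-- `(0 1 3)`. -/
def b5 : P5 := h5 * c5 * h5⁻¹

def cj5 (a x : P5) : P5 := a * x * a⁻¹

/-- an element that a `3'`-group normalised by `c` cannot contain. -/
def Bad (x : P5) : Prop := (x ^ 4 ≠ 1 ∧ x ^ 5 ≠ 1) ∨ (x ≠ 1 ∧ x * c5 = c5 * x)

instance (x : P5) : Decidable (Bad x) := by unfold Bad; infer_instance

def kw1 (k : P5) : P5 := k * k * cj5 c5 k * cj5 c5 (cj5 c5 k)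
def kw2 (k : P5) : P5 := k * k * cj5 c5 (cj5 c5 k) * cj5 c5 k
def w3 (k : P5) : P5 := k * cj5 c5 k * k * cj5 c5 (cj5 c5 k)
def w4 (k : P5) : P5 := k * cj5 dd5 k * cj5 c5 k * cj5 dd5 (cj5 c5 k)
def w5 (k : P5) : P5 := k * cj5 c5 k * cj5 c5 (cj5 dd5 k)

theorem words_bad : ∀ k : P5, k ≠ 1 →
    Bad (kw1 k) ∨ Bad (kw2 k) ∨ Bad (w3 k) ∨ Bad (w4 k) ∨ Bad (w5 k) := by decide +kernel

theorem bad_four : ∀ x : P5, x ^ 4 ≠ 1 → x ^ 5 ≠ 1 → x ^ 3 = 1 ∨ x ^ 6 = 1 := by decide +kernel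

theorem cent_c5_cases : ∀ x : P5, x * c5 = c5 * x → x ^ 2 = 1 → x = 1 ∨ x = t5 := by decide +kernel

theorem cent_c5_pow : ∀ x : P5, x * c5 = c5 * x → x ^ 6 = 1 ∧ (x ^ 3 = 1 ∨ x ^ 2 = 1 ∨ x ^ 6 = 1) := by
  decide +kernel

theorem cent_V : ∀ l : P5, l * dd5 = dd5 * l → l * k5 = k5 * l → InV l := by decide +kernel

theorem InV_cases : ∀ v : P5, InV v → v * dd5 = dd5 * v ∧ v * k5 = k5 * v ∧ v * v = 1 ∧
    InV (b5 * v * b5⁻¹) := by decide +kernel

theorem InV_mul : ∀ v w : P5, InV v → InV w → InV (v * w) := by decide +kernel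

theorem h_t_h : ¬ (h5 * t5 * h5⁻¹ * dd5 = dd5 * (h5 * t5 * h5⁻¹)) := by decide +kernel

theorem b5_not_dd : ¬ (b5 * dd5 = dd5 * b5) ∧ ¬ (b5⁻¹ * dd5 = dd5 * b5⁻¹) := by decide +kernel

theorem fix_V : ∀ v : P5, InV v → v * b5 = b5 * v → v = 1 := by decide +kernel

theorem lift_V : ∀ v : P5, InV v → ∃ w : P5, InV w ∧ v * (b5 * w * b5⁻¹) = w := by decide +kernel

theorem cent_dd_invol : ∀ l : P5, l * l = 1 → l * dd5 = dd5 * l →
    l = 1 ∨ l = dd5 ∨ l = t5 ∨ l = dd5 * t5 ∨ l = k5 ∨ l = dd5 * k5 := by decide +kernel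

theorem a5_other : ∀ t : P5, IsEven t → t * t = 1 → t ≠ 1 →
    ∃ u : P5, IsEven u ∧ u * u = 1 ∧ u ≠ 1 ∧ u ≠ t ∧ u * t = t * u := by decide +kernel

theorem a5_two : ∀ t : P5, IsEven t → t * t = 1 → t ≠ 1 →
    ∀ u : P5, IsEven u → u * u = 1 → u ≠ 1 → u ≠ t → u * t = t * u →
    ∀ v : P5, IsEven v → v * v = 1 → v ≠ 1 → v ≠ t → v * t = t * v → v = u ∨ v = t * u := by
  set_option synthInstance.maxSize 4000 in set_option synthInstance.maxHeartbeats 400000 in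
  decide +kernel

theorem perm3_normal : ∀ a : P3, (∀ g : P3, g * a * g⁻¹ = a) → a = 1 := by decide

theorem conj_c5_pow : ∀ (a : P5) (j : Fin 3), (j : ℕ) ≠ 0 → a * c5 ^ (j : ℕ) = c5 ^ (j : ℕ) * a →
    a * c5 = c5 * a := by decide +kernel

theorem conj_c5_norm : ∀ (i : Fin 3) (e f : Fin 2),
    (c5 ^ (i : ℕ) * t5 ^ (e : ℕ) * f5 ^ (f : ℕ)) * c5 * (c5 ^ (i : ℕ) * t5 ^ (e : ℕ) * f5 ^ (f : ℕ))⁻¹ = c5 ∨
    (c5 ^ (i : ℕ) * t5 ^ (e : ℕ) * f5 ^ (f : ℕ)) * c5 * (c5 ^ (i : ℕ) * t5 ^ (e : ℕ) * f5 ^ (f : ℕ))⁻¹ = c5⁻¹ := by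
  decide +kernel

/-- A subgroup of `S₅` with elements of order 3, 5 and a four group contains `A₅`. -/
theorem even_mem {K : Subgroup P5} {x y u v : P5} (hx : x ∈ K) (hy : y ∈ K) (hu : u ∈ K) (hv : v ∈ K)
    (ox : x ^ 3 = 1 ∧ x ≠ 1) (oy : y ^ 5 = 1 ∧ y ≠ 1) (ou : u * u = 1) (ov : v * v = 1)
    (huv : u * v = v * u) (hne : u ≠ 1 ∧ v ≠ 1 ∧ u ≠ v) {l : P5} (hl : IsEven l) : l ∈ K := by
  classical
  have h3 : 3 ∣ Nat.card K := by
    have := Subgroup.orderOf_dvd_natCard K hx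
    rwa [@orderOf_eq_prime _ _ _ 3 ⟨Nat.prime_three⟩ ox.1 ox.2] at this
  have h5' : 5 ∣ Nat.card K := by
    have := Subgroup.orderOf_dvd_natCard K hy
    rwa [@orderOf_eq_prime _ _ _ 5 ⟨by norm_num⟩ oy.1 oy.2] at this
  have h4 : 4 ∣ Nat.card K := by
    let S : Subgroup P5 :=
      { carrier := {1, u, v, u * v}
        one_mem' := by simp
        mul_mem' := by
          intro a b ha hb
          simp only [Set.mem_insert_iff, Set.mem_singleton_iff] at ha hb ⊢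
          have e1 : ∀ a : P5, u * (u * a) = a := fun a => by rw [← mul_assoc, ou, one_mul]
          have e2 : ∀ a : P5, v * (v * a) = a := fun a => by rw [← mul_assoc, ov, one_mul]
          have e3 : ∀ a : P5, v * (u * a) = u * (v * a) := fun a => by
            rw [← mul_assoc, ← huv, mul_assoc]
          rcases ha with rfl | rfl | rfl | rfl <;> rcases hb with rfl | rfl | rfl | rfl <;>
            simp [mul_assoc, ou, ov, e1, e2, e3, ← huv]
        inv_mem' := by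
          intro a ha
          simp only [Set.mem_insert_iff, Set.mem_singleton_iff] at ha ⊢
          rcases ha with rfl | rfl | rfl | rfl
          · simp
          · simp [inv_eq_of_mul_eq_one_left ou]
          · simp [inv_eq_of_mul_eq_one_left ov]
          · simp [inv_eq_of_mul_eq_one_left ou, inv_eq_of_mul_eq_one_left ov, ← huv] }
    have hle : S ≤ K := by
      intro a ha
      rcases ha with rfl | rfl | rfl | rfl
      · exact one_mem _
      · exact hu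
      · exact hv
      · exact mul_mem hu hv
    have hcard : Nat.card S = 4 := by
      have h1 : u * v ≠ 1 := fun h => hne.2.2 ((eq_inv_of_mul_eq_one_left h).trans
        (inv_eq_of_mul_eq_one_left ov))
      have h2 : u * v ≠ u := fun h => hne.2.1 (by simpa using h)
      have h3' : u * v ≠ v := fun h => hne.1 (by simpa using h)
      show Nat.card ({1, u, v, u * v} : Set P5) = 4
      rw [Nat.card_coe_set_eq, Set.ncard_insert_of_notMem (by simp [hne.1.symm, hne.2.1.symm, h1.symm]),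
        Set.ncard_insert_of_notMem (by simp [hne.2.2, h2.symm]),
        Set.ncard_pair h3'.symm]
    exact hcard ▸ Subgroup.card_dvd_of_le hle
  have h60 : 60 ∣ Nat.card K := by
    have h12 : 12 ∣ Nat.card K := Nat.Coprime.mul_dvd_of_dvd_of_dvd (show Nat.Coprime 3 4 by norm_num) h3 h4
    exact Nat.Coprime.mul_dvd_of_dvd_of_dvd (show Nat.Coprime 12 5 by norm_num) h12 h5'
  obtain ⟨m, hm⟩ := h60
  have hidx := K.card_mul_index
  rw [hm, Nat.card_eq_fintype_card (α := P5), Fintype.card_perm, Fintype.card_fin,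
    show Nat.factorial 5 = 120 by rfl] at hidx
  have hKi : K.index = 1 ∨ K.index = 2 := by
    have : K.index ∣ 2 := ⟨m, by nlinarith⟩
    exact (Nat.dvd_prime Nat.prime_two).1 this
  rcases hKi with h | h
  · rw [Subgroup.index_eq_one.1 h]; trivial
  · rw [Equiv.Perm.eq_alternatingGroup_of_index_eq_two h]
    exact Equiv.Perm.mem_alternatingGroup.2 hl

namespace Data

variable {G : Type*} [Group G] (d : Data G)

/-- `L'(2 3)`. -/
def g1 : G := d.L' h5

/-- the conjugate of `z` normalising `⟨iota, c⟩`. -/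
def q : G := d.L' b5

/-- `C(iota) ∩ C(c)`. -/
abbrev X : Subgroup G := Subgroup.centralizer ({d.iota, d.cc} : Set G)

theorem mem_X {x : G} : x ∈ d.X ↔ Commute x d.iota ∧ Commute x d.cc := by
  rw [Subgroup.mem_centralizer_iff]
  simp only [Set.mem_insert_iff, Set.mem_singleton_iff, forall_eq_or_imp, forall_eq, Commute,
    SemiconjBy]
  exact ⟨fun h => ⟨h.1.symm, h.2.symm⟩, fun h => ⟨h.1.symm, h.2.symm⟩⟩

/-- `L'(V)`. -/
def Vs : Subgroup G :=
  ({ carrier := {v | InV v}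
     one_mem' := Or.inl rfl
     mul_mem' := fun ha hb => InV_mul _ _ ha hb
     inv_mem' := fun {a} ha => by
      show InV a⁻¹
      rwa [inv_eq_of_mul_eq_one_left (InV_cases a ha).2.2.1] } : Subgroup P5).map d.L'

theorem mem_Vs {x : G} : x ∈ d.Vs ↔ ∃ v : P5, InV v ∧ d.L' v = x := Iff.rfl

theorem g1_commute_z' : Commute d.z' d.g1 := d.z'_commute_L' _

theorem g1_conj_z : d.g1 * d.z * d.g1⁻¹ = d.q := by rw [g1, q, z_L', L'_conj]; rfl

theorem g1_conj_z' : d.g1 * d.z' * d.g1⁻¹ = d.z' := by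
  rw [← d.g1_commute_z'.eq, mul_inv_cancel_right]

variable (hB : d.alt = true)
include hB

theorem g1_conj_dd : d.g1 * d.L dd5 * d.g1⁻¹ = d.L dd5 := by
  rw [← d.F'_f3 hB, g1, L'_apply, ← map_inv, ← map_mul, ← map_mul]
  simp

theorem F'_mem_X {a : P3} {l : P5} (h1 : l * dd5 = dd5 * l) (h2 : l * k5 = k5 * l) :
    d.F' (a, l) ∈ d.X := by
  rw [mem_X, d.iota_L' hB, cc, L'_apply, L'_apply]
  constructor <;> rw [Commute, SemiconjBy, ← map_mul, ← map_mul] <;> simp [h1, h2]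

theorem Vs_le : d.Vs ≤ d.X := by
  rintro x ⟨v, hv, rfl⟩
  exact d.F'_mem_X hB (InV_cases v hv).1 (InV_cases v hv).2.1

theorem Vs_central {x v : G} (hx : x ∈ d.X) (hv : v ∈ d.Vs) : Commute x v := by
  obtain ⟨w, hw, rfl⟩ := hv
  obtain ⟨h1, h2⟩ := d.mem_X.1 hx
  rw [d.iota_L' hB] at h1
  rcases hw with rfl | rfl | rfl | rfl
  · rw [map_one]; exact Commute.one_right _
  · exact h1
  · exact h2
  · rw [map_mul]; exact h1.mul_right h2

theorem z'_mem_X : d.z' ∈ d.X := by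
  rw [d.z'_eq]; exact d.F'_mem_X hB (by simp) (by simp)

theorem ddL_mem_X : d.L dd5 ∈ d.X := by
  rw [← d.F'_f3 hB]; exact d.F'_mem_X hB (by simp) (by simp)

theorem cent_z'_X {x : G} (hx : x ∈ d.X) (h : Commute x d.z') :
    ∃ (i : Fin 3) (v : P5), InV v ∧ d.F' (r3 ^ (i : ℕ), v) = x := by
  obtain ⟨i, l, rfl⟩ := d.cent_z' h
  obtain ⟨h1, h2⟩ := d.mem_X.1 hx
  rw [d.iota_L' hB, L'_apply, Commute, SemiconjBy, ← map_mul, ← map_mul] at h1
  rw [cc, L'_apply, Commute, SemiconjBy, ← map_mul, ← map_mul] at h2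
  exact ⟨i, l, cent_V l (congrArg Prod.snd (d.F'_inj h1)) (congrArg Prod.snd (d.F'_inj h2)), rfl⟩

theorem q_conj_X {x : G} (hx : x ∈ d.X) : d.q * x * d.q⁻¹ ∈ d.X := by
  have key : ∀ v : P5, InV v → Commute (d.q * x * d.q⁻¹) (d.L' v) := by
    intro v hv
    have h : ∀ v : P5, InV v → InV (b5⁻¹ * v * b5) := by decide +kernel
    have h1 := (d.Vs_central hB hx ⟨_, h v hv, rfl⟩).map (MulAut.conj d.q).toMonoidHom
    simp only [MulEquiv.coe_toMonoidHom, MulAut.conj_apply] at h1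
    rwa [q, L'_conj, show b5 * (b5⁻¹ * v * b5) * b5⁻¹ = v by group] at h1
  rw [mem_X, d.iota_L' hB]
  exact ⟨key _ (Or.inr (Or.inl rfl)), key _ (Or.inr (Or.inr (Or.inl rfl)))⟩

theorem q_notMem_X : d.q ∉ d.X ∧ d.q⁻¹ ∉ d.X := by
  constructor <;> intro h <;> have h1 := (d.mem_X.1 h).1 <;> rw [d.iota_L' hB, q] at h1
  · rw [Commute, SemiconjBy, ← map_mul, ← map_mul] at h1
    exact b5_not_dd.1 (d.L'_inj h1)
  · rw [← map_inv, Commute, SemiconjBy, ← map_mul, ← map_mul] at h1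
    exact b5_not_dd.2 (d.L'_inj h1)

theorem g1_tau_notMem_X : d.g1 * d.tau * d.g1⁻¹ ∉ d.X := by
  intro h
  have h1 := (d.mem_X.1 h).1
  rw [d.iota_L' hB, d.tau_L', g1, L'_conj, Commute, SemiconjBy, ← map_mul, ← map_mul] at h1
  exact h_t_h (d.L'_inj h1)

variable [Finite G]

omit hB in
theorem norm_of_conj {W : Subgroup G} {a : G} (h : ∀ w ∈ W, a * w * a⁻¹ ∈ W) :
    a ∈ Subgroup.normalizer (W : Set G) := by
  rw [Subgroup.mem_normalizer_iff]
  refine fun w => ⟨h w, fun hw => ?_⟩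
  let f : W → W := fun u => ⟨a * u * a⁻¹, h u u.2⟩
  have hf : Function.Injective f := fun u v huv => Subtype.ext (by
    simpa [f] using congrArg Subtype.val huv)
  obtain ⟨u, hu⟩ := Finite.injective_iff_surjective.1 hf ⟨_, hw⟩
  have : (u : G) = w := by simpa [f] using congrArg Subtype.val hu
  exact this ▸ u.2

/-- A `3'`-subgroup normal in `X` and invariant under `q` lies in `Vs`. -/
theorem core_le (W : Subgroup G) (hWX : W ≤ d.X) (hcop : (Nat.card W).Coprime 3)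
    (hn : ∀ x ∈ d.X, ∀ w ∈ W, x * w * x⁻¹ ∈ W) (hq : ∀ w ∈ W, d.q * w * d.q⁻¹ ∈ W) :
    W ≤ d.Vs := by
  set A := (d.P : Subgroup G).map (MulAut.conj d.g1).toMonoidHom with hA
  have hAc : IsMulCommutative A := ⟨⟨fun a b => by
    obtain ⟨_, p, hp, rfl⟩ := a
    obtain ⟨_, p', hp', rfl⟩ := b
    exact Subtype.ext ((d.comm_P hp hp').map (MulAut.conj d.g1).toMonoidHom).eq⟩⟩
  have hcardA : Nat.card A = 9 := by
    rw [hA, Subgroup.card_map_of_injective (MulEquiv.injective _), d.card_P]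
  have hAnc : ¬ IsCyclic A := by
    intro hc
    obtain ⟨a, ha⟩ := hc.exists_ofOrder_eq_natCard
    obtain ⟨p, hp, hpa⟩ := a.2
    have h3 : a ^ 3 = 1 := Subtype.ext (by
      rw [Subgroup.coe_pow, ← hpa, ← map_pow, d.cube_P hp, map_one]; rfl)
    have := orderOf_dvd_of_pow_eq_one h3
    rw [ha, hcardA] at this
    norm_num at this
  have hAN : A ≤ Subgroup.normalizer (W : Set G) := by
    rintro _ ⟨p, hp, rfl⟩
    obtain ⟨i, j, rfl⟩ := (d.memP p).1 hp
    have : d.F (r3 ^ (i : ℕ), c5 ^ (j : ℕ)) = d.z ^ (i : ℕ) * d.z' ^ (j : ℕ) := by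
      rw [z, z', ← map_pow, ← map_pow, ← map_mul]; simp
    rw [this, map_mul, map_pow, map_pow, MulEquiv.coe_toMonoidHom, MulAut.conj_apply,
      MulAut.conj_apply, g1_conj_z, g1_conj_z']
    exact mul_mem (pow_mem (norm_of_conj hq) _)
      (pow_mem (norm_of_conj (hn _ (d.z'_mem_X hB))) _)
  have hWpow : ∀ w ∈ W, w ^ Nat.card W = 1 := fun w hw =>
    orderOf_dvd_iff_pow_eq_one.1 (Subgroup.orderOf_dvd_natCard W hw)
  have hr : ∀ i : Fin 3, (r3 ^ (i : ℕ)) ^ Nat.card W = 1 → r3 ^ (i : ℕ) = 1 := by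
    intro i h
    refine orderOf_eq_one_iff.1 (Nat.dvd_one.1 ?_)
    rw [← hcop]
    refine Nat.dvd_gcd (orderOf_dvd_of_pow_eq_one h) (orderOf_dvd_of_pow_eq_one ?_)
    rw [← pow_mul, mul_comm, pow_mul, r3_cube, one_pow]
  -- the centraliser of `z'`
  have hfix' : ∀ w ∈ W, Commute w d.z' → w ∈ d.Vs := by
    intro w hw h
    obtain ⟨i, v, hv, rfl⟩ := d.cent_z'_X hB (hWX hw) h
    have := hWpow _ hw
    rw [← map_pow] at this
    have h1 := hr i (congrArg Prod.fst (d.F'_inj (this.trans (map_one d.F').symm)))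
    exact ⟨v, hv, by rw [L'_apply, h1]⟩
  have hback : ∀ {w v : G}, Commute w (d.g1 * v * d.g1⁻¹) → Commute (d.g1⁻¹ * w * d.g1) v := by
    intro w v h
    have := h.map (MulAut.conj d.g1⁻¹).toMonoidHom
    simpa [mul_assoc] using this
  have hfwd : ∀ {w : G}, Commute (d.g1⁻¹ * w * d.g1) d.z' → Commute w d.z' := by
    intro w h
    have := h.map (MulAut.conj d.g1).toMonoidHom
    simp only [MulEquiv.coe_toMonoidHom, MulAut.conj_apply, d.g1_conj_z'] at this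
    rwa [show d.g1 * (d.g1⁻¹ * w * d.g1) * d.g1⁻¹ = w by group] at this
  refine CoprimeGen.le_of_centralizers (A := A) hAnc hAN
    (by rw [hcardA, show (9 : ℕ) = 3 ^ 2 by norm_num]; exact (Nat.Coprime.symm hcop).pow_left 2) ?_
  rintro _ ⟨p, hp, rfl⟩ hne w ⟨hw, hwc⟩
  replace hne : p ≠ 1 := fun h => hne (by rw [h, map_one])
  have hw0 : Commute (d.g1⁻¹ * w * d.g1) p :=
    hback (Subgroup.mem_centralizer_singleton_iff.1 hwc)
  obtain ⟨i, j, rfl⟩ := (d.memP p).1 hp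
  by_cases hj : (j : ℕ) = 0
  · -- the centraliser of `q`
    have hi : (i : ℕ) ≠ 0 := fun hi => hne (by rw [hi, hj]; simp [show ((1 : P3), (1 : P5)) = 1 from rfl])
    have hz : Commute (d.g1⁻¹ * w * d.g1) d.z := by
      rw [hj, pow_zero, show d.F (r3 ^ (i : ℕ), 1) = d.z ^ (i : ℕ) by
        rw [z, ← map_pow]; simp] at hw0
      rcases (show ∀ i : Fin 3, (i : ℕ) ≠ 0 → (i : ℕ) = 1 ∨ (i : ℕ) = 2 by decide) i hi with e | e <;>
        rw [e] at hw0
      · simpa using hw0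
      · have h2 := hw0.pow_right 2
        rwa [← pow_mul, show d.z ^ (2 * 2) = d.z by
          rw [← pow_mod_orderOf, d.orderOf_z]; simp] at h2
    obtain ⟨k, l, hkl⟩ := d.cent_z hz
    have hweq : d.g1 * d.F (r3 ^ (k : ℕ), l) * d.g1⁻¹ = w := by rw [hkl]; group
    have hk := hWpow _ hw
    rw [← hweq, conj_pow, conj_eq_one_iff, ← map_pow] at hk
    have hk1 := hr k (congrArg Prod.fst (d.inj (hk.trans (map_one d.F).symm)))
    rw [hk1] at hweq
    -- the subgroup of labels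
    set K := W.comap ((MulAut.conj d.g1).toMonoidHom.comp d.L) with hK
    have hKmem : ∀ m, m ∈ K ↔ d.g1 * d.L m * d.g1⁻¹ ∈ W := fun m => Iff.rfl
    have hlK : l ∈ K := by rw [hKmem, L_apply, hweq]; exact hw
    have hinv : ∀ u : P5, d.g1 * d.L u * d.g1⁻¹ ∈ d.X → ∀ m ∈ K, cj5 u m ∈ K := by
      intro u hu m hm
      rw [hKmem] at hm ⊢
      have := hn _ hu _ hm
      rwa [cj5, ← d.L_conj, show d.g1 * (d.L u * d.L m * (d.L u)⁻¹) * d.g1⁻¹ =
        d.g1 * d.L u * d.g1⁻¹ * (d.g1 * d.L m * d.g1⁻¹) * (d.g1 * d.L u * d.g1⁻¹)⁻¹ by group]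
    have hc : ∀ m ∈ K, cj5 c5 m ∈ K := hinv c5 (by
      rw [← d.z'_L, d.g1_conj_z']; exact d.z'_mem_X hB)
    have hd : ∀ m ∈ K, cj5 dd5 m ∈ K := hinv dd5 (by
      rw [d.g1_conj_dd hB]; exact d.ddL_mem_X hB)
    have hnobad : ∀ m ∈ K, ¬ Bad m := by
      intro m hm hbad
      have hpw : m ^ Nat.card W = 1 := by
        have := hWpow _ ((hKmem m).1 hm)
        rw [conj_pow, conj_eq_one_iff, ← map_pow] at this
        exact d.L_inj (this.trans (map_one d.L).symm)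
      have hcube : ∀ m' : P5, m' ^ 3 = 1 → m' ^ Nat.card W = 1 → m' = 1 := fun m' h3 hW =>
        orderOf_eq_one_iff.1 (Nat.dvd_one.1 (hcop ▸
          Nat.dvd_gcd (orderOf_dvd_of_pow_eq_one hW) (orderOf_dvd_of_pow_eq_one h3)))
      have hp2 : ∀ n : ℕ, (m ^ n) ^ Nat.card W = 1 := fun n => by
        rw [← pow_mul, mul_comm, pow_mul, hpw, one_pow]
      rcases hbad with ⟨h4, h5⟩ | ⟨h1, hcm⟩
      · rcases bad_four m h4 h5 with h | h
        · exact h4 (by rw [hcube m h hpw, one_pow])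
        · have h2 := hcube (m ^ 2) (by rw [← pow_mul]; exact h) (hp2 2)
          exact h4 (by rw [show (4 : ℕ) = 2 * 2 by norm_num, pow_mul, h2, one_pow])
      · have h2 := hcube (m ^ 2) (by rw [← pow_mul]; exact (cent_c5_pow m hcm).1) (hp2 2)
        rcases cent_c5_cases m hcm h2 with rfl | rfl
        · exact h1 rfl
        · rw [hKmem, ← d.tau_L] at hm
          exact d.g1_tau_notMem_X hB (hWX hm)
    have hl1 : l = 1 := by
      by_contra hl
      have hk0 := hlK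
      rcases words_bad l hl with h | h | h | h | h
      · exact hnobad _ (mul_mem (mul_mem (mul_mem hk0 hk0) (hc _ hk0)) (hc _ (hc _ hk0))) h
      · exact hnobad _ (mul_mem (mul_mem (mul_mem hk0 hk0) (hc _ (hc _ hk0))) (hc _ hk0)) h
      · exact hnobad _ (mul_mem (mul_mem (mul_mem hk0 (hc _ hk0)) hk0) (hc _ (hc _ hk0))) h
      · exact hnobad _ (mul_mem (mul_mem (mul_mem hk0 (hd _ hk0)) (hc _ hk0)) (hd _ (hc _ hk0))) h
      · exact hnobad _ (mul_mem (mul_mem hk0 (hc _ hk0)) (hc _ (hd _ hk0))) h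
    rw [hl1, show ((1 : P3), (1 : P5)) = 1 from rfl, map_one, mul_one, mul_inv_cancel] at hweq
    rw [← hweq]; exact one_mem _
  by_cases hi : (i : ℕ) = 0
  · -- the centraliser of `z'`
    refine hfix' w hw (hfwd ?_)
    rw [hi, pow_zero, show d.F ((1 : P3), c5 ^ (j : ℕ)) = d.z' ^ (j : ℕ) by
      rw [z', ← map_pow]; simp] at hw0
    rcases (show ∀ j : Fin 3, (j : ℕ) ≠ 0 → (j : ℕ) = 1 ∨ (j : ℕ) = 2 by decide) j hj with e | e <;>
      rw [e] at hw0
    · simpa using hw0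
    · have h2 := hw0.pow_right 2
      rwa [← pow_mul, show d.z' ^ (2 * 2) = d.z' by
        rw [← pow_mod_orderOf, d.orderOf_z']; simp] at h2
  -- mixed elements
  refine hfix' w hw (hfwd ?_)
  set w0 := d.g1⁻¹ * w * d.g1 with hw0def
  obtain ⟨a, u, e, f, k, hwe⟩ := d.normalizer_form (d.cent_le_normalizer hi hj hw0)
  rcases (show ∀ k : Fin 2, k = 0 ∨ k = 1 by decide) k with rfl | rfl
  · rw [Fin.val_zero, pow_zero, one_mul] at hwe
    rw [← hwe] at hw0 ⊢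
    rw [Commute, SemiconjBy, ← map_mul, ← map_mul] at hw0
    have h1 : (c5 ^ (u : ℕ) * t5 ^ (e : ℕ) * f5 ^ (f : ℕ)) * c5 ^ (j : ℕ) =
        c5 ^ (j : ℕ) * (c5 ^ (u : ℕ) * t5 ^ (e : ℕ) * f5 ^ (f : ℕ)) :=
      congrArg Prod.snd (d.inj hw0)
    rw [z', Commute, SemiconjBy, ← map_mul, ← map_mul, Prod.mk_mul_mk, Prod.mk_mul_mk,
      mul_one, one_mul, conj_c5_pow _ j hj h1]
  · exfalso
    simp only [Fin.val_one, pow_one] at hwe
    set m := c5 ^ (u : ℕ) * t5 ^ (e : ℕ) * f5 ^ (f : ℕ) with hm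
    have hwz : w * d.z' * w⁻¹ = d.g1 * d.cs (d.F (1, m * c5 * m⁻¹)) * d.g1⁻¹ := by
      have hz : w * d.z' * w⁻¹ = d.g1 * (w0 * d.z' * w0⁻¹) * d.g1⁻¹ := by
        conv_lhs => rw [← d.g1_conj_z']
        rw [hw0def]; group
      rw [hz, ← hwe, mul_inv_rev, show d.s * d.F (a, m) * d.z' * ((d.F (a, m))⁻¹ * d.s⁻¹) =
        d.s * (d.F (a, m) * d.z' * (d.F (a, m))⁻¹) * d.s⁻¹ by group, z', F_conj, conj_s]
      simp
    have hmem : w * d.z' * w⁻¹ ∈ d.X :=
      mul_mem (mul_mem (hWX hw) (d.z'_mem_X hB)) (inv_mem (hWX hw))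
    rw [hwz] at hmem
    rcases conj_c5_norm u e f with h | h <;> rw [← hm] at h <;> rw [h] at hmem
    · rw [← z', d.cs_z', d.g1_conj_z] at hmem
      exact (d.q_notMem_X hB).1 hmem
    · rw [show d.F (1, c5⁻¹) = d.z'⁻¹ by rw [z', F_inv, inv_one], map_inv, d.cs_z',
        show d.g1 * d.z⁻¹ * d.g1⁻¹ = (d.g1 * d.z * d.g1⁻¹)⁻¹ by group, d.g1_conj_z] at hmem
      exact (d.q_notMem_X hB).2 hmem

end Data

end Cfsg.Agent.Sym8Three96
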