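import Cfsg.Agent.Lib.Sym8ThreeFour96
import Cfsg.Agent.Lib.PSLCard

/-!
# The two possibilities for `C(iota) ∩ C(c)`
-/

set_option autoImplicit false

namespace Cfsg.Agent.Sym8Three96

open Equiv

theorem p5_seven : ∀ l : P5, l ^ 7 = 1 → l = 1 := by decide +kernel

theorem p3_seven : ∀ i : Fin 3, (r3 ^ (i : ℕ)) ^ 7 = 1 → r3 ^ (i : ℕ) = 1 := by
  decide +kernel

theorem central_even : ∀ l : P5, IsEven l → l * c5 = c5 * l → l * k5 = k5 * l → l = 1 := by
  decide +kernel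

theorem even_inv_mul : IsEven (1 : P5) ∧ IsEven c5 ∧ IsEven dd5 ∧ IsEven k5 ∧
    IsEven (h5 * t5) ∧ ∀ a b : P5, IsEven a → IsEven b → IsEven (a * b) :=
  ⟨by decide +kernel, by decide +kernel, by decide +kernel, by decide +kernel, by decide +kernel,
    fun a b ha hb => by
      show Equiv.Perm.sign (a * b) = 1
      rw [map_mul, show Equiv.Perm.sign a = 1 from ha, show Equiv.Perm.sign b = 1 from hb, one_mul]⟩

theorem even_conj4 : ∀ a b : P5, IsEven b → IsEven (a * b * a⁻¹) := fun a b hb => by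
  show Equiv.Perm.sign (a * b * a⁻¹) = 1
  rw [map_mul, map_mul, show Equiv.Perm.sign b = 1 from hb, mul_one, map_inv, mul_inv_cancel]

theorem perm3_coprime (N : Subgroup P3) [hN : N.Normal] (h : (Nat.card N).Coprime 3) : N = ⊥ := by
  rw [Subgroup.eq_bot_iff_forall]
  intro a ha
  refine perm3_normal a fun g => ?_
  have hd : Nat.card N ∣ 2 := by
    have h6 := N.card_subgroup_dvd_card
    rw [Nat.card_eq_fintype_card (α := P3), Fintype.card_perm, Fintype.card_fin,
      show Nat.factorial 3 = 3 * 2 by rfl] at h6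
    exact h.dvd_of_dvd_mul_left h6
  have h2 : ∀ x ∈ N, x = 1 ∨ x = a ∨ a = 1 := by
    intro x hx
    by_contra hcon
    simp only [not_or] at hcon
    have : 3 ≤ Nat.card N := by
      let f : Fin 3 → N := ![1, ⟨a, ha⟩, ⟨x, hx⟩]
      have hf : Function.Injective f := by
        intro i j hij
        fin_cases i <;> fin_cases j <;>
          simp [f, Subtype.ext_iff, hcon.1, hcon.2.1, hcon.2.2, Ne.symm hcon.1, Ne.symm hcon.2.1,
            Ne.symm hcon.2.2] at hij ⊢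
      simpa using Nat.card_le_card_of_injective f hf
    have := Nat.le_of_dvd (by norm_num) hd
    omega
  rcases h2 _ (hN.conj_mem a ha g) with e | e | e
  · rw [conj_eq_one_iff] at e; rw [e]; group
  · exact e
  · rw [e]; group

namespace Data

variable {G : Type*} [Group G] (d : Data G) [Finite G]

omit [Finite G] in
theorem card_Vs : Nat.card d.Vs = 4 := by
  rw [Vs, Subgroup.card_map_of_injective d.L'_inj]
  show Nat.card {v : P5 // InV v} = 4
  rw [Nat.card_eq_fintype_card]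
  decide +kernel

theorem cent_seven {u : G} (hu : u ^ 7 = 1) {p : G} (hp : p ∈ (d.P : Subgroup G)) (hp1 : p ≠ 1)
    (h : Commute u p) : u = 1 := by
  obtain ⟨i, j, rfl⟩ := (d.memP p).1 hp
  have hcz : ∀ w : G, w ^ 7 = 1 → Commute w d.z → w = 1 := by
    intro w hw hwz
    obtain ⟨k, l, rfl⟩ := d.cent_z hwz
    rw [← map_pow] at hw
    have h1 := d.inj (hw.trans (map_one d.F).symm)
    rw [p5_seven l (congrArg Prod.snd h1), p3_seven k (congrArg Prod.fst h1)]
    exact map_one d.F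
  by_cases hj : (j : ℕ) = 0
  · have hi : (i : ℕ) ≠ 0 := fun hi => hp1 (by
      rw [hi, hj]; simp [show ((1 : P3), (1 : P5)) = 1 from rfl])
    rw [hj, pow_zero, show d.F (r3 ^ (i : ℕ), 1) = d.z ^ (i : ℕ) by rw [z, ← map_pow]; simp] at h
    refine hcz u hu ?_
    rcases (show ∀ i : Fin 3, (i : ℕ) ≠ 0 → (i : ℕ) = 1 ∨ (i : ℕ) = 2 by decide) i hi with e | e <;>
      rw [e] at h
    · simpa using h
    · have h2 := h.pow_right 2
      rwa [← pow_mul, show d.z ^ (2 * 2) = d.z by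
        rw [← pow_mod_orderOf, d.orderOf_z]; simp] at h2
  by_cases hi : (i : ℕ) = 0
  · rw [hi, pow_zero, show d.F ((1 : P3), c5 ^ (j : ℕ)) = d.z' ^ (j : ℕ) by
      rw [z', ← map_pow]; simp] at h
    have h2 : Commute u d.z' := by
      rcases (show ∀ j : Fin 3, (j : ℕ) ≠ 0 → (j : ℕ) = 1 ∨ (j : ℕ) = 2 by decide) j hj with e | e <;>
        rw [e] at h
      · simpa using h
      · have h2 := h.pow_right 2
        rwa [← pow_mul, show d.z' ^ (2 * 2) = d.z' by
          rw [← pow_mod_orderOf, d.orderOf_z']; simp] at h2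
    have h3 := hcz (d.cs u) (by rw [← map_pow, hu, map_one]) (by rw [← d.cs_z']; exact h2.map d.cs)
    rw [← d.cs_cs u, h3, map_one]
  obtain ⟨a, b, ha, hb⟩ := to_y_type i j hi hj
  have hc : Nat.card (Subgroup.centralizer ({d.F (r3 ^ (i : ℕ), c5 ^ (j : ℕ))} : Set G)) = 36 := by
    rw [← card_cent_conj' (d.F (f3 ^ (a : ℕ), f5 ^ (b : ℕ))), F_conj, ha, hb, d.card_y]
  have hd := Subgroup.orderOf_dvd_natCard _
    (Subgroup.mem_centralizer_singleton_iff.2 h.eq : u ∈ Subgroup.centralizer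
      ({d.F (r3 ^ (i : ℕ), c5 ^ (j : ℕ))} : Set G))
  rw [hc] at hd
  exact orderOf_eq_one_iff.1 (Nat.dvd_one.1
    ((show Nat.gcd 7 36 = 1 by norm_num) ▸ Nat.dvd_gcd (orderOf_dvd_of_pow_eq_one hu) hd))

/-- No `PSL(2,7)`. -/
theorem no_seven (hB : d.alt = true) (hcard : Nat.card d.X = 672) : False := by
  haveI : Fact (Nat.Prime 7) := ⟨by norm_num⟩
  haveI : Fact (Nat.Prime 3) := ⟨Nat.prime_three⟩
  set A := (d.P : Subgroup G).map (MulAut.conj d.g1).toMonoidHom with hA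
  have hAN : ∀ a ∈ A, a ∈ Subgroup.normalizer (d.X : Set G) := by
    rintro _ ⟨p, hp, rfl⟩
    obtain ⟨i, j, rfl⟩ := (d.memP p).1 hp
    have : d.F (r3 ^ (i : ℕ), c5 ^ (j : ℕ)) = d.z ^ (i : ℕ) * d.z' ^ (j : ℕ) := by
      rw [z, z', ← map_pow, ← map_pow, ← map_mul]; simp
    rw [this, map_mul, map_pow, map_pow, MulEquiv.coe_toMonoidHom, MulAut.conj_apply,
      MulAut.conj_apply, g1_conj_z, g1_conj_z']
    exact mul_mem (pow_mem (norm_of_conj fun x hx => d.q_conj_X hB hx) _)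
      (pow_mem (Subgroup.le_normalizer (d.z'_mem_X hB)) _)
  let ψ : A →* MulAut d.X :=
    { toFun := fun a =>
        { toFun := fun x => ⟨(a : G) * x * (a : G)⁻¹,
            (Subgroup.mem_normalizer_iff.1 (hAN a a.2) _).1 x.2⟩
          invFun := fun x => ⟨(a : G)⁻¹ * x * (a : G), by
            have := (Subgroup.mem_normalizer_iff.1 (inv_mem (hAN a a.2)) _).1 x.2
            simpa using this⟩
          left_inv := fun x => Subtype.ext (by simp [mul_assoc])
          right_inv := fun x => Subtype.ext (by simp [mul_assoc])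
          map_mul' := fun x y => Subtype.ext (by simp [mul_assoc]) }
      map_one' := by ext x; simp
      map_mul' := fun a b => by ext x; simp [mul_assoc] }
  letI : MulAction A (Sylow 7 d.X) := MulAction.compHom _ ψ
  have hpA : IsPGroup 3 A := IsPGroup.of_card (n := 2) (by
    rw [hA, Subgroup.card_map_of_injective (MulEquiv.injective _), d.card_P]; norm_num)
  have hn7 : ¬ 3 ∣ Nat.card (Sylow 7 d.X) := by
    intro h3
    have h1 := card_sylow_modEq_one 7 d.X
    set n := Nat.card (Sylow 7 d.X) with hn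
    have hd : n ∣ 672 := hcard ▸ (Sylow.card_dvd_index (default : Sylow 7 d.X)).trans
      (Subgroup.index_dvd_card _)
    have h96 : n ∣ 96 := by
      refine (Nat.Coprime.dvd_of_dvd_mul_right ?_ (show n ∣ 96 * 7 by norm_num; exact hd))
      refine ((Nat.Prime.coprime_iff_not_dvd (by norm_num)).2 fun h7 => ?_).symm
      rw [Nat.ModEq, Nat.mod_eq_zero_of_dvd h7] at h1
      norm_num at h1
    have : ∀ n : Fin 97, (n : ℕ) ∣ 96 → (n : ℕ) % 7 = 1 → ¬ 3 ∣ (n : ℕ) := by decide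
    have hle := Nat.le_of_dvd (by norm_num) h96
    exact this ⟨n, by omega⟩ h96 (by simpa [Nat.ModEq] using h1) h3
  obtain ⟨S, hS⟩ : (MulAction.fixedPoints A (Sylow 7 d.X)).Nonempty := by
    by_contra hne
    rw [Set.not_nonempty_iff_eq_empty] at hne
    have := hpA.card_modEq_card_fixedPoints (α := Sylow 7 d.X)
    rw [hne] at this
    simp [Nat.ModEq] at this
    exact hn7 (Nat.dvd_of_mod_eq_zero this)
  have h7 : Nat.card (S : Subgroup d.X) = 7 := by
    have hd := (S : Subgroup d.X).card_subgroup_dvd_card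
    have h71 := S.pow_dvd_card_of_pow_dvd_card (n := 1) (by rw [hcard]; norm_num)
    obtain ⟨k, hk⟩ := IsPGroup.iff_card.1 S.2
    rw [hk] at hd h71 ⊢
    rw [hcard] at hd
    have : k ≤ 1 := by
      by_contra hk2
      have : 7 ^ 2 ∣ 672 := (pow_dvd_pow 7 (by omega)).trans hd
      norm_num at this
    interval_cases k
    · norm_num at h71
    · norm_num
  obtain ⟨u, hu⟩ := (isCyclic_of_prime_card h7).exists_generator
  let f : A → (S : Subgroup d.X) := fun a => ⟨ψ a (u : d.X), by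
    have h2 : ψ a (u : d.X) ∈ ((a • S : Sylow 7 d.X) : Subgroup d.X) := ⟨_, u.2, rfl⟩
    rwa [hS a] at h2⟩
  have hu7 : u ^ 7 = 1 := by
    have h := pow_card_eq_one' (x := u)
    rwa [h7] at h
  have hu1 : u ≠ 1 := by
    intro h
    have := orderOf_eq_card_of_forall_mem_zpowers hu
    rw [h, orderOf_one, h7] at this
    norm_num at this
  obtain ⟨a, b, hne, hab⟩ : ∃ a b : A, a ≠ b ∧ f a = f b := by
    by_contra hcon
    have hf : Function.Injective f := fun a b h => by_contra fun hne => hcon ⟨a, b, hne, h⟩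
    have := Nat.card_le_card_of_injective f hf
    rw [h7, hA, Subgroup.card_map_of_injective (MulEquiv.injective _), d.card_P] at this
    omega
  have hab' : (a : G) * ((u : d.X) : G) * (a : G)⁻¹ = (b : G) * ((u : d.X) : G) * (b : G)⁻¹ :=
    congrArg (fun x : (S : Subgroup d.X) => ((x : d.X) : G)) hab
  obtain ⟨p, hp, hpe⟩ : ((a : G)⁻¹ * (b : G)) ∈ A := mul_mem (inv_mem a.2) b.2
  have hp1 : p ≠ 1 := by
    rintro rfl
    rw [map_one] at hpe
    exact hne (Subtype.ext (inv_mul_eq_one.1 hpe.symm))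
  have hcm : Commute ((u : d.X) : G) ((a : G)⁻¹ * (b : G)) := by
    show _ * _ = _ * _
    calc ((u : d.X) : G) * ((a : G)⁻¹ * (b : G))
        = (a : G)⁻¹ * ((a : G) * ((u : d.X) : G) * (a : G)⁻¹) * (b : G) := by group
      _ = (a : G)⁻¹ * ((b : G) * ((u : d.X) : G) * (b : G)⁻¹) * (b : G) := by rw [hab']
      _ = (a : G)⁻¹ * (b : G) * ((u : d.X) : G) := by group
  rw [← hpe] at hcm
  have hc2 := hcm.map (MulAut.conj d.g1⁻¹).toMonoidHom
  have hc3 : Commute (d.g1⁻¹ * ((u : d.X) : G) * d.g1) p := by simpa [mul_assoc] using hc2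
  have h1 := d.cent_seven (by
    rw [show d.g1⁻¹ * ((u : d.X) : G) * d.g1 = d.g1⁻¹ * ((u : d.X) : G) * d.g1⁻¹⁻¹ by group,
      conj_pow, ← Subgroup.coe_pow, ← Subgroup.coe_pow, hu7]
    simp) hp hp1 hc3
  refine hu1 (Subtype.ext (Subtype.ext ?_))
  show ((u : d.X) : G) = 1
  calc ((u : d.X) : G) = d.g1 * (d.g1⁻¹ * ((u : d.X) : G) * d.g1) * d.g1⁻¹ := by group
    _ = 1 := by rw [h1]; group

/-- The `A₅` case. -/
theorem big_of_lift (hB : d.alt = true) (hcard : Nat.card d.X = 240) {x : G} (hx : x ∈ d.X)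
    (hx1 : x ∉ d.Vs) (hxt : d.L dd5 * x ∉ d.Vs) (hx2 : x * x ∈ d.Vs)
    (hxc : (d.L dd5 * x)⁻¹ * (x * d.L dd5) ∈ d.Vs)
    (hxq : x⁻¹ * (d.q * x * d.q⁻¹) ∈ d.Vs) : d.IsBig := by
  have hgq : d.g1 * d.z * d.g1⁻¹ = d.q := d.g1_conj_z
  obtain ⟨v0, hv0, hv0e⟩ := hxq
  obtain ⟨w, hw, hwv⟩ := lift_V v0 hv0
  set x' := x * d.L' w with hx'
  have hw' : d.L' w ∈ d.Vs := ⟨w, hw, rfl⟩
  have hx'X : x' ∈ d.X := mul_mem hx (d.Vs_le hB hw')
  have hq' : d.q * x' * d.q⁻¹ = x' := by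
    rw [hx', show d.q * (x * d.L' w) * d.q⁻¹ = d.q * x * d.q⁻¹ * (d.q * d.L' w * d.q⁻¹) by group,
      show d.q * x * d.q⁻¹ = x * d.L' v0 by rw [hv0e]; group, mul_assoc, q, L'_conj, ← map_mul, hwv]
  have hqdd : Commute d.q (d.L dd5) := by
    rw [← d.F'_f3 hB, q, L'_apply, Commute, SemiconjBy, ← map_mul, ← map_mul]; simp
  have hfixV : ∀ y ∈ d.Vs, d.q * y * d.q⁻¹ = y → y = 1 := by
    rintro y ⟨v, hv, rfl⟩ h
    rw [q, L'_conj] at h
    rw [fix_V v hv (mul_inv_eq_iff_eq_mul.1 (d.L'_inj h)).symm, map_one]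
  -- the lift is an involution commuting with `L dd`
  have hcx : Commute x (d.L' w) := d.Vs_central hB hx hw'
  have hsq : x' * x' = 1 := by
    refine hfixV _ ?_ ?_
    · rw [hx', hcx.symm.mul_mul_mul_comm]
      exact mul_mem hx2 (mul_mem hw' hw')
    · rw [show d.q * (x' * x') * d.q⁻¹ = (d.q * x' * d.q⁻¹) * (d.q * x' * d.q⁻¹) by group, hq']
  have hdd : Commute x' (d.L dd5) := by
    have h1 : (d.L dd5 * x')⁻¹ * (x' * d.L dd5) = 1 := by
      refine hfixV _ ?_ ?_
      · have e : (d.L dd5 * x')⁻¹ * (x' * d.L dd5) = (d.L dd5 * x)⁻¹ * (x * d.L dd5) := by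
          have h2 : Commute (d.L' w) (d.L dd5) :=
            (d.Vs_central hB (d.ddL_mem_X hB) hw').symm
          rw [hx', mul_inv_rev, mul_inv_rev, mul_assoc x, h2.eq, ← mul_assoc x, mul_inv_rev]
          have h3 : ∀ a : G, (a ∈ d.X) → (d.L' w)⁻¹ * a = a * (d.L' w)⁻¹ := fun a ha =>
            (d.Vs_central hB ha hw').symm.inv_left.eq
          rw [mul_assoc (d.L' w)⁻¹, mul_assoc (d.L' w)⁻¹, ← mul_assoc (x⁻¹ * (d.L dd5)⁻¹)]
          rw [h3 _ (mul_mem (mul_mem (mul_mem (inv_mem hx) (inv_mem (d.ddL_mem_X hB)))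
            (mul_mem hx (d.ddL_mem_X hB))) (d.Vs_le hB hw'))]
          group
        rw [e]; exact hxc
      · rw [show d.q * ((d.L dd5 * x')⁻¹ * (x' * d.L dd5)) * d.q⁻¹ =
          ((d.q * d.L dd5 * d.q⁻¹) * (d.q * x' * d.q⁻¹))⁻¹ *
            ((d.q * x' * d.q⁻¹) * (d.q * d.L dd5 * d.q⁻¹)) by group, hq', hqdd.eq,
          mul_inv_cancel_right]
    exact (inv_mul_eq_one.1 h1).symm
  obtain ⟨i, l, hil⟩ := d.cent_z (g := d.g1⁻¹ * x' * d.g1) (by
    have h : Commute x' (d.g1 * d.z * d.g1⁻¹) := by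
      rw [hgq]; exact (mul_inv_eq_iff_eq_mul.1 hq').symm
    have := h.map (MulAut.conj d.g1⁻¹).toMonoidHom
    simpa [mul_assoc] using this)
  have hxe : x' = d.g1 * d.F (r3 ^ (i : ℕ), l) * d.g1⁻¹ := by rw [hil]; group
  have hx'1 : x' ∉ d.Vs := fun h => hx1 (by
    have := mul_mem h (inv_mem hw')
    rwa [hx', mul_inv_cancel_right] at this)
  have hx't : d.L dd5 * x' ∉ d.Vs := fun h => hxt (by
    have := mul_mem h (inv_mem hw')
    rwa [hx', ← mul_assoc, mul_inv_cancel_right] at this)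
  rw [hxe, show d.g1 * d.F (r3 ^ (i : ℕ), l) * d.g1⁻¹ * (d.g1 * d.F (r3 ^ (i : ℕ), l) * d.g1⁻¹) =
    d.g1 * (d.F (r3 ^ (i : ℕ), l) * d.F (r3 ^ (i : ℕ), l)) * d.g1⁻¹ by group, conj_eq_one_iff,
    ← map_mul] at hsq
  have hsq' := d.inj (hsq.trans (map_one d.F).symm)
  have hi : r3 ^ (i : ℕ) = 1 := (show ∀ i : Fin 3, r3 ^ (i : ℕ) * r3 ^ (i : ℕ) = 1 → r3 ^ (i : ℕ) = 1
    by decide) i (congrArg Prod.fst hsq')
  have hl2 : l * l = 1 := congrArg Prod.snd hsq'
  rw [hi, ← L_apply] at hxe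
  have hld : l * dd5 = dd5 * l := by
    rw [hxe, ← d.g1_conj_dd hB, Commute, SemiconjBy] at hdd
    refine d.L_inj ?_
    rw [map_mul, map_mul]
    have := congrArg (fun y => d.g1⁻¹ * y * d.g1) hdd
    simpa [mul_assoc] using this
  set K := d.X.comap ((MulAut.conj d.g1).toMonoidHom.comp d.L) with hK
  have hKmem : ∀ m, m ∈ K ↔ d.g1 * d.L m * d.g1⁻¹ ∈ d.X := fun m => Iff.rfl
  have hlK : l ∈ K := by rw [hKmem, ← hxe]; exact hx'X
  have hcK : c5 ∈ K := by rw [hKmem, ← d.z'_L, d.g1_conj_z']; exact d.z'_mem_X hB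
  have hdK : dd5 ∈ K := by rw [hKmem, d.g1_conj_dd hB]; exact d.ddL_mem_X hB
  have hkK : k5 ∈ K := by
    rcases cent_dd_invol l hl2 hld with e | e | e | e | e | e
    · exfalso; apply hx'1; rw [hxe, e, map_one, mul_one, mul_inv_cancel]; exact one_mem _
    · exfalso; apply hx't
      rw [hxe, e, d.g1_conj_dd hB, ← map_mul, dd5_sq, map_one]; exact one_mem _
    · exfalso
      rw [hKmem, e, ← d.tau_L] at hlK
      exact d.g1_tau_notMem_X hB hlK
    · exfalso
      have := mul_mem hdK hlK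
      rw [e, ← mul_assoc, dd5_sq, one_mul, hKmem, ← d.tau_L] at this
      exact d.g1_tau_notMem_X hB this
    · rwa [← e]
    · have := mul_mem hdK hlK
      rwa [e, ← mul_assoc, dd5_sq, one_mul] at this
  have hall : ∀ b : P5, IsEven b → d.g1 * d.L b * d.g1⁻¹ ∈ d.X := fun b hb =>
    even_mem (x := c5) (y := c5 * k5) (u := dd5) (v := k5) hcK (mul_mem hcK hkK) hdK hkK
      (by decide +kernel) (by decide +kernel) dd5_sq k5_sq dd5_k5 (by decide +kernel) hb
  -- the two factors commute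
  let K2 : Subgroup P5 :=
    { carrier := {m | ∀ b : P5, IsEven b → Commute (d.L b) (d.L' m)}
      one_mem' := fun b _ => by rw [map_one]; exact Commute.one_right _
      mul_mem' := fun hm hn b hb => by rw [map_mul]; exact (hm b hb).mul_right (hn b hb)
      inv_mem' := fun hm b hb => by rw [map_inv]; exact (hm b hb).inv_right }
  have hK2c : c5 ∈ K2 := fun b _ => by rw [← z_L']; exact (d.z_commute_L b).symm
  have hK2d : dd5 ∈ K2 := fun b _ => by rw [← d.iota_L' hB]; exact (d.iota_commute_L b).symm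
  have hK2V : ∀ v : P5, InV v → h5⁻¹ * v * h5 ∈ K2 := by
    intro v hv b hb
    have h := (d.Vs_central hB (hall b hb) (⟨v, hv, rfl⟩ : d.L' v ∈ d.Vs)).map
      (MulAut.conj d.g1⁻¹).toMonoidHom
    rw [map_mul, map_mul, map_inv]
    simpa [g1, mul_assoc] using h
  have hEE : ∀ a b : P5, IsEven a → IsEven b → Commute (d.L a) (d.L' b) := fun a b ha hb =>
    even_mem (x := c5) (y := dd5 * (h5⁻¹ * k5 * h5)) (u := h5⁻¹ * dd5 * h5)
      (v := h5⁻¹ * k5 * h5) hK2c (mul_mem hK2d (hK2V _ (Or.inr (Or.inr (Or.inl rfl)))))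
      (hK2V _ (Or.inr (Or.inl rfl))) (hK2V _ (Or.inr (Or.inr (Or.inl rfl))))
      (by decide +kernel) (by decide +kernel) (by decide +kernel) (by decide +kernel)
      (by decide +kernel) (by decide +kernel) hb a ha
  refine ⟨hEE, fun y hy1 hy2 => ?_⟩
  -- `X = L'(V) L(A₅)`
  have hEX : ∀ b : P5, IsEven b → d.L b ∈ d.X := by
    intro b hb
    have hb' := hall (t5 * b * t5⁻¹) (even_conj4 t5 b hb)
    have hg : d.g1 = d.L' (h5 * t5) * d.tau := by
      rw [d.tau_L', ← map_mul, g1, mul_assoc, show t5 * t5 = 1 by decide, mul_one]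
    rw [hg, show d.L' (h5 * t5) * d.tau * d.L (t5 * b * t5⁻¹) * (d.L' (h5 * t5) * d.tau)⁻¹ =
      d.L' (h5 * t5) * (d.tau * d.L (t5 * b * t5⁻¹) * d.tau⁻¹) * (d.L' (h5 * t5))⁻¹ by group,
      tau_L, L_conj, show t5 * (t5 * b * t5⁻¹) * t5⁻¹ = b by
        rw [show t5⁻¹ = t5 by decide, ← mul_assoc, ← mul_assoc, show t5 * t5 = 1 by decide,
          one_mul, mul_assoc, show t5 * t5 = 1 by decide, mul_one],
      (hEE b (h5 * t5) hb even_inv_mul.2.2.2.2.1).symm.eq, mul_inv_cancel_right] at hb'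
    exact hb'
  let f : {v : P5 // InV v} × {b : P5 // IsEven b} → d.X := fun p =>
    ⟨d.L' p.1 * d.L p.2, mul_mem (d.Vs_le hB ⟨p.1, p.1.2, rfl⟩) (hEX _ p.2.2)⟩
  have hf : Function.Injective f := by
    rintro ⟨⟨v, hv⟩, ⟨b, hb⟩⟩ ⟨⟨v', hv'⟩, ⟨b', hb'⟩⟩ h
    have h' : d.L' v * d.L b = d.L' v' * d.L b' := congrArg Subtype.val h
    have h2 : d.L' (v'⁻¹ * v) = d.L (b' * b⁻¹) := by
      rw [map_mul, map_inv, map_mul, map_inv, inv_mul_eq_iff_eq_mul, ← mul_assoc,
        eq_mul_inv_iff_mul_eq]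
      exact h'
    have hbb : IsEven (b' * b⁻¹) :=
      (show ∀ a b : P5, IsEven a → IsEven b → IsEven (a * b⁻¹) from fun a b ha hb => by
        show Equiv.Perm.sign (a * b⁻¹) = 1
        rw [map_mul, map_inv, show Equiv.Perm.sign a = 1 from ha, show Equiv.Perm.sign b = 1 from hb, inv_one, one_mul]) b' b hb' hb
    have hvv : IsEven (v'⁻¹ * v) :=
      (show ∀ a b : P5, InV a → InV b → IsEven (a⁻¹ * b) by decide +kernel) v' v hv' hv
    have hb1 : b' * b⁻¹ = 1 := by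
      refine central_even _ hbb ?_ ?_ <;>
      · refine d.L_inj ?_
        rw [map_mul d.L (b' * b⁻¹), map_mul d.L _ (b' * b⁻¹), ← h2]
        refine (hEE _ _ ?_ hvv).symm.eq
        decide +kernel
    rw [hb1, map_one, ← map_one d.L', d.L'_inj.eq_iff, inv_mul_eq_one] at h2
    rw [mul_inv_eq_one] at hb1
    subst h2 hb1
    rfl
  have hs : Function.Bijective f := by
    refine (Nat.bijective_iff_injective_and_card f).2 ⟨hf, ?_⟩
    rw [hcard, Nat.card_prod, Nat.card_eq_fintype_card, Nat.card_eq_fintype_card]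
    decide +kernel
  obtain ⟨⟨v, b⟩, hvb⟩ := hs.2 ⟨y, d.mem_X.2 ⟨hy1, hy2⟩⟩
  exact ⟨v, b, v.2, b.2, congrArg Subtype.val hvb⟩

/-- The dichotomy. -/
theorem four_cases (hB : d.alt = true) : d.IsSmall ∨ d.IsBig := by
  haveI hN : (d.Vs.subgroupOf d.X).Normal := ⟨fun n hn g => by
    rw [Subgroup.mem_subgroupOf] at hn ⊢
    simp only [Subgroup.coe_mul, Subgroup.coe_inv]
    rw [(d.Vs_central hB g.2 hn).eq, mul_inv_cancel_right]
    exact hn⟩
  set Vn := d.Vs.subgroupOf d.X with hVn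
  let π : d.X →* d.X ⧸ Vn := QuotientGroup.mk' Vn
  have hπ : ∀ x : d.X, π x = 1 ↔ (x : G) ∈ d.Vs := fun x => by
    show (QuotientGroup.mk x : d.X ⧸ Vn) = 1 ↔ _
    rw [QuotientGroup.eq_one_iff, hVn, Subgroup.mem_subgroupOf]
  have hcVn : Nat.card Vn = 4 := by
    rw [Nat.card_congr (Subgroup.subgroupOfEquivOfLe (d.Vs_le hB)).toEquiv, d.card_Vs]
  have hXcard : Nat.card d.X = Nat.card (d.X ⧸ Vn) * 4 := by
    rw [Subgroup.card_eq_card_quotient_mul_card_subgroup Vn, hcVn]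
  set z0 : d.X := ⟨d.z', d.z'_mem_X hB⟩ with hz0
  have hzV : ∀ v : P5, InV v → ∀ i : Fin 3, d.F' (r3 ^ (i : ℕ), v) ∈ d.Vs → i = 0 := by
    rintro v - i ⟨w, hw, hwe⟩
    have h := congrArg Prod.fst (d.F'_inj hwe)
    exact (show ∀ i : Fin 3, r3 ^ (i : ℕ) = 1 → i = 0 by decide) i h.symm
  have hz1 : π z0 ≠ 1 := by
    rw [Ne, hπ]
    intro h
    have := hzV 1 (Or.inl rfl) 1 (by simpa [z'_eq, hz0] using h)
    exact absurd this (by decide)
  have hz3 : π z0 ^ 3 = 1 := by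
    rw [← map_pow, hπ, Subgroup.coe_pow]
    have : d.z' ^ 3 = 1 := by rw [← d.orderOf_z']; exact pow_orderOf_eq_one _
    show d.z' ^ 3 ∈ d.Vs
    rw [this]; exact one_mem _
  have hZ : Nat.card (Subgroup.zpowers (π z0)) = 3 := by
    rw [Nat.card_zpowers]
    haveI : Fact (Nat.Prime 3) := ⟨Nat.prime_three⟩
    exact orderOf_eq_prime hz3 hz1
  have hC : Subgroup.centralizer ((Subgroup.zpowers (π z0) : Subgroup (d.X ⧸ Vn)) : Set (d.X ⧸ Vn))
      = Subgroup.zpowers (π z0) := by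
    refine le_antisymm ?_ ?_
    · intro u hu
      obtain ⟨x, rfl⟩ := QuotientGroup.mk'_surjective Vn u
      have h := Subgroup.mem_centralizer_iff.1 hu _ (Subgroup.mem_zpowers _)
      have hv : ((x : G)⁻¹ * d.z'⁻¹ * x * d.z') ∈ d.Vs := by
        have : π (x⁻¹ * z0⁻¹ * x * z0) = 1 := by
          rw [map_mul, map_mul, map_mul, map_inv, map_inv, mul_assoc, ← h]
          simp [π, mul_assoc]
        exact (hπ _).1 this
      obtain ⟨v, hv, hve⟩ := hv
      set y := (x : G)⁻¹ * d.z'⁻¹ * x with hy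
      have hy3 : y ^ 3 = 1 := by
        rw [hy, show (x : G)⁻¹ * d.z'⁻¹ * (x : G) = (x : G)⁻¹ * d.z'⁻¹ * ((x : G)⁻¹)⁻¹ by group,
          conj_pow, inv_pow, show d.z' ^ 3 = 1 by rw [← d.orderOf_z']; exact pow_orderOf_eq_one _]
        group
      have hye : y = d.L' v * d.z'⁻¹ := by rw [hve]; group
      have hv1 : d.L' v = 1 := by
        have hc : Commute (d.L' v) d.z'⁻¹ := (d.z'_commute_L' v).symm.inv_right
        rw [hye, hc.mul_pow, inv_pow, show d.z' ^ 3 = 1 by rw [← d.orderOf_z']; exact pow_orderOf_eq_one _,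
          inv_one, mul_one, pow_succ, pow_two, ← map_mul, (InV_cases v hv).2.2.1, map_one, one_mul] at hy3
        exact hy3
      rw [hv1, one_mul, hy] at hye
      have hxz : Commute (x : G) d.z' := by
        have := congrArg (fun g => (x : G) * g) hye
        simp only [← mul_assoc, mul_inv_cancel, one_mul] at this
        have h4 := congrArg (fun g => d.z' * g * d.z') this
        show _ = _
        simpa [mul_assoc] using h4
      obtain ⟨i, w, hw, hxe⟩ := d.cent_z'_X hB x.2 hxz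
      refine Subgroup.mem_zpowers_iff.2 ⟨(i : ℕ), ?_⟩
      rw [zpow_natCast, ← map_pow]
      refine (inv_mul_eq_one.1 ?_)
      rw [← map_inv, ← map_mul, hπ]
      simp only [Subgroup.coe_mul, Subgroup.coe_inv, Subgroup.coe_pow, hz0, ← hxe, z'_eq,
        ← map_pow, ← map_inv, ← map_mul]
      refine ⟨w, hw, ?_⟩
      rw [L'_apply]
      simp
    · rw [Subgroup.le_centralizer_iff_isMulCommutative]
      infer_instance
  -- the `3'`-core is trivial
  have hcore : ∀ N : Subgroup (d.X ⧸ Vn), N.Normal → (Nat.card N).Coprime 3 → N = ⊥ := by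
    intro N hNn hNc
    have hle : N.comap π ≤ Cfsg.pPrimeCore 3 d.X := by
      refine HallCore.le_pPrimeCore (hN := hNn.comap π) ?_
      show (Nat.card (N.comap (QuotientGroup.mk' Vn) : Subgroup d.X)).Coprime 3
      rw [← HallCore.card_comap_mk', hcVn]
      exact Nat.Coprime.mul_left hNc (by norm_num)
    set W := (Cfsg.pPrimeCore 3 d.X).map d.X.subtype with hW
    haveI hcn := HallCore.pPrimeCore_normal 3 d.X
    have hWle : W ≤ d.Vs := by
      refine d.core_le hB W (Subgroup.map_subtype_le _) ?_ ?_ ?_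
      · rw [hW, Subgroup.card_map_of_injective d.X.subtype_injective]
        exact HallCore.coprime_card_pPrimeCore 3 d.X
      · rintro x hx _ ⟨w, hw, rfl⟩
        exact ⟨⟨x, hx⟩ * w * ⟨x, hx⟩⁻¹, hcn.conj_mem w hw _, rfl⟩
      · let φ : d.X →* d.X :=
          { toFun := fun x => ⟨d.q * x * d.q⁻¹, d.q_conj_X hB x.2⟩
            map_one' := Subtype.ext (by simp)
            map_mul' := fun a b => Subtype.ext (by simp [mul_assoc]) }
        have hφi : Function.Injective φ := fun a b h => Subtype.ext (by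
          simpa [φ] using congrArg Subtype.val h)
        have hφs : Function.Surjective φ := Finite.injective_iff_surjective.1 hφi
        haveI : ((Cfsg.pPrimeCore 3 d.X).map φ).Normal := hcn.map φ hφs
        have h2 : (Cfsg.pPrimeCore 3 d.X).map φ ≤ Cfsg.pPrimeCore 3 d.X :=
          HallCore.le_pPrimeCore (by
            rw [Subgroup.card_map_of_injective hφi]
            exact HallCore.coprime_card_pPrimeCore 3 d.X)
        rintro _ ⟨w, hw, rfl⟩
        exact ⟨φ w, h2 ⟨w, hw, rfl⟩, rfl⟩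
    rw [Subgroup.eq_bot_iff_forall]
    intro u hu
    obtain ⟨x, rfl⟩ := QuotientGroup.mk'_surjective Vn u
    exact (hπ x).2 (hWle ⟨x, hle hu, rfl⟩)
  have hsmall : Nat.card (d.X ⧸ Vn) ≤ 6 → d.IsSmall := by
    intro h6 y hy1 hy2
    let f : P3 × {v : P5 // InV v} → d.X := fun p =>
      ⟨d.F' (p.1, p.2), d.F'_mem_X hB (InV_cases _ p.2.2).1 (InV_cases _ p.2.2).2.1⟩
    have hf : Function.Injective f := by
      rintro ⟨a, v⟩ ⟨a', v'⟩ h
      have := d.F'_inj (congrArg Subtype.val h)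
      simp only [Prod.mk.injEq] at this
      exact Prod.ext this.1 (Subtype.ext this.2)
    have hs : Function.Bijective f := hf.bijective_of_nat_card_le (by
      rw [hXcard, Nat.card_prod, Nat.card_eq_fintype_card (α := P3),
        Nat.card_eq_fintype_card (α := {v : P5 // InV v}),
        Fintype.card_perm, Fintype.card_fin,
        show Fintype.card {v : P5 // InV v} = 4 by decide +kernel, show Nat.factorial 3 = 6 by rfl]
      omega)
    obtain ⟨⟨a, v⟩, hav⟩ := hs.2 ⟨y, d.mem_X.2 ⟨hy1, hy2⟩⟩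
    exact ⟨a, v, v.2, congrArg Subtype.val hav⟩
  rcases S3331.result (Subgroup.zpowers (π z0)) hZ hC with
    ⟨N, hNn, -, hNc, hq⟩ | ⟨N, hNn, -, hN2, ⟨e⟩⟩ | ⟨⟨e⟩⟩
  · left
    have hb := hcore N hNn hNc
    subst hb
    refine hsmall ?_
    rw [← Nat.card_congr (QuotientGroup.quotientBot (G := d.X ⧸ Vn)).toEquiv]
    rcases hq with h | ⟨⟨e⟩⟩
    · omega
    · rw [Nat.card_congr e.toEquiv, Nat.card_eq_fintype_card, Fintype.card_perm, Fintype.card_fin]
      simp [Nat.factorial]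
  · right
    have hNc : (Nat.card N).Coprime 3 := by
      refine ((Nat.Prime.coprime_iff_not_dvd Nat.prime_three).2 fun h3 => ?_).symm
      haveI : Fact (Nat.Prime 3) := ⟨Nat.prime_three⟩
      obtain ⟨n, hn⟩ := exists_prime_orderOf_dvd_card' 3 h3
      have := orderOf_dvd_of_pow_eq_one (x := n) (n := 2) (Subtype.ext (by
        rw [Subgroup.coe_pow]; exact hN2 _ n.2))
      rw [hn] at this
      norm_num at this
    have hb := hcore N hNn hNc
    subst hb
    let e' : d.X ⧸ Vn ≃* alternatingGroup (Fin 5) := (QuotientGroup.quotientBot).symm.trans e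
    have hcard : Nat.card d.X = 240 := by
      rw [hXcard, Nat.card_congr e'.toEquiv, Nat.card_eq_fintype_card]
      rfl
    let ψ : d.X →* P5 := (alternatingGroup (Fin 5)).subtype.comp (e'.toMonoidHom.comp π)
    have hψ : ∀ x : d.X, ψ x = 1 ↔ (x : G) ∈ d.Vs := fun x => by
      rw [← hπ]
      show ((e' (π x) : alternatingGroup (Fin 5)) : P5) = 1 ↔ _
      rw [OneMemClass.coe_eq_one, MulEquiv.map_eq_one_iff]
    have hψe : ∀ x, IsEven (ψ x) := fun x => Equiv.Perm.mem_alternatingGroup.1 (e' (π x)).2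
    set t : d.X := ⟨d.L dd5, d.ddL_mem_X hB⟩ with ht
    have ht2 : ψ t * ψ t = 1 := by
      rw [← map_mul, hψ]
      show d.L dd5 * d.L dd5 ∈ d.Vs
      rw [← map_mul, dd5_sq, map_one]; exact one_mem _
    have ht1 : ψ t ≠ 1 := by
      rw [Ne, hψ]
      rintro ⟨v, -, hv⟩
      change d.L' v = d.L dd5 at hv
      rw [← d.F'_f3 hB] at hv
      have h1 : (1 : P3) = f3 := congrArg Prod.fst (d.F'_inj hv)
      exact absurd h1 (by decide)
    obtain ⟨u, hue, hu2, hu1, hut, huc⟩ := a5_other _ (hψe t) ht2 ht1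
    obtain ⟨x, hx⟩ : ∃ x : d.X, ψ x = u := by
      obtain ⟨x, hx⟩ := QuotientGroup.mk'_surjective Vn
        (e'.symm ⟨u, Equiv.Perm.mem_alternatingGroup.2 hue⟩)
      refine ⟨x, ?_⟩
      show ((e' (π x) : alternatingGroup (Fin 5)) : P5) = u
      rw [show π x = _ from hx, MulEquiv.apply_symm_apply]
    set x1 : d.X := ⟨d.q * x * d.q⁻¹, d.q_conj_X hB x.2⟩ with hx1
    have hqdd : d.q * d.L dd5 * d.q⁻¹ = d.L dd5 := by
      rw [← d.F'_f3 hB, q, L'_apply, ← map_inv, ← map_mul, ← map_mul]; simp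
    have hqV : ∀ y ∈ d.Vs, d.q * y * d.q⁻¹ ∈ d.Vs := by
      rintro _ ⟨v, hv, rfl⟩
      exact ⟨b5 * v * b5⁻¹, (InV_cases v hv).2.2.2, by rw [q, L'_conj]⟩
    have hqV' : ∀ y, d.q * y * d.q⁻¹ ∈ d.Vs → y ∈ d.Vs := by
      intro y hy
      have hq3 : d.q ^ 3 = 1 := by
        rw [q, ← map_pow, show b5 ^ 3 = 1 by decide +kernel, map_one]
      have := hqV _ (hqV _ hy)
      rw [pow_succ, pow_two] at hq3
      rwa [show d.q * (d.q * (d.q * y * d.q⁻¹) * d.q⁻¹) * d.q⁻¹ =
          d.q * d.q * d.q * y * (d.q * d.q * d.q)⁻¹ by group,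
        hq3, one_mul, inv_one, mul_one] at this
    have hu' : IsEven (ψ x1) ∧ ψ x1 * ψ x1 = 1 ∧ ψ x1 ≠ 1 ∧ ψ x1 ≠ ψ t ∧
        ψ x1 * ψ t = ψ t * ψ x1 := by
      refine ⟨hψe _, ?_, ?_, ?_, ?_⟩
      · rw [← map_mul, hψ]
        show d.q * x * d.q⁻¹ * (d.q * x * d.q⁻¹) ∈ d.Vs
        rw [show d.q * (x : G) * d.q⁻¹ * (d.q * x * d.q⁻¹) = d.q * ((x : G) * x) * d.q⁻¹ by group]
        refine hqV _ ?_
        have : ψ (x * x) = 1 := by rw [map_mul, hx, hu2]
        exact (hψ _).1 this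
      · rw [Ne, hψ]
        intro h
        exact hu1 (by rw [← hx, hψ]; exact hqV' _ h)
      · intro h
        apply hut
        rw [← hx, ← inv_mul_eq_one, ← map_inv, ← map_mul, hψ]
        have h2 : ψ (x1⁻¹ * t) = 1 := by rw [map_mul, map_inv, h, inv_mul_cancel]
        refine hqV' _ ?_
        have h3 := (hψ _).1 h2
        show d.q * ((x : G)⁻¹ * d.L dd5) * d.q⁻¹ ∈ d.Vs
        have h4 : d.q * ((x : G)⁻¹ * d.L dd5) * d.q⁻¹ = (d.q * x * d.q⁻¹)⁻¹ * d.L dd5 := by
          conv_rhs => rw [← hqdd]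
          group
        rw [h4]; exact h3
      · rw [← map_mul, ← map_mul, ← inv_mul_eq_one, ← map_inv, ← map_mul, hψ]
        show (d.q * x * d.q⁻¹ * d.L dd5)⁻¹ * (d.L dd5 * (d.q * x * d.q⁻¹)) ∈ d.Vs
        conv => arg 2; rw [← hqdd]
        rw [show (d.q * (x : G) * d.q⁻¹ * (d.q * d.L dd5 * d.q⁻¹))⁻¹ *
          (d.q * d.L dd5 * d.q⁻¹ * (d.q * x * d.q⁻¹)) =
          d.q * (((x : G) * d.L dd5)⁻¹ * (d.L dd5 * x)) * d.q⁻¹ by group]
        refine hqV _ ?_
        have : ψ ((x * t)⁻¹ * (t * x)) = 1 := by rw [map_mul, map_inv, map_mul, map_mul, hx, huc,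
          inv_mul_cancel]
        exact (hψ _).1 this
    have hfix : (x : G)⁻¹ * (d.q * x * d.q⁻¹) ∈ d.Vs := by
      rcases a5_two _ (hψe t) ht2 ht1 u hue hu2 hu1 hut huc _ hu'.1 hu'.2.1 hu'.2.2.1 hu'.2.2.2.1
        hu'.2.2.2.2 with h | h
      · have : ψ (x⁻¹ * x1) = 1 := by rw [map_mul, map_inv, h, hx, inv_mul_cancel]
        exact (hψ _).1 this
      · exfalso
        have h1 : (d.L dd5 * x)⁻¹ * (d.q * x * d.q⁻¹) ∈ d.Vs := by
          have : ψ ((t * x)⁻¹ * x1) = 1 := by rw [map_mul, map_inv, map_mul, h, hx, inv_mul_cancel]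
          exact (hψ _).1 this
        obtain ⟨v, hv, hve⟩ := h1
        have e1 : d.q * (x : G) * d.q⁻¹ = d.L dd5 * x * d.L' v := by rw [hve]; group
        have e2 : d.q * (d.q * (x : G) * d.q⁻¹) * d.q⁻¹ =
            x * d.L' v * (d.q * d.L' v * d.q⁻¹) := by
          conv_lhs => rw [e1]
          rw [show d.q * (d.L dd5 * (x : G) * d.L' v) * d.q⁻¹ =
            d.q * d.L dd5 * d.q⁻¹ * (d.q * x * d.q⁻¹) * (d.q * d.L' v * d.q⁻¹) by group, hqdd, e1,
            ← mul_assoc (d.L dd5), ← mul_assoc (d.L dd5), ← map_mul d.L, dd5_sq, map_one, one_mul]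
        have hq3 : d.q ^ 3 = 1 := by
          rw [q, ← map_pow, show b5 ^ 3 = 1 by decide +kernel, map_one]
        have e3 : (x : G) = d.L dd5 * x * d.L' v * (d.q * (d.L' v * (d.q * d.L' v * d.q⁻¹)) * d.q⁻¹) := by
          rw [pow_succ, pow_two] at hq3
          calc (x : G) = d.q * d.q * d.q * x * (d.q * d.q * d.q)⁻¹ := by rw [hq3]; group
            _ = d.q * (d.q * (d.q * x * d.q⁻¹) * d.q⁻¹) * d.q⁻¹ := by group
            _ = d.q * (x * d.L' v * (d.q * d.L' v * d.q⁻¹)) * d.q⁻¹ := by rw [e2]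
            _ = d.q * x * d.q⁻¹ * (d.q * (d.L' v * (d.q * d.L' v * d.q⁻¹)) * d.q⁻¹) := by group
            _ = _ := by rw [e1]
        have hw : d.L' v * (d.q * (d.L' v * (d.q * d.L' v * d.q⁻¹)) * d.q⁻¹) ∈ d.Vs := by
          have hv' : d.L' v ∈ d.Vs := ⟨v, hv, rfl⟩
          exact mul_mem hv' (hqV _ (mul_mem hv' (hqV _ hv')))
        obtain ⟨w, hw, hwe⟩ := hw
        rw [mul_assoc (d.L dd5 * (x : G)), ← hwe] at e3
        have : d.L dd5 ∈ d.Vs := by
          refine ⟨w⁻¹, ?_, ?_⟩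
          · show InV w⁻¹
            rwa [inv_eq_of_mul_eq_one_left (InV_cases w hw).2.2.1]
          · rw [map_inv]
            have hc := d.Vs_central hB x.2 (⟨w, hw, rfl⟩ : d.L' w ∈ d.Vs)
            rw [mul_assoc, hc.eq, ← mul_assoc, eq_comm, mul_eq_right] at e3
            exact inv_eq_of_mul_eq_one_left e3
        exact ht1 ((hψ t).2 this)
    refine d.big_of_lift hB hcard x.2 ?_ ?_ ?_ ?_ hfix
    · exact fun h => hu1 (by rw [← hx, hψ]; exact h)
    · intro h
      apply hut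
      have h1 : ψ (t * x) = 1 := (hψ _).2 h
      rw [map_mul, hx] at h1
      rw [eq_inv_of_mul_eq_one_right h1, inv_eq_of_mul_eq_one_left ht2]
    · have : ψ (x * x) = 1 := by rw [map_mul, hx, hu2]
      exact (hψ _).1 this
    · have : ψ ((t * x)⁻¹ * (x * t)) = 1 := by
        rw [map_mul, map_inv, map_mul, map_mul, hx, huc, inv_mul_cancel]
      exact (hψ _).1 this
  · exfalso
    haveI : Fact (Nat.Prime 7) := ⟨by norm_num⟩
    refine d.no_seven hB ?_
    rw [hXcard, Nat.card_congr e.toEquiv,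
      PSLCard.card_PSL2_odd (F := ZMod 7) (by rw [Nat.card_zmod]; decide), Nat.card_zmod]
    norm_num

end Data

end Cfsg.Agent.Sym8Three96
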