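import Cfsg.Agent.Lib.Sym8ThreeBase96
import Cfsg.Agent.S3333

/-!
# Local subgroups from the normal form
-/

set_option autoImplicit false

namespace Cfsg.Agent.Sym8Three96

open Equiv

theorem p5_norm_form : ∀ q : P5, (∃ v : Fin 3, q * c5 * q⁻¹ = c5 ^ (v : ℕ)) →
    ∃ (i : Fin 3) (e f : Fin 2), q = c5 ^ (i : ℕ) * t5 ^ (e : ℕ) * f5 ^ (f : ℕ) := by decide +kernel

theorem p3_form : ∀ a : P3, ∃ (i : Fin 3) (f : Fin 2), a = r3 ^ (i : ℕ) * f3 ^ (f : ℕ) := by decide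

theorem to_y_type : ∀ i j : Fin 3, (i : ℕ) ≠ 0 → (j : ℕ) ≠ 0 →
    ∃ (f e : Fin 2), f3 ^ (f : ℕ) * r3 ^ (i : ℕ) * (f3 ^ (f : ℕ))⁻¹ = r3 ∧
      f5 ^ (e : ℕ) * c5 ^ (j : ℕ) * (f5 ^ (e : ℕ))⁻¹ = c5 := by decide +kernel

theorem cube_cases : ∀ i : Fin 3, (i : ℕ) ≠ 0 → c5 ^ (i : ℕ) = c5 ∨ c5 ^ (i : ℕ) = c5⁻¹ := by decide

variable {G : Type*} [Group G]

namespace Data

variable (d : Data G)

theorem F_mul (a a' : P3) (l l' : P5) : d.F (a, l) * d.F (a', l') = d.F (a * a', l * l') := by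
  rw [← map_mul]; rfl

theorem F_inv (a : P3) (l : P5) : (d.F (a, l))⁻¹ = d.F (a⁻¹, l⁻¹) := by
  rw [← map_inv]; rfl

theorem F_conj (a b : P3) (l m : P5) :
    d.F (a, l) * d.F (b, m) * (d.F (a, l))⁻¹ = d.F (a * b * a⁻¹, l * m * l⁻¹) := by
  rw [F_inv, F_mul, F_mul]

theorem conj_s (g : G) : d.s * g * d.s⁻¹ = d.cs g := rfl

theorem commute_tau_s : Commute d.tau d.s := by
  have h := d.cs_tau
  rw [cs_apply] at h
  calc d.tau * d.s = d.s * d.tau * d.s * d.s := by rw [h]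
    _ = d.s * d.tau := by rw [mul_assoc _ d.s d.s, d.s_sq, mul_one]

theorem commute_tau_F {a : P3} {l : P5} (h : t5 * l = l * t5) : Commute d.tau (d.F (a, l)) := by
  rw [Commute, SemiconjBy, tau, F_mul, F_mul, h, one_mul, mul_one]

theorem orderOf_z : orderOf d.z = 3 := by
  refine orderOf_eq_prime ?_ ?_
  · rw [z, ← map_pow, Prod.pow_mk, r3_cube, one_pow]; exact map_one d.F
  · intro h
    have : (r3, (1 : P5)) = 1 := d.inj (by rw [map_one]; exact h)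
    exact absurd (congrArg Prod.fst this) (by decide)

theorem comm_P {g h : G} (hg : g ∈ (d.P : Subgroup G)) (hh : h ∈ (d.P : Subgroup G)) :
    Commute g h := by
  obtain ⟨i, j, rfl⟩ := (d.memP g).1 hg
  obtain ⟨k, l, rfl⟩ := (d.memP h).1 hh
  rw [Commute, SemiconjBy, F_mul, F_mul, (Commute.pow_pow_self r3 _ _).eq,
    (Commute.pow_pow_self c5 _ _).eq]

theorem cube_P {g : G} (hg : g ∈ (d.P : Subgroup G)) : g ^ 3 = 1 := by
  obtain ⟨i, j, rfl⟩ := (d.memP g).1 hg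
  rw [← map_pow, Prod.pow_mk, ← pow_mul, ← pow_mul, mul_comm _ 3, mul_comm _ 3, pow_mul, pow_mul,
    r3_cube, c5_cube, one_pow, one_pow]
  exact map_one d.F

theorem card_P : Nat.card (d.P : Subgroup G) = 9 := by
  let f : Fin 3 × Fin 3 → (d.P : Subgroup G) := fun q =>
    ⟨d.F (r3 ^ (q.1 : ℕ), c5 ^ (q.2 : ℕ)), (d.memP _).2 ⟨q.1, q.2, rfl⟩⟩
  have hf : Function.Bijective f := by
    refine ⟨fun a b h => ?_, fun g => ?_⟩
    · have h' := d.inj (congrArg Subtype.val h)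
      have : ∀ a b : Fin 3 × Fin 3,
          ((r3 ^ (a.1 : ℕ), c5 ^ (a.2 : ℕ)) : P3 × P5) = (r3 ^ (b.1 : ℕ), c5 ^ (b.2 : ℕ)) → a = b := by
        decide +kernel
      exact this a b h'
    · obtain ⟨i, j, h⟩ := (d.memP g).1 g.2
      exact ⟨(i, j), Subtype.ext h⟩
  rw [← Nat.card_eq_of_bijective f hf]
  simp

/-- The centraliser of `F (r, c)`. -/
theorem cent_y [Finite G] {g : G} (h : Commute g (d.F (r3, c5))) :
    ∃ (i j : Fin 3) (e f : Fin 2),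
      d.F (r3 ^ (i : ℕ), c5 ^ (j : ℕ) * t5 ^ (e : ℕ)) * d.s ^ (f : ℕ) = g := by
  have hc : ∀ q : Fin 3 × Fin 3 × Fin 2 × Fin 2,
      d.F (r3 ^ (q.1 : ℕ), c5 ^ (q.2.1 : ℕ) * t5 ^ (q.2.2.1 : ℕ)) * d.s ^ (q.2.2.2 : ℕ) ∈
        Subgroup.centralizer ({d.F (r3, c5)} : Set G) := by
    intro q
    refine mul_mem ?_ (pow_mem ?_ _)
    · rw [Subgroup.mem_centralizer_singleton_iff, F_mul, F_mul, (Commute.self_pow r3 _).eq,
        ((Commute.self_pow c5 _).mul_right (Commute.pow_right (by decide : c5 * t5 = t5 * c5) _)).eq]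
    · rw [Subgroup.mem_centralizer_singleton_iff]
      have h1 : d.F (r3, c5) = d.z * d.z' := by rw [z, z', F_mul, mul_one, one_mul]
      have h2 : d.cs (d.F (r3, c5)) = d.F (r3, c5) := by
        rw [h1, map_mul, cs_z, cs_z', (d.comm_P d.z'_mem d.z_mem).eq]
      rw [← conj_s] at h2
      exact mul_inv_eq_iff_eq_mul.1 h2
  let f : Fin 3 × Fin 3 × Fin 2 × Fin 2 → Subgroup.centralizer ({d.F (r3, c5)} : Set G) :=
    fun q => ⟨_, hc q⟩
  have hsep : ∀ p : P3 × P5, d.F p ≠ d.s := by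
    intro p hp
    have h1 := d.cs_z
    rw [← conj_s, ← hp, z, z'] at h1
    obtain ⟨a, l⟩ := p
    rw [F_conj] at h1
    have := congrArg Prod.fst (d.inj h1)
    simp only at this
    rw [conj_eq_one_iff] at this
    exact absurd this (by decide)
  have hf : Function.Injective f := by
    rintro ⟨a1, a2, a3, a4⟩ ⟨b1, b2, b3, b4⟩ h
    have h' : d.F (r3 ^ (a1 : ℕ), c5 ^ (a2 : ℕ) * t5 ^ (a3 : ℕ)) * d.s ^ (a4 : ℕ) =
        d.F (r3 ^ (b1 : ℕ), c5 ^ (b2 : ℕ) * t5 ^ (b3 : ℕ)) * d.s ^ (b4 : ℕ) :=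
      congrArg Subtype.val h
    have h4 : a4 = b4 := by
      by_contra hne
      have h01 : ∀ x y : Fin 2, x ≠ y → ((x : ℕ) = 0 ∧ (y : ℕ) = 1) ∨ ((x : ℕ) = 1 ∧ (y : ℕ) = 0) := by
        decide
      rcases h01 a4 b4 hne with ⟨e1, e2⟩ | ⟨e1, e2⟩ <;>
        rw [e1, e2, pow_zero, pow_one, mul_one] at h'
      · exact hsep ((r3 ^ (b1 : ℕ), c5 ^ (b2 : ℕ) * t5 ^ (b3 : ℕ))⁻¹ *
          (r3 ^ (a1 : ℕ), c5 ^ (a2 : ℕ) * t5 ^ (a3 : ℕ)))
          (by rw [map_mul, map_inv, h', inv_mul_cancel_left])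
      · exact hsep ((r3 ^ (a1 : ℕ), c5 ^ (a2 : ℕ) * t5 ^ (a3 : ℕ))⁻¹ *
          (r3 ^ (b1 : ℕ), c5 ^ (b2 : ℕ) * t5 ^ (b3 : ℕ)))
          (by rw [map_mul, map_inv, ← h', inv_mul_cancel_left])
    subst h4
    have h3 := d.inj (mul_right_cancel h')
    have : ∀ a b : Fin 3 × Fin 3 × Fin 2,
        ((r3 ^ (a.1 : ℕ), c5 ^ (a.2.1 : ℕ) * t5 ^ (a.2.2 : ℕ)) : P3 × P5) =
          (r3 ^ (b.1 : ℕ), c5 ^ (b.2.1 : ℕ) * t5 ^ (b.2.2 : ℕ)) → a = b := by decide +kernel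
    have h5 := this (a1, a2, a3) (b1, b2, b3) h3
    simp only [Prod.mk.injEq] at h5 ⊢
    exact ⟨h5.1, h5.2.1, h5.2.2, trivial⟩
  have hs : Function.Bijective f :=
    (Nat.bijective_iff_injective_and_card f).2 ⟨hf, by rw [d.card_y]; simp⟩
  obtain ⟨⟨i, j, e, k⟩, hq⟩ := hs.2 ⟨g, Subgroup.mem_centralizer_singleton_iff.2 h.eq⟩
  exact ⟨i, j, e, k, congrArg Subtype.val hq⟩

theorem F_norm_mem (a : P3) (i : Fin 3) (e f : Fin 2) :
    d.F (a, c5 ^ (i : ℕ) * t5 ^ (e : ℕ) * f5 ^ (f : ℕ)) ∈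
      Subgroup.normalizer ((d.P : Subgroup G) : Set G) := by
  have key : ∀ (a : P3) (l : P5), (∀ i j : Fin 3, ∃ i' j' : Fin 3,
      a * r3 ^ (i : ℕ) * a⁻¹ = r3 ^ (i' : ℕ) ∧ l * c5 ^ (j : ℕ) * l⁻¹ = c5 ^ (j' : ℕ)) →
      ∀ g ∈ (d.P : Subgroup G), d.F (a, l) * g * (d.F (a, l))⁻¹ ∈ (d.P : Subgroup G) := by
    intro a l hk g hg
    obtain ⟨u, v, rfl⟩ := (d.memP g).1 hg
    obtain ⟨u', v', h1, h2⟩ := hk u v
    rw [F_conj, h1, h2]
    exact (d.memP _).2 ⟨u', v', rfl⟩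
  have hcomb : ∀ (a : P3) (i : Fin 3) (e f : Fin 2), ∀ u v : Fin 3, ∃ u' v' : Fin 3,
      a * r3 ^ (u : ℕ) * a⁻¹ = r3 ^ (u' : ℕ) ∧
        (c5 ^ (i : ℕ) * t5 ^ (e : ℕ) * f5 ^ (f : ℕ)) * c5 ^ (v : ℕ) *
          (c5 ^ (i : ℕ) * t5 ^ (e : ℕ) * f5 ^ (f : ℕ))⁻¹ = c5 ^ (v' : ℕ) := by decide +kernel
  have hcomb' : ∀ (a : P3) (i : Fin 3) (e f : Fin 2), ∀ u v : Fin 3, ∃ u' v' : Fin 3,
      a⁻¹ * r3 ^ (u : ℕ) * a⁻¹⁻¹ = r3 ^ (u' : ℕ) ∧
        (c5 ^ (i : ℕ) * t5 ^ (e : ℕ) * f5 ^ (f : ℕ))⁻¹ * c5 ^ (v : ℕ) *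
          (c5 ^ (i : ℕ) * t5 ^ (e : ℕ) * f5 ^ (f : ℕ))⁻¹⁻¹ = c5 ^ (v' : ℕ) := by decide +kernel
  rw [Subgroup.mem_normalizer_iff]
  intro g
  refine ⟨key _ _ (hcomb a i e f) g, fun hg => ?_⟩
  have := key _ _ (hcomb' a i e f) _ hg
  rwa [← F_inv, show ∀ x y : G, x⁻¹ * (x * y * x⁻¹) * x⁻¹⁻¹ = y from
      fun x y => by group] at this

theorem s_mem_normalizer : d.s ∈ Subgroup.normalizer ((d.P : Subgroup G) : Set G) := by
  have h : ∀ g ∈ (d.P : Subgroup G), d.cs g ∈ (d.P : Subgroup G) := fun g hg => by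
    obtain ⟨i, j, rfl⟩ := (d.memP g).1 hg
    have : d.F (r3 ^ (i : ℕ), c5 ^ (j : ℕ)) = d.z ^ (i : ℕ) * d.z' ^ (j : ℕ) := by
      rw [z, z', ← map_pow, ← map_pow, ← map_mul]; simp
    rw [this, map_mul, map_pow, map_pow, cs_z, cs_z']
    exact mul_mem (pow_mem d.z'_mem _) (pow_mem d.z_mem _)
  rw [Subgroup.mem_normalizer_iff]
  intro g
  rw [conj_s]
  exact ⟨h g, fun hg => by have := h _ hg; rwa [cs_cs] at this⟩

theorem cent_z {g : G} (h : Commute g d.z) : ∃ i : Fin 3, ∃ l : P5, d.F (r3 ^ (i : ℕ), l) = g := by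
  obtain ⟨⟨a, l⟩, rfl⟩ := d.range_of g (Or.inl (by
    show g * d.z * g⁻¹ = d.z
    rw [h.eq]; group))
  have h1 : (a, l) * (r3, (1 : P5)) = (r3, 1) * (a, l) := d.inj (by
    rw [map_mul, map_mul]; exact h)
  simp only [Prod.mk_mul_mk, Prod.mk.injEq] at h1
  rcases p3_three a h1.1 with rfl | rfl | rfl
  · exact ⟨0, l, rfl⟩
  · exact ⟨1, l, rfl⟩
  · exact ⟨2, l, rfl⟩

theorem cent_z' {g : G} (h : Commute g d.z') : ∃ i : Fin 3, ∃ l : P5, d.F' (r3 ^ (i : ℕ), l) = g := by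
  have h' : Commute (d.cs g) d.z := by rw [← cs_z']; exact h.map d.cs
  obtain ⟨i, l, hl⟩ := d.cent_z h'
  exact ⟨i, l, by show d.cs (d.F _) = g; rw [hl, cs_cs]⟩

variable [Finite G]

theorem card_cent_conj' (g x : G) :
    Nat.card (Subgroup.centralizer ({g * x * g⁻¹} : Set G)) =
      Nat.card (Subgroup.centralizer ({x} : Set G)) := by
  refine Nat.card_congr ((MulAut.conj g⁻¹).toEquiv.subtypeEquiv (fun a => ?_))
  simp only [Subgroup.mem_centralizer_singleton_iff, MulEquiv.toEquiv_eq_coe, MulEquiv.coe_toEquiv,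
    MulAut.conj_apply, inv_inv]
  constructor
  · intro h
    calc g⁻¹ * a * g * x = g⁻¹ * (a * (g * x * g⁻¹)) * g := by group
      _ = g⁻¹ * (g * x * g⁻¹ * a) * g := by rw [h]
      _ = x * (g⁻¹ * a * g) := by group
  · intro h
    calc a * (g * x * g⁻¹) = g * (g⁻¹ * a * g * x) * g⁻¹ := by group
      _ = g * (x * (g⁻¹ * a * g)) * g⁻¹ := by rw [h]
      _ = g * x * g⁻¹ * a := by group

/-- The normaliser of the Sylow 3-subgroup. -/
theorem normalizer_form {g : G} (hg : g ∈ Subgroup.normalizer ((d.P : Subgroup G) : Set G)) :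
    ∃ (a : P3) (i : Fin 3) (e f k : Fin 2),
      d.s ^ (k : ℕ) * d.F (a, c5 ^ (i : ℕ) * t5 ^ (e : ℕ) * f5 ^ (f : ℕ)) = g := by
  have inF : ∀ g ∈ Subgroup.normalizer ((d.P : Subgroup G) : Set G),
      (g * d.z * g⁻¹ = d.z ∨ g * d.z * g⁻¹ = d.z⁻¹) →
      ∃ (a : P3) (i : Fin 3) (e f : Fin 2),
        d.F (a, c5 ^ (i : ℕ) * t5 ^ (e : ℕ) * f5 ^ (f : ℕ)) = g := by
    intro g hg hz
    obtain ⟨⟨a, l⟩, rfl⟩ := d.range_of g hz
    obtain ⟨u, v, huv⟩ := (d.memP _).1 ((Subgroup.mem_normalizer_iff.1 hg _).1 d.z'_mem)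
    rw [z', F_conj] at huv
    obtain ⟨i, e, f, rfl⟩ := p5_norm_form l ⟨v, (congrArg Prod.snd (d.inj huv)).symm⟩
    exact ⟨a, i, e, f, rfl⟩
  obtain ⟨i, j, hij⟩ := (d.memP _).1 ((Subgroup.mem_normalizer_iff.1 hg _).1 d.z_mem)
  have hbig : 36 < Nat.card (Subgroup.centralizer ({d.z} : Set G)) := by
    let f : P5 → Subgroup.centralizer ({d.z} : Set G) := fun l => ⟨d.F (1, l), by
      rw [Subgroup.mem_centralizer_singleton_iff, z, F_mul, F_mul]; simp⟩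
    have := Nat.card_le_card_of_injective f fun a b h =>
      congrArg Prod.snd (d.inj (congrArg Subtype.val h))
    rw [Nat.card_eq_fintype_card, Fintype.card_perm, Fintype.card_fin] at this
    norm_num [Nat.factorial] at this
    omega
  by_cases hj : (j : ℕ) = 0
  · obtain ⟨a, u, e, f, h⟩ := inF g hg (by
      rw [← hij, hj, pow_zero]
      by_cases hi : (i : ℕ) = 0
      · exfalso
        rw [hi, hj, pow_zero, pow_zero, show ((1 : P3), (1 : P5)) = 1 from rfl, map_one, eq_comm,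
          conj_eq_one_iff] at hij
        exact absurd (orderOf_eq_one_iff.2 hij) (by rw [d.orderOf_z]; norm_num)
      · have : ∀ i : Fin 3, (i : ℕ) ≠ 0 → r3 ^ (i : ℕ) = r3 ∨ r3 ^ (i : ℕ) = r3⁻¹ := by decide
        rcases this i hi with h | h <;> rw [h]
        · exact Or.inl rfl
        · refine Or.inr ?_
          rw [z, F_inv, inv_one])
    exact ⟨a, u, e, f, 0, by simpa using h⟩
  by_cases hi : (i : ℕ) = 0
  · have hsg : d.s * g ∈ Subgroup.normalizer ((d.P : Subgroup G) : Set G) :=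
      mul_mem d.s_mem_normalizer hg
    have hcalc : d.s * g * d.z * (d.s * g)⁻¹ = d.cs (g * d.z * g⁻¹) := by
      rw [← conj_s]; group
    obtain ⟨a, u, e, f, h⟩ := inF _ hsg (by
      rw [hcalc, ← hij, hi, pow_zero]
      rcases cube_cases j hj with h | h <;> rw [h]
      · exact Or.inl d.cs_z'
      · refine Or.inr ?_
        rw [← d.cs_z', ← map_inv, z', F_inv, inv_one])
    exact ⟨a, u, e, f, 1, by rw [h]; simp [← mul_assoc, d.s_sq]⟩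
  exfalso
  obtain ⟨u, v, hu, hv⟩ := to_y_type i j hi hj
  have h1 := card_cent_conj' (d.F (f3 ^ (u : ℕ), f5 ^ (v : ℕ))) (g * d.z * g⁻¹)
  rw [card_cent_conj' g d.z, ← hij, F_conj, hu, hv, d.card_y] at h1
  omega

/-- Centralisers of elements of `D` outside the two factors normalise `D`. -/
theorem cent_le_normalizer {i j : Fin 3} (hi : (i : ℕ) ≠ 0) (hj : (j : ℕ) ≠ 0) {g : G}
    (h : Commute g (d.F (r3 ^ (i : ℕ), c5 ^ (j : ℕ)))) :
    g ∈ Subgroup.normalizer ((d.P : Subgroup G) : Set G) := by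
  obtain ⟨u, v, hu, hv⟩ := to_y_type i j hi hj
  set w := d.F (f3 ^ (u : ℕ), f5 ^ (v : ℕ)) with hw
  have hwN : w ∈ Subgroup.normalizer ((d.P : Subgroup G) : Set G) := by
    have := d.F_norm_mem (f3 ^ (u : ℕ)) 0 0 v
    simpa using this
  have h' : Commute (w * g * w⁻¹) (d.F (r3, c5)) := by
    have := h.map (MulAut.conj w).toMonoidHom
    simp only [MulEquiv.coe_toMonoidHom, MulAut.conj_apply] at this
    rwa [hw, F_conj, hu, hv] at this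
  obtain ⟨a, b, e, f, he⟩ := d.cent_y h'
  have : w * g * w⁻¹ ∈ Subgroup.normalizer ((d.P : Subgroup G) : Set G) := by
    rw [← he]
    refine mul_mem ?_ (pow_mem d.s_mem_normalizer _)
    have := d.F_norm_mem (r3 ^ (a : ℕ)) b e 0
    simpa using this
  have := mul_mem (mul_mem (inv_mem hwN) this) hwN
  rwa [show w⁻¹ * (w * g * w⁻¹) * w = g by group] at this

/-- Every element of order 3 is conjugate into `D`. -/
theorem exists_conj_mem {w : G} (hw : orderOf w = 3) :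
    ∃ g : G, g * w * g⁻¹ ∈ (d.P : Subgroup G) := by
  have hp : IsPGroup 3 (Subgroup.zpowers w) :=
    IsPGroup.of_card (n := 1) (by rw [Nat.card_zpowers, hw, pow_one])
  obtain ⟨Q, hQ⟩ := hp.exists_le_sylow
  obtain ⟨g, hg⟩ := MulAction.exists_smul_eq G Q d.P
  refine ⟨g, ?_⟩
  rw [← hg, Sylow.smul_def, ← SetLike.mem_coe]
  exact Set.smul_mem_smul_set (hQ (Subgroup.mem_zpowers w))

end Data

end Cfsg.Agent.Sym8Three96
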