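import Cfsg.Agent.Lib.Sym8ThreeLocal96

/-!
# The centraliser of the transposition `tau`

`C(tau)/⟨tau⟩` has a self-centralising Sylow 3-subgroup of order 9 with dihedral automiser, so it
is either 3-closed or `S₆` (S3333).
-/

set_option autoImplicit false

namespace Cfsg.Agent.Sym8Three96

open Equiv

theorem dihedral_hom {M : Type*} [Group M] (u v : M) (hu : u ^ 4 = 1) (hv : v * v = 1)
    (hvu : v * u = u⁻¹ * v) :
    ∃ φ : DihedralGroup 4 →* M, (∀ i : ZMod 4, φ (DihedralGroup.r i) = u ^ i.val) ∧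
      ∀ i : ZMod 4, φ (DihedralGroup.sr i) = v * u ^ i.val := by
  have hadd : ∀ i j : ZMod 4, u ^ (i + j).val = u ^ i.val * u ^ j.val := fun i j => by
    rw [← pow_add, ZMod.val_add, ← pow_eq_pow_mod _ hu]
  have hvp : ∀ k : ℕ, v * u ^ k = (u ^ k)⁻¹ * v := fun k => by
    induction k with
    | zero => simp
    | succ k ih =>
      rw [pow_succ, ← mul_assoc, ih, mul_assoc, hvu, ← mul_assoc, ← mul_inv_rev]
      congr 2
      rw [← pow_succ', ← pow_succ]
  have hneg : ∀ i : ZMod 4, (u ^ i.val)⁻¹ = u ^ (-i).val := fun i => by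
    refine inv_eq_of_mul_eq_one_right ?_
    rw [← hadd, add_neg_cancel, ZMod.val_zero, pow_zero]
  have hsub : ∀ i j : ZMod 4, (u ^ i.val)⁻¹ * u ^ j.val = u ^ (j - i).val := fun i j => by
    rw [hneg, ← hadd, neg_add_eq_sub]
  let f : DihedralGroup 4 → M
    | DihedralGroup.r i => u ^ i.val
    | DihedralGroup.sr i => v * u ^ i.val
  refine ⟨{ toFun := f, map_one' := by
              show u ^ (0 : ZMod 4).val = 1
              simp
            map_mul' := ?_ }, fun _ => rfl, fun _ => rfl⟩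
  rintro (i | i) (j | j)
  · exact hadd i j
  · show v * u ^ (j - i).val = u ^ i.val * (v * u ^ j.val)
    rw [← hsub, ← mul_assoc, ← mul_assoc, hneg, hvp, hneg, neg_neg]
  · show v * u ^ (i + j).val = v * u ^ i.val * u ^ j.val
    rw [hadd, mul_assoc]
  · show u ^ (j - i).val = v * u ^ i.val * (v * u ^ j.val)
    rw [← hsub, hvp, ← mul_assoc, mul_assoc _ v v, hv, mul_one]

theorem p5_t5_cent : ∀ l : P5, t5 * l = l * t5 → (∃ v : Fin 3, l * c5 * l⁻¹ = c5 ^ (v : ℕ)) := by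
  decide +kernel

theorem f5_cases : ∀ f : Fin 2, ∀ alt : Bool, ∃ b e : Fin 2,
    f5 ^ (f : ℕ) = (if alt then f5 * t5 else f5) ^ (b : ℕ) * t5 ^ (e : ℕ) := by decide +kernel

theorem cd_fix : ∀ (alt : Bool) (i : Fin 3) (e e' b f : Fin 2),
    f5 ^ (f : ℕ) = (if alt then f5 * t5 else f5) ^ (b : ℕ) * t5 ^ (e' : ℕ) →
    ∃ (i' : Fin 3) (e'' : Fin 2),
      ((if alt then f5 * t5 else f5) ^ (b : ℕ))⁻¹ * (c5 ^ (i : ℕ) * t5 ^ (e : ℕ) *
        ((if alt then f5 * t5 else f5) ^ (b : ℕ) * t5 ^ (e' : ℕ))) =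
          c5 ^ (i' : ℕ) * t5 ^ (e'' : ℕ) := by decide +kernel

theorem r_fix : ∀ (a : Fin 2) (j : Fin 3), ∃ j' : Fin 3,
    (f3 ^ (a : ℕ))⁻¹ * (r3 ^ (j : ℕ) * f3 ^ (a : ℕ)) = r3 ^ (j' : ℕ) := by decide +kernel

theorem a_zero : ∀ a : Fin 2, f3 ^ (a : ℕ) * r3 = r3 * f3 ^ (a : ℕ) → a = 0 := by decide

theorem b_zero : ∀ (alt : Bool) (b : Fin 2), (if alt then f5 * t5 else f5) ^ (b : ℕ) * c5 =
    c5 * (if alt then f5 * t5 else f5) ^ (b : ℕ) → b = 0 := by decide +kernel

theorem t5_exp : ∀ (i : Fin 3) (e e' : Fin 2), ∃ e'' : Fin 2,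
    c5 ^ (i : ℕ) * t5 ^ (e : ℕ) * t5 ^ (e' : ℕ) = c5 ^ (i : ℕ) * t5 ^ (e'' : ℕ) := by decide +kernel

namespace Data

variable {G : Type*} [Group G] (d : Data G)

/-- `C(tau)`. -/
abbrev Ct : Subgroup G := Subgroup.centralizer ({d.tau} : Set G)

theorem tau_mem_Ct : d.tau ∈ d.Ct := Subgroup.mem_centralizer_singleton_iff.2 rfl

theorem tau_sq : d.tau * d.tau = 1 := by
  rw [← pow_two, ← d.orderOf_tau, pow_orderOf_eq_one]

theorem mem_zpowers_tau {x : G} (hx : x ∈ Subgroup.zpowers d.tau) : x = 1 ∨ x = d.tau := by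
  obtain ⟨k, rfl⟩ := Subgroup.mem_zpowers_iff.1 hx
  rw [← zpow_mod_orderOf, d.orderOf_tau]
  rcases Int.emod_two_eq_zero_or_one k with h | h
  · left; rw [show (k % ((2 : ℕ) : ℤ)) = 0 from h, zpow_zero]
  · right; rw [show (k % ((2 : ℕ) : ℤ)) = 1 from h, zpow_one]

instance tauCt_normal : ((Subgroup.zpowers d.tau).subgroupOf d.Ct).Normal := by
  refine ⟨fun n hn g => ?_⟩
  rw [Subgroup.mem_subgroupOf] at hn ⊢
  have hg := Subgroup.mem_centralizer_singleton_iff.1 g.2
  rcases d.mem_zpowers_tau hn with h | h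
  · simp [h]
  · simp only [Subgroup.coe_mul, Subgroup.coe_inv, h]
    rw [hg, mul_inv_cancel_right]
    exact Subgroup.mem_zpowers _

/-- `C(tau)/⟨tau⟩`. -/
abbrev Qt := d.Ct ⧸ (Subgroup.zpowers d.tau).subgroupOf d.Ct

theorem P_le_Ct : (d.P : Subgroup G) ≤ d.Ct := fun _ hg =>
  Subgroup.mem_centralizer_singleton_iff.2 (d.tau_mem_cent hg).eq.symm

/-- the image of `D`. -/
abbrev St : Subgroup d.Qt :=
  ((d.P : Subgroup G).subgroupOf d.Ct).map (QuotientGroup.mk' _)

theorem mk_eq {g h : d.Ct} (e : (QuotientGroup.mk g : d.Qt) = QuotientGroup.mk h) :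
    (g : G) = h ∨ (g : G) = (h : G) * d.tau := by
  rw [QuotientGroup.eq, Subgroup.mem_subgroupOf, Subgroup.coe_mul, Subgroup.coe_inv] at e
  rcases d.mem_zpowers_tau e with e | e
  · exact Or.inl (inv_mul_eq_one.1 e)
  · right
    rw [inv_mul_eq_iff_eq_mul] at e
    rw [e, mul_assoc, d.tau_sq, mul_one]

theorem St_mem {g : d.Ct} : (QuotientGroup.mk g : d.Qt) ∈ d.St ↔
    (g : G) ∈ (d.P : Subgroup G) ∨ (g : G) * d.tau ∈ (d.P : Subgroup G) := by
  constructor
  · rintro ⟨h, hh, he⟩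
    rcases d.mk_eq (g := g) (h := h) (by rw [QuotientGroup.mk'_apply] at he; exact he.symm) with e | e
    · exact Or.inl (e ▸ hh)
    · right
      rw [e, mul_assoc, d.tau_sq, mul_one]
      exact hh
  · intro h
    rcases h with h | h
    · exact ⟨g, h, rfl⟩
    · refine ⟨g * ⟨d.tau, d.tau_mem_Ct⟩, h, ?_⟩
      rw [QuotientGroup.mk'_apply, QuotientGroup.eq, Subgroup.mem_subgroupOf]
      simp only [Subgroup.coe_mul, Subgroup.coe_inv, mul_inv_rev, inv_mul_cancel_right]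
      exact inv_mem (Subgroup.mem_zpowers _)

variable [Finite G]

theorem mk_injOn {g h : d.Ct} (hg : (g : G) ∈ (d.P : Subgroup G)) (hh : (h : G) ∈ (d.P : Subgroup G))
    (e : (QuotientGroup.mk g : d.Qt) = QuotientGroup.mk h) : (g : G) = h := by
  rcases d.mk_eq e with e | e
  · exact e
  · exfalso
    have ht : d.tau ∈ (d.P : Subgroup G) := by
      have := mul_mem (inv_mem hh) hg
      rwa [e, inv_mul_cancel_left] at this
    have h2 := d.cube_P ht
    have h3 := d.orderOf_tau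
    rw [orderOf_eq_iff (by norm_num)] at h3
    rw [pow_succ, pow_two, d.tau_sq, one_mul] at h2
    rw [h2] at h3
    exact absurd (h3.2 1 (by norm_num) (by norm_num)) (by simp)

theorem card_St : Nat.card d.St = 9 := by
  let f : ↥(d.P : Subgroup G) → ↥d.St := fun x =>
    ⟨QuotientGroup.mk ⟨x, d.P_le_Ct x.2⟩, d.St_mem.2 (Or.inl x.2)⟩
  have hf : Function.Bijective f := by
    refine ⟨fun a b h => Subtype.ext (d.mk_injOn a.2 b.2 (congrArg Subtype.val h)), fun y => ?_⟩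
    obtain ⟨y, h, hh, rfl⟩ := y
    exact ⟨⟨h, hh⟩, Subtype.ext rfl⟩
  rw [← Nat.card_eq_of_bijective f hf, d.card_P]

theorem cube_eq_one_iff {g : G} (hg : g ∈ d.Ct) {v : G} (hv : v ∈ (d.P : Subgroup G))
    (h : g * v * g⁻¹ = d.tau ∨ ∃ w ∈ (d.P : Subgroup G), g * v * g⁻¹ = w * d.tau) : False := by
  have h3 : (g * v * g⁻¹) ^ 3 = 1 := by rw [conj_pow, d.cube_P hv]; group
  have ht3 : d.tau ^ 3 = d.tau := by rw [pow_succ, pow_two, d.tau_sq, one_mul]
  have hne : d.tau ≠ 1 := fun e => by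
    have := orderOf_eq_one_iff.2 e; rw [d.orderOf_tau] at this; norm_num at this
  rcases h with h | ⟨w, hw, h⟩
  · rw [h, ht3] at h3; exact hne h3
  · rw [h, (d.tau_mem_cent hw).symm.mul_pow, d.cube_P hw, one_mul, ht3] at h3; exact hne h3

/-- The preimage of the normaliser of the image of `D`. -/
theorem mem_norm_of {g : d.Ct}
    (hg : (QuotientGroup.mk g : d.Qt) ∈ Subgroup.normalizer (d.St : Set d.Qt)) :
    (g : G) ∈ Subgroup.normalizer ((d.P : Subgroup G) : Set G) := by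
  have key : ∀ g : d.Ct, (QuotientGroup.mk g : d.Qt) ∈ Subgroup.normalizer (d.St : Set d.Qt) →
      ∀ v ∈ (d.P : Subgroup G), (g : G) * v * (g : G)⁻¹ ∈ (d.P : Subgroup G) := by
    intro g hg v hv
    have h1 := (Subgroup.mem_normalizer_iff.1 hg _).1
      (d.St_mem.2 (Or.inl hv) : (QuotientGroup.mk ⟨v, d.P_le_Ct hv⟩ : d.Qt) ∈ d.St)
    rw [← QuotientGroup.mk_inv, ← QuotientGroup.mk_mul, ← QuotientGroup.mk_mul] at h1
    rcases d.St_mem.1 h1 with h | h
    · exact h
    · exfalso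
      simp only [Subgroup.coe_mul, Subgroup.coe_inv] at h
      refine d.cube_eq_one_iff g.2 hv (Or.inr ⟨_, h, ?_⟩)
      rw [mul_assoc _ d.tau d.tau, d.tau_sq, mul_one]
  rw [Subgroup.mem_normalizer_iff]
  refine fun v => ⟨key g hg v, fun h => ?_⟩
  have := key g⁻¹ (by rw [QuotientGroup.mk_inv]; exact inv_mem hg) _ h
  simpa [mul_assoc] using this

theorem cent_P {g : G} (h : ∀ v ∈ (d.P : Subgroup G), Commute g v) :
    ∃ (i j : Fin 3) (e : Fin 2), d.F (r3 ^ (i : ℕ), c5 ^ (j : ℕ) * t5 ^ (e : ℕ)) = g :=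
  d.cent_D_form (h _ d.z_mem) (h _ d.z'_mem)

theorem mk_cent_mem {i j : Fin 3} {e : Fin 2} {g : d.Ct}
    (h : d.F (r3 ^ (i : ℕ), c5 ^ (j : ℕ) * t5 ^ (e : ℕ)) = (g : G)) :
    (QuotientGroup.mk g : d.Qt) ∈ d.St := by
  refine d.St_mem.2 ?_
  have h01 : ∀ x : Fin 2, (x : ℕ) = 0 ∨ (x : ℕ) = 1 := by decide
  rcases h01 e with he | he <;> rw [he] at h
  · left
    rw [← h, pow_zero, mul_one]
    exact (d.memP _).2 ⟨i, j, rfl⟩
  · right
    rw [← h, tau, F_mul, pow_one, mul_one, mul_assoc, show t5 * t5 = 1 from by decide, mul_one]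
    exact (d.memP _).2 ⟨i, j, rfl⟩

theorem cent_St : Subgroup.centralizer (d.St : Set d.Qt) = d.St := by
  refine le_antisymm ?_ ?_
  · intro q hq
    obtain ⟨g, rfl⟩ := QuotientGroup.mk_surjective q
    have hc : ∀ v ∈ (d.P : Subgroup G), Commute (g : G) v := by
      intro v hv
      have h := Subgroup.mem_centralizer_iff.1 hq _
        (d.St_mem.2 (Or.inl hv) : (QuotientGroup.mk ⟨v, d.P_le_Ct hv⟩ : d.Qt) ∈ d.St)
      rw [← QuotientGroup.mk_mul, ← QuotientGroup.mk_mul] at h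
      rcases d.mk_eq h.symm with e | e
      · exact e
      · exfalso
        simp only [Subgroup.coe_mul] at e
        refine d.cube_eq_one_iff g.2 hv (Or.inr ⟨v, hv, ?_⟩)
        rw [e, mul_assoc v (g : G) d.tau, Subgroup.mem_centralizer_singleton_iff.1 g.2]
        group
    obtain ⟨i, j, e, h⟩ := d.cent_P hc
    exact d.mk_cent_mem h
  · intro q hq
    rw [Subgroup.mem_centralizer_iff]
    intro p hp
    obtain ⟨a, ha, rfl⟩ := hq
    obtain ⟨b, hb, rfl⟩ := hp
    rw [← map_mul, ← map_mul]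
    exact congrArg _ (Subtype.ext (d.comm_P hb ha).eq)

theorem mem_norm_mk {g : d.Ct} (hg : (g : G) ∈ Subgroup.normalizer ((d.P : Subgroup G) : Set G)) :
    (QuotientGroup.mk g : d.Qt) ∈ Subgroup.normalizer (d.St : Set d.Qt) := by
  have key : ∀ g : d.Ct, (g : G) ∈ Subgroup.normalizer ((d.P : Subgroup G) : Set G) →
      ∀ q ∈ d.St, (QuotientGroup.mk g : d.Qt) * q * (QuotientGroup.mk g : d.Qt)⁻¹ ∈ d.St := by
    intro g hg q hq
    obtain ⟨a, ha, rfl⟩ := hq
    rw [QuotientGroup.mk'_apply, ← QuotientGroup.mk_inv, ← QuotientGroup.mk_mul,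
      ← QuotientGroup.mk_mul]
    exact d.St_mem.2 (Or.inl ((Subgroup.mem_normalizer_iff.1 hg _).1 ha))
  rw [Subgroup.mem_normalizer_iff]
  refine fun q => ⟨key g hg q, fun h => ?_⟩
  have := key g⁻¹ (inv_mem hg) _ h
  simpa [mul_assoc] using this

theorem cent_single_le {x : d.Qt} (hx : x ∈ d.St) (hx1 : x ≠ 1) :
    Subgroup.centralizer ({x} : Set d.Qt) ≤ Subgroup.normalizer (d.St : Set d.Qt) := by
  obtain ⟨v, hv, rfl⟩ := hx
  intro q hq
  obtain ⟨g, rfl⟩ := QuotientGroup.mk_surjective q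
  refine d.mem_norm_mk ?_
  have h := Subgroup.mem_centralizer_singleton_iff.1 hq
  rw [QuotientGroup.mk'_apply, ← QuotientGroup.mk_mul, ← QuotientGroup.mk_mul] at h
  have hc : Commute (g : G) v := by
    rcases d.mk_eq h with e | e
    · exact e
    · exfalso
      simp only [Subgroup.coe_mul] at e
      refine d.cube_eq_one_iff g.2 hv (Or.inr ⟨v, hv, ?_⟩)
      show (g : G) * (v : G) * (g : G)⁻¹ = (v : G) * d.tau
      rw [e, mul_assoc (v : G) (g : G) d.tau, Subgroup.mem_centralizer_singleton_iff.1 g.2]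
      group
  have ht : Commute d.tau (g : G) := (Subgroup.mem_centralizer_singleton_iff.1 g.2).symm
  obtain ⟨i, j, hij⟩ := (d.memP (v : G)).1 hv
  -- elements of `C(z) ∩ C(tau)` normalise `D`
  have hz : ∀ w : G, Commute w d.z → Commute d.tau w →
      w ∈ Subgroup.normalizer ((d.P : Subgroup G) : Set G) := by
    intro w hw htw
    obtain ⟨a, l, rfl⟩ := d.cent_z hw
    have hl : t5 * l = l * t5 := by
      have := htw
      rw [tau, Commute, SemiconjBy, F_mul, F_mul] at this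
      exact congrArg Prod.snd (d.inj this)
    obtain ⟨u, e, f, rfl⟩ := p5_norm_form l (p5_t5_cent l hl)
    exact d.F_norm_mem _ u e f
  have hpow : ∀ (w u : G) (k : ℕ), orderOf u = 3 → k ≠ 0 → k < 3 → Commute w (u ^ k) →
      Commute w u := by
    intro w u k hu hk0 hk3 hwu
    obtain rfl | rfl : k = 1 ∨ k = 2 := by omega
    · rwa [pow_one] at hwu
    · have : u = (u ^ 2) ^ 2 := by
        rw [← pow_mul, ← pow_mod_orderOf, hu]; norm_num
      rw [this]
      exact hwu.pow_right 2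
  by_cases hi : (i : ℕ) = 0
  · by_cases hj : (j : ℕ) = 0
    · exfalso
      apply hx1
      rw [hi, hj, pow_zero, pow_zero, show ((1 : P3), (1 : P5)) = 1 from rfl, map_one] at hij
      rw [show v = 1 from Subtype.ext hij.symm, map_one]
    have hz' : d.z' ^ (j : ℕ) = (v : G) := by
      rw [← hij, hi, z', ← map_pow]; simp
    have hgz : Commute (d.cs g) d.z := by
      rw [← d.cs_z']
      refine (hpow _ _ _ ?_ hj j.isLt (hz'.symm ▸ hc)).map d.cs
      rw [← d.cs_z, show d.cs = (MulAut.conj d.s).toMonoidHom from rfl,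
        MulEquiv.coe_toMonoidHom, MulEquiv.orderOf_eq]
      exact d.orderOf_z
    have hmem := hz _ hgz (by rw [← d.cs_tau]; exact ht.map d.cs)
    have h2 := mul_mem (mul_mem d.s_mem_normalizer hmem) d.s_mem_normalizer
    rwa [← d.cs_apply, d.cs_cs] at h2
  by_cases hj : (j : ℕ) = 0
  · have hz' : d.z ^ (i : ℕ) = (v : G) := by
      rw [← hij, hj, z, ← map_pow]; simp
    exact hz _ (hpow _ _ _ d.orderOf_z hi i.isLt (hz'.symm ▸ hc)) ht
  exact d.cent_le_normalizer hi hj (hij.symm ▸ hc)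

theorem eN_Qt : Nonempty ((Subgroup.normalizer (d.St : Set d.Qt)) ⧸
    d.St.subgroupOf (Subgroup.normalizer (d.St : Set d.Qt)) ≃* DihedralGroup 4) := by
  classical
  set lb : P5 := if d.alt then f5 * t5 else f5 with hlb
  have hlb2 : lb * lb = 1 := by rw [hlb]; cases d.alt <;> decide
  have hlbt : t5 * lb = lb * t5 := by rw [hlb]; cases d.alt <;> decide
  have hlbN : ∃ f e : Fin 2, lb = c5 ^ ((0 : Fin 3) : ℕ) * t5 ^ (e : ℕ) * f5 ^ (f : ℕ) := by
    rw [hlb]; cases d.alt <;> decide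
  have hι : d.F (f3, 1) ∈ d.Ct := Subgroup.mem_centralizer_singleton_iff.2
    (d.commute_tau_F (a := f3) (l := 1) (by simp)).eq.symm
  have hs : d.s ∈ d.Ct := Subgroup.mem_centralizer_singleton_iff.2 d.commute_tau_s.eq.symm
  let ι' : d.Ct := ⟨_, hι⟩
  let s' : d.Ct := ⟨_, hs⟩
  have hιN : (ι' : G) ∈ Subgroup.normalizer ((d.P : Subgroup G) : Set G) := by
    have := d.F_norm_mem f3 0 0 0
    simpa [ι'] using this
  set N := Subgroup.normalizer (d.St : Set d.Qt) with hN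
  haveI : (d.St.subgroupOf N).Normal := Subgroup.normal_in_normalizer
  let π : N →* N ⧸ d.St.subgroupOf N := QuotientGroup.mk' _
  let u0 : N := ⟨QuotientGroup.mk (ι' * s'), d.mem_norm_mk (g := ι' * s')
    (mul_mem hιN d.s_mem_normalizer)⟩
  let v0 : N := ⟨QuotientGroup.mk ι', d.mem_norm_mk hιN⟩
  have hmul : ∀ p q : P3 × P5, d.F p * d.F q = d.F (p * q) := fun p q => (map_mul d.F p q).symm
  have hsF : d.s * d.F (f3, 1) * d.s = d.F (1, lb) := d.s_iota
  have hι2 : d.F (f3, 1) * d.F (f3, 1) = 1 := by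
    rw [hmul, Prod.mk_mul_mk, show f3 * f3 = 1 from by decide, mul_one]; exact map_one d.F
  have hu2 : d.F (f3, 1) * d.s * (d.F (f3, 1) * d.s) = d.F (f3, lb) := by
    rw [mul_assoc, ← mul_assoc d.s, hsF, hmul]; simp
  have hu4 : u0 ^ 4 = 1 := by
    refine Subtype.ext ?_
    rw [Subgroup.coe_pow, Subgroup.coe_one]
    show (QuotientGroup.mk (ι' * s') : d.Qt) ^ 4 = 1
    rw [← QuotientGroup.mk_pow]
    have : (ι' * s') ^ 4 = 1 := Subtype.ext (by
      simp only [Subgroup.coe_pow, Subgroup.coe_mul, Subgroup.coe_one, ι', s']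
      rw [show 4 = 2 * 2 from rfl, pow_mul, pow_two (d.F (f3, 1) * d.s), hu2, pow_two, hmul,
        Prod.mk_mul_mk, show f3 * f3 = 1 from by decide, hlb2]
      exact map_one d.F)
    rw [this]; rfl
  have hv2 : v0 * v0 = 1 := by
    refine Subtype.ext ?_
    show (QuotientGroup.mk ι' : d.Qt) * QuotientGroup.mk ι' = 1
    rw [← QuotientGroup.mk_mul, show ι' * ι' = 1 from Subtype.ext hι2]; rfl
  have hvu : v0 * u0 = u0⁻¹ * v0 := by
    refine Subtype.ext ?_
    show (QuotientGroup.mk ι' : d.Qt) * QuotientGroup.mk (ι' * s') =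
      (QuotientGroup.mk (ι' * s'))⁻¹ * QuotientGroup.mk ι'
    rw [← QuotientGroup.mk_inv, ← QuotientGroup.mk_mul, ← QuotientGroup.mk_mul]
    congr 1
    refine Subtype.ext ?_
    simp only [Subgroup.coe_mul, Subgroup.coe_inv, ι', s']
    rw [mul_inv_rev, mul_assoc, inv_mul_cancel, mul_one, ← mul_assoc, hι2, one_mul, d.s_inv]
  obtain ⟨φ, hφr, hφs⟩ := dihedral_hom (π u0) (π v0) (by rw [← map_pow, hu4, map_one])
    (by rw [← map_mul, hv2, map_one]) (by rw [← map_mul, ← map_inv, ← map_mul, hvu])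
  -- representatives of the eight elements
  let rep : DihedralGroup 4 → Fin 2 × Fin 2 × Fin 2
    | DihedralGroup.r i => ![(0, 0, 0), (1, 0, 1), (0, 1, 1), (1, 1, 0)] i
    | DihedralGroup.sr i => ![(0, 1, 0), (1, 0, 0), (0, 0, 1), (1, 1, 1)] i
  let gel : Fin 2 × Fin 2 × Fin 2 → d.Ct := fun q =>
    s' ^ (q.1 : ℕ) * ⟨d.F (f3 ^ (q.2.1 : ℕ), lb ^ (q.2.2 : ℕ)), Subgroup.mem_centralizer_singleton_iff.2
      (d.commute_tau_F ((Commute.pow_right (show Commute t5 lb from hlbt) _).eq)).eq.symm⟩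
  have hgelN : ∀ q, (gel q : G) ∈ Subgroup.normalizer ((d.P : Subgroup G) : Set G) := by
    intro q
    simp only [gel, Subgroup.coe_mul, Subgroup.coe_pow]
    refine mul_mem (pow_mem d.s_mem_normalizer _) ?_
    obtain ⟨f, e, hfe⟩ := hlbN
    have h0 := d.F_norm_mem f3 0 0 0
    have h1 := d.F_norm_mem 1 0 e f
    rw [show d.F (f3 ^ (q.2.1 : ℕ), lb ^ (q.2.2 : ℕ)) = d.F (f3, 1) ^ (q.2.1 : ℕ) *
      d.F (1, lb) ^ (q.2.2 : ℕ) by rw [← map_pow, ← map_pow, ← map_mul]; simp]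
    refine mul_mem (pow_mem ?_ _) (pow_mem ?_ _)
    · simpa using h0
    · rw [hfe]; simpa using h1
  have hrep : ∀ x, φ x = π ⟨QuotientGroup.mk (gel (rep x)), d.mem_norm_mk (hgelN _)⟩ := by
    have hιs : d.F (f3, 1) * d.s = d.s * d.F (1, lb) := by
      rw [← hsF, ← mul_assoc, ← mul_assoc, d.s_sq, one_mul]
    have hsι : d.F (1, lb) * d.s = d.s * d.F (f3, 1) := by
      rw [← hsF, mul_assoc, d.s_sq, mul_one]
    have hU2 : ((ι' * s' : d.Ct) : G) ^ 2 = d.F (f3, lb) := by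
      simp only [Subgroup.coe_mul, ι', s']; rw [pow_two, hu2]
    have hU3 : ((ι' * s' : d.Ct) : G) ^ 3 = d.s * d.F (f3, 1) := by
      rw [pow_succ, hU2]
      simp only [Subgroup.coe_mul, ι', s']
      rw [← mul_assoc, hmul, Prod.mk_mul_mk, show f3 * f3 = 1 from by decide, mul_one, hsι]
    have hG : (∀ i : ZMod 4, ((ι' * s' : d.Ct) : G) ^ i.val = gel (rep (DihedralGroup.r i))) ∧
        ∀ i : ZMod 4, (ι' : G) * ((ι' * s' : d.Ct) : G) ^ i.val =
          gel (rep (DihedralGroup.sr i)) := by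
      have e0 : ((1 : P3), (1 : P5)) = 1 := rfl
      refine ⟨fun i => ?_, fun i => ?_⟩
      · fin_cases i
        · show ((ι' * s' : d.Ct) : G) ^ 0 = d.s ^ 0 * d.F (f3 ^ 0, lb ^ 0)
          simp [e0]
        · show ((ι' * s' : d.Ct) : G) ^ 1 = d.s ^ 1 * d.F (f3 ^ 0, lb ^ 1)
          simp only [pow_one, pow_zero, Subgroup.coe_mul, ι', s']
          exact hιs
        · show ((ι' * s' : d.Ct) : G) ^ 2 = d.s ^ 0 * d.F (f3 ^ 1, lb ^ 1)
          rw [hU2]; simp
        · show ((ι' * s' : d.Ct) : G) ^ 3 = d.s ^ 1 * d.F (f3 ^ 1, lb ^ 0)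
          rw [hU3]; simp
      · fin_cases i
        · show (ι' : G) * ((ι' * s' : d.Ct) : G) ^ 0 = d.s ^ 0 * d.F (f3 ^ 1, lb ^ 0)
          simp [ι']
        · show (ι' : G) * ((ι' * s' : d.Ct) : G) ^ 1 = d.s ^ 1 * d.F (f3 ^ 0, lb ^ 0)
          simp only [pow_one, pow_zero, Subgroup.coe_mul, ι', s']
          rw [← mul_assoc, hι2, one_mul, e0, map_one, mul_one]
        · show (ι' : G) * ((ι' * s' : d.Ct) : G) ^ 2 = d.s ^ 0 * d.F (f3 ^ 0, lb ^ 1)
          rw [hU2]
          simp only [ι', hmul, pow_one, pow_zero, Prod.mk_mul_mk, one_mul]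
          rw [show f3 * f3 = 1 from by decide]
        · show (ι' : G) * ((ι' * s' : d.Ct) : G) ^ 3 = d.s ^ 1 * d.F (f3 ^ 1, lb ^ 1)
          rw [hU3]
          simp only [ι', pow_one]
          rw [← mul_assoc, hιs, mul_assoc, hmul, Prod.mk_mul_mk, one_mul, mul_one]
    have hu0 : ∀ m : ℕ, ((u0 ^ m : N) : d.Qt) = QuotientGroup.mk ((ι' * s') ^ m) := fun m => by
      rw [Subgroup.coe_pow, QuotientGroup.mk_pow]
    rintro (i | i)
    · rw [hφr, ← map_pow]
      congr 1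
      refine Subtype.ext ((hu0 _).trans (congrArg _ (Subtype.ext ?_)))
      rw [Subgroup.coe_pow]
      exact hG.1 i
    · rw [hφs, ← map_pow, ← map_mul]
      congr 1
      refine Subtype.ext ?_
      rw [Subgroup.coe_mul, hu0]
      show (QuotientGroup.mk ι' : d.Qt) * QuotientGroup.mk _ = _
      rw [← QuotientGroup.mk_mul]
      refine congrArg _ (Subtype.ext ?_)
      rw [Subgroup.coe_mul, Subgroup.coe_pow]
      exact hG.2 i
  refine ⟨(MulEquiv.ofBijective φ ⟨?_, ?_⟩).symm⟩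
  · rw [injective_iff_map_eq_one]
    intro x hx
    rw [hrep, QuotientGroup.mk'_apply, QuotientGroup.eq_one_iff, Subgroup.mem_subgroupOf] at hx
    have hcz : Commute (gel (rep x) : G) d.z ∧ Commute (gel (rep x) : G) d.z' := by
      rcases d.St_mem.1 hx with h | h
      · exact ⟨d.comm_P h d.z_mem, d.comm_P h d.z'_mem⟩
      · have : ∀ v ∈ (d.P : Subgroup G), Commute (gel (rep x) : G) v := fun v hv => by
          have := (d.comm_P h hv).mul_left (d.tau_mem_cent hv)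
          rwa [mul_assoc, d.tau_sq, mul_one] at this
        exact ⟨this _ d.z_mem, this _ d.z'_mem⟩
    have hinj : ∀ x, rep x = (0, 0, 0) → x = 1 := by decide
    refine hinj x ?_
    generalize rep x = q at hcz ⊢
    obtain ⟨k, a, b⟩ := q
    simp only [gel, Subgroup.coe_mul, Subgroup.coe_pow, s'] at hcz
    have h01 : ∀ v : Fin 2, v = 0 ∨ v = 1 := by decide
    have hk : k = 0 := by
      rcases h01 k with rfl | rfl
      · rfl
      exfalso
      obtain ⟨i, j, e, he⟩ := d.cent_D_form hcz.1 hcz.2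
      have hse : d.s = d.F ((r3 ^ (i : ℕ), c5 ^ (j : ℕ) * t5 ^ (e : ℕ)) *
          (f3 ^ (a : ℕ), lb ^ (b : ℕ))⁻¹) := by
        rw [map_mul, map_inv, he]; simp
      have h1 := d.cs_z
      rw [← conj_s, hse, z, z', F_conj] at h1
      have h2 := congrArg Prod.fst (d.inj h1)
      simp only [conj_eq_one_iff] at h2
      exact absurd h2 (by decide)
    subst hk
    rw [Fin.val_zero, pow_zero, one_mul, z, z', Commute, SemiconjBy, F_mul, F_mul, Commute,
      SemiconjBy, F_mul, F_mul] at hcz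
    have h1 := congrArg Prod.fst (d.inj hcz.1)
    have h2 := congrArg Prod.snd (d.inj hcz.2)
    simp only at h1 h2
    have ha : a = 0 := a_zero a h1
    have hb : b = 0 := by
      rw [hlb] at h2
      exact b_zero d.alt b h2
    rw [ha, hb]
  · intro y
    obtain ⟨⟨q, hq⟩, rfl⟩ := QuotientGroup.mk'_surjective _ y
    obtain ⟨g, rfl⟩ := QuotientGroup.mk_surjective q
    obtain ⟨a, i, e, f, k, hg⟩ := d.normalizer_form (d.mem_norm_of hq)
    obtain ⟨j, a', rfl⟩ := p3_form a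
    obtain ⟨b, e', hb⟩ := f5_cases f d.alt
    have hall : ∀ q, ∃ x, rep x = q := by decide
    obtain ⟨x, hx⟩ := hall (k, a', b)
    refine ⟨x, ?_⟩
    rw [hrep]
    simp only [hx]
    refine QuotientGroup.eq.2 ?_
    rw [Subgroup.mem_subgroupOf, Subgroup.coe_mul, Subgroup.coe_inv, ← QuotientGroup.mk_inv,
      ← QuotientGroup.mk_mul]
    -- the quotient lies in `C(D)`
    obtain ⟨i', e'', hw⟩ : ∃ (i' : Fin 3) (e'' : Fin 2),
        (lb ^ (b : ℕ))⁻¹ * (c5 ^ (i : ℕ) * t5 ^ (e : ℕ) * f5 ^ (f : ℕ)) =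
          c5 ^ (i' : ℕ) * t5 ^ (e'' : ℕ) := by
      rw [hb, hlb]
      exact cd_fix d.alt i e e' b f hb
    obtain ⟨j', hj⟩ : ∃ j' : Fin 3, (f3 ^ (a' : ℕ))⁻¹ * (r3 ^ (j : ℕ) * f3 ^ (a' : ℕ)) =
        r3 ^ (j' : ℕ) := by
      exact r_fix a' j
    refine d.mk_cent_mem (i := j') (j := i') (e := e'') ?_
    simp only [gel, Subgroup.coe_mul, Subgroup.coe_inv, Subgroup.coe_pow, s']
    rw [← hg, mul_inv_rev, mul_assoc, inv_mul_cancel_left, F_inv, F_mul, hw, hj]

/-- `C(tau)/⟨tau⟩` is 3-closed or `S₆`. -/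
theorem Qt_cases : d.St.Normal ∨ Nonempty (d.Qt ≃* Equiv.Perm (Fin 6)) := by
  have hp : IsPGroup 3 d.St := IsPGroup.of_card (n := 2) (by rw [d.card_St]; norm_num)
  obtain ⟨S, hS⟩ := hp.exists_le_sylow
  have hle : (S : Subgroup d.Qt) ≤ d.St := by
    have hidx : ¬ 3 ∣ d.St.index := by
      intro h3
      have h1 := d.St.card_mul_index
      rw [d.card_St] at h1
      have h2 : 27 ∣ Nat.card d.Qt := by
        rw [← h1]; exact mul_dvd_mul_left 9 h3
      have h4 : 27 ∣ Nat.card G := by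
        refine h2.trans ((Subgroup.card_quotient_dvd_card _).trans (Subgroup.card_subgroup_dvd_card _))
      have h6 := d.card_P
      rw [Sylow.card_eq_multiplicity] at h6
      have h7 : (Nat.card G).factorization 3 = 2 :=
        Nat.pow_right_injective (le_refl 2 |>.trans (by norm_num : 2 ≤ 3)) (h6.trans (by norm_num))
      have h8 := (Nat.Prime.pow_dvd_iff_le_factorization Nat.prime_three Nat.card_pos.ne').1
        (show 3 ^ 3 ∣ Nat.card G by norm_num; exact h4)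
      omega
    have h1 : Nat.card (S : Subgroup d.Qt) ≤ Nat.card d.St := by
      rw [Sylow.card_eq_multiplicity, d.card_St]
      have h2 := d.St.card_mul_index
      rw [d.card_St] at h2
      rw [← h2, Nat.factorization_mul (by norm_num) Subgroup.index_ne_zero_of_finite,
        Finsupp.add_apply, Nat.factorization_eq_zero_of_not_dvd hidx, add_zero]
      norm_num [show Nat.factorization 9 3 = 2 from by
        rw [show (9 : ℕ) = 3 ^ 2 by norm_num, Nat.Prime.factorization_pow Nat.prime_three]; simp]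
    exact (Subgroup.eq_of_le_of_card_ge hS h1).ge
  obtain ⟨e⟩ := d.eN_Qt
  exact Cfsg.Agent.S3333.result S d.St (le_antisymm hS hle) d.card_St d.cent_St e
    (fun x hx hx1 => d.cent_single_le hx hx1)

end Data

end Cfsg.Agent.Sym8Three96
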