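import Cfsg.Agent.Lib.Sym8ThreeCaseBBase96

/-!
# The small outcome: no element twists the four group

In the small outcome no element of the centralizer of `iota` and `L(dd)` sends `L(k)` to
`L(k) * iota`.
-/

set_option autoImplicit false

namespace Cfsg.Agent.Sym8Three96

open Equiv

/-- `(0 1 3)`, permuting the involutions of the four group cyclically. -/
def bs5 : P5 := swap 0 3 * swap 0 1

theorem b5_spec : bs5 * k5 * bs5⁻¹ = dd5 ∧ bs5 * (dd5 * k5) * bs5⁻¹ = k5 ∧
    bs5 * dd5 * bs5⁻¹ = dd5 * k5 := by decide +kernel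

theorem f3_cent : ∀ a : P3, a * f3 = f3 * a → a = 1 ∨ a = f3 := by decide

theorem t5_fix_V : ∀ v : P5, InV v → v * (t5 * v * t5) = 1 → v = 1 ∨ v = dd5 := by decide +kernel

theorem cent_dd_t5 : ∀ l : P5, t5 * l = l * t5 → l * dd5 = dd5 * l →
    l * k5 * l⁻¹ = k5 ∨ l * k5 * l⁻¹ = dd5 * k5 := by decide +kernel

theorem to_dd : ∀ v : P5, (v = 1 ∨ v = dd5) → ∃ g : P5, g * (k5 * v) * g⁻¹ = dd5 := by
  decide +kernel

namespace Data

variable {G : Type*} [Group G] (d : Data G)

theorem iota_sq_s : d.iota * d.iota = 1 := by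
  rw [iota, F_mul, show f3 * f3 = 1 from by decide, mul_one]
  exact map_one d.F

theorem L_sq {v : P5} (h : v * v = 1) : d.L v * d.L v = 1 := by rw [← map_mul, h, map_one]

theorem cc_sq : d.cc * d.cc = 1 := by rw [cc, ← map_mul, k5_sq, map_one]

theorem tau_inv : d.tau⁻¹ = d.tau := inv_eq_of_mul_eq_one_left d.tau_sq

theorem cs_iota (hB : d.alt = true) : d.cs d.iota = d.L dd5 := d.F'_f3 hB

theorem cs_io2 (hB : d.alt = true) : d.cs (d.L dd5) = d.iota := by
  rw [d.cs_L, d.iota_L' hB]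

theorem commute_cc_iota (hB : d.alt = true) : Commute d.cc d.iota := by
  rw [d.iota_L' hB, cc, Commute, SemiconjBy, ← map_mul, ← map_mul, dd5_k5]

theorem commute_cc_io2 (hB : d.alt = true) : Commute d.cc (d.L dd5) := by
  rw [← d.F'_f3 hB, cc, L'_apply, Commute, SemiconjBy, ← map_mul, ← map_mul]; simp

theorem commute_tau_iota_s : Commute d.tau d.iota := d.commute_tau_F (by decide +kernel)

theorem commute_tau_io2 : Commute d.tau (d.L dd5) := d.commute_tau_F t5_dd5

theorem commute_io2_c2 : Commute (d.L dd5) (d.L k5) := by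
  rw [Commute, SemiconjBy, ← map_mul, ← map_mul, dd5_k5]

theorem tau_c2 : d.tau * d.L k5 * d.tau = d.L dd5 * d.L k5 := by
  rw [tau_L, ← map_mul, ← map_mul, t5_k5_t5, map_mul]

theorem tau_cc (hB : d.alt = true) : d.tau * d.cc * d.tau = d.cc * d.iota := by
  rw [d.tau_L', cc, d.iota_L' hB, ← map_mul, ← map_mul, ← map_mul, t5_k5_t5, dd5_k5]

theorem F_eq_iota {a : P3} (ha : a = f3) (v : P5) : d.F (a, v) = d.iota * d.L v := by
  rw [ha, d.F_eq]; rfl

theorem L_ne_mul_iota (v w : P5) : d.L v ≠ d.L w * d.iota := by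
  intro h
  rw [L_apply, L_apply, iota, F_mul] at h
  exact absurd (congrArg Prod.fst (d.inj h)) (by simp only [one_mul]; decide)

/-- In the small outcome the four group generates a self-centralising subgroup. -/
theorem cent_U (hB : d.alt = true) (hS : d.IsSmall) {x : G} (h1 : Commute x d.iota)
    (h2 : Commute x (d.L dd5)) (h3 : Commute x (d.L k5)) :
    ∃ (a : P3) (v : P5), (a = 1 ∨ a = f3) ∧ InV v ∧ d.F (a, v) = x := by
  have e1 : Commute (d.cs x) d.iota := by rw [← d.cs_io2 hB]; exact h2.map d.cs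
  have e2 : Commute (d.cs x) d.cc := by rw [cc, ← d.cs_L]; exact h3.map d.cs
  obtain ⟨a, v, hv, h⟩ := hS _ e1 e2
  have hx : d.F (a, v) = x := by
    have := congrArg d.cs h
    rwa [show d.F' (a, v) = d.cs (d.F (a, v)) from rfl, d.cs_cs, d.cs_cs] at this
  refine ⟨a, v, f3_cent a ?_, hv, hx⟩
  rw [← hx, iota, Commute, SemiconjBy, F_mul, F_mul] at h1
  exact congrArg Prod.fst (d.inj h1)

variable [Finite G] (hB : d.alt = true)
  (hT : ∀ g : G, Commute g d.tau → g ∈ Subgroup.normalizer ((d.P : Subgroup G) : Set G))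
  (hS : d.IsSmall)

include hB hT hS

theorem twist_end (hcc : d.cc * d.L k5 * d.cc = d.L dd5 * d.L k5 * d.iota) : False := by
  set n₀ := d.cc * d.tau with hn₀
  have hn₀io : Commute n₀ d.iota := (d.commute_cc_iota hB).mul_left d.commute_tau_iota_s
  have hn₀2 : Commute n₀ (d.L dd5) := (d.commute_cc_io2 hB).mul_left d.commute_tau_io2
  have hccinv : d.cc⁻¹ = d.cc := inv_eq_of_mul_eq_one_left d.cc_sq
  have hdd : ∀ x : G, d.L dd5 * (d.L dd5 * x) = x := fun x => by
    rw [← mul_assoc, d.L_sq dd5_sq, one_mul]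
  have hn₀k : n₀ * d.L k5 * n₀⁻¹ = d.L k5 * d.iota := by
    calc n₀ * d.L k5 * n₀⁻¹ = d.cc * (d.tau * d.L k5 * d.tau⁻¹) * d.cc⁻¹ := by rw [hn₀]; group
      _ = d.cc * (d.L dd5 * d.L k5) * d.cc := by rw [d.tau_inv, hccinv, d.tau_c2]
      _ = d.L dd5 * (d.cc * d.L k5 * d.cc) := by
        rw [← mul_assoc, (d.commute_cc_io2 hB).eq]; group
      _ = d.L k5 * d.iota := by rw [hcc, mul_assoc, hdd]
  set n := d.L bs5 * n₀ * (d.L bs5)⁻¹ with hn
  have hnio : Commute n d.iota :=
    ((d.iota_commute_L bs5).symm.mul_left hn₀io).mul_left (d.iota_commute_L bs5).symm.inv_left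
  have hb : ∀ v : P5, d.L bs5 * d.L v * (d.L bs5)⁻¹ = d.L (bs5 * v * bs5⁻¹) := fun v => d.L_conj bs5 v
  have hbio : d.L bs5 * d.iota * (d.L bs5)⁻¹ = d.iota := by
    rw [← (d.iota_commute_L bs5).eq, mul_inv_cancel_right]
  have hn2 : n * d.L dd5 * n⁻¹ = d.L dd5 * d.iota := by
    calc n * d.L dd5 * n⁻¹
        = d.L bs5 * (n₀ * ((d.L bs5)⁻¹ * d.L dd5 * d.L bs5) * n₀⁻¹) * (d.L bs5)⁻¹ := by rw [hn]; group
      _ = d.L bs5 * (n₀ * d.L k5 * n₀⁻¹) * (d.L bs5)⁻¹ := by
        rw [show (d.L bs5)⁻¹ * d.L dd5 * d.L bs5 = d.L k5 from by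
          rw [← b5_spec.1, ← hb]; group]
      _ = (d.L bs5 * d.L k5 * (d.L bs5)⁻¹) * (d.L bs5 * d.iota * (d.L bs5)⁻¹) := by rw [hn₀k]; group
      _ = d.L dd5 * d.iota := by rw [hbio, hb, b5_spec.1]
  have hnk : n * d.L k5 * n⁻¹ = d.L k5 * d.iota := by
    calc n * d.L k5 * n⁻¹
        = d.L bs5 * (n₀ * ((d.L bs5)⁻¹ * d.L k5 * d.L bs5) * n₀⁻¹) * (d.L bs5)⁻¹ := by rw [hn]; group
      _ = d.L bs5 * (n₀ * d.L dd5 * n₀⁻¹ * (n₀ * d.L k5 * n₀⁻¹)) * (d.L bs5)⁻¹ := by
        rw [show (d.L bs5)⁻¹ * d.L k5 * d.L bs5 = d.L (dd5 * k5) from by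
          conv_lhs => rw [← b5_spec.2.1, ← hb]
          group, map_mul]
        group
      _ = d.L bs5 * (d.L dd5 * d.L k5) * (d.L bs5)⁻¹ * (d.L bs5 * d.iota * (d.L bs5)⁻¹) := by
        rw [hn₀k, hn₀2.eq, mul_inv_cancel_right]; group
      _ = d.L k5 * d.iota := by rw [hbio, ← map_mul, hb, b5_spec.2.1]
  have hio : ∀ x : G, x * d.iota * d.iota = x := fun x => by rw [mul_assoc, d.iota_sq_s, mul_one]
  have hnio' : n * d.iota * n⁻¹ = d.iota := by rw [hnio.eq, mul_inv_cancel_right]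
  have hni : ∀ x : G, n * x * n⁻¹ = x * d.iota → n⁻¹ * x * n = x * d.iota := by
    intro x hx
    have h1 : n * (x * d.iota) * n⁻¹ = x := by
      calc n * (x * d.iota) * n⁻¹ = (n * x * n⁻¹) * (n * d.iota * n⁻¹) := by group
        _ = x := by rw [hx, hnio', hio]
    calc n⁻¹ * x * n = n⁻¹ * (n * (x * d.iota) * n⁻¹) * n := by rw [h1]
      _ = x * d.iota := by group
  set m := d.tau * n * d.tau * n⁻¹ with hm
  have htio : d.tau * d.iota * d.tau = d.iota := by
    rw [d.commute_tau_iota_s.eq, mul_assoc, d.tau_sq, mul_one]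
  have ht2 : d.tau * d.L dd5 * d.tau = d.L dd5 := by
    rw [d.commute_tau_io2.eq, mul_assoc, d.tau_sq, mul_one]
  have htmul : ∀ x y : G, d.tau * (x * y) * d.tau = (d.tau * x * d.tau) * (d.tau * y * d.tau) := by
    intro x y
    calc d.tau * (x * y) * d.tau = d.tau * x * 1 * y * d.tau := by group
      _ = _ := by rw [← d.tau_sq]; group
  have hmio : Commute m d.iota :=
    (((d.commute_tau_iota_s.mul_left hnio).mul_left d.commute_tau_iota_s).mul_left hnio.inv_left)
  have hmc : ∀ x : G, m * x * m⁻¹ = d.tau * (n * (d.tau * (n⁻¹ * x * n) * d.tau) * n⁻¹) * d.tau := by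
    intro x
    rw [hm]
    simp only [mul_inv_rev, inv_inv, d.tau_inv]
    group
  have hm2 : Commute m (d.L dd5) := by
    have h : m * d.L dd5 * m⁻¹ = d.L dd5 := by
      rw [hmc, hni _ hn2, htmul (d.L dd5) d.iota, ht2, htio, show n * (d.L dd5 * d.iota) * n⁻¹ =
        (n * d.L dd5 * n⁻¹) * (n * d.iota * n⁻¹) by group, hn2, hnio', hio, ht2]
    exact mul_inv_eq_iff_eq_mul.1 h
  have hmk : m * d.L k5 * m⁻¹ = d.L k5 * d.iota := by
    rw [hmc, hni _ hnk, htmul (d.L k5) d.iota, d.tau_c2, htio, show n * (d.L dd5 * d.L k5 * d.iota) * n⁻¹ =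
      (n * d.L dd5 * n⁻¹) * (n * d.L k5 * n⁻¹) * (n * d.iota * n⁻¹) by group, hn2, hnk, hnio',
      show d.L dd5 * d.iota * (d.L k5 * d.iota) * d.iota = d.L dd5 * d.L k5 * d.iota by
        rw [← mul_assoc, hio, mul_assoc, (d.iota_commute_L k5).eq, ← mul_assoc],
      htmul, htmul, ht2, d.tau_c2, htio, hdd]
  have hn₀ioi : n₀⁻¹ * (d.L k5 * d.iota) * n₀ = d.L k5 := by rw [← hn₀k]; group
  obtain ⟨a, v, ha, hv, huv⟩ := d.cent_U hB hS (x := n₀⁻¹ * m)
    (hn₀io.inv_left.mul_left hmio) (hn₀2.inv_left.mul_left hm2)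
    (mul_inv_eq_iff_eq_mul.1 (by
      calc n₀⁻¹ * m * d.L k5 * (n₀⁻¹ * m)⁻¹ = n₀⁻¹ * (m * d.L k5 * m⁻¹) * n₀ := by group
        _ = d.L k5 := by rw [hmk, hn₀ioi]))
  set w := n * d.tau * n⁻¹ with hw
  have hwm : w = d.cc * d.F (a * f3, v) := by
    have h1 : w = d.tau * m := by
      rw [hw, hm]; simp only [← mul_assoc, d.tau_sq, one_mul]
    rw [h1, show m = n₀ * (n₀⁻¹ * m) by group, ← huv, hn₀, ← mul_assoc, ← mul_assoc, d.tau_cc hB,
      mul_assoc, iota, F_mul, one_mul]
    congr 2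
    exact Prod.ext (by rcases ha with rfl | rfl <;> simp) rfl
  have hww : w * w = 1 := by
    calc w * w = n * (d.tau * d.tau) * n⁻¹ := by rw [hw]; group
      _ = 1 := by rw [d.tau_sq, mul_one, mul_inv_cancel]
  have ha' : a * f3 = 1 ∨ a * f3 = f3 := by rcases ha with rfl | rfl <;> decide
  revert ha' hwm
  generalize a * f3 = q
  intro hwm hq
  have hFF : d.F (q, v) * d.F (q, v) = 1 := by
    rw [F_mul, show q * q = 1 from by rcases hq with rfl | rfl <;> decide,
      show v * v = 1 from by rcases hv with rfl | rfl | rfl | rfl <;> decide +kernel]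
    exact map_one d.F
  have hfix : d.cc * d.F (q, v) * d.cc = d.F (q, v) := by
    have h1 := hww
    rw [hwm, ← mul_assoc, mul_eq_one_iff_eq_inv, inv_eq_of_mul_eq_one_left hFF] at h1
    exact h1
  have hcq : d.cc * d.F (q, v) * d.cc = d.F (q, 1) * (d.cc * d.L v * d.cc) := by
    have hq1 : Commute d.cc (d.F (q, 1)) := by
      rcases hq with rfl | rfl
      · rw [show d.F ((1 : P3), (1 : P5)) = 1 from map_one d.F]; exact Commute.one_right _
      · exact d.commute_cc_iota hB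
    rw [show d.F (q, v) = d.F (q, 1) * d.L v by rw [L_apply, F_mul, one_mul, mul_one],
      ← mul_assoc d.cc, hq1.eq]
    group
  have hkk : ∀ x, InV x → (x = k5 ∨ x = dd5 * k5) → d.cc * d.L x * d.cc ≠ d.L x := by
    intro x _ hx h
    rcases hx with rfl | rfl
    · rw [hcc, ← map_mul] at h
      exact d.L_ne_mul_iota _ _ h.symm
    · rw [map_mul, ← mul_assoc, (d.commute_cc_io2 hB).eq, mul_assoc, mul_assoc,
        ← mul_assoc d.cc, hcc, mul_assoc (d.L dd5) (d.L k5), hdd, ← map_mul] at h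
      exact d.L_ne_mul_iota _ _ h.symm
  have hv1 : v = 1 ∨ v = dd5 := by
    have h1 : d.cc * d.L v * d.cc = d.L v := by
      have := hcq.symm.trans hfix
      rw [show d.F (q, v) = d.F (q, 1) * d.L v by rw [L_apply, F_mul, one_mul, mul_one]] at this
      exact mul_left_cancel this
    rcases hv with h | h | h | h
    · exact Or.inl h
    · exact Or.inr h
    · exact absurd h1 (hkk v (Or.inr (Or.inr (Or.inl h))) (Or.inl h))
    · exact absurd h1 (hkk v (Or.inr (Or.inr (Or.inr h))) (Or.inr h))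
  obtain ⟨g, hg⟩ := to_dd v hv1
  have hFv : d.F (q, v) = (if q = 1 then 1 else d.iota) * d.L v := by
    rcases hq with rfl | rfl
    · rw [if_pos rfl, one_mul]; rfl
    · rw [if_neg (by decide), d.F_eq_iota rfl]
  rcases hv1 with rfl | rfl
  · rw [map_one, mul_one] at hFv
    rcases hq with rfl | rfl
    · rw [if_pos rfl] at hFv
      rw [hFv, mul_one, cc] at hwm
      rw [mul_one] at hg
      refine d.iota_not_tau hB (d.L' g * n) ?_
      rw [show d.L' g * n * d.tau * (d.L' g * n)⁻¹ = d.L' g * w * (d.L' g)⁻¹ by rw [hw]; group,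
        hwm, L'_conj, hg, d.iota_L' hB]
    · rw [if_neg (by decide)] at hFv
      obtain ⟨g', hg'⟩ := to_dd dd5 (Or.inr rfl)
      rw [hFv, cc, d.iota_L' hB, ← map_mul] at hwm
      refine d.iota_not_tau hB (d.L' g' * n) ?_
      rw [show d.L' g' * n * d.tau * (d.L' g' * n)⁻¹ = d.L' g' * w * (d.L' g')⁻¹ by rw [hw]; group,
        hwm, L'_conj, hg', d.iota_L' hB]
  · have hio2 : d.L dd5 = d.F' (f3, 1) := (d.F'_f3 hB).symm
    rcases hq with rfl | rfl
    · rw [if_pos rfl, one_mul, hio2] at hFv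
      obtain ⟨g', hg'⟩ := to_dd 1 (Or.inl rfl)
      rw [hFv, cc, L'_apply, ← map_mul, Prod.mk_mul_mk, one_mul, mul_one] at hwm
      rw [mul_one] at hg'
      refine d.rho_not_tau hT hB (d.L' g' * n) ?_
      rw [show d.L' g' * n * d.tau * (d.L' g' * n)⁻¹ = d.L' g' * w * (d.L' g')⁻¹ by rw [hw]; group,
        hwm, L'_apply, ← map_inv, ← map_mul, ← map_mul]
      simp only [Prod.mk_mul_mk, Prod.inv_mk, one_mul, inv_one, mul_one, hg']
      rw [← d.rho_eq, hio2, d.iota_L' hB, L'_apply, ← map_mul, Prod.mk_mul_mk, one_mul, mul_one]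
    · rw [if_neg (by decide), hio2, d.iota_L' hB, L'_apply, ← map_mul, Prod.mk_mul_mk, one_mul,
        mul_one] at hFv
      rw [hFv, cc, L'_apply, ← map_mul, Prod.mk_mul_mk, one_mul] at hwm
      refine d.rho_not_tau hT hB (d.L' g * n) ?_
      rw [show d.L' g * n * d.tau * (d.L' g * n)⁻¹ = d.L' g * w * (d.L' g)⁻¹ by rw [hw]; group,
        hwm, L'_apply, ← map_inv, ← map_mul, ← map_mul]
      simp only [Prod.mk_mul_mk, Prod.inv_mk, one_mul, inv_one, mul_one, hg]
      rw [← d.rho_eq, hio2, d.iota_L' hB, L'_apply, ← map_mul, Prod.mk_mul_mk, one_mul, mul_one]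

theorem twist_fixed {n : G} (h1 : Commute n d.iota) (h2 : Commute n (d.L dd5))
    (h3 : n * d.L k5 * n⁻¹ = d.L k5 * d.iota) {a : P3} (ha : a = 1 ∨ a = f3)
    (ht : d.tau * n * d.tau = n * d.F (a, 1)) : False := by
  rcases ha with rfl | rfl
  · rw [show d.F ((1 : P3), (1 : P5)) = 1 from map_one d.F, mul_one] at ht
    have hc : Commute n d.tau := by
      show n * d.tau = d.tau * n
      calc n * d.tau = d.tau * n * d.tau * d.tau := by rw [ht]
        _ = d.tau * n := by rw [mul_assoc, d.tau_sq, mul_one]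
    obtain ⟨a, l, -, -, rfl⟩ := d.cent_tau_iota hT hc h1
    rw [L_apply, F_conj, mul_one, mul_inv_cancel] at h3
    exact d.L_ne_mul_iota _ _ h3
  · have hy1 : Commute (d.cc * n) d.iota := (d.commute_cc_iota hB).mul_left h1
    have hy2 : Commute (d.cc * n) d.tau := by
      have h : d.tau * (d.cc * n) * d.tau = d.cc * n := by
        calc d.tau * (d.cc * n) * d.tau = d.tau * d.cc * 1 * n * d.tau := by group
          _ = (d.tau * d.cc * d.tau) * (d.tau * n * d.tau) := by rw [← d.tau_sq]; group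
          _ = d.cc * n := by
            rw [d.tau_cc hB, ht, show d.F (f3, (1 : P5)) = d.iota from rfl, h1.eq,
              mul_assoc d.cc, ← mul_assoc d.iota, d.iota_sq_s, one_mul]
      show d.cc * n * d.tau = d.tau * (d.cc * n)
      calc d.cc * n * d.tau = d.tau * (d.cc * n) * d.tau * d.tau := by rw [h]
        _ = d.tau * (d.cc * n) := by rw [mul_assoc, d.tau_sq, mul_one]
    obtain ⟨a, l, -, hl, hy⟩ := d.cent_tau_iota hT hy2 hy1
    have hl2 : l * dd5 = dd5 * l := by
      have := (d.commute_cc_io2 hB).mul_left h2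
      rw [← hy, L_apply, Commute, SemiconjBy, F_mul, F_mul] at this
      exact congrArg Prod.snd (d.inj this)
    have hccinv : d.cc⁻¹ = d.cc := inv_eq_of_mul_eq_one_left d.cc_sq
    have hn : n = d.cc * d.F (a, l) := by rw [hy, ← mul_assoc, d.cc_sq, one_mul]
    rw [hn, show d.cc * d.F (a, l) * d.L k5 * (d.cc * d.F (a, l))⁻¹ =
      d.cc * (d.F (a, l) * d.L k5 * (d.F (a, l))⁻¹) * d.cc⁻¹ by group, L_apply, F_conj, mul_one,
      mul_inv_cancel, hccinv] at h3
    rcases cent_dd_t5 l hl hl2 with e | e <;> rw [e] at h3 <;> simp only [← L_apply] at h3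
    · have h4 := congrArg d.cs h3
      rw [map_mul, map_mul, map_mul, d.cs_L, d.cs_iota hB, show d.cs d.cc = d.L k5 from d.cs_L' k5,
        show d.L' k5 = d.cc from rfl] at h4
      have h5 : d.L k5 * d.cc * d.L k5 = d.cc * d.iota := by
        calc d.L k5 * d.cc * d.L k5 = d.L k5 * (d.cc * d.L k5 * d.cc) * d.cc := by
              simp only [mul_assoc, d.cc_sq, mul_one]
          _ = d.L k5 * d.L k5 * d.iota * d.cc := by rw [h3]; group
          _ = d.cc * d.iota := by rw [d.L_sq k5_sq, one_mul, (d.commute_cc_iota hB).eq]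
      have h6 : d.L dd5 = d.iota := mul_left_cancel (h4.symm.trans h5)
      exact d.L_ne_mul_iota dd5 1 (by rw [map_one, one_mul, h6])
    · refine d.twist_end hB hT hS ?_
      rw [map_mul, ← mul_assoc, (d.commute_cc_io2 hB).eq, mul_assoc, mul_assoc] at h3
      calc d.cc * d.L k5 * d.cc = d.L dd5 * (d.L dd5 * (d.cc * (d.L k5 * d.cc))) := by
            rw [← mul_assoc (d.L dd5), d.L_sq dd5_sq, one_mul, mul_assoc]
        _ = _ := by rw [h3, mul_assoc]

/-- No twisting element. -/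
theorem no_twist {n : G} (h1 : Commute n d.iota) (h2 : Commute n (d.L dd5))
    (h3 : n * d.L k5 * n⁻¹ = d.L k5 * d.iota) : False := by
  set u := n⁻¹ * (d.tau * n * d.tau) with hu
  have ht2 : d.tau * d.L dd5 * d.tau = d.L dd5 := by
    rw [d.commute_tau_io2.eq, mul_assoc, d.tau_sq, mul_one]
  have htio : d.tau * d.iota * d.tau = d.iota := by
    rw [d.commute_tau_iota_s.eq, mul_assoc, d.tau_sq, mul_one]
  have hu1 : Commute u d.iota :=
    h1.inv_left.mul_left ((d.commute_tau_iota_s.mul_left h1).mul_left d.commute_tau_iota_s)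
  have hu2 : Commute u (d.L dd5) :=
    h2.inv_left.mul_left ((d.commute_tau_io2.mul_left h2).mul_left d.commute_tau_io2)
  have hu3 : Commute u (d.L k5) := by
    have h : u * d.L k5 * u⁻¹ = d.L k5 := by
      calc u * d.L k5 * u⁻¹
          = n⁻¹ * (d.tau * (n * (d.tau * d.L k5 * d.tau) * n⁻¹) * d.tau) * n := by
            rw [hu]; simp only [mul_inv_rev, inv_inv, d.tau_inv]; group
        _ = n⁻¹ * (d.tau * (d.L dd5 * (d.L k5 * d.iota)) * d.tau) * n := by
            rw [d.tau_c2, show n * (d.L dd5 * d.L k5) * n⁻¹ =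
              (n * d.L dd5 * n⁻¹) * (n * d.L k5 * n⁻¹) by group, h3, h2.eq, mul_inv_cancel_right]
        _ = n⁻¹ * ((d.tau * d.L dd5 * d.tau) * (d.tau * d.L k5 * d.tau) *
              (d.tau * d.iota * d.tau)) * n := by
            simp only [mul_assoc]
            rw [← mul_assoc d.tau d.tau, d.tau_sq, one_mul, ← mul_assoc d.tau d.tau, d.tau_sq,
              one_mul]
        _ = n⁻¹ * (d.L k5 * d.iota) * n := by
            rw [ht2, d.tau_c2, htio, ← mul_assoc (d.L dd5), d.L_sq dd5_sq, one_mul]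
        _ = d.L k5 := by rw [← h3]; group
    exact mul_inv_eq_iff_eq_mul.1 h
  obtain ⟨a, v, ha, hv, huv⟩ := d.cent_U hB hS hu1 hu2 hu3
  have htn : d.tau * n * d.tau = n * d.F (a, v) := by rw [huv, hu]; group
  have hv1 : v = 1 ∨ v = dd5 := by
    refine t5_fix_V v hv ?_
    have e : d.F (a, v) * (d.tau * d.F (a, v) * d.tau) = 1 := by
      have h4 : n = n * (d.F (a, v) * (d.tau * d.F (a, v) * d.tau)) := by
        calc n = d.tau * (d.tau * n * d.tau) * d.tau := by
              rw [← mul_assoc, ← mul_assoc, d.tau_sq, one_mul, mul_assoc, d.tau_sq, mul_one]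
          _ = d.tau * n * 1 * d.F (a, v) * d.tau := by rw [htn]; group
          _ = (d.tau * n * d.tau) * (d.tau * d.F (a, v) * d.tau) := by rw [← d.tau_sq]; group
          _ = _ := by rw [htn, mul_assoc]
      exact mul_left_cancel (h4.symm.trans (mul_one n).symm)
    rw [tau, F_mul, F_mul, F_mul] at e
    exact congrArg Prod.snd (d.inj (e.trans (map_one d.F).symm))
  rcases hv1 with rfl | rfl
  · exact d.twist_fixed hB hT hS h1 h2 h3 ha htn
  · refine d.twist_fixed hB hT hS (n := n * d.L k5) (h1.mul_left (d.iota_commute_L k5).symm)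
      (h2.mul_left d.commute_io2_c2.symm) ?_ ha ?_
    · calc n * d.L k5 * d.L k5 * (n * d.L k5)⁻¹ = n * d.L k5 * n⁻¹ := by group
        _ = _ := h3
    · calc d.tau * (n * d.L k5) * d.tau = d.tau * n * 1 * d.L k5 * d.tau := by group
        _ = (d.tau * n * d.tau) * (d.tau * d.L k5 * d.tau) := by rw [← d.tau_sq]; group
        _ = n * (d.F (a, dd5) * (d.L dd5 * d.L k5)) := by rw [htn, d.tau_c2, mul_assoc]
        _ = n * d.L k5 * d.F (a, 1) := by
            rw [mul_assoc n, L_apply, L_apply, F_mul, F_mul, F_mul]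
            congr 2
            simp [← mul_assoc, dd5_sq]

end Data

end Cfsg.Agent.Sym8Three96
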