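import Mathlib
import Cfsg.Agent.Lib.SylowTwoSymAlt

/-!
A 2-element of a finite symmetric group lies in exactly one Sylow 2-subgroup iff it has at most
two fixed points and its nontrivial cycles have pairwise different lengths (helper56).
-/

set_option autoImplicit false

open Equiv Equiv.Perm

namespace Cfsg.Agent.SymUniqueSylow56

open Cfsg.Agent.SylowTwoSymAlt

universe u

variable {α : Type u}

/-- The length of the cycle through a point. -/
noncomputable def per (x : Perm α) (a : α) : ℕ := MulAction.period x a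

theorem pow_fix_iff (x : Perm α) (a : α) (i : ℕ) : (x ^ i) a = a ↔ per x a ∣ i :=
  MulAction.pow_smul_eq_iff_period_dvd (m := x) (a := a) (n := i)

theorem fix_iff (x : Perm α) (a : α) : x a = a ↔ per x a = 1 := by
  rw [← Nat.dvd_one, ← pow_fix_iff, pow_one]

theorem per_eq_of_forall {x : Perm α} {a b : α}
    (h : ∀ i : ℕ, (x ^ i) a = a ↔ (x ^ i) b = b) : per x a = per x b := by
  refine Nat.dvd_antisymm ?_ ?_
  · rw [← pow_fix_iff, h, pow_fix_iff]
  · rw [← pow_fix_iff, ← h, pow_fix_iff]

theorem commute_apply {x z : Perm α} (h : Commute x z) (a : α) : z (x a) = x (z a) :=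
  (Perm.congr_fun h a).symm

theorem per_of_commute {x z : Perm α} (h : Commute x z) (a : α) : per x (z a) = per x a := by
  refine per_eq_of_forall fun i => ?_
  rw [← commute_apply (h.pow_left i) a, EmbeddingLike.apply_eq_iff_eq]

section Fin

variable [Fintype α] [DecidableEq α]

theorem per_eq_card_cycleOf {x : Perm α} {a : α} (ha : a ∈ x.support) :
    per x a = (x.cycleOf a).support.card := by
  have hc := isCycle_cycleOf x (mem_support.1 ha)
  have hm : x.cycleOf a a ≠ a := by rw [cycleOf_apply_self]; exact mem_support.1 ha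
  rw [← hc.orderOf]
  refine Nat.dvd_antisymm ?_ ?_
  · rw [← pow_fix_iff, ← cycleOf_pow_apply_self, pow_orderOf_eq_one, Perm.one_apply]
  · rw [orderOf_dvd_iff_pow_eq_one, hc.pow_eq_one_iff' hm, cycleOf_pow_apply_self, pow_fix_iff]

/-- The combinatorial condition. -/
def Good (x : Perm α) : Prop :=
  (Finset.univ \ x.support).card ≤ 2 ∧
    ∀ a b : α, a ∈ x.support → b ∈ x.support → per x a = per x b → x.SameCycle a b

theorem good_iff (x : Perm α) :
    Good x ↔ (Fintype.card α ≤ x.support.card + 2 ∧ x.cycleType.Nodup) := by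
  refine and_congr ?_ ?_
  · rw [← Finset.compl_eq_univ_sdiff, Finset.card_compl]
    omega
  · rw [cycleType_def, Multiset.nodup_map_iff_inj_on x.cycleFactorsFinset.2]
    constructor
    · intro h c hc d hd he
      obtain ⟨a, ha⟩ : ∃ a, a ∈ c.support := by
        rw [← Finset.Nonempty]
        exact (mem_cycleFactorsFinset_iff.1 hc).1.nonempty_support
      obtain ⟨b, hb⟩ : ∃ b, b ∈ d.support := by
        rw [← Finset.Nonempty]
        exact (mem_cycleFactorsFinset_iff.1 hd).1.nonempty_support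
      have ha' := mem_cycleFactorsFinset_support_le hc ha
      have hb' := mem_cycleFactorsFinset_support_le hd hb
      have ec := cycle_is_cycleOf ha hc
      have ed := cycle_is_cycleOf hb hd
      have hs := h a b ha' hb' (by
        rw [per_eq_card_cycleOf ha', per_eq_card_cycleOf hb', ← ec, ← ed]; exact he)
      rw [ec, ed]
      exact hs.cycleOf_eq
    · intro h a b ha hb he
      rw [sameCycle_iff_cycleOf_eq_of_mem_support ha hb]
      refine h _ (cycleOf_mem_cycleFactorsFinset_iff.2 ha) _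
        (cycleOf_mem_cycleFactorsFinset_iff.2 hb) ?_
      show (x.cycleOf a).support.card = (x.cycleOf b).support.card
      rw [← per_eq_card_cycleOf ha, ← per_eq_card_cycleOf hb, he]

variable {z : Perm α}

theorem cycleOf_eq_swap (hz : Matching z) {a : α} (ha : z a ≠ a) :
    z.cycleOf a = Equiv.swap a (z a) ∧ z (z a) = a := by
  have hc : z.cycleOf a ∈ z.cycleFactorsFinset :=
    cycleOf_mem_cycleFactorsFinset_iff.2 (mem_support.2 ha)
  obtain ⟨u, v, huv, hcuv⟩ := hz.1 _ hc
  have h1 : z.cycleOf a a = z a := cycleOf_apply_self z a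
  have h2 : z.cycleOf a (z a) = z (z a) :=
    SameCycle.cycleOf_apply ((SameCycle.refl z a).apply_right)
  have hau : a = u ∨ a = v := by
    by_contra h
    rw [not_or] at h
    exact ha (by rw [← h1, hcuv, swap_apply_of_ne_of_ne h.1 h.2])
  rcases hau with rfl | rfl
  · rw [hcuv, swap_apply_left] at h1
    rw [hcuv, ← h1, swap_apply_right] at h2
    exact ⟨by rw [hcuv, h1], by rw [← h1]; exact h2.symm⟩
  · rw [hcuv, swap_apply_right] at h1
    rw [hcuv, ← h1, swap_apply_left] at h2
    exact ⟨by rw [hcuv, h1, Equiv.swap_comm], by rw [← h1]; exact h2.symm⟩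

theorem apply_apply (hz : Matching z) (a : α) : z (z a) = a := by
  by_cases h : z a = a
  · rw [h, h]
  · exact (cycleOf_eq_swap hz h).2

theorem eq_of_fixed (hz : Matching z) {a b : α} (ha : z a = a) (hb : z b = b) : a = b := by
  have hle : z.supportᶜ.card ≤ 1 := by
    rw [Finset.card_compl]; have := hz.2; omega
  exact Finset.card_le_one.1 hle a (by simpa using ha) b (by simpa using hb)

theorem moved_of_moved (hz : Matching z) {x : Perm α} (hx : Commute x z) {a : α} (ha : x a ≠ a) :
    z a ≠ a := by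
  intro h
  refine ha (eq_of_fixed hz ?_ h)
  rw [commute_apply hx, h]

theorem exists_pow_matching {x : Perm α} (hgood : Good x) (hz : Matching z) (hx : Commute x z)
    {a : α} (ha : x a ≠ a) :
    ∃ i : ℕ, z a = (x ^ i) a ∧ per x a ∣ 2 * i ∧ ¬ per x a ∣ i := by
  have hza := moved_of_moved hz hx ha
  have hper := per_of_commute hx a
  have hsupp : z a ∈ x.support := by
    rw [mem_support, Ne, fix_iff, hper, ← fix_iff]; exact ha
  obtain ⟨i, _, hi⟩ :=
    (hgood.2 a (z a) (mem_support.2 ha) hsupp hper.symm).exists_pow_eq'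
  refine ⟨i, hi.symm, ?_, fun h => hza (by rw [← hi, (pow_fix_iff x a i).2 h])⟩
  rw [← pow_fix_iff, two_mul, pow_add, Perm.mul_apply, hi, ← commute_apply (hx.pow_left i) a, hi,
    apply_apply hz]

theorem even_per {x : Perm α} (hgood : Good x) (hz : Matching z) (hx : Commute x z)
    {a : α} (ha : x a ≠ a) : 2 ∣ per x a := by
  obtain ⟨i, -, h1, h2⟩ := exists_pow_matching hgood hz hx ha
  by_contra h
  exact h2 (((Nat.prime_two.coprime_iff_not_dvd).2 h).symm.dvd_of_dvd_mul_left h1)

theorem half_unique {m i j : ℕ} (hi : m ∣ 2 * i) (hi' : ¬ m ∣ i) (hj : m ∣ 2 * j)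
    (hj' : ¬ m ∣ j) : i % m = j % m := by
  rcases Nat.eq_zero_or_pos m with rfl | hm
  · simp at hi hi'
    omega
  have key : ∀ i, m ∣ 2 * i → ¬ m ∣ i → 2 * (i % m) = m := by
    intro i hi hi'
    have h1 : 0 < i % m := Nat.pos_of_ne_zero fun h => hi' (Nat.dvd_of_mod_eq_zero h)
    have h2 := Nat.mod_lt i hm
    have h3 : m ∣ 2 * (i % m) := by
      have h4 : 2 * (i % m) + m * (2 * (i / m)) = 2 * i := by
        conv_rhs => rw [← Nat.mod_add_div i m]
        ring
      rw [← h4] at hi
      exact (Nat.dvd_add_left (dvd_mul_right m _)).1 hi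
    obtain ⟨k, hk⟩ := h3
    have hk1 : k = 1 := by
      rcases k with _ | _ | k
      · omega
      · rfl
      · nlinarith
    rw [hk, hk1, mul_one]
  have := key i hi hi'
  have := key j hj hj'
  omega

/-- A good element commutes with exactly one matching. -/
theorem matching_unique {x z₁ z₂ : Perm α} (hgood : Good x) (h₁ : Matching z₁) (h₂ : Matching z₂)
    (hx₁ : Commute x z₁) (hx₂ : Commute x z₂) : z₁ = z₂ := by
  ext a
  by_cases ha : x a = a
  · have hf : ∀ {z : Perm α}, Commute x z → ∀ {b : α}, x b = b →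
        z b ∈ Finset.univ \ x.support := by
      intro z hz b hb
      have : x (z b) = z b := by rw [← commute_apply hz, hb]
      simpa using this
    have haF : a ∈ Finset.univ \ x.support := by simpa using ha
    by_contra hne
    by_cases e1 : z₁ a = a
    · -- the other fixed point is fixed by both
      have e2 : z₂ a ≠ a := fun h => hne (e1.trans h.symm)
      set b := z₂ a
      have hb : x b = b := by simpa using hf hx₂ ha
      have hzb : z₁ b = a ∨ z₁ b = b := by
        have h3 := hf hx₁ hb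
        by_contra hc
        rw [not_or] at hc
        have : ({a, b, z₁ b} : Finset α).card ≤ 2 := by
          refine le_trans (Finset.card_le_card ?_) hgood.1
          intro y hy
          simp only [Finset.mem_insert, Finset.mem_singleton] at hy
          rcases hy with rfl | rfl | rfl
          · exact haF
          · exact hf hx₂ ha
          · exact h3
        rw [Finset.card_eq_three.2 ⟨a, b, z₁ b, Ne.symm e2, Ne.symm hc.1, Ne.symm hc.2, rfl⟩] at this
        omega
      rcases hzb with h | h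
      · exact e2 (z₁.injective (h.trans e1.symm))
      · exact e2 (eq_of_fixed h₁ h e1)
    · by_cases e2 : z₂ a = a
      · set b := z₁ a
        have hb : x b = b := by simpa using hf hx₁ ha
        have hzb : z₂ b = a ∨ z₂ b = b := by
          have h3 := hf hx₂ hb
          by_contra hc
          rw [not_or] at hc
          have : ({a, b, z₂ b} : Finset α).card ≤ 2 := by
            refine le_trans (Finset.card_le_card ?_) hgood.1
            intro y hy
            simp only [Finset.mem_insert, Finset.mem_singleton] at hy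
            rcases hy with rfl | rfl | rfl
            · exact haF
            · exact hf hx₁ ha
            · exact h3
          rw [Finset.card_eq_three.2 ⟨a, b, z₂ b, Ne.symm e1, Ne.symm hc.1, Ne.symm hc.2, rfl⟩] at this
          omega
        rcases hzb with h | h
        · exact e1 (z₂.injective (h.trans e2.symm))
        · exact e1 (eq_of_fixed h₂ h e2)
      · have : ({a, z₁ a, z₂ a} : Finset α).card ≤ 2 := by
          refine le_trans (Finset.card_le_card ?_) hgood.1
          intro y hy
          simp only [Finset.mem_insert, Finset.mem_singleton] at hy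
          rcases hy with rfl | rfl | rfl
          · exact haF
          · exact hf hx₁ ha
          · exact hf hx₂ ha
        rw [Finset.card_eq_three.2 ⟨a, z₁ a, z₂ a, Ne.symm e1, Ne.symm e2, hne, rfl⟩] at this
        omega
  · obtain ⟨i, hi, hi1, hi2⟩ := exists_pow_matching hgood h₁ hx₁ ha
    obtain ⟨j, hj, hj1, hj2⟩ := exists_pow_matching hgood h₂ hx₂ ha
    have h := half_unique hi1 hi2 hj1 hj2
    have hmod : ∀ k : ℕ, (x ^ k) a = (x ^ (k % per x a)) a := by
      intro k
      conv_lhs => rw [← Nat.mod_add_div k (per x a), pow_add, Perm.mul_apply,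
        (pow_fix_iff x a _).2 (dvd_mul_right _ _)]
    rw [hi, hj, hmod i, hmod j, h]

/-- A permutation of a Sylow 2-subgroup commutes with a matching inside it. -/
theorem commute_of_mem {P : Subgroup (Perm α)} (hP : IsPGroup 2 P) (hz : Matching z)
    (hzP : ∀ c ∈ z.cycleFactorsFinset, c ∈ P) {y : Perm α} (hy : y ∈ P) : Commute y z := by
  have hsub : (y * z * y⁻¹).cycleFactorsFinset ⊆ z.cycleFactorsFinset := by
    intro d hd
    have hd' : y * (y⁻¹ * d * y) * y⁻¹ ∈ (y * z * y⁻¹).cycleFactorsFinset := by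
      simpa [mul_assoc] using hd
    rw [mem_cycleFactorsFinset_conj] at hd'
    refine swap_mem_factors hP hz hzP ((hz.conj y).1 d hd) ?_
    have := P.mul_mem (P.mul_mem hy (hzP _ hd')) (P.inv_mem hy)
    simpa [mul_assoc] using this
  have hcard : (y * z * y⁻¹).cycleFactorsFinset.card = z.cycleFactorsFinset.card := by
    have e := (hz.conj y).support_card
    rw [card_support_conj, hz.support_card] at e
    omega
  have := cycleFactorsFinset_injective (Finset.eq_of_subset_of_card_le hsub hcard.ge)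
  exact mul_inv_eq_iff_eq_mul.1 this

theorem sameCycle_pow {x : Perm α} (a : α) (i : ℕ) : x.SameCycle a ((x ^ i) a) :=
  (SameCycle.refl x a).pow_right

/-- A 2-element commuting with a matching lies in a Sylow 2-subgroup containing that matching. -/
theorem exists_sylow_ge {x : Perm α} (hx : ∃ k : ℕ, orderOf x = 2 ^ k) (hz : Matching z)
    (hxz : Commute x z) :
    ∃ P : Sylow 2 (Perm α), x ∈ P ∧ ∀ c ∈ z.cycleFactorsFinset, c ∈ (P : Subgroup (Perm α)) := by
  set K := Subgroup.centralizer (z.cycleFactorsFinset : Set (Perm α))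
  have hK : IsPGroup 2 K := by
    intro y
    refine ⟨1, Subtype.ext ?_⟩
    have := hz.mul_self_eq_one (x := (y : Perm α))
      (fun c hc => ((Subgroup.mem_centralizer_iff.1 y.2) c (by exact_mod_cast hc)).symm)
    simpa [pow_two] using this
  have hX : IsPGroup 2 (Subgroup.zpowers x) := by
    obtain ⟨k, hk⟩ := hx
    exact IsPGroup.of_card (by rw [Nat.card_zpowers, hk])
  have hnorm : Subgroup.zpowers x ≤ Subgroup.normalizer (K : Set (Perm α)) := by
    rw [Subgroup.zpowers_le]
    refine mem_normalizer_of_conj_mem K fun y hy => Subgroup.mem_centralizer_iff.2 fun c hc => ?_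
    have hc' : x * (x⁻¹ * c * x) * x⁻¹ ∈ (x * z * x⁻¹).cycleFactorsFinset := by
      rw [hxz.eq, mul_inv_cancel_right]
      simpa [mul_assoc] using hc
    rw [mem_cycleFactorsFinset_conj] at hc'
    have h1 := Subgroup.mem_centralizer_iff.1 hy (x⁻¹ * c * x) (by exact_mod_cast hc')
    calc c * (x * y * x⁻¹) = x * ((x⁻¹ * c * x) * y) * x⁻¹ := by group
      _ = x * (y * (x⁻¹ * c * x)) * x⁻¹ := by rw [h1]
      _ = x * y * x⁻¹ * c := by group
  obtain ⟨P, hP⟩ := (hX.to_sup_of_normal_right' hK hnorm).exists_le_sylow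
  refine ⟨P, hP (Subgroup.mem_sup_left (Subgroup.mem_zpowers x)), fun d hd =>
    hP (Subgroup.mem_sup_right (Subgroup.mem_centralizer_iff.2 fun c hc => ?_))⟩
  rcases eq_or_ne c d with h | h
  · rw [h]
  · exact cycleFactorsFinset_mem_commute' z (by exact_mod_cast hc) hd

end Fin

theorem good_image {α : Type u} [Fintype α] [DecidableEq α] {β : Type u} [Fintype β]
    [DecidableEq β] {x z : Perm α} (hgood : Good x) (hz : Matching z) (hxz : Commute x z)
    (f : (a : α) → z a ≠ a → β)
    (hfeq : ∀ a b ha hb, f a ha = f b hb → b = a ∨ b = z a)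
    (hfeq' : ∀ a b ha hb, (b = a ∨ b = z a) → f a ha = f b hb)
    (hrep : ∀ c : β, ∃ a ha, c = f a ha) (y : Perm β)
    (hpow : ∀ (i : ℕ) (a : α) (ha : z a ≠ a),
        ∃ h : z ((x ^ i) a) ≠ (x ^ i) a, (y ^ i) (f a ha) = f ((x ^ i) a) h) :
    Good y := by
  have hcomm : ∀ (i : ℕ) (a : α), z ((x ^ i) a) = (x ^ i) (z a) := fun i a =>
    commute_apply (hxz.pow_left i) a
  have hfixiff : ∀ (i : ℕ) (a : α) (ha : z a ≠ a), x a ≠ a →
      ((y ^ i) (f a ha) = f a ha ↔ per x a ∣ 2 * i) := by
    intro i a ha hxa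
    obtain ⟨h, he⟩ := hpow i a ha
    obtain ⟨j, hj, hj1, hj2⟩ := exists_pow_matching hgood hz hxz hxa
    rw [he]
    constructor
    · intro hf
      rcases hfeq a _ ha h hf.symm with r | r
      · exact ((pow_fix_iff x a i).1 r).trans (dvd_mul_left i 2)
      · rw [← pow_fix_iff, two_mul, pow_add, Perm.mul_apply, r, ← hcomm, r, apply_apply hz]
    · intro hd
      refine (hfeq' a _ ha h ?_).symm
      by_cases hdi : per x a ∣ i
      · exact Or.inl ((pow_fix_iff x a i).2 hdi)
      · refine Or.inr ?_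
        have hm := half_unique hd hdi hj1 hj2
        rw [hj, ← Nat.mod_add_div i (per x a), ← Nat.mod_add_div j (per x a), pow_add, pow_add,
          Perm.mul_apply, Perm.mul_apply, (pow_fix_iff x a _).2 (dvd_mul_right _ _),
          (pow_fix_iff x a _).2 (dvd_mul_right _ _), hm]
  classical
  constructor
  · set F := Finset.univ \ (y).support with hF
    have htype : ∀ a ha, f a ha ∈ F → x a = a ∨ x a = z a := by
      intro a ha hc
      rw [hF, Finset.mem_sdiff, notMem_support] at hc
      obtain ⟨h, he⟩ := hpow 1 a ha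
      rw [pow_one] at he
      rcases hfeq a _ ha h (by rw [← he]; exact hc.2.symm) with r | r
      · exact Or.inl (by simpa using r)
      · exact Or.inr (by simpa using r)
    by_contra hcard
    rw [not_le, Finset.two_lt_card] at hcard
    obtain ⟨c₁, h₁, c₂, h₂, c₃, h₃, n12, n13, n23⟩ := hcard
    obtain ⟨a₁, ha₁, rfl⟩ := hrep c₁
    obtain ⟨a₂, ha₂, rfl⟩ := hrep c₂
    obtain ⟨a₃, ha₃, rfl⟩ := hrep c₃
    have pair : ∀ a b ha hb, f a ha ≠ f b hb →
        ¬ (x a = a ∧ x b = b) ∧ ¬ (x a = z a ∧ x b = z b) := by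
      intro a b ha hb hne
      refine ⟨fun ⟨e1, e2⟩ => ?_, fun ⟨e1, e2⟩ => ?_⟩
      · have e3 : x (z a) = z a := by rw [← commute_apply hxz, e1]
        have h3 : ({a, z a, b} : Finset α).card ≤ 2 := by
          refine le_trans (Finset.card_le_card ?_) hgood.1
          intro w hy
          simp only [Finset.mem_insert, Finset.mem_singleton] at hy
          rcases hy with rfl | rfl | rfl <;> simp [e1, e2, e3]
        rw [Finset.card_eq_three.2 ⟨a, z a, b, Ne.symm ha,
          fun h => hne (hfeq' a b ha hb (Or.inl h.symm)),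
          fun h => hne (hfeq' a b ha hb (Or.inr h.symm)), rfl⟩] at h3
        omega
      · have ma : x a ≠ a := e1 ▸ ha
        have mb : x b ≠ b := e2 ▸ hb
        have two : ∀ c : α, x c ≠ c → x c = z c → per x c = 2 := by
          intro c hm hc
          have h2 : per x c ∣ 2 := by
            rw [← pow_fix_iff, pow_two, Perm.mul_apply, hc, ← commute_apply hxz, hc,
              apply_apply hz]
          rcases (Nat.dvd_prime Nat.prime_two).1 h2 with h | h
          · exact absurd ((fix_iff x c).2 h) hm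
          · exact h
        obtain ⟨i, _, hi⟩ := (hgood.2 a b (mem_support.2 ma) (mem_support.2 mb)
          (by rw [two a ma e1, two b mb e2])).exists_pow_eq'
        apply hne
        refine hfeq' a b ha hb ?_
        rw [← hi, ← Nat.mod_add_div i (per x a), pow_add, Perm.mul_apply,
          (pow_fix_iff x a _).2 (dvd_mul_right _ _), two a ma e1]
        rcases Nat.mod_two_eq_zero_or_one i with r | r <;> rw [r] <;> simp [e1]
    have t1 := htype a₁ ha₁ h₁
    have t2 := htype a₂ ha₂ h₂
    have t3 := htype a₃ ha₃ h₃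
    have p12 := pair a₁ a₂ ha₁ ha₂ n12
    have p13 := pair a₁ a₃ ha₁ ha₃ n13
    have p23 := pair a₂ a₃ ha₂ ha₃ n23
    rcases t1 with s1 | s1 <;> rcases t2 with s2 | s2 <;> rcases t3 with s3 | s3
    exacts [p12.1 ⟨s1, s2⟩, p12.1 ⟨s1, s2⟩, p13.1 ⟨s1, s3⟩, p23.2 ⟨s2, s3⟩, p23.1 ⟨s2, s3⟩,
      p13.2 ⟨s1, s3⟩, p12.2 ⟨s1, s2⟩, p12.2 ⟨s1, s2⟩]
  · intro c d hc hd he
    obtain ⟨a, ha, rfl⟩ := hrep c
    obtain ⟨b, hb, rfl⟩ := hrep d
    have moved : ∀ a ha, f a ha ∈ (y).support → x a ≠ a := by
      intro a ha hc h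
      obtain ⟨h', he'⟩ := hpow 1 a ha
      rw [pow_one] at he'
      refine mem_support.1 hc (he'.trans (hfeq' a _ ha h' (Or.inl ?_)).symm)
      simpa using h
    have ma := moved a ha hc
    have mb := moved b hb hd
    obtain ⟨k, hk⟩ := even_per hgood hz hxz ma
    obtain ⟨l, hl⟩ := even_per hgood hz hxz mb
    have hiff : ∀ i : ℕ, per x a ∣ 2 * i ↔ per x b ∣ 2 * i := fun i => by
      rw [← hfixiff i a ha ma, ← hfixiff i b hb mb, pow_fix_iff, pow_fix_iff, he]
    have hkl : k = l := by
      refine Nat.dvd_antisymm ?_ ?_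
      · have := (hiff l).2 (hl ▸ dvd_rfl)
        rw [hk] at this
        exact (Nat.mul_dvd_mul_iff_left two_pos).1 this
      · have := (hiff k).1 (hk ▸ dvd_rfl)
        rw [hl] at this
        exact (Nat.mul_dvd_mul_iff_left two_pos).1 this
    obtain ⟨i, _, hi⟩ := (hgood.2 a b (mem_support.2 ma) (mem_support.2 mb)
      (by rw [hk, hl, hkl])).exists_pow_eq'
    obtain ⟨h', he'⟩ := hpow i a ha
    have : f b hb = f ((x ^ i) a) h' := hfeq' b _ hb h' (Or.inl hi)
    rw [this, ← he']
    exact (SameCycle.refl _ _).pow_right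

set_option maxHeartbeats 1600000 in
theorem unique_of_good : ∀ (n : ℕ) (α : Type u) [Fintype α] [DecidableEq α],
    Fintype.card α = n → ∀ x : Perm α, Good x → ∀ P Q : Sylow 2 (Perm α), x ∈ P → x ∈ Q →
      P = Q := by
  intro n
  induction n using Nat.strong_induction_on with
  | _ n ih =>
    intro α _ _ hn x hgood P Q hxP hxQ
    rcases Nat.eq_zero_or_pos n with h0 | h0
    · haveI : IsEmpty α := Fintype.card_eq_zero_iff.1 (hn.trans h0)
      exact Sylow.ext (Subsingleton.elim _ _)
    obtain ⟨z, hz, hzP⟩ := exists_matching_le P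
    obtain ⟨z', hz', hzQ⟩ := exists_matching_le Q
    obtain rfl : z = z' := matching_unique hgood hz hz' (commute_of_mem P.isPGroup' hz hzP hxP)
      (commute_of_mem Q.isPGroup' hz' hzQ hxQ)
    set C := Subgroup.centralizer ({z} : Set (Perm α))
    have hle : ∀ R : Sylow 2 (Perm α), (∀ c ∈ z.cycleFactorsFinset, c ∈ (R : Subgroup (Perm α))) →
        (R : Subgroup (Perm α)) ≤ C := fun R hR y hy =>
      Subgroup.mem_centralizer_singleton_iff.2 (commute_of_mem R.isPGroup' hz hR hy).eq
    set π := OnCycleFactors.toPermHom z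
    have hsurj : Function.Surjective π := by
      intro τ
      refine MonoidHom.mem_range.1 (OnCycleFactors.mem_range_toPermHom_iff.2 fun c => ?_)
      rw [card_support_eq_two.2 (hz.1 _ c.2), card_support_eq_two.2 (hz.1 _ (τ c).2)]
    have hlt : Fintype.card z.cycleFactorsFinset < n := by
      rw [Fintype.card_coe]
      have := hz.support_card
      have := Finset.card_le_univ z.support
      omega
    have hxz : Commute x z := commute_of_mem P.isPGroup' hz hzP hxP
    let xC : C := ⟨x, Subgroup.mem_centralizer_singleton_iff.2 hxz.eq⟩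
    -- the cycle of `z` through a moved point
    let f : (a : α) → z a ≠ a → z.cycleFactorsFinset := fun a ha =>
      ⟨z.cycleOf a, cycleOf_mem_cycleFactorsFinset_iff.2 (mem_support.2 ha)⟩
    have hfeq : ∀ a b ha hb, f a ha = f b hb → b = a ∨ b = z a := by
      intro a b ha hb h
      have h1 : z.cycleOf a = z.cycleOf b := congrArg Subtype.val h
      rw [(cycleOf_eq_swap hz ha).1, (cycleOf_eq_swap hz hb).1] at h1
      have h2 := Perm.congr_fun h1 b
      rw [swap_apply_left] at h2
      by_contra hc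
      rw [not_or] at hc
      exact hb (by rw [← h2, swap_apply_of_ne_of_ne hc.1 hc.2])
    have hfeq' : ∀ a b ha hb, (b = a ∨ b = z a) → f a ha = f b hb := by
      intro a b ha hb h
      apply Subtype.ext
      show z.cycleOf a = z.cycleOf b
      rcases h with rfl | rfl
      · rfl
      · rw [(cycleOf_eq_swap hz ha).1, (cycleOf_eq_swap hz hb).1, apply_apply hz, Equiv.swap_comm]
    have hcomm : ∀ (i : ℕ) (a : α), z ((x ^ i) a) = (x ^ i) (z a) := fun i a =>
      commute_apply (hxz.pow_left i) a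
    have hpow : ∀ (i : ℕ) (a : α) (ha : z a ≠ a),
        ∃ h : z ((x ^ i) a) ≠ (x ^ i) a, (π xC ^ i) (f a ha) = f ((x ^ i) a) h := by
      intro i a ha
      have h : z ((x ^ i) a) ≠ (x ^ i) a := by
        rw [hcomm]; exact fun he => ha ((x ^ i).injective he)
      refine ⟨h, ?_⟩
      rw [← map_pow]
      apply Subtype.ext
      rw [OnCycleFactors.coe_toPermHom, SubgroupClass.coe_pow]
      show x ^ i * z.cycleOf a * (x ^ i)⁻¹ = z.cycleOf ((x ^ i) a)
      rw [(cycleOf_eq_swap hz ha).1, (cycleOf_eq_swap hz h).1, hcomm,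
        ← Equiv.swap_apply_apply]
    have hrep : ∀ c : z.cycleFactorsFinset, ∃ a ha, c = f a ha := by
      intro c
      obtain ⟨a, ha⟩ := (mem_cycleFactorsFinset_iff.1 c.2).1.nonempty_support
      exact ⟨a, mem_support.1 (mem_cycleFactorsFinset_support_le c.2 ha),
        Subtype.ext (cycle_is_cycleOf ha c.2)⟩
    have hgood' : Good (π xC) :=
      good_image hgood hz hxz f hfeq hfeq' hrep (π xC) hpow
    let P' : Sylow 2 C := P.subtype (hle P hzP)
    let Q' : Sylow 2 C := Q.subtype (hle Q hzQ)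
    have himg : P'.mapSurjective hsurj = Q'.mapSurjective hsurj := by
      refine ih _ hlt _ rfl (π xC) hgood' _ _ ?_ ?_
      · show π xC ∈ ((P'.mapSurjective hsurj : Sylow 2 _) : Subgroup _)
        rw [Sylow.coe_mapSurjective]
        exact Subgroup.mem_map_of_mem π (show xC ∈ (P' : Subgroup C) from hxP)
      · show π xC ∈ ((Q'.mapSurjective hsurj : Sylow 2 _) : Subgroup _)
        rw [Sylow.coe_mapSurjective]
        exact Subgroup.mem_map_of_mem π (show xC ∈ (Q' : Subgroup C) from hxQ)
    have hker : ∀ R : Sylow 2 C, π.ker ≤ (R : Subgroup C) := fun R => by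
      refine IsPGroup.le_sylow_of_normal ?_ R
      intro y
      refine ⟨1, Subtype.ext (Subtype.ext ?_)⟩
      have hy : ∀ c ∈ z.cycleFactorsFinset, Commute ((y : C) : Perm α) c :=
        (OnCycleFactors.mem_ker_toPermHom_iff z (y : C)).1 y.2
      simpa [pow_two] using hz.mul_self_eq_one hy
    have heq : (P' : Subgroup C) = (Q' : Subgroup C) := by
      have h1 := congrArg (fun R : Sylow 2 _ => (R : Subgroup (Perm z.cycleFactorsFinset))) himg
      simp only [Sylow.coe_mapSurjective] at h1
      rw [← Subgroup.comap_map_eq_self (f := π) (hker P'),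
        ← Subgroup.comap_map_eq_self (f := π) (hker Q'), h1]
    refine Sylow.ext (SetLike.ext fun y => ⟨fun hy => ?_, fun hy => ?_⟩)
    · exact (show (⟨y, hle P hzP hy⟩ : C) ∈ (Q' : Subgroup C) from heq ▸ hy)
    · exact (show (⟨y, hle Q hzQ hy⟩ : C) ∈ (P' : Subgroup C) from heq ▸ hy)

theorem good_of_unique [Fintype α] [DecidableEq α] {x : Perm α}
    (hx : ∃ k : ℕ, orderOf x = 2 ^ k) (h : ∃! P : Sylow 2 (Perm α), x ∈ P) : Good x := by
  classical
  obtain ⟨P, hxP, huniq⟩ := h
  have hfix : (Finset.univ \ x.support).card ≤ 2 := by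
    by_contra hc
    rw [not_le, Finset.two_lt_card] at hc
    obtain ⟨a, ha, b, hb, c, hc', hab, hac, hbc⟩ := hc
    simp only [Finset.mem_sdiff, Finset.mem_univ, true_and, notMem_support] at ha hb hc'
    set t := Equiv.swap a b * Equiv.swap a c
    have ht : t.IsThreeCycle := isThreeCycle_swap_mul_swap_same hab hac hbc
    have htx : t * x * t⁻¹ = x := by
      have h1 : ∀ u v, x u = u → x v = v → Commute (Equiv.swap u v) x := by
        intro u v hu hv
        have := Equiv.swap_apply_apply x u v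
        rw [hu, hv] at this
        exact (mul_inv_eq_iff_eq_mul.1 this.symm).symm
      exact mul_inv_eq_iff_eq_mul.2 ((h1 a b ha hb).mul_left (h1 a c ha hc')).eq
    have hmem : x ∈ (MulAut.conj t • P : Sylow 2 (Perm α)) := by
      exact ⟨x, hxP, by simpa using htx⟩
    have hn := Sylow.smul_eq_iff_mem_normalizer.1 (huniq _ hmem)
    change t ∈ Subgroup.normalizer ((P : Subgroup (Perm α)) : Set (Perm α)) at hn
    rw [perm_normalizer_eq] at hn
    exact not_isThreeCycle_mem P.isPGroup' ht hn
  refine ⟨hfix, fun a b ha hb he => ?_⟩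
  by_contra hns
  rw [mem_support] at ha hb
  set m := per x a
  obtain ⟨k, hk⟩ := hx
  have hper : ∀ y, x y ≠ y → 2 ∣ per x y := by
    intro y hy
    obtain ⟨j, _, hj⟩ := (Nat.dvd_prime_pow Nat.prime_two).1
      (hk ▸ MulAction.period_dvd_orderOf x y : per x y ∣ 2 ^ k)
    rcases j with _ | j
    · exact absurd ((fix_iff x y).2 (by rw [hj, pow_zero])) hy
    · exact hj ▸ dvd_pow_self 2 (Nat.succ_ne_zero j)
  set F := Finset.univ \ x.support
  -- the partner map
  obtain ⟨g, hg1, hg2, hg3⟩ : ∃ g : Perm α, (∀ y, g (g y) = y) ∧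
      (∀ y, g y ≠ y → x y = y ∧ x (g y) = g y) ∧
      ∀ y y', x y = y → x y' = y' → g y = y → g y' = y' → y = y' := by
    rcases Nat.lt_or_ge F.card 2 with hF | hF
    · refine ⟨1, fun y => rfl, fun y hy => absurd rfl hy, fun y y' hy hy' _ _ => ?_⟩
      exact Finset.card_le_one.1 (Nat.le_of_lt_succ hF) y (by simpa [F] using hy) y'
        (by simpa [F] using hy')
    · obtain ⟨u, v, huv, hF2⟩ := Finset.card_eq_two.1 (le_antisymm hfix hF)
      have hu : x u = u := by
        have : u ∈ F := hF2 ▸ Finset.mem_insert_self u _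
        simpa [F] using this
      have hv : x v = v := by
        have : v ∈ F := hF2 ▸ Finset.mem_insert_of_mem (Finset.mem_singleton_self v)
        simpa [F] using this
      refine ⟨Equiv.swap u v, fun y => Equiv.swap_apply_self u v y, fun y hy => ?_, ?_⟩
      · rcases eq_or_ne y u with rfl | h1
        · simp [hu, hv]
        rcases eq_or_ne y v with rfl | h2
        · simp [hu, hv]
        exact absurd (Equiv.swap_apply_of_ne_of_ne h1 h2) hy
      · intro y y' hy _ hgy _
        have : y ∈ F := by simpa [F] using hy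
        rw [hF2, Finset.mem_insert, Finset.mem_singleton] at this
        rcases this with rfl | rfl
        · exact absurd hgy (by simp [Ne.symm huv])
        · exact absurd hgy (by simp [huv])
  let z₁f : α → α := fun y => if x y = y then g y else (x ^ (per x y / 2)) y
  have hperpow : ∀ (i : ℕ) y, per x ((x ^ i) y) = per x y := fun i y =>
    per_of_commute (Commute.self_pow x i) y
  have hxpow : ∀ (i : ℕ) y, x ((x ^ i) y) = (x ^ i) y ↔ x y = y := fun i y => by
    rw [fix_iff, fix_iff, hperpow]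
  have hgfix : ∀ y, x y = y → x (g y) = g y := by
    intro y hy
    by_cases h : g y = y
    · rw [h, hy]
    · exact (hg2 y h).2
  have hz1 : ∀ y, z₁f (z₁f y) = y := by
    intro y
    simp only [z₁f]
    by_cases hy : x y = y
    · rw [if_pos hy, if_pos (hgfix y hy), hg1]
    · rw [if_neg hy, if_neg (fun h => hy ((hxpow _ _).1 h)), hperpow, ← Perm.mul_apply, ← pow_add,
        pow_fix_iff]
      obtain ⟨j, hj⟩ := hper y hy
      rw [hj, Nat.mul_div_cancel_left j two_pos, two_mul]
  have hz1m : ∀ y, x y ≠ y → z₁f y ≠ y := by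
    intro y hy h
    simp only [z₁f, if_neg hy, pow_fix_iff] at h
    obtain ⟨j, hj⟩ := hper y hy
    rw [hj, Nat.mul_div_cancel_left j two_pos] at h
    have hpos : 0 < per x y :=
      MulAction.period_pos_of_orderOf_pos (by rw [hk]; positivity) y
    rw [hj] at hpos
    have := Nat.le_of_dvd (by omega) h
    omega
  have hz1x : ∀ y, z₁f (x y) = x (z₁f y) := by
    intro y
    simp only [z₁f]
    by_cases hy : x y = y
    · rw [if_pos hy, if_pos (by rw [hy]; exact hy), hy, hgfix y hy]
    · rw [if_neg (fun h => hy (x.injective h)), if_neg hy,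
        per_of_commute (Commute.refl x) y, ← Perm.mul_apply, ← Perm.mul_apply, (Commute.pow_self x _).eq]
  -- matchings from involutive partner maps
  have mk : ∀ h : α → α, (∀ y, h (h y) = y) → (∀ y, h (x y) = x (h y)) →
      (∀ y y', h y = y → h y' = y' → y = y') →
      ∃ z : Perm α, Matching z ∧ Commute x z ∧ ∀ y, z y = h y := by
    intro h h1 h2 h3
    refine ⟨Function.Involutive.toPerm h h1, ⟨fun c hc => ?_, ?_⟩, ?_, fun y => rfl⟩
    · obtain ⟨hcyc, hcz⟩ := mem_cycleFactorsFinset_iff.1 hc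
      rw [← card_support_eq_two, ← hcyc.orderOf]
      obtain ⟨y, hy⟩ := hcyc.nonempty_support
      refine orderOf_eq_prime ?_ hcyc.ne_one
      rw [hcyc.pow_eq_one_iff' (mem_support.1 hy), pow_two, Perm.mul_apply, hcz y hy,
        hcz _ (by rw [← hcz y hy]; exact apply_mem_support.2 hy)]
      exact h1 y
    · have hsub : ∀ w : Perm α, (∀ y y', w y = y → w y' = y' → y = y') →
          Fintype.card α ≤ w.support.card + 1 := by
        intro w hw
        have hle : w.supportᶜ.card ≤ 1 := Finset.card_le_one.2 fun u hu v hv =>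
          hw u v (by simpa using hu) (by simpa using hv)
        rw [Finset.card_compl] at hle
        omega
      exact hsub _ h3
    · exact Equiv.ext fun y => (h2 y).symm
  have hfix1 : ∀ y y', z₁f y = y → z₁f y' = y' → y = y' := by
    intro y y' hy hy'
    have e : x y = y := by_contra fun h => hz1m y h hy
    have e' : x y' = y' := by_contra fun h => hz1m y' h hy'
    simp only [z₁f, if_pos e] at hy
    simp only [z₁f, if_pos e'] at hy'
    exact hg3 y y' e e' hy hy'
  obtain ⟨z₁, hz₁, hxz₁, hz₁v⟩ := mk z₁f hz1 hz1x hfix1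
  -- the second matching exchanges the two cycles
  let z₂f : α → α := fun y =>
    if h : ∃ i : ℕ, (x ^ i) a = y then (x ^ h.choose) b
    else if h : ∃ i : ℕ, (x ^ i) b = y then (x ^ h.choose) a else z₁f y
  have hsep : ∀ i j : ℕ, (x ^ i) a ≠ (x ^ j) b := fun i j h =>
    hns ((sameCycle_pow a i).trans (h ▸ (sameCycle_pow b j).symm))
  have hcongr : ∀ c d : α, per x c = per x d → ∀ i j : ℕ, (x ^ i) c = (x ^ j) c →
      (x ^ i) d = (x ^ j) d := by
    intro c d hcd i j h
    wlog hij : i ≤ j generalizing i j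
    · exact (this j i h.symm (le_of_not_ge hij)).symm
    obtain ⟨l, rfl⟩ := Nat.exists_eq_add_of_le hij
    rw [pow_add, Perm.mul_apply] at h ⊢
    rw [(pow_fix_iff x d l).2 (hcd ▸ (pow_fix_iff x c l).1 ((x ^ i).injective h.symm))]
  have hz2a : ∀ i : ℕ, z₂f ((x ^ i) a) = (x ^ i) b := by
    intro i
    have hh : ∃ j : ℕ, (x ^ j) a = (x ^ i) a := ⟨i, rfl⟩
    simp only [z₂f, dif_pos hh]
    exact hcongr a b he _ _ hh.choose_spec
  have hz2b : ∀ i : ℕ, z₂f ((x ^ i) b) = (x ^ i) a := by
    intro i
    have hh : ∃ j : ℕ, (x ^ j) b = (x ^ i) b := ⟨i, rfl⟩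
    have hn : ¬ ∃ j : ℕ, (x ^ j) a = (x ^ i) b := fun ⟨j, hj⟩ => hsep j i hj
    simp only [z₂f, dif_neg hn, dif_pos hh]
    exact hcongr b a he.symm _ _ hh.choose_spec
  have hz2o : ∀ y, (¬ ∃ i : ℕ, (x ^ i) a = y) → (¬ ∃ i : ℕ, (x ^ i) b = y) →
      z₂f y = z₁f y := fun y h1 h2 => by simp only [z₂f, dif_neg h1, dif_neg h2]
  have hout : ∀ c y, x c ≠ c → (¬ ∃ i : ℕ, (x ^ i) c = y) →
      ¬ ∃ i : ℕ, (x ^ i) c = z₁f y := by
    rintro c y hc h ⟨i, hi⟩
    refine h ⟨per x c / 2 + i, ?_⟩
    have hi' : z₁f ((x ^ i) c) = y := by rw [hi, hz1]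
    simp only [z₁f, if_neg (fun h => hc ((hxpow i c).1 h)), hperpow] at hi'
    rw [pow_add, Perm.mul_apply, hi']
  have hshift : ∀ c y, (¬ ∃ i : ℕ, (x ^ i) c = y) → ¬ ∃ i : ℕ, (x ^ i) c = x y := by
    rintro c y h ⟨i, hi⟩
    obtain ⟨j, _, hj⟩ :=
      ((sameCycle_pow c i).trans (hi ▸ (SameCycle.refl x y).apply_left)).exists_pow_eq'
    exact h ⟨j, hj⟩
  have hz2 : ∀ y, z₂f (z₂f y) = y := by
    intro y
    by_cases h1 : ∃ i : ℕ, (x ^ i) a = y
    · obtain ⟨i, rfl⟩ := h1; rw [hz2a, hz2b]
    by_cases h2 : ∃ i : ℕ, (x ^ i) b = y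
    · obtain ⟨i, rfl⟩ := h2; rw [hz2b, hz2a]
    rw [hz2o y h1 h2, hz2o _ (hout a y ha h1) (hout b y hb h2), hz1]
  have hz2x : ∀ y, z₂f (x y) = x (z₂f y) := by
    intro y
    by_cases h1 : ∃ i : ℕ, (x ^ i) a = y
    · obtain ⟨i, rfl⟩ := h1
      rw [← Perm.mul_apply, ← pow_succ', hz2a, hz2a, pow_succ', Perm.mul_apply]
    by_cases h2 : ∃ i : ℕ, (x ^ i) b = y
    · obtain ⟨i, rfl⟩ := h2
      rw [← Perm.mul_apply, ← pow_succ', hz2b, hz2b, pow_succ', Perm.mul_apply]
    rw [hz2o y h1 h2, hz2o _ (hshift a y h1) (hshift b y h2), hz1x]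
  have hfix2 : ∀ y y', z₂f y = y → z₂f y' = y' → y = y' := by
    have key : ∀ y, z₂f y = y → z₁f y = y := by
      intro y hy
      by_cases h1 : ∃ i : ℕ, (x ^ i) a = y
      · obtain ⟨i, rfl⟩ := h1; rw [hz2a] at hy; exact absurd hy.symm (hsep i i)
      by_cases h2 : ∃ i : ℕ, (x ^ i) b = y
      · obtain ⟨i, rfl⟩ := h2; rw [hz2b] at hy; exact absurd hy (hsep i i)
      rwa [hz2o y h1 h2] at hy
    exact fun y y' hy hy' => hfix1 y y' (key y hy) (key y' hy')
  obtain ⟨z₂, hz₂, hxz₂, hz₂v⟩ := mk z₂f hz2 hz2x hfix2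
  obtain ⟨P₁, hP₁, hc₁⟩ := exists_sylow_ge ⟨k, hk⟩ hz₁ hxz₁
  obtain ⟨P₂, hP₂, hc₂⟩ := exists_sylow_ge ⟨k, hk⟩ hz₂ hxz₂
  rw [huniq P₁ hP₁] at hc₁
  rw [huniq P₂ hP₂] at hc₂
  have hsub : z₁.cycleFactorsFinset ⊆ z₂.cycleFactorsFinset := fun c hc =>
    swap_mem_factors P.isPGroup' hz₂ hc₂ (hz₁.1 c hc) (hc₁ c hc)
  have hsub' : z₂.cycleFactorsFinset ⊆ z₁.cycleFactorsFinset := fun c hc =>
    swap_mem_factors P.isPGroup' hz₁ hc₁ (hz₂.1 c hc) (hc₂ c hc)
  have heq : z₁ = z₂ := cycleFactorsFinset_injective (Finset.Subset.antisymm hsub hsub')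
  have h1 : z₁ a = z₂ a := by rw [heq]
  rw [hz₁v, hz₂v] at h1
  simp only [z₁f, if_neg ha] at h1
  have h2 := hz2a 0
  rw [pow_zero, Perm.one_apply, Perm.one_apply] at h2
  rw [h2] at h1
  exact hsep (per x a / 2) 0 (by simpa using h1)

theorem main [Fintype α] [DecidableEq α] {x : Perm α} (hx : ∃ k : ℕ, orderOf x = 2 ^ k) :
    (∃! P : Sylow 2 (Perm α), x ∈ P) ↔
      (Fintype.card α ≤ x.support.card + 2 ∧ x.cycleType.Nodup) := by
  rw [← good_iff]
  refine ⟨good_of_unique hx, fun h => ?_⟩
  obtain ⟨k, hk⟩ := hx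
  obtain ⟨P, hP⟩ := (IsPGroup.of_card (G := Subgroup.zpowers x) (p := 2) (n := k)
    (by rw [Nat.card_zpowers, hk])).exists_le_sylow
  exact ⟨P, hP (Subgroup.mem_zpowers x), fun Q hQ =>
    unique_of_good _ α rfl x h Q P hQ (hP (Subgroup.mem_zpowers x))⟩

end Cfsg.Agent.SymUniqueSylow56
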