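import Mathlib
import Cfsg.Agent.Lib.SymplecticBasic

/-!
Vector and transvection facts for the amalgam presentation of the symplectic group.
-/

set_option autoImplicit false

open Matrix

namespace Cfsg.Agent.SympAmalgamVectors

open Cfsg Cfsg.Agent.SymplecticBasic

variable {F : Type*} [Field F] {n : ℕ}

/-- The vectors of the first half. -/
def e (i : Fin n) : Fin n ⊕ Fin n → F := Pi.single (Sum.inl i) 1

/-- The vectors of the second half. -/
def f (i : Fin n) : Fin n ⊕ Fin n → F := Pi.single (Sum.inr i) 1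

theorem form_e (u : Fin n ⊕ Fin n → F) (i : Fin n) : sympForm n F u (e i) = u (Sum.inr i) :=
  form_single_inl_right u i

theorem form_f (u : Fin n ⊕ Fin n → F) (i : Fin n) : sympForm n F u (f i) = -u (Sum.inl i) :=
  form_single_inr_right u i

theorem form_e_f (i : Fin n) : sympForm n F (e i) (f i) = -1 := by rw [form_f, e]; simp

theorem form_f_e (i : Fin n) : sympForm n F (f i) (e i) = 1 := by rw [form_e, f]; simp

theorem e_ne_zero (i : Fin n) : (e i : Fin n ⊕ Fin n → F) ≠ 0 := by simp [e]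

/-- The index of a coordinate. -/
def idx (s : Fin n ⊕ Fin n) : Fin n := Sum.elim id id s

/-- The vectors supported on coordinates of index at least `k`. -/
def W (k : ℕ) : Submodule F (Fin n ⊕ Fin n → F) where
  carrier := {x | ∀ s, (idx s : ℕ) < k → x s = 0}
  add_mem' ha hb s hs := by simp [ha s hs, hb s hs]
  zero_mem' s _ := rfl
  smul_mem' c x hx s hs := by simp [hx s hs]

theorem mem_W {k : ℕ} {x : Fin n ⊕ Fin n → F} : x ∈ W k ↔ ∀ s, (idx s : ℕ) < k → x s = 0 := Iff.rfl

theorem W_le {k l : ℕ} (h : k ≤ l) : (W l : Submodule F (Fin n ⊕ Fin n → F)) ≤ W k :=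
  fun _ hx s hs => hx s (lt_of_lt_of_le hs h)

/-- The vectors supported at the index `j`. -/
def Pl (j : Fin n) : Submodule F (Fin n ⊕ Fin n → F) where
  carrier := {x | ∀ s, idx s ≠ j → x s = 0}
  add_mem' ha hb s hs := by simp [ha s hs, hb s hs]
  zero_mem' s _ := rfl
  smul_mem' c x hx s hs := by simp [hx s hs]

theorem mem_Pl {j : Fin n} {x : Fin n ⊕ Fin n → F} : x ∈ Pl j ↔ ∀ s, idx s ≠ j → x s = 0 := Iff.rfl

theorem e_mem_Pl (j : Fin n) : (e j : Fin n ⊕ Fin n → F) ∈ Pl j := fun s hs => by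
  rcases s with i | i <;> simp_all [e, idx, Pi.single_apply]

theorem f_mem_Pl (j : Fin n) : (f j : Fin n ⊕ Fin n → F) ∈ Pl j := fun s hs => by
  rcases s with i | i <;> simp_all [f, idx, Pi.single_apply]

theorem Pl_le_W (j : Fin n) {k : ℕ} (h : k ≤ j) : (Pl j : Submodule F (Fin n ⊕ Fin n → F)) ≤ W k :=
  fun _ hx s hs => hx s fun he => by rw [he] at hs; omega

theorem eq_of_mem_Pl {j : Fin n} {x : Fin n ⊕ Fin n → F} (hx : x ∈ Pl j) :
    x = x (Sum.inl j) • e j + x (Sum.inr j) • f j := by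
  funext s
  by_cases hs : idx s = j
  · rcases s with i | i <;> simp only [idx, Sum.elim_inl, Sum.elim_inr, id] at hs <;> subst hs <;> simp [e, f]
  · rw [hx s hs]
    rcases s with i | i <;> simp [idx] at hs <;> simp [e, f, Pi.single_apply, hs]

theorem form_Pl_W {j : Fin n} {p x : Fin n ⊕ Fin n → F} (hp : p ∈ Pl j) (hx : x ∈ W (↑j + 1)) :
    sympForm n F p x = 0 := by
  rw [form_eq_sum]
  refine Finset.sum_eq_zero fun i _ => ?_
  by_cases hi : i = j
  · subst hi
    rw [hx (Sum.inl i) (by simp [idx]), hx (Sum.inr i) (by simp [idx])]; ring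
  · rw [hp (Sum.inl i) hi, hp (Sum.inr i) hi]; ring

theorem form_W_Pl {j : Fin n} {p x : Fin n ⊕ Fin n → F} (hp : p ∈ Pl j) (hx : x ∈ W (↑j + 1)) :
    sympForm n F x p = 0 := form_eq_zero_comm.1 (form_Pl_W hp hx)

/-- The component at the index `j`. -/
def pl (j : Fin n) : (Fin n ⊕ Fin n → F) →ₗ[F] (Fin n ⊕ Fin n → F) where
  toFun x s := if idx s = j then x s else 0
  map_add' a b := by funext s; by_cases h : idx s = j <;> simp [h]
  map_smul' c a := by funext s; by_cases h : idx s = j <;> simp [h]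

theorem pl_mem (j : Fin n) (x : Fin n ⊕ Fin n → F) : pl j x ∈ Pl j := fun _ hs => if_neg hs

theorem pl_of_mem {j : Fin n} {p : Fin n ⊕ Fin n → F} (hp : p ∈ Pl j) : pl j p = p := by
  funext s
  by_cases hs : idx s = j
  · exact if_pos hs
  · rw [hp s hs]; exact if_neg hs

theorem pl_eq_zero {j : Fin n} {x : Fin n ⊕ Fin n → F} (hx : x ∈ W (↑j + 1)) : pl j x = 0 := by
  funext s
  by_cases hs : idx s = j
  · show (if _ then _ else _) = _
    rw [if_pos hs, hx s (by rw [hs]; omega)]; rfl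
  · exact if_neg hs

theorem pl_add {j : Fin n} {p x : Fin n ⊕ Fin n → F} (hp : p ∈ Pl j) (hx : x ∈ W (↑j + 1)) :
    pl j (p + x) = p := by rw [map_add, pl_of_mem hp, pl_eq_zero hx, add_zero]

theorem sub_pl_mem {j : Fin n} {v : Fin n ⊕ Fin n → F} (hv : v ∈ W (j : ℕ)) : v - pl j v ∈ W (↑j + 1) := by
  intro s hs
  show v s - (if _ then _ else _) = 0
  by_cases h : idx s = j
  · rw [if_pos h, sub_self]
  · rw [if_neg h, sub_zero, hv s (by have : (idx s : ℕ) ≠ j := fun h' => h (Fin.ext h'); omega)]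

theorem sum_single (x : Fin n ⊕ Fin n → F) : x = ∑ s, x s • Pi.single s (1 : F) := by
  funext r
  simp [Finset.sum_apply, Pi.single_apply]

theorem fixed_of_single {A : symplecticGroup (Fin n) F} (P : Fin n → Prop)
    (h : ∀ s, P (idx s) → A • (Pi.single s 1 : Fin n ⊕ Fin n → F) = (Pi.single s 1 : Fin n ⊕ Fin n → F)) {x : Fin n ⊕ Fin n → F}
    (hx : ∀ s, ¬ P (idx s) → x s = 0) : A • x = x := by
  classical
  rw [smul_def, sum_single x, Matrix.mulVec_sum]
  refine Finset.sum_congr rfl fun s _ => ?_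
  by_cases hs : P (idx s)
  · rw [Matrix.mulVec_smul, ← smul_def, h s hs]
  · rw [hx s hs, zero_smul, Matrix.mulVec_zero]

theorem coord_zero_of_single {A : symplecticGroup (Fin n) F} (P : Fin n → Prop)
    (h : ∀ s, P (idx s) → A • (Pi.single s 1 : Fin n ⊕ Fin n → F) = (Pi.single s 1 : Fin n ⊕ Fin n → F)) {x : Fin n ⊕ Fin n → F}
    (hx : ∀ s, P (idx s) → x s = 0) (s : Fin n ⊕ Fin n) (hs : P (idx s)) : (A • x) s = 0 := by
  rcases s with i | i
  · have h1 := form_map A x (f i)
    rw [show A • (f i : Fin n ⊕ Fin n → F) = f i from h (Sum.inr i) hs, form_f, form_f, neg_inj] at h1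
    rw [h1, hx (Sum.inl i) hs]
  · have h1 := form_map A x (e i)
    rw [show A • (e i : Fin n ⊕ Fin n → F) = e i from h (Sum.inl i) hs, form_e, form_e] at h1
    rw [h1, hx (Sum.inr i) hs]

/-- Fixing the basis vectors of indices other than `j`. -/
def InS (j : Fin n) (A : symplecticGroup (Fin n) F) : Prop := ∀ k, k ≠ j → A • (e k : Fin n ⊕ Fin n → F) = e k ∧ A • (f k : Fin n ⊕ Fin n → F) = f k

/-- Fixing the first half and the second half outside `i`, `i + 1`. -/
def InM (i : Fin n) (A : symplecticGroup (Fin n) F) : Prop :=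
  (∀ k, A • (e k : Fin n ⊕ Fin n → F) = e k) ∧
    ∀ k : Fin n, (k : ℕ) ≠ i → (k : ℕ) ≠ (i : ℕ) + 1 → A • (f k : Fin n ⊕ Fin n → F) = f k

/-- Fixing the basis vectors of index below `k`. -/
def Fix (k : ℕ) (A : symplecticGroup (Fin n) F) : Prop :=
  ∀ l : Fin n, (l : ℕ) < k → A • (e l : Fin n ⊕ Fin n → F) = e l ∧ A • (f l : Fin n ⊕ Fin n → F) = f l

theorem InS.single {j : Fin n} {A : symplecticGroup (Fin n) F} (h : InS j A) (s : Fin n ⊕ Fin n)
    (hs : idx s ≠ j) : A • (Pi.single s 1 : Fin n ⊕ Fin n → F) = Pi.single s 1 := by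
  rcases s with i | i
  · exact (h i hs).1
  · exact (h i hs).2

theorem InS.fix {j : Fin n} {A : symplecticGroup (Fin n) F} (h : InS j A) {x : Fin n ⊕ Fin n → F}
    (hx : x ∈ W (↑j + 1)) : A • x = x :=
  fixed_of_single (fun i => i ≠ j) h.single fun s hs => hx s (by rw [not_not.1 hs]; omega)

theorem InS.maps {j : Fin n} {A : symplecticGroup (Fin n) F} (h : InS j A) {x : Fin n ⊕ Fin n → F}
    (hx : x ∈ Pl j) : A • x ∈ Pl j := fun s hs => coord_zero_of_single (fun i => i ≠ j) h.single hx s hs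

theorem Fix.single {k : ℕ} {A : symplecticGroup (Fin n) F} (h : Fix k A) (s : Fin n ⊕ Fin n)
    (hs : (idx s : ℕ) < k) : A • (Pi.single s 1 : Fin n ⊕ Fin n → F) = Pi.single s 1 := by
  rcases s with i | i
  · exact (h i hs).1
  · exact (h i hs).2

theorem Fix.fix {j : Fin n} {k : ℕ} (hjk : (j : ℕ) < k) {A : symplecticGroup (Fin n) F} (h : Fix k A)
    {x : Fin n ⊕ Fin n → F} (hx : x ∈ Pl j) : A • x = x :=
  fixed_of_single (fun i : Fin n => (i : ℕ) < k) h.single fun s hs => hx s fun e => hs (by rw [e]; exact hjk)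

theorem Fix.maps {k : ℕ} {A : symplecticGroup (Fin n) F} (h : Fix k A) {x : Fin n ⊕ Fin n → F}
    (hx : x ∈ W k) : A • x ∈ W k := fun s hs => coord_zero_of_single (fun i : Fin n => (i : ℕ) < k) h.single hx s hs

theorem InS.toFix {j : Fin n} {k : ℕ} (h : k ≤ j) {A : symplecticGroup (Fin n) F} (hA : InS j A) : Fix k A :=
  fun l hl => hA l fun e => by rw [e] at hl; omega

theorem InM.toFix {i : Fin n} {k : ℕ} (h : k ≤ i) {A : symplecticGroup (Fin n) F} (hA : InM i A) : Fix k A :=
  fun l hl => ⟨hA.1 l, hA.2 l (by omega) (by omega)⟩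

theorem Fix.one {k : ℕ} : Fix k (1 : symplecticGroup (Fin n) F) := fun l _ => ⟨one_smul _ _, one_smul _ _⟩

theorem Fix.mul {k : ℕ} {A B : symplecticGroup (Fin n) F} (hA : Fix k A) (hB : Fix k B) : Fix k (A * B) :=
  fun l hl => ⟨by rw [mul_smul, (hB l hl).1, (hA l hl).1], by rw [mul_smul, (hB l hl).2, (hA l hl).2]⟩

theorem Fix.inv {k : ℕ} {A : symplecticGroup (Fin n) F} (hA : Fix k A) : Fix k A⁻¹ :=
  fun l hl => ⟨inv_smul_eq_iff.2 (hA l hl).1.symm, inv_smul_eq_iff.2 (hA l hl).2.symm⟩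

theorem inS_fix_comm {j : Fin n} {A B : symplecticGroup (Fin n) F} (hA : InS j A) (hB : Fix (↑j + 1) B) :
    A * B = B * A := by
  refine ext_smul_single fun s => ?_
  rw [mul_smul, mul_smul]
  by_cases hs : idx s = j
  · have hmem : A • (Pi.single s 1 : Fin n ⊕ Fin n → F) ∈ Pl j := hA.maps fun r hr => by
      rw [Pi.single_apply, if_neg]; rintro rfl; exact hr hs
    rw [hB.single s (by rw [hs]; omega), hB.fix (by omega) hmem]
  · rw [hA.single s hs]
    by_cases hlt : (idx s : ℕ) < (j : ℕ) + 1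
    · rw [hB.single s hlt, hA.single s hs]
    · refine hA.fix (hB.maps fun r hr => ?_)
      rw [Pi.single_apply, if_neg]
      rintro rfl
      exact hlt hr

theorem transv_fixed {v x : Fin n ⊕ Fin n → F} (h : sympForm n F x v = 0) (c : F) : transv v c • x = x := by
  rw [transv_smul, h, mul_zero, zero_smul, add_zero]

theorem transv_InS {j : Fin n} {v : Fin n ⊕ Fin n → F} (hv : v ∈ Pl j) (c : F) : InS j (transv v c) :=
  fun k hk => ⟨transv_fixed (form_eq_zero_comm.1 (by rw [form_e, hv (Sum.inr k) hk])) c,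
    transv_fixed (form_eq_zero_comm.1 (by rw [form_f, hv (Sum.inl k) hk, neg_zero])) c⟩

theorem transv_Fix {k : ℕ} {v : Fin n ⊕ Fin n → F} (hv : v ∈ W k) (c : F) : Fix k (transv v c) :=
  fun l hl => ⟨transv_fixed (form_eq_zero_comm.1 (by rw [form_e, hv (Sum.inr l) hl])) c,
    transv_fixed (form_eq_zero_comm.1 (by rw [form_f, hv (Sum.inl l) hl, neg_zero])) c⟩

/-- The element `v ↦ v + f(v, x) a + f(v, a) x`, for `f(a, x) = 0`. -/
def zeta (a x : Fin n ⊕ Fin n → F) : symplecticGroup (Fin n) F := transv (a + x) 1 * transv a (-1) * transv x (-1)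

theorem zeta_smul {a x : Fin n ⊕ Fin n → F} (h : sympForm n F a x = 0) (v : Fin n ⊕ Fin n → F) :
    zeta a x • v = v + sympForm n F v x • a + sympForm n F v a • x := by
  have h' : sympForm n F x a = 0 := form_eq_zero_comm.1 h
  simp only [zeta, mul_smul, transv_smul, form_add_left, form_add_right, form_smul_left, form_self, h, h']
  module

theorem zeta_conj (g : symplecticGroup (Fin n) F) (a x : Fin n ⊕ Fin n → F) :
    g * zeta a x * g⁻¹ = zeta (g • a) (g • x) := by
  rw [zeta, zeta, ← smul_add g a x, ← transv_conj g (a + x), ← transv_conj g a, ← transv_conj g x]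
  group

theorem zeta_zero (a : Fin n ⊕ Fin n → F) : zeta a 0 = 1 := by
  rw [zeta, add_zero, transv_vec_zero, mul_one, transv_add, add_neg_cancel, transv_zero]

theorem zeta_Fix {k : ℕ} {a x : Fin n ⊕ Fin n → F} (ha : a ∈ W k) (hx : x ∈ W k) : Fix k (zeta a x) :=
  ((transv_Fix ((W k).add_mem ha hx) 1).mul (transv_Fix ha _)).mul (transv_Fix hx _)

theorem zeta_scale {a x : Fin n ⊕ Fin n → F} (h : sympForm n F a x = 0) (c : F) :
    zeta (c • a) x = zeta a (c • x) := by
  refine ext_smul fun v => ?_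
  rw [zeta_smul (by rw [form_smul_left, h, mul_zero]), zeta_smul (by rw [form_smul_right, h, mul_zero]),
    form_smul_right, form_smul_right]
  module

theorem zeta_mul {a x y : Fin n ⊕ Fin n → F} (hx : sympForm n F a x = 0) (hy : sympForm n F a y = 0) :
    zeta a x * zeta a y = zeta a (x + y) * transv a (sympForm n F y x) := by
  have hx' : sympForm n F x a = 0 := form_eq_zero_comm.1 hx
  have hy' : sympForm n F y a = 0 := form_eq_zero_comm.1 hy
  refine ext_smul fun v => ?_
  rw [mul_smul, mul_smul, zeta_smul hy, zeta_smul hx, transv_smul,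
    zeta_smul (by rw [form_add_right, hx, hy, add_zero])]
  simp only [form_add_left, form_add_right, form_smul_left, form_smul_right, form_self, hx, hy, hx', hy']
  module

theorem zeta_diag {j : Fin n} {u : Fin n ⊕ Fin n → F} (hu : u ∈ W (↑j + 1)) :
    zeta (e j) u = zeta (f j + e j) u * zeta (f j) (-u) * transv u 1 := by
  have h1 := form_Pl_W (e_mem_Pl (F := F) j) hu
  have h2 := form_Pl_W (f_mem_Pl (F := F) j) hu
  have h1' := form_W_Pl (e_mem_Pl (F := F) j) hu
  have h2' := form_W_Pl (f_mem_Pl (F := F) j) hu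
  have h3 := form_Pl_W (f_mem_Pl (F := F) j) (neg_mem hu)
  refine ext_smul fun v => ?_
  rw [mul_smul, mul_smul, zeta_smul h1, zeta_smul (by rw [form_add_left, h1, h2, add_zero]), zeta_smul h3,
    transv_smul, ← neg_one_smul F u]
  simp only [form_add_left, form_add_right, form_smul_left, form_smul_right, form_self, h1, h2, h1', h2',
    form_f_e, form_e_f]
  module

theorem zeta_comm_rel {a b u : Fin n ⊕ Fin n → F} (ha : sympForm n F a u = 0) (hb : sympForm n F b u = 0) :
    zeta a u * zeta b (-u) = zeta b (-u) * zeta a u * transv u (2 * sympForm n F a b) := by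
  have ha' : sympForm n F u a = 0 := form_eq_zero_comm.1 ha
  have hb' : sympForm n F u b = 0 := form_eq_zero_comm.1 hb
  have hb2 : sympForm n F b ((-1 : F) • u) = 0 := by rw [form_smul_right, hb, mul_zero]
  refine ext_smul fun v => ?_
  rw [← neg_one_smul F u]
  simp only [mul_smul, zeta_smul ha, zeta_smul hb2, transv_smul]
  simp only [form_add_left, form_add_right, form_smul_left, form_smul_right, form_self, ha, hb, ha', hb',
    form_swap a b]
  module

theorem zeta_absorb {j : Fin n} {x : Fin n ⊕ Fin n → F} (hx : x ∈ W (↑j + 1)) (t : F) :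
    (zeta (f j) x)⁻¹ * transv (e j) t * zeta (f j) x = transv (e j) t * zeta (e j) (t • x) * transv x t := by
  have h1 := form_Pl_W (e_mem_Pl (F := F) j) hx
  have h2 := form_Pl_W (f_mem_Pl (F := F) j) hx
  have h1' := form_W_Pl (e_mem_Pl (F := F) j) hx
  have hinv : (zeta (f j) x)⁻¹ • (e j : Fin n ⊕ Fin n → F) = e j + x := by
    rw [inv_smul_eq_iff, zeta_smul h2]
    simp only [form_add_left, form_self, h1, form_e_f, form_W_Pl (f_mem_Pl (F := F) j) hx]
    module
  have h3 := transv_conj (zeta (f j) x)⁻¹ (e j) t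
  rw [inv_inv, hinv] at h3
  rw [h3]
  refine ext_smul fun v => ?_
  rw [mul_smul, mul_smul, transv_smul, transv_smul, zeta_smul (by rw [form_smul_right, h1, mul_zero]), transv_smul]
  simp only [form_add_left, form_add_right, form_smul_left, form_smul_right, form_self, h1, h1']
  module

theorem exists_InS_smul {j : Fin n} {a : Fin n ⊕ Fin n → F} (ha : a ∈ Pl j) (ha0 : a ≠ 0) :
    ∃ A : symplecticGroup (Fin n) F, InS j A ∧ A • (e j : Fin n ⊕ Fin n → F) = a := by
  have key : ∀ x y : Fin n ⊕ Fin n → F, x ∈ Pl j → y ∈ Pl j → sympForm n F x y ≠ 0 →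
      ∃ A : symplecticGroup (Fin n) F, InS j A ∧ A • x = y := fun x y hx hy hxy => by
    refine ⟨transv (y - x) (sympForm n F x y)⁻¹, transv_InS (sub_mem hy hx) _, ?_⟩
    rw [transv_smul, form_sub_right, form_self, sub_zero, inv_mul_cancel₀ hxy, one_smul, add_sub_cancel]
  by_cases hb : a (Sum.inr j) = 0
  · have hl : a (Sum.inl j) ≠ 0 := fun h => ha0 (by rw [eq_of_mem_Pl ha, h, hb, zero_smul, zero_smul, add_zero])
    obtain ⟨A, hA, hA'⟩ := key (e j) (f j) (e_mem_Pl j) (f_mem_Pl j) (by rw [form_e_f]; simp)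
    obtain ⟨B, hB, hB'⟩ := key (f j) a (f_mem_Pl j) ha
      (by rw [form_swap a, form_f, neg_neg]; exact hl)
    exact ⟨B * A, fun k hk => ⟨by rw [mul_smul, (hA k hk).1, (hB k hk).1], by rw [mul_smul, (hA k hk).2, (hB k hk).2]⟩,
      by rw [mul_smul, hA', hB']⟩
  · exact key _ _ (e_mem_Pl j) ha (by rw [form_swap a, form_e]; simpa using hb)

theorem exists_Fix_smul {j : Fin n} {k : ℕ} (hjk : k ≤ j) {x : Fin n ⊕ Fin n → F} (hx : x ∈ W k) (hx0 : x ≠ 0) :
    ∃ A : symplecticGroup (Fin n) F, Fix k A ∧ A • (e j : Fin n ⊕ Fin n → F) = x := by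
  have key : ∀ a b : Fin n ⊕ Fin n → F, a ∈ W k → b ∈ W k → sympForm n F a b ≠ 0 →
      ∃ A : symplecticGroup (Fin n) F, Fix k A ∧ A • a = b := fun a b ha hb hab => by
    refine ⟨transv (b - a) (sympForm n F a b)⁻¹, transv_Fix (sub_mem hb ha) _, ?_⟩
    rw [transv_smul, form_sub_right, form_self, sub_zero, inv_mul_cancel₀ hab, one_smul, add_sub_cancel]
  suffices ∃ z ∈ W k, sympForm n F (e j) z ≠ 0 ∧ sympForm n F z x ≠ 0 by
    obtain ⟨z, hz, h1, h2⟩ := this
    obtain ⟨A, hA, hA'⟩ := key _ _ (Pl_le_W j hjk (e_mem_Pl j)) hz h1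
    obtain ⟨B, hB, hB'⟩ := key _ _ hz hx h2
    exact ⟨B * A, hB.mul hA, by rw [mul_smul, hA', hB']⟩
  have hf : (f j : Fin n ⊕ Fin n → F) ∈ W k := Pl_le_W j hjk (f_mem_Pl j)
  by_cases h1 : x (Sum.inl j) = 0
  swap
  · exact ⟨f j, hf, by rw [form_e_f]; simp, by rw [form_swap x, form_f, neg_neg]; exact h1⟩
  by_cases h2 : x (Sum.inr j) = 0
  swap
  · refine ⟨f j + e j, (W k).add_mem hf (Pl_le_W j hjk (e_mem_Pl j)), by
      rw [form_add_right, form_e_f, form_self]; simp, ?_⟩
    rw [form_add_left, form_swap x, form_swap x (e j), form_f, form_e, h1]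
    simpa using h2
  obtain ⟨s, hs⟩ := Function.ne_iff.1 hx0
  have hsk : k ≤ (idx s : ℕ) := not_lt.1 fun h => hs (hx s h)
  have hsj : idx s ≠ j := fun h => by rcases s with i | i <;> simp [idx] at h <;> subst h <;> simp_all
  rcases s with i | i
  · refine ⟨f j + f i, (W k).add_mem hf (Pl_le_W i hsk (f_mem_Pl i)), ?_, ?_⟩
    · rw [form_add_right, form_e_f, form_f, e, Pi.single_apply, if_neg (by simpa [idx] using hsj)]; simp
    · rw [form_add_left, form_swap x, form_swap x (f i), form_f, form_f, h1]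
      simpa using hs
  · refine ⟨f j + e i, (W k).add_mem hf (Pl_le_W i hsk (e_mem_Pl i)), ?_, ?_⟩
    · rw [form_add_right, form_e_f, form_e, e, Pi.single_apply, if_neg (by simp)]; simp
    · rw [form_add_left, form_swap x, form_swap x (e i), form_f, form_e, h1]
      simpa using hs

theorem exists_form_ne {k : ℕ} {z : Fin n ⊕ Fin n → F} (hz : z ∈ W k) (hz0 : z ≠ 0) :
    ∃ s ∈ W k, sympForm n F z s ≠ 0 := by
  obtain ⟨s, hs⟩ := Function.ne_iff.1 hz0
  have hsk : k ≤ (idx s : ℕ) := not_lt.1 fun h => hs (hz s h)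
  rcases s with i | i
  · exact ⟨f i, Pl_le_W i hsk (f_mem_Pl i), by rw [form_f]; simpa using hs⟩
  · exact ⟨e i, Pl_le_W i hsk (e_mem_Pl i), by rw [form_e]; simpa using hs⟩

theorem exists_two_values {k : ℕ} {x y : Fin n ⊕ Fin n → F} (hx : x ∈ W k) (hy : y ∈ W k) (hx0 : x ≠ 0)
    (hxy : ∀ l : F, y ≠ l • x) (b : F) :
    ∃ w ∈ W k, sympForm n F x w = 1 ∧ sympForm n F y w = b := by
  obtain ⟨p0, hp0, hp0'⟩ := exists_form_ne hx hx0
  let p := (sympForm n F x p0)⁻¹ • p0
  have hp : p ∈ W k := (W k).smul_mem _ hp0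
  have hxp : sympForm n F x p = 1 := by rw [form_smul_right, inv_mul_cancel₀ hp0']
  set l := sympForm n F y p
  obtain ⟨s, hs, hs'⟩ := exists_form_ne (sub_mem hy ((W k).smul_mem l hx) : y - l • x ∈ W k) (sub_ne_zero.2 (hxy l))
  let q := s - sympForm n F x s • p
  have hq : q ∈ W k := sub_mem hs ((W k).smul_mem _ hp)
  have hxq : sympForm n F x q = 0 := by rw [form_sub_right, form_smul_right, hxp]; ring
  have hyq : sympForm n F y q ≠ 0 := by
    rw [form_sub_left, form_smul_left] at hs'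
    rw [form_sub_right, form_smul_right]
    exact fun h => hs' (by linear_combination h)
  refine ⟨p + ((b - l) * (sympForm n F y q)⁻¹) • q, (W k).add_mem hp ((W k).smul_mem _ hq), ?_, ?_⟩
  · rw [form_add_right, form_smul_right _ x q, hxp, hxq, mul_zero, add_zero]
  · rw [form_add_right, form_smul_right _ y q, mul_assoc, inv_mul_cancel₀ hyq]; ring

theorem InM.decomp {i i' : Fin n} (hi : (i' : ℕ) = i + 1) {A : symplecticGroup (Fin n) F} (hA : InM i A) :
    ∃ p t r : F, A = transv (e i) p * zeta (e i) (t • e i') * transv (e i') r := by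
  have hne : i ≠ i' := fun h => by rw [← h] at hi; omega
  refine ⟨(A • (f i : Fin n ⊕ Fin n → F)) (Sum.inl i), (A • (f i : Fin n ⊕ Fin n → F)) (Sum.inl i'),
    (A • (f i' : Fin n ⊕ Fin n → F)) (Sum.inl i'), ?_⟩
  have h0 : sympForm n F (e i : Fin n ⊕ Fin n → F) ((A • (f i : Fin n ⊕ Fin n → F)) (Sum.inl i') • e i') = 0 := by
    rw [form_smul_right, form_e, e, Pi.single_apply, if_neg (by simp), mul_zero]
  have hinr : ∀ (v : Fin n ⊕ Fin n → F) (l : Fin n), (A • v) (Sum.inr l) = v (Sum.inr l) := fun v l => by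
    have h1 := form_map A v (e l)
    rwa [hA.1 l, form_e, form_e] at h1
  have hinl : ∀ (v : Fin n ⊕ Fin n → F) (l : Fin n), (l : ℕ) ≠ i → (l : ℕ) ≠ (i : ℕ) + 1 →
      (A • v) (Sum.inl l) = v (Sum.inl l) := fun v l h1 h2 => by
    have := form_map A v (f l)
    rwa [hA.2 l h1 h2, form_f, form_f, neg_inj] at this
  have hsym : (A • (f i' : Fin n ⊕ Fin n → F)) (Sum.inl i) = (A • (f i : Fin n ⊕ Fin n → F)) (Sum.inl i') := by
    have h1 := form_map A (f i) (f i' : Fin n ⊕ Fin n → F)
    rw [form_f (f i), form_eq_sum] at h1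
    simp only [hinr] at h1
    simp only [f, Pi.single_apply, reduceCtorEq, if_false, Sum.inr.injEq] at h1 ⊢
    simp only [ite_mul, one_mul, zero_mul, mul_ite, mul_one, mul_zero, Finset.sum_sub_distrib,
      Finset.sum_ite_eq', Finset.mem_univ, if_true, neg_zero] at h1
    linear_combination h1
  refine ext_smul_single fun s => ?_
  rw [mul_smul, mul_smul, transv_smul, zeta_smul h0, transv_smul]
  simp only [form_add_left, form_smul_left, form_smul_right, form_self, form_e]
  rcases s with l | l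
  · change A • (e l : Fin n ⊕ Fin n → F) = _
    rw [hA.1 l]
    funext r
    rcases r with r | r <;> simp [e, Pi.single_apply]
  · change A • (f l : Fin n ⊕ Fin n → F) = _
    funext r
    rcases r with r | r
    · by_cases hri : r = i <;> by_cases hri' : r = i' <;> by_cases hli : l = i <;> by_cases hli' : l = i'
      all_goals first | subst hri | skip
      all_goals first | subst hri' | skip
      all_goals first | subst hli | skip
      all_goals first | subst hli' | skip
      all_goals first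
        | (exfalso; exact hne rfl)
        | (rw [hA.2 l (fun h => hli (Fin.ext h)) (fun h => hli' (Fin.ext (h.trans hi.symm)))]
           simp [e, f, Pi.single_apply, hne, hne.symm, Ne.symm hli, Ne.symm hli', *])
        | (rw [hinl _ r (fun h => hri (Fin.ext h)) (fun h => hri' (Fin.ext (h.trans hi.symm)))]
           simp [e, f, Pi.single_apply, hne, hne.symm, *])
        | (simp [e, f, Pi.single_apply, hne, hne.symm] at hsym ⊢; exact hsym)
        | simp [e, f, Pi.single_apply, hne, hne.symm]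
    · rw [hinr]
      simp [e, f, Pi.single_apply] <;> split_ifs <;> simp

end Cfsg.Agent.SympAmalgamVectors
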