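import Mathlib
import Cfsg.Agent.Lib.SympAmalgamVectors

/-!
Abstract data of the amalgam of rank one and abelian subgroups over the symplectic group.
-/

set_option autoImplicit false

open Matrix

namespace Cfsg.Agent.SympAmalgamData

open Cfsg Cfsg.Agent.SymplecticBasic Cfsg.Agent.SympAmalgamVectors

variable {F : Type*} [Field F] {n : ℕ} {H : Type*} [Group H]

/-- The second projection is injective on `K`. -/
def Inj (K : Subgroup (H × symplecticGroup (Fin n) F)) : Prop := ∀ g ∈ K, g.2 = 1 → g = 1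

theorem Inj.eq {K : Subgroup (H × symplecticGroup (Fin n) F)} (hK : Inj K) {a b : H × symplecticGroup (Fin n) F}
    (ha : a ∈ K) (hb : b ∈ K) (h : a.2 = b.2) : a = b :=
  inv_mul_eq_one.1 (hK (a⁻¹ * b) (K.mul_mem (K.inv_mem ha) hb) (by simp [h]))

theorem Inj.comm {K : Subgroup (H × symplecticGroup (Fin n) F)} (hK : Inj K) {a b : H × symplecticGroup (Fin n) F}
    (ha : a ∈ K) (hb : b ∈ K) (h : a.2 * b.2 = b.2 * a.2) : a * b = b * a :=
  hK.eq (K.mul_mem ha hb) (K.mul_mem hb ha) (by simpa using h)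

open Classical in
/-- A chosen element of `K` over `A`. -/
noncomputable def lift (K : Subgroup (H × symplecticGroup (Fin n) F)) (A : symplecticGroup (Fin n) F) :
    H × symplecticGroup (Fin n) F :=
  if h : ∃ g ∈ K, g.2 = A then h.choose else 1

theorem lift_spec {K : Subgroup (H × symplecticGroup (Fin n) F)} {A : symplecticGroup (Fin n) F}
    (h : ∃ g ∈ K, g.2 = A) : lift K A ∈ K ∧ (lift K A).2 = A := by
  rw [lift, dif_pos h]; exact h.choose_spec

/-- The amalgam data. -/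
structure Data (F : Type*) [Field F] (n : ℕ) (H : Type*) [Group H] where
  GS : Fin n → Subgroup (H × symplecticGroup (Fin n) F)
  GM : Fin n → Subgroup (H × symplecticGroup (Fin n) F)
  field : ∃ a : F, a ≠ 0 ∧ a ≠ 1
  snd_GS : ∀ j g, g ∈ GS j → InS j g.2
  surj_GS : ∀ j A, InS j A → ∃ g ∈ GS j, g.2 = A
  snd_GM : ∀ i : Fin n, (i : ℕ) + 1 < n → ∀ g, g ∈ GM i → InM i g.2
  surj_GM : ∀ i : Fin n, (i : ℕ) + 1 < n → ∀ A, InM i A → ∃ g ∈ GM i, g.2 = A
  injSS : ∀ j l, j ≠ l → Inj (GS j ⊔ GS l)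
  injMM : ∀ i i' : Fin n, i ≠ i' → (i : ℕ) + 1 < n → (i' : ℕ) + 1 < n → Inj (GM i ⊔ GM i')
  injMS : ∀ i j : Fin n, (i : ℕ) + 1 < n → Inj (GM i ⊔ GS j)

/-- The subgroup generated by the pieces of index at least `k`. -/
def Data.L (D : Data F n H) (k : ℕ) : Subgroup (H × symplecticGroup (Fin n) F) :=
  Subgroup.closure {g | (∃ j : Fin n, k ≤ j ∧ g ∈ D.GS j) ∨ ∃ i : Fin n, k ≤ i ∧ (i : ℕ) + 1 < n ∧ g ∈ D.GM i}

/-- The expected stabiliser of the first vector of index `j`. -/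
def Data.Qgen (D : Data F n H) (j : Fin n) : Subgroup (H × symplecticGroup (Fin n) F) :=
  Subgroup.closure {g | (g ∈ D.GS j ∧ g.2 • (e j : Fin n ⊕ Fin n → F) = e j) ∨
    ((j : ℕ) + 1 < n ∧ g ∈ D.GM j) ∨ g ∈ D.L (↑j + 1)}

/-- The inductive statement. -/
structure Data.Good (D : Data F n H) (k : ℕ) : Prop where
  inj : Inj (D.L k)
  surj : ∀ A, Fix k A → ∃ g ∈ D.L k, g.2 = A
  stab : ∀ j : Fin n, (j : ℕ) = k → ∀ g ∈ D.L k, g.2 • (e j : Fin n ⊕ Fin n → F) = e j → g ∈ D.Qgen j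

variable (D : Data F n H)

theorem GS_le_L {j : Fin n} {k : ℕ} (h : k ≤ j) : D.GS j ≤ D.L k :=
  fun _ hg => Subgroup.subset_closure (Or.inl ⟨j, h, hg⟩)

theorem GM_le_L {i : Fin n} {k : ℕ} (h : k ≤ i) (hi : (i : ℕ) + 1 < n) : D.GM i ≤ D.L k :=
  fun _ hg => Subgroup.subset_closure (Or.inr ⟨i, h, hi, hg⟩)

theorem L_anti {k l : ℕ} (h : k ≤ l) : D.L l ≤ D.L k := by
  refine (Subgroup.closure_le _).2 ?_
  rintro g (⟨j, hj, hg⟩ | ⟨i, hi, hin, hg⟩)
  · exact GS_le_L D (h.trans hj) hg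
  · exact GM_le_L D (h.trans hi) hin hg

theorem L_Fix {k : ℕ} {g : H × symplecticGroup (Fin n) F} (hg : g ∈ D.L k) : Fix k g.2 := by
  induction hg using Subgroup.closure_induction with
  | mem x hx =>
    rcases hx with ⟨j, hj, hx⟩ | ⟨i, hi, hin, hx⟩
    · exact (D.snd_GS j x hx).toFix hj
    · exact (D.snd_GM i hin x hx).toFix hi
  | one => exact Fix.one
  | mul x y _ _ hx hy => exact hx.mul hy
  | inv x _ hx => exact hx.inv

theorem inj_GS (hn : 2 ≤ n) (j : Fin n) : Inj (D.GS j) := by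
  have : Nontrivial (Fin n) := Fin.nontrivial_iff_two_le.2 hn
  obtain ⟨l, hl⟩ := exists_ne j
  exact fun g hg => D.injSS j l hl.symm g (Subgroup.mem_sup_left hg)

theorem GS_comm_L {j : Fin n} {g l : H × symplecticGroup (Fin n) F} (hg : g ∈ D.GS j)
    (hl : l ∈ D.L (↑j + 1)) : g * l = l * g := by
  suffices D.L (↑j + 1) ≤ Subgroup.centralizer {g} by
    exact (Subgroup.mem_centralizer_singleton_iff.1 (this hl)).symm
  refine (Subgroup.closure_le _).2 ?_
  intro x hx
  rw [SetLike.mem_coe, Subgroup.mem_centralizer_singleton_iff]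
  have hcomm := inS_fix_comm (D.snd_GS j g hg) (L_Fix D (Subgroup.subset_closure hx))
  rcases hx with ⟨l, hl', hx⟩ | ⟨i, hi, hin, hx⟩
  · exact (D.injSS j l (fun h => by rw [← h] at hl'; omega)).comm (Subgroup.mem_sup_right hx)
      (Subgroup.mem_sup_left hg) hcomm.symm
  · exact (D.injMS i j hin).comm (Subgroup.mem_sup_left hx) (Subgroup.mem_sup_right hg) hcomm.symm

theorem InS_eq_transv {j : Fin n} {A : symplecticGroup (Fin n) F} (hA : InS j A)
    (he : A • (e j : Fin n ⊕ Fin n → F) = e j) : ∃ t, A = transv (e j) t := by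
  refine ⟨(A • (f j : Fin n ⊕ Fin n → F)) (Sum.inl j), ext_smul_single fun s => ?_⟩
  by_cases hs : idx s = j
  · rcases s with i | i <;> simp only [idx, Sum.elim_inl, Sum.elim_inr, id] at hs <;> subst hs
    · show A • (e i : Fin n ⊕ Fin n → F) = transv (e i) _ • (e i : Fin n ⊕ Fin n → F)
      rw [he, transv_fixed (form_self _)]
    · show A • (f i : Fin n ⊕ Fin n → F) = transv (e i) _ • (f i : Fin n ⊕ Fin n → F)
      have hA' := hA.maps (f_mem_Pl (F := F) i)
      have h1 : (A • (f i : Fin n ⊕ Fin n → F)) (Sum.inr i) = 1 := by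
        have := form_map A (f i) (e i : Fin n ⊕ Fin n → F)
        rwa [he, form_e, form_f_e] at this
      rw [transv_smul, form_f_e, mul_one]
      conv_lhs => rw [eq_of_mem_Pl hA', h1, one_smul]
      rw [add_comm]
  · rw [hA.single s hs, (transv_InS (e_mem_Pl j) _).single s hs]

theorem good_last (hn : 2 ≤ n) {j : Fin n} (hj : (j : ℕ) + 1 = n) : D.Good j := by
  have hL : D.L j = D.GS j := by
    refine le_antisymm ((Subgroup.closure_le _).2 ?_) (GS_le_L D le_rfl)
    rintro g (⟨l, hl, hg⟩ | ⟨i, hi, hin, hg⟩)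
    · have : l = j := Fin.ext (by omega)
      rwa [this] at hg
    · omega
  refine ⟨hL ▸ inj_GS D hn j, fun A hA => hL ▸ D.surj_GS j A fun k hk => hA k ?_, fun l hl g hg he => ?_⟩
  · have : (k : ℕ) ≠ j := fun h => hk (Fin.ext h)
    omega
  · obtain rfl : l = j := Fin.ext hl
    exact Subgroup.subset_closure (Or.inl ⟨hL ▸ hg, he⟩)

end Cfsg.Agent.SympAmalgamData
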