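import Mathlib
import Cfsg.Agent.Lib.SympAmalgamData

/-!
The lifted Heisenberg groups at one step of the amalgam induction.
-/

set_option autoImplicit false

open Matrix

namespace Cfsg.Agent.SympAmalgamHeisenberg

open Cfsg Cfsg.Agent.SymplecticBasic Cfsg.Agent.SympAmalgamVectors Cfsg.Agent.SympAmalgamData

variable {F : Type*} [Field F] {n : ℕ} {H : Type*} [Group H]

/-- One step of the induction. -/
structure Step (F : Type*) [Field F] (n : ℕ) (H : Type*) [Group H] where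
  D : Data F n H
  j : Fin n
  j' : Fin n
  succ : (j' : ℕ) = j + 1
  ih : D.Good (↑j + 1)

variable (S : Step F n H)

theorem two_le (S : Step F n H) : 2 ≤ n := by have := S.j'.isLt; have := S.succ; omega

theorem j_lt : (S.j : ℕ) + 1 < n := by have := S.j'.isLt; have := S.succ; omega

theorem e'_mem : (e S.j' : Fin n ⊕ Fin n → F) ∈ W (↑S.j + 1) := Pl_le_W _ S.succ.ge (e_mem_Pl _)

theorem injK : Inj (S.D.GM S.j ⊔ S.D.GS S.j) := S.D.injMS _ _ (j_lt S)

theorem injK' : Inj (S.D.GM S.j ⊔ S.D.GS S.j') := S.D.injMS _ _ (j_lt S)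

theorem form_e_e' (t : F) : sympForm n F (e S.j) (t • e S.j') = 0 :=
  form_Pl_W (e_mem_Pl _) ((W _).smul_mem t (e'_mem S))

theorem zeta_InM (t : F) : InM S.j (zeta (e S.j) (t • e S.j') : symplecticGroup (Fin n) F) := by
  refine ⟨fun k => ?_, fun k h1 h2 => ?_⟩
  · rw [zeta_smul (form_e_e' S t), form_smul_right, form_e, form_e]
    simp [e]
  · rw [zeta_smul (form_e_e' S t), form_smul_right, form_e, form_e]
    have h3 : S.j ≠ k := fun h => h1 (by rw [h])
    have h4 : S.j' ≠ k := fun h => h2 (by rw [← h, S.succ])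
    simp [f, Pi.single_apply, h3, h4]

theorem transv_InM (t : F) {k : Fin n} (hk : k = S.j ∨ k = S.j') : InM S.j (transv (e k) t : symplecticGroup (Fin n) F) := by
  refine ⟨fun l => transv_fixed (by rw [form_e, e]; simp) t, fun l h1 h2 => transv_fixed ?_ t⟩
  rw [form_e, f, Pi.single_apply, if_neg]
  intro h
  rcases hk with rfl | rfl <;> obtain rfl := Sum.inr_injective h
  · exact h1 rfl
  · exact h2 S.succ

/-- The lift of a long root element at `j`. -/
noncomputable def cE (t : F) : H × symplecticGroup (Fin n) F := lift (S.D.GS S.j) (transv (e S.j) t)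

theorem cE_spec (t : F) : cE S t ∈ S.D.GS S.j ∧ (cE S t).2 = transv (e S.j) t :=
  lift_spec (S.D.surj_GS _ _ (transv_InS (e_mem_Pl _) t))

theorem cE_mem_GM (t : F) : cE S t ∈ S.D.GM S.j := by
  obtain ⟨g, hg, hg2⟩ := S.D.surj_GM _ (j_lt S) _ (transv_InM S t (Or.inl rfl))
  rwa [(injK S).eq (Subgroup.mem_sup_right (cE_spec S t).1) (Subgroup.mem_sup_left hg)
    ((cE_spec S t).2.trans hg2.symm)]

theorem cE_zero : cE S 0 = 1 :=
  inj_GS S.D (two_le S) S.j _ (cE_spec S 0).1 (by rw [(cE_spec S 0).2, transv_zero])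

theorem cE_add (s t : F) : cE S (s + t) = cE S s * cE S t :=
  (inj_GS S.D (two_le S) S.j).eq (cE_spec S _).1 (mul_mem (cE_spec S s).1 (cE_spec S t).1)
    (by rw [Prod.snd_mul, (cE_spec S _).2, (cE_spec S _).2, (cE_spec S _).2, transv_add])

theorem cE_fix (t : F) : (cE S t).2 • (e S.j : Fin n ⊕ Fin n → F) = e S.j := by
  rw [(cE_spec S t).2, transv_fixed (form_self _)]

/-- The lift of a long root element at `j'`. -/
noncomputable def ell (t : F) : H × symplecticGroup (Fin n) F := lift (S.D.GS S.j') (transv (e S.j') t)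

theorem ell_spec (t : F) : ell S t ∈ S.D.GS S.j' ∧ (ell S t).2 = transv (e S.j') t :=
  lift_spec (S.D.surj_GS _ _ (transv_InS (e_mem_Pl _) t))

theorem ell_mem_GM (t : F) : ell S t ∈ S.D.GM S.j := by
  obtain ⟨g, hg, hg2⟩ := S.D.surj_GM _ (j_lt S) _ (transv_InM S t (Or.inr rfl))
  rwa [(injK' S).eq (Subgroup.mem_sup_right (ell_spec S t).1) (Subgroup.mem_sup_left hg)
    ((ell_spec S t).2.trans hg2.symm)]

theorem ell_mem_L (t : F) : ell S t ∈ S.D.L (↑S.j + 1) := GS_le_L S.D S.succ.ge (ell_spec S t).1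

/-- The lift of a short root element. -/
noncomputable def z0 (t : F) : H × symplecticGroup (Fin n) F := lift (S.D.GM S.j) (zeta (e S.j) (t • e S.j'))

theorem z0_spec (t : F) : z0 S t ∈ S.D.GM S.j ∧ (z0 S t).2 = zeta (e S.j) (t • e S.j') :=
  lift_spec (S.D.surj_GM _ (j_lt S) _ (zeta_InM S t))

theorem z0_comm (t : F) {g : H × symplecticGroup (Fin n) F} (hg : g ∈ S.D.Qgen S.j') : g * z0 S t = z0 S t * g := by
  suffices S.D.Qgen S.j' ≤ Subgroup.centralizer {z0 S t} by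
    exact Subgroup.mem_centralizer_singleton_iff.1 (this hg)
  have key : ∀ (K : Subgroup (H × symplecticGroup (Fin n) F)) x, Inj (S.D.GM S.j ⊔ K) → x ∈ K →
      x.2 • (e S.j : Fin n ⊕ Fin n → F) = e S.j → x.2 • (e S.j' : Fin n ⊕ Fin n → F) = e S.j' →
      x * z0 S t = z0 S t * x := fun K x hK hx h1 h2 => by
    refine hK.comm (Subgroup.mem_sup_right hx) (Subgroup.mem_sup_left (z0_spec S t).1) ?_
    have h3 := zeta_conj x.2 (e S.j) (t • e S.j')
    rw [h1, smul_comm, h2] at h3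
    rw [(z0_spec S t).2]
    exact mul_inv_eq_iff_eq_mul.1 h3
  have hne : ∀ l : Fin n, (S.j' : ℕ) ≤ l → S.j ≠ l := fun l hl h => by rw [← h, S.succ] at hl; omega
  refine (Subgroup.closure_le _).2 ?_
  rintro g (⟨hg, he⟩ | ⟨hlt, hg⟩ | hg)
  · rw [SetLike.mem_coe, Subgroup.mem_centralizer_singleton_iff]
    exact key _ g (S.D.injMS _ _ (j_lt S)) hg (S.D.snd_GS _ g hg S.j (hne _ le_rfl)).1 he
  · rw [SetLike.mem_coe, Subgroup.mem_centralizer_singleton_iff]
    exact key _ g (S.D.injMM _ _ (hne _ le_rfl) (j_lt S) hlt) hg ((S.D.snd_GM _ hlt g hg).1 _)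
      ((S.D.snd_GM _ hlt g hg).1 _)
  · revert g hg
    show S.D.L (↑S.j' + 1) ≤ _
    refine (Subgroup.closure_le _).2 ?_
    rintro g (⟨l, hl, hg⟩ | ⟨i, hi, hin, hg⟩)
    · rw [SetLike.mem_coe, Subgroup.mem_centralizer_singleton_iff]
      refine key _ g (S.D.injMS _ _ (j_lt S)) hg (S.D.snd_GS _ g hg S.j (hne l (by omega))).1
        (S.D.snd_GS _ g hg S.j' fun h => ?_).1
      rw [← h] at hl; omega
    · rw [SetLike.mem_coe, Subgroup.mem_centralizer_singleton_iff]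
      exact key _ g (S.D.injMM _ _ (hne i (by omega)) (j_lt S) hin) hg ((S.D.snd_GM _ hin g hg).1 _)
        ((S.D.snd_GM _ hin g hg).1 _)

open Classical in
/-- An element of the lower group moving the first vector of index `j'` to `x`. -/
noncomputable def toW (x : Fin n ⊕ Fin n → F) : H × symplecticGroup (Fin n) F :=
  if h : ∃ g ∈ S.D.L (↑S.j + 1), g.2 • (e S.j' : Fin n ⊕ Fin n → F) = x then h.choose else 1

theorem exists_toW {x : Fin n ⊕ Fin n → F} (hx : x ∈ W (↑S.j + 1)) (hx0 : x ≠ 0) :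
    ∃ g ∈ S.D.L (↑S.j + 1), g.2 • (e S.j' : Fin n ⊕ Fin n → F) = x := by
  obtain ⟨A, hA, hA'⟩ := exists_Fix_smul (j := S.j') S.succ.ge hx hx0
  obtain ⟨g, hg, rfl⟩ := S.ih.surj A hA
  exact ⟨g, hg, hA'⟩

theorem toW_mem (x : Fin n ⊕ Fin n → F) : toW S x ∈ S.D.L (↑S.j + 1) := by
  rw [toW]
  split_ifs with h
  · exact h.choose_spec.1
  · exact one_mem _

theorem toW_smul {x : Fin n ⊕ Fin n → F} (hx : x ∈ W (↑S.j + 1)) (hx0 : x ≠ 0) :
    (toW S x).2 • (e S.j' : Fin n ⊕ Fin n → F) = x := by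
  rw [toW, dif_pos (exists_toW S hx hx0)]
  exact (exists_toW S hx hx0).choose_spec.2

open Classical in
/-- The lift of `zeta (e j) x`. -/
noncomputable def z (x : Fin n ⊕ Fin n → F) : H × symplecticGroup (Fin n) F :=
  if x = 0 then 1 else toW S x * z0 S 1 * (toW S x)⁻¹

theorem z_zero : z S 0 = 1 := if_pos rfl

theorem z_conj {l : H × symplecticGroup (Fin n) F} (hl : l ∈ S.D.L (↑S.j + 1)) {x : Fin n ⊕ Fin n → F}
    (hx : x ∈ W (↑S.j + 1)) : l * z S x * l⁻¹ = z S (l.2 • x) := by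
  by_cases h0 : x = 0
  · subst h0
    rw [smul_zero, z_zero, mul_one, mul_inv_cancel]
  have h1 : l.2 • x ≠ 0 := fun h => h0 ((smul_eq_zero_iff_eq _).1 h)
  rw [z, if_neg h0, z, if_neg h1]
  set g := toW S x
  set g' := toW S (l.2 • x)
  have hq : g'⁻¹ * l * g ∈ S.D.Qgen S.j' := by
    refine S.ih.stab S.j' S.succ _ (mul_mem (mul_mem (inv_mem (toW_mem S _)) hl) (toW_mem S _)) ?_
    rw [Prod.snd_mul, Prod.snd_mul, Prod.snd_inv, mul_smul, mul_smul, toW_smul S hx h0, inv_smul_eq_iff,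
      toW_smul S ((L_Fix S.D hl).maps hx) h1]
  have hq' := z0_comm S 1 hq
  calc l * (g * z0 S 1 * g⁻¹) * l⁻¹ = g' * (g'⁻¹ * l * g * z0 S 1) * g⁻¹ * l⁻¹ := by group
    _ = g' * (z0 S 1 * (g'⁻¹ * l * g)) * g⁻¹ * l⁻¹ := by rw [hq']
    _ = g' * z0 S 1 * g'⁻¹ := by group

theorem z_e' : z S (e S.j') = z0 S 1 := by
  rw [z, if_neg (e_ne_zero _)]
  have hq := S.ih.stab S.j' S.succ _ (toW_mem S (e S.j')) (toW_smul S (e'_mem S) (e_ne_zero _))
  rw [z0_comm S 1 hq, mul_inv_cancel_right]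

theorem z_of_smul {l : H × symplecticGroup (Fin n) F} (hl : l ∈ S.D.L (↑S.j + 1)) {x : Fin n ⊕ Fin n → F}
    (h : l.2 • (e S.j' : Fin n ⊕ Fin n → F) = x) : z S x = l * z0 S 1 * l⁻¹ := by
  rw [← z_e', z_conj S hl (e'_mem S), h]

theorem z_mem_L (x : Fin n ⊕ Fin n → F) : z S x ∈ S.D.L S.j := by
  rw [z]
  split_ifs
  · exact one_mem _
  · exact mul_mem (mul_mem (L_anti S.D (Nat.le_succ _) (toW_mem S x)) (GM_le_L S.D le_rfl (j_lt S) (z0_spec S 1).1))
      (inv_mem (L_anti S.D (Nat.le_succ _) (toW_mem S x)))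

theorem snd_z {x : Fin n ⊕ Fin n → F} (hx : x ∈ W (↑S.j + 1)) : (z S x).2 = zeta (e S.j) x := by
  by_cases h0 : x = 0
  · subst h0; rw [z_zero, zeta_zero]; rfl
  rw [z, if_neg h0, Prod.snd_mul, Prod.snd_mul, Prod.snd_inv, (z0_spec S 1).2, one_smul, zeta_conj,
    toW_smul S hx h0, (L_Fix S.D (toW_mem S x)).fix (Nat.lt_succ_self _) (e_mem_Pl _)]

theorem z_plane {x : Fin n ⊕ Fin n → F} (hx : x ∈ Pl S.j') : z S x ∈ S.D.GM S.j ⊔ S.D.GS S.j' := by
  by_cases h0 : x = 0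
  · subst h0; rw [z_zero]; exact one_mem _
  obtain ⟨A, hA, hA'⟩ := exists_InS_smul hx h0
  obtain ⟨g, hg, rfl⟩ := S.D.surj_GS _ A hA
  rw [z_of_smul S (GS_le_L S.D S.succ.ge hg) hA']
  exact mul_mem (mul_mem (Subgroup.mem_sup_right hg) (Subgroup.mem_sup_left (z0_spec S 1).1))
    (inv_mem (Subgroup.mem_sup_right hg))

theorem z_smul_e' (t : F) : z S (t • e S.j') = z0 S t :=
  (injK' S).eq (z_plane S ((Pl _).smul_mem t (e_mem_Pl _))) (Subgroup.mem_sup_left (z0_spec S t).1)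
    (by rw [snd_z S ((W _).smul_mem t (e'_mem S)), (z0_spec S t).2])

theorem cS_comm_z {c : H × symplecticGroup (Fin n) F} (hc : c ∈ S.D.GS S.j)
    (he : c.2 • (e S.j : Fin n ⊕ Fin n → F) = e S.j) (x : Fin n ⊕ Fin n → F) : c * z S x = z S x * c := by
  have h0 : c * z0 S 1 = z0 S 1 * c := by
    refine (injK S).comm (Subgroup.mem_sup_right hc) (Subgroup.mem_sup_left (z0_spec S 1).1) ?_
    have h3 := zeta_conj c.2 (e S.j) ((1 : F) • e S.j')
    rw [he, smul_comm, (S.D.snd_GS _ c hc).fix (e'_mem S)] at h3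
    rw [(z0_spec S 1).2]
    exact mul_inv_eq_iff_eq_mul.1 h3
  rw [z]
  split_ifs
  · simp
  · have h1 := GS_comm_L S.D hc (toW_mem S x)
    have h2 := GS_comm_L S.D hc (inv_mem (toW_mem S x))
    calc c * (toW S x * z0 S 1 * (toW S x)⁻¹) = c * toW S x * z0 S 1 * (toW S x)⁻¹ := by group
      _ = toW S x * (c * z0 S 1) * (toW S x)⁻¹ := by rw [h1]; group
      _ = toW S x * z0 S 1 * (c * (toW S x)⁻¹) := by rw [h0]; group
      _ = toW S x * z0 S 1 * (toW S x)⁻¹ * c := by rw [h2]; group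

theorem heis_pair {x y : Fin n ⊕ Fin n → F} (hx : x ∈ W (↑S.j + 1)) (hy : y ∈ W (↑S.j + 1))
    (h : sympForm n F x y ≠ 0 ∨ ∃ c : F, y = c • x) :
    z S x * z S y = z S (x + y) * cE S (sympForm n F y x) := by
  by_cases h0 : x = 0
  · subst h0
    rw [z_zero, one_mul, zero_add, show sympForm n F y 0 = 0 by rw [← zero_smul F y, form_smul_right, zero_mul],
      cE_zero, mul_one]
  suffices ∃ l ∈ S.D.L (↑S.j + 1), l.2 • (e S.j' : Fin n ⊕ Fin n → F) = x ∧ ∃ y2 ∈ Pl S.j', l.2 • y2 = y by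
    obtain ⟨l, hl, hlx, y2, hy2, hly⟩ := this
    have hy2W : y2 ∈ W (↑S.j + 1) := Pl_le_W _ S.succ.ge hy2
    have hW := e'_mem S
    have key : z S (e S.j') * z S y2 = z S (e S.j' + y2) * cE S (sympForm n F y2 (e S.j')) :=
      (injK' S).eq (mul_mem (z_plane S (e_mem_Pl _)) (z_plane S hy2))
        (mul_mem (z_plane S ((Pl _).add_mem (e_mem_Pl _) hy2)) (Subgroup.mem_sup_left (cE_mem_GM S _)))
        (by rw [Prod.snd_mul, Prod.snd_mul, snd_z S hW, snd_z S hy2W, snd_z S ((W _).add_mem hW hy2W),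
          (cE_spec S _).2, zeta_mul (form_Pl_W (e_mem_Pl _) hW) (form_Pl_W (e_mem_Pl _) hy2W)])
    rw [← hlx, ← hly, ← smul_add, ← z_conj S hl hW, ← z_conj S hl hy2W, ← z_conj S hl ((W _).add_mem hW hy2W),
      form_map]
    calc l * z S (e S.j') * l⁻¹ * (l * z S y2 * l⁻¹) = l * (z S (e S.j') * z S y2) * l⁻¹ := by group
      _ = l * z S (e S.j' + y2) * (cE S (sympForm n F y2 (e S.j')) * l⁻¹) := by rw [key]; group
      _ = _ := by rw [GS_comm_L S.D (cE_spec S _).1 (inv_mem hl)]; group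
  obtain ⟨l, hl, hlx⟩ := exists_toW S hx h0
  rcases h with h | ⟨c, rfl⟩
  swap
  · exact ⟨l, hl, hlx, c • e S.j', (Pl _).smul_mem c (e_mem_Pl _), by rw [smul_comm, hlx]⟩
  set y1 := l.2⁻¹ • y
  have hy1 : y1 ∈ W (↑S.j + 1) := (L_Fix S.D hl).inv.maps hy
  have hfy : sympForm n F (e S.j') y1 ≠ 0 := by
    rwa [← form_map l.2, hlx, smul_inv_smul]
  have hb : y1 (Sum.inr S.j') ≠ 0 := by
    rwa [form_swap y1, form_e, neg_ne_zero] at hfy
  set b := y1 (Sum.inr S.j') with hbdef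
  set r := y1 - pl S.j' y1 with hrdef
  have hr : r ∈ W (↑S.j' + 1) := sub_pl_mem (by rw [S.succ]; exact hy1)
  have hx' : (-b⁻¹) • r ∈ W (↑S.j + 1) := (W _).smul_mem _ (W_le (by rw [S.succ]; omega) hr)
  obtain ⟨m, hm, hm2⟩ := S.ih.surj (zeta (e S.j') ((-b⁻¹) • r)) (zeta_Fix (e'_mem S) hx')
  have hmz : ∀ v, m.2 • v = v + sympForm n F v ((-b⁻¹) • r) • e S.j' + sympForm n F v (e S.j') • ((-b⁻¹) • r) :=
    fun v => by rw [hm2]; exact zeta_smul (form_Pl_W (e_mem_Pl _) ((W _).smul_mem _ hr)) v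
  refine ⟨l * m⁻¹, mul_mem hl (inv_mem hm), ?_, m.2 • y1, ?_, ?_⟩
  · rw [Prod.snd_mul, mul_smul, Prod.snd_inv]
    rw [show m.2⁻¹ • (e S.j' : Fin n ⊕ Fin n → F) = e S.j' from by
      rw [inv_smul_eq_iff, hmz, form_Pl_W (e_mem_Pl _) ((W _).smul_mem _ hr), form_self]; simp, hlx]
  · have : m.2 • y1 = pl S.j' y1 + sympForm n F y1 ((-b⁻¹) • r) • e S.j' := by
      rw [hmz, form_e, ← hbdef, smul_smul, mul_neg, mul_inv_cancel₀ hb, hrdef]
      clear_value y1
      module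
    rw [this]
    exact (Pl _).add_mem (pl_mem _ _) ((Pl _).smul_mem _ (e_mem_Pl _))
  · rw [Prod.snd_mul, mul_smul, Prod.snd_inv, inv_smul_smul, smul_inv_smul]

theorem heis {x y : Fin n ⊕ Fin n → F} (hx : x ∈ W (↑S.j + 1)) (hy : y ∈ W (↑S.j + 1)) :
    z S x * z S y = z S (x + y) * cE S (sympForm n F y x) := by
  by_cases hf : sympForm n F x y ≠ 0 ∨ ∃ c : F, y = c • x
  · exact heis_pair S hx hy hf
  push_neg at hf
  obtain ⟨hxy, hc⟩ := hf
  by_cases hx0 : x = 0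
  · subst hx0
    rw [z_zero, one_mul, zero_add, show sympForm n F y 0 = 0 by rw [← zero_smul F y, form_smul_right, zero_mul],
      cE_zero, mul_one]
  obtain ⟨a, ha0, ha1⟩ := S.D.field
  obtain ⟨w, hw, hxw, hyw⟩ := exists_two_values hx hy hx0 hc (-a)
  have hyx : sympForm n F y x = 0 := form_eq_zero_comm.1 hxy
  have hw' : sympForm n F w x = -1 := by rw [form_swap x, hxw]
  have hwy : sympForm n F w y = a := by rw [form_swap y, hyw, neg_neg]
  have hyw' : y - w ∈ W (↑S.j + 1) := sub_mem hy hw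
  have h1 := heis_pair S hyw' hw (Or.inl (by rw [form_sub_left, form_self, hyw]; simpa using ha0))
  have h2 := heis_pair S hx hyw' (Or.inl (by rw [form_sub_right, hxw, hxy]; simp))
  have h3 := heis_pair S ((W _).add_mem hx hyw') hw (Or.inl (by
    rw [form_add_left, form_sub_left, form_self, hxw, hyw, sub_zero]
    exact fun h => ha1 (by linear_combination -h)))
  rw [sub_add_cancel] at h1
  rw [show x + (y - w) + w = x + y by abel] at h3
  have hc' : ∀ t v, cE S t * z S v = z S v * cE S t := fun t v => cS_comm_z S (cE_spec S t).1 (cE_fix S t) v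
  have hmain : z S x * z S y * cE S (sympForm n F w (y - w)) =
      z S (x + y) * cE S (sympForm n F w (x + (y - w)) + sympForm n F (y - w) x) := by
    rw [mul_assoc, ← h1, ← mul_assoc, h2, mul_assoc, hc', ← mul_assoc, h3, mul_assoc, ← cE_add]
  rw [show sympForm n F w (x + (y - w)) + sympForm n F (y - w) x =
      sympForm n F y x + sympForm n F w (y - w) by
    simp only [form_add_right, form_sub_right, form_sub_left, form_self, hw', hwy, hyx]; ring,
    cE_add, ← mul_assoc] at hmain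
  exact mul_right_cancel hmain

end Cfsg.Agent.SympAmalgamHeisenberg
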