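import Mathlib
import Cfsg.Agent.Lib.SympAmalgamHeisenberg

/-!
The conjugates of the lifted Heisenberg groups and the lifted vector stabiliser.
-/

set_option autoImplicit false

open Matrix

namespace Cfsg.Agent.SympAmalgamRootGroups

open Cfsg Cfsg.Agent.SymplecticBasic Cfsg.Agent.SympAmalgamVectors Cfsg.Agent.SympAmalgamData
  Cfsg.Agent.SympAmalgamHeisenberg

variable {F : Type*} [Field F] {n : ℕ} {H : Type*} [Group H] (S : Step F n H)

open Classical in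
/-- An element of the plane group moving the first vector to `a`. -/
noncomputable def toPl (a : Fin n ⊕ Fin n → F) : H × symplecticGroup (Fin n) F :=
  if h : ∃ g ∈ S.D.GS S.j, g.2 • (e S.j : Fin n ⊕ Fin n → F) = a then h.choose else 1

theorem toPl_spec {a : Fin n ⊕ Fin n → F} (ha : a ∈ Pl S.j) (ha0 : a ≠ 0) :
    toPl S a ∈ S.D.GS S.j ∧ (toPl S a).2 • (e S.j : Fin n ⊕ Fin n → F) = a := by
  have h : ∃ g ∈ S.D.GS S.j, g.2 • (e S.j : Fin n ⊕ Fin n → F) = a := by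
    obtain ⟨A, hA, hA'⟩ := exists_InS_smul ha ha0
    obtain ⟨g, hg, rfl⟩ := S.D.surj_GS _ A hA
    exact ⟨g, hg, hA'⟩
  rw [toPl, dif_pos h]
  exact h.choose_spec

theorem toPl_mem (a : Fin n ⊕ Fin n → F) : toPl S a ∈ S.D.GS S.j := by
  rw [toPl]
  split_ifs with h
  · exact h.choose_spec.1
  · exact one_mem _

/-- The lift of `zeta a x`. -/
noncomputable def Z (a x : Fin n ⊕ Fin n → F) : H × symplecticGroup (Fin n) F :=
  toPl S a * z S x * (toPl S a)⁻¹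

theorem conjS_z {g h : H × symplecticGroup (Fin n) F} (hg : g ∈ S.D.GS S.j) (hh : h ∈ S.D.GS S.j)
    (heq : g.2 • (e S.j : Fin n ⊕ Fin n → F) = h.2 • (e S.j : Fin n ⊕ Fin n → F)) (x : Fin n ⊕ Fin n → F) :
    g * z S x * g⁻¹ = h * z S x * h⁻¹ := by
  have hc := cS_comm_z S (mul_mem (inv_mem hh) hg)
    (by rw [Prod.snd_mul, mul_smul, heq, Prod.snd_inv, inv_smul_smul]) x
  calc g * z S x * g⁻¹ = h * (h⁻¹ * g * z S x) * g⁻¹ := by group
    _ = h * (z S x * (h⁻¹ * g)) * g⁻¹ := by rw [hc]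
    _ = h * z S x * h⁻¹ := by group

theorem Z_eq {g : H × symplecticGroup (Fin n) F} (hg : g ∈ S.D.GS S.j) {a : Fin n ⊕ Fin n → F}
    (ha : a ∈ Pl S.j) (ha0 : a ≠ 0) (he : g.2 • (e S.j : Fin n ⊕ Fin n → F) = a) (x : Fin n ⊕ Fin n → F) :
    Z S a x = g * z S x * g⁻¹ :=
  conjS_z S (toPl_mem S a) hg ((toPl_spec S ha ha0).2.trans he.symm) x

theorem Z_e (x : Fin n ⊕ Fin n → F) : Z S (e S.j) x = z S x := by
  rw [Z_eq S (one_mem _) (e_mem_Pl _) (e_ne_zero _) (by rw [Prod.snd_one, one_smul]), one_mul, inv_one, mul_one]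

theorem Z_conjS {g : H × symplecticGroup (Fin n) F} (hg : g ∈ S.D.GS S.j) {a : Fin n ⊕ Fin n → F}
    (ha : a ∈ Pl S.j) (ha0 : a ≠ 0) (x : Fin n ⊕ Fin n → F) : g * Z S a x * g⁻¹ = Z S (g.2 • a) x := by
  rw [Z_eq S (g := g * toPl S a) (mul_mem hg (toPl_mem S a)) ((S.D.snd_GS _ g hg).maps ha)
    (fun h => ha0 ((smul_eq_zero_iff_eq _).1 h)) (by rw [Prod.snd_mul, mul_smul, (toPl_spec S ha ha0).2]), Z]
  group

theorem Z_conjL {l : H × symplecticGroup (Fin n) F} (hl : l ∈ S.D.L (↑S.j + 1)) (a : Fin n ⊕ Fin n → F)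
    {x : Fin n ⊕ Fin n → F} (hx : x ∈ W (↑S.j + 1)) : l * Z S a x * l⁻¹ = Z S a (l.2 • x) := by
  have h1 := GS_comm_L S.D (toPl_mem S a) hl
  have h2 := GS_comm_L S.D (toPl_mem S a) (inv_mem hl)
  rw [Z, Z, ← z_conj S hl hx]
  calc l * (toPl S a * z S x * (toPl S a)⁻¹) * l⁻¹
      = l * toPl S a * z S x * ((toPl S a)⁻¹ * l⁻¹) := by group
    _ = toPl S a * (l * z S x * l⁻¹) * (toPl S a)⁻¹ := by
      rw [← h1, show (toPl S a)⁻¹ * l⁻¹ = l⁻¹ * (toPl S a)⁻¹ by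
        rw [← _root_.mul_inv_rev, ← _root_.mul_inv_rev, h1]]
      group

theorem snd_Z {a x : Fin n ⊕ Fin n → F} (ha : a ∈ Pl S.j) (ha0 : a ≠ 0) (hx : x ∈ W (↑S.j + 1)) :
    (Z S a x).2 = zeta a x := by
  rw [Z, Prod.snd_mul, Prod.snd_mul, Prod.snd_inv, snd_z S hx, zeta_conj, (toPl_spec S ha ha0).2,
    (S.D.snd_GS _ _ (toPl_mem S a)).fix hx]

theorem Z_mem_L (a x : Fin n ⊕ Fin n → F) : Z S a x ∈ S.D.L S.j :=
  mul_mem (mul_mem (GS_le_L S.D le_rfl (toPl_mem S a)) (z_mem_L S x)) (inv_mem (GS_le_L S.D le_rfl (toPl_mem S a)))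

theorem Z_mem_K (a : Fin n ⊕ Fin n → F) (t : F) : Z S a (t • e S.j') ∈ S.D.GM S.j ⊔ S.D.GS S.j := by
  rw [Z, z_smul_e']
  exact mul_mem (mul_mem (Subgroup.mem_sup_right (toPl_mem S a)) (Subgroup.mem_sup_left (z0_spec S t).1))
    (inv_mem (Subgroup.mem_sup_right (toPl_mem S a)))

theorem Z_zero (a : Fin n ⊕ Fin n → F) : Z S a 0 = 1 := by rw [Z, z_zero, mul_one, mul_inv_cancel]

theorem Z_scale {a x : Fin n ⊕ Fin n → F} (ha : a ∈ Pl S.j) (ha0 : a ≠ 0) (hx : x ∈ W (↑S.j + 1)) {c : F}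
    (hc : c ≠ 0) : Z S (c • a) x = Z S a (c • x) := by
  by_cases h0 : x = 0
  · subst h0; rw [smul_zero, Z_zero, Z_zero]
  have hca : c • (e S.j : Fin n ⊕ Fin n → F) ∈ Pl S.j := (Pl _).smul_mem c (e_mem_Pl _)
  have hca0 : c • (e S.j : Fin n ⊕ Fin n → F) ≠ 0 := smul_ne_zero hc (e_ne_zero _)
  have he' := e'_mem S
  have hbase : Z S (c • e S.j) (e S.j') = z S (c • e S.j') := by
    refine (injK S).eq ?_ ?_ ?_
    · rw [← one_smul F (e S.j' : Fin n ⊕ Fin n → F)]; exact Z_mem_K S _ 1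
    · rw [z_smul_e']; exact Subgroup.mem_sup_left (z0_spec S c).1
    · rw [snd_Z S hca hca0 he', snd_z S ((W _).smul_mem c he'), zeta_scale (form_Pl_W (e_mem_Pl _) he')]
  obtain ⟨l, hl, hlx⟩ := exists_toW S hx h0
  have hE : Z S (c • e S.j) x = Z S (e S.j) (c • x) := by
    rw [← hlx, ← smul_comm, ← Z_conjL S hl _ he', ← Z_conjL S hl _ ((W _).smul_mem c he'), hbase, Z_e]
  obtain ⟨hg, hga⟩ := toPl_spec S ha ha0
  have h1 := Z_conjS S hg hca hca0 x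
  have h2 := Z_conjS S hg (e_mem_Pl _) (e_ne_zero _) (c • x)
  rw [smul_comm, hga, hE] at h1
  rw [hga] at h2
  exact h1.symm.trans h2

/-- The lift of `transv a t`. -/
noncomputable def C (a : Fin n ⊕ Fin n → F) (t : F) : H × symplecticGroup (Fin n) F :=
  toPl S a * cE S t * (toPl S a)⁻¹

theorem C_mem (a : Fin n ⊕ Fin n → F) (t : F) : C S a t ∈ S.D.GS S.j :=
  mul_mem (mul_mem (toPl_mem S a) (cE_spec S t).1) (inv_mem (toPl_mem S a))

theorem snd_C {a : Fin n ⊕ Fin n → F} (ha : a ∈ Pl S.j) (ha0 : a ≠ 0) (t : F) : (C S a t).2 = transv a t := by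
  rw [C, Prod.snd_mul, Prod.snd_mul, Prod.snd_inv, (cE_spec S t).2, transv_conj, (toPl_spec S ha ha0).2]

theorem C_comm (a : Fin n ⊕ Fin n → F) (t : F) (x : Fin n ⊕ Fin n → F) : C S a t * Z S a x = Z S a x * C S a t := by
  have h := cS_comm_z S (cE_spec S t).1 (cE_fix S t) x
  calc C S a t * Z S a x = toPl S a * (cE S t * z S x) * (toPl S a)⁻¹ := by rw [C, Z]; group
    _ = toPl S a * (z S x * cE S t) * (toPl S a)⁻¹ := by rw [h]
    _ = Z S a x * C S a t := by rw [C, Z]; group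

theorem Z_mul {a x y : Fin n ⊕ Fin n → F} (hx : x ∈ W (↑S.j + 1)) (hy : y ∈ W (↑S.j + 1)) :
    Z S a x * Z S a y = Z S a (x + y) * C S a (sympForm n F y x) := by
  calc Z S a x * Z S a y = toPl S a * (z S x * z S y) * (toPl S a)⁻¹ := by rw [Z, Z]; group
    _ = toPl S a * (z S (x + y) * cE S (sympForm n F y x)) * (toPl S a)⁻¹ := by rw [heis S hx hy]
    _ = _ := by rw [Z, C]; group

theorem Z_inv {a x : Fin n ⊕ Fin n → F} (hx : x ∈ W (↑S.j + 1)) : Z S a (-x) = (Z S a x)⁻¹ := by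
  refine eq_inv_of_mul_eq_one_left ?_
  rw [Z_mul S (neg_mem hx) hx, neg_add_cancel, Z_zero,
    show sympForm n F x (-x) = 0 by rw [← neg_one_smul F x, form_smul_right, form_self, mul_zero],
    C, cE_zero, mul_one, mul_inv_cancel, one_mul]

theorem fe_mem : (f S.j + e S.j : Fin n ⊕ Fin n → F) ∈ Pl S.j := (Pl _).add_mem (f_mem_Pl _) (e_mem_Pl _)

theorem fe_ne : (f S.j + e S.j : Fin n ⊕ Fin n → F) ≠ 0 := fun h => by
  have := congrFun h (Sum.inl S.j)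
  simp [f, e] at this

theorem f_ne : (f S.j : Fin n ⊕ Fin n → F) ≠ 0 := by simp [f]

theorem z_diag {u : Fin n ⊕ Fin n → F} (hu : u ∈ W (↑S.j + 1)) :
    ∃ l ∈ S.D.L (↑S.j + 1), l.2 = transv u 1 ∧
      z S u = Z S (f S.j + e S.j) u * Z S (f S.j) (-u) * l := by
  by_cases h0 : u = 0
  · subst h0
    exact ⟨1, one_mem _, by rw [transv_vec_zero, Prod.snd_one], by rw [z_zero, neg_zero, Z_zero, Z_zero, mul_one, mul_one]⟩
  have he' := e'_mem S
  have key : z S (e S.j') = Z S (f S.j + e S.j) (e S.j') * Z S (f S.j) (-e S.j') * ell S 1 := by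
    refine (injK S).eq ?_ ?_ ?_
    · rw [z_e']; exact Subgroup.mem_sup_left (z0_spec S 1).1
    · refine mul_mem (mul_mem ?_ ?_) (Subgroup.mem_sup_left (ell_mem_GM S 1))
      · rw [← one_smul F (e S.j' : Fin n ⊕ Fin n → F)]; exact Z_mem_K S _ 1
      · rw [← neg_one_smul F (e S.j' : Fin n ⊕ Fin n → F)]; exact Z_mem_K S _ _
    · rw [Prod.snd_mul, Prod.snd_mul, snd_z S he', snd_Z S (fe_mem S) (fe_ne S) he',
        snd_Z S (f_mem_Pl _) (f_ne S) (neg_mem he'), (ell_spec S 1).2, zeta_diag he']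
  obtain ⟨m, hm, hmu⟩ := exists_toW S hu h0
  refine ⟨m * ell S 1 * m⁻¹, mul_mem (mul_mem hm (ell_mem_L S 1)) (inv_mem hm), ?_, ?_⟩
  · rw [Prod.snd_mul, Prod.snd_mul, Prod.snd_inv, (ell_spec S 1).2, transv_conj, hmu]
  · rw [← hmu, ← smul_neg, ← z_conj S hm he', ← Z_conjL S hm _ he', ← Z_conjL S hm _ (neg_mem he'), key]
    group

theorem Z_comm_rel {a u : Fin n ⊕ Fin n → F} (ha : a ∈ Pl S.j) (ha0 : a ≠ 0) (hu : u ∈ W (↑S.j + 1)) :
    ∃ l ∈ S.D.L (↑S.j + 1), l.2 = transv u (2 * sympForm n F a (e S.j)) ∧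
      Z S a u * z S (-u) = z S (-u) * Z S a u * l := by
  by_cases h0 : u = 0
  · subst h0
    exact ⟨1, one_mem _, by rw [transv_vec_zero, Prod.snd_one], by simp [z_zero, Z_zero]⟩
  have he' := e'_mem S
  set t := 2 * sympForm n F a (e S.j)
  have hz : z S (-e S.j') ∈ S.D.GM S.j ⊔ S.D.GS S.j := by
    rw [← neg_one_smul F (e S.j' : Fin n ⊕ Fin n → F), z_smul_e']
    exact Subgroup.mem_sup_left (z0_spec S _).1
  have hZ : Z S a (e S.j') ∈ S.D.GM S.j ⊔ S.D.GS S.j := by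
    rw [← one_smul F (e S.j' : Fin n ⊕ Fin n → F)]; exact Z_mem_K S _ 1
  have key : Z S a (e S.j') * z S (-e S.j') = z S (-e S.j') * Z S a (e S.j') * ell S t := by
    refine (injK S).eq (mul_mem hZ hz) (mul_mem (mul_mem hz hZ) (Subgroup.mem_sup_left (ell_mem_GM S t))) ?_
    rw [Prod.snd_mul, Prod.snd_mul, Prod.snd_mul, snd_Z S ha ha0 he', snd_z S (neg_mem he'), (ell_spec S t).2]
    exact zeta_comm_rel (form_Pl_W ha he') (form_Pl_W (e_mem_Pl _) he')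
  obtain ⟨m, hm, hmu⟩ := exists_toW S hu h0
  refine ⟨m * ell S t * m⁻¹, mul_mem (mul_mem hm (ell_mem_L S t)) (inv_mem hm), ?_, ?_⟩
  · rw [Prod.snd_mul, Prod.snd_mul, Prod.snd_inv, (ell_spec S t).2, transv_conj, hmu]
  · rw [← hmu, ← smul_neg, ← z_conj S hm (neg_mem he'), ← Z_conjL S hm _ he']
    calc m * Z S a (e S.j') * m⁻¹ * (m * z S (-e S.j') * m⁻¹)
        = m * (Z S a (e S.j') * z S (-e S.j')) * m⁻¹ := by group
      _ = _ := by rw [key]; group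

/-- The lifted stabiliser. -/
def Q : Subgroup (H × symplecticGroup (Fin n) F) where
  carrier := {g | ∃ t, ∃ x ∈ (W (↑S.j + 1) : Submodule F (Fin n ⊕ Fin n → F)), ∃ l ∈ S.D.L (↑S.j + 1),
    g = cE S t * z S x * l}
  one_mem' := ⟨0, 0, zero_mem _, 1, one_mem _, by rw [cE_zero, z_zero, one_mul, one_mul]⟩
  mul_mem' := by
    rintro _ _ ⟨t, x, hx, l, hl, rfl⟩ ⟨s, y, hy, m, hm, rfl⟩
    have hly : l.2 • y ∈ W (↑S.j + 1) := (L_Fix S.D hl).maps hy
    refine ⟨t + s + sympForm n F (l.2 • y) x, x + l.2 • y, (W _).add_mem hx hly, l * m, mul_mem hl hm, ?_⟩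
    have hc : ∀ r v, cE S r * z S v = z S v * cE S r := fun r v =>
      cS_comm_z S (cE_spec S r).1 (cE_fix S r) v
    calc cE S t * z S x * l * (cE S s * z S y * m) = cE S t * z S x * (l * cE S s) * z S y * m := by group
      _ = cE S t * (z S x * cE S s) * (l * z S y * l⁻¹) * (l * m) := by
        rw [← GS_comm_L S.D (cE_spec S s).1 hl]; group
      _ = cE S t * (cE S s * z S x) * z S (l.2 • y) * (l * m) := by rw [← hc, z_conj S hl hy]
      _ = cE S t * cE S s * (z S x * z S (l.2 • y)) * (l * m) := by group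
      _ = _ := by rw [heis S hx hly, ← hc, cE_add, cE_add]; group
  inv_mem' := by
    rintro _ ⟨t, x, hx, l, hl, rfl⟩
    have hlx : l.2⁻¹ • x ∈ W (↑S.j + 1) := (L_Fix S.D hl).inv.maps hx
    refine ⟨-t, -(l.2⁻¹ • x), neg_mem hlx, l⁻¹, inv_mem hl, ?_⟩
    have hz : (z S x)⁻¹ = z S (-x) := by rw [← Z_e S x, ← Z_inv S hx, Z_e]
    have hc : cE S (-t) = (cE S t)⁻¹ := eq_inv_of_mul_eq_one_left (by rw [← cE_add, neg_add_cancel, cE_zero])
    have h1 := z_conj S (inv_mem hl) (neg_mem hx)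
    rw [Prod.snd_inv, inv_inv, smul_neg] at h1
    rw [← h1, _root_.mul_inv_rev, _root_.mul_inv_rev, hz, ← hc]
    have h2 := GS_comm_L S.D (cE_spec S (-t)).1 (inv_mem hl)
    calc l⁻¹ * (z S (-x) * cE S (-t)) = l⁻¹ * (cE S (-t) * z S (-x)) := by
          rw [cS_comm_z S (cE_spec S (-t)).1 (cE_fix S (-t))]
      _ = cE S (-t) * l⁻¹ * z S (-x) := by rw [h2]; group
      _ = _ := by group

theorem L_le_Q : S.D.L (↑S.j + 1) ≤ Q S :=
  fun l hl => ⟨0, 0, zero_mem _, l, hl, by rw [cE_zero, z_zero, one_mul, one_mul]⟩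

theorem z_mem_Q {x : Fin n ⊕ Fin n → F} (hx : x ∈ W (↑S.j + 1)) : z S x ∈ Q S :=
  ⟨0, x, hx, 1, one_mem _, by rw [cE_zero, one_mul, mul_one]⟩

theorem eq_cE {c : H × symplecticGroup (Fin n) F} (hc : c ∈ S.D.GS S.j)
    (he : c.2 • (e S.j : Fin n ⊕ Fin n → F) = e S.j) : ∃ t, c = cE S t := by
  obtain ⟨t, ht⟩ := InS_eq_transv (S.D.snd_GS _ c hc) he
  exact ⟨t, (inj_GS S.D (two_le S) S.j).eq hc (cE_spec S t).1 (ht.trans (cE_spec S t).2.symm)⟩

theorem cS_mem_Q {c : H × symplecticGroup (Fin n) F} (hc : c ∈ S.D.GS S.j)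
    (he : c.2 • (e S.j : Fin n ⊕ Fin n → F) = e S.j) : c ∈ Q S := by
  obtain ⟨t, rfl⟩ := eq_cE S hc he
  exact ⟨t, 0, zero_mem _, 1, one_mem _, by rw [z_zero, mul_one, mul_one]⟩

theorem Q_le_Qgen : Q S ≤ S.D.Qgen S.j := by
  rintro _ ⟨t, x, hx, l, hl, rfl⟩
  refine mul_mem (mul_mem (Subgroup.subset_closure (Or.inl ⟨(cE_spec S t).1, cE_fix S t⟩)) ?_)
    (Subgroup.subset_closure (Or.inr (Or.inr hl)))
  rw [z]
  split_ifs
  · exact one_mem _
  · exact mul_mem (mul_mem (Subgroup.subset_closure (Or.inr (Or.inr (toW_mem S x))))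
      (Subgroup.subset_closure (Or.inr (Or.inl ⟨j_lt S, (z0_spec S 1).1⟩))))
      (inv_mem (Subgroup.subset_closure (Or.inr (Or.inr (toW_mem S x)))))

theorem inj_Q : Inj (Q S) := by
  rintro _ ⟨t, x, hx, l, hl, rfl⟩ h1
  rw [Prod.snd_mul, Prod.snd_mul, (cE_spec S t).2, snd_z S hx] at h1
  have h := congrArg (fun A : symplecticGroup (Fin n) F => A • (f S.j : Fin n ⊕ Fin n → F)) h1
  simp only [mul_smul, one_smul, (L_Fix S.D hl).fix (Nat.lt_succ_self _) (f_mem_Pl S.j),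
    zeta_smul (form_Pl_W (e_mem_Pl S.j) hx), transv_smul, form_Pl_W (f_mem_Pl S.j) hx, form_f_e, zero_smul,
    one_smul, add_zero, form_add_left, form_W_Pl (e_mem_Pl S.j) hx, mul_one] at h
  have h' : t • (e S.j : Fin n ⊕ Fin n → F) + x = 0 := by
    have h2 := congrArg (fun v => v - (f S.j : Fin n ⊕ Fin n → F)) h
    simp only [sub_self] at h2
    rw [← h2]; module
  have h3 := congrArg (pl S.j) h'
  rw [pl_add ((Pl _).smul_mem t (e_mem_Pl _)) hx, map_zero] at h3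
  have ht : t = 0 := (smul_eq_zero.1 h3).resolve_right (e_ne_zero _)
  subst ht
  rw [zero_smul, zero_add] at h'
  subst h'
  rw [transv_zero, zeta_zero, one_mul, one_mul] at h1
  rw [cE_zero, z_zero, one_mul, one_mul]
  exact S.ih.inj l hl h1

theorem absorb {c : H × symplecticGroup (Fin n) F} (hc : c ∈ S.D.GS S.j)
    (he : c.2 • (e S.j : Fin n ⊕ Fin n → F) = e S.j) {x : Fin n ⊕ Fin n → F} (hx : x ∈ W (↑S.j + 1)) :
    (Z S (f S.j) x)⁻¹ * c * Z S (f S.j) x ∈ Q S := by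
  by_cases h0 : x = 0
  · subst h0; rw [Z_zero, inv_one, one_mul, mul_one]; exact cS_mem_Q S hc he
  obtain ⟨t, rfl⟩ := eq_cE S hc he
  have he' := e'_mem S
  have key : (Z S (f S.j) (e S.j'))⁻¹ * cE S t * Z S (f S.j) (e S.j') =
      cE S t * z S (t • e S.j') * ell S t := by
    have hZ : Z S (f S.j) (e S.j') ∈ S.D.GM S.j ⊔ S.D.GS S.j := by
      rw [← one_smul F (e S.j' : Fin n ⊕ Fin n → F)]; exact Z_mem_K S _ 1
    refine (injK S).eq (mul_mem (mul_mem (inv_mem hZ) (Subgroup.mem_sup_right (cE_spec S t).1)) hZ)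
      (mul_mem (mul_mem (Subgroup.mem_sup_right (cE_spec S t).1) ?_) (Subgroup.mem_sup_left (ell_mem_GM S t))) ?_
    · rw [z_smul_e']; exact Subgroup.mem_sup_left (z0_spec S t).1
    · rw [Prod.snd_mul, Prod.snd_mul, Prod.snd_mul, Prod.snd_mul, Prod.snd_inv, (cE_spec S t).2,
        snd_Z S (f_mem_Pl _) (f_ne S) he', snd_z S ((W _).smul_mem t he'), (ell_spec S t).2, zeta_absorb he']
  obtain ⟨m, hm, hmx⟩ := exists_toW S hx h0
  rw [← hmx, ← Z_conjL S hm _ he']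
  have hcomm := GS_comm_L S.D (cE_spec S t).1 hm
  have hmem : m * (cE S t * z S (t • e S.j') * ell S t) * m⁻¹ ∈ Q S :=
    mul_mem (mul_mem (L_le_Q S hm) (mul_mem (mul_mem (cS_mem_Q S (cE_spec S t).1 (cE_fix S t))
      (z_mem_Q S ((W _).smul_mem t he'))) (L_le_Q S (ell_mem_L S t)))) (inv_mem (L_le_Q S hm))
  convert hmem using 1
  calc _ = m * (Z S (f S.j) (e S.j'))⁻¹ * (m⁻¹ * (cE S t * m)) * Z S (f S.j) (e S.j') * m⁻¹ := by group
    _ = m * ((Z S (f S.j) (e S.j'))⁻¹ * cE S t * Z S (f S.j) (e S.j')) * m⁻¹ := by rw [hcomm]; group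
    _ = _ := by rw [key]

end Cfsg.Agent.SympAmalgamRootGroups
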