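import Mathlib
import Cfsg.Agent.Lib.SympAmalgamRootGroups

/-!
The orbit map for one step of the amalgam induction.
-/

set_option autoImplicit false

open Matrix

namespace Cfsg.Agent.SympAmalgamOrbit

open Cfsg Cfsg.Agent.SymplecticBasic Cfsg.Agent.SympAmalgamVectors Cfsg.Agent.SympAmalgamData
  Cfsg.Agent.SympAmalgamHeisenberg Cfsg.Agent.SympAmalgamRootGroups

variable {F : Type*} [Field F] {n : ℕ} {H : Type*} [Group H] (S : Step F n H)

/-- The orbit map on vectors with a component at `j`. -/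
noncomputable def Dc (v : Fin n ⊕ Fin n → F) : (H × symplecticGroup (Fin n) F) ⧸ Q S :=
  ((toPl S (pl S.j v) * Z S (f S.j) (-(v - pl S.j v)) : H × symplecticGroup (Fin n) F) :
    (H × symplecticGroup (Fin n) F) ⧸ Q S)

theorem Dc_eq0 {v : Fin n ⊕ Fin n → F} (hv : v ∈ W (S.j : ℕ)) (h0 : pl S.j v ≠ 0)
    {h : H × symplecticGroup (Fin n) F} (hh : h ∈ S.D.GS S.j)
    (he : h.2 • (e S.j : Fin n ⊕ Fin n → F) = pl S.j v) :
    Dc S v = ((h * Z S (f S.j) (-(v - pl S.j v)) : H × symplecticGroup (Fin n) F) :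
      (H × symplecticGroup (Fin n) F) ⧸ Q S) := by
  rw [Dc, QuotientGroup.eq]
  have hw : -(v - pl S.j v) ∈ W (↑S.j + 1) := neg_mem (sub_pl_mem hv)
  obtain ⟨hg, hga⟩ := toPl_spec S (pl_mem S.j v) h0
  have := absorb S (c := (toPl S (pl S.j v))⁻¹ * h) (mul_mem (inv_mem hg) hh)
    (by rw [Prod.snd_mul, mul_smul, he, Prod.snd_inv, inv_smul_eq_iff, hga]) hw
  convert this using 1
  group

theorem Dc_eq {v : Fin n ⊕ Fin n → F} (hv : v ∈ W (S.j : ℕ)) {a : Fin n ⊕ Fin n → F} (ha : a ∈ Pl S.j)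
    (hk : sympForm n F (pl S.j v) a ≠ 0) {h : H × symplecticGroup (Fin n) F} (hh : h ∈ S.D.GS S.j)
    (he : h.2 • (e S.j : Fin n ⊕ Fin n → F) = pl S.j v) :
    Dc S v = ((Z S a ((sympForm n F (pl S.j v) a)⁻¹ • (v - pl S.j v)) * h : H × symplecticGroup (Fin n) F) :
      (H × symplecticGroup (Fin n) F) ⧸ Q S) := by
  have h0 : pl S.j v ≠ 0 := fun h => hk (by rw [h, ← zero_smul F (0 : Fin n ⊕ Fin n → F), form_smul_left, zero_mul])
  set k := sympForm n F (pl S.j v) a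
  set w := v - pl S.j v
  have hw : w ∈ W (↑S.j + 1) := sub_pl_mem hv
  set a' := h.2⁻¹ • a
  have ha' : a' ∈ Pl S.j := by
    have := (S.D.snd_GS _ _ (inv_mem hh)).maps ha
    rwa [Prod.snd_inv] at this
  have hb : a' (Sum.inr S.j) = -k := by
    rw [← form_e a' S.j, form_swap (e S.j) a', ← form_map h.2, he, smul_inv_smul]
  set b := a' (Sum.inr S.j)
  have hb0 : b ≠ 0 := by rw [hb]; exact neg_ne_zero.2 hk
  set r := b⁻¹ * a' (Sum.inl S.j)
  have hcf : (cE S r).2 • (f S.j : Fin n ⊕ Fin n → F) = b⁻¹ • a' := by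
    rw [(cE_spec S r).2, transv_smul, form_f_e, mul_one]
    conv_rhs => rw [eq_of_mem_Pl ha', smul_add, smul_smul, smul_smul, inv_mul_cancel₀ hb0, one_smul]
    rw [add_comm]
  have hcf0 : b⁻¹ • a' ≠ 0 := fun h => f_ne S (by rw [← hcf] at h; exact (smul_eq_zero_iff_eq _).1 h)
  have h1 : ∀ x ∈ (W (↑S.j + 1) : Submodule F (Fin n ⊕ Fin n → F)),
      Z S a x * h = h * cE S r * Z S (f S.j) (b • x) * (cE S r)⁻¹ := fun x hx => by
    have e1 := Z_conjS S (cE_spec S r).1 (f_mem_Pl S.j) (f_ne S) (b • x)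
    rw [hcf, ← Z_scale S ((Pl _).smul_mem _ ha') hcf0 hx hb0, smul_smul, mul_inv_cancel₀ hb0, one_smul] at e1
    have ha'0 : a' ≠ 0 := fun h => hcf0 (by rw [h, smul_zero])
    have e2 := Z_conjS S hh ha' ha'0 x
    rw [smul_inv_smul, ← e1] at e2
    rw [← e2]; group
  have hx : k⁻¹ • w ∈ W (↑S.j + 1) := (W _).smul_mem _ hw
  rw [h1 _ hx, Dc_eq0 S hv h0 (h := h * cE S r) (mul_mem hh (cE_spec S r).1)
    (by rw [Prod.snd_mul, mul_smul, cE_fix, he]), smul_smul, hb, neg_mul, mul_inv_cancel₀ hk, neg_one_smul,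
    QuotientGroup.eq]
  convert inv_mem (cS_mem_Q S (cE_spec S r).1 (cE_fix S r)) using 1
  simp only [w]
  group

theorem Dc_rep {v : Fin n ⊕ Fin n → F} (hv : v ∈ W (S.j : ℕ)) (h0 : pl S.j v ≠ 0) :
    ∃ g ∈ S.D.L S.j, Dc S v = (g : (H × symplecticGroup (Fin n) F) ⧸ Q S) ∧
      g.2 • (e S.j : Fin n ⊕ Fin n → F) = v := by
  obtain ⟨hg, hga⟩ := toPl_spec S (pl_mem S.j v) h0
  have hw : -(v - pl S.j v) ∈ W (↑S.j + 1) := neg_mem (sub_pl_mem hv)
  refine ⟨_, mul_mem (GS_le_L S.D le_rfl hg) (Z_mem_L S _ _), rfl, ?_⟩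
  rw [Prod.snd_mul, mul_smul, snd_Z S (f_mem_Pl _) (f_ne S) hw, zeta_smul (form_Pl_W (f_mem_Pl _) hw),
    form_Pl_W (e_mem_Pl _) hw, form_e_f, zero_smul, add_zero, smul_add, hga, neg_one_smul, neg_neg,
    (S.D.snd_GS _ _ hg).fix (sub_pl_mem hv), add_sub_cancel]

theorem Dc_S {g : H × symplecticGroup (Fin n) F} (hg : g ∈ S.D.GS S.j) {v : Fin n ⊕ Fin n → F}
    (hv : v ∈ W (S.j : ℕ)) (h0 : pl S.j v ≠ 0) :
    g • Dc S v = Dc S (g.2 • v) ∧ pl S.j (g.2 • v) ≠ 0 := by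
  obtain ⟨ht, hta⟩ := toPl_spec S (pl_mem S.j v) h0
  have hA := S.D.snd_GS _ g hg
  have hsplit : g.2 • v = g.2 • pl S.j v + (v - pl S.j v) := by
    conv_rhs => rw [← hA.fix (sub_pl_mem hv), ← smul_add, add_sub_cancel]
  have hpl : pl S.j (g.2 • v) = g.2 • pl S.j v := by
    rw [hsplit, pl_add (hA.maps (pl_mem _ _)) (sub_pl_mem hv)]
  have hne : pl S.j (g.2 • v) ≠ 0 := by
    rw [hpl]; exact fun h => h0 ((smul_eq_zero_iff_eq _).1 h)
  refine ⟨?_, hne⟩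
  have hW : g.2 • v ∈ W (S.j : ℕ) := (hA.toFix le_rfl).maps hv
  rw [Dc_eq0 S hW hne (h := g * toPl S (pl S.j v)) (mul_mem hg ht) (by rw [Prod.snd_mul, mul_smul, hta, hpl]),
    show g.2 • v - pl S.j (g.2 • v) = v - pl S.j v by rw [hpl]; nth_rewrite 1 [hsplit]; abel, Dc,
    MulAction.Quotient.smul_coe, smul_eq_mul, mul_assoc]

theorem pl_L {l : H × symplecticGroup (Fin n) F} (hl : l ∈ S.D.L (↑S.j + 1)) {v : Fin n ⊕ Fin n → F}
    (hv : v ∈ W (S.j : ℕ)) : pl S.j (l.2 • v) = pl S.j v := by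
  conv_lhs => rw [← add_sub_cancel (pl S.j v) v, smul_add,
    (L_Fix S.D hl).fix (Nat.lt_succ_self _) (pl_mem _ _)]
  rw [pl_add (pl_mem _ _) ((L_Fix S.D hl).maps (sub_pl_mem hv))]

theorem Dc_L {l : H × symplecticGroup (Fin n) F} (hl : l ∈ S.D.L (↑S.j + 1)) {v : Fin n ⊕ Fin n → F}
    (hv : v ∈ W (S.j : ℕ)) : l • Dc S v = Dc S (l.2 • v) := by
  rw [Dc, Dc, pl_L S hl hv, MulAction.Quotient.smul_coe, smul_eq_mul]
  have hw : -(v - pl S.j v) ∈ W (↑S.j + 1) := neg_mem (sub_pl_mem hv)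
  rw [show -(l.2 • v - pl S.j v) = l.2 • -(v - pl S.j v) by
    rw [smul_neg, smul_sub, (L_Fix S.D hl).fix (Nat.lt_succ_self _) (pl_mem _ _)], ← Z_conjL S hl _ hw,
    QuotientGroup.eq]
  have h := GS_comm_L S.D (toPl_mem S (pl S.j v)) hl
  convert inv_mem (L_le_Q S hl) using 1
  calc _ = (Z S (f S.j) (-(v - pl S.j v)))⁻¹ * (toPl S (pl S.j v))⁻¹ * l⁻¹ *
        (toPl S (pl S.j v) * l) * Z S (f S.j) (-(v - pl S.j v)) * l⁻¹ := by group
    _ = _ := by rw [h]; group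

theorem zeta_split {v : Fin n ⊕ Fin n → F} (hv : v ∈ W (S.j : ℕ)) {a u : Fin n ⊕ Fin n → F} (ha : a ∈ Pl S.j)
    (hu : u ∈ W (↑S.j + 1)) :
    zeta a u • v ∈ W (S.j : ℕ) ∧
      pl S.j (zeta a u • v) = pl S.j v + sympForm n F (v - pl S.j v) u • a ∧
      zeta a u • v - pl S.j (zeta a u • v) = (v - pl S.j v) + sympForm n F (pl S.j v) a • u := by
  have h1 : sympForm n F v u = sympForm n F (v - pl S.j v) u := by
    rw [form_sub_left, form_Pl_W (pl_mem _ _) hu, sub_zero]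
  have h2 : sympForm n F v a = sympForm n F (pl S.j v) a := by
    have := form_W_Pl ha (sub_pl_mem hv)
    rw [form_sub_left] at this
    exact sub_eq_zero.1 this
  have hs : zeta a u • v = (pl S.j v + sympForm n F (v - pl S.j v) u • a) +
      ((v - pl S.j v) + sympForm n F (pl S.j v) a • u) := by
    rw [zeta_smul (form_Pl_W ha hu), h1, h2]; abel
  have hp : pl S.j (zeta a u • v) = pl S.j v + sympForm n F (v - pl S.j v) u • a := by
    rw [hs, pl_add ((Pl _).add_mem (pl_mem _ _) ((Pl _).smul_mem _ ha))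
      ((W _).add_mem (sub_pl_mem hv) ((W _).smul_mem _ hu))]
  refine ⟨(zeta_Fix (Pl_le_W _ le_rfl ha) (W_le (Nat.le_succ _) hu)).maps hv, hp, ?_⟩
  rw [hp]; nth_rewrite 1 [hs]; abel

theorem Dc_Z_of_ne {v : Fin n ⊕ Fin n → F} (hv : v ∈ W (S.j : ℕ)) {a u : Fin n ⊕ Fin n → F} (ha : a ∈ Pl S.j)
    (hu : u ∈ W (↑S.j + 1)) (hk : sympForm n F (pl S.j v) a ≠ 0) :
    Z S a u • Dc S v = Dc S (zeta a u • v) ∧ pl S.j (zeta a u • v) ≠ 0 := by
  obtain ⟨hW, hp, ht⟩ := zeta_split S hv ha hu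
  have hk' : sympForm n F (pl S.j (zeta a u • v)) a = sympForm n F (pl S.j v) a := by
    rw [hp, form_add_left, form_smul_left, form_self, mul_zero, add_zero]
  refine ⟨?_, fun h => hk (by rw [← hk', h, ← zero_smul F (0 : Fin n ⊕ Fin n → F), form_smul_left, zero_mul])⟩
  have h0 : pl S.j v ≠ 0 := fun h => hk (by rw [h, ← zero_smul F (0 : Fin n ⊕ Fin n → F), form_smul_left, zero_mul])
  have ha0 : a ≠ 0 := fun h => hk (by rw [h, ← zero_smul F (0 : Fin n ⊕ Fin n → F), form_smul_right, zero_mul])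
  obtain ⟨hg, hga⟩ := toPl_spec S (pl_mem S.j v) h0
  set k := sympForm n F (pl S.j v) a with hkdef
  set w := v - pl S.j v
  have hx : k⁻¹ • w ∈ W (↑S.j + 1) := (W _).smul_mem _ (sub_pl_mem hv)
  have he : (C S a (sympForm n F (k⁻¹ • w) u) * toPl S (pl S.j v)).2 • (e S.j : Fin n ⊕ Fin n → F) =
      pl S.j (zeta a u • v) := by
    rw [Prod.snd_mul, mul_smul, hga, snd_C S ha ha0, transv_smul, hp, form_smul_left, ← hkdef]
    congr 2
    field_simp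
  rw [Dc_eq S hv ha hk hg hga, Dc_eq S hW ha (hk'.symm ▸ hk) (mul_mem (C_mem S a _) hg) he, hk', ← hkdef, ht,
    MulAction.Quotient.smul_coe, smul_eq_mul, ← mul_assoc, Z_mul S hu hx,
    show k⁻¹ • (w + k • u) = u + k⁻¹ • w by rw [smul_add, smul_smul, inv_mul_cancel₀ hk, one_smul, add_comm],
    mul_assoc]

theorem Dc_z {v : Fin n ⊕ Fin n → F} (hv : v ∈ W (S.j : ℕ)) {c : F} (hc : c ≠ 0)
    (hp : pl S.j v = c • e S.j) {u : Fin n ⊕ Fin n → F} (hu : u ∈ W (↑S.j + 1))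
    (h' : pl S.j (zeta (e S.j) u • v) ≠ 0) :
    z S u • Dc S v = Dc S (zeta (e S.j) u • v) := by
  obtain ⟨l, hl, hl2, hzl⟩ := z_diag S hu
  obtain ⟨-, hp', -⟩ := zeta_split S hv (e_mem_Pl S.j) hu
  set w := v - pl S.j v
  rw [hp', hp, ← add_smul] at h'
  have hsum : c + sympForm n F w u ≠ 0 := fun h => h' (by rw [h, zero_smul])
  have hv1 : l.2 • v ∈ W (S.j : ℕ) := (L_Fix S.D (L_anti S.D (Nat.le_succ _) hl)).maps hv
  have hp1 : pl S.j (l.2 • v) = c • e S.j := (pl_L S hl hv).trans hp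
  have hk1 : sympForm n F (pl S.j (l.2 • v)) (f S.j) ≠ 0 := by
    rw [hp1, form_smul_left, form_e_f]; simpa using hc
  obtain ⟨e1, -⟩ := Dc_Z_of_ne S hv1 (f_mem_Pl _) (neg_mem hu) hk1
  obtain ⟨hv2, hp2, -⟩ := zeta_split S hv1 (f_mem_Pl _) (neg_mem hu)
  have hw1 : sympForm n F (l.2 • v - pl S.j (l.2 • v)) (-u) = -sympForm n F w u := by
    rw [pl_L S hl hv, hl2, transv_smul, form_sub_left, form_add_left, form_smul_left, ← neg_one_smul F u]
    simp only [form_smul_right, form_self, w, form_sub_left]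
    ring
  have hk2 : sympForm n F (pl S.j (zeta (f S.j) (-u) • l.2 • v)) (f S.j + e S.j) ≠ 0 := by
    rw [hp2, hw1, hp1]
    simp only [form_add_left, form_add_right, form_smul_left, form_self, form_e_f, form_f_e]
    intro h; exact hsum (by linear_combination -h)
  obtain ⟨e2, -⟩ := Dc_Z_of_ne S hv2 (fe_mem S) hu hk2
  rw [hzl, mul_smul, mul_smul, Dc_L S hl hv, e1, e2, ← mul_smul, ← mul_smul, hl2, zeta_diag hu]

theorem Dc_Z {v : Fin n ⊕ Fin n → F} (hv : v ∈ W (S.j : ℕ)) (h0 : pl S.j v ≠ 0) {a u : Fin n ⊕ Fin n → F}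
    (ha : a ∈ Pl S.j) (ha0 : a ≠ 0) (hu : u ∈ W (↑S.j + 1)) (h' : pl S.j (zeta a u • v) ≠ 0) :
    Z S a u • Dc S v = Dc S (zeta a u • v) := by
  by_cases hk : sympForm n F (pl S.j v) a = 0
  swap
  · exact (Dc_Z_of_ne S hv ha hu hk).1
  obtain ⟨hg, hga⟩ := toPl_spec S ha ha0
  set g := toPl S a
  have hgi : g⁻¹ ∈ S.D.GS S.j := inv_mem hg
  obtain ⟨e1, h1⟩ := Dc_S S hgi hv h0
  have hv1 : g⁻¹.2 • v ∈ W (S.j : ℕ) := ((S.D.snd_GS _ _ hgi).toFix le_rfl).maps hv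
  have hinr : pl S.j (g⁻¹.2 • v) (Sum.inr S.j) = 0 := by
    show (if _ then _ else _) = (0 : F)
    rw [if_pos (show idx (Sum.inr S.j) = S.j from rfl), ← form_e (g⁻¹.2 • v) S.j, ← form_map g.2, hga, Prod.snd_inv, smul_inv_smul]
    have := form_W_Pl ha (sub_pl_mem hv)
    rw [form_sub_left, hk, sub_zero] at this
    exact this
  have hp1 : pl S.j (g⁻¹.2 • v) = (pl S.j (g⁻¹.2 • v)) (Sum.inl S.j) • e S.j := by
    conv_lhs => rw [eq_of_mem_Pl (pl_mem S.j (g⁻¹.2 • v)), hinr, zero_smul, add_zero]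
  have hc : (pl S.j (g⁻¹.2 • v)) (Sum.inl S.j) ≠ 0 := fun h => h1 (by rw [hp1, h, zero_smul])
  have hconj : zeta a u = g.2 * zeta (e S.j) u * g.2⁻¹ := by
    rw [zeta_conj, hga, (S.D.snd_GS _ _ hg).fix hu]
  have h2 : pl S.j (zeta (e S.j) u • g⁻¹.2 • v) ≠ 0 := by
    have := (Dc_S S hgi (v := zeta a u • v) ((zeta_split S hv ha hu).1) h').2
    rwa [hconj, mul_smul, mul_smul, Prod.snd_inv, inv_smul_smul] at this
  rw [Z, mul_smul, mul_smul, e1, Dc_z S hv1 hc hp1 hu h2,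
    (Dc_S S hg (zeta_split S hv1 (e_mem_Pl _) hu).1 h2).1, hconj, mul_smul, mul_smul, Prod.snd_inv]

/-- The candidate value at a vector without component at `j`. -/
noncomputable def val (a u w : Fin n ⊕ Fin n → F) : (H × symplecticGroup (Fin n) F) ⧸ Q S :=
  (Z S a u)⁻¹ • Dc S (zeta a u • w)

theorem pl_zeta_W {w a u : Fin n ⊕ Fin n → F} (hw : w ∈ W (↑S.j + 1)) (ha : a ∈ Pl S.j) (hu : u ∈ W (↑S.j + 1)) :
    pl S.j (zeta a u • w) = sympForm n F w u • a := by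
  rw [(zeta_split S (W_le (Nat.le_succ _) hw) ha hu).2.1, pl_eq_zero hw, sub_zero, zero_add]

theorem val_indep {w a u u' : Fin n ⊕ Fin n → F} (hw : w ∈ W (↑S.j + 1)) (ha : a ∈ Pl S.j) (ha0 : a ≠ 0)
    (hu : u ∈ W (↑S.j + 1)) (hu' : u' ∈ W (↑S.j + 1)) (h : sympForm n F w u ≠ 0) (h' : sympForm n F w u' ≠ 0) :
    val S a u w = val S a u' w := by
  have hwj : w ∈ W (S.j : ℕ) := W_le (Nat.le_succ _) hw
  obtain ⟨hxW, -, -⟩ := zeta_split S hwj ha hu
  have hx0 : pl S.j (zeta a u • w) ≠ 0 := by rw [pl_zeta_W S hw ha hu]; exact smul_ne_zero h ha0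
  have hmul := Z_mul S (a := a) hu' (neg_mem hu)
  rw [Z_inv S hu] at hmul
  set t := sympForm n F (-u) u'
  obtain ⟨e1, h1⟩ := Dc_S S (C_mem S a t) hxW hx0
  have hxW1 : (C S a t).2 • zeta a u • w ∈ W (S.j : ℕ) := ((S.D.snd_GS _ _ (C_mem S a t)).toFix le_rfl).maps hxW
  have hπ : zeta a (u' + -u) • (C S a t).2 • zeta a u • w = zeta a u' • w := by
    rw [← mul_smul, ← mul_smul]
    congr 1
    have := congrArg Prod.snd hmul
    rw [Prod.snd_mul, Prod.snd_mul, Prod.snd_inv, snd_Z S ha ha0 hu', snd_Z S ha ha0 hu,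
      snd_Z S ha ha0 ((W _).add_mem hu' (neg_mem hu))] at this
    rw [← this, inv_mul_cancel_right]
  have key : (Z S a u' * (Z S a u)⁻¹) • Dc S (zeta a u • w) = Dc S (zeta a u' • w) := by
    rw [hmul, mul_smul, e1, Dc_Z S hxW1 h1 ha ha0 ((W _).add_mem hu' (neg_mem hu)) (by
      rw [hπ, pl_zeta_W S hw ha hu']; exact smul_ne_zero h' ha0), hπ]
  rw [val, val, ← key, mul_smul, inv_smul_smul]

theorem val_eq {w a u : Fin n ⊕ Fin n → F} (hw : w ∈ W (↑S.j + 1)) (ha : a ∈ Pl S.j) (ha0 : a ≠ 0)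
    (hu : u ∈ W (↑S.j + 1)) (h : sympForm n F w u ≠ 0) : val S a u w = val S (e S.j) u w := by
  have he0 := e_ne_zero (F := F) S.j
  by_cases hk : sympForm n F a (e S.j) = 0
  · rw [form_e] at hk
    have hae : a = a (Sum.inl S.j) • e S.j := by
      conv_lhs => rw [eq_of_mem_Pl ha, hk, zero_smul, add_zero]
    set c := a (Sum.inl S.j)
    have hc : c ≠ 0 := fun h0 => ha0 (by rw [hae, h0, zero_smul])
    have : val S a u w = val S (e S.j) (c • u) w := by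
      rw [val, val, hae, Z_scale S (e_mem_Pl _) he0 hu hc, zeta_scale (form_Pl_W (e_mem_Pl _) hu)]
    rw [this]
    exact val_indep S hw (e_mem_Pl _) he0 ((W _).smul_mem _ hu) hu
      (by rw [form_smul_right]; exact mul_ne_zero hc h) h
  set μ := sympForm n F w u
  have hwj : w ∈ W (S.j : ℕ) := W_le (Nat.le_succ _) hw
  obtain ⟨l, hl, hl2, hrel⟩ := Z_comm_rel S ha ha0 hu
  obtain ⟨hxW, hxp, hxt⟩ := zeta_split S hwj (e_mem_Pl S.j) hu
  rw [pl_eq_zero hw, sub_zero, zero_add] at hxp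
  rw [pl_eq_zero hw, sub_zero, ← zero_smul F (0 : Fin n ⊕ Fin n → F), form_smul_left, zero_mul, zero_smul,
    add_zero] at hxt
  set x := zeta (e S.j) u • w
  have hyW : l.2 • x ∈ W (S.j : ℕ) := (L_Fix S.D (L_anti S.D (Nat.le_succ _) hl)).maps hxW
  have hyp : pl S.j (l.2 • x) = μ • e S.j := (pl_L S hl hxW).trans hxp
  have hk1 : sympForm n F (pl S.j (l.2 • x)) a ≠ 0 := by
    rw [hyp, form_smul_left, form_swap a]; exact mul_ne_zero h (neg_ne_zero.2 hk)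
  obtain ⟨e1, h1⟩ := Dc_Z_of_ne S hyW ha hu hk1
  obtain ⟨hzW, hzp, -⟩ := zeta_split S hyW ha hu
  have hμ : sympForm n F (l.2 • x - pl S.j (l.2 • x)) u = μ := by
    rw [pl_L S hl hxW, hl2, transv_smul, form_sub_left, form_add_left, form_smul_left, form_self, mul_zero,
      add_zero, ← form_sub_left, hxt]
  have hk2 : sympForm n F (pl S.j (zeta a u • l.2 • x)) (e S.j) ≠ 0 := by
    rw [hzp, hμ, hyp, form_add_left, form_smul_left, form_smul_left, form_self, mul_zero, zero_add]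
    exact mul_ne_zero h hk
  obtain ⟨e2, -⟩ := Dc_Z_of_ne S hzW (e_mem_Pl _) (neg_mem hu) hk2
  have hzu : (z S u)⁻¹ = z S (-u) := by rw [← Z_e S u, ← Z_inv S hu, Z_e]
  have key : (Z S a u * z S (-u)) • Dc S x = Dc S (zeta a u • w) := by
    rw [hrel, mul_smul, mul_smul, Dc_L S hl hxW, e1, ← Z_e S (-u), e2]
    congr 1
    have h3 := congrArg Prod.snd hrel
    rw [Prod.snd_mul, Prod.snd_mul, Prod.snd_mul, snd_Z S ha ha0 hu, snd_z S (neg_mem hu)] at h3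
    rw [← mul_smul, ← mul_smul, ← h3, mul_smul]
    congr 1
    have h4 : zeta (e S.j) (-u) = (zeta (e S.j) u)⁻¹ := by
      rw [← snd_z S (neg_mem hu), ← hzu, Prod.snd_inv, snd_z S hu]
    rw [h4, inv_smul_smul]
  rw [val, val, ← key, mul_smul, inv_smul_smul, Z_e, hzu]

open Classical in
/-- The orbit map. -/
noncomputable def D (v : Fin n ⊕ Fin n → F) : (H × symplecticGroup (Fin n) F) ⧸ Q S :=
  if pl S.j v ≠ 0 then Dc S v
  else if h : ∃ u ∈ (W (↑S.j + 1) : Submodule F (Fin n ⊕ Fin n → F)), sympForm n F v u ≠ 0 then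
    val S (e S.j) h.choose v
  else ((1 : H × symplecticGroup (Fin n) F) : (H × symplecticGroup (Fin n) F) ⧸ Q S)

theorem mem_W_of_pl {v : Fin n ⊕ Fin n → F} (hv : v ∈ W (S.j : ℕ)) (h : pl S.j v = 0) : v ∈ W (↑S.j + 1) := by
  have := sub_pl_mem hv; rwa [h, sub_zero] at this

theorem D_of_val {w a u : Fin n ⊕ Fin n → F} (hw : w ∈ W (↑S.j + 1)) (ha : a ∈ Pl S.j) (ha0 : a ≠ 0)
    (hu : u ∈ W (↑S.j + 1)) (h : sympForm n F w u ≠ 0) : D S w = val S a u w := by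
  have he : ∃ u ∈ (W (↑S.j + 1) : Submodule F (Fin n ⊕ Fin n → F)), sympForm n F w u ≠ 0 := ⟨u, hu, h⟩
  rw [D, if_neg (not_not.2 (pl_eq_zero hw)), dif_pos he, val_eq S hw ha ha0 hu h]
  exact val_indep S hw (e_mem_Pl _) (e_ne_zero _) he.choose_spec.1 hu he.choose_spec.2 h

theorem D_S {g : H × symplecticGroup (Fin n) F} (hg : g ∈ S.D.GS S.j) {v : Fin n ⊕ Fin n → F}
    (hv : v ∈ W (S.j : ℕ)) (hv0 : v ≠ 0) : g • D S v = D S (g.2 • v) := by
  by_cases hp : pl S.j v = 0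
  swap
  · obtain ⟨e1, h1⟩ := Dc_S S hg hv hp
    rw [D, D, if_pos hp, if_pos h1, e1]
  have hw := mem_W_of_pl S hv hp
  obtain ⟨u, hu, hf⟩ := exists_form_ne hw hv0
  have hA := S.D.snd_GS _ g hg
  have he0 := e_ne_zero (F := F) S.j
  have hge : g.2 • (e S.j : Fin n ⊕ Fin n → F) ∈ Pl S.j := hA.maps (e_mem_Pl _)
  have hge0 : g.2 • (e S.j : Fin n ⊕ Fin n → F) ≠ 0 := fun h => he0 ((smul_eq_zero_iff_eq _).1 h)
  have hx : pl S.j (zeta (e S.j) u • v) ≠ 0 := by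
    rw [pl_zeta_W S hw (e_mem_Pl _) hu]; exact smul_ne_zero hf he0
  rw [hA.fix hw, D_of_val S hw (e_mem_Pl _) he0 hu hf]
  conv_rhs => rw [← D_of_val S hw (e_mem_Pl _) he0 hu hf, D_of_val S hw hge hge0 hu hf]
  rw [val, val, ← Z_conjS S hg (e_mem_Pl _) he0, conj_inv, mul_smul, mul_smul]
  congr 2
  rw [eq_inv_smul_iff, (Dc_S S hg (zeta_split S (W_le (Nat.le_succ _) hw) (e_mem_Pl _) hu).1 hx).1]
  congr 1
  rw [show zeta (g.2 • e S.j) u = g.2 * zeta (e S.j) u * g.2⁻¹ by rw [zeta_conj, hA.fix hu], mul_smul, mul_smul,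
    inv_smul_eq_iff.2 (hA.fix hw).symm]

theorem D_L {l : H × symplecticGroup (Fin n) F} (hl : l ∈ S.D.L (↑S.j + 1)) {v : Fin n ⊕ Fin n → F}
    (hv : v ∈ W (S.j : ℕ)) (hv0 : v ≠ 0) : l • D S v = D S (l.2 • v) := by
  by_cases hp : pl S.j v = 0
  swap
  · rw [D, D, if_pos hp, if_pos (by rwa [pl_L S hl hv]), Dc_L S hl hv]
  have hw := mem_W_of_pl S hv hp
  obtain ⟨u, hu, hf⟩ := exists_form_ne hw hv0
  have hA := L_Fix S.D hl
  rw [D_of_val S hw (e_mem_Pl _) (e_ne_zero _) hu hf,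
    D_of_val S (hA.maps hw) (e_mem_Pl _) (e_ne_zero _) (hA.maps hu) (by rwa [form_map]), val, val,
    ← Z_conjL S hl _ hu, conj_inv, mul_smul, mul_smul]
  congr 2
  rw [eq_inv_smul_iff, Dc_L S hl (zeta_split S (W_le (Nat.le_succ _) hw) (e_mem_Pl _) hu).1]
  congr 1
  rw [← mul_smul, ← mul_smul, show zeta (e S.j) (l.2 • u) = l.2 * zeta (e S.j) u * l.2⁻¹ by
    rw [zeta_conj, hA.fix (Nat.lt_succ_self _) (e_mem_Pl _)], inv_mul_cancel_right]

theorem D_Z_of_pl {v : Fin n ⊕ Fin n → F} (hv : v ∈ W (S.j : ℕ)) (h0 : pl S.j v ≠ 0) {a u : Fin n ⊕ Fin n → F}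
    (ha : a ∈ Pl S.j) (ha0 : a ≠ 0) (hu : u ∈ W (↑S.j + 1)) : Z S a u • D S v = D S (zeta a u • v) := by
  by_cases h' : pl S.j (zeta a u • v) = 0
  swap
  · rw [D, D, if_pos h0, if_pos h', Dc_Z S hv h0 ha ha0 hu h']
  obtain ⟨hW, -, -⟩ := zeta_split S hv ha hu
  have hw := mem_W_of_pl S hW h'
  set w := zeta a u • v
  have hv' : zeta a (-u) • w = v := by
    rw [← snd_Z S ha ha0 (neg_mem hu), Z_inv S hu, Prod.snd_inv, snd_Z S ha ha0 hu, inv_smul_smul]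
  have hne : sympForm n F w (-u) ≠ 0 := fun h => h0 (by
    rw [← hv', pl_zeta_W S hw ha (neg_mem hu), h, zero_smul])
  rw [D_of_val S hw ha ha0 (neg_mem hu) hne, val, hv', Z_inv S hu, inv_inv, D, if_pos h0]

theorem D_Z {v : Fin n ⊕ Fin n → F} (hv : v ∈ W (S.j : ℕ)) (hv0 : v ≠ 0) {a u : Fin n ⊕ Fin n → F}
    (ha : a ∈ Pl S.j) (ha0 : a ≠ 0) (hu : u ∈ W (↑S.j + 1)) : Z S a u • D S v = D S (zeta a u • v) := by
  by_cases hp : pl S.j v = 0
  swap
  · exact D_Z_of_pl S hv hp ha ha0 hu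
  have hw := mem_W_of_pl S hv hp
  obtain ⟨u1, hu1, hf⟩ := exists_form_ne hw hv0
  obtain ⟨hxW, -, -⟩ := zeta_split S (W_le (Nat.le_succ _) hw) ha hu1
  have hx0 : pl S.j (zeta a u1 • v) ≠ 0 := by rw [pl_zeta_W S hw ha hu1]; exact smul_ne_zero hf ha0
  have hmul := Z_mul S (a := a) hu (neg_mem hu1)
  rw [Z_inv S hu1] at hmul
  obtain ⟨e1, h1⟩ := Dc_S S (C_mem S a (sympForm n F (-u1) u)) hxW hx0
  have hD : ∀ y, pl S.j y ≠ 0 → Dc S y = D S y := fun y hy => by rw [D, if_pos hy]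
  rw [D_of_val S hw ha ha0 hu1 hf, val, ← mul_smul, hmul, mul_smul, e1, hD _ h1,
    D_Z_of_pl S (((S.D.snd_GS _ _ (C_mem S a _)).toFix le_rfl).maps hxW) h1 ha ha0 ((W _).add_mem hu (neg_mem hu1))]
  congr 1
  rw [← mul_smul, ← mul_smul]
  congr 1
  have := congrArg Prod.snd hmul
  rw [Prod.snd_mul, Prod.snd_mul, Prod.snd_inv, snd_Z S ha ha0 hu, snd_Z S ha ha0 hu1,
    snd_Z S ha ha0 ((W _).add_mem hu (neg_mem hu1))] at this
  rw [← this, inv_mul_cancel_right]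

theorem GM_decomp {g : H × symplecticGroup (Fin n) F} (hg : g ∈ S.D.GM S.j) :
    ∃ p t r : F, g = cE S p * Z S (e S.j) (t • e S.j') * ell S r := by
  obtain ⟨p, t, r, h⟩ := (S.D.snd_GM _ (j_lt S) g hg).decomp S.succ
  refine ⟨p, t, r, (injK S).eq (Subgroup.mem_sup_left hg) ?_ ?_⟩
  · exact mul_mem (mul_mem (Subgroup.mem_sup_right (cE_spec S p).1) (Z_mem_K S _ t))
      (Subgroup.mem_sup_left (ell_mem_GM S r))
  · rw [Prod.snd_mul, Prod.snd_mul, (cE_spec S p).2, (ell_spec S r).2,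
      snd_Z S (e_mem_Pl _) (e_ne_zero _) ((W _).smul_mem _ (e'_mem S)), h]

theorem equivariant {g : H × symplecticGroup (Fin n) F} (hg : g ∈ S.D.L S.j) :
    ∀ v, v ∈ (W (S.j : ℕ) : Submodule F (Fin n ⊕ Fin n → F)) → v ≠ 0 → g • D S v = D S (g.2 • v) := by
  induction hg using Subgroup.closure_induction with
  | mem g hg =>
    intro v hv hv0
    rcases hg with ⟨i, hi, hg⟩ | ⟨i, hi, hin, hg⟩
    · rcases eq_or_lt_of_le hi with h | h
      · obtain rfl : i = S.j := Fin.ext h.symm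
        exact D_S S hg hv hv0
      · exact D_L S (GS_le_L S.D h hg) hv hv0
    · rcases eq_or_lt_of_le hi with h | h
      · obtain rfl : i = S.j := Fin.ext h.symm
        obtain ⟨p, t, r, rfl⟩ := GM_decomp S hg
        have hu : t • (e S.j' : Fin n ⊕ Fin n → F) ∈ W (↑S.j + 1) := (W _).smul_mem _ (e'_mem S)
        have hv1 := (L_Fix S.D (L_anti S.D (Nat.le_succ _) (ell_mem_L S r))).maps hv
        have hv10 : (ell S r).2 • v ≠ 0 := fun h => hv0 ((smul_eq_zero_iff_eq _).1 h)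
        have hv20 : zeta (e S.j : Fin n ⊕ Fin n → F) (t • e S.j') • (ell S r).2 • v ≠ 0 := fun h => hv10 ((smul_eq_zero_iff_eq _).1 h)
        rw [mul_smul, mul_smul, D_L S (ell_mem_L S r) hv hv0, D_Z S hv1 hv10 (e_mem_Pl _) (e_ne_zero _) hu,
          D_S S (cE_spec S p).1 (zeta_split S hv1 (e_mem_Pl _) hu).1 hv20, ← mul_smul, ← mul_smul,
          Prod.snd_mul, Prod.snd_mul, snd_Z S (e_mem_Pl _) (e_ne_zero _) hu]
      · exact D_L S (GM_le_L S.D h hin hg) hv hv0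
  | one => intro v _ _; rw [one_smul, Prod.snd_one, one_smul]
  | mul x y hx hy ihx ihy =>
    intro v hv hv0
    rw [mul_smul, ihy v hv hv0, ihx _ ((L_Fix S.D hy).maps hv) (fun h => hv0 ((smul_eq_zero_iff_eq _).1 h)),
      Prod.snd_mul, mul_smul]
  | inv x hx ihx =>
    intro v hv hv0
    rw [inv_smul_eq_iff, ihx _ ((L_Fix S.D (inv_mem hx)).maps hv) (fun h => hv0 ((smul_eq_zero_iff_eq _).1 h)),
      Prod.snd_inv, smul_inv_smul]

theorem good : S.D.Good S.j := by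
  have he : (e S.j : Fin n ⊕ Fin n → F) ∈ W (S.j : ℕ) := Pl_le_W _ le_rfl (e_mem_Pl _)
  have hDe : D S (e S.j) = ((1 : H × symplecticGroup (Fin n) F) : (H × symplecticGroup (Fin n) F) ⧸ Q S) := by
    have hp : pl (F := F) S.j (e S.j : Fin n ⊕ Fin n → F) = e S.j := pl_of_mem (e_mem_Pl _)
    rw [D, if_pos (by rw [hp]; exact e_ne_zero _), Dc_eq0 S he (by rw [hp]; exact e_ne_zero _) (h := 1) (one_mem _)
      (by rw [hp, Prod.snd_one, one_smul]), hp, sub_self, neg_zero, Z_zero, mul_one]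
  have hstab : ∀ g ∈ S.D.L S.j, g.2 • (e S.j : Fin n ⊕ Fin n → F) = e S.j → g ∈ Q S := fun g hg hge => by
    have := equivariant S hg (e S.j) he (e_ne_zero _)
    rw [hge, hDe, MulAction.Quotient.smul_coe, smul_eq_mul, mul_one, eq_comm, QuotientGroup.eq, inv_one,
      one_mul] at this
    exact this
  refine ⟨fun g hg h1 => inj_Q S g (hstab g hg (by rw [h1, one_smul])) h1, fun A hA => ?_, fun i hi g hg hge => ?_⟩
  swap
  · obtain rfl : i = S.j := Fin.ext hi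
    exact Q_le_Qgen S (hstab g hg hge)
  have hv : A • (e S.j : Fin n ⊕ Fin n → F) ∈ W (S.j : ℕ) := hA.maps he
  have hv0 : A • (e S.j : Fin n ⊕ Fin n → F) ≠ 0 := fun h => e_ne_zero S.j ((smul_eq_zero_iff_eq _).1 h)
  obtain ⟨g, hg, hge⟩ : ∃ g ∈ S.D.L S.j, g.2 • (e S.j : Fin n ⊕ Fin n → F) = A • e S.j := by
    set v := A • (e S.j : Fin n ⊕ Fin n → F)
    by_cases hp : pl S.j v = 0
    swap
    · obtain ⟨g, hg, -, hge⟩ := Dc_rep S hv hp
      exact ⟨g, hg, hge⟩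
    have hw := mem_W_of_pl S hv hp
    obtain ⟨u, hu, hf⟩ := exists_form_ne hw hv0
    have hx0 : pl S.j (zeta (e S.j) u • v) ≠ 0 := by
      rw [pl_zeta_W S hw (e_mem_Pl _) hu]; exact smul_ne_zero hf (e_ne_zero _)
    obtain ⟨g, hg, -, hge⟩ := Dc_rep S (zeta_split S hv (e_mem_Pl _) hu).1 hx0
    refine ⟨(z S u)⁻¹ * g, mul_mem (inv_mem (z_mem_L S u)) hg, ?_⟩
    rw [Prod.snd_mul, mul_smul, hge, Prod.snd_inv, snd_z S hu, inv_smul_smul]
  set B := g.2⁻¹ * A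
  have hB : Fix (S.j : ℕ) B := (L_Fix S.D hg).inv.mul hA
  have hBe : B • (e S.j : Fin n ⊕ Fin n → F) = e S.j := by rw [mul_smul, ← hge, inv_smul_smul]
  set v := B • (f S.j : Fin n ⊕ Fin n → F)
  have hvW : v ∈ W (S.j : ℕ) := hB.maps (Pl_le_W _ le_rfl (f_mem_Pl _))
  have hx : v - pl S.j v ∈ W (↑S.j + 1) := sub_pl_mem hvW
  set t := v (Sum.inl S.j)
  have hpv : pl S.j v = t • e S.j + f S.j := by
    have h1 : v (Sum.inr S.j) = 1 := by
      have := form_map B (f S.j) (e S.j : Fin n ⊕ Fin n → F)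
      rwa [hBe, form_e, form_f_e] at this
    conv_lhs => rw [eq_of_mem_Pl (pl_mem S.j v)]
    simp [pl, idx, h1, t]
  set q := cE S t * z S (v - pl S.j v)
  have hq2 : q.2 = transv (e S.j) t * zeta (e S.j) (v - pl S.j v) := by
    rw [Prod.snd_mul, (cE_spec S t).2, snd_z S hx]
  have hqe : q.2 • (e S.j : Fin n ⊕ Fin n → F) = e S.j := by
    rw [hq2, mul_smul, zeta_smul (form_Pl_W (e_mem_Pl _) hx), form_Pl_W (e_mem_Pl _) hx, form_self, zero_smul,
      zero_smul, add_zero, add_zero, transv_fixed (form_self _)]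
  have hqf : q.2 • (f S.j : Fin n ⊕ Fin n → F) = v := by
    rw [hq2, mul_smul, zeta_smul (form_Pl_W (e_mem_Pl _) hx), form_Pl_W (f_mem_Pl _) hx, form_f_e, zero_smul,
      add_zero, one_smul, transv_smul, form_add_left, form_f_e, form_W_Pl (e_mem_Pl _) hx, add_zero, mul_one,
      hpv]
    abel
  have hqL : q ∈ S.D.L S.j := mul_mem (GS_le_L S.D le_rfl (cE_spec S t).1) (z_mem_L S _)
  have hR : Fix (↑S.j + 1) (q.2⁻¹ * B) := fun i hi => by
    rcases Nat.lt_succ_iff_lt_or_eq.1 hi with h | h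
    · exact ((L_Fix S.D hqL).inv.mul hB) i h
    · obtain rfl : i = S.j := Fin.ext h
      exact ⟨by rw [mul_smul, hBe, inv_smul_eq_iff, hqe], by rw [mul_smul, inv_smul_eq_iff, hqf]⟩
  obtain ⟨l, hl, hl2⟩ := S.ih.surj _ hR
  refine ⟨g * q * l, mul_mem (mul_mem hg hqL) (L_anti S.D (Nat.le_succ _) hl), ?_⟩
  rw [Prod.snd_mul, Prod.snd_mul, hl2, mul_assoc, mul_inv_cancel_left]
  exact mul_inv_cancel_left g.2 A

end Cfsg.Agent.SympAmalgamOrbit
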