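import Mathlib
import Cfsg.Agent.Lib.SympAmalgamOrbit

/-!
The completion of the amalgam is the symplectic group.
-/

set_option autoImplicit false

open Matrix

namespace Cfsg.Agent.SympAmalgamMain

open Cfsg Cfsg.Agent.SymplecticBasic Cfsg.Agent.SympAmalgamVectors Cfsg.Agent.SympAmalgamData

variable {F : Type*} [Field F] {n : ℕ} {H : Type*} [Group H]

theorem good_all (D : Data F n H) (hn : 2 ≤ n) : ∀ (m : ℕ) (j : Fin n), (j : ℕ) + 1 + m = n → D.Good j := by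
  intro m
  induction m with
  | zero => intro j hj; exact good_last D hn (by omega)
  | succ m ih =>
    intro j hj
    have hlt : (j : ℕ) + 1 < n := by omega
    exact SympAmalgamOrbit.good ⟨D, j, ⟨(j : ℕ) + 1, hlt⟩, rfl, ih ⟨(j : ℕ) + 1, hlt⟩ (by simp; omega)⟩

/-- The graph of a homomorphism on a subgroup. -/
def graph {K : Subgroup (symplecticGroup (Fin n) F)} (σ : K →* H) : Subgroup (H × symplecticGroup (Fin n) F) :=
  (σ.prod K.subtype).range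

theorem mem_graph {K : Subgroup (symplecticGroup (Fin n) F)} (σ : K →* H) {g : H × symplecticGroup (Fin n) F} :
    g ∈ graph σ ↔ ∃ h : g.2 ∈ K, σ ⟨g.2, h⟩ = g.1 := by
  constructor
  · rintro ⟨⟨A, hA⟩, rfl⟩
    exact ⟨hA, rfl⟩
  · rintro ⟨h, h1⟩
    exact ⟨⟨g.2, h⟩, Prod.ext h1 rfl⟩

theorem inj_graph {K₁ K₂ : Subgroup (symplecticGroup (Fin n) F)} (σ₁ : K₁ →* H) (σ₂ : K₂ →* H)
    (h : ∃ Ψ : ↥(K₁ ⊔ K₂) →* H, (∀ g (hg : g ∈ K₁), Ψ ⟨g, Subgroup.mem_sup_left hg⟩ = σ₁ ⟨g, hg⟩) ∧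
      ∀ g (hg : g ∈ K₂), Ψ ⟨g, Subgroup.mem_sup_right hg⟩ = σ₂ ⟨g, hg⟩) : Inj (graph σ₁ ⊔ graph σ₂) := by
  obtain ⟨Ψ, h1, h2⟩ := h
  have hle : graph σ₁ ⊔ graph σ₂ ≤ graph Ψ := by
    refine sup_le (fun g hg => ?_) (fun g hg => ?_)
    · obtain ⟨hm, he⟩ := (mem_graph _).1 hg
      exact (mem_graph _).2 ⟨Subgroup.mem_sup_left hm, (h1 _ hm).trans he⟩
    · obtain ⟨hm, he⟩ := (mem_graph _).1 hg
      exact (mem_graph _).2 ⟨Subgroup.mem_sup_right hm, (h2 _ hm).trans he⟩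
  intro g hg hg2
  obtain ⟨hm, he⟩ := (mem_graph _).1 (hle hg)
  refine Prod.ext ?_ hg2
  rw [← he, show (⟨g.2, hm⟩ : ↥(K₁ ⊔ K₂)) = 1 from Subtype.ext hg2, map_one]
  rfl

theorem mem_closure_InS {j : Fin n} {A : symplecticGroup (Fin n) F}
    (h : A ∈ Subgroup.closure {A | InS j A}) : InS j A := by
  induction h using Subgroup.closure_induction with
  | mem x hx => exact hx
  | one => exact fun k _ => ⟨one_smul _ _, one_smul _ _⟩
  | mul x y _ _ hx hy =>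
    exact fun k hk => ⟨by rw [mul_smul, (hy k hk).1, (hx k hk).1], by rw [mul_smul, (hy k hk).2, (hx k hk).2]⟩
  | inv x _ hx => exact fun k hk => ⟨inv_smul_eq_iff.2 (hx k hk).1.symm, inv_smul_eq_iff.2 (hx k hk).2.symm⟩

theorem mem_closure_InM {i : Fin n} {A : symplecticGroup (Fin n) F}
    (h : A ∈ Subgroup.closure {A | InM i A}) : InM i A := by
  induction h using Subgroup.closure_induction with
  | mem x hx => exact hx
  | one => exact ⟨fun k => one_smul _ _, fun k _ _ => one_smul _ _⟩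
  | mul x y _ _ hx hy =>
    exact ⟨fun k => by rw [mul_smul, hy.1 k, hx.1 k], fun k h1 h2 => by rw [mul_smul, hy.2 k h1 h2, hx.2 k h1 h2]⟩
  | inv x _ hx => exact ⟨fun k => inv_smul_eq_iff.2 (hx.1 k).symm, fun k h1 h2 => inv_smul_eq_iff.2 (hx.2 k h1 h2).symm⟩

theorem existsUnique_hom (hF : ∃ a : F, a ≠ 0 ∧ a ≠ 1) (hn : 2 ≤ n)
    (S M : Fin n → Subgroup (symplecticGroup (Fin n) F))
    (hS : ∀ j, S j = Subgroup.closure {A | InS j A})
    (hM : ∀ i : Fin n, (i : ℕ) + 1 < n → M i = Subgroup.closure {A | InM i A})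
    (σ : ∀ j : Fin n, ↥(S j) →* H) (μ : ∀ i : Fin n, ↥(M i) →* H)
    (hSS : ∀ j l : Fin n, j ≠ l → Inj (graph (σ j) ⊔ graph (σ l)))
    (hMM : ∀ i i' : Fin n, i ≠ i' → (i : ℕ) + 1 < n → (i' : ℕ) + 1 < n → Inj (graph (μ i) ⊔ graph (μ i')))
    (hMS : ∀ i j : Fin n, (i : ℕ) + 1 < n → Inj (graph (μ i) ⊔ graph (σ j))) :
    ∃! Φ : ↥(symplecticGroup (Fin n) F) →* H,
      (∀ (j : Fin n) (g : ↥(symplecticGroup (Fin n) F)) (hg : g ∈ S j), Φ g = σ j ⟨g, hg⟩) ∧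
        (∀ (i : Fin n), (i : ℕ) + 1 < n → ∀ (g : ↥(symplecticGroup (Fin n) F)) (hg : g ∈ M i), Φ g = μ i ⟨g, hg⟩) := by
  let D : Data F n H :=
    { GS := fun j => graph (σ j)
      GM := fun i => graph (μ i)
      field := hF
      snd_GS := fun j g hg => by
        obtain ⟨h, -⟩ := (mem_graph _).1 hg
        exact mem_closure_InS (hS j ▸ h)
      surj_GS := fun j A hA => ⟨(σ j ⟨A, hS j ▸ Subgroup.subset_closure hA⟩, A), (mem_graph _).2 ⟨_, rfl⟩, rfl⟩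
      snd_GM := fun i hi g hg => by
        obtain ⟨h, -⟩ := (mem_graph _).1 hg
        exact mem_closure_InM (hM i hi ▸ h)
      surj_GM := fun i hi A hA =>
        ⟨(μ i ⟨A, hM i hi ▸ Subgroup.subset_closure hA⟩, A), (mem_graph _).2 ⟨_, rfl⟩, rfl⟩
      injSS := hSS
      injMM := hMM
      injMS := hMS }
  have hgood : D.Good 0 := good_all D hn (n - 1) ⟨0, by omega⟩ (by simp; omega)
  let π : ↥(D.L 0) →* symplecticGroup (Fin n) F := (MonoidHom.snd H _).comp (D.L 0).subtype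
  have hbij : Function.Bijective π := by
    refine ⟨(injective_iff_map_eq_one _).2 fun g hg => Subtype.ext (hgood.inj g.1 g.2 hg), fun A => ?_⟩
    obtain ⟨g, hg, rfl⟩ := hgood.surj A fun l hl => absurd hl (Nat.not_lt_zero _)
    exact ⟨⟨g, hg⟩, rfl⟩
  let Φ : symplecticGroup (Fin n) F →* H :=
    ((MonoidHom.fst H _).comp (D.L 0).subtype).comp (MulEquiv.ofBijective π hbij).symm.toMonoidHom
  have hΦ : ∀ g ∈ D.L 0, Φ g.2 = g.1 := fun g hg => by
    have : (MulEquiv.ofBijective π hbij).symm g.2 = ⟨g, hg⟩ := by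
      rw [MulEquiv.symm_apply_eq]; rfl
    show (MonoidHom.fst H _) ((D.L 0).subtype ((MulEquiv.ofBijective π hbij).symm g.2)) = g.1
    rw [this]; rfl
  refine ⟨Φ, ⟨fun j g hg => ?_, fun i hi g hg => ?_⟩, fun Φ' hΦ' => ?_⟩
  · exact hΦ (σ j ⟨g, hg⟩, g) (GS_le_L D (Nat.zero_le _) ((mem_graph _).2 ⟨hg, rfl⟩))
  · exact hΦ (μ i ⟨g, hg⟩, g) (GM_le_L D (Nat.zero_le _) hi ((mem_graph _).2 ⟨hg, rfl⟩))
  · have key : ∀ g ∈ D.L 0, Φ' g.2 = g.1 := fun g hg => by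
      induction hg using Subgroup.closure_induction with
      | mem x hx =>
        rcases hx with ⟨j, -, hx⟩ | ⟨i, -, hi, hx⟩
        · obtain ⟨h, h'⟩ := (mem_graph _).1 hx
          exact (hΦ'.1 j x.2 h).trans h'
        · obtain ⟨h, h'⟩ := (mem_graph _).1 hx
          exact (hΦ'.2 i hi x.2 h).trans h'
      | one => exact map_one Φ'
      | mul x y _ _ hx hy => rw [Prod.snd_mul, map_mul, hx, hy, Prod.fst_mul]
      | inv x _ hx => rw [Prod.snd_inv, map_inv, hx, Prod.fst_inv]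
    refine MonoidHom.ext fun A => ?_
    obtain ⟨g, hg, rfl⟩ := hgood.surj A fun l hl => absurd hl (Nat.not_lt_zero _)
    rw [key g hg, hΦ g hg]

end Cfsg.Agent.SympAmalgamMain
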