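import Mathlib
import Cfsg.Agent.Lib.TransvectionMax

/-!
Self-adjoint and skew matrices of the symplectic form in dimension four, and the group generated by the
self-adjoint involutions of trace zero.
-/

set_option autoImplicit false
set_option linter.unusedSectionVars false

namespace Cfsg.Agent.SympCliff83

open Cfsg.Agent.TransvectionMax
open scoped Matrix MatrixGroups

variable {F : Type*} [Field F]

/-- The four-dimensional matrices. -/
abbrev Mat (F : Type*) : Type _ := Matrix (Fin 2 ⊕ Fin 2) (Fin 2 ⊕ Fin 2) F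

/-- Self-adjoint. -/
def SA (X : Mat F) : Prop := ∀ u v, Cfsg.sympForm 2 F (X *ᵥ u) v = Cfsg.sympForm 2 F u (X *ᵥ v)

/-- Skew-adjoint. -/
def SK (X : Mat F) : Prop := ∀ u v, Cfsg.sympForm 2 F (X *ᵥ u) v = -Cfsg.sympForm 2 F u (X *ᵥ v)

theorem form_apply (u v : Fin 2 ⊕ Fin 2 → F) : Cfsg.sympForm 2 F u v =
    u (.inr 0) * v (.inl 0) + u (.inr 1) * v (.inl 1) - u (.inl 0) * v (.inr 0) - u (.inl 1) * v (.inr 1) := by
  simp [Cfsg.sympForm, dotProduct, Matrix.mulVec, Matrix.J, Fintype.sum_sum_type, Fin.sum_univ_two]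
  ring

/-- The five free entries of a self-adjoint matrix of trace zero. -/
def five : Mat F →ₗ[F] (Fin 5 → F) where
  toFun X := ![X (.inl 0) (.inl 0), X (.inl 0) (.inl 1), X (.inl 1) (.inl 0), X (.inl 0) (.inr 1), X (.inr 0) (.inl 1)]
  map_add' X Y := by funext i; fin_cases i <;> rfl
  map_smul' c X := by funext i; fin_cases i <;> rfl

/-- The ten free entries of a skew-adjoint matrix. -/
def ten : Mat F →ₗ[F] (Fin 10 → F) where
  toFun X := ![X (.inl 0) (.inl 0), X (.inl 0) (.inl 1), X (.inl 1) (.inl 0), X (.inl 1) (.inl 1),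
    X (.inl 0) (.inr 0), X (.inl 0) (.inr 1), X (.inl 1) (.inr 1),
    X (.inr 0) (.inl 0), X (.inr 0) (.inl 1), X (.inr 1) (.inl 1)]
  map_add' X Y := by funext i; fin_cases i <;> rfl
  map_smul' c X := by funext i; fin_cases i <;> rfl

theorem entries {X : Mat F} {ε : F} (h : ∀ u v, Cfsg.sympForm 2 F (X *ᵥ u) v = ε * Cfsg.sympForm 2 F u (X *ᵥ v))
    (i j : Fin 2) :
    X (.inr i) (.inr j) = ε * X (.inl j) (.inl i) ∧ X (.inl j) (.inr i) = -(ε * X (.inl i) (.inr j)) ∧
      X (.inr j) (.inl i) = -(ε * X (.inr i) (.inl j)) := by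
  refine ⟨?_, ?_, ?_⟩
  · have := h (Pi.single (.inr j) 1) (Pi.single (.inl i) 1)
    fin_cases i <;> fin_cases j <;> simp [form_apply, Matrix.mulVec_single] at this ⊢ <;> linear_combination this
  · have := h (Pi.single (.inr i) 1) (Pi.single (.inr j) 1)
    fin_cases i <;> fin_cases j <;> simp [form_apply, Matrix.mulVec_single] at this ⊢ <;> linear_combination -this
  · have := h (Pi.single (.inl i) 1) (Pi.single (.inl j) 1)
    fin_cases i <;> fin_cases j <;> simp [form_apply, Matrix.mulVec_single] at this ⊢ <;> linear_combination this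

theorem eq_zero_of_five (h2 : (2 : F) ≠ 0) {X : Mat F} (hs : SA X) (ht : X.trace = 0) (h : five X = 0) : X = 0 := by
  have e := entries (X := X) (ε := 1) (fun u v => by rw [one_mul]; exact hs u v)
  have h0 : X (.inl 0) (.inl 0) = 0 := congrFun h 0
  have h1 : X (.inl 0) (.inl 1) = 0 := congrFun h 1
  have h3 : X (.inl 1) (.inl 0) = 0 := congrFun h 2
  have h4 : X (.inl 0) (.inr 1) = 0 := congrFun h 3
  have h5 : X (.inr 0) (.inl 1) = 0 := congrFun h 4
  have self : ∀ {a : F}, a = -(1 * a) → a = 0 := fun {a} ha =>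
    (mul_eq_zero.1 (show 2 * a = 0 by linear_combination ha)).resolve_left h2
  have h11 : X (.inl 1) (.inl 1) = 0 := by
    simp [Matrix.trace, Fintype.sum_sum_type, Fin.sum_univ_two, (e 0 0).1, (e 1 1).1, h0] at ht
    exact (mul_eq_zero.1 (show 2 * X (.inl 1) (.inl 1) = 0 by linear_combination ht)).resolve_left h2
  ext a b
  rcases a with a | a <;> rcases b with b | b <;> fin_cases a <;> fin_cases b <;>
    simp [h0, h1, h3, h11, h4, h5, (e 0 0).1, (e 0 1).1, (e 1 0).1, (e 1 1).1, self (e 0 0).2.1, self (e 1 1).2.1,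
      self (e 0 0).2.2, self (e 1 1).2.2, (e 0 1).2.1, (e 0 1).2.2]

theorem eq_zero_of_ten {X : Mat F} (hs : SK X) (h : ten X = 0) : X = 0 := by
  have e := entries (X := X) (ε := -1) (fun u v => by rw [neg_one_mul]; exact hs u v)
  have h0 : X (.inl 0) (.inl 0) = 0 := congrFun h 0
  have h1 : X (.inl 0) (.inl 1) = 0 := congrFun h 1
  have h2 : X (.inl 1) (.inl 0) = 0 := congrFun h 2
  have h3 : X (.inl 1) (.inl 1) = 0 := congrFun h 3
  have h4 : X (.inl 0) (.inr 0) = 0 := congrFun h 4
  have h5 : X (.inl 0) (.inr 1) = 0 := congrFun h 5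
  have h6 : X (.inl 1) (.inr 1) = 0 := congrFun h 6
  have h7 : X (.inr 0) (.inl 0) = 0 := congrFun h 7
  have h8 : X (.inr 0) (.inl 1) = 0 := congrFun h 8
  have h9 : X (.inr 1) (.inl 1) = 0 := congrFun h 9
  ext a b
  rcases a with a | a <;> rcases b with b | b <;> fin_cases a <;> fin_cases b <;>
    simp [h0, h1, h2, h3, h4, h5, h6, h7, h8, h9, (e 0 0).1, (e 0 1).1, (e 1 0).1, (e 1 1).1,
      (e 0 1).2.1, (e 0 1).2.2]

theorem card_le_of {κ : Type*} [Fintype κ] {m : ℕ} {v : κ → Mat F} (hv : LinearIndependent F v) {P : Mat F → Prop}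
    (h0 : P 0) (hadd : ∀ X Y, P X → P Y → P (X + Y)) (hsmul : ∀ (c : F) X, P X → P (c • X))
    (hP : ∀ k, P (v k)) {φ : Mat F →ₗ[F] (Fin m → F)} (hφ : ∀ X, P X → φ X = 0 → X = 0) : Fintype.card κ ≤ m := by
  have hli : LinearIndependent F fun k => φ (v k) := by
    rw [Fintype.linearIndependent_iff] at hv ⊢
    intro g hg
    refine hv g (hφ _ ?_ (by simpa [map_sum, map_smul] using hg))
    exact Finset.sum_induction _ P hadd h0 fun k _ => hsmul _ _ (hP k)
  have := hli.fintype_card_le_finrank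
  rwa [Module.finrank_fin_fun] at this

theorem sa_add {X Y : Mat F} (hX : SA X) (hY : SA Y) : SA (X + Y) := fun u v => by
  have hf := (sympForm_isSymplecticForm (F := F) 2).bilinear
  rw [Matrix.add_mulVec, Matrix.add_mulVec, hf.add_left, hf.add_right, hX u v, hY u v]

theorem sa_smul (c : F) {X : Mat F} (hX : SA X) : SA (c • X) := fun u v => by
  have hf := (sympForm_isSymplecticForm (F := F) 2).bilinear
  rw [Matrix.smul_mulVec, Matrix.smul_mulVec, hf.smul_left, hf.smul_right, hX u v]

theorem sa_zero : SA (0 : Mat F) := fun u v => by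
  simp [zero_left (sympForm_isSymplecticForm (F := F) 2).bilinear, zero_right (sympForm_isSymplecticForm (F := F) 2).bilinear]

theorem sk_add {X Y : Mat F} (hX : SK X) (hY : SK Y) : SK (X + Y) := fun u v => by
  have hf := (sympForm_isSymplecticForm (F := F) 2).bilinear
  rw [Matrix.add_mulVec, Matrix.add_mulVec, hf.add_left, hf.add_right, hX u v, hY u v]
  ring

theorem sk_smul (c : F) {X : Mat F} (hX : SK X) : SK (c • X) := fun u v => by
  have hf := (sympForm_isSymplecticForm (F := F) 2).bilinear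
  rw [Matrix.smul_mulVec, Matrix.smul_mulVec, hf.smul_left, hf.smul_right, hX u v, mul_neg]

theorem sk_zero : SK (0 : Mat F) := fun u v => by
  simp [zero_left (sympForm_isSymplecticForm (F := F) 2).bilinear, zero_right (sympForm_isSymplecticForm (F := F) 2).bilinear]

/-- A self-adjoint involution with trace zero in an explicit family. -/
def ym (a b d c : F) : Mat F := Matrix.fromBlocks !![a, b; d, -a] !![0, c; -c, 0] 0 !![a, d; b, -a]

theorem ym_sa (a b d c : F) : SA (ym a b d c) := fun u v => by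
  simp [ym, form_apply, Matrix.mulVec, dotProduct, Fintype.sum_sum_type, Fin.sum_univ_two]
  ring

theorem ym_trace (a b d c : F) : (ym a b d c).trace = 0 := by
  simp [ym, Matrix.trace, Fintype.sum_sum_type, Fin.sum_univ_two]

theorem ym_sq {a b d : F} (h : a * a + b * d = 1) (c : F) : ym a b d c * ym a b d c = 1 := by
  ext i j
  rcases i with i | i <;> rcases j with j | j <;> fin_cases i <;> fin_cases j <;>
    simp [ym, Matrix.mul_apply, Fintype.sum_sum_type, Fin.sum_univ_two] <;>
    first | linear_combination h | ring1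

/-- The involution as an invertible matrix. -/
def yg {a b d : F} (h : a * a + b * d = 1) (c : F) : GL (Fin 2 ⊕ Fin 2) F :=
  ⟨ym a b d c, ym a b d c, ym_sq h c, ym_sq h c⟩

/-- The transvection of the first coordinate vector as a product of six involutions. -/
theorem transvection_eq (h2 : (2 : F) ≠ 0) (c : F) (h1 : (0 : F) * 0 + 1 * 1 = 1) (h3 : (1 : F) * 1 + 0 * 1 = 1)
    (h4 : (-1 : F) * -1 + 0 * 1 = 1) :
    yg h1 0 * yg h1 (-c) * (yg h3 0 * yg h3 (c / 2)) * (yg h4 0 * yg h4 (c / 2)) =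
      st (Cfsg.sympForm 2 F) (Pi.single (.inl 0) 1) c := by
  refine gl_ext fun x => ?_
  rw [st_act (sympForm_isSymplecticForm 2), mul_act, mul_act, mul_act, mul_act, mul_act]
  funext i
  rcases i with i | i <;> fin_cases i <;>
    simp [yg, ym, form_apply, Matrix.mulVec, dotProduct, Fintype.sum_sum_type, Fin.sum_univ_two] <;>
    field_simp <;> ring

/-- A group containing every self-adjoint involution of trace zero contains the symplectic group. -/
theorem spGL_le_of_invol (h2 : (2 : F) ≠ 0) {M : Subgroup (GL (Fin 2 ⊕ Fin 2) F)}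
    (hM : ∀ g : GL (Fin 2 ⊕ Fin 2) F, SA (g : Mat F) → g * g = 1 → (g : Mat F).trace = 0 → g ∈ M) :
    Cfsg.spGL 2 F ≤ M := by
  have hf := sympForm_isSymplecticForm (F := F) 2
  let T : (Fin 2 ⊕ Fin 2 → F) → Prop := fun u =>
    ∀ h ∈ Cfsg.spGL 2 F, ∀ c, h * st (Cfsg.sympForm 2 F) u c * h⁻¹ ∈ M
  have he : T (Pi.single (.inl 0) 1) := by
    intro h hh c
    rw [← transvection_eq h2 c (by norm_num) (by norm_num) (by norm_num)]
    have hh' : ∀ x y, Cfsg.sympForm 2 F ((h : Mat F) *ᵥ x) ((h : Mat F) *ᵥ y) = Cfsg.sympForm 2 F x y := hh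
    have one : ∀ {a b d : F} (e : a * a + b * d = 1) (c : F), h * yg e c * h⁻¹ ∈ M := fun {a b d} e c => by
      refine hM _ (fun u v => ?_) ?_ ?_
      · rw [Units.val_mul, Units.val_mul, ← Matrix.mulVec_mulVec, ← Matrix.mulVec_mulVec, ← Matrix.mulVec_mulVec,
          ← Matrix.mulVec_mulVec]
        conv_lhs => arg 4; rw [← act_inv_act h v]
        conv_rhs => arg 3; rw [← act_inv_act h u]
        rw [hh', hh']
        exact ym_sa a b d c _ _
      · rw [conj_mul, show yg e c * yg e c = 1 from Units.ext (ym_sq e c), mul_one, mul_inv_cancel]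
      · rw [Units.val_mul, Units.val_mul, Matrix.trace_units_conj]
        exact ym_trace a b d c
    simp only [← conj_mul]
    exact M.mul_mem (M.mul_mem (M.mul_mem (one _ _) (one _ _)) (M.mul_mem (one _ _) (one _ _)))
      (M.mul_mem (one _ _) (one _ _))
  have move : ∀ {u v}, T u → Cfsg.sympForm 2 F u v ≠ 0 → T v := fun {u v} hu huv h hh c => by
    obtain ⟨g, hg, hgu⟩ : ∃ g ∈ Cfsg.spGL 2 F, (g : Mat F) *ᵥ u = v := ⟨_, st_mem_spGL 2 _ _, st_move hf huv⟩
    rw [← hgu, ← st_conj hf (h := g) hg u c,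
      show h * (g * st (Cfsg.sympForm 2 F) u c * g⁻¹) * h⁻¹ = (h * g) * st (Cfsg.sympForm 2 F) u c * (h * g)⁻¹ by group]
    exact hu _ (mul_mem hh hg) c
  refine spGL_le 2 fun u c => ?_
  by_cases hu : u = 0
  · subst hu
    have : st (Cfsg.sympForm 2 F) (0 : Fin 2 ⊕ Fin 2 → F) c = 1 := gl_ext fun x => by
      rw [st_act hf, smul_zero, add_zero, one_act]
    rw [this]
    exact M.one_mem
  obtain ⟨z, hz1, hz2⟩ := exists_common hf hu (v := Pi.single (.inl 0) 1) (by simp)
  have hz : T z := move he (by rw [hf.skew]; exact neg_ne_zero.2 hz2)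
  simpa using move hz hz1 1 (one_mem _) c

end Cfsg.Agent.SympCliff83
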