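import Mathlib
import Cfsg.Agent.Lib.SymplecticBasic
import Cfsg.Agent.Lib.SymplecticAlt
import Cfsg.Agent.Lib.PrimeOrderModule84
import Cfsg.Agent.Lib.DecompPerm84
import Cfsg.Agent.Lib.SympPrimeElements

/-!
Orthogonal decompositions of a symplectic space invariant under an element of odd prime order.
-/

set_option autoImplicit false
set_option linter.unusedSectionVars false

namespace Cfsg.Agent.SympDecompPeel92

open Module Polynomial Cfsg.Agent.SymplecticBasic

variable {F : Type*} [Field F] {d : ℕ}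

local notation "sV" => (Fin d ⊕ Fin d → F)

/-- The form, bilinear. -/
def bil : sV →ₗ[F] sV →ₗ[F] F :=
  LinearMap.mk₂ F (fun u v => sympForm d F u v) form_add_left (fun c u v => by simp [form_smul_left])
    form_add_right (fun c u v => by simp [form_smul_right])

theorem bil_apply (u v : Fin d ⊕ Fin d → F) : bil u v = sympForm d F u v := rfl

/-- The orthogonal complement. -/
def perp (W : Submodule F (Fin d ⊕ Fin d → F)) : Submodule F (Fin d ⊕ Fin d → F) where
  carrier := {v | ∀ w ∈ W, sympForm d F v w = 0}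
  zero_mem' := fun w _ => by simp [sympForm]
  add_mem' := fun hx hy w hw => by rw [form_add_left, hx w hw, hy w hw, add_zero]
  smul_mem' := fun c x hx w hw => by rw [form_smul_left, hx w hw, mul_zero]

theorem mem_perp {W : Submodule F (Fin d ⊕ Fin d → F)} {v : Fin d ⊕ Fin d → F} :
    v ∈ perp W ↔ ∀ w ∈ W, sympForm d F v w = 0 := Iff.rfl

theorem inf_perp_eq_bot {W : Submodule F (Fin d ⊕ Fin d → F)} (h : NondegOn W) : W ⊓ perp W = ⊥ := by
  rw [Submodule.eq_bot_iff]
  rintro u ⟨hu, hu'⟩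
  by_contra h0
  obtain ⟨z, hz, hne⟩ := h u hu h0
  exact hne (hu' z hz)

theorem nondegOn_of_inf_perp {W : Submodule F (Fin d ⊕ Fin d → F)} (h : W ⊓ perp W = ⊥) : NondegOn W := by
  intro u hu hu0
  by_contra hz
  push Not at hz
  exact hu0 ((Submodule.eq_bot_iff _).1 h u ⟨hu, hz⟩)

theorem sup_perp_eq_top {W : Submodule F (Fin d ⊕ Fin d → F)} (h : NondegOn W) : W ⊔ perp W = ⊤ := by
  let φ : (Fin d ⊕ Fin d → F) →ₗ[F] (W →ₗ[F] F) := (LinearMap.lcomp F F W.subtype).comp bil
  have hker : LinearMap.ker φ = perp W := by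
    ext v
    rw [LinearMap.mem_ker, mem_perp, LinearMap.ext_iff]
    exact ⟨fun h w hw => h ⟨w, hw⟩, fun h w => h w.1 w.2⟩
  have h1 := φ.finrank_range_add_finrank_ker
  rw [hker] at h1
  have h2 := Submodule.finrank_le (LinearMap.range φ)
  rw [Subspace.dual_finrank_eq] at h2
  refine Submodule.eq_top_of_finrank_eq ?_
  have h3 := Submodule.finrank_sup_add_finrank_inf_eq W (perp W)
  rw [inf_perp_eq_bot h, finrank_bot, add_zero] at h3
  have := Submodule.finrank_le (W ⊔ perp W)
  omega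

/-- Splitting off a nondegenerate subspace. -/
theorem split {W P : Submodule F (Fin d ⊕ Fin d → F)} (hPW : P ≤ W) (hP : NondegOn P) (hW : NondegOn W) :
    P ⊔ (W ⊓ perp P) = W ∧ NondegOn (W ⊓ perp P) ∧
      finrank F P + finrank F ↥(W ⊓ perp P) = finrank F W := by
  have hsup : P ⊔ (W ⊓ perp P) = W := by
    rw [inf_comm, ← sup_inf_assoc_of_le (perp P) hPW, sup_perp_eq_top hP, top_inf_eq]
  refine ⟨hsup, fun u hu hu0 => ?_, ?_⟩
  · obtain ⟨z, hz, hne⟩ := hW u hu.1 hu0
    rw [← hsup, Submodule.mem_sup] at hz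
    obtain ⟨a, ha, b, hb, rfl⟩ := hz
    refine ⟨b, hb, ?_⟩
    rwa [form_add_right, hu.2 a ha, zero_add] at hne
  · have h3 := Submodule.finrank_sup_add_finrank_inf_eq P (W ⊓ perp P)
    rw [hsup, show P ⊓ (W ⊓ perp P) = ⊥ from le_bot_iff.1
      ((le_inf inf_le_left (inf_le_right.trans inf_le_right)).trans (inf_perp_eq_bot hP).le),
      finrank_bot, add_zero] at h3
    omega

theorem nondegOn_bot : NondegOn (⊥ : Submodule F (Fin d ⊕ Fin d → F)) :=
  fun u hu h0 => absurd ((Submodule.mem_bot F).1 hu) h0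

theorem nondegOn_sup {P R : Submodule F (Fin d ⊕ Fin d → F)} (hP : NondegOn P) (hR : NondegOn R)
    (h : R ≤ perp P) : NondegOn (P ⊔ R) := by
  refine nondegOn_of_inf_perp ((Submodule.eq_bot_iff _).2 ?_)
  rintro u ⟨hu, hu'⟩
  obtain ⟨a, ha, b, hb, rfl⟩ := Submodule.mem_sup.1 hu
  have hb' : ∀ w ∈ P, sympForm d F b w = 0 := h hb
  have ha0 : a = 0 := (Submodule.eq_bot_iff _).1 (inf_perp_eq_bot hP) a ⟨ha, fun w hw => by
    have := hu' w (Submodule.mem_sup_left hw)
    rwa [form_add_left, hb' w hw, add_zero] at this⟩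
  subst ha0
  rw [zero_add] at hu' ⊢
  exact (Submodule.eq_bot_iff _).1 (inf_perp_eq_bot hR) b ⟨hb, fun w hw => hu' w (Submodule.mem_sup_right hw)⟩

theorem even_finrank {W : Submodule F (Fin d ⊕ Fin d → F)} (hW : NondegOn W) : Even (finrank F W) :=
  SymplecticAlt.even_finrank bil (fun v => form_self v) W fun u hu h => by
    by_contra h0
    obtain ⟨z, hz, hne⟩ := hW u hu h0
    exact hne (h z hz)

variable {g : Module.End F (Fin d ⊕ Fin d → F)} {r : ℕ}

/-- An isometry of order dividing `r`. -/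
structure Iso (r : ℕ) (g : Module.End F (Fin d ⊕ Fin d → F)) : Prop where
  form : ∀ u v, sympForm d F (g u) (g v) = sympForm d F u v
  pow : g ^ r = 1
  hr : (r : F) ≠ 0

/-- The fixed space. -/
abbrev fixedSp (g : Module.End F (Fin d ⊕ Fin d → F)) : Submodule F (Fin d ⊕ Fin d → F) :=
  LinearMap.ker (g - 1)

theorem mem_fixedSp {v : Fin d ⊕ Fin d → F} : v ∈ fixedSp g ↔ g v = v := by
  simp [fixedSp, sub_eq_zero]

theorem Iso.injective (hi : Iso r g) : Function.Injective g := by
  intro u v h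
  refine sub_eq_zero.1 (form_nondeg fun w => ?_)
  rw [← hi.form, map_sub, h, sub_self, ← zero_smul F (g v), form_smul_left, zero_mul]

theorem pow_mem {W : Submodule F (Fin d ⊕ Fin d → F)} (hW : ∀ v ∈ W, g v ∈ W) {v : Fin d ⊕ Fin d → F}
    (hv : v ∈ W) : ∀ i : ℕ, (g ^ i) v ∈ W
  | 0 => hv
  | i + 1 => by rw [pow_succ', Module.End.mul_apply]; exact hW _ (pow_mem hW hv i)

theorem Iso.surj (hi : Iso r g) (hr : 0 < r) {W : Submodule F (Fin d ⊕ Fin d → F)}
    (hW : ∀ v ∈ W, g v ∈ W) {v : Fin d ⊕ Fin d → F} (hv : v ∈ W) : ∃ u ∈ W, g u = v :=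
  ⟨(g ^ (r - 1)) v, pow_mem hW hv _, by
    rw [← Module.End.mul_apply, ← pow_succ', Nat.sub_add_cancel hr, hi.pow]; rfl⟩

theorem Iso.inv_perp (hi : Iso r g) (hr : 0 < r) {P : Submodule F (Fin d ⊕ Fin d → F)}
    (hP : ∀ v ∈ P, g v ∈ P) : ∀ v ∈ perp P, g v ∈ perp P := by
  intro v hv w hw
  obtain ⟨u, hu, rfl⟩ := hi.surj hr hP hw
  rw [hi.form]
  exact hv u hu

/-- Fixed vectors split along an invariant orthogonal splitting. -/
theorem Iso.fixed_split (hi : Iso r g) (hr : 0 < r) {W P : Submodule F (Fin d ⊕ Fin d → F)}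
    (hPW : P ≤ W) (hP : NondegOn P) (hW : NondegOn W) (hPg : ∀ v ∈ P, g v ∈ P) :
    finrank F ↥(P ⊓ fixedSp g) + finrank F ↥(W ⊓ perp P ⊓ fixedSp g) = finrank F ↥(W ⊓ fixedSp g) := by
  obtain ⟨hsup, -, -⟩ := split hPW hP hW
  have hinf : P ⊓ fixedSp g ⊓ (W ⊓ perp P ⊓ fixedSp g) = ⊥ := le_bot_iff.1
    ((le_inf (inf_le_left.trans inf_le_left) (inf_le_right.trans (inf_le_left.trans inf_le_right))).trans
      (inf_perp_eq_bot hP).le)
  have hs : (P ⊓ fixedSp g) ⊔ (W ⊓ perp P ⊓ fixedSp g) = W ⊓ fixedSp g := by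
    refine le_antisymm (sup_le (inf_le_inf_right _ hPW) (inf_le_inf_right _ inf_le_left)) fun w hw => ?_
    obtain ⟨a, ha, b, hb, rfl⟩ := Submodule.mem_sup.1 (hsup.ge hw.1)
    have hgw := mem_fixedSp.1 hw.2
    rw [map_add] at hgw
    have hz : g a - a ∈ P ⊓ perp P := ⟨P.sub_mem (hPg a ha) ha, by
      have : g a - a = b - g b := by linear_combination (norm := module) hgw
      rw [this]
      exact Submodule.sub_mem _ hb.2 (hi.inv_perp hr hPg b hb.2)⟩
    rw [inf_perp_eq_bot hP, Submodule.mem_bot, sub_eq_zero] at hz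
    rw [hz, add_left_cancel_iff] at hgw
    exact Submodule.add_mem_sup ⟨ha, mem_fixedSp.2 hz⟩ ⟨hb, mem_fixedSp.2 hgw⟩
  have h := Submodule.finrank_sup_add_finrank_inf_eq (P ⊓ fixedSp g) (W ⊓ perp P ⊓ fixedSp g)
  rw [hinf, hs, finrank_bot, add_zero] at h
  omega

/-- A nondegenerate plane of fixed vectors. -/
theorem Iso.exists_plane (hi : Iso r g) {W : Submodule F (Fin d ⊕ Fin d → F)} (hW : NondegOn W)
    (hWg : ∀ v ∈ W, g v ∈ W) (h : W ⊓ fixedSp g ≠ ⊥) :
    ∃ P ≤ W ⊓ fixedSp g, NondegOn P ∧ finrank F P = 2 := by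
  obtain ⟨u, hu, hu0⟩ := Submodule.exists_mem_ne_zero_of_ne_bot h
  obtain ⟨w, hw, hne⟩ := hW u hu.1 hu0
  set z := ∑ i ∈ Finset.range r, (g ^ i) w with hz
  have hzW : z ∈ W := W.sum_mem fun i _ => pow_mem hWg hw i
  have hzf : z ∈ fixedSp g := by
    rw [hz, ← LinearMap.sum_apply]
    exact DecompPerm84.sum_pow_mem_ker hi.pow w
  have huz : sympForm d F u z ≠ 0 := by
    have key : ∀ i, sympForm d F u ((g ^ i) w) = sympForm d F u w := by
      intro i
      induction i with
      | zero => rfl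
      | succ i ih =>
        rw [pow_succ', Module.End.mul_apply]
        conv_lhs => rw [← mem_fixedSp.1 hu.2]
        rw [hi.form, ih]
    rw [← bil_apply, hz, map_sum, Finset.sum_congr rfl fun i _ => (bil_apply u _).trans (key i),
      Finset.sum_const, Finset.card_range, nsmul_eq_mul]
    exact mul_ne_zero hi.hr hne
  refine ⟨Submodule.span F {u, z}, ?_, ?_, ?_⟩
  · rw [Submodule.span_le]
    rintro x (rfl | rfl)
    · exact hu
    · exact ⟨hzW, hzf⟩
  · intro x hx hx0
    obtain ⟨a, b, rfl⟩ := Submodule.mem_span_pair.1 hx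
    by_cases ha : a = 0
    · refine ⟨u, Submodule.mem_span_pair.2 ⟨1, 0, by simp⟩, ?_⟩
      subst ha
      rw [form_add_left, form_smul_left, form_smul_left, form_swap u z, zero_mul, zero_add]
      have hb : b ≠ 0 := fun hb => hx0 (by simp [hb])
      exact mul_ne_zero hb (neg_ne_zero.2 huz)
    · refine ⟨z, Submodule.mem_span_pair.2 ⟨0, 1, by simp⟩, ?_⟩
      rw [form_add_left, form_smul_left, form_smul_left, form_self, mul_zero, add_zero]
      exact mul_ne_zero ha huz
  · have hli : LinearIndependent F ![u, z] := by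
      rw [LinearIndependent.pair_iff]
      intro s t hst
      have h1 := congrArg (fun y => sympForm d F y z) hst
      have h2 := congrArg (fun y => sympForm d F u y) hst
      simp only [form_add_left, form_add_right, form_smul_left, form_smul_right, form_self, mul_zero,
        zero_add, add_zero] at h1 h2
      have e1 : sympForm d F (0 : Fin d ⊕ Fin d → F) z = 0 := by simp [sympForm]
      have e2 : sympForm d F u (0 : Fin d ⊕ Fin d → F) = 0 := by simp [sympForm]
      rw [e1] at h1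
      rw [e2] at h2
      exact ⟨(mul_eq_zero.1 h1).resolve_right huz, (mul_eq_zero.1 h2).resolve_right huz⟩
    have := finrank_span_eq_card hli
    rwa [Matrix.range_cons, Matrix.range_cons, Matrix.range_empty, Set.union_empty, Set.singleton_union,
      Fintype.card_fin] at this

/-- The cyclic subspace of a vector. -/
noncomputable def cyc (g : Module.End F (Fin d ⊕ Fin d → F)) (v : Fin d ⊕ Fin d → F) :
    Submodule F (Fin d ⊕ Fin d → F) :=
  LinearMap.range ((LinearMap.applyₗ v).comp (aeval g).toLinearMap)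

theorem self_mem_cyc (v : Fin d ⊕ Fin d → F) : v ∈ cyc g v := ⟨1, by simp⟩

theorem cyc_inv (v : Fin d ⊕ Fin d → F) : ∀ w ∈ cyc g v, g w ∈ cyc g v := by
  rintro _ ⟨P, rfl⟩
  exact ⟨X * P, by simp⟩

theorem cyc_le {T : Submodule F (Fin d ⊕ Fin d → F)} (hT : ∀ w ∈ T, g w ∈ T) {v : Fin d ⊕ Fin d → F}
    (hv : v ∈ T) : cyc g v ≤ T := by
  rintro _ ⟨P, rfl⟩
  exact PrimeOrderModule84.aeval_mem (PrimeOrderModule84.map_le_iff'.2 hT) P hv

theorem aeval_cyc {v : Fin d ⊕ Fin d → F} {h : F[X]} (hv : aeval g h v = 0) :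
    ∀ w ∈ cyc g v, aeval g h w = 0 := by
  rintro _ ⟨P, rfl⟩
  show aeval g h (aeval g P v) = 0
  rw [← Module.End.mul_apply, ← map_mul, mul_comm, map_mul, Module.End.mul_apply, hv, map_zero]

theorem finrank_cyc_le {v : Fin d ⊕ Fin d → F} {h : F[X]} (h0 : h ≠ 0) (hv : aeval g h v = 0) :
    finrank F (cyc g v) ≤ h.natDegree := by
  classical
  have hm : (normalize h).Monic := monic_normalize h0
  have hdeg : (normalize h).natDegree = h.natDegree :=
    natDegree_eq_of_degree_eq (degree_eq_degree_of_associated (normalize_associated h))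
  have hv' : aeval g (normalize h) v = 0 := by
    obtain ⟨u, hu⟩ := (normalize_associated h).symm
    rw [← hu, mul_comm, map_mul, Module.End.mul_apply, hv, map_zero]
  have hle : cyc g v ≤ (Polynomial.degreeLT F h.natDegree).map
      ((LinearMap.applyₗ v).comp (aeval g).toLinearMap) := by
    rintro _ ⟨P, rfl⟩
    refine ⟨P %ₘ normalize h, ?_, ?_⟩
    · rw [SetLike.mem_coe, Polynomial.mem_degreeLT, ← hdeg, ← degree_eq_natDegree hm.ne_zero]
      exact degree_modByMonic_lt _ hm
    · show aeval g (P %ₘ normalize h) v = aeval g P v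
      conv_rhs => rw [← modByMonic_add_div P (normalize h), map_add, LinearMap.add_apply, mul_comm,
        map_mul, Module.End.mul_apply, hv', map_zero, add_zero]
  haveI : Module.Finite F (Polynomial.degreeLT F h.natDegree) :=
    Module.Finite.equiv (Polynomial.degreeLTEquiv F h.natDegree).symm
  refine (Submodule.finrank_mono hle).trans ((Submodule.finrank_map_le _ _).trans ?_)
  rw [(Polynomial.degreeLTEquiv F h.natDegree).finrank_eq, Module.finrank_fin_fun]

variable [Fintype F] [Fact r.Prime]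

/-- An irreducible piece without fixed points. -/
theorem Iso.exists_irred (hi : Iso r g) {T : Submodule F (Fin d ⊕ Fin d → F)}
    (hT : ∀ v ∈ T, g v ∈ T) (hTr : T ≤ LinearMap.range (g - 1)) (hne : T ≠ ⊥) :
    ∃ M ≤ T, (∀ v ∈ M, g v ∈ M) ∧ finrank F M = orderOf (Fintype.card F : ZMod r) ∧
      ∃ h : F[X], Irreducible h ∧ h ∣ X ^ r - 1 ∧ ∀ v ∈ M, aeval g h v = 0 := by
  obtain ⟨v, hv, hv0⟩ := Submodule.exists_mem_ne_zero_of_ne_bot hne
  have hP : aeval g (X ^ r - 1 : F[X]) = 0 := by simp [hi.pow]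
  have hP0 : (X ^ r - 1 : F[X]) ≠ 0 := (monic_X_pow_sub_C 1 (Fact.out : r.Prime).ne_zero).ne_zero
  obtain ⟨h, w, hh, hd, hwT, hw, hhw⟩ := PrimeOrderModule84.exists_prime_step
    (PrimeOrderModule84.map_le_iff'.2 hT) hP hP0 hv (S := ⊥) (by rwa [Submodule.mem_bot])
  rw [Submodule.mem_bot] at hw hhw
  refine ⟨cyc g w, cyc_le hT hwT, cyc_inv w, le_antisymm ((finrank_cyc_le hh.ne_zero hhw).trans
    (PrimeOrderModule84.natDegree_le_order hi.hr hh hd)) ?_, h, hh, hd, aeval_cyc hhw⟩
  refine Nat.le_of_dvd ?_ (PrimeOrderModule84.dvd_finrank_of_le_range hi.hr hi.pow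
    (PrimeOrderModule84.map_le_iff'.2 (cyc_inv w)) ((cyc_le hT hwT).trans hTr))
  rw [pos_iff_ne_zero, Ne, Submodule.finrank_eq_zero]
  intro e
  exact hw ((Submodule.mem_bot F).1 (e ▸ self_mem_cyc w))

/-- The dimension of a nondegenerate block without fixed points. -/
noncomputable def blockDim (F : Type*) [Fintype F] (r : ℕ) : ℕ :=
  if Even (orderOf (Fintype.card F : ZMod r)) then orderOf (Fintype.card F : ZMod r)
  else 2 * orderOf (Fintype.card F : ZMod r)

theorem aeval_pow_inv (hi : Iso r g) (hr : 0 < r) (h : F[X]) : ∀ u v,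
    sympForm d F (aeval g h u) v = sympForm d F u (aeval (g ^ (r - 1)) h v) := by
  have hadj : ∀ u v, sympForm d F (g u) v = sympForm d F u ((g ^ (r - 1)) v) := fun u v => by
    conv_lhs => rw [show v = g ((g ^ (r - 1)) v) by
      rw [← Module.End.mul_apply, ← pow_succ', Nat.sub_add_cancel hr, hi.pow]; rfl]
    rw [hi.form]
  induction h using Polynomial.induction_on' with
  | add a b ha hb =>
    intro u v
    rw [map_add, map_add, LinearMap.add_apply, LinearMap.add_apply, form_add_left, form_add_right, ha, hb]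
  | monomial n a =>
    induction n with
    | zero => intro u v; simp [Module.algebraMap_end_apply, form_smul_left, form_smul_right]
    | succ n ih =>
      intro u v
      rw [← monomial_mul_X, map_mul, map_mul, aeval_X, aeval_X, Module.End.mul_apply, Module.End.mul_apply,
        ih, hadj]
      congr 1
      rw [← Module.End.mul_apply, ← Module.End.mul_apply]
      congr 1
      rw [aeval_monomial]
      exact (Algebra.commute_algebraMap_right a _).mul_right ((Commute.refl _).pow_right n)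

/-- A nondegenerate block without fixed points. -/
theorem Iso.exists_block (hi : Iso r g) (hr2 : r ≠ 2) {W : Submodule F (Fin d ⊕ Fin d → F)}
    (hW : NondegOn W) (hWg : ∀ v ∈ W, g v ∈ W) (hfix : ¬ W ≤ fixedSp g) :
    ∃ P ≤ W, NondegOn P ∧ (∀ v ∈ P, g v ∈ P) ∧ finrank F P = blockDim F r ∧ P ⊓ fixedSp g = ⊥ := by
  have hrp : r.Prime := Fact.out
  set i := orderOf (Fintype.card F : ZMod r) with hidef
  have hdisj : ∀ {S : Submodule F (Fin d ⊕ Fin d → F)}, S ≤ LinearMap.range (g - 1) → S ⊓ fixedSp g = ⊥ :=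
    fun hS => le_bot_iff.1 ((inf_le_inf_right _ hS).trans
      ((PrimeOrderModule84.disjoint_ker_range hi.hr hi.pow).symm.eq_bot.le))
  have hnofix : ∀ {S : Submodule F (Fin d ⊕ Fin d → F)}, S ≤ LinearMap.range (g - 1) → ∀ v ∈ S, g v = v → v = 0 :=
    fun hS v hv hgv => (Submodule.eq_bot_iff _).1 (hdisj hS) v ⟨hv, mem_fixedSp.2 hgv⟩
  set U0 := W ⊓ LinearMap.range (g - 1) with hU0
  have hU0g : ∀ v ∈ U0, g v ∈ U0 := fun v hv =>
    ⟨hWg v hv.1, PrimeOrderModule84.map_le_iff'.1 (PrimeOrderModule84.range_inv g) v hv.2⟩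
  have hmove : ∀ w ∈ W, g w - w ∈ U0 := fun w hw => ⟨W.sub_mem (hWg w hw) hw, w, by simp⟩
  have hU0ne : U0 ≠ ⊥ := by
    intro e
    refine hfix fun w hw => mem_fixedSp.2 (sub_eq_zero.1 ?_)
    have := hmove w hw
    rwa [e, Submodule.mem_bot] at this
  obtain ⟨M, hMU, hMg, hMd, h, hh, hhd, hhM⟩ := hi.exists_irred hU0g inf_le_right hU0ne
  have hirr : ∀ {M : Submodule F (Fin d ⊕ Fin d → F)}, M ≤ LinearMap.range (g - 1) → finrank F M = i →
      ∀ S ≤ M, (∀ v ∈ S, g v ∈ S) → S = ⊥ ∨ S = M := by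
    intro M hM hd S hS hSg
    by_cases h0 : S = ⊥
    · exact Or.inl h0
    refine Or.inr (Submodule.eq_of_le_of_finrank_le hS ?_)
    rw [hd]
    refine Nat.le_of_dvd ?_ (PrimeOrderModule84.dvd_finrank_of_le_range hi.hr hi.pow
      (PrimeOrderModule84.map_le_iff'.2 hSg) (hS.trans hM))
    rwa [pos_iff_ne_zero, Ne, Submodule.finrank_eq_zero]
  have hperpinf : ∀ {S : Submodule F (Fin d ⊕ Fin d → F)}, (∀ v ∈ S, g v ∈ S) → ∀ {R : Submodule F (Fin d ⊕ Fin d → F)},
      (∀ v ∈ R, g v ∈ R) → ∀ v ∈ R ⊓ perp S, g v ∈ R ⊓ perp S := fun hS R hR v hv =>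
    ⟨hR v hv.1, hi.inv_perp hrp.pos hS v hv.2⟩
  have hMr : M ≤ LinearMap.range (g - 1) := hMU.trans inf_le_right
  -- a nondegenerate irreducible piece
  have single : ∀ {S : Submodule F (Fin d ⊕ Fin d → F)}, S ≤ U0 → (∀ v ∈ S, g v ∈ S) → finrank F S = i →
      NondegOn S → ∃ P ≤ W, NondegOn P ∧ (∀ v ∈ P, g v ∈ P) ∧ finrank F P = blockDim F r ∧ P ⊓ fixedSp g = ⊥ := by
    intro S hS hSg hSd hSn
    refine ⟨S, hS.trans inf_le_left, hSn, hSg, ?_, hdisj (hS.trans inf_le_right)⟩
    have := even_finrank hSn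
    rw [hSd] at this
    rw [hSd, blockDim, if_pos this]
  rcases hirr hMr hMd (M ⊓ perp M) inf_le_left (hperpinf hMg hMg) with h0 | htot
  · exact single hMU hMg hMd (nondegOn_of_inf_perp h0)
  -- totally isotropic: a partner
  have hnot : ¬ U0 ≤ perp M := by
    intro hle
    obtain ⟨v, hv, hv0⟩ := Submodule.exists_mem_ne_zero_of_ne_bot (p := M) (fun e => by
      rw [e, finrank_bot] at hMd
      exact (PrimeOrderModule84.orderOf_card_pos (F := F) hi.hr).ne hMd)
    obtain ⟨v', hv', hvv⟩ : ∃ v' ∈ M, g v' - v' = v := by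
      let D : M →ₗ[F] M := (g - 1).restrict (fun x hx => by
        simpa using M.sub_mem (hMg x hx) hx)
      have hD : Function.Injective D := by
        rw [injective_iff_map_eq_zero]
        intro x hx
        have := congrArg Subtype.val hx
        simp [D, sub_eq_zero] at this
        exact Subtype.ext (hnofix hMr x.1 x.2 this)
      obtain ⟨x, hx⟩ := (LinearMap.injective_iff_surjective.1 hD) ⟨v, hv⟩
      exact ⟨x.1, x.2, by simpa [D] using congrArg Subtype.val hx⟩
    obtain ⟨w, hw, hne⟩ := hW v (hMU hv).1 hv0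
    apply hne
    obtain ⟨w', hw', rfl⟩ := hi.surj hrp.pos hWg hw
    have h1 := hle (hmove w' hw') (g v') (hMg v' hv')
    have h2 := hle (hmove w' hw') v' hv'
    rw [form_sub_left, hi.form] at h1
    rw [form_sub_left] at h2
    rw [form_swap (g w') v, ← hvv, form_sub_right, hi.form]
    linear_combination h2
  obtain ⟨C, hC, hCg, hCsup⟩ : ∃ C ≤ U0, (∀ v ∈ C, g v ∈ C) ∧ ¬ C ≤ perp M ∧
      finrank F C = i := by
    let T := U0 ⊓ perp M
    have hTg : ∀ v ∈ T, g v ∈ T := hperpinf hMg hU0g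
    -- a complement of `T` inside `U0`
    have hres : (g.restrict hU0g) ^ r = (1 : F) • (1 : Module.End F U0) :=
      DecompPerm84.restrict_pow (z := (1 : F)) (by rw [one_smul]; exact hi.pow) hU0g
    obtain ⟨T', hT'⟩ : ∃ T' : Submodule F U0, IsCompl (T.comap U0.subtype) T' ∧
        ∀ v ∈ T', g.restrict hU0g v ∈ T' := by
      obtain ⟨T', h1, h2⟩ := DecompPerm84.exists_invt_compl hi.hr one_ne_zero hres
        (W := T.comap U0.subtype) (by rintro _ ⟨v, hv, rfl⟩; exact hTg v.1 hv)
      exact ⟨T', h1, fun v hv => h2 ⟨v, hv, rfl⟩⟩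
    have hmap : ∀ v ∈ T'.map U0.subtype, g v ∈ T'.map U0.subtype := by
      rintro _ ⟨v, hv, rfl⟩
      exact ⟨_, hT'.2 v hv, rfl⟩
    have hne : T'.map U0.subtype ≠ ⊥ := by
      rw [Ne, (Submodule.map_injective_of_injective U0.injective_subtype).eq_iff' (Submodule.map_bot _)]
      intro e
      have htop := hT'.1.sup_eq_top
      rw [e, sup_bot_eq, Submodule.comap_subtype_eq_top] at htop
      exact hnot (htop.trans inf_le_right)
    obtain ⟨C, hC, hCg, hCd, -⟩ := hi.exists_irred hmap ((Submodule.map_subtype_le _ _).trans inf_le_right) hne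
    refine ⟨C, hC.trans (Submodule.map_subtype_le _ _), hCg, fun hle => ?_, hCd⟩
    have hCbot : C = ⊥ := by
      rw [Submodule.eq_bot_iff]
      intro x hx
      obtain ⟨y, hy, rfl⟩ := hC hx
      have := Submodule.disjoint_def.1 hT'.1.disjoint y ⟨(hC.trans (Submodule.map_subtype_le _ _)) hx, hle hx⟩ hy
      rw [this, map_zero]
    rw [hCbot, finrank_bot] at hCd
    exact (PrimeOrderModule84.orderOf_card_pos (F := F) hi.hr).ne hCd
  obtain ⟨hCnot, hCd⟩ := hCsup
  have hCr : C ≤ LinearMap.range (g - 1) := hC.trans inf_le_right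
  have hCM : C ⊓ perp M = ⊥ := (hirr hCr hCd _ inf_le_left (hperpinf hMg hCg)).resolve_right
    fun e => hCnot (inf_eq_left.1 e)
  have hMC : M ⊓ perp C = ⊥ := (hirr hMr hMd _ inf_le_left (hperpinf hCg hMg)).resolve_right fun e => by
    refine hCnot fun c hc m hm => ?_
    rw [form_swap m c, (inf_eq_left.1 e) hm c hc, neg_zero]
  have hMiso : ∀ u ∈ M, ∀ v ∈ M, sympForm d F u v = 0 := fun u hu v hv => (htot.ge hu).2 v hv
  by_cases hev : Even i
  · rcases hirr hCr hCd (C ⊓ perp C) inf_le_left (hperpinf hCg hCg) with h0 | htot'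
    · exact single hC hCg hCd (nondegOn_of_inf_perp h0)
    have hCiso : ∀ u ∈ C, ∀ v ∈ C, sympForm d F u v = 0 := fun u hu v hv => (htot'.ge hu).2 v hv
    obtain ⟨v, hv, w, hw, hvw⟩ : ∃ v ∈ M, ∃ w ∈ C, sympForm d F (v + w) (g (v + w)) ≠ 0 := by
      by_contra hall
      push Not at hall
      obtain ⟨w, hw, hw0⟩ := Submodule.exists_mem_ne_zero_of_ne_bot (p := C) (fun e => by
        rw [e, finrank_bot] at hCd
        exact (PrimeOrderModule84.orderOf_card_pos (F := F) hi.hr).ne hCd)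
      obtain ⟨u, hu, rfl⟩ := hi.surj hrp.pos hCg hw
      -- `g w = g⁻¹ w`
      have hsq : g (g u) - u = 0 := by
        refine (Submodule.eq_bot_iff _).1 hCM _ ⟨C.sub_mem (hCg _ hw) hu, fun m hm => ?_⟩
        have h1 := hall m hm (g u) hw
        rw [map_add, form_add_left, form_add_right, form_add_right, hMiso m hm _ (hMg m hm),
          hCiso _ hw _ (hCg _ hw), hi.form, zero_add, add_zero] at h1
        rw [form_sub_left, form_swap m (g (g u))]
        linear_combination -1 * h1
      rw [sub_eq_zero] at hsq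
      obtain ⟨k, hk⟩ := hrp.odd_of_ne_two hr2
      have hev2 : ∀ k : ℕ, (g ^ (2 * k)) u = u := by
        intro k
        induction k with
        | zero => rfl
        | succ k ih => rw [show 2 * (k + 1) = 2 + 2 * k by omega, pow_add, Module.End.mul_apply, ih, pow_two,
            Module.End.mul_apply, hsq]
      have hgu : g u = u := by
        have h1 : (g ^ (2 * (k + 1))) u = u := hev2 _
        rw [show 2 * (k + 1) = 1 + r by omega, pow_add, Module.End.mul_apply, hi.pow, pow_one] at h1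
        exact h1
      exact hw0 (hnofix hCr _ hw (by rw [hgu, hgu]))
    have hkill : ∀ c ∈ C, aeval g h c = 0 := by
      intro c hc
      refine (Submodule.eq_bot_iff _).1 hCM _ ⟨PrimeOrderModule84.aeval_mem
        (PrimeOrderModule84.map_le_iff'.2 hCg) h hc, fun m hm => ?_⟩
      obtain ⟨k, hk⟩ := hev
      have hk0 : 0 < k := by
        have := PrimeOrderModule84.orderOf_card_pos (F := F) (r := r) hi.hr
        omega
      obtain ⟨l, hl⟩ := SympPrimeElements.pow_half_eq_neg_one (q := Fintype.card F) hidef hk hk0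
      have e : g ^ (r - 1) = g ^ Fintype.card F ^ k := by
        have h1 : g ^ (Fintype.card F ^ k + 1) = 1 := by rw [hl, pow_mul, hi.pow, one_pow]
        have h2 : g ^ (r - 1) * g = 1 := by rw [← pow_succ, Nat.sub_add_cancel hrp.pos, hi.pow]
        calc g ^ (r - 1) = g ^ (r - 1) * g ^ (Fintype.card F ^ k + 1) := by rw [h1, mul_one]
          _ = _ := by rw [pow_succ', ← mul_assoc, h2, one_mul]
      obtain ⟨n, hn⟩ : ∃ n, Fintype.card F ^ k = n + 1 :=
        ⟨Fintype.card F ^ k - 1, (Nat.succ_pred_eq_of_pos (pow_pos Fintype.card_pos k)).symm⟩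
      rw [aeval_pow_inv hi hrp.pos, e, SympPrimeElements.aeval_pow_card rfl, hn, pow_succ,
        Module.End.mul_apply, hhM m hm, map_zero]
      simp [sympForm]
    have hS : cyc g (v + w) ≤ U0 := cyc_le hU0g (U0.add_mem (hMU hv) (hC hw))
    have hh0 : aeval g h (v + w) = 0 := by rw [map_add, hhM v hv, hkill w hw, add_zero]
    have hSne : cyc g (v + w) ≠ ⊥ := fun e => hvw (by
      have h' := self_mem_cyc (g := g) (v + w)
      rw [e, Submodule.mem_bot] at h'
      rw [h']; simp [sympForm])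
    have hSd : finrank F (cyc g (v + w)) = i := by
      refine le_antisymm ((finrank_cyc_le hh.ne_zero hh0).trans
        (PrimeOrderModule84.natDegree_le_order hi.hr hh hhd)) ?_
      refine Nat.le_of_dvd ?_ (PrimeOrderModule84.dvd_finrank_of_le_range hi.hr hi.pow
        (PrimeOrderModule84.map_le_iff'.2 (cyc_inv _)) (hS.trans inf_le_right))
      rwa [pos_iff_ne_zero, Ne, Submodule.finrank_eq_zero]
    refine single hS (cyc_inv _) hSd (nondegOn_of_inf_perp ?_)
    refine (hirr (hS.trans inf_le_right) hSd _ inf_le_left (hperpinf (cyc_inv _) (cyc_inv _))).resolve_right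
      fun e => hvw ?_
    exact (inf_eq_left.1 e) (self_mem_cyc _) _ (cyc_inv _ _ (self_mem_cyc _))
  · refine ⟨M ⊔ C, sup_le (hMU.trans inf_le_left) (hC.trans inf_le_left), ?_, ?_, ?_,
      hdisj (sup_le hMr hCr)⟩
    · refine nondegOn_of_inf_perp ((Submodule.eq_bot_iff _).2 ?_)
      rintro x ⟨hx, hx'⟩
      obtain ⟨m, hm, c, hc, rfl⟩ := Submodule.mem_sup.1 hx
      have hc0 : c = 0 := (Submodule.eq_bot_iff _).1 hCM c ⟨hc, fun y hy => by
        have := hx' y (Submodule.mem_sup_left hy)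
        rwa [form_add_left, hMiso m hm y hy, zero_add] at this⟩
      subst hc0
      rw [add_zero] at hx' ⊢
      exact (Submodule.eq_bot_iff _).1 hMC m ⟨hm, fun y hy => hx' y (Submodule.mem_sup_right hy)⟩
    · intro x hx
      obtain ⟨m, hm, c, hc, rfl⟩ := Submodule.mem_sup.1 hx
      rw [map_add]
      exact Submodule.add_mem_sup (hMg m hm) (hCg c hc)
    · have h := Submodule.finrank_sup_add_finrank_inf_eq M C
      have hb : M ⊓ C = ⊥ := by
        rw [Submodule.eq_bot_iff]
        rintro x ⟨hx1, hx2⟩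
        exact (Submodule.eq_bot_iff _).1 hCM x ⟨hx2, fun y hy => hMiso x hx1 y hy⟩
      rw [hb, finrank_bot, add_zero, hMd, hCd] at h
      rw [h, blockDim, if_neg hev, two_mul]

theorem blockDim_pos (hr : (r : F) ≠ 0) : 0 < blockDim F r := by
  have := PrimeOrderModule84.orderOf_card_pos (F := F) (r := r) hr
  unfold blockDim
  split <;> omega

theorem Iso.finrank_modEq (hi : Iso r g) (hr2 : r ≠ 2) : ∀ (n : ℕ) (W : Submodule F (Fin d ⊕ Fin d → F)),
    finrank F W = n → NondegOn W → (∀ v ∈ W, g v ∈ W) →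
      n % blockDim F r = finrank F ↥(W ⊓ fixedSp g) % blockDim F r := by
  intro n
  induction n using Nat.strong_induction_on with
  | _ n ih =>
    intro W hn hW hWg
    by_cases hfix : W ≤ fixedSp g
    · rw [inf_eq_left.2 hfix, hn]
    obtain ⟨P, hPW, hPn, hPg, hPd, hPf⟩ := hi.exists_block hr2 hW hWg hfix
    obtain ⟨-, hn', hdim⟩ := split hPW hPn hW
    have hf := hi.fixed_split (Fact.out : r.Prime).pos hPW hPn hW hPg
    rw [hPf, finrank_bot, zero_add] at hf
    have := blockDim_pos (F := F) (r := r) hi.hr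
    rw [← hf, ← ih _ (by omega) _ rfl hn' (fun v hv => ⟨hWg v hv.1,
      hi.inv_perp (Fact.out : r.Prime).pos hPg v hv.2⟩),
      show n = finrank F ↥(W ⊓ perp P) + blockDim F r by omega, Nat.add_mod_right]

section Peel

variable {c : ℕ}

/-- One summand. -/
theorem Iso.exists_sub (hi : Iso r g) (hc : 0 < c) (hce : Even c)
    (hblock : ∀ W : Submodule F (Fin d ⊕ Fin d → F), NondegOn W → (∀ v ∈ W, g v ∈ W) → ¬ W ≤ fixedSp g →
      ∃ P ≤ W, NondegOn P ∧ (∀ v ∈ P, g v ∈ P) ∧ finrank F P = c ∧ P ⊓ fixedSp g = ⊥) :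
    ∀ (a : ℕ), Even a → ∀ W : Submodule F (Fin d ⊕ Fin d → F), NondegOn W → (∀ v ∈ W, g v ∈ W) →
      a ≤ finrank F W → a % c ≤ finrank F ↥(W ⊓ fixedSp g) →
      ∃ R ≤ W, NondegOn R ∧ (∀ v ∈ R, g v ∈ R) ∧ finrank F R = a ∧
        min (finrank F ↥(W ⊓ fixedSp g) - a % c) (finrank F W - a) ≤
          finrank F ↥(W ⊓ perp R ⊓ fixedSp g) := by
  have hrpos : 0 < r := (Fact.out : r.Prime).pos
  intro a
  induction a using Nat.strong_induction_on with
  | _ a ih =>
    intro hae W hW hWg haW hak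
    rcases Nat.eq_zero_or_pos a with rfl | ha
    · refine ⟨⊥, bot_le, nondegOn_bot, fun v hv => by simp_all, finrank_bot F _, ?_⟩
      have : perp (⊥ : Submodule F (Fin d ⊕ Fin d → F)) = ⊤ := eq_top_iff.2 fun v _ w hw => by
        rw [(Submodule.mem_bot F).1 hw]; simp [sympForm]
      rw [this, inf_top_eq, Nat.zero_mod, Nat.sub_zero]
      exact min_le_left _ _
    have step : ∀ (P : Submodule F (Fin d ⊕ Fin d → F)) (e : ℕ), P ≤ W → NondegOn P → (∀ v ∈ P, g v ∈ P) →
        finrank F P = e → 0 < e → Even e → e ≤ a →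
        (a - e) % c + finrank F ↥(P ⊓ fixedSp g) ≤ finrank F ↥(W ⊓ fixedSp g) →
        ∃ R ≤ W, NondegOn R ∧ (∀ v ∈ R, g v ∈ R) ∧ finrank F R = a ∧
          min (finrank F ↥(W ⊓ fixedSp g) - finrank F ↥(P ⊓ fixedSp g) - (a - e) % c) (finrank F W - a) ≤
            finrank F ↥(W ⊓ perp R ⊓ fixedSp g) := by
      intro P e hPW hPn hPg hPd he hee hea hk
      obtain ⟨-, hn', hdim⟩ := split hPW hPn hW
      have hf := hi.fixed_split hrpos hPW hPn hW hPg
      obtain ⟨R, hRW, hRn, hRg, hRd, hmin⟩ := ih (a - e) (by omega) ((Nat.even_sub hea).2 (iff_of_true hae hee)) (W ⊓ perp P) hn'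
        (fun v hv => ⟨hWg v hv.1, hi.inv_perp hrpos hPg v hv.2⟩) (by omega) (by omega)
      have hperp : perp (P ⊔ R) = perp P ⊓ perp R := by
        refine le_antisymm (le_inf (fun v hv w hw => hv w (Submodule.mem_sup_left hw))
          fun v hv w hw => hv w (Submodule.mem_sup_right hw)) ?_
        rintro v ⟨h1, h2⟩ w hw
        obtain ⟨x, hx, y, hy, rfl⟩ := Submodule.mem_sup.1 hw
        rw [form_add_right, h1 x hx, h2 y hy, add_zero]
      refine ⟨P ⊔ R, sup_le hPW (hRW.trans inf_le_left), nondegOn_sup hPn hRn (hRW.trans inf_le_right), ?_, ?_, ?_⟩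
      · intro x hx
        obtain ⟨m, hm, y, hy, rfl⟩ := Submodule.mem_sup.1 hx
        rw [map_add]
        exact Submodule.add_mem_sup (hPg m hm) (hRg y hy)
      · have h := Submodule.finrank_sup_add_finrank_inf_eq P R
        rw [show P ⊓ R = ⊥ from le_bot_iff.1 ((inf_le_inf_left _ (hRW.trans inf_le_right)).trans
          (inf_perp_eq_bot hPn).le), finrank_bot, add_zero] at h
        omega
      · rw [hperp, ← inf_assoc W (perp P)]
        refine le_trans ?_ hmin
        omega
    by_cases hcase : c ≤ a ∧ ¬ W ≤ fixedSp g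
    · obtain ⟨P, hPW, hPn, hPg, hPd, hPf⟩ := hblock W hW hWg hcase.2
      have hmod : (a - c) % c = a % c := (Nat.mod_eq_sub_mod hcase.1).symm
      obtain ⟨R, h1, h2, h3, h4, h5⟩ := step P c hPW hPn hPg hPd hc hce hcase.1
        (by rw [hPf, finrank_bot, add_zero, hmod]; exact hak)
      refine ⟨R, h1, h2, h3, h4, ?_⟩
      rwa [hPf, finrank_bot, hmod, Nat.sub_zero] at h5
    · have hall : a < c ∨ finrank F ↥(W ⊓ fixedSp g) = finrank F W := by
        by_contra hne
        push Not at hne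
        exact hcase ⟨hne.1, fun hle => hne.2 (by rw [inf_eq_left.2 hle])⟩
      have hKne : W ⊓ fixedSp g ≠ ⊥ := fun e => by
        rw [e, finrank_bot] at hall hak
        rcases hall with h | h
        · rw [Nat.mod_eq_of_lt h] at hak; omega
        · omega
      obtain ⟨P, hP, hPn, hPd⟩ := hi.exists_plane hW hWg hKne
      have hPf : P ⊓ fixedSp g = P := inf_eq_left.2 (hP.trans inf_le_right)
      have hPg : ∀ v ∈ P, g v ∈ P := fun v hv => by rw [mem_fixedSp.1 (hP hv).2]; exact hv
      have ha2 : 2 ≤ a := by obtain ⟨k, rfl⟩ := hae; omega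
      have hlt : (a - 2) % c ≤ a - 2 := Nat.mod_le _ _
      have hl : a % c ≤ a := Nat.mod_le _ _
      have hneed : (a - 2) % c + 2 ≤ finrank F ↥(W ⊓ fixedSp g) := by
        rcases hall with h | h
        · rw [Nat.mod_eq_of_lt h] at hak
          omega
        · omega
      obtain ⟨R, h1, h2, h3, h4, h5⟩ := step P 2 (hP.trans inf_le_left) hPn hPg hPd two_pos even_two ha2
        (by rw [hPf, hPd]; exact hneed)
      refine ⟨R, h1, h2, h3, h4, le_trans ?_ h5⟩
      rw [hPf, hPd]
      rcases hall with h | h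
      · rw [Nat.mod_eq_of_lt h, Nat.mod_eq_of_lt (show a - 2 < c by omega)]
        omega
      · omega

/-- The whole decomposition. -/
theorem Iso.peel (hi : Iso r g) (hc : 0 < c) (hce : Even c)
    (hblock : ∀ W : Submodule F (Fin d ⊕ Fin d → F), NondegOn W → (∀ v ∈ W, g v ∈ W) → ¬ W ≤ fixedSp g →
      ∃ P ≤ W, NondegOn P ∧ (∀ v ∈ P, g v ∈ P) ∧ finrank F P = c ∧ P ⊓ fixedSp g = ⊥)
    {a : ℕ} (hae : Even a) : ∀ (s : ℕ) (W : Submodule F (Fin d ⊕ Fin d → F)), NondegOn W →
      (∀ v ∈ W, g v ∈ W) → finrank F W = s * a → s * (a % c) ≤ finrank F ↥(W ⊓ fixedSp g) →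
      ∃ D : Fin s → Submodule F (Fin d ⊕ Fin d → F), (∀ j, D j ≤ W ∧ NondegOn (D j) ∧
        (∀ v ∈ D j, g v ∈ D j) ∧ finrank F (D j) = a) ∧ iSup D = W ∧ ∀ j j', j ≠ j' → D j ≤ perp (D j') := by
  intro s
  induction s with
  | zero =>
    intro W hW hWg hd _
    rw [zero_mul, Submodule.finrank_eq_zero] at hd
    exact ⟨Fin.elim0, fun j => j.elim0, by rw [hd]; simp, fun j => j.elim0⟩
  | succ s ih =>
    intro W hW hWg hd hk
    have hl : a % c ≤ a := Nat.mod_le _ _
    have hsl : s * (a % c) ≤ s * a := Nat.mul_le_mul_left _ hl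
    rw [Nat.succ_mul] at hd hk
    obtain ⟨R, hRW, hRn, hRg, hRd, hmin⟩ := hi.exists_sub hc hce hblock a hae W hW hWg (by omega) (by omega)
    obtain ⟨hsup, hn', hdim⟩ := split hRW hRn hW
    obtain ⟨D, hD, hDs, hDo⟩ := ih (W ⊓ perp R) hn'
      (fun v hv => ⟨hWg v hv.1, hi.inv_perp (Fact.out : r.Prime).pos hRg v hv.2⟩) (by omega) (by omega)
    refine ⟨Fin.cons (α := fun _ => Submodule F (Fin d ⊕ Fin d → F)) R D, fun j => ?_, ?_, fun j j' hne => ?_⟩
    · refine Fin.cases ?_ (fun i => ?_) j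
      · exact ⟨hRW, hRn, hRg, hRd⟩
      · simp only [Fin.cons_succ]
        exact ⟨(hD i).1.trans inf_le_left, (hD i).2⟩
    · refine le_antisymm (iSup_le fun j => ?_) ?_
      · refine Fin.cases ?_ (fun i => ?_) j
        · simpa using hRW
        · simp only [Fin.cons_succ]; exact (hD i).1.trans inf_le_left
      · refine hsup.ge.trans (sup_le (le_iSup_of_le 0 (by simp)) (hDs.ge.trans (iSup_le fun i => ?_)))
        exact le_iSup_of_le i.succ (by simp)
    · induction j using Fin.cases with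
      | zero =>
        induction j' using Fin.cases with
        | zero => exact absurd rfl hne
        | succ i' =>
          simp only [Fin.cons_zero, Fin.cons_succ]
          intro x hx y hy
          rw [form_swap y x, ((hD i').1 hy).2 x hx, neg_zero]
      | succ i =>
        induction j' using Fin.cases with
        | zero => simp only [Fin.cons_zero, Fin.cons_succ]; exact (hD i).1.trans inf_le_right
        | succ i' =>
          simp only [Fin.cons_succ]
          exact hDo i i' fun e => hne (by rw [e])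

end Peel

/-- A moved summand leaves little room for fixed vectors. -/
theorem finrank_fixed_le_of_moved {t a : ℕ} {D : Fin t → Submodule F (Fin d ⊕ Fin d → F)}
    {σ : Equiv.Perm (Fin t)} (hind : iSupIndep D) (htop : iSup D = ⊤) (hdim : ∀ j, finrank F (D j) = a)
    (ha : 0 < a) (hg : g ^ r = 1) (hσ : ∀ j, (D j).map g = D (σ j)) {j : Fin t} (hj : σ j ≠ j) :
    finrank F ↥(fixedSp g) + (r - 1) * a ≤ t * a := by
  classical
  obtain ⟨π, h0, h1, h2, h3⟩ := DecompPerm84.exists_proj hind htop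
  have hne : ∀ j, D j ≠ ⊥ := fun j e => by
    have := hdim j; rw [e, finrank_bot] at this; omega
  have hr1 := DecompPerm84.perm_pow_eq_one hind hne hg hσ
  have hcomm : ∀ k x, π (σ k) (g x) = g (π k x) := by
    intro k x
    conv_lhs => rw [← h3 x, map_sum, map_sum]
    rw [Finset.sum_eq_single k]
    · exact h1 _ _ ((hσ k).le ⟨_, h0 k x, rfl⟩)
    · intro b _ hb
      exact h2 (σ b) (σ k) (fun e => hb (σ.injective e)) _ ((hσ b).le ⟨_, h0 b x, rfl⟩)
    · intro h; exact absurd (Finset.mem_univ k) h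
  let O : Finset (Fin t) := (Finset.Ioo 0 r).image fun i => (σ ^ i) j
  have hO : O.card = r - 1 := by
    rw [Finset.card_image_of_injOn, Nat.card_Ioo, Nat.sub_zero]
    intro x hx y hy e
    simp only [Finset.coe_Ioo, Set.mem_Ioo] at hx hy
    exact DecompPerm84.pow_inj hr1 hj hx.2 hy.2 e
  let Φ : fixedSp g →ₗ[F] ((k : {k // k ∉ O}) → D k) :=
    LinearMap.pi fun k => ((π k).codRestrict (D k) (h0 k)).comp (fixedSp g).subtype
  have hΦ : Function.Injective Φ := by
    rw [injective_iff_map_eq_zero]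
    intro v hv
    have hz : ∀ k, k ∉ O → π k v.1 = 0 := fun k hk =>
      congrArg Subtype.val (congrFun hv ⟨k, hk⟩)
    have hjO : j ∉ O := by
      rw [Finset.mem_image]
      rintro ⟨i, hi, e⟩
      rw [Finset.mem_Ioo] at hi
      exact DecompPerm84.period hr1 hj hi.1 hi.2 e
    have horb : ∀ i, π ((σ ^ i) j) v.1 = 0 := by
      intro i
      induction i with
      | zero => exact hz j hjO
      | succ i ih =>
        rw [pow_succ', Equiv.Perm.mul_apply, ← mem_fixedSp.1 v.2, hcomm, ih, map_zero]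
    apply Subtype.ext
    rw [← h3 v.1]
    refine Finset.sum_eq_zero fun k _ => ?_
    by_cases hk : k ∈ O
    · obtain ⟨i, -, rfl⟩ := Finset.mem_image.1 hk
      exact horb i
    · exact hz k hk
  have h := LinearMap.finrank_le_finrank_of_injective hΦ
  rw [Module.finrank_pi_fintype, Finset.sum_congr rfl (fun k _ => hdim k.1), Finset.sum_const,
    Finset.card_univ, smul_eq_mul, Fintype.card_subtype_compl, Fintype.card_fin, Fintype.card_coe, hO] at h
  have hle : r - 1 ≤ t := by
    have := Finset.card_le_univ O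
    rwa [hO, Fintype.card_fin] at this
  rw [Nat.sub_mul] at h
  have := Nat.mul_le_mul_right a hle
  omega

end Cfsg.Agent.SympDecompPeel92
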