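import Mathlib
import Cfsg.Agent.Lib.SymplecticBasic
import Cfsg.Agent.Lib.SymplecticAlt
import Cfsg.Agent.Lib.SymplecticDecomp
import Cfsg.Agent.Lib.SymplecticSimple

/-!
Conjugacy of the elements with square `±1` of the symplectic group in odd characteristic, and the bound
`m / 2 + 1` on the number of classes of involutions of `PSp`.
-/

set_option autoImplicit false

open Matrix Cfsg.Agent.SymplecticBasic Cfsg.Agent.SymplecticSimple

namespace Cfsg.Agent.SymplecticInvol

variable {F : Type*} [Field F] {m : ℕ}

theorem conj_of_single {a b g : symplecticGroup (Fin m) F}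
    (h : ∀ x, a • g • (Pi.single x 1 : Fin m ⊕ Fin m → F) =
      g • b • (Pi.single x 1 : Fin m ⊕ Fin m → F)) :
    a = g * b * g⁻¹ := by
  have : g⁻¹ * a * g = b := ext_smul_single fun x => by
    rw [mul_smul, mul_smul, h, inv_smul_smul]
  rw [← this]; group

/-- A basis adapted to an element of square `-1`. -/
theorem adapted_basis [Fintype F] (h2 : (2 : F) ≠ 0) (a : symplecticGroup (Fin m) F)
    (ha : ∀ v : Fin m ⊕ Fin m → F, a • a • v = -v) :
    ∀ (n : ℕ) (W : Submodule F (Fin m ⊕ Fin m → F)), Module.finrank F W = n →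
      (∀ v ∈ W, a • v ∈ W) → (∀ u ∈ W, (∀ v ∈ W, sympForm m F u v = 0) → u = 0) →
      ∃ k, n = 2 * k ∧ ∃ e : Fin k ⊕ Fin k → (Fin m ⊕ Fin m → F),
        (∀ s, e s ∈ W) ∧ (∀ i, a • e (Sum.inl i) = e (Sum.inr i)) ∧
        ∀ s t, sympForm m F (e s) (e t) = sympForm k F (Pi.single s 1) (Pi.single t 1) := by
  intro n
  induction n using Nat.strong_induction_on with
  | _ n ih =>
    intro W hn haW hW
    rcases eq_or_ne W ⊥ with rfl | hne
    · rw [finrank_bot] at hn
      exact ⟨0, by omega, fun s => isEmptyElim s, fun s => isEmptyElim s, fun s => isEmptyElim s,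
        fun s => isEmptyElim s⟩
    have hsym : ∀ u v, sympForm m F u (a • v) = sympForm m F v (a • u) := fun u v => by
      rw [← form_map a u (a • v), ha, show -v = (-1 : F) • v by module, form_smul_right,
        form_swap v]
      ring
    obtain ⟨u, hu, hq⟩ : ∃ u ∈ W, sympForm m F u (a • u) ≠ 0 := by
      by_contra h
      push Not at h
      obtain ⟨u, hu, hu0⟩ := Submodule.exists_mem_ne_zero_of_ne_bot hne
      refine hu0 (hW u hu fun v hv => ?_)
      have hav := haW v hv
      have hsum := h (u + a • v) (add_mem hu hav)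
      rw [smul_add, form_add_left, form_add_right, form_add_right, h u hu, h (a • v) hav,
        hsym (a • v) u, ha, show -v = (-1 : F) • v by module, form_smul_right] at hsum
      have : (2 : F) * sympForm m F u v = 0 := by linear_combination -hsum
      exact (mul_eq_zero.mp this).resolve_left h2
    obtain ⟨x, y, hxy⟩ := FiniteField.exists_root_sum_quadratic (f := Polynomial.X ^ 2)
      (g := Polynomial.X ^ 2 + Polynomial.C (sympForm m F u (a • u))⁻¹) (by simp)
      (by rw [Polynomial.degree_X_pow_add_C (by norm_num) _]; rfl)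
      (by
        rcases Nat.even_or_odd (Fintype.card F) with h | h
        · exact absurd (show (2 : F) = 0 by
            have hc := FiniteField.even_card_of_char_two (F := F)
            have := (FiniteField.even_card_iff_char_two (F := F)).mpr (Nat.even_iff.mp h)
            have : CharP F 2 := ringChar.of_eq this
            exact CharTwo.two_eq_zero) h2
        · exact Nat.odd_iff.mp h)
    simp only [Polynomial.eval_add, Polynomial.eval_pow, Polynomial.eval_X, Polynomial.eval_C] at hxy
    set u' := x • u + y • a • u with hu'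
    have hu'W : u' ∈ W := add_mem (W.smul_mem _ hu) (W.smul_mem _ (haW u hu))
    have hau' : a • u' = x • a • u + y • (-u) := by
      rw [hu', smul_add, scalar_smul, scalar_smul, ha]
    have h1 : sympForm m F u' (a • u') = -1 := by
      rw [hau', hu']
      simp only [form_add_left, form_add_right, form_smul_left, form_smul_right, form_self,
        show -u = (-1 : F) • u by module, form_swap u (a • u)]
      field_simp at hxy
      linear_combination hxy
    have h1' : sympForm m F (a • u') u' = 1 := by rw [form_swap u', h1, neg_neg]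
    have haW' : a • u' ∈ W := haW _ hu'W
    let L : W →ₗ[F] F × F := ((formLin u').prod (formLin (a • u'))).comp W.subtype
    have hLs : Function.Surjective L := by
      rintro ⟨c, d⟩
      refine ⟨d • ⟨u', hu'W⟩ - c • ⟨a • u', haW'⟩, ?_⟩
      simp [L, form_sub_right, form_smul_right, h1, h1', form_self]
    let W' : Submodule F (Fin m ⊕ Fin m → F) := (LinearMap.ker L).map W.subtype
    have hW' : ∀ v, v ∈ W' ↔ v ∈ W ∧ sympForm m F u' v = 0 ∧ sympForm m F (a • u') v = 0 := by
      intro v; simp [W', L]; tauto
    have hrank : Module.finrank F W' + 2 = n := by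
      have hr := L.finrank_range_add_finrank_ker
      rw [LinearMap.range_eq_top.mpr hLs, finrank_top, Module.finrank_prod, Module.finrank_self,
        hn] at hr
      rw [show Module.finrank F W' = Module.finrank F (LinearMap.ker L) from
        Submodule.finrank_map_subtype_eq _ _]
      omega
    have haW2 : ∀ v ∈ W', a • v ∈ W' := by
      intro v hv
      obtain ⟨hvW, hv1, hv2⟩ := (hW' v).mp hv
      refine (hW' _).mpr ⟨haW v hvW, ?_, ?_⟩
      · rw [hsym, form_eq_zero_comm]; exact hv2
      · rw [form_map, hv1]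
    have hnd : ∀ v ∈ W', (∀ w ∈ W', sympForm m F v w = 0) → v = 0 := by
      intro v hv h
      obtain ⟨hvW, hv1, hv2⟩ := (hW' v).mp hv
      refine hW v hvW fun w hw => ?_
      have hw' := h (w + sympForm m F u' w • a • u' - sympForm m F (a • u') w • u')
        ((hW' _).mpr ⟨sub_mem (add_mem hw (W.smul_mem _ haW')) (W.smul_mem _ hu'W),
          by rw [form_sub_right, form_add_right, form_smul_right, form_smul_right, h1, form_self]; ring,
          by rw [form_sub_right, form_add_right, form_smul_right, form_smul_right, h1', form_self]; ring⟩)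
      rw [form_sub_right, form_add_right, form_smul_right, form_smul_right,
        form_eq_zero_comm.mp hv1, form_eq_zero_comm.mp hv2] at hw'
      linear_combination hw'
    obtain ⟨k, hk, e, he, hae, hform⟩ := ih _ (by omega) W' rfl haW2 hnd
    refine ⟨k + 1, by omega, Sum.elim (Fin.cons u' fun i => e (Sum.inl i))
      (Fin.cons (a • u') fun i => e (Sum.inr i)), ?_, ?_, ?_⟩
    · rintro (i | i) <;> refine Fin.cases ?_ (fun j => ?_) i
      · simpa using hu'W
      · simpa using ((hW' _).mp (he (Sum.inl j))).1
      · simpa using haW'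
      · simpa using ((hW' _).mp (he (Sum.inr j))).1
    · intro i
      refine Fin.cases ?_ (fun j => ?_) i
      · simp
      · simpa using hae j
    · have g1 : ∀ s, sympForm m F u' (e s) = 0 ∧ sympForm m F (a • u') (e s) = 0 :=
        fun s => ((hW' _).mp (he s)).2
      have g2 : ∀ s, sympForm m F (e s) u' = 0 ∧ sympForm m F (e s) (a • u') = 0 := fun s =>
        ⟨form_eq_zero_comm.mp (g1 s).1, form_eq_zero_comm.mp (g1 s).2⟩
      have hll := fun i j => hform (Sum.inl i) (Sum.inl j)
      have hlr := fun i j => hform (Sum.inl i) (Sum.inr j)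
      have hrl := fun i j => hform (Sum.inr i) (Sum.inl j)
      have hrr := fun i j => hform (Sum.inr i) (Sum.inr j)
      rintro (i | i) (j | j) <;>
        refine Fin.cases ?_ (fun a' => ?_) i <;> refine Fin.cases ?_ (fun b' => ?_) j <;>
        simp [g1, g2, h1, h1', form_self, hll, hlr, hrl, hrr, Pi.single_apply, form_single_inl_right,
          form_single_inr_right, (Fin.succ_ne_zero _).symm]

/-- Any two elements of square `-1` are conjugate to the standard one. -/
theorem conj_symJ [Fintype F] (h2 : (2 : F) ≠ 0) (a : symplecticGroup (Fin m) F)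
    (ha : ∀ v : Fin m ⊕ Fin m → F, a • a • v = -v) : IsConj (SymplecticGroup.symJ (Fin m) F) a := by
  obtain ⟨k, hk, e, -, hae, hform⟩ := adapted_basis h2 a ha _ ⊤ rfl
    (fun _ _ => Submodule.mem_top) (fun u _ h => form_nondeg fun v => h v Submodule.mem_top)
  rw [finrank_top, Module.finrank_pi, Fintype.card_sum, Fintype.card_fin] at hk
  obtain rfl : k = m := by omega
  let A : Matrix (Fin k ⊕ Fin k) (Fin k ⊕ Fin k) F := Matrix.of fun r x => e x r
  have hcol : ∀ x, A *ᵥ Pi.single x 1 = e x := fun x => by funext r; simp [A]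
  have hA : A ∈ symplecticGroup (Fin k) F :=
    SymplecticDecomp.mem_sp_of_single fun s t => by rw [hcol, hcol]; exact hform s t
  rw [isConj_iff]
  refine ⟨⟨A, hA⟩, (conj_of_single (fun x => ?_)).symm⟩
  have hJ : ∀ v : Fin k ⊕ Fin k → F, SymplecticGroup.symJ (Fin k) F • v = J (Fin k) F *ᵥ v :=
    fun _ => rfl
  show a • (A *ᵥ Pi.single x 1) = A *ᵥ (SymplecticGroup.symJ (Fin k) F • Pi.single x 1)
  rw [hJ, hcol]
  rcases x with i | i
  · rw [hae, show J (Fin k) F *ᵥ Pi.single (Sum.inl i) 1 = Pi.single (Sum.inr i) 1 by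
      funext t; rcases t with t | t <;> simp [J, Pi.single_apply, Matrix.one_apply], hcol]
  · rw [← hae, ha, show J (Fin k) F *ᵥ Pi.single (Sum.inr i) 1 = -Pi.single (Sum.inl i) 1 by
      funext t; rcases t with t | t <;> simp [J, Pi.single_apply, Matrix.one_apply], Matrix.mulVec_neg,
      hcol]

/-- The standard involution, `1` on the first `j` pairs and `-1` on the others. -/
def signEl (F : Type*) [Field F] (m j : ℕ) : symplecticGroup (Fin m) F :=
  ⟨Matrix.diagonal (Sum.elim (fun i : Fin m => if (i : ℕ) < j then (1 : F) else -1)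
      (fun i : Fin m => if (i : ℕ) < j then (1 : F) else -1)), by
    refine SymplecticDecomp.mem_sp_of_single fun x y => ?_
    have hcol : ∀ (d : Fin m ⊕ Fin m → F) (z : Fin m ⊕ Fin m),
        Matrix.diagonal d *ᵥ Pi.single z 1 = d z • (Pi.single z 1 : Fin m ⊕ Fin m → F) := by
      intro d z; funext w
      rw [Matrix.mulVec_diagonal]
      by_cases h : w = z <;> simp [h]
    rw [hcol, hcol, form_smul_left, form_smul_right]
    rcases x with i | i <;> rcases y with l | l <;> by_cases hil : i = l <;>
      simp [form_single_inl_right, form_single_inr_right, Pi.single_apply, hil, Ne.symm] <;>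
      (try split) <;> simp_all⟩

theorem conj_signEl (h2 : (2 : F) ≠ 0) (a : symplecticGroup (Fin m) F)
    (ha : ∀ v : Fin m ⊕ Fin m → F, a • a • v = v) : ∃ j ≤ m, IsConj (signEl F m j) a := by
  classical
  let L : (Fin m ⊕ Fin m → F) →ₗ[F] (Fin m ⊕ Fin m → F) :=
    (a : Matrix (Fin m ⊕ Fin m) (Fin m ⊕ Fin m) F).mulVecLin
  let W := LinearMap.ker (L - LinearMap.id)
  have hWmem : ∀ v, v ∈ W ↔ a • v = v := fun v => by simp [W, L, smul_def, sub_eq_zero]
  let Bil : (Fin m ⊕ Fin m → F) →ₗ[F] (Fin m ⊕ Fin m → F) →ₗ[F] F :=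
    LinearMap.mk₂ F (sympForm m F) form_add_left form_smul_left form_add_right form_smul_right
  have hplus : ∀ v, (2 : F)⁻¹ • (v + a • v) ∈ W := fun v => by
    rw [hWmem, scalar_smul, smul_add, ha, add_comm]
  have hWnd : ∀ u ∈ W, (∀ v ∈ W, sympForm m F u v = 0) → u = 0 := by
    intro u hu h
    refine form_nondeg fun v => ?_
    have h0 := h _ (hplus v)
    rw [form_smul_right, form_add_right] at h0
    have h' : sympForm m F u (a • v) = sympForm m F u v := by
      conv_lhs => rw [← (hWmem u).mp hu]
      exact form_map a u v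
    rw [h'] at h0
    rcases mul_eq_zero.mp h0 with e | e
    · exact absurd (inv_eq_zero.mp e) h2
    · exact (mul_eq_zero.mp (show (2 : F) * sympForm m F u v = 0 by linear_combination e)).resolve_left h2
  obtain ⟨j, hj⟩ := SymplecticAlt.even_finrank Bil (fun v => form_self v) W hWnd
  have hjm : j ≤ m := by
    have h := Submodule.finrank_le W
    rw [hj, Module.finrank_pi, Fintype.card_sum, Fintype.card_fin] at h
    omega
  refine ⟨j, hjm, ?_⟩
  obtain ⟨l, rfl⟩ := Nat.exists_eq_add_of_le hjm
  obtain ⟨g, hg⟩ := SymplecticDecomp.exists_map_head W (by omega) hWnd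
  have hidx : ∀ s : Fin j ⊕ Fin j, ∀ v : Fin (j + l) ⊕ Fin (j + l) → F, (signEl F (j + l) j • v)
      (SymplecticDecomp.splitIdx j l (Sum.inl s)) = v (SymplecticDecomp.splitIdx j l (Sum.inl s)) := by
    intro s v
    rcases s with i | i <;>
      simp [signEl, smul_def, Matrix.mulVec_diagonal, SymplecticDecomp.splitIdx, Equiv.sumSumSumComm]
  have hidx2 : ∀ s : Fin l ⊕ Fin l, ∀ v : Fin (j + l) ⊕ Fin (j + l) → F, (signEl F (j + l) j • v)
      (SymplecticDecomp.splitIdx j l (Sum.inr s)) = - v (SymplecticDecomp.splitIdx j l (Sum.inr s)) := by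
    intro s v
    rcases s with i | i <;>
      simp [signEl, smul_def, Matrix.mulVec_diagonal, SymplecticDecomp.splitIdx, Equiv.sumSumSumComm]
  rw [isConj_iff]
  refine ⟨g, (conj_of_single fun x => ?_).symm⟩
  obtain ⟨x, rfl⟩ := (SymplecticDecomp.splitIdx j l).surjective x
  set ex : Fin (j + l) ⊕ Fin (j + l) → F := Pi.single (SymplecticDecomp.splitIdx j l x) 1 with hex
  rcases x with s | s
  · have hhead : ex ∈ SymplecticDecomp.headSpace F j l := fun t => by simp [hex]
    rw [(hWmem _).mp ((hg ex).mpr hhead)]
    congr 1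
    funext t
    obtain ⟨t, rfl⟩ := (SymplecticDecomp.splitIdx j l).surjective t
    rcases t with t | t
    · rw [hidx]
    · rw [hidx2, hhead t, neg_zero]
  · have hsgn : signEl F (j + l) j • ex = -ex := by
      funext t
      obtain ⟨t, rfl⟩ := (SymplecticDecomp.splitIdx j l).surjective t
      rcases t with t | t
      · rw [hidx, Pi.neg_apply]; simp [hex]
      · rw [hidx2, Pi.neg_apply]
    have horth : ∀ w ∈ W, sympForm (j + l) F w (g • ex) = 0 := by
      intro w hw
      obtain ⟨h, rfl⟩ := MulAction.surjective g w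
      have hh : h ∈ SymplecticDecomp.headSpace F j l := (hg h).mp hw
      rw [form_map, SymplecticDecomp.form_split,
        show (fun t => h (SymplecticDecomp.splitIdx j l (Sum.inr t))) = 0 from funext hh,
        (SymplecticDecomp.split_single_inr s).1]
      simp
    have hp : (2 : F)⁻¹ • (g • ex + a • g • ex) = 0 := by
      refine hWnd _ (hplus _) fun w hw => form_eq_zero_comm.mp ?_
      have h' : sympForm (j + l) F w (a • g • ex) = sympForm (j + l) F w (g • ex) := by
        conv_lhs => rw [← (hWmem w).mp hw]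
        exact form_map a w _
      rw [form_smul_right, form_add_right, h', horth w hw]
      simp
    have hp' : g • ex + a • g • ex = 0 :=
      (smul_eq_zero.mp hp).resolve_left (inv_ne_zero h2)
    rw [hsgn, add_eq_zero_iff_eq_neg'.mp hp']
    exact (Matrix.mulVec_neg _ _).symm

theorem isConj_signEl_flip (h2 : (2 : F) ≠ 0) {j : ℕ} (hj : j ≤ m) :
    ∃ z ∈ Subgroup.center (symplecticGroup (Fin m) F),
      IsConj (z * signEl F m j) (signEl F m (m - j)) := by
  have hneg : (-1 : Matrix (Fin m ⊕ Fin m) (Fin m ⊕ Fin m) F) ∈ symplecticGroup (Fin m) F := by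
    rw [mem_sp_iff_form]
    intro u v
    rw [Matrix.neg_mulVec, Matrix.neg_mulVec, Matrix.one_mulVec, Matrix.one_mulVec,
      show -u = (-1 : F) • u by module, show -v = (-1 : F) • v by module, form_smul_left,
      form_smul_right]
    ring
  refine ⟨⟨-1, hneg⟩, ?_, ?_⟩
  · refine mem_center_of_scalar (a := (-1 : F)) fun v => ?_
    simp [smul_def, Matrix.neg_mulVec]
  · let σ : Fin m ≃ Fin m := Fin.revPerm
    let P : Matrix (Fin m ⊕ Fin m) (Fin m ⊕ Fin m) F := (Equiv.sumCongr σ σ).toPEquiv.toMatrix
    have hPcol : ∀ x, P *ᵥ Pi.single x 1 = Pi.single ((Equiv.sumCongr σ σ).symm x) 1 := fun x => by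
      funext r
      rw [Matrix.mulVec_single_one]
      show P r x = _
      simp only [P, PEquiv.toMatrix_apply, Pi.single_apply, Equiv.toPEquiv_apply, Option.mem_def,
        Option.some.injEq]
      exact if_congr (Equiv.eq_symm_apply _).symm rfl rfl
    have hP : P ∈ symplecticGroup (Fin m) F := by
      refine SymplecticDecomp.mem_sp_of_single fun s t => ?_
      rw [hPcol, hPcol]
      rcases s with i | i <;> rcases t with l | l <;>
        simp [form_single_inl_right, form_single_inr_right, Pi.single_apply]
    rw [isConj_iff]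
    refine ⟨⟨P, hP⟩, (conj_of_single fun x => ?_).symm⟩
    show signEl F m (m - j) • (P *ᵥ Pi.single x 1) =
      P *ᵥ (((⟨-1, hneg⟩ : symplecticGroup (Fin m) F) * signEl F m j) • Pi.single x 1)
    rw [hPcol, mul_smul]
    have hd : ∀ (i : ℕ) (y : Fin m ⊕ Fin m), signEl F m i • (Pi.single y 1 : Fin m ⊕ Fin m → F) =
        (if (Sum.elim (fun a : Fin m => (a : ℕ)) (fun a : Fin m => (a : ℕ)) y) < i then (1 : F)
          else -1) • Pi.single y 1 := by
      intro i y
      funext t
      by_cases hty : t = y
      · subst hty; rcases t with t | t <;> simp [signEl, smul_def] <;> exact if_congr Iff.rfl rfl rfl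
      · simp [signEl, smul_def, hty]
    rw [hd, hd, show ∀ v : Fin m ⊕ Fin m → F, (⟨-1, hneg⟩ : symplecticGroup (Fin m) F) • v =
      -v from fun v => by simp [smul_def, Matrix.neg_mulVec], Matrix.mulVec_neg, Matrix.mulVec_smul,
      hPcol, ← neg_smul]
    congr 1
    rcases x with i | i <;> by_cases hij : (i : ℕ) < j <;>
      simp [σ, Fin.val_rev, hij] <;> omega

/-- Representatives for the classes of involutions of `PSp`. -/
theorem involution_reps [Fintype F] (h2 : (2 : F) ≠ 0) (hm : 1 ≤ m) :
    ∃ R : Fin (m / 2 + 1) → Cfsg.PSp m F, ∀ x : Cfsg.PSp m F, x * x = 1 → x ≠ 1 →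
      ∃ i, IsConj (R i) x := by
  set Z := Subgroup.center (symplecticGroup (Fin m) F) with hZ
  let π := QuotientGroup.mk' Z
  refine ⟨fun i => if (i : ℕ) = 0 then π (SymplecticGroup.symJ (Fin m) F) else π (signEl F m i),
    fun x hx hx1 => ?_⟩
  obtain ⟨a, rfl⟩ := QuotientGroup.mk'_surjective Z x
  have haa : a * a ∈ Z := by
    rw [← QuotientGroup.eq_one_iff]
    exact hx
  obtain ⟨c, hc2, hc⟩ := (mem_center_iff hm).mp haa
  rcases sq_eq_one_iff.mp hc2 with rfl | rfl
  · obtain ⟨j, hjm, hj⟩ := conj_signEl h2 a (fun v => by rw [← mul_smul, hc, one_smul])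
    have hj0 : j ≠ 0 ∧ j ≠ m := by
      constructor <;> rintro rfl <;> refine hx1 ?_
      all_goals
        obtain ⟨g, hg⟩ := isConj_iff.mp hj
        rw [← hg]
        refine (QuotientGroup.eq_one_iff _).mpr ?_
        refine (inferInstance : Z.Normal).conj_mem _ ?_ g
      · refine mem_center_of_scalar (a := (-1 : F)) fun v => ?_
        funext t
        rcases t with t | t <;> simp [signEl, smul_def, Matrix.mulVec_diagonal]
      · refine mem_center_of_scalar (a := (1 : F)) fun v => ?_
        funext t
        rcases t with t | t <;> simp [signEl, smul_def, Matrix.mulVec_diagonal]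
    by_cases hjh : j ≤ m / 2
    · refine ⟨⟨j, by omega⟩, ?_⟩
      simp only [hj0.1, if_false]
      exact MonoidHom.map_isConj π hj
    · refine ⟨⟨m - j, by omega⟩, ?_⟩
      dsimp only
      rw [if_neg (by omega : ¬ m - j = 0)]
      obtain ⟨z, hz, hzc⟩ := isConj_signEl_flip h2 hjm
      have h1 := MonoidHom.map_isConj π hzc
      rw [map_mul, show π z = 1 from (QuotientGroup.eq_one_iff z).mpr hz, one_mul] at h1
      exact (h1.symm).trans (MonoidHom.map_isConj π hj)
  · refine ⟨⟨0, by omega⟩, ?_⟩
    dsimp only
    rw [if_pos rfl]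
    exact MonoidHom.map_isConj π (conj_symJ h2 a fun v => by rw [← mul_smul, hc, neg_one_smul])

end Cfsg.Agent.SymplecticInvol
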