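import Mathlib
import Cfsg.Prelude.Def_GeometricClasses
import Cfsg.Prelude.Def_ClassicalGeometry
import Cfsg.Agent.Lib.SymplecticBasic
import Cfsg.Agent.Lib.SymplecticInvol
import Cfsg.Agent.Lib.SymplecticOrder
import Cfsg.Agent.Lib.SympSemisimpleClasses
import Cfsg.Agent.Lib.OrthUnitaryHerm
import Cfsg.Agent.Lib.HermitianFactor

/-!
Skew elements `D` with `D ^ 2 = e` non-square for the alternating form: normal form, the subgroup
commuting or anticommuting with `D`, and its order.
-/

set_option autoImplicit false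

open Matrix

namespace Cfsg.Agent.SympSkew

open Cfsg.Agent.SymplecticBasic

variable {F : Type*} [Field F] {d : ℕ}

local notation "V" => (Fin d ⊕ Fin d → F)
local notation "Mat" => Matrix (Fin d ⊕ Fin d) (Fin d ⊕ Fin d) F

/-- `D` is skew for the form and has square `e`. -/
structure IsSkew (e : F) (D : Matrix (Fin d ⊕ Fin d) (Fin d ⊕ Fin d) F) : Prop where
  sq : D * D = e • 1
  skew : ∀ u v, sympForm d F (D *ᵥ u) v = - sympForm d F u (D *ᵥ v)

theorem IsSkew.sq_mulVec {e : F} {D : Mat} (h : IsSkew e D) (v : V) : D *ᵥ (D *ᵥ v) = e • v := by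
  rw [mulVec_mulVec, h.sq, smul_mulVec, one_mulVec]

theorem exists_skew_of_subalgebra (h2 : (2 : F) ≠ 0) (hd : 1 ≤ d) {K : Subalgebra F Mat}
    (hK : Cfsg.Geo.IsFieldSubalgebra 2 K) (hKf : Cfsg.Geo.IsAdjointClosedFor (sympForm d F) K)
    (hKns : ¬ Cfsg.Geo.IsSelfAdjointFor (sympForm d F) K) :
    ∃ (e : F) (D : Mat), ¬ IsSquare e ∧ IsSkew e D ∧
      ∀ g : GL (Fin d ⊕ Fin d) F,
        g ∈ Cfsg.Geo.subalgebraNormalizer K ↔ (g.1 * D = D * g.1 ∨ g.1 * D = -(D * g.1)) := by
  classical
  have : Nonempty (Fin d ⊕ Fin d) := ⟨Sum.inl ⟨0, by omega⟩⟩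
  simp only [Cfsg.Geo.IsSelfAdjointFor, not_forall] at hKns
  obtain ⟨k, hk, u₀, v₀, hne⟩ := hKns
  obtain ⟨k', hk', hadj⟩ := hKf k hk
  have hadj' : ∀ u v, sympForm d F (k' *ᵥ u) v = sympForm d F u (k *ᵥ v) := fun u v => by
    rw [form_swap v (k' *ᵥ u), ← hadj, ← form_swap (k *ᵥ v) u]
  set D := k - k' with hDdef
  have hD : D ∈ K := K.sub_mem hk hk'
  have hskew : ∀ u v, sympForm d F (D *ᵥ u) v = - sympForm d F u (D *ᵥ v) := fun u v => by
    rw [hDdef, sub_mulVec, sub_mulVec, form_sub_left, form_sub_right, hadj, hadj']; ring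
  have hDns : ∀ c : F, D ≠ c • 1 := fun c hc => by
    have h0 : c = 0 := by
      by_contra hc0
      have huv : ∀ u v : V, sympForm d F u v = 0 := fun u v => by
        have h := hskew u v
        rw [hc, smul_mulVec, smul_mulVec, one_mulVec, one_mulVec, form_smul_left, form_smul_right] at h
        have : (2 : F) * (c * sympForm d F u v) = 0 := by linear_combination h
        exact (mul_eq_zero.1 ((mul_eq_zero.1 this).resolve_left h2)).resolve_left hc0
      have := congrFun (form_nondeg (huv (Pi.single (Sum.inl ⟨0, by omega⟩) 1))) (Sum.inl ⟨0, by omega⟩)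
      simp at this
    rw [h0, zero_smul, hDdef, sub_eq_zero] at hc
    exact hne (by rw [hadj, hc])
  have hli : LinearIndependent F ![(1 : Mat), D] := by
    rw [LinearIndependent.pair_iff]
    intro s t hst
    have ht : t = 0 := by
      by_contra ht
      refine hDns (-(t⁻¹ * s)) ?_
      rw [← sub_eq_zero, show D - -(t⁻¹ * s) • (1 : Mat) = t⁻¹ • (s • (1 : Mat) + t • D) by
        rw [smul_add, smul_smul, smul_smul, inv_mul_cancel₀ ht]; module, hst, smul_zero]
    refine ⟨?_, ht⟩
    rw [ht, zero_smul, add_zero] at hst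
    exact (smul_eq_zero.1 hst).resolve_right one_ne_zero
  have : Module.Finite F K := Module.finite_of_finrank_pos (by rw [hK.finrank_eq]; norm_num)
  have hspan : Submodule.span F (Set.range ![(1 : Mat), D]) = Subalgebra.toSubmodule K := by
    refine Submodule.eq_of_le_of_finrank_eq (Submodule.span_le.2 ?_) ?_
    · rintro _ ⟨i, rfl⟩
      fin_cases i
      · exact K.one_mem
      · exact hD
    · rw [finrank_span_eq_card hli, Fintype.card_fin]
      exact hK.finrank_eq.symm
  have hmem : ∀ x ∈ K, ∃ a b : F, x = a • 1 + b • D := fun x hx => by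
    have hx' : x ∈ Submodule.span F (Set.range ![(1 : Mat), D]) := hspan ▸ hx
    rw [Matrix.range_cons, Matrix.range_cons, Matrix.range_empty, Set.union_empty,
      Set.singleton_union, Submodule.mem_span_pair] at hx'
    obtain ⟨a, b, h⟩ := hx'
    exact ⟨a, b, h.symm⟩
  obtain ⟨e, b, hDD⟩ := hmem _ (K.mul_mem hD hD)
  have hb : b = 0 := by
    by_contra hb
    have key : ∀ u v, (2 : F) * b * sympForm d F (D *ᵥ u) v = 0 := fun u v => by
      have h1 : sympForm d F ((D * D) *ᵥ u) v = sympForm d F u ((D * D) *ᵥ v) := by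
        rw [← mulVec_mulVec, hskew, hskew, neg_neg, mulVec_mulVec]
      rw [hDD, add_mulVec, add_mulVec, smul_mulVec, smul_mulVec, smul_mulVec, smul_mulVec, one_mulVec,
        one_mulVec, form_add_left, form_add_right, form_smul_left, form_smul_left, form_smul_right,
        form_smul_right] at h1
      have := hskew u v
      linear_combination h1 + b * this
    refine hDns 0 (Matrix.ext_of_mulVec_single fun i => ?_)
    rw [zero_smul, zero_mulVec]
    exact form_nondeg fun v => (mul_eq_zero.1 (key _ v)).resolve_left (mul_ne_zero h2 hb)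
  rw [hb, zero_smul, add_zero] at hDD
  have hns : ¬ IsSquare e := by
    rintro ⟨s, rfl⟩
    have hs : s • (1 : Mat) ∈ K := K.smul_mem K.one_mem s
    have h0 : (D - s • 1) * (D + s • 1) = 0 := by
      rw [sub_mul, mul_add, mul_add, hDD, smul_mul_assoc, one_mul, smul_mul_assoc, one_mul, smul_smul, mul_smul_comm, mul_one]
      abel
    by_cases h : D - s • 1 = 0
    · exact hDns s (sub_eq_zero.1 h)
    obtain ⟨y, -, hy⟩ := hK.inv _ (K.sub_mem hD hs) h
    refine hDns (-s) ?_
    have h1 : D + s • 1 = 0 := by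
      have hy' : y * (D - s • 1) = 1 := mul_eq_one_comm.1 hy
      calc D + s • 1 = y * (D - s • 1) * (D + s • 1) := by rw [hy', one_mul]
        _ = 0 := by rw [mul_assoc, h0, mul_zero]
    rw [eq_neg_of_add_eq_zero_left h1, neg_smul]
  refine ⟨e, D, hns, ⟨hDD, hskew⟩, fun g => ⟨fun hg => ?_, fun hg k => ?_⟩⟩
  · obtain ⟨a, c, hac⟩ := hmem _ ((hg D).1 hD)
    have hgi : g.1 * (g⁻¹).1 = 1 := Units.mul_inv g
    have hig : (g⁻¹).1 * g.1 = 1 := Units.inv_mul g
    have hsq : (g.1 * D * (g⁻¹).1) * (g.1 * D * (g⁻¹).1) = e • 1 := by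
      rw [show g.1 * D * (g⁻¹).1 * (g.1 * D * (g⁻¹).1) = g.1 * D * ((g⁻¹).1 * g.1) * D * (g⁻¹).1 by
        simp only [mul_assoc], hig, mul_one, mul_assoc g.1 D D, hDD, mul_smul_comm, mul_one, smul_mul_assoc, hgi]
    have hexp : (a • (1 : Mat) + c • D) * (a • 1 + c • D) = (a * a + c * c * e) • 1 + (2 * a * c) • D := by
      simp only [add_mul, mul_add, smul_mul_assoc, mul_smul_comm, one_mul, mul_one, smul_smul, hDD]
      module
    rw [hac, hexp] at hsq
    have h0 := LinearIndependent.pair_iff.1 hli (a * a + c * c * e - e) (2 * a * c)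
      (by rw [sub_smul, sub_add_eq_add_sub, hsq, sub_self])
    have hgD : g.1 * D = (a • 1 + c • D) * g.1 := by rw [← hac, mul_assoc, hig, mul_one]
    rw [add_mul, smul_mul_assoc, smul_mul_assoc, one_mul] at hgD
    rcases mul_eq_zero.1 h0.2 with h | h
    · have ha : a = 0 := (mul_eq_zero.1 h).resolve_left h2
      rw [ha] at h0
      have he : e ≠ 0 := fun he => hns (he ▸ IsSquare.zero)
      have hc : c * c = 1 := mul_right_cancel₀ he (by linear_combination h0.1)
      rcases mul_self_eq_one_iff.1 hc with hc | hc <;> rw [ha, hc] at hgD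
      · exact Or.inl (by simpa using hgD)
      · exact Or.inr (by simpa using hgD)
    · rw [h, zero_smul, add_zero] at hgD
      exact absurd (g.isUnit.mul_left_cancel
        (hgD.trans (show a • g.1 = g.1 * (a • 1) by rw [mul_smul_comm, mul_one]))) (hDns a)
  · have hgi : g.1 * (g⁻¹).1 = 1 := Units.mul_inv g
    have hig : (g⁻¹).1 * g.1 = 1 := Units.inv_mul g
    have hor : ∀ x ∈ K, g.1 * x * (g⁻¹).1 ∈ K ∧ (g⁻¹).1 * x * g.1 ∈ K := by
      intro x hx
      obtain ⟨a, c, rfl⟩ := hmem x hx
      simp only [mul_add, add_mul, mul_smul_comm, smul_mul_assoc, mul_one, hgi, hig]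
      refine ⟨K.add_mem (K.smul_mem K.one_mem a) (K.smul_mem ?_ c),
        K.add_mem (K.smul_mem K.one_mem a) (K.smul_mem ?_ c)⟩
      · rcases hg with h | h <;> rw [h]
        · rw [mul_assoc, hgi, mul_one]; exact hD
        · rw [neg_mul, mul_assoc, hgi, mul_one]; exact K.neg_mem hD
      · rcases hg with h | h
        · rw [mul_assoc, ← h, ← mul_assoc, hig, one_mul]; exact hD
        · rw [mul_assoc, show D * g.1 = -(g.1 * D) by rw [h, neg_neg], mul_neg, ← mul_assoc, hig,
            one_mul]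
          exact K.neg_mem hD
    constructor
    · exact fun hk => (hor k hk).1
    · intro hk
      have := (hor _ hk).2
      rwa [show (g⁻¹).1 * (g.1 * k * (g⁻¹).1) * g.1 = ((g⁻¹).1 * g.1) * k * ((g⁻¹).1 * g.1) by
        simp only [mul_assoc], hig, one_mul, mul_one] at this

/-- The standard skew element. -/
def stdD (d : ℕ) (e : F) : Matrix (Fin d ⊕ Fin d) (Fin d ⊕ Fin d) F := fromBlocks 0 (e • 1) 1 0

theorem stdD_mulVec (e : F) (a b : Fin d → F) :
    stdD d e *ᵥ Sum.elim a b = Sum.elim (e • b) a := by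
  rw [stdD, fromBlocks_mulVec]
  simp [smul_mulVec]

theorem exists_repr [Fintype F] (h2 : (2 : F) ≠ 0) (e c : F) (he : e ≠ 0) :
    ∃ a b : F, a * a - e * (b * b) = c := by
  obtain ⟨a, b, hab⟩ := FiniteField.exists_root_sum_quadratic (f := Polynomial.X ^ 2)
    (g := Polynomial.C (-e) * Polynomial.X ^ 2 + Polynomial.C (-c))
    (Polynomial.degree_X_pow 2) (by compute_degree!)
    (FiniteField.odd_card_of_char_ne_two fun h => by
      have : CharP F 2 := ringChar.of_eq h
      exact h2 (CharTwo.two_eq_zero))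
  refine ⟨a, b, ?_⟩
  simp only [Polynomial.eval_add, Polynomial.eval_mul, Polynomial.eval_pow, Polynomial.eval_C,
    Polynomial.eval_X] at hab
  linear_combination hab

/-- Every skew element is conjugate to the standard one. -/
theorem exists_normal_form [Fintype F] (h2 : (2 : F) ≠ 0) {e : F} (he : ¬ IsSquare e) {D : Mat}
    (hD : IsSkew e D) :
    ∃ P : symplecticGroup (Fin d) F, D * P.1 = P.1 * stdD d e := by
  classical
  have he0 : e ≠ 0 := fun h => he (h ▸ IsSquare.zero)
  have hDD : ∀ u v, sympForm d F (D *ᵥ u) (D *ᵥ v) = -(e * sympForm d F u v) := fun u v => by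
    rw [hD.skew, hD.sq_mulVec, form_smul_right]
  suffices ∀ k ≤ d, ∃ v : Fin k → V, ∀ i j, sympForm d F (v i) (v j) = 0 ∧
      sympForm d F (v i) (D *ᵥ v j) = if i = j then -1 else 0 by
    obtain ⟨v, hv⟩ := this d le_rfl
    let col : Fin d ⊕ Fin d → V := Sum.elim v fun i => D *ᵥ v i
    let P : Mat := Matrix.of fun r c => col c r
    have hcol : ∀ c, P *ᵥ Pi.single c 1 = col c := fun c => by funext r; simp [P]
    have hP : P ∈ symplecticGroup (Fin d) F := SymplecticDecomp.mem_sp_of_single fun s t => by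
      rw [hcol, hcol]
      rcases s with i | i <;> rcases t with j | j <;> simp only [col, Sum.elim_inl, Sum.elim_inr]
      · rw [(hv i j).1, form_single_inl_right]; simp
      · rw [(hv i j).2, form_single_inr_right]
        by_cases h : i = j <;> simp [h, Ne.symm]
      · rw [hD.skew, (hv i j).2, form_single_inl_right]
        by_cases h : i = j <;> simp [h, Ne.symm]
      · rw [hDD, (hv i j).1, form_single_inr_right]; simp
    refine ⟨⟨P, hP⟩, Matrix.ext_of_mulVec_single fun c => ?_⟩
    show (D * P) *ᵥ Pi.single c 1 = (P * stdD d e) *ᵥ Pi.single c 1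
    rw [← mulVec_mulVec, ← mulVec_mulVec, hcol]
    rcases c with i | i
    · rw [show stdD d e *ᵥ Pi.single (Sum.inl i) 1 = Pi.single (Sum.inr i) 1 by
        ext (t | t) <;> simp [stdD, Matrix.one_apply, Pi.single_apply], hcol]
      rfl
    · rw [show stdD d e *ᵥ Pi.single (Sum.inr i) 1 = e • Pi.single (Sum.inl i) 1 by
        ext (t | t) <;> simp [stdD, Matrix.one_apply, Pi.single_apply], mulVec_smul, hcol]
      exact hD.sq_mulVec _
  intro k
  induction k with
  | zero => exact fun _ => ⟨Fin.elim0, fun i => i.elim0⟩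
  | succ k ih =>
    intro hk
    obtain ⟨v, hv⟩ := ih (by omega)
    let L : V →ₗ[F] (Fin k ⊕ Fin k → F) :=
      LinearMap.pi (Sum.elim (fun i => formLin (v i)) fun i => formLin (D *ᵥ v i))
    let W := LinearMap.ker L
    have hW : ∀ x, x ∈ W ↔ ∀ i, sympForm d F (v i) x = 0 ∧ sympForm d F (D *ᵥ v i) x = 0 := fun x => by
      rw [LinearMap.mem_ker, funext_iff, Sum.forall, forall_and]; rfl
    have hWD : ∀ x ∈ W, D *ᵥ x ∈ W := fun x hx => (hW _).2 fun i => by
      obtain ⟨h1, h2⟩ := (hW x).1 hx i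
      exact ⟨neg_eq_zero.1 ((hD.skew _ _).symm.trans h2), by rw [hDD, h1, mul_zero, neg_zero]⟩
    have hWne : W ≠ ⊥ := fun h => by
      have h1 := LinearMap.finrank_le_finrank_of_injective (LinearMap.ker_eq_bot.1 h)
      simp at h1
      omega
    obtain ⟨w, hw, hwD⟩ : ∃ w ∈ W, sympForm d F w (D *ᵥ w) ≠ 0 := by
      by_contra h
      push Not at h
      obtain ⟨w, hw, hw0⟩ := Submodule.exists_mem_ne_zero_of_ne_bot hWne
      have hperp : ∀ w' ∈ W, sympForm d F w w' = 0 := fun w' hw' => by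
        have hh := h (w + D *ᵥ w') (W.add_mem hw (hWD _ hw'))
        rw [mulVec_add, form_add_left, form_add_right, form_add_right, h w hw, h _ (hWD _ hw'), hD.sq_mulVec,
          form_smul_right, hDD] at hh
        have : (2 : F) * (e * sympForm d F w w') = 0 := by
          rw [form_swap w w'] at hh; linear_combination hh
        exact (mul_eq_zero.1 ((mul_eq_zero.1 this).resolve_left h2)).resolve_left he0
      refine hw0 (form_nondeg fun y => ?_)
      let z := ∑ i, (sympForm d F (D *ᵥ v i) y • v i + (-sympForm d F (v i) y) • (D *ᵥ v i))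
      have hfz : ∀ x, sympForm d F x z = ∑ i, (sympForm d F (D *ᵥ v i) y * sympForm d F x (v i) +
          (-sympForm d F (v i) y) * sympForm d F x (D *ᵥ v i)) := fun x => by
        rw [← formLin_apply, map_sum]
        simp only [map_add, map_smul, formLin_apply, smul_eq_mul]
      have hyz : y - z ∈ W := (hW _).2 fun j => by
        refine ⟨?_, ?_⟩ <;> rw [form_sub_right, hfz, Finset.sum_eq_single j]
        · rw [(hv j j).1, (hv j j).2, if_pos rfl]; ring
        · intro i _ hij
          rw [(hv j i).1, (hv j i).2, if_neg (Ne.symm hij)]; ring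
        · exact fun h => absurd (Finset.mem_univ j) h
        · rw [hD.skew _ (v j), hDD, (hv j j).1, (hv j j).2, if_pos rfl]; ring
        · intro i _ hij
          rw [hD.skew _ (v i), hDD, (hv j i).1, (hv j i).2, if_neg (Ne.symm hij)]; ring
        · exact fun h => absurd (Finset.mem_univ j) h
      have hwz : sympForm d F w z = 0 := by
        rw [hfz]
        refine Finset.sum_eq_zero fun i _ => ?_
        obtain ⟨h1, h2⟩ := (hW w).1 hw i
        rw [form_eq_zero_comm.1 h1, form_eq_zero_comm.1 h2]; ring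
      rw [← sub_add_cancel y z, form_add_right, hperp _ hyz, hwz, add_zero]
    obtain ⟨a, b, hab⟩ := exists_repr h2 e (-(sympForm d F w (D *ᵥ w))⁻¹) he0
    set w' := a • w + b • (D *ᵥ w) with hw'
    have hw'W : w' ∈ W := W.add_mem (W.smul_mem a hw) (W.smul_mem b (hWD _ hw))
    have hw'1 : sympForm d F w' (D *ᵥ w') = -1 := by
      rw [hw', mulVec_add, mulVec_smul, mulVec_smul, hD.sq_mulVec]
      simp only [form_add_left, form_add_right, form_smul_left, form_smul_right, form_self]
      rw [form_swap w (D *ᵥ w)]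
      calc _ = (a * a - e * (b * b)) * sympForm d F w (D *ᵥ w) := by ring
        _ = -1 := by rw [hab, neg_mul, inv_mul_cancel₀ hwD]
    refine ⟨Fin.cons w' v, fun i j => ?_⟩
    obtain hz := fun i => (hW w').1 hw'W i
    refine Fin.cases ?_ (fun i => ?_) i <;> refine Fin.cases ?_ (fun j => ?_) j
    · simp [form_self, hw'1]
    · simp only [Fin.cons_zero, Fin.cons_succ, if_neg (Fin.succ_ne_zero j).symm]
      exact ⟨form_eq_zero_comm.1 (hz j).1, form_eq_zero_comm.1 (hz j).2⟩
    · simp only [Fin.cons_zero, Fin.cons_succ, if_neg (Fin.succ_ne_zero i)]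
      exact ⟨(hz i).1, neg_eq_zero.1 ((hD.skew _ _).symm.trans (hz i).2)⟩
    · simp only [Fin.cons_succ, Fin.succ_inj]
      exact hv i j

theorem mem_spGL {g : GL (Fin d ⊕ Fin d) F} :
    g ∈ Cfsg.spGL d F ↔ g.1 ∈ symplecticGroup (Fin d) F :=
  ⟨fun h => mem_sp_iff_form.2 h, fun h => mem_sp_iff_form.1 h⟩

theorem unitsHom_mem (g : symplecticGroup (Fin d) F) :
    SympSemisimpleClasses.unitsHom d F g ∈ Cfsg.spGL d F :=
  mem_spGL.2 g.2

theorem card_spGL [Fintype F] :
    Nat.card (Cfsg.spGL d F) = Nat.card (symplecticGroup (Fin d) F) :=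
  Nat.card_congr
    { toFun := fun g => ⟨g.1.1, mem_spGL.1 g.2⟩
      invFun := fun g => ⟨SympSemisimpleClasses.unitsHom d F g, unitsHom_mem g⟩
      left_inv := fun _ => Subtype.ext (Units.ext rfl)
      right_inv := fun _ => rfl }

/-- The unitary group embeds in the centraliser of the standard skew element. -/
theorem exists_unitary_embedding [Fintype F] (h2 : (2 : F) ≠ 0) {e : F} (he : ¬ IsSquare e) :
    ∃ n, n = Fintype.card F ^ (d * (d - 1) / 2) * ∏ i ∈ Finset.range d,
        (if Even i then Fintype.card F ^ (i + 1) + 1 else Fintype.card F ^ (i + 1) - 1) ∧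
      ∃ S : Subgroup (symplecticGroup (Fin d) F), Nat.card S = n ∧ ∀ g ∈ S, g.1 * stdD d e = stdD d e * g.1 := by
  classical
  set q := Fintype.card F with hq
  let φ : Polynomial F := Polynomial.X ^ 2 - Polynomial.C e
  have hirr : Irreducible φ := X_pow_sub_C_irreducible_of_prime Nat.prime_two
    fun b hb => he ⟨b, by rw [← hb]; ring⟩
  have hm : φ.Monic := Polynomial.monic_X_pow_sub_C e two_ne_zero
  have := Fact.mk hirr
  let K := AdjoinRoot φ
  have : Module.Finite F K := hm.finite_adjoinRoot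
  have : Finite K := Module.finite_of_finite F
  let _ : Fintype K := Fintype.ofFinite K
  have hdim : Module.finrank F K = 2 := by
    rw [(AdjoinRoot.powerBasis' hm).finrank]
    exact Polynomial.natDegree_X_pow_sub_C
  have hK : Fintype.card K = q ^ 2 := by rw [Module.card_eq_pow_finrank (K := F), hdim]
  set ω : K := AdjoinRoot.root φ
  let c : F →+* K := algebraMap F K
  have hω : ω * ω = c e := by
    have := AdjoinRoot.mk_self (f := φ)
    simp only [φ, map_sub, map_pow, AdjoinRoot.mk_X, AdjoinRoot.mk_C, sub_eq_zero] at this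
    rw [← pow_two]; exact this
  obtain ⟨σ, hσq, -, -⟩ := HermitianFactor.exists_conjugation hK
  have hσF : ∀ a : F, σ (c a) = c a := fun a => by
    rw [hσq, ← map_pow, hq, FiniteField.pow_card]
  have hchar : ringChar F ≠ 2 := fun h => by
    have : CharP F 2 := ringChar.of_eq h
    exact h2 CharTwo.two_eq_zero
  have hσω : σ ω = -ω := by
    have hodd : q % 2 = 1 := FiniteField.odd_card_of_char_ne_two hchar
    have h1 : e ^ (q / 2) = -1 :=
      ((FiniteField.pow_dichotomy hchar (fun h => he (by rw [h]; exact IsSquare.zero))).resolve_left fun h =>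
        he ((FiniteField.isSquare_iff hchar (fun h => he (by rw [h]; exact IsSquare.zero))).2 h))
    rw [hσq, show q = q / 2 * 2 + 1 by omega, pow_succ, mul_comm (q / 2) 2, pow_mul, pow_two, hω,
      ← map_pow, h1, map_neg, map_one, neg_one_mul]
  have hind : ∀ a b : F, c a + ω * c b = 0 → a = 0 ∧ b = 0 := fun a b h => by
    by_cases hb : b = 0
    · exact ⟨c.injective (by rw [map_zero]; simpa [hb] using h), hb⟩
    · have hz : ω = c (-(a / b)) := by
        have hcb : c b ≠ 0 := (map_ne_zero c).2 hb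
        rw [map_neg, map_div₀, ← neg_div, eq_div_iff hcb, eq_neg_iff_add_eq_zero, add_comm]
        exact h
      refine absurd ⟨-(a / b), c.injective ?_⟩ he
      rw [map_mul, ← hz, hω]
  let ι₀ : V →ₗ[F] (Fin d → K) :=
    { toFun := fun v i => c (v (Sum.inl i)) + ω * c (v (Sum.inr i))
      map_add' := fun u v => funext fun i => by simp only [Pi.add_apply, map_add]; ring
      map_smul' := fun a v => funext fun i => by
        simp only [Pi.smul_apply, smul_eq_mul, map_mul, RingHom.id_apply]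
        rw [Algebra.smul_def]
        ring }
  have hι₀ : Function.Injective ι₀ := (injective_iff_map_eq_zero _).2 fun v hv => funext fun t => by
    rcases t with i | i
    · exact (hind _ _ (congrFun hv i)).1
    · exact (hind _ _ (congrFun hv i)).2
  let ι : V ≃ₗ[F] (Fin d → K) := LinearEquiv.ofBijective ι₀ ⟨hι₀,
    (LinearMap.injective_iff_surjective_of_finrank_eq_finrank
      (by rw [Module.finrank_pi_fintype F (M := fun _ : Fin d => K)]; simp [hdim]; omega)).1 hι₀⟩
  have hι : ∀ v i, ι v i = c (v (Sum.inl i)) + ω * c (v (Sum.inr i)) := fun _ _ => rfl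
  let re := fun u v : V => ∑ i, (u (Sum.inl i) * v (Sum.inl i) - e * (u (Sum.inr i) * v (Sum.inr i)))
  have hherm : ∀ u v, Cfsg.hermForm d K q (ι u) (ι v) =
      c (re u v) + ω * c (sympForm d F u v) := fun u v => by
    rw [form_eq_sum, map_sum, map_sum, Finset.mul_sum, ← Finset.sum_add_distrib]
    show (∑ i, _) = _
    refine Finset.sum_congr rfl fun i _ => ?_
    rw [show (ι v i) ^ q = c (v (Sum.inl i)) - ω * c (v (Sum.inr i)) by
      rw [← hσq, hι, map_add, map_mul, hσF, hσF, hσω]; ring, hι]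
    simp only [map_sub, map_mul]
    linear_combination (-(c (u (Sum.inr i)) * c (v (Sum.inr i)))) * hω
  have hωD : ∀ v, ι (stdD d e *ᵥ v) = ω • ι v := fun v => funext fun i => by
    have hv : v = Sum.elim (fun j => v (Sum.inl j)) (fun j => v (Sum.inr j)) :=
      funext fun t => by rcases t with t | t <;> rfl
    conv_lhs => rw [hv, stdD_mulVec, hι]
    rw [Pi.smul_apply, smul_eq_mul, hι]
    simp only [Sum.elim_inl, Sum.elim_inr, Pi.smul_apply, smul_eq_mul, map_mul]
    linear_combination (-(c (v (Sum.inr i)))) * hω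
  let Ψ : Matrix (Fin d) (Fin d) K → Mat := fun A =>
    LinearMap.toMatrix' (ι.symm.toLinearMap ∘ₗ ((Matrix.toLin' A).restrictScalars F) ∘ₗ ι.toLinearMap)
  have hΨ : ∀ A v, ι (Ψ A *ᵥ v) = A *ᵥ ι v := fun A v => by
    rw [← Matrix.toLin'_apply, Matrix.toLin'_toMatrix']; simp
  have hΨsp : ∀ M : Cfsg.GU d K q, Ψ M.1.1 ∈ symplecticGroup (Fin d) F := fun M =>
    mem_sp_iff_form.2 fun u v => by
      have h := M.2 (ι u) (ι v)
      simp only [Units.coeHom_apply, ← hΨ, hherm] at h
      have := hind (re (Ψ M.1.1 *ᵥ u) (Ψ M.1.1 *ᵥ v) - re u v)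
        (sympForm d F (Ψ M.1.1 *ᵥ u) (Ψ M.1.1 *ᵥ v) - sympForm d F u v)
        (by rw [map_sub, map_sub]; linear_combination h)
      exact sub_eq_zero.1 this.2
  let Φ : Cfsg.GU d K q →* symplecticGroup (Fin d) F :=
    { toFun := fun M => ⟨Ψ M.1.1, hΨsp M⟩
      map_one' := Subtype.ext (Matrix.ext_of_mulVec_single fun i => ι.injective (by
        rw [hΨ]; simp only [OneMemClass.coe_one, Units.val_one, Matrix.one_mulVec]))
      map_mul' := fun M N => Subtype.ext (Matrix.ext_of_mulVec_single fun i => ι.injective (by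
        show ι (Ψ _ *ᵥ _) = ι ((Ψ _ * Ψ _) *ᵥ _)
        rw [← mulVec_mulVec, hΨ, hΨ, hΨ, mulVec_mulVec]
        rfl)) }
  have hΦ : Function.Injective Φ := fun M N h => by
    refine Subtype.ext (Units.ext (Matrix.mulVec_injective (funext fun w => ?_)))
    obtain ⟨v, rfl⟩ := ι.surjective w
    rw [← hΨ, ← hΨ, show Ψ M.1.1 = Ψ N.1.1 from congrArg Subtype.val h]
  refine ⟨_, rfl, Φ.range, ?_, ?_⟩
  · rw [Nat.card_congr (MonoidHom.ofInjective hΦ).toEquiv.symm, OrthUnitaryHerm.card_GU hK]
  · rintro _ ⟨M, rfl⟩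
    refine Matrix.ext_of_mulVec_single fun i => ι.injective ?_
    show ι ((Ψ M.1.1 * stdD d e) *ᵥ _) = ι ((stdD d e * Ψ M.1.1) *ᵥ _)
    rw [← mulVec_mulVec, ← mulVec_mulVec, hΨ, hωD, hωD, hΨ, mulVec_smul]

theorem odd_prime_not_dvd {r q i : ℕ} [Fact r.Prime] (hr2 : r ≠ 2) {k : ℕ} (hk : Odd k)
    (hi : i = orderOf (q : ZMod r)) (hik : i = 2 * k) (j : ℕ) :
    (q : ZMod r) ^ j + (-1) ^ j ≠ 0 := by
  intro h
  have hr : r.Prime := Fact.out
  have : Fact (2 < r) := ⟨lt_of_le_of_ne hr.two_le (Ne.symm hr2)⟩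
  have h1 : (q : ZMod r) ^ j = -(-1) ^ j := eq_neg_of_add_eq_zero_left h
  have h2 : (q : ZMod r) ^ (2 * j) = 1 := by
    rw [mul_comm, pow_mul, h1, neg_sq, ← pow_mul, mul_comm, pow_mul, neg_one_sq, one_pow]
  obtain ⟨t, ht⟩ : k ∣ j := by
    have := hi ▸ orderOf_dvd_of_pow_eq_one h2
    rw [hik] at this
    exact (Nat.mul_dvd_mul_iff_left two_pos).1 this
  have hqk : (q : ZMod r) ^ k = -1 := by
    have h3 : (q : ZMod r) ^ k * (q : ZMod r) ^ k = 1 := by
      rw [← pow_add, show k + k = i by omega, hi, pow_orderOf_eq_one]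
    rcases mul_self_eq_one_iff.1 h3 with h3 | h3
    · have h4 : i ∣ k := by rw [hi]; exact orderOf_dvd_of_pow_eq_one h3
      have := Nat.le_of_dvd hk.pos h4
      have := hk.pos
      omega
    · exact h3
  rw [ht, pow_mul, pow_mul, hqk, hk.neg_one_pow] at h1
  rcases Nat.even_or_odd t with h5 | h5
  · rw [h5.neg_one_pow] at h1; exact ZMod.neg_one_ne_one h1.symm
  · rw [h5.neg_one_pow, neg_neg] at h1; exact ZMod.neg_one_ne_one h1

/-- If `ord_r q = 2 k` with `k` odd, `r` does not divide the index. -/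
theorem not_dvd_relIndex [Fintype F] (h2 : (2 : F) ≠ 0) {e : F} (he : ¬ IsSquare e) {D : Mat}
    (hD : IsSkew e D) (H : Subgroup (GL (Fin d ⊕ Fin d) F))
    (hH : ∀ g : GL (Fin d ⊕ Fin d) F, g.1 * D = D * g.1 → g ∈ H)
    {r i k : ℕ} [Fact r.Prime] (hr2 : r ≠ 2) (hk : Odd k)
    (hi : i = orderOf (Fintype.card F : ZMod r)) (hik : i = 2 * k) :
    ¬ r ∣ H.relIndex (Cfsg.spGL d F) := by
  classical
  set q := Fintype.card F with hq
  obtain ⟨P, hP⟩ := exists_normal_form h2 he hD
  obtain ⟨n, hn, S, hS, hScomm⟩ := exists_unitary_embedding (d := d) h2 he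
  let φ : S →* ↥(H.subgroupOf (Cfsg.spGL d F)) :=
    { toFun := fun g => ⟨⟨SympSemisimpleClasses.unitsHom d F (P * g.1 * P⁻¹), unitsHom_mem _⟩,
        hH _ (by
          show (P * g.1 * P⁻¹).1 * D = D * (P * g.1 * P⁻¹).1
          have hi1 : P.1 * (P⁻¹).1 = 1 := congrArg Subtype.val (mul_inv_cancel P)
          have hi2 : (P⁻¹).1 * P.1 = 1 := congrArg Subtype.val (inv_mul_cancel P)
          have hD' : (P⁻¹).1 * D = stdD d e * (P⁻¹).1 := by
            calc (P⁻¹).1 * D = (P⁻¹).1 * (D * P.1) * (P⁻¹).1 := by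
                  rw [mul_assoc, mul_assoc D, hi1, mul_one]
              _ = _ := by rw [hP, ← mul_assoc, hi2, one_mul]
          show P.1 * g.1.1 * (P⁻¹).1 * D = D * (P.1 * g.1.1 * (P⁻¹).1)
          rw [mul_assoc _ (P⁻¹).1 D, hD', ← mul_assoc, mul_assoc P.1 g.1.1, hScomm _ g.2, ← mul_assoc,
            ← hP]
          simp only [mul_assoc])⟩
      map_one' := Subtype.ext (Subtype.ext (by simp))
      map_mul' := fun a b => Subtype.ext (Subtype.ext (by
        show SympSemisimpleClasses.unitsHom d F _ =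
          SympSemisimpleClasses.unitsHom d F _ * SympSemisimpleClasses.unitsHom d F _
        rw [← map_mul]
        congr 1
        simp only [Subgroup.coe_mul]
        group)) }
  have hφ : Function.Injective φ := fun a b h => by
    have h1 : P * a.1 * P⁻¹ = P * b.1 * P⁻¹ :=
      Subtype.ext (congrArg (fun z : ↥(H.subgroupOf (Cfsg.spGL d F)) => z.1.1.1) h)
    exact Subtype.ext (by simpa using h1)
  obtain ⟨m, hm⟩ := Subgroup.card_dvd_of_injective φ hφ
  have hcard := (H.subgroupOf (Cfsg.spGL d F)).card_mul_index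
  rw [hm, hS, hn, card_spGL, SymplecticOrder.card_symplectic rfl] at hcard
  intro hdvd
  have hprod : ∀ i ∈ Finset.range d, q ^ (2 * (i + 1)) - 1 =
      (if Even i then q ^ (i + 1) + 1 else q ^ (i + 1) - 1) *
        (if Even i then q ^ (i + 1) - 1 else q ^ (i + 1) + 1) := by
    intro i _
    rw [mul_comm 2 (i + 1), pow_mul, ← one_pow 2, Nat.sq_sub_sq]
    split_ifs <;> simp [mul_comm]
  rw [Finset.prod_congr rfl hprod, Finset.prod_mul_distrib] at hcard
  have hpos : 0 < ∏ i ∈ Finset.range d, (if Even i then q ^ (i + 1) + 1 else q ^ (i + 1) - 1) :=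
    Finset.prod_pos fun i _ => by
      split_ifs
      · omega
      · exact Nat.sub_pos_of_lt (Nat.one_lt_pow (by omega) Fintype.one_lt_card)
  have key : q ^ (d * (d - 1) / 2) * (m * (H.subgroupOf (Cfsg.spGL d F)).index) =
      q ^ (d ^ 2) * ∏ i ∈ Finset.range d, (if Even i then q ^ (i + 1) - 1 else q ^ (i + 1) + 1) := by
    apply Nat.eq_of_mul_eq_mul_left hpos
    calc _ = _ := by ring
      _ = _ := hcard
      _ = _ := by rw [← hq]; ring
  have hd' : r ∣ q ^ (d ^ 2) * ∏ i ∈ Finset.range d, (if Even i then q ^ (i + 1) - 1 else q ^ (i + 1) + 1) := by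
    rw [← key]
    exact dvd_mul_of_dvd_right (dvd_mul_of_dvd_right hdvd _) _
  have hr : r.Prime := Fact.out
  rcases hr.prime.dvd_or_dvd hd' with h | h
  · have h0 : (q : ZMod r) = 0 := (ZMod.natCast_eq_zero_iff q r).2 (hr.dvd_of_dvd_pow h)
    have h1 : (q : ZMod r) ^ i = 1 := hi ▸ pow_orderOf_eq_one _
    rw [h0, zero_pow (by have := hk.pos; omega)] at h1
    exact zero_ne_one h1
  · obtain ⟨j, -, hj⟩ := hr.prime.exists_mem_finset_dvd h
    refine odd_prime_not_dvd hr2 hk hi hik (j + 1) ?_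
    rw [← ZMod.natCast_eq_zero_iff] at hj
    split_ifs at hj with hev
    · rw [Nat.cast_sub (Nat.one_le_pow _ _ Fintype.card_pos), Nat.cast_pow, Nat.cast_one] at hj
      rw [hev.add_one.neg_one_pow, ← sub_eq_add_neg, hj]
    · push_cast at hj
      rw [(Nat.not_even_iff_odd.1 hev).add_one.neg_one_pow, hj]

end Cfsg.Agent.SympSkew
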