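import Mathlib
import Cfsg.Prelude.Def_GeometricClasses
import Cfsg.Agent.Lib.SymplecticBasic
import Cfsg.Agent.Lib.SymplecticAlt
import Cfsg.Agent.Lib.SymplecticOrder
import Cfsg.Agent.Lib.SympSemisimpleClasses
import Cfsg.Agent.Lib.SympSkew

/-!
Field extension structures on a symplectic space: a field `L` acting by self-adjoint maps with
`f(a v, v) = 0`; the induced `L`-bilinear form, its group, and semilinear maps.
-/

set_option autoImplicit false

open Matrix

namespace Cfsg.Agent.SympFieldExt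

open Cfsg.Agent.SymplecticBasic

variable {F : Type*} [Field F] {L : Type*} [Field L] [Algebra F L] {d : ℕ}


/-- `L` acts by self-adjoint maps with `f(a v, v) = 0`. -/
structure IsExt (ι : L →ₐ[F] Matrix (Fin d ⊕ Fin d) (Fin d ⊕ Fin d) F) : Prop where
  adj : ∀ a u v, sympForm d F (ι a *ᵥ u) v = sympForm d F u (ι a *ᵥ v)
  alt : ∀ a v, sympForm d F (ι a *ᵥ v) v = 0

variable {ι : L →ₐ[F] Matrix (Fin d ⊕ Fin d) (Fin d ⊕ Fin d) F}

theorem act_mul (a b : L) (v : (Fin d ⊕ Fin d → F)) : ι (a * b) *ᵥ v = ι a *ᵥ (ι b *ᵥ v) := by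
  rw [map_mul, mulVec_mulVec]

theorem act_injective (a : L) (ha : a ≠ 0) {v : (Fin d ⊕ Fin d → F)} (h : ι a *ᵥ v = 0) : v = 0 := by
  have := congrArg (ι a⁻¹ *ᵥ ·) h
  simpa [mulVec_mulVec, ← map_mul, inv_mul_cancel₀ ha] using this

/-- Conjugating the structure by an isometry. -/
def conj (g : symplecticGroup (Fin d) F) (ι : L →ₐ[F] Matrix (Fin d ⊕ Fin d) (Fin d ⊕ Fin d) F) :
    L →ₐ[F] Matrix (Fin d ⊕ Fin d) (Fin d ⊕ Fin d) F where
  toFun a := g.1 * ι a * (g⁻¹).1
  map_one' := by
    rw [map_one, mul_one, ← Submonoid.coe_mul, mul_inv_cancel, OneMemClass.coe_one]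
  map_mul' a b := by
    have h : (g⁻¹).1 * g.1 = 1 := congrArg Subtype.val (inv_mul_cancel g)
    rw [map_mul, show g.1 * ι a * (g⁻¹).1 * (g.1 * ι b * (g⁻¹).1) =
      g.1 * ι a * ((g⁻¹).1 * g.1) * ι b * (g⁻¹).1 by simp only [mul_assoc], h, mul_one, mul_assoc g.1 (ι a)]
  map_zero' := by rw [map_zero, mul_zero, zero_mul]
  map_add' a b := by rw [map_add, mul_add, add_mul]
  commutes' r := by
    rw [AlgHom.commutes, Algebra.algebraMap_eq_smul_one, Matrix.mul_smul, mul_one, Matrix.smul_mul,
      ← Submonoid.coe_mul, mul_inv_cancel, OneMemClass.coe_one]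

theorem conj_apply (g : symplecticGroup (Fin d) F) (a : L) : conj g ι a = g.1 * ι a * (g⁻¹).1 := rfl

theorem IsExt.conj (h : IsExt ι) (g : symplecticGroup (Fin d) F) : IsExt (SympFieldExt.conj g ι) := by
  have key : ∀ a u, SympFieldExt.conj g ι a *ᵥ u = g • (ι a *ᵥ (g⁻¹ • u)) := fun a u => by
    rw [conj_apply, smul_def, smul_def, mulVec_mulVec, mulVec_mulVec, mul_assoc]
  refine ⟨fun a u v => ?_, fun a v => ?_⟩
  · rw [key, key]
    conv_lhs => rw [← smul_inv_smul g v, form_map, h.adj]
    conv_rhs => rw [← smul_inv_smul g u, form_map]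
  · rw [key]
    conv_lhs => arg 4; rw [← smul_inv_smul g v]
    rw [form_map, h.alt]

/-- The coordinates over `L`. -/
theorem exists_coords [FiniteDimensional F L] (h : IsExt ι) (lam : L →ₗ[F] F) (hlam : lam ≠ 0) :
    ∃ m : ℕ, d = Module.finrank F L * m ∧
      ∃ e : (Fin m ⊕ Fin m → L) ≃ₗ[F] (Fin d ⊕ Fin d → F),
        (∀ (a : L) x, e (a • x) = ι a *ᵥ e x) ∧
        ∀ x y, sympForm d F (e x) (e y) = lam (sympForm m L x y) := by
  classical
  let Θ : L →ₗ[F] Module.Dual F L := (LinearMap.mul F L).flip.compr₂ lam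
  have hΘ : ∀ a b, Θ b a = lam (a * b) := fun a b => rfl
  have hinj : Function.Injective Θ := (injective_iff_map_eq_zero _).2 fun b hb => by
    by_contra hb0
    refine hlam (LinearMap.ext fun c => ?_)
    have := LinearMap.congr_fun hb (c * b⁻¹)
    rwa [hΘ, mul_assoc, inv_mul_cancel₀ hb0, mul_one] at this
  let Θe : L ≃ₗ[F] Module.Dual F L := LinearEquiv.ofBijective Θ ⟨hinj,
    (LinearMap.injective_iff_surjective_of_finrank_eq_finrank Subspace.dual_finrank_eq.symm).1 hinj⟩
  let ev : (Fin d ⊕ Fin d → F) → (Fin d ⊕ Fin d → F) → Module.Dual F L := fun u v =>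
    { toFun := fun a => sympForm d F (ι a *ᵥ u) v
      map_add' := fun a b => by rw [map_add, add_mulVec, form_add_left]
      map_smul' := fun r a => by rw [map_smul, smul_mulVec, form_smul_left]; rfl }
  let β : (Fin d ⊕ Fin d → F) → (Fin d ⊕ Fin d → F) → L := fun u v => Θe.symm (ev u v)
  have hβ : ∀ u v a, lam (a * β u v) = sympForm d F (ι a *ᵥ u) v := fun u v a => by
    rw [← hΘ]
    exact LinearMap.congr_fun (Θe.apply_symm_apply (ev u v)) a
  have huniq : ∀ b c : L, (∀ a, lam (a * b) = lam (a * c)) → b = c := fun b c hbc =>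
    hinj (LinearMap.ext fun a => hbc a)
  letI : Module L (Fin d ⊕ Fin d → F) := Module.compHom _ ((Matrix.toLinAlgEquiv'.toAlgHom.comp ι : L →ₐ[F] Module.End F (Fin d ⊕ Fin d → F)) : L →+* Module.End F (Fin d ⊕ Fin d → F))
  have hsmul : ∀ (a : L) (v : (Fin d ⊕ Fin d → F)), a • v = ι a *ᵥ v := fun a v => rfl
  haveI : IsScalarTower F L (Fin d ⊕ Fin d → F) := ⟨fun r a v => by rw [hsmul, hsmul, map_smul, smul_mulVec]⟩
  haveI : Module.Finite L (Fin d ⊕ Fin d → F) := Module.Finite.of_restrictScalars_finite F L (Fin d ⊕ Fin d → F)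
  let B : (Fin d ⊕ Fin d → F) →ₗ[L] (Fin d ⊕ Fin d → F) →ₗ[L] L := LinearMap.mk₂ L β
    (fun u u' v => huniq _ _ fun a => by rw [hβ, mul_add, map_add, hβ, hβ, mulVec_add, form_add_left])
    (fun c u v => huniq _ _ fun a => by rw [hβ, smul_eq_mul, ← mul_assoc, hβ, hsmul, ← act_mul])
    (fun u v v' => huniq _ _ fun a => by rw [hβ, mul_add, map_add, hβ, hβ, form_add_right])
    (fun c u v => huniq _ _ fun a => by
      rw [hβ, smul_eq_mul, ← mul_assoc, hβ, hsmul, ← h.adj, ← act_mul, mul_comm a c])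
  have hB : ∀ v, B v v = 0 := fun v => huniq _ _ fun a => by
    show lam (a * β v v) = _
    rw [hβ, h.alt, mul_zero, map_zero]
  obtain ⟨m, hm, e, -, hgram⟩ := SymplecticAlt.exists_symp_basis B hB _ ⊤ rfl fun u _ hu =>
    form_nondeg fun v => by
      have h0 := hβ u v 1
      rw [show β u v = 0 from hu v Submodule.mem_top, mul_zero, map_zero, map_one, one_mulVec] at h0
      exact h0.symm
  rw [finrank_top] at hm
  have hdim := Module.finrank_mul_finrank F L (Fin d ⊕ Fin d → F)
  rw [hm, show Module.finrank F (Fin d ⊕ Fin d → F) = 2 * d by simp [two_mul]] at hdim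
  refine ⟨m, by rw [mul_left_comm] at hdim; omega, ?_⟩
  let E : (Fin m ⊕ Fin m → L) →ₗ[L] (Fin d ⊕ Fin d → F) := Fintype.linearCombination L e
  have hBE : ∀ x y, B (E x) (E y) = sympForm m L x y := by
    let S : (Fin m ⊕ Fin m → L) →ₗ[L] (Fin m ⊕ Fin m → L) →ₗ[L] L :=
      LinearMap.mk₂ L (sympForm m L) form_add_left form_smul_left form_add_right form_smul_right
    have hS : B.compl₁₂ E E = S := by
      refine (Pi.basisFun L (Fin m ⊕ Fin m)).ext fun s => (Pi.basisFun L (Fin m ⊕ Fin m)).ext fun t => ?_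
      simp only [LinearMap.compl₁₂_apply, Pi.basisFun_apply]
      rw [show E (Pi.single s 1) = e s by simp [E], show E (Pi.single t 1) = e t by simp [E]]
      exact hgram s t
    exact fun x y => LinearMap.congr_fun (LinearMap.congr_fun hS x) y
  have hEinj : Function.Injective E := (injective_iff_map_eq_zero _).2 fun x hx => form_nondeg fun y => by
    rw [← hBE, hx, map_zero, LinearMap.zero_apply]
  have hEsurj : Function.Surjective E :=
    (LinearMap.injective_iff_surjective_of_finrank_eq_finrank (by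
      rw [hm, Module.finrank_pi, Fintype.card_sum, Fintype.card_fin, two_mul])).1 hEinj
  refine ⟨(LinearEquiv.ofBijective E ⟨hEinj, hEsurj⟩).restrictScalars F, fun a x => map_smul E a x, fun x y => ?_⟩
  show sympForm d F (E x) (E y) = _
  have h0 := hβ (E x) (E y) 1
  rw [one_mul, map_one, one_mulVec] at h0
  rw [← h0]
  exact congrArg lam (hBE x y)

/-- A nondegenerate invariant subspace has even dimension over `L`. -/
theorem two_mul_dvd_finrank [FiniteDimensional F L] (h : IsExt ι) (M : Submodule F (Fin d ⊕ Fin d → F))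
    (hM : ∀ a, ∀ v ∈ M, ι a *ᵥ v ∈ M) (hnd : ∀ u ∈ M, (∀ v ∈ M, sympForm d F u v = 0) → u = 0) :
    2 * Module.finrank F L ∣ Module.finrank F M := by
  classical
  obtain ⟨lam, hlam⟩ : ∃ lam : L →ₗ[F] F, lam ≠ 0 := exists_ne _
  obtain ⟨m, -, e, he, hf⟩ := exists_coords h lam hlam
  let W : Submodule L (Fin m ⊕ Fin m → L) :=
    { carrier := {x | e x ∈ M}
      add_mem' := fun {a b} ha hb => by
        show e (a + b) ∈ M
        rw [map_add]; exact M.add_mem ha hb
      zero_mem' := by
        show e 0 ∈ M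
        rw [map_zero]; exact M.zero_mem
      smul_mem' := fun c x hx => by
        show e (c • x) ∈ M
        rw [he]; exact hM c _ hx }
  let B : (Fin m ⊕ Fin m → L) →ₗ[L] (Fin m ⊕ Fin m → L) →ₗ[L] L :=
    LinearMap.mk₂ L (sympForm m L) form_add_left form_smul_left form_add_right form_smul_right
  obtain ⟨t, ht, -⟩ := SymplecticAlt.exists_symp_basis B (fun v => form_self v) _ W rfl fun u hu hu0 => by
    refine e.map_eq_zero_iff.1 (hnd _ hu fun v hv => ?_)
    obtain ⟨y, rfl⟩ := e.surjective v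
    rw [hf, show sympForm m L u y = 0 from hu0 y hv, map_zero]
  have heq : Module.finrank F M = Module.finrank F W := by
    refine (LinearEquiv.finrank_eq (?_ : W ≃ₗ[F] M)).symm
    exact LinearEquiv.ofBijective ((e.toLinearMap.comp (W.subtype.restrictScalars F)).codRestrict M fun x => x.2)
      ⟨fun x y hxy => Subtype.ext (e.injective (congrArg Subtype.val hxy)), fun v => by
        obtain ⟨y, hy⟩ := e.surjective v.1
        exact ⟨⟨y, show e y ∈ M from hy ▸ v.2⟩, Subtype.ext hy⟩⟩
  rw [heq, ← Module.finrank_mul_finrank F L W, ht]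
  exact ⟨t, by ring⟩

/-- An invariant subspace has dimension divisible by the degree. -/
theorem dvd_finrank [FiniteDimensional F L] (M : Submodule F (Fin d ⊕ Fin d → F)) (hM : ∀ a, ∀ v ∈ M, ι a *ᵥ v ∈ M) :
    Module.finrank F L ∣ Module.finrank F M := by
  let φ : L →+* Module.End F M :=
    { toFun := fun a => (Matrix.toLin' (ι a)).restrict (hM a)
      map_one' := LinearMap.ext fun v => Subtype.ext (by
        show ι 1 *ᵥ v.1 = v.1
        rw [map_one, one_mulVec])
      map_mul' := fun a b => LinearMap.ext fun v => Subtype.ext (act_mul a b v.1)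
      map_zero' := LinearMap.ext fun v => Subtype.ext (by
        show ι 0 *ᵥ v.1 = 0
        rw [map_zero, zero_mulVec])
      map_add' := fun a b => LinearMap.ext fun v => Subtype.ext (by
        show ι (a + b) *ᵥ v.1 = ι a *ᵥ v.1 + ι b *ᵥ v.1
        rw [map_add, add_mulVec]) }
  letI : Module L M := Module.compHom _ φ
  haveI : IsScalarTower F L M := ⟨fun r a v => Subtype.ext (by
    show ι (r • a) *ᵥ v.1 = r • (ι a *ᵥ v.1)
    rw [map_smul, smul_mulVec])⟩
  exact Dvd.intro _ (Module.finrank_mul_finrank F L M)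

/-- Fixed vectors of a semilinear map that are independent over `F` are independent over `L`. -/
theorem finrank_fixed_le [FiniteDimensional F L] (A : (Matrix (Fin d ⊕ Fin d) (Fin d ⊕ Fin d) F)) (σ : L ≃ₐ[F] L)
    (hσ : ∀ a, A * ι a = ι (σ a) * A) (hfix : ∀ a, σ a = a → ∃ c : F, a = algebraMap F L c) :
    Module.finrank F L * Module.finrank F (LinearMap.ker (Matrix.toLin' A - LinearMap.id)) ≤ 2 * d := by
  classical
  set W := LinearMap.ker (Matrix.toLin' A - LinearMap.id)
  let b := Module.finBasis F W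
  have hb : ∀ i, A *ᵥ (b i : (Fin d ⊕ Fin d → F)) = (b i : (Fin d ⊕ Fin d → F)) := fun i => by
    have := (b i).2
    rwa [LinearMap.mem_ker, LinearMap.sub_apply, sub_eq_zero] at this
  let Φ : (Fin (Module.finrank F W) → L) →ₗ[F] (Fin d ⊕ Fin d → F) :=
    { toFun := fun c => ∑ i, ι (c i) *ᵥ (b i : (Fin d ⊕ Fin d → F))
      map_add' := fun c c' => by simp [map_add, add_mulVec, Finset.sum_add_distrib]
      map_smul' := fun r c => by simp [smul_mulVec, Finset.smul_sum] }
  have hind : ∀ (s : Finset (Fin (Module.finrank F W))) (c : Fin (Module.finrank F W) → L),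
      (∑ i ∈ s, ι (c i) *ᵥ (b i : (Fin d ⊕ Fin d → F))) = 0 → ∀ i ∈ s, c i = 0 := by
    intro s
    induction s using Finset.induction_on with
    | empty => simp
    | insert a s ha ih =>
      intro c hc
      rw [Finset.sum_insert ha] at hc
      by_cases hca : c a = 0
      · rw [hca, map_zero, zero_mulVec, zero_add] at hc
        exact fun i hi => (Finset.mem_insert.1 hi).elim (fun h => h ▸ hca) (ih c hc i)
      · exfalso
        let c' := fun i => (c a)⁻¹ * c i
        have h1 : ∑ i ∈ s, ι (c' i) *ᵥ (b i : (Fin d ⊕ Fin d → F)) = -(b a : (Fin d ⊕ Fin d → F)) := by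
          have := congrArg (ι (c a)⁻¹ *ᵥ ·) hc
          simp only [mulVec_add, mulVec_sum, ← act_mul, mulVec_zero] at this
          rw [inv_mul_cancel₀ hca, map_one, one_mulVec] at this
          exact eq_neg_of_add_eq_zero_right this
        have h2 : ∑ i ∈ s, ι (σ (c' i)) *ᵥ (b i : (Fin d ⊕ Fin d → F)) = -(b a : (Fin d ⊕ Fin d → F)) := by
          have := congrArg (A *ᵥ ·) h1
          simp only [mulVec_sum, mulVec_neg, mulVec_mulVec, hσ] at this
          simp only [← mulVec_mulVec, hb] at this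
          exact this
        have h3 := ih (fun i => σ (c' i) - c' i) (by
          simp only [map_sub, sub_mulVec, Finset.sum_sub_distrib, h1, h2, sub_self])
        choose! u hu using fun i (hi : i ∈ s) => hfix (c' i) (sub_eq_zero.1 (h3 i hi))
        have h4 : ∑ i ∈ s, u i • (b i : (Fin d ⊕ Fin d → F)) + (b a : (Fin d ⊕ Fin d → F)) = 0 := by
          rw [← eq_neg_iff_add_eq_zero, ← h1]
          refine Finset.sum_congr rfl fun i hi => ?_
          rw [hu i hi, AlgHom.commutes, Algebra.algebraMap_eq_smul_one, smul_mulVec, one_mulVec]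
        let g := fun i => if i = a then (1 : F) else if i ∈ s then u i else 0
        have h5 : ∑ i, g i • b i = 0 := by
          apply Subtype.ext
          rw [AddSubmonoidClass.coe_finsetSum, ZeroMemClass.coe_zero,
            ← Finset.sum_subset (Finset.subset_univ (insert a s)) fun i _ hi => ?_, Finset.sum_insert ha,
            add_comm, ← h4]
          · congr 1
            · refine Finset.sum_congr rfl fun i hi => ?_
              simp [g, ne_of_mem_of_not_mem hi ha, hi]
            · simp [g]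
          · simp only [Finset.mem_insert, not_or] at hi
            simp [g, hi.1, hi.2]
        have := Fintype.linearIndependent_iff.1 b.linearIndependent g h5 a
        simp [g] at this
  have hΦ : Function.Injective Φ := (injective_iff_map_eq_zero _).2 fun c hc =>
    funext fun i => hind Finset.univ c hc i (Finset.mem_univ i)
  have := LinearMap.finrank_le_finrank_of_injective hΦ
  rw [Module.finrank_pi_fintype F (M := fun _ : Fin (Module.finrank F W) => L), Finset.sum_const,
    Finset.card_univ, Fintype.card_fin, smul_eq_mul, show Module.finrank F (Fin d ⊕ Fin d → F) = 2 * d by simp [two_mul]] at this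
  rw [mul_comm]; exact this

/-- A prime dividing the index of a subgroup containing the `L`-linear isometries. -/
theorem not_dvd_relIndex [Fintype F] [FiniteDimensional F L] (h : IsExt ι)
    (H : Subgroup (GL (Fin d ⊕ Fin d) F))
    (hH : ∀ g : GL (Fin d ⊕ Fin d) F, (∀ a, g.1 * ι a = ι a * g.1) → g ∈ H)
    {r : ℕ} (hr : r.Prime) (hrq : ¬ r ∣ Fintype.card F)
    (hj : ∀ j, 1 ≤ j → j ≤ d → r ∣ Fintype.card F ^ (2 * j) - 1 → Module.finrank F L ∣ j) :
    ¬ r ∣ H.relIndex (Cfsg.spGL d F) := by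
  classical
  set q := Fintype.card F with hq
  set k := Module.finrank F L
  have hk : 0 < k := Module.finrank_pos
  haveI : Finite L := Module.finite_of_finite F
  letI : Fintype L := Fintype.ofFinite L
  obtain ⟨lam, hlam⟩ : ∃ lam : L →ₗ[F] F, lam ≠ 0 := exists_ne _
  obtain ⟨m, hdm, e, he, hf⟩ := exists_coords h lam hlam
  replace hdm : d = k * m := hdm
  let Ψ : Matrix (Fin m ⊕ Fin m) (Fin m ⊕ Fin m) L → (Matrix (Fin d ⊕ Fin d) (Fin d ⊕ Fin d) F) := fun M =>
    LinearMap.toMatrix' (e.toLinearMap ∘ₗ ((Matrix.toLin' M).restrictScalars F) ∘ₗ e.symm.toLinearMap)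
  have hΨ : ∀ M x, Ψ M *ᵥ e x = e (M *ᵥ x) := fun M x => by
    rw [← Matrix.toLin'_apply, Matrix.toLin'_toMatrix']; simp
  have hsp : ∀ M : symplecticGroup (Fin m) L, Ψ M.1 ∈ symplecticGroup (Fin d) F := fun M =>
    mem_sp_iff_form.2 fun u v => by
      obtain ⟨x, rfl⟩ := e.surjective u
      obtain ⟨y, rfl⟩ := e.surjective v
      rw [hΨ, hΨ, hf, hf, mem_sp_iff_form.1 M.2]
  let Φ₀ : symplecticGroup (Fin m) L →* symplecticGroup (Fin d) F :=
    { toFun := fun M => ⟨Ψ M.1, hsp M⟩
      map_one' := Subtype.ext (Matrix.mulVec_injective (funext fun v => by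
        obtain ⟨x, rfl⟩ := e.surjective v
        show Ψ 1 *ᵥ e x = 1 *ᵥ e x
        rw [hΨ, one_mulVec, one_mulVec]))
      map_mul' := fun M N => Subtype.ext (Matrix.mulVec_injective (funext fun v => by
        obtain ⟨x, rfl⟩ := e.surjective v
        show Ψ (M.1 * N.1) *ᵥ e x = (Ψ M.1 * Ψ N.1) *ᵥ e x
        rw [← mulVec_mulVec, hΨ, hΨ, hΨ, mulVec_mulVec])) }
  let φ : symplecticGroup (Fin m) L →* ↥(H.subgroupOf (Cfsg.spGL d F)) :=
    { toFun := fun M => ⟨⟨SympSemisimpleClasses.unitsHom d F (Φ₀ M), SympSkew.unitsHom_mem _⟩,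
        hH _ fun a => Matrix.mulVec_injective (funext fun v => by
          obtain ⟨x, rfl⟩ := e.surjective v
          show (Ψ M.1 * ι a) *ᵥ e x = (ι a * Ψ M.1) *ᵥ e x
          rw [← mulVec_mulVec, ← mulVec_mulVec, hΨ, ← he, hΨ, ← he, mulVec_smul])⟩
      map_one' := Subtype.ext (Subtype.ext (by simp))
      map_mul' := fun M N => Subtype.ext (Subtype.ext (by simp)) }
  have hφ : Function.Injective φ := fun M N hMN => by
    have h1 : Ψ M.1 = Ψ N.1 := congrArg (fun z : ↥(H.subgroupOf (Cfsg.spGL d F)) => z.1.1.1) hMN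
    refine Subtype.ext (Matrix.mulVec_injective (funext fun x => e.injective ?_))
    rw [← hΨ, ← hΨ, h1]
  obtain ⟨c, hc⟩ := Subgroup.card_dvd_of_injective φ hφ
  have hcard := (H.subgroupOf (Cfsg.spGL d F)).card_mul_index
  have hL : Fintype.card L = q ^ k := by rw [Module.card_eq_pow_finrank (K := F)]
  rw [hc, SymplecticOrder.card_symplectic hL, SympSkew.card_spGL, SymplecticOrder.card_symplectic hq.symm,
    ← Finset.prod_filter_mul_prod_filter_not (Finset.range d) (fun i => k ∣ i + 1)] at hcard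
  have hS : ∏ i ∈ (Finset.range d).filter (fun i => k ∣ i + 1), (q ^ (2 * (i + 1)) - 1) =
      ∏ i ∈ Finset.range m, ((q ^ k) ^ (2 * (i + 1)) - 1) := by
    refine Finset.prod_nbij' (fun i => (i + 1) / k - 1) (fun i => k * (i + 1) - 1) ?_ ?_ ?_ ?_ ?_
    · intro i hi
      simp only [Finset.mem_filter, Finset.mem_range] at hi ⊢
      obtain ⟨hi, t, ht⟩ := hi
      rw [ht, Nat.mul_div_cancel_left _ hk]
      have : k * t ≤ k * m := by omega
      have := Nat.le_of_mul_le_mul_left this hk
      have : t ≠ 0 := fun h0 => by rw [h0, mul_zero] at ht; omega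
      omega
    · intro i hi
      simp only [Finset.mem_filter, Finset.mem_range] at hi ⊢
      have h1 : k * (i + 1) ≤ k * m := Nat.mul_le_mul_left k hi
      have h2 : 0 < k * (i + 1) := Nat.mul_pos hk (Nat.succ_pos i)
      exact ⟨by omega, i + 1, by omega⟩
    · intro i hi
      simp only [Finset.mem_filter, Finset.mem_range] at hi
      obtain ⟨hi, t, ht⟩ := hi
      try simp only
      rw [ht, Nat.mul_div_cancel_left _ hk]
      have : t ≠ 0 := fun h0 => by rw [h0, mul_zero] at ht; omega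
      rw [Nat.sub_add_cancel (Nat.one_le_iff_ne_zero.2 this)]; omega
    · intro i _
      try simp only
      rw [Nat.sub_add_cancel (Nat.mul_pos hk (Nat.succ_pos i)), Nat.mul_div_cancel_left _ hk]; omega
    · intro i hi
      simp only [Finset.mem_filter, Finset.mem_range] at hi
      obtain ⟨hi, t, ht⟩ := hi
      have : t ≠ 0 := fun h0 => by rw [h0, mul_zero] at ht; omega
      try simp only
      rw [ht, Nat.mul_div_cancel_left _ hk, Nat.sub_add_cancel (Nat.one_le_iff_ne_zero.2 this), ← pow_mul]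
      congr 2
      ring
  rw [hS] at hcard
  intro hdvd
  have hpos : 0 < ∏ i ∈ Finset.range m, ((q ^ k) ^ (2 * (i + 1)) - 1) := Finset.prod_pos fun i _ =>
    Nat.sub_pos_of_lt (Nat.one_lt_pow (by omega) (Nat.one_lt_pow hk.ne' Fintype.one_lt_card))
  have key : (q ^ k) ^ (m ^ 2) * (c * (H.subgroupOf (Cfsg.spGL d F)).index) =
      q ^ (d ^ 2) * ∏ i ∈ (Finset.range d).filter (fun i => ¬ k ∣ i + 1), (q ^ (2 * (i + 1)) - 1) := by
    apply Nat.eq_of_mul_eq_mul_left hpos
    calc _ = _ := by ring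
      _ = _ := hcard
      _ = _ := by ring
  have hd' : r ∣ q ^ (d ^ 2) * ∏ i ∈ (Finset.range d).filter (fun i => ¬ k ∣ i + 1), (q ^ (2 * (i + 1)) - 1) := by
    rw [← key]
    exact dvd_mul_of_dvd_right (dvd_mul_of_dvd_right hdvd _) _
  rcases hr.prime.dvd_or_dvd hd' with h1 | h1
  · exact hrq (hr.dvd_of_dvd_pow h1)
  · obtain ⟨i, hi, hri⟩ := hr.prime.exists_mem_finset_dvd h1
    rw [Finset.mem_filter, Finset.mem_range] at hi
    exact hi.2 (hj (i + 1) (by omega) hi.1 hri)

end Cfsg.Agent.SympFieldExt
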