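import Mathlib
import Cfsg.Prelude.Def_GeometricClasses
import Cfsg.Agent.Lib.SympFieldExt
import Cfsg.Agent.Lib.SympPrimeElements
import Cfsg.Agent.Lib.SymplecticInvol

/-!
Elements of prime order in the symplectic group and field extension subgroups.
-/

set_option autoImplicit false

open Matrix

namespace Cfsg.Agent.SympFieldExtDerange

open Cfsg.Agent.SymplecticBasic Cfsg.Agent.SympFieldExt

variable {F : Type*} [Field F] [Fintype F] {L : Type*} [Field L] [Algebra F L] [FiniteDimensional F L] {d : ℕ}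
  {ι : L →ₐ[F] Matrix (Fin d ⊕ Fin d) (Fin d ⊕ Fin d) F}

/-- An element permuting `ι L` does it through an automorphism. -/
theorem exists_aut [Nonempty (Fin d)] (y : GL (Fin d ⊕ Fin d) F) (hy : ∀ a, ∃ b, y.1 * ι a = ι b * y.1) :
    ∃ σ : L ≃ₐ[F] L, ∀ a, y.1 * ι a = ι (σ a) * y.1 := by
  choose σ hσ using hy
  have huniq : ∀ a b, ι a * y.1 = ι b * y.1 → a = b := fun a b h =>
    ι.toRingHom.injective (y.isUnit.mul_left_injective h :)
  let φ : L →ₐ[F] L :=
    { toFun := σ
      map_one' := huniq _ _ (by rw [← hσ, map_one, mul_one, one_mul])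
      map_mul' := fun a b => huniq _ _ (by
        rw [← hσ, map_mul, ← mul_assoc, hσ, mul_assoc, hσ, ← mul_assoc, map_mul])
      map_zero' := huniq _ _ (by rw [← hσ, map_zero, mul_zero, zero_mul])
      map_add' := fun a b => huniq _ _ (by rw [← hσ, map_add, mul_add, hσ, hσ, map_add, add_mul])
      commutes' := fun c => huniq _ _ (by rw [← hσ, AlgHom.commutes, Algebra.commutes]) }
  exact ⟨AlgEquiv.ofBijective φ φ.bijective, fun a => hσ a⟩

theorem forward {p q r : ℕ} [Fact p.Prime] [CharP F p] (hq : Fintype.card F = q) (hd : 2 ≤ d)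
    (hk : (Module.finrank F L).Prime) (h : IsExt ι) (H : Subgroup (GL (Fin d ⊕ Fin d) F))
    (hH : ∀ g : GL (Fin d ⊕ Fin d) F, g ∈ H ↔ ∀ a, ∃ b, g.1 * ι a = ι b * g.1)
    (hr : r.Prime) (hΩ : r ∣ H.relIndex (Cfsg.spGL d F))
    (hall : ∀ x ∈ Cfsg.spGL d F, (∃ z : F, (x ^ r : GL (Fin d ⊕ Fin d) F).1 = z • 1) →
      (∀ z : F, x.1 ≠ z • 1) → ∃ g ∈ Cfsg.spGL d F, g⁻¹ * x * g ∈ H) :
    r = 2 ∧ d = 2 ∧ Module.finrank F L = 2 ∧ Odd q := by
  classical
  have : Nonempty (Fin d) := ⟨⟨0, by omega⟩⟩
  have : Finite L := Module.finite_of_finite F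
  obtain ⟨f, hpp, hf⟩ := FiniteField.card F p
  by_contra hnot
  set k := Module.finrank F L with hkdef
  let φ := SympSemisimpleClasses.unitsHom d F
  suffices ∃ x : ↥(symplecticGroup (Fin d) F), x ^ r = 1 ∧
      (∀ z : F, x.1 ≠ z • (1 : Matrix (Fin d ⊕ Fin d) (Fin d ⊕ Fin d) F)) ∧
      ∀ ι' : L →ₐ[F] Matrix (Fin d ⊕ Fin d) (Fin d ⊕ Fin d) F, IsExt ι' → ∀ σ : L ≃ₐ[F] L,
        (∀ a, x.1 * ι' a = ι' (σ a) * x.1) → σ = 1 ∨ (r = k ∧ ∀ a, σ a = a → ∃ c : F, a = algebraMap F L c) →
        False by
    obtain ⟨x, hxr, hxs, hx⟩ := this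
    obtain ⟨g, hg, hgN⟩ := hall (φ x) (SympSkew.unitsHom_mem x)
      ⟨1, by rw [← map_pow, hxr, map_one, Units.val_one, one_smul]⟩ hxs
    obtain ⟨σ, hσ⟩ := exists_aut _ ((hH _).1 hgN)
    let gs : ↥(symplecticGroup (Fin d) F) := ⟨g.1, SympSkew.mem_spGL.1 hg⟩
    have hgs : φ gs = g := Units.ext rfl
    set y := gs⁻¹ * x * gs with hy
    have hyv : (g⁻¹ * φ x * g).1 = y.1 := by rw [← hgs, ← map_inv, ← map_mul, ← map_mul]; rfl
    rw [hyv] at hσ
    refine hx _ (h.conj gs) σ (fun a => ?_) ?_
    · have hi : (gs⁻¹).1 * gs.1 = 1 := congrArg Subtype.val (inv_mul_cancel gs)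
      have hxy : x.1 = gs.1 * y.1 * (gs⁻¹).1 := by
        rw [← Submonoid.coe_mul, ← Submonoid.coe_mul, hy]; congr 1; group
      rw [conj_apply, conj_apply, hxy]
      calc gs.1 * y.1 * (gs⁻¹).1 * (gs.1 * ι a * (gs⁻¹).1)
          = gs.1 * (y.1 * ((gs⁻¹).1 * gs.1) * ι a) * (gs⁻¹).1 := by simp only [mul_assoc]
        _ = gs.1 * (ι (σ a) * ((gs⁻¹).1 * gs.1) * y.1) * (gs⁻¹).1 := by rw [hi, mul_one, mul_one, hσ]
        _ = _ := by simp only [mul_assoc]
    · rcases eq_or_ne σ 1 with h1 | h1
      · exact Or.inl h1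
      refine Or.inr ?_
      have hyr : y ^ r = 1 := by
        rw [hy, show gs⁻¹ * x * gs = MulAut.conj gs⁻¹ x by rw [MulAut.conj_apply, inv_inv], ← map_pow, hxr, map_one]
      have hpow : ∀ (n : ℕ) a, (y ^ n).1 * ι a = ι ((σ ^ n) a) * (y ^ n).1 := by
        intro n
        induction n with
        | zero => intro a; simp
        | succ n ih =>
          intro a
          rw [pow_succ, Submonoid.coe_mul, mul_assoc, hσ, ← mul_assoc, ih, mul_assoc, pow_succ, AlgEquiv.mul_apply]
      have hσr : σ ^ r = 1 := AlgEquiv.ext fun a => by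
        have := hpow r a
        rw [hyr, OneMemClass.coe_one, one_mul, mul_one] at this
        exact (ι.toRingHom.injective this.symm :)
      have := Fact.mk hr
      have ho : orderOf σ = r := orderOf_eq_prime hσr h1
      have hcard : Nat.card (L ≃ₐ[F] L) = k := IsGalois.card_aut_eq_finrank F L
      have hrk : r = k := by
        have := orderOf_dvd_natCard (G := L ≃ₐ[F] L) σ
        rw [ho, hcard] at this
        exact (Nat.prime_dvd_prime_iff_eq hr hk).1 this
      refine ⟨hrk, fun a ha => ?_⟩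
      have htop : Subgroup.zpowers σ = ⊤ := by
        refine Subgroup.eq_top_of_card_eq _ ?_
        rw [Nat.card_zpowers, ho, hcard, hrk]
      have hbot : a ∈ (⊥ : IntermediateField F L) := (IsGalois.mem_bot_iff_fixed a).2 fun τ => by
        obtain ⟨n, rfl⟩ := Subgroup.mem_zpowers_iff.1 (htop ▸ Subgroup.mem_top τ)
        have hmem : σ ∈ MulAction.stabilizer (L ≃ₐ[F] L) a := ha
        exact Subgroup.zpow_mem _ hmem n
      obtain ⟨c, hc⟩ := IntermediateField.mem_bot.1 hbot
      exact ⟨c, hc.symm⟩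
  have hk2 := hk.two_le
  rcases eq_or_ne r p with hrp | hrp
  · -- a transvection
    let v : Fin d ⊕ Fin d → F := Pi.single (Sum.inl ⟨0, by omega⟩) 1
    let w : Fin d ⊕ Fin d → F := Pi.single (Sum.inr ⟨0, by omega⟩) 1
    have hwv : sympForm d F w v = 1 := by
      rw [form_single_inl_right]; simp [w]
    have hv0 : v ≠ 0 := by simp [v]
    refine ⟨transv v 1, ?_, fun z hz => ?_, fun ι' hι' σ hσ hcase => ?_⟩
    · have : ∀ n : ℕ, transv v (1 : F) ^ n = transv v (n : F) := by
        intro n
        induction n with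
        | zero => rw [pow_zero, Nat.cast_zero, transv_zero]
        | succ n ih => rw [pow_succ, ih, transv_add, Nat.cast_succ]
      rw [this, hrp, CharP.cast_eq_zero, transv_zero]
    · have h1 := transv_smul v (1 : F) w
      rw [smul_def, hz, Matrix.smul_mulVec, Matrix.one_mulVec, hwv, mul_one, one_smul] at h1
      have := congrFun h1 (Sum.inl ⟨0, by omega⟩)
      simp [v, w] at this
    · rcases hcase with rfl | ⟨-, hfix⟩
      · have hsur : Function.Surjective (algebraMap F L) := fun a => by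
          have h1 := congrArg (· *ᵥ w) (hσ a)
          simp only [AlgEquiv.one_apply, ← Matrix.mulVec_mulVec, coe_transv, transvection_mulVec, Matrix.mulVec_add,
            hwv, one_mul, one_smul, add_right_inj] at h1
          refine ⟨sympForm d F (ι' a *ᵥ w) v, (sub_eq_zero.1 ?_).symm⟩
          by_contra hne
          refine hv0 (act_injective (ι := ι') _ hne ?_)
          rw [map_sub, sub_mulVec, AlgHom.commutes, Algebra.algebraMap_eq_smul_one, smul_mulVec, one_mulVec,
            ← h1, sub_self]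
        have : k ≤ 1 := by
          rw [hkdef, ← Module.finrank_self F]
          exact LinearMap.finrank_le_finrank_of_surjective (f := Algebra.linearMap F L) hsur
        omega
      · have hle := finrank_fixed_le _ σ hσ hfix (ι := ι')
        let Φ : (Fin d ⊕ Fin d → F) →ₗ[F] F :=
          { toFun := fun u => sympForm d F u v
            map_add' := fun a b => form_add_left a b v
            map_smul' := fun c a => form_smul_left c a v }
        have h1 := LinearMap.finrank_range_add_finrank_ker Φ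
        have h2 := Submodule.finrank_le (LinearMap.range Φ)
        rw [Module.finrank_self] at h2
        have h3 : LinearMap.ker Φ ≤ LinearMap.ker (Matrix.toLin' (transv v (1 : F)).1 - LinearMap.id) := fun u hu => by
          rw [LinearMap.mem_ker, LinearMap.sub_apply, sub_eq_zero, Matrix.toLin'_apply, coe_transv,
            transvection_mulVec, show sympForm d F u v = 0 from hu, mul_zero, zero_smul, add_zero]
          rfl
        have h4 := Submodule.finrank_mono h3
        rw [Module.finrank_pi, Fintype.card_sum, Fintype.card_fin] at h1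
        have := (Nat.mul_le_mul_right _ hk2).trans hle
        omega
  rcases eq_or_ne r 2 with hr2 | hr2
  · -- an involution
    have h2 : (2 : F) ≠ 0 := fun h => hrp (hr2 ▸ ((Nat.prime_dvd_prime_iff_eq hpp Nat.prime_two).1
      ((CharP.cast_eq_zero_iff F p 2).1 (by exact_mod_cast h))).symm)
    have hodd : Odd q := by
      rw [← hq, hf]
      exact (hpp.odd_of_ne_two fun h => hrp (hr2.trans h.symm)).pow
    have hne : (1 : F) ≠ -1 := fun h => h2 (by linear_combination h)
    let a0 : Fin d := ⟨0, by omega⟩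
    let a1 : Fin d := ⟨1, by omega⟩
    let x := SymplecticInvol.signEl F d 1
    have hx : ∀ u s, (x.1 *ᵥ u) s = (if (Sum.elim id id s : Fin d) = a0 then 1 else -1) * u s := fun u s => by
      show (Matrix.diagonal _ *ᵥ u) s = _
      rw [Matrix.mulVec_diagonal]
      rcases s with i | i <;> simp [a0, Fin.ext_iff]
    have hxx : x ^ r = 1 := by
      subst hr2
      refine Subtype.ext (Matrix.mulVec_injective (funext fun u => funext fun s => ?_))
      rw [pow_two, Submonoid.coe_mul, ← mulVec_mulVec, hx, hx, OneMemClass.coe_one, one_mulVec]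
      split_ifs <;> simp
    refine ⟨x, hxx, fun z hz => ?_, fun ι' hι' σ hσ hcase => ?_⟩
    · have e0 := hx (Pi.single (Sum.inl a0) 1) (Sum.inl a0)
      have e1 := hx (Pi.single (Sum.inl a1) 1) (Sum.inl a1)
      rw [hz, smul_mulVec, one_mulVec] at e0 e1
      simp [a0, a1] at e0 e1
      exact hne (e0.symm.trans e1)
    let Φ : (Fin 2 → F) →ₗ[F] (Fin d ⊕ Fin d → F) := Fintype.linearCombination F
      ![Pi.single (Sum.inl a0) 1, Pi.single (Sum.inr a0) 1]
    have hΦ0 : ∀ c, Φ c (Sum.inl a0) = c 0 ∧ Φ c (Sum.inr a0) = c 1 := fun c => by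
      simp [Φ, Fintype.linearCombination_apply, Fin.sum_univ_two]
    have hΦinj : Function.Injective Φ := fun c c' hc => funext fun i => by
      fin_cases i
      · exact (hΦ0 c).1.symm.trans ((congrFun hc _).trans (hΦ0 c').1)
      · exact (hΦ0 c).2.symm.trans ((congrFun hc _).trans (hΦ0 c').2)
    have hM : ∀ u, u ∈ LinearMap.range Φ ↔ x.1 *ᵥ u = u := fun u => by
      constructor
      · rintro ⟨c, rfl⟩
        funext s
        rw [hx]
        rcases s with i | i <;> by_cases hi : i = a0 <;>
          simp [Φ, Fintype.linearCombination_apply, Fin.sum_univ_two, hi, Pi.single_apply]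
      · intro hu
        refine ⟨![u (Sum.inl a0), u (Sum.inr a0)], funext fun s => ?_⟩
        have h0 := congrFun hu s
        rw [hx] at h0
        rcases s with i | i <;> by_cases hi : i = a0
        all_goals simp [Φ, Fintype.linearCombination_apply, Fin.sum_univ_two, hi, Pi.single_apply] at h0 ⊢
        all_goals
          have h0' : (2 : F) * _ = 0 := (two_mul _).trans (neg_eq_iff_add_eq_zero.1 h0)
          exact ((mul_eq_zero.1 h0').resolve_left h2).symm
    rcases hcase with rfl | ⟨hrk, hfix⟩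
    · have hdvd := two_mul_dvd_finrank hι' (LinearMap.range Φ) (fun a u hu => (hM _).2 (by
          rw [mulVec_mulVec, hσ, ← mulVec_mulVec, (hM u).1 hu, AlgEquiv.one_apply]))
        (fun u hu hperp => by
          obtain ⟨c, rfl⟩ := hu
          have e0 := hperp _ ⟨Pi.single 0 1, rfl⟩
          have e1 := hperp _ ⟨Pi.single 1 1, rfl⟩
          have hs : ∀ i, Φ (Pi.single i 1) = ![Pi.single (Sum.inl a0) 1, Pi.single (Sum.inr a0) 1] i := fun i => by
            simp [Φ]
          simp only [hs, Matrix.cons_val_zero, Matrix.cons_val_one, form_single_inl_right, form_single_inr_right,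
            (hΦ0 c).1, (hΦ0 c).2, neg_eq_zero] at e0 e1
          rw [show c = 0 from funext fun i => by fin_cases i <;> simp_all, map_zero])
      rw [LinearMap.finrank_range_of_inj hΦinj, Module.finrank_pi, Fintype.card_fin] at hdvd
      have := Nat.le_of_dvd (by norm_num) hdvd
      omega
    · refine hnot ⟨hr2, ?_, hrk.symm.trans hr2, hodd⟩
      by_contra hd2
      let a2 : Fin d := ⟨2, by omega⟩
      obtain ⟨a, ha⟩ : ∃ a, σ a ≠ a := by
        by_contra h'
        push_neg at h'
        have hsur : Function.Surjective (algebraMap F L) := fun a => (hfix a (h' a)).imp fun c hc => hc.symm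
        have : k ≤ 1 := by
          rw [hkdef, ← Module.finrank_self F]
          exact LinearMap.finrank_le_finrank_of_surjective (f := Algebra.linearMap F L) hsur
        omega
      have hσσ : ∀ b, σ (σ b) = b := fun b => by
        refine (ι'.toRingHom.injective ?_ :)
        have hone : x.1 * x.1 = 1 := by rw [← Submonoid.coe_mul, ← pow_two, ← hr2, hxx, OneMemClass.coe_one]
        show ι' (σ (σ b)) = ι' b
        calc ι' (σ (σ b)) = ι' (σ (σ b)) * (x.1 * x.1) := by rw [hone, mul_one]
          _ = x.1 * (x.1 * ι' b) := by rw [← mul_assoc, ← hσ, mul_assoc, ← hσ]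
          _ = ι' b := by rw [← mul_assoc, hone, one_mul]
      set δ := a - σ a with hδ
      have hδσ : σ δ = -δ := by rw [hδ, map_sub, hσσ, neg_sub]
      let Ψ : (Fin 3 → F) →ₗ[F] (Fin d ⊕ Fin d → F) := Fintype.linearCombination F
        ![Pi.single (Sum.inl a1) 1, Pi.single (Sum.inr a1) 1, Pi.single (Sum.inl a2) 1]
      have hΨ : ∀ c, x.1 *ᵥ Ψ c = -Ψ c := fun c => funext fun s => by
        rw [hx]
        rcases s with i | i <;> by_cases hi : i = a0 <;> simp [a0, Fin.ext_iff] at hi <;>
          simp [Ψ, Fintype.linearCombination_apply, Fin.sum_univ_three, hi, Pi.single_apply, a0, a1, a2, Fin.ext_iff] <;>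
          split_ifs <;> simp
      have hΨinj : Function.Injective Ψ := fun c c' hc => funext fun i => by
        have e0 := congrFun hc (Sum.inl a1)
        have e1 := congrFun hc (Sum.inr a1)
        have e2 := congrFun hc (Sum.inl a2)
        simp [Ψ, Fintype.linearCombination_apply, Fin.sum_univ_three, a1, a2, Fin.ext_iff, Pi.single_apply] at e0 e1 e2
        fin_cases i <;> assumption
      let T := ((Matrix.toLin' (ι' δ)) ∘ₗ Ψ).codRestrict (LinearMap.range Φ) fun c => (hM _).2 (by
        show x.1 *ᵥ (ι' δ *ᵥ Ψ c) = ι' δ *ᵥ Ψ c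
        rw [mulVec_mulVec, hσ, hδσ, map_neg, ← mulVec_mulVec, hΨ, neg_mulVec, mulVec_neg, neg_neg])
      have hT : Function.Injective T := (injective_iff_map_eq_zero _).2 fun c hc =>
        (map_eq_zero_iff Ψ hΨinj).1 (act_injective (ι := ι') δ (sub_ne_zero.2 (Ne.symm ha)) (congrArg Subtype.val hc))
      have := LinearMap.finrank_le_finrank_of_injective hT
      rw [LinearMap.finrank_range_of_inj hΦinj, Module.finrank_pi, Module.finrank_pi, Fintype.card_fin,
        Fintype.card_fin] at this
      omega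
  · obtain ⟨i, hi⟩ : ∃ i, i = orderOf (q : ZMod r) := ⟨_, rfl⟩
    have hnq : ¬ r ∣ Fintype.card F := fun h => by
      rw [hf] at h
      exact hrp ((Nat.prime_dvd_prime_iff_eq hr hpp).1 (hr.dvd_of_dvd_pow h))
    have hfit : ∃ j, 1 ≤ j ∧ j ≤ d ∧ (q : ZMod r) ^ (2 * j) = 1 := by
      have hdvd : r ∣ Nat.card (Cfsg.spGL d F) := hΩ.trans (Subgroup.index_dvd_card _)
      rw [SympSkew.card_spGL, SymplecticOrder.card_symplectic hq] at hdvd
      rcases hr.prime.dvd_or_dvd hdvd with h | h
      · exact absurd (hq ▸ hr.dvd_of_dvd_pow h) hnq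
      · obtain ⟨j, hj, hrj⟩ := hr.prime.exists_mem_finset_dvd h
        rw [← ZMod.natCast_eq_zero_iff, Nat.cast_sub (Nat.one_le_pow _ _ (hq ▸ Fintype.card_pos)),
          Nat.cast_pow, Nat.cast_one, sub_eq_zero] at hrj
        exact ⟨j + 1, by omega, Finset.mem_range.1 hj, hrj⟩
    obtain ⟨x, M, hB⟩ := SympPrimeElements.exists_block (p := p) hq hd hr hr2 hrp hi hfit
    refine ⟨x, hB.pow, hB.not_scalar, fun ι' hι' σ hσ hcase => ?_⟩
    have := Fact.mk hr
    rcases hcase with rfl | ⟨hrk, hfix⟩
    · have hst : ∀ a, ∀ v ∈ M, ι' a *ᵥ v ∈ M := fun a v hv => by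
        have := hB.stable (Matrix.toLin' (ι' a)) (by
          show Matrix.toLin' (ι' a) ∘ₗ Matrix.toLin' x.1 = Matrix.toLin' x.1 ∘ₗ Matrix.toLin' (ι' a)
          rw [← Matrix.toLin'_mul, ← Matrix.toLin'_mul, hσ, AlgEquiv.one_apply]) v hv
        rwa [Matrix.toLin'_apply] at this
      have hki : k ∣ i := hB.finrank ▸ dvd_finrank M hst
      refine not_dvd_relIndex h H (fun g hg => (hH g).2 fun a => ⟨a, hg a⟩) hr hnq (fun j hj1 hjd hrj => ?_) hΩ
      have hij : i ∣ 2 * j := hi ▸ orderOf_dvd_of_pow_eq_one (by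
        rwa [← ZMod.natCast_eq_zero_iff, Nat.cast_sub (Nat.one_le_pow _ _ Fintype.card_pos),
          Nat.cast_pow, Nat.cast_one, sub_eq_zero, hq] at hrj)
      rcases Nat.even_or_odd i with hev | hod
      · have h2k := hB.finrank ▸ two_mul_dvd_finrank hι' M hst (hB.nondeg hev)
        exact Nat.dvd_of_mul_dvd_mul_left (by norm_num) (h2k.trans hij)
      · exact hki.trans ((Nat.Coprime.dvd_mul_left (Nat.coprime_two_right.2 hod)).1 hij)
    · have hle := finrank_fixed_le x.1 σ hσ hfix (ι := ι')
      obtain ⟨lam, hlam⟩ : ∃ lam : L →ₗ[F] F, lam ≠ 0 := exists_ne _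
      obtain ⟨m, hdm, -⟩ := exists_coords h lam hlam
      have hkd : k ≤ d := Nat.le_of_dvd (by omega) ⟨m, hdm⟩
      have hir : i ∣ r - 1 := hi ▸ ZMod.orderOf_dvd_card_sub_one (fun h0 => hnq (by
        rw [hq, ← ZMod.natCast_eq_zero_iff]; exact h0))
      have hr1 : 0 < r - 1 := Nat.sub_pos_of_lt hr.one_lt
      have he : (if Even i then i else 2 * i) ≤ r - 1 := by
        split_ifs with hev
        · exact Nat.le_of_dvd hr1 hir
        · refine Nat.le_of_dvd hr1 (Nat.Coprime.mul_dvd_of_dvd_of_dvd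
            (Nat.coprime_two_left.2 (Nat.not_even_iff_odd.1 hev)) ?_ hir)
          obtain ⟨t, ht⟩ := hr.odd_of_ne_two hr2
          omega
      have h5 := hB.fixed
      have h6 : 2 * d ≤ Module.finrank F (LinearMap.ker (Matrix.toLin' x.1 - LinearMap.id)) + (r - 1) :=
        le_trans h5 (Nat.add_le_add_left he _)
      have h7 := (Nat.mul_le_mul_right _ (show 3 ≤ k by have := hr.two_le; omega)).trans hle
      omega

end Cfsg.Agent.SympFieldExtDerange
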