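import Mathlib
import Cfsg.Agent.Lib.SympFieldExt
import Cfsg.Agent.Lib.SymplecticInvol

/-!
Involutions of `Sp_4` normalize a quadratic field extension structure.
-/

set_option autoImplicit false

open Matrix

namespace Cfsg.Agent.SympFieldExtInvol

open Cfsg.Agent.SymplecticBasic Cfsg.Agent.SympFieldExt

variable {F : Type*} [Field F] [Fintype F] {L : Type*} [Field L] [Algebra F L] [FiniteDimensional F L] {d : ℕ}
  {ι : L →ₐ[F] Matrix (Fin d ⊕ Fin d) (Fin d ⊕ Fin d) F}

theorem form_map_comp {m : ℕ} (σ : L ≃ₐ[F] L) (x y : Fin m ⊕ Fin m → L) :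
    sympForm m L (σ ∘ x) (σ ∘ y) = σ (sympForm m L x y) := by
  have hJ : ∀ i j, σ (Matrix.J (Fin m) L i j) = Matrix.J (Fin m) L i j := by
    rintro (i | i) (j | j) <;> by_cases hij : i = j <;> simp [Matrix.J, hij]
  simp [sympForm, dotProduct, Matrix.mulVec, map_sum, map_mul, hJ]

theorem conj_normalizes (h2 : (2 : F) ≠ 0) (h : IsExt ι) (hd : d = 2) (hk : Module.finrank F L = 2)
    (xs : symplecticGroup (Fin d) F) (z : F) (hz : xs.1 * xs.1 = z • 1)
    (hns : ∀ c : F, xs.1 ≠ c • (1 : Matrix (Fin d ⊕ Fin d) (Fin d ⊕ Fin d) F)) :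
    ∃ y : symplecticGroup (Fin d) F, IsConj y xs ∧ ∀ a, ∃ b, y.1 * ι a = ι b * y.1 := by
  classical
  subst hd
  have : Finite L := Module.finite_of_finite F
  obtain ⟨m, hm, e, he, hf⟩ := exists_coords h (Algebra.trace F L) (Algebra.trace_ne_zero F L)
  obtain rfl : m = 1 := by rw [hk] at hm; omega
  have hxx : ∀ v : Fin 2 ⊕ Fin 2 → F, xs • xs • v = z • v := fun v => by
    rw [smul_def, smul_def, mulVec_mulVec, hz, smul_mulVec, one_mulVec]
  have hz2 : z * z = 1 := by
    have h1 := form_map (xs * xs) (Pi.single (Sum.inr 0) 1) (Pi.single (Sum.inl 0) 1 : Fin 2 ⊕ Fin 2 → F)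
    rw [mul_smul, mul_smul, hxx, hxx, form_smul_left, form_smul_right, form_single_inl_right] at h1
    simpa using h1
  rcases mul_self_eq_one_iff.1 hz2 with hz1 | hz1
  · subst hz1
    obtain ⟨σ, hσ⟩ : ∃ σ : L ≃ₐ[F] L, σ ≠ 1 := by
      have : Nontrivial (L ≃ₐ[F] L) := by
        rw [← Finite.one_lt_card_iff_nontrivial, IsGalois.card_aut_eq_finrank, hk]; norm_num
      exact exists_ne 1
    have hσσ : ∀ a, σ (σ a) = a := fun a => by
      have := pow_card_eq_one' (x := σ)
      rw [IsGalois.card_aut_eq_finrank, hk, pow_two] at this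
      exact AlgEquiv.ext_iff.1 this a
    obtain ⟨a, ha⟩ : ∃ a, σ a ≠ a := by
      by_contra h'
      push_neg at h'
      exact hσ (AlgEquiv.ext h')
    let Y : Matrix (Fin 2 ⊕ Fin 2) (Fin 2 ⊕ Fin 2) F :=
      LinearMap.toMatrix' (e.toLinearMap ∘ₗ σ.toLinearMap.compLeft (Fin 1 ⊕ Fin 1) ∘ₗ e.symm.toLinearMap)
    have hY : ∀ x, Y *ᵥ e x = e (σ ∘ x) := fun x => by
      rw [← Matrix.toLin'_apply, Matrix.toLin'_toMatrix']
      simp [LinearMap.compLeft]
    have hYm : Y ∈ symplecticGroup (Fin 2) F := mem_sp_iff_form.2 fun u v => by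
      obtain ⟨x, rfl⟩ := e.surjective u
      obtain ⟨y, rfl⟩ := e.surjective v
      rw [hY, hY, hf, hf, form_map_comp, Algebra.trace_eq_of_algEquiv]
    let y : symplecticGroup (Fin 2) F := ⟨Y, hYm⟩
    have hyy : ∀ v : Fin 2 ⊕ Fin 2 → F, y • y • v = v := fun v => by
      obtain ⟨x, rfl⟩ := e.surjective v
      show Y *ᵥ (Y *ᵥ e x) = e x
      rw [hY, hY]
      exact congrArg e (funext fun i => hσσ (x i))
    have hcomm : ∀ b, y.1 * ι b = ι (σ b) * y.1 := fun b => Matrix.mulVec_injective (funext fun v => by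
      obtain ⟨x, rfl⟩ := e.surjective v
      show (Y * ι b) *ᵥ e x = (ι (σ b) * Y) *ᵥ e x
      rw [← mulVec_mulVec, ← mulVec_mulVec, ← he, hY, hY, ← he]
      exact congrArg e (funext fun i => map_mul σ b (x i)))
    have key : ∀ (u : symplecticGroup (Fin 2) F) (j : ℕ), IsConj (SymplecticInvol.signEl F 2 j) u → j ≤ 2 →
        (∀ c : F, u.1 ≠ c • 1) → j = 1 := by
      intro u j hj hj2 hu
      by_contra hj1
      obtain ⟨c, hc⟩ := isConj_iff.1 hj
      have hs : ∃ t : F, (SymplecticInvol.signEl F 2 j).1 = t • 1 := by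
        rcases (show j = 0 ∨ j = 2 by omega) with rfl | rfl
        · refine ⟨-1, Matrix.ext fun a b => ?_⟩
          show Matrix.diagonal _ a b = _
          by_cases hab : a = b
          · subst hab; rcases a with i | i <;> simp
          · simp [hab]
        · refine ⟨1, Matrix.ext fun a b => ?_⟩
          show Matrix.diagonal _ a b = _
          by_cases hab : a = b
          · subst hab; rcases a with i | i <;> fin_cases i <;> simp
          · simp [hab]
      obtain ⟨t, ht⟩ := hs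
      refine hu t ?_
      rw [← hc, Submonoid.coe_mul, Submonoid.coe_mul, ht, Matrix.mul_smul, mul_one, Matrix.smul_mul,
        ← Submonoid.coe_mul, mul_inv_cancel, OneMemClass.coe_one]
    obtain ⟨j, hj2, hj⟩ := SymplecticInvol.conj_signEl h2 xs (fun v => by rw [hxx, one_smul])
    obtain ⟨j', hj2', hj'⟩ := SymplecticInvol.conj_signEl h2 y hyy
    have hys : ∀ c : F, y.1 ≠ c • 1 := fun c hc => by
      have h1 := hcomm a
      rw [hc, Matrix.smul_mul, one_mul, Matrix.mul_smul, mul_one, ← map_smul, ← map_smul] at h1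
      have hc0 : c ≠ 0 := fun h0 => by
        have := hyy (Pi.single (Sum.inl 0) 1)
        rw [smul_def, smul_def, hc, h0, zero_smul, zero_mulVec] at this
        simpa using congrFun this (Sum.inl 0)
      exact ha ((IsUnit.smul_left_cancel hc0.isUnit).1 (ι.toRingHom.injective h1 :)).symm
    obtain rfl := key xs j hj hj2 hns
    obtain rfl := key y j' hj' hj2' hys
    exact ⟨y, hj'.symm.trans hj, fun b => ⟨σ b, hcomm b⟩⟩
  · subst hz1
    let Y : Matrix (Fin 2 ⊕ Fin 2) (Fin 2 ⊕ Fin 2) F :=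
      LinearMap.toMatrix' (e.toLinearMap ∘ₗ ((Matrix.toLin' (SymplecticGroup.symJ (Fin 1) L).1).restrictScalars F) ∘ₗ
        e.symm.toLinearMap)
    have hY : ∀ x, Y *ᵥ e x = e ((SymplecticGroup.symJ (Fin 1) L).1 *ᵥ x) := fun x => by
      rw [← Matrix.toLin'_apply, Matrix.toLin'_toMatrix']; simp
    have hYm : Y ∈ symplecticGroup (Fin 2) F := mem_sp_iff_form.2 fun u v => by
      obtain ⟨x, rfl⟩ := e.surjective u
      obtain ⟨y, rfl⟩ := e.surjective v
      rw [hY, hY, hf, hf, mem_sp_iff_form.1 (SymplecticGroup.symJ (Fin 1) L).2]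
    let y : symplecticGroup (Fin 2) F := ⟨Y, hYm⟩
    have hyy : ∀ v : Fin 2 ⊕ Fin 2 → F, y • y • v = -v := fun v => by
      obtain ⟨x, rfl⟩ := e.surjective v
      show Y *ᵥ (Y *ᵥ e x) = -e x
      rw [hY, hY, mulVec_mulVec, show (SymplecticGroup.symJ (Fin 1) L).1 * (SymplecticGroup.symJ (Fin 1) L).1 = -1
        from Matrix.J_squared (Fin 1) L, neg_mulVec, one_mulVec, map_neg]
    have hcomm : ∀ b, y.1 * ι b = ι b * y.1 := fun b => Matrix.mulVec_injective (funext fun v => by
      obtain ⟨x, rfl⟩ := e.surjective v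
      show (Y * ι b) *ᵥ e x = (ι b * Y) *ᵥ e x
      rw [← mulVec_mulVec, ← mulVec_mulVec, ← he, hY, hY, ← he, mulVec_smul])
    exact ⟨y, (SymplecticInvol.conj_symJ h2 y hyy).symm.trans
      (SymplecticInvol.conj_symJ h2 xs fun v => by rw [hxx, neg_one_smul]), fun b => ⟨b, hcomm b⟩⟩

end Cfsg.Agent.SympFieldExtInvol
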