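import Mathlib

/-!
The `q`-series identity behind the count of unipotent elements of `Sp_2n(q)`.
-/

set_option autoImplicit false

open PowerSeries Finset

namespace Cfsg.Agent.SympUnipotentSeries

variable (q : ℚ)

/-- the hyperbolic weight -/
def wa (s : ℕ) : ℚ := q ^ (s * (s - 1)) / ∏ i ∈ range s, (q ^ (2 * (i + 1)) - 1)

/-- the isotropic weight -/
def wb (r : ℕ) : ℚ := (-1) ^ r / ∏ i ∈ range r, (q ^ (i + 1) - 1)

/-- the unipotent density -/
def wu (k : ℕ) : ℚ := q ^ (k * k) / ∏ i ∈ range k, (q ^ (2 * (i + 1)) - 1)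

/-- the density of elements without fixed points -/
def we (n : ℕ) : ℚ := ∑ m ∈ range (n + 1), ∑ p ∈ antidiagonal m, wa q p.1 * wb q p.2

variable {q}

theorem pow_sub_one_ne {n : ℕ} (hq : 1 < q) (hn : n ≠ 0) : q ^ n - 1 ≠ 0 :=
  sub_ne_zero.2 (one_lt_pow₀ hq hn).ne'

theorem wa_succ (hq : 1 < q) (s : ℕ) :
    wa q (s + 1) * (q ^ (2 * (s + 1)) - 1) = q ^ (2 * s) * wa q s := by
  have h := pow_sub_one_ne hq (n := 2 * (s + 1)) (by omega)
  rw [wa, wa, prod_range_succ, Nat.add_sub_cancel,
    show (s + 1) * s = 2 * s + s * (s - 1) by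
      rcases s with _ | t
      · rfl
      · rw [Nat.add_sub_cancel]; ring, pow_add]
  field_simp

theorem wb_succ (hq : 1 < q) (r : ℕ) : wb q (r + 1) * (q ^ (r + 1) - 1) = - wb q r := by
  have h := pow_sub_one_ne hq (n := r + 1) (by omega)
  rw [wb, wb, prod_range_succ, pow_succ]
  field_simp

theorem coeff_one_sub_X_mul (f : PowerSeries ℚ) (n : ℕ) :
    coeff (n + 1) ((1 - X) * f) = coeff (n + 1) f - coeff n f := by
  rw [sub_mul, one_mul, map_sub, PowerSeries.coeff_succ_X_mul]

theorem triple (hq : 1 < q) : PowerSeries.mk (wu q) * PowerSeries.mk (wa q) * PowerSeries.mk (wb q) = 1 := by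
  have hU : PowerSeries.mk (wu q) = rescale q (PowerSeries.mk (wa q)) := by
    ext n
    rw [coeff_rescale, coeff_mk, coeff_mk, wu, wa,
      show n * n = n + n * (n - 1) by cases n <;> simp <;> ring, pow_add, mul_div_assoc]
  have hA : PowerSeries.mk (wa q) = (1 - X : PowerSeries ℚ) * rescale (q * q) (PowerSeries.mk (wa q)) := by
    ext n
    rcases n with _ | n
    · rw [coeff_zero_eq_constantCoeff, map_mul, map_sub, map_one, constantCoeff_X, sub_zero, one_mul,
        ← coeff_zero_eq_constantCoeff_apply, ← coeff_zero_eq_constantCoeff_apply, coeff_rescale, pow_zero, one_mul]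
    · rw [coeff_one_sub_X_mul, coeff_rescale, coeff_rescale, coeff_mk, coeff_mk, ← pow_two, ← pow_mul,
        ← pow_mul]
      linear_combination -(wa_succ hq n)
  have hB : rescale q (PowerSeries.mk (wb q)) = (1 - X : PowerSeries ℚ) * PowerSeries.mk (wb q) := by
    ext n
    rcases n with _ | n
    · simp
    · rw [coeff_one_sub_X_mul, coeff_rescale, coeff_mk, coeff_mk]
      linear_combination wb_succ hq n
  have hinv : rescale q (PowerSeries.mk (wu q) * PowerSeries.mk (wa q) * PowerSeries.mk (wb q)) = PowerSeries.mk (wu q) * PowerSeries.mk (wa q) * PowerSeries.mk (wb q) := by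
    rw [map_mul, map_mul, hB, ← hU]
    nth_rewrite 1 [hU]
    rw [rescale_rescale]
    conv_rhs => rw [hA]
    ring
  ext n
  rcases n with _ | n
  · simp [coeff_zero_eq_constantCoeff, wu, wa, wb]
  · have h := congrArg (coeff (n + 1)) hinv
    rw [coeff_rescale] at h
    rw [PowerSeries.coeff_one, if_neg (Nat.succ_ne_zero n)]
    by_contra hne
    exact (one_lt_pow₀ hq (Nat.succ_ne_zero n)).ne' (mul_eq_right₀ hne |>.1 h)

theorem convolution (hq : 1 < q) (n : ℕ) :
    ∑ p ∈ antidiagonal n, wu q p.1 * we q p.2 = 1 := by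
  have hE : PowerSeries.mk (we q) = PowerSeries.mk (wa q) * PowerSeries.mk (wb q) * PowerSeries.mk (fun _ => (1 : ℚ)) := by
    ext n
    rw [coeff_mk, PowerSeries.coeff_mul, Nat.sum_antidiagonal_eq_sum_range_succ
      (fun i j => coeff i (PowerSeries.mk (wa q) * PowerSeries.mk (wb q)) * coeff j (PowerSeries.mk fun _ => (1 : ℚ)))]
    refine sum_congr rfl fun m _ => ?_
    rw [coeff_mk, mul_one, PowerSeries.coeff_mul]
    simp
  have h : PowerSeries.mk (wu q) * PowerSeries.mk (we q) = PowerSeries.mk (fun _ => (1 : ℚ)) := by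
    rw [hE, ← mul_assoc, ← mul_assoc, triple hq, one_mul]
  have := congrArg (coeff n) h
  simpa [PowerSeries.coeff_mul] using this

end Cfsg.Agent.SympUnipotentSeries
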