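import Mathlib
import Cfsg.Agent.Lib.SymplecticBasic
import Cfsg.Agent.Lib.SymplecticIsotropic
import Cfsg.Agent.Lib.SympUnipotentSeries

/-!
The number of elements of `Sp_2j(q)` without fixed vectors: Möbius inversion over subspaces and the
recursion for the orbits on independent tuples (their Gram matrices).
-/

set_option autoImplicit false

open Matrix Cfsg.Agent.SymplecticBasic Cfsg.Agent.SymplecticIsotropic Cfsg.Agent.SympUnipotentSeries

namespace Cfsg.Agent.SympFixCount

variable {F : Type*} [Field F] {j k : ℕ}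

local notation "V" => (Fin j ⊕ Fin j → F)
local notation "Vec" => (Fin k → F)

/-- The Gram matrix of a tuple. -/
def gram (φ : Fin k → Fin j ⊕ Fin j → F) : Matrix (Fin k) (Fin k) F :=
  Matrix.of fun a b => sympForm j F (φ a) (φ b)

/-- Pairing with a tuple. -/
def pairing (φ : Fin k → Fin j ⊕ Fin j → F) : (Fin j ⊕ Fin j → F) →ₗ[F] (Fin k → F) :=
  LinearMap.pi fun a => formLin (φ a)

theorem pairing_apply (φ : Fin k → V) (x : V) (a : Fin k) : pairing φ x a = sympForm j F (φ a) x := rfl

theorem pairing_comb (φ : Fin k → V) (a : Vec) :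
    pairing φ (Fintype.linearCombination F φ a) = gram φ *ᵥ a := by
  funext i
  rw [pairing_apply, Fintype.linearCombination_apply, ← formLin_apply, map_sum]
  exact Finset.sum_congr rfl fun l _ => by rw [map_smul, formLin_apply, smul_eq_mul, mul_comm]; rfl

theorem form_comb (φ : Fin k → V) (a : Vec) (x : V) :
    sympForm j F (Fintype.linearCombination F φ a) x = a ⬝ᵥ pairing φ x := by
  rw [form_swap x, ← formLin_apply, Fintype.linearCombination_apply, map_sum, ← Finset.sum_neg_distrib]
  refine Finset.sum_congr rfl fun l _ => ?_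
  rw [map_smul, formLin_apply, smul_eq_mul, pairing_apply, form_swap (φ l) x]
  ring

theorem gram_alt (φ : Fin k → V) (a : Vec) : a ⬝ᵥ (gram φ *ᵥ a) = 0 := by
  rw [← pairing_comb, ← form_comb, form_self]

theorem gram_swap (φ : Fin k → V) (a b : Vec) : a ⬝ᵥ (gram φ *ᵥ b) = - (b ⬝ᵥ (gram φ *ᵥ a)) := by
  rw [← pairing_comb, ← pairing_comb, ← form_comb, ← form_comb, form_swap (Fintype.linearCombination F φ b)]

theorem pairing_surjective {φ : Fin k → V} (hφ : LinearIndependent F φ) :
    k ≤ 2 * j ∧ Function.Surjective (pairing φ) ∧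
      Module.finrank F (LinearMap.ker (pairing φ)) = 2 * j - k := by
  let S := Submodule.span F (Set.range φ)
  have hS : Module.finrank F S = k := by rw [finrank_span_eq_card hφ, Fintype.card_fin]
  have hk : k ≤ 2 * j := by
    have := Submodule.finrank_le S
    rw [hS, finrank_space] at this
    exact this
  have hker : LinearMap.ker (pairing φ) = (bil (F := F) (m := j)).orthogonal S := by
    ext x
    rw [LinearMap.mem_ker, funext_iff, mem_orth_span]
    rfl
  have hK : Module.finrank F (LinearMap.ker (pairing φ)) = 2 * j - k := by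
    rw [hker, LinearMap.BilinForm.finrank_orthogonal bil_nondeg, finrank_space, hS]
  refine ⟨hk, ?_, hK⟩
  rw [← LinearMap.range_eq_top]
  apply Submodule.eq_top_of_finrank_eq
  have h1 := (pairing φ).finrank_range_add_finrank_ker
  rw [hK, finrank_space] at h1
  rw [Module.finrank_fin_fun]
  omega

/-- The dimension of the radical. -/
noncomputable def rad (G : Matrix (Fin k) (Fin k) F) : ℕ := Module.finrank F (LinearMap.ker G.mulVecLin)

/-- The Gram matrices of independent `k`-tuples. -/
def Gr (F : Type*) [Field F] (j k : ℕ) : Set (Matrix (Fin k) (Fin k) F) :=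
  {G | ∃ φ : Fin k → (Fin j ⊕ Fin j → F), LinearIndependent F φ ∧ gram φ = G}

theorem rad_le (G : Matrix (Fin k) (Fin k) F) : rad G ≤ k := by
  have := Submodule.finrank_le (LinearMap.ker G.mulVecLin)
  rwa [Module.finrank_fin_fun] at this

theorem rad_add_le {φ : Fin k → V} (hφ : LinearIndependent F φ) : k + rad (gram φ) ≤ 2 * j := by
  obtain ⟨hk, -, hK⟩ := pairing_surjective hφ
  let f : LinearMap.ker (gram φ).mulVecLin →ₗ[F] LinearMap.ker (pairing φ) :=
    ((Fintype.linearCombination F φ).comp (LinearMap.ker (gram φ).mulVecLin).subtype).codRestrict _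
      fun a => by
        have := a.2
        rw [LinearMap.mem_ker] at this ⊢
        exact (pairing_comb φ a.1).trans this
  have := LinearMap.finrank_le_finrank_of_injective (f := f) fun a b h =>
    Subtype.ext (hφ.fintypeLinearCombination_injective (congrArg Subtype.val h))
  rw [hK] at this
  rw [rad]
  omega

/-- Border a matrix. -/
def ext (G : Matrix (Fin k) (Fin k) F) (c : Fin k → F) : Matrix (Fin (k + 1)) (Fin (k + 1)) F :=
  Matrix.of (Fin.cons (Fin.cons 0 (-c)) fun i => Fin.cons (c i) (G i))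

theorem ext_mulVec (G : Matrix (Fin k) (Fin k) F) (c : Vec) (t : F) (a : Vec) :
    ext G c *ᵥ Fin.cons t a = Fin.cons (-(c ⬝ᵥ a)) (t • c + G *ᵥ a) := by
  funext i
  refine Fin.cases ?_ (fun i => ?_) i
  · simp [ext, mulVec, dotProduct, Fin.sum_univ_succ]
  · simp [ext, mulVec, dotProduct, Fin.sum_univ_succ, mul_comm]

theorem gram_cons (φ : Fin k → V) (x : V) : gram (Fin.cons x φ) = ext (gram φ) (pairing φ x) := by
  ext a b
  refine Fin.cases ?_ (fun a => ?_) a <;> refine Fin.cases ?_ (fun b => ?_) b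
  · simp [gram, ext, form_self]
  · simp [gram, ext, pairing_apply, ← form_swap]
  · simp [gram, ext, pairing_apply]
  · simp [gram, ext]

theorem ext_injective {G G' : Matrix (Fin k) (Fin k) F} {c c' : Vec} (h : ext G c = ext G' c') :
    G = G' ∧ c = c' :=
  ⟨Matrix.ext fun a b => by simpa [ext] using congrFun (congrFun h a.succ) b.succ,
    funext fun a => by simpa [ext] using congrFun (congrFun h a.succ) 0⟩

theorem exists_extension {φ : Fin k → V} (hφ : LinearIndependent F φ) (c : Vec) :
    (∃ x, pairing φ x = c ∧ x ∉ Submodule.span F (Set.range φ)) ↔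
      (c ∉ LinearMap.range (gram φ).mulVecLin ∨ k + rad (gram φ) < 2 * j) := by
  obtain ⟨hk, hsurj, hK⟩ := pairing_surjective hφ
  have hspan : Submodule.span F (Set.range φ) = LinearMap.range (Fintype.linearCombination F φ) :=
    (Fintype.range_linearCombination F φ).symm
  have hinj := hφ.fintypeLinearCombination_injective
  have himg : LinearMap.ker (pairing φ) ⊓ LinearMap.range (Fintype.linearCombination F φ) =
      (LinearMap.ker (gram φ).mulVecLin).map (Fintype.linearCombination F φ) := by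
    ext x
    constructor
    · rintro ⟨hx, a, rfl⟩
      exact ⟨a, LinearMap.mem_ker.2 ((pairing_comb φ a).symm.trans hx), rfl⟩
    · rintro ⟨a, ha, rfl⟩
      exact ⟨(pairing_comb φ a).trans ha, a, rfl⟩
  have hrad : Module.finrank F ↥(LinearMap.ker (pairing φ) ⊓
      LinearMap.range (Fintype.linearCombination F φ)) = rad (gram φ) := by
    rw [himg]
    exact (Submodule.equivMapOfInjective _ hinj _).finrank_eq.symm
  constructor
  · rintro ⟨x, rfl, hx⟩
    by_contra h
    push Not at h
    obtain ⟨⟨b, hb⟩, hle⟩ := h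
    have heq : LinearMap.ker (pairing φ) ⊓ LinearMap.range (Fintype.linearCombination F φ) =
        LinearMap.ker (pairing φ) := Submodule.eq_of_le_of_finrank_le inf_le_left (by rw [hrad, hK]; omega)
    have hy : x - Fintype.linearCombination F φ b ∈ LinearMap.ker (pairing φ) := by
      rw [LinearMap.mem_ker, map_sub, pairing_comb, sub_eq_zero]; exact hb.symm
    rw [← heq] at hy
    rw [hspan] at hx
    exact hx (by simpa using add_mem hy.2 (LinearMap.mem_range_self (Fintype.linearCombination F φ) b))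
  · intro h
    by_cases hc : c ∈ LinearMap.range (gram φ).mulVecLin
    · obtain ⟨b, rfl⟩ := hc
      have hlt : k + rad (gram φ) < 2 * j := h.resolve_left fun hn => hn ⟨b, rfl⟩
      obtain ⟨y, hy, hy'⟩ : ∃ y ∈ LinearMap.ker (pairing φ),
          y ∉ LinearMap.range (Fintype.linearCombination F φ) := by
        by_contra hall
        push Not at hall
        have : LinearMap.ker (pairing φ) ⊓ LinearMap.range (Fintype.linearCombination F φ) =
            LinearMap.ker (pairing φ) := inf_eq_left.2 hall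
        rw [this, hK] at hrad
        omega
      refine ⟨Fintype.linearCombination F φ b + y, ?_, fun hx => hy' ?_⟩
      · rw [map_add, pairing_comb, LinearMap.mem_ker.1 hy, add_zero]; rfl
      · rw [hspan] at hx
        simpa using sub_mem hx (LinearMap.mem_range_self (Fintype.linearCombination F φ) b)
    · obtain ⟨x, rfl⟩ := hsurj c
      refine ⟨x, rfl, fun hx => hc ?_⟩
      rw [hspan] at hx
      obtain ⟨a, rfl⟩ := hx
      exact ⟨a, (pairing_comb φ a).symm⟩

theorem finrank_range_gram (G : Matrix (Fin k) (Fin k) F) :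
    Module.finrank F (LinearMap.range G.mulVecLin) = k - rad G := by
  have := G.mulVecLin.finrank_range_add_finrank_ker
  rw [Module.finrank_fin_fun] at this
  rw [rad]
  omega

theorem mem_range_iff (φ : Fin k → V) (c : Vec) :
    c ∈ LinearMap.range (gram φ).mulVecLin ↔ ∀ z, gram φ *ᵥ z = 0 → c ⬝ᵥ z = 0 := by
  constructor
  · rintro ⟨b, rfl⟩ z hz
    rw [dotProduct_comm, Matrix.mulVecLin_apply, gram_swap, hz, dotProduct_zero, neg_zero]
  · intro h
    let K := LinearMap.ker (gram φ).mulVecLin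
    let L : (Fin k → F) →ₗ[F] Module.Dual F K :=
      (K.subtype.dualMap).comp (dotProductEquiv F (Fin k)).toLinearMap
    have hL : ∀ c z, L c z = c ⬝ᵥ z.1 := fun c z => rfl
    have hsurj : Function.Surjective L :=
      (LinearMap.dualMap_surjective_of_injective K.injective_subtype).comp
        (dotProductEquiv F (Fin k)).surjective
    have hle : LinearMap.range (gram φ).mulVecLin ≤ LinearMap.ker L := by
      rintro _ ⟨b, rfl⟩
      refine LinearMap.mem_ker.2 (LinearMap.ext fun z => ?_)
      rw [hL, dotProduct_comm, Matrix.mulVecLin_apply, gram_swap,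
        show gram φ *ᵥ z.1 = 0 from z.2, dotProduct_zero, neg_zero]
      rfl
    have hd := L.finrank_range_add_finrank_ker
    rw [LinearMap.range_eq_top.2 hsurj, finrank_top, Subspace.dual_finrank_eq,
      Module.finrank_fin_fun] at hd
    have hd' : rad (gram φ) + Module.finrank F (LinearMap.ker L) = k := hd
    rw [Submodule.eq_of_le_of_finrank_le hle (by rw [finrank_range_gram]; omega)]
    exact LinearMap.mem_ker.2 (LinearMap.ext fun z => (hL c z).trans (h z.1 z.2))

theorem rad_ext_of_mem (φ : Fin k → V) {c : Vec} (hc : c ∈ LinearMap.range (gram φ).mulVecLin) :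
    rad (ext (gram φ) c) = rad (gram φ) + 1 := by
  obtain ⟨b, rfl⟩ := hc
  set K := LinearMap.ker (gram φ).mulVecLin
  let Φ : F × K →ₗ[F] (Fin (k + 1) → F) :=
    { toFun := fun p => Fin.cons p.1 (p.2.1 - p.1 • b)
      map_add' := fun p q => funext fun i => by
        refine Fin.cases ?_ (fun i => ?_) i
        · simp
        · simp; ring
      map_smul' := fun s p => funext fun i => by
        refine Fin.cases ?_ (fun i => ?_) i
        · simp
        · simp; ring }
  have hΦ : Function.Injective Φ := fun p q h => by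
    have h1 : p.1 = q.1 := by have := congrFun h 0; simpa [Φ] using this
    refine Prod.ext h1 (Subtype.ext (funext fun i => ?_))
    have := congrFun h i.succ
    simpa [Φ, h1] using this
  have hrange : LinearMap.range Φ = LinearMap.ker (ext (gram φ) ((gram φ).mulVecLin b)).mulVecLin := by
    ext y
    obtain ⟨t, a, rfl⟩ : ∃ t a, y = Fin.cons t a := ⟨y 0, Fin.tail y, (Fin.cons_self_tail y).symm⟩
    rw [LinearMap.mem_ker, Matrix.mulVecLin_apply, Matrix.mulVecLin_apply, ext_mulVec,
      ← Matrix.mulVec_smul, ← Matrix.mulVec_add]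
    constructor
    · rintro ⟨⟨s, z⟩, hsz⟩
      obtain ⟨rfl, rfl⟩ : s = t ∧ z.1 - s • b = a := by
        exact ⟨by simpa [Φ] using congrFun hsz 0,
          funext fun i => by simpa [Φ] using congrFun hsz i.succ⟩
      have hz : gram φ *ᵥ z.1 = 0 := z.2
      rw [add_sub_cancel, hz, dotProduct_comm, sub_dotProduct, smul_dotProduct, gram_alt, gram_swap, hz,
        dotProduct_zero]
      funext i
      refine Fin.cases ?_ (fun i => ?_) i <;> simp
    · intro h
      have h2 : gram φ *ᵥ (t • b + a) = 0 := funext fun i => by simpa using congrFun h i.succ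
      refine ⟨(t, ⟨t • b + a, h2⟩), ?_⟩
      funext i
      refine Fin.cases ?_ (fun i => ?_) i <;> simp [Φ]
  rw [rad, ← hrange, LinearMap.finrank_range_of_inj hΦ, Module.finrank_prod, Module.finrank_self]
  exact Nat.add_comm 1 _

theorem rad_ext_of_notMem (φ : Fin k → V) {c : Vec} (hc : c ∉ LinearMap.range (gram φ).mulVecLin) :
    rad (ext (gram φ) c) + 1 = rad (gram φ) := by
  set K := LinearMap.ker (gram φ).mulVecLin
  let ψ : K →ₗ[F] F := (dotProductEquiv F (Fin k) c).comp K.subtype
  have hψ : ∀ z, ψ z = c ⬝ᵥ z.1 := fun z => rfl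
  have hne : ψ ≠ 0 := fun h => hc ((mem_range_iff φ c).2 fun z hz => by
    rw [← hψ ⟨z, hz⟩, h, LinearMap.zero_apply])
  have hdim : Module.finrank F (LinearMap.ker ψ) + 1 = rad (gram φ) :=
    Module.Dual.finrank_ker_add_one_of_ne_zero hne
  let Φ : LinearMap.ker ψ →ₗ[F] (Fin (k + 1) → F) :=
    { toFun := fun p => Fin.cons 0 p.1.1
      map_add' := fun p q => funext fun i => by refine Fin.cases ?_ (fun i => ?_) i <;> simp
      map_smul' := fun s p => funext fun i => by refine Fin.cases ?_ (fun i => ?_) i <;> simp }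
  have hΦ : Function.Injective Φ := fun p q h => by
    refine Subtype.ext (Subtype.ext (funext fun i => ?_))
    simpa [Φ] using congrFun h i.succ
  have hrange : LinearMap.range Φ = LinearMap.ker (ext (gram φ) c).mulVecLin := by
    ext y
    obtain ⟨t, a, rfl⟩ : ∃ t a, y = Fin.cons t a := ⟨y 0, Fin.tail y, (Fin.cons_self_tail y).symm⟩
    rw [LinearMap.mem_ker, Matrix.mulVecLin_apply, ext_mulVec]
    constructor
    · rintro ⟨z, hsz⟩
      obtain ⟨rfl, rfl⟩ : 0 = t ∧ z.1.1 = a := by
        exact ⟨by simpa [Φ] using congrFun hsz 0, funext fun i => by simpa [Φ] using congrFun hsz i.succ⟩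
      rw [zero_smul, zero_add, show gram φ *ᵥ z.1.1 = 0 from z.1.2,
        show c ⬝ᵥ z.1.1 = 0 from (hψ z.1).symm.trans z.2]
      funext i
      refine Fin.cases ?_ (fun i => ?_) i <;> simp
    · intro h
      have h1 : c ⬝ᵥ a = 0 := by simpa using congrFun h 0
      have h2 : t • c + gram φ *ᵥ a = 0 := funext fun i => by simpa using congrFun h i.succ
      have ht : t = 0 := by
        by_contra ht
        refine hc ⟨-(t⁻¹ • a), ?_⟩
        rw [Matrix.mulVecLin_apply, Matrix.mulVec_neg, Matrix.mulVec_smul, eq_neg_of_add_eq_zero_right h2,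
          smul_neg, neg_neg, smul_smul, inv_mul_cancel₀ ht, one_smul]
      subst ht
      rw [zero_smul, zero_add] at h2
      refine ⟨⟨⟨a, h2⟩, (hψ _).trans h1⟩, ?_⟩
      funext i
      refine Fin.cases ?_ (fun i => ?_) i <;> simp [Φ]
  rw [rad, ← hrange, LinearMap.finrank_range_of_inj hΦ]
  exact hdim

/-- Number of Gram matrices with given radical. -/
noncomputable def cnt (F : Type*) [Field F] (j k r : ℕ) : ℕ := {G ∈ Gr F j k | rad G = r}.ncard

theorem cnt_zero (r : ℕ) : cnt F j 0 r = if r = 0 then 1 else 0 := by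
  have h : ∀ G : Matrix (Fin 0) (Fin 0) F, rad G = 0 := fun G => Nat.le_zero.1 (rad_le G)
  split_ifs with hr
  · subst hr
    rw [cnt, Set.ncard_eq_one]
    exact ⟨0, Set.ext fun G => ⟨fun _ => Subsingleton.elim _ _, fun _ =>
      ⟨⟨Fin.elim0, linearIndependent_empty_type, Subsingleton.elim _ _⟩, h G⟩⟩⟩
  · rw [cnt]
    convert Set.ncard_empty (Matrix (Fin 0) (Fin 0) F)
    exact Set.eq_empty_of_forall_notMem fun G hG => hr ((hG.2).symm.trans (h G))

theorem cnt_succ [Fintype F] {q : ℕ} (hF : Fintype.card F = q) (k r : ℕ) :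
    cnt F j (k + 1) r =
      (if 1 ≤ r ∧ k + r ≤ 2 * j then cnt F j k (r - 1) * q ^ (k + 1 - r) else 0) +
        cnt F j k (r + 1) * (q ^ k - q ^ (k - (r + 1))) := by
  classical
  set A : Set (Matrix (Fin k) (Fin k) F × (Fin k → F)) :=
    {p | p.1 ∈ Gr F j k ∧ p.2 ∈ LinearMap.range p.1.mulVecLin ∧ rad p.1 + 1 = r ∧ k + rad p.1 < 2 * j}
  set B : Set (Matrix (Fin k) (Fin k) F × (Fin k → F)) :=
    {p | p.1 ∈ Gr F j k ∧ p.2 ∉ LinearMap.range p.1.mulVecLin ∧ rad p.1 = r + 1}
  have himg : {G ∈ Gr F j (k + 1) | rad G = r} = (fun p => ext p.1 p.2) '' (A ∪ B) := by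
    ext G'
    constructor
    · rintro ⟨⟨ψ, hψ, rfl⟩, hr⟩
      rw [← Fin.cons_self_tail ψ] at hψ hr ⊢
      rw [gram_cons] at hr ⊢
      obtain ⟨hli, hx⟩ := linearIndependent_finCons.1 hψ
      refine ⟨(gram (Fin.tail ψ), pairing (Fin.tail ψ) (ψ 0)), ?_, rfl⟩
      have hadm := (exists_extension hli _).1 ⟨ψ 0, rfl, hx⟩
      by_cases hc : pairing (Fin.tail ψ) (ψ 0) ∈ LinearMap.range (gram (Fin.tail ψ)).mulVecLin
      · exact Or.inl ⟨⟨_, hli, rfl⟩, hc, by rw [← hr, rad_ext_of_mem _ hc],
          hadm.resolve_left fun h => h hc⟩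
      · exact Or.inr ⟨⟨_, hli, rfl⟩, hc, by rw [← hr, rad_ext_of_notMem _ hc]⟩
    · rintro ⟨⟨G, c⟩, hp, rfl⟩
      rcases hp with ⟨⟨φ, hli, rfl⟩, hc, hr, hlt⟩ | ⟨⟨φ, hli, rfl⟩, hc, hr⟩
      · obtain ⟨x, rfl, hx⟩ := (exists_extension hli c).2 (Or.inr hlt)
        exact ⟨⟨Fin.cons x φ, linearIndependent_finCons.2 ⟨hli, hx⟩, gram_cons φ x⟩,
          (rad_ext_of_mem φ hc).trans hr⟩
      · obtain ⟨x, rfl, hx⟩ := (exists_extension hli c).2 (Or.inl hc)
        exact ⟨⟨Fin.cons x φ, linearIndependent_finCons.2 ⟨hli, hx⟩, gram_cons φ x⟩,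
          Nat.add_right_cancel ((rad_ext_of_notMem φ hc).trans hr)⟩
  have hdisj : Disjoint A B := Set.disjoint_left.2 fun p hA hB => hB.2.1 hA.2.1
  rw [cnt, himg, Set.ncard_image_of_injective _ (fun p p' h => Prod.ext (ext_injective h).1 (ext_injective h).2),
    Set.ncard_union_eq hdisj (Set.toFinite _) (Set.toFinite _)]
  have key : ∀ (S : Set (Matrix (Fin k) (Fin k) F)) (f : Matrix (Fin k) (Fin k) F → Set (Fin k → F)) (N : ℕ),
      (∀ G ∈ S, (f G).ncard = N) → {p : Matrix (Fin k) (Fin k) F × (Fin k → F) | p.1 ∈ S ∧ p.2 ∈ f p.1}.ncard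
        = S.ncard * N := by
    intro S f N h
    let e : {p : Matrix (Fin k) (Fin k) F × (Fin k → F) | p.1 ∈ S ∧ p.2 ∈ f p.1} ≃ Σ G : S, f G.1 :=
      { toFun := fun p => ⟨⟨p.1.1, p.2.1⟩, ⟨p.1.2, p.2.2⟩⟩
        invFun := fun s => ⟨(s.1.1, s.2.1), s.1.2, s.2.2⟩
        left_inv := fun p => rfl
        right_inv := fun s => rfl }
    let _ : Fintype S := Fintype.ofFinite S
    rw [← Nat.card_coe_set_eq, Nat.card_congr e, Nat.card_sigma,
      Finset.sum_congr rfl fun G _ => (Nat.card_coe_set_eq (f G.1)).trans (h G.1 G.2), Finset.sum_const,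
      smul_eq_mul, Finset.card_univ, ← Nat.card_eq_fintype_card, Nat.card_coe_set_eq]
  have hrange : ∀ G : Matrix (Fin k) (Fin k) F,
      ((LinearMap.range G.mulVecLin : Submodule F (Fin k → F)) : Set (Fin k → F)).ncard = q ^ (k - rad G) := by
    intro G
    rw [← Nat.card_coe_set_eq]
    show Nat.card ↥(LinearMap.range G.mulVecLin) = _
    rw [Module.natCard_eq_pow_finrank (K := F), finrank_range_gram, Nat.card_eq_fintype_card, hF]
  congr 1
  · split_ifs with hr
    · have hA : A = {p : Matrix (Fin k) (Fin k) F × (Fin k → F) | p.1 ∈ {G ∈ Gr F j k | rad G = r - 1} ∧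
          p.2 ∈ ((LinearMap.range p.1.mulVecLin : Submodule F (Fin k → F)) : Set (Fin k → F))} := by
        ext p
        refine ⟨fun h => ⟨⟨h.1, ?_⟩, h.2.1⟩, fun h => ⟨h.1.1, h.2, ?_, ?_⟩⟩
        · have := h.2.2.1; omega
        · have := h.1.2; omega
        · have := h.1.2; omega
      rw [hA, key _ (fun G => ((LinearMap.range G.mulVecLin : Submodule F (Fin k → F)) : Set (Fin k → F)))
        (q ^ (k + 1 - r)) fun G hG => by
        rw [hrange, hG.2, show k - (r - 1) = k + 1 - r by omega]]
      rfl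
    · convert Set.ncard_empty (Matrix (Fin k) (Fin k) F × (Fin k → F))
      refine Set.eq_empty_of_forall_notMem fun p h => hr ?_
      have := h.2.2.1; have := h.2.2.2; omega
  · have hB : B = {p : Matrix (Fin k) (Fin k) F × (Fin k → F) | p.1 ∈ {G ∈ Gr F j k | rad G = r + 1} ∧
        p.2 ∈ ((LinearMap.range p.1.mulVecLin : Submodule F (Fin k → F)) : Set (Fin k → F))ᶜ} :=
      Set.ext fun p => ⟨fun h => ⟨⟨h.1, h.2.2⟩, h.2.1⟩, fun h => ⟨h.1.1, h.2, h.1.2⟩⟩
    rw [hB, key _ (fun G => ((LinearMap.range G.mulVecLin : Submodule F (Fin k → F)) : Set (Fin k → F))ᶜ)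
        (q ^ k - q ^ (k - (r + 1))) fun G hG => by
      rw [Set.ncard_compl, hrange, hG.2, Nat.card_eq_fintype_card, Fintype.card_fun, Fintype.card_fin, hF]]
    rfl

/-- Möbius weight. -/
def mu (q : ℚ) (k : ℕ) : ℚ := (-1) ^ k / ∏ i ∈ Finset.range k, (q ^ (i + 1) - 1)

theorem mu_succ {q : ℚ} (hq : 1 < q) (k : ℕ) : mu q (k + 1) = -mu q k / (q ^ (k + 1) - 1) :=
  (eq_div_iff (pow_sub_one_ne hq (Nat.succ_ne_zero k))).2 (wb_succ hq k)

theorem weighted_cnt [Fintype F] {q : ℕ} (hF : Fintype.card F = q) :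
    ∀ k r, mu (q : ℚ) k * cnt F j k r =
      if k + r ≤ 2 * j ∧ r ≤ k ∧ Even (k - r) then wa (q : ℚ) ((k - r) / 2) * wb (q : ℚ) r else 0 := by
  have hq : (1 : ℚ) < q := by rw [← hF]; exact_mod_cast Fintype.one_lt_card
  intro k
  induction k with
  | zero =>
    intro r
    rw [cnt_zero]
    rcases eq_or_ne r 0 with rfl | hr
    · simp [mu, wa, wb]
    · simp [hr]
  | succ k ih =>
    intro r
    have hne : (q : ℚ) ^ (k + 1) - 1 ≠ 0 := pow_sub_one_ne hq (Nat.succ_ne_zero k)
    rw [cnt_succ hF, mu_succ hq, div_mul_eq_mul_div, div_eq_iff hne, Nat.cast_add, apply_ite Nat.cast,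
      Nat.cast_zero, Nat.cast_mul, Nat.cast_mul, Nat.cast_pow,
      Nat.cast_sub (Nat.pow_le_pow_right (hF ▸ Fintype.card_pos) (Nat.sub_le _ _)), Nat.cast_pow,
      Nat.cast_pow, mul_add, mul_ite, mul_zero,
      show -mu (q : ℚ) k * ((cnt F j k (r - 1) : ℚ) * (q : ℚ) ^ (k + 1 - r)) =
        -(mu (q : ℚ) k * cnt F j k (r - 1)) * (q : ℚ) ^ (k + 1 - r) by ring,
      show -mu (q : ℚ) k * ((cnt F j k (r + 1) : ℚ) * ((q : ℚ) ^ k - (q : ℚ) ^ (k - (r + 1)))) =
        -(mu (q : ℚ) k * cnt F j k (r + 1)) * ((q : ℚ) ^ k - (q : ℚ) ^ (k - (r + 1))) by ring, ih, ih]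
    by_cases hC : k + 1 + r ≤ 2 * j ∧ r ≤ k + 1 ∧ Even (k + 1 - r)
    · obtain ⟨h1, h2, s, hs⟩ := hC
      rw [if_pos (show k + 1 + r ≤ 2 * j ∧ r ≤ k + 1 ∧ Even (k + 1 - r) from ⟨h1, h2, s, hs⟩),
        show (k + 1 - r) / 2 = s by omega, show k + 1 - r = 2 * s by omega]
      have hA : (if 1 ≤ r ∧ k + r ≤ 2 * j then
          -(if k + (r - 1) ≤ 2 * j ∧ r - 1 ≤ k ∧ Even (k - (r - 1)) then
              wa (q : ℚ) ((k - (r - 1)) / 2) * wb (q : ℚ) (r - 1) else 0) * (q : ℚ) ^ (2 * s) else 0) =
          wa (q : ℚ) s * wb (q : ℚ) r * ((q : ℚ) ^ r - 1) * (q : ℚ) ^ (2 * s) := by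
        rcases r with _ | r
        · simp
        · rw [if_pos ⟨by omega, by omega⟩, Nat.add_sub_cancel,
            if_pos ⟨by omega, by omega, s, by omega⟩, show (k - r) / 2 = s by omega]
          linear_combination (-(wa (q : ℚ) s * (q : ℚ) ^ (2 * s))) * wb_succ hq r
      rw [hA]
      rcases s with _ | t
      · rw [if_neg (show ¬(k + (r + 1) ≤ 2 * j ∧ r + 1 ≤ k ∧ Even (k - (r + 1))) by omega),
          show k + 1 = r by omega]
        ring
      · rw [if_pos ⟨by omega, by omega, t, by omega⟩, show (k - (r + 1)) / 2 = t by omega,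
          show k - (r + 1) = 2 * t by omega, show k = 2 * t + r + 1 by omega,
          show 2 * (t + 1) = 2 * t + 2 by ring]
        have h3 := wa_succ hq t
        have h4 := wb_succ hq r
        rw [show 2 * (t + 1) = 2 * t + 2 by ring] at h3
        simp only [pow_add, pow_one] at h3 h4 ⊢
        linear_combination ((((q : ℚ) ^ r * q) - 1) * wb (q : ℚ) (r + 1)) * h3 -
          (wa (q : ℚ) (t + 1) * ((q : ℚ) ^ (2 * t) * (q : ℚ) ^ 2 - 1)) * h4
    · rw [if_neg hC, zero_mul]
      have e1 : ¬ (1 ≤ r ∧ k + r ≤ 2 * j ∧ k + (r - 1) ≤ 2 * j ∧ r - 1 ≤ k ∧ Even (k - (r - 1))) := by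
        rintro ⟨a, b, -, c, l, hl⟩
        exact hC ⟨by omega, by omega, l, by omega⟩
      have e2 : ¬ (k + (r + 1) ≤ 2 * j ∧ r + 1 ≤ k ∧ Even (k - (r + 1))) := by
        rintro ⟨a, b, l, hl⟩
        exact hC ⟨by omega, by omega, l + 1, by omega⟩
      rw [if_neg e2, neg_zero, zero_mul, add_zero]
      split_ifs with h1 h2
      · exact absurd ⟨h1.1, h1.2, h2⟩ e1
      · simp
      · rfl

theorem telescoping {Q : ℚ} (hQ : 1 < Q) (d : ℕ) : ∀ m,
    ∑ k ∈ Finset.range (m + 1), mu Q k * ∏ i ∈ Finset.range k, (Q ^ d - Q ^ i) =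
      mu Q m * ∏ i ∈ Finset.range m, (Q ^ d - Q ^ (i + 1)) := by
  intro m
  induction m with
  | zero => simp
  | succ m ih =>
    have h := pow_sub_one_ne hQ (Nat.succ_ne_zero m)
    have hshift : ∏ i ∈ Finset.range (m + 1), (Q ^ d - Q ^ i) =
        (Q ^ d - 1) * ∏ i ∈ Finset.range m, (Q ^ d - Q ^ (i + 1)) := by
      rw [Finset.prod_range_succ', pow_zero, mul_comm]
    rw [Finset.sum_range_succ, ih, hshift, Finset.prod_range_succ, mu_succ hQ]
    field_simp
    ring

/-- Elements without non-zero fixed vectors. -/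
abbrev Fpf (F : Type*) [Field F] (j : ℕ) : Type _ :=
  {g : symplecticGroup (Fin j) F // ∀ v : Fin j ⊕ Fin j → F, g • v = v → v = 0}

theorem sum_fixed [Fintype F] [Fintype ↥(symplecticGroup (Fin j) F)] (k : ℕ) :
    ∑ g : symplecticGroup (Fin j) F,
        Nat.card {φ : Fin k → V // LinearIndependent F φ ∧ g • φ = φ} =
      Nat.card (symplecticGroup (Fin j) F) * (Gr F j k).ncard := by
  classical
  let G := symplecticGroup (Fin j) F
  let X := {φ : Fin k → V // LinearIndependent F φ}
  let e : (Σ g : G, {φ : Fin k → V // LinearIndependent F φ ∧ g • φ = φ}) ≃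
      (Σ M : Gr F j k, Σ φ : {φ : X // gram φ.1 = M.1}, MulAction.stabilizer G φ.1.1) :=
    { toFun := fun s => ⟨⟨gram s.2.1, s.2.1, s.2.2.1, rfl⟩, ⟨⟨s.2.1, s.2.2.1⟩, rfl⟩, ⟨s.1, s.2.2.2⟩⟩
      invFun := fun s => ⟨s.2.2.1, s.2.1.1.1, s.2.1.1.2, s.2.2.2⟩
      left_inv := fun s => rfl
      right_inv := by
        rintro ⟨⟨M, hM⟩, ⟨φ, (hφ : gram φ.1 = M)⟩, h⟩
        subst hφ
        rfl }
  let _ : Fintype (Gr F j k) := Fintype.ofFinite _
  rw [← Nat.card_sigma, Nat.card_congr e, Nat.card_sigma]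
  refine (Finset.sum_congr rfl (g := fun _ => Nat.card G) fun M _ => ?_).trans ?_
  · obtain ⟨M, φ₀, hφ₀, rfl⟩ := M
    have horb : MulAction.orbit G φ₀ = {φ | LinearIndependent F φ ∧ gram φ = gram φ₀} := by
      ext ψ
      constructor
      · rintro ⟨g, rfl⟩
        refine ⟨?_, Matrix.ext fun a b => form_map g (φ₀ a) (φ₀ b)⟩
        have e' : g • φ₀ = ⇑(Matrix.toLin' g.1) ∘ φ₀ := funext fun i => (Matrix.toLin'_apply g.1 (φ₀ i)).symm
        show LinearIndependent F (g • φ₀)
        rw [e']
        exact hφ₀.map' _ (LinearMap.ker_eq_bot.2 fun x y hxy => MulAction.injective g hxy)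
      · rintro ⟨hψ, hgr⟩
        let b := Module.Basis.span hφ₀
        have hb : ∀ i, (b i : V) = φ₀ i := fun i => congrArg Subtype.val (Module.Basis.span_apply hφ₀ i)
        let f := b.constr F ψ
        have hinj : Function.Injective f := by
          rw [injective_iff_map_eq_zero]
          intro x hx
          rw [Module.Basis.constr_apply_fintype] at hx
          exact b.equivFun.map_eq_zero_iff.1 (funext (Fintype.linearIndependent_iff.1 hψ _ hx))
        have hbil : ((bil (F := F) (m := j)).compl₁₂ f f) =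
            (bil (F := F) (m := j)).compl₁₂ (Submodule.subtype _) (Submodule.subtype _) := by
          refine b.ext fun a => b.ext fun c => ?_
          simp only [LinearMap.compl₁₂_apply, f, Module.Basis.constr_basis, Submodule.subtype_apply, hb,
            bil_apply]
          exact congrFun (congrFun hgr a) c
        obtain ⟨g, hg, hgf⟩ := Witt.alt_extend (bil (F := F) (m := j)) bil_nondeg bil_isAlt _ f hinj
          fun a c => LinearMap.congr_fun (LinearMap.congr_fun hbil a) c
        let A := LinearMap.toMatrix' g.toLinearMap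
        have hA : ∀ x, A *ᵥ x = g x := fun x => by rw [← Matrix.toLin'_apply]; simp [A]
        refine ⟨⟨A, mem_sp_iff_form.2 fun u v => by rw [hA, hA]; exact hg u v⟩, funext fun i => ?_⟩
        show A *ᵥ φ₀ i = ψ i
        rw [hA, ← hb i, hgf]
        exact Module.Basis.constr_basis b F ψ i
    rw [Nat.card_sigma]
    have hst : ∀ φ : {φ : X // gram φ.1 = gram φ₀},
        Nat.card (MulAction.stabilizer G φ.1.1) = Nat.card (MulAction.stabilizer G φ₀) := fun φ => by
      have hmem : φ.1.1 ∈ MulAction.orbit G φ₀ := horb ▸ ⟨φ.1.2, φ.2⟩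
      have h1 := Nat.card_congr (MulAction.orbitProdStabilizerEquivGroup G φ.1.1)
      have h2 := Nat.card_congr (MulAction.orbitProdStabilizerEquivGroup G φ₀)
      rw [Nat.card_prod, MulAction.orbit_eq_iff.2 hmem] at h1
      rw [Nat.card_prod] at h2
      have : Nonempty (MulAction.orbit G φ₀) := ⟨⟨φ₀, MulAction.mem_orbit_self φ₀⟩⟩
      exact Nat.eq_of_mul_eq_mul_left Nat.card_pos (h1.trans h2.symm)
    have h2 := Nat.card_congr (MulAction.orbitProdStabilizerEquivGroup G φ₀)
    rw [Nat.card_prod, horb] at h2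
    rw [Finset.sum_congr rfl fun φ _ => hst φ, Finset.sum_const, smul_eq_mul, Finset.card_univ,
      ← Nat.card_eq_fintype_card, ← h2]
    congr 1
    exact Nat.card_congr
      { toFun := fun φ => ⟨φ.1.1, φ.1.2, φ.2⟩
        invFun := fun φ => ⟨⟨φ.1, φ.2.1⟩, φ.2.2⟩
        left_inv := fun φ => rfl
        right_inv := fun φ => rfl }
  · rw [Finset.sum_const, smul_eq_mul, Finset.card_univ, ← Nat.card_eq_fintype_card, Nat.card_coe_set_eq,
      mul_comm]

theorem ncard_Gr [Fintype F] (k : ℕ) :
    (Gr F j k).ncard = ∑ r ∈ Finset.range (k + 1), cnt F j k r := by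
  classical
  rw [Set.ncard_eq_toFinset_card' (Gr F j k),
    Finset.card_eq_sum_card_fiberwise (f := rad) (t := Finset.range (k + 1))
      (fun G _ => Finset.mem_range.2 (Nat.lt_succ_of_le (rad_le G)))]
  refine Finset.sum_congr rfl fun r _ => ?_
  rw [cnt, ← Set.ncard_coe_finset]
  congr 1
  ext G
  simp

theorem card_fpf [Fintype F] {q : ℕ} (hF : Fintype.card F = q) :
    (Nat.card (Fpf F j) : ℚ) = Nat.card (symplecticGroup (Fin j) F) * we (q : ℚ) j := by
  classical
  have hq : (1 : ℚ) < q := by rw [← hF]; exact_mod_cast Fintype.one_lt_card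
  let K : symplecticGroup (Fin j) F → Submodule F V := fun g =>
    LinearMap.ker (Matrix.toLin' g.1 - LinearMap.id)
  have hK : ∀ g v, v ∈ K g ↔ g • v = v := fun g v => by simp [K, smul_def, sub_eq_zero]
  have hN : ∀ (g : symplecticGroup (Fin j) F) (k : ℕ),
      (Nat.card {φ : Fin k → V // LinearIndependent F φ ∧ g • φ = φ} : ℚ) =
        ∏ i ∈ Finset.range k, ((q : ℚ) ^ Module.finrank F (K g) - (q : ℚ) ^ i) := by
    intro g k
    let e : {φ : Fin k → V // LinearIndependent F φ ∧ g • φ = φ} ≃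
        {s : Fin k → K g // LinearIndependent F s} :=
      { toFun := fun φ => ⟨fun i => ⟨φ.1 i, (hK g _).2 (congrFun φ.2.2 i)⟩,
          LinearIndependent.of_comp (K g).subtype φ.2.1⟩
        invFun := fun s => ⟨fun i => (s.1 i : V), s.2.map' (K g).subtype (K g).ker_subtype,
          funext fun i => (hK g _).1 (s.1 i).2⟩
        left_inv := fun φ => rfl
        right_inv := fun s => rfl }
    rw [Nat.card_congr e]
    rcases le_or_gt k (Module.finrank F (K g)) with hk | hk
    · rw [card_linearIndependent hk, hF, Nat.cast_prod, Finset.prod_fin_eq_prod_range]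
      refine Finset.prod_congr rfl fun i hi => ?_
      rw [dif_pos (Finset.mem_range.1 hi), Nat.cast_sub (Nat.pow_le_pow_right (hF ▸ Fintype.card_pos)
        (by have := Finset.mem_range.1 hi; omega)), Nat.cast_pow, Nat.cast_pow]
    · haveI : IsEmpty {s : Fin k → K g // LinearIndependent F s} := ⟨fun s => by
        have := s.2.fintype_card_le_finrank
        rw [Fintype.card_fin] at this
        omega⟩
      rw [Nat.card_of_isEmpty, Nat.cast_zero, Finset.prod_eq_zero (Finset.mem_range.2 hk) (sub_self _)]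
  have hzero : ∀ g, Module.finrank F (K g) = 0 ↔ ∀ v : V, g • v = v → v = 0 := fun g => by
    rw [Submodule.finrank_eq_zero, Submodule.eq_bot_iff]
    exact forall_congr' fun v => by rw [hK]
  have hsum : ∀ g : symplecticGroup (Fin j) F, (if (∀ v : V, g • v = v → v = 0) then (1 : ℚ) else 0) =
      ∑ k ∈ Finset.range (2 * j + 1), mu (q : ℚ) k *
        (Nat.card {φ : Fin k → V // LinearIndependent F φ ∧ g • φ = φ} : ℚ) := fun g => by
    simp only [hN]
    by_cases h0 : ∀ v : V, g • v = v → v = 0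
    · rw [if_pos h0, (hzero g).2 h0, Finset.sum_range_succ']
      simp [mu, Finset.prod_range_succ']
    · rw [if_neg h0, telescoping hq]
      have hpos : Module.finrank F (K g) ≠ 0 := fun h => h0 ((hzero g).1 h)
      have hle : Module.finrank F (K g) ≤ 2 * j := (Submodule.finrank_le _).trans finrank_space.le
      rw [Finset.prod_eq_zero (i := Module.finrank F (K g) - 1) (Finset.mem_range.2 (by omega))
        (by rw [show Module.finrank F (K g) - 1 + 1 = Module.finrank F (K g) by omega, sub_self]), mul_zero]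
  calc (Nat.card (Fpf F j) : ℚ)
      = ∑ g : symplecticGroup (Fin j) F, (if (∀ v : V, g • v = v → v = 0) then (1 : ℚ) else 0) := by
        rw [Finset.sum_boole, Nat.card_eq_fintype_card, Fintype.card_subtype]
    _ = ∑ k ∈ Finset.range (2 * j + 1), mu (q : ℚ) k *
          ((∑ g : symplecticGroup (Fin j) F,
            Nat.card {φ : Fin k → V // LinearIndependent F φ ∧ g • φ = φ} : ℕ) : ℚ) := by
        simp only [hsum, Nat.cast_sum, Finset.mul_sum]
        exact Finset.sum_comm
    _ = (Nat.card (symplecticGroup (Fin j) F) : ℚ) *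
          ∑ k ∈ Finset.range (2 * j + 1), ∑ r ∈ Finset.range (k + 1), mu (q : ℚ) k * cnt F j k r := by
        rw [Finset.mul_sum]
        refine Finset.sum_congr rfl fun k _ => ?_
        rw [sum_fixed, ncard_Gr, Nat.cast_mul, Nat.cast_sum, ← Finset.mul_sum]
        ring
    _ = _ := by
        congr 1
        rw [we, Finset.sum_sigma', Finset.sum_sigma']
        simp only [weighted_cnt hF]
        rw [← Finset.sum_filter]
        refine Finset.sum_nbij' (fun x => ⟨(x.1 + x.2) / 2, ((x.1 - x.2) / 2, x.2)⟩)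
          (fun y => ⟨2 * y.2.1 + y.2.2, y.2.2⟩) ?_ ?_ ?_ ?_ ?_
        · rintro ⟨k, r⟩ h
          simp only [Finset.mem_filter, Finset.mem_sigma, Finset.mem_range, Finset.HasAntidiagonal.mem_antidiagonal] at h ⊢
          obtain ⟨-, h1, h2, l, hl⟩ := h
          omega
        · rintro ⟨m, s, r⟩ h
          simp only [Finset.mem_filter, Finset.mem_sigma, Finset.mem_range, Finset.HasAntidiagonal.mem_antidiagonal] at h ⊢
          refine ⟨by omega, by omega, by omega, s, by omega⟩
        · rintro ⟨k, r⟩ h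
          simp only [Finset.mem_filter, Finset.mem_sigma, Finset.mem_range] at h
          obtain ⟨-, h1, h2, l, hl⟩ := h
          simp only [Sigma.mk.injEq, heq_eq_eq, and_true]
          omega
        · rintro ⟨m, s, r⟩ h
          simp only [Finset.mem_sigma, Finset.mem_range, Finset.HasAntidiagonal.mem_antidiagonal] at h
          simp only [Sigma.mk.injEq, heq_eq_eq, Prod.mk.injEq, and_true]
          omega
        · rintro ⟨k, r⟩ _
          rfl

end Cfsg.Agent.SympFixCount
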