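import Mathlib
import Cfsg.Agent.Lib.InvolBlocks

/-!
An isometry of a non-degenerate alternating form whose square is a scalar admits an orthogonal
decomposition into hyperbolic planes, each plane fixed or paired with its image.
-/

set_option autoImplicit false

namespace Cfsg.Agent.SympInvolution

open Cfsg.Agent.InvolBlocks

variable {F V : Type*} [Field F] [AddCommGroup V] [Module F V] [FiniteDimensional F V]

/-- A family of pairwise orthogonal hyperbolic pairs. -/
def IsDual (B : V →ₗ[F] V →ₗ[F] F) {ι : Type*} (P : ι → V × V) : Prop :=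
  (∀ i, B (P i).1 (P i).2 = 1) ∧
    ∀ i j, i ≠ j → B (P i).1 (P j).1 = 0 ∧ B (P i).1 (P j).2 = 0 ∧ B (P i).2 (P j).1 = 0 ∧
      B (P i).2 (P j).2 = 0

/-- Planes attached to swapped pairs `S` (with their images) and fixed planes `P`. -/
def planes (g : V →ₗ[F] V) {k r : ℕ} (S : Fin k → V × V) (P : Fin r → V × V) :
    (Fin k × Fin 2) ⊕ Fin r → V × V :=
  Sum.elim (fun p => if p.2 = 0 then S p.1 else (g (S p.1).1, g (S p.1).2)) P

theorem skew (B : V →ₗ[F] V →ₗ[F] F) (halt : ∀ v, B v v = 0) (u v : V) : B v u = - B u v := by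
  have h := halt (u + v)
  simp only [map_add, LinearMap.add_apply, halt, zero_add, add_zero] at h
  exact eq_neg_of_add_eq_zero_left (by linear_combination h)

theorem orth_step (B : V →ₗ[F] V →ₗ[F] F) (halt : ∀ v, B v v = 0) (W : Submodule F V)
    (hW : ∀ x ∈ W, (∀ y ∈ W, B x y = 0) → x = 0) {u w : V} (hu : u ∈ W) (hw : w ∈ W)
    (huw : B u w = 1) :
    (∀ x ∈ W ⊓ (LinearMap.ker (B u) ⊓ LinearMap.ker (B w)),
        (∀ y ∈ W ⊓ (LinearMap.ker (B u) ⊓ LinearMap.ker (B w)), B x y = 0) → x = 0) ∧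
      Module.finrank F ↥(W ⊓ (LinearMap.ker (B u) ⊓ LinearMap.ker (B w))) + 2 =
        Module.finrank F ↥W := by
  have hwu : B w u = -1 := by rw [skew B halt u w, huw]
  constructor
  · rintro x ⟨hxW, hxu, hxw⟩ hx
    rw [SetLike.mem_coe, LinearMap.mem_ker] at hxu hxw
    refine hW x hxW fun y hy => ?_
    have hy' : y - B u y • w + B w y • u ∈ W ⊓ (LinearMap.ker (B u) ⊓ LinearMap.ker (B w)) := by
      refine ⟨W.add_mem (W.sub_mem hy (W.smul_mem _ hw)) (W.smul_mem _ hu), ?_, ?_⟩ <;>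
        · simp only [SetLike.mem_coe, LinearMap.mem_ker, map_add, map_sub, map_smul, huw, hwu,
            halt, smul_eq_mul]
          ring
    have h := hx _ hy'
    have e1 : B x w = 0 := by rw [skew B halt w x, hxw, neg_zero]
    have e2 : B x u = 0 := by rw [skew B halt u x, hxu, neg_zero]
    simpa only [map_add, map_sub, map_smul, e1, e2, smul_zero, sub_zero, add_zero] using h
  · let φ : W →ₗ[F] F × F := ((B u).prod (B w)).domRestrict W
    have hsurj : LinearMap.range φ = ⊤ := by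
      rw [eq_top_iff]
      rintro ⟨a, b⟩ -
      refine ⟨⟨a • w - b • u, W.sub_mem (W.smul_mem _ hw) (W.smul_mem _ hu)⟩, ?_⟩
      ext
      · simp [φ, huw, halt]
      · simp [φ, hwu, halt]
    have h := LinearMap.finrank_range_add_finrank_ker φ
    rw [hsurj, finrank_top, Module.finrank_prod, Module.finrank_self,
      ← Submodule.finrank_map_subtype_eq W (LinearMap.ker φ)] at h
    have hk : (LinearMap.ker φ).map W.subtype =
        W ⊓ (LinearMap.ker (B u) ⊓ LinearMap.ker (B w)) := by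
      rw [show LinearMap.ker φ = (LinearMap.ker ((B u).prod (B w))).comap W.subtype from
        LinearMap.ker_domRestrict _ _, Submodule.map_comap_subtype, LinearMap.ker_prod]
    rw [hk] at h
    omega

theorem decompose (B : V →ₗ[F] V →ₗ[F] F) (halt : ∀ v, B v v = 0) (g : V →ₗ[F] V)
    (hgB : ∀ u v, B (g u) (g v) = B u v) (z : F) (hg2 : ∀ v, g (g v) = z • v)
    (Q : V × V → Prop) (swapOK : Prop)
    (hQ : ∀ u w, Q (u, w) → g u ∈ Submodule.span F {u, w} ∧ g w ∈ Submodule.span F {u, w})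
    (step : ∀ W : Submodule F V, W ≠ ⊥ → (∀ x ∈ W, g x ∈ W) →
      (∀ x ∈ W, (∀ y ∈ W, B x y = 0) → x = 0) →
      ∃ u w, u ∈ W ∧ w ∈ W ∧ B u w = 1 ∧ (Q (u, w) ∨
        (swapOK ∧ B u (g u) = 0 ∧ B u (g w) = 0 ∧ B w (g u) = 0 ∧ B w (g w) = 0))) :
    ∀ (N : ℕ) (W : Submodule F V), Module.finrank F W ≤ N → (∀ x ∈ W, g x ∈ W) →
      (∀ x ∈ W, (∀ y ∈ W, B x y = 0) → x = 0) →
      ∃ (k r : ℕ) (S : Fin k → V × V) (P : Fin r → V × V),
        (∀ i, (planes g S P i).1 ∈ W ∧ (planes g S P i).2 ∈ W) ∧ IsDual B (planes g S P) ∧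
          2 * (2 * k + r) = Module.finrank F W ∧ (∀ i, Q (P i)) ∧ (k ≠ 0 → swapOK) := by
  intro N
  induction N with
  | zero =>
    intro W hN _ _
    exact ⟨0, 0, Fin.elim0, Fin.elim0, fun i => by rcases i with ⟨m, _⟩ | i <;> exact Fin.elim0 ‹_›,
      ⟨fun i => by rcases i with ⟨m, _⟩ | i <;> exact Fin.elim0 ‹_›,
        fun i => by rcases i with ⟨m, _⟩ | i <;> exact Fin.elim0 ‹_›⟩, by omega, fun i => i.elim0,
      fun h => (h rfl).elim⟩
  | succ N ih =>
    intro W hN hinv hnd
    by_cases hW : W = ⊥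
    · exact ih W (by rw [hW, finrank_bot]; omega) hinv hnd
    have hswap : ∀ a x, B a (g x) = z * B (g a) x := by
      intro a x
      rw [← hgB a (g x), hg2, map_smul, smul_eq_mul]
    obtain ⟨u, w, hu, hw, huw, hcase⟩ := step W hW hinv hnd
    obtain ⟨hnd1, hdim1⟩ := orth_step B halt W hnd hu hw huw
    set W1 := W ⊓ (LinearMap.ker (B u) ⊓ LinearMap.ker (B w)) with hW1
    rcases hcase with hq | ⟨hok, h1, h2, h3, h4⟩
    · obtain ⟨hgu, hgw⟩ := hQ u w hq
      have hinv1 : ∀ x ∈ W1, g x ∈ W1 := by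
        rintro x ⟨hxW, hxu, hxw⟩
        rw [SetLike.mem_coe, LinearMap.mem_ker] at hxu hxw
        have hs : ∀ a ∈ Submodule.span F ({u, w} : Set V), B a x = 0 := by
          intro a ha
          obtain ⟨c, d, rfl⟩ := Submodule.mem_span_pair.mp ha
          simp [hxu, hxw]
        refine ⟨hinv x hxW, ?_, ?_⟩ <;> rw [SetLike.mem_coe, LinearMap.mem_ker, hswap]
        · rw [hs _ hgu, mul_zero]
        · rw [hs _ hgw, mul_zero]
      obtain ⟨k, r, S, P, hmem, ⟨hd1, hd2⟩, hcard, hPQ, hk⟩ := ih W1 (by omega) hinv1 hnd1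
      refine ⟨k, r + 1, S, Fin.cons (u, w) P, ?_, ⟨?_, ?_⟩, by omega, ?_, hk⟩
      · rintro (p | i)
        · exact ⟨(hmem (.inl p)).1.1, (hmem (.inl p)).2.1⟩
        · refine Fin.cases ?_ (fun i => ?_) i
          · simpa [planes] using And.intro hu hw
          · simpa [planes] using And.intro (hmem (.inr i)).1.1 (hmem (.inr i)).2.1
      · rintro (p | i)
        · exact hd1 (.inl p)
        · refine Fin.cases ?_ (fun i => ?_) i
          · simpa [planes] using huw
          · simpa [planes] using hd1 (.inr i)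
      · let old : (Fin k × Fin 2) ⊕ Fin r → (Fin k × Fin 2) ⊕ Fin (r + 1) := Sum.map id Fin.succ
        have hold : ∀ i, planes g S (Fin.cons (u, w) P) (old i) = planes g S P i := by
          rintro (p | i) <;> simp [planes, old]
        have hcases : ∀ j : (Fin k × Fin 2) ⊕ Fin (r + 1), j = .inr 0 ∨ ∃ i, old i = j := by
          rintro (p | i)
          · exact .inr ⟨.inl p, rfl⟩
          · refine Fin.cases (.inl rfl) (fun i => .inr ⟨.inr i, rfl⟩) i
        have hnew : planes g S (Fin.cons (u, w) P) (.inr 0) = (u, w) := by simp [planes]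
        intro i j hij
        rcases hcases i with rfl | ⟨i, rfl⟩ <;> rcases hcases j with rfl | ⟨j, rfl⟩
        · exact absurd rfl hij
        · rw [hold, hnew]
          obtain ⟨⟨-, a1, a2⟩, ⟨-, b1, b2⟩⟩ := hmem j
          exact ⟨a1, b1, a2, b2⟩
        · rw [hold, hnew]
          obtain ⟨⟨-, a1, a2⟩, ⟨-, b1, b2⟩⟩ := hmem i
          rw [SetLike.mem_coe, LinearMap.mem_ker] at a1 a2 b1 b2
          simp [skew B halt u, skew B halt w, a1, a2, b1, b2]
        · rw [hold, hold]; exact hd2 i j fun h => hij (h ▸ rfl)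
      · exact Fin.cases (by simpa using hq) (fun i => by simpa using hPQ i)
    · have hgu1 : g u ∈ W1 := ⟨hinv u hu, h1, h3⟩
      have hgw1 : g w ∈ W1 := ⟨hinv w hw, h2, h4⟩
      obtain ⟨hnd2, hdim2⟩ := orth_step B halt W1 hnd1 hgu1 hgw1 (by rw [hgB, huw])
      set W2 := W1 ⊓ (LinearMap.ker (B (g u)) ⊓ LinearMap.ker (B (g w))) with hW2
      have hinv2 : ∀ x ∈ W2, g x ∈ W2 := by
        rintro x ⟨⟨hxW, hxu, hxw⟩, hxgu, hxgw⟩
        rw [SetLike.mem_coe, LinearMap.mem_ker] at hxu hxw hxgu hxgw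
        refine ⟨⟨hinv x hxW, ?_, ?_⟩, ?_, ?_⟩ <;> rw [SetLike.mem_coe, LinearMap.mem_ker]
        · rw [hswap, hxgu, mul_zero]
        · rw [hswap, hxgw, mul_zero]
        · rw [hgB, hxu]
        · rw [hgB, hxw]
      obtain ⟨k, r, S, P, hmem, ⟨hd1, hd2⟩, hcard, hPQ, -⟩ := ih W2 (by omega) hinv2 hnd2
      refine ⟨k + 1, r, Fin.cons (u, w) S, P, ?_, ⟨?_, ?_⟩, by omega, hPQ, fun _ => hok⟩
      · rintro (⟨m, e⟩ | i)
        · refine Fin.cases ?_ (fun m => ?_) m
          · fin_cases e
            · simpa [planes] using And.intro hu hw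
            · simpa [planes] using And.intro (hinv u hu) (hinv w hw)
          · have := And.intro (hmem (.inl (m, e))).1.1.1 (hmem (.inl (m, e))).2.1.1
            simpa [planes] using this
        · exact ⟨(hmem (.inr i)).1.1.1, (hmem (.inr i)).2.1.1⟩
      · rintro (⟨m, e⟩ | i)
        · refine Fin.cases ?_ (fun m => ?_) m
          · fin_cases e
            · simpa [planes] using huw
            · simpa [planes, hgB] using huw
          · simpa [planes] using hd1 (.inl (m, e))
        · exact hd1 (.inr i)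
      · let old : (Fin k × Fin 2) ⊕ Fin r → (Fin (k + 1) × Fin 2) ⊕ Fin r :=
          Sum.map (Prod.map Fin.succ id) id
        set PL := planes g (Fin.cons (u, w) S) P with hPL
        have hold : ∀ i, PL (old i) = planes g S P i := by
          rintro (p | i) <;> simp [hPL, planes, old]
        have hcases : ∀ j : (Fin (k + 1) × Fin 2) ⊕ Fin r,
            (j = .inl (0, 0) ∨ j = .inl (0, 1)) ∨ ∃ i, old i = j := by
          rintro (⟨m, e⟩ | i)
          · refine Fin.cases ?_ (fun m => .inr ⟨.inl (m, e), rfl⟩) m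
            fin_cases e
            · exact .inl (.inl rfl)
            · exact .inl (.inr rfl)
          · exact .inr ⟨.inr i, rfl⟩
        have hn0 : PL (.inl (0, 0)) = (u, w) := by simp [hPL, planes]
        have hn1 : PL (.inl (0, 1)) = (g u, g w) := by simp [hPL, planes]
        intro i j hij
        rcases hcases i with (rfl | rfl) | ⟨i, rfl⟩ <;> rcases hcases j with (rfl | rfl) | ⟨j, rfl⟩
        · exact absurd rfl hij
        · rw [hn0, hn1]; exact ⟨h1, h2, h3, h4⟩
        · rw [hold, hn0]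
          obtain ⟨⟨⟨-, a1, a2⟩, -⟩, ⟨⟨-, b1, b2⟩, -⟩⟩ := hmem j
          exact ⟨a1, b1, a2, b2⟩
        · rw [hn0, hn1]
          simp [skew B halt u, skew B halt w, h1, h2, h3, h4]
        · exact absurd rfl hij
        · rw [hold, hn1]
          obtain ⟨⟨-, a1, a2⟩, ⟨-, b1, b2⟩⟩ := hmem j
          exact ⟨a1, b1, a2, b2⟩
        · rw [hold, hn0]
          obtain ⟨⟨⟨-, a1, a2⟩, -⟩, ⟨⟨-, b1, b2⟩, -⟩⟩ := hmem i
          rw [SetLike.mem_coe, LinearMap.mem_ker] at a1 a2 b1 b2
          simp [skew B halt u, skew B halt w, a1, a2, b1, b2]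
        · rw [hold, hn1]
          obtain ⟨⟨-, a1, a2⟩, ⟨-, b1, b2⟩⟩ := hmem i
          rw [SetLike.mem_coe, LinearMap.mem_ker] at a1 a2 b1 b2
          simp [skew B halt (g u), skew B halt (g w), a1, a2, b1, b2]
        · rw [hold, hold]; exact hd2 i j fun h => hij (h ▸ rfl)

/-- The vectors of a family of pairs. -/
def vecs {ι : Type*} (P : ι → V × V) : ι × Fin 2 → V :=
  fun p => if p.2 = 0 then (P p.1).1 else (P p.1).2

theorem linearIndependent_vecs (B : V →ₗ[F] V →ₗ[F] F) (halt : ∀ v, B v v = 0) {ι : Type*}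
    [Fintype ι] {P : ι → V × V} (hP : IsDual B P) : LinearIndependent F (vecs P) := by
  classical
  rw [Fintype.linearIndependent_iff]
  intro c hc
  have hpair : ∀ i (x : V), (x = (P i).1 ∨ x = (P i).2) →
      c (i, 0) * B x (P i).1 + c (i, 1) * B x (P i).2 = 0 := by
    intro i x hx
    have := congrArg (B x) hc
    rw [Fintype.sum_prod_type, map_sum, Finset.sum_eq_single i, map_zero] at this
    · simpa [vecs, Fin.sum_univ_two] using this
    · intro j _ hji
      obtain ⟨a, b, c', d⟩ := hP.2 i j (Ne.symm hji)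
      rcases hx with rfl | rfl <;> simp [vecs, Fin.sum_univ_two, a, b, c', d]
    · exact fun h => absurd (Finset.mem_univ i) h
  rintro ⟨i, e⟩
  have h1 := hpair i _ (.inl rfl)
  have h2 := hpair i _ (.inr rfl)
  simp only [halt, hP.1, skew B halt (P i).1 (P i).2, mul_zero, zero_add, add_zero, mul_one, mul_neg,
    neg_eq_zero] at h1 h2
  fin_cases e <;> assumption

end Cfsg.Agent.SympInvolution
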