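import Mathlib
import Cfsg.Prelude.Def_ClassicalGeometry
import Cfsg.Agent.Lib.SympInvolution

/-!
The step hypotheses of `SympInvolution.decompose`, and the symplectic involution data of a matrix.
-/

set_option autoImplicit false

namespace Cfsg.Agent.SympInvolutionSteps

open Cfsg.Agent.SympInvolution

section Abstract

variable {F V : Type*} [Field F] [AddCommGroup V] [Module F V] [FiniteDimensional F V]
variable (B : V →ₗ[F] V →ₗ[F] F) (g : V →ₗ[F] V)

/-- `g` fixes both lines of the pair. -/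
def FixesLines (p : V × V) : Prop := (∃ c : F, g p.1 = c • p.1) ∧ ∃ c : F, g p.2 = c • p.2

/-- `g` interchanges the two lines of the pair. -/
def SwapsLines (p : V × V) : Prop := (∃ c : F, g p.1 = c • p.2) ∧ ∃ c : F, g p.2 = c • p.1

/-- `g` maps the plane of the pair into itself. -/
def FixesPlane (p : V × V) : Prop :=
  g p.1 ∈ Submodule.span F {p.1, p.2} ∧ g p.2 ∈ Submodule.span F {p.1, p.2}

theorem fixesPlane_of_fixesLines {p : V × V} (h : FixesLines g p) : FixesPlane g p := by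
  obtain ⟨⟨c, hc⟩, d, hd⟩ := h
  exact ⟨hc ▸ Submodule.smul_mem _ c (Submodule.subset_span (Set.mem_insert _ _)),
    hd ▸ Submodule.smul_mem _ d (Submodule.subset_span (Set.mem_insert_of_mem _ rfl))⟩

theorem fixesPlane_of_swapsLines {p : V × V} (h : SwapsLines g p) : FixesPlane g p := by
  obtain ⟨⟨c, hc⟩, d, hd⟩ := h
  exact ⟨hc ▸ Submodule.smul_mem _ c (Submodule.subset_span (Set.mem_insert_of_mem _ rfl)),
    hd ▸ Submodule.smul_mem _ d (Submodule.subset_span (Set.mem_insert _ _))⟩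

variable (halt : ∀ v, B v v = 0) (hgB : ∀ u v, B (g u) (g v) = B u v)

include halt

theorem exists_pair {W : Submodule F V} (hnd : ∀ x ∈ W, (∀ y ∈ W, B x y = 0) → x = 0)
    {u : V} (hu : u ∈ W) (hu0 : u ≠ 0) : ∃ w ∈ W, B u w = 1 := by
  obtain ⟨y, hy, hy0⟩ : ∃ y ∈ W, B u y ≠ 0 := by
    by_contra! h
    exact hu0 (hnd u hu h)
  exact ⟨(B u y)⁻¹ • y, W.smul_mem _ hy, by simp [inv_mul_cancel₀ hy0]⟩

include hgB

theorem step_one (h2 : (2 : F) ≠ 0) (hg2 : ∀ v, g (g v) = v) (W : Submodule F V) (hW : W ≠ ⊥)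
    (hinv : ∀ x ∈ W, g x ∈ W) (hnd : ∀ x ∈ W, (∀ y ∈ W, B x y = 0) → x = 0) :
    ∃ u w, u ∈ W ∧ w ∈ W ∧ B u w = 1 ∧ FixesLines g (u, w) := by
  obtain ⟨v, hv, hv0⟩ := Submodule.exists_mem_ne_zero_of_ne_bot hW
  obtain ⟨u, hu, hu0, c, hc, hc2⟩ : ∃ u ∈ W, u ≠ 0 ∧ ∃ c : F, g u = c • u ∧ c * c = 1 := by
    by_cases h : v + g v = 0
    · refine ⟨v, hv, hv0, -1, ?_, by ring⟩
      rw [neg_one_smul]; exact eq_neg_of_add_eq_zero_right h
    · exact ⟨v + g v, W.add_mem hv (hinv v hv), h, 1, by rw [map_add, hg2, one_smul, add_comm],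
        by ring⟩
  obtain ⟨w0, hw0, huw0⟩ := exists_pair B halt hnd hu hu0
  refine ⟨u, (2 : F)⁻¹ • (w0 + c • g w0), hu,
    W.smul_mem _ (W.add_mem hw0 (W.smul_mem _ (hinv _ hw0))), ?_, ⟨c, hc⟩, c, ?_⟩
  · have h1 : B u (g w0) = c := by
      have h := hgB u w0
      rw [hc, map_smul, LinearMap.smul_apply, smul_eq_mul, huw0] at h
      calc B u (g w0) = c * (c * B u (g w0)) := by rw [← mul_assoc, hc2, one_mul]
        _ = c := by rw [h, mul_one]
    simp only [map_smul, map_add, smul_eq_mul, huw0, h1, hc2, one_add_one_eq_two,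
      inv_mul_cancel₀ h2]
  · simp only [map_smul, map_add, hg2]
    rw [smul_comm c, smul_add (c : F), smul_smul c c, hc2, one_smul, add_comm (c • w0)]

theorem step_neg_one (h2 : (2 : F) ≠ 0) (hg2 : ∀ v, g (g v) = -v) (W : Submodule F V) (hW : W ≠ ⊥)
    (hinv : ∀ x ∈ W, g x ∈ W) (hnd : ∀ x ∈ W, (∀ y ∈ W, B x y = 0) → x = 0) :
    ∃ u w, u ∈ W ∧ w ∈ W ∧ B u w = 1 ∧ SwapsLines g (u, w) := by
  obtain ⟨v, hv, hv0⟩ : ∃ v ∈ W, B v (g v) ≠ 0 := by
    by_contra! hall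
    obtain ⟨x, hx, hx0⟩ := Submodule.exists_mem_ne_zero_of_ne_bot hW
    obtain ⟨y, hy, hxy⟩ := exists_pair B halt hnd hx hx0
    have hy' : g (-g y) = y := by rw [map_neg, hg2, neg_neg]
    have hw : -g y ∈ W := W.neg_mem (hinv y hy)
    have h := hall (x + -g y) (W.add_mem hx hw)
    have e : B (-g y) (g x) = B x y := by
      rw [← hgB (-g y) (g x), hy', hg2, map_neg, skew B halt x y, neg_neg]
    have hall' := hall _ hw
    rw [hy'] at hall'
    simp only [map_add, LinearMap.add_apply, hall x hx, hall', zero_add, add_zero,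
      hy', e, hxy] at h
    exact h2 (by linear_combination h)
  refine ⟨v, (B v (g v))⁻¹ • g v, hv, W.smul_mem _ (hinv v hv), by simp [inv_mul_cancel₀ hv0],
    ⟨B v (g v), by simp [smul_smul, mul_inv_cancel₀ hv0]⟩, -(B v (g v))⁻¹, ?_⟩
  simp [map_smul, hg2]

theorem step_char_two (h2 : (2 : F) = 0) (hg2 : ∀ v, g (g v) = v) (W : Submodule F V)
    (hW : W ≠ ⊥) (hinv : ∀ x ∈ W, g x ∈ W) (hnd : ∀ x ∈ W, (∀ y ∈ W, B x y = 0) → x = 0) :
    ∃ u w, u ∈ W ∧ w ∈ W ∧ B u w = 1 ∧ (FixesPlane g (u, w) ∨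
      (True ∧ B u (g u) = 0 ∧ B u (g w) = 0 ∧ B w (g u) = 0 ∧ B w (g w) = 0)) := by
  by_cases hA : ∃ v ∈ W, B v (g v) ≠ 0
  · obtain ⟨v, hv, hv0⟩ := hA
    refine ⟨v, (B v (g v))⁻¹ • g v, hv, W.smul_mem _ (hinv v hv), by simp [inv_mul_cancel₀ hv0],
      .inl (fixesPlane_of_swapsLines g ⟨⟨B v (g v), by simp [smul_smul, mul_inv_cancel₀ hv0]⟩,
        (B v (g v))⁻¹, ?_⟩)⟩
    simp [map_smul, hg2]
  push Not at hA
  by_cases hid : ∀ v ∈ W, g v = v
  · obtain ⟨u, hu, hu0⟩ := Submodule.exists_mem_ne_zero_of_ne_bot hW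
    obtain ⟨w, hw, huw⟩ := exists_pair B halt hnd hu hu0
    exact ⟨u, w, hu, hw, huw, .inl (fixesPlane_of_fixesLines g
      ⟨⟨1, by simp [hid u hu]⟩, 1, by simp [hid w hw]⟩)⟩
  push Not at hid
  obtain ⟨u, hu, hgu⟩ := hid
  obtain ⟨w0, hw0, hw1⟩ := exists_pair B halt hnd (W.sub_mem (hinv u hu) hu) (sub_ne_zero.mpr hgu)
  rw [map_sub, LinearMap.sub_apply] at hw1
  set f0 := B u w0 with hf0
  have hgw0 : B u (g w0) = 1 + f0 := by
    rw [← hgB u (g w0), hg2]; linear_combination hw1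
  set w := w0 + (1 - f0) • (g w0 - w0) with hwdef
  have hwW : w ∈ W := W.add_mem hw0 (W.smul_mem _ (W.sub_mem (hinv _ hw0) hw0))
  have huw : B u w = 1 := by
    simp only [hwdef, map_add, map_smul, map_sub, smul_eq_mul, hgw0, ← hf0]
    ring
  have hugw : B u (g w) = 0 := by
    simp only [hwdef, map_add, map_smul, map_sub, smul_eq_mul, hgw0, hg2, ← hf0]
    linear_combination f0 * h2
  refine ⟨u, w, hu, hwW, huw, .inr ⟨trivial, hA u hu, hugw, ?_, hA w hwW⟩⟩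
  rw [← hgB w (g u), hg2, skew B halt u (g w), hugw, neg_zero]

end Abstract

section Concrete

open Matrix

variable {F : Type*} [Field F] {d : ℕ}

/-- The standard symplectic form as a bilinear map. -/
def bForm (d : ℕ) (F : Type*) [Field F] :
    (Fin d ⊕ Fin d → F) →ₗ[F] (Fin d ⊕ Fin d → F) →ₗ[F] F :=
  LinearMap.mk₂ F (sympForm d F) (fun u u' v => by simp [sympForm, add_dotProduct])
    (fun c u v => by simp [sympForm, smul_dotProduct])
    (fun u v v' => by simp [sympForm, Matrix.mulVec_add, dotProduct_add])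
    (fun c u v => by simp [sympForm, Matrix.mulVec_smul, dotProduct_smul])

@[simp] theorem bForm_apply (u v : Fin d ⊕ Fin d → F) : bForm d F u v = sympForm d F u v := rfl

theorem form_sum (u v : Fin d ⊕ Fin d → F) :
    sympForm d F u v = ∑ i, (u (Sum.inr i) * v (Sum.inl i) - u (Sum.inl i) * v (Sum.inr i)) := by
  simp [sympForm, Matrix.J, Matrix.fromBlocks_mulVec, dotProduct, Fintype.sum_sum_type,
    Finset.sum_add_distrib, Matrix.neg_mulVec, sub_eq_add_neg, add_comm]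

theorem bForm_self (u : Fin d ⊕ Fin d → F) : bForm d F u u = 0 := by
  rw [bForm_apply, form_sum]; exact Finset.sum_eq_zero fun i _ => by ring

theorem bForm_nondeg (x : Fin d ⊕ Fin d → F) (h : ∀ y, bForm d F x y = 0) : x = 0 := by
  funext i
  rcases i with i | i
  · have := h (Pi.single (Sum.inr i) 1)
    simpa [form_sum, Pi.single_apply] using this
  · have := h (Pi.single (Sum.inl i) 1)
    simpa [form_sum, Pi.single_apply] using this

theorem bForm_map (x : ↥(Matrix.symplecticGroup (Fin d) F)) (u v : Fin d ⊕ Fin d → F) :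
    bForm d F (Matrix.toLin' (x : Matrix _ _ F) u) (Matrix.toLin' (x : Matrix _ _ F) v) =
      bForm d F u v := by
  simp only [bForm_apply, sympForm, Matrix.toLin'_apply]
  rw [Matrix.mulVec_mulVec, ← Matrix.vecMul_transpose, ← Matrix.dotProduct_mulVec,
    Matrix.mulVec_mulVec, ← Matrix.mul_assoc, SymplecticGroup.mem_iff'.mp x.2]

theorem square_scalar (hd : 1 ≤ d) (x : ↥(Matrix.symplecticGroup (Fin d) F))
    (hx : ∃ z : F, ((x ^ 2 : ↥(Matrix.symplecticGroup (Fin d) F)) : Matrix _ _ F) =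
      z • (1 : Matrix (Fin d ⊕ Fin d) (Fin d ⊕ Fin d) F)) :
    ∃ z : F, (z = 1 ∨ z = -1) ∧ ∀ v, Matrix.toLin' (x : Matrix (Fin d ⊕ Fin d) (Fin d ⊕ Fin d) F)
      (Matrix.toLin' (x : Matrix (Fin d ⊕ Fin d) (Fin d ⊕ Fin d) F) v) = z • v := by
  obtain ⟨z, hz⟩ := hx
  have hg2 : ∀ v, Matrix.toLin' (x : Matrix (Fin d ⊕ Fin d) (Fin d ⊕ Fin d) F) (Matrix.toLin' (x : Matrix (Fin d ⊕ Fin d) (Fin d ⊕ Fin d) F) v) = z • v := by
    intro v
    have hxx : (x : Matrix (Fin d ⊕ Fin d) (Fin d ⊕ Fin d) F) * (x : Matrix (Fin d ⊕ Fin d) (Fin d ⊕ Fin d) F) = z • 1 := by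
      rw [← hz, pow_two]; rfl
    rw [Matrix.toLin'_apply, Matrix.toLin'_apply, Matrix.mulVec_mulVec, hxx, Matrix.smul_mulVec,
      Matrix.one_mulVec]
  let j : Fin d := ⟨0, hd⟩
  have hpair : bForm d F (Pi.single (Sum.inr j) 1) (Pi.single (Sum.inl j) 1) = 1 := by
    simp [form_sum, Pi.single_apply]
  have h := bForm_map x (Matrix.toLin' (x : Matrix (Fin d ⊕ Fin d) (Fin d ⊕ Fin d) F) (Pi.single (Sum.inr j) 1))
    (Matrix.toLin' (x : Matrix (Fin d ⊕ Fin d) (Fin d ⊕ Fin d) F) (Pi.single (Sum.inl j) 1))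
  rw [hg2, hg2, bForm_map] at h
  simp only [map_smul, LinearMap.smul_apply, hpair, smul_eq_mul, mul_one] at h
  exact ⟨z, mul_self_eq_one_iff.mp h, hg2⟩

end Concrete

end Cfsg.Agent.SympInvolutionSteps
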