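import Mathlib

/-!
Additive automorphism groups of `F³` containing the unipotent and diagonal transformations of the
symmetric square in which the first axis has trivial intersection with its translates: there are
exactly `|F| + 1` translates of the first axis (`exists_other`).
-/

set_option autoImplicit false

namespace Cfsg.Agent.SympM42

universe u

/-- The space of symmetric `2 × 2` matrices, as triples `(z, a, s)`. -/
abbrev V (F : Type u) : Type u := F × F × F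

/-- Additive automorphisms, with composition as the group law. -/
abbrev Au (F : Type u) [Field F] : Type u := V F ≃ₗ[ℕ] V F

section defs

variable {F : Type u} [Field F]

/-- The unipotent transformation. -/
def uA (b : F) : Au F := AddEquiv.toNatLinearEquiv <| {
  toFun v := (v.1 + 2 * b * v.2.1 + b * b * v.2.2, v.2.1 + b * v.2.2, v.2.2)
  invFun v := (v.1 - 2 * b * v.2.1 + b * b * v.2.2, v.2.1 - b * v.2.2, v.2.2)
  left_inv v := by refine Prod.ext ?_ (Prod.ext ?_ ?_) <;> simp <;> ring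
  right_inv v := by refine Prod.ext ?_ (Prod.ext ?_ ?_) <;> simp <;> ring
  map_add' v w := by refine Prod.ext ?_ (Prod.ext ?_ ?_) <;> simp <;> ring }

@[simp] lemma uA_apply (b : F) (v : V F) :
    uA b v = (v.1 + 2 * b * v.2.1 + b * b * v.2.2, v.2.1 + b * v.2.2, v.2.2) := rfl

/-- The diagonal transformation. -/
def tA (c : Fˣ) : Au F := AddEquiv.toNatLinearEquiv <| {
  toFun v := (v.1, c * v.2.1, (c : F) * c * v.2.2)
  invFun v := (v.1, (c⁻¹ : Fˣ) * v.2.1, ((c⁻¹ : Fˣ) : F) * (c⁻¹ : Fˣ) * v.2.2)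
  left_inv v := by refine Prod.ext ?_ (Prod.ext ?_ ?_) <;> simp <;> field_simp
  right_inv v := by refine Prod.ext ?_ (Prod.ext ?_ ?_) <;> simp <;> field_simp
  map_add' v w := by refine Prod.ext ?_ (Prod.ext ?_ ?_) <;> simp <;> ring }

@[simp] lemma tA_apply (c : Fˣ) (v : V F) : tA c v = (v.1, c * v.2.1, (c : F) * c * v.2.2) := rfl

@[simp] lemma mul_apply' (f g : Au F) (v : V F) : (f * g) v = f (g v) := rfl

lemma inv_apply_self' (f : Au F) (v : V F) : f⁻¹ (f v) = v := f.symm_apply_apply v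

lemma apply_inv_self' (f : Au F) (v : V F) : f (f⁻¹ v) = v := f.apply_symm_apply v

lemma uA_add (b c : F) : uA b * uA c = uA (b + c) := by
  refine LinearEquiv.ext fun v => Prod.ext ?_ (Prod.ext ?_ ?_) <;> simp <;> ring

lemma uA_zero : uA (0 : F) = 1 := by
  refine LinearEquiv.ext fun v => Prod.ext ?_ (Prod.ext ?_ ?_) <;> simp

lemma uA_inv (b : F) : (uA b)⁻¹ = uA (-b) :=
  inv_eq_of_mul_eq_one_right (by rw [uA_add, add_neg_cancel, uA_zero])

lemma uA_inj {b c : F} (h : uA b = uA c) : b = c := by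
  simpa using congrArg (fun f : Au F => (f (0, 0, 1)).2.1) h

lemma tA_mul (c d : Fˣ) : tA c * tA d = tA (c * d) := by
  refine LinearEquiv.ext fun v => Prod.ext ?_ (Prod.ext ?_ ?_) <;> simp <;> ring

lemma tA_uA (c : Fˣ) (b : F) : tA c * uA b = uA (b / (c : F)) * tA c := by
  refine LinearEquiv.ext fun v => Prod.ext ?_ (Prod.ext ?_ ?_) <;> simp <;> field_simp

lemma tA_one : tA (1 : Fˣ) = 1 := by
  refine LinearEquiv.ext fun v => Prod.ext ?_ (Prod.ext ?_ ?_) <;> simp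

/-- The axis `(F, 0, 0)`. -/
def Z0 (F : Type u) [Field F] : Set (V F) := {v | v.2.1 = 0 ∧ v.2.2 = 0}

/-- The plane `a = 0`. -/
def W0 (F : Type u) [Field F] : Set (V F) := {v | v.2.1 = 0}

/-- The axis `(0, 0, F)`. -/
def S0 (F : Type u) [Field F] : Set (V F) := {v | v.1 = 0 ∧ v.2.1 = 0}

lemma mem_Z0 {v : V F} : v ∈ Z0 F ↔ v.2.1 = 0 ∧ v.2.2 = 0 := Iff.rfl

lemma mem_W0 {v : V F} : v ∈ W0 F ↔ v.2.1 = 0 := Iff.rfl

/-- The translate of the axis. -/
def pt (f : Au F) : Set (V F) := f '' Z0 F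

lemma pt_one : pt (1 : Au F) = Z0 F := by
  ext v; simp [pt]

lemma pt_mul (f g : Au F) : pt (f * g) = f '' pt g := by
  rw [pt, pt, Set.image_image]; rfl

lemma mem_pt {f : Au F} {v : V F} : v ∈ pt f ↔ f⁻¹ v ∈ Z0 F :=
  ⟨fun ⟨w, hw, e⟩ => by rwa [← e, inv_apply_self'],
    fun h => ⟨_, h, apply_inv_self' f v⟩⟩

lemma zero_mem_pt (f : Au F) : (0 : V F) ∈ pt f :=
  ⟨0, ⟨rfl, rfl⟩, map_zero f⟩

end defs

/-- Hypotheses on the group. -/
structure Geom (F : Type u) [Field F] (Γ : Subgroup (Au F)) : Prop where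
  two_ne : (2 : F) ≠ 0
  u_mem : ∀ b : F, uA b ∈ Γ
  t_mem : ∀ c : Fˣ, tA c ∈ Γ
  fix : ∀ f ∈ Γ, ∀ v ∈ Z0 F, v ≠ 0 → f v = v → ∃ b c, f = uA b * tA c
  stab : ∀ f ∈ Γ, ∀ v ∈ Z0 F, v ≠ 0 → f v ∈ Z0 F → ∀ w ∈ Z0 F, f w ∈ Z0 F
  moves : ∃ f ∈ Γ, pt f ≠ Z0 F
  two_classes : ∃ v ∈ Z0 F, ∃ w ∈ Z0 F, v ≠ 0 ∧ w ≠ 0 ∧ ∀ f ∈ Γ, f v ≠ w

namespace Geom

variable {F : Type u} [Field F] [Finite F] {Γ : Subgroup (Au F)} (H : Geom F Γ)
include H

lemma image_Z0_eq {f : Au F} (h : ∀ w ∈ Z0 F, f w ∈ Z0 F) : pt f = Z0 F := by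
  refine Set.eq_of_subset_of_ncard_le (fun v ⟨w, hw, e⟩ => e ▸ h w hw) ?_ (Set.toFinite _)
  rw [pt, Set.ncard_image_of_injective _ f.injective]

lemma stab' {f : Au F} (hf : f ∈ Γ) {v : V F} (hv : v ∈ Z0 F) (h0 : v ≠ 0)
    (h : f v ∈ Z0 F) : pt f = Z0 F :=
  H.image_Z0_eq (H.stab f hf v hv h0 h)

/-- Trivial intersections. -/
lemma ti {f g : Au F} (hf : f ∈ Γ) (hg : g ∈ Γ) {v : V F} (h0 : v ≠ 0) (h1 : v ∈ pt f)
    (h2 : v ∈ pt g) : pt f = pt g := by
  rw [mem_pt] at h1 h2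
  have h3 : (g⁻¹ * f) (f⁻¹ v) ∈ Z0 F := by rwa [mul_apply', apply_inv_self']
  have h4 : f⁻¹ v ≠ 0 := fun e => h0 (by rw [← apply_inv_self' f v, e, map_zero])
  have h5 := H.stab' (Γ.mul_mem (Γ.inv_mem hg) hf) h1 h4 h3
  calc pt f = pt (g * (g⁻¹ * f)) := by rw [mul_inv_cancel_left]
    _ = g '' Z0 F := by rw [pt_mul, h5]

omit [Finite F] in
lemma neg_ne {x : F} (hx : x ≠ 0) : -x ≠ x := fun e =>
  hx ((mul_eq_zero.mp (show (2 : F) * x = 0 by linear_combination -e)).resolve_left H.two_ne)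

lemma fix_all {f : Au F} (hf : f ∈ Γ) {v : V F} (hv : v ∈ Z0 F) (h0 : v ≠ 0) (h : f v = v)
    {w : V F} (hw : w ∈ Z0 F) : f w = w := by
  obtain ⟨b, c, rfl⟩ := H.fix f hf v hv h0 h
  obtain ⟨h1, h2⟩ := hw
  refine Prod.ext ?_ (Prod.ext ?_ ?_) <;> simp [h1, h2]

/-- The central involution. -/
def jA (_ : Geom F Γ) : Au F := tA (-1)

omit [Finite F] in
lemma j_apply (v : V F) : H.jA v = (v.1, -v.2.1, v.2.2) := by
  simp [jA]

omit [Finite F] in
lemma j_mem : H.jA ∈ Γ := H.t_mem _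

omit [Finite F] in
lemma j_sq : H.jA * H.jA = 1 := by
  rw [jA, tA_mul]; simp [tA_one]

omit [Finite F] in
lemma j_fix_iff {v : V F} : H.jA v = v ↔ v ∈ W0 F := by
  rw [H.j_apply, mem_W0]
  constructor
  · intro h
    by_contra h0
    exact H.neg_ne h0 (congrArg (fun w : V F => w.2.1) h)
  · intro h
    exact Prod.ext rfl (Prod.ext (by simp [h]) rfl)

/-- An involution of the group negating a vector of a translate negates the whole translate. -/
lemma inverted {f τ : Au F} (hf : f ∈ Γ) (hτ : τ ∈ Γ) (h2 : τ * τ = 1) {v : V F}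
    (hv : v ∈ pt f) (h0 : v ≠ 0) (hneg : τ v = -v) : ∀ w ∈ pt f, τ w = -w := by
  rw [mem_pt] at hv
  set σ := f⁻¹ * τ * f with hσ
  have hσΓ : σ ∈ Γ := Γ.mul_mem (Γ.mul_mem (Γ.inv_mem hf) hτ) hf
  have hσ2 : σ * σ = 1 := by
    rw [hσ]; calc _ = f⁻¹ * (τ * τ) * f := by group
      _ = 1 := by rw [h2]; group
  have hx0 : f⁻¹ v ≠ 0 := fun e => h0 (by rw [← apply_inv_self' f v, e, map_zero])
  have hxneg : σ (f⁻¹ v) = -(f⁻¹ v) := by
    rw [hσ, mul_apply', mul_apply', apply_inv_self', hneg, map_neg]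
  have hnegZ : -(f⁻¹ v) ∈ Z0 F := by
    exact ⟨by rw [Prod.snd_neg, Prod.fst_neg, hv.1, neg_zero], by rw [Prod.snd_neg, Prod.snd_neg, hv.2, neg_zero]⟩
  have hst := H.stab σ hσΓ _ hv hx0 (hxneg ▸ hnegZ)
  intro w hw
  rw [mem_pt] at hw
  have key : σ (f⁻¹ w) = -(f⁻¹ w) := by
    by_contra hne
    have hy : f⁻¹ w + σ (f⁻¹ w) ∈ Z0 F := by
      have := hst _ hw
      exact ⟨by rw [Prod.snd_add, Prod.fst_add, hw.1, this.1, add_zero],
        by rw [Prod.snd_add, Prod.snd_add, hw.2, this.2, add_zero]⟩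
    have hy0 : f⁻¹ w + σ (f⁻¹ w) ≠ 0 := fun e => hne (eq_neg_of_add_eq_zero_right e)
    have hfy : σ (f⁻¹ w + σ (f⁻¹ w)) = f⁻¹ w + σ (f⁻¹ w) := by
      rw [map_add, ← mul_apply' σ σ, hσ2]
      exact add_comm _ _
    have := H.fix_all hσΓ hy hy0 hfy hv
    rw [hxneg] at this
    have h1 : (f⁻¹ v).1 ≠ 0 := fun e => hx0 (Prod.ext e (Prod.ext hv.1 hv.2))
    exact H.neg_ne h1 (congrArg Prod.fst this)
  have e : f (σ (f⁻¹ w)) = τ w := by
    rw [hσ, mul_apply', mul_apply', apply_inv_self', apply_inv_self']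
  rw [← e, key, map_neg, apply_inv_self']

/-- No translate contains a vector `(z, a, 0)` with `a ≠ 0`. -/
lemma s_ne_zero {f : Au F} (hf : f ∈ Γ) {v : V F} (hv : v ∈ pt f) (hs : v.2.2 = 0) :
    v.2.1 = 0 := by
  by_contra ha
  set b : F := -v.1 / (2 * v.2.1)
  set g := uA b * f with hg
  have hgΓ : g ∈ Γ := Γ.mul_mem (H.u_mem _) hf
  set x : V F := (0, v.2.1, 0) with hx
  have hxg : x ∈ pt g := by
    rw [hg, pt_mul]
    refine ⟨v, hv, ?_⟩
    have h2 := H.two_ne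
    refine Prod.ext ?_ (Prod.ext ?_ ?_) <;> simp [hx, hs, b]
    field_simp
    ring
  have hx0 : x ≠ 0 := fun e => ha (congrArg (fun w : V F => w.2.1) e)
  have hinv := H.inverted hgΓ H.j_mem H.j_sq hxg hx0 (by simp [H.j_apply, hx])
  have hsub : pt g ⊆ {w : V F | w.1 = 0 ∧ w.2.2 = 0} := by
    intro w hw
    have e := hinv w hw
    rw [H.j_apply] at e
    refine ⟨by_contra fun h => H.neg_ne h (congrArg Prod.fst e).symm,
      by_contra fun h => H.neg_ne h (congrArg (fun y : V F => y.2.2) e).symm⟩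
  have hax : {w : V F | w.1 = 0 ∧ w.2.2 = 0} = pt g := by
    refine (Set.eq_of_subset_of_ncard_le hsub ?_ (Set.toFinite _)).symm
    rw [pt, Set.ncard_image_of_injective _ g.injective]
    refine le_of_eq (Set.ncard_congr (fun w _ => ((w.2.1, 0, 0) : V F)) (fun w _ => ⟨rfl, rfl⟩) ?_ ?_)
    · intro w w' hw hw' e
      exact Prod.ext (hw.1.trans hw'.1.symm) (Prod.ext (congrArg (fun y : V F => y.1) e) (hw.2.trans hw'.2.symm))
    · intro w hw
      exact ⟨(0, w.1, 0), ⟨rfl, rfl⟩, Prod.ext rfl (Prod.ext hw.1.symm hw.2.symm)⟩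
  obtain ⟨v₁, hv₁, v₂, hv₂, h1, h2, hne⟩ := H.two_classes
  have m1 : g v₁ ∈ pt g := ⟨v₁, hv₁, rfl⟩
  have m2 : g v₂ ∈ pt g := ⟨v₂, hv₂, rfl⟩
  rw [← hax] at m1 m2
  have n1 : (g v₁).2.1 ≠ 0 := fun e => h1 (g.injective (by
    rw [map_zero]; exact Prod.ext m1.1 (Prod.ext e m1.2)))
  have n2 : (g v₂).2.1 ≠ 0 := fun e => h2 (g.injective (by
    rw [map_zero]; exact Prod.ext m2.1 (Prod.ext e m2.2)))
  set c : Fˣ := Units.mk0 ((g v₂).2.1 / (g v₁).2.1) (div_ne_zero n2 n1)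
  refine hne (g⁻¹ * tA c * g) (Γ.mul_mem (Γ.mul_mem (Γ.inv_mem hgΓ) (H.t_mem c)) hgΓ) ?_
  have e : tA c (g v₁) = g v₂ := by
    refine Prod.ext ?_ (Prod.ext ?_ ?_) <;> simp [c, m1.1, m1.2, m2.1, m2.2, div_mul_cancel₀ _ n1]
  rw [mul_apply', mul_apply', e, inv_apply_self']

lemma s_inj {f : Au F} (hf : f ∈ Γ) (hne : pt f ≠ Z0 F) {v w : V F} (hv : v ∈ pt f)
    (hw : w ∈ pt f) (h : v.2.2 = w.2.2) : v = w := by
  by_contra e
  have hd : v - w ∈ pt f := by
    obtain ⟨x, hx, rfl⟩ := hv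
    obtain ⟨y, hy, rfl⟩ := hw
    exact ⟨x - y, ⟨by simp [hx.1, hy.1], by simp [hx.2, hy.2]⟩, map_sub f x y⟩
  have hs : (v - w).2.2 = 0 := by simp [h]
  have ha := H.s_ne_zero hf hd hs
  refine hne ((H.ti hf Γ.one_mem (sub_ne_zero.mpr e) hd ?_).trans pt_one)
  rw [pt_one]; exact ⟨ha, hs⟩

lemma exists_s {f : Au F} (hf : f ∈ Γ) (hne : pt f ≠ Z0 F) (s : F) :
    ∃ v ∈ pt f, v.2.2 = s := by
  have h : Function.Surjective (fun x : F => (f (x, 0, 0)).2.2) := by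
    refine Finite.surjective_of_injective fun x y e => ?_
    have := H.s_inj hf hne ⟨_, ⟨rfl, rfl⟩, rfl⟩ ⟨_, ⟨rfl, rfl⟩, rfl⟩ e
    exact congrArg Prod.fst (f.injective this)
  obtain ⟨x, hx⟩ := h s
  exact ⟨_, ⟨(x, 0, 0), ⟨rfl, rfl⟩, rfl⟩, hx⟩

lemma jfix_sub {f : Au F} (hf : f ∈ Γ) (hne : pt f ≠ Z0 F)
    (hst : H.jA '' pt f = pt f) : pt f ⊆ W0 F := by
  intro v hv
  have hjv : H.jA v ∈ pt f := hst ▸ Set.mem_image_of_mem _ hv
  exact H.j_fix_iff.mp (H.s_inj hf hne hjv hv (by simp [H.j_apply]))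

/-- Every other translate has a unipotent translate inside `a = 0`. -/
lemma exists_toW {f : Au F} (hf : f ∈ Γ) (hne : pt f ≠ Z0 F) :
    ∃ b : F, pt (uA b * f) ⊆ W0 F := by
  obtain ⟨v, hv, hs⟩ := H.exists_s hf hne 1
  set b : F := -v.2.1
  have hΓ : uA b * f ∈ Γ := Γ.mul_mem (H.u_mem _) hf
  have hm : uA b v ∈ pt (uA b * f) := by rw [pt_mul]; exact ⟨v, hv, rfl⟩
  have hW : uA b v ∈ W0 F := by rw [mem_W0]; simp [b, hs]
  have h0 : uA b v ≠ 0 := fun e => one_ne_zero (hs.symm.trans (by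
    simpa using congrArg (fun y : V F => y.2.2) e))
  have hne' : pt (uA b * f) ≠ Z0 F := by
    intro e
    have := (e ▸ hm : uA b v ∈ Z0 F).2
    simp [hs] at this
  refine ⟨b, H.jfix_sub hΓ hne' ?_⟩
  rw [← pt_mul]
  refine H.ti (Γ.mul_mem H.j_mem hΓ) hΓ h0 ?_ hm
  rw [pt_mul]; exact ⟨_, hm, H.j_fix_iff.mpr hW⟩

/-- The translates of the axis. -/
def Om (_ : Geom F Γ) : Set (Set (V F)) := {X | ∃ f ∈ Γ, pt f = X}

/-- The translates inside `a = 0`. -/
def Fix' : Set (Set (V F)) := {X | X ∈ H.Om ∧ X ⊆ W0 F}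

omit [Finite F] in
lemma Z0_Om : Z0 F ∈ H.Om := ⟨1, Γ.one_mem, pt_one⟩

omit [Finite F] in
lemma Z0_Fix : Z0 F ∈ H.Fix' := ⟨H.Z0_Om, fun _ h => h.1⟩

omit [Finite F] in
lemma Om_image {X : Set (V F)} (hX : X ∈ H.Om) {g : Au F} (hg : g ∈ Γ) : g '' X ∈ H.Om := by
  obtain ⟨f, hf, rfl⟩ := hX
  exact ⟨g * f, Γ.mul_mem hg hf, pt_mul g f⟩

omit [Finite F] H in
lemma uA_Z0 (b : F) : uA b '' Z0 F = Z0 F := by
  have h : ∀ v ∈ Z0 F, uA b v = v := fun v hv => by
    refine Prod.ext ?_ (Prod.ext ?_ ?_) <;> simp [hv.1, hv.2]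
  rw [Set.image_congr h, Set.image_id']

omit [Finite F] H in
lemma uA_image_injective (b : F) : Function.Injective (fun X : Set (V F) => uA b '' X) :=
  Set.image_injective.mpr (uA b).injective

lemma shift_unique {X Y : Set (V F)} (hX : X ∈ H.Fix') (hne : X ≠ Z0 F) {b : F}
    (hY : Y ⊆ W0 F) (e : uA b '' X = Y) : b = 0 := by
  obtain ⟨⟨f, hf, rfl⟩, hW⟩ := hX
  obtain ⟨v, hv, hs⟩ := H.exists_s hf hne 1
  have h1 : (uA b v).2.1 = 0 := hY (e ▸ Set.mem_image_of_mem _ hv)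
  have h2 : v.2.1 = 0 := hW hv
  simpa [hs, h2] using h1

lemma card_Om : Nat.card H.Om = Nat.card F * (Nat.card H.Fix' - 1) + 1 := by
  classical
  have e : H.Om = insert (Z0 F) ((fun p : F × Set (V F) => uA p.1 '' p.2) ''
      (Set.univ ×ˢ (H.Fix' \ {Z0 F}))) := by
    ext X
    constructor
    · intro hX
      by_cases h : X = Z0 F
      · exact Or.inl h
      obtain ⟨f, hf, rfl⟩ := hX
      obtain ⟨b, hb⟩ := H.exists_toW hf h
      refine Or.inr ⟨(-b, pt (uA b * f)), ⟨trivial, ⟨⟨_, Γ.mul_mem (H.u_mem b) hf, rfl⟩, hb⟩, ?_⟩, ?_⟩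
      · intro e
        rw [pt_mul] at e
        exact h (uA_image_injective b (e.trans (uA_Z0 b).symm))
      · simp only
        rw [← pt_mul, ← mul_assoc, uA_add, neg_add_cancel, uA_zero, one_mul]
    · rintro (rfl | ⟨⟨b, Y⟩, ⟨-, hY, -⟩, rfl⟩)
      · exact H.Z0_Om
      · exact H.Om_image hY.1 (H.u_mem b)
  have hinj : Set.InjOn (fun p : F × Set (V F) => uA p.1 '' p.2)
      (Set.univ ×ˢ (H.Fix' \ {Z0 F})) := by
    rintro ⟨b, X⟩ ⟨-, hX, hX0⟩ ⟨c, Y⟩ ⟨-, hY, hY0⟩ h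
    simp only at h
    have h' : uA (-c + b) '' X = Y := by
      have := congrArg (fun S => uA (-c) '' S) h
      simp only [Set.image_image] at this
      rw [← uA_add]
      refine (Eq.trans ?_ this).trans ?_
      · rfl
      · refine Eq.trans ?_ (Set.image_id' Y)
        refine Set.image_congr fun v _ => ?_
        rw [← mul_apply', uA_add, neg_add_cancel, uA_zero]
        rfl
    have hbc := H.shift_unique hX hX0 hY.2 h'
    rw [hbc, uA_zero] at h'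
    have hXY : X = Y := by simpa using h'
    exact Prod.ext (sub_eq_zero.mp (by rw [← hbc]; ring) : b = c) hXY
  have hnot : Z0 F ∉ (fun p : F × Set (V F) => uA p.1 '' p.2) ''
      (Set.univ ×ˢ (H.Fix' \ {Z0 F})) := by
    rintro ⟨⟨b, Y⟩, ⟨-, -, hY0⟩, h⟩
    exact hY0 (uA_image_injective b (h.trans (uA_Z0 b).symm))
  rw [Nat.card_coe_set_eq, e, Set.ncard_insert_of_notMem hnot (Set.toFinite _),
    Set.ncard_image_of_injOn hinj, Set.ncard_prod, Set.ncard_univ,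
    Set.ncard_sdiff_singleton_of_mem H.Z0_Fix, Nat.card_coe_set_eq]

/-- The conjugates of the central involution. -/
def Inv' : Set (Au F) := {τ | ∃ g ∈ Γ, g * H.jA * g⁻¹ = τ}

omit [Finite F] in
lemma uA_jA (c : F) : uA c * H.jA * (uA c)⁻¹ = uA (2 * c) * H.jA := by
  refine LinearEquiv.ext fun v => ?_
  rw [uA_inv]
  refine Prod.ext ?_ (Prod.ext ?_ ?_) <;> simp [H.j_apply] <;> ring

lemma Inv'_fix_Z0 {τ : Au F} :
    (τ ∈ H.Inv' ∧ ∀ v ∈ Z0 F, τ v = v) ↔ ∃ c : F, uA c * H.jA * (uA c)⁻¹ = τ := by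
  constructor
  · rintro ⟨⟨g, hg, rfl⟩, hfix⟩
    obtain ⟨v, hv, -, -, h0, -⟩ := H.two_classes
    obtain ⟨b, c, e⟩ := H.fix _ (Γ.mul_mem (Γ.mul_mem hg H.j_mem) (Γ.inv_mem hg)) v hv h0 (hfix v hv)
    have h2 : (uA b * tA c) * (uA b * tA c) = 1 := by
      rw [← e]; calc _ = g * (H.jA * H.jA) * g⁻¹ := by group
        _ = 1 := by rw [H.j_sq]; group
    have hc2 : (c : F) * c = 1 ∨ (c : F) * c = -1 := by
      have := congrArg (fun f : Au F => (f (0, 1, 0)).2.1) h2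
      simp at this
      exact Or.inl this
    have hc : c = -1 := by
      have hc1 : (c : F) * c = 1 := by
        have := congrArg (fun f : Au F => (f (0, 1, 0)).2.1) h2
        simpa using this
      rcases mul_self_eq_one_iff.mp hc1 with h | h
      · exfalso
        have hc' : c = 1 := Units.ext h
        rw [hc', tA_one, mul_one, uA_add] at h2
        have hb : b + b = 0 := uA_inj (h2.trans uA_zero.symm)
        have hb0 : b = 0 := (mul_eq_zero.mp (show (2 : F) * b = 0 by linear_combination hb)).resolve_left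
          H.two_ne
        rw [hc', tA_one, hb0, uA_zero, mul_one] at e
        have hj1 : H.jA = 1 := by
          calc H.jA = g⁻¹ * (g * H.jA * g⁻¹) * g := by group
            _ = 1 := by rw [e]; group
        have := congrArg (fun f : Au F => (f (0, 1, 0)).2.1) hj1
        simp [H.j_apply] at this
        exact H.neg_ne one_ne_zero this
      · exact Units.ext (by simpa using h)
    refine ⟨b / 2, ?_⟩
    rw [H.uA_jA, e, hc, mul_div_cancel₀ b H.two_ne]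
    rfl
  · rintro ⟨c, rfl⟩
    refine ⟨⟨uA c, H.u_mem c, rfl⟩, fun v hv => ?_⟩
    rw [H.uA_jA]
    refine Prod.ext ?_ (Prod.ext ?_ ?_) <;> simp [H.j_apply, hv.1, hv.2]

/-- Incidence. -/
def Fixes (_ : Geom F Γ) (τ : Au F) (X : Set (V F)) : Prop := ∀ v ∈ X, τ v = v

lemma finite_Au : Finite (Au F) :=
  Finite.of_injective (fun f : Au F => (f : V F → V F)) DFunLike.coe_injective

lemma count : Nat.card H.Inv' * Nat.card H.Fix' = Nat.card H.Om * Nat.card F := by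
  classical
  haveI := H.finite_Au
  have h1 : ∀ τ ∈ (Set.toFinite H.Inv').toFinset,
      (Finset.bipartiteAbove (H.Fixes) (Set.toFinite H.Om).toFinset τ).card = Nat.card H.Fix' := by
    intro τ hτ
    rw [Set.Finite.mem_toFinset] at hτ
    obtain ⟨g, hg, rfl⟩ := hτ
    rw [Nat.card_coe_set_eq, ← Set.ncard_image_of_injective H.Fix' (Set.image_injective.mpr g.injective),
      ← Set.ncard_coe_finset]
    congr 1
    ext X
    simp only [Finset.coe_bipartiteAbove, Set.Finite.mem_toFinset, Set.mem_setOf_eq, Set.mem_image]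
    constructor
    · rintro ⟨hX, hfix⟩
      refine ⟨(g⁻¹ : Au F) '' X, ⟨H.Om_image hX (Γ.inv_mem hg), ?_⟩, ?_⟩
      · rintro _ ⟨v, hv, rfl⟩
        refine H.j_fix_iff.mp ?_
        have := congrArg (g⁻¹ : Au F) (hfix v hv)
        simpa only [mul_apply', inv_apply_self'] using this
      · rw [Set.image_image]; simp [apply_inv_self']
    · rintro ⟨Y, hY, rfl⟩
      refine ⟨H.Om_image hY.1 hg, ?_⟩
      rintro _ ⟨v, hv, rfl⟩
      simp only [mul_apply', inv_apply_self', H.j_fix_iff.mpr (hY.2 hv)]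
  have h2 : ∀ X ∈ (Set.toFinite H.Om).toFinset,
      (Finset.bipartiteBelow (H.Fixes) (Set.toFinite H.Inv').toFinset X).card = Nat.card F := by
    intro X hX
    rw [Set.Finite.mem_toFinset] at hX
    obtain ⟨f, hf, rfl⟩ := hX
    have hi : Function.Injective (fun c : F => f * (uA c * H.jA * (uA c)⁻¹) * f⁻¹) := by
      intro c d e
      have e' := mul_left_cancel (mul_right_cancel e)
      rw [H.uA_jA, H.uA_jA] at e'
      exact mul_left_cancel₀ H.two_ne (uA_inj (mul_right_cancel e'))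
    rw [← Set.ncard_univ, ← Set.ncard_image_of_injective Set.univ hi, ← Set.ncard_coe_finset]
    congr 1
    ext τ
    simp only [Finset.coe_bipartiteBelow, Set.Finite.mem_toFinset, Set.mem_setOf_eq, Set.mem_image,
      Set.mem_univ, true_and]
    constructor
    · rintro ⟨⟨g, hg, rfl⟩, hfix⟩
      obtain ⟨c, hc⟩ := (H.Inv'_fix_Z0 (τ := f⁻¹ * (g * H.jA * g⁻¹) * f)).mp
        ⟨⟨f⁻¹ * g, Γ.mul_mem (Γ.inv_mem hf) hg, by group⟩, fun v hv => by
          rw [mul_apply', mul_apply', hfix _ ⟨v, hv, rfl⟩, inv_apply_self']⟩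
      exact ⟨c, by rw [hc]; group⟩
    · rintro ⟨c, rfl⟩
      obtain ⟨⟨g, hg, hge⟩, hfx⟩ := (H.Inv'_fix_Z0 (τ := uA c * H.jA * (uA c)⁻¹)).mpr ⟨c, rfl⟩
      refine ⟨⟨f * g, Γ.mul_mem hf hg, by rw [← hge]; group⟩, ?_⟩
      rintro _ ⟨v, hv, rfl⟩
      simp only [mul_apply', inv_apply_self'] at hfx ⊢
      rw [hfx v hv]
  have := Finset.card_mul_eq_card_mul (H.Fixes) h1 h2
  rwa [← Set.ncard_eq_toFinset_card, ← Set.ncard_eq_toFinset_card, ← Nat.card_coe_set_eq,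
    ← Nat.card_coe_set_eq] at this

end Geom

end Cfsg.Agent.SympM42
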