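import Cfsg.Agent.Lib.SympM42Two

/-!
A group in the situation of `Geom` (with `|F| ≡ 3 (mod 4)`) is conjugate to the image of `GL₂(F)`
in the automorphisms of symmetric `2 × 2` matrices.
-/

set_option autoImplicit false

namespace Cfsg.Agent.SympM42

universe u

open Matrix

variable {F : Type u} [Field F]

/-- The symmetric square. -/
def sqFun (A : Matrix (Fin 2) (Fin 2) F) (v : V F) : V F :=
  (A 0 0 * A 0 0 * v.1 + 2 * A 0 0 * A 0 1 * v.2.1 + A 0 1 * A 0 1 * v.2.2,
    A 0 0 * A 1 0 * v.1 + (A 0 0 * A 1 1 + A 0 1 * A 1 0) * v.2.1 + A 0 1 * A 1 1 * v.2.2,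
    A 1 0 * A 1 0 * v.1 + 2 * A 1 0 * A 1 1 * v.2.1 + A 1 1 * A 1 1 * v.2.2)

lemma sqFun_mul (A B : Matrix (Fin 2) (Fin 2) F) (v : V F) :
    sqFun (A * B) v = sqFun A (sqFun B v) := by
  refine Prod.ext ?_ (Prod.ext ?_ ?_) <;> simp [sqFun, Matrix.mul_apply, Fin.sum_univ_two] <;> ring

lemma sqFun_one (v : V F) : sqFun 1 v = v := by
  refine Prod.ext ?_ (Prod.ext ?_ ?_) <;> simp [sqFun]

/-- The representation on symmetric matrices. -/
def sq : GL (Fin 2) F →* Au F where
  toFun A := AddEquiv.toNatLinearEquiv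
    { toFun := sqFun (A : Matrix (Fin 2) (Fin 2) F)
      invFun := sqFun ((A⁻¹ : GL (Fin 2) F) : Matrix (Fin 2) (Fin 2) F)
      left_inv := fun v => by rw [← sqFun_mul, ← Units.val_mul, inv_mul_cancel, Units.val_one, sqFun_one]
      right_inv := fun v => by rw [← sqFun_mul, ← Units.val_mul, mul_inv_cancel, Units.val_one, sqFun_one]
      map_add' := fun v w => by refine Prod.ext ?_ (Prod.ext ?_ ?_) <;> simp [sqFun] <;> ring }
  map_one' := LinearEquiv.ext fun v => sqFun_one v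
  map_mul' A B := LinearEquiv.ext fun v => sqFun_mul _ _ v

@[simp] lemma sq_apply (A : GL (Fin 2) F) (v : V F) :
    sq A v = sqFun (A : Matrix (Fin 2) (Fin 2) F) v := rfl

/-- An element of `GL₂`. -/
def mk2 (p q r w : F) (h : p * w - q * r ≠ 0) : GL (Fin 2) F :=
  Matrix.GeneralLinearGroup.mkOfDetNeZero !![p, q; r, w] (by rw [Matrix.det_fin_two_of]; exact h)

@[simp] lemma mk2_val (p q r w : F) (h : p * w - q * r ≠ 0) :
    ((mk2 p q r w h : GL (Fin 2) F) : Matrix (Fin 2) (Fin 2) F) = !![p, q; r, w] := rfl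

lemma sq_mk2 (p q r w : F) (h : p * w - q * r ≠ 0) (v : V F) :
    sq (mk2 p q r w h) v = sqFun !![p, q; r, w] v := rfl

/-- The lower unipotent transformation. -/
def lowA (x : F) : Au F := sq (mk2 1 0 x 1 (by simp))

/-- The antidiagonal transformation `(s, -a, z)`. -/
def nA (F : Type u) [Field F] : Au F := sq (mk2 0 1 (-1) 0 (by simp))

@[simp] lemma nA_apply (v : V F) : nA F v = (v.2.2, -v.2.1, v.1) := by
  refine Prod.ext ?_ (Prod.ext ?_ ?_) <;> simp [nA, sqFun]

@[simp] lemma lowA_apply (x : F) (v : V F) :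
    lowA x v = (v.1, x * v.1 + v.2.1, x * x * v.1 + 2 * x * v.2.1 + v.2.2) := by
  refine Prod.ext ?_ (Prod.ext ?_ ?_) <;> simp [lowA, sqFun]

lemma nA_eq : nA F = uA 1 * lowA (-1) * uA 1 := by
  refine LinearEquiv.ext fun v => Prod.ext ?_ (Prod.ext ?_ ?_) <;> simp <;> ring

lemma mem_S0 {v : V F} : v ∈ S0 F ↔ v.1 = 0 ∧ v.2.1 = 0 := Iff.rfl

theorem eq_id_of_sq [Finite F] (hq : Nat.card F % 4 = 3) (f : F → F)
    (hadd : ∀ x y, f (x + y) = f x + f y) (hmul : ∀ x y, f (x * y) = f x * f y) (hff : ∀ x, f (f x) = x)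
    (h2 : (2 : F) ≠ 0) (x : F) : f x = x := by
  by_contra hx
  have h0 : f 0 = 0 := by simpa using hadd 0 0
  have hneg : ∀ a, f (-a) = -f a := fun a => by
    have := hadd a (-a); rw [add_neg_cancel, h0] at this; linear_combination -this
  set y := x - f x with hy
  have hy0 : y ≠ 0 := sub_ne_zero.mpr (Ne.symm hx)
  have hfy : f y = -y := by
    rw [hy, sub_eq_add_neg, hadd, hneg, hff]; ring
  have hf1 : f 1 = 1 := by
    have h := hmul 1 y
    rw [one_mul] at h
    exact (mul_eq_right₀ (by rw [hfy]; exact neg_ne_zero.mpr hy0)).mp h.symm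
  have hf2 : f 2 = 2 := by rw [← one_add_one_eq_two, hadd, hf1]
  have hinv : ∀ a, a ≠ 0 → f a⁻¹ = (f a)⁻¹ := fun a ha =>
    eq_inv_of_mul_eq_one_left (by rw [← hmul, inv_mul_cancel₀ ha, hf1])
  let K := {a : F // f a = a}
  have he : F ≃ K × K :=
    { toFun := fun a => (⟨(a + f a) / 2, by rw [div_eq_mul_inv, hmul, hadd, hff, hinv 2 h2, hf2]; ring⟩,
        ⟨(a - f a) / (2 * y), by
          rw [div_eq_mul_inv, hmul, sub_eq_add_neg, hadd, hneg, hff, hinv _ (mul_ne_zero h2 hy0), hmul,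
            hf2, hfy]
          field_simp; ring⟩)
      invFun := fun k => k.1.1 + k.2.1 * y
      left_inv := fun a => by field_simp; ring
      right_inv := fun k => by
        obtain ⟨⟨a, ha⟩, ⟨b, hb⟩⟩ := k
        refine Prod.ext (Subtype.ext ?_) (Subtype.ext ?_) <;>
          simp only [hadd, hmul, ha, hb, hfy] <;> field_simp <;> ring }
  rw [Nat.card_congr he, Nat.card_prod, Nat.mul_mod] at hq
  have := Nat.mod_lt (Nat.card K) (by norm_num : 4 > 0)
  interval_cases Nat.card K % 4 <;> norm_num at hq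

/-- The normalised situation. -/
structure Norm (F : Type u) [Field F] [Finite F] (Γ : Subgroup (Au F)) : Prop extends Geom F Γ where
  q_mod : Nat.card F % 4 = 3
  S_mem : ∃ f ∈ Γ, pt f = S0 F
  only : ∀ f ∈ Γ, pt f ⊆ W0 F → pt f = Z0 F ∨ pt f = S0 F

namespace Norm

variable [Finite F] {Γ : Subgroup (Au F)} (N : Norm F Γ)
include N

omit [Finite F] N in
lemma S0_ne_Z0 : S0 F ≠ Z0 F := by
  intro e
  have : ((1, 0, 0) : V F) ∈ S0 F := e ▸ ⟨rfl, rfl⟩
  exact one_ne_zero this.1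

lemma other {f : Au F} (hf : f ∈ Γ) (hne : pt f ≠ Z0 F) : ∃ c : F, pt f = uA c '' S0 F := by
  obtain ⟨b, hb⟩ := N.toGeom.exists_toW hf hne
  rcases N.only _ (Γ.mul_mem (N.u_mem b) hf) hb with h | h
  · rw [pt_mul] at h
    exact absurd (Geom.uA_image_injective b (h.trans (Geom.uA_Z0 b).symm)) hne
  · refine ⟨-b, ?_⟩
    rw [← h, ← pt_mul, ← mul_assoc, uA_add, neg_add_cancel, uA_zero, one_mul]

lemma swap : ∃ w ∈ Γ, w '' Z0 F = S0 F ∧ w '' S0 F = Z0 F := by
  obtain ⟨g, hg, hgS⟩ := N.S_mem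
  have hne : pt g⁻¹ ≠ Z0 F := by
    intro e
    apply S0_ne_Z0 (F := F)
    calc S0 F = pt g := hgS.symm
      _ = g '' pt g⁻¹ := by rw [e]; rfl
      _ = Z0 F := by rw [← pt_mul, mul_inv_cancel, pt_one]
  obtain ⟨c, hc⟩ := N.other (Γ.inv_mem hg) hne
  refine ⟨g * uA c, Γ.mul_mem hg (N.u_mem c), ?_, ?_⟩
  · show pt (g * uA c) = _
    rw [pt_mul, pt, Geom.uA_Z0]; exact hgS
  · rw [show (⇑(g * uA c) : V F → V F) = g ∘ uA c from rfl, Set.image_comp, ← hc, ← pt_mul,
      mul_inv_cancel, pt_one]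

lemma comm_j {f : Au F} (hf : f ∈ Γ)
    (h : (f '' Z0 F = Z0 F ∧ f '' S0 F = S0 F) ∨ (f '' Z0 F = S0 F ∧ f '' S0 F = Z0 F)) (v : V F) :
    f (N.toGeom.jA v) = N.toGeom.jA (f v) := by
  set τ := f * N.toGeom.jA * f⁻¹ with hτ
  have hfixed : ∀ w, w ∈ Z0 F ∨ w ∈ S0 F → τ w = w := by
    intro w hw
    have key : f⁻¹ w ∈ Z0 F ∨ f⁻¹ w ∈ S0 F := by
      rcases h with ⟨h1, h2⟩ | ⟨h1, h2⟩ <;> rcases hw with hw | hw
      all_goals
        first
          | (rw [← h1] at hw; obtain ⟨x, hx, rfl⟩ := hw; rw [inv_apply_self']; exact Or.inl hx)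
          | (rw [← h2] at hw; obtain ⟨x, hx, rfl⟩ := hw; rw [inv_apply_self']; exact Or.inr hx)
    have hW : f⁻¹ w ∈ W0 F := key.elim (fun h => h.1) (fun h => h.2)
    rw [hτ, mul_apply', mul_apply', N.toGeom.j_fix_iff.mpr hW, apply_inv_self']
  obtain ⟨c, hc⟩ := (N.toGeom.Inv'_fix_Z0 (τ := τ)).mp ⟨⟨f, hf, rfl⟩, fun w hw => hfixed w (Or.inl hw)⟩
  have hc0 : c = 0 := by
    have e := hfixed (0, 0, 1) (Or.inr ⟨rfl, rfl⟩)
    rw [← hc, N.toGeom.uA_jA] at e
    have := congrArg (fun w : V F => w.2.1) e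
    simpa [N.toGeom.j_apply, N.two_ne] using this
  rw [hc0, uA_zero, one_mul, inv_one, mul_one] at hc
  have := congrArg (fun g : Au F => g (f v)) hc
  simp only [hτ, mul_apply', inv_apply_self'] at this
  exact this.symm

/-- Elements fixing both axes. -/
lemma diag_form {f : Au F} (hf : f ∈ Γ) (hZ : f '' Z0 F = Z0 F) (hS : f '' S0 F = S0 F) :
    ∃ (τ : F → F) (E D : F), E ≠ 0 ∧ D ≠ 0 ∧ τ 1 = 1 ∧
      ∀ v, f v = (E * E * D * τ v.1, E * D * τ v.2.1, D * τ v.2.2) := by
  have hz : ∀ x : F, f (x, 0, 0) = ((f (x, 0, 0)).1, 0, 0) := fun x => by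
    have h : f (x, 0, 0) ∈ Z0 F := hZ ▸ Set.mem_image_of_mem _ ⟨rfl, rfl⟩
    exact Prod.ext rfl (Prod.ext h.1 h.2)
  have hs : ∀ x : F, f (0, 0, x) = (0, 0, (f (0, 0, x)).2.2) := fun x => by
    have h : f (0, 0, x) ∈ S0 F := hS ▸ Set.mem_image_of_mem _ ⟨rfl, rfl⟩
    exact Prod.ext h.1 (Prod.ext h.2 rfl)
  have ha : ∀ x : F, f (0, x, 0) = (0, (f (0, x, 0)).2.1, 0) := fun x => by
    have e := N.comm_j hf (Or.inl ⟨hZ, hS⟩) (0, x, 0)
    rw [N.toGeom.j_apply, N.toGeom.j_apply] at e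
    rw [show ((0 : F), -x, (0 : F)) = -(0, x, 0) by simp, map_neg] at e
    refine Prod.ext ?_ (Prod.ext rfl ?_)
    · by_contra h0; exact N.toGeom.neg_ne h0 (congrArg (fun v : V F => v.1) e)
    · by_contra h0; exact N.toGeom.neg_ne h0 (congrArg (fun v : V F => v.2.2) e)
  set α := fun x => (f (x, 0, 0)).1
  set β := fun x => (f (0, x, 0)).2.1
  set δ := fun x => (f (0, 0, x)).2.2
  have hv : ∀ v, f v = (α v.1, β v.2.1, δ v.2.2) := fun v => by
    conv_lhs => rw [show v = (v.1, 0, 0) + ((0, v.2.1, 0) + (0, 0, v.2.2)) by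
      refine Prod.ext ?_ (Prod.ext ?_ ?_) <;> simp]
    rw [map_add, map_add, hz, ha, hs]
    refine Prod.ext ?_ (Prod.ext ?_ ?_) <;> simp [α, β, δ]
  have hu : ∀ b, ∃ b', f * uA b = uA b' * f := by
    intro b
    have hfix : (f * uA b * f⁻¹) (1, 0, 0) = (1, 0, 0) := by
      obtain ⟨x, hx, hxe⟩ := (hZ.symm ▸ (⟨rfl, rfl⟩ : ((1, 0, 0) : V F) ∈ Z0 F) :
        ((1, 0, 0) : V F) ∈ f '' Z0 F)
      rw [mul_apply', mul_apply', ← hxe, inv_apply_self']
      congr 1
      refine Prod.ext ?_ (Prod.ext ?_ ?_) <;> simp [hx.1, hx.2]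
    obtain ⟨b', c, e⟩ := N.fix _ (Γ.mul_mem (Γ.mul_mem hf (N.u_mem b)) (Γ.inv_mem hf)) (1, 0, 0)
      ⟨rfl, rfl⟩ (fun e => one_ne_zero (congrArg Prod.fst e)) hfix
    have hc : c = 1 := by
      set w := f⁻¹ (0, 1, 0)
      have hw := hv w
      rw [apply_inv_self'] at hw
      have hws : w.2.2 = 0 := by
        have h : δ w.2.2 = 0 := (congrArg (fun v : V F => v.2.2) hw).symm
        have h' : f (0, 0, w.2.2) = f 0 := by
          rw [hs, map_zero, show (f (0, 0, w.2.2)).2.2 = 0 from h]; rfl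
        exact congrArg (fun v : V F => v.2.2) (f.injective h')
      have h := congrArg (fun g : Au F => (g (0, 1, 0)).2.1) e
      simp only [mul_apply'] at h
      rw [show (f⁻¹ : Au F) (0, 1, 0) = w from rfl, hv] at h
      simp [hws] at h
      rw [show β w.2.1 = 1 from (congrArg (fun v : V F => v.2.1) hw).symm] at h
      exact Units.ext h.symm
    rw [hc, tA_one, mul_one] at e
    exact ⟨b', by rw [← e]; group⟩
  choose σ hσ using hu
  have e2 : ∀ b a, α (2 * b * a) = 2 * σ b * β a := fun b a => by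
    have := congrArg (fun g : Au F => (g (0, a, 0)).1) (hσ b)
    simp [hv] at this
    have h0 : α 0 = 0 := by
      show (f (0, 0, 0)).1 = 0
      rw [show ((0, 0, 0) : V F) = 0 from rfl, map_zero]; rfl
    have h0' : δ 0 = 0 := by
      show (f (0, 0, 0)).2.2 = 0
      rw [show ((0, 0, 0) : V F) = 0 from rfl, map_zero]; rfl
    simpa [h0, h0'] using this
  have e1 : ∀ b s, β (b * s) = σ b * δ s := fun b s => by
    have := congrArg (fun g : Au F => (g (0, 0, s)).2.1) (hσ b)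
    simp [hv] at this
    have h0 : β 0 = 0 := by
      show (f (0, 0, 0)).2.1 = 0
      rw [show ((0, 0, 0) : V F) = 0 from rfl, map_zero]; rfl
    simpa [h0] using this
  have hD : δ 1 ≠ 0 := fun h => by
    have := hs 1
    rw [show (f (0, 0, 1)).2.2 = 0 from h] at this
    exact one_ne_zero (congrArg (fun v : V F => v.2.2) (f.injective (this.trans (map_zero f).symm)))
  have hβ : ∀ b, β b = σ b * δ 1 := fun b => by rw [← e1, mul_one]
  have hE : σ 1 ≠ 0 := fun h => by
    have := ha 1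
    rw [show (f (0, 1, 0)).2.1 = σ 1 * δ 1 from hβ 1, h, zero_mul] at this
    exact one_ne_zero (congrArg (fun v : V F => v.2.1) (f.injective (this.trans (map_zero f).symm)))
  refine ⟨fun b => σ b / σ 1, σ 1, δ 1, hE, hD, div_self hE, fun v => ?_⟩
  rw [hv]
  refine Prod.ext ?_ (Prod.ext ?_ ?_)
  · show α v.1 = σ 1 * σ 1 * δ 1 * (σ v.1 / σ 1)
    have h := e2 (v.1 / 2) 1
    rw [mul_div_cancel₀ _ N.two_ne, mul_one] at h
    have h' : 2 * σ (v.1 / 2) = σ v.1 := by
      have hb := hβ v.1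
      rw [show v.1 = v.1 / 2 + v.1 / 2 by rw [← two_mul, mul_div_cancel₀ _ N.two_ne]] at hb
      have hadd : β (v.1 / 2 + v.1 / 2) = β (v.1 / 2) + β (v.1 / 2) := by
        simp only [β]
        rw [← Prod.fst_add, ← Prod.snd_add, ← map_add]
        congr 3
        refine Prod.ext ?_ (Prod.ext ?_ ?_) <;> simp
      rw [hadd, hβ, ← add_mul, ← two_mul] at hb
      have := mul_right_cancel₀ hD hb
      rw [this, ← two_mul, mul_div_cancel₀ _ N.two_ne]
    rw [h, hβ, h']
    field_simp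
  · show β v.2.1 = σ 1 * δ 1 * (σ v.2.1 / σ 1)
    rw [hβ]; field_simp
  · show δ v.2.2 = δ 1 * (σ v.2.2 / σ 1)
    have := e1 1 v.2.2
    rw [one_mul, hβ] at this
    field_simp
    linear_combination -this

lemma tA_fix_Z0 (c : Fˣ) : tA c '' Z0 F = Z0 F := Geom.tA_Z0 c

omit [Finite F] N in
lemma tA_S0 (c : Fˣ) : tA c '' S0 F = S0 F := by
  ext v
  constructor
  · rintro ⟨w, hw, rfl⟩; exact ⟨by simp [hw.1], by simp [hw.2]⟩
  · intro hv
    refine ⟨(tA c)⁻¹ v, ?_, apply_inv_self' _ _⟩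
    rw [show (tA c)⁻¹ = tA c⁻¹ from inv_eq_of_mul_eq_one_right (by rw [tA_mul, mul_inv_cancel, tA_one])]
    exact ⟨by simp [hv.1], by simp [hv.2]⟩

lemma dA_mem (E : F) (hE : E ≠ 0) :
    sq (mk2 E 0 0 1 (by simpa using hE)) ∈ Γ := by
  classical
  obtain ⟨w, hw, hwZ, hwS⟩ := N.swap
  have hinv : (w⁻¹ : Au F) '' Z0 F = S0 F ∧ (w⁻¹ : Au F) '' S0 F = Z0 F := by
    constructor
    · rw [← hwS, Set.image_image]; simp [inv_apply_self']
    · rw [← hwZ, Set.image_image]; simp [inv_apply_self']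
  have key : ∀ c : Fˣ, ∃ e : F, ∃ he : e ≠ 0, w * tA c * w⁻¹ = sq (mk2 e 0 0 1 (by simpa using he)) := by
    intro c
    have hm : w * tA c * w⁻¹ ∈ Γ := Γ.mul_mem (Γ.mul_mem hw (N.t_mem c)) (Γ.inv_mem hw)
    have i1 : (w * tA c * w⁻¹) '' Z0 F = Z0 F := by
      rw [show (⇑(w * tA c * w⁻¹) : V F → V F) = w ∘ tA c ∘ (w⁻¹ : Au F) from rfl, Set.image_comp,
        Set.image_comp, hinv.1, tA_S0, hwS]
    have i2 : (w * tA c * w⁻¹) '' S0 F = S0 F := by
      rw [show (⇑(w * tA c * w⁻¹) : V F → V F) = w ∘ tA c ∘ (w⁻¹ : Au F) from rfl, Set.image_comp,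
        Set.image_comp, hinv.2, N.tA_fix_Z0, hwZ]
    obtain ⟨τ, E, D, hE, hD, hτ1, hform⟩ := N.diag_form hm i1 i2
    have hpt : ∀ s, D * τ s = s := fun s => by
      have h1 : (w⁻¹ : Au F) (0, 0, s) ∈ Z0 F := hinv.2 ▸ Set.mem_image_of_mem _ ⟨rfl, rfl⟩
      have h2 : (w * tA c * w⁻¹) (0, 0, s) = ((0, 0, s) : V F) := by
        rw [mul_apply', mul_apply']
        have : tA c ((w⁻¹ : Au F) (0, 0, s)) = (w⁻¹ : Au F) (0, 0, s) := by
          simp only [tA_apply, h1.1, h1.2, mul_zero]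
          exact Prod.ext rfl (Prod.ext h1.1.symm h1.2.symm)
        rw [this, apply_inv_self']
      rw [hform] at h2
      exact congrArg (fun v : V F => v.2.2) h2
    have hD1 : D = 1 := by have := hpt 1; rwa [hτ1, mul_one] at this
    refine ⟨E, hE, LinearEquiv.ext fun v => ?_⟩
    rw [hform]
    simp only [hD1, one_mul, mul_one] at hpt
    refine Prod.ext ?_ (Prod.ext ?_ ?_) <;> simp [sqFun, hD1, hpt]
  choose e he hee using key
  have hinj : Function.Injective (fun c => Units.mk0 (e c) (he c)) := by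
    intro c d h
    have h' : e c = e d := congrArg Units.val h
    have h2 : w * tA c * w⁻¹ = w * tA d * w⁻¹ := by
      rw [hee c, hee d]
      congr 1
      exact Units.ext (by simp [mk2, Matrix.GeneralLinearGroup.mkOfDetNeZero, h'])
    have h3 := mul_left_cancel (mul_right_cancel h2)
    exact Units.ext (by simpa using congrArg (fun g : Au F => (g (0, 1, 0)).2.1) h3)
  obtain ⟨c, hc⟩ := Finite.surjective_of_injective hinj (Units.mk0 E hE)
  have h' : e c = E := congrArg Units.val hc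
  have := Γ.mul_mem (Γ.mul_mem hw (N.t_mem c)) (Γ.inv_mem hw)
  rw [hee c] at this
  convert this using 2
  exact Units.ext (by simp [mk2, Matrix.GeneralLinearGroup.mkOfDetNeZero, h'])

omit [Finite F] N in
lemma tA_eq (c : Fˣ) : tA c = sq (mk2 1 0 0 (c : F) (by simp [c.ne_zero])) := by
  refine LinearEquiv.ext fun v => Prod.ext ?_ (Prod.ext ?_ ?_) <;> simp [sqFun]

omit [Finite F] N in
lemma uA_eq (b : F) : uA b = sq (mk2 1 b 0 1 (by simp)) := by
  refine LinearEquiv.ext fun v => Prod.ext ?_ (Prod.ext ?_ ?_) <;> simp [sqFun]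

/-- Diagonal squares. -/
lemma dg_mem (μ ν : F) (hμ : μ ≠ 0) (hν : ν ≠ 0) :
    sq (mk2 μ 0 0 ν (by simp [hμ, hν])) ∈ Γ := by
  have h := Γ.mul_mem (N.dA_mem μ hμ) (N.t_mem (Units.mk0 ν hν))
  convert h using 1
  refine LinearEquiv.ext fun v => Prod.ext ?_ (Prod.ext ?_ ?_) <;> simp [sqFun] <;> ring

/-- Elements fixing both axes come from diagonal matrices. -/
lemma diag_sq {f : Au F} (hf : f ∈ Γ) (hZ : f '' Z0 F = Z0 F) (hS : f '' S0 F = S0 F) :
    f ∈ (sq : GL (Fin 2) F →* Au F).range := by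
  classical
  haveI := Fintype.ofFinite F
  obtain ⟨τ, E, D, hE, hD, hτ1, hform⟩ := N.diag_form hf hZ hS
  have hnsq : ¬ IsSquare (-1 : F) := by
    rw [FiniteField.isSquare_neg_one_iff, ← Nat.card_eq_fintype_card, N.q_mod]; simp
  have hsq : IsSquare D := by
    by_contra hDn
    obtain ⟨v₁, hv₁, v₂, hv₂, h1, h2, hne⟩ := N.two_classes
    have hz : ∀ v ∈ Z0 F, v ≠ 0 → ∃ g ∈ Γ, g (1, 0, 0) = v := by
      intro v hv h0
      have hx : v.1 ≠ 0 := fun e => h0 (Prod.ext e (Prod.ext hv.1 hv.2))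
      have hcase : IsSquare v.1 ∨ IsSquare (v.1 / (E * E * D)) := by
        by_cases hs : IsSquare v.1
        · exact Or.inl hs
        · refine Or.inr ?_
          have hm : ∀ x : F, x ≠ 0 → ¬ IsSquare x → quadraticChar F x = -1 := fun x hx0 hn =>
            quadraticChar_neg_one_iff_not_isSquare.mpr hn
          rw [← quadraticChar_one_iff_isSquare (div_ne_zero hx (mul_ne_zero (mul_ne_zero hE hE) hD))]
          have e : quadraticChar F (v.1 / (E * E * D)) * quadraticChar F (E * E * D) =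
              quadraticChar F v.1 := by
            rw [← map_mul, div_mul_cancel₀ _ (mul_ne_zero (mul_ne_zero hE hE) hD)]
          rw [map_mul, hm _ hx hs, hm D hD hDn, ← pow_two E, quadraticChar_sq_one' hE] at e
          rw [pow_two] at e; linarith
      rcases hcase with ⟨r, hr⟩ | ⟨r, hr⟩
      · have hr0 : r ≠ 0 := fun e => hx (by rw [hr, e, zero_mul])
        refine ⟨_, N.dA_mem r hr0, ?_⟩
        refine Prod.ext ?_ (Prod.ext ?_ ?_) <;> simp [sqFun, hr, hv.1, hv.2]
      · have hr0 : r ≠ 0 := fun e => by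
          rw [e, zero_mul, div_eq_zero_iff] at hr
          exact hr.elim hx (mul_ne_zero (mul_ne_zero hE hE) hD)
        refine ⟨_, Γ.mul_mem (N.dA_mem r hr0) hf, ?_⟩
        rw [mul_apply', hform]
        have h00 : τ 0 = 0 := by
          have := congrArg (fun y : V F => y.2.2) ((hform 0).symm.trans (map_zero f))
          simpa [hD] using this
        have e : v.1 = r * r * (E * E * D) := by
          rw [← hr, div_mul_cancel₀ _ (mul_ne_zero (mul_ne_zero hE hE) hD)]
        refine Prod.ext ?_ (Prod.ext ?_ ?_) <;> simp [sqFun, hτ1, h00, e, hv.1, hv.2]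
    obtain ⟨g₁, hg₁, e₁⟩ := hz v₁ hv₁ h1
    obtain ⟨g₂, hg₂, e₂⟩ := hz v₂ hv₂ h2
    exact hne _ (Γ.mul_mem hg₂ (Γ.inv_mem hg₁)) (by rw [mul_apply', ← e₁, inv_apply_self', e₂])
  obtain ⟨ν, hν⟩ := hsq
  have hν0 : ν ≠ 0 := fun e => hD (by rw [hν, e, zero_mul])
  have hμ0 : E * ν ≠ 0 := mul_ne_zero hE hν0
  set d := sq (mk2 (E * ν) 0 0 ν (by simp [hμ0, hν0])) with hd
  have hdf : f = d := by
    have hdm : d ∈ Γ := N.dg_mem _ _ hμ0 hν0
    have h00 : τ 0 = 0 := by
      have := congrArg (fun y : V F => y.2.2) ((hform 0).symm.trans (map_zero f))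
      simpa [hD] using this
    have h1 : (d⁻¹ * f) (1, 0, 0) = (1, 0, 0) := by
      rw [mul_apply']
      apply d.injective
      rw [apply_inv_self', hform, hd]
      refine Prod.ext ?_ (Prod.ext ?_ ?_) <;> simp [sqFun, hτ1, h00, hν] <;> ring
    have hτ : ∀ x, τ x = x := fun x => by
      have h2 := N.toGeom.fix_all (Γ.mul_mem (Γ.inv_mem hdm) hf) (v := (1, 0, 0)) ⟨rfl, rfl⟩
        (fun e => one_ne_zero (congrArg Prod.fst e)) h1 (w := (x, 0, 0)) ⟨rfl, rfl⟩
      have h3 := congrArg d h2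
      rw [mul_apply', apply_inv_self', hform, hd] at h3
      have h4 := congrArg (fun y : V F => y.1) h3
      simp [sqFun, hν] at h4
      have h5 : (E * E * (ν * ν)) * τ x = (E * E * (ν * ν)) * x := by linear_combination h4
      exact mul_left_cancel₀ (mul_ne_zero (mul_ne_zero hE hE) (mul_ne_zero hν0 hν0)) h5
    refine LinearEquiv.ext fun v => ?_
    rw [hform, hd]
    refine Prod.ext ?_ (Prod.ext ?_ ?_) <;> simp [sqFun, hτ, hν] <;> first | ring1 | (left; ring1) | tauto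
  exact ⟨_, hdf.symm⟩

lemma nA_mem : nA F ∈ Γ := by
  classical
  obtain ⟨w, hw, hwZ, hwS⟩ := N.swap
  have hsw : ∀ v : V F, v.2.1 = 0 → (w v).2.1 = 0 := fun v hv => by
    have h := N.comm_j hw (Or.inr ⟨hwZ, hwS⟩) v
    rw [N.toGeom.j_fix_iff.mpr hv] at h
    exact N.toGeom.j_fix_iff.mp h.symm
  have hz : ∀ x : F, w (x, 0, 0) = (0, 0, (w (x, 0, 0)).2.2) := fun x => by
    have h : w (x, 0, 0) ∈ S0 F := hwZ ▸ Set.mem_image_of_mem _ ⟨rfl, rfl⟩
    exact Prod.ext h.1 (Prod.ext h.2 rfl)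
  have hs : ∀ x : F, w (0, 0, x) = ((w (0, 0, x)).1, 0, 0) := fun x => by
    have h : w (0, 0, x) ∈ Z0 F := hwS ▸ Set.mem_image_of_mem _ ⟨rfl, rfl⟩
    exact Prod.ext rfl (Prod.ext h.1 h.2)
  have ha : ∀ x : F, w (0, x, 0) = (0, (w (0, x, 0)).2.1, 0) := fun x => by
    have e := N.comm_j hw (Or.inr ⟨hwZ, hwS⟩) (0, x, 0)
    rw [N.toGeom.j_apply, N.toGeom.j_apply] at e
    rw [show ((0 : F), -x, (0 : F)) = -(0, x, 0) by simp, map_neg] at e
    refine Prod.ext ?_ (Prod.ext rfl ?_)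
    · by_contra h0; exact N.toGeom.neg_ne h0 (congrArg (fun v : V F => v.1) e)
    · by_contra h0; exact N.toGeom.neg_ne h0 (congrArg (fun v : V F => v.2.2) e)
  set α := fun x => (w (0, 0, x)).1 with hα
  set β := fun x => (w (0, x, 0)).2.1 with hβ
  set δ := fun x => (w (x, 0, 0)).2.2 with hδ
  have hv : ∀ v, w v = (α v.2.2, β v.2.1, δ v.1) := fun v => by
    conv_lhs => rw [show v = (v.1, 0, 0) + ((0, v.2.1, 0) + (0, 0, v.2.2)) by
      refine Prod.ext ?_ (Prod.ext ?_ ?_) <;> simp]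
    rw [map_add, map_add, hz, ha, hs]
    refine Prod.ext ?_ (Prod.ext ?_ ?_) <;> simp [α, β, δ]
  have hδadd : ∀ x y, δ (x + y) = δ x + δ y := fun x y => by
    simp only [δ]
    rw [← Prod.snd_add, ← Prod.snd_add, ← map_add]
    congr 3
    refine Prod.ext ?_ (Prod.ext ?_ ?_) <;> simp
  have hδ0 : ∀ x, δ x = 0 → x = 0 := fun x h => by
    have := hz x
    rw [show (w (x, 0, 0)).2.2 = 0 from h] at this
    exact congrArg Prod.fst (w.injective (this.trans (map_zero w).symm))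
  -- images of the other translates
  have hc : ∀ b : F, b ≠ 0 → ∃ c : F, ∀ s, α s = c * c * δ (b * b * s) ∧ β (b * s) = c * δ (b * b * s) := by
    intro b hb
    obtain ⟨g, hg, hgS⟩ := N.S_mem
    have hm : w * (uA b * g) ∈ Γ := Γ.mul_mem hw (Γ.mul_mem (N.u_mem b) hg)
    have hne : pt (w * (uA b * g)) ≠ Z0 F := by
      rw [pt_mul, pt_mul, hgS, ← hwS]
      intro e
      have e' := Set.image_injective.mpr w.injective e
      have : uA b (0, 0, 1) ∈ S0 F := e' ▸ Set.mem_image_of_mem _ ⟨rfl, rfl⟩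
      exact hb (by simpa using this.2)
    obtain ⟨c, hce⟩ := N.other hm hne
    rw [pt_mul, pt_mul, hgS] at hce
    refine ⟨c, fun s => ?_⟩
    obtain ⟨x, hx, hxe⟩ := (hce ▸ Set.mem_image_of_mem _ (Set.mem_image_of_mem _ ⟨rfl, rfl⟩) :
      w (uA b (0, 0, s)) ∈ uA c '' S0 F)
    rw [hv (uA b (0, 0, s))] at hxe
    simp [hx.1, hx.2] at hxe
    obtain ⟨h1, h2, h3⟩ := hxe
    refine ⟨?_, ?_⟩
    · rw [← h1, h3]
    · rw [← h2, h3]
  choose! cb hcb using hc
  set c := cb 1 with hcdef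
  have hc1 : ∀ s, α s = c * c * δ s ∧ β s = c * δ s := fun s => by
    simpa using hcb 1 one_ne_zero s
  have hδ1 : δ 1 ≠ 0 := fun h => one_ne_zero (hδ0 1 h)
  have hc0 : c ≠ 0 := fun h => by
    have := (hc1 1).2
    rw [h, zero_mul] at this
    have e := ha 1
    rw [show (w (0, 1, 0)).2.1 = 0 from this] at e
    exact one_ne_zero (congrArg (fun v : V F => v.2.1) (w.injective (e.trans (map_zero w).symm)))
  have hsq : ∀ y, δ (y * y) * δ 1 = δ y * δ y := by
    intro y
    by_cases hy : y = 0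
    · subst hy
      have : δ 0 = 0 := by have := hδadd 0 0; simpa using this
      simp [this]
    obtain ⟨h1, h2⟩ := hcb y⁻¹ (inv_ne_zero hy) (y * y)
    rw [show y⁻¹ * y⁻¹ * (y * y) = 1 by field_simp, (hc1 _).1] at h1
    rw [show y⁻¹ * (y * y) = y by field_simp,
      show y⁻¹ * y⁻¹ * (y * y) = 1 by field_simp, (hc1 _).2] at h2
    have h3 : (c * c) * (δ (y * y) * δ 1) = (c * c) * (δ y * δ y) := by
      linear_combination (δ 1) * h1 - (c * δ y + cb y⁻¹ * δ 1) * h2
    exact mul_left_cancel₀ (mul_ne_zero hc0 hc0) h3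
  set D := δ 1 with hD
  set f := fun x => δ x / D with hf
  have hfadd : ∀ x y, f (x + y) = f x + f y := fun x y => by simp only [f, hδadd, add_div]
  have hfsq : ∀ y, f (y * y) = f y * f y := fun y => by
    simp only [f]; rw [div_mul_div_comm, div_eq_div_iff hδ1 (mul_ne_zero hδ1 hδ1)]; linear_combination D * hsq y
  have hfmul : ∀ x y, f (x * y) = f x * f y := fun x y => by
    have h := hfsq (x + y)
    rw [show (x + y) * (x + y) = x * x + (x * y + (x * y + y * y)) by ring] at h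
    simp only [hfadd, hfsq] at h
    have h' : 2 * f (x * y) = 2 * (f x * f y) := by linear_combination h
    exact mul_left_cancel₀ N.two_ne h'
  have hf1 : f 1 = 1 := div_self hδ1
  have hδf : ∀ x, δ x = D * f x := fun x => by simp only [f]; field_simp
  -- the square of the swapper
  obtain ⟨A, hA⟩ := N.diag_sq (Γ.mul_mem hw hw)
    (by rw [show (⇑(w * w) : V F → V F) = w ∘ w from rfl, Set.image_comp, hwZ, hwS])
    (by rw [show (⇑(w * w) : V F → V F) = w ∘ w from rfl, Set.image_comp, hwS, hwZ])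
  set k := A.1 0 0 * A.1 0 0 with hk
  have hsq1 : ∀ x, c * c * D * f D * f (f x) = k * x := fun x => by
    have := congrArg (fun g : Au F => (g (x, 0, 0)).1) hA
    simp only [mul_apply', hv, sq_apply, (hc1 _).1, hδf, hfmul] at this
    simp [sqFun] at this
    linear_combination -this
  have hff : ∀ x, f (f x) = x := fun x => by
    have h1 := hsq1 1
    rw [hf1, hf1, mul_one, mul_one] at h1
    have h2 := hsq1 x
    rw [h1] at h2
    have hk0 : k ≠ 0 := by
      rw [← h1]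
      refine mul_ne_zero (mul_ne_zero (mul_ne_zero hc0 hc0) hδ1) ?_
      intro e
      exact hδ1 (hδ0 D (by rw [hδf, e, mul_zero]))
    exact mul_left_cancel₀ hk0 h2
  have hid := eq_id_of_sq N.q_mod f hfadd hfmul hff N.two_ne
  have hwv : ∀ v, w v = (c * c * D * v.2.2, c * D * v.2.1, D * v.1) := fun v => by
    rw [hv, (hc1 _).1, (hc1 _).2, hδf, hδf, hδf, hid, hid, hid]
    simp [mul_assoc]
  have hlow : ∀ x : F, lowA x ∈ Γ := fun x => by
    have h : w * uA (c * x) = lowA x * w := by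
      refine LinearEquiv.ext fun v => ?_
      simp only [mul_apply', hwv, lowA_apply, uA_apply]
      refine Prod.ext ?_ (Prod.ext ?_ ?_) <;> simp <;> ring
    have h' : lowA x = w * uA (c * x) * w⁻¹ := by rw [h]; group
    rw [h']
    exact Γ.mul_mem (Γ.mul_mem hw (N.u_mem _)) (Γ.inv_mem hw)
  rw [nA_eq]
  exact Γ.mul_mem (Γ.mul_mem (N.u_mem 1) (hlow _)) (N.u_mem 1)

theorem eq_range : Γ = (sq : GL (Fin 2) F →* Au F).range := by
  classical
  have hn : nA F '' Z0 F = S0 F ∧ nA F '' S0 F = Z0 F := by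
    constructor <;> ext v <;> constructor
    · rintro ⟨x, hx, rfl⟩; exact ⟨by simp [hx.2], by simp [hx.1]⟩
    · exact fun hv => ⟨(v.2.2, 0, 0), ⟨rfl, rfl⟩, Prod.ext (by simp [hv.1]) (Prod.ext (by simp [hv.2]) (by simp))⟩
    · rintro ⟨x, hx, rfl⟩; exact ⟨by simp [hx.2], by simp [hx.1]⟩
    · exact fun hv => ⟨(0, 0, v.1), ⟨rfl, rfl⟩, Prod.ext (by simp) (Prod.ext (by simp [hv.1]) (by simp [hv.2]))⟩
  set R := (sq : GL (Fin 2) F →* Au F).range
  have hnR : nA F ∈ R := ⟨_, rfl⟩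
  have huR : ∀ b, uA b ∈ R := fun b => by rw [uA_eq]; exact ⟨_, rfl⟩
  apply le_antisymm
  · -- an element fixing the first axis
    have hfirst : ∀ f ∈ Γ, f '' Z0 F = Z0 F → f ∈ R := by
      intro f hf hZ
      obtain ⟨g, hg, hgS⟩ := N.S_mem
      have hne : pt (f * g) ≠ Z0 F := by
        rw [pt_mul, hgS]; intro e
        exact S0_ne_Z0 (F := F) (Set.image_injective.mpr f.injective (e.trans hZ.symm))
      obtain ⟨c, hc⟩ := N.other (Γ.mul_mem hf hg) hne
      rw [pt_mul, hgS] at hc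
      have h1 := N.diag_sq (f := uA (-c) * f) (Γ.mul_mem (N.u_mem _) hf)
        (by rw [show (⇑(uA (-c) * f) : V F → V F) = uA (-c) ∘ f from rfl, Set.image_comp, hZ,
          Geom.uA_Z0])
        (by rw [show (⇑(uA (-c) * f) : V F → V F) = uA (-c) ∘ f from rfl, Set.image_comp, hc,
          ← Set.image_comp, show (uA (-c) ∘ uA c : V F → V F) = ⇑(uA (-c) * uA c) from rfl, uA_add,
          neg_add_cancel, uA_zero]; exact Set.image_id' _)
      have := R.mul_mem (huR c) h1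
      rwa [← mul_assoc, uA_add, add_neg_cancel, uA_zero, one_mul] at this
    intro f hf
    by_cases hZ : pt f = Z0 F
    · exact hfirst f hf hZ
    obtain ⟨c, hc⟩ := N.other hf hZ
    have h1 := hfirst (nA F * (uA (-c) * f)) (Γ.mul_mem N.nA_mem (Γ.mul_mem (N.u_mem _) hf)) (by
      show pt (nA F * (uA (-c) * f)) = Z0 F
      rw [pt_mul, pt_mul, hc, ← Set.image_comp (uA (-c)),
        show (uA (-c) ∘ uA c : V F → V F) = ⇑(uA (-c) * uA c) from rfl, uA_add, neg_add_cancel,
        uA_zero, show (⇑(1 : Au F) : V F → V F) = id from rfl, Set.image_id, hn.2])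
    have := R.mul_mem (huR c) (R.mul_mem (R.inv_mem hnR) h1)
    rwa [inv_mul_cancel_left, ← mul_assoc, uA_add, add_neg_cancel, uA_zero, one_mul] at this
  · rintro _ ⟨A, rfl⟩
    obtain ⟨p, q, r, w, hA⟩ : ∃ p q r w, A.1 = !![p, q; r, w] :=
      ⟨_, _, _, _, Matrix.eta_fin_two A.1⟩
    have hdet : p * w - q * r ≠ 0 := by
      have h : A.1.det ≠ 0 := Matrix.GeneralLinearGroup.det_ne_zero A
      rwa [hA, Matrix.det_fin_two_of] at h
    by_cases hr : r = 0
    · subst hr
      have hp : p ≠ 0 := fun e => hdet (by rw [e]; ring)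
      have hw : w ≠ 0 := fun e => hdet (by rw [e]; ring)
      have h := Γ.mul_mem (N.dg_mem p w hp hw) (N.u_mem (q / p))
      convert h using 1
      refine LinearEquiv.ext fun v => ?_
      simp only [sq_apply, hA, mul_apply', sq_mk2, uA_apply]
      refine Prod.ext ?_ (Prod.ext ?_ ?_) <;> simp [sqFun] <;> field_simp <;> ring
    · set k := q - p * w / r with hk
      have hk0 : k ≠ 0 := fun e => hdet (by
        rw [hk, sub_eq_zero] at e; rw [e]; field_simp; ring)
      have h := Γ.mul_mem (N.u_mem (p / r)) (Γ.mul_mem N.nA_mem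
        (Γ.mul_mem (N.dg_mem (-r) k (neg_ne_zero.mpr hr) hk0) (N.u_mem (w / r))))
      convert h using 1
      refine LinearEquiv.ext fun v => ?_
      simp only [sq_apply, hA, mul_apply', sq_mk2, uA_apply, nA_apply]
      refine Prod.ext ?_ (Prod.ext ?_ ?_) <;> simp [sqFun, hk] <;> field_simp <;> ring

end Norm

/-- The main geometric theorem. -/
theorem exists_conj_range [Finite F] (hq : Nat.card F % 4 = 3) {Γ : Subgroup (Au F)} (H : Geom F Γ) :
    ∃ L : Au F, ∀ f : Au F, f ∈ Γ ↔ L * f * L⁻¹ ∈ (sq : GL (Fin 2) F →* Au F).range := by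
  classical
  have hcard := H.card_Fix hq
  rw [Nat.card_coe_set_eq, Set.ncard_eq_two] at hcard
  obtain ⟨X₁, X₂, hne, hF⟩ := hcard
  have hZ : Z0 F ∈ ({X₁, X₂} : Set (Set (V F))) := hF ▸ H.Z0_Fix
  obtain ⟨X, hXne, hFX⟩ : ∃ X, X ≠ Z0 F ∧ H.Fix' = {Z0 F, X} := by
    rcases hZ with rfl | h
    · exact ⟨X₂, hne.symm, hF⟩
    · rw [Set.mem_singleton_iff] at h; subst h
      exact ⟨X₁, hne, hF.trans (Set.pair_comm _ _)⟩
  have hXF : X ∈ H.Fix' := hFX ▸ Or.inr rfl
  obtain ⟨⟨g, hg, hgX⟩, hW⟩ := id hXF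
  subst hgX
  obtain ⟨v, hv, hs⟩ := H.exists_s hg hXne 1
  set c₀ := v.1 with hc₀
  have hv' : v = (c₀, 0, 1) := Prod.ext rfl (Prod.ext (hW hv) hs)
  have hone : ∀ c : Fˣ, tA c '' pt g = pt g := fun c => by
    have h := H.tA_Fix hXF c
    rw [hFX] at h
    rcases h with h | h
    · exact absurd (Set.image_injective.mpr (tA c).injective (h.trans (Geom.tA_Z0 c).symm)) hXne
    · exact h
  have hshape : (∀ s : F, ((c₀ * s, 0, s) : V F) ∈ pt g) ∧ ∀ c : Fˣ, c₀ * ((c : F) * c - 1) = 0 := by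
    by_cases hall : ∀ c : Fˣ, (c : F) * c = 1
    · refine ⟨fun s => ?_, fun c => by rw [hall c, sub_self, mul_zero]⟩
      by_cases hs0 : s = 0
      · subst hs0; rw [mul_zero]; exact zero_mem_pt g
      rcases mul_self_eq_one_iff.mp (hall (Units.mk0 s hs0)) with h | h <;> simp at h <;> subst h
      · rw [mul_one, ← hv']; exact hv
      · obtain ⟨x, hx, hxe⟩ := hv
        refine ⟨-x, ⟨by simp [hx.1], by simp [hx.2]⟩, ?_⟩
        rw [map_neg, hxe, hv']
        simp
    · push Not at hall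
      obtain ⟨c, hc⟩ := hall
      have hX := H.S0_unique hXF hXne c hc (hone c)
      have h0 : c₀ = 0 := (hX ▸ hv : v ∈ S0 F).1
      refine ⟨fun s => ?_, fun c => by rw [h0, zero_mul]⟩
      rw [hX, h0, zero_mul]; exact ⟨rfl, rfl⟩
  let L : Au F := AddEquiv.toNatLinearEquiv
    { toFun := fun v => (v.1 - c₀ * v.2.2, v.2.1, v.2.2)
      invFun := fun v => (v.1 + c₀ * v.2.2, v.2.1, v.2.2)
      left_inv := fun v => by simp
      right_inv := fun v => by simp
      map_add' := fun v w => by refine Prod.ext ?_ (Prod.ext ?_ ?_) <;> simp <;> ring }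
  have hL : ∀ v, L v = (v.1 - c₀ * v.2.2, v.2.1, v.2.2) := fun v => rfl
  have hLu : ∀ b, L * uA b = uA b * L := fun b => by
    refine LinearEquiv.ext fun v => ?_
    simp only [mul_apply', hL, uA_apply]
    refine Prod.ext ?_ (Prod.ext ?_ ?_) <;> simp <;> ring
  have hLt : ∀ c : Fˣ, L * tA c = tA c * L := fun c => by
    refine LinearEquiv.ext fun v => ?_
    simp only [mul_apply', hL, tA_apply]
    refine Prod.ext ?_ (Prod.ext ?_ ?_) <;> simp
    rcases mul_eq_zero.mp (hshape.2 c) with h | h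
    · exact Or.inr h
    · left; linear_combination v.2.2 * h
  have hLZ : ∀ v ∈ Z0 F, L v = v := fun v hv => by
    rw [hL]; refine Prod.ext ?_ (Prod.ext ?_ ?_) <;> simp [hv.2]
  have hLinv : ∀ v ∈ Z0 F, (L⁻¹ : Au F) v = v := fun v hv => by
    conv_lhs => rw [← hLZ v hv]
    exact inv_apply_self' L v
  set Γ' := Γ.map (MulAut.conj L).toMonoidHom with hΓ'
  have hmem : ∀ f, f ∈ Γ' ↔ L⁻¹ * f * L ∈ Γ := fun f => by
    constructor
    · rintro ⟨x, hx, rfl⟩
      simpa [mul_assoc] using hx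
    · exact fun h => ⟨_, h, by simp [mul_assoc]⟩
  have hconj : ∀ f ∈ Γ, L * f * L⁻¹ ∈ Γ' := fun f hf => (hmem _).mpr (by simpa [mul_assoc] using hf)
  have hptL : ∀ f : Au F, pt (f * L⁻¹) = pt f := fun f => by
    rw [pt_mul, pt, Set.image_congr (hLinv), Set.image_id']; rfl
  have hZL : ∀ f : Au F, ∀ v ∈ Z0 F, (L⁻¹ * f * L) v = (L⁻¹ : Au F) (f v) := fun f v hv => by
    rw [mul_apply', mul_apply', hLZ v hv]
  have hback : ∀ y : V F, (L⁻¹ : Au F) y ∈ Z0 F → y ∈ Z0 F := fun y hy => by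
    have h := hLZ _ hy
    rw [apply_inv_self'] at h
    rwa [← h] at hy
  have N : Norm F Γ' :=
    { two_ne := H.two_ne
      u_mem := fun b => by have := hconj _ (H.u_mem b); rwa [hLu, mul_inv_cancel_right] at this
      t_mem := fun c => by have := hconj _ (H.t_mem c); rwa [hLt, mul_inv_cancel_right] at this
      fix := fun f hf v hv h0 hfv => by
        obtain ⟨b, c, e⟩ := H.fix _ ((hmem f).mp hf) v hv h0 (by rw [hZL f v hv, hfv, hLinv v hv])
        refine ⟨b, c, ?_⟩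
        calc f = L * (L⁻¹ * f * L) * L⁻¹ := by group
          _ = uA b * tA c := by rw [e, ← mul_assoc, hLu, mul_assoc (uA b), hLt, ← mul_assoc,
              mul_inv_cancel_right]
      stab := fun f hf v hv h0 hfv w hw => by
        have h := H.stab _ ((hmem f).mp hf) v hv h0 (by rw [hZL f v hv, hLinv _ hfv]; exact hfv) w hw
        rw [hZL f w hw] at h
        exact hback _ h
      moves := by
        obtain ⟨f, hf, hne⟩ := H.moves
        refine ⟨_, hconj f hf, fun e => hne ?_⟩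
        rw [hptL, pt_mul] at e
        exact Set.image_injective.mpr L.injective (e.trans (by
          rw [Set.image_congr hLZ, Set.image_id']))
      two_classes := by
        obtain ⟨v, hv, w, hw, h1, h2, hne⟩ := H.two_classes
        refine ⟨v, hv, w, hw, h1, h2, fun f hf hfv => hne _ ((hmem f).mp hf) ?_⟩
        rw [hZL f v hv, hfv, hLinv w hw]
      q_mod := hq
      S_mem := by
        refine ⟨_, hconj g hg, ?_⟩
        rw [hptL, pt_mul]
        refine Set.eq_of_subset_of_ncard_le ?_ ?_ (Set.toFinite _) |>.symm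
        · rintro ⟨z, a, s⟩ ⟨hz, ha⟩
          simp only at hz ha
          subst hz ha
          exact ⟨_, hshape.1 s, by rw [hL]; simp⟩
        · rw [Set.ncard_image_of_injective _ L.injective, pt, Set.ncard_image_of_injective _ g.injective]
          refine le_of_eq (Set.ncard_congr (fun v _ => ((0, 0, v.1) : V F)) (fun v _ => ⟨rfl, rfl⟩) ?_ ?_)
          · exact fun v w hv hw e => Prod.ext (congrArg (fun y : V F => y.2.2) e)
              (Prod.ext (hv.1.trans hw.1.symm) (hv.2.trans hw.2.symm))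
          · exact fun v hv => ⟨(v.2.2, 0, 0), ⟨rfl, rfl⟩, Prod.ext hv.1.symm (Prod.ext hv.2.symm rfl)⟩
      only := fun f hf hfW => by
        have hf' := (hmem f).mp hf
        have e : pt f = L '' pt (L⁻¹ * f * L) := by
          rw [← pt_mul, ← hptL (L * _)]; congr 1; group
        have hsub : pt (L⁻¹ * f * L) ⊆ W0 F := fun y hy => by
          have := hfW (e ▸ Set.mem_image_of_mem L hy)
          rw [mem_W0, hL] at this
          exact this
        have hm : pt (L⁻¹ * f * L) ∈ H.Fix' := ⟨⟨_, hf', rfl⟩, hsub⟩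
        rw [hFX] at hm
        rcases hm with h | h
        · left; rw [e, h, Set.image_congr hLZ, Set.image_id']
        · right
          rw [e, h]
          refine Set.eq_of_subset_of_ncard_le ?_ ?_ (Set.toFinite _) |>.symm
          · rintro ⟨z, a, s⟩ ⟨hz, ha⟩
            simp only at hz ha
            subst hz ha
            exact ⟨_, hshape.1 s, by rw [hL]; simp⟩
          · rw [Set.ncard_image_of_injective _ L.injective, pt,
              Set.ncard_image_of_injective _ g.injective]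
            refine le_of_eq (Set.ncard_congr (fun v _ => ((0, 0, v.1) : V F)) (fun v _ => ⟨rfl, rfl⟩) ?_ ?_)
            · exact fun v w hv hw e => Prod.ext (congrArg (fun y : V F => y.2.2) e)
                (Prod.ext (hv.1.trans hw.1.symm) (hv.2.trans hw.2.symm))
            · exact fun v hv => ⟨(v.2.2, 0, 0), ⟨rfl, rfl⟩, Prod.ext hv.1.symm (Prod.ext hv.2.symm rfl)⟩ }
  refine ⟨L, fun f => ?_⟩
  rw [← N.eq_range, hmem]
  simp [mul_assoc]

end Cfsg.Agent.SympM42
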