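import Cfsg.Agent.Lib.SympM42PSp
import Cfsg.Agent.Lib.SympM42Exact
import Cfsg.Agent.Lib.CoprimeGaschutz

/-!
The normaliser of the rank three radical in a group with a `p`-central centraliser as in `PSp(4, F)`.
-/

set_option autoImplicit false

namespace Cfsg.Agent.SympM42

universe u v

section Target

open Matrix

variable {F : Type u} [Field F]

lemma sq_ker_iff {A : GL (Fin 2) F} :
    sq A = 1 ↔ A.1 = 1 ∨ A.1 = -1 := by
  constructor
  · intro h
    have e1 := congrArg (fun g : Au F => g ((1, 0, 0) : V F)) h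
    have e2 := congrArg (fun g : Au F => g ((0, 0, 1) : V F)) h
    have e3 := congrArg (fun g : Au F => g ((0, 1, 0) : V F)) h
    simp [sqFun] at e1 e2 e3
    obtain ⟨p1, -, p3⟩ := e1
    obtain ⟨q1, -, q3⟩ := e2
    obtain ⟨-, r2, -⟩ := e3
    rcases mul_self_eq_one_iff.mp p1 with h0 | h0 <;> rw [h0, q1, p3] at r2 <;> simp at r2
    · exact Or.inl (by ext i j; fin_cases i <;> fin_cases j <;> simp [h0, q1, p3, r2])
    · refine Or.inr ?_
      have r2' : A.1 1 1 = -1 := by linear_combination -r2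
      ext i j; fin_cases i <;> fin_cases j <;> simp [h0, q1, p3, r2']
  · rintro (h | h) <;> refine LinearEquiv.ext fun v => ?_ <;>
      refine Prod.ext ?_ (Prod.ext ?_ ?_) <;> simp [sqFun, h]

/-- The image of `GL₂(F)` on symmetric matrices. -/
theorem range_equiv [Fintype F] {q : ℕ} (hcard : Fintype.card F = q) (hq : q % 4 = 3) :
    Nonempty ((sq : GL (Fin 2) F →* Au F).range ≃*
      (Matrix.ProjGenLinGroup (Fin 2) F × Multiplicative (ZMod ((q - 1) / 2)))) := by
  classical
  set h := (q - 1) / 2 with hh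
  have hh0 : 0 < h := by omega
  haveI : NeZero h := ⟨hh0.ne'⟩
  have hu : Nat.card Fˣ = q - 1 := by rw [Nat.card_units, Nat.card_eq_fintype_card, hcard]
  have hdvd : h ∣ Nat.card Fˣ := ⟨2, by rw [hu]; omega⟩
  let η : Fˣ →* Multiplicative (ZMod h) :=
    ((ZMod.castHom hdvd (ZMod h)).toAddMonoidHom.toMultiplicative).comp
      (zmodCyclicMulEquiv (inferInstance : IsCyclic Fˣ)).symm.toMonoidHom
  have hηs : Function.Surjective η := by
    intro y
    obtain ⟨a, ha⟩ := ZMod.castHom_surjective hdvd (Multiplicative.toAdd y)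
    obtain rfl : y = Multiplicative.ofAdd (ZMod.castHom hdvd (ZMod h) a) := by rw [ha]; rfl
    exact ⟨zmodCyclicMulEquiv (inferInstance : IsCyclic Fˣ) (Multiplicative.ofAdd a), by
      simp [η]⟩
  have hpow : ∀ t : Multiplicative (ZMod h), t ^ h = 1 := fun t => by
    have := pow_card_eq_one' (x := t)
    rwa [Nat.card_eq_fintype_card, Fintype.card_multiplicative, ZMod.card] at this
  have hinj2 : ∀ t : Multiplicative (ZMod h), t ^ 2 = 1 → t = 1 := fun t ht => by
    obtain ⟨k, hk⟩ : Odd h := ⟨q / 4, by omega⟩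
    have := hpow t
    rw [show t ^ h = t ^ (2 * k + 1) from congrArg (t ^ ·) hk] at this
    rwa [pow_succ, pow_mul, ht, one_pow, one_mul] at this
  have hneg : (-1 : Fˣ) ≠ 1 := by
    intro e
    have h2 : (2 : F) = 0 := by linear_combination -(by simpa using congrArg Units.val e : (-1 : F) = 1)
    have := FiniteField.even_card_iff_char_two (F := F)
    have hc : ringChar F = 2 := (CharP.ringChar_of_prime_eq_zero Nat.prime_two (by exact_mod_cast h2))
    have := this.mp hc
    omega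
  have hker : ∀ x : Fˣ, η x = 1 ↔ x = 1 ∨ x = -1 := by
    have hc2 : Nat.card η.ker = 2 := by
      have h1 := Subgroup.card_mul_index η.ker
      rw [Subgroup.index_ker, MonoidHom.range_eq_top.mpr hηs, Subgroup.card_top, hu,
        Nat.card_eq_fintype_card (α := Multiplicative (ZMod h)), Fintype.card_multiplicative,
        ZMod.card] at h1
      have h2 : Nat.card η.ker * h = 2 * h := by omega
      exact Nat.eq_of_mul_eq_mul_right hh0 h2
    have hsub : ({1, -1} : Set Fˣ) ⊆ (η.ker : Set Fˣ) := by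
      rintro x (rfl | rfl)
      · exact η.ker.one_mem
      · refine hinj2 _ ?_
        rw [← map_pow, neg_one_sq, map_one]
    have heq : ({1, -1} : Set Fˣ) = (η.ker : Set Fˣ) := by
      refine Set.eq_of_subset_of_ncard_le hsub ?_ (Set.toFinite _)
      rw [Set.ncard_pair hneg.symm, ← Nat.card_coe_set_eq]
      exact le_of_eq hc2
    intro x
    rw [← MonoidHom.mem_ker, ← SetLike.mem_coe, ← heq]; simp
  let φ : GL (Fin 2) F →* Matrix.ProjGenLinGroup (Fin 2) F × Multiplicative (ZMod h) :=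
    Matrix.ProjGenLinGroup.mk.prod (η.comp Matrix.GeneralLinearGroup.det)
  have hdet : ∀ u : Fˣ, Matrix.GeneralLinearGroup.det (Matrix.GeneralLinearGroup.scalar (Fin 2) u) = u ^ 2 := by
    intro u
    apply Units.ext
    simp [Matrix.GeneralLinearGroup.scalar, Matrix.det_fin_two, pow_two]
  have hkφ : φ.ker = (sq : GL (Fin 2) F →* Au F).ker := by
    ext A
    rw [MonoidHom.mem_ker, MonoidHom.mem_ker, sq_ker_iff]
    show (Matrix.ProjGenLinGroup.mk A, η (Matrix.GeneralLinearGroup.det A)) = ((1 : _), (1 : _)) ↔ _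
    rw [Prod.mk.injEq]
    constructor
    · rintro ⟨h1, h2⟩
      rw [Matrix.ProjGenLinGroup.mk_eq_one, Matrix.GeneralLinearGroup.center_eq_range_scalar] at h1
      obtain ⟨u, rfl⟩ := h1
      rw [hdet, map_pow] at h2
      rcases (hker u).mp (hinj2 _ h2) with rfl | rfl
      · left; simp
      · right; ext i j; fin_cases i <;> fin_cases j <;> simp [Matrix.GeneralLinearGroup.scalar]
    · intro hA
      have hA' : A = Matrix.GeneralLinearGroup.scalar (Fin 2) 1 ∨
          A = Matrix.GeneralLinearGroup.scalar (Fin 2) (-1) := by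
        rcases hA with h' | h'
        · left; exact Units.ext (by rw [h']; simp)
        · right; refine Units.ext ?_
          rw [h']; ext i j; fin_cases i <;> fin_cases j <;> simp [Matrix.GeneralLinearGroup.scalar]
      have hm : ∃ u : Fˣ, (u = 1 ∨ u = -1) ∧ A = Matrix.GeneralLinearGroup.scalar (Fin 2) u :=
        hA'.elim (fun e => ⟨1, Or.inl rfl, e⟩) (fun e => ⟨-1, Or.inr rfl, e⟩)
      obtain ⟨u, hu', rfl⟩ := hm
      refine ⟨Matrix.ProjGenLinGroup.mk_scalar u, ?_⟩
      rw [hdet, map_pow, (hker u).mpr hu', one_pow]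
  have hφs : Function.Surjective φ := by
    rintro ⟨X, c⟩
    obtain ⟨A, rfl⟩ := Matrix.ProjGenLinGroup.mk_surjective X
    set d := c * (η (Matrix.GeneralLinearGroup.det A))⁻¹
    obtain ⟨u, hu'⟩ := hηs (d ^ ((h + 1) / 2))
    refine ⟨A * Matrix.GeneralLinearGroup.scalar (Fin 2) u, ?_⟩
    show (Matrix.ProjGenLinGroup.mk _, η (Matrix.GeneralLinearGroup.det _)) = _
    rw [map_mul, Matrix.ProjGenLinGroup.mk_scalar, mul_one, map_mul Matrix.GeneralLinearGroup.det,
      hdet, map_mul, map_pow, hu', ← pow_mul, show (h + 1) / 2 * 2 = h + 1 by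
        obtain ⟨k, hk⟩ : Odd h := ⟨q / 4, by omega⟩
        omega, pow_succ, hpow, one_mul]
    simp [d, mul_comm]
  exact ⟨(QuotientGroup.quotientKerEquivRange (sq : GL (Fin 2) F →* Au F)).symm.trans
    ((QuotientGroup.quotientMulEquivOfEq hkφ.symm).trans
      (QuotientGroup.quotientKerEquivOfSurjective φ hφs))⟩

end Target

variable {G : Type v} [Group G] [Finite G]

theorem main {F : Type u} [Field F] [Fintype F] (p n : ℕ) [Fact p.Prime] (hp : p ≠ 2)
    (hn : 1 ≤ n) (hq4 : p ^ n % 4 = 3) (hF : Fintype.card F = p ^ n)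
    (x : Cfsg.PSp 2 F) (hx : orderOf x = p) (Px : Sylow p (Cfsg.PSp 2 F))
    (hxP : x ∈ (Px : Subgroup (Cfsg.PSp 2 F))) (hxc : ∀ y ∈ (Px : Subgroup (Cfsg.PSp 2 F)), y * x = x * y)
    (α : G) (e : ↥(Subgroup.centralizer ({α} : Set G)) ≃* ↥(Subgroup.centralizer ({x} : Set (Cfsg.PSp 2 F))))
    (hb : ∀ z ∈ Subgroup.centralizer ({α} : Set G), z ≠ 1 → (∀ c ∈ Subgroup.centralizer ({α} : Set G), c * z = z * c) →
      Subgroup.centralizer ({z} : Set G) = Subgroup.centralizer ({α} : Set G))
    (hc : ∃ (u v : G) (Pu Pv : Sylow p G), orderOf u = p ∧ orderOf v = p ∧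
      u ∈ (Pu : Subgroup G) ∧ (∀ y ∈ (Pu : Subgroup G), y * u = u * y) ∧
      v ∈ (Pv : Subgroup G) ∧ (∀ y ∈ (Pv : Subgroup G), y * v = v * y) ∧ ∀ g : G, g * u * g⁻¹ ≠ v)
    (P : Sylow p G) (hP : (P : Subgroup G) ≤ Subgroup.centralizer ({α} : Set G))
    (M : Subgroup G) (hMP : M ≤ P) (hMc : IsMulCommutative ↥M) (hMcard : Nat.card ↥M = p ^ (3 * n))
    (hnc : ∃ Q R : Sylow p ↥(Subgroup.normalizer (M : Set G)), Q ≠ R) :
    ∃ J : Subgroup G, J ≤ Subgroup.normalizer (M : Set G) ∧ M ⊔ J = Subgroup.normalizer (M : Set G) ∧ M ⊓ J = ⊥ ∧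
      Nonempty (↥J ≃* (Matrix.ProjGenLinGroup (Fin 2) F × Multiplicative (ZMod ((p ^ n - 1) / 2)))) := by
  classical
  haveI : CharP F p := by
    obtain ⟨p', hp'⟩ := CharP.exists F
    obtain ⟨m, hpp', hm⟩ := FiniteField.card F p'
    have hd : p' ∣ p ^ n := by rw [← hF, hm]; exact dvd_pow_self p' m.ne_zero
    rwa [(Nat.prime_dvd_prime_iff_eq hpp' Fact.out).mp (hpp'.dvd_of_dvd_pow hd)] at hp'
  have h2 : (2 : F) ≠ 0 := Ring.two_ne_zero (by rwa [← ringChar.eq F p] at hp)
  have hcardF : Nat.card F = p ^ n := by rw [Nat.card_eq_fintype_card, hF]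
  set C := Subgroup.centralizer ({α} : Set G) with hC
  obtain ⟨eStab⟩ := stab1_equiv_centralizer hp hF x hx Px hxP hxc
  set e0 : stab1 F ≃* C := eStab.trans e.symm
  haveI : Finite (stab1 F) := Finite.of_equiv _ e0.symm.toEquiv
  set D0 := stdStab h2
  have hPS : IsPGroup p D0.PS := IsPGroup.of_card (n := n * 4) (by rw [D0.card_PS, hcardF, pow_mul])
  obtain ⟨Q, hQ⟩ := hPS.exists_le_sylow
  have hQeq : (Q : Subgroup (stab1 F)) = D0.PS :=
    D0.PS_max (p := p) h2 ⟨0, 0, by rw [D0.mv_zero, one_mul]; rfl⟩ Q.2 hQ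
  set Q0 : Sylow p (stab1 F) :=
    (P.subtype hP).mapSurjective (f := e0.symm.toMonoidHom)
      (show Function.Surjective ⇑e0.symm.toMonoidHom from e0.symm.surjective) with hQ0
  obtain ⟨r, hr⟩ := MulAction.exists_smul_eq (stab1 F) Q Q0
  set e1 : stab1 F ≃* C := (MulAut.conj r).trans e0 with he1
  set D := D0.map e1 with hD
  have hPD : ∀ g : C, (g : G) ∈ (P : Subgroup G) ↔ g ∈ D.PS := by
    intro g
    have h1 : (g : G) ∈ (P : Subgroup G) ↔ e0.symm g ∈ (Q0 : Subgroup (stab1 F)) := by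
      rw [hQ0, Sylow.coe_mapSurjective, Sylow.coe_subtype]
      constructor
      · intro hg; exact ⟨g, hg, rfl⟩
      · rintro ⟨y, hy, hye⟩
        rwa [e0.symm.injective hye] at hy
    rw [h1, ← hr, Sylow.coe_subgroup_smul, Subgroup.mem_pointwise_smul_iff_inv_smul_mem, hQeq]
    constructor
    · rintro ⟨w, b, hwb⟩
      refine ⟨w, b, ?_⟩
      show g = e1 (D0.mv w) * e1 (D0.u b)
      rw [← map_mul, ← hwb, ← map_inv, MulAut.smul_def, he1, MulEquiv.trans_apply,
        MulAut.conj_apply, MulAut.conj_apply, inv_inv]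
      apply e0.symm.injective
      rw [e0.symm_apply_apply]
      group
    · rintro ⟨w, b, rfl⟩
      refine ⟨w, b, ?_⟩
      show _ = D0.mv w * D0.u b
      rw [show D.mv w * D.u b = e0 (r * (D0.mv w * D0.u b) * r⁻¹) from by
        show e1 (D0.mv w) * e1 (D0.u b) = _
        rw [← map_mul]; rfl, e0.symm_apply_apply, ← map_inv, MulAut.smul_def, MulAut.conj_apply]
      group
  set mG : V F → G := fun w => (D.mv w : G) with hmG
  have mG_inj : Function.Injective mG := Subtype.val_injective.comp D.mv_inj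
  have mG_add : ∀ a b, mG (a + b) = mG a * mG b := fun a b => congrArg Subtype.val (D.mv_add a b)
  have hMD : M.subgroupOf C = D.M := by
    refine D.M_unique h2 ?_ ?_ ?_
    · intro g hg; exact (hPD g).mp (hMP hg)
    · intro a ha b hb
      exact Subtype.ext (show (a : G) * b = b * a from
        congrArg (fun x : M => (x : G)) (hMc.is_comm.comm ⟨(a : G), ha⟩ ⟨(b : G), hb⟩))
    · rw [Nat.card_congr (Subgroup.subgroupOfEquivOfLe (hMP.trans hP)).toEquiv, hMcard, hcardF,
        ← pow_mul, mul_comm n]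
  have memM : ∀ g : G, g ∈ M ↔ ∃ w, mG w = g := by
    intro g
    constructor
    · intro hg
      have : (⟨g, hP (hMP hg)⟩ : C) ∈ D.M := hMD ▸ hg
      obtain ⟨w, hw⟩ := this
      exact ⟨w, congrArg Subtype.val hw⟩
    · rintro ⟨w, rfl⟩
      have h : D.mv w ∈ M.subgroupOf C := hMD.symm ▸ ⟨w, rfl⟩
      exact h
  set N := Subgroup.normalizer (M : Set G) with hN
  have mG_mem_C : ∀ w, mG w ∈ C := fun w => (D.mv w).2
  -- conjugation by a normalising element
  have hconj : ∀ g ∈ N, ∀ w, ∃ w', mG w' = g * mG w * g⁻¹ := fun g hg w =>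
    (memM _).mp ((Subgroup.mem_normalizer_iff.mp hg _).mp ((memM _).mpr ⟨w, rfl⟩))
  have hNmem : ∀ g : G, (∀ w, ∃ w', mG w' = g * mG w * g⁻¹) → g ∈ N := by
    intro g hg
    choose f hf using hg
    have hfinj : Function.Injective f := fun a b e => mG_inj (by
      have := hf a
      rw [e, hf b] at this
      exact (mul_left_cancel (mul_right_cancel this)).symm)
    refine Subgroup.mem_normalizer_iff.mpr fun y => ⟨fun hy => ?_, fun hy => ?_⟩
    · obtain ⟨w, rfl⟩ := (memM y).mp hy
      exact (memM _).mpr ⟨f w, hf w⟩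
    · obtain ⟨w', hw'⟩ := (memM _).mp hy
      obtain ⟨w, rfl⟩ := Finite.surjective_of_injective hfinj w'
      rw [hf w] at hw'
      exact (memM _).mpr ⟨w, mul_left_cancel (mul_right_cancel hw')⟩
  choose act hact using fun (g : N) => hconj g g.2
  have act_mul : ∀ g h w, act (g * h) w = act g (act h w) := fun g h w => mG_inj (by
    rw [hact, hact, hact, Subgroup.coe_mul]; group)
  have act_one : ∀ w, act 1 w = w := fun w => mG_inj (by rw [hact]; simp)
  have act_add : ∀ g a b, act g (a + b) = act g a + act g b := fun g a b => mG_inj (by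
    rw [hact, mG_add, mG_add, hact, hact]; group)
  let ρ : N →* Au F :=
    { toFun := fun g => AddEquiv.toNatLinearEquiv
        { toFun := act g
          invFun := act g⁻¹
          left_inv := fun w => by rw [← act_mul, inv_mul_cancel, act_one]
          right_inv := fun w => by rw [← act_mul, mul_inv_cancel, act_one]
          map_add' := act_add g }
      map_one' := LinearEquiv.ext act_one
      map_mul' := fun g h => LinearEquiv.ext (act_mul g h) }
  have hρ : ∀ (g : N) w, mG (ρ g w) = g * mG w * (g : G)⁻¹ := fun g w => hact g w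
  -- elements of the centraliser that normalise `M`
  have hCN : ∀ g ∈ C, g ∈ N → ∃ w b c, g = mG w * (D.u b : G) * (D.t c : G) := by
    intro g hgC hgN
    obtain ⟨w, b, c, hgwb⟩ := D.norm ⟨g, hgC⟩ fun y => by
      obtain ⟨y', hy'⟩ := hconj g hgN y
      exact ⟨y', Subtype.ext hy'.symm⟩
    exact ⟨w, b, c, congrArg Subtype.val hgwb⟩
  have hρC : ∀ (g : N) w b c, (g : G) = mG w * (D.u b : G) * (D.t c : G) → ρ g = uA b * tA c := by
    intro g w b c hg
    refine LinearEquiv.ext fun y => mG_inj ?_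
    rw [hρ, hg]
    exact congrArg Subtype.val (D.conj_form w b c y)
  have hZcent : ∀ z : F, ∀ c ∈ C, c * mG (z, 0, 0) = mG (z, 0, 0) * c := fun z c hc' =>
    (congrArg Subtype.val ((D.center_iff (D.mv (z, 0, 0))).mpr ⟨z, rfl⟩ ⟨c, hc'⟩)).symm
  have hcentZ : ∀ v ∈ Z0 F, v ≠ 0 → Subgroup.centralizer ({mG v} : Set G) = C := by
    intro v hv h0
    have e : v = (v.1, 0, 0) := Prod.ext rfl (Prod.ext hv.1 hv.2)
    refine hb _ (mG_mem_C v) (fun h => h0 (mG_inj (h.trans ?_))) (e ▸ hZcent v.1)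
    exact (congrArg Subtype.val D.mv_zero).symm
  have hfixC : ∀ (g : N) (v : V F), v ∈ Z0 F → v ≠ 0 → ρ g v = v → (g : G) ∈ C := by
    intro g v hv h0 hfix
    rw [← hcentZ v hv h0, Subgroup.mem_centralizer_singleton_iff]
    have := hρ g v
    rw [hfix] at this
    exact mul_inv_eq_iff_eq_mul.mp this.symm
  have hone : ((1, 0, 0) : V F) ≠ 0 := fun h => one_ne_zero (congrArg Prod.fst h)
  have hker : ∀ g : N, ρ g = 1 ↔ (g : G) ∈ M := by
    intro g
    constructor
    · intro h1
      obtain ⟨w, b, c, hg⟩ := hCN g (hfixC g (1, 0, 0) ⟨rfl, rfl⟩ hone (by rw [h1]; rfl)) g.2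
      have h := (hρC g w b c hg).symm.trans h1
      obtain ⟨hb0, hc1⟩ := Std.acts_trivial (fun y => by rw [h]; rfl)
      subst hb0 hc1
      rw [hg, show ((D.u 0 : C) : G) = 1 from congrArg Subtype.val D.u_zero, mul_one]
      have ht : D.t 1 = 1 := by
        show e1 (D0.t 1) = 1
        have : D0.t 1 = 1 := D0.u_zero
        rw [this, map_one]
      rw [ht, Subgroup.coe_one, mul_one]
      exact (memM _).mpr ⟨w, rfl⟩
    · intro hg
      obtain ⟨w, hw⟩ := (memM _).mp hg
      refine LinearEquiv.ext fun y => mG_inj ?_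
      rw [hρ, ← hw]
      show mG w * mG y * (mG w)⁻¹ = mG y
      rw [← mG_add, add_comm, mG_add, mul_inv_cancel_right]
  have hcmem : ∀ (c : C) (f : Au F), (∀ w, c * D.mv w * c⁻¹ = D.mv (f w)) →
      ∃ hc : (c : G) ∈ N, ρ ⟨c, hc⟩ = f := by
    intro c f hf
    have hc' : (c : G) ∈ N := hNmem _ fun w => ⟨f w, (congrArg Subtype.val (hf w)).symm⟩
    refine ⟨hc', LinearEquiv.ext fun w => mG_inj ?_⟩
    rw [hρ]; exact congrArg Subtype.val (hf w)
  have hPN : (P : Subgroup G) ≤ N := by
    intro g hg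
    obtain ⟨w, b, hgwb⟩ := (hPD ⟨g, hP hg⟩).mp hg
    refine (hcmem ⟨g, hP hg⟩ (uA b) fun y => ?_).1
    rw [hgwb, mul_inv_rev, show D.mv w * D.u b * D.mv y * ((D.u b)⁻¹ * (D.mv w)⁻¹) =
      D.mv w * (D.u b * D.mv y * (D.u b)⁻¹) * (D.mv w)⁻¹ by group, D.conj_u, ← D.mv_add, add_comm,
      D.mv_add, mul_inv_cancel_right]
  set Γ := ρ.range with hΓ
  have H : Geom F Γ :=
    { two_ne := h2
      u_mem := fun b => by obtain ⟨h, he⟩ := hcmem (D.u b) (uA b) (D.conj_u b); exact ⟨_, he⟩
      t_mem := fun c => by obtain ⟨h, he⟩ := hcmem (D.t c) (tA c) (D.conj_t c); exact ⟨_, he⟩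
      fix := by
        rintro _ ⟨g, rfl⟩ v hv h0 hfix
        obtain ⟨w, b, c, hg⟩ := hCN g (hfixC g v hv h0 hfix) g.2
        exact ⟨b, c, hρC g w b c hg⟩
      stab := by
        rintro _ ⟨g, rfl⟩ v hv h0 hgv w hw
        have h1 : ρ g v ≠ 0 := fun h => h0 ((ρ g).injective (h.trans (map_zero _).symm))
        have hC' : ∀ c ∈ C, (g : G)⁻¹ * c * g ∈ C := by
          intro c hc'
          rw [← hcentZ v hv h0, Subgroup.mem_centralizer_singleton_iff]
          rw [← hcentZ _ hgv h1, Subgroup.mem_centralizer_singleton_iff, hρ] at hc'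
          calc (g : G)⁻¹ * c * g * mG v = (g : G)⁻¹ * (c * (g * mG v * (g : G)⁻¹)) * g := by group
            _ = mG v * ((g : G)⁻¹ * c * g) := by rw [hc']; group
        obtain ⟨z, hz⟩ := (D.center_iff (D.mv (ρ g w))).mp fun c => Subtype.ext (by
          show mG (ρ g w) * (c : G) = (c : G) * mG (ρ g w)
          have hw' : w = (w.1, 0, 0) := Prod.ext rfl (Prod.ext hw.1 hw.2)
          have := hZcent w.1 _ (hC' c c.2)
          rw [← hw'] at this
          rw [hρ]
          calc (g : G) * mG w * (g : G)⁻¹ * c = g * (mG w * ((g : G)⁻¹ * c * g)) * (g : G)⁻¹ := by group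
            _ = c * (g * mG w * (g : G)⁻¹) := by rw [← this]; group)
        rw [D.mv_inj hz]; exact ⟨rfl, rfl⟩
      moves := by
        by_contra hno
        push Not at hno
        have hnorm : ((P : Subgroup G).subgroupOf N).Normal := by
          refine ⟨fun y hy g => ?_⟩
          rw [Subgroup.mem_subgroupOf] at hy ⊢
          have hgZ : ρ g (1, 0, 0) ∈ Z0 F := hno _ ⟨g, rfl⟩ ▸ ⟨(1, 0, 0), ⟨rfl, rfl⟩, rfl⟩
          have hyfix : ρ y (1, 0, 0) = (1, 0, 0) := mG_inj (by
            rw [hρ, mul_inv_eq_iff_eq_mul]; exact hZcent 1 _ (hP hy))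
          have hfix' : ∀ v ∈ Z0 F, ρ y v = v := fun v hv => mG_inj (by
            rw [hρ, mul_inv_eq_iff_eq_mul, show v = (v.1, 0, 0) from Prod.ext rfl (Prod.ext hv.1 hv.2)]
            exact hZcent _ _ (hP hy))
          have hmem : ((g * y * g⁻¹ : N) : G) ∈ C := by
            refine hfixC _ _ hgZ (fun h => hone ((ρ g).injective (h.trans (map_zero _).symm))) ?_
            rw [map_mul, map_mul, map_inv, mul_apply', mul_apply', inv_apply_self', hyfix]
          obtain ⟨w, b, c, hgy⟩ := hCN _ hmem (g * y * g⁻¹).2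
          obtain ⟨k, hk⟩ := P.2 ⟨(y : G), hy⟩
          have hc1 : c = 1 := by
            refine D.t_eq_one (p := p) (g := (⟨_, hmem⟩ : C)) (w0 := w) (b := b) (Subtype.ext hgy) (k := k) ?_
            apply Subtype.ext
            show (((g * y * g⁻¹ : N) : G)) ^ p ^ k = 1
            have hk' : (y : G) ^ p ^ k = 1 := congrArg Subtype.val hk
            rw [Subgroup.coe_mul, Subgroup.coe_mul, Subgroup.coe_inv, conj_pow, hk']
            group
          refine (hPD ⟨_, hmem⟩).mpr ⟨w, b, Subtype.ext ?_⟩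
          show ((g * y * g⁻¹ : N) : G) = _
          rw [hgy, hc1, show D.t 1 = 1 from by
            show e1 (D0.t 1) = 1
            rw [show D0.t 1 = 1 from D0.u_zero, map_one], Subgroup.coe_one, mul_one]
          rfl
        obtain ⟨Q', R', hne⟩ := hnc
        haveI : ((P.subtype hPN : Sylow p N) : Subgroup N).Normal := by rwa [Sylow.coe_subtype]
        haveI := Sylow.unique_of_normal (P.subtype hPN) inferInstance
        exact hne (Subsingleton.elim Q' R')
      two_classes := by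
        obtain ⟨a, b, Pa, Pb, hao, hbo, ha, hac, hb', hbc, hne⟩ := hc
        have key : ∀ (a : G) (Pa : Sylow p G), orderOf a = p → a ∈ (Pa : Subgroup G) →
            (∀ y ∈ (Pa : Subgroup G), y * a = a * y) → ∃ h : G, ∃ v ∈ Z0 F, v ≠ 0 ∧ h * a * h⁻¹ = mG v := by
          intro a Pa hao ha hac
          obtain ⟨h, hh⟩ := MulAction.exists_smul_eq G Pa P
          have hP' : ∀ y, y ∈ (Pa : Subgroup G) ↔ h * y * h⁻¹ ∈ (P : Subgroup G) := fun y => by
            rw [← hh, Sylow.coe_subgroup_smul, ← MulAut.conj_apply, ← MulAut.smul_def,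
              Subgroup.smul_mem_pointwise_smul_iff]
          set a' := h * a * h⁻¹ with ha'
          have ha'P : a' ∈ (P : Subgroup G) := (hP' a).mp ha
          have ha'c : ∀ y ∈ (P : Subgroup G), y * a' = a' * y := fun y hy => by
            have := hac (h⁻¹ * y * h) ((hP' _).mpr (by simpa [mul_assoc] using hy))
            calc y * a' = h * ((h⁻¹ * y * h) * a) * h⁻¹ := by rw [ha']; group
              _ = a' * y := by rw [this, ha']; group
          obtain ⟨w, b, hwb⟩ := (hPD ⟨a', hP ha'P⟩).mp ha'P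
          have hb0 : b = 0 := by
            refine (Std.acts_trivial (c := 1) fun y => D.mv_inj ?_).1
            have hy : D.mv y ∈ D.PS := D.M_le_PS ⟨y, rfl⟩
            have e2 := ha'c _ ((hPD _).mpr hy)
            rw [tA_one, mul_one, ← D.conj_u, mul_inv_eq_iff_eq_mul]
            have e3 : D.mv y * (D.mv w * D.u b) = D.mv w * D.u b * D.mv y := by
              rw [← hwb]; exact Subtype.ext e2
            rw [← mul_assoc, ← D.mv_add, add_comm, D.mv_add, mul_assoc, mul_assoc] at e3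
            exact (mul_left_cancel e3).symm
          rw [hb0, D.u_zero, mul_one] at hwb
          have hu1 : D.u 1 ∈ D.PS := ⟨0, 1, by rw [D.mv_zero, one_mul]⟩
          have e2 := ha'c _ ((hPD _).mpr hu1)
          have hfix : uA 1 w = w := D.mv_inj (by
            rw [← D.conj_u, mul_inv_eq_iff_eq_mul, ← hwb]; exact Subtype.ext e2)
          have a1 := congrArg (fun y : V F => y.2.1) hfix
          have a0 := congrArg (fun y : V F => y.1) hfix
          simp at a1
          simp [a1] at a0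
          refine ⟨h, w, ⟨a0.resolve_left h2, a1⟩, fun h0 => ?_, congrArg Subtype.val hwb⟩
          have : a' = 1 := by
            have := congrArg Subtype.val hwb
            rw [h0, D.mv_zero] at this
            exact this
          rw [ha', conj_eq_one_iff] at this
          rw [this, orderOf_one] at hao
          exact (Fact.out : p.Prime).one_lt.ne hao
        obtain ⟨h₁, v₁, hv₁, n₁, e₁⟩ := key a Pa hao ha hac
        obtain ⟨h₂, v₂, hv₂, n₂, e₂⟩ := key b Pb hbo hb' hbc
        refine ⟨v₁, hv₁, v₂, hv₂, n₁, n₂, ?_⟩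
        rintro _ ⟨g, rfl⟩ hgv
        refine hne (h₂⁻¹ * g * h₁) ?_
        have := hρ g v₁
        rw [hgv, ← e₁, ← e₂] at this
        calc h₂⁻¹ * g * h₁ * a * (h₂⁻¹ * g * h₁)⁻¹ = h₂⁻¹ * (g * (h₁ * a * h₁⁻¹) * (g : G)⁻¹) * h₂ := by group
          _ = b := by rw [← this]; group }
  obtain ⟨L, hL⟩ := exists_conj_range (by rw [hcardF, hq4]) H
  have hmapL : Γ.map (MulAut.conj L).toMonoidHom = (sq : GL (Fin 2) F →* Au F).range := by
    ext f
    constructor
    · rintro ⟨g, hg, rfl⟩; exact (hL g).mp hg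
    · intro hf
      refine ⟨L⁻¹ * f * L, (hL _).mpr (by simpa [mul_assoc] using hf), by simp [mul_assoc]⟩
  obtain ⟨eT⟩ := range_equiv hF hq4
  let eΓ : Γ ≃* (Matrix.ProjGenLinGroup (Fin 2) F × Multiplicative (ZMod ((p ^ n - 1) / 2))) :=
    ((Γ.equivMapOfInjective _ (MulAut.conj L).injective).trans (MulEquiv.subgroupCongr hmapL)).trans eT
  -- the complement
  have hMN : M ≤ N := Subgroup.le_normalizer
  haveI : (M.subgroupOf N).Normal := by rw [hN]; exact Subgroup.normal_in_normalizer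
  haveI : IsMulCommutative (M.subgroupOf N) := ⟨⟨fun a b => Subtype.ext (Subtype.ext
    (show ((a : N) : G) * (b : N) = (b : N) * (a : N) from
      congrArg (fun x : M => (x : G)) (hMc.is_comm.comm ⟨_, a.2⟩ ⟨_, b.2⟩)))⟩⟩
  have huN : ∀ b, (D.u b : G) ∈ N := fun b => (hcmem (D.u b) (uA b) (D.conj_u b)).1
  have huP : ∀ b, (D.u b : G) ∈ (P : Subgroup G) := fun b =>
    (hPD _).mpr ⟨0, b, by rw [D.mv_zero, one_mul]⟩
  let A : Subgroup N :=
    { carrier := {g | ∃ b, (g : G) = D.u b}
      one_mem' := ⟨0, (congrArg Subtype.val D.u_zero).symm⟩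
      mul_mem' := by
        rintro a b ⟨x, hx⟩ ⟨y, hy⟩
        exact ⟨x + y, by rw [Subgroup.coe_mul, hx, hy, D.u_add, Subgroup.coe_mul]⟩
      inv_mem' := by
        rintro a ⟨x, hx⟩
        exact ⟨-x, by rw [Subgroup.coe_inv, hx, D.u_neg, Subgroup.coe_inv]⟩ }
  have hAK : A ⊓ M.subgroupOf N = ⊥ := by
    refine (Subgroup.eq_bot_iff_forall _).mpr ?_
    rintro g ⟨⟨b, hb0⟩, hg⟩
    obtain ⟨w, hw⟩ := (memM _).mp (show (g : G) ∈ M from hg)
    have e3 : D.mv w * D.u 0 = D.mv 0 * D.u b := Subtype.ext (by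
      simp only [D.u_zero, D.mv_zero, mul_one, one_mul]; exact hw.trans hb0)
    have := (D.pair_inj e3).2
    refine Subtype.ext ?_
    rw [hb0, ← this, D.u_zero]; rfl
  have hKA : M.subgroupOf N ⊔ A = (P : Subgroup G).subgroupOf N := by
    refine le_antisymm (sup_le (fun g hg => hMP hg) ?_) ?_
    · rintro g ⟨b, hb0⟩; show (g : G) ∈ (P : Subgroup G); rw [hb0]; exact huP b
    · intro g hg
      obtain ⟨w, b, hwb⟩ := (hPD ⟨g, hP hg⟩).mp hg
      have hwM : mG w ∈ M := (memM _).mpr ⟨w, rfl⟩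
      have : g = (⟨mG w, hMN hwM⟩ : N) * ⟨D.u b, huN b⟩ := Subtype.ext (congrArg (fun z : C => (z : G)) hwb)
      rw [this]
      exact Subgroup.mul_mem_sup hwM ⟨b, rfl⟩
  have hcop : (Nat.card (M.subgroupOf N)).Coprime ((P : Subgroup G).subgroupOf N).index := by
    rw [Nat.card_congr (Subgroup.subgroupOfEquivOfLe hMN).toEquiv, hMcard]
    refine Nat.Coprime.pow_left _ ((Fact.out : p.Prime).coprime_iff_not_dvd.mpr ?_)
    have := (P.subtype hPN).not_dvd_index'
    rw [Sylow.coe_subtype] at this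
    exact this Nat.card_pos.ne'
  obtain ⟨K, hK⟩ := CoprimeGaschutz.exists_complement (K := M.subgroupOf N)
    (U := (P : Subgroup G).subgroupOf N) (fun g hg => hMP hg) hcop A
    (hKA ▸ le_sup_right) hAK hKA
  refine ⟨K.map N.subtype, Subgroup.map_subtype_le K, ?_, ?_, ?_⟩
  · calc M ⊔ K.map N.subtype = (M.subgroupOf N).map N.subtype ⊔ K.map N.subtype := by
          rw [Subgroup.subgroupOf_map_subtype, inf_eq_left.mpr hMN]
      _ = N := by rw [← Subgroup.map_sup, hK.sup_eq_top, ← MonoidHom.range_eq_map, Subgroup.range_subtype]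
  · refine (Subgroup.eq_bot_iff_forall _).mpr ?_
    rintro g ⟨hgM, k, hk, rfl⟩
    have : k ∈ M.subgroupOf N ⊓ K := ⟨hgM, hk⟩
    rw [hK.disjoint.eq_bot, Subgroup.mem_bot] at this
    rw [this]; rfl
  · have hbij : Function.Bijective (ρ.rangeRestrict.comp K.subtype) := by
      constructor
      · refine (injective_iff_map_eq_one _).mpr fun k hk => ?_
        have h1 : (k : N) ∈ M.subgroupOf N := (hker k).mp (congrArg Subtype.val hk)
        have : (k : N) ∈ M.subgroupOf N ⊓ K := ⟨h1, k.2⟩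
        rw [hK.disjoint.eq_bot, Subgroup.mem_bot] at this
        exact Subtype.ext this
      · rintro ⟨_, g, rfl⟩
        obtain ⟨⟨⟨a, ha⟩, ⟨k, hk⟩⟩, rfl⟩ := hK.2 g
        refine ⟨⟨k, hk⟩, Subtype.ext ?_⟩
        show ρ k = ρ (a * k)
        rw [map_mul, (hker a).mpr ha, one_mul]
    exact ⟨((K.equivMapOfInjective N.subtype N.subtype_injective).symm.trans
      (MulEquiv.ofBijective _ hbij)).trans eΓ⟩

end Cfsg.Agent.SympM42
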