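import Mathlib
import Cfsg.Prelude.Def_Classical
import Cfsg.Agent.Lib.SympM42Count

/-!
The centraliser of a long root element in `PSp(4, F)`: its Siegel radical with the action of the
stabiliser, packaged as `Std`, and the Sylow facts following from it.
-/

set_option autoImplicit false

namespace Cfsg.Agent.SympM42

universe u v

/-- The data of the centraliser of a long root element. -/
structure Std (F : Type u) [Field F] (X : Type v) [Group X] where
  mv : V F → X
  mv_add : ∀ a b, mv (a + b) = mv a * mv b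
  mv_inj : Function.Injective mv
  u : F → X
  u_add : ∀ b c, u (b + c) = u b * u c
  t : Fˣ → X
  conj_u : ∀ b w, u b * mv w * (u b)⁻¹ = mv (uA b w)
  conj_t : ∀ c w, t c * mv w * (t c)⁻¹ = mv (tA c w)
  center_iff : ∀ g, (∀ y, g * y = y * g) ↔ ∃ z, g = mv (z, 0, 0)
  norm : ∀ g, (∀ w, ∃ w', g * mv w * g⁻¹ = mv w') → ∃ w b c, g = mv w * u b * t c

namespace Std

variable {F : Type u} [Field F] {X : Type v} [Group X] (D : Std F X)

/-- Transport along an isomorphism. -/
def map {Y : Type*} [Group Y] (e : X ≃* Y) : Std F Y where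
  mv w := e (D.mv w)
  mv_add a b := by rw [D.mv_add, map_mul]
  mv_inj := e.injective.comp D.mv_inj
  u b := e (D.u b)
  u_add b c := by rw [D.u_add, map_mul]
  t c := e (D.t c)
  conj_u b w := by rw [← map_inv, ← map_mul, ← map_mul, D.conj_u]
  conj_t c w := by rw [← map_inv, ← map_mul, ← map_mul, D.conj_t]
  center_iff g := by
    constructor
    · intro h
      obtain ⟨z, hz⟩ := (D.center_iff (e.symm g)).mp fun y => by
        apply e.injective
        simpa using h (e y)
      exact ⟨z, by rw [← hz, e.apply_symm_apply]⟩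
    · rintro ⟨z, rfl⟩ y
      have := congrArg e ((D.center_iff (D.mv (z, 0, 0))).mpr ⟨z, rfl⟩ (e.symm y))
      simpa using this
  norm g h := by
    obtain ⟨w, b, c, hg⟩ := D.norm (e.symm g) fun w => by
      obtain ⟨w', hw⟩ := h w
      exact ⟨w', e.injective (by simpa using hw)⟩
    exact ⟨w, b, c, by rw [← map_mul, ← map_mul, ← hg, e.apply_symm_apply]⟩

lemma mv_zero : D.mv 0 = 1 := by
  have h := D.mv_add 0 0
  rw [add_zero] at h
  exact right_eq_mul.mp h

lemma mv_neg (w : V F) : D.mv (-w) = (D.mv w)⁻¹ :=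
  eq_inv_of_mul_eq_one_left (by rw [← D.mv_add, neg_add_cancel, D.mv_zero])

lemma u_zero : D.u 0 = 1 := by
  have h := D.u_add 0 0
  rw [add_zero] at h
  exact right_eq_mul.mp h

lemma u_neg (b : F) : D.u (-b) = (D.u b)⁻¹ :=
  eq_inv_of_mul_eq_one_left (by rw [← D.u_add, neg_add_cancel, D.u_zero])

lemma u_mv (b : F) (w : V F) : D.u b * D.mv w = D.mv (uA b w) * D.u b := by
  rw [← D.conj_u]; group

lemma conj_form (w0 : V F) (b : F) (c : Fˣ) (w : V F) :
    (D.mv w0 * D.u b * D.t c) * D.mv w * (D.mv w0 * D.u b * D.t c)⁻¹ = D.mv ((uA b * tA c) w) := by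
  have h : D.mv w0 * D.mv (uA b (tA c w)) * (D.mv w0)⁻¹ = D.mv (uA b (tA c w)) := by
    rw [← D.mv_add, add_comm, D.mv_add, mul_inv_cancel_right]
  rw [mul_apply', ← h, ← D.conj_u, ← D.conj_t]
  group

lemma acts_trivial {b : F} {c : Fˣ} (h : ∀ w, (uA b * tA c) w = w) : b = 0 ∧ c = 1 := by
  have h1 := congrArg (fun y : V F => y.2.1) (h (0, 0, 1))
  have h2 := congrArg (fun y : V F => y.2.1) (h (0, 1, 0))
  simp at h1 h2
  exact ⟨h1, h2⟩

/-- The radical. -/
def M : Subgroup X where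
  carrier := Set.range D.mv
  one_mem' := ⟨0, D.mv_zero⟩
  mul_mem' := by rintro _ _ ⟨a, rfl⟩ ⟨b, rfl⟩; exact ⟨a + b, D.mv_add a b⟩
  inv_mem' := by rintro _ ⟨a, rfl⟩; exact ⟨-a, D.mv_neg a⟩

/-- The maximal unipotent subgroup. -/
def PS : Subgroup X where
  carrier := {g | ∃ w b, g = D.mv w * D.u b}
  one_mem' := ⟨0, 0, by rw [D.mv_zero, D.u_zero, one_mul]⟩
  mul_mem' := by
    rintro _ _ ⟨w, b, rfl⟩ ⟨w', b', rfl⟩
    refine ⟨w + uA b w', b + b', ?_⟩
    rw [D.mv_add, D.u_add, mul_assoc, ← mul_assoc (D.u b), D.u_mv]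
    group
  inv_mem' := by
    rintro _ ⟨w, b, rfl⟩
    refine ⟨uA (-b) (-w), -b, ?_⟩
    rw [mul_inv_rev, ← D.mv_neg, ← D.u_neg, D.u_mv]

lemma mem_PS {g : X} : g ∈ D.PS ↔ ∃ w b, g = D.mv w * D.u b := Iff.rfl

lemma mem_M {g : X} : g ∈ D.M ↔ ∃ w, D.mv w = g := Iff.rfl

lemma M_le_PS : D.M ≤ D.PS := by
  rintro _ ⟨w, rfl⟩; exact ⟨w, 0, by rw [D.u_zero, mul_one]⟩

lemma pair_inj {w w' : V F} {b b' : F} (h : D.mv w * D.u b = D.mv w' * D.u b') : w = w' ∧ b = b' := by
  have h1 : D.u (b - b') = D.mv (w' - w) := by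
    rw [sub_eq_add_neg b, D.u_add, D.u_neg, sub_eq_add_neg, add_comm, D.mv_add, D.mv_neg,
      eq_inv_mul_iff_mul_eq, ← mul_assoc, mul_inv_eq_iff_eq_mul, h]
  have hb : b - b' = 0 := by
    refine (acts_trivial (c := 1) fun x => D.mv_inj ?_).1
    rw [tA_one, mul_one, ← D.conj_u, h1, ← D.mv_add, add_comm, D.mv_add, mul_inv_cancel_right]
  obtain rfl := sub_eq_zero.mp hb
  exact ⟨D.mv_inj (mul_right_cancel h), rfl⟩

lemma card_PS : Nat.card D.PS = Nat.card F ^ 4 := by
  let f : V F × F → D.PS := fun y => ⟨D.mv y.1 * D.u y.2, y.1, y.2, rfl⟩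
  have hb : Function.Bijective f := by
    constructor
    · intro y y' h
      obtain ⟨h1, h2⟩ := D.pair_inj (congrArg Subtype.val h)
      exact Prod.ext h1 h2
    · rintro ⟨_, w, b, rfl⟩; exact ⟨(w, b), rfl⟩
  rw [← Nat.card_congr (Equiv.ofBijective f hb)]
  simp only [Nat.card_prod]
  ring

lemma card_M : Nat.card D.M = Nat.card F ^ 3 := by
  rw [show Nat.card D.M = Nat.card (Set.range D.mv) from rfl,
    ← Nat.card_congr (Equiv.ofInjective D.mv D.mv_inj)]
  simp only [Nat.card_prod]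
  ring

lemma mv_pow (w : V F) (k : ℕ) : D.mv w ^ k = D.mv (k • w) := by
  induction k with
  | zero => rw [pow_zero, zero_nsmul, D.mv_zero]
  | succ k ih => rw [pow_succ, ih, succ_nsmul, D.mv_add]

/-- The radical is the only abelian subgroup of its order in the maximal unipotent subgroup. -/
lemma M_unique [Finite F] (h2 : (2 : F) ≠ 0) {A : Subgroup X} (hA : A ≤ D.PS)
    (hc : ∀ a ∈ A, ∀ b ∈ A, a * b = b * a) (hcard : Nat.card A = Nat.card F ^ 3) : A = D.M := by
  have hq : 1 < Nat.card F := Finite.one_lt_card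
  haveI : Finite D.M := Finite.of_surjective (fun w : V F => (⟨D.mv w, w, rfl⟩ : D.M))
    (by rintro ⟨_, w, rfl⟩; exact ⟨w, rfl⟩)
  suffices hle : A ≤ D.M from Subgroup.eq_of_le_of_card_ge hle (by rw [hcard, D.card_M])
  intro g hg
  obtain ⟨w, b, rfl⟩ := hA hg
  by_cases hb : b = 0
  · exact ⟨w, by rw [hb, D.u_zero, mul_one]⟩
  exfalso
  have hfix : ∀ y : V F, D.mv y ∈ A → y ∈ Z0 F := by
    intro y hy
    have e := hc _ hg _ hy
    rw [mul_assoc, D.u_mv, ← mul_assoc, ← mul_assoc, ← D.mv_add, ← D.mv_add] at e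
    have e' := (D.pair_inj e).1
    rw [add_comm w] at e'
    have e'' : uA b y = y := add_right_cancel e'
    have h1 := congrArg (fun v : V F => v.2.1) e''
    have h0 := congrArg (fun v : V F => v.1) e''
    simp at h1
    have hs : y.2.2 = 0 := h1.resolve_left hb
    simp [hs] at h0
    refine ⟨?_, hs⟩
    rcases h0 with h0 | h0
    · rcases h0 with h0 | h0
      · exact absurd h0 h2
      · exact absurd h0 hb
    · exact h0
  choose wa ba hwb using fun a : A => hA a.2
  have hinj : Function.Injective (fun a : A => (ba a, (wa a).1)) := by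
    intro a a' e
    simp only [Prod.mk.injEq] at e
    have hd : D.mv (wa a - wa a') ∈ A := by
      have : (a : X) * (a' : X)⁻¹ = D.mv (wa a - wa a') := by
        rw [hwb a, hwb a', e.1, sub_eq_add_neg, D.mv_add, D.mv_neg]; group
      exact this ▸ A.mul_mem a.2 (A.inv_mem a'.2)
    have hz := hfix _ hd
    apply Subtype.ext
    rw [hwb a, hwb a', e.1]
    congr 2
    refine Prod.ext e.2 (Prod.ext ?_ ?_)
    · have := hz.1; simpa [sub_eq_zero] using this
    · have := hz.2; simpa [sub_eq_zero] using this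
  have hle : Nat.card A ≤ Nat.card (F × F) := Nat.card_le_card_of_injective _ hinj
  rw [hcard, Nat.card_prod] at hle
  nlinarith

lemma t_part_pow {w0 : V F} {b : F} {c : Fˣ} {g : X} (hg : g = D.mv w0 * D.u b * D.t c) (k : ℕ) :
    ∀ w : V F, g ^ k * D.mv w * (g ^ k)⁻¹ = D.mv (((uA b * tA c) ^ k) w) := by
  induction k with
  | zero => intro w; rw [pow_zero, pow_zero, one_mul, inv_one, mul_one]; rfl
  | succ k ih =>
    intro w
    rw [pow_succ' g, mul_inv_rev, show g * g ^ k * D.mv w * ((g ^ k)⁻¹ * g⁻¹) =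
      g * (g ^ k * D.mv w * (g ^ k)⁻¹) * g⁻¹ by group, ih, hg, D.conj_form, pow_succ']
    rfl

lemma t_eq_one {p : ℕ} [Fact p.Prime] [CharP F p] {w0 : V F} {b : F} {c : Fˣ} {g : X}
    (hg : g = D.mv w0 * D.u b * D.t c) {k : ℕ} (hk : g ^ p ^ k = 1) : c = 1 := by
  have h := D.t_part_pow hg (p ^ k) (0, 1, 0)
  rw [hk, one_mul, inv_one, mul_one] at h
  have h' := D.mv_inj h
  have key : ∀ i : ℕ, (((uA b * tA c) ^ i) (0, 1, 0)).2.1 = (c : F) ^ i ∧
      (((uA b * tA c) ^ i) (0, 1, 0)).2.2 = 0 := by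
    intro i
    induction i with
    | zero => exact ⟨by simp, rfl⟩
    | succ i ih =>
      rw [pow_succ', mul_apply']
      refine ⟨?_, ?_⟩ <;> simp [ih.1, ih.2, pow_succ']
  have h1 := (key (p ^ k)).1
  rw [← h'] at h1
  have h2 : ((c : F) - 1) ^ p ^ k = 0 := by rw [sub_pow_char_pow, one_pow, ← h1]; simp
  exact Units.ext (sub_eq_zero.mp (pow_eq_zero_iff (pow_ne_zero _ (Fact.out : p.Prime).ne_zero) |>.mp h2))

/-- The maximal unipotent subgroup contains every `p`-subgroup containing it. -/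
lemma PS_max [Finite F] [Finite X] {p : ℕ} [Fact p.Prime] [CharP F p] (h2 : (2 : F) ≠ 0)
    (hT : D.t 1 ∈ D.PS) {Q : Subgroup X} (hQ : IsPGroup p Q) (hle : D.PS ≤ Q) : Q = D.PS := by
  haveI := hQ.isNilpotent
  by_contra hne
  have hlt : (D.PS.subgroupOf Q) < ⊤ := by
    rw [lt_top_iff_ne_top]
    intro h
    exact hne (le_antisymm (Subgroup.subgroupOf_eq_top.mp h) hle)
  obtain ⟨g, hgn, hg⟩ := SetLike.exists_of_lt (Group.normalizerCondition_of_isNilpotent _ hlt)
  rw [Subgroup.mem_subgroupOf] at hg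
  have hconj : ∀ y ∈ D.PS, (g : X) * y * (g : X)⁻¹ ∈ D.PS := by
    intro y hy
    have := (Subgroup.mem_normalizer_iff.mp hgn ⟨y, hle hy⟩).mp (Subgroup.mem_subgroupOf.mpr hy)
    simpa [Subgroup.mem_subgroupOf] using this
  have hM : D.M.map (MulAut.conj (g : X)).toMonoidHom = D.M := by
    refine D.M_unique h2 ?_ ?_ ?_
    · rintro _ ⟨y, hy, rfl⟩; exact hconj y (D.M_le_PS hy)
    · rintro _ ⟨a, ha, rfl⟩ _ ⟨b, hb, rfl⟩
      rw [← map_mul, ← map_mul]
      obtain ⟨a', rfl⟩ := ha
      obtain ⟨b', rfl⟩ := hb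
      rw [← D.mv_add, add_comm, D.mv_add]
    · rw [Subgroup.card_map_of_injective (MulAut.conj (g : X)).injective, D.card_M]
  obtain ⟨w, b, c, e⟩ := D.norm (g : X) fun w => by
    have : MulAut.conj (g : X) (D.mv w) ∈ D.M := hM ▸ Subgroup.mem_map_of_mem _ ⟨w, rfl⟩
    obtain ⟨w', hw'⟩ := this
    exact ⟨w', hw'.symm⟩
  obtain ⟨k, hk⟩ := hQ g
  have hc : c = 1 := D.t_eq_one e (k := k) (by
    rw [← Subgroup.coe_pow, hk]; rfl)
  refine hg ?_
  rw [e, hc]
  exact D.PS.mul_mem ⟨w, b, rfl⟩ hT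

end Std

section Sp

open Matrix

variable {F : Type u} [Field F]

local notation "SpF" => Matrix.symplecticGroup (Fin 2) F

/-- Membership in block form. -/
lemma mem_iff_blocks (A B C D : Matrix (Fin 2) (Fin 2) F) :
    fromBlocks A B C D ∈ SpF ↔
      B * Aᵀ = A * Bᵀ ∧ A * Dᵀ - B * Cᵀ = 1 ∧ C * Bᵀ - D * Aᵀ = -1 ∧ D * Cᵀ = C * Dᵀ := by
  rw [SymplecticGroup.mem_iff, fromBlocks_transpose, J, fromBlocks_multiply, fromBlocks_multiply,
    fromBlocks_inj]
  simp only [Matrix.mul_zero, zero_add, Matrix.mul_one, add_zero, Matrix.mul_neg, Matrix.neg_mul]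
  constructor
  · rintro ⟨h1, h2, h3, h4⟩
    refine ⟨?_, ?_, ?_, ?_⟩
    · exact sub_eq_zero.mp (by rw [← h1]; abel)
    · rw [← neg_neg (1 : Matrix (Fin 2) (Fin 2) F), ← h2]; abel
    · rw [← neg_inj, neg_neg, ← h3]; abel
    · exact sub_eq_zero.mp (by rw [← h4]; abel)
  · rintro ⟨h1, h2, h3, h4⟩
    refine ⟨?_, ?_, ?_, ?_⟩
    · rw [h1]; abel
    · rw [← h2]; abel
    · rw [← neg_neg (1 : Matrix (Fin 2) (Fin 2) F), ← h3]; abel
    · rw [h4]; abel

/-- The symmetric matrix of a triple. -/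
def sym (w : V F) : Matrix (Fin 2) (Fin 2) F := !![w.1, w.2.1; w.2.1, w.2.2]

lemma sym_add (a b : V F) : sym (a + b) = sym a + sym b := by
  ext i j; fin_cases i <;> fin_cases j <;> simp [sym]

lemma sym_transpose (w : V F) : (sym w)ᵀ = sym w := by
  ext i j; fin_cases i <;> fin_cases j <;> simp [sym]

lemma eq_sym {S : Matrix (Fin 2) (Fin 2) F} (h : Sᵀ = S) : S = sym (S 0 0, S 0 1, S 1 1) := by
  have h01 : S 1 0 = S 0 1 := by
    have := congrFun (congrFun h 0) 1; simpa using this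
  ext i j; fin_cases i <;> fin_cases j <;> simp [sym, h01]

/-- The Siegel element. -/
def siegel (w : V F) : SpF :=
  ⟨fromBlocks 1 (sym w) 0 1, (mem_iff_blocks _ _ _ _).mpr (by simp [sym_transpose])⟩

/-- The Levi matrix. -/
def leviA (b : F) (c : Fˣ) : Matrix (Fin 2) (Fin 2) F := !![1, b; 0, (c : F)]

/-- Its inverse transpose. -/
def leviD (b : F) (c : Fˣ) : Matrix (Fin 2) (Fin 2) F :=
  !![1, 0; -b * (c⁻¹ : Fˣ), ((c⁻¹ : Fˣ) : F)]

lemma levi_mul (b : F) (c : Fˣ) : leviA b c * (leviD b c)ᵀ = 1 := by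
  ext i j; fin_cases i <;> fin_cases j <;> simp [leviA, leviD, Matrix.mul_apply, Fin.sum_univ_two]

lemma levi_mul' (b : F) (c : Fˣ) : leviD b c * (leviA b c)ᵀ = 1 := by
  have := congrArg Matrix.transpose (levi_mul b c)
  rwa [transpose_mul, transpose_transpose, transpose_one] at this

/-- The Levi element. -/
def levi (b : F) (c : Fˣ) : SpF :=
  ⟨fromBlocks (leviA b c) 0 0 (leviD b c), (mem_iff_blocks _ _ _ _).mpr
    (by simp [levi_mul, levi_mul'])⟩

lemma siegel_val (w : V F) : (siegel w).1 = fromBlocks 1 (sym w) 0 1 := rfl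

lemma levi_val (b : F) (c : Fˣ) : (levi b c).1 = fromBlocks (leviA b c) 0 0 (leviD b c) := rfl

lemma siegel_add (a b : V F) : siegel (a + b) = siegel a * siegel b := by
  apply Subtype.ext
  rw [Submonoid.coe_mul, siegel_val, siegel_val, siegel_val, fromBlocks_multiply, sym_add]
  simp [add_comm]

lemma siegel_inj : Function.Injective (siegel (F := F)) := by
  intro a b h
  have h' := (fromBlocks_inj.mp (congrArg Subtype.val h)).2.1
  refine Prod.ext ?_ (Prod.ext ?_ ?_)
  · simpa [sym] using congrFun (congrFun h' 0) 0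
  · simpa [sym] using congrFun (congrFun h' 0) 1
  · simpa [sym] using congrFun (congrFun h' 1) 1

lemma levi_u_add (b c : F) : levi (b + c) 1 = levi b 1 * levi c 1 := by
  apply Subtype.ext
  rw [Submonoid.coe_mul, levi_val, levi_val, levi_val, fromBlocks_multiply]
  congr 1
  · ext i j; fin_cases i <;> fin_cases j <;> simp [leviA, Matrix.mul_apply, Fin.sum_univ_two, add_comm]
  · simp
  · simp
  · ext i j; fin_cases i <;> fin_cases j <;> simp [leviD, Matrix.mul_apply, Fin.sum_univ_two, add_comm]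

lemma levi_conj (b : F) (c : Fˣ) (w : V F) :
    levi b c * siegel w * (levi b c)⁻¹ = siegel (uA b (tA 1 (0, 0, 0)) + ((leviA b c * sym w * (leviA b c)ᵀ) 0 0,
      (leviA b c * sym w * (leviA b c)ᵀ) 0 1, (leviA b c * sym w * (leviA b c)ᵀ) 1 1)) := by
  rw [mul_inv_eq_iff_eq_mul]
  apply Subtype.ext
  rw [Submonoid.coe_mul, Submonoid.coe_mul, siegel_val, siegel_val, levi_val, fromBlocks_multiply,
    fromBlocks_multiply]
  have hz : uA b (tA 1 ((0, 0, 0) : V F)) = 0 := by
    rw [show ((0, 0, 0) : V F) = 0 from rfl, map_zero, map_zero]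
  rw [hz, zero_add, ← eq_sym (by rw [transpose_mul, transpose_mul, transpose_transpose, sym_transpose,
    Matrix.mul_assoc])]
  have h : (leviA b c)ᵀ * leviD b c = 1 := mul_eq_one_comm.mp (levi_mul' b c)
  simp only [Matrix.mul_one, Matrix.one_mul, Matrix.mul_zero, Matrix.zero_mul, add_zero, zero_add]
  rw [Matrix.mul_assoc, h, Matrix.mul_one]

/-- The centralisers of the Siegel radical. -/
lemma centralizes_siegel {g : SpF} (hg : ∀ w, g * siegel w = siegel w * g) :
    ∃ w, g = siegel w ∨ g.1 = -(siegel w).1 := by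
  obtain ⟨A, B, C, D, hG⟩ : ∃ A B C D, g.1 = fromBlocks A B C D :=
    ⟨_, _, _, _, (fromBlocks_toBlocks g.1).symm⟩
  have key : ∀ w, A = A + sym w * C ∧ A * sym w + B = B + sym w * D := by
    intro w
    have := congrArg Subtype.val (hg w)
    rw [Submonoid.coe_mul, Submonoid.coe_mul, siegel_val, hG, fromBlocks_multiply,
      fromBlocks_multiply, fromBlocks_inj] at this
    simp only [Matrix.mul_one, Matrix.one_mul, Matrix.mul_zero, Matrix.zero_mul, add_zero,
      zero_add] at this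
    exact ⟨this.1, this.2.1⟩
  have hone : sym ((1, 0, 1) : V F) = 1 := by
    ext i j; fin_cases i <;> fin_cases j <;> simp [sym]
  have hC : C = 0 := by
    have := (key (1, 0, 1)).1
    rw [hone, Matrix.one_mul] at this
    simpa using this
  have hAD : A = D := by
    have := (key (1, 0, 1)).2
    rw [hone, Matrix.one_mul, Matrix.mul_one, add_comm] at this
    exact add_left_cancel this
  have hs : ∀ w, A * sym w = sym w * A := fun w => by
    have := (key w).2
    rw [← hAD, add_comm B] at this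
    exact add_right_cancel this
  have e10 := hs (1, 0, 0)
  have e01 := hs (0, 1, 0)
  have a01 : A 0 1 = 0 := by
    have := congrFun (congrFun e10 0) 1
    simpa [sym, Matrix.mul_apply, Fin.sum_univ_two] using this.symm
  have a10 : A 1 0 = 0 := by
    have := congrFun (congrFun e10 1) 0
    simpa [sym, Matrix.mul_apply, Fin.sum_univ_two] using this
  have a11 : A 1 1 = A 0 0 := by
    have := congrFun (congrFun e01 0) 1
    simpa [sym, Matrix.mul_apply, Fin.sum_univ_two] using this.symm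
  have hA : A = A 0 0 • (1 : Matrix (Fin 2) (Fin 2) F) := by
    ext i j; fin_cases i <;> fin_cases j <;> simp [a01, a10, a11]
  obtain ⟨h1, h2, -, -⟩ := (mem_iff_blocks A B C D).mp (hG ▸ g.2)
  rw [hC, transpose_zero, Matrix.mul_zero, sub_zero, ← hAD] at h2
  have hμ : A 0 0 * A 0 0 = 1 := by
    have := congrFun (congrFun h2 0) 0
    simpa [Matrix.mul_apply, Fin.sum_univ_two, a01] using this
  rcases mul_self_eq_one_iff.mp hμ with h | h
  · rw [h, one_smul] at hA
    rw [hA, transpose_one, Matrix.mul_one, Matrix.one_mul] at h1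
    refine ⟨(B 0 0, B 0 1, B 1 1), Or.inl (Subtype.ext ?_)⟩
    rw [hG, siegel_val, ← eq_sym h1.symm, ← hAD, hA, hC]
  · rw [h, neg_one_smul] at hA
    rw [hA, transpose_neg, transpose_one, Matrix.mul_neg, Matrix.mul_one, Matrix.neg_mul,
      Matrix.one_mul, neg_inj] at h1
    refine ⟨((-B) 0 0, (-B) 0 1, (-B) 1 1), Or.inr ?_⟩
    rw [hG, siegel_val, ← eq_sym (by rw [transpose_neg, ← h1]), fromBlocks_neg, ← hAD, hA, hC,
      neg_zero, neg_neg]

variable (F) in
/-- The stabiliser of the first basis vector. -/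
def stab1 : Subgroup SpF where
  carrier := {g | ∀ i, g.1 i (Sum.inl 0) = if i = Sum.inl 0 then 1 else 0}
  one_mem' i := by simp [Matrix.one_apply]
  mul_mem' {g h} hg hh i := by
    rw [Submonoid.coe_mul, Matrix.mul_apply, Finset.sum_eq_single (Sum.inl 0)]
    · rw [hg i, hh, if_pos rfl, mul_one]
    · intro k _ hk; rw [hh k, if_neg hk, mul_zero]
    · simp
  inv_mem' {g} hg i := by
    have h := congrFun (congrFun (congrArg Subtype.val (inv_mul_cancel g)) i) (Sum.inl 0)
    rw [Submonoid.coe_mul, Matrix.mul_apply, Finset.sum_eq_single (Sum.inl 0)] at h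
    · rw [hg, if_pos rfl, mul_one] at h
      rw [h]; simp [Matrix.one_apply]
    · intro k _ hk; rw [hg k, if_neg hk, mul_zero]
    · simp

lemma mem_stab1_blocks {g : SpF} {A B C D : Matrix (Fin 2) (Fin 2) F}
    (hG : g.1 = fromBlocks A B C D) :
    g ∈ stab1 F ↔ A 0 0 = 1 ∧ A 1 0 = 0 ∧ C 0 0 = 0 ∧ C 1 0 = 0 := by
  show (∀ i, g.1 i (Sum.inl 0) = _) ↔ _
  rw [hG, Sum.forall, Fin.forall_fin_two, Fin.forall_fin_two]
  simp [and_assoc]

lemma siegel_mem (w : V F) : siegel w ∈ stab1 F :=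
  (mem_stab1_blocks (siegel_val w)).mpr (by simp)

lemma levi_mem (b : F) (c : Fˣ) : levi b c ∈ stab1 F :=
  (mem_stab1_blocks (levi_val b c)).mpr (by simp [leviA])

/-- The root matrix. -/
def eRoot (F : Type u) [Field F] : Matrix (Fin 2 ⊕ Fin 2) (Fin 2 ⊕ Fin 2) F :=
  fromBlocks 0 (sym ((1, 0, 0) : V F)) 0 0

lemma siegel_root (z : F) : (siegel ((z, 0, 0) : V F)).1 = 1 + z • eRoot F := by
  rw [siegel_val, eRoot, fromBlocks_smul, ← fromBlocks_one, fromBlocks_add]
  congr 1 <;> simp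
  ext i j; fin_cases i <;> fin_cases j <;> simp [sym]

lemma row_of_mem {g : SpF} (hg : g ∈ stab1 F) (j : Fin 2 ⊕ Fin 2) :
    g.1 (Sum.inr 0) j = if j = Sum.inr 0 then 1 else 0 := by
  obtain ⟨A, B, C, D, hG⟩ : ∃ A B C D, g.1 = fromBlocks A B C D :=
    ⟨_, _, _, _, (fromBlocks_toBlocks g.1).symm⟩
  obtain ⟨a, b, c, d⟩ := (mem_stab1_blocks hG).mp hg
  have ht : fromBlocks Aᵀ Cᵀ Bᵀ Dᵀ ∈ SpF := by
    have := SymplecticGroup.transpose_mem (A := g.1) g.2
    rwa [hG, fromBlocks_transpose] at this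
  obtain ⟨k1, k2, -, -⟩ := (mem_iff_blocks _ _ _ _).mp ht
  simp only [transpose_transpose] at k1 k2
  have x00 := congrFun (congrFun k2 0) 0
  have x01 := congrFun (congrFun k2 0) 1
  simp [Matrix.mul_apply, Fin.sum_univ_two, a, b, c, d] at x00 x01
  have y01 := congrFun (congrFun k1 0) 1
  simp [Matrix.mul_apply, Fin.sum_univ_two, a, b, c, d] at y01
  rw [hG]
  rcases j with j | j <;> fin_cases j <;> simp [x00, x01, c, y01]

lemma mul_eRoot (M : Matrix (Fin 2 ⊕ Fin 2) (Fin 2 ⊕ Fin 2) F) (i j : Fin 2 ⊕ Fin 2) :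
    (M * eRoot F) i j = if j = Sum.inr 0 then M i (Sum.inl 0) else 0 := by
  rw [Matrix.mul_apply, Fintype.sum_sum_type]
  rcases j with j | j <;> fin_cases j <;> simp [eRoot, sym, Fin.sum_univ_two]

lemma eRoot_mul (M : Matrix (Fin 2 ⊕ Fin 2) (Fin 2 ⊕ Fin 2) F) (i j : Fin 2 ⊕ Fin 2) :
    (eRoot F * M) i j = if i = Sum.inl 0 then M (Sum.inr 0) j else 0 := by
  rw [Matrix.mul_apply, Fintype.sum_sum_type]
  rcases i with i | i <;> fin_cases i <;> simp [eRoot, sym, Fin.sum_univ_two]

lemma comm_root {g : SpF} (hg : g ∈ stab1 F) (z : F) :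
    siegel ((z, 0, 0) : V F) * g = g * siegel ((z, 0, 0) : V F) := by
  apply Subtype.ext
  have e : eRoot F * g.1 = g.1 * eRoot F := by
    ext i j
    rw [eRoot_mul, mul_eRoot, row_of_mem hg, hg i]
    split_ifs <;> rfl
  rw [Submonoid.coe_mul, Submonoid.coe_mul, siegel_root, add_mul, mul_add, one_mul, mul_one,
    smul_mul_assoc, e, mul_smul_comm]

/-- The stabiliser as a `Std`. -/
def stdStab (h2 : (2 : F) ≠ 0) : Std F (stab1 F) where
  mv w := ⟨siegel w, siegel_mem w⟩
  mv_add a b := Subtype.ext (siegel_add a b)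
  mv_inj a b h := siegel_inj (congrArg Subtype.val h)
  u b := ⟨levi b 1, levi_mem b 1⟩
  u_add b c := Subtype.ext (levi_u_add b c)
  t c := ⟨levi 0 c, levi_mem 0 c⟩
  conj_u b w := Subtype.ext (by
    show levi b 1 * siegel w * (levi b 1)⁻¹ = siegel (uA b w)
    rw [levi_conj]
    congr 1
    refine Prod.ext ?_ (Prod.ext ?_ ?_) <;>
      simp [leviA, sym, Matrix.mul_apply, Fin.sum_univ_two] <;> ring)
  conj_t c w := Subtype.ext (by
    show levi 0 c * siegel w * (levi 0 c)⁻¹ = siegel (tA c w)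
    rw [levi_conj]
    congr 1
    refine Prod.ext ?_ (Prod.ext ?_ ?_) <;>
      simp [leviA, sym, Matrix.mul_apply, Fin.sum_univ_two] <;> ring)
  center_iff g := by
    constructor
    · intro h
      obtain ⟨w, hw⟩ := centralizes_siegel (g := g.1) fun w =>
        congrArg Subtype.val (h ⟨siegel w, siegel_mem w⟩)
      have hg : g.1 = siegel w := by
        refine hw.resolve_right fun e => ?_
        have := g.2 (Sum.inl 0)
        rw [e, siegel_val] at this
        simp at this
        exact h2 (by linear_combination -this)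
      have hu := congrArg Subtype.val (h ⟨levi 1 1, levi_mem 1 1⟩)
      simp only [Subgroup.coe_mul, hg] at hu
      have hfix : uA 1 w = w := siegel_inj (by
        have hc : levi 1 1 * siegel w * (levi 1 1)⁻¹ = siegel (uA 1 w) := by
          rw [levi_conj]
          congr 1
          refine Prod.ext ?_ (Prod.ext ?_ ?_) <;>
            simp [leviA, sym, Matrix.mul_apply, Fin.sum_univ_two] <;> ring
        rw [← hc, ← hu, mul_inv_cancel_right])
      have a1 := congrArg (fun y : V F => y.2.1) hfix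
      have a0 := congrArg (fun y : V F => y.1) hfix
      simp at a1
      simp [a1] at a0
      have ha : w.2.1 = 0 := a0.resolve_left h2
      exact ⟨w.1, Subtype.ext (hg.trans (by congr 1; exact Prod.ext rfl (Prod.ext ha a1)))⟩
    · rintro ⟨z, rfl⟩ y
      exact Subtype.ext (comm_root y.2 z)
  norm g h := by
    obtain ⟨A, B, C, D, hG⟩ : ∃ A B C D, g.1.1 = fromBlocks A B C D :=
      ⟨_, _, _, _, (fromBlocks_toBlocks g.1.1).symm⟩
    obtain ⟨a, b, -, -⟩ := (mem_stab1_blocks hG).mp g.2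
    have hC : C = 0 := by
      obtain ⟨w', hw⟩ := h (1, 0, 1)
      have := congrArg (fun y : stab1 F => (y : SpF).1) (mul_inv_eq_iff_eq_mul.mp hw)
      simp only [Subgroup.coe_mul, Submonoid.coe_mul, siegel_val, hG, fromBlocks_multiply,
        fromBlocks_inj, Matrix.mul_one, Matrix.one_mul, Matrix.mul_zero, Matrix.zero_mul, add_zero,
        zero_add] at this
      have hone : sym ((1, 0, 1) : V F) = 1 := by
        ext i j; fin_cases i <;> fin_cases j <;> simp [sym]
      have h4 := this.2.2.2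
      rw [hone, Matrix.mul_one] at h4
      exact add_eq_right.mp h4
    obtain ⟨h1, h2', h3, -⟩ := (mem_iff_blocks A B C D).mp (hG ▸ g.1.2)
    rw [hC, transpose_zero, Matrix.mul_zero, sub_zero] at h2'
    have hc0 : A 1 1 ≠ 0 := by
      intro e
      have := congrFun (congrFun h2' 1) 1
      simp [Matrix.mul_apply, Fin.sum_univ_two, b, e] at this
    set c : Fˣ := Units.mk0 (A 1 1) hc0 with hc
    have hA : A = leviA (A 0 1) c := by
      ext i j; fin_cases i <;> fin_cases j <;> simp [leviA, hc, a, b]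
    have hD : D = leviD (A 0 1) c := by
      have e1 : A * Dᵀ = A * (leviD (A 0 1) c)ᵀ := by
        rw [h2', ← levi_mul (A 0 1) c, ← hA]
      have e2 : Dᵀ * A = 1 := mul_eq_one_comm.mp h2'
      have := congrArg (Dᵀ * ·) e1
      simp only [← Matrix.mul_assoc, e2, Matrix.one_mul] at this
      exact Matrix.transpose_injective this
    set S := B * Aᵀ
    have hS : Sᵀ = S := by rw [transpose_mul, transpose_transpose]; exact h1.symm
    refine ⟨(S 0 0, S 0 1, S 1 1), A 0 1 / c, c, Subtype.ext (Subtype.ext ?_)⟩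
    simp only [Subgroup.coe_mul, Submonoid.coe_mul, siegel_val, levi_val, ← eq_sym hS,
      fromBlocks_multiply, Matrix.one_mul, Matrix.mul_one, Matrix.mul_zero, Matrix.zero_mul,
      add_zero, zero_add, hG, hC]
    have hAA : leviA (A 0 1 / (c : F)) 1 * leviA 0 c = A := by
      conv_rhs => rw [hA]
      ext i j; fin_cases i <;> fin_cases j <;> simp [leviA, Matrix.mul_apply, Fin.sum_univ_two]
    have hDD : leviD (A 0 1 / (c : F)) 1 * leviD 0 c = D := by
      rw [hD]
      ext i j; fin_cases i <;> fin_cases j <;> simp [leviD, Matrix.mul_apply, Fin.sum_univ_two]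
      field_simp
    congr 1
    · exact hAA.symm
    · rw [Matrix.mul_assoc, hDD]
      have : Aᵀ * D = 1 := by
        have := congrArg Matrix.transpose (mul_eq_one_comm.mp h2')
        rwa [transpose_mul, transpose_transpose, transpose_one] at this
      rw [Matrix.mul_assoc, this, Matrix.mul_one]
    · exact hDD.symm

end Sp

end Cfsg.Agent.SympM42
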