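import Cfsg.Agent.Lib.SympM42Model

/-!
The centraliser in `PSp(4, F)` of an element of order `p` central in a Sylow `p`-subgroup is the
stabiliser of a vector in `Sp(4, F)`.
-/

set_option autoImplicit false

namespace Cfsg.Agent.SympM42

universe u

open Matrix

variable {F : Type u} [Field F]

local notation "SpF" => Matrix.symplecticGroup (Fin 2) F

lemma center_cases {g : SpF} (hg : g ∈ Subgroup.center SpF) :
    g.1 = 1 ∨ g.1 = -1 := by
  obtain ⟨w, hw⟩ := centralizes_siegel (g := g) fun w => (Subgroup.mem_center_iff.mp hg (siegel w)).symm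
  have hw0 : w = 0 := by
    have hJ : Matrix.J (Fin 2) F ∈ SpF := SymplecticGroup.J_mem _ _
    have e := congrArg Subtype.val (Subgroup.mem_center_iff.mp hg ⟨_, hJ⟩)
    rw [Submonoid.coe_mul, Submonoid.coe_mul] at e
    have e' : Matrix.J (Fin 2) F * (siegel w).1 = (siegel w).1 * Matrix.J (Fin 2) F := by
      rcases hw with h | h
      · rw [← h]; exact e
      · rw [h, Matrix.mul_neg, Matrix.neg_mul, neg_inj] at e; exact e
    rw [siegel_val, J, fromBlocks_multiply, fromBlocks_multiply, fromBlocks_inj] at e'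
    have h0 : sym w = 0 := by simpa using e'.1.symm
    refine Prod.ext ?_ (Prod.ext ?_ ?_)
    · simpa [sym] using congrFun (congrFun h0 0) 0
    · simpa [sym] using congrFun (congrFun h0 0) 1
    · simpa [sym] using congrFun (congrFun h0 1) 1
  have hs : (siegel (0 : V F)).1 = 1 := by
    rw [siegel_val, show sym (0 : V F) = 0 by ext i j; fin_cases i <;> fin_cases j <;> simp [sym],
      fromBlocks_one]
  subst hw0
  rcases hw with h | h
  · exact Or.inl (by rw [h, hs])
  · exact Or.inr (by rw [h, hs])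

/-- The negative of a symplectic matrix. -/
def negSp (g : SpF) : SpF := ⟨-g.1, SymplecticGroup.neg_mem g.2⟩

lemma mk_neg (g : SpF) :
    (QuotientGroup.mk' (Subgroup.center SpF) (negSp g) : SpF ⧸ Subgroup.center SpF) =
      QuotientGroup.mk' (Subgroup.center SpF) g := by
  refine (QuotientGroup.mk'_eq_mk' _).mpr ⟨negSp 1, ?_, Subtype.ext (by simp [negSp])⟩
  refine Subgroup.mem_center_iff.mpr fun y => Subtype.ext (by simp [negSp])

lemma mk_eq_cases {g h : SpF}
    (e : QuotientGroup.mk' (Subgroup.center SpF) g = QuotientGroup.mk' (Subgroup.center SpF) h) :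
    g.1 = h.1 ∨ g.1 = -h.1 := by
  obtain ⟨c, hc, rfl⟩ := (QuotientGroup.mk'_eq_mk' _).mp e
  rcases center_cases hc with h | h <;> simp [h]

/-- A commutation up to sign with a matrix of odd order is a commutation. -/
lemma comm_of_mk {p : ℕ} (hp : Odd p) (h2 : (2 : F) ≠ 0) {g m : SpF} (hm : m ^ p = 1)
    (e : QuotientGroup.mk' (Subgroup.center SpF) (g * m * g⁻¹) =
      QuotientGroup.mk' (Subgroup.center SpF) m) : g * m = m * g := by
  rcases mk_eq_cases e with h | h
  · exact mul_inv_eq_iff_eq_mul.mp (Subtype.ext h)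
  · exfalso
    have h1 : (g * m * g⁻¹) ^ p = 1 := by rw [conj_pow, hm]; group
    have h1' := congrArg Subtype.val h1
    rw [SubmonoidClass.coe_pow, h, hp.neg_pow, ← SubmonoidClass.coe_pow, hm] at h1'
    have := congrFun (congrFun h1' (Sum.inl 0)) (Sum.inl 0)
    simp at this
    exact h2 (by linear_combination -this)

lemma siegel_pow {p : ℕ} [CharP F p] (w : V F) : siegel w ^ p = 1 := by
  have h : ∀ k : ℕ, siegel w ^ k = siegel (k • w) := by
    intro k
    induction k with
    | zero =>
      rw [pow_zero, zero_nsmul]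
      apply Subtype.ext
      rw [siegel_val, show sym (0 : V F) = 0 by ext i j; fin_cases i <;> fin_cases j <;> simp [sym],
        fromBlocks_one]
      rfl
    | succ k ih => rw [pow_succ, ih, succ_nsmul, siegel_add]
  rw [h, show p • w = 0 • w from Prod.ext (by simp) (Prod.ext (by simp) (by simp)), ← h 0, pow_zero]

theorem stab1_equiv_centralizer [Fintype F] {p n : ℕ} [Fact p.Prime] [CharP F p] (hp : p ≠ 2)
    (hF : Fintype.card F = p ^ n) (x : Cfsg.PSp 2 F) (hx : orderOf x = p)
    (Px : Sylow p (Cfsg.PSp 2 F)) (hxP : x ∈ (Px : Subgroup (Cfsg.PSp 2 F)))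
    (hxc : ∀ y ∈ (Px : Subgroup (Cfsg.PSp 2 F)), y * x = x * y) :
    Nonempty (stab1 F ≃* Subgroup.centralizer ({x} : Set (Cfsg.PSp 2 F))) := by
  classical
  have hpp : p.Prime := Fact.out
  have hodd : Odd p := hpp.odd_of_ne_two hp
  have h2 : (2 : F) ≠ 0 := Ring.two_ne_zero (by rwa [← ringChar.eq F p] at hp)
  set π := QuotientGroup.mk' (Subgroup.center SpF) with hπ
  set D := stdStab h2
  have hinj : Function.Injective fun g : stab1 F => π g := by
    intro g h e
    rcases mk_eq_cases e with e' | e'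
    · exact Subtype.ext (Subtype.ext e')
    · exfalso
      have a := congrFun (congrFun e' (Sum.inl 0)) (Sum.inl 0)
      rw [Matrix.neg_apply, g.2, h.2, if_pos rfl] at a
      exact h2 (by linear_combination a)
  set f : stab1 F →* Cfsg.PSp 2 F := π.comp (stab1 F).subtype with hf
  have hPS : IsPGroup p (D.PS.map f) := by
    have : IsPGroup p D.PS := IsPGroup.of_card (n := n * 4) (by
      rw [D.card_PS, Nat.card_eq_fintype_card, hF, pow_mul])
    exact this.map f
  obtain ⟨Q, hQ⟩ := hPS.exists_le_sylow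
  obtain ⟨r, hr⟩ := MulAction.exists_smul_eq (Cfsg.PSp 2 F) Px Q
  set x'' := r * x * r⁻¹ with hx''
  have hQc : ∀ y ∈ (Q : Subgroup (Cfsg.PSp 2 F)), y * x'' = x'' * y := by
    intro y hy
    rw [← hr, Sylow.coe_subgroup_smul, Subgroup.mem_pointwise_smul_iff_inv_smul_mem] at hy
    have h := hxc _ hy
    rw [← map_inv, MulAut.smul_def, MulAut.conj_apply, inv_inv] at h
    rw [hx'']
    calc y * (r * x * r⁻¹) = r * ((r⁻¹ * y * r) * x) * r⁻¹ := by group
      _ = r * x * r⁻¹ * y := by rw [h]; group
  obtain ⟨g, hg⟩ := QuotientGroup.mk'_surjective (Subgroup.center SpF) x''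
  have hgm : ∀ w, g * siegel w = siegel w * g := by
    intro w
    have hmem : π (siegel w) ∈ (Q : Subgroup (Cfsg.PSp 2 F)) :=
      hQ ⟨⟨siegel w, siegel_mem w⟩, D.M_le_PS ⟨w, rfl⟩, rfl⟩
    refine comm_of_mk hodd h2 (siegel_pow w) ?_
    rw [map_mul, map_mul, map_inv, hg, ← hQc _ hmem, mul_inv_cancel_right]
  obtain ⟨w, hw⟩ := centralizes_siegel hgm
  have hxw : x'' = π (siegel w) := by
    rw [← hg]
    rcases hw with h | h
    · rw [show g = siegel w from h]
    · rw [show g = negSp (siegel w) from Subtype.ext h]; exact mk_neg _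
  have hu : levi 1 1 * siegel w = siegel w * levi 1 1 := by
    have hmem : π (levi 1 1) ∈ (Q : Subgroup (Cfsg.PSp 2 F)) :=
      hQ ⟨D.u 1, ⟨0, 1, by rw [D.mv_zero, one_mul]⟩, rfl⟩
    refine comm_of_mk hodd h2 (siegel_pow w) ?_
    rw [map_mul, map_mul, map_inv, ← hxw, hQc _ hmem, mul_inv_cancel_right]
  have hfix : uA (1 : F) w = w := by
    have h := D.conj_u 1 w
    have h' : D.u 1 * D.mv w * (D.u 1)⁻¹ = D.mv w := by
      rw [mul_inv_eq_iff_eq_mul]; exact Subtype.ext hu
    exact D.mv_inj (h.symm.trans h')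
  have hw0 : w = (w.1, 0, 0) := by
    have a1 := congrArg (fun y : V F => y.2.1) hfix
    have a0 := congrArg (fun y : V F => y.1) hfix
    simp at a1
    simp [a1] at a0
    exact Prod.ext rfl (Prod.ext (a0.resolve_left h2) a1)
  set z := w.1 with hz
  have hz0 : z ≠ 0 := by
    intro e
    have : w = 0 := by rw [hw0, e]; rfl
    have hx1 : x'' = 1 := by
      rw [hxw, this, show (0 : V F) = 0 • (0 : V F) from (zero_nsmul _).symm]
      have : siegel ((0 • (0 : V F)) : V F) = 1 := by
        have := congrArg Subtype.val D.mv_zero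
        simpa [D, stdStab] using this
      rw [this, map_one]
    rw [hx'', conj_eq_one_iff] at hx1
    rw [hx1, orderOf_one] at hx
    exact hpp.one_lt.ne hx
  -- the isomorphism onto the centraliser of `x''`
  rw [hw0] at hxw
  have hle : ∀ h : stab1 F, f h ∈ Subgroup.centralizer ({x''} : Set (Cfsg.PSp 2 F)) := fun h =>
    Subgroup.mem_centralizer_iff.mpr fun y hy => by
      rw [Set.mem_singleton_iff.mp hy, hxw, hf, MonoidHom.comp_apply, ← map_mul, ← map_mul]
      exact congrArg π (comm_root h.2 z)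
  have hsurj : ∀ y ∈ Subgroup.centralizer ({x''} : Set (Cfsg.PSp 2 F)), ∃ h : stab1 F, f h = y := by
    intro y hy
    obtain ⟨k, rfl⟩ := QuotientGroup.mk'_surjective (Subgroup.center SpF) y
    have hk : k * siegel (z, 0, 0) = siegel (z, 0, 0) * k := by
      refine comm_of_mk hodd h2 (siegel_pow _) ?_
      have := Subgroup.mem_centralizer_iff.mp hy x'' rfl
      rw [map_mul, map_mul, map_inv, ← hxw, ← this, mul_inv_cancel_right]
    have hE : eRoot F * k.1 = k.1 * eRoot F := by
      have := congrArg Subtype.val hk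
      rw [Submonoid.coe_mul, Submonoid.coe_mul, siegel_root, add_mul, mul_add, one_mul, mul_one,
        smul_mul_assoc, mul_smul_comm] at this
      exact (smul_right_injective _ hz0) (add_left_cancel this).symm
    have hcol : ∀ i, k.1 i (Sum.inl 0) = if i = Sum.inl 0 then k.1 (Sum.inr 0) (Sum.inr 0) else 0 := by
      intro i
      have := congrFun (congrFun hE i) (Sum.inr 0)
      rw [eRoot_mul, mul_eRoot, if_pos rfl] at this
      exact this.symm
    have hrow : ∀ j, k.1 (Sum.inr 0) j = if j = Sum.inr 0 then k.1 (Sum.inl 0) (Sum.inl 0) else 0 := by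
      intro j
      have := congrFun (congrFun hE (Sum.inl 0)) j
      rw [eRoot_mul, mul_eRoot, if_pos rfl] at this
      exact this
    set μ := k.1 (Sum.inl 0) (Sum.inl 0) with hμ
    have hμ' : k.1 (Sum.inr 0) (Sum.inr 0) = μ := by rw [hrow, if_pos rfl]
    have hsq : μ * μ = 1 := by
      have hT := SymplecticGroup.mem_iff.mp (SymplecticGroup.transpose_mem k.2)
      rw [transpose_transpose] at hT
      have := congrFun (congrFun hT (Sum.inl 0)) (Sum.inr 0)
      simp only [Matrix.mul_apply, Matrix.transpose_apply] at this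
      simp [Fintype.sum_sum_type, J, Fin.sum_univ_two, hcol] at this
      rw [hμ'] at this
      linear_combination this
    rcases mul_self_eq_one_iff.mp hsq with h1 | h1
    · exact ⟨⟨k, fun i => by rw [hcol i, hμ', h1]⟩, rfl⟩
    · refine ⟨⟨negSp k, fun i => ?_⟩, mk_neg k⟩
      show -(k.1 i (Sum.inl 0)) = _
      rw [hcol i, hμ', h1]; split_ifs <;> simp
  let e1 : stab1 F →* Subgroup.centralizer ({x''} : Set (Cfsg.PSp 2 F)) := f.codRestrict _ hle
  have hb : Function.Bijective e1 := by
    refine ⟨fun a b e => hinj (congrArg Subtype.val e), fun y => ?_⟩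
    obtain ⟨h, hh⟩ := hsurj y.1 y.2
    exact ⟨h, Subtype.ext hh⟩
  let c1 : Subgroup.centralizer ({x} : Set (Cfsg.PSp 2 F)) →* Subgroup.centralizer ({x''} : Set (Cfsg.PSp 2 F)) :=
    ((MulAut.conj r).toMonoidHom.comp (Subgroup.subtype _)).codRestrict _ fun y =>
      Subgroup.mem_centralizer_iff.mpr fun v hv => by
        rw [Set.mem_singleton_iff.mp hv, hx'']
        have := Subgroup.mem_centralizer_iff.mp y.2 x rfl
        simp only [MonoidHom.comp_apply, Subgroup.coe_subtype, MulEquiv.coe_toMonoidHom, MulAut.conj_apply]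
        calc r * x * r⁻¹ * (r * y * r⁻¹) = r * (x * y) * r⁻¹ := by group
          _ = _ := by rw [this]; group
  have hc1 : Function.Bijective c1 := by
    refine ⟨fun a b e => Subtype.ext ((MulAut.conj r).injective (congrArg Subtype.val e)), fun y => ?_⟩
    refine ⟨⟨r⁻¹ * y.1 * r, Subgroup.mem_centralizer_iff.mpr fun v hv => ?_⟩, Subtype.ext ?_⟩
    · rw [Set.mem_singleton_iff.mp hv]
      have := Subgroup.mem_centralizer_iff.mp y.2 x'' rfl
      change r * x * r⁻¹ * (y : Cfsg.PSp 2 F) = (y : Cfsg.PSp 2 F) * (r * x * r⁻¹) at this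
      calc x * (r⁻¹ * y.1 * r) = r⁻¹ * (r * x * r⁻¹ * y.1) * r := by group
        _ = _ := by rw [this]; group
    · simp [c1, mul_assoc]
  exact ⟨(MulEquiv.ofBijective e1 hb).trans (MulEquiv.ofBijective c1 hc1).symm⟩

end Cfsg.Agent.SympM42
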