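import Cfsg.Agent.Lib.SympM42Count

/-!
In the situation of `Geom` exactly two translates of the first axis lie in the plane `a = 0`.
-/

set_option autoImplicit false

namespace Cfsg.Agent.SympM42

universe u

open scoped Pointwise

variable {F : Type u} [Field F] [Finite F] {Γ : Subgroup (Au F)}

/-- A prime order permutation of a finite set fixes a point if the size is prime to it. -/
theorem exists_fixed_of_pow {α : Type*} (S : Set α) (hS : S.Finite) (σ : Equiv.Perm α) {p : ℕ}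
    [Fact p.Prime] (hσ : σ ^ p = 1) (hmap : ∀ x, x ∈ S ↔ σ x ∈ S) :
    (¬ p ∣ S.ncard → ∃ x ∈ S, σ x = x) ∧
      (∀ a ∈ S, σ a = a → p ∣ S.ncard → ∃ x ∈ S, σ x = x ∧ x ≠ a) := by
  classical
  haveI := hS.fintype
  set π : Equiv.Perm S := σ.subtypePerm (fun x => (hmap x).symm) with hπ
  have hpow : π ^ p ^ 1 = 1 := by
    rw [pow_one, hπ, Equiv.Perm.subtypePerm_pow]
    exact Equiv.ext fun x => Subtype.ext (by simp [hσ])
  have hc : S.ncard = Fintype.card S := by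
    rw [← Nat.card_coe_set_eq, Nat.card_eq_fintype_card]
  constructor
  · intro h
    obtain ⟨x, hx⟩ := Equiv.Perm.exists_fixed_point_of_prime (σ := π) (hc ▸ h) hpow
    exact ⟨x, x.2, congrArg Subtype.val hx⟩
  · intro a ha hfix h
    obtain ⟨x, hx, hne⟩ := Equiv.Perm.exists_fixed_point_of_prime' (σ := π) (hc ▸ h) hpow
      (a := ⟨a, ha⟩) (Subtype.ext hfix)
    exact ⟨x, x.2, congrArg Subtype.val hx, fun e => hne (Subtype.ext e)⟩

theorem arith {q h m e r : ℕ} (hq : q = 2 * h + 1) (hh : Odd h) (he : e ≤ 1) (hm : m = 1 + e + h * r)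
    (hdvd : m ∣ q * (q - 1)) (h1 : m ≠ 1) (hle : m ≤ q + 1) : m = 2 ∨ m = q := by
  subst hq
  have hh0 : 0 < h := hh.pos
  have hr : r ≤ 3 := by
    by_contra hr
    have : h * 4 ≤ h * r := Nat.mul_le_mul_left h (by omega)
    omega
  rcases Nat.lt_or_ge h 2 with hlt | hge
  · obtain rfl : h = 1 := by omega
    have : m ≤ 4 := hle
    interval_cases m <;> first | omega | norm_num at hdvd
  have hr2 : r ≤ 2 := by
    by_contra hr'
    have : r = 3 := by omega
    subst this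
    omega
  have key : ∀ k c d : ℕ, k ∣ (2 * h + 1) * (2 * h) → (2 * h + 1) * (2 * h) = k * c + d → k ∣ d :=
    fun k c d hk e => (Nat.dvd_add_iff_right (dvd_mul_right k c)).mpr (e ▸ hk)
  obtain ⟨h', rfl⟩ := Nat.exists_eq_add_of_le hge
  have e2 : 2 * (2 + h') + 1 - 1 = 2 * (2 + h') := by omega
  rw [e2] at hdvd
  interval_cases r <;> interval_cases e
  · omega
  · left; omega
  · exfalso
    have hk : m = h' + 3 := by omega
    subst hk
    have := key (h' + 3) (4 * h' + 6) 2 hdvd (by ring)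
    have := Nat.le_of_dvd (by norm_num) this
    omega
  · exfalso
    have hk : m = h' + 4 := by omega
    subst hk
    have := key (h' + 4) (4 * h' + 2) 12 hdvd (by ring)
    have h12 := Nat.le_of_dvd (by norm_num) this
    obtain ⟨k, hk⟩ := hh
    have h8 : h' ≤ 8 := by omega
    interval_cases h' <;> omega
  · right; omega
  · exfalso
    have hk : m = 2 * h' + 6 := by omega
    subst hk
    have := key (2 * h' + 6) (2 * h' + 3) 2 hdvd (by ring)
    have := Nat.le_of_dvd (by norm_num) this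
    omega

omit [Finite F] in
lemma jA_uA (H : Geom F Γ) (b : F) : H.jA * uA b = uA (-b) * H.jA := by
  refine LinearEquiv.ext fun v => Prod.ext ?_ (Prod.ext ?_ ?_) <;> simp [H.j_apply] <;> ring

/-- The diagonal transformations form a homomorphism. -/
def tHom (F : Type u) [Field F] : Fˣ →* Au F where
  toFun := tA
  map_one' := tA_one
  map_mul' c d := (tA_mul c d).symm

namespace Geom

variable (H : Geom F Γ)
include H

lemma exists_centralizing {X : Set (V F)} (hX : X ∈ H.Fix') :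
    ∃ g ∈ Γ, g * H.jA = H.jA * g ∧ pt g = X := by
  obtain ⟨⟨f, hf, rfl⟩, hW⟩ := hX
  obtain ⟨c, hc⟩ := (H.Inv'_fix_Z0 (τ := f⁻¹ * H.jA * f)).mp
    ⟨⟨f⁻¹, Γ.inv_mem hf, by rw [inv_inv]⟩, fun v hv => by
      rw [mul_apply', mul_apply', H.j_fix_iff.mpr (hW ⟨v, hv, rfl⟩), inv_apply_self']⟩
  refine ⟨f * uA c, Γ.mul_mem hf (H.u_mem c), ?_, ?_⟩
  · calc f * uA c * H.jA = f * (uA c * H.jA * (uA c)⁻¹) * uA c := by group
      _ = H.jA * (f * uA c) := by rw [hc]; group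
  · rw [pt_mul, pt, uA_Z0]; rfl

/-- The centraliser of the central involution. -/
def Cj (_ : Geom F Γ) (j : Au F) : Subgroup (Au F) := Γ ⊓ Subgroup.centralizer {j}

lemma Fix_dvd : Nat.card H.Fix' ∣ Nat.card (H.Cj H.jA) := by
  have e : MulAction.orbit (H.Cj H.jA) (Z0 F) = H.Fix' := by
    ext X
    constructor
    · rintro ⟨⟨g, hg, hgj⟩, rfl⟩
      refine ⟨⟨g, hg, rfl⟩, ?_⟩
      rintro _ ⟨v, hv, rfl⟩
      refine H.j_fix_iff.mp ?_
      have hc : H.jA * g = g * H.jA := Subgroup.mem_centralizer_iff.mp hgj _ rfl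
      show (H.jA * g) v = g v
      rw [hc, mul_apply', H.j_fix_iff.mpr hv.1]
    · intro hX
      obtain ⟨g, hg, hgj, rfl⟩ := H.exists_centralizing hX
      exact ⟨⟨g, hg, Subgroup.mem_centralizer_iff.mpr fun y hy => by
        rw [Set.mem_singleton_iff] at hy; subst hy; exact hgj.symm⟩, rfl⟩
  rw [← e, Nat.card_coe_set_eq, ← MulAction.index_stabilizer]
  exact Subgroup.index_dvd_card _

lemma fixed_by_uA {X : Set (V F)} (hX : X ∈ H.Om) {b : F} (hb : b ≠ 0) (h : uA b '' X = X) :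
    X = Z0 F := by
  by_contra hne
  obtain ⟨f, hf, rfl⟩ := hX
  obtain ⟨b0, hb0⟩ := H.exists_toW hf hne
  refine hb (H.shift_unique (X := pt (uA b0 * f)) (Y := pt (uA b0 * f))
    ⟨⟨_, Γ.mul_mem (H.u_mem _) hf, rfl⟩, hb0⟩ ?_ hb0 ?_)
  · intro e
    rw [pt_mul] at e
    exact hne (uA_image_injective b0 (e.trans (uA_Z0 b0).symm))
  · rw [← pt_mul, ← mul_assoc, uA_add, add_comm b b0, ← uA_add, mul_assoc, pt_mul (uA b0),
      pt_mul (uA b), h, ← pt_mul]

lemma Fix_ne_card : Nat.card H.Fix' ≠ Nat.card F := by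
  intro hm
  classical
  haveI := H.finite_Au
  haveI := Fintype.ofFinite F
  obtain ⟨p, hch⟩ := CharP.exists F
  obtain ⟨n, hp, hcard⟩ := FiniteField.card F p
  haveI := Fact.mk hp
  have hpq : p ∣ Nat.card F := by
    rw [Nat.card_eq_fintype_card, hcard]; exact dvd_pow_self p n.ne_zero
  obtain ⟨⟨σ, hσΓ, hσj⟩, hσ⟩ := exists_prime_orderOf_dvd_card' (G := H.Cj H.jA) p
    (hpq.trans (hm ▸ H.Fix_dvd))
  replace hσ : orderOf σ = p := by rw [← hσ]; exact orderOf_injective (H.Cj H.jA).subtype Subtype.val_injective ⟨σ, ⟨hσΓ, hσj⟩⟩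
  have hσp : σ ^ p = 1 := hσ ▸ pow_orderOf_eq_one σ
  have hcj : H.jA * σ = σ * H.jA := Subgroup.mem_centralizer_iff.mp hσj _ rfl
  set P : Equiv.Perm (Set (V F)) := MulAction.toPermHom (Au F) (Set (V F)) σ with hP
  have hPp : P ^ p = 1 := by rw [hP, ← map_pow, hσp, map_one]
  have hPapp : ∀ X, P X = σ '' X := fun X => rfl
  have hOm : ∀ X, X ∈ H.Om ↔ P X ∈ H.Om := fun X => by
    refine ⟨fun h => H.Om_image h hσΓ, fun h => ?_⟩
    have := H.Om_image h (Γ.inv_mem hσΓ)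
    rwa [hPapp, Set.image_image, show (fun x => (σ⁻¹ : Au F) (σ x)) = id from
      funext (inv_apply_self' σ), Set.image_id] at this
  have hk : ¬ p ∣ H.Om.ncard := by
    rw [← Nat.card_coe_set_eq, H.card_Om]
    intro h
    exact hp.one_lt.ne' (Nat.dvd_one.mp ((Nat.dvd_add_right (dvd_mul_of_dvd_left hpq _)).mp h))
  obtain ⟨X, hX, hfix⟩ := (exists_fixed_of_pow H.Om (Set.toFinite _) P hPp hOm).1 hk
  rw [hPapp] at hfix
  obtain ⟨f, hf, rfl⟩ := id hX
  set σ' := f⁻¹ * σ * f with hσ'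
  have hσ'Γ : σ' ∈ Γ := Γ.mul_mem (Γ.mul_mem (Γ.inv_mem hf) hσΓ) hf
  have hσ'p : σ' ^ p = 1 := by
    have := conj_pow (i := p) (a := f⁻¹) (b := σ)
    rw [inv_inv] at this
    rw [hσ', this, hσp]; group
  have hσ'ne : σ' ≠ 1 := fun e => by
    have h1 : σ = 1 := by
      calc σ = f * σ' * f⁻¹ := by rw [hσ']; group
        _ = 1 := by rw [e]; group
    rw [h1, orderOf_one] at hσ
    exact hp.one_lt.ne hσ
  have hZst : ∀ v, v ∈ Z0 F → σ' v ∈ Z0 F := fun v hv => by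
    rw [hσ', mul_apply', mul_apply', ← mem_pt]
    exact hfix ▸ Set.mem_image_of_mem _ (Set.mem_image_of_mem _ hv)
  have hZ : ∀ v, v ∈ Z0 F ↔ σ'.toEquiv v ∈ Z0 F := fun v => by
    refine ⟨hZst v, fun h => ?_⟩
    have e : σ' '' Z0 F = Z0 F := H.image_Z0_eq hZst
    obtain ⟨w, hw, he⟩ := (e.symm ▸ h : σ'.toEquiv v ∈ σ' '' Z0 F)
    exact σ'.injective he ▸ hw
  have hperm : σ'.toEquiv ^ p = 1 := by
    have e : ∀ (k : ℕ) (x : V F), (σ'.toEquiv ^ k) x = (σ' ^ k) x := by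
      intro k
      induction k with
      | zero => exact fun x => rfl
      | succ k ih =>
        intro x
        rw [pow_succ, pow_succ, Equiv.Perm.mul_apply, ih, mul_apply']; rfl
    exact Equiv.ext fun x => by rw [e, hσ'p]; rfl
  have hcZ : (Z0 F).ncard = Nat.card F := by
    rw [← Set.ncard_univ]
    refine Set.ncard_congr (fun v _ => v.1) (fun _ _ => trivial) ?_ ?_
    · exact fun v w hv hw e => Prod.ext e (Prod.ext (hv.1.trans hw.1.symm) (hv.2.trans hw.2.symm))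
    · exact fun x _ => ⟨(x, 0, 0), ⟨rfl, rfl⟩, rfl⟩
  obtain ⟨v, hv, hvfix, hv0⟩ := (exists_fixed_of_pow (Z0 F) (Set.toFinite _) σ'.toEquiv hperm hZ).2
    0 ⟨rfl, rfl⟩ (map_zero σ') (hcZ ▸ hpq)
  obtain ⟨b, c, hbc⟩ := H.fix σ' hσ'Γ v hv hv0 hvfix
  have hk' : ∀ k : ℕ, ((σ' ^ k) (0, 1, 0)).2.1 = (c : F) ^ k ∧ ((σ' ^ k) (0, 1, 0)).2.2 = 0 := by
    intro k
    induction k with
    | zero => exact ⟨by simp, rfl⟩
    | succ k ih =>
      rw [pow_succ', mul_apply']
      rw [hbc] at ih ⊢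
      refine ⟨?_, ?_⟩ <;> simp [ih.1, ih.2, pow_succ']
  have hc1 : c = 1 := by
    have h1 := (hk' p).1
    rw [hσ'p] at h1
    have h2 : ((c : F) - 1) ^ p = 0 := by
      rw [sub_pow_char, one_pow, ← h1]; simp
    exact Units.ext (sub_eq_zero.mp (pow_eq_zero_iff hp.ne_zero |>.mp h2))
  rw [hc1, tA_one, mul_one] at hbc
  have hb : b ≠ 0 := fun e => hσ'ne (by rw [hbc, e, uA_zero])
  -- the involution stabilises the fixed translate
  have hjX : H.jA '' pt f = pt f := by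
    have h1 : σ '' (H.jA '' pt f) = H.jA '' pt f := by
      rw [← pt_mul, ← pt_mul, ← mul_assoc, ← hcj, mul_assoc, pt_mul, pt_mul σ, hfix, ← pt_mul]
    have h2 : (f⁻¹ : Au F) '' (H.jA '' pt f) = Z0 F := by
      refine H.fixed_by_uA (H.Om_image (H.Om_image hX H.j_mem) (Γ.inv_mem hf)) hb ?_
      rw [← hbc, hσ', ← pt_mul, ← pt_mul, ← pt_mul]
      have e : f⁻¹ * σ * f * (f⁻¹ * (H.jA * f)) = f⁻¹ * (σ * (H.jA * f)) := by group
      rw [e, pt_mul (f⁻¹), pt_mul σ, pt_mul (H.jA), h1, ← pt_mul H.jA, ← pt_mul (f⁻¹)]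
    calc H.jA '' pt f = f '' ((f⁻¹ : Au F) '' (H.jA '' pt f)) := by
          rw [Set.image_image, show (fun x => f ((f⁻¹ : Au F) x)) = id from
            funext (apply_inv_self' f), Set.image_id]
      _ = pt f := by rw [h2]; rfl
  have hW : pt f ⊆ W0 F := by
    by_cases hne : pt f = Z0 F
    · exact hne ▸ fun v hv => hv.1
    · exact H.jfix_sub hf hne hjX
  obtain ⟨d, hd⟩ := (H.Inv'_fix_Z0 (τ := f⁻¹ * H.jA * f)).mp
    ⟨⟨f⁻¹, Γ.inv_mem hf, by rw [inv_inv]⟩, fun w hw => by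
      rw [mul_apply', mul_apply', H.j_fix_iff.mpr (hW ⟨w, hw, rfl⟩), inv_apply_self']⟩
  have hcomm : (f⁻¹ * H.jA * f) * uA b = uA b * (f⁻¹ * H.jA * f) := by
    rw [← hbc, hσ']
    calc f⁻¹ * H.jA * f * (f⁻¹ * σ * f) = f⁻¹ * (H.jA * σ) * f := by group
      _ = f⁻¹ * σ * f * (f⁻¹ * H.jA * f) := by rw [hcj]; group
  rw [← hd, H.uA_jA, mul_assoc, jA_uA H, ← mul_assoc, uA_add, ← mul_assoc (uA b), uA_add] at hcomm
  have := uA_inj (mul_right_cancel hcomm)
  exact hb ((mul_eq_zero.mp (show (2 : F) * b = 0 by linear_combination -this)).resolve_left H.two_ne)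

lemma S0_unique {X : Set (V F)} (hX : X ∈ H.Fix') (hne : X ≠ Z0 F) (c : Fˣ) (hc : (c : F) * c ≠ 1)
    (h : tA c '' X = X) : X = S0 F := by
  obtain ⟨⟨f, hf, rfl⟩, hW⟩ := hX
  have hsub : S0 F ⊆ pt f := by
    rintro ⟨z, a, s⟩ ⟨hz, ha⟩
    simp only at hz ha
    subst hz ha
    have hk : (c : F) * c - 1 ≠ 0 := sub_ne_zero.mpr hc
    obtain ⟨v, hv, hs⟩ := H.exists_s hf hne (s / ((c : F) * c - 1))
    have h1 : tA c v - v ∈ pt f := by
      obtain ⟨x, hx, hxe⟩ := (h ▸ Set.mem_image_of_mem _ hv : tA c v ∈ pt f)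
      obtain ⟨y, hy, hye⟩ := hv
      exact ⟨x - y, ⟨by simp [hx.1, hy.1], by simp [hx.2, hy.2]⟩, by rw [map_sub, hxe, hye]⟩
    have e : tA c v - v = ((0, 0, s) : V F) := by
      have h2 : v.2.1 = 0 := hW hv
      refine Prod.ext ?_ (Prod.ext ?_ ?_)
      · simp
      · simp [h2]
      · show (c : F) * c * v.2.2 - v.2.2 = s
        rw [hs, ← sub_one_mul, mul_div_cancel₀ _ hk]
    rwa [e] at h1
  refine (Set.eq_of_subset_of_ncard_le hsub ?_ (Set.toFinite _)).symm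
  rw [pt, Set.ncard_image_of_injective _ f.injective]
  refine le_of_eq (Set.ncard_congr (fun v _ => ((0, 0, v.1) : V F)) (fun v _ => ⟨rfl, rfl⟩) ?_ ?_)
  · exact fun v w hv hw e => Prod.ext (congrArg (fun y : V F => y.2.2) e)
      (Prod.ext (hv.1.trans hw.1.symm) (hv.2.trans hw.2.symm))
  · exact fun v hv => ⟨(v.2.2, 0, 0), ⟨rfl, rfl⟩, Prod.ext hv.1.symm (Prod.ext hv.2.symm rfl)⟩

omit [Finite F] H in
lemma tA_Z0 (c : Fˣ) : tA c '' Z0 F = Z0 F := by
  have h : ∀ v ∈ Z0 F, tA c v = v := fun v hv => by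
    refine Prod.ext ?_ (Prod.ext ?_ ?_) <;> simp [hv.1, hv.2]
  rw [Set.image_congr h, Set.image_id']

lemma tA_Fix {X : Set (V F)} (hX : X ∈ H.Fix') (c : Fˣ) : tA c '' X ∈ H.Fix' :=
  ⟨H.Om_image hX.1 (H.t_mem c), by rintro _ ⟨v, hv, rfl⟩; simp [mem_W0, mem_W0.mp (hX.2 hv)]⟩

lemma card_Fix (hq : Nat.card F % 4 = 3) : Nat.card H.Fix' = 2 := by
  classical
  haveI := Fintype.ofFinite F
  set q := Nat.card F with hqdef
  set h := (q - 1) / 2 with hh
  have hq' : q = 2 * h + 1 := by omega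
  have hodd : Odd h := ⟨q / 4, by omega⟩
  have h1 : Nat.card H.Fix' ≠ 1 := by
    intro h1
    obtain ⟨f, hf, hne⟩ := H.moves
    have hc := H.card_Om
    rw [h1, Nat.card_coe_set_eq] at hc
    obtain ⟨X, hX⟩ := Set.ncard_eq_one.mp (by simpa using hc : H.Om.ncard = 1)
    have e1 : pt f ∈ H.Om := ⟨f, hf, rfl⟩
    have e2 := H.Z0_Om
    rw [hX] at e1 e2
    exact hne (e1.trans e2.symm)
  set Y : Set (Set (V F)) := H.Fix' \ {Z0 F} with hY
  -- an injection into the field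
  have hle : Y.ncard ≤ q := by
    have hel : ∀ X ∈ Y, ∃ z : F, ((z, 0, 1) : V F) ∈ X := by
      rintro X ⟨⟨⟨f, hf, rfl⟩, hW⟩, hne⟩
      obtain ⟨v, hv, hs⟩ := H.exists_s hf hne 1
      refine ⟨v.1, ?_⟩
      rwa [show ((v.1, 0, 1) : V F) = v from Prod.ext rfl (Prod.ext (hW hv).symm hs.symm)]
    choose g hg using hel
    rw [hqdef, ← Set.ncard_univ]
    refine Set.ncard_le_ncard_of_injOn (fun X => if hX : X ∈ Y then g X hX else 0) (fun _ _ => trivial) ?_
    intro X hX X' hX' e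
    simp only [dif_pos hX, dif_pos hX'] at e
    obtain ⟨⟨⟨f, hf, rfl⟩, -⟩, -⟩ := id hX
    obtain ⟨⟨⟨f', hf', rfl⟩, -⟩, -⟩ := id hX'
    refine H.ti hf hf' ?_ (hg _ hX) (e ▸ hg _ hX')
    exact fun e => one_ne_zero (congrArg (fun v : V F => v.2.2) e)
  -- orbits of the diagonal group off the third axis
  set Y' : Set (Set (V F)) := Y \ {S0 F} with hY'
  have hstab : ∀ X ∈ Y', ∀ c : Fˣ, tA c '' X = X ↔ (c : F) * c = 1 := by
    rintro X ⟨⟨hX, hne⟩, hS⟩ c
    refine ⟨fun hc => by_contra fun h2 => hS (H.S0_unique hX hne c h2 hc), fun hc => ?_⟩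
    refine (Set.image_congr fun v hv => ?_).trans (Set.image_id' X)
    refine Prod.ext ?_ (Prod.ext ?_ ?_) <;> simp [mem_W0.mp (hX.2 hv), hc]
  have hinv : ∀ c : Fˣ, ∀ X ∈ Y', tA c '' X ∈ Y' := by
    rintro c X ⟨⟨hX, hne⟩, hS⟩
    have key : ∀ Z : Set (V F), tA c '' Z = Z → tA c '' X = Z → X = Z := fun Z hZ he =>
      Set.image_injective.mpr (tA c).injective (he.trans hZ.symm)
    refine ⟨⟨H.tA_Fix hX c, fun he => hne (key _ (tA_Z0 c) he)⟩, fun he => hS (key _ ?_ he)⟩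
    refine Set.eq_of_subset_of_ncard_le ?_ (by rw [Set.ncard_image_of_injective _ (tA c).injective])
      (Set.toFinite _)
    rintro _ ⟨v, hv, rfl⟩
    exact ⟨by simp [hv.1], by simp [hv.2]⟩
  letI : MulAction Fˣ Y' :=
    { smul := fun c X => ⟨tA c '' X.1, hinv c X.1 X.2⟩
      one_smul := fun X => Subtype.ext (by show tA (1 : Fˣ) '' X.1 = X.1; rw [tA_one]; exact Set.image_id' _)
      mul_smul := fun c d X => Subtype.ext (by
        show tA (c * d) '' X.1 = tA c '' (tA d '' X.1)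
        rw [← tA_mul, Set.image_image]; rfl) }
  have hidx : ∀ X : Y', (MulAction.stabilizer Fˣ X).index = h := by
    intro X
    have hcard : Nat.card (MulAction.stabilizer Fˣ X) = 2 := by
      have hs : (MulAction.stabilizer Fˣ X : Set Fˣ) = {1, -1} := by
        ext c
        simp only [SetLike.mem_coe, MulAction.mem_stabilizer_iff, Subtype.ext_iff,
          Set.mem_insert_iff, Set.mem_singleton_iff]
        rw [show ((c • X : Y') : Set (V F)) = tA c '' X.1 from rfl, hstab X.1 X.2 c,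
          mul_self_eq_one_iff, Units.ext_iff, Units.ext_iff]
        simp
      rw [← SetLike.coe_sort_coe, Nat.card_coe_set_eq, hs, Set.ncard_pair]
      intro e
      exact H.neg_ne one_ne_zero (by simpa using (congrArg Units.val e).symm)
    have := Subgroup.card_mul_index (MulAction.stabilizer Fˣ X)
    rw [hcard, Nat.card_units, ← hqdef] at this
    omega
  have hr : ∃ r, Y'.ncard = h * r := by
    refine ⟨Nat.card (MulAction.orbitRel.Quotient Fˣ Y'), ?_⟩
    rw [← Nat.card_coe_set_eq, Nat.card_congr (MulAction.selfEquivSigmaOrbitsQuotientStabilizer Fˣ Y'),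
      Nat.card_sigma]
    simp only [← Subgroup.index_eq_card, hidx]
    rw [Finset.sum_const, smul_eq_mul, Nat.card_eq_fintype_card, Finset.card_univ, mul_comm]
  obtain ⟨r, hr⟩ := hr
  have hm : ∃ e, e ≤ 1 ∧ Nat.card H.Fix' = 1 + e + h * r := by
    have hpos : Nat.card H.Fix' = Y.ncard + 1 := by
      rw [Nat.card_coe_set_eq, hY, Set.ncard_sdiff_singleton_add_one H.Z0_Fix (Set.toFinite _)]
    by_cases hS : S0 F ∈ Y
    · refine ⟨1, le_rfl, ?_⟩
      rw [hpos, ← hr, hY', ← Set.ncard_sdiff_singleton_add_one hS (Set.toFinite _)]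
      omega
    · refine ⟨0, Nat.zero_le _, ?_⟩
      rw [hpos, ← hr, hY', Set.sdiff_singleton_eq_self hS]
      omega
  obtain ⟨e, he, hm⟩ := hm
  have hmle : Nat.card H.Fix' ≤ q + 1 := by
    rw [Nat.card_coe_set_eq, ← Set.ncard_sdiff_singleton_add_one H.Z0_Fix (Set.toFinite _)]
    exact Nat.add_le_add_right hle 1
  have hdvd : Nat.card H.Fix' ∣ q * (q - 1) := by
    have hc := H.count
    rw [H.card_Om, ← hqdef] at hc
    have hq1 : 1 ≤ q := by omega
    obtain ⟨k, hk⟩ : ∃ k, Nat.card H.Fix' = k + 1 := ⟨_, (Nat.sub_add_cancel (by omega : 1 ≤ _)).symm⟩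
    rw [hk] at hc ⊢
    simp only [Nat.add_sub_cancel] at hc
    obtain ⟨q', hq''⟩ : ∃ q', q = q' + 1 := ⟨q - 1, by omega⟩
    rw [hq''] at hc ⊢
    simp only [Nat.add_sub_cancel]
    refine (Int.natCast_dvd_natCast).mp ⟨((q' + 1) * (q' + 1) : ℤ) - Nat.card H.Inv', ?_⟩
    have hc' := congrArg (fun n : ℕ => (n : ℤ)) hc
    push_cast at hc' ⊢
    linear_combination hc'
  rcases arith hq' hodd he hm hdvd h1 hmle with h2 | h2
  · exact h2
  · exact absurd h2 H.Fix_ne_card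

end Geom

end Cfsg.Agent.SympM42
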