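import Mathlib
import Cfsg.Prelude.Def_Classical
import Cfsg.Agent.Lib.SympPrimeElements
import Cfsg.Agent.Lib.SymplecticSimple
import Cfsg.Agent.Lib.SymplecticOrder
import Cfsg.Agent.Lib.SymplecticDecomp

/-!
Odd element orders of `PSp_2n(q)`: orders of the roots of the characteristic polynomial.
-/

set_option autoImplicit false

open Polynomial

namespace Cfsg.Agent.SympPrimeGraph

open Cfsg.Agent.SelfReciprocalFactors Cfsg.Agent.PrimeOrderClassCount

variable {F : Type*} [Field F]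

theorem mem_range_PSp_iff [Finite F] {n N : ℕ} (hn : 1 ≤ n)
    (hN : Odd N ∨ ∀ a : F, a ^ 2 = 1 → a = 1) :
    N ∈ Set.range (orderOf : Cfsg.PSp n F → ℕ) ↔
      ∃ h : Matrix.symplecticGroup (Fin n) F, orderOf h = N := by
  set Z := Subgroup.center (Matrix.symplecticGroup (Fin n) F)
  have hZ : ∀ z ∈ Z, z ^ 2 = 1 := fun z hz => by
    obtain ⟨a, ha, hav⟩ := (SymplecticSimple.mem_center_iff hn).1 hz
    refine SymplecticBasic.ext_smul fun v => ?_
    rw [pow_two, mul_smul, hav, hav, smul_smul, ← pow_two, ha, one_smul, one_smul]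
  rcases hN with hN | hN
  · have h2N : Nat.Coprime N 2 := Nat.coprime_two_right.2 hN
    constructor
    · rintro ⟨g, rfl⟩
      obtain ⟨h, rfl⟩ := QuotientGroup.mk'_surjective Z g
      set π := QuotientGroup.mk' Z
      refine ⟨h ^ 2, Nat.dvd_antisymm ?_ ?_⟩
      · apply orderOf_dvd_of_pow_eq_one
        rw [← pow_mul, mul_comm, pow_mul]
        refine hZ _ ?_
        rw [← QuotientGroup.eq_one_iff]
        exact (map_pow π h _).trans (pow_orderOf_eq_one _)
      · have h1 := orderOf_map_dvd π (h ^ 2)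
        rwa [map_pow, orderOf_pow, h2N, Nat.div_one] at h1
    · rintro ⟨h, rfl⟩
      refine ⟨QuotientGroup.mk' Z h, Nat.dvd_antisymm (orderOf_map_dvd _ h) (h2N.dvd_of_dvd_mul_right ?_)⟩
      apply orderOf_dvd_of_pow_eq_one
      rw [pow_mul]
      refine hZ _ ?_
      rw [← QuotientGroup.eq_one_iff]
      exact (map_pow (QuotientGroup.mk' Z) h _).trans (pow_orderOf_eq_one _)
  · have hinj : Function.Injective (QuotientGroup.mk' Z) := by
      rw [← MonoidHom.ker_eq_bot_iff, QuotientGroup.ker_mk', Subgroup.eq_bot_iff_forall]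
      intro z hz
      obtain ⟨a, ha, hav⟩ := (SymplecticSimple.mem_center_iff hn).1 hz
      exact SymplecticBasic.ext_smul fun v => by rw [hav, hN a ha, one_smul, one_smul]
    constructor
    · rintro ⟨g, rfl⟩
      obtain ⟨h, rfl⟩ := QuotientGroup.mk'_surjective Z g
      exact ⟨h, (orderOf_injective _ hinj h).symm⟩
    · rintro ⟨h, rfl⟩
      exact ⟨QuotientGroup.mk' Z h, orderOf_injective _ hinj h⟩

theorem charpoly_mirror {n : ℕ} (g : Matrix.symplecticGroup (Fin n) F) :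
    g.1.charpoly.mirror = g.1.charpoly := by
  have h2m : g.1.charpoly.natDegree = 2 * n := by rw [Matrix.charpoly_natDegree_eq_dim]; simp [two_mul]
  have h0 : g.1.charpoly.coeff 0 = 1 := by
    rw [SympSemisimpleClasses.charpoly_coeff_palindromic g.2 (Nat.zero_le _), Nat.sub_zero, ← h2m]
    exact (Matrix.charpoly_monic g.1).coeff_natDegree
  have ht0 : g.1.charpoly.natTrailingDegree = 0 :=
    natTrailingDegree_eq_zero.2 (Or.inr (by rw [h0]; exact one_ne_zero))
  ext k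
  rw [coeff_mirror, h2m, ht0, add_zero]
  rcases le_or_gt k (2 * n) with hk | hk
  · rw [revAt_le hk, ← SympSemisimpleClasses.charpoly_coeff_palindromic g.2 hk]
  · rw [revAt_eq_self_of_lt hk]

theorem natDegree_charpoly {n : ℕ} (g : Matrix.symplecticGroup (Fin n) F) :
    g.1.charpoly.natDegree = 2 * n := by rw [Matrix.charpoly_natDegree_eq_dim]; simp [two_mul]

theorem orderOf_dvd_of_factors [DecidableEq F] {n p D : ℕ} [Fact p.Prime] [CharP F p]
    (h : Matrix.symplecticGroup (Fin n) F)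
    (hall : ∀ μ : F[X], μ.Monic → Irreducible μ → μ ∣ h.1.charpoly → μ ∣ X ^ D - 1) :
    ∃ l, orderOf h ∣ D * p ^ l := by
  rcases isEmpty_or_nonempty (Fin n ⊕ Fin n) with hι | hι
  · refine ⟨0, ?_⟩
    have hsub : h = 1 := Subtype.ext (Subsingleton.elim _ _)
    rw [hsub, orderOf_one]; exact one_dvd _
  have hP := Matrix.charpoly_monic h.1
  have hdvd : h.1.charpoly ∣
      (X ^ D - 1) ^ Multiset.card (UniqueFactorizationMonoid.normalizedFactors h.1.charpoly) := by
    have e : (UniqueFactorizationMonoid.normalizedFactors h.1.charpoly).prod = h.1.charpoly := by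
      rw [UniqueFactorizationMonoid.prod_normalizedFactors_eq hP.ne_zero, hP.normalize_eq_self]
    conv_lhs => rw [← e]
    rw [← Multiset.prod_replicate, ← Multiset.map_const']
    conv_lhs => rw [← Multiset.map_id' (UniqueFactorizationMonoid.normalizedFactors h.1.charpoly)]
    refine Multiset.prod_dvd_prod_of_dvd _ _ fun μ hμ => ?_
    have hirr := UniqueFactorizationMonoid.irreducible_of_normalized_factor μ hμ
    exact hall μ (UniqueFactorizationMonoid.normalize_normalized_factor μ hμ ▸ monic_normalize hirr.ne_zero)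
      hirr (UniqueFactorizationMonoid.dvd_of_mem_normalizedFactors hμ)
  generalize Multiset.card (UniqueFactorizationMonoid.normalizedFactors h.1.charpoly) = M at hdvd
  obtain ⟨Z, hZ⟩ := hdvd
  have h0 : (h.1 ^ D - 1) ^ M = 0 := by
    have h2 := congrArg (aeval h.1) hZ
    rw [map_mul, Matrix.aeval_self_charpoly, zero_mul] at h2
    simpa using h2
  obtain ⟨l, hl⟩ : ∃ l, M ≤ p ^ l := ⟨M, (Nat.lt_pow_self (Fact.out : p.Prime).one_lt).le⟩
  have h1 := pow_eq_zero_of_le hl h0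
  rw [sub_pow_char_pow_of_commute (p := p) _ (Commute.one_right _), one_pow, sub_eq_zero, ← pow_mul,
    ← SubmonoidClass.coe_pow] at h1
  exact ⟨l, orderOf_dvd_of_pow_eq_one (Subtype.ext h1)⟩

theorem dvd_X_pow_sub_one {n : ℕ} [DecidableEq F] (h : Matrix.symplecticGroup (Fin n) F) {μ : F[X]}
    (hμ : Irreducible μ) (hd : μ ∣ h.1.charpoly) : μ ∣ X ^ orderOf h - 1 :=
  dvd_of_pow_eq_one (by rw [← SubmonoidClass.coe_pow, pow_orderOf_eq_one]; rfl) hμ hd

/-- The self-reciprocal block of a prime. -/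
theorem exists_prime_block [DecidableEq F] [Fintype F] {p q r k ηk : ℕ} [Fact p.Prime] [CharP F p]
    (hF : Fintype.card F = q) (hr : r.Prime) (hr2 : r ≠ 2) (hrp : r ≠ p) (hk : k = orderOf (q : ZMod r))
    (hη : (Odd k ∧ ηk = k) ∨ (Even k ∧ 2 * ηk = k)) {μ : F[X]} (hμ : IsFactor r μ) :
    ∃ B : F[X], B.Monic ∧ B.natDegree = 2 * ηk ∧ B ∣ X ^ r - 1 ∧ B.eval 1 ≠ 0 ∧
      ∀ P : F[X], P.mirror = P → μ ∣ P → B ∣ P := by
  have := Fact.mk hr
  have hdvd : k ∣ r - 1 := by
    refine hk ▸ ZMod.orderOf_dvd_card_sub_one fun h => ?_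
    obtain ⟨f, hp, hf⟩ := FiniteField.card F p
    have h1 : r ∣ q := (ZMod.natCast_eq_zero_iff q r).1 h
    rw [← hF, hf] at h1
    exact hrp ((Nat.prime_dvd_prime_iff_eq hr hp).1 (hr.dvd_of_dvd_pow h1))
  obtain ⟨t, ht⟩ := hdvd
  obtain ⟨S, -, hk0, hSmem, hSdeg⟩ := exists_factors (p := p) hF hr hrp hk (t := t) (by rw [ht, mul_comm])
  have hdeg : μ.natDegree = k := hSdeg μ ((hSmem μ).2 ⟨hμ.monic, hμ.irr, hμ.dvd, hμ.ne⟩)
  rcases hη with ⟨hodd, rfl⟩ | ⟨hev, hη⟩
  · have hne : st μ ≠ μ := st_of_odd hr hr2 hμ (hdeg ▸ hodd)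
    have hco : IsCoprime μ (st μ) := hμ.irr.coprime_iff_not_dvd.2 fun h =>
      hne (eq_of_monic_of_associated hμ.monic hμ.isFactor_st.monic
        (hμ.irr.associated_of_dvd hμ.isFactor_st.irr h)).symm
    refine ⟨μ * st μ, hμ.monic.mul hμ.isFactor_st.monic, ?_, hco.mul_dvd hμ.dvd hμ.isFactor_st.dvd,
      ?_, fun P hP hd => hco.mul_dvd hd (assoc_st.symm.dvd.trans (hP ▸ mirror_dvd hd))⟩
    · rw [hμ.monic.natDegree_mul hμ.isFactor_st.monic, natDegree_st, hdeg]; ring
    · rw [eval_mul]; exact mul_ne_zero hμ.eval_one hμ.isFactor_st.eval_one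
  · exact ⟨μ, hμ.monic, hdeg.trans hη.symm, hμ.dvd, hμ.eval_one, fun P _ hd => hd⟩

theorem root_inv_iff [DecidableEq F] {N : ℕ} (hN : N ≠ 0) {μ : F[X]} (hm : μ.Monic) [Fact (Irreducible μ)]
    (hd : μ ∣ X ^ N - 1) : st μ = μ ↔ aeval (AdjoinRoot.root μ)⁻¹ μ = 0 := by
  have hirr : Irreducible μ := Fact.out
  have h1 : AdjoinRoot.root μ ^ N = 1 := by
    have := AdjoinRoot.mk_eq_zero.2 hd
    rw [map_sub, map_pow, map_one, AdjoinRoot.mk_X, sub_eq_zero] at this
    exact this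
  have hζ : AdjoinRoot.root μ ≠ 0 := fun h0 => by
    rw [h0, zero_pow hN] at h1; exact zero_ne_one h1
  have h0 : μ.natTrailingDegree = 0 := by
    refine natTrailingDegree_eq_zero.2 (Or.inr fun hc => ?_)
    obtain ⟨Z, hZ⟩ := hd
    have := congrArg (eval 0) hZ
    rw [eval_mul, ← coeff_zero_eq_eval_zero μ, hc, zero_mul] at this
    simp [hN] at this
  let _ := invertibleOfNonzero (inv_ne_zero hζ)
  have key : aeval (AdjoinRoot.root μ)⁻¹ μ = 0 ↔ μ ∣ μ.mirror := by
    rw [aeval_def, ← eval₂_reverse_eq_zero_iff, invOf_eq_inv, inv_inv, ← aeval_def,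
      AdjoinRoot.aeval_eq, AdjoinRoot.mk_eq_zero, Polynomial.mirror, h0, pow_zero, mul_one]
  rw [key]
  constructor
  · intro he
    have h' : st μ ∣ μ.mirror := (assoc_st (μ := μ)).symm.dvd
    rwa [he] at h'
  · intro hdd
    exact eq_of_monic_of_associated (monic_normalize (mirror_irreducible hirr).ne_zero) hm
      ((hirr.associated_of_dvd (mirror_irreducible hirr) hdd).trans assoc_st).symm

/-- What a root of order `N` says about the degree. -/
theorem degree_facts [DecidableEq F] [Fintype F] {q N : ℕ} (hF : Fintype.card F = q) (hN : N ≠ 0)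
    {μ : F[X]} (hm : μ.Monic) [Fact (Irreducible μ)] (hd : μ ∣ X ^ N - 1)
    (hord : orderOf (AdjoinRoot.root μ) = N) :
    (q : ZMod N) ^ μ.natDegree = 1 ∧ (st μ = μ → ∃ j, (q : ZMod N) ^ j = -1) := by
  have hirr : Irreducible μ := Fact.out
  have := hm.finite_adjoinRoot
  have : Finite (AdjoinRoot μ) := Module.finite_of_finite F
  let _ : Fintype (AdjoinRoot μ) := Fintype.ofFinite _
  have hζ : AdjoinRoot.root μ ≠ 0 := fun h0 => by
    have := pow_orderOf_eq_one (AdjoinRoot.root μ)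
    rw [hord, h0, zero_pow hN] at this
    exact zero_ne_one this
  have hcard : Fintype.card (AdjoinRoot μ) = q ^ μ.natDegree := by
    rw [Module.card_eq_pow_finrank (K := F), hF, (AdjoinRoot.powerBasis' hm).finrank,
      AdjoinRoot.powerBasis'_dim]
  refine ⟨?_, fun hst => ?_⟩
  · have h1 := FiniteField.pow_card_sub_one_eq_one _ hζ
    rw [hcard] at h1
    have h2 := (ZMod.natCast_eq_zero_iff _ _).2 (hord ▸ orderOf_dvd_of_pow_eq_one h1)
    rw [Nat.cast_sub (Nat.one_le_pow _ _ (hF ▸ Fintype.card_pos)), Nat.cast_pow, Nat.cast_one,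
      sub_eq_zero] at h2
    exact h2
  · have hz := (root_inv_iff hN hm hd).1 hst
    let pb := AdjoinRoot.powerBasis hirr.ne_zero
    have hmin : minpoly F pb.gen = μ := by
      rw [AdjoinRoot.powerBasis_gen hirr.ne_zero, AdjoinRoot.minpoly_root hirr.ne_zero, hm.leadingCoeff,
        inv_one, map_one, mul_one]
    let σ : AdjoinRoot μ →ₐ[F] AdjoinRoot μ := pb.lift (AdjoinRoot.root μ)⁻¹ (by rw [hmin]; exact hz)
    have hσ : σ (AdjoinRoot.root μ) = (AdjoinRoot.root μ)⁻¹ := by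
      rw [← AdjoinRoot.powerBasis_gen hirr.ne_zero]; exact pb.lift_gen _ _
    let τ : AdjoinRoot μ ≃ₐ[F] AdjoinRoot μ := AlgEquiv.ofBijective σ
      ⟨σ.toRingHom.injective, Finite.injective_iff_surjective.1 σ.toRingHom.injective⟩
    obtain ⟨j, hj⟩ := (FiniteField.bijective_frobeniusAlgEquivOfAlgebraic_pow F (AdjoinRoot μ)).2 τ
    have h1 : AdjoinRoot.root μ ^ q ^ (j : ℕ) = (AdjoinRoot.root μ)⁻¹ := by
      have := congrArg (fun e : AdjoinRoot μ ≃ₐ[F] AdjoinRoot μ => e (AdjoinRoot.root μ)) hj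
      simp [AlgEquiv.coe_pow, FiniteField.coe_frobeniusAlgEquivOfAlgebraic, pow_iterate, hF] at this
      exact this.trans hσ
    have h2 : AdjoinRoot.root μ ^ (q ^ (j : ℕ) + 1) = 1 := by
      rw [pow_succ, h1, inv_mul_cancel₀ hζ]
    have h3 := (ZMod.natCast_eq_zero_iff _ _).2 (hord ▸ orderOf_dvd_of_pow_eq_one h2)
    push_cast at h3
    exact ⟨j, eq_neg_of_add_eq_zero_left h3⟩

/-- `η`-facts for one prime. -/
theorem of_neg_one {r q j k : ℕ} [Fact r.Prime] (hr2 : r ≠ 2) (hk : k = orderOf (q : ZMod r))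
    (hj : (q : ZMod r) ^ j = -1) : Even k ∧ ∃ u, Odd u ∧ 2 * j = k * u := by
  have hr : r.Prime := Fact.out
  have : Fact (2 < r) := ⟨lt_of_le_of_ne hr.two_le (Ne.symm hr2)⟩
  have hne : ¬ k ∣ j := fun h => by
    have h1 : (q : ZMod r) ^ j = 1 := orderOf_dvd_iff_pow_eq_one.1 (hk ▸ h)
    exact ZMod.neg_one_ne_one (hj.symm.trans h1)
  have hd : k ∣ 2 * j := by
    rw [hk]; exact orderOf_dvd_of_pow_eq_one (by rw [mul_comm, pow_mul, hj, neg_one_sq])
  have hev : Even k := by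
    by_contra h
    exact hne ((Nat.Coprime.dvd_mul_left (Nat.coprime_two_right.2 (Nat.not_even_iff_odd.1 h))).1 hd)
  obtain ⟨u, hu⟩ := hd
  refine ⟨hev, u, ?_, hu⟩
  by_contra h
  obtain ⟨w, hw⟩ := Nat.not_odd_iff_even.1 h
  exact hne ⟨w, by rw [hw, mul_add] at hu; omega⟩

theorem exists_prime_order {n r k ηk : ℕ} [Fintype F] [Fact r.Prime] {q : ℕ} (hF : Fintype.card F = q)
    (hk : k = orderOf (q : ZMod r)) (hη : (Odd k ∧ ηk = k) ∨ (Even k ∧ 2 * ηk = k)) (h1 : 1 ≤ ηk)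
    (hle : ηk ≤ n) : ∃ g : Matrix.symplecticGroup (Fin n) F, orderOf g = r := by
  classical
  refine exists_prime_orderOf_dvd_card' r ?_
  rw [SymplecticOrder.card_symplectic hF]
  refine Dvd.dvd.mul_left (dvd_trans ?_ (Finset.dvd_prod_of_mem _
    (Finset.mem_range.2 (show ηk - 1 < n by omega)))) _
  rw [← ZMod.natCast_eq_zero_iff, show ηk - 1 + 1 = ηk by omega,
    Nat.cast_sub (Nat.one_le_pow _ _ (hF ▸ Fintype.card_pos)), Nat.cast_pow, Nat.cast_one, sub_eq_zero]
  refine orderOf_dvd_iff_pow_eq_one.1 (hk ▸ ?_)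
  rcases hη with ⟨-, rfl⟩ | ⟨-, h⟩
  · exact dvd_mul_left _ _
  · exact h ▸ dvd_rfl

theorem orderOf_block {a b r s : ℕ} (hco : r.Coprime s) (x : Matrix.symplecticGroup (Fin a) F)
    (y : Matrix.symplecticGroup (Fin b) F) (hx : orderOf x = r) (hy : orderOf y = s) :
    orderOf (SymplecticDecomp.blockHom F a b (x, y)) = r * s := by
  rw [orderOf_injective _ SymplecticDecomp.blockHom_injective, Prod.orderOf_mk, hx, hy, hco.lcm_eq_mul]

theorem eta_pos {k η : ℕ} (hk0 : 0 < k) (h : (Odd k ∧ η = k) ∨ (Even k ∧ 2 * η = k)) : 1 ≤ η := by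
  rcases h with ⟨-, h⟩ | ⟨-, h⟩ <;> omega

theorem cast_pos {r q p : ℕ} [Fact p.Prime] [Fintype F] [CharP F p] [Fact r.Prime]
    (hF : Fintype.card F = q) (hrp : r ≠ p) : 0 < orderOf (q : ZMod r) := by
  have hne : (q : ZMod r) ≠ 0 := fun h => by
    obtain ⟨f, hp, hf⟩ := FiniteField.card F p
    have h1 : r ∣ q := (ZMod.natCast_eq_zero_iff q r).1 h
    rw [← hF, hf] at h1
    exact hrp ((Nat.prime_dvd_prime_iff_eq Fact.out hp).1 ((Fact.out : r.Prime).dvd_of_dvd_pow h1))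
  exact orderOf_pos_iff.2 (isOfFinOrder_iff_pow_eq_one.2
    ⟨r - 1, by have := (Fact.out : r.Prime).two_le; omega, ZMod.pow_card_sub_one_eq_one hne⟩)

/-- A factor of the root-order of `N`. -/
theorem exists_elem_of_dvd [Fintype F] {p q n N L : ℕ} [Fact p.Prime] [CharP F p]
    (hF : Fintype.card F = q) (hN : p.Coprime N) (hN0 : N ≠ 0)
    (hL : ∀ m, (q : ZMod N) ^ m = 1 ↔ L ∣ m) (hhalf : Even L → (q : ZMod N) ^ (L / 2) = -1)
    (hnot : ∀ j, Odd L → (q : ZMod N) ^ j ≠ -1)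
    (hfit : (Odd L ∧ L ≤ n) ∨ (Even L ∧ L ≤ 2 * n)) :
    ∃ g : Matrix.symplecticGroup (Fin n) F, orderOf g = N := by
  classical
  obtain ⟨f, hp, hf⟩ := FiniteField.card F p
  have : NeZero N := ⟨hN0⟩
  have : NeZero (N : F) := ⟨fun h => by
    have h1 := (CharP.cast_eq_zero_iff F p N).1 h
    exact hp.one_lt.ne' (Nat.eq_one_of_dvd_coprimes hN dvd_rfl h1)⟩
  have hu : ¬ IsUnit (cyclotomic N F) := fun h => by
    have := natDegree_eq_zero_of_isUnit h
    rw [natDegree_cyclotomic, Nat.totient_eq_zero] at this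
    exact hN0 this
  obtain ⟨μ, hm, hirr, hμ⟩ := exists_monic_irreducible_factor _ hu
  have := Fact.mk hirr
  have hdN : μ ∣ X ^ N - 1 := hμ.trans (cyclotomic.dvd_X_pow_sub_one N F)
  have hdeg : μ.natDegree = L := by
    rw [natDegree_of_dvd_cyclotomic_of_irreducible hf hN hμ hirr, ← orderOf_units, ZMod.coe_unitOfCoprime,
      ← hf, hF]
    exact Nat.dvd_antisymm (orderOf_dvd_of_pow_eq_one ((hL _).2 dvd_rfl)) ((hL _).1 (pow_orderOf_eq_one _))
  have hprim : IsPrimitiveRoot (AdjoinRoot.root μ) N := by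
    have : NeZero (N : AdjoinRoot μ) := ⟨fun h => NeZero.ne (N : F) <| by
      rw [← map_natCast (algebraMap F (AdjoinRoot μ)), map_eq_zero] at h; exact h⟩
    rw [← isRoot_cyclotomic_iff, IsRoot.def, ← map_cyclotomic N (algebraMap F (AdjoinRoot μ)), eval_map,
      ← aeval_def, AdjoinRoot.aeval_eq, AdjoinRoot.mk_eq_zero]
    exact hμ
  have hord : orderOf (AdjoinRoot.root μ) = N := hprim.eq_orderOf.symm
  suffices ∃ R : F[X], R.Monic ∧ (μ * R).natDegree = 2 * n ∧ (μ * R).mirror = μ * R ∧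
      ∃ M, μ * R ∣ (X ^ N - 1) ^ M by
    obtain ⟨R, hR, hPd, hPm, M, hM⟩ := this
    obtain ⟨g, hg, hgP⟩ := SympPrimeElements.exists_of_charpoly (p := p) hN0 (μ * R) (hm.mul hR) hPm hPd hM
    refine ⟨g, Nat.dvd_antisymm (orderOf_dvd_of_pow_eq_one hg) ?_⟩
    have h1 := dvd_X_pow_sub_one g hirr (hgP ▸ dvd_mul_right μ R)
    nth_rewrite 1 [← hord]
    apply orderOf_dvd_of_pow_eq_one
    have := AdjoinRoot.mk_eq_zero.2 h1
    rwa [map_sub, map_pow, map_one, AdjoinRoot.mk_X, sub_eq_zero] at this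
  have hlin : ∀ c : ℕ, (lin F ^ (2 * c)).mirror = lin F ^ (2 * c) := fun c => by
    induction c with
    | zero => rw [mul_zero, pow_zero, ← C_1, mirror_C]
    | succ c ih => rw [mul_add, mul_one, pow_add, mirror_mul_of_domain, ih, lin_sq_mirror]
  have hroot : N ≠ 1 → μ.eval 1 ≠ 0 := fun hN1 h => hN1 (by
    rw [← hord, orderOf_eq_one_iff]
    have h3 := AdjoinRoot.mk_eq_zero.2
      (((irreducible_X_sub_C (1 : F)).associated_of_dvd hirr (dvd_iff_isRoot.2 h)).symm.dvd)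
    rwa [map_sub, AdjoinRoot.mk_X, AdjoinRoot.mk_C, map_one, sub_eq_zero] at h3)
  rcases eq_or_ne N 1 with rfl | hN1
  · have hμ1 : μ = X - C 1 := by
      refine eq_of_monic_of_associated hm (monic_X_sub_C 1) (hirr.associated_of_dvd (irreducible_X_sub_C 1) ?_)
      rw [C_1]; rw [pow_one] at hdN; exact hdN
    exfalso
    have h1 := hdeg
    rw [hμ1, natDegree_X_sub_C] at h1
    exact hnot 0 (h1 ▸ odd_one) (Subsingleton.elim _ _)
  have he1 := hroot hN1
  rcases hfit with ⟨hodd, hLn⟩ | ⟨hev, hLn⟩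
  · have hne : st μ ≠ μ := fun h => by
      obtain ⟨j, hj⟩ := (degree_facts hF hN0 hm hdN hord).2 h
      exact hnot j hodd hj
    have hm' : (st μ).Monic := monic_normalize (mirror_irreducible hirr).ne_zero
    refine ⟨st μ * lin F ^ (2 * (n - L)), hm'.mul (lin_monic.pow _), ?_, ?_, 2 + 2 * (n - L), ?_⟩
    · rw [hm.natDegree_mul (hm'.mul (lin_monic.pow _)), hm'.natDegree_mul (lin_monic.pow _),
        natDegree_pow, lin_natDegree, natDegree_st, hdeg]
      omega
    · rw [← mul_assoc, mirror_mul_of_domain, hlin, eq_mirror_of_associated ?_ ?_]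
      · rw [mirror_mul_of_domain, mul_comm μ]
        refine assoc_st.mul_mul ?_
        have := mirror_associated (assoc_st (μ := μ)).symm
        rwa [mirror_mirror] at this
      · rw [eval_mul]
        refine mul_ne_zero he1 fun h => he1 ?_
        obtain ⟨c, hc⟩ := assoc_st (μ := μ).symm
        rw [← mirror_eval_one, ← hc, eval_mul, h, zero_mul]
    · rw [← mul_assoc, pow_add, pow_two]
      exact mul_dvd_mul (mul_dvd_mul hdN (assoc_st.symm.dvd.trans ((mirror_dvd hdN).trans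
        (mirror_X_pow_sub_one_dvd N)))) (pow_dvd_pow_of_dvd (lin_dvd_X_pow_sub_one N) _)
  · have hst : st μ = μ := by
      rw [root_inv_iff hN0 hm hdN]
      have := hm.finite_adjoinRoot
      have : Finite (AdjoinRoot μ) := Module.finite_of_finite F
      have hinv : (AdjoinRoot.root μ)⁻¹ = AdjoinRoot.root μ ^ q ^ (L / 2) := by
        refine inv_eq_of_mul_eq_one_right ?_
        rw [← pow_succ', ← orderOf_dvd_iff_pow_eq_one, hord, ← ZMod.natCast_eq_zero_iff]
        push_cast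
        rw [hhalf hev, neg_add_cancel]
      let φ := FiniteField.frobeniusAlgEquivOfAlgebraic F (AdjoinRoot μ)
      have hφ : (φ ^ (L / 2)) (AdjoinRoot.root μ) = AdjoinRoot.root μ ^ q ^ (L / 2) := by
        simp [φ, AlgEquiv.coe_pow, FiniteField.coe_frobeniusAlgEquivOfAlgebraic, pow_iterate, hF]
      rw [hinv, ← hφ, aeval_algHom_apply, AdjoinRoot.aeval_eq, AdjoinRoot.mk_self, map_zero]
    obtain ⟨k, hk⟩ := hev
    refine ⟨lin F ^ (2 * (n - k)), lin_monic.pow _, ?_, ?_, 1 + 2 * (n - k), ?_⟩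
    · rw [hm.natDegree_mul (lin_monic.pow _), natDegree_pow, lin_natDegree, hdeg]; omega
    · rw [mirror_mul_of_domain, hlin, eq_mirror_of_associated ?_ he1]
      have := assoc_st (μ := μ)
      rwa [hst] at this
    · rw [pow_add, pow_one]
      exact mul_dvd_mul hdN (pow_dvd_pow_of_dvd (lin_dvd_X_pow_sub_one N) _)

theorem cast_pow_eq_one {q N m : ℕ} (hq : 0 < q) : (q : ZMod N) ^ m = 1 ↔ N ∣ q ^ m - 1 := by
  rw [← ZMod.natCast_eq_zero_iff, Nat.cast_sub (Nat.one_le_pow _ _ hq), Nat.cast_pow, Nat.cast_one,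
    sub_eq_zero]

theorem cast_pow_eq_neg_one {q N m : ℕ} : (q : ZMod N) ^ m = -1 ↔ N ∣ q ^ m + 1 := by
  rw [← ZMod.natCast_eq_zero_iff, Nat.cast_add, Nat.cast_pow, Nat.cast_one, eq_neg_iff_add_eq_zero]

end Cfsg.Agent.SympPrimeGraph
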