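import Cfsg.Agent.Lib.SympOrthSplit73
import Cfsg.Agent.Lib.SympPrimeGraph

/-!
Small elements of symplectic and odd dimensional orthogonal groups, and the translation of element
orders of `PSp` and `POmega` into pairs of commuting isometries.
-/

set_option autoImplicit false
set_option linter.unusedSectionVars false
set_option linter.style.haveILetI false

namespace Cfsg.Agent.SympOrthGraph73

open QuadraticMap
open scoped Matrix
open Cfsg Cfsg.Agent.OrthUnitaryQuad Cfsg.Agent.OrthUnitaryRefl Cfsg.Agent.OrthUnitaryOmega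

variable {F : Type*} [Field F]

/-- The standard odd dimensional orthogonal group. -/
noncomputable abbrev OG (F : Type*) [Field F] (n : ℕ) :
    Subgroup ((Unit ⊕ (Fin n ⊕ Fin n) → F) ≃ₗ[F] (Unit ⊕ (Fin n ⊕ Fin n) → F)) :=
  orth (SymplecticNotOrth.qfOdd F n)

/-- The standard symplectic group. -/
abbrev SG (F : Type*) [Field F] (n : ℕ) :
    Subgroup ((Fin n ⊕ Fin n → F) ≃ₗ[F] (Fin n ⊕ Fin n → F)) :=
  spG (stdForm F n)

theorem polar_qfOdd (n : ℕ) (x y : Unit ⊕ (Fin n ⊕ Fin n) → F) :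
    polar (SymplecticNotOrth.qfOdd F n) x y = 2 * x (.inl ()) * y (.inl ()) +
      ∑ i : Fin n, (x (.inr (.inl i)) * y (.inr (.inr i)) + y (.inr (.inl i)) * x (.inr (.inr i))) := by
  rw [polar, ← SymplecticNotOrth.qfOdd_apply, ← SymplecticNotOrth.qfOdd_apply,
    ← SymplecticNotOrth.qfOdd_apply]
  simp only [Cfsg.quadFormOdd, Pi.add_apply, add_mul, mul_add, Finset.sum_add_distrib]
  ring

/-- The middle vector. -/
def e0 (F : Type*) [Field F] (n : ℕ) : Unit ⊕ (Fin n ⊕ Fin n) → F := Pi.single (.inl ()) 1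

/-- Left singular vectors. -/
def eL {n : ℕ} (i : Fin n) : Unit ⊕ (Fin n ⊕ Fin n) → F := Pi.single (.inr (.inl i)) 1

/-- Right singular vectors. -/
def eR {n : ℕ} (i : Fin n) : Unit ⊕ (Fin n ⊕ Fin n) → F := Pi.single (.inr (.inr i)) 1

section eval

variable {n : ℕ} (i : Fin n)

theorem Q_e0 : SymplecticNotOrth.qfOdd F n (e0 F n) = 1 := by
  rw [← SymplecticNotOrth.qfOdd_apply]; simp [Cfsg.quadFormOdd, e0]

theorem Q_eL : SymplecticNotOrth.qfOdd F n (eL i) = 0 := by
  rw [← SymplecticNotOrth.qfOdd_apply]; simp [Cfsg.quadFormOdd, eL]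

theorem Q_eLR : SymplecticNotOrth.qfOdd F n (eL i + eR i) = 1 := by
  rw [← SymplecticNotOrth.qfOdd_apply]; simp [Cfsg.quadFormOdd, eL, eR, Pi.single_apply]

theorem polar_e0 (y : Unit ⊕ (Fin n ⊕ Fin n) → F) :
    polar (SymplecticNotOrth.qfOdd F n) (e0 F n) y = 2 * y (.inl ()) := by
  rw [polar_qfOdd]; simp [e0]

theorem polar_eL (y : Unit ⊕ (Fin n ⊕ Fin n) → F) :
    polar (SymplecticNotOrth.qfOdd F n) (eL i) y = y (.inr (.inr i)) := by
  rw [polar_qfOdd]; simp [eL, Pi.single_apply]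

theorem polar_eR (y : Unit ⊕ (Fin n ⊕ Fin n) → F) :
    polar (SymplecticNotOrth.qfOdd F n) (eR i) y = y (.inr (.inl i)) := by
  rw [polar_qfOdd]; simp [eR, Pi.single_apply]

end eval

theorem siegel_pow {V : Type*} [AddCommGroup V] [Module F V] {Q : QuadraticForm F V} {u w : V}
    (hu : Q u = 0) (hw : polar Q u w = 0) (j : ℕ) :
    siegel Q u w hu hw ^ j =
      siegel Q u (j • w) hu (by rw [← Nat.cast_smul_eq_nsmul F, polar_smul_right, hw, smul_zero]) := by
  induction j with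
  | zero =>
    refine orth_ext fun x => ?_
    rw [pow_zero, siegel_apply]
    simp [polar_zero_left]
  | succ j ih =>
    rw [pow_succ, ih, siegel_mul]
    refine orth_ext fun x => ?_
    rw [siegel_apply, siegel_apply, succ_nsmul]

theorem siegel_order {V : Type*} [AddCommGroup V] [Module F V] {Q : QuadraticForm F V} {p : ℕ}
    [hp : Fact p.Prime] (hpF : (p : F) = 0) {u w x : V}
    (hu : Q u = 0) (hw : polar Q u w = 0) (hx : (siegel Q u w hu hw).1 x ≠ x) :
    orderOf (siegel Q u w hu hw) = p := by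
  refine orderOf_eq_prime ?_ fun h => hx (by rw [h]; rfl)
  rw [siegel_pow]
  refine orth_ext fun y => ?_
  rw [siegel_apply]
  simp [← Nat.cast_smul_eq_nsmul F, hpF, polar_zero_left]

variable [Fintype F]

theorem mem_comm_of_odd {V : Type*} [AddCommGroup V] [Module F V] [FiniteDimensional F V]
    (h2 : (2 : F) ≠ 0) {Q : QuadraticForm F V} (hQ : (polarBilin Q).Nondegenerate)
    (hd : 2 ≤ Module.finrank F V) {g : orth Q} (hg : Odd (orderOf g)) :
    g ∈ commutator (orth Q) := by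
  have := Module.finite_of_finite F (M := V)
  have h4 := Subgroup.pow_index_mem (commutator (orth Q)) g
  rw [(odd_main h2 (isReg_of_nondegenerate hQ)).2 hd] at h4
  rw [← QuotientGroup.eq_one_iff] at h4 ⊢
  rw [QuotientGroup.mk_pow] at h4
  have hN : (QuotientGroup.mk g : orth Q ⧸ commutator (orth Q)) ^ orderOf g = 1 := by
    rw [← QuotientGroup.mk_pow, pow_orderOf_eq_one, QuotientGroup.mk_one]
  have hco : Nat.Coprime (orderOf g) 4 := by
    rw [show (4 : ℕ) = 2 ^ 2 from rfl]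
    exact Nat.Coprime.pow_right 2 (Nat.coprime_two_right.2 hg)
  have := pow_gcd_eq_one.2 ⟨hN, h4⟩
  rwa [Nat.Coprime.gcd_eq_one hco, pow_one] at this

/-- An element of order two of the commutator subgroup. -/
theorem exists_comm_invol (h2 : (2 : F) ≠ 0) {l : ℕ} (hl : 1 ≤ l) :
    ∃ t : OG F l, t * t = 1 ∧ t ≠ 1 ∧ t ∈ commutator (OG F l) := by
  set Q := SymplecticNotOrth.qfOdd F l
  let i : Fin l := ⟨0, hl⟩
  have h0 : Q (e0 F l) ≠ 0 := by rw [Q_e0]; exact one_ne_zero
  have hv : Q (eL i + eR i) ≠ 0 := by rw [Q_eLR]; exact one_ne_zero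
  have horth : polar Q (e0 F l) (eL i + eR i) = 0 := by rw [polar_e0]; simp [eL, eR]
  refine ⟨refl Q _ h0 * refl Q _ hv, ?_, fun h => ?_,
    SymplecticNotOrth.refl_pair_mem h2 h0 hv (by rw [Q_e0, Q_eLR]) horth⟩
  · have hc : refl Q _ hv * refl Q _ h0 = refl Q _ h0 * refl Q _ hv := by
      have := conj_refl (refl Q _ h0) _ hv
      simp only [SymplecticNotOrth.refl_ne h0 horth] at this
      exact (mul_inv_eq_iff_eq_mul.1 this).symm
    rw [mul_assoc, ← mul_assoc (refl Q _ hv), hc, mul_assoc, refl_sq, mul_one, refl_sq]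
  · have h' := congrArg (fun g : OG F l => g.1 (e0 F l) (.inl ())) h
    have hperp : polar Q (eL i + eR i) (e0 F l) = 0 := by rw [polar_comm]; exact horth
    change (refl Q _ h0).1 ((refl Q _ hv).1 (e0 F l)) (.inl ()) = e0 F l (.inl ()) at h'
    rw [SymplecticNotOrth.refl_ne hv hperp, SymplecticNotOrth.refl_self h0] at h'
    simp only [e0, Pi.neg_apply, Pi.single_eq_same] at h'
    exact h2 (by linear_combination -h')

theorem exists_orth_order_p {p : ℕ} [Fact p.Prime] (hpF : (p : F) = 0) {l : ℕ} (hl : 1 ≤ l) :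
    ∃ u : OG F l, orderOf u = p := by
  let i : Fin l := ⟨0, hl⟩
  have hu := Q_eL (F := F) i
  have hw : polar (SymplecticNotOrth.qfOdd F l) (eL i) (e0 F l) = 0 := by
    rw [polar_eL]; simp [e0]
  refine ⟨_, siegel_order (p := p) hpF hu hw (x := eR i) fun h => ?_⟩
  have h' := congrFun h (.inl ())
  rw [siegel_apply, polar_eL] at h'
  simp [eR, eL, e0] at h'

theorem exists_sp_order_p {p : ℕ} [Fact p.Prime] (hpF : (p : F) = 0) {l : ℕ} (hl : 1 ≤ l) :
    ∃ u : SG F l, orderOf u = p := by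
  let i : Fin l := ⟨0, hl⟩
  set v : Fin l ⊕ Fin l → F := Pi.single (.inl i) 1
  obtain ⟨u, hu⟩ := (spHom_bijective l).2 (SymplecticBasic.transv v 1)
  refine ⟨u, ?_⟩
  rw [← orderOf_injective (spHom l) (spHom_bijective l).1, hu]
  refine orderOf_eq_prime ?_ fun h => ?_
  · have hpow : ∀ j : ℕ, SymplecticBasic.transv v (1 : F) ^ j = SymplecticBasic.transv v (j : F) := by
      intro j
      induction j with
      | zero => simp [SymplecticBasic.transv_zero]
      | succ j ih => rw [pow_succ, ih, SymplecticBasic.transv_add, Nat.cast_succ]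
    rw [hpow, hpF, SymplecticBasic.transv_zero]
  · have h' := congrArg (fun g : Matrix.symplecticGroup (Fin l) F =>
      (g • (Pi.single (.inr i) 1 : Fin l ⊕ Fin l → F)) (.inl i)) h
    simp only [SymplecticBasic.transv_smul, one_smul, v, SymplecticBasic.form_single_inl_right,
      Pi.add_apply, Pi.smul_apply, one_mul] at h'
    simp at h'

/-! ### Bridges -/

/-- `PSp` has an element of order twice `s`, in terms of isometries. -/
def SpTwo (F : Type*) [Field F] (n s : ℕ) : Prop :=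
  ∃ x h : SG F n, orderOf x = s ∧ Commute x h ∧ (h * h = 1 ∨ h * h = negS _) ∧ h ≠ 1 ∧ h ≠ negS _

/-- `POmega` has an element of order twice `s`, in terms of isometries. -/
def OTwo (F : Type*) [Field F] (n s : ℕ) : Prop :=
  ∃ x t : OG F n, orderOf x = s ∧ Commute x t ∧ t * t = 1 ∧ t ≠ 1 ∧ t ∈ commutator (OG F n)

theorem psp_odd {n N : ℕ} (hn : 1 ≤ n) (hN : Odd N) :
    N ∈ Set.range (orderOf : Cfsg.PSp n F → ℕ) ↔ ∃ g : SG F n, orderOf g = N := by
  rw [SympPrimeGraph.mem_range_PSp_iff hn (Or.inl hN)]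
  constructor
  · rintro ⟨h, rfl⟩
    obtain ⟨g, rfl⟩ := (spHom_bijective n).2 h
    exact ⟨g, (orderOf_injective _ (spHom_bijective n).1 g).symm⟩
  · rintro ⟨g, rfl⟩
    exact ⟨_, orderOf_injective _ (spHom_bijective n).1 g⟩

theorem psp_two (hodd : Odd (Fintype.card F)) {n s : ℕ} (hn : 1 ≤ n) (hs : s.Prime) (hs2 : s ≠ 2) :
    2 * s ∈ Set.range (orderOf : Cfsg.PSp n F → ℕ) ↔ SpTwo F n s := by
  have h2 := SpectrumPSp61.two_ne_zero' hodd
  haveI : Nonempty (Fin n) := ⟨⟨0, hn⟩⟩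
  haveI : Fact s.Prime := ⟨hs⟩
  haveI : Fact (Nat.Prime 2) := ⟨Nat.prime_two⟩
  have hso := hs.odd_of_ne_two hs2
  have hco : Nat.Coprime s 2 := Nat.coprime_two_right.2 hso
  let π := (QuotientGroup.mk' (Subgroup.center (Matrix.symplecticGroup (Fin n) F))).comp (spHom n)
  have hker : ∀ g, π g = 1 ↔ g = 1 ∨ g = negS _ := by
    intro g
    constructor
    · intro h
      obtain ⟨a, ha, hm⟩ := SpectrumPSp61.scalar_of_central hn h
      rcases mul_self_eq_one_iff.1 ha with rfl | rfl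
      · exact Or.inl ((spHom_bijective n).1 (Subtype.ext (by rw [hm, one_smul, map_one]; rfl)))
      · exact Or.inr ((spHom_bijective n).1 (Subtype.ext (by rw [hm, spHom_negS, neg_one_smul])))
    · rintro (rfl | rfl)
      · exact map_one π
      · exact SpectrumPSp61.central_of_scalar (a := -1) (by rw [spHom_negS, neg_one_smul])
  constructor
  · rintro ⟨g, hg⟩
    obtain ⟨g, rfl⟩ := QuotientGroup.mk'_surjective _ g
    obtain ⟨T, rfl⟩ := (spHom_bijective n).2 g
    change orderOf (π T) = 2 * s at hg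
    have hpm : T ^ (2 * s) = 1 ∨ T ^ (2 * s) = negS _ := (hker _).1 (by
      rw [map_pow, ← hg, pow_orderOf_eq_one])
    have hnot : ∀ m, ¬ 2 * s ∣ m → T ^ m ≠ 1 ∧ T ^ m ≠ negS _ := fun m hm => by
      refine not_or.1 fun h => hm ?_
      rw [← hg, orderOf_dvd_iff_pow_eq_one, ← map_pow, hker]
      exact h
    refine ⟨T ^ 4, T ^ s, orderOf_eq_prime ?_ ?_, Commute.pow_pow_self T 4 s, ?_,
      (hnot s fun h => by have := Nat.le_of_dvd hs.pos h; have := hs.pos; omega)⟩
    · rw [← pow_mul, show 4 * s = 2 * s + 2 * s by ring, pow_add]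
      rcases hpm with h | h <;> rw [h]
      · exact one_mul 1
      · exact negS_sq _
    · exact (hnot 4 fun h => by
        have h' : s ∣ 2 := Nat.dvd_of_mul_dvd_mul_left two_pos h
        exact hs2 ((Nat.prime_dvd_prime_iff_eq hs Nat.prime_two).1 h')).1
    · rw [← pow_add, ← two_mul]; exact hpm
  · rintro ⟨x, h, hx, hxh, hhh, h1, hm1⟩
    refine ⟨π (x * h), ?_⟩
    have hxs : x ^ s = 1 := by rw [← hx, pow_orderOf_eq_one]
    have hπx : orderOf (π x) = s := by
      refine orderOf_eq_prime (by rw [← map_pow, hxs, map_one]) fun hh => ?_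
      rcases (hker x).1 hh with rfl | rfl
      · rw [orderOf_one] at hx; exact hs.ne_one hx.symm
      · have h' : s ∣ 2 := hx ▸ orderOf_dvd_of_pow_eq_one (by rw [pow_two]; exact negS_sq _)
        exact hs2 ((Nat.prime_dvd_prime_iff_eq hs Nat.prime_two).1 h')
    have hπh : orderOf (π h) = 2 := orderOf_eq_prime (by rw [pow_two, ← map_mul, hker]; exact hhh)
      fun hh => ((hker h).1 hh).elim h1 hm1
    rw [map_mul, (hxh.map π).orderOf_mul_eq_mul_orderOf_of_coprime (by rw [hπx, hπh]; exact hco),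
      hπx, hπh, mul_comm]

theorem range_pomega (h2 : (2 : F) ≠ 0) {n : ℕ} (hn : 1 ≤ n) :
    Set.range (orderOf : Cfsg.POmega F (Cfsg.quadFormOdd n F) → ℕ) =
      Set.range (orderOf : commutator (OG F n) → ℕ) := by
  classical
  set Q := SymplecticNotOrth.qfOdd F n
  have he : Q (eL (⟨0, hn⟩ : Fin n)) = 0 := Q_eL _
  have he0 : eL (F := F) (⟨0, hn⟩ : Fin n) ≠ 0 := fun h => by
    have := congrFun h (.inr (.inl ⟨0, hn⟩))
    simp [eL] at this
  have hneg : OrthUnitaryCentre.negOne Q ∉ commutator (orth Q) := fun h => by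
    have := ((odd_main h2 (isReg_of_nondegenerate (qfOdd_nondeg h2 n))).1 _).1 h
    have h' := congrArg Units.val this.1
    change (LinearEquiv.det (OrthUnitaryCentre.negOne Q).1 : F) = _ at h'
    rw [LinearEquiv.coe_det, Units.val_one,
      show (OrthUnitaryCentre.negOne Q).1.toLinearMap = (-1 : F) • LinearMap.id from
        LinearMap.ext fun x => by simp [OrthUnitaryCentre.negOne_apply],
      LinearMap.det_smul, LinearMap.det_id, finrank_odd, mul_one, pow_succ, pow_mul] at h'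
    exact h2 (by simp at h'; linear_combination -h')
  have hc : Nat.card (Subgroup.center (commutator (orth Q))) = 1 := by
    rw [OrthUnitaryCentre.card_center_commutator (qfOdd_nondeg h2 n) he he0
      (by rw [finrank_odd]; omega), if_neg fun h => hneg h.2]
  let ψ := OrthUnitaryStd.omegaEquiv Q (Cfsg.quadFormOdd n F) (LinearEquiv.refl F _)
    (fun v => SymplecticNotOrth.qfOdd_apply v)
  have hc' : Subgroup.center (Omega F (Cfsg.quadFormOdd n F)) = ⊥ := by
    rw [← Subgroup.card_eq_one, Nat.card_congr (Subgroup.centerCongr ψ).toEquiv, hc]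
  let e : Cfsg.POmega F (Cfsg.quadFormOdd n F) ≃* commutator (OG F n) :=
    ((QuotientGroup.quotientMulEquivOfEq hc').trans QuotientGroup.quotientBot).trans ψ
  ext N
  constructor
  · rintro ⟨g, rfl⟩; exact ⟨e g, e.orderOf_eq g⟩
  · rintro ⟨g, rfl⟩; exact ⟨e.symm g, e.symm.orderOf_eq g⟩

theorem pomega_odd (h2 : (2 : F) ≠ 0) {n N : ℕ} (hn : 1 ≤ n) (hN : Odd N) :
    N ∈ Set.range (orderOf : Cfsg.POmega F (Cfsg.quadFormOdd n F) → ℕ) ↔
      ∃ g : OG F n, orderOf g = N := by
  rw [range_pomega h2 hn]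
  constructor
  · rintro ⟨g, rfl⟩; exact ⟨g.1, Subgroup.orderOf_coe g⟩
  · rintro ⟨g, rfl⟩
    exact ⟨⟨g, mem_comm_of_odd h2 (qfOdd_nondeg h2 n) (by rw [finrank_odd]; omega) hN⟩,
      Subgroup.orderOf_mk _ _⟩

theorem pomega_two (h2 : (2 : F) ≠ 0) {n s : ℕ} (hn : 1 ≤ n) (hs : s.Prime) (hs2 : s ≠ 2) :
    2 * s ∈ Set.range (orderOf : Cfsg.POmega F (Cfsg.quadFormOdd n F) → ℕ) ↔ OTwo F n s := by
  haveI : Fact (Nat.Prime 2) := ⟨Nat.prime_two⟩
  rw [range_pomega h2 hn]
  constructor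
  · rintro ⟨g, hg⟩
    rw [← Subgroup.orderOf_coe] at hg
    refine ⟨g.1 ^ 2, g.1 ^ s, ?_, Commute.pow_pow_self _ _ _, ?_, ?_, pow_mem g.2 s⟩
    · rw [orderOf_pow_of_dvd two_ne_zero (hg ▸ dvd_mul_right 2 s), hg, Nat.mul_div_cancel_left _ two_pos]
    · rw [← pow_add, ← two_mul, ← hg, pow_orderOf_eq_one]
    · intro h
      have h' := hg ▸ orderOf_dvd_of_pow_eq_one h
      have := Nat.le_of_dvd hs.pos h'
      have := hs.pos
      omega
  · rintro ⟨x, t, hx, hxt, htt, ht1, htc⟩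
    have hxc : x ∈ commutator (OG F n) :=
      mem_comm_of_odd h2 (qfOdd_nondeg h2 n) (by rw [finrank_odd]; omega) (hx ▸ hs.odd_of_ne_two hs2)
    refine ⟨⟨x * t, mul_mem hxc htc⟩, ?_⟩
    have ht : orderOf t = 2 := orderOf_eq_prime (by rw [pow_two]; exact htt) ht1
    rw [Subgroup.orderOf_mk, hxt.orderOf_mul_eq_mul_orderOf_of_coprime
      (by rw [hx, ht]; exact Nat.coprime_two_right.2 (hs.odd_of_ne_two hs2)), hx, ht, mul_comm]

end Cfsg.Agent.SympOrthGraph73
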