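import Mathlib
import Cfsg.Agent.Lib.OrthUnitaryPrelude
import Cfsg.Agent.Lib.OrthUnitaryForms

/-!
At least `m` classes of involutions in `PΩ(2m+1, q)`, `q` odd.
-/

set_option autoImplicit false

open QuadraticMap Cfsg.Agent.OrthUnitaryQuad Cfsg.Agent.OrthUnitaryRefl Cfsg.Agent.OrthUnitaryOmega

namespace Cfsg.Agent.SymplecticNotOrth

variable {F : Type*} [Field F] {m : ℕ}

/-- The odd form as a quadratic map. -/
noncomputable def qfOdd (F : Type*) [Field F] (m : ℕ) :
    QuadraticForm F (Unit ⊕ (Fin m ⊕ Fin m) → F) :=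
  (withBase m (OrthUnitaryForms.qfSq F)).comp
    (OrthUnitaryForms.eqOdd (F := F) m).symm.toLinearMap

theorem qfOdd_apply (v : Unit ⊕ (Fin m ⊕ Fin m) → F) : quadFormOdd m F v = qfOdd F m v := by
  conv_lhs => rw [← (OrthUnitaryForms.eqOdd (F := F) m).apply_symm_apply v]
  exact OrthUnitaryForms.eqOdd_isometry m _

section General

variable {V : Type*} [AddCommGroup V] [Module F V] {Q : QuadraticForm F V}

theorem refl_ne {v : V} (hv : Q v ≠ 0) {x : V} (hx : polar Q v x = 0) : (refl Q v hv).1 x = x := by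
  rw [refl_apply, hx, mul_zero, zero_smul, sub_zero]

theorem refl_self {v : V} (hv : Q v ≠ 0) : (refl Q v hv).1 v = -v := by
  rw [refl_apply, polar_self_mul, show (Q v)⁻¹ * (2 * Q v) = 2 by field_simp]
  module

theorem refl_pair_mem (h2 : (2 : F) ≠ 0) {u w : V} (hu : Q u ≠ 0) (hw : Q w ≠ 0) (huw : Q u = Q w)
    (horth : polar Q u w = 0) : refl Q u hu * refl Q w hw ∈ commutator (orth Q) := by
  have hne : Q (w - u) ≠ 0 := by
    rw [sub_eq_add_neg, QuadraticMap.map_add (⇑Q), QuadraticMap.map_neg, polar_neg_right,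
      polar_comm, horth, huw, neg_zero, add_zero, ← two_mul]
    exact mul_ne_zero h2 hw
  set h := refl Q (w - u) hne
  have hmap : h.1 w = u := refl_sub_apply huw.symm hne
  have hc : h * refl Q w hw * h⁻¹ = refl Q u hu := by
    rw [conj_refl]
    simp only [hmap]
  rw [← hc, commutator_def]
  have hi : (refl Q w hw)⁻¹ = refl Q w hw := inv_eq_of_mul_eq_one_right (refl_sq w hw)
  nth_rewrite 2 [← hi]
  exact Subgroup.commutator_mem_commutator (Subgroup.mem_top _) (Subgroup.mem_top _)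

/-- The product of the reflections in the vectors `e i`. -/
noncomputable def rp {N : ℕ} (e : Fin N → V) (he : ∀ i, Q (e i) ≠ 0) : orth Q :=
  (List.ofFn fun i => refl Q (e i) (he i)).prod

theorem rp_succ {N : ℕ} (e : Fin (N + 1) → V) (he : ∀ i, Q (e i) ≠ 0) :
    rp e he = refl Q (e 0) (he 0) * rp (fun i => e i.succ) (fun i => he i.succ) := by
  rw [rp, rp, List.ofFn_succ, List.prod_cons]

theorem rp_apply {N : ℕ} (e : Fin N → V) (he : ∀ i, Q (e i) ≠ 0)
    (horth : ∀ i j, i ≠ j → polar Q (e i) (e j) = 0) (x : V) :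
    (rp e he).1 x = x - ∑ i, ((Q (e i))⁻¹ * polar Q (e i) x) • e i := by
  induction N with
  | zero => simp [rp]
  | succ N ih =>
    have h := ih (fun i => e i.succ) (fun i => he i.succ) (fun i j hij => horth _ _
      (fun h => hij (Fin.succ_injective _ h)))
    rw [rp_succ, orth_mul_apply, h, map_sub, map_sum, Fin.sum_univ_succ]
    rw [Finset.sum_congr rfl fun i _ => show (refl Q (e 0) (he 0)).1
        (((Q (e i.succ))⁻¹ * polar Q (e i.succ) x) • e i.succ) =
        ((Q (e i.succ))⁻¹ * polar Q (e i.succ) x) • e i.succ by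
      rw [map_smul, refl_ne _ (horth 0 i.succ (Fin.succ_ne_zero i).symm)]]
    rw [refl_apply]
    abel

theorem rp_range {N : ℕ} (h2 : (2 : F) ≠ 0) (e : Fin N → V) (he : ∀ i, Q (e i) ≠ 0)
    (horth : ∀ i j, i ≠ j → polar Q (e i) (e j) = 0) :
    LinearMap.range ((rp e he).1.toLinearMap - LinearMap.id) = Submodule.span F (Set.range e) := by
  refine le_antisymm ?_ (Submodule.span_le.mpr ?_)
  · rintro _ ⟨x, rfl⟩
    show (rp e he).1 x - x ∈ _
    rw [rp_apply e he horth, sub_sub_cancel_left]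
    exact neg_mem (Submodule.sum_mem _ fun i _ =>
      Submodule.smul_mem _ _ (Submodule.subset_span ⟨i, rfl⟩))
  · rintro _ ⟨i, rfl⟩
    refine ⟨(-(2 : F)⁻¹) • e i, ?_⟩
    have hsum : ∑ j, ((Q (e j))⁻¹ * polar Q (e j) (e i)) • e j = (2 : F) • e i := by
      rw [Finset.sum_eq_single i (fun j _ hj => by rw [horth j i hj, mul_zero, zero_smul])
        (fun h => absurd (Finset.mem_univ i) h), polar_self_mul,
        show (Q (e i))⁻¹ * (2 * Q (e i)) = 2 by field_simp [he i]]
    rw [map_smul]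
    show (-(2 : F)⁻¹) • ((rp e he).1 (e i) - e i) = e i
    rw [rp_apply e he horth, hsum, sub_sub_cancel_left, neg_smul, smul_neg, neg_neg,
      inv_smul_smul₀ h2]

theorem linIndep {N : ℕ} (h2 : (2 : F) ≠ 0) (e : Fin N → V) (he : ∀ i, Q (e i) ≠ 0)
    (horth : ∀ i j, i ≠ j → polar Q (e i) (e j) = 0) : LinearIndependent F e := by
  rw [Fintype.linearIndependent_iff]
  intro c hc i
  have h := congrArg (polarBilin Q (e i)) hc
  rw [map_sum, map_zero, Finset.sum_eq_single i
    (fun j _ hj => by rw [map_smul, polarBilin_apply_apply, horth i j hj.symm, smul_zero])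
    (fun h => absurd (Finset.mem_univ i) h), map_smul, polarBilin_apply_apply, polar_self_mul,
    smul_eq_mul] at h
  exact (mul_eq_zero.mp h).resolve_right (mul_ne_zero h2 (he i))

theorem rp_sq {N : ℕ} (h2 : (2 : F) ≠ 0) (e : Fin N → V) (he : ∀ i, Q (e i) ≠ 0)
    (horth : ∀ i j, i ≠ j → polar Q (e i) (e j) = 0) : rp e he * rp e he = 1 := by
  refine orth_ext fun x => ?_
  rw [orth_mul_apply, rp_apply e he horth x, map_sub, map_sum, rp_apply e he horth x,
    Finset.sum_congr rfl fun i _ => show (rp e he).1 (((Q (e i))⁻¹ * polar Q (e i) x) • e i) =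
      -(((Q (e i))⁻¹ * polar Q (e i) x) • e i) by
    rw [map_smul, rp_apply e he horth (e i), Finset.sum_eq_single i
      (fun j _ hj => by rw [horth j i hj, mul_zero, zero_smul])
      (fun h => absurd (Finset.mem_univ i) h), polar_self_mul,
      show (Q (e i))⁻¹ * (2 * Q (e i)) = 2 by field_simp [he i]]
    module, Finset.sum_neg_distrib]
  show x - _ - -_ = x
  abel

theorem rp_mem {k : ℕ} (h2 : (2 : F) ≠ 0) (e : Fin (2 * k) → V) (he : ∀ i, Q (e i) ≠ 0)
    (horth : ∀ i j, i ≠ j → polar Q (e i) (e j) = 0)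
    (hval : ∀ i : Fin k, Q (e ⟨2 * i.1, by omega⟩) = Q (e ⟨2 * i.1 + 1, by omega⟩)) :
    rp e he ∈ commutator (orth Q) := by
  induction k with
  | zero => simp [rp, Subgroup.one_mem]
  | succ k ih =>
    rw [rp_succ (N := 2 * k + 1), rp_succ (N := 2 * k), ← mul_assoc]
    refine mul_mem (refl_pair_mem h2 _ _ ?_ (horth _ _ (by simp [Fin.ext_iff]))) (ih _ _ ?_ ?_)
    · simpa [Fin.succ] using hval ⟨0, by omega⟩
    · intro i j hij
      exact horth _ _ (fun h => hij (Fin.succ_injective _ (Fin.succ_injective _ h)))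
    · intro i
      simpa [Fin.succ, mul_add, add_assoc] using hval ⟨i + 1, by omega⟩

/-- The hypotheses giving a trivial centre: if a central element fixes all the pairs. -/
theorem line_of_commute {u w t : V} (h2 : (2 : F) ≠ 0) (hu : Q u ≠ 0) (hw : Q w ≠ 0) (ht : Q t ≠ 0)
    (huw : polar Q u w = 0) (hut : polar Q u t = 0) (hwt : polar Q w t = 0) (z : orth Q)
    (h1 : z * (refl Q u hu * refl Q w hw) = (refl Q u hu * refl Q w hw) * z)
    (h3 : z * (refl Q u hu * refl Q t ht) = (refl Q u hu * refl Q t ht) * z) :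
    ∃ a : F, z.1 u = a • u := by
  have key : ∀ (s : V) (hs : Q s ≠ 0), polar Q u s = 0 →
      z * (refl Q u hu * refl Q s hs) = (refl Q u hu * refl Q s hs) * z →
      ∃ a b : F, (2 : F) • z.1 u = a • u + b • s := by
    intro s hs hus h
    have e := congrArg (fun g : orth Q => g.1 u) h
    simp only [orth_mul_apply] at e
    rw [refl_ne hs (by rw [polar_comm]; exact hus), refl_self hu, map_neg, refl_apply, refl_apply,
      polar_sub_right, polar_smul_right, hus, smul_zero, sub_zero] at e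
    refine ⟨(Q u)⁻¹ * polar Q u (z.1 u), (Q s)⁻¹ * polar Q s (z.1 u), ?_⟩
    linear_combination (norm := module) -e
  obtain ⟨a, b, hb⟩ := key w hw huw h1
  obtain ⟨c, d, hd⟩ := key t ht hut h3
  have hb0 : b = 0 := by
    have h := congrArg (polarBilin Q w) (hb.symm.trans hd)
    simp only [map_add, map_smul, polarBilin_apply_apply, smul_eq_mul, polar_comm Q w u, huw, hwt,
      polar_self_mul, mul_zero, zero_add] at h
    exact (mul_eq_zero.mp h).resolve_right (mul_ne_zero h2 hw)
  refine ⟨(2 : F)⁻¹ * a, ?_⟩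
  rw [mul_smul, show a • u = (2 : F) • z.1 u by rw [hb, hb0, zero_smul, add_zero], inv_smul_smul₀ h2]

end General

/-! ### The odd form -/

/-- `e₀`. -/
noncomputable def vU (F : Type*) [Field F] (m : ℕ) : Unit ⊕ (Fin m ⊕ Fin m) → F :=
  Pi.single (Sum.inl ()) 1

/-- `eᵢ + fᵢ`. -/
noncomputable def vP (F : Type*) [Field F] {m : ℕ} (i : Fin m) : Unit ⊕ (Fin m ⊕ Fin m) → F :=
  Pi.single (Sum.inr (Sum.inl i)) 1 + Pi.single (Sum.inr (Sum.inr i)) 1

/-- `eᵢ - fᵢ`. -/
noncomputable def vN (F : Type*) [Field F] {m : ℕ} (i : Fin m) : Unit ⊕ (Fin m ⊕ Fin m) → F :=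
  Pi.single (Sum.inr (Sum.inl i)) 1 - Pi.single (Sum.inr (Sum.inr i)) 1

/-- The polar form in coordinates. -/
theorem polar_qfOdd (u v : Unit ⊕ (Fin m ⊕ Fin m) → F) :
    polar (qfOdd F m) u v = 2 * u (Sum.inl ()) * v (Sum.inl ()) +
      ∑ i, (u (Sum.inr (Sum.inl i)) * v (Sum.inr (Sum.inr i)) +
        v (Sum.inr (Sum.inl i)) * u (Sum.inr (Sum.inr i))) := by
  simp only [polar, ← qfOdd_apply, quadFormOdd, Pi.add_apply, Finset.sum_add_distrib, add_mul,
    mul_add]
  ring

theorem Q_vU : qfOdd F m (vU F m) = 1 := by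
  rw [← qfOdd_apply]; simp [quadFormOdd, vU]

theorem Q_vP (i : Fin m) : qfOdd F m (vP F i) = 1 := by
  rw [← qfOdd_apply]; simp [quadFormOdd, vP, Pi.single_apply]

theorem Q_vN (i : Fin m) : qfOdd F m (vN F i) = -1 := by
  rw [← qfOdd_apply]; simp [quadFormOdd, vN, Pi.single_apply]

theorem polar_UP (i : Fin m) : polar (qfOdd F m) (vU F m) (vP F i) = 0 := by
  simp [polar_qfOdd, vU, vP]

theorem polar_UN (i : Fin m) : polar (qfOdd F m) (vU F m) (vN F i) = 0 := by
  simp [polar_qfOdd, vU, vN]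

theorem polar_PP {i j : Fin m} (h : i ≠ j) : polar (qfOdd F m) (vP F i) (vP F j) = 0 := by
  simp [polar_qfOdd, vP, Pi.single_apply, Finset.sum_add_distrib, h, h.symm]

theorem polar_NN {i j : Fin m} (h : i ≠ j) : polar (qfOdd F m) (vN F i) (vN F j) = 0 := by
  simp [polar_qfOdd, vN, Pi.single_apply, h, h.symm, Finset.sum_add_distrib]

theorem polar_PN (i j : Fin m) : polar (qfOdd F m) (vP F i) (vN F j) = 0 := by
  by_cases h : i = j
  · subst h; rw [polar_qfOdd]; simp [vP, vN, Pi.single_apply, Finset.sum_add_distrib]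
  · rw [polar_qfOdd]; simp [vP, vN, Pi.single_apply, h, Ne.symm h, Finset.sum_add_distrib]

theorem center_trivial (h2 : (2 : F) ≠ 0) (hm : 3 ≤ m) (z : orth (qfOdd F m))
    (hz : z ∈ commutator (orth (qfOdd F m)))
    (hc : ∀ g ∈ commutator (orth (qfOdd F m)), z * g = g * z) : z = 1 := by
  classical
  have hline : ∀ u w t : Unit ⊕ (Fin m ⊕ Fin m) → F, qfOdd F m u ≠ 0 →
      qfOdd F m u = qfOdd F m w → qfOdd F m u = qfOdd F m t → polar (qfOdd F m) u w = 0 →
      polar (qfOdd F m) u t = 0 → polar (qfOdd F m) w t = 0 → ∃ a : F, z.1 u = a • u := by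
    intro u w t hu huw hut h1 h3 h4
    have hw : qfOdd F m w ≠ 0 := huw ▸ hu
    have ht : qfOdd F m t ≠ 0 := hut ▸ hu
    exact line_of_commute h2 hu hw ht h1 h3 h4 z (hc _ (refl_pair_mem h2 hu hw huw h1))
      (hc _ (refl_pair_mem h2 hu ht hut h3))
  have hthree : ∀ i : Fin m, ∃ j l : Fin m, i ≠ j ∧ i ≠ l ∧ j ≠ l := by
    intro i
    by_cases h0 : (i : ℕ) = 0
    · exact ⟨⟨1, by omega⟩, ⟨2, by omega⟩, by simp [Fin.ext_iff, h0], by simp [Fin.ext_iff, h0],
        by simp [Fin.ext_iff]⟩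
    by_cases h1 : (i : ℕ) = 1
    · exact ⟨⟨0, by omega⟩, ⟨2, by omega⟩, by simp [Fin.ext_iff, h1], by simp [Fin.ext_iff, h1],
        by simp [Fin.ext_iff]⟩
    exact ⟨⟨0, by omega⟩, ⟨1, by omega⟩, by simp [Fin.ext_iff, h0], by simp [Fin.ext_iff, h1],
      by simp [Fin.ext_iff]⟩
  obtain ⟨a, ha⟩ := hline (vU F m) (vP F ⟨0, by omega⟩) (vP F ⟨1, by omega⟩)
    (by rw [Q_vU]; exact one_ne_zero) (by rw [Q_vU, Q_vP]) (by rw [Q_vU, Q_vP]) (polar_UP _)
    (polar_UP _) (polar_PP (by simp [Fin.ext_iff]))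
  have hPN : ∀ i, z.1 (vP F i) = a • vP F i ∧ z.1 (vN F i) = a • vN F i := by
    intro i
    obtain ⟨j, l, hij, hil, hjl⟩ := hthree i
    obtain ⟨b, hb⟩ := hline (vP F i) (vP F j) (vP F l) (by rw [Q_vP]; exact one_ne_zero)
      (by rw [Q_vP, Q_vP]) (by rw [Q_vP, Q_vP]) (polar_PP hij) (polar_PP hil) (polar_PP hjl)
    obtain ⟨c, hc'⟩ := hline (vN F i) (vN F j) (vN F l)
      (by rw [Q_vN]; exact neg_ne_zero.mpr one_ne_zero)
      (by rw [Q_vN, Q_vN]) (by rw [Q_vN, Q_vN]) (polar_NN hij) (polar_NN hil) (polar_NN hjl)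
    set x := vU F m + vP F i + vN F i with hx
    have hQx : qfOdd F m x = 1 := by
      rw [hx, QuadraticMap.map_add (⇑(qfOdd F m)), QuadraticMap.map_add (⇑(qfOdd F m)) (vU F m),
        polar_add_left, Q_vU, Q_vP, Q_vN, polar_UP, polar_UN, polar_PN]
      ring
    have hxj : ∀ r, i ≠ r → polar (qfOdd F m) x (vP F r) = 0 := fun r hr => by
      rw [hx, polar_add_left, polar_add_left, polar_UP, polar_PP hr,
        polar_comm (qfOdd F m) (vN F i), polar_PN]
      ring
    obtain ⟨d, hd⟩ := hline x (vP F j) (vP F l) (by rw [hQx]; exact one_ne_zero)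
      (by rw [hQx, Q_vP]) (by rw [hQx, Q_vP]) (hxj j hij) (hxj l hil) (polar_PP hjl)
    rw [hx, map_add, map_add, ha, hb, hc', smul_add, smul_add] at hd
    have e1 := congrArg (polarBilin (qfOdd F m) (vU F m)) hd
    have e2 := congrArg (polarBilin (qfOdd F m) (vP F i)) hd
    have e3 := congrArg (polarBilin (qfOdd F m) (vN F i)) hd
    simp only [map_add, map_smul, polarBilin_apply_apply, smul_eq_mul, polar_self_mul, Q_vU, Q_vP,
      Q_vN, polar_UP, polar_UN, polar_PN, polar_comm (qfOdd F m) (vP F i) (vU F m),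
      polar_comm (qfOdd F m) (vN F i) (vU F m), polar_comm (qfOdd F m) (vN F i) (vP F i),
      mul_zero, add_zero, zero_add, mul_one] at e1 e2 e3
    rw [hb, hc', mul_right_cancel₀ h2 e1, mul_right_cancel₀ h2 e2,
      mul_right_cancel₀ (by simpa using h2) e3]
    exact ⟨rfl, rfl⟩
  have hall : ∀ x, z.1 x = a • x := by
    have hbasis : ∀ t, z.1 (Pi.single t (1 : F)) = a • Pi.single t 1 := by
      intro t
      rcases t with u | i | i
      · exact ha
      · have : (Pi.single (Sum.inr (Sum.inl i)) 1 : Unit ⊕ (Fin m ⊕ Fin m) → F) =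
            (2 : F)⁻¹ • (vP F i + vN F i) := by
          rw [show vP F i + vN F i = (2 : F) • Pi.single (Sum.inr (Sum.inl i)) (1 : F) by
            simp only [vP, vN]; module, inv_smul_smul₀ h2]
        rw [this, map_smul, map_add, (hPN i).1, (hPN i).2]; module
      · have : (Pi.single (Sum.inr (Sum.inr i)) 1 : Unit ⊕ (Fin m ⊕ Fin m) → F) =
            (2 : F)⁻¹ • (vP F i - vN F i) := by
          rw [show vP F i - vN F i = (2 : F) • Pi.single (Sum.inr (Sum.inr i)) (1 : F) by
            simp only [vP, vN]; module, inv_smul_smul₀ h2]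
        rw [this, map_smul, map_sub, (hPN i).1, (hPN i).2]; module
    intro x
    rw [pi_eq_sum_univ' x, map_sum, Finset.smul_sum]
    exact Finset.sum_congr rfl fun t _ => by rw [map_smul, hbasis, smul_comm]
  have hasq : a * a = 1 := by
    have := map_orth z (vU F m)
    rw [ha, QuadraticMap.map_smul, Q_vU] at this
    simpa using this
  have hdet : detHom (qfOdd F m) z = 1 := Abelianization.commutator_subset_ker _ hz
  have hdet' : a ^ (2 * m + 1) = 1 := by
    have h : ((detHom (qfOdd F m) z : Fˣ) : F) = 1 := by rw [hdet]; rfl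
    rw [show ((detHom (qfOdd F m) z : Fˣ) : F) = LinearMap.det z.1.toLinearMap from
      LinearEquiv.coe_det z.1, show z.1.toLinearMap = a • LinearMap.id from LinearMap.ext hall,
      LinearMap.det_smul, LinearMap.det_id, mul_one, Module.finrank_pi, Fintype.card_sum,
      Fintype.card_sum, Fintype.card_unit, Fintype.card_fin] at h
    rwa [show 1 + (m + m) = 2 * m + 1 by ring] at h
  rw [pow_succ, pow_mul, pow_two, hasq, one_pow, one_mul] at hdet'
  exact orth_ext fun x => by rw [hall, hdet', one_smul]; rfl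

/-- The orthogonal basis, indexed by labels. -/
noncomputable def bvec (F : Type*) [Field F] (m : ℕ) :
    Unit ⊕ (Fin m ⊕ Fin m) → Unit ⊕ (Fin m ⊕ Fin m) → F :=
  Sum.elim (fun _ => vU F m) (Sum.elim (fun i => vP F i) (fun i => vN F i))

theorem bvec_orth {s t : Unit ⊕ (Fin m ⊕ Fin m)} (h : s ≠ t) :
    polar (qfOdd F m) (bvec F m s) (bvec F m t) = 0 := by
  rcases s with s | s | s <;> rcases t with t | t | t
  · exact absurd rfl h
  · exact polar_UP t
  · exact polar_UN t
  · exact (polar_comm _ _ _).trans (polar_UP s)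
  · exact polar_PP fun e => h (by rw [e])
  · exact polar_PN s t
  · exact (polar_comm _ _ _).trans (polar_UN s)
  · exact (polar_comm _ _ _).trans (polar_PN t s)
  · exact polar_NN fun e => h (by rw [e])

/-- Labels of the first `2m` vectors, paired by value. -/
def lab (m i : ℕ) : Unit ⊕ (Fin m ⊕ Fin m) :=
  if _h0 : i = 0 then Sum.inl ()
  else if h1 : i ≤ m ∧ i < 2 * ((m + 1) / 2) then Sum.inr (Sum.inl ⟨i - 1, by omega⟩)
  else if h2 : i < 2 * m then Sum.inr (Sum.inr ⟨i - 2 * ((m + 1) / 2), by omega⟩) else Sum.inl ()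

theorem lab_inj {i j : ℕ} (hi : i < 2 * m) (hj : j < 2 * m) (h : lab m i = lab m j) : i = j := by
  unfold lab at h
  split_ifs at h <;> simp [Fin.ext_iff] at h <;> omega

/-- The `2m` orthogonal vectors. -/
noncomputable def ovec (F : Type*) [Field F] (m : ℕ) (i : ℕ) : Unit ⊕ (Fin m ⊕ Fin m) → F :=
  bvec F m (lab m i)

theorem exists_involutions (h2 : (2 : F) ≠ 0) (hm : 3 ≤ m) :
    ∃ x : Fin m → commutator (orth (qfOdd F m)), (∀ i, x i * x i = 1 ∧ x i ≠ 1) ∧
      ∀ i j, IsConj (x i) (x j) → i = j := by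
  classical
  have hb : ∀ s, qfOdd F m (bvec F m s) =
      Sum.elim (fun _ => (1 : F)) (Sum.elim (fun _ => 1) (fun _ => -1)) s := by
    rintro (s | s | s)
    · exact Q_vU
    · exact Q_vP s
    · exact Q_vN s
  have hne : ∀ i, qfOdd F m (ovec F m i) ≠ 0 := fun i => by
    rw [show ovec F m i = bvec F m (lab m i) from rfl, hb]
    rcases lab m i with s | s | s <;> simp
  have horth : ∀ i j, i < 2 * m → j < 2 * m → i ≠ j →
      polar (qfOdd F m) (ovec F m i) (ovec F m j) = 0 :=
    fun i j hi hj hij => bvec_orth fun h => hij (lab_inj hi hj h)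
  have hval : ∀ i, i < m →
      qfOdd F m (ovec F m (2 * i)) = qfOdd F m (ovec F m (2 * i + 1)) := by
    intro i hi
    rw [show ovec F m (2 * i) = bvec F m (lab m (2 * i)) from rfl,
      show ovec F m (2 * i + 1) = bvec F m (lab m (2 * i + 1)) from rfl, hb, hb]
    unfold lab
    split_ifs <;> first | contradiction | omega | simp
  let d : ∀ k : Fin m, orth (qfOdd F m) := fun k =>
    rp (fun i : Fin (2 * (k.1 + 1)) => ovec F m i.1) (fun i => hne i.1)
  have ho : ∀ (k : Fin m) (i j : Fin (2 * (k.1 + 1))), i ≠ j →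
      polar (qfOdd F m) (ovec F m i.1) (ovec F m j.1) = 0 := fun k i j hij =>
    horth _ _ (by omega) (by omega) fun h => hij (Fin.ext h)
  have hmem : ∀ k, d k ∈ commutator (orth (qfOdd F m)) := fun k =>
    rp_mem h2 _ _ (ho k) (fun i => hval i.1 (by omega))
  have hrank : ∀ k : Fin m, Module.finrank F
      (LinearMap.range ((d k).1.toLinearMap - LinearMap.id)) = 2 * (k.1 + 1) := fun k => by
    rw [rp_range h2 _ _ (ho k), finrank_span_eq_card (linIndep h2 _ (fun i => hne i.1) (ho k)),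
      Fintype.card_fin]
  refine ⟨fun k => ⟨d k, hmem k⟩, fun k => ⟨Subtype.ext (rp_sq h2 _ _ (ho k)), fun h => ?_⟩,
    fun k l h => ?_⟩
  · have hk := hrank k
    rw [show d k = 1 from congrArg Subtype.val h,
      show ((1 : orth (qfOdd F m)).1.toLinearMap - LinearMap.id) = 0 from
        LinearMap.ext fun x => sub_self x, LinearMap.range_zero, finrank_bot] at hk
    omega
  · obtain ⟨g, hg⟩ := isConj_iff.mp h
    have hg' : g.1 * d k * g.1⁻¹ = d l := congrArg Subtype.val hg
    have hr : LinearMap.range ((d l).1.toLinearMap - LinearMap.id) =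
        (LinearMap.range ((d k).1.toLinearMap - LinearMap.id)).map g.1.1.toLinearMap := by
      rw [← hg']
      ext y
      constructor
      · rintro ⟨x, rfl⟩
        refine ⟨_, ⟨g.1.1.symm x, rfl⟩, ?_⟩
        show g.1.1 ((d k).1 (g.1.1.symm x) - g.1.1.symm x) = (g.1 * d k * g.1⁻¹).1 x - x
        rw [map_sub, LinearEquiv.apply_symm_apply]; rfl
      · rintro ⟨_, ⟨x, rfl⟩, rfl⟩
        refine ⟨g.1.1 x, ?_⟩
        show (g.1 * d k * g.1⁻¹).1 (g.1.1 x) - g.1.1 x = g.1.1 ((d k).1 x - x)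
        rw [map_sub]
        show g.1.1 ((d k).1 (g.1.1.symm (g.1.1 x))) - _ = _
        rw [LinearEquiv.symm_apply_apply]
    have h1 := hrank l
    rw [hr, LinearEquiv.finrank_map_eq g.1.1, hrank k] at h1
    exact Fin.ext (by omega)

theorem pOmega_involutions (h2 : (2 : F) ≠ 0) (hm : 3 ≤ m) :
    ∃ x : Fin m → Cfsg.POmega F (quadFormOdd m F), (∀ i, x i * x i = 1 ∧ x i ≠ 1) ∧
      ∀ i j, IsConj (x i) (x j) → i = j := by
  obtain ⟨x, hx, hconj⟩ := exists_involutions (F := F) h2 hm
  let e := isometryGroupEquiv (qfOdd F m) (quadFormOdd m F) qfOdd_apply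
  let ψ : Cfsg.Omega F (quadFormOdd m F) ≃* commutator (orth (qfOdd F m)) :=
    ((commutator _).equivMapOfInjective e.toMonoidHom e.injective).trans
      (MulEquiv.subgroupCongr (map_commutator_equiv e))
  have hcenter : ∀ z ∈ Subgroup.center (Cfsg.Omega F (quadFormOdd m F)), z = 1 := by
    intro z hz
    refine ψ.injective (Subtype.ext ?_)
    rw [map_one]
    refine center_trivial h2 hm _ (ψ z).2 fun g hg => ?_
    obtain ⟨y, hy⟩ := ψ.surjective ⟨g, hg⟩
    have := Subgroup.mem_center_iff.mp hz y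
    have h' := congrArg (fun t => ((ψ t : commutator (orth (qfOdd F m))) : orth (qfOdd F m))) this
    simp only [map_mul, Subgroup.coe_mul, hy] at h'
    exact h'.symm
  let π := QuotientGroup.mk' (Subgroup.center (Cfsg.Omega F (quadFormOdd m F)))
  have hπ : Function.Injective π := by
    rw [← MonoidHom.ker_eq_bot_iff, QuotientGroup.ker_mk', Subgroup.eq_bot_iff_forall]
    exact hcenter
  let ρ : commutator (orth (qfOdd F m)) →* Cfsg.POmega F (quadFormOdd m F) :=
    π.comp ψ.symm.toMonoidHom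
  have hρ : Function.Bijective ρ :=
    ⟨hπ.comp ψ.symm.injective, (QuotientGroup.mk'_surjective _).comp ψ.symm.surjective⟩
  let E := MulEquiv.ofBijective ρ hρ
  refine ⟨fun i => E (x i), fun i => ⟨by rw [← map_mul, (hx i).1, map_one], fun h => (hx i).2 ?_⟩,
    fun i j h => hconj i j ?_⟩
  · exact E.injective (h.trans (map_one E).symm)
  · have := MonoidHom.map_isConj E.symm.toMonoidHom h
    simpa using this

end Cfsg.Agent.SymplecticNotOrth
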