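import Mathlib
import Cfsg.Prelude.Def_Classical
import Cfsg.Agent.Lib.OrthUnitaryStd
import Cfsg.Agent.Lib.OrthTypeCount73
import Cfsg.Agent.Lib.OrthSemisimpleSpinor
import Cfsg.Agent.Lib.SymplecticAlt
import Cfsg.Agent.Lib.SymplecticDecomp
import Cfsg.Agent.Lib.SymplecticNotOrth
import Cfsg.Agent.Lib.SpectrumPSp61

/-!
An isometry without fixed vectors of its square turns an alternating form into a quadratic form
and conversely, compatibly with its centraliser. This compares centralisers of semisimple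
elements of odd order in symplectic and odd dimensional orthogonal groups.
-/

set_option autoImplicit false
set_option linter.unusedSectionVars false

namespace Cfsg.Agent.SympOrthGraph73

open QuadraticMap
open scoped Matrix
open Cfsg Cfsg.Agent.OrthUnitaryQuad Cfsg.Agent.OrthUnitaryRefl Cfsg.Agent.OrthUnitaryOmega

variable {F : Type*} [Field F]
variable {V : Type*} [AddCommGroup V] [Module F V]

/-! ### Products -/

section Product

variable {A B C : Type*} [AddCommGroup A] [Module F A] [AddCommGroup B] [Module F B]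
  [AddCommGroup C] [Module F C] (e : (A × B) ≃ₗ[F] C)

/-- Block diagonal equivalences. -/
def prodHom : (A ≃ₗ[F] A) × (B ≃ₗ[F] B) →* (C ≃ₗ[F] C) where
  toFun p := e.symm.trans ((p.1.prodCongr p.2).trans e)
  map_one' := by ext c; simp
  map_mul' p q := by ext c; simp

theorem prodHom_apply (p : (A ≃ₗ[F] A) × (B ≃ₗ[F] B)) (a : A) (b : B) :
    prodHom e p (e (a, b)) = e (p.1 a, p.2 b) := by
  simp [prodHom]

theorem prodHom_injective : Function.Injective (prodHom e) := by
  intro p q h
  refine Prod.ext (LinearEquiv.ext fun a => ?_) (LinearEquiv.ext fun b => ?_)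
  · have := DFunLike.congr_fun h (e (a, 0))
    rw [prodHom_apply, prodHom_apply] at this
    exact congrArg Prod.fst (e.injective this)
  · have := DFunLike.congr_fun h (e (0, b))
    rw [prodHom_apply, prodHom_apply] at this
    exact congrArg Prod.snd (e.injective this)

theorem det_prodHom [FiniteDimensional F A] [FiniteDimensional F B]
    (p : (A ≃ₗ[F] A) × (B ≃ₗ[F] B)) :
    LinearEquiv.det (prodHom e p) = LinearEquiv.det p.1 * LinearEquiv.det p.2 := by
  apply Units.ext
  rw [Units.val_mul, LinearEquiv.coe_det, LinearEquiv.coe_det, LinearEquiv.coe_det]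
  show LinearMap.det (e.toLinearMap ∘ₗ (p.1.toLinearMap.prodMap p.2.toLinearMap) ∘ₗ
    e.symm.toLinearMap) = _
  rw [LinearMap.det_conj, LinearMap.det_prodMap]

end Product

theorem eq_one_of_det [FiniteDimensional F V] (hd : Module.finrank F V = 1) (g : V ≃ₗ[F] V)
    (hg : LinearEquiv.det g = 1) : g = 1 := by
  obtain ⟨v, hv, hspan⟩ := finrank_eq_one_iff'.1 hd
  obtain ⟨c, hc⟩ := hspan (g v)
  have hf : g.toLinearMap = c • LinearMap.id := by
    refine LinearMap.ext fun w => ?_
    obtain ⟨a, rfl⟩ := hspan w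
    simp [← hc, smul_smul, mul_comm]
  have hdet : LinearMap.det g.toLinearMap = 1 := by
    rw [← LinearEquiv.coe_det, hg, Units.val_one]
  rw [hf, LinearMap.det_smul, LinearMap.det_id, hd, pow_one, mul_one] at hdet
  refine LinearEquiv.ext fun w => ?_
  have := LinearMap.congr_fun hf w
  rw [hdet, one_smul] at this
  exact this

/-! ### Symplectic spaces -/

/-- Nondegenerate alternating form. -/
def IsSymp (ω : V →ₗ[F] V →ₗ[F] F) : Prop :=
  (∀ v, ω v v = 0) ∧ ∀ u, (∀ v, ω u v = 0) → u = 0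

theorem IsSymp.swap {ω : V →ₗ[F] V →ₗ[F] F} (h : IsSymp ω) (u v : V) : ω v u = -ω u v := by
  have h2 := h.1 (u + v)
  simp only [map_add, LinearMap.add_apply, h.1] at h2
  linear_combination h2

/-- The isometry group of a bilinear form. -/
def spG (ω : V →ₗ[F] V →ₗ[F] F) : Subgroup (V ≃ₗ[F] V) where
  carrier := {g | ∀ u v, ω (g u) (g v) = ω u v}
  one_mem' := fun _ _ => rfl
  mul_mem' {a b} ha hb := fun u v => (ha (b u) (b v)).trans (hb u v)
  inv_mem' {a} ha := fun u v => by
    have h := ha (a.symm u) (a.symm v)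
    rw [LinearEquiv.apply_symm_apply, LinearEquiv.apply_symm_apply] at h
    exact h.symm

/-- Minus the identity. -/
def negS (ω : V →ₗ[F] V →ₗ[F] F) : spG ω := ⟨LinearEquiv.neg F, fun u v => by simp⟩

theorem negS_sq (ω : V →ₗ[F] V →ₗ[F] F) : negS ω * negS ω = 1 :=
  Subtype.ext (LinearEquiv.ext fun x => neg_neg x)

theorem negS_ne_one [Nontrivial V] (h2 : (2 : F) ≠ 0) (ω : V →ₗ[F] V →ₗ[F] F) : negS ω ≠ 1 := by
  intro h
  obtain ⟨v, hv⟩ := exists_ne (0 : V)
  have h' : -v = v := DFunLike.congr_fun (congrArg Subtype.val h) v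
  have : (2 : F) • v = 0 := by rw [two_smul]; nth_rw 1 [← h']; exact neg_add_cancel v
  exact hv ((smul_eq_zero.1 this).resolve_left h2)

/-- The standard alternating form. -/
def stdForm (F : Type*) [Field F] (m : ℕ) :
    (Fin m ⊕ Fin m → F) →ₗ[F] (Fin m ⊕ Fin m → F) →ₗ[F] F :=
  LinearMap.mk₂ F (sympForm m F) SymplecticBasic.form_add_left SymplecticBasic.form_smul_left
    SymplecticBasic.form_add_right SymplecticBasic.form_smul_right

@[simp] theorem stdForm_apply (m : ℕ) (u v : Fin m ⊕ Fin m → F) :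
    stdForm F m u v = sympForm m F u v := rfl

theorem isSymp_std (m : ℕ) : IsSymp (stdForm F m) :=
  ⟨SymplecticBasic.form_self, fun _ h => SymplecticBasic.form_nondeg h⟩

theorem exists_dim [FiniteDimensional F V] {ω : V →ₗ[F] V →ₗ[F] F} (hω : IsSymp ω) :
    ∃ k, Module.finrank F V = 2 * k := by
  obtain ⟨k, hk, -⟩ := SymplecticAlt.exists_symp_basis ω hω.1 _ ⊤ rfl
    (fun u _ h => hω.2 u fun v => h v Submodule.mem_top)
  exact ⟨k, by rw [← hk, finrank_top]⟩

theorem exists_symp_iso [FiniteDimensional F V] {ω : V →ₗ[F] V →ₗ[F] F} (hω : IsSymp ω) {m : ℕ}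
    (hd : Module.finrank F V = 2 * m) :
    ∃ e : V ≃ₗ[F] (Fin m ⊕ Fin m → F), ∀ u v, sympForm m F (e u) (e v) = ω u v := by
  obtain ⟨k, hk, e0, -, hf⟩ := SymplecticAlt.exists_symp_basis ω hω.1 _ ⊤ rfl
    (fun u _ h => hω.2 u fun v => h v Submodule.mem_top)
  rw [finrank_top, hd] at hk
  obtain rfl : k = m := by omega
  let L := Fintype.linearCombination F e0
  have hL : ω.compl₁₂ L L = stdForm F k := by
    refine LinearMap.ext_basis (Pi.basisFun F _) (Pi.basisFun F _) fun s t => ?_
    simp [L, Fintype.linearCombination_apply_single, hf]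
  have hL' : ∀ x y, ω (L x) (L y) = sympForm k F x y := fun x y =>
    DFunLike.congr_fun (DFunLike.congr_fun hL x) y
  have hinj : Function.Injective L := by
    rw [← LinearMap.ker_eq_bot, Submodule.eq_bot_iff]
    intro x hx
    refine SymplecticBasic.form_nondeg fun y => ?_
    rw [← hL', LinearMap.mem_ker.1 hx, map_zero, LinearMap.zero_apply]
  have hsurj : Function.Surjective L :=
    (LinearMap.injective_iff_surjective_of_finrank_eq_finrank (by
      rw [hd, Module.finrank_fintype_fun_eq_card, Fintype.card_sum, Fintype.card_fin, two_mul])).1 hinj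
  refine ⟨(LinearEquiv.ofBijective L ⟨hinj, hsurj⟩).symm, fun u v => ?_⟩
  rw [← hL']
  congr 1
  · exact congrArg ω ((LinearEquiv.ofBijective L ⟨hinj, hsurj⟩).apply_symm_apply u)
  · exact (LinearEquiv.ofBijective L ⟨hinj, hsurj⟩).apply_symm_apply v

/-- Linear isometries of the standard form as symplectic matrices. -/
noncomputable def spHom (m : ℕ) : spG (stdForm F m) →* Matrix.symplecticGroup (Fin m) F where
  toFun g := ⟨LinearMap.toMatrix' g.1.toLinearMap, SymplecticBasic.mem_sp_iff_form.2 fun u v => by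
    simp only [LinearMap.toMatrix'_mulVec]
    exact g.2 u v⟩
  map_one' := Subtype.ext LinearMap.toMatrix'_id
  map_mul' a b := Subtype.ext (LinearMap.toMatrix'_comp a.1.toLinearMap b.1.toLinearMap)

theorem spHom_bijective (m : ℕ) : Function.Bijective (spHom (F := F) m) := by
  constructor
  · intro a b h
    refine Subtype.ext (LinearEquiv.toLinearMap_injective ?_)
    exact LinearMap.toMatrix'.injective (congrArg Subtype.val h)
  · intro M
    let e : (Fin m ⊕ Fin m → F) ≃ₗ[F] (Fin m ⊕ Fin m → F) :=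
      LinearEquiv.ofLinearMap (Matrix.toLin' M.1) (Matrix.toLin' (M⁻¹).1)
        (by rw [← Matrix.toLin'_mul, ← Submonoid.coe_mul, mul_inv_cancel]; exact Matrix.toLin'_one)
        (by rw [← Matrix.toLin'_mul, ← Submonoid.coe_mul, inv_mul_cancel]; exact Matrix.toLin'_one)
    refine ⟨⟨e, fun u v => ?_⟩, Subtype.ext (LinearMap.toMatrix'_toLin' M.1)⟩
    show sympForm m F (Matrix.toLin' M.1 u) (Matrix.toLin' M.1 v) = _
    rw [Matrix.toLin'_apply, Matrix.toLin'_apply]
    exact SymplecticBasic.mem_sp_iff_form.1 M.2 u v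

theorem spHom_negS (m : ℕ) :
    ((spHom m (negS (stdForm F m))).1 : Matrix (Fin m ⊕ Fin m) (Fin m ⊕ Fin m) F) = -1 := by
  refine Matrix.ext_iff_mulVec.2 fun v => ?_
  show LinearMap.toMatrix' (LinearEquiv.neg F : (Fin m ⊕ Fin m → F) ≃ₗ[F] _).toLinearMap *ᵥ v = _
  rw [LinearMap.toMatrix'_mulVec, Matrix.neg_mulVec, Matrix.one_mulVec]
  rfl

theorem det_eq_one [FiniteDimensional F V] {ω : V →ₗ[F] V →ₗ[F] F} (hω : IsSymp ω) {g : V ≃ₗ[F] V}
    (hg : g ∈ spG ω) : LinearEquiv.det g = 1 := by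
  obtain ⟨m, hm⟩ := exists_dim hω
  obtain ⟨e, he⟩ := exists_symp_iso hω hm
  have hmem : LinearMap.toMatrix' (e.toLinearMap ∘ₗ g.toLinearMap ∘ₗ e.symm.toLinearMap) ∈
      Matrix.symplecticGroup (Fin m) F := SymplecticBasic.mem_sp_iff_form.2 fun u v => by
    simp only [LinearMap.toMatrix'_mulVec, LinearMap.coe_comp, LinearEquiv.coe_coe,
      Function.comp_apply]
    rw [he, hg, ← he, LinearEquiv.apply_symm_apply, LinearEquiv.apply_symm_apply]
  apply Units.ext
  rw [LinearEquiv.coe_det, Units.val_one]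
  have h := SymplecticGroup.det_eq_one hmem
  rwa [LinearMap.det_toMatrix', LinearMap.det_conj] at h

theorem sp_embed [FiniteDimensional F V] {ω : V →ₗ[F] V →ₗ[F] F} (hω : IsSymp ω) {k l n : ℕ}
    (hd : Module.finrank F V = 2 * k) (hn : k + l = n) :
    ∃ ι : spG ω × spG (stdForm F l) →* spG (stdForm F n),
      Function.Injective ι ∧ ι (negS ω, negS _) = negS _ := by
  let P : (V × (Fin l ⊕ Fin l → F)) →ₗ[F] (V × (Fin l ⊕ Fin l → F)) →ₗ[F] F :=
    ω.compl₁₂ (LinearMap.fst F _ _) (LinearMap.fst F _ _) +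
      (stdForm F l).compl₁₂ (LinearMap.snd F _ _) (LinearMap.snd F _ _)
  have hP : IsSymp P := by
    refine ⟨fun p => by simp [P, hω.1, SymplecticBasic.form_self], fun p h => Prod.ext ?_ ?_⟩
    · exact hω.2 _ fun v => by simpa [P] using h (v, 0)
    · exact (isSymp_std l).2 _ fun v => by simpa [P] using h (0, v)
  obtain ⟨e, he⟩ := exists_symp_iso hP (m := n) (by
    rw [Module.finrank_prod, hd, Module.finrank_fintype_fun_eq_card, Fintype.card_sum,
      Fintype.card_fin]; omega)
  let f := (prodHom e).comp (MonoidHom.prodMap (spG ω).subtype (spG (stdForm F l)).subtype)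
  have hf : ∀ p, f p ∈ spG (stdForm F n) := fun p u v => by
    obtain ⟨⟨a, b⟩, rfl⟩ := e.surjective u
    obtain ⟨⟨c, d⟩, rfl⟩ := e.surjective v
    show sympForm n F (prodHom e (p.1.1, p.2.1) (e (a, b)))
      (prodHom e (p.1.1, p.2.1) (e (c, d))) = sympForm n F _ _
    rw [prodHom_apply, prodHom_apply, he, he]
    show ω (p.1.1 a) (p.1.1 c) + stdForm F l (p.2.1 b) (p.2.1 d) = ω a c + stdForm F l b d
    rw [p.1.2, p.2.2]
  refine ⟨f.codRestrict _ hf, fun p q h => ?_, Subtype.ext (LinearEquiv.ext fun u => ?_)⟩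
  · have := prodHom_injective e (congrArg Subtype.val h)
    exact Prod.ext (Subtype.ext (congrArg Prod.fst this)) (Subtype.ext (congrArg Prod.snd this))
  · obtain ⟨⟨a, b⟩, rfl⟩ := e.surjective u
    show prodHom e _ (e (a, b)) = -e (a, b)
    rw [prodHom_apply, ← map_neg]
    rfl

/-! ### Quadratic spaces -/

theorem qfOdd_nondeg (h2 : (2 : F) ≠ 0) (n : ℕ) :
    (polarBilin (SymplecticNotOrth.qfOdd F n)).Nondegenerate :=
  OrthUnitaryStd.nondegenerate_congr (OrthUnitaryForms.eqOdd (F := F) n)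
    (fun v => by simp [SymplecticNotOrth.qfOdd])
    (OrthUnitaryStd.nondegenerate_withBase (OrthUnitaryStd.nondegenerate_qfSq h2) n)

theorem finrank_odd (n : ℕ) :
    Module.finrank F (Unit ⊕ (Fin n ⊕ Fin n) → F) = 2 * n + 1 := by
  rw [Module.finrank_fintype_fun_eq_card, Fintype.card_sum, Fintype.card_sum, Fintype.card_unit,
    Fintype.card_fin]
  omega

theorem orth_embed [Fintype F] [FiniteDimensional F V] (h2 : (2 : F) ≠ 0) {Q : QuadraticForm F V}
    (hQ : (polarBilin Q).Nondegenerate) {k l n : ℕ} (hd : Module.finrank F V = 2 * k)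
    (hn : k + l = n) :
    ∃ ι : orth Q × orth (SymplecticNotOrth.qfOdd F l) →* orth (SymplecticNotOrth.qfOdd F n),
      Function.Injective ι ∧ ∀ p, detHom _ (ι p) = detHom _ p.1 * detHom _ p.2 := by
  set Q0 := SymplecticNotOrth.qfOdd F l
  set P : QuadraticForm F (V × (Unit ⊕ (Fin l ⊕ Fin l) → F)) := Q.prod Q0
  have hP : (polarBilin P).Nondegenerate := OrthUnitaryStd.nondegenerate_iff_left P fun p h => by
    refine Prod.ext (hQ.1 p.1 fun v => ?_) ((qfOdd_nondeg h2 l).1 p.2 fun v => ?_)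
    · show polar Q p.1 v = 0
      simpa [P] using h (v, 0)
    · show polar Q0 p.2 v = 0
      simpa [P] using h (0, v)
  obtain ⟨c, e, hc, he⟩ := OrthTypeCount73.iso_odd P hP (m := n) (by
    rw [Module.finrank_prod, hd, finrank_odd]; omega)
  let f := (prodHom e).comp (MonoidHom.prodMap (orth Q).subtype (orth Q0).subtype)
  have hf : ∀ p, f p ∈ orth (SymplecticNotOrth.qfOdd F n) := fun p u => by
    obtain ⟨⟨a, b⟩, rfl⟩ := e.surjective u
    show SymplecticNotOrth.qfOdd F n (prodHom e (p.1.1, p.2.1) (e (a, b))) = _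
    rw [prodHom_apply, ← SymplecticNotOrth.qfOdd_apply, ← SymplecticNotOrth.qfOdd_apply, he, he]
    simp [P, map_orth]
  refine ⟨f.codRestrict _ hf, fun p q h => ?_, fun p => det_prodHom e (p.1.1, p.2.1)⟩
  have := prodHom_injective e (congrArg Subtype.val h)
  exact Prod.ext (Subtype.ext (congrArg Prod.fst this)) (Subtype.ext (congrArg Prod.snd this))

/-! ### Exchanging the forms -/

theorem swap_to_orth [FiniteDimensional F V] {ω : V →ₗ[F] V →ₗ[F] F} (hω : IsSymp ω)
    {X : V ≃ₗ[F] V} (hX : X ∈ spG ω) (hfix : ∀ v, X (X v) = v → v = 0) :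
    ∃ Q : QuadraticForm F V, (polarBilin Q).Nondegenerate ∧
      ∀ g ∈ spG ω, (∀ v, g (X v) = X (g v)) → g ∈ orth Q := by
  let B : LinearMap.BilinMap F V F := ω.comp X.toLinearMap
  refine ⟨B.toQuadraticMap, OrthUnitaryStd.nondegenerate_iff_left _ fun u hu => ?_,
    fun g hg hc v => ?_⟩
  · have hsurj : Function.Surjective (X.toLinearMap * X.toLinearMap - 1 : Module.End F V) := by
      refine LinearMap.injective_iff_surjective.1 ?_
      rw [← LinearMap.ker_eq_bot, Submodule.eq_bot_iff]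
      intro v hv
      exact hfix v (sub_eq_zero.1 hv)
    refine hω.2 u fun y => ?_
    obtain ⟨z, rfl⟩ := hsurj y
    have h := hu (X z)
    rw [LinearMap.BilinMap.polar_toQuadraticMap] at h
    change ω (X u) (X z) + ω (X (X z)) u = 0 at h
    rw [hX, hω.swap u (X (X z))] at h
    show ω u (X (X z) - z) = 0
    rw [map_sub]
    linear_combination -h
  · show ω (X (g v)) (g v) = ω (X v) v
    rw [← hc, hg]

theorem swap_to_symp [FiniteDimensional F V] {Q : QuadraticForm F V}
    (hQ : (polarBilin Q).Nondegenerate) {X : V ≃ₗ[F] V} (hX : X ∈ orth Q)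
    (hfix : ∀ v, X (X v) = v → v = 0) :
    ∃ ω : V →ₗ[F] V →ₗ[F] F, IsSymp ω ∧
      ∀ g ∈ orth Q, (∀ v, g (X v) = X (g v)) → g ∈ spG ω := by
  refine ⟨(polarBilin Q).comp X.toLinearMap - (polarBilin Q).compl₂ X.toLinearMap,
    ⟨fun v => ?_, fun u hu => ?_⟩, fun g hg hc u v => ?_⟩
  · show polar Q (X v) v - polar Q v (X v) = 0
    rw [polar_comm, sub_self]
  · have hsurj : Function.Surjective (X.toLinearMap * X.toLinearMap - 1 : Module.End F V) := by
      refine LinearMap.injective_iff_surjective.1 ?_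
      rw [← LinearMap.ker_eq_bot, Submodule.eq_bot_iff]
      intro v hv
      exact hfix v (sub_eq_zero.1 hv)
    refine hQ.1 u fun y => ?_
    obtain ⟨z, rfl⟩ := hsurj y
    have h : polar Q (X u) (X z) - polar Q u (X (X z)) = 0 := hu (X z)
    rw [polar_orth ⟨X, hX⟩ u z] at h
    show polar Q u (X (X z) - z) = 0
    rw [polar_sub_right]
    linear_combination -h
  · show polar Q (X (g u)) (g v) - polar Q (g u) (X (g v)) = polar Q (X u) v - polar Q u (X v)
    rw [← hc, ← hc, polar_orth ⟨g, hg⟩, polar_orth ⟨g, hg⟩]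

end Cfsg.Agent.SympOrthGraph73
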